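import Cfsg.Agent.Lib.Helper4.TC14
import Cfsg.Agent.Lib.Helper4.TCP_HNK
import Cfsg.Agent.Lib.Helper4.TCD_HNKR_D0

namespace Cfsg.Agent.Lib.Helper4.TCD.HNKR

open Cfsg.Agent.Lib.Helper4.TC

set_option maxRecDepth 100000

noncomputable def col0 (i : Nat) : Nat := rdw 11 2047 col0_0 i
noncomputable def col1 (i : Nat) : Nat := rdw 11 2047 col1_0 i
noncomputable def col2 (i : Nat) : Nat := rdw 11 2047 col2_0 i
noncomputable def col3 (i : Nat) : Nat := rdw 11 2047 col3_0 i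
noncomputable def tblF (i x : Nat) : Nat := @Bool.rec (fun _ => Nat) (@Bool.rec (fun _ => Nat) (col0 i) (col1 i) (Nat.ble 1 x)) (@Bool.rec (fun _ => Nat) (col2 i) (col3 i) (Nat.ble 3 x)) (Nat.ble 2 x)

noncomputable def D : Log :=
  { k := 4, inv := PHNK.invR, nR := 0, rBase := fun _ => 0, rLen := fun _ => 0, RR := fun _ => 0,
    M := 0, nB := 0, F := 0, src := fun _ => 0, lt := fun _ => 0, tgt := fun _ => 0, rho := fun _ => 0, rot := fun _ => 0,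
    off := fun _ => 0, len := fun _ => 0, pf := fun _ => 0, pd := fun _ => 0 }

noncomputable def T : Tab :=
  { N := 1786, nameOf := fun _ => 0, tbl := tblF, finF := fun _ _ => 0, finD := fun _ _ => 0, cls := fun _ => 0 }

def rw0 : List Nat := [2, 2, 2, 2, 2, 2]
def rw1 : List Nat := [0, 0, 2, 0, 0, 3]
def rw2 : List Nat := [1, 3, 0, 2, 1, 3, 0, 2, 1, 3, 0, 2]
def rw3 : List Nat := [1, 2, 2, 0, 2, 2, 2, 1, 2, 2, 0, 2, 2, 2, 1, 2, 2, 0, 2, 2, 2]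
def rw4 : List Nat := [0, 2, 0, 2, 0, 2, 0, 2, 0, 2, 0, 2, 0, 2, 0, 2]
def rw5 : List Nat := [0, 2, 0, 2, 2, 2, 0, 2, 0, 2, 2, 2, 0, 2, 0, 2, 2, 2, 0, 2, 0, 2, 2, 2]
def realLit : List (List Nat) := [rw0, rw1, rw2, rw3, rw4, rw5]
noncomputable def actR0 (i : Nat) : Nat := col3 (col3 (col3 (col3 (col3 (col3 (i))))))
theorem actR0_eq (i : Nat) : actR0 i = Tab.act T D rw0 i := rfl
noncomputable def actR1 (i : Nat) : Nat := col1 (col1 (col3 (col1 (col1 (col2 (i))))))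
theorem actR1_eq (i : Nat) : actR1 i = Tab.act T D rw1 i := rfl
noncomputable def actR2 (i : Nat) : Nat := col0 (col2 (col1 (col3 (col0 (col2 (col1 (col3 (col0 (col2 (col1 (col3 (i))))))))))))
theorem actR2_eq (i : Nat) : actR2 i = Tab.act T D rw2 i := rfl
noncomputable def actR3 (i : Nat) : Nat := col0 (col3 (col3 (col1 (col3 (col3 (col3 (col0 (col3 (col3 (col1 (col3 (col3 (col3 (col0 (col3 (col3 (col1 (col3 (col3 (col3 (i)))))))))))))))))))))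
theorem actR3_eq (i : Nat) : actR3 i = Tab.act T D rw3 i := rfl
noncomputable def actR4 (i : Nat) : Nat := col1 (col3 (col1 (col3 (col1 (col3 (col1 (col3 (col1 (col3 (col1 (col3 (col1 (col3 (col1 (col3 (i))))))))))))))))
theorem actR4_eq (i : Nat) : actR4 i = Tab.act T D rw4 i := rfl
noncomputable def actR5 (i : Nat) : Nat := col1 (col3 (col1 (col3 (col3 (col3 (col1 (col3 (col1 (col3 (col3 (col3 (col1 (col3 (col1 (col3 (col3 (col3 (col1 (col3 (col1 (col3 (col3 (col3 (i))))))))))))))))))))))))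
theorem actR5_eq (i : Nat) : actR5 i = Tab.act T D rw5 i := rfl
def kx0 : List Nat := [0, 0, 0, 0]
noncomputable def actW_kx0 (i : Nat) : Nat := col1 (col1 (col1 (col1 (i))))
theorem actW_kx0_eq (i : Nat) : actW_kx0 i = Tab.act T D kx0 i := rfl
def kx1 : List Nat := [0, 0, 2, 0, 0, 3]
noncomputable def actW_kx1 (i : Nat) : Nat := col1 (col1 (col3 (col1 (col1 (col2 (i))))))
theorem actW_kx1_eq (i : Nat) : actW_kx1 i = Tab.act T D kx1 i := rfl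
def kx2 : List Nat := [0, 0, 2, 1, 1, 3]
noncomputable def actW_kx2 (i : Nat) : Nat := col1 (col1 (col3 (col0 (col0 (col2 (i))))))
theorem actW_kx2_eq (i : Nat) : actW_kx2 i = Tab.act T D kx2 i := rfl
def kx3 : List Nat := [2, 2, 2, 2, 2, 2]
noncomputable def actW_kx3 (i : Nat) : Nat := col3 (col3 (col3 (col3 (col3 (col3 (i))))))
theorem actW_kx3_eq (i : Nat) : actW_kx3 i = Tab.act T D kx3 i := rfl
def kx4 : List Nat := [0, 0, 2, 2, 0, 0, 3, 3]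
noncomputable def actW_kx4 (i : Nat) : Nat := col1 (col1 (col3 (col3 (col1 (col1 (col2 (col2 (i))))))))
theorem actW_kx4_eq (i : Nat) : actW_kx4 i = Tab.act T D kx4 i := rfl
def kx5 : List Nat := [0, 0, 2, 2, 1, 1, 3, 3]
noncomputable def actW_kx5 (i : Nat) : Nat := col1 (col1 (col3 (col3 (col0 (col0 (col2 (col2 (i))))))))
theorem actW_kx5_eq (i : Nat) : actW_kx5 i = Tab.act T D kx5 i := rfl
def kx6 : List Nat := [0, 0, 2, 2, 2, 0, 0, 2, 2, 2]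
noncomputable def actW_kx6 (i : Nat) : Nat := col1 (col1 (col3 (col3 (col3 (col1 (col1 (col3 (col3 (col3 (i))))))))))
theorem actW_kx6_eq (i : Nat) : actW_kx6 i = Tab.act T D kx6 i := rfl
def kx7 : List Nat := [0, 0, 3, 3, 3, 0, 0, 3, 3, 3]
noncomputable def actW_kx7 (i : Nat) : Nat := col1 (col1 (col2 (col2 (col2 (col1 (col1 (col2 (col2 (col2 (i))))))))))
theorem actW_kx7_eq (i : Nat) : actW_kx7 i = Tab.act T D kx7 i := rfl
def kx8 : List Nat := [0, 2, 1, 3, 0, 2, 1, 3, 0, 2, 1, 3]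
noncomputable def actW_kx8 (i : Nat) : Nat := col1 (col3 (col0 (col2 (col1 (col3 (col0 (col2 (col1 (col3 (col0 (col2 (i))))))))))))
theorem actW_kx8_eq (i : Nat) : actW_kx8 i = Tab.act T D kx8 i := rfl
def kx9 : List Nat := [0, 0, 0, 0, 2, 2, 2, 0, 0, 0, 0, 2, 2, 2]
noncomputable def actW_kx9 (i : Nat) : Nat := col1 (col1 (col1 (col1 (col3 (col3 (col3 (col1 (col1 (col1 (col1 (col3 (col3 (col3 (i))))))))))))))
theorem actW_kx9_eq (i : Nat) : actW_kx9 i = Tab.act T D kx9 i := rfl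
def kx10 : List Nat := [0, 0, 0, 0, 3, 3, 3, 0, 0, 0, 0, 3, 3, 3]
noncomputable def actW_kx10 (i : Nat) : Nat := col1 (col1 (col1 (col1 (col2 (col2 (col2 (col1 (col1 (col1 (col1 (col2 (col2 (col2 (i))))))))))))))
theorem actW_kx10_eq (i : Nat) : actW_kx10 i = Tab.act T D kx10 i := rfl
def kx11 : List Nat := [0, 0, 2, 0, 0, 2, 2, 0, 0, 2, 0, 0, 2, 2]
noncomputable def actW_kx11 (i : Nat) : Nat := col1 (col1 (col3 (col1 (col1 (col3 (col3 (col1 (col1 (col3 (col1 (col1 (col3 (col3 (i))))))))))))))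
theorem actW_kx11_eq (i : Nat) : actW_kx11 i = Tab.act T D kx11 i := rfl
def kx12 : List Nat := [0, 0, 2, 1, 1, 2, 2, 0, 0, 2, 1, 1, 2, 2]
noncomputable def actW_kx12 (i : Nat) : Nat := col1 (col1 (col3 (col0 (col0 (col3 (col3 (col1 (col1 (col3 (col0 (col0 (col3 (col3 (i))))))))))))))
theorem actW_kx12_eq (i : Nat) : actW_kx12 i = Tab.act T D kx12 i := rfl
def kx13 : List Nat := [0, 0, 2, 2, 1, 1, 2, 0, 0, 2, 2, 1, 1, 2]
noncomputable def actW_kx13 (i : Nat) : Nat := col1 (col1 (col3 (col3 (col0 (col0 (col3 (col1 (col1 (col3 (col3 (col0 (col0 (col3 (i))))))))))))))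
theorem actW_kx13_eq (i : Nat) : actW_kx13 i = Tab.act T D kx13 i := rfl
def kx14 : List Nat := [0, 0, 3, 0, 0, 3, 3, 0, 0, 3, 0, 0, 3, 3]
noncomputable def actW_kx14 (i : Nat) : Nat := col1 (col1 (col2 (col1 (col1 (col2 (col2 (col1 (col1 (col2 (col1 (col1 (col2 (col2 (i))))))))))))))
theorem actW_kx14_eq (i : Nat) : actW_kx14 i = Tab.act T D kx14 i := rfl
def kx15 : List Nat := [0, 0, 0, 0, 2, 0, 0, 3, 0, 0, 0, 0, 2, 0, 0, 3]
noncomputable def actW_kx15 (i : Nat) : Nat := col1 (col1 (col1 (col1 (col3 (col1 (col1 (col2 (col1 (col1 (col1 (col1 (col3 (col1 (col1 (col2 (i))))))))))))))))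
theorem actW_kx15_eq (i : Nat) : actW_kx15 i = Tab.act T D kx15 i := rfl
def kx16 : List Nat := [0, 0, 0, 0, 2, 1, 1, 3, 0, 0, 0, 0, 2, 1, 1, 3]
noncomputable def actW_kx16 (i : Nat) : Nat := col1 (col1 (col1 (col1 (col3 (col0 (col0 (col2 (col1 (col1 (col1 (col1 (col3 (col0 (col0 (col2 (i))))))))))))))))
theorem actW_kx16_eq (i : Nat) : actW_kx16 i = Tab.act T D kx16 i := rfl
def kx17 : List Nat := [0, 0, 0, 0, 3, 0, 0, 2, 0, 0, 0, 0, 3, 0, 0, 2]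
noncomputable def actW_kx17 (i : Nat) : Nat := col1 (col1 (col1 (col1 (col2 (col1 (col1 (col3 (col1 (col1 (col1 (col1 (col2 (col1 (col1 (col3 (i))))))))))))))))
theorem actW_kx17_eq (i : Nat) : actW_kx17 i = Tab.act T D kx17 i := rfl
def kx18 : List Nat := [0, 0, 0, 0, 3, 1, 1, 2, 0, 0, 0, 0, 3, 1, 1, 2]
noncomputable def actW_kx18 (i : Nat) : Nat := col1 (col1 (col1 (col1 (col2 (col0 (col0 (col3 (col1 (col1 (col1 (col1 (col2 (col0 (col0 (col3 (i))))))))))))))))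
theorem actW_kx18_eq (i : Nat) : actW_kx18 i = Tab.act T D kx18 i := rfl
def kx19 : List Nat := [0, 0, 2, 2, 2, 2, 2, 2, 0, 0, 2, 2, 2, 2, 2, 2]
noncomputable def actW_kx19 (i : Nat) : Nat := col1 (col1 (col3 (col3 (col3 (col3 (col3 (col3 (col1 (col1 (col3 (col3 (col3 (col3 (col3 (col3 (i))))))))))))))))
theorem actW_kx19_eq (i : Nat) : actW_kx19 i = Tab.act T D kx19 i := rfl
def kx20 : List Nat := [0, 0, 3, 3, 3, 3, 3, 3, 0, 0, 3, 3, 3, 3, 3, 3]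
noncomputable def actW_kx20 (i : Nat) : Nat := col1 (col1 (col2 (col2 (col2 (col2 (col2 (col2 (col1 (col1 (col2 (col2 (col2 (col2 (col2 (col2 (i))))))))))))))))
theorem actW_kx20_eq (i : Nat) : actW_kx20 i = Tab.act T D kx20 i := rfl
def kx21 : List Nat := [0, 2, 0, 2, 0, 2, 0, 2, 0, 2, 0, 2, 0, 2, 0, 2]
noncomputable def actW_kx21 (i : Nat) : Nat := col1 (col3 (col1 (col3 (col1 (col3 (col1 (col3 (col1 (col3 (col1 (col3 (col1 (col3 (col1 (col3 (i))))))))))))))))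
theorem actW_kx21_eq (i : Nat) : actW_kx21 i = Tab.act T D kx21 i := rfl
def kx22 : List Nat := [0, 2, 0, 2, 0, 2, 1, 2, 0, 2, 0, 2, 0, 2, 1, 2]
noncomputable def actW_kx22 (i : Nat) : Nat := col1 (col3 (col1 (col3 (col1 (col3 (col0 (col3 (col1 (col3 (col1 (col3 (col1 (col3 (col0 (col3 (i))))))))))))))))
theorem actW_kx22_eq (i : Nat) : actW_kx22 i = Tab.act T D kx22 i := rfl
def kx23 : List Nat := [0, 2, 0, 2, 1, 2, 1, 2, 0, 2, 0, 2, 1, 2, 1, 2]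
noncomputable def actW_kx23 (i : Nat) : Nat := col1 (col3 (col1 (col3 (col0 (col3 (col0 (col3 (col1 (col3 (col1 (col3 (col0 (col3 (col0 (col3 (i))))))))))))))))
theorem actW_kx23_eq (i : Nat) : actW_kx23 i = Tab.act T D kx23 i := rfl
def kx24 : List Nat := [0, 2, 1, 2, 0, 2, 1, 2, 0, 2, 1, 2, 0, 2, 1, 2]
noncomputable def actW_kx24 (i : Nat) : Nat := col1 (col3 (col0 (col3 (col1 (col3 (col0 (col3 (col1 (col3 (col0 (col3 (col1 (col3 (col0 (col3 (i))))))))))))))))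
theorem actW_kx24_eq (i : Nat) : actW_kx24 i = Tab.act T D kx24 i := rfl
def kx25 : List Nat := [0, 2, 1, 2, 1, 2, 1, 2, 0, 2, 1, 2, 1, 2, 1, 2]
noncomputable def actW_kx25 (i : Nat) : Nat := col1 (col3 (col0 (col3 (col0 (col3 (col0 (col3 (col1 (col3 (col0 (col3 (col0 (col3 (col0 (col3 (i))))))))))))))))
theorem actW_kx25_eq (i : Nat) : actW_kx25 i = Tab.act T D kx25 i := rfl
def kx26 : List Nat := [0, 3, 0, 3, 0, 3, 0, 3, 0, 3, 0, 3, 0, 3, 0, 3]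
noncomputable def actW_kx26 (i : Nat) : Nat := col1 (col2 (col1 (col2 (col1 (col2 (col1 (col2 (col1 (col2 (col1 (col2 (col1 (col2 (col1 (col2 (i))))))))))))))))
theorem actW_kx26_eq (i : Nat) : actW_kx26 i = Tab.act T D kx26 i := rfl
def kx27 : List Nat := [0, 0, 0, 0, 2, 2, 0, 0, 0, 0, 2, 2, 0, 0, 0, 0, 2, 2]
noncomputable def actW_kx27 (i : Nat) : Nat := col1 (col1 (col1 (col1 (col3 (col3 (col1 (col1 (col1 (col1 (col3 (col3 (col1 (col1 (col1 (col1 (col3 (col3 (i))))))))))))))))))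
theorem actW_kx27_eq (i : Nat) : actW_kx27 i = Tab.act T D kx27 i := rfl
def kx28 : List Nat := [0, 0, 0, 0, 3, 3, 0, 0, 0, 0, 3, 3, 0, 0, 0, 0, 3, 3]
noncomputable def actW_kx28 (i : Nat) : Nat := col1 (col1 (col1 (col1 (col2 (col2 (col1 (col1 (col1 (col1 (col2 (col2 (col1 (col1 (col1 (col1 (col2 (col2 (i))))))))))))))))))
theorem actW_kx28_eq (i : Nat) : actW_kx28 i = Tab.act T D kx28 i := rfl
def kx29 : List Nat := [0, 0, 0, 2, 0, 3, 0, 0, 0, 2, 0, 3, 0, 0, 0, 2, 0, 3]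
noncomputable def actW_kx29 (i : Nat) : Nat := col1 (col1 (col1 (col3 (col1 (col2 (col1 (col1 (col1 (col3 (col1 (col2 (col1 (col1 (col1 (col3 (col1 (col2 (i))))))))))))))))))
theorem actW_kx29_eq (i : Nat) : actW_kx29 i = Tab.act T D kx29 i := rfl
def kx30 : List Nat := [0, 0, 0, 3, 0, 2, 0, 0, 0, 3, 0, 2, 0, 0, 0, 3, 0, 2]
noncomputable def actW_kx30 (i : Nat) : Nat := col1 (col1 (col1 (col2 (col1 (col3 (col1 (col1 (col1 (col2 (col1 (col3 (col1 (col1 (col1 (col2 (col1 (col3 (i))))))))))))))))))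
theorem actW_kx30_eq (i : Nat) : actW_kx30 i = Tab.act T D kx30 i := rfl
def kx31 : List Nat := [0, 0, 2, 0, 0, 2, 0, 0, 2, 0, 0, 2, 0, 0, 2, 0, 0, 2]
noncomputable def actW_kx31 (i : Nat) : Nat := col1 (col1 (col3 (col1 (col1 (col3 (col1 (col1 (col3 (col1 (col1 (col3 (col1 (col1 (col3 (col1 (col1 (col3 (i))))))))))))))))))
theorem actW_kx31_eq (i : Nat) : actW_kx31 i = Tab.act T D kx31 i := rfl
def kx32 : List Nat := [0, 0, 2, 1, 1, 2, 0, 0, 2, 1, 1, 2, 0, 0, 2, 1, 1, 2]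
noncomputable def actW_kx32 (i : Nat) : Nat := col1 (col1 (col3 (col0 (col0 (col3 (col1 (col1 (col3 (col0 (col0 (col3 (col1 (col1 (col3 (col0 (col0 (col3 (i))))))))))))))))))
theorem actW_kx32_eq (i : Nat) : actW_kx32 i = Tab.act T D kx32 i := rfl
def kx33 : List Nat := [0, 0, 3, 0, 0, 3, 0, 0, 3, 0, 0, 3, 0, 0, 3, 0, 0, 3]
noncomputable def actW_kx33 (i : Nat) : Nat := col1 (col1 (col2 (col1 (col1 (col2 (col1 (col1 (col2 (col1 (col1 (col2 (col1 (col1 (col2 (col1 (col1 (col2 (i))))))))))))))))))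
theorem actW_kx33_eq (i : Nat) : actW_kx33 i = Tab.act T D kx33 i := rfl
def kx34 : List Nat := [0, 0, 2, 0, 3, 0, 0, 2, 0, 3, 0, 0, 2, 0, 3, 0, 0, 2, 0, 3]
noncomputable def actW_kx34 (i : Nat) : Nat := col1 (col1 (col3 (col1 (col2 (col1 (col1 (col3 (col1 (col2 (col1 (col1 (col3 (col1 (col2 (col1 (col1 (col3 (col1 (col2 (i))))))))))))))))))))
theorem actW_kx34_eq (i : Nat) : actW_kx34 i = Tab.act T D kx34 i := rfl
def kx35 : List Nat := [0, 0, 2, 1, 3, 0, 0, 2, 1, 3, 0, 0, 2, 1, 3, 0, 0, 2, 1, 3]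
noncomputable def actW_kx35 (i : Nat) : Nat := col1 (col1 (col3 (col0 (col2 (col1 (col1 (col3 (col0 (col2 (col1 (col1 (col3 (col0 (col2 (col1 (col1 (col3 (col0 (col2 (i))))))))))))))))))))
theorem actW_kx35_eq (i : Nat) : actW_kx35 i = Tab.act T D kx35 i := rfl
def kx36 : List Nat := [0, 0, 3, 0, 2, 0, 0, 3, 0, 2, 0, 0, 3, 0, 2, 0, 0, 3, 0, 2]
noncomputable def actW_kx36 (i : Nat) : Nat := col1 (col1 (col2 (col1 (col3 (col1 (col1 (col2 (col1 (col3 (col1 (col1 (col2 (col1 (col3 (col1 (col1 (col2 (col1 (col3 (i))))))))))))))))))))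
theorem actW_kx36_eq (i : Nat) : actW_kx36 i = Tab.act T D kx36 i := rfl
def kx37 : List Nat := [0, 0, 3, 1, 2, 0, 0, 3, 1, 2, 0, 0, 3, 1, 2, 0, 0, 3, 1, 2]
noncomputable def actW_kx37 (i : Nat) : Nat := col1 (col1 (col2 (col0 (col3 (col1 (col1 (col2 (col0 (col3 (col1 (col1 (col2 (col0 (col3 (col1 (col1 (col2 (col0 (col3 (i))))))))))))))))))))
theorem actW_kx37_eq (i : Nat) : actW_kx37 i = Tab.act T D kx37 i := rfl
def kx38 : List Nat := [0, 2, 2, 1, 2, 2, 2, 0, 2, 2, 1, 2, 2, 2, 0, 2, 2, 1, 2, 2, 2]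
noncomputable def actW_kx38 (i : Nat) : Nat := col1 (col3 (col3 (col0 (col3 (col3 (col3 (col1 (col3 (col3 (col0 (col3 (col3 (col3 (col1 (col3 (col3 (col0 (col3 (col3 (col3 (i)))))))))))))))))))))
theorem actW_kx38_eq (i : Nat) : actW_kx38 i = Tab.act T D kx38 i := rfl
def kx39 : List Nat := [0, 2, 2, 1, 3, 3, 3, 0, 2, 2, 1, 3, 3, 3, 0, 2, 2, 1, 3, 3, 3]
noncomputable def actW_kx39 (i : Nat) : Nat := col1 (col3 (col3 (col0 (col2 (col2 (col2 (col1 (col3 (col3 (col0 (col2 (col2 (col2 (col1 (col3 (col3 (col0 (col2 (col2 (col2 (i)))))))))))))))))))))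
theorem actW_kx39_eq (i : Nat) : actW_kx39 i = Tab.act T D kx39 i := rfl
def kx40 : List Nat := [0, 2, 2, 2, 1, 2, 2, 0, 2, 2, 2, 1, 2, 2, 0, 2, 2, 2, 1, 2, 2]
noncomputable def actW_kx40 (i : Nat) : Nat := col1 (col3 (col3 (col3 (col0 (col3 (col3 (col1 (col3 (col3 (col3 (col0 (col3 (col3 (col1 (col3 (col3 (col3 (col0 (col3 (col3 (i)))))))))))))))))))))
theorem actW_kx40_eq (i : Nat) : actW_kx40 i = Tab.act T D kx40 i := rfl
def kx41 : List Nat := [0, 2, 2, 2, 1, 3, 3, 0, 2, 2, 2, 1, 3, 3, 0, 2, 2, 2, 1, 3, 3]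
noncomputable def actW_kx41 (i : Nat) : Nat := col1 (col3 (col3 (col3 (col0 (col2 (col2 (col1 (col3 (col3 (col3 (col0 (col2 (col2 (col1 (col3 (col3 (col3 (col0 (col2 (col2 (i)))))))))))))))))))))
theorem actW_kx41_eq (i : Nat) : actW_kx41 i = Tab.act T D kx41 i := rfl
def kx42 : List Nat := [0, 0, 0, 0, 0, 2, 1, 3, 0, 0, 0, 0, 0, 2, 1, 3, 0, 0, 0, 0, 0, 2, 1, 3]
noncomputable def actW_kx42 (i : Nat) : Nat := col1 (col1 (col1 (col1 (col1 (col3 (col0 (col2 (col1 (col1 (col1 (col1 (col1 (col3 (col0 (col2 (col1 (col1 (col1 (col1 (col1 (col3 (col0 (col2 (i))))))))))))))))))))))))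
theorem actW_kx42_eq (i : Nat) : actW_kx42 i = Tab.act T D kx42 i := rfl
def kx43 : List Nat := [0, 0, 0, 0, 0, 3, 1, 2, 0, 0, 0, 0, 0, 3, 1, 2, 0, 0, 0, 0, 0, 3, 1, 2]
noncomputable def actW_kx43 (i : Nat) : Nat := col1 (col1 (col1 (col1 (col1 (col2 (col0 (col3 (col1 (col1 (col1 (col1 (col1 (col2 (col0 (col3 (col1 (col1 (col1 (col1 (col1 (col2 (col0 (col3 (i))))))))))))))))))))))))
theorem actW_kx43_eq (i : Nat) : actW_kx43 i = Tab.act T D kx43 i := rfl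
def kx44 : List Nat := [0, 0, 0, 0, 2, 2, 2, 2, 0, 0, 0, 0, 2, 2, 2, 2, 0, 0, 0, 0, 2, 2, 2, 2]
noncomputable def actW_kx44 (i : Nat) : Nat := col1 (col1 (col1 (col1 (col3 (col3 (col3 (col3 (col1 (col1 (col1 (col1 (col3 (col3 (col3 (col3 (col1 (col1 (col1 (col1 (col3 (col3 (col3 (col3 (i))))))))))))))))))))))))
theorem actW_kx44_eq (i : Nat) : actW_kx44 i = Tab.act T D kx44 i := rfl
def kx45 : List Nat := [0, 0, 0, 0, 3, 3, 3, 3, 0, 0, 0, 0, 3, 3, 3, 3, 0, 0, 0, 0, 3, 3, 3, 3]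
noncomputable def actW_kx45 (i : Nat) : Nat := col1 (col1 (col1 (col1 (col2 (col2 (col2 (col2 (col1 (col1 (col1 (col1 (col2 (col2 (col2 (col2 (col1 (col1 (col1 (col1 (col2 (col2 (col2 (col2 (i))))))))))))))))))))))))
theorem actW_kx45_eq (i : Nat) : actW_kx45 i = Tab.act T D kx45 i := rfl
def kx46 : List Nat := [0, 0, 0, 2, 0, 2, 0, 0, 0, 2, 0, 2, 0, 0, 0, 2, 0, 2, 0, 0, 0, 2, 0, 2]
noncomputable def actW_kx46 (i : Nat) : Nat := col1 (col1 (col1 (col3 (col1 (col3 (col1 (col1 (col1 (col3 (col1 (col3 (col1 (col1 (col1 (col3 (col1 (col3 (col1 (col1 (col1 (col3 (col1 (col3 (i))))))))))))))))))))))))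
theorem actW_kx46_eq (i : Nat) : actW_kx46 i = Tab.act T D kx46 i := rfl
def kx47 : List Nat := [0, 0, 0, 2, 1, 1, 1, 3, 0, 0, 0, 2, 1, 1, 1, 3, 0, 0, 0, 2, 1, 1, 1, 3]
noncomputable def actW_kx47 (i : Nat) : Nat := col1 (col1 (col1 (col3 (col0 (col0 (col0 (col2 (col1 (col1 (col1 (col3 (col0 (col0 (col0 (col2 (col1 (col1 (col1 (col3 (col0 (col0 (col0 (col2 (i))))))))))))))))))))))))
theorem actW_kx47_eq (i : Nat) : actW_kx47 i = Tab.act T D kx47 i := rfl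
def kx48 : List Nat := [0, 0, 0, 2, 1, 2, 0, 0, 0, 2, 1, 2, 0, 0, 0, 2, 1, 2, 0, 0, 0, 2, 1, 2]
noncomputable def actW_kx48 (i : Nat) : Nat := col1 (col1 (col1 (col3 (col0 (col3 (col1 (col1 (col1 (col3 (col0 (col3 (col1 (col1 (col1 (col3 (col0 (col3 (col1 (col1 (col1 (col3 (col0 (col3 (i))))))))))))))))))))))))
theorem actW_kx48_eq (i : Nat) : actW_kx48 i = Tab.act T D kx48 i := rfl
def kx49 : List Nat := [0, 0, 0, 3, 0, 3, 0, 0, 0, 3, 0, 3, 0, 0, 0, 3, 0, 3, 0, 0, 0, 3, 0, 3]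
noncomputable def actW_kx49 (i : Nat) : Nat := col1 (col1 (col1 (col2 (col1 (col2 (col1 (col1 (col1 (col2 (col1 (col2 (col1 (col1 (col1 (col2 (col1 (col2 (col1 (col1 (col1 (col2 (col1 (col2 (i))))))))))))))))))))))))
theorem actW_kx49_eq (i : Nat) : actW_kx49 i = Tab.act T D kx49 i := rfl
def kx50 : List Nat := [0, 0, 0, 3, 1, 3, 0, 0, 0, 3, 1, 3, 0, 0, 0, 3, 1, 3, 0, 0, 0, 3, 1, 3]
noncomputable def actW_kx50 (i : Nat) : Nat := col1 (col1 (col1 (col2 (col0 (col2 (col1 (col1 (col1 (col2 (col0 (col2 (col1 (col1 (col1 (col2 (col0 (col2 (col1 (col1 (col1 (col2 (col0 (col2 (i))))))))))))))))))))))))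
theorem actW_kx50_eq (i : Nat) : actW_kx50 i = Tab.act T D kx50 i := rfl
def kx51 : List Nat := [0, 0, 2, 0, 0, 2, 2, 2, 0, 0, 2, 0, 0, 2, 2, 2, 0, 0, 2, 0, 0, 2, 2, 2]
noncomputable def actW_kx51 (i : Nat) : Nat := col1 (col1 (col3 (col1 (col1 (col3 (col3 (col3 (col1 (col1 (col3 (col1 (col1 (col3 (col3 (col3 (col1 (col1 (col3 (col1 (col1 (col3 (col3 (col3 (i))))))))))))))))))))))))
theorem actW_kx51_eq (i : Nat) : actW_kx51 i = Tab.act T D kx51 i := rfl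
def kx52 : List Nat := [0, 0, 2, 0, 0, 3, 3, 3, 0, 0, 2, 0, 0, 3, 3, 3, 0, 0, 2, 0, 0, 3, 3, 3]
noncomputable def actW_kx52 (i : Nat) : Nat := col1 (col1 (col3 (col1 (col1 (col2 (col2 (col2 (col1 (col1 (col3 (col1 (col1 (col2 (col2 (col2 (col1 (col1 (col3 (col1 (col1 (col2 (col2 (col2 (i))))))))))))))))))))))))
theorem actW_kx52_eq (i : Nat) : actW_kx52 i = Tab.act T D kx52 i := rfl
def kx53 : List Nat := [0, 0, 2, 0, 2, 0, 3, 3, 0, 0, 2, 0, 2, 0, 3, 3, 0, 0, 2, 0, 2, 0, 3, 3]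
noncomputable def actW_kx53 (i : Nat) : Nat := col1 (col1 (col3 (col1 (col3 (col1 (col2 (col2 (col1 (col1 (col3 (col1 (col3 (col1 (col2 (col2 (col1 (col1 (col3 (col1 (col3 (col1 (col2 (col2 (i))))))))))))))))))))))))
theorem actW_kx53_eq (i : Nat) : actW_kx53 i = Tab.act T D kx53 i := rfl
def kx54 : List Nat := [0, 0, 2, 0, 2, 2, 0, 3, 0, 0, 2, 0, 2, 2, 0, 3, 0, 0, 2, 0, 2, 2, 0, 3]
noncomputable def actW_kx54 (i : Nat) : Nat := col1 (col1 (col3 (col1 (col3 (col3 (col1 (col2 (col1 (col1 (col3 (col1 (col3 (col3 (col1 (col2 (col1 (col1 (col3 (col1 (col3 (col3 (col1 (col2 (i))))))))))))))))))))))))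
theorem actW_kx54_eq (i : Nat) : actW_kx54 i = Tab.act T D kx54 i := rfl
def kx55 : List Nat := [0, 0, 2, 0, 3, 3, 0, 3, 0, 0, 2, 0, 3, 3, 0, 3, 0, 0, 2, 0, 3, 3, 0, 3]
noncomputable def actW_kx55 (i : Nat) : Nat := col1 (col1 (col3 (col1 (col2 (col2 (col1 (col2 (col1 (col1 (col3 (col1 (col2 (col2 (col1 (col2 (col1 (col1 (col3 (col1 (col2 (col2 (col1 (col2 (i))))))))))))))))))))))))
theorem actW_kx55_eq (i : Nat) : actW_kx55 i = Tab.act T D kx55 i := rfl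
def kx56 : List Nat := [0, 0, 2, 1, 1, 2, 2, 2, 0, 0, 2, 1, 1, 2, 2, 2, 0, 0, 2, 1, 1, 2, 2, 2]
noncomputable def actW_kx56 (i : Nat) : Nat := col1 (col1 (col3 (col0 (col0 (col3 (col3 (col3 (col1 (col1 (col3 (col0 (col0 (col3 (col3 (col3 (col1 (col1 (col3 (col0 (col0 (col3 (col3 (col3 (i))))))))))))))))))))))))
theorem actW_kx56_eq (i : Nat) : actW_kx56 i = Tab.act T D kx56 i := rfl
def kx57 : List Nat := [0, 0, 2, 1, 1, 3, 3, 3, 0, 0, 2, 1, 1, 3, 3, 3, 0, 0, 2, 1, 1, 3, 3, 3]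
noncomputable def actW_kx57 (i : Nat) : Nat := col1 (col1 (col3 (col0 (col0 (col2 (col2 (col2 (col1 (col1 (col3 (col0 (col0 (col2 (col2 (col2 (col1 (col1 (col3 (col0 (col0 (col2 (col2 (col2 (i))))))))))))))))))))))))
theorem actW_kx57_eq (i : Nat) : actW_kx57 i = Tab.act T D kx57 i := rfl
def kx58 : List Nat := [0, 0, 2, 1, 2, 1, 3, 3, 0, 0, 2, 1, 2, 1, 3, 3, 0, 0, 2, 1, 2, 1, 3, 3]
noncomputable def actW_kx58 (i : Nat) : Nat := col1 (col1 (col3 (col0 (col3 (col0 (col2 (col2 (col1 (col1 (col3 (col0 (col3 (col0 (col2 (col2 (col1 (col1 (col3 (col0 (col3 (col0 (col2 (col2 (i))))))))))))))))))))))))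
theorem actW_kx58_eq (i : Nat) : actW_kx58 i = Tab.act T D kx58 i := rfl
def kx59 : List Nat := [0, 0, 2, 1, 2, 2, 1, 3, 0, 0, 2, 1, 2, 2, 1, 3, 0, 0, 2, 1, 2, 2, 1, 3]
noncomputable def actW_kx59 (i : Nat) : Nat := col1 (col1 (col3 (col0 (col3 (col3 (col0 (col2 (col1 (col1 (col3 (col0 (col3 (col3 (col0 (col2 (col1 (col1 (col3 (col0 (col3 (col3 (col0 (col2 (i))))))))))))))))))))))))
theorem actW_kx59_eq (i : Nat) : actW_kx59 i = Tab.act T D kx59 i := rfl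
def kx60 : List Nat := [0, 0, 2, 1, 3, 3, 1, 3, 0, 0, 2, 1, 3, 3, 1, 3, 0, 0, 2, 1, 3, 3, 1, 3]
noncomputable def actW_kx60 (i : Nat) : Nat := col1 (col1 (col3 (col0 (col2 (col2 (col0 (col2 (col1 (col1 (col3 (col0 (col2 (col2 (col0 (col2 (col1 (col1 (col3 (col0 (col2 (col2 (col0 (col2 (i))))))))))))))))))))))))
theorem actW_kx60_eq (i : Nat) : actW_kx60 i = Tab.act T D kx60 i := rfl
def kx61 : List Nat := [0, 0, 2, 2, 0, 0, 2, 2, 0, 0, 2, 2, 0, 0, 2, 2, 0, 0, 2, 2, 0, 0, 2, 2]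
noncomputable def actW_kx61 (i : Nat) : Nat := col1 (col1 (col3 (col3 (col1 (col1 (col3 (col3 (col1 (col1 (col3 (col3 (col1 (col1 (col3 (col3 (col1 (col1 (col3 (col3 (col1 (col1 (col3 (col3 (i))))))))))))))))))))))))
theorem actW_kx61_eq (i : Nat) : actW_kx61 i = Tab.act T D kx61 i := rfl
def kx62 : List Nat := [0, 0, 2, 2, 0, 3, 0, 3, 0, 0, 2, 2, 0, 3, 0, 3, 0, 0, 2, 2, 0, 3, 0, 3]
noncomputable def actW_kx62 (i : Nat) : Nat := col1 (col1 (col3 (col3 (col1 (col2 (col1 (col2 (col1 (col1 (col3 (col3 (col1 (col2 (col1 (col2 (col1 (col1 (col3 (col3 (col1 (col2 (col1 (col2 (i))))))))))))))))))))))))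
theorem actW_kx62_eq (i : Nat) : actW_kx62 i = Tab.act T D kx62 i := rfl
def kx63 : List Nat := [0, 0, 2, 2, 1, 1, 2, 2, 0, 0, 2, 2, 1, 1, 2, 2, 0, 0, 2, 2, 1, 1, 2, 2]
noncomputable def actW_kx63 (i : Nat) : Nat := col1 (col1 (col3 (col3 (col0 (col0 (col3 (col3 (col1 (col1 (col3 (col3 (col0 (col0 (col3 (col3 (col1 (col1 (col3 (col3 (col0 (col0 (col3 (col3 (i))))))))))))))))))))))))
theorem actW_kx63_eq (i : Nat) : actW_kx63 i = Tab.act T D kx63 i := rfl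
def kx64 : List Nat := [0, 0, 2, 2, 1, 3, 1, 3, 0, 0, 2, 2, 1, 3, 1, 3, 0, 0, 2, 2, 1, 3, 1, 3]
noncomputable def actW_kx64 (i : Nat) : Nat := col1 (col1 (col3 (col3 (col0 (col2 (col0 (col2 (col1 (col1 (col3 (col3 (col0 (col2 (col0 (col2 (col1 (col1 (col3 (col3 (col0 (col2 (col0 (col2 (i))))))))))))))))))))))))
theorem actW_kx64_eq (i : Nat) : actW_kx64 i = Tab.act T D kx64 i := rfl
def kx65 : List Nat := [0, 0, 2, 2, 2, 0, 0, 3, 0, 0, 2, 2, 2, 0, 0, 3, 0, 0, 2, 2, 2, 0, 0, 3]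
noncomputable def actW_kx65 (i : Nat) : Nat := col1 (col1 (col3 (col3 (col3 (col1 (col1 (col2 (col1 (col1 (col3 (col3 (col3 (col1 (col1 (col2 (col1 (col1 (col3 (col3 (col3 (col1 (col1 (col2 (i))))))))))))))))))))))))
theorem actW_kx65_eq (i : Nat) : actW_kx65 i = Tab.act T D kx65 i := rfl
def kx66 : List Nat := [0, 0, 2, 2, 2, 1, 1, 2, 0, 0, 2, 2, 2, 1, 1, 2, 0, 0, 2, 2, 2, 1, 1, 2]
noncomputable def actW_kx66 (i : Nat) : Nat := col1 (col1 (col3 (col3 (col3 (col0 (col0 (col3 (col1 (col1 (col3 (col3 (col3 (col0 (col0 (col3 (col1 (col1 (col3 (col3 (col3 (col0 (col0 (col3 (i))))))))))))))))))))))))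
theorem actW_kx66_eq (i : Nat) : actW_kx66 i = Tab.act T D kx66 i := rfl
def kx67 : List Nat := [0, 0, 2, 2, 2, 1, 1, 3, 0, 0, 2, 2, 2, 1, 1, 3, 0, 0, 2, 2, 2, 1, 1, 3]
noncomputable def actW_kx67 (i : Nat) : Nat := col1 (col1 (col3 (col3 (col3 (col0 (col0 (col2 (col1 (col1 (col3 (col3 (col3 (col0 (col0 (col2 (col1 (col1 (col3 (col3 (col3 (col0 (col0 (col2 (i))))))))))))))))))))))))
theorem actW_kx67_eq (i : Nat) : actW_kx67 i = Tab.act T D kx67 i := rfl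
def kx68 : List Nat := [0, 0, 3, 0, 0, 3, 3, 3, 0, 0, 3, 0, 0, 3, 3, 3, 0, 0, 3, 0, 0, 3, 3, 3]
noncomputable def actW_kx68 (i : Nat) : Nat := col1 (col1 (col2 (col1 (col1 (col2 (col2 (col2 (col1 (col1 (col2 (col1 (col1 (col2 (col2 (col2 (col1 (col1 (col2 (col1 (col1 (col2 (col2 (col2 (i))))))))))))))))))))))))
theorem actW_kx68_eq (i : Nat) : actW_kx68 i = Tab.act T D kx68 i := rfl
def kx69 : List Nat := [0, 0, 3, 0, 2, 2, 0, 2, 0, 0, 3, 0, 2, 2, 0, 2, 0, 0, 3, 0, 2, 2, 0, 2]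
noncomputable def actW_kx69 (i : Nat) : Nat := col1 (col1 (col2 (col1 (col3 (col3 (col1 (col3 (col1 (col1 (col2 (col1 (col3 (col3 (col1 (col3 (col1 (col1 (col2 (col1 (col3 (col3 (col1 (col3 (i))))))))))))))))))))))))
theorem actW_kx69_eq (i : Nat) : actW_kx69 i = Tab.act T D kx69 i := rfl
def kx70 : List Nat := [0, 0, 3, 0, 3, 0, 2, 2, 0, 0, 3, 0, 3, 0, 2, 2, 0, 0, 3, 0, 3, 0, 2, 2]
noncomputable def actW_kx70 (i : Nat) : Nat := col1 (col1 (col2 (col1 (col2 (col1 (col3 (col3 (col1 (col1 (col2 (col1 (col2 (col1 (col3 (col3 (col1 (col1 (col2 (col1 (col2 (col1 (col3 (col3 (i))))))))))))))))))))))))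
theorem actW_kx70_eq (i : Nat) : actW_kx70 i = Tab.act T D kx70 i := rfl
def kx71 : List Nat := [0, 0, 3, 0, 3, 3, 0, 2, 0, 0, 3, 0, 3, 3, 0, 2, 0, 0, 3, 0, 3, 3, 0, 2]
noncomputable def actW_kx71 (i : Nat) : Nat := col1 (col1 (col2 (col1 (col2 (col2 (col1 (col3 (col1 (col1 (col2 (col1 (col2 (col2 (col1 (col3 (col1 (col1 (col2 (col1 (col2 (col2 (col1 (col3 (i))))))))))))))))))))))))
theorem actW_kx71_eq (i : Nat) : actW_kx71 i = Tab.act T D kx71 i := rfl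
def kx72 : List Nat := [0, 0, 3, 1, 2, 2, 1, 2, 0, 0, 3, 1, 2, 2, 1, 2, 0, 0, 3, 1, 2, 2, 1, 2]
noncomputable def actW_kx72 (i : Nat) : Nat := col1 (col1 (col2 (col0 (col3 (col3 (col0 (col3 (col1 (col1 (col2 (col0 (col3 (col3 (col0 (col3 (col1 (col1 (col2 (col0 (col3 (col3 (col0 (col3 (i))))))))))))))))))))))))
theorem actW_kx72_eq (i : Nat) : actW_kx72 i = Tab.act T D kx72 i := rfl
def kx73 : List Nat := [0, 0, 3, 1, 3, 1, 2, 2, 0, 0, 3, 1, 3, 1, 2, 2, 0, 0, 3, 1, 3, 1, 2, 2]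
noncomputable def actW_kx73 (i : Nat) : Nat := col1 (col1 (col2 (col0 (col2 (col0 (col3 (col3 (col1 (col1 (col2 (col0 (col2 (col0 (col3 (col3 (col1 (col1 (col2 (col0 (col2 (col0 (col3 (col3 (i))))))))))))))))))))))))
theorem actW_kx73_eq (i : Nat) : actW_kx73 i = Tab.act T D kx73 i := rfl
def kx74 : List Nat := [0, 0, 3, 1, 3, 3, 1, 2, 0, 0, 3, 1, 3, 3, 1, 2, 0, 0, 3, 1, 3, 3, 1, 2]
noncomputable def actW_kx74 (i : Nat) : Nat := col1 (col1 (col2 (col0 (col2 (col2 (col0 (col3 (col1 (col1 (col2 (col0 (col2 (col2 (col0 (col3 (col1 (col1 (col2 (col0 (col2 (col2 (col0 (col3 (i))))))))))))))))))))))))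
theorem actW_kx74_eq (i : Nat) : actW_kx74 i = Tab.act T D kx74 i := rfl
def kx75 : List Nat := [0, 0, 3, 3, 0, 0, 3, 3, 0, 0, 3, 3, 0, 0, 3, 3, 0, 0, 3, 3, 0, 0, 3, 3]
noncomputable def actW_kx75 (i : Nat) : Nat := col1 (col1 (col2 (col2 (col1 (col1 (col2 (col2 (col1 (col1 (col2 (col2 (col1 (col1 (col2 (col2 (col1 (col1 (col2 (col2 (col1 (col1 (col2 (col2 (i))))))))))))))))))))))))
theorem actW_kx75_eq (i : Nat) : actW_kx75 i = Tab.act T D kx75 i := rfl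
def kx76 : List Nat := [0, 0, 3, 3, 0, 2, 0, 2, 0, 0, 3, 3, 0, 2, 0, 2, 0, 0, 3, 3, 0, 2, 0, 2]
noncomputable def actW_kx76 (i : Nat) : Nat := col1 (col1 (col2 (col2 (col1 (col3 (col1 (col3 (col1 (col1 (col2 (col2 (col1 (col3 (col1 (col3 (col1 (col1 (col2 (col2 (col1 (col3 (col1 (col3 (i))))))))))))))))))))))))
theorem actW_kx76_eq (i : Nat) : actW_kx76 i = Tab.act T D kx76 i := rfl
def kx77 : List Nat := [0, 0, 3, 3, 1, 2, 1, 2, 0, 0, 3, 3, 1, 2, 1, 2, 0, 0, 3, 3, 1, 2, 1, 2]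
noncomputable def actW_kx77 (i : Nat) : Nat := col1 (col1 (col2 (col2 (col0 (col3 (col0 (col3 (col1 (col1 (col2 (col2 (col0 (col3 (col0 (col3 (col1 (col1 (col2 (col2 (col0 (col3 (col0 (col3 (i))))))))))))))))))))))))
theorem actW_kx77_eq (i : Nat) : actW_kx77 i = Tab.act T D kx77 i := rfl
def kx78 : List Nat := [0, 2, 0, 2, 2, 2, 0, 2, 0, 2, 2, 2, 0, 2, 0, 2, 2, 2, 0, 2, 0, 2, 2, 2]
noncomputable def actW_kx78 (i : Nat) : Nat := col1 (col3 (col1 (col3 (col3 (col3 (col1 (col3 (col1 (col3 (col3 (col3 (col1 (col3 (col1 (col3 (col3 (col3 (col1 (col3 (col1 (col3 (col3 (col3 (i))))))))))))))))))))))))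
theorem actW_kx78_eq (i : Nat) : actW_kx78 i = Tab.act T D kx78 i := rfl
def kx79 : List Nat := [0, 2, 0, 3, 0, 2, 0, 3, 0, 2, 0, 3, 0, 2, 0, 3, 0, 2, 0, 3, 0, 2, 0, 3]
noncomputable def actW_kx79 (i : Nat) : Nat := col1 (col3 (col1 (col2 (col1 (col3 (col1 (col2 (col1 (col3 (col1 (col2 (col1 (col3 (col1 (col2 (col1 (col3 (col1 (col2 (col1 (col3 (col1 (col2 (i))))))))))))))))))))))))
theorem actW_kx79_eq (i : Nat) : actW_kx79 i = Tab.act T D kx79 i := rfl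
def kx80 : List Nat := [0, 2, 0, 3, 1, 2, 1, 3, 0, 2, 0, 3, 1, 2, 1, 3, 0, 2, 0, 3, 1, 2, 1, 3]
noncomputable def actW_kx80 (i : Nat) : Nat := col1 (col3 (col1 (col2 (col0 (col3 (col0 (col2 (col1 (col3 (col1 (col2 (col0 (col3 (col0 (col2 (col1 (col3 (col1 (col2 (col0 (col3 (col0 (col2 (i))))))))))))))))))))))))
theorem actW_kx80_eq (i : Nat) : actW_kx80 i = Tab.act T D kx80 i := rfl
def kx81 : List Nat := [0, 2, 0, 3, 3, 3, 0, 2, 0, 3, 3, 3, 0, 2, 0, 3, 3, 3, 0, 2, 0, 3, 3, 3]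
noncomputable def actW_kx81 (i : Nat) : Nat := col1 (col3 (col1 (col2 (col2 (col2 (col1 (col3 (col1 (col2 (col2 (col2 (col1 (col3 (col1 (col2 (col2 (col2 (col1 (col3 (col1 (col2 (col2 (col2 (i))))))))))))))))))))))))
theorem actW_kx81_eq (i : Nat) : actW_kx81 i = Tab.act T D kx81 i := rfl
def kx82 : List Nat := [0, 2, 1, 2, 2, 2, 0, 2, 1, 2, 2, 2, 0, 2, 1, 2, 2, 2, 0, 2, 1, 2, 2, 2]
noncomputable def actW_kx82 (i : Nat) : Nat := col1 (col3 (col0 (col3 (col3 (col3 (col1 (col3 (col0 (col3 (col3 (col3 (col1 (col3 (col0 (col3 (col3 (col3 (col1 (col3 (col0 (col3 (col3 (col3 (i))))))))))))))))))))))))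
theorem actW_kx82_eq (i : Nat) : actW_kx82 i = Tab.act T D kx82 i := rfl
def kx83 : List Nat := [0, 2, 1, 2, 2, 2, 2, 2, 0, 2, 1, 2, 2, 2, 2, 2, 0, 2, 1, 2, 2, 2, 2, 2]
noncomputable def actW_kx83 (i : Nat) : Nat := col1 (col3 (col0 (col3 (col3 (col3 (col3 (col3 (col1 (col3 (col0 (col3 (col3 (col3 (col3 (col3 (col1 (col3 (col0 (col3 (col3 (col3 (col3 (col3 (i))))))))))))))))))))))))
theorem actW_kx83_eq (i : Nat) : actW_kx83 i = Tab.act T D kx83 i := rfl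
def kx84 : List Nat := [0, 2, 1, 3, 3, 3, 0, 2, 1, 3, 3, 3, 0, 2, 1, 3, 3, 3, 0, 2, 1, 3, 3, 3]
noncomputable def actW_kx84 (i : Nat) : Nat := col1 (col3 (col0 (col2 (col2 (col2 (col1 (col3 (col0 (col2 (col2 (col2 (col1 (col3 (col0 (col2 (col2 (col2 (col1 (col3 (col0 (col2 (col2 (col2 (i))))))))))))))))))))))))
theorem actW_kx84_eq (i : Nat) : actW_kx84 i = Tab.act T D kx84 i := rfl
def kx85 : List Nat := [0, 2, 2, 2, 0, 3, 0, 2, 2, 2, 0, 3, 0, 2, 2, 2, 0, 3, 0, 2, 2, 2, 0, 3]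
noncomputable def actW_kx85 (i : Nat) : Nat := col1 (col3 (col3 (col3 (col1 (col2 (col1 (col3 (col3 (col3 (col1 (col2 (col1 (col3 (col3 (col3 (col1 (col2 (col1 (col3 (col3 (col3 (col1 (col2 (i))))))))))))))))))))))))
theorem actW_kx85_eq (i : Nat) : actW_kx85 i = Tab.act T D kx85 i := rfl
def kx86 : List Nat := [0, 2, 2, 2, 1, 2, 0, 2, 2, 2, 1, 2, 0, 2, 2, 2, 1, 2, 0, 2, 2, 2, 1, 2]
noncomputable def actW_kx86 (i : Nat) : Nat := col1 (col3 (col3 (col3 (col0 (col3 (col1 (col3 (col3 (col3 (col0 (col3 (col1 (col3 (col3 (col3 (col0 (col3 (col1 (col3 (col3 (col3 (col0 (col3 (i))))))))))))))))))))))))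
theorem actW_kx86_eq (i : Nat) : actW_kx86 i = Tab.act T D kx86 i := rfl
def kx87 : List Nat := [0, 2, 2, 2, 1, 3, 0, 2, 2, 2, 1, 3, 0, 2, 2, 2, 1, 3, 0, 2, 2, 2, 1, 3]
noncomputable def actW_kx87 (i : Nat) : Nat := col1 (col3 (col3 (col3 (col0 (col2 (col1 (col3 (col3 (col3 (col0 (col2 (col1 (col3 (col3 (col3 (col0 (col2 (col1 (col3 (col3 (col3 (col0 (col2 (i))))))))))))))))))))))))
theorem actW_kx87_eq (i : Nat) : actW_kx87 i = Tab.act T D kx87 i := rfl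
def kx88 : List Nat := [0, 2, 2, 2, 2, 2, 1, 2, 0, 2, 2, 2, 2, 2, 1, 2, 0, 2, 2, 2, 2, 2, 1, 2]
noncomputable def actW_kx88 (i : Nat) : Nat := col1 (col3 (col3 (col3 (col3 (col3 (col0 (col3 (col1 (col3 (col3 (col3 (col3 (col3 (col0 (col3 (col1 (col3 (col3 (col3 (col3 (col3 (col0 (col3 (i))))))))))))))))))))))))
theorem actW_kx88_eq (i : Nat) : actW_kx88 i = Tab.act T D kx88 i := rfl
def kx89 : List Nat := [0, 3, 0, 3, 3, 3, 0, 3, 0, 3, 3, 3, 0, 3, 0, 3, 3, 3, 0, 3, 0, 3, 3, 3]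
noncomputable def actW_kx89 (i : Nat) : Nat := col1 (col2 (col1 (col2 (col2 (col2 (col1 (col2 (col1 (col2 (col2 (col2 (col1 (col2 (col1 (col2 (col2 (col2 (col1 (col2 (col1 (col2 (col2 (col2 (i))))))))))))))))))))))))
theorem actW_kx89_eq (i : Nat) : actW_kx89 i = Tab.act T D kx89 i := rfl
def kx90 : List Nat := [0, 2, 1, 2, 2, 0, 2, 1, 2, 2, 0, 2, 1, 2, 2, 0, 2, 1, 2, 2, 0, 2, 1, 2, 2]
noncomputable def actW_kx90 (i : Nat) : Nat := col1 (col3 (col0 (col3 (col3 (col1 (col3 (col0 (col3 (col3 (col1 (col3 (col0 (col3 (col3 (col1 (col3 (col0 (col3 (col3 (col1 (col3 (col0 (col3 (col3 (i)))))))))))))))))))))))))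
theorem actW_kx90_eq (i : Nat) : actW_kx90 i = Tab.act T D kx90 i := rfl
def kx91 : List Nat := [0, 2, 2, 1, 2, 0, 2, 2, 1, 2, 0, 2, 2, 1, 2, 0, 2, 2, 1, 2, 0, 2, 2, 1, 2]
noncomputable def actW_kx91 (i : Nat) : Nat := col1 (col3 (col3 (col0 (col3 (col1 (col3 (col3 (col0 (col3 (col1 (col3 (col3 (col0 (col3 (col1 (col3 (col3 (col0 (col3 (col1 (col3 (col3 (col0 (col3 (i)))))))))))))))))))))))))
theorem actW_kx91_eq (i : Nat) : actW_kx91 i = Tab.act T D kx91 i := rfl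
def kx92 : List Nat := [0, 0, 0, 0, 2, 0, 3, 0, 0, 0, 0, 2, 0, 3, 0, 0, 0, 0, 2, 0, 3, 0, 0, 0, 0, 2, 0, 3]
noncomputable def actW_kx92 (i : Nat) : Nat := col1 (col1 (col1 (col1 (col3 (col1 (col2 (col1 (col1 (col1 (col1 (col3 (col1 (col2 (col1 (col1 (col1 (col1 (col3 (col1 (col2 (col1 (col1 (col1 (col1 (col3 (col1 (col2 (i))))))))))))))))))))))))))))
theorem actW_kx92_eq (i : Nat) : actW_kx92 i = Tab.act T D kx92 i := rfl
def kx93 : List Nat := [0, 0, 0, 0, 2, 1, 3, 0, 0, 0, 0, 2, 1, 3, 0, 0, 0, 0, 2, 1, 3, 0, 0, 0, 0, 2, 1, 3]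
noncomputable def actW_kx93 (i : Nat) : Nat := col1 (col1 (col1 (col1 (col3 (col0 (col2 (col1 (col1 (col1 (col1 (col3 (col0 (col2 (col1 (col1 (col1 (col1 (col3 (col0 (col2 (col1 (col1 (col1 (col1 (col3 (col0 (col2 (i))))))))))))))))))))))))))))
theorem actW_kx93_eq (i : Nat) : actW_kx93 i = Tab.act T D kx93 i := rfl
def kx94 : List Nat := [0, 0, 0, 0, 3, 0, 2, 0, 0, 0, 0, 3, 0, 2, 0, 0, 0, 0, 3, 0, 2, 0, 0, 0, 0, 3, 0, 2]
noncomputable def actW_kx94 (i : Nat) : Nat := col1 (col1 (col1 (col1 (col2 (col1 (col3 (col1 (col1 (col1 (col1 (col2 (col1 (col3 (col1 (col1 (col1 (col1 (col2 (col1 (col3 (col1 (col1 (col1 (col1 (col2 (col1 (col3 (i))))))))))))))))))))))))))))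
theorem actW_kx94_eq (i : Nat) : actW_kx94 i = Tab.act T D kx94 i := rfl
def kx95 : List Nat := [0, 0, 0, 0, 3, 1, 2, 0, 0, 0, 0, 3, 1, 2, 0, 0, 0, 0, 3, 1, 2, 0, 0, 0, 0, 3, 1, 2]
noncomputable def actW_kx95 (i : Nat) : Nat := col1 (col1 (col1 (col1 (col2 (col0 (col3 (col1 (col1 (col1 (col1 (col2 (col0 (col3 (col1 (col1 (col1 (col1 (col2 (col0 (col3 (col1 (col1 (col1 (col1 (col2 (col0 (col3 (i))))))))))))))))))))))))))))
theorem actW_kx95_eq (i : Nat) : actW_kx95 i = Tab.act T D kx95 i := rfl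
def kx96 : List Nat := [0, 0, 0, 2, 0, 0, 3, 0, 0, 0, 2, 0, 0, 3, 0, 0, 0, 2, 0, 0, 3, 0, 0, 0, 2, 0, 0, 3]
noncomputable def actW_kx96 (i : Nat) : Nat := col1 (col1 (col1 (col3 (col1 (col1 (col2 (col1 (col1 (col1 (col3 (col1 (col1 (col2 (col1 (col1 (col1 (col3 (col1 (col1 (col2 (col1 (col1 (col1 (col3 (col1 (col1 (col2 (i))))))))))))))))))))))))))))
theorem actW_kx96_eq (i : Nat) : actW_kx96 i = Tab.act T D kx96 i := rfl
def kx97 : List Nat := [0, 0, 0, 2, 1, 1, 3, 0, 0, 0, 2, 1, 1, 3, 0, 0, 0, 2, 1, 1, 3, 0, 0, 0, 2, 1, 1, 3]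
noncomputable def actW_kx97 (i : Nat) : Nat := col1 (col1 (col1 (col3 (col0 (col0 (col2 (col1 (col1 (col1 (col3 (col0 (col0 (col2 (col1 (col1 (col1 (col3 (col0 (col0 (col2 (col1 (col1 (col1 (col3 (col0 (col0 (col2 (i))))))))))))))))))))))))))))
theorem actW_kx97_eq (i : Nat) : actW_kx97 i = Tab.act T D kx97 i := rfl
def kx98 : List Nat := [0, 0, 0, 3, 0, 0, 2, 0, 0, 0, 3, 0, 0, 2, 0, 0, 0, 3, 0, 0, 2, 0, 0, 0, 3, 0, 0, 2]
noncomputable def actW_kx98 (i : Nat) : Nat := col1 (col1 (col1 (col2 (col1 (col1 (col3 (col1 (col1 (col1 (col2 (col1 (col1 (col3 (col1 (col1 (col1 (col2 (col1 (col1 (col3 (col1 (col1 (col1 (col2 (col1 (col1 (col3 (i))))))))))))))))))))))))))))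
theorem actW_kx98_eq (i : Nat) : actW_kx98 i = Tab.act T D kx98 i := rfl
def kx99 : List Nat := [0, 0, 0, 3, 1, 1, 2, 0, 0, 0, 3, 1, 1, 2, 0, 0, 0, 3, 1, 1, 2, 0, 0, 0, 3, 1, 1, 2]
noncomputable def actW_kx99 (i : Nat) : Nat := col1 (col1 (col1 (col2 (col0 (col0 (col3 (col1 (col1 (col1 (col2 (col0 (col0 (col3 (col1 (col1 (col1 (col2 (col0 (col0 (col3 (col1 (col1 (col1 (col2 (col0 (col0 (col3 (i))))))))))))))))))))))))))))
theorem actW_kx99_eq (i : Nat) : actW_kx99 i = Tab.act T D kx99 i := rfl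
def kx100 : List Nat := [0, 0, 2, 2, 0, 3, 3, 0, 0, 2, 2, 0, 3, 3, 0, 0, 2, 2, 0, 3, 3, 0, 0, 2, 2, 0, 3, 3]
noncomputable def actW_kx100 (i : Nat) : Nat := col1 (col1 (col3 (col3 (col1 (col2 (col2 (col1 (col1 (col3 (col3 (col1 (col2 (col2 (col1 (col1 (col3 (col3 (col1 (col2 (col2 (col1 (col1 (col3 (col3 (col1 (col2 (col2 (i))))))))))))))))))))))))))))
theorem actW_kx100_eq (i : Nat) : actW_kx100 i = Tab.act T D kx100 i := rfl
def kx101 : List Nat := [0, 0, 2, 2, 1, 3, 3, 0, 0, 2, 2, 1, 3, 3, 0, 0, 2, 2, 1, 3, 3, 0, 0, 2, 2, 1, 3, 3]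
noncomputable def actW_kx101 (i : Nat) : Nat := col1 (col1 (col3 (col3 (col0 (col2 (col2 (col1 (col1 (col3 (col3 (col0 (col2 (col2 (col1 (col1 (col3 (col3 (col0 (col2 (col2 (col1 (col1 (col3 (col3 (col0 (col2 (col2 (i))))))))))))))))))))))))))))
theorem actW_kx101_eq (i : Nat) : actW_kx101 i = Tab.act T D kx101 i := rfl
def kx102 : List Nat := [0, 0, 3, 3, 0, 2, 2, 0, 0, 3, 3, 0, 2, 2, 0, 0, 3, 3, 0, 2, 2, 0, 0, 3, 3, 0, 2, 2]
noncomputable def actW_kx102 (i : Nat) : Nat := col1 (col1 (col2 (col2 (col1 (col3 (col3 (col1 (col1 (col2 (col2 (col1 (col3 (col3 (col1 (col1 (col2 (col2 (col1 (col3 (col3 (col1 (col1 (col2 (col2 (col1 (col3 (col3 (i))))))))))))))))))))))))))))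
theorem actW_kx102_eq (i : Nat) : actW_kx102 i = Tab.act T D kx102 i := rfl
def kx103 : List Nat := [0, 0, 3, 3, 1, 2, 2, 0, 0, 3, 3, 1, 2, 2, 0, 0, 3, 3, 1, 2, 2, 0, 0, 3, 3, 1, 2, 2]
noncomputable def actW_kx103 (i : Nat) : Nat := col1 (col1 (col2 (col2 (col0 (col3 (col3 (col1 (col1 (col2 (col2 (col0 (col3 (col3 (col1 (col1 (col2 (col2 (col0 (col3 (col3 (col1 (col1 (col2 (col2 (col0 (col3 (col3 (i))))))))))))))))))))))))))))
theorem actW_kx103_eq (i : Nat) : actW_kx103 i = Tab.act T D kx103 i := rfl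
def kx104 : List Nat := [0, 2, 0, 2, 0, 2, 2, 0, 2, 0, 2, 0, 2, 2, 0, 2, 0, 2, 0, 2, 2, 0, 2, 0, 2, 0, 2, 2]
noncomputable def actW_kx104 (i : Nat) : Nat := col1 (col3 (col1 (col3 (col1 (col3 (col3 (col1 (col3 (col1 (col3 (col1 (col3 (col3 (col1 (col3 (col1 (col3 (col1 (col3 (col3 (col1 (col3 (col1 (col3 (col1 (col3 (col3 (i))))))))))))))))))))))))))))
theorem actW_kx104_eq (i : Nat) : actW_kx104 i = Tab.act T D kx104 i := rfl
def kx105 : List Nat := [0, 2, 0, 2, 1, 2, 2, 0, 2, 0, 2, 1, 2, 2, 0, 2, 0, 2, 1, 2, 2, 0, 2, 0, 2, 1, 2, 2]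
noncomputable def actW_kx105 (i : Nat) : Nat := col1 (col3 (col1 (col3 (col0 (col3 (col3 (col1 (col3 (col1 (col3 (col0 (col3 (col3 (col1 (col3 (col1 (col3 (col0 (col3 (col3 (col1 (col3 (col1 (col3 (col0 (col3 (col3 (i))))))))))))))))))))))))))))
theorem actW_kx105_eq (i : Nat) : actW_kx105 i = Tab.act T D kx105 i := rfl
def kx106 : List Nat := [0, 2, 0, 2, 2, 1, 2, 0, 2, 0, 2, 2, 1, 2, 0, 2, 0, 2, 2, 1, 2, 0, 2, 0, 2, 2, 1, 2]
noncomputable def actW_kx106 (i : Nat) : Nat := col1 (col3 (col1 (col3 (col3 (col0 (col3 (col1 (col3 (col1 (col3 (col3 (col0 (col3 (col1 (col3 (col1 (col3 (col3 (col0 (col3 (col1 (col3 (col1 (col3 (col3 (col0 (col3 (i))))))))))))))))))))))))))))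
theorem actW_kx106_eq (i : Nat) : actW_kx106 i = Tab.act T D kx106 i := rfl
def kx107 : List Nat := [0, 2, 1, 2, 0, 2, 2, 0, 2, 1, 2, 0, 2, 2, 0, 2, 1, 2, 0, 2, 2, 0, 2, 1, 2, 0, 2, 2]
noncomputable def actW_kx107 (i : Nat) : Nat := col1 (col3 (col0 (col3 (col1 (col3 (col3 (col1 (col3 (col0 (col3 (col1 (col3 (col3 (col1 (col3 (col0 (col3 (col1 (col3 (col3 (col1 (col3 (col0 (col3 (col1 (col3 (col3 (i))))))))))))))))))))))))))))
theorem actW_kx107_eq (i : Nat) : actW_kx107 i = Tab.act T D kx107 i := rfl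
def kx108 : List Nat := [0, 2, 1, 2, 1, 2, 2, 0, 2, 1, 2, 1, 2, 2, 0, 2, 1, 2, 1, 2, 2, 0, 2, 1, 2, 1, 2, 2]
noncomputable def actW_kx108 (i : Nat) : Nat := col1 (col3 (col0 (col3 (col0 (col3 (col3 (col1 (col3 (col0 (col3 (col0 (col3 (col3 (col1 (col3 (col0 (col3 (col0 (col3 (col3 (col1 (col3 (col0 (col3 (col0 (col3 (col3 (i))))))))))))))))))))))))))))
theorem actW_kx108_eq (i : Nat) : actW_kx108 i = Tab.act T D kx108 i := rfl
def kx109 : List Nat := [0, 2, 1, 2, 2, 1, 2, 0, 2, 1, 2, 2, 1, 2, 0, 2, 1, 2, 2, 1, 2, 0, 2, 1, 2, 2, 1, 2]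
noncomputable def actW_kx109 (i : Nat) : Nat := col1 (col3 (col0 (col3 (col3 (col0 (col3 (col1 (col3 (col0 (col3 (col3 (col0 (col3 (col1 (col3 (col0 (col3 (col3 (col0 (col3 (col1 (col3 (col0 (col3 (col3 (col0 (col3 (i))))))))))))))))))))))))))))
theorem actW_kx109_eq (i : Nat) : actW_kx109 i = Tab.act T D kx109 i := rfl
def kx110 : List Nat := [0, 2, 2, 1, 2, 1, 2, 0, 2, 2, 1, 2, 1, 2, 0, 2, 2, 1, 2, 1, 2, 0, 2, 2, 1, 2, 1, 2]
noncomputable def actW_kx110 (i : Nat) : Nat := col1 (col3 (col3 (col0 (col3 (col0 (col3 (col1 (col3 (col3 (col0 (col3 (col0 (col3 (col1 (col3 (col3 (col0 (col3 (col0 (col3 (col1 (col3 (col3 (col0 (col3 (col0 (col3 (i))))))))))))))))))))))))))))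
theorem actW_kx110_eq (i : Nat) : actW_kx110 i = Tab.act T D kx110 i := rfl
def kx111 : List Nat := [0, 2, 2, 2, 2, 2, 2, 0, 2, 2, 2, 2, 2, 2, 0, 2, 2, 2, 2, 2, 2, 0, 2, 2, 2, 2, 2, 2]
noncomputable def actW_kx111 (i : Nat) : Nat := col1 (col3 (col3 (col3 (col3 (col3 (col3 (col1 (col3 (col3 (col3 (col3 (col3 (col3 (col1 (col3 (col3 (col3 (col3 (col3 (col3 (col1 (col3 (col3 (col3 (col3 (col3 (col3 (i))))))))))))))))))))))))))))
theorem actW_kx111_eq (i : Nat) : actW_kx111 i = Tab.act T D kx111 i := rfl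
def kx112 : List Nat := [0, 3, 0, 3, 0, 3, 3, 0, 3, 0, 3, 0, 3, 3, 0, 3, 0, 3, 0, 3, 3, 0, 3, 0, 3, 0, 3, 3]
noncomputable def actW_kx112 (i : Nat) : Nat := col1 (col2 (col1 (col2 (col1 (col2 (col2 (col1 (col2 (col1 (col2 (col1 (col2 (col2 (col1 (col2 (col1 (col2 (col1 (col2 (col2 (col1 (col2 (col1 (col2 (col1 (col2 (col2 (i))))))))))))))))))))))))))))
theorem actW_kx112_eq (i : Nat) : actW_kx112 i = Tab.act T D kx112 i := rfl
def kx113 : List Nat := [0, 3, 3, 3, 3, 3, 3, 0, 3, 3, 3, 3, 3, 3, 0, 3, 3, 3, 3, 3, 3, 0, 3, 3, 3, 3, 3, 3]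
noncomputable def actW_kx113 (i : Nat) : Nat := col1 (col2 (col2 (col2 (col2 (col2 (col2 (col1 (col2 (col2 (col2 (col2 (col2 (col2 (col1 (col2 (col2 (col2 (col2 (col2 (col2 (col1 (col2 (col2 (col2 (col2 (col2 (col2 (i))))))))))))))))))))))))))))
theorem actW_kx113_eq (i : Nat) : actW_kx113 i = Tab.act T D kx113 i := rfl
def kx114 : List Nat := [0, 0, 0, 0, 2, 0, 0, 0, 0, 2, 0, 0, 0, 0, 2, 0, 0, 0, 0, 2, 0, 0, 0, 0, 2, 0, 0, 0, 0, 2]
noncomputable def actW_kx114 (i : Nat) : Nat := col1 (col1 (col1 (col1 (col3 (col1 (col1 (col1 (col1 (col3 (col1 (col1 (col1 (col1 (col3 (col1 (col1 (col1 (col1 (col3 (col1 (col1 (col1 (col1 (col3 (col1 (col1 (col1 (col1 (col3 (i))))))))))))))))))))))))))))))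
theorem actW_kx114_eq (i : Nat) : actW_kx114 i = Tab.act T D kx114 i := rfl
def kx115 : List Nat := [0, 0, 0, 0, 3, 0, 0, 0, 0, 3, 0, 0, 0, 0, 3, 0, 0, 0, 0, 3, 0, 0, 0, 0, 3, 0, 0, 0, 0, 3]
noncomputable def actW_kx115 (i : Nat) : Nat := col1 (col1 (col1 (col1 (col2 (col1 (col1 (col1 (col1 (col2 (col1 (col1 (col1 (col1 (col2 (col1 (col1 (col1 (col1 (col2 (col1 (col1 (col1 (col1 (col2 (col1 (col1 (col1 (col1 (col2 (i))))))))))))))))))))))))))))))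
theorem actW_kx115_eq (i : Nat) : actW_kx115 i = Tab.act T D kx115 i := rfl
def kx116 : List Nat := [0, 2, 0, 3, 3, 0, 2, 0, 3, 3, 0, 2, 0, 3, 3, 0, 2, 0, 3, 3, 0, 2, 0, 3, 3, 0, 2, 0, 3, 3]
noncomputable def actW_kx116 (i : Nat) : Nat := col1 (col3 (col1 (col2 (col2 (col1 (col3 (col1 (col2 (col2 (col1 (col3 (col1 (col2 (col2 (col1 (col3 (col1 (col2 (col2 (col1 (col3 (col1 (col2 (col2 (col1 (col3 (col1 (col2 (col2 (i))))))))))))))))))))))))))))))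
theorem actW_kx116_eq (i : Nat) : actW_kx116 i = Tab.act T D kx116 i := rfl
def kx117 : List Nat := [0, 2, 1, 3, 3, 0, 2, 1, 3, 3, 0, 2, 1, 3, 3, 0, 2, 1, 3, 3, 0, 2, 1, 3, 3, 0, 2, 1, 3, 3]
noncomputable def actW_kx117 (i : Nat) : Nat := col1 (col3 (col0 (col2 (col2 (col1 (col3 (col0 (col2 (col2 (col1 (col3 (col0 (col2 (col2 (col1 (col3 (col0 (col2 (col2 (col1 (col3 (col0 (col2 (col2 (col1 (col3 (col0 (col2 (col2 (i))))))))))))))))))))))))))))))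
theorem actW_kx117_eq (i : Nat) : actW_kx117 i = Tab.act T D kx117 i := rfl
def kx118 : List Nat := [0, 2, 2, 0, 3, 0, 2, 2, 0, 3, 0, 2, 2, 0, 3, 0, 2, 2, 0, 3, 0, 2, 2, 0, 3, 0, 2, 2, 0, 3]
noncomputable def actW_kx118 (i : Nat) : Nat := col1 (col3 (col3 (col1 (col2 (col1 (col3 (col3 (col1 (col2 (col1 (col3 (col3 (col1 (col2 (col1 (col3 (col3 (col1 (col2 (col1 (col3 (col3 (col1 (col2 (col1 (col3 (col3 (col1 (col2 (i))))))))))))))))))))))))))))))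
theorem actW_kx118_eq (i : Nat) : actW_kx118 i = Tab.act T D kx118 i := rfl
def kx119 : List Nat := [0, 2, 2, 1, 2, 2, 0, 2, 2, 1, 2, 2, 0, 2, 2, 1, 2, 2, 0, 2, 2, 1, 2, 2, 0, 2, 2, 1, 2, 2]
noncomputable def actW_kx119 (i : Nat) : Nat := col1 (col3 (col3 (col0 (col3 (col3 (col1 (col3 (col3 (col0 (col3 (col3 (col1 (col3 (col3 (col0 (col3 (col3 (col1 (col3 (col3 (col0 (col3 (col3 (col1 (col3 (col3 (col0 (col3 (col3 (i))))))))))))))))))))))))))))))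
theorem actW_kx119_eq (i : Nat) : actW_kx119 i = Tab.act T D kx119 i := rfl
def kx120 : List Nat := [0, 2, 2, 1, 3, 0, 2, 2, 1, 3, 0, 2, 2, 1, 3, 0, 2, 2, 1, 3, 0, 2, 2, 1, 3, 0, 2, 2, 1, 3]
noncomputable def actW_kx120 (i : Nat) : Nat := col1 (col3 (col3 (col0 (col2 (col1 (col3 (col3 (col0 (col2 (col1 (col3 (col3 (col0 (col2 (col1 (col3 (col3 (col0 (col2 (col1 (col3 (col3 (col0 (col2 (col1 (col3 (col3 (col0 (col2 (i))))))))))))))))))))))))))))))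
theorem actW_kx120_eq (i : Nat) : actW_kx120 i = Tab.act T D kx120 i := rfl

end Cfsg.Agent.Lib.Helper4.TCD.HNKR
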