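import Cfsg.Agent.Lib.Helper4.TCD_HNKR_Acc

namespace Cfsg.Agent.Lib.Helper4.TCD.HNKR

open Cfsg.Agent.Lib.Helper4.TC

set_option maxRecDepth 100000
set_option Elab.async false

theorem c_let : allBelow D.letOK 4 = true := by decide +kernel
theorem c_real : PHNK.P.real = realLit := by decide +kernel
theorem c_perm_0 : allGrid (T.permOK1 D) 0 1786 4 = true := by decide +kernel
theorem c_act0_0 : allRange (fun i => Nat.beq (actR0 i) i) 0 1786 = true := by decide +kernel
theorem c_act1_0 : allRange (fun i => Nat.beq (actR1 i) i) 0 1786 = true := by decide +kernel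
theorem c_act2_0 : allRange (fun i => Nat.beq (actR2 i) i) 0 1786 = true := by decide +kernel
theorem c_act3_0 : allRange (fun i => Nat.beq (actR3 i) i) 0 1786 = true := by decide +kernel
theorem c_act4_0 : allRange (fun i => Nat.beq (actR4 i) i) 0 1786 = true := by decide +kernel
theorem c_act5_0 : allRange (fun i => Nat.beq (actR5 i) i) 0 1786 = true := by decide +kernel
theorem c_w_kx0_0 : allRange (fun i => Nat.beq (actW_kx0 i) i) 0 1786 = true := by decide +kernel
theorem c_w_kx1_0 : allRange (fun i => Nat.beq (actW_kx1 i) i) 0 1786 = true := by decide +kernel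
theorem c_w_kx2_0 : allRange (fun i => Nat.beq (actW_kx2 i) i) 0 1786 = true := by decide +kernel
theorem c_w_kx3_0 : allRange (fun i => Nat.beq (actW_kx3 i) i) 0 1786 = true := by decide +kernel
theorem c_w_kx4_0 : allRange (fun i => Nat.beq (actW_kx4 i) i) 0 1786 = true := by decide +kernel
theorem c_w_kx5_0 : allRange (fun i => Nat.beq (actW_kx5 i) i) 0 1786 = true := by decide +kernel
theorem c_w_kx6_0 : allRange (fun i => Nat.beq (actW_kx6 i) i) 0 1786 = true := by decide +kernel
theorem c_w_kx7_0 : allRange (fun i => Nat.beq (actW_kx7 i) i) 0 1786 = true := by decide +kernel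
theorem c_w_kx8_0 : allRange (fun i => Nat.beq (actW_kx8 i) i) 0 1786 = true := by decide +kernel
theorem c_w_kx9_0 : allRange (fun i => Nat.beq (actW_kx9 i) i) 0 1786 = true := by decide +kernel
theorem c_w_kx10_0 : allRange (fun i => Nat.beq (actW_kx10 i) i) 0 1786 = true := by decide +kernel
theorem c_w_kx11_0 : allRange (fun i => Nat.beq (actW_kx11 i) i) 0 1786 = true := by decide +kernel
theorem c_w_kx12_0 : allRange (fun i => Nat.beq (actW_kx12 i) i) 0 1786 = true := by decide +kernel
theorem c_w_kx13_0 : allRange (fun i => Nat.beq (actW_kx13 i) i) 0 1786 = true := by decide +kernel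
theorem c_w_kx14_0 : allRange (fun i => Nat.beq (actW_kx14 i) i) 0 1786 = true := by decide +kernel
theorem c_w_kx15_0 : allRange (fun i => Nat.beq (actW_kx15 i) i) 0 1786 = true := by decide +kernel
theorem c_w_kx16_0 : allRange (fun i => Nat.beq (actW_kx16 i) i) 0 1786 = true := by decide +kernel
theorem c_w_kx17_0 : allRange (fun i => Nat.beq (actW_kx17 i) i) 0 1786 = true := by decide +kernel
theorem c_w_kx18_0 : allRange (fun i => Nat.beq (actW_kx18 i) i) 0 1786 = true := by decide +kernel
theorem c_w_kx19_0 : allRange (fun i => Nat.beq (actW_kx19 i) i) 0 1786 = true := by decide +kernel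
theorem c_w_kx20_0 : allRange (fun i => Nat.beq (actW_kx20 i) i) 0 1786 = true := by decide +kernel
theorem c_w_kx21_0 : allRange (fun i => Nat.beq (actW_kx21 i) i) 0 1786 = true := by decide +kernel
theorem c_w_kx22_0 : allRange (fun i => Nat.beq (actW_kx22 i) i) 0 1786 = true := by decide +kernel
theorem c_w_kx23_0 : allRange (fun i => Nat.beq (actW_kx23 i) i) 0 1786 = true := by decide +kernel
theorem c_w_kx24_0 : allRange (fun i => Nat.beq (actW_kx24 i) i) 0 1786 = true := by decide +kernel
theorem c_w_kx25_0 : allRange (fun i => Nat.beq (actW_kx25 i) i) 0 1786 = true := by decide +kernel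
theorem c_w_kx26_0 : allRange (fun i => Nat.beq (actW_kx26 i) i) 0 1786 = true := by decide +kernel
theorem c_w_kx27_0 : allRange (fun i => Nat.beq (actW_kx27 i) i) 0 1786 = true := by decide +kernel
theorem c_w_kx28_0 : allRange (fun i => Nat.beq (actW_kx28 i) i) 0 1786 = true := by decide +kernel
theorem c_w_kx29_0 : allRange (fun i => Nat.beq (actW_kx29 i) i) 0 1786 = true := by decide +kernel
theorem c_w_kx30_0 : allRange (fun i => Nat.beq (actW_kx30 i) i) 0 1786 = true := by decide +kernel
theorem c_w_kx31_0 : allRange (fun i => Nat.beq (actW_kx31 i) i) 0 1786 = true := by decide +kernel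
theorem c_w_kx32_0 : allRange (fun i => Nat.beq (actW_kx32 i) i) 0 1786 = true := by decide +kernel
theorem c_w_kx33_0 : allRange (fun i => Nat.beq (actW_kx33 i) i) 0 1786 = true := by decide +kernel
theorem c_w_kx34_0 : allRange (fun i => Nat.beq (actW_kx34 i) i) 0 1786 = true := by decide +kernel
theorem c_w_kx35_0 : allRange (fun i => Nat.beq (actW_kx35 i) i) 0 1786 = true := by decide +kernel
theorem c_w_kx36_0 : allRange (fun i => Nat.beq (actW_kx36 i) i) 0 1786 = true := by decide +kernel
theorem c_w_kx37_0 : allRange (fun i => Nat.beq (actW_kx37 i) i) 0 1786 = true := by decide +kernel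
theorem c_w_kx38_0 : allRange (fun i => Nat.beq (actW_kx38 i) i) 0 1786 = true := by decide +kernel
theorem c_w_kx39_0 : allRange (fun i => Nat.beq (actW_kx39 i) i) 0 1786 = true := by decide +kernel
theorem c_w_kx40_0 : allRange (fun i => Nat.beq (actW_kx40 i) i) 0 1786 = true := by decide +kernel
theorem c_w_kx41_0 : allRange (fun i => Nat.beq (actW_kx41 i) i) 0 1786 = true := by decide +kernel
theorem c_w_kx42_0 : allRange (fun i => Nat.beq (actW_kx42 i) i) 0 1786 = true := by decide +kernel
theorem c_w_kx43_0 : allRange (fun i => Nat.beq (actW_kx43 i) i) 0 1786 = true := by decide +kernel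
theorem c_w_kx44_0 : allRange (fun i => Nat.beq (actW_kx44 i) i) 0 1786 = true := by decide +kernel
theorem c_w_kx45_0 : allRange (fun i => Nat.beq (actW_kx45 i) i) 0 1786 = true := by decide +kernel
theorem c_w_kx46_0 : allRange (fun i => Nat.beq (actW_kx46 i) i) 0 1786 = true := by decide +kernel
theorem c_w_kx47_0 : allRange (fun i => Nat.beq (actW_kx47 i) i) 0 1786 = true := by decide +kernel
theorem c_w_kx48_0 : allRange (fun i => Nat.beq (actW_kx48 i) i) 0 1786 = true := by decide +kernel
theorem c_w_kx49_0 : allRange (fun i => Nat.beq (actW_kx49 i) i) 0 1786 = true := by decide +kernel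
theorem c_w_kx50_0 : allRange (fun i => Nat.beq (actW_kx50 i) i) 0 1786 = true := by decide +kernel
theorem c_w_kx51_0 : allRange (fun i => Nat.beq (actW_kx51 i) i) 0 1786 = true := by decide +kernel
theorem c_w_kx52_0 : allRange (fun i => Nat.beq (actW_kx52 i) i) 0 1786 = true := by decide +kernel
theorem c_w_kx53_0 : allRange (fun i => Nat.beq (actW_kx53 i) i) 0 1786 = true := by decide +kernel
theorem c_w_kx54_0 : allRange (fun i => Nat.beq (actW_kx54 i) i) 0 1786 = true := by decide +kernel
theorem c_w_kx55_0 : allRange (fun i => Nat.beq (actW_kx55 i) i) 0 1786 = true := by decide +kernel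
theorem c_w_kx56_0 : allRange (fun i => Nat.beq (actW_kx56 i) i) 0 1786 = true := by decide +kernel
theorem c_w_kx57_0 : allRange (fun i => Nat.beq (actW_kx57 i) i) 0 1786 = true := by decide +kernel
theorem c_w_kx58_0 : allRange (fun i => Nat.beq (actW_kx58 i) i) 0 1786 = true := by decide +kernel
theorem c_w_kx59_0 : allRange (fun i => Nat.beq (actW_kx59 i) i) 0 1786 = true := by decide +kernel
theorem c_w_kx60_0 : allRange (fun i => Nat.beq (actW_kx60 i) i) 0 1786 = true := by decide +kernel
theorem c_w_kx61_0 : allRange (fun i => Nat.beq (actW_kx61 i) i) 0 1786 = true := by decide +kernel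
theorem c_w_kx62_0 : allRange (fun i => Nat.beq (actW_kx62 i) i) 0 1786 = true := by decide +kernel
theorem c_w_kx63_0 : allRange (fun i => Nat.beq (actW_kx63 i) i) 0 1786 = true := by decide +kernel
theorem c_w_kx64_0 : allRange (fun i => Nat.beq (actW_kx64 i) i) 0 1786 = true := by decide +kernel
theorem c_w_kx65_0 : allRange (fun i => Nat.beq (actW_kx65 i) i) 0 1786 = true := by decide +kernel
theorem c_w_kx66_0 : allRange (fun i => Nat.beq (actW_kx66 i) i) 0 1786 = true := by decide +kernel
theorem c_w_kx67_0 : allRange (fun i => Nat.beq (actW_kx67 i) i) 0 1786 = true := by decide +kernel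
theorem c_w_kx68_0 : allRange (fun i => Nat.beq (actW_kx68 i) i) 0 1786 = true := by decide +kernel
theorem c_w_kx69_0 : allRange (fun i => Nat.beq (actW_kx69 i) i) 0 1786 = true := by decide +kernel
theorem c_w_kx70_0 : allRange (fun i => Nat.beq (actW_kx70 i) i) 0 1786 = true := by decide +kernel
theorem c_w_kx71_0 : allRange (fun i => Nat.beq (actW_kx71 i) i) 0 1786 = true := by decide +kernel
theorem c_w_kx72_0 : allRange (fun i => Nat.beq (actW_kx72 i) i) 0 1786 = true := by decide +kernel
theorem c_w_kx73_0 : allRange (fun i => Nat.beq (actW_kx73 i) i) 0 1786 = true := by decide +kernel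
theorem c_w_kx74_0 : allRange (fun i => Nat.beq (actW_kx74 i) i) 0 1786 = true := by decide +kernel
theorem c_w_kx75_0 : allRange (fun i => Nat.beq (actW_kx75 i) i) 0 1786 = true := by decide +kernel
theorem c_w_kx76_0 : allRange (fun i => Nat.beq (actW_kx76 i) i) 0 1786 = true := by decide +kernel
theorem c_w_kx77_0 : allRange (fun i => Nat.beq (actW_kx77 i) i) 0 1786 = true := by decide +kernel
theorem c_w_kx78_0 : allRange (fun i => Nat.beq (actW_kx78 i) i) 0 1786 = true := by decide +kernel
theorem c_w_kx79_0 : allRange (fun i => Nat.beq (actW_kx79 i) i) 0 1786 = true := by decide +kernel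
theorem c_w_kx80_0 : allRange (fun i => Nat.beq (actW_kx80 i) i) 0 1786 = true := by decide +kernel

end Cfsg.Agent.Lib.Helper4.TCD.HNKR
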