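import Cfsg.Agent.Lib.Helper4.TC17
import Cfsg.Agent.Lib.Helper4.TCP_HNN
import Cfsg.Agent.Lib.Helper4.TCD_HNN3_D0
import Cfsg.Agent.Lib.Helper4.TCD_HNN3_D1
import Cfsg.Agent.Lib.Helper4.TCD_HNN3_D2
import Cfsg.Agent.Lib.Helper4.TCD_HNN3_D3
import Cfsg.Agent.Lib.Helper4.TCD_HNN3_D4
import Cfsg.Agent.Lib.Helper4.TCD_HNN3_D5
import Cfsg.Agent.Lib.Helper4.TCD_HNN3_D6
import Cfsg.Agent.Lib.Helper4.TCD_HNN3_D7
import Cfsg.Agent.Lib.Helper4.TCD_HNN3_D8
import Cfsg.Agent.Lib.Helper4.TCD_HNN3_D9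
import Cfsg.Agent.Lib.Helper4.TCD_HNN3_D10
import Cfsg.Agent.Lib.Helper4.TCD_HNN3_D11
import Cfsg.Agent.Lib.Helper4.TCD_HNN3_D12
import Cfsg.Agent.Lib.Helper4.TCD_HNN3_D13
import Cfsg.Agent.Lib.Helper4.TCD_HNN3_D14
import Cfsg.Agent.Lib.Helper4.TCD_HNN3_D15
import Cfsg.Agent.Lib.Helper4.TCD_HNN3_D16
import Cfsg.Agent.Lib.Helper4.TCD_HNN3_D17
import Cfsg.Agent.Lib.Helper4.TCD_HNN3_D18
import Cfsg.Agent.Lib.Helper4.TCD_HNN3_D19
import Cfsg.Agent.Lib.Helper4.TCD_HNN3_D20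
import Cfsg.Agent.Lib.Helper4.TCD_HNN3_D21
import Cfsg.Agent.Lib.Helper4.TCD_HNN3_D22
import Cfsg.Agent.Lib.Helper4.TCD_HNN3_D23
import Cfsg.Agent.Lib.Helper4.TCD_HNN3_D24
import Cfsg.Agent.Lib.Helper4.TCD_HNN3_D25
import Cfsg.Agent.Lib.Helper4.TCD_HNN3_D26
import Cfsg.Agent.Lib.Helper4.TCD_HNN3_D27
import Cfsg.Agent.Lib.Helper4.TCD_HNN3_D28
import Cfsg.Agent.Lib.Helper4.TCD_HNN3_D29
import Cfsg.Agent.Lib.Helper4.TCD_HNN3_D30

namespace Cfsg.Agent.Lib.Helper4.TCD.HNN3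

open Cfsg.Agent.Lib.Helper4.TC

set_option maxRecDepth 100000

noncomputable def Atab_s_0_2 (c : Nat) : Nat := @Bool.rec (fun _ => Nat) (Atab_0) (Atab_1) (Nat.ble 1 c)
noncomputable def Atab_s_2_4 (c : Nat) : Nat := @Bool.rec (fun _ => Nat) (Atab_2) (Atab_3) (Nat.ble 3 c)
noncomputable def Atab_s_0_4 (c : Nat) : Nat := @Bool.rec (fun _ => Nat) (Atab_s_0_2 c) (Atab_s_2_4 c) (Nat.ble 2 c)
noncomputable def Atab_s_4_6 (c : Nat) : Nat := @Bool.rec (fun _ => Nat) (Atab_4) (Atab_5) (Nat.ble 5 c)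
noncomputable def Atab_s_7_9 (c : Nat) : Nat := @Bool.rec (fun _ => Nat) (Atab_7) (Atab_8) (Nat.ble 8 c)
noncomputable def Atab_s_6_9 (c : Nat) : Nat := @Bool.rec (fun _ => Nat) (Atab_6) (Atab_s_7_9 c) (Nat.ble 7 c)
noncomputable def Atab_s_4_9 (c : Nat) : Nat := @Bool.rec (fun _ => Nat) (Atab_s_4_6 c) (Atab_s_6_9 c) (Nat.ble 6 c)
noncomputable def Atab_s_0_9 (c : Nat) : Nat := @Bool.rec (fun _ => Nat) (Atab_s_0_4 c) (Atab_s_4_9 c) (Nat.ble 4 c)
noncomputable def Atab_s_9_11 (c : Nat) : Nat := @Bool.rec (fun _ => Nat) (Atab_9) (Atab_10) (Nat.ble 10 c)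
noncomputable def Atab_s_11_13 (c : Nat) : Nat := @Bool.rec (fun _ => Nat) (Atab_11) (Atab_12) (Nat.ble 12 c)
noncomputable def Atab_s_9_13 (c : Nat) : Nat := @Bool.rec (fun _ => Nat) (Atab_s_9_11 c) (Atab_s_11_13 c) (Nat.ble 11 c)
noncomputable def Atab_s_13_15 (c : Nat) : Nat := @Bool.rec (fun _ => Nat) (Atab_13) (Atab_14) (Nat.ble 14 c)
noncomputable def Atab_s_16_18 (c : Nat) : Nat := @Bool.rec (fun _ => Nat) (Atab_16) (Atab_17) (Nat.ble 17 c)
noncomputable def Atab_s_15_18 (c : Nat) : Nat := @Bool.rec (fun _ => Nat) (Atab_15) (Atab_s_16_18 c) (Nat.ble 16 c)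
noncomputable def Atab_s_13_18 (c : Nat) : Nat := @Bool.rec (fun _ => Nat) (Atab_s_13_15 c) (Atab_s_15_18 c) (Nat.ble 15 c)
noncomputable def Atab_s_9_18 (c : Nat) : Nat := @Bool.rec (fun _ => Nat) (Atab_s_9_13 c) (Atab_s_13_18 c) (Nat.ble 13 c)
noncomputable def Atab_s_0_18 (c : Nat) : Nat := @Bool.rec (fun _ => Nat) (Atab_s_0_9 c) (Atab_s_9_18 c) (Nat.ble 9 c)
noncomputable def Atab_s_18_20 (c : Nat) : Nat := @Bool.rec (fun _ => Nat) (Atab_18) (Atab_19) (Nat.ble 19 c)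
noncomputable def Atab_s_20_22 (c : Nat) : Nat := @Bool.rec (fun _ => Nat) (Atab_20) (Atab_21) (Nat.ble 21 c)
noncomputable def Atab_s_18_22 (c : Nat) : Nat := @Bool.rec (fun _ => Nat) (Atab_s_18_20 c) (Atab_s_20_22 c) (Nat.ble 20 c)
noncomputable def Atab_s_22_24 (c : Nat) : Nat := @Bool.rec (fun _ => Nat) (Atab_22) (Atab_23) (Nat.ble 23 c)
noncomputable def Atab_s_25_27 (c : Nat) : Nat := @Bool.rec (fun _ => Nat) (Atab_25) (Atab_26) (Nat.ble 26 c)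
noncomputable def Atab_s_24_27 (c : Nat) : Nat := @Bool.rec (fun _ => Nat) (Atab_24) (Atab_s_25_27 c) (Nat.ble 25 c)
noncomputable def Atab_s_22_27 (c : Nat) : Nat := @Bool.rec (fun _ => Nat) (Atab_s_22_24 c) (Atab_s_24_27 c) (Nat.ble 24 c)
noncomputable def Atab_s_18_27 (c : Nat) : Nat := @Bool.rec (fun _ => Nat) (Atab_s_18_22 c) (Atab_s_22_27 c) (Nat.ble 22 c)
noncomputable def Atab_s_27_29 (c : Nat) : Nat := @Bool.rec (fun _ => Nat) (Atab_27) (Atab_28) (Nat.ble 28 c)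
noncomputable def Atab_s_29_31 (c : Nat) : Nat := @Bool.rec (fun _ => Nat) (Atab_29) (Atab_30) (Nat.ble 30 c)
noncomputable def Atab_s_27_31 (c : Nat) : Nat := @Bool.rec (fun _ => Nat) (Atab_s_27_29 c) (Atab_s_29_31 c) (Nat.ble 29 c)
noncomputable def Atab_s_31_33 (c : Nat) : Nat := @Bool.rec (fun _ => Nat) (Atab_31) (Atab_32) (Nat.ble 32 c)
noncomputable def Atab_s_34_36 (c : Nat) : Nat := @Bool.rec (fun _ => Nat) (Atab_34) (Atab_35) (Nat.ble 35 c)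
noncomputable def Atab_s_33_36 (c : Nat) : Nat := @Bool.rec (fun _ => Nat) (Atab_33) (Atab_s_34_36 c) (Nat.ble 34 c)
noncomputable def Atab_s_31_36 (c : Nat) : Nat := @Bool.rec (fun _ => Nat) (Atab_s_31_33 c) (Atab_s_33_36 c) (Nat.ble 33 c)
noncomputable def Atab_s_27_36 (c : Nat) : Nat := @Bool.rec (fun _ => Nat) (Atab_s_27_31 c) (Atab_s_31_36 c) (Nat.ble 31 c)
noncomputable def Atab_s_18_36 (c : Nat) : Nat := @Bool.rec (fun _ => Nat) (Atab_s_18_27 c) (Atab_s_27_36 c) (Nat.ble 27 c)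
noncomputable def Atab_s_0_36 (c : Nat) : Nat := @Bool.rec (fun _ => Nat) (Atab_s_0_18 c) (Atab_s_18_36 c) (Nat.ble 18 c)
noncomputable def Atab_s_36_38 (c : Nat) : Nat := @Bool.rec (fun _ => Nat) (Atab_36) (Atab_37) (Nat.ble 37 c)
noncomputable def Atab_s_38_40 (c : Nat) : Nat := @Bool.rec (fun _ => Nat) (Atab_38) (Atab_39) (Nat.ble 39 c)
noncomputable def Atab_s_36_40 (c : Nat) : Nat := @Bool.rec (fun _ => Nat) (Atab_s_36_38 c) (Atab_s_38_40 c) (Nat.ble 38 c)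
noncomputable def Atab_s_40_42 (c : Nat) : Nat := @Bool.rec (fun _ => Nat) (Atab_40) (Atab_41) (Nat.ble 41 c)
noncomputable def Atab_s_43_45 (c : Nat) : Nat := @Bool.rec (fun _ => Nat) (Atab_43) (Atab_44) (Nat.ble 44 c)
noncomputable def Atab_s_42_45 (c : Nat) : Nat := @Bool.rec (fun _ => Nat) (Atab_42) (Atab_s_43_45 c) (Nat.ble 43 c)
noncomputable def Atab_s_40_45 (c : Nat) : Nat := @Bool.rec (fun _ => Nat) (Atab_s_40_42 c) (Atab_s_42_45 c) (Nat.ble 42 c)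
noncomputable def Atab_s_36_45 (c : Nat) : Nat := @Bool.rec (fun _ => Nat) (Atab_s_36_40 c) (Atab_s_40_45 c) (Nat.ble 40 c)
noncomputable def Atab_s_45_47 (c : Nat) : Nat := @Bool.rec (fun _ => Nat) (Atab_45) (Atab_46) (Nat.ble 46 c)
noncomputable def Atab_s_47_49 (c : Nat) : Nat := @Bool.rec (fun _ => Nat) (Atab_47) (Atab_48) (Nat.ble 48 c)
noncomputable def Atab_s_45_49 (c : Nat) : Nat := @Bool.rec (fun _ => Nat) (Atab_s_45_47 c) (Atab_s_47_49 c) (Nat.ble 47 c)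
noncomputable def Atab_s_49_51 (c : Nat) : Nat := @Bool.rec (fun _ => Nat) (Atab_49) (Atab_50) (Nat.ble 50 c)
noncomputable def Atab_s_52_54 (c : Nat) : Nat := @Bool.rec (fun _ => Nat) (Atab_52) (Atab_53) (Nat.ble 53 c)
noncomputable def Atab_s_51_54 (c : Nat) : Nat := @Bool.rec (fun _ => Nat) (Atab_51) (Atab_s_52_54 c) (Nat.ble 52 c)
noncomputable def Atab_s_49_54 (c : Nat) : Nat := @Bool.rec (fun _ => Nat) (Atab_s_49_51 c) (Atab_s_51_54 c) (Nat.ble 51 c)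
noncomputable def Atab_s_45_54 (c : Nat) : Nat := @Bool.rec (fun _ => Nat) (Atab_s_45_49 c) (Atab_s_49_54 c) (Nat.ble 49 c)
noncomputable def Atab_s_36_54 (c : Nat) : Nat := @Bool.rec (fun _ => Nat) (Atab_s_36_45 c) (Atab_s_45_54 c) (Nat.ble 45 c)
noncomputable def Atab_s_54_56 (c : Nat) : Nat := @Bool.rec (fun _ => Nat) (Atab_54) (Atab_55) (Nat.ble 55 c)
noncomputable def Atab_s_56_58 (c : Nat) : Nat := @Bool.rec (fun _ => Nat) (Atab_56) (Atab_57) (Nat.ble 57 c)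
noncomputable def Atab_s_54_58 (c : Nat) : Nat := @Bool.rec (fun _ => Nat) (Atab_s_54_56 c) (Atab_s_56_58 c) (Nat.ble 56 c)
noncomputable def Atab_s_58_60 (c : Nat) : Nat := @Bool.rec (fun _ => Nat) (Atab_58) (Atab_59) (Nat.ble 59 c)
noncomputable def Atab_s_61_63 (c : Nat) : Nat := @Bool.rec (fun _ => Nat) (Atab_61) (Atab_62) (Nat.ble 62 c)
noncomputable def Atab_s_60_63 (c : Nat) : Nat := @Bool.rec (fun _ => Nat) (Atab_60) (Atab_s_61_63 c) (Nat.ble 61 c)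
noncomputable def Atab_s_58_63 (c : Nat) : Nat := @Bool.rec (fun _ => Nat) (Atab_s_58_60 c) (Atab_s_60_63 c) (Nat.ble 60 c)
noncomputable def Atab_s_54_63 (c : Nat) : Nat := @Bool.rec (fun _ => Nat) (Atab_s_54_58 c) (Atab_s_58_63 c) (Nat.ble 58 c)
noncomputable def Atab_s_63_65 (c : Nat) : Nat := @Bool.rec (fun _ => Nat) (Atab_63) (Atab_64) (Nat.ble 64 c)
noncomputable def Atab_s_66_68 (c : Nat) : Nat := @Bool.rec (fun _ => Nat) (Atab_66) (Atab_67) (Nat.ble 67 c)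
noncomputable def Atab_s_65_68 (c : Nat) : Nat := @Bool.rec (fun _ => Nat) (Atab_65) (Atab_s_66_68 c) (Nat.ble 66 c)
noncomputable def Atab_s_63_68 (c : Nat) : Nat := @Bool.rec (fun _ => Nat) (Atab_s_63_65 c) (Atab_s_65_68 c) (Nat.ble 65 c)
noncomputable def Atab_s_68_70 (c : Nat) : Nat := @Bool.rec (fun _ => Nat) (Atab_68) (Atab_69) (Nat.ble 69 c)
noncomputable def Atab_s_71_73 (c : Nat) : Nat := @Bool.rec (fun _ => Nat) (Atab_71) (Atab_72) (Nat.ble 72 c)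
noncomputable def Atab_s_70_73 (c : Nat) : Nat := @Bool.rec (fun _ => Nat) (Atab_70) (Atab_s_71_73 c) (Nat.ble 71 c)
noncomputable def Atab_s_68_73 (c : Nat) : Nat := @Bool.rec (fun _ => Nat) (Atab_s_68_70 c) (Atab_s_70_73 c) (Nat.ble 70 c)
noncomputable def Atab_s_63_73 (c : Nat) : Nat := @Bool.rec (fun _ => Nat) (Atab_s_63_68 c) (Atab_s_68_73 c) (Nat.ble 68 c)
noncomputable def Atab_s_54_73 (c : Nat) : Nat := @Bool.rec (fun _ => Nat) (Atab_s_54_63 c) (Atab_s_63_73 c) (Nat.ble 63 c)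
noncomputable def Atab_s_36_73 (c : Nat) : Nat := @Bool.rec (fun _ => Nat) (Atab_s_36_54 c) (Atab_s_54_73 c) (Nat.ble 54 c)
noncomputable def Atab_s_0_73 (c : Nat) : Nat := @Bool.rec (fun _ => Nat) (Atab_s_0_36 c) (Atab_s_36_73 c) (Nat.ble 36 c)
noncomputable def Atab_s_73_75 (c : Nat) : Nat := @Bool.rec (fun _ => Nat) (Atab_73) (Atab_74) (Nat.ble 74 c)
noncomputable def Atab_s_75_77 (c : Nat) : Nat := @Bool.rec (fun _ => Nat) (Atab_75) (Atab_76) (Nat.ble 76 c)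
noncomputable def Atab_s_73_77 (c : Nat) : Nat := @Bool.rec (fun _ => Nat) (Atab_s_73_75 c) (Atab_s_75_77 c) (Nat.ble 75 c)
noncomputable def Atab_s_77_79 (c : Nat) : Nat := @Bool.rec (fun _ => Nat) (Atab_77) (Atab_78) (Nat.ble 78 c)
noncomputable def Atab_s_80_82 (c : Nat) : Nat := @Bool.rec (fun _ => Nat) (Atab_80) (Atab_81) (Nat.ble 81 c)
noncomputable def Atab_s_79_82 (c : Nat) : Nat := @Bool.rec (fun _ => Nat) (Atab_79) (Atab_s_80_82 c) (Nat.ble 80 c)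
noncomputable def Atab_s_77_82 (c : Nat) : Nat := @Bool.rec (fun _ => Nat) (Atab_s_77_79 c) (Atab_s_79_82 c) (Nat.ble 79 c)
noncomputable def Atab_s_73_82 (c : Nat) : Nat := @Bool.rec (fun _ => Nat) (Atab_s_73_77 c) (Atab_s_77_82 c) (Nat.ble 77 c)
noncomputable def Atab_s_82_84 (c : Nat) : Nat := @Bool.rec (fun _ => Nat) (Atab_82) (Atab_83) (Nat.ble 83 c)
noncomputable def Atab_s_84_86 (c : Nat) : Nat := @Bool.rec (fun _ => Nat) (Atab_84) (Atab_85) (Nat.ble 85 c)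
noncomputable def Atab_s_82_86 (c : Nat) : Nat := @Bool.rec (fun _ => Nat) (Atab_s_82_84 c) (Atab_s_84_86 c) (Nat.ble 84 c)
noncomputable def Atab_s_86_88 (c : Nat) : Nat := @Bool.rec (fun _ => Nat) (Atab_86) (Atab_87) (Nat.ble 87 c)
noncomputable def Atab_s_89_91 (c : Nat) : Nat := @Bool.rec (fun _ => Nat) (Atab_89) (Atab_90) (Nat.ble 90 c)
noncomputable def Atab_s_88_91 (c : Nat) : Nat := @Bool.rec (fun _ => Nat) (Atab_88) (Atab_s_89_91 c) (Nat.ble 89 c)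
noncomputable def Atab_s_86_91 (c : Nat) : Nat := @Bool.rec (fun _ => Nat) (Atab_s_86_88 c) (Atab_s_88_91 c) (Nat.ble 88 c)
noncomputable def Atab_s_82_91 (c : Nat) : Nat := @Bool.rec (fun _ => Nat) (Atab_s_82_86 c) (Atab_s_86_91 c) (Nat.ble 86 c)
noncomputable def Atab_s_73_91 (c : Nat) : Nat := @Bool.rec (fun _ => Nat) (Atab_s_73_82 c) (Atab_s_82_91 c) (Nat.ble 82 c)
noncomputable def Atab_s_91_93 (c : Nat) : Nat := @Bool.rec (fun _ => Nat) (Atab_91) (Atab_92) (Nat.ble 92 c)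
noncomputable def Atab_s_93_95 (c : Nat) : Nat := @Bool.rec (fun _ => Nat) (Atab_93) (Atab_94) (Nat.ble 94 c)
noncomputable def Atab_s_91_95 (c : Nat) : Nat := @Bool.rec (fun _ => Nat) (Atab_s_91_93 c) (Atab_s_93_95 c) (Nat.ble 93 c)
noncomputable def Atab_s_95_97 (c : Nat) : Nat := @Bool.rec (fun _ => Nat) (Atab_95) (Atab_96) (Nat.ble 96 c)
noncomputable def Atab_s_98_100 (c : Nat) : Nat := @Bool.rec (fun _ => Nat) (Atab_98) (Atab_99) (Nat.ble 99 c)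
noncomputable def Atab_s_97_100 (c : Nat) : Nat := @Bool.rec (fun _ => Nat) (Atab_97) (Atab_s_98_100 c) (Nat.ble 98 c)
noncomputable def Atab_s_95_100 (c : Nat) : Nat := @Bool.rec (fun _ => Nat) (Atab_s_95_97 c) (Atab_s_97_100 c) (Nat.ble 97 c)
noncomputable def Atab_s_91_100 (c : Nat) : Nat := @Bool.rec (fun _ => Nat) (Atab_s_91_95 c) (Atab_s_95_100 c) (Nat.ble 95 c)
noncomputable def Atab_s_100_102 (c : Nat) : Nat := @Bool.rec (fun _ => Nat) (Atab_100) (Atab_101) (Nat.ble 101 c)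
noncomputable def Atab_s_102_104 (c : Nat) : Nat := @Bool.rec (fun _ => Nat) (Atab_102) (Atab_103) (Nat.ble 103 c)
noncomputable def Atab_s_100_104 (c : Nat) : Nat := @Bool.rec (fun _ => Nat) (Atab_s_100_102 c) (Atab_s_102_104 c) (Nat.ble 102 c)
noncomputable def Atab_s_104_106 (c : Nat) : Nat := @Bool.rec (fun _ => Nat) (Atab_104) (Atab_105) (Nat.ble 105 c)
noncomputable def Atab_s_107_109 (c : Nat) : Nat := @Bool.rec (fun _ => Nat) (Atab_107) (Atab_108) (Nat.ble 108 c)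
noncomputable def Atab_s_106_109 (c : Nat) : Nat := @Bool.rec (fun _ => Nat) (Atab_106) (Atab_s_107_109 c) (Nat.ble 107 c)
noncomputable def Atab_s_104_109 (c : Nat) : Nat := @Bool.rec (fun _ => Nat) (Atab_s_104_106 c) (Atab_s_106_109 c) (Nat.ble 106 c)
noncomputable def Atab_s_100_109 (c : Nat) : Nat := @Bool.rec (fun _ => Nat) (Atab_s_100_104 c) (Atab_s_104_109 c) (Nat.ble 104 c)
noncomputable def Atab_s_91_109 (c : Nat) : Nat := @Bool.rec (fun _ => Nat) (Atab_s_91_100 c) (Atab_s_100_109 c) (Nat.ble 100 c)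
noncomputable def Atab_s_73_109 (c : Nat) : Nat := @Bool.rec (fun _ => Nat) (Atab_s_73_91 c) (Atab_s_91_109 c) (Nat.ble 91 c)
noncomputable def Atab_s_109_111 (c : Nat) : Nat := @Bool.rec (fun _ => Nat) (Atab_109) (Atab_110) (Nat.ble 110 c)
noncomputable def Atab_s_111_113 (c : Nat) : Nat := @Bool.rec (fun _ => Nat) (Atab_111) (Atab_112) (Nat.ble 112 c)
noncomputable def Atab_s_109_113 (c : Nat) : Nat := @Bool.rec (fun _ => Nat) (Atab_s_109_111 c) (Atab_s_111_113 c) (Nat.ble 111 c)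
noncomputable def Atab_s_113_115 (c : Nat) : Nat := @Bool.rec (fun _ => Nat) (Atab_113) (Atab_114) (Nat.ble 114 c)
noncomputable def Atab_s_116_118 (c : Nat) : Nat := @Bool.rec (fun _ => Nat) (Atab_116) (Atab_117) (Nat.ble 117 c)
noncomputable def Atab_s_115_118 (c : Nat) : Nat := @Bool.rec (fun _ => Nat) (Atab_115) (Atab_s_116_118 c) (Nat.ble 116 c)
noncomputable def Atab_s_113_118 (c : Nat) : Nat := @Bool.rec (fun _ => Nat) (Atab_s_113_115 c) (Atab_s_115_118 c) (Nat.ble 115 c)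
noncomputable def Atab_s_109_118 (c : Nat) : Nat := @Bool.rec (fun _ => Nat) (Atab_s_109_113 c) (Atab_s_113_118 c) (Nat.ble 113 c)
noncomputable def Atab_s_118_120 (c : Nat) : Nat := @Bool.rec (fun _ => Nat) (Atab_118) (Atab_119) (Nat.ble 119 c)
noncomputable def Atab_s_120_122 (c : Nat) : Nat := @Bool.rec (fun _ => Nat) (Atab_120) (Atab_121) (Nat.ble 121 c)
noncomputable def Atab_s_118_122 (c : Nat) : Nat := @Bool.rec (fun _ => Nat) (Atab_s_118_120 c) (Atab_s_120_122 c) (Nat.ble 120 c)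
noncomputable def Atab_s_122_124 (c : Nat) : Nat := @Bool.rec (fun _ => Nat) (Atab_122) (Atab_123) (Nat.ble 123 c)
noncomputable def Atab_s_125_127 (c : Nat) : Nat := @Bool.rec (fun _ => Nat) (Atab_125) (Atab_126) (Nat.ble 126 c)
noncomputable def Atab_s_124_127 (c : Nat) : Nat := @Bool.rec (fun _ => Nat) (Atab_124) (Atab_s_125_127 c) (Nat.ble 125 c)
noncomputable def Atab_s_122_127 (c : Nat) : Nat := @Bool.rec (fun _ => Nat) (Atab_s_122_124 c) (Atab_s_124_127 c) (Nat.ble 124 c)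
noncomputable def Atab_s_118_127 (c : Nat) : Nat := @Bool.rec (fun _ => Nat) (Atab_s_118_122 c) (Atab_s_122_127 c) (Nat.ble 122 c)
noncomputable def Atab_s_109_127 (c : Nat) : Nat := @Bool.rec (fun _ => Nat) (Atab_s_109_118 c) (Atab_s_118_127 c) (Nat.ble 118 c)
noncomputable def Atab_s_127_129 (c : Nat) : Nat := @Bool.rec (fun _ => Nat) (Atab_127) (Atab_128) (Nat.ble 128 c)
noncomputable def Atab_s_129_131 (c : Nat) : Nat := @Bool.rec (fun _ => Nat) (Atab_129) (Atab_130) (Nat.ble 130 c)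
noncomputable def Atab_s_127_131 (c : Nat) : Nat := @Bool.rec (fun _ => Nat) (Atab_s_127_129 c) (Atab_s_129_131 c) (Nat.ble 129 c)
noncomputable def Atab_s_131_133 (c : Nat) : Nat := @Bool.rec (fun _ => Nat) (Atab_131) (Atab_132) (Nat.ble 132 c)
noncomputable def Atab_s_134_136 (c : Nat) : Nat := @Bool.rec (fun _ => Nat) (Atab_134) (Atab_135) (Nat.ble 135 c)
noncomputable def Atab_s_133_136 (c : Nat) : Nat := @Bool.rec (fun _ => Nat) (Atab_133) (Atab_s_134_136 c) (Nat.ble 134 c)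
noncomputable def Atab_s_131_136 (c : Nat) : Nat := @Bool.rec (fun _ => Nat) (Atab_s_131_133 c) (Atab_s_133_136 c) (Nat.ble 133 c)
noncomputable def Atab_s_127_136 (c : Nat) : Nat := @Bool.rec (fun _ => Nat) (Atab_s_127_131 c) (Atab_s_131_136 c) (Nat.ble 131 c)
noncomputable def Atab_s_136_138 (c : Nat) : Nat := @Bool.rec (fun _ => Nat) (Atab_136) (Atab_137) (Nat.ble 137 c)
noncomputable def Atab_s_139_141 (c : Nat) : Nat := @Bool.rec (fun _ => Nat) (Atab_139) (Atab_140) (Nat.ble 140 c)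
noncomputable def Atab_s_138_141 (c : Nat) : Nat := @Bool.rec (fun _ => Nat) (Atab_138) (Atab_s_139_141 c) (Nat.ble 139 c)
noncomputable def Atab_s_136_141 (c : Nat) : Nat := @Bool.rec (fun _ => Nat) (Atab_s_136_138 c) (Atab_s_138_141 c) (Nat.ble 138 c)
noncomputable def Atab_s_141_143 (c : Nat) : Nat := @Bool.rec (fun _ => Nat) (Atab_141) (Atab_142) (Nat.ble 142 c)
noncomputable def Atab_s_144_146 (c : Nat) : Nat := @Bool.rec (fun _ => Nat) (Atab_144) (Atab_145) (Nat.ble 145 c)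
noncomputable def Atab_s_143_146 (c : Nat) : Nat := @Bool.rec (fun _ => Nat) (Atab_143) (Atab_s_144_146 c) (Nat.ble 144 c)
noncomputable def Atab_s_141_146 (c : Nat) : Nat := @Bool.rec (fun _ => Nat) (Atab_s_141_143 c) (Atab_s_143_146 c) (Nat.ble 143 c)
noncomputable def Atab_s_136_146 (c : Nat) : Nat := @Bool.rec (fun _ => Nat) (Atab_s_136_141 c) (Atab_s_141_146 c) (Nat.ble 141 c)
noncomputable def Atab_s_127_146 (c : Nat) : Nat := @Bool.rec (fun _ => Nat) (Atab_s_127_136 c) (Atab_s_136_146 c) (Nat.ble 136 c)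
noncomputable def Atab_s_109_146 (c : Nat) : Nat := @Bool.rec (fun _ => Nat) (Atab_s_109_127 c) (Atab_s_127_146 c) (Nat.ble 127 c)
noncomputable def Atab_s_73_146 (c : Nat) : Nat := @Bool.rec (fun _ => Nat) (Atab_s_73_109 c) (Atab_s_109_146 c) (Nat.ble 109 c)
noncomputable def Atab_s_0_146 (c : Nat) : Nat := @Bool.rec (fun _ => Nat) (Atab_s_0_73 c) (Atab_s_73_146 c) (Nat.ble 73 c)
noncomputable def Atab_s_146_148 (c : Nat) : Nat := @Bool.rec (fun _ => Nat) (Atab_146) (Atab_147) (Nat.ble 147 c)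
noncomputable def Atab_s_148_150 (c : Nat) : Nat := @Bool.rec (fun _ => Nat) (Atab_148) (Atab_149) (Nat.ble 149 c)
noncomputable def Atab_s_146_150 (c : Nat) : Nat := @Bool.rec (fun _ => Nat) (Atab_s_146_148 c) (Atab_s_148_150 c) (Nat.ble 148 c)
noncomputable def Atab_s_150_152 (c : Nat) : Nat := @Bool.rec (fun _ => Nat) (Atab_150) (Atab_151) (Nat.ble 151 c)
noncomputable def Atab_s_153_155 (c : Nat) : Nat := @Bool.rec (fun _ => Nat) (Atab_153) (Atab_154) (Nat.ble 154 c)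
noncomputable def Atab_s_152_155 (c : Nat) : Nat := @Bool.rec (fun _ => Nat) (Atab_152) (Atab_s_153_155 c) (Nat.ble 153 c)
noncomputable def Atab_s_150_155 (c : Nat) : Nat := @Bool.rec (fun _ => Nat) (Atab_s_150_152 c) (Atab_s_152_155 c) (Nat.ble 152 c)
noncomputable def Atab_s_146_155 (c : Nat) : Nat := @Bool.rec (fun _ => Nat) (Atab_s_146_150 c) (Atab_s_150_155 c) (Nat.ble 150 c)
noncomputable def Atab_s_155_157 (c : Nat) : Nat := @Bool.rec (fun _ => Nat) (Atab_155) (Atab_156) (Nat.ble 156 c)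
noncomputable def Atab_s_157_159 (c : Nat) : Nat := @Bool.rec (fun _ => Nat) (Atab_157) (Atab_158) (Nat.ble 158 c)
noncomputable def Atab_s_155_159 (c : Nat) : Nat := @Bool.rec (fun _ => Nat) (Atab_s_155_157 c) (Atab_s_157_159 c) (Nat.ble 157 c)
noncomputable def Atab_s_159_161 (c : Nat) : Nat := @Bool.rec (fun _ => Nat) (Atab_159) (Atab_160) (Nat.ble 160 c)
noncomputable def Atab_s_162_164 (c : Nat) : Nat := @Bool.rec (fun _ => Nat) (Atab_162) (Atab_163) (Nat.ble 163 c)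
noncomputable def Atab_s_161_164 (c : Nat) : Nat := @Bool.rec (fun _ => Nat) (Atab_161) (Atab_s_162_164 c) (Nat.ble 162 c)
noncomputable def Atab_s_159_164 (c : Nat) : Nat := @Bool.rec (fun _ => Nat) (Atab_s_159_161 c) (Atab_s_161_164 c) (Nat.ble 161 c)
noncomputable def Atab_s_155_164 (c : Nat) : Nat := @Bool.rec (fun _ => Nat) (Atab_s_155_159 c) (Atab_s_159_164 c) (Nat.ble 159 c)
noncomputable def Atab_s_146_164 (c : Nat) : Nat := @Bool.rec (fun _ => Nat) (Atab_s_146_155 c) (Atab_s_155_164 c) (Nat.ble 155 c)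
noncomputable def Atab_s_164_166 (c : Nat) : Nat := @Bool.rec (fun _ => Nat) (Atab_164) (Atab_165) (Nat.ble 165 c)
noncomputable def Atab_s_166_168 (c : Nat) : Nat := @Bool.rec (fun _ => Nat) (Atab_166) (Atab_167) (Nat.ble 167 c)
noncomputable def Atab_s_164_168 (c : Nat) : Nat := @Bool.rec (fun _ => Nat) (Atab_s_164_166 c) (Atab_s_166_168 c) (Nat.ble 166 c)
noncomputable def Atab_s_168_170 (c : Nat) : Nat := @Bool.rec (fun _ => Nat) (Atab_168) (Atab_169) (Nat.ble 169 c)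
noncomputable def Atab_s_171_173 (c : Nat) : Nat := @Bool.rec (fun _ => Nat) (Atab_171) (Atab_172) (Nat.ble 172 c)
noncomputable def Atab_s_170_173 (c : Nat) : Nat := @Bool.rec (fun _ => Nat) (Atab_170) (Atab_s_171_173 c) (Nat.ble 171 c)
noncomputable def Atab_s_168_173 (c : Nat) : Nat := @Bool.rec (fun _ => Nat) (Atab_s_168_170 c) (Atab_s_170_173 c) (Nat.ble 170 c)
noncomputable def Atab_s_164_173 (c : Nat) : Nat := @Bool.rec (fun _ => Nat) (Atab_s_164_168 c) (Atab_s_168_173 c) (Nat.ble 168 c)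
noncomputable def Atab_s_173_175 (c : Nat) : Nat := @Bool.rec (fun _ => Nat) (Atab_173) (Atab_174) (Nat.ble 174 c)
noncomputable def Atab_s_175_177 (c : Nat) : Nat := @Bool.rec (fun _ => Nat) (Atab_175) (Atab_176) (Nat.ble 176 c)
noncomputable def Atab_s_173_177 (c : Nat) : Nat := @Bool.rec (fun _ => Nat) (Atab_s_173_175 c) (Atab_s_175_177 c) (Nat.ble 175 c)
noncomputable def Atab_s_177_179 (c : Nat) : Nat := @Bool.rec (fun _ => Nat) (Atab_177) (Atab_178) (Nat.ble 178 c)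
noncomputable def Atab_s_180_182 (c : Nat) : Nat := @Bool.rec (fun _ => Nat) (Atab_180) (Atab_181) (Nat.ble 181 c)
noncomputable def Atab_s_179_182 (c : Nat) : Nat := @Bool.rec (fun _ => Nat) (Atab_179) (Atab_s_180_182 c) (Nat.ble 180 c)
noncomputable def Atab_s_177_182 (c : Nat) : Nat := @Bool.rec (fun _ => Nat) (Atab_s_177_179 c) (Atab_s_179_182 c) (Nat.ble 179 c)
noncomputable def Atab_s_173_182 (c : Nat) : Nat := @Bool.rec (fun _ => Nat) (Atab_s_173_177 c) (Atab_s_177_182 c) (Nat.ble 177 c)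
noncomputable def Atab_s_164_182 (c : Nat) : Nat := @Bool.rec (fun _ => Nat) (Atab_s_164_173 c) (Atab_s_173_182 c) (Nat.ble 173 c)
noncomputable def Atab_s_146_182 (c : Nat) : Nat := @Bool.rec (fun _ => Nat) (Atab_s_146_164 c) (Atab_s_164_182 c) (Nat.ble 164 c)
noncomputable def Atab_s_182_184 (c : Nat) : Nat := @Bool.rec (fun _ => Nat) (Atab_182) (Atab_183) (Nat.ble 183 c)
noncomputable def Atab_s_184_186 (c : Nat) : Nat := @Bool.rec (fun _ => Nat) (Atab_184) (Atab_185) (Nat.ble 185 c)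
noncomputable def Atab_s_182_186 (c : Nat) : Nat := @Bool.rec (fun _ => Nat) (Atab_s_182_184 c) (Atab_s_184_186 c) (Nat.ble 184 c)
noncomputable def Atab_s_186_188 (c : Nat) : Nat := @Bool.rec (fun _ => Nat) (Atab_186) (Atab_187) (Nat.ble 187 c)
noncomputable def Atab_s_189_191 (c : Nat) : Nat := @Bool.rec (fun _ => Nat) (Atab_189) (Atab_190) (Nat.ble 190 c)
noncomputable def Atab_s_188_191 (c : Nat) : Nat := @Bool.rec (fun _ => Nat) (Atab_188) (Atab_s_189_191 c) (Nat.ble 189 c)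
noncomputable def Atab_s_186_191 (c : Nat) : Nat := @Bool.rec (fun _ => Nat) (Atab_s_186_188 c) (Atab_s_188_191 c) (Nat.ble 188 c)
noncomputable def Atab_s_182_191 (c : Nat) : Nat := @Bool.rec (fun _ => Nat) (Atab_s_182_186 c) (Atab_s_186_191 c) (Nat.ble 186 c)
noncomputable def Atab_s_191_193 (c : Nat) : Nat := @Bool.rec (fun _ => Nat) (Atab_191) (Atab_192) (Nat.ble 192 c)
noncomputable def Atab_s_193_195 (c : Nat) : Nat := @Bool.rec (fun _ => Nat) (Atab_193) (Atab_194) (Nat.ble 194 c)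
noncomputable def Atab_s_191_195 (c : Nat) : Nat := @Bool.rec (fun _ => Nat) (Atab_s_191_193 c) (Atab_s_193_195 c) (Nat.ble 193 c)
noncomputable def Atab_s_195_197 (c : Nat) : Nat := @Bool.rec (fun _ => Nat) (Atab_195) (Atab_196) (Nat.ble 196 c)
noncomputable def Atab_s_198_200 (c : Nat) : Nat := @Bool.rec (fun _ => Nat) (Atab_198) (Atab_199) (Nat.ble 199 c)
noncomputable def Atab_s_197_200 (c : Nat) : Nat := @Bool.rec (fun _ => Nat) (Atab_197) (Atab_s_198_200 c) (Nat.ble 198 c)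
noncomputable def Atab_s_195_200 (c : Nat) : Nat := @Bool.rec (fun _ => Nat) (Atab_s_195_197 c) (Atab_s_197_200 c) (Nat.ble 197 c)
noncomputable def Atab_s_191_200 (c : Nat) : Nat := @Bool.rec (fun _ => Nat) (Atab_s_191_195 c) (Atab_s_195_200 c) (Nat.ble 195 c)
noncomputable def Atab_s_182_200 (c : Nat) : Nat := @Bool.rec (fun _ => Nat) (Atab_s_182_191 c) (Atab_s_191_200 c) (Nat.ble 191 c)
noncomputable def Atab_s_200_202 (c : Nat) : Nat := @Bool.rec (fun _ => Nat) (Atab_200) (Atab_201) (Nat.ble 201 c)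
noncomputable def Atab_s_202_204 (c : Nat) : Nat := @Bool.rec (fun _ => Nat) (Atab_202) (Atab_203) (Nat.ble 203 c)
noncomputable def Atab_s_200_204 (c : Nat) : Nat := @Bool.rec (fun _ => Nat) (Atab_s_200_202 c) (Atab_s_202_204 c) (Nat.ble 202 c)
noncomputable def Atab_s_204_206 (c : Nat) : Nat := @Bool.rec (fun _ => Nat) (Atab_204) (Atab_205) (Nat.ble 205 c)
noncomputable def Atab_s_207_209 (c : Nat) : Nat := @Bool.rec (fun _ => Nat) (Atab_207) (Atab_208) (Nat.ble 208 c)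
noncomputable def Atab_s_206_209 (c : Nat) : Nat := @Bool.rec (fun _ => Nat) (Atab_206) (Atab_s_207_209 c) (Nat.ble 207 c)
noncomputable def Atab_s_204_209 (c : Nat) : Nat := @Bool.rec (fun _ => Nat) (Atab_s_204_206 c) (Atab_s_206_209 c) (Nat.ble 206 c)
noncomputable def Atab_s_200_209 (c : Nat) : Nat := @Bool.rec (fun _ => Nat) (Atab_s_200_204 c) (Atab_s_204_209 c) (Nat.ble 204 c)
noncomputable def Atab_s_209_211 (c : Nat) : Nat := @Bool.rec (fun _ => Nat) (Atab_209) (Atab_210) (Nat.ble 210 c)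
noncomputable def Atab_s_212_214 (c : Nat) : Nat := @Bool.rec (fun _ => Nat) (Atab_212) (Atab_213) (Nat.ble 213 c)
noncomputable def Atab_s_211_214 (c : Nat) : Nat := @Bool.rec (fun _ => Nat) (Atab_211) (Atab_s_212_214 c) (Nat.ble 212 c)
noncomputable def Atab_s_209_214 (c : Nat) : Nat := @Bool.rec (fun _ => Nat) (Atab_s_209_211 c) (Atab_s_211_214 c) (Nat.ble 211 c)
noncomputable def Atab_s_214_216 (c : Nat) : Nat := @Bool.rec (fun _ => Nat) (Atab_214) (Atab_215) (Nat.ble 215 c)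
noncomputable def Atab_s_217_219 (c : Nat) : Nat := @Bool.rec (fun _ => Nat) (Atab_217) (Atab_218) (Nat.ble 218 c)
noncomputable def Atab_s_216_219 (c : Nat) : Nat := @Bool.rec (fun _ => Nat) (Atab_216) (Atab_s_217_219 c) (Nat.ble 217 c)
noncomputable def Atab_s_214_219 (c : Nat) : Nat := @Bool.rec (fun _ => Nat) (Atab_s_214_216 c) (Atab_s_216_219 c) (Nat.ble 216 c)
noncomputable def Atab_s_209_219 (c : Nat) : Nat := @Bool.rec (fun _ => Nat) (Atab_s_209_214 c) (Atab_s_214_219 c) (Nat.ble 214 c)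
noncomputable def Atab_s_200_219 (c : Nat) : Nat := @Bool.rec (fun _ => Nat) (Atab_s_200_209 c) (Atab_s_209_219 c) (Nat.ble 209 c)
noncomputable def Atab_s_182_219 (c : Nat) : Nat := @Bool.rec (fun _ => Nat) (Atab_s_182_200 c) (Atab_s_200_219 c) (Nat.ble 200 c)
noncomputable def Atab_s_146_219 (c : Nat) : Nat := @Bool.rec (fun _ => Nat) (Atab_s_146_182 c) (Atab_s_182_219 c) (Nat.ble 182 c)
noncomputable def Atab_s_219_221 (c : Nat) : Nat := @Bool.rec (fun _ => Nat) (Atab_219) (Atab_220) (Nat.ble 220 c)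
noncomputable def Atab_s_221_223 (c : Nat) : Nat := @Bool.rec (fun _ => Nat) (Atab_221) (Atab_222) (Nat.ble 222 c)
noncomputable def Atab_s_219_223 (c : Nat) : Nat := @Bool.rec (fun _ => Nat) (Atab_s_219_221 c) (Atab_s_221_223 c) (Nat.ble 221 c)
noncomputable def Atab_s_223_225 (c : Nat) : Nat := @Bool.rec (fun _ => Nat) (Atab_223) (Atab_224) (Nat.ble 224 c)
noncomputable def Atab_s_226_228 (c : Nat) : Nat := @Bool.rec (fun _ => Nat) (Atab_226) (Atab_227) (Nat.ble 227 c)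
noncomputable def Atab_s_225_228 (c : Nat) : Nat := @Bool.rec (fun _ => Nat) (Atab_225) (Atab_s_226_228 c) (Nat.ble 226 c)
noncomputable def Atab_s_223_228 (c : Nat) : Nat := @Bool.rec (fun _ => Nat) (Atab_s_223_225 c) (Atab_s_225_228 c) (Nat.ble 225 c)
noncomputable def Atab_s_219_228 (c : Nat) : Nat := @Bool.rec (fun _ => Nat) (Atab_s_219_223 c) (Atab_s_223_228 c) (Nat.ble 223 c)
noncomputable def Atab_s_228_230 (c : Nat) : Nat := @Bool.rec (fun _ => Nat) (Atab_228) (Atab_229) (Nat.ble 229 c)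
noncomputable def Atab_s_230_232 (c : Nat) : Nat := @Bool.rec (fun _ => Nat) (Atab_230) (Atab_231) (Nat.ble 231 c)
noncomputable def Atab_s_228_232 (c : Nat) : Nat := @Bool.rec (fun _ => Nat) (Atab_s_228_230 c) (Atab_s_230_232 c) (Nat.ble 230 c)
noncomputable def Atab_s_232_234 (c : Nat) : Nat := @Bool.rec (fun _ => Nat) (Atab_232) (Atab_233) (Nat.ble 233 c)
noncomputable def Atab_s_235_237 (c : Nat) : Nat := @Bool.rec (fun _ => Nat) (Atab_235) (Atab_236) (Nat.ble 236 c)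
noncomputable def Atab_s_234_237 (c : Nat) : Nat := @Bool.rec (fun _ => Nat) (Atab_234) (Atab_s_235_237 c) (Nat.ble 235 c)
noncomputable def Atab_s_232_237 (c : Nat) : Nat := @Bool.rec (fun _ => Nat) (Atab_s_232_234 c) (Atab_s_234_237 c) (Nat.ble 234 c)
noncomputable def Atab_s_228_237 (c : Nat) : Nat := @Bool.rec (fun _ => Nat) (Atab_s_228_232 c) (Atab_s_232_237 c) (Nat.ble 232 c)
noncomputable def Atab_s_219_237 (c : Nat) : Nat := @Bool.rec (fun _ => Nat) (Atab_s_219_228 c) (Atab_s_228_237 c) (Nat.ble 228 c)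
noncomputable def Atab_s_237_239 (c : Nat) : Nat := @Bool.rec (fun _ => Nat) (Atab_237) (Atab_238) (Nat.ble 238 c)
noncomputable def Atab_s_239_241 (c : Nat) : Nat := @Bool.rec (fun _ => Nat) (Atab_239) (Atab_240) (Nat.ble 240 c)
noncomputable def Atab_s_237_241 (c : Nat) : Nat := @Bool.rec (fun _ => Nat) (Atab_s_237_239 c) (Atab_s_239_241 c) (Nat.ble 239 c)
noncomputable def Atab_s_241_243 (c : Nat) : Nat := @Bool.rec (fun _ => Nat) (Atab_241) (Atab_242) (Nat.ble 242 c)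
noncomputable def Atab_s_244_246 (c : Nat) : Nat := @Bool.rec (fun _ => Nat) (Atab_244) (Atab_245) (Nat.ble 245 c)
noncomputable def Atab_s_243_246 (c : Nat) : Nat := @Bool.rec (fun _ => Nat) (Atab_243) (Atab_s_244_246 c) (Nat.ble 244 c)
noncomputable def Atab_s_241_246 (c : Nat) : Nat := @Bool.rec (fun _ => Nat) (Atab_s_241_243 c) (Atab_s_243_246 c) (Nat.ble 243 c)
noncomputable def Atab_s_237_246 (c : Nat) : Nat := @Bool.rec (fun _ => Nat) (Atab_s_237_241 c) (Atab_s_241_246 c) (Nat.ble 241 c)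
noncomputable def Atab_s_246_248 (c : Nat) : Nat := @Bool.rec (fun _ => Nat) (Atab_246) (Atab_247) (Nat.ble 247 c)
noncomputable def Atab_s_249_251 (c : Nat) : Nat := @Bool.rec (fun _ => Nat) (Atab_249) (Atab_250) (Nat.ble 250 c)
noncomputable def Atab_s_248_251 (c : Nat) : Nat := @Bool.rec (fun _ => Nat) (Atab_248) (Atab_s_249_251 c) (Nat.ble 249 c)
noncomputable def Atab_s_246_251 (c : Nat) : Nat := @Bool.rec (fun _ => Nat) (Atab_s_246_248 c) (Atab_s_248_251 c) (Nat.ble 248 c)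
noncomputable def Atab_s_251_253 (c : Nat) : Nat := @Bool.rec (fun _ => Nat) (Atab_251) (Atab_252) (Nat.ble 252 c)
noncomputable def Atab_s_254_256 (c : Nat) : Nat := @Bool.rec (fun _ => Nat) (Atab_254) (Atab_255) (Nat.ble 255 c)
noncomputable def Atab_s_253_256 (c : Nat) : Nat := @Bool.rec (fun _ => Nat) (Atab_253) (Atab_s_254_256 c) (Nat.ble 254 c)
noncomputable def Atab_s_251_256 (c : Nat) : Nat := @Bool.rec (fun _ => Nat) (Atab_s_251_253 c) (Atab_s_253_256 c) (Nat.ble 253 c)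
noncomputable def Atab_s_246_256 (c : Nat) : Nat := @Bool.rec (fun _ => Nat) (Atab_s_246_251 c) (Atab_s_251_256 c) (Nat.ble 251 c)
noncomputable def Atab_s_237_256 (c : Nat) : Nat := @Bool.rec (fun _ => Nat) (Atab_s_237_246 c) (Atab_s_246_256 c) (Nat.ble 246 c)
noncomputable def Atab_s_219_256 (c : Nat) : Nat := @Bool.rec (fun _ => Nat) (Atab_s_219_237 c) (Atab_s_237_256 c) (Nat.ble 237 c)
noncomputable def Atab_s_256_258 (c : Nat) : Nat := @Bool.rec (fun _ => Nat) (Atab_256) (Atab_257) (Nat.ble 257 c)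
noncomputable def Atab_s_258_260 (c : Nat) : Nat := @Bool.rec (fun _ => Nat) (Atab_258) (Atab_259) (Nat.ble 259 c)
noncomputable def Atab_s_256_260 (c : Nat) : Nat := @Bool.rec (fun _ => Nat) (Atab_s_256_258 c) (Atab_s_258_260 c) (Nat.ble 258 c)
noncomputable def Atab_s_260_262 (c : Nat) : Nat := @Bool.rec (fun _ => Nat) (Atab_260) (Atab_261) (Nat.ble 261 c)
noncomputable def Atab_s_263_265 (c : Nat) : Nat := @Bool.rec (fun _ => Nat) (Atab_263) (Atab_264) (Nat.ble 264 c)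
noncomputable def Atab_s_262_265 (c : Nat) : Nat := @Bool.rec (fun _ => Nat) (Atab_262) (Atab_s_263_265 c) (Nat.ble 263 c)
noncomputable def Atab_s_260_265 (c : Nat) : Nat := @Bool.rec (fun _ => Nat) (Atab_s_260_262 c) (Atab_s_262_265 c) (Nat.ble 262 c)
noncomputable def Atab_s_256_265 (c : Nat) : Nat := @Bool.rec (fun _ => Nat) (Atab_s_256_260 c) (Atab_s_260_265 c) (Nat.ble 260 c)
noncomputable def Atab_s_265_267 (c : Nat) : Nat := @Bool.rec (fun _ => Nat) (Atab_265) (Atab_266) (Nat.ble 266 c)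
noncomputable def Atab_s_267_269 (c : Nat) : Nat := @Bool.rec (fun _ => Nat) (Atab_267) (Atab_268) (Nat.ble 268 c)
noncomputable def Atab_s_265_269 (c : Nat) : Nat := @Bool.rec (fun _ => Nat) (Atab_s_265_267 c) (Atab_s_267_269 c) (Nat.ble 267 c)
noncomputable def Atab_s_269_271 (c : Nat) : Nat := @Bool.rec (fun _ => Nat) (Atab_269) (Atab_270) (Nat.ble 270 c)
noncomputable def Atab_s_272_274 (c : Nat) : Nat := @Bool.rec (fun _ => Nat) (Atab_272) (Atab_273) (Nat.ble 273 c)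
noncomputable def Atab_s_271_274 (c : Nat) : Nat := @Bool.rec (fun _ => Nat) (Atab_271) (Atab_s_272_274 c) (Nat.ble 272 c)
noncomputable def Atab_s_269_274 (c : Nat) : Nat := @Bool.rec (fun _ => Nat) (Atab_s_269_271 c) (Atab_s_271_274 c) (Nat.ble 271 c)
noncomputable def Atab_s_265_274 (c : Nat) : Nat := @Bool.rec (fun _ => Nat) (Atab_s_265_269 c) (Atab_s_269_274 c) (Nat.ble 269 c)
noncomputable def Atab_s_256_274 (c : Nat) : Nat := @Bool.rec (fun _ => Nat) (Atab_s_256_265 c) (Atab_s_265_274 c) (Nat.ble 265 c)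
noncomputable def Atab_s_274_276 (c : Nat) : Nat := @Bool.rec (fun _ => Nat) (Atab_274) (Atab_275) (Nat.ble 275 c)
noncomputable def Atab_s_276_278 (c : Nat) : Nat := @Bool.rec (fun _ => Nat) (Atab_276) (Atab_277) (Nat.ble 277 c)
noncomputable def Atab_s_274_278 (c : Nat) : Nat := @Bool.rec (fun _ => Nat) (Atab_s_274_276 c) (Atab_s_276_278 c) (Nat.ble 276 c)
noncomputable def Atab_s_278_280 (c : Nat) : Nat := @Bool.rec (fun _ => Nat) (Atab_278) (Atab_279) (Nat.ble 279 c)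
noncomputable def Atab_s_281_283 (c : Nat) : Nat := @Bool.rec (fun _ => Nat) (Atab_281) (Atab_282) (Nat.ble 282 c)
noncomputable def Atab_s_280_283 (c : Nat) : Nat := @Bool.rec (fun _ => Nat) (Atab_280) (Atab_s_281_283 c) (Nat.ble 281 c)
noncomputable def Atab_s_278_283 (c : Nat) : Nat := @Bool.rec (fun _ => Nat) (Atab_s_278_280 c) (Atab_s_280_283 c) (Nat.ble 280 c)
noncomputable def Atab_s_274_283 (c : Nat) : Nat := @Bool.rec (fun _ => Nat) (Atab_s_274_278 c) (Atab_s_278_283 c) (Nat.ble 278 c)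
noncomputable def Atab_s_283_285 (c : Nat) : Nat := @Bool.rec (fun _ => Nat) (Atab_283) (Atab_284) (Nat.ble 284 c)
noncomputable def Atab_s_286_288 (c : Nat) : Nat := @Bool.rec (fun _ => Nat) (Atab_286) (Atab_287) (Nat.ble 287 c)
noncomputable def Atab_s_285_288 (c : Nat) : Nat := @Bool.rec (fun _ => Nat) (Atab_285) (Atab_s_286_288 c) (Nat.ble 286 c)
noncomputable def Atab_s_283_288 (c : Nat) : Nat := @Bool.rec (fun _ => Nat) (Atab_s_283_285 c) (Atab_s_285_288 c) (Nat.ble 285 c)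
noncomputable def Atab_s_288_290 (c : Nat) : Nat := @Bool.rec (fun _ => Nat) (Atab_288) (Atab_289) (Nat.ble 289 c)
noncomputable def Atab_s_291_293 (c : Nat) : Nat := @Bool.rec (fun _ => Nat) (Atab_291) (Atab_292) (Nat.ble 292 c)
noncomputable def Atab_s_290_293 (c : Nat) : Nat := @Bool.rec (fun _ => Nat) (Atab_290) (Atab_s_291_293 c) (Nat.ble 291 c)
noncomputable def Atab_s_288_293 (c : Nat) : Nat := @Bool.rec (fun _ => Nat) (Atab_s_288_290 c) (Atab_s_290_293 c) (Nat.ble 290 c)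
noncomputable def Atab_s_283_293 (c : Nat) : Nat := @Bool.rec (fun _ => Nat) (Atab_s_283_288 c) (Atab_s_288_293 c) (Nat.ble 288 c)
noncomputable def Atab_s_274_293 (c : Nat) : Nat := @Bool.rec (fun _ => Nat) (Atab_s_274_283 c) (Atab_s_283_293 c) (Nat.ble 283 c)
noncomputable def Atab_s_256_293 (c : Nat) : Nat := @Bool.rec (fun _ => Nat) (Atab_s_256_274 c) (Atab_s_274_293 c) (Nat.ble 274 c)
noncomputable def Atab_s_219_293 (c : Nat) : Nat := @Bool.rec (fun _ => Nat) (Atab_s_219_256 c) (Atab_s_256_293 c) (Nat.ble 256 c)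
noncomputable def Atab_s_146_293 (c : Nat) : Nat := @Bool.rec (fun _ => Nat) (Atab_s_146_219 c) (Atab_s_219_293 c) (Nat.ble 219 c)
noncomputable def Atab_s_0_293 (c : Nat) : Nat := @Bool.rec (fun _ => Nat) (Atab_s_0_146 c) (Atab_s_146_293 c) (Nat.ble 146 c)
noncomputable def Atab_s_293_295 (c : Nat) : Nat := @Bool.rec (fun _ => Nat) (Atab_293) (Atab_294) (Nat.ble 294 c)
noncomputable def Atab_s_295_297 (c : Nat) : Nat := @Bool.rec (fun _ => Nat) (Atab_295) (Atab_296) (Nat.ble 296 c)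
noncomputable def Atab_s_293_297 (c : Nat) : Nat := @Bool.rec (fun _ => Nat) (Atab_s_293_295 c) (Atab_s_295_297 c) (Nat.ble 295 c)
noncomputable def Atab_s_297_299 (c : Nat) : Nat := @Bool.rec (fun _ => Nat) (Atab_297) (Atab_298) (Nat.ble 298 c)
noncomputable def Atab_s_300_302 (c : Nat) : Nat := @Bool.rec (fun _ => Nat) (Atab_300) (Atab_301) (Nat.ble 301 c)
noncomputable def Atab_s_299_302 (c : Nat) : Nat := @Bool.rec (fun _ => Nat) (Atab_299) (Atab_s_300_302 c) (Nat.ble 300 c)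
noncomputable def Atab_s_297_302 (c : Nat) : Nat := @Bool.rec (fun _ => Nat) (Atab_s_297_299 c) (Atab_s_299_302 c) (Nat.ble 299 c)
noncomputable def Atab_s_293_302 (c : Nat) : Nat := @Bool.rec (fun _ => Nat) (Atab_s_293_297 c) (Atab_s_297_302 c) (Nat.ble 297 c)
noncomputable def Atab_s_302_304 (c : Nat) : Nat := @Bool.rec (fun _ => Nat) (Atab_302) (Atab_303) (Nat.ble 303 c)
noncomputable def Atab_s_304_306 (c : Nat) : Nat := @Bool.rec (fun _ => Nat) (Atab_304) (Atab_305) (Nat.ble 305 c)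
noncomputable def Atab_s_302_306 (c : Nat) : Nat := @Bool.rec (fun _ => Nat) (Atab_s_302_304 c) (Atab_s_304_306 c) (Nat.ble 304 c)
noncomputable def Atab_s_306_308 (c : Nat) : Nat := @Bool.rec (fun _ => Nat) (Atab_306) (Atab_307) (Nat.ble 307 c)
noncomputable def Atab_s_309_311 (c : Nat) : Nat := @Bool.rec (fun _ => Nat) (Atab_309) (Atab_310) (Nat.ble 310 c)
noncomputable def Atab_s_308_311 (c : Nat) : Nat := @Bool.rec (fun _ => Nat) (Atab_308) (Atab_s_309_311 c) (Nat.ble 309 c)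
noncomputable def Atab_s_306_311 (c : Nat) : Nat := @Bool.rec (fun _ => Nat) (Atab_s_306_308 c) (Atab_s_308_311 c) (Nat.ble 308 c)
noncomputable def Atab_s_302_311 (c : Nat) : Nat := @Bool.rec (fun _ => Nat) (Atab_s_302_306 c) (Atab_s_306_311 c) (Nat.ble 306 c)
noncomputable def Atab_s_293_311 (c : Nat) : Nat := @Bool.rec (fun _ => Nat) (Atab_s_293_302 c) (Atab_s_302_311 c) (Nat.ble 302 c)
noncomputable def Atab_s_311_313 (c : Nat) : Nat := @Bool.rec (fun _ => Nat) (Atab_311) (Atab_312) (Nat.ble 312 c)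
noncomputable def Atab_s_313_315 (c : Nat) : Nat := @Bool.rec (fun _ => Nat) (Atab_313) (Atab_314) (Nat.ble 314 c)
noncomputable def Atab_s_311_315 (c : Nat) : Nat := @Bool.rec (fun _ => Nat) (Atab_s_311_313 c) (Atab_s_313_315 c) (Nat.ble 313 c)
noncomputable def Atab_s_315_317 (c : Nat) : Nat := @Bool.rec (fun _ => Nat) (Atab_315) (Atab_316) (Nat.ble 316 c)
noncomputable def Atab_s_318_320 (c : Nat) : Nat := @Bool.rec (fun _ => Nat) (Atab_318) (Atab_319) (Nat.ble 319 c)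
noncomputable def Atab_s_317_320 (c : Nat) : Nat := @Bool.rec (fun _ => Nat) (Atab_317) (Atab_s_318_320 c) (Nat.ble 318 c)
noncomputable def Atab_s_315_320 (c : Nat) : Nat := @Bool.rec (fun _ => Nat) (Atab_s_315_317 c) (Atab_s_317_320 c) (Nat.ble 317 c)
noncomputable def Atab_s_311_320 (c : Nat) : Nat := @Bool.rec (fun _ => Nat) (Atab_s_311_315 c) (Atab_s_315_320 c) (Nat.ble 315 c)
noncomputable def Atab_s_320_322 (c : Nat) : Nat := @Bool.rec (fun _ => Nat) (Atab_320) (Atab_321) (Nat.ble 321 c)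
noncomputable def Atab_s_322_324 (c : Nat) : Nat := @Bool.rec (fun _ => Nat) (Atab_322) (Atab_323) (Nat.ble 323 c)
noncomputable def Atab_s_320_324 (c : Nat) : Nat := @Bool.rec (fun _ => Nat) (Atab_s_320_322 c) (Atab_s_322_324 c) (Nat.ble 322 c)
noncomputable def Atab_s_324_326 (c : Nat) : Nat := @Bool.rec (fun _ => Nat) (Atab_324) (Atab_325) (Nat.ble 325 c)
noncomputable def Atab_s_327_329 (c : Nat) : Nat := @Bool.rec (fun _ => Nat) (Atab_327) (Atab_328) (Nat.ble 328 c)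
noncomputable def Atab_s_326_329 (c : Nat) : Nat := @Bool.rec (fun _ => Nat) (Atab_326) (Atab_s_327_329 c) (Nat.ble 327 c)
noncomputable def Atab_s_324_329 (c : Nat) : Nat := @Bool.rec (fun _ => Nat) (Atab_s_324_326 c) (Atab_s_326_329 c) (Nat.ble 326 c)
noncomputable def Atab_s_320_329 (c : Nat) : Nat := @Bool.rec (fun _ => Nat) (Atab_s_320_324 c) (Atab_s_324_329 c) (Nat.ble 324 c)
noncomputable def Atab_s_311_329 (c : Nat) : Nat := @Bool.rec (fun _ => Nat) (Atab_s_311_320 c) (Atab_s_320_329 c) (Nat.ble 320 c)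
noncomputable def Atab_s_293_329 (c : Nat) : Nat := @Bool.rec (fun _ => Nat) (Atab_s_293_311 c) (Atab_s_311_329 c) (Nat.ble 311 c)
noncomputable def Atab_s_329_331 (c : Nat) : Nat := @Bool.rec (fun _ => Nat) (Atab_329) (Atab_330) (Nat.ble 330 c)
noncomputable def Atab_s_331_333 (c : Nat) : Nat := @Bool.rec (fun _ => Nat) (Atab_331) (Atab_332) (Nat.ble 332 c)
noncomputable def Atab_s_329_333 (c : Nat) : Nat := @Bool.rec (fun _ => Nat) (Atab_s_329_331 c) (Atab_s_331_333 c) (Nat.ble 331 c)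
noncomputable def Atab_s_333_335 (c : Nat) : Nat := @Bool.rec (fun _ => Nat) (Atab_333) (Atab_334) (Nat.ble 334 c)
noncomputable def Atab_s_336_338 (c : Nat) : Nat := @Bool.rec (fun _ => Nat) (Atab_336) (Atab_337) (Nat.ble 337 c)
noncomputable def Atab_s_335_338 (c : Nat) : Nat := @Bool.rec (fun _ => Nat) (Atab_335) (Atab_s_336_338 c) (Nat.ble 336 c)
noncomputable def Atab_s_333_338 (c : Nat) : Nat := @Bool.rec (fun _ => Nat) (Atab_s_333_335 c) (Atab_s_335_338 c) (Nat.ble 335 c)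
noncomputable def Atab_s_329_338 (c : Nat) : Nat := @Bool.rec (fun _ => Nat) (Atab_s_329_333 c) (Atab_s_333_338 c) (Nat.ble 333 c)
noncomputable def Atab_s_338_340 (c : Nat) : Nat := @Bool.rec (fun _ => Nat) (Atab_338) (Atab_339) (Nat.ble 339 c)
noncomputable def Atab_s_340_342 (c : Nat) : Nat := @Bool.rec (fun _ => Nat) (Atab_340) (Atab_341) (Nat.ble 341 c)
noncomputable def Atab_s_338_342 (c : Nat) : Nat := @Bool.rec (fun _ => Nat) (Atab_s_338_340 c) (Atab_s_340_342 c) (Nat.ble 340 c)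
noncomputable def Atab_s_342_344 (c : Nat) : Nat := @Bool.rec (fun _ => Nat) (Atab_342) (Atab_343) (Nat.ble 343 c)
noncomputable def Atab_s_345_347 (c : Nat) : Nat := @Bool.rec (fun _ => Nat) (Atab_345) (Atab_346) (Nat.ble 346 c)
noncomputable def Atab_s_344_347 (c : Nat) : Nat := @Bool.rec (fun _ => Nat) (Atab_344) (Atab_s_345_347 c) (Nat.ble 345 c)
noncomputable def Atab_s_342_347 (c : Nat) : Nat := @Bool.rec (fun _ => Nat) (Atab_s_342_344 c) (Atab_s_344_347 c) (Nat.ble 344 c)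
noncomputable def Atab_s_338_347 (c : Nat) : Nat := @Bool.rec (fun _ => Nat) (Atab_s_338_342 c) (Atab_s_342_347 c) (Nat.ble 342 c)
noncomputable def Atab_s_329_347 (c : Nat) : Nat := @Bool.rec (fun _ => Nat) (Atab_s_329_338 c) (Atab_s_338_347 c) (Nat.ble 338 c)
noncomputable def Atab_s_347_349 (c : Nat) : Nat := @Bool.rec (fun _ => Nat) (Atab_347) (Atab_348) (Nat.ble 348 c)
noncomputable def Atab_s_349_351 (c : Nat) : Nat := @Bool.rec (fun _ => Nat) (Atab_349) (Atab_350) (Nat.ble 350 c)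
noncomputable def Atab_s_347_351 (c : Nat) : Nat := @Bool.rec (fun _ => Nat) (Atab_s_347_349 c) (Atab_s_349_351 c) (Nat.ble 349 c)
noncomputable def Atab_s_351_353 (c : Nat) : Nat := @Bool.rec (fun _ => Nat) (Atab_351) (Atab_352) (Nat.ble 352 c)
noncomputable def Atab_s_354_356 (c : Nat) : Nat := @Bool.rec (fun _ => Nat) (Atab_354) (Atab_355) (Nat.ble 355 c)
noncomputable def Atab_s_353_356 (c : Nat) : Nat := @Bool.rec (fun _ => Nat) (Atab_353) (Atab_s_354_356 c) (Nat.ble 354 c)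
noncomputable def Atab_s_351_356 (c : Nat) : Nat := @Bool.rec (fun _ => Nat) (Atab_s_351_353 c) (Atab_s_353_356 c) (Nat.ble 353 c)
noncomputable def Atab_s_347_356 (c : Nat) : Nat := @Bool.rec (fun _ => Nat) (Atab_s_347_351 c) (Atab_s_351_356 c) (Nat.ble 351 c)
noncomputable def Atab_s_356_358 (c : Nat) : Nat := @Bool.rec (fun _ => Nat) (Atab_356) (Atab_357) (Nat.ble 357 c)
noncomputable def Atab_s_359_361 (c : Nat) : Nat := @Bool.rec (fun _ => Nat) (Atab_359) (Atab_360) (Nat.ble 360 c)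
noncomputable def Atab_s_358_361 (c : Nat) : Nat := @Bool.rec (fun _ => Nat) (Atab_358) (Atab_s_359_361 c) (Nat.ble 359 c)
noncomputable def Atab_s_356_361 (c : Nat) : Nat := @Bool.rec (fun _ => Nat) (Atab_s_356_358 c) (Atab_s_358_361 c) (Nat.ble 358 c)
noncomputable def Atab_s_361_363 (c : Nat) : Nat := @Bool.rec (fun _ => Nat) (Atab_361) (Atab_362) (Nat.ble 362 c)
noncomputable def Atab_s_364_366 (c : Nat) : Nat := @Bool.rec (fun _ => Nat) (Atab_364) (Atab_365) (Nat.ble 365 c)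
noncomputable def Atab_s_363_366 (c : Nat) : Nat := @Bool.rec (fun _ => Nat) (Atab_363) (Atab_s_364_366 c) (Nat.ble 364 c)
noncomputable def Atab_s_361_366 (c : Nat) : Nat := @Bool.rec (fun _ => Nat) (Atab_s_361_363 c) (Atab_s_363_366 c) (Nat.ble 363 c)
noncomputable def Atab_s_356_366 (c : Nat) : Nat := @Bool.rec (fun _ => Nat) (Atab_s_356_361 c) (Atab_s_361_366 c) (Nat.ble 361 c)
noncomputable def Atab_s_347_366 (c : Nat) : Nat := @Bool.rec (fun _ => Nat) (Atab_s_347_356 c) (Atab_s_356_366 c) (Nat.ble 356 c)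
noncomputable def Atab_s_329_366 (c : Nat) : Nat := @Bool.rec (fun _ => Nat) (Atab_s_329_347 c) (Atab_s_347_366 c) (Nat.ble 347 c)
noncomputable def Atab_s_293_366 (c : Nat) : Nat := @Bool.rec (fun _ => Nat) (Atab_s_293_329 c) (Atab_s_329_366 c) (Nat.ble 329 c)
noncomputable def Atab_s_366_368 (c : Nat) : Nat := @Bool.rec (fun _ => Nat) (Atab_366) (Atab_367) (Nat.ble 367 c)
noncomputable def Atab_s_368_370 (c : Nat) : Nat := @Bool.rec (fun _ => Nat) (Atab_368) (Atab_369) (Nat.ble 369 c)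
noncomputable def Atab_s_366_370 (c : Nat) : Nat := @Bool.rec (fun _ => Nat) (Atab_s_366_368 c) (Atab_s_368_370 c) (Nat.ble 368 c)
noncomputable def Atab_s_370_372 (c : Nat) : Nat := @Bool.rec (fun _ => Nat) (Atab_370) (Atab_371) (Nat.ble 371 c)
noncomputable def Atab_s_373_375 (c : Nat) : Nat := @Bool.rec (fun _ => Nat) (Atab_373) (Atab_374) (Nat.ble 374 c)
noncomputable def Atab_s_372_375 (c : Nat) : Nat := @Bool.rec (fun _ => Nat) (Atab_372) (Atab_s_373_375 c) (Nat.ble 373 c)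
noncomputable def Atab_s_370_375 (c : Nat) : Nat := @Bool.rec (fun _ => Nat) (Atab_s_370_372 c) (Atab_s_372_375 c) (Nat.ble 372 c)
noncomputable def Atab_s_366_375 (c : Nat) : Nat := @Bool.rec (fun _ => Nat) (Atab_s_366_370 c) (Atab_s_370_375 c) (Nat.ble 370 c)
noncomputable def Atab_s_375_377 (c : Nat) : Nat := @Bool.rec (fun _ => Nat) (Atab_375) (Atab_376) (Nat.ble 376 c)
noncomputable def Atab_s_377_379 (c : Nat) : Nat := @Bool.rec (fun _ => Nat) (Atab_377) (Atab_378) (Nat.ble 378 c)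
noncomputable def Atab_s_375_379 (c : Nat) : Nat := @Bool.rec (fun _ => Nat) (Atab_s_375_377 c) (Atab_s_377_379 c) (Nat.ble 377 c)
noncomputable def Atab_s_379_381 (c : Nat) : Nat := @Bool.rec (fun _ => Nat) (Atab_379) (Atab_380) (Nat.ble 380 c)
noncomputable def Atab_s_382_384 (c : Nat) : Nat := @Bool.rec (fun _ => Nat) (Atab_382) (Atab_383) (Nat.ble 383 c)
noncomputable def Atab_s_381_384 (c : Nat) : Nat := @Bool.rec (fun _ => Nat) (Atab_381) (Atab_s_382_384 c) (Nat.ble 382 c)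
noncomputable def Atab_s_379_384 (c : Nat) : Nat := @Bool.rec (fun _ => Nat) (Atab_s_379_381 c) (Atab_s_381_384 c) (Nat.ble 381 c)
noncomputable def Atab_s_375_384 (c : Nat) : Nat := @Bool.rec (fun _ => Nat) (Atab_s_375_379 c) (Atab_s_379_384 c) (Nat.ble 379 c)
noncomputable def Atab_s_366_384 (c : Nat) : Nat := @Bool.rec (fun _ => Nat) (Atab_s_366_375 c) (Atab_s_375_384 c) (Nat.ble 375 c)
noncomputable def Atab_s_384_386 (c : Nat) : Nat := @Bool.rec (fun _ => Nat) (Atab_384) (Atab_385) (Nat.ble 385 c)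
noncomputable def Atab_s_386_388 (c : Nat) : Nat := @Bool.rec (fun _ => Nat) (Atab_386) (Atab_387) (Nat.ble 387 c)
noncomputable def Atab_s_384_388 (c : Nat) : Nat := @Bool.rec (fun _ => Nat) (Atab_s_384_386 c) (Atab_s_386_388 c) (Nat.ble 386 c)
noncomputable def Atab_s_388_390 (c : Nat) : Nat := @Bool.rec (fun _ => Nat) (Atab_388) (Atab_389) (Nat.ble 389 c)
noncomputable def Atab_s_391_393 (c : Nat) : Nat := @Bool.rec (fun _ => Nat) (Atab_391) (Atab_392) (Nat.ble 392 c)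
noncomputable def Atab_s_390_393 (c : Nat) : Nat := @Bool.rec (fun _ => Nat) (Atab_390) (Atab_s_391_393 c) (Nat.ble 391 c)
noncomputable def Atab_s_388_393 (c : Nat) : Nat := @Bool.rec (fun _ => Nat) (Atab_s_388_390 c) (Atab_s_390_393 c) (Nat.ble 390 c)
noncomputable def Atab_s_384_393 (c : Nat) : Nat := @Bool.rec (fun _ => Nat) (Atab_s_384_388 c) (Atab_s_388_393 c) (Nat.ble 388 c)
noncomputable def Atab_s_393_395 (c : Nat) : Nat := @Bool.rec (fun _ => Nat) (Atab_393) (Atab_394) (Nat.ble 394 c)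
noncomputable def Atab_s_395_397 (c : Nat) : Nat := @Bool.rec (fun _ => Nat) (Atab_395) (Atab_396) (Nat.ble 396 c)
noncomputable def Atab_s_393_397 (c : Nat) : Nat := @Bool.rec (fun _ => Nat) (Atab_s_393_395 c) (Atab_s_395_397 c) (Nat.ble 395 c)
noncomputable def Atab_s_397_399 (c : Nat) : Nat := @Bool.rec (fun _ => Nat) (Atab_397) (Atab_398) (Nat.ble 398 c)
noncomputable def Atab_s_400_402 (c : Nat) : Nat := @Bool.rec (fun _ => Nat) (Atab_400) (Atab_401) (Nat.ble 401 c)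
noncomputable def Atab_s_399_402 (c : Nat) : Nat := @Bool.rec (fun _ => Nat) (Atab_399) (Atab_s_400_402 c) (Nat.ble 400 c)
noncomputable def Atab_s_397_402 (c : Nat) : Nat := @Bool.rec (fun _ => Nat) (Atab_s_397_399 c) (Atab_s_399_402 c) (Nat.ble 399 c)
noncomputable def Atab_s_393_402 (c : Nat) : Nat := @Bool.rec (fun _ => Nat) (Atab_s_393_397 c) (Atab_s_397_402 c) (Nat.ble 397 c)
noncomputable def Atab_s_384_402 (c : Nat) : Nat := @Bool.rec (fun _ => Nat) (Atab_s_384_393 c) (Atab_s_393_402 c) (Nat.ble 393 c)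
noncomputable def Atab_s_366_402 (c : Nat) : Nat := @Bool.rec (fun _ => Nat) (Atab_s_366_384 c) (Atab_s_384_402 c) (Nat.ble 384 c)
noncomputable def Atab_s_402_404 (c : Nat) : Nat := @Bool.rec (fun _ => Nat) (Atab_402) (Atab_403) (Nat.ble 403 c)
noncomputable def Atab_s_404_406 (c : Nat) : Nat := @Bool.rec (fun _ => Nat) (Atab_404) (Atab_405) (Nat.ble 405 c)
noncomputable def Atab_s_402_406 (c : Nat) : Nat := @Bool.rec (fun _ => Nat) (Atab_s_402_404 c) (Atab_s_404_406 c) (Nat.ble 404 c)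
noncomputable def Atab_s_406_408 (c : Nat) : Nat := @Bool.rec (fun _ => Nat) (Atab_406) (Atab_407) (Nat.ble 407 c)
noncomputable def Atab_s_409_411 (c : Nat) : Nat := @Bool.rec (fun _ => Nat) (Atab_409) (Atab_410) (Nat.ble 410 c)
noncomputable def Atab_s_408_411 (c : Nat) : Nat := @Bool.rec (fun _ => Nat) (Atab_408) (Atab_s_409_411 c) (Nat.ble 409 c)
noncomputable def Atab_s_406_411 (c : Nat) : Nat := @Bool.rec (fun _ => Nat) (Atab_s_406_408 c) (Atab_s_408_411 c) (Nat.ble 408 c)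
noncomputable def Atab_s_402_411 (c : Nat) : Nat := @Bool.rec (fun _ => Nat) (Atab_s_402_406 c) (Atab_s_406_411 c) (Nat.ble 406 c)
noncomputable def Atab_s_411_413 (c : Nat) : Nat := @Bool.rec (fun _ => Nat) (Atab_411) (Atab_412) (Nat.ble 412 c)
noncomputable def Atab_s_413_415 (c : Nat) : Nat := @Bool.rec (fun _ => Nat) (Atab_413) (Atab_414) (Nat.ble 414 c)
noncomputable def Atab_s_411_415 (c : Nat) : Nat := @Bool.rec (fun _ => Nat) (Atab_s_411_413 c) (Atab_s_413_415 c) (Nat.ble 413 c)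
noncomputable def Atab_s_415_417 (c : Nat) : Nat := @Bool.rec (fun _ => Nat) (Atab_415) (Atab_416) (Nat.ble 416 c)
noncomputable def Atab_s_418_420 (c : Nat) : Nat := @Bool.rec (fun _ => Nat) (Atab_418) (Atab_419) (Nat.ble 419 c)
noncomputable def Atab_s_417_420 (c : Nat) : Nat := @Bool.rec (fun _ => Nat) (Atab_417) (Atab_s_418_420 c) (Nat.ble 418 c)
noncomputable def Atab_s_415_420 (c : Nat) : Nat := @Bool.rec (fun _ => Nat) (Atab_s_415_417 c) (Atab_s_417_420 c) (Nat.ble 417 c)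
noncomputable def Atab_s_411_420 (c : Nat) : Nat := @Bool.rec (fun _ => Nat) (Atab_s_411_415 c) (Atab_s_415_420 c) (Nat.ble 415 c)
noncomputable def Atab_s_402_420 (c : Nat) : Nat := @Bool.rec (fun _ => Nat) (Atab_s_402_411 c) (Atab_s_411_420 c) (Nat.ble 411 c)
noncomputable def Atab_s_420_422 (c : Nat) : Nat := @Bool.rec (fun _ => Nat) (Atab_420) (Atab_421) (Nat.ble 421 c)
noncomputable def Atab_s_422_424 (c : Nat) : Nat := @Bool.rec (fun _ => Nat) (Atab_422) (Atab_423) (Nat.ble 423 c)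
noncomputable def Atab_s_420_424 (c : Nat) : Nat := @Bool.rec (fun _ => Nat) (Atab_s_420_422 c) (Atab_s_422_424 c) (Nat.ble 422 c)
noncomputable def Atab_s_424_426 (c : Nat) : Nat := @Bool.rec (fun _ => Nat) (Atab_424) (Atab_425) (Nat.ble 425 c)
noncomputable def Atab_s_427_429 (c : Nat) : Nat := @Bool.rec (fun _ => Nat) (Atab_427) (Atab_428) (Nat.ble 428 c)
noncomputable def Atab_s_426_429 (c : Nat) : Nat := @Bool.rec (fun _ => Nat) (Atab_426) (Atab_s_427_429 c) (Nat.ble 427 c)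
noncomputable def Atab_s_424_429 (c : Nat) : Nat := @Bool.rec (fun _ => Nat) (Atab_s_424_426 c) (Atab_s_426_429 c) (Nat.ble 426 c)
noncomputable def Atab_s_420_429 (c : Nat) : Nat := @Bool.rec (fun _ => Nat) (Atab_s_420_424 c) (Atab_s_424_429 c) (Nat.ble 424 c)
noncomputable def Atab_s_429_431 (c : Nat) : Nat := @Bool.rec (fun _ => Nat) (Atab_429) (Atab_430) (Nat.ble 430 c)
noncomputable def Atab_s_432_434 (c : Nat) : Nat := @Bool.rec (fun _ => Nat) (Atab_432) (Atab_433) (Nat.ble 433 c)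
noncomputable def Atab_s_431_434 (c : Nat) : Nat := @Bool.rec (fun _ => Nat) (Atab_431) (Atab_s_432_434 c) (Nat.ble 432 c)
noncomputable def Atab_s_429_434 (c : Nat) : Nat := @Bool.rec (fun _ => Nat) (Atab_s_429_431 c) (Atab_s_431_434 c) (Nat.ble 431 c)
noncomputable def Atab_s_434_436 (c : Nat) : Nat := @Bool.rec (fun _ => Nat) (Atab_434) (Atab_435) (Nat.ble 435 c)
noncomputable def Atab_s_437_439 (c : Nat) : Nat := @Bool.rec (fun _ => Nat) (Atab_437) (Atab_438) (Nat.ble 438 c)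
noncomputable def Atab_s_436_439 (c : Nat) : Nat := @Bool.rec (fun _ => Nat) (Atab_436) (Atab_s_437_439 c) (Nat.ble 437 c)
noncomputable def Atab_s_434_439 (c : Nat) : Nat := @Bool.rec (fun _ => Nat) (Atab_s_434_436 c) (Atab_s_436_439 c) (Nat.ble 436 c)
noncomputable def Atab_s_429_439 (c : Nat) : Nat := @Bool.rec (fun _ => Nat) (Atab_s_429_434 c) (Atab_s_434_439 c) (Nat.ble 434 c)
noncomputable def Atab_s_420_439 (c : Nat) : Nat := @Bool.rec (fun _ => Nat) (Atab_s_420_429 c) (Atab_s_429_439 c) (Nat.ble 429 c)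
noncomputable def Atab_s_402_439 (c : Nat) : Nat := @Bool.rec (fun _ => Nat) (Atab_s_402_420 c) (Atab_s_420_439 c) (Nat.ble 420 c)
noncomputable def Atab_s_366_439 (c : Nat) : Nat := @Bool.rec (fun _ => Nat) (Atab_s_366_402 c) (Atab_s_402_439 c) (Nat.ble 402 c)
noncomputable def Atab_s_293_439 (c : Nat) : Nat := @Bool.rec (fun _ => Nat) (Atab_s_293_366 c) (Atab_s_366_439 c) (Nat.ble 366 c)
noncomputable def Atab_s_439_441 (c : Nat) : Nat := @Bool.rec (fun _ => Nat) (Atab_439) (Atab_440) (Nat.ble 440 c)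
noncomputable def Atab_s_441_443 (c : Nat) : Nat := @Bool.rec (fun _ => Nat) (Atab_441) (Atab_442) (Nat.ble 442 c)
noncomputable def Atab_s_439_443 (c : Nat) : Nat := @Bool.rec (fun _ => Nat) (Atab_s_439_441 c) (Atab_s_441_443 c) (Nat.ble 441 c)
noncomputable def Atab_s_443_445 (c : Nat) : Nat := @Bool.rec (fun _ => Nat) (Atab_443) (Atab_444) (Nat.ble 444 c)
noncomputable def Atab_s_446_448 (c : Nat) : Nat := @Bool.rec (fun _ => Nat) (Atab_446) (Atab_447) (Nat.ble 447 c)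
noncomputable def Atab_s_445_448 (c : Nat) : Nat := @Bool.rec (fun _ => Nat) (Atab_445) (Atab_s_446_448 c) (Nat.ble 446 c)
noncomputable def Atab_s_443_448 (c : Nat) : Nat := @Bool.rec (fun _ => Nat) (Atab_s_443_445 c) (Atab_s_445_448 c) (Nat.ble 445 c)
noncomputable def Atab_s_439_448 (c : Nat) : Nat := @Bool.rec (fun _ => Nat) (Atab_s_439_443 c) (Atab_s_443_448 c) (Nat.ble 443 c)
noncomputable def Atab_s_448_450 (c : Nat) : Nat := @Bool.rec (fun _ => Nat) (Atab_448) (Atab_449) (Nat.ble 449 c)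
noncomputable def Atab_s_450_452 (c : Nat) : Nat := @Bool.rec (fun _ => Nat) (Atab_450) (Atab_451) (Nat.ble 451 c)
noncomputable def Atab_s_448_452 (c : Nat) : Nat := @Bool.rec (fun _ => Nat) (Atab_s_448_450 c) (Atab_s_450_452 c) (Nat.ble 450 c)
noncomputable def Atab_s_452_454 (c : Nat) : Nat := @Bool.rec (fun _ => Nat) (Atab_452) (Atab_453) (Nat.ble 453 c)
noncomputable def Atab_s_455_457 (c : Nat) : Nat := @Bool.rec (fun _ => Nat) (Atab_455) (Atab_456) (Nat.ble 456 c)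
noncomputable def Atab_s_454_457 (c : Nat) : Nat := @Bool.rec (fun _ => Nat) (Atab_454) (Atab_s_455_457 c) (Nat.ble 455 c)
noncomputable def Atab_s_452_457 (c : Nat) : Nat := @Bool.rec (fun _ => Nat) (Atab_s_452_454 c) (Atab_s_454_457 c) (Nat.ble 454 c)
noncomputable def Atab_s_448_457 (c : Nat) : Nat := @Bool.rec (fun _ => Nat) (Atab_s_448_452 c) (Atab_s_452_457 c) (Nat.ble 452 c)
noncomputable def Atab_s_439_457 (c : Nat) : Nat := @Bool.rec (fun _ => Nat) (Atab_s_439_448 c) (Atab_s_448_457 c) (Nat.ble 448 c)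
noncomputable def Atab_s_457_459 (c : Nat) : Nat := @Bool.rec (fun _ => Nat) (Atab_457) (Atab_458) (Nat.ble 458 c)
noncomputable def Atab_s_459_461 (c : Nat) : Nat := @Bool.rec (fun _ => Nat) (Atab_459) (Atab_460) (Nat.ble 460 c)
noncomputable def Atab_s_457_461 (c : Nat) : Nat := @Bool.rec (fun _ => Nat) (Atab_s_457_459 c) (Atab_s_459_461 c) (Nat.ble 459 c)
noncomputable def Atab_s_461_463 (c : Nat) : Nat := @Bool.rec (fun _ => Nat) (Atab_461) (Atab_462) (Nat.ble 462 c)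
noncomputable def Atab_s_464_466 (c : Nat) : Nat := @Bool.rec (fun _ => Nat) (Atab_464) (Atab_465) (Nat.ble 465 c)
noncomputable def Atab_s_463_466 (c : Nat) : Nat := @Bool.rec (fun _ => Nat) (Atab_463) (Atab_s_464_466 c) (Nat.ble 464 c)
noncomputable def Atab_s_461_466 (c : Nat) : Nat := @Bool.rec (fun _ => Nat) (Atab_s_461_463 c) (Atab_s_463_466 c) (Nat.ble 463 c)
noncomputable def Atab_s_457_466 (c : Nat) : Nat := @Bool.rec (fun _ => Nat) (Atab_s_457_461 c) (Atab_s_461_466 c) (Nat.ble 461 c)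
noncomputable def Atab_s_466_468 (c : Nat) : Nat := @Bool.rec (fun _ => Nat) (Atab_466) (Atab_467) (Nat.ble 467 c)
noncomputable def Atab_s_468_470 (c : Nat) : Nat := @Bool.rec (fun _ => Nat) (Atab_468) (Atab_469) (Nat.ble 469 c)
noncomputable def Atab_s_466_470 (c : Nat) : Nat := @Bool.rec (fun _ => Nat) (Atab_s_466_468 c) (Atab_s_468_470 c) (Nat.ble 468 c)
noncomputable def Atab_s_470_472 (c : Nat) : Nat := @Bool.rec (fun _ => Nat) (Atab_470) (Atab_471) (Nat.ble 471 c)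
noncomputable def Atab_s_473_475 (c : Nat) : Nat := @Bool.rec (fun _ => Nat) (Atab_473) (Atab_474) (Nat.ble 474 c)
noncomputable def Atab_s_472_475 (c : Nat) : Nat := @Bool.rec (fun _ => Nat) (Atab_472) (Atab_s_473_475 c) (Nat.ble 473 c)
noncomputable def Atab_s_470_475 (c : Nat) : Nat := @Bool.rec (fun _ => Nat) (Atab_s_470_472 c) (Atab_s_472_475 c) (Nat.ble 472 c)
noncomputable def Atab_s_466_475 (c : Nat) : Nat := @Bool.rec (fun _ => Nat) (Atab_s_466_470 c) (Atab_s_470_475 c) (Nat.ble 470 c)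
noncomputable def Atab_s_457_475 (c : Nat) : Nat := @Bool.rec (fun _ => Nat) (Atab_s_457_466 c) (Atab_s_466_475 c) (Nat.ble 466 c)
noncomputable def Atab_s_439_475 (c : Nat) : Nat := @Bool.rec (fun _ => Nat) (Atab_s_439_457 c) (Atab_s_457_475 c) (Nat.ble 457 c)
noncomputable def Atab_s_475_477 (c : Nat) : Nat := @Bool.rec (fun _ => Nat) (Atab_475) (Atab_476) (Nat.ble 476 c)
noncomputable def Atab_s_477_479 (c : Nat) : Nat := @Bool.rec (fun _ => Nat) (Atab_477) (Atab_478) (Nat.ble 478 c)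
noncomputable def Atab_s_475_479 (c : Nat) : Nat := @Bool.rec (fun _ => Nat) (Atab_s_475_477 c) (Atab_s_477_479 c) (Nat.ble 477 c)
noncomputable def Atab_s_479_481 (c : Nat) : Nat := @Bool.rec (fun _ => Nat) (Atab_479) (Atab_480) (Nat.ble 480 c)
noncomputable def Atab_s_482_484 (c : Nat) : Nat := @Bool.rec (fun _ => Nat) (Atab_482) (Atab_483) (Nat.ble 483 c)
noncomputable def Atab_s_481_484 (c : Nat) : Nat := @Bool.rec (fun _ => Nat) (Atab_481) (Atab_s_482_484 c) (Nat.ble 482 c)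
noncomputable def Atab_s_479_484 (c : Nat) : Nat := @Bool.rec (fun _ => Nat) (Atab_s_479_481 c) (Atab_s_481_484 c) (Nat.ble 481 c)
noncomputable def Atab_s_475_484 (c : Nat) : Nat := @Bool.rec (fun _ => Nat) (Atab_s_475_479 c) (Atab_s_479_484 c) (Nat.ble 479 c)
noncomputable def Atab_s_484_486 (c : Nat) : Nat := @Bool.rec (fun _ => Nat) (Atab_484) (Atab_485) (Nat.ble 485 c)
noncomputable def Atab_s_486_488 (c : Nat) : Nat := @Bool.rec (fun _ => Nat) (Atab_486) (Atab_487) (Nat.ble 487 c)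
noncomputable def Atab_s_484_488 (c : Nat) : Nat := @Bool.rec (fun _ => Nat) (Atab_s_484_486 c) (Atab_s_486_488 c) (Nat.ble 486 c)
noncomputable def Atab_s_488_490 (c : Nat) : Nat := @Bool.rec (fun _ => Nat) (Atab_488) (Atab_489) (Nat.ble 489 c)
noncomputable def Atab_s_491_493 (c : Nat) : Nat := @Bool.rec (fun _ => Nat) (Atab_491) (Atab_492) (Nat.ble 492 c)
noncomputable def Atab_s_490_493 (c : Nat) : Nat := @Bool.rec (fun _ => Nat) (Atab_490) (Atab_s_491_493 c) (Nat.ble 491 c)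
noncomputable def Atab_s_488_493 (c : Nat) : Nat := @Bool.rec (fun _ => Nat) (Atab_s_488_490 c) (Atab_s_490_493 c) (Nat.ble 490 c)
noncomputable def Atab_s_484_493 (c : Nat) : Nat := @Bool.rec (fun _ => Nat) (Atab_s_484_488 c) (Atab_s_488_493 c) (Nat.ble 488 c)
noncomputable def Atab_s_475_493 (c : Nat) : Nat := @Bool.rec (fun _ => Nat) (Atab_s_475_484 c) (Atab_s_484_493 c) (Nat.ble 484 c)
noncomputable def Atab_s_493_495 (c : Nat) : Nat := @Bool.rec (fun _ => Nat) (Atab_493) (Atab_494) (Nat.ble 494 c)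
noncomputable def Atab_s_495_497 (c : Nat) : Nat := @Bool.rec (fun _ => Nat) (Atab_495) (Atab_496) (Nat.ble 496 c)
noncomputable def Atab_s_493_497 (c : Nat) : Nat := @Bool.rec (fun _ => Nat) (Atab_s_493_495 c) (Atab_s_495_497 c) (Nat.ble 495 c)
noncomputable def Atab_s_497_499 (c : Nat) : Nat := @Bool.rec (fun _ => Nat) (Atab_497) (Atab_498) (Nat.ble 498 c)
noncomputable def Atab_s_500_502 (c : Nat) : Nat := @Bool.rec (fun _ => Nat) (Atab_500) (Atab_501) (Nat.ble 501 c)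
noncomputable def Atab_s_499_502 (c : Nat) : Nat := @Bool.rec (fun _ => Nat) (Atab_499) (Atab_s_500_502 c) (Nat.ble 500 c)
noncomputable def Atab_s_497_502 (c : Nat) : Nat := @Bool.rec (fun _ => Nat) (Atab_s_497_499 c) (Atab_s_499_502 c) (Nat.ble 499 c)
noncomputable def Atab_s_493_502 (c : Nat) : Nat := @Bool.rec (fun _ => Nat) (Atab_s_493_497 c) (Atab_s_497_502 c) (Nat.ble 497 c)
noncomputable def Atab_s_502_504 (c : Nat) : Nat := @Bool.rec (fun _ => Nat) (Atab_502) (Atab_503) (Nat.ble 503 c)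
noncomputable def Atab_s_505_507 (c : Nat) : Nat := @Bool.rec (fun _ => Nat) (Atab_505) (Atab_506) (Nat.ble 506 c)
noncomputable def Atab_s_504_507 (c : Nat) : Nat := @Bool.rec (fun _ => Nat) (Atab_504) (Atab_s_505_507 c) (Nat.ble 505 c)
noncomputable def Atab_s_502_507 (c : Nat) : Nat := @Bool.rec (fun _ => Nat) (Atab_s_502_504 c) (Atab_s_504_507 c) (Nat.ble 504 c)
noncomputable def Atab_s_507_509 (c : Nat) : Nat := @Bool.rec (fun _ => Nat) (Atab_507) (Atab_508) (Nat.ble 508 c)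
noncomputable def Atab_s_510_512 (c : Nat) : Nat := @Bool.rec (fun _ => Nat) (Atab_510) (Atab_511) (Nat.ble 511 c)
noncomputable def Atab_s_509_512 (c : Nat) : Nat := @Bool.rec (fun _ => Nat) (Atab_509) (Atab_s_510_512 c) (Nat.ble 510 c)
noncomputable def Atab_s_507_512 (c : Nat) : Nat := @Bool.rec (fun _ => Nat) (Atab_s_507_509 c) (Atab_s_509_512 c) (Nat.ble 509 c)
noncomputable def Atab_s_502_512 (c : Nat) : Nat := @Bool.rec (fun _ => Nat) (Atab_s_502_507 c) (Atab_s_507_512 c) (Nat.ble 507 c)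
noncomputable def Atab_s_493_512 (c : Nat) : Nat := @Bool.rec (fun _ => Nat) (Atab_s_493_502 c) (Atab_s_502_512 c) (Nat.ble 502 c)
noncomputable def Atab_s_475_512 (c : Nat) : Nat := @Bool.rec (fun _ => Nat) (Atab_s_475_493 c) (Atab_s_493_512 c) (Nat.ble 493 c)
noncomputable def Atab_s_439_512 (c : Nat) : Nat := @Bool.rec (fun _ => Nat) (Atab_s_439_475 c) (Atab_s_475_512 c) (Nat.ble 475 c)
noncomputable def Atab_s_512_514 (c : Nat) : Nat := @Bool.rec (fun _ => Nat) (Atab_512) (Atab_513) (Nat.ble 513 c)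
noncomputable def Atab_s_514_516 (c : Nat) : Nat := @Bool.rec (fun _ => Nat) (Atab_514) (Atab_515) (Nat.ble 515 c)
noncomputable def Atab_s_512_516 (c : Nat) : Nat := @Bool.rec (fun _ => Nat) (Atab_s_512_514 c) (Atab_s_514_516 c) (Nat.ble 514 c)
noncomputable def Atab_s_516_518 (c : Nat) : Nat := @Bool.rec (fun _ => Nat) (Atab_516) (Atab_517) (Nat.ble 517 c)
noncomputable def Atab_s_519_521 (c : Nat) : Nat := @Bool.rec (fun _ => Nat) (Atab_519) (Atab_520) (Nat.ble 520 c)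
noncomputable def Atab_s_518_521 (c : Nat) : Nat := @Bool.rec (fun _ => Nat) (Atab_518) (Atab_s_519_521 c) (Nat.ble 519 c)
noncomputable def Atab_s_516_521 (c : Nat) : Nat := @Bool.rec (fun _ => Nat) (Atab_s_516_518 c) (Atab_s_518_521 c) (Nat.ble 518 c)
noncomputable def Atab_s_512_521 (c : Nat) : Nat := @Bool.rec (fun _ => Nat) (Atab_s_512_516 c) (Atab_s_516_521 c) (Nat.ble 516 c)
noncomputable def Atab_s_521_523 (c : Nat) : Nat := @Bool.rec (fun _ => Nat) (Atab_521) (Atab_522) (Nat.ble 522 c)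
noncomputable def Atab_s_523_525 (c : Nat) : Nat := @Bool.rec (fun _ => Nat) (Atab_523) (Atab_524) (Nat.ble 524 c)
noncomputable def Atab_s_521_525 (c : Nat) : Nat := @Bool.rec (fun _ => Nat) (Atab_s_521_523 c) (Atab_s_523_525 c) (Nat.ble 523 c)
noncomputable def Atab_s_525_527 (c : Nat) : Nat := @Bool.rec (fun _ => Nat) (Atab_525) (Atab_526) (Nat.ble 526 c)
noncomputable def Atab_s_528_530 (c : Nat) : Nat := @Bool.rec (fun _ => Nat) (Atab_528) (Atab_529) (Nat.ble 529 c)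
noncomputable def Atab_s_527_530 (c : Nat) : Nat := @Bool.rec (fun _ => Nat) (Atab_527) (Atab_s_528_530 c) (Nat.ble 528 c)
noncomputable def Atab_s_525_530 (c : Nat) : Nat := @Bool.rec (fun _ => Nat) (Atab_s_525_527 c) (Atab_s_527_530 c) (Nat.ble 527 c)
noncomputable def Atab_s_521_530 (c : Nat) : Nat := @Bool.rec (fun _ => Nat) (Atab_s_521_525 c) (Atab_s_525_530 c) (Nat.ble 525 c)
noncomputable def Atab_s_512_530 (c : Nat) : Nat := @Bool.rec (fun _ => Nat) (Atab_s_512_521 c) (Atab_s_521_530 c) (Nat.ble 521 c)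
noncomputable def Atab_s_530_532 (c : Nat) : Nat := @Bool.rec (fun _ => Nat) (Atab_530) (Atab_531) (Nat.ble 531 c)
noncomputable def Atab_s_532_534 (c : Nat) : Nat := @Bool.rec (fun _ => Nat) (Atab_532) (Atab_533) (Nat.ble 533 c)
noncomputable def Atab_s_530_534 (c : Nat) : Nat := @Bool.rec (fun _ => Nat) (Atab_s_530_532 c) (Atab_s_532_534 c) (Nat.ble 532 c)
noncomputable def Atab_s_534_536 (c : Nat) : Nat := @Bool.rec (fun _ => Nat) (Atab_534) (Atab_535) (Nat.ble 535 c)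
noncomputable def Atab_s_537_539 (c : Nat) : Nat := @Bool.rec (fun _ => Nat) (Atab_537) (Atab_538) (Nat.ble 538 c)
noncomputable def Atab_s_536_539 (c : Nat) : Nat := @Bool.rec (fun _ => Nat) (Atab_536) (Atab_s_537_539 c) (Nat.ble 537 c)
noncomputable def Atab_s_534_539 (c : Nat) : Nat := @Bool.rec (fun _ => Nat) (Atab_s_534_536 c) (Atab_s_536_539 c) (Nat.ble 536 c)
noncomputable def Atab_s_530_539 (c : Nat) : Nat := @Bool.rec (fun _ => Nat) (Atab_s_530_534 c) (Atab_s_534_539 c) (Nat.ble 534 c)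
noncomputable def Atab_s_539_541 (c : Nat) : Nat := @Bool.rec (fun _ => Nat) (Atab_539) (Atab_540) (Nat.ble 540 c)
noncomputable def Atab_s_542_544 (c : Nat) : Nat := @Bool.rec (fun _ => Nat) (Atab_542) (Atab_543) (Nat.ble 543 c)
noncomputable def Atab_s_541_544 (c : Nat) : Nat := @Bool.rec (fun _ => Nat) (Atab_541) (Atab_s_542_544 c) (Nat.ble 542 c)
noncomputable def Atab_s_539_544 (c : Nat) : Nat := @Bool.rec (fun _ => Nat) (Atab_s_539_541 c) (Atab_s_541_544 c) (Nat.ble 541 c)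
noncomputable def Atab_s_544_546 (c : Nat) : Nat := @Bool.rec (fun _ => Nat) (Atab_544) (Atab_545) (Nat.ble 545 c)
noncomputable def Atab_s_547_549 (c : Nat) : Nat := @Bool.rec (fun _ => Nat) (Atab_547) (Atab_548) (Nat.ble 548 c)
noncomputable def Atab_s_546_549 (c : Nat) : Nat := @Bool.rec (fun _ => Nat) (Atab_546) (Atab_s_547_549 c) (Nat.ble 547 c)
noncomputable def Atab_s_544_549 (c : Nat) : Nat := @Bool.rec (fun _ => Nat) (Atab_s_544_546 c) (Atab_s_546_549 c) (Nat.ble 546 c)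
noncomputable def Atab_s_539_549 (c : Nat) : Nat := @Bool.rec (fun _ => Nat) (Atab_s_539_544 c) (Atab_s_544_549 c) (Nat.ble 544 c)
noncomputable def Atab_s_530_549 (c : Nat) : Nat := @Bool.rec (fun _ => Nat) (Atab_s_530_539 c) (Atab_s_539_549 c) (Nat.ble 539 c)
noncomputable def Atab_s_512_549 (c : Nat) : Nat := @Bool.rec (fun _ => Nat) (Atab_s_512_530 c) (Atab_s_530_549 c) (Nat.ble 530 c)
noncomputable def Atab_s_549_551 (c : Nat) : Nat := @Bool.rec (fun _ => Nat) (Atab_549) (Atab_550) (Nat.ble 550 c)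
noncomputable def Atab_s_551_553 (c : Nat) : Nat := @Bool.rec (fun _ => Nat) (Atab_551) (Atab_552) (Nat.ble 552 c)
noncomputable def Atab_s_549_553 (c : Nat) : Nat := @Bool.rec (fun _ => Nat) (Atab_s_549_551 c) (Atab_s_551_553 c) (Nat.ble 551 c)
noncomputable def Atab_s_553_555 (c : Nat) : Nat := @Bool.rec (fun _ => Nat) (Atab_553) (Atab_554) (Nat.ble 554 c)
noncomputable def Atab_s_556_558 (c : Nat) : Nat := @Bool.rec (fun _ => Nat) (Atab_556) (Atab_557) (Nat.ble 557 c)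
noncomputable def Atab_s_555_558 (c : Nat) : Nat := @Bool.rec (fun _ => Nat) (Atab_555) (Atab_s_556_558 c) (Nat.ble 556 c)
noncomputable def Atab_s_553_558 (c : Nat) : Nat := @Bool.rec (fun _ => Nat) (Atab_s_553_555 c) (Atab_s_555_558 c) (Nat.ble 555 c)
noncomputable def Atab_s_549_558 (c : Nat) : Nat := @Bool.rec (fun _ => Nat) (Atab_s_549_553 c) (Atab_s_553_558 c) (Nat.ble 553 c)
noncomputable def Atab_s_558_560 (c : Nat) : Nat := @Bool.rec (fun _ => Nat) (Atab_558) (Atab_559) (Nat.ble 559 c)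
noncomputable def Atab_s_560_562 (c : Nat) : Nat := @Bool.rec (fun _ => Nat) (Atab_560) (Atab_561) (Nat.ble 561 c)
noncomputable def Atab_s_558_562 (c : Nat) : Nat := @Bool.rec (fun _ => Nat) (Atab_s_558_560 c) (Atab_s_560_562 c) (Nat.ble 560 c)
noncomputable def Atab_s_562_564 (c : Nat) : Nat := @Bool.rec (fun _ => Nat) (Atab_562) (Atab_563) (Nat.ble 563 c)
noncomputable def Atab_s_565_567 (c : Nat) : Nat := @Bool.rec (fun _ => Nat) (Atab_565) (Atab_566) (Nat.ble 566 c)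
noncomputable def Atab_s_564_567 (c : Nat) : Nat := @Bool.rec (fun _ => Nat) (Atab_564) (Atab_s_565_567 c) (Nat.ble 565 c)
noncomputable def Atab_s_562_567 (c : Nat) : Nat := @Bool.rec (fun _ => Nat) (Atab_s_562_564 c) (Atab_s_564_567 c) (Nat.ble 564 c)
noncomputable def Atab_s_558_567 (c : Nat) : Nat := @Bool.rec (fun _ => Nat) (Atab_s_558_562 c) (Atab_s_562_567 c) (Nat.ble 562 c)
noncomputable def Atab_s_549_567 (c : Nat) : Nat := @Bool.rec (fun _ => Nat) (Atab_s_549_558 c) (Atab_s_558_567 c) (Nat.ble 558 c)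
noncomputable def Atab_s_567_569 (c : Nat) : Nat := @Bool.rec (fun _ => Nat) (Atab_567) (Atab_568) (Nat.ble 568 c)
noncomputable def Atab_s_569_571 (c : Nat) : Nat := @Bool.rec (fun _ => Nat) (Atab_569) (Atab_570) (Nat.ble 570 c)
noncomputable def Atab_s_567_571 (c : Nat) : Nat := @Bool.rec (fun _ => Nat) (Atab_s_567_569 c) (Atab_s_569_571 c) (Nat.ble 569 c)
noncomputable def Atab_s_571_573 (c : Nat) : Nat := @Bool.rec (fun _ => Nat) (Atab_571) (Atab_572) (Nat.ble 572 c)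
noncomputable def Atab_s_574_576 (c : Nat) : Nat := @Bool.rec (fun _ => Nat) (Atab_574) (Atab_575) (Nat.ble 575 c)
noncomputable def Atab_s_573_576 (c : Nat) : Nat := @Bool.rec (fun _ => Nat) (Atab_573) (Atab_s_574_576 c) (Nat.ble 574 c)
noncomputable def Atab_s_571_576 (c : Nat) : Nat := @Bool.rec (fun _ => Nat) (Atab_s_571_573 c) (Atab_s_573_576 c) (Nat.ble 573 c)
noncomputable def Atab_s_567_576 (c : Nat) : Nat := @Bool.rec (fun _ => Nat) (Atab_s_567_571 c) (Atab_s_571_576 c) (Nat.ble 571 c)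
noncomputable def Atab_s_576_578 (c : Nat) : Nat := @Bool.rec (fun _ => Nat) (Atab_576) (Atab_577) (Nat.ble 577 c)
noncomputable def Atab_s_579_581 (c : Nat) : Nat := @Bool.rec (fun _ => Nat) (Atab_579) (Atab_580) (Nat.ble 580 c)
noncomputable def Atab_s_578_581 (c : Nat) : Nat := @Bool.rec (fun _ => Nat) (Atab_578) (Atab_s_579_581 c) (Nat.ble 579 c)
noncomputable def Atab_s_576_581 (c : Nat) : Nat := @Bool.rec (fun _ => Nat) (Atab_s_576_578 c) (Atab_s_578_581 c) (Nat.ble 578 c)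
noncomputable def Atab_s_581_583 (c : Nat) : Nat := @Bool.rec (fun _ => Nat) (Atab_581) (Atab_582) (Nat.ble 582 c)
noncomputable def Atab_s_584_586 (c : Nat) : Nat := @Bool.rec (fun _ => Nat) (Atab_584) (Atab_585) (Nat.ble 585 c)
noncomputable def Atab_s_583_586 (c : Nat) : Nat := @Bool.rec (fun _ => Nat) (Atab_583) (Atab_s_584_586 c) (Nat.ble 584 c)
noncomputable def Atab_s_581_586 (c : Nat) : Nat := @Bool.rec (fun _ => Nat) (Atab_s_581_583 c) (Atab_s_583_586 c) (Nat.ble 583 c)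
noncomputable def Atab_s_576_586 (c : Nat) : Nat := @Bool.rec (fun _ => Nat) (Atab_s_576_581 c) (Atab_s_581_586 c) (Nat.ble 581 c)
noncomputable def Atab_s_567_586 (c : Nat) : Nat := @Bool.rec (fun _ => Nat) (Atab_s_567_576 c) (Atab_s_576_586 c) (Nat.ble 576 c)
noncomputable def Atab_s_549_586 (c : Nat) : Nat := @Bool.rec (fun _ => Nat) (Atab_s_549_567 c) (Atab_s_567_586 c) (Nat.ble 567 c)
noncomputable def Atab_s_512_586 (c : Nat) : Nat := @Bool.rec (fun _ => Nat) (Atab_s_512_549 c) (Atab_s_549_586 c) (Nat.ble 549 c)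
noncomputable def Atab_s_439_586 (c : Nat) : Nat := @Bool.rec (fun _ => Nat) (Atab_s_439_512 c) (Atab_s_512_586 c) (Nat.ble 512 c)
noncomputable def Atab_s_293_586 (c : Nat) : Nat := @Bool.rec (fun _ => Nat) (Atab_s_293_439 c) (Atab_s_439_586 c) (Nat.ble 439 c)
noncomputable def Atab_s_0_586 (c : Nat) : Nat := @Bool.rec (fun _ => Nat) (Atab_s_0_293 c) (Atab_s_293_586 c) (Nat.ble 293 c)
noncomputable def Atab (i : Nat) : Nat := rdw 42 4398046511103 (Atab_s_0_586 (Nat.shiftRight i 11)) (Nat.land i 2047)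
noncomputable def Btab_s_0_2 (c : Nat) : Nat := @Bool.rec (fun _ => Nat) (Btab_0) (Btab_1) (Nat.ble 1 c)
noncomputable def Btab_s_3_5 (c : Nat) : Nat := @Bool.rec (fun _ => Nat) (Btab_3) (Btab_4) (Nat.ble 4 c)
noncomputable def Btab_s_2_5 (c : Nat) : Nat := @Bool.rec (fun _ => Nat) (Btab_2) (Btab_s_3_5 c) (Nat.ble 3 c)
noncomputable def Btab_s_0_5 (c : Nat) : Nat := @Bool.rec (fun _ => Nat) (Btab_s_0_2 c) (Btab_s_2_5 c) (Nat.ble 2 c)
noncomputable def Btab_s_6_8 (c : Nat) : Nat := @Bool.rec (fun _ => Nat) (Btab_6) (Btab_7) (Nat.ble 7 c)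
noncomputable def Btab_s_5_8 (c : Nat) : Nat := @Bool.rec (fun _ => Nat) (Btab_5) (Btab_s_6_8 c) (Nat.ble 6 c)
noncomputable def Btab_s_9_11 (c : Nat) : Nat := @Bool.rec (fun _ => Nat) (Btab_9) (Btab_10) (Nat.ble 10 c)
noncomputable def Btab_s_8_11 (c : Nat) : Nat := @Bool.rec (fun _ => Nat) (Btab_8) (Btab_s_9_11 c) (Nat.ble 9 c)
noncomputable def Btab_s_5_11 (c : Nat) : Nat := @Bool.rec (fun _ => Nat) (Btab_s_5_8 c) (Btab_s_8_11 c) (Nat.ble 8 c)
noncomputable def Btab_s_0_11 (c : Nat) : Nat := @Bool.rec (fun _ => Nat) (Btab_s_0_5 c) (Btab_s_5_11 c) (Nat.ble 5 c)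
noncomputable def Btab_s_12_14 (c : Nat) : Nat := @Bool.rec (fun _ => Nat) (Btab_12) (Btab_13) (Nat.ble 13 c)
noncomputable def Btab_s_11_14 (c : Nat) : Nat := @Bool.rec (fun _ => Nat) (Btab_11) (Btab_s_12_14 c) (Nat.ble 12 c)
noncomputable def Btab_s_15_17 (c : Nat) : Nat := @Bool.rec (fun _ => Nat) (Btab_15) (Btab_16) (Nat.ble 16 c)
noncomputable def Btab_s_14_17 (c : Nat) : Nat := @Bool.rec (fun _ => Nat) (Btab_14) (Btab_s_15_17 c) (Nat.ble 15 c)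
noncomputable def Btab_s_11_17 (c : Nat) : Nat := @Bool.rec (fun _ => Nat) (Btab_s_11_14 c) (Btab_s_14_17 c) (Nat.ble 14 c)
noncomputable def Btab_s_18_20 (c : Nat) : Nat := @Bool.rec (fun _ => Nat) (Btab_18) (Btab_19) (Nat.ble 19 c)
noncomputable def Btab_s_17_20 (c : Nat) : Nat := @Bool.rec (fun _ => Nat) (Btab_17) (Btab_s_18_20 c) (Nat.ble 18 c)
noncomputable def Btab_s_21_23 (c : Nat) : Nat := @Bool.rec (fun _ => Nat) (Btab_21) (Btab_22) (Nat.ble 22 c)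
noncomputable def Btab_s_20_23 (c : Nat) : Nat := @Bool.rec (fun _ => Nat) (Btab_20) (Btab_s_21_23 c) (Nat.ble 21 c)
noncomputable def Btab_s_17_23 (c : Nat) : Nat := @Bool.rec (fun _ => Nat) (Btab_s_17_20 c) (Btab_s_20_23 c) (Nat.ble 20 c)
noncomputable def Btab_s_11_23 (c : Nat) : Nat := @Bool.rec (fun _ => Nat) (Btab_s_11_17 c) (Btab_s_17_23 c) (Nat.ble 17 c)
noncomputable def Btab_s_0_23 (c : Nat) : Nat := @Bool.rec (fun _ => Nat) (Btab_s_0_11 c) (Btab_s_11_23 c) (Nat.ble 11 c)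
noncomputable def Btab_s_23_25 (c : Nat) : Nat := @Bool.rec (fun _ => Nat) (Btab_23) (Btab_24) (Nat.ble 24 c)
noncomputable def Btab_s_26_28 (c : Nat) : Nat := @Bool.rec (fun _ => Nat) (Btab_26) (Btab_27) (Nat.ble 27 c)
noncomputable def Btab_s_25_28 (c : Nat) : Nat := @Bool.rec (fun _ => Nat) (Btab_25) (Btab_s_26_28 c) (Nat.ble 26 c)
noncomputable def Btab_s_23_28 (c : Nat) : Nat := @Bool.rec (fun _ => Nat) (Btab_s_23_25 c) (Btab_s_25_28 c) (Nat.ble 25 c)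
noncomputable def Btab_s_29_31 (c : Nat) : Nat := @Bool.rec (fun _ => Nat) (Btab_29) (Btab_30) (Nat.ble 30 c)
noncomputable def Btab_s_28_31 (c : Nat) : Nat := @Bool.rec (fun _ => Nat) (Btab_28) (Btab_s_29_31 c) (Nat.ble 29 c)
noncomputable def Btab_s_32_34 (c : Nat) : Nat := @Bool.rec (fun _ => Nat) (Btab_32) (Btab_33) (Nat.ble 33 c)
noncomputable def Btab_s_31_34 (c : Nat) : Nat := @Bool.rec (fun _ => Nat) (Btab_31) (Btab_s_32_34 c) (Nat.ble 32 c)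
noncomputable def Btab_s_28_34 (c : Nat) : Nat := @Bool.rec (fun _ => Nat) (Btab_s_28_31 c) (Btab_s_31_34 c) (Nat.ble 31 c)
noncomputable def Btab_s_23_34 (c : Nat) : Nat := @Bool.rec (fun _ => Nat) (Btab_s_23_28 c) (Btab_s_28_34 c) (Nat.ble 28 c)
noncomputable def Btab_s_35_37 (c : Nat) : Nat := @Bool.rec (fun _ => Nat) (Btab_35) (Btab_36) (Nat.ble 36 c)
noncomputable def Btab_s_34_37 (c : Nat) : Nat := @Bool.rec (fun _ => Nat) (Btab_34) (Btab_s_35_37 c) (Nat.ble 35 c)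
noncomputable def Btab_s_38_40 (c : Nat) : Nat := @Bool.rec (fun _ => Nat) (Btab_38) (Btab_39) (Nat.ble 39 c)
noncomputable def Btab_s_37_40 (c : Nat) : Nat := @Bool.rec (fun _ => Nat) (Btab_37) (Btab_s_38_40 c) (Nat.ble 38 c)
noncomputable def Btab_s_34_40 (c : Nat) : Nat := @Bool.rec (fun _ => Nat) (Btab_s_34_37 c) (Btab_s_37_40 c) (Nat.ble 37 c)
noncomputable def Btab_s_41_43 (c : Nat) : Nat := @Bool.rec (fun _ => Nat) (Btab_41) (Btab_42) (Nat.ble 42 c)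
noncomputable def Btab_s_40_43 (c : Nat) : Nat := @Bool.rec (fun _ => Nat) (Btab_40) (Btab_s_41_43 c) (Nat.ble 41 c)
noncomputable def Btab_s_44_46 (c : Nat) : Nat := @Bool.rec (fun _ => Nat) (Btab_44) (Btab_45) (Nat.ble 45 c)
noncomputable def Btab_s_43_46 (c : Nat) : Nat := @Bool.rec (fun _ => Nat) (Btab_43) (Btab_s_44_46 c) (Nat.ble 44 c)
noncomputable def Btab_s_40_46 (c : Nat) : Nat := @Bool.rec (fun _ => Nat) (Btab_s_40_43 c) (Btab_s_43_46 c) (Nat.ble 43 c)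
noncomputable def Btab_s_34_46 (c : Nat) : Nat := @Bool.rec (fun _ => Nat) (Btab_s_34_40 c) (Btab_s_40_46 c) (Nat.ble 40 c)
noncomputable def Btab_s_23_46 (c : Nat) : Nat := @Bool.rec (fun _ => Nat) (Btab_s_23_34 c) (Btab_s_34_46 c) (Nat.ble 34 c)
noncomputable def Btab_s_0_46 (c : Nat) : Nat := @Bool.rec (fun _ => Nat) (Btab_s_0_23 c) (Btab_s_23_46 c) (Nat.ble 23 c)
noncomputable def Btab_s_46_48 (c : Nat) : Nat := @Bool.rec (fun _ => Nat) (Btab_46) (Btab_47) (Nat.ble 47 c)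
noncomputable def Btab_s_49_51 (c : Nat) : Nat := @Bool.rec (fun _ => Nat) (Btab_49) (Btab_50) (Nat.ble 50 c)
noncomputable def Btab_s_48_51 (c : Nat) : Nat := @Bool.rec (fun _ => Nat) (Btab_48) (Btab_s_49_51 c) (Nat.ble 49 c)
noncomputable def Btab_s_46_51 (c : Nat) : Nat := @Bool.rec (fun _ => Nat) (Btab_s_46_48 c) (Btab_s_48_51 c) (Nat.ble 48 c)
noncomputable def Btab_s_52_54 (c : Nat) : Nat := @Bool.rec (fun _ => Nat) (Btab_52) (Btab_53) (Nat.ble 53 c)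
noncomputable def Btab_s_51_54 (c : Nat) : Nat := @Bool.rec (fun _ => Nat) (Btab_51) (Btab_s_52_54 c) (Nat.ble 52 c)
noncomputable def Btab_s_55_57 (c : Nat) : Nat := @Bool.rec (fun _ => Nat) (Btab_55) (Btab_56) (Nat.ble 56 c)
noncomputable def Btab_s_54_57 (c : Nat) : Nat := @Bool.rec (fun _ => Nat) (Btab_54) (Btab_s_55_57 c) (Nat.ble 55 c)
noncomputable def Btab_s_51_57 (c : Nat) : Nat := @Bool.rec (fun _ => Nat) (Btab_s_51_54 c) (Btab_s_54_57 c) (Nat.ble 54 c)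
noncomputable def Btab_s_46_57 (c : Nat) : Nat := @Bool.rec (fun _ => Nat) (Btab_s_46_51 c) (Btab_s_51_57 c) (Nat.ble 51 c)
noncomputable def Btab_s_58_60 (c : Nat) : Nat := @Bool.rec (fun _ => Nat) (Btab_58) (Btab_59) (Nat.ble 59 c)
noncomputable def Btab_s_57_60 (c : Nat) : Nat := @Bool.rec (fun _ => Nat) (Btab_57) (Btab_s_58_60 c) (Nat.ble 58 c)
noncomputable def Btab_s_61_63 (c : Nat) : Nat := @Bool.rec (fun _ => Nat) (Btab_61) (Btab_62) (Nat.ble 62 c)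
noncomputable def Btab_s_60_63 (c : Nat) : Nat := @Bool.rec (fun _ => Nat) (Btab_60) (Btab_s_61_63 c) (Nat.ble 61 c)
noncomputable def Btab_s_57_63 (c : Nat) : Nat := @Bool.rec (fun _ => Nat) (Btab_s_57_60 c) (Btab_s_60_63 c) (Nat.ble 60 c)
noncomputable def Btab_s_64_66 (c : Nat) : Nat := @Bool.rec (fun _ => Nat) (Btab_64) (Btab_65) (Nat.ble 65 c)
noncomputable def Btab_s_63_66 (c : Nat) : Nat := @Bool.rec (fun _ => Nat) (Btab_63) (Btab_s_64_66 c) (Nat.ble 64 c)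
noncomputable def Btab_s_67_69 (c : Nat) : Nat := @Bool.rec (fun _ => Nat) (Btab_67) (Btab_68) (Nat.ble 68 c)
noncomputable def Btab_s_66_69 (c : Nat) : Nat := @Bool.rec (fun _ => Nat) (Btab_66) (Btab_s_67_69 c) (Nat.ble 67 c)
noncomputable def Btab_s_63_69 (c : Nat) : Nat := @Bool.rec (fun _ => Nat) (Btab_s_63_66 c) (Btab_s_66_69 c) (Nat.ble 66 c)
noncomputable def Btab_s_57_69 (c : Nat) : Nat := @Bool.rec (fun _ => Nat) (Btab_s_57_63 c) (Btab_s_63_69 c) (Nat.ble 63 c)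
noncomputable def Btab_s_46_69 (c : Nat) : Nat := @Bool.rec (fun _ => Nat) (Btab_s_46_57 c) (Btab_s_57_69 c) (Nat.ble 57 c)
noncomputable def Btab_s_70_72 (c : Nat) : Nat := @Bool.rec (fun _ => Nat) (Btab_70) (Btab_71) (Nat.ble 71 c)
noncomputable def Btab_s_69_72 (c : Nat) : Nat := @Bool.rec (fun _ => Nat) (Btab_69) (Btab_s_70_72 c) (Nat.ble 70 c)
noncomputable def Btab_s_73_75 (c : Nat) : Nat := @Bool.rec (fun _ => Nat) (Btab_73) (Btab_74) (Nat.ble 74 c)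
noncomputable def Btab_s_72_75 (c : Nat) : Nat := @Bool.rec (fun _ => Nat) (Btab_72) (Btab_s_73_75 c) (Nat.ble 73 c)
noncomputable def Btab_s_69_75 (c : Nat) : Nat := @Bool.rec (fun _ => Nat) (Btab_s_69_72 c) (Btab_s_72_75 c) (Nat.ble 72 c)
noncomputable def Btab_s_76_78 (c : Nat) : Nat := @Bool.rec (fun _ => Nat) (Btab_76) (Btab_77) (Nat.ble 77 c)
noncomputable def Btab_s_75_78 (c : Nat) : Nat := @Bool.rec (fun _ => Nat) (Btab_75) (Btab_s_76_78 c) (Nat.ble 76 c)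
noncomputable def Btab_s_79_81 (c : Nat) : Nat := @Bool.rec (fun _ => Nat) (Btab_79) (Btab_80) (Nat.ble 80 c)
noncomputable def Btab_s_78_81 (c : Nat) : Nat := @Bool.rec (fun _ => Nat) (Btab_78) (Btab_s_79_81 c) (Nat.ble 79 c)
noncomputable def Btab_s_75_81 (c : Nat) : Nat := @Bool.rec (fun _ => Nat) (Btab_s_75_78 c) (Btab_s_78_81 c) (Nat.ble 78 c)
noncomputable def Btab_s_69_81 (c : Nat) : Nat := @Bool.rec (fun _ => Nat) (Btab_s_69_75 c) (Btab_s_75_81 c) (Nat.ble 75 c)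
noncomputable def Btab_s_82_84 (c : Nat) : Nat := @Bool.rec (fun _ => Nat) (Btab_82) (Btab_83) (Nat.ble 83 c)
noncomputable def Btab_s_81_84 (c : Nat) : Nat := @Bool.rec (fun _ => Nat) (Btab_81) (Btab_s_82_84 c) (Nat.ble 82 c)
noncomputable def Btab_s_85_87 (c : Nat) : Nat := @Bool.rec (fun _ => Nat) (Btab_85) (Btab_86) (Nat.ble 86 c)
noncomputable def Btab_s_84_87 (c : Nat) : Nat := @Bool.rec (fun _ => Nat) (Btab_84) (Btab_s_85_87 c) (Nat.ble 85 c)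
noncomputable def Btab_s_81_87 (c : Nat) : Nat := @Bool.rec (fun _ => Nat) (Btab_s_81_84 c) (Btab_s_84_87 c) (Nat.ble 84 c)
noncomputable def Btab_s_88_90 (c : Nat) : Nat := @Bool.rec (fun _ => Nat) (Btab_88) (Btab_89) (Nat.ble 89 c)
noncomputable def Btab_s_87_90 (c : Nat) : Nat := @Bool.rec (fun _ => Nat) (Btab_87) (Btab_s_88_90 c) (Nat.ble 88 c)
noncomputable def Btab_s_91_93 (c : Nat) : Nat := @Bool.rec (fun _ => Nat) (Btab_91) (Btab_92) (Nat.ble 92 c)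
noncomputable def Btab_s_90_93 (c : Nat) : Nat := @Bool.rec (fun _ => Nat) (Btab_90) (Btab_s_91_93 c) (Nat.ble 91 c)
noncomputable def Btab_s_87_93 (c : Nat) : Nat := @Bool.rec (fun _ => Nat) (Btab_s_87_90 c) (Btab_s_90_93 c) (Nat.ble 90 c)
noncomputable def Btab_s_81_93 (c : Nat) : Nat := @Bool.rec (fun _ => Nat) (Btab_s_81_87 c) (Btab_s_87_93 c) (Nat.ble 87 c)
noncomputable def Btab_s_69_93 (c : Nat) : Nat := @Bool.rec (fun _ => Nat) (Btab_s_69_81 c) (Btab_s_81_93 c) (Nat.ble 81 c)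
noncomputable def Btab_s_46_93 (c : Nat) : Nat := @Bool.rec (fun _ => Nat) (Btab_s_46_69 c) (Btab_s_69_93 c) (Nat.ble 69 c)
noncomputable def Btab_s_0_93 (c : Nat) : Nat := @Bool.rec (fun _ => Nat) (Btab_s_0_46 c) (Btab_s_46_93 c) (Nat.ble 46 c)
noncomputable def Btab_s_93_95 (c : Nat) : Nat := @Bool.rec (fun _ => Nat) (Btab_93) (Btab_94) (Nat.ble 94 c)
noncomputable def Btab_s_96_98 (c : Nat) : Nat := @Bool.rec (fun _ => Nat) (Btab_96) (Btab_97) (Nat.ble 97 c)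
noncomputable def Btab_s_95_98 (c : Nat) : Nat := @Bool.rec (fun _ => Nat) (Btab_95) (Btab_s_96_98 c) (Nat.ble 96 c)
noncomputable def Btab_s_93_98 (c : Nat) : Nat := @Bool.rec (fun _ => Nat) (Btab_s_93_95 c) (Btab_s_95_98 c) (Nat.ble 95 c)
noncomputable def Btab_s_99_101 (c : Nat) : Nat := @Bool.rec (fun _ => Nat) (Btab_99) (Btab_100) (Nat.ble 100 c)
noncomputable def Btab_s_98_101 (c : Nat) : Nat := @Bool.rec (fun _ => Nat) (Btab_98) (Btab_s_99_101 c) (Nat.ble 99 c)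
noncomputable def Btab_s_102_104 (c : Nat) : Nat := @Bool.rec (fun _ => Nat) (Btab_102) (Btab_103) (Nat.ble 103 c)
noncomputable def Btab_s_101_104 (c : Nat) : Nat := @Bool.rec (fun _ => Nat) (Btab_101) (Btab_s_102_104 c) (Nat.ble 102 c)
noncomputable def Btab_s_98_104 (c : Nat) : Nat := @Bool.rec (fun _ => Nat) (Btab_s_98_101 c) (Btab_s_101_104 c) (Nat.ble 101 c)
noncomputable def Btab_s_93_104 (c : Nat) : Nat := @Bool.rec (fun _ => Nat) (Btab_s_93_98 c) (Btab_s_98_104 c) (Nat.ble 98 c)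
noncomputable def Btab_s_105_107 (c : Nat) : Nat := @Bool.rec (fun _ => Nat) (Btab_105) (Btab_106) (Nat.ble 106 c)
noncomputable def Btab_s_104_107 (c : Nat) : Nat := @Bool.rec (fun _ => Nat) (Btab_104) (Btab_s_105_107 c) (Nat.ble 105 c)
noncomputable def Btab_s_108_110 (c : Nat) : Nat := @Bool.rec (fun _ => Nat) (Btab_108) (Btab_109) (Nat.ble 109 c)
noncomputable def Btab_s_107_110 (c : Nat) : Nat := @Bool.rec (fun _ => Nat) (Btab_107) (Btab_s_108_110 c) (Nat.ble 108 c)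
noncomputable def Btab_s_104_110 (c : Nat) : Nat := @Bool.rec (fun _ => Nat) (Btab_s_104_107 c) (Btab_s_107_110 c) (Nat.ble 107 c)
noncomputable def Btab_s_111_113 (c : Nat) : Nat := @Bool.rec (fun _ => Nat) (Btab_111) (Btab_112) (Nat.ble 112 c)
noncomputable def Btab_s_110_113 (c : Nat) : Nat := @Bool.rec (fun _ => Nat) (Btab_110) (Btab_s_111_113 c) (Nat.ble 111 c)
noncomputable def Btab_s_114_116 (c : Nat) : Nat := @Bool.rec (fun _ => Nat) (Btab_114) (Btab_115) (Nat.ble 115 c)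
noncomputable def Btab_s_113_116 (c : Nat) : Nat := @Bool.rec (fun _ => Nat) (Btab_113) (Btab_s_114_116 c) (Nat.ble 114 c)
noncomputable def Btab_s_110_116 (c : Nat) : Nat := @Bool.rec (fun _ => Nat) (Btab_s_110_113 c) (Btab_s_113_116 c) (Nat.ble 113 c)
noncomputable def Btab_s_104_116 (c : Nat) : Nat := @Bool.rec (fun _ => Nat) (Btab_s_104_110 c) (Btab_s_110_116 c) (Nat.ble 110 c)
noncomputable def Btab_s_93_116 (c : Nat) : Nat := @Bool.rec (fun _ => Nat) (Btab_s_93_104 c) (Btab_s_104_116 c) (Nat.ble 104 c)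
noncomputable def Btab_s_116_118 (c : Nat) : Nat := @Bool.rec (fun _ => Nat) (Btab_116) (Btab_117) (Nat.ble 117 c)
noncomputable def Btab_s_119_121 (c : Nat) : Nat := @Bool.rec (fun _ => Nat) (Btab_119) (Btab_120) (Nat.ble 120 c)
noncomputable def Btab_s_118_121 (c : Nat) : Nat := @Bool.rec (fun _ => Nat) (Btab_118) (Btab_s_119_121 c) (Nat.ble 119 c)
noncomputable def Btab_s_116_121 (c : Nat) : Nat := @Bool.rec (fun _ => Nat) (Btab_s_116_118 c) (Btab_s_118_121 c) (Nat.ble 118 c)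
noncomputable def Btab_s_122_124 (c : Nat) : Nat := @Bool.rec (fun _ => Nat) (Btab_122) (Btab_123) (Nat.ble 123 c)
noncomputable def Btab_s_121_124 (c : Nat) : Nat := @Bool.rec (fun _ => Nat) (Btab_121) (Btab_s_122_124 c) (Nat.ble 122 c)
noncomputable def Btab_s_125_127 (c : Nat) : Nat := @Bool.rec (fun _ => Nat) (Btab_125) (Btab_126) (Nat.ble 126 c)
noncomputable def Btab_s_124_127 (c : Nat) : Nat := @Bool.rec (fun _ => Nat) (Btab_124) (Btab_s_125_127 c) (Nat.ble 125 c)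
noncomputable def Btab_s_121_127 (c : Nat) : Nat := @Bool.rec (fun _ => Nat) (Btab_s_121_124 c) (Btab_s_124_127 c) (Nat.ble 124 c)
noncomputable def Btab_s_116_127 (c : Nat) : Nat := @Bool.rec (fun _ => Nat) (Btab_s_116_121 c) (Btab_s_121_127 c) (Nat.ble 121 c)
noncomputable def Btab_s_128_130 (c : Nat) : Nat := @Bool.rec (fun _ => Nat) (Btab_128) (Btab_129) (Nat.ble 129 c)
noncomputable def Btab_s_127_130 (c : Nat) : Nat := @Bool.rec (fun _ => Nat) (Btab_127) (Btab_s_128_130 c) (Nat.ble 128 c)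
noncomputable def Btab_s_131_133 (c : Nat) : Nat := @Bool.rec (fun _ => Nat) (Btab_131) (Btab_132) (Nat.ble 132 c)
noncomputable def Btab_s_130_133 (c : Nat) : Nat := @Bool.rec (fun _ => Nat) (Btab_130) (Btab_s_131_133 c) (Nat.ble 131 c)
noncomputable def Btab_s_127_133 (c : Nat) : Nat := @Bool.rec (fun _ => Nat) (Btab_s_127_130 c) (Btab_s_130_133 c) (Nat.ble 130 c)
noncomputable def Btab_s_134_136 (c : Nat) : Nat := @Bool.rec (fun _ => Nat) (Btab_134) (Btab_135) (Nat.ble 135 c)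
noncomputable def Btab_s_133_136 (c : Nat) : Nat := @Bool.rec (fun _ => Nat) (Btab_133) (Btab_s_134_136 c) (Nat.ble 134 c)
noncomputable def Btab_s_137_139 (c : Nat) : Nat := @Bool.rec (fun _ => Nat) (Btab_137) (Btab_138) (Nat.ble 138 c)
noncomputable def Btab_s_136_139 (c : Nat) : Nat := @Bool.rec (fun _ => Nat) (Btab_136) (Btab_s_137_139 c) (Nat.ble 137 c)
noncomputable def Btab_s_133_139 (c : Nat) : Nat := @Bool.rec (fun _ => Nat) (Btab_s_133_136 c) (Btab_s_136_139 c) (Nat.ble 136 c)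
noncomputable def Btab_s_127_139 (c : Nat) : Nat := @Bool.rec (fun _ => Nat) (Btab_s_127_133 c) (Btab_s_133_139 c) (Nat.ble 133 c)
noncomputable def Btab_s_116_139 (c : Nat) : Nat := @Bool.rec (fun _ => Nat) (Btab_s_116_127 c) (Btab_s_127_139 c) (Nat.ble 127 c)
noncomputable def Btab_s_93_139 (c : Nat) : Nat := @Bool.rec (fun _ => Nat) (Btab_s_93_116 c) (Btab_s_116_139 c) (Nat.ble 116 c)
noncomputable def Btab_s_139_141 (c : Nat) : Nat := @Bool.rec (fun _ => Nat) (Btab_139) (Btab_140) (Nat.ble 140 c)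
noncomputable def Btab_s_142_144 (c : Nat) : Nat := @Bool.rec (fun _ => Nat) (Btab_142) (Btab_143) (Nat.ble 143 c)
noncomputable def Btab_s_141_144 (c : Nat) : Nat := @Bool.rec (fun _ => Nat) (Btab_141) (Btab_s_142_144 c) (Nat.ble 142 c)
noncomputable def Btab_s_139_144 (c : Nat) : Nat := @Bool.rec (fun _ => Nat) (Btab_s_139_141 c) (Btab_s_141_144 c) (Nat.ble 141 c)
noncomputable def Btab_s_145_147 (c : Nat) : Nat := @Bool.rec (fun _ => Nat) (Btab_145) (Btab_146) (Nat.ble 146 c)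
noncomputable def Btab_s_144_147 (c : Nat) : Nat := @Bool.rec (fun _ => Nat) (Btab_144) (Btab_s_145_147 c) (Nat.ble 145 c)
noncomputable def Btab_s_148_150 (c : Nat) : Nat := @Bool.rec (fun _ => Nat) (Btab_148) (Btab_149) (Nat.ble 149 c)
noncomputable def Btab_s_147_150 (c : Nat) : Nat := @Bool.rec (fun _ => Nat) (Btab_147) (Btab_s_148_150 c) (Nat.ble 148 c)
noncomputable def Btab_s_144_150 (c : Nat) : Nat := @Bool.rec (fun _ => Nat) (Btab_s_144_147 c) (Btab_s_147_150 c) (Nat.ble 147 c)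
noncomputable def Btab_s_139_150 (c : Nat) : Nat := @Bool.rec (fun _ => Nat) (Btab_s_139_144 c) (Btab_s_144_150 c) (Nat.ble 144 c)
noncomputable def Btab_s_151_153 (c : Nat) : Nat := @Bool.rec (fun _ => Nat) (Btab_151) (Btab_152) (Nat.ble 152 c)
noncomputable def Btab_s_150_153 (c : Nat) : Nat := @Bool.rec (fun _ => Nat) (Btab_150) (Btab_s_151_153 c) (Nat.ble 151 c)
noncomputable def Btab_s_154_156 (c : Nat) : Nat := @Bool.rec (fun _ => Nat) (Btab_154) (Btab_155) (Nat.ble 155 c)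
noncomputable def Btab_s_153_156 (c : Nat) : Nat := @Bool.rec (fun _ => Nat) (Btab_153) (Btab_s_154_156 c) (Nat.ble 154 c)
noncomputable def Btab_s_150_156 (c : Nat) : Nat := @Bool.rec (fun _ => Nat) (Btab_s_150_153 c) (Btab_s_153_156 c) (Nat.ble 153 c)
noncomputable def Btab_s_157_159 (c : Nat) : Nat := @Bool.rec (fun _ => Nat) (Btab_157) (Btab_158) (Nat.ble 158 c)
noncomputable def Btab_s_156_159 (c : Nat) : Nat := @Bool.rec (fun _ => Nat) (Btab_156) (Btab_s_157_159 c) (Nat.ble 157 c)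
noncomputable def Btab_s_160_162 (c : Nat) : Nat := @Bool.rec (fun _ => Nat) (Btab_160) (Btab_161) (Nat.ble 161 c)
noncomputable def Btab_s_159_162 (c : Nat) : Nat := @Bool.rec (fun _ => Nat) (Btab_159) (Btab_s_160_162 c) (Nat.ble 160 c)
noncomputable def Btab_s_156_162 (c : Nat) : Nat := @Bool.rec (fun _ => Nat) (Btab_s_156_159 c) (Btab_s_159_162 c) (Nat.ble 159 c)
noncomputable def Btab_s_150_162 (c : Nat) : Nat := @Bool.rec (fun _ => Nat) (Btab_s_150_156 c) (Btab_s_156_162 c) (Nat.ble 156 c)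
noncomputable def Btab_s_139_162 (c : Nat) : Nat := @Bool.rec (fun _ => Nat) (Btab_s_139_150 c) (Btab_s_150_162 c) (Nat.ble 150 c)
noncomputable def Btab_s_163_165 (c : Nat) : Nat := @Bool.rec (fun _ => Nat) (Btab_163) (Btab_164) (Nat.ble 164 c)
noncomputable def Btab_s_162_165 (c : Nat) : Nat := @Bool.rec (fun _ => Nat) (Btab_162) (Btab_s_163_165 c) (Nat.ble 163 c)
noncomputable def Btab_s_166_168 (c : Nat) : Nat := @Bool.rec (fun _ => Nat) (Btab_166) (Btab_167) (Nat.ble 167 c)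
noncomputable def Btab_s_165_168 (c : Nat) : Nat := @Bool.rec (fun _ => Nat) (Btab_165) (Btab_s_166_168 c) (Nat.ble 166 c)
noncomputable def Btab_s_162_168 (c : Nat) : Nat := @Bool.rec (fun _ => Nat) (Btab_s_162_165 c) (Btab_s_165_168 c) (Nat.ble 165 c)
noncomputable def Btab_s_169_171 (c : Nat) : Nat := @Bool.rec (fun _ => Nat) (Btab_169) (Btab_170) (Nat.ble 170 c)
noncomputable def Btab_s_168_171 (c : Nat) : Nat := @Bool.rec (fun _ => Nat) (Btab_168) (Btab_s_169_171 c) (Nat.ble 169 c)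
noncomputable def Btab_s_172_174 (c : Nat) : Nat := @Bool.rec (fun _ => Nat) (Btab_172) (Btab_173) (Nat.ble 173 c)
noncomputable def Btab_s_171_174 (c : Nat) : Nat := @Bool.rec (fun _ => Nat) (Btab_171) (Btab_s_172_174 c) (Nat.ble 172 c)
noncomputable def Btab_s_168_174 (c : Nat) : Nat := @Bool.rec (fun _ => Nat) (Btab_s_168_171 c) (Btab_s_171_174 c) (Nat.ble 171 c)
noncomputable def Btab_s_162_174 (c : Nat) : Nat := @Bool.rec (fun _ => Nat) (Btab_s_162_168 c) (Btab_s_168_174 c) (Nat.ble 168 c)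
noncomputable def Btab_s_175_177 (c : Nat) : Nat := @Bool.rec (fun _ => Nat) (Btab_175) (Btab_176) (Nat.ble 176 c)
noncomputable def Btab_s_174_177 (c : Nat) : Nat := @Bool.rec (fun _ => Nat) (Btab_174) (Btab_s_175_177 c) (Nat.ble 175 c)
noncomputable def Btab_s_178_180 (c : Nat) : Nat := @Bool.rec (fun _ => Nat) (Btab_178) (Btab_179) (Nat.ble 179 c)
noncomputable def Btab_s_177_180 (c : Nat) : Nat := @Bool.rec (fun _ => Nat) (Btab_177) (Btab_s_178_180 c) (Nat.ble 178 c)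
noncomputable def Btab_s_174_180 (c : Nat) : Nat := @Bool.rec (fun _ => Nat) (Btab_s_174_177 c) (Btab_s_177_180 c) (Nat.ble 177 c)
noncomputable def Btab_s_181_183 (c : Nat) : Nat := @Bool.rec (fun _ => Nat) (Btab_181) (Btab_182) (Nat.ble 182 c)
noncomputable def Btab_s_180_183 (c : Nat) : Nat := @Bool.rec (fun _ => Nat) (Btab_180) (Btab_s_181_183 c) (Nat.ble 181 c)
noncomputable def Btab_s_184_186 (c : Nat) : Nat := @Bool.rec (fun _ => Nat) (Btab_184) (Btab_185) (Nat.ble 185 c)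
noncomputable def Btab_s_183_186 (c : Nat) : Nat := @Bool.rec (fun _ => Nat) (Btab_183) (Btab_s_184_186 c) (Nat.ble 184 c)
noncomputable def Btab_s_180_186 (c : Nat) : Nat := @Bool.rec (fun _ => Nat) (Btab_s_180_183 c) (Btab_s_183_186 c) (Nat.ble 183 c)
noncomputable def Btab_s_174_186 (c : Nat) : Nat := @Bool.rec (fun _ => Nat) (Btab_s_174_180 c) (Btab_s_180_186 c) (Nat.ble 180 c)
noncomputable def Btab_s_162_186 (c : Nat) : Nat := @Bool.rec (fun _ => Nat) (Btab_s_162_174 c) (Btab_s_174_186 c) (Nat.ble 174 c)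
noncomputable def Btab_s_139_186 (c : Nat) : Nat := @Bool.rec (fun _ => Nat) (Btab_s_139_162 c) (Btab_s_162_186 c) (Nat.ble 162 c)
noncomputable def Btab_s_93_186 (c : Nat) : Nat := @Bool.rec (fun _ => Nat) (Btab_s_93_139 c) (Btab_s_139_186 c) (Nat.ble 139 c)
noncomputable def Btab_s_0_186 (c : Nat) : Nat := @Bool.rec (fun _ => Nat) (Btab_s_0_93 c) (Btab_s_93_186 c) (Nat.ble 93 c)
noncomputable def Btab_s_186_188 (c : Nat) : Nat := @Bool.rec (fun _ => Nat) (Btab_186) (Btab_187) (Nat.ble 187 c)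
noncomputable def Btab_s_189_191 (c : Nat) : Nat := @Bool.rec (fun _ => Nat) (Btab_189) (Btab_190) (Nat.ble 190 c)
noncomputable def Btab_s_188_191 (c : Nat) : Nat := @Bool.rec (fun _ => Nat) (Btab_188) (Btab_s_189_191 c) (Nat.ble 189 c)
noncomputable def Btab_s_186_191 (c : Nat) : Nat := @Bool.rec (fun _ => Nat) (Btab_s_186_188 c) (Btab_s_188_191 c) (Nat.ble 188 c)
noncomputable def Btab_s_192_194 (c : Nat) : Nat := @Bool.rec (fun _ => Nat) (Btab_192) (Btab_193) (Nat.ble 193 c)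
noncomputable def Btab_s_191_194 (c : Nat) : Nat := @Bool.rec (fun _ => Nat) (Btab_191) (Btab_s_192_194 c) (Nat.ble 192 c)
noncomputable def Btab_s_195_197 (c : Nat) : Nat := @Bool.rec (fun _ => Nat) (Btab_195) (Btab_196) (Nat.ble 196 c)
noncomputable def Btab_s_194_197 (c : Nat) : Nat := @Bool.rec (fun _ => Nat) (Btab_194) (Btab_s_195_197 c) (Nat.ble 195 c)
noncomputable def Btab_s_191_197 (c : Nat) : Nat := @Bool.rec (fun _ => Nat) (Btab_s_191_194 c) (Btab_s_194_197 c) (Nat.ble 194 c)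
noncomputable def Btab_s_186_197 (c : Nat) : Nat := @Bool.rec (fun _ => Nat) (Btab_s_186_191 c) (Btab_s_191_197 c) (Nat.ble 191 c)
noncomputable def Btab_s_198_200 (c : Nat) : Nat := @Bool.rec (fun _ => Nat) (Btab_198) (Btab_199) (Nat.ble 199 c)
noncomputable def Btab_s_197_200 (c : Nat) : Nat := @Bool.rec (fun _ => Nat) (Btab_197) (Btab_s_198_200 c) (Nat.ble 198 c)
noncomputable def Btab_s_201_203 (c : Nat) : Nat := @Bool.rec (fun _ => Nat) (Btab_201) (Btab_202) (Nat.ble 202 c)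
noncomputable def Btab_s_200_203 (c : Nat) : Nat := @Bool.rec (fun _ => Nat) (Btab_200) (Btab_s_201_203 c) (Nat.ble 201 c)
noncomputable def Btab_s_197_203 (c : Nat) : Nat := @Bool.rec (fun _ => Nat) (Btab_s_197_200 c) (Btab_s_200_203 c) (Nat.ble 200 c)
noncomputable def Btab_s_204_206 (c : Nat) : Nat := @Bool.rec (fun _ => Nat) (Btab_204) (Btab_205) (Nat.ble 205 c)
noncomputable def Btab_s_203_206 (c : Nat) : Nat := @Bool.rec (fun _ => Nat) (Btab_203) (Btab_s_204_206 c) (Nat.ble 204 c)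
noncomputable def Btab_s_207_209 (c : Nat) : Nat := @Bool.rec (fun _ => Nat) (Btab_207) (Btab_208) (Nat.ble 208 c)
noncomputable def Btab_s_206_209 (c : Nat) : Nat := @Bool.rec (fun _ => Nat) (Btab_206) (Btab_s_207_209 c) (Nat.ble 207 c)
noncomputable def Btab_s_203_209 (c : Nat) : Nat := @Bool.rec (fun _ => Nat) (Btab_s_203_206 c) (Btab_s_206_209 c) (Nat.ble 206 c)
noncomputable def Btab_s_197_209 (c : Nat) : Nat := @Bool.rec (fun _ => Nat) (Btab_s_197_203 c) (Btab_s_203_209 c) (Nat.ble 203 c)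
noncomputable def Btab_s_186_209 (c : Nat) : Nat := @Bool.rec (fun _ => Nat) (Btab_s_186_197 c) (Btab_s_197_209 c) (Nat.ble 197 c)
noncomputable def Btab_s_209_211 (c : Nat) : Nat := @Bool.rec (fun _ => Nat) (Btab_209) (Btab_210) (Nat.ble 210 c)
noncomputable def Btab_s_212_214 (c : Nat) : Nat := @Bool.rec (fun _ => Nat) (Btab_212) (Btab_213) (Nat.ble 213 c)
noncomputable def Btab_s_211_214 (c : Nat) : Nat := @Bool.rec (fun _ => Nat) (Btab_211) (Btab_s_212_214 c) (Nat.ble 212 c)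
noncomputable def Btab_s_209_214 (c : Nat) : Nat := @Bool.rec (fun _ => Nat) (Btab_s_209_211 c) (Btab_s_211_214 c) (Nat.ble 211 c)
noncomputable def Btab_s_215_217 (c : Nat) : Nat := @Bool.rec (fun _ => Nat) (Btab_215) (Btab_216) (Nat.ble 216 c)
noncomputable def Btab_s_214_217 (c : Nat) : Nat := @Bool.rec (fun _ => Nat) (Btab_214) (Btab_s_215_217 c) (Nat.ble 215 c)
noncomputable def Btab_s_218_220 (c : Nat) : Nat := @Bool.rec (fun _ => Nat) (Btab_218) (Btab_219) (Nat.ble 219 c)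
noncomputable def Btab_s_217_220 (c : Nat) : Nat := @Bool.rec (fun _ => Nat) (Btab_217) (Btab_s_218_220 c) (Nat.ble 218 c)
noncomputable def Btab_s_214_220 (c : Nat) : Nat := @Bool.rec (fun _ => Nat) (Btab_s_214_217 c) (Btab_s_217_220 c) (Nat.ble 217 c)
noncomputable def Btab_s_209_220 (c : Nat) : Nat := @Bool.rec (fun _ => Nat) (Btab_s_209_214 c) (Btab_s_214_220 c) (Nat.ble 214 c)
noncomputable def Btab_s_221_223 (c : Nat) : Nat := @Bool.rec (fun _ => Nat) (Btab_221) (Btab_222) (Nat.ble 222 c)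
noncomputable def Btab_s_220_223 (c : Nat) : Nat := @Bool.rec (fun _ => Nat) (Btab_220) (Btab_s_221_223 c) (Nat.ble 221 c)
noncomputable def Btab_s_224_226 (c : Nat) : Nat := @Bool.rec (fun _ => Nat) (Btab_224) (Btab_225) (Nat.ble 225 c)
noncomputable def Btab_s_223_226 (c : Nat) : Nat := @Bool.rec (fun _ => Nat) (Btab_223) (Btab_s_224_226 c) (Nat.ble 224 c)
noncomputable def Btab_s_220_226 (c : Nat) : Nat := @Bool.rec (fun _ => Nat) (Btab_s_220_223 c) (Btab_s_223_226 c) (Nat.ble 223 c)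
noncomputable def Btab_s_227_229 (c : Nat) : Nat := @Bool.rec (fun _ => Nat) (Btab_227) (Btab_228) (Nat.ble 228 c)
noncomputable def Btab_s_226_229 (c : Nat) : Nat := @Bool.rec (fun _ => Nat) (Btab_226) (Btab_s_227_229 c) (Nat.ble 227 c)
noncomputable def Btab_s_230_232 (c : Nat) : Nat := @Bool.rec (fun _ => Nat) (Btab_230) (Btab_231) (Nat.ble 231 c)
noncomputable def Btab_s_229_232 (c : Nat) : Nat := @Bool.rec (fun _ => Nat) (Btab_229) (Btab_s_230_232 c) (Nat.ble 230 c)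
noncomputable def Btab_s_226_232 (c : Nat) : Nat := @Bool.rec (fun _ => Nat) (Btab_s_226_229 c) (Btab_s_229_232 c) (Nat.ble 229 c)
noncomputable def Btab_s_220_232 (c : Nat) : Nat := @Bool.rec (fun _ => Nat) (Btab_s_220_226 c) (Btab_s_226_232 c) (Nat.ble 226 c)
noncomputable def Btab_s_209_232 (c : Nat) : Nat := @Bool.rec (fun _ => Nat) (Btab_s_209_220 c) (Btab_s_220_232 c) (Nat.ble 220 c)
noncomputable def Btab_s_186_232 (c : Nat) : Nat := @Bool.rec (fun _ => Nat) (Btab_s_186_209 c) (Btab_s_209_232 c) (Nat.ble 209 c)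
noncomputable def Btab_s_232_234 (c : Nat) : Nat := @Bool.rec (fun _ => Nat) (Btab_232) (Btab_233) (Nat.ble 233 c)
noncomputable def Btab_s_235_237 (c : Nat) : Nat := @Bool.rec (fun _ => Nat) (Btab_235) (Btab_236) (Nat.ble 236 c)
noncomputable def Btab_s_234_237 (c : Nat) : Nat := @Bool.rec (fun _ => Nat) (Btab_234) (Btab_s_235_237 c) (Nat.ble 235 c)
noncomputable def Btab_s_232_237 (c : Nat) : Nat := @Bool.rec (fun _ => Nat) (Btab_s_232_234 c) (Btab_s_234_237 c) (Nat.ble 234 c)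
noncomputable def Btab_s_238_240 (c : Nat) : Nat := @Bool.rec (fun _ => Nat) (Btab_238) (Btab_239) (Nat.ble 239 c)
noncomputable def Btab_s_237_240 (c : Nat) : Nat := @Bool.rec (fun _ => Nat) (Btab_237) (Btab_s_238_240 c) (Nat.ble 238 c)
noncomputable def Btab_s_241_243 (c : Nat) : Nat := @Bool.rec (fun _ => Nat) (Btab_241) (Btab_242) (Nat.ble 242 c)
noncomputable def Btab_s_240_243 (c : Nat) : Nat := @Bool.rec (fun _ => Nat) (Btab_240) (Btab_s_241_243 c) (Nat.ble 241 c)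
noncomputable def Btab_s_237_243 (c : Nat) : Nat := @Bool.rec (fun _ => Nat) (Btab_s_237_240 c) (Btab_s_240_243 c) (Nat.ble 240 c)
noncomputable def Btab_s_232_243 (c : Nat) : Nat := @Bool.rec (fun _ => Nat) (Btab_s_232_237 c) (Btab_s_237_243 c) (Nat.ble 237 c)
noncomputable def Btab_s_244_246 (c : Nat) : Nat := @Bool.rec (fun _ => Nat) (Btab_244) (Btab_245) (Nat.ble 245 c)
noncomputable def Btab_s_243_246 (c : Nat) : Nat := @Bool.rec (fun _ => Nat) (Btab_243) (Btab_s_244_246 c) (Nat.ble 244 c)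
noncomputable def Btab_s_247_249 (c : Nat) : Nat := @Bool.rec (fun _ => Nat) (Btab_247) (Btab_248) (Nat.ble 248 c)
noncomputable def Btab_s_246_249 (c : Nat) : Nat := @Bool.rec (fun _ => Nat) (Btab_246) (Btab_s_247_249 c) (Nat.ble 247 c)
noncomputable def Btab_s_243_249 (c : Nat) : Nat := @Bool.rec (fun _ => Nat) (Btab_s_243_246 c) (Btab_s_246_249 c) (Nat.ble 246 c)
noncomputable def Btab_s_250_252 (c : Nat) : Nat := @Bool.rec (fun _ => Nat) (Btab_250) (Btab_251) (Nat.ble 251 c)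
noncomputable def Btab_s_249_252 (c : Nat) : Nat := @Bool.rec (fun _ => Nat) (Btab_249) (Btab_s_250_252 c) (Nat.ble 250 c)
noncomputable def Btab_s_253_255 (c : Nat) : Nat := @Bool.rec (fun _ => Nat) (Btab_253) (Btab_254) (Nat.ble 254 c)
noncomputable def Btab_s_252_255 (c : Nat) : Nat := @Bool.rec (fun _ => Nat) (Btab_252) (Btab_s_253_255 c) (Nat.ble 253 c)
noncomputable def Btab_s_249_255 (c : Nat) : Nat := @Bool.rec (fun _ => Nat) (Btab_s_249_252 c) (Btab_s_252_255 c) (Nat.ble 252 c)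
noncomputable def Btab_s_243_255 (c : Nat) : Nat := @Bool.rec (fun _ => Nat) (Btab_s_243_249 c) (Btab_s_249_255 c) (Nat.ble 249 c)
noncomputable def Btab_s_232_255 (c : Nat) : Nat := @Bool.rec (fun _ => Nat) (Btab_s_232_243 c) (Btab_s_243_255 c) (Nat.ble 243 c)
noncomputable def Btab_s_256_258 (c : Nat) : Nat := @Bool.rec (fun _ => Nat) (Btab_256) (Btab_257) (Nat.ble 257 c)
noncomputable def Btab_s_255_258 (c : Nat) : Nat := @Bool.rec (fun _ => Nat) (Btab_255) (Btab_s_256_258 c) (Nat.ble 256 c)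
noncomputable def Btab_s_259_261 (c : Nat) : Nat := @Bool.rec (fun _ => Nat) (Btab_259) (Btab_260) (Nat.ble 260 c)
noncomputable def Btab_s_258_261 (c : Nat) : Nat := @Bool.rec (fun _ => Nat) (Btab_258) (Btab_s_259_261 c) (Nat.ble 259 c)
noncomputable def Btab_s_255_261 (c : Nat) : Nat := @Bool.rec (fun _ => Nat) (Btab_s_255_258 c) (Btab_s_258_261 c) (Nat.ble 258 c)
noncomputable def Btab_s_262_264 (c : Nat) : Nat := @Bool.rec (fun _ => Nat) (Btab_262) (Btab_263) (Nat.ble 263 c)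
noncomputable def Btab_s_261_264 (c : Nat) : Nat := @Bool.rec (fun _ => Nat) (Btab_261) (Btab_s_262_264 c) (Nat.ble 262 c)
noncomputable def Btab_s_265_267 (c : Nat) : Nat := @Bool.rec (fun _ => Nat) (Btab_265) (Btab_266) (Nat.ble 266 c)
noncomputable def Btab_s_264_267 (c : Nat) : Nat := @Bool.rec (fun _ => Nat) (Btab_264) (Btab_s_265_267 c) (Nat.ble 265 c)
noncomputable def Btab_s_261_267 (c : Nat) : Nat := @Bool.rec (fun _ => Nat) (Btab_s_261_264 c) (Btab_s_264_267 c) (Nat.ble 264 c)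
noncomputable def Btab_s_255_267 (c : Nat) : Nat := @Bool.rec (fun _ => Nat) (Btab_s_255_261 c) (Btab_s_261_267 c) (Nat.ble 261 c)
noncomputable def Btab_s_268_270 (c : Nat) : Nat := @Bool.rec (fun _ => Nat) (Btab_268) (Btab_269) (Nat.ble 269 c)
noncomputable def Btab_s_267_270 (c : Nat) : Nat := @Bool.rec (fun _ => Nat) (Btab_267) (Btab_s_268_270 c) (Nat.ble 268 c)
noncomputable def Btab_s_271_273 (c : Nat) : Nat := @Bool.rec (fun _ => Nat) (Btab_271) (Btab_272) (Nat.ble 272 c)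
noncomputable def Btab_s_270_273 (c : Nat) : Nat := @Bool.rec (fun _ => Nat) (Btab_270) (Btab_s_271_273 c) (Nat.ble 271 c)
noncomputable def Btab_s_267_273 (c : Nat) : Nat := @Bool.rec (fun _ => Nat) (Btab_s_267_270 c) (Btab_s_270_273 c) (Nat.ble 270 c)
noncomputable def Btab_s_274_276 (c : Nat) : Nat := @Bool.rec (fun _ => Nat) (Btab_274) (Btab_275) (Nat.ble 275 c)
noncomputable def Btab_s_273_276 (c : Nat) : Nat := @Bool.rec (fun _ => Nat) (Btab_273) (Btab_s_274_276 c) (Nat.ble 274 c)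
noncomputable def Btab_s_277_279 (c : Nat) : Nat := @Bool.rec (fun _ => Nat) (Btab_277) (Btab_278) (Nat.ble 278 c)
noncomputable def Btab_s_276_279 (c : Nat) : Nat := @Bool.rec (fun _ => Nat) (Btab_276) (Btab_s_277_279 c) (Nat.ble 277 c)
noncomputable def Btab_s_273_279 (c : Nat) : Nat := @Bool.rec (fun _ => Nat) (Btab_s_273_276 c) (Btab_s_276_279 c) (Nat.ble 276 c)
noncomputable def Btab_s_267_279 (c : Nat) : Nat := @Bool.rec (fun _ => Nat) (Btab_s_267_273 c) (Btab_s_273_279 c) (Nat.ble 273 c)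
noncomputable def Btab_s_255_279 (c : Nat) : Nat := @Bool.rec (fun _ => Nat) (Btab_s_255_267 c) (Btab_s_267_279 c) (Nat.ble 267 c)
noncomputable def Btab_s_232_279 (c : Nat) : Nat := @Bool.rec (fun _ => Nat) (Btab_s_232_255 c) (Btab_s_255_279 c) (Nat.ble 255 c)
noncomputable def Btab_s_186_279 (c : Nat) : Nat := @Bool.rec (fun _ => Nat) (Btab_s_186_232 c) (Btab_s_232_279 c) (Nat.ble 232 c)
noncomputable def Btab_s_279_281 (c : Nat) : Nat := @Bool.rec (fun _ => Nat) (Btab_279) (Btab_280) (Nat.ble 280 c)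
noncomputable def Btab_s_282_284 (c : Nat) : Nat := @Bool.rec (fun _ => Nat) (Btab_282) (Btab_283) (Nat.ble 283 c)
noncomputable def Btab_s_281_284 (c : Nat) : Nat := @Bool.rec (fun _ => Nat) (Btab_281) (Btab_s_282_284 c) (Nat.ble 282 c)
noncomputable def Btab_s_279_284 (c : Nat) : Nat := @Bool.rec (fun _ => Nat) (Btab_s_279_281 c) (Btab_s_281_284 c) (Nat.ble 281 c)
noncomputable def Btab_s_285_287 (c : Nat) : Nat := @Bool.rec (fun _ => Nat) (Btab_285) (Btab_286) (Nat.ble 286 c)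
noncomputable def Btab_s_284_287 (c : Nat) : Nat := @Bool.rec (fun _ => Nat) (Btab_284) (Btab_s_285_287 c) (Nat.ble 285 c)
noncomputable def Btab_s_288_290 (c : Nat) : Nat := @Bool.rec (fun _ => Nat) (Btab_288) (Btab_289) (Nat.ble 289 c)
noncomputable def Btab_s_287_290 (c : Nat) : Nat := @Bool.rec (fun _ => Nat) (Btab_287) (Btab_s_288_290 c) (Nat.ble 288 c)
noncomputable def Btab_s_284_290 (c : Nat) : Nat := @Bool.rec (fun _ => Nat) (Btab_s_284_287 c) (Btab_s_287_290 c) (Nat.ble 287 c)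
noncomputable def Btab_s_279_290 (c : Nat) : Nat := @Bool.rec (fun _ => Nat) (Btab_s_279_284 c) (Btab_s_284_290 c) (Nat.ble 284 c)
noncomputable def Btab_s_291_293 (c : Nat) : Nat := @Bool.rec (fun _ => Nat) (Btab_291) (Btab_292) (Nat.ble 292 c)
noncomputable def Btab_s_290_293 (c : Nat) : Nat := @Bool.rec (fun _ => Nat) (Btab_290) (Btab_s_291_293 c) (Nat.ble 291 c)
noncomputable def Btab_s_294_296 (c : Nat) : Nat := @Bool.rec (fun _ => Nat) (Btab_294) (Btab_295) (Nat.ble 295 c)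
noncomputable def Btab_s_293_296 (c : Nat) : Nat := @Bool.rec (fun _ => Nat) (Btab_293) (Btab_s_294_296 c) (Nat.ble 294 c)
noncomputable def Btab_s_290_296 (c : Nat) : Nat := @Bool.rec (fun _ => Nat) (Btab_s_290_293 c) (Btab_s_293_296 c) (Nat.ble 293 c)
noncomputable def Btab_s_297_299 (c : Nat) : Nat := @Bool.rec (fun _ => Nat) (Btab_297) (Btab_298) (Nat.ble 298 c)
noncomputable def Btab_s_296_299 (c : Nat) : Nat := @Bool.rec (fun _ => Nat) (Btab_296) (Btab_s_297_299 c) (Nat.ble 297 c)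
noncomputable def Btab_s_300_302 (c : Nat) : Nat := @Bool.rec (fun _ => Nat) (Btab_300) (Btab_301) (Nat.ble 301 c)
noncomputable def Btab_s_299_302 (c : Nat) : Nat := @Bool.rec (fun _ => Nat) (Btab_299) (Btab_s_300_302 c) (Nat.ble 300 c)
noncomputable def Btab_s_296_302 (c : Nat) : Nat := @Bool.rec (fun _ => Nat) (Btab_s_296_299 c) (Btab_s_299_302 c) (Nat.ble 299 c)
noncomputable def Btab_s_290_302 (c : Nat) : Nat := @Bool.rec (fun _ => Nat) (Btab_s_290_296 c) (Btab_s_296_302 c) (Nat.ble 296 c)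
noncomputable def Btab_s_279_302 (c : Nat) : Nat := @Bool.rec (fun _ => Nat) (Btab_s_279_290 c) (Btab_s_290_302 c) (Nat.ble 290 c)
noncomputable def Btab_s_303_305 (c : Nat) : Nat := @Bool.rec (fun _ => Nat) (Btab_303) (Btab_304) (Nat.ble 304 c)
noncomputable def Btab_s_302_305 (c : Nat) : Nat := @Bool.rec (fun _ => Nat) (Btab_302) (Btab_s_303_305 c) (Nat.ble 303 c)
noncomputable def Btab_s_306_308 (c : Nat) : Nat := @Bool.rec (fun _ => Nat) (Btab_306) (Btab_307) (Nat.ble 307 c)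
noncomputable def Btab_s_305_308 (c : Nat) : Nat := @Bool.rec (fun _ => Nat) (Btab_305) (Btab_s_306_308 c) (Nat.ble 306 c)
noncomputable def Btab_s_302_308 (c : Nat) : Nat := @Bool.rec (fun _ => Nat) (Btab_s_302_305 c) (Btab_s_305_308 c) (Nat.ble 305 c)
noncomputable def Btab_s_309_311 (c : Nat) : Nat := @Bool.rec (fun _ => Nat) (Btab_309) (Btab_310) (Nat.ble 310 c)
noncomputable def Btab_s_308_311 (c : Nat) : Nat := @Bool.rec (fun _ => Nat) (Btab_308) (Btab_s_309_311 c) (Nat.ble 309 c)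
noncomputable def Btab_s_312_314 (c : Nat) : Nat := @Bool.rec (fun _ => Nat) (Btab_312) (Btab_313) (Nat.ble 313 c)
noncomputable def Btab_s_311_314 (c : Nat) : Nat := @Bool.rec (fun _ => Nat) (Btab_311) (Btab_s_312_314 c) (Nat.ble 312 c)
noncomputable def Btab_s_308_314 (c : Nat) : Nat := @Bool.rec (fun _ => Nat) (Btab_s_308_311 c) (Btab_s_311_314 c) (Nat.ble 311 c)
noncomputable def Btab_s_302_314 (c : Nat) : Nat := @Bool.rec (fun _ => Nat) (Btab_s_302_308 c) (Btab_s_308_314 c) (Nat.ble 308 c)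
noncomputable def Btab_s_315_317 (c : Nat) : Nat := @Bool.rec (fun _ => Nat) (Btab_315) (Btab_316) (Nat.ble 316 c)
noncomputable def Btab_s_314_317 (c : Nat) : Nat := @Bool.rec (fun _ => Nat) (Btab_314) (Btab_s_315_317 c) (Nat.ble 315 c)
noncomputable def Btab_s_318_320 (c : Nat) : Nat := @Bool.rec (fun _ => Nat) (Btab_318) (Btab_319) (Nat.ble 319 c)
noncomputable def Btab_s_317_320 (c : Nat) : Nat := @Bool.rec (fun _ => Nat) (Btab_317) (Btab_s_318_320 c) (Nat.ble 318 c)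
noncomputable def Btab_s_314_320 (c : Nat) : Nat := @Bool.rec (fun _ => Nat) (Btab_s_314_317 c) (Btab_s_317_320 c) (Nat.ble 317 c)
noncomputable def Btab_s_321_323 (c : Nat) : Nat := @Bool.rec (fun _ => Nat) (Btab_321) (Btab_322) (Nat.ble 322 c)
noncomputable def Btab_s_320_323 (c : Nat) : Nat := @Bool.rec (fun _ => Nat) (Btab_320) (Btab_s_321_323 c) (Nat.ble 321 c)
noncomputable def Btab_s_324_326 (c : Nat) : Nat := @Bool.rec (fun _ => Nat) (Btab_324) (Btab_325) (Nat.ble 325 c)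
noncomputable def Btab_s_323_326 (c : Nat) : Nat := @Bool.rec (fun _ => Nat) (Btab_323) (Btab_s_324_326 c) (Nat.ble 324 c)
noncomputable def Btab_s_320_326 (c : Nat) : Nat := @Bool.rec (fun _ => Nat) (Btab_s_320_323 c) (Btab_s_323_326 c) (Nat.ble 323 c)
noncomputable def Btab_s_314_326 (c : Nat) : Nat := @Bool.rec (fun _ => Nat) (Btab_s_314_320 c) (Btab_s_320_326 c) (Nat.ble 320 c)
noncomputable def Btab_s_302_326 (c : Nat) : Nat := @Bool.rec (fun _ => Nat) (Btab_s_302_314 c) (Btab_s_314_326 c) (Nat.ble 314 c)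
noncomputable def Btab_s_279_326 (c : Nat) : Nat := @Bool.rec (fun _ => Nat) (Btab_s_279_302 c) (Btab_s_302_326 c) (Nat.ble 302 c)
noncomputable def Btab_s_326_328 (c : Nat) : Nat := @Bool.rec (fun _ => Nat) (Btab_326) (Btab_327) (Nat.ble 327 c)
noncomputable def Btab_s_329_331 (c : Nat) : Nat := @Bool.rec (fun _ => Nat) (Btab_329) (Btab_330) (Nat.ble 330 c)
noncomputable def Btab_s_328_331 (c : Nat) : Nat := @Bool.rec (fun _ => Nat) (Btab_328) (Btab_s_329_331 c) (Nat.ble 329 c)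
noncomputable def Btab_s_326_331 (c : Nat) : Nat := @Bool.rec (fun _ => Nat) (Btab_s_326_328 c) (Btab_s_328_331 c) (Nat.ble 328 c)
noncomputable def Btab_s_332_334 (c : Nat) : Nat := @Bool.rec (fun _ => Nat) (Btab_332) (Btab_333) (Nat.ble 333 c)
noncomputable def Btab_s_331_334 (c : Nat) : Nat := @Bool.rec (fun _ => Nat) (Btab_331) (Btab_s_332_334 c) (Nat.ble 332 c)
noncomputable def Btab_s_335_337 (c : Nat) : Nat := @Bool.rec (fun _ => Nat) (Btab_335) (Btab_336) (Nat.ble 336 c)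
noncomputable def Btab_s_334_337 (c : Nat) : Nat := @Bool.rec (fun _ => Nat) (Btab_334) (Btab_s_335_337 c) (Nat.ble 335 c)
noncomputable def Btab_s_331_337 (c : Nat) : Nat := @Bool.rec (fun _ => Nat) (Btab_s_331_334 c) (Btab_s_334_337 c) (Nat.ble 334 c)
noncomputable def Btab_s_326_337 (c : Nat) : Nat := @Bool.rec (fun _ => Nat) (Btab_s_326_331 c) (Btab_s_331_337 c) (Nat.ble 331 c)
noncomputable def Btab_s_338_340 (c : Nat) : Nat := @Bool.rec (fun _ => Nat) (Btab_338) (Btab_339) (Nat.ble 339 c)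
noncomputable def Btab_s_337_340 (c : Nat) : Nat := @Bool.rec (fun _ => Nat) (Btab_337) (Btab_s_338_340 c) (Nat.ble 338 c)
noncomputable def Btab_s_341_343 (c : Nat) : Nat := @Bool.rec (fun _ => Nat) (Btab_341) (Btab_342) (Nat.ble 342 c)
noncomputable def Btab_s_340_343 (c : Nat) : Nat := @Bool.rec (fun _ => Nat) (Btab_340) (Btab_s_341_343 c) (Nat.ble 341 c)
noncomputable def Btab_s_337_343 (c : Nat) : Nat := @Bool.rec (fun _ => Nat) (Btab_s_337_340 c) (Btab_s_340_343 c) (Nat.ble 340 c)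
noncomputable def Btab_s_344_346 (c : Nat) : Nat := @Bool.rec (fun _ => Nat) (Btab_344) (Btab_345) (Nat.ble 345 c)
noncomputable def Btab_s_343_346 (c : Nat) : Nat := @Bool.rec (fun _ => Nat) (Btab_343) (Btab_s_344_346 c) (Nat.ble 344 c)
noncomputable def Btab_s_347_349 (c : Nat) : Nat := @Bool.rec (fun _ => Nat) (Btab_347) (Btab_348) (Nat.ble 348 c)
noncomputable def Btab_s_346_349 (c : Nat) : Nat := @Bool.rec (fun _ => Nat) (Btab_346) (Btab_s_347_349 c) (Nat.ble 347 c)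
noncomputable def Btab_s_343_349 (c : Nat) : Nat := @Bool.rec (fun _ => Nat) (Btab_s_343_346 c) (Btab_s_346_349 c) (Nat.ble 346 c)
noncomputable def Btab_s_337_349 (c : Nat) : Nat := @Bool.rec (fun _ => Nat) (Btab_s_337_343 c) (Btab_s_343_349 c) (Nat.ble 343 c)
noncomputable def Btab_s_326_349 (c : Nat) : Nat := @Bool.rec (fun _ => Nat) (Btab_s_326_337 c) (Btab_s_337_349 c) (Nat.ble 337 c)
noncomputable def Btab_s_350_352 (c : Nat) : Nat := @Bool.rec (fun _ => Nat) (Btab_350) (Btab_351) (Nat.ble 351 c)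
noncomputable def Btab_s_349_352 (c : Nat) : Nat := @Bool.rec (fun _ => Nat) (Btab_349) (Btab_s_350_352 c) (Nat.ble 350 c)
noncomputable def Btab_s_353_355 (c : Nat) : Nat := @Bool.rec (fun _ => Nat) (Btab_353) (Btab_354) (Nat.ble 354 c)
noncomputable def Btab_s_352_355 (c : Nat) : Nat := @Bool.rec (fun _ => Nat) (Btab_352) (Btab_s_353_355 c) (Nat.ble 353 c)
noncomputable def Btab_s_349_355 (c : Nat) : Nat := @Bool.rec (fun _ => Nat) (Btab_s_349_352 c) (Btab_s_352_355 c) (Nat.ble 352 c)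
noncomputable def Btab_s_356_358 (c : Nat) : Nat := @Bool.rec (fun _ => Nat) (Btab_356) (Btab_357) (Nat.ble 357 c)
noncomputable def Btab_s_355_358 (c : Nat) : Nat := @Bool.rec (fun _ => Nat) (Btab_355) (Btab_s_356_358 c) (Nat.ble 356 c)
noncomputable def Btab_s_359_361 (c : Nat) : Nat := @Bool.rec (fun _ => Nat) (Btab_359) (Btab_360) (Nat.ble 360 c)
noncomputable def Btab_s_358_361 (c : Nat) : Nat := @Bool.rec (fun _ => Nat) (Btab_358) (Btab_s_359_361 c) (Nat.ble 359 c)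
noncomputable def Btab_s_355_361 (c : Nat) : Nat := @Bool.rec (fun _ => Nat) (Btab_s_355_358 c) (Btab_s_358_361 c) (Nat.ble 358 c)
noncomputable def Btab_s_349_361 (c : Nat) : Nat := @Bool.rec (fun _ => Nat) (Btab_s_349_355 c) (Btab_s_355_361 c) (Nat.ble 355 c)
noncomputable def Btab_s_362_364 (c : Nat) : Nat := @Bool.rec (fun _ => Nat) (Btab_362) (Btab_363) (Nat.ble 363 c)
noncomputable def Btab_s_361_364 (c : Nat) : Nat := @Bool.rec (fun _ => Nat) (Btab_361) (Btab_s_362_364 c) (Nat.ble 362 c)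
noncomputable def Btab_s_365_367 (c : Nat) : Nat := @Bool.rec (fun _ => Nat) (Btab_365) (Btab_366) (Nat.ble 366 c)
noncomputable def Btab_s_364_367 (c : Nat) : Nat := @Bool.rec (fun _ => Nat) (Btab_364) (Btab_s_365_367 c) (Nat.ble 365 c)
noncomputable def Btab_s_361_367 (c : Nat) : Nat := @Bool.rec (fun _ => Nat) (Btab_s_361_364 c) (Btab_s_364_367 c) (Nat.ble 364 c)
noncomputable def Btab_s_368_370 (c : Nat) : Nat := @Bool.rec (fun _ => Nat) (Btab_368) (Btab_369) (Nat.ble 369 c)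
noncomputable def Btab_s_367_370 (c : Nat) : Nat := @Bool.rec (fun _ => Nat) (Btab_367) (Btab_s_368_370 c) (Nat.ble 368 c)
noncomputable def Btab_s_371_373 (c : Nat) : Nat := @Bool.rec (fun _ => Nat) (Btab_371) (Btab_372) (Nat.ble 372 c)
noncomputable def Btab_s_370_373 (c : Nat) : Nat := @Bool.rec (fun _ => Nat) (Btab_370) (Btab_s_371_373 c) (Nat.ble 371 c)
noncomputable def Btab_s_367_373 (c : Nat) : Nat := @Bool.rec (fun _ => Nat) (Btab_s_367_370 c) (Btab_s_370_373 c) (Nat.ble 370 c)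
noncomputable def Btab_s_361_373 (c : Nat) : Nat := @Bool.rec (fun _ => Nat) (Btab_s_361_367 c) (Btab_s_367_373 c) (Nat.ble 367 c)
noncomputable def Btab_s_349_373 (c : Nat) : Nat := @Bool.rec (fun _ => Nat) (Btab_s_349_361 c) (Btab_s_361_373 c) (Nat.ble 361 c)
noncomputable def Btab_s_326_373 (c : Nat) : Nat := @Bool.rec (fun _ => Nat) (Btab_s_326_349 c) (Btab_s_349_373 c) (Nat.ble 349 c)
noncomputable def Btab_s_279_373 (c : Nat) : Nat := @Bool.rec (fun _ => Nat) (Btab_s_279_326 c) (Btab_s_326_373 c) (Nat.ble 326 c)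
noncomputable def Btab_s_186_373 (c : Nat) : Nat := @Bool.rec (fun _ => Nat) (Btab_s_186_279 c) (Btab_s_279_373 c) (Nat.ble 279 c)
noncomputable def Btab_s_0_373 (c : Nat) : Nat := @Bool.rec (fun _ => Nat) (Btab_s_0_186 c) (Btab_s_186_373 c) (Nat.ble 186 c)
noncomputable def Btab (i : Nat) : Nat := rdw 44 17592186044415 (Btab_s_0_373 (Nat.shiftRight i 11)) (Nat.land i 2047)
noncomputable def Ptab_s_1_3 (c : Nat) : Nat := @Bool.rec (fun _ => Nat) (Ptab_1) (Ptab_2) (Nat.ble 2 c)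
noncomputable def Ptab_s_0_3 (c : Nat) : Nat := @Bool.rec (fun _ => Nat) (Ptab_0) (Ptab_s_1_3 c) (Nat.ble 1 c)
noncomputable def Ptab_s_4_6 (c : Nat) : Nat := @Bool.rec (fun _ => Nat) (Ptab_4) (Ptab_5) (Nat.ble 5 c)
noncomputable def Ptab_s_3_6 (c : Nat) : Nat := @Bool.rec (fun _ => Nat) (Ptab_3) (Ptab_s_4_6 c) (Nat.ble 4 c)
noncomputable def Ptab_s_0_6 (c : Nat) : Nat := @Bool.rec (fun _ => Nat) (Ptab_s_0_3 c) (Ptab_s_3_6 c) (Nat.ble 3 c)
noncomputable def Ptab_s_7_9 (c : Nat) : Nat := @Bool.rec (fun _ => Nat) (Ptab_7) (Ptab_8) (Nat.ble 8 c)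
noncomputable def Ptab_s_6_9 (c : Nat) : Nat := @Bool.rec (fun _ => Nat) (Ptab_6) (Ptab_s_7_9 c) (Nat.ble 7 c)
noncomputable def Ptab_s_9_11 (c : Nat) : Nat := @Bool.rec (fun _ => Nat) (Ptab_9) (Ptab_10) (Nat.ble 10 c)
noncomputable def Ptab_s_11_13 (c : Nat) : Nat := @Bool.rec (fun _ => Nat) (Ptab_11) (Ptab_12) (Nat.ble 12 c)
noncomputable def Ptab_s_9_13 (c : Nat) : Nat := @Bool.rec (fun _ => Nat) (Ptab_s_9_11 c) (Ptab_s_11_13 c) (Nat.ble 11 c)
noncomputable def Ptab_s_6_13 (c : Nat) : Nat := @Bool.rec (fun _ => Nat) (Ptab_s_6_9 c) (Ptab_s_9_13 c) (Nat.ble 9 c)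
noncomputable def Ptab_s_0_13 (c : Nat) : Nat := @Bool.rec (fun _ => Nat) (Ptab_s_0_6 c) (Ptab_s_6_13 c) (Nat.ble 6 c)
noncomputable def Ptab_s_14_16 (c : Nat) : Nat := @Bool.rec (fun _ => Nat) (Ptab_14) (Ptab_15) (Nat.ble 15 c)
noncomputable def Ptab_s_13_16 (c : Nat) : Nat := @Bool.rec (fun _ => Nat) (Ptab_13) (Ptab_s_14_16 c) (Nat.ble 14 c)
noncomputable def Ptab_s_16_18 (c : Nat) : Nat := @Bool.rec (fun _ => Nat) (Ptab_16) (Ptab_17) (Nat.ble 17 c)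
noncomputable def Ptab_s_18_20 (c : Nat) : Nat := @Bool.rec (fun _ => Nat) (Ptab_18) (Ptab_19) (Nat.ble 19 c)
noncomputable def Ptab_s_16_20 (c : Nat) : Nat := @Bool.rec (fun _ => Nat) (Ptab_s_16_18 c) (Ptab_s_18_20 c) (Nat.ble 18 c)
noncomputable def Ptab_s_13_20 (c : Nat) : Nat := @Bool.rec (fun _ => Nat) (Ptab_s_13_16 c) (Ptab_s_16_20 c) (Nat.ble 16 c)
noncomputable def Ptab_s_21_23 (c : Nat) : Nat := @Bool.rec (fun _ => Nat) (Ptab_21) (Ptab_22) (Nat.ble 22 c)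
noncomputable def Ptab_s_20_23 (c : Nat) : Nat := @Bool.rec (fun _ => Nat) (Ptab_20) (Ptab_s_21_23 c) (Nat.ble 21 c)
noncomputable def Ptab_s_23_25 (c : Nat) : Nat := @Bool.rec (fun _ => Nat) (Ptab_23) (Ptab_24) (Nat.ble 24 c)
noncomputable def Ptab_s_25_27 (c : Nat) : Nat := @Bool.rec (fun _ => Nat) (Ptab_25) (Ptab_26) (Nat.ble 26 c)
noncomputable def Ptab_s_23_27 (c : Nat) : Nat := @Bool.rec (fun _ => Nat) (Ptab_s_23_25 c) (Ptab_s_25_27 c) (Nat.ble 25 c)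
noncomputable def Ptab_s_20_27 (c : Nat) : Nat := @Bool.rec (fun _ => Nat) (Ptab_s_20_23 c) (Ptab_s_23_27 c) (Nat.ble 23 c)
noncomputable def Ptab_s_13_27 (c : Nat) : Nat := @Bool.rec (fun _ => Nat) (Ptab_s_13_20 c) (Ptab_s_20_27 c) (Nat.ble 20 c)
noncomputable def Ptab_s_0_27 (c : Nat) : Nat := @Bool.rec (fun _ => Nat) (Ptab_s_0_13 c) (Ptab_s_13_27 c) (Nat.ble 13 c)
noncomputable def Ptab_s_28_30 (c : Nat) : Nat := @Bool.rec (fun _ => Nat) (Ptab_28) (Ptab_29) (Nat.ble 29 c)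
noncomputable def Ptab_s_27_30 (c : Nat) : Nat := @Bool.rec (fun _ => Nat) (Ptab_27) (Ptab_s_28_30 c) (Nat.ble 28 c)
noncomputable def Ptab_s_31_33 (c : Nat) : Nat := @Bool.rec (fun _ => Nat) (Ptab_31) (Ptab_32) (Nat.ble 32 c)
noncomputable def Ptab_s_30_33 (c : Nat) : Nat := @Bool.rec (fun _ => Nat) (Ptab_30) (Ptab_s_31_33 c) (Nat.ble 31 c)
noncomputable def Ptab_s_27_33 (c : Nat) : Nat := @Bool.rec (fun _ => Nat) (Ptab_s_27_30 c) (Ptab_s_30_33 c) (Nat.ble 30 c)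
noncomputable def Ptab_s_34_36 (c : Nat) : Nat := @Bool.rec (fun _ => Nat) (Ptab_34) (Ptab_35) (Nat.ble 35 c)
noncomputable def Ptab_s_33_36 (c : Nat) : Nat := @Bool.rec (fun _ => Nat) (Ptab_33) (Ptab_s_34_36 c) (Nat.ble 34 c)
noncomputable def Ptab_s_36_38 (c : Nat) : Nat := @Bool.rec (fun _ => Nat) (Ptab_36) (Ptab_37) (Nat.ble 37 c)
noncomputable def Ptab_s_38_40 (c : Nat) : Nat := @Bool.rec (fun _ => Nat) (Ptab_38) (Ptab_39) (Nat.ble 39 c)
noncomputable def Ptab_s_36_40 (c : Nat) : Nat := @Bool.rec (fun _ => Nat) (Ptab_s_36_38 c) (Ptab_s_38_40 c) (Nat.ble 38 c)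
noncomputable def Ptab_s_33_40 (c : Nat) : Nat := @Bool.rec (fun _ => Nat) (Ptab_s_33_36 c) (Ptab_s_36_40 c) (Nat.ble 36 c)
noncomputable def Ptab_s_27_40 (c : Nat) : Nat := @Bool.rec (fun _ => Nat) (Ptab_s_27_33 c) (Ptab_s_33_40 c) (Nat.ble 33 c)
noncomputable def Ptab_s_41_43 (c : Nat) : Nat := @Bool.rec (fun _ => Nat) (Ptab_41) (Ptab_42) (Nat.ble 42 c)
noncomputable def Ptab_s_40_43 (c : Nat) : Nat := @Bool.rec (fun _ => Nat) (Ptab_40) (Ptab_s_41_43 c) (Nat.ble 41 c)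
noncomputable def Ptab_s_43_45 (c : Nat) : Nat := @Bool.rec (fun _ => Nat) (Ptab_43) (Ptab_44) (Nat.ble 44 c)
noncomputable def Ptab_s_45_47 (c : Nat) : Nat := @Bool.rec (fun _ => Nat) (Ptab_45) (Ptab_46) (Nat.ble 46 c)
noncomputable def Ptab_s_43_47 (c : Nat) : Nat := @Bool.rec (fun _ => Nat) (Ptab_s_43_45 c) (Ptab_s_45_47 c) (Nat.ble 45 c)
noncomputable def Ptab_s_40_47 (c : Nat) : Nat := @Bool.rec (fun _ => Nat) (Ptab_s_40_43 c) (Ptab_s_43_47 c) (Nat.ble 43 c)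
noncomputable def Ptab_s_48_50 (c : Nat) : Nat := @Bool.rec (fun _ => Nat) (Ptab_48) (Ptab_49) (Nat.ble 49 c)
noncomputable def Ptab_s_47_50 (c : Nat) : Nat := @Bool.rec (fun _ => Nat) (Ptab_47) (Ptab_s_48_50 c) (Nat.ble 48 c)
noncomputable def Ptab_s_50_52 (c : Nat) : Nat := @Bool.rec (fun _ => Nat) (Ptab_50) (Ptab_51) (Nat.ble 51 c)
noncomputable def Ptab_s_52_54 (c : Nat) : Nat := @Bool.rec (fun _ => Nat) (Ptab_52) (Ptab_53) (Nat.ble 53 c)
noncomputable def Ptab_s_50_54 (c : Nat) : Nat := @Bool.rec (fun _ => Nat) (Ptab_s_50_52 c) (Ptab_s_52_54 c) (Nat.ble 52 c)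
noncomputable def Ptab_s_47_54 (c : Nat) : Nat := @Bool.rec (fun _ => Nat) (Ptab_s_47_50 c) (Ptab_s_50_54 c) (Nat.ble 50 c)
noncomputable def Ptab_s_40_54 (c : Nat) : Nat := @Bool.rec (fun _ => Nat) (Ptab_s_40_47 c) (Ptab_s_47_54 c) (Nat.ble 47 c)
noncomputable def Ptab_s_27_54 (c : Nat) : Nat := @Bool.rec (fun _ => Nat) (Ptab_s_27_40 c) (Ptab_s_40_54 c) (Nat.ble 40 c)
noncomputable def Ptab_s_0_54 (c : Nat) : Nat := @Bool.rec (fun _ => Nat) (Ptab_s_0_27 c) (Ptab_s_27_54 c) (Nat.ble 27 c)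
noncomputable def Ptab_s_55_57 (c : Nat) : Nat := @Bool.rec (fun _ => Nat) (Ptab_55) (Ptab_56) (Nat.ble 56 c)
noncomputable def Ptab_s_54_57 (c : Nat) : Nat := @Bool.rec (fun _ => Nat) (Ptab_54) (Ptab_s_55_57 c) (Nat.ble 55 c)
noncomputable def Ptab_s_58_60 (c : Nat) : Nat := @Bool.rec (fun _ => Nat) (Ptab_58) (Ptab_59) (Nat.ble 59 c)
noncomputable def Ptab_s_57_60 (c : Nat) : Nat := @Bool.rec (fun _ => Nat) (Ptab_57) (Ptab_s_58_60 c) (Nat.ble 58 c)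
noncomputable def Ptab_s_54_60 (c : Nat) : Nat := @Bool.rec (fun _ => Nat) (Ptab_s_54_57 c) (Ptab_s_57_60 c) (Nat.ble 57 c)
noncomputable def Ptab_s_61_63 (c : Nat) : Nat := @Bool.rec (fun _ => Nat) (Ptab_61) (Ptab_62) (Nat.ble 62 c)
noncomputable def Ptab_s_60_63 (c : Nat) : Nat := @Bool.rec (fun _ => Nat) (Ptab_60) (Ptab_s_61_63 c) (Nat.ble 61 c)
noncomputable def Ptab_s_63_65 (c : Nat) : Nat := @Bool.rec (fun _ => Nat) (Ptab_63) (Ptab_64) (Nat.ble 64 c)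
noncomputable def Ptab_s_65_67 (c : Nat) : Nat := @Bool.rec (fun _ => Nat) (Ptab_65) (Ptab_66) (Nat.ble 66 c)
noncomputable def Ptab_s_63_67 (c : Nat) : Nat := @Bool.rec (fun _ => Nat) (Ptab_s_63_65 c) (Ptab_s_65_67 c) (Nat.ble 65 c)
noncomputable def Ptab_s_60_67 (c : Nat) : Nat := @Bool.rec (fun _ => Nat) (Ptab_s_60_63 c) (Ptab_s_63_67 c) (Nat.ble 63 c)
noncomputable def Ptab_s_54_67 (c : Nat) : Nat := @Bool.rec (fun _ => Nat) (Ptab_s_54_60 c) (Ptab_s_60_67 c) (Nat.ble 60 c)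
noncomputable def Ptab_s_68_70 (c : Nat) : Nat := @Bool.rec (fun _ => Nat) (Ptab_68) (Ptab_69) (Nat.ble 69 c)
noncomputable def Ptab_s_67_70 (c : Nat) : Nat := @Bool.rec (fun _ => Nat) (Ptab_67) (Ptab_s_68_70 c) (Nat.ble 68 c)
noncomputable def Ptab_s_70_72 (c : Nat) : Nat := @Bool.rec (fun _ => Nat) (Ptab_70) (Ptab_71) (Nat.ble 71 c)
noncomputable def Ptab_s_72_74 (c : Nat) : Nat := @Bool.rec (fun _ => Nat) (Ptab_72) (Ptab_73) (Nat.ble 73 c)
noncomputable def Ptab_s_70_74 (c : Nat) : Nat := @Bool.rec (fun _ => Nat) (Ptab_s_70_72 c) (Ptab_s_72_74 c) (Nat.ble 72 c)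
noncomputable def Ptab_s_67_74 (c : Nat) : Nat := @Bool.rec (fun _ => Nat) (Ptab_s_67_70 c) (Ptab_s_70_74 c) (Nat.ble 70 c)
noncomputable def Ptab_s_75_77 (c : Nat) : Nat := @Bool.rec (fun _ => Nat) (Ptab_75) (Ptab_76) (Nat.ble 76 c)
noncomputable def Ptab_s_74_77 (c : Nat) : Nat := @Bool.rec (fun _ => Nat) (Ptab_74) (Ptab_s_75_77 c) (Nat.ble 75 c)
noncomputable def Ptab_s_77_79 (c : Nat) : Nat := @Bool.rec (fun _ => Nat) (Ptab_77) (Ptab_78) (Nat.ble 78 c)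
noncomputable def Ptab_s_79_81 (c : Nat) : Nat := @Bool.rec (fun _ => Nat) (Ptab_79) (Ptab_80) (Nat.ble 80 c)
noncomputable def Ptab_s_77_81 (c : Nat) : Nat := @Bool.rec (fun _ => Nat) (Ptab_s_77_79 c) (Ptab_s_79_81 c) (Nat.ble 79 c)
noncomputable def Ptab_s_74_81 (c : Nat) : Nat := @Bool.rec (fun _ => Nat) (Ptab_s_74_77 c) (Ptab_s_77_81 c) (Nat.ble 77 c)
noncomputable def Ptab_s_67_81 (c : Nat) : Nat := @Bool.rec (fun _ => Nat) (Ptab_s_67_74 c) (Ptab_s_74_81 c) (Nat.ble 74 c)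
noncomputable def Ptab_s_54_81 (c : Nat) : Nat := @Bool.rec (fun _ => Nat) (Ptab_s_54_67 c) (Ptab_s_67_81 c) (Nat.ble 67 c)
noncomputable def Ptab_s_82_84 (c : Nat) : Nat := @Bool.rec (fun _ => Nat) (Ptab_82) (Ptab_83) (Nat.ble 83 c)
noncomputable def Ptab_s_81_84 (c : Nat) : Nat := @Bool.rec (fun _ => Nat) (Ptab_81) (Ptab_s_82_84 c) (Nat.ble 82 c)
noncomputable def Ptab_s_85_87 (c : Nat) : Nat := @Bool.rec (fun _ => Nat) (Ptab_85) (Ptab_86) (Nat.ble 86 c)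
noncomputable def Ptab_s_84_87 (c : Nat) : Nat := @Bool.rec (fun _ => Nat) (Ptab_84) (Ptab_s_85_87 c) (Nat.ble 85 c)
noncomputable def Ptab_s_81_87 (c : Nat) : Nat := @Bool.rec (fun _ => Nat) (Ptab_s_81_84 c) (Ptab_s_84_87 c) (Nat.ble 84 c)
noncomputable def Ptab_s_88_90 (c : Nat) : Nat := @Bool.rec (fun _ => Nat) (Ptab_88) (Ptab_89) (Nat.ble 89 c)
noncomputable def Ptab_s_87_90 (c : Nat) : Nat := @Bool.rec (fun _ => Nat) (Ptab_87) (Ptab_s_88_90 c) (Nat.ble 88 c)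
noncomputable def Ptab_s_90_92 (c : Nat) : Nat := @Bool.rec (fun _ => Nat) (Ptab_90) (Ptab_91) (Nat.ble 91 c)
noncomputable def Ptab_s_92_94 (c : Nat) : Nat := @Bool.rec (fun _ => Nat) (Ptab_92) (Ptab_93) (Nat.ble 93 c)
noncomputable def Ptab_s_90_94 (c : Nat) : Nat := @Bool.rec (fun _ => Nat) (Ptab_s_90_92 c) (Ptab_s_92_94 c) (Nat.ble 92 c)
noncomputable def Ptab_s_87_94 (c : Nat) : Nat := @Bool.rec (fun _ => Nat) (Ptab_s_87_90 c) (Ptab_s_90_94 c) (Nat.ble 90 c)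
noncomputable def Ptab_s_81_94 (c : Nat) : Nat := @Bool.rec (fun _ => Nat) (Ptab_s_81_87 c) (Ptab_s_87_94 c) (Nat.ble 87 c)
noncomputable def Ptab_s_95_97 (c : Nat) : Nat := @Bool.rec (fun _ => Nat) (Ptab_95) (Ptab_96) (Nat.ble 96 c)
noncomputable def Ptab_s_94_97 (c : Nat) : Nat := @Bool.rec (fun _ => Nat) (Ptab_94) (Ptab_s_95_97 c) (Nat.ble 95 c)
noncomputable def Ptab_s_97_99 (c : Nat) : Nat := @Bool.rec (fun _ => Nat) (Ptab_97) (Ptab_98) (Nat.ble 98 c)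
noncomputable def Ptab_s_99_101 (c : Nat) : Nat := @Bool.rec (fun _ => Nat) (Ptab_99) (Ptab_100) (Nat.ble 100 c)
noncomputable def Ptab_s_97_101 (c : Nat) : Nat := @Bool.rec (fun _ => Nat) (Ptab_s_97_99 c) (Ptab_s_99_101 c) (Nat.ble 99 c)
noncomputable def Ptab_s_94_101 (c : Nat) : Nat := @Bool.rec (fun _ => Nat) (Ptab_s_94_97 c) (Ptab_s_97_101 c) (Nat.ble 97 c)
noncomputable def Ptab_s_102_104 (c : Nat) : Nat := @Bool.rec (fun _ => Nat) (Ptab_102) (Ptab_103) (Nat.ble 103 c)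
noncomputable def Ptab_s_101_104 (c : Nat) : Nat := @Bool.rec (fun _ => Nat) (Ptab_101) (Ptab_s_102_104 c) (Nat.ble 102 c)
noncomputable def Ptab_s_104_106 (c : Nat) : Nat := @Bool.rec (fun _ => Nat) (Ptab_104) (Ptab_105) (Nat.ble 105 c)
noncomputable def Ptab_s_106_108 (c : Nat) : Nat := @Bool.rec (fun _ => Nat) (Ptab_106) (Ptab_107) (Nat.ble 107 c)
noncomputable def Ptab_s_104_108 (c : Nat) : Nat := @Bool.rec (fun _ => Nat) (Ptab_s_104_106 c) (Ptab_s_106_108 c) (Nat.ble 106 c)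
noncomputable def Ptab_s_101_108 (c : Nat) : Nat := @Bool.rec (fun _ => Nat) (Ptab_s_101_104 c) (Ptab_s_104_108 c) (Nat.ble 104 c)
noncomputable def Ptab_s_94_108 (c : Nat) : Nat := @Bool.rec (fun _ => Nat) (Ptab_s_94_101 c) (Ptab_s_101_108 c) (Nat.ble 101 c)
noncomputable def Ptab_s_81_108 (c : Nat) : Nat := @Bool.rec (fun _ => Nat) (Ptab_s_81_94 c) (Ptab_s_94_108 c) (Nat.ble 94 c)
noncomputable def Ptab_s_54_108 (c : Nat) : Nat := @Bool.rec (fun _ => Nat) (Ptab_s_54_81 c) (Ptab_s_81_108 c) (Nat.ble 81 c)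
noncomputable def Ptab_s_0_108 (c : Nat) : Nat := @Bool.rec (fun _ => Nat) (Ptab_s_0_54 c) (Ptab_s_54_108 c) (Nat.ble 54 c)
noncomputable def Ptab_s_109_111 (c : Nat) : Nat := @Bool.rec (fun _ => Nat) (Ptab_109) (Ptab_110) (Nat.ble 110 c)
noncomputable def Ptab_s_108_111 (c : Nat) : Nat := @Bool.rec (fun _ => Nat) (Ptab_108) (Ptab_s_109_111 c) (Nat.ble 109 c)
noncomputable def Ptab_s_112_114 (c : Nat) : Nat := @Bool.rec (fun _ => Nat) (Ptab_112) (Ptab_113) (Nat.ble 113 c)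
noncomputable def Ptab_s_111_114 (c : Nat) : Nat := @Bool.rec (fun _ => Nat) (Ptab_111) (Ptab_s_112_114 c) (Nat.ble 112 c)
noncomputable def Ptab_s_108_114 (c : Nat) : Nat := @Bool.rec (fun _ => Nat) (Ptab_s_108_111 c) (Ptab_s_111_114 c) (Nat.ble 111 c)
noncomputable def Ptab_s_115_117 (c : Nat) : Nat := @Bool.rec (fun _ => Nat) (Ptab_115) (Ptab_116) (Nat.ble 116 c)
noncomputable def Ptab_s_114_117 (c : Nat) : Nat := @Bool.rec (fun _ => Nat) (Ptab_114) (Ptab_s_115_117 c) (Nat.ble 115 c)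
noncomputable def Ptab_s_117_119 (c : Nat) : Nat := @Bool.rec (fun _ => Nat) (Ptab_117) (Ptab_118) (Nat.ble 118 c)
noncomputable def Ptab_s_119_121 (c : Nat) : Nat := @Bool.rec (fun _ => Nat) (Ptab_119) (Ptab_120) (Nat.ble 120 c)
noncomputable def Ptab_s_117_121 (c : Nat) : Nat := @Bool.rec (fun _ => Nat) (Ptab_s_117_119 c) (Ptab_s_119_121 c) (Nat.ble 119 c)
noncomputable def Ptab_s_114_121 (c : Nat) : Nat := @Bool.rec (fun _ => Nat) (Ptab_s_114_117 c) (Ptab_s_117_121 c) (Nat.ble 117 c)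
noncomputable def Ptab_s_108_121 (c : Nat) : Nat := @Bool.rec (fun _ => Nat) (Ptab_s_108_114 c) (Ptab_s_114_121 c) (Nat.ble 114 c)
noncomputable def Ptab_s_122_124 (c : Nat) : Nat := @Bool.rec (fun _ => Nat) (Ptab_122) (Ptab_123) (Nat.ble 123 c)
noncomputable def Ptab_s_121_124 (c : Nat) : Nat := @Bool.rec (fun _ => Nat) (Ptab_121) (Ptab_s_122_124 c) (Nat.ble 122 c)
noncomputable def Ptab_s_124_126 (c : Nat) : Nat := @Bool.rec (fun _ => Nat) (Ptab_124) (Ptab_125) (Nat.ble 125 c)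
noncomputable def Ptab_s_126_128 (c : Nat) : Nat := @Bool.rec (fun _ => Nat) (Ptab_126) (Ptab_127) (Nat.ble 127 c)
noncomputable def Ptab_s_124_128 (c : Nat) : Nat := @Bool.rec (fun _ => Nat) (Ptab_s_124_126 c) (Ptab_s_126_128 c) (Nat.ble 126 c)
noncomputable def Ptab_s_121_128 (c : Nat) : Nat := @Bool.rec (fun _ => Nat) (Ptab_s_121_124 c) (Ptab_s_124_128 c) (Nat.ble 124 c)
noncomputable def Ptab_s_129_131 (c : Nat) : Nat := @Bool.rec (fun _ => Nat) (Ptab_129) (Ptab_130) (Nat.ble 130 c)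
noncomputable def Ptab_s_128_131 (c : Nat) : Nat := @Bool.rec (fun _ => Nat) (Ptab_128) (Ptab_s_129_131 c) (Nat.ble 129 c)
noncomputable def Ptab_s_131_133 (c : Nat) : Nat := @Bool.rec (fun _ => Nat) (Ptab_131) (Ptab_132) (Nat.ble 132 c)
noncomputable def Ptab_s_133_135 (c : Nat) : Nat := @Bool.rec (fun _ => Nat) (Ptab_133) (Ptab_134) (Nat.ble 134 c)
noncomputable def Ptab_s_131_135 (c : Nat) : Nat := @Bool.rec (fun _ => Nat) (Ptab_s_131_133 c) (Ptab_s_133_135 c) (Nat.ble 133 c)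
noncomputable def Ptab_s_128_135 (c : Nat) : Nat := @Bool.rec (fun _ => Nat) (Ptab_s_128_131 c) (Ptab_s_131_135 c) (Nat.ble 131 c)
noncomputable def Ptab_s_121_135 (c : Nat) : Nat := @Bool.rec (fun _ => Nat) (Ptab_s_121_128 c) (Ptab_s_128_135 c) (Nat.ble 128 c)
noncomputable def Ptab_s_108_135 (c : Nat) : Nat := @Bool.rec (fun _ => Nat) (Ptab_s_108_121 c) (Ptab_s_121_135 c) (Nat.ble 121 c)
noncomputable def Ptab_s_136_138 (c : Nat) : Nat := @Bool.rec (fun _ => Nat) (Ptab_136) (Ptab_137) (Nat.ble 137 c)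
noncomputable def Ptab_s_135_138 (c : Nat) : Nat := @Bool.rec (fun _ => Nat) (Ptab_135) (Ptab_s_136_138 c) (Nat.ble 136 c)
noncomputable def Ptab_s_139_141 (c : Nat) : Nat := @Bool.rec (fun _ => Nat) (Ptab_139) (Ptab_140) (Nat.ble 140 c)
noncomputable def Ptab_s_138_141 (c : Nat) : Nat := @Bool.rec (fun _ => Nat) (Ptab_138) (Ptab_s_139_141 c) (Nat.ble 139 c)
noncomputable def Ptab_s_135_141 (c : Nat) : Nat := @Bool.rec (fun _ => Nat) (Ptab_s_135_138 c) (Ptab_s_138_141 c) (Nat.ble 138 c)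
noncomputable def Ptab_s_142_144 (c : Nat) : Nat := @Bool.rec (fun _ => Nat) (Ptab_142) (Ptab_143) (Nat.ble 143 c)
noncomputable def Ptab_s_141_144 (c : Nat) : Nat := @Bool.rec (fun _ => Nat) (Ptab_141) (Ptab_s_142_144 c) (Nat.ble 142 c)
noncomputable def Ptab_s_144_146 (c : Nat) : Nat := @Bool.rec (fun _ => Nat) (Ptab_144) (Ptab_145) (Nat.ble 145 c)
noncomputable def Ptab_s_146_148 (c : Nat) : Nat := @Bool.rec (fun _ => Nat) (Ptab_146) (Ptab_147) (Nat.ble 147 c)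
noncomputable def Ptab_s_144_148 (c : Nat) : Nat := @Bool.rec (fun _ => Nat) (Ptab_s_144_146 c) (Ptab_s_146_148 c) (Nat.ble 146 c)
noncomputable def Ptab_s_141_148 (c : Nat) : Nat := @Bool.rec (fun _ => Nat) (Ptab_s_141_144 c) (Ptab_s_144_148 c) (Nat.ble 144 c)
noncomputable def Ptab_s_135_148 (c : Nat) : Nat := @Bool.rec (fun _ => Nat) (Ptab_s_135_141 c) (Ptab_s_141_148 c) (Nat.ble 141 c)
noncomputable def Ptab_s_149_151 (c : Nat) : Nat := @Bool.rec (fun _ => Nat) (Ptab_149) (Ptab_150) (Nat.ble 150 c)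
noncomputable def Ptab_s_148_151 (c : Nat) : Nat := @Bool.rec (fun _ => Nat) (Ptab_148) (Ptab_s_149_151 c) (Nat.ble 149 c)
noncomputable def Ptab_s_151_153 (c : Nat) : Nat := @Bool.rec (fun _ => Nat) (Ptab_151) (Ptab_152) (Nat.ble 152 c)
noncomputable def Ptab_s_153_155 (c : Nat) : Nat := @Bool.rec (fun _ => Nat) (Ptab_153) (Ptab_154) (Nat.ble 154 c)
noncomputable def Ptab_s_151_155 (c : Nat) : Nat := @Bool.rec (fun _ => Nat) (Ptab_s_151_153 c) (Ptab_s_153_155 c) (Nat.ble 153 c)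
noncomputable def Ptab_s_148_155 (c : Nat) : Nat := @Bool.rec (fun _ => Nat) (Ptab_s_148_151 c) (Ptab_s_151_155 c) (Nat.ble 151 c)
noncomputable def Ptab_s_156_158 (c : Nat) : Nat := @Bool.rec (fun _ => Nat) (Ptab_156) (Ptab_157) (Nat.ble 157 c)
noncomputable def Ptab_s_155_158 (c : Nat) : Nat := @Bool.rec (fun _ => Nat) (Ptab_155) (Ptab_s_156_158 c) (Nat.ble 156 c)
noncomputable def Ptab_s_158_160 (c : Nat) : Nat := @Bool.rec (fun _ => Nat) (Ptab_158) (Ptab_159) (Nat.ble 159 c)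
noncomputable def Ptab_s_160_162 (c : Nat) : Nat := @Bool.rec (fun _ => Nat) (Ptab_160) (Ptab_161) (Nat.ble 161 c)
noncomputable def Ptab_s_158_162 (c : Nat) : Nat := @Bool.rec (fun _ => Nat) (Ptab_s_158_160 c) (Ptab_s_160_162 c) (Nat.ble 160 c)
noncomputable def Ptab_s_155_162 (c : Nat) : Nat := @Bool.rec (fun _ => Nat) (Ptab_s_155_158 c) (Ptab_s_158_162 c) (Nat.ble 158 c)
noncomputable def Ptab_s_148_162 (c : Nat) : Nat := @Bool.rec (fun _ => Nat) (Ptab_s_148_155 c) (Ptab_s_155_162 c) (Nat.ble 155 c)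
noncomputable def Ptab_s_135_162 (c : Nat) : Nat := @Bool.rec (fun _ => Nat) (Ptab_s_135_148 c) (Ptab_s_148_162 c) (Nat.ble 148 c)
noncomputable def Ptab_s_108_162 (c : Nat) : Nat := @Bool.rec (fun _ => Nat) (Ptab_s_108_135 c) (Ptab_s_135_162 c) (Nat.ble 135 c)
noncomputable def Ptab_s_163_165 (c : Nat) : Nat := @Bool.rec (fun _ => Nat) (Ptab_163) (Ptab_164) (Nat.ble 164 c)
noncomputable def Ptab_s_162_165 (c : Nat) : Nat := @Bool.rec (fun _ => Nat) (Ptab_162) (Ptab_s_163_165 c) (Nat.ble 163 c)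
noncomputable def Ptab_s_166_168 (c : Nat) : Nat := @Bool.rec (fun _ => Nat) (Ptab_166) (Ptab_167) (Nat.ble 167 c)
noncomputable def Ptab_s_165_168 (c : Nat) : Nat := @Bool.rec (fun _ => Nat) (Ptab_165) (Ptab_s_166_168 c) (Nat.ble 166 c)
noncomputable def Ptab_s_162_168 (c : Nat) : Nat := @Bool.rec (fun _ => Nat) (Ptab_s_162_165 c) (Ptab_s_165_168 c) (Nat.ble 165 c)
noncomputable def Ptab_s_169_171 (c : Nat) : Nat := @Bool.rec (fun _ => Nat) (Ptab_169) (Ptab_170) (Nat.ble 170 c)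
noncomputable def Ptab_s_168_171 (c : Nat) : Nat := @Bool.rec (fun _ => Nat) (Ptab_168) (Ptab_s_169_171 c) (Nat.ble 169 c)
noncomputable def Ptab_s_171_173 (c : Nat) : Nat := @Bool.rec (fun _ => Nat) (Ptab_171) (Ptab_172) (Nat.ble 172 c)
noncomputable def Ptab_s_173_175 (c : Nat) : Nat := @Bool.rec (fun _ => Nat) (Ptab_173) (Ptab_174) (Nat.ble 174 c)
noncomputable def Ptab_s_171_175 (c : Nat) : Nat := @Bool.rec (fun _ => Nat) (Ptab_s_171_173 c) (Ptab_s_173_175 c) (Nat.ble 173 c)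
noncomputable def Ptab_s_168_175 (c : Nat) : Nat := @Bool.rec (fun _ => Nat) (Ptab_s_168_171 c) (Ptab_s_171_175 c) (Nat.ble 171 c)
noncomputable def Ptab_s_162_175 (c : Nat) : Nat := @Bool.rec (fun _ => Nat) (Ptab_s_162_168 c) (Ptab_s_168_175 c) (Nat.ble 168 c)
noncomputable def Ptab_s_176_178 (c : Nat) : Nat := @Bool.rec (fun _ => Nat) (Ptab_176) (Ptab_177) (Nat.ble 177 c)
noncomputable def Ptab_s_175_178 (c : Nat) : Nat := @Bool.rec (fun _ => Nat) (Ptab_175) (Ptab_s_176_178 c) (Nat.ble 176 c)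
noncomputable def Ptab_s_178_180 (c : Nat) : Nat := @Bool.rec (fun _ => Nat) (Ptab_178) (Ptab_179) (Nat.ble 179 c)
noncomputable def Ptab_s_180_182 (c : Nat) : Nat := @Bool.rec (fun _ => Nat) (Ptab_180) (Ptab_181) (Nat.ble 181 c)
noncomputable def Ptab_s_178_182 (c : Nat) : Nat := @Bool.rec (fun _ => Nat) (Ptab_s_178_180 c) (Ptab_s_180_182 c) (Nat.ble 180 c)
noncomputable def Ptab_s_175_182 (c : Nat) : Nat := @Bool.rec (fun _ => Nat) (Ptab_s_175_178 c) (Ptab_s_178_182 c) (Nat.ble 178 c)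
noncomputable def Ptab_s_183_185 (c : Nat) : Nat := @Bool.rec (fun _ => Nat) (Ptab_183) (Ptab_184) (Nat.ble 184 c)
noncomputable def Ptab_s_182_185 (c : Nat) : Nat := @Bool.rec (fun _ => Nat) (Ptab_182) (Ptab_s_183_185 c) (Nat.ble 183 c)
noncomputable def Ptab_s_185_187 (c : Nat) : Nat := @Bool.rec (fun _ => Nat) (Ptab_185) (Ptab_186) (Nat.ble 186 c)
noncomputable def Ptab_s_187_189 (c : Nat) : Nat := @Bool.rec (fun _ => Nat) (Ptab_187) (Ptab_188) (Nat.ble 188 c)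
noncomputable def Ptab_s_185_189 (c : Nat) : Nat := @Bool.rec (fun _ => Nat) (Ptab_s_185_187 c) (Ptab_s_187_189 c) (Nat.ble 187 c)
noncomputable def Ptab_s_182_189 (c : Nat) : Nat := @Bool.rec (fun _ => Nat) (Ptab_s_182_185 c) (Ptab_s_185_189 c) (Nat.ble 185 c)
noncomputable def Ptab_s_175_189 (c : Nat) : Nat := @Bool.rec (fun _ => Nat) (Ptab_s_175_182 c) (Ptab_s_182_189 c) (Nat.ble 182 c)
noncomputable def Ptab_s_162_189 (c : Nat) : Nat := @Bool.rec (fun _ => Nat) (Ptab_s_162_175 c) (Ptab_s_175_189 c) (Nat.ble 175 c)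
noncomputable def Ptab_s_190_192 (c : Nat) : Nat := @Bool.rec (fun _ => Nat) (Ptab_190) (Ptab_191) (Nat.ble 191 c)
noncomputable def Ptab_s_189_192 (c : Nat) : Nat := @Bool.rec (fun _ => Nat) (Ptab_189) (Ptab_s_190_192 c) (Nat.ble 190 c)
noncomputable def Ptab_s_192_194 (c : Nat) : Nat := @Bool.rec (fun _ => Nat) (Ptab_192) (Ptab_193) (Nat.ble 193 c)
noncomputable def Ptab_s_194_196 (c : Nat) : Nat := @Bool.rec (fun _ => Nat) (Ptab_194) (Ptab_195) (Nat.ble 195 c)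
noncomputable def Ptab_s_192_196 (c : Nat) : Nat := @Bool.rec (fun _ => Nat) (Ptab_s_192_194 c) (Ptab_s_194_196 c) (Nat.ble 194 c)
noncomputable def Ptab_s_189_196 (c : Nat) : Nat := @Bool.rec (fun _ => Nat) (Ptab_s_189_192 c) (Ptab_s_192_196 c) (Nat.ble 192 c)
noncomputable def Ptab_s_197_199 (c : Nat) : Nat := @Bool.rec (fun _ => Nat) (Ptab_197) (Ptab_198) (Nat.ble 198 c)
noncomputable def Ptab_s_196_199 (c : Nat) : Nat := @Bool.rec (fun _ => Nat) (Ptab_196) (Ptab_s_197_199 c) (Nat.ble 197 c)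
noncomputable def Ptab_s_199_201 (c : Nat) : Nat := @Bool.rec (fun _ => Nat) (Ptab_199) (Ptab_200) (Nat.ble 200 c)
noncomputable def Ptab_s_201_203 (c : Nat) : Nat := @Bool.rec (fun _ => Nat) (Ptab_201) (Ptab_202) (Nat.ble 202 c)
noncomputable def Ptab_s_199_203 (c : Nat) : Nat := @Bool.rec (fun _ => Nat) (Ptab_s_199_201 c) (Ptab_s_201_203 c) (Nat.ble 201 c)
noncomputable def Ptab_s_196_203 (c : Nat) : Nat := @Bool.rec (fun _ => Nat) (Ptab_s_196_199 c) (Ptab_s_199_203 c) (Nat.ble 199 c)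
noncomputable def Ptab_s_189_203 (c : Nat) : Nat := @Bool.rec (fun _ => Nat) (Ptab_s_189_196 c) (Ptab_s_196_203 c) (Nat.ble 196 c)
noncomputable def Ptab_s_204_206 (c : Nat) : Nat := @Bool.rec (fun _ => Nat) (Ptab_204) (Ptab_205) (Nat.ble 205 c)
noncomputable def Ptab_s_203_206 (c : Nat) : Nat := @Bool.rec (fun _ => Nat) (Ptab_203) (Ptab_s_204_206 c) (Nat.ble 204 c)
noncomputable def Ptab_s_206_208 (c : Nat) : Nat := @Bool.rec (fun _ => Nat) (Ptab_206) (Ptab_207) (Nat.ble 207 c)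
noncomputable def Ptab_s_208_210 (c : Nat) : Nat := @Bool.rec (fun _ => Nat) (Ptab_208) (Ptab_209) (Nat.ble 209 c)
noncomputable def Ptab_s_206_210 (c : Nat) : Nat := @Bool.rec (fun _ => Nat) (Ptab_s_206_208 c) (Ptab_s_208_210 c) (Nat.ble 208 c)
noncomputable def Ptab_s_203_210 (c : Nat) : Nat := @Bool.rec (fun _ => Nat) (Ptab_s_203_206 c) (Ptab_s_206_210 c) (Nat.ble 206 c)
noncomputable def Ptab_s_211_213 (c : Nat) : Nat := @Bool.rec (fun _ => Nat) (Ptab_211) (Ptab_212) (Nat.ble 212 c)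
noncomputable def Ptab_s_210_213 (c : Nat) : Nat := @Bool.rec (fun _ => Nat) (Ptab_210) (Ptab_s_211_213 c) (Nat.ble 211 c)
noncomputable def Ptab_s_213_215 (c : Nat) : Nat := @Bool.rec (fun _ => Nat) (Ptab_213) (Ptab_214) (Nat.ble 214 c)
noncomputable def Ptab_s_215_217 (c : Nat) : Nat := @Bool.rec (fun _ => Nat) (Ptab_215) (Ptab_216) (Nat.ble 216 c)
noncomputable def Ptab_s_213_217 (c : Nat) : Nat := @Bool.rec (fun _ => Nat) (Ptab_s_213_215 c) (Ptab_s_215_217 c) (Nat.ble 215 c)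
noncomputable def Ptab_s_210_217 (c : Nat) : Nat := @Bool.rec (fun _ => Nat) (Ptab_s_210_213 c) (Ptab_s_213_217 c) (Nat.ble 213 c)
noncomputable def Ptab_s_203_217 (c : Nat) : Nat := @Bool.rec (fun _ => Nat) (Ptab_s_203_210 c) (Ptab_s_210_217 c) (Nat.ble 210 c)
noncomputable def Ptab_s_189_217 (c : Nat) : Nat := @Bool.rec (fun _ => Nat) (Ptab_s_189_203 c) (Ptab_s_203_217 c) (Nat.ble 203 c)
noncomputable def Ptab_s_162_217 (c : Nat) : Nat := @Bool.rec (fun _ => Nat) (Ptab_s_162_189 c) (Ptab_s_189_217 c) (Nat.ble 189 c)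
noncomputable def Ptab_s_108_217 (c : Nat) : Nat := @Bool.rec (fun _ => Nat) (Ptab_s_108_162 c) (Ptab_s_162_217 c) (Nat.ble 162 c)
noncomputable def Ptab_s_0_217 (c : Nat) : Nat := @Bool.rec (fun _ => Nat) (Ptab_s_0_108 c) (Ptab_s_108_217 c) (Nat.ble 108 c)
noncomputable def Ptab_s_218_220 (c : Nat) : Nat := @Bool.rec (fun _ => Nat) (Ptab_218) (Ptab_219) (Nat.ble 219 c)
noncomputable def Ptab_s_217_220 (c : Nat) : Nat := @Bool.rec (fun _ => Nat) (Ptab_217) (Ptab_s_218_220 c) (Nat.ble 218 c)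
noncomputable def Ptab_s_221_223 (c : Nat) : Nat := @Bool.rec (fun _ => Nat) (Ptab_221) (Ptab_222) (Nat.ble 222 c)
noncomputable def Ptab_s_220_223 (c : Nat) : Nat := @Bool.rec (fun _ => Nat) (Ptab_220) (Ptab_s_221_223 c) (Nat.ble 221 c)
noncomputable def Ptab_s_217_223 (c : Nat) : Nat := @Bool.rec (fun _ => Nat) (Ptab_s_217_220 c) (Ptab_s_220_223 c) (Nat.ble 220 c)
noncomputable def Ptab_s_224_226 (c : Nat) : Nat := @Bool.rec (fun _ => Nat) (Ptab_224) (Ptab_225) (Nat.ble 225 c)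
noncomputable def Ptab_s_223_226 (c : Nat) : Nat := @Bool.rec (fun _ => Nat) (Ptab_223) (Ptab_s_224_226 c) (Nat.ble 224 c)
noncomputable def Ptab_s_226_228 (c : Nat) : Nat := @Bool.rec (fun _ => Nat) (Ptab_226) (Ptab_227) (Nat.ble 227 c)
noncomputable def Ptab_s_228_230 (c : Nat) : Nat := @Bool.rec (fun _ => Nat) (Ptab_228) (Ptab_229) (Nat.ble 229 c)
noncomputable def Ptab_s_226_230 (c : Nat) : Nat := @Bool.rec (fun _ => Nat) (Ptab_s_226_228 c) (Ptab_s_228_230 c) (Nat.ble 228 c)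
noncomputable def Ptab_s_223_230 (c : Nat) : Nat := @Bool.rec (fun _ => Nat) (Ptab_s_223_226 c) (Ptab_s_226_230 c) (Nat.ble 226 c)
noncomputable def Ptab_s_217_230 (c : Nat) : Nat := @Bool.rec (fun _ => Nat) (Ptab_s_217_223 c) (Ptab_s_223_230 c) (Nat.ble 223 c)
noncomputable def Ptab_s_231_233 (c : Nat) : Nat := @Bool.rec (fun _ => Nat) (Ptab_231) (Ptab_232) (Nat.ble 232 c)
noncomputable def Ptab_s_230_233 (c : Nat) : Nat := @Bool.rec (fun _ => Nat) (Ptab_230) (Ptab_s_231_233 c) (Nat.ble 231 c)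
noncomputable def Ptab_s_233_235 (c : Nat) : Nat := @Bool.rec (fun _ => Nat) (Ptab_233) (Ptab_234) (Nat.ble 234 c)
noncomputable def Ptab_s_235_237 (c : Nat) : Nat := @Bool.rec (fun _ => Nat) (Ptab_235) (Ptab_236) (Nat.ble 236 c)
noncomputable def Ptab_s_233_237 (c : Nat) : Nat := @Bool.rec (fun _ => Nat) (Ptab_s_233_235 c) (Ptab_s_235_237 c) (Nat.ble 235 c)
noncomputable def Ptab_s_230_237 (c : Nat) : Nat := @Bool.rec (fun _ => Nat) (Ptab_s_230_233 c) (Ptab_s_233_237 c) (Nat.ble 233 c)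
noncomputable def Ptab_s_238_240 (c : Nat) : Nat := @Bool.rec (fun _ => Nat) (Ptab_238) (Ptab_239) (Nat.ble 239 c)
noncomputable def Ptab_s_237_240 (c : Nat) : Nat := @Bool.rec (fun _ => Nat) (Ptab_237) (Ptab_s_238_240 c) (Nat.ble 238 c)
noncomputable def Ptab_s_240_242 (c : Nat) : Nat := @Bool.rec (fun _ => Nat) (Ptab_240) (Ptab_241) (Nat.ble 241 c)
noncomputable def Ptab_s_242_244 (c : Nat) : Nat := @Bool.rec (fun _ => Nat) (Ptab_242) (Ptab_243) (Nat.ble 243 c)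
noncomputable def Ptab_s_240_244 (c : Nat) : Nat := @Bool.rec (fun _ => Nat) (Ptab_s_240_242 c) (Ptab_s_242_244 c) (Nat.ble 242 c)
noncomputable def Ptab_s_237_244 (c : Nat) : Nat := @Bool.rec (fun _ => Nat) (Ptab_s_237_240 c) (Ptab_s_240_244 c) (Nat.ble 240 c)
noncomputable def Ptab_s_230_244 (c : Nat) : Nat := @Bool.rec (fun _ => Nat) (Ptab_s_230_237 c) (Ptab_s_237_244 c) (Nat.ble 237 c)
noncomputable def Ptab_s_217_244 (c : Nat) : Nat := @Bool.rec (fun _ => Nat) (Ptab_s_217_230 c) (Ptab_s_230_244 c) (Nat.ble 230 c)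
noncomputable def Ptab_s_245_247 (c : Nat) : Nat := @Bool.rec (fun _ => Nat) (Ptab_245) (Ptab_246) (Nat.ble 246 c)
noncomputable def Ptab_s_244_247 (c : Nat) : Nat := @Bool.rec (fun _ => Nat) (Ptab_244) (Ptab_s_245_247 c) (Nat.ble 245 c)
noncomputable def Ptab_s_248_250 (c : Nat) : Nat := @Bool.rec (fun _ => Nat) (Ptab_248) (Ptab_249) (Nat.ble 249 c)
noncomputable def Ptab_s_247_250 (c : Nat) : Nat := @Bool.rec (fun _ => Nat) (Ptab_247) (Ptab_s_248_250 c) (Nat.ble 248 c)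
noncomputable def Ptab_s_244_250 (c : Nat) : Nat := @Bool.rec (fun _ => Nat) (Ptab_s_244_247 c) (Ptab_s_247_250 c) (Nat.ble 247 c)
noncomputable def Ptab_s_251_253 (c : Nat) : Nat := @Bool.rec (fun _ => Nat) (Ptab_251) (Ptab_252) (Nat.ble 252 c)
noncomputable def Ptab_s_250_253 (c : Nat) : Nat := @Bool.rec (fun _ => Nat) (Ptab_250) (Ptab_s_251_253 c) (Nat.ble 251 c)
noncomputable def Ptab_s_253_255 (c : Nat) : Nat := @Bool.rec (fun _ => Nat) (Ptab_253) (Ptab_254) (Nat.ble 254 c)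
noncomputable def Ptab_s_255_257 (c : Nat) : Nat := @Bool.rec (fun _ => Nat) (Ptab_255) (Ptab_256) (Nat.ble 256 c)
noncomputable def Ptab_s_253_257 (c : Nat) : Nat := @Bool.rec (fun _ => Nat) (Ptab_s_253_255 c) (Ptab_s_255_257 c) (Nat.ble 255 c)
noncomputable def Ptab_s_250_257 (c : Nat) : Nat := @Bool.rec (fun _ => Nat) (Ptab_s_250_253 c) (Ptab_s_253_257 c) (Nat.ble 253 c)
noncomputable def Ptab_s_244_257 (c : Nat) : Nat := @Bool.rec (fun _ => Nat) (Ptab_s_244_250 c) (Ptab_s_250_257 c) (Nat.ble 250 c)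
noncomputable def Ptab_s_258_260 (c : Nat) : Nat := @Bool.rec (fun _ => Nat) (Ptab_258) (Ptab_259) (Nat.ble 259 c)
noncomputable def Ptab_s_257_260 (c : Nat) : Nat := @Bool.rec (fun _ => Nat) (Ptab_257) (Ptab_s_258_260 c) (Nat.ble 258 c)
noncomputable def Ptab_s_260_262 (c : Nat) : Nat := @Bool.rec (fun _ => Nat) (Ptab_260) (Ptab_261) (Nat.ble 261 c)
noncomputable def Ptab_s_262_264 (c : Nat) : Nat := @Bool.rec (fun _ => Nat) (Ptab_262) (Ptab_263) (Nat.ble 263 c)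
noncomputable def Ptab_s_260_264 (c : Nat) : Nat := @Bool.rec (fun _ => Nat) (Ptab_s_260_262 c) (Ptab_s_262_264 c) (Nat.ble 262 c)
noncomputable def Ptab_s_257_264 (c : Nat) : Nat := @Bool.rec (fun _ => Nat) (Ptab_s_257_260 c) (Ptab_s_260_264 c) (Nat.ble 260 c)
noncomputable def Ptab_s_265_267 (c : Nat) : Nat := @Bool.rec (fun _ => Nat) (Ptab_265) (Ptab_266) (Nat.ble 266 c)
noncomputable def Ptab_s_264_267 (c : Nat) : Nat := @Bool.rec (fun _ => Nat) (Ptab_264) (Ptab_s_265_267 c) (Nat.ble 265 c)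
noncomputable def Ptab_s_267_269 (c : Nat) : Nat := @Bool.rec (fun _ => Nat) (Ptab_267) (Ptab_268) (Nat.ble 268 c)
noncomputable def Ptab_s_269_271 (c : Nat) : Nat := @Bool.rec (fun _ => Nat) (Ptab_269) (Ptab_270) (Nat.ble 270 c)
noncomputable def Ptab_s_267_271 (c : Nat) : Nat := @Bool.rec (fun _ => Nat) (Ptab_s_267_269 c) (Ptab_s_269_271 c) (Nat.ble 269 c)
noncomputable def Ptab_s_264_271 (c : Nat) : Nat := @Bool.rec (fun _ => Nat) (Ptab_s_264_267 c) (Ptab_s_267_271 c) (Nat.ble 267 c)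
noncomputable def Ptab_s_257_271 (c : Nat) : Nat := @Bool.rec (fun _ => Nat) (Ptab_s_257_264 c) (Ptab_s_264_271 c) (Nat.ble 264 c)
noncomputable def Ptab_s_244_271 (c : Nat) : Nat := @Bool.rec (fun _ => Nat) (Ptab_s_244_257 c) (Ptab_s_257_271 c) (Nat.ble 257 c)
noncomputable def Ptab_s_217_271 (c : Nat) : Nat := @Bool.rec (fun _ => Nat) (Ptab_s_217_244 c) (Ptab_s_244_271 c) (Nat.ble 244 c)
noncomputable def Ptab_s_272_274 (c : Nat) : Nat := @Bool.rec (fun _ => Nat) (Ptab_272) (Ptab_273) (Nat.ble 273 c)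
noncomputable def Ptab_s_271_274 (c : Nat) : Nat := @Bool.rec (fun _ => Nat) (Ptab_271) (Ptab_s_272_274 c) (Nat.ble 272 c)
noncomputable def Ptab_s_275_277 (c : Nat) : Nat := @Bool.rec (fun _ => Nat) (Ptab_275) (Ptab_276) (Nat.ble 276 c)
noncomputable def Ptab_s_274_277 (c : Nat) : Nat := @Bool.rec (fun _ => Nat) (Ptab_274) (Ptab_s_275_277 c) (Nat.ble 275 c)
noncomputable def Ptab_s_271_277 (c : Nat) : Nat := @Bool.rec (fun _ => Nat) (Ptab_s_271_274 c) (Ptab_s_274_277 c) (Nat.ble 274 c)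
noncomputable def Ptab_s_278_280 (c : Nat) : Nat := @Bool.rec (fun _ => Nat) (Ptab_278) (Ptab_279) (Nat.ble 279 c)
noncomputable def Ptab_s_277_280 (c : Nat) : Nat := @Bool.rec (fun _ => Nat) (Ptab_277) (Ptab_s_278_280 c) (Nat.ble 278 c)
noncomputable def Ptab_s_280_282 (c : Nat) : Nat := @Bool.rec (fun _ => Nat) (Ptab_280) (Ptab_281) (Nat.ble 281 c)
noncomputable def Ptab_s_282_284 (c : Nat) : Nat := @Bool.rec (fun _ => Nat) (Ptab_282) (Ptab_283) (Nat.ble 283 c)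
noncomputable def Ptab_s_280_284 (c : Nat) : Nat := @Bool.rec (fun _ => Nat) (Ptab_s_280_282 c) (Ptab_s_282_284 c) (Nat.ble 282 c)
noncomputable def Ptab_s_277_284 (c : Nat) : Nat := @Bool.rec (fun _ => Nat) (Ptab_s_277_280 c) (Ptab_s_280_284 c) (Nat.ble 280 c)
noncomputable def Ptab_s_271_284 (c : Nat) : Nat := @Bool.rec (fun _ => Nat) (Ptab_s_271_277 c) (Ptab_s_277_284 c) (Nat.ble 277 c)
noncomputable def Ptab_s_285_287 (c : Nat) : Nat := @Bool.rec (fun _ => Nat) (Ptab_285) (Ptab_286) (Nat.ble 286 c)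
noncomputable def Ptab_s_284_287 (c : Nat) : Nat := @Bool.rec (fun _ => Nat) (Ptab_284) (Ptab_s_285_287 c) (Nat.ble 285 c)
noncomputable def Ptab_s_287_289 (c : Nat) : Nat := @Bool.rec (fun _ => Nat) (Ptab_287) (Ptab_288) (Nat.ble 288 c)
noncomputable def Ptab_s_289_291 (c : Nat) : Nat := @Bool.rec (fun _ => Nat) (Ptab_289) (Ptab_290) (Nat.ble 290 c)
noncomputable def Ptab_s_287_291 (c : Nat) : Nat := @Bool.rec (fun _ => Nat) (Ptab_s_287_289 c) (Ptab_s_289_291 c) (Nat.ble 289 c)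
noncomputable def Ptab_s_284_291 (c : Nat) : Nat := @Bool.rec (fun _ => Nat) (Ptab_s_284_287 c) (Ptab_s_287_291 c) (Nat.ble 287 c)
noncomputable def Ptab_s_292_294 (c : Nat) : Nat := @Bool.rec (fun _ => Nat) (Ptab_292) (Ptab_293) (Nat.ble 293 c)
noncomputable def Ptab_s_291_294 (c : Nat) : Nat := @Bool.rec (fun _ => Nat) (Ptab_291) (Ptab_s_292_294 c) (Nat.ble 292 c)
noncomputable def Ptab_s_294_296 (c : Nat) : Nat := @Bool.rec (fun _ => Nat) (Ptab_294) (Ptab_295) (Nat.ble 295 c)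
noncomputable def Ptab_s_296_298 (c : Nat) : Nat := @Bool.rec (fun _ => Nat) (Ptab_296) (Ptab_297) (Nat.ble 297 c)
noncomputable def Ptab_s_294_298 (c : Nat) : Nat := @Bool.rec (fun _ => Nat) (Ptab_s_294_296 c) (Ptab_s_296_298 c) (Nat.ble 296 c)
noncomputable def Ptab_s_291_298 (c : Nat) : Nat := @Bool.rec (fun _ => Nat) (Ptab_s_291_294 c) (Ptab_s_294_298 c) (Nat.ble 294 c)
noncomputable def Ptab_s_284_298 (c : Nat) : Nat := @Bool.rec (fun _ => Nat) (Ptab_s_284_291 c) (Ptab_s_291_298 c) (Nat.ble 291 c)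
noncomputable def Ptab_s_271_298 (c : Nat) : Nat := @Bool.rec (fun _ => Nat) (Ptab_s_271_284 c) (Ptab_s_284_298 c) (Nat.ble 284 c)
noncomputable def Ptab_s_299_301 (c : Nat) : Nat := @Bool.rec (fun _ => Nat) (Ptab_299) (Ptab_300) (Nat.ble 300 c)
noncomputable def Ptab_s_298_301 (c : Nat) : Nat := @Bool.rec (fun _ => Nat) (Ptab_298) (Ptab_s_299_301 c) (Nat.ble 299 c)
noncomputable def Ptab_s_301_303 (c : Nat) : Nat := @Bool.rec (fun _ => Nat) (Ptab_301) (Ptab_302) (Nat.ble 302 c)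
noncomputable def Ptab_s_303_305 (c : Nat) : Nat := @Bool.rec (fun _ => Nat) (Ptab_303) (Ptab_304) (Nat.ble 304 c)
noncomputable def Ptab_s_301_305 (c : Nat) : Nat := @Bool.rec (fun _ => Nat) (Ptab_s_301_303 c) (Ptab_s_303_305 c) (Nat.ble 303 c)
noncomputable def Ptab_s_298_305 (c : Nat) : Nat := @Bool.rec (fun _ => Nat) (Ptab_s_298_301 c) (Ptab_s_301_305 c) (Nat.ble 301 c)
noncomputable def Ptab_s_306_308 (c : Nat) : Nat := @Bool.rec (fun _ => Nat) (Ptab_306) (Ptab_307) (Nat.ble 307 c)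
noncomputable def Ptab_s_305_308 (c : Nat) : Nat := @Bool.rec (fun _ => Nat) (Ptab_305) (Ptab_s_306_308 c) (Nat.ble 306 c)
noncomputable def Ptab_s_308_310 (c : Nat) : Nat := @Bool.rec (fun _ => Nat) (Ptab_308) (Ptab_309) (Nat.ble 309 c)
noncomputable def Ptab_s_310_312 (c : Nat) : Nat := @Bool.rec (fun _ => Nat) (Ptab_310) (Ptab_311) (Nat.ble 311 c)
noncomputable def Ptab_s_308_312 (c : Nat) : Nat := @Bool.rec (fun _ => Nat) (Ptab_s_308_310 c) (Ptab_s_310_312 c) (Nat.ble 310 c)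
noncomputable def Ptab_s_305_312 (c : Nat) : Nat := @Bool.rec (fun _ => Nat) (Ptab_s_305_308 c) (Ptab_s_308_312 c) (Nat.ble 308 c)
noncomputable def Ptab_s_298_312 (c : Nat) : Nat := @Bool.rec (fun _ => Nat) (Ptab_s_298_305 c) (Ptab_s_305_312 c) (Nat.ble 305 c)
noncomputable def Ptab_s_313_315 (c : Nat) : Nat := @Bool.rec (fun _ => Nat) (Ptab_313) (Ptab_314) (Nat.ble 314 c)
noncomputable def Ptab_s_312_315 (c : Nat) : Nat := @Bool.rec (fun _ => Nat) (Ptab_312) (Ptab_s_313_315 c) (Nat.ble 313 c)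
noncomputable def Ptab_s_315_317 (c : Nat) : Nat := @Bool.rec (fun _ => Nat) (Ptab_315) (Ptab_316) (Nat.ble 316 c)
noncomputable def Ptab_s_317_319 (c : Nat) : Nat := @Bool.rec (fun _ => Nat) (Ptab_317) (Ptab_318) (Nat.ble 318 c)
noncomputable def Ptab_s_315_319 (c : Nat) : Nat := @Bool.rec (fun _ => Nat) (Ptab_s_315_317 c) (Ptab_s_317_319 c) (Nat.ble 317 c)
noncomputable def Ptab_s_312_319 (c : Nat) : Nat := @Bool.rec (fun _ => Nat) (Ptab_s_312_315 c) (Ptab_s_315_319 c) (Nat.ble 315 c)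
noncomputable def Ptab_s_320_322 (c : Nat) : Nat := @Bool.rec (fun _ => Nat) (Ptab_320) (Ptab_321) (Nat.ble 321 c)
noncomputable def Ptab_s_319_322 (c : Nat) : Nat := @Bool.rec (fun _ => Nat) (Ptab_319) (Ptab_s_320_322 c) (Nat.ble 320 c)
noncomputable def Ptab_s_322_324 (c : Nat) : Nat := @Bool.rec (fun _ => Nat) (Ptab_322) (Ptab_323) (Nat.ble 323 c)
noncomputable def Ptab_s_324_326 (c : Nat) : Nat := @Bool.rec (fun _ => Nat) (Ptab_324) (Ptab_325) (Nat.ble 325 c)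
noncomputable def Ptab_s_322_326 (c : Nat) : Nat := @Bool.rec (fun _ => Nat) (Ptab_s_322_324 c) (Ptab_s_324_326 c) (Nat.ble 324 c)
noncomputable def Ptab_s_319_326 (c : Nat) : Nat := @Bool.rec (fun _ => Nat) (Ptab_s_319_322 c) (Ptab_s_322_326 c) (Nat.ble 322 c)
noncomputable def Ptab_s_312_326 (c : Nat) : Nat := @Bool.rec (fun _ => Nat) (Ptab_s_312_319 c) (Ptab_s_319_326 c) (Nat.ble 319 c)
noncomputable def Ptab_s_298_326 (c : Nat) : Nat := @Bool.rec (fun _ => Nat) (Ptab_s_298_312 c) (Ptab_s_312_326 c) (Nat.ble 312 c)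
noncomputable def Ptab_s_271_326 (c : Nat) : Nat := @Bool.rec (fun _ => Nat) (Ptab_s_271_298 c) (Ptab_s_298_326 c) (Nat.ble 298 c)
noncomputable def Ptab_s_217_326 (c : Nat) : Nat := @Bool.rec (fun _ => Nat) (Ptab_s_217_271 c) (Ptab_s_271_326 c) (Nat.ble 271 c)
noncomputable def Ptab_s_327_329 (c : Nat) : Nat := @Bool.rec (fun _ => Nat) (Ptab_327) (Ptab_328) (Nat.ble 328 c)
noncomputable def Ptab_s_326_329 (c : Nat) : Nat := @Bool.rec (fun _ => Nat) (Ptab_326) (Ptab_s_327_329 c) (Nat.ble 327 c)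
noncomputable def Ptab_s_330_332 (c : Nat) : Nat := @Bool.rec (fun _ => Nat) (Ptab_330) (Ptab_331) (Nat.ble 331 c)
noncomputable def Ptab_s_329_332 (c : Nat) : Nat := @Bool.rec (fun _ => Nat) (Ptab_329) (Ptab_s_330_332 c) (Nat.ble 330 c)
noncomputable def Ptab_s_326_332 (c : Nat) : Nat := @Bool.rec (fun _ => Nat) (Ptab_s_326_329 c) (Ptab_s_329_332 c) (Nat.ble 329 c)
noncomputable def Ptab_s_333_335 (c : Nat) : Nat := @Bool.rec (fun _ => Nat) (Ptab_333) (Ptab_334) (Nat.ble 334 c)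
noncomputable def Ptab_s_332_335 (c : Nat) : Nat := @Bool.rec (fun _ => Nat) (Ptab_332) (Ptab_s_333_335 c) (Nat.ble 333 c)
noncomputable def Ptab_s_335_337 (c : Nat) : Nat := @Bool.rec (fun _ => Nat) (Ptab_335) (Ptab_336) (Nat.ble 336 c)
noncomputable def Ptab_s_337_339 (c : Nat) : Nat := @Bool.rec (fun _ => Nat) (Ptab_337) (Ptab_338) (Nat.ble 338 c)
noncomputable def Ptab_s_335_339 (c : Nat) : Nat := @Bool.rec (fun _ => Nat) (Ptab_s_335_337 c) (Ptab_s_337_339 c) (Nat.ble 337 c)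
noncomputable def Ptab_s_332_339 (c : Nat) : Nat := @Bool.rec (fun _ => Nat) (Ptab_s_332_335 c) (Ptab_s_335_339 c) (Nat.ble 335 c)
noncomputable def Ptab_s_326_339 (c : Nat) : Nat := @Bool.rec (fun _ => Nat) (Ptab_s_326_332 c) (Ptab_s_332_339 c) (Nat.ble 332 c)
noncomputable def Ptab_s_340_342 (c : Nat) : Nat := @Bool.rec (fun _ => Nat) (Ptab_340) (Ptab_341) (Nat.ble 341 c)
noncomputable def Ptab_s_339_342 (c : Nat) : Nat := @Bool.rec (fun _ => Nat) (Ptab_339) (Ptab_s_340_342 c) (Nat.ble 340 c)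
noncomputable def Ptab_s_342_344 (c : Nat) : Nat := @Bool.rec (fun _ => Nat) (Ptab_342) (Ptab_343) (Nat.ble 343 c)
noncomputable def Ptab_s_344_346 (c : Nat) : Nat := @Bool.rec (fun _ => Nat) (Ptab_344) (Ptab_345) (Nat.ble 345 c)
noncomputable def Ptab_s_342_346 (c : Nat) : Nat := @Bool.rec (fun _ => Nat) (Ptab_s_342_344 c) (Ptab_s_344_346 c) (Nat.ble 344 c)
noncomputable def Ptab_s_339_346 (c : Nat) : Nat := @Bool.rec (fun _ => Nat) (Ptab_s_339_342 c) (Ptab_s_342_346 c) (Nat.ble 342 c)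
noncomputable def Ptab_s_347_349 (c : Nat) : Nat := @Bool.rec (fun _ => Nat) (Ptab_347) (Ptab_348) (Nat.ble 348 c)
noncomputable def Ptab_s_346_349 (c : Nat) : Nat := @Bool.rec (fun _ => Nat) (Ptab_346) (Ptab_s_347_349 c) (Nat.ble 347 c)
noncomputable def Ptab_s_349_351 (c : Nat) : Nat := @Bool.rec (fun _ => Nat) (Ptab_349) (Ptab_350) (Nat.ble 350 c)
noncomputable def Ptab_s_351_353 (c : Nat) : Nat := @Bool.rec (fun _ => Nat) (Ptab_351) (Ptab_352) (Nat.ble 352 c)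
noncomputable def Ptab_s_349_353 (c : Nat) : Nat := @Bool.rec (fun _ => Nat) (Ptab_s_349_351 c) (Ptab_s_351_353 c) (Nat.ble 351 c)
noncomputable def Ptab_s_346_353 (c : Nat) : Nat := @Bool.rec (fun _ => Nat) (Ptab_s_346_349 c) (Ptab_s_349_353 c) (Nat.ble 349 c)
noncomputable def Ptab_s_339_353 (c : Nat) : Nat := @Bool.rec (fun _ => Nat) (Ptab_s_339_346 c) (Ptab_s_346_353 c) (Nat.ble 346 c)
noncomputable def Ptab_s_326_353 (c : Nat) : Nat := @Bool.rec (fun _ => Nat) (Ptab_s_326_339 c) (Ptab_s_339_353 c) (Nat.ble 339 c)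
noncomputable def Ptab_s_354_356 (c : Nat) : Nat := @Bool.rec (fun _ => Nat) (Ptab_354) (Ptab_355) (Nat.ble 355 c)
noncomputable def Ptab_s_353_356 (c : Nat) : Nat := @Bool.rec (fun _ => Nat) (Ptab_353) (Ptab_s_354_356 c) (Nat.ble 354 c)
noncomputable def Ptab_s_357_359 (c : Nat) : Nat := @Bool.rec (fun _ => Nat) (Ptab_357) (Ptab_358) (Nat.ble 358 c)
noncomputable def Ptab_s_356_359 (c : Nat) : Nat := @Bool.rec (fun _ => Nat) (Ptab_356) (Ptab_s_357_359 c) (Nat.ble 357 c)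
noncomputable def Ptab_s_353_359 (c : Nat) : Nat := @Bool.rec (fun _ => Nat) (Ptab_s_353_356 c) (Ptab_s_356_359 c) (Nat.ble 356 c)
noncomputable def Ptab_s_360_362 (c : Nat) : Nat := @Bool.rec (fun _ => Nat) (Ptab_360) (Ptab_361) (Nat.ble 361 c)
noncomputable def Ptab_s_359_362 (c : Nat) : Nat := @Bool.rec (fun _ => Nat) (Ptab_359) (Ptab_s_360_362 c) (Nat.ble 360 c)
noncomputable def Ptab_s_362_364 (c : Nat) : Nat := @Bool.rec (fun _ => Nat) (Ptab_362) (Ptab_363) (Nat.ble 363 c)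
noncomputable def Ptab_s_364_366 (c : Nat) : Nat := @Bool.rec (fun _ => Nat) (Ptab_364) (Ptab_365) (Nat.ble 365 c)
noncomputable def Ptab_s_362_366 (c : Nat) : Nat := @Bool.rec (fun _ => Nat) (Ptab_s_362_364 c) (Ptab_s_364_366 c) (Nat.ble 364 c)
noncomputable def Ptab_s_359_366 (c : Nat) : Nat := @Bool.rec (fun _ => Nat) (Ptab_s_359_362 c) (Ptab_s_362_366 c) (Nat.ble 362 c)
noncomputable def Ptab_s_353_366 (c : Nat) : Nat := @Bool.rec (fun _ => Nat) (Ptab_s_353_359 c) (Ptab_s_359_366 c) (Nat.ble 359 c)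
noncomputable def Ptab_s_367_369 (c : Nat) : Nat := @Bool.rec (fun _ => Nat) (Ptab_367) (Ptab_368) (Nat.ble 368 c)
noncomputable def Ptab_s_366_369 (c : Nat) : Nat := @Bool.rec (fun _ => Nat) (Ptab_366) (Ptab_s_367_369 c) (Nat.ble 367 c)
noncomputable def Ptab_s_369_371 (c : Nat) : Nat := @Bool.rec (fun _ => Nat) (Ptab_369) (Ptab_370) (Nat.ble 370 c)
noncomputable def Ptab_s_371_373 (c : Nat) : Nat := @Bool.rec (fun _ => Nat) (Ptab_371) (Ptab_372) (Nat.ble 372 c)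
noncomputable def Ptab_s_369_373 (c : Nat) : Nat := @Bool.rec (fun _ => Nat) (Ptab_s_369_371 c) (Ptab_s_371_373 c) (Nat.ble 371 c)
noncomputable def Ptab_s_366_373 (c : Nat) : Nat := @Bool.rec (fun _ => Nat) (Ptab_s_366_369 c) (Ptab_s_369_373 c) (Nat.ble 369 c)
noncomputable def Ptab_s_374_376 (c : Nat) : Nat := @Bool.rec (fun _ => Nat) (Ptab_374) (Ptab_375) (Nat.ble 375 c)
noncomputable def Ptab_s_373_376 (c : Nat) : Nat := @Bool.rec (fun _ => Nat) (Ptab_373) (Ptab_s_374_376 c) (Nat.ble 374 c)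
noncomputable def Ptab_s_376_378 (c : Nat) : Nat := @Bool.rec (fun _ => Nat) (Ptab_376) (Ptab_377) (Nat.ble 377 c)
noncomputable def Ptab_s_378_380 (c : Nat) : Nat := @Bool.rec (fun _ => Nat) (Ptab_378) (Ptab_379) (Nat.ble 379 c)
noncomputable def Ptab_s_376_380 (c : Nat) : Nat := @Bool.rec (fun _ => Nat) (Ptab_s_376_378 c) (Ptab_s_378_380 c) (Nat.ble 378 c)
noncomputable def Ptab_s_373_380 (c : Nat) : Nat := @Bool.rec (fun _ => Nat) (Ptab_s_373_376 c) (Ptab_s_376_380 c) (Nat.ble 376 c)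
noncomputable def Ptab_s_366_380 (c : Nat) : Nat := @Bool.rec (fun _ => Nat) (Ptab_s_366_373 c) (Ptab_s_373_380 c) (Nat.ble 373 c)
noncomputable def Ptab_s_353_380 (c : Nat) : Nat := @Bool.rec (fun _ => Nat) (Ptab_s_353_366 c) (Ptab_s_366_380 c) (Nat.ble 366 c)
noncomputable def Ptab_s_326_380 (c : Nat) : Nat := @Bool.rec (fun _ => Nat) (Ptab_s_326_353 c) (Ptab_s_353_380 c) (Nat.ble 353 c)
noncomputable def Ptab_s_381_383 (c : Nat) : Nat := @Bool.rec (fun _ => Nat) (Ptab_381) (Ptab_382) (Nat.ble 382 c)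
noncomputable def Ptab_s_380_383 (c : Nat) : Nat := @Bool.rec (fun _ => Nat) (Ptab_380) (Ptab_s_381_383 c) (Nat.ble 381 c)
noncomputable def Ptab_s_384_386 (c : Nat) : Nat := @Bool.rec (fun _ => Nat) (Ptab_384) (Ptab_385) (Nat.ble 385 c)
noncomputable def Ptab_s_383_386 (c : Nat) : Nat := @Bool.rec (fun _ => Nat) (Ptab_383) (Ptab_s_384_386 c) (Nat.ble 384 c)
noncomputable def Ptab_s_380_386 (c : Nat) : Nat := @Bool.rec (fun _ => Nat) (Ptab_s_380_383 c) (Ptab_s_383_386 c) (Nat.ble 383 c)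
noncomputable def Ptab_s_387_389 (c : Nat) : Nat := @Bool.rec (fun _ => Nat) (Ptab_387) (Ptab_388) (Nat.ble 388 c)
noncomputable def Ptab_s_386_389 (c : Nat) : Nat := @Bool.rec (fun _ => Nat) (Ptab_386) (Ptab_s_387_389 c) (Nat.ble 387 c)
noncomputable def Ptab_s_389_391 (c : Nat) : Nat := @Bool.rec (fun _ => Nat) (Ptab_389) (Ptab_390) (Nat.ble 390 c)
noncomputable def Ptab_s_391_393 (c : Nat) : Nat := @Bool.rec (fun _ => Nat) (Ptab_391) (Ptab_392) (Nat.ble 392 c)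
noncomputable def Ptab_s_389_393 (c : Nat) : Nat := @Bool.rec (fun _ => Nat) (Ptab_s_389_391 c) (Ptab_s_391_393 c) (Nat.ble 391 c)
noncomputable def Ptab_s_386_393 (c : Nat) : Nat := @Bool.rec (fun _ => Nat) (Ptab_s_386_389 c) (Ptab_s_389_393 c) (Nat.ble 389 c)
noncomputable def Ptab_s_380_393 (c : Nat) : Nat := @Bool.rec (fun _ => Nat) (Ptab_s_380_386 c) (Ptab_s_386_393 c) (Nat.ble 386 c)
noncomputable def Ptab_s_394_396 (c : Nat) : Nat := @Bool.rec (fun _ => Nat) (Ptab_394) (Ptab_395) (Nat.ble 395 c)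
noncomputable def Ptab_s_393_396 (c : Nat) : Nat := @Bool.rec (fun _ => Nat) (Ptab_393) (Ptab_s_394_396 c) (Nat.ble 394 c)
noncomputable def Ptab_s_396_398 (c : Nat) : Nat := @Bool.rec (fun _ => Nat) (Ptab_396) (Ptab_397) (Nat.ble 397 c)
noncomputable def Ptab_s_398_400 (c : Nat) : Nat := @Bool.rec (fun _ => Nat) (Ptab_398) (Ptab_399) (Nat.ble 399 c)
noncomputable def Ptab_s_396_400 (c : Nat) : Nat := @Bool.rec (fun _ => Nat) (Ptab_s_396_398 c) (Ptab_s_398_400 c) (Nat.ble 398 c)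
noncomputable def Ptab_s_393_400 (c : Nat) : Nat := @Bool.rec (fun _ => Nat) (Ptab_s_393_396 c) (Ptab_s_396_400 c) (Nat.ble 396 c)
noncomputable def Ptab_s_401_403 (c : Nat) : Nat := @Bool.rec (fun _ => Nat) (Ptab_401) (Ptab_402) (Nat.ble 402 c)
noncomputable def Ptab_s_400_403 (c : Nat) : Nat := @Bool.rec (fun _ => Nat) (Ptab_400) (Ptab_s_401_403 c) (Nat.ble 401 c)
noncomputable def Ptab_s_403_405 (c : Nat) : Nat := @Bool.rec (fun _ => Nat) (Ptab_403) (Ptab_404) (Nat.ble 404 c)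
noncomputable def Ptab_s_405_407 (c : Nat) : Nat := @Bool.rec (fun _ => Nat) (Ptab_405) (Ptab_406) (Nat.ble 406 c)
noncomputable def Ptab_s_403_407 (c : Nat) : Nat := @Bool.rec (fun _ => Nat) (Ptab_s_403_405 c) (Ptab_s_405_407 c) (Nat.ble 405 c)
noncomputable def Ptab_s_400_407 (c : Nat) : Nat := @Bool.rec (fun _ => Nat) (Ptab_s_400_403 c) (Ptab_s_403_407 c) (Nat.ble 403 c)
noncomputable def Ptab_s_393_407 (c : Nat) : Nat := @Bool.rec (fun _ => Nat) (Ptab_s_393_400 c) (Ptab_s_400_407 c) (Nat.ble 400 c)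
noncomputable def Ptab_s_380_407 (c : Nat) : Nat := @Bool.rec (fun _ => Nat) (Ptab_s_380_393 c) (Ptab_s_393_407 c) (Nat.ble 393 c)
noncomputable def Ptab_s_408_410 (c : Nat) : Nat := @Bool.rec (fun _ => Nat) (Ptab_408) (Ptab_409) (Nat.ble 409 c)
noncomputable def Ptab_s_407_410 (c : Nat) : Nat := @Bool.rec (fun _ => Nat) (Ptab_407) (Ptab_s_408_410 c) (Nat.ble 408 c)
noncomputable def Ptab_s_410_412 (c : Nat) : Nat := @Bool.rec (fun _ => Nat) (Ptab_410) (Ptab_411) (Nat.ble 411 c)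
noncomputable def Ptab_s_412_414 (c : Nat) : Nat := @Bool.rec (fun _ => Nat) (Ptab_412) (Ptab_413) (Nat.ble 413 c)
noncomputable def Ptab_s_410_414 (c : Nat) : Nat := @Bool.rec (fun _ => Nat) (Ptab_s_410_412 c) (Ptab_s_412_414 c) (Nat.ble 412 c)
noncomputable def Ptab_s_407_414 (c : Nat) : Nat := @Bool.rec (fun _ => Nat) (Ptab_s_407_410 c) (Ptab_s_410_414 c) (Nat.ble 410 c)
noncomputable def Ptab_s_415_417 (c : Nat) : Nat := @Bool.rec (fun _ => Nat) (Ptab_415) (Ptab_416) (Nat.ble 416 c)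
noncomputable def Ptab_s_414_417 (c : Nat) : Nat := @Bool.rec (fun _ => Nat) (Ptab_414) (Ptab_s_415_417 c) (Nat.ble 415 c)
noncomputable def Ptab_s_417_419 (c : Nat) : Nat := @Bool.rec (fun _ => Nat) (Ptab_417) (Ptab_418) (Nat.ble 418 c)
noncomputable def Ptab_s_419_421 (c : Nat) : Nat := @Bool.rec (fun _ => Nat) (Ptab_419) (Ptab_420) (Nat.ble 420 c)
noncomputable def Ptab_s_417_421 (c : Nat) : Nat := @Bool.rec (fun _ => Nat) (Ptab_s_417_419 c) (Ptab_s_419_421 c) (Nat.ble 419 c)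
noncomputable def Ptab_s_414_421 (c : Nat) : Nat := @Bool.rec (fun _ => Nat) (Ptab_s_414_417 c) (Ptab_s_417_421 c) (Nat.ble 417 c)
noncomputable def Ptab_s_407_421 (c : Nat) : Nat := @Bool.rec (fun _ => Nat) (Ptab_s_407_414 c) (Ptab_s_414_421 c) (Nat.ble 414 c)
noncomputable def Ptab_s_422_424 (c : Nat) : Nat := @Bool.rec (fun _ => Nat) (Ptab_422) (Ptab_423) (Nat.ble 423 c)
noncomputable def Ptab_s_421_424 (c : Nat) : Nat := @Bool.rec (fun _ => Nat) (Ptab_421) (Ptab_s_422_424 c) (Nat.ble 422 c)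
noncomputable def Ptab_s_424_426 (c : Nat) : Nat := @Bool.rec (fun _ => Nat) (Ptab_424) (Ptab_425) (Nat.ble 425 c)
noncomputable def Ptab_s_426_428 (c : Nat) : Nat := @Bool.rec (fun _ => Nat) (Ptab_426) (Ptab_427) (Nat.ble 427 c)
noncomputable def Ptab_s_424_428 (c : Nat) : Nat := @Bool.rec (fun _ => Nat) (Ptab_s_424_426 c) (Ptab_s_426_428 c) (Nat.ble 426 c)
noncomputable def Ptab_s_421_428 (c : Nat) : Nat := @Bool.rec (fun _ => Nat) (Ptab_s_421_424 c) (Ptab_s_424_428 c) (Nat.ble 424 c)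
noncomputable def Ptab_s_429_431 (c : Nat) : Nat := @Bool.rec (fun _ => Nat) (Ptab_429) (Ptab_430) (Nat.ble 430 c)
noncomputable def Ptab_s_428_431 (c : Nat) : Nat := @Bool.rec (fun _ => Nat) (Ptab_428) (Ptab_s_429_431 c) (Nat.ble 429 c)
noncomputable def Ptab_s_431_433 (c : Nat) : Nat := @Bool.rec (fun _ => Nat) (Ptab_431) (Ptab_432) (Nat.ble 432 c)
noncomputable def Ptab_s_433_435 (c : Nat) : Nat := @Bool.rec (fun _ => Nat) (Ptab_433) (Ptab_434) (Nat.ble 434 c)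
noncomputable def Ptab_s_431_435 (c : Nat) : Nat := @Bool.rec (fun _ => Nat) (Ptab_s_431_433 c) (Ptab_s_433_435 c) (Nat.ble 433 c)
noncomputable def Ptab_s_428_435 (c : Nat) : Nat := @Bool.rec (fun _ => Nat) (Ptab_s_428_431 c) (Ptab_s_431_435 c) (Nat.ble 431 c)
noncomputable def Ptab_s_421_435 (c : Nat) : Nat := @Bool.rec (fun _ => Nat) (Ptab_s_421_428 c) (Ptab_s_428_435 c) (Nat.ble 428 c)
noncomputable def Ptab_s_407_435 (c : Nat) : Nat := @Bool.rec (fun _ => Nat) (Ptab_s_407_421 c) (Ptab_s_421_435 c) (Nat.ble 421 c)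
noncomputable def Ptab_s_380_435 (c : Nat) : Nat := @Bool.rec (fun _ => Nat) (Ptab_s_380_407 c) (Ptab_s_407_435 c) (Nat.ble 407 c)
noncomputable def Ptab_s_326_435 (c : Nat) : Nat := @Bool.rec (fun _ => Nat) (Ptab_s_326_380 c) (Ptab_s_380_435 c) (Nat.ble 380 c)
noncomputable def Ptab_s_217_435 (c : Nat) : Nat := @Bool.rec (fun _ => Nat) (Ptab_s_217_326 c) (Ptab_s_326_435 c) (Nat.ble 326 c)
noncomputable def Ptab_s_0_435 (c : Nat) : Nat := @Bool.rec (fun _ => Nat) (Ptab_s_0_217 c) (Ptab_s_217_435 c) (Nat.ble 217 c)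
noncomputable def Ptab_s_436_438 (c : Nat) : Nat := @Bool.rec (fun _ => Nat) (Ptab_436) (Ptab_437) (Nat.ble 437 c)
noncomputable def Ptab_s_435_438 (c : Nat) : Nat := @Bool.rec (fun _ => Nat) (Ptab_435) (Ptab_s_436_438 c) (Nat.ble 436 c)
noncomputable def Ptab_s_439_441 (c : Nat) : Nat := @Bool.rec (fun _ => Nat) (Ptab_439) (Ptab_440) (Nat.ble 440 c)
noncomputable def Ptab_s_438_441 (c : Nat) : Nat := @Bool.rec (fun _ => Nat) (Ptab_438) (Ptab_s_439_441 c) (Nat.ble 439 c)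
noncomputable def Ptab_s_435_441 (c : Nat) : Nat := @Bool.rec (fun _ => Nat) (Ptab_s_435_438 c) (Ptab_s_438_441 c) (Nat.ble 438 c)
noncomputable def Ptab_s_442_444 (c : Nat) : Nat := @Bool.rec (fun _ => Nat) (Ptab_442) (Ptab_443) (Nat.ble 443 c)
noncomputable def Ptab_s_441_444 (c : Nat) : Nat := @Bool.rec (fun _ => Nat) (Ptab_441) (Ptab_s_442_444 c) (Nat.ble 442 c)
noncomputable def Ptab_s_444_446 (c : Nat) : Nat := @Bool.rec (fun _ => Nat) (Ptab_444) (Ptab_445) (Nat.ble 445 c)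
noncomputable def Ptab_s_446_448 (c : Nat) : Nat := @Bool.rec (fun _ => Nat) (Ptab_446) (Ptab_447) (Nat.ble 447 c)
noncomputable def Ptab_s_444_448 (c : Nat) : Nat := @Bool.rec (fun _ => Nat) (Ptab_s_444_446 c) (Ptab_s_446_448 c) (Nat.ble 446 c)
noncomputable def Ptab_s_441_448 (c : Nat) : Nat := @Bool.rec (fun _ => Nat) (Ptab_s_441_444 c) (Ptab_s_444_448 c) (Nat.ble 444 c)
noncomputable def Ptab_s_435_448 (c : Nat) : Nat := @Bool.rec (fun _ => Nat) (Ptab_s_435_441 c) (Ptab_s_441_448 c) (Nat.ble 441 c)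
noncomputable def Ptab_s_449_451 (c : Nat) : Nat := @Bool.rec (fun _ => Nat) (Ptab_449) (Ptab_450) (Nat.ble 450 c)
noncomputable def Ptab_s_448_451 (c : Nat) : Nat := @Bool.rec (fun _ => Nat) (Ptab_448) (Ptab_s_449_451 c) (Nat.ble 449 c)
noncomputable def Ptab_s_451_453 (c : Nat) : Nat := @Bool.rec (fun _ => Nat) (Ptab_451) (Ptab_452) (Nat.ble 452 c)
noncomputable def Ptab_s_453_455 (c : Nat) : Nat := @Bool.rec (fun _ => Nat) (Ptab_453) (Ptab_454) (Nat.ble 454 c)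
noncomputable def Ptab_s_451_455 (c : Nat) : Nat := @Bool.rec (fun _ => Nat) (Ptab_s_451_453 c) (Ptab_s_453_455 c) (Nat.ble 453 c)
noncomputable def Ptab_s_448_455 (c : Nat) : Nat := @Bool.rec (fun _ => Nat) (Ptab_s_448_451 c) (Ptab_s_451_455 c) (Nat.ble 451 c)
noncomputable def Ptab_s_456_458 (c : Nat) : Nat := @Bool.rec (fun _ => Nat) (Ptab_456) (Ptab_457) (Nat.ble 457 c)
noncomputable def Ptab_s_455_458 (c : Nat) : Nat := @Bool.rec (fun _ => Nat) (Ptab_455) (Ptab_s_456_458 c) (Nat.ble 456 c)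
noncomputable def Ptab_s_458_460 (c : Nat) : Nat := @Bool.rec (fun _ => Nat) (Ptab_458) (Ptab_459) (Nat.ble 459 c)
noncomputable def Ptab_s_460_462 (c : Nat) : Nat := @Bool.rec (fun _ => Nat) (Ptab_460) (Ptab_461) (Nat.ble 461 c)
noncomputable def Ptab_s_458_462 (c : Nat) : Nat := @Bool.rec (fun _ => Nat) (Ptab_s_458_460 c) (Ptab_s_460_462 c) (Nat.ble 460 c)
noncomputable def Ptab_s_455_462 (c : Nat) : Nat := @Bool.rec (fun _ => Nat) (Ptab_s_455_458 c) (Ptab_s_458_462 c) (Nat.ble 458 c)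
noncomputable def Ptab_s_448_462 (c : Nat) : Nat := @Bool.rec (fun _ => Nat) (Ptab_s_448_455 c) (Ptab_s_455_462 c) (Nat.ble 455 c)
noncomputable def Ptab_s_435_462 (c : Nat) : Nat := @Bool.rec (fun _ => Nat) (Ptab_s_435_448 c) (Ptab_s_448_462 c) (Nat.ble 448 c)
noncomputable def Ptab_s_463_465 (c : Nat) : Nat := @Bool.rec (fun _ => Nat) (Ptab_463) (Ptab_464) (Nat.ble 464 c)
noncomputable def Ptab_s_462_465 (c : Nat) : Nat := @Bool.rec (fun _ => Nat) (Ptab_462) (Ptab_s_463_465 c) (Nat.ble 463 c)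
noncomputable def Ptab_s_466_468 (c : Nat) : Nat := @Bool.rec (fun _ => Nat) (Ptab_466) (Ptab_467) (Nat.ble 467 c)
noncomputable def Ptab_s_465_468 (c : Nat) : Nat := @Bool.rec (fun _ => Nat) (Ptab_465) (Ptab_s_466_468 c) (Nat.ble 466 c)
noncomputable def Ptab_s_462_468 (c : Nat) : Nat := @Bool.rec (fun _ => Nat) (Ptab_s_462_465 c) (Ptab_s_465_468 c) (Nat.ble 465 c)
noncomputable def Ptab_s_469_471 (c : Nat) : Nat := @Bool.rec (fun _ => Nat) (Ptab_469) (Ptab_470) (Nat.ble 470 c)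
noncomputable def Ptab_s_468_471 (c : Nat) : Nat := @Bool.rec (fun _ => Nat) (Ptab_468) (Ptab_s_469_471 c) (Nat.ble 469 c)
noncomputable def Ptab_s_471_473 (c : Nat) : Nat := @Bool.rec (fun _ => Nat) (Ptab_471) (Ptab_472) (Nat.ble 472 c)
noncomputable def Ptab_s_473_475 (c : Nat) : Nat := @Bool.rec (fun _ => Nat) (Ptab_473) (Ptab_474) (Nat.ble 474 c)
noncomputable def Ptab_s_471_475 (c : Nat) : Nat := @Bool.rec (fun _ => Nat) (Ptab_s_471_473 c) (Ptab_s_473_475 c) (Nat.ble 473 c)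
noncomputable def Ptab_s_468_475 (c : Nat) : Nat := @Bool.rec (fun _ => Nat) (Ptab_s_468_471 c) (Ptab_s_471_475 c) (Nat.ble 471 c)
noncomputable def Ptab_s_462_475 (c : Nat) : Nat := @Bool.rec (fun _ => Nat) (Ptab_s_462_468 c) (Ptab_s_468_475 c) (Nat.ble 468 c)
noncomputable def Ptab_s_476_478 (c : Nat) : Nat := @Bool.rec (fun _ => Nat) (Ptab_476) (Ptab_477) (Nat.ble 477 c)
noncomputable def Ptab_s_475_478 (c : Nat) : Nat := @Bool.rec (fun _ => Nat) (Ptab_475) (Ptab_s_476_478 c) (Nat.ble 476 c)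
noncomputable def Ptab_s_478_480 (c : Nat) : Nat := @Bool.rec (fun _ => Nat) (Ptab_478) (Ptab_479) (Nat.ble 479 c)
noncomputable def Ptab_s_480_482 (c : Nat) : Nat := @Bool.rec (fun _ => Nat) (Ptab_480) (Ptab_481) (Nat.ble 481 c)
noncomputable def Ptab_s_478_482 (c : Nat) : Nat := @Bool.rec (fun _ => Nat) (Ptab_s_478_480 c) (Ptab_s_480_482 c) (Nat.ble 480 c)
noncomputable def Ptab_s_475_482 (c : Nat) : Nat := @Bool.rec (fun _ => Nat) (Ptab_s_475_478 c) (Ptab_s_478_482 c) (Nat.ble 478 c)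
noncomputable def Ptab_s_483_485 (c : Nat) : Nat := @Bool.rec (fun _ => Nat) (Ptab_483) (Ptab_484) (Nat.ble 484 c)
noncomputable def Ptab_s_482_485 (c : Nat) : Nat := @Bool.rec (fun _ => Nat) (Ptab_482) (Ptab_s_483_485 c) (Nat.ble 483 c)
noncomputable def Ptab_s_485_487 (c : Nat) : Nat := @Bool.rec (fun _ => Nat) (Ptab_485) (Ptab_486) (Nat.ble 486 c)
noncomputable def Ptab_s_487_489 (c : Nat) : Nat := @Bool.rec (fun _ => Nat) (Ptab_487) (Ptab_488) (Nat.ble 488 c)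
noncomputable def Ptab_s_485_489 (c : Nat) : Nat := @Bool.rec (fun _ => Nat) (Ptab_s_485_487 c) (Ptab_s_487_489 c) (Nat.ble 487 c)
noncomputable def Ptab_s_482_489 (c : Nat) : Nat := @Bool.rec (fun _ => Nat) (Ptab_s_482_485 c) (Ptab_s_485_489 c) (Nat.ble 485 c)
noncomputable def Ptab_s_475_489 (c : Nat) : Nat := @Bool.rec (fun _ => Nat) (Ptab_s_475_482 c) (Ptab_s_482_489 c) (Nat.ble 482 c)
noncomputable def Ptab_s_462_489 (c : Nat) : Nat := @Bool.rec (fun _ => Nat) (Ptab_s_462_475 c) (Ptab_s_475_489 c) (Nat.ble 475 c)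
noncomputable def Ptab_s_435_489 (c : Nat) : Nat := @Bool.rec (fun _ => Nat) (Ptab_s_435_462 c) (Ptab_s_462_489 c) (Nat.ble 462 c)
noncomputable def Ptab_s_490_492 (c : Nat) : Nat := @Bool.rec (fun _ => Nat) (Ptab_490) (Ptab_491) (Nat.ble 491 c)
noncomputable def Ptab_s_489_492 (c : Nat) : Nat := @Bool.rec (fun _ => Nat) (Ptab_489) (Ptab_s_490_492 c) (Nat.ble 490 c)
noncomputable def Ptab_s_493_495 (c : Nat) : Nat := @Bool.rec (fun _ => Nat) (Ptab_493) (Ptab_494) (Nat.ble 494 c)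
noncomputable def Ptab_s_492_495 (c : Nat) : Nat := @Bool.rec (fun _ => Nat) (Ptab_492) (Ptab_s_493_495 c) (Nat.ble 493 c)
noncomputable def Ptab_s_489_495 (c : Nat) : Nat := @Bool.rec (fun _ => Nat) (Ptab_s_489_492 c) (Ptab_s_492_495 c) (Nat.ble 492 c)
noncomputable def Ptab_s_496_498 (c : Nat) : Nat := @Bool.rec (fun _ => Nat) (Ptab_496) (Ptab_497) (Nat.ble 497 c)
noncomputable def Ptab_s_495_498 (c : Nat) : Nat := @Bool.rec (fun _ => Nat) (Ptab_495) (Ptab_s_496_498 c) (Nat.ble 496 c)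
noncomputable def Ptab_s_498_500 (c : Nat) : Nat := @Bool.rec (fun _ => Nat) (Ptab_498) (Ptab_499) (Nat.ble 499 c)
noncomputable def Ptab_s_500_502 (c : Nat) : Nat := @Bool.rec (fun _ => Nat) (Ptab_500) (Ptab_501) (Nat.ble 501 c)
noncomputable def Ptab_s_498_502 (c : Nat) : Nat := @Bool.rec (fun _ => Nat) (Ptab_s_498_500 c) (Ptab_s_500_502 c) (Nat.ble 500 c)
noncomputable def Ptab_s_495_502 (c : Nat) : Nat := @Bool.rec (fun _ => Nat) (Ptab_s_495_498 c) (Ptab_s_498_502 c) (Nat.ble 498 c)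
noncomputable def Ptab_s_489_502 (c : Nat) : Nat := @Bool.rec (fun _ => Nat) (Ptab_s_489_495 c) (Ptab_s_495_502 c) (Nat.ble 495 c)
noncomputable def Ptab_s_503_505 (c : Nat) : Nat := @Bool.rec (fun _ => Nat) (Ptab_503) (Ptab_504) (Nat.ble 504 c)
noncomputable def Ptab_s_502_505 (c : Nat) : Nat := @Bool.rec (fun _ => Nat) (Ptab_502) (Ptab_s_503_505 c) (Nat.ble 503 c)
noncomputable def Ptab_s_505_507 (c : Nat) : Nat := @Bool.rec (fun _ => Nat) (Ptab_505) (Ptab_506) (Nat.ble 506 c)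
noncomputable def Ptab_s_507_509 (c : Nat) : Nat := @Bool.rec (fun _ => Nat) (Ptab_507) (Ptab_508) (Nat.ble 508 c)
noncomputable def Ptab_s_505_509 (c : Nat) : Nat := @Bool.rec (fun _ => Nat) (Ptab_s_505_507 c) (Ptab_s_507_509 c) (Nat.ble 507 c)
noncomputable def Ptab_s_502_509 (c : Nat) : Nat := @Bool.rec (fun _ => Nat) (Ptab_s_502_505 c) (Ptab_s_505_509 c) (Nat.ble 505 c)
noncomputable def Ptab_s_510_512 (c : Nat) : Nat := @Bool.rec (fun _ => Nat) (Ptab_510) (Ptab_511) (Nat.ble 511 c)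
noncomputable def Ptab_s_509_512 (c : Nat) : Nat := @Bool.rec (fun _ => Nat) (Ptab_509) (Ptab_s_510_512 c) (Nat.ble 510 c)
noncomputable def Ptab_s_512_514 (c : Nat) : Nat := @Bool.rec (fun _ => Nat) (Ptab_512) (Ptab_513) (Nat.ble 513 c)
noncomputable def Ptab_s_514_516 (c : Nat) : Nat := @Bool.rec (fun _ => Nat) (Ptab_514) (Ptab_515) (Nat.ble 515 c)
noncomputable def Ptab_s_512_516 (c : Nat) : Nat := @Bool.rec (fun _ => Nat) (Ptab_s_512_514 c) (Ptab_s_514_516 c) (Nat.ble 514 c)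
noncomputable def Ptab_s_509_516 (c : Nat) : Nat := @Bool.rec (fun _ => Nat) (Ptab_s_509_512 c) (Ptab_s_512_516 c) (Nat.ble 512 c)
noncomputable def Ptab_s_502_516 (c : Nat) : Nat := @Bool.rec (fun _ => Nat) (Ptab_s_502_509 c) (Ptab_s_509_516 c) (Nat.ble 509 c)
noncomputable def Ptab_s_489_516 (c : Nat) : Nat := @Bool.rec (fun _ => Nat) (Ptab_s_489_502 c) (Ptab_s_502_516 c) (Nat.ble 502 c)
noncomputable def Ptab_s_517_519 (c : Nat) : Nat := @Bool.rec (fun _ => Nat) (Ptab_517) (Ptab_518) (Nat.ble 518 c)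
noncomputable def Ptab_s_516_519 (c : Nat) : Nat := @Bool.rec (fun _ => Nat) (Ptab_516) (Ptab_s_517_519 c) (Nat.ble 517 c)
noncomputable def Ptab_s_519_521 (c : Nat) : Nat := @Bool.rec (fun _ => Nat) (Ptab_519) (Ptab_520) (Nat.ble 520 c)
noncomputable def Ptab_s_521_523 (c : Nat) : Nat := @Bool.rec (fun _ => Nat) (Ptab_521) (Ptab_522) (Nat.ble 522 c)
noncomputable def Ptab_s_519_523 (c : Nat) : Nat := @Bool.rec (fun _ => Nat) (Ptab_s_519_521 c) (Ptab_s_521_523 c) (Nat.ble 521 c)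
noncomputable def Ptab_s_516_523 (c : Nat) : Nat := @Bool.rec (fun _ => Nat) (Ptab_s_516_519 c) (Ptab_s_519_523 c) (Nat.ble 519 c)
noncomputable def Ptab_s_524_526 (c : Nat) : Nat := @Bool.rec (fun _ => Nat) (Ptab_524) (Ptab_525) (Nat.ble 525 c)
noncomputable def Ptab_s_523_526 (c : Nat) : Nat := @Bool.rec (fun _ => Nat) (Ptab_523) (Ptab_s_524_526 c) (Nat.ble 524 c)
noncomputable def Ptab_s_526_528 (c : Nat) : Nat := @Bool.rec (fun _ => Nat) (Ptab_526) (Ptab_527) (Nat.ble 527 c)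
noncomputable def Ptab_s_528_530 (c : Nat) : Nat := @Bool.rec (fun _ => Nat) (Ptab_528) (Ptab_529) (Nat.ble 529 c)
noncomputable def Ptab_s_526_530 (c : Nat) : Nat := @Bool.rec (fun _ => Nat) (Ptab_s_526_528 c) (Ptab_s_528_530 c) (Nat.ble 528 c)
noncomputable def Ptab_s_523_530 (c : Nat) : Nat := @Bool.rec (fun _ => Nat) (Ptab_s_523_526 c) (Ptab_s_526_530 c) (Nat.ble 526 c)
noncomputable def Ptab_s_516_530 (c : Nat) : Nat := @Bool.rec (fun _ => Nat) (Ptab_s_516_523 c) (Ptab_s_523_530 c) (Nat.ble 523 c)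
noncomputable def Ptab_s_531_533 (c : Nat) : Nat := @Bool.rec (fun _ => Nat) (Ptab_531) (Ptab_532) (Nat.ble 532 c)
noncomputable def Ptab_s_530_533 (c : Nat) : Nat := @Bool.rec (fun _ => Nat) (Ptab_530) (Ptab_s_531_533 c) (Nat.ble 531 c)
noncomputable def Ptab_s_533_535 (c : Nat) : Nat := @Bool.rec (fun _ => Nat) (Ptab_533) (Ptab_534) (Nat.ble 534 c)
noncomputable def Ptab_s_535_537 (c : Nat) : Nat := @Bool.rec (fun _ => Nat) (Ptab_535) (Ptab_536) (Nat.ble 536 c)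
noncomputable def Ptab_s_533_537 (c : Nat) : Nat := @Bool.rec (fun _ => Nat) (Ptab_s_533_535 c) (Ptab_s_535_537 c) (Nat.ble 535 c)
noncomputable def Ptab_s_530_537 (c : Nat) : Nat := @Bool.rec (fun _ => Nat) (Ptab_s_530_533 c) (Ptab_s_533_537 c) (Nat.ble 533 c)
noncomputable def Ptab_s_538_540 (c : Nat) : Nat := @Bool.rec (fun _ => Nat) (Ptab_538) (Ptab_539) (Nat.ble 539 c)
noncomputable def Ptab_s_537_540 (c : Nat) : Nat := @Bool.rec (fun _ => Nat) (Ptab_537) (Ptab_s_538_540 c) (Nat.ble 538 c)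
noncomputable def Ptab_s_540_542 (c : Nat) : Nat := @Bool.rec (fun _ => Nat) (Ptab_540) (Ptab_541) (Nat.ble 541 c)
noncomputable def Ptab_s_542_544 (c : Nat) : Nat := @Bool.rec (fun _ => Nat) (Ptab_542) (Ptab_543) (Nat.ble 543 c)
noncomputable def Ptab_s_540_544 (c : Nat) : Nat := @Bool.rec (fun _ => Nat) (Ptab_s_540_542 c) (Ptab_s_542_544 c) (Nat.ble 542 c)
noncomputable def Ptab_s_537_544 (c : Nat) : Nat := @Bool.rec (fun _ => Nat) (Ptab_s_537_540 c) (Ptab_s_540_544 c) (Nat.ble 540 c)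
noncomputable def Ptab_s_530_544 (c : Nat) : Nat := @Bool.rec (fun _ => Nat) (Ptab_s_530_537 c) (Ptab_s_537_544 c) (Nat.ble 537 c)
noncomputable def Ptab_s_516_544 (c : Nat) : Nat := @Bool.rec (fun _ => Nat) (Ptab_s_516_530 c) (Ptab_s_530_544 c) (Nat.ble 530 c)
noncomputable def Ptab_s_489_544 (c : Nat) : Nat := @Bool.rec (fun _ => Nat) (Ptab_s_489_516 c) (Ptab_s_516_544 c) (Nat.ble 516 c)
noncomputable def Ptab_s_435_544 (c : Nat) : Nat := @Bool.rec (fun _ => Nat) (Ptab_s_435_489 c) (Ptab_s_489_544 c) (Nat.ble 489 c)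
noncomputable def Ptab_s_545_547 (c : Nat) : Nat := @Bool.rec (fun _ => Nat) (Ptab_545) (Ptab_546) (Nat.ble 546 c)
noncomputable def Ptab_s_544_547 (c : Nat) : Nat := @Bool.rec (fun _ => Nat) (Ptab_544) (Ptab_s_545_547 c) (Nat.ble 545 c)
noncomputable def Ptab_s_548_550 (c : Nat) : Nat := @Bool.rec (fun _ => Nat) (Ptab_548) (Ptab_549) (Nat.ble 549 c)
noncomputable def Ptab_s_547_550 (c : Nat) : Nat := @Bool.rec (fun _ => Nat) (Ptab_547) (Ptab_s_548_550 c) (Nat.ble 548 c)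
noncomputable def Ptab_s_544_550 (c : Nat) : Nat := @Bool.rec (fun _ => Nat) (Ptab_s_544_547 c) (Ptab_s_547_550 c) (Nat.ble 547 c)
noncomputable def Ptab_s_551_553 (c : Nat) : Nat := @Bool.rec (fun _ => Nat) (Ptab_551) (Ptab_552) (Nat.ble 552 c)
noncomputable def Ptab_s_550_553 (c : Nat) : Nat := @Bool.rec (fun _ => Nat) (Ptab_550) (Ptab_s_551_553 c) (Nat.ble 551 c)
noncomputable def Ptab_s_553_555 (c : Nat) : Nat := @Bool.rec (fun _ => Nat) (Ptab_553) (Ptab_554) (Nat.ble 554 c)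
noncomputable def Ptab_s_555_557 (c : Nat) : Nat := @Bool.rec (fun _ => Nat) (Ptab_555) (Ptab_556) (Nat.ble 556 c)
noncomputable def Ptab_s_553_557 (c : Nat) : Nat := @Bool.rec (fun _ => Nat) (Ptab_s_553_555 c) (Ptab_s_555_557 c) (Nat.ble 555 c)
noncomputable def Ptab_s_550_557 (c : Nat) : Nat := @Bool.rec (fun _ => Nat) (Ptab_s_550_553 c) (Ptab_s_553_557 c) (Nat.ble 553 c)
noncomputable def Ptab_s_544_557 (c : Nat) : Nat := @Bool.rec (fun _ => Nat) (Ptab_s_544_550 c) (Ptab_s_550_557 c) (Nat.ble 550 c)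
noncomputable def Ptab_s_558_560 (c : Nat) : Nat := @Bool.rec (fun _ => Nat) (Ptab_558) (Ptab_559) (Nat.ble 559 c)
noncomputable def Ptab_s_557_560 (c : Nat) : Nat := @Bool.rec (fun _ => Nat) (Ptab_557) (Ptab_s_558_560 c) (Nat.ble 558 c)
noncomputable def Ptab_s_560_562 (c : Nat) : Nat := @Bool.rec (fun _ => Nat) (Ptab_560) (Ptab_561) (Nat.ble 561 c)
noncomputable def Ptab_s_562_564 (c : Nat) : Nat := @Bool.rec (fun _ => Nat) (Ptab_562) (Ptab_563) (Nat.ble 563 c)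
noncomputable def Ptab_s_560_564 (c : Nat) : Nat := @Bool.rec (fun _ => Nat) (Ptab_s_560_562 c) (Ptab_s_562_564 c) (Nat.ble 562 c)
noncomputable def Ptab_s_557_564 (c : Nat) : Nat := @Bool.rec (fun _ => Nat) (Ptab_s_557_560 c) (Ptab_s_560_564 c) (Nat.ble 560 c)
noncomputable def Ptab_s_565_567 (c : Nat) : Nat := @Bool.rec (fun _ => Nat) (Ptab_565) (Ptab_566) (Nat.ble 566 c)
noncomputable def Ptab_s_564_567 (c : Nat) : Nat := @Bool.rec (fun _ => Nat) (Ptab_564) (Ptab_s_565_567 c) (Nat.ble 565 c)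
noncomputable def Ptab_s_567_569 (c : Nat) : Nat := @Bool.rec (fun _ => Nat) (Ptab_567) (Ptab_568) (Nat.ble 568 c)
noncomputable def Ptab_s_569_571 (c : Nat) : Nat := @Bool.rec (fun _ => Nat) (Ptab_569) (Ptab_570) (Nat.ble 570 c)
noncomputable def Ptab_s_567_571 (c : Nat) : Nat := @Bool.rec (fun _ => Nat) (Ptab_s_567_569 c) (Ptab_s_569_571 c) (Nat.ble 569 c)
noncomputable def Ptab_s_564_571 (c : Nat) : Nat := @Bool.rec (fun _ => Nat) (Ptab_s_564_567 c) (Ptab_s_567_571 c) (Nat.ble 567 c)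
noncomputable def Ptab_s_557_571 (c : Nat) : Nat := @Bool.rec (fun _ => Nat) (Ptab_s_557_564 c) (Ptab_s_564_571 c) (Nat.ble 564 c)
noncomputable def Ptab_s_544_571 (c : Nat) : Nat := @Bool.rec (fun _ => Nat) (Ptab_s_544_557 c) (Ptab_s_557_571 c) (Nat.ble 557 c)
noncomputable def Ptab_s_572_574 (c : Nat) : Nat := @Bool.rec (fun _ => Nat) (Ptab_572) (Ptab_573) (Nat.ble 573 c)
noncomputable def Ptab_s_571_574 (c : Nat) : Nat := @Bool.rec (fun _ => Nat) (Ptab_571) (Ptab_s_572_574 c) (Nat.ble 572 c)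
noncomputable def Ptab_s_575_577 (c : Nat) : Nat := @Bool.rec (fun _ => Nat) (Ptab_575) (Ptab_576) (Nat.ble 576 c)
noncomputable def Ptab_s_574_577 (c : Nat) : Nat := @Bool.rec (fun _ => Nat) (Ptab_574) (Ptab_s_575_577 c) (Nat.ble 575 c)
noncomputable def Ptab_s_571_577 (c : Nat) : Nat := @Bool.rec (fun _ => Nat) (Ptab_s_571_574 c) (Ptab_s_574_577 c) (Nat.ble 574 c)
noncomputable def Ptab_s_578_580 (c : Nat) : Nat := @Bool.rec (fun _ => Nat) (Ptab_578) (Ptab_579) (Nat.ble 579 c)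
noncomputable def Ptab_s_577_580 (c : Nat) : Nat := @Bool.rec (fun _ => Nat) (Ptab_577) (Ptab_s_578_580 c) (Nat.ble 578 c)
noncomputable def Ptab_s_580_582 (c : Nat) : Nat := @Bool.rec (fun _ => Nat) (Ptab_580) (Ptab_581) (Nat.ble 581 c)
noncomputable def Ptab_s_582_584 (c : Nat) : Nat := @Bool.rec (fun _ => Nat) (Ptab_582) (Ptab_583) (Nat.ble 583 c)
noncomputable def Ptab_s_580_584 (c : Nat) : Nat := @Bool.rec (fun _ => Nat) (Ptab_s_580_582 c) (Ptab_s_582_584 c) (Nat.ble 582 c)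
noncomputable def Ptab_s_577_584 (c : Nat) : Nat := @Bool.rec (fun _ => Nat) (Ptab_s_577_580 c) (Ptab_s_580_584 c) (Nat.ble 580 c)
noncomputable def Ptab_s_571_584 (c : Nat) : Nat := @Bool.rec (fun _ => Nat) (Ptab_s_571_577 c) (Ptab_s_577_584 c) (Nat.ble 577 c)
noncomputable def Ptab_s_585_587 (c : Nat) : Nat := @Bool.rec (fun _ => Nat) (Ptab_585) (Ptab_586) (Nat.ble 586 c)
noncomputable def Ptab_s_584_587 (c : Nat) : Nat := @Bool.rec (fun _ => Nat) (Ptab_584) (Ptab_s_585_587 c) (Nat.ble 585 c)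
noncomputable def Ptab_s_587_589 (c : Nat) : Nat := @Bool.rec (fun _ => Nat) (Ptab_587) (Ptab_588) (Nat.ble 588 c)
noncomputable def Ptab_s_589_591 (c : Nat) : Nat := @Bool.rec (fun _ => Nat) (Ptab_589) (Ptab_590) (Nat.ble 590 c)
noncomputable def Ptab_s_587_591 (c : Nat) : Nat := @Bool.rec (fun _ => Nat) (Ptab_s_587_589 c) (Ptab_s_589_591 c) (Nat.ble 589 c)
noncomputable def Ptab_s_584_591 (c : Nat) : Nat := @Bool.rec (fun _ => Nat) (Ptab_s_584_587 c) (Ptab_s_587_591 c) (Nat.ble 587 c)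
noncomputable def Ptab_s_592_594 (c : Nat) : Nat := @Bool.rec (fun _ => Nat) (Ptab_592) (Ptab_593) (Nat.ble 593 c)
noncomputable def Ptab_s_591_594 (c : Nat) : Nat := @Bool.rec (fun _ => Nat) (Ptab_591) (Ptab_s_592_594 c) (Nat.ble 592 c)
noncomputable def Ptab_s_594_596 (c : Nat) : Nat := @Bool.rec (fun _ => Nat) (Ptab_594) (Ptab_595) (Nat.ble 595 c)
noncomputable def Ptab_s_596_598 (c : Nat) : Nat := @Bool.rec (fun _ => Nat) (Ptab_596) (Ptab_597) (Nat.ble 597 c)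
noncomputable def Ptab_s_594_598 (c : Nat) : Nat := @Bool.rec (fun _ => Nat) (Ptab_s_594_596 c) (Ptab_s_596_598 c) (Nat.ble 596 c)
noncomputable def Ptab_s_591_598 (c : Nat) : Nat := @Bool.rec (fun _ => Nat) (Ptab_s_591_594 c) (Ptab_s_594_598 c) (Nat.ble 594 c)
noncomputable def Ptab_s_584_598 (c : Nat) : Nat := @Bool.rec (fun _ => Nat) (Ptab_s_584_591 c) (Ptab_s_591_598 c) (Nat.ble 591 c)
noncomputable def Ptab_s_571_598 (c : Nat) : Nat := @Bool.rec (fun _ => Nat) (Ptab_s_571_584 c) (Ptab_s_584_598 c) (Nat.ble 584 c)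
noncomputable def Ptab_s_544_598 (c : Nat) : Nat := @Bool.rec (fun _ => Nat) (Ptab_s_544_571 c) (Ptab_s_571_598 c) (Nat.ble 571 c)
noncomputable def Ptab_s_599_601 (c : Nat) : Nat := @Bool.rec (fun _ => Nat) (Ptab_599) (Ptab_600) (Nat.ble 600 c)
noncomputable def Ptab_s_598_601 (c : Nat) : Nat := @Bool.rec (fun _ => Nat) (Ptab_598) (Ptab_s_599_601 c) (Nat.ble 599 c)
noncomputable def Ptab_s_602_604 (c : Nat) : Nat := @Bool.rec (fun _ => Nat) (Ptab_602) (Ptab_603) (Nat.ble 603 c)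
noncomputable def Ptab_s_601_604 (c : Nat) : Nat := @Bool.rec (fun _ => Nat) (Ptab_601) (Ptab_s_602_604 c) (Nat.ble 602 c)
noncomputable def Ptab_s_598_604 (c : Nat) : Nat := @Bool.rec (fun _ => Nat) (Ptab_s_598_601 c) (Ptab_s_601_604 c) (Nat.ble 601 c)
noncomputable def Ptab_s_605_607 (c : Nat) : Nat := @Bool.rec (fun _ => Nat) (Ptab_605) (Ptab_606) (Nat.ble 606 c)
noncomputable def Ptab_s_604_607 (c : Nat) : Nat := @Bool.rec (fun _ => Nat) (Ptab_604) (Ptab_s_605_607 c) (Nat.ble 605 c)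
noncomputable def Ptab_s_607_609 (c : Nat) : Nat := @Bool.rec (fun _ => Nat) (Ptab_607) (Ptab_608) (Nat.ble 608 c)
noncomputable def Ptab_s_609_611 (c : Nat) : Nat := @Bool.rec (fun _ => Nat) (Ptab_609) (Ptab_610) (Nat.ble 610 c)
noncomputable def Ptab_s_607_611 (c : Nat) : Nat := @Bool.rec (fun _ => Nat) (Ptab_s_607_609 c) (Ptab_s_609_611 c) (Nat.ble 609 c)
noncomputable def Ptab_s_604_611 (c : Nat) : Nat := @Bool.rec (fun _ => Nat) (Ptab_s_604_607 c) (Ptab_s_607_611 c) (Nat.ble 607 c)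
noncomputable def Ptab_s_598_611 (c : Nat) : Nat := @Bool.rec (fun _ => Nat) (Ptab_s_598_604 c) (Ptab_s_604_611 c) (Nat.ble 604 c)
noncomputable def Ptab_s_612_614 (c : Nat) : Nat := @Bool.rec (fun _ => Nat) (Ptab_612) (Ptab_613) (Nat.ble 613 c)
noncomputable def Ptab_s_611_614 (c : Nat) : Nat := @Bool.rec (fun _ => Nat) (Ptab_611) (Ptab_s_612_614 c) (Nat.ble 612 c)
noncomputable def Ptab_s_614_616 (c : Nat) : Nat := @Bool.rec (fun _ => Nat) (Ptab_614) (Ptab_615) (Nat.ble 615 c)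
noncomputable def Ptab_s_616_618 (c : Nat) : Nat := @Bool.rec (fun _ => Nat) (Ptab_616) (Ptab_617) (Nat.ble 617 c)
noncomputable def Ptab_s_614_618 (c : Nat) : Nat := @Bool.rec (fun _ => Nat) (Ptab_s_614_616 c) (Ptab_s_616_618 c) (Nat.ble 616 c)
noncomputable def Ptab_s_611_618 (c : Nat) : Nat := @Bool.rec (fun _ => Nat) (Ptab_s_611_614 c) (Ptab_s_614_618 c) (Nat.ble 614 c)
noncomputable def Ptab_s_619_621 (c : Nat) : Nat := @Bool.rec (fun _ => Nat) (Ptab_619) (Ptab_620) (Nat.ble 620 c)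
noncomputable def Ptab_s_618_621 (c : Nat) : Nat := @Bool.rec (fun _ => Nat) (Ptab_618) (Ptab_s_619_621 c) (Nat.ble 619 c)
noncomputable def Ptab_s_621_623 (c : Nat) : Nat := @Bool.rec (fun _ => Nat) (Ptab_621) (Ptab_622) (Nat.ble 622 c)
noncomputable def Ptab_s_623_625 (c : Nat) : Nat := @Bool.rec (fun _ => Nat) (Ptab_623) (Ptab_624) (Nat.ble 624 c)
noncomputable def Ptab_s_621_625 (c : Nat) : Nat := @Bool.rec (fun _ => Nat) (Ptab_s_621_623 c) (Ptab_s_623_625 c) (Nat.ble 623 c)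
noncomputable def Ptab_s_618_625 (c : Nat) : Nat := @Bool.rec (fun _ => Nat) (Ptab_s_618_621 c) (Ptab_s_621_625 c) (Nat.ble 621 c)
noncomputable def Ptab_s_611_625 (c : Nat) : Nat := @Bool.rec (fun _ => Nat) (Ptab_s_611_618 c) (Ptab_s_618_625 c) (Nat.ble 618 c)
noncomputable def Ptab_s_598_625 (c : Nat) : Nat := @Bool.rec (fun _ => Nat) (Ptab_s_598_611 c) (Ptab_s_611_625 c) (Nat.ble 611 c)
noncomputable def Ptab_s_626_628 (c : Nat) : Nat := @Bool.rec (fun _ => Nat) (Ptab_626) (Ptab_627) (Nat.ble 627 c)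
noncomputable def Ptab_s_625_628 (c : Nat) : Nat := @Bool.rec (fun _ => Nat) (Ptab_625) (Ptab_s_626_628 c) (Nat.ble 626 c)
noncomputable def Ptab_s_628_630 (c : Nat) : Nat := @Bool.rec (fun _ => Nat) (Ptab_628) (Ptab_629) (Nat.ble 629 c)
noncomputable def Ptab_s_630_632 (c : Nat) : Nat := @Bool.rec (fun _ => Nat) (Ptab_630) (Ptab_631) (Nat.ble 631 c)
noncomputable def Ptab_s_628_632 (c : Nat) : Nat := @Bool.rec (fun _ => Nat) (Ptab_s_628_630 c) (Ptab_s_630_632 c) (Nat.ble 630 c)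
noncomputable def Ptab_s_625_632 (c : Nat) : Nat := @Bool.rec (fun _ => Nat) (Ptab_s_625_628 c) (Ptab_s_628_632 c) (Nat.ble 628 c)
noncomputable def Ptab_s_633_635 (c : Nat) : Nat := @Bool.rec (fun _ => Nat) (Ptab_633) (Ptab_634) (Nat.ble 634 c)
noncomputable def Ptab_s_632_635 (c : Nat) : Nat := @Bool.rec (fun _ => Nat) (Ptab_632) (Ptab_s_633_635 c) (Nat.ble 633 c)
noncomputable def Ptab_s_635_637 (c : Nat) : Nat := @Bool.rec (fun _ => Nat) (Ptab_635) (Ptab_636) (Nat.ble 636 c)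
noncomputable def Ptab_s_637_639 (c : Nat) : Nat := @Bool.rec (fun _ => Nat) (Ptab_637) (Ptab_638) (Nat.ble 638 c)
noncomputable def Ptab_s_635_639 (c : Nat) : Nat := @Bool.rec (fun _ => Nat) (Ptab_s_635_637 c) (Ptab_s_637_639 c) (Nat.ble 637 c)
noncomputable def Ptab_s_632_639 (c : Nat) : Nat := @Bool.rec (fun _ => Nat) (Ptab_s_632_635 c) (Ptab_s_635_639 c) (Nat.ble 635 c)
noncomputable def Ptab_s_625_639 (c : Nat) : Nat := @Bool.rec (fun _ => Nat) (Ptab_s_625_632 c) (Ptab_s_632_639 c) (Nat.ble 632 c)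
noncomputable def Ptab_s_640_642 (c : Nat) : Nat := @Bool.rec (fun _ => Nat) (Ptab_640) (Ptab_641) (Nat.ble 641 c)
noncomputable def Ptab_s_639_642 (c : Nat) : Nat := @Bool.rec (fun _ => Nat) (Ptab_639) (Ptab_s_640_642 c) (Nat.ble 640 c)
noncomputable def Ptab_s_642_644 (c : Nat) : Nat := @Bool.rec (fun _ => Nat) (Ptab_642) (Ptab_643) (Nat.ble 643 c)
noncomputable def Ptab_s_644_646 (c : Nat) : Nat := @Bool.rec (fun _ => Nat) (Ptab_644) (Ptab_645) (Nat.ble 645 c)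
noncomputable def Ptab_s_642_646 (c : Nat) : Nat := @Bool.rec (fun _ => Nat) (Ptab_s_642_644 c) (Ptab_s_644_646 c) (Nat.ble 644 c)
noncomputable def Ptab_s_639_646 (c : Nat) : Nat := @Bool.rec (fun _ => Nat) (Ptab_s_639_642 c) (Ptab_s_642_646 c) (Nat.ble 642 c)
noncomputable def Ptab_s_647_649 (c : Nat) : Nat := @Bool.rec (fun _ => Nat) (Ptab_647) (Ptab_648) (Nat.ble 648 c)
noncomputable def Ptab_s_646_649 (c : Nat) : Nat := @Bool.rec (fun _ => Nat) (Ptab_646) (Ptab_s_647_649 c) (Nat.ble 647 c)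
noncomputable def Ptab_s_649_651 (c : Nat) : Nat := @Bool.rec (fun _ => Nat) (Ptab_649) (Ptab_650) (Nat.ble 650 c)
noncomputable def Ptab_s_651_653 (c : Nat) : Nat := @Bool.rec (fun _ => Nat) (Ptab_651) (Ptab_652) (Nat.ble 652 c)
noncomputable def Ptab_s_649_653 (c : Nat) : Nat := @Bool.rec (fun _ => Nat) (Ptab_s_649_651 c) (Ptab_s_651_653 c) (Nat.ble 651 c)
noncomputable def Ptab_s_646_653 (c : Nat) : Nat := @Bool.rec (fun _ => Nat) (Ptab_s_646_649 c) (Ptab_s_649_653 c) (Nat.ble 649 c)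
noncomputable def Ptab_s_639_653 (c : Nat) : Nat := @Bool.rec (fun _ => Nat) (Ptab_s_639_646 c) (Ptab_s_646_653 c) (Nat.ble 646 c)
noncomputable def Ptab_s_625_653 (c : Nat) : Nat := @Bool.rec (fun _ => Nat) (Ptab_s_625_639 c) (Ptab_s_639_653 c) (Nat.ble 639 c)
noncomputable def Ptab_s_598_653 (c : Nat) : Nat := @Bool.rec (fun _ => Nat) (Ptab_s_598_625 c) (Ptab_s_625_653 c) (Nat.ble 625 c)
noncomputable def Ptab_s_544_653 (c : Nat) : Nat := @Bool.rec (fun _ => Nat) (Ptab_s_544_598 c) (Ptab_s_598_653 c) (Nat.ble 598 c)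
noncomputable def Ptab_s_435_653 (c : Nat) : Nat := @Bool.rec (fun _ => Nat) (Ptab_s_435_544 c) (Ptab_s_544_653 c) (Nat.ble 544 c)
noncomputable def Ptab_s_654_656 (c : Nat) : Nat := @Bool.rec (fun _ => Nat) (Ptab_654) (Ptab_655) (Nat.ble 655 c)
noncomputable def Ptab_s_653_656 (c : Nat) : Nat := @Bool.rec (fun _ => Nat) (Ptab_653) (Ptab_s_654_656 c) (Nat.ble 654 c)
noncomputable def Ptab_s_657_659 (c : Nat) : Nat := @Bool.rec (fun _ => Nat) (Ptab_657) (Ptab_658) (Nat.ble 658 c)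
noncomputable def Ptab_s_656_659 (c : Nat) : Nat := @Bool.rec (fun _ => Nat) (Ptab_656) (Ptab_s_657_659 c) (Nat.ble 657 c)
noncomputable def Ptab_s_653_659 (c : Nat) : Nat := @Bool.rec (fun _ => Nat) (Ptab_s_653_656 c) (Ptab_s_656_659 c) (Nat.ble 656 c)
noncomputable def Ptab_s_660_662 (c : Nat) : Nat := @Bool.rec (fun _ => Nat) (Ptab_660) (Ptab_661) (Nat.ble 661 c)
noncomputable def Ptab_s_659_662 (c : Nat) : Nat := @Bool.rec (fun _ => Nat) (Ptab_659) (Ptab_s_660_662 c) (Nat.ble 660 c)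
noncomputable def Ptab_s_662_664 (c : Nat) : Nat := @Bool.rec (fun _ => Nat) (Ptab_662) (Ptab_663) (Nat.ble 663 c)
noncomputable def Ptab_s_664_666 (c : Nat) : Nat := @Bool.rec (fun _ => Nat) (Ptab_664) (Ptab_665) (Nat.ble 665 c)
noncomputable def Ptab_s_662_666 (c : Nat) : Nat := @Bool.rec (fun _ => Nat) (Ptab_s_662_664 c) (Ptab_s_664_666 c) (Nat.ble 664 c)
noncomputable def Ptab_s_659_666 (c : Nat) : Nat := @Bool.rec (fun _ => Nat) (Ptab_s_659_662 c) (Ptab_s_662_666 c) (Nat.ble 662 c)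
noncomputable def Ptab_s_653_666 (c : Nat) : Nat := @Bool.rec (fun _ => Nat) (Ptab_s_653_659 c) (Ptab_s_659_666 c) (Nat.ble 659 c)
noncomputable def Ptab_s_667_669 (c : Nat) : Nat := @Bool.rec (fun _ => Nat) (Ptab_667) (Ptab_668) (Nat.ble 668 c)
noncomputable def Ptab_s_666_669 (c : Nat) : Nat := @Bool.rec (fun _ => Nat) (Ptab_666) (Ptab_s_667_669 c) (Nat.ble 667 c)
noncomputable def Ptab_s_669_671 (c : Nat) : Nat := @Bool.rec (fun _ => Nat) (Ptab_669) (Ptab_670) (Nat.ble 670 c)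
noncomputable def Ptab_s_671_673 (c : Nat) : Nat := @Bool.rec (fun _ => Nat) (Ptab_671) (Ptab_672) (Nat.ble 672 c)
noncomputable def Ptab_s_669_673 (c : Nat) : Nat := @Bool.rec (fun _ => Nat) (Ptab_s_669_671 c) (Ptab_s_671_673 c) (Nat.ble 671 c)
noncomputable def Ptab_s_666_673 (c : Nat) : Nat := @Bool.rec (fun _ => Nat) (Ptab_s_666_669 c) (Ptab_s_669_673 c) (Nat.ble 669 c)
noncomputable def Ptab_s_674_676 (c : Nat) : Nat := @Bool.rec (fun _ => Nat) (Ptab_674) (Ptab_675) (Nat.ble 675 c)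
noncomputable def Ptab_s_673_676 (c : Nat) : Nat := @Bool.rec (fun _ => Nat) (Ptab_673) (Ptab_s_674_676 c) (Nat.ble 674 c)
noncomputable def Ptab_s_676_678 (c : Nat) : Nat := @Bool.rec (fun _ => Nat) (Ptab_676) (Ptab_677) (Nat.ble 677 c)
noncomputable def Ptab_s_678_680 (c : Nat) : Nat := @Bool.rec (fun _ => Nat) (Ptab_678) (Ptab_679) (Nat.ble 679 c)
noncomputable def Ptab_s_676_680 (c : Nat) : Nat := @Bool.rec (fun _ => Nat) (Ptab_s_676_678 c) (Ptab_s_678_680 c) (Nat.ble 678 c)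
noncomputable def Ptab_s_673_680 (c : Nat) : Nat := @Bool.rec (fun _ => Nat) (Ptab_s_673_676 c) (Ptab_s_676_680 c) (Nat.ble 676 c)
noncomputable def Ptab_s_666_680 (c : Nat) : Nat := @Bool.rec (fun _ => Nat) (Ptab_s_666_673 c) (Ptab_s_673_680 c) (Nat.ble 673 c)
noncomputable def Ptab_s_653_680 (c : Nat) : Nat := @Bool.rec (fun _ => Nat) (Ptab_s_653_666 c) (Ptab_s_666_680 c) (Nat.ble 666 c)
noncomputable def Ptab_s_681_683 (c : Nat) : Nat := @Bool.rec (fun _ => Nat) (Ptab_681) (Ptab_682) (Nat.ble 682 c)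
noncomputable def Ptab_s_680_683 (c : Nat) : Nat := @Bool.rec (fun _ => Nat) (Ptab_680) (Ptab_s_681_683 c) (Nat.ble 681 c)
noncomputable def Ptab_s_684_686 (c : Nat) : Nat := @Bool.rec (fun _ => Nat) (Ptab_684) (Ptab_685) (Nat.ble 685 c)
noncomputable def Ptab_s_683_686 (c : Nat) : Nat := @Bool.rec (fun _ => Nat) (Ptab_683) (Ptab_s_684_686 c) (Nat.ble 684 c)
noncomputable def Ptab_s_680_686 (c : Nat) : Nat := @Bool.rec (fun _ => Nat) (Ptab_s_680_683 c) (Ptab_s_683_686 c) (Nat.ble 683 c)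
noncomputable def Ptab_s_687_689 (c : Nat) : Nat := @Bool.rec (fun _ => Nat) (Ptab_687) (Ptab_688) (Nat.ble 688 c)
noncomputable def Ptab_s_686_689 (c : Nat) : Nat := @Bool.rec (fun _ => Nat) (Ptab_686) (Ptab_s_687_689 c) (Nat.ble 687 c)
noncomputable def Ptab_s_689_691 (c : Nat) : Nat := @Bool.rec (fun _ => Nat) (Ptab_689) (Ptab_690) (Nat.ble 690 c)
noncomputable def Ptab_s_691_693 (c : Nat) : Nat := @Bool.rec (fun _ => Nat) (Ptab_691) (Ptab_692) (Nat.ble 692 c)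
noncomputable def Ptab_s_689_693 (c : Nat) : Nat := @Bool.rec (fun _ => Nat) (Ptab_s_689_691 c) (Ptab_s_691_693 c) (Nat.ble 691 c)
noncomputable def Ptab_s_686_693 (c : Nat) : Nat := @Bool.rec (fun _ => Nat) (Ptab_s_686_689 c) (Ptab_s_689_693 c) (Nat.ble 689 c)
noncomputable def Ptab_s_680_693 (c : Nat) : Nat := @Bool.rec (fun _ => Nat) (Ptab_s_680_686 c) (Ptab_s_686_693 c) (Nat.ble 686 c)
noncomputable def Ptab_s_694_696 (c : Nat) : Nat := @Bool.rec (fun _ => Nat) (Ptab_694) (Ptab_695) (Nat.ble 695 c)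
noncomputable def Ptab_s_693_696 (c : Nat) : Nat := @Bool.rec (fun _ => Nat) (Ptab_693) (Ptab_s_694_696 c) (Nat.ble 694 c)
noncomputable def Ptab_s_696_698 (c : Nat) : Nat := @Bool.rec (fun _ => Nat) (Ptab_696) (Ptab_697) (Nat.ble 697 c)
noncomputable def Ptab_s_698_700 (c : Nat) : Nat := @Bool.rec (fun _ => Nat) (Ptab_698) (Ptab_699) (Nat.ble 699 c)
noncomputable def Ptab_s_696_700 (c : Nat) : Nat := @Bool.rec (fun _ => Nat) (Ptab_s_696_698 c) (Ptab_s_698_700 c) (Nat.ble 698 c)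
noncomputable def Ptab_s_693_700 (c : Nat) : Nat := @Bool.rec (fun _ => Nat) (Ptab_s_693_696 c) (Ptab_s_696_700 c) (Nat.ble 696 c)
noncomputable def Ptab_s_701_703 (c : Nat) : Nat := @Bool.rec (fun _ => Nat) (Ptab_701) (Ptab_702) (Nat.ble 702 c)
noncomputable def Ptab_s_700_703 (c : Nat) : Nat := @Bool.rec (fun _ => Nat) (Ptab_700) (Ptab_s_701_703 c) (Nat.ble 701 c)
noncomputable def Ptab_s_703_705 (c : Nat) : Nat := @Bool.rec (fun _ => Nat) (Ptab_703) (Ptab_704) (Nat.ble 704 c)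
noncomputable def Ptab_s_705_707 (c : Nat) : Nat := @Bool.rec (fun _ => Nat) (Ptab_705) (Ptab_706) (Nat.ble 706 c)
noncomputable def Ptab_s_703_707 (c : Nat) : Nat := @Bool.rec (fun _ => Nat) (Ptab_s_703_705 c) (Ptab_s_705_707 c) (Nat.ble 705 c)
noncomputable def Ptab_s_700_707 (c : Nat) : Nat := @Bool.rec (fun _ => Nat) (Ptab_s_700_703 c) (Ptab_s_703_707 c) (Nat.ble 703 c)
noncomputable def Ptab_s_693_707 (c : Nat) : Nat := @Bool.rec (fun _ => Nat) (Ptab_s_693_700 c) (Ptab_s_700_707 c) (Nat.ble 700 c)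
noncomputable def Ptab_s_680_707 (c : Nat) : Nat := @Bool.rec (fun _ => Nat) (Ptab_s_680_693 c) (Ptab_s_693_707 c) (Nat.ble 693 c)
noncomputable def Ptab_s_653_707 (c : Nat) : Nat := @Bool.rec (fun _ => Nat) (Ptab_s_653_680 c) (Ptab_s_680_707 c) (Nat.ble 680 c)
noncomputable def Ptab_s_708_710 (c : Nat) : Nat := @Bool.rec (fun _ => Nat) (Ptab_708) (Ptab_709) (Nat.ble 709 c)
noncomputable def Ptab_s_707_710 (c : Nat) : Nat := @Bool.rec (fun _ => Nat) (Ptab_707) (Ptab_s_708_710 c) (Nat.ble 708 c)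
noncomputable def Ptab_s_711_713 (c : Nat) : Nat := @Bool.rec (fun _ => Nat) (Ptab_711) (Ptab_712) (Nat.ble 712 c)
noncomputable def Ptab_s_710_713 (c : Nat) : Nat := @Bool.rec (fun _ => Nat) (Ptab_710) (Ptab_s_711_713 c) (Nat.ble 711 c)
noncomputable def Ptab_s_707_713 (c : Nat) : Nat := @Bool.rec (fun _ => Nat) (Ptab_s_707_710 c) (Ptab_s_710_713 c) (Nat.ble 710 c)
noncomputable def Ptab_s_714_716 (c : Nat) : Nat := @Bool.rec (fun _ => Nat) (Ptab_714) (Ptab_715) (Nat.ble 715 c)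
noncomputable def Ptab_s_713_716 (c : Nat) : Nat := @Bool.rec (fun _ => Nat) (Ptab_713) (Ptab_s_714_716 c) (Nat.ble 714 c)
noncomputable def Ptab_s_716_718 (c : Nat) : Nat := @Bool.rec (fun _ => Nat) (Ptab_716) (Ptab_717) (Nat.ble 717 c)
noncomputable def Ptab_s_718_720 (c : Nat) : Nat := @Bool.rec (fun _ => Nat) (Ptab_718) (Ptab_719) (Nat.ble 719 c)
noncomputable def Ptab_s_716_720 (c : Nat) : Nat := @Bool.rec (fun _ => Nat) (Ptab_s_716_718 c) (Ptab_s_718_720 c) (Nat.ble 718 c)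
noncomputable def Ptab_s_713_720 (c : Nat) : Nat := @Bool.rec (fun _ => Nat) (Ptab_s_713_716 c) (Ptab_s_716_720 c) (Nat.ble 716 c)
noncomputable def Ptab_s_707_720 (c : Nat) : Nat := @Bool.rec (fun _ => Nat) (Ptab_s_707_713 c) (Ptab_s_713_720 c) (Nat.ble 713 c)
noncomputable def Ptab_s_721_723 (c : Nat) : Nat := @Bool.rec (fun _ => Nat) (Ptab_721) (Ptab_722) (Nat.ble 722 c)
noncomputable def Ptab_s_720_723 (c : Nat) : Nat := @Bool.rec (fun _ => Nat) (Ptab_720) (Ptab_s_721_723 c) (Nat.ble 721 c)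
noncomputable def Ptab_s_723_725 (c : Nat) : Nat := @Bool.rec (fun _ => Nat) (Ptab_723) (Ptab_724) (Nat.ble 724 c)
noncomputable def Ptab_s_725_727 (c : Nat) : Nat := @Bool.rec (fun _ => Nat) (Ptab_725) (Ptab_726) (Nat.ble 726 c)
noncomputable def Ptab_s_723_727 (c : Nat) : Nat := @Bool.rec (fun _ => Nat) (Ptab_s_723_725 c) (Ptab_s_725_727 c) (Nat.ble 725 c)
noncomputable def Ptab_s_720_727 (c : Nat) : Nat := @Bool.rec (fun _ => Nat) (Ptab_s_720_723 c) (Ptab_s_723_727 c) (Nat.ble 723 c)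
noncomputable def Ptab_s_728_730 (c : Nat) : Nat := @Bool.rec (fun _ => Nat) (Ptab_728) (Ptab_729) (Nat.ble 729 c)
noncomputable def Ptab_s_727_730 (c : Nat) : Nat := @Bool.rec (fun _ => Nat) (Ptab_727) (Ptab_s_728_730 c) (Nat.ble 728 c)
noncomputable def Ptab_s_730_732 (c : Nat) : Nat := @Bool.rec (fun _ => Nat) (Ptab_730) (Ptab_731) (Nat.ble 731 c)
noncomputable def Ptab_s_732_734 (c : Nat) : Nat := @Bool.rec (fun _ => Nat) (Ptab_732) (Ptab_733) (Nat.ble 733 c)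
noncomputable def Ptab_s_730_734 (c : Nat) : Nat := @Bool.rec (fun _ => Nat) (Ptab_s_730_732 c) (Ptab_s_732_734 c) (Nat.ble 732 c)
noncomputable def Ptab_s_727_734 (c : Nat) : Nat := @Bool.rec (fun _ => Nat) (Ptab_s_727_730 c) (Ptab_s_730_734 c) (Nat.ble 730 c)
noncomputable def Ptab_s_720_734 (c : Nat) : Nat := @Bool.rec (fun _ => Nat) (Ptab_s_720_727 c) (Ptab_s_727_734 c) (Nat.ble 727 c)
noncomputable def Ptab_s_707_734 (c : Nat) : Nat := @Bool.rec (fun _ => Nat) (Ptab_s_707_720 c) (Ptab_s_720_734 c) (Nat.ble 720 c)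
noncomputable def Ptab_s_735_737 (c : Nat) : Nat := @Bool.rec (fun _ => Nat) (Ptab_735) (Ptab_736) (Nat.ble 736 c)
noncomputable def Ptab_s_734_737 (c : Nat) : Nat := @Bool.rec (fun _ => Nat) (Ptab_734) (Ptab_s_735_737 c) (Nat.ble 735 c)
noncomputable def Ptab_s_737_739 (c : Nat) : Nat := @Bool.rec (fun _ => Nat) (Ptab_737) (Ptab_738) (Nat.ble 738 c)
noncomputable def Ptab_s_739_741 (c : Nat) : Nat := @Bool.rec (fun _ => Nat) (Ptab_739) (Ptab_740) (Nat.ble 740 c)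
noncomputable def Ptab_s_737_741 (c : Nat) : Nat := @Bool.rec (fun _ => Nat) (Ptab_s_737_739 c) (Ptab_s_739_741 c) (Nat.ble 739 c)
noncomputable def Ptab_s_734_741 (c : Nat) : Nat := @Bool.rec (fun _ => Nat) (Ptab_s_734_737 c) (Ptab_s_737_741 c) (Nat.ble 737 c)
noncomputable def Ptab_s_742_744 (c : Nat) : Nat := @Bool.rec (fun _ => Nat) (Ptab_742) (Ptab_743) (Nat.ble 743 c)
noncomputable def Ptab_s_741_744 (c : Nat) : Nat := @Bool.rec (fun _ => Nat) (Ptab_741) (Ptab_s_742_744 c) (Nat.ble 742 c)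
noncomputable def Ptab_s_744_746 (c : Nat) : Nat := @Bool.rec (fun _ => Nat) (Ptab_744) (Ptab_745) (Nat.ble 745 c)
noncomputable def Ptab_s_746_748 (c : Nat) : Nat := @Bool.rec (fun _ => Nat) (Ptab_746) (Ptab_747) (Nat.ble 747 c)
noncomputable def Ptab_s_744_748 (c : Nat) : Nat := @Bool.rec (fun _ => Nat) (Ptab_s_744_746 c) (Ptab_s_746_748 c) (Nat.ble 746 c)
noncomputable def Ptab_s_741_748 (c : Nat) : Nat := @Bool.rec (fun _ => Nat) (Ptab_s_741_744 c) (Ptab_s_744_748 c) (Nat.ble 744 c)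
noncomputable def Ptab_s_734_748 (c : Nat) : Nat := @Bool.rec (fun _ => Nat) (Ptab_s_734_741 c) (Ptab_s_741_748 c) (Nat.ble 741 c)
noncomputable def Ptab_s_749_751 (c : Nat) : Nat := @Bool.rec (fun _ => Nat) (Ptab_749) (Ptab_750) (Nat.ble 750 c)
noncomputable def Ptab_s_748_751 (c : Nat) : Nat := @Bool.rec (fun _ => Nat) (Ptab_748) (Ptab_s_749_751 c) (Nat.ble 749 c)
noncomputable def Ptab_s_751_753 (c : Nat) : Nat := @Bool.rec (fun _ => Nat) (Ptab_751) (Ptab_752) (Nat.ble 752 c)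
noncomputable def Ptab_s_753_755 (c : Nat) : Nat := @Bool.rec (fun _ => Nat) (Ptab_753) (Ptab_754) (Nat.ble 754 c)
noncomputable def Ptab_s_751_755 (c : Nat) : Nat := @Bool.rec (fun _ => Nat) (Ptab_s_751_753 c) (Ptab_s_753_755 c) (Nat.ble 753 c)
noncomputable def Ptab_s_748_755 (c : Nat) : Nat := @Bool.rec (fun _ => Nat) (Ptab_s_748_751 c) (Ptab_s_751_755 c) (Nat.ble 751 c)
noncomputable def Ptab_s_756_758 (c : Nat) : Nat := @Bool.rec (fun _ => Nat) (Ptab_756) (Ptab_757) (Nat.ble 757 c)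
noncomputable def Ptab_s_755_758 (c : Nat) : Nat := @Bool.rec (fun _ => Nat) (Ptab_755) (Ptab_s_756_758 c) (Nat.ble 756 c)
noncomputable def Ptab_s_758_760 (c : Nat) : Nat := @Bool.rec (fun _ => Nat) (Ptab_758) (Ptab_759) (Nat.ble 759 c)
noncomputable def Ptab_s_760_762 (c : Nat) : Nat := @Bool.rec (fun _ => Nat) (Ptab_760) (Ptab_761) (Nat.ble 761 c)
noncomputable def Ptab_s_758_762 (c : Nat) : Nat := @Bool.rec (fun _ => Nat) (Ptab_s_758_760 c) (Ptab_s_760_762 c) (Nat.ble 760 c)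
noncomputable def Ptab_s_755_762 (c : Nat) : Nat := @Bool.rec (fun _ => Nat) (Ptab_s_755_758 c) (Ptab_s_758_762 c) (Nat.ble 758 c)
noncomputable def Ptab_s_748_762 (c : Nat) : Nat := @Bool.rec (fun _ => Nat) (Ptab_s_748_755 c) (Ptab_s_755_762 c) (Nat.ble 755 c)
noncomputable def Ptab_s_734_762 (c : Nat) : Nat := @Bool.rec (fun _ => Nat) (Ptab_s_734_748 c) (Ptab_s_748_762 c) (Nat.ble 748 c)
noncomputable def Ptab_s_707_762 (c : Nat) : Nat := @Bool.rec (fun _ => Nat) (Ptab_s_707_734 c) (Ptab_s_734_762 c) (Nat.ble 734 c)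
noncomputable def Ptab_s_653_762 (c : Nat) : Nat := @Bool.rec (fun _ => Nat) (Ptab_s_653_707 c) (Ptab_s_707_762 c) (Nat.ble 707 c)
noncomputable def Ptab_s_763_765 (c : Nat) : Nat := @Bool.rec (fun _ => Nat) (Ptab_763) (Ptab_764) (Nat.ble 764 c)
noncomputable def Ptab_s_762_765 (c : Nat) : Nat := @Bool.rec (fun _ => Nat) (Ptab_762) (Ptab_s_763_765 c) (Nat.ble 763 c)
noncomputable def Ptab_s_766_768 (c : Nat) : Nat := @Bool.rec (fun _ => Nat) (Ptab_766) (Ptab_767) (Nat.ble 767 c)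
noncomputable def Ptab_s_765_768 (c : Nat) : Nat := @Bool.rec (fun _ => Nat) (Ptab_765) (Ptab_s_766_768 c) (Nat.ble 766 c)
noncomputable def Ptab_s_762_768 (c : Nat) : Nat := @Bool.rec (fun _ => Nat) (Ptab_s_762_765 c) (Ptab_s_765_768 c) (Nat.ble 765 c)
noncomputable def Ptab_s_769_771 (c : Nat) : Nat := @Bool.rec (fun _ => Nat) (Ptab_769) (Ptab_770) (Nat.ble 770 c)
noncomputable def Ptab_s_768_771 (c : Nat) : Nat := @Bool.rec (fun _ => Nat) (Ptab_768) (Ptab_s_769_771 c) (Nat.ble 769 c)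
noncomputable def Ptab_s_771_773 (c : Nat) : Nat := @Bool.rec (fun _ => Nat) (Ptab_771) (Ptab_772) (Nat.ble 772 c)
noncomputable def Ptab_s_773_775 (c : Nat) : Nat := @Bool.rec (fun _ => Nat) (Ptab_773) (Ptab_774) (Nat.ble 774 c)
noncomputable def Ptab_s_771_775 (c : Nat) : Nat := @Bool.rec (fun _ => Nat) (Ptab_s_771_773 c) (Ptab_s_773_775 c) (Nat.ble 773 c)
noncomputable def Ptab_s_768_775 (c : Nat) : Nat := @Bool.rec (fun _ => Nat) (Ptab_s_768_771 c) (Ptab_s_771_775 c) (Nat.ble 771 c)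
noncomputable def Ptab_s_762_775 (c : Nat) : Nat := @Bool.rec (fun _ => Nat) (Ptab_s_762_768 c) (Ptab_s_768_775 c) (Nat.ble 768 c)
noncomputable def Ptab_s_776_778 (c : Nat) : Nat := @Bool.rec (fun _ => Nat) (Ptab_776) (Ptab_777) (Nat.ble 777 c)
noncomputable def Ptab_s_775_778 (c : Nat) : Nat := @Bool.rec (fun _ => Nat) (Ptab_775) (Ptab_s_776_778 c) (Nat.ble 776 c)
noncomputable def Ptab_s_778_780 (c : Nat) : Nat := @Bool.rec (fun _ => Nat) (Ptab_778) (Ptab_779) (Nat.ble 779 c)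
noncomputable def Ptab_s_780_782 (c : Nat) : Nat := @Bool.rec (fun _ => Nat) (Ptab_780) (Ptab_781) (Nat.ble 781 c)
noncomputable def Ptab_s_778_782 (c : Nat) : Nat := @Bool.rec (fun _ => Nat) (Ptab_s_778_780 c) (Ptab_s_780_782 c) (Nat.ble 780 c)
noncomputable def Ptab_s_775_782 (c : Nat) : Nat := @Bool.rec (fun _ => Nat) (Ptab_s_775_778 c) (Ptab_s_778_782 c) (Nat.ble 778 c)
noncomputable def Ptab_s_783_785 (c : Nat) : Nat := @Bool.rec (fun _ => Nat) (Ptab_783) (Ptab_784) (Nat.ble 784 c)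
noncomputable def Ptab_s_782_785 (c : Nat) : Nat := @Bool.rec (fun _ => Nat) (Ptab_782) (Ptab_s_783_785 c) (Nat.ble 783 c)
noncomputable def Ptab_s_785_787 (c : Nat) : Nat := @Bool.rec (fun _ => Nat) (Ptab_785) (Ptab_786) (Nat.ble 786 c)
noncomputable def Ptab_s_787_789 (c : Nat) : Nat := @Bool.rec (fun _ => Nat) (Ptab_787) (Ptab_788) (Nat.ble 788 c)
noncomputable def Ptab_s_785_789 (c : Nat) : Nat := @Bool.rec (fun _ => Nat) (Ptab_s_785_787 c) (Ptab_s_787_789 c) (Nat.ble 787 c)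
noncomputable def Ptab_s_782_789 (c : Nat) : Nat := @Bool.rec (fun _ => Nat) (Ptab_s_782_785 c) (Ptab_s_785_789 c) (Nat.ble 785 c)
noncomputable def Ptab_s_775_789 (c : Nat) : Nat := @Bool.rec (fun _ => Nat) (Ptab_s_775_782 c) (Ptab_s_782_789 c) (Nat.ble 782 c)
noncomputable def Ptab_s_762_789 (c : Nat) : Nat := @Bool.rec (fun _ => Nat) (Ptab_s_762_775 c) (Ptab_s_775_789 c) (Nat.ble 775 c)
noncomputable def Ptab_s_790_792 (c : Nat) : Nat := @Bool.rec (fun _ => Nat) (Ptab_790) (Ptab_791) (Nat.ble 791 c)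
noncomputable def Ptab_s_789_792 (c : Nat) : Nat := @Bool.rec (fun _ => Nat) (Ptab_789) (Ptab_s_790_792 c) (Nat.ble 790 c)
noncomputable def Ptab_s_793_795 (c : Nat) : Nat := @Bool.rec (fun _ => Nat) (Ptab_793) (Ptab_794) (Nat.ble 794 c)
noncomputable def Ptab_s_792_795 (c : Nat) : Nat := @Bool.rec (fun _ => Nat) (Ptab_792) (Ptab_s_793_795 c) (Nat.ble 793 c)
noncomputable def Ptab_s_789_795 (c : Nat) : Nat := @Bool.rec (fun _ => Nat) (Ptab_s_789_792 c) (Ptab_s_792_795 c) (Nat.ble 792 c)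
noncomputable def Ptab_s_796_798 (c : Nat) : Nat := @Bool.rec (fun _ => Nat) (Ptab_796) (Ptab_797) (Nat.ble 797 c)
noncomputable def Ptab_s_795_798 (c : Nat) : Nat := @Bool.rec (fun _ => Nat) (Ptab_795) (Ptab_s_796_798 c) (Nat.ble 796 c)
noncomputable def Ptab_s_798_800 (c : Nat) : Nat := @Bool.rec (fun _ => Nat) (Ptab_798) (Ptab_799) (Nat.ble 799 c)
noncomputable def Ptab_s_800_802 (c : Nat) : Nat := @Bool.rec (fun _ => Nat) (Ptab_800) (Ptab_801) (Nat.ble 801 c)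
noncomputable def Ptab_s_798_802 (c : Nat) : Nat := @Bool.rec (fun _ => Nat) (Ptab_s_798_800 c) (Ptab_s_800_802 c) (Nat.ble 800 c)
noncomputable def Ptab_s_795_802 (c : Nat) : Nat := @Bool.rec (fun _ => Nat) (Ptab_s_795_798 c) (Ptab_s_798_802 c) (Nat.ble 798 c)
noncomputable def Ptab_s_789_802 (c : Nat) : Nat := @Bool.rec (fun _ => Nat) (Ptab_s_789_795 c) (Ptab_s_795_802 c) (Nat.ble 795 c)
noncomputable def Ptab_s_803_805 (c : Nat) : Nat := @Bool.rec (fun _ => Nat) (Ptab_803) (Ptab_804) (Nat.ble 804 c)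
noncomputable def Ptab_s_802_805 (c : Nat) : Nat := @Bool.rec (fun _ => Nat) (Ptab_802) (Ptab_s_803_805 c) (Nat.ble 803 c)
noncomputable def Ptab_s_805_807 (c : Nat) : Nat := @Bool.rec (fun _ => Nat) (Ptab_805) (Ptab_806) (Nat.ble 806 c)
noncomputable def Ptab_s_807_809 (c : Nat) : Nat := @Bool.rec (fun _ => Nat) (Ptab_807) (Ptab_808) (Nat.ble 808 c)
noncomputable def Ptab_s_805_809 (c : Nat) : Nat := @Bool.rec (fun _ => Nat) (Ptab_s_805_807 c) (Ptab_s_807_809 c) (Nat.ble 807 c)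
noncomputable def Ptab_s_802_809 (c : Nat) : Nat := @Bool.rec (fun _ => Nat) (Ptab_s_802_805 c) (Ptab_s_805_809 c) (Nat.ble 805 c)
noncomputable def Ptab_s_810_812 (c : Nat) : Nat := @Bool.rec (fun _ => Nat) (Ptab_810) (Ptab_811) (Nat.ble 811 c)
noncomputable def Ptab_s_809_812 (c : Nat) : Nat := @Bool.rec (fun _ => Nat) (Ptab_809) (Ptab_s_810_812 c) (Nat.ble 810 c)
noncomputable def Ptab_s_812_814 (c : Nat) : Nat := @Bool.rec (fun _ => Nat) (Ptab_812) (Ptab_813) (Nat.ble 813 c)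
noncomputable def Ptab_s_814_816 (c : Nat) : Nat := @Bool.rec (fun _ => Nat) (Ptab_814) (Ptab_815) (Nat.ble 815 c)
noncomputable def Ptab_s_812_816 (c : Nat) : Nat := @Bool.rec (fun _ => Nat) (Ptab_s_812_814 c) (Ptab_s_814_816 c) (Nat.ble 814 c)
noncomputable def Ptab_s_809_816 (c : Nat) : Nat := @Bool.rec (fun _ => Nat) (Ptab_s_809_812 c) (Ptab_s_812_816 c) (Nat.ble 812 c)
noncomputable def Ptab_s_802_816 (c : Nat) : Nat := @Bool.rec (fun _ => Nat) (Ptab_s_802_809 c) (Ptab_s_809_816 c) (Nat.ble 809 c)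
noncomputable def Ptab_s_789_816 (c : Nat) : Nat := @Bool.rec (fun _ => Nat) (Ptab_s_789_802 c) (Ptab_s_802_816 c) (Nat.ble 802 c)
noncomputable def Ptab_s_762_816 (c : Nat) : Nat := @Bool.rec (fun _ => Nat) (Ptab_s_762_789 c) (Ptab_s_789_816 c) (Nat.ble 789 c)
noncomputable def Ptab_s_817_819 (c : Nat) : Nat := @Bool.rec (fun _ => Nat) (Ptab_817) (Ptab_818) (Nat.ble 818 c)
noncomputable def Ptab_s_816_819 (c : Nat) : Nat := @Bool.rec (fun _ => Nat) (Ptab_816) (Ptab_s_817_819 c) (Nat.ble 817 c)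
noncomputable def Ptab_s_820_822 (c : Nat) : Nat := @Bool.rec (fun _ => Nat) (Ptab_820) (Ptab_821) (Nat.ble 821 c)
noncomputable def Ptab_s_819_822 (c : Nat) : Nat := @Bool.rec (fun _ => Nat) (Ptab_819) (Ptab_s_820_822 c) (Nat.ble 820 c)
noncomputable def Ptab_s_816_822 (c : Nat) : Nat := @Bool.rec (fun _ => Nat) (Ptab_s_816_819 c) (Ptab_s_819_822 c) (Nat.ble 819 c)
noncomputable def Ptab_s_823_825 (c : Nat) : Nat := @Bool.rec (fun _ => Nat) (Ptab_823) (Ptab_824) (Nat.ble 824 c)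
noncomputable def Ptab_s_822_825 (c : Nat) : Nat := @Bool.rec (fun _ => Nat) (Ptab_822) (Ptab_s_823_825 c) (Nat.ble 823 c)
noncomputable def Ptab_s_825_827 (c : Nat) : Nat := @Bool.rec (fun _ => Nat) (Ptab_825) (Ptab_826) (Nat.ble 826 c)
noncomputable def Ptab_s_827_829 (c : Nat) : Nat := @Bool.rec (fun _ => Nat) (Ptab_827) (Ptab_828) (Nat.ble 828 c)
noncomputable def Ptab_s_825_829 (c : Nat) : Nat := @Bool.rec (fun _ => Nat) (Ptab_s_825_827 c) (Ptab_s_827_829 c) (Nat.ble 827 c)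
noncomputable def Ptab_s_822_829 (c : Nat) : Nat := @Bool.rec (fun _ => Nat) (Ptab_s_822_825 c) (Ptab_s_825_829 c) (Nat.ble 825 c)
noncomputable def Ptab_s_816_829 (c : Nat) : Nat := @Bool.rec (fun _ => Nat) (Ptab_s_816_822 c) (Ptab_s_822_829 c) (Nat.ble 822 c)
noncomputable def Ptab_s_830_832 (c : Nat) : Nat := @Bool.rec (fun _ => Nat) (Ptab_830) (Ptab_831) (Nat.ble 831 c)
noncomputable def Ptab_s_829_832 (c : Nat) : Nat := @Bool.rec (fun _ => Nat) (Ptab_829) (Ptab_s_830_832 c) (Nat.ble 830 c)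
noncomputable def Ptab_s_832_834 (c : Nat) : Nat := @Bool.rec (fun _ => Nat) (Ptab_832) (Ptab_833) (Nat.ble 833 c)
noncomputable def Ptab_s_834_836 (c : Nat) : Nat := @Bool.rec (fun _ => Nat) (Ptab_834) (Ptab_835) (Nat.ble 835 c)
noncomputable def Ptab_s_832_836 (c : Nat) : Nat := @Bool.rec (fun _ => Nat) (Ptab_s_832_834 c) (Ptab_s_834_836 c) (Nat.ble 834 c)
noncomputable def Ptab_s_829_836 (c : Nat) : Nat := @Bool.rec (fun _ => Nat) (Ptab_s_829_832 c) (Ptab_s_832_836 c) (Nat.ble 832 c)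
noncomputable def Ptab_s_837_839 (c : Nat) : Nat := @Bool.rec (fun _ => Nat) (Ptab_837) (Ptab_838) (Nat.ble 838 c)
noncomputable def Ptab_s_836_839 (c : Nat) : Nat := @Bool.rec (fun _ => Nat) (Ptab_836) (Ptab_s_837_839 c) (Nat.ble 837 c)
noncomputable def Ptab_s_839_841 (c : Nat) : Nat := @Bool.rec (fun _ => Nat) (Ptab_839) (Ptab_840) (Nat.ble 840 c)
noncomputable def Ptab_s_841_843 (c : Nat) : Nat := @Bool.rec (fun _ => Nat) (Ptab_841) (Ptab_842) (Nat.ble 842 c)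
noncomputable def Ptab_s_839_843 (c : Nat) : Nat := @Bool.rec (fun _ => Nat) (Ptab_s_839_841 c) (Ptab_s_841_843 c) (Nat.ble 841 c)
noncomputable def Ptab_s_836_843 (c : Nat) : Nat := @Bool.rec (fun _ => Nat) (Ptab_s_836_839 c) (Ptab_s_839_843 c) (Nat.ble 839 c)
noncomputable def Ptab_s_829_843 (c : Nat) : Nat := @Bool.rec (fun _ => Nat) (Ptab_s_829_836 c) (Ptab_s_836_843 c) (Nat.ble 836 c)
noncomputable def Ptab_s_816_843 (c : Nat) : Nat := @Bool.rec (fun _ => Nat) (Ptab_s_816_829 c) (Ptab_s_829_843 c) (Nat.ble 829 c)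
noncomputable def Ptab_s_844_846 (c : Nat) : Nat := @Bool.rec (fun _ => Nat) (Ptab_844) (Ptab_845) (Nat.ble 845 c)
noncomputable def Ptab_s_843_846 (c : Nat) : Nat := @Bool.rec (fun _ => Nat) (Ptab_843) (Ptab_s_844_846 c) (Nat.ble 844 c)
noncomputable def Ptab_s_846_848 (c : Nat) : Nat := @Bool.rec (fun _ => Nat) (Ptab_846) (Ptab_847) (Nat.ble 847 c)
noncomputable def Ptab_s_848_850 (c : Nat) : Nat := @Bool.rec (fun _ => Nat) (Ptab_848) (Ptab_849) (Nat.ble 849 c)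
noncomputable def Ptab_s_846_850 (c : Nat) : Nat := @Bool.rec (fun _ => Nat) (Ptab_s_846_848 c) (Ptab_s_848_850 c) (Nat.ble 848 c)
noncomputable def Ptab_s_843_850 (c : Nat) : Nat := @Bool.rec (fun _ => Nat) (Ptab_s_843_846 c) (Ptab_s_846_850 c) (Nat.ble 846 c)
noncomputable def Ptab_s_851_853 (c : Nat) : Nat := @Bool.rec (fun _ => Nat) (Ptab_851) (Ptab_852) (Nat.ble 852 c)
noncomputable def Ptab_s_850_853 (c : Nat) : Nat := @Bool.rec (fun _ => Nat) (Ptab_850) (Ptab_s_851_853 c) (Nat.ble 851 c)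
noncomputable def Ptab_s_853_855 (c : Nat) : Nat := @Bool.rec (fun _ => Nat) (Ptab_853) (Ptab_854) (Nat.ble 854 c)
noncomputable def Ptab_s_855_857 (c : Nat) : Nat := @Bool.rec (fun _ => Nat) (Ptab_855) (Ptab_856) (Nat.ble 856 c)
noncomputable def Ptab_s_853_857 (c : Nat) : Nat := @Bool.rec (fun _ => Nat) (Ptab_s_853_855 c) (Ptab_s_855_857 c) (Nat.ble 855 c)
noncomputable def Ptab_s_850_857 (c : Nat) : Nat := @Bool.rec (fun _ => Nat) (Ptab_s_850_853 c) (Ptab_s_853_857 c) (Nat.ble 853 c)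
noncomputable def Ptab_s_843_857 (c : Nat) : Nat := @Bool.rec (fun _ => Nat) (Ptab_s_843_850 c) (Ptab_s_850_857 c) (Nat.ble 850 c)
noncomputable def Ptab_s_858_860 (c : Nat) : Nat := @Bool.rec (fun _ => Nat) (Ptab_858) (Ptab_859) (Nat.ble 859 c)
noncomputable def Ptab_s_857_860 (c : Nat) : Nat := @Bool.rec (fun _ => Nat) (Ptab_857) (Ptab_s_858_860 c) (Nat.ble 858 c)
noncomputable def Ptab_s_860_862 (c : Nat) : Nat := @Bool.rec (fun _ => Nat) (Ptab_860) (Ptab_861) (Nat.ble 861 c)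
noncomputable def Ptab_s_862_864 (c : Nat) : Nat := @Bool.rec (fun _ => Nat) (Ptab_862) (Ptab_863) (Nat.ble 863 c)
noncomputable def Ptab_s_860_864 (c : Nat) : Nat := @Bool.rec (fun _ => Nat) (Ptab_s_860_862 c) (Ptab_s_862_864 c) (Nat.ble 862 c)
noncomputable def Ptab_s_857_864 (c : Nat) : Nat := @Bool.rec (fun _ => Nat) (Ptab_s_857_860 c) (Ptab_s_860_864 c) (Nat.ble 860 c)
noncomputable def Ptab_s_865_867 (c : Nat) : Nat := @Bool.rec (fun _ => Nat) (Ptab_865) (Ptab_866) (Nat.ble 866 c)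
noncomputable def Ptab_s_864_867 (c : Nat) : Nat := @Bool.rec (fun _ => Nat) (Ptab_864) (Ptab_s_865_867 c) (Nat.ble 865 c)
noncomputable def Ptab_s_867_869 (c : Nat) : Nat := @Bool.rec (fun _ => Nat) (Ptab_867) (Ptab_868) (Nat.ble 868 c)
noncomputable def Ptab_s_869_871 (c : Nat) : Nat := @Bool.rec (fun _ => Nat) (Ptab_869) (Ptab_870) (Nat.ble 870 c)
noncomputable def Ptab_s_867_871 (c : Nat) : Nat := @Bool.rec (fun _ => Nat) (Ptab_s_867_869 c) (Ptab_s_869_871 c) (Nat.ble 869 c)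
noncomputable def Ptab_s_864_871 (c : Nat) : Nat := @Bool.rec (fun _ => Nat) (Ptab_s_864_867 c) (Ptab_s_867_871 c) (Nat.ble 867 c)
noncomputable def Ptab_s_857_871 (c : Nat) : Nat := @Bool.rec (fun _ => Nat) (Ptab_s_857_864 c) (Ptab_s_864_871 c) (Nat.ble 864 c)
noncomputable def Ptab_s_843_871 (c : Nat) : Nat := @Bool.rec (fun _ => Nat) (Ptab_s_843_857 c) (Ptab_s_857_871 c) (Nat.ble 857 c)
noncomputable def Ptab_s_816_871 (c : Nat) : Nat := @Bool.rec (fun _ => Nat) (Ptab_s_816_843 c) (Ptab_s_843_871 c) (Nat.ble 843 c)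
noncomputable def Ptab_s_762_871 (c : Nat) : Nat := @Bool.rec (fun _ => Nat) (Ptab_s_762_816 c) (Ptab_s_816_871 c) (Nat.ble 816 c)
noncomputable def Ptab_s_653_871 (c : Nat) : Nat := @Bool.rec (fun _ => Nat) (Ptab_s_653_762 c) (Ptab_s_762_871 c) (Nat.ble 762 c)
noncomputable def Ptab_s_435_871 (c : Nat) : Nat := @Bool.rec (fun _ => Nat) (Ptab_s_435_653 c) (Ptab_s_653_871 c) (Nat.ble 653 c)
noncomputable def Ptab_s_0_871 (c : Nat) : Nat := @Bool.rec (fun _ => Nat) (Ptab_s_0_435 c) (Ptab_s_435_871 c) (Nat.ble 435 c)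
noncomputable def Ptab (i : Nat) : Nat := rdw 22 4194303 (Ptab_s_0_871 (Nat.shiftRight i 12)) (Nat.land i 4095)
noncomputable def RRtab (i : Nat) : Nat := rdw 4 15 RRtab_0 i
noncomputable def rBtab (i : Nat) : Nat := rdw 14 16383 rBtab_0 i
noncomputable def rLtab (i : Nat) : Nat := rdw 6 63 rLtab_0 i
noncomputable def nameTab_s_0_2 (c : Nat) : Nat := @Bool.rec (fun _ => Nat) (nameTab_0) (nameTab_1) (Nat.ble 1 c)
noncomputable def nameTab_s_3_5 (c : Nat) : Nat := @Bool.rec (fun _ => Nat) (nameTab_3) (nameTab_4) (Nat.ble 4 c)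
noncomputable def nameTab_s_2_5 (c : Nat) : Nat := @Bool.rec (fun _ => Nat) (nameTab_2) (nameTab_s_3_5 c) (Nat.ble 3 c)
noncomputable def nameTab_s_0_5 (c : Nat) : Nat := @Bool.rec (fun _ => Nat) (nameTab_s_0_2 c) (nameTab_s_2_5 c) (Nat.ble 2 c)
noncomputable def nameTab_s_6_8 (c : Nat) : Nat := @Bool.rec (fun _ => Nat) (nameTab_6) (nameTab_7) (Nat.ble 7 c)
noncomputable def nameTab_s_5_8 (c : Nat) : Nat := @Bool.rec (fun _ => Nat) (nameTab_5) (nameTab_s_6_8 c) (Nat.ble 6 c)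
noncomputable def nameTab_s_9_11 (c : Nat) : Nat := @Bool.rec (fun _ => Nat) (nameTab_9) (nameTab_10) (Nat.ble 10 c)
noncomputable def nameTab_s_8_11 (c : Nat) : Nat := @Bool.rec (fun _ => Nat) (nameTab_8) (nameTab_s_9_11 c) (Nat.ble 9 c)
noncomputable def nameTab_s_5_11 (c : Nat) : Nat := @Bool.rec (fun _ => Nat) (nameTab_s_5_8 c) (nameTab_s_8_11 c) (Nat.ble 8 c)
noncomputable def nameTab_s_0_11 (c : Nat) : Nat := @Bool.rec (fun _ => Nat) (nameTab_s_0_5 c) (nameTab_s_5_11 c) (Nat.ble 5 c)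
noncomputable def nameTab (i : Nat) : Nat := rdw 19 524287 (nameTab_s_0_11 (Nat.shiftRight i 12)) (Nat.land i 4095)
noncomputable def col0_s_0_2 (c : Nat) : Nat := @Bool.rec (fun _ => Nat) (col0_0) (col0_1) (Nat.ble 1 c)
noncomputable def col0_s_3_5 (c : Nat) : Nat := @Bool.rec (fun _ => Nat) (col0_3) (col0_4) (Nat.ble 4 c)
noncomputable def col0_s_2_5 (c : Nat) : Nat := @Bool.rec (fun _ => Nat) (col0_2) (col0_s_3_5 c) (Nat.ble 3 c)
noncomputable def col0_s_0_5 (c : Nat) : Nat := @Bool.rec (fun _ => Nat) (col0_s_0_2 c) (col0_s_2_5 c) (Nat.ble 2 c)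
noncomputable def col0_s_6_8 (c : Nat) : Nat := @Bool.rec (fun _ => Nat) (col0_6) (col0_7) (Nat.ble 7 c)
noncomputable def col0_s_5_8 (c : Nat) : Nat := @Bool.rec (fun _ => Nat) (col0_5) (col0_s_6_8 c) (Nat.ble 6 c)
noncomputable def col0_s_9_11 (c : Nat) : Nat := @Bool.rec (fun _ => Nat) (col0_9) (col0_10) (Nat.ble 10 c)
noncomputable def col0_s_8_11 (c : Nat) : Nat := @Bool.rec (fun _ => Nat) (col0_8) (col0_s_9_11 c) (Nat.ble 9 c)
noncomputable def col0_s_5_11 (c : Nat) : Nat := @Bool.rec (fun _ => Nat) (col0_s_5_8 c) (col0_s_8_11 c) (Nat.ble 8 c)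
noncomputable def col0_s_0_11 (c : Nat) : Nat := @Bool.rec (fun _ => Nat) (col0_s_0_5 c) (col0_s_5_11 c) (Nat.ble 5 c)
noncomputable def col0 (i : Nat) : Nat := rdw 16 65535 (col0_s_0_11 (Nat.shiftRight i 12)) (Nat.land i 4095)
noncomputable def col1_s_0_2 (c : Nat) : Nat := @Bool.rec (fun _ => Nat) (col1_0) (col1_1) (Nat.ble 1 c)
noncomputable def col1_s_3_5 (c : Nat) : Nat := @Bool.rec (fun _ => Nat) (col1_3) (col1_4) (Nat.ble 4 c)
noncomputable def col1_s_2_5 (c : Nat) : Nat := @Bool.rec (fun _ => Nat) (col1_2) (col1_s_3_5 c) (Nat.ble 3 c)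
noncomputable def col1_s_0_5 (c : Nat) : Nat := @Bool.rec (fun _ => Nat) (col1_s_0_2 c) (col1_s_2_5 c) (Nat.ble 2 c)
noncomputable def col1_s_6_8 (c : Nat) : Nat := @Bool.rec (fun _ => Nat) (col1_6) (col1_7) (Nat.ble 7 c)
noncomputable def col1_s_5_8 (c : Nat) : Nat := @Bool.rec (fun _ => Nat) (col1_5) (col1_s_6_8 c) (Nat.ble 6 c)
noncomputable def col1_s_9_11 (c : Nat) : Nat := @Bool.rec (fun _ => Nat) (col1_9) (col1_10) (Nat.ble 10 c)
noncomputable def col1_s_8_11 (c : Nat) : Nat := @Bool.rec (fun _ => Nat) (col1_8) (col1_s_9_11 c) (Nat.ble 9 c)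
noncomputable def col1_s_5_11 (c : Nat) : Nat := @Bool.rec (fun _ => Nat) (col1_s_5_8 c) (col1_s_8_11 c) (Nat.ble 8 c)
noncomputable def col1_s_0_11 (c : Nat) : Nat := @Bool.rec (fun _ => Nat) (col1_s_0_5 c) (col1_s_5_11 c) (Nat.ble 5 c)
noncomputable def col1 (i : Nat) : Nat := rdw 16 65535 (col1_s_0_11 (Nat.shiftRight i 12)) (Nat.land i 4095)
noncomputable def col2_s_0_2 (c : Nat) : Nat := @Bool.rec (fun _ => Nat) (col2_0) (col2_1) (Nat.ble 1 c)
noncomputable def col2_s_3_5 (c : Nat) : Nat := @Bool.rec (fun _ => Nat) (col2_3) (col2_4) (Nat.ble 4 c)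
noncomputable def col2_s_2_5 (c : Nat) : Nat := @Bool.rec (fun _ => Nat) (col2_2) (col2_s_3_5 c) (Nat.ble 3 c)
noncomputable def col2_s_0_5 (c : Nat) : Nat := @Bool.rec (fun _ => Nat) (col2_s_0_2 c) (col2_s_2_5 c) (Nat.ble 2 c)
noncomputable def col2_s_6_8 (c : Nat) : Nat := @Bool.rec (fun _ => Nat) (col2_6) (col2_7) (Nat.ble 7 c)
noncomputable def col2_s_5_8 (c : Nat) : Nat := @Bool.rec (fun _ => Nat) (col2_5) (col2_s_6_8 c) (Nat.ble 6 c)
noncomputable def col2_s_9_11 (c : Nat) : Nat := @Bool.rec (fun _ => Nat) (col2_9) (col2_10) (Nat.ble 10 c)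
noncomputable def col2_s_8_11 (c : Nat) : Nat := @Bool.rec (fun _ => Nat) (col2_8) (col2_s_9_11 c) (Nat.ble 9 c)
noncomputable def col2_s_5_11 (c : Nat) : Nat := @Bool.rec (fun _ => Nat) (col2_s_5_8 c) (col2_s_8_11 c) (Nat.ble 8 c)
noncomputable def col2_s_0_11 (c : Nat) : Nat := @Bool.rec (fun _ => Nat) (col2_s_0_5 c) (col2_s_5_11 c) (Nat.ble 5 c)
noncomputable def col2 (i : Nat) : Nat := rdw 16 65535 (col2_s_0_11 (Nat.shiftRight i 12)) (Nat.land i 4095)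
noncomputable def col3_s_0_2 (c : Nat) : Nat := @Bool.rec (fun _ => Nat) (col3_0) (col3_1) (Nat.ble 1 c)
noncomputable def col3_s_3_5 (c : Nat) : Nat := @Bool.rec (fun _ => Nat) (col3_3) (col3_4) (Nat.ble 4 c)
noncomputable def col3_s_2_5 (c : Nat) : Nat := @Bool.rec (fun _ => Nat) (col3_2) (col3_s_3_5 c) (Nat.ble 3 c)
noncomputable def col3_s_0_5 (c : Nat) : Nat := @Bool.rec (fun _ => Nat) (col3_s_0_2 c) (col3_s_2_5 c) (Nat.ble 2 c)
noncomputable def col3_s_6_8 (c : Nat) : Nat := @Bool.rec (fun _ => Nat) (col3_6) (col3_7) (Nat.ble 7 c)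
noncomputable def col3_s_5_8 (c : Nat) : Nat := @Bool.rec (fun _ => Nat) (col3_5) (col3_s_6_8 c) (Nat.ble 6 c)
noncomputable def col3_s_9_11 (c : Nat) : Nat := @Bool.rec (fun _ => Nat) (col3_9) (col3_10) (Nat.ble 10 c)
noncomputable def col3_s_8_11 (c : Nat) : Nat := @Bool.rec (fun _ => Nat) (col3_8) (col3_s_9_11 c) (Nat.ble 9 c)
noncomputable def col3_s_5_11 (c : Nat) : Nat := @Bool.rec (fun _ => Nat) (col3_s_5_8 c) (col3_s_8_11 c) (Nat.ble 8 c)
noncomputable def col3_s_0_11 (c : Nat) : Nat := @Bool.rec (fun _ => Nat) (col3_s_0_5 c) (col3_s_5_11 c) (Nat.ble 5 c)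
noncomputable def col3 (i : Nat) : Nat := rdw 16 65535 (col3_s_0_11 (Nat.shiftRight i 12)) (Nat.land i 4095)
noncomputable def col4_s_0_2 (c : Nat) : Nat := @Bool.rec (fun _ => Nat) (col4_0) (col4_1) (Nat.ble 1 c)
noncomputable def col4_s_3_5 (c : Nat) : Nat := @Bool.rec (fun _ => Nat) (col4_3) (col4_4) (Nat.ble 4 c)
noncomputable def col4_s_2_5 (c : Nat) : Nat := @Bool.rec (fun _ => Nat) (col4_2) (col4_s_3_5 c) (Nat.ble 3 c)
noncomputable def col4_s_0_5 (c : Nat) : Nat := @Bool.rec (fun _ => Nat) (col4_s_0_2 c) (col4_s_2_5 c) (Nat.ble 2 c)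
noncomputable def col4_s_6_8 (c : Nat) : Nat := @Bool.rec (fun _ => Nat) (col4_6) (col4_7) (Nat.ble 7 c)
noncomputable def col4_s_5_8 (c : Nat) : Nat := @Bool.rec (fun _ => Nat) (col4_5) (col4_s_6_8 c) (Nat.ble 6 c)
noncomputable def col4_s_9_11 (c : Nat) : Nat := @Bool.rec (fun _ => Nat) (col4_9) (col4_10) (Nat.ble 10 c)
noncomputable def col4_s_8_11 (c : Nat) : Nat := @Bool.rec (fun _ => Nat) (col4_8) (col4_s_9_11 c) (Nat.ble 9 c)
noncomputable def col4_s_5_11 (c : Nat) : Nat := @Bool.rec (fun _ => Nat) (col4_s_5_8 c) (col4_s_8_11 c) (Nat.ble 8 c)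
noncomputable def col4_s_0_11 (c : Nat) : Nat := @Bool.rec (fun _ => Nat) (col4_s_0_5 c) (col4_s_5_11 c) (Nat.ble 5 c)
noncomputable def col4 (i : Nat) : Nat := rdw 16 65535 (col4_s_0_11 (Nat.shiftRight i 12)) (Nat.land i 4095)
noncomputable def col5_s_0_2 (c : Nat) : Nat := @Bool.rec (fun _ => Nat) (col5_0) (col5_1) (Nat.ble 1 c)
noncomputable def col5_s_3_5 (c : Nat) : Nat := @Bool.rec (fun _ => Nat) (col5_3) (col5_4) (Nat.ble 4 c)
noncomputable def col5_s_2_5 (c : Nat) : Nat := @Bool.rec (fun _ => Nat) (col5_2) (col5_s_3_5 c) (Nat.ble 3 c)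
noncomputable def col5_s_0_5 (c : Nat) : Nat := @Bool.rec (fun _ => Nat) (col5_s_0_2 c) (col5_s_2_5 c) (Nat.ble 2 c)
noncomputable def col5_s_6_8 (c : Nat) : Nat := @Bool.rec (fun _ => Nat) (col5_6) (col5_7) (Nat.ble 7 c)
noncomputable def col5_s_5_8 (c : Nat) : Nat := @Bool.rec (fun _ => Nat) (col5_5) (col5_s_6_8 c) (Nat.ble 6 c)
noncomputable def col5_s_9_11 (c : Nat) : Nat := @Bool.rec (fun _ => Nat) (col5_9) (col5_10) (Nat.ble 10 c)
noncomputable def col5_s_8_11 (c : Nat) : Nat := @Bool.rec (fun _ => Nat) (col5_8) (col5_s_9_11 c) (Nat.ble 9 c)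
noncomputable def col5_s_5_11 (c : Nat) : Nat := @Bool.rec (fun _ => Nat) (col5_s_5_8 c) (col5_s_8_11 c) (Nat.ble 8 c)
noncomputable def col5_s_0_11 (c : Nat) : Nat := @Bool.rec (fun _ => Nat) (col5_s_0_5 c) (col5_s_5_11 c) (Nat.ble 5 c)
noncomputable def col5 (i : Nat) : Nat := rdw 16 65535 (col5_s_0_11 (Nat.shiftRight i 12)) (Nat.land i 4095)
noncomputable def finTab_s_0_2 (c : Nat) : Nat := @Bool.rec (fun _ => Nat) (finTab_0) (finTab_1) (Nat.ble 1 c)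
noncomputable def finTab_s_2_4 (c : Nat) : Nat := @Bool.rec (fun _ => Nat) (finTab_2) (finTab_3) (Nat.ble 3 c)
noncomputable def finTab_s_0_4 (c : Nat) : Nat := @Bool.rec (fun _ => Nat) (finTab_s_0_2 c) (finTab_s_2_4 c) (Nat.ble 2 c)
noncomputable def finTab_s_4_6 (c : Nat) : Nat := @Bool.rec (fun _ => Nat) (finTab_4) (finTab_5) (Nat.ble 5 c)
noncomputable def finTab_s_6_8 (c : Nat) : Nat := @Bool.rec (fun _ => Nat) (finTab_6) (finTab_7) (Nat.ble 7 c)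
noncomputable def finTab_s_4_8 (c : Nat) : Nat := @Bool.rec (fun _ => Nat) (finTab_s_4_6 c) (finTab_s_6_8 c) (Nat.ble 6 c)
noncomputable def finTab_s_0_8 (c : Nat) : Nat := @Bool.rec (fun _ => Nat) (finTab_s_0_4 c) (finTab_s_4_8 c) (Nat.ble 4 c)
noncomputable def finTab_s_8_10 (c : Nat) : Nat := @Bool.rec (fun _ => Nat) (finTab_8) (finTab_9) (Nat.ble 9 c)
noncomputable def finTab_s_10_12 (c : Nat) : Nat := @Bool.rec (fun _ => Nat) (finTab_10) (finTab_11) (Nat.ble 11 c)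
noncomputable def finTab_s_8_12 (c : Nat) : Nat := @Bool.rec (fun _ => Nat) (finTab_s_8_10 c) (finTab_s_10_12 c) (Nat.ble 10 c)
noncomputable def finTab_s_12_14 (c : Nat) : Nat := @Bool.rec (fun _ => Nat) (finTab_12) (finTab_13) (Nat.ble 13 c)
noncomputable def finTab_s_14_16 (c : Nat) : Nat := @Bool.rec (fun _ => Nat) (finTab_14) (finTab_15) (Nat.ble 15 c)
noncomputable def finTab_s_12_16 (c : Nat) : Nat := @Bool.rec (fun _ => Nat) (finTab_s_12_14 c) (finTab_s_14_16 c) (Nat.ble 14 c)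
noncomputable def finTab_s_8_16 (c : Nat) : Nat := @Bool.rec (fun _ => Nat) (finTab_s_8_12 c) (finTab_s_12_16 c) (Nat.ble 12 c)
noncomputable def finTab_s_0_16 (c : Nat) : Nat := @Bool.rec (fun _ => Nat) (finTab_s_0_8 c) (finTab_s_8_16 c) (Nat.ble 8 c)
noncomputable def finTab_s_16_18 (c : Nat) : Nat := @Bool.rec (fun _ => Nat) (finTab_16) (finTab_17) (Nat.ble 17 c)
noncomputable def finTab_s_18_20 (c : Nat) : Nat := @Bool.rec (fun _ => Nat) (finTab_18) (finTab_19) (Nat.ble 19 c)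
noncomputable def finTab_s_16_20 (c : Nat) : Nat := @Bool.rec (fun _ => Nat) (finTab_s_16_18 c) (finTab_s_18_20 c) (Nat.ble 18 c)
noncomputable def finTab_s_20_22 (c : Nat) : Nat := @Bool.rec (fun _ => Nat) (finTab_20) (finTab_21) (Nat.ble 21 c)
noncomputable def finTab_s_22_24 (c : Nat) : Nat := @Bool.rec (fun _ => Nat) (finTab_22) (finTab_23) (Nat.ble 23 c)
noncomputable def finTab_s_20_24 (c : Nat) : Nat := @Bool.rec (fun _ => Nat) (finTab_s_20_22 c) (finTab_s_22_24 c) (Nat.ble 22 c)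
noncomputable def finTab_s_16_24 (c : Nat) : Nat := @Bool.rec (fun _ => Nat) (finTab_s_16_20 c) (finTab_s_20_24 c) (Nat.ble 20 c)
noncomputable def finTab_s_24_26 (c : Nat) : Nat := @Bool.rec (fun _ => Nat) (finTab_24) (finTab_25) (Nat.ble 25 c)
noncomputable def finTab_s_26_28 (c : Nat) : Nat := @Bool.rec (fun _ => Nat) (finTab_26) (finTab_27) (Nat.ble 27 c)
noncomputable def finTab_s_24_28 (c : Nat) : Nat := @Bool.rec (fun _ => Nat) (finTab_s_24_26 c) (finTab_s_26_28 c) (Nat.ble 26 c)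
noncomputable def finTab_s_28_30 (c : Nat) : Nat := @Bool.rec (fun _ => Nat) (finTab_28) (finTab_29) (Nat.ble 29 c)
noncomputable def finTab_s_30_32 (c : Nat) : Nat := @Bool.rec (fun _ => Nat) (finTab_30) (finTab_31) (Nat.ble 31 c)
noncomputable def finTab_s_28_32 (c : Nat) : Nat := @Bool.rec (fun _ => Nat) (finTab_s_28_30 c) (finTab_s_30_32 c) (Nat.ble 30 c)
noncomputable def finTab_s_24_32 (c : Nat) : Nat := @Bool.rec (fun _ => Nat) (finTab_s_24_28 c) (finTab_s_28_32 c) (Nat.ble 28 c)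
noncomputable def finTab_s_16_32 (c : Nat) : Nat := @Bool.rec (fun _ => Nat) (finTab_s_16_24 c) (finTab_s_24_32 c) (Nat.ble 24 c)
noncomputable def finTab_s_0_32 (c : Nat) : Nat := @Bool.rec (fun _ => Nat) (finTab_s_0_16 c) (finTab_s_16_32 c) (Nat.ble 16 c)
noncomputable def finTab_s_32_34 (c : Nat) : Nat := @Bool.rec (fun _ => Nat) (finTab_32) (finTab_33) (Nat.ble 33 c)
noncomputable def finTab_s_34_36 (c : Nat) : Nat := @Bool.rec (fun _ => Nat) (finTab_34) (finTab_35) (Nat.ble 35 c)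
noncomputable def finTab_s_32_36 (c : Nat) : Nat := @Bool.rec (fun _ => Nat) (finTab_s_32_34 c) (finTab_s_34_36 c) (Nat.ble 34 c)
noncomputable def finTab_s_36_38 (c : Nat) : Nat := @Bool.rec (fun _ => Nat) (finTab_36) (finTab_37) (Nat.ble 37 c)
noncomputable def finTab_s_38_40 (c : Nat) : Nat := @Bool.rec (fun _ => Nat) (finTab_38) (finTab_39) (Nat.ble 39 c)
noncomputable def finTab_s_36_40 (c : Nat) : Nat := @Bool.rec (fun _ => Nat) (finTab_s_36_38 c) (finTab_s_38_40 c) (Nat.ble 38 c)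
noncomputable def finTab_s_32_40 (c : Nat) : Nat := @Bool.rec (fun _ => Nat) (finTab_s_32_36 c) (finTab_s_36_40 c) (Nat.ble 36 c)
noncomputable def finTab_s_40_42 (c : Nat) : Nat := @Bool.rec (fun _ => Nat) (finTab_40) (finTab_41) (Nat.ble 41 c)
noncomputable def finTab_s_42_44 (c : Nat) : Nat := @Bool.rec (fun _ => Nat) (finTab_42) (finTab_43) (Nat.ble 43 c)
noncomputable def finTab_s_40_44 (c : Nat) : Nat := @Bool.rec (fun _ => Nat) (finTab_s_40_42 c) (finTab_s_42_44 c) (Nat.ble 42 c)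
noncomputable def finTab_s_44_46 (c : Nat) : Nat := @Bool.rec (fun _ => Nat) (finTab_44) (finTab_45) (Nat.ble 45 c)
noncomputable def finTab_s_46_48 (c : Nat) : Nat := @Bool.rec (fun _ => Nat) (finTab_46) (finTab_47) (Nat.ble 47 c)
noncomputable def finTab_s_44_48 (c : Nat) : Nat := @Bool.rec (fun _ => Nat) (finTab_s_44_46 c) (finTab_s_46_48 c) (Nat.ble 46 c)
noncomputable def finTab_s_40_48 (c : Nat) : Nat := @Bool.rec (fun _ => Nat) (finTab_s_40_44 c) (finTab_s_44_48 c) (Nat.ble 44 c)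
noncomputable def finTab_s_32_48 (c : Nat) : Nat := @Bool.rec (fun _ => Nat) (finTab_s_32_40 c) (finTab_s_40_48 c) (Nat.ble 40 c)
noncomputable def finTab_s_48_50 (c : Nat) : Nat := @Bool.rec (fun _ => Nat) (finTab_48) (finTab_49) (Nat.ble 49 c)
noncomputable def finTab_s_50_52 (c : Nat) : Nat := @Bool.rec (fun _ => Nat) (finTab_50) (finTab_51) (Nat.ble 51 c)
noncomputable def finTab_s_48_52 (c : Nat) : Nat := @Bool.rec (fun _ => Nat) (finTab_s_48_50 c) (finTab_s_50_52 c) (Nat.ble 50 c)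
noncomputable def finTab_s_52_54 (c : Nat) : Nat := @Bool.rec (fun _ => Nat) (finTab_52) (finTab_53) (Nat.ble 53 c)
noncomputable def finTab_s_54_56 (c : Nat) : Nat := @Bool.rec (fun _ => Nat) (finTab_54) (finTab_55) (Nat.ble 55 c)
noncomputable def finTab_s_52_56 (c : Nat) : Nat := @Bool.rec (fun _ => Nat) (finTab_s_52_54 c) (finTab_s_54_56 c) (Nat.ble 54 c)
noncomputable def finTab_s_48_56 (c : Nat) : Nat := @Bool.rec (fun _ => Nat) (finTab_s_48_52 c) (finTab_s_52_56 c) (Nat.ble 52 c)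
noncomputable def finTab_s_56_58 (c : Nat) : Nat := @Bool.rec (fun _ => Nat) (finTab_56) (finTab_57) (Nat.ble 57 c)
noncomputable def finTab_s_58_60 (c : Nat) : Nat := @Bool.rec (fun _ => Nat) (finTab_58) (finTab_59) (Nat.ble 59 c)
noncomputable def finTab_s_56_60 (c : Nat) : Nat := @Bool.rec (fun _ => Nat) (finTab_s_56_58 c) (finTab_s_58_60 c) (Nat.ble 58 c)
noncomputable def finTab_s_60_62 (c : Nat) : Nat := @Bool.rec (fun _ => Nat) (finTab_60) (finTab_61) (Nat.ble 61 c)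
noncomputable def finTab_s_63_65 (c : Nat) : Nat := @Bool.rec (fun _ => Nat) (finTab_63) (finTab_64) (Nat.ble 64 c)
noncomputable def finTab_s_62_65 (c : Nat) : Nat := @Bool.rec (fun _ => Nat) (finTab_62) (finTab_s_63_65 c) (Nat.ble 63 c)
noncomputable def finTab_s_60_65 (c : Nat) : Nat := @Bool.rec (fun _ => Nat) (finTab_s_60_62 c) (finTab_s_62_65 c) (Nat.ble 62 c)
noncomputable def finTab_s_56_65 (c : Nat) : Nat := @Bool.rec (fun _ => Nat) (finTab_s_56_60 c) (finTab_s_60_65 c) (Nat.ble 60 c)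
noncomputable def finTab_s_48_65 (c : Nat) : Nat := @Bool.rec (fun _ => Nat) (finTab_s_48_56 c) (finTab_s_56_65 c) (Nat.ble 56 c)
noncomputable def finTab_s_32_65 (c : Nat) : Nat := @Bool.rec (fun _ => Nat) (finTab_s_32_48 c) (finTab_s_48_65 c) (Nat.ble 48 c)
noncomputable def finTab_s_0_65 (c : Nat) : Nat := @Bool.rec (fun _ => Nat) (finTab_s_0_32 c) (finTab_s_32_65 c) (Nat.ble 32 c)
noncomputable def finTab (i : Nat) : Nat := rdw 22 4194303 (finTab_s_0_65 (Nat.shiftRight i 12)) (Nat.land i 4095)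
noncomputable def clsTab_s_1_3 (c : Nat) : Nat := @Bool.rec (fun _ => Nat) (clsTab_1) (clsTab_2) (Nat.ble 2 c)
noncomputable def clsTab_s_0_3 (c : Nat) : Nat := @Bool.rec (fun _ => Nat) (clsTab_0) (clsTab_s_1_3 c) (Nat.ble 1 c)
noncomputable def clsTab_s_4_6 (c : Nat) : Nat := @Bool.rec (fun _ => Nat) (clsTab_4) (clsTab_5) (Nat.ble 5 c)
noncomputable def clsTab_s_3_6 (c : Nat) : Nat := @Bool.rec (fun _ => Nat) (clsTab_3) (clsTab_s_4_6 c) (Nat.ble 4 c)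
noncomputable def clsTab_s_0_6 (c : Nat) : Nat := @Bool.rec (fun _ => Nat) (clsTab_s_0_3 c) (clsTab_s_3_6 c) (Nat.ble 3 c)
noncomputable def clsTab_s_7_9 (c : Nat) : Nat := @Bool.rec (fun _ => Nat) (clsTab_7) (clsTab_8) (Nat.ble 8 c)
noncomputable def clsTab_s_6_9 (c : Nat) : Nat := @Bool.rec (fun _ => Nat) (clsTab_6) (clsTab_s_7_9 c) (Nat.ble 7 c)
noncomputable def clsTab_s_9_11 (c : Nat) : Nat := @Bool.rec (fun _ => Nat) (clsTab_9) (clsTab_10) (Nat.ble 10 c)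
noncomputable def clsTab_s_11_13 (c : Nat) : Nat := @Bool.rec (fun _ => Nat) (clsTab_11) (clsTab_12) (Nat.ble 12 c)
noncomputable def clsTab_s_9_13 (c : Nat) : Nat := @Bool.rec (fun _ => Nat) (clsTab_s_9_11 c) (clsTab_s_11_13 c) (Nat.ble 11 c)
noncomputable def clsTab_s_6_13 (c : Nat) : Nat := @Bool.rec (fun _ => Nat) (clsTab_s_6_9 c) (clsTab_s_9_13 c) (Nat.ble 9 c)
noncomputable def clsTab_s_0_13 (c : Nat) : Nat := @Bool.rec (fun _ => Nat) (clsTab_s_0_6 c) (clsTab_s_6_13 c) (Nat.ble 6 c)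
noncomputable def clsTab_s_14_16 (c : Nat) : Nat := @Bool.rec (fun _ => Nat) (clsTab_14) (clsTab_15) (Nat.ble 15 c)
noncomputable def clsTab_s_13_16 (c : Nat) : Nat := @Bool.rec (fun _ => Nat) (clsTab_13) (clsTab_s_14_16 c) (Nat.ble 14 c)
noncomputable def clsTab_s_17_19 (c : Nat) : Nat := @Bool.rec (fun _ => Nat) (clsTab_17) (clsTab_18) (Nat.ble 18 c)
noncomputable def clsTab_s_16_19 (c : Nat) : Nat := @Bool.rec (fun _ => Nat) (clsTab_16) (clsTab_s_17_19 c) (Nat.ble 17 c)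
noncomputable def clsTab_s_13_19 (c : Nat) : Nat := @Bool.rec (fun _ => Nat) (clsTab_s_13_16 c) (clsTab_s_16_19 c) (Nat.ble 16 c)
noncomputable def clsTab_s_20_22 (c : Nat) : Nat := @Bool.rec (fun _ => Nat) (clsTab_20) (clsTab_21) (Nat.ble 21 c)
noncomputable def clsTab_s_19_22 (c : Nat) : Nat := @Bool.rec (fun _ => Nat) (clsTab_19) (clsTab_s_20_22 c) (Nat.ble 20 c)
noncomputable def clsTab_s_22_24 (c : Nat) : Nat := @Bool.rec (fun _ => Nat) (clsTab_22) (clsTab_23) (Nat.ble 23 c)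
noncomputable def clsTab_s_24_26 (c : Nat) : Nat := @Bool.rec (fun _ => Nat) (clsTab_24) (clsTab_25) (Nat.ble 25 c)
noncomputable def clsTab_s_22_26 (c : Nat) : Nat := @Bool.rec (fun _ => Nat) (clsTab_s_22_24 c) (clsTab_s_24_26 c) (Nat.ble 24 c)
noncomputable def clsTab_s_19_26 (c : Nat) : Nat := @Bool.rec (fun _ => Nat) (clsTab_s_19_22 c) (clsTab_s_22_26 c) (Nat.ble 22 c)
noncomputable def clsTab_s_13_26 (c : Nat) : Nat := @Bool.rec (fun _ => Nat) (clsTab_s_13_19 c) (clsTab_s_19_26 c) (Nat.ble 19 c)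
noncomputable def clsTab_s_0_26 (c : Nat) : Nat := @Bool.rec (fun _ => Nat) (clsTab_s_0_13 c) (clsTab_s_13_26 c) (Nat.ble 13 c)
noncomputable def clsTab_s_27_29 (c : Nat) : Nat := @Bool.rec (fun _ => Nat) (clsTab_27) (clsTab_28) (Nat.ble 28 c)
noncomputable def clsTab_s_26_29 (c : Nat) : Nat := @Bool.rec (fun _ => Nat) (clsTab_26) (clsTab_s_27_29 c) (Nat.ble 27 c)
noncomputable def clsTab_s_30_32 (c : Nat) : Nat := @Bool.rec (fun _ => Nat) (clsTab_30) (clsTab_31) (Nat.ble 31 c)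
noncomputable def clsTab_s_29_32 (c : Nat) : Nat := @Bool.rec (fun _ => Nat) (clsTab_29) (clsTab_s_30_32 c) (Nat.ble 30 c)
noncomputable def clsTab_s_26_32 (c : Nat) : Nat := @Bool.rec (fun _ => Nat) (clsTab_s_26_29 c) (clsTab_s_29_32 c) (Nat.ble 29 c)
noncomputable def clsTab_s_33_35 (c : Nat) : Nat := @Bool.rec (fun _ => Nat) (clsTab_33) (clsTab_34) (Nat.ble 34 c)
noncomputable def clsTab_s_32_35 (c : Nat) : Nat := @Bool.rec (fun _ => Nat) (clsTab_32) (clsTab_s_33_35 c) (Nat.ble 33 c)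
noncomputable def clsTab_s_35_37 (c : Nat) : Nat := @Bool.rec (fun _ => Nat) (clsTab_35) (clsTab_36) (Nat.ble 36 c)
noncomputable def clsTab_s_37_39 (c : Nat) : Nat := @Bool.rec (fun _ => Nat) (clsTab_37) (clsTab_38) (Nat.ble 38 c)
noncomputable def clsTab_s_35_39 (c : Nat) : Nat := @Bool.rec (fun _ => Nat) (clsTab_s_35_37 c) (clsTab_s_37_39 c) (Nat.ble 37 c)
noncomputable def clsTab_s_32_39 (c : Nat) : Nat := @Bool.rec (fun _ => Nat) (clsTab_s_32_35 c) (clsTab_s_35_39 c) (Nat.ble 35 c)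
noncomputable def clsTab_s_26_39 (c : Nat) : Nat := @Bool.rec (fun _ => Nat) (clsTab_s_26_32 c) (clsTab_s_32_39 c) (Nat.ble 32 c)
noncomputable def clsTab_s_40_42 (c : Nat) : Nat := @Bool.rec (fun _ => Nat) (clsTab_40) (clsTab_41) (Nat.ble 41 c)
noncomputable def clsTab_s_39_42 (c : Nat) : Nat := @Bool.rec (fun _ => Nat) (clsTab_39) (clsTab_s_40_42 c) (Nat.ble 40 c)
noncomputable def clsTab_s_42_44 (c : Nat) : Nat := @Bool.rec (fun _ => Nat) (clsTab_42) (clsTab_43) (Nat.ble 43 c)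
noncomputable def clsTab_s_44_46 (c : Nat) : Nat := @Bool.rec (fun _ => Nat) (clsTab_44) (clsTab_45) (Nat.ble 45 c)
noncomputable def clsTab_s_42_46 (c : Nat) : Nat := @Bool.rec (fun _ => Nat) (clsTab_s_42_44 c) (clsTab_s_44_46 c) (Nat.ble 44 c)
noncomputable def clsTab_s_39_46 (c : Nat) : Nat := @Bool.rec (fun _ => Nat) (clsTab_s_39_42 c) (clsTab_s_42_46 c) (Nat.ble 42 c)
noncomputable def clsTab_s_47_49 (c : Nat) : Nat := @Bool.rec (fun _ => Nat) (clsTab_47) (clsTab_48) (Nat.ble 48 c)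
noncomputable def clsTab_s_46_49 (c : Nat) : Nat := @Bool.rec (fun _ => Nat) (clsTab_46) (clsTab_s_47_49 c) (Nat.ble 47 c)
noncomputable def clsTab_s_49_51 (c : Nat) : Nat := @Bool.rec (fun _ => Nat) (clsTab_49) (clsTab_50) (Nat.ble 50 c)
noncomputable def clsTab_s_51_53 (c : Nat) : Nat := @Bool.rec (fun _ => Nat) (clsTab_51) (clsTab_52) (Nat.ble 52 c)
noncomputable def clsTab_s_49_53 (c : Nat) : Nat := @Bool.rec (fun _ => Nat) (clsTab_s_49_51 c) (clsTab_s_51_53 c) (Nat.ble 51 c)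
noncomputable def clsTab_s_46_53 (c : Nat) : Nat := @Bool.rec (fun _ => Nat) (clsTab_s_46_49 c) (clsTab_s_49_53 c) (Nat.ble 49 c)
noncomputable def clsTab_s_39_53 (c : Nat) : Nat := @Bool.rec (fun _ => Nat) (clsTab_s_39_46 c) (clsTab_s_46_53 c) (Nat.ble 46 c)
noncomputable def clsTab_s_26_53 (c : Nat) : Nat := @Bool.rec (fun _ => Nat) (clsTab_s_26_39 c) (clsTab_s_39_53 c) (Nat.ble 39 c)
noncomputable def clsTab_s_0_53 (c : Nat) : Nat := @Bool.rec (fun _ => Nat) (clsTab_s_0_26 c) (clsTab_s_26_53 c) (Nat.ble 26 c)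
noncomputable def clsTab_s_54_56 (c : Nat) : Nat := @Bool.rec (fun _ => Nat) (clsTab_54) (clsTab_55) (Nat.ble 55 c)
noncomputable def clsTab_s_53_56 (c : Nat) : Nat := @Bool.rec (fun _ => Nat) (clsTab_53) (clsTab_s_54_56 c) (Nat.ble 54 c)
noncomputable def clsTab_s_57_59 (c : Nat) : Nat := @Bool.rec (fun _ => Nat) (clsTab_57) (clsTab_58) (Nat.ble 58 c)
noncomputable def clsTab_s_56_59 (c : Nat) : Nat := @Bool.rec (fun _ => Nat) (clsTab_56) (clsTab_s_57_59 c) (Nat.ble 57 c)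
noncomputable def clsTab_s_53_59 (c : Nat) : Nat := @Bool.rec (fun _ => Nat) (clsTab_s_53_56 c) (clsTab_s_56_59 c) (Nat.ble 56 c)
noncomputable def clsTab_s_60_62 (c : Nat) : Nat := @Bool.rec (fun _ => Nat) (clsTab_60) (clsTab_61) (Nat.ble 61 c)
noncomputable def clsTab_s_59_62 (c : Nat) : Nat := @Bool.rec (fun _ => Nat) (clsTab_59) (clsTab_s_60_62 c) (Nat.ble 60 c)
noncomputable def clsTab_s_62_64 (c : Nat) : Nat := @Bool.rec (fun _ => Nat) (clsTab_62) (clsTab_63) (Nat.ble 63 c)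
noncomputable def clsTab_s_64_66 (c : Nat) : Nat := @Bool.rec (fun _ => Nat) (clsTab_64) (clsTab_65) (Nat.ble 65 c)
noncomputable def clsTab_s_62_66 (c : Nat) : Nat := @Bool.rec (fun _ => Nat) (clsTab_s_62_64 c) (clsTab_s_64_66 c) (Nat.ble 64 c)
noncomputable def clsTab_s_59_66 (c : Nat) : Nat := @Bool.rec (fun _ => Nat) (clsTab_s_59_62 c) (clsTab_s_62_66 c) (Nat.ble 62 c)
noncomputable def clsTab_s_53_66 (c : Nat) : Nat := @Bool.rec (fun _ => Nat) (clsTab_s_53_59 c) (clsTab_s_59_66 c) (Nat.ble 59 c)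
noncomputable def clsTab_s_67_69 (c : Nat) : Nat := @Bool.rec (fun _ => Nat) (clsTab_67) (clsTab_68) (Nat.ble 68 c)
noncomputable def clsTab_s_66_69 (c : Nat) : Nat := @Bool.rec (fun _ => Nat) (clsTab_66) (clsTab_s_67_69 c) (Nat.ble 67 c)
noncomputable def clsTab_s_69_71 (c : Nat) : Nat := @Bool.rec (fun _ => Nat) (clsTab_69) (clsTab_70) (Nat.ble 70 c)
noncomputable def clsTab_s_71_73 (c : Nat) : Nat := @Bool.rec (fun _ => Nat) (clsTab_71) (clsTab_72) (Nat.ble 72 c)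
noncomputable def clsTab_s_69_73 (c : Nat) : Nat := @Bool.rec (fun _ => Nat) (clsTab_s_69_71 c) (clsTab_s_71_73 c) (Nat.ble 71 c)
noncomputable def clsTab_s_66_73 (c : Nat) : Nat := @Bool.rec (fun _ => Nat) (clsTab_s_66_69 c) (clsTab_s_69_73 c) (Nat.ble 69 c)
noncomputable def clsTab_s_74_76 (c : Nat) : Nat := @Bool.rec (fun _ => Nat) (clsTab_74) (clsTab_75) (Nat.ble 75 c)
noncomputable def clsTab_s_73_76 (c : Nat) : Nat := @Bool.rec (fun _ => Nat) (clsTab_73) (clsTab_s_74_76 c) (Nat.ble 74 c)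
noncomputable def clsTab_s_76_78 (c : Nat) : Nat := @Bool.rec (fun _ => Nat) (clsTab_76) (clsTab_77) (Nat.ble 77 c)
noncomputable def clsTab_s_78_80 (c : Nat) : Nat := @Bool.rec (fun _ => Nat) (clsTab_78) (clsTab_79) (Nat.ble 79 c)
noncomputable def clsTab_s_76_80 (c : Nat) : Nat := @Bool.rec (fun _ => Nat) (clsTab_s_76_78 c) (clsTab_s_78_80 c) (Nat.ble 78 c)
noncomputable def clsTab_s_73_80 (c : Nat) : Nat := @Bool.rec (fun _ => Nat) (clsTab_s_73_76 c) (clsTab_s_76_80 c) (Nat.ble 76 c)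
noncomputable def clsTab_s_66_80 (c : Nat) : Nat := @Bool.rec (fun _ => Nat) (clsTab_s_66_73 c) (clsTab_s_73_80 c) (Nat.ble 73 c)
noncomputable def clsTab_s_53_80 (c : Nat) : Nat := @Bool.rec (fun _ => Nat) (clsTab_s_53_66 c) (clsTab_s_66_80 c) (Nat.ble 66 c)
noncomputable def clsTab_s_81_83 (c : Nat) : Nat := @Bool.rec (fun _ => Nat) (clsTab_81) (clsTab_82) (Nat.ble 82 c)
noncomputable def clsTab_s_80_83 (c : Nat) : Nat := @Bool.rec (fun _ => Nat) (clsTab_80) (clsTab_s_81_83 c) (Nat.ble 81 c)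
noncomputable def clsTab_s_84_86 (c : Nat) : Nat := @Bool.rec (fun _ => Nat) (clsTab_84) (clsTab_85) (Nat.ble 85 c)
noncomputable def clsTab_s_83_86 (c : Nat) : Nat := @Bool.rec (fun _ => Nat) (clsTab_83) (clsTab_s_84_86 c) (Nat.ble 84 c)
noncomputable def clsTab_s_80_86 (c : Nat) : Nat := @Bool.rec (fun _ => Nat) (clsTab_s_80_83 c) (clsTab_s_83_86 c) (Nat.ble 83 c)
noncomputable def clsTab_s_87_89 (c : Nat) : Nat := @Bool.rec (fun _ => Nat) (clsTab_87) (clsTab_88) (Nat.ble 88 c)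
noncomputable def clsTab_s_86_89 (c : Nat) : Nat := @Bool.rec (fun _ => Nat) (clsTab_86) (clsTab_s_87_89 c) (Nat.ble 87 c)
noncomputable def clsTab_s_89_91 (c : Nat) : Nat := @Bool.rec (fun _ => Nat) (clsTab_89) (clsTab_90) (Nat.ble 90 c)
noncomputable def clsTab_s_91_93 (c : Nat) : Nat := @Bool.rec (fun _ => Nat) (clsTab_91) (clsTab_92) (Nat.ble 92 c)
noncomputable def clsTab_s_89_93 (c : Nat) : Nat := @Bool.rec (fun _ => Nat) (clsTab_s_89_91 c) (clsTab_s_91_93 c) (Nat.ble 91 c)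
noncomputable def clsTab_s_86_93 (c : Nat) : Nat := @Bool.rec (fun _ => Nat) (clsTab_s_86_89 c) (clsTab_s_89_93 c) (Nat.ble 89 c)
noncomputable def clsTab_s_80_93 (c : Nat) : Nat := @Bool.rec (fun _ => Nat) (clsTab_s_80_86 c) (clsTab_s_86_93 c) (Nat.ble 86 c)
noncomputable def clsTab_s_94_96 (c : Nat) : Nat := @Bool.rec (fun _ => Nat) (clsTab_94) (clsTab_95) (Nat.ble 95 c)
noncomputable def clsTab_s_93_96 (c : Nat) : Nat := @Bool.rec (fun _ => Nat) (clsTab_93) (clsTab_s_94_96 c) (Nat.ble 94 c)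
noncomputable def clsTab_s_96_98 (c : Nat) : Nat := @Bool.rec (fun _ => Nat) (clsTab_96) (clsTab_97) (Nat.ble 97 c)
noncomputable def clsTab_s_98_100 (c : Nat) : Nat := @Bool.rec (fun _ => Nat) (clsTab_98) (clsTab_99) (Nat.ble 99 c)
noncomputable def clsTab_s_96_100 (c : Nat) : Nat := @Bool.rec (fun _ => Nat) (clsTab_s_96_98 c) (clsTab_s_98_100 c) (Nat.ble 98 c)
noncomputable def clsTab_s_93_100 (c : Nat) : Nat := @Bool.rec (fun _ => Nat) (clsTab_s_93_96 c) (clsTab_s_96_100 c) (Nat.ble 96 c)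
noncomputable def clsTab_s_101_103 (c : Nat) : Nat := @Bool.rec (fun _ => Nat) (clsTab_101) (clsTab_102) (Nat.ble 102 c)
noncomputable def clsTab_s_100_103 (c : Nat) : Nat := @Bool.rec (fun _ => Nat) (clsTab_100) (clsTab_s_101_103 c) (Nat.ble 101 c)
noncomputable def clsTab_s_103_105 (c : Nat) : Nat := @Bool.rec (fun _ => Nat) (clsTab_103) (clsTab_104) (Nat.ble 104 c)
noncomputable def clsTab_s_105_107 (c : Nat) : Nat := @Bool.rec (fun _ => Nat) (clsTab_105) (clsTab_106) (Nat.ble 106 c)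
noncomputable def clsTab_s_103_107 (c : Nat) : Nat := @Bool.rec (fun _ => Nat) (clsTab_s_103_105 c) (clsTab_s_105_107 c) (Nat.ble 105 c)
noncomputable def clsTab_s_100_107 (c : Nat) : Nat := @Bool.rec (fun _ => Nat) (clsTab_s_100_103 c) (clsTab_s_103_107 c) (Nat.ble 103 c)
noncomputable def clsTab_s_93_107 (c : Nat) : Nat := @Bool.rec (fun _ => Nat) (clsTab_s_93_100 c) (clsTab_s_100_107 c) (Nat.ble 100 c)
noncomputable def clsTab_s_80_107 (c : Nat) : Nat := @Bool.rec (fun _ => Nat) (clsTab_s_80_93 c) (clsTab_s_93_107 c) (Nat.ble 93 c)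
noncomputable def clsTab_s_53_107 (c : Nat) : Nat := @Bool.rec (fun _ => Nat) (clsTab_s_53_80 c) (clsTab_s_80_107 c) (Nat.ble 80 c)
noncomputable def clsTab_s_0_107 (c : Nat) : Nat := @Bool.rec (fun _ => Nat) (clsTab_s_0_53 c) (clsTab_s_53_107 c) (Nat.ble 53 c)
noncomputable def clsTab (i : Nat) : Nat := rdw 16 65535 (clsTab_s_0_107 (Nat.shiftRight i 12)) (Nat.land i 4095)
noncomputable def srcF (t : Nat) : Nat := Nat.land (Atab t) 524287
noncomputable def tgtF (t : Nat) : Nat := Nat.land (Nat.shiftRight (Atab t) 19) 524287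
noncomputable def ltF (t : Nat) : Nat := Nat.shiftRight (Atab t) 38
noncomputable def rhoF (t : Nat) : Nat := Nat.land (Btab (Nat.sub t 435317)) 511
noncomputable def rotF (t : Nat) : Nat := Nat.land (Nat.shiftRight (Btab (Nat.sub t 435317)) 9) 63
noncomputable def lenF (t : Nat) : Nat := Nat.land (Nat.shiftRight (Btab (Nat.sub t 435317)) 15) 127
noncomputable def offF (t : Nat) : Nat := Nat.shiftRight (Btab (Nat.sub t 435317)) 22
noncomputable def pfF (j : Nat) : Nat := Nat.shiftRight (Ptab j) 1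
noncomputable def pdF (j : Nat) : Nat := Nat.land (Ptab j) 1
noncomputable def tblF (i x : Nat) : Nat := @Bool.rec (fun _ => Nat) (@Bool.rec (fun _ => Nat) (col0 i) (@Bool.rec (fun _ => Nat) (col1 i) (col2 i) (Nat.ble 2 x)) (Nat.ble 1 x)) (@Bool.rec (fun _ => Nat) (col3 i) (@Bool.rec (fun _ => Nat) (col4 i) (col5 i) (Nat.ble 5 x)) (Nat.ble 4 x)) (Nat.ble 3 x)
noncomputable def finE (i x : Nat) : Nat := finTab (Nat.add (Nat.mul i 6) x)
noncomputable def finFF (i x : Nat) : Nat := Nat.shiftRight (finE i x) 1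
noncomputable def finDF (i x : Nat) : Nat := Nat.land (finE i x) 1

noncomputable def D : Log :=
  { k := 6, inv := invE 6 PHNN.invR, nR := 280, rBase := rBtab, rLen := rLtab, RR := RRtab,
    M := 435311, nB := 6, F := 1198677, src := srcF, lt := ltF, tgt := tgtF, rho := rhoF, rot := rotF,
    off := offF, len := lenF, pf := pfF, pd := pdF }

noncomputable def T : Tab :=
  { N := 44352, nameOf := nameTab, tbl := tblF, finF := finFF, finD := finDF, cls := clsTab }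

def subs : List (List Nat) := [
  [2, 2, 0, 3, 3, 0, 2, 0, 2, 1, 3, 3, 3, 1],
  [2, 0, 2, 2, 0, 2, 0, 2, 2, 0, 2, 1, 3, 3, 3, 1, 2, 1, 1, 2, 2, 1, 3, 1, 3, 1, 2, 2, 0, 3, 3, 0, 2, 0, 2, 0, 3, 3, 1, 2, 2, 1, 3, 1, 3, 1, 2, 2, 0, 3, 3, 0, 2, 0, 2, 0, 3, 3],
  [2, 0, 2, 0, 2, 2, 2, 0, 2, 1, 2, 2, 1, 3, 1, 3, 1, 2, 2, 0, 3, 3, 0, 2, 0, 2, 0, 3, 3] ]

def extraL : List (List Nat) := [
  [0, 0, 0, 0],
  [0, 0, 2, 0, 0, 3],
  [0, 0, 2, 1, 1, 3],
  [2, 2, 2, 2, 2, 2],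
  [0, 0, 2, 2, 0, 0, 3, 3],
  [0, 0, 2, 2, 1, 1, 3, 3],
  [0, 0, 2, 2, 2, 0, 0, 2, 2, 2],
  [0, 0, 3, 3, 3, 0, 0, 3, 3, 3],
  [0, 2, 1, 3, 0, 2, 1, 3, 0, 2, 1, 3],
  [0, 0, 0, 0, 2, 2, 2, 0, 0, 0, 0, 2, 2, 2],
  [0, 0, 0, 0, 3, 3, 3, 0, 0, 0, 0, 3, 3, 3],
  [0, 0, 2, 0, 0, 2, 2, 0, 0, 2, 0, 0, 2, 2],
  [0, 0, 2, 1, 1, 2, 2, 0, 0, 2, 1, 1, 2, 2],
  [0, 0, 2, 2, 1, 1, 2, 0, 0, 2, 2, 1, 1, 2],
  [0, 0, 3, 0, 0, 3, 3, 0, 0, 3, 0, 0, 3, 3],
  [0, 0, 0, 0, 2, 0, 0, 3, 0, 0, 0, 0, 2, 0, 0, 3],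
  [0, 0, 0, 0, 2, 1, 1, 3, 0, 0, 0, 0, 2, 1, 1, 3],
  [0, 0, 0, 0, 3, 0, 0, 2, 0, 0, 0, 0, 3, 0, 0, 2],
  [0, 0, 0, 0, 3, 1, 1, 2, 0, 0, 0, 0, 3, 1, 1, 2],
  [0, 0, 2, 2, 2, 2, 2, 2, 0, 0, 2, 2, 2, 2, 2, 2],
  [0, 0, 3, 3, 3, 3, 3, 3, 0, 0, 3, 3, 3, 3, 3, 3],
  [0, 2, 0, 2, 0, 2, 0, 2, 0, 2, 0, 2, 0, 2, 0, 2],
  [0, 2, 0, 2, 0, 2, 1, 2, 0, 2, 0, 2, 0, 2, 1, 2],
  [0, 2, 0, 2, 1, 2, 1, 2, 0, 2, 0, 2, 1, 2, 1, 2],
  [0, 2, 1, 2, 0, 2, 1, 2, 0, 2, 1, 2, 0, 2, 1, 2],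
  [0, 2, 1, 2, 1, 2, 1, 2, 0, 2, 1, 2, 1, 2, 1, 2],
  [0, 3, 0, 3, 0, 3, 0, 3, 0, 3, 0, 3, 0, 3, 0, 3],
  [0, 0, 0, 0, 2, 2, 0, 0, 0, 0, 2, 2, 0, 0, 0, 0, 2, 2],
  [0, 0, 0, 0, 3, 3, 0, 0, 0, 0, 3, 3, 0, 0, 0, 0, 3, 3],
  [0, 0, 0, 2, 0, 3, 0, 0, 0, 2, 0, 3, 0, 0, 0, 2, 0, 3],
  [0, 0, 0, 3, 0, 2, 0, 0, 0, 3, 0, 2, 0, 0, 0, 3, 0, 2],
  [0, 0, 2, 0, 0, 2, 0, 0, 2, 0, 0, 2, 0, 0, 2, 0, 0, 2],
  [0, 0, 2, 1, 1, 2, 0, 0, 2, 1, 1, 2, 0, 0, 2, 1, 1, 2],
  [0, 0, 3, 0, 0, 3, 0, 0, 3, 0, 0, 3, 0, 0, 3, 0, 0, 3],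
  [0, 0, 2, 0, 3, 0, 0, 2, 0, 3, 0, 0, 2, 0, 3, 0, 0, 2, 0, 3],
  [0, 0, 2, 1, 3, 0, 0, 2, 1, 3, 0, 0, 2, 1, 3, 0, 0, 2, 1, 3],
  [0, 0, 3, 0, 2, 0, 0, 3, 0, 2, 0, 0, 3, 0, 2, 0, 0, 3, 0, 2],
  [0, 0, 3, 1, 2, 0, 0, 3, 1, 2, 0, 0, 3, 1, 2, 0, 0, 3, 1, 2],
  [0, 2, 2, 1, 2, 2, 2, 0, 2, 2, 1, 2, 2, 2, 0, 2, 2, 1, 2, 2, 2],
  [0, 2, 2, 1, 3, 3, 3, 0, 2, 2, 1, 3, 3, 3, 0, 2, 2, 1, 3, 3, 3],
  [0, 2, 2, 2, 1, 2, 2, 0, 2, 2, 2, 1, 2, 2, 0, 2, 2, 2, 1, 2, 2],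
  [0, 2, 2, 2, 1, 3, 3, 0, 2, 2, 2, 1, 3, 3, 0, 2, 2, 2, 1, 3, 3],
  [0, 0, 0, 0, 0, 2, 1, 3, 0, 0, 0, 0, 0, 2, 1, 3, 0, 0, 0, 0, 0, 2, 1, 3],
  [0, 0, 0, 0, 0, 3, 1, 2, 0, 0, 0, 0, 0, 3, 1, 2, 0, 0, 0, 0, 0, 3, 1, 2],
  [0, 0, 0, 0, 2, 2, 2, 2, 0, 0, 0, 0, 2, 2, 2, 2, 0, 0, 0, 0, 2, 2, 2, 2],
  [0, 0, 0, 0, 3, 3, 3, 3, 0, 0, 0, 0, 3, 3, 3, 3, 0, 0, 0, 0, 3, 3, 3, 3],
  [0, 0, 0, 2, 0, 2, 0, 0, 0, 2, 0, 2, 0, 0, 0, 2, 0, 2, 0, 0, 0, 2, 0, 2],
  [0, 0, 0, 2, 1, 1, 1, 3, 0, 0, 0, 2, 1, 1, 1, 3, 0, 0, 0, 2, 1, 1, 1, 3],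
  [0, 0, 0, 2, 1, 2, 0, 0, 0, 2, 1, 2, 0, 0, 0, 2, 1, 2, 0, 0, 0, 2, 1, 2],
  [0, 0, 0, 3, 0, 3, 0, 0, 0, 3, 0, 3, 0, 0, 0, 3, 0, 3, 0, 0, 0, 3, 0, 3],
  [0, 0, 0, 3, 1, 3, 0, 0, 0, 3, 1, 3, 0, 0, 0, 3, 1, 3, 0, 0, 0, 3, 1, 3],
  [0, 0, 2, 0, 0, 2, 2, 2, 0, 0, 2, 0, 0, 2, 2, 2, 0, 0, 2, 0, 0, 2, 2, 2],
  [0, 0, 2, 0, 0, 3, 3, 3, 0, 0, 2, 0, 0, 3, 3, 3, 0, 0, 2, 0, 0, 3, 3, 3],
  [0, 0, 2, 0, 2, 0, 3, 3, 0, 0, 2, 0, 2, 0, 3, 3, 0, 0, 2, 0, 2, 0, 3, 3],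
  [0, 0, 2, 0, 2, 2, 0, 3, 0, 0, 2, 0, 2, 2, 0, 3, 0, 0, 2, 0, 2, 2, 0, 3],
  [0, 0, 2, 0, 3, 3, 0, 3, 0, 0, 2, 0, 3, 3, 0, 3, 0, 0, 2, 0, 3, 3, 0, 3],
  [0, 0, 2, 1, 1, 2, 2, 2, 0, 0, 2, 1, 1, 2, 2, 2, 0, 0, 2, 1, 1, 2, 2, 2],
  [0, 0, 2, 1, 1, 3, 3, 3, 0, 0, 2, 1, 1, 3, 3, 3, 0, 0, 2, 1, 1, 3, 3, 3],
  [0, 0, 2, 1, 2, 1, 3, 3, 0, 0, 2, 1, 2, 1, 3, 3, 0, 0, 2, 1, 2, 1, 3, 3],
  [0, 0, 2, 1, 2, 2, 1, 3, 0, 0, 2, 1, 2, 2, 1, 3, 0, 0, 2, 1, 2, 2, 1, 3],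
  [0, 0, 2, 1, 3, 3, 1, 3, 0, 0, 2, 1, 3, 3, 1, 3, 0, 0, 2, 1, 3, 3, 1, 3],
  [0, 0, 2, 2, 0, 0, 2, 2, 0, 0, 2, 2, 0, 0, 2, 2, 0, 0, 2, 2, 0, 0, 2, 2],
  [0, 0, 2, 2, 0, 3, 0, 3, 0, 0, 2, 2, 0, 3, 0, 3, 0, 0, 2, 2, 0, 3, 0, 3],
  [0, 0, 2, 2, 1, 1, 2, 2, 0, 0, 2, 2, 1, 1, 2, 2, 0, 0, 2, 2, 1, 1, 2, 2],
  [0, 0, 2, 2, 1, 3, 1, 3, 0, 0, 2, 2, 1, 3, 1, 3, 0, 0, 2, 2, 1, 3, 1, 3],
  [0, 0, 2, 2, 2, 0, 0, 3, 0, 0, 2, 2, 2, 0, 0, 3, 0, 0, 2, 2, 2, 0, 0, 3],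
  [0, 0, 2, 2, 2, 1, 1, 2, 0, 0, 2, 2, 2, 1, 1, 2, 0, 0, 2, 2, 2, 1, 1, 2],
  [0, 0, 2, 2, 2, 1, 1, 3, 0, 0, 2, 2, 2, 1, 1, 3, 0, 0, 2, 2, 2, 1, 1, 3],
  [0, 0, 3, 0, 0, 3, 3, 3, 0, 0, 3, 0, 0, 3, 3, 3, 0, 0, 3, 0, 0, 3, 3, 3],
  [0, 0, 3, 0, 2, 2, 0, 2, 0, 0, 3, 0, 2, 2, 0, 2, 0, 0, 3, 0, 2, 2, 0, 2],
  [0, 0, 3, 0, 3, 0, 2, 2, 0, 0, 3, 0, 3, 0, 2, 2, 0, 0, 3, 0, 3, 0, 2, 2],
  [0, 0, 3, 0, 3, 3, 0, 2, 0, 0, 3, 0, 3, 3, 0, 2, 0, 0, 3, 0, 3, 3, 0, 2],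
  [0, 0, 3, 1, 2, 2, 1, 2, 0, 0, 3, 1, 2, 2, 1, 2, 0, 0, 3, 1, 2, 2, 1, 2],
  [0, 0, 3, 1, 3, 1, 2, 2, 0, 0, 3, 1, 3, 1, 2, 2, 0, 0, 3, 1, 3, 1, 2, 2],
  [0, 0, 3, 1, 3, 3, 1, 2, 0, 0, 3, 1, 3, 3, 1, 2, 0, 0, 3, 1, 3, 3, 1, 2],
  [0, 0, 3, 3, 0, 0, 3, 3, 0, 0, 3, 3, 0, 0, 3, 3, 0, 0, 3, 3, 0, 0, 3, 3],
  [0, 0, 3, 3, 0, 2, 0, 2, 0, 0, 3, 3, 0, 2, 0, 2, 0, 0, 3, 3, 0, 2, 0, 2],
  [0, 0, 3, 3, 1, 2, 1, 2, 0, 0, 3, 3, 1, 2, 1, 2, 0, 0, 3, 3, 1, 2, 1, 2],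
  [0, 2, 0, 2, 2, 2, 0, 2, 0, 2, 2, 2, 0, 2, 0, 2, 2, 2, 0, 2, 0, 2, 2, 2],
  [0, 2, 0, 3, 0, 2, 0, 3, 0, 2, 0, 3, 0, 2, 0, 3, 0, 2, 0, 3, 0, 2, 0, 3],
  [0, 2, 0, 3, 1, 2, 1, 3, 0, 2, 0, 3, 1, 2, 1, 3, 0, 2, 0, 3, 1, 2, 1, 3],
  [0, 2, 0, 3, 3, 3, 0, 2, 0, 3, 3, 3, 0, 2, 0, 3, 3, 3, 0, 2, 0, 3, 3, 3],
  [0, 2, 1, 2, 2, 2, 0, 2, 1, 2, 2, 2, 0, 2, 1, 2, 2, 2, 0, 2, 1, 2, 2, 2],
  [0, 2, 1, 2, 2, 2, 2, 2, 0, 2, 1, 2, 2, 2, 2, 2, 0, 2, 1, 2, 2, 2, 2, 2],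
  [0, 2, 1, 3, 3, 3, 0, 2, 1, 3, 3, 3, 0, 2, 1, 3, 3, 3, 0, 2, 1, 3, 3, 3],
  [0, 2, 2, 2, 0, 3, 0, 2, 2, 2, 0, 3, 0, 2, 2, 2, 0, 3, 0, 2, 2, 2, 0, 3],
  [0, 2, 2, 2, 1, 2, 0, 2, 2, 2, 1, 2, 0, 2, 2, 2, 1, 2, 0, 2, 2, 2, 1, 2],
  [0, 2, 2, 2, 1, 3, 0, 2, 2, 2, 1, 3, 0, 2, 2, 2, 1, 3, 0, 2, 2, 2, 1, 3],
  [0, 2, 2, 2, 2, 2, 1, 2, 0, 2, 2, 2, 2, 2, 1, 2, 0, 2, 2, 2, 2, 2, 1, 2],
  [0, 3, 0, 3, 3, 3, 0, 3, 0, 3, 3, 3, 0, 3, 0, 3, 3, 3, 0, 3, 0, 3, 3, 3],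
  [0, 2, 1, 2, 2, 0, 2, 1, 2, 2, 0, 2, 1, 2, 2, 0, 2, 1, 2, 2, 0, 2, 1, 2, 2],
  [0, 2, 2, 1, 2, 0, 2, 2, 1, 2, 0, 2, 2, 1, 2, 0, 2, 2, 1, 2, 0, 2, 2, 1, 2],
  [0, 0, 0, 0, 2, 0, 3, 0, 0, 0, 0, 2, 0, 3, 0, 0, 0, 0, 2, 0, 3, 0, 0, 0, 0, 2, 0, 3],
  [0, 0, 0, 0, 2, 1, 3, 0, 0, 0, 0, 2, 1, 3, 0, 0, 0, 0, 2, 1, 3, 0, 0, 0, 0, 2, 1, 3],
  [0, 0, 0, 0, 3, 0, 2, 0, 0, 0, 0, 3, 0, 2, 0, 0, 0, 0, 3, 0, 2, 0, 0, 0, 0, 3, 0, 2],
  [0, 0, 0, 0, 3, 1, 2, 0, 0, 0, 0, 3, 1, 2, 0, 0, 0, 0, 3, 1, 2, 0, 0, 0, 0, 3, 1, 2],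
  [0, 0, 0, 2, 0, 0, 3, 0, 0, 0, 2, 0, 0, 3, 0, 0, 0, 2, 0, 0, 3, 0, 0, 0, 2, 0, 0, 3],
  [0, 0, 0, 2, 1, 1, 3, 0, 0, 0, 2, 1, 1, 3, 0, 0, 0, 2, 1, 1, 3, 0, 0, 0, 2, 1, 1, 3],
  [0, 0, 0, 3, 0, 0, 2, 0, 0, 0, 3, 0, 0, 2, 0, 0, 0, 3, 0, 0, 2, 0, 0, 0, 3, 0, 0, 2],
  [0, 0, 0, 3, 1, 1, 2, 0, 0, 0, 3, 1, 1, 2, 0, 0, 0, 3, 1, 1, 2, 0, 0, 0, 3, 1, 1, 2],
  [0, 0, 2, 2, 0, 3, 3, 0, 0, 2, 2, 0, 3, 3, 0, 0, 2, 2, 0, 3, 3, 0, 0, 2, 2, 0, 3, 3],
  [0, 0, 2, 2, 1, 3, 3, 0, 0, 2, 2, 1, 3, 3, 0, 0, 2, 2, 1, 3, 3, 0, 0, 2, 2, 1, 3, 3],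
  [0, 0, 3, 3, 0, 2, 2, 0, 0, 3, 3, 0, 2, 2, 0, 0, 3, 3, 0, 2, 2, 0, 0, 3, 3, 0, 2, 2],
  [0, 0, 3, 3, 1, 2, 2, 0, 0, 3, 3, 1, 2, 2, 0, 0, 3, 3, 1, 2, 2, 0, 0, 3, 3, 1, 2, 2],
  [0, 2, 0, 2, 0, 2, 2, 0, 2, 0, 2, 0, 2, 2, 0, 2, 0, 2, 0, 2, 2, 0, 2, 0, 2, 0, 2, 2],
  [0, 2, 0, 2, 1, 2, 2, 0, 2, 0, 2, 1, 2, 2, 0, 2, 0, 2, 1, 2, 2, 0, 2, 0, 2, 1, 2, 2],
  [0, 2, 0, 2, 2, 1, 2, 0, 2, 0, 2, 2, 1, 2, 0, 2, 0, 2, 2, 1, 2, 0, 2, 0, 2, 2, 1, 2],
  [0, 2, 1, 2, 0, 2, 2, 0, 2, 1, 2, 0, 2, 2, 0, 2, 1, 2, 0, 2, 2, 0, 2, 1, 2, 0, 2, 2],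
  [0, 2, 1, 2, 1, 2, 2, 0, 2, 1, 2, 1, 2, 2, 0, 2, 1, 2, 1, 2, 2, 0, 2, 1, 2, 1, 2, 2],
  [0, 2, 1, 2, 2, 1, 2, 0, 2, 1, 2, 2, 1, 2, 0, 2, 1, 2, 2, 1, 2, 0, 2, 1, 2, 2, 1, 2],
  [0, 2, 2, 1, 2, 1, 2, 0, 2, 2, 1, 2, 1, 2, 0, 2, 2, 1, 2, 1, 2, 0, 2, 2, 1, 2, 1, 2],
  [0, 2, 2, 2, 2, 2, 2, 0, 2, 2, 2, 2, 2, 2, 0, 2, 2, 2, 2, 2, 2, 0, 2, 2, 2, 2, 2, 2],
  [0, 3, 0, 3, 0, 3, 3, 0, 3, 0, 3, 0, 3, 3, 0, 3, 0, 3, 0, 3, 3, 0, 3, 0, 3, 0, 3, 3],
  [0, 3, 3, 3, 3, 3, 3, 0, 3, 3, 3, 3, 3, 3, 0, 3, 3, 3, 3, 3, 3, 0, 3, 3, 3, 3, 3, 3],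
  [0, 0, 0, 0, 2, 0, 0, 0, 0, 2, 0, 0, 0, 0, 2, 0, 0, 0, 0, 2, 0, 0, 0, 0, 2, 0, 0, 0, 0, 2],
  [0, 0, 0, 0, 3, 0, 0, 0, 0, 3, 0, 0, 0, 0, 3, 0, 0, 0, 0, 3, 0, 0, 0, 0, 3, 0, 0, 0, 0, 3],
  [0, 2, 0, 3, 3, 0, 2, 0, 3, 3, 0, 2, 0, 3, 3, 0, 2, 0, 3, 3, 0, 2, 0, 3, 3, 0, 2, 0, 3, 3],
  [0, 2, 1, 3, 3, 0, 2, 1, 3, 3, 0, 2, 1, 3, 3, 0, 2, 1, 3, 3, 0, 2, 1, 3, 3, 0, 2, 1, 3, 3],
  [0, 2, 2, 0, 3, 0, 2, 2, 0, 3, 0, 2, 2, 0, 3, 0, 2, 2, 0, 3, 0, 2, 2, 0, 3, 0, 2, 2, 0, 3],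
  [0, 2, 2, 1, 2, 2, 0, 2, 2, 1, 2, 2, 0, 2, 2, 1, 2, 2, 0, 2, 2, 1, 2, 2, 0, 2, 2, 1, 2, 2],
  [0, 2, 2, 1, 3, 0, 2, 2, 1, 3, 0, 2, 2, 1, 3, 0, 2, 2, 1, 3, 0, 2, 2, 1, 3, 0, 2, 2, 1, 3] ]


end Cfsg.Agent.Lib.Helper4.TCD.HNN3
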