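import Cfsg.Agent.Lib.Helper4.TC17
import Cfsg.Agent.Lib.Helper4.TCP_HN
import Cfsg.Agent.Lib.Helper4.TCD_HNm_D0
import Cfsg.Agent.Lib.Helper4.TCD_HNm_D1
import Cfsg.Agent.Lib.Helper4.TCD_HNm_D2
import Cfsg.Agent.Lib.Helper4.TCD_HNm_D3
import Cfsg.Agent.Lib.Helper4.TCD_HNm_D4
import Cfsg.Agent.Lib.Helper4.TCD_HNm_D5
import Cfsg.Agent.Lib.Helper4.TCD_HNm_D6
import Cfsg.Agent.Lib.Helper4.TCD_HNm_D7
import Cfsg.Agent.Lib.Helper4.TCD_HNm_D8
import Cfsg.Agent.Lib.Helper4.TCD_HNm_D9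
import Cfsg.Agent.Lib.Helper4.TCD_HNm_D10
import Cfsg.Agent.Lib.Helper4.TCD_HNm_D11
import Cfsg.Agent.Lib.Helper4.TCD_HNm_D12
import Cfsg.Agent.Lib.Helper4.TCD_HNm_D13
import Cfsg.Agent.Lib.Helper4.TCD_HNm_D14
import Cfsg.Agent.Lib.Helper4.TCD_HNm_D15
import Cfsg.Agent.Lib.Helper4.TCD_HNm_D16
import Cfsg.Agent.Lib.Helper4.TCD_HNm_D17
import Cfsg.Agent.Lib.Helper4.TCD_HNm_D18
import Cfsg.Agent.Lib.Helper4.TCD_HNm_D19
import Cfsg.Agent.Lib.Helper4.TCD_HNm_D20
import Cfsg.Agent.Lib.Helper4.TCD_HNm_D21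
import Cfsg.Agent.Lib.Helper4.TCD_HNm_D22
import Cfsg.Agent.Lib.Helper4.TCD_HNm_D23
import Cfsg.Agent.Lib.Helper4.TCD_HNm_D24
import Cfsg.Agent.Lib.Helper4.TCD_HNm_D25
import Cfsg.Agent.Lib.Helper4.TCD_HNm_D26
import Cfsg.Agent.Lib.Helper4.TCD_HNm_D27
import Cfsg.Agent.Lib.Helper4.TCD_HNm_D28
import Cfsg.Agent.Lib.Helper4.TCD_HNm_D29
import Cfsg.Agent.Lib.Helper4.TCD_HNm_D30
import Cfsg.Agent.Lib.Helper4.TCD_HNm_D31
import Cfsg.Agent.Lib.Helper4.TCD_HNm_D32
import Cfsg.Agent.Lib.Helper4.TCD_HNm_D33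
import Cfsg.Agent.Lib.Helper4.TCD_HNm_D34
import Cfsg.Agent.Lib.Helper4.TCD_HNm_D35
import Cfsg.Agent.Lib.Helper4.TCD_HNm_D36
import Cfsg.Agent.Lib.Helper4.TCD_HNm_D37
import Cfsg.Agent.Lib.Helper4.TCD_HNm_D38
import Cfsg.Agent.Lib.Helper4.TCD_HNm_D39
import Cfsg.Agent.Lib.Helper4.TCD_HNm_D40
import Cfsg.Agent.Lib.Helper4.TCD_HNm_D41
import Cfsg.Agent.Lib.Helper4.TCD_HNm_D42
import Cfsg.Agent.Lib.Helper4.TCD_HNm_D43
import Cfsg.Agent.Lib.Helper4.TCD_HNm_D44
import Cfsg.Agent.Lib.Helper4.TCD_HNm_D45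
import Cfsg.Agent.Lib.Helper4.TCD_HNm_D46
import Cfsg.Agent.Lib.Helper4.TCD_HNm_D47
import Cfsg.Agent.Lib.Helper4.TCD_HNm_D48
import Cfsg.Agent.Lib.Helper4.TCD_HNm_D49
import Cfsg.Agent.Lib.Helper4.TCD_HNm_D50
import Cfsg.Agent.Lib.Helper4.TCD_HNm_D51
import Cfsg.Agent.Lib.Helper4.TCD_HNm_D52
import Cfsg.Agent.Lib.Helper4.TCD_HNm_D53
import Cfsg.Agent.Lib.Helper4.TCD_HNm_D54
import Cfsg.Agent.Lib.Helper4.TCD_HNm_D55
import Cfsg.Agent.Lib.Helper4.TCD_HNm_D56
import Cfsg.Agent.Lib.Helper4.TCD_HNm_D57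
import Cfsg.Agent.Lib.Helper4.TCD_HNm_D58
import Cfsg.Agent.Lib.Helper4.TCD_HNm_D59
import Cfsg.Agent.Lib.Helper4.TCD_HNm_D60
import Cfsg.Agent.Lib.Helper4.TCD_HNm_D61
import Cfsg.Agent.Lib.Helper4.TCD_HNm_D62
import Cfsg.Agent.Lib.Helper4.TCD_HNm_D63
import Cfsg.Agent.Lib.Helper4.TCD_HNm_D64
import Cfsg.Agent.Lib.Helper4.TCD_HNm_D65
import Cfsg.Agent.Lib.Helper4.TCD_HNm_D66
import Cfsg.Agent.Lib.Helper4.TCD_HNm_D67
import Cfsg.Agent.Lib.Helper4.TCD_HNm_D68
import Cfsg.Agent.Lib.Helper4.TCD_HNm_D69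
import Cfsg.Agent.Lib.Helper4.TCD_HNm_D70
import Cfsg.Agent.Lib.Helper4.TCD_HNm_D71
import Cfsg.Agent.Lib.Helper4.TCD_HNm_D72
import Cfsg.Agent.Lib.Helper4.TCD_HNm_D73
import Cfsg.Agent.Lib.Helper4.TCD_HNm_D74
import Cfsg.Agent.Lib.Helper4.TCD_HNm_D75
import Cfsg.Agent.Lib.Helper4.TCD_HNm_D76
import Cfsg.Agent.Lib.Helper4.TCD_HNm_D77
import Cfsg.Agent.Lib.Helper4.TCD_HNm_D78
import Cfsg.Agent.Lib.Helper4.TCD_HNm_D79
import Cfsg.Agent.Lib.Helper4.TCD_HNm_D80
import Cfsg.Agent.Lib.Helper4.TCD_HNm_D81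
import Cfsg.Agent.Lib.Helper4.TCD_HNm_D82
import Cfsg.Agent.Lib.Helper4.TCD_HNm_D83
import Cfsg.Agent.Lib.Helper4.TCD_HNm_D84
import Cfsg.Agent.Lib.Helper4.TCD_HNm_D85
import Cfsg.Agent.Lib.Helper4.TCD_HNm_D86
import Cfsg.Agent.Lib.Helper4.TCD_HNm_D87
import Cfsg.Agent.Lib.Helper4.TCD_HNm_D88
import Cfsg.Agent.Lib.Helper4.TCD_HNm_D89
import Cfsg.Agent.Lib.Helper4.TCD_HNm_D90
import Cfsg.Agent.Lib.Helper4.TCD_HNm_D91
import Cfsg.Agent.Lib.Helper4.TCD_HNm_D92
import Cfsg.Agent.Lib.Helper4.TCD_HNm_D93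
import Cfsg.Agent.Lib.Helper4.TCD_HNm_D94
import Cfsg.Agent.Lib.Helper4.TCD_HNm_D95
import Cfsg.Agent.Lib.Helper4.TCD_HNm_D96
import Cfsg.Agent.Lib.Helper4.TCD_HNm_D97
import Cfsg.Agent.Lib.Helper4.TCD_HNm_D98
import Cfsg.Agent.Lib.Helper4.TCD_HNm_D99
import Cfsg.Agent.Lib.Helper4.TCD_HNm_D100
import Cfsg.Agent.Lib.Helper4.TCD_HNm_D101
import Cfsg.Agent.Lib.Helper4.TCD_HNm_D102
import Cfsg.Agent.Lib.Helper4.TCD_HNm_D103
import Cfsg.Agent.Lib.Helper4.TCD_HNm_D104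
import Cfsg.Agent.Lib.Helper4.TCD_HNm_D105
import Cfsg.Agent.Lib.Helper4.TCD_HNm_D106
import Cfsg.Agent.Lib.Helper4.TCD_HNm_D107
import Cfsg.Agent.Lib.Helper4.TCD_HNm_D108
import Cfsg.Agent.Lib.Helper4.TCD_HNm_D109
import Cfsg.Agent.Lib.Helper4.TCD_HNm_D110
import Cfsg.Agent.Lib.Helper4.TCD_HNm_D111
import Cfsg.Agent.Lib.Helper4.TCD_HNm_D112
import Cfsg.Agent.Lib.Helper4.TCD_HNm_D113
import Cfsg.Agent.Lib.Helper4.TCD_HNm_D114
import Cfsg.Agent.Lib.Helper4.TCD_HNm_D115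
import Cfsg.Agent.Lib.Helper4.TCD_HNm_D116
import Cfsg.Agent.Lib.Helper4.TCD_HNm_D117
import Cfsg.Agent.Lib.Helper4.TCD_HNm_D118
import Cfsg.Agent.Lib.Helper4.TCD_HNm_D119
import Cfsg.Agent.Lib.Helper4.TCD_HNm_D120
import Cfsg.Agent.Lib.Helper4.TCD_HNm_D121
import Cfsg.Agent.Lib.Helper4.TCD_HNm_D122
import Cfsg.Agent.Lib.Helper4.TCD_HNm_D123
import Cfsg.Agent.Lib.Helper4.TCD_HNm_D124
import Cfsg.Agent.Lib.Helper4.TCD_HNm_D125
import Cfsg.Agent.Lib.Helper4.TCD_HNm_D126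
import Cfsg.Agent.Lib.Helper4.TCD_HNm_D127
import Cfsg.Agent.Lib.Helper4.TCD_HNm_D128
import Cfsg.Agent.Lib.Helper4.TCD_HNm_D129
import Cfsg.Agent.Lib.Helper4.TCD_HNm_D130
import Cfsg.Agent.Lib.Helper4.TCD_HNm_D131
import Cfsg.Agent.Lib.Helper4.TCD_HNm_D132
import Cfsg.Agent.Lib.Helper4.TCD_HNm_D133
import Cfsg.Agent.Lib.Helper4.TCD_HNm_D134
import Cfsg.Agent.Lib.Helper4.TCD_HNm_D135
import Cfsg.Agent.Lib.Helper4.TCD_HNm_D136
import Cfsg.Agent.Lib.Helper4.TCD_HNm_D137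
import Cfsg.Agent.Lib.Helper4.TCD_HNm_D138
import Cfsg.Agent.Lib.Helper4.TCD_HNm_D139
import Cfsg.Agent.Lib.Helper4.TCD_HNm_D140
import Cfsg.Agent.Lib.Helper4.TCD_HNm_D141
import Cfsg.Agent.Lib.Helper4.TCD_HNm_D142
import Cfsg.Agent.Lib.Helper4.TCD_HNm_D143
import Cfsg.Agent.Lib.Helper4.TCD_HNm_D144
import Cfsg.Agent.Lib.Helper4.TCD_HNm_D145
import Cfsg.Agent.Lib.Helper4.TCD_HNm_D146
import Cfsg.Agent.Lib.Helper4.TCD_HNm_D147
import Cfsg.Agent.Lib.Helper4.TCD_HNm_D148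
import Cfsg.Agent.Lib.Helper4.TCD_HNm_D149
import Cfsg.Agent.Lib.Helper4.TCD_HNm_D150
import Cfsg.Agent.Lib.Helper4.TCD_HNm_D151
import Cfsg.Agent.Lib.Helper4.TCD_HNm_D152
import Cfsg.Agent.Lib.Helper4.TCD_HNm_D153
import Cfsg.Agent.Lib.Helper4.TCD_HNm_D154
import Cfsg.Agent.Lib.Helper4.TCD_HNm_D155
import Cfsg.Agent.Lib.Helper4.TCD_HNm_D156
import Cfsg.Agent.Lib.Helper4.TCD_HNm_D157
import Cfsg.Agent.Lib.Helper4.TCD_HNm_D158
import Cfsg.Agent.Lib.Helper4.TCD_HNm_D159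
import Cfsg.Agent.Lib.Helper4.TCD_HNm_D160
import Cfsg.Agent.Lib.Helper4.TCD_HNm_D161
import Cfsg.Agent.Lib.Helper4.TCD_HNm_D162
import Cfsg.Agent.Lib.Helper4.TCD_HNm_D163
import Cfsg.Agent.Lib.Helper4.TCD_HNm_D164
import Cfsg.Agent.Lib.Helper4.TCD_HNm_D165
import Cfsg.Agent.Lib.Helper4.TCD_HNm_D166
import Cfsg.Agent.Lib.Helper4.TCD_HNm_D167
import Cfsg.Agent.Lib.Helper4.TCD_HNm_D168
import Cfsg.Agent.Lib.Helper4.TCD_HNm_D169
import Cfsg.Agent.Lib.Helper4.TCD_HNm_D170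
import Cfsg.Agent.Lib.Helper4.TCD_HNm_D171
import Cfsg.Agent.Lib.Helper4.TCD_HNm_D172
import Cfsg.Agent.Lib.Helper4.TCD_HNm_D173
import Cfsg.Agent.Lib.Helper4.TCD_HNm_D174
import Cfsg.Agent.Lib.Helper4.TCD_HNm_D175
import Cfsg.Agent.Lib.Helper4.TCD_HNm_D176
import Cfsg.Agent.Lib.Helper4.TCD_HNm_D177
import Cfsg.Agent.Lib.Helper4.TCD_HNm_D178
import Cfsg.Agent.Lib.Helper4.TCD_HNm_D179
import Cfsg.Agent.Lib.Helper4.TCD_HNm_D180
import Cfsg.Agent.Lib.Helper4.TCD_HNm_D181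
import Cfsg.Agent.Lib.Helper4.TCD_HNm_D182
import Cfsg.Agent.Lib.Helper4.TCD_HNm_D183
import Cfsg.Agent.Lib.Helper4.TCD_HNm_D184
import Cfsg.Agent.Lib.Helper4.TCD_HNm_D185
import Cfsg.Agent.Lib.Helper4.TCD_HNm_D186
import Cfsg.Agent.Lib.Helper4.TCD_HNm_D187
import Cfsg.Agent.Lib.Helper4.TCD_HNm_D188
import Cfsg.Agent.Lib.Helper4.TCD_HNm_D189
import Cfsg.Agent.Lib.Helper4.TCD_HNm_D190
import Cfsg.Agent.Lib.Helper4.TCD_HNm_D191
import Cfsg.Agent.Lib.Helper4.TCD_HNm_D192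
import Cfsg.Agent.Lib.Helper4.TCD_HNm_D193
import Cfsg.Agent.Lib.Helper4.TCD_HNm_D194
import Cfsg.Agent.Lib.Helper4.TCD_HNm_D195
import Cfsg.Agent.Lib.Helper4.TCD_HNm_D196
import Cfsg.Agent.Lib.Helper4.TCD_HNm_D197
import Cfsg.Agent.Lib.Helper4.TCD_HNm_D198
import Cfsg.Agent.Lib.Helper4.TCD_HNm_D199
import Cfsg.Agent.Lib.Helper4.TCD_HNm_D200
import Cfsg.Agent.Lib.Helper4.TCD_HNm_D201
import Cfsg.Agent.Lib.Helper4.TCD_HNm_D202
import Cfsg.Agent.Lib.Helper4.TCD_HNm_D203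
import Cfsg.Agent.Lib.Helper4.TCD_HNm_D204
import Cfsg.Agent.Lib.Helper4.TCD_HNm_D205
import Cfsg.Agent.Lib.Helper4.TCD_HNm_D206
import Cfsg.Agent.Lib.Helper4.TCD_HNm_D207
import Cfsg.Agent.Lib.Helper4.TCD_HNm_D208
import Cfsg.Agent.Lib.Helper4.TCD_HNm_D209
import Cfsg.Agent.Lib.Helper4.TCD_HNm_D210
import Cfsg.Agent.Lib.Helper4.TCD_HNm_D211
import Cfsg.Agent.Lib.Helper4.TCD_HNm_D212
import Cfsg.Agent.Lib.Helper4.TCD_HNm_D213
import Cfsg.Agent.Lib.Helper4.TCD_HNm_D214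
import Cfsg.Agent.Lib.Helper4.TCD_HNm_D215
import Cfsg.Agent.Lib.Helper4.TCD_HNm_D216
import Cfsg.Agent.Lib.Helper4.TCD_HNm_D217
import Cfsg.Agent.Lib.Helper4.TCD_HNm_D218
import Cfsg.Agent.Lib.Helper4.TCD_HNm_D219
import Cfsg.Agent.Lib.Helper4.TCD_HNm_D220
import Cfsg.Agent.Lib.Helper4.TCD_HNm_D221
import Cfsg.Agent.Lib.Helper4.TCD_HNm_D222
import Cfsg.Agent.Lib.Helper4.TCD_HNm_D223
import Cfsg.Agent.Lib.Helper4.TCD_HNm_D224
import Cfsg.Agent.Lib.Helper4.TCD_HNm_D225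
import Cfsg.Agent.Lib.Helper4.TCD_HNm_D226
import Cfsg.Agent.Lib.Helper4.TCD_HNm_D227
import Cfsg.Agent.Lib.Helper4.TCD_HNm_D228
import Cfsg.Agent.Lib.Helper4.TCD_HNm_D229
import Cfsg.Agent.Lib.Helper4.TCD_HNm_D230
import Cfsg.Agent.Lib.Helper4.TCD_HNm_D231
import Cfsg.Agent.Lib.Helper4.TCD_HNm_D232
import Cfsg.Agent.Lib.Helper4.TCD_HNm_D233
import Cfsg.Agent.Lib.Helper4.TCD_HNm_D234
import Cfsg.Agent.Lib.Helper4.TCD_HNm_D235
import Cfsg.Agent.Lib.Helper4.TCD_HNm_D236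
import Cfsg.Agent.Lib.Helper4.TCD_HNm_D237
import Cfsg.Agent.Lib.Helper4.TCD_HNm_D238
import Cfsg.Agent.Lib.Helper4.TCD_HNm_D239
import Cfsg.Agent.Lib.Helper4.TCD_HNm_D240
import Cfsg.Agent.Lib.Helper4.TCD_HNm_D241
import Cfsg.Agent.Lib.Helper4.TCD_HNm_D242
import Cfsg.Agent.Lib.Helper4.TCD_HNm_D243
import Cfsg.Agent.Lib.Helper4.TCD_HNm_D244
import Cfsg.Agent.Lib.Helper4.TCD_HNm_D245
import Cfsg.Agent.Lib.Helper4.TCD_HNm_D246
import Cfsg.Agent.Lib.Helper4.TCD_HNm_D247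
import Cfsg.Agent.Lib.Helper4.TCD_HNm_D248
import Cfsg.Agent.Lib.Helper4.TCD_HNm_D249
import Cfsg.Agent.Lib.Helper4.TCD_HNm_D250
import Cfsg.Agent.Lib.Helper4.TCD_HNm_D251
import Cfsg.Agent.Lib.Helper4.TCD_HNm_D252
import Cfsg.Agent.Lib.Helper4.TCD_HNm_D253
import Cfsg.Agent.Lib.Helper4.TCD_HNm_D254
import Cfsg.Agent.Lib.Helper4.TCD_HNm_D255
import Cfsg.Agent.Lib.Helper4.TCD_HNm_D256
import Cfsg.Agent.Lib.Helper4.TCD_HNm_D257
import Cfsg.Agent.Lib.Helper4.TCD_HNm_D258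
import Cfsg.Agent.Lib.Helper4.TCD_HNm_D259
import Cfsg.Agent.Lib.Helper4.TCD_HNm_D260
import Cfsg.Agent.Lib.Helper4.TCD_HNm_D261
import Cfsg.Agent.Lib.Helper4.TCD_HNm_D262
import Cfsg.Agent.Lib.Helper4.TCD_HNm_D263
import Cfsg.Agent.Lib.Helper4.TCD_HNm_D264
import Cfsg.Agent.Lib.Helper4.TCD_HNm_D265
import Cfsg.Agent.Lib.Helper4.TCD_HNm_D266
import Cfsg.Agent.Lib.Helper4.TCD_HNm_D267
import Cfsg.Agent.Lib.Helper4.TCD_HNm_D268
import Cfsg.Agent.Lib.Helper4.TCD_HNm_D269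
import Cfsg.Agent.Lib.Helper4.TCD_HNm_D270
import Cfsg.Agent.Lib.Helper4.TCD_HNm_D271
import Cfsg.Agent.Lib.Helper4.TCD_HNm_D272
import Cfsg.Agent.Lib.Helper4.TCD_HNm_D273
import Cfsg.Agent.Lib.Helper4.TCD_HNm_D274
import Cfsg.Agent.Lib.Helper4.TCD_HNm_D275
import Cfsg.Agent.Lib.Helper4.TCD_HNm_D276
import Cfsg.Agent.Lib.Helper4.TCD_HNm_D277
import Cfsg.Agent.Lib.Helper4.TCD_HNm_D278
import Cfsg.Agent.Lib.Helper4.TCD_HNm_D279
import Cfsg.Agent.Lib.Helper4.TCD_HNm_D280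
import Cfsg.Agent.Lib.Helper4.TCD_HNm_D281
import Cfsg.Agent.Lib.Helper4.TCD_HNm_D282
import Cfsg.Agent.Lib.Helper4.TCD_HNm_D283
import Cfsg.Agent.Lib.Helper4.TCD_HNm_D284
import Cfsg.Agent.Lib.Helper4.TCD_HNm_D285
import Cfsg.Agent.Lib.Helper4.TCD_HNm_D286
import Cfsg.Agent.Lib.Helper4.TCD_HNm_D287
import Cfsg.Agent.Lib.Helper4.TCD_HNm_D288
import Cfsg.Agent.Lib.Helper4.TCD_HNm_D289
import Cfsg.Agent.Lib.Helper4.TCD_HNm_D290
import Cfsg.Agent.Lib.Helper4.TCD_HNm_D291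
import Cfsg.Agent.Lib.Helper4.TCD_HNm_D292
import Cfsg.Agent.Lib.Helper4.TCD_HNm_D293
import Cfsg.Agent.Lib.Helper4.TCD_HNm_D294
import Cfsg.Agent.Lib.Helper4.TCD_HNm_D295
import Cfsg.Agent.Lib.Helper4.TCD_HNm_D296
import Cfsg.Agent.Lib.Helper4.TCD_HNm_D297
import Cfsg.Agent.Lib.Helper4.TCD_HNm_D298
import Cfsg.Agent.Lib.Helper4.TCD_HNm_D299
import Cfsg.Agent.Lib.Helper4.TCD_HNm_D300
import Cfsg.Agent.Lib.Helper4.TCD_HNm_D301
import Cfsg.Agent.Lib.Helper4.TCD_HNm_D302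
import Cfsg.Agent.Lib.Helper4.TCD_HNm_D303
import Cfsg.Agent.Lib.Helper4.TCD_HNm_D304
import Cfsg.Agent.Lib.Helper4.TCD_HNm_D305
import Cfsg.Agent.Lib.Helper4.TCD_HNm_D306
import Cfsg.Agent.Lib.Helper4.TCD_HNm_D307
import Cfsg.Agent.Lib.Helper4.TCD_HNm_D308
import Cfsg.Agent.Lib.Helper4.TCD_HNm_D309
import Cfsg.Agent.Lib.Helper4.TCD_HNm_D310
import Cfsg.Agent.Lib.Helper4.TCD_HNm_D311
import Cfsg.Agent.Lib.Helper4.TCD_HNm_D312
import Cfsg.Agent.Lib.Helper4.TCD_HNm_D313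
import Cfsg.Agent.Lib.Helper4.TCD_HNm_D314
import Cfsg.Agent.Lib.Helper4.TCD_HNm_D315
import Cfsg.Agent.Lib.Helper4.TCD_HNm_D316
import Cfsg.Agent.Lib.Helper4.TCD_HNm_D317
import Cfsg.Agent.Lib.Helper4.TCD_HNm_D318
import Cfsg.Agent.Lib.Helper4.TCD_HNm_D319
import Cfsg.Agent.Lib.Helper4.TCD_HNm_D320
import Cfsg.Agent.Lib.Helper4.TCD_HNm_D321
import Cfsg.Agent.Lib.Helper4.TCD_HNm_D322
import Cfsg.Agent.Lib.Helper4.TCD_HNm_D323
import Cfsg.Agent.Lib.Helper4.TCD_HNm_D324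
import Cfsg.Agent.Lib.Helper4.TCD_HNm_D325
import Cfsg.Agent.Lib.Helper4.TCD_HNm_D326
import Cfsg.Agent.Lib.Helper4.TCD_HNm_D327
import Cfsg.Agent.Lib.Helper4.TCD_HNm_D328
import Cfsg.Agent.Lib.Helper4.TCD_HNm_D329

namespace Cfsg.Agent.Lib.Helper4.TCD.HNm

open Cfsg.Agent.Lib.Helper4.TC

set_option maxRecDepth 100000

noncomputable def Atab_s_1_3 (c : Nat) : Nat := @Bool.rec (fun _ => Nat) (Atab_1) (Atab_2) (Nat.ble 2 c)
noncomputable def Atab_s_0_3 (c : Nat) : Nat := @Bool.rec (fun _ => Nat) (Atab_0) (Atab_s_1_3 c) (Nat.ble 1 c)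
noncomputable def Atab_s_4_6 (c : Nat) : Nat := @Bool.rec (fun _ => Nat) (Atab_4) (Atab_5) (Nat.ble 5 c)
noncomputable def Atab_s_3_6 (c : Nat) : Nat := @Bool.rec (fun _ => Nat) (Atab_3) (Atab_s_4_6 c) (Nat.ble 4 c)
noncomputable def Atab_s_0_6 (c : Nat) : Nat := @Bool.rec (fun _ => Nat) (Atab_s_0_3 c) (Atab_s_3_6 c) (Nat.ble 3 c)
noncomputable def Atab_s_7_9 (c : Nat) : Nat := @Bool.rec (fun _ => Nat) (Atab_7) (Atab_8) (Nat.ble 8 c)
noncomputable def Atab_s_6_9 (c : Nat) : Nat := @Bool.rec (fun _ => Nat) (Atab_6) (Atab_s_7_9 c) (Nat.ble 7 c)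
noncomputable def Atab_s_10_12 (c : Nat) : Nat := @Bool.rec (fun _ => Nat) (Atab_10) (Atab_11) (Nat.ble 11 c)
noncomputable def Atab_s_9_12 (c : Nat) : Nat := @Bool.rec (fun _ => Nat) (Atab_9) (Atab_s_10_12 c) (Nat.ble 10 c)
noncomputable def Atab_s_6_12 (c : Nat) : Nat := @Bool.rec (fun _ => Nat) (Atab_s_6_9 c) (Atab_s_9_12 c) (Nat.ble 9 c)
noncomputable def Atab_s_0_12 (c : Nat) : Nat := @Bool.rec (fun _ => Nat) (Atab_s_0_6 c) (Atab_s_6_12 c) (Nat.ble 6 c)
noncomputable def Atab_s_13_15 (c : Nat) : Nat := @Bool.rec (fun _ => Nat) (Atab_13) (Atab_14) (Nat.ble 14 c)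
noncomputable def Atab_s_12_15 (c : Nat) : Nat := @Bool.rec (fun _ => Nat) (Atab_12) (Atab_s_13_15 c) (Nat.ble 13 c)
noncomputable def Atab_s_16_18 (c : Nat) : Nat := @Bool.rec (fun _ => Nat) (Atab_16) (Atab_17) (Nat.ble 17 c)
noncomputable def Atab_s_15_18 (c : Nat) : Nat := @Bool.rec (fun _ => Nat) (Atab_15) (Atab_s_16_18 c) (Nat.ble 16 c)
noncomputable def Atab_s_12_18 (c : Nat) : Nat := @Bool.rec (fun _ => Nat) (Atab_s_12_15 c) (Atab_s_15_18 c) (Nat.ble 15 c)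
noncomputable def Atab_s_19_21 (c : Nat) : Nat := @Bool.rec (fun _ => Nat) (Atab_19) (Atab_20) (Nat.ble 20 c)
noncomputable def Atab_s_18_21 (c : Nat) : Nat := @Bool.rec (fun _ => Nat) (Atab_18) (Atab_s_19_21 c) (Nat.ble 19 c)
noncomputable def Atab_s_22_24 (c : Nat) : Nat := @Bool.rec (fun _ => Nat) (Atab_22) (Atab_23) (Nat.ble 23 c)
noncomputable def Atab_s_21_24 (c : Nat) : Nat := @Bool.rec (fun _ => Nat) (Atab_21) (Atab_s_22_24 c) (Nat.ble 22 c)
noncomputable def Atab_s_18_24 (c : Nat) : Nat := @Bool.rec (fun _ => Nat) (Atab_s_18_21 c) (Atab_s_21_24 c) (Nat.ble 21 c)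
noncomputable def Atab_s_12_24 (c : Nat) : Nat := @Bool.rec (fun _ => Nat) (Atab_s_12_18 c) (Atab_s_18_24 c) (Nat.ble 18 c)
noncomputable def Atab_s_0_24 (c : Nat) : Nat := @Bool.rec (fun _ => Nat) (Atab_s_0_12 c) (Atab_s_12_24 c) (Nat.ble 12 c)
noncomputable def Atab_s_25_27 (c : Nat) : Nat := @Bool.rec (fun _ => Nat) (Atab_25) (Atab_26) (Nat.ble 26 c)
noncomputable def Atab_s_24_27 (c : Nat) : Nat := @Bool.rec (fun _ => Nat) (Atab_24) (Atab_s_25_27 c) (Nat.ble 25 c)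
noncomputable def Atab_s_28_30 (c : Nat) : Nat := @Bool.rec (fun _ => Nat) (Atab_28) (Atab_29) (Nat.ble 29 c)
noncomputable def Atab_s_27_30 (c : Nat) : Nat := @Bool.rec (fun _ => Nat) (Atab_27) (Atab_s_28_30 c) (Nat.ble 28 c)
noncomputable def Atab_s_24_30 (c : Nat) : Nat := @Bool.rec (fun _ => Nat) (Atab_s_24_27 c) (Atab_s_27_30 c) (Nat.ble 27 c)
noncomputable def Atab_s_31_33 (c : Nat) : Nat := @Bool.rec (fun _ => Nat) (Atab_31) (Atab_32) (Nat.ble 32 c)
noncomputable def Atab_s_30_33 (c : Nat) : Nat := @Bool.rec (fun _ => Nat) (Atab_30) (Atab_s_31_33 c) (Nat.ble 31 c)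
noncomputable def Atab_s_34_36 (c : Nat) : Nat := @Bool.rec (fun _ => Nat) (Atab_34) (Atab_35) (Nat.ble 35 c)
noncomputable def Atab_s_33_36 (c : Nat) : Nat := @Bool.rec (fun _ => Nat) (Atab_33) (Atab_s_34_36 c) (Nat.ble 34 c)
noncomputable def Atab_s_30_36 (c : Nat) : Nat := @Bool.rec (fun _ => Nat) (Atab_s_30_33 c) (Atab_s_33_36 c) (Nat.ble 33 c)
noncomputable def Atab_s_24_36 (c : Nat) : Nat := @Bool.rec (fun _ => Nat) (Atab_s_24_30 c) (Atab_s_30_36 c) (Nat.ble 30 c)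
noncomputable def Atab_s_37_39 (c : Nat) : Nat := @Bool.rec (fun _ => Nat) (Atab_37) (Atab_38) (Nat.ble 38 c)
noncomputable def Atab_s_36_39 (c : Nat) : Nat := @Bool.rec (fun _ => Nat) (Atab_36) (Atab_s_37_39 c) (Nat.ble 37 c)
noncomputable def Atab_s_40_42 (c : Nat) : Nat := @Bool.rec (fun _ => Nat) (Atab_40) (Atab_41) (Nat.ble 41 c)
noncomputable def Atab_s_39_42 (c : Nat) : Nat := @Bool.rec (fun _ => Nat) (Atab_39) (Atab_s_40_42 c) (Nat.ble 40 c)
noncomputable def Atab_s_36_42 (c : Nat) : Nat := @Bool.rec (fun _ => Nat) (Atab_s_36_39 c) (Atab_s_39_42 c) (Nat.ble 39 c)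
noncomputable def Atab_s_43_45 (c : Nat) : Nat := @Bool.rec (fun _ => Nat) (Atab_43) (Atab_44) (Nat.ble 44 c)
noncomputable def Atab_s_42_45 (c : Nat) : Nat := @Bool.rec (fun _ => Nat) (Atab_42) (Atab_s_43_45 c) (Nat.ble 43 c)
noncomputable def Atab_s_45_47 (c : Nat) : Nat := @Bool.rec (fun _ => Nat) (Atab_45) (Atab_46) (Nat.ble 46 c)
noncomputable def Atab_s_47_49 (c : Nat) : Nat := @Bool.rec (fun _ => Nat) (Atab_47) (Atab_48) (Nat.ble 48 c)
noncomputable def Atab_s_45_49 (c : Nat) : Nat := @Bool.rec (fun _ => Nat) (Atab_s_45_47 c) (Atab_s_47_49 c) (Nat.ble 47 c)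
noncomputable def Atab_s_42_49 (c : Nat) : Nat := @Bool.rec (fun _ => Nat) (Atab_s_42_45 c) (Atab_s_45_49 c) (Nat.ble 45 c)
noncomputable def Atab_s_36_49 (c : Nat) : Nat := @Bool.rec (fun _ => Nat) (Atab_s_36_42 c) (Atab_s_42_49 c) (Nat.ble 42 c)
noncomputable def Atab_s_24_49 (c : Nat) : Nat := @Bool.rec (fun _ => Nat) (Atab_s_24_36 c) (Atab_s_36_49 c) (Nat.ble 36 c)
noncomputable def Atab_s_0_49 (c : Nat) : Nat := @Bool.rec (fun _ => Nat) (Atab_s_0_24 c) (Atab_s_24_49 c) (Nat.ble 24 c)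
noncomputable def Atab_s_50_52 (c : Nat) : Nat := @Bool.rec (fun _ => Nat) (Atab_50) (Atab_51) (Nat.ble 51 c)
noncomputable def Atab_s_49_52 (c : Nat) : Nat := @Bool.rec (fun _ => Nat) (Atab_49) (Atab_s_50_52 c) (Nat.ble 50 c)
noncomputable def Atab_s_53_55 (c : Nat) : Nat := @Bool.rec (fun _ => Nat) (Atab_53) (Atab_54) (Nat.ble 54 c)
noncomputable def Atab_s_52_55 (c : Nat) : Nat := @Bool.rec (fun _ => Nat) (Atab_52) (Atab_s_53_55 c) (Nat.ble 53 c)
noncomputable def Atab_s_49_55 (c : Nat) : Nat := @Bool.rec (fun _ => Nat) (Atab_s_49_52 c) (Atab_s_52_55 c) (Nat.ble 52 c)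
noncomputable def Atab_s_56_58 (c : Nat) : Nat := @Bool.rec (fun _ => Nat) (Atab_56) (Atab_57) (Nat.ble 57 c)
noncomputable def Atab_s_55_58 (c : Nat) : Nat := @Bool.rec (fun _ => Nat) (Atab_55) (Atab_s_56_58 c) (Nat.ble 56 c)
noncomputable def Atab_s_59_61 (c : Nat) : Nat := @Bool.rec (fun _ => Nat) (Atab_59) (Atab_60) (Nat.ble 60 c)
noncomputable def Atab_s_58_61 (c : Nat) : Nat := @Bool.rec (fun _ => Nat) (Atab_58) (Atab_s_59_61 c) (Nat.ble 59 c)
noncomputable def Atab_s_55_61 (c : Nat) : Nat := @Bool.rec (fun _ => Nat) (Atab_s_55_58 c) (Atab_s_58_61 c) (Nat.ble 58 c)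
noncomputable def Atab_s_49_61 (c : Nat) : Nat := @Bool.rec (fun _ => Nat) (Atab_s_49_55 c) (Atab_s_55_61 c) (Nat.ble 55 c)
noncomputable def Atab_s_62_64 (c : Nat) : Nat := @Bool.rec (fun _ => Nat) (Atab_62) (Atab_63) (Nat.ble 63 c)
noncomputable def Atab_s_61_64 (c : Nat) : Nat := @Bool.rec (fun _ => Nat) (Atab_61) (Atab_s_62_64 c) (Nat.ble 62 c)
noncomputable def Atab_s_65_67 (c : Nat) : Nat := @Bool.rec (fun _ => Nat) (Atab_65) (Atab_66) (Nat.ble 66 c)
noncomputable def Atab_s_64_67 (c : Nat) : Nat := @Bool.rec (fun _ => Nat) (Atab_64) (Atab_s_65_67 c) (Nat.ble 65 c)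
noncomputable def Atab_s_61_67 (c : Nat) : Nat := @Bool.rec (fun _ => Nat) (Atab_s_61_64 c) (Atab_s_64_67 c) (Nat.ble 64 c)
noncomputable def Atab_s_68_70 (c : Nat) : Nat := @Bool.rec (fun _ => Nat) (Atab_68) (Atab_69) (Nat.ble 69 c)
noncomputable def Atab_s_67_70 (c : Nat) : Nat := @Bool.rec (fun _ => Nat) (Atab_67) (Atab_s_68_70 c) (Nat.ble 68 c)
noncomputable def Atab_s_70_72 (c : Nat) : Nat := @Bool.rec (fun _ => Nat) (Atab_70) (Atab_71) (Nat.ble 71 c)
noncomputable def Atab_s_72_74 (c : Nat) : Nat := @Bool.rec (fun _ => Nat) (Atab_72) (Atab_73) (Nat.ble 73 c)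
noncomputable def Atab_s_70_74 (c : Nat) : Nat := @Bool.rec (fun _ => Nat) (Atab_s_70_72 c) (Atab_s_72_74 c) (Nat.ble 72 c)
noncomputable def Atab_s_67_74 (c : Nat) : Nat := @Bool.rec (fun _ => Nat) (Atab_s_67_70 c) (Atab_s_70_74 c) (Nat.ble 70 c)
noncomputable def Atab_s_61_74 (c : Nat) : Nat := @Bool.rec (fun _ => Nat) (Atab_s_61_67 c) (Atab_s_67_74 c) (Nat.ble 67 c)
noncomputable def Atab_s_49_74 (c : Nat) : Nat := @Bool.rec (fun _ => Nat) (Atab_s_49_61 c) (Atab_s_61_74 c) (Nat.ble 61 c)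
noncomputable def Atab_s_75_77 (c : Nat) : Nat := @Bool.rec (fun _ => Nat) (Atab_75) (Atab_76) (Nat.ble 76 c)
noncomputable def Atab_s_74_77 (c : Nat) : Nat := @Bool.rec (fun _ => Nat) (Atab_74) (Atab_s_75_77 c) (Nat.ble 75 c)
noncomputable def Atab_s_78_80 (c : Nat) : Nat := @Bool.rec (fun _ => Nat) (Atab_78) (Atab_79) (Nat.ble 79 c)
noncomputable def Atab_s_77_80 (c : Nat) : Nat := @Bool.rec (fun _ => Nat) (Atab_77) (Atab_s_78_80 c) (Nat.ble 78 c)
noncomputable def Atab_s_74_80 (c : Nat) : Nat := @Bool.rec (fun _ => Nat) (Atab_s_74_77 c) (Atab_s_77_80 c) (Nat.ble 77 c)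
noncomputable def Atab_s_81_83 (c : Nat) : Nat := @Bool.rec (fun _ => Nat) (Atab_81) (Atab_82) (Nat.ble 82 c)
noncomputable def Atab_s_80_83 (c : Nat) : Nat := @Bool.rec (fun _ => Nat) (Atab_80) (Atab_s_81_83 c) (Nat.ble 81 c)
noncomputable def Atab_s_84_86 (c : Nat) : Nat := @Bool.rec (fun _ => Nat) (Atab_84) (Atab_85) (Nat.ble 85 c)
noncomputable def Atab_s_83_86 (c : Nat) : Nat := @Bool.rec (fun _ => Nat) (Atab_83) (Atab_s_84_86 c) (Nat.ble 84 c)
noncomputable def Atab_s_80_86 (c : Nat) : Nat := @Bool.rec (fun _ => Nat) (Atab_s_80_83 c) (Atab_s_83_86 c) (Nat.ble 83 c)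
noncomputable def Atab_s_74_86 (c : Nat) : Nat := @Bool.rec (fun _ => Nat) (Atab_s_74_80 c) (Atab_s_80_86 c) (Nat.ble 80 c)
noncomputable def Atab_s_87_89 (c : Nat) : Nat := @Bool.rec (fun _ => Nat) (Atab_87) (Atab_88) (Nat.ble 88 c)
noncomputable def Atab_s_86_89 (c : Nat) : Nat := @Bool.rec (fun _ => Nat) (Atab_86) (Atab_s_87_89 c) (Nat.ble 87 c)
noncomputable def Atab_s_90_92 (c : Nat) : Nat := @Bool.rec (fun _ => Nat) (Atab_90) (Atab_91) (Nat.ble 91 c)
noncomputable def Atab_s_89_92 (c : Nat) : Nat := @Bool.rec (fun _ => Nat) (Atab_89) (Atab_s_90_92 c) (Nat.ble 90 c)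
noncomputable def Atab_s_86_92 (c : Nat) : Nat := @Bool.rec (fun _ => Nat) (Atab_s_86_89 c) (Atab_s_89_92 c) (Nat.ble 89 c)
noncomputable def Atab_s_93_95 (c : Nat) : Nat := @Bool.rec (fun _ => Nat) (Atab_93) (Atab_94) (Nat.ble 94 c)
noncomputable def Atab_s_92_95 (c : Nat) : Nat := @Bool.rec (fun _ => Nat) (Atab_92) (Atab_s_93_95 c) (Nat.ble 93 c)
noncomputable def Atab_s_95_97 (c : Nat) : Nat := @Bool.rec (fun _ => Nat) (Atab_95) (Atab_96) (Nat.ble 96 c)
noncomputable def Atab_s_97_99 (c : Nat) : Nat := @Bool.rec (fun _ => Nat) (Atab_97) (Atab_98) (Nat.ble 98 c)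
noncomputable def Atab_s_95_99 (c : Nat) : Nat := @Bool.rec (fun _ => Nat) (Atab_s_95_97 c) (Atab_s_97_99 c) (Nat.ble 97 c)
noncomputable def Atab_s_92_99 (c : Nat) : Nat := @Bool.rec (fun _ => Nat) (Atab_s_92_95 c) (Atab_s_95_99 c) (Nat.ble 95 c)
noncomputable def Atab_s_86_99 (c : Nat) : Nat := @Bool.rec (fun _ => Nat) (Atab_s_86_92 c) (Atab_s_92_99 c) (Nat.ble 92 c)
noncomputable def Atab_s_74_99 (c : Nat) : Nat := @Bool.rec (fun _ => Nat) (Atab_s_74_86 c) (Atab_s_86_99 c) (Nat.ble 86 c)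
noncomputable def Atab_s_49_99 (c : Nat) : Nat := @Bool.rec (fun _ => Nat) (Atab_s_49_74 c) (Atab_s_74_99 c) (Nat.ble 74 c)
noncomputable def Atab_s_0_99 (c : Nat) : Nat := @Bool.rec (fun _ => Nat) (Atab_s_0_49 c) (Atab_s_49_99 c) (Nat.ble 49 c)
noncomputable def Atab_s_100_102 (c : Nat) : Nat := @Bool.rec (fun _ => Nat) (Atab_100) (Atab_101) (Nat.ble 101 c)
noncomputable def Atab_s_99_102 (c : Nat) : Nat := @Bool.rec (fun _ => Nat) (Atab_99) (Atab_s_100_102 c) (Nat.ble 100 c)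
noncomputable def Atab_s_103_105 (c : Nat) : Nat := @Bool.rec (fun _ => Nat) (Atab_103) (Atab_104) (Nat.ble 104 c)
noncomputable def Atab_s_102_105 (c : Nat) : Nat := @Bool.rec (fun _ => Nat) (Atab_102) (Atab_s_103_105 c) (Nat.ble 103 c)
noncomputable def Atab_s_99_105 (c : Nat) : Nat := @Bool.rec (fun _ => Nat) (Atab_s_99_102 c) (Atab_s_102_105 c) (Nat.ble 102 c)
noncomputable def Atab_s_106_108 (c : Nat) : Nat := @Bool.rec (fun _ => Nat) (Atab_106) (Atab_107) (Nat.ble 107 c)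
noncomputable def Atab_s_105_108 (c : Nat) : Nat := @Bool.rec (fun _ => Nat) (Atab_105) (Atab_s_106_108 c) (Nat.ble 106 c)
noncomputable def Atab_s_109_111 (c : Nat) : Nat := @Bool.rec (fun _ => Nat) (Atab_109) (Atab_110) (Nat.ble 110 c)
noncomputable def Atab_s_108_111 (c : Nat) : Nat := @Bool.rec (fun _ => Nat) (Atab_108) (Atab_s_109_111 c) (Nat.ble 109 c)
noncomputable def Atab_s_105_111 (c : Nat) : Nat := @Bool.rec (fun _ => Nat) (Atab_s_105_108 c) (Atab_s_108_111 c) (Nat.ble 108 c)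
noncomputable def Atab_s_99_111 (c : Nat) : Nat := @Bool.rec (fun _ => Nat) (Atab_s_99_105 c) (Atab_s_105_111 c) (Nat.ble 105 c)
noncomputable def Atab_s_112_114 (c : Nat) : Nat := @Bool.rec (fun _ => Nat) (Atab_112) (Atab_113) (Nat.ble 113 c)
noncomputable def Atab_s_111_114 (c : Nat) : Nat := @Bool.rec (fun _ => Nat) (Atab_111) (Atab_s_112_114 c) (Nat.ble 112 c)
noncomputable def Atab_s_115_117 (c : Nat) : Nat := @Bool.rec (fun _ => Nat) (Atab_115) (Atab_116) (Nat.ble 116 c)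
noncomputable def Atab_s_114_117 (c : Nat) : Nat := @Bool.rec (fun _ => Nat) (Atab_114) (Atab_s_115_117 c) (Nat.ble 115 c)
noncomputable def Atab_s_111_117 (c : Nat) : Nat := @Bool.rec (fun _ => Nat) (Atab_s_111_114 c) (Atab_s_114_117 c) (Nat.ble 114 c)
noncomputable def Atab_s_118_120 (c : Nat) : Nat := @Bool.rec (fun _ => Nat) (Atab_118) (Atab_119) (Nat.ble 119 c)
noncomputable def Atab_s_117_120 (c : Nat) : Nat := @Bool.rec (fun _ => Nat) (Atab_117) (Atab_s_118_120 c) (Nat.ble 118 c)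
noncomputable def Atab_s_121_123 (c : Nat) : Nat := @Bool.rec (fun _ => Nat) (Atab_121) (Atab_122) (Nat.ble 122 c)
noncomputable def Atab_s_120_123 (c : Nat) : Nat := @Bool.rec (fun _ => Nat) (Atab_120) (Atab_s_121_123 c) (Nat.ble 121 c)
noncomputable def Atab_s_117_123 (c : Nat) : Nat := @Bool.rec (fun _ => Nat) (Atab_s_117_120 c) (Atab_s_120_123 c) (Nat.ble 120 c)
noncomputable def Atab_s_111_123 (c : Nat) : Nat := @Bool.rec (fun _ => Nat) (Atab_s_111_117 c) (Atab_s_117_123 c) (Nat.ble 117 c)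
noncomputable def Atab_s_99_123 (c : Nat) : Nat := @Bool.rec (fun _ => Nat) (Atab_s_99_111 c) (Atab_s_111_123 c) (Nat.ble 111 c)
noncomputable def Atab_s_124_126 (c : Nat) : Nat := @Bool.rec (fun _ => Nat) (Atab_124) (Atab_125) (Nat.ble 125 c)
noncomputable def Atab_s_123_126 (c : Nat) : Nat := @Bool.rec (fun _ => Nat) (Atab_123) (Atab_s_124_126 c) (Nat.ble 124 c)
noncomputable def Atab_s_127_129 (c : Nat) : Nat := @Bool.rec (fun _ => Nat) (Atab_127) (Atab_128) (Nat.ble 128 c)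
noncomputable def Atab_s_126_129 (c : Nat) : Nat := @Bool.rec (fun _ => Nat) (Atab_126) (Atab_s_127_129 c) (Nat.ble 127 c)
noncomputable def Atab_s_123_129 (c : Nat) : Nat := @Bool.rec (fun _ => Nat) (Atab_s_123_126 c) (Atab_s_126_129 c) (Nat.ble 126 c)
noncomputable def Atab_s_130_132 (c : Nat) : Nat := @Bool.rec (fun _ => Nat) (Atab_130) (Atab_131) (Nat.ble 131 c)
noncomputable def Atab_s_129_132 (c : Nat) : Nat := @Bool.rec (fun _ => Nat) (Atab_129) (Atab_s_130_132 c) (Nat.ble 130 c)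
noncomputable def Atab_s_133_135 (c : Nat) : Nat := @Bool.rec (fun _ => Nat) (Atab_133) (Atab_134) (Nat.ble 134 c)
noncomputable def Atab_s_132_135 (c : Nat) : Nat := @Bool.rec (fun _ => Nat) (Atab_132) (Atab_s_133_135 c) (Nat.ble 133 c)
noncomputable def Atab_s_129_135 (c : Nat) : Nat := @Bool.rec (fun _ => Nat) (Atab_s_129_132 c) (Atab_s_132_135 c) (Nat.ble 132 c)
noncomputable def Atab_s_123_135 (c : Nat) : Nat := @Bool.rec (fun _ => Nat) (Atab_s_123_129 c) (Atab_s_129_135 c) (Nat.ble 129 c)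
noncomputable def Atab_s_136_138 (c : Nat) : Nat := @Bool.rec (fun _ => Nat) (Atab_136) (Atab_137) (Nat.ble 137 c)
noncomputable def Atab_s_135_138 (c : Nat) : Nat := @Bool.rec (fun _ => Nat) (Atab_135) (Atab_s_136_138 c) (Nat.ble 136 c)
noncomputable def Atab_s_139_141 (c : Nat) : Nat := @Bool.rec (fun _ => Nat) (Atab_139) (Atab_140) (Nat.ble 140 c)
noncomputable def Atab_s_138_141 (c : Nat) : Nat := @Bool.rec (fun _ => Nat) (Atab_138) (Atab_s_139_141 c) (Nat.ble 139 c)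
noncomputable def Atab_s_135_141 (c : Nat) : Nat := @Bool.rec (fun _ => Nat) (Atab_s_135_138 c) (Atab_s_138_141 c) (Nat.ble 138 c)
noncomputable def Atab_s_142_144 (c : Nat) : Nat := @Bool.rec (fun _ => Nat) (Atab_142) (Atab_143) (Nat.ble 143 c)
noncomputable def Atab_s_141_144 (c : Nat) : Nat := @Bool.rec (fun _ => Nat) (Atab_141) (Atab_s_142_144 c) (Nat.ble 142 c)
noncomputable def Atab_s_144_146 (c : Nat) : Nat := @Bool.rec (fun _ => Nat) (Atab_144) (Atab_145) (Nat.ble 145 c)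
noncomputable def Atab_s_146_148 (c : Nat) : Nat := @Bool.rec (fun _ => Nat) (Atab_146) (Atab_147) (Nat.ble 147 c)
noncomputable def Atab_s_144_148 (c : Nat) : Nat := @Bool.rec (fun _ => Nat) (Atab_s_144_146 c) (Atab_s_146_148 c) (Nat.ble 146 c)
noncomputable def Atab_s_141_148 (c : Nat) : Nat := @Bool.rec (fun _ => Nat) (Atab_s_141_144 c) (Atab_s_144_148 c) (Nat.ble 144 c)
noncomputable def Atab_s_135_148 (c : Nat) : Nat := @Bool.rec (fun _ => Nat) (Atab_s_135_141 c) (Atab_s_141_148 c) (Nat.ble 141 c)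
noncomputable def Atab_s_123_148 (c : Nat) : Nat := @Bool.rec (fun _ => Nat) (Atab_s_123_135 c) (Atab_s_135_148 c) (Nat.ble 135 c)
noncomputable def Atab_s_99_148 (c : Nat) : Nat := @Bool.rec (fun _ => Nat) (Atab_s_99_123 c) (Atab_s_123_148 c) (Nat.ble 123 c)
noncomputable def Atab_s_149_151 (c : Nat) : Nat := @Bool.rec (fun _ => Nat) (Atab_149) (Atab_150) (Nat.ble 150 c)
noncomputable def Atab_s_148_151 (c : Nat) : Nat := @Bool.rec (fun _ => Nat) (Atab_148) (Atab_s_149_151 c) (Nat.ble 149 c)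
noncomputable def Atab_s_152_154 (c : Nat) : Nat := @Bool.rec (fun _ => Nat) (Atab_152) (Atab_153) (Nat.ble 153 c)
noncomputable def Atab_s_151_154 (c : Nat) : Nat := @Bool.rec (fun _ => Nat) (Atab_151) (Atab_s_152_154 c) (Nat.ble 152 c)
noncomputable def Atab_s_148_154 (c : Nat) : Nat := @Bool.rec (fun _ => Nat) (Atab_s_148_151 c) (Atab_s_151_154 c) (Nat.ble 151 c)
noncomputable def Atab_s_155_157 (c : Nat) : Nat := @Bool.rec (fun _ => Nat) (Atab_155) (Atab_156) (Nat.ble 156 c)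
noncomputable def Atab_s_154_157 (c : Nat) : Nat := @Bool.rec (fun _ => Nat) (Atab_154) (Atab_s_155_157 c) (Nat.ble 155 c)
noncomputable def Atab_s_158_160 (c : Nat) : Nat := @Bool.rec (fun _ => Nat) (Atab_158) (Atab_159) (Nat.ble 159 c)
noncomputable def Atab_s_157_160 (c : Nat) : Nat := @Bool.rec (fun _ => Nat) (Atab_157) (Atab_s_158_160 c) (Nat.ble 158 c)
noncomputable def Atab_s_154_160 (c : Nat) : Nat := @Bool.rec (fun _ => Nat) (Atab_s_154_157 c) (Atab_s_157_160 c) (Nat.ble 157 c)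
noncomputable def Atab_s_148_160 (c : Nat) : Nat := @Bool.rec (fun _ => Nat) (Atab_s_148_154 c) (Atab_s_154_160 c) (Nat.ble 154 c)
noncomputable def Atab_s_161_163 (c : Nat) : Nat := @Bool.rec (fun _ => Nat) (Atab_161) (Atab_162) (Nat.ble 162 c)
noncomputable def Atab_s_160_163 (c : Nat) : Nat := @Bool.rec (fun _ => Nat) (Atab_160) (Atab_s_161_163 c) (Nat.ble 161 c)
noncomputable def Atab_s_164_166 (c : Nat) : Nat := @Bool.rec (fun _ => Nat) (Atab_164) (Atab_165) (Nat.ble 165 c)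
noncomputable def Atab_s_163_166 (c : Nat) : Nat := @Bool.rec (fun _ => Nat) (Atab_163) (Atab_s_164_166 c) (Nat.ble 164 c)
noncomputable def Atab_s_160_166 (c : Nat) : Nat := @Bool.rec (fun _ => Nat) (Atab_s_160_163 c) (Atab_s_163_166 c) (Nat.ble 163 c)
noncomputable def Atab_s_167_169 (c : Nat) : Nat := @Bool.rec (fun _ => Nat) (Atab_167) (Atab_168) (Nat.ble 168 c)
noncomputable def Atab_s_166_169 (c : Nat) : Nat := @Bool.rec (fun _ => Nat) (Atab_166) (Atab_s_167_169 c) (Nat.ble 167 c)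
noncomputable def Atab_s_169_171 (c : Nat) : Nat := @Bool.rec (fun _ => Nat) (Atab_169) (Atab_170) (Nat.ble 170 c)
noncomputable def Atab_s_171_173 (c : Nat) : Nat := @Bool.rec (fun _ => Nat) (Atab_171) (Atab_172) (Nat.ble 172 c)
noncomputable def Atab_s_169_173 (c : Nat) : Nat := @Bool.rec (fun _ => Nat) (Atab_s_169_171 c) (Atab_s_171_173 c) (Nat.ble 171 c)
noncomputable def Atab_s_166_173 (c : Nat) : Nat := @Bool.rec (fun _ => Nat) (Atab_s_166_169 c) (Atab_s_169_173 c) (Nat.ble 169 c)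
noncomputable def Atab_s_160_173 (c : Nat) : Nat := @Bool.rec (fun _ => Nat) (Atab_s_160_166 c) (Atab_s_166_173 c) (Nat.ble 166 c)
noncomputable def Atab_s_148_173 (c : Nat) : Nat := @Bool.rec (fun _ => Nat) (Atab_s_148_160 c) (Atab_s_160_173 c) (Nat.ble 160 c)
noncomputable def Atab_s_174_176 (c : Nat) : Nat := @Bool.rec (fun _ => Nat) (Atab_174) (Atab_175) (Nat.ble 175 c)
noncomputable def Atab_s_173_176 (c : Nat) : Nat := @Bool.rec (fun _ => Nat) (Atab_173) (Atab_s_174_176 c) (Nat.ble 174 c)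
noncomputable def Atab_s_177_179 (c : Nat) : Nat := @Bool.rec (fun _ => Nat) (Atab_177) (Atab_178) (Nat.ble 178 c)
noncomputable def Atab_s_176_179 (c : Nat) : Nat := @Bool.rec (fun _ => Nat) (Atab_176) (Atab_s_177_179 c) (Nat.ble 177 c)
noncomputable def Atab_s_173_179 (c : Nat) : Nat := @Bool.rec (fun _ => Nat) (Atab_s_173_176 c) (Atab_s_176_179 c) (Nat.ble 176 c)
noncomputable def Atab_s_180_182 (c : Nat) : Nat := @Bool.rec (fun _ => Nat) (Atab_180) (Atab_181) (Nat.ble 181 c)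
noncomputable def Atab_s_179_182 (c : Nat) : Nat := @Bool.rec (fun _ => Nat) (Atab_179) (Atab_s_180_182 c) (Nat.ble 180 c)
noncomputable def Atab_s_183_185 (c : Nat) : Nat := @Bool.rec (fun _ => Nat) (Atab_183) (Atab_184) (Nat.ble 184 c)
noncomputable def Atab_s_182_185 (c : Nat) : Nat := @Bool.rec (fun _ => Nat) (Atab_182) (Atab_s_183_185 c) (Nat.ble 183 c)
noncomputable def Atab_s_179_185 (c : Nat) : Nat := @Bool.rec (fun _ => Nat) (Atab_s_179_182 c) (Atab_s_182_185 c) (Nat.ble 182 c)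
noncomputable def Atab_s_173_185 (c : Nat) : Nat := @Bool.rec (fun _ => Nat) (Atab_s_173_179 c) (Atab_s_179_185 c) (Nat.ble 179 c)
noncomputable def Atab_s_186_188 (c : Nat) : Nat := @Bool.rec (fun _ => Nat) (Atab_186) (Atab_187) (Nat.ble 187 c)
noncomputable def Atab_s_185_188 (c : Nat) : Nat := @Bool.rec (fun _ => Nat) (Atab_185) (Atab_s_186_188 c) (Nat.ble 186 c)
noncomputable def Atab_s_189_191 (c : Nat) : Nat := @Bool.rec (fun _ => Nat) (Atab_189) (Atab_190) (Nat.ble 190 c)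
noncomputable def Atab_s_188_191 (c : Nat) : Nat := @Bool.rec (fun _ => Nat) (Atab_188) (Atab_s_189_191 c) (Nat.ble 189 c)
noncomputable def Atab_s_185_191 (c : Nat) : Nat := @Bool.rec (fun _ => Nat) (Atab_s_185_188 c) (Atab_s_188_191 c) (Nat.ble 188 c)
noncomputable def Atab_s_192_194 (c : Nat) : Nat := @Bool.rec (fun _ => Nat) (Atab_192) (Atab_193) (Nat.ble 193 c)
noncomputable def Atab_s_191_194 (c : Nat) : Nat := @Bool.rec (fun _ => Nat) (Atab_191) (Atab_s_192_194 c) (Nat.ble 192 c)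
noncomputable def Atab_s_194_196 (c : Nat) : Nat := @Bool.rec (fun _ => Nat) (Atab_194) (Atab_195) (Nat.ble 195 c)
noncomputable def Atab_s_196_198 (c : Nat) : Nat := @Bool.rec (fun _ => Nat) (Atab_196) (Atab_197) (Nat.ble 197 c)
noncomputable def Atab_s_194_198 (c : Nat) : Nat := @Bool.rec (fun _ => Nat) (Atab_s_194_196 c) (Atab_s_196_198 c) (Nat.ble 196 c)
noncomputable def Atab_s_191_198 (c : Nat) : Nat := @Bool.rec (fun _ => Nat) (Atab_s_191_194 c) (Atab_s_194_198 c) (Nat.ble 194 c)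
noncomputable def Atab_s_185_198 (c : Nat) : Nat := @Bool.rec (fun _ => Nat) (Atab_s_185_191 c) (Atab_s_191_198 c) (Nat.ble 191 c)
noncomputable def Atab_s_173_198 (c : Nat) : Nat := @Bool.rec (fun _ => Nat) (Atab_s_173_185 c) (Atab_s_185_198 c) (Nat.ble 185 c)
noncomputable def Atab_s_148_198 (c : Nat) : Nat := @Bool.rec (fun _ => Nat) (Atab_s_148_173 c) (Atab_s_173_198 c) (Nat.ble 173 c)
noncomputable def Atab_s_99_198 (c : Nat) : Nat := @Bool.rec (fun _ => Nat) (Atab_s_99_148 c) (Atab_s_148_198 c) (Nat.ble 148 c)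
noncomputable def Atab_s_0_198 (c : Nat) : Nat := @Bool.rec (fun _ => Nat) (Atab_s_0_99 c) (Atab_s_99_198 c) (Nat.ble 99 c)
noncomputable def Atab_s_199_201 (c : Nat) : Nat := @Bool.rec (fun _ => Nat) (Atab_199) (Atab_200) (Nat.ble 200 c)
noncomputable def Atab_s_198_201 (c : Nat) : Nat := @Bool.rec (fun _ => Nat) (Atab_198) (Atab_s_199_201 c) (Nat.ble 199 c)
noncomputable def Atab_s_202_204 (c : Nat) : Nat := @Bool.rec (fun _ => Nat) (Atab_202) (Atab_203) (Nat.ble 203 c)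
noncomputable def Atab_s_201_204 (c : Nat) : Nat := @Bool.rec (fun _ => Nat) (Atab_201) (Atab_s_202_204 c) (Nat.ble 202 c)
noncomputable def Atab_s_198_204 (c : Nat) : Nat := @Bool.rec (fun _ => Nat) (Atab_s_198_201 c) (Atab_s_201_204 c) (Nat.ble 201 c)
noncomputable def Atab_s_205_207 (c : Nat) : Nat := @Bool.rec (fun _ => Nat) (Atab_205) (Atab_206) (Nat.ble 206 c)
noncomputable def Atab_s_204_207 (c : Nat) : Nat := @Bool.rec (fun _ => Nat) (Atab_204) (Atab_s_205_207 c) (Nat.ble 205 c)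
noncomputable def Atab_s_208_210 (c : Nat) : Nat := @Bool.rec (fun _ => Nat) (Atab_208) (Atab_209) (Nat.ble 209 c)
noncomputable def Atab_s_207_210 (c : Nat) : Nat := @Bool.rec (fun _ => Nat) (Atab_207) (Atab_s_208_210 c) (Nat.ble 208 c)
noncomputable def Atab_s_204_210 (c : Nat) : Nat := @Bool.rec (fun _ => Nat) (Atab_s_204_207 c) (Atab_s_207_210 c) (Nat.ble 207 c)
noncomputable def Atab_s_198_210 (c : Nat) : Nat := @Bool.rec (fun _ => Nat) (Atab_s_198_204 c) (Atab_s_204_210 c) (Nat.ble 204 c)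
noncomputable def Atab_s_211_213 (c : Nat) : Nat := @Bool.rec (fun _ => Nat) (Atab_211) (Atab_212) (Nat.ble 212 c)
noncomputable def Atab_s_210_213 (c : Nat) : Nat := @Bool.rec (fun _ => Nat) (Atab_210) (Atab_s_211_213 c) (Nat.ble 211 c)
noncomputable def Atab_s_214_216 (c : Nat) : Nat := @Bool.rec (fun _ => Nat) (Atab_214) (Atab_215) (Nat.ble 215 c)
noncomputable def Atab_s_213_216 (c : Nat) : Nat := @Bool.rec (fun _ => Nat) (Atab_213) (Atab_s_214_216 c) (Nat.ble 214 c)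
noncomputable def Atab_s_210_216 (c : Nat) : Nat := @Bool.rec (fun _ => Nat) (Atab_s_210_213 c) (Atab_s_213_216 c) (Nat.ble 213 c)
noncomputable def Atab_s_217_219 (c : Nat) : Nat := @Bool.rec (fun _ => Nat) (Atab_217) (Atab_218) (Nat.ble 218 c)
noncomputable def Atab_s_216_219 (c : Nat) : Nat := @Bool.rec (fun _ => Nat) (Atab_216) (Atab_s_217_219 c) (Nat.ble 217 c)
noncomputable def Atab_s_220_222 (c : Nat) : Nat := @Bool.rec (fun _ => Nat) (Atab_220) (Atab_221) (Nat.ble 221 c)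
noncomputable def Atab_s_219_222 (c : Nat) : Nat := @Bool.rec (fun _ => Nat) (Atab_219) (Atab_s_220_222 c) (Nat.ble 220 c)
noncomputable def Atab_s_216_222 (c : Nat) : Nat := @Bool.rec (fun _ => Nat) (Atab_s_216_219 c) (Atab_s_219_222 c) (Nat.ble 219 c)
noncomputable def Atab_s_210_222 (c : Nat) : Nat := @Bool.rec (fun _ => Nat) (Atab_s_210_216 c) (Atab_s_216_222 c) (Nat.ble 216 c)
noncomputable def Atab_s_198_222 (c : Nat) : Nat := @Bool.rec (fun _ => Nat) (Atab_s_198_210 c) (Atab_s_210_222 c) (Nat.ble 210 c)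
noncomputable def Atab_s_223_225 (c : Nat) : Nat := @Bool.rec (fun _ => Nat) (Atab_223) (Atab_224) (Nat.ble 224 c)
noncomputable def Atab_s_222_225 (c : Nat) : Nat := @Bool.rec (fun _ => Nat) (Atab_222) (Atab_s_223_225 c) (Nat.ble 223 c)
noncomputable def Atab_s_226_228 (c : Nat) : Nat := @Bool.rec (fun _ => Nat) (Atab_226) (Atab_227) (Nat.ble 227 c)
noncomputable def Atab_s_225_228 (c : Nat) : Nat := @Bool.rec (fun _ => Nat) (Atab_225) (Atab_s_226_228 c) (Nat.ble 226 c)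
noncomputable def Atab_s_222_228 (c : Nat) : Nat := @Bool.rec (fun _ => Nat) (Atab_s_222_225 c) (Atab_s_225_228 c) (Nat.ble 225 c)
noncomputable def Atab_s_229_231 (c : Nat) : Nat := @Bool.rec (fun _ => Nat) (Atab_229) (Atab_230) (Nat.ble 230 c)
noncomputable def Atab_s_228_231 (c : Nat) : Nat := @Bool.rec (fun _ => Nat) (Atab_228) (Atab_s_229_231 c) (Nat.ble 229 c)
noncomputable def Atab_s_232_234 (c : Nat) : Nat := @Bool.rec (fun _ => Nat) (Atab_232) (Atab_233) (Nat.ble 233 c)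
noncomputable def Atab_s_231_234 (c : Nat) : Nat := @Bool.rec (fun _ => Nat) (Atab_231) (Atab_s_232_234 c) (Nat.ble 232 c)
noncomputable def Atab_s_228_234 (c : Nat) : Nat := @Bool.rec (fun _ => Nat) (Atab_s_228_231 c) (Atab_s_231_234 c) (Nat.ble 231 c)
noncomputable def Atab_s_222_234 (c : Nat) : Nat := @Bool.rec (fun _ => Nat) (Atab_s_222_228 c) (Atab_s_228_234 c) (Nat.ble 228 c)
noncomputable def Atab_s_235_237 (c : Nat) : Nat := @Bool.rec (fun _ => Nat) (Atab_235) (Atab_236) (Nat.ble 236 c)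
noncomputable def Atab_s_234_237 (c : Nat) : Nat := @Bool.rec (fun _ => Nat) (Atab_234) (Atab_s_235_237 c) (Nat.ble 235 c)
noncomputable def Atab_s_238_240 (c : Nat) : Nat := @Bool.rec (fun _ => Nat) (Atab_238) (Atab_239) (Nat.ble 239 c)
noncomputable def Atab_s_237_240 (c : Nat) : Nat := @Bool.rec (fun _ => Nat) (Atab_237) (Atab_s_238_240 c) (Nat.ble 238 c)
noncomputable def Atab_s_234_240 (c : Nat) : Nat := @Bool.rec (fun _ => Nat) (Atab_s_234_237 c) (Atab_s_237_240 c) (Nat.ble 237 c)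
noncomputable def Atab_s_241_243 (c : Nat) : Nat := @Bool.rec (fun _ => Nat) (Atab_241) (Atab_242) (Nat.ble 242 c)
noncomputable def Atab_s_240_243 (c : Nat) : Nat := @Bool.rec (fun _ => Nat) (Atab_240) (Atab_s_241_243 c) (Nat.ble 241 c)
noncomputable def Atab_s_243_245 (c : Nat) : Nat := @Bool.rec (fun _ => Nat) (Atab_243) (Atab_244) (Nat.ble 244 c)
noncomputable def Atab_s_245_247 (c : Nat) : Nat := @Bool.rec (fun _ => Nat) (Atab_245) (Atab_246) (Nat.ble 246 c)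
noncomputable def Atab_s_243_247 (c : Nat) : Nat := @Bool.rec (fun _ => Nat) (Atab_s_243_245 c) (Atab_s_245_247 c) (Nat.ble 245 c)
noncomputable def Atab_s_240_247 (c : Nat) : Nat := @Bool.rec (fun _ => Nat) (Atab_s_240_243 c) (Atab_s_243_247 c) (Nat.ble 243 c)
noncomputable def Atab_s_234_247 (c : Nat) : Nat := @Bool.rec (fun _ => Nat) (Atab_s_234_240 c) (Atab_s_240_247 c) (Nat.ble 240 c)
noncomputable def Atab_s_222_247 (c : Nat) : Nat := @Bool.rec (fun _ => Nat) (Atab_s_222_234 c) (Atab_s_234_247 c) (Nat.ble 234 c)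
noncomputable def Atab_s_198_247 (c : Nat) : Nat := @Bool.rec (fun _ => Nat) (Atab_s_198_222 c) (Atab_s_222_247 c) (Nat.ble 222 c)
noncomputable def Atab_s_248_250 (c : Nat) : Nat := @Bool.rec (fun _ => Nat) (Atab_248) (Atab_249) (Nat.ble 249 c)
noncomputable def Atab_s_247_250 (c : Nat) : Nat := @Bool.rec (fun _ => Nat) (Atab_247) (Atab_s_248_250 c) (Nat.ble 248 c)
noncomputable def Atab_s_251_253 (c : Nat) : Nat := @Bool.rec (fun _ => Nat) (Atab_251) (Atab_252) (Nat.ble 252 c)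
noncomputable def Atab_s_250_253 (c : Nat) : Nat := @Bool.rec (fun _ => Nat) (Atab_250) (Atab_s_251_253 c) (Nat.ble 251 c)
noncomputable def Atab_s_247_253 (c : Nat) : Nat := @Bool.rec (fun _ => Nat) (Atab_s_247_250 c) (Atab_s_250_253 c) (Nat.ble 250 c)
noncomputable def Atab_s_254_256 (c : Nat) : Nat := @Bool.rec (fun _ => Nat) (Atab_254) (Atab_255) (Nat.ble 255 c)
noncomputable def Atab_s_253_256 (c : Nat) : Nat := @Bool.rec (fun _ => Nat) (Atab_253) (Atab_s_254_256 c) (Nat.ble 254 c)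
noncomputable def Atab_s_257_259 (c : Nat) : Nat := @Bool.rec (fun _ => Nat) (Atab_257) (Atab_258) (Nat.ble 258 c)
noncomputable def Atab_s_256_259 (c : Nat) : Nat := @Bool.rec (fun _ => Nat) (Atab_256) (Atab_s_257_259 c) (Nat.ble 257 c)
noncomputable def Atab_s_253_259 (c : Nat) : Nat := @Bool.rec (fun _ => Nat) (Atab_s_253_256 c) (Atab_s_256_259 c) (Nat.ble 256 c)
noncomputable def Atab_s_247_259 (c : Nat) : Nat := @Bool.rec (fun _ => Nat) (Atab_s_247_253 c) (Atab_s_253_259 c) (Nat.ble 253 c)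
noncomputable def Atab_s_260_262 (c : Nat) : Nat := @Bool.rec (fun _ => Nat) (Atab_260) (Atab_261) (Nat.ble 261 c)
noncomputable def Atab_s_259_262 (c : Nat) : Nat := @Bool.rec (fun _ => Nat) (Atab_259) (Atab_s_260_262 c) (Nat.ble 260 c)
noncomputable def Atab_s_263_265 (c : Nat) : Nat := @Bool.rec (fun _ => Nat) (Atab_263) (Atab_264) (Nat.ble 264 c)
noncomputable def Atab_s_262_265 (c : Nat) : Nat := @Bool.rec (fun _ => Nat) (Atab_262) (Atab_s_263_265 c) (Nat.ble 263 c)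
noncomputable def Atab_s_259_265 (c : Nat) : Nat := @Bool.rec (fun _ => Nat) (Atab_s_259_262 c) (Atab_s_262_265 c) (Nat.ble 262 c)
noncomputable def Atab_s_266_268 (c : Nat) : Nat := @Bool.rec (fun _ => Nat) (Atab_266) (Atab_267) (Nat.ble 267 c)
noncomputable def Atab_s_265_268 (c : Nat) : Nat := @Bool.rec (fun _ => Nat) (Atab_265) (Atab_s_266_268 c) (Nat.ble 266 c)
noncomputable def Atab_s_268_270 (c : Nat) : Nat := @Bool.rec (fun _ => Nat) (Atab_268) (Atab_269) (Nat.ble 269 c)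
noncomputable def Atab_s_270_272 (c : Nat) : Nat := @Bool.rec (fun _ => Nat) (Atab_270) (Atab_271) (Nat.ble 271 c)
noncomputable def Atab_s_268_272 (c : Nat) : Nat := @Bool.rec (fun _ => Nat) (Atab_s_268_270 c) (Atab_s_270_272 c) (Nat.ble 270 c)
noncomputable def Atab_s_265_272 (c : Nat) : Nat := @Bool.rec (fun _ => Nat) (Atab_s_265_268 c) (Atab_s_268_272 c) (Nat.ble 268 c)
noncomputable def Atab_s_259_272 (c : Nat) : Nat := @Bool.rec (fun _ => Nat) (Atab_s_259_265 c) (Atab_s_265_272 c) (Nat.ble 265 c)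
noncomputable def Atab_s_247_272 (c : Nat) : Nat := @Bool.rec (fun _ => Nat) (Atab_s_247_259 c) (Atab_s_259_272 c) (Nat.ble 259 c)
noncomputable def Atab_s_273_275 (c : Nat) : Nat := @Bool.rec (fun _ => Nat) (Atab_273) (Atab_274) (Nat.ble 274 c)
noncomputable def Atab_s_272_275 (c : Nat) : Nat := @Bool.rec (fun _ => Nat) (Atab_272) (Atab_s_273_275 c) (Nat.ble 273 c)
noncomputable def Atab_s_276_278 (c : Nat) : Nat := @Bool.rec (fun _ => Nat) (Atab_276) (Atab_277) (Nat.ble 277 c)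
noncomputable def Atab_s_275_278 (c : Nat) : Nat := @Bool.rec (fun _ => Nat) (Atab_275) (Atab_s_276_278 c) (Nat.ble 276 c)
noncomputable def Atab_s_272_278 (c : Nat) : Nat := @Bool.rec (fun _ => Nat) (Atab_s_272_275 c) (Atab_s_275_278 c) (Nat.ble 275 c)
noncomputable def Atab_s_279_281 (c : Nat) : Nat := @Bool.rec (fun _ => Nat) (Atab_279) (Atab_280) (Nat.ble 280 c)
noncomputable def Atab_s_278_281 (c : Nat) : Nat := @Bool.rec (fun _ => Nat) (Atab_278) (Atab_s_279_281 c) (Nat.ble 279 c)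
noncomputable def Atab_s_282_284 (c : Nat) : Nat := @Bool.rec (fun _ => Nat) (Atab_282) (Atab_283) (Nat.ble 283 c)
noncomputable def Atab_s_281_284 (c : Nat) : Nat := @Bool.rec (fun _ => Nat) (Atab_281) (Atab_s_282_284 c) (Nat.ble 282 c)
noncomputable def Atab_s_278_284 (c : Nat) : Nat := @Bool.rec (fun _ => Nat) (Atab_s_278_281 c) (Atab_s_281_284 c) (Nat.ble 281 c)
noncomputable def Atab_s_272_284 (c : Nat) : Nat := @Bool.rec (fun _ => Nat) (Atab_s_272_278 c) (Atab_s_278_284 c) (Nat.ble 278 c)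
noncomputable def Atab_s_285_287 (c : Nat) : Nat := @Bool.rec (fun _ => Nat) (Atab_285) (Atab_286) (Nat.ble 286 c)
noncomputable def Atab_s_284_287 (c : Nat) : Nat := @Bool.rec (fun _ => Nat) (Atab_284) (Atab_s_285_287 c) (Nat.ble 285 c)
noncomputable def Atab_s_288_290 (c : Nat) : Nat := @Bool.rec (fun _ => Nat) (Atab_288) (Atab_289) (Nat.ble 289 c)
noncomputable def Atab_s_287_290 (c : Nat) : Nat := @Bool.rec (fun _ => Nat) (Atab_287) (Atab_s_288_290 c) (Nat.ble 288 c)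
noncomputable def Atab_s_284_290 (c : Nat) : Nat := @Bool.rec (fun _ => Nat) (Atab_s_284_287 c) (Atab_s_287_290 c) (Nat.ble 287 c)
noncomputable def Atab_s_291_293 (c : Nat) : Nat := @Bool.rec (fun _ => Nat) (Atab_291) (Atab_292) (Nat.ble 292 c)
noncomputable def Atab_s_290_293 (c : Nat) : Nat := @Bool.rec (fun _ => Nat) (Atab_290) (Atab_s_291_293 c) (Nat.ble 291 c)
noncomputable def Atab_s_293_295 (c : Nat) : Nat := @Bool.rec (fun _ => Nat) (Atab_293) (Atab_294) (Nat.ble 294 c)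
noncomputable def Atab_s_295_297 (c : Nat) : Nat := @Bool.rec (fun _ => Nat) (Atab_295) (Atab_296) (Nat.ble 296 c)
noncomputable def Atab_s_293_297 (c : Nat) : Nat := @Bool.rec (fun _ => Nat) (Atab_s_293_295 c) (Atab_s_295_297 c) (Nat.ble 295 c)
noncomputable def Atab_s_290_297 (c : Nat) : Nat := @Bool.rec (fun _ => Nat) (Atab_s_290_293 c) (Atab_s_293_297 c) (Nat.ble 293 c)
noncomputable def Atab_s_284_297 (c : Nat) : Nat := @Bool.rec (fun _ => Nat) (Atab_s_284_290 c) (Atab_s_290_297 c) (Nat.ble 290 c)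
noncomputable def Atab_s_272_297 (c : Nat) : Nat := @Bool.rec (fun _ => Nat) (Atab_s_272_284 c) (Atab_s_284_297 c) (Nat.ble 284 c)
noncomputable def Atab_s_247_297 (c : Nat) : Nat := @Bool.rec (fun _ => Nat) (Atab_s_247_272 c) (Atab_s_272_297 c) (Nat.ble 272 c)
noncomputable def Atab_s_198_297 (c : Nat) : Nat := @Bool.rec (fun _ => Nat) (Atab_s_198_247 c) (Atab_s_247_297 c) (Nat.ble 247 c)
noncomputable def Atab_s_298_300 (c : Nat) : Nat := @Bool.rec (fun _ => Nat) (Atab_298) (Atab_299) (Nat.ble 299 c)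
noncomputable def Atab_s_297_300 (c : Nat) : Nat := @Bool.rec (fun _ => Nat) (Atab_297) (Atab_s_298_300 c) (Nat.ble 298 c)
noncomputable def Atab_s_301_303 (c : Nat) : Nat := @Bool.rec (fun _ => Nat) (Atab_301) (Atab_302) (Nat.ble 302 c)
noncomputable def Atab_s_300_303 (c : Nat) : Nat := @Bool.rec (fun _ => Nat) (Atab_300) (Atab_s_301_303 c) (Nat.ble 301 c)
noncomputable def Atab_s_297_303 (c : Nat) : Nat := @Bool.rec (fun _ => Nat) (Atab_s_297_300 c) (Atab_s_300_303 c) (Nat.ble 300 c)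
noncomputable def Atab_s_304_306 (c : Nat) : Nat := @Bool.rec (fun _ => Nat) (Atab_304) (Atab_305) (Nat.ble 305 c)
noncomputable def Atab_s_303_306 (c : Nat) : Nat := @Bool.rec (fun _ => Nat) (Atab_303) (Atab_s_304_306 c) (Nat.ble 304 c)
noncomputable def Atab_s_307_309 (c : Nat) : Nat := @Bool.rec (fun _ => Nat) (Atab_307) (Atab_308) (Nat.ble 308 c)
noncomputable def Atab_s_306_309 (c : Nat) : Nat := @Bool.rec (fun _ => Nat) (Atab_306) (Atab_s_307_309 c) (Nat.ble 307 c)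
noncomputable def Atab_s_303_309 (c : Nat) : Nat := @Bool.rec (fun _ => Nat) (Atab_s_303_306 c) (Atab_s_306_309 c) (Nat.ble 306 c)
noncomputable def Atab_s_297_309 (c : Nat) : Nat := @Bool.rec (fun _ => Nat) (Atab_s_297_303 c) (Atab_s_303_309 c) (Nat.ble 303 c)
noncomputable def Atab_s_310_312 (c : Nat) : Nat := @Bool.rec (fun _ => Nat) (Atab_310) (Atab_311) (Nat.ble 311 c)
noncomputable def Atab_s_309_312 (c : Nat) : Nat := @Bool.rec (fun _ => Nat) (Atab_309) (Atab_s_310_312 c) (Nat.ble 310 c)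
noncomputable def Atab_s_313_315 (c : Nat) : Nat := @Bool.rec (fun _ => Nat) (Atab_313) (Atab_314) (Nat.ble 314 c)
noncomputable def Atab_s_312_315 (c : Nat) : Nat := @Bool.rec (fun _ => Nat) (Atab_312) (Atab_s_313_315 c) (Nat.ble 313 c)
noncomputable def Atab_s_309_315 (c : Nat) : Nat := @Bool.rec (fun _ => Nat) (Atab_s_309_312 c) (Atab_s_312_315 c) (Nat.ble 312 c)
noncomputable def Atab_s_316_318 (c : Nat) : Nat := @Bool.rec (fun _ => Nat) (Atab_316) (Atab_317) (Nat.ble 317 c)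
noncomputable def Atab_s_315_318 (c : Nat) : Nat := @Bool.rec (fun _ => Nat) (Atab_315) (Atab_s_316_318 c) (Nat.ble 316 c)
noncomputable def Atab_s_318_320 (c : Nat) : Nat := @Bool.rec (fun _ => Nat) (Atab_318) (Atab_319) (Nat.ble 319 c)
noncomputable def Atab_s_320_322 (c : Nat) : Nat := @Bool.rec (fun _ => Nat) (Atab_320) (Atab_321) (Nat.ble 321 c)
noncomputable def Atab_s_318_322 (c : Nat) : Nat := @Bool.rec (fun _ => Nat) (Atab_s_318_320 c) (Atab_s_320_322 c) (Nat.ble 320 c)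
noncomputable def Atab_s_315_322 (c : Nat) : Nat := @Bool.rec (fun _ => Nat) (Atab_s_315_318 c) (Atab_s_318_322 c) (Nat.ble 318 c)
noncomputable def Atab_s_309_322 (c : Nat) : Nat := @Bool.rec (fun _ => Nat) (Atab_s_309_315 c) (Atab_s_315_322 c) (Nat.ble 315 c)
noncomputable def Atab_s_297_322 (c : Nat) : Nat := @Bool.rec (fun _ => Nat) (Atab_s_297_309 c) (Atab_s_309_322 c) (Nat.ble 309 c)
noncomputable def Atab_s_323_325 (c : Nat) : Nat := @Bool.rec (fun _ => Nat) (Atab_323) (Atab_324) (Nat.ble 324 c)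
noncomputable def Atab_s_322_325 (c : Nat) : Nat := @Bool.rec (fun _ => Nat) (Atab_322) (Atab_s_323_325 c) (Nat.ble 323 c)
noncomputable def Atab_s_326_328 (c : Nat) : Nat := @Bool.rec (fun _ => Nat) (Atab_326) (Atab_327) (Nat.ble 327 c)
noncomputable def Atab_s_325_328 (c : Nat) : Nat := @Bool.rec (fun _ => Nat) (Atab_325) (Atab_s_326_328 c) (Nat.ble 326 c)
noncomputable def Atab_s_322_328 (c : Nat) : Nat := @Bool.rec (fun _ => Nat) (Atab_s_322_325 c) (Atab_s_325_328 c) (Nat.ble 325 c)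
noncomputable def Atab_s_329_331 (c : Nat) : Nat := @Bool.rec (fun _ => Nat) (Atab_329) (Atab_330) (Nat.ble 330 c)
noncomputable def Atab_s_328_331 (c : Nat) : Nat := @Bool.rec (fun _ => Nat) (Atab_328) (Atab_s_329_331 c) (Nat.ble 329 c)
noncomputable def Atab_s_332_334 (c : Nat) : Nat := @Bool.rec (fun _ => Nat) (Atab_332) (Atab_333) (Nat.ble 333 c)
noncomputable def Atab_s_331_334 (c : Nat) : Nat := @Bool.rec (fun _ => Nat) (Atab_331) (Atab_s_332_334 c) (Nat.ble 332 c)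
noncomputable def Atab_s_328_334 (c : Nat) : Nat := @Bool.rec (fun _ => Nat) (Atab_s_328_331 c) (Atab_s_331_334 c) (Nat.ble 331 c)
noncomputable def Atab_s_322_334 (c : Nat) : Nat := @Bool.rec (fun _ => Nat) (Atab_s_322_328 c) (Atab_s_328_334 c) (Nat.ble 328 c)
noncomputable def Atab_s_335_337 (c : Nat) : Nat := @Bool.rec (fun _ => Nat) (Atab_335) (Atab_336) (Nat.ble 336 c)
noncomputable def Atab_s_334_337 (c : Nat) : Nat := @Bool.rec (fun _ => Nat) (Atab_334) (Atab_s_335_337 c) (Nat.ble 335 c)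
noncomputable def Atab_s_338_340 (c : Nat) : Nat := @Bool.rec (fun _ => Nat) (Atab_338) (Atab_339) (Nat.ble 339 c)
noncomputable def Atab_s_337_340 (c : Nat) : Nat := @Bool.rec (fun _ => Nat) (Atab_337) (Atab_s_338_340 c) (Nat.ble 338 c)
noncomputable def Atab_s_334_340 (c : Nat) : Nat := @Bool.rec (fun _ => Nat) (Atab_s_334_337 c) (Atab_s_337_340 c) (Nat.ble 337 c)
noncomputable def Atab_s_341_343 (c : Nat) : Nat := @Bool.rec (fun _ => Nat) (Atab_341) (Atab_342) (Nat.ble 342 c)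
noncomputable def Atab_s_340_343 (c : Nat) : Nat := @Bool.rec (fun _ => Nat) (Atab_340) (Atab_s_341_343 c) (Nat.ble 341 c)
noncomputable def Atab_s_343_345 (c : Nat) : Nat := @Bool.rec (fun _ => Nat) (Atab_343) (Atab_344) (Nat.ble 344 c)
noncomputable def Atab_s_345_347 (c : Nat) : Nat := @Bool.rec (fun _ => Nat) (Atab_345) (Atab_346) (Nat.ble 346 c)
noncomputable def Atab_s_343_347 (c : Nat) : Nat := @Bool.rec (fun _ => Nat) (Atab_s_343_345 c) (Atab_s_345_347 c) (Nat.ble 345 c)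
noncomputable def Atab_s_340_347 (c : Nat) : Nat := @Bool.rec (fun _ => Nat) (Atab_s_340_343 c) (Atab_s_343_347 c) (Nat.ble 343 c)
noncomputable def Atab_s_334_347 (c : Nat) : Nat := @Bool.rec (fun _ => Nat) (Atab_s_334_340 c) (Atab_s_340_347 c) (Nat.ble 340 c)
noncomputable def Atab_s_322_347 (c : Nat) : Nat := @Bool.rec (fun _ => Nat) (Atab_s_322_334 c) (Atab_s_334_347 c) (Nat.ble 334 c)
noncomputable def Atab_s_297_347 (c : Nat) : Nat := @Bool.rec (fun _ => Nat) (Atab_s_297_322 c) (Atab_s_322_347 c) (Nat.ble 322 c)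
noncomputable def Atab_s_348_350 (c : Nat) : Nat := @Bool.rec (fun _ => Nat) (Atab_348) (Atab_349) (Nat.ble 349 c)
noncomputable def Atab_s_347_350 (c : Nat) : Nat := @Bool.rec (fun _ => Nat) (Atab_347) (Atab_s_348_350 c) (Nat.ble 348 c)
noncomputable def Atab_s_351_353 (c : Nat) : Nat := @Bool.rec (fun _ => Nat) (Atab_351) (Atab_352) (Nat.ble 352 c)
noncomputable def Atab_s_350_353 (c : Nat) : Nat := @Bool.rec (fun _ => Nat) (Atab_350) (Atab_s_351_353 c) (Nat.ble 351 c)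
noncomputable def Atab_s_347_353 (c : Nat) : Nat := @Bool.rec (fun _ => Nat) (Atab_s_347_350 c) (Atab_s_350_353 c) (Nat.ble 350 c)
noncomputable def Atab_s_354_356 (c : Nat) : Nat := @Bool.rec (fun _ => Nat) (Atab_354) (Atab_355) (Nat.ble 355 c)
noncomputable def Atab_s_353_356 (c : Nat) : Nat := @Bool.rec (fun _ => Nat) (Atab_353) (Atab_s_354_356 c) (Nat.ble 354 c)
noncomputable def Atab_s_357_359 (c : Nat) : Nat := @Bool.rec (fun _ => Nat) (Atab_357) (Atab_358) (Nat.ble 358 c)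
noncomputable def Atab_s_356_359 (c : Nat) : Nat := @Bool.rec (fun _ => Nat) (Atab_356) (Atab_s_357_359 c) (Nat.ble 357 c)
noncomputable def Atab_s_353_359 (c : Nat) : Nat := @Bool.rec (fun _ => Nat) (Atab_s_353_356 c) (Atab_s_356_359 c) (Nat.ble 356 c)
noncomputable def Atab_s_347_359 (c : Nat) : Nat := @Bool.rec (fun _ => Nat) (Atab_s_347_353 c) (Atab_s_353_359 c) (Nat.ble 353 c)
noncomputable def Atab_s_360_362 (c : Nat) : Nat := @Bool.rec (fun _ => Nat) (Atab_360) (Atab_361) (Nat.ble 361 c)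
noncomputable def Atab_s_359_362 (c : Nat) : Nat := @Bool.rec (fun _ => Nat) (Atab_359) (Atab_s_360_362 c) (Nat.ble 360 c)
noncomputable def Atab_s_363_365 (c : Nat) : Nat := @Bool.rec (fun _ => Nat) (Atab_363) (Atab_364) (Nat.ble 364 c)
noncomputable def Atab_s_362_365 (c : Nat) : Nat := @Bool.rec (fun _ => Nat) (Atab_362) (Atab_s_363_365 c) (Nat.ble 363 c)
noncomputable def Atab_s_359_365 (c : Nat) : Nat := @Bool.rec (fun _ => Nat) (Atab_s_359_362 c) (Atab_s_362_365 c) (Nat.ble 362 c)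
noncomputable def Atab_s_366_368 (c : Nat) : Nat := @Bool.rec (fun _ => Nat) (Atab_366) (Atab_367) (Nat.ble 367 c)
noncomputable def Atab_s_365_368 (c : Nat) : Nat := @Bool.rec (fun _ => Nat) (Atab_365) (Atab_s_366_368 c) (Nat.ble 366 c)
noncomputable def Atab_s_368_370 (c : Nat) : Nat := @Bool.rec (fun _ => Nat) (Atab_368) (Atab_369) (Nat.ble 369 c)
noncomputable def Atab_s_370_372 (c : Nat) : Nat := @Bool.rec (fun _ => Nat) (Atab_370) (Atab_371) (Nat.ble 371 c)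
noncomputable def Atab_s_368_372 (c : Nat) : Nat := @Bool.rec (fun _ => Nat) (Atab_s_368_370 c) (Atab_s_370_372 c) (Nat.ble 370 c)
noncomputable def Atab_s_365_372 (c : Nat) : Nat := @Bool.rec (fun _ => Nat) (Atab_s_365_368 c) (Atab_s_368_372 c) (Nat.ble 368 c)
noncomputable def Atab_s_359_372 (c : Nat) : Nat := @Bool.rec (fun _ => Nat) (Atab_s_359_365 c) (Atab_s_365_372 c) (Nat.ble 365 c)
noncomputable def Atab_s_347_372 (c : Nat) : Nat := @Bool.rec (fun _ => Nat) (Atab_s_347_359 c) (Atab_s_359_372 c) (Nat.ble 359 c)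
noncomputable def Atab_s_373_375 (c : Nat) : Nat := @Bool.rec (fun _ => Nat) (Atab_373) (Atab_374) (Nat.ble 374 c)
noncomputable def Atab_s_372_375 (c : Nat) : Nat := @Bool.rec (fun _ => Nat) (Atab_372) (Atab_s_373_375 c) (Nat.ble 373 c)
noncomputable def Atab_s_376_378 (c : Nat) : Nat := @Bool.rec (fun _ => Nat) (Atab_376) (Atab_377) (Nat.ble 377 c)
noncomputable def Atab_s_375_378 (c : Nat) : Nat := @Bool.rec (fun _ => Nat) (Atab_375) (Atab_s_376_378 c) (Nat.ble 376 c)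
noncomputable def Atab_s_372_378 (c : Nat) : Nat := @Bool.rec (fun _ => Nat) (Atab_s_372_375 c) (Atab_s_375_378 c) (Nat.ble 375 c)
noncomputable def Atab_s_379_381 (c : Nat) : Nat := @Bool.rec (fun _ => Nat) (Atab_379) (Atab_380) (Nat.ble 380 c)
noncomputable def Atab_s_378_381 (c : Nat) : Nat := @Bool.rec (fun _ => Nat) (Atab_378) (Atab_s_379_381 c) (Nat.ble 379 c)
noncomputable def Atab_s_382_384 (c : Nat) : Nat := @Bool.rec (fun _ => Nat) (Atab_382) (Atab_383) (Nat.ble 383 c)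
noncomputable def Atab_s_381_384 (c : Nat) : Nat := @Bool.rec (fun _ => Nat) (Atab_381) (Atab_s_382_384 c) (Nat.ble 382 c)
noncomputable def Atab_s_378_384 (c : Nat) : Nat := @Bool.rec (fun _ => Nat) (Atab_s_378_381 c) (Atab_s_381_384 c) (Nat.ble 381 c)
noncomputable def Atab_s_372_384 (c : Nat) : Nat := @Bool.rec (fun _ => Nat) (Atab_s_372_378 c) (Atab_s_378_384 c) (Nat.ble 378 c)
noncomputable def Atab_s_385_387 (c : Nat) : Nat := @Bool.rec (fun _ => Nat) (Atab_385) (Atab_386) (Nat.ble 386 c)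
noncomputable def Atab_s_384_387 (c : Nat) : Nat := @Bool.rec (fun _ => Nat) (Atab_384) (Atab_s_385_387 c) (Nat.ble 385 c)
noncomputable def Atab_s_388_390 (c : Nat) : Nat := @Bool.rec (fun _ => Nat) (Atab_388) (Atab_389) (Nat.ble 389 c)
noncomputable def Atab_s_387_390 (c : Nat) : Nat := @Bool.rec (fun _ => Nat) (Atab_387) (Atab_s_388_390 c) (Nat.ble 388 c)
noncomputable def Atab_s_384_390 (c : Nat) : Nat := @Bool.rec (fun _ => Nat) (Atab_s_384_387 c) (Atab_s_387_390 c) (Nat.ble 387 c)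
noncomputable def Atab_s_391_393 (c : Nat) : Nat := @Bool.rec (fun _ => Nat) (Atab_391) (Atab_392) (Nat.ble 392 c)
noncomputable def Atab_s_390_393 (c : Nat) : Nat := @Bool.rec (fun _ => Nat) (Atab_390) (Atab_s_391_393 c) (Nat.ble 391 c)
noncomputable def Atab_s_393_395 (c : Nat) : Nat := @Bool.rec (fun _ => Nat) (Atab_393) (Atab_394) (Nat.ble 394 c)
noncomputable def Atab_s_395_397 (c : Nat) : Nat := @Bool.rec (fun _ => Nat) (Atab_395) (Atab_396) (Nat.ble 396 c)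
noncomputable def Atab_s_393_397 (c : Nat) : Nat := @Bool.rec (fun _ => Nat) (Atab_s_393_395 c) (Atab_s_395_397 c) (Nat.ble 395 c)
noncomputable def Atab_s_390_397 (c : Nat) : Nat := @Bool.rec (fun _ => Nat) (Atab_s_390_393 c) (Atab_s_393_397 c) (Nat.ble 393 c)
noncomputable def Atab_s_384_397 (c : Nat) : Nat := @Bool.rec (fun _ => Nat) (Atab_s_384_390 c) (Atab_s_390_397 c) (Nat.ble 390 c)
noncomputable def Atab_s_372_397 (c : Nat) : Nat := @Bool.rec (fun _ => Nat) (Atab_s_372_384 c) (Atab_s_384_397 c) (Nat.ble 384 c)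
noncomputable def Atab_s_347_397 (c : Nat) : Nat := @Bool.rec (fun _ => Nat) (Atab_s_347_372 c) (Atab_s_372_397 c) (Nat.ble 372 c)
noncomputable def Atab_s_297_397 (c : Nat) : Nat := @Bool.rec (fun _ => Nat) (Atab_s_297_347 c) (Atab_s_347_397 c) (Nat.ble 347 c)
noncomputable def Atab_s_198_397 (c : Nat) : Nat := @Bool.rec (fun _ => Nat) (Atab_s_198_297 c) (Atab_s_297_397 c) (Nat.ble 297 c)
noncomputable def Atab_s_0_397 (c : Nat) : Nat := @Bool.rec (fun _ => Nat) (Atab_s_0_198 c) (Atab_s_198_397 c) (Nat.ble 198 c)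
noncomputable def Atab_s_398_400 (c : Nat) : Nat := @Bool.rec (fun _ => Nat) (Atab_398) (Atab_399) (Nat.ble 399 c)
noncomputable def Atab_s_397_400 (c : Nat) : Nat := @Bool.rec (fun _ => Nat) (Atab_397) (Atab_s_398_400 c) (Nat.ble 398 c)
noncomputable def Atab_s_401_403 (c : Nat) : Nat := @Bool.rec (fun _ => Nat) (Atab_401) (Atab_402) (Nat.ble 402 c)
noncomputable def Atab_s_400_403 (c : Nat) : Nat := @Bool.rec (fun _ => Nat) (Atab_400) (Atab_s_401_403 c) (Nat.ble 401 c)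
noncomputable def Atab_s_397_403 (c : Nat) : Nat := @Bool.rec (fun _ => Nat) (Atab_s_397_400 c) (Atab_s_400_403 c) (Nat.ble 400 c)
noncomputable def Atab_s_404_406 (c : Nat) : Nat := @Bool.rec (fun _ => Nat) (Atab_404) (Atab_405) (Nat.ble 405 c)
noncomputable def Atab_s_403_406 (c : Nat) : Nat := @Bool.rec (fun _ => Nat) (Atab_403) (Atab_s_404_406 c) (Nat.ble 404 c)
noncomputable def Atab_s_407_409 (c : Nat) : Nat := @Bool.rec (fun _ => Nat) (Atab_407) (Atab_408) (Nat.ble 408 c)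
noncomputable def Atab_s_406_409 (c : Nat) : Nat := @Bool.rec (fun _ => Nat) (Atab_406) (Atab_s_407_409 c) (Nat.ble 407 c)
noncomputable def Atab_s_403_409 (c : Nat) : Nat := @Bool.rec (fun _ => Nat) (Atab_s_403_406 c) (Atab_s_406_409 c) (Nat.ble 406 c)
noncomputable def Atab_s_397_409 (c : Nat) : Nat := @Bool.rec (fun _ => Nat) (Atab_s_397_403 c) (Atab_s_403_409 c) (Nat.ble 403 c)
noncomputable def Atab_s_410_412 (c : Nat) : Nat := @Bool.rec (fun _ => Nat) (Atab_410) (Atab_411) (Nat.ble 411 c)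
noncomputable def Atab_s_409_412 (c : Nat) : Nat := @Bool.rec (fun _ => Nat) (Atab_409) (Atab_s_410_412 c) (Nat.ble 410 c)
noncomputable def Atab_s_413_415 (c : Nat) : Nat := @Bool.rec (fun _ => Nat) (Atab_413) (Atab_414) (Nat.ble 414 c)
noncomputable def Atab_s_412_415 (c : Nat) : Nat := @Bool.rec (fun _ => Nat) (Atab_412) (Atab_s_413_415 c) (Nat.ble 413 c)
noncomputable def Atab_s_409_415 (c : Nat) : Nat := @Bool.rec (fun _ => Nat) (Atab_s_409_412 c) (Atab_s_412_415 c) (Nat.ble 412 c)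
noncomputable def Atab_s_416_418 (c : Nat) : Nat := @Bool.rec (fun _ => Nat) (Atab_416) (Atab_417) (Nat.ble 417 c)
noncomputable def Atab_s_415_418 (c : Nat) : Nat := @Bool.rec (fun _ => Nat) (Atab_415) (Atab_s_416_418 c) (Nat.ble 416 c)
noncomputable def Atab_s_419_421 (c : Nat) : Nat := @Bool.rec (fun _ => Nat) (Atab_419) (Atab_420) (Nat.ble 420 c)
noncomputable def Atab_s_418_421 (c : Nat) : Nat := @Bool.rec (fun _ => Nat) (Atab_418) (Atab_s_419_421 c) (Nat.ble 419 c)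
noncomputable def Atab_s_415_421 (c : Nat) : Nat := @Bool.rec (fun _ => Nat) (Atab_s_415_418 c) (Atab_s_418_421 c) (Nat.ble 418 c)
noncomputable def Atab_s_409_421 (c : Nat) : Nat := @Bool.rec (fun _ => Nat) (Atab_s_409_415 c) (Atab_s_415_421 c) (Nat.ble 415 c)
noncomputable def Atab_s_397_421 (c : Nat) : Nat := @Bool.rec (fun _ => Nat) (Atab_s_397_409 c) (Atab_s_409_421 c) (Nat.ble 409 c)
noncomputable def Atab_s_422_424 (c : Nat) : Nat := @Bool.rec (fun _ => Nat) (Atab_422) (Atab_423) (Nat.ble 423 c)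
noncomputable def Atab_s_421_424 (c : Nat) : Nat := @Bool.rec (fun _ => Nat) (Atab_421) (Atab_s_422_424 c) (Nat.ble 422 c)
noncomputable def Atab_s_425_427 (c : Nat) : Nat := @Bool.rec (fun _ => Nat) (Atab_425) (Atab_426) (Nat.ble 426 c)
noncomputable def Atab_s_424_427 (c : Nat) : Nat := @Bool.rec (fun _ => Nat) (Atab_424) (Atab_s_425_427 c) (Nat.ble 425 c)
noncomputable def Atab_s_421_427 (c : Nat) : Nat := @Bool.rec (fun _ => Nat) (Atab_s_421_424 c) (Atab_s_424_427 c) (Nat.ble 424 c)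
noncomputable def Atab_s_428_430 (c : Nat) : Nat := @Bool.rec (fun _ => Nat) (Atab_428) (Atab_429) (Nat.ble 429 c)
noncomputable def Atab_s_427_430 (c : Nat) : Nat := @Bool.rec (fun _ => Nat) (Atab_427) (Atab_s_428_430 c) (Nat.ble 428 c)
noncomputable def Atab_s_431_433 (c : Nat) : Nat := @Bool.rec (fun _ => Nat) (Atab_431) (Atab_432) (Nat.ble 432 c)
noncomputable def Atab_s_430_433 (c : Nat) : Nat := @Bool.rec (fun _ => Nat) (Atab_430) (Atab_s_431_433 c) (Nat.ble 431 c)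
noncomputable def Atab_s_427_433 (c : Nat) : Nat := @Bool.rec (fun _ => Nat) (Atab_s_427_430 c) (Atab_s_430_433 c) (Nat.ble 430 c)
noncomputable def Atab_s_421_433 (c : Nat) : Nat := @Bool.rec (fun _ => Nat) (Atab_s_421_427 c) (Atab_s_427_433 c) (Nat.ble 427 c)
noncomputable def Atab_s_434_436 (c : Nat) : Nat := @Bool.rec (fun _ => Nat) (Atab_434) (Atab_435) (Nat.ble 435 c)
noncomputable def Atab_s_433_436 (c : Nat) : Nat := @Bool.rec (fun _ => Nat) (Atab_433) (Atab_s_434_436 c) (Nat.ble 434 c)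
noncomputable def Atab_s_437_439 (c : Nat) : Nat := @Bool.rec (fun _ => Nat) (Atab_437) (Atab_438) (Nat.ble 438 c)
noncomputable def Atab_s_436_439 (c : Nat) : Nat := @Bool.rec (fun _ => Nat) (Atab_436) (Atab_s_437_439 c) (Nat.ble 437 c)
noncomputable def Atab_s_433_439 (c : Nat) : Nat := @Bool.rec (fun _ => Nat) (Atab_s_433_436 c) (Atab_s_436_439 c) (Nat.ble 436 c)
noncomputable def Atab_s_440_442 (c : Nat) : Nat := @Bool.rec (fun _ => Nat) (Atab_440) (Atab_441) (Nat.ble 441 c)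
noncomputable def Atab_s_439_442 (c : Nat) : Nat := @Bool.rec (fun _ => Nat) (Atab_439) (Atab_s_440_442 c) (Nat.ble 440 c)
noncomputable def Atab_s_442_444 (c : Nat) : Nat := @Bool.rec (fun _ => Nat) (Atab_442) (Atab_443) (Nat.ble 443 c)
noncomputable def Atab_s_444_446 (c : Nat) : Nat := @Bool.rec (fun _ => Nat) (Atab_444) (Atab_445) (Nat.ble 445 c)
noncomputable def Atab_s_442_446 (c : Nat) : Nat := @Bool.rec (fun _ => Nat) (Atab_s_442_444 c) (Atab_s_444_446 c) (Nat.ble 444 c)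
noncomputable def Atab_s_439_446 (c : Nat) : Nat := @Bool.rec (fun _ => Nat) (Atab_s_439_442 c) (Atab_s_442_446 c) (Nat.ble 442 c)
noncomputable def Atab_s_433_446 (c : Nat) : Nat := @Bool.rec (fun _ => Nat) (Atab_s_433_439 c) (Atab_s_439_446 c) (Nat.ble 439 c)
noncomputable def Atab_s_421_446 (c : Nat) : Nat := @Bool.rec (fun _ => Nat) (Atab_s_421_433 c) (Atab_s_433_446 c) (Nat.ble 433 c)
noncomputable def Atab_s_397_446 (c : Nat) : Nat := @Bool.rec (fun _ => Nat) (Atab_s_397_421 c) (Atab_s_421_446 c) (Nat.ble 421 c)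
noncomputable def Atab_s_447_449 (c : Nat) : Nat := @Bool.rec (fun _ => Nat) (Atab_447) (Atab_448) (Nat.ble 448 c)
noncomputable def Atab_s_446_449 (c : Nat) : Nat := @Bool.rec (fun _ => Nat) (Atab_446) (Atab_s_447_449 c) (Nat.ble 447 c)
noncomputable def Atab_s_450_452 (c : Nat) : Nat := @Bool.rec (fun _ => Nat) (Atab_450) (Atab_451) (Nat.ble 451 c)
noncomputable def Atab_s_449_452 (c : Nat) : Nat := @Bool.rec (fun _ => Nat) (Atab_449) (Atab_s_450_452 c) (Nat.ble 450 c)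
noncomputable def Atab_s_446_452 (c : Nat) : Nat := @Bool.rec (fun _ => Nat) (Atab_s_446_449 c) (Atab_s_449_452 c) (Nat.ble 449 c)
noncomputable def Atab_s_453_455 (c : Nat) : Nat := @Bool.rec (fun _ => Nat) (Atab_453) (Atab_454) (Nat.ble 454 c)
noncomputable def Atab_s_452_455 (c : Nat) : Nat := @Bool.rec (fun _ => Nat) (Atab_452) (Atab_s_453_455 c) (Nat.ble 453 c)
noncomputable def Atab_s_456_458 (c : Nat) : Nat := @Bool.rec (fun _ => Nat) (Atab_456) (Atab_457) (Nat.ble 457 c)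
noncomputable def Atab_s_455_458 (c : Nat) : Nat := @Bool.rec (fun _ => Nat) (Atab_455) (Atab_s_456_458 c) (Nat.ble 456 c)
noncomputable def Atab_s_452_458 (c : Nat) : Nat := @Bool.rec (fun _ => Nat) (Atab_s_452_455 c) (Atab_s_455_458 c) (Nat.ble 455 c)
noncomputable def Atab_s_446_458 (c : Nat) : Nat := @Bool.rec (fun _ => Nat) (Atab_s_446_452 c) (Atab_s_452_458 c) (Nat.ble 452 c)
noncomputable def Atab_s_459_461 (c : Nat) : Nat := @Bool.rec (fun _ => Nat) (Atab_459) (Atab_460) (Nat.ble 460 c)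
noncomputable def Atab_s_458_461 (c : Nat) : Nat := @Bool.rec (fun _ => Nat) (Atab_458) (Atab_s_459_461 c) (Nat.ble 459 c)
noncomputable def Atab_s_462_464 (c : Nat) : Nat := @Bool.rec (fun _ => Nat) (Atab_462) (Atab_463) (Nat.ble 463 c)
noncomputable def Atab_s_461_464 (c : Nat) : Nat := @Bool.rec (fun _ => Nat) (Atab_461) (Atab_s_462_464 c) (Nat.ble 462 c)
noncomputable def Atab_s_458_464 (c : Nat) : Nat := @Bool.rec (fun _ => Nat) (Atab_s_458_461 c) (Atab_s_461_464 c) (Nat.ble 461 c)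
noncomputable def Atab_s_465_467 (c : Nat) : Nat := @Bool.rec (fun _ => Nat) (Atab_465) (Atab_466) (Nat.ble 466 c)
noncomputable def Atab_s_464_467 (c : Nat) : Nat := @Bool.rec (fun _ => Nat) (Atab_464) (Atab_s_465_467 c) (Nat.ble 465 c)
noncomputable def Atab_s_467_469 (c : Nat) : Nat := @Bool.rec (fun _ => Nat) (Atab_467) (Atab_468) (Nat.ble 468 c)
noncomputable def Atab_s_469_471 (c : Nat) : Nat := @Bool.rec (fun _ => Nat) (Atab_469) (Atab_470) (Nat.ble 470 c)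
noncomputable def Atab_s_467_471 (c : Nat) : Nat := @Bool.rec (fun _ => Nat) (Atab_s_467_469 c) (Atab_s_469_471 c) (Nat.ble 469 c)
noncomputable def Atab_s_464_471 (c : Nat) : Nat := @Bool.rec (fun _ => Nat) (Atab_s_464_467 c) (Atab_s_467_471 c) (Nat.ble 467 c)
noncomputable def Atab_s_458_471 (c : Nat) : Nat := @Bool.rec (fun _ => Nat) (Atab_s_458_464 c) (Atab_s_464_471 c) (Nat.ble 464 c)
noncomputable def Atab_s_446_471 (c : Nat) : Nat := @Bool.rec (fun _ => Nat) (Atab_s_446_458 c) (Atab_s_458_471 c) (Nat.ble 458 c)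
noncomputable def Atab_s_472_474 (c : Nat) : Nat := @Bool.rec (fun _ => Nat) (Atab_472) (Atab_473) (Nat.ble 473 c)
noncomputable def Atab_s_471_474 (c : Nat) : Nat := @Bool.rec (fun _ => Nat) (Atab_471) (Atab_s_472_474 c) (Nat.ble 472 c)
noncomputable def Atab_s_475_477 (c : Nat) : Nat := @Bool.rec (fun _ => Nat) (Atab_475) (Atab_476) (Nat.ble 476 c)
noncomputable def Atab_s_474_477 (c : Nat) : Nat := @Bool.rec (fun _ => Nat) (Atab_474) (Atab_s_475_477 c) (Nat.ble 475 c)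
noncomputable def Atab_s_471_477 (c : Nat) : Nat := @Bool.rec (fun _ => Nat) (Atab_s_471_474 c) (Atab_s_474_477 c) (Nat.ble 474 c)
noncomputable def Atab_s_478_480 (c : Nat) : Nat := @Bool.rec (fun _ => Nat) (Atab_478) (Atab_479) (Nat.ble 479 c)
noncomputable def Atab_s_477_480 (c : Nat) : Nat := @Bool.rec (fun _ => Nat) (Atab_477) (Atab_s_478_480 c) (Nat.ble 478 c)
noncomputable def Atab_s_481_483 (c : Nat) : Nat := @Bool.rec (fun _ => Nat) (Atab_481) (Atab_482) (Nat.ble 482 c)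
noncomputable def Atab_s_480_483 (c : Nat) : Nat := @Bool.rec (fun _ => Nat) (Atab_480) (Atab_s_481_483 c) (Nat.ble 481 c)
noncomputable def Atab_s_477_483 (c : Nat) : Nat := @Bool.rec (fun _ => Nat) (Atab_s_477_480 c) (Atab_s_480_483 c) (Nat.ble 480 c)
noncomputable def Atab_s_471_483 (c : Nat) : Nat := @Bool.rec (fun _ => Nat) (Atab_s_471_477 c) (Atab_s_477_483 c) (Nat.ble 477 c)
noncomputable def Atab_s_484_486 (c : Nat) : Nat := @Bool.rec (fun _ => Nat) (Atab_484) (Atab_485) (Nat.ble 485 c)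
noncomputable def Atab_s_483_486 (c : Nat) : Nat := @Bool.rec (fun _ => Nat) (Atab_483) (Atab_s_484_486 c) (Nat.ble 484 c)
noncomputable def Atab_s_487_489 (c : Nat) : Nat := @Bool.rec (fun _ => Nat) (Atab_487) (Atab_488) (Nat.ble 488 c)
noncomputable def Atab_s_486_489 (c : Nat) : Nat := @Bool.rec (fun _ => Nat) (Atab_486) (Atab_s_487_489 c) (Nat.ble 487 c)
noncomputable def Atab_s_483_489 (c : Nat) : Nat := @Bool.rec (fun _ => Nat) (Atab_s_483_486 c) (Atab_s_486_489 c) (Nat.ble 486 c)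
noncomputable def Atab_s_490_492 (c : Nat) : Nat := @Bool.rec (fun _ => Nat) (Atab_490) (Atab_491) (Nat.ble 491 c)
noncomputable def Atab_s_489_492 (c : Nat) : Nat := @Bool.rec (fun _ => Nat) (Atab_489) (Atab_s_490_492 c) (Nat.ble 490 c)
noncomputable def Atab_s_492_494 (c : Nat) : Nat := @Bool.rec (fun _ => Nat) (Atab_492) (Atab_493) (Nat.ble 493 c)
noncomputable def Atab_s_494_496 (c : Nat) : Nat := @Bool.rec (fun _ => Nat) (Atab_494) (Atab_495) (Nat.ble 495 c)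
noncomputable def Atab_s_492_496 (c : Nat) : Nat := @Bool.rec (fun _ => Nat) (Atab_s_492_494 c) (Atab_s_494_496 c) (Nat.ble 494 c)
noncomputable def Atab_s_489_496 (c : Nat) : Nat := @Bool.rec (fun _ => Nat) (Atab_s_489_492 c) (Atab_s_492_496 c) (Nat.ble 492 c)
noncomputable def Atab_s_483_496 (c : Nat) : Nat := @Bool.rec (fun _ => Nat) (Atab_s_483_489 c) (Atab_s_489_496 c) (Nat.ble 489 c)
noncomputable def Atab_s_471_496 (c : Nat) : Nat := @Bool.rec (fun _ => Nat) (Atab_s_471_483 c) (Atab_s_483_496 c) (Nat.ble 483 c)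
noncomputable def Atab_s_446_496 (c : Nat) : Nat := @Bool.rec (fun _ => Nat) (Atab_s_446_471 c) (Atab_s_471_496 c) (Nat.ble 471 c)
noncomputable def Atab_s_397_496 (c : Nat) : Nat := @Bool.rec (fun _ => Nat) (Atab_s_397_446 c) (Atab_s_446_496 c) (Nat.ble 446 c)
noncomputable def Atab_s_497_499 (c : Nat) : Nat := @Bool.rec (fun _ => Nat) (Atab_497) (Atab_498) (Nat.ble 498 c)
noncomputable def Atab_s_496_499 (c : Nat) : Nat := @Bool.rec (fun _ => Nat) (Atab_496) (Atab_s_497_499 c) (Nat.ble 497 c)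
noncomputable def Atab_s_500_502 (c : Nat) : Nat := @Bool.rec (fun _ => Nat) (Atab_500) (Atab_501) (Nat.ble 501 c)
noncomputable def Atab_s_499_502 (c : Nat) : Nat := @Bool.rec (fun _ => Nat) (Atab_499) (Atab_s_500_502 c) (Nat.ble 500 c)
noncomputable def Atab_s_496_502 (c : Nat) : Nat := @Bool.rec (fun _ => Nat) (Atab_s_496_499 c) (Atab_s_499_502 c) (Nat.ble 499 c)
noncomputable def Atab_s_503_505 (c : Nat) : Nat := @Bool.rec (fun _ => Nat) (Atab_503) (Atab_504) (Nat.ble 504 c)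
noncomputable def Atab_s_502_505 (c : Nat) : Nat := @Bool.rec (fun _ => Nat) (Atab_502) (Atab_s_503_505 c) (Nat.ble 503 c)
noncomputable def Atab_s_506_508 (c : Nat) : Nat := @Bool.rec (fun _ => Nat) (Atab_506) (Atab_507) (Nat.ble 507 c)
noncomputable def Atab_s_505_508 (c : Nat) : Nat := @Bool.rec (fun _ => Nat) (Atab_505) (Atab_s_506_508 c) (Nat.ble 506 c)
noncomputable def Atab_s_502_508 (c : Nat) : Nat := @Bool.rec (fun _ => Nat) (Atab_s_502_505 c) (Atab_s_505_508 c) (Nat.ble 505 c)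
noncomputable def Atab_s_496_508 (c : Nat) : Nat := @Bool.rec (fun _ => Nat) (Atab_s_496_502 c) (Atab_s_502_508 c) (Nat.ble 502 c)
noncomputable def Atab_s_509_511 (c : Nat) : Nat := @Bool.rec (fun _ => Nat) (Atab_509) (Atab_510) (Nat.ble 510 c)
noncomputable def Atab_s_508_511 (c : Nat) : Nat := @Bool.rec (fun _ => Nat) (Atab_508) (Atab_s_509_511 c) (Nat.ble 509 c)
noncomputable def Atab_s_512_514 (c : Nat) : Nat := @Bool.rec (fun _ => Nat) (Atab_512) (Atab_513) (Nat.ble 513 c)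
noncomputable def Atab_s_511_514 (c : Nat) : Nat := @Bool.rec (fun _ => Nat) (Atab_511) (Atab_s_512_514 c) (Nat.ble 512 c)
noncomputable def Atab_s_508_514 (c : Nat) : Nat := @Bool.rec (fun _ => Nat) (Atab_s_508_511 c) (Atab_s_511_514 c) (Nat.ble 511 c)
noncomputable def Atab_s_515_517 (c : Nat) : Nat := @Bool.rec (fun _ => Nat) (Atab_515) (Atab_516) (Nat.ble 516 c)
noncomputable def Atab_s_514_517 (c : Nat) : Nat := @Bool.rec (fun _ => Nat) (Atab_514) (Atab_s_515_517 c) (Nat.ble 515 c)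
noncomputable def Atab_s_518_520 (c : Nat) : Nat := @Bool.rec (fun _ => Nat) (Atab_518) (Atab_519) (Nat.ble 519 c)
noncomputable def Atab_s_517_520 (c : Nat) : Nat := @Bool.rec (fun _ => Nat) (Atab_517) (Atab_s_518_520 c) (Nat.ble 518 c)
noncomputable def Atab_s_514_520 (c : Nat) : Nat := @Bool.rec (fun _ => Nat) (Atab_s_514_517 c) (Atab_s_517_520 c) (Nat.ble 517 c)
noncomputable def Atab_s_508_520 (c : Nat) : Nat := @Bool.rec (fun _ => Nat) (Atab_s_508_514 c) (Atab_s_514_520 c) (Nat.ble 514 c)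
noncomputable def Atab_s_496_520 (c : Nat) : Nat := @Bool.rec (fun _ => Nat) (Atab_s_496_508 c) (Atab_s_508_520 c) (Nat.ble 508 c)
noncomputable def Atab_s_521_523 (c : Nat) : Nat := @Bool.rec (fun _ => Nat) (Atab_521) (Atab_522) (Nat.ble 522 c)
noncomputable def Atab_s_520_523 (c : Nat) : Nat := @Bool.rec (fun _ => Nat) (Atab_520) (Atab_s_521_523 c) (Nat.ble 521 c)
noncomputable def Atab_s_524_526 (c : Nat) : Nat := @Bool.rec (fun _ => Nat) (Atab_524) (Atab_525) (Nat.ble 525 c)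
noncomputable def Atab_s_523_526 (c : Nat) : Nat := @Bool.rec (fun _ => Nat) (Atab_523) (Atab_s_524_526 c) (Nat.ble 524 c)
noncomputable def Atab_s_520_526 (c : Nat) : Nat := @Bool.rec (fun _ => Nat) (Atab_s_520_523 c) (Atab_s_523_526 c) (Nat.ble 523 c)
noncomputable def Atab_s_527_529 (c : Nat) : Nat := @Bool.rec (fun _ => Nat) (Atab_527) (Atab_528) (Nat.ble 528 c)
noncomputable def Atab_s_526_529 (c : Nat) : Nat := @Bool.rec (fun _ => Nat) (Atab_526) (Atab_s_527_529 c) (Nat.ble 527 c)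
noncomputable def Atab_s_530_532 (c : Nat) : Nat := @Bool.rec (fun _ => Nat) (Atab_530) (Atab_531) (Nat.ble 531 c)
noncomputable def Atab_s_529_532 (c : Nat) : Nat := @Bool.rec (fun _ => Nat) (Atab_529) (Atab_s_530_532 c) (Nat.ble 530 c)
noncomputable def Atab_s_526_532 (c : Nat) : Nat := @Bool.rec (fun _ => Nat) (Atab_s_526_529 c) (Atab_s_529_532 c) (Nat.ble 529 c)
noncomputable def Atab_s_520_532 (c : Nat) : Nat := @Bool.rec (fun _ => Nat) (Atab_s_520_526 c) (Atab_s_526_532 c) (Nat.ble 526 c)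
noncomputable def Atab_s_533_535 (c : Nat) : Nat := @Bool.rec (fun _ => Nat) (Atab_533) (Atab_534) (Nat.ble 534 c)
noncomputable def Atab_s_532_535 (c : Nat) : Nat := @Bool.rec (fun _ => Nat) (Atab_532) (Atab_s_533_535 c) (Nat.ble 533 c)
noncomputable def Atab_s_536_538 (c : Nat) : Nat := @Bool.rec (fun _ => Nat) (Atab_536) (Atab_537) (Nat.ble 537 c)
noncomputable def Atab_s_535_538 (c : Nat) : Nat := @Bool.rec (fun _ => Nat) (Atab_535) (Atab_s_536_538 c) (Nat.ble 536 c)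
noncomputable def Atab_s_532_538 (c : Nat) : Nat := @Bool.rec (fun _ => Nat) (Atab_s_532_535 c) (Atab_s_535_538 c) (Nat.ble 535 c)
noncomputable def Atab_s_539_541 (c : Nat) : Nat := @Bool.rec (fun _ => Nat) (Atab_539) (Atab_540) (Nat.ble 540 c)
noncomputable def Atab_s_538_541 (c : Nat) : Nat := @Bool.rec (fun _ => Nat) (Atab_538) (Atab_s_539_541 c) (Nat.ble 539 c)
noncomputable def Atab_s_541_543 (c : Nat) : Nat := @Bool.rec (fun _ => Nat) (Atab_541) (Atab_542) (Nat.ble 542 c)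
noncomputable def Atab_s_543_545 (c : Nat) : Nat := @Bool.rec (fun _ => Nat) (Atab_543) (Atab_544) (Nat.ble 544 c)
noncomputable def Atab_s_541_545 (c : Nat) : Nat := @Bool.rec (fun _ => Nat) (Atab_s_541_543 c) (Atab_s_543_545 c) (Nat.ble 543 c)
noncomputable def Atab_s_538_545 (c : Nat) : Nat := @Bool.rec (fun _ => Nat) (Atab_s_538_541 c) (Atab_s_541_545 c) (Nat.ble 541 c)
noncomputable def Atab_s_532_545 (c : Nat) : Nat := @Bool.rec (fun _ => Nat) (Atab_s_532_538 c) (Atab_s_538_545 c) (Nat.ble 538 c)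
noncomputable def Atab_s_520_545 (c : Nat) : Nat := @Bool.rec (fun _ => Nat) (Atab_s_520_532 c) (Atab_s_532_545 c) (Nat.ble 532 c)
noncomputable def Atab_s_496_545 (c : Nat) : Nat := @Bool.rec (fun _ => Nat) (Atab_s_496_520 c) (Atab_s_520_545 c) (Nat.ble 520 c)
noncomputable def Atab_s_546_548 (c : Nat) : Nat := @Bool.rec (fun _ => Nat) (Atab_546) (Atab_547) (Nat.ble 547 c)
noncomputable def Atab_s_545_548 (c : Nat) : Nat := @Bool.rec (fun _ => Nat) (Atab_545) (Atab_s_546_548 c) (Nat.ble 546 c)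
noncomputable def Atab_s_549_551 (c : Nat) : Nat := @Bool.rec (fun _ => Nat) (Atab_549) (Atab_550) (Nat.ble 550 c)
noncomputable def Atab_s_548_551 (c : Nat) : Nat := @Bool.rec (fun _ => Nat) (Atab_548) (Atab_s_549_551 c) (Nat.ble 549 c)
noncomputable def Atab_s_545_551 (c : Nat) : Nat := @Bool.rec (fun _ => Nat) (Atab_s_545_548 c) (Atab_s_548_551 c) (Nat.ble 548 c)
noncomputable def Atab_s_552_554 (c : Nat) : Nat := @Bool.rec (fun _ => Nat) (Atab_552) (Atab_553) (Nat.ble 553 c)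
noncomputable def Atab_s_551_554 (c : Nat) : Nat := @Bool.rec (fun _ => Nat) (Atab_551) (Atab_s_552_554 c) (Nat.ble 552 c)
noncomputable def Atab_s_555_557 (c : Nat) : Nat := @Bool.rec (fun _ => Nat) (Atab_555) (Atab_556) (Nat.ble 556 c)
noncomputable def Atab_s_554_557 (c : Nat) : Nat := @Bool.rec (fun _ => Nat) (Atab_554) (Atab_s_555_557 c) (Nat.ble 555 c)
noncomputable def Atab_s_551_557 (c : Nat) : Nat := @Bool.rec (fun _ => Nat) (Atab_s_551_554 c) (Atab_s_554_557 c) (Nat.ble 554 c)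
noncomputable def Atab_s_545_557 (c : Nat) : Nat := @Bool.rec (fun _ => Nat) (Atab_s_545_551 c) (Atab_s_551_557 c) (Nat.ble 551 c)
noncomputable def Atab_s_558_560 (c : Nat) : Nat := @Bool.rec (fun _ => Nat) (Atab_558) (Atab_559) (Nat.ble 559 c)
noncomputable def Atab_s_557_560 (c : Nat) : Nat := @Bool.rec (fun _ => Nat) (Atab_557) (Atab_s_558_560 c) (Nat.ble 558 c)
noncomputable def Atab_s_561_563 (c : Nat) : Nat := @Bool.rec (fun _ => Nat) (Atab_561) (Atab_562) (Nat.ble 562 c)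
noncomputable def Atab_s_560_563 (c : Nat) : Nat := @Bool.rec (fun _ => Nat) (Atab_560) (Atab_s_561_563 c) (Nat.ble 561 c)
noncomputable def Atab_s_557_563 (c : Nat) : Nat := @Bool.rec (fun _ => Nat) (Atab_s_557_560 c) (Atab_s_560_563 c) (Nat.ble 560 c)
noncomputable def Atab_s_564_566 (c : Nat) : Nat := @Bool.rec (fun _ => Nat) (Atab_564) (Atab_565) (Nat.ble 565 c)
noncomputable def Atab_s_563_566 (c : Nat) : Nat := @Bool.rec (fun _ => Nat) (Atab_563) (Atab_s_564_566 c) (Nat.ble 564 c)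
noncomputable def Atab_s_566_568 (c : Nat) : Nat := @Bool.rec (fun _ => Nat) (Atab_566) (Atab_567) (Nat.ble 567 c)
noncomputable def Atab_s_568_570 (c : Nat) : Nat := @Bool.rec (fun _ => Nat) (Atab_568) (Atab_569) (Nat.ble 569 c)
noncomputable def Atab_s_566_570 (c : Nat) : Nat := @Bool.rec (fun _ => Nat) (Atab_s_566_568 c) (Atab_s_568_570 c) (Nat.ble 568 c)
noncomputable def Atab_s_563_570 (c : Nat) : Nat := @Bool.rec (fun _ => Nat) (Atab_s_563_566 c) (Atab_s_566_570 c) (Nat.ble 566 c)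
noncomputable def Atab_s_557_570 (c : Nat) : Nat := @Bool.rec (fun _ => Nat) (Atab_s_557_563 c) (Atab_s_563_570 c) (Nat.ble 563 c)
noncomputable def Atab_s_545_570 (c : Nat) : Nat := @Bool.rec (fun _ => Nat) (Atab_s_545_557 c) (Atab_s_557_570 c) (Nat.ble 557 c)
noncomputable def Atab_s_571_573 (c : Nat) : Nat := @Bool.rec (fun _ => Nat) (Atab_571) (Atab_572) (Nat.ble 572 c)
noncomputable def Atab_s_570_573 (c : Nat) : Nat := @Bool.rec (fun _ => Nat) (Atab_570) (Atab_s_571_573 c) (Nat.ble 571 c)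
noncomputable def Atab_s_574_576 (c : Nat) : Nat := @Bool.rec (fun _ => Nat) (Atab_574) (Atab_575) (Nat.ble 575 c)
noncomputable def Atab_s_573_576 (c : Nat) : Nat := @Bool.rec (fun _ => Nat) (Atab_573) (Atab_s_574_576 c) (Nat.ble 574 c)
noncomputable def Atab_s_570_576 (c : Nat) : Nat := @Bool.rec (fun _ => Nat) (Atab_s_570_573 c) (Atab_s_573_576 c) (Nat.ble 573 c)
noncomputable def Atab_s_577_579 (c : Nat) : Nat := @Bool.rec (fun _ => Nat) (Atab_577) (Atab_578) (Nat.ble 578 c)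
noncomputable def Atab_s_576_579 (c : Nat) : Nat := @Bool.rec (fun _ => Nat) (Atab_576) (Atab_s_577_579 c) (Nat.ble 577 c)
noncomputable def Atab_s_580_582 (c : Nat) : Nat := @Bool.rec (fun _ => Nat) (Atab_580) (Atab_581) (Nat.ble 581 c)
noncomputable def Atab_s_579_582 (c : Nat) : Nat := @Bool.rec (fun _ => Nat) (Atab_579) (Atab_s_580_582 c) (Nat.ble 580 c)
noncomputable def Atab_s_576_582 (c : Nat) : Nat := @Bool.rec (fun _ => Nat) (Atab_s_576_579 c) (Atab_s_579_582 c) (Nat.ble 579 c)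
noncomputable def Atab_s_570_582 (c : Nat) : Nat := @Bool.rec (fun _ => Nat) (Atab_s_570_576 c) (Atab_s_576_582 c) (Nat.ble 576 c)
noncomputable def Atab_s_583_585 (c : Nat) : Nat := @Bool.rec (fun _ => Nat) (Atab_583) (Atab_584) (Nat.ble 584 c)
noncomputable def Atab_s_582_585 (c : Nat) : Nat := @Bool.rec (fun _ => Nat) (Atab_582) (Atab_s_583_585 c) (Nat.ble 583 c)
noncomputable def Atab_s_586_588 (c : Nat) : Nat := @Bool.rec (fun _ => Nat) (Atab_586) (Atab_587) (Nat.ble 587 c)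
noncomputable def Atab_s_585_588 (c : Nat) : Nat := @Bool.rec (fun _ => Nat) (Atab_585) (Atab_s_586_588 c) (Nat.ble 586 c)
noncomputable def Atab_s_582_588 (c : Nat) : Nat := @Bool.rec (fun _ => Nat) (Atab_s_582_585 c) (Atab_s_585_588 c) (Nat.ble 585 c)
noncomputable def Atab_s_589_591 (c : Nat) : Nat := @Bool.rec (fun _ => Nat) (Atab_589) (Atab_590) (Nat.ble 590 c)
noncomputable def Atab_s_588_591 (c : Nat) : Nat := @Bool.rec (fun _ => Nat) (Atab_588) (Atab_s_589_591 c) (Nat.ble 589 c)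
noncomputable def Atab_s_591_593 (c : Nat) : Nat := @Bool.rec (fun _ => Nat) (Atab_591) (Atab_592) (Nat.ble 592 c)
noncomputable def Atab_s_593_595 (c : Nat) : Nat := @Bool.rec (fun _ => Nat) (Atab_593) (Atab_594) (Nat.ble 594 c)
noncomputable def Atab_s_591_595 (c : Nat) : Nat := @Bool.rec (fun _ => Nat) (Atab_s_591_593 c) (Atab_s_593_595 c) (Nat.ble 593 c)
noncomputable def Atab_s_588_595 (c : Nat) : Nat := @Bool.rec (fun _ => Nat) (Atab_s_588_591 c) (Atab_s_591_595 c) (Nat.ble 591 c)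
noncomputable def Atab_s_582_595 (c : Nat) : Nat := @Bool.rec (fun _ => Nat) (Atab_s_582_588 c) (Atab_s_588_595 c) (Nat.ble 588 c)
noncomputable def Atab_s_570_595 (c : Nat) : Nat := @Bool.rec (fun _ => Nat) (Atab_s_570_582 c) (Atab_s_582_595 c) (Nat.ble 582 c)
noncomputable def Atab_s_545_595 (c : Nat) : Nat := @Bool.rec (fun _ => Nat) (Atab_s_545_570 c) (Atab_s_570_595 c) (Nat.ble 570 c)
noncomputable def Atab_s_496_595 (c : Nat) : Nat := @Bool.rec (fun _ => Nat) (Atab_s_496_545 c) (Atab_s_545_595 c) (Nat.ble 545 c)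
noncomputable def Atab_s_397_595 (c : Nat) : Nat := @Bool.rec (fun _ => Nat) (Atab_s_397_496 c) (Atab_s_496_595 c) (Nat.ble 496 c)
noncomputable def Atab_s_596_598 (c : Nat) : Nat := @Bool.rec (fun _ => Nat) (Atab_596) (Atab_597) (Nat.ble 597 c)
noncomputable def Atab_s_595_598 (c : Nat) : Nat := @Bool.rec (fun _ => Nat) (Atab_595) (Atab_s_596_598 c) (Nat.ble 596 c)
noncomputable def Atab_s_599_601 (c : Nat) : Nat := @Bool.rec (fun _ => Nat) (Atab_599) (Atab_600) (Nat.ble 600 c)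
noncomputable def Atab_s_598_601 (c : Nat) : Nat := @Bool.rec (fun _ => Nat) (Atab_598) (Atab_s_599_601 c) (Nat.ble 599 c)
noncomputable def Atab_s_595_601 (c : Nat) : Nat := @Bool.rec (fun _ => Nat) (Atab_s_595_598 c) (Atab_s_598_601 c) (Nat.ble 598 c)
noncomputable def Atab_s_602_604 (c : Nat) : Nat := @Bool.rec (fun _ => Nat) (Atab_602) (Atab_603) (Nat.ble 603 c)
noncomputable def Atab_s_601_604 (c : Nat) : Nat := @Bool.rec (fun _ => Nat) (Atab_601) (Atab_s_602_604 c) (Nat.ble 602 c)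
noncomputable def Atab_s_605_607 (c : Nat) : Nat := @Bool.rec (fun _ => Nat) (Atab_605) (Atab_606) (Nat.ble 606 c)
noncomputable def Atab_s_604_607 (c : Nat) : Nat := @Bool.rec (fun _ => Nat) (Atab_604) (Atab_s_605_607 c) (Nat.ble 605 c)
noncomputable def Atab_s_601_607 (c : Nat) : Nat := @Bool.rec (fun _ => Nat) (Atab_s_601_604 c) (Atab_s_604_607 c) (Nat.ble 604 c)
noncomputable def Atab_s_595_607 (c : Nat) : Nat := @Bool.rec (fun _ => Nat) (Atab_s_595_601 c) (Atab_s_601_607 c) (Nat.ble 601 c)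
noncomputable def Atab_s_608_610 (c : Nat) : Nat := @Bool.rec (fun _ => Nat) (Atab_608) (Atab_609) (Nat.ble 609 c)
noncomputable def Atab_s_607_610 (c : Nat) : Nat := @Bool.rec (fun _ => Nat) (Atab_607) (Atab_s_608_610 c) (Nat.ble 608 c)
noncomputable def Atab_s_611_613 (c : Nat) : Nat := @Bool.rec (fun _ => Nat) (Atab_611) (Atab_612) (Nat.ble 612 c)
noncomputable def Atab_s_610_613 (c : Nat) : Nat := @Bool.rec (fun _ => Nat) (Atab_610) (Atab_s_611_613 c) (Nat.ble 611 c)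
noncomputable def Atab_s_607_613 (c : Nat) : Nat := @Bool.rec (fun _ => Nat) (Atab_s_607_610 c) (Atab_s_610_613 c) (Nat.ble 610 c)
noncomputable def Atab_s_614_616 (c : Nat) : Nat := @Bool.rec (fun _ => Nat) (Atab_614) (Atab_615) (Nat.ble 615 c)
noncomputable def Atab_s_613_616 (c : Nat) : Nat := @Bool.rec (fun _ => Nat) (Atab_613) (Atab_s_614_616 c) (Nat.ble 614 c)
noncomputable def Atab_s_617_619 (c : Nat) : Nat := @Bool.rec (fun _ => Nat) (Atab_617) (Atab_618) (Nat.ble 618 c)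
noncomputable def Atab_s_616_619 (c : Nat) : Nat := @Bool.rec (fun _ => Nat) (Atab_616) (Atab_s_617_619 c) (Nat.ble 617 c)
noncomputable def Atab_s_613_619 (c : Nat) : Nat := @Bool.rec (fun _ => Nat) (Atab_s_613_616 c) (Atab_s_616_619 c) (Nat.ble 616 c)
noncomputable def Atab_s_607_619 (c : Nat) : Nat := @Bool.rec (fun _ => Nat) (Atab_s_607_613 c) (Atab_s_613_619 c) (Nat.ble 613 c)
noncomputable def Atab_s_595_619 (c : Nat) : Nat := @Bool.rec (fun _ => Nat) (Atab_s_595_607 c) (Atab_s_607_619 c) (Nat.ble 607 c)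
noncomputable def Atab_s_620_622 (c : Nat) : Nat := @Bool.rec (fun _ => Nat) (Atab_620) (Atab_621) (Nat.ble 621 c)
noncomputable def Atab_s_619_622 (c : Nat) : Nat := @Bool.rec (fun _ => Nat) (Atab_619) (Atab_s_620_622 c) (Nat.ble 620 c)
noncomputable def Atab_s_623_625 (c : Nat) : Nat := @Bool.rec (fun _ => Nat) (Atab_623) (Atab_624) (Nat.ble 624 c)
noncomputable def Atab_s_622_625 (c : Nat) : Nat := @Bool.rec (fun _ => Nat) (Atab_622) (Atab_s_623_625 c) (Nat.ble 623 c)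
noncomputable def Atab_s_619_625 (c : Nat) : Nat := @Bool.rec (fun _ => Nat) (Atab_s_619_622 c) (Atab_s_622_625 c) (Nat.ble 622 c)
noncomputable def Atab_s_626_628 (c : Nat) : Nat := @Bool.rec (fun _ => Nat) (Atab_626) (Atab_627) (Nat.ble 627 c)
noncomputable def Atab_s_625_628 (c : Nat) : Nat := @Bool.rec (fun _ => Nat) (Atab_625) (Atab_s_626_628 c) (Nat.ble 626 c)
noncomputable def Atab_s_629_631 (c : Nat) : Nat := @Bool.rec (fun _ => Nat) (Atab_629) (Atab_630) (Nat.ble 630 c)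
noncomputable def Atab_s_628_631 (c : Nat) : Nat := @Bool.rec (fun _ => Nat) (Atab_628) (Atab_s_629_631 c) (Nat.ble 629 c)
noncomputable def Atab_s_625_631 (c : Nat) : Nat := @Bool.rec (fun _ => Nat) (Atab_s_625_628 c) (Atab_s_628_631 c) (Nat.ble 628 c)
noncomputable def Atab_s_619_631 (c : Nat) : Nat := @Bool.rec (fun _ => Nat) (Atab_s_619_625 c) (Atab_s_625_631 c) (Nat.ble 625 c)
noncomputable def Atab_s_632_634 (c : Nat) : Nat := @Bool.rec (fun _ => Nat) (Atab_632) (Atab_633) (Nat.ble 633 c)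
noncomputable def Atab_s_631_634 (c : Nat) : Nat := @Bool.rec (fun _ => Nat) (Atab_631) (Atab_s_632_634 c) (Nat.ble 632 c)
noncomputable def Atab_s_635_637 (c : Nat) : Nat := @Bool.rec (fun _ => Nat) (Atab_635) (Atab_636) (Nat.ble 636 c)
noncomputable def Atab_s_634_637 (c : Nat) : Nat := @Bool.rec (fun _ => Nat) (Atab_634) (Atab_s_635_637 c) (Nat.ble 635 c)
noncomputable def Atab_s_631_637 (c : Nat) : Nat := @Bool.rec (fun _ => Nat) (Atab_s_631_634 c) (Atab_s_634_637 c) (Nat.ble 634 c)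
noncomputable def Atab_s_638_640 (c : Nat) : Nat := @Bool.rec (fun _ => Nat) (Atab_638) (Atab_639) (Nat.ble 639 c)
noncomputable def Atab_s_637_640 (c : Nat) : Nat := @Bool.rec (fun _ => Nat) (Atab_637) (Atab_s_638_640 c) (Nat.ble 638 c)
noncomputable def Atab_s_640_642 (c : Nat) : Nat := @Bool.rec (fun _ => Nat) (Atab_640) (Atab_641) (Nat.ble 641 c)
noncomputable def Atab_s_642_644 (c : Nat) : Nat := @Bool.rec (fun _ => Nat) (Atab_642) (Atab_643) (Nat.ble 643 c)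
noncomputable def Atab_s_640_644 (c : Nat) : Nat := @Bool.rec (fun _ => Nat) (Atab_s_640_642 c) (Atab_s_642_644 c) (Nat.ble 642 c)
noncomputable def Atab_s_637_644 (c : Nat) : Nat := @Bool.rec (fun _ => Nat) (Atab_s_637_640 c) (Atab_s_640_644 c) (Nat.ble 640 c)
noncomputable def Atab_s_631_644 (c : Nat) : Nat := @Bool.rec (fun _ => Nat) (Atab_s_631_637 c) (Atab_s_637_644 c) (Nat.ble 637 c)
noncomputable def Atab_s_619_644 (c : Nat) : Nat := @Bool.rec (fun _ => Nat) (Atab_s_619_631 c) (Atab_s_631_644 c) (Nat.ble 631 c)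
noncomputable def Atab_s_595_644 (c : Nat) : Nat := @Bool.rec (fun _ => Nat) (Atab_s_595_619 c) (Atab_s_619_644 c) (Nat.ble 619 c)
noncomputable def Atab_s_645_647 (c : Nat) : Nat := @Bool.rec (fun _ => Nat) (Atab_645) (Atab_646) (Nat.ble 646 c)
noncomputable def Atab_s_644_647 (c : Nat) : Nat := @Bool.rec (fun _ => Nat) (Atab_644) (Atab_s_645_647 c) (Nat.ble 645 c)
noncomputable def Atab_s_648_650 (c : Nat) : Nat := @Bool.rec (fun _ => Nat) (Atab_648) (Atab_649) (Nat.ble 649 c)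
noncomputable def Atab_s_647_650 (c : Nat) : Nat := @Bool.rec (fun _ => Nat) (Atab_647) (Atab_s_648_650 c) (Nat.ble 648 c)
noncomputable def Atab_s_644_650 (c : Nat) : Nat := @Bool.rec (fun _ => Nat) (Atab_s_644_647 c) (Atab_s_647_650 c) (Nat.ble 647 c)
noncomputable def Atab_s_651_653 (c : Nat) : Nat := @Bool.rec (fun _ => Nat) (Atab_651) (Atab_652) (Nat.ble 652 c)
noncomputable def Atab_s_650_653 (c : Nat) : Nat := @Bool.rec (fun _ => Nat) (Atab_650) (Atab_s_651_653 c) (Nat.ble 651 c)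
noncomputable def Atab_s_654_656 (c : Nat) : Nat := @Bool.rec (fun _ => Nat) (Atab_654) (Atab_655) (Nat.ble 655 c)
noncomputable def Atab_s_653_656 (c : Nat) : Nat := @Bool.rec (fun _ => Nat) (Atab_653) (Atab_s_654_656 c) (Nat.ble 654 c)
noncomputable def Atab_s_650_656 (c : Nat) : Nat := @Bool.rec (fun _ => Nat) (Atab_s_650_653 c) (Atab_s_653_656 c) (Nat.ble 653 c)
noncomputable def Atab_s_644_656 (c : Nat) : Nat := @Bool.rec (fun _ => Nat) (Atab_s_644_650 c) (Atab_s_650_656 c) (Nat.ble 650 c)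
noncomputable def Atab_s_657_659 (c : Nat) : Nat := @Bool.rec (fun _ => Nat) (Atab_657) (Atab_658) (Nat.ble 658 c)
noncomputable def Atab_s_656_659 (c : Nat) : Nat := @Bool.rec (fun _ => Nat) (Atab_656) (Atab_s_657_659 c) (Nat.ble 657 c)
noncomputable def Atab_s_660_662 (c : Nat) : Nat := @Bool.rec (fun _ => Nat) (Atab_660) (Atab_661) (Nat.ble 661 c)
noncomputable def Atab_s_659_662 (c : Nat) : Nat := @Bool.rec (fun _ => Nat) (Atab_659) (Atab_s_660_662 c) (Nat.ble 660 c)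
noncomputable def Atab_s_656_662 (c : Nat) : Nat := @Bool.rec (fun _ => Nat) (Atab_s_656_659 c) (Atab_s_659_662 c) (Nat.ble 659 c)
noncomputable def Atab_s_663_665 (c : Nat) : Nat := @Bool.rec (fun _ => Nat) (Atab_663) (Atab_664) (Nat.ble 664 c)
noncomputable def Atab_s_662_665 (c : Nat) : Nat := @Bool.rec (fun _ => Nat) (Atab_662) (Atab_s_663_665 c) (Nat.ble 663 c)
noncomputable def Atab_s_665_667 (c : Nat) : Nat := @Bool.rec (fun _ => Nat) (Atab_665) (Atab_666) (Nat.ble 666 c)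
noncomputable def Atab_s_667_669 (c : Nat) : Nat := @Bool.rec (fun _ => Nat) (Atab_667) (Atab_668) (Nat.ble 668 c)
noncomputable def Atab_s_665_669 (c : Nat) : Nat := @Bool.rec (fun _ => Nat) (Atab_s_665_667 c) (Atab_s_667_669 c) (Nat.ble 667 c)
noncomputable def Atab_s_662_669 (c : Nat) : Nat := @Bool.rec (fun _ => Nat) (Atab_s_662_665 c) (Atab_s_665_669 c) (Nat.ble 665 c)
noncomputable def Atab_s_656_669 (c : Nat) : Nat := @Bool.rec (fun _ => Nat) (Atab_s_656_662 c) (Atab_s_662_669 c) (Nat.ble 662 c)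
noncomputable def Atab_s_644_669 (c : Nat) : Nat := @Bool.rec (fun _ => Nat) (Atab_s_644_656 c) (Atab_s_656_669 c) (Nat.ble 656 c)
noncomputable def Atab_s_670_672 (c : Nat) : Nat := @Bool.rec (fun _ => Nat) (Atab_670) (Atab_671) (Nat.ble 671 c)
noncomputable def Atab_s_669_672 (c : Nat) : Nat := @Bool.rec (fun _ => Nat) (Atab_669) (Atab_s_670_672 c) (Nat.ble 670 c)
noncomputable def Atab_s_673_675 (c : Nat) : Nat := @Bool.rec (fun _ => Nat) (Atab_673) (Atab_674) (Nat.ble 674 c)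
noncomputable def Atab_s_672_675 (c : Nat) : Nat := @Bool.rec (fun _ => Nat) (Atab_672) (Atab_s_673_675 c) (Nat.ble 673 c)
noncomputable def Atab_s_669_675 (c : Nat) : Nat := @Bool.rec (fun _ => Nat) (Atab_s_669_672 c) (Atab_s_672_675 c) (Nat.ble 672 c)
noncomputable def Atab_s_676_678 (c : Nat) : Nat := @Bool.rec (fun _ => Nat) (Atab_676) (Atab_677) (Nat.ble 677 c)
noncomputable def Atab_s_675_678 (c : Nat) : Nat := @Bool.rec (fun _ => Nat) (Atab_675) (Atab_s_676_678 c) (Nat.ble 676 c)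
noncomputable def Atab_s_679_681 (c : Nat) : Nat := @Bool.rec (fun _ => Nat) (Atab_679) (Atab_680) (Nat.ble 680 c)
noncomputable def Atab_s_678_681 (c : Nat) : Nat := @Bool.rec (fun _ => Nat) (Atab_678) (Atab_s_679_681 c) (Nat.ble 679 c)
noncomputable def Atab_s_675_681 (c : Nat) : Nat := @Bool.rec (fun _ => Nat) (Atab_s_675_678 c) (Atab_s_678_681 c) (Nat.ble 678 c)
noncomputable def Atab_s_669_681 (c : Nat) : Nat := @Bool.rec (fun _ => Nat) (Atab_s_669_675 c) (Atab_s_675_681 c) (Nat.ble 675 c)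
noncomputable def Atab_s_682_684 (c : Nat) : Nat := @Bool.rec (fun _ => Nat) (Atab_682) (Atab_683) (Nat.ble 683 c)
noncomputable def Atab_s_681_684 (c : Nat) : Nat := @Bool.rec (fun _ => Nat) (Atab_681) (Atab_s_682_684 c) (Nat.ble 682 c)
noncomputable def Atab_s_685_687 (c : Nat) : Nat := @Bool.rec (fun _ => Nat) (Atab_685) (Atab_686) (Nat.ble 686 c)
noncomputable def Atab_s_684_687 (c : Nat) : Nat := @Bool.rec (fun _ => Nat) (Atab_684) (Atab_s_685_687 c) (Nat.ble 685 c)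
noncomputable def Atab_s_681_687 (c : Nat) : Nat := @Bool.rec (fun _ => Nat) (Atab_s_681_684 c) (Atab_s_684_687 c) (Nat.ble 684 c)
noncomputable def Atab_s_688_690 (c : Nat) : Nat := @Bool.rec (fun _ => Nat) (Atab_688) (Atab_689) (Nat.ble 689 c)
noncomputable def Atab_s_687_690 (c : Nat) : Nat := @Bool.rec (fun _ => Nat) (Atab_687) (Atab_s_688_690 c) (Nat.ble 688 c)
noncomputable def Atab_s_690_692 (c : Nat) : Nat := @Bool.rec (fun _ => Nat) (Atab_690) (Atab_691) (Nat.ble 691 c)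
noncomputable def Atab_s_692_694 (c : Nat) : Nat := @Bool.rec (fun _ => Nat) (Atab_692) (Atab_693) (Nat.ble 693 c)
noncomputable def Atab_s_690_694 (c : Nat) : Nat := @Bool.rec (fun _ => Nat) (Atab_s_690_692 c) (Atab_s_692_694 c) (Nat.ble 692 c)
noncomputable def Atab_s_687_694 (c : Nat) : Nat := @Bool.rec (fun _ => Nat) (Atab_s_687_690 c) (Atab_s_690_694 c) (Nat.ble 690 c)
noncomputable def Atab_s_681_694 (c : Nat) : Nat := @Bool.rec (fun _ => Nat) (Atab_s_681_687 c) (Atab_s_687_694 c) (Nat.ble 687 c)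
noncomputable def Atab_s_669_694 (c : Nat) : Nat := @Bool.rec (fun _ => Nat) (Atab_s_669_681 c) (Atab_s_681_694 c) (Nat.ble 681 c)
noncomputable def Atab_s_644_694 (c : Nat) : Nat := @Bool.rec (fun _ => Nat) (Atab_s_644_669 c) (Atab_s_669_694 c) (Nat.ble 669 c)
noncomputable def Atab_s_595_694 (c : Nat) : Nat := @Bool.rec (fun _ => Nat) (Atab_s_595_644 c) (Atab_s_644_694 c) (Nat.ble 644 c)
noncomputable def Atab_s_695_697 (c : Nat) : Nat := @Bool.rec (fun _ => Nat) (Atab_695) (Atab_696) (Nat.ble 696 c)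
noncomputable def Atab_s_694_697 (c : Nat) : Nat := @Bool.rec (fun _ => Nat) (Atab_694) (Atab_s_695_697 c) (Nat.ble 695 c)
noncomputable def Atab_s_698_700 (c : Nat) : Nat := @Bool.rec (fun _ => Nat) (Atab_698) (Atab_699) (Nat.ble 699 c)
noncomputable def Atab_s_697_700 (c : Nat) : Nat := @Bool.rec (fun _ => Nat) (Atab_697) (Atab_s_698_700 c) (Nat.ble 698 c)
noncomputable def Atab_s_694_700 (c : Nat) : Nat := @Bool.rec (fun _ => Nat) (Atab_s_694_697 c) (Atab_s_697_700 c) (Nat.ble 697 c)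
noncomputable def Atab_s_701_703 (c : Nat) : Nat := @Bool.rec (fun _ => Nat) (Atab_701) (Atab_702) (Nat.ble 702 c)
noncomputable def Atab_s_700_703 (c : Nat) : Nat := @Bool.rec (fun _ => Nat) (Atab_700) (Atab_s_701_703 c) (Nat.ble 701 c)
noncomputable def Atab_s_704_706 (c : Nat) : Nat := @Bool.rec (fun _ => Nat) (Atab_704) (Atab_705) (Nat.ble 705 c)
noncomputable def Atab_s_703_706 (c : Nat) : Nat := @Bool.rec (fun _ => Nat) (Atab_703) (Atab_s_704_706 c) (Nat.ble 704 c)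
noncomputable def Atab_s_700_706 (c : Nat) : Nat := @Bool.rec (fun _ => Nat) (Atab_s_700_703 c) (Atab_s_703_706 c) (Nat.ble 703 c)
noncomputable def Atab_s_694_706 (c : Nat) : Nat := @Bool.rec (fun _ => Nat) (Atab_s_694_700 c) (Atab_s_700_706 c) (Nat.ble 700 c)
noncomputable def Atab_s_707_709 (c : Nat) : Nat := @Bool.rec (fun _ => Nat) (Atab_707) (Atab_708) (Nat.ble 708 c)
noncomputable def Atab_s_706_709 (c : Nat) : Nat := @Bool.rec (fun _ => Nat) (Atab_706) (Atab_s_707_709 c) (Nat.ble 707 c)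
noncomputable def Atab_s_710_712 (c : Nat) : Nat := @Bool.rec (fun _ => Nat) (Atab_710) (Atab_711) (Nat.ble 711 c)
noncomputable def Atab_s_709_712 (c : Nat) : Nat := @Bool.rec (fun _ => Nat) (Atab_709) (Atab_s_710_712 c) (Nat.ble 710 c)
noncomputable def Atab_s_706_712 (c : Nat) : Nat := @Bool.rec (fun _ => Nat) (Atab_s_706_709 c) (Atab_s_709_712 c) (Nat.ble 709 c)
noncomputable def Atab_s_713_715 (c : Nat) : Nat := @Bool.rec (fun _ => Nat) (Atab_713) (Atab_714) (Nat.ble 714 c)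
noncomputable def Atab_s_712_715 (c : Nat) : Nat := @Bool.rec (fun _ => Nat) (Atab_712) (Atab_s_713_715 c) (Nat.ble 713 c)
noncomputable def Atab_s_715_717 (c : Nat) : Nat := @Bool.rec (fun _ => Nat) (Atab_715) (Atab_716) (Nat.ble 716 c)
noncomputable def Atab_s_717_719 (c : Nat) : Nat := @Bool.rec (fun _ => Nat) (Atab_717) (Atab_718) (Nat.ble 718 c)
noncomputable def Atab_s_715_719 (c : Nat) : Nat := @Bool.rec (fun _ => Nat) (Atab_s_715_717 c) (Atab_s_717_719 c) (Nat.ble 717 c)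
noncomputable def Atab_s_712_719 (c : Nat) : Nat := @Bool.rec (fun _ => Nat) (Atab_s_712_715 c) (Atab_s_715_719 c) (Nat.ble 715 c)
noncomputable def Atab_s_706_719 (c : Nat) : Nat := @Bool.rec (fun _ => Nat) (Atab_s_706_712 c) (Atab_s_712_719 c) (Nat.ble 712 c)
noncomputable def Atab_s_694_719 (c : Nat) : Nat := @Bool.rec (fun _ => Nat) (Atab_s_694_706 c) (Atab_s_706_719 c) (Nat.ble 706 c)
noncomputable def Atab_s_720_722 (c : Nat) : Nat := @Bool.rec (fun _ => Nat) (Atab_720) (Atab_721) (Nat.ble 721 c)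
noncomputable def Atab_s_719_722 (c : Nat) : Nat := @Bool.rec (fun _ => Nat) (Atab_719) (Atab_s_720_722 c) (Nat.ble 720 c)
noncomputable def Atab_s_723_725 (c : Nat) : Nat := @Bool.rec (fun _ => Nat) (Atab_723) (Atab_724) (Nat.ble 724 c)
noncomputable def Atab_s_722_725 (c : Nat) : Nat := @Bool.rec (fun _ => Nat) (Atab_722) (Atab_s_723_725 c) (Nat.ble 723 c)
noncomputable def Atab_s_719_725 (c : Nat) : Nat := @Bool.rec (fun _ => Nat) (Atab_s_719_722 c) (Atab_s_722_725 c) (Nat.ble 722 c)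
noncomputable def Atab_s_726_728 (c : Nat) : Nat := @Bool.rec (fun _ => Nat) (Atab_726) (Atab_727) (Nat.ble 727 c)
noncomputable def Atab_s_725_728 (c : Nat) : Nat := @Bool.rec (fun _ => Nat) (Atab_725) (Atab_s_726_728 c) (Nat.ble 726 c)
noncomputable def Atab_s_729_731 (c : Nat) : Nat := @Bool.rec (fun _ => Nat) (Atab_729) (Atab_730) (Nat.ble 730 c)
noncomputable def Atab_s_728_731 (c : Nat) : Nat := @Bool.rec (fun _ => Nat) (Atab_728) (Atab_s_729_731 c) (Nat.ble 729 c)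
noncomputable def Atab_s_725_731 (c : Nat) : Nat := @Bool.rec (fun _ => Nat) (Atab_s_725_728 c) (Atab_s_728_731 c) (Nat.ble 728 c)
noncomputable def Atab_s_719_731 (c : Nat) : Nat := @Bool.rec (fun _ => Nat) (Atab_s_719_725 c) (Atab_s_725_731 c) (Nat.ble 725 c)
noncomputable def Atab_s_732_734 (c : Nat) : Nat := @Bool.rec (fun _ => Nat) (Atab_732) (Atab_733) (Nat.ble 733 c)
noncomputable def Atab_s_731_734 (c : Nat) : Nat := @Bool.rec (fun _ => Nat) (Atab_731) (Atab_s_732_734 c) (Nat.ble 732 c)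
noncomputable def Atab_s_735_737 (c : Nat) : Nat := @Bool.rec (fun _ => Nat) (Atab_735) (Atab_736) (Nat.ble 736 c)
noncomputable def Atab_s_734_737 (c : Nat) : Nat := @Bool.rec (fun _ => Nat) (Atab_734) (Atab_s_735_737 c) (Nat.ble 735 c)
noncomputable def Atab_s_731_737 (c : Nat) : Nat := @Bool.rec (fun _ => Nat) (Atab_s_731_734 c) (Atab_s_734_737 c) (Nat.ble 734 c)
noncomputable def Atab_s_738_740 (c : Nat) : Nat := @Bool.rec (fun _ => Nat) (Atab_738) (Atab_739) (Nat.ble 739 c)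
noncomputable def Atab_s_737_740 (c : Nat) : Nat := @Bool.rec (fun _ => Nat) (Atab_737) (Atab_s_738_740 c) (Nat.ble 738 c)
noncomputable def Atab_s_740_742 (c : Nat) : Nat := @Bool.rec (fun _ => Nat) (Atab_740) (Atab_741) (Nat.ble 741 c)
noncomputable def Atab_s_742_744 (c : Nat) : Nat := @Bool.rec (fun _ => Nat) (Atab_742) (Atab_743) (Nat.ble 743 c)
noncomputable def Atab_s_740_744 (c : Nat) : Nat := @Bool.rec (fun _ => Nat) (Atab_s_740_742 c) (Atab_s_742_744 c) (Nat.ble 742 c)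
noncomputable def Atab_s_737_744 (c : Nat) : Nat := @Bool.rec (fun _ => Nat) (Atab_s_737_740 c) (Atab_s_740_744 c) (Nat.ble 740 c)
noncomputable def Atab_s_731_744 (c : Nat) : Nat := @Bool.rec (fun _ => Nat) (Atab_s_731_737 c) (Atab_s_737_744 c) (Nat.ble 737 c)
noncomputable def Atab_s_719_744 (c : Nat) : Nat := @Bool.rec (fun _ => Nat) (Atab_s_719_731 c) (Atab_s_731_744 c) (Nat.ble 731 c)
noncomputable def Atab_s_694_744 (c : Nat) : Nat := @Bool.rec (fun _ => Nat) (Atab_s_694_719 c) (Atab_s_719_744 c) (Nat.ble 719 c)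
noncomputable def Atab_s_745_747 (c : Nat) : Nat := @Bool.rec (fun _ => Nat) (Atab_745) (Atab_746) (Nat.ble 746 c)
noncomputable def Atab_s_744_747 (c : Nat) : Nat := @Bool.rec (fun _ => Nat) (Atab_744) (Atab_s_745_747 c) (Nat.ble 745 c)
noncomputable def Atab_s_748_750 (c : Nat) : Nat := @Bool.rec (fun _ => Nat) (Atab_748) (Atab_749) (Nat.ble 749 c)
noncomputable def Atab_s_747_750 (c : Nat) : Nat := @Bool.rec (fun _ => Nat) (Atab_747) (Atab_s_748_750 c) (Nat.ble 748 c)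
noncomputable def Atab_s_744_750 (c : Nat) : Nat := @Bool.rec (fun _ => Nat) (Atab_s_744_747 c) (Atab_s_747_750 c) (Nat.ble 747 c)
noncomputable def Atab_s_751_753 (c : Nat) : Nat := @Bool.rec (fun _ => Nat) (Atab_751) (Atab_752) (Nat.ble 752 c)
noncomputable def Atab_s_750_753 (c : Nat) : Nat := @Bool.rec (fun _ => Nat) (Atab_750) (Atab_s_751_753 c) (Nat.ble 751 c)
noncomputable def Atab_s_754_756 (c : Nat) : Nat := @Bool.rec (fun _ => Nat) (Atab_754) (Atab_755) (Nat.ble 755 c)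
noncomputable def Atab_s_753_756 (c : Nat) : Nat := @Bool.rec (fun _ => Nat) (Atab_753) (Atab_s_754_756 c) (Nat.ble 754 c)
noncomputable def Atab_s_750_756 (c : Nat) : Nat := @Bool.rec (fun _ => Nat) (Atab_s_750_753 c) (Atab_s_753_756 c) (Nat.ble 753 c)
noncomputable def Atab_s_744_756 (c : Nat) : Nat := @Bool.rec (fun _ => Nat) (Atab_s_744_750 c) (Atab_s_750_756 c) (Nat.ble 750 c)
noncomputable def Atab_s_757_759 (c : Nat) : Nat := @Bool.rec (fun _ => Nat) (Atab_757) (Atab_758) (Nat.ble 758 c)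
noncomputable def Atab_s_756_759 (c : Nat) : Nat := @Bool.rec (fun _ => Nat) (Atab_756) (Atab_s_757_759 c) (Nat.ble 757 c)
noncomputable def Atab_s_760_762 (c : Nat) : Nat := @Bool.rec (fun _ => Nat) (Atab_760) (Atab_761) (Nat.ble 761 c)
noncomputable def Atab_s_759_762 (c : Nat) : Nat := @Bool.rec (fun _ => Nat) (Atab_759) (Atab_s_760_762 c) (Nat.ble 760 c)
noncomputable def Atab_s_756_762 (c : Nat) : Nat := @Bool.rec (fun _ => Nat) (Atab_s_756_759 c) (Atab_s_759_762 c) (Nat.ble 759 c)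
noncomputable def Atab_s_763_765 (c : Nat) : Nat := @Bool.rec (fun _ => Nat) (Atab_763) (Atab_764) (Nat.ble 764 c)
noncomputable def Atab_s_762_765 (c : Nat) : Nat := @Bool.rec (fun _ => Nat) (Atab_762) (Atab_s_763_765 c) (Nat.ble 763 c)
noncomputable def Atab_s_765_767 (c : Nat) : Nat := @Bool.rec (fun _ => Nat) (Atab_765) (Atab_766) (Nat.ble 766 c)
noncomputable def Atab_s_767_769 (c : Nat) : Nat := @Bool.rec (fun _ => Nat) (Atab_767) (Atab_768) (Nat.ble 768 c)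
noncomputable def Atab_s_765_769 (c : Nat) : Nat := @Bool.rec (fun _ => Nat) (Atab_s_765_767 c) (Atab_s_767_769 c) (Nat.ble 767 c)
noncomputable def Atab_s_762_769 (c : Nat) : Nat := @Bool.rec (fun _ => Nat) (Atab_s_762_765 c) (Atab_s_765_769 c) (Nat.ble 765 c)
noncomputable def Atab_s_756_769 (c : Nat) : Nat := @Bool.rec (fun _ => Nat) (Atab_s_756_762 c) (Atab_s_762_769 c) (Nat.ble 762 c)
noncomputable def Atab_s_744_769 (c : Nat) : Nat := @Bool.rec (fun _ => Nat) (Atab_s_744_756 c) (Atab_s_756_769 c) (Nat.ble 756 c)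
noncomputable def Atab_s_770_772 (c : Nat) : Nat := @Bool.rec (fun _ => Nat) (Atab_770) (Atab_771) (Nat.ble 771 c)
noncomputable def Atab_s_769_772 (c : Nat) : Nat := @Bool.rec (fun _ => Nat) (Atab_769) (Atab_s_770_772 c) (Nat.ble 770 c)
noncomputable def Atab_s_773_775 (c : Nat) : Nat := @Bool.rec (fun _ => Nat) (Atab_773) (Atab_774) (Nat.ble 774 c)
noncomputable def Atab_s_772_775 (c : Nat) : Nat := @Bool.rec (fun _ => Nat) (Atab_772) (Atab_s_773_775 c) (Nat.ble 773 c)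
noncomputable def Atab_s_769_775 (c : Nat) : Nat := @Bool.rec (fun _ => Nat) (Atab_s_769_772 c) (Atab_s_772_775 c) (Nat.ble 772 c)
noncomputable def Atab_s_776_778 (c : Nat) : Nat := @Bool.rec (fun _ => Nat) (Atab_776) (Atab_777) (Nat.ble 777 c)
noncomputable def Atab_s_775_778 (c : Nat) : Nat := @Bool.rec (fun _ => Nat) (Atab_775) (Atab_s_776_778 c) (Nat.ble 776 c)
noncomputable def Atab_s_779_781 (c : Nat) : Nat := @Bool.rec (fun _ => Nat) (Atab_779) (Atab_780) (Nat.ble 780 c)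
noncomputable def Atab_s_778_781 (c : Nat) : Nat := @Bool.rec (fun _ => Nat) (Atab_778) (Atab_s_779_781 c) (Nat.ble 779 c)
noncomputable def Atab_s_775_781 (c : Nat) : Nat := @Bool.rec (fun _ => Nat) (Atab_s_775_778 c) (Atab_s_778_781 c) (Nat.ble 778 c)
noncomputable def Atab_s_769_781 (c : Nat) : Nat := @Bool.rec (fun _ => Nat) (Atab_s_769_775 c) (Atab_s_775_781 c) (Nat.ble 775 c)
noncomputable def Atab_s_782_784 (c : Nat) : Nat := @Bool.rec (fun _ => Nat) (Atab_782) (Atab_783) (Nat.ble 783 c)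
noncomputable def Atab_s_781_784 (c : Nat) : Nat := @Bool.rec (fun _ => Nat) (Atab_781) (Atab_s_782_784 c) (Nat.ble 782 c)
noncomputable def Atab_s_785_787 (c : Nat) : Nat := @Bool.rec (fun _ => Nat) (Atab_785) (Atab_786) (Nat.ble 786 c)
noncomputable def Atab_s_784_787 (c : Nat) : Nat := @Bool.rec (fun _ => Nat) (Atab_784) (Atab_s_785_787 c) (Nat.ble 785 c)
noncomputable def Atab_s_781_787 (c : Nat) : Nat := @Bool.rec (fun _ => Nat) (Atab_s_781_784 c) (Atab_s_784_787 c) (Nat.ble 784 c)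
noncomputable def Atab_s_788_790 (c : Nat) : Nat := @Bool.rec (fun _ => Nat) (Atab_788) (Atab_789) (Nat.ble 789 c)
noncomputable def Atab_s_787_790 (c : Nat) : Nat := @Bool.rec (fun _ => Nat) (Atab_787) (Atab_s_788_790 c) (Nat.ble 788 c)
noncomputable def Atab_s_790_792 (c : Nat) : Nat := @Bool.rec (fun _ => Nat) (Atab_790) (Atab_791) (Nat.ble 791 c)
noncomputable def Atab_s_792_794 (c : Nat) : Nat := @Bool.rec (fun _ => Nat) (Atab_792) (Atab_793) (Nat.ble 793 c)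
noncomputable def Atab_s_790_794 (c : Nat) : Nat := @Bool.rec (fun _ => Nat) (Atab_s_790_792 c) (Atab_s_792_794 c) (Nat.ble 792 c)
noncomputable def Atab_s_787_794 (c : Nat) : Nat := @Bool.rec (fun _ => Nat) (Atab_s_787_790 c) (Atab_s_790_794 c) (Nat.ble 790 c)
noncomputable def Atab_s_781_794 (c : Nat) : Nat := @Bool.rec (fun _ => Nat) (Atab_s_781_787 c) (Atab_s_787_794 c) (Nat.ble 787 c)
noncomputable def Atab_s_769_794 (c : Nat) : Nat := @Bool.rec (fun _ => Nat) (Atab_s_769_781 c) (Atab_s_781_794 c) (Nat.ble 781 c)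
noncomputable def Atab_s_744_794 (c : Nat) : Nat := @Bool.rec (fun _ => Nat) (Atab_s_744_769 c) (Atab_s_769_794 c) (Nat.ble 769 c)
noncomputable def Atab_s_694_794 (c : Nat) : Nat := @Bool.rec (fun _ => Nat) (Atab_s_694_744 c) (Atab_s_744_794 c) (Nat.ble 744 c)
noncomputable def Atab_s_595_794 (c : Nat) : Nat := @Bool.rec (fun _ => Nat) (Atab_s_595_694 c) (Atab_s_694_794 c) (Nat.ble 694 c)
noncomputable def Atab_s_397_794 (c : Nat) : Nat := @Bool.rec (fun _ => Nat) (Atab_s_397_595 c) (Atab_s_595_794 c) (Nat.ble 595 c)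
noncomputable def Atab_s_0_794 (c : Nat) : Nat := @Bool.rec (fun _ => Nat) (Atab_s_0_397 c) (Atab_s_397_794 c) (Nat.ble 397 c)
noncomputable def Atab_s_795_797 (c : Nat) : Nat := @Bool.rec (fun _ => Nat) (Atab_795) (Atab_796) (Nat.ble 796 c)
noncomputable def Atab_s_794_797 (c : Nat) : Nat := @Bool.rec (fun _ => Nat) (Atab_794) (Atab_s_795_797 c) (Nat.ble 795 c)
noncomputable def Atab_s_798_800 (c : Nat) : Nat := @Bool.rec (fun _ => Nat) (Atab_798) (Atab_799) (Nat.ble 799 c)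
noncomputable def Atab_s_797_800 (c : Nat) : Nat := @Bool.rec (fun _ => Nat) (Atab_797) (Atab_s_798_800 c) (Nat.ble 798 c)
noncomputable def Atab_s_794_800 (c : Nat) : Nat := @Bool.rec (fun _ => Nat) (Atab_s_794_797 c) (Atab_s_797_800 c) (Nat.ble 797 c)
noncomputable def Atab_s_801_803 (c : Nat) : Nat := @Bool.rec (fun _ => Nat) (Atab_801) (Atab_802) (Nat.ble 802 c)
noncomputable def Atab_s_800_803 (c : Nat) : Nat := @Bool.rec (fun _ => Nat) (Atab_800) (Atab_s_801_803 c) (Nat.ble 801 c)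
noncomputable def Atab_s_804_806 (c : Nat) : Nat := @Bool.rec (fun _ => Nat) (Atab_804) (Atab_805) (Nat.ble 805 c)
noncomputable def Atab_s_803_806 (c : Nat) : Nat := @Bool.rec (fun _ => Nat) (Atab_803) (Atab_s_804_806 c) (Nat.ble 804 c)
noncomputable def Atab_s_800_806 (c : Nat) : Nat := @Bool.rec (fun _ => Nat) (Atab_s_800_803 c) (Atab_s_803_806 c) (Nat.ble 803 c)
noncomputable def Atab_s_794_806 (c : Nat) : Nat := @Bool.rec (fun _ => Nat) (Atab_s_794_800 c) (Atab_s_800_806 c) (Nat.ble 800 c)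
noncomputable def Atab_s_807_809 (c : Nat) : Nat := @Bool.rec (fun _ => Nat) (Atab_807) (Atab_808) (Nat.ble 808 c)
noncomputable def Atab_s_806_809 (c : Nat) : Nat := @Bool.rec (fun _ => Nat) (Atab_806) (Atab_s_807_809 c) (Nat.ble 807 c)
noncomputable def Atab_s_810_812 (c : Nat) : Nat := @Bool.rec (fun _ => Nat) (Atab_810) (Atab_811) (Nat.ble 811 c)
noncomputable def Atab_s_809_812 (c : Nat) : Nat := @Bool.rec (fun _ => Nat) (Atab_809) (Atab_s_810_812 c) (Nat.ble 810 c)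
noncomputable def Atab_s_806_812 (c : Nat) : Nat := @Bool.rec (fun _ => Nat) (Atab_s_806_809 c) (Atab_s_809_812 c) (Nat.ble 809 c)
noncomputable def Atab_s_813_815 (c : Nat) : Nat := @Bool.rec (fun _ => Nat) (Atab_813) (Atab_814) (Nat.ble 814 c)
noncomputable def Atab_s_812_815 (c : Nat) : Nat := @Bool.rec (fun _ => Nat) (Atab_812) (Atab_s_813_815 c) (Nat.ble 813 c)
noncomputable def Atab_s_816_818 (c : Nat) : Nat := @Bool.rec (fun _ => Nat) (Atab_816) (Atab_817) (Nat.ble 817 c)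
noncomputable def Atab_s_815_818 (c : Nat) : Nat := @Bool.rec (fun _ => Nat) (Atab_815) (Atab_s_816_818 c) (Nat.ble 816 c)
noncomputable def Atab_s_812_818 (c : Nat) : Nat := @Bool.rec (fun _ => Nat) (Atab_s_812_815 c) (Atab_s_815_818 c) (Nat.ble 815 c)
noncomputable def Atab_s_806_818 (c : Nat) : Nat := @Bool.rec (fun _ => Nat) (Atab_s_806_812 c) (Atab_s_812_818 c) (Nat.ble 812 c)
noncomputable def Atab_s_794_818 (c : Nat) : Nat := @Bool.rec (fun _ => Nat) (Atab_s_794_806 c) (Atab_s_806_818 c) (Nat.ble 806 c)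
noncomputable def Atab_s_819_821 (c : Nat) : Nat := @Bool.rec (fun _ => Nat) (Atab_819) (Atab_820) (Nat.ble 820 c)
noncomputable def Atab_s_818_821 (c : Nat) : Nat := @Bool.rec (fun _ => Nat) (Atab_818) (Atab_s_819_821 c) (Nat.ble 819 c)
noncomputable def Atab_s_822_824 (c : Nat) : Nat := @Bool.rec (fun _ => Nat) (Atab_822) (Atab_823) (Nat.ble 823 c)
noncomputable def Atab_s_821_824 (c : Nat) : Nat := @Bool.rec (fun _ => Nat) (Atab_821) (Atab_s_822_824 c) (Nat.ble 822 c)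
noncomputable def Atab_s_818_824 (c : Nat) : Nat := @Bool.rec (fun _ => Nat) (Atab_s_818_821 c) (Atab_s_821_824 c) (Nat.ble 821 c)
noncomputable def Atab_s_825_827 (c : Nat) : Nat := @Bool.rec (fun _ => Nat) (Atab_825) (Atab_826) (Nat.ble 826 c)
noncomputable def Atab_s_824_827 (c : Nat) : Nat := @Bool.rec (fun _ => Nat) (Atab_824) (Atab_s_825_827 c) (Nat.ble 825 c)
noncomputable def Atab_s_828_830 (c : Nat) : Nat := @Bool.rec (fun _ => Nat) (Atab_828) (Atab_829) (Nat.ble 829 c)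
noncomputable def Atab_s_827_830 (c : Nat) : Nat := @Bool.rec (fun _ => Nat) (Atab_827) (Atab_s_828_830 c) (Nat.ble 828 c)
noncomputable def Atab_s_824_830 (c : Nat) : Nat := @Bool.rec (fun _ => Nat) (Atab_s_824_827 c) (Atab_s_827_830 c) (Nat.ble 827 c)
noncomputable def Atab_s_818_830 (c : Nat) : Nat := @Bool.rec (fun _ => Nat) (Atab_s_818_824 c) (Atab_s_824_830 c) (Nat.ble 824 c)
noncomputable def Atab_s_831_833 (c : Nat) : Nat := @Bool.rec (fun _ => Nat) (Atab_831) (Atab_832) (Nat.ble 832 c)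
noncomputable def Atab_s_830_833 (c : Nat) : Nat := @Bool.rec (fun _ => Nat) (Atab_830) (Atab_s_831_833 c) (Nat.ble 831 c)
noncomputable def Atab_s_834_836 (c : Nat) : Nat := @Bool.rec (fun _ => Nat) (Atab_834) (Atab_835) (Nat.ble 835 c)
noncomputable def Atab_s_833_836 (c : Nat) : Nat := @Bool.rec (fun _ => Nat) (Atab_833) (Atab_s_834_836 c) (Nat.ble 834 c)
noncomputable def Atab_s_830_836 (c : Nat) : Nat := @Bool.rec (fun _ => Nat) (Atab_s_830_833 c) (Atab_s_833_836 c) (Nat.ble 833 c)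
noncomputable def Atab_s_837_839 (c : Nat) : Nat := @Bool.rec (fun _ => Nat) (Atab_837) (Atab_838) (Nat.ble 838 c)
noncomputable def Atab_s_836_839 (c : Nat) : Nat := @Bool.rec (fun _ => Nat) (Atab_836) (Atab_s_837_839 c) (Nat.ble 837 c)
noncomputable def Atab_s_839_841 (c : Nat) : Nat := @Bool.rec (fun _ => Nat) (Atab_839) (Atab_840) (Nat.ble 840 c)
noncomputable def Atab_s_841_843 (c : Nat) : Nat := @Bool.rec (fun _ => Nat) (Atab_841) (Atab_842) (Nat.ble 842 c)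
noncomputable def Atab_s_839_843 (c : Nat) : Nat := @Bool.rec (fun _ => Nat) (Atab_s_839_841 c) (Atab_s_841_843 c) (Nat.ble 841 c)
noncomputable def Atab_s_836_843 (c : Nat) : Nat := @Bool.rec (fun _ => Nat) (Atab_s_836_839 c) (Atab_s_839_843 c) (Nat.ble 839 c)
noncomputable def Atab_s_830_843 (c : Nat) : Nat := @Bool.rec (fun _ => Nat) (Atab_s_830_836 c) (Atab_s_836_843 c) (Nat.ble 836 c)
noncomputable def Atab_s_818_843 (c : Nat) : Nat := @Bool.rec (fun _ => Nat) (Atab_s_818_830 c) (Atab_s_830_843 c) (Nat.ble 830 c)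
noncomputable def Atab_s_794_843 (c : Nat) : Nat := @Bool.rec (fun _ => Nat) (Atab_s_794_818 c) (Atab_s_818_843 c) (Nat.ble 818 c)
noncomputable def Atab_s_844_846 (c : Nat) : Nat := @Bool.rec (fun _ => Nat) (Atab_844) (Atab_845) (Nat.ble 845 c)
noncomputable def Atab_s_843_846 (c : Nat) : Nat := @Bool.rec (fun _ => Nat) (Atab_843) (Atab_s_844_846 c) (Nat.ble 844 c)
noncomputable def Atab_s_847_849 (c : Nat) : Nat := @Bool.rec (fun _ => Nat) (Atab_847) (Atab_848) (Nat.ble 848 c)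
noncomputable def Atab_s_846_849 (c : Nat) : Nat := @Bool.rec (fun _ => Nat) (Atab_846) (Atab_s_847_849 c) (Nat.ble 847 c)
noncomputable def Atab_s_843_849 (c : Nat) : Nat := @Bool.rec (fun _ => Nat) (Atab_s_843_846 c) (Atab_s_846_849 c) (Nat.ble 846 c)
noncomputable def Atab_s_850_852 (c : Nat) : Nat := @Bool.rec (fun _ => Nat) (Atab_850) (Atab_851) (Nat.ble 851 c)
noncomputable def Atab_s_849_852 (c : Nat) : Nat := @Bool.rec (fun _ => Nat) (Atab_849) (Atab_s_850_852 c) (Nat.ble 850 c)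
noncomputable def Atab_s_853_855 (c : Nat) : Nat := @Bool.rec (fun _ => Nat) (Atab_853) (Atab_854) (Nat.ble 854 c)
noncomputable def Atab_s_852_855 (c : Nat) : Nat := @Bool.rec (fun _ => Nat) (Atab_852) (Atab_s_853_855 c) (Nat.ble 853 c)
noncomputable def Atab_s_849_855 (c : Nat) : Nat := @Bool.rec (fun _ => Nat) (Atab_s_849_852 c) (Atab_s_852_855 c) (Nat.ble 852 c)
noncomputable def Atab_s_843_855 (c : Nat) : Nat := @Bool.rec (fun _ => Nat) (Atab_s_843_849 c) (Atab_s_849_855 c) (Nat.ble 849 c)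
noncomputable def Atab_s_856_858 (c : Nat) : Nat := @Bool.rec (fun _ => Nat) (Atab_856) (Atab_857) (Nat.ble 857 c)
noncomputable def Atab_s_855_858 (c : Nat) : Nat := @Bool.rec (fun _ => Nat) (Atab_855) (Atab_s_856_858 c) (Nat.ble 856 c)
noncomputable def Atab_s_859_861 (c : Nat) : Nat := @Bool.rec (fun _ => Nat) (Atab_859) (Atab_860) (Nat.ble 860 c)
noncomputable def Atab_s_858_861 (c : Nat) : Nat := @Bool.rec (fun _ => Nat) (Atab_858) (Atab_s_859_861 c) (Nat.ble 859 c)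
noncomputable def Atab_s_855_861 (c : Nat) : Nat := @Bool.rec (fun _ => Nat) (Atab_s_855_858 c) (Atab_s_858_861 c) (Nat.ble 858 c)
noncomputable def Atab_s_862_864 (c : Nat) : Nat := @Bool.rec (fun _ => Nat) (Atab_862) (Atab_863) (Nat.ble 863 c)
noncomputable def Atab_s_861_864 (c : Nat) : Nat := @Bool.rec (fun _ => Nat) (Atab_861) (Atab_s_862_864 c) (Nat.ble 862 c)
noncomputable def Atab_s_864_866 (c : Nat) : Nat := @Bool.rec (fun _ => Nat) (Atab_864) (Atab_865) (Nat.ble 865 c)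
noncomputable def Atab_s_866_868 (c : Nat) : Nat := @Bool.rec (fun _ => Nat) (Atab_866) (Atab_867) (Nat.ble 867 c)
noncomputable def Atab_s_864_868 (c : Nat) : Nat := @Bool.rec (fun _ => Nat) (Atab_s_864_866 c) (Atab_s_866_868 c) (Nat.ble 866 c)
noncomputable def Atab_s_861_868 (c : Nat) : Nat := @Bool.rec (fun _ => Nat) (Atab_s_861_864 c) (Atab_s_864_868 c) (Nat.ble 864 c)
noncomputable def Atab_s_855_868 (c : Nat) : Nat := @Bool.rec (fun _ => Nat) (Atab_s_855_861 c) (Atab_s_861_868 c) (Nat.ble 861 c)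
noncomputable def Atab_s_843_868 (c : Nat) : Nat := @Bool.rec (fun _ => Nat) (Atab_s_843_855 c) (Atab_s_855_868 c) (Nat.ble 855 c)
noncomputable def Atab_s_869_871 (c : Nat) : Nat := @Bool.rec (fun _ => Nat) (Atab_869) (Atab_870) (Nat.ble 870 c)
noncomputable def Atab_s_868_871 (c : Nat) : Nat := @Bool.rec (fun _ => Nat) (Atab_868) (Atab_s_869_871 c) (Nat.ble 869 c)
noncomputable def Atab_s_872_874 (c : Nat) : Nat := @Bool.rec (fun _ => Nat) (Atab_872) (Atab_873) (Nat.ble 873 c)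
noncomputable def Atab_s_871_874 (c : Nat) : Nat := @Bool.rec (fun _ => Nat) (Atab_871) (Atab_s_872_874 c) (Nat.ble 872 c)
noncomputable def Atab_s_868_874 (c : Nat) : Nat := @Bool.rec (fun _ => Nat) (Atab_s_868_871 c) (Atab_s_871_874 c) (Nat.ble 871 c)
noncomputable def Atab_s_875_877 (c : Nat) : Nat := @Bool.rec (fun _ => Nat) (Atab_875) (Atab_876) (Nat.ble 876 c)
noncomputable def Atab_s_874_877 (c : Nat) : Nat := @Bool.rec (fun _ => Nat) (Atab_874) (Atab_s_875_877 c) (Nat.ble 875 c)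
noncomputable def Atab_s_878_880 (c : Nat) : Nat := @Bool.rec (fun _ => Nat) (Atab_878) (Atab_879) (Nat.ble 879 c)
noncomputable def Atab_s_877_880 (c : Nat) : Nat := @Bool.rec (fun _ => Nat) (Atab_877) (Atab_s_878_880 c) (Nat.ble 878 c)
noncomputable def Atab_s_874_880 (c : Nat) : Nat := @Bool.rec (fun _ => Nat) (Atab_s_874_877 c) (Atab_s_877_880 c) (Nat.ble 877 c)
noncomputable def Atab_s_868_880 (c : Nat) : Nat := @Bool.rec (fun _ => Nat) (Atab_s_868_874 c) (Atab_s_874_880 c) (Nat.ble 874 c)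
noncomputable def Atab_s_881_883 (c : Nat) : Nat := @Bool.rec (fun _ => Nat) (Atab_881) (Atab_882) (Nat.ble 882 c)
noncomputable def Atab_s_880_883 (c : Nat) : Nat := @Bool.rec (fun _ => Nat) (Atab_880) (Atab_s_881_883 c) (Nat.ble 881 c)
noncomputable def Atab_s_884_886 (c : Nat) : Nat := @Bool.rec (fun _ => Nat) (Atab_884) (Atab_885) (Nat.ble 885 c)
noncomputable def Atab_s_883_886 (c : Nat) : Nat := @Bool.rec (fun _ => Nat) (Atab_883) (Atab_s_884_886 c) (Nat.ble 884 c)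
noncomputable def Atab_s_880_886 (c : Nat) : Nat := @Bool.rec (fun _ => Nat) (Atab_s_880_883 c) (Atab_s_883_886 c) (Nat.ble 883 c)
noncomputable def Atab_s_887_889 (c : Nat) : Nat := @Bool.rec (fun _ => Nat) (Atab_887) (Atab_888) (Nat.ble 888 c)
noncomputable def Atab_s_886_889 (c : Nat) : Nat := @Bool.rec (fun _ => Nat) (Atab_886) (Atab_s_887_889 c) (Nat.ble 887 c)
noncomputable def Atab_s_889_891 (c : Nat) : Nat := @Bool.rec (fun _ => Nat) (Atab_889) (Atab_890) (Nat.ble 890 c)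
noncomputable def Atab_s_891_893 (c : Nat) : Nat := @Bool.rec (fun _ => Nat) (Atab_891) (Atab_892) (Nat.ble 892 c)
noncomputable def Atab_s_889_893 (c : Nat) : Nat := @Bool.rec (fun _ => Nat) (Atab_s_889_891 c) (Atab_s_891_893 c) (Nat.ble 891 c)
noncomputable def Atab_s_886_893 (c : Nat) : Nat := @Bool.rec (fun _ => Nat) (Atab_s_886_889 c) (Atab_s_889_893 c) (Nat.ble 889 c)
noncomputable def Atab_s_880_893 (c : Nat) : Nat := @Bool.rec (fun _ => Nat) (Atab_s_880_886 c) (Atab_s_886_893 c) (Nat.ble 886 c)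
noncomputable def Atab_s_868_893 (c : Nat) : Nat := @Bool.rec (fun _ => Nat) (Atab_s_868_880 c) (Atab_s_880_893 c) (Nat.ble 880 c)
noncomputable def Atab_s_843_893 (c : Nat) : Nat := @Bool.rec (fun _ => Nat) (Atab_s_843_868 c) (Atab_s_868_893 c) (Nat.ble 868 c)
noncomputable def Atab_s_794_893 (c : Nat) : Nat := @Bool.rec (fun _ => Nat) (Atab_s_794_843 c) (Atab_s_843_893 c) (Nat.ble 843 c)
noncomputable def Atab_s_894_896 (c : Nat) : Nat := @Bool.rec (fun _ => Nat) (Atab_894) (Atab_895) (Nat.ble 895 c)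
noncomputable def Atab_s_893_896 (c : Nat) : Nat := @Bool.rec (fun _ => Nat) (Atab_893) (Atab_s_894_896 c) (Nat.ble 894 c)
noncomputable def Atab_s_897_899 (c : Nat) : Nat := @Bool.rec (fun _ => Nat) (Atab_897) (Atab_898) (Nat.ble 898 c)
noncomputable def Atab_s_896_899 (c : Nat) : Nat := @Bool.rec (fun _ => Nat) (Atab_896) (Atab_s_897_899 c) (Nat.ble 897 c)
noncomputable def Atab_s_893_899 (c : Nat) : Nat := @Bool.rec (fun _ => Nat) (Atab_s_893_896 c) (Atab_s_896_899 c) (Nat.ble 896 c)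
noncomputable def Atab_s_900_902 (c : Nat) : Nat := @Bool.rec (fun _ => Nat) (Atab_900) (Atab_901) (Nat.ble 901 c)
noncomputable def Atab_s_899_902 (c : Nat) : Nat := @Bool.rec (fun _ => Nat) (Atab_899) (Atab_s_900_902 c) (Nat.ble 900 c)
noncomputable def Atab_s_903_905 (c : Nat) : Nat := @Bool.rec (fun _ => Nat) (Atab_903) (Atab_904) (Nat.ble 904 c)
noncomputable def Atab_s_902_905 (c : Nat) : Nat := @Bool.rec (fun _ => Nat) (Atab_902) (Atab_s_903_905 c) (Nat.ble 903 c)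
noncomputable def Atab_s_899_905 (c : Nat) : Nat := @Bool.rec (fun _ => Nat) (Atab_s_899_902 c) (Atab_s_902_905 c) (Nat.ble 902 c)
noncomputable def Atab_s_893_905 (c : Nat) : Nat := @Bool.rec (fun _ => Nat) (Atab_s_893_899 c) (Atab_s_899_905 c) (Nat.ble 899 c)
noncomputable def Atab_s_906_908 (c : Nat) : Nat := @Bool.rec (fun _ => Nat) (Atab_906) (Atab_907) (Nat.ble 907 c)
noncomputable def Atab_s_905_908 (c : Nat) : Nat := @Bool.rec (fun _ => Nat) (Atab_905) (Atab_s_906_908 c) (Nat.ble 906 c)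
noncomputable def Atab_s_909_911 (c : Nat) : Nat := @Bool.rec (fun _ => Nat) (Atab_909) (Atab_910) (Nat.ble 910 c)
noncomputable def Atab_s_908_911 (c : Nat) : Nat := @Bool.rec (fun _ => Nat) (Atab_908) (Atab_s_909_911 c) (Nat.ble 909 c)
noncomputable def Atab_s_905_911 (c : Nat) : Nat := @Bool.rec (fun _ => Nat) (Atab_s_905_908 c) (Atab_s_908_911 c) (Nat.ble 908 c)
noncomputable def Atab_s_912_914 (c : Nat) : Nat := @Bool.rec (fun _ => Nat) (Atab_912) (Atab_913) (Nat.ble 913 c)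
noncomputable def Atab_s_911_914 (c : Nat) : Nat := @Bool.rec (fun _ => Nat) (Atab_911) (Atab_s_912_914 c) (Nat.ble 912 c)
noncomputable def Atab_s_915_917 (c : Nat) : Nat := @Bool.rec (fun _ => Nat) (Atab_915) (Atab_916) (Nat.ble 916 c)
noncomputable def Atab_s_914_917 (c : Nat) : Nat := @Bool.rec (fun _ => Nat) (Atab_914) (Atab_s_915_917 c) (Nat.ble 915 c)
noncomputable def Atab_s_911_917 (c : Nat) : Nat := @Bool.rec (fun _ => Nat) (Atab_s_911_914 c) (Atab_s_914_917 c) (Nat.ble 914 c)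
noncomputable def Atab_s_905_917 (c : Nat) : Nat := @Bool.rec (fun _ => Nat) (Atab_s_905_911 c) (Atab_s_911_917 c) (Nat.ble 911 c)
noncomputable def Atab_s_893_917 (c : Nat) : Nat := @Bool.rec (fun _ => Nat) (Atab_s_893_905 c) (Atab_s_905_917 c) (Nat.ble 905 c)
noncomputable def Atab_s_918_920 (c : Nat) : Nat := @Bool.rec (fun _ => Nat) (Atab_918) (Atab_919) (Nat.ble 919 c)
noncomputable def Atab_s_917_920 (c : Nat) : Nat := @Bool.rec (fun _ => Nat) (Atab_917) (Atab_s_918_920 c) (Nat.ble 918 c)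
noncomputable def Atab_s_921_923 (c : Nat) : Nat := @Bool.rec (fun _ => Nat) (Atab_921) (Atab_922) (Nat.ble 922 c)
noncomputable def Atab_s_920_923 (c : Nat) : Nat := @Bool.rec (fun _ => Nat) (Atab_920) (Atab_s_921_923 c) (Nat.ble 921 c)
noncomputable def Atab_s_917_923 (c : Nat) : Nat := @Bool.rec (fun _ => Nat) (Atab_s_917_920 c) (Atab_s_920_923 c) (Nat.ble 920 c)
noncomputable def Atab_s_924_926 (c : Nat) : Nat := @Bool.rec (fun _ => Nat) (Atab_924) (Atab_925) (Nat.ble 925 c)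
noncomputable def Atab_s_923_926 (c : Nat) : Nat := @Bool.rec (fun _ => Nat) (Atab_923) (Atab_s_924_926 c) (Nat.ble 924 c)
noncomputable def Atab_s_927_929 (c : Nat) : Nat := @Bool.rec (fun _ => Nat) (Atab_927) (Atab_928) (Nat.ble 928 c)
noncomputable def Atab_s_926_929 (c : Nat) : Nat := @Bool.rec (fun _ => Nat) (Atab_926) (Atab_s_927_929 c) (Nat.ble 927 c)
noncomputable def Atab_s_923_929 (c : Nat) : Nat := @Bool.rec (fun _ => Nat) (Atab_s_923_926 c) (Atab_s_926_929 c) (Nat.ble 926 c)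
noncomputable def Atab_s_917_929 (c : Nat) : Nat := @Bool.rec (fun _ => Nat) (Atab_s_917_923 c) (Atab_s_923_929 c) (Nat.ble 923 c)
noncomputable def Atab_s_930_932 (c : Nat) : Nat := @Bool.rec (fun _ => Nat) (Atab_930) (Atab_931) (Nat.ble 931 c)
noncomputable def Atab_s_929_932 (c : Nat) : Nat := @Bool.rec (fun _ => Nat) (Atab_929) (Atab_s_930_932 c) (Nat.ble 930 c)
noncomputable def Atab_s_933_935 (c : Nat) : Nat := @Bool.rec (fun _ => Nat) (Atab_933) (Atab_934) (Nat.ble 934 c)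
noncomputable def Atab_s_932_935 (c : Nat) : Nat := @Bool.rec (fun _ => Nat) (Atab_932) (Atab_s_933_935 c) (Nat.ble 933 c)
noncomputable def Atab_s_929_935 (c : Nat) : Nat := @Bool.rec (fun _ => Nat) (Atab_s_929_932 c) (Atab_s_932_935 c) (Nat.ble 932 c)
noncomputable def Atab_s_936_938 (c : Nat) : Nat := @Bool.rec (fun _ => Nat) (Atab_936) (Atab_937) (Nat.ble 937 c)
noncomputable def Atab_s_935_938 (c : Nat) : Nat := @Bool.rec (fun _ => Nat) (Atab_935) (Atab_s_936_938 c) (Nat.ble 936 c)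
noncomputable def Atab_s_938_940 (c : Nat) : Nat := @Bool.rec (fun _ => Nat) (Atab_938) (Atab_939) (Nat.ble 939 c)
noncomputable def Atab_s_940_942 (c : Nat) : Nat := @Bool.rec (fun _ => Nat) (Atab_940) (Atab_941) (Nat.ble 941 c)
noncomputable def Atab_s_938_942 (c : Nat) : Nat := @Bool.rec (fun _ => Nat) (Atab_s_938_940 c) (Atab_s_940_942 c) (Nat.ble 940 c)
noncomputable def Atab_s_935_942 (c : Nat) : Nat := @Bool.rec (fun _ => Nat) (Atab_s_935_938 c) (Atab_s_938_942 c) (Nat.ble 938 c)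
noncomputable def Atab_s_929_942 (c : Nat) : Nat := @Bool.rec (fun _ => Nat) (Atab_s_929_935 c) (Atab_s_935_942 c) (Nat.ble 935 c)
noncomputable def Atab_s_917_942 (c : Nat) : Nat := @Bool.rec (fun _ => Nat) (Atab_s_917_929 c) (Atab_s_929_942 c) (Nat.ble 929 c)
noncomputable def Atab_s_893_942 (c : Nat) : Nat := @Bool.rec (fun _ => Nat) (Atab_s_893_917 c) (Atab_s_917_942 c) (Nat.ble 917 c)
noncomputable def Atab_s_943_945 (c : Nat) : Nat := @Bool.rec (fun _ => Nat) (Atab_943) (Atab_944) (Nat.ble 944 c)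
noncomputable def Atab_s_942_945 (c : Nat) : Nat := @Bool.rec (fun _ => Nat) (Atab_942) (Atab_s_943_945 c) (Nat.ble 943 c)
noncomputable def Atab_s_946_948 (c : Nat) : Nat := @Bool.rec (fun _ => Nat) (Atab_946) (Atab_947) (Nat.ble 947 c)
noncomputable def Atab_s_945_948 (c : Nat) : Nat := @Bool.rec (fun _ => Nat) (Atab_945) (Atab_s_946_948 c) (Nat.ble 946 c)
noncomputable def Atab_s_942_948 (c : Nat) : Nat := @Bool.rec (fun _ => Nat) (Atab_s_942_945 c) (Atab_s_945_948 c) (Nat.ble 945 c)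
noncomputable def Atab_s_949_951 (c : Nat) : Nat := @Bool.rec (fun _ => Nat) (Atab_949) (Atab_950) (Nat.ble 950 c)
noncomputable def Atab_s_948_951 (c : Nat) : Nat := @Bool.rec (fun _ => Nat) (Atab_948) (Atab_s_949_951 c) (Nat.ble 949 c)
noncomputable def Atab_s_952_954 (c : Nat) : Nat := @Bool.rec (fun _ => Nat) (Atab_952) (Atab_953) (Nat.ble 953 c)
noncomputable def Atab_s_951_954 (c : Nat) : Nat := @Bool.rec (fun _ => Nat) (Atab_951) (Atab_s_952_954 c) (Nat.ble 952 c)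
noncomputable def Atab_s_948_954 (c : Nat) : Nat := @Bool.rec (fun _ => Nat) (Atab_s_948_951 c) (Atab_s_951_954 c) (Nat.ble 951 c)
noncomputable def Atab_s_942_954 (c : Nat) : Nat := @Bool.rec (fun _ => Nat) (Atab_s_942_948 c) (Atab_s_948_954 c) (Nat.ble 948 c)
noncomputable def Atab_s_955_957 (c : Nat) : Nat := @Bool.rec (fun _ => Nat) (Atab_955) (Atab_956) (Nat.ble 956 c)
noncomputable def Atab_s_954_957 (c : Nat) : Nat := @Bool.rec (fun _ => Nat) (Atab_954) (Atab_s_955_957 c) (Nat.ble 955 c)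
noncomputable def Atab_s_958_960 (c : Nat) : Nat := @Bool.rec (fun _ => Nat) (Atab_958) (Atab_959) (Nat.ble 959 c)
noncomputable def Atab_s_957_960 (c : Nat) : Nat := @Bool.rec (fun _ => Nat) (Atab_957) (Atab_s_958_960 c) (Nat.ble 958 c)
noncomputable def Atab_s_954_960 (c : Nat) : Nat := @Bool.rec (fun _ => Nat) (Atab_s_954_957 c) (Atab_s_957_960 c) (Nat.ble 957 c)
noncomputable def Atab_s_961_963 (c : Nat) : Nat := @Bool.rec (fun _ => Nat) (Atab_961) (Atab_962) (Nat.ble 962 c)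
noncomputable def Atab_s_960_963 (c : Nat) : Nat := @Bool.rec (fun _ => Nat) (Atab_960) (Atab_s_961_963 c) (Nat.ble 961 c)
noncomputable def Atab_s_963_965 (c : Nat) : Nat := @Bool.rec (fun _ => Nat) (Atab_963) (Atab_964) (Nat.ble 964 c)
noncomputable def Atab_s_965_967 (c : Nat) : Nat := @Bool.rec (fun _ => Nat) (Atab_965) (Atab_966) (Nat.ble 966 c)
noncomputable def Atab_s_963_967 (c : Nat) : Nat := @Bool.rec (fun _ => Nat) (Atab_s_963_965 c) (Atab_s_965_967 c) (Nat.ble 965 c)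
noncomputable def Atab_s_960_967 (c : Nat) : Nat := @Bool.rec (fun _ => Nat) (Atab_s_960_963 c) (Atab_s_963_967 c) (Nat.ble 963 c)
noncomputable def Atab_s_954_967 (c : Nat) : Nat := @Bool.rec (fun _ => Nat) (Atab_s_954_960 c) (Atab_s_960_967 c) (Nat.ble 960 c)
noncomputable def Atab_s_942_967 (c : Nat) : Nat := @Bool.rec (fun _ => Nat) (Atab_s_942_954 c) (Atab_s_954_967 c) (Nat.ble 954 c)
noncomputable def Atab_s_968_970 (c : Nat) : Nat := @Bool.rec (fun _ => Nat) (Atab_968) (Atab_969) (Nat.ble 969 c)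
noncomputable def Atab_s_967_970 (c : Nat) : Nat := @Bool.rec (fun _ => Nat) (Atab_967) (Atab_s_968_970 c) (Nat.ble 968 c)
noncomputable def Atab_s_971_973 (c : Nat) : Nat := @Bool.rec (fun _ => Nat) (Atab_971) (Atab_972) (Nat.ble 972 c)
noncomputable def Atab_s_970_973 (c : Nat) : Nat := @Bool.rec (fun _ => Nat) (Atab_970) (Atab_s_971_973 c) (Nat.ble 971 c)
noncomputable def Atab_s_967_973 (c : Nat) : Nat := @Bool.rec (fun _ => Nat) (Atab_s_967_970 c) (Atab_s_970_973 c) (Nat.ble 970 c)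
noncomputable def Atab_s_974_976 (c : Nat) : Nat := @Bool.rec (fun _ => Nat) (Atab_974) (Atab_975) (Nat.ble 975 c)
noncomputable def Atab_s_973_976 (c : Nat) : Nat := @Bool.rec (fun _ => Nat) (Atab_973) (Atab_s_974_976 c) (Nat.ble 974 c)
noncomputable def Atab_s_977_979 (c : Nat) : Nat := @Bool.rec (fun _ => Nat) (Atab_977) (Atab_978) (Nat.ble 978 c)
noncomputable def Atab_s_976_979 (c : Nat) : Nat := @Bool.rec (fun _ => Nat) (Atab_976) (Atab_s_977_979 c) (Nat.ble 977 c)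
noncomputable def Atab_s_973_979 (c : Nat) : Nat := @Bool.rec (fun _ => Nat) (Atab_s_973_976 c) (Atab_s_976_979 c) (Nat.ble 976 c)
noncomputable def Atab_s_967_979 (c : Nat) : Nat := @Bool.rec (fun _ => Nat) (Atab_s_967_973 c) (Atab_s_973_979 c) (Nat.ble 973 c)
noncomputable def Atab_s_980_982 (c : Nat) : Nat := @Bool.rec (fun _ => Nat) (Atab_980) (Atab_981) (Nat.ble 981 c)
noncomputable def Atab_s_979_982 (c : Nat) : Nat := @Bool.rec (fun _ => Nat) (Atab_979) (Atab_s_980_982 c) (Nat.ble 980 c)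
noncomputable def Atab_s_983_985 (c : Nat) : Nat := @Bool.rec (fun _ => Nat) (Atab_983) (Atab_984) (Nat.ble 984 c)
noncomputable def Atab_s_982_985 (c : Nat) : Nat := @Bool.rec (fun _ => Nat) (Atab_982) (Atab_s_983_985 c) (Nat.ble 983 c)
noncomputable def Atab_s_979_985 (c : Nat) : Nat := @Bool.rec (fun _ => Nat) (Atab_s_979_982 c) (Atab_s_982_985 c) (Nat.ble 982 c)
noncomputable def Atab_s_986_988 (c : Nat) : Nat := @Bool.rec (fun _ => Nat) (Atab_986) (Atab_987) (Nat.ble 987 c)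
noncomputable def Atab_s_985_988 (c : Nat) : Nat := @Bool.rec (fun _ => Nat) (Atab_985) (Atab_s_986_988 c) (Nat.ble 986 c)
noncomputable def Atab_s_988_990 (c : Nat) : Nat := @Bool.rec (fun _ => Nat) (Atab_988) (Atab_989) (Nat.ble 989 c)
noncomputable def Atab_s_990_992 (c : Nat) : Nat := @Bool.rec (fun _ => Nat) (Atab_990) (Atab_991) (Nat.ble 991 c)
noncomputable def Atab_s_988_992 (c : Nat) : Nat := @Bool.rec (fun _ => Nat) (Atab_s_988_990 c) (Atab_s_990_992 c) (Nat.ble 990 c)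
noncomputable def Atab_s_985_992 (c : Nat) : Nat := @Bool.rec (fun _ => Nat) (Atab_s_985_988 c) (Atab_s_988_992 c) (Nat.ble 988 c)
noncomputable def Atab_s_979_992 (c : Nat) : Nat := @Bool.rec (fun _ => Nat) (Atab_s_979_985 c) (Atab_s_985_992 c) (Nat.ble 985 c)
noncomputable def Atab_s_967_992 (c : Nat) : Nat := @Bool.rec (fun _ => Nat) (Atab_s_967_979 c) (Atab_s_979_992 c) (Nat.ble 979 c)
noncomputable def Atab_s_942_992 (c : Nat) : Nat := @Bool.rec (fun _ => Nat) (Atab_s_942_967 c) (Atab_s_967_992 c) (Nat.ble 967 c)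
noncomputable def Atab_s_893_992 (c : Nat) : Nat := @Bool.rec (fun _ => Nat) (Atab_s_893_942 c) (Atab_s_942_992 c) (Nat.ble 942 c)
noncomputable def Atab_s_794_992 (c : Nat) : Nat := @Bool.rec (fun _ => Nat) (Atab_s_794_893 c) (Atab_s_893_992 c) (Nat.ble 893 c)
noncomputable def Atab_s_993_995 (c : Nat) : Nat := @Bool.rec (fun _ => Nat) (Atab_993) (Atab_994) (Nat.ble 994 c)
noncomputable def Atab_s_992_995 (c : Nat) : Nat := @Bool.rec (fun _ => Nat) (Atab_992) (Atab_s_993_995 c) (Nat.ble 993 c)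
noncomputable def Atab_s_996_998 (c : Nat) : Nat := @Bool.rec (fun _ => Nat) (Atab_996) (Atab_997) (Nat.ble 997 c)
noncomputable def Atab_s_995_998 (c : Nat) : Nat := @Bool.rec (fun _ => Nat) (Atab_995) (Atab_s_996_998 c) (Nat.ble 996 c)
noncomputable def Atab_s_992_998 (c : Nat) : Nat := @Bool.rec (fun _ => Nat) (Atab_s_992_995 c) (Atab_s_995_998 c) (Nat.ble 995 c)
noncomputable def Atab_s_999_1001 (c : Nat) : Nat := @Bool.rec (fun _ => Nat) (Atab_999) (Atab_1000) (Nat.ble 1000 c)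
noncomputable def Atab_s_998_1001 (c : Nat) : Nat := @Bool.rec (fun _ => Nat) (Atab_998) (Atab_s_999_1001 c) (Nat.ble 999 c)
noncomputable def Atab_s_1002_1004 (c : Nat) : Nat := @Bool.rec (fun _ => Nat) (Atab_1002) (Atab_1003) (Nat.ble 1003 c)
noncomputable def Atab_s_1001_1004 (c : Nat) : Nat := @Bool.rec (fun _ => Nat) (Atab_1001) (Atab_s_1002_1004 c) (Nat.ble 1002 c)
noncomputable def Atab_s_998_1004 (c : Nat) : Nat := @Bool.rec (fun _ => Nat) (Atab_s_998_1001 c) (Atab_s_1001_1004 c) (Nat.ble 1001 c)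
noncomputable def Atab_s_992_1004 (c : Nat) : Nat := @Bool.rec (fun _ => Nat) (Atab_s_992_998 c) (Atab_s_998_1004 c) (Nat.ble 998 c)
noncomputable def Atab_s_1005_1007 (c : Nat) : Nat := @Bool.rec (fun _ => Nat) (Atab_1005) (Atab_1006) (Nat.ble 1006 c)
noncomputable def Atab_s_1004_1007 (c : Nat) : Nat := @Bool.rec (fun _ => Nat) (Atab_1004) (Atab_s_1005_1007 c) (Nat.ble 1005 c)
noncomputable def Atab_s_1008_1010 (c : Nat) : Nat := @Bool.rec (fun _ => Nat) (Atab_1008) (Atab_1009) (Nat.ble 1009 c)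
noncomputable def Atab_s_1007_1010 (c : Nat) : Nat := @Bool.rec (fun _ => Nat) (Atab_1007) (Atab_s_1008_1010 c) (Nat.ble 1008 c)
noncomputable def Atab_s_1004_1010 (c : Nat) : Nat := @Bool.rec (fun _ => Nat) (Atab_s_1004_1007 c) (Atab_s_1007_1010 c) (Nat.ble 1007 c)
noncomputable def Atab_s_1011_1013 (c : Nat) : Nat := @Bool.rec (fun _ => Nat) (Atab_1011) (Atab_1012) (Nat.ble 1012 c)
noncomputable def Atab_s_1010_1013 (c : Nat) : Nat := @Bool.rec (fun _ => Nat) (Atab_1010) (Atab_s_1011_1013 c) (Nat.ble 1011 c)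
noncomputable def Atab_s_1014_1016 (c : Nat) : Nat := @Bool.rec (fun _ => Nat) (Atab_1014) (Atab_1015) (Nat.ble 1015 c)
noncomputable def Atab_s_1013_1016 (c : Nat) : Nat := @Bool.rec (fun _ => Nat) (Atab_1013) (Atab_s_1014_1016 c) (Nat.ble 1014 c)
noncomputable def Atab_s_1010_1016 (c : Nat) : Nat := @Bool.rec (fun _ => Nat) (Atab_s_1010_1013 c) (Atab_s_1013_1016 c) (Nat.ble 1013 c)
noncomputable def Atab_s_1004_1016 (c : Nat) : Nat := @Bool.rec (fun _ => Nat) (Atab_s_1004_1010 c) (Atab_s_1010_1016 c) (Nat.ble 1010 c)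
noncomputable def Atab_s_992_1016 (c : Nat) : Nat := @Bool.rec (fun _ => Nat) (Atab_s_992_1004 c) (Atab_s_1004_1016 c) (Nat.ble 1004 c)
noncomputable def Atab_s_1017_1019 (c : Nat) : Nat := @Bool.rec (fun _ => Nat) (Atab_1017) (Atab_1018) (Nat.ble 1018 c)
noncomputable def Atab_s_1016_1019 (c : Nat) : Nat := @Bool.rec (fun _ => Nat) (Atab_1016) (Atab_s_1017_1019 c) (Nat.ble 1017 c)
noncomputable def Atab_s_1020_1022 (c : Nat) : Nat := @Bool.rec (fun _ => Nat) (Atab_1020) (Atab_1021) (Nat.ble 1021 c)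
noncomputable def Atab_s_1019_1022 (c : Nat) : Nat := @Bool.rec (fun _ => Nat) (Atab_1019) (Atab_s_1020_1022 c) (Nat.ble 1020 c)
noncomputable def Atab_s_1016_1022 (c : Nat) : Nat := @Bool.rec (fun _ => Nat) (Atab_s_1016_1019 c) (Atab_s_1019_1022 c) (Nat.ble 1019 c)
noncomputable def Atab_s_1023_1025 (c : Nat) : Nat := @Bool.rec (fun _ => Nat) (Atab_1023) (Atab_1024) (Nat.ble 1024 c)
noncomputable def Atab_s_1022_1025 (c : Nat) : Nat := @Bool.rec (fun _ => Nat) (Atab_1022) (Atab_s_1023_1025 c) (Nat.ble 1023 c)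
noncomputable def Atab_s_1026_1028 (c : Nat) : Nat := @Bool.rec (fun _ => Nat) (Atab_1026) (Atab_1027) (Nat.ble 1027 c)
noncomputable def Atab_s_1025_1028 (c : Nat) : Nat := @Bool.rec (fun _ => Nat) (Atab_1025) (Atab_s_1026_1028 c) (Nat.ble 1026 c)
noncomputable def Atab_s_1022_1028 (c : Nat) : Nat := @Bool.rec (fun _ => Nat) (Atab_s_1022_1025 c) (Atab_s_1025_1028 c) (Nat.ble 1025 c)
noncomputable def Atab_s_1016_1028 (c : Nat) : Nat := @Bool.rec (fun _ => Nat) (Atab_s_1016_1022 c) (Atab_s_1022_1028 c) (Nat.ble 1022 c)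
noncomputable def Atab_s_1029_1031 (c : Nat) : Nat := @Bool.rec (fun _ => Nat) (Atab_1029) (Atab_1030) (Nat.ble 1030 c)
noncomputable def Atab_s_1028_1031 (c : Nat) : Nat := @Bool.rec (fun _ => Nat) (Atab_1028) (Atab_s_1029_1031 c) (Nat.ble 1029 c)
noncomputable def Atab_s_1032_1034 (c : Nat) : Nat := @Bool.rec (fun _ => Nat) (Atab_1032) (Atab_1033) (Nat.ble 1033 c)
noncomputable def Atab_s_1031_1034 (c : Nat) : Nat := @Bool.rec (fun _ => Nat) (Atab_1031) (Atab_s_1032_1034 c) (Nat.ble 1032 c)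
noncomputable def Atab_s_1028_1034 (c : Nat) : Nat := @Bool.rec (fun _ => Nat) (Atab_s_1028_1031 c) (Atab_s_1031_1034 c) (Nat.ble 1031 c)
noncomputable def Atab_s_1035_1037 (c : Nat) : Nat := @Bool.rec (fun _ => Nat) (Atab_1035) (Atab_1036) (Nat.ble 1036 c)
noncomputable def Atab_s_1034_1037 (c : Nat) : Nat := @Bool.rec (fun _ => Nat) (Atab_1034) (Atab_s_1035_1037 c) (Nat.ble 1035 c)
noncomputable def Atab_s_1037_1039 (c : Nat) : Nat := @Bool.rec (fun _ => Nat) (Atab_1037) (Atab_1038) (Nat.ble 1038 c)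
noncomputable def Atab_s_1039_1041 (c : Nat) : Nat := @Bool.rec (fun _ => Nat) (Atab_1039) (Atab_1040) (Nat.ble 1040 c)
noncomputable def Atab_s_1037_1041 (c : Nat) : Nat := @Bool.rec (fun _ => Nat) (Atab_s_1037_1039 c) (Atab_s_1039_1041 c) (Nat.ble 1039 c)
noncomputable def Atab_s_1034_1041 (c : Nat) : Nat := @Bool.rec (fun _ => Nat) (Atab_s_1034_1037 c) (Atab_s_1037_1041 c) (Nat.ble 1037 c)
noncomputable def Atab_s_1028_1041 (c : Nat) : Nat := @Bool.rec (fun _ => Nat) (Atab_s_1028_1034 c) (Atab_s_1034_1041 c) (Nat.ble 1034 c)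
noncomputable def Atab_s_1016_1041 (c : Nat) : Nat := @Bool.rec (fun _ => Nat) (Atab_s_1016_1028 c) (Atab_s_1028_1041 c) (Nat.ble 1028 c)
noncomputable def Atab_s_992_1041 (c : Nat) : Nat := @Bool.rec (fun _ => Nat) (Atab_s_992_1016 c) (Atab_s_1016_1041 c) (Nat.ble 1016 c)
noncomputable def Atab_s_1042_1044 (c : Nat) : Nat := @Bool.rec (fun _ => Nat) (Atab_1042) (Atab_1043) (Nat.ble 1043 c)
noncomputable def Atab_s_1041_1044 (c : Nat) : Nat := @Bool.rec (fun _ => Nat) (Atab_1041) (Atab_s_1042_1044 c) (Nat.ble 1042 c)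
noncomputable def Atab_s_1045_1047 (c : Nat) : Nat := @Bool.rec (fun _ => Nat) (Atab_1045) (Atab_1046) (Nat.ble 1046 c)
noncomputable def Atab_s_1044_1047 (c : Nat) : Nat := @Bool.rec (fun _ => Nat) (Atab_1044) (Atab_s_1045_1047 c) (Nat.ble 1045 c)
noncomputable def Atab_s_1041_1047 (c : Nat) : Nat := @Bool.rec (fun _ => Nat) (Atab_s_1041_1044 c) (Atab_s_1044_1047 c) (Nat.ble 1044 c)
noncomputable def Atab_s_1048_1050 (c : Nat) : Nat := @Bool.rec (fun _ => Nat) (Atab_1048) (Atab_1049) (Nat.ble 1049 c)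
noncomputable def Atab_s_1047_1050 (c : Nat) : Nat := @Bool.rec (fun _ => Nat) (Atab_1047) (Atab_s_1048_1050 c) (Nat.ble 1048 c)
noncomputable def Atab_s_1051_1053 (c : Nat) : Nat := @Bool.rec (fun _ => Nat) (Atab_1051) (Atab_1052) (Nat.ble 1052 c)
noncomputable def Atab_s_1050_1053 (c : Nat) : Nat := @Bool.rec (fun _ => Nat) (Atab_1050) (Atab_s_1051_1053 c) (Nat.ble 1051 c)
noncomputable def Atab_s_1047_1053 (c : Nat) : Nat := @Bool.rec (fun _ => Nat) (Atab_s_1047_1050 c) (Atab_s_1050_1053 c) (Nat.ble 1050 c)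
noncomputable def Atab_s_1041_1053 (c : Nat) : Nat := @Bool.rec (fun _ => Nat) (Atab_s_1041_1047 c) (Atab_s_1047_1053 c) (Nat.ble 1047 c)
noncomputable def Atab_s_1054_1056 (c : Nat) : Nat := @Bool.rec (fun _ => Nat) (Atab_1054) (Atab_1055) (Nat.ble 1055 c)
noncomputable def Atab_s_1053_1056 (c : Nat) : Nat := @Bool.rec (fun _ => Nat) (Atab_1053) (Atab_s_1054_1056 c) (Nat.ble 1054 c)
noncomputable def Atab_s_1057_1059 (c : Nat) : Nat := @Bool.rec (fun _ => Nat) (Atab_1057) (Atab_1058) (Nat.ble 1058 c)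
noncomputable def Atab_s_1056_1059 (c : Nat) : Nat := @Bool.rec (fun _ => Nat) (Atab_1056) (Atab_s_1057_1059 c) (Nat.ble 1057 c)
noncomputable def Atab_s_1053_1059 (c : Nat) : Nat := @Bool.rec (fun _ => Nat) (Atab_s_1053_1056 c) (Atab_s_1056_1059 c) (Nat.ble 1056 c)
noncomputable def Atab_s_1060_1062 (c : Nat) : Nat := @Bool.rec (fun _ => Nat) (Atab_1060) (Atab_1061) (Nat.ble 1061 c)
noncomputable def Atab_s_1059_1062 (c : Nat) : Nat := @Bool.rec (fun _ => Nat) (Atab_1059) (Atab_s_1060_1062 c) (Nat.ble 1060 c)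
noncomputable def Atab_s_1062_1064 (c : Nat) : Nat := @Bool.rec (fun _ => Nat) (Atab_1062) (Atab_1063) (Nat.ble 1063 c)
noncomputable def Atab_s_1064_1066 (c : Nat) : Nat := @Bool.rec (fun _ => Nat) (Atab_1064) (Atab_1065) (Nat.ble 1065 c)
noncomputable def Atab_s_1062_1066 (c : Nat) : Nat := @Bool.rec (fun _ => Nat) (Atab_s_1062_1064 c) (Atab_s_1064_1066 c) (Nat.ble 1064 c)
noncomputable def Atab_s_1059_1066 (c : Nat) : Nat := @Bool.rec (fun _ => Nat) (Atab_s_1059_1062 c) (Atab_s_1062_1066 c) (Nat.ble 1062 c)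
noncomputable def Atab_s_1053_1066 (c : Nat) : Nat := @Bool.rec (fun _ => Nat) (Atab_s_1053_1059 c) (Atab_s_1059_1066 c) (Nat.ble 1059 c)
noncomputable def Atab_s_1041_1066 (c : Nat) : Nat := @Bool.rec (fun _ => Nat) (Atab_s_1041_1053 c) (Atab_s_1053_1066 c) (Nat.ble 1053 c)
noncomputable def Atab_s_1067_1069 (c : Nat) : Nat := @Bool.rec (fun _ => Nat) (Atab_1067) (Atab_1068) (Nat.ble 1068 c)
noncomputable def Atab_s_1066_1069 (c : Nat) : Nat := @Bool.rec (fun _ => Nat) (Atab_1066) (Atab_s_1067_1069 c) (Nat.ble 1067 c)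
noncomputable def Atab_s_1070_1072 (c : Nat) : Nat := @Bool.rec (fun _ => Nat) (Atab_1070) (Atab_1071) (Nat.ble 1071 c)
noncomputable def Atab_s_1069_1072 (c : Nat) : Nat := @Bool.rec (fun _ => Nat) (Atab_1069) (Atab_s_1070_1072 c) (Nat.ble 1070 c)
noncomputable def Atab_s_1066_1072 (c : Nat) : Nat := @Bool.rec (fun _ => Nat) (Atab_s_1066_1069 c) (Atab_s_1069_1072 c) (Nat.ble 1069 c)
noncomputable def Atab_s_1073_1075 (c : Nat) : Nat := @Bool.rec (fun _ => Nat) (Atab_1073) (Atab_1074) (Nat.ble 1074 c)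
noncomputable def Atab_s_1072_1075 (c : Nat) : Nat := @Bool.rec (fun _ => Nat) (Atab_1072) (Atab_s_1073_1075 c) (Nat.ble 1073 c)
noncomputable def Atab_s_1076_1078 (c : Nat) : Nat := @Bool.rec (fun _ => Nat) (Atab_1076) (Atab_1077) (Nat.ble 1077 c)
noncomputable def Atab_s_1075_1078 (c : Nat) : Nat := @Bool.rec (fun _ => Nat) (Atab_1075) (Atab_s_1076_1078 c) (Nat.ble 1076 c)
noncomputable def Atab_s_1072_1078 (c : Nat) : Nat := @Bool.rec (fun _ => Nat) (Atab_s_1072_1075 c) (Atab_s_1075_1078 c) (Nat.ble 1075 c)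
noncomputable def Atab_s_1066_1078 (c : Nat) : Nat := @Bool.rec (fun _ => Nat) (Atab_s_1066_1072 c) (Atab_s_1072_1078 c) (Nat.ble 1072 c)
noncomputable def Atab_s_1079_1081 (c : Nat) : Nat := @Bool.rec (fun _ => Nat) (Atab_1079) (Atab_1080) (Nat.ble 1080 c)
noncomputable def Atab_s_1078_1081 (c : Nat) : Nat := @Bool.rec (fun _ => Nat) (Atab_1078) (Atab_s_1079_1081 c) (Nat.ble 1079 c)
noncomputable def Atab_s_1082_1084 (c : Nat) : Nat := @Bool.rec (fun _ => Nat) (Atab_1082) (Atab_1083) (Nat.ble 1083 c)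
noncomputable def Atab_s_1081_1084 (c : Nat) : Nat := @Bool.rec (fun _ => Nat) (Atab_1081) (Atab_s_1082_1084 c) (Nat.ble 1082 c)
noncomputable def Atab_s_1078_1084 (c : Nat) : Nat := @Bool.rec (fun _ => Nat) (Atab_s_1078_1081 c) (Atab_s_1081_1084 c) (Nat.ble 1081 c)
noncomputable def Atab_s_1085_1087 (c : Nat) : Nat := @Bool.rec (fun _ => Nat) (Atab_1085) (Atab_1086) (Nat.ble 1086 c)
noncomputable def Atab_s_1084_1087 (c : Nat) : Nat := @Bool.rec (fun _ => Nat) (Atab_1084) (Atab_s_1085_1087 c) (Nat.ble 1085 c)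
noncomputable def Atab_s_1087_1089 (c : Nat) : Nat := @Bool.rec (fun _ => Nat) (Atab_1087) (Atab_1088) (Nat.ble 1088 c)
noncomputable def Atab_s_1089_1091 (c : Nat) : Nat := @Bool.rec (fun _ => Nat) (Atab_1089) (Atab_1090) (Nat.ble 1090 c)
noncomputable def Atab_s_1087_1091 (c : Nat) : Nat := @Bool.rec (fun _ => Nat) (Atab_s_1087_1089 c) (Atab_s_1089_1091 c) (Nat.ble 1089 c)
noncomputable def Atab_s_1084_1091 (c : Nat) : Nat := @Bool.rec (fun _ => Nat) (Atab_s_1084_1087 c) (Atab_s_1087_1091 c) (Nat.ble 1087 c)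
noncomputable def Atab_s_1078_1091 (c : Nat) : Nat := @Bool.rec (fun _ => Nat) (Atab_s_1078_1084 c) (Atab_s_1084_1091 c) (Nat.ble 1084 c)
noncomputable def Atab_s_1066_1091 (c : Nat) : Nat := @Bool.rec (fun _ => Nat) (Atab_s_1066_1078 c) (Atab_s_1078_1091 c) (Nat.ble 1078 c)
noncomputable def Atab_s_1041_1091 (c : Nat) : Nat := @Bool.rec (fun _ => Nat) (Atab_s_1041_1066 c) (Atab_s_1066_1091 c) (Nat.ble 1066 c)
noncomputable def Atab_s_992_1091 (c : Nat) : Nat := @Bool.rec (fun _ => Nat) (Atab_s_992_1041 c) (Atab_s_1041_1091 c) (Nat.ble 1041 c)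
noncomputable def Atab_s_1092_1094 (c : Nat) : Nat := @Bool.rec (fun _ => Nat) (Atab_1092) (Atab_1093) (Nat.ble 1093 c)
noncomputable def Atab_s_1091_1094 (c : Nat) : Nat := @Bool.rec (fun _ => Nat) (Atab_1091) (Atab_s_1092_1094 c) (Nat.ble 1092 c)
noncomputable def Atab_s_1095_1097 (c : Nat) : Nat := @Bool.rec (fun _ => Nat) (Atab_1095) (Atab_1096) (Nat.ble 1096 c)
noncomputable def Atab_s_1094_1097 (c : Nat) : Nat := @Bool.rec (fun _ => Nat) (Atab_1094) (Atab_s_1095_1097 c) (Nat.ble 1095 c)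
noncomputable def Atab_s_1091_1097 (c : Nat) : Nat := @Bool.rec (fun _ => Nat) (Atab_s_1091_1094 c) (Atab_s_1094_1097 c) (Nat.ble 1094 c)
noncomputable def Atab_s_1098_1100 (c : Nat) : Nat := @Bool.rec (fun _ => Nat) (Atab_1098) (Atab_1099) (Nat.ble 1099 c)
noncomputable def Atab_s_1097_1100 (c : Nat) : Nat := @Bool.rec (fun _ => Nat) (Atab_1097) (Atab_s_1098_1100 c) (Nat.ble 1098 c)
noncomputable def Atab_s_1101_1103 (c : Nat) : Nat := @Bool.rec (fun _ => Nat) (Atab_1101) (Atab_1102) (Nat.ble 1102 c)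
noncomputable def Atab_s_1100_1103 (c : Nat) : Nat := @Bool.rec (fun _ => Nat) (Atab_1100) (Atab_s_1101_1103 c) (Nat.ble 1101 c)
noncomputable def Atab_s_1097_1103 (c : Nat) : Nat := @Bool.rec (fun _ => Nat) (Atab_s_1097_1100 c) (Atab_s_1100_1103 c) (Nat.ble 1100 c)
noncomputable def Atab_s_1091_1103 (c : Nat) : Nat := @Bool.rec (fun _ => Nat) (Atab_s_1091_1097 c) (Atab_s_1097_1103 c) (Nat.ble 1097 c)
noncomputable def Atab_s_1104_1106 (c : Nat) : Nat := @Bool.rec (fun _ => Nat) (Atab_1104) (Atab_1105) (Nat.ble 1105 c)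
noncomputable def Atab_s_1103_1106 (c : Nat) : Nat := @Bool.rec (fun _ => Nat) (Atab_1103) (Atab_s_1104_1106 c) (Nat.ble 1104 c)
noncomputable def Atab_s_1107_1109 (c : Nat) : Nat := @Bool.rec (fun _ => Nat) (Atab_1107) (Atab_1108) (Nat.ble 1108 c)
noncomputable def Atab_s_1106_1109 (c : Nat) : Nat := @Bool.rec (fun _ => Nat) (Atab_1106) (Atab_s_1107_1109 c) (Nat.ble 1107 c)
noncomputable def Atab_s_1103_1109 (c : Nat) : Nat := @Bool.rec (fun _ => Nat) (Atab_s_1103_1106 c) (Atab_s_1106_1109 c) (Nat.ble 1106 c)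
noncomputable def Atab_s_1110_1112 (c : Nat) : Nat := @Bool.rec (fun _ => Nat) (Atab_1110) (Atab_1111) (Nat.ble 1111 c)
noncomputable def Atab_s_1109_1112 (c : Nat) : Nat := @Bool.rec (fun _ => Nat) (Atab_1109) (Atab_s_1110_1112 c) (Nat.ble 1110 c)
noncomputable def Atab_s_1112_1114 (c : Nat) : Nat := @Bool.rec (fun _ => Nat) (Atab_1112) (Atab_1113) (Nat.ble 1113 c)
noncomputable def Atab_s_1114_1116 (c : Nat) : Nat := @Bool.rec (fun _ => Nat) (Atab_1114) (Atab_1115) (Nat.ble 1115 c)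
noncomputable def Atab_s_1112_1116 (c : Nat) : Nat := @Bool.rec (fun _ => Nat) (Atab_s_1112_1114 c) (Atab_s_1114_1116 c) (Nat.ble 1114 c)
noncomputable def Atab_s_1109_1116 (c : Nat) : Nat := @Bool.rec (fun _ => Nat) (Atab_s_1109_1112 c) (Atab_s_1112_1116 c) (Nat.ble 1112 c)
noncomputable def Atab_s_1103_1116 (c : Nat) : Nat := @Bool.rec (fun _ => Nat) (Atab_s_1103_1109 c) (Atab_s_1109_1116 c) (Nat.ble 1109 c)
noncomputable def Atab_s_1091_1116 (c : Nat) : Nat := @Bool.rec (fun _ => Nat) (Atab_s_1091_1103 c) (Atab_s_1103_1116 c) (Nat.ble 1103 c)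
noncomputable def Atab_s_1117_1119 (c : Nat) : Nat := @Bool.rec (fun _ => Nat) (Atab_1117) (Atab_1118) (Nat.ble 1118 c)
noncomputable def Atab_s_1116_1119 (c : Nat) : Nat := @Bool.rec (fun _ => Nat) (Atab_1116) (Atab_s_1117_1119 c) (Nat.ble 1117 c)
noncomputable def Atab_s_1120_1122 (c : Nat) : Nat := @Bool.rec (fun _ => Nat) (Atab_1120) (Atab_1121) (Nat.ble 1121 c)
noncomputable def Atab_s_1119_1122 (c : Nat) : Nat := @Bool.rec (fun _ => Nat) (Atab_1119) (Atab_s_1120_1122 c) (Nat.ble 1120 c)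
noncomputable def Atab_s_1116_1122 (c : Nat) : Nat := @Bool.rec (fun _ => Nat) (Atab_s_1116_1119 c) (Atab_s_1119_1122 c) (Nat.ble 1119 c)
noncomputable def Atab_s_1123_1125 (c : Nat) : Nat := @Bool.rec (fun _ => Nat) (Atab_1123) (Atab_1124) (Nat.ble 1124 c)
noncomputable def Atab_s_1122_1125 (c : Nat) : Nat := @Bool.rec (fun _ => Nat) (Atab_1122) (Atab_s_1123_1125 c) (Nat.ble 1123 c)
noncomputable def Atab_s_1126_1128 (c : Nat) : Nat := @Bool.rec (fun _ => Nat) (Atab_1126) (Atab_1127) (Nat.ble 1127 c)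
noncomputable def Atab_s_1125_1128 (c : Nat) : Nat := @Bool.rec (fun _ => Nat) (Atab_1125) (Atab_s_1126_1128 c) (Nat.ble 1126 c)
noncomputable def Atab_s_1122_1128 (c : Nat) : Nat := @Bool.rec (fun _ => Nat) (Atab_s_1122_1125 c) (Atab_s_1125_1128 c) (Nat.ble 1125 c)
noncomputable def Atab_s_1116_1128 (c : Nat) : Nat := @Bool.rec (fun _ => Nat) (Atab_s_1116_1122 c) (Atab_s_1122_1128 c) (Nat.ble 1122 c)
noncomputable def Atab_s_1129_1131 (c : Nat) : Nat := @Bool.rec (fun _ => Nat) (Atab_1129) (Atab_1130) (Nat.ble 1130 c)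
noncomputable def Atab_s_1128_1131 (c : Nat) : Nat := @Bool.rec (fun _ => Nat) (Atab_1128) (Atab_s_1129_1131 c) (Nat.ble 1129 c)
noncomputable def Atab_s_1132_1134 (c : Nat) : Nat := @Bool.rec (fun _ => Nat) (Atab_1132) (Atab_1133) (Nat.ble 1133 c)
noncomputable def Atab_s_1131_1134 (c : Nat) : Nat := @Bool.rec (fun _ => Nat) (Atab_1131) (Atab_s_1132_1134 c) (Nat.ble 1132 c)
noncomputable def Atab_s_1128_1134 (c : Nat) : Nat := @Bool.rec (fun _ => Nat) (Atab_s_1128_1131 c) (Atab_s_1131_1134 c) (Nat.ble 1131 c)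
noncomputable def Atab_s_1135_1137 (c : Nat) : Nat := @Bool.rec (fun _ => Nat) (Atab_1135) (Atab_1136) (Nat.ble 1136 c)
noncomputable def Atab_s_1134_1137 (c : Nat) : Nat := @Bool.rec (fun _ => Nat) (Atab_1134) (Atab_s_1135_1137 c) (Nat.ble 1135 c)
noncomputable def Atab_s_1137_1139 (c : Nat) : Nat := @Bool.rec (fun _ => Nat) (Atab_1137) (Atab_1138) (Nat.ble 1138 c)
noncomputable def Atab_s_1139_1141 (c : Nat) : Nat := @Bool.rec (fun _ => Nat) (Atab_1139) (Atab_1140) (Nat.ble 1140 c)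
noncomputable def Atab_s_1137_1141 (c : Nat) : Nat := @Bool.rec (fun _ => Nat) (Atab_s_1137_1139 c) (Atab_s_1139_1141 c) (Nat.ble 1139 c)
noncomputable def Atab_s_1134_1141 (c : Nat) : Nat := @Bool.rec (fun _ => Nat) (Atab_s_1134_1137 c) (Atab_s_1137_1141 c) (Nat.ble 1137 c)
noncomputable def Atab_s_1128_1141 (c : Nat) : Nat := @Bool.rec (fun _ => Nat) (Atab_s_1128_1134 c) (Atab_s_1134_1141 c) (Nat.ble 1134 c)
noncomputable def Atab_s_1116_1141 (c : Nat) : Nat := @Bool.rec (fun _ => Nat) (Atab_s_1116_1128 c) (Atab_s_1128_1141 c) (Nat.ble 1128 c)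
noncomputable def Atab_s_1091_1141 (c : Nat) : Nat := @Bool.rec (fun _ => Nat) (Atab_s_1091_1116 c) (Atab_s_1116_1141 c) (Nat.ble 1116 c)
noncomputable def Atab_s_1142_1144 (c : Nat) : Nat := @Bool.rec (fun _ => Nat) (Atab_1142) (Atab_1143) (Nat.ble 1143 c)
noncomputable def Atab_s_1141_1144 (c : Nat) : Nat := @Bool.rec (fun _ => Nat) (Atab_1141) (Atab_s_1142_1144 c) (Nat.ble 1142 c)
noncomputable def Atab_s_1145_1147 (c : Nat) : Nat := @Bool.rec (fun _ => Nat) (Atab_1145) (Atab_1146) (Nat.ble 1146 c)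
noncomputable def Atab_s_1144_1147 (c : Nat) : Nat := @Bool.rec (fun _ => Nat) (Atab_1144) (Atab_s_1145_1147 c) (Nat.ble 1145 c)
noncomputable def Atab_s_1141_1147 (c : Nat) : Nat := @Bool.rec (fun _ => Nat) (Atab_s_1141_1144 c) (Atab_s_1144_1147 c) (Nat.ble 1144 c)
noncomputable def Atab_s_1148_1150 (c : Nat) : Nat := @Bool.rec (fun _ => Nat) (Atab_1148) (Atab_1149) (Nat.ble 1149 c)
noncomputable def Atab_s_1147_1150 (c : Nat) : Nat := @Bool.rec (fun _ => Nat) (Atab_1147) (Atab_s_1148_1150 c) (Nat.ble 1148 c)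
noncomputable def Atab_s_1151_1153 (c : Nat) : Nat := @Bool.rec (fun _ => Nat) (Atab_1151) (Atab_1152) (Nat.ble 1152 c)
noncomputable def Atab_s_1150_1153 (c : Nat) : Nat := @Bool.rec (fun _ => Nat) (Atab_1150) (Atab_s_1151_1153 c) (Nat.ble 1151 c)
noncomputable def Atab_s_1147_1153 (c : Nat) : Nat := @Bool.rec (fun _ => Nat) (Atab_s_1147_1150 c) (Atab_s_1150_1153 c) (Nat.ble 1150 c)
noncomputable def Atab_s_1141_1153 (c : Nat) : Nat := @Bool.rec (fun _ => Nat) (Atab_s_1141_1147 c) (Atab_s_1147_1153 c) (Nat.ble 1147 c)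
noncomputable def Atab_s_1154_1156 (c : Nat) : Nat := @Bool.rec (fun _ => Nat) (Atab_1154) (Atab_1155) (Nat.ble 1155 c)
noncomputable def Atab_s_1153_1156 (c : Nat) : Nat := @Bool.rec (fun _ => Nat) (Atab_1153) (Atab_s_1154_1156 c) (Nat.ble 1154 c)
noncomputable def Atab_s_1157_1159 (c : Nat) : Nat := @Bool.rec (fun _ => Nat) (Atab_1157) (Atab_1158) (Nat.ble 1158 c)
noncomputable def Atab_s_1156_1159 (c : Nat) : Nat := @Bool.rec (fun _ => Nat) (Atab_1156) (Atab_s_1157_1159 c) (Nat.ble 1157 c)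
noncomputable def Atab_s_1153_1159 (c : Nat) : Nat := @Bool.rec (fun _ => Nat) (Atab_s_1153_1156 c) (Atab_s_1156_1159 c) (Nat.ble 1156 c)
noncomputable def Atab_s_1160_1162 (c : Nat) : Nat := @Bool.rec (fun _ => Nat) (Atab_1160) (Atab_1161) (Nat.ble 1161 c)
noncomputable def Atab_s_1159_1162 (c : Nat) : Nat := @Bool.rec (fun _ => Nat) (Atab_1159) (Atab_s_1160_1162 c) (Nat.ble 1160 c)
noncomputable def Atab_s_1162_1164 (c : Nat) : Nat := @Bool.rec (fun _ => Nat) (Atab_1162) (Atab_1163) (Nat.ble 1163 c)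
noncomputable def Atab_s_1164_1166 (c : Nat) : Nat := @Bool.rec (fun _ => Nat) (Atab_1164) (Atab_1165) (Nat.ble 1165 c)
noncomputable def Atab_s_1162_1166 (c : Nat) : Nat := @Bool.rec (fun _ => Nat) (Atab_s_1162_1164 c) (Atab_s_1164_1166 c) (Nat.ble 1164 c)
noncomputable def Atab_s_1159_1166 (c : Nat) : Nat := @Bool.rec (fun _ => Nat) (Atab_s_1159_1162 c) (Atab_s_1162_1166 c) (Nat.ble 1162 c)
noncomputable def Atab_s_1153_1166 (c : Nat) : Nat := @Bool.rec (fun _ => Nat) (Atab_s_1153_1159 c) (Atab_s_1159_1166 c) (Nat.ble 1159 c)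
noncomputable def Atab_s_1141_1166 (c : Nat) : Nat := @Bool.rec (fun _ => Nat) (Atab_s_1141_1153 c) (Atab_s_1153_1166 c) (Nat.ble 1153 c)
noncomputable def Atab_s_1167_1169 (c : Nat) : Nat := @Bool.rec (fun _ => Nat) (Atab_1167) (Atab_1168) (Nat.ble 1168 c)
noncomputable def Atab_s_1166_1169 (c : Nat) : Nat := @Bool.rec (fun _ => Nat) (Atab_1166) (Atab_s_1167_1169 c) (Nat.ble 1167 c)
noncomputable def Atab_s_1170_1172 (c : Nat) : Nat := @Bool.rec (fun _ => Nat) (Atab_1170) (Atab_1171) (Nat.ble 1171 c)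
noncomputable def Atab_s_1169_1172 (c : Nat) : Nat := @Bool.rec (fun _ => Nat) (Atab_1169) (Atab_s_1170_1172 c) (Nat.ble 1170 c)
noncomputable def Atab_s_1166_1172 (c : Nat) : Nat := @Bool.rec (fun _ => Nat) (Atab_s_1166_1169 c) (Atab_s_1169_1172 c) (Nat.ble 1169 c)
noncomputable def Atab_s_1173_1175 (c : Nat) : Nat := @Bool.rec (fun _ => Nat) (Atab_1173) (Atab_1174) (Nat.ble 1174 c)
noncomputable def Atab_s_1172_1175 (c : Nat) : Nat := @Bool.rec (fun _ => Nat) (Atab_1172) (Atab_s_1173_1175 c) (Nat.ble 1173 c)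
noncomputable def Atab_s_1176_1178 (c : Nat) : Nat := @Bool.rec (fun _ => Nat) (Atab_1176) (Atab_1177) (Nat.ble 1177 c)
noncomputable def Atab_s_1175_1178 (c : Nat) : Nat := @Bool.rec (fun _ => Nat) (Atab_1175) (Atab_s_1176_1178 c) (Nat.ble 1176 c)
noncomputable def Atab_s_1172_1178 (c : Nat) : Nat := @Bool.rec (fun _ => Nat) (Atab_s_1172_1175 c) (Atab_s_1175_1178 c) (Nat.ble 1175 c)
noncomputable def Atab_s_1166_1178 (c : Nat) : Nat := @Bool.rec (fun _ => Nat) (Atab_s_1166_1172 c) (Atab_s_1172_1178 c) (Nat.ble 1172 c)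
noncomputable def Atab_s_1179_1181 (c : Nat) : Nat := @Bool.rec (fun _ => Nat) (Atab_1179) (Atab_1180) (Nat.ble 1180 c)
noncomputable def Atab_s_1178_1181 (c : Nat) : Nat := @Bool.rec (fun _ => Nat) (Atab_1178) (Atab_s_1179_1181 c) (Nat.ble 1179 c)
noncomputable def Atab_s_1182_1184 (c : Nat) : Nat := @Bool.rec (fun _ => Nat) (Atab_1182) (Atab_1183) (Nat.ble 1183 c)
noncomputable def Atab_s_1181_1184 (c : Nat) : Nat := @Bool.rec (fun _ => Nat) (Atab_1181) (Atab_s_1182_1184 c) (Nat.ble 1182 c)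
noncomputable def Atab_s_1178_1184 (c : Nat) : Nat := @Bool.rec (fun _ => Nat) (Atab_s_1178_1181 c) (Atab_s_1181_1184 c) (Nat.ble 1181 c)
noncomputable def Atab_s_1185_1187 (c : Nat) : Nat := @Bool.rec (fun _ => Nat) (Atab_1185) (Atab_1186) (Nat.ble 1186 c)
noncomputable def Atab_s_1184_1187 (c : Nat) : Nat := @Bool.rec (fun _ => Nat) (Atab_1184) (Atab_s_1185_1187 c) (Nat.ble 1185 c)
noncomputable def Atab_s_1187_1189 (c : Nat) : Nat := @Bool.rec (fun _ => Nat) (Atab_1187) (Atab_1188) (Nat.ble 1188 c)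
noncomputable def Atab_s_1189_1191 (c : Nat) : Nat := @Bool.rec (fun _ => Nat) (Atab_1189) (Atab_1190) (Nat.ble 1190 c)
noncomputable def Atab_s_1187_1191 (c : Nat) : Nat := @Bool.rec (fun _ => Nat) (Atab_s_1187_1189 c) (Atab_s_1189_1191 c) (Nat.ble 1189 c)
noncomputable def Atab_s_1184_1191 (c : Nat) : Nat := @Bool.rec (fun _ => Nat) (Atab_s_1184_1187 c) (Atab_s_1187_1191 c) (Nat.ble 1187 c)
noncomputable def Atab_s_1178_1191 (c : Nat) : Nat := @Bool.rec (fun _ => Nat) (Atab_s_1178_1184 c) (Atab_s_1184_1191 c) (Nat.ble 1184 c)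
noncomputable def Atab_s_1166_1191 (c : Nat) : Nat := @Bool.rec (fun _ => Nat) (Atab_s_1166_1178 c) (Atab_s_1178_1191 c) (Nat.ble 1178 c)
noncomputable def Atab_s_1141_1191 (c : Nat) : Nat := @Bool.rec (fun _ => Nat) (Atab_s_1141_1166 c) (Atab_s_1166_1191 c) (Nat.ble 1166 c)
noncomputable def Atab_s_1091_1191 (c : Nat) : Nat := @Bool.rec (fun _ => Nat) (Atab_s_1091_1141 c) (Atab_s_1141_1191 c) (Nat.ble 1141 c)
noncomputable def Atab_s_992_1191 (c : Nat) : Nat := @Bool.rec (fun _ => Nat) (Atab_s_992_1091 c) (Atab_s_1091_1191 c) (Nat.ble 1091 c)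
noncomputable def Atab_s_794_1191 (c : Nat) : Nat := @Bool.rec (fun _ => Nat) (Atab_s_794_992 c) (Atab_s_992_1191 c) (Nat.ble 992 c)
noncomputable def Atab_s_1192_1194 (c : Nat) : Nat := @Bool.rec (fun _ => Nat) (Atab_1192) (Atab_1193) (Nat.ble 1193 c)
noncomputable def Atab_s_1191_1194 (c : Nat) : Nat := @Bool.rec (fun _ => Nat) (Atab_1191) (Atab_s_1192_1194 c) (Nat.ble 1192 c)
noncomputable def Atab_s_1195_1197 (c : Nat) : Nat := @Bool.rec (fun _ => Nat) (Atab_1195) (Atab_1196) (Nat.ble 1196 c)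
noncomputable def Atab_s_1194_1197 (c : Nat) : Nat := @Bool.rec (fun _ => Nat) (Atab_1194) (Atab_s_1195_1197 c) (Nat.ble 1195 c)
noncomputable def Atab_s_1191_1197 (c : Nat) : Nat := @Bool.rec (fun _ => Nat) (Atab_s_1191_1194 c) (Atab_s_1194_1197 c) (Nat.ble 1194 c)
noncomputable def Atab_s_1198_1200 (c : Nat) : Nat := @Bool.rec (fun _ => Nat) (Atab_1198) (Atab_1199) (Nat.ble 1199 c)
noncomputable def Atab_s_1197_1200 (c : Nat) : Nat := @Bool.rec (fun _ => Nat) (Atab_1197) (Atab_s_1198_1200 c) (Nat.ble 1198 c)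
noncomputable def Atab_s_1201_1203 (c : Nat) : Nat := @Bool.rec (fun _ => Nat) (Atab_1201) (Atab_1202) (Nat.ble 1202 c)
noncomputable def Atab_s_1200_1203 (c : Nat) : Nat := @Bool.rec (fun _ => Nat) (Atab_1200) (Atab_s_1201_1203 c) (Nat.ble 1201 c)
noncomputable def Atab_s_1197_1203 (c : Nat) : Nat := @Bool.rec (fun _ => Nat) (Atab_s_1197_1200 c) (Atab_s_1200_1203 c) (Nat.ble 1200 c)
noncomputable def Atab_s_1191_1203 (c : Nat) : Nat := @Bool.rec (fun _ => Nat) (Atab_s_1191_1197 c) (Atab_s_1197_1203 c) (Nat.ble 1197 c)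
noncomputable def Atab_s_1204_1206 (c : Nat) : Nat := @Bool.rec (fun _ => Nat) (Atab_1204) (Atab_1205) (Nat.ble 1205 c)
noncomputable def Atab_s_1203_1206 (c : Nat) : Nat := @Bool.rec (fun _ => Nat) (Atab_1203) (Atab_s_1204_1206 c) (Nat.ble 1204 c)
noncomputable def Atab_s_1207_1209 (c : Nat) : Nat := @Bool.rec (fun _ => Nat) (Atab_1207) (Atab_1208) (Nat.ble 1208 c)
noncomputable def Atab_s_1206_1209 (c : Nat) : Nat := @Bool.rec (fun _ => Nat) (Atab_1206) (Atab_s_1207_1209 c) (Nat.ble 1207 c)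
noncomputable def Atab_s_1203_1209 (c : Nat) : Nat := @Bool.rec (fun _ => Nat) (Atab_s_1203_1206 c) (Atab_s_1206_1209 c) (Nat.ble 1206 c)
noncomputable def Atab_s_1210_1212 (c : Nat) : Nat := @Bool.rec (fun _ => Nat) (Atab_1210) (Atab_1211) (Nat.ble 1211 c)
noncomputable def Atab_s_1209_1212 (c : Nat) : Nat := @Bool.rec (fun _ => Nat) (Atab_1209) (Atab_s_1210_1212 c) (Nat.ble 1210 c)
noncomputable def Atab_s_1213_1215 (c : Nat) : Nat := @Bool.rec (fun _ => Nat) (Atab_1213) (Atab_1214) (Nat.ble 1214 c)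
noncomputable def Atab_s_1212_1215 (c : Nat) : Nat := @Bool.rec (fun _ => Nat) (Atab_1212) (Atab_s_1213_1215 c) (Nat.ble 1213 c)
noncomputable def Atab_s_1209_1215 (c : Nat) : Nat := @Bool.rec (fun _ => Nat) (Atab_s_1209_1212 c) (Atab_s_1212_1215 c) (Nat.ble 1212 c)
noncomputable def Atab_s_1203_1215 (c : Nat) : Nat := @Bool.rec (fun _ => Nat) (Atab_s_1203_1209 c) (Atab_s_1209_1215 c) (Nat.ble 1209 c)
noncomputable def Atab_s_1191_1215 (c : Nat) : Nat := @Bool.rec (fun _ => Nat) (Atab_s_1191_1203 c) (Atab_s_1203_1215 c) (Nat.ble 1203 c)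
noncomputable def Atab_s_1216_1218 (c : Nat) : Nat := @Bool.rec (fun _ => Nat) (Atab_1216) (Atab_1217) (Nat.ble 1217 c)
noncomputable def Atab_s_1215_1218 (c : Nat) : Nat := @Bool.rec (fun _ => Nat) (Atab_1215) (Atab_s_1216_1218 c) (Nat.ble 1216 c)
noncomputable def Atab_s_1219_1221 (c : Nat) : Nat := @Bool.rec (fun _ => Nat) (Atab_1219) (Atab_1220) (Nat.ble 1220 c)
noncomputable def Atab_s_1218_1221 (c : Nat) : Nat := @Bool.rec (fun _ => Nat) (Atab_1218) (Atab_s_1219_1221 c) (Nat.ble 1219 c)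
noncomputable def Atab_s_1215_1221 (c : Nat) : Nat := @Bool.rec (fun _ => Nat) (Atab_s_1215_1218 c) (Atab_s_1218_1221 c) (Nat.ble 1218 c)
noncomputable def Atab_s_1222_1224 (c : Nat) : Nat := @Bool.rec (fun _ => Nat) (Atab_1222) (Atab_1223) (Nat.ble 1223 c)
noncomputable def Atab_s_1221_1224 (c : Nat) : Nat := @Bool.rec (fun _ => Nat) (Atab_1221) (Atab_s_1222_1224 c) (Nat.ble 1222 c)
noncomputable def Atab_s_1225_1227 (c : Nat) : Nat := @Bool.rec (fun _ => Nat) (Atab_1225) (Atab_1226) (Nat.ble 1226 c)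
noncomputable def Atab_s_1224_1227 (c : Nat) : Nat := @Bool.rec (fun _ => Nat) (Atab_1224) (Atab_s_1225_1227 c) (Nat.ble 1225 c)
noncomputable def Atab_s_1221_1227 (c : Nat) : Nat := @Bool.rec (fun _ => Nat) (Atab_s_1221_1224 c) (Atab_s_1224_1227 c) (Nat.ble 1224 c)
noncomputable def Atab_s_1215_1227 (c : Nat) : Nat := @Bool.rec (fun _ => Nat) (Atab_s_1215_1221 c) (Atab_s_1221_1227 c) (Nat.ble 1221 c)
noncomputable def Atab_s_1228_1230 (c : Nat) : Nat := @Bool.rec (fun _ => Nat) (Atab_1228) (Atab_1229) (Nat.ble 1229 c)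
noncomputable def Atab_s_1227_1230 (c : Nat) : Nat := @Bool.rec (fun _ => Nat) (Atab_1227) (Atab_s_1228_1230 c) (Nat.ble 1228 c)
noncomputable def Atab_s_1231_1233 (c : Nat) : Nat := @Bool.rec (fun _ => Nat) (Atab_1231) (Atab_1232) (Nat.ble 1232 c)
noncomputable def Atab_s_1230_1233 (c : Nat) : Nat := @Bool.rec (fun _ => Nat) (Atab_1230) (Atab_s_1231_1233 c) (Nat.ble 1231 c)
noncomputable def Atab_s_1227_1233 (c : Nat) : Nat := @Bool.rec (fun _ => Nat) (Atab_s_1227_1230 c) (Atab_s_1230_1233 c) (Nat.ble 1230 c)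
noncomputable def Atab_s_1234_1236 (c : Nat) : Nat := @Bool.rec (fun _ => Nat) (Atab_1234) (Atab_1235) (Nat.ble 1235 c)
noncomputable def Atab_s_1233_1236 (c : Nat) : Nat := @Bool.rec (fun _ => Nat) (Atab_1233) (Atab_s_1234_1236 c) (Nat.ble 1234 c)
noncomputable def Atab_s_1236_1238 (c : Nat) : Nat := @Bool.rec (fun _ => Nat) (Atab_1236) (Atab_1237) (Nat.ble 1237 c)
noncomputable def Atab_s_1238_1240 (c : Nat) : Nat := @Bool.rec (fun _ => Nat) (Atab_1238) (Atab_1239) (Nat.ble 1239 c)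
noncomputable def Atab_s_1236_1240 (c : Nat) : Nat := @Bool.rec (fun _ => Nat) (Atab_s_1236_1238 c) (Atab_s_1238_1240 c) (Nat.ble 1238 c)
noncomputable def Atab_s_1233_1240 (c : Nat) : Nat := @Bool.rec (fun _ => Nat) (Atab_s_1233_1236 c) (Atab_s_1236_1240 c) (Nat.ble 1236 c)
noncomputable def Atab_s_1227_1240 (c : Nat) : Nat := @Bool.rec (fun _ => Nat) (Atab_s_1227_1233 c) (Atab_s_1233_1240 c) (Nat.ble 1233 c)
noncomputable def Atab_s_1215_1240 (c : Nat) : Nat := @Bool.rec (fun _ => Nat) (Atab_s_1215_1227 c) (Atab_s_1227_1240 c) (Nat.ble 1227 c)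
noncomputable def Atab_s_1191_1240 (c : Nat) : Nat := @Bool.rec (fun _ => Nat) (Atab_s_1191_1215 c) (Atab_s_1215_1240 c) (Nat.ble 1215 c)
noncomputable def Atab_s_1241_1243 (c : Nat) : Nat := @Bool.rec (fun _ => Nat) (Atab_1241) (Atab_1242) (Nat.ble 1242 c)
noncomputable def Atab_s_1240_1243 (c : Nat) : Nat := @Bool.rec (fun _ => Nat) (Atab_1240) (Atab_s_1241_1243 c) (Nat.ble 1241 c)
noncomputable def Atab_s_1244_1246 (c : Nat) : Nat := @Bool.rec (fun _ => Nat) (Atab_1244) (Atab_1245) (Nat.ble 1245 c)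
noncomputable def Atab_s_1243_1246 (c : Nat) : Nat := @Bool.rec (fun _ => Nat) (Atab_1243) (Atab_s_1244_1246 c) (Nat.ble 1244 c)
noncomputable def Atab_s_1240_1246 (c : Nat) : Nat := @Bool.rec (fun _ => Nat) (Atab_s_1240_1243 c) (Atab_s_1243_1246 c) (Nat.ble 1243 c)
noncomputable def Atab_s_1247_1249 (c : Nat) : Nat := @Bool.rec (fun _ => Nat) (Atab_1247) (Atab_1248) (Nat.ble 1248 c)
noncomputable def Atab_s_1246_1249 (c : Nat) : Nat := @Bool.rec (fun _ => Nat) (Atab_1246) (Atab_s_1247_1249 c) (Nat.ble 1247 c)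
noncomputable def Atab_s_1250_1252 (c : Nat) : Nat := @Bool.rec (fun _ => Nat) (Atab_1250) (Atab_1251) (Nat.ble 1251 c)
noncomputable def Atab_s_1249_1252 (c : Nat) : Nat := @Bool.rec (fun _ => Nat) (Atab_1249) (Atab_s_1250_1252 c) (Nat.ble 1250 c)
noncomputable def Atab_s_1246_1252 (c : Nat) : Nat := @Bool.rec (fun _ => Nat) (Atab_s_1246_1249 c) (Atab_s_1249_1252 c) (Nat.ble 1249 c)
noncomputable def Atab_s_1240_1252 (c : Nat) : Nat := @Bool.rec (fun _ => Nat) (Atab_s_1240_1246 c) (Atab_s_1246_1252 c) (Nat.ble 1246 c)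
noncomputable def Atab_s_1253_1255 (c : Nat) : Nat := @Bool.rec (fun _ => Nat) (Atab_1253) (Atab_1254) (Nat.ble 1254 c)
noncomputable def Atab_s_1252_1255 (c : Nat) : Nat := @Bool.rec (fun _ => Nat) (Atab_1252) (Atab_s_1253_1255 c) (Nat.ble 1253 c)
noncomputable def Atab_s_1256_1258 (c : Nat) : Nat := @Bool.rec (fun _ => Nat) (Atab_1256) (Atab_1257) (Nat.ble 1257 c)
noncomputable def Atab_s_1255_1258 (c : Nat) : Nat := @Bool.rec (fun _ => Nat) (Atab_1255) (Atab_s_1256_1258 c) (Nat.ble 1256 c)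
noncomputable def Atab_s_1252_1258 (c : Nat) : Nat := @Bool.rec (fun _ => Nat) (Atab_s_1252_1255 c) (Atab_s_1255_1258 c) (Nat.ble 1255 c)
noncomputable def Atab_s_1259_1261 (c : Nat) : Nat := @Bool.rec (fun _ => Nat) (Atab_1259) (Atab_1260) (Nat.ble 1260 c)
noncomputable def Atab_s_1258_1261 (c : Nat) : Nat := @Bool.rec (fun _ => Nat) (Atab_1258) (Atab_s_1259_1261 c) (Nat.ble 1259 c)
noncomputable def Atab_s_1261_1263 (c : Nat) : Nat := @Bool.rec (fun _ => Nat) (Atab_1261) (Atab_1262) (Nat.ble 1262 c)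
noncomputable def Atab_s_1263_1265 (c : Nat) : Nat := @Bool.rec (fun _ => Nat) (Atab_1263) (Atab_1264) (Nat.ble 1264 c)
noncomputable def Atab_s_1261_1265 (c : Nat) : Nat := @Bool.rec (fun _ => Nat) (Atab_s_1261_1263 c) (Atab_s_1263_1265 c) (Nat.ble 1263 c)
noncomputable def Atab_s_1258_1265 (c : Nat) : Nat := @Bool.rec (fun _ => Nat) (Atab_s_1258_1261 c) (Atab_s_1261_1265 c) (Nat.ble 1261 c)
noncomputable def Atab_s_1252_1265 (c : Nat) : Nat := @Bool.rec (fun _ => Nat) (Atab_s_1252_1258 c) (Atab_s_1258_1265 c) (Nat.ble 1258 c)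
noncomputable def Atab_s_1240_1265 (c : Nat) : Nat := @Bool.rec (fun _ => Nat) (Atab_s_1240_1252 c) (Atab_s_1252_1265 c) (Nat.ble 1252 c)
noncomputable def Atab_s_1266_1268 (c : Nat) : Nat := @Bool.rec (fun _ => Nat) (Atab_1266) (Atab_1267) (Nat.ble 1267 c)
noncomputable def Atab_s_1265_1268 (c : Nat) : Nat := @Bool.rec (fun _ => Nat) (Atab_1265) (Atab_s_1266_1268 c) (Nat.ble 1266 c)
noncomputable def Atab_s_1269_1271 (c : Nat) : Nat := @Bool.rec (fun _ => Nat) (Atab_1269) (Atab_1270) (Nat.ble 1270 c)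
noncomputable def Atab_s_1268_1271 (c : Nat) : Nat := @Bool.rec (fun _ => Nat) (Atab_1268) (Atab_s_1269_1271 c) (Nat.ble 1269 c)
noncomputable def Atab_s_1265_1271 (c : Nat) : Nat := @Bool.rec (fun _ => Nat) (Atab_s_1265_1268 c) (Atab_s_1268_1271 c) (Nat.ble 1268 c)
noncomputable def Atab_s_1272_1274 (c : Nat) : Nat := @Bool.rec (fun _ => Nat) (Atab_1272) (Atab_1273) (Nat.ble 1273 c)
noncomputable def Atab_s_1271_1274 (c : Nat) : Nat := @Bool.rec (fun _ => Nat) (Atab_1271) (Atab_s_1272_1274 c) (Nat.ble 1272 c)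
noncomputable def Atab_s_1275_1277 (c : Nat) : Nat := @Bool.rec (fun _ => Nat) (Atab_1275) (Atab_1276) (Nat.ble 1276 c)
noncomputable def Atab_s_1274_1277 (c : Nat) : Nat := @Bool.rec (fun _ => Nat) (Atab_1274) (Atab_s_1275_1277 c) (Nat.ble 1275 c)
noncomputable def Atab_s_1271_1277 (c : Nat) : Nat := @Bool.rec (fun _ => Nat) (Atab_s_1271_1274 c) (Atab_s_1274_1277 c) (Nat.ble 1274 c)
noncomputable def Atab_s_1265_1277 (c : Nat) : Nat := @Bool.rec (fun _ => Nat) (Atab_s_1265_1271 c) (Atab_s_1271_1277 c) (Nat.ble 1271 c)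
noncomputable def Atab_s_1278_1280 (c : Nat) : Nat := @Bool.rec (fun _ => Nat) (Atab_1278) (Atab_1279) (Nat.ble 1279 c)
noncomputable def Atab_s_1277_1280 (c : Nat) : Nat := @Bool.rec (fun _ => Nat) (Atab_1277) (Atab_s_1278_1280 c) (Nat.ble 1278 c)
noncomputable def Atab_s_1281_1283 (c : Nat) : Nat := @Bool.rec (fun _ => Nat) (Atab_1281) (Atab_1282) (Nat.ble 1282 c)
noncomputable def Atab_s_1280_1283 (c : Nat) : Nat := @Bool.rec (fun _ => Nat) (Atab_1280) (Atab_s_1281_1283 c) (Nat.ble 1281 c)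
noncomputable def Atab_s_1277_1283 (c : Nat) : Nat := @Bool.rec (fun _ => Nat) (Atab_s_1277_1280 c) (Atab_s_1280_1283 c) (Nat.ble 1280 c)
noncomputable def Atab_s_1284_1286 (c : Nat) : Nat := @Bool.rec (fun _ => Nat) (Atab_1284) (Atab_1285) (Nat.ble 1285 c)
noncomputable def Atab_s_1283_1286 (c : Nat) : Nat := @Bool.rec (fun _ => Nat) (Atab_1283) (Atab_s_1284_1286 c) (Nat.ble 1284 c)
noncomputable def Atab_s_1286_1288 (c : Nat) : Nat := @Bool.rec (fun _ => Nat) (Atab_1286) (Atab_1287) (Nat.ble 1287 c)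
noncomputable def Atab_s_1288_1290 (c : Nat) : Nat := @Bool.rec (fun _ => Nat) (Atab_1288) (Atab_1289) (Nat.ble 1289 c)
noncomputable def Atab_s_1286_1290 (c : Nat) : Nat := @Bool.rec (fun _ => Nat) (Atab_s_1286_1288 c) (Atab_s_1288_1290 c) (Nat.ble 1288 c)
noncomputable def Atab_s_1283_1290 (c : Nat) : Nat := @Bool.rec (fun _ => Nat) (Atab_s_1283_1286 c) (Atab_s_1286_1290 c) (Nat.ble 1286 c)
noncomputable def Atab_s_1277_1290 (c : Nat) : Nat := @Bool.rec (fun _ => Nat) (Atab_s_1277_1283 c) (Atab_s_1283_1290 c) (Nat.ble 1283 c)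
noncomputable def Atab_s_1265_1290 (c : Nat) : Nat := @Bool.rec (fun _ => Nat) (Atab_s_1265_1277 c) (Atab_s_1277_1290 c) (Nat.ble 1277 c)
noncomputable def Atab_s_1240_1290 (c : Nat) : Nat := @Bool.rec (fun _ => Nat) (Atab_s_1240_1265 c) (Atab_s_1265_1290 c) (Nat.ble 1265 c)
noncomputable def Atab_s_1191_1290 (c : Nat) : Nat := @Bool.rec (fun _ => Nat) (Atab_s_1191_1240 c) (Atab_s_1240_1290 c) (Nat.ble 1240 c)
noncomputable def Atab_s_1291_1293 (c : Nat) : Nat := @Bool.rec (fun _ => Nat) (Atab_1291) (Atab_1292) (Nat.ble 1292 c)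
noncomputable def Atab_s_1290_1293 (c : Nat) : Nat := @Bool.rec (fun _ => Nat) (Atab_1290) (Atab_s_1291_1293 c) (Nat.ble 1291 c)
noncomputable def Atab_s_1294_1296 (c : Nat) : Nat := @Bool.rec (fun _ => Nat) (Atab_1294) (Atab_1295) (Nat.ble 1295 c)
noncomputable def Atab_s_1293_1296 (c : Nat) : Nat := @Bool.rec (fun _ => Nat) (Atab_1293) (Atab_s_1294_1296 c) (Nat.ble 1294 c)
noncomputable def Atab_s_1290_1296 (c : Nat) : Nat := @Bool.rec (fun _ => Nat) (Atab_s_1290_1293 c) (Atab_s_1293_1296 c) (Nat.ble 1293 c)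
noncomputable def Atab_s_1297_1299 (c : Nat) : Nat := @Bool.rec (fun _ => Nat) (Atab_1297) (Atab_1298) (Nat.ble 1298 c)
noncomputable def Atab_s_1296_1299 (c : Nat) : Nat := @Bool.rec (fun _ => Nat) (Atab_1296) (Atab_s_1297_1299 c) (Nat.ble 1297 c)
noncomputable def Atab_s_1300_1302 (c : Nat) : Nat := @Bool.rec (fun _ => Nat) (Atab_1300) (Atab_1301) (Nat.ble 1301 c)
noncomputable def Atab_s_1299_1302 (c : Nat) : Nat := @Bool.rec (fun _ => Nat) (Atab_1299) (Atab_s_1300_1302 c) (Nat.ble 1300 c)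
noncomputable def Atab_s_1296_1302 (c : Nat) : Nat := @Bool.rec (fun _ => Nat) (Atab_s_1296_1299 c) (Atab_s_1299_1302 c) (Nat.ble 1299 c)
noncomputable def Atab_s_1290_1302 (c : Nat) : Nat := @Bool.rec (fun _ => Nat) (Atab_s_1290_1296 c) (Atab_s_1296_1302 c) (Nat.ble 1296 c)
noncomputable def Atab_s_1303_1305 (c : Nat) : Nat := @Bool.rec (fun _ => Nat) (Atab_1303) (Atab_1304) (Nat.ble 1304 c)
noncomputable def Atab_s_1302_1305 (c : Nat) : Nat := @Bool.rec (fun _ => Nat) (Atab_1302) (Atab_s_1303_1305 c) (Nat.ble 1303 c)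
noncomputable def Atab_s_1306_1308 (c : Nat) : Nat := @Bool.rec (fun _ => Nat) (Atab_1306) (Atab_1307) (Nat.ble 1307 c)
noncomputable def Atab_s_1305_1308 (c : Nat) : Nat := @Bool.rec (fun _ => Nat) (Atab_1305) (Atab_s_1306_1308 c) (Nat.ble 1306 c)
noncomputable def Atab_s_1302_1308 (c : Nat) : Nat := @Bool.rec (fun _ => Nat) (Atab_s_1302_1305 c) (Atab_s_1305_1308 c) (Nat.ble 1305 c)
noncomputable def Atab_s_1309_1311 (c : Nat) : Nat := @Bool.rec (fun _ => Nat) (Atab_1309) (Atab_1310) (Nat.ble 1310 c)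
noncomputable def Atab_s_1308_1311 (c : Nat) : Nat := @Bool.rec (fun _ => Nat) (Atab_1308) (Atab_s_1309_1311 c) (Nat.ble 1309 c)
noncomputable def Atab_s_1312_1314 (c : Nat) : Nat := @Bool.rec (fun _ => Nat) (Atab_1312) (Atab_1313) (Nat.ble 1313 c)
noncomputable def Atab_s_1311_1314 (c : Nat) : Nat := @Bool.rec (fun _ => Nat) (Atab_1311) (Atab_s_1312_1314 c) (Nat.ble 1312 c)
noncomputable def Atab_s_1308_1314 (c : Nat) : Nat := @Bool.rec (fun _ => Nat) (Atab_s_1308_1311 c) (Atab_s_1311_1314 c) (Nat.ble 1311 c)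
noncomputable def Atab_s_1302_1314 (c : Nat) : Nat := @Bool.rec (fun _ => Nat) (Atab_s_1302_1308 c) (Atab_s_1308_1314 c) (Nat.ble 1308 c)
noncomputable def Atab_s_1290_1314 (c : Nat) : Nat := @Bool.rec (fun _ => Nat) (Atab_s_1290_1302 c) (Atab_s_1302_1314 c) (Nat.ble 1302 c)
noncomputable def Atab_s_1315_1317 (c : Nat) : Nat := @Bool.rec (fun _ => Nat) (Atab_1315) (Atab_1316) (Nat.ble 1316 c)
noncomputable def Atab_s_1314_1317 (c : Nat) : Nat := @Bool.rec (fun _ => Nat) (Atab_1314) (Atab_s_1315_1317 c) (Nat.ble 1315 c)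
noncomputable def Atab_s_1318_1320 (c : Nat) : Nat := @Bool.rec (fun _ => Nat) (Atab_1318) (Atab_1319) (Nat.ble 1319 c)
noncomputable def Atab_s_1317_1320 (c : Nat) : Nat := @Bool.rec (fun _ => Nat) (Atab_1317) (Atab_s_1318_1320 c) (Nat.ble 1318 c)
noncomputable def Atab_s_1314_1320 (c : Nat) : Nat := @Bool.rec (fun _ => Nat) (Atab_s_1314_1317 c) (Atab_s_1317_1320 c) (Nat.ble 1317 c)
noncomputable def Atab_s_1321_1323 (c : Nat) : Nat := @Bool.rec (fun _ => Nat) (Atab_1321) (Atab_1322) (Nat.ble 1322 c)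
noncomputable def Atab_s_1320_1323 (c : Nat) : Nat := @Bool.rec (fun _ => Nat) (Atab_1320) (Atab_s_1321_1323 c) (Nat.ble 1321 c)
noncomputable def Atab_s_1324_1326 (c : Nat) : Nat := @Bool.rec (fun _ => Nat) (Atab_1324) (Atab_1325) (Nat.ble 1325 c)
noncomputable def Atab_s_1323_1326 (c : Nat) : Nat := @Bool.rec (fun _ => Nat) (Atab_1323) (Atab_s_1324_1326 c) (Nat.ble 1324 c)
noncomputable def Atab_s_1320_1326 (c : Nat) : Nat := @Bool.rec (fun _ => Nat) (Atab_s_1320_1323 c) (Atab_s_1323_1326 c) (Nat.ble 1323 c)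
noncomputable def Atab_s_1314_1326 (c : Nat) : Nat := @Bool.rec (fun _ => Nat) (Atab_s_1314_1320 c) (Atab_s_1320_1326 c) (Nat.ble 1320 c)
noncomputable def Atab_s_1327_1329 (c : Nat) : Nat := @Bool.rec (fun _ => Nat) (Atab_1327) (Atab_1328) (Nat.ble 1328 c)
noncomputable def Atab_s_1326_1329 (c : Nat) : Nat := @Bool.rec (fun _ => Nat) (Atab_1326) (Atab_s_1327_1329 c) (Nat.ble 1327 c)
noncomputable def Atab_s_1330_1332 (c : Nat) : Nat := @Bool.rec (fun _ => Nat) (Atab_1330) (Atab_1331) (Nat.ble 1331 c)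
noncomputable def Atab_s_1329_1332 (c : Nat) : Nat := @Bool.rec (fun _ => Nat) (Atab_1329) (Atab_s_1330_1332 c) (Nat.ble 1330 c)
noncomputable def Atab_s_1326_1332 (c : Nat) : Nat := @Bool.rec (fun _ => Nat) (Atab_s_1326_1329 c) (Atab_s_1329_1332 c) (Nat.ble 1329 c)
noncomputable def Atab_s_1333_1335 (c : Nat) : Nat := @Bool.rec (fun _ => Nat) (Atab_1333) (Atab_1334) (Nat.ble 1334 c)
noncomputable def Atab_s_1332_1335 (c : Nat) : Nat := @Bool.rec (fun _ => Nat) (Atab_1332) (Atab_s_1333_1335 c) (Nat.ble 1333 c)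
noncomputable def Atab_s_1335_1337 (c : Nat) : Nat := @Bool.rec (fun _ => Nat) (Atab_1335) (Atab_1336) (Nat.ble 1336 c)
noncomputable def Atab_s_1337_1339 (c : Nat) : Nat := @Bool.rec (fun _ => Nat) (Atab_1337) (Atab_1338) (Nat.ble 1338 c)
noncomputable def Atab_s_1335_1339 (c : Nat) : Nat := @Bool.rec (fun _ => Nat) (Atab_s_1335_1337 c) (Atab_s_1337_1339 c) (Nat.ble 1337 c)
noncomputable def Atab_s_1332_1339 (c : Nat) : Nat := @Bool.rec (fun _ => Nat) (Atab_s_1332_1335 c) (Atab_s_1335_1339 c) (Nat.ble 1335 c)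
noncomputable def Atab_s_1326_1339 (c : Nat) : Nat := @Bool.rec (fun _ => Nat) (Atab_s_1326_1332 c) (Atab_s_1332_1339 c) (Nat.ble 1332 c)
noncomputable def Atab_s_1314_1339 (c : Nat) : Nat := @Bool.rec (fun _ => Nat) (Atab_s_1314_1326 c) (Atab_s_1326_1339 c) (Nat.ble 1326 c)
noncomputable def Atab_s_1290_1339 (c : Nat) : Nat := @Bool.rec (fun _ => Nat) (Atab_s_1290_1314 c) (Atab_s_1314_1339 c) (Nat.ble 1314 c)
noncomputable def Atab_s_1340_1342 (c : Nat) : Nat := @Bool.rec (fun _ => Nat) (Atab_1340) (Atab_1341) (Nat.ble 1341 c)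
noncomputable def Atab_s_1339_1342 (c : Nat) : Nat := @Bool.rec (fun _ => Nat) (Atab_1339) (Atab_s_1340_1342 c) (Nat.ble 1340 c)
noncomputable def Atab_s_1343_1345 (c : Nat) : Nat := @Bool.rec (fun _ => Nat) (Atab_1343) (Atab_1344) (Nat.ble 1344 c)
noncomputable def Atab_s_1342_1345 (c : Nat) : Nat := @Bool.rec (fun _ => Nat) (Atab_1342) (Atab_s_1343_1345 c) (Nat.ble 1343 c)
noncomputable def Atab_s_1339_1345 (c : Nat) : Nat := @Bool.rec (fun _ => Nat) (Atab_s_1339_1342 c) (Atab_s_1342_1345 c) (Nat.ble 1342 c)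
noncomputable def Atab_s_1346_1348 (c : Nat) : Nat := @Bool.rec (fun _ => Nat) (Atab_1346) (Atab_1347) (Nat.ble 1347 c)
noncomputable def Atab_s_1345_1348 (c : Nat) : Nat := @Bool.rec (fun _ => Nat) (Atab_1345) (Atab_s_1346_1348 c) (Nat.ble 1346 c)
noncomputable def Atab_s_1349_1351 (c : Nat) : Nat := @Bool.rec (fun _ => Nat) (Atab_1349) (Atab_1350) (Nat.ble 1350 c)
noncomputable def Atab_s_1348_1351 (c : Nat) : Nat := @Bool.rec (fun _ => Nat) (Atab_1348) (Atab_s_1349_1351 c) (Nat.ble 1349 c)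
noncomputable def Atab_s_1345_1351 (c : Nat) : Nat := @Bool.rec (fun _ => Nat) (Atab_s_1345_1348 c) (Atab_s_1348_1351 c) (Nat.ble 1348 c)
noncomputable def Atab_s_1339_1351 (c : Nat) : Nat := @Bool.rec (fun _ => Nat) (Atab_s_1339_1345 c) (Atab_s_1345_1351 c) (Nat.ble 1345 c)
noncomputable def Atab_s_1352_1354 (c : Nat) : Nat := @Bool.rec (fun _ => Nat) (Atab_1352) (Atab_1353) (Nat.ble 1353 c)
noncomputable def Atab_s_1351_1354 (c : Nat) : Nat := @Bool.rec (fun _ => Nat) (Atab_1351) (Atab_s_1352_1354 c) (Nat.ble 1352 c)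
noncomputable def Atab_s_1355_1357 (c : Nat) : Nat := @Bool.rec (fun _ => Nat) (Atab_1355) (Atab_1356) (Nat.ble 1356 c)
noncomputable def Atab_s_1354_1357 (c : Nat) : Nat := @Bool.rec (fun _ => Nat) (Atab_1354) (Atab_s_1355_1357 c) (Nat.ble 1355 c)
noncomputable def Atab_s_1351_1357 (c : Nat) : Nat := @Bool.rec (fun _ => Nat) (Atab_s_1351_1354 c) (Atab_s_1354_1357 c) (Nat.ble 1354 c)
noncomputable def Atab_s_1358_1360 (c : Nat) : Nat := @Bool.rec (fun _ => Nat) (Atab_1358) (Atab_1359) (Nat.ble 1359 c)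
noncomputable def Atab_s_1357_1360 (c : Nat) : Nat := @Bool.rec (fun _ => Nat) (Atab_1357) (Atab_s_1358_1360 c) (Nat.ble 1358 c)
noncomputable def Atab_s_1360_1362 (c : Nat) : Nat := @Bool.rec (fun _ => Nat) (Atab_1360) (Atab_1361) (Nat.ble 1361 c)
noncomputable def Atab_s_1362_1364 (c : Nat) : Nat := @Bool.rec (fun _ => Nat) (Atab_1362) (Atab_1363) (Nat.ble 1363 c)
noncomputable def Atab_s_1360_1364 (c : Nat) : Nat := @Bool.rec (fun _ => Nat) (Atab_s_1360_1362 c) (Atab_s_1362_1364 c) (Nat.ble 1362 c)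
noncomputable def Atab_s_1357_1364 (c : Nat) : Nat := @Bool.rec (fun _ => Nat) (Atab_s_1357_1360 c) (Atab_s_1360_1364 c) (Nat.ble 1360 c)
noncomputable def Atab_s_1351_1364 (c : Nat) : Nat := @Bool.rec (fun _ => Nat) (Atab_s_1351_1357 c) (Atab_s_1357_1364 c) (Nat.ble 1357 c)
noncomputable def Atab_s_1339_1364 (c : Nat) : Nat := @Bool.rec (fun _ => Nat) (Atab_s_1339_1351 c) (Atab_s_1351_1364 c) (Nat.ble 1351 c)
noncomputable def Atab_s_1365_1367 (c : Nat) : Nat := @Bool.rec (fun _ => Nat) (Atab_1365) (Atab_1366) (Nat.ble 1366 c)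
noncomputable def Atab_s_1364_1367 (c : Nat) : Nat := @Bool.rec (fun _ => Nat) (Atab_1364) (Atab_s_1365_1367 c) (Nat.ble 1365 c)
noncomputable def Atab_s_1368_1370 (c : Nat) : Nat := @Bool.rec (fun _ => Nat) (Atab_1368) (Atab_1369) (Nat.ble 1369 c)
noncomputable def Atab_s_1367_1370 (c : Nat) : Nat := @Bool.rec (fun _ => Nat) (Atab_1367) (Atab_s_1368_1370 c) (Nat.ble 1368 c)
noncomputable def Atab_s_1364_1370 (c : Nat) : Nat := @Bool.rec (fun _ => Nat) (Atab_s_1364_1367 c) (Atab_s_1367_1370 c) (Nat.ble 1367 c)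
noncomputable def Atab_s_1371_1373 (c : Nat) : Nat := @Bool.rec (fun _ => Nat) (Atab_1371) (Atab_1372) (Nat.ble 1372 c)
noncomputable def Atab_s_1370_1373 (c : Nat) : Nat := @Bool.rec (fun _ => Nat) (Atab_1370) (Atab_s_1371_1373 c) (Nat.ble 1371 c)
noncomputable def Atab_s_1374_1376 (c : Nat) : Nat := @Bool.rec (fun _ => Nat) (Atab_1374) (Atab_1375) (Nat.ble 1375 c)
noncomputable def Atab_s_1373_1376 (c : Nat) : Nat := @Bool.rec (fun _ => Nat) (Atab_1373) (Atab_s_1374_1376 c) (Nat.ble 1374 c)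
noncomputable def Atab_s_1370_1376 (c : Nat) : Nat := @Bool.rec (fun _ => Nat) (Atab_s_1370_1373 c) (Atab_s_1373_1376 c) (Nat.ble 1373 c)
noncomputable def Atab_s_1364_1376 (c : Nat) : Nat := @Bool.rec (fun _ => Nat) (Atab_s_1364_1370 c) (Atab_s_1370_1376 c) (Nat.ble 1370 c)
noncomputable def Atab_s_1377_1379 (c : Nat) : Nat := @Bool.rec (fun _ => Nat) (Atab_1377) (Atab_1378) (Nat.ble 1378 c)
noncomputable def Atab_s_1376_1379 (c : Nat) : Nat := @Bool.rec (fun _ => Nat) (Atab_1376) (Atab_s_1377_1379 c) (Nat.ble 1377 c)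
noncomputable def Atab_s_1380_1382 (c : Nat) : Nat := @Bool.rec (fun _ => Nat) (Atab_1380) (Atab_1381) (Nat.ble 1381 c)
noncomputable def Atab_s_1379_1382 (c : Nat) : Nat := @Bool.rec (fun _ => Nat) (Atab_1379) (Atab_s_1380_1382 c) (Nat.ble 1380 c)
noncomputable def Atab_s_1376_1382 (c : Nat) : Nat := @Bool.rec (fun _ => Nat) (Atab_s_1376_1379 c) (Atab_s_1379_1382 c) (Nat.ble 1379 c)
noncomputable def Atab_s_1383_1385 (c : Nat) : Nat := @Bool.rec (fun _ => Nat) (Atab_1383) (Atab_1384) (Nat.ble 1384 c)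
noncomputable def Atab_s_1382_1385 (c : Nat) : Nat := @Bool.rec (fun _ => Nat) (Atab_1382) (Atab_s_1383_1385 c) (Nat.ble 1383 c)
noncomputable def Atab_s_1385_1387 (c : Nat) : Nat := @Bool.rec (fun _ => Nat) (Atab_1385) (Atab_1386) (Nat.ble 1386 c)
noncomputable def Atab_s_1387_1389 (c : Nat) : Nat := @Bool.rec (fun _ => Nat) (Atab_1387) (Atab_1388) (Nat.ble 1388 c)
noncomputable def Atab_s_1385_1389 (c : Nat) : Nat := @Bool.rec (fun _ => Nat) (Atab_s_1385_1387 c) (Atab_s_1387_1389 c) (Nat.ble 1387 c)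
noncomputable def Atab_s_1382_1389 (c : Nat) : Nat := @Bool.rec (fun _ => Nat) (Atab_s_1382_1385 c) (Atab_s_1385_1389 c) (Nat.ble 1385 c)
noncomputable def Atab_s_1376_1389 (c : Nat) : Nat := @Bool.rec (fun _ => Nat) (Atab_s_1376_1382 c) (Atab_s_1382_1389 c) (Nat.ble 1382 c)
noncomputable def Atab_s_1364_1389 (c : Nat) : Nat := @Bool.rec (fun _ => Nat) (Atab_s_1364_1376 c) (Atab_s_1376_1389 c) (Nat.ble 1376 c)
noncomputable def Atab_s_1339_1389 (c : Nat) : Nat := @Bool.rec (fun _ => Nat) (Atab_s_1339_1364 c) (Atab_s_1364_1389 c) (Nat.ble 1364 c)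
noncomputable def Atab_s_1290_1389 (c : Nat) : Nat := @Bool.rec (fun _ => Nat) (Atab_s_1290_1339 c) (Atab_s_1339_1389 c) (Nat.ble 1339 c)
noncomputable def Atab_s_1191_1389 (c : Nat) : Nat := @Bool.rec (fun _ => Nat) (Atab_s_1191_1290 c) (Atab_s_1290_1389 c) (Nat.ble 1290 c)
noncomputable def Atab_s_1390_1392 (c : Nat) : Nat := @Bool.rec (fun _ => Nat) (Atab_1390) (Atab_1391) (Nat.ble 1391 c)
noncomputable def Atab_s_1389_1392 (c : Nat) : Nat := @Bool.rec (fun _ => Nat) (Atab_1389) (Atab_s_1390_1392 c) (Nat.ble 1390 c)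
noncomputable def Atab_s_1393_1395 (c : Nat) : Nat := @Bool.rec (fun _ => Nat) (Atab_1393) (Atab_1394) (Nat.ble 1394 c)
noncomputable def Atab_s_1392_1395 (c : Nat) : Nat := @Bool.rec (fun _ => Nat) (Atab_1392) (Atab_s_1393_1395 c) (Nat.ble 1393 c)
noncomputable def Atab_s_1389_1395 (c : Nat) : Nat := @Bool.rec (fun _ => Nat) (Atab_s_1389_1392 c) (Atab_s_1392_1395 c) (Nat.ble 1392 c)
noncomputable def Atab_s_1396_1398 (c : Nat) : Nat := @Bool.rec (fun _ => Nat) (Atab_1396) (Atab_1397) (Nat.ble 1397 c)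
noncomputable def Atab_s_1395_1398 (c : Nat) : Nat := @Bool.rec (fun _ => Nat) (Atab_1395) (Atab_s_1396_1398 c) (Nat.ble 1396 c)
noncomputable def Atab_s_1399_1401 (c : Nat) : Nat := @Bool.rec (fun _ => Nat) (Atab_1399) (Atab_1400) (Nat.ble 1400 c)
noncomputable def Atab_s_1398_1401 (c : Nat) : Nat := @Bool.rec (fun _ => Nat) (Atab_1398) (Atab_s_1399_1401 c) (Nat.ble 1399 c)
noncomputable def Atab_s_1395_1401 (c : Nat) : Nat := @Bool.rec (fun _ => Nat) (Atab_s_1395_1398 c) (Atab_s_1398_1401 c) (Nat.ble 1398 c)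
noncomputable def Atab_s_1389_1401 (c : Nat) : Nat := @Bool.rec (fun _ => Nat) (Atab_s_1389_1395 c) (Atab_s_1395_1401 c) (Nat.ble 1395 c)
noncomputable def Atab_s_1402_1404 (c : Nat) : Nat := @Bool.rec (fun _ => Nat) (Atab_1402) (Atab_1403) (Nat.ble 1403 c)
noncomputable def Atab_s_1401_1404 (c : Nat) : Nat := @Bool.rec (fun _ => Nat) (Atab_1401) (Atab_s_1402_1404 c) (Nat.ble 1402 c)
noncomputable def Atab_s_1405_1407 (c : Nat) : Nat := @Bool.rec (fun _ => Nat) (Atab_1405) (Atab_1406) (Nat.ble 1406 c)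
noncomputable def Atab_s_1404_1407 (c : Nat) : Nat := @Bool.rec (fun _ => Nat) (Atab_1404) (Atab_s_1405_1407 c) (Nat.ble 1405 c)
noncomputable def Atab_s_1401_1407 (c : Nat) : Nat := @Bool.rec (fun _ => Nat) (Atab_s_1401_1404 c) (Atab_s_1404_1407 c) (Nat.ble 1404 c)
noncomputable def Atab_s_1408_1410 (c : Nat) : Nat := @Bool.rec (fun _ => Nat) (Atab_1408) (Atab_1409) (Nat.ble 1409 c)
noncomputable def Atab_s_1407_1410 (c : Nat) : Nat := @Bool.rec (fun _ => Nat) (Atab_1407) (Atab_s_1408_1410 c) (Nat.ble 1408 c)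
noncomputable def Atab_s_1411_1413 (c : Nat) : Nat := @Bool.rec (fun _ => Nat) (Atab_1411) (Atab_1412) (Nat.ble 1412 c)
noncomputable def Atab_s_1410_1413 (c : Nat) : Nat := @Bool.rec (fun _ => Nat) (Atab_1410) (Atab_s_1411_1413 c) (Nat.ble 1411 c)
noncomputable def Atab_s_1407_1413 (c : Nat) : Nat := @Bool.rec (fun _ => Nat) (Atab_s_1407_1410 c) (Atab_s_1410_1413 c) (Nat.ble 1410 c)
noncomputable def Atab_s_1401_1413 (c : Nat) : Nat := @Bool.rec (fun _ => Nat) (Atab_s_1401_1407 c) (Atab_s_1407_1413 c) (Nat.ble 1407 c)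
noncomputable def Atab_s_1389_1413 (c : Nat) : Nat := @Bool.rec (fun _ => Nat) (Atab_s_1389_1401 c) (Atab_s_1401_1413 c) (Nat.ble 1401 c)
noncomputable def Atab_s_1414_1416 (c : Nat) : Nat := @Bool.rec (fun _ => Nat) (Atab_1414) (Atab_1415) (Nat.ble 1415 c)
noncomputable def Atab_s_1413_1416 (c : Nat) : Nat := @Bool.rec (fun _ => Nat) (Atab_1413) (Atab_s_1414_1416 c) (Nat.ble 1414 c)
noncomputable def Atab_s_1417_1419 (c : Nat) : Nat := @Bool.rec (fun _ => Nat) (Atab_1417) (Atab_1418) (Nat.ble 1418 c)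
noncomputable def Atab_s_1416_1419 (c : Nat) : Nat := @Bool.rec (fun _ => Nat) (Atab_1416) (Atab_s_1417_1419 c) (Nat.ble 1417 c)
noncomputable def Atab_s_1413_1419 (c : Nat) : Nat := @Bool.rec (fun _ => Nat) (Atab_s_1413_1416 c) (Atab_s_1416_1419 c) (Nat.ble 1416 c)
noncomputable def Atab_s_1420_1422 (c : Nat) : Nat := @Bool.rec (fun _ => Nat) (Atab_1420) (Atab_1421) (Nat.ble 1421 c)
noncomputable def Atab_s_1419_1422 (c : Nat) : Nat := @Bool.rec (fun _ => Nat) (Atab_1419) (Atab_s_1420_1422 c) (Nat.ble 1420 c)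
noncomputable def Atab_s_1423_1425 (c : Nat) : Nat := @Bool.rec (fun _ => Nat) (Atab_1423) (Atab_1424) (Nat.ble 1424 c)
noncomputable def Atab_s_1422_1425 (c : Nat) : Nat := @Bool.rec (fun _ => Nat) (Atab_1422) (Atab_s_1423_1425 c) (Nat.ble 1423 c)
noncomputable def Atab_s_1419_1425 (c : Nat) : Nat := @Bool.rec (fun _ => Nat) (Atab_s_1419_1422 c) (Atab_s_1422_1425 c) (Nat.ble 1422 c)
noncomputable def Atab_s_1413_1425 (c : Nat) : Nat := @Bool.rec (fun _ => Nat) (Atab_s_1413_1419 c) (Atab_s_1419_1425 c) (Nat.ble 1419 c)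
noncomputable def Atab_s_1426_1428 (c : Nat) : Nat := @Bool.rec (fun _ => Nat) (Atab_1426) (Atab_1427) (Nat.ble 1427 c)
noncomputable def Atab_s_1425_1428 (c : Nat) : Nat := @Bool.rec (fun _ => Nat) (Atab_1425) (Atab_s_1426_1428 c) (Nat.ble 1426 c)
noncomputable def Atab_s_1429_1431 (c : Nat) : Nat := @Bool.rec (fun _ => Nat) (Atab_1429) (Atab_1430) (Nat.ble 1430 c)
noncomputable def Atab_s_1428_1431 (c : Nat) : Nat := @Bool.rec (fun _ => Nat) (Atab_1428) (Atab_s_1429_1431 c) (Nat.ble 1429 c)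
noncomputable def Atab_s_1425_1431 (c : Nat) : Nat := @Bool.rec (fun _ => Nat) (Atab_s_1425_1428 c) (Atab_s_1428_1431 c) (Nat.ble 1428 c)
noncomputable def Atab_s_1432_1434 (c : Nat) : Nat := @Bool.rec (fun _ => Nat) (Atab_1432) (Atab_1433) (Nat.ble 1433 c)
noncomputable def Atab_s_1431_1434 (c : Nat) : Nat := @Bool.rec (fun _ => Nat) (Atab_1431) (Atab_s_1432_1434 c) (Nat.ble 1432 c)
noncomputable def Atab_s_1434_1436 (c : Nat) : Nat := @Bool.rec (fun _ => Nat) (Atab_1434) (Atab_1435) (Nat.ble 1435 c)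
noncomputable def Atab_s_1436_1438 (c : Nat) : Nat := @Bool.rec (fun _ => Nat) (Atab_1436) (Atab_1437) (Nat.ble 1437 c)
noncomputable def Atab_s_1434_1438 (c : Nat) : Nat := @Bool.rec (fun _ => Nat) (Atab_s_1434_1436 c) (Atab_s_1436_1438 c) (Nat.ble 1436 c)
noncomputable def Atab_s_1431_1438 (c : Nat) : Nat := @Bool.rec (fun _ => Nat) (Atab_s_1431_1434 c) (Atab_s_1434_1438 c) (Nat.ble 1434 c)
noncomputable def Atab_s_1425_1438 (c : Nat) : Nat := @Bool.rec (fun _ => Nat) (Atab_s_1425_1431 c) (Atab_s_1431_1438 c) (Nat.ble 1431 c)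
noncomputable def Atab_s_1413_1438 (c : Nat) : Nat := @Bool.rec (fun _ => Nat) (Atab_s_1413_1425 c) (Atab_s_1425_1438 c) (Nat.ble 1425 c)
noncomputable def Atab_s_1389_1438 (c : Nat) : Nat := @Bool.rec (fun _ => Nat) (Atab_s_1389_1413 c) (Atab_s_1413_1438 c) (Nat.ble 1413 c)
noncomputable def Atab_s_1439_1441 (c : Nat) : Nat := @Bool.rec (fun _ => Nat) (Atab_1439) (Atab_1440) (Nat.ble 1440 c)
noncomputable def Atab_s_1438_1441 (c : Nat) : Nat := @Bool.rec (fun _ => Nat) (Atab_1438) (Atab_s_1439_1441 c) (Nat.ble 1439 c)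
noncomputable def Atab_s_1442_1444 (c : Nat) : Nat := @Bool.rec (fun _ => Nat) (Atab_1442) (Atab_1443) (Nat.ble 1443 c)
noncomputable def Atab_s_1441_1444 (c : Nat) : Nat := @Bool.rec (fun _ => Nat) (Atab_1441) (Atab_s_1442_1444 c) (Nat.ble 1442 c)
noncomputable def Atab_s_1438_1444 (c : Nat) : Nat := @Bool.rec (fun _ => Nat) (Atab_s_1438_1441 c) (Atab_s_1441_1444 c) (Nat.ble 1441 c)
noncomputable def Atab_s_1445_1447 (c : Nat) : Nat := @Bool.rec (fun _ => Nat) (Atab_1445) (Atab_1446) (Nat.ble 1446 c)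
noncomputable def Atab_s_1444_1447 (c : Nat) : Nat := @Bool.rec (fun _ => Nat) (Atab_1444) (Atab_s_1445_1447 c) (Nat.ble 1445 c)
noncomputable def Atab_s_1448_1450 (c : Nat) : Nat := @Bool.rec (fun _ => Nat) (Atab_1448) (Atab_1449) (Nat.ble 1449 c)
noncomputable def Atab_s_1447_1450 (c : Nat) : Nat := @Bool.rec (fun _ => Nat) (Atab_1447) (Atab_s_1448_1450 c) (Nat.ble 1448 c)
noncomputable def Atab_s_1444_1450 (c : Nat) : Nat := @Bool.rec (fun _ => Nat) (Atab_s_1444_1447 c) (Atab_s_1447_1450 c) (Nat.ble 1447 c)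
noncomputable def Atab_s_1438_1450 (c : Nat) : Nat := @Bool.rec (fun _ => Nat) (Atab_s_1438_1444 c) (Atab_s_1444_1450 c) (Nat.ble 1444 c)
noncomputable def Atab_s_1451_1453 (c : Nat) : Nat := @Bool.rec (fun _ => Nat) (Atab_1451) (Atab_1452) (Nat.ble 1452 c)
noncomputable def Atab_s_1450_1453 (c : Nat) : Nat := @Bool.rec (fun _ => Nat) (Atab_1450) (Atab_s_1451_1453 c) (Nat.ble 1451 c)
noncomputable def Atab_s_1454_1456 (c : Nat) : Nat := @Bool.rec (fun _ => Nat) (Atab_1454) (Atab_1455) (Nat.ble 1455 c)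
noncomputable def Atab_s_1453_1456 (c : Nat) : Nat := @Bool.rec (fun _ => Nat) (Atab_1453) (Atab_s_1454_1456 c) (Nat.ble 1454 c)
noncomputable def Atab_s_1450_1456 (c : Nat) : Nat := @Bool.rec (fun _ => Nat) (Atab_s_1450_1453 c) (Atab_s_1453_1456 c) (Nat.ble 1453 c)
noncomputable def Atab_s_1457_1459 (c : Nat) : Nat := @Bool.rec (fun _ => Nat) (Atab_1457) (Atab_1458) (Nat.ble 1458 c)
noncomputable def Atab_s_1456_1459 (c : Nat) : Nat := @Bool.rec (fun _ => Nat) (Atab_1456) (Atab_s_1457_1459 c) (Nat.ble 1457 c)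
noncomputable def Atab_s_1459_1461 (c : Nat) : Nat := @Bool.rec (fun _ => Nat) (Atab_1459) (Atab_1460) (Nat.ble 1460 c)
noncomputable def Atab_s_1461_1463 (c : Nat) : Nat := @Bool.rec (fun _ => Nat) (Atab_1461) (Atab_1462) (Nat.ble 1462 c)
noncomputable def Atab_s_1459_1463 (c : Nat) : Nat := @Bool.rec (fun _ => Nat) (Atab_s_1459_1461 c) (Atab_s_1461_1463 c) (Nat.ble 1461 c)
noncomputable def Atab_s_1456_1463 (c : Nat) : Nat := @Bool.rec (fun _ => Nat) (Atab_s_1456_1459 c) (Atab_s_1459_1463 c) (Nat.ble 1459 c)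
noncomputable def Atab_s_1450_1463 (c : Nat) : Nat := @Bool.rec (fun _ => Nat) (Atab_s_1450_1456 c) (Atab_s_1456_1463 c) (Nat.ble 1456 c)
noncomputable def Atab_s_1438_1463 (c : Nat) : Nat := @Bool.rec (fun _ => Nat) (Atab_s_1438_1450 c) (Atab_s_1450_1463 c) (Nat.ble 1450 c)
noncomputable def Atab_s_1464_1466 (c : Nat) : Nat := @Bool.rec (fun _ => Nat) (Atab_1464) (Atab_1465) (Nat.ble 1465 c)
noncomputable def Atab_s_1463_1466 (c : Nat) : Nat := @Bool.rec (fun _ => Nat) (Atab_1463) (Atab_s_1464_1466 c) (Nat.ble 1464 c)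
noncomputable def Atab_s_1467_1469 (c : Nat) : Nat := @Bool.rec (fun _ => Nat) (Atab_1467) (Atab_1468) (Nat.ble 1468 c)
noncomputable def Atab_s_1466_1469 (c : Nat) : Nat := @Bool.rec (fun _ => Nat) (Atab_1466) (Atab_s_1467_1469 c) (Nat.ble 1467 c)
noncomputable def Atab_s_1463_1469 (c : Nat) : Nat := @Bool.rec (fun _ => Nat) (Atab_s_1463_1466 c) (Atab_s_1466_1469 c) (Nat.ble 1466 c)
noncomputable def Atab_s_1470_1472 (c : Nat) : Nat := @Bool.rec (fun _ => Nat) (Atab_1470) (Atab_1471) (Nat.ble 1471 c)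
noncomputable def Atab_s_1469_1472 (c : Nat) : Nat := @Bool.rec (fun _ => Nat) (Atab_1469) (Atab_s_1470_1472 c) (Nat.ble 1470 c)
noncomputable def Atab_s_1473_1475 (c : Nat) : Nat := @Bool.rec (fun _ => Nat) (Atab_1473) (Atab_1474) (Nat.ble 1474 c)
noncomputable def Atab_s_1472_1475 (c : Nat) : Nat := @Bool.rec (fun _ => Nat) (Atab_1472) (Atab_s_1473_1475 c) (Nat.ble 1473 c)
noncomputable def Atab_s_1469_1475 (c : Nat) : Nat := @Bool.rec (fun _ => Nat) (Atab_s_1469_1472 c) (Atab_s_1472_1475 c) (Nat.ble 1472 c)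
noncomputable def Atab_s_1463_1475 (c : Nat) : Nat := @Bool.rec (fun _ => Nat) (Atab_s_1463_1469 c) (Atab_s_1469_1475 c) (Nat.ble 1469 c)
noncomputable def Atab_s_1476_1478 (c : Nat) : Nat := @Bool.rec (fun _ => Nat) (Atab_1476) (Atab_1477) (Nat.ble 1477 c)
noncomputable def Atab_s_1475_1478 (c : Nat) : Nat := @Bool.rec (fun _ => Nat) (Atab_1475) (Atab_s_1476_1478 c) (Nat.ble 1476 c)
noncomputable def Atab_s_1479_1481 (c : Nat) : Nat := @Bool.rec (fun _ => Nat) (Atab_1479) (Atab_1480) (Nat.ble 1480 c)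
noncomputable def Atab_s_1478_1481 (c : Nat) : Nat := @Bool.rec (fun _ => Nat) (Atab_1478) (Atab_s_1479_1481 c) (Nat.ble 1479 c)
noncomputable def Atab_s_1475_1481 (c : Nat) : Nat := @Bool.rec (fun _ => Nat) (Atab_s_1475_1478 c) (Atab_s_1478_1481 c) (Nat.ble 1478 c)
noncomputable def Atab_s_1482_1484 (c : Nat) : Nat := @Bool.rec (fun _ => Nat) (Atab_1482) (Atab_1483) (Nat.ble 1483 c)
noncomputable def Atab_s_1481_1484 (c : Nat) : Nat := @Bool.rec (fun _ => Nat) (Atab_1481) (Atab_s_1482_1484 c) (Nat.ble 1482 c)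
noncomputable def Atab_s_1484_1486 (c : Nat) : Nat := @Bool.rec (fun _ => Nat) (Atab_1484) (Atab_1485) (Nat.ble 1485 c)
noncomputable def Atab_s_1486_1488 (c : Nat) : Nat := @Bool.rec (fun _ => Nat) (Atab_1486) (Atab_1487) (Nat.ble 1487 c)
noncomputable def Atab_s_1484_1488 (c : Nat) : Nat := @Bool.rec (fun _ => Nat) (Atab_s_1484_1486 c) (Atab_s_1486_1488 c) (Nat.ble 1486 c)
noncomputable def Atab_s_1481_1488 (c : Nat) : Nat := @Bool.rec (fun _ => Nat) (Atab_s_1481_1484 c) (Atab_s_1484_1488 c) (Nat.ble 1484 c)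
noncomputable def Atab_s_1475_1488 (c : Nat) : Nat := @Bool.rec (fun _ => Nat) (Atab_s_1475_1481 c) (Atab_s_1481_1488 c) (Nat.ble 1481 c)
noncomputable def Atab_s_1463_1488 (c : Nat) : Nat := @Bool.rec (fun _ => Nat) (Atab_s_1463_1475 c) (Atab_s_1475_1488 c) (Nat.ble 1475 c)
noncomputable def Atab_s_1438_1488 (c : Nat) : Nat := @Bool.rec (fun _ => Nat) (Atab_s_1438_1463 c) (Atab_s_1463_1488 c) (Nat.ble 1463 c)
noncomputable def Atab_s_1389_1488 (c : Nat) : Nat := @Bool.rec (fun _ => Nat) (Atab_s_1389_1438 c) (Atab_s_1438_1488 c) (Nat.ble 1438 c)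
noncomputable def Atab_s_1489_1491 (c : Nat) : Nat := @Bool.rec (fun _ => Nat) (Atab_1489) (Atab_1490) (Nat.ble 1490 c)
noncomputable def Atab_s_1488_1491 (c : Nat) : Nat := @Bool.rec (fun _ => Nat) (Atab_1488) (Atab_s_1489_1491 c) (Nat.ble 1489 c)
noncomputable def Atab_s_1492_1494 (c : Nat) : Nat := @Bool.rec (fun _ => Nat) (Atab_1492) (Atab_1493) (Nat.ble 1493 c)
noncomputable def Atab_s_1491_1494 (c : Nat) : Nat := @Bool.rec (fun _ => Nat) (Atab_1491) (Atab_s_1492_1494 c) (Nat.ble 1492 c)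
noncomputable def Atab_s_1488_1494 (c : Nat) : Nat := @Bool.rec (fun _ => Nat) (Atab_s_1488_1491 c) (Atab_s_1491_1494 c) (Nat.ble 1491 c)
noncomputable def Atab_s_1495_1497 (c : Nat) : Nat := @Bool.rec (fun _ => Nat) (Atab_1495) (Atab_1496) (Nat.ble 1496 c)
noncomputable def Atab_s_1494_1497 (c : Nat) : Nat := @Bool.rec (fun _ => Nat) (Atab_1494) (Atab_s_1495_1497 c) (Nat.ble 1495 c)
noncomputable def Atab_s_1498_1500 (c : Nat) : Nat := @Bool.rec (fun _ => Nat) (Atab_1498) (Atab_1499) (Nat.ble 1499 c)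
noncomputable def Atab_s_1497_1500 (c : Nat) : Nat := @Bool.rec (fun _ => Nat) (Atab_1497) (Atab_s_1498_1500 c) (Nat.ble 1498 c)
noncomputable def Atab_s_1494_1500 (c : Nat) : Nat := @Bool.rec (fun _ => Nat) (Atab_s_1494_1497 c) (Atab_s_1497_1500 c) (Nat.ble 1497 c)
noncomputable def Atab_s_1488_1500 (c : Nat) : Nat := @Bool.rec (fun _ => Nat) (Atab_s_1488_1494 c) (Atab_s_1494_1500 c) (Nat.ble 1494 c)
noncomputable def Atab_s_1501_1503 (c : Nat) : Nat := @Bool.rec (fun _ => Nat) (Atab_1501) (Atab_1502) (Nat.ble 1502 c)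
noncomputable def Atab_s_1500_1503 (c : Nat) : Nat := @Bool.rec (fun _ => Nat) (Atab_1500) (Atab_s_1501_1503 c) (Nat.ble 1501 c)
noncomputable def Atab_s_1504_1506 (c : Nat) : Nat := @Bool.rec (fun _ => Nat) (Atab_1504) (Atab_1505) (Nat.ble 1505 c)
noncomputable def Atab_s_1503_1506 (c : Nat) : Nat := @Bool.rec (fun _ => Nat) (Atab_1503) (Atab_s_1504_1506 c) (Nat.ble 1504 c)
noncomputable def Atab_s_1500_1506 (c : Nat) : Nat := @Bool.rec (fun _ => Nat) (Atab_s_1500_1503 c) (Atab_s_1503_1506 c) (Nat.ble 1503 c)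
noncomputable def Atab_s_1507_1509 (c : Nat) : Nat := @Bool.rec (fun _ => Nat) (Atab_1507) (Atab_1508) (Nat.ble 1508 c)
noncomputable def Atab_s_1506_1509 (c : Nat) : Nat := @Bool.rec (fun _ => Nat) (Atab_1506) (Atab_s_1507_1509 c) (Nat.ble 1507 c)
noncomputable def Atab_s_1509_1511 (c : Nat) : Nat := @Bool.rec (fun _ => Nat) (Atab_1509) (Atab_1510) (Nat.ble 1510 c)
noncomputable def Atab_s_1511_1513 (c : Nat) : Nat := @Bool.rec (fun _ => Nat) (Atab_1511) (Atab_1512) (Nat.ble 1512 c)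
noncomputable def Atab_s_1509_1513 (c : Nat) : Nat := @Bool.rec (fun _ => Nat) (Atab_s_1509_1511 c) (Atab_s_1511_1513 c) (Nat.ble 1511 c)
noncomputable def Atab_s_1506_1513 (c : Nat) : Nat := @Bool.rec (fun _ => Nat) (Atab_s_1506_1509 c) (Atab_s_1509_1513 c) (Nat.ble 1509 c)
noncomputable def Atab_s_1500_1513 (c : Nat) : Nat := @Bool.rec (fun _ => Nat) (Atab_s_1500_1506 c) (Atab_s_1506_1513 c) (Nat.ble 1506 c)
noncomputable def Atab_s_1488_1513 (c : Nat) : Nat := @Bool.rec (fun _ => Nat) (Atab_s_1488_1500 c) (Atab_s_1500_1513 c) (Nat.ble 1500 c)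
noncomputable def Atab_s_1514_1516 (c : Nat) : Nat := @Bool.rec (fun _ => Nat) (Atab_1514) (Atab_1515) (Nat.ble 1515 c)
noncomputable def Atab_s_1513_1516 (c : Nat) : Nat := @Bool.rec (fun _ => Nat) (Atab_1513) (Atab_s_1514_1516 c) (Nat.ble 1514 c)
noncomputable def Atab_s_1517_1519 (c : Nat) : Nat := @Bool.rec (fun _ => Nat) (Atab_1517) (Atab_1518) (Nat.ble 1518 c)
noncomputable def Atab_s_1516_1519 (c : Nat) : Nat := @Bool.rec (fun _ => Nat) (Atab_1516) (Atab_s_1517_1519 c) (Nat.ble 1517 c)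
noncomputable def Atab_s_1513_1519 (c : Nat) : Nat := @Bool.rec (fun _ => Nat) (Atab_s_1513_1516 c) (Atab_s_1516_1519 c) (Nat.ble 1516 c)
noncomputable def Atab_s_1520_1522 (c : Nat) : Nat := @Bool.rec (fun _ => Nat) (Atab_1520) (Atab_1521) (Nat.ble 1521 c)
noncomputable def Atab_s_1519_1522 (c : Nat) : Nat := @Bool.rec (fun _ => Nat) (Atab_1519) (Atab_s_1520_1522 c) (Nat.ble 1520 c)
noncomputable def Atab_s_1523_1525 (c : Nat) : Nat := @Bool.rec (fun _ => Nat) (Atab_1523) (Atab_1524) (Nat.ble 1524 c)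
noncomputable def Atab_s_1522_1525 (c : Nat) : Nat := @Bool.rec (fun _ => Nat) (Atab_1522) (Atab_s_1523_1525 c) (Nat.ble 1523 c)
noncomputable def Atab_s_1519_1525 (c : Nat) : Nat := @Bool.rec (fun _ => Nat) (Atab_s_1519_1522 c) (Atab_s_1522_1525 c) (Nat.ble 1522 c)
noncomputable def Atab_s_1513_1525 (c : Nat) : Nat := @Bool.rec (fun _ => Nat) (Atab_s_1513_1519 c) (Atab_s_1519_1525 c) (Nat.ble 1519 c)
noncomputable def Atab_s_1526_1528 (c : Nat) : Nat := @Bool.rec (fun _ => Nat) (Atab_1526) (Atab_1527) (Nat.ble 1527 c)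
noncomputable def Atab_s_1525_1528 (c : Nat) : Nat := @Bool.rec (fun _ => Nat) (Atab_1525) (Atab_s_1526_1528 c) (Nat.ble 1526 c)
noncomputable def Atab_s_1529_1531 (c : Nat) : Nat := @Bool.rec (fun _ => Nat) (Atab_1529) (Atab_1530) (Nat.ble 1530 c)
noncomputable def Atab_s_1528_1531 (c : Nat) : Nat := @Bool.rec (fun _ => Nat) (Atab_1528) (Atab_s_1529_1531 c) (Nat.ble 1529 c)
noncomputable def Atab_s_1525_1531 (c : Nat) : Nat := @Bool.rec (fun _ => Nat) (Atab_s_1525_1528 c) (Atab_s_1528_1531 c) (Nat.ble 1528 c)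
noncomputable def Atab_s_1532_1534 (c : Nat) : Nat := @Bool.rec (fun _ => Nat) (Atab_1532) (Atab_1533) (Nat.ble 1533 c)
noncomputable def Atab_s_1531_1534 (c : Nat) : Nat := @Bool.rec (fun _ => Nat) (Atab_1531) (Atab_s_1532_1534 c) (Nat.ble 1532 c)
noncomputable def Atab_s_1534_1536 (c : Nat) : Nat := @Bool.rec (fun _ => Nat) (Atab_1534) (Atab_1535) (Nat.ble 1535 c)
noncomputable def Atab_s_1536_1538 (c : Nat) : Nat := @Bool.rec (fun _ => Nat) (Atab_1536) (Atab_1537) (Nat.ble 1537 c)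
noncomputable def Atab_s_1534_1538 (c : Nat) : Nat := @Bool.rec (fun _ => Nat) (Atab_s_1534_1536 c) (Atab_s_1536_1538 c) (Nat.ble 1536 c)
noncomputable def Atab_s_1531_1538 (c : Nat) : Nat := @Bool.rec (fun _ => Nat) (Atab_s_1531_1534 c) (Atab_s_1534_1538 c) (Nat.ble 1534 c)
noncomputable def Atab_s_1525_1538 (c : Nat) : Nat := @Bool.rec (fun _ => Nat) (Atab_s_1525_1531 c) (Atab_s_1531_1538 c) (Nat.ble 1531 c)
noncomputable def Atab_s_1513_1538 (c : Nat) : Nat := @Bool.rec (fun _ => Nat) (Atab_s_1513_1525 c) (Atab_s_1525_1538 c) (Nat.ble 1525 c)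
noncomputable def Atab_s_1488_1538 (c : Nat) : Nat := @Bool.rec (fun _ => Nat) (Atab_s_1488_1513 c) (Atab_s_1513_1538 c) (Nat.ble 1513 c)
noncomputable def Atab_s_1539_1541 (c : Nat) : Nat := @Bool.rec (fun _ => Nat) (Atab_1539) (Atab_1540) (Nat.ble 1540 c)
noncomputable def Atab_s_1538_1541 (c : Nat) : Nat := @Bool.rec (fun _ => Nat) (Atab_1538) (Atab_s_1539_1541 c) (Nat.ble 1539 c)
noncomputable def Atab_s_1542_1544 (c : Nat) : Nat := @Bool.rec (fun _ => Nat) (Atab_1542) (Atab_1543) (Nat.ble 1543 c)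
noncomputable def Atab_s_1541_1544 (c : Nat) : Nat := @Bool.rec (fun _ => Nat) (Atab_1541) (Atab_s_1542_1544 c) (Nat.ble 1542 c)
noncomputable def Atab_s_1538_1544 (c : Nat) : Nat := @Bool.rec (fun _ => Nat) (Atab_s_1538_1541 c) (Atab_s_1541_1544 c) (Nat.ble 1541 c)
noncomputable def Atab_s_1545_1547 (c : Nat) : Nat := @Bool.rec (fun _ => Nat) (Atab_1545) (Atab_1546) (Nat.ble 1546 c)
noncomputable def Atab_s_1544_1547 (c : Nat) : Nat := @Bool.rec (fun _ => Nat) (Atab_1544) (Atab_s_1545_1547 c) (Nat.ble 1545 c)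
noncomputable def Atab_s_1548_1550 (c : Nat) : Nat := @Bool.rec (fun _ => Nat) (Atab_1548) (Atab_1549) (Nat.ble 1549 c)
noncomputable def Atab_s_1547_1550 (c : Nat) : Nat := @Bool.rec (fun _ => Nat) (Atab_1547) (Atab_s_1548_1550 c) (Nat.ble 1548 c)
noncomputable def Atab_s_1544_1550 (c : Nat) : Nat := @Bool.rec (fun _ => Nat) (Atab_s_1544_1547 c) (Atab_s_1547_1550 c) (Nat.ble 1547 c)
noncomputable def Atab_s_1538_1550 (c : Nat) : Nat := @Bool.rec (fun _ => Nat) (Atab_s_1538_1544 c) (Atab_s_1544_1550 c) (Nat.ble 1544 c)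
noncomputable def Atab_s_1551_1553 (c : Nat) : Nat := @Bool.rec (fun _ => Nat) (Atab_1551) (Atab_1552) (Nat.ble 1552 c)
noncomputable def Atab_s_1550_1553 (c : Nat) : Nat := @Bool.rec (fun _ => Nat) (Atab_1550) (Atab_s_1551_1553 c) (Nat.ble 1551 c)
noncomputable def Atab_s_1554_1556 (c : Nat) : Nat := @Bool.rec (fun _ => Nat) (Atab_1554) (Atab_1555) (Nat.ble 1555 c)
noncomputable def Atab_s_1553_1556 (c : Nat) : Nat := @Bool.rec (fun _ => Nat) (Atab_1553) (Atab_s_1554_1556 c) (Nat.ble 1554 c)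
noncomputable def Atab_s_1550_1556 (c : Nat) : Nat := @Bool.rec (fun _ => Nat) (Atab_s_1550_1553 c) (Atab_s_1553_1556 c) (Nat.ble 1553 c)
noncomputable def Atab_s_1557_1559 (c : Nat) : Nat := @Bool.rec (fun _ => Nat) (Atab_1557) (Atab_1558) (Nat.ble 1558 c)
noncomputable def Atab_s_1556_1559 (c : Nat) : Nat := @Bool.rec (fun _ => Nat) (Atab_1556) (Atab_s_1557_1559 c) (Nat.ble 1557 c)
noncomputable def Atab_s_1559_1561 (c : Nat) : Nat := @Bool.rec (fun _ => Nat) (Atab_1559) (Atab_1560) (Nat.ble 1560 c)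
noncomputable def Atab_s_1561_1563 (c : Nat) : Nat := @Bool.rec (fun _ => Nat) (Atab_1561) (Atab_1562) (Nat.ble 1562 c)
noncomputable def Atab_s_1559_1563 (c : Nat) : Nat := @Bool.rec (fun _ => Nat) (Atab_s_1559_1561 c) (Atab_s_1561_1563 c) (Nat.ble 1561 c)
noncomputable def Atab_s_1556_1563 (c : Nat) : Nat := @Bool.rec (fun _ => Nat) (Atab_s_1556_1559 c) (Atab_s_1559_1563 c) (Nat.ble 1559 c)
noncomputable def Atab_s_1550_1563 (c : Nat) : Nat := @Bool.rec (fun _ => Nat) (Atab_s_1550_1556 c) (Atab_s_1556_1563 c) (Nat.ble 1556 c)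
noncomputable def Atab_s_1538_1563 (c : Nat) : Nat := @Bool.rec (fun _ => Nat) (Atab_s_1538_1550 c) (Atab_s_1550_1563 c) (Nat.ble 1550 c)
noncomputable def Atab_s_1564_1566 (c : Nat) : Nat := @Bool.rec (fun _ => Nat) (Atab_1564) (Atab_1565) (Nat.ble 1565 c)
noncomputable def Atab_s_1563_1566 (c : Nat) : Nat := @Bool.rec (fun _ => Nat) (Atab_1563) (Atab_s_1564_1566 c) (Nat.ble 1564 c)
noncomputable def Atab_s_1567_1569 (c : Nat) : Nat := @Bool.rec (fun _ => Nat) (Atab_1567) (Atab_1568) (Nat.ble 1568 c)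
noncomputable def Atab_s_1566_1569 (c : Nat) : Nat := @Bool.rec (fun _ => Nat) (Atab_1566) (Atab_s_1567_1569 c) (Nat.ble 1567 c)
noncomputable def Atab_s_1563_1569 (c : Nat) : Nat := @Bool.rec (fun _ => Nat) (Atab_s_1563_1566 c) (Atab_s_1566_1569 c) (Nat.ble 1566 c)
noncomputable def Atab_s_1570_1572 (c : Nat) : Nat := @Bool.rec (fun _ => Nat) (Atab_1570) (Atab_1571) (Nat.ble 1571 c)
noncomputable def Atab_s_1569_1572 (c : Nat) : Nat := @Bool.rec (fun _ => Nat) (Atab_1569) (Atab_s_1570_1572 c) (Nat.ble 1570 c)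
noncomputable def Atab_s_1573_1575 (c : Nat) : Nat := @Bool.rec (fun _ => Nat) (Atab_1573) (Atab_1574) (Nat.ble 1574 c)
noncomputable def Atab_s_1572_1575 (c : Nat) : Nat := @Bool.rec (fun _ => Nat) (Atab_1572) (Atab_s_1573_1575 c) (Nat.ble 1573 c)
noncomputable def Atab_s_1569_1575 (c : Nat) : Nat := @Bool.rec (fun _ => Nat) (Atab_s_1569_1572 c) (Atab_s_1572_1575 c) (Nat.ble 1572 c)
noncomputable def Atab_s_1563_1575 (c : Nat) : Nat := @Bool.rec (fun _ => Nat) (Atab_s_1563_1569 c) (Atab_s_1569_1575 c) (Nat.ble 1569 c)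
noncomputable def Atab_s_1576_1578 (c : Nat) : Nat := @Bool.rec (fun _ => Nat) (Atab_1576) (Atab_1577) (Nat.ble 1577 c)
noncomputable def Atab_s_1575_1578 (c : Nat) : Nat := @Bool.rec (fun _ => Nat) (Atab_1575) (Atab_s_1576_1578 c) (Nat.ble 1576 c)
noncomputable def Atab_s_1579_1581 (c : Nat) : Nat := @Bool.rec (fun _ => Nat) (Atab_1579) (Atab_1580) (Nat.ble 1580 c)
noncomputable def Atab_s_1578_1581 (c : Nat) : Nat := @Bool.rec (fun _ => Nat) (Atab_1578) (Atab_s_1579_1581 c) (Nat.ble 1579 c)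
noncomputable def Atab_s_1575_1581 (c : Nat) : Nat := @Bool.rec (fun _ => Nat) (Atab_s_1575_1578 c) (Atab_s_1578_1581 c) (Nat.ble 1578 c)
noncomputable def Atab_s_1582_1584 (c : Nat) : Nat := @Bool.rec (fun _ => Nat) (Atab_1582) (Atab_1583) (Nat.ble 1583 c)
noncomputable def Atab_s_1581_1584 (c : Nat) : Nat := @Bool.rec (fun _ => Nat) (Atab_1581) (Atab_s_1582_1584 c) (Nat.ble 1582 c)
noncomputable def Atab_s_1584_1586 (c : Nat) : Nat := @Bool.rec (fun _ => Nat) (Atab_1584) (Atab_1585) (Nat.ble 1585 c)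
noncomputable def Atab_s_1586_1588 (c : Nat) : Nat := @Bool.rec (fun _ => Nat) (Atab_1586) (Atab_1587) (Nat.ble 1587 c)
noncomputable def Atab_s_1584_1588 (c : Nat) : Nat := @Bool.rec (fun _ => Nat) (Atab_s_1584_1586 c) (Atab_s_1586_1588 c) (Nat.ble 1586 c)
noncomputable def Atab_s_1581_1588 (c : Nat) : Nat := @Bool.rec (fun _ => Nat) (Atab_s_1581_1584 c) (Atab_s_1584_1588 c) (Nat.ble 1584 c)
noncomputable def Atab_s_1575_1588 (c : Nat) : Nat := @Bool.rec (fun _ => Nat) (Atab_s_1575_1581 c) (Atab_s_1581_1588 c) (Nat.ble 1581 c)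
noncomputable def Atab_s_1563_1588 (c : Nat) : Nat := @Bool.rec (fun _ => Nat) (Atab_s_1563_1575 c) (Atab_s_1575_1588 c) (Nat.ble 1575 c)
noncomputable def Atab_s_1538_1588 (c : Nat) : Nat := @Bool.rec (fun _ => Nat) (Atab_s_1538_1563 c) (Atab_s_1563_1588 c) (Nat.ble 1563 c)
noncomputable def Atab_s_1488_1588 (c : Nat) : Nat := @Bool.rec (fun _ => Nat) (Atab_s_1488_1538 c) (Atab_s_1538_1588 c) (Nat.ble 1538 c)
noncomputable def Atab_s_1389_1588 (c : Nat) : Nat := @Bool.rec (fun _ => Nat) (Atab_s_1389_1488 c) (Atab_s_1488_1588 c) (Nat.ble 1488 c)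
noncomputable def Atab_s_1191_1588 (c : Nat) : Nat := @Bool.rec (fun _ => Nat) (Atab_s_1191_1389 c) (Atab_s_1389_1588 c) (Nat.ble 1389 c)
noncomputable def Atab_s_794_1588 (c : Nat) : Nat := @Bool.rec (fun _ => Nat) (Atab_s_794_1191 c) (Atab_s_1191_1588 c) (Nat.ble 1191 c)
noncomputable def Atab_s_0_1588 (c : Nat) : Nat := @Bool.rec (fun _ => Nat) (Atab_s_0_794 c) (Atab_s_794_1588 c) (Nat.ble 794 c)
noncomputable def Atab_s_1589_1591 (c : Nat) : Nat := @Bool.rec (fun _ => Nat) (Atab_1589) (Atab_1590) (Nat.ble 1590 c)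
noncomputable def Atab_s_1588_1591 (c : Nat) : Nat := @Bool.rec (fun _ => Nat) (Atab_1588) (Atab_s_1589_1591 c) (Nat.ble 1589 c)
noncomputable def Atab_s_1592_1594 (c : Nat) : Nat := @Bool.rec (fun _ => Nat) (Atab_1592) (Atab_1593) (Nat.ble 1593 c)
noncomputable def Atab_s_1591_1594 (c : Nat) : Nat := @Bool.rec (fun _ => Nat) (Atab_1591) (Atab_s_1592_1594 c) (Nat.ble 1592 c)
noncomputable def Atab_s_1588_1594 (c : Nat) : Nat := @Bool.rec (fun _ => Nat) (Atab_s_1588_1591 c) (Atab_s_1591_1594 c) (Nat.ble 1591 c)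
noncomputable def Atab_s_1595_1597 (c : Nat) : Nat := @Bool.rec (fun _ => Nat) (Atab_1595) (Atab_1596) (Nat.ble 1596 c)
noncomputable def Atab_s_1594_1597 (c : Nat) : Nat := @Bool.rec (fun _ => Nat) (Atab_1594) (Atab_s_1595_1597 c) (Nat.ble 1595 c)
noncomputable def Atab_s_1598_1600 (c : Nat) : Nat := @Bool.rec (fun _ => Nat) (Atab_1598) (Atab_1599) (Nat.ble 1599 c)
noncomputable def Atab_s_1597_1600 (c : Nat) : Nat := @Bool.rec (fun _ => Nat) (Atab_1597) (Atab_s_1598_1600 c) (Nat.ble 1598 c)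
noncomputable def Atab_s_1594_1600 (c : Nat) : Nat := @Bool.rec (fun _ => Nat) (Atab_s_1594_1597 c) (Atab_s_1597_1600 c) (Nat.ble 1597 c)
noncomputable def Atab_s_1588_1600 (c : Nat) : Nat := @Bool.rec (fun _ => Nat) (Atab_s_1588_1594 c) (Atab_s_1594_1600 c) (Nat.ble 1594 c)
noncomputable def Atab_s_1601_1603 (c : Nat) : Nat := @Bool.rec (fun _ => Nat) (Atab_1601) (Atab_1602) (Nat.ble 1602 c)
noncomputable def Atab_s_1600_1603 (c : Nat) : Nat := @Bool.rec (fun _ => Nat) (Atab_1600) (Atab_s_1601_1603 c) (Nat.ble 1601 c)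
noncomputable def Atab_s_1604_1606 (c : Nat) : Nat := @Bool.rec (fun _ => Nat) (Atab_1604) (Atab_1605) (Nat.ble 1605 c)
noncomputable def Atab_s_1603_1606 (c : Nat) : Nat := @Bool.rec (fun _ => Nat) (Atab_1603) (Atab_s_1604_1606 c) (Nat.ble 1604 c)
noncomputable def Atab_s_1600_1606 (c : Nat) : Nat := @Bool.rec (fun _ => Nat) (Atab_s_1600_1603 c) (Atab_s_1603_1606 c) (Nat.ble 1603 c)
noncomputable def Atab_s_1607_1609 (c : Nat) : Nat := @Bool.rec (fun _ => Nat) (Atab_1607) (Atab_1608) (Nat.ble 1608 c)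
noncomputable def Atab_s_1606_1609 (c : Nat) : Nat := @Bool.rec (fun _ => Nat) (Atab_1606) (Atab_s_1607_1609 c) (Nat.ble 1607 c)
noncomputable def Atab_s_1610_1612 (c : Nat) : Nat := @Bool.rec (fun _ => Nat) (Atab_1610) (Atab_1611) (Nat.ble 1611 c)
noncomputable def Atab_s_1609_1612 (c : Nat) : Nat := @Bool.rec (fun _ => Nat) (Atab_1609) (Atab_s_1610_1612 c) (Nat.ble 1610 c)
noncomputable def Atab_s_1606_1612 (c : Nat) : Nat := @Bool.rec (fun _ => Nat) (Atab_s_1606_1609 c) (Atab_s_1609_1612 c) (Nat.ble 1609 c)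
noncomputable def Atab_s_1600_1612 (c : Nat) : Nat := @Bool.rec (fun _ => Nat) (Atab_s_1600_1606 c) (Atab_s_1606_1612 c) (Nat.ble 1606 c)
noncomputable def Atab_s_1588_1612 (c : Nat) : Nat := @Bool.rec (fun _ => Nat) (Atab_s_1588_1600 c) (Atab_s_1600_1612 c) (Nat.ble 1600 c)
noncomputable def Atab_s_1613_1615 (c : Nat) : Nat := @Bool.rec (fun _ => Nat) (Atab_1613) (Atab_1614) (Nat.ble 1614 c)
noncomputable def Atab_s_1612_1615 (c : Nat) : Nat := @Bool.rec (fun _ => Nat) (Atab_1612) (Atab_s_1613_1615 c) (Nat.ble 1613 c)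
noncomputable def Atab_s_1616_1618 (c : Nat) : Nat := @Bool.rec (fun _ => Nat) (Atab_1616) (Atab_1617) (Nat.ble 1617 c)
noncomputable def Atab_s_1615_1618 (c : Nat) : Nat := @Bool.rec (fun _ => Nat) (Atab_1615) (Atab_s_1616_1618 c) (Nat.ble 1616 c)
noncomputable def Atab_s_1612_1618 (c : Nat) : Nat := @Bool.rec (fun _ => Nat) (Atab_s_1612_1615 c) (Atab_s_1615_1618 c) (Nat.ble 1615 c)
noncomputable def Atab_s_1619_1621 (c : Nat) : Nat := @Bool.rec (fun _ => Nat) (Atab_1619) (Atab_1620) (Nat.ble 1620 c)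
noncomputable def Atab_s_1618_1621 (c : Nat) : Nat := @Bool.rec (fun _ => Nat) (Atab_1618) (Atab_s_1619_1621 c) (Nat.ble 1619 c)
noncomputable def Atab_s_1622_1624 (c : Nat) : Nat := @Bool.rec (fun _ => Nat) (Atab_1622) (Atab_1623) (Nat.ble 1623 c)
noncomputable def Atab_s_1621_1624 (c : Nat) : Nat := @Bool.rec (fun _ => Nat) (Atab_1621) (Atab_s_1622_1624 c) (Nat.ble 1622 c)
noncomputable def Atab_s_1618_1624 (c : Nat) : Nat := @Bool.rec (fun _ => Nat) (Atab_s_1618_1621 c) (Atab_s_1621_1624 c) (Nat.ble 1621 c)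
noncomputable def Atab_s_1612_1624 (c : Nat) : Nat := @Bool.rec (fun _ => Nat) (Atab_s_1612_1618 c) (Atab_s_1618_1624 c) (Nat.ble 1618 c)
noncomputable def Atab_s_1625_1627 (c : Nat) : Nat := @Bool.rec (fun _ => Nat) (Atab_1625) (Atab_1626) (Nat.ble 1626 c)
noncomputable def Atab_s_1624_1627 (c : Nat) : Nat := @Bool.rec (fun _ => Nat) (Atab_1624) (Atab_s_1625_1627 c) (Nat.ble 1625 c)
noncomputable def Atab_s_1628_1630 (c : Nat) : Nat := @Bool.rec (fun _ => Nat) (Atab_1628) (Atab_1629) (Nat.ble 1629 c)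
noncomputable def Atab_s_1627_1630 (c : Nat) : Nat := @Bool.rec (fun _ => Nat) (Atab_1627) (Atab_s_1628_1630 c) (Nat.ble 1628 c)
noncomputable def Atab_s_1624_1630 (c : Nat) : Nat := @Bool.rec (fun _ => Nat) (Atab_s_1624_1627 c) (Atab_s_1627_1630 c) (Nat.ble 1627 c)
noncomputable def Atab_s_1631_1633 (c : Nat) : Nat := @Bool.rec (fun _ => Nat) (Atab_1631) (Atab_1632) (Nat.ble 1632 c)
noncomputable def Atab_s_1630_1633 (c : Nat) : Nat := @Bool.rec (fun _ => Nat) (Atab_1630) (Atab_s_1631_1633 c) (Nat.ble 1631 c)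
noncomputable def Atab_s_1633_1635 (c : Nat) : Nat := @Bool.rec (fun _ => Nat) (Atab_1633) (Atab_1634) (Nat.ble 1634 c)
noncomputable def Atab_s_1635_1637 (c : Nat) : Nat := @Bool.rec (fun _ => Nat) (Atab_1635) (Atab_1636) (Nat.ble 1636 c)
noncomputable def Atab_s_1633_1637 (c : Nat) : Nat := @Bool.rec (fun _ => Nat) (Atab_s_1633_1635 c) (Atab_s_1635_1637 c) (Nat.ble 1635 c)
noncomputable def Atab_s_1630_1637 (c : Nat) : Nat := @Bool.rec (fun _ => Nat) (Atab_s_1630_1633 c) (Atab_s_1633_1637 c) (Nat.ble 1633 c)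
noncomputable def Atab_s_1624_1637 (c : Nat) : Nat := @Bool.rec (fun _ => Nat) (Atab_s_1624_1630 c) (Atab_s_1630_1637 c) (Nat.ble 1630 c)
noncomputable def Atab_s_1612_1637 (c : Nat) : Nat := @Bool.rec (fun _ => Nat) (Atab_s_1612_1624 c) (Atab_s_1624_1637 c) (Nat.ble 1624 c)
noncomputable def Atab_s_1588_1637 (c : Nat) : Nat := @Bool.rec (fun _ => Nat) (Atab_s_1588_1612 c) (Atab_s_1612_1637 c) (Nat.ble 1612 c)
noncomputable def Atab_s_1638_1640 (c : Nat) : Nat := @Bool.rec (fun _ => Nat) (Atab_1638) (Atab_1639) (Nat.ble 1639 c)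
noncomputable def Atab_s_1637_1640 (c : Nat) : Nat := @Bool.rec (fun _ => Nat) (Atab_1637) (Atab_s_1638_1640 c) (Nat.ble 1638 c)
noncomputable def Atab_s_1641_1643 (c : Nat) : Nat := @Bool.rec (fun _ => Nat) (Atab_1641) (Atab_1642) (Nat.ble 1642 c)
noncomputable def Atab_s_1640_1643 (c : Nat) : Nat := @Bool.rec (fun _ => Nat) (Atab_1640) (Atab_s_1641_1643 c) (Nat.ble 1641 c)
noncomputable def Atab_s_1637_1643 (c : Nat) : Nat := @Bool.rec (fun _ => Nat) (Atab_s_1637_1640 c) (Atab_s_1640_1643 c) (Nat.ble 1640 c)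
noncomputable def Atab_s_1644_1646 (c : Nat) : Nat := @Bool.rec (fun _ => Nat) (Atab_1644) (Atab_1645) (Nat.ble 1645 c)
noncomputable def Atab_s_1643_1646 (c : Nat) : Nat := @Bool.rec (fun _ => Nat) (Atab_1643) (Atab_s_1644_1646 c) (Nat.ble 1644 c)
noncomputable def Atab_s_1647_1649 (c : Nat) : Nat := @Bool.rec (fun _ => Nat) (Atab_1647) (Atab_1648) (Nat.ble 1648 c)
noncomputable def Atab_s_1646_1649 (c : Nat) : Nat := @Bool.rec (fun _ => Nat) (Atab_1646) (Atab_s_1647_1649 c) (Nat.ble 1647 c)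
noncomputable def Atab_s_1643_1649 (c : Nat) : Nat := @Bool.rec (fun _ => Nat) (Atab_s_1643_1646 c) (Atab_s_1646_1649 c) (Nat.ble 1646 c)
noncomputable def Atab_s_1637_1649 (c : Nat) : Nat := @Bool.rec (fun _ => Nat) (Atab_s_1637_1643 c) (Atab_s_1643_1649 c) (Nat.ble 1643 c)
noncomputable def Atab_s_1650_1652 (c : Nat) : Nat := @Bool.rec (fun _ => Nat) (Atab_1650) (Atab_1651) (Nat.ble 1651 c)
noncomputable def Atab_s_1649_1652 (c : Nat) : Nat := @Bool.rec (fun _ => Nat) (Atab_1649) (Atab_s_1650_1652 c) (Nat.ble 1650 c)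
noncomputable def Atab_s_1653_1655 (c : Nat) : Nat := @Bool.rec (fun _ => Nat) (Atab_1653) (Atab_1654) (Nat.ble 1654 c)
noncomputable def Atab_s_1652_1655 (c : Nat) : Nat := @Bool.rec (fun _ => Nat) (Atab_1652) (Atab_s_1653_1655 c) (Nat.ble 1653 c)
noncomputable def Atab_s_1649_1655 (c : Nat) : Nat := @Bool.rec (fun _ => Nat) (Atab_s_1649_1652 c) (Atab_s_1652_1655 c) (Nat.ble 1652 c)
noncomputable def Atab_s_1656_1658 (c : Nat) : Nat := @Bool.rec (fun _ => Nat) (Atab_1656) (Atab_1657) (Nat.ble 1657 c)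
noncomputable def Atab_s_1655_1658 (c : Nat) : Nat := @Bool.rec (fun _ => Nat) (Atab_1655) (Atab_s_1656_1658 c) (Nat.ble 1656 c)
noncomputable def Atab_s_1658_1660 (c : Nat) : Nat := @Bool.rec (fun _ => Nat) (Atab_1658) (Atab_1659) (Nat.ble 1659 c)
noncomputable def Atab_s_1660_1662 (c : Nat) : Nat := @Bool.rec (fun _ => Nat) (Atab_1660) (Atab_1661) (Nat.ble 1661 c)
noncomputable def Atab_s_1658_1662 (c : Nat) : Nat := @Bool.rec (fun _ => Nat) (Atab_s_1658_1660 c) (Atab_s_1660_1662 c) (Nat.ble 1660 c)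
noncomputable def Atab_s_1655_1662 (c : Nat) : Nat := @Bool.rec (fun _ => Nat) (Atab_s_1655_1658 c) (Atab_s_1658_1662 c) (Nat.ble 1658 c)
noncomputable def Atab_s_1649_1662 (c : Nat) : Nat := @Bool.rec (fun _ => Nat) (Atab_s_1649_1655 c) (Atab_s_1655_1662 c) (Nat.ble 1655 c)
noncomputable def Atab_s_1637_1662 (c : Nat) : Nat := @Bool.rec (fun _ => Nat) (Atab_s_1637_1649 c) (Atab_s_1649_1662 c) (Nat.ble 1649 c)
noncomputable def Atab_s_1663_1665 (c : Nat) : Nat := @Bool.rec (fun _ => Nat) (Atab_1663) (Atab_1664) (Nat.ble 1664 c)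
noncomputable def Atab_s_1662_1665 (c : Nat) : Nat := @Bool.rec (fun _ => Nat) (Atab_1662) (Atab_s_1663_1665 c) (Nat.ble 1663 c)
noncomputable def Atab_s_1666_1668 (c : Nat) : Nat := @Bool.rec (fun _ => Nat) (Atab_1666) (Atab_1667) (Nat.ble 1667 c)
noncomputable def Atab_s_1665_1668 (c : Nat) : Nat := @Bool.rec (fun _ => Nat) (Atab_1665) (Atab_s_1666_1668 c) (Nat.ble 1666 c)
noncomputable def Atab_s_1662_1668 (c : Nat) : Nat := @Bool.rec (fun _ => Nat) (Atab_s_1662_1665 c) (Atab_s_1665_1668 c) (Nat.ble 1665 c)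
noncomputable def Atab_s_1669_1671 (c : Nat) : Nat := @Bool.rec (fun _ => Nat) (Atab_1669) (Atab_1670) (Nat.ble 1670 c)
noncomputable def Atab_s_1668_1671 (c : Nat) : Nat := @Bool.rec (fun _ => Nat) (Atab_1668) (Atab_s_1669_1671 c) (Nat.ble 1669 c)
noncomputable def Atab_s_1672_1674 (c : Nat) : Nat := @Bool.rec (fun _ => Nat) (Atab_1672) (Atab_1673) (Nat.ble 1673 c)
noncomputable def Atab_s_1671_1674 (c : Nat) : Nat := @Bool.rec (fun _ => Nat) (Atab_1671) (Atab_s_1672_1674 c) (Nat.ble 1672 c)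
noncomputable def Atab_s_1668_1674 (c : Nat) : Nat := @Bool.rec (fun _ => Nat) (Atab_s_1668_1671 c) (Atab_s_1671_1674 c) (Nat.ble 1671 c)
noncomputable def Atab_s_1662_1674 (c : Nat) : Nat := @Bool.rec (fun _ => Nat) (Atab_s_1662_1668 c) (Atab_s_1668_1674 c) (Nat.ble 1668 c)
noncomputable def Atab_s_1675_1677 (c : Nat) : Nat := @Bool.rec (fun _ => Nat) (Atab_1675) (Atab_1676) (Nat.ble 1676 c)
noncomputable def Atab_s_1674_1677 (c : Nat) : Nat := @Bool.rec (fun _ => Nat) (Atab_1674) (Atab_s_1675_1677 c) (Nat.ble 1675 c)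
noncomputable def Atab_s_1678_1680 (c : Nat) : Nat := @Bool.rec (fun _ => Nat) (Atab_1678) (Atab_1679) (Nat.ble 1679 c)
noncomputable def Atab_s_1677_1680 (c : Nat) : Nat := @Bool.rec (fun _ => Nat) (Atab_1677) (Atab_s_1678_1680 c) (Nat.ble 1678 c)
noncomputable def Atab_s_1674_1680 (c : Nat) : Nat := @Bool.rec (fun _ => Nat) (Atab_s_1674_1677 c) (Atab_s_1677_1680 c) (Nat.ble 1677 c)
noncomputable def Atab_s_1681_1683 (c : Nat) : Nat := @Bool.rec (fun _ => Nat) (Atab_1681) (Atab_1682) (Nat.ble 1682 c)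
noncomputable def Atab_s_1680_1683 (c : Nat) : Nat := @Bool.rec (fun _ => Nat) (Atab_1680) (Atab_s_1681_1683 c) (Nat.ble 1681 c)
noncomputable def Atab_s_1683_1685 (c : Nat) : Nat := @Bool.rec (fun _ => Nat) (Atab_1683) (Atab_1684) (Nat.ble 1684 c)
noncomputable def Atab_s_1685_1687 (c : Nat) : Nat := @Bool.rec (fun _ => Nat) (Atab_1685) (Atab_1686) (Nat.ble 1686 c)
noncomputable def Atab_s_1683_1687 (c : Nat) : Nat := @Bool.rec (fun _ => Nat) (Atab_s_1683_1685 c) (Atab_s_1685_1687 c) (Nat.ble 1685 c)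
noncomputable def Atab_s_1680_1687 (c : Nat) : Nat := @Bool.rec (fun _ => Nat) (Atab_s_1680_1683 c) (Atab_s_1683_1687 c) (Nat.ble 1683 c)
noncomputable def Atab_s_1674_1687 (c : Nat) : Nat := @Bool.rec (fun _ => Nat) (Atab_s_1674_1680 c) (Atab_s_1680_1687 c) (Nat.ble 1680 c)
noncomputable def Atab_s_1662_1687 (c : Nat) : Nat := @Bool.rec (fun _ => Nat) (Atab_s_1662_1674 c) (Atab_s_1674_1687 c) (Nat.ble 1674 c)
noncomputable def Atab_s_1637_1687 (c : Nat) : Nat := @Bool.rec (fun _ => Nat) (Atab_s_1637_1662 c) (Atab_s_1662_1687 c) (Nat.ble 1662 c)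
noncomputable def Atab_s_1588_1687 (c : Nat) : Nat := @Bool.rec (fun _ => Nat) (Atab_s_1588_1637 c) (Atab_s_1637_1687 c) (Nat.ble 1637 c)
noncomputable def Atab_s_1688_1690 (c : Nat) : Nat := @Bool.rec (fun _ => Nat) (Atab_1688) (Atab_1689) (Nat.ble 1689 c)
noncomputable def Atab_s_1687_1690 (c : Nat) : Nat := @Bool.rec (fun _ => Nat) (Atab_1687) (Atab_s_1688_1690 c) (Nat.ble 1688 c)
noncomputable def Atab_s_1691_1693 (c : Nat) : Nat := @Bool.rec (fun _ => Nat) (Atab_1691) (Atab_1692) (Nat.ble 1692 c)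
noncomputable def Atab_s_1690_1693 (c : Nat) : Nat := @Bool.rec (fun _ => Nat) (Atab_1690) (Atab_s_1691_1693 c) (Nat.ble 1691 c)
noncomputable def Atab_s_1687_1693 (c : Nat) : Nat := @Bool.rec (fun _ => Nat) (Atab_s_1687_1690 c) (Atab_s_1690_1693 c) (Nat.ble 1690 c)
noncomputable def Atab_s_1694_1696 (c : Nat) : Nat := @Bool.rec (fun _ => Nat) (Atab_1694) (Atab_1695) (Nat.ble 1695 c)
noncomputable def Atab_s_1693_1696 (c : Nat) : Nat := @Bool.rec (fun _ => Nat) (Atab_1693) (Atab_s_1694_1696 c) (Nat.ble 1694 c)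
noncomputable def Atab_s_1697_1699 (c : Nat) : Nat := @Bool.rec (fun _ => Nat) (Atab_1697) (Atab_1698) (Nat.ble 1698 c)
noncomputable def Atab_s_1696_1699 (c : Nat) : Nat := @Bool.rec (fun _ => Nat) (Atab_1696) (Atab_s_1697_1699 c) (Nat.ble 1697 c)
noncomputable def Atab_s_1693_1699 (c : Nat) : Nat := @Bool.rec (fun _ => Nat) (Atab_s_1693_1696 c) (Atab_s_1696_1699 c) (Nat.ble 1696 c)
noncomputable def Atab_s_1687_1699 (c : Nat) : Nat := @Bool.rec (fun _ => Nat) (Atab_s_1687_1693 c) (Atab_s_1693_1699 c) (Nat.ble 1693 c)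
noncomputable def Atab_s_1700_1702 (c : Nat) : Nat := @Bool.rec (fun _ => Nat) (Atab_1700) (Atab_1701) (Nat.ble 1701 c)
noncomputable def Atab_s_1699_1702 (c : Nat) : Nat := @Bool.rec (fun _ => Nat) (Atab_1699) (Atab_s_1700_1702 c) (Nat.ble 1700 c)
noncomputable def Atab_s_1703_1705 (c : Nat) : Nat := @Bool.rec (fun _ => Nat) (Atab_1703) (Atab_1704) (Nat.ble 1704 c)
noncomputable def Atab_s_1702_1705 (c : Nat) : Nat := @Bool.rec (fun _ => Nat) (Atab_1702) (Atab_s_1703_1705 c) (Nat.ble 1703 c)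
noncomputable def Atab_s_1699_1705 (c : Nat) : Nat := @Bool.rec (fun _ => Nat) (Atab_s_1699_1702 c) (Atab_s_1702_1705 c) (Nat.ble 1702 c)
noncomputable def Atab_s_1706_1708 (c : Nat) : Nat := @Bool.rec (fun _ => Nat) (Atab_1706) (Atab_1707) (Nat.ble 1707 c)
noncomputable def Atab_s_1705_1708 (c : Nat) : Nat := @Bool.rec (fun _ => Nat) (Atab_1705) (Atab_s_1706_1708 c) (Nat.ble 1706 c)
noncomputable def Atab_s_1709_1711 (c : Nat) : Nat := @Bool.rec (fun _ => Nat) (Atab_1709) (Atab_1710) (Nat.ble 1710 c)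
noncomputable def Atab_s_1708_1711 (c : Nat) : Nat := @Bool.rec (fun _ => Nat) (Atab_1708) (Atab_s_1709_1711 c) (Nat.ble 1709 c)
noncomputable def Atab_s_1705_1711 (c : Nat) : Nat := @Bool.rec (fun _ => Nat) (Atab_s_1705_1708 c) (Atab_s_1708_1711 c) (Nat.ble 1708 c)
noncomputable def Atab_s_1699_1711 (c : Nat) : Nat := @Bool.rec (fun _ => Nat) (Atab_s_1699_1705 c) (Atab_s_1705_1711 c) (Nat.ble 1705 c)
noncomputable def Atab_s_1687_1711 (c : Nat) : Nat := @Bool.rec (fun _ => Nat) (Atab_s_1687_1699 c) (Atab_s_1699_1711 c) (Nat.ble 1699 c)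
noncomputable def Atab_s_1712_1714 (c : Nat) : Nat := @Bool.rec (fun _ => Nat) (Atab_1712) (Atab_1713) (Nat.ble 1713 c)
noncomputable def Atab_s_1711_1714 (c : Nat) : Nat := @Bool.rec (fun _ => Nat) (Atab_1711) (Atab_s_1712_1714 c) (Nat.ble 1712 c)
noncomputable def Atab_s_1715_1717 (c : Nat) : Nat := @Bool.rec (fun _ => Nat) (Atab_1715) (Atab_1716) (Nat.ble 1716 c)
noncomputable def Atab_s_1714_1717 (c : Nat) : Nat := @Bool.rec (fun _ => Nat) (Atab_1714) (Atab_s_1715_1717 c) (Nat.ble 1715 c)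
noncomputable def Atab_s_1711_1717 (c : Nat) : Nat := @Bool.rec (fun _ => Nat) (Atab_s_1711_1714 c) (Atab_s_1714_1717 c) (Nat.ble 1714 c)
noncomputable def Atab_s_1718_1720 (c : Nat) : Nat := @Bool.rec (fun _ => Nat) (Atab_1718) (Atab_1719) (Nat.ble 1719 c)
noncomputable def Atab_s_1717_1720 (c : Nat) : Nat := @Bool.rec (fun _ => Nat) (Atab_1717) (Atab_s_1718_1720 c) (Nat.ble 1718 c)
noncomputable def Atab_s_1721_1723 (c : Nat) : Nat := @Bool.rec (fun _ => Nat) (Atab_1721) (Atab_1722) (Nat.ble 1722 c)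
noncomputable def Atab_s_1720_1723 (c : Nat) : Nat := @Bool.rec (fun _ => Nat) (Atab_1720) (Atab_s_1721_1723 c) (Nat.ble 1721 c)
noncomputable def Atab_s_1717_1723 (c : Nat) : Nat := @Bool.rec (fun _ => Nat) (Atab_s_1717_1720 c) (Atab_s_1720_1723 c) (Nat.ble 1720 c)
noncomputable def Atab_s_1711_1723 (c : Nat) : Nat := @Bool.rec (fun _ => Nat) (Atab_s_1711_1717 c) (Atab_s_1717_1723 c) (Nat.ble 1717 c)
noncomputable def Atab_s_1724_1726 (c : Nat) : Nat := @Bool.rec (fun _ => Nat) (Atab_1724) (Atab_1725) (Nat.ble 1725 c)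
noncomputable def Atab_s_1723_1726 (c : Nat) : Nat := @Bool.rec (fun _ => Nat) (Atab_1723) (Atab_s_1724_1726 c) (Nat.ble 1724 c)
noncomputable def Atab_s_1727_1729 (c : Nat) : Nat := @Bool.rec (fun _ => Nat) (Atab_1727) (Atab_1728) (Nat.ble 1728 c)
noncomputable def Atab_s_1726_1729 (c : Nat) : Nat := @Bool.rec (fun _ => Nat) (Atab_1726) (Atab_s_1727_1729 c) (Nat.ble 1727 c)
noncomputable def Atab_s_1723_1729 (c : Nat) : Nat := @Bool.rec (fun _ => Nat) (Atab_s_1723_1726 c) (Atab_s_1726_1729 c) (Nat.ble 1726 c)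
noncomputable def Atab_s_1730_1732 (c : Nat) : Nat := @Bool.rec (fun _ => Nat) (Atab_1730) (Atab_1731) (Nat.ble 1731 c)
noncomputable def Atab_s_1729_1732 (c : Nat) : Nat := @Bool.rec (fun _ => Nat) (Atab_1729) (Atab_s_1730_1732 c) (Nat.ble 1730 c)
noncomputable def Atab_s_1732_1734 (c : Nat) : Nat := @Bool.rec (fun _ => Nat) (Atab_1732) (Atab_1733) (Nat.ble 1733 c)
noncomputable def Atab_s_1734_1736 (c : Nat) : Nat := @Bool.rec (fun _ => Nat) (Atab_1734) (Atab_1735) (Nat.ble 1735 c)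
noncomputable def Atab_s_1732_1736 (c : Nat) : Nat := @Bool.rec (fun _ => Nat) (Atab_s_1732_1734 c) (Atab_s_1734_1736 c) (Nat.ble 1734 c)
noncomputable def Atab_s_1729_1736 (c : Nat) : Nat := @Bool.rec (fun _ => Nat) (Atab_s_1729_1732 c) (Atab_s_1732_1736 c) (Nat.ble 1732 c)
noncomputable def Atab_s_1723_1736 (c : Nat) : Nat := @Bool.rec (fun _ => Nat) (Atab_s_1723_1729 c) (Atab_s_1729_1736 c) (Nat.ble 1729 c)
noncomputable def Atab_s_1711_1736 (c : Nat) : Nat := @Bool.rec (fun _ => Nat) (Atab_s_1711_1723 c) (Atab_s_1723_1736 c) (Nat.ble 1723 c)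
noncomputable def Atab_s_1687_1736 (c : Nat) : Nat := @Bool.rec (fun _ => Nat) (Atab_s_1687_1711 c) (Atab_s_1711_1736 c) (Nat.ble 1711 c)
noncomputable def Atab_s_1737_1739 (c : Nat) : Nat := @Bool.rec (fun _ => Nat) (Atab_1737) (Atab_1738) (Nat.ble 1738 c)
noncomputable def Atab_s_1736_1739 (c : Nat) : Nat := @Bool.rec (fun _ => Nat) (Atab_1736) (Atab_s_1737_1739 c) (Nat.ble 1737 c)
noncomputable def Atab_s_1740_1742 (c : Nat) : Nat := @Bool.rec (fun _ => Nat) (Atab_1740) (Atab_1741) (Nat.ble 1741 c)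
noncomputable def Atab_s_1739_1742 (c : Nat) : Nat := @Bool.rec (fun _ => Nat) (Atab_1739) (Atab_s_1740_1742 c) (Nat.ble 1740 c)
noncomputable def Atab_s_1736_1742 (c : Nat) : Nat := @Bool.rec (fun _ => Nat) (Atab_s_1736_1739 c) (Atab_s_1739_1742 c) (Nat.ble 1739 c)
noncomputable def Atab_s_1743_1745 (c : Nat) : Nat := @Bool.rec (fun _ => Nat) (Atab_1743) (Atab_1744) (Nat.ble 1744 c)
noncomputable def Atab_s_1742_1745 (c : Nat) : Nat := @Bool.rec (fun _ => Nat) (Atab_1742) (Atab_s_1743_1745 c) (Nat.ble 1743 c)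
noncomputable def Atab_s_1746_1748 (c : Nat) : Nat := @Bool.rec (fun _ => Nat) (Atab_1746) (Atab_1747) (Nat.ble 1747 c)
noncomputable def Atab_s_1745_1748 (c : Nat) : Nat := @Bool.rec (fun _ => Nat) (Atab_1745) (Atab_s_1746_1748 c) (Nat.ble 1746 c)
noncomputable def Atab_s_1742_1748 (c : Nat) : Nat := @Bool.rec (fun _ => Nat) (Atab_s_1742_1745 c) (Atab_s_1745_1748 c) (Nat.ble 1745 c)
noncomputable def Atab_s_1736_1748 (c : Nat) : Nat := @Bool.rec (fun _ => Nat) (Atab_s_1736_1742 c) (Atab_s_1742_1748 c) (Nat.ble 1742 c)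
noncomputable def Atab_s_1749_1751 (c : Nat) : Nat := @Bool.rec (fun _ => Nat) (Atab_1749) (Atab_1750) (Nat.ble 1750 c)
noncomputable def Atab_s_1748_1751 (c : Nat) : Nat := @Bool.rec (fun _ => Nat) (Atab_1748) (Atab_s_1749_1751 c) (Nat.ble 1749 c)
noncomputable def Atab_s_1752_1754 (c : Nat) : Nat := @Bool.rec (fun _ => Nat) (Atab_1752) (Atab_1753) (Nat.ble 1753 c)
noncomputable def Atab_s_1751_1754 (c : Nat) : Nat := @Bool.rec (fun _ => Nat) (Atab_1751) (Atab_s_1752_1754 c) (Nat.ble 1752 c)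
noncomputable def Atab_s_1748_1754 (c : Nat) : Nat := @Bool.rec (fun _ => Nat) (Atab_s_1748_1751 c) (Atab_s_1751_1754 c) (Nat.ble 1751 c)
noncomputable def Atab_s_1755_1757 (c : Nat) : Nat := @Bool.rec (fun _ => Nat) (Atab_1755) (Atab_1756) (Nat.ble 1756 c)
noncomputable def Atab_s_1754_1757 (c : Nat) : Nat := @Bool.rec (fun _ => Nat) (Atab_1754) (Atab_s_1755_1757 c) (Nat.ble 1755 c)
noncomputable def Atab_s_1757_1759 (c : Nat) : Nat := @Bool.rec (fun _ => Nat) (Atab_1757) (Atab_1758) (Nat.ble 1758 c)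
noncomputable def Atab_s_1759_1761 (c : Nat) : Nat := @Bool.rec (fun _ => Nat) (Atab_1759) (Atab_1760) (Nat.ble 1760 c)
noncomputable def Atab_s_1757_1761 (c : Nat) : Nat := @Bool.rec (fun _ => Nat) (Atab_s_1757_1759 c) (Atab_s_1759_1761 c) (Nat.ble 1759 c)
noncomputable def Atab_s_1754_1761 (c : Nat) : Nat := @Bool.rec (fun _ => Nat) (Atab_s_1754_1757 c) (Atab_s_1757_1761 c) (Nat.ble 1757 c)
noncomputable def Atab_s_1748_1761 (c : Nat) : Nat := @Bool.rec (fun _ => Nat) (Atab_s_1748_1754 c) (Atab_s_1754_1761 c) (Nat.ble 1754 c)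
noncomputable def Atab_s_1736_1761 (c : Nat) : Nat := @Bool.rec (fun _ => Nat) (Atab_s_1736_1748 c) (Atab_s_1748_1761 c) (Nat.ble 1748 c)
noncomputable def Atab_s_1762_1764 (c : Nat) : Nat := @Bool.rec (fun _ => Nat) (Atab_1762) (Atab_1763) (Nat.ble 1763 c)
noncomputable def Atab_s_1761_1764 (c : Nat) : Nat := @Bool.rec (fun _ => Nat) (Atab_1761) (Atab_s_1762_1764 c) (Nat.ble 1762 c)
noncomputable def Atab_s_1765_1767 (c : Nat) : Nat := @Bool.rec (fun _ => Nat) (Atab_1765) (Atab_1766) (Nat.ble 1766 c)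
noncomputable def Atab_s_1764_1767 (c : Nat) : Nat := @Bool.rec (fun _ => Nat) (Atab_1764) (Atab_s_1765_1767 c) (Nat.ble 1765 c)
noncomputable def Atab_s_1761_1767 (c : Nat) : Nat := @Bool.rec (fun _ => Nat) (Atab_s_1761_1764 c) (Atab_s_1764_1767 c) (Nat.ble 1764 c)
noncomputable def Atab_s_1768_1770 (c : Nat) : Nat := @Bool.rec (fun _ => Nat) (Atab_1768) (Atab_1769) (Nat.ble 1769 c)
noncomputable def Atab_s_1767_1770 (c : Nat) : Nat := @Bool.rec (fun _ => Nat) (Atab_1767) (Atab_s_1768_1770 c) (Nat.ble 1768 c)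
noncomputable def Atab_s_1771_1773 (c : Nat) : Nat := @Bool.rec (fun _ => Nat) (Atab_1771) (Atab_1772) (Nat.ble 1772 c)
noncomputable def Atab_s_1770_1773 (c : Nat) : Nat := @Bool.rec (fun _ => Nat) (Atab_1770) (Atab_s_1771_1773 c) (Nat.ble 1771 c)
noncomputable def Atab_s_1767_1773 (c : Nat) : Nat := @Bool.rec (fun _ => Nat) (Atab_s_1767_1770 c) (Atab_s_1770_1773 c) (Nat.ble 1770 c)
noncomputable def Atab_s_1761_1773 (c : Nat) : Nat := @Bool.rec (fun _ => Nat) (Atab_s_1761_1767 c) (Atab_s_1767_1773 c) (Nat.ble 1767 c)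
noncomputable def Atab_s_1774_1776 (c : Nat) : Nat := @Bool.rec (fun _ => Nat) (Atab_1774) (Atab_1775) (Nat.ble 1775 c)
noncomputable def Atab_s_1773_1776 (c : Nat) : Nat := @Bool.rec (fun _ => Nat) (Atab_1773) (Atab_s_1774_1776 c) (Nat.ble 1774 c)
noncomputable def Atab_s_1777_1779 (c : Nat) : Nat := @Bool.rec (fun _ => Nat) (Atab_1777) (Atab_1778) (Nat.ble 1778 c)
noncomputable def Atab_s_1776_1779 (c : Nat) : Nat := @Bool.rec (fun _ => Nat) (Atab_1776) (Atab_s_1777_1779 c) (Nat.ble 1777 c)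
noncomputable def Atab_s_1773_1779 (c : Nat) : Nat := @Bool.rec (fun _ => Nat) (Atab_s_1773_1776 c) (Atab_s_1776_1779 c) (Nat.ble 1776 c)
noncomputable def Atab_s_1780_1782 (c : Nat) : Nat := @Bool.rec (fun _ => Nat) (Atab_1780) (Atab_1781) (Nat.ble 1781 c)
noncomputable def Atab_s_1779_1782 (c : Nat) : Nat := @Bool.rec (fun _ => Nat) (Atab_1779) (Atab_s_1780_1782 c) (Nat.ble 1780 c)
noncomputable def Atab_s_1782_1784 (c : Nat) : Nat := @Bool.rec (fun _ => Nat) (Atab_1782) (Atab_1783) (Nat.ble 1783 c)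
noncomputable def Atab_s_1784_1786 (c : Nat) : Nat := @Bool.rec (fun _ => Nat) (Atab_1784) (Atab_1785) (Nat.ble 1785 c)
noncomputable def Atab_s_1782_1786 (c : Nat) : Nat := @Bool.rec (fun _ => Nat) (Atab_s_1782_1784 c) (Atab_s_1784_1786 c) (Nat.ble 1784 c)
noncomputable def Atab_s_1779_1786 (c : Nat) : Nat := @Bool.rec (fun _ => Nat) (Atab_s_1779_1782 c) (Atab_s_1782_1786 c) (Nat.ble 1782 c)
noncomputable def Atab_s_1773_1786 (c : Nat) : Nat := @Bool.rec (fun _ => Nat) (Atab_s_1773_1779 c) (Atab_s_1779_1786 c) (Nat.ble 1779 c)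
noncomputable def Atab_s_1761_1786 (c : Nat) : Nat := @Bool.rec (fun _ => Nat) (Atab_s_1761_1773 c) (Atab_s_1773_1786 c) (Nat.ble 1773 c)
noncomputable def Atab_s_1736_1786 (c : Nat) : Nat := @Bool.rec (fun _ => Nat) (Atab_s_1736_1761 c) (Atab_s_1761_1786 c) (Nat.ble 1761 c)
noncomputable def Atab_s_1687_1786 (c : Nat) : Nat := @Bool.rec (fun _ => Nat) (Atab_s_1687_1736 c) (Atab_s_1736_1786 c) (Nat.ble 1736 c)
noncomputable def Atab_s_1588_1786 (c : Nat) : Nat := @Bool.rec (fun _ => Nat) (Atab_s_1588_1687 c) (Atab_s_1687_1786 c) (Nat.ble 1687 c)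
noncomputable def Atab_s_1787_1789 (c : Nat) : Nat := @Bool.rec (fun _ => Nat) (Atab_1787) (Atab_1788) (Nat.ble 1788 c)
noncomputable def Atab_s_1786_1789 (c : Nat) : Nat := @Bool.rec (fun _ => Nat) (Atab_1786) (Atab_s_1787_1789 c) (Nat.ble 1787 c)
noncomputable def Atab_s_1790_1792 (c : Nat) : Nat := @Bool.rec (fun _ => Nat) (Atab_1790) (Atab_1791) (Nat.ble 1791 c)
noncomputable def Atab_s_1789_1792 (c : Nat) : Nat := @Bool.rec (fun _ => Nat) (Atab_1789) (Atab_s_1790_1792 c) (Nat.ble 1790 c)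
noncomputable def Atab_s_1786_1792 (c : Nat) : Nat := @Bool.rec (fun _ => Nat) (Atab_s_1786_1789 c) (Atab_s_1789_1792 c) (Nat.ble 1789 c)
noncomputable def Atab_s_1793_1795 (c : Nat) : Nat := @Bool.rec (fun _ => Nat) (Atab_1793) (Atab_1794) (Nat.ble 1794 c)
noncomputable def Atab_s_1792_1795 (c : Nat) : Nat := @Bool.rec (fun _ => Nat) (Atab_1792) (Atab_s_1793_1795 c) (Nat.ble 1793 c)
noncomputable def Atab_s_1796_1798 (c : Nat) : Nat := @Bool.rec (fun _ => Nat) (Atab_1796) (Atab_1797) (Nat.ble 1797 c)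
noncomputable def Atab_s_1795_1798 (c : Nat) : Nat := @Bool.rec (fun _ => Nat) (Atab_1795) (Atab_s_1796_1798 c) (Nat.ble 1796 c)
noncomputable def Atab_s_1792_1798 (c : Nat) : Nat := @Bool.rec (fun _ => Nat) (Atab_s_1792_1795 c) (Atab_s_1795_1798 c) (Nat.ble 1795 c)
noncomputable def Atab_s_1786_1798 (c : Nat) : Nat := @Bool.rec (fun _ => Nat) (Atab_s_1786_1792 c) (Atab_s_1792_1798 c) (Nat.ble 1792 c)
noncomputable def Atab_s_1799_1801 (c : Nat) : Nat := @Bool.rec (fun _ => Nat) (Atab_1799) (Atab_1800) (Nat.ble 1800 c)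
noncomputable def Atab_s_1798_1801 (c : Nat) : Nat := @Bool.rec (fun _ => Nat) (Atab_1798) (Atab_s_1799_1801 c) (Nat.ble 1799 c)
noncomputable def Atab_s_1802_1804 (c : Nat) : Nat := @Bool.rec (fun _ => Nat) (Atab_1802) (Atab_1803) (Nat.ble 1803 c)
noncomputable def Atab_s_1801_1804 (c : Nat) : Nat := @Bool.rec (fun _ => Nat) (Atab_1801) (Atab_s_1802_1804 c) (Nat.ble 1802 c)
noncomputable def Atab_s_1798_1804 (c : Nat) : Nat := @Bool.rec (fun _ => Nat) (Atab_s_1798_1801 c) (Atab_s_1801_1804 c) (Nat.ble 1801 c)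
noncomputable def Atab_s_1805_1807 (c : Nat) : Nat := @Bool.rec (fun _ => Nat) (Atab_1805) (Atab_1806) (Nat.ble 1806 c)
noncomputable def Atab_s_1804_1807 (c : Nat) : Nat := @Bool.rec (fun _ => Nat) (Atab_1804) (Atab_s_1805_1807 c) (Nat.ble 1805 c)
noncomputable def Atab_s_1808_1810 (c : Nat) : Nat := @Bool.rec (fun _ => Nat) (Atab_1808) (Atab_1809) (Nat.ble 1809 c)
noncomputable def Atab_s_1807_1810 (c : Nat) : Nat := @Bool.rec (fun _ => Nat) (Atab_1807) (Atab_s_1808_1810 c) (Nat.ble 1808 c)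
noncomputable def Atab_s_1804_1810 (c : Nat) : Nat := @Bool.rec (fun _ => Nat) (Atab_s_1804_1807 c) (Atab_s_1807_1810 c) (Nat.ble 1807 c)
noncomputable def Atab_s_1798_1810 (c : Nat) : Nat := @Bool.rec (fun _ => Nat) (Atab_s_1798_1804 c) (Atab_s_1804_1810 c) (Nat.ble 1804 c)
noncomputable def Atab_s_1786_1810 (c : Nat) : Nat := @Bool.rec (fun _ => Nat) (Atab_s_1786_1798 c) (Atab_s_1798_1810 c) (Nat.ble 1798 c)
noncomputable def Atab_s_1811_1813 (c : Nat) : Nat := @Bool.rec (fun _ => Nat) (Atab_1811) (Atab_1812) (Nat.ble 1812 c)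
noncomputable def Atab_s_1810_1813 (c : Nat) : Nat := @Bool.rec (fun _ => Nat) (Atab_1810) (Atab_s_1811_1813 c) (Nat.ble 1811 c)
noncomputable def Atab_s_1814_1816 (c : Nat) : Nat := @Bool.rec (fun _ => Nat) (Atab_1814) (Atab_1815) (Nat.ble 1815 c)
noncomputable def Atab_s_1813_1816 (c : Nat) : Nat := @Bool.rec (fun _ => Nat) (Atab_1813) (Atab_s_1814_1816 c) (Nat.ble 1814 c)
noncomputable def Atab_s_1810_1816 (c : Nat) : Nat := @Bool.rec (fun _ => Nat) (Atab_s_1810_1813 c) (Atab_s_1813_1816 c) (Nat.ble 1813 c)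
noncomputable def Atab_s_1817_1819 (c : Nat) : Nat := @Bool.rec (fun _ => Nat) (Atab_1817) (Atab_1818) (Nat.ble 1818 c)
noncomputable def Atab_s_1816_1819 (c : Nat) : Nat := @Bool.rec (fun _ => Nat) (Atab_1816) (Atab_s_1817_1819 c) (Nat.ble 1817 c)
noncomputable def Atab_s_1820_1822 (c : Nat) : Nat := @Bool.rec (fun _ => Nat) (Atab_1820) (Atab_1821) (Nat.ble 1821 c)
noncomputable def Atab_s_1819_1822 (c : Nat) : Nat := @Bool.rec (fun _ => Nat) (Atab_1819) (Atab_s_1820_1822 c) (Nat.ble 1820 c)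
noncomputable def Atab_s_1816_1822 (c : Nat) : Nat := @Bool.rec (fun _ => Nat) (Atab_s_1816_1819 c) (Atab_s_1819_1822 c) (Nat.ble 1819 c)
noncomputable def Atab_s_1810_1822 (c : Nat) : Nat := @Bool.rec (fun _ => Nat) (Atab_s_1810_1816 c) (Atab_s_1816_1822 c) (Nat.ble 1816 c)
noncomputable def Atab_s_1823_1825 (c : Nat) : Nat := @Bool.rec (fun _ => Nat) (Atab_1823) (Atab_1824) (Nat.ble 1824 c)
noncomputable def Atab_s_1822_1825 (c : Nat) : Nat := @Bool.rec (fun _ => Nat) (Atab_1822) (Atab_s_1823_1825 c) (Nat.ble 1823 c)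
noncomputable def Atab_s_1826_1828 (c : Nat) : Nat := @Bool.rec (fun _ => Nat) (Atab_1826) (Atab_1827) (Nat.ble 1827 c)
noncomputable def Atab_s_1825_1828 (c : Nat) : Nat := @Bool.rec (fun _ => Nat) (Atab_1825) (Atab_s_1826_1828 c) (Nat.ble 1826 c)
noncomputable def Atab_s_1822_1828 (c : Nat) : Nat := @Bool.rec (fun _ => Nat) (Atab_s_1822_1825 c) (Atab_s_1825_1828 c) (Nat.ble 1825 c)
noncomputable def Atab_s_1829_1831 (c : Nat) : Nat := @Bool.rec (fun _ => Nat) (Atab_1829) (Atab_1830) (Nat.ble 1830 c)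
noncomputable def Atab_s_1828_1831 (c : Nat) : Nat := @Bool.rec (fun _ => Nat) (Atab_1828) (Atab_s_1829_1831 c) (Nat.ble 1829 c)
noncomputable def Atab_s_1831_1833 (c : Nat) : Nat := @Bool.rec (fun _ => Nat) (Atab_1831) (Atab_1832) (Nat.ble 1832 c)
noncomputable def Atab_s_1833_1835 (c : Nat) : Nat := @Bool.rec (fun _ => Nat) (Atab_1833) (Atab_1834) (Nat.ble 1834 c)
noncomputable def Atab_s_1831_1835 (c : Nat) : Nat := @Bool.rec (fun _ => Nat) (Atab_s_1831_1833 c) (Atab_s_1833_1835 c) (Nat.ble 1833 c)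
noncomputable def Atab_s_1828_1835 (c : Nat) : Nat := @Bool.rec (fun _ => Nat) (Atab_s_1828_1831 c) (Atab_s_1831_1835 c) (Nat.ble 1831 c)
noncomputable def Atab_s_1822_1835 (c : Nat) : Nat := @Bool.rec (fun _ => Nat) (Atab_s_1822_1828 c) (Atab_s_1828_1835 c) (Nat.ble 1828 c)
noncomputable def Atab_s_1810_1835 (c : Nat) : Nat := @Bool.rec (fun _ => Nat) (Atab_s_1810_1822 c) (Atab_s_1822_1835 c) (Nat.ble 1822 c)
noncomputable def Atab_s_1786_1835 (c : Nat) : Nat := @Bool.rec (fun _ => Nat) (Atab_s_1786_1810 c) (Atab_s_1810_1835 c) (Nat.ble 1810 c)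
noncomputable def Atab_s_1836_1838 (c : Nat) : Nat := @Bool.rec (fun _ => Nat) (Atab_1836) (Atab_1837) (Nat.ble 1837 c)
noncomputable def Atab_s_1835_1838 (c : Nat) : Nat := @Bool.rec (fun _ => Nat) (Atab_1835) (Atab_s_1836_1838 c) (Nat.ble 1836 c)
noncomputable def Atab_s_1839_1841 (c : Nat) : Nat := @Bool.rec (fun _ => Nat) (Atab_1839) (Atab_1840) (Nat.ble 1840 c)
noncomputable def Atab_s_1838_1841 (c : Nat) : Nat := @Bool.rec (fun _ => Nat) (Atab_1838) (Atab_s_1839_1841 c) (Nat.ble 1839 c)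
noncomputable def Atab_s_1835_1841 (c : Nat) : Nat := @Bool.rec (fun _ => Nat) (Atab_s_1835_1838 c) (Atab_s_1838_1841 c) (Nat.ble 1838 c)
noncomputable def Atab_s_1842_1844 (c : Nat) : Nat := @Bool.rec (fun _ => Nat) (Atab_1842) (Atab_1843) (Nat.ble 1843 c)
noncomputable def Atab_s_1841_1844 (c : Nat) : Nat := @Bool.rec (fun _ => Nat) (Atab_1841) (Atab_s_1842_1844 c) (Nat.ble 1842 c)
noncomputable def Atab_s_1845_1847 (c : Nat) : Nat := @Bool.rec (fun _ => Nat) (Atab_1845) (Atab_1846) (Nat.ble 1846 c)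
noncomputable def Atab_s_1844_1847 (c : Nat) : Nat := @Bool.rec (fun _ => Nat) (Atab_1844) (Atab_s_1845_1847 c) (Nat.ble 1845 c)
noncomputable def Atab_s_1841_1847 (c : Nat) : Nat := @Bool.rec (fun _ => Nat) (Atab_s_1841_1844 c) (Atab_s_1844_1847 c) (Nat.ble 1844 c)
noncomputable def Atab_s_1835_1847 (c : Nat) : Nat := @Bool.rec (fun _ => Nat) (Atab_s_1835_1841 c) (Atab_s_1841_1847 c) (Nat.ble 1841 c)
noncomputable def Atab_s_1848_1850 (c : Nat) : Nat := @Bool.rec (fun _ => Nat) (Atab_1848) (Atab_1849) (Nat.ble 1849 c)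
noncomputable def Atab_s_1847_1850 (c : Nat) : Nat := @Bool.rec (fun _ => Nat) (Atab_1847) (Atab_s_1848_1850 c) (Nat.ble 1848 c)
noncomputable def Atab_s_1851_1853 (c : Nat) : Nat := @Bool.rec (fun _ => Nat) (Atab_1851) (Atab_1852) (Nat.ble 1852 c)
noncomputable def Atab_s_1850_1853 (c : Nat) : Nat := @Bool.rec (fun _ => Nat) (Atab_1850) (Atab_s_1851_1853 c) (Nat.ble 1851 c)
noncomputable def Atab_s_1847_1853 (c : Nat) : Nat := @Bool.rec (fun _ => Nat) (Atab_s_1847_1850 c) (Atab_s_1850_1853 c) (Nat.ble 1850 c)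
noncomputable def Atab_s_1854_1856 (c : Nat) : Nat := @Bool.rec (fun _ => Nat) (Atab_1854) (Atab_1855) (Nat.ble 1855 c)
noncomputable def Atab_s_1853_1856 (c : Nat) : Nat := @Bool.rec (fun _ => Nat) (Atab_1853) (Atab_s_1854_1856 c) (Nat.ble 1854 c)
noncomputable def Atab_s_1856_1858 (c : Nat) : Nat := @Bool.rec (fun _ => Nat) (Atab_1856) (Atab_1857) (Nat.ble 1857 c)
noncomputable def Atab_s_1858_1860 (c : Nat) : Nat := @Bool.rec (fun _ => Nat) (Atab_1858) (Atab_1859) (Nat.ble 1859 c)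
noncomputable def Atab_s_1856_1860 (c : Nat) : Nat := @Bool.rec (fun _ => Nat) (Atab_s_1856_1858 c) (Atab_s_1858_1860 c) (Nat.ble 1858 c)
noncomputable def Atab_s_1853_1860 (c : Nat) : Nat := @Bool.rec (fun _ => Nat) (Atab_s_1853_1856 c) (Atab_s_1856_1860 c) (Nat.ble 1856 c)
noncomputable def Atab_s_1847_1860 (c : Nat) : Nat := @Bool.rec (fun _ => Nat) (Atab_s_1847_1853 c) (Atab_s_1853_1860 c) (Nat.ble 1853 c)
noncomputable def Atab_s_1835_1860 (c : Nat) : Nat := @Bool.rec (fun _ => Nat) (Atab_s_1835_1847 c) (Atab_s_1847_1860 c) (Nat.ble 1847 c)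
noncomputable def Atab_s_1861_1863 (c : Nat) : Nat := @Bool.rec (fun _ => Nat) (Atab_1861) (Atab_1862) (Nat.ble 1862 c)
noncomputable def Atab_s_1860_1863 (c : Nat) : Nat := @Bool.rec (fun _ => Nat) (Atab_1860) (Atab_s_1861_1863 c) (Nat.ble 1861 c)
noncomputable def Atab_s_1864_1866 (c : Nat) : Nat := @Bool.rec (fun _ => Nat) (Atab_1864) (Atab_1865) (Nat.ble 1865 c)
noncomputable def Atab_s_1863_1866 (c : Nat) : Nat := @Bool.rec (fun _ => Nat) (Atab_1863) (Atab_s_1864_1866 c) (Nat.ble 1864 c)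
noncomputable def Atab_s_1860_1866 (c : Nat) : Nat := @Bool.rec (fun _ => Nat) (Atab_s_1860_1863 c) (Atab_s_1863_1866 c) (Nat.ble 1863 c)
noncomputable def Atab_s_1867_1869 (c : Nat) : Nat := @Bool.rec (fun _ => Nat) (Atab_1867) (Atab_1868) (Nat.ble 1868 c)
noncomputable def Atab_s_1866_1869 (c : Nat) : Nat := @Bool.rec (fun _ => Nat) (Atab_1866) (Atab_s_1867_1869 c) (Nat.ble 1867 c)
noncomputable def Atab_s_1870_1872 (c : Nat) : Nat := @Bool.rec (fun _ => Nat) (Atab_1870) (Atab_1871) (Nat.ble 1871 c)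
noncomputable def Atab_s_1869_1872 (c : Nat) : Nat := @Bool.rec (fun _ => Nat) (Atab_1869) (Atab_s_1870_1872 c) (Nat.ble 1870 c)
noncomputable def Atab_s_1866_1872 (c : Nat) : Nat := @Bool.rec (fun _ => Nat) (Atab_s_1866_1869 c) (Atab_s_1869_1872 c) (Nat.ble 1869 c)
noncomputable def Atab_s_1860_1872 (c : Nat) : Nat := @Bool.rec (fun _ => Nat) (Atab_s_1860_1866 c) (Atab_s_1866_1872 c) (Nat.ble 1866 c)
noncomputable def Atab_s_1873_1875 (c : Nat) : Nat := @Bool.rec (fun _ => Nat) (Atab_1873) (Atab_1874) (Nat.ble 1874 c)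
noncomputable def Atab_s_1872_1875 (c : Nat) : Nat := @Bool.rec (fun _ => Nat) (Atab_1872) (Atab_s_1873_1875 c) (Nat.ble 1873 c)
noncomputable def Atab_s_1876_1878 (c : Nat) : Nat := @Bool.rec (fun _ => Nat) (Atab_1876) (Atab_1877) (Nat.ble 1877 c)
noncomputable def Atab_s_1875_1878 (c : Nat) : Nat := @Bool.rec (fun _ => Nat) (Atab_1875) (Atab_s_1876_1878 c) (Nat.ble 1876 c)
noncomputable def Atab_s_1872_1878 (c : Nat) : Nat := @Bool.rec (fun _ => Nat) (Atab_s_1872_1875 c) (Atab_s_1875_1878 c) (Nat.ble 1875 c)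
noncomputable def Atab_s_1879_1881 (c : Nat) : Nat := @Bool.rec (fun _ => Nat) (Atab_1879) (Atab_1880) (Nat.ble 1880 c)
noncomputable def Atab_s_1878_1881 (c : Nat) : Nat := @Bool.rec (fun _ => Nat) (Atab_1878) (Atab_s_1879_1881 c) (Nat.ble 1879 c)
noncomputable def Atab_s_1881_1883 (c : Nat) : Nat := @Bool.rec (fun _ => Nat) (Atab_1881) (Atab_1882) (Nat.ble 1882 c)
noncomputable def Atab_s_1883_1885 (c : Nat) : Nat := @Bool.rec (fun _ => Nat) (Atab_1883) (Atab_1884) (Nat.ble 1884 c)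
noncomputable def Atab_s_1881_1885 (c : Nat) : Nat := @Bool.rec (fun _ => Nat) (Atab_s_1881_1883 c) (Atab_s_1883_1885 c) (Nat.ble 1883 c)
noncomputable def Atab_s_1878_1885 (c : Nat) : Nat := @Bool.rec (fun _ => Nat) (Atab_s_1878_1881 c) (Atab_s_1881_1885 c) (Nat.ble 1881 c)
noncomputable def Atab_s_1872_1885 (c : Nat) : Nat := @Bool.rec (fun _ => Nat) (Atab_s_1872_1878 c) (Atab_s_1878_1885 c) (Nat.ble 1878 c)
noncomputable def Atab_s_1860_1885 (c : Nat) : Nat := @Bool.rec (fun _ => Nat) (Atab_s_1860_1872 c) (Atab_s_1872_1885 c) (Nat.ble 1872 c)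
noncomputable def Atab_s_1835_1885 (c : Nat) : Nat := @Bool.rec (fun _ => Nat) (Atab_s_1835_1860 c) (Atab_s_1860_1885 c) (Nat.ble 1860 c)
noncomputable def Atab_s_1786_1885 (c : Nat) : Nat := @Bool.rec (fun _ => Nat) (Atab_s_1786_1835 c) (Atab_s_1835_1885 c) (Nat.ble 1835 c)
noncomputable def Atab_s_1886_1888 (c : Nat) : Nat := @Bool.rec (fun _ => Nat) (Atab_1886) (Atab_1887) (Nat.ble 1887 c)
noncomputable def Atab_s_1885_1888 (c : Nat) : Nat := @Bool.rec (fun _ => Nat) (Atab_1885) (Atab_s_1886_1888 c) (Nat.ble 1886 c)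
noncomputable def Atab_s_1889_1891 (c : Nat) : Nat := @Bool.rec (fun _ => Nat) (Atab_1889) (Atab_1890) (Nat.ble 1890 c)
noncomputable def Atab_s_1888_1891 (c : Nat) : Nat := @Bool.rec (fun _ => Nat) (Atab_1888) (Atab_s_1889_1891 c) (Nat.ble 1889 c)
noncomputable def Atab_s_1885_1891 (c : Nat) : Nat := @Bool.rec (fun _ => Nat) (Atab_s_1885_1888 c) (Atab_s_1888_1891 c) (Nat.ble 1888 c)
noncomputable def Atab_s_1892_1894 (c : Nat) : Nat := @Bool.rec (fun _ => Nat) (Atab_1892) (Atab_1893) (Nat.ble 1893 c)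
noncomputable def Atab_s_1891_1894 (c : Nat) : Nat := @Bool.rec (fun _ => Nat) (Atab_1891) (Atab_s_1892_1894 c) (Nat.ble 1892 c)
noncomputable def Atab_s_1895_1897 (c : Nat) : Nat := @Bool.rec (fun _ => Nat) (Atab_1895) (Atab_1896) (Nat.ble 1896 c)
noncomputable def Atab_s_1894_1897 (c : Nat) : Nat := @Bool.rec (fun _ => Nat) (Atab_1894) (Atab_s_1895_1897 c) (Nat.ble 1895 c)
noncomputable def Atab_s_1891_1897 (c : Nat) : Nat := @Bool.rec (fun _ => Nat) (Atab_s_1891_1894 c) (Atab_s_1894_1897 c) (Nat.ble 1894 c)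
noncomputable def Atab_s_1885_1897 (c : Nat) : Nat := @Bool.rec (fun _ => Nat) (Atab_s_1885_1891 c) (Atab_s_1891_1897 c) (Nat.ble 1891 c)
noncomputable def Atab_s_1898_1900 (c : Nat) : Nat := @Bool.rec (fun _ => Nat) (Atab_1898) (Atab_1899) (Nat.ble 1899 c)
noncomputable def Atab_s_1897_1900 (c : Nat) : Nat := @Bool.rec (fun _ => Nat) (Atab_1897) (Atab_s_1898_1900 c) (Nat.ble 1898 c)
noncomputable def Atab_s_1901_1903 (c : Nat) : Nat := @Bool.rec (fun _ => Nat) (Atab_1901) (Atab_1902) (Nat.ble 1902 c)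
noncomputable def Atab_s_1900_1903 (c : Nat) : Nat := @Bool.rec (fun _ => Nat) (Atab_1900) (Atab_s_1901_1903 c) (Nat.ble 1901 c)
noncomputable def Atab_s_1897_1903 (c : Nat) : Nat := @Bool.rec (fun _ => Nat) (Atab_s_1897_1900 c) (Atab_s_1900_1903 c) (Nat.ble 1900 c)
noncomputable def Atab_s_1904_1906 (c : Nat) : Nat := @Bool.rec (fun _ => Nat) (Atab_1904) (Atab_1905) (Nat.ble 1905 c)
noncomputable def Atab_s_1903_1906 (c : Nat) : Nat := @Bool.rec (fun _ => Nat) (Atab_1903) (Atab_s_1904_1906 c) (Nat.ble 1904 c)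
noncomputable def Atab_s_1906_1908 (c : Nat) : Nat := @Bool.rec (fun _ => Nat) (Atab_1906) (Atab_1907) (Nat.ble 1907 c)
noncomputable def Atab_s_1908_1910 (c : Nat) : Nat := @Bool.rec (fun _ => Nat) (Atab_1908) (Atab_1909) (Nat.ble 1909 c)
noncomputable def Atab_s_1906_1910 (c : Nat) : Nat := @Bool.rec (fun _ => Nat) (Atab_s_1906_1908 c) (Atab_s_1908_1910 c) (Nat.ble 1908 c)
noncomputable def Atab_s_1903_1910 (c : Nat) : Nat := @Bool.rec (fun _ => Nat) (Atab_s_1903_1906 c) (Atab_s_1906_1910 c) (Nat.ble 1906 c)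
noncomputable def Atab_s_1897_1910 (c : Nat) : Nat := @Bool.rec (fun _ => Nat) (Atab_s_1897_1903 c) (Atab_s_1903_1910 c) (Nat.ble 1903 c)
noncomputable def Atab_s_1885_1910 (c : Nat) : Nat := @Bool.rec (fun _ => Nat) (Atab_s_1885_1897 c) (Atab_s_1897_1910 c) (Nat.ble 1897 c)
noncomputable def Atab_s_1911_1913 (c : Nat) : Nat := @Bool.rec (fun _ => Nat) (Atab_1911) (Atab_1912) (Nat.ble 1912 c)
noncomputable def Atab_s_1910_1913 (c : Nat) : Nat := @Bool.rec (fun _ => Nat) (Atab_1910) (Atab_s_1911_1913 c) (Nat.ble 1911 c)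
noncomputable def Atab_s_1914_1916 (c : Nat) : Nat := @Bool.rec (fun _ => Nat) (Atab_1914) (Atab_1915) (Nat.ble 1915 c)
noncomputable def Atab_s_1913_1916 (c : Nat) : Nat := @Bool.rec (fun _ => Nat) (Atab_1913) (Atab_s_1914_1916 c) (Nat.ble 1914 c)
noncomputable def Atab_s_1910_1916 (c : Nat) : Nat := @Bool.rec (fun _ => Nat) (Atab_s_1910_1913 c) (Atab_s_1913_1916 c) (Nat.ble 1913 c)
noncomputable def Atab_s_1917_1919 (c : Nat) : Nat := @Bool.rec (fun _ => Nat) (Atab_1917) (Atab_1918) (Nat.ble 1918 c)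
noncomputable def Atab_s_1916_1919 (c : Nat) : Nat := @Bool.rec (fun _ => Nat) (Atab_1916) (Atab_s_1917_1919 c) (Nat.ble 1917 c)
noncomputable def Atab_s_1920_1922 (c : Nat) : Nat := @Bool.rec (fun _ => Nat) (Atab_1920) (Atab_1921) (Nat.ble 1921 c)
noncomputable def Atab_s_1919_1922 (c : Nat) : Nat := @Bool.rec (fun _ => Nat) (Atab_1919) (Atab_s_1920_1922 c) (Nat.ble 1920 c)
noncomputable def Atab_s_1916_1922 (c : Nat) : Nat := @Bool.rec (fun _ => Nat) (Atab_s_1916_1919 c) (Atab_s_1919_1922 c) (Nat.ble 1919 c)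
noncomputable def Atab_s_1910_1922 (c : Nat) : Nat := @Bool.rec (fun _ => Nat) (Atab_s_1910_1916 c) (Atab_s_1916_1922 c) (Nat.ble 1916 c)
noncomputable def Atab_s_1923_1925 (c : Nat) : Nat := @Bool.rec (fun _ => Nat) (Atab_1923) (Atab_1924) (Nat.ble 1924 c)
noncomputable def Atab_s_1922_1925 (c : Nat) : Nat := @Bool.rec (fun _ => Nat) (Atab_1922) (Atab_s_1923_1925 c) (Nat.ble 1923 c)
noncomputable def Atab_s_1926_1928 (c : Nat) : Nat := @Bool.rec (fun _ => Nat) (Atab_1926) (Atab_1927) (Nat.ble 1927 c)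
noncomputable def Atab_s_1925_1928 (c : Nat) : Nat := @Bool.rec (fun _ => Nat) (Atab_1925) (Atab_s_1926_1928 c) (Nat.ble 1926 c)
noncomputable def Atab_s_1922_1928 (c : Nat) : Nat := @Bool.rec (fun _ => Nat) (Atab_s_1922_1925 c) (Atab_s_1925_1928 c) (Nat.ble 1925 c)
noncomputable def Atab_s_1929_1931 (c : Nat) : Nat := @Bool.rec (fun _ => Nat) (Atab_1929) (Atab_1930) (Nat.ble 1930 c)
noncomputable def Atab_s_1928_1931 (c : Nat) : Nat := @Bool.rec (fun _ => Nat) (Atab_1928) (Atab_s_1929_1931 c) (Nat.ble 1929 c)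
noncomputable def Atab_s_1931_1933 (c : Nat) : Nat := @Bool.rec (fun _ => Nat) (Atab_1931) (Atab_1932) (Nat.ble 1932 c)
noncomputable def Atab_s_1933_1935 (c : Nat) : Nat := @Bool.rec (fun _ => Nat) (Atab_1933) (Atab_1934) (Nat.ble 1934 c)
noncomputable def Atab_s_1931_1935 (c : Nat) : Nat := @Bool.rec (fun _ => Nat) (Atab_s_1931_1933 c) (Atab_s_1933_1935 c) (Nat.ble 1933 c)
noncomputable def Atab_s_1928_1935 (c : Nat) : Nat := @Bool.rec (fun _ => Nat) (Atab_s_1928_1931 c) (Atab_s_1931_1935 c) (Nat.ble 1931 c)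
noncomputable def Atab_s_1922_1935 (c : Nat) : Nat := @Bool.rec (fun _ => Nat) (Atab_s_1922_1928 c) (Atab_s_1928_1935 c) (Nat.ble 1928 c)
noncomputable def Atab_s_1910_1935 (c : Nat) : Nat := @Bool.rec (fun _ => Nat) (Atab_s_1910_1922 c) (Atab_s_1922_1935 c) (Nat.ble 1922 c)
noncomputable def Atab_s_1885_1935 (c : Nat) : Nat := @Bool.rec (fun _ => Nat) (Atab_s_1885_1910 c) (Atab_s_1910_1935 c) (Nat.ble 1910 c)
noncomputable def Atab_s_1936_1938 (c : Nat) : Nat := @Bool.rec (fun _ => Nat) (Atab_1936) (Atab_1937) (Nat.ble 1937 c)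
noncomputable def Atab_s_1935_1938 (c : Nat) : Nat := @Bool.rec (fun _ => Nat) (Atab_1935) (Atab_s_1936_1938 c) (Nat.ble 1936 c)
noncomputable def Atab_s_1939_1941 (c : Nat) : Nat := @Bool.rec (fun _ => Nat) (Atab_1939) (Atab_1940) (Nat.ble 1940 c)
noncomputable def Atab_s_1938_1941 (c : Nat) : Nat := @Bool.rec (fun _ => Nat) (Atab_1938) (Atab_s_1939_1941 c) (Nat.ble 1939 c)
noncomputable def Atab_s_1935_1941 (c : Nat) : Nat := @Bool.rec (fun _ => Nat) (Atab_s_1935_1938 c) (Atab_s_1938_1941 c) (Nat.ble 1938 c)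
noncomputable def Atab_s_1942_1944 (c : Nat) : Nat := @Bool.rec (fun _ => Nat) (Atab_1942) (Atab_1943) (Nat.ble 1943 c)
noncomputable def Atab_s_1941_1944 (c : Nat) : Nat := @Bool.rec (fun _ => Nat) (Atab_1941) (Atab_s_1942_1944 c) (Nat.ble 1942 c)
noncomputable def Atab_s_1945_1947 (c : Nat) : Nat := @Bool.rec (fun _ => Nat) (Atab_1945) (Atab_1946) (Nat.ble 1946 c)
noncomputable def Atab_s_1944_1947 (c : Nat) : Nat := @Bool.rec (fun _ => Nat) (Atab_1944) (Atab_s_1945_1947 c) (Nat.ble 1945 c)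
noncomputable def Atab_s_1941_1947 (c : Nat) : Nat := @Bool.rec (fun _ => Nat) (Atab_s_1941_1944 c) (Atab_s_1944_1947 c) (Nat.ble 1944 c)
noncomputable def Atab_s_1935_1947 (c : Nat) : Nat := @Bool.rec (fun _ => Nat) (Atab_s_1935_1941 c) (Atab_s_1941_1947 c) (Nat.ble 1941 c)
noncomputable def Atab_s_1948_1950 (c : Nat) : Nat := @Bool.rec (fun _ => Nat) (Atab_1948) (Atab_1949) (Nat.ble 1949 c)
noncomputable def Atab_s_1947_1950 (c : Nat) : Nat := @Bool.rec (fun _ => Nat) (Atab_1947) (Atab_s_1948_1950 c) (Nat.ble 1948 c)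
noncomputable def Atab_s_1951_1953 (c : Nat) : Nat := @Bool.rec (fun _ => Nat) (Atab_1951) (Atab_1952) (Nat.ble 1952 c)
noncomputable def Atab_s_1950_1953 (c : Nat) : Nat := @Bool.rec (fun _ => Nat) (Atab_1950) (Atab_s_1951_1953 c) (Nat.ble 1951 c)
noncomputable def Atab_s_1947_1953 (c : Nat) : Nat := @Bool.rec (fun _ => Nat) (Atab_s_1947_1950 c) (Atab_s_1950_1953 c) (Nat.ble 1950 c)
noncomputable def Atab_s_1954_1956 (c : Nat) : Nat := @Bool.rec (fun _ => Nat) (Atab_1954) (Atab_1955) (Nat.ble 1955 c)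
noncomputable def Atab_s_1953_1956 (c : Nat) : Nat := @Bool.rec (fun _ => Nat) (Atab_1953) (Atab_s_1954_1956 c) (Nat.ble 1954 c)
noncomputable def Atab_s_1956_1958 (c : Nat) : Nat := @Bool.rec (fun _ => Nat) (Atab_1956) (Atab_1957) (Nat.ble 1957 c)
noncomputable def Atab_s_1958_1960 (c : Nat) : Nat := @Bool.rec (fun _ => Nat) (Atab_1958) (Atab_1959) (Nat.ble 1959 c)
noncomputable def Atab_s_1956_1960 (c : Nat) : Nat := @Bool.rec (fun _ => Nat) (Atab_s_1956_1958 c) (Atab_s_1958_1960 c) (Nat.ble 1958 c)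
noncomputable def Atab_s_1953_1960 (c : Nat) : Nat := @Bool.rec (fun _ => Nat) (Atab_s_1953_1956 c) (Atab_s_1956_1960 c) (Nat.ble 1956 c)
noncomputable def Atab_s_1947_1960 (c : Nat) : Nat := @Bool.rec (fun _ => Nat) (Atab_s_1947_1953 c) (Atab_s_1953_1960 c) (Nat.ble 1953 c)
noncomputable def Atab_s_1935_1960 (c : Nat) : Nat := @Bool.rec (fun _ => Nat) (Atab_s_1935_1947 c) (Atab_s_1947_1960 c) (Nat.ble 1947 c)
noncomputable def Atab_s_1961_1963 (c : Nat) : Nat := @Bool.rec (fun _ => Nat) (Atab_1961) (Atab_1962) (Nat.ble 1962 c)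
noncomputable def Atab_s_1960_1963 (c : Nat) : Nat := @Bool.rec (fun _ => Nat) (Atab_1960) (Atab_s_1961_1963 c) (Nat.ble 1961 c)
noncomputable def Atab_s_1964_1966 (c : Nat) : Nat := @Bool.rec (fun _ => Nat) (Atab_1964) (Atab_1965) (Nat.ble 1965 c)
noncomputable def Atab_s_1963_1966 (c : Nat) : Nat := @Bool.rec (fun _ => Nat) (Atab_1963) (Atab_s_1964_1966 c) (Nat.ble 1964 c)
noncomputable def Atab_s_1960_1966 (c : Nat) : Nat := @Bool.rec (fun _ => Nat) (Atab_s_1960_1963 c) (Atab_s_1963_1966 c) (Nat.ble 1963 c)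
noncomputable def Atab_s_1967_1969 (c : Nat) : Nat := @Bool.rec (fun _ => Nat) (Atab_1967) (Atab_1968) (Nat.ble 1968 c)
noncomputable def Atab_s_1966_1969 (c : Nat) : Nat := @Bool.rec (fun _ => Nat) (Atab_1966) (Atab_s_1967_1969 c) (Nat.ble 1967 c)
noncomputable def Atab_s_1970_1972 (c : Nat) : Nat := @Bool.rec (fun _ => Nat) (Atab_1970) (Atab_1971) (Nat.ble 1971 c)
noncomputable def Atab_s_1969_1972 (c : Nat) : Nat := @Bool.rec (fun _ => Nat) (Atab_1969) (Atab_s_1970_1972 c) (Nat.ble 1970 c)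
noncomputable def Atab_s_1966_1972 (c : Nat) : Nat := @Bool.rec (fun _ => Nat) (Atab_s_1966_1969 c) (Atab_s_1969_1972 c) (Nat.ble 1969 c)
noncomputable def Atab_s_1960_1972 (c : Nat) : Nat := @Bool.rec (fun _ => Nat) (Atab_s_1960_1966 c) (Atab_s_1966_1972 c) (Nat.ble 1966 c)
noncomputable def Atab_s_1973_1975 (c : Nat) : Nat := @Bool.rec (fun _ => Nat) (Atab_1973) (Atab_1974) (Nat.ble 1974 c)
noncomputable def Atab_s_1972_1975 (c : Nat) : Nat := @Bool.rec (fun _ => Nat) (Atab_1972) (Atab_s_1973_1975 c) (Nat.ble 1973 c)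
noncomputable def Atab_s_1976_1978 (c : Nat) : Nat := @Bool.rec (fun _ => Nat) (Atab_1976) (Atab_1977) (Nat.ble 1977 c)
noncomputable def Atab_s_1975_1978 (c : Nat) : Nat := @Bool.rec (fun _ => Nat) (Atab_1975) (Atab_s_1976_1978 c) (Nat.ble 1976 c)
noncomputable def Atab_s_1972_1978 (c : Nat) : Nat := @Bool.rec (fun _ => Nat) (Atab_s_1972_1975 c) (Atab_s_1975_1978 c) (Nat.ble 1975 c)
noncomputable def Atab_s_1979_1981 (c : Nat) : Nat := @Bool.rec (fun _ => Nat) (Atab_1979) (Atab_1980) (Nat.ble 1980 c)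
noncomputable def Atab_s_1978_1981 (c : Nat) : Nat := @Bool.rec (fun _ => Nat) (Atab_1978) (Atab_s_1979_1981 c) (Nat.ble 1979 c)
noncomputable def Atab_s_1981_1983 (c : Nat) : Nat := @Bool.rec (fun _ => Nat) (Atab_1981) (Atab_1982) (Nat.ble 1982 c)
noncomputable def Atab_s_1983_1985 (c : Nat) : Nat := @Bool.rec (fun _ => Nat) (Atab_1983) (Atab_1984) (Nat.ble 1984 c)
noncomputable def Atab_s_1981_1985 (c : Nat) : Nat := @Bool.rec (fun _ => Nat) (Atab_s_1981_1983 c) (Atab_s_1983_1985 c) (Nat.ble 1983 c)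
noncomputable def Atab_s_1978_1985 (c : Nat) : Nat := @Bool.rec (fun _ => Nat) (Atab_s_1978_1981 c) (Atab_s_1981_1985 c) (Nat.ble 1981 c)
noncomputable def Atab_s_1972_1985 (c : Nat) : Nat := @Bool.rec (fun _ => Nat) (Atab_s_1972_1978 c) (Atab_s_1978_1985 c) (Nat.ble 1978 c)
noncomputable def Atab_s_1960_1985 (c : Nat) : Nat := @Bool.rec (fun _ => Nat) (Atab_s_1960_1972 c) (Atab_s_1972_1985 c) (Nat.ble 1972 c)
noncomputable def Atab_s_1935_1985 (c : Nat) : Nat := @Bool.rec (fun _ => Nat) (Atab_s_1935_1960 c) (Atab_s_1960_1985 c) (Nat.ble 1960 c)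
noncomputable def Atab_s_1885_1985 (c : Nat) : Nat := @Bool.rec (fun _ => Nat) (Atab_s_1885_1935 c) (Atab_s_1935_1985 c) (Nat.ble 1935 c)
noncomputable def Atab_s_1786_1985 (c : Nat) : Nat := @Bool.rec (fun _ => Nat) (Atab_s_1786_1885 c) (Atab_s_1885_1985 c) (Nat.ble 1885 c)
noncomputable def Atab_s_1588_1985 (c : Nat) : Nat := @Bool.rec (fun _ => Nat) (Atab_s_1588_1786 c) (Atab_s_1786_1985 c) (Nat.ble 1786 c)
noncomputable def Atab_s_1986_1988 (c : Nat) : Nat := @Bool.rec (fun _ => Nat) (Atab_1986) (Atab_1987) (Nat.ble 1987 c)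
noncomputable def Atab_s_1985_1988 (c : Nat) : Nat := @Bool.rec (fun _ => Nat) (Atab_1985) (Atab_s_1986_1988 c) (Nat.ble 1986 c)
noncomputable def Atab_s_1989_1991 (c : Nat) : Nat := @Bool.rec (fun _ => Nat) (Atab_1989) (Atab_1990) (Nat.ble 1990 c)
noncomputable def Atab_s_1988_1991 (c : Nat) : Nat := @Bool.rec (fun _ => Nat) (Atab_1988) (Atab_s_1989_1991 c) (Nat.ble 1989 c)
noncomputable def Atab_s_1985_1991 (c : Nat) : Nat := @Bool.rec (fun _ => Nat) (Atab_s_1985_1988 c) (Atab_s_1988_1991 c) (Nat.ble 1988 c)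
noncomputable def Atab_s_1992_1994 (c : Nat) : Nat := @Bool.rec (fun _ => Nat) (Atab_1992) (Atab_1993) (Nat.ble 1993 c)
noncomputable def Atab_s_1991_1994 (c : Nat) : Nat := @Bool.rec (fun _ => Nat) (Atab_1991) (Atab_s_1992_1994 c) (Nat.ble 1992 c)
noncomputable def Atab_s_1995_1997 (c : Nat) : Nat := @Bool.rec (fun _ => Nat) (Atab_1995) (Atab_1996) (Nat.ble 1996 c)
noncomputable def Atab_s_1994_1997 (c : Nat) : Nat := @Bool.rec (fun _ => Nat) (Atab_1994) (Atab_s_1995_1997 c) (Nat.ble 1995 c)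
noncomputable def Atab_s_1991_1997 (c : Nat) : Nat := @Bool.rec (fun _ => Nat) (Atab_s_1991_1994 c) (Atab_s_1994_1997 c) (Nat.ble 1994 c)
noncomputable def Atab_s_1985_1997 (c : Nat) : Nat := @Bool.rec (fun _ => Nat) (Atab_s_1985_1991 c) (Atab_s_1991_1997 c) (Nat.ble 1991 c)
noncomputable def Atab_s_1998_2000 (c : Nat) : Nat := @Bool.rec (fun _ => Nat) (Atab_1998) (Atab_1999) (Nat.ble 1999 c)
noncomputable def Atab_s_1997_2000 (c : Nat) : Nat := @Bool.rec (fun _ => Nat) (Atab_1997) (Atab_s_1998_2000 c) (Nat.ble 1998 c)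
noncomputable def Atab_s_2001_2003 (c : Nat) : Nat := @Bool.rec (fun _ => Nat) (Atab_2001) (Atab_2002) (Nat.ble 2002 c)
noncomputable def Atab_s_2000_2003 (c : Nat) : Nat := @Bool.rec (fun _ => Nat) (Atab_2000) (Atab_s_2001_2003 c) (Nat.ble 2001 c)
noncomputable def Atab_s_1997_2003 (c : Nat) : Nat := @Bool.rec (fun _ => Nat) (Atab_s_1997_2000 c) (Atab_s_2000_2003 c) (Nat.ble 2000 c)
noncomputable def Atab_s_2004_2006 (c : Nat) : Nat := @Bool.rec (fun _ => Nat) (Atab_2004) (Atab_2005) (Nat.ble 2005 c)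
noncomputable def Atab_s_2003_2006 (c : Nat) : Nat := @Bool.rec (fun _ => Nat) (Atab_2003) (Atab_s_2004_2006 c) (Nat.ble 2004 c)
noncomputable def Atab_s_2007_2009 (c : Nat) : Nat := @Bool.rec (fun _ => Nat) (Atab_2007) (Atab_2008) (Nat.ble 2008 c)
noncomputable def Atab_s_2006_2009 (c : Nat) : Nat := @Bool.rec (fun _ => Nat) (Atab_2006) (Atab_s_2007_2009 c) (Nat.ble 2007 c)
noncomputable def Atab_s_2003_2009 (c : Nat) : Nat := @Bool.rec (fun _ => Nat) (Atab_s_2003_2006 c) (Atab_s_2006_2009 c) (Nat.ble 2006 c)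
noncomputable def Atab_s_1997_2009 (c : Nat) : Nat := @Bool.rec (fun _ => Nat) (Atab_s_1997_2003 c) (Atab_s_2003_2009 c) (Nat.ble 2003 c)
noncomputable def Atab_s_1985_2009 (c : Nat) : Nat := @Bool.rec (fun _ => Nat) (Atab_s_1985_1997 c) (Atab_s_1997_2009 c) (Nat.ble 1997 c)
noncomputable def Atab_s_2010_2012 (c : Nat) : Nat := @Bool.rec (fun _ => Nat) (Atab_2010) (Atab_2011) (Nat.ble 2011 c)
noncomputable def Atab_s_2009_2012 (c : Nat) : Nat := @Bool.rec (fun _ => Nat) (Atab_2009) (Atab_s_2010_2012 c) (Nat.ble 2010 c)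
noncomputable def Atab_s_2013_2015 (c : Nat) : Nat := @Bool.rec (fun _ => Nat) (Atab_2013) (Atab_2014) (Nat.ble 2014 c)
noncomputable def Atab_s_2012_2015 (c : Nat) : Nat := @Bool.rec (fun _ => Nat) (Atab_2012) (Atab_s_2013_2015 c) (Nat.ble 2013 c)
noncomputable def Atab_s_2009_2015 (c : Nat) : Nat := @Bool.rec (fun _ => Nat) (Atab_s_2009_2012 c) (Atab_s_2012_2015 c) (Nat.ble 2012 c)
noncomputable def Atab_s_2016_2018 (c : Nat) : Nat := @Bool.rec (fun _ => Nat) (Atab_2016) (Atab_2017) (Nat.ble 2017 c)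
noncomputable def Atab_s_2015_2018 (c : Nat) : Nat := @Bool.rec (fun _ => Nat) (Atab_2015) (Atab_s_2016_2018 c) (Nat.ble 2016 c)
noncomputable def Atab_s_2019_2021 (c : Nat) : Nat := @Bool.rec (fun _ => Nat) (Atab_2019) (Atab_2020) (Nat.ble 2020 c)
noncomputable def Atab_s_2018_2021 (c : Nat) : Nat := @Bool.rec (fun _ => Nat) (Atab_2018) (Atab_s_2019_2021 c) (Nat.ble 2019 c)
noncomputable def Atab_s_2015_2021 (c : Nat) : Nat := @Bool.rec (fun _ => Nat) (Atab_s_2015_2018 c) (Atab_s_2018_2021 c) (Nat.ble 2018 c)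
noncomputable def Atab_s_2009_2021 (c : Nat) : Nat := @Bool.rec (fun _ => Nat) (Atab_s_2009_2015 c) (Atab_s_2015_2021 c) (Nat.ble 2015 c)
noncomputable def Atab_s_2022_2024 (c : Nat) : Nat := @Bool.rec (fun _ => Nat) (Atab_2022) (Atab_2023) (Nat.ble 2023 c)
noncomputable def Atab_s_2021_2024 (c : Nat) : Nat := @Bool.rec (fun _ => Nat) (Atab_2021) (Atab_s_2022_2024 c) (Nat.ble 2022 c)
noncomputable def Atab_s_2025_2027 (c : Nat) : Nat := @Bool.rec (fun _ => Nat) (Atab_2025) (Atab_2026) (Nat.ble 2026 c)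
noncomputable def Atab_s_2024_2027 (c : Nat) : Nat := @Bool.rec (fun _ => Nat) (Atab_2024) (Atab_s_2025_2027 c) (Nat.ble 2025 c)
noncomputable def Atab_s_2021_2027 (c : Nat) : Nat := @Bool.rec (fun _ => Nat) (Atab_s_2021_2024 c) (Atab_s_2024_2027 c) (Nat.ble 2024 c)
noncomputable def Atab_s_2028_2030 (c : Nat) : Nat := @Bool.rec (fun _ => Nat) (Atab_2028) (Atab_2029) (Nat.ble 2029 c)
noncomputable def Atab_s_2027_2030 (c : Nat) : Nat := @Bool.rec (fun _ => Nat) (Atab_2027) (Atab_s_2028_2030 c) (Nat.ble 2028 c)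
noncomputable def Atab_s_2030_2032 (c : Nat) : Nat := @Bool.rec (fun _ => Nat) (Atab_2030) (Atab_2031) (Nat.ble 2031 c)
noncomputable def Atab_s_2032_2034 (c : Nat) : Nat := @Bool.rec (fun _ => Nat) (Atab_2032) (Atab_2033) (Nat.ble 2033 c)
noncomputable def Atab_s_2030_2034 (c : Nat) : Nat := @Bool.rec (fun _ => Nat) (Atab_s_2030_2032 c) (Atab_s_2032_2034 c) (Nat.ble 2032 c)
noncomputable def Atab_s_2027_2034 (c : Nat) : Nat := @Bool.rec (fun _ => Nat) (Atab_s_2027_2030 c) (Atab_s_2030_2034 c) (Nat.ble 2030 c)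
noncomputable def Atab_s_2021_2034 (c : Nat) : Nat := @Bool.rec (fun _ => Nat) (Atab_s_2021_2027 c) (Atab_s_2027_2034 c) (Nat.ble 2027 c)
noncomputable def Atab_s_2009_2034 (c : Nat) : Nat := @Bool.rec (fun _ => Nat) (Atab_s_2009_2021 c) (Atab_s_2021_2034 c) (Nat.ble 2021 c)
noncomputable def Atab_s_1985_2034 (c : Nat) : Nat := @Bool.rec (fun _ => Nat) (Atab_s_1985_2009 c) (Atab_s_2009_2034 c) (Nat.ble 2009 c)
noncomputable def Atab_s_2035_2037 (c : Nat) : Nat := @Bool.rec (fun _ => Nat) (Atab_2035) (Atab_2036) (Nat.ble 2036 c)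
noncomputable def Atab_s_2034_2037 (c : Nat) : Nat := @Bool.rec (fun _ => Nat) (Atab_2034) (Atab_s_2035_2037 c) (Nat.ble 2035 c)
noncomputable def Atab_s_2038_2040 (c : Nat) : Nat := @Bool.rec (fun _ => Nat) (Atab_2038) (Atab_2039) (Nat.ble 2039 c)
noncomputable def Atab_s_2037_2040 (c : Nat) : Nat := @Bool.rec (fun _ => Nat) (Atab_2037) (Atab_s_2038_2040 c) (Nat.ble 2038 c)
noncomputable def Atab_s_2034_2040 (c : Nat) : Nat := @Bool.rec (fun _ => Nat) (Atab_s_2034_2037 c) (Atab_s_2037_2040 c) (Nat.ble 2037 c)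
noncomputable def Atab_s_2041_2043 (c : Nat) : Nat := @Bool.rec (fun _ => Nat) (Atab_2041) (Atab_2042) (Nat.ble 2042 c)
noncomputable def Atab_s_2040_2043 (c : Nat) : Nat := @Bool.rec (fun _ => Nat) (Atab_2040) (Atab_s_2041_2043 c) (Nat.ble 2041 c)
noncomputable def Atab_s_2044_2046 (c : Nat) : Nat := @Bool.rec (fun _ => Nat) (Atab_2044) (Atab_2045) (Nat.ble 2045 c)
noncomputable def Atab_s_2043_2046 (c : Nat) : Nat := @Bool.rec (fun _ => Nat) (Atab_2043) (Atab_s_2044_2046 c) (Nat.ble 2044 c)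
noncomputable def Atab_s_2040_2046 (c : Nat) : Nat := @Bool.rec (fun _ => Nat) (Atab_s_2040_2043 c) (Atab_s_2043_2046 c) (Nat.ble 2043 c)
noncomputable def Atab_s_2034_2046 (c : Nat) : Nat := @Bool.rec (fun _ => Nat) (Atab_s_2034_2040 c) (Atab_s_2040_2046 c) (Nat.ble 2040 c)
noncomputable def Atab_s_2047_2049 (c : Nat) : Nat := @Bool.rec (fun _ => Nat) (Atab_2047) (Atab_2048) (Nat.ble 2048 c)
noncomputable def Atab_s_2046_2049 (c : Nat) : Nat := @Bool.rec (fun _ => Nat) (Atab_2046) (Atab_s_2047_2049 c) (Nat.ble 2047 c)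
noncomputable def Atab_s_2050_2052 (c : Nat) : Nat := @Bool.rec (fun _ => Nat) (Atab_2050) (Atab_2051) (Nat.ble 2051 c)
noncomputable def Atab_s_2049_2052 (c : Nat) : Nat := @Bool.rec (fun _ => Nat) (Atab_2049) (Atab_s_2050_2052 c) (Nat.ble 2050 c)
noncomputable def Atab_s_2046_2052 (c : Nat) : Nat := @Bool.rec (fun _ => Nat) (Atab_s_2046_2049 c) (Atab_s_2049_2052 c) (Nat.ble 2049 c)
noncomputable def Atab_s_2053_2055 (c : Nat) : Nat := @Bool.rec (fun _ => Nat) (Atab_2053) (Atab_2054) (Nat.ble 2054 c)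
noncomputable def Atab_s_2052_2055 (c : Nat) : Nat := @Bool.rec (fun _ => Nat) (Atab_2052) (Atab_s_2053_2055 c) (Nat.ble 2053 c)
noncomputable def Atab_s_2055_2057 (c : Nat) : Nat := @Bool.rec (fun _ => Nat) (Atab_2055) (Atab_2056) (Nat.ble 2056 c)
noncomputable def Atab_s_2057_2059 (c : Nat) : Nat := @Bool.rec (fun _ => Nat) (Atab_2057) (Atab_2058) (Nat.ble 2058 c)
noncomputable def Atab_s_2055_2059 (c : Nat) : Nat := @Bool.rec (fun _ => Nat) (Atab_s_2055_2057 c) (Atab_s_2057_2059 c) (Nat.ble 2057 c)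
noncomputable def Atab_s_2052_2059 (c : Nat) : Nat := @Bool.rec (fun _ => Nat) (Atab_s_2052_2055 c) (Atab_s_2055_2059 c) (Nat.ble 2055 c)
noncomputable def Atab_s_2046_2059 (c : Nat) : Nat := @Bool.rec (fun _ => Nat) (Atab_s_2046_2052 c) (Atab_s_2052_2059 c) (Nat.ble 2052 c)
noncomputable def Atab_s_2034_2059 (c : Nat) : Nat := @Bool.rec (fun _ => Nat) (Atab_s_2034_2046 c) (Atab_s_2046_2059 c) (Nat.ble 2046 c)
noncomputable def Atab_s_2060_2062 (c : Nat) : Nat := @Bool.rec (fun _ => Nat) (Atab_2060) (Atab_2061) (Nat.ble 2061 c)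
noncomputable def Atab_s_2059_2062 (c : Nat) : Nat := @Bool.rec (fun _ => Nat) (Atab_2059) (Atab_s_2060_2062 c) (Nat.ble 2060 c)
noncomputable def Atab_s_2063_2065 (c : Nat) : Nat := @Bool.rec (fun _ => Nat) (Atab_2063) (Atab_2064) (Nat.ble 2064 c)
noncomputable def Atab_s_2062_2065 (c : Nat) : Nat := @Bool.rec (fun _ => Nat) (Atab_2062) (Atab_s_2063_2065 c) (Nat.ble 2063 c)
noncomputable def Atab_s_2059_2065 (c : Nat) : Nat := @Bool.rec (fun _ => Nat) (Atab_s_2059_2062 c) (Atab_s_2062_2065 c) (Nat.ble 2062 c)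
noncomputable def Atab_s_2066_2068 (c : Nat) : Nat := @Bool.rec (fun _ => Nat) (Atab_2066) (Atab_2067) (Nat.ble 2067 c)
noncomputable def Atab_s_2065_2068 (c : Nat) : Nat := @Bool.rec (fun _ => Nat) (Atab_2065) (Atab_s_2066_2068 c) (Nat.ble 2066 c)
noncomputable def Atab_s_2069_2071 (c : Nat) : Nat := @Bool.rec (fun _ => Nat) (Atab_2069) (Atab_2070) (Nat.ble 2070 c)
noncomputable def Atab_s_2068_2071 (c : Nat) : Nat := @Bool.rec (fun _ => Nat) (Atab_2068) (Atab_s_2069_2071 c) (Nat.ble 2069 c)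
noncomputable def Atab_s_2065_2071 (c : Nat) : Nat := @Bool.rec (fun _ => Nat) (Atab_s_2065_2068 c) (Atab_s_2068_2071 c) (Nat.ble 2068 c)
noncomputable def Atab_s_2059_2071 (c : Nat) : Nat := @Bool.rec (fun _ => Nat) (Atab_s_2059_2065 c) (Atab_s_2065_2071 c) (Nat.ble 2065 c)
noncomputable def Atab_s_2072_2074 (c : Nat) : Nat := @Bool.rec (fun _ => Nat) (Atab_2072) (Atab_2073) (Nat.ble 2073 c)
noncomputable def Atab_s_2071_2074 (c : Nat) : Nat := @Bool.rec (fun _ => Nat) (Atab_2071) (Atab_s_2072_2074 c) (Nat.ble 2072 c)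
noncomputable def Atab_s_2075_2077 (c : Nat) : Nat := @Bool.rec (fun _ => Nat) (Atab_2075) (Atab_2076) (Nat.ble 2076 c)
noncomputable def Atab_s_2074_2077 (c : Nat) : Nat := @Bool.rec (fun _ => Nat) (Atab_2074) (Atab_s_2075_2077 c) (Nat.ble 2075 c)
noncomputable def Atab_s_2071_2077 (c : Nat) : Nat := @Bool.rec (fun _ => Nat) (Atab_s_2071_2074 c) (Atab_s_2074_2077 c) (Nat.ble 2074 c)
noncomputable def Atab_s_2078_2080 (c : Nat) : Nat := @Bool.rec (fun _ => Nat) (Atab_2078) (Atab_2079) (Nat.ble 2079 c)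
noncomputable def Atab_s_2077_2080 (c : Nat) : Nat := @Bool.rec (fun _ => Nat) (Atab_2077) (Atab_s_2078_2080 c) (Nat.ble 2078 c)
noncomputable def Atab_s_2080_2082 (c : Nat) : Nat := @Bool.rec (fun _ => Nat) (Atab_2080) (Atab_2081) (Nat.ble 2081 c)
noncomputable def Atab_s_2082_2084 (c : Nat) : Nat := @Bool.rec (fun _ => Nat) (Atab_2082) (Atab_2083) (Nat.ble 2083 c)
noncomputable def Atab_s_2080_2084 (c : Nat) : Nat := @Bool.rec (fun _ => Nat) (Atab_s_2080_2082 c) (Atab_s_2082_2084 c) (Nat.ble 2082 c)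
noncomputable def Atab_s_2077_2084 (c : Nat) : Nat := @Bool.rec (fun _ => Nat) (Atab_s_2077_2080 c) (Atab_s_2080_2084 c) (Nat.ble 2080 c)
noncomputable def Atab_s_2071_2084 (c : Nat) : Nat := @Bool.rec (fun _ => Nat) (Atab_s_2071_2077 c) (Atab_s_2077_2084 c) (Nat.ble 2077 c)
noncomputable def Atab_s_2059_2084 (c : Nat) : Nat := @Bool.rec (fun _ => Nat) (Atab_s_2059_2071 c) (Atab_s_2071_2084 c) (Nat.ble 2071 c)
noncomputable def Atab_s_2034_2084 (c : Nat) : Nat := @Bool.rec (fun _ => Nat) (Atab_s_2034_2059 c) (Atab_s_2059_2084 c) (Nat.ble 2059 c)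
noncomputable def Atab_s_1985_2084 (c : Nat) : Nat := @Bool.rec (fun _ => Nat) (Atab_s_1985_2034 c) (Atab_s_2034_2084 c) (Nat.ble 2034 c)
noncomputable def Atab_s_2085_2087 (c : Nat) : Nat := @Bool.rec (fun _ => Nat) (Atab_2085) (Atab_2086) (Nat.ble 2086 c)
noncomputable def Atab_s_2084_2087 (c : Nat) : Nat := @Bool.rec (fun _ => Nat) (Atab_2084) (Atab_s_2085_2087 c) (Nat.ble 2085 c)
noncomputable def Atab_s_2088_2090 (c : Nat) : Nat := @Bool.rec (fun _ => Nat) (Atab_2088) (Atab_2089) (Nat.ble 2089 c)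
noncomputable def Atab_s_2087_2090 (c : Nat) : Nat := @Bool.rec (fun _ => Nat) (Atab_2087) (Atab_s_2088_2090 c) (Nat.ble 2088 c)
noncomputable def Atab_s_2084_2090 (c : Nat) : Nat := @Bool.rec (fun _ => Nat) (Atab_s_2084_2087 c) (Atab_s_2087_2090 c) (Nat.ble 2087 c)
noncomputable def Atab_s_2091_2093 (c : Nat) : Nat := @Bool.rec (fun _ => Nat) (Atab_2091) (Atab_2092) (Nat.ble 2092 c)
noncomputable def Atab_s_2090_2093 (c : Nat) : Nat := @Bool.rec (fun _ => Nat) (Atab_2090) (Atab_s_2091_2093 c) (Nat.ble 2091 c)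
noncomputable def Atab_s_2094_2096 (c : Nat) : Nat := @Bool.rec (fun _ => Nat) (Atab_2094) (Atab_2095) (Nat.ble 2095 c)
noncomputable def Atab_s_2093_2096 (c : Nat) : Nat := @Bool.rec (fun _ => Nat) (Atab_2093) (Atab_s_2094_2096 c) (Nat.ble 2094 c)
noncomputable def Atab_s_2090_2096 (c : Nat) : Nat := @Bool.rec (fun _ => Nat) (Atab_s_2090_2093 c) (Atab_s_2093_2096 c) (Nat.ble 2093 c)
noncomputable def Atab_s_2084_2096 (c : Nat) : Nat := @Bool.rec (fun _ => Nat) (Atab_s_2084_2090 c) (Atab_s_2090_2096 c) (Nat.ble 2090 c)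
noncomputable def Atab_s_2097_2099 (c : Nat) : Nat := @Bool.rec (fun _ => Nat) (Atab_2097) (Atab_2098) (Nat.ble 2098 c)
noncomputable def Atab_s_2096_2099 (c : Nat) : Nat := @Bool.rec (fun _ => Nat) (Atab_2096) (Atab_s_2097_2099 c) (Nat.ble 2097 c)
noncomputable def Atab_s_2100_2102 (c : Nat) : Nat := @Bool.rec (fun _ => Nat) (Atab_2100) (Atab_2101) (Nat.ble 2101 c)
noncomputable def Atab_s_2099_2102 (c : Nat) : Nat := @Bool.rec (fun _ => Nat) (Atab_2099) (Atab_s_2100_2102 c) (Nat.ble 2100 c)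
noncomputable def Atab_s_2096_2102 (c : Nat) : Nat := @Bool.rec (fun _ => Nat) (Atab_s_2096_2099 c) (Atab_s_2099_2102 c) (Nat.ble 2099 c)
noncomputable def Atab_s_2103_2105 (c : Nat) : Nat := @Bool.rec (fun _ => Nat) (Atab_2103) (Atab_2104) (Nat.ble 2104 c)
noncomputable def Atab_s_2102_2105 (c : Nat) : Nat := @Bool.rec (fun _ => Nat) (Atab_2102) (Atab_s_2103_2105 c) (Nat.ble 2103 c)
noncomputable def Atab_s_2106_2108 (c : Nat) : Nat := @Bool.rec (fun _ => Nat) (Atab_2106) (Atab_2107) (Nat.ble 2107 c)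
noncomputable def Atab_s_2105_2108 (c : Nat) : Nat := @Bool.rec (fun _ => Nat) (Atab_2105) (Atab_s_2106_2108 c) (Nat.ble 2106 c)
noncomputable def Atab_s_2102_2108 (c : Nat) : Nat := @Bool.rec (fun _ => Nat) (Atab_s_2102_2105 c) (Atab_s_2105_2108 c) (Nat.ble 2105 c)
noncomputable def Atab_s_2096_2108 (c : Nat) : Nat := @Bool.rec (fun _ => Nat) (Atab_s_2096_2102 c) (Atab_s_2102_2108 c) (Nat.ble 2102 c)
noncomputable def Atab_s_2084_2108 (c : Nat) : Nat := @Bool.rec (fun _ => Nat) (Atab_s_2084_2096 c) (Atab_s_2096_2108 c) (Nat.ble 2096 c)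
noncomputable def Atab_s_2109_2111 (c : Nat) : Nat := @Bool.rec (fun _ => Nat) (Atab_2109) (Atab_2110) (Nat.ble 2110 c)
noncomputable def Atab_s_2108_2111 (c : Nat) : Nat := @Bool.rec (fun _ => Nat) (Atab_2108) (Atab_s_2109_2111 c) (Nat.ble 2109 c)
noncomputable def Atab_s_2112_2114 (c : Nat) : Nat := @Bool.rec (fun _ => Nat) (Atab_2112) (Atab_2113) (Nat.ble 2113 c)
noncomputable def Atab_s_2111_2114 (c : Nat) : Nat := @Bool.rec (fun _ => Nat) (Atab_2111) (Atab_s_2112_2114 c) (Nat.ble 2112 c)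
noncomputable def Atab_s_2108_2114 (c : Nat) : Nat := @Bool.rec (fun _ => Nat) (Atab_s_2108_2111 c) (Atab_s_2111_2114 c) (Nat.ble 2111 c)
noncomputable def Atab_s_2115_2117 (c : Nat) : Nat := @Bool.rec (fun _ => Nat) (Atab_2115) (Atab_2116) (Nat.ble 2116 c)
noncomputable def Atab_s_2114_2117 (c : Nat) : Nat := @Bool.rec (fun _ => Nat) (Atab_2114) (Atab_s_2115_2117 c) (Nat.ble 2115 c)
noncomputable def Atab_s_2118_2120 (c : Nat) : Nat := @Bool.rec (fun _ => Nat) (Atab_2118) (Atab_2119) (Nat.ble 2119 c)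
noncomputable def Atab_s_2117_2120 (c : Nat) : Nat := @Bool.rec (fun _ => Nat) (Atab_2117) (Atab_s_2118_2120 c) (Nat.ble 2118 c)
noncomputable def Atab_s_2114_2120 (c : Nat) : Nat := @Bool.rec (fun _ => Nat) (Atab_s_2114_2117 c) (Atab_s_2117_2120 c) (Nat.ble 2117 c)
noncomputable def Atab_s_2108_2120 (c : Nat) : Nat := @Bool.rec (fun _ => Nat) (Atab_s_2108_2114 c) (Atab_s_2114_2120 c) (Nat.ble 2114 c)
noncomputable def Atab_s_2121_2123 (c : Nat) : Nat := @Bool.rec (fun _ => Nat) (Atab_2121) (Atab_2122) (Nat.ble 2122 c)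
noncomputable def Atab_s_2120_2123 (c : Nat) : Nat := @Bool.rec (fun _ => Nat) (Atab_2120) (Atab_s_2121_2123 c) (Nat.ble 2121 c)
noncomputable def Atab_s_2124_2126 (c : Nat) : Nat := @Bool.rec (fun _ => Nat) (Atab_2124) (Atab_2125) (Nat.ble 2125 c)
noncomputable def Atab_s_2123_2126 (c : Nat) : Nat := @Bool.rec (fun _ => Nat) (Atab_2123) (Atab_s_2124_2126 c) (Nat.ble 2124 c)
noncomputable def Atab_s_2120_2126 (c : Nat) : Nat := @Bool.rec (fun _ => Nat) (Atab_s_2120_2123 c) (Atab_s_2123_2126 c) (Nat.ble 2123 c)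
noncomputable def Atab_s_2127_2129 (c : Nat) : Nat := @Bool.rec (fun _ => Nat) (Atab_2127) (Atab_2128) (Nat.ble 2128 c)
noncomputable def Atab_s_2126_2129 (c : Nat) : Nat := @Bool.rec (fun _ => Nat) (Atab_2126) (Atab_s_2127_2129 c) (Nat.ble 2127 c)
noncomputable def Atab_s_2129_2131 (c : Nat) : Nat := @Bool.rec (fun _ => Nat) (Atab_2129) (Atab_2130) (Nat.ble 2130 c)
noncomputable def Atab_s_2131_2133 (c : Nat) : Nat := @Bool.rec (fun _ => Nat) (Atab_2131) (Atab_2132) (Nat.ble 2132 c)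
noncomputable def Atab_s_2129_2133 (c : Nat) : Nat := @Bool.rec (fun _ => Nat) (Atab_s_2129_2131 c) (Atab_s_2131_2133 c) (Nat.ble 2131 c)
noncomputable def Atab_s_2126_2133 (c : Nat) : Nat := @Bool.rec (fun _ => Nat) (Atab_s_2126_2129 c) (Atab_s_2129_2133 c) (Nat.ble 2129 c)
noncomputable def Atab_s_2120_2133 (c : Nat) : Nat := @Bool.rec (fun _ => Nat) (Atab_s_2120_2126 c) (Atab_s_2126_2133 c) (Nat.ble 2126 c)
noncomputable def Atab_s_2108_2133 (c : Nat) : Nat := @Bool.rec (fun _ => Nat) (Atab_s_2108_2120 c) (Atab_s_2120_2133 c) (Nat.ble 2120 c)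
noncomputable def Atab_s_2084_2133 (c : Nat) : Nat := @Bool.rec (fun _ => Nat) (Atab_s_2084_2108 c) (Atab_s_2108_2133 c) (Nat.ble 2108 c)
noncomputable def Atab_s_2134_2136 (c : Nat) : Nat := @Bool.rec (fun _ => Nat) (Atab_2134) (Atab_2135) (Nat.ble 2135 c)
noncomputable def Atab_s_2133_2136 (c : Nat) : Nat := @Bool.rec (fun _ => Nat) (Atab_2133) (Atab_s_2134_2136 c) (Nat.ble 2134 c)
noncomputable def Atab_s_2137_2139 (c : Nat) : Nat := @Bool.rec (fun _ => Nat) (Atab_2137) (Atab_2138) (Nat.ble 2138 c)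
noncomputable def Atab_s_2136_2139 (c : Nat) : Nat := @Bool.rec (fun _ => Nat) (Atab_2136) (Atab_s_2137_2139 c) (Nat.ble 2137 c)
noncomputable def Atab_s_2133_2139 (c : Nat) : Nat := @Bool.rec (fun _ => Nat) (Atab_s_2133_2136 c) (Atab_s_2136_2139 c) (Nat.ble 2136 c)
noncomputable def Atab_s_2140_2142 (c : Nat) : Nat := @Bool.rec (fun _ => Nat) (Atab_2140) (Atab_2141) (Nat.ble 2141 c)
noncomputable def Atab_s_2139_2142 (c : Nat) : Nat := @Bool.rec (fun _ => Nat) (Atab_2139) (Atab_s_2140_2142 c) (Nat.ble 2140 c)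
noncomputable def Atab_s_2143_2145 (c : Nat) : Nat := @Bool.rec (fun _ => Nat) (Atab_2143) (Atab_2144) (Nat.ble 2144 c)
noncomputable def Atab_s_2142_2145 (c : Nat) : Nat := @Bool.rec (fun _ => Nat) (Atab_2142) (Atab_s_2143_2145 c) (Nat.ble 2143 c)
noncomputable def Atab_s_2139_2145 (c : Nat) : Nat := @Bool.rec (fun _ => Nat) (Atab_s_2139_2142 c) (Atab_s_2142_2145 c) (Nat.ble 2142 c)
noncomputable def Atab_s_2133_2145 (c : Nat) : Nat := @Bool.rec (fun _ => Nat) (Atab_s_2133_2139 c) (Atab_s_2139_2145 c) (Nat.ble 2139 c)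
noncomputable def Atab_s_2146_2148 (c : Nat) : Nat := @Bool.rec (fun _ => Nat) (Atab_2146) (Atab_2147) (Nat.ble 2147 c)
noncomputable def Atab_s_2145_2148 (c : Nat) : Nat := @Bool.rec (fun _ => Nat) (Atab_2145) (Atab_s_2146_2148 c) (Nat.ble 2146 c)
noncomputable def Atab_s_2149_2151 (c : Nat) : Nat := @Bool.rec (fun _ => Nat) (Atab_2149) (Atab_2150) (Nat.ble 2150 c)
noncomputable def Atab_s_2148_2151 (c : Nat) : Nat := @Bool.rec (fun _ => Nat) (Atab_2148) (Atab_s_2149_2151 c) (Nat.ble 2149 c)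
noncomputable def Atab_s_2145_2151 (c : Nat) : Nat := @Bool.rec (fun _ => Nat) (Atab_s_2145_2148 c) (Atab_s_2148_2151 c) (Nat.ble 2148 c)
noncomputable def Atab_s_2152_2154 (c : Nat) : Nat := @Bool.rec (fun _ => Nat) (Atab_2152) (Atab_2153) (Nat.ble 2153 c)
noncomputable def Atab_s_2151_2154 (c : Nat) : Nat := @Bool.rec (fun _ => Nat) (Atab_2151) (Atab_s_2152_2154 c) (Nat.ble 2152 c)
noncomputable def Atab_s_2154_2156 (c : Nat) : Nat := @Bool.rec (fun _ => Nat) (Atab_2154) (Atab_2155) (Nat.ble 2155 c)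
noncomputable def Atab_s_2156_2158 (c : Nat) : Nat := @Bool.rec (fun _ => Nat) (Atab_2156) (Atab_2157) (Nat.ble 2157 c)
noncomputable def Atab_s_2154_2158 (c : Nat) : Nat := @Bool.rec (fun _ => Nat) (Atab_s_2154_2156 c) (Atab_s_2156_2158 c) (Nat.ble 2156 c)
noncomputable def Atab_s_2151_2158 (c : Nat) : Nat := @Bool.rec (fun _ => Nat) (Atab_s_2151_2154 c) (Atab_s_2154_2158 c) (Nat.ble 2154 c)
noncomputable def Atab_s_2145_2158 (c : Nat) : Nat := @Bool.rec (fun _ => Nat) (Atab_s_2145_2151 c) (Atab_s_2151_2158 c) (Nat.ble 2151 c)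
noncomputable def Atab_s_2133_2158 (c : Nat) : Nat := @Bool.rec (fun _ => Nat) (Atab_s_2133_2145 c) (Atab_s_2145_2158 c) (Nat.ble 2145 c)
noncomputable def Atab_s_2159_2161 (c : Nat) : Nat := @Bool.rec (fun _ => Nat) (Atab_2159) (Atab_2160) (Nat.ble 2160 c)
noncomputable def Atab_s_2158_2161 (c : Nat) : Nat := @Bool.rec (fun _ => Nat) (Atab_2158) (Atab_s_2159_2161 c) (Nat.ble 2159 c)
noncomputable def Atab_s_2162_2164 (c : Nat) : Nat := @Bool.rec (fun _ => Nat) (Atab_2162) (Atab_2163) (Nat.ble 2163 c)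
noncomputable def Atab_s_2161_2164 (c : Nat) : Nat := @Bool.rec (fun _ => Nat) (Atab_2161) (Atab_s_2162_2164 c) (Nat.ble 2162 c)
noncomputable def Atab_s_2158_2164 (c : Nat) : Nat := @Bool.rec (fun _ => Nat) (Atab_s_2158_2161 c) (Atab_s_2161_2164 c) (Nat.ble 2161 c)
noncomputable def Atab_s_2165_2167 (c : Nat) : Nat := @Bool.rec (fun _ => Nat) (Atab_2165) (Atab_2166) (Nat.ble 2166 c)
noncomputable def Atab_s_2164_2167 (c : Nat) : Nat := @Bool.rec (fun _ => Nat) (Atab_2164) (Atab_s_2165_2167 c) (Nat.ble 2165 c)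
noncomputable def Atab_s_2168_2170 (c : Nat) : Nat := @Bool.rec (fun _ => Nat) (Atab_2168) (Atab_2169) (Nat.ble 2169 c)
noncomputable def Atab_s_2167_2170 (c : Nat) : Nat := @Bool.rec (fun _ => Nat) (Atab_2167) (Atab_s_2168_2170 c) (Nat.ble 2168 c)
noncomputable def Atab_s_2164_2170 (c : Nat) : Nat := @Bool.rec (fun _ => Nat) (Atab_s_2164_2167 c) (Atab_s_2167_2170 c) (Nat.ble 2167 c)
noncomputable def Atab_s_2158_2170 (c : Nat) : Nat := @Bool.rec (fun _ => Nat) (Atab_s_2158_2164 c) (Atab_s_2164_2170 c) (Nat.ble 2164 c)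
noncomputable def Atab_s_2171_2173 (c : Nat) : Nat := @Bool.rec (fun _ => Nat) (Atab_2171) (Atab_2172) (Nat.ble 2172 c)
noncomputable def Atab_s_2170_2173 (c : Nat) : Nat := @Bool.rec (fun _ => Nat) (Atab_2170) (Atab_s_2171_2173 c) (Nat.ble 2171 c)
noncomputable def Atab_s_2174_2176 (c : Nat) : Nat := @Bool.rec (fun _ => Nat) (Atab_2174) (Atab_2175) (Nat.ble 2175 c)
noncomputable def Atab_s_2173_2176 (c : Nat) : Nat := @Bool.rec (fun _ => Nat) (Atab_2173) (Atab_s_2174_2176 c) (Nat.ble 2174 c)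
noncomputable def Atab_s_2170_2176 (c : Nat) : Nat := @Bool.rec (fun _ => Nat) (Atab_s_2170_2173 c) (Atab_s_2173_2176 c) (Nat.ble 2173 c)
noncomputable def Atab_s_2177_2179 (c : Nat) : Nat := @Bool.rec (fun _ => Nat) (Atab_2177) (Atab_2178) (Nat.ble 2178 c)
noncomputable def Atab_s_2176_2179 (c : Nat) : Nat := @Bool.rec (fun _ => Nat) (Atab_2176) (Atab_s_2177_2179 c) (Nat.ble 2177 c)
noncomputable def Atab_s_2179_2181 (c : Nat) : Nat := @Bool.rec (fun _ => Nat) (Atab_2179) (Atab_2180) (Nat.ble 2180 c)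
noncomputable def Atab_s_2181_2183 (c : Nat) : Nat := @Bool.rec (fun _ => Nat) (Atab_2181) (Atab_2182) (Nat.ble 2182 c)
noncomputable def Atab_s_2179_2183 (c : Nat) : Nat := @Bool.rec (fun _ => Nat) (Atab_s_2179_2181 c) (Atab_s_2181_2183 c) (Nat.ble 2181 c)
noncomputable def Atab_s_2176_2183 (c : Nat) : Nat := @Bool.rec (fun _ => Nat) (Atab_s_2176_2179 c) (Atab_s_2179_2183 c) (Nat.ble 2179 c)
noncomputable def Atab_s_2170_2183 (c : Nat) : Nat := @Bool.rec (fun _ => Nat) (Atab_s_2170_2176 c) (Atab_s_2176_2183 c) (Nat.ble 2176 c)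
noncomputable def Atab_s_2158_2183 (c : Nat) : Nat := @Bool.rec (fun _ => Nat) (Atab_s_2158_2170 c) (Atab_s_2170_2183 c) (Nat.ble 2170 c)
noncomputable def Atab_s_2133_2183 (c : Nat) : Nat := @Bool.rec (fun _ => Nat) (Atab_s_2133_2158 c) (Atab_s_2158_2183 c) (Nat.ble 2158 c)
noncomputable def Atab_s_2084_2183 (c : Nat) : Nat := @Bool.rec (fun _ => Nat) (Atab_s_2084_2133 c) (Atab_s_2133_2183 c) (Nat.ble 2133 c)
noncomputable def Atab_s_1985_2183 (c : Nat) : Nat := @Bool.rec (fun _ => Nat) (Atab_s_1985_2084 c) (Atab_s_2084_2183 c) (Nat.ble 2084 c)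
noncomputable def Atab_s_2184_2186 (c : Nat) : Nat := @Bool.rec (fun _ => Nat) (Atab_2184) (Atab_2185) (Nat.ble 2185 c)
noncomputable def Atab_s_2183_2186 (c : Nat) : Nat := @Bool.rec (fun _ => Nat) (Atab_2183) (Atab_s_2184_2186 c) (Nat.ble 2184 c)
noncomputable def Atab_s_2187_2189 (c : Nat) : Nat := @Bool.rec (fun _ => Nat) (Atab_2187) (Atab_2188) (Nat.ble 2188 c)
noncomputable def Atab_s_2186_2189 (c : Nat) : Nat := @Bool.rec (fun _ => Nat) (Atab_2186) (Atab_s_2187_2189 c) (Nat.ble 2187 c)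
noncomputable def Atab_s_2183_2189 (c : Nat) : Nat := @Bool.rec (fun _ => Nat) (Atab_s_2183_2186 c) (Atab_s_2186_2189 c) (Nat.ble 2186 c)
noncomputable def Atab_s_2190_2192 (c : Nat) : Nat := @Bool.rec (fun _ => Nat) (Atab_2190) (Atab_2191) (Nat.ble 2191 c)
noncomputable def Atab_s_2189_2192 (c : Nat) : Nat := @Bool.rec (fun _ => Nat) (Atab_2189) (Atab_s_2190_2192 c) (Nat.ble 2190 c)
noncomputable def Atab_s_2193_2195 (c : Nat) : Nat := @Bool.rec (fun _ => Nat) (Atab_2193) (Atab_2194) (Nat.ble 2194 c)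
noncomputable def Atab_s_2192_2195 (c : Nat) : Nat := @Bool.rec (fun _ => Nat) (Atab_2192) (Atab_s_2193_2195 c) (Nat.ble 2193 c)
noncomputable def Atab_s_2189_2195 (c : Nat) : Nat := @Bool.rec (fun _ => Nat) (Atab_s_2189_2192 c) (Atab_s_2192_2195 c) (Nat.ble 2192 c)
noncomputable def Atab_s_2183_2195 (c : Nat) : Nat := @Bool.rec (fun _ => Nat) (Atab_s_2183_2189 c) (Atab_s_2189_2195 c) (Nat.ble 2189 c)
noncomputable def Atab_s_2196_2198 (c : Nat) : Nat := @Bool.rec (fun _ => Nat) (Atab_2196) (Atab_2197) (Nat.ble 2197 c)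
noncomputable def Atab_s_2195_2198 (c : Nat) : Nat := @Bool.rec (fun _ => Nat) (Atab_2195) (Atab_s_2196_2198 c) (Nat.ble 2196 c)
noncomputable def Atab_s_2199_2201 (c : Nat) : Nat := @Bool.rec (fun _ => Nat) (Atab_2199) (Atab_2200) (Nat.ble 2200 c)
noncomputable def Atab_s_2198_2201 (c : Nat) : Nat := @Bool.rec (fun _ => Nat) (Atab_2198) (Atab_s_2199_2201 c) (Nat.ble 2199 c)
noncomputable def Atab_s_2195_2201 (c : Nat) : Nat := @Bool.rec (fun _ => Nat) (Atab_s_2195_2198 c) (Atab_s_2198_2201 c) (Nat.ble 2198 c)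
noncomputable def Atab_s_2202_2204 (c : Nat) : Nat := @Bool.rec (fun _ => Nat) (Atab_2202) (Atab_2203) (Nat.ble 2203 c)
noncomputable def Atab_s_2201_2204 (c : Nat) : Nat := @Bool.rec (fun _ => Nat) (Atab_2201) (Atab_s_2202_2204 c) (Nat.ble 2202 c)
noncomputable def Atab_s_2205_2207 (c : Nat) : Nat := @Bool.rec (fun _ => Nat) (Atab_2205) (Atab_2206) (Nat.ble 2206 c)
noncomputable def Atab_s_2204_2207 (c : Nat) : Nat := @Bool.rec (fun _ => Nat) (Atab_2204) (Atab_s_2205_2207 c) (Nat.ble 2205 c)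
noncomputable def Atab_s_2201_2207 (c : Nat) : Nat := @Bool.rec (fun _ => Nat) (Atab_s_2201_2204 c) (Atab_s_2204_2207 c) (Nat.ble 2204 c)
noncomputable def Atab_s_2195_2207 (c : Nat) : Nat := @Bool.rec (fun _ => Nat) (Atab_s_2195_2201 c) (Atab_s_2201_2207 c) (Nat.ble 2201 c)
noncomputable def Atab_s_2183_2207 (c : Nat) : Nat := @Bool.rec (fun _ => Nat) (Atab_s_2183_2195 c) (Atab_s_2195_2207 c) (Nat.ble 2195 c)
noncomputable def Atab_s_2208_2210 (c : Nat) : Nat := @Bool.rec (fun _ => Nat) (Atab_2208) (Atab_2209) (Nat.ble 2209 c)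
noncomputable def Atab_s_2207_2210 (c : Nat) : Nat := @Bool.rec (fun _ => Nat) (Atab_2207) (Atab_s_2208_2210 c) (Nat.ble 2208 c)
noncomputable def Atab_s_2211_2213 (c : Nat) : Nat := @Bool.rec (fun _ => Nat) (Atab_2211) (Atab_2212) (Nat.ble 2212 c)
noncomputable def Atab_s_2210_2213 (c : Nat) : Nat := @Bool.rec (fun _ => Nat) (Atab_2210) (Atab_s_2211_2213 c) (Nat.ble 2211 c)
noncomputable def Atab_s_2207_2213 (c : Nat) : Nat := @Bool.rec (fun _ => Nat) (Atab_s_2207_2210 c) (Atab_s_2210_2213 c) (Nat.ble 2210 c)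
noncomputable def Atab_s_2214_2216 (c : Nat) : Nat := @Bool.rec (fun _ => Nat) (Atab_2214) (Atab_2215) (Nat.ble 2215 c)
noncomputable def Atab_s_2213_2216 (c : Nat) : Nat := @Bool.rec (fun _ => Nat) (Atab_2213) (Atab_s_2214_2216 c) (Nat.ble 2214 c)
noncomputable def Atab_s_2217_2219 (c : Nat) : Nat := @Bool.rec (fun _ => Nat) (Atab_2217) (Atab_2218) (Nat.ble 2218 c)
noncomputable def Atab_s_2216_2219 (c : Nat) : Nat := @Bool.rec (fun _ => Nat) (Atab_2216) (Atab_s_2217_2219 c) (Nat.ble 2217 c)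
noncomputable def Atab_s_2213_2219 (c : Nat) : Nat := @Bool.rec (fun _ => Nat) (Atab_s_2213_2216 c) (Atab_s_2216_2219 c) (Nat.ble 2216 c)
noncomputable def Atab_s_2207_2219 (c : Nat) : Nat := @Bool.rec (fun _ => Nat) (Atab_s_2207_2213 c) (Atab_s_2213_2219 c) (Nat.ble 2213 c)
noncomputable def Atab_s_2220_2222 (c : Nat) : Nat := @Bool.rec (fun _ => Nat) (Atab_2220) (Atab_2221) (Nat.ble 2221 c)
noncomputable def Atab_s_2219_2222 (c : Nat) : Nat := @Bool.rec (fun _ => Nat) (Atab_2219) (Atab_s_2220_2222 c) (Nat.ble 2220 c)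
noncomputable def Atab_s_2223_2225 (c : Nat) : Nat := @Bool.rec (fun _ => Nat) (Atab_2223) (Atab_2224) (Nat.ble 2224 c)
noncomputable def Atab_s_2222_2225 (c : Nat) : Nat := @Bool.rec (fun _ => Nat) (Atab_2222) (Atab_s_2223_2225 c) (Nat.ble 2223 c)
noncomputable def Atab_s_2219_2225 (c : Nat) : Nat := @Bool.rec (fun _ => Nat) (Atab_s_2219_2222 c) (Atab_s_2222_2225 c) (Nat.ble 2222 c)
noncomputable def Atab_s_2226_2228 (c : Nat) : Nat := @Bool.rec (fun _ => Nat) (Atab_2226) (Atab_2227) (Nat.ble 2227 c)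
noncomputable def Atab_s_2225_2228 (c : Nat) : Nat := @Bool.rec (fun _ => Nat) (Atab_2225) (Atab_s_2226_2228 c) (Nat.ble 2226 c)
noncomputable def Atab_s_2228_2230 (c : Nat) : Nat := @Bool.rec (fun _ => Nat) (Atab_2228) (Atab_2229) (Nat.ble 2229 c)
noncomputable def Atab_s_2230_2232 (c : Nat) : Nat := @Bool.rec (fun _ => Nat) (Atab_2230) (Atab_2231) (Nat.ble 2231 c)
noncomputable def Atab_s_2228_2232 (c : Nat) : Nat := @Bool.rec (fun _ => Nat) (Atab_s_2228_2230 c) (Atab_s_2230_2232 c) (Nat.ble 2230 c)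
noncomputable def Atab_s_2225_2232 (c : Nat) : Nat := @Bool.rec (fun _ => Nat) (Atab_s_2225_2228 c) (Atab_s_2228_2232 c) (Nat.ble 2228 c)
noncomputable def Atab_s_2219_2232 (c : Nat) : Nat := @Bool.rec (fun _ => Nat) (Atab_s_2219_2225 c) (Atab_s_2225_2232 c) (Nat.ble 2225 c)
noncomputable def Atab_s_2207_2232 (c : Nat) : Nat := @Bool.rec (fun _ => Nat) (Atab_s_2207_2219 c) (Atab_s_2219_2232 c) (Nat.ble 2219 c)
noncomputable def Atab_s_2183_2232 (c : Nat) : Nat := @Bool.rec (fun _ => Nat) (Atab_s_2183_2207 c) (Atab_s_2207_2232 c) (Nat.ble 2207 c)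
noncomputable def Atab_s_2233_2235 (c : Nat) : Nat := @Bool.rec (fun _ => Nat) (Atab_2233) (Atab_2234) (Nat.ble 2234 c)
noncomputable def Atab_s_2232_2235 (c : Nat) : Nat := @Bool.rec (fun _ => Nat) (Atab_2232) (Atab_s_2233_2235 c) (Nat.ble 2233 c)
noncomputable def Atab_s_2236_2238 (c : Nat) : Nat := @Bool.rec (fun _ => Nat) (Atab_2236) (Atab_2237) (Nat.ble 2237 c)
noncomputable def Atab_s_2235_2238 (c : Nat) : Nat := @Bool.rec (fun _ => Nat) (Atab_2235) (Atab_s_2236_2238 c) (Nat.ble 2236 c)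
noncomputable def Atab_s_2232_2238 (c : Nat) : Nat := @Bool.rec (fun _ => Nat) (Atab_s_2232_2235 c) (Atab_s_2235_2238 c) (Nat.ble 2235 c)
noncomputable def Atab_s_2239_2241 (c : Nat) : Nat := @Bool.rec (fun _ => Nat) (Atab_2239) (Atab_2240) (Nat.ble 2240 c)
noncomputable def Atab_s_2238_2241 (c : Nat) : Nat := @Bool.rec (fun _ => Nat) (Atab_2238) (Atab_s_2239_2241 c) (Nat.ble 2239 c)
noncomputable def Atab_s_2242_2244 (c : Nat) : Nat := @Bool.rec (fun _ => Nat) (Atab_2242) (Atab_2243) (Nat.ble 2243 c)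
noncomputable def Atab_s_2241_2244 (c : Nat) : Nat := @Bool.rec (fun _ => Nat) (Atab_2241) (Atab_s_2242_2244 c) (Nat.ble 2242 c)
noncomputable def Atab_s_2238_2244 (c : Nat) : Nat := @Bool.rec (fun _ => Nat) (Atab_s_2238_2241 c) (Atab_s_2241_2244 c) (Nat.ble 2241 c)
noncomputable def Atab_s_2232_2244 (c : Nat) : Nat := @Bool.rec (fun _ => Nat) (Atab_s_2232_2238 c) (Atab_s_2238_2244 c) (Nat.ble 2238 c)
noncomputable def Atab_s_2245_2247 (c : Nat) : Nat := @Bool.rec (fun _ => Nat) (Atab_2245) (Atab_2246) (Nat.ble 2246 c)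
noncomputable def Atab_s_2244_2247 (c : Nat) : Nat := @Bool.rec (fun _ => Nat) (Atab_2244) (Atab_s_2245_2247 c) (Nat.ble 2245 c)
noncomputable def Atab_s_2248_2250 (c : Nat) : Nat := @Bool.rec (fun _ => Nat) (Atab_2248) (Atab_2249) (Nat.ble 2249 c)
noncomputable def Atab_s_2247_2250 (c : Nat) : Nat := @Bool.rec (fun _ => Nat) (Atab_2247) (Atab_s_2248_2250 c) (Nat.ble 2248 c)
noncomputable def Atab_s_2244_2250 (c : Nat) : Nat := @Bool.rec (fun _ => Nat) (Atab_s_2244_2247 c) (Atab_s_2247_2250 c) (Nat.ble 2247 c)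
noncomputable def Atab_s_2251_2253 (c : Nat) : Nat := @Bool.rec (fun _ => Nat) (Atab_2251) (Atab_2252) (Nat.ble 2252 c)
noncomputable def Atab_s_2250_2253 (c : Nat) : Nat := @Bool.rec (fun _ => Nat) (Atab_2250) (Atab_s_2251_2253 c) (Nat.ble 2251 c)
noncomputable def Atab_s_2253_2255 (c : Nat) : Nat := @Bool.rec (fun _ => Nat) (Atab_2253) (Atab_2254) (Nat.ble 2254 c)
noncomputable def Atab_s_2255_2257 (c : Nat) : Nat := @Bool.rec (fun _ => Nat) (Atab_2255) (Atab_2256) (Nat.ble 2256 c)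
noncomputable def Atab_s_2253_2257 (c : Nat) : Nat := @Bool.rec (fun _ => Nat) (Atab_s_2253_2255 c) (Atab_s_2255_2257 c) (Nat.ble 2255 c)
noncomputable def Atab_s_2250_2257 (c : Nat) : Nat := @Bool.rec (fun _ => Nat) (Atab_s_2250_2253 c) (Atab_s_2253_2257 c) (Nat.ble 2253 c)
noncomputable def Atab_s_2244_2257 (c : Nat) : Nat := @Bool.rec (fun _ => Nat) (Atab_s_2244_2250 c) (Atab_s_2250_2257 c) (Nat.ble 2250 c)
noncomputable def Atab_s_2232_2257 (c : Nat) : Nat := @Bool.rec (fun _ => Nat) (Atab_s_2232_2244 c) (Atab_s_2244_2257 c) (Nat.ble 2244 c)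
noncomputable def Atab_s_2258_2260 (c : Nat) : Nat := @Bool.rec (fun _ => Nat) (Atab_2258) (Atab_2259) (Nat.ble 2259 c)
noncomputable def Atab_s_2257_2260 (c : Nat) : Nat := @Bool.rec (fun _ => Nat) (Atab_2257) (Atab_s_2258_2260 c) (Nat.ble 2258 c)
noncomputable def Atab_s_2261_2263 (c : Nat) : Nat := @Bool.rec (fun _ => Nat) (Atab_2261) (Atab_2262) (Nat.ble 2262 c)
noncomputable def Atab_s_2260_2263 (c : Nat) : Nat := @Bool.rec (fun _ => Nat) (Atab_2260) (Atab_s_2261_2263 c) (Nat.ble 2261 c)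
noncomputable def Atab_s_2257_2263 (c : Nat) : Nat := @Bool.rec (fun _ => Nat) (Atab_s_2257_2260 c) (Atab_s_2260_2263 c) (Nat.ble 2260 c)
noncomputable def Atab_s_2264_2266 (c : Nat) : Nat := @Bool.rec (fun _ => Nat) (Atab_2264) (Atab_2265) (Nat.ble 2265 c)
noncomputable def Atab_s_2263_2266 (c : Nat) : Nat := @Bool.rec (fun _ => Nat) (Atab_2263) (Atab_s_2264_2266 c) (Nat.ble 2264 c)
noncomputable def Atab_s_2267_2269 (c : Nat) : Nat := @Bool.rec (fun _ => Nat) (Atab_2267) (Atab_2268) (Nat.ble 2268 c)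
noncomputable def Atab_s_2266_2269 (c : Nat) : Nat := @Bool.rec (fun _ => Nat) (Atab_2266) (Atab_s_2267_2269 c) (Nat.ble 2267 c)
noncomputable def Atab_s_2263_2269 (c : Nat) : Nat := @Bool.rec (fun _ => Nat) (Atab_s_2263_2266 c) (Atab_s_2266_2269 c) (Nat.ble 2266 c)
noncomputable def Atab_s_2257_2269 (c : Nat) : Nat := @Bool.rec (fun _ => Nat) (Atab_s_2257_2263 c) (Atab_s_2263_2269 c) (Nat.ble 2263 c)
noncomputable def Atab_s_2270_2272 (c : Nat) : Nat := @Bool.rec (fun _ => Nat) (Atab_2270) (Atab_2271) (Nat.ble 2271 c)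
noncomputable def Atab_s_2269_2272 (c : Nat) : Nat := @Bool.rec (fun _ => Nat) (Atab_2269) (Atab_s_2270_2272 c) (Nat.ble 2270 c)
noncomputable def Atab_s_2273_2275 (c : Nat) : Nat := @Bool.rec (fun _ => Nat) (Atab_2273) (Atab_2274) (Nat.ble 2274 c)
noncomputable def Atab_s_2272_2275 (c : Nat) : Nat := @Bool.rec (fun _ => Nat) (Atab_2272) (Atab_s_2273_2275 c) (Nat.ble 2273 c)
noncomputable def Atab_s_2269_2275 (c : Nat) : Nat := @Bool.rec (fun _ => Nat) (Atab_s_2269_2272 c) (Atab_s_2272_2275 c) (Nat.ble 2272 c)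
noncomputable def Atab_s_2276_2278 (c : Nat) : Nat := @Bool.rec (fun _ => Nat) (Atab_2276) (Atab_2277) (Nat.ble 2277 c)
noncomputable def Atab_s_2275_2278 (c : Nat) : Nat := @Bool.rec (fun _ => Nat) (Atab_2275) (Atab_s_2276_2278 c) (Nat.ble 2276 c)
noncomputable def Atab_s_2278_2280 (c : Nat) : Nat := @Bool.rec (fun _ => Nat) (Atab_2278) (Atab_2279) (Nat.ble 2279 c)
noncomputable def Atab_s_2280_2282 (c : Nat) : Nat := @Bool.rec (fun _ => Nat) (Atab_2280) (Atab_2281) (Nat.ble 2281 c)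
noncomputable def Atab_s_2278_2282 (c : Nat) : Nat := @Bool.rec (fun _ => Nat) (Atab_s_2278_2280 c) (Atab_s_2280_2282 c) (Nat.ble 2280 c)
noncomputable def Atab_s_2275_2282 (c : Nat) : Nat := @Bool.rec (fun _ => Nat) (Atab_s_2275_2278 c) (Atab_s_2278_2282 c) (Nat.ble 2278 c)
noncomputable def Atab_s_2269_2282 (c : Nat) : Nat := @Bool.rec (fun _ => Nat) (Atab_s_2269_2275 c) (Atab_s_2275_2282 c) (Nat.ble 2275 c)
noncomputable def Atab_s_2257_2282 (c : Nat) : Nat := @Bool.rec (fun _ => Nat) (Atab_s_2257_2269 c) (Atab_s_2269_2282 c) (Nat.ble 2269 c)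
noncomputable def Atab_s_2232_2282 (c : Nat) : Nat := @Bool.rec (fun _ => Nat) (Atab_s_2232_2257 c) (Atab_s_2257_2282 c) (Nat.ble 2257 c)
noncomputable def Atab_s_2183_2282 (c : Nat) : Nat := @Bool.rec (fun _ => Nat) (Atab_s_2183_2232 c) (Atab_s_2232_2282 c) (Nat.ble 2232 c)
noncomputable def Atab_s_2283_2285 (c : Nat) : Nat := @Bool.rec (fun _ => Nat) (Atab_2283) (Atab_2284) (Nat.ble 2284 c)
noncomputable def Atab_s_2282_2285 (c : Nat) : Nat := @Bool.rec (fun _ => Nat) (Atab_2282) (Atab_s_2283_2285 c) (Nat.ble 2283 c)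
noncomputable def Atab_s_2286_2288 (c : Nat) : Nat := @Bool.rec (fun _ => Nat) (Atab_2286) (Atab_2287) (Nat.ble 2287 c)
noncomputable def Atab_s_2285_2288 (c : Nat) : Nat := @Bool.rec (fun _ => Nat) (Atab_2285) (Atab_s_2286_2288 c) (Nat.ble 2286 c)
noncomputable def Atab_s_2282_2288 (c : Nat) : Nat := @Bool.rec (fun _ => Nat) (Atab_s_2282_2285 c) (Atab_s_2285_2288 c) (Nat.ble 2285 c)
noncomputable def Atab_s_2289_2291 (c : Nat) : Nat := @Bool.rec (fun _ => Nat) (Atab_2289) (Atab_2290) (Nat.ble 2290 c)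
noncomputable def Atab_s_2288_2291 (c : Nat) : Nat := @Bool.rec (fun _ => Nat) (Atab_2288) (Atab_s_2289_2291 c) (Nat.ble 2289 c)
noncomputable def Atab_s_2292_2294 (c : Nat) : Nat := @Bool.rec (fun _ => Nat) (Atab_2292) (Atab_2293) (Nat.ble 2293 c)
noncomputable def Atab_s_2291_2294 (c : Nat) : Nat := @Bool.rec (fun _ => Nat) (Atab_2291) (Atab_s_2292_2294 c) (Nat.ble 2292 c)
noncomputable def Atab_s_2288_2294 (c : Nat) : Nat := @Bool.rec (fun _ => Nat) (Atab_s_2288_2291 c) (Atab_s_2291_2294 c) (Nat.ble 2291 c)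
noncomputable def Atab_s_2282_2294 (c : Nat) : Nat := @Bool.rec (fun _ => Nat) (Atab_s_2282_2288 c) (Atab_s_2288_2294 c) (Nat.ble 2288 c)
noncomputable def Atab_s_2295_2297 (c : Nat) : Nat := @Bool.rec (fun _ => Nat) (Atab_2295) (Atab_2296) (Nat.ble 2296 c)
noncomputable def Atab_s_2294_2297 (c : Nat) : Nat := @Bool.rec (fun _ => Nat) (Atab_2294) (Atab_s_2295_2297 c) (Nat.ble 2295 c)
noncomputable def Atab_s_2298_2300 (c : Nat) : Nat := @Bool.rec (fun _ => Nat) (Atab_2298) (Atab_2299) (Nat.ble 2299 c)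
noncomputable def Atab_s_2297_2300 (c : Nat) : Nat := @Bool.rec (fun _ => Nat) (Atab_2297) (Atab_s_2298_2300 c) (Nat.ble 2298 c)
noncomputable def Atab_s_2294_2300 (c : Nat) : Nat := @Bool.rec (fun _ => Nat) (Atab_s_2294_2297 c) (Atab_s_2297_2300 c) (Nat.ble 2297 c)
noncomputable def Atab_s_2301_2303 (c : Nat) : Nat := @Bool.rec (fun _ => Nat) (Atab_2301) (Atab_2302) (Nat.ble 2302 c)
noncomputable def Atab_s_2300_2303 (c : Nat) : Nat := @Bool.rec (fun _ => Nat) (Atab_2300) (Atab_s_2301_2303 c) (Nat.ble 2301 c)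
noncomputable def Atab_s_2303_2305 (c : Nat) : Nat := @Bool.rec (fun _ => Nat) (Atab_2303) (Atab_2304) (Nat.ble 2304 c)
noncomputable def Atab_s_2305_2307 (c : Nat) : Nat := @Bool.rec (fun _ => Nat) (Atab_2305) (Atab_2306) (Nat.ble 2306 c)
noncomputable def Atab_s_2303_2307 (c : Nat) : Nat := @Bool.rec (fun _ => Nat) (Atab_s_2303_2305 c) (Atab_s_2305_2307 c) (Nat.ble 2305 c)
noncomputable def Atab_s_2300_2307 (c : Nat) : Nat := @Bool.rec (fun _ => Nat) (Atab_s_2300_2303 c) (Atab_s_2303_2307 c) (Nat.ble 2303 c)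
noncomputable def Atab_s_2294_2307 (c : Nat) : Nat := @Bool.rec (fun _ => Nat) (Atab_s_2294_2300 c) (Atab_s_2300_2307 c) (Nat.ble 2300 c)
noncomputable def Atab_s_2282_2307 (c : Nat) : Nat := @Bool.rec (fun _ => Nat) (Atab_s_2282_2294 c) (Atab_s_2294_2307 c) (Nat.ble 2294 c)
noncomputable def Atab_s_2308_2310 (c : Nat) : Nat := @Bool.rec (fun _ => Nat) (Atab_2308) (Atab_2309) (Nat.ble 2309 c)
noncomputable def Atab_s_2307_2310 (c : Nat) : Nat := @Bool.rec (fun _ => Nat) (Atab_2307) (Atab_s_2308_2310 c) (Nat.ble 2308 c)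
noncomputable def Atab_s_2311_2313 (c : Nat) : Nat := @Bool.rec (fun _ => Nat) (Atab_2311) (Atab_2312) (Nat.ble 2312 c)
noncomputable def Atab_s_2310_2313 (c : Nat) : Nat := @Bool.rec (fun _ => Nat) (Atab_2310) (Atab_s_2311_2313 c) (Nat.ble 2311 c)
noncomputable def Atab_s_2307_2313 (c : Nat) : Nat := @Bool.rec (fun _ => Nat) (Atab_s_2307_2310 c) (Atab_s_2310_2313 c) (Nat.ble 2310 c)
noncomputable def Atab_s_2314_2316 (c : Nat) : Nat := @Bool.rec (fun _ => Nat) (Atab_2314) (Atab_2315) (Nat.ble 2315 c)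
noncomputable def Atab_s_2313_2316 (c : Nat) : Nat := @Bool.rec (fun _ => Nat) (Atab_2313) (Atab_s_2314_2316 c) (Nat.ble 2314 c)
noncomputable def Atab_s_2317_2319 (c : Nat) : Nat := @Bool.rec (fun _ => Nat) (Atab_2317) (Atab_2318) (Nat.ble 2318 c)
noncomputable def Atab_s_2316_2319 (c : Nat) : Nat := @Bool.rec (fun _ => Nat) (Atab_2316) (Atab_s_2317_2319 c) (Nat.ble 2317 c)
noncomputable def Atab_s_2313_2319 (c : Nat) : Nat := @Bool.rec (fun _ => Nat) (Atab_s_2313_2316 c) (Atab_s_2316_2319 c) (Nat.ble 2316 c)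
noncomputable def Atab_s_2307_2319 (c : Nat) : Nat := @Bool.rec (fun _ => Nat) (Atab_s_2307_2313 c) (Atab_s_2313_2319 c) (Nat.ble 2313 c)
noncomputable def Atab_s_2320_2322 (c : Nat) : Nat := @Bool.rec (fun _ => Nat) (Atab_2320) (Atab_2321) (Nat.ble 2321 c)
noncomputable def Atab_s_2319_2322 (c : Nat) : Nat := @Bool.rec (fun _ => Nat) (Atab_2319) (Atab_s_2320_2322 c) (Nat.ble 2320 c)
noncomputable def Atab_s_2323_2325 (c : Nat) : Nat := @Bool.rec (fun _ => Nat) (Atab_2323) (Atab_2324) (Nat.ble 2324 c)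
noncomputable def Atab_s_2322_2325 (c : Nat) : Nat := @Bool.rec (fun _ => Nat) (Atab_2322) (Atab_s_2323_2325 c) (Nat.ble 2323 c)
noncomputable def Atab_s_2319_2325 (c : Nat) : Nat := @Bool.rec (fun _ => Nat) (Atab_s_2319_2322 c) (Atab_s_2322_2325 c) (Nat.ble 2322 c)
noncomputable def Atab_s_2326_2328 (c : Nat) : Nat := @Bool.rec (fun _ => Nat) (Atab_2326) (Atab_2327) (Nat.ble 2327 c)
noncomputable def Atab_s_2325_2328 (c : Nat) : Nat := @Bool.rec (fun _ => Nat) (Atab_2325) (Atab_s_2326_2328 c) (Nat.ble 2326 c)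
noncomputable def Atab_s_2328_2330 (c : Nat) : Nat := @Bool.rec (fun _ => Nat) (Atab_2328) (Atab_2329) (Nat.ble 2329 c)
noncomputable def Atab_s_2330_2332 (c : Nat) : Nat := @Bool.rec (fun _ => Nat) (Atab_2330) (Atab_2331) (Nat.ble 2331 c)
noncomputable def Atab_s_2328_2332 (c : Nat) : Nat := @Bool.rec (fun _ => Nat) (Atab_s_2328_2330 c) (Atab_s_2330_2332 c) (Nat.ble 2330 c)
noncomputable def Atab_s_2325_2332 (c : Nat) : Nat := @Bool.rec (fun _ => Nat) (Atab_s_2325_2328 c) (Atab_s_2328_2332 c) (Nat.ble 2328 c)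
noncomputable def Atab_s_2319_2332 (c : Nat) : Nat := @Bool.rec (fun _ => Nat) (Atab_s_2319_2325 c) (Atab_s_2325_2332 c) (Nat.ble 2325 c)
noncomputable def Atab_s_2307_2332 (c : Nat) : Nat := @Bool.rec (fun _ => Nat) (Atab_s_2307_2319 c) (Atab_s_2319_2332 c) (Nat.ble 2319 c)
noncomputable def Atab_s_2282_2332 (c : Nat) : Nat := @Bool.rec (fun _ => Nat) (Atab_s_2282_2307 c) (Atab_s_2307_2332 c) (Nat.ble 2307 c)
noncomputable def Atab_s_2333_2335 (c : Nat) : Nat := @Bool.rec (fun _ => Nat) (Atab_2333) (Atab_2334) (Nat.ble 2334 c)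
noncomputable def Atab_s_2332_2335 (c : Nat) : Nat := @Bool.rec (fun _ => Nat) (Atab_2332) (Atab_s_2333_2335 c) (Nat.ble 2333 c)
noncomputable def Atab_s_2336_2338 (c : Nat) : Nat := @Bool.rec (fun _ => Nat) (Atab_2336) (Atab_2337) (Nat.ble 2337 c)
noncomputable def Atab_s_2335_2338 (c : Nat) : Nat := @Bool.rec (fun _ => Nat) (Atab_2335) (Atab_s_2336_2338 c) (Nat.ble 2336 c)
noncomputable def Atab_s_2332_2338 (c : Nat) : Nat := @Bool.rec (fun _ => Nat) (Atab_s_2332_2335 c) (Atab_s_2335_2338 c) (Nat.ble 2335 c)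
noncomputable def Atab_s_2339_2341 (c : Nat) : Nat := @Bool.rec (fun _ => Nat) (Atab_2339) (Atab_2340) (Nat.ble 2340 c)
noncomputable def Atab_s_2338_2341 (c : Nat) : Nat := @Bool.rec (fun _ => Nat) (Atab_2338) (Atab_s_2339_2341 c) (Nat.ble 2339 c)
noncomputable def Atab_s_2342_2344 (c : Nat) : Nat := @Bool.rec (fun _ => Nat) (Atab_2342) (Atab_2343) (Nat.ble 2343 c)
noncomputable def Atab_s_2341_2344 (c : Nat) : Nat := @Bool.rec (fun _ => Nat) (Atab_2341) (Atab_s_2342_2344 c) (Nat.ble 2342 c)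
noncomputable def Atab_s_2338_2344 (c : Nat) : Nat := @Bool.rec (fun _ => Nat) (Atab_s_2338_2341 c) (Atab_s_2341_2344 c) (Nat.ble 2341 c)
noncomputable def Atab_s_2332_2344 (c : Nat) : Nat := @Bool.rec (fun _ => Nat) (Atab_s_2332_2338 c) (Atab_s_2338_2344 c) (Nat.ble 2338 c)
noncomputable def Atab_s_2345_2347 (c : Nat) : Nat := @Bool.rec (fun _ => Nat) (Atab_2345) (Atab_2346) (Nat.ble 2346 c)
noncomputable def Atab_s_2344_2347 (c : Nat) : Nat := @Bool.rec (fun _ => Nat) (Atab_2344) (Atab_s_2345_2347 c) (Nat.ble 2345 c)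
noncomputable def Atab_s_2348_2350 (c : Nat) : Nat := @Bool.rec (fun _ => Nat) (Atab_2348) (Atab_2349) (Nat.ble 2349 c)
noncomputable def Atab_s_2347_2350 (c : Nat) : Nat := @Bool.rec (fun _ => Nat) (Atab_2347) (Atab_s_2348_2350 c) (Nat.ble 2348 c)
noncomputable def Atab_s_2344_2350 (c : Nat) : Nat := @Bool.rec (fun _ => Nat) (Atab_s_2344_2347 c) (Atab_s_2347_2350 c) (Nat.ble 2347 c)
noncomputable def Atab_s_2351_2353 (c : Nat) : Nat := @Bool.rec (fun _ => Nat) (Atab_2351) (Atab_2352) (Nat.ble 2352 c)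
noncomputable def Atab_s_2350_2353 (c : Nat) : Nat := @Bool.rec (fun _ => Nat) (Atab_2350) (Atab_s_2351_2353 c) (Nat.ble 2351 c)
noncomputable def Atab_s_2353_2355 (c : Nat) : Nat := @Bool.rec (fun _ => Nat) (Atab_2353) (Atab_2354) (Nat.ble 2354 c)
noncomputable def Atab_s_2355_2357 (c : Nat) : Nat := @Bool.rec (fun _ => Nat) (Atab_2355) (Atab_2356) (Nat.ble 2356 c)
noncomputable def Atab_s_2353_2357 (c : Nat) : Nat := @Bool.rec (fun _ => Nat) (Atab_s_2353_2355 c) (Atab_s_2355_2357 c) (Nat.ble 2355 c)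
noncomputable def Atab_s_2350_2357 (c : Nat) : Nat := @Bool.rec (fun _ => Nat) (Atab_s_2350_2353 c) (Atab_s_2353_2357 c) (Nat.ble 2353 c)
noncomputable def Atab_s_2344_2357 (c : Nat) : Nat := @Bool.rec (fun _ => Nat) (Atab_s_2344_2350 c) (Atab_s_2350_2357 c) (Nat.ble 2350 c)
noncomputable def Atab_s_2332_2357 (c : Nat) : Nat := @Bool.rec (fun _ => Nat) (Atab_s_2332_2344 c) (Atab_s_2344_2357 c) (Nat.ble 2344 c)
noncomputable def Atab_s_2358_2360 (c : Nat) : Nat := @Bool.rec (fun _ => Nat) (Atab_2358) (Atab_2359) (Nat.ble 2359 c)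
noncomputable def Atab_s_2357_2360 (c : Nat) : Nat := @Bool.rec (fun _ => Nat) (Atab_2357) (Atab_s_2358_2360 c) (Nat.ble 2358 c)
noncomputable def Atab_s_2361_2363 (c : Nat) : Nat := @Bool.rec (fun _ => Nat) (Atab_2361) (Atab_2362) (Nat.ble 2362 c)
noncomputable def Atab_s_2360_2363 (c : Nat) : Nat := @Bool.rec (fun _ => Nat) (Atab_2360) (Atab_s_2361_2363 c) (Nat.ble 2361 c)
noncomputable def Atab_s_2357_2363 (c : Nat) : Nat := @Bool.rec (fun _ => Nat) (Atab_s_2357_2360 c) (Atab_s_2360_2363 c) (Nat.ble 2360 c)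
noncomputable def Atab_s_2364_2366 (c : Nat) : Nat := @Bool.rec (fun _ => Nat) (Atab_2364) (Atab_2365) (Nat.ble 2365 c)
noncomputable def Atab_s_2363_2366 (c : Nat) : Nat := @Bool.rec (fun _ => Nat) (Atab_2363) (Atab_s_2364_2366 c) (Nat.ble 2364 c)
noncomputable def Atab_s_2367_2369 (c : Nat) : Nat := @Bool.rec (fun _ => Nat) (Atab_2367) (Atab_2368) (Nat.ble 2368 c)
noncomputable def Atab_s_2366_2369 (c : Nat) : Nat := @Bool.rec (fun _ => Nat) (Atab_2366) (Atab_s_2367_2369 c) (Nat.ble 2367 c)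
noncomputable def Atab_s_2363_2369 (c : Nat) : Nat := @Bool.rec (fun _ => Nat) (Atab_s_2363_2366 c) (Atab_s_2366_2369 c) (Nat.ble 2366 c)
noncomputable def Atab_s_2357_2369 (c : Nat) : Nat := @Bool.rec (fun _ => Nat) (Atab_s_2357_2363 c) (Atab_s_2363_2369 c) (Nat.ble 2363 c)
noncomputable def Atab_s_2370_2372 (c : Nat) : Nat := @Bool.rec (fun _ => Nat) (Atab_2370) (Atab_2371) (Nat.ble 2371 c)
noncomputable def Atab_s_2369_2372 (c : Nat) : Nat := @Bool.rec (fun _ => Nat) (Atab_2369) (Atab_s_2370_2372 c) (Nat.ble 2370 c)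
noncomputable def Atab_s_2373_2375 (c : Nat) : Nat := @Bool.rec (fun _ => Nat) (Atab_2373) (Atab_2374) (Nat.ble 2374 c)
noncomputable def Atab_s_2372_2375 (c : Nat) : Nat := @Bool.rec (fun _ => Nat) (Atab_2372) (Atab_s_2373_2375 c) (Nat.ble 2373 c)
noncomputable def Atab_s_2369_2375 (c : Nat) : Nat := @Bool.rec (fun _ => Nat) (Atab_s_2369_2372 c) (Atab_s_2372_2375 c) (Nat.ble 2372 c)
noncomputable def Atab_s_2376_2378 (c : Nat) : Nat := @Bool.rec (fun _ => Nat) (Atab_2376) (Atab_2377) (Nat.ble 2377 c)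
noncomputable def Atab_s_2375_2378 (c : Nat) : Nat := @Bool.rec (fun _ => Nat) (Atab_2375) (Atab_s_2376_2378 c) (Nat.ble 2376 c)
noncomputable def Atab_s_2378_2380 (c : Nat) : Nat := @Bool.rec (fun _ => Nat) (Atab_2378) (Atab_2379) (Nat.ble 2379 c)
noncomputable def Atab_s_2380_2382 (c : Nat) : Nat := @Bool.rec (fun _ => Nat) (Atab_2380) (Atab_2381) (Nat.ble 2381 c)
noncomputable def Atab_s_2378_2382 (c : Nat) : Nat := @Bool.rec (fun _ => Nat) (Atab_s_2378_2380 c) (Atab_s_2380_2382 c) (Nat.ble 2380 c)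
noncomputable def Atab_s_2375_2382 (c : Nat) : Nat := @Bool.rec (fun _ => Nat) (Atab_s_2375_2378 c) (Atab_s_2378_2382 c) (Nat.ble 2378 c)
noncomputable def Atab_s_2369_2382 (c : Nat) : Nat := @Bool.rec (fun _ => Nat) (Atab_s_2369_2375 c) (Atab_s_2375_2382 c) (Nat.ble 2375 c)
noncomputable def Atab_s_2357_2382 (c : Nat) : Nat := @Bool.rec (fun _ => Nat) (Atab_s_2357_2369 c) (Atab_s_2369_2382 c) (Nat.ble 2369 c)
noncomputable def Atab_s_2332_2382 (c : Nat) : Nat := @Bool.rec (fun _ => Nat) (Atab_s_2332_2357 c) (Atab_s_2357_2382 c) (Nat.ble 2357 c)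
noncomputable def Atab_s_2282_2382 (c : Nat) : Nat := @Bool.rec (fun _ => Nat) (Atab_s_2282_2332 c) (Atab_s_2332_2382 c) (Nat.ble 2332 c)
noncomputable def Atab_s_2183_2382 (c : Nat) : Nat := @Bool.rec (fun _ => Nat) (Atab_s_2183_2282 c) (Atab_s_2282_2382 c) (Nat.ble 2282 c)
noncomputable def Atab_s_1985_2382 (c : Nat) : Nat := @Bool.rec (fun _ => Nat) (Atab_s_1985_2183 c) (Atab_s_2183_2382 c) (Nat.ble 2183 c)
noncomputable def Atab_s_1588_2382 (c : Nat) : Nat := @Bool.rec (fun _ => Nat) (Atab_s_1588_1985 c) (Atab_s_1985_2382 c) (Nat.ble 1985 c)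
noncomputable def Atab_s_2383_2385 (c : Nat) : Nat := @Bool.rec (fun _ => Nat) (Atab_2383) (Atab_2384) (Nat.ble 2384 c)
noncomputable def Atab_s_2382_2385 (c : Nat) : Nat := @Bool.rec (fun _ => Nat) (Atab_2382) (Atab_s_2383_2385 c) (Nat.ble 2383 c)
noncomputable def Atab_s_2386_2388 (c : Nat) : Nat := @Bool.rec (fun _ => Nat) (Atab_2386) (Atab_2387) (Nat.ble 2387 c)
noncomputable def Atab_s_2385_2388 (c : Nat) : Nat := @Bool.rec (fun _ => Nat) (Atab_2385) (Atab_s_2386_2388 c) (Nat.ble 2386 c)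
noncomputable def Atab_s_2382_2388 (c : Nat) : Nat := @Bool.rec (fun _ => Nat) (Atab_s_2382_2385 c) (Atab_s_2385_2388 c) (Nat.ble 2385 c)
noncomputable def Atab_s_2389_2391 (c : Nat) : Nat := @Bool.rec (fun _ => Nat) (Atab_2389) (Atab_2390) (Nat.ble 2390 c)
noncomputable def Atab_s_2388_2391 (c : Nat) : Nat := @Bool.rec (fun _ => Nat) (Atab_2388) (Atab_s_2389_2391 c) (Nat.ble 2389 c)
noncomputable def Atab_s_2392_2394 (c : Nat) : Nat := @Bool.rec (fun _ => Nat) (Atab_2392) (Atab_2393) (Nat.ble 2393 c)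
noncomputable def Atab_s_2391_2394 (c : Nat) : Nat := @Bool.rec (fun _ => Nat) (Atab_2391) (Atab_s_2392_2394 c) (Nat.ble 2392 c)
noncomputable def Atab_s_2388_2394 (c : Nat) : Nat := @Bool.rec (fun _ => Nat) (Atab_s_2388_2391 c) (Atab_s_2391_2394 c) (Nat.ble 2391 c)
noncomputable def Atab_s_2382_2394 (c : Nat) : Nat := @Bool.rec (fun _ => Nat) (Atab_s_2382_2388 c) (Atab_s_2388_2394 c) (Nat.ble 2388 c)
noncomputable def Atab_s_2395_2397 (c : Nat) : Nat := @Bool.rec (fun _ => Nat) (Atab_2395) (Atab_2396) (Nat.ble 2396 c)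
noncomputable def Atab_s_2394_2397 (c : Nat) : Nat := @Bool.rec (fun _ => Nat) (Atab_2394) (Atab_s_2395_2397 c) (Nat.ble 2395 c)
noncomputable def Atab_s_2398_2400 (c : Nat) : Nat := @Bool.rec (fun _ => Nat) (Atab_2398) (Atab_2399) (Nat.ble 2399 c)
noncomputable def Atab_s_2397_2400 (c : Nat) : Nat := @Bool.rec (fun _ => Nat) (Atab_2397) (Atab_s_2398_2400 c) (Nat.ble 2398 c)
noncomputable def Atab_s_2394_2400 (c : Nat) : Nat := @Bool.rec (fun _ => Nat) (Atab_s_2394_2397 c) (Atab_s_2397_2400 c) (Nat.ble 2397 c)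
noncomputable def Atab_s_2401_2403 (c : Nat) : Nat := @Bool.rec (fun _ => Nat) (Atab_2401) (Atab_2402) (Nat.ble 2402 c)
noncomputable def Atab_s_2400_2403 (c : Nat) : Nat := @Bool.rec (fun _ => Nat) (Atab_2400) (Atab_s_2401_2403 c) (Nat.ble 2401 c)
noncomputable def Atab_s_2404_2406 (c : Nat) : Nat := @Bool.rec (fun _ => Nat) (Atab_2404) (Atab_2405) (Nat.ble 2405 c)
noncomputable def Atab_s_2403_2406 (c : Nat) : Nat := @Bool.rec (fun _ => Nat) (Atab_2403) (Atab_s_2404_2406 c) (Nat.ble 2404 c)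
noncomputable def Atab_s_2400_2406 (c : Nat) : Nat := @Bool.rec (fun _ => Nat) (Atab_s_2400_2403 c) (Atab_s_2403_2406 c) (Nat.ble 2403 c)
noncomputable def Atab_s_2394_2406 (c : Nat) : Nat := @Bool.rec (fun _ => Nat) (Atab_s_2394_2400 c) (Atab_s_2400_2406 c) (Nat.ble 2400 c)
noncomputable def Atab_s_2382_2406 (c : Nat) : Nat := @Bool.rec (fun _ => Nat) (Atab_s_2382_2394 c) (Atab_s_2394_2406 c) (Nat.ble 2394 c)
noncomputable def Atab_s_2407_2409 (c : Nat) : Nat := @Bool.rec (fun _ => Nat) (Atab_2407) (Atab_2408) (Nat.ble 2408 c)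
noncomputable def Atab_s_2406_2409 (c : Nat) : Nat := @Bool.rec (fun _ => Nat) (Atab_2406) (Atab_s_2407_2409 c) (Nat.ble 2407 c)
noncomputable def Atab_s_2410_2412 (c : Nat) : Nat := @Bool.rec (fun _ => Nat) (Atab_2410) (Atab_2411) (Nat.ble 2411 c)
noncomputable def Atab_s_2409_2412 (c : Nat) : Nat := @Bool.rec (fun _ => Nat) (Atab_2409) (Atab_s_2410_2412 c) (Nat.ble 2410 c)
noncomputable def Atab_s_2406_2412 (c : Nat) : Nat := @Bool.rec (fun _ => Nat) (Atab_s_2406_2409 c) (Atab_s_2409_2412 c) (Nat.ble 2409 c)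
noncomputable def Atab_s_2413_2415 (c : Nat) : Nat := @Bool.rec (fun _ => Nat) (Atab_2413) (Atab_2414) (Nat.ble 2414 c)
noncomputable def Atab_s_2412_2415 (c : Nat) : Nat := @Bool.rec (fun _ => Nat) (Atab_2412) (Atab_s_2413_2415 c) (Nat.ble 2413 c)
noncomputable def Atab_s_2416_2418 (c : Nat) : Nat := @Bool.rec (fun _ => Nat) (Atab_2416) (Atab_2417) (Nat.ble 2417 c)
noncomputable def Atab_s_2415_2418 (c : Nat) : Nat := @Bool.rec (fun _ => Nat) (Atab_2415) (Atab_s_2416_2418 c) (Nat.ble 2416 c)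
noncomputable def Atab_s_2412_2418 (c : Nat) : Nat := @Bool.rec (fun _ => Nat) (Atab_s_2412_2415 c) (Atab_s_2415_2418 c) (Nat.ble 2415 c)
noncomputable def Atab_s_2406_2418 (c : Nat) : Nat := @Bool.rec (fun _ => Nat) (Atab_s_2406_2412 c) (Atab_s_2412_2418 c) (Nat.ble 2412 c)
noncomputable def Atab_s_2419_2421 (c : Nat) : Nat := @Bool.rec (fun _ => Nat) (Atab_2419) (Atab_2420) (Nat.ble 2420 c)
noncomputable def Atab_s_2418_2421 (c : Nat) : Nat := @Bool.rec (fun _ => Nat) (Atab_2418) (Atab_s_2419_2421 c) (Nat.ble 2419 c)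
noncomputable def Atab_s_2422_2424 (c : Nat) : Nat := @Bool.rec (fun _ => Nat) (Atab_2422) (Atab_2423) (Nat.ble 2423 c)
noncomputable def Atab_s_2421_2424 (c : Nat) : Nat := @Bool.rec (fun _ => Nat) (Atab_2421) (Atab_s_2422_2424 c) (Nat.ble 2422 c)
noncomputable def Atab_s_2418_2424 (c : Nat) : Nat := @Bool.rec (fun _ => Nat) (Atab_s_2418_2421 c) (Atab_s_2421_2424 c) (Nat.ble 2421 c)
noncomputable def Atab_s_2425_2427 (c : Nat) : Nat := @Bool.rec (fun _ => Nat) (Atab_2425) (Atab_2426) (Nat.ble 2426 c)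
noncomputable def Atab_s_2424_2427 (c : Nat) : Nat := @Bool.rec (fun _ => Nat) (Atab_2424) (Atab_s_2425_2427 c) (Nat.ble 2425 c)
noncomputable def Atab_s_2427_2429 (c : Nat) : Nat := @Bool.rec (fun _ => Nat) (Atab_2427) (Atab_2428) (Nat.ble 2428 c)
noncomputable def Atab_s_2429_2431 (c : Nat) : Nat := @Bool.rec (fun _ => Nat) (Atab_2429) (Atab_2430) (Nat.ble 2430 c)
noncomputable def Atab_s_2427_2431 (c : Nat) : Nat := @Bool.rec (fun _ => Nat) (Atab_s_2427_2429 c) (Atab_s_2429_2431 c) (Nat.ble 2429 c)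
noncomputable def Atab_s_2424_2431 (c : Nat) : Nat := @Bool.rec (fun _ => Nat) (Atab_s_2424_2427 c) (Atab_s_2427_2431 c) (Nat.ble 2427 c)
noncomputable def Atab_s_2418_2431 (c : Nat) : Nat := @Bool.rec (fun _ => Nat) (Atab_s_2418_2424 c) (Atab_s_2424_2431 c) (Nat.ble 2424 c)
noncomputable def Atab_s_2406_2431 (c : Nat) : Nat := @Bool.rec (fun _ => Nat) (Atab_s_2406_2418 c) (Atab_s_2418_2431 c) (Nat.ble 2418 c)
noncomputable def Atab_s_2382_2431 (c : Nat) : Nat := @Bool.rec (fun _ => Nat) (Atab_s_2382_2406 c) (Atab_s_2406_2431 c) (Nat.ble 2406 c)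
noncomputable def Atab_s_2432_2434 (c : Nat) : Nat := @Bool.rec (fun _ => Nat) (Atab_2432) (Atab_2433) (Nat.ble 2433 c)
noncomputable def Atab_s_2431_2434 (c : Nat) : Nat := @Bool.rec (fun _ => Nat) (Atab_2431) (Atab_s_2432_2434 c) (Nat.ble 2432 c)
noncomputable def Atab_s_2435_2437 (c : Nat) : Nat := @Bool.rec (fun _ => Nat) (Atab_2435) (Atab_2436) (Nat.ble 2436 c)
noncomputable def Atab_s_2434_2437 (c : Nat) : Nat := @Bool.rec (fun _ => Nat) (Atab_2434) (Atab_s_2435_2437 c) (Nat.ble 2435 c)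
noncomputable def Atab_s_2431_2437 (c : Nat) : Nat := @Bool.rec (fun _ => Nat) (Atab_s_2431_2434 c) (Atab_s_2434_2437 c) (Nat.ble 2434 c)
noncomputable def Atab_s_2438_2440 (c : Nat) : Nat := @Bool.rec (fun _ => Nat) (Atab_2438) (Atab_2439) (Nat.ble 2439 c)
noncomputable def Atab_s_2437_2440 (c : Nat) : Nat := @Bool.rec (fun _ => Nat) (Atab_2437) (Atab_s_2438_2440 c) (Nat.ble 2438 c)
noncomputable def Atab_s_2441_2443 (c : Nat) : Nat := @Bool.rec (fun _ => Nat) (Atab_2441) (Atab_2442) (Nat.ble 2442 c)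
noncomputable def Atab_s_2440_2443 (c : Nat) : Nat := @Bool.rec (fun _ => Nat) (Atab_2440) (Atab_s_2441_2443 c) (Nat.ble 2441 c)
noncomputable def Atab_s_2437_2443 (c : Nat) : Nat := @Bool.rec (fun _ => Nat) (Atab_s_2437_2440 c) (Atab_s_2440_2443 c) (Nat.ble 2440 c)
noncomputable def Atab_s_2431_2443 (c : Nat) : Nat := @Bool.rec (fun _ => Nat) (Atab_s_2431_2437 c) (Atab_s_2437_2443 c) (Nat.ble 2437 c)
noncomputable def Atab_s_2444_2446 (c : Nat) : Nat := @Bool.rec (fun _ => Nat) (Atab_2444) (Atab_2445) (Nat.ble 2445 c)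
noncomputable def Atab_s_2443_2446 (c : Nat) : Nat := @Bool.rec (fun _ => Nat) (Atab_2443) (Atab_s_2444_2446 c) (Nat.ble 2444 c)
noncomputable def Atab_s_2447_2449 (c : Nat) : Nat := @Bool.rec (fun _ => Nat) (Atab_2447) (Atab_2448) (Nat.ble 2448 c)
noncomputable def Atab_s_2446_2449 (c : Nat) : Nat := @Bool.rec (fun _ => Nat) (Atab_2446) (Atab_s_2447_2449 c) (Nat.ble 2447 c)
noncomputable def Atab_s_2443_2449 (c : Nat) : Nat := @Bool.rec (fun _ => Nat) (Atab_s_2443_2446 c) (Atab_s_2446_2449 c) (Nat.ble 2446 c)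
noncomputable def Atab_s_2450_2452 (c : Nat) : Nat := @Bool.rec (fun _ => Nat) (Atab_2450) (Atab_2451) (Nat.ble 2451 c)
noncomputable def Atab_s_2449_2452 (c : Nat) : Nat := @Bool.rec (fun _ => Nat) (Atab_2449) (Atab_s_2450_2452 c) (Nat.ble 2450 c)
noncomputable def Atab_s_2452_2454 (c : Nat) : Nat := @Bool.rec (fun _ => Nat) (Atab_2452) (Atab_2453) (Nat.ble 2453 c)
noncomputable def Atab_s_2454_2456 (c : Nat) : Nat := @Bool.rec (fun _ => Nat) (Atab_2454) (Atab_2455) (Nat.ble 2455 c)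
noncomputable def Atab_s_2452_2456 (c : Nat) : Nat := @Bool.rec (fun _ => Nat) (Atab_s_2452_2454 c) (Atab_s_2454_2456 c) (Nat.ble 2454 c)
noncomputable def Atab_s_2449_2456 (c : Nat) : Nat := @Bool.rec (fun _ => Nat) (Atab_s_2449_2452 c) (Atab_s_2452_2456 c) (Nat.ble 2452 c)
noncomputable def Atab_s_2443_2456 (c : Nat) : Nat := @Bool.rec (fun _ => Nat) (Atab_s_2443_2449 c) (Atab_s_2449_2456 c) (Nat.ble 2449 c)
noncomputable def Atab_s_2431_2456 (c : Nat) : Nat := @Bool.rec (fun _ => Nat) (Atab_s_2431_2443 c) (Atab_s_2443_2456 c) (Nat.ble 2443 c)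
noncomputable def Atab_s_2457_2459 (c : Nat) : Nat := @Bool.rec (fun _ => Nat) (Atab_2457) (Atab_2458) (Nat.ble 2458 c)
noncomputable def Atab_s_2456_2459 (c : Nat) : Nat := @Bool.rec (fun _ => Nat) (Atab_2456) (Atab_s_2457_2459 c) (Nat.ble 2457 c)
noncomputable def Atab_s_2460_2462 (c : Nat) : Nat := @Bool.rec (fun _ => Nat) (Atab_2460) (Atab_2461) (Nat.ble 2461 c)
noncomputable def Atab_s_2459_2462 (c : Nat) : Nat := @Bool.rec (fun _ => Nat) (Atab_2459) (Atab_s_2460_2462 c) (Nat.ble 2460 c)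
noncomputable def Atab_s_2456_2462 (c : Nat) : Nat := @Bool.rec (fun _ => Nat) (Atab_s_2456_2459 c) (Atab_s_2459_2462 c) (Nat.ble 2459 c)
noncomputable def Atab_s_2463_2465 (c : Nat) : Nat := @Bool.rec (fun _ => Nat) (Atab_2463) (Atab_2464) (Nat.ble 2464 c)
noncomputable def Atab_s_2462_2465 (c : Nat) : Nat := @Bool.rec (fun _ => Nat) (Atab_2462) (Atab_s_2463_2465 c) (Nat.ble 2463 c)
noncomputable def Atab_s_2466_2468 (c : Nat) : Nat := @Bool.rec (fun _ => Nat) (Atab_2466) (Atab_2467) (Nat.ble 2467 c)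
noncomputable def Atab_s_2465_2468 (c : Nat) : Nat := @Bool.rec (fun _ => Nat) (Atab_2465) (Atab_s_2466_2468 c) (Nat.ble 2466 c)
noncomputable def Atab_s_2462_2468 (c : Nat) : Nat := @Bool.rec (fun _ => Nat) (Atab_s_2462_2465 c) (Atab_s_2465_2468 c) (Nat.ble 2465 c)
noncomputable def Atab_s_2456_2468 (c : Nat) : Nat := @Bool.rec (fun _ => Nat) (Atab_s_2456_2462 c) (Atab_s_2462_2468 c) (Nat.ble 2462 c)
noncomputable def Atab_s_2469_2471 (c : Nat) : Nat := @Bool.rec (fun _ => Nat) (Atab_2469) (Atab_2470) (Nat.ble 2470 c)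
noncomputable def Atab_s_2468_2471 (c : Nat) : Nat := @Bool.rec (fun _ => Nat) (Atab_2468) (Atab_s_2469_2471 c) (Nat.ble 2469 c)
noncomputable def Atab_s_2472_2474 (c : Nat) : Nat := @Bool.rec (fun _ => Nat) (Atab_2472) (Atab_2473) (Nat.ble 2473 c)
noncomputable def Atab_s_2471_2474 (c : Nat) : Nat := @Bool.rec (fun _ => Nat) (Atab_2471) (Atab_s_2472_2474 c) (Nat.ble 2472 c)
noncomputable def Atab_s_2468_2474 (c : Nat) : Nat := @Bool.rec (fun _ => Nat) (Atab_s_2468_2471 c) (Atab_s_2471_2474 c) (Nat.ble 2471 c)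
noncomputable def Atab_s_2475_2477 (c : Nat) : Nat := @Bool.rec (fun _ => Nat) (Atab_2475) (Atab_2476) (Nat.ble 2476 c)
noncomputable def Atab_s_2474_2477 (c : Nat) : Nat := @Bool.rec (fun _ => Nat) (Atab_2474) (Atab_s_2475_2477 c) (Nat.ble 2475 c)
noncomputable def Atab_s_2477_2479 (c : Nat) : Nat := @Bool.rec (fun _ => Nat) (Atab_2477) (Atab_2478) (Nat.ble 2478 c)
noncomputable def Atab_s_2479_2481 (c : Nat) : Nat := @Bool.rec (fun _ => Nat) (Atab_2479) (Atab_2480) (Nat.ble 2480 c)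
noncomputable def Atab_s_2477_2481 (c : Nat) : Nat := @Bool.rec (fun _ => Nat) (Atab_s_2477_2479 c) (Atab_s_2479_2481 c) (Nat.ble 2479 c)
noncomputable def Atab_s_2474_2481 (c : Nat) : Nat := @Bool.rec (fun _ => Nat) (Atab_s_2474_2477 c) (Atab_s_2477_2481 c) (Nat.ble 2477 c)
noncomputable def Atab_s_2468_2481 (c : Nat) : Nat := @Bool.rec (fun _ => Nat) (Atab_s_2468_2474 c) (Atab_s_2474_2481 c) (Nat.ble 2474 c)
noncomputable def Atab_s_2456_2481 (c : Nat) : Nat := @Bool.rec (fun _ => Nat) (Atab_s_2456_2468 c) (Atab_s_2468_2481 c) (Nat.ble 2468 c)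
noncomputable def Atab_s_2431_2481 (c : Nat) : Nat := @Bool.rec (fun _ => Nat) (Atab_s_2431_2456 c) (Atab_s_2456_2481 c) (Nat.ble 2456 c)
noncomputable def Atab_s_2382_2481 (c : Nat) : Nat := @Bool.rec (fun _ => Nat) (Atab_s_2382_2431 c) (Atab_s_2431_2481 c) (Nat.ble 2431 c)
noncomputable def Atab_s_2482_2484 (c : Nat) : Nat := @Bool.rec (fun _ => Nat) (Atab_2482) (Atab_2483) (Nat.ble 2483 c)
noncomputable def Atab_s_2481_2484 (c : Nat) : Nat := @Bool.rec (fun _ => Nat) (Atab_2481) (Atab_s_2482_2484 c) (Nat.ble 2482 c)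
noncomputable def Atab_s_2485_2487 (c : Nat) : Nat := @Bool.rec (fun _ => Nat) (Atab_2485) (Atab_2486) (Nat.ble 2486 c)
noncomputable def Atab_s_2484_2487 (c : Nat) : Nat := @Bool.rec (fun _ => Nat) (Atab_2484) (Atab_s_2485_2487 c) (Nat.ble 2485 c)
noncomputable def Atab_s_2481_2487 (c : Nat) : Nat := @Bool.rec (fun _ => Nat) (Atab_s_2481_2484 c) (Atab_s_2484_2487 c) (Nat.ble 2484 c)
noncomputable def Atab_s_2488_2490 (c : Nat) : Nat := @Bool.rec (fun _ => Nat) (Atab_2488) (Atab_2489) (Nat.ble 2489 c)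
noncomputable def Atab_s_2487_2490 (c : Nat) : Nat := @Bool.rec (fun _ => Nat) (Atab_2487) (Atab_s_2488_2490 c) (Nat.ble 2488 c)
noncomputable def Atab_s_2491_2493 (c : Nat) : Nat := @Bool.rec (fun _ => Nat) (Atab_2491) (Atab_2492) (Nat.ble 2492 c)
noncomputable def Atab_s_2490_2493 (c : Nat) : Nat := @Bool.rec (fun _ => Nat) (Atab_2490) (Atab_s_2491_2493 c) (Nat.ble 2491 c)
noncomputable def Atab_s_2487_2493 (c : Nat) : Nat := @Bool.rec (fun _ => Nat) (Atab_s_2487_2490 c) (Atab_s_2490_2493 c) (Nat.ble 2490 c)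
noncomputable def Atab_s_2481_2493 (c : Nat) : Nat := @Bool.rec (fun _ => Nat) (Atab_s_2481_2487 c) (Atab_s_2487_2493 c) (Nat.ble 2487 c)
noncomputable def Atab_s_2494_2496 (c : Nat) : Nat := @Bool.rec (fun _ => Nat) (Atab_2494) (Atab_2495) (Nat.ble 2495 c)
noncomputable def Atab_s_2493_2496 (c : Nat) : Nat := @Bool.rec (fun _ => Nat) (Atab_2493) (Atab_s_2494_2496 c) (Nat.ble 2494 c)
noncomputable def Atab_s_2497_2499 (c : Nat) : Nat := @Bool.rec (fun _ => Nat) (Atab_2497) (Atab_2498) (Nat.ble 2498 c)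
noncomputable def Atab_s_2496_2499 (c : Nat) : Nat := @Bool.rec (fun _ => Nat) (Atab_2496) (Atab_s_2497_2499 c) (Nat.ble 2497 c)
noncomputable def Atab_s_2493_2499 (c : Nat) : Nat := @Bool.rec (fun _ => Nat) (Atab_s_2493_2496 c) (Atab_s_2496_2499 c) (Nat.ble 2496 c)
noncomputable def Atab_s_2500_2502 (c : Nat) : Nat := @Bool.rec (fun _ => Nat) (Atab_2500) (Atab_2501) (Nat.ble 2501 c)
noncomputable def Atab_s_2499_2502 (c : Nat) : Nat := @Bool.rec (fun _ => Nat) (Atab_2499) (Atab_s_2500_2502 c) (Nat.ble 2500 c)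
noncomputable def Atab_s_2503_2505 (c : Nat) : Nat := @Bool.rec (fun _ => Nat) (Atab_2503) (Atab_2504) (Nat.ble 2504 c)
noncomputable def Atab_s_2502_2505 (c : Nat) : Nat := @Bool.rec (fun _ => Nat) (Atab_2502) (Atab_s_2503_2505 c) (Nat.ble 2503 c)
noncomputable def Atab_s_2499_2505 (c : Nat) : Nat := @Bool.rec (fun _ => Nat) (Atab_s_2499_2502 c) (Atab_s_2502_2505 c) (Nat.ble 2502 c)
noncomputable def Atab_s_2493_2505 (c : Nat) : Nat := @Bool.rec (fun _ => Nat) (Atab_s_2493_2499 c) (Atab_s_2499_2505 c) (Nat.ble 2499 c)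
noncomputable def Atab_s_2481_2505 (c : Nat) : Nat := @Bool.rec (fun _ => Nat) (Atab_s_2481_2493 c) (Atab_s_2493_2505 c) (Nat.ble 2493 c)
noncomputable def Atab_s_2506_2508 (c : Nat) : Nat := @Bool.rec (fun _ => Nat) (Atab_2506) (Atab_2507) (Nat.ble 2507 c)
noncomputable def Atab_s_2505_2508 (c : Nat) : Nat := @Bool.rec (fun _ => Nat) (Atab_2505) (Atab_s_2506_2508 c) (Nat.ble 2506 c)
noncomputable def Atab_s_2509_2511 (c : Nat) : Nat := @Bool.rec (fun _ => Nat) (Atab_2509) (Atab_2510) (Nat.ble 2510 c)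
noncomputable def Atab_s_2508_2511 (c : Nat) : Nat := @Bool.rec (fun _ => Nat) (Atab_2508) (Atab_s_2509_2511 c) (Nat.ble 2509 c)
noncomputable def Atab_s_2505_2511 (c : Nat) : Nat := @Bool.rec (fun _ => Nat) (Atab_s_2505_2508 c) (Atab_s_2508_2511 c) (Nat.ble 2508 c)
noncomputable def Atab_s_2512_2514 (c : Nat) : Nat := @Bool.rec (fun _ => Nat) (Atab_2512) (Atab_2513) (Nat.ble 2513 c)
noncomputable def Atab_s_2511_2514 (c : Nat) : Nat := @Bool.rec (fun _ => Nat) (Atab_2511) (Atab_s_2512_2514 c) (Nat.ble 2512 c)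
noncomputable def Atab_s_2515_2517 (c : Nat) : Nat := @Bool.rec (fun _ => Nat) (Atab_2515) (Atab_2516) (Nat.ble 2516 c)
noncomputable def Atab_s_2514_2517 (c : Nat) : Nat := @Bool.rec (fun _ => Nat) (Atab_2514) (Atab_s_2515_2517 c) (Nat.ble 2515 c)
noncomputable def Atab_s_2511_2517 (c : Nat) : Nat := @Bool.rec (fun _ => Nat) (Atab_s_2511_2514 c) (Atab_s_2514_2517 c) (Nat.ble 2514 c)
noncomputable def Atab_s_2505_2517 (c : Nat) : Nat := @Bool.rec (fun _ => Nat) (Atab_s_2505_2511 c) (Atab_s_2511_2517 c) (Nat.ble 2511 c)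
noncomputable def Atab_s_2518_2520 (c : Nat) : Nat := @Bool.rec (fun _ => Nat) (Atab_2518) (Atab_2519) (Nat.ble 2519 c)
noncomputable def Atab_s_2517_2520 (c : Nat) : Nat := @Bool.rec (fun _ => Nat) (Atab_2517) (Atab_s_2518_2520 c) (Nat.ble 2518 c)
noncomputable def Atab_s_2521_2523 (c : Nat) : Nat := @Bool.rec (fun _ => Nat) (Atab_2521) (Atab_2522) (Nat.ble 2522 c)
noncomputable def Atab_s_2520_2523 (c : Nat) : Nat := @Bool.rec (fun _ => Nat) (Atab_2520) (Atab_s_2521_2523 c) (Nat.ble 2521 c)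
noncomputable def Atab_s_2517_2523 (c : Nat) : Nat := @Bool.rec (fun _ => Nat) (Atab_s_2517_2520 c) (Atab_s_2520_2523 c) (Nat.ble 2520 c)
noncomputable def Atab_s_2524_2526 (c : Nat) : Nat := @Bool.rec (fun _ => Nat) (Atab_2524) (Atab_2525) (Nat.ble 2525 c)
noncomputable def Atab_s_2523_2526 (c : Nat) : Nat := @Bool.rec (fun _ => Nat) (Atab_2523) (Atab_s_2524_2526 c) (Nat.ble 2524 c)
noncomputable def Atab_s_2526_2528 (c : Nat) : Nat := @Bool.rec (fun _ => Nat) (Atab_2526) (Atab_2527) (Nat.ble 2527 c)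
noncomputable def Atab_s_2528_2530 (c : Nat) : Nat := @Bool.rec (fun _ => Nat) (Atab_2528) (Atab_2529) (Nat.ble 2529 c)
noncomputable def Atab_s_2526_2530 (c : Nat) : Nat := @Bool.rec (fun _ => Nat) (Atab_s_2526_2528 c) (Atab_s_2528_2530 c) (Nat.ble 2528 c)
noncomputable def Atab_s_2523_2530 (c : Nat) : Nat := @Bool.rec (fun _ => Nat) (Atab_s_2523_2526 c) (Atab_s_2526_2530 c) (Nat.ble 2526 c)
noncomputable def Atab_s_2517_2530 (c : Nat) : Nat := @Bool.rec (fun _ => Nat) (Atab_s_2517_2523 c) (Atab_s_2523_2530 c) (Nat.ble 2523 c)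
noncomputable def Atab_s_2505_2530 (c : Nat) : Nat := @Bool.rec (fun _ => Nat) (Atab_s_2505_2517 c) (Atab_s_2517_2530 c) (Nat.ble 2517 c)
noncomputable def Atab_s_2481_2530 (c : Nat) : Nat := @Bool.rec (fun _ => Nat) (Atab_s_2481_2505 c) (Atab_s_2505_2530 c) (Nat.ble 2505 c)
noncomputable def Atab_s_2531_2533 (c : Nat) : Nat := @Bool.rec (fun _ => Nat) (Atab_2531) (Atab_2532) (Nat.ble 2532 c)
noncomputable def Atab_s_2530_2533 (c : Nat) : Nat := @Bool.rec (fun _ => Nat) (Atab_2530) (Atab_s_2531_2533 c) (Nat.ble 2531 c)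
noncomputable def Atab_s_2534_2536 (c : Nat) : Nat := @Bool.rec (fun _ => Nat) (Atab_2534) (Atab_2535) (Nat.ble 2535 c)
noncomputable def Atab_s_2533_2536 (c : Nat) : Nat := @Bool.rec (fun _ => Nat) (Atab_2533) (Atab_s_2534_2536 c) (Nat.ble 2534 c)
noncomputable def Atab_s_2530_2536 (c : Nat) : Nat := @Bool.rec (fun _ => Nat) (Atab_s_2530_2533 c) (Atab_s_2533_2536 c) (Nat.ble 2533 c)
noncomputable def Atab_s_2537_2539 (c : Nat) : Nat := @Bool.rec (fun _ => Nat) (Atab_2537) (Atab_2538) (Nat.ble 2538 c)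
noncomputable def Atab_s_2536_2539 (c : Nat) : Nat := @Bool.rec (fun _ => Nat) (Atab_2536) (Atab_s_2537_2539 c) (Nat.ble 2537 c)
noncomputable def Atab_s_2540_2542 (c : Nat) : Nat := @Bool.rec (fun _ => Nat) (Atab_2540) (Atab_2541) (Nat.ble 2541 c)
noncomputable def Atab_s_2539_2542 (c : Nat) : Nat := @Bool.rec (fun _ => Nat) (Atab_2539) (Atab_s_2540_2542 c) (Nat.ble 2540 c)
noncomputable def Atab_s_2536_2542 (c : Nat) : Nat := @Bool.rec (fun _ => Nat) (Atab_s_2536_2539 c) (Atab_s_2539_2542 c) (Nat.ble 2539 c)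
noncomputable def Atab_s_2530_2542 (c : Nat) : Nat := @Bool.rec (fun _ => Nat) (Atab_s_2530_2536 c) (Atab_s_2536_2542 c) (Nat.ble 2536 c)
noncomputable def Atab_s_2543_2545 (c : Nat) : Nat := @Bool.rec (fun _ => Nat) (Atab_2543) (Atab_2544) (Nat.ble 2544 c)
noncomputable def Atab_s_2542_2545 (c : Nat) : Nat := @Bool.rec (fun _ => Nat) (Atab_2542) (Atab_s_2543_2545 c) (Nat.ble 2543 c)
noncomputable def Atab_s_2546_2548 (c : Nat) : Nat := @Bool.rec (fun _ => Nat) (Atab_2546) (Atab_2547) (Nat.ble 2547 c)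
noncomputable def Atab_s_2545_2548 (c : Nat) : Nat := @Bool.rec (fun _ => Nat) (Atab_2545) (Atab_s_2546_2548 c) (Nat.ble 2546 c)
noncomputable def Atab_s_2542_2548 (c : Nat) : Nat := @Bool.rec (fun _ => Nat) (Atab_s_2542_2545 c) (Atab_s_2545_2548 c) (Nat.ble 2545 c)
noncomputable def Atab_s_2549_2551 (c : Nat) : Nat := @Bool.rec (fun _ => Nat) (Atab_2549) (Atab_2550) (Nat.ble 2550 c)
noncomputable def Atab_s_2548_2551 (c : Nat) : Nat := @Bool.rec (fun _ => Nat) (Atab_2548) (Atab_s_2549_2551 c) (Nat.ble 2549 c)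
noncomputable def Atab_s_2551_2553 (c : Nat) : Nat := @Bool.rec (fun _ => Nat) (Atab_2551) (Atab_2552) (Nat.ble 2552 c)
noncomputable def Atab_s_2553_2555 (c : Nat) : Nat := @Bool.rec (fun _ => Nat) (Atab_2553) (Atab_2554) (Nat.ble 2554 c)
noncomputable def Atab_s_2551_2555 (c : Nat) : Nat := @Bool.rec (fun _ => Nat) (Atab_s_2551_2553 c) (Atab_s_2553_2555 c) (Nat.ble 2553 c)
noncomputable def Atab_s_2548_2555 (c : Nat) : Nat := @Bool.rec (fun _ => Nat) (Atab_s_2548_2551 c) (Atab_s_2551_2555 c) (Nat.ble 2551 c)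
noncomputable def Atab_s_2542_2555 (c : Nat) : Nat := @Bool.rec (fun _ => Nat) (Atab_s_2542_2548 c) (Atab_s_2548_2555 c) (Nat.ble 2548 c)
noncomputable def Atab_s_2530_2555 (c : Nat) : Nat := @Bool.rec (fun _ => Nat) (Atab_s_2530_2542 c) (Atab_s_2542_2555 c) (Nat.ble 2542 c)
noncomputable def Atab_s_2556_2558 (c : Nat) : Nat := @Bool.rec (fun _ => Nat) (Atab_2556) (Atab_2557) (Nat.ble 2557 c)
noncomputable def Atab_s_2555_2558 (c : Nat) : Nat := @Bool.rec (fun _ => Nat) (Atab_2555) (Atab_s_2556_2558 c) (Nat.ble 2556 c)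
noncomputable def Atab_s_2559_2561 (c : Nat) : Nat := @Bool.rec (fun _ => Nat) (Atab_2559) (Atab_2560) (Nat.ble 2560 c)
noncomputable def Atab_s_2558_2561 (c : Nat) : Nat := @Bool.rec (fun _ => Nat) (Atab_2558) (Atab_s_2559_2561 c) (Nat.ble 2559 c)
noncomputable def Atab_s_2555_2561 (c : Nat) : Nat := @Bool.rec (fun _ => Nat) (Atab_s_2555_2558 c) (Atab_s_2558_2561 c) (Nat.ble 2558 c)
noncomputable def Atab_s_2562_2564 (c : Nat) : Nat := @Bool.rec (fun _ => Nat) (Atab_2562) (Atab_2563) (Nat.ble 2563 c)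
noncomputable def Atab_s_2561_2564 (c : Nat) : Nat := @Bool.rec (fun _ => Nat) (Atab_2561) (Atab_s_2562_2564 c) (Nat.ble 2562 c)
noncomputable def Atab_s_2565_2567 (c : Nat) : Nat := @Bool.rec (fun _ => Nat) (Atab_2565) (Atab_2566) (Nat.ble 2566 c)
noncomputable def Atab_s_2564_2567 (c : Nat) : Nat := @Bool.rec (fun _ => Nat) (Atab_2564) (Atab_s_2565_2567 c) (Nat.ble 2565 c)
noncomputable def Atab_s_2561_2567 (c : Nat) : Nat := @Bool.rec (fun _ => Nat) (Atab_s_2561_2564 c) (Atab_s_2564_2567 c) (Nat.ble 2564 c)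
noncomputable def Atab_s_2555_2567 (c : Nat) : Nat := @Bool.rec (fun _ => Nat) (Atab_s_2555_2561 c) (Atab_s_2561_2567 c) (Nat.ble 2561 c)
noncomputable def Atab_s_2568_2570 (c : Nat) : Nat := @Bool.rec (fun _ => Nat) (Atab_2568) (Atab_2569) (Nat.ble 2569 c)
noncomputable def Atab_s_2567_2570 (c : Nat) : Nat := @Bool.rec (fun _ => Nat) (Atab_2567) (Atab_s_2568_2570 c) (Nat.ble 2568 c)
noncomputable def Atab_s_2571_2573 (c : Nat) : Nat := @Bool.rec (fun _ => Nat) (Atab_2571) (Atab_2572) (Nat.ble 2572 c)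
noncomputable def Atab_s_2570_2573 (c : Nat) : Nat := @Bool.rec (fun _ => Nat) (Atab_2570) (Atab_s_2571_2573 c) (Nat.ble 2571 c)
noncomputable def Atab_s_2567_2573 (c : Nat) : Nat := @Bool.rec (fun _ => Nat) (Atab_s_2567_2570 c) (Atab_s_2570_2573 c) (Nat.ble 2570 c)
noncomputable def Atab_s_2574_2576 (c : Nat) : Nat := @Bool.rec (fun _ => Nat) (Atab_2574) (Atab_2575) (Nat.ble 2575 c)
noncomputable def Atab_s_2573_2576 (c : Nat) : Nat := @Bool.rec (fun _ => Nat) (Atab_2573) (Atab_s_2574_2576 c) (Nat.ble 2574 c)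
noncomputable def Atab_s_2576_2578 (c : Nat) : Nat := @Bool.rec (fun _ => Nat) (Atab_2576) (Atab_2577) (Nat.ble 2577 c)
noncomputable def Atab_s_2578_2580 (c : Nat) : Nat := @Bool.rec (fun _ => Nat) (Atab_2578) (Atab_2579) (Nat.ble 2579 c)
noncomputable def Atab_s_2576_2580 (c : Nat) : Nat := @Bool.rec (fun _ => Nat) (Atab_s_2576_2578 c) (Atab_s_2578_2580 c) (Nat.ble 2578 c)
noncomputable def Atab_s_2573_2580 (c : Nat) : Nat := @Bool.rec (fun _ => Nat) (Atab_s_2573_2576 c) (Atab_s_2576_2580 c) (Nat.ble 2576 c)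
noncomputable def Atab_s_2567_2580 (c : Nat) : Nat := @Bool.rec (fun _ => Nat) (Atab_s_2567_2573 c) (Atab_s_2573_2580 c) (Nat.ble 2573 c)
noncomputable def Atab_s_2555_2580 (c : Nat) : Nat := @Bool.rec (fun _ => Nat) (Atab_s_2555_2567 c) (Atab_s_2567_2580 c) (Nat.ble 2567 c)
noncomputable def Atab_s_2530_2580 (c : Nat) : Nat := @Bool.rec (fun _ => Nat) (Atab_s_2530_2555 c) (Atab_s_2555_2580 c) (Nat.ble 2555 c)
noncomputable def Atab_s_2481_2580 (c : Nat) : Nat := @Bool.rec (fun _ => Nat) (Atab_s_2481_2530 c) (Atab_s_2530_2580 c) (Nat.ble 2530 c)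
noncomputable def Atab_s_2382_2580 (c : Nat) : Nat := @Bool.rec (fun _ => Nat) (Atab_s_2382_2481 c) (Atab_s_2481_2580 c) (Nat.ble 2481 c)
noncomputable def Atab_s_2581_2583 (c : Nat) : Nat := @Bool.rec (fun _ => Nat) (Atab_2581) (Atab_2582) (Nat.ble 2582 c)
noncomputable def Atab_s_2580_2583 (c : Nat) : Nat := @Bool.rec (fun _ => Nat) (Atab_2580) (Atab_s_2581_2583 c) (Nat.ble 2581 c)
noncomputable def Atab_s_2584_2586 (c : Nat) : Nat := @Bool.rec (fun _ => Nat) (Atab_2584) (Atab_2585) (Nat.ble 2585 c)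
noncomputable def Atab_s_2583_2586 (c : Nat) : Nat := @Bool.rec (fun _ => Nat) (Atab_2583) (Atab_s_2584_2586 c) (Nat.ble 2584 c)
noncomputable def Atab_s_2580_2586 (c : Nat) : Nat := @Bool.rec (fun _ => Nat) (Atab_s_2580_2583 c) (Atab_s_2583_2586 c) (Nat.ble 2583 c)
noncomputable def Atab_s_2587_2589 (c : Nat) : Nat := @Bool.rec (fun _ => Nat) (Atab_2587) (Atab_2588) (Nat.ble 2588 c)
noncomputable def Atab_s_2586_2589 (c : Nat) : Nat := @Bool.rec (fun _ => Nat) (Atab_2586) (Atab_s_2587_2589 c) (Nat.ble 2587 c)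
noncomputable def Atab_s_2590_2592 (c : Nat) : Nat := @Bool.rec (fun _ => Nat) (Atab_2590) (Atab_2591) (Nat.ble 2591 c)
noncomputable def Atab_s_2589_2592 (c : Nat) : Nat := @Bool.rec (fun _ => Nat) (Atab_2589) (Atab_s_2590_2592 c) (Nat.ble 2590 c)
noncomputable def Atab_s_2586_2592 (c : Nat) : Nat := @Bool.rec (fun _ => Nat) (Atab_s_2586_2589 c) (Atab_s_2589_2592 c) (Nat.ble 2589 c)
noncomputable def Atab_s_2580_2592 (c : Nat) : Nat := @Bool.rec (fun _ => Nat) (Atab_s_2580_2586 c) (Atab_s_2586_2592 c) (Nat.ble 2586 c)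
noncomputable def Atab_s_2593_2595 (c : Nat) : Nat := @Bool.rec (fun _ => Nat) (Atab_2593) (Atab_2594) (Nat.ble 2594 c)
noncomputable def Atab_s_2592_2595 (c : Nat) : Nat := @Bool.rec (fun _ => Nat) (Atab_2592) (Atab_s_2593_2595 c) (Nat.ble 2593 c)
noncomputable def Atab_s_2596_2598 (c : Nat) : Nat := @Bool.rec (fun _ => Nat) (Atab_2596) (Atab_2597) (Nat.ble 2597 c)
noncomputable def Atab_s_2595_2598 (c : Nat) : Nat := @Bool.rec (fun _ => Nat) (Atab_2595) (Atab_s_2596_2598 c) (Nat.ble 2596 c)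
noncomputable def Atab_s_2592_2598 (c : Nat) : Nat := @Bool.rec (fun _ => Nat) (Atab_s_2592_2595 c) (Atab_s_2595_2598 c) (Nat.ble 2595 c)
noncomputable def Atab_s_2599_2601 (c : Nat) : Nat := @Bool.rec (fun _ => Nat) (Atab_2599) (Atab_2600) (Nat.ble 2600 c)
noncomputable def Atab_s_2598_2601 (c : Nat) : Nat := @Bool.rec (fun _ => Nat) (Atab_2598) (Atab_s_2599_2601 c) (Nat.ble 2599 c)
noncomputable def Atab_s_2602_2604 (c : Nat) : Nat := @Bool.rec (fun _ => Nat) (Atab_2602) (Atab_2603) (Nat.ble 2603 c)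
noncomputable def Atab_s_2601_2604 (c : Nat) : Nat := @Bool.rec (fun _ => Nat) (Atab_2601) (Atab_s_2602_2604 c) (Nat.ble 2602 c)
noncomputable def Atab_s_2598_2604 (c : Nat) : Nat := @Bool.rec (fun _ => Nat) (Atab_s_2598_2601 c) (Atab_s_2601_2604 c) (Nat.ble 2601 c)
noncomputable def Atab_s_2592_2604 (c : Nat) : Nat := @Bool.rec (fun _ => Nat) (Atab_s_2592_2598 c) (Atab_s_2598_2604 c) (Nat.ble 2598 c)
noncomputable def Atab_s_2580_2604 (c : Nat) : Nat := @Bool.rec (fun _ => Nat) (Atab_s_2580_2592 c) (Atab_s_2592_2604 c) (Nat.ble 2592 c)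
noncomputable def Atab_s_2605_2607 (c : Nat) : Nat := @Bool.rec (fun _ => Nat) (Atab_2605) (Atab_2606) (Nat.ble 2606 c)
noncomputable def Atab_s_2604_2607 (c : Nat) : Nat := @Bool.rec (fun _ => Nat) (Atab_2604) (Atab_s_2605_2607 c) (Nat.ble 2605 c)
noncomputable def Atab_s_2608_2610 (c : Nat) : Nat := @Bool.rec (fun _ => Nat) (Atab_2608) (Atab_2609) (Nat.ble 2609 c)
noncomputable def Atab_s_2607_2610 (c : Nat) : Nat := @Bool.rec (fun _ => Nat) (Atab_2607) (Atab_s_2608_2610 c) (Nat.ble 2608 c)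
noncomputable def Atab_s_2604_2610 (c : Nat) : Nat := @Bool.rec (fun _ => Nat) (Atab_s_2604_2607 c) (Atab_s_2607_2610 c) (Nat.ble 2607 c)
noncomputable def Atab_s_2611_2613 (c : Nat) : Nat := @Bool.rec (fun _ => Nat) (Atab_2611) (Atab_2612) (Nat.ble 2612 c)
noncomputable def Atab_s_2610_2613 (c : Nat) : Nat := @Bool.rec (fun _ => Nat) (Atab_2610) (Atab_s_2611_2613 c) (Nat.ble 2611 c)
noncomputable def Atab_s_2614_2616 (c : Nat) : Nat := @Bool.rec (fun _ => Nat) (Atab_2614) (Atab_2615) (Nat.ble 2615 c)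
noncomputable def Atab_s_2613_2616 (c : Nat) : Nat := @Bool.rec (fun _ => Nat) (Atab_2613) (Atab_s_2614_2616 c) (Nat.ble 2614 c)
noncomputable def Atab_s_2610_2616 (c : Nat) : Nat := @Bool.rec (fun _ => Nat) (Atab_s_2610_2613 c) (Atab_s_2613_2616 c) (Nat.ble 2613 c)
noncomputable def Atab_s_2604_2616 (c : Nat) : Nat := @Bool.rec (fun _ => Nat) (Atab_s_2604_2610 c) (Atab_s_2610_2616 c) (Nat.ble 2610 c)
noncomputable def Atab_s_2617_2619 (c : Nat) : Nat := @Bool.rec (fun _ => Nat) (Atab_2617) (Atab_2618) (Nat.ble 2618 c)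
noncomputable def Atab_s_2616_2619 (c : Nat) : Nat := @Bool.rec (fun _ => Nat) (Atab_2616) (Atab_s_2617_2619 c) (Nat.ble 2617 c)
noncomputable def Atab_s_2620_2622 (c : Nat) : Nat := @Bool.rec (fun _ => Nat) (Atab_2620) (Atab_2621) (Nat.ble 2621 c)
noncomputable def Atab_s_2619_2622 (c : Nat) : Nat := @Bool.rec (fun _ => Nat) (Atab_2619) (Atab_s_2620_2622 c) (Nat.ble 2620 c)
noncomputable def Atab_s_2616_2622 (c : Nat) : Nat := @Bool.rec (fun _ => Nat) (Atab_s_2616_2619 c) (Atab_s_2619_2622 c) (Nat.ble 2619 c)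
noncomputable def Atab_s_2623_2625 (c : Nat) : Nat := @Bool.rec (fun _ => Nat) (Atab_2623) (Atab_2624) (Nat.ble 2624 c)
noncomputable def Atab_s_2622_2625 (c : Nat) : Nat := @Bool.rec (fun _ => Nat) (Atab_2622) (Atab_s_2623_2625 c) (Nat.ble 2623 c)
noncomputable def Atab_s_2625_2627 (c : Nat) : Nat := @Bool.rec (fun _ => Nat) (Atab_2625) (Atab_2626) (Nat.ble 2626 c)
noncomputable def Atab_s_2627_2629 (c : Nat) : Nat := @Bool.rec (fun _ => Nat) (Atab_2627) (Atab_2628) (Nat.ble 2628 c)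
noncomputable def Atab_s_2625_2629 (c : Nat) : Nat := @Bool.rec (fun _ => Nat) (Atab_s_2625_2627 c) (Atab_s_2627_2629 c) (Nat.ble 2627 c)
noncomputable def Atab_s_2622_2629 (c : Nat) : Nat := @Bool.rec (fun _ => Nat) (Atab_s_2622_2625 c) (Atab_s_2625_2629 c) (Nat.ble 2625 c)
noncomputable def Atab_s_2616_2629 (c : Nat) : Nat := @Bool.rec (fun _ => Nat) (Atab_s_2616_2622 c) (Atab_s_2622_2629 c) (Nat.ble 2622 c)
noncomputable def Atab_s_2604_2629 (c : Nat) : Nat := @Bool.rec (fun _ => Nat) (Atab_s_2604_2616 c) (Atab_s_2616_2629 c) (Nat.ble 2616 c)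
noncomputable def Atab_s_2580_2629 (c : Nat) : Nat := @Bool.rec (fun _ => Nat) (Atab_s_2580_2604 c) (Atab_s_2604_2629 c) (Nat.ble 2604 c)
noncomputable def Atab_s_2630_2632 (c : Nat) : Nat := @Bool.rec (fun _ => Nat) (Atab_2630) (Atab_2631) (Nat.ble 2631 c)
noncomputable def Atab_s_2629_2632 (c : Nat) : Nat := @Bool.rec (fun _ => Nat) (Atab_2629) (Atab_s_2630_2632 c) (Nat.ble 2630 c)
noncomputable def Atab_s_2633_2635 (c : Nat) : Nat := @Bool.rec (fun _ => Nat) (Atab_2633) (Atab_2634) (Nat.ble 2634 c)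
noncomputable def Atab_s_2632_2635 (c : Nat) : Nat := @Bool.rec (fun _ => Nat) (Atab_2632) (Atab_s_2633_2635 c) (Nat.ble 2633 c)
noncomputable def Atab_s_2629_2635 (c : Nat) : Nat := @Bool.rec (fun _ => Nat) (Atab_s_2629_2632 c) (Atab_s_2632_2635 c) (Nat.ble 2632 c)
noncomputable def Atab_s_2636_2638 (c : Nat) : Nat := @Bool.rec (fun _ => Nat) (Atab_2636) (Atab_2637) (Nat.ble 2637 c)
noncomputable def Atab_s_2635_2638 (c : Nat) : Nat := @Bool.rec (fun _ => Nat) (Atab_2635) (Atab_s_2636_2638 c) (Nat.ble 2636 c)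
noncomputable def Atab_s_2639_2641 (c : Nat) : Nat := @Bool.rec (fun _ => Nat) (Atab_2639) (Atab_2640) (Nat.ble 2640 c)
noncomputable def Atab_s_2638_2641 (c : Nat) : Nat := @Bool.rec (fun _ => Nat) (Atab_2638) (Atab_s_2639_2641 c) (Nat.ble 2639 c)
noncomputable def Atab_s_2635_2641 (c : Nat) : Nat := @Bool.rec (fun _ => Nat) (Atab_s_2635_2638 c) (Atab_s_2638_2641 c) (Nat.ble 2638 c)
noncomputable def Atab_s_2629_2641 (c : Nat) : Nat := @Bool.rec (fun _ => Nat) (Atab_s_2629_2635 c) (Atab_s_2635_2641 c) (Nat.ble 2635 c)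
noncomputable def Atab_s_2642_2644 (c : Nat) : Nat := @Bool.rec (fun _ => Nat) (Atab_2642) (Atab_2643) (Nat.ble 2643 c)
noncomputable def Atab_s_2641_2644 (c : Nat) : Nat := @Bool.rec (fun _ => Nat) (Atab_2641) (Atab_s_2642_2644 c) (Nat.ble 2642 c)
noncomputable def Atab_s_2645_2647 (c : Nat) : Nat := @Bool.rec (fun _ => Nat) (Atab_2645) (Atab_2646) (Nat.ble 2646 c)
noncomputable def Atab_s_2644_2647 (c : Nat) : Nat := @Bool.rec (fun _ => Nat) (Atab_2644) (Atab_s_2645_2647 c) (Nat.ble 2645 c)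
noncomputable def Atab_s_2641_2647 (c : Nat) : Nat := @Bool.rec (fun _ => Nat) (Atab_s_2641_2644 c) (Atab_s_2644_2647 c) (Nat.ble 2644 c)
noncomputable def Atab_s_2648_2650 (c : Nat) : Nat := @Bool.rec (fun _ => Nat) (Atab_2648) (Atab_2649) (Nat.ble 2649 c)
noncomputable def Atab_s_2647_2650 (c : Nat) : Nat := @Bool.rec (fun _ => Nat) (Atab_2647) (Atab_s_2648_2650 c) (Nat.ble 2648 c)
noncomputable def Atab_s_2650_2652 (c : Nat) : Nat := @Bool.rec (fun _ => Nat) (Atab_2650) (Atab_2651) (Nat.ble 2651 c)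
noncomputable def Atab_s_2652_2654 (c : Nat) : Nat := @Bool.rec (fun _ => Nat) (Atab_2652) (Atab_2653) (Nat.ble 2653 c)
noncomputable def Atab_s_2650_2654 (c : Nat) : Nat := @Bool.rec (fun _ => Nat) (Atab_s_2650_2652 c) (Atab_s_2652_2654 c) (Nat.ble 2652 c)
noncomputable def Atab_s_2647_2654 (c : Nat) : Nat := @Bool.rec (fun _ => Nat) (Atab_s_2647_2650 c) (Atab_s_2650_2654 c) (Nat.ble 2650 c)
noncomputable def Atab_s_2641_2654 (c : Nat) : Nat := @Bool.rec (fun _ => Nat) (Atab_s_2641_2647 c) (Atab_s_2647_2654 c) (Nat.ble 2647 c)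
noncomputable def Atab_s_2629_2654 (c : Nat) : Nat := @Bool.rec (fun _ => Nat) (Atab_s_2629_2641 c) (Atab_s_2641_2654 c) (Nat.ble 2641 c)
noncomputable def Atab_s_2655_2657 (c : Nat) : Nat := @Bool.rec (fun _ => Nat) (Atab_2655) (Atab_2656) (Nat.ble 2656 c)
noncomputable def Atab_s_2654_2657 (c : Nat) : Nat := @Bool.rec (fun _ => Nat) (Atab_2654) (Atab_s_2655_2657 c) (Nat.ble 2655 c)
noncomputable def Atab_s_2658_2660 (c : Nat) : Nat := @Bool.rec (fun _ => Nat) (Atab_2658) (Atab_2659) (Nat.ble 2659 c)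
noncomputable def Atab_s_2657_2660 (c : Nat) : Nat := @Bool.rec (fun _ => Nat) (Atab_2657) (Atab_s_2658_2660 c) (Nat.ble 2658 c)
noncomputable def Atab_s_2654_2660 (c : Nat) : Nat := @Bool.rec (fun _ => Nat) (Atab_s_2654_2657 c) (Atab_s_2657_2660 c) (Nat.ble 2657 c)
noncomputable def Atab_s_2661_2663 (c : Nat) : Nat := @Bool.rec (fun _ => Nat) (Atab_2661) (Atab_2662) (Nat.ble 2662 c)
noncomputable def Atab_s_2660_2663 (c : Nat) : Nat := @Bool.rec (fun _ => Nat) (Atab_2660) (Atab_s_2661_2663 c) (Nat.ble 2661 c)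
noncomputable def Atab_s_2664_2666 (c : Nat) : Nat := @Bool.rec (fun _ => Nat) (Atab_2664) (Atab_2665) (Nat.ble 2665 c)
noncomputable def Atab_s_2663_2666 (c : Nat) : Nat := @Bool.rec (fun _ => Nat) (Atab_2663) (Atab_s_2664_2666 c) (Nat.ble 2664 c)
noncomputable def Atab_s_2660_2666 (c : Nat) : Nat := @Bool.rec (fun _ => Nat) (Atab_s_2660_2663 c) (Atab_s_2663_2666 c) (Nat.ble 2663 c)
noncomputable def Atab_s_2654_2666 (c : Nat) : Nat := @Bool.rec (fun _ => Nat) (Atab_s_2654_2660 c) (Atab_s_2660_2666 c) (Nat.ble 2660 c)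
noncomputable def Atab_s_2667_2669 (c : Nat) : Nat := @Bool.rec (fun _ => Nat) (Atab_2667) (Atab_2668) (Nat.ble 2668 c)
noncomputable def Atab_s_2666_2669 (c : Nat) : Nat := @Bool.rec (fun _ => Nat) (Atab_2666) (Atab_s_2667_2669 c) (Nat.ble 2667 c)
noncomputable def Atab_s_2670_2672 (c : Nat) : Nat := @Bool.rec (fun _ => Nat) (Atab_2670) (Atab_2671) (Nat.ble 2671 c)
noncomputable def Atab_s_2669_2672 (c : Nat) : Nat := @Bool.rec (fun _ => Nat) (Atab_2669) (Atab_s_2670_2672 c) (Nat.ble 2670 c)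
noncomputable def Atab_s_2666_2672 (c : Nat) : Nat := @Bool.rec (fun _ => Nat) (Atab_s_2666_2669 c) (Atab_s_2669_2672 c) (Nat.ble 2669 c)
noncomputable def Atab_s_2673_2675 (c : Nat) : Nat := @Bool.rec (fun _ => Nat) (Atab_2673) (Atab_2674) (Nat.ble 2674 c)
noncomputable def Atab_s_2672_2675 (c : Nat) : Nat := @Bool.rec (fun _ => Nat) (Atab_2672) (Atab_s_2673_2675 c) (Nat.ble 2673 c)
noncomputable def Atab_s_2675_2677 (c : Nat) : Nat := @Bool.rec (fun _ => Nat) (Atab_2675) (Atab_2676) (Nat.ble 2676 c)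
noncomputable def Atab_s_2677_2679 (c : Nat) : Nat := @Bool.rec (fun _ => Nat) (Atab_2677) (Atab_2678) (Nat.ble 2678 c)
noncomputable def Atab_s_2675_2679 (c : Nat) : Nat := @Bool.rec (fun _ => Nat) (Atab_s_2675_2677 c) (Atab_s_2677_2679 c) (Nat.ble 2677 c)
noncomputable def Atab_s_2672_2679 (c : Nat) : Nat := @Bool.rec (fun _ => Nat) (Atab_s_2672_2675 c) (Atab_s_2675_2679 c) (Nat.ble 2675 c)
noncomputable def Atab_s_2666_2679 (c : Nat) : Nat := @Bool.rec (fun _ => Nat) (Atab_s_2666_2672 c) (Atab_s_2672_2679 c) (Nat.ble 2672 c)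
noncomputable def Atab_s_2654_2679 (c : Nat) : Nat := @Bool.rec (fun _ => Nat) (Atab_s_2654_2666 c) (Atab_s_2666_2679 c) (Nat.ble 2666 c)
noncomputable def Atab_s_2629_2679 (c : Nat) : Nat := @Bool.rec (fun _ => Nat) (Atab_s_2629_2654 c) (Atab_s_2654_2679 c) (Nat.ble 2654 c)
noncomputable def Atab_s_2580_2679 (c : Nat) : Nat := @Bool.rec (fun _ => Nat) (Atab_s_2580_2629 c) (Atab_s_2629_2679 c) (Nat.ble 2629 c)
noncomputable def Atab_s_2680_2682 (c : Nat) : Nat := @Bool.rec (fun _ => Nat) (Atab_2680) (Atab_2681) (Nat.ble 2681 c)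
noncomputable def Atab_s_2679_2682 (c : Nat) : Nat := @Bool.rec (fun _ => Nat) (Atab_2679) (Atab_s_2680_2682 c) (Nat.ble 2680 c)
noncomputable def Atab_s_2683_2685 (c : Nat) : Nat := @Bool.rec (fun _ => Nat) (Atab_2683) (Atab_2684) (Nat.ble 2684 c)
noncomputable def Atab_s_2682_2685 (c : Nat) : Nat := @Bool.rec (fun _ => Nat) (Atab_2682) (Atab_s_2683_2685 c) (Nat.ble 2683 c)
noncomputable def Atab_s_2679_2685 (c : Nat) : Nat := @Bool.rec (fun _ => Nat) (Atab_s_2679_2682 c) (Atab_s_2682_2685 c) (Nat.ble 2682 c)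
noncomputable def Atab_s_2686_2688 (c : Nat) : Nat := @Bool.rec (fun _ => Nat) (Atab_2686) (Atab_2687) (Nat.ble 2687 c)
noncomputable def Atab_s_2685_2688 (c : Nat) : Nat := @Bool.rec (fun _ => Nat) (Atab_2685) (Atab_s_2686_2688 c) (Nat.ble 2686 c)
noncomputable def Atab_s_2689_2691 (c : Nat) : Nat := @Bool.rec (fun _ => Nat) (Atab_2689) (Atab_2690) (Nat.ble 2690 c)
noncomputable def Atab_s_2688_2691 (c : Nat) : Nat := @Bool.rec (fun _ => Nat) (Atab_2688) (Atab_s_2689_2691 c) (Nat.ble 2689 c)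
noncomputable def Atab_s_2685_2691 (c : Nat) : Nat := @Bool.rec (fun _ => Nat) (Atab_s_2685_2688 c) (Atab_s_2688_2691 c) (Nat.ble 2688 c)
noncomputable def Atab_s_2679_2691 (c : Nat) : Nat := @Bool.rec (fun _ => Nat) (Atab_s_2679_2685 c) (Atab_s_2685_2691 c) (Nat.ble 2685 c)
noncomputable def Atab_s_2692_2694 (c : Nat) : Nat := @Bool.rec (fun _ => Nat) (Atab_2692) (Atab_2693) (Nat.ble 2693 c)
noncomputable def Atab_s_2691_2694 (c : Nat) : Nat := @Bool.rec (fun _ => Nat) (Atab_2691) (Atab_s_2692_2694 c) (Nat.ble 2692 c)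
noncomputable def Atab_s_2695_2697 (c : Nat) : Nat := @Bool.rec (fun _ => Nat) (Atab_2695) (Atab_2696) (Nat.ble 2696 c)
noncomputable def Atab_s_2694_2697 (c : Nat) : Nat := @Bool.rec (fun _ => Nat) (Atab_2694) (Atab_s_2695_2697 c) (Nat.ble 2695 c)
noncomputable def Atab_s_2691_2697 (c : Nat) : Nat := @Bool.rec (fun _ => Nat) (Atab_s_2691_2694 c) (Atab_s_2694_2697 c) (Nat.ble 2694 c)
noncomputable def Atab_s_2698_2700 (c : Nat) : Nat := @Bool.rec (fun _ => Nat) (Atab_2698) (Atab_2699) (Nat.ble 2699 c)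
noncomputable def Atab_s_2697_2700 (c : Nat) : Nat := @Bool.rec (fun _ => Nat) (Atab_2697) (Atab_s_2698_2700 c) (Nat.ble 2698 c)
noncomputable def Atab_s_2700_2702 (c : Nat) : Nat := @Bool.rec (fun _ => Nat) (Atab_2700) (Atab_2701) (Nat.ble 2701 c)
noncomputable def Atab_s_2702_2704 (c : Nat) : Nat := @Bool.rec (fun _ => Nat) (Atab_2702) (Atab_2703) (Nat.ble 2703 c)
noncomputable def Atab_s_2700_2704 (c : Nat) : Nat := @Bool.rec (fun _ => Nat) (Atab_s_2700_2702 c) (Atab_s_2702_2704 c) (Nat.ble 2702 c)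
noncomputable def Atab_s_2697_2704 (c : Nat) : Nat := @Bool.rec (fun _ => Nat) (Atab_s_2697_2700 c) (Atab_s_2700_2704 c) (Nat.ble 2700 c)
noncomputable def Atab_s_2691_2704 (c : Nat) : Nat := @Bool.rec (fun _ => Nat) (Atab_s_2691_2697 c) (Atab_s_2697_2704 c) (Nat.ble 2697 c)
noncomputable def Atab_s_2679_2704 (c : Nat) : Nat := @Bool.rec (fun _ => Nat) (Atab_s_2679_2691 c) (Atab_s_2691_2704 c) (Nat.ble 2691 c)
noncomputable def Atab_s_2705_2707 (c : Nat) : Nat := @Bool.rec (fun _ => Nat) (Atab_2705) (Atab_2706) (Nat.ble 2706 c)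
noncomputable def Atab_s_2704_2707 (c : Nat) : Nat := @Bool.rec (fun _ => Nat) (Atab_2704) (Atab_s_2705_2707 c) (Nat.ble 2705 c)
noncomputable def Atab_s_2708_2710 (c : Nat) : Nat := @Bool.rec (fun _ => Nat) (Atab_2708) (Atab_2709) (Nat.ble 2709 c)
noncomputable def Atab_s_2707_2710 (c : Nat) : Nat := @Bool.rec (fun _ => Nat) (Atab_2707) (Atab_s_2708_2710 c) (Nat.ble 2708 c)
noncomputable def Atab_s_2704_2710 (c : Nat) : Nat := @Bool.rec (fun _ => Nat) (Atab_s_2704_2707 c) (Atab_s_2707_2710 c) (Nat.ble 2707 c)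
noncomputable def Atab_s_2711_2713 (c : Nat) : Nat := @Bool.rec (fun _ => Nat) (Atab_2711) (Atab_2712) (Nat.ble 2712 c)
noncomputable def Atab_s_2710_2713 (c : Nat) : Nat := @Bool.rec (fun _ => Nat) (Atab_2710) (Atab_s_2711_2713 c) (Nat.ble 2711 c)
noncomputable def Atab_s_2714_2716 (c : Nat) : Nat := @Bool.rec (fun _ => Nat) (Atab_2714) (Atab_2715) (Nat.ble 2715 c)
noncomputable def Atab_s_2713_2716 (c : Nat) : Nat := @Bool.rec (fun _ => Nat) (Atab_2713) (Atab_s_2714_2716 c) (Nat.ble 2714 c)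
noncomputable def Atab_s_2710_2716 (c : Nat) : Nat := @Bool.rec (fun _ => Nat) (Atab_s_2710_2713 c) (Atab_s_2713_2716 c) (Nat.ble 2713 c)
noncomputable def Atab_s_2704_2716 (c : Nat) : Nat := @Bool.rec (fun _ => Nat) (Atab_s_2704_2710 c) (Atab_s_2710_2716 c) (Nat.ble 2710 c)
noncomputable def Atab_s_2717_2719 (c : Nat) : Nat := @Bool.rec (fun _ => Nat) (Atab_2717) (Atab_2718) (Nat.ble 2718 c)
noncomputable def Atab_s_2716_2719 (c : Nat) : Nat := @Bool.rec (fun _ => Nat) (Atab_2716) (Atab_s_2717_2719 c) (Nat.ble 2717 c)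
noncomputable def Atab_s_2720_2722 (c : Nat) : Nat := @Bool.rec (fun _ => Nat) (Atab_2720) (Atab_2721) (Nat.ble 2721 c)
noncomputable def Atab_s_2719_2722 (c : Nat) : Nat := @Bool.rec (fun _ => Nat) (Atab_2719) (Atab_s_2720_2722 c) (Nat.ble 2720 c)
noncomputable def Atab_s_2716_2722 (c : Nat) : Nat := @Bool.rec (fun _ => Nat) (Atab_s_2716_2719 c) (Atab_s_2719_2722 c) (Nat.ble 2719 c)
noncomputable def Atab_s_2723_2725 (c : Nat) : Nat := @Bool.rec (fun _ => Nat) (Atab_2723) (Atab_2724) (Nat.ble 2724 c)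
noncomputable def Atab_s_2722_2725 (c : Nat) : Nat := @Bool.rec (fun _ => Nat) (Atab_2722) (Atab_s_2723_2725 c) (Nat.ble 2723 c)
noncomputable def Atab_s_2725_2727 (c : Nat) : Nat := @Bool.rec (fun _ => Nat) (Atab_2725) (Atab_2726) (Nat.ble 2726 c)
noncomputable def Atab_s_2727_2729 (c : Nat) : Nat := @Bool.rec (fun _ => Nat) (Atab_2727) (Atab_2728) (Nat.ble 2728 c)
noncomputable def Atab_s_2725_2729 (c : Nat) : Nat := @Bool.rec (fun _ => Nat) (Atab_s_2725_2727 c) (Atab_s_2727_2729 c) (Nat.ble 2727 c)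
noncomputable def Atab_s_2722_2729 (c : Nat) : Nat := @Bool.rec (fun _ => Nat) (Atab_s_2722_2725 c) (Atab_s_2725_2729 c) (Nat.ble 2725 c)
noncomputable def Atab_s_2716_2729 (c : Nat) : Nat := @Bool.rec (fun _ => Nat) (Atab_s_2716_2722 c) (Atab_s_2722_2729 c) (Nat.ble 2722 c)
noncomputable def Atab_s_2704_2729 (c : Nat) : Nat := @Bool.rec (fun _ => Nat) (Atab_s_2704_2716 c) (Atab_s_2716_2729 c) (Nat.ble 2716 c)
noncomputable def Atab_s_2679_2729 (c : Nat) : Nat := @Bool.rec (fun _ => Nat) (Atab_s_2679_2704 c) (Atab_s_2704_2729 c) (Nat.ble 2704 c)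
noncomputable def Atab_s_2730_2732 (c : Nat) : Nat := @Bool.rec (fun _ => Nat) (Atab_2730) (Atab_2731) (Nat.ble 2731 c)
noncomputable def Atab_s_2729_2732 (c : Nat) : Nat := @Bool.rec (fun _ => Nat) (Atab_2729) (Atab_s_2730_2732 c) (Nat.ble 2730 c)
noncomputable def Atab_s_2733_2735 (c : Nat) : Nat := @Bool.rec (fun _ => Nat) (Atab_2733) (Atab_2734) (Nat.ble 2734 c)
noncomputable def Atab_s_2732_2735 (c : Nat) : Nat := @Bool.rec (fun _ => Nat) (Atab_2732) (Atab_s_2733_2735 c) (Nat.ble 2733 c)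
noncomputable def Atab_s_2729_2735 (c : Nat) : Nat := @Bool.rec (fun _ => Nat) (Atab_s_2729_2732 c) (Atab_s_2732_2735 c) (Nat.ble 2732 c)
noncomputable def Atab_s_2736_2738 (c : Nat) : Nat := @Bool.rec (fun _ => Nat) (Atab_2736) (Atab_2737) (Nat.ble 2737 c)
noncomputable def Atab_s_2735_2738 (c : Nat) : Nat := @Bool.rec (fun _ => Nat) (Atab_2735) (Atab_s_2736_2738 c) (Nat.ble 2736 c)
noncomputable def Atab_s_2739_2741 (c : Nat) : Nat := @Bool.rec (fun _ => Nat) (Atab_2739) (Atab_2740) (Nat.ble 2740 c)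
noncomputable def Atab_s_2738_2741 (c : Nat) : Nat := @Bool.rec (fun _ => Nat) (Atab_2738) (Atab_s_2739_2741 c) (Nat.ble 2739 c)
noncomputable def Atab_s_2735_2741 (c : Nat) : Nat := @Bool.rec (fun _ => Nat) (Atab_s_2735_2738 c) (Atab_s_2738_2741 c) (Nat.ble 2738 c)
noncomputable def Atab_s_2729_2741 (c : Nat) : Nat := @Bool.rec (fun _ => Nat) (Atab_s_2729_2735 c) (Atab_s_2735_2741 c) (Nat.ble 2735 c)
noncomputable def Atab_s_2742_2744 (c : Nat) : Nat := @Bool.rec (fun _ => Nat) (Atab_2742) (Atab_2743) (Nat.ble 2743 c)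
noncomputable def Atab_s_2741_2744 (c : Nat) : Nat := @Bool.rec (fun _ => Nat) (Atab_2741) (Atab_s_2742_2744 c) (Nat.ble 2742 c)
noncomputable def Atab_s_2745_2747 (c : Nat) : Nat := @Bool.rec (fun _ => Nat) (Atab_2745) (Atab_2746) (Nat.ble 2746 c)
noncomputable def Atab_s_2744_2747 (c : Nat) : Nat := @Bool.rec (fun _ => Nat) (Atab_2744) (Atab_s_2745_2747 c) (Nat.ble 2745 c)
noncomputable def Atab_s_2741_2747 (c : Nat) : Nat := @Bool.rec (fun _ => Nat) (Atab_s_2741_2744 c) (Atab_s_2744_2747 c) (Nat.ble 2744 c)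
noncomputable def Atab_s_2748_2750 (c : Nat) : Nat := @Bool.rec (fun _ => Nat) (Atab_2748) (Atab_2749) (Nat.ble 2749 c)
noncomputable def Atab_s_2747_2750 (c : Nat) : Nat := @Bool.rec (fun _ => Nat) (Atab_2747) (Atab_s_2748_2750 c) (Nat.ble 2748 c)
noncomputable def Atab_s_2750_2752 (c : Nat) : Nat := @Bool.rec (fun _ => Nat) (Atab_2750) (Atab_2751) (Nat.ble 2751 c)
noncomputable def Atab_s_2752_2754 (c : Nat) : Nat := @Bool.rec (fun _ => Nat) (Atab_2752) (Atab_2753) (Nat.ble 2753 c)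
noncomputable def Atab_s_2750_2754 (c : Nat) : Nat := @Bool.rec (fun _ => Nat) (Atab_s_2750_2752 c) (Atab_s_2752_2754 c) (Nat.ble 2752 c)
noncomputable def Atab_s_2747_2754 (c : Nat) : Nat := @Bool.rec (fun _ => Nat) (Atab_s_2747_2750 c) (Atab_s_2750_2754 c) (Nat.ble 2750 c)
noncomputable def Atab_s_2741_2754 (c : Nat) : Nat := @Bool.rec (fun _ => Nat) (Atab_s_2741_2747 c) (Atab_s_2747_2754 c) (Nat.ble 2747 c)
noncomputable def Atab_s_2729_2754 (c : Nat) : Nat := @Bool.rec (fun _ => Nat) (Atab_s_2729_2741 c) (Atab_s_2741_2754 c) (Nat.ble 2741 c)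
noncomputable def Atab_s_2755_2757 (c : Nat) : Nat := @Bool.rec (fun _ => Nat) (Atab_2755) (Atab_2756) (Nat.ble 2756 c)
noncomputable def Atab_s_2754_2757 (c : Nat) : Nat := @Bool.rec (fun _ => Nat) (Atab_2754) (Atab_s_2755_2757 c) (Nat.ble 2755 c)
noncomputable def Atab_s_2758_2760 (c : Nat) : Nat := @Bool.rec (fun _ => Nat) (Atab_2758) (Atab_2759) (Nat.ble 2759 c)
noncomputable def Atab_s_2757_2760 (c : Nat) : Nat := @Bool.rec (fun _ => Nat) (Atab_2757) (Atab_s_2758_2760 c) (Nat.ble 2758 c)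
noncomputable def Atab_s_2754_2760 (c : Nat) : Nat := @Bool.rec (fun _ => Nat) (Atab_s_2754_2757 c) (Atab_s_2757_2760 c) (Nat.ble 2757 c)
noncomputable def Atab_s_2761_2763 (c : Nat) : Nat := @Bool.rec (fun _ => Nat) (Atab_2761) (Atab_2762) (Nat.ble 2762 c)
noncomputable def Atab_s_2760_2763 (c : Nat) : Nat := @Bool.rec (fun _ => Nat) (Atab_2760) (Atab_s_2761_2763 c) (Nat.ble 2761 c)
noncomputable def Atab_s_2764_2766 (c : Nat) : Nat := @Bool.rec (fun _ => Nat) (Atab_2764) (Atab_2765) (Nat.ble 2765 c)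
noncomputable def Atab_s_2763_2766 (c : Nat) : Nat := @Bool.rec (fun _ => Nat) (Atab_2763) (Atab_s_2764_2766 c) (Nat.ble 2764 c)
noncomputable def Atab_s_2760_2766 (c : Nat) : Nat := @Bool.rec (fun _ => Nat) (Atab_s_2760_2763 c) (Atab_s_2763_2766 c) (Nat.ble 2763 c)
noncomputable def Atab_s_2754_2766 (c : Nat) : Nat := @Bool.rec (fun _ => Nat) (Atab_s_2754_2760 c) (Atab_s_2760_2766 c) (Nat.ble 2760 c)
noncomputable def Atab_s_2767_2769 (c : Nat) : Nat := @Bool.rec (fun _ => Nat) (Atab_2767) (Atab_2768) (Nat.ble 2768 c)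
noncomputable def Atab_s_2766_2769 (c : Nat) : Nat := @Bool.rec (fun _ => Nat) (Atab_2766) (Atab_s_2767_2769 c) (Nat.ble 2767 c)
noncomputable def Atab_s_2770_2772 (c : Nat) : Nat := @Bool.rec (fun _ => Nat) (Atab_2770) (Atab_2771) (Nat.ble 2771 c)
noncomputable def Atab_s_2769_2772 (c : Nat) : Nat := @Bool.rec (fun _ => Nat) (Atab_2769) (Atab_s_2770_2772 c) (Nat.ble 2770 c)
noncomputable def Atab_s_2766_2772 (c : Nat) : Nat := @Bool.rec (fun _ => Nat) (Atab_s_2766_2769 c) (Atab_s_2769_2772 c) (Nat.ble 2769 c)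
noncomputable def Atab_s_2773_2775 (c : Nat) : Nat := @Bool.rec (fun _ => Nat) (Atab_2773) (Atab_2774) (Nat.ble 2774 c)
noncomputable def Atab_s_2772_2775 (c : Nat) : Nat := @Bool.rec (fun _ => Nat) (Atab_2772) (Atab_s_2773_2775 c) (Nat.ble 2773 c)
noncomputable def Atab_s_2775_2777 (c : Nat) : Nat := @Bool.rec (fun _ => Nat) (Atab_2775) (Atab_2776) (Nat.ble 2776 c)
noncomputable def Atab_s_2777_2779 (c : Nat) : Nat := @Bool.rec (fun _ => Nat) (Atab_2777) (Atab_2778) (Nat.ble 2778 c)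
noncomputable def Atab_s_2775_2779 (c : Nat) : Nat := @Bool.rec (fun _ => Nat) (Atab_s_2775_2777 c) (Atab_s_2777_2779 c) (Nat.ble 2777 c)
noncomputable def Atab_s_2772_2779 (c : Nat) : Nat := @Bool.rec (fun _ => Nat) (Atab_s_2772_2775 c) (Atab_s_2775_2779 c) (Nat.ble 2775 c)
noncomputable def Atab_s_2766_2779 (c : Nat) : Nat := @Bool.rec (fun _ => Nat) (Atab_s_2766_2772 c) (Atab_s_2772_2779 c) (Nat.ble 2772 c)
noncomputable def Atab_s_2754_2779 (c : Nat) : Nat := @Bool.rec (fun _ => Nat) (Atab_s_2754_2766 c) (Atab_s_2766_2779 c) (Nat.ble 2766 c)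
noncomputable def Atab_s_2729_2779 (c : Nat) : Nat := @Bool.rec (fun _ => Nat) (Atab_s_2729_2754 c) (Atab_s_2754_2779 c) (Nat.ble 2754 c)
noncomputable def Atab_s_2679_2779 (c : Nat) : Nat := @Bool.rec (fun _ => Nat) (Atab_s_2679_2729 c) (Atab_s_2729_2779 c) (Nat.ble 2729 c)
noncomputable def Atab_s_2580_2779 (c : Nat) : Nat := @Bool.rec (fun _ => Nat) (Atab_s_2580_2679 c) (Atab_s_2679_2779 c) (Nat.ble 2679 c)
noncomputable def Atab_s_2382_2779 (c : Nat) : Nat := @Bool.rec (fun _ => Nat) (Atab_s_2382_2580 c) (Atab_s_2580_2779 c) (Nat.ble 2580 c)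
noncomputable def Atab_s_2780_2782 (c : Nat) : Nat := @Bool.rec (fun _ => Nat) (Atab_2780) (Atab_2781) (Nat.ble 2781 c)
noncomputable def Atab_s_2779_2782 (c : Nat) : Nat := @Bool.rec (fun _ => Nat) (Atab_2779) (Atab_s_2780_2782 c) (Nat.ble 2780 c)
noncomputable def Atab_s_2783_2785 (c : Nat) : Nat := @Bool.rec (fun _ => Nat) (Atab_2783) (Atab_2784) (Nat.ble 2784 c)
noncomputable def Atab_s_2782_2785 (c : Nat) : Nat := @Bool.rec (fun _ => Nat) (Atab_2782) (Atab_s_2783_2785 c) (Nat.ble 2783 c)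
noncomputable def Atab_s_2779_2785 (c : Nat) : Nat := @Bool.rec (fun _ => Nat) (Atab_s_2779_2782 c) (Atab_s_2782_2785 c) (Nat.ble 2782 c)
noncomputable def Atab_s_2786_2788 (c : Nat) : Nat := @Bool.rec (fun _ => Nat) (Atab_2786) (Atab_2787) (Nat.ble 2787 c)
noncomputable def Atab_s_2785_2788 (c : Nat) : Nat := @Bool.rec (fun _ => Nat) (Atab_2785) (Atab_s_2786_2788 c) (Nat.ble 2786 c)
noncomputable def Atab_s_2789_2791 (c : Nat) : Nat := @Bool.rec (fun _ => Nat) (Atab_2789) (Atab_2790) (Nat.ble 2790 c)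
noncomputable def Atab_s_2788_2791 (c : Nat) : Nat := @Bool.rec (fun _ => Nat) (Atab_2788) (Atab_s_2789_2791 c) (Nat.ble 2789 c)
noncomputable def Atab_s_2785_2791 (c : Nat) : Nat := @Bool.rec (fun _ => Nat) (Atab_s_2785_2788 c) (Atab_s_2788_2791 c) (Nat.ble 2788 c)
noncomputable def Atab_s_2779_2791 (c : Nat) : Nat := @Bool.rec (fun _ => Nat) (Atab_s_2779_2785 c) (Atab_s_2785_2791 c) (Nat.ble 2785 c)
noncomputable def Atab_s_2792_2794 (c : Nat) : Nat := @Bool.rec (fun _ => Nat) (Atab_2792) (Atab_2793) (Nat.ble 2793 c)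
noncomputable def Atab_s_2791_2794 (c : Nat) : Nat := @Bool.rec (fun _ => Nat) (Atab_2791) (Atab_s_2792_2794 c) (Nat.ble 2792 c)
noncomputable def Atab_s_2795_2797 (c : Nat) : Nat := @Bool.rec (fun _ => Nat) (Atab_2795) (Atab_2796) (Nat.ble 2796 c)
noncomputable def Atab_s_2794_2797 (c : Nat) : Nat := @Bool.rec (fun _ => Nat) (Atab_2794) (Atab_s_2795_2797 c) (Nat.ble 2795 c)
noncomputable def Atab_s_2791_2797 (c : Nat) : Nat := @Bool.rec (fun _ => Nat) (Atab_s_2791_2794 c) (Atab_s_2794_2797 c) (Nat.ble 2794 c)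
noncomputable def Atab_s_2798_2800 (c : Nat) : Nat := @Bool.rec (fun _ => Nat) (Atab_2798) (Atab_2799) (Nat.ble 2799 c)
noncomputable def Atab_s_2797_2800 (c : Nat) : Nat := @Bool.rec (fun _ => Nat) (Atab_2797) (Atab_s_2798_2800 c) (Nat.ble 2798 c)
noncomputable def Atab_s_2801_2803 (c : Nat) : Nat := @Bool.rec (fun _ => Nat) (Atab_2801) (Atab_2802) (Nat.ble 2802 c)
noncomputable def Atab_s_2800_2803 (c : Nat) : Nat := @Bool.rec (fun _ => Nat) (Atab_2800) (Atab_s_2801_2803 c) (Nat.ble 2801 c)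
noncomputable def Atab_s_2797_2803 (c : Nat) : Nat := @Bool.rec (fun _ => Nat) (Atab_s_2797_2800 c) (Atab_s_2800_2803 c) (Nat.ble 2800 c)
noncomputable def Atab_s_2791_2803 (c : Nat) : Nat := @Bool.rec (fun _ => Nat) (Atab_s_2791_2797 c) (Atab_s_2797_2803 c) (Nat.ble 2797 c)
noncomputable def Atab_s_2779_2803 (c : Nat) : Nat := @Bool.rec (fun _ => Nat) (Atab_s_2779_2791 c) (Atab_s_2791_2803 c) (Nat.ble 2791 c)
noncomputable def Atab_s_2804_2806 (c : Nat) : Nat := @Bool.rec (fun _ => Nat) (Atab_2804) (Atab_2805) (Nat.ble 2805 c)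
noncomputable def Atab_s_2803_2806 (c : Nat) : Nat := @Bool.rec (fun _ => Nat) (Atab_2803) (Atab_s_2804_2806 c) (Nat.ble 2804 c)
noncomputable def Atab_s_2807_2809 (c : Nat) : Nat := @Bool.rec (fun _ => Nat) (Atab_2807) (Atab_2808) (Nat.ble 2808 c)
noncomputable def Atab_s_2806_2809 (c : Nat) : Nat := @Bool.rec (fun _ => Nat) (Atab_2806) (Atab_s_2807_2809 c) (Nat.ble 2807 c)
noncomputable def Atab_s_2803_2809 (c : Nat) : Nat := @Bool.rec (fun _ => Nat) (Atab_s_2803_2806 c) (Atab_s_2806_2809 c) (Nat.ble 2806 c)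
noncomputable def Atab_s_2810_2812 (c : Nat) : Nat := @Bool.rec (fun _ => Nat) (Atab_2810) (Atab_2811) (Nat.ble 2811 c)
noncomputable def Atab_s_2809_2812 (c : Nat) : Nat := @Bool.rec (fun _ => Nat) (Atab_2809) (Atab_s_2810_2812 c) (Nat.ble 2810 c)
noncomputable def Atab_s_2813_2815 (c : Nat) : Nat := @Bool.rec (fun _ => Nat) (Atab_2813) (Atab_2814) (Nat.ble 2814 c)
noncomputable def Atab_s_2812_2815 (c : Nat) : Nat := @Bool.rec (fun _ => Nat) (Atab_2812) (Atab_s_2813_2815 c) (Nat.ble 2813 c)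
noncomputable def Atab_s_2809_2815 (c : Nat) : Nat := @Bool.rec (fun _ => Nat) (Atab_s_2809_2812 c) (Atab_s_2812_2815 c) (Nat.ble 2812 c)
noncomputable def Atab_s_2803_2815 (c : Nat) : Nat := @Bool.rec (fun _ => Nat) (Atab_s_2803_2809 c) (Atab_s_2809_2815 c) (Nat.ble 2809 c)
noncomputable def Atab_s_2816_2818 (c : Nat) : Nat := @Bool.rec (fun _ => Nat) (Atab_2816) (Atab_2817) (Nat.ble 2817 c)
noncomputable def Atab_s_2815_2818 (c : Nat) : Nat := @Bool.rec (fun _ => Nat) (Atab_2815) (Atab_s_2816_2818 c) (Nat.ble 2816 c)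
noncomputable def Atab_s_2819_2821 (c : Nat) : Nat := @Bool.rec (fun _ => Nat) (Atab_2819) (Atab_2820) (Nat.ble 2820 c)
noncomputable def Atab_s_2818_2821 (c : Nat) : Nat := @Bool.rec (fun _ => Nat) (Atab_2818) (Atab_s_2819_2821 c) (Nat.ble 2819 c)
noncomputable def Atab_s_2815_2821 (c : Nat) : Nat := @Bool.rec (fun _ => Nat) (Atab_s_2815_2818 c) (Atab_s_2818_2821 c) (Nat.ble 2818 c)
noncomputable def Atab_s_2822_2824 (c : Nat) : Nat := @Bool.rec (fun _ => Nat) (Atab_2822) (Atab_2823) (Nat.ble 2823 c)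
noncomputable def Atab_s_2821_2824 (c : Nat) : Nat := @Bool.rec (fun _ => Nat) (Atab_2821) (Atab_s_2822_2824 c) (Nat.ble 2822 c)
noncomputable def Atab_s_2824_2826 (c : Nat) : Nat := @Bool.rec (fun _ => Nat) (Atab_2824) (Atab_2825) (Nat.ble 2825 c)
noncomputable def Atab_s_2826_2828 (c : Nat) : Nat := @Bool.rec (fun _ => Nat) (Atab_2826) (Atab_2827) (Nat.ble 2827 c)
noncomputable def Atab_s_2824_2828 (c : Nat) : Nat := @Bool.rec (fun _ => Nat) (Atab_s_2824_2826 c) (Atab_s_2826_2828 c) (Nat.ble 2826 c)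
noncomputable def Atab_s_2821_2828 (c : Nat) : Nat := @Bool.rec (fun _ => Nat) (Atab_s_2821_2824 c) (Atab_s_2824_2828 c) (Nat.ble 2824 c)
noncomputable def Atab_s_2815_2828 (c : Nat) : Nat := @Bool.rec (fun _ => Nat) (Atab_s_2815_2821 c) (Atab_s_2821_2828 c) (Nat.ble 2821 c)
noncomputable def Atab_s_2803_2828 (c : Nat) : Nat := @Bool.rec (fun _ => Nat) (Atab_s_2803_2815 c) (Atab_s_2815_2828 c) (Nat.ble 2815 c)
noncomputable def Atab_s_2779_2828 (c : Nat) : Nat := @Bool.rec (fun _ => Nat) (Atab_s_2779_2803 c) (Atab_s_2803_2828 c) (Nat.ble 2803 c)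
noncomputable def Atab_s_2829_2831 (c : Nat) : Nat := @Bool.rec (fun _ => Nat) (Atab_2829) (Atab_2830) (Nat.ble 2830 c)
noncomputable def Atab_s_2828_2831 (c : Nat) : Nat := @Bool.rec (fun _ => Nat) (Atab_2828) (Atab_s_2829_2831 c) (Nat.ble 2829 c)
noncomputable def Atab_s_2832_2834 (c : Nat) : Nat := @Bool.rec (fun _ => Nat) (Atab_2832) (Atab_2833) (Nat.ble 2833 c)
noncomputable def Atab_s_2831_2834 (c : Nat) : Nat := @Bool.rec (fun _ => Nat) (Atab_2831) (Atab_s_2832_2834 c) (Nat.ble 2832 c)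
noncomputable def Atab_s_2828_2834 (c : Nat) : Nat := @Bool.rec (fun _ => Nat) (Atab_s_2828_2831 c) (Atab_s_2831_2834 c) (Nat.ble 2831 c)
noncomputable def Atab_s_2835_2837 (c : Nat) : Nat := @Bool.rec (fun _ => Nat) (Atab_2835) (Atab_2836) (Nat.ble 2836 c)
noncomputable def Atab_s_2834_2837 (c : Nat) : Nat := @Bool.rec (fun _ => Nat) (Atab_2834) (Atab_s_2835_2837 c) (Nat.ble 2835 c)
noncomputable def Atab_s_2838_2840 (c : Nat) : Nat := @Bool.rec (fun _ => Nat) (Atab_2838) (Atab_2839) (Nat.ble 2839 c)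
noncomputable def Atab_s_2837_2840 (c : Nat) : Nat := @Bool.rec (fun _ => Nat) (Atab_2837) (Atab_s_2838_2840 c) (Nat.ble 2838 c)
noncomputable def Atab_s_2834_2840 (c : Nat) : Nat := @Bool.rec (fun _ => Nat) (Atab_s_2834_2837 c) (Atab_s_2837_2840 c) (Nat.ble 2837 c)
noncomputable def Atab_s_2828_2840 (c : Nat) : Nat := @Bool.rec (fun _ => Nat) (Atab_s_2828_2834 c) (Atab_s_2834_2840 c) (Nat.ble 2834 c)
noncomputable def Atab_s_2841_2843 (c : Nat) : Nat := @Bool.rec (fun _ => Nat) (Atab_2841) (Atab_2842) (Nat.ble 2842 c)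
noncomputable def Atab_s_2840_2843 (c : Nat) : Nat := @Bool.rec (fun _ => Nat) (Atab_2840) (Atab_s_2841_2843 c) (Nat.ble 2841 c)
noncomputable def Atab_s_2844_2846 (c : Nat) : Nat := @Bool.rec (fun _ => Nat) (Atab_2844) (Atab_2845) (Nat.ble 2845 c)
noncomputable def Atab_s_2843_2846 (c : Nat) : Nat := @Bool.rec (fun _ => Nat) (Atab_2843) (Atab_s_2844_2846 c) (Nat.ble 2844 c)
noncomputable def Atab_s_2840_2846 (c : Nat) : Nat := @Bool.rec (fun _ => Nat) (Atab_s_2840_2843 c) (Atab_s_2843_2846 c) (Nat.ble 2843 c)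
noncomputable def Atab_s_2847_2849 (c : Nat) : Nat := @Bool.rec (fun _ => Nat) (Atab_2847) (Atab_2848) (Nat.ble 2848 c)
noncomputable def Atab_s_2846_2849 (c : Nat) : Nat := @Bool.rec (fun _ => Nat) (Atab_2846) (Atab_s_2847_2849 c) (Nat.ble 2847 c)
noncomputable def Atab_s_2849_2851 (c : Nat) : Nat := @Bool.rec (fun _ => Nat) (Atab_2849) (Atab_2850) (Nat.ble 2850 c)
noncomputable def Atab_s_2851_2853 (c : Nat) : Nat := @Bool.rec (fun _ => Nat) (Atab_2851) (Atab_2852) (Nat.ble 2852 c)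
noncomputable def Atab_s_2849_2853 (c : Nat) : Nat := @Bool.rec (fun _ => Nat) (Atab_s_2849_2851 c) (Atab_s_2851_2853 c) (Nat.ble 2851 c)
noncomputable def Atab_s_2846_2853 (c : Nat) : Nat := @Bool.rec (fun _ => Nat) (Atab_s_2846_2849 c) (Atab_s_2849_2853 c) (Nat.ble 2849 c)
noncomputable def Atab_s_2840_2853 (c : Nat) : Nat := @Bool.rec (fun _ => Nat) (Atab_s_2840_2846 c) (Atab_s_2846_2853 c) (Nat.ble 2846 c)
noncomputable def Atab_s_2828_2853 (c : Nat) : Nat := @Bool.rec (fun _ => Nat) (Atab_s_2828_2840 c) (Atab_s_2840_2853 c) (Nat.ble 2840 c)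
noncomputable def Atab_s_2854_2856 (c : Nat) : Nat := @Bool.rec (fun _ => Nat) (Atab_2854) (Atab_2855) (Nat.ble 2855 c)
noncomputable def Atab_s_2853_2856 (c : Nat) : Nat := @Bool.rec (fun _ => Nat) (Atab_2853) (Atab_s_2854_2856 c) (Nat.ble 2854 c)
noncomputable def Atab_s_2857_2859 (c : Nat) : Nat := @Bool.rec (fun _ => Nat) (Atab_2857) (Atab_2858) (Nat.ble 2858 c)
noncomputable def Atab_s_2856_2859 (c : Nat) : Nat := @Bool.rec (fun _ => Nat) (Atab_2856) (Atab_s_2857_2859 c) (Nat.ble 2857 c)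
noncomputable def Atab_s_2853_2859 (c : Nat) : Nat := @Bool.rec (fun _ => Nat) (Atab_s_2853_2856 c) (Atab_s_2856_2859 c) (Nat.ble 2856 c)
noncomputable def Atab_s_2860_2862 (c : Nat) : Nat := @Bool.rec (fun _ => Nat) (Atab_2860) (Atab_2861) (Nat.ble 2861 c)
noncomputable def Atab_s_2859_2862 (c : Nat) : Nat := @Bool.rec (fun _ => Nat) (Atab_2859) (Atab_s_2860_2862 c) (Nat.ble 2860 c)
noncomputable def Atab_s_2863_2865 (c : Nat) : Nat := @Bool.rec (fun _ => Nat) (Atab_2863) (Atab_2864) (Nat.ble 2864 c)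
noncomputable def Atab_s_2862_2865 (c : Nat) : Nat := @Bool.rec (fun _ => Nat) (Atab_2862) (Atab_s_2863_2865 c) (Nat.ble 2863 c)
noncomputable def Atab_s_2859_2865 (c : Nat) : Nat := @Bool.rec (fun _ => Nat) (Atab_s_2859_2862 c) (Atab_s_2862_2865 c) (Nat.ble 2862 c)
noncomputable def Atab_s_2853_2865 (c : Nat) : Nat := @Bool.rec (fun _ => Nat) (Atab_s_2853_2859 c) (Atab_s_2859_2865 c) (Nat.ble 2859 c)
noncomputable def Atab_s_2866_2868 (c : Nat) : Nat := @Bool.rec (fun _ => Nat) (Atab_2866) (Atab_2867) (Nat.ble 2867 c)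
noncomputable def Atab_s_2865_2868 (c : Nat) : Nat := @Bool.rec (fun _ => Nat) (Atab_2865) (Atab_s_2866_2868 c) (Nat.ble 2866 c)
noncomputable def Atab_s_2869_2871 (c : Nat) : Nat := @Bool.rec (fun _ => Nat) (Atab_2869) (Atab_2870) (Nat.ble 2870 c)
noncomputable def Atab_s_2868_2871 (c : Nat) : Nat := @Bool.rec (fun _ => Nat) (Atab_2868) (Atab_s_2869_2871 c) (Nat.ble 2869 c)
noncomputable def Atab_s_2865_2871 (c : Nat) : Nat := @Bool.rec (fun _ => Nat) (Atab_s_2865_2868 c) (Atab_s_2868_2871 c) (Nat.ble 2868 c)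
noncomputable def Atab_s_2872_2874 (c : Nat) : Nat := @Bool.rec (fun _ => Nat) (Atab_2872) (Atab_2873) (Nat.ble 2873 c)
noncomputable def Atab_s_2871_2874 (c : Nat) : Nat := @Bool.rec (fun _ => Nat) (Atab_2871) (Atab_s_2872_2874 c) (Nat.ble 2872 c)
noncomputable def Atab_s_2874_2876 (c : Nat) : Nat := @Bool.rec (fun _ => Nat) (Atab_2874) (Atab_2875) (Nat.ble 2875 c)
noncomputable def Atab_s_2876_2878 (c : Nat) : Nat := @Bool.rec (fun _ => Nat) (Atab_2876) (Atab_2877) (Nat.ble 2877 c)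
noncomputable def Atab_s_2874_2878 (c : Nat) : Nat := @Bool.rec (fun _ => Nat) (Atab_s_2874_2876 c) (Atab_s_2876_2878 c) (Nat.ble 2876 c)
noncomputable def Atab_s_2871_2878 (c : Nat) : Nat := @Bool.rec (fun _ => Nat) (Atab_s_2871_2874 c) (Atab_s_2874_2878 c) (Nat.ble 2874 c)
noncomputable def Atab_s_2865_2878 (c : Nat) : Nat := @Bool.rec (fun _ => Nat) (Atab_s_2865_2871 c) (Atab_s_2871_2878 c) (Nat.ble 2871 c)
noncomputable def Atab_s_2853_2878 (c : Nat) : Nat := @Bool.rec (fun _ => Nat) (Atab_s_2853_2865 c) (Atab_s_2865_2878 c) (Nat.ble 2865 c)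
noncomputable def Atab_s_2828_2878 (c : Nat) : Nat := @Bool.rec (fun _ => Nat) (Atab_s_2828_2853 c) (Atab_s_2853_2878 c) (Nat.ble 2853 c)
noncomputable def Atab_s_2779_2878 (c : Nat) : Nat := @Bool.rec (fun _ => Nat) (Atab_s_2779_2828 c) (Atab_s_2828_2878 c) (Nat.ble 2828 c)
noncomputable def Atab_s_2879_2881 (c : Nat) : Nat := @Bool.rec (fun _ => Nat) (Atab_2879) (Atab_2880) (Nat.ble 2880 c)
noncomputable def Atab_s_2878_2881 (c : Nat) : Nat := @Bool.rec (fun _ => Nat) (Atab_2878) (Atab_s_2879_2881 c) (Nat.ble 2879 c)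
noncomputable def Atab_s_2882_2884 (c : Nat) : Nat := @Bool.rec (fun _ => Nat) (Atab_2882) (Atab_2883) (Nat.ble 2883 c)
noncomputable def Atab_s_2881_2884 (c : Nat) : Nat := @Bool.rec (fun _ => Nat) (Atab_2881) (Atab_s_2882_2884 c) (Nat.ble 2882 c)
noncomputable def Atab_s_2878_2884 (c : Nat) : Nat := @Bool.rec (fun _ => Nat) (Atab_s_2878_2881 c) (Atab_s_2881_2884 c) (Nat.ble 2881 c)
noncomputable def Atab_s_2885_2887 (c : Nat) : Nat := @Bool.rec (fun _ => Nat) (Atab_2885) (Atab_2886) (Nat.ble 2886 c)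
noncomputable def Atab_s_2884_2887 (c : Nat) : Nat := @Bool.rec (fun _ => Nat) (Atab_2884) (Atab_s_2885_2887 c) (Nat.ble 2885 c)
noncomputable def Atab_s_2888_2890 (c : Nat) : Nat := @Bool.rec (fun _ => Nat) (Atab_2888) (Atab_2889) (Nat.ble 2889 c)
noncomputable def Atab_s_2887_2890 (c : Nat) : Nat := @Bool.rec (fun _ => Nat) (Atab_2887) (Atab_s_2888_2890 c) (Nat.ble 2888 c)
noncomputable def Atab_s_2884_2890 (c : Nat) : Nat := @Bool.rec (fun _ => Nat) (Atab_s_2884_2887 c) (Atab_s_2887_2890 c) (Nat.ble 2887 c)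
noncomputable def Atab_s_2878_2890 (c : Nat) : Nat := @Bool.rec (fun _ => Nat) (Atab_s_2878_2884 c) (Atab_s_2884_2890 c) (Nat.ble 2884 c)
noncomputable def Atab_s_2891_2893 (c : Nat) : Nat := @Bool.rec (fun _ => Nat) (Atab_2891) (Atab_2892) (Nat.ble 2892 c)
noncomputable def Atab_s_2890_2893 (c : Nat) : Nat := @Bool.rec (fun _ => Nat) (Atab_2890) (Atab_s_2891_2893 c) (Nat.ble 2891 c)
noncomputable def Atab_s_2894_2896 (c : Nat) : Nat := @Bool.rec (fun _ => Nat) (Atab_2894) (Atab_2895) (Nat.ble 2895 c)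
noncomputable def Atab_s_2893_2896 (c : Nat) : Nat := @Bool.rec (fun _ => Nat) (Atab_2893) (Atab_s_2894_2896 c) (Nat.ble 2894 c)
noncomputable def Atab_s_2890_2896 (c : Nat) : Nat := @Bool.rec (fun _ => Nat) (Atab_s_2890_2893 c) (Atab_s_2893_2896 c) (Nat.ble 2893 c)
noncomputable def Atab_s_2897_2899 (c : Nat) : Nat := @Bool.rec (fun _ => Nat) (Atab_2897) (Atab_2898) (Nat.ble 2898 c)
noncomputable def Atab_s_2896_2899 (c : Nat) : Nat := @Bool.rec (fun _ => Nat) (Atab_2896) (Atab_s_2897_2899 c) (Nat.ble 2897 c)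
noncomputable def Atab_s_2899_2901 (c : Nat) : Nat := @Bool.rec (fun _ => Nat) (Atab_2899) (Atab_2900) (Nat.ble 2900 c)
noncomputable def Atab_s_2901_2903 (c : Nat) : Nat := @Bool.rec (fun _ => Nat) (Atab_2901) (Atab_2902) (Nat.ble 2902 c)
noncomputable def Atab_s_2899_2903 (c : Nat) : Nat := @Bool.rec (fun _ => Nat) (Atab_s_2899_2901 c) (Atab_s_2901_2903 c) (Nat.ble 2901 c)
noncomputable def Atab_s_2896_2903 (c : Nat) : Nat := @Bool.rec (fun _ => Nat) (Atab_s_2896_2899 c) (Atab_s_2899_2903 c) (Nat.ble 2899 c)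
noncomputable def Atab_s_2890_2903 (c : Nat) : Nat := @Bool.rec (fun _ => Nat) (Atab_s_2890_2896 c) (Atab_s_2896_2903 c) (Nat.ble 2896 c)
noncomputable def Atab_s_2878_2903 (c : Nat) : Nat := @Bool.rec (fun _ => Nat) (Atab_s_2878_2890 c) (Atab_s_2890_2903 c) (Nat.ble 2890 c)
noncomputable def Atab_s_2904_2906 (c : Nat) : Nat := @Bool.rec (fun _ => Nat) (Atab_2904) (Atab_2905) (Nat.ble 2905 c)
noncomputable def Atab_s_2903_2906 (c : Nat) : Nat := @Bool.rec (fun _ => Nat) (Atab_2903) (Atab_s_2904_2906 c) (Nat.ble 2904 c)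
noncomputable def Atab_s_2907_2909 (c : Nat) : Nat := @Bool.rec (fun _ => Nat) (Atab_2907) (Atab_2908) (Nat.ble 2908 c)
noncomputable def Atab_s_2906_2909 (c : Nat) : Nat := @Bool.rec (fun _ => Nat) (Atab_2906) (Atab_s_2907_2909 c) (Nat.ble 2907 c)
noncomputable def Atab_s_2903_2909 (c : Nat) : Nat := @Bool.rec (fun _ => Nat) (Atab_s_2903_2906 c) (Atab_s_2906_2909 c) (Nat.ble 2906 c)
noncomputable def Atab_s_2910_2912 (c : Nat) : Nat := @Bool.rec (fun _ => Nat) (Atab_2910) (Atab_2911) (Nat.ble 2911 c)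
noncomputable def Atab_s_2909_2912 (c : Nat) : Nat := @Bool.rec (fun _ => Nat) (Atab_2909) (Atab_s_2910_2912 c) (Nat.ble 2910 c)
noncomputable def Atab_s_2913_2915 (c : Nat) : Nat := @Bool.rec (fun _ => Nat) (Atab_2913) (Atab_2914) (Nat.ble 2914 c)
noncomputable def Atab_s_2912_2915 (c : Nat) : Nat := @Bool.rec (fun _ => Nat) (Atab_2912) (Atab_s_2913_2915 c) (Nat.ble 2913 c)
noncomputable def Atab_s_2909_2915 (c : Nat) : Nat := @Bool.rec (fun _ => Nat) (Atab_s_2909_2912 c) (Atab_s_2912_2915 c) (Nat.ble 2912 c)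
noncomputable def Atab_s_2903_2915 (c : Nat) : Nat := @Bool.rec (fun _ => Nat) (Atab_s_2903_2909 c) (Atab_s_2909_2915 c) (Nat.ble 2909 c)
noncomputable def Atab_s_2916_2918 (c : Nat) : Nat := @Bool.rec (fun _ => Nat) (Atab_2916) (Atab_2917) (Nat.ble 2917 c)
noncomputable def Atab_s_2915_2918 (c : Nat) : Nat := @Bool.rec (fun _ => Nat) (Atab_2915) (Atab_s_2916_2918 c) (Nat.ble 2916 c)
noncomputable def Atab_s_2919_2921 (c : Nat) : Nat := @Bool.rec (fun _ => Nat) (Atab_2919) (Atab_2920) (Nat.ble 2920 c)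
noncomputable def Atab_s_2918_2921 (c : Nat) : Nat := @Bool.rec (fun _ => Nat) (Atab_2918) (Atab_s_2919_2921 c) (Nat.ble 2919 c)
noncomputable def Atab_s_2915_2921 (c : Nat) : Nat := @Bool.rec (fun _ => Nat) (Atab_s_2915_2918 c) (Atab_s_2918_2921 c) (Nat.ble 2918 c)
noncomputable def Atab_s_2922_2924 (c : Nat) : Nat := @Bool.rec (fun _ => Nat) (Atab_2922) (Atab_2923) (Nat.ble 2923 c)
noncomputable def Atab_s_2921_2924 (c : Nat) : Nat := @Bool.rec (fun _ => Nat) (Atab_2921) (Atab_s_2922_2924 c) (Nat.ble 2922 c)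
noncomputable def Atab_s_2924_2926 (c : Nat) : Nat := @Bool.rec (fun _ => Nat) (Atab_2924) (Atab_2925) (Nat.ble 2925 c)
noncomputable def Atab_s_2926_2928 (c : Nat) : Nat := @Bool.rec (fun _ => Nat) (Atab_2926) (Atab_2927) (Nat.ble 2927 c)
noncomputable def Atab_s_2924_2928 (c : Nat) : Nat := @Bool.rec (fun _ => Nat) (Atab_s_2924_2926 c) (Atab_s_2926_2928 c) (Nat.ble 2926 c)
noncomputable def Atab_s_2921_2928 (c : Nat) : Nat := @Bool.rec (fun _ => Nat) (Atab_s_2921_2924 c) (Atab_s_2924_2928 c) (Nat.ble 2924 c)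
noncomputable def Atab_s_2915_2928 (c : Nat) : Nat := @Bool.rec (fun _ => Nat) (Atab_s_2915_2921 c) (Atab_s_2921_2928 c) (Nat.ble 2921 c)
noncomputable def Atab_s_2903_2928 (c : Nat) : Nat := @Bool.rec (fun _ => Nat) (Atab_s_2903_2915 c) (Atab_s_2915_2928 c) (Nat.ble 2915 c)
noncomputable def Atab_s_2878_2928 (c : Nat) : Nat := @Bool.rec (fun _ => Nat) (Atab_s_2878_2903 c) (Atab_s_2903_2928 c) (Nat.ble 2903 c)
noncomputable def Atab_s_2929_2931 (c : Nat) : Nat := @Bool.rec (fun _ => Nat) (Atab_2929) (Atab_2930) (Nat.ble 2930 c)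
noncomputable def Atab_s_2928_2931 (c : Nat) : Nat := @Bool.rec (fun _ => Nat) (Atab_2928) (Atab_s_2929_2931 c) (Nat.ble 2929 c)
noncomputable def Atab_s_2932_2934 (c : Nat) : Nat := @Bool.rec (fun _ => Nat) (Atab_2932) (Atab_2933) (Nat.ble 2933 c)
noncomputable def Atab_s_2931_2934 (c : Nat) : Nat := @Bool.rec (fun _ => Nat) (Atab_2931) (Atab_s_2932_2934 c) (Nat.ble 2932 c)
noncomputable def Atab_s_2928_2934 (c : Nat) : Nat := @Bool.rec (fun _ => Nat) (Atab_s_2928_2931 c) (Atab_s_2931_2934 c) (Nat.ble 2931 c)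
noncomputable def Atab_s_2935_2937 (c : Nat) : Nat := @Bool.rec (fun _ => Nat) (Atab_2935) (Atab_2936) (Nat.ble 2936 c)
noncomputable def Atab_s_2934_2937 (c : Nat) : Nat := @Bool.rec (fun _ => Nat) (Atab_2934) (Atab_s_2935_2937 c) (Nat.ble 2935 c)
noncomputable def Atab_s_2938_2940 (c : Nat) : Nat := @Bool.rec (fun _ => Nat) (Atab_2938) (Atab_2939) (Nat.ble 2939 c)
noncomputable def Atab_s_2937_2940 (c : Nat) : Nat := @Bool.rec (fun _ => Nat) (Atab_2937) (Atab_s_2938_2940 c) (Nat.ble 2938 c)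
noncomputable def Atab_s_2934_2940 (c : Nat) : Nat := @Bool.rec (fun _ => Nat) (Atab_s_2934_2937 c) (Atab_s_2937_2940 c) (Nat.ble 2937 c)
noncomputable def Atab_s_2928_2940 (c : Nat) : Nat := @Bool.rec (fun _ => Nat) (Atab_s_2928_2934 c) (Atab_s_2934_2940 c) (Nat.ble 2934 c)
noncomputable def Atab_s_2941_2943 (c : Nat) : Nat := @Bool.rec (fun _ => Nat) (Atab_2941) (Atab_2942) (Nat.ble 2942 c)
noncomputable def Atab_s_2940_2943 (c : Nat) : Nat := @Bool.rec (fun _ => Nat) (Atab_2940) (Atab_s_2941_2943 c) (Nat.ble 2941 c)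
noncomputable def Atab_s_2944_2946 (c : Nat) : Nat := @Bool.rec (fun _ => Nat) (Atab_2944) (Atab_2945) (Nat.ble 2945 c)
noncomputable def Atab_s_2943_2946 (c : Nat) : Nat := @Bool.rec (fun _ => Nat) (Atab_2943) (Atab_s_2944_2946 c) (Nat.ble 2944 c)
noncomputable def Atab_s_2940_2946 (c : Nat) : Nat := @Bool.rec (fun _ => Nat) (Atab_s_2940_2943 c) (Atab_s_2943_2946 c) (Nat.ble 2943 c)
noncomputable def Atab_s_2947_2949 (c : Nat) : Nat := @Bool.rec (fun _ => Nat) (Atab_2947) (Atab_2948) (Nat.ble 2948 c)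
noncomputable def Atab_s_2946_2949 (c : Nat) : Nat := @Bool.rec (fun _ => Nat) (Atab_2946) (Atab_s_2947_2949 c) (Nat.ble 2947 c)
noncomputable def Atab_s_2949_2951 (c : Nat) : Nat := @Bool.rec (fun _ => Nat) (Atab_2949) (Atab_2950) (Nat.ble 2950 c)
noncomputable def Atab_s_2951_2953 (c : Nat) : Nat := @Bool.rec (fun _ => Nat) (Atab_2951) (Atab_2952) (Nat.ble 2952 c)
noncomputable def Atab_s_2949_2953 (c : Nat) : Nat := @Bool.rec (fun _ => Nat) (Atab_s_2949_2951 c) (Atab_s_2951_2953 c) (Nat.ble 2951 c)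
noncomputable def Atab_s_2946_2953 (c : Nat) : Nat := @Bool.rec (fun _ => Nat) (Atab_s_2946_2949 c) (Atab_s_2949_2953 c) (Nat.ble 2949 c)
noncomputable def Atab_s_2940_2953 (c : Nat) : Nat := @Bool.rec (fun _ => Nat) (Atab_s_2940_2946 c) (Atab_s_2946_2953 c) (Nat.ble 2946 c)
noncomputable def Atab_s_2928_2953 (c : Nat) : Nat := @Bool.rec (fun _ => Nat) (Atab_s_2928_2940 c) (Atab_s_2940_2953 c) (Nat.ble 2940 c)
noncomputable def Atab_s_2954_2956 (c : Nat) : Nat := @Bool.rec (fun _ => Nat) (Atab_2954) (Atab_2955) (Nat.ble 2955 c)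
noncomputable def Atab_s_2953_2956 (c : Nat) : Nat := @Bool.rec (fun _ => Nat) (Atab_2953) (Atab_s_2954_2956 c) (Nat.ble 2954 c)
noncomputable def Atab_s_2957_2959 (c : Nat) : Nat := @Bool.rec (fun _ => Nat) (Atab_2957) (Atab_2958) (Nat.ble 2958 c)
noncomputable def Atab_s_2956_2959 (c : Nat) : Nat := @Bool.rec (fun _ => Nat) (Atab_2956) (Atab_s_2957_2959 c) (Nat.ble 2957 c)
noncomputable def Atab_s_2953_2959 (c : Nat) : Nat := @Bool.rec (fun _ => Nat) (Atab_s_2953_2956 c) (Atab_s_2956_2959 c) (Nat.ble 2956 c)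
noncomputable def Atab_s_2960_2962 (c : Nat) : Nat := @Bool.rec (fun _ => Nat) (Atab_2960) (Atab_2961) (Nat.ble 2961 c)
noncomputable def Atab_s_2959_2962 (c : Nat) : Nat := @Bool.rec (fun _ => Nat) (Atab_2959) (Atab_s_2960_2962 c) (Nat.ble 2960 c)
noncomputable def Atab_s_2963_2965 (c : Nat) : Nat := @Bool.rec (fun _ => Nat) (Atab_2963) (Atab_2964) (Nat.ble 2964 c)
noncomputable def Atab_s_2962_2965 (c : Nat) : Nat := @Bool.rec (fun _ => Nat) (Atab_2962) (Atab_s_2963_2965 c) (Nat.ble 2963 c)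
noncomputable def Atab_s_2959_2965 (c : Nat) : Nat := @Bool.rec (fun _ => Nat) (Atab_s_2959_2962 c) (Atab_s_2962_2965 c) (Nat.ble 2962 c)
noncomputable def Atab_s_2953_2965 (c : Nat) : Nat := @Bool.rec (fun _ => Nat) (Atab_s_2953_2959 c) (Atab_s_2959_2965 c) (Nat.ble 2959 c)
noncomputable def Atab_s_2966_2968 (c : Nat) : Nat := @Bool.rec (fun _ => Nat) (Atab_2966) (Atab_2967) (Nat.ble 2967 c)
noncomputable def Atab_s_2965_2968 (c : Nat) : Nat := @Bool.rec (fun _ => Nat) (Atab_2965) (Atab_s_2966_2968 c) (Nat.ble 2966 c)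
noncomputable def Atab_s_2969_2971 (c : Nat) : Nat := @Bool.rec (fun _ => Nat) (Atab_2969) (Atab_2970) (Nat.ble 2970 c)
noncomputable def Atab_s_2968_2971 (c : Nat) : Nat := @Bool.rec (fun _ => Nat) (Atab_2968) (Atab_s_2969_2971 c) (Nat.ble 2969 c)
noncomputable def Atab_s_2965_2971 (c : Nat) : Nat := @Bool.rec (fun _ => Nat) (Atab_s_2965_2968 c) (Atab_s_2968_2971 c) (Nat.ble 2968 c)
noncomputable def Atab_s_2972_2974 (c : Nat) : Nat := @Bool.rec (fun _ => Nat) (Atab_2972) (Atab_2973) (Nat.ble 2973 c)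
noncomputable def Atab_s_2971_2974 (c : Nat) : Nat := @Bool.rec (fun _ => Nat) (Atab_2971) (Atab_s_2972_2974 c) (Nat.ble 2972 c)
noncomputable def Atab_s_2974_2976 (c : Nat) : Nat := @Bool.rec (fun _ => Nat) (Atab_2974) (Atab_2975) (Nat.ble 2975 c)
noncomputable def Atab_s_2976_2978 (c : Nat) : Nat := @Bool.rec (fun _ => Nat) (Atab_2976) (Atab_2977) (Nat.ble 2977 c)
noncomputable def Atab_s_2974_2978 (c : Nat) : Nat := @Bool.rec (fun _ => Nat) (Atab_s_2974_2976 c) (Atab_s_2976_2978 c) (Nat.ble 2976 c)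
noncomputable def Atab_s_2971_2978 (c : Nat) : Nat := @Bool.rec (fun _ => Nat) (Atab_s_2971_2974 c) (Atab_s_2974_2978 c) (Nat.ble 2974 c)
noncomputable def Atab_s_2965_2978 (c : Nat) : Nat := @Bool.rec (fun _ => Nat) (Atab_s_2965_2971 c) (Atab_s_2971_2978 c) (Nat.ble 2971 c)
noncomputable def Atab_s_2953_2978 (c : Nat) : Nat := @Bool.rec (fun _ => Nat) (Atab_s_2953_2965 c) (Atab_s_2965_2978 c) (Nat.ble 2965 c)
noncomputable def Atab_s_2928_2978 (c : Nat) : Nat := @Bool.rec (fun _ => Nat) (Atab_s_2928_2953 c) (Atab_s_2953_2978 c) (Nat.ble 2953 c)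
noncomputable def Atab_s_2878_2978 (c : Nat) : Nat := @Bool.rec (fun _ => Nat) (Atab_s_2878_2928 c) (Atab_s_2928_2978 c) (Nat.ble 2928 c)
noncomputable def Atab_s_2779_2978 (c : Nat) : Nat := @Bool.rec (fun _ => Nat) (Atab_s_2779_2878 c) (Atab_s_2878_2978 c) (Nat.ble 2878 c)
noncomputable def Atab_s_2979_2981 (c : Nat) : Nat := @Bool.rec (fun _ => Nat) (Atab_2979) (Atab_2980) (Nat.ble 2980 c)
noncomputable def Atab_s_2978_2981 (c : Nat) : Nat := @Bool.rec (fun _ => Nat) (Atab_2978) (Atab_s_2979_2981 c) (Nat.ble 2979 c)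
noncomputable def Atab_s_2982_2984 (c : Nat) : Nat := @Bool.rec (fun _ => Nat) (Atab_2982) (Atab_2983) (Nat.ble 2983 c)
noncomputable def Atab_s_2981_2984 (c : Nat) : Nat := @Bool.rec (fun _ => Nat) (Atab_2981) (Atab_s_2982_2984 c) (Nat.ble 2982 c)
noncomputable def Atab_s_2978_2984 (c : Nat) : Nat := @Bool.rec (fun _ => Nat) (Atab_s_2978_2981 c) (Atab_s_2981_2984 c) (Nat.ble 2981 c)
noncomputable def Atab_s_2985_2987 (c : Nat) : Nat := @Bool.rec (fun _ => Nat) (Atab_2985) (Atab_2986) (Nat.ble 2986 c)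
noncomputable def Atab_s_2984_2987 (c : Nat) : Nat := @Bool.rec (fun _ => Nat) (Atab_2984) (Atab_s_2985_2987 c) (Nat.ble 2985 c)
noncomputable def Atab_s_2988_2990 (c : Nat) : Nat := @Bool.rec (fun _ => Nat) (Atab_2988) (Atab_2989) (Nat.ble 2989 c)
noncomputable def Atab_s_2987_2990 (c : Nat) : Nat := @Bool.rec (fun _ => Nat) (Atab_2987) (Atab_s_2988_2990 c) (Nat.ble 2988 c)
noncomputable def Atab_s_2984_2990 (c : Nat) : Nat := @Bool.rec (fun _ => Nat) (Atab_s_2984_2987 c) (Atab_s_2987_2990 c) (Nat.ble 2987 c)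
noncomputable def Atab_s_2978_2990 (c : Nat) : Nat := @Bool.rec (fun _ => Nat) (Atab_s_2978_2984 c) (Atab_s_2984_2990 c) (Nat.ble 2984 c)
noncomputable def Atab_s_2991_2993 (c : Nat) : Nat := @Bool.rec (fun _ => Nat) (Atab_2991) (Atab_2992) (Nat.ble 2992 c)
noncomputable def Atab_s_2990_2993 (c : Nat) : Nat := @Bool.rec (fun _ => Nat) (Atab_2990) (Atab_s_2991_2993 c) (Nat.ble 2991 c)
noncomputable def Atab_s_2994_2996 (c : Nat) : Nat := @Bool.rec (fun _ => Nat) (Atab_2994) (Atab_2995) (Nat.ble 2995 c)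
noncomputable def Atab_s_2993_2996 (c : Nat) : Nat := @Bool.rec (fun _ => Nat) (Atab_2993) (Atab_s_2994_2996 c) (Nat.ble 2994 c)
noncomputable def Atab_s_2990_2996 (c : Nat) : Nat := @Bool.rec (fun _ => Nat) (Atab_s_2990_2993 c) (Atab_s_2993_2996 c) (Nat.ble 2993 c)
noncomputable def Atab_s_2997_2999 (c : Nat) : Nat := @Bool.rec (fun _ => Nat) (Atab_2997) (Atab_2998) (Nat.ble 2998 c)
noncomputable def Atab_s_2996_2999 (c : Nat) : Nat := @Bool.rec (fun _ => Nat) (Atab_2996) (Atab_s_2997_2999 c) (Nat.ble 2997 c)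
noncomputable def Atab_s_3000_3002 (c : Nat) : Nat := @Bool.rec (fun _ => Nat) (Atab_3000) (Atab_3001) (Nat.ble 3001 c)
noncomputable def Atab_s_2999_3002 (c : Nat) : Nat := @Bool.rec (fun _ => Nat) (Atab_2999) (Atab_s_3000_3002 c) (Nat.ble 3000 c)
noncomputable def Atab_s_2996_3002 (c : Nat) : Nat := @Bool.rec (fun _ => Nat) (Atab_s_2996_2999 c) (Atab_s_2999_3002 c) (Nat.ble 2999 c)
noncomputable def Atab_s_2990_3002 (c : Nat) : Nat := @Bool.rec (fun _ => Nat) (Atab_s_2990_2996 c) (Atab_s_2996_3002 c) (Nat.ble 2996 c)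
noncomputable def Atab_s_2978_3002 (c : Nat) : Nat := @Bool.rec (fun _ => Nat) (Atab_s_2978_2990 c) (Atab_s_2990_3002 c) (Nat.ble 2990 c)
noncomputable def Atab_s_3003_3005 (c : Nat) : Nat := @Bool.rec (fun _ => Nat) (Atab_3003) (Atab_3004) (Nat.ble 3004 c)
noncomputable def Atab_s_3002_3005 (c : Nat) : Nat := @Bool.rec (fun _ => Nat) (Atab_3002) (Atab_s_3003_3005 c) (Nat.ble 3003 c)
noncomputable def Atab_s_3006_3008 (c : Nat) : Nat := @Bool.rec (fun _ => Nat) (Atab_3006) (Atab_3007) (Nat.ble 3007 c)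
noncomputable def Atab_s_3005_3008 (c : Nat) : Nat := @Bool.rec (fun _ => Nat) (Atab_3005) (Atab_s_3006_3008 c) (Nat.ble 3006 c)
noncomputable def Atab_s_3002_3008 (c : Nat) : Nat := @Bool.rec (fun _ => Nat) (Atab_s_3002_3005 c) (Atab_s_3005_3008 c) (Nat.ble 3005 c)
noncomputable def Atab_s_3009_3011 (c : Nat) : Nat := @Bool.rec (fun _ => Nat) (Atab_3009) (Atab_3010) (Nat.ble 3010 c)
noncomputable def Atab_s_3008_3011 (c : Nat) : Nat := @Bool.rec (fun _ => Nat) (Atab_3008) (Atab_s_3009_3011 c) (Nat.ble 3009 c)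
noncomputable def Atab_s_3012_3014 (c : Nat) : Nat := @Bool.rec (fun _ => Nat) (Atab_3012) (Atab_3013) (Nat.ble 3013 c)
noncomputable def Atab_s_3011_3014 (c : Nat) : Nat := @Bool.rec (fun _ => Nat) (Atab_3011) (Atab_s_3012_3014 c) (Nat.ble 3012 c)
noncomputable def Atab_s_3008_3014 (c : Nat) : Nat := @Bool.rec (fun _ => Nat) (Atab_s_3008_3011 c) (Atab_s_3011_3014 c) (Nat.ble 3011 c)
noncomputable def Atab_s_3002_3014 (c : Nat) : Nat := @Bool.rec (fun _ => Nat) (Atab_s_3002_3008 c) (Atab_s_3008_3014 c) (Nat.ble 3008 c)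
noncomputable def Atab_s_3015_3017 (c : Nat) : Nat := @Bool.rec (fun _ => Nat) (Atab_3015) (Atab_3016) (Nat.ble 3016 c)
noncomputable def Atab_s_3014_3017 (c : Nat) : Nat := @Bool.rec (fun _ => Nat) (Atab_3014) (Atab_s_3015_3017 c) (Nat.ble 3015 c)
noncomputable def Atab_s_3018_3020 (c : Nat) : Nat := @Bool.rec (fun _ => Nat) (Atab_3018) (Atab_3019) (Nat.ble 3019 c)
noncomputable def Atab_s_3017_3020 (c : Nat) : Nat := @Bool.rec (fun _ => Nat) (Atab_3017) (Atab_s_3018_3020 c) (Nat.ble 3018 c)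
noncomputable def Atab_s_3014_3020 (c : Nat) : Nat := @Bool.rec (fun _ => Nat) (Atab_s_3014_3017 c) (Atab_s_3017_3020 c) (Nat.ble 3017 c)
noncomputable def Atab_s_3021_3023 (c : Nat) : Nat := @Bool.rec (fun _ => Nat) (Atab_3021) (Atab_3022) (Nat.ble 3022 c)
noncomputable def Atab_s_3020_3023 (c : Nat) : Nat := @Bool.rec (fun _ => Nat) (Atab_3020) (Atab_s_3021_3023 c) (Nat.ble 3021 c)
noncomputable def Atab_s_3023_3025 (c : Nat) : Nat := @Bool.rec (fun _ => Nat) (Atab_3023) (Atab_3024) (Nat.ble 3024 c)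
noncomputable def Atab_s_3025_3027 (c : Nat) : Nat := @Bool.rec (fun _ => Nat) (Atab_3025) (Atab_3026) (Nat.ble 3026 c)
noncomputable def Atab_s_3023_3027 (c : Nat) : Nat := @Bool.rec (fun _ => Nat) (Atab_s_3023_3025 c) (Atab_s_3025_3027 c) (Nat.ble 3025 c)
noncomputable def Atab_s_3020_3027 (c : Nat) : Nat := @Bool.rec (fun _ => Nat) (Atab_s_3020_3023 c) (Atab_s_3023_3027 c) (Nat.ble 3023 c)
noncomputable def Atab_s_3014_3027 (c : Nat) : Nat := @Bool.rec (fun _ => Nat) (Atab_s_3014_3020 c) (Atab_s_3020_3027 c) (Nat.ble 3020 c)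
noncomputable def Atab_s_3002_3027 (c : Nat) : Nat := @Bool.rec (fun _ => Nat) (Atab_s_3002_3014 c) (Atab_s_3014_3027 c) (Nat.ble 3014 c)
noncomputable def Atab_s_2978_3027 (c : Nat) : Nat := @Bool.rec (fun _ => Nat) (Atab_s_2978_3002 c) (Atab_s_3002_3027 c) (Nat.ble 3002 c)
noncomputable def Atab_s_3028_3030 (c : Nat) : Nat := @Bool.rec (fun _ => Nat) (Atab_3028) (Atab_3029) (Nat.ble 3029 c)
noncomputable def Atab_s_3027_3030 (c : Nat) : Nat := @Bool.rec (fun _ => Nat) (Atab_3027) (Atab_s_3028_3030 c) (Nat.ble 3028 c)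
noncomputable def Atab_s_3031_3033 (c : Nat) : Nat := @Bool.rec (fun _ => Nat) (Atab_3031) (Atab_3032) (Nat.ble 3032 c)
noncomputable def Atab_s_3030_3033 (c : Nat) : Nat := @Bool.rec (fun _ => Nat) (Atab_3030) (Atab_s_3031_3033 c) (Nat.ble 3031 c)
noncomputable def Atab_s_3027_3033 (c : Nat) : Nat := @Bool.rec (fun _ => Nat) (Atab_s_3027_3030 c) (Atab_s_3030_3033 c) (Nat.ble 3030 c)
noncomputable def Atab_s_3034_3036 (c : Nat) : Nat := @Bool.rec (fun _ => Nat) (Atab_3034) (Atab_3035) (Nat.ble 3035 c)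
noncomputable def Atab_s_3033_3036 (c : Nat) : Nat := @Bool.rec (fun _ => Nat) (Atab_3033) (Atab_s_3034_3036 c) (Nat.ble 3034 c)
noncomputable def Atab_s_3037_3039 (c : Nat) : Nat := @Bool.rec (fun _ => Nat) (Atab_3037) (Atab_3038) (Nat.ble 3038 c)
noncomputable def Atab_s_3036_3039 (c : Nat) : Nat := @Bool.rec (fun _ => Nat) (Atab_3036) (Atab_s_3037_3039 c) (Nat.ble 3037 c)
noncomputable def Atab_s_3033_3039 (c : Nat) : Nat := @Bool.rec (fun _ => Nat) (Atab_s_3033_3036 c) (Atab_s_3036_3039 c) (Nat.ble 3036 c)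
noncomputable def Atab_s_3027_3039 (c : Nat) : Nat := @Bool.rec (fun _ => Nat) (Atab_s_3027_3033 c) (Atab_s_3033_3039 c) (Nat.ble 3033 c)
noncomputable def Atab_s_3040_3042 (c : Nat) : Nat := @Bool.rec (fun _ => Nat) (Atab_3040) (Atab_3041) (Nat.ble 3041 c)
noncomputable def Atab_s_3039_3042 (c : Nat) : Nat := @Bool.rec (fun _ => Nat) (Atab_3039) (Atab_s_3040_3042 c) (Nat.ble 3040 c)
noncomputable def Atab_s_3043_3045 (c : Nat) : Nat := @Bool.rec (fun _ => Nat) (Atab_3043) (Atab_3044) (Nat.ble 3044 c)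
noncomputable def Atab_s_3042_3045 (c : Nat) : Nat := @Bool.rec (fun _ => Nat) (Atab_3042) (Atab_s_3043_3045 c) (Nat.ble 3043 c)
noncomputable def Atab_s_3039_3045 (c : Nat) : Nat := @Bool.rec (fun _ => Nat) (Atab_s_3039_3042 c) (Atab_s_3042_3045 c) (Nat.ble 3042 c)
noncomputable def Atab_s_3046_3048 (c : Nat) : Nat := @Bool.rec (fun _ => Nat) (Atab_3046) (Atab_3047) (Nat.ble 3047 c)
noncomputable def Atab_s_3045_3048 (c : Nat) : Nat := @Bool.rec (fun _ => Nat) (Atab_3045) (Atab_s_3046_3048 c) (Nat.ble 3046 c)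
noncomputable def Atab_s_3048_3050 (c : Nat) : Nat := @Bool.rec (fun _ => Nat) (Atab_3048) (Atab_3049) (Nat.ble 3049 c)
noncomputable def Atab_s_3050_3052 (c : Nat) : Nat := @Bool.rec (fun _ => Nat) (Atab_3050) (Atab_3051) (Nat.ble 3051 c)
noncomputable def Atab_s_3048_3052 (c : Nat) : Nat := @Bool.rec (fun _ => Nat) (Atab_s_3048_3050 c) (Atab_s_3050_3052 c) (Nat.ble 3050 c)
noncomputable def Atab_s_3045_3052 (c : Nat) : Nat := @Bool.rec (fun _ => Nat) (Atab_s_3045_3048 c) (Atab_s_3048_3052 c) (Nat.ble 3048 c)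
noncomputable def Atab_s_3039_3052 (c : Nat) : Nat := @Bool.rec (fun _ => Nat) (Atab_s_3039_3045 c) (Atab_s_3045_3052 c) (Nat.ble 3045 c)
noncomputable def Atab_s_3027_3052 (c : Nat) : Nat := @Bool.rec (fun _ => Nat) (Atab_s_3027_3039 c) (Atab_s_3039_3052 c) (Nat.ble 3039 c)
noncomputable def Atab_s_3053_3055 (c : Nat) : Nat := @Bool.rec (fun _ => Nat) (Atab_3053) (Atab_3054) (Nat.ble 3054 c)
noncomputable def Atab_s_3052_3055 (c : Nat) : Nat := @Bool.rec (fun _ => Nat) (Atab_3052) (Atab_s_3053_3055 c) (Nat.ble 3053 c)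
noncomputable def Atab_s_3056_3058 (c : Nat) : Nat := @Bool.rec (fun _ => Nat) (Atab_3056) (Atab_3057) (Nat.ble 3057 c)
noncomputable def Atab_s_3055_3058 (c : Nat) : Nat := @Bool.rec (fun _ => Nat) (Atab_3055) (Atab_s_3056_3058 c) (Nat.ble 3056 c)
noncomputable def Atab_s_3052_3058 (c : Nat) : Nat := @Bool.rec (fun _ => Nat) (Atab_s_3052_3055 c) (Atab_s_3055_3058 c) (Nat.ble 3055 c)
noncomputable def Atab_s_3059_3061 (c : Nat) : Nat := @Bool.rec (fun _ => Nat) (Atab_3059) (Atab_3060) (Nat.ble 3060 c)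
noncomputable def Atab_s_3058_3061 (c : Nat) : Nat := @Bool.rec (fun _ => Nat) (Atab_3058) (Atab_s_3059_3061 c) (Nat.ble 3059 c)
noncomputable def Atab_s_3062_3064 (c : Nat) : Nat := @Bool.rec (fun _ => Nat) (Atab_3062) (Atab_3063) (Nat.ble 3063 c)
noncomputable def Atab_s_3061_3064 (c : Nat) : Nat := @Bool.rec (fun _ => Nat) (Atab_3061) (Atab_s_3062_3064 c) (Nat.ble 3062 c)
noncomputable def Atab_s_3058_3064 (c : Nat) : Nat := @Bool.rec (fun _ => Nat) (Atab_s_3058_3061 c) (Atab_s_3061_3064 c) (Nat.ble 3061 c)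
noncomputable def Atab_s_3052_3064 (c : Nat) : Nat := @Bool.rec (fun _ => Nat) (Atab_s_3052_3058 c) (Atab_s_3058_3064 c) (Nat.ble 3058 c)
noncomputable def Atab_s_3065_3067 (c : Nat) : Nat := @Bool.rec (fun _ => Nat) (Atab_3065) (Atab_3066) (Nat.ble 3066 c)
noncomputable def Atab_s_3064_3067 (c : Nat) : Nat := @Bool.rec (fun _ => Nat) (Atab_3064) (Atab_s_3065_3067 c) (Nat.ble 3065 c)
noncomputable def Atab_s_3068_3070 (c : Nat) : Nat := @Bool.rec (fun _ => Nat) (Atab_3068) (Atab_3069) (Nat.ble 3069 c)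
noncomputable def Atab_s_3067_3070 (c : Nat) : Nat := @Bool.rec (fun _ => Nat) (Atab_3067) (Atab_s_3068_3070 c) (Nat.ble 3068 c)
noncomputable def Atab_s_3064_3070 (c : Nat) : Nat := @Bool.rec (fun _ => Nat) (Atab_s_3064_3067 c) (Atab_s_3067_3070 c) (Nat.ble 3067 c)
noncomputable def Atab_s_3071_3073 (c : Nat) : Nat := @Bool.rec (fun _ => Nat) (Atab_3071) (Atab_3072) (Nat.ble 3072 c)
noncomputable def Atab_s_3070_3073 (c : Nat) : Nat := @Bool.rec (fun _ => Nat) (Atab_3070) (Atab_s_3071_3073 c) (Nat.ble 3071 c)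
noncomputable def Atab_s_3073_3075 (c : Nat) : Nat := @Bool.rec (fun _ => Nat) (Atab_3073) (Atab_3074) (Nat.ble 3074 c)
noncomputable def Atab_s_3075_3077 (c : Nat) : Nat := @Bool.rec (fun _ => Nat) (Atab_3075) (Atab_3076) (Nat.ble 3076 c)
noncomputable def Atab_s_3073_3077 (c : Nat) : Nat := @Bool.rec (fun _ => Nat) (Atab_s_3073_3075 c) (Atab_s_3075_3077 c) (Nat.ble 3075 c)
noncomputable def Atab_s_3070_3077 (c : Nat) : Nat := @Bool.rec (fun _ => Nat) (Atab_s_3070_3073 c) (Atab_s_3073_3077 c) (Nat.ble 3073 c)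
noncomputable def Atab_s_3064_3077 (c : Nat) : Nat := @Bool.rec (fun _ => Nat) (Atab_s_3064_3070 c) (Atab_s_3070_3077 c) (Nat.ble 3070 c)
noncomputable def Atab_s_3052_3077 (c : Nat) : Nat := @Bool.rec (fun _ => Nat) (Atab_s_3052_3064 c) (Atab_s_3064_3077 c) (Nat.ble 3064 c)
noncomputable def Atab_s_3027_3077 (c : Nat) : Nat := @Bool.rec (fun _ => Nat) (Atab_s_3027_3052 c) (Atab_s_3052_3077 c) (Nat.ble 3052 c)
noncomputable def Atab_s_2978_3077 (c : Nat) : Nat := @Bool.rec (fun _ => Nat) (Atab_s_2978_3027 c) (Atab_s_3027_3077 c) (Nat.ble 3027 c)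
noncomputable def Atab_s_3078_3080 (c : Nat) : Nat := @Bool.rec (fun _ => Nat) (Atab_3078) (Atab_3079) (Nat.ble 3079 c)
noncomputable def Atab_s_3077_3080 (c : Nat) : Nat := @Bool.rec (fun _ => Nat) (Atab_3077) (Atab_s_3078_3080 c) (Nat.ble 3078 c)
noncomputable def Atab_s_3081_3083 (c : Nat) : Nat := @Bool.rec (fun _ => Nat) (Atab_3081) (Atab_3082) (Nat.ble 3082 c)
noncomputable def Atab_s_3080_3083 (c : Nat) : Nat := @Bool.rec (fun _ => Nat) (Atab_3080) (Atab_s_3081_3083 c) (Nat.ble 3081 c)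
noncomputable def Atab_s_3077_3083 (c : Nat) : Nat := @Bool.rec (fun _ => Nat) (Atab_s_3077_3080 c) (Atab_s_3080_3083 c) (Nat.ble 3080 c)
noncomputable def Atab_s_3084_3086 (c : Nat) : Nat := @Bool.rec (fun _ => Nat) (Atab_3084) (Atab_3085) (Nat.ble 3085 c)
noncomputable def Atab_s_3083_3086 (c : Nat) : Nat := @Bool.rec (fun _ => Nat) (Atab_3083) (Atab_s_3084_3086 c) (Nat.ble 3084 c)
noncomputable def Atab_s_3087_3089 (c : Nat) : Nat := @Bool.rec (fun _ => Nat) (Atab_3087) (Atab_3088) (Nat.ble 3088 c)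
noncomputable def Atab_s_3086_3089 (c : Nat) : Nat := @Bool.rec (fun _ => Nat) (Atab_3086) (Atab_s_3087_3089 c) (Nat.ble 3087 c)
noncomputable def Atab_s_3083_3089 (c : Nat) : Nat := @Bool.rec (fun _ => Nat) (Atab_s_3083_3086 c) (Atab_s_3086_3089 c) (Nat.ble 3086 c)
noncomputable def Atab_s_3077_3089 (c : Nat) : Nat := @Bool.rec (fun _ => Nat) (Atab_s_3077_3083 c) (Atab_s_3083_3089 c) (Nat.ble 3083 c)
noncomputable def Atab_s_3090_3092 (c : Nat) : Nat := @Bool.rec (fun _ => Nat) (Atab_3090) (Atab_3091) (Nat.ble 3091 c)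
noncomputable def Atab_s_3089_3092 (c : Nat) : Nat := @Bool.rec (fun _ => Nat) (Atab_3089) (Atab_s_3090_3092 c) (Nat.ble 3090 c)
noncomputable def Atab_s_3093_3095 (c : Nat) : Nat := @Bool.rec (fun _ => Nat) (Atab_3093) (Atab_3094) (Nat.ble 3094 c)
noncomputable def Atab_s_3092_3095 (c : Nat) : Nat := @Bool.rec (fun _ => Nat) (Atab_3092) (Atab_s_3093_3095 c) (Nat.ble 3093 c)
noncomputable def Atab_s_3089_3095 (c : Nat) : Nat := @Bool.rec (fun _ => Nat) (Atab_s_3089_3092 c) (Atab_s_3092_3095 c) (Nat.ble 3092 c)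
noncomputable def Atab_s_3096_3098 (c : Nat) : Nat := @Bool.rec (fun _ => Nat) (Atab_3096) (Atab_3097) (Nat.ble 3097 c)
noncomputable def Atab_s_3095_3098 (c : Nat) : Nat := @Bool.rec (fun _ => Nat) (Atab_3095) (Atab_s_3096_3098 c) (Nat.ble 3096 c)
noncomputable def Atab_s_3098_3100 (c : Nat) : Nat := @Bool.rec (fun _ => Nat) (Atab_3098) (Atab_3099) (Nat.ble 3099 c)
noncomputable def Atab_s_3100_3102 (c : Nat) : Nat := @Bool.rec (fun _ => Nat) (Atab_3100) (Atab_3101) (Nat.ble 3101 c)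
noncomputable def Atab_s_3098_3102 (c : Nat) : Nat := @Bool.rec (fun _ => Nat) (Atab_s_3098_3100 c) (Atab_s_3100_3102 c) (Nat.ble 3100 c)
noncomputable def Atab_s_3095_3102 (c : Nat) : Nat := @Bool.rec (fun _ => Nat) (Atab_s_3095_3098 c) (Atab_s_3098_3102 c) (Nat.ble 3098 c)
noncomputable def Atab_s_3089_3102 (c : Nat) : Nat := @Bool.rec (fun _ => Nat) (Atab_s_3089_3095 c) (Atab_s_3095_3102 c) (Nat.ble 3095 c)
noncomputable def Atab_s_3077_3102 (c : Nat) : Nat := @Bool.rec (fun _ => Nat) (Atab_s_3077_3089 c) (Atab_s_3089_3102 c) (Nat.ble 3089 c)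
noncomputable def Atab_s_3103_3105 (c : Nat) : Nat := @Bool.rec (fun _ => Nat) (Atab_3103) (Atab_3104) (Nat.ble 3104 c)
noncomputable def Atab_s_3102_3105 (c : Nat) : Nat := @Bool.rec (fun _ => Nat) (Atab_3102) (Atab_s_3103_3105 c) (Nat.ble 3103 c)
noncomputable def Atab_s_3106_3108 (c : Nat) : Nat := @Bool.rec (fun _ => Nat) (Atab_3106) (Atab_3107) (Nat.ble 3107 c)
noncomputable def Atab_s_3105_3108 (c : Nat) : Nat := @Bool.rec (fun _ => Nat) (Atab_3105) (Atab_s_3106_3108 c) (Nat.ble 3106 c)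
noncomputable def Atab_s_3102_3108 (c : Nat) : Nat := @Bool.rec (fun _ => Nat) (Atab_s_3102_3105 c) (Atab_s_3105_3108 c) (Nat.ble 3105 c)
noncomputable def Atab_s_3109_3111 (c : Nat) : Nat := @Bool.rec (fun _ => Nat) (Atab_3109) (Atab_3110) (Nat.ble 3110 c)
noncomputable def Atab_s_3108_3111 (c : Nat) : Nat := @Bool.rec (fun _ => Nat) (Atab_3108) (Atab_s_3109_3111 c) (Nat.ble 3109 c)
noncomputable def Atab_s_3112_3114 (c : Nat) : Nat := @Bool.rec (fun _ => Nat) (Atab_3112) (Atab_3113) (Nat.ble 3113 c)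
noncomputable def Atab_s_3111_3114 (c : Nat) : Nat := @Bool.rec (fun _ => Nat) (Atab_3111) (Atab_s_3112_3114 c) (Nat.ble 3112 c)
noncomputable def Atab_s_3108_3114 (c : Nat) : Nat := @Bool.rec (fun _ => Nat) (Atab_s_3108_3111 c) (Atab_s_3111_3114 c) (Nat.ble 3111 c)
noncomputable def Atab_s_3102_3114 (c : Nat) : Nat := @Bool.rec (fun _ => Nat) (Atab_s_3102_3108 c) (Atab_s_3108_3114 c) (Nat.ble 3108 c)
noncomputable def Atab_s_3115_3117 (c : Nat) : Nat := @Bool.rec (fun _ => Nat) (Atab_3115) (Atab_3116) (Nat.ble 3116 c)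
noncomputable def Atab_s_3114_3117 (c : Nat) : Nat := @Bool.rec (fun _ => Nat) (Atab_3114) (Atab_s_3115_3117 c) (Nat.ble 3115 c)
noncomputable def Atab_s_3118_3120 (c : Nat) : Nat := @Bool.rec (fun _ => Nat) (Atab_3118) (Atab_3119) (Nat.ble 3119 c)
noncomputable def Atab_s_3117_3120 (c : Nat) : Nat := @Bool.rec (fun _ => Nat) (Atab_3117) (Atab_s_3118_3120 c) (Nat.ble 3118 c)
noncomputable def Atab_s_3114_3120 (c : Nat) : Nat := @Bool.rec (fun _ => Nat) (Atab_s_3114_3117 c) (Atab_s_3117_3120 c) (Nat.ble 3117 c)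
noncomputable def Atab_s_3121_3123 (c : Nat) : Nat := @Bool.rec (fun _ => Nat) (Atab_3121) (Atab_3122) (Nat.ble 3122 c)
noncomputable def Atab_s_3120_3123 (c : Nat) : Nat := @Bool.rec (fun _ => Nat) (Atab_3120) (Atab_s_3121_3123 c) (Nat.ble 3121 c)
noncomputable def Atab_s_3123_3125 (c : Nat) : Nat := @Bool.rec (fun _ => Nat) (Atab_3123) (Atab_3124) (Nat.ble 3124 c)
noncomputable def Atab_s_3125_3127 (c : Nat) : Nat := @Bool.rec (fun _ => Nat) (Atab_3125) (Atab_3126) (Nat.ble 3126 c)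
noncomputable def Atab_s_3123_3127 (c : Nat) : Nat := @Bool.rec (fun _ => Nat) (Atab_s_3123_3125 c) (Atab_s_3125_3127 c) (Nat.ble 3125 c)
noncomputable def Atab_s_3120_3127 (c : Nat) : Nat := @Bool.rec (fun _ => Nat) (Atab_s_3120_3123 c) (Atab_s_3123_3127 c) (Nat.ble 3123 c)
noncomputable def Atab_s_3114_3127 (c : Nat) : Nat := @Bool.rec (fun _ => Nat) (Atab_s_3114_3120 c) (Atab_s_3120_3127 c) (Nat.ble 3120 c)
noncomputable def Atab_s_3102_3127 (c : Nat) : Nat := @Bool.rec (fun _ => Nat) (Atab_s_3102_3114 c) (Atab_s_3114_3127 c) (Nat.ble 3114 c)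
noncomputable def Atab_s_3077_3127 (c : Nat) : Nat := @Bool.rec (fun _ => Nat) (Atab_s_3077_3102 c) (Atab_s_3102_3127 c) (Nat.ble 3102 c)
noncomputable def Atab_s_3128_3130 (c : Nat) : Nat := @Bool.rec (fun _ => Nat) (Atab_3128) (Atab_3129) (Nat.ble 3129 c)
noncomputable def Atab_s_3127_3130 (c : Nat) : Nat := @Bool.rec (fun _ => Nat) (Atab_3127) (Atab_s_3128_3130 c) (Nat.ble 3128 c)
noncomputable def Atab_s_3131_3133 (c : Nat) : Nat := @Bool.rec (fun _ => Nat) (Atab_3131) (Atab_3132) (Nat.ble 3132 c)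
noncomputable def Atab_s_3130_3133 (c : Nat) : Nat := @Bool.rec (fun _ => Nat) (Atab_3130) (Atab_s_3131_3133 c) (Nat.ble 3131 c)
noncomputable def Atab_s_3127_3133 (c : Nat) : Nat := @Bool.rec (fun _ => Nat) (Atab_s_3127_3130 c) (Atab_s_3130_3133 c) (Nat.ble 3130 c)
noncomputable def Atab_s_3134_3136 (c : Nat) : Nat := @Bool.rec (fun _ => Nat) (Atab_3134) (Atab_3135) (Nat.ble 3135 c)
noncomputable def Atab_s_3133_3136 (c : Nat) : Nat := @Bool.rec (fun _ => Nat) (Atab_3133) (Atab_s_3134_3136 c) (Nat.ble 3134 c)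
noncomputable def Atab_s_3137_3139 (c : Nat) : Nat := @Bool.rec (fun _ => Nat) (Atab_3137) (Atab_3138) (Nat.ble 3138 c)
noncomputable def Atab_s_3136_3139 (c : Nat) : Nat := @Bool.rec (fun _ => Nat) (Atab_3136) (Atab_s_3137_3139 c) (Nat.ble 3137 c)
noncomputable def Atab_s_3133_3139 (c : Nat) : Nat := @Bool.rec (fun _ => Nat) (Atab_s_3133_3136 c) (Atab_s_3136_3139 c) (Nat.ble 3136 c)
noncomputable def Atab_s_3127_3139 (c : Nat) : Nat := @Bool.rec (fun _ => Nat) (Atab_s_3127_3133 c) (Atab_s_3133_3139 c) (Nat.ble 3133 c)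
noncomputable def Atab_s_3140_3142 (c : Nat) : Nat := @Bool.rec (fun _ => Nat) (Atab_3140) (Atab_3141) (Nat.ble 3141 c)
noncomputable def Atab_s_3139_3142 (c : Nat) : Nat := @Bool.rec (fun _ => Nat) (Atab_3139) (Atab_s_3140_3142 c) (Nat.ble 3140 c)
noncomputable def Atab_s_3143_3145 (c : Nat) : Nat := @Bool.rec (fun _ => Nat) (Atab_3143) (Atab_3144) (Nat.ble 3144 c)
noncomputable def Atab_s_3142_3145 (c : Nat) : Nat := @Bool.rec (fun _ => Nat) (Atab_3142) (Atab_s_3143_3145 c) (Nat.ble 3143 c)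
noncomputable def Atab_s_3139_3145 (c : Nat) : Nat := @Bool.rec (fun _ => Nat) (Atab_s_3139_3142 c) (Atab_s_3142_3145 c) (Nat.ble 3142 c)
noncomputable def Atab_s_3146_3148 (c : Nat) : Nat := @Bool.rec (fun _ => Nat) (Atab_3146) (Atab_3147) (Nat.ble 3147 c)
noncomputable def Atab_s_3145_3148 (c : Nat) : Nat := @Bool.rec (fun _ => Nat) (Atab_3145) (Atab_s_3146_3148 c) (Nat.ble 3146 c)
noncomputable def Atab_s_3148_3150 (c : Nat) : Nat := @Bool.rec (fun _ => Nat) (Atab_3148) (Atab_3149) (Nat.ble 3149 c)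
noncomputable def Atab_s_3150_3152 (c : Nat) : Nat := @Bool.rec (fun _ => Nat) (Atab_3150) (Atab_3151) (Nat.ble 3151 c)
noncomputable def Atab_s_3148_3152 (c : Nat) : Nat := @Bool.rec (fun _ => Nat) (Atab_s_3148_3150 c) (Atab_s_3150_3152 c) (Nat.ble 3150 c)
noncomputable def Atab_s_3145_3152 (c : Nat) : Nat := @Bool.rec (fun _ => Nat) (Atab_s_3145_3148 c) (Atab_s_3148_3152 c) (Nat.ble 3148 c)
noncomputable def Atab_s_3139_3152 (c : Nat) : Nat := @Bool.rec (fun _ => Nat) (Atab_s_3139_3145 c) (Atab_s_3145_3152 c) (Nat.ble 3145 c)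
noncomputable def Atab_s_3127_3152 (c : Nat) : Nat := @Bool.rec (fun _ => Nat) (Atab_s_3127_3139 c) (Atab_s_3139_3152 c) (Nat.ble 3139 c)
noncomputable def Atab_s_3153_3155 (c : Nat) : Nat := @Bool.rec (fun _ => Nat) (Atab_3153) (Atab_3154) (Nat.ble 3154 c)
noncomputable def Atab_s_3152_3155 (c : Nat) : Nat := @Bool.rec (fun _ => Nat) (Atab_3152) (Atab_s_3153_3155 c) (Nat.ble 3153 c)
noncomputable def Atab_s_3156_3158 (c : Nat) : Nat := @Bool.rec (fun _ => Nat) (Atab_3156) (Atab_3157) (Nat.ble 3157 c)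
noncomputable def Atab_s_3155_3158 (c : Nat) : Nat := @Bool.rec (fun _ => Nat) (Atab_3155) (Atab_s_3156_3158 c) (Nat.ble 3156 c)
noncomputable def Atab_s_3152_3158 (c : Nat) : Nat := @Bool.rec (fun _ => Nat) (Atab_s_3152_3155 c) (Atab_s_3155_3158 c) (Nat.ble 3155 c)
noncomputable def Atab_s_3159_3161 (c : Nat) : Nat := @Bool.rec (fun _ => Nat) (Atab_3159) (Atab_3160) (Nat.ble 3160 c)
noncomputable def Atab_s_3158_3161 (c : Nat) : Nat := @Bool.rec (fun _ => Nat) (Atab_3158) (Atab_s_3159_3161 c) (Nat.ble 3159 c)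
noncomputable def Atab_s_3162_3164 (c : Nat) : Nat := @Bool.rec (fun _ => Nat) (Atab_3162) (Atab_3163) (Nat.ble 3163 c)
noncomputable def Atab_s_3161_3164 (c : Nat) : Nat := @Bool.rec (fun _ => Nat) (Atab_3161) (Atab_s_3162_3164 c) (Nat.ble 3162 c)
noncomputable def Atab_s_3158_3164 (c : Nat) : Nat := @Bool.rec (fun _ => Nat) (Atab_s_3158_3161 c) (Atab_s_3161_3164 c) (Nat.ble 3161 c)
noncomputable def Atab_s_3152_3164 (c : Nat) : Nat := @Bool.rec (fun _ => Nat) (Atab_s_3152_3158 c) (Atab_s_3158_3164 c) (Nat.ble 3158 c)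
noncomputable def Atab_s_3165_3167 (c : Nat) : Nat := @Bool.rec (fun _ => Nat) (Atab_3165) (Atab_3166) (Nat.ble 3166 c)
noncomputable def Atab_s_3164_3167 (c : Nat) : Nat := @Bool.rec (fun _ => Nat) (Atab_3164) (Atab_s_3165_3167 c) (Nat.ble 3165 c)
noncomputable def Atab_s_3168_3170 (c : Nat) : Nat := @Bool.rec (fun _ => Nat) (Atab_3168) (Atab_3169) (Nat.ble 3169 c)
noncomputable def Atab_s_3167_3170 (c : Nat) : Nat := @Bool.rec (fun _ => Nat) (Atab_3167) (Atab_s_3168_3170 c) (Nat.ble 3168 c)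
noncomputable def Atab_s_3164_3170 (c : Nat) : Nat := @Bool.rec (fun _ => Nat) (Atab_s_3164_3167 c) (Atab_s_3167_3170 c) (Nat.ble 3167 c)
noncomputable def Atab_s_3171_3173 (c : Nat) : Nat := @Bool.rec (fun _ => Nat) (Atab_3171) (Atab_3172) (Nat.ble 3172 c)
noncomputable def Atab_s_3170_3173 (c : Nat) : Nat := @Bool.rec (fun _ => Nat) (Atab_3170) (Atab_s_3171_3173 c) (Nat.ble 3171 c)
noncomputable def Atab_s_3173_3175 (c : Nat) : Nat := @Bool.rec (fun _ => Nat) (Atab_3173) (Atab_3174) (Nat.ble 3174 c)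
noncomputable def Atab_s_3175_3177 (c : Nat) : Nat := @Bool.rec (fun _ => Nat) (Atab_3175) (Atab_3176) (Nat.ble 3176 c)
noncomputable def Atab_s_3173_3177 (c : Nat) : Nat := @Bool.rec (fun _ => Nat) (Atab_s_3173_3175 c) (Atab_s_3175_3177 c) (Nat.ble 3175 c)
noncomputable def Atab_s_3170_3177 (c : Nat) : Nat := @Bool.rec (fun _ => Nat) (Atab_s_3170_3173 c) (Atab_s_3173_3177 c) (Nat.ble 3173 c)
noncomputable def Atab_s_3164_3177 (c : Nat) : Nat := @Bool.rec (fun _ => Nat) (Atab_s_3164_3170 c) (Atab_s_3170_3177 c) (Nat.ble 3170 c)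
noncomputable def Atab_s_3152_3177 (c : Nat) : Nat := @Bool.rec (fun _ => Nat) (Atab_s_3152_3164 c) (Atab_s_3164_3177 c) (Nat.ble 3164 c)
noncomputable def Atab_s_3127_3177 (c : Nat) : Nat := @Bool.rec (fun _ => Nat) (Atab_s_3127_3152 c) (Atab_s_3152_3177 c) (Nat.ble 3152 c)
noncomputable def Atab_s_3077_3177 (c : Nat) : Nat := @Bool.rec (fun _ => Nat) (Atab_s_3077_3127 c) (Atab_s_3127_3177 c) (Nat.ble 3127 c)
noncomputable def Atab_s_2978_3177 (c : Nat) : Nat := @Bool.rec (fun _ => Nat) (Atab_s_2978_3077 c) (Atab_s_3077_3177 c) (Nat.ble 3077 c)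
noncomputable def Atab_s_2779_3177 (c : Nat) : Nat := @Bool.rec (fun _ => Nat) (Atab_s_2779_2978 c) (Atab_s_2978_3177 c) (Nat.ble 2978 c)
noncomputable def Atab_s_2382_3177 (c : Nat) : Nat := @Bool.rec (fun _ => Nat) (Atab_s_2382_2779 c) (Atab_s_2779_3177 c) (Nat.ble 2779 c)
noncomputable def Atab_s_1588_3177 (c : Nat) : Nat := @Bool.rec (fun _ => Nat) (Atab_s_1588_2382 c) (Atab_s_2382_3177 c) (Nat.ble 2382 c)
noncomputable def Atab_s_0_3177 (c : Nat) : Nat := @Bool.rec (fun _ => Nat) (Atab_s_0_1588 c) (Atab_s_1588_3177 c) (Nat.ble 1588 c)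
noncomputable def Atab (i : Nat) : Nat := rdw 46 70368744177663 (Atab_s_0_3177 (Nat.shiftRight i 11)) (Nat.land i 2047)
noncomputable def Btab_s_0_2 (c : Nat) : Nat := @Bool.rec (fun _ => Nat) (Btab_0) (Btab_1) (Nat.ble 1 c)
noncomputable def Btab_s_2_4 (c : Nat) : Nat := @Bool.rec (fun _ => Nat) (Btab_2) (Btab_3) (Nat.ble 3 c)
noncomputable def Btab_s_0_4 (c : Nat) : Nat := @Bool.rec (fun _ => Nat) (Btab_s_0_2 c) (Btab_s_2_4 c) (Nat.ble 2 c)
noncomputable def Btab_s_4_6 (c : Nat) : Nat := @Bool.rec (fun _ => Nat) (Btab_4) (Btab_5) (Nat.ble 5 c)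
noncomputable def Btab_s_7_9 (c : Nat) : Nat := @Bool.rec (fun _ => Nat) (Btab_7) (Btab_8) (Nat.ble 8 c)
noncomputable def Btab_s_6_9 (c : Nat) : Nat := @Bool.rec (fun _ => Nat) (Btab_6) (Btab_s_7_9 c) (Nat.ble 7 c)
noncomputable def Btab_s_4_9 (c : Nat) : Nat := @Bool.rec (fun _ => Nat) (Btab_s_4_6 c) (Btab_s_6_9 c) (Nat.ble 6 c)
noncomputable def Btab_s_0_9 (c : Nat) : Nat := @Bool.rec (fun _ => Nat) (Btab_s_0_4 c) (Btab_s_4_9 c) (Nat.ble 4 c)
noncomputable def Btab_s_9_11 (c : Nat) : Nat := @Bool.rec (fun _ => Nat) (Btab_9) (Btab_10) (Nat.ble 10 c)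
noncomputable def Btab_s_11_13 (c : Nat) : Nat := @Bool.rec (fun _ => Nat) (Btab_11) (Btab_12) (Nat.ble 12 c)
noncomputable def Btab_s_9_13 (c : Nat) : Nat := @Bool.rec (fun _ => Nat) (Btab_s_9_11 c) (Btab_s_11_13 c) (Nat.ble 11 c)
noncomputable def Btab_s_13_15 (c : Nat) : Nat := @Bool.rec (fun _ => Nat) (Btab_13) (Btab_14) (Nat.ble 14 c)
noncomputable def Btab_s_16_18 (c : Nat) : Nat := @Bool.rec (fun _ => Nat) (Btab_16) (Btab_17) (Nat.ble 17 c)
noncomputable def Btab_s_15_18 (c : Nat) : Nat := @Bool.rec (fun _ => Nat) (Btab_15) (Btab_s_16_18 c) (Nat.ble 16 c)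
noncomputable def Btab_s_13_18 (c : Nat) : Nat := @Bool.rec (fun _ => Nat) (Btab_s_13_15 c) (Btab_s_15_18 c) (Nat.ble 15 c)
noncomputable def Btab_s_9_18 (c : Nat) : Nat := @Bool.rec (fun _ => Nat) (Btab_s_9_13 c) (Btab_s_13_18 c) (Nat.ble 13 c)
noncomputable def Btab_s_0_18 (c : Nat) : Nat := @Bool.rec (fun _ => Nat) (Btab_s_0_9 c) (Btab_s_9_18 c) (Nat.ble 9 c)
noncomputable def Btab_s_18_20 (c : Nat) : Nat := @Bool.rec (fun _ => Nat) (Btab_18) (Btab_19) (Nat.ble 19 c)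
noncomputable def Btab_s_20_22 (c : Nat) : Nat := @Bool.rec (fun _ => Nat) (Btab_20) (Btab_21) (Nat.ble 21 c)
noncomputable def Btab_s_18_22 (c : Nat) : Nat := @Bool.rec (fun _ => Nat) (Btab_s_18_20 c) (Btab_s_20_22 c) (Nat.ble 20 c)
noncomputable def Btab_s_22_24 (c : Nat) : Nat := @Bool.rec (fun _ => Nat) (Btab_22) (Btab_23) (Nat.ble 23 c)
noncomputable def Btab_s_25_27 (c : Nat) : Nat := @Bool.rec (fun _ => Nat) (Btab_25) (Btab_26) (Nat.ble 26 c)
noncomputable def Btab_s_24_27 (c : Nat) : Nat := @Bool.rec (fun _ => Nat) (Btab_24) (Btab_s_25_27 c) (Nat.ble 25 c)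
noncomputable def Btab_s_22_27 (c : Nat) : Nat := @Bool.rec (fun _ => Nat) (Btab_s_22_24 c) (Btab_s_24_27 c) (Nat.ble 24 c)
noncomputable def Btab_s_18_27 (c : Nat) : Nat := @Bool.rec (fun _ => Nat) (Btab_s_18_22 c) (Btab_s_22_27 c) (Nat.ble 22 c)
noncomputable def Btab_s_27_29 (c : Nat) : Nat := @Bool.rec (fun _ => Nat) (Btab_27) (Btab_28) (Nat.ble 28 c)
noncomputable def Btab_s_30_32 (c : Nat) : Nat := @Bool.rec (fun _ => Nat) (Btab_30) (Btab_31) (Nat.ble 31 c)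
noncomputable def Btab_s_29_32 (c : Nat) : Nat := @Bool.rec (fun _ => Nat) (Btab_29) (Btab_s_30_32 c) (Nat.ble 30 c)
noncomputable def Btab_s_27_32 (c : Nat) : Nat := @Bool.rec (fun _ => Nat) (Btab_s_27_29 c) (Btab_s_29_32 c) (Nat.ble 29 c)
noncomputable def Btab_s_32_34 (c : Nat) : Nat := @Bool.rec (fun _ => Nat) (Btab_32) (Btab_33) (Nat.ble 33 c)
noncomputable def Btab_s_35_37 (c : Nat) : Nat := @Bool.rec (fun _ => Nat) (Btab_35) (Btab_36) (Nat.ble 36 c)
noncomputable def Btab_s_34_37 (c : Nat) : Nat := @Bool.rec (fun _ => Nat) (Btab_34) (Btab_s_35_37 c) (Nat.ble 35 c)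
noncomputable def Btab_s_32_37 (c : Nat) : Nat := @Bool.rec (fun _ => Nat) (Btab_s_32_34 c) (Btab_s_34_37 c) (Nat.ble 34 c)
noncomputable def Btab_s_27_37 (c : Nat) : Nat := @Bool.rec (fun _ => Nat) (Btab_s_27_32 c) (Btab_s_32_37 c) (Nat.ble 32 c)
noncomputable def Btab_s_18_37 (c : Nat) : Nat := @Bool.rec (fun _ => Nat) (Btab_s_18_27 c) (Btab_s_27_37 c) (Nat.ble 27 c)
noncomputable def Btab_s_0_37 (c : Nat) : Nat := @Bool.rec (fun _ => Nat) (Btab_s_0_18 c) (Btab_s_18_37 c) (Nat.ble 18 c)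
noncomputable def Btab_s_37_39 (c : Nat) : Nat := @Bool.rec (fun _ => Nat) (Btab_37) (Btab_38) (Nat.ble 38 c)
noncomputable def Btab_s_39_41 (c : Nat) : Nat := @Bool.rec (fun _ => Nat) (Btab_39) (Btab_40) (Nat.ble 40 c)
noncomputable def Btab_s_37_41 (c : Nat) : Nat := @Bool.rec (fun _ => Nat) (Btab_s_37_39 c) (Btab_s_39_41 c) (Nat.ble 39 c)
noncomputable def Btab_s_41_43 (c : Nat) : Nat := @Bool.rec (fun _ => Nat) (Btab_41) (Btab_42) (Nat.ble 42 c)
noncomputable def Btab_s_44_46 (c : Nat) : Nat := @Bool.rec (fun _ => Nat) (Btab_44) (Btab_45) (Nat.ble 45 c)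
noncomputable def Btab_s_43_46 (c : Nat) : Nat := @Bool.rec (fun _ => Nat) (Btab_43) (Btab_s_44_46 c) (Nat.ble 44 c)
noncomputable def Btab_s_41_46 (c : Nat) : Nat := @Bool.rec (fun _ => Nat) (Btab_s_41_43 c) (Btab_s_43_46 c) (Nat.ble 43 c)
noncomputable def Btab_s_37_46 (c : Nat) : Nat := @Bool.rec (fun _ => Nat) (Btab_s_37_41 c) (Btab_s_41_46 c) (Nat.ble 41 c)
noncomputable def Btab_s_46_48 (c : Nat) : Nat := @Bool.rec (fun _ => Nat) (Btab_46) (Btab_47) (Nat.ble 47 c)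
noncomputable def Btab_s_48_50 (c : Nat) : Nat := @Bool.rec (fun _ => Nat) (Btab_48) (Btab_49) (Nat.ble 49 c)
noncomputable def Btab_s_46_50 (c : Nat) : Nat := @Bool.rec (fun _ => Nat) (Btab_s_46_48 c) (Btab_s_48_50 c) (Nat.ble 48 c)
noncomputable def Btab_s_50_52 (c : Nat) : Nat := @Bool.rec (fun _ => Nat) (Btab_50) (Btab_51) (Nat.ble 51 c)
noncomputable def Btab_s_53_55 (c : Nat) : Nat := @Bool.rec (fun _ => Nat) (Btab_53) (Btab_54) (Nat.ble 54 c)
noncomputable def Btab_s_52_55 (c : Nat) : Nat := @Bool.rec (fun _ => Nat) (Btab_52) (Btab_s_53_55 c) (Nat.ble 53 c)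
noncomputable def Btab_s_50_55 (c : Nat) : Nat := @Bool.rec (fun _ => Nat) (Btab_s_50_52 c) (Btab_s_52_55 c) (Nat.ble 52 c)
noncomputable def Btab_s_46_55 (c : Nat) : Nat := @Bool.rec (fun _ => Nat) (Btab_s_46_50 c) (Btab_s_50_55 c) (Nat.ble 50 c)
noncomputable def Btab_s_37_55 (c : Nat) : Nat := @Bool.rec (fun _ => Nat) (Btab_s_37_46 c) (Btab_s_46_55 c) (Nat.ble 46 c)
noncomputable def Btab_s_55_57 (c : Nat) : Nat := @Bool.rec (fun _ => Nat) (Btab_55) (Btab_56) (Nat.ble 56 c)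
noncomputable def Btab_s_57_59 (c : Nat) : Nat := @Bool.rec (fun _ => Nat) (Btab_57) (Btab_58) (Nat.ble 58 c)
noncomputable def Btab_s_55_59 (c : Nat) : Nat := @Bool.rec (fun _ => Nat) (Btab_s_55_57 c) (Btab_s_57_59 c) (Nat.ble 57 c)
noncomputable def Btab_s_59_61 (c : Nat) : Nat := @Bool.rec (fun _ => Nat) (Btab_59) (Btab_60) (Nat.ble 60 c)
noncomputable def Btab_s_62_64 (c : Nat) : Nat := @Bool.rec (fun _ => Nat) (Btab_62) (Btab_63) (Nat.ble 63 c)
noncomputable def Btab_s_61_64 (c : Nat) : Nat := @Bool.rec (fun _ => Nat) (Btab_61) (Btab_s_62_64 c) (Nat.ble 62 c)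
noncomputable def Btab_s_59_64 (c : Nat) : Nat := @Bool.rec (fun _ => Nat) (Btab_s_59_61 c) (Btab_s_61_64 c) (Nat.ble 61 c)
noncomputable def Btab_s_55_64 (c : Nat) : Nat := @Bool.rec (fun _ => Nat) (Btab_s_55_59 c) (Btab_s_59_64 c) (Nat.ble 59 c)
noncomputable def Btab_s_64_66 (c : Nat) : Nat := @Bool.rec (fun _ => Nat) (Btab_64) (Btab_65) (Nat.ble 65 c)
noncomputable def Btab_s_67_69 (c : Nat) : Nat := @Bool.rec (fun _ => Nat) (Btab_67) (Btab_68) (Nat.ble 68 c)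
noncomputable def Btab_s_66_69 (c : Nat) : Nat := @Bool.rec (fun _ => Nat) (Btab_66) (Btab_s_67_69 c) (Nat.ble 67 c)
noncomputable def Btab_s_64_69 (c : Nat) : Nat := @Bool.rec (fun _ => Nat) (Btab_s_64_66 c) (Btab_s_66_69 c) (Nat.ble 66 c)
noncomputable def Btab_s_69_71 (c : Nat) : Nat := @Bool.rec (fun _ => Nat) (Btab_69) (Btab_70) (Nat.ble 70 c)
noncomputable def Btab_s_72_74 (c : Nat) : Nat := @Bool.rec (fun _ => Nat) (Btab_72) (Btab_73) (Nat.ble 73 c)
noncomputable def Btab_s_71_74 (c : Nat) : Nat := @Bool.rec (fun _ => Nat) (Btab_71) (Btab_s_72_74 c) (Nat.ble 72 c)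
noncomputable def Btab_s_69_74 (c : Nat) : Nat := @Bool.rec (fun _ => Nat) (Btab_s_69_71 c) (Btab_s_71_74 c) (Nat.ble 71 c)
noncomputable def Btab_s_64_74 (c : Nat) : Nat := @Bool.rec (fun _ => Nat) (Btab_s_64_69 c) (Btab_s_69_74 c) (Nat.ble 69 c)
noncomputable def Btab_s_55_74 (c : Nat) : Nat := @Bool.rec (fun _ => Nat) (Btab_s_55_64 c) (Btab_s_64_74 c) (Nat.ble 64 c)
noncomputable def Btab_s_37_74 (c : Nat) : Nat := @Bool.rec (fun _ => Nat) (Btab_s_37_55 c) (Btab_s_55_74 c) (Nat.ble 55 c)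
noncomputable def Btab_s_0_74 (c : Nat) : Nat := @Bool.rec (fun _ => Nat) (Btab_s_0_37 c) (Btab_s_37_74 c) (Nat.ble 37 c)
noncomputable def Btab_s_74_76 (c : Nat) : Nat := @Bool.rec (fun _ => Nat) (Btab_74) (Btab_75) (Nat.ble 75 c)
noncomputable def Btab_s_76_78 (c : Nat) : Nat := @Bool.rec (fun _ => Nat) (Btab_76) (Btab_77) (Nat.ble 77 c)
noncomputable def Btab_s_74_78 (c : Nat) : Nat := @Bool.rec (fun _ => Nat) (Btab_s_74_76 c) (Btab_s_76_78 c) (Nat.ble 76 c)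
noncomputable def Btab_s_78_80 (c : Nat) : Nat := @Bool.rec (fun _ => Nat) (Btab_78) (Btab_79) (Nat.ble 79 c)
noncomputable def Btab_s_81_83 (c : Nat) : Nat := @Bool.rec (fun _ => Nat) (Btab_81) (Btab_82) (Nat.ble 82 c)
noncomputable def Btab_s_80_83 (c : Nat) : Nat := @Bool.rec (fun _ => Nat) (Btab_80) (Btab_s_81_83 c) (Nat.ble 81 c)
noncomputable def Btab_s_78_83 (c : Nat) : Nat := @Bool.rec (fun _ => Nat) (Btab_s_78_80 c) (Btab_s_80_83 c) (Nat.ble 80 c)
noncomputable def Btab_s_74_83 (c : Nat) : Nat := @Bool.rec (fun _ => Nat) (Btab_s_74_78 c) (Btab_s_78_83 c) (Nat.ble 78 c)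
noncomputable def Btab_s_83_85 (c : Nat) : Nat := @Bool.rec (fun _ => Nat) (Btab_83) (Btab_84) (Nat.ble 84 c)
noncomputable def Btab_s_85_87 (c : Nat) : Nat := @Bool.rec (fun _ => Nat) (Btab_85) (Btab_86) (Nat.ble 86 c)
noncomputable def Btab_s_83_87 (c : Nat) : Nat := @Bool.rec (fun _ => Nat) (Btab_s_83_85 c) (Btab_s_85_87 c) (Nat.ble 85 c)
noncomputable def Btab_s_87_89 (c : Nat) : Nat := @Bool.rec (fun _ => Nat) (Btab_87) (Btab_88) (Nat.ble 88 c)
noncomputable def Btab_s_90_92 (c : Nat) : Nat := @Bool.rec (fun _ => Nat) (Btab_90) (Btab_91) (Nat.ble 91 c)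
noncomputable def Btab_s_89_92 (c : Nat) : Nat := @Bool.rec (fun _ => Nat) (Btab_89) (Btab_s_90_92 c) (Nat.ble 90 c)
noncomputable def Btab_s_87_92 (c : Nat) : Nat := @Bool.rec (fun _ => Nat) (Btab_s_87_89 c) (Btab_s_89_92 c) (Nat.ble 89 c)
noncomputable def Btab_s_83_92 (c : Nat) : Nat := @Bool.rec (fun _ => Nat) (Btab_s_83_87 c) (Btab_s_87_92 c) (Nat.ble 87 c)
noncomputable def Btab_s_74_92 (c : Nat) : Nat := @Bool.rec (fun _ => Nat) (Btab_s_74_83 c) (Btab_s_83_92 c) (Nat.ble 83 c)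
noncomputable def Btab_s_92_94 (c : Nat) : Nat := @Bool.rec (fun _ => Nat) (Btab_92) (Btab_93) (Nat.ble 93 c)
noncomputable def Btab_s_94_96 (c : Nat) : Nat := @Bool.rec (fun _ => Nat) (Btab_94) (Btab_95) (Nat.ble 95 c)
noncomputable def Btab_s_92_96 (c : Nat) : Nat := @Bool.rec (fun _ => Nat) (Btab_s_92_94 c) (Btab_s_94_96 c) (Nat.ble 94 c)
noncomputable def Btab_s_96_98 (c : Nat) : Nat := @Bool.rec (fun _ => Nat) (Btab_96) (Btab_97) (Nat.ble 97 c)
noncomputable def Btab_s_99_101 (c : Nat) : Nat := @Bool.rec (fun _ => Nat) (Btab_99) (Btab_100) (Nat.ble 100 c)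
noncomputable def Btab_s_98_101 (c : Nat) : Nat := @Bool.rec (fun _ => Nat) (Btab_98) (Btab_s_99_101 c) (Nat.ble 99 c)
noncomputable def Btab_s_96_101 (c : Nat) : Nat := @Bool.rec (fun _ => Nat) (Btab_s_96_98 c) (Btab_s_98_101 c) (Nat.ble 98 c)
noncomputable def Btab_s_92_101 (c : Nat) : Nat := @Bool.rec (fun _ => Nat) (Btab_s_92_96 c) (Btab_s_96_101 c) (Nat.ble 96 c)
noncomputable def Btab_s_101_103 (c : Nat) : Nat := @Bool.rec (fun _ => Nat) (Btab_101) (Btab_102) (Nat.ble 102 c)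
noncomputable def Btab_s_104_106 (c : Nat) : Nat := @Bool.rec (fun _ => Nat) (Btab_104) (Btab_105) (Nat.ble 105 c)
noncomputable def Btab_s_103_106 (c : Nat) : Nat := @Bool.rec (fun _ => Nat) (Btab_103) (Btab_s_104_106 c) (Nat.ble 104 c)
noncomputable def Btab_s_101_106 (c : Nat) : Nat := @Bool.rec (fun _ => Nat) (Btab_s_101_103 c) (Btab_s_103_106 c) (Nat.ble 103 c)
noncomputable def Btab_s_106_108 (c : Nat) : Nat := @Bool.rec (fun _ => Nat) (Btab_106) (Btab_107) (Nat.ble 107 c)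
noncomputable def Btab_s_109_111 (c : Nat) : Nat := @Bool.rec (fun _ => Nat) (Btab_109) (Btab_110) (Nat.ble 110 c)
noncomputable def Btab_s_108_111 (c : Nat) : Nat := @Bool.rec (fun _ => Nat) (Btab_108) (Btab_s_109_111 c) (Nat.ble 109 c)
noncomputable def Btab_s_106_111 (c : Nat) : Nat := @Bool.rec (fun _ => Nat) (Btab_s_106_108 c) (Btab_s_108_111 c) (Nat.ble 108 c)
noncomputable def Btab_s_101_111 (c : Nat) : Nat := @Bool.rec (fun _ => Nat) (Btab_s_101_106 c) (Btab_s_106_111 c) (Nat.ble 106 c)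
noncomputable def Btab_s_92_111 (c : Nat) : Nat := @Bool.rec (fun _ => Nat) (Btab_s_92_101 c) (Btab_s_101_111 c) (Nat.ble 101 c)
noncomputable def Btab_s_74_111 (c : Nat) : Nat := @Bool.rec (fun _ => Nat) (Btab_s_74_92 c) (Btab_s_92_111 c) (Nat.ble 92 c)
noncomputable def Btab_s_111_113 (c : Nat) : Nat := @Bool.rec (fun _ => Nat) (Btab_111) (Btab_112) (Nat.ble 112 c)
noncomputable def Btab_s_113_115 (c : Nat) : Nat := @Bool.rec (fun _ => Nat) (Btab_113) (Btab_114) (Nat.ble 114 c)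
noncomputable def Btab_s_111_115 (c : Nat) : Nat := @Bool.rec (fun _ => Nat) (Btab_s_111_113 c) (Btab_s_113_115 c) (Nat.ble 113 c)
noncomputable def Btab_s_115_117 (c : Nat) : Nat := @Bool.rec (fun _ => Nat) (Btab_115) (Btab_116) (Nat.ble 116 c)
noncomputable def Btab_s_118_120 (c : Nat) : Nat := @Bool.rec (fun _ => Nat) (Btab_118) (Btab_119) (Nat.ble 119 c)
noncomputable def Btab_s_117_120 (c : Nat) : Nat := @Bool.rec (fun _ => Nat) (Btab_117) (Btab_s_118_120 c) (Nat.ble 118 c)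
noncomputable def Btab_s_115_120 (c : Nat) : Nat := @Bool.rec (fun _ => Nat) (Btab_s_115_117 c) (Btab_s_117_120 c) (Nat.ble 117 c)
noncomputable def Btab_s_111_120 (c : Nat) : Nat := @Bool.rec (fun _ => Nat) (Btab_s_111_115 c) (Btab_s_115_120 c) (Nat.ble 115 c)
noncomputable def Btab_s_120_122 (c : Nat) : Nat := @Bool.rec (fun _ => Nat) (Btab_120) (Btab_121) (Nat.ble 121 c)
noncomputable def Btab_s_123_125 (c : Nat) : Nat := @Bool.rec (fun _ => Nat) (Btab_123) (Btab_124) (Nat.ble 124 c)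
noncomputable def Btab_s_122_125 (c : Nat) : Nat := @Bool.rec (fun _ => Nat) (Btab_122) (Btab_s_123_125 c) (Nat.ble 123 c)
noncomputable def Btab_s_120_125 (c : Nat) : Nat := @Bool.rec (fun _ => Nat) (Btab_s_120_122 c) (Btab_s_122_125 c) (Nat.ble 122 c)
noncomputable def Btab_s_125_127 (c : Nat) : Nat := @Bool.rec (fun _ => Nat) (Btab_125) (Btab_126) (Nat.ble 126 c)
noncomputable def Btab_s_128_130 (c : Nat) : Nat := @Bool.rec (fun _ => Nat) (Btab_128) (Btab_129) (Nat.ble 129 c)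
noncomputable def Btab_s_127_130 (c : Nat) : Nat := @Bool.rec (fun _ => Nat) (Btab_127) (Btab_s_128_130 c) (Nat.ble 128 c)
noncomputable def Btab_s_125_130 (c : Nat) : Nat := @Bool.rec (fun _ => Nat) (Btab_s_125_127 c) (Btab_s_127_130 c) (Nat.ble 127 c)
noncomputable def Btab_s_120_130 (c : Nat) : Nat := @Bool.rec (fun _ => Nat) (Btab_s_120_125 c) (Btab_s_125_130 c) (Nat.ble 125 c)
noncomputable def Btab_s_111_130 (c : Nat) : Nat := @Bool.rec (fun _ => Nat) (Btab_s_111_120 c) (Btab_s_120_130 c) (Nat.ble 120 c)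
noncomputable def Btab_s_130_132 (c : Nat) : Nat := @Bool.rec (fun _ => Nat) (Btab_130) (Btab_131) (Nat.ble 131 c)
noncomputable def Btab_s_132_134 (c : Nat) : Nat := @Bool.rec (fun _ => Nat) (Btab_132) (Btab_133) (Nat.ble 133 c)
noncomputable def Btab_s_130_134 (c : Nat) : Nat := @Bool.rec (fun _ => Nat) (Btab_s_130_132 c) (Btab_s_132_134 c) (Nat.ble 132 c)
noncomputable def Btab_s_134_136 (c : Nat) : Nat := @Bool.rec (fun _ => Nat) (Btab_134) (Btab_135) (Nat.ble 135 c)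
noncomputable def Btab_s_137_139 (c : Nat) : Nat := @Bool.rec (fun _ => Nat) (Btab_137) (Btab_138) (Nat.ble 138 c)
noncomputable def Btab_s_136_139 (c : Nat) : Nat := @Bool.rec (fun _ => Nat) (Btab_136) (Btab_s_137_139 c) (Nat.ble 137 c)
noncomputable def Btab_s_134_139 (c : Nat) : Nat := @Bool.rec (fun _ => Nat) (Btab_s_134_136 c) (Btab_s_136_139 c) (Nat.ble 136 c)
noncomputable def Btab_s_130_139 (c : Nat) : Nat := @Bool.rec (fun _ => Nat) (Btab_s_130_134 c) (Btab_s_134_139 c) (Nat.ble 134 c)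
noncomputable def Btab_s_139_141 (c : Nat) : Nat := @Bool.rec (fun _ => Nat) (Btab_139) (Btab_140) (Nat.ble 140 c)
noncomputable def Btab_s_142_144 (c : Nat) : Nat := @Bool.rec (fun _ => Nat) (Btab_142) (Btab_143) (Nat.ble 143 c)
noncomputable def Btab_s_141_144 (c : Nat) : Nat := @Bool.rec (fun _ => Nat) (Btab_141) (Btab_s_142_144 c) (Nat.ble 142 c)
noncomputable def Btab_s_139_144 (c : Nat) : Nat := @Bool.rec (fun _ => Nat) (Btab_s_139_141 c) (Btab_s_141_144 c) (Nat.ble 141 c)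
noncomputable def Btab_s_144_146 (c : Nat) : Nat := @Bool.rec (fun _ => Nat) (Btab_144) (Btab_145) (Nat.ble 145 c)
noncomputable def Btab_s_147_149 (c : Nat) : Nat := @Bool.rec (fun _ => Nat) (Btab_147) (Btab_148) (Nat.ble 148 c)
noncomputable def Btab_s_146_149 (c : Nat) : Nat := @Bool.rec (fun _ => Nat) (Btab_146) (Btab_s_147_149 c) (Nat.ble 147 c)
noncomputable def Btab_s_144_149 (c : Nat) : Nat := @Bool.rec (fun _ => Nat) (Btab_s_144_146 c) (Btab_s_146_149 c) (Nat.ble 146 c)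
noncomputable def Btab_s_139_149 (c : Nat) : Nat := @Bool.rec (fun _ => Nat) (Btab_s_139_144 c) (Btab_s_144_149 c) (Nat.ble 144 c)
noncomputable def Btab_s_130_149 (c : Nat) : Nat := @Bool.rec (fun _ => Nat) (Btab_s_130_139 c) (Btab_s_139_149 c) (Nat.ble 139 c)
noncomputable def Btab_s_111_149 (c : Nat) : Nat := @Bool.rec (fun _ => Nat) (Btab_s_111_130 c) (Btab_s_130_149 c) (Nat.ble 130 c)
noncomputable def Btab_s_74_149 (c : Nat) : Nat := @Bool.rec (fun _ => Nat) (Btab_s_74_111 c) (Btab_s_111_149 c) (Nat.ble 111 c)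
noncomputable def Btab_s_0_149 (c : Nat) : Nat := @Bool.rec (fun _ => Nat) (Btab_s_0_74 c) (Btab_s_74_149 c) (Nat.ble 74 c)
noncomputable def Btab_s_149_151 (c : Nat) : Nat := @Bool.rec (fun _ => Nat) (Btab_149) (Btab_150) (Nat.ble 150 c)
noncomputable def Btab_s_151_153 (c : Nat) : Nat := @Bool.rec (fun _ => Nat) (Btab_151) (Btab_152) (Nat.ble 152 c)
noncomputable def Btab_s_149_153 (c : Nat) : Nat := @Bool.rec (fun _ => Nat) (Btab_s_149_151 c) (Btab_s_151_153 c) (Nat.ble 151 c)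
noncomputable def Btab_s_153_155 (c : Nat) : Nat := @Bool.rec (fun _ => Nat) (Btab_153) (Btab_154) (Nat.ble 154 c)
noncomputable def Btab_s_156_158 (c : Nat) : Nat := @Bool.rec (fun _ => Nat) (Btab_156) (Btab_157) (Nat.ble 157 c)
noncomputable def Btab_s_155_158 (c : Nat) : Nat := @Bool.rec (fun _ => Nat) (Btab_155) (Btab_s_156_158 c) (Nat.ble 156 c)
noncomputable def Btab_s_153_158 (c : Nat) : Nat := @Bool.rec (fun _ => Nat) (Btab_s_153_155 c) (Btab_s_155_158 c) (Nat.ble 155 c)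
noncomputable def Btab_s_149_158 (c : Nat) : Nat := @Bool.rec (fun _ => Nat) (Btab_s_149_153 c) (Btab_s_153_158 c) (Nat.ble 153 c)
noncomputable def Btab_s_158_160 (c : Nat) : Nat := @Bool.rec (fun _ => Nat) (Btab_158) (Btab_159) (Nat.ble 159 c)
noncomputable def Btab_s_160_162 (c : Nat) : Nat := @Bool.rec (fun _ => Nat) (Btab_160) (Btab_161) (Nat.ble 161 c)
noncomputable def Btab_s_158_162 (c : Nat) : Nat := @Bool.rec (fun _ => Nat) (Btab_s_158_160 c) (Btab_s_160_162 c) (Nat.ble 160 c)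
noncomputable def Btab_s_162_164 (c : Nat) : Nat := @Bool.rec (fun _ => Nat) (Btab_162) (Btab_163) (Nat.ble 163 c)
noncomputable def Btab_s_165_167 (c : Nat) : Nat := @Bool.rec (fun _ => Nat) (Btab_165) (Btab_166) (Nat.ble 166 c)
noncomputable def Btab_s_164_167 (c : Nat) : Nat := @Bool.rec (fun _ => Nat) (Btab_164) (Btab_s_165_167 c) (Nat.ble 165 c)
noncomputable def Btab_s_162_167 (c : Nat) : Nat := @Bool.rec (fun _ => Nat) (Btab_s_162_164 c) (Btab_s_164_167 c) (Nat.ble 164 c)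
noncomputable def Btab_s_158_167 (c : Nat) : Nat := @Bool.rec (fun _ => Nat) (Btab_s_158_162 c) (Btab_s_162_167 c) (Nat.ble 162 c)
noncomputable def Btab_s_149_167 (c : Nat) : Nat := @Bool.rec (fun _ => Nat) (Btab_s_149_158 c) (Btab_s_158_167 c) (Nat.ble 158 c)
noncomputable def Btab_s_167_169 (c : Nat) : Nat := @Bool.rec (fun _ => Nat) (Btab_167) (Btab_168) (Nat.ble 168 c)
noncomputable def Btab_s_169_171 (c : Nat) : Nat := @Bool.rec (fun _ => Nat) (Btab_169) (Btab_170) (Nat.ble 170 c)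
noncomputable def Btab_s_167_171 (c : Nat) : Nat := @Bool.rec (fun _ => Nat) (Btab_s_167_169 c) (Btab_s_169_171 c) (Nat.ble 169 c)
noncomputable def Btab_s_171_173 (c : Nat) : Nat := @Bool.rec (fun _ => Nat) (Btab_171) (Btab_172) (Nat.ble 172 c)
noncomputable def Btab_s_174_176 (c : Nat) : Nat := @Bool.rec (fun _ => Nat) (Btab_174) (Btab_175) (Nat.ble 175 c)
noncomputable def Btab_s_173_176 (c : Nat) : Nat := @Bool.rec (fun _ => Nat) (Btab_173) (Btab_s_174_176 c) (Nat.ble 174 c)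
noncomputable def Btab_s_171_176 (c : Nat) : Nat := @Bool.rec (fun _ => Nat) (Btab_s_171_173 c) (Btab_s_173_176 c) (Nat.ble 173 c)
noncomputable def Btab_s_167_176 (c : Nat) : Nat := @Bool.rec (fun _ => Nat) (Btab_s_167_171 c) (Btab_s_171_176 c) (Nat.ble 171 c)
noncomputable def Btab_s_176_178 (c : Nat) : Nat := @Bool.rec (fun _ => Nat) (Btab_176) (Btab_177) (Nat.ble 177 c)
noncomputable def Btab_s_179_181 (c : Nat) : Nat := @Bool.rec (fun _ => Nat) (Btab_179) (Btab_180) (Nat.ble 180 c)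
noncomputable def Btab_s_178_181 (c : Nat) : Nat := @Bool.rec (fun _ => Nat) (Btab_178) (Btab_s_179_181 c) (Nat.ble 179 c)
noncomputable def Btab_s_176_181 (c : Nat) : Nat := @Bool.rec (fun _ => Nat) (Btab_s_176_178 c) (Btab_s_178_181 c) (Nat.ble 178 c)
noncomputable def Btab_s_181_183 (c : Nat) : Nat := @Bool.rec (fun _ => Nat) (Btab_181) (Btab_182) (Nat.ble 182 c)
noncomputable def Btab_s_184_186 (c : Nat) : Nat := @Bool.rec (fun _ => Nat) (Btab_184) (Btab_185) (Nat.ble 185 c)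
noncomputable def Btab_s_183_186 (c : Nat) : Nat := @Bool.rec (fun _ => Nat) (Btab_183) (Btab_s_184_186 c) (Nat.ble 184 c)
noncomputable def Btab_s_181_186 (c : Nat) : Nat := @Bool.rec (fun _ => Nat) (Btab_s_181_183 c) (Btab_s_183_186 c) (Nat.ble 183 c)
noncomputable def Btab_s_176_186 (c : Nat) : Nat := @Bool.rec (fun _ => Nat) (Btab_s_176_181 c) (Btab_s_181_186 c) (Nat.ble 181 c)
noncomputable def Btab_s_167_186 (c : Nat) : Nat := @Bool.rec (fun _ => Nat) (Btab_s_167_176 c) (Btab_s_176_186 c) (Nat.ble 176 c)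
noncomputable def Btab_s_149_186 (c : Nat) : Nat := @Bool.rec (fun _ => Nat) (Btab_s_149_167 c) (Btab_s_167_186 c) (Nat.ble 167 c)
noncomputable def Btab_s_186_188 (c : Nat) : Nat := @Bool.rec (fun _ => Nat) (Btab_186) (Btab_187) (Nat.ble 187 c)
noncomputable def Btab_s_188_190 (c : Nat) : Nat := @Bool.rec (fun _ => Nat) (Btab_188) (Btab_189) (Nat.ble 189 c)
noncomputable def Btab_s_186_190 (c : Nat) : Nat := @Bool.rec (fun _ => Nat) (Btab_s_186_188 c) (Btab_s_188_190 c) (Nat.ble 188 c)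
noncomputable def Btab_s_190_192 (c : Nat) : Nat := @Bool.rec (fun _ => Nat) (Btab_190) (Btab_191) (Nat.ble 191 c)
noncomputable def Btab_s_193_195 (c : Nat) : Nat := @Bool.rec (fun _ => Nat) (Btab_193) (Btab_194) (Nat.ble 194 c)
noncomputable def Btab_s_192_195 (c : Nat) : Nat := @Bool.rec (fun _ => Nat) (Btab_192) (Btab_s_193_195 c) (Nat.ble 193 c)
noncomputable def Btab_s_190_195 (c : Nat) : Nat := @Bool.rec (fun _ => Nat) (Btab_s_190_192 c) (Btab_s_192_195 c) (Nat.ble 192 c)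
noncomputable def Btab_s_186_195 (c : Nat) : Nat := @Bool.rec (fun _ => Nat) (Btab_s_186_190 c) (Btab_s_190_195 c) (Nat.ble 190 c)
noncomputable def Btab_s_195_197 (c : Nat) : Nat := @Bool.rec (fun _ => Nat) (Btab_195) (Btab_196) (Nat.ble 196 c)
noncomputable def Btab_s_197_199 (c : Nat) : Nat := @Bool.rec (fun _ => Nat) (Btab_197) (Btab_198) (Nat.ble 198 c)
noncomputable def Btab_s_195_199 (c : Nat) : Nat := @Bool.rec (fun _ => Nat) (Btab_s_195_197 c) (Btab_s_197_199 c) (Nat.ble 197 c)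
noncomputable def Btab_s_199_201 (c : Nat) : Nat := @Bool.rec (fun _ => Nat) (Btab_199) (Btab_200) (Nat.ble 200 c)
noncomputable def Btab_s_202_204 (c : Nat) : Nat := @Bool.rec (fun _ => Nat) (Btab_202) (Btab_203) (Nat.ble 203 c)
noncomputable def Btab_s_201_204 (c : Nat) : Nat := @Bool.rec (fun _ => Nat) (Btab_201) (Btab_s_202_204 c) (Nat.ble 202 c)
noncomputable def Btab_s_199_204 (c : Nat) : Nat := @Bool.rec (fun _ => Nat) (Btab_s_199_201 c) (Btab_s_201_204 c) (Nat.ble 201 c)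
noncomputable def Btab_s_195_204 (c : Nat) : Nat := @Bool.rec (fun _ => Nat) (Btab_s_195_199 c) (Btab_s_199_204 c) (Nat.ble 199 c)
noncomputable def Btab_s_186_204 (c : Nat) : Nat := @Bool.rec (fun _ => Nat) (Btab_s_186_195 c) (Btab_s_195_204 c) (Nat.ble 195 c)
noncomputable def Btab_s_204_206 (c : Nat) : Nat := @Bool.rec (fun _ => Nat) (Btab_204) (Btab_205) (Nat.ble 205 c)
noncomputable def Btab_s_206_208 (c : Nat) : Nat := @Bool.rec (fun _ => Nat) (Btab_206) (Btab_207) (Nat.ble 207 c)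
noncomputable def Btab_s_204_208 (c : Nat) : Nat := @Bool.rec (fun _ => Nat) (Btab_s_204_206 c) (Btab_s_206_208 c) (Nat.ble 206 c)
noncomputable def Btab_s_208_210 (c : Nat) : Nat := @Bool.rec (fun _ => Nat) (Btab_208) (Btab_209) (Nat.ble 209 c)
noncomputable def Btab_s_211_213 (c : Nat) : Nat := @Bool.rec (fun _ => Nat) (Btab_211) (Btab_212) (Nat.ble 212 c)
noncomputable def Btab_s_210_213 (c : Nat) : Nat := @Bool.rec (fun _ => Nat) (Btab_210) (Btab_s_211_213 c) (Nat.ble 211 c)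
noncomputable def Btab_s_208_213 (c : Nat) : Nat := @Bool.rec (fun _ => Nat) (Btab_s_208_210 c) (Btab_s_210_213 c) (Nat.ble 210 c)
noncomputable def Btab_s_204_213 (c : Nat) : Nat := @Bool.rec (fun _ => Nat) (Btab_s_204_208 c) (Btab_s_208_213 c) (Nat.ble 208 c)
noncomputable def Btab_s_213_215 (c : Nat) : Nat := @Bool.rec (fun _ => Nat) (Btab_213) (Btab_214) (Nat.ble 214 c)
noncomputable def Btab_s_216_218 (c : Nat) : Nat := @Bool.rec (fun _ => Nat) (Btab_216) (Btab_217) (Nat.ble 217 c)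
noncomputable def Btab_s_215_218 (c : Nat) : Nat := @Bool.rec (fun _ => Nat) (Btab_215) (Btab_s_216_218 c) (Nat.ble 216 c)
noncomputable def Btab_s_213_218 (c : Nat) : Nat := @Bool.rec (fun _ => Nat) (Btab_s_213_215 c) (Btab_s_215_218 c) (Nat.ble 215 c)
noncomputable def Btab_s_218_220 (c : Nat) : Nat := @Bool.rec (fun _ => Nat) (Btab_218) (Btab_219) (Nat.ble 219 c)
noncomputable def Btab_s_221_223 (c : Nat) : Nat := @Bool.rec (fun _ => Nat) (Btab_221) (Btab_222) (Nat.ble 222 c)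
noncomputable def Btab_s_220_223 (c : Nat) : Nat := @Bool.rec (fun _ => Nat) (Btab_220) (Btab_s_221_223 c) (Nat.ble 221 c)
noncomputable def Btab_s_218_223 (c : Nat) : Nat := @Bool.rec (fun _ => Nat) (Btab_s_218_220 c) (Btab_s_220_223 c) (Nat.ble 220 c)
noncomputable def Btab_s_213_223 (c : Nat) : Nat := @Bool.rec (fun _ => Nat) (Btab_s_213_218 c) (Btab_s_218_223 c) (Nat.ble 218 c)
noncomputable def Btab_s_204_223 (c : Nat) : Nat := @Bool.rec (fun _ => Nat) (Btab_s_204_213 c) (Btab_s_213_223 c) (Nat.ble 213 c)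
noncomputable def Btab_s_186_223 (c : Nat) : Nat := @Bool.rec (fun _ => Nat) (Btab_s_186_204 c) (Btab_s_204_223 c) (Nat.ble 204 c)
noncomputable def Btab_s_149_223 (c : Nat) : Nat := @Bool.rec (fun _ => Nat) (Btab_s_149_186 c) (Btab_s_186_223 c) (Nat.ble 186 c)
noncomputable def Btab_s_223_225 (c : Nat) : Nat := @Bool.rec (fun _ => Nat) (Btab_223) (Btab_224) (Nat.ble 224 c)
noncomputable def Btab_s_225_227 (c : Nat) : Nat := @Bool.rec (fun _ => Nat) (Btab_225) (Btab_226) (Nat.ble 226 c)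
noncomputable def Btab_s_223_227 (c : Nat) : Nat := @Bool.rec (fun _ => Nat) (Btab_s_223_225 c) (Btab_s_225_227 c) (Nat.ble 225 c)
noncomputable def Btab_s_227_229 (c : Nat) : Nat := @Bool.rec (fun _ => Nat) (Btab_227) (Btab_228) (Nat.ble 228 c)
noncomputable def Btab_s_230_232 (c : Nat) : Nat := @Bool.rec (fun _ => Nat) (Btab_230) (Btab_231) (Nat.ble 231 c)
noncomputable def Btab_s_229_232 (c : Nat) : Nat := @Bool.rec (fun _ => Nat) (Btab_229) (Btab_s_230_232 c) (Nat.ble 230 c)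
noncomputable def Btab_s_227_232 (c : Nat) : Nat := @Bool.rec (fun _ => Nat) (Btab_s_227_229 c) (Btab_s_229_232 c) (Nat.ble 229 c)
noncomputable def Btab_s_223_232 (c : Nat) : Nat := @Bool.rec (fun _ => Nat) (Btab_s_223_227 c) (Btab_s_227_232 c) (Nat.ble 227 c)
noncomputable def Btab_s_232_234 (c : Nat) : Nat := @Bool.rec (fun _ => Nat) (Btab_232) (Btab_233) (Nat.ble 233 c)
noncomputable def Btab_s_234_236 (c : Nat) : Nat := @Bool.rec (fun _ => Nat) (Btab_234) (Btab_235) (Nat.ble 235 c)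
noncomputable def Btab_s_232_236 (c : Nat) : Nat := @Bool.rec (fun _ => Nat) (Btab_s_232_234 c) (Btab_s_234_236 c) (Nat.ble 234 c)
noncomputable def Btab_s_236_238 (c : Nat) : Nat := @Bool.rec (fun _ => Nat) (Btab_236) (Btab_237) (Nat.ble 237 c)
noncomputable def Btab_s_239_241 (c : Nat) : Nat := @Bool.rec (fun _ => Nat) (Btab_239) (Btab_240) (Nat.ble 240 c)
noncomputable def Btab_s_238_241 (c : Nat) : Nat := @Bool.rec (fun _ => Nat) (Btab_238) (Btab_s_239_241 c) (Nat.ble 239 c)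
noncomputable def Btab_s_236_241 (c : Nat) : Nat := @Bool.rec (fun _ => Nat) (Btab_s_236_238 c) (Btab_s_238_241 c) (Nat.ble 238 c)
noncomputable def Btab_s_232_241 (c : Nat) : Nat := @Bool.rec (fun _ => Nat) (Btab_s_232_236 c) (Btab_s_236_241 c) (Nat.ble 236 c)
noncomputable def Btab_s_223_241 (c : Nat) : Nat := @Bool.rec (fun _ => Nat) (Btab_s_223_232 c) (Btab_s_232_241 c) (Nat.ble 232 c)
noncomputable def Btab_s_241_243 (c : Nat) : Nat := @Bool.rec (fun _ => Nat) (Btab_241) (Btab_242) (Nat.ble 242 c)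
noncomputable def Btab_s_243_245 (c : Nat) : Nat := @Bool.rec (fun _ => Nat) (Btab_243) (Btab_244) (Nat.ble 244 c)
noncomputable def Btab_s_241_245 (c : Nat) : Nat := @Bool.rec (fun _ => Nat) (Btab_s_241_243 c) (Btab_s_243_245 c) (Nat.ble 243 c)
noncomputable def Btab_s_245_247 (c : Nat) : Nat := @Bool.rec (fun _ => Nat) (Btab_245) (Btab_246) (Nat.ble 246 c)
noncomputable def Btab_s_248_250 (c : Nat) : Nat := @Bool.rec (fun _ => Nat) (Btab_248) (Btab_249) (Nat.ble 249 c)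
noncomputable def Btab_s_247_250 (c : Nat) : Nat := @Bool.rec (fun _ => Nat) (Btab_247) (Btab_s_248_250 c) (Nat.ble 248 c)
noncomputable def Btab_s_245_250 (c : Nat) : Nat := @Bool.rec (fun _ => Nat) (Btab_s_245_247 c) (Btab_s_247_250 c) (Nat.ble 247 c)
noncomputable def Btab_s_241_250 (c : Nat) : Nat := @Bool.rec (fun _ => Nat) (Btab_s_241_245 c) (Btab_s_245_250 c) (Nat.ble 245 c)
noncomputable def Btab_s_250_252 (c : Nat) : Nat := @Bool.rec (fun _ => Nat) (Btab_250) (Btab_251) (Nat.ble 251 c)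
noncomputable def Btab_s_253_255 (c : Nat) : Nat := @Bool.rec (fun _ => Nat) (Btab_253) (Btab_254) (Nat.ble 254 c)
noncomputable def Btab_s_252_255 (c : Nat) : Nat := @Bool.rec (fun _ => Nat) (Btab_252) (Btab_s_253_255 c) (Nat.ble 253 c)
noncomputable def Btab_s_250_255 (c : Nat) : Nat := @Bool.rec (fun _ => Nat) (Btab_s_250_252 c) (Btab_s_252_255 c) (Nat.ble 252 c)
noncomputable def Btab_s_255_257 (c : Nat) : Nat := @Bool.rec (fun _ => Nat) (Btab_255) (Btab_256) (Nat.ble 256 c)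
noncomputable def Btab_s_258_260 (c : Nat) : Nat := @Bool.rec (fun _ => Nat) (Btab_258) (Btab_259) (Nat.ble 259 c)
noncomputable def Btab_s_257_260 (c : Nat) : Nat := @Bool.rec (fun _ => Nat) (Btab_257) (Btab_s_258_260 c) (Nat.ble 258 c)
noncomputable def Btab_s_255_260 (c : Nat) : Nat := @Bool.rec (fun _ => Nat) (Btab_s_255_257 c) (Btab_s_257_260 c) (Nat.ble 257 c)
noncomputable def Btab_s_250_260 (c : Nat) : Nat := @Bool.rec (fun _ => Nat) (Btab_s_250_255 c) (Btab_s_255_260 c) (Nat.ble 255 c)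
noncomputable def Btab_s_241_260 (c : Nat) : Nat := @Bool.rec (fun _ => Nat) (Btab_s_241_250 c) (Btab_s_250_260 c) (Nat.ble 250 c)
noncomputable def Btab_s_223_260 (c : Nat) : Nat := @Bool.rec (fun _ => Nat) (Btab_s_223_241 c) (Btab_s_241_260 c) (Nat.ble 241 c)
noncomputable def Btab_s_260_262 (c : Nat) : Nat := @Bool.rec (fun _ => Nat) (Btab_260) (Btab_261) (Nat.ble 261 c)
noncomputable def Btab_s_262_264 (c : Nat) : Nat := @Bool.rec (fun _ => Nat) (Btab_262) (Btab_263) (Nat.ble 263 c)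
noncomputable def Btab_s_260_264 (c : Nat) : Nat := @Bool.rec (fun _ => Nat) (Btab_s_260_262 c) (Btab_s_262_264 c) (Nat.ble 262 c)
noncomputable def Btab_s_264_266 (c : Nat) : Nat := @Bool.rec (fun _ => Nat) (Btab_264) (Btab_265) (Nat.ble 265 c)
noncomputable def Btab_s_267_269 (c : Nat) : Nat := @Bool.rec (fun _ => Nat) (Btab_267) (Btab_268) (Nat.ble 268 c)
noncomputable def Btab_s_266_269 (c : Nat) : Nat := @Bool.rec (fun _ => Nat) (Btab_266) (Btab_s_267_269 c) (Nat.ble 267 c)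
noncomputable def Btab_s_264_269 (c : Nat) : Nat := @Bool.rec (fun _ => Nat) (Btab_s_264_266 c) (Btab_s_266_269 c) (Nat.ble 266 c)
noncomputable def Btab_s_260_269 (c : Nat) : Nat := @Bool.rec (fun _ => Nat) (Btab_s_260_264 c) (Btab_s_264_269 c) (Nat.ble 264 c)
noncomputable def Btab_s_269_271 (c : Nat) : Nat := @Bool.rec (fun _ => Nat) (Btab_269) (Btab_270) (Nat.ble 270 c)
noncomputable def Btab_s_272_274 (c : Nat) : Nat := @Bool.rec (fun _ => Nat) (Btab_272) (Btab_273) (Nat.ble 273 c)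
noncomputable def Btab_s_271_274 (c : Nat) : Nat := @Bool.rec (fun _ => Nat) (Btab_271) (Btab_s_272_274 c) (Nat.ble 272 c)
noncomputable def Btab_s_269_274 (c : Nat) : Nat := @Bool.rec (fun _ => Nat) (Btab_s_269_271 c) (Btab_s_271_274 c) (Nat.ble 271 c)
noncomputable def Btab_s_274_276 (c : Nat) : Nat := @Bool.rec (fun _ => Nat) (Btab_274) (Btab_275) (Nat.ble 275 c)
noncomputable def Btab_s_277_279 (c : Nat) : Nat := @Bool.rec (fun _ => Nat) (Btab_277) (Btab_278) (Nat.ble 278 c)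
noncomputable def Btab_s_276_279 (c : Nat) : Nat := @Bool.rec (fun _ => Nat) (Btab_276) (Btab_s_277_279 c) (Nat.ble 277 c)
noncomputable def Btab_s_274_279 (c : Nat) : Nat := @Bool.rec (fun _ => Nat) (Btab_s_274_276 c) (Btab_s_276_279 c) (Nat.ble 276 c)
noncomputable def Btab_s_269_279 (c : Nat) : Nat := @Bool.rec (fun _ => Nat) (Btab_s_269_274 c) (Btab_s_274_279 c) (Nat.ble 274 c)
noncomputable def Btab_s_260_279 (c : Nat) : Nat := @Bool.rec (fun _ => Nat) (Btab_s_260_269 c) (Btab_s_269_279 c) (Nat.ble 269 c)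
noncomputable def Btab_s_279_281 (c : Nat) : Nat := @Bool.rec (fun _ => Nat) (Btab_279) (Btab_280) (Nat.ble 280 c)
noncomputable def Btab_s_281_283 (c : Nat) : Nat := @Bool.rec (fun _ => Nat) (Btab_281) (Btab_282) (Nat.ble 282 c)
noncomputable def Btab_s_279_283 (c : Nat) : Nat := @Bool.rec (fun _ => Nat) (Btab_s_279_281 c) (Btab_s_281_283 c) (Nat.ble 281 c)
noncomputable def Btab_s_283_285 (c : Nat) : Nat := @Bool.rec (fun _ => Nat) (Btab_283) (Btab_284) (Nat.ble 284 c)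
noncomputable def Btab_s_286_288 (c : Nat) : Nat := @Bool.rec (fun _ => Nat) (Btab_286) (Btab_287) (Nat.ble 287 c)
noncomputable def Btab_s_285_288 (c : Nat) : Nat := @Bool.rec (fun _ => Nat) (Btab_285) (Btab_s_286_288 c) (Nat.ble 286 c)
noncomputable def Btab_s_283_288 (c : Nat) : Nat := @Bool.rec (fun _ => Nat) (Btab_s_283_285 c) (Btab_s_285_288 c) (Nat.ble 285 c)
noncomputable def Btab_s_279_288 (c : Nat) : Nat := @Bool.rec (fun _ => Nat) (Btab_s_279_283 c) (Btab_s_283_288 c) (Nat.ble 283 c)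
noncomputable def Btab_s_288_290 (c : Nat) : Nat := @Bool.rec (fun _ => Nat) (Btab_288) (Btab_289) (Nat.ble 289 c)
noncomputable def Btab_s_291_293 (c : Nat) : Nat := @Bool.rec (fun _ => Nat) (Btab_291) (Btab_292) (Nat.ble 292 c)
noncomputable def Btab_s_290_293 (c : Nat) : Nat := @Bool.rec (fun _ => Nat) (Btab_290) (Btab_s_291_293 c) (Nat.ble 291 c)
noncomputable def Btab_s_288_293 (c : Nat) : Nat := @Bool.rec (fun _ => Nat) (Btab_s_288_290 c) (Btab_s_290_293 c) (Nat.ble 290 c)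
noncomputable def Btab_s_293_295 (c : Nat) : Nat := @Bool.rec (fun _ => Nat) (Btab_293) (Btab_294) (Nat.ble 294 c)
noncomputable def Btab_s_296_298 (c : Nat) : Nat := @Bool.rec (fun _ => Nat) (Btab_296) (Btab_297) (Nat.ble 297 c)
noncomputable def Btab_s_295_298 (c : Nat) : Nat := @Bool.rec (fun _ => Nat) (Btab_295) (Btab_s_296_298 c) (Nat.ble 296 c)
noncomputable def Btab_s_293_298 (c : Nat) : Nat := @Bool.rec (fun _ => Nat) (Btab_s_293_295 c) (Btab_s_295_298 c) (Nat.ble 295 c)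
noncomputable def Btab_s_288_298 (c : Nat) : Nat := @Bool.rec (fun _ => Nat) (Btab_s_288_293 c) (Btab_s_293_298 c) (Nat.ble 293 c)
noncomputable def Btab_s_279_298 (c : Nat) : Nat := @Bool.rec (fun _ => Nat) (Btab_s_279_288 c) (Btab_s_288_298 c) (Nat.ble 288 c)
noncomputable def Btab_s_260_298 (c : Nat) : Nat := @Bool.rec (fun _ => Nat) (Btab_s_260_279 c) (Btab_s_279_298 c) (Nat.ble 279 c)
noncomputable def Btab_s_223_298 (c : Nat) : Nat := @Bool.rec (fun _ => Nat) (Btab_s_223_260 c) (Btab_s_260_298 c) (Nat.ble 260 c)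
noncomputable def Btab_s_149_298 (c : Nat) : Nat := @Bool.rec (fun _ => Nat) (Btab_s_149_223 c) (Btab_s_223_298 c) (Nat.ble 223 c)
noncomputable def Btab_s_0_298 (c : Nat) : Nat := @Bool.rec (fun _ => Nat) (Btab_s_0_149 c) (Btab_s_149_298 c) (Nat.ble 149 c)
noncomputable def Btab_s_298_300 (c : Nat) : Nat := @Bool.rec (fun _ => Nat) (Btab_298) (Btab_299) (Nat.ble 299 c)
noncomputable def Btab_s_300_302 (c : Nat) : Nat := @Bool.rec (fun _ => Nat) (Btab_300) (Btab_301) (Nat.ble 301 c)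
noncomputable def Btab_s_298_302 (c : Nat) : Nat := @Bool.rec (fun _ => Nat) (Btab_s_298_300 c) (Btab_s_300_302 c) (Nat.ble 300 c)
noncomputable def Btab_s_302_304 (c : Nat) : Nat := @Bool.rec (fun _ => Nat) (Btab_302) (Btab_303) (Nat.ble 303 c)
noncomputable def Btab_s_305_307 (c : Nat) : Nat := @Bool.rec (fun _ => Nat) (Btab_305) (Btab_306) (Nat.ble 306 c)
noncomputable def Btab_s_304_307 (c : Nat) : Nat := @Bool.rec (fun _ => Nat) (Btab_304) (Btab_s_305_307 c) (Nat.ble 305 c)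
noncomputable def Btab_s_302_307 (c : Nat) : Nat := @Bool.rec (fun _ => Nat) (Btab_s_302_304 c) (Btab_s_304_307 c) (Nat.ble 304 c)
noncomputable def Btab_s_298_307 (c : Nat) : Nat := @Bool.rec (fun _ => Nat) (Btab_s_298_302 c) (Btab_s_302_307 c) (Nat.ble 302 c)
noncomputable def Btab_s_307_309 (c : Nat) : Nat := @Bool.rec (fun _ => Nat) (Btab_307) (Btab_308) (Nat.ble 308 c)
noncomputable def Btab_s_309_311 (c : Nat) : Nat := @Bool.rec (fun _ => Nat) (Btab_309) (Btab_310) (Nat.ble 310 c)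
noncomputable def Btab_s_307_311 (c : Nat) : Nat := @Bool.rec (fun _ => Nat) (Btab_s_307_309 c) (Btab_s_309_311 c) (Nat.ble 309 c)
noncomputable def Btab_s_311_313 (c : Nat) : Nat := @Bool.rec (fun _ => Nat) (Btab_311) (Btab_312) (Nat.ble 312 c)
noncomputable def Btab_s_314_316 (c : Nat) : Nat := @Bool.rec (fun _ => Nat) (Btab_314) (Btab_315) (Nat.ble 315 c)
noncomputable def Btab_s_313_316 (c : Nat) : Nat := @Bool.rec (fun _ => Nat) (Btab_313) (Btab_s_314_316 c) (Nat.ble 314 c)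
noncomputable def Btab_s_311_316 (c : Nat) : Nat := @Bool.rec (fun _ => Nat) (Btab_s_311_313 c) (Btab_s_313_316 c) (Nat.ble 313 c)
noncomputable def Btab_s_307_316 (c : Nat) : Nat := @Bool.rec (fun _ => Nat) (Btab_s_307_311 c) (Btab_s_311_316 c) (Nat.ble 311 c)
noncomputable def Btab_s_298_316 (c : Nat) : Nat := @Bool.rec (fun _ => Nat) (Btab_s_298_307 c) (Btab_s_307_316 c) (Nat.ble 307 c)
noncomputable def Btab_s_316_318 (c : Nat) : Nat := @Bool.rec (fun _ => Nat) (Btab_316) (Btab_317) (Nat.ble 317 c)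
noncomputable def Btab_s_318_320 (c : Nat) : Nat := @Bool.rec (fun _ => Nat) (Btab_318) (Btab_319) (Nat.ble 319 c)
noncomputable def Btab_s_316_320 (c : Nat) : Nat := @Bool.rec (fun _ => Nat) (Btab_s_316_318 c) (Btab_s_318_320 c) (Nat.ble 318 c)
noncomputable def Btab_s_320_322 (c : Nat) : Nat := @Bool.rec (fun _ => Nat) (Btab_320) (Btab_321) (Nat.ble 321 c)
noncomputable def Btab_s_323_325 (c : Nat) : Nat := @Bool.rec (fun _ => Nat) (Btab_323) (Btab_324) (Nat.ble 324 c)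
noncomputable def Btab_s_322_325 (c : Nat) : Nat := @Bool.rec (fun _ => Nat) (Btab_322) (Btab_s_323_325 c) (Nat.ble 323 c)
noncomputable def Btab_s_320_325 (c : Nat) : Nat := @Bool.rec (fun _ => Nat) (Btab_s_320_322 c) (Btab_s_322_325 c) (Nat.ble 322 c)
noncomputable def Btab_s_316_325 (c : Nat) : Nat := @Bool.rec (fun _ => Nat) (Btab_s_316_320 c) (Btab_s_320_325 c) (Nat.ble 320 c)
noncomputable def Btab_s_325_327 (c : Nat) : Nat := @Bool.rec (fun _ => Nat) (Btab_325) (Btab_326) (Nat.ble 326 c)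
noncomputable def Btab_s_328_330 (c : Nat) : Nat := @Bool.rec (fun _ => Nat) (Btab_328) (Btab_329) (Nat.ble 329 c)
noncomputable def Btab_s_327_330 (c : Nat) : Nat := @Bool.rec (fun _ => Nat) (Btab_327) (Btab_s_328_330 c) (Nat.ble 328 c)
noncomputable def Btab_s_325_330 (c : Nat) : Nat := @Bool.rec (fun _ => Nat) (Btab_s_325_327 c) (Btab_s_327_330 c) (Nat.ble 327 c)
noncomputable def Btab_s_330_332 (c : Nat) : Nat := @Bool.rec (fun _ => Nat) (Btab_330) (Btab_331) (Nat.ble 331 c)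
noncomputable def Btab_s_333_335 (c : Nat) : Nat := @Bool.rec (fun _ => Nat) (Btab_333) (Btab_334) (Nat.ble 334 c)
noncomputable def Btab_s_332_335 (c : Nat) : Nat := @Bool.rec (fun _ => Nat) (Btab_332) (Btab_s_333_335 c) (Nat.ble 333 c)
noncomputable def Btab_s_330_335 (c : Nat) : Nat := @Bool.rec (fun _ => Nat) (Btab_s_330_332 c) (Btab_s_332_335 c) (Nat.ble 332 c)
noncomputable def Btab_s_325_335 (c : Nat) : Nat := @Bool.rec (fun _ => Nat) (Btab_s_325_330 c) (Btab_s_330_335 c) (Nat.ble 330 c)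
noncomputable def Btab_s_316_335 (c : Nat) : Nat := @Bool.rec (fun _ => Nat) (Btab_s_316_325 c) (Btab_s_325_335 c) (Nat.ble 325 c)
noncomputable def Btab_s_298_335 (c : Nat) : Nat := @Bool.rec (fun _ => Nat) (Btab_s_298_316 c) (Btab_s_316_335 c) (Nat.ble 316 c)
noncomputable def Btab_s_335_337 (c : Nat) : Nat := @Bool.rec (fun _ => Nat) (Btab_335) (Btab_336) (Nat.ble 336 c)
noncomputable def Btab_s_337_339 (c : Nat) : Nat := @Bool.rec (fun _ => Nat) (Btab_337) (Btab_338) (Nat.ble 338 c)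
noncomputable def Btab_s_335_339 (c : Nat) : Nat := @Bool.rec (fun _ => Nat) (Btab_s_335_337 c) (Btab_s_337_339 c) (Nat.ble 337 c)
noncomputable def Btab_s_339_341 (c : Nat) : Nat := @Bool.rec (fun _ => Nat) (Btab_339) (Btab_340) (Nat.ble 340 c)
noncomputable def Btab_s_342_344 (c : Nat) : Nat := @Bool.rec (fun _ => Nat) (Btab_342) (Btab_343) (Nat.ble 343 c)
noncomputable def Btab_s_341_344 (c : Nat) : Nat := @Bool.rec (fun _ => Nat) (Btab_341) (Btab_s_342_344 c) (Nat.ble 342 c)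
noncomputable def Btab_s_339_344 (c : Nat) : Nat := @Bool.rec (fun _ => Nat) (Btab_s_339_341 c) (Btab_s_341_344 c) (Nat.ble 341 c)
noncomputable def Btab_s_335_344 (c : Nat) : Nat := @Bool.rec (fun _ => Nat) (Btab_s_335_339 c) (Btab_s_339_344 c) (Nat.ble 339 c)
noncomputable def Btab_s_344_346 (c : Nat) : Nat := @Bool.rec (fun _ => Nat) (Btab_344) (Btab_345) (Nat.ble 345 c)
noncomputable def Btab_s_346_348 (c : Nat) : Nat := @Bool.rec (fun _ => Nat) (Btab_346) (Btab_347) (Nat.ble 347 c)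
noncomputable def Btab_s_344_348 (c : Nat) : Nat := @Bool.rec (fun _ => Nat) (Btab_s_344_346 c) (Btab_s_346_348 c) (Nat.ble 346 c)
noncomputable def Btab_s_348_350 (c : Nat) : Nat := @Bool.rec (fun _ => Nat) (Btab_348) (Btab_349) (Nat.ble 349 c)
noncomputable def Btab_s_351_353 (c : Nat) : Nat := @Bool.rec (fun _ => Nat) (Btab_351) (Btab_352) (Nat.ble 352 c)
noncomputable def Btab_s_350_353 (c : Nat) : Nat := @Bool.rec (fun _ => Nat) (Btab_350) (Btab_s_351_353 c) (Nat.ble 351 c)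
noncomputable def Btab_s_348_353 (c : Nat) : Nat := @Bool.rec (fun _ => Nat) (Btab_s_348_350 c) (Btab_s_350_353 c) (Nat.ble 350 c)
noncomputable def Btab_s_344_353 (c : Nat) : Nat := @Bool.rec (fun _ => Nat) (Btab_s_344_348 c) (Btab_s_348_353 c) (Nat.ble 348 c)
noncomputable def Btab_s_335_353 (c : Nat) : Nat := @Bool.rec (fun _ => Nat) (Btab_s_335_344 c) (Btab_s_344_353 c) (Nat.ble 344 c)
noncomputable def Btab_s_353_355 (c : Nat) : Nat := @Bool.rec (fun _ => Nat) (Btab_353) (Btab_354) (Nat.ble 354 c)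
noncomputable def Btab_s_355_357 (c : Nat) : Nat := @Bool.rec (fun _ => Nat) (Btab_355) (Btab_356) (Nat.ble 356 c)
noncomputable def Btab_s_353_357 (c : Nat) : Nat := @Bool.rec (fun _ => Nat) (Btab_s_353_355 c) (Btab_s_355_357 c) (Nat.ble 355 c)
noncomputable def Btab_s_357_359 (c : Nat) : Nat := @Bool.rec (fun _ => Nat) (Btab_357) (Btab_358) (Nat.ble 358 c)
noncomputable def Btab_s_360_362 (c : Nat) : Nat := @Bool.rec (fun _ => Nat) (Btab_360) (Btab_361) (Nat.ble 361 c)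
noncomputable def Btab_s_359_362 (c : Nat) : Nat := @Bool.rec (fun _ => Nat) (Btab_359) (Btab_s_360_362 c) (Nat.ble 360 c)
noncomputable def Btab_s_357_362 (c : Nat) : Nat := @Bool.rec (fun _ => Nat) (Btab_s_357_359 c) (Btab_s_359_362 c) (Nat.ble 359 c)
noncomputable def Btab_s_353_362 (c : Nat) : Nat := @Bool.rec (fun _ => Nat) (Btab_s_353_357 c) (Btab_s_357_362 c) (Nat.ble 357 c)
noncomputable def Btab_s_362_364 (c : Nat) : Nat := @Bool.rec (fun _ => Nat) (Btab_362) (Btab_363) (Nat.ble 363 c)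
noncomputable def Btab_s_365_367 (c : Nat) : Nat := @Bool.rec (fun _ => Nat) (Btab_365) (Btab_366) (Nat.ble 366 c)
noncomputable def Btab_s_364_367 (c : Nat) : Nat := @Bool.rec (fun _ => Nat) (Btab_364) (Btab_s_365_367 c) (Nat.ble 365 c)
noncomputable def Btab_s_362_367 (c : Nat) : Nat := @Bool.rec (fun _ => Nat) (Btab_s_362_364 c) (Btab_s_364_367 c) (Nat.ble 364 c)
noncomputable def Btab_s_367_369 (c : Nat) : Nat := @Bool.rec (fun _ => Nat) (Btab_367) (Btab_368) (Nat.ble 368 c)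
noncomputable def Btab_s_370_372 (c : Nat) : Nat := @Bool.rec (fun _ => Nat) (Btab_370) (Btab_371) (Nat.ble 371 c)
noncomputable def Btab_s_369_372 (c : Nat) : Nat := @Bool.rec (fun _ => Nat) (Btab_369) (Btab_s_370_372 c) (Nat.ble 370 c)
noncomputable def Btab_s_367_372 (c : Nat) : Nat := @Bool.rec (fun _ => Nat) (Btab_s_367_369 c) (Btab_s_369_372 c) (Nat.ble 369 c)
noncomputable def Btab_s_362_372 (c : Nat) : Nat := @Bool.rec (fun _ => Nat) (Btab_s_362_367 c) (Btab_s_367_372 c) (Nat.ble 367 c)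
noncomputable def Btab_s_353_372 (c : Nat) : Nat := @Bool.rec (fun _ => Nat) (Btab_s_353_362 c) (Btab_s_362_372 c) (Nat.ble 362 c)
noncomputable def Btab_s_335_372 (c : Nat) : Nat := @Bool.rec (fun _ => Nat) (Btab_s_335_353 c) (Btab_s_353_372 c) (Nat.ble 353 c)
noncomputable def Btab_s_298_372 (c : Nat) : Nat := @Bool.rec (fun _ => Nat) (Btab_s_298_335 c) (Btab_s_335_372 c) (Nat.ble 335 c)
noncomputable def Btab_s_372_374 (c : Nat) : Nat := @Bool.rec (fun _ => Nat) (Btab_372) (Btab_373) (Nat.ble 373 c)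
noncomputable def Btab_s_374_376 (c : Nat) : Nat := @Bool.rec (fun _ => Nat) (Btab_374) (Btab_375) (Nat.ble 375 c)
noncomputable def Btab_s_372_376 (c : Nat) : Nat := @Bool.rec (fun _ => Nat) (Btab_s_372_374 c) (Btab_s_374_376 c) (Nat.ble 374 c)
noncomputable def Btab_s_376_378 (c : Nat) : Nat := @Bool.rec (fun _ => Nat) (Btab_376) (Btab_377) (Nat.ble 377 c)
noncomputable def Btab_s_379_381 (c : Nat) : Nat := @Bool.rec (fun _ => Nat) (Btab_379) (Btab_380) (Nat.ble 380 c)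
noncomputable def Btab_s_378_381 (c : Nat) : Nat := @Bool.rec (fun _ => Nat) (Btab_378) (Btab_s_379_381 c) (Nat.ble 379 c)
noncomputable def Btab_s_376_381 (c : Nat) : Nat := @Bool.rec (fun _ => Nat) (Btab_s_376_378 c) (Btab_s_378_381 c) (Nat.ble 378 c)
noncomputable def Btab_s_372_381 (c : Nat) : Nat := @Bool.rec (fun _ => Nat) (Btab_s_372_376 c) (Btab_s_376_381 c) (Nat.ble 376 c)
noncomputable def Btab_s_381_383 (c : Nat) : Nat := @Bool.rec (fun _ => Nat) (Btab_381) (Btab_382) (Nat.ble 382 c)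
noncomputable def Btab_s_383_385 (c : Nat) : Nat := @Bool.rec (fun _ => Nat) (Btab_383) (Btab_384) (Nat.ble 384 c)
noncomputable def Btab_s_381_385 (c : Nat) : Nat := @Bool.rec (fun _ => Nat) (Btab_s_381_383 c) (Btab_s_383_385 c) (Nat.ble 383 c)
noncomputable def Btab_s_385_387 (c : Nat) : Nat := @Bool.rec (fun _ => Nat) (Btab_385) (Btab_386) (Nat.ble 386 c)
noncomputable def Btab_s_388_390 (c : Nat) : Nat := @Bool.rec (fun _ => Nat) (Btab_388) (Btab_389) (Nat.ble 389 c)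
noncomputable def Btab_s_387_390 (c : Nat) : Nat := @Bool.rec (fun _ => Nat) (Btab_387) (Btab_s_388_390 c) (Nat.ble 388 c)
noncomputable def Btab_s_385_390 (c : Nat) : Nat := @Bool.rec (fun _ => Nat) (Btab_s_385_387 c) (Btab_s_387_390 c) (Nat.ble 387 c)
noncomputable def Btab_s_381_390 (c : Nat) : Nat := @Bool.rec (fun _ => Nat) (Btab_s_381_385 c) (Btab_s_385_390 c) (Nat.ble 385 c)
noncomputable def Btab_s_372_390 (c : Nat) : Nat := @Bool.rec (fun _ => Nat) (Btab_s_372_381 c) (Btab_s_381_390 c) (Nat.ble 381 c)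
noncomputable def Btab_s_390_392 (c : Nat) : Nat := @Bool.rec (fun _ => Nat) (Btab_390) (Btab_391) (Nat.ble 391 c)
noncomputable def Btab_s_392_394 (c : Nat) : Nat := @Bool.rec (fun _ => Nat) (Btab_392) (Btab_393) (Nat.ble 393 c)
noncomputable def Btab_s_390_394 (c : Nat) : Nat := @Bool.rec (fun _ => Nat) (Btab_s_390_392 c) (Btab_s_392_394 c) (Nat.ble 392 c)
noncomputable def Btab_s_394_396 (c : Nat) : Nat := @Bool.rec (fun _ => Nat) (Btab_394) (Btab_395) (Nat.ble 395 c)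
noncomputable def Btab_s_397_399 (c : Nat) : Nat := @Bool.rec (fun _ => Nat) (Btab_397) (Btab_398) (Nat.ble 398 c)
noncomputable def Btab_s_396_399 (c : Nat) : Nat := @Bool.rec (fun _ => Nat) (Btab_396) (Btab_s_397_399 c) (Nat.ble 397 c)
noncomputable def Btab_s_394_399 (c : Nat) : Nat := @Bool.rec (fun _ => Nat) (Btab_s_394_396 c) (Btab_s_396_399 c) (Nat.ble 396 c)
noncomputable def Btab_s_390_399 (c : Nat) : Nat := @Bool.rec (fun _ => Nat) (Btab_s_390_394 c) (Btab_s_394_399 c) (Nat.ble 394 c)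
noncomputable def Btab_s_399_401 (c : Nat) : Nat := @Bool.rec (fun _ => Nat) (Btab_399) (Btab_400) (Nat.ble 400 c)
noncomputable def Btab_s_402_404 (c : Nat) : Nat := @Bool.rec (fun _ => Nat) (Btab_402) (Btab_403) (Nat.ble 403 c)
noncomputable def Btab_s_401_404 (c : Nat) : Nat := @Bool.rec (fun _ => Nat) (Btab_401) (Btab_s_402_404 c) (Nat.ble 402 c)
noncomputable def Btab_s_399_404 (c : Nat) : Nat := @Bool.rec (fun _ => Nat) (Btab_s_399_401 c) (Btab_s_401_404 c) (Nat.ble 401 c)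
noncomputable def Btab_s_404_406 (c : Nat) : Nat := @Bool.rec (fun _ => Nat) (Btab_404) (Btab_405) (Nat.ble 405 c)
noncomputable def Btab_s_407_409 (c : Nat) : Nat := @Bool.rec (fun _ => Nat) (Btab_407) (Btab_408) (Nat.ble 408 c)
noncomputable def Btab_s_406_409 (c : Nat) : Nat := @Bool.rec (fun _ => Nat) (Btab_406) (Btab_s_407_409 c) (Nat.ble 407 c)
noncomputable def Btab_s_404_409 (c : Nat) : Nat := @Bool.rec (fun _ => Nat) (Btab_s_404_406 c) (Btab_s_406_409 c) (Nat.ble 406 c)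
noncomputable def Btab_s_399_409 (c : Nat) : Nat := @Bool.rec (fun _ => Nat) (Btab_s_399_404 c) (Btab_s_404_409 c) (Nat.ble 404 c)
noncomputable def Btab_s_390_409 (c : Nat) : Nat := @Bool.rec (fun _ => Nat) (Btab_s_390_399 c) (Btab_s_399_409 c) (Nat.ble 399 c)
noncomputable def Btab_s_372_409 (c : Nat) : Nat := @Bool.rec (fun _ => Nat) (Btab_s_372_390 c) (Btab_s_390_409 c) (Nat.ble 390 c)
noncomputable def Btab_s_409_411 (c : Nat) : Nat := @Bool.rec (fun _ => Nat) (Btab_409) (Btab_410) (Nat.ble 410 c)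
noncomputable def Btab_s_411_413 (c : Nat) : Nat := @Bool.rec (fun _ => Nat) (Btab_411) (Btab_412) (Nat.ble 412 c)
noncomputable def Btab_s_409_413 (c : Nat) : Nat := @Bool.rec (fun _ => Nat) (Btab_s_409_411 c) (Btab_s_411_413 c) (Nat.ble 411 c)
noncomputable def Btab_s_413_415 (c : Nat) : Nat := @Bool.rec (fun _ => Nat) (Btab_413) (Btab_414) (Nat.ble 414 c)
noncomputable def Btab_s_416_418 (c : Nat) : Nat := @Bool.rec (fun _ => Nat) (Btab_416) (Btab_417) (Nat.ble 417 c)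
noncomputable def Btab_s_415_418 (c : Nat) : Nat := @Bool.rec (fun _ => Nat) (Btab_415) (Btab_s_416_418 c) (Nat.ble 416 c)
noncomputable def Btab_s_413_418 (c : Nat) : Nat := @Bool.rec (fun _ => Nat) (Btab_s_413_415 c) (Btab_s_415_418 c) (Nat.ble 415 c)
noncomputable def Btab_s_409_418 (c : Nat) : Nat := @Bool.rec (fun _ => Nat) (Btab_s_409_413 c) (Btab_s_413_418 c) (Nat.ble 413 c)
noncomputable def Btab_s_418_420 (c : Nat) : Nat := @Bool.rec (fun _ => Nat) (Btab_418) (Btab_419) (Nat.ble 419 c)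
noncomputable def Btab_s_421_423 (c : Nat) : Nat := @Bool.rec (fun _ => Nat) (Btab_421) (Btab_422) (Nat.ble 422 c)
noncomputable def Btab_s_420_423 (c : Nat) : Nat := @Bool.rec (fun _ => Nat) (Btab_420) (Btab_s_421_423 c) (Nat.ble 421 c)
noncomputable def Btab_s_418_423 (c : Nat) : Nat := @Bool.rec (fun _ => Nat) (Btab_s_418_420 c) (Btab_s_420_423 c) (Nat.ble 420 c)
noncomputable def Btab_s_423_425 (c : Nat) : Nat := @Bool.rec (fun _ => Nat) (Btab_423) (Btab_424) (Nat.ble 424 c)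
noncomputable def Btab_s_426_428 (c : Nat) : Nat := @Bool.rec (fun _ => Nat) (Btab_426) (Btab_427) (Nat.ble 427 c)
noncomputable def Btab_s_425_428 (c : Nat) : Nat := @Bool.rec (fun _ => Nat) (Btab_425) (Btab_s_426_428 c) (Nat.ble 426 c)
noncomputable def Btab_s_423_428 (c : Nat) : Nat := @Bool.rec (fun _ => Nat) (Btab_s_423_425 c) (Btab_s_425_428 c) (Nat.ble 425 c)
noncomputable def Btab_s_418_428 (c : Nat) : Nat := @Bool.rec (fun _ => Nat) (Btab_s_418_423 c) (Btab_s_423_428 c) (Nat.ble 423 c)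
noncomputable def Btab_s_409_428 (c : Nat) : Nat := @Bool.rec (fun _ => Nat) (Btab_s_409_418 c) (Btab_s_418_428 c) (Nat.ble 418 c)
noncomputable def Btab_s_428_430 (c : Nat) : Nat := @Bool.rec (fun _ => Nat) (Btab_428) (Btab_429) (Nat.ble 429 c)
noncomputable def Btab_s_430_432 (c : Nat) : Nat := @Bool.rec (fun _ => Nat) (Btab_430) (Btab_431) (Nat.ble 431 c)
noncomputable def Btab_s_428_432 (c : Nat) : Nat := @Bool.rec (fun _ => Nat) (Btab_s_428_430 c) (Btab_s_430_432 c) (Nat.ble 430 c)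
noncomputable def Btab_s_432_434 (c : Nat) : Nat := @Bool.rec (fun _ => Nat) (Btab_432) (Btab_433) (Nat.ble 433 c)
noncomputable def Btab_s_435_437 (c : Nat) : Nat := @Bool.rec (fun _ => Nat) (Btab_435) (Btab_436) (Nat.ble 436 c)
noncomputable def Btab_s_434_437 (c : Nat) : Nat := @Bool.rec (fun _ => Nat) (Btab_434) (Btab_s_435_437 c) (Nat.ble 435 c)
noncomputable def Btab_s_432_437 (c : Nat) : Nat := @Bool.rec (fun _ => Nat) (Btab_s_432_434 c) (Btab_s_434_437 c) (Nat.ble 434 c)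
noncomputable def Btab_s_428_437 (c : Nat) : Nat := @Bool.rec (fun _ => Nat) (Btab_s_428_432 c) (Btab_s_432_437 c) (Nat.ble 432 c)
noncomputable def Btab_s_437_439 (c : Nat) : Nat := @Bool.rec (fun _ => Nat) (Btab_437) (Btab_438) (Nat.ble 438 c)
noncomputable def Btab_s_440_442 (c : Nat) : Nat := @Bool.rec (fun _ => Nat) (Btab_440) (Btab_441) (Nat.ble 441 c)
noncomputable def Btab_s_439_442 (c : Nat) : Nat := @Bool.rec (fun _ => Nat) (Btab_439) (Btab_s_440_442 c) (Nat.ble 440 c)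
noncomputable def Btab_s_437_442 (c : Nat) : Nat := @Bool.rec (fun _ => Nat) (Btab_s_437_439 c) (Btab_s_439_442 c) (Nat.ble 439 c)
noncomputable def Btab_s_442_444 (c : Nat) : Nat := @Bool.rec (fun _ => Nat) (Btab_442) (Btab_443) (Nat.ble 443 c)
noncomputable def Btab_s_445_447 (c : Nat) : Nat := @Bool.rec (fun _ => Nat) (Btab_445) (Btab_446) (Nat.ble 446 c)
noncomputable def Btab_s_444_447 (c : Nat) : Nat := @Bool.rec (fun _ => Nat) (Btab_444) (Btab_s_445_447 c) (Nat.ble 445 c)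
noncomputable def Btab_s_442_447 (c : Nat) : Nat := @Bool.rec (fun _ => Nat) (Btab_s_442_444 c) (Btab_s_444_447 c) (Nat.ble 444 c)
noncomputable def Btab_s_437_447 (c : Nat) : Nat := @Bool.rec (fun _ => Nat) (Btab_s_437_442 c) (Btab_s_442_447 c) (Nat.ble 442 c)
noncomputable def Btab_s_428_447 (c : Nat) : Nat := @Bool.rec (fun _ => Nat) (Btab_s_428_437 c) (Btab_s_437_447 c) (Nat.ble 437 c)
noncomputable def Btab_s_409_447 (c : Nat) : Nat := @Bool.rec (fun _ => Nat) (Btab_s_409_428 c) (Btab_s_428_447 c) (Nat.ble 428 c)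
noncomputable def Btab_s_372_447 (c : Nat) : Nat := @Bool.rec (fun _ => Nat) (Btab_s_372_409 c) (Btab_s_409_447 c) (Nat.ble 409 c)
noncomputable def Btab_s_298_447 (c : Nat) : Nat := @Bool.rec (fun _ => Nat) (Btab_s_298_372 c) (Btab_s_372_447 c) (Nat.ble 372 c)
noncomputable def Btab_s_447_449 (c : Nat) : Nat := @Bool.rec (fun _ => Nat) (Btab_447) (Btab_448) (Nat.ble 448 c)
noncomputable def Btab_s_449_451 (c : Nat) : Nat := @Bool.rec (fun _ => Nat) (Btab_449) (Btab_450) (Nat.ble 450 c)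
noncomputable def Btab_s_447_451 (c : Nat) : Nat := @Bool.rec (fun _ => Nat) (Btab_s_447_449 c) (Btab_s_449_451 c) (Nat.ble 449 c)
noncomputable def Btab_s_451_453 (c : Nat) : Nat := @Bool.rec (fun _ => Nat) (Btab_451) (Btab_452) (Nat.ble 452 c)
noncomputable def Btab_s_454_456 (c : Nat) : Nat := @Bool.rec (fun _ => Nat) (Btab_454) (Btab_455) (Nat.ble 455 c)
noncomputable def Btab_s_453_456 (c : Nat) : Nat := @Bool.rec (fun _ => Nat) (Btab_453) (Btab_s_454_456 c) (Nat.ble 454 c)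
noncomputable def Btab_s_451_456 (c : Nat) : Nat := @Bool.rec (fun _ => Nat) (Btab_s_451_453 c) (Btab_s_453_456 c) (Nat.ble 453 c)
noncomputable def Btab_s_447_456 (c : Nat) : Nat := @Bool.rec (fun _ => Nat) (Btab_s_447_451 c) (Btab_s_451_456 c) (Nat.ble 451 c)
noncomputable def Btab_s_456_458 (c : Nat) : Nat := @Bool.rec (fun _ => Nat) (Btab_456) (Btab_457) (Nat.ble 457 c)
noncomputable def Btab_s_458_460 (c : Nat) : Nat := @Bool.rec (fun _ => Nat) (Btab_458) (Btab_459) (Nat.ble 459 c)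
noncomputable def Btab_s_456_460 (c : Nat) : Nat := @Bool.rec (fun _ => Nat) (Btab_s_456_458 c) (Btab_s_458_460 c) (Nat.ble 458 c)
noncomputable def Btab_s_460_462 (c : Nat) : Nat := @Bool.rec (fun _ => Nat) (Btab_460) (Btab_461) (Nat.ble 461 c)
noncomputable def Btab_s_463_465 (c : Nat) : Nat := @Bool.rec (fun _ => Nat) (Btab_463) (Btab_464) (Nat.ble 464 c)
noncomputable def Btab_s_462_465 (c : Nat) : Nat := @Bool.rec (fun _ => Nat) (Btab_462) (Btab_s_463_465 c) (Nat.ble 463 c)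
noncomputable def Btab_s_460_465 (c : Nat) : Nat := @Bool.rec (fun _ => Nat) (Btab_s_460_462 c) (Btab_s_462_465 c) (Nat.ble 462 c)
noncomputable def Btab_s_456_465 (c : Nat) : Nat := @Bool.rec (fun _ => Nat) (Btab_s_456_460 c) (Btab_s_460_465 c) (Nat.ble 460 c)
noncomputable def Btab_s_447_465 (c : Nat) : Nat := @Bool.rec (fun _ => Nat) (Btab_s_447_456 c) (Btab_s_456_465 c) (Nat.ble 456 c)
noncomputable def Btab_s_465_467 (c : Nat) : Nat := @Bool.rec (fun _ => Nat) (Btab_465) (Btab_466) (Nat.ble 466 c)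
noncomputable def Btab_s_467_469 (c : Nat) : Nat := @Bool.rec (fun _ => Nat) (Btab_467) (Btab_468) (Nat.ble 468 c)
noncomputable def Btab_s_465_469 (c : Nat) : Nat := @Bool.rec (fun _ => Nat) (Btab_s_465_467 c) (Btab_s_467_469 c) (Nat.ble 467 c)
noncomputable def Btab_s_469_471 (c : Nat) : Nat := @Bool.rec (fun _ => Nat) (Btab_469) (Btab_470) (Nat.ble 470 c)
noncomputable def Btab_s_472_474 (c : Nat) : Nat := @Bool.rec (fun _ => Nat) (Btab_472) (Btab_473) (Nat.ble 473 c)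
noncomputable def Btab_s_471_474 (c : Nat) : Nat := @Bool.rec (fun _ => Nat) (Btab_471) (Btab_s_472_474 c) (Nat.ble 472 c)
noncomputable def Btab_s_469_474 (c : Nat) : Nat := @Bool.rec (fun _ => Nat) (Btab_s_469_471 c) (Btab_s_471_474 c) (Nat.ble 471 c)
noncomputable def Btab_s_465_474 (c : Nat) : Nat := @Bool.rec (fun _ => Nat) (Btab_s_465_469 c) (Btab_s_469_474 c) (Nat.ble 469 c)
noncomputable def Btab_s_474_476 (c : Nat) : Nat := @Bool.rec (fun _ => Nat) (Btab_474) (Btab_475) (Nat.ble 475 c)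
noncomputable def Btab_s_477_479 (c : Nat) : Nat := @Bool.rec (fun _ => Nat) (Btab_477) (Btab_478) (Nat.ble 478 c)
noncomputable def Btab_s_476_479 (c : Nat) : Nat := @Bool.rec (fun _ => Nat) (Btab_476) (Btab_s_477_479 c) (Nat.ble 477 c)
noncomputable def Btab_s_474_479 (c : Nat) : Nat := @Bool.rec (fun _ => Nat) (Btab_s_474_476 c) (Btab_s_476_479 c) (Nat.ble 476 c)
noncomputable def Btab_s_479_481 (c : Nat) : Nat := @Bool.rec (fun _ => Nat) (Btab_479) (Btab_480) (Nat.ble 480 c)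
noncomputable def Btab_s_482_484 (c : Nat) : Nat := @Bool.rec (fun _ => Nat) (Btab_482) (Btab_483) (Nat.ble 483 c)
noncomputable def Btab_s_481_484 (c : Nat) : Nat := @Bool.rec (fun _ => Nat) (Btab_481) (Btab_s_482_484 c) (Nat.ble 482 c)
noncomputable def Btab_s_479_484 (c : Nat) : Nat := @Bool.rec (fun _ => Nat) (Btab_s_479_481 c) (Btab_s_481_484 c) (Nat.ble 481 c)
noncomputable def Btab_s_474_484 (c : Nat) : Nat := @Bool.rec (fun _ => Nat) (Btab_s_474_479 c) (Btab_s_479_484 c) (Nat.ble 479 c)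
noncomputable def Btab_s_465_484 (c : Nat) : Nat := @Bool.rec (fun _ => Nat) (Btab_s_465_474 c) (Btab_s_474_484 c) (Nat.ble 474 c)
noncomputable def Btab_s_447_484 (c : Nat) : Nat := @Bool.rec (fun _ => Nat) (Btab_s_447_465 c) (Btab_s_465_484 c) (Nat.ble 465 c)
noncomputable def Btab_s_484_486 (c : Nat) : Nat := @Bool.rec (fun _ => Nat) (Btab_484) (Btab_485) (Nat.ble 485 c)
noncomputable def Btab_s_486_488 (c : Nat) : Nat := @Bool.rec (fun _ => Nat) (Btab_486) (Btab_487) (Nat.ble 487 c)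
noncomputable def Btab_s_484_488 (c : Nat) : Nat := @Bool.rec (fun _ => Nat) (Btab_s_484_486 c) (Btab_s_486_488 c) (Nat.ble 486 c)
noncomputable def Btab_s_488_490 (c : Nat) : Nat := @Bool.rec (fun _ => Nat) (Btab_488) (Btab_489) (Nat.ble 489 c)
noncomputable def Btab_s_491_493 (c : Nat) : Nat := @Bool.rec (fun _ => Nat) (Btab_491) (Btab_492) (Nat.ble 492 c)
noncomputable def Btab_s_490_493 (c : Nat) : Nat := @Bool.rec (fun _ => Nat) (Btab_490) (Btab_s_491_493 c) (Nat.ble 491 c)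
noncomputable def Btab_s_488_493 (c : Nat) : Nat := @Bool.rec (fun _ => Nat) (Btab_s_488_490 c) (Btab_s_490_493 c) (Nat.ble 490 c)
noncomputable def Btab_s_484_493 (c : Nat) : Nat := @Bool.rec (fun _ => Nat) (Btab_s_484_488 c) (Btab_s_488_493 c) (Nat.ble 488 c)
noncomputable def Btab_s_493_495 (c : Nat) : Nat := @Bool.rec (fun _ => Nat) (Btab_493) (Btab_494) (Nat.ble 494 c)
noncomputable def Btab_s_495_497 (c : Nat) : Nat := @Bool.rec (fun _ => Nat) (Btab_495) (Btab_496) (Nat.ble 496 c)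
noncomputable def Btab_s_493_497 (c : Nat) : Nat := @Bool.rec (fun _ => Nat) (Btab_s_493_495 c) (Btab_s_495_497 c) (Nat.ble 495 c)
noncomputable def Btab_s_497_499 (c : Nat) : Nat := @Bool.rec (fun _ => Nat) (Btab_497) (Btab_498) (Nat.ble 498 c)
noncomputable def Btab_s_500_502 (c : Nat) : Nat := @Bool.rec (fun _ => Nat) (Btab_500) (Btab_501) (Nat.ble 501 c)
noncomputable def Btab_s_499_502 (c : Nat) : Nat := @Bool.rec (fun _ => Nat) (Btab_499) (Btab_s_500_502 c) (Nat.ble 500 c)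
noncomputable def Btab_s_497_502 (c : Nat) : Nat := @Bool.rec (fun _ => Nat) (Btab_s_497_499 c) (Btab_s_499_502 c) (Nat.ble 499 c)
noncomputable def Btab_s_493_502 (c : Nat) : Nat := @Bool.rec (fun _ => Nat) (Btab_s_493_497 c) (Btab_s_497_502 c) (Nat.ble 497 c)
noncomputable def Btab_s_484_502 (c : Nat) : Nat := @Bool.rec (fun _ => Nat) (Btab_s_484_493 c) (Btab_s_493_502 c) (Nat.ble 493 c)
noncomputable def Btab_s_502_504 (c : Nat) : Nat := @Bool.rec (fun _ => Nat) (Btab_502) (Btab_503) (Nat.ble 503 c)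
noncomputable def Btab_s_504_506 (c : Nat) : Nat := @Bool.rec (fun _ => Nat) (Btab_504) (Btab_505) (Nat.ble 505 c)
noncomputable def Btab_s_502_506 (c : Nat) : Nat := @Bool.rec (fun _ => Nat) (Btab_s_502_504 c) (Btab_s_504_506 c) (Nat.ble 504 c)
noncomputable def Btab_s_506_508 (c : Nat) : Nat := @Bool.rec (fun _ => Nat) (Btab_506) (Btab_507) (Nat.ble 507 c)
noncomputable def Btab_s_509_511 (c : Nat) : Nat := @Bool.rec (fun _ => Nat) (Btab_509) (Btab_510) (Nat.ble 510 c)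
noncomputable def Btab_s_508_511 (c : Nat) : Nat := @Bool.rec (fun _ => Nat) (Btab_508) (Btab_s_509_511 c) (Nat.ble 509 c)
noncomputable def Btab_s_506_511 (c : Nat) : Nat := @Bool.rec (fun _ => Nat) (Btab_s_506_508 c) (Btab_s_508_511 c) (Nat.ble 508 c)
noncomputable def Btab_s_502_511 (c : Nat) : Nat := @Bool.rec (fun _ => Nat) (Btab_s_502_506 c) (Btab_s_506_511 c) (Nat.ble 506 c)
noncomputable def Btab_s_511_513 (c : Nat) : Nat := @Bool.rec (fun _ => Nat) (Btab_511) (Btab_512) (Nat.ble 512 c)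
noncomputable def Btab_s_514_516 (c : Nat) : Nat := @Bool.rec (fun _ => Nat) (Btab_514) (Btab_515) (Nat.ble 515 c)
noncomputable def Btab_s_513_516 (c : Nat) : Nat := @Bool.rec (fun _ => Nat) (Btab_513) (Btab_s_514_516 c) (Nat.ble 514 c)
noncomputable def Btab_s_511_516 (c : Nat) : Nat := @Bool.rec (fun _ => Nat) (Btab_s_511_513 c) (Btab_s_513_516 c) (Nat.ble 513 c)
noncomputable def Btab_s_516_518 (c : Nat) : Nat := @Bool.rec (fun _ => Nat) (Btab_516) (Btab_517) (Nat.ble 517 c)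
noncomputable def Btab_s_519_521 (c : Nat) : Nat := @Bool.rec (fun _ => Nat) (Btab_519) (Btab_520) (Nat.ble 520 c)
noncomputable def Btab_s_518_521 (c : Nat) : Nat := @Bool.rec (fun _ => Nat) (Btab_518) (Btab_s_519_521 c) (Nat.ble 519 c)
noncomputable def Btab_s_516_521 (c : Nat) : Nat := @Bool.rec (fun _ => Nat) (Btab_s_516_518 c) (Btab_s_518_521 c) (Nat.ble 518 c)
noncomputable def Btab_s_511_521 (c : Nat) : Nat := @Bool.rec (fun _ => Nat) (Btab_s_511_516 c) (Btab_s_516_521 c) (Nat.ble 516 c)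
noncomputable def Btab_s_502_521 (c : Nat) : Nat := @Bool.rec (fun _ => Nat) (Btab_s_502_511 c) (Btab_s_511_521 c) (Nat.ble 511 c)
noncomputable def Btab_s_484_521 (c : Nat) : Nat := @Bool.rec (fun _ => Nat) (Btab_s_484_502 c) (Btab_s_502_521 c) (Nat.ble 502 c)
noncomputable def Btab_s_447_521 (c : Nat) : Nat := @Bool.rec (fun _ => Nat) (Btab_s_447_484 c) (Btab_s_484_521 c) (Nat.ble 484 c)
noncomputable def Btab_s_521_523 (c : Nat) : Nat := @Bool.rec (fun _ => Nat) (Btab_521) (Btab_522) (Nat.ble 522 c)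
noncomputable def Btab_s_523_525 (c : Nat) : Nat := @Bool.rec (fun _ => Nat) (Btab_523) (Btab_524) (Nat.ble 524 c)
noncomputable def Btab_s_521_525 (c : Nat) : Nat := @Bool.rec (fun _ => Nat) (Btab_s_521_523 c) (Btab_s_523_525 c) (Nat.ble 523 c)
noncomputable def Btab_s_525_527 (c : Nat) : Nat := @Bool.rec (fun _ => Nat) (Btab_525) (Btab_526) (Nat.ble 526 c)
noncomputable def Btab_s_528_530 (c : Nat) : Nat := @Bool.rec (fun _ => Nat) (Btab_528) (Btab_529) (Nat.ble 529 c)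
noncomputable def Btab_s_527_530 (c : Nat) : Nat := @Bool.rec (fun _ => Nat) (Btab_527) (Btab_s_528_530 c) (Nat.ble 528 c)
noncomputable def Btab_s_525_530 (c : Nat) : Nat := @Bool.rec (fun _ => Nat) (Btab_s_525_527 c) (Btab_s_527_530 c) (Nat.ble 527 c)
noncomputable def Btab_s_521_530 (c : Nat) : Nat := @Bool.rec (fun _ => Nat) (Btab_s_521_525 c) (Btab_s_525_530 c) (Nat.ble 525 c)
noncomputable def Btab_s_530_532 (c : Nat) : Nat := @Bool.rec (fun _ => Nat) (Btab_530) (Btab_531) (Nat.ble 531 c)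
noncomputable def Btab_s_532_534 (c : Nat) : Nat := @Bool.rec (fun _ => Nat) (Btab_532) (Btab_533) (Nat.ble 533 c)
noncomputable def Btab_s_530_534 (c : Nat) : Nat := @Bool.rec (fun _ => Nat) (Btab_s_530_532 c) (Btab_s_532_534 c) (Nat.ble 532 c)
noncomputable def Btab_s_534_536 (c : Nat) : Nat := @Bool.rec (fun _ => Nat) (Btab_534) (Btab_535) (Nat.ble 535 c)
noncomputable def Btab_s_537_539 (c : Nat) : Nat := @Bool.rec (fun _ => Nat) (Btab_537) (Btab_538) (Nat.ble 538 c)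
noncomputable def Btab_s_536_539 (c : Nat) : Nat := @Bool.rec (fun _ => Nat) (Btab_536) (Btab_s_537_539 c) (Nat.ble 537 c)
noncomputable def Btab_s_534_539 (c : Nat) : Nat := @Bool.rec (fun _ => Nat) (Btab_s_534_536 c) (Btab_s_536_539 c) (Nat.ble 536 c)
noncomputable def Btab_s_530_539 (c : Nat) : Nat := @Bool.rec (fun _ => Nat) (Btab_s_530_534 c) (Btab_s_534_539 c) (Nat.ble 534 c)
noncomputable def Btab_s_521_539 (c : Nat) : Nat := @Bool.rec (fun _ => Nat) (Btab_s_521_530 c) (Btab_s_530_539 c) (Nat.ble 530 c)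
noncomputable def Btab_s_539_541 (c : Nat) : Nat := @Bool.rec (fun _ => Nat) (Btab_539) (Btab_540) (Nat.ble 540 c)
noncomputable def Btab_s_541_543 (c : Nat) : Nat := @Bool.rec (fun _ => Nat) (Btab_541) (Btab_542) (Nat.ble 542 c)
noncomputable def Btab_s_539_543 (c : Nat) : Nat := @Bool.rec (fun _ => Nat) (Btab_s_539_541 c) (Btab_s_541_543 c) (Nat.ble 541 c)
noncomputable def Btab_s_543_545 (c : Nat) : Nat := @Bool.rec (fun _ => Nat) (Btab_543) (Btab_544) (Nat.ble 544 c)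
noncomputable def Btab_s_546_548 (c : Nat) : Nat := @Bool.rec (fun _ => Nat) (Btab_546) (Btab_547) (Nat.ble 547 c)
noncomputable def Btab_s_545_548 (c : Nat) : Nat := @Bool.rec (fun _ => Nat) (Btab_545) (Btab_s_546_548 c) (Nat.ble 546 c)
noncomputable def Btab_s_543_548 (c : Nat) : Nat := @Bool.rec (fun _ => Nat) (Btab_s_543_545 c) (Btab_s_545_548 c) (Nat.ble 545 c)
noncomputable def Btab_s_539_548 (c : Nat) : Nat := @Bool.rec (fun _ => Nat) (Btab_s_539_543 c) (Btab_s_543_548 c) (Nat.ble 543 c)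
noncomputable def Btab_s_548_550 (c : Nat) : Nat := @Bool.rec (fun _ => Nat) (Btab_548) (Btab_549) (Nat.ble 549 c)
noncomputable def Btab_s_551_553 (c : Nat) : Nat := @Bool.rec (fun _ => Nat) (Btab_551) (Btab_552) (Nat.ble 552 c)
noncomputable def Btab_s_550_553 (c : Nat) : Nat := @Bool.rec (fun _ => Nat) (Btab_550) (Btab_s_551_553 c) (Nat.ble 551 c)
noncomputable def Btab_s_548_553 (c : Nat) : Nat := @Bool.rec (fun _ => Nat) (Btab_s_548_550 c) (Btab_s_550_553 c) (Nat.ble 550 c)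
noncomputable def Btab_s_553_555 (c : Nat) : Nat := @Bool.rec (fun _ => Nat) (Btab_553) (Btab_554) (Nat.ble 554 c)
noncomputable def Btab_s_556_558 (c : Nat) : Nat := @Bool.rec (fun _ => Nat) (Btab_556) (Btab_557) (Nat.ble 557 c)
noncomputable def Btab_s_555_558 (c : Nat) : Nat := @Bool.rec (fun _ => Nat) (Btab_555) (Btab_s_556_558 c) (Nat.ble 556 c)
noncomputable def Btab_s_553_558 (c : Nat) : Nat := @Bool.rec (fun _ => Nat) (Btab_s_553_555 c) (Btab_s_555_558 c) (Nat.ble 555 c)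
noncomputable def Btab_s_548_558 (c : Nat) : Nat := @Bool.rec (fun _ => Nat) (Btab_s_548_553 c) (Btab_s_553_558 c) (Nat.ble 553 c)
noncomputable def Btab_s_539_558 (c : Nat) : Nat := @Bool.rec (fun _ => Nat) (Btab_s_539_548 c) (Btab_s_548_558 c) (Nat.ble 548 c)
noncomputable def Btab_s_521_558 (c : Nat) : Nat := @Bool.rec (fun _ => Nat) (Btab_s_521_539 c) (Btab_s_539_558 c) (Nat.ble 539 c)
noncomputable def Btab_s_558_560 (c : Nat) : Nat := @Bool.rec (fun _ => Nat) (Btab_558) (Btab_559) (Nat.ble 559 c)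
noncomputable def Btab_s_560_562 (c : Nat) : Nat := @Bool.rec (fun _ => Nat) (Btab_560) (Btab_561) (Nat.ble 561 c)
noncomputable def Btab_s_558_562 (c : Nat) : Nat := @Bool.rec (fun _ => Nat) (Btab_s_558_560 c) (Btab_s_560_562 c) (Nat.ble 560 c)
noncomputable def Btab_s_562_564 (c : Nat) : Nat := @Bool.rec (fun _ => Nat) (Btab_562) (Btab_563) (Nat.ble 563 c)
noncomputable def Btab_s_565_567 (c : Nat) : Nat := @Bool.rec (fun _ => Nat) (Btab_565) (Btab_566) (Nat.ble 566 c)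
noncomputable def Btab_s_564_567 (c : Nat) : Nat := @Bool.rec (fun _ => Nat) (Btab_564) (Btab_s_565_567 c) (Nat.ble 565 c)
noncomputable def Btab_s_562_567 (c : Nat) : Nat := @Bool.rec (fun _ => Nat) (Btab_s_562_564 c) (Btab_s_564_567 c) (Nat.ble 564 c)
noncomputable def Btab_s_558_567 (c : Nat) : Nat := @Bool.rec (fun _ => Nat) (Btab_s_558_562 c) (Btab_s_562_567 c) (Nat.ble 562 c)
noncomputable def Btab_s_567_569 (c : Nat) : Nat := @Bool.rec (fun _ => Nat) (Btab_567) (Btab_568) (Nat.ble 568 c)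
noncomputable def Btab_s_570_572 (c : Nat) : Nat := @Bool.rec (fun _ => Nat) (Btab_570) (Btab_571) (Nat.ble 571 c)
noncomputable def Btab_s_569_572 (c : Nat) : Nat := @Bool.rec (fun _ => Nat) (Btab_569) (Btab_s_570_572 c) (Nat.ble 570 c)
noncomputable def Btab_s_567_572 (c : Nat) : Nat := @Bool.rec (fun _ => Nat) (Btab_s_567_569 c) (Btab_s_569_572 c) (Nat.ble 569 c)
noncomputable def Btab_s_572_574 (c : Nat) : Nat := @Bool.rec (fun _ => Nat) (Btab_572) (Btab_573) (Nat.ble 573 c)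
noncomputable def Btab_s_575_577 (c : Nat) : Nat := @Bool.rec (fun _ => Nat) (Btab_575) (Btab_576) (Nat.ble 576 c)
noncomputable def Btab_s_574_577 (c : Nat) : Nat := @Bool.rec (fun _ => Nat) (Btab_574) (Btab_s_575_577 c) (Nat.ble 575 c)
noncomputable def Btab_s_572_577 (c : Nat) : Nat := @Bool.rec (fun _ => Nat) (Btab_s_572_574 c) (Btab_s_574_577 c) (Nat.ble 574 c)
noncomputable def Btab_s_567_577 (c : Nat) : Nat := @Bool.rec (fun _ => Nat) (Btab_s_567_572 c) (Btab_s_572_577 c) (Nat.ble 572 c)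
noncomputable def Btab_s_558_577 (c : Nat) : Nat := @Bool.rec (fun _ => Nat) (Btab_s_558_567 c) (Btab_s_567_577 c) (Nat.ble 567 c)
noncomputable def Btab_s_577_579 (c : Nat) : Nat := @Bool.rec (fun _ => Nat) (Btab_577) (Btab_578) (Nat.ble 578 c)
noncomputable def Btab_s_579_581 (c : Nat) : Nat := @Bool.rec (fun _ => Nat) (Btab_579) (Btab_580) (Nat.ble 580 c)
noncomputable def Btab_s_577_581 (c : Nat) : Nat := @Bool.rec (fun _ => Nat) (Btab_s_577_579 c) (Btab_s_579_581 c) (Nat.ble 579 c)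
noncomputable def Btab_s_581_583 (c : Nat) : Nat := @Bool.rec (fun _ => Nat) (Btab_581) (Btab_582) (Nat.ble 582 c)
noncomputable def Btab_s_584_586 (c : Nat) : Nat := @Bool.rec (fun _ => Nat) (Btab_584) (Btab_585) (Nat.ble 585 c)
noncomputable def Btab_s_583_586 (c : Nat) : Nat := @Bool.rec (fun _ => Nat) (Btab_583) (Btab_s_584_586 c) (Nat.ble 584 c)
noncomputable def Btab_s_581_586 (c : Nat) : Nat := @Bool.rec (fun _ => Nat) (Btab_s_581_583 c) (Btab_s_583_586 c) (Nat.ble 583 c)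
noncomputable def Btab_s_577_586 (c : Nat) : Nat := @Bool.rec (fun _ => Nat) (Btab_s_577_581 c) (Btab_s_581_586 c) (Nat.ble 581 c)
noncomputable def Btab_s_586_588 (c : Nat) : Nat := @Bool.rec (fun _ => Nat) (Btab_586) (Btab_587) (Nat.ble 587 c)
noncomputable def Btab_s_589_591 (c : Nat) : Nat := @Bool.rec (fun _ => Nat) (Btab_589) (Btab_590) (Nat.ble 590 c)
noncomputable def Btab_s_588_591 (c : Nat) : Nat := @Bool.rec (fun _ => Nat) (Btab_588) (Btab_s_589_591 c) (Nat.ble 589 c)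
noncomputable def Btab_s_586_591 (c : Nat) : Nat := @Bool.rec (fun _ => Nat) (Btab_s_586_588 c) (Btab_s_588_591 c) (Nat.ble 588 c)
noncomputable def Btab_s_591_593 (c : Nat) : Nat := @Bool.rec (fun _ => Nat) (Btab_591) (Btab_592) (Nat.ble 592 c)
noncomputable def Btab_s_594_596 (c : Nat) : Nat := @Bool.rec (fun _ => Nat) (Btab_594) (Btab_595) (Nat.ble 595 c)
noncomputable def Btab_s_593_596 (c : Nat) : Nat := @Bool.rec (fun _ => Nat) (Btab_593) (Btab_s_594_596 c) (Nat.ble 594 c)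
noncomputable def Btab_s_591_596 (c : Nat) : Nat := @Bool.rec (fun _ => Nat) (Btab_s_591_593 c) (Btab_s_593_596 c) (Nat.ble 593 c)
noncomputable def Btab_s_586_596 (c : Nat) : Nat := @Bool.rec (fun _ => Nat) (Btab_s_586_591 c) (Btab_s_591_596 c) (Nat.ble 591 c)
noncomputable def Btab_s_577_596 (c : Nat) : Nat := @Bool.rec (fun _ => Nat) (Btab_s_577_586 c) (Btab_s_586_596 c) (Nat.ble 586 c)
noncomputable def Btab_s_558_596 (c : Nat) : Nat := @Bool.rec (fun _ => Nat) (Btab_s_558_577 c) (Btab_s_577_596 c) (Nat.ble 577 c)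
noncomputable def Btab_s_521_596 (c : Nat) : Nat := @Bool.rec (fun _ => Nat) (Btab_s_521_558 c) (Btab_s_558_596 c) (Nat.ble 558 c)
noncomputable def Btab_s_447_596 (c : Nat) : Nat := @Bool.rec (fun _ => Nat) (Btab_s_447_521 c) (Btab_s_521_596 c) (Nat.ble 521 c)
noncomputable def Btab_s_298_596 (c : Nat) : Nat := @Bool.rec (fun _ => Nat) (Btab_s_298_447 c) (Btab_s_447_596 c) (Nat.ble 447 c)
noncomputable def Btab_s_0_596 (c : Nat) : Nat := @Bool.rec (fun _ => Nat) (Btab_s_0_298 c) (Btab_s_298_596 c) (Nat.ble 298 c)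
noncomputable def Btab_s_596_598 (c : Nat) : Nat := @Bool.rec (fun _ => Nat) (Btab_596) (Btab_597) (Nat.ble 597 c)
noncomputable def Btab_s_598_600 (c : Nat) : Nat := @Bool.rec (fun _ => Nat) (Btab_598) (Btab_599) (Nat.ble 599 c)
noncomputable def Btab_s_596_600 (c : Nat) : Nat := @Bool.rec (fun _ => Nat) (Btab_s_596_598 c) (Btab_s_598_600 c) (Nat.ble 598 c)
noncomputable def Btab_s_600_602 (c : Nat) : Nat := @Bool.rec (fun _ => Nat) (Btab_600) (Btab_601) (Nat.ble 601 c)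
noncomputable def Btab_s_603_605 (c : Nat) : Nat := @Bool.rec (fun _ => Nat) (Btab_603) (Btab_604) (Nat.ble 604 c)
noncomputable def Btab_s_602_605 (c : Nat) : Nat := @Bool.rec (fun _ => Nat) (Btab_602) (Btab_s_603_605 c) (Nat.ble 603 c)
noncomputable def Btab_s_600_605 (c : Nat) : Nat := @Bool.rec (fun _ => Nat) (Btab_s_600_602 c) (Btab_s_602_605 c) (Nat.ble 602 c)
noncomputable def Btab_s_596_605 (c : Nat) : Nat := @Bool.rec (fun _ => Nat) (Btab_s_596_600 c) (Btab_s_600_605 c) (Nat.ble 600 c)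
noncomputable def Btab_s_605_607 (c : Nat) : Nat := @Bool.rec (fun _ => Nat) (Btab_605) (Btab_606) (Nat.ble 606 c)
noncomputable def Btab_s_607_609 (c : Nat) : Nat := @Bool.rec (fun _ => Nat) (Btab_607) (Btab_608) (Nat.ble 608 c)
noncomputable def Btab_s_605_609 (c : Nat) : Nat := @Bool.rec (fun _ => Nat) (Btab_s_605_607 c) (Btab_s_607_609 c) (Nat.ble 607 c)
noncomputable def Btab_s_609_611 (c : Nat) : Nat := @Bool.rec (fun _ => Nat) (Btab_609) (Btab_610) (Nat.ble 610 c)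
noncomputable def Btab_s_612_614 (c : Nat) : Nat := @Bool.rec (fun _ => Nat) (Btab_612) (Btab_613) (Nat.ble 613 c)
noncomputable def Btab_s_611_614 (c : Nat) : Nat := @Bool.rec (fun _ => Nat) (Btab_611) (Btab_s_612_614 c) (Nat.ble 612 c)
noncomputable def Btab_s_609_614 (c : Nat) : Nat := @Bool.rec (fun _ => Nat) (Btab_s_609_611 c) (Btab_s_611_614 c) (Nat.ble 611 c)
noncomputable def Btab_s_605_614 (c : Nat) : Nat := @Bool.rec (fun _ => Nat) (Btab_s_605_609 c) (Btab_s_609_614 c) (Nat.ble 609 c)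
noncomputable def Btab_s_596_614 (c : Nat) : Nat := @Bool.rec (fun _ => Nat) (Btab_s_596_605 c) (Btab_s_605_614 c) (Nat.ble 605 c)
noncomputable def Btab_s_614_616 (c : Nat) : Nat := @Bool.rec (fun _ => Nat) (Btab_614) (Btab_615) (Nat.ble 615 c)
noncomputable def Btab_s_616_618 (c : Nat) : Nat := @Bool.rec (fun _ => Nat) (Btab_616) (Btab_617) (Nat.ble 617 c)
noncomputable def Btab_s_614_618 (c : Nat) : Nat := @Bool.rec (fun _ => Nat) (Btab_s_614_616 c) (Btab_s_616_618 c) (Nat.ble 616 c)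
noncomputable def Btab_s_618_620 (c : Nat) : Nat := @Bool.rec (fun _ => Nat) (Btab_618) (Btab_619) (Nat.ble 619 c)
noncomputable def Btab_s_621_623 (c : Nat) : Nat := @Bool.rec (fun _ => Nat) (Btab_621) (Btab_622) (Nat.ble 622 c)
noncomputable def Btab_s_620_623 (c : Nat) : Nat := @Bool.rec (fun _ => Nat) (Btab_620) (Btab_s_621_623 c) (Nat.ble 621 c)
noncomputable def Btab_s_618_623 (c : Nat) : Nat := @Bool.rec (fun _ => Nat) (Btab_s_618_620 c) (Btab_s_620_623 c) (Nat.ble 620 c)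
noncomputable def Btab_s_614_623 (c : Nat) : Nat := @Bool.rec (fun _ => Nat) (Btab_s_614_618 c) (Btab_s_618_623 c) (Nat.ble 618 c)
noncomputable def Btab_s_623_625 (c : Nat) : Nat := @Bool.rec (fun _ => Nat) (Btab_623) (Btab_624) (Nat.ble 624 c)
noncomputable def Btab_s_626_628 (c : Nat) : Nat := @Bool.rec (fun _ => Nat) (Btab_626) (Btab_627) (Nat.ble 627 c)
noncomputable def Btab_s_625_628 (c : Nat) : Nat := @Bool.rec (fun _ => Nat) (Btab_625) (Btab_s_626_628 c) (Nat.ble 626 c)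
noncomputable def Btab_s_623_628 (c : Nat) : Nat := @Bool.rec (fun _ => Nat) (Btab_s_623_625 c) (Btab_s_625_628 c) (Nat.ble 625 c)
noncomputable def Btab_s_628_630 (c : Nat) : Nat := @Bool.rec (fun _ => Nat) (Btab_628) (Btab_629) (Nat.ble 629 c)
noncomputable def Btab_s_631_633 (c : Nat) : Nat := @Bool.rec (fun _ => Nat) (Btab_631) (Btab_632) (Nat.ble 632 c)
noncomputable def Btab_s_630_633 (c : Nat) : Nat := @Bool.rec (fun _ => Nat) (Btab_630) (Btab_s_631_633 c) (Nat.ble 631 c)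
noncomputable def Btab_s_628_633 (c : Nat) : Nat := @Bool.rec (fun _ => Nat) (Btab_s_628_630 c) (Btab_s_630_633 c) (Nat.ble 630 c)
noncomputable def Btab_s_623_633 (c : Nat) : Nat := @Bool.rec (fun _ => Nat) (Btab_s_623_628 c) (Btab_s_628_633 c) (Nat.ble 628 c)
noncomputable def Btab_s_614_633 (c : Nat) : Nat := @Bool.rec (fun _ => Nat) (Btab_s_614_623 c) (Btab_s_623_633 c) (Nat.ble 623 c)
noncomputable def Btab_s_596_633 (c : Nat) : Nat := @Bool.rec (fun _ => Nat) (Btab_s_596_614 c) (Btab_s_614_633 c) (Nat.ble 614 c)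
noncomputable def Btab_s_633_635 (c : Nat) : Nat := @Bool.rec (fun _ => Nat) (Btab_633) (Btab_634) (Nat.ble 634 c)
noncomputable def Btab_s_635_637 (c : Nat) : Nat := @Bool.rec (fun _ => Nat) (Btab_635) (Btab_636) (Nat.ble 636 c)
noncomputable def Btab_s_633_637 (c : Nat) : Nat := @Bool.rec (fun _ => Nat) (Btab_s_633_635 c) (Btab_s_635_637 c) (Nat.ble 635 c)
noncomputable def Btab_s_637_639 (c : Nat) : Nat := @Bool.rec (fun _ => Nat) (Btab_637) (Btab_638) (Nat.ble 638 c)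
noncomputable def Btab_s_640_642 (c : Nat) : Nat := @Bool.rec (fun _ => Nat) (Btab_640) (Btab_641) (Nat.ble 641 c)
noncomputable def Btab_s_639_642 (c : Nat) : Nat := @Bool.rec (fun _ => Nat) (Btab_639) (Btab_s_640_642 c) (Nat.ble 640 c)
noncomputable def Btab_s_637_642 (c : Nat) : Nat := @Bool.rec (fun _ => Nat) (Btab_s_637_639 c) (Btab_s_639_642 c) (Nat.ble 639 c)
noncomputable def Btab_s_633_642 (c : Nat) : Nat := @Bool.rec (fun _ => Nat) (Btab_s_633_637 c) (Btab_s_637_642 c) (Nat.ble 637 c)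
noncomputable def Btab_s_642_644 (c : Nat) : Nat := @Bool.rec (fun _ => Nat) (Btab_642) (Btab_643) (Nat.ble 643 c)
noncomputable def Btab_s_644_646 (c : Nat) : Nat := @Bool.rec (fun _ => Nat) (Btab_644) (Btab_645) (Nat.ble 645 c)
noncomputable def Btab_s_642_646 (c : Nat) : Nat := @Bool.rec (fun _ => Nat) (Btab_s_642_644 c) (Btab_s_644_646 c) (Nat.ble 644 c)
noncomputable def Btab_s_646_648 (c : Nat) : Nat := @Bool.rec (fun _ => Nat) (Btab_646) (Btab_647) (Nat.ble 647 c)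
noncomputable def Btab_s_649_651 (c : Nat) : Nat := @Bool.rec (fun _ => Nat) (Btab_649) (Btab_650) (Nat.ble 650 c)
noncomputable def Btab_s_648_651 (c : Nat) : Nat := @Bool.rec (fun _ => Nat) (Btab_648) (Btab_s_649_651 c) (Nat.ble 649 c)
noncomputable def Btab_s_646_651 (c : Nat) : Nat := @Bool.rec (fun _ => Nat) (Btab_s_646_648 c) (Btab_s_648_651 c) (Nat.ble 648 c)
noncomputable def Btab_s_642_651 (c : Nat) : Nat := @Bool.rec (fun _ => Nat) (Btab_s_642_646 c) (Btab_s_646_651 c) (Nat.ble 646 c)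
noncomputable def Btab_s_633_651 (c : Nat) : Nat := @Bool.rec (fun _ => Nat) (Btab_s_633_642 c) (Btab_s_642_651 c) (Nat.ble 642 c)
noncomputable def Btab_s_651_653 (c : Nat) : Nat := @Bool.rec (fun _ => Nat) (Btab_651) (Btab_652) (Nat.ble 652 c)
noncomputable def Btab_s_653_655 (c : Nat) : Nat := @Bool.rec (fun _ => Nat) (Btab_653) (Btab_654) (Nat.ble 654 c)
noncomputable def Btab_s_651_655 (c : Nat) : Nat := @Bool.rec (fun _ => Nat) (Btab_s_651_653 c) (Btab_s_653_655 c) (Nat.ble 653 c)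
noncomputable def Btab_s_655_657 (c : Nat) : Nat := @Bool.rec (fun _ => Nat) (Btab_655) (Btab_656) (Nat.ble 656 c)
noncomputable def Btab_s_658_660 (c : Nat) : Nat := @Bool.rec (fun _ => Nat) (Btab_658) (Btab_659) (Nat.ble 659 c)
noncomputable def Btab_s_657_660 (c : Nat) : Nat := @Bool.rec (fun _ => Nat) (Btab_657) (Btab_s_658_660 c) (Nat.ble 658 c)
noncomputable def Btab_s_655_660 (c : Nat) : Nat := @Bool.rec (fun _ => Nat) (Btab_s_655_657 c) (Btab_s_657_660 c) (Nat.ble 657 c)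
noncomputable def Btab_s_651_660 (c : Nat) : Nat := @Bool.rec (fun _ => Nat) (Btab_s_651_655 c) (Btab_s_655_660 c) (Nat.ble 655 c)
noncomputable def Btab_s_660_662 (c : Nat) : Nat := @Bool.rec (fun _ => Nat) (Btab_660) (Btab_661) (Nat.ble 661 c)
noncomputable def Btab_s_663_665 (c : Nat) : Nat := @Bool.rec (fun _ => Nat) (Btab_663) (Btab_664) (Nat.ble 664 c)
noncomputable def Btab_s_662_665 (c : Nat) : Nat := @Bool.rec (fun _ => Nat) (Btab_662) (Btab_s_663_665 c) (Nat.ble 663 c)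
noncomputable def Btab_s_660_665 (c : Nat) : Nat := @Bool.rec (fun _ => Nat) (Btab_s_660_662 c) (Btab_s_662_665 c) (Nat.ble 662 c)
noncomputable def Btab_s_665_667 (c : Nat) : Nat := @Bool.rec (fun _ => Nat) (Btab_665) (Btab_666) (Nat.ble 666 c)
noncomputable def Btab_s_668_670 (c : Nat) : Nat := @Bool.rec (fun _ => Nat) (Btab_668) (Btab_669) (Nat.ble 669 c)
noncomputable def Btab_s_667_670 (c : Nat) : Nat := @Bool.rec (fun _ => Nat) (Btab_667) (Btab_s_668_670 c) (Nat.ble 668 c)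
noncomputable def Btab_s_665_670 (c : Nat) : Nat := @Bool.rec (fun _ => Nat) (Btab_s_665_667 c) (Btab_s_667_670 c) (Nat.ble 667 c)
noncomputable def Btab_s_660_670 (c : Nat) : Nat := @Bool.rec (fun _ => Nat) (Btab_s_660_665 c) (Btab_s_665_670 c) (Nat.ble 665 c)
noncomputable def Btab_s_651_670 (c : Nat) : Nat := @Bool.rec (fun _ => Nat) (Btab_s_651_660 c) (Btab_s_660_670 c) (Nat.ble 660 c)
noncomputable def Btab_s_633_670 (c : Nat) : Nat := @Bool.rec (fun _ => Nat) (Btab_s_633_651 c) (Btab_s_651_670 c) (Nat.ble 651 c)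
noncomputable def Btab_s_596_670 (c : Nat) : Nat := @Bool.rec (fun _ => Nat) (Btab_s_596_633 c) (Btab_s_633_670 c) (Nat.ble 633 c)
noncomputable def Btab_s_670_672 (c : Nat) : Nat := @Bool.rec (fun _ => Nat) (Btab_670) (Btab_671) (Nat.ble 671 c)
noncomputable def Btab_s_672_674 (c : Nat) : Nat := @Bool.rec (fun _ => Nat) (Btab_672) (Btab_673) (Nat.ble 673 c)
noncomputable def Btab_s_670_674 (c : Nat) : Nat := @Bool.rec (fun _ => Nat) (Btab_s_670_672 c) (Btab_s_672_674 c) (Nat.ble 672 c)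
noncomputable def Btab_s_674_676 (c : Nat) : Nat := @Bool.rec (fun _ => Nat) (Btab_674) (Btab_675) (Nat.ble 675 c)
noncomputable def Btab_s_677_679 (c : Nat) : Nat := @Bool.rec (fun _ => Nat) (Btab_677) (Btab_678) (Nat.ble 678 c)
noncomputable def Btab_s_676_679 (c : Nat) : Nat := @Bool.rec (fun _ => Nat) (Btab_676) (Btab_s_677_679 c) (Nat.ble 677 c)
noncomputable def Btab_s_674_679 (c : Nat) : Nat := @Bool.rec (fun _ => Nat) (Btab_s_674_676 c) (Btab_s_676_679 c) (Nat.ble 676 c)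
noncomputable def Btab_s_670_679 (c : Nat) : Nat := @Bool.rec (fun _ => Nat) (Btab_s_670_674 c) (Btab_s_674_679 c) (Nat.ble 674 c)
noncomputable def Btab_s_679_681 (c : Nat) : Nat := @Bool.rec (fun _ => Nat) (Btab_679) (Btab_680) (Nat.ble 680 c)
noncomputable def Btab_s_681_683 (c : Nat) : Nat := @Bool.rec (fun _ => Nat) (Btab_681) (Btab_682) (Nat.ble 682 c)
noncomputable def Btab_s_679_683 (c : Nat) : Nat := @Bool.rec (fun _ => Nat) (Btab_s_679_681 c) (Btab_s_681_683 c) (Nat.ble 681 c)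
noncomputable def Btab_s_683_685 (c : Nat) : Nat := @Bool.rec (fun _ => Nat) (Btab_683) (Btab_684) (Nat.ble 684 c)
noncomputable def Btab_s_686_688 (c : Nat) : Nat := @Bool.rec (fun _ => Nat) (Btab_686) (Btab_687) (Nat.ble 687 c)
noncomputable def Btab_s_685_688 (c : Nat) : Nat := @Bool.rec (fun _ => Nat) (Btab_685) (Btab_s_686_688 c) (Nat.ble 686 c)
noncomputable def Btab_s_683_688 (c : Nat) : Nat := @Bool.rec (fun _ => Nat) (Btab_s_683_685 c) (Btab_s_685_688 c) (Nat.ble 685 c)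
noncomputable def Btab_s_679_688 (c : Nat) : Nat := @Bool.rec (fun _ => Nat) (Btab_s_679_683 c) (Btab_s_683_688 c) (Nat.ble 683 c)
noncomputable def Btab_s_670_688 (c : Nat) : Nat := @Bool.rec (fun _ => Nat) (Btab_s_670_679 c) (Btab_s_679_688 c) (Nat.ble 679 c)
noncomputable def Btab_s_688_690 (c : Nat) : Nat := @Bool.rec (fun _ => Nat) (Btab_688) (Btab_689) (Nat.ble 689 c)
noncomputable def Btab_s_690_692 (c : Nat) : Nat := @Bool.rec (fun _ => Nat) (Btab_690) (Btab_691) (Nat.ble 691 c)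
noncomputable def Btab_s_688_692 (c : Nat) : Nat := @Bool.rec (fun _ => Nat) (Btab_s_688_690 c) (Btab_s_690_692 c) (Nat.ble 690 c)
noncomputable def Btab_s_692_694 (c : Nat) : Nat := @Bool.rec (fun _ => Nat) (Btab_692) (Btab_693) (Nat.ble 693 c)
noncomputable def Btab_s_695_697 (c : Nat) : Nat := @Bool.rec (fun _ => Nat) (Btab_695) (Btab_696) (Nat.ble 696 c)
noncomputable def Btab_s_694_697 (c : Nat) : Nat := @Bool.rec (fun _ => Nat) (Btab_694) (Btab_s_695_697 c) (Nat.ble 695 c)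
noncomputable def Btab_s_692_697 (c : Nat) : Nat := @Bool.rec (fun _ => Nat) (Btab_s_692_694 c) (Btab_s_694_697 c) (Nat.ble 694 c)
noncomputable def Btab_s_688_697 (c : Nat) : Nat := @Bool.rec (fun _ => Nat) (Btab_s_688_692 c) (Btab_s_692_697 c) (Nat.ble 692 c)
noncomputable def Btab_s_697_699 (c : Nat) : Nat := @Bool.rec (fun _ => Nat) (Btab_697) (Btab_698) (Nat.ble 698 c)
noncomputable def Btab_s_700_702 (c : Nat) : Nat := @Bool.rec (fun _ => Nat) (Btab_700) (Btab_701) (Nat.ble 701 c)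
noncomputable def Btab_s_699_702 (c : Nat) : Nat := @Bool.rec (fun _ => Nat) (Btab_699) (Btab_s_700_702 c) (Nat.ble 700 c)
noncomputable def Btab_s_697_702 (c : Nat) : Nat := @Bool.rec (fun _ => Nat) (Btab_s_697_699 c) (Btab_s_699_702 c) (Nat.ble 699 c)
noncomputable def Btab_s_702_704 (c : Nat) : Nat := @Bool.rec (fun _ => Nat) (Btab_702) (Btab_703) (Nat.ble 703 c)
noncomputable def Btab_s_705_707 (c : Nat) : Nat := @Bool.rec (fun _ => Nat) (Btab_705) (Btab_706) (Nat.ble 706 c)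
noncomputable def Btab_s_704_707 (c : Nat) : Nat := @Bool.rec (fun _ => Nat) (Btab_704) (Btab_s_705_707 c) (Nat.ble 705 c)
noncomputable def Btab_s_702_707 (c : Nat) : Nat := @Bool.rec (fun _ => Nat) (Btab_s_702_704 c) (Btab_s_704_707 c) (Nat.ble 704 c)
noncomputable def Btab_s_697_707 (c : Nat) : Nat := @Bool.rec (fun _ => Nat) (Btab_s_697_702 c) (Btab_s_702_707 c) (Nat.ble 702 c)
noncomputable def Btab_s_688_707 (c : Nat) : Nat := @Bool.rec (fun _ => Nat) (Btab_s_688_697 c) (Btab_s_697_707 c) (Nat.ble 697 c)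
noncomputable def Btab_s_670_707 (c : Nat) : Nat := @Bool.rec (fun _ => Nat) (Btab_s_670_688 c) (Btab_s_688_707 c) (Nat.ble 688 c)
noncomputable def Btab_s_707_709 (c : Nat) : Nat := @Bool.rec (fun _ => Nat) (Btab_707) (Btab_708) (Nat.ble 708 c)
noncomputable def Btab_s_709_711 (c : Nat) : Nat := @Bool.rec (fun _ => Nat) (Btab_709) (Btab_710) (Nat.ble 710 c)
noncomputable def Btab_s_707_711 (c : Nat) : Nat := @Bool.rec (fun _ => Nat) (Btab_s_707_709 c) (Btab_s_709_711 c) (Nat.ble 709 c)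
noncomputable def Btab_s_711_713 (c : Nat) : Nat := @Bool.rec (fun _ => Nat) (Btab_711) (Btab_712) (Nat.ble 712 c)
noncomputable def Btab_s_714_716 (c : Nat) : Nat := @Bool.rec (fun _ => Nat) (Btab_714) (Btab_715) (Nat.ble 715 c)
noncomputable def Btab_s_713_716 (c : Nat) : Nat := @Bool.rec (fun _ => Nat) (Btab_713) (Btab_s_714_716 c) (Nat.ble 714 c)
noncomputable def Btab_s_711_716 (c : Nat) : Nat := @Bool.rec (fun _ => Nat) (Btab_s_711_713 c) (Btab_s_713_716 c) (Nat.ble 713 c)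
noncomputable def Btab_s_707_716 (c : Nat) : Nat := @Bool.rec (fun _ => Nat) (Btab_s_707_711 c) (Btab_s_711_716 c) (Nat.ble 711 c)
noncomputable def Btab_s_716_718 (c : Nat) : Nat := @Bool.rec (fun _ => Nat) (Btab_716) (Btab_717) (Nat.ble 717 c)
noncomputable def Btab_s_719_721 (c : Nat) : Nat := @Bool.rec (fun _ => Nat) (Btab_719) (Btab_720) (Nat.ble 720 c)
noncomputable def Btab_s_718_721 (c : Nat) : Nat := @Bool.rec (fun _ => Nat) (Btab_718) (Btab_s_719_721 c) (Nat.ble 719 c)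
noncomputable def Btab_s_716_721 (c : Nat) : Nat := @Bool.rec (fun _ => Nat) (Btab_s_716_718 c) (Btab_s_718_721 c) (Nat.ble 718 c)
noncomputable def Btab_s_721_723 (c : Nat) : Nat := @Bool.rec (fun _ => Nat) (Btab_721) (Btab_722) (Nat.ble 722 c)
noncomputable def Btab_s_724_726 (c : Nat) : Nat := @Bool.rec (fun _ => Nat) (Btab_724) (Btab_725) (Nat.ble 725 c)
noncomputable def Btab_s_723_726 (c : Nat) : Nat := @Bool.rec (fun _ => Nat) (Btab_723) (Btab_s_724_726 c) (Nat.ble 724 c)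
noncomputable def Btab_s_721_726 (c : Nat) : Nat := @Bool.rec (fun _ => Nat) (Btab_s_721_723 c) (Btab_s_723_726 c) (Nat.ble 723 c)
noncomputable def Btab_s_716_726 (c : Nat) : Nat := @Bool.rec (fun _ => Nat) (Btab_s_716_721 c) (Btab_s_721_726 c) (Nat.ble 721 c)
noncomputable def Btab_s_707_726 (c : Nat) : Nat := @Bool.rec (fun _ => Nat) (Btab_s_707_716 c) (Btab_s_716_726 c) (Nat.ble 716 c)
noncomputable def Btab_s_726_728 (c : Nat) : Nat := @Bool.rec (fun _ => Nat) (Btab_726) (Btab_727) (Nat.ble 727 c)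
noncomputable def Btab_s_728_730 (c : Nat) : Nat := @Bool.rec (fun _ => Nat) (Btab_728) (Btab_729) (Nat.ble 729 c)
noncomputable def Btab_s_726_730 (c : Nat) : Nat := @Bool.rec (fun _ => Nat) (Btab_s_726_728 c) (Btab_s_728_730 c) (Nat.ble 728 c)
noncomputable def Btab_s_730_732 (c : Nat) : Nat := @Bool.rec (fun _ => Nat) (Btab_730) (Btab_731) (Nat.ble 731 c)
noncomputable def Btab_s_733_735 (c : Nat) : Nat := @Bool.rec (fun _ => Nat) (Btab_733) (Btab_734) (Nat.ble 734 c)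
noncomputable def Btab_s_732_735 (c : Nat) : Nat := @Bool.rec (fun _ => Nat) (Btab_732) (Btab_s_733_735 c) (Nat.ble 733 c)
noncomputable def Btab_s_730_735 (c : Nat) : Nat := @Bool.rec (fun _ => Nat) (Btab_s_730_732 c) (Btab_s_732_735 c) (Nat.ble 732 c)
noncomputable def Btab_s_726_735 (c : Nat) : Nat := @Bool.rec (fun _ => Nat) (Btab_s_726_730 c) (Btab_s_730_735 c) (Nat.ble 730 c)
noncomputable def Btab_s_735_737 (c : Nat) : Nat := @Bool.rec (fun _ => Nat) (Btab_735) (Btab_736) (Nat.ble 736 c)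
noncomputable def Btab_s_738_740 (c : Nat) : Nat := @Bool.rec (fun _ => Nat) (Btab_738) (Btab_739) (Nat.ble 739 c)
noncomputable def Btab_s_737_740 (c : Nat) : Nat := @Bool.rec (fun _ => Nat) (Btab_737) (Btab_s_738_740 c) (Nat.ble 738 c)
noncomputable def Btab_s_735_740 (c : Nat) : Nat := @Bool.rec (fun _ => Nat) (Btab_s_735_737 c) (Btab_s_737_740 c) (Nat.ble 737 c)
noncomputable def Btab_s_740_742 (c : Nat) : Nat := @Bool.rec (fun _ => Nat) (Btab_740) (Btab_741) (Nat.ble 741 c)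
noncomputable def Btab_s_743_745 (c : Nat) : Nat := @Bool.rec (fun _ => Nat) (Btab_743) (Btab_744) (Nat.ble 744 c)
noncomputable def Btab_s_742_745 (c : Nat) : Nat := @Bool.rec (fun _ => Nat) (Btab_742) (Btab_s_743_745 c) (Nat.ble 743 c)
noncomputable def Btab_s_740_745 (c : Nat) : Nat := @Bool.rec (fun _ => Nat) (Btab_s_740_742 c) (Btab_s_742_745 c) (Nat.ble 742 c)
noncomputable def Btab_s_735_745 (c : Nat) : Nat := @Bool.rec (fun _ => Nat) (Btab_s_735_740 c) (Btab_s_740_745 c) (Nat.ble 740 c)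
noncomputable def Btab_s_726_745 (c : Nat) : Nat := @Bool.rec (fun _ => Nat) (Btab_s_726_735 c) (Btab_s_735_745 c) (Nat.ble 735 c)
noncomputable def Btab_s_707_745 (c : Nat) : Nat := @Bool.rec (fun _ => Nat) (Btab_s_707_726 c) (Btab_s_726_745 c) (Nat.ble 726 c)
noncomputable def Btab_s_670_745 (c : Nat) : Nat := @Bool.rec (fun _ => Nat) (Btab_s_670_707 c) (Btab_s_707_745 c) (Nat.ble 707 c)
noncomputable def Btab_s_596_745 (c : Nat) : Nat := @Bool.rec (fun _ => Nat) (Btab_s_596_670 c) (Btab_s_670_745 c) (Nat.ble 670 c)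
noncomputable def Btab_s_745_747 (c : Nat) : Nat := @Bool.rec (fun _ => Nat) (Btab_745) (Btab_746) (Nat.ble 746 c)
noncomputable def Btab_s_747_749 (c : Nat) : Nat := @Bool.rec (fun _ => Nat) (Btab_747) (Btab_748) (Nat.ble 748 c)
noncomputable def Btab_s_745_749 (c : Nat) : Nat := @Bool.rec (fun _ => Nat) (Btab_s_745_747 c) (Btab_s_747_749 c) (Nat.ble 747 c)
noncomputable def Btab_s_749_751 (c : Nat) : Nat := @Bool.rec (fun _ => Nat) (Btab_749) (Btab_750) (Nat.ble 750 c)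
noncomputable def Btab_s_752_754 (c : Nat) : Nat := @Bool.rec (fun _ => Nat) (Btab_752) (Btab_753) (Nat.ble 753 c)
noncomputable def Btab_s_751_754 (c : Nat) : Nat := @Bool.rec (fun _ => Nat) (Btab_751) (Btab_s_752_754 c) (Nat.ble 752 c)
noncomputable def Btab_s_749_754 (c : Nat) : Nat := @Bool.rec (fun _ => Nat) (Btab_s_749_751 c) (Btab_s_751_754 c) (Nat.ble 751 c)
noncomputable def Btab_s_745_754 (c : Nat) : Nat := @Bool.rec (fun _ => Nat) (Btab_s_745_749 c) (Btab_s_749_754 c) (Nat.ble 749 c)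
noncomputable def Btab_s_754_756 (c : Nat) : Nat := @Bool.rec (fun _ => Nat) (Btab_754) (Btab_755) (Nat.ble 755 c)
noncomputable def Btab_s_756_758 (c : Nat) : Nat := @Bool.rec (fun _ => Nat) (Btab_756) (Btab_757) (Nat.ble 757 c)
noncomputable def Btab_s_754_758 (c : Nat) : Nat := @Bool.rec (fun _ => Nat) (Btab_s_754_756 c) (Btab_s_756_758 c) (Nat.ble 756 c)
noncomputable def Btab_s_758_760 (c : Nat) : Nat := @Bool.rec (fun _ => Nat) (Btab_758) (Btab_759) (Nat.ble 759 c)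
noncomputable def Btab_s_761_763 (c : Nat) : Nat := @Bool.rec (fun _ => Nat) (Btab_761) (Btab_762) (Nat.ble 762 c)
noncomputable def Btab_s_760_763 (c : Nat) : Nat := @Bool.rec (fun _ => Nat) (Btab_760) (Btab_s_761_763 c) (Nat.ble 761 c)
noncomputable def Btab_s_758_763 (c : Nat) : Nat := @Bool.rec (fun _ => Nat) (Btab_s_758_760 c) (Btab_s_760_763 c) (Nat.ble 760 c)
noncomputable def Btab_s_754_763 (c : Nat) : Nat := @Bool.rec (fun _ => Nat) (Btab_s_754_758 c) (Btab_s_758_763 c) (Nat.ble 758 c)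
noncomputable def Btab_s_745_763 (c : Nat) : Nat := @Bool.rec (fun _ => Nat) (Btab_s_745_754 c) (Btab_s_754_763 c) (Nat.ble 754 c)
noncomputable def Btab_s_763_765 (c : Nat) : Nat := @Bool.rec (fun _ => Nat) (Btab_763) (Btab_764) (Nat.ble 764 c)
noncomputable def Btab_s_765_767 (c : Nat) : Nat := @Bool.rec (fun _ => Nat) (Btab_765) (Btab_766) (Nat.ble 766 c)
noncomputable def Btab_s_763_767 (c : Nat) : Nat := @Bool.rec (fun _ => Nat) (Btab_s_763_765 c) (Btab_s_765_767 c) (Nat.ble 765 c)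
noncomputable def Btab_s_767_769 (c : Nat) : Nat := @Bool.rec (fun _ => Nat) (Btab_767) (Btab_768) (Nat.ble 768 c)
noncomputable def Btab_s_770_772 (c : Nat) : Nat := @Bool.rec (fun _ => Nat) (Btab_770) (Btab_771) (Nat.ble 771 c)
noncomputable def Btab_s_769_772 (c : Nat) : Nat := @Bool.rec (fun _ => Nat) (Btab_769) (Btab_s_770_772 c) (Nat.ble 770 c)
noncomputable def Btab_s_767_772 (c : Nat) : Nat := @Bool.rec (fun _ => Nat) (Btab_s_767_769 c) (Btab_s_769_772 c) (Nat.ble 769 c)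
noncomputable def Btab_s_763_772 (c : Nat) : Nat := @Bool.rec (fun _ => Nat) (Btab_s_763_767 c) (Btab_s_767_772 c) (Nat.ble 767 c)
noncomputable def Btab_s_772_774 (c : Nat) : Nat := @Bool.rec (fun _ => Nat) (Btab_772) (Btab_773) (Nat.ble 773 c)
noncomputable def Btab_s_775_777 (c : Nat) : Nat := @Bool.rec (fun _ => Nat) (Btab_775) (Btab_776) (Nat.ble 776 c)
noncomputable def Btab_s_774_777 (c : Nat) : Nat := @Bool.rec (fun _ => Nat) (Btab_774) (Btab_s_775_777 c) (Nat.ble 775 c)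
noncomputable def Btab_s_772_777 (c : Nat) : Nat := @Bool.rec (fun _ => Nat) (Btab_s_772_774 c) (Btab_s_774_777 c) (Nat.ble 774 c)
noncomputable def Btab_s_777_779 (c : Nat) : Nat := @Bool.rec (fun _ => Nat) (Btab_777) (Btab_778) (Nat.ble 778 c)
noncomputable def Btab_s_780_782 (c : Nat) : Nat := @Bool.rec (fun _ => Nat) (Btab_780) (Btab_781) (Nat.ble 781 c)
noncomputable def Btab_s_779_782 (c : Nat) : Nat := @Bool.rec (fun _ => Nat) (Btab_779) (Btab_s_780_782 c) (Nat.ble 780 c)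
noncomputable def Btab_s_777_782 (c : Nat) : Nat := @Bool.rec (fun _ => Nat) (Btab_s_777_779 c) (Btab_s_779_782 c) (Nat.ble 779 c)
noncomputable def Btab_s_772_782 (c : Nat) : Nat := @Bool.rec (fun _ => Nat) (Btab_s_772_777 c) (Btab_s_777_782 c) (Nat.ble 777 c)
noncomputable def Btab_s_763_782 (c : Nat) : Nat := @Bool.rec (fun _ => Nat) (Btab_s_763_772 c) (Btab_s_772_782 c) (Nat.ble 772 c)
noncomputable def Btab_s_745_782 (c : Nat) : Nat := @Bool.rec (fun _ => Nat) (Btab_s_745_763 c) (Btab_s_763_782 c) (Nat.ble 763 c)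
noncomputable def Btab_s_782_784 (c : Nat) : Nat := @Bool.rec (fun _ => Nat) (Btab_782) (Btab_783) (Nat.ble 783 c)
noncomputable def Btab_s_784_786 (c : Nat) : Nat := @Bool.rec (fun _ => Nat) (Btab_784) (Btab_785) (Nat.ble 785 c)
noncomputable def Btab_s_782_786 (c : Nat) : Nat := @Bool.rec (fun _ => Nat) (Btab_s_782_784 c) (Btab_s_784_786 c) (Nat.ble 784 c)
noncomputable def Btab_s_786_788 (c : Nat) : Nat := @Bool.rec (fun _ => Nat) (Btab_786) (Btab_787) (Nat.ble 787 c)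
noncomputable def Btab_s_789_791 (c : Nat) : Nat := @Bool.rec (fun _ => Nat) (Btab_789) (Btab_790) (Nat.ble 790 c)
noncomputable def Btab_s_788_791 (c : Nat) : Nat := @Bool.rec (fun _ => Nat) (Btab_788) (Btab_s_789_791 c) (Nat.ble 789 c)
noncomputable def Btab_s_786_791 (c : Nat) : Nat := @Bool.rec (fun _ => Nat) (Btab_s_786_788 c) (Btab_s_788_791 c) (Nat.ble 788 c)
noncomputable def Btab_s_782_791 (c : Nat) : Nat := @Bool.rec (fun _ => Nat) (Btab_s_782_786 c) (Btab_s_786_791 c) (Nat.ble 786 c)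
noncomputable def Btab_s_791_793 (c : Nat) : Nat := @Bool.rec (fun _ => Nat) (Btab_791) (Btab_792) (Nat.ble 792 c)
noncomputable def Btab_s_793_795 (c : Nat) : Nat := @Bool.rec (fun _ => Nat) (Btab_793) (Btab_794) (Nat.ble 794 c)
noncomputable def Btab_s_791_795 (c : Nat) : Nat := @Bool.rec (fun _ => Nat) (Btab_s_791_793 c) (Btab_s_793_795 c) (Nat.ble 793 c)
noncomputable def Btab_s_795_797 (c : Nat) : Nat := @Bool.rec (fun _ => Nat) (Btab_795) (Btab_796) (Nat.ble 796 c)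
noncomputable def Btab_s_798_800 (c : Nat) : Nat := @Bool.rec (fun _ => Nat) (Btab_798) (Btab_799) (Nat.ble 799 c)
noncomputable def Btab_s_797_800 (c : Nat) : Nat := @Bool.rec (fun _ => Nat) (Btab_797) (Btab_s_798_800 c) (Nat.ble 798 c)
noncomputable def Btab_s_795_800 (c : Nat) : Nat := @Bool.rec (fun _ => Nat) (Btab_s_795_797 c) (Btab_s_797_800 c) (Nat.ble 797 c)
noncomputable def Btab_s_791_800 (c : Nat) : Nat := @Bool.rec (fun _ => Nat) (Btab_s_791_795 c) (Btab_s_795_800 c) (Nat.ble 795 c)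
noncomputable def Btab_s_782_800 (c : Nat) : Nat := @Bool.rec (fun _ => Nat) (Btab_s_782_791 c) (Btab_s_791_800 c) (Nat.ble 791 c)
noncomputable def Btab_s_800_802 (c : Nat) : Nat := @Bool.rec (fun _ => Nat) (Btab_800) (Btab_801) (Nat.ble 801 c)
noncomputable def Btab_s_802_804 (c : Nat) : Nat := @Bool.rec (fun _ => Nat) (Btab_802) (Btab_803) (Nat.ble 803 c)
noncomputable def Btab_s_800_804 (c : Nat) : Nat := @Bool.rec (fun _ => Nat) (Btab_s_800_802 c) (Btab_s_802_804 c) (Nat.ble 802 c)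
noncomputable def Btab_s_804_806 (c : Nat) : Nat := @Bool.rec (fun _ => Nat) (Btab_804) (Btab_805) (Nat.ble 805 c)
noncomputable def Btab_s_807_809 (c : Nat) : Nat := @Bool.rec (fun _ => Nat) (Btab_807) (Btab_808) (Nat.ble 808 c)
noncomputable def Btab_s_806_809 (c : Nat) : Nat := @Bool.rec (fun _ => Nat) (Btab_806) (Btab_s_807_809 c) (Nat.ble 807 c)
noncomputable def Btab_s_804_809 (c : Nat) : Nat := @Bool.rec (fun _ => Nat) (Btab_s_804_806 c) (Btab_s_806_809 c) (Nat.ble 806 c)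
noncomputable def Btab_s_800_809 (c : Nat) : Nat := @Bool.rec (fun _ => Nat) (Btab_s_800_804 c) (Btab_s_804_809 c) (Nat.ble 804 c)
noncomputable def Btab_s_809_811 (c : Nat) : Nat := @Bool.rec (fun _ => Nat) (Btab_809) (Btab_810) (Nat.ble 810 c)
noncomputable def Btab_s_812_814 (c : Nat) : Nat := @Bool.rec (fun _ => Nat) (Btab_812) (Btab_813) (Nat.ble 813 c)
noncomputable def Btab_s_811_814 (c : Nat) : Nat := @Bool.rec (fun _ => Nat) (Btab_811) (Btab_s_812_814 c) (Nat.ble 812 c)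
noncomputable def Btab_s_809_814 (c : Nat) : Nat := @Bool.rec (fun _ => Nat) (Btab_s_809_811 c) (Btab_s_811_814 c) (Nat.ble 811 c)
noncomputable def Btab_s_814_816 (c : Nat) : Nat := @Bool.rec (fun _ => Nat) (Btab_814) (Btab_815) (Nat.ble 815 c)
noncomputable def Btab_s_817_819 (c : Nat) : Nat := @Bool.rec (fun _ => Nat) (Btab_817) (Btab_818) (Nat.ble 818 c)
noncomputable def Btab_s_816_819 (c : Nat) : Nat := @Bool.rec (fun _ => Nat) (Btab_816) (Btab_s_817_819 c) (Nat.ble 817 c)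
noncomputable def Btab_s_814_819 (c : Nat) : Nat := @Bool.rec (fun _ => Nat) (Btab_s_814_816 c) (Btab_s_816_819 c) (Nat.ble 816 c)
noncomputable def Btab_s_809_819 (c : Nat) : Nat := @Bool.rec (fun _ => Nat) (Btab_s_809_814 c) (Btab_s_814_819 c) (Nat.ble 814 c)
noncomputable def Btab_s_800_819 (c : Nat) : Nat := @Bool.rec (fun _ => Nat) (Btab_s_800_809 c) (Btab_s_809_819 c) (Nat.ble 809 c)
noncomputable def Btab_s_782_819 (c : Nat) : Nat := @Bool.rec (fun _ => Nat) (Btab_s_782_800 c) (Btab_s_800_819 c) (Nat.ble 800 c)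
noncomputable def Btab_s_745_819 (c : Nat) : Nat := @Bool.rec (fun _ => Nat) (Btab_s_745_782 c) (Btab_s_782_819 c) (Nat.ble 782 c)
noncomputable def Btab_s_819_821 (c : Nat) : Nat := @Bool.rec (fun _ => Nat) (Btab_819) (Btab_820) (Nat.ble 820 c)
noncomputable def Btab_s_821_823 (c : Nat) : Nat := @Bool.rec (fun _ => Nat) (Btab_821) (Btab_822) (Nat.ble 822 c)
noncomputable def Btab_s_819_823 (c : Nat) : Nat := @Bool.rec (fun _ => Nat) (Btab_s_819_821 c) (Btab_s_821_823 c) (Nat.ble 821 c)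
noncomputable def Btab_s_823_825 (c : Nat) : Nat := @Bool.rec (fun _ => Nat) (Btab_823) (Btab_824) (Nat.ble 824 c)
noncomputable def Btab_s_826_828 (c : Nat) : Nat := @Bool.rec (fun _ => Nat) (Btab_826) (Btab_827) (Nat.ble 827 c)
noncomputable def Btab_s_825_828 (c : Nat) : Nat := @Bool.rec (fun _ => Nat) (Btab_825) (Btab_s_826_828 c) (Nat.ble 826 c)
noncomputable def Btab_s_823_828 (c : Nat) : Nat := @Bool.rec (fun _ => Nat) (Btab_s_823_825 c) (Btab_s_825_828 c) (Nat.ble 825 c)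
noncomputable def Btab_s_819_828 (c : Nat) : Nat := @Bool.rec (fun _ => Nat) (Btab_s_819_823 c) (Btab_s_823_828 c) (Nat.ble 823 c)
noncomputable def Btab_s_828_830 (c : Nat) : Nat := @Bool.rec (fun _ => Nat) (Btab_828) (Btab_829) (Nat.ble 829 c)
noncomputable def Btab_s_830_832 (c : Nat) : Nat := @Bool.rec (fun _ => Nat) (Btab_830) (Btab_831) (Nat.ble 831 c)
noncomputable def Btab_s_828_832 (c : Nat) : Nat := @Bool.rec (fun _ => Nat) (Btab_s_828_830 c) (Btab_s_830_832 c) (Nat.ble 830 c)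
noncomputable def Btab_s_832_834 (c : Nat) : Nat := @Bool.rec (fun _ => Nat) (Btab_832) (Btab_833) (Nat.ble 833 c)
noncomputable def Btab_s_835_837 (c : Nat) : Nat := @Bool.rec (fun _ => Nat) (Btab_835) (Btab_836) (Nat.ble 836 c)
noncomputable def Btab_s_834_837 (c : Nat) : Nat := @Bool.rec (fun _ => Nat) (Btab_834) (Btab_s_835_837 c) (Nat.ble 835 c)
noncomputable def Btab_s_832_837 (c : Nat) : Nat := @Bool.rec (fun _ => Nat) (Btab_s_832_834 c) (Btab_s_834_837 c) (Nat.ble 834 c)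
noncomputable def Btab_s_828_837 (c : Nat) : Nat := @Bool.rec (fun _ => Nat) (Btab_s_828_832 c) (Btab_s_832_837 c) (Nat.ble 832 c)
noncomputable def Btab_s_819_837 (c : Nat) : Nat := @Bool.rec (fun _ => Nat) (Btab_s_819_828 c) (Btab_s_828_837 c) (Nat.ble 828 c)
noncomputable def Btab_s_837_839 (c : Nat) : Nat := @Bool.rec (fun _ => Nat) (Btab_837) (Btab_838) (Nat.ble 838 c)
noncomputable def Btab_s_839_841 (c : Nat) : Nat := @Bool.rec (fun _ => Nat) (Btab_839) (Btab_840) (Nat.ble 840 c)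
noncomputable def Btab_s_837_841 (c : Nat) : Nat := @Bool.rec (fun _ => Nat) (Btab_s_837_839 c) (Btab_s_839_841 c) (Nat.ble 839 c)
noncomputable def Btab_s_841_843 (c : Nat) : Nat := @Bool.rec (fun _ => Nat) (Btab_841) (Btab_842) (Nat.ble 842 c)
noncomputable def Btab_s_844_846 (c : Nat) : Nat := @Bool.rec (fun _ => Nat) (Btab_844) (Btab_845) (Nat.ble 845 c)
noncomputable def Btab_s_843_846 (c : Nat) : Nat := @Bool.rec (fun _ => Nat) (Btab_843) (Btab_s_844_846 c) (Nat.ble 844 c)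
noncomputable def Btab_s_841_846 (c : Nat) : Nat := @Bool.rec (fun _ => Nat) (Btab_s_841_843 c) (Btab_s_843_846 c) (Nat.ble 843 c)
noncomputable def Btab_s_837_846 (c : Nat) : Nat := @Bool.rec (fun _ => Nat) (Btab_s_837_841 c) (Btab_s_841_846 c) (Nat.ble 841 c)
noncomputable def Btab_s_846_848 (c : Nat) : Nat := @Bool.rec (fun _ => Nat) (Btab_846) (Btab_847) (Nat.ble 847 c)
noncomputable def Btab_s_849_851 (c : Nat) : Nat := @Bool.rec (fun _ => Nat) (Btab_849) (Btab_850) (Nat.ble 850 c)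
noncomputable def Btab_s_848_851 (c : Nat) : Nat := @Bool.rec (fun _ => Nat) (Btab_848) (Btab_s_849_851 c) (Nat.ble 849 c)
noncomputable def Btab_s_846_851 (c : Nat) : Nat := @Bool.rec (fun _ => Nat) (Btab_s_846_848 c) (Btab_s_848_851 c) (Nat.ble 848 c)
noncomputable def Btab_s_851_853 (c : Nat) : Nat := @Bool.rec (fun _ => Nat) (Btab_851) (Btab_852) (Nat.ble 852 c)
noncomputable def Btab_s_854_856 (c : Nat) : Nat := @Bool.rec (fun _ => Nat) (Btab_854) (Btab_855) (Nat.ble 855 c)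
noncomputable def Btab_s_853_856 (c : Nat) : Nat := @Bool.rec (fun _ => Nat) (Btab_853) (Btab_s_854_856 c) (Nat.ble 854 c)
noncomputable def Btab_s_851_856 (c : Nat) : Nat := @Bool.rec (fun _ => Nat) (Btab_s_851_853 c) (Btab_s_853_856 c) (Nat.ble 853 c)
noncomputable def Btab_s_846_856 (c : Nat) : Nat := @Bool.rec (fun _ => Nat) (Btab_s_846_851 c) (Btab_s_851_856 c) (Nat.ble 851 c)
noncomputable def Btab_s_837_856 (c : Nat) : Nat := @Bool.rec (fun _ => Nat) (Btab_s_837_846 c) (Btab_s_846_856 c) (Nat.ble 846 c)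
noncomputable def Btab_s_819_856 (c : Nat) : Nat := @Bool.rec (fun _ => Nat) (Btab_s_819_837 c) (Btab_s_837_856 c) (Nat.ble 837 c)
noncomputable def Btab_s_856_858 (c : Nat) : Nat := @Bool.rec (fun _ => Nat) (Btab_856) (Btab_857) (Nat.ble 857 c)
noncomputable def Btab_s_858_860 (c : Nat) : Nat := @Bool.rec (fun _ => Nat) (Btab_858) (Btab_859) (Nat.ble 859 c)
noncomputable def Btab_s_856_860 (c : Nat) : Nat := @Bool.rec (fun _ => Nat) (Btab_s_856_858 c) (Btab_s_858_860 c) (Nat.ble 858 c)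
noncomputable def Btab_s_860_862 (c : Nat) : Nat := @Bool.rec (fun _ => Nat) (Btab_860) (Btab_861) (Nat.ble 861 c)
noncomputable def Btab_s_863_865 (c : Nat) : Nat := @Bool.rec (fun _ => Nat) (Btab_863) (Btab_864) (Nat.ble 864 c)
noncomputable def Btab_s_862_865 (c : Nat) : Nat := @Bool.rec (fun _ => Nat) (Btab_862) (Btab_s_863_865 c) (Nat.ble 863 c)
noncomputable def Btab_s_860_865 (c : Nat) : Nat := @Bool.rec (fun _ => Nat) (Btab_s_860_862 c) (Btab_s_862_865 c) (Nat.ble 862 c)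
noncomputable def Btab_s_856_865 (c : Nat) : Nat := @Bool.rec (fun _ => Nat) (Btab_s_856_860 c) (Btab_s_860_865 c) (Nat.ble 860 c)
noncomputable def Btab_s_865_867 (c : Nat) : Nat := @Bool.rec (fun _ => Nat) (Btab_865) (Btab_866) (Nat.ble 866 c)
noncomputable def Btab_s_868_870 (c : Nat) : Nat := @Bool.rec (fun _ => Nat) (Btab_868) (Btab_869) (Nat.ble 869 c)
noncomputable def Btab_s_867_870 (c : Nat) : Nat := @Bool.rec (fun _ => Nat) (Btab_867) (Btab_s_868_870 c) (Nat.ble 868 c)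
noncomputable def Btab_s_865_870 (c : Nat) : Nat := @Bool.rec (fun _ => Nat) (Btab_s_865_867 c) (Btab_s_867_870 c) (Nat.ble 867 c)
noncomputable def Btab_s_870_872 (c : Nat) : Nat := @Bool.rec (fun _ => Nat) (Btab_870) (Btab_871) (Nat.ble 871 c)
noncomputable def Btab_s_873_875 (c : Nat) : Nat := @Bool.rec (fun _ => Nat) (Btab_873) (Btab_874) (Nat.ble 874 c)
noncomputable def Btab_s_872_875 (c : Nat) : Nat := @Bool.rec (fun _ => Nat) (Btab_872) (Btab_s_873_875 c) (Nat.ble 873 c)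
noncomputable def Btab_s_870_875 (c : Nat) : Nat := @Bool.rec (fun _ => Nat) (Btab_s_870_872 c) (Btab_s_872_875 c) (Nat.ble 872 c)
noncomputable def Btab_s_865_875 (c : Nat) : Nat := @Bool.rec (fun _ => Nat) (Btab_s_865_870 c) (Btab_s_870_875 c) (Nat.ble 870 c)
noncomputable def Btab_s_856_875 (c : Nat) : Nat := @Bool.rec (fun _ => Nat) (Btab_s_856_865 c) (Btab_s_865_875 c) (Nat.ble 865 c)
noncomputable def Btab_s_875_877 (c : Nat) : Nat := @Bool.rec (fun _ => Nat) (Btab_875) (Btab_876) (Nat.ble 876 c)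
noncomputable def Btab_s_877_879 (c : Nat) : Nat := @Bool.rec (fun _ => Nat) (Btab_877) (Btab_878) (Nat.ble 878 c)
noncomputable def Btab_s_875_879 (c : Nat) : Nat := @Bool.rec (fun _ => Nat) (Btab_s_875_877 c) (Btab_s_877_879 c) (Nat.ble 877 c)
noncomputable def Btab_s_879_881 (c : Nat) : Nat := @Bool.rec (fun _ => Nat) (Btab_879) (Btab_880) (Nat.ble 880 c)
noncomputable def Btab_s_882_884 (c : Nat) : Nat := @Bool.rec (fun _ => Nat) (Btab_882) (Btab_883) (Nat.ble 883 c)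
noncomputable def Btab_s_881_884 (c : Nat) : Nat := @Bool.rec (fun _ => Nat) (Btab_881) (Btab_s_882_884 c) (Nat.ble 882 c)
noncomputable def Btab_s_879_884 (c : Nat) : Nat := @Bool.rec (fun _ => Nat) (Btab_s_879_881 c) (Btab_s_881_884 c) (Nat.ble 881 c)
noncomputable def Btab_s_875_884 (c : Nat) : Nat := @Bool.rec (fun _ => Nat) (Btab_s_875_879 c) (Btab_s_879_884 c) (Nat.ble 879 c)
noncomputable def Btab_s_884_886 (c : Nat) : Nat := @Bool.rec (fun _ => Nat) (Btab_884) (Btab_885) (Nat.ble 885 c)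
noncomputable def Btab_s_887_889 (c : Nat) : Nat := @Bool.rec (fun _ => Nat) (Btab_887) (Btab_888) (Nat.ble 888 c)
noncomputable def Btab_s_886_889 (c : Nat) : Nat := @Bool.rec (fun _ => Nat) (Btab_886) (Btab_s_887_889 c) (Nat.ble 887 c)
noncomputable def Btab_s_884_889 (c : Nat) : Nat := @Bool.rec (fun _ => Nat) (Btab_s_884_886 c) (Btab_s_886_889 c) (Nat.ble 886 c)
noncomputable def Btab_s_889_891 (c : Nat) : Nat := @Bool.rec (fun _ => Nat) (Btab_889) (Btab_890) (Nat.ble 890 c)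
noncomputable def Btab_s_892_894 (c : Nat) : Nat := @Bool.rec (fun _ => Nat) (Btab_892) (Btab_893) (Nat.ble 893 c)
noncomputable def Btab_s_891_894 (c : Nat) : Nat := @Bool.rec (fun _ => Nat) (Btab_891) (Btab_s_892_894 c) (Nat.ble 892 c)
noncomputable def Btab_s_889_894 (c : Nat) : Nat := @Bool.rec (fun _ => Nat) (Btab_s_889_891 c) (Btab_s_891_894 c) (Nat.ble 891 c)
noncomputable def Btab_s_884_894 (c : Nat) : Nat := @Bool.rec (fun _ => Nat) (Btab_s_884_889 c) (Btab_s_889_894 c) (Nat.ble 889 c)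
noncomputable def Btab_s_875_894 (c : Nat) : Nat := @Bool.rec (fun _ => Nat) (Btab_s_875_884 c) (Btab_s_884_894 c) (Nat.ble 884 c)
noncomputable def Btab_s_856_894 (c : Nat) : Nat := @Bool.rec (fun _ => Nat) (Btab_s_856_875 c) (Btab_s_875_894 c) (Nat.ble 875 c)
noncomputable def Btab_s_819_894 (c : Nat) : Nat := @Bool.rec (fun _ => Nat) (Btab_s_819_856 c) (Btab_s_856_894 c) (Nat.ble 856 c)
noncomputable def Btab_s_745_894 (c : Nat) : Nat := @Bool.rec (fun _ => Nat) (Btab_s_745_819 c) (Btab_s_819_894 c) (Nat.ble 819 c)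
noncomputable def Btab_s_596_894 (c : Nat) : Nat := @Bool.rec (fun _ => Nat) (Btab_s_596_745 c) (Btab_s_745_894 c) (Nat.ble 745 c)
noncomputable def Btab_s_894_896 (c : Nat) : Nat := @Bool.rec (fun _ => Nat) (Btab_894) (Btab_895) (Nat.ble 895 c)
noncomputable def Btab_s_896_898 (c : Nat) : Nat := @Bool.rec (fun _ => Nat) (Btab_896) (Btab_897) (Nat.ble 897 c)
noncomputable def Btab_s_894_898 (c : Nat) : Nat := @Bool.rec (fun _ => Nat) (Btab_s_894_896 c) (Btab_s_896_898 c) (Nat.ble 896 c)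
noncomputable def Btab_s_898_900 (c : Nat) : Nat := @Bool.rec (fun _ => Nat) (Btab_898) (Btab_899) (Nat.ble 899 c)
noncomputable def Btab_s_901_903 (c : Nat) : Nat := @Bool.rec (fun _ => Nat) (Btab_901) (Btab_902) (Nat.ble 902 c)
noncomputable def Btab_s_900_903 (c : Nat) : Nat := @Bool.rec (fun _ => Nat) (Btab_900) (Btab_s_901_903 c) (Nat.ble 901 c)
noncomputable def Btab_s_898_903 (c : Nat) : Nat := @Bool.rec (fun _ => Nat) (Btab_s_898_900 c) (Btab_s_900_903 c) (Nat.ble 900 c)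
noncomputable def Btab_s_894_903 (c : Nat) : Nat := @Bool.rec (fun _ => Nat) (Btab_s_894_898 c) (Btab_s_898_903 c) (Nat.ble 898 c)
noncomputable def Btab_s_903_905 (c : Nat) : Nat := @Bool.rec (fun _ => Nat) (Btab_903) (Btab_904) (Nat.ble 904 c)
noncomputable def Btab_s_905_907 (c : Nat) : Nat := @Bool.rec (fun _ => Nat) (Btab_905) (Btab_906) (Nat.ble 906 c)
noncomputable def Btab_s_903_907 (c : Nat) : Nat := @Bool.rec (fun _ => Nat) (Btab_s_903_905 c) (Btab_s_905_907 c) (Nat.ble 905 c)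
noncomputable def Btab_s_907_909 (c : Nat) : Nat := @Bool.rec (fun _ => Nat) (Btab_907) (Btab_908) (Nat.ble 908 c)
noncomputable def Btab_s_910_912 (c : Nat) : Nat := @Bool.rec (fun _ => Nat) (Btab_910) (Btab_911) (Nat.ble 911 c)
noncomputable def Btab_s_909_912 (c : Nat) : Nat := @Bool.rec (fun _ => Nat) (Btab_909) (Btab_s_910_912 c) (Nat.ble 910 c)
noncomputable def Btab_s_907_912 (c : Nat) : Nat := @Bool.rec (fun _ => Nat) (Btab_s_907_909 c) (Btab_s_909_912 c) (Nat.ble 909 c)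
noncomputable def Btab_s_903_912 (c : Nat) : Nat := @Bool.rec (fun _ => Nat) (Btab_s_903_907 c) (Btab_s_907_912 c) (Nat.ble 907 c)
noncomputable def Btab_s_894_912 (c : Nat) : Nat := @Bool.rec (fun _ => Nat) (Btab_s_894_903 c) (Btab_s_903_912 c) (Nat.ble 903 c)
noncomputable def Btab_s_912_914 (c : Nat) : Nat := @Bool.rec (fun _ => Nat) (Btab_912) (Btab_913) (Nat.ble 913 c)
noncomputable def Btab_s_914_916 (c : Nat) : Nat := @Bool.rec (fun _ => Nat) (Btab_914) (Btab_915) (Nat.ble 915 c)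
noncomputable def Btab_s_912_916 (c : Nat) : Nat := @Bool.rec (fun _ => Nat) (Btab_s_912_914 c) (Btab_s_914_916 c) (Nat.ble 914 c)
noncomputable def Btab_s_916_918 (c : Nat) : Nat := @Bool.rec (fun _ => Nat) (Btab_916) (Btab_917) (Nat.ble 917 c)
noncomputable def Btab_s_919_921 (c : Nat) : Nat := @Bool.rec (fun _ => Nat) (Btab_919) (Btab_920) (Nat.ble 920 c)
noncomputable def Btab_s_918_921 (c : Nat) : Nat := @Bool.rec (fun _ => Nat) (Btab_918) (Btab_s_919_921 c) (Nat.ble 919 c)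
noncomputable def Btab_s_916_921 (c : Nat) : Nat := @Bool.rec (fun _ => Nat) (Btab_s_916_918 c) (Btab_s_918_921 c) (Nat.ble 918 c)
noncomputable def Btab_s_912_921 (c : Nat) : Nat := @Bool.rec (fun _ => Nat) (Btab_s_912_916 c) (Btab_s_916_921 c) (Nat.ble 916 c)
noncomputable def Btab_s_921_923 (c : Nat) : Nat := @Bool.rec (fun _ => Nat) (Btab_921) (Btab_922) (Nat.ble 922 c)
noncomputable def Btab_s_924_926 (c : Nat) : Nat := @Bool.rec (fun _ => Nat) (Btab_924) (Btab_925) (Nat.ble 925 c)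
noncomputable def Btab_s_923_926 (c : Nat) : Nat := @Bool.rec (fun _ => Nat) (Btab_923) (Btab_s_924_926 c) (Nat.ble 924 c)
noncomputable def Btab_s_921_926 (c : Nat) : Nat := @Bool.rec (fun _ => Nat) (Btab_s_921_923 c) (Btab_s_923_926 c) (Nat.ble 923 c)
noncomputable def Btab_s_926_928 (c : Nat) : Nat := @Bool.rec (fun _ => Nat) (Btab_926) (Btab_927) (Nat.ble 927 c)
noncomputable def Btab_s_929_931 (c : Nat) : Nat := @Bool.rec (fun _ => Nat) (Btab_929) (Btab_930) (Nat.ble 930 c)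
noncomputable def Btab_s_928_931 (c : Nat) : Nat := @Bool.rec (fun _ => Nat) (Btab_928) (Btab_s_929_931 c) (Nat.ble 929 c)
noncomputable def Btab_s_926_931 (c : Nat) : Nat := @Bool.rec (fun _ => Nat) (Btab_s_926_928 c) (Btab_s_928_931 c) (Nat.ble 928 c)
noncomputable def Btab_s_921_931 (c : Nat) : Nat := @Bool.rec (fun _ => Nat) (Btab_s_921_926 c) (Btab_s_926_931 c) (Nat.ble 926 c)
noncomputable def Btab_s_912_931 (c : Nat) : Nat := @Bool.rec (fun _ => Nat) (Btab_s_912_921 c) (Btab_s_921_931 c) (Nat.ble 921 c)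
noncomputable def Btab_s_894_931 (c : Nat) : Nat := @Bool.rec (fun _ => Nat) (Btab_s_894_912 c) (Btab_s_912_931 c) (Nat.ble 912 c)
noncomputable def Btab_s_931_933 (c : Nat) : Nat := @Bool.rec (fun _ => Nat) (Btab_931) (Btab_932) (Nat.ble 932 c)
noncomputable def Btab_s_933_935 (c : Nat) : Nat := @Bool.rec (fun _ => Nat) (Btab_933) (Btab_934) (Nat.ble 934 c)
noncomputable def Btab_s_931_935 (c : Nat) : Nat := @Bool.rec (fun _ => Nat) (Btab_s_931_933 c) (Btab_s_933_935 c) (Nat.ble 933 c)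
noncomputable def Btab_s_935_937 (c : Nat) : Nat := @Bool.rec (fun _ => Nat) (Btab_935) (Btab_936) (Nat.ble 936 c)
noncomputable def Btab_s_938_940 (c : Nat) : Nat := @Bool.rec (fun _ => Nat) (Btab_938) (Btab_939) (Nat.ble 939 c)
noncomputable def Btab_s_937_940 (c : Nat) : Nat := @Bool.rec (fun _ => Nat) (Btab_937) (Btab_s_938_940 c) (Nat.ble 938 c)
noncomputable def Btab_s_935_940 (c : Nat) : Nat := @Bool.rec (fun _ => Nat) (Btab_s_935_937 c) (Btab_s_937_940 c) (Nat.ble 937 c)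
noncomputable def Btab_s_931_940 (c : Nat) : Nat := @Bool.rec (fun _ => Nat) (Btab_s_931_935 c) (Btab_s_935_940 c) (Nat.ble 935 c)
noncomputable def Btab_s_940_942 (c : Nat) : Nat := @Bool.rec (fun _ => Nat) (Btab_940) (Btab_941) (Nat.ble 941 c)
noncomputable def Btab_s_942_944 (c : Nat) : Nat := @Bool.rec (fun _ => Nat) (Btab_942) (Btab_943) (Nat.ble 943 c)
noncomputable def Btab_s_940_944 (c : Nat) : Nat := @Bool.rec (fun _ => Nat) (Btab_s_940_942 c) (Btab_s_942_944 c) (Nat.ble 942 c)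
noncomputable def Btab_s_944_946 (c : Nat) : Nat := @Bool.rec (fun _ => Nat) (Btab_944) (Btab_945) (Nat.ble 945 c)
noncomputable def Btab_s_947_949 (c : Nat) : Nat := @Bool.rec (fun _ => Nat) (Btab_947) (Btab_948) (Nat.ble 948 c)
noncomputable def Btab_s_946_949 (c : Nat) : Nat := @Bool.rec (fun _ => Nat) (Btab_946) (Btab_s_947_949 c) (Nat.ble 947 c)
noncomputable def Btab_s_944_949 (c : Nat) : Nat := @Bool.rec (fun _ => Nat) (Btab_s_944_946 c) (Btab_s_946_949 c) (Nat.ble 946 c)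
noncomputable def Btab_s_940_949 (c : Nat) : Nat := @Bool.rec (fun _ => Nat) (Btab_s_940_944 c) (Btab_s_944_949 c) (Nat.ble 944 c)
noncomputable def Btab_s_931_949 (c : Nat) : Nat := @Bool.rec (fun _ => Nat) (Btab_s_931_940 c) (Btab_s_940_949 c) (Nat.ble 940 c)
noncomputable def Btab_s_949_951 (c : Nat) : Nat := @Bool.rec (fun _ => Nat) (Btab_949) (Btab_950) (Nat.ble 950 c)
noncomputable def Btab_s_951_953 (c : Nat) : Nat := @Bool.rec (fun _ => Nat) (Btab_951) (Btab_952) (Nat.ble 952 c)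
noncomputable def Btab_s_949_953 (c : Nat) : Nat := @Bool.rec (fun _ => Nat) (Btab_s_949_951 c) (Btab_s_951_953 c) (Nat.ble 951 c)
noncomputable def Btab_s_953_955 (c : Nat) : Nat := @Bool.rec (fun _ => Nat) (Btab_953) (Btab_954) (Nat.ble 954 c)
noncomputable def Btab_s_956_958 (c : Nat) : Nat := @Bool.rec (fun _ => Nat) (Btab_956) (Btab_957) (Nat.ble 957 c)
noncomputable def Btab_s_955_958 (c : Nat) : Nat := @Bool.rec (fun _ => Nat) (Btab_955) (Btab_s_956_958 c) (Nat.ble 956 c)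
noncomputable def Btab_s_953_958 (c : Nat) : Nat := @Bool.rec (fun _ => Nat) (Btab_s_953_955 c) (Btab_s_955_958 c) (Nat.ble 955 c)
noncomputable def Btab_s_949_958 (c : Nat) : Nat := @Bool.rec (fun _ => Nat) (Btab_s_949_953 c) (Btab_s_953_958 c) (Nat.ble 953 c)
noncomputable def Btab_s_958_960 (c : Nat) : Nat := @Bool.rec (fun _ => Nat) (Btab_958) (Btab_959) (Nat.ble 959 c)
noncomputable def Btab_s_961_963 (c : Nat) : Nat := @Bool.rec (fun _ => Nat) (Btab_961) (Btab_962) (Nat.ble 962 c)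
noncomputable def Btab_s_960_963 (c : Nat) : Nat := @Bool.rec (fun _ => Nat) (Btab_960) (Btab_s_961_963 c) (Nat.ble 961 c)
noncomputable def Btab_s_958_963 (c : Nat) : Nat := @Bool.rec (fun _ => Nat) (Btab_s_958_960 c) (Btab_s_960_963 c) (Nat.ble 960 c)
noncomputable def Btab_s_963_965 (c : Nat) : Nat := @Bool.rec (fun _ => Nat) (Btab_963) (Btab_964) (Nat.ble 964 c)
noncomputable def Btab_s_966_968 (c : Nat) : Nat := @Bool.rec (fun _ => Nat) (Btab_966) (Btab_967) (Nat.ble 967 c)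
noncomputable def Btab_s_965_968 (c : Nat) : Nat := @Bool.rec (fun _ => Nat) (Btab_965) (Btab_s_966_968 c) (Nat.ble 966 c)
noncomputable def Btab_s_963_968 (c : Nat) : Nat := @Bool.rec (fun _ => Nat) (Btab_s_963_965 c) (Btab_s_965_968 c) (Nat.ble 965 c)
noncomputable def Btab_s_958_968 (c : Nat) : Nat := @Bool.rec (fun _ => Nat) (Btab_s_958_963 c) (Btab_s_963_968 c) (Nat.ble 963 c)
noncomputable def Btab_s_949_968 (c : Nat) : Nat := @Bool.rec (fun _ => Nat) (Btab_s_949_958 c) (Btab_s_958_968 c) (Nat.ble 958 c)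
noncomputable def Btab_s_931_968 (c : Nat) : Nat := @Bool.rec (fun _ => Nat) (Btab_s_931_949 c) (Btab_s_949_968 c) (Nat.ble 949 c)
noncomputable def Btab_s_894_968 (c : Nat) : Nat := @Bool.rec (fun _ => Nat) (Btab_s_894_931 c) (Btab_s_931_968 c) (Nat.ble 931 c)
noncomputable def Btab_s_968_970 (c : Nat) : Nat := @Bool.rec (fun _ => Nat) (Btab_968) (Btab_969) (Nat.ble 969 c)
noncomputable def Btab_s_970_972 (c : Nat) : Nat := @Bool.rec (fun _ => Nat) (Btab_970) (Btab_971) (Nat.ble 971 c)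
noncomputable def Btab_s_968_972 (c : Nat) : Nat := @Bool.rec (fun _ => Nat) (Btab_s_968_970 c) (Btab_s_970_972 c) (Nat.ble 970 c)
noncomputable def Btab_s_972_974 (c : Nat) : Nat := @Bool.rec (fun _ => Nat) (Btab_972) (Btab_973) (Nat.ble 973 c)
noncomputable def Btab_s_975_977 (c : Nat) : Nat := @Bool.rec (fun _ => Nat) (Btab_975) (Btab_976) (Nat.ble 976 c)
noncomputable def Btab_s_974_977 (c : Nat) : Nat := @Bool.rec (fun _ => Nat) (Btab_974) (Btab_s_975_977 c) (Nat.ble 975 c)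
noncomputable def Btab_s_972_977 (c : Nat) : Nat := @Bool.rec (fun _ => Nat) (Btab_s_972_974 c) (Btab_s_974_977 c) (Nat.ble 974 c)
noncomputable def Btab_s_968_977 (c : Nat) : Nat := @Bool.rec (fun _ => Nat) (Btab_s_968_972 c) (Btab_s_972_977 c) (Nat.ble 972 c)
noncomputable def Btab_s_977_979 (c : Nat) : Nat := @Bool.rec (fun _ => Nat) (Btab_977) (Btab_978) (Nat.ble 978 c)
noncomputable def Btab_s_979_981 (c : Nat) : Nat := @Bool.rec (fun _ => Nat) (Btab_979) (Btab_980) (Nat.ble 980 c)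
noncomputable def Btab_s_977_981 (c : Nat) : Nat := @Bool.rec (fun _ => Nat) (Btab_s_977_979 c) (Btab_s_979_981 c) (Nat.ble 979 c)
noncomputable def Btab_s_981_983 (c : Nat) : Nat := @Bool.rec (fun _ => Nat) (Btab_981) (Btab_982) (Nat.ble 982 c)
noncomputable def Btab_s_984_986 (c : Nat) : Nat := @Bool.rec (fun _ => Nat) (Btab_984) (Btab_985) (Nat.ble 985 c)
noncomputable def Btab_s_983_986 (c : Nat) : Nat := @Bool.rec (fun _ => Nat) (Btab_983) (Btab_s_984_986 c) (Nat.ble 984 c)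
noncomputable def Btab_s_981_986 (c : Nat) : Nat := @Bool.rec (fun _ => Nat) (Btab_s_981_983 c) (Btab_s_983_986 c) (Nat.ble 983 c)
noncomputable def Btab_s_977_986 (c : Nat) : Nat := @Bool.rec (fun _ => Nat) (Btab_s_977_981 c) (Btab_s_981_986 c) (Nat.ble 981 c)
noncomputable def Btab_s_968_986 (c : Nat) : Nat := @Bool.rec (fun _ => Nat) (Btab_s_968_977 c) (Btab_s_977_986 c) (Nat.ble 977 c)
noncomputable def Btab_s_986_988 (c : Nat) : Nat := @Bool.rec (fun _ => Nat) (Btab_986) (Btab_987) (Nat.ble 987 c)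
noncomputable def Btab_s_988_990 (c : Nat) : Nat := @Bool.rec (fun _ => Nat) (Btab_988) (Btab_989) (Nat.ble 989 c)
noncomputable def Btab_s_986_990 (c : Nat) : Nat := @Bool.rec (fun _ => Nat) (Btab_s_986_988 c) (Btab_s_988_990 c) (Nat.ble 988 c)
noncomputable def Btab_s_990_992 (c : Nat) : Nat := @Bool.rec (fun _ => Nat) (Btab_990) (Btab_991) (Nat.ble 991 c)
noncomputable def Btab_s_993_995 (c : Nat) : Nat := @Bool.rec (fun _ => Nat) (Btab_993) (Btab_994) (Nat.ble 994 c)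
noncomputable def Btab_s_992_995 (c : Nat) : Nat := @Bool.rec (fun _ => Nat) (Btab_992) (Btab_s_993_995 c) (Nat.ble 993 c)
noncomputable def Btab_s_990_995 (c : Nat) : Nat := @Bool.rec (fun _ => Nat) (Btab_s_990_992 c) (Btab_s_992_995 c) (Nat.ble 992 c)
noncomputable def Btab_s_986_995 (c : Nat) : Nat := @Bool.rec (fun _ => Nat) (Btab_s_986_990 c) (Btab_s_990_995 c) (Nat.ble 990 c)
noncomputable def Btab_s_995_997 (c : Nat) : Nat := @Bool.rec (fun _ => Nat) (Btab_995) (Btab_996) (Nat.ble 996 c)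
noncomputable def Btab_s_998_1000 (c : Nat) : Nat := @Bool.rec (fun _ => Nat) (Btab_998) (Btab_999) (Nat.ble 999 c)
noncomputable def Btab_s_997_1000 (c : Nat) : Nat := @Bool.rec (fun _ => Nat) (Btab_997) (Btab_s_998_1000 c) (Nat.ble 998 c)
noncomputable def Btab_s_995_1000 (c : Nat) : Nat := @Bool.rec (fun _ => Nat) (Btab_s_995_997 c) (Btab_s_997_1000 c) (Nat.ble 997 c)
noncomputable def Btab_s_1000_1002 (c : Nat) : Nat := @Bool.rec (fun _ => Nat) (Btab_1000) (Btab_1001) (Nat.ble 1001 c)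
noncomputable def Btab_s_1003_1005 (c : Nat) : Nat := @Bool.rec (fun _ => Nat) (Btab_1003) (Btab_1004) (Nat.ble 1004 c)
noncomputable def Btab_s_1002_1005 (c : Nat) : Nat := @Bool.rec (fun _ => Nat) (Btab_1002) (Btab_s_1003_1005 c) (Nat.ble 1003 c)
noncomputable def Btab_s_1000_1005 (c : Nat) : Nat := @Bool.rec (fun _ => Nat) (Btab_s_1000_1002 c) (Btab_s_1002_1005 c) (Nat.ble 1002 c)
noncomputable def Btab_s_995_1005 (c : Nat) : Nat := @Bool.rec (fun _ => Nat) (Btab_s_995_1000 c) (Btab_s_1000_1005 c) (Nat.ble 1000 c)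
noncomputable def Btab_s_986_1005 (c : Nat) : Nat := @Bool.rec (fun _ => Nat) (Btab_s_986_995 c) (Btab_s_995_1005 c) (Nat.ble 995 c)
noncomputable def Btab_s_968_1005 (c : Nat) : Nat := @Bool.rec (fun _ => Nat) (Btab_s_968_986 c) (Btab_s_986_1005 c) (Nat.ble 986 c)
noncomputable def Btab_s_1005_1007 (c : Nat) : Nat := @Bool.rec (fun _ => Nat) (Btab_1005) (Btab_1006) (Nat.ble 1006 c)
noncomputable def Btab_s_1007_1009 (c : Nat) : Nat := @Bool.rec (fun _ => Nat) (Btab_1007) (Btab_1008) (Nat.ble 1008 c)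
noncomputable def Btab_s_1005_1009 (c : Nat) : Nat := @Bool.rec (fun _ => Nat) (Btab_s_1005_1007 c) (Btab_s_1007_1009 c) (Nat.ble 1007 c)
noncomputable def Btab_s_1009_1011 (c : Nat) : Nat := @Bool.rec (fun _ => Nat) (Btab_1009) (Btab_1010) (Nat.ble 1010 c)
noncomputable def Btab_s_1012_1014 (c : Nat) : Nat := @Bool.rec (fun _ => Nat) (Btab_1012) (Btab_1013) (Nat.ble 1013 c)
noncomputable def Btab_s_1011_1014 (c : Nat) : Nat := @Bool.rec (fun _ => Nat) (Btab_1011) (Btab_s_1012_1014 c) (Nat.ble 1012 c)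
noncomputable def Btab_s_1009_1014 (c : Nat) : Nat := @Bool.rec (fun _ => Nat) (Btab_s_1009_1011 c) (Btab_s_1011_1014 c) (Nat.ble 1011 c)
noncomputable def Btab_s_1005_1014 (c : Nat) : Nat := @Bool.rec (fun _ => Nat) (Btab_s_1005_1009 c) (Btab_s_1009_1014 c) (Nat.ble 1009 c)
noncomputable def Btab_s_1014_1016 (c : Nat) : Nat := @Bool.rec (fun _ => Nat) (Btab_1014) (Btab_1015) (Nat.ble 1015 c)
noncomputable def Btab_s_1017_1019 (c : Nat) : Nat := @Bool.rec (fun _ => Nat) (Btab_1017) (Btab_1018) (Nat.ble 1018 c)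
noncomputable def Btab_s_1016_1019 (c : Nat) : Nat := @Bool.rec (fun _ => Nat) (Btab_1016) (Btab_s_1017_1019 c) (Nat.ble 1017 c)
noncomputable def Btab_s_1014_1019 (c : Nat) : Nat := @Bool.rec (fun _ => Nat) (Btab_s_1014_1016 c) (Btab_s_1016_1019 c) (Nat.ble 1016 c)
noncomputable def Btab_s_1019_1021 (c : Nat) : Nat := @Bool.rec (fun _ => Nat) (Btab_1019) (Btab_1020) (Nat.ble 1020 c)
noncomputable def Btab_s_1022_1024 (c : Nat) : Nat := @Bool.rec (fun _ => Nat) (Btab_1022) (Btab_1023) (Nat.ble 1023 c)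
noncomputable def Btab_s_1021_1024 (c : Nat) : Nat := @Bool.rec (fun _ => Nat) (Btab_1021) (Btab_s_1022_1024 c) (Nat.ble 1022 c)
noncomputable def Btab_s_1019_1024 (c : Nat) : Nat := @Bool.rec (fun _ => Nat) (Btab_s_1019_1021 c) (Btab_s_1021_1024 c) (Nat.ble 1021 c)
noncomputable def Btab_s_1014_1024 (c : Nat) : Nat := @Bool.rec (fun _ => Nat) (Btab_s_1014_1019 c) (Btab_s_1019_1024 c) (Nat.ble 1019 c)
noncomputable def Btab_s_1005_1024 (c : Nat) : Nat := @Bool.rec (fun _ => Nat) (Btab_s_1005_1014 c) (Btab_s_1014_1024 c) (Nat.ble 1014 c)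
noncomputable def Btab_s_1024_1026 (c : Nat) : Nat := @Bool.rec (fun _ => Nat) (Btab_1024) (Btab_1025) (Nat.ble 1025 c)
noncomputable def Btab_s_1026_1028 (c : Nat) : Nat := @Bool.rec (fun _ => Nat) (Btab_1026) (Btab_1027) (Nat.ble 1027 c)
noncomputable def Btab_s_1024_1028 (c : Nat) : Nat := @Bool.rec (fun _ => Nat) (Btab_s_1024_1026 c) (Btab_s_1026_1028 c) (Nat.ble 1026 c)
noncomputable def Btab_s_1028_1030 (c : Nat) : Nat := @Bool.rec (fun _ => Nat) (Btab_1028) (Btab_1029) (Nat.ble 1029 c)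
noncomputable def Btab_s_1031_1033 (c : Nat) : Nat := @Bool.rec (fun _ => Nat) (Btab_1031) (Btab_1032) (Nat.ble 1032 c)
noncomputable def Btab_s_1030_1033 (c : Nat) : Nat := @Bool.rec (fun _ => Nat) (Btab_1030) (Btab_s_1031_1033 c) (Nat.ble 1031 c)
noncomputable def Btab_s_1028_1033 (c : Nat) : Nat := @Bool.rec (fun _ => Nat) (Btab_s_1028_1030 c) (Btab_s_1030_1033 c) (Nat.ble 1030 c)
noncomputable def Btab_s_1024_1033 (c : Nat) : Nat := @Bool.rec (fun _ => Nat) (Btab_s_1024_1028 c) (Btab_s_1028_1033 c) (Nat.ble 1028 c)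
noncomputable def Btab_s_1033_1035 (c : Nat) : Nat := @Bool.rec (fun _ => Nat) (Btab_1033) (Btab_1034) (Nat.ble 1034 c)
noncomputable def Btab_s_1036_1038 (c : Nat) : Nat := @Bool.rec (fun _ => Nat) (Btab_1036) (Btab_1037) (Nat.ble 1037 c)
noncomputable def Btab_s_1035_1038 (c : Nat) : Nat := @Bool.rec (fun _ => Nat) (Btab_1035) (Btab_s_1036_1038 c) (Nat.ble 1036 c)
noncomputable def Btab_s_1033_1038 (c : Nat) : Nat := @Bool.rec (fun _ => Nat) (Btab_s_1033_1035 c) (Btab_s_1035_1038 c) (Nat.ble 1035 c)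
noncomputable def Btab_s_1038_1040 (c : Nat) : Nat := @Bool.rec (fun _ => Nat) (Btab_1038) (Btab_1039) (Nat.ble 1039 c)
noncomputable def Btab_s_1041_1043 (c : Nat) : Nat := @Bool.rec (fun _ => Nat) (Btab_1041) (Btab_1042) (Nat.ble 1042 c)
noncomputable def Btab_s_1040_1043 (c : Nat) : Nat := @Bool.rec (fun _ => Nat) (Btab_1040) (Btab_s_1041_1043 c) (Nat.ble 1041 c)
noncomputable def Btab_s_1038_1043 (c : Nat) : Nat := @Bool.rec (fun _ => Nat) (Btab_s_1038_1040 c) (Btab_s_1040_1043 c) (Nat.ble 1040 c)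
noncomputable def Btab_s_1033_1043 (c : Nat) : Nat := @Bool.rec (fun _ => Nat) (Btab_s_1033_1038 c) (Btab_s_1038_1043 c) (Nat.ble 1038 c)
noncomputable def Btab_s_1024_1043 (c : Nat) : Nat := @Bool.rec (fun _ => Nat) (Btab_s_1024_1033 c) (Btab_s_1033_1043 c) (Nat.ble 1033 c)
noncomputable def Btab_s_1005_1043 (c : Nat) : Nat := @Bool.rec (fun _ => Nat) (Btab_s_1005_1024 c) (Btab_s_1024_1043 c) (Nat.ble 1024 c)
noncomputable def Btab_s_968_1043 (c : Nat) : Nat := @Bool.rec (fun _ => Nat) (Btab_s_968_1005 c) (Btab_s_1005_1043 c) (Nat.ble 1005 c)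
noncomputable def Btab_s_894_1043 (c : Nat) : Nat := @Bool.rec (fun _ => Nat) (Btab_s_894_968 c) (Btab_s_968_1043 c) (Nat.ble 968 c)
noncomputable def Btab_s_1043_1045 (c : Nat) : Nat := @Bool.rec (fun _ => Nat) (Btab_1043) (Btab_1044) (Nat.ble 1044 c)
noncomputable def Btab_s_1045_1047 (c : Nat) : Nat := @Bool.rec (fun _ => Nat) (Btab_1045) (Btab_1046) (Nat.ble 1046 c)
noncomputable def Btab_s_1043_1047 (c : Nat) : Nat := @Bool.rec (fun _ => Nat) (Btab_s_1043_1045 c) (Btab_s_1045_1047 c) (Nat.ble 1045 c)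
noncomputable def Btab_s_1047_1049 (c : Nat) : Nat := @Bool.rec (fun _ => Nat) (Btab_1047) (Btab_1048) (Nat.ble 1048 c)
noncomputable def Btab_s_1050_1052 (c : Nat) : Nat := @Bool.rec (fun _ => Nat) (Btab_1050) (Btab_1051) (Nat.ble 1051 c)
noncomputable def Btab_s_1049_1052 (c : Nat) : Nat := @Bool.rec (fun _ => Nat) (Btab_1049) (Btab_s_1050_1052 c) (Nat.ble 1050 c)
noncomputable def Btab_s_1047_1052 (c : Nat) : Nat := @Bool.rec (fun _ => Nat) (Btab_s_1047_1049 c) (Btab_s_1049_1052 c) (Nat.ble 1049 c)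
noncomputable def Btab_s_1043_1052 (c : Nat) : Nat := @Bool.rec (fun _ => Nat) (Btab_s_1043_1047 c) (Btab_s_1047_1052 c) (Nat.ble 1047 c)
noncomputable def Btab_s_1052_1054 (c : Nat) : Nat := @Bool.rec (fun _ => Nat) (Btab_1052) (Btab_1053) (Nat.ble 1053 c)
noncomputable def Btab_s_1054_1056 (c : Nat) : Nat := @Bool.rec (fun _ => Nat) (Btab_1054) (Btab_1055) (Nat.ble 1055 c)
noncomputable def Btab_s_1052_1056 (c : Nat) : Nat := @Bool.rec (fun _ => Nat) (Btab_s_1052_1054 c) (Btab_s_1054_1056 c) (Nat.ble 1054 c)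
noncomputable def Btab_s_1056_1058 (c : Nat) : Nat := @Bool.rec (fun _ => Nat) (Btab_1056) (Btab_1057) (Nat.ble 1057 c)
noncomputable def Btab_s_1059_1061 (c : Nat) : Nat := @Bool.rec (fun _ => Nat) (Btab_1059) (Btab_1060) (Nat.ble 1060 c)
noncomputable def Btab_s_1058_1061 (c : Nat) : Nat := @Bool.rec (fun _ => Nat) (Btab_1058) (Btab_s_1059_1061 c) (Nat.ble 1059 c)
noncomputable def Btab_s_1056_1061 (c : Nat) : Nat := @Bool.rec (fun _ => Nat) (Btab_s_1056_1058 c) (Btab_s_1058_1061 c) (Nat.ble 1058 c)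
noncomputable def Btab_s_1052_1061 (c : Nat) : Nat := @Bool.rec (fun _ => Nat) (Btab_s_1052_1056 c) (Btab_s_1056_1061 c) (Nat.ble 1056 c)
noncomputable def Btab_s_1043_1061 (c : Nat) : Nat := @Bool.rec (fun _ => Nat) (Btab_s_1043_1052 c) (Btab_s_1052_1061 c) (Nat.ble 1052 c)
noncomputable def Btab_s_1061_1063 (c : Nat) : Nat := @Bool.rec (fun _ => Nat) (Btab_1061) (Btab_1062) (Nat.ble 1062 c)
noncomputable def Btab_s_1063_1065 (c : Nat) : Nat := @Bool.rec (fun _ => Nat) (Btab_1063) (Btab_1064) (Nat.ble 1064 c)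
noncomputable def Btab_s_1061_1065 (c : Nat) : Nat := @Bool.rec (fun _ => Nat) (Btab_s_1061_1063 c) (Btab_s_1063_1065 c) (Nat.ble 1063 c)
noncomputable def Btab_s_1065_1067 (c : Nat) : Nat := @Bool.rec (fun _ => Nat) (Btab_1065) (Btab_1066) (Nat.ble 1066 c)
noncomputable def Btab_s_1068_1070 (c : Nat) : Nat := @Bool.rec (fun _ => Nat) (Btab_1068) (Btab_1069) (Nat.ble 1069 c)
noncomputable def Btab_s_1067_1070 (c : Nat) : Nat := @Bool.rec (fun _ => Nat) (Btab_1067) (Btab_s_1068_1070 c) (Nat.ble 1068 c)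
noncomputable def Btab_s_1065_1070 (c : Nat) : Nat := @Bool.rec (fun _ => Nat) (Btab_s_1065_1067 c) (Btab_s_1067_1070 c) (Nat.ble 1067 c)
noncomputable def Btab_s_1061_1070 (c : Nat) : Nat := @Bool.rec (fun _ => Nat) (Btab_s_1061_1065 c) (Btab_s_1065_1070 c) (Nat.ble 1065 c)
noncomputable def Btab_s_1070_1072 (c : Nat) : Nat := @Bool.rec (fun _ => Nat) (Btab_1070) (Btab_1071) (Nat.ble 1071 c)
noncomputable def Btab_s_1073_1075 (c : Nat) : Nat := @Bool.rec (fun _ => Nat) (Btab_1073) (Btab_1074) (Nat.ble 1074 c)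
noncomputable def Btab_s_1072_1075 (c : Nat) : Nat := @Bool.rec (fun _ => Nat) (Btab_1072) (Btab_s_1073_1075 c) (Nat.ble 1073 c)
noncomputable def Btab_s_1070_1075 (c : Nat) : Nat := @Bool.rec (fun _ => Nat) (Btab_s_1070_1072 c) (Btab_s_1072_1075 c) (Nat.ble 1072 c)
noncomputable def Btab_s_1075_1077 (c : Nat) : Nat := @Bool.rec (fun _ => Nat) (Btab_1075) (Btab_1076) (Nat.ble 1076 c)
noncomputable def Btab_s_1078_1080 (c : Nat) : Nat := @Bool.rec (fun _ => Nat) (Btab_1078) (Btab_1079) (Nat.ble 1079 c)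
noncomputable def Btab_s_1077_1080 (c : Nat) : Nat := @Bool.rec (fun _ => Nat) (Btab_1077) (Btab_s_1078_1080 c) (Nat.ble 1078 c)
noncomputable def Btab_s_1075_1080 (c : Nat) : Nat := @Bool.rec (fun _ => Nat) (Btab_s_1075_1077 c) (Btab_s_1077_1080 c) (Nat.ble 1077 c)
noncomputable def Btab_s_1070_1080 (c : Nat) : Nat := @Bool.rec (fun _ => Nat) (Btab_s_1070_1075 c) (Btab_s_1075_1080 c) (Nat.ble 1075 c)
noncomputable def Btab_s_1061_1080 (c : Nat) : Nat := @Bool.rec (fun _ => Nat) (Btab_s_1061_1070 c) (Btab_s_1070_1080 c) (Nat.ble 1070 c)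
noncomputable def Btab_s_1043_1080 (c : Nat) : Nat := @Bool.rec (fun _ => Nat) (Btab_s_1043_1061 c) (Btab_s_1061_1080 c) (Nat.ble 1061 c)
noncomputable def Btab_s_1080_1082 (c : Nat) : Nat := @Bool.rec (fun _ => Nat) (Btab_1080) (Btab_1081) (Nat.ble 1081 c)
noncomputable def Btab_s_1082_1084 (c : Nat) : Nat := @Bool.rec (fun _ => Nat) (Btab_1082) (Btab_1083) (Nat.ble 1083 c)
noncomputable def Btab_s_1080_1084 (c : Nat) : Nat := @Bool.rec (fun _ => Nat) (Btab_s_1080_1082 c) (Btab_s_1082_1084 c) (Nat.ble 1082 c)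
noncomputable def Btab_s_1084_1086 (c : Nat) : Nat := @Bool.rec (fun _ => Nat) (Btab_1084) (Btab_1085) (Nat.ble 1085 c)
noncomputable def Btab_s_1087_1089 (c : Nat) : Nat := @Bool.rec (fun _ => Nat) (Btab_1087) (Btab_1088) (Nat.ble 1088 c)
noncomputable def Btab_s_1086_1089 (c : Nat) : Nat := @Bool.rec (fun _ => Nat) (Btab_1086) (Btab_s_1087_1089 c) (Nat.ble 1087 c)
noncomputable def Btab_s_1084_1089 (c : Nat) : Nat := @Bool.rec (fun _ => Nat) (Btab_s_1084_1086 c) (Btab_s_1086_1089 c) (Nat.ble 1086 c)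
noncomputable def Btab_s_1080_1089 (c : Nat) : Nat := @Bool.rec (fun _ => Nat) (Btab_s_1080_1084 c) (Btab_s_1084_1089 c) (Nat.ble 1084 c)
noncomputable def Btab_s_1089_1091 (c : Nat) : Nat := @Bool.rec (fun _ => Nat) (Btab_1089) (Btab_1090) (Nat.ble 1090 c)
noncomputable def Btab_s_1091_1093 (c : Nat) : Nat := @Bool.rec (fun _ => Nat) (Btab_1091) (Btab_1092) (Nat.ble 1092 c)
noncomputable def Btab_s_1089_1093 (c : Nat) : Nat := @Bool.rec (fun _ => Nat) (Btab_s_1089_1091 c) (Btab_s_1091_1093 c) (Nat.ble 1091 c)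
noncomputable def Btab_s_1093_1095 (c : Nat) : Nat := @Bool.rec (fun _ => Nat) (Btab_1093) (Btab_1094) (Nat.ble 1094 c)
noncomputable def Btab_s_1096_1098 (c : Nat) : Nat := @Bool.rec (fun _ => Nat) (Btab_1096) (Btab_1097) (Nat.ble 1097 c)
noncomputable def Btab_s_1095_1098 (c : Nat) : Nat := @Bool.rec (fun _ => Nat) (Btab_1095) (Btab_s_1096_1098 c) (Nat.ble 1096 c)
noncomputable def Btab_s_1093_1098 (c : Nat) : Nat := @Bool.rec (fun _ => Nat) (Btab_s_1093_1095 c) (Btab_s_1095_1098 c) (Nat.ble 1095 c)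
noncomputable def Btab_s_1089_1098 (c : Nat) : Nat := @Bool.rec (fun _ => Nat) (Btab_s_1089_1093 c) (Btab_s_1093_1098 c) (Nat.ble 1093 c)
noncomputable def Btab_s_1080_1098 (c : Nat) : Nat := @Bool.rec (fun _ => Nat) (Btab_s_1080_1089 c) (Btab_s_1089_1098 c) (Nat.ble 1089 c)
noncomputable def Btab_s_1098_1100 (c : Nat) : Nat := @Bool.rec (fun _ => Nat) (Btab_1098) (Btab_1099) (Nat.ble 1099 c)
noncomputable def Btab_s_1100_1102 (c : Nat) : Nat := @Bool.rec (fun _ => Nat) (Btab_1100) (Btab_1101) (Nat.ble 1101 c)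
noncomputable def Btab_s_1098_1102 (c : Nat) : Nat := @Bool.rec (fun _ => Nat) (Btab_s_1098_1100 c) (Btab_s_1100_1102 c) (Nat.ble 1100 c)
noncomputable def Btab_s_1102_1104 (c : Nat) : Nat := @Bool.rec (fun _ => Nat) (Btab_1102) (Btab_1103) (Nat.ble 1103 c)
noncomputable def Btab_s_1105_1107 (c : Nat) : Nat := @Bool.rec (fun _ => Nat) (Btab_1105) (Btab_1106) (Nat.ble 1106 c)
noncomputable def Btab_s_1104_1107 (c : Nat) : Nat := @Bool.rec (fun _ => Nat) (Btab_1104) (Btab_s_1105_1107 c) (Nat.ble 1105 c)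
noncomputable def Btab_s_1102_1107 (c : Nat) : Nat := @Bool.rec (fun _ => Nat) (Btab_s_1102_1104 c) (Btab_s_1104_1107 c) (Nat.ble 1104 c)
noncomputable def Btab_s_1098_1107 (c : Nat) : Nat := @Bool.rec (fun _ => Nat) (Btab_s_1098_1102 c) (Btab_s_1102_1107 c) (Nat.ble 1102 c)
noncomputable def Btab_s_1107_1109 (c : Nat) : Nat := @Bool.rec (fun _ => Nat) (Btab_1107) (Btab_1108) (Nat.ble 1108 c)
noncomputable def Btab_s_1110_1112 (c : Nat) : Nat := @Bool.rec (fun _ => Nat) (Btab_1110) (Btab_1111) (Nat.ble 1111 c)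
noncomputable def Btab_s_1109_1112 (c : Nat) : Nat := @Bool.rec (fun _ => Nat) (Btab_1109) (Btab_s_1110_1112 c) (Nat.ble 1110 c)
noncomputable def Btab_s_1107_1112 (c : Nat) : Nat := @Bool.rec (fun _ => Nat) (Btab_s_1107_1109 c) (Btab_s_1109_1112 c) (Nat.ble 1109 c)
noncomputable def Btab_s_1112_1114 (c : Nat) : Nat := @Bool.rec (fun _ => Nat) (Btab_1112) (Btab_1113) (Nat.ble 1113 c)
noncomputable def Btab_s_1115_1117 (c : Nat) : Nat := @Bool.rec (fun _ => Nat) (Btab_1115) (Btab_1116) (Nat.ble 1116 c)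
noncomputable def Btab_s_1114_1117 (c : Nat) : Nat := @Bool.rec (fun _ => Nat) (Btab_1114) (Btab_s_1115_1117 c) (Nat.ble 1115 c)
noncomputable def Btab_s_1112_1117 (c : Nat) : Nat := @Bool.rec (fun _ => Nat) (Btab_s_1112_1114 c) (Btab_s_1114_1117 c) (Nat.ble 1114 c)
noncomputable def Btab_s_1107_1117 (c : Nat) : Nat := @Bool.rec (fun _ => Nat) (Btab_s_1107_1112 c) (Btab_s_1112_1117 c) (Nat.ble 1112 c)
noncomputable def Btab_s_1098_1117 (c : Nat) : Nat := @Bool.rec (fun _ => Nat) (Btab_s_1098_1107 c) (Btab_s_1107_1117 c) (Nat.ble 1107 c)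
noncomputable def Btab_s_1080_1117 (c : Nat) : Nat := @Bool.rec (fun _ => Nat) (Btab_s_1080_1098 c) (Btab_s_1098_1117 c) (Nat.ble 1098 c)
noncomputable def Btab_s_1043_1117 (c : Nat) : Nat := @Bool.rec (fun _ => Nat) (Btab_s_1043_1080 c) (Btab_s_1080_1117 c) (Nat.ble 1080 c)
noncomputable def Btab_s_1117_1119 (c : Nat) : Nat := @Bool.rec (fun _ => Nat) (Btab_1117) (Btab_1118) (Nat.ble 1118 c)
noncomputable def Btab_s_1119_1121 (c : Nat) : Nat := @Bool.rec (fun _ => Nat) (Btab_1119) (Btab_1120) (Nat.ble 1120 c)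
noncomputable def Btab_s_1117_1121 (c : Nat) : Nat := @Bool.rec (fun _ => Nat) (Btab_s_1117_1119 c) (Btab_s_1119_1121 c) (Nat.ble 1119 c)
noncomputable def Btab_s_1121_1123 (c : Nat) : Nat := @Bool.rec (fun _ => Nat) (Btab_1121) (Btab_1122) (Nat.ble 1122 c)
noncomputable def Btab_s_1124_1126 (c : Nat) : Nat := @Bool.rec (fun _ => Nat) (Btab_1124) (Btab_1125) (Nat.ble 1125 c)
noncomputable def Btab_s_1123_1126 (c : Nat) : Nat := @Bool.rec (fun _ => Nat) (Btab_1123) (Btab_s_1124_1126 c) (Nat.ble 1124 c)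
noncomputable def Btab_s_1121_1126 (c : Nat) : Nat := @Bool.rec (fun _ => Nat) (Btab_s_1121_1123 c) (Btab_s_1123_1126 c) (Nat.ble 1123 c)
noncomputable def Btab_s_1117_1126 (c : Nat) : Nat := @Bool.rec (fun _ => Nat) (Btab_s_1117_1121 c) (Btab_s_1121_1126 c) (Nat.ble 1121 c)
noncomputable def Btab_s_1126_1128 (c : Nat) : Nat := @Bool.rec (fun _ => Nat) (Btab_1126) (Btab_1127) (Nat.ble 1127 c)
noncomputable def Btab_s_1128_1130 (c : Nat) : Nat := @Bool.rec (fun _ => Nat) (Btab_1128) (Btab_1129) (Nat.ble 1129 c)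
noncomputable def Btab_s_1126_1130 (c : Nat) : Nat := @Bool.rec (fun _ => Nat) (Btab_s_1126_1128 c) (Btab_s_1128_1130 c) (Nat.ble 1128 c)
noncomputable def Btab_s_1130_1132 (c : Nat) : Nat := @Bool.rec (fun _ => Nat) (Btab_1130) (Btab_1131) (Nat.ble 1131 c)
noncomputable def Btab_s_1133_1135 (c : Nat) : Nat := @Bool.rec (fun _ => Nat) (Btab_1133) (Btab_1134) (Nat.ble 1134 c)
noncomputable def Btab_s_1132_1135 (c : Nat) : Nat := @Bool.rec (fun _ => Nat) (Btab_1132) (Btab_s_1133_1135 c) (Nat.ble 1133 c)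
noncomputable def Btab_s_1130_1135 (c : Nat) : Nat := @Bool.rec (fun _ => Nat) (Btab_s_1130_1132 c) (Btab_s_1132_1135 c) (Nat.ble 1132 c)
noncomputable def Btab_s_1126_1135 (c : Nat) : Nat := @Bool.rec (fun _ => Nat) (Btab_s_1126_1130 c) (Btab_s_1130_1135 c) (Nat.ble 1130 c)
noncomputable def Btab_s_1117_1135 (c : Nat) : Nat := @Bool.rec (fun _ => Nat) (Btab_s_1117_1126 c) (Btab_s_1126_1135 c) (Nat.ble 1126 c)
noncomputable def Btab_s_1135_1137 (c : Nat) : Nat := @Bool.rec (fun _ => Nat) (Btab_1135) (Btab_1136) (Nat.ble 1136 c)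
noncomputable def Btab_s_1137_1139 (c : Nat) : Nat := @Bool.rec (fun _ => Nat) (Btab_1137) (Btab_1138) (Nat.ble 1138 c)
noncomputable def Btab_s_1135_1139 (c : Nat) : Nat := @Bool.rec (fun _ => Nat) (Btab_s_1135_1137 c) (Btab_s_1137_1139 c) (Nat.ble 1137 c)
noncomputable def Btab_s_1139_1141 (c : Nat) : Nat := @Bool.rec (fun _ => Nat) (Btab_1139) (Btab_1140) (Nat.ble 1140 c)
noncomputable def Btab_s_1142_1144 (c : Nat) : Nat := @Bool.rec (fun _ => Nat) (Btab_1142) (Btab_1143) (Nat.ble 1143 c)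
noncomputable def Btab_s_1141_1144 (c : Nat) : Nat := @Bool.rec (fun _ => Nat) (Btab_1141) (Btab_s_1142_1144 c) (Nat.ble 1142 c)
noncomputable def Btab_s_1139_1144 (c : Nat) : Nat := @Bool.rec (fun _ => Nat) (Btab_s_1139_1141 c) (Btab_s_1141_1144 c) (Nat.ble 1141 c)
noncomputable def Btab_s_1135_1144 (c : Nat) : Nat := @Bool.rec (fun _ => Nat) (Btab_s_1135_1139 c) (Btab_s_1139_1144 c) (Nat.ble 1139 c)
noncomputable def Btab_s_1144_1146 (c : Nat) : Nat := @Bool.rec (fun _ => Nat) (Btab_1144) (Btab_1145) (Nat.ble 1145 c)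
noncomputable def Btab_s_1147_1149 (c : Nat) : Nat := @Bool.rec (fun _ => Nat) (Btab_1147) (Btab_1148) (Nat.ble 1148 c)
noncomputable def Btab_s_1146_1149 (c : Nat) : Nat := @Bool.rec (fun _ => Nat) (Btab_1146) (Btab_s_1147_1149 c) (Nat.ble 1147 c)
noncomputable def Btab_s_1144_1149 (c : Nat) : Nat := @Bool.rec (fun _ => Nat) (Btab_s_1144_1146 c) (Btab_s_1146_1149 c) (Nat.ble 1146 c)
noncomputable def Btab_s_1149_1151 (c : Nat) : Nat := @Bool.rec (fun _ => Nat) (Btab_1149) (Btab_1150) (Nat.ble 1150 c)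
noncomputable def Btab_s_1152_1154 (c : Nat) : Nat := @Bool.rec (fun _ => Nat) (Btab_1152) (Btab_1153) (Nat.ble 1153 c)
noncomputable def Btab_s_1151_1154 (c : Nat) : Nat := @Bool.rec (fun _ => Nat) (Btab_1151) (Btab_s_1152_1154 c) (Nat.ble 1152 c)
noncomputable def Btab_s_1149_1154 (c : Nat) : Nat := @Bool.rec (fun _ => Nat) (Btab_s_1149_1151 c) (Btab_s_1151_1154 c) (Nat.ble 1151 c)
noncomputable def Btab_s_1144_1154 (c : Nat) : Nat := @Bool.rec (fun _ => Nat) (Btab_s_1144_1149 c) (Btab_s_1149_1154 c) (Nat.ble 1149 c)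
noncomputable def Btab_s_1135_1154 (c : Nat) : Nat := @Bool.rec (fun _ => Nat) (Btab_s_1135_1144 c) (Btab_s_1144_1154 c) (Nat.ble 1144 c)
noncomputable def Btab_s_1117_1154 (c : Nat) : Nat := @Bool.rec (fun _ => Nat) (Btab_s_1117_1135 c) (Btab_s_1135_1154 c) (Nat.ble 1135 c)
noncomputable def Btab_s_1154_1156 (c : Nat) : Nat := @Bool.rec (fun _ => Nat) (Btab_1154) (Btab_1155) (Nat.ble 1155 c)
noncomputable def Btab_s_1156_1158 (c : Nat) : Nat := @Bool.rec (fun _ => Nat) (Btab_1156) (Btab_1157) (Nat.ble 1157 c)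
noncomputable def Btab_s_1154_1158 (c : Nat) : Nat := @Bool.rec (fun _ => Nat) (Btab_s_1154_1156 c) (Btab_s_1156_1158 c) (Nat.ble 1156 c)
noncomputable def Btab_s_1158_1160 (c : Nat) : Nat := @Bool.rec (fun _ => Nat) (Btab_1158) (Btab_1159) (Nat.ble 1159 c)
noncomputable def Btab_s_1161_1163 (c : Nat) : Nat := @Bool.rec (fun _ => Nat) (Btab_1161) (Btab_1162) (Nat.ble 1162 c)
noncomputable def Btab_s_1160_1163 (c : Nat) : Nat := @Bool.rec (fun _ => Nat) (Btab_1160) (Btab_s_1161_1163 c) (Nat.ble 1161 c)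
noncomputable def Btab_s_1158_1163 (c : Nat) : Nat := @Bool.rec (fun _ => Nat) (Btab_s_1158_1160 c) (Btab_s_1160_1163 c) (Nat.ble 1160 c)
noncomputable def Btab_s_1154_1163 (c : Nat) : Nat := @Bool.rec (fun _ => Nat) (Btab_s_1154_1158 c) (Btab_s_1158_1163 c) (Nat.ble 1158 c)
noncomputable def Btab_s_1163_1165 (c : Nat) : Nat := @Bool.rec (fun _ => Nat) (Btab_1163) (Btab_1164) (Nat.ble 1164 c)
noncomputable def Btab_s_1166_1168 (c : Nat) : Nat := @Bool.rec (fun _ => Nat) (Btab_1166) (Btab_1167) (Nat.ble 1167 c)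
noncomputable def Btab_s_1165_1168 (c : Nat) : Nat := @Bool.rec (fun _ => Nat) (Btab_1165) (Btab_s_1166_1168 c) (Nat.ble 1166 c)
noncomputable def Btab_s_1163_1168 (c : Nat) : Nat := @Bool.rec (fun _ => Nat) (Btab_s_1163_1165 c) (Btab_s_1165_1168 c) (Nat.ble 1165 c)
noncomputable def Btab_s_1168_1170 (c : Nat) : Nat := @Bool.rec (fun _ => Nat) (Btab_1168) (Btab_1169) (Nat.ble 1169 c)
noncomputable def Btab_s_1171_1173 (c : Nat) : Nat := @Bool.rec (fun _ => Nat) (Btab_1171) (Btab_1172) (Nat.ble 1172 c)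
noncomputable def Btab_s_1170_1173 (c : Nat) : Nat := @Bool.rec (fun _ => Nat) (Btab_1170) (Btab_s_1171_1173 c) (Nat.ble 1171 c)
noncomputable def Btab_s_1168_1173 (c : Nat) : Nat := @Bool.rec (fun _ => Nat) (Btab_s_1168_1170 c) (Btab_s_1170_1173 c) (Nat.ble 1170 c)
noncomputable def Btab_s_1163_1173 (c : Nat) : Nat := @Bool.rec (fun _ => Nat) (Btab_s_1163_1168 c) (Btab_s_1168_1173 c) (Nat.ble 1168 c)
noncomputable def Btab_s_1154_1173 (c : Nat) : Nat := @Bool.rec (fun _ => Nat) (Btab_s_1154_1163 c) (Btab_s_1163_1173 c) (Nat.ble 1163 c)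
noncomputable def Btab_s_1173_1175 (c : Nat) : Nat := @Bool.rec (fun _ => Nat) (Btab_1173) (Btab_1174) (Nat.ble 1174 c)
noncomputable def Btab_s_1175_1177 (c : Nat) : Nat := @Bool.rec (fun _ => Nat) (Btab_1175) (Btab_1176) (Nat.ble 1176 c)
noncomputable def Btab_s_1173_1177 (c : Nat) : Nat := @Bool.rec (fun _ => Nat) (Btab_s_1173_1175 c) (Btab_s_1175_1177 c) (Nat.ble 1175 c)
noncomputable def Btab_s_1177_1179 (c : Nat) : Nat := @Bool.rec (fun _ => Nat) (Btab_1177) (Btab_1178) (Nat.ble 1178 c)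
noncomputable def Btab_s_1180_1182 (c : Nat) : Nat := @Bool.rec (fun _ => Nat) (Btab_1180) (Btab_1181) (Nat.ble 1181 c)
noncomputable def Btab_s_1179_1182 (c : Nat) : Nat := @Bool.rec (fun _ => Nat) (Btab_1179) (Btab_s_1180_1182 c) (Nat.ble 1180 c)
noncomputable def Btab_s_1177_1182 (c : Nat) : Nat := @Bool.rec (fun _ => Nat) (Btab_s_1177_1179 c) (Btab_s_1179_1182 c) (Nat.ble 1179 c)
noncomputable def Btab_s_1173_1182 (c : Nat) : Nat := @Bool.rec (fun _ => Nat) (Btab_s_1173_1177 c) (Btab_s_1177_1182 c) (Nat.ble 1177 c)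
noncomputable def Btab_s_1182_1184 (c : Nat) : Nat := @Bool.rec (fun _ => Nat) (Btab_1182) (Btab_1183) (Nat.ble 1183 c)
noncomputable def Btab_s_1185_1187 (c : Nat) : Nat := @Bool.rec (fun _ => Nat) (Btab_1185) (Btab_1186) (Nat.ble 1186 c)
noncomputable def Btab_s_1184_1187 (c : Nat) : Nat := @Bool.rec (fun _ => Nat) (Btab_1184) (Btab_s_1185_1187 c) (Nat.ble 1185 c)
noncomputable def Btab_s_1182_1187 (c : Nat) : Nat := @Bool.rec (fun _ => Nat) (Btab_s_1182_1184 c) (Btab_s_1184_1187 c) (Nat.ble 1184 c)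
noncomputable def Btab_s_1187_1189 (c : Nat) : Nat := @Bool.rec (fun _ => Nat) (Btab_1187) (Btab_1188) (Nat.ble 1188 c)
noncomputable def Btab_s_1190_1192 (c : Nat) : Nat := @Bool.rec (fun _ => Nat) (Btab_1190) (Btab_1191) (Nat.ble 1191 c)
noncomputable def Btab_s_1189_1192 (c : Nat) : Nat := @Bool.rec (fun _ => Nat) (Btab_1189) (Btab_s_1190_1192 c) (Nat.ble 1190 c)
noncomputable def Btab_s_1187_1192 (c : Nat) : Nat := @Bool.rec (fun _ => Nat) (Btab_s_1187_1189 c) (Btab_s_1189_1192 c) (Nat.ble 1189 c)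
noncomputable def Btab_s_1182_1192 (c : Nat) : Nat := @Bool.rec (fun _ => Nat) (Btab_s_1182_1187 c) (Btab_s_1187_1192 c) (Nat.ble 1187 c)
noncomputable def Btab_s_1173_1192 (c : Nat) : Nat := @Bool.rec (fun _ => Nat) (Btab_s_1173_1182 c) (Btab_s_1182_1192 c) (Nat.ble 1182 c)
noncomputable def Btab_s_1154_1192 (c : Nat) : Nat := @Bool.rec (fun _ => Nat) (Btab_s_1154_1173 c) (Btab_s_1173_1192 c) (Nat.ble 1173 c)
noncomputable def Btab_s_1117_1192 (c : Nat) : Nat := @Bool.rec (fun _ => Nat) (Btab_s_1117_1154 c) (Btab_s_1154_1192 c) (Nat.ble 1154 c)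
noncomputable def Btab_s_1043_1192 (c : Nat) : Nat := @Bool.rec (fun _ => Nat) (Btab_s_1043_1117 c) (Btab_s_1117_1192 c) (Nat.ble 1117 c)
noncomputable def Btab_s_894_1192 (c : Nat) : Nat := @Bool.rec (fun _ => Nat) (Btab_s_894_1043 c) (Btab_s_1043_1192 c) (Nat.ble 1043 c)
noncomputable def Btab_s_596_1192 (c : Nat) : Nat := @Bool.rec (fun _ => Nat) (Btab_s_596_894 c) (Btab_s_894_1192 c) (Nat.ble 894 c)
noncomputable def Btab_s_0_1192 (c : Nat) : Nat := @Bool.rec (fun _ => Nat) (Btab_s_0_596 c) (Btab_s_596_1192 c) (Nat.ble 596 c)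
noncomputable def Btab_s_1192_1194 (c : Nat) : Nat := @Bool.rec (fun _ => Nat) (Btab_1192) (Btab_1193) (Nat.ble 1193 c)
noncomputable def Btab_s_1194_1196 (c : Nat) : Nat := @Bool.rec (fun _ => Nat) (Btab_1194) (Btab_1195) (Nat.ble 1195 c)
noncomputable def Btab_s_1192_1196 (c : Nat) : Nat := @Bool.rec (fun _ => Nat) (Btab_s_1192_1194 c) (Btab_s_1194_1196 c) (Nat.ble 1194 c)
noncomputable def Btab_s_1196_1198 (c : Nat) : Nat := @Bool.rec (fun _ => Nat) (Btab_1196) (Btab_1197) (Nat.ble 1197 c)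
noncomputable def Btab_s_1199_1201 (c : Nat) : Nat := @Bool.rec (fun _ => Nat) (Btab_1199) (Btab_1200) (Nat.ble 1200 c)
noncomputable def Btab_s_1198_1201 (c : Nat) : Nat := @Bool.rec (fun _ => Nat) (Btab_1198) (Btab_s_1199_1201 c) (Nat.ble 1199 c)
noncomputable def Btab_s_1196_1201 (c : Nat) : Nat := @Bool.rec (fun _ => Nat) (Btab_s_1196_1198 c) (Btab_s_1198_1201 c) (Nat.ble 1198 c)
noncomputable def Btab_s_1192_1201 (c : Nat) : Nat := @Bool.rec (fun _ => Nat) (Btab_s_1192_1196 c) (Btab_s_1196_1201 c) (Nat.ble 1196 c)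
noncomputable def Btab_s_1201_1203 (c : Nat) : Nat := @Bool.rec (fun _ => Nat) (Btab_1201) (Btab_1202) (Nat.ble 1202 c)
noncomputable def Btab_s_1203_1205 (c : Nat) : Nat := @Bool.rec (fun _ => Nat) (Btab_1203) (Btab_1204) (Nat.ble 1204 c)
noncomputable def Btab_s_1201_1205 (c : Nat) : Nat := @Bool.rec (fun _ => Nat) (Btab_s_1201_1203 c) (Btab_s_1203_1205 c) (Nat.ble 1203 c)
noncomputable def Btab_s_1205_1207 (c : Nat) : Nat := @Bool.rec (fun _ => Nat) (Btab_1205) (Btab_1206) (Nat.ble 1206 c)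
noncomputable def Btab_s_1208_1210 (c : Nat) : Nat := @Bool.rec (fun _ => Nat) (Btab_1208) (Btab_1209) (Nat.ble 1209 c)
noncomputable def Btab_s_1207_1210 (c : Nat) : Nat := @Bool.rec (fun _ => Nat) (Btab_1207) (Btab_s_1208_1210 c) (Nat.ble 1208 c)
noncomputable def Btab_s_1205_1210 (c : Nat) : Nat := @Bool.rec (fun _ => Nat) (Btab_s_1205_1207 c) (Btab_s_1207_1210 c) (Nat.ble 1207 c)
noncomputable def Btab_s_1201_1210 (c : Nat) : Nat := @Bool.rec (fun _ => Nat) (Btab_s_1201_1205 c) (Btab_s_1205_1210 c) (Nat.ble 1205 c)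
noncomputable def Btab_s_1192_1210 (c : Nat) : Nat := @Bool.rec (fun _ => Nat) (Btab_s_1192_1201 c) (Btab_s_1201_1210 c) (Nat.ble 1201 c)
noncomputable def Btab_s_1210_1212 (c : Nat) : Nat := @Bool.rec (fun _ => Nat) (Btab_1210) (Btab_1211) (Nat.ble 1211 c)
noncomputable def Btab_s_1212_1214 (c : Nat) : Nat := @Bool.rec (fun _ => Nat) (Btab_1212) (Btab_1213) (Nat.ble 1213 c)
noncomputable def Btab_s_1210_1214 (c : Nat) : Nat := @Bool.rec (fun _ => Nat) (Btab_s_1210_1212 c) (Btab_s_1212_1214 c) (Nat.ble 1212 c)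
noncomputable def Btab_s_1214_1216 (c : Nat) : Nat := @Bool.rec (fun _ => Nat) (Btab_1214) (Btab_1215) (Nat.ble 1215 c)
noncomputable def Btab_s_1217_1219 (c : Nat) : Nat := @Bool.rec (fun _ => Nat) (Btab_1217) (Btab_1218) (Nat.ble 1218 c)
noncomputable def Btab_s_1216_1219 (c : Nat) : Nat := @Bool.rec (fun _ => Nat) (Btab_1216) (Btab_s_1217_1219 c) (Nat.ble 1217 c)
noncomputable def Btab_s_1214_1219 (c : Nat) : Nat := @Bool.rec (fun _ => Nat) (Btab_s_1214_1216 c) (Btab_s_1216_1219 c) (Nat.ble 1216 c)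
noncomputable def Btab_s_1210_1219 (c : Nat) : Nat := @Bool.rec (fun _ => Nat) (Btab_s_1210_1214 c) (Btab_s_1214_1219 c) (Nat.ble 1214 c)
noncomputable def Btab_s_1219_1221 (c : Nat) : Nat := @Bool.rec (fun _ => Nat) (Btab_1219) (Btab_1220) (Nat.ble 1220 c)
noncomputable def Btab_s_1222_1224 (c : Nat) : Nat := @Bool.rec (fun _ => Nat) (Btab_1222) (Btab_1223) (Nat.ble 1223 c)
noncomputable def Btab_s_1221_1224 (c : Nat) : Nat := @Bool.rec (fun _ => Nat) (Btab_1221) (Btab_s_1222_1224 c) (Nat.ble 1222 c)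
noncomputable def Btab_s_1219_1224 (c : Nat) : Nat := @Bool.rec (fun _ => Nat) (Btab_s_1219_1221 c) (Btab_s_1221_1224 c) (Nat.ble 1221 c)
noncomputable def Btab_s_1224_1226 (c : Nat) : Nat := @Bool.rec (fun _ => Nat) (Btab_1224) (Btab_1225) (Nat.ble 1225 c)
noncomputable def Btab_s_1227_1229 (c : Nat) : Nat := @Bool.rec (fun _ => Nat) (Btab_1227) (Btab_1228) (Nat.ble 1228 c)
noncomputable def Btab_s_1226_1229 (c : Nat) : Nat := @Bool.rec (fun _ => Nat) (Btab_1226) (Btab_s_1227_1229 c) (Nat.ble 1227 c)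
noncomputable def Btab_s_1224_1229 (c : Nat) : Nat := @Bool.rec (fun _ => Nat) (Btab_s_1224_1226 c) (Btab_s_1226_1229 c) (Nat.ble 1226 c)
noncomputable def Btab_s_1219_1229 (c : Nat) : Nat := @Bool.rec (fun _ => Nat) (Btab_s_1219_1224 c) (Btab_s_1224_1229 c) (Nat.ble 1224 c)
noncomputable def Btab_s_1210_1229 (c : Nat) : Nat := @Bool.rec (fun _ => Nat) (Btab_s_1210_1219 c) (Btab_s_1219_1229 c) (Nat.ble 1219 c)
noncomputable def Btab_s_1192_1229 (c : Nat) : Nat := @Bool.rec (fun _ => Nat) (Btab_s_1192_1210 c) (Btab_s_1210_1229 c) (Nat.ble 1210 c)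
noncomputable def Btab_s_1229_1231 (c : Nat) : Nat := @Bool.rec (fun _ => Nat) (Btab_1229) (Btab_1230) (Nat.ble 1230 c)
noncomputable def Btab_s_1231_1233 (c : Nat) : Nat := @Bool.rec (fun _ => Nat) (Btab_1231) (Btab_1232) (Nat.ble 1232 c)
noncomputable def Btab_s_1229_1233 (c : Nat) : Nat := @Bool.rec (fun _ => Nat) (Btab_s_1229_1231 c) (Btab_s_1231_1233 c) (Nat.ble 1231 c)
noncomputable def Btab_s_1233_1235 (c : Nat) : Nat := @Bool.rec (fun _ => Nat) (Btab_1233) (Btab_1234) (Nat.ble 1234 c)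
noncomputable def Btab_s_1236_1238 (c : Nat) : Nat := @Bool.rec (fun _ => Nat) (Btab_1236) (Btab_1237) (Nat.ble 1237 c)
noncomputable def Btab_s_1235_1238 (c : Nat) : Nat := @Bool.rec (fun _ => Nat) (Btab_1235) (Btab_s_1236_1238 c) (Nat.ble 1236 c)
noncomputable def Btab_s_1233_1238 (c : Nat) : Nat := @Bool.rec (fun _ => Nat) (Btab_s_1233_1235 c) (Btab_s_1235_1238 c) (Nat.ble 1235 c)
noncomputable def Btab_s_1229_1238 (c : Nat) : Nat := @Bool.rec (fun _ => Nat) (Btab_s_1229_1233 c) (Btab_s_1233_1238 c) (Nat.ble 1233 c)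
noncomputable def Btab_s_1238_1240 (c : Nat) : Nat := @Bool.rec (fun _ => Nat) (Btab_1238) (Btab_1239) (Nat.ble 1239 c)
noncomputable def Btab_s_1240_1242 (c : Nat) : Nat := @Bool.rec (fun _ => Nat) (Btab_1240) (Btab_1241) (Nat.ble 1241 c)
noncomputable def Btab_s_1238_1242 (c : Nat) : Nat := @Bool.rec (fun _ => Nat) (Btab_s_1238_1240 c) (Btab_s_1240_1242 c) (Nat.ble 1240 c)
noncomputable def Btab_s_1242_1244 (c : Nat) : Nat := @Bool.rec (fun _ => Nat) (Btab_1242) (Btab_1243) (Nat.ble 1243 c)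
noncomputable def Btab_s_1245_1247 (c : Nat) : Nat := @Bool.rec (fun _ => Nat) (Btab_1245) (Btab_1246) (Nat.ble 1246 c)
noncomputable def Btab_s_1244_1247 (c : Nat) : Nat := @Bool.rec (fun _ => Nat) (Btab_1244) (Btab_s_1245_1247 c) (Nat.ble 1245 c)
noncomputable def Btab_s_1242_1247 (c : Nat) : Nat := @Bool.rec (fun _ => Nat) (Btab_s_1242_1244 c) (Btab_s_1244_1247 c) (Nat.ble 1244 c)
noncomputable def Btab_s_1238_1247 (c : Nat) : Nat := @Bool.rec (fun _ => Nat) (Btab_s_1238_1242 c) (Btab_s_1242_1247 c) (Nat.ble 1242 c)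
noncomputable def Btab_s_1229_1247 (c : Nat) : Nat := @Bool.rec (fun _ => Nat) (Btab_s_1229_1238 c) (Btab_s_1238_1247 c) (Nat.ble 1238 c)
noncomputable def Btab_s_1247_1249 (c : Nat) : Nat := @Bool.rec (fun _ => Nat) (Btab_1247) (Btab_1248) (Nat.ble 1248 c)
noncomputable def Btab_s_1249_1251 (c : Nat) : Nat := @Bool.rec (fun _ => Nat) (Btab_1249) (Btab_1250) (Nat.ble 1250 c)
noncomputable def Btab_s_1247_1251 (c : Nat) : Nat := @Bool.rec (fun _ => Nat) (Btab_s_1247_1249 c) (Btab_s_1249_1251 c) (Nat.ble 1249 c)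
noncomputable def Btab_s_1251_1253 (c : Nat) : Nat := @Bool.rec (fun _ => Nat) (Btab_1251) (Btab_1252) (Nat.ble 1252 c)
noncomputable def Btab_s_1254_1256 (c : Nat) : Nat := @Bool.rec (fun _ => Nat) (Btab_1254) (Btab_1255) (Nat.ble 1255 c)
noncomputable def Btab_s_1253_1256 (c : Nat) : Nat := @Bool.rec (fun _ => Nat) (Btab_1253) (Btab_s_1254_1256 c) (Nat.ble 1254 c)
noncomputable def Btab_s_1251_1256 (c : Nat) : Nat := @Bool.rec (fun _ => Nat) (Btab_s_1251_1253 c) (Btab_s_1253_1256 c) (Nat.ble 1253 c)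
noncomputable def Btab_s_1247_1256 (c : Nat) : Nat := @Bool.rec (fun _ => Nat) (Btab_s_1247_1251 c) (Btab_s_1251_1256 c) (Nat.ble 1251 c)
noncomputable def Btab_s_1256_1258 (c : Nat) : Nat := @Bool.rec (fun _ => Nat) (Btab_1256) (Btab_1257) (Nat.ble 1257 c)
noncomputable def Btab_s_1259_1261 (c : Nat) : Nat := @Bool.rec (fun _ => Nat) (Btab_1259) (Btab_1260) (Nat.ble 1260 c)
noncomputable def Btab_s_1258_1261 (c : Nat) : Nat := @Bool.rec (fun _ => Nat) (Btab_1258) (Btab_s_1259_1261 c) (Nat.ble 1259 c)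
noncomputable def Btab_s_1256_1261 (c : Nat) : Nat := @Bool.rec (fun _ => Nat) (Btab_s_1256_1258 c) (Btab_s_1258_1261 c) (Nat.ble 1258 c)
noncomputable def Btab_s_1261_1263 (c : Nat) : Nat := @Bool.rec (fun _ => Nat) (Btab_1261) (Btab_1262) (Nat.ble 1262 c)
noncomputable def Btab_s_1264_1266 (c : Nat) : Nat := @Bool.rec (fun _ => Nat) (Btab_1264) (Btab_1265) (Nat.ble 1265 c)
noncomputable def Btab_s_1263_1266 (c : Nat) : Nat := @Bool.rec (fun _ => Nat) (Btab_1263) (Btab_s_1264_1266 c) (Nat.ble 1264 c)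
noncomputable def Btab_s_1261_1266 (c : Nat) : Nat := @Bool.rec (fun _ => Nat) (Btab_s_1261_1263 c) (Btab_s_1263_1266 c) (Nat.ble 1263 c)
noncomputable def Btab_s_1256_1266 (c : Nat) : Nat := @Bool.rec (fun _ => Nat) (Btab_s_1256_1261 c) (Btab_s_1261_1266 c) (Nat.ble 1261 c)
noncomputable def Btab_s_1247_1266 (c : Nat) : Nat := @Bool.rec (fun _ => Nat) (Btab_s_1247_1256 c) (Btab_s_1256_1266 c) (Nat.ble 1256 c)
noncomputable def Btab_s_1229_1266 (c : Nat) : Nat := @Bool.rec (fun _ => Nat) (Btab_s_1229_1247 c) (Btab_s_1247_1266 c) (Nat.ble 1247 c)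
noncomputable def Btab_s_1192_1266 (c : Nat) : Nat := @Bool.rec (fun _ => Nat) (Btab_s_1192_1229 c) (Btab_s_1229_1266 c) (Nat.ble 1229 c)
noncomputable def Btab_s_1266_1268 (c : Nat) : Nat := @Bool.rec (fun _ => Nat) (Btab_1266) (Btab_1267) (Nat.ble 1267 c)
noncomputable def Btab_s_1268_1270 (c : Nat) : Nat := @Bool.rec (fun _ => Nat) (Btab_1268) (Btab_1269) (Nat.ble 1269 c)
noncomputable def Btab_s_1266_1270 (c : Nat) : Nat := @Bool.rec (fun _ => Nat) (Btab_s_1266_1268 c) (Btab_s_1268_1270 c) (Nat.ble 1268 c)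
noncomputable def Btab_s_1270_1272 (c : Nat) : Nat := @Bool.rec (fun _ => Nat) (Btab_1270) (Btab_1271) (Nat.ble 1271 c)
noncomputable def Btab_s_1273_1275 (c : Nat) : Nat := @Bool.rec (fun _ => Nat) (Btab_1273) (Btab_1274) (Nat.ble 1274 c)
noncomputable def Btab_s_1272_1275 (c : Nat) : Nat := @Bool.rec (fun _ => Nat) (Btab_1272) (Btab_s_1273_1275 c) (Nat.ble 1273 c)
noncomputable def Btab_s_1270_1275 (c : Nat) : Nat := @Bool.rec (fun _ => Nat) (Btab_s_1270_1272 c) (Btab_s_1272_1275 c) (Nat.ble 1272 c)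
noncomputable def Btab_s_1266_1275 (c : Nat) : Nat := @Bool.rec (fun _ => Nat) (Btab_s_1266_1270 c) (Btab_s_1270_1275 c) (Nat.ble 1270 c)
noncomputable def Btab_s_1275_1277 (c : Nat) : Nat := @Bool.rec (fun _ => Nat) (Btab_1275) (Btab_1276) (Nat.ble 1276 c)
noncomputable def Btab_s_1277_1279 (c : Nat) : Nat := @Bool.rec (fun _ => Nat) (Btab_1277) (Btab_1278) (Nat.ble 1278 c)
noncomputable def Btab_s_1275_1279 (c : Nat) : Nat := @Bool.rec (fun _ => Nat) (Btab_s_1275_1277 c) (Btab_s_1277_1279 c) (Nat.ble 1277 c)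
noncomputable def Btab_s_1279_1281 (c : Nat) : Nat := @Bool.rec (fun _ => Nat) (Btab_1279) (Btab_1280) (Nat.ble 1280 c)
noncomputable def Btab_s_1282_1284 (c : Nat) : Nat := @Bool.rec (fun _ => Nat) (Btab_1282) (Btab_1283) (Nat.ble 1283 c)
noncomputable def Btab_s_1281_1284 (c : Nat) : Nat := @Bool.rec (fun _ => Nat) (Btab_1281) (Btab_s_1282_1284 c) (Nat.ble 1282 c)
noncomputable def Btab_s_1279_1284 (c : Nat) : Nat := @Bool.rec (fun _ => Nat) (Btab_s_1279_1281 c) (Btab_s_1281_1284 c) (Nat.ble 1281 c)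
noncomputable def Btab_s_1275_1284 (c : Nat) : Nat := @Bool.rec (fun _ => Nat) (Btab_s_1275_1279 c) (Btab_s_1279_1284 c) (Nat.ble 1279 c)
noncomputable def Btab_s_1266_1284 (c : Nat) : Nat := @Bool.rec (fun _ => Nat) (Btab_s_1266_1275 c) (Btab_s_1275_1284 c) (Nat.ble 1275 c)
noncomputable def Btab_s_1284_1286 (c : Nat) : Nat := @Bool.rec (fun _ => Nat) (Btab_1284) (Btab_1285) (Nat.ble 1285 c)
noncomputable def Btab_s_1286_1288 (c : Nat) : Nat := @Bool.rec (fun _ => Nat) (Btab_1286) (Btab_1287) (Nat.ble 1287 c)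
noncomputable def Btab_s_1284_1288 (c : Nat) : Nat := @Bool.rec (fun _ => Nat) (Btab_s_1284_1286 c) (Btab_s_1286_1288 c) (Nat.ble 1286 c)
noncomputable def Btab_s_1288_1290 (c : Nat) : Nat := @Bool.rec (fun _ => Nat) (Btab_1288) (Btab_1289) (Nat.ble 1289 c)
noncomputable def Btab_s_1291_1293 (c : Nat) : Nat := @Bool.rec (fun _ => Nat) (Btab_1291) (Btab_1292) (Nat.ble 1292 c)
noncomputable def Btab_s_1290_1293 (c : Nat) : Nat := @Bool.rec (fun _ => Nat) (Btab_1290) (Btab_s_1291_1293 c) (Nat.ble 1291 c)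
noncomputable def Btab_s_1288_1293 (c : Nat) : Nat := @Bool.rec (fun _ => Nat) (Btab_s_1288_1290 c) (Btab_s_1290_1293 c) (Nat.ble 1290 c)
noncomputable def Btab_s_1284_1293 (c : Nat) : Nat := @Bool.rec (fun _ => Nat) (Btab_s_1284_1288 c) (Btab_s_1288_1293 c) (Nat.ble 1288 c)
noncomputable def Btab_s_1293_1295 (c : Nat) : Nat := @Bool.rec (fun _ => Nat) (Btab_1293) (Btab_1294) (Nat.ble 1294 c)
noncomputable def Btab_s_1296_1298 (c : Nat) : Nat := @Bool.rec (fun _ => Nat) (Btab_1296) (Btab_1297) (Nat.ble 1297 c)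
noncomputable def Btab_s_1295_1298 (c : Nat) : Nat := @Bool.rec (fun _ => Nat) (Btab_1295) (Btab_s_1296_1298 c) (Nat.ble 1296 c)
noncomputable def Btab_s_1293_1298 (c : Nat) : Nat := @Bool.rec (fun _ => Nat) (Btab_s_1293_1295 c) (Btab_s_1295_1298 c) (Nat.ble 1295 c)
noncomputable def Btab_s_1298_1300 (c : Nat) : Nat := @Bool.rec (fun _ => Nat) (Btab_1298) (Btab_1299) (Nat.ble 1299 c)
noncomputable def Btab_s_1301_1303 (c : Nat) : Nat := @Bool.rec (fun _ => Nat) (Btab_1301) (Btab_1302) (Nat.ble 1302 c)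
noncomputable def Btab_s_1300_1303 (c : Nat) : Nat := @Bool.rec (fun _ => Nat) (Btab_1300) (Btab_s_1301_1303 c) (Nat.ble 1301 c)
noncomputable def Btab_s_1298_1303 (c : Nat) : Nat := @Bool.rec (fun _ => Nat) (Btab_s_1298_1300 c) (Btab_s_1300_1303 c) (Nat.ble 1300 c)
noncomputable def Btab_s_1293_1303 (c : Nat) : Nat := @Bool.rec (fun _ => Nat) (Btab_s_1293_1298 c) (Btab_s_1298_1303 c) (Nat.ble 1298 c)
noncomputable def Btab_s_1284_1303 (c : Nat) : Nat := @Bool.rec (fun _ => Nat) (Btab_s_1284_1293 c) (Btab_s_1293_1303 c) (Nat.ble 1293 c)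
noncomputable def Btab_s_1266_1303 (c : Nat) : Nat := @Bool.rec (fun _ => Nat) (Btab_s_1266_1284 c) (Btab_s_1284_1303 c) (Nat.ble 1284 c)
noncomputable def Btab_s_1303_1305 (c : Nat) : Nat := @Bool.rec (fun _ => Nat) (Btab_1303) (Btab_1304) (Nat.ble 1304 c)
noncomputable def Btab_s_1305_1307 (c : Nat) : Nat := @Bool.rec (fun _ => Nat) (Btab_1305) (Btab_1306) (Nat.ble 1306 c)
noncomputable def Btab_s_1303_1307 (c : Nat) : Nat := @Bool.rec (fun _ => Nat) (Btab_s_1303_1305 c) (Btab_s_1305_1307 c) (Nat.ble 1305 c)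
noncomputable def Btab_s_1307_1309 (c : Nat) : Nat := @Bool.rec (fun _ => Nat) (Btab_1307) (Btab_1308) (Nat.ble 1308 c)
noncomputable def Btab_s_1310_1312 (c : Nat) : Nat := @Bool.rec (fun _ => Nat) (Btab_1310) (Btab_1311) (Nat.ble 1311 c)
noncomputable def Btab_s_1309_1312 (c : Nat) : Nat := @Bool.rec (fun _ => Nat) (Btab_1309) (Btab_s_1310_1312 c) (Nat.ble 1310 c)
noncomputable def Btab_s_1307_1312 (c : Nat) : Nat := @Bool.rec (fun _ => Nat) (Btab_s_1307_1309 c) (Btab_s_1309_1312 c) (Nat.ble 1309 c)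
noncomputable def Btab_s_1303_1312 (c : Nat) : Nat := @Bool.rec (fun _ => Nat) (Btab_s_1303_1307 c) (Btab_s_1307_1312 c) (Nat.ble 1307 c)
noncomputable def Btab_s_1312_1314 (c : Nat) : Nat := @Bool.rec (fun _ => Nat) (Btab_1312) (Btab_1313) (Nat.ble 1313 c)
noncomputable def Btab_s_1315_1317 (c : Nat) : Nat := @Bool.rec (fun _ => Nat) (Btab_1315) (Btab_1316) (Nat.ble 1316 c)
noncomputable def Btab_s_1314_1317 (c : Nat) : Nat := @Bool.rec (fun _ => Nat) (Btab_1314) (Btab_s_1315_1317 c) (Nat.ble 1315 c)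
noncomputable def Btab_s_1312_1317 (c : Nat) : Nat := @Bool.rec (fun _ => Nat) (Btab_s_1312_1314 c) (Btab_s_1314_1317 c) (Nat.ble 1314 c)
noncomputable def Btab_s_1317_1319 (c : Nat) : Nat := @Bool.rec (fun _ => Nat) (Btab_1317) (Btab_1318) (Nat.ble 1318 c)
noncomputable def Btab_s_1320_1322 (c : Nat) : Nat := @Bool.rec (fun _ => Nat) (Btab_1320) (Btab_1321) (Nat.ble 1321 c)
noncomputable def Btab_s_1319_1322 (c : Nat) : Nat := @Bool.rec (fun _ => Nat) (Btab_1319) (Btab_s_1320_1322 c) (Nat.ble 1320 c)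
noncomputable def Btab_s_1317_1322 (c : Nat) : Nat := @Bool.rec (fun _ => Nat) (Btab_s_1317_1319 c) (Btab_s_1319_1322 c) (Nat.ble 1319 c)
noncomputable def Btab_s_1312_1322 (c : Nat) : Nat := @Bool.rec (fun _ => Nat) (Btab_s_1312_1317 c) (Btab_s_1317_1322 c) (Nat.ble 1317 c)
noncomputable def Btab_s_1303_1322 (c : Nat) : Nat := @Bool.rec (fun _ => Nat) (Btab_s_1303_1312 c) (Btab_s_1312_1322 c) (Nat.ble 1312 c)
noncomputable def Btab_s_1322_1324 (c : Nat) : Nat := @Bool.rec (fun _ => Nat) (Btab_1322) (Btab_1323) (Nat.ble 1323 c)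
noncomputable def Btab_s_1324_1326 (c : Nat) : Nat := @Bool.rec (fun _ => Nat) (Btab_1324) (Btab_1325) (Nat.ble 1325 c)
noncomputable def Btab_s_1322_1326 (c : Nat) : Nat := @Bool.rec (fun _ => Nat) (Btab_s_1322_1324 c) (Btab_s_1324_1326 c) (Nat.ble 1324 c)
noncomputable def Btab_s_1326_1328 (c : Nat) : Nat := @Bool.rec (fun _ => Nat) (Btab_1326) (Btab_1327) (Nat.ble 1327 c)
noncomputable def Btab_s_1329_1331 (c : Nat) : Nat := @Bool.rec (fun _ => Nat) (Btab_1329) (Btab_1330) (Nat.ble 1330 c)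
noncomputable def Btab_s_1328_1331 (c : Nat) : Nat := @Bool.rec (fun _ => Nat) (Btab_1328) (Btab_s_1329_1331 c) (Nat.ble 1329 c)
noncomputable def Btab_s_1326_1331 (c : Nat) : Nat := @Bool.rec (fun _ => Nat) (Btab_s_1326_1328 c) (Btab_s_1328_1331 c) (Nat.ble 1328 c)
noncomputable def Btab_s_1322_1331 (c : Nat) : Nat := @Bool.rec (fun _ => Nat) (Btab_s_1322_1326 c) (Btab_s_1326_1331 c) (Nat.ble 1326 c)
noncomputable def Btab_s_1331_1333 (c : Nat) : Nat := @Bool.rec (fun _ => Nat) (Btab_1331) (Btab_1332) (Nat.ble 1332 c)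
noncomputable def Btab_s_1334_1336 (c : Nat) : Nat := @Bool.rec (fun _ => Nat) (Btab_1334) (Btab_1335) (Nat.ble 1335 c)
noncomputable def Btab_s_1333_1336 (c : Nat) : Nat := @Bool.rec (fun _ => Nat) (Btab_1333) (Btab_s_1334_1336 c) (Nat.ble 1334 c)
noncomputable def Btab_s_1331_1336 (c : Nat) : Nat := @Bool.rec (fun _ => Nat) (Btab_s_1331_1333 c) (Btab_s_1333_1336 c) (Nat.ble 1333 c)
noncomputable def Btab_s_1336_1338 (c : Nat) : Nat := @Bool.rec (fun _ => Nat) (Btab_1336) (Btab_1337) (Nat.ble 1337 c)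
noncomputable def Btab_s_1339_1341 (c : Nat) : Nat := @Bool.rec (fun _ => Nat) (Btab_1339) (Btab_1340) (Nat.ble 1340 c)
noncomputable def Btab_s_1338_1341 (c : Nat) : Nat := @Bool.rec (fun _ => Nat) (Btab_1338) (Btab_s_1339_1341 c) (Nat.ble 1339 c)
noncomputable def Btab_s_1336_1341 (c : Nat) : Nat := @Bool.rec (fun _ => Nat) (Btab_s_1336_1338 c) (Btab_s_1338_1341 c) (Nat.ble 1338 c)
noncomputable def Btab_s_1331_1341 (c : Nat) : Nat := @Bool.rec (fun _ => Nat) (Btab_s_1331_1336 c) (Btab_s_1336_1341 c) (Nat.ble 1336 c)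
noncomputable def Btab_s_1322_1341 (c : Nat) : Nat := @Bool.rec (fun _ => Nat) (Btab_s_1322_1331 c) (Btab_s_1331_1341 c) (Nat.ble 1331 c)
noncomputable def Btab_s_1303_1341 (c : Nat) : Nat := @Bool.rec (fun _ => Nat) (Btab_s_1303_1322 c) (Btab_s_1322_1341 c) (Nat.ble 1322 c)
noncomputable def Btab_s_1266_1341 (c : Nat) : Nat := @Bool.rec (fun _ => Nat) (Btab_s_1266_1303 c) (Btab_s_1303_1341 c) (Nat.ble 1303 c)
noncomputable def Btab_s_1192_1341 (c : Nat) : Nat := @Bool.rec (fun _ => Nat) (Btab_s_1192_1266 c) (Btab_s_1266_1341 c) (Nat.ble 1266 c)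
noncomputable def Btab_s_1341_1343 (c : Nat) : Nat := @Bool.rec (fun _ => Nat) (Btab_1341) (Btab_1342) (Nat.ble 1342 c)
noncomputable def Btab_s_1343_1345 (c : Nat) : Nat := @Bool.rec (fun _ => Nat) (Btab_1343) (Btab_1344) (Nat.ble 1344 c)
noncomputable def Btab_s_1341_1345 (c : Nat) : Nat := @Bool.rec (fun _ => Nat) (Btab_s_1341_1343 c) (Btab_s_1343_1345 c) (Nat.ble 1343 c)
noncomputable def Btab_s_1345_1347 (c : Nat) : Nat := @Bool.rec (fun _ => Nat) (Btab_1345) (Btab_1346) (Nat.ble 1346 c)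
noncomputable def Btab_s_1348_1350 (c : Nat) : Nat := @Bool.rec (fun _ => Nat) (Btab_1348) (Btab_1349) (Nat.ble 1349 c)
noncomputable def Btab_s_1347_1350 (c : Nat) : Nat := @Bool.rec (fun _ => Nat) (Btab_1347) (Btab_s_1348_1350 c) (Nat.ble 1348 c)
noncomputable def Btab_s_1345_1350 (c : Nat) : Nat := @Bool.rec (fun _ => Nat) (Btab_s_1345_1347 c) (Btab_s_1347_1350 c) (Nat.ble 1347 c)
noncomputable def Btab_s_1341_1350 (c : Nat) : Nat := @Bool.rec (fun _ => Nat) (Btab_s_1341_1345 c) (Btab_s_1345_1350 c) (Nat.ble 1345 c)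
noncomputable def Btab_s_1350_1352 (c : Nat) : Nat := @Bool.rec (fun _ => Nat) (Btab_1350) (Btab_1351) (Nat.ble 1351 c)
noncomputable def Btab_s_1352_1354 (c : Nat) : Nat := @Bool.rec (fun _ => Nat) (Btab_1352) (Btab_1353) (Nat.ble 1353 c)
noncomputable def Btab_s_1350_1354 (c : Nat) : Nat := @Bool.rec (fun _ => Nat) (Btab_s_1350_1352 c) (Btab_s_1352_1354 c) (Nat.ble 1352 c)
noncomputable def Btab_s_1354_1356 (c : Nat) : Nat := @Bool.rec (fun _ => Nat) (Btab_1354) (Btab_1355) (Nat.ble 1355 c)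
noncomputable def Btab_s_1357_1359 (c : Nat) : Nat := @Bool.rec (fun _ => Nat) (Btab_1357) (Btab_1358) (Nat.ble 1358 c)
noncomputable def Btab_s_1356_1359 (c : Nat) : Nat := @Bool.rec (fun _ => Nat) (Btab_1356) (Btab_s_1357_1359 c) (Nat.ble 1357 c)
noncomputable def Btab_s_1354_1359 (c : Nat) : Nat := @Bool.rec (fun _ => Nat) (Btab_s_1354_1356 c) (Btab_s_1356_1359 c) (Nat.ble 1356 c)
noncomputable def Btab_s_1350_1359 (c : Nat) : Nat := @Bool.rec (fun _ => Nat) (Btab_s_1350_1354 c) (Btab_s_1354_1359 c) (Nat.ble 1354 c)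
noncomputable def Btab_s_1341_1359 (c : Nat) : Nat := @Bool.rec (fun _ => Nat) (Btab_s_1341_1350 c) (Btab_s_1350_1359 c) (Nat.ble 1350 c)
noncomputable def Btab_s_1359_1361 (c : Nat) : Nat := @Bool.rec (fun _ => Nat) (Btab_1359) (Btab_1360) (Nat.ble 1360 c)
noncomputable def Btab_s_1361_1363 (c : Nat) : Nat := @Bool.rec (fun _ => Nat) (Btab_1361) (Btab_1362) (Nat.ble 1362 c)
noncomputable def Btab_s_1359_1363 (c : Nat) : Nat := @Bool.rec (fun _ => Nat) (Btab_s_1359_1361 c) (Btab_s_1361_1363 c) (Nat.ble 1361 c)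
noncomputable def Btab_s_1363_1365 (c : Nat) : Nat := @Bool.rec (fun _ => Nat) (Btab_1363) (Btab_1364) (Nat.ble 1364 c)
noncomputable def Btab_s_1366_1368 (c : Nat) : Nat := @Bool.rec (fun _ => Nat) (Btab_1366) (Btab_1367) (Nat.ble 1367 c)
noncomputable def Btab_s_1365_1368 (c : Nat) : Nat := @Bool.rec (fun _ => Nat) (Btab_1365) (Btab_s_1366_1368 c) (Nat.ble 1366 c)
noncomputable def Btab_s_1363_1368 (c : Nat) : Nat := @Bool.rec (fun _ => Nat) (Btab_s_1363_1365 c) (Btab_s_1365_1368 c) (Nat.ble 1365 c)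
noncomputable def Btab_s_1359_1368 (c : Nat) : Nat := @Bool.rec (fun _ => Nat) (Btab_s_1359_1363 c) (Btab_s_1363_1368 c) (Nat.ble 1363 c)
noncomputable def Btab_s_1368_1370 (c : Nat) : Nat := @Bool.rec (fun _ => Nat) (Btab_1368) (Btab_1369) (Nat.ble 1369 c)
noncomputable def Btab_s_1371_1373 (c : Nat) : Nat := @Bool.rec (fun _ => Nat) (Btab_1371) (Btab_1372) (Nat.ble 1372 c)
noncomputable def Btab_s_1370_1373 (c : Nat) : Nat := @Bool.rec (fun _ => Nat) (Btab_1370) (Btab_s_1371_1373 c) (Nat.ble 1371 c)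
noncomputable def Btab_s_1368_1373 (c : Nat) : Nat := @Bool.rec (fun _ => Nat) (Btab_s_1368_1370 c) (Btab_s_1370_1373 c) (Nat.ble 1370 c)
noncomputable def Btab_s_1373_1375 (c : Nat) : Nat := @Bool.rec (fun _ => Nat) (Btab_1373) (Btab_1374) (Nat.ble 1374 c)
noncomputable def Btab_s_1376_1378 (c : Nat) : Nat := @Bool.rec (fun _ => Nat) (Btab_1376) (Btab_1377) (Nat.ble 1377 c)
noncomputable def Btab_s_1375_1378 (c : Nat) : Nat := @Bool.rec (fun _ => Nat) (Btab_1375) (Btab_s_1376_1378 c) (Nat.ble 1376 c)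
noncomputable def Btab_s_1373_1378 (c : Nat) : Nat := @Bool.rec (fun _ => Nat) (Btab_s_1373_1375 c) (Btab_s_1375_1378 c) (Nat.ble 1375 c)
noncomputable def Btab_s_1368_1378 (c : Nat) : Nat := @Bool.rec (fun _ => Nat) (Btab_s_1368_1373 c) (Btab_s_1373_1378 c) (Nat.ble 1373 c)
noncomputable def Btab_s_1359_1378 (c : Nat) : Nat := @Bool.rec (fun _ => Nat) (Btab_s_1359_1368 c) (Btab_s_1368_1378 c) (Nat.ble 1368 c)
noncomputable def Btab_s_1341_1378 (c : Nat) : Nat := @Bool.rec (fun _ => Nat) (Btab_s_1341_1359 c) (Btab_s_1359_1378 c) (Nat.ble 1359 c)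
noncomputable def Btab_s_1378_1380 (c : Nat) : Nat := @Bool.rec (fun _ => Nat) (Btab_1378) (Btab_1379) (Nat.ble 1379 c)
noncomputable def Btab_s_1380_1382 (c : Nat) : Nat := @Bool.rec (fun _ => Nat) (Btab_1380) (Btab_1381) (Nat.ble 1381 c)
noncomputable def Btab_s_1378_1382 (c : Nat) : Nat := @Bool.rec (fun _ => Nat) (Btab_s_1378_1380 c) (Btab_s_1380_1382 c) (Nat.ble 1380 c)
noncomputable def Btab_s_1382_1384 (c : Nat) : Nat := @Bool.rec (fun _ => Nat) (Btab_1382) (Btab_1383) (Nat.ble 1383 c)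
noncomputable def Btab_s_1385_1387 (c : Nat) : Nat := @Bool.rec (fun _ => Nat) (Btab_1385) (Btab_1386) (Nat.ble 1386 c)
noncomputable def Btab_s_1384_1387 (c : Nat) : Nat := @Bool.rec (fun _ => Nat) (Btab_1384) (Btab_s_1385_1387 c) (Nat.ble 1385 c)
noncomputable def Btab_s_1382_1387 (c : Nat) : Nat := @Bool.rec (fun _ => Nat) (Btab_s_1382_1384 c) (Btab_s_1384_1387 c) (Nat.ble 1384 c)
noncomputable def Btab_s_1378_1387 (c : Nat) : Nat := @Bool.rec (fun _ => Nat) (Btab_s_1378_1382 c) (Btab_s_1382_1387 c) (Nat.ble 1382 c)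
noncomputable def Btab_s_1387_1389 (c : Nat) : Nat := @Bool.rec (fun _ => Nat) (Btab_1387) (Btab_1388) (Nat.ble 1388 c)
noncomputable def Btab_s_1389_1391 (c : Nat) : Nat := @Bool.rec (fun _ => Nat) (Btab_1389) (Btab_1390) (Nat.ble 1390 c)
noncomputable def Btab_s_1387_1391 (c : Nat) : Nat := @Bool.rec (fun _ => Nat) (Btab_s_1387_1389 c) (Btab_s_1389_1391 c) (Nat.ble 1389 c)
noncomputable def Btab_s_1391_1393 (c : Nat) : Nat := @Bool.rec (fun _ => Nat) (Btab_1391) (Btab_1392) (Nat.ble 1392 c)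
noncomputable def Btab_s_1394_1396 (c : Nat) : Nat := @Bool.rec (fun _ => Nat) (Btab_1394) (Btab_1395) (Nat.ble 1395 c)
noncomputable def Btab_s_1393_1396 (c : Nat) : Nat := @Bool.rec (fun _ => Nat) (Btab_1393) (Btab_s_1394_1396 c) (Nat.ble 1394 c)
noncomputable def Btab_s_1391_1396 (c : Nat) : Nat := @Bool.rec (fun _ => Nat) (Btab_s_1391_1393 c) (Btab_s_1393_1396 c) (Nat.ble 1393 c)
noncomputable def Btab_s_1387_1396 (c : Nat) : Nat := @Bool.rec (fun _ => Nat) (Btab_s_1387_1391 c) (Btab_s_1391_1396 c) (Nat.ble 1391 c)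
noncomputable def Btab_s_1378_1396 (c : Nat) : Nat := @Bool.rec (fun _ => Nat) (Btab_s_1378_1387 c) (Btab_s_1387_1396 c) (Nat.ble 1387 c)
noncomputable def Btab_s_1396_1398 (c : Nat) : Nat := @Bool.rec (fun _ => Nat) (Btab_1396) (Btab_1397) (Nat.ble 1397 c)
noncomputable def Btab_s_1398_1400 (c : Nat) : Nat := @Bool.rec (fun _ => Nat) (Btab_1398) (Btab_1399) (Nat.ble 1399 c)
noncomputable def Btab_s_1396_1400 (c : Nat) : Nat := @Bool.rec (fun _ => Nat) (Btab_s_1396_1398 c) (Btab_s_1398_1400 c) (Nat.ble 1398 c)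
noncomputable def Btab_s_1400_1402 (c : Nat) : Nat := @Bool.rec (fun _ => Nat) (Btab_1400) (Btab_1401) (Nat.ble 1401 c)
noncomputable def Btab_s_1403_1405 (c : Nat) : Nat := @Bool.rec (fun _ => Nat) (Btab_1403) (Btab_1404) (Nat.ble 1404 c)
noncomputable def Btab_s_1402_1405 (c : Nat) : Nat := @Bool.rec (fun _ => Nat) (Btab_1402) (Btab_s_1403_1405 c) (Nat.ble 1403 c)
noncomputable def Btab_s_1400_1405 (c : Nat) : Nat := @Bool.rec (fun _ => Nat) (Btab_s_1400_1402 c) (Btab_s_1402_1405 c) (Nat.ble 1402 c)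
noncomputable def Btab_s_1396_1405 (c : Nat) : Nat := @Bool.rec (fun _ => Nat) (Btab_s_1396_1400 c) (Btab_s_1400_1405 c) (Nat.ble 1400 c)
noncomputable def Btab_s_1405_1407 (c : Nat) : Nat := @Bool.rec (fun _ => Nat) (Btab_1405) (Btab_1406) (Nat.ble 1406 c)
noncomputable def Btab_s_1408_1410 (c : Nat) : Nat := @Bool.rec (fun _ => Nat) (Btab_1408) (Btab_1409) (Nat.ble 1409 c)
noncomputable def Btab_s_1407_1410 (c : Nat) : Nat := @Bool.rec (fun _ => Nat) (Btab_1407) (Btab_s_1408_1410 c) (Nat.ble 1408 c)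
noncomputable def Btab_s_1405_1410 (c : Nat) : Nat := @Bool.rec (fun _ => Nat) (Btab_s_1405_1407 c) (Btab_s_1407_1410 c) (Nat.ble 1407 c)
noncomputable def Btab_s_1410_1412 (c : Nat) : Nat := @Bool.rec (fun _ => Nat) (Btab_1410) (Btab_1411) (Nat.ble 1411 c)
noncomputable def Btab_s_1413_1415 (c : Nat) : Nat := @Bool.rec (fun _ => Nat) (Btab_1413) (Btab_1414) (Nat.ble 1414 c)
noncomputable def Btab_s_1412_1415 (c : Nat) : Nat := @Bool.rec (fun _ => Nat) (Btab_1412) (Btab_s_1413_1415 c) (Nat.ble 1413 c)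
noncomputable def Btab_s_1410_1415 (c : Nat) : Nat := @Bool.rec (fun _ => Nat) (Btab_s_1410_1412 c) (Btab_s_1412_1415 c) (Nat.ble 1412 c)
noncomputable def Btab_s_1405_1415 (c : Nat) : Nat := @Bool.rec (fun _ => Nat) (Btab_s_1405_1410 c) (Btab_s_1410_1415 c) (Nat.ble 1410 c)
noncomputable def Btab_s_1396_1415 (c : Nat) : Nat := @Bool.rec (fun _ => Nat) (Btab_s_1396_1405 c) (Btab_s_1405_1415 c) (Nat.ble 1405 c)
noncomputable def Btab_s_1378_1415 (c : Nat) : Nat := @Bool.rec (fun _ => Nat) (Btab_s_1378_1396 c) (Btab_s_1396_1415 c) (Nat.ble 1396 c)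
noncomputable def Btab_s_1341_1415 (c : Nat) : Nat := @Bool.rec (fun _ => Nat) (Btab_s_1341_1378 c) (Btab_s_1378_1415 c) (Nat.ble 1378 c)
noncomputable def Btab_s_1415_1417 (c : Nat) : Nat := @Bool.rec (fun _ => Nat) (Btab_1415) (Btab_1416) (Nat.ble 1416 c)
noncomputable def Btab_s_1417_1419 (c : Nat) : Nat := @Bool.rec (fun _ => Nat) (Btab_1417) (Btab_1418) (Nat.ble 1418 c)
noncomputable def Btab_s_1415_1419 (c : Nat) : Nat := @Bool.rec (fun _ => Nat) (Btab_s_1415_1417 c) (Btab_s_1417_1419 c) (Nat.ble 1417 c)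
noncomputable def Btab_s_1419_1421 (c : Nat) : Nat := @Bool.rec (fun _ => Nat) (Btab_1419) (Btab_1420) (Nat.ble 1420 c)
noncomputable def Btab_s_1422_1424 (c : Nat) : Nat := @Bool.rec (fun _ => Nat) (Btab_1422) (Btab_1423) (Nat.ble 1423 c)
noncomputable def Btab_s_1421_1424 (c : Nat) : Nat := @Bool.rec (fun _ => Nat) (Btab_1421) (Btab_s_1422_1424 c) (Nat.ble 1422 c)
noncomputable def Btab_s_1419_1424 (c : Nat) : Nat := @Bool.rec (fun _ => Nat) (Btab_s_1419_1421 c) (Btab_s_1421_1424 c) (Nat.ble 1421 c)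
noncomputable def Btab_s_1415_1424 (c : Nat) : Nat := @Bool.rec (fun _ => Nat) (Btab_s_1415_1419 c) (Btab_s_1419_1424 c) (Nat.ble 1419 c)
noncomputable def Btab_s_1424_1426 (c : Nat) : Nat := @Bool.rec (fun _ => Nat) (Btab_1424) (Btab_1425) (Nat.ble 1425 c)
noncomputable def Btab_s_1426_1428 (c : Nat) : Nat := @Bool.rec (fun _ => Nat) (Btab_1426) (Btab_1427) (Nat.ble 1427 c)
noncomputable def Btab_s_1424_1428 (c : Nat) : Nat := @Bool.rec (fun _ => Nat) (Btab_s_1424_1426 c) (Btab_s_1426_1428 c) (Nat.ble 1426 c)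
noncomputable def Btab_s_1428_1430 (c : Nat) : Nat := @Bool.rec (fun _ => Nat) (Btab_1428) (Btab_1429) (Nat.ble 1429 c)
noncomputable def Btab_s_1431_1433 (c : Nat) : Nat := @Bool.rec (fun _ => Nat) (Btab_1431) (Btab_1432) (Nat.ble 1432 c)
noncomputable def Btab_s_1430_1433 (c : Nat) : Nat := @Bool.rec (fun _ => Nat) (Btab_1430) (Btab_s_1431_1433 c) (Nat.ble 1431 c)
noncomputable def Btab_s_1428_1433 (c : Nat) : Nat := @Bool.rec (fun _ => Nat) (Btab_s_1428_1430 c) (Btab_s_1430_1433 c) (Nat.ble 1430 c)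
noncomputable def Btab_s_1424_1433 (c : Nat) : Nat := @Bool.rec (fun _ => Nat) (Btab_s_1424_1428 c) (Btab_s_1428_1433 c) (Nat.ble 1428 c)
noncomputable def Btab_s_1415_1433 (c : Nat) : Nat := @Bool.rec (fun _ => Nat) (Btab_s_1415_1424 c) (Btab_s_1424_1433 c) (Nat.ble 1424 c)
noncomputable def Btab_s_1433_1435 (c : Nat) : Nat := @Bool.rec (fun _ => Nat) (Btab_1433) (Btab_1434) (Nat.ble 1434 c)
noncomputable def Btab_s_1435_1437 (c : Nat) : Nat := @Bool.rec (fun _ => Nat) (Btab_1435) (Btab_1436) (Nat.ble 1436 c)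
noncomputable def Btab_s_1433_1437 (c : Nat) : Nat := @Bool.rec (fun _ => Nat) (Btab_s_1433_1435 c) (Btab_s_1435_1437 c) (Nat.ble 1435 c)
noncomputable def Btab_s_1437_1439 (c : Nat) : Nat := @Bool.rec (fun _ => Nat) (Btab_1437) (Btab_1438) (Nat.ble 1438 c)
noncomputable def Btab_s_1440_1442 (c : Nat) : Nat := @Bool.rec (fun _ => Nat) (Btab_1440) (Btab_1441) (Nat.ble 1441 c)
noncomputable def Btab_s_1439_1442 (c : Nat) : Nat := @Bool.rec (fun _ => Nat) (Btab_1439) (Btab_s_1440_1442 c) (Nat.ble 1440 c)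
noncomputable def Btab_s_1437_1442 (c : Nat) : Nat := @Bool.rec (fun _ => Nat) (Btab_s_1437_1439 c) (Btab_s_1439_1442 c) (Nat.ble 1439 c)
noncomputable def Btab_s_1433_1442 (c : Nat) : Nat := @Bool.rec (fun _ => Nat) (Btab_s_1433_1437 c) (Btab_s_1437_1442 c) (Nat.ble 1437 c)
noncomputable def Btab_s_1442_1444 (c : Nat) : Nat := @Bool.rec (fun _ => Nat) (Btab_1442) (Btab_1443) (Nat.ble 1443 c)
noncomputable def Btab_s_1445_1447 (c : Nat) : Nat := @Bool.rec (fun _ => Nat) (Btab_1445) (Btab_1446) (Nat.ble 1446 c)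
noncomputable def Btab_s_1444_1447 (c : Nat) : Nat := @Bool.rec (fun _ => Nat) (Btab_1444) (Btab_s_1445_1447 c) (Nat.ble 1445 c)
noncomputable def Btab_s_1442_1447 (c : Nat) : Nat := @Bool.rec (fun _ => Nat) (Btab_s_1442_1444 c) (Btab_s_1444_1447 c) (Nat.ble 1444 c)
noncomputable def Btab_s_1447_1449 (c : Nat) : Nat := @Bool.rec (fun _ => Nat) (Btab_1447) (Btab_1448) (Nat.ble 1448 c)
noncomputable def Btab_s_1450_1452 (c : Nat) : Nat := @Bool.rec (fun _ => Nat) (Btab_1450) (Btab_1451) (Nat.ble 1451 c)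
noncomputable def Btab_s_1449_1452 (c : Nat) : Nat := @Bool.rec (fun _ => Nat) (Btab_1449) (Btab_s_1450_1452 c) (Nat.ble 1450 c)
noncomputable def Btab_s_1447_1452 (c : Nat) : Nat := @Bool.rec (fun _ => Nat) (Btab_s_1447_1449 c) (Btab_s_1449_1452 c) (Nat.ble 1449 c)
noncomputable def Btab_s_1442_1452 (c : Nat) : Nat := @Bool.rec (fun _ => Nat) (Btab_s_1442_1447 c) (Btab_s_1447_1452 c) (Nat.ble 1447 c)
noncomputable def Btab_s_1433_1452 (c : Nat) : Nat := @Bool.rec (fun _ => Nat) (Btab_s_1433_1442 c) (Btab_s_1442_1452 c) (Nat.ble 1442 c)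
noncomputable def Btab_s_1415_1452 (c : Nat) : Nat := @Bool.rec (fun _ => Nat) (Btab_s_1415_1433 c) (Btab_s_1433_1452 c) (Nat.ble 1433 c)
noncomputable def Btab_s_1452_1454 (c : Nat) : Nat := @Bool.rec (fun _ => Nat) (Btab_1452) (Btab_1453) (Nat.ble 1453 c)
noncomputable def Btab_s_1454_1456 (c : Nat) : Nat := @Bool.rec (fun _ => Nat) (Btab_1454) (Btab_1455) (Nat.ble 1455 c)
noncomputable def Btab_s_1452_1456 (c : Nat) : Nat := @Bool.rec (fun _ => Nat) (Btab_s_1452_1454 c) (Btab_s_1454_1456 c) (Nat.ble 1454 c)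
noncomputable def Btab_s_1456_1458 (c : Nat) : Nat := @Bool.rec (fun _ => Nat) (Btab_1456) (Btab_1457) (Nat.ble 1457 c)
noncomputable def Btab_s_1459_1461 (c : Nat) : Nat := @Bool.rec (fun _ => Nat) (Btab_1459) (Btab_1460) (Nat.ble 1460 c)
noncomputable def Btab_s_1458_1461 (c : Nat) : Nat := @Bool.rec (fun _ => Nat) (Btab_1458) (Btab_s_1459_1461 c) (Nat.ble 1459 c)
noncomputable def Btab_s_1456_1461 (c : Nat) : Nat := @Bool.rec (fun _ => Nat) (Btab_s_1456_1458 c) (Btab_s_1458_1461 c) (Nat.ble 1458 c)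
noncomputable def Btab_s_1452_1461 (c : Nat) : Nat := @Bool.rec (fun _ => Nat) (Btab_s_1452_1456 c) (Btab_s_1456_1461 c) (Nat.ble 1456 c)
noncomputable def Btab_s_1461_1463 (c : Nat) : Nat := @Bool.rec (fun _ => Nat) (Btab_1461) (Btab_1462) (Nat.ble 1462 c)
noncomputable def Btab_s_1464_1466 (c : Nat) : Nat := @Bool.rec (fun _ => Nat) (Btab_1464) (Btab_1465) (Nat.ble 1465 c)
noncomputable def Btab_s_1463_1466 (c : Nat) : Nat := @Bool.rec (fun _ => Nat) (Btab_1463) (Btab_s_1464_1466 c) (Nat.ble 1464 c)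
noncomputable def Btab_s_1461_1466 (c : Nat) : Nat := @Bool.rec (fun _ => Nat) (Btab_s_1461_1463 c) (Btab_s_1463_1466 c) (Nat.ble 1463 c)
noncomputable def Btab_s_1466_1468 (c : Nat) : Nat := @Bool.rec (fun _ => Nat) (Btab_1466) (Btab_1467) (Nat.ble 1467 c)
noncomputable def Btab_s_1469_1471 (c : Nat) : Nat := @Bool.rec (fun _ => Nat) (Btab_1469) (Btab_1470) (Nat.ble 1470 c)
noncomputable def Btab_s_1468_1471 (c : Nat) : Nat := @Bool.rec (fun _ => Nat) (Btab_1468) (Btab_s_1469_1471 c) (Nat.ble 1469 c)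
noncomputable def Btab_s_1466_1471 (c : Nat) : Nat := @Bool.rec (fun _ => Nat) (Btab_s_1466_1468 c) (Btab_s_1468_1471 c) (Nat.ble 1468 c)
noncomputable def Btab_s_1461_1471 (c : Nat) : Nat := @Bool.rec (fun _ => Nat) (Btab_s_1461_1466 c) (Btab_s_1466_1471 c) (Nat.ble 1466 c)
noncomputable def Btab_s_1452_1471 (c : Nat) : Nat := @Bool.rec (fun _ => Nat) (Btab_s_1452_1461 c) (Btab_s_1461_1471 c) (Nat.ble 1461 c)
noncomputable def Btab_s_1471_1473 (c : Nat) : Nat := @Bool.rec (fun _ => Nat) (Btab_1471) (Btab_1472) (Nat.ble 1472 c)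
noncomputable def Btab_s_1473_1475 (c : Nat) : Nat := @Bool.rec (fun _ => Nat) (Btab_1473) (Btab_1474) (Nat.ble 1474 c)
noncomputable def Btab_s_1471_1475 (c : Nat) : Nat := @Bool.rec (fun _ => Nat) (Btab_s_1471_1473 c) (Btab_s_1473_1475 c) (Nat.ble 1473 c)
noncomputable def Btab_s_1475_1477 (c : Nat) : Nat := @Bool.rec (fun _ => Nat) (Btab_1475) (Btab_1476) (Nat.ble 1476 c)
noncomputable def Btab_s_1478_1480 (c : Nat) : Nat := @Bool.rec (fun _ => Nat) (Btab_1478) (Btab_1479) (Nat.ble 1479 c)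
noncomputable def Btab_s_1477_1480 (c : Nat) : Nat := @Bool.rec (fun _ => Nat) (Btab_1477) (Btab_s_1478_1480 c) (Nat.ble 1478 c)
noncomputable def Btab_s_1475_1480 (c : Nat) : Nat := @Bool.rec (fun _ => Nat) (Btab_s_1475_1477 c) (Btab_s_1477_1480 c) (Nat.ble 1477 c)
noncomputable def Btab_s_1471_1480 (c : Nat) : Nat := @Bool.rec (fun _ => Nat) (Btab_s_1471_1475 c) (Btab_s_1475_1480 c) (Nat.ble 1475 c)
noncomputable def Btab_s_1480_1482 (c : Nat) : Nat := @Bool.rec (fun _ => Nat) (Btab_1480) (Btab_1481) (Nat.ble 1481 c)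
noncomputable def Btab_s_1483_1485 (c : Nat) : Nat := @Bool.rec (fun _ => Nat) (Btab_1483) (Btab_1484) (Nat.ble 1484 c)
noncomputable def Btab_s_1482_1485 (c : Nat) : Nat := @Bool.rec (fun _ => Nat) (Btab_1482) (Btab_s_1483_1485 c) (Nat.ble 1483 c)
noncomputable def Btab_s_1480_1485 (c : Nat) : Nat := @Bool.rec (fun _ => Nat) (Btab_s_1480_1482 c) (Btab_s_1482_1485 c) (Nat.ble 1482 c)
noncomputable def Btab_s_1485_1487 (c : Nat) : Nat := @Bool.rec (fun _ => Nat) (Btab_1485) (Btab_1486) (Nat.ble 1486 c)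
noncomputable def Btab_s_1488_1490 (c : Nat) : Nat := @Bool.rec (fun _ => Nat) (Btab_1488) (Btab_1489) (Nat.ble 1489 c)
noncomputable def Btab_s_1487_1490 (c : Nat) : Nat := @Bool.rec (fun _ => Nat) (Btab_1487) (Btab_s_1488_1490 c) (Nat.ble 1488 c)
noncomputable def Btab_s_1485_1490 (c : Nat) : Nat := @Bool.rec (fun _ => Nat) (Btab_s_1485_1487 c) (Btab_s_1487_1490 c) (Nat.ble 1487 c)
noncomputable def Btab_s_1480_1490 (c : Nat) : Nat := @Bool.rec (fun _ => Nat) (Btab_s_1480_1485 c) (Btab_s_1485_1490 c) (Nat.ble 1485 c)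
noncomputable def Btab_s_1471_1490 (c : Nat) : Nat := @Bool.rec (fun _ => Nat) (Btab_s_1471_1480 c) (Btab_s_1480_1490 c) (Nat.ble 1480 c)
noncomputable def Btab_s_1452_1490 (c : Nat) : Nat := @Bool.rec (fun _ => Nat) (Btab_s_1452_1471 c) (Btab_s_1471_1490 c) (Nat.ble 1471 c)
noncomputable def Btab_s_1415_1490 (c : Nat) : Nat := @Bool.rec (fun _ => Nat) (Btab_s_1415_1452 c) (Btab_s_1452_1490 c) (Nat.ble 1452 c)
noncomputable def Btab_s_1341_1490 (c : Nat) : Nat := @Bool.rec (fun _ => Nat) (Btab_s_1341_1415 c) (Btab_s_1415_1490 c) (Nat.ble 1415 c)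
noncomputable def Btab_s_1192_1490 (c : Nat) : Nat := @Bool.rec (fun _ => Nat) (Btab_s_1192_1341 c) (Btab_s_1341_1490 c) (Nat.ble 1341 c)
noncomputable def Btab_s_1490_1492 (c : Nat) : Nat := @Bool.rec (fun _ => Nat) (Btab_1490) (Btab_1491) (Nat.ble 1491 c)
noncomputable def Btab_s_1492_1494 (c : Nat) : Nat := @Bool.rec (fun _ => Nat) (Btab_1492) (Btab_1493) (Nat.ble 1493 c)
noncomputable def Btab_s_1490_1494 (c : Nat) : Nat := @Bool.rec (fun _ => Nat) (Btab_s_1490_1492 c) (Btab_s_1492_1494 c) (Nat.ble 1492 c)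
noncomputable def Btab_s_1494_1496 (c : Nat) : Nat := @Bool.rec (fun _ => Nat) (Btab_1494) (Btab_1495) (Nat.ble 1495 c)
noncomputable def Btab_s_1497_1499 (c : Nat) : Nat := @Bool.rec (fun _ => Nat) (Btab_1497) (Btab_1498) (Nat.ble 1498 c)
noncomputable def Btab_s_1496_1499 (c : Nat) : Nat := @Bool.rec (fun _ => Nat) (Btab_1496) (Btab_s_1497_1499 c) (Nat.ble 1497 c)
noncomputable def Btab_s_1494_1499 (c : Nat) : Nat := @Bool.rec (fun _ => Nat) (Btab_s_1494_1496 c) (Btab_s_1496_1499 c) (Nat.ble 1496 c)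
noncomputable def Btab_s_1490_1499 (c : Nat) : Nat := @Bool.rec (fun _ => Nat) (Btab_s_1490_1494 c) (Btab_s_1494_1499 c) (Nat.ble 1494 c)
noncomputable def Btab_s_1499_1501 (c : Nat) : Nat := @Bool.rec (fun _ => Nat) (Btab_1499) (Btab_1500) (Nat.ble 1500 c)
noncomputable def Btab_s_1501_1503 (c : Nat) : Nat := @Bool.rec (fun _ => Nat) (Btab_1501) (Btab_1502) (Nat.ble 1502 c)
noncomputable def Btab_s_1499_1503 (c : Nat) : Nat := @Bool.rec (fun _ => Nat) (Btab_s_1499_1501 c) (Btab_s_1501_1503 c) (Nat.ble 1501 c)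
noncomputable def Btab_s_1503_1505 (c : Nat) : Nat := @Bool.rec (fun _ => Nat) (Btab_1503) (Btab_1504) (Nat.ble 1504 c)
noncomputable def Btab_s_1506_1508 (c : Nat) : Nat := @Bool.rec (fun _ => Nat) (Btab_1506) (Btab_1507) (Nat.ble 1507 c)
noncomputable def Btab_s_1505_1508 (c : Nat) : Nat := @Bool.rec (fun _ => Nat) (Btab_1505) (Btab_s_1506_1508 c) (Nat.ble 1506 c)
noncomputable def Btab_s_1503_1508 (c : Nat) : Nat := @Bool.rec (fun _ => Nat) (Btab_s_1503_1505 c) (Btab_s_1505_1508 c) (Nat.ble 1505 c)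
noncomputable def Btab_s_1499_1508 (c : Nat) : Nat := @Bool.rec (fun _ => Nat) (Btab_s_1499_1503 c) (Btab_s_1503_1508 c) (Nat.ble 1503 c)
noncomputable def Btab_s_1490_1508 (c : Nat) : Nat := @Bool.rec (fun _ => Nat) (Btab_s_1490_1499 c) (Btab_s_1499_1508 c) (Nat.ble 1499 c)
noncomputable def Btab_s_1508_1510 (c : Nat) : Nat := @Bool.rec (fun _ => Nat) (Btab_1508) (Btab_1509) (Nat.ble 1509 c)
noncomputable def Btab_s_1510_1512 (c : Nat) : Nat := @Bool.rec (fun _ => Nat) (Btab_1510) (Btab_1511) (Nat.ble 1511 c)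
noncomputable def Btab_s_1508_1512 (c : Nat) : Nat := @Bool.rec (fun _ => Nat) (Btab_s_1508_1510 c) (Btab_s_1510_1512 c) (Nat.ble 1510 c)
noncomputable def Btab_s_1512_1514 (c : Nat) : Nat := @Bool.rec (fun _ => Nat) (Btab_1512) (Btab_1513) (Nat.ble 1513 c)
noncomputable def Btab_s_1515_1517 (c : Nat) : Nat := @Bool.rec (fun _ => Nat) (Btab_1515) (Btab_1516) (Nat.ble 1516 c)
noncomputable def Btab_s_1514_1517 (c : Nat) : Nat := @Bool.rec (fun _ => Nat) (Btab_1514) (Btab_s_1515_1517 c) (Nat.ble 1515 c)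
noncomputable def Btab_s_1512_1517 (c : Nat) : Nat := @Bool.rec (fun _ => Nat) (Btab_s_1512_1514 c) (Btab_s_1514_1517 c) (Nat.ble 1514 c)
noncomputable def Btab_s_1508_1517 (c : Nat) : Nat := @Bool.rec (fun _ => Nat) (Btab_s_1508_1512 c) (Btab_s_1512_1517 c) (Nat.ble 1512 c)
noncomputable def Btab_s_1517_1519 (c : Nat) : Nat := @Bool.rec (fun _ => Nat) (Btab_1517) (Btab_1518) (Nat.ble 1518 c)
noncomputable def Btab_s_1520_1522 (c : Nat) : Nat := @Bool.rec (fun _ => Nat) (Btab_1520) (Btab_1521) (Nat.ble 1521 c)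
noncomputable def Btab_s_1519_1522 (c : Nat) : Nat := @Bool.rec (fun _ => Nat) (Btab_1519) (Btab_s_1520_1522 c) (Nat.ble 1520 c)
noncomputable def Btab_s_1517_1522 (c : Nat) : Nat := @Bool.rec (fun _ => Nat) (Btab_s_1517_1519 c) (Btab_s_1519_1522 c) (Nat.ble 1519 c)
noncomputable def Btab_s_1522_1524 (c : Nat) : Nat := @Bool.rec (fun _ => Nat) (Btab_1522) (Btab_1523) (Nat.ble 1523 c)
noncomputable def Btab_s_1525_1527 (c : Nat) : Nat := @Bool.rec (fun _ => Nat) (Btab_1525) (Btab_1526) (Nat.ble 1526 c)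
noncomputable def Btab_s_1524_1527 (c : Nat) : Nat := @Bool.rec (fun _ => Nat) (Btab_1524) (Btab_s_1525_1527 c) (Nat.ble 1525 c)
noncomputable def Btab_s_1522_1527 (c : Nat) : Nat := @Bool.rec (fun _ => Nat) (Btab_s_1522_1524 c) (Btab_s_1524_1527 c) (Nat.ble 1524 c)
noncomputable def Btab_s_1517_1527 (c : Nat) : Nat := @Bool.rec (fun _ => Nat) (Btab_s_1517_1522 c) (Btab_s_1522_1527 c) (Nat.ble 1522 c)
noncomputable def Btab_s_1508_1527 (c : Nat) : Nat := @Bool.rec (fun _ => Nat) (Btab_s_1508_1517 c) (Btab_s_1517_1527 c) (Nat.ble 1517 c)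
noncomputable def Btab_s_1490_1527 (c : Nat) : Nat := @Bool.rec (fun _ => Nat) (Btab_s_1490_1508 c) (Btab_s_1508_1527 c) (Nat.ble 1508 c)
noncomputable def Btab_s_1527_1529 (c : Nat) : Nat := @Bool.rec (fun _ => Nat) (Btab_1527) (Btab_1528) (Nat.ble 1528 c)
noncomputable def Btab_s_1529_1531 (c : Nat) : Nat := @Bool.rec (fun _ => Nat) (Btab_1529) (Btab_1530) (Nat.ble 1530 c)
noncomputable def Btab_s_1527_1531 (c : Nat) : Nat := @Bool.rec (fun _ => Nat) (Btab_s_1527_1529 c) (Btab_s_1529_1531 c) (Nat.ble 1529 c)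
noncomputable def Btab_s_1531_1533 (c : Nat) : Nat := @Bool.rec (fun _ => Nat) (Btab_1531) (Btab_1532) (Nat.ble 1532 c)
noncomputable def Btab_s_1534_1536 (c : Nat) : Nat := @Bool.rec (fun _ => Nat) (Btab_1534) (Btab_1535) (Nat.ble 1535 c)
noncomputable def Btab_s_1533_1536 (c : Nat) : Nat := @Bool.rec (fun _ => Nat) (Btab_1533) (Btab_s_1534_1536 c) (Nat.ble 1534 c)
noncomputable def Btab_s_1531_1536 (c : Nat) : Nat := @Bool.rec (fun _ => Nat) (Btab_s_1531_1533 c) (Btab_s_1533_1536 c) (Nat.ble 1533 c)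
noncomputable def Btab_s_1527_1536 (c : Nat) : Nat := @Bool.rec (fun _ => Nat) (Btab_s_1527_1531 c) (Btab_s_1531_1536 c) (Nat.ble 1531 c)
noncomputable def Btab_s_1536_1538 (c : Nat) : Nat := @Bool.rec (fun _ => Nat) (Btab_1536) (Btab_1537) (Nat.ble 1537 c)
noncomputable def Btab_s_1538_1540 (c : Nat) : Nat := @Bool.rec (fun _ => Nat) (Btab_1538) (Btab_1539) (Nat.ble 1539 c)
noncomputable def Btab_s_1536_1540 (c : Nat) : Nat := @Bool.rec (fun _ => Nat) (Btab_s_1536_1538 c) (Btab_s_1538_1540 c) (Nat.ble 1538 c)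
noncomputable def Btab_s_1540_1542 (c : Nat) : Nat := @Bool.rec (fun _ => Nat) (Btab_1540) (Btab_1541) (Nat.ble 1541 c)
noncomputable def Btab_s_1543_1545 (c : Nat) : Nat := @Bool.rec (fun _ => Nat) (Btab_1543) (Btab_1544) (Nat.ble 1544 c)
noncomputable def Btab_s_1542_1545 (c : Nat) : Nat := @Bool.rec (fun _ => Nat) (Btab_1542) (Btab_s_1543_1545 c) (Nat.ble 1543 c)
noncomputable def Btab_s_1540_1545 (c : Nat) : Nat := @Bool.rec (fun _ => Nat) (Btab_s_1540_1542 c) (Btab_s_1542_1545 c) (Nat.ble 1542 c)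
noncomputable def Btab_s_1536_1545 (c : Nat) : Nat := @Bool.rec (fun _ => Nat) (Btab_s_1536_1540 c) (Btab_s_1540_1545 c) (Nat.ble 1540 c)
noncomputable def Btab_s_1527_1545 (c : Nat) : Nat := @Bool.rec (fun _ => Nat) (Btab_s_1527_1536 c) (Btab_s_1536_1545 c) (Nat.ble 1536 c)
noncomputable def Btab_s_1545_1547 (c : Nat) : Nat := @Bool.rec (fun _ => Nat) (Btab_1545) (Btab_1546) (Nat.ble 1546 c)
noncomputable def Btab_s_1547_1549 (c : Nat) : Nat := @Bool.rec (fun _ => Nat) (Btab_1547) (Btab_1548) (Nat.ble 1548 c)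
noncomputable def Btab_s_1545_1549 (c : Nat) : Nat := @Bool.rec (fun _ => Nat) (Btab_s_1545_1547 c) (Btab_s_1547_1549 c) (Nat.ble 1547 c)
noncomputable def Btab_s_1549_1551 (c : Nat) : Nat := @Bool.rec (fun _ => Nat) (Btab_1549) (Btab_1550) (Nat.ble 1550 c)
noncomputable def Btab_s_1552_1554 (c : Nat) : Nat := @Bool.rec (fun _ => Nat) (Btab_1552) (Btab_1553) (Nat.ble 1553 c)
noncomputable def Btab_s_1551_1554 (c : Nat) : Nat := @Bool.rec (fun _ => Nat) (Btab_1551) (Btab_s_1552_1554 c) (Nat.ble 1552 c)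
noncomputable def Btab_s_1549_1554 (c : Nat) : Nat := @Bool.rec (fun _ => Nat) (Btab_s_1549_1551 c) (Btab_s_1551_1554 c) (Nat.ble 1551 c)
noncomputable def Btab_s_1545_1554 (c : Nat) : Nat := @Bool.rec (fun _ => Nat) (Btab_s_1545_1549 c) (Btab_s_1549_1554 c) (Nat.ble 1549 c)
noncomputable def Btab_s_1554_1556 (c : Nat) : Nat := @Bool.rec (fun _ => Nat) (Btab_1554) (Btab_1555) (Nat.ble 1555 c)
noncomputable def Btab_s_1557_1559 (c : Nat) : Nat := @Bool.rec (fun _ => Nat) (Btab_1557) (Btab_1558) (Nat.ble 1558 c)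
noncomputable def Btab_s_1556_1559 (c : Nat) : Nat := @Bool.rec (fun _ => Nat) (Btab_1556) (Btab_s_1557_1559 c) (Nat.ble 1557 c)
noncomputable def Btab_s_1554_1559 (c : Nat) : Nat := @Bool.rec (fun _ => Nat) (Btab_s_1554_1556 c) (Btab_s_1556_1559 c) (Nat.ble 1556 c)
noncomputable def Btab_s_1559_1561 (c : Nat) : Nat := @Bool.rec (fun _ => Nat) (Btab_1559) (Btab_1560) (Nat.ble 1560 c)
noncomputable def Btab_s_1562_1564 (c : Nat) : Nat := @Bool.rec (fun _ => Nat) (Btab_1562) (Btab_1563) (Nat.ble 1563 c)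
noncomputable def Btab_s_1561_1564 (c : Nat) : Nat := @Bool.rec (fun _ => Nat) (Btab_1561) (Btab_s_1562_1564 c) (Nat.ble 1562 c)
noncomputable def Btab_s_1559_1564 (c : Nat) : Nat := @Bool.rec (fun _ => Nat) (Btab_s_1559_1561 c) (Btab_s_1561_1564 c) (Nat.ble 1561 c)
noncomputable def Btab_s_1554_1564 (c : Nat) : Nat := @Bool.rec (fun _ => Nat) (Btab_s_1554_1559 c) (Btab_s_1559_1564 c) (Nat.ble 1559 c)
noncomputable def Btab_s_1545_1564 (c : Nat) : Nat := @Bool.rec (fun _ => Nat) (Btab_s_1545_1554 c) (Btab_s_1554_1564 c) (Nat.ble 1554 c)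
noncomputable def Btab_s_1527_1564 (c : Nat) : Nat := @Bool.rec (fun _ => Nat) (Btab_s_1527_1545 c) (Btab_s_1545_1564 c) (Nat.ble 1545 c)
noncomputable def Btab_s_1490_1564 (c : Nat) : Nat := @Bool.rec (fun _ => Nat) (Btab_s_1490_1527 c) (Btab_s_1527_1564 c) (Nat.ble 1527 c)
noncomputable def Btab_s_1564_1566 (c : Nat) : Nat := @Bool.rec (fun _ => Nat) (Btab_1564) (Btab_1565) (Nat.ble 1565 c)
noncomputable def Btab_s_1566_1568 (c : Nat) : Nat := @Bool.rec (fun _ => Nat) (Btab_1566) (Btab_1567) (Nat.ble 1567 c)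
noncomputable def Btab_s_1564_1568 (c : Nat) : Nat := @Bool.rec (fun _ => Nat) (Btab_s_1564_1566 c) (Btab_s_1566_1568 c) (Nat.ble 1566 c)
noncomputable def Btab_s_1568_1570 (c : Nat) : Nat := @Bool.rec (fun _ => Nat) (Btab_1568) (Btab_1569) (Nat.ble 1569 c)
noncomputable def Btab_s_1571_1573 (c : Nat) : Nat := @Bool.rec (fun _ => Nat) (Btab_1571) (Btab_1572) (Nat.ble 1572 c)
noncomputable def Btab_s_1570_1573 (c : Nat) : Nat := @Bool.rec (fun _ => Nat) (Btab_1570) (Btab_s_1571_1573 c) (Nat.ble 1571 c)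
noncomputable def Btab_s_1568_1573 (c : Nat) : Nat := @Bool.rec (fun _ => Nat) (Btab_s_1568_1570 c) (Btab_s_1570_1573 c) (Nat.ble 1570 c)
noncomputable def Btab_s_1564_1573 (c : Nat) : Nat := @Bool.rec (fun _ => Nat) (Btab_s_1564_1568 c) (Btab_s_1568_1573 c) (Nat.ble 1568 c)
noncomputable def Btab_s_1573_1575 (c : Nat) : Nat := @Bool.rec (fun _ => Nat) (Btab_1573) (Btab_1574) (Nat.ble 1574 c)
noncomputable def Btab_s_1575_1577 (c : Nat) : Nat := @Bool.rec (fun _ => Nat) (Btab_1575) (Btab_1576) (Nat.ble 1576 c)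
noncomputable def Btab_s_1573_1577 (c : Nat) : Nat := @Bool.rec (fun _ => Nat) (Btab_s_1573_1575 c) (Btab_s_1575_1577 c) (Nat.ble 1575 c)
noncomputable def Btab_s_1577_1579 (c : Nat) : Nat := @Bool.rec (fun _ => Nat) (Btab_1577) (Btab_1578) (Nat.ble 1578 c)
noncomputable def Btab_s_1580_1582 (c : Nat) : Nat := @Bool.rec (fun _ => Nat) (Btab_1580) (Btab_1581) (Nat.ble 1581 c)
noncomputable def Btab_s_1579_1582 (c : Nat) : Nat := @Bool.rec (fun _ => Nat) (Btab_1579) (Btab_s_1580_1582 c) (Nat.ble 1580 c)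
noncomputable def Btab_s_1577_1582 (c : Nat) : Nat := @Bool.rec (fun _ => Nat) (Btab_s_1577_1579 c) (Btab_s_1579_1582 c) (Nat.ble 1579 c)
noncomputable def Btab_s_1573_1582 (c : Nat) : Nat := @Bool.rec (fun _ => Nat) (Btab_s_1573_1577 c) (Btab_s_1577_1582 c) (Nat.ble 1577 c)
noncomputable def Btab_s_1564_1582 (c : Nat) : Nat := @Bool.rec (fun _ => Nat) (Btab_s_1564_1573 c) (Btab_s_1573_1582 c) (Nat.ble 1573 c)
noncomputable def Btab_s_1582_1584 (c : Nat) : Nat := @Bool.rec (fun _ => Nat) (Btab_1582) (Btab_1583) (Nat.ble 1583 c)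
noncomputable def Btab_s_1584_1586 (c : Nat) : Nat := @Bool.rec (fun _ => Nat) (Btab_1584) (Btab_1585) (Nat.ble 1585 c)
noncomputable def Btab_s_1582_1586 (c : Nat) : Nat := @Bool.rec (fun _ => Nat) (Btab_s_1582_1584 c) (Btab_s_1584_1586 c) (Nat.ble 1584 c)
noncomputable def Btab_s_1586_1588 (c : Nat) : Nat := @Bool.rec (fun _ => Nat) (Btab_1586) (Btab_1587) (Nat.ble 1587 c)
noncomputable def Btab_s_1589_1591 (c : Nat) : Nat := @Bool.rec (fun _ => Nat) (Btab_1589) (Btab_1590) (Nat.ble 1590 c)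
noncomputable def Btab_s_1588_1591 (c : Nat) : Nat := @Bool.rec (fun _ => Nat) (Btab_1588) (Btab_s_1589_1591 c) (Nat.ble 1589 c)
noncomputable def Btab_s_1586_1591 (c : Nat) : Nat := @Bool.rec (fun _ => Nat) (Btab_s_1586_1588 c) (Btab_s_1588_1591 c) (Nat.ble 1588 c)
noncomputable def Btab_s_1582_1591 (c : Nat) : Nat := @Bool.rec (fun _ => Nat) (Btab_s_1582_1586 c) (Btab_s_1586_1591 c) (Nat.ble 1586 c)
noncomputable def Btab_s_1591_1593 (c : Nat) : Nat := @Bool.rec (fun _ => Nat) (Btab_1591) (Btab_1592) (Nat.ble 1592 c)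
noncomputable def Btab_s_1594_1596 (c : Nat) : Nat := @Bool.rec (fun _ => Nat) (Btab_1594) (Btab_1595) (Nat.ble 1595 c)
noncomputable def Btab_s_1593_1596 (c : Nat) : Nat := @Bool.rec (fun _ => Nat) (Btab_1593) (Btab_s_1594_1596 c) (Nat.ble 1594 c)
noncomputable def Btab_s_1591_1596 (c : Nat) : Nat := @Bool.rec (fun _ => Nat) (Btab_s_1591_1593 c) (Btab_s_1593_1596 c) (Nat.ble 1593 c)
noncomputable def Btab_s_1596_1598 (c : Nat) : Nat := @Bool.rec (fun _ => Nat) (Btab_1596) (Btab_1597) (Nat.ble 1597 c)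
noncomputable def Btab_s_1599_1601 (c : Nat) : Nat := @Bool.rec (fun _ => Nat) (Btab_1599) (Btab_1600) (Nat.ble 1600 c)
noncomputable def Btab_s_1598_1601 (c : Nat) : Nat := @Bool.rec (fun _ => Nat) (Btab_1598) (Btab_s_1599_1601 c) (Nat.ble 1599 c)
noncomputable def Btab_s_1596_1601 (c : Nat) : Nat := @Bool.rec (fun _ => Nat) (Btab_s_1596_1598 c) (Btab_s_1598_1601 c) (Nat.ble 1598 c)
noncomputable def Btab_s_1591_1601 (c : Nat) : Nat := @Bool.rec (fun _ => Nat) (Btab_s_1591_1596 c) (Btab_s_1596_1601 c) (Nat.ble 1596 c)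
noncomputable def Btab_s_1582_1601 (c : Nat) : Nat := @Bool.rec (fun _ => Nat) (Btab_s_1582_1591 c) (Btab_s_1591_1601 c) (Nat.ble 1591 c)
noncomputable def Btab_s_1564_1601 (c : Nat) : Nat := @Bool.rec (fun _ => Nat) (Btab_s_1564_1582 c) (Btab_s_1582_1601 c) (Nat.ble 1582 c)
noncomputable def Btab_s_1601_1603 (c : Nat) : Nat := @Bool.rec (fun _ => Nat) (Btab_1601) (Btab_1602) (Nat.ble 1602 c)
noncomputable def Btab_s_1603_1605 (c : Nat) : Nat := @Bool.rec (fun _ => Nat) (Btab_1603) (Btab_1604) (Nat.ble 1604 c)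
noncomputable def Btab_s_1601_1605 (c : Nat) : Nat := @Bool.rec (fun _ => Nat) (Btab_s_1601_1603 c) (Btab_s_1603_1605 c) (Nat.ble 1603 c)
noncomputable def Btab_s_1605_1607 (c : Nat) : Nat := @Bool.rec (fun _ => Nat) (Btab_1605) (Btab_1606) (Nat.ble 1606 c)
noncomputable def Btab_s_1608_1610 (c : Nat) : Nat := @Bool.rec (fun _ => Nat) (Btab_1608) (Btab_1609) (Nat.ble 1609 c)
noncomputable def Btab_s_1607_1610 (c : Nat) : Nat := @Bool.rec (fun _ => Nat) (Btab_1607) (Btab_s_1608_1610 c) (Nat.ble 1608 c)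
noncomputable def Btab_s_1605_1610 (c : Nat) : Nat := @Bool.rec (fun _ => Nat) (Btab_s_1605_1607 c) (Btab_s_1607_1610 c) (Nat.ble 1607 c)
noncomputable def Btab_s_1601_1610 (c : Nat) : Nat := @Bool.rec (fun _ => Nat) (Btab_s_1601_1605 c) (Btab_s_1605_1610 c) (Nat.ble 1605 c)
noncomputable def Btab_s_1610_1612 (c : Nat) : Nat := @Bool.rec (fun _ => Nat) (Btab_1610) (Btab_1611) (Nat.ble 1611 c)
noncomputable def Btab_s_1613_1615 (c : Nat) : Nat := @Bool.rec (fun _ => Nat) (Btab_1613) (Btab_1614) (Nat.ble 1614 c)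
noncomputable def Btab_s_1612_1615 (c : Nat) : Nat := @Bool.rec (fun _ => Nat) (Btab_1612) (Btab_s_1613_1615 c) (Nat.ble 1613 c)
noncomputable def Btab_s_1610_1615 (c : Nat) : Nat := @Bool.rec (fun _ => Nat) (Btab_s_1610_1612 c) (Btab_s_1612_1615 c) (Nat.ble 1612 c)
noncomputable def Btab_s_1615_1617 (c : Nat) : Nat := @Bool.rec (fun _ => Nat) (Btab_1615) (Btab_1616) (Nat.ble 1616 c)
noncomputable def Btab_s_1618_1620 (c : Nat) : Nat := @Bool.rec (fun _ => Nat) (Btab_1618) (Btab_1619) (Nat.ble 1619 c)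
noncomputable def Btab_s_1617_1620 (c : Nat) : Nat := @Bool.rec (fun _ => Nat) (Btab_1617) (Btab_s_1618_1620 c) (Nat.ble 1618 c)
noncomputable def Btab_s_1615_1620 (c : Nat) : Nat := @Bool.rec (fun _ => Nat) (Btab_s_1615_1617 c) (Btab_s_1617_1620 c) (Nat.ble 1617 c)
noncomputable def Btab_s_1610_1620 (c : Nat) : Nat := @Bool.rec (fun _ => Nat) (Btab_s_1610_1615 c) (Btab_s_1615_1620 c) (Nat.ble 1615 c)
noncomputable def Btab_s_1601_1620 (c : Nat) : Nat := @Bool.rec (fun _ => Nat) (Btab_s_1601_1610 c) (Btab_s_1610_1620 c) (Nat.ble 1610 c)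
noncomputable def Btab_s_1620_1622 (c : Nat) : Nat := @Bool.rec (fun _ => Nat) (Btab_1620) (Btab_1621) (Nat.ble 1621 c)
noncomputable def Btab_s_1622_1624 (c : Nat) : Nat := @Bool.rec (fun _ => Nat) (Btab_1622) (Btab_1623) (Nat.ble 1623 c)
noncomputable def Btab_s_1620_1624 (c : Nat) : Nat := @Bool.rec (fun _ => Nat) (Btab_s_1620_1622 c) (Btab_s_1622_1624 c) (Nat.ble 1622 c)
noncomputable def Btab_s_1624_1626 (c : Nat) : Nat := @Bool.rec (fun _ => Nat) (Btab_1624) (Btab_1625) (Nat.ble 1625 c)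
noncomputable def Btab_s_1627_1629 (c : Nat) : Nat := @Bool.rec (fun _ => Nat) (Btab_1627) (Btab_1628) (Nat.ble 1628 c)
noncomputable def Btab_s_1626_1629 (c : Nat) : Nat := @Bool.rec (fun _ => Nat) (Btab_1626) (Btab_s_1627_1629 c) (Nat.ble 1627 c)
noncomputable def Btab_s_1624_1629 (c : Nat) : Nat := @Bool.rec (fun _ => Nat) (Btab_s_1624_1626 c) (Btab_s_1626_1629 c) (Nat.ble 1626 c)
noncomputable def Btab_s_1620_1629 (c : Nat) : Nat := @Bool.rec (fun _ => Nat) (Btab_s_1620_1624 c) (Btab_s_1624_1629 c) (Nat.ble 1624 c)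
noncomputable def Btab_s_1629_1631 (c : Nat) : Nat := @Bool.rec (fun _ => Nat) (Btab_1629) (Btab_1630) (Nat.ble 1630 c)
noncomputable def Btab_s_1632_1634 (c : Nat) : Nat := @Bool.rec (fun _ => Nat) (Btab_1632) (Btab_1633) (Nat.ble 1633 c)
noncomputable def Btab_s_1631_1634 (c : Nat) : Nat := @Bool.rec (fun _ => Nat) (Btab_1631) (Btab_s_1632_1634 c) (Nat.ble 1632 c)
noncomputable def Btab_s_1629_1634 (c : Nat) : Nat := @Bool.rec (fun _ => Nat) (Btab_s_1629_1631 c) (Btab_s_1631_1634 c) (Nat.ble 1631 c)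
noncomputable def Btab_s_1634_1636 (c : Nat) : Nat := @Bool.rec (fun _ => Nat) (Btab_1634) (Btab_1635) (Nat.ble 1635 c)
noncomputable def Btab_s_1637_1639 (c : Nat) : Nat := @Bool.rec (fun _ => Nat) (Btab_1637) (Btab_1638) (Nat.ble 1638 c)
noncomputable def Btab_s_1636_1639 (c : Nat) : Nat := @Bool.rec (fun _ => Nat) (Btab_1636) (Btab_s_1637_1639 c) (Nat.ble 1637 c)
noncomputable def Btab_s_1634_1639 (c : Nat) : Nat := @Bool.rec (fun _ => Nat) (Btab_s_1634_1636 c) (Btab_s_1636_1639 c) (Nat.ble 1636 c)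
noncomputable def Btab_s_1629_1639 (c : Nat) : Nat := @Bool.rec (fun _ => Nat) (Btab_s_1629_1634 c) (Btab_s_1634_1639 c) (Nat.ble 1634 c)
noncomputable def Btab_s_1620_1639 (c : Nat) : Nat := @Bool.rec (fun _ => Nat) (Btab_s_1620_1629 c) (Btab_s_1629_1639 c) (Nat.ble 1629 c)
noncomputable def Btab_s_1601_1639 (c : Nat) : Nat := @Bool.rec (fun _ => Nat) (Btab_s_1601_1620 c) (Btab_s_1620_1639 c) (Nat.ble 1620 c)
noncomputable def Btab_s_1564_1639 (c : Nat) : Nat := @Bool.rec (fun _ => Nat) (Btab_s_1564_1601 c) (Btab_s_1601_1639 c) (Nat.ble 1601 c)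
noncomputable def Btab_s_1490_1639 (c : Nat) : Nat := @Bool.rec (fun _ => Nat) (Btab_s_1490_1564 c) (Btab_s_1564_1639 c) (Nat.ble 1564 c)
noncomputable def Btab_s_1639_1641 (c : Nat) : Nat := @Bool.rec (fun _ => Nat) (Btab_1639) (Btab_1640) (Nat.ble 1640 c)
noncomputable def Btab_s_1641_1643 (c : Nat) : Nat := @Bool.rec (fun _ => Nat) (Btab_1641) (Btab_1642) (Nat.ble 1642 c)
noncomputable def Btab_s_1639_1643 (c : Nat) : Nat := @Bool.rec (fun _ => Nat) (Btab_s_1639_1641 c) (Btab_s_1641_1643 c) (Nat.ble 1641 c)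
noncomputable def Btab_s_1643_1645 (c : Nat) : Nat := @Bool.rec (fun _ => Nat) (Btab_1643) (Btab_1644) (Nat.ble 1644 c)
noncomputable def Btab_s_1646_1648 (c : Nat) : Nat := @Bool.rec (fun _ => Nat) (Btab_1646) (Btab_1647) (Nat.ble 1647 c)
noncomputable def Btab_s_1645_1648 (c : Nat) : Nat := @Bool.rec (fun _ => Nat) (Btab_1645) (Btab_s_1646_1648 c) (Nat.ble 1646 c)
noncomputable def Btab_s_1643_1648 (c : Nat) : Nat := @Bool.rec (fun _ => Nat) (Btab_s_1643_1645 c) (Btab_s_1645_1648 c) (Nat.ble 1645 c)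
noncomputable def Btab_s_1639_1648 (c : Nat) : Nat := @Bool.rec (fun _ => Nat) (Btab_s_1639_1643 c) (Btab_s_1643_1648 c) (Nat.ble 1643 c)
noncomputable def Btab_s_1648_1650 (c : Nat) : Nat := @Bool.rec (fun _ => Nat) (Btab_1648) (Btab_1649) (Nat.ble 1649 c)
noncomputable def Btab_s_1650_1652 (c : Nat) : Nat := @Bool.rec (fun _ => Nat) (Btab_1650) (Btab_1651) (Nat.ble 1651 c)
noncomputable def Btab_s_1648_1652 (c : Nat) : Nat := @Bool.rec (fun _ => Nat) (Btab_s_1648_1650 c) (Btab_s_1650_1652 c) (Nat.ble 1650 c)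
noncomputable def Btab_s_1652_1654 (c : Nat) : Nat := @Bool.rec (fun _ => Nat) (Btab_1652) (Btab_1653) (Nat.ble 1653 c)
noncomputable def Btab_s_1655_1657 (c : Nat) : Nat := @Bool.rec (fun _ => Nat) (Btab_1655) (Btab_1656) (Nat.ble 1656 c)
noncomputable def Btab_s_1654_1657 (c : Nat) : Nat := @Bool.rec (fun _ => Nat) (Btab_1654) (Btab_s_1655_1657 c) (Nat.ble 1655 c)
noncomputable def Btab_s_1652_1657 (c : Nat) : Nat := @Bool.rec (fun _ => Nat) (Btab_s_1652_1654 c) (Btab_s_1654_1657 c) (Nat.ble 1654 c)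
noncomputable def Btab_s_1648_1657 (c : Nat) : Nat := @Bool.rec (fun _ => Nat) (Btab_s_1648_1652 c) (Btab_s_1652_1657 c) (Nat.ble 1652 c)
noncomputable def Btab_s_1639_1657 (c : Nat) : Nat := @Bool.rec (fun _ => Nat) (Btab_s_1639_1648 c) (Btab_s_1648_1657 c) (Nat.ble 1648 c)
noncomputable def Btab_s_1657_1659 (c : Nat) : Nat := @Bool.rec (fun _ => Nat) (Btab_1657) (Btab_1658) (Nat.ble 1658 c)
noncomputable def Btab_s_1659_1661 (c : Nat) : Nat := @Bool.rec (fun _ => Nat) (Btab_1659) (Btab_1660) (Nat.ble 1660 c)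
noncomputable def Btab_s_1657_1661 (c : Nat) : Nat := @Bool.rec (fun _ => Nat) (Btab_s_1657_1659 c) (Btab_s_1659_1661 c) (Nat.ble 1659 c)
noncomputable def Btab_s_1661_1663 (c : Nat) : Nat := @Bool.rec (fun _ => Nat) (Btab_1661) (Btab_1662) (Nat.ble 1662 c)
noncomputable def Btab_s_1664_1666 (c : Nat) : Nat := @Bool.rec (fun _ => Nat) (Btab_1664) (Btab_1665) (Nat.ble 1665 c)
noncomputable def Btab_s_1663_1666 (c : Nat) : Nat := @Bool.rec (fun _ => Nat) (Btab_1663) (Btab_s_1664_1666 c) (Nat.ble 1664 c)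
noncomputable def Btab_s_1661_1666 (c : Nat) : Nat := @Bool.rec (fun _ => Nat) (Btab_s_1661_1663 c) (Btab_s_1663_1666 c) (Nat.ble 1663 c)
noncomputable def Btab_s_1657_1666 (c : Nat) : Nat := @Bool.rec (fun _ => Nat) (Btab_s_1657_1661 c) (Btab_s_1661_1666 c) (Nat.ble 1661 c)
noncomputable def Btab_s_1666_1668 (c : Nat) : Nat := @Bool.rec (fun _ => Nat) (Btab_1666) (Btab_1667) (Nat.ble 1667 c)
noncomputable def Btab_s_1669_1671 (c : Nat) : Nat := @Bool.rec (fun _ => Nat) (Btab_1669) (Btab_1670) (Nat.ble 1670 c)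
noncomputable def Btab_s_1668_1671 (c : Nat) : Nat := @Bool.rec (fun _ => Nat) (Btab_1668) (Btab_s_1669_1671 c) (Nat.ble 1669 c)
noncomputable def Btab_s_1666_1671 (c : Nat) : Nat := @Bool.rec (fun _ => Nat) (Btab_s_1666_1668 c) (Btab_s_1668_1671 c) (Nat.ble 1668 c)
noncomputable def Btab_s_1671_1673 (c : Nat) : Nat := @Bool.rec (fun _ => Nat) (Btab_1671) (Btab_1672) (Nat.ble 1672 c)
noncomputable def Btab_s_1674_1676 (c : Nat) : Nat := @Bool.rec (fun _ => Nat) (Btab_1674) (Btab_1675) (Nat.ble 1675 c)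
noncomputable def Btab_s_1673_1676 (c : Nat) : Nat := @Bool.rec (fun _ => Nat) (Btab_1673) (Btab_s_1674_1676 c) (Nat.ble 1674 c)
noncomputable def Btab_s_1671_1676 (c : Nat) : Nat := @Bool.rec (fun _ => Nat) (Btab_s_1671_1673 c) (Btab_s_1673_1676 c) (Nat.ble 1673 c)
noncomputable def Btab_s_1666_1676 (c : Nat) : Nat := @Bool.rec (fun _ => Nat) (Btab_s_1666_1671 c) (Btab_s_1671_1676 c) (Nat.ble 1671 c)
noncomputable def Btab_s_1657_1676 (c : Nat) : Nat := @Bool.rec (fun _ => Nat) (Btab_s_1657_1666 c) (Btab_s_1666_1676 c) (Nat.ble 1666 c)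
noncomputable def Btab_s_1639_1676 (c : Nat) : Nat := @Bool.rec (fun _ => Nat) (Btab_s_1639_1657 c) (Btab_s_1657_1676 c) (Nat.ble 1657 c)
noncomputable def Btab_s_1676_1678 (c : Nat) : Nat := @Bool.rec (fun _ => Nat) (Btab_1676) (Btab_1677) (Nat.ble 1677 c)
noncomputable def Btab_s_1678_1680 (c : Nat) : Nat := @Bool.rec (fun _ => Nat) (Btab_1678) (Btab_1679) (Nat.ble 1679 c)
noncomputable def Btab_s_1676_1680 (c : Nat) : Nat := @Bool.rec (fun _ => Nat) (Btab_s_1676_1678 c) (Btab_s_1678_1680 c) (Nat.ble 1678 c)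
noncomputable def Btab_s_1680_1682 (c : Nat) : Nat := @Bool.rec (fun _ => Nat) (Btab_1680) (Btab_1681) (Nat.ble 1681 c)
noncomputable def Btab_s_1683_1685 (c : Nat) : Nat := @Bool.rec (fun _ => Nat) (Btab_1683) (Btab_1684) (Nat.ble 1684 c)
noncomputable def Btab_s_1682_1685 (c : Nat) : Nat := @Bool.rec (fun _ => Nat) (Btab_1682) (Btab_s_1683_1685 c) (Nat.ble 1683 c)
noncomputable def Btab_s_1680_1685 (c : Nat) : Nat := @Bool.rec (fun _ => Nat) (Btab_s_1680_1682 c) (Btab_s_1682_1685 c) (Nat.ble 1682 c)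
noncomputable def Btab_s_1676_1685 (c : Nat) : Nat := @Bool.rec (fun _ => Nat) (Btab_s_1676_1680 c) (Btab_s_1680_1685 c) (Nat.ble 1680 c)
noncomputable def Btab_s_1685_1687 (c : Nat) : Nat := @Bool.rec (fun _ => Nat) (Btab_1685) (Btab_1686) (Nat.ble 1686 c)
noncomputable def Btab_s_1687_1689 (c : Nat) : Nat := @Bool.rec (fun _ => Nat) (Btab_1687) (Btab_1688) (Nat.ble 1688 c)
noncomputable def Btab_s_1685_1689 (c : Nat) : Nat := @Bool.rec (fun _ => Nat) (Btab_s_1685_1687 c) (Btab_s_1687_1689 c) (Nat.ble 1687 c)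
noncomputable def Btab_s_1689_1691 (c : Nat) : Nat := @Bool.rec (fun _ => Nat) (Btab_1689) (Btab_1690) (Nat.ble 1690 c)
noncomputable def Btab_s_1692_1694 (c : Nat) : Nat := @Bool.rec (fun _ => Nat) (Btab_1692) (Btab_1693) (Nat.ble 1693 c)
noncomputable def Btab_s_1691_1694 (c : Nat) : Nat := @Bool.rec (fun _ => Nat) (Btab_1691) (Btab_s_1692_1694 c) (Nat.ble 1692 c)
noncomputable def Btab_s_1689_1694 (c : Nat) : Nat := @Bool.rec (fun _ => Nat) (Btab_s_1689_1691 c) (Btab_s_1691_1694 c) (Nat.ble 1691 c)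
noncomputable def Btab_s_1685_1694 (c : Nat) : Nat := @Bool.rec (fun _ => Nat) (Btab_s_1685_1689 c) (Btab_s_1689_1694 c) (Nat.ble 1689 c)
noncomputable def Btab_s_1676_1694 (c : Nat) : Nat := @Bool.rec (fun _ => Nat) (Btab_s_1676_1685 c) (Btab_s_1685_1694 c) (Nat.ble 1685 c)
noncomputable def Btab_s_1694_1696 (c : Nat) : Nat := @Bool.rec (fun _ => Nat) (Btab_1694) (Btab_1695) (Nat.ble 1695 c)
noncomputable def Btab_s_1696_1698 (c : Nat) : Nat := @Bool.rec (fun _ => Nat) (Btab_1696) (Btab_1697) (Nat.ble 1697 c)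
noncomputable def Btab_s_1694_1698 (c : Nat) : Nat := @Bool.rec (fun _ => Nat) (Btab_s_1694_1696 c) (Btab_s_1696_1698 c) (Nat.ble 1696 c)
noncomputable def Btab_s_1698_1700 (c : Nat) : Nat := @Bool.rec (fun _ => Nat) (Btab_1698) (Btab_1699) (Nat.ble 1699 c)
noncomputable def Btab_s_1701_1703 (c : Nat) : Nat := @Bool.rec (fun _ => Nat) (Btab_1701) (Btab_1702) (Nat.ble 1702 c)
noncomputable def Btab_s_1700_1703 (c : Nat) : Nat := @Bool.rec (fun _ => Nat) (Btab_1700) (Btab_s_1701_1703 c) (Nat.ble 1701 c)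
noncomputable def Btab_s_1698_1703 (c : Nat) : Nat := @Bool.rec (fun _ => Nat) (Btab_s_1698_1700 c) (Btab_s_1700_1703 c) (Nat.ble 1700 c)
noncomputable def Btab_s_1694_1703 (c : Nat) : Nat := @Bool.rec (fun _ => Nat) (Btab_s_1694_1698 c) (Btab_s_1698_1703 c) (Nat.ble 1698 c)
noncomputable def Btab_s_1703_1705 (c : Nat) : Nat := @Bool.rec (fun _ => Nat) (Btab_1703) (Btab_1704) (Nat.ble 1704 c)
noncomputable def Btab_s_1706_1708 (c : Nat) : Nat := @Bool.rec (fun _ => Nat) (Btab_1706) (Btab_1707) (Nat.ble 1707 c)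
noncomputable def Btab_s_1705_1708 (c : Nat) : Nat := @Bool.rec (fun _ => Nat) (Btab_1705) (Btab_s_1706_1708 c) (Nat.ble 1706 c)
noncomputable def Btab_s_1703_1708 (c : Nat) : Nat := @Bool.rec (fun _ => Nat) (Btab_s_1703_1705 c) (Btab_s_1705_1708 c) (Nat.ble 1705 c)
noncomputable def Btab_s_1708_1710 (c : Nat) : Nat := @Bool.rec (fun _ => Nat) (Btab_1708) (Btab_1709) (Nat.ble 1709 c)
noncomputable def Btab_s_1711_1713 (c : Nat) : Nat := @Bool.rec (fun _ => Nat) (Btab_1711) (Btab_1712) (Nat.ble 1712 c)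
noncomputable def Btab_s_1710_1713 (c : Nat) : Nat := @Bool.rec (fun _ => Nat) (Btab_1710) (Btab_s_1711_1713 c) (Nat.ble 1711 c)
noncomputable def Btab_s_1708_1713 (c : Nat) : Nat := @Bool.rec (fun _ => Nat) (Btab_s_1708_1710 c) (Btab_s_1710_1713 c) (Nat.ble 1710 c)
noncomputable def Btab_s_1703_1713 (c : Nat) : Nat := @Bool.rec (fun _ => Nat) (Btab_s_1703_1708 c) (Btab_s_1708_1713 c) (Nat.ble 1708 c)
noncomputable def Btab_s_1694_1713 (c : Nat) : Nat := @Bool.rec (fun _ => Nat) (Btab_s_1694_1703 c) (Btab_s_1703_1713 c) (Nat.ble 1703 c)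
noncomputable def Btab_s_1676_1713 (c : Nat) : Nat := @Bool.rec (fun _ => Nat) (Btab_s_1676_1694 c) (Btab_s_1694_1713 c) (Nat.ble 1694 c)
noncomputable def Btab_s_1639_1713 (c : Nat) : Nat := @Bool.rec (fun _ => Nat) (Btab_s_1639_1676 c) (Btab_s_1676_1713 c) (Nat.ble 1676 c)
noncomputable def Btab_s_1713_1715 (c : Nat) : Nat := @Bool.rec (fun _ => Nat) (Btab_1713) (Btab_1714) (Nat.ble 1714 c)
noncomputable def Btab_s_1715_1717 (c : Nat) : Nat := @Bool.rec (fun _ => Nat) (Btab_1715) (Btab_1716) (Nat.ble 1716 c)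
noncomputable def Btab_s_1713_1717 (c : Nat) : Nat := @Bool.rec (fun _ => Nat) (Btab_s_1713_1715 c) (Btab_s_1715_1717 c) (Nat.ble 1715 c)
noncomputable def Btab_s_1717_1719 (c : Nat) : Nat := @Bool.rec (fun _ => Nat) (Btab_1717) (Btab_1718) (Nat.ble 1718 c)
noncomputable def Btab_s_1720_1722 (c : Nat) : Nat := @Bool.rec (fun _ => Nat) (Btab_1720) (Btab_1721) (Nat.ble 1721 c)
noncomputable def Btab_s_1719_1722 (c : Nat) : Nat := @Bool.rec (fun _ => Nat) (Btab_1719) (Btab_s_1720_1722 c) (Nat.ble 1720 c)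
noncomputable def Btab_s_1717_1722 (c : Nat) : Nat := @Bool.rec (fun _ => Nat) (Btab_s_1717_1719 c) (Btab_s_1719_1722 c) (Nat.ble 1719 c)
noncomputable def Btab_s_1713_1722 (c : Nat) : Nat := @Bool.rec (fun _ => Nat) (Btab_s_1713_1717 c) (Btab_s_1717_1722 c) (Nat.ble 1717 c)
noncomputable def Btab_s_1722_1724 (c : Nat) : Nat := @Bool.rec (fun _ => Nat) (Btab_1722) (Btab_1723) (Nat.ble 1723 c)
noncomputable def Btab_s_1724_1726 (c : Nat) : Nat := @Bool.rec (fun _ => Nat) (Btab_1724) (Btab_1725) (Nat.ble 1725 c)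
noncomputable def Btab_s_1722_1726 (c : Nat) : Nat := @Bool.rec (fun _ => Nat) (Btab_s_1722_1724 c) (Btab_s_1724_1726 c) (Nat.ble 1724 c)
noncomputable def Btab_s_1726_1728 (c : Nat) : Nat := @Bool.rec (fun _ => Nat) (Btab_1726) (Btab_1727) (Nat.ble 1727 c)
noncomputable def Btab_s_1729_1731 (c : Nat) : Nat := @Bool.rec (fun _ => Nat) (Btab_1729) (Btab_1730) (Nat.ble 1730 c)
noncomputable def Btab_s_1728_1731 (c : Nat) : Nat := @Bool.rec (fun _ => Nat) (Btab_1728) (Btab_s_1729_1731 c) (Nat.ble 1729 c)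
noncomputable def Btab_s_1726_1731 (c : Nat) : Nat := @Bool.rec (fun _ => Nat) (Btab_s_1726_1728 c) (Btab_s_1728_1731 c) (Nat.ble 1728 c)
noncomputable def Btab_s_1722_1731 (c : Nat) : Nat := @Bool.rec (fun _ => Nat) (Btab_s_1722_1726 c) (Btab_s_1726_1731 c) (Nat.ble 1726 c)
noncomputable def Btab_s_1713_1731 (c : Nat) : Nat := @Bool.rec (fun _ => Nat) (Btab_s_1713_1722 c) (Btab_s_1722_1731 c) (Nat.ble 1722 c)
noncomputable def Btab_s_1731_1733 (c : Nat) : Nat := @Bool.rec (fun _ => Nat) (Btab_1731) (Btab_1732) (Nat.ble 1732 c)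
noncomputable def Btab_s_1733_1735 (c : Nat) : Nat := @Bool.rec (fun _ => Nat) (Btab_1733) (Btab_1734) (Nat.ble 1734 c)
noncomputable def Btab_s_1731_1735 (c : Nat) : Nat := @Bool.rec (fun _ => Nat) (Btab_s_1731_1733 c) (Btab_s_1733_1735 c) (Nat.ble 1733 c)
noncomputable def Btab_s_1735_1737 (c : Nat) : Nat := @Bool.rec (fun _ => Nat) (Btab_1735) (Btab_1736) (Nat.ble 1736 c)
noncomputable def Btab_s_1738_1740 (c : Nat) : Nat := @Bool.rec (fun _ => Nat) (Btab_1738) (Btab_1739) (Nat.ble 1739 c)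
noncomputable def Btab_s_1737_1740 (c : Nat) : Nat := @Bool.rec (fun _ => Nat) (Btab_1737) (Btab_s_1738_1740 c) (Nat.ble 1738 c)
noncomputable def Btab_s_1735_1740 (c : Nat) : Nat := @Bool.rec (fun _ => Nat) (Btab_s_1735_1737 c) (Btab_s_1737_1740 c) (Nat.ble 1737 c)
noncomputable def Btab_s_1731_1740 (c : Nat) : Nat := @Bool.rec (fun _ => Nat) (Btab_s_1731_1735 c) (Btab_s_1735_1740 c) (Nat.ble 1735 c)
noncomputable def Btab_s_1740_1742 (c : Nat) : Nat := @Bool.rec (fun _ => Nat) (Btab_1740) (Btab_1741) (Nat.ble 1741 c)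
noncomputable def Btab_s_1743_1745 (c : Nat) : Nat := @Bool.rec (fun _ => Nat) (Btab_1743) (Btab_1744) (Nat.ble 1744 c)
noncomputable def Btab_s_1742_1745 (c : Nat) : Nat := @Bool.rec (fun _ => Nat) (Btab_1742) (Btab_s_1743_1745 c) (Nat.ble 1743 c)
noncomputable def Btab_s_1740_1745 (c : Nat) : Nat := @Bool.rec (fun _ => Nat) (Btab_s_1740_1742 c) (Btab_s_1742_1745 c) (Nat.ble 1742 c)
noncomputable def Btab_s_1745_1747 (c : Nat) : Nat := @Bool.rec (fun _ => Nat) (Btab_1745) (Btab_1746) (Nat.ble 1746 c)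
noncomputable def Btab_s_1748_1750 (c : Nat) : Nat := @Bool.rec (fun _ => Nat) (Btab_1748) (Btab_1749) (Nat.ble 1749 c)
noncomputable def Btab_s_1747_1750 (c : Nat) : Nat := @Bool.rec (fun _ => Nat) (Btab_1747) (Btab_s_1748_1750 c) (Nat.ble 1748 c)
noncomputable def Btab_s_1745_1750 (c : Nat) : Nat := @Bool.rec (fun _ => Nat) (Btab_s_1745_1747 c) (Btab_s_1747_1750 c) (Nat.ble 1747 c)
noncomputable def Btab_s_1740_1750 (c : Nat) : Nat := @Bool.rec (fun _ => Nat) (Btab_s_1740_1745 c) (Btab_s_1745_1750 c) (Nat.ble 1745 c)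
noncomputable def Btab_s_1731_1750 (c : Nat) : Nat := @Bool.rec (fun _ => Nat) (Btab_s_1731_1740 c) (Btab_s_1740_1750 c) (Nat.ble 1740 c)
noncomputable def Btab_s_1713_1750 (c : Nat) : Nat := @Bool.rec (fun _ => Nat) (Btab_s_1713_1731 c) (Btab_s_1731_1750 c) (Nat.ble 1731 c)
noncomputable def Btab_s_1750_1752 (c : Nat) : Nat := @Bool.rec (fun _ => Nat) (Btab_1750) (Btab_1751) (Nat.ble 1751 c)
noncomputable def Btab_s_1752_1754 (c : Nat) : Nat := @Bool.rec (fun _ => Nat) (Btab_1752) (Btab_1753) (Nat.ble 1753 c)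
noncomputable def Btab_s_1750_1754 (c : Nat) : Nat := @Bool.rec (fun _ => Nat) (Btab_s_1750_1752 c) (Btab_s_1752_1754 c) (Nat.ble 1752 c)
noncomputable def Btab_s_1754_1756 (c : Nat) : Nat := @Bool.rec (fun _ => Nat) (Btab_1754) (Btab_1755) (Nat.ble 1755 c)
noncomputable def Btab_s_1757_1759 (c : Nat) : Nat := @Bool.rec (fun _ => Nat) (Btab_1757) (Btab_1758) (Nat.ble 1758 c)
noncomputable def Btab_s_1756_1759 (c : Nat) : Nat := @Bool.rec (fun _ => Nat) (Btab_1756) (Btab_s_1757_1759 c) (Nat.ble 1757 c)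
noncomputable def Btab_s_1754_1759 (c : Nat) : Nat := @Bool.rec (fun _ => Nat) (Btab_s_1754_1756 c) (Btab_s_1756_1759 c) (Nat.ble 1756 c)
noncomputable def Btab_s_1750_1759 (c : Nat) : Nat := @Bool.rec (fun _ => Nat) (Btab_s_1750_1754 c) (Btab_s_1754_1759 c) (Nat.ble 1754 c)
noncomputable def Btab_s_1759_1761 (c : Nat) : Nat := @Bool.rec (fun _ => Nat) (Btab_1759) (Btab_1760) (Nat.ble 1760 c)
noncomputable def Btab_s_1762_1764 (c : Nat) : Nat := @Bool.rec (fun _ => Nat) (Btab_1762) (Btab_1763) (Nat.ble 1763 c)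
noncomputable def Btab_s_1761_1764 (c : Nat) : Nat := @Bool.rec (fun _ => Nat) (Btab_1761) (Btab_s_1762_1764 c) (Nat.ble 1762 c)
noncomputable def Btab_s_1759_1764 (c : Nat) : Nat := @Bool.rec (fun _ => Nat) (Btab_s_1759_1761 c) (Btab_s_1761_1764 c) (Nat.ble 1761 c)
noncomputable def Btab_s_1764_1766 (c : Nat) : Nat := @Bool.rec (fun _ => Nat) (Btab_1764) (Btab_1765) (Nat.ble 1765 c)
noncomputable def Btab_s_1767_1769 (c : Nat) : Nat := @Bool.rec (fun _ => Nat) (Btab_1767) (Btab_1768) (Nat.ble 1768 c)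
noncomputable def Btab_s_1766_1769 (c : Nat) : Nat := @Bool.rec (fun _ => Nat) (Btab_1766) (Btab_s_1767_1769 c) (Nat.ble 1767 c)
noncomputable def Btab_s_1764_1769 (c : Nat) : Nat := @Bool.rec (fun _ => Nat) (Btab_s_1764_1766 c) (Btab_s_1766_1769 c) (Nat.ble 1766 c)
noncomputable def Btab_s_1759_1769 (c : Nat) : Nat := @Bool.rec (fun _ => Nat) (Btab_s_1759_1764 c) (Btab_s_1764_1769 c) (Nat.ble 1764 c)
noncomputable def Btab_s_1750_1769 (c : Nat) : Nat := @Bool.rec (fun _ => Nat) (Btab_s_1750_1759 c) (Btab_s_1759_1769 c) (Nat.ble 1759 c)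
noncomputable def Btab_s_1769_1771 (c : Nat) : Nat := @Bool.rec (fun _ => Nat) (Btab_1769) (Btab_1770) (Nat.ble 1770 c)
noncomputable def Btab_s_1771_1773 (c : Nat) : Nat := @Bool.rec (fun _ => Nat) (Btab_1771) (Btab_1772) (Nat.ble 1772 c)
noncomputable def Btab_s_1769_1773 (c : Nat) : Nat := @Bool.rec (fun _ => Nat) (Btab_s_1769_1771 c) (Btab_s_1771_1773 c) (Nat.ble 1771 c)
noncomputable def Btab_s_1773_1775 (c : Nat) : Nat := @Bool.rec (fun _ => Nat) (Btab_1773) (Btab_1774) (Nat.ble 1774 c)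
noncomputable def Btab_s_1776_1778 (c : Nat) : Nat := @Bool.rec (fun _ => Nat) (Btab_1776) (Btab_1777) (Nat.ble 1777 c)
noncomputable def Btab_s_1775_1778 (c : Nat) : Nat := @Bool.rec (fun _ => Nat) (Btab_1775) (Btab_s_1776_1778 c) (Nat.ble 1776 c)
noncomputable def Btab_s_1773_1778 (c : Nat) : Nat := @Bool.rec (fun _ => Nat) (Btab_s_1773_1775 c) (Btab_s_1775_1778 c) (Nat.ble 1775 c)
noncomputable def Btab_s_1769_1778 (c : Nat) : Nat := @Bool.rec (fun _ => Nat) (Btab_s_1769_1773 c) (Btab_s_1773_1778 c) (Nat.ble 1773 c)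
noncomputable def Btab_s_1778_1780 (c : Nat) : Nat := @Bool.rec (fun _ => Nat) (Btab_1778) (Btab_1779) (Nat.ble 1779 c)
noncomputable def Btab_s_1781_1783 (c : Nat) : Nat := @Bool.rec (fun _ => Nat) (Btab_1781) (Btab_1782) (Nat.ble 1782 c)
noncomputable def Btab_s_1780_1783 (c : Nat) : Nat := @Bool.rec (fun _ => Nat) (Btab_1780) (Btab_s_1781_1783 c) (Nat.ble 1781 c)
noncomputable def Btab_s_1778_1783 (c : Nat) : Nat := @Bool.rec (fun _ => Nat) (Btab_s_1778_1780 c) (Btab_s_1780_1783 c) (Nat.ble 1780 c)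
noncomputable def Btab_s_1783_1785 (c : Nat) : Nat := @Bool.rec (fun _ => Nat) (Btab_1783) (Btab_1784) (Nat.ble 1784 c)
noncomputable def Btab_s_1786_1788 (c : Nat) : Nat := @Bool.rec (fun _ => Nat) (Btab_1786) (Btab_1787) (Nat.ble 1787 c)
noncomputable def Btab_s_1785_1788 (c : Nat) : Nat := @Bool.rec (fun _ => Nat) (Btab_1785) (Btab_s_1786_1788 c) (Nat.ble 1786 c)
noncomputable def Btab_s_1783_1788 (c : Nat) : Nat := @Bool.rec (fun _ => Nat) (Btab_s_1783_1785 c) (Btab_s_1785_1788 c) (Nat.ble 1785 c)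
noncomputable def Btab_s_1778_1788 (c : Nat) : Nat := @Bool.rec (fun _ => Nat) (Btab_s_1778_1783 c) (Btab_s_1783_1788 c) (Nat.ble 1783 c)
noncomputable def Btab_s_1769_1788 (c : Nat) : Nat := @Bool.rec (fun _ => Nat) (Btab_s_1769_1778 c) (Btab_s_1778_1788 c) (Nat.ble 1778 c)
noncomputable def Btab_s_1750_1788 (c : Nat) : Nat := @Bool.rec (fun _ => Nat) (Btab_s_1750_1769 c) (Btab_s_1769_1788 c) (Nat.ble 1769 c)
noncomputable def Btab_s_1713_1788 (c : Nat) : Nat := @Bool.rec (fun _ => Nat) (Btab_s_1713_1750 c) (Btab_s_1750_1788 c) (Nat.ble 1750 c)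
noncomputable def Btab_s_1639_1788 (c : Nat) : Nat := @Bool.rec (fun _ => Nat) (Btab_s_1639_1713 c) (Btab_s_1713_1788 c) (Nat.ble 1713 c)
noncomputable def Btab_s_1490_1788 (c : Nat) : Nat := @Bool.rec (fun _ => Nat) (Btab_s_1490_1639 c) (Btab_s_1639_1788 c) (Nat.ble 1639 c)
noncomputable def Btab_s_1192_1788 (c : Nat) : Nat := @Bool.rec (fun _ => Nat) (Btab_s_1192_1490 c) (Btab_s_1490_1788 c) (Nat.ble 1490 c)
noncomputable def Btab_s_1788_1790 (c : Nat) : Nat := @Bool.rec (fun _ => Nat) (Btab_1788) (Btab_1789) (Nat.ble 1789 c)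
noncomputable def Btab_s_1790_1792 (c : Nat) : Nat := @Bool.rec (fun _ => Nat) (Btab_1790) (Btab_1791) (Nat.ble 1791 c)
noncomputable def Btab_s_1788_1792 (c : Nat) : Nat := @Bool.rec (fun _ => Nat) (Btab_s_1788_1790 c) (Btab_s_1790_1792 c) (Nat.ble 1790 c)
noncomputable def Btab_s_1792_1794 (c : Nat) : Nat := @Bool.rec (fun _ => Nat) (Btab_1792) (Btab_1793) (Nat.ble 1793 c)
noncomputable def Btab_s_1795_1797 (c : Nat) : Nat := @Bool.rec (fun _ => Nat) (Btab_1795) (Btab_1796) (Nat.ble 1796 c)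
noncomputable def Btab_s_1794_1797 (c : Nat) : Nat := @Bool.rec (fun _ => Nat) (Btab_1794) (Btab_s_1795_1797 c) (Nat.ble 1795 c)
noncomputable def Btab_s_1792_1797 (c : Nat) : Nat := @Bool.rec (fun _ => Nat) (Btab_s_1792_1794 c) (Btab_s_1794_1797 c) (Nat.ble 1794 c)
noncomputable def Btab_s_1788_1797 (c : Nat) : Nat := @Bool.rec (fun _ => Nat) (Btab_s_1788_1792 c) (Btab_s_1792_1797 c) (Nat.ble 1792 c)
noncomputable def Btab_s_1797_1799 (c : Nat) : Nat := @Bool.rec (fun _ => Nat) (Btab_1797) (Btab_1798) (Nat.ble 1798 c)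
noncomputable def Btab_s_1799_1801 (c : Nat) : Nat := @Bool.rec (fun _ => Nat) (Btab_1799) (Btab_1800) (Nat.ble 1800 c)
noncomputable def Btab_s_1797_1801 (c : Nat) : Nat := @Bool.rec (fun _ => Nat) (Btab_s_1797_1799 c) (Btab_s_1799_1801 c) (Nat.ble 1799 c)
noncomputable def Btab_s_1801_1803 (c : Nat) : Nat := @Bool.rec (fun _ => Nat) (Btab_1801) (Btab_1802) (Nat.ble 1802 c)
noncomputable def Btab_s_1804_1806 (c : Nat) : Nat := @Bool.rec (fun _ => Nat) (Btab_1804) (Btab_1805) (Nat.ble 1805 c)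
noncomputable def Btab_s_1803_1806 (c : Nat) : Nat := @Bool.rec (fun _ => Nat) (Btab_1803) (Btab_s_1804_1806 c) (Nat.ble 1804 c)
noncomputable def Btab_s_1801_1806 (c : Nat) : Nat := @Bool.rec (fun _ => Nat) (Btab_s_1801_1803 c) (Btab_s_1803_1806 c) (Nat.ble 1803 c)
noncomputable def Btab_s_1797_1806 (c : Nat) : Nat := @Bool.rec (fun _ => Nat) (Btab_s_1797_1801 c) (Btab_s_1801_1806 c) (Nat.ble 1801 c)
noncomputable def Btab_s_1788_1806 (c : Nat) : Nat := @Bool.rec (fun _ => Nat) (Btab_s_1788_1797 c) (Btab_s_1797_1806 c) (Nat.ble 1797 c)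
noncomputable def Btab_s_1806_1808 (c : Nat) : Nat := @Bool.rec (fun _ => Nat) (Btab_1806) (Btab_1807) (Nat.ble 1807 c)
noncomputable def Btab_s_1808_1810 (c : Nat) : Nat := @Bool.rec (fun _ => Nat) (Btab_1808) (Btab_1809) (Nat.ble 1809 c)
noncomputable def Btab_s_1806_1810 (c : Nat) : Nat := @Bool.rec (fun _ => Nat) (Btab_s_1806_1808 c) (Btab_s_1808_1810 c) (Nat.ble 1808 c)
noncomputable def Btab_s_1810_1812 (c : Nat) : Nat := @Bool.rec (fun _ => Nat) (Btab_1810) (Btab_1811) (Nat.ble 1811 c)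
noncomputable def Btab_s_1813_1815 (c : Nat) : Nat := @Bool.rec (fun _ => Nat) (Btab_1813) (Btab_1814) (Nat.ble 1814 c)
noncomputable def Btab_s_1812_1815 (c : Nat) : Nat := @Bool.rec (fun _ => Nat) (Btab_1812) (Btab_s_1813_1815 c) (Nat.ble 1813 c)
noncomputable def Btab_s_1810_1815 (c : Nat) : Nat := @Bool.rec (fun _ => Nat) (Btab_s_1810_1812 c) (Btab_s_1812_1815 c) (Nat.ble 1812 c)
noncomputable def Btab_s_1806_1815 (c : Nat) : Nat := @Bool.rec (fun _ => Nat) (Btab_s_1806_1810 c) (Btab_s_1810_1815 c) (Nat.ble 1810 c)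
noncomputable def Btab_s_1815_1817 (c : Nat) : Nat := @Bool.rec (fun _ => Nat) (Btab_1815) (Btab_1816) (Nat.ble 1816 c)
noncomputable def Btab_s_1818_1820 (c : Nat) : Nat := @Bool.rec (fun _ => Nat) (Btab_1818) (Btab_1819) (Nat.ble 1819 c)
noncomputable def Btab_s_1817_1820 (c : Nat) : Nat := @Bool.rec (fun _ => Nat) (Btab_1817) (Btab_s_1818_1820 c) (Nat.ble 1818 c)
noncomputable def Btab_s_1815_1820 (c : Nat) : Nat := @Bool.rec (fun _ => Nat) (Btab_s_1815_1817 c) (Btab_s_1817_1820 c) (Nat.ble 1817 c)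
noncomputable def Btab_s_1820_1822 (c : Nat) : Nat := @Bool.rec (fun _ => Nat) (Btab_1820) (Btab_1821) (Nat.ble 1821 c)
noncomputable def Btab_s_1823_1825 (c : Nat) : Nat := @Bool.rec (fun _ => Nat) (Btab_1823) (Btab_1824) (Nat.ble 1824 c)
noncomputable def Btab_s_1822_1825 (c : Nat) : Nat := @Bool.rec (fun _ => Nat) (Btab_1822) (Btab_s_1823_1825 c) (Nat.ble 1823 c)
noncomputable def Btab_s_1820_1825 (c : Nat) : Nat := @Bool.rec (fun _ => Nat) (Btab_s_1820_1822 c) (Btab_s_1822_1825 c) (Nat.ble 1822 c)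
noncomputable def Btab_s_1815_1825 (c : Nat) : Nat := @Bool.rec (fun _ => Nat) (Btab_s_1815_1820 c) (Btab_s_1820_1825 c) (Nat.ble 1820 c)
noncomputable def Btab_s_1806_1825 (c : Nat) : Nat := @Bool.rec (fun _ => Nat) (Btab_s_1806_1815 c) (Btab_s_1815_1825 c) (Nat.ble 1815 c)
noncomputable def Btab_s_1788_1825 (c : Nat) : Nat := @Bool.rec (fun _ => Nat) (Btab_s_1788_1806 c) (Btab_s_1806_1825 c) (Nat.ble 1806 c)
noncomputable def Btab_s_1825_1827 (c : Nat) : Nat := @Bool.rec (fun _ => Nat) (Btab_1825) (Btab_1826) (Nat.ble 1826 c)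
noncomputable def Btab_s_1827_1829 (c : Nat) : Nat := @Bool.rec (fun _ => Nat) (Btab_1827) (Btab_1828) (Nat.ble 1828 c)
noncomputable def Btab_s_1825_1829 (c : Nat) : Nat := @Bool.rec (fun _ => Nat) (Btab_s_1825_1827 c) (Btab_s_1827_1829 c) (Nat.ble 1827 c)
noncomputable def Btab_s_1829_1831 (c : Nat) : Nat := @Bool.rec (fun _ => Nat) (Btab_1829) (Btab_1830) (Nat.ble 1830 c)
noncomputable def Btab_s_1832_1834 (c : Nat) : Nat := @Bool.rec (fun _ => Nat) (Btab_1832) (Btab_1833) (Nat.ble 1833 c)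
noncomputable def Btab_s_1831_1834 (c : Nat) : Nat := @Bool.rec (fun _ => Nat) (Btab_1831) (Btab_s_1832_1834 c) (Nat.ble 1832 c)
noncomputable def Btab_s_1829_1834 (c : Nat) : Nat := @Bool.rec (fun _ => Nat) (Btab_s_1829_1831 c) (Btab_s_1831_1834 c) (Nat.ble 1831 c)
noncomputable def Btab_s_1825_1834 (c : Nat) : Nat := @Bool.rec (fun _ => Nat) (Btab_s_1825_1829 c) (Btab_s_1829_1834 c) (Nat.ble 1829 c)
noncomputable def Btab_s_1834_1836 (c : Nat) : Nat := @Bool.rec (fun _ => Nat) (Btab_1834) (Btab_1835) (Nat.ble 1835 c)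
noncomputable def Btab_s_1836_1838 (c : Nat) : Nat := @Bool.rec (fun _ => Nat) (Btab_1836) (Btab_1837) (Nat.ble 1837 c)
noncomputable def Btab_s_1834_1838 (c : Nat) : Nat := @Bool.rec (fun _ => Nat) (Btab_s_1834_1836 c) (Btab_s_1836_1838 c) (Nat.ble 1836 c)
noncomputable def Btab_s_1838_1840 (c : Nat) : Nat := @Bool.rec (fun _ => Nat) (Btab_1838) (Btab_1839) (Nat.ble 1839 c)
noncomputable def Btab_s_1841_1843 (c : Nat) : Nat := @Bool.rec (fun _ => Nat) (Btab_1841) (Btab_1842) (Nat.ble 1842 c)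
noncomputable def Btab_s_1840_1843 (c : Nat) : Nat := @Bool.rec (fun _ => Nat) (Btab_1840) (Btab_s_1841_1843 c) (Nat.ble 1841 c)
noncomputable def Btab_s_1838_1843 (c : Nat) : Nat := @Bool.rec (fun _ => Nat) (Btab_s_1838_1840 c) (Btab_s_1840_1843 c) (Nat.ble 1840 c)
noncomputable def Btab_s_1834_1843 (c : Nat) : Nat := @Bool.rec (fun _ => Nat) (Btab_s_1834_1838 c) (Btab_s_1838_1843 c) (Nat.ble 1838 c)
noncomputable def Btab_s_1825_1843 (c : Nat) : Nat := @Bool.rec (fun _ => Nat) (Btab_s_1825_1834 c) (Btab_s_1834_1843 c) (Nat.ble 1834 c)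
noncomputable def Btab_s_1843_1845 (c : Nat) : Nat := @Bool.rec (fun _ => Nat) (Btab_1843) (Btab_1844) (Nat.ble 1844 c)
noncomputable def Btab_s_1845_1847 (c : Nat) : Nat := @Bool.rec (fun _ => Nat) (Btab_1845) (Btab_1846) (Nat.ble 1846 c)
noncomputable def Btab_s_1843_1847 (c : Nat) : Nat := @Bool.rec (fun _ => Nat) (Btab_s_1843_1845 c) (Btab_s_1845_1847 c) (Nat.ble 1845 c)
noncomputable def Btab_s_1847_1849 (c : Nat) : Nat := @Bool.rec (fun _ => Nat) (Btab_1847) (Btab_1848) (Nat.ble 1848 c)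
noncomputable def Btab_s_1850_1852 (c : Nat) : Nat := @Bool.rec (fun _ => Nat) (Btab_1850) (Btab_1851) (Nat.ble 1851 c)
noncomputable def Btab_s_1849_1852 (c : Nat) : Nat := @Bool.rec (fun _ => Nat) (Btab_1849) (Btab_s_1850_1852 c) (Nat.ble 1850 c)
noncomputable def Btab_s_1847_1852 (c : Nat) : Nat := @Bool.rec (fun _ => Nat) (Btab_s_1847_1849 c) (Btab_s_1849_1852 c) (Nat.ble 1849 c)
noncomputable def Btab_s_1843_1852 (c : Nat) : Nat := @Bool.rec (fun _ => Nat) (Btab_s_1843_1847 c) (Btab_s_1847_1852 c) (Nat.ble 1847 c)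
noncomputable def Btab_s_1852_1854 (c : Nat) : Nat := @Bool.rec (fun _ => Nat) (Btab_1852) (Btab_1853) (Nat.ble 1853 c)
noncomputable def Btab_s_1855_1857 (c : Nat) : Nat := @Bool.rec (fun _ => Nat) (Btab_1855) (Btab_1856) (Nat.ble 1856 c)
noncomputable def Btab_s_1854_1857 (c : Nat) : Nat := @Bool.rec (fun _ => Nat) (Btab_1854) (Btab_s_1855_1857 c) (Nat.ble 1855 c)
noncomputable def Btab_s_1852_1857 (c : Nat) : Nat := @Bool.rec (fun _ => Nat) (Btab_s_1852_1854 c) (Btab_s_1854_1857 c) (Nat.ble 1854 c)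
noncomputable def Btab_s_1857_1859 (c : Nat) : Nat := @Bool.rec (fun _ => Nat) (Btab_1857) (Btab_1858) (Nat.ble 1858 c)
noncomputable def Btab_s_1860_1862 (c : Nat) : Nat := @Bool.rec (fun _ => Nat) (Btab_1860) (Btab_1861) (Nat.ble 1861 c)
noncomputable def Btab_s_1859_1862 (c : Nat) : Nat := @Bool.rec (fun _ => Nat) (Btab_1859) (Btab_s_1860_1862 c) (Nat.ble 1860 c)
noncomputable def Btab_s_1857_1862 (c : Nat) : Nat := @Bool.rec (fun _ => Nat) (Btab_s_1857_1859 c) (Btab_s_1859_1862 c) (Nat.ble 1859 c)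
noncomputable def Btab_s_1852_1862 (c : Nat) : Nat := @Bool.rec (fun _ => Nat) (Btab_s_1852_1857 c) (Btab_s_1857_1862 c) (Nat.ble 1857 c)
noncomputable def Btab_s_1843_1862 (c : Nat) : Nat := @Bool.rec (fun _ => Nat) (Btab_s_1843_1852 c) (Btab_s_1852_1862 c) (Nat.ble 1852 c)
noncomputable def Btab_s_1825_1862 (c : Nat) : Nat := @Bool.rec (fun _ => Nat) (Btab_s_1825_1843 c) (Btab_s_1843_1862 c) (Nat.ble 1843 c)
noncomputable def Btab_s_1788_1862 (c : Nat) : Nat := @Bool.rec (fun _ => Nat) (Btab_s_1788_1825 c) (Btab_s_1825_1862 c) (Nat.ble 1825 c)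
noncomputable def Btab_s_1862_1864 (c : Nat) : Nat := @Bool.rec (fun _ => Nat) (Btab_1862) (Btab_1863) (Nat.ble 1863 c)
noncomputable def Btab_s_1864_1866 (c : Nat) : Nat := @Bool.rec (fun _ => Nat) (Btab_1864) (Btab_1865) (Nat.ble 1865 c)
noncomputable def Btab_s_1862_1866 (c : Nat) : Nat := @Bool.rec (fun _ => Nat) (Btab_s_1862_1864 c) (Btab_s_1864_1866 c) (Nat.ble 1864 c)
noncomputable def Btab_s_1866_1868 (c : Nat) : Nat := @Bool.rec (fun _ => Nat) (Btab_1866) (Btab_1867) (Nat.ble 1867 c)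
noncomputable def Btab_s_1869_1871 (c : Nat) : Nat := @Bool.rec (fun _ => Nat) (Btab_1869) (Btab_1870) (Nat.ble 1870 c)
noncomputable def Btab_s_1868_1871 (c : Nat) : Nat := @Bool.rec (fun _ => Nat) (Btab_1868) (Btab_s_1869_1871 c) (Nat.ble 1869 c)
noncomputable def Btab_s_1866_1871 (c : Nat) : Nat := @Bool.rec (fun _ => Nat) (Btab_s_1866_1868 c) (Btab_s_1868_1871 c) (Nat.ble 1868 c)
noncomputable def Btab_s_1862_1871 (c : Nat) : Nat := @Bool.rec (fun _ => Nat) (Btab_s_1862_1866 c) (Btab_s_1866_1871 c) (Nat.ble 1866 c)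
noncomputable def Btab_s_1871_1873 (c : Nat) : Nat := @Bool.rec (fun _ => Nat) (Btab_1871) (Btab_1872) (Nat.ble 1872 c)
noncomputable def Btab_s_1873_1875 (c : Nat) : Nat := @Bool.rec (fun _ => Nat) (Btab_1873) (Btab_1874) (Nat.ble 1874 c)
noncomputable def Btab_s_1871_1875 (c : Nat) : Nat := @Bool.rec (fun _ => Nat) (Btab_s_1871_1873 c) (Btab_s_1873_1875 c) (Nat.ble 1873 c)
noncomputable def Btab_s_1875_1877 (c : Nat) : Nat := @Bool.rec (fun _ => Nat) (Btab_1875) (Btab_1876) (Nat.ble 1876 c)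
noncomputable def Btab_s_1878_1880 (c : Nat) : Nat := @Bool.rec (fun _ => Nat) (Btab_1878) (Btab_1879) (Nat.ble 1879 c)
noncomputable def Btab_s_1877_1880 (c : Nat) : Nat := @Bool.rec (fun _ => Nat) (Btab_1877) (Btab_s_1878_1880 c) (Nat.ble 1878 c)
noncomputable def Btab_s_1875_1880 (c : Nat) : Nat := @Bool.rec (fun _ => Nat) (Btab_s_1875_1877 c) (Btab_s_1877_1880 c) (Nat.ble 1877 c)
noncomputable def Btab_s_1871_1880 (c : Nat) : Nat := @Bool.rec (fun _ => Nat) (Btab_s_1871_1875 c) (Btab_s_1875_1880 c) (Nat.ble 1875 c)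
noncomputable def Btab_s_1862_1880 (c : Nat) : Nat := @Bool.rec (fun _ => Nat) (Btab_s_1862_1871 c) (Btab_s_1871_1880 c) (Nat.ble 1871 c)
noncomputable def Btab_s_1880_1882 (c : Nat) : Nat := @Bool.rec (fun _ => Nat) (Btab_1880) (Btab_1881) (Nat.ble 1881 c)
noncomputable def Btab_s_1882_1884 (c : Nat) : Nat := @Bool.rec (fun _ => Nat) (Btab_1882) (Btab_1883) (Nat.ble 1883 c)
noncomputable def Btab_s_1880_1884 (c : Nat) : Nat := @Bool.rec (fun _ => Nat) (Btab_s_1880_1882 c) (Btab_s_1882_1884 c) (Nat.ble 1882 c)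
noncomputable def Btab_s_1884_1886 (c : Nat) : Nat := @Bool.rec (fun _ => Nat) (Btab_1884) (Btab_1885) (Nat.ble 1885 c)
noncomputable def Btab_s_1887_1889 (c : Nat) : Nat := @Bool.rec (fun _ => Nat) (Btab_1887) (Btab_1888) (Nat.ble 1888 c)
noncomputable def Btab_s_1886_1889 (c : Nat) : Nat := @Bool.rec (fun _ => Nat) (Btab_1886) (Btab_s_1887_1889 c) (Nat.ble 1887 c)
noncomputable def Btab_s_1884_1889 (c : Nat) : Nat := @Bool.rec (fun _ => Nat) (Btab_s_1884_1886 c) (Btab_s_1886_1889 c) (Nat.ble 1886 c)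
noncomputable def Btab_s_1880_1889 (c : Nat) : Nat := @Bool.rec (fun _ => Nat) (Btab_s_1880_1884 c) (Btab_s_1884_1889 c) (Nat.ble 1884 c)
noncomputable def Btab_s_1889_1891 (c : Nat) : Nat := @Bool.rec (fun _ => Nat) (Btab_1889) (Btab_1890) (Nat.ble 1890 c)
noncomputable def Btab_s_1892_1894 (c : Nat) : Nat := @Bool.rec (fun _ => Nat) (Btab_1892) (Btab_1893) (Nat.ble 1893 c)
noncomputable def Btab_s_1891_1894 (c : Nat) : Nat := @Bool.rec (fun _ => Nat) (Btab_1891) (Btab_s_1892_1894 c) (Nat.ble 1892 c)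
noncomputable def Btab_s_1889_1894 (c : Nat) : Nat := @Bool.rec (fun _ => Nat) (Btab_s_1889_1891 c) (Btab_s_1891_1894 c) (Nat.ble 1891 c)
noncomputable def Btab_s_1894_1896 (c : Nat) : Nat := @Bool.rec (fun _ => Nat) (Btab_1894) (Btab_1895) (Nat.ble 1895 c)
noncomputable def Btab_s_1897_1899 (c : Nat) : Nat := @Bool.rec (fun _ => Nat) (Btab_1897) (Btab_1898) (Nat.ble 1898 c)
noncomputable def Btab_s_1896_1899 (c : Nat) : Nat := @Bool.rec (fun _ => Nat) (Btab_1896) (Btab_s_1897_1899 c) (Nat.ble 1897 c)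
noncomputable def Btab_s_1894_1899 (c : Nat) : Nat := @Bool.rec (fun _ => Nat) (Btab_s_1894_1896 c) (Btab_s_1896_1899 c) (Nat.ble 1896 c)
noncomputable def Btab_s_1889_1899 (c : Nat) : Nat := @Bool.rec (fun _ => Nat) (Btab_s_1889_1894 c) (Btab_s_1894_1899 c) (Nat.ble 1894 c)
noncomputable def Btab_s_1880_1899 (c : Nat) : Nat := @Bool.rec (fun _ => Nat) (Btab_s_1880_1889 c) (Btab_s_1889_1899 c) (Nat.ble 1889 c)
noncomputable def Btab_s_1862_1899 (c : Nat) : Nat := @Bool.rec (fun _ => Nat) (Btab_s_1862_1880 c) (Btab_s_1880_1899 c) (Nat.ble 1880 c)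
noncomputable def Btab_s_1899_1901 (c : Nat) : Nat := @Bool.rec (fun _ => Nat) (Btab_1899) (Btab_1900) (Nat.ble 1900 c)
noncomputable def Btab_s_1901_1903 (c : Nat) : Nat := @Bool.rec (fun _ => Nat) (Btab_1901) (Btab_1902) (Nat.ble 1902 c)
noncomputable def Btab_s_1899_1903 (c : Nat) : Nat := @Bool.rec (fun _ => Nat) (Btab_s_1899_1901 c) (Btab_s_1901_1903 c) (Nat.ble 1901 c)
noncomputable def Btab_s_1903_1905 (c : Nat) : Nat := @Bool.rec (fun _ => Nat) (Btab_1903) (Btab_1904) (Nat.ble 1904 c)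
noncomputable def Btab_s_1906_1908 (c : Nat) : Nat := @Bool.rec (fun _ => Nat) (Btab_1906) (Btab_1907) (Nat.ble 1907 c)
noncomputable def Btab_s_1905_1908 (c : Nat) : Nat := @Bool.rec (fun _ => Nat) (Btab_1905) (Btab_s_1906_1908 c) (Nat.ble 1906 c)
noncomputable def Btab_s_1903_1908 (c : Nat) : Nat := @Bool.rec (fun _ => Nat) (Btab_s_1903_1905 c) (Btab_s_1905_1908 c) (Nat.ble 1905 c)
noncomputable def Btab_s_1899_1908 (c : Nat) : Nat := @Bool.rec (fun _ => Nat) (Btab_s_1899_1903 c) (Btab_s_1903_1908 c) (Nat.ble 1903 c)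
noncomputable def Btab_s_1908_1910 (c : Nat) : Nat := @Bool.rec (fun _ => Nat) (Btab_1908) (Btab_1909) (Nat.ble 1909 c)
noncomputable def Btab_s_1911_1913 (c : Nat) : Nat := @Bool.rec (fun _ => Nat) (Btab_1911) (Btab_1912) (Nat.ble 1912 c)
noncomputable def Btab_s_1910_1913 (c : Nat) : Nat := @Bool.rec (fun _ => Nat) (Btab_1910) (Btab_s_1911_1913 c) (Nat.ble 1911 c)
noncomputable def Btab_s_1908_1913 (c : Nat) : Nat := @Bool.rec (fun _ => Nat) (Btab_s_1908_1910 c) (Btab_s_1910_1913 c) (Nat.ble 1910 c)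
noncomputable def Btab_s_1913_1915 (c : Nat) : Nat := @Bool.rec (fun _ => Nat) (Btab_1913) (Btab_1914) (Nat.ble 1914 c)
noncomputable def Btab_s_1916_1918 (c : Nat) : Nat := @Bool.rec (fun _ => Nat) (Btab_1916) (Btab_1917) (Nat.ble 1917 c)
noncomputable def Btab_s_1915_1918 (c : Nat) : Nat := @Bool.rec (fun _ => Nat) (Btab_1915) (Btab_s_1916_1918 c) (Nat.ble 1916 c)
noncomputable def Btab_s_1913_1918 (c : Nat) : Nat := @Bool.rec (fun _ => Nat) (Btab_s_1913_1915 c) (Btab_s_1915_1918 c) (Nat.ble 1915 c)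
noncomputable def Btab_s_1908_1918 (c : Nat) : Nat := @Bool.rec (fun _ => Nat) (Btab_s_1908_1913 c) (Btab_s_1913_1918 c) (Nat.ble 1913 c)
noncomputable def Btab_s_1899_1918 (c : Nat) : Nat := @Bool.rec (fun _ => Nat) (Btab_s_1899_1908 c) (Btab_s_1908_1918 c) (Nat.ble 1908 c)
noncomputable def Btab_s_1918_1920 (c : Nat) : Nat := @Bool.rec (fun _ => Nat) (Btab_1918) (Btab_1919) (Nat.ble 1919 c)
noncomputable def Btab_s_1920_1922 (c : Nat) : Nat := @Bool.rec (fun _ => Nat) (Btab_1920) (Btab_1921) (Nat.ble 1921 c)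
noncomputable def Btab_s_1918_1922 (c : Nat) : Nat := @Bool.rec (fun _ => Nat) (Btab_s_1918_1920 c) (Btab_s_1920_1922 c) (Nat.ble 1920 c)
noncomputable def Btab_s_1922_1924 (c : Nat) : Nat := @Bool.rec (fun _ => Nat) (Btab_1922) (Btab_1923) (Nat.ble 1923 c)
noncomputable def Btab_s_1925_1927 (c : Nat) : Nat := @Bool.rec (fun _ => Nat) (Btab_1925) (Btab_1926) (Nat.ble 1926 c)
noncomputable def Btab_s_1924_1927 (c : Nat) : Nat := @Bool.rec (fun _ => Nat) (Btab_1924) (Btab_s_1925_1927 c) (Nat.ble 1925 c)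
noncomputable def Btab_s_1922_1927 (c : Nat) : Nat := @Bool.rec (fun _ => Nat) (Btab_s_1922_1924 c) (Btab_s_1924_1927 c) (Nat.ble 1924 c)
noncomputable def Btab_s_1918_1927 (c : Nat) : Nat := @Bool.rec (fun _ => Nat) (Btab_s_1918_1922 c) (Btab_s_1922_1927 c) (Nat.ble 1922 c)
noncomputable def Btab_s_1927_1929 (c : Nat) : Nat := @Bool.rec (fun _ => Nat) (Btab_1927) (Btab_1928) (Nat.ble 1928 c)
noncomputable def Btab_s_1930_1932 (c : Nat) : Nat := @Bool.rec (fun _ => Nat) (Btab_1930) (Btab_1931) (Nat.ble 1931 c)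
noncomputable def Btab_s_1929_1932 (c : Nat) : Nat := @Bool.rec (fun _ => Nat) (Btab_1929) (Btab_s_1930_1932 c) (Nat.ble 1930 c)
noncomputable def Btab_s_1927_1932 (c : Nat) : Nat := @Bool.rec (fun _ => Nat) (Btab_s_1927_1929 c) (Btab_s_1929_1932 c) (Nat.ble 1929 c)
noncomputable def Btab_s_1932_1934 (c : Nat) : Nat := @Bool.rec (fun _ => Nat) (Btab_1932) (Btab_1933) (Nat.ble 1933 c)
noncomputable def Btab_s_1935_1937 (c : Nat) : Nat := @Bool.rec (fun _ => Nat) (Btab_1935) (Btab_1936) (Nat.ble 1936 c)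
noncomputable def Btab_s_1934_1937 (c : Nat) : Nat := @Bool.rec (fun _ => Nat) (Btab_1934) (Btab_s_1935_1937 c) (Nat.ble 1935 c)
noncomputable def Btab_s_1932_1937 (c : Nat) : Nat := @Bool.rec (fun _ => Nat) (Btab_s_1932_1934 c) (Btab_s_1934_1937 c) (Nat.ble 1934 c)
noncomputable def Btab_s_1927_1937 (c : Nat) : Nat := @Bool.rec (fun _ => Nat) (Btab_s_1927_1932 c) (Btab_s_1932_1937 c) (Nat.ble 1932 c)
noncomputable def Btab_s_1918_1937 (c : Nat) : Nat := @Bool.rec (fun _ => Nat) (Btab_s_1918_1927 c) (Btab_s_1927_1937 c) (Nat.ble 1927 c)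
noncomputable def Btab_s_1899_1937 (c : Nat) : Nat := @Bool.rec (fun _ => Nat) (Btab_s_1899_1918 c) (Btab_s_1918_1937 c) (Nat.ble 1918 c)
noncomputable def Btab_s_1862_1937 (c : Nat) : Nat := @Bool.rec (fun _ => Nat) (Btab_s_1862_1899 c) (Btab_s_1899_1937 c) (Nat.ble 1899 c)
noncomputable def Btab_s_1788_1937 (c : Nat) : Nat := @Bool.rec (fun _ => Nat) (Btab_s_1788_1862 c) (Btab_s_1862_1937 c) (Nat.ble 1862 c)
noncomputable def Btab_s_1937_1939 (c : Nat) : Nat := @Bool.rec (fun _ => Nat) (Btab_1937) (Btab_1938) (Nat.ble 1938 c)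
noncomputable def Btab_s_1939_1941 (c : Nat) : Nat := @Bool.rec (fun _ => Nat) (Btab_1939) (Btab_1940) (Nat.ble 1940 c)
noncomputable def Btab_s_1937_1941 (c : Nat) : Nat := @Bool.rec (fun _ => Nat) (Btab_s_1937_1939 c) (Btab_s_1939_1941 c) (Nat.ble 1939 c)
noncomputable def Btab_s_1941_1943 (c : Nat) : Nat := @Bool.rec (fun _ => Nat) (Btab_1941) (Btab_1942) (Nat.ble 1942 c)
noncomputable def Btab_s_1944_1946 (c : Nat) : Nat := @Bool.rec (fun _ => Nat) (Btab_1944) (Btab_1945) (Nat.ble 1945 c)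
noncomputable def Btab_s_1943_1946 (c : Nat) : Nat := @Bool.rec (fun _ => Nat) (Btab_1943) (Btab_s_1944_1946 c) (Nat.ble 1944 c)
noncomputable def Btab_s_1941_1946 (c : Nat) : Nat := @Bool.rec (fun _ => Nat) (Btab_s_1941_1943 c) (Btab_s_1943_1946 c) (Nat.ble 1943 c)
noncomputable def Btab_s_1937_1946 (c : Nat) : Nat := @Bool.rec (fun _ => Nat) (Btab_s_1937_1941 c) (Btab_s_1941_1946 c) (Nat.ble 1941 c)
noncomputable def Btab_s_1946_1948 (c : Nat) : Nat := @Bool.rec (fun _ => Nat) (Btab_1946) (Btab_1947) (Nat.ble 1947 c)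
noncomputable def Btab_s_1948_1950 (c : Nat) : Nat := @Bool.rec (fun _ => Nat) (Btab_1948) (Btab_1949) (Nat.ble 1949 c)
noncomputable def Btab_s_1946_1950 (c : Nat) : Nat := @Bool.rec (fun _ => Nat) (Btab_s_1946_1948 c) (Btab_s_1948_1950 c) (Nat.ble 1948 c)
noncomputable def Btab_s_1950_1952 (c : Nat) : Nat := @Bool.rec (fun _ => Nat) (Btab_1950) (Btab_1951) (Nat.ble 1951 c)
noncomputable def Btab_s_1953_1955 (c : Nat) : Nat := @Bool.rec (fun _ => Nat) (Btab_1953) (Btab_1954) (Nat.ble 1954 c)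
noncomputable def Btab_s_1952_1955 (c : Nat) : Nat := @Bool.rec (fun _ => Nat) (Btab_1952) (Btab_s_1953_1955 c) (Nat.ble 1953 c)
noncomputable def Btab_s_1950_1955 (c : Nat) : Nat := @Bool.rec (fun _ => Nat) (Btab_s_1950_1952 c) (Btab_s_1952_1955 c) (Nat.ble 1952 c)
noncomputable def Btab_s_1946_1955 (c : Nat) : Nat := @Bool.rec (fun _ => Nat) (Btab_s_1946_1950 c) (Btab_s_1950_1955 c) (Nat.ble 1950 c)
noncomputable def Btab_s_1937_1955 (c : Nat) : Nat := @Bool.rec (fun _ => Nat) (Btab_s_1937_1946 c) (Btab_s_1946_1955 c) (Nat.ble 1946 c)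
noncomputable def Btab_s_1955_1957 (c : Nat) : Nat := @Bool.rec (fun _ => Nat) (Btab_1955) (Btab_1956) (Nat.ble 1956 c)
noncomputable def Btab_s_1957_1959 (c : Nat) : Nat := @Bool.rec (fun _ => Nat) (Btab_1957) (Btab_1958) (Nat.ble 1958 c)
noncomputable def Btab_s_1955_1959 (c : Nat) : Nat := @Bool.rec (fun _ => Nat) (Btab_s_1955_1957 c) (Btab_s_1957_1959 c) (Nat.ble 1957 c)
noncomputable def Btab_s_1959_1961 (c : Nat) : Nat := @Bool.rec (fun _ => Nat) (Btab_1959) (Btab_1960) (Nat.ble 1960 c)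
noncomputable def Btab_s_1962_1964 (c : Nat) : Nat := @Bool.rec (fun _ => Nat) (Btab_1962) (Btab_1963) (Nat.ble 1963 c)
noncomputable def Btab_s_1961_1964 (c : Nat) : Nat := @Bool.rec (fun _ => Nat) (Btab_1961) (Btab_s_1962_1964 c) (Nat.ble 1962 c)
noncomputable def Btab_s_1959_1964 (c : Nat) : Nat := @Bool.rec (fun _ => Nat) (Btab_s_1959_1961 c) (Btab_s_1961_1964 c) (Nat.ble 1961 c)
noncomputable def Btab_s_1955_1964 (c : Nat) : Nat := @Bool.rec (fun _ => Nat) (Btab_s_1955_1959 c) (Btab_s_1959_1964 c) (Nat.ble 1959 c)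
noncomputable def Btab_s_1964_1966 (c : Nat) : Nat := @Bool.rec (fun _ => Nat) (Btab_1964) (Btab_1965) (Nat.ble 1965 c)
noncomputable def Btab_s_1967_1969 (c : Nat) : Nat := @Bool.rec (fun _ => Nat) (Btab_1967) (Btab_1968) (Nat.ble 1968 c)
noncomputable def Btab_s_1966_1969 (c : Nat) : Nat := @Bool.rec (fun _ => Nat) (Btab_1966) (Btab_s_1967_1969 c) (Nat.ble 1967 c)
noncomputable def Btab_s_1964_1969 (c : Nat) : Nat := @Bool.rec (fun _ => Nat) (Btab_s_1964_1966 c) (Btab_s_1966_1969 c) (Nat.ble 1966 c)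
noncomputable def Btab_s_1969_1971 (c : Nat) : Nat := @Bool.rec (fun _ => Nat) (Btab_1969) (Btab_1970) (Nat.ble 1970 c)
noncomputable def Btab_s_1972_1974 (c : Nat) : Nat := @Bool.rec (fun _ => Nat) (Btab_1972) (Btab_1973) (Nat.ble 1973 c)
noncomputable def Btab_s_1971_1974 (c : Nat) : Nat := @Bool.rec (fun _ => Nat) (Btab_1971) (Btab_s_1972_1974 c) (Nat.ble 1972 c)
noncomputable def Btab_s_1969_1974 (c : Nat) : Nat := @Bool.rec (fun _ => Nat) (Btab_s_1969_1971 c) (Btab_s_1971_1974 c) (Nat.ble 1971 c)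
noncomputable def Btab_s_1964_1974 (c : Nat) : Nat := @Bool.rec (fun _ => Nat) (Btab_s_1964_1969 c) (Btab_s_1969_1974 c) (Nat.ble 1969 c)
noncomputable def Btab_s_1955_1974 (c : Nat) : Nat := @Bool.rec (fun _ => Nat) (Btab_s_1955_1964 c) (Btab_s_1964_1974 c) (Nat.ble 1964 c)
noncomputable def Btab_s_1937_1974 (c : Nat) : Nat := @Bool.rec (fun _ => Nat) (Btab_s_1937_1955 c) (Btab_s_1955_1974 c) (Nat.ble 1955 c)
noncomputable def Btab_s_1974_1976 (c : Nat) : Nat := @Bool.rec (fun _ => Nat) (Btab_1974) (Btab_1975) (Nat.ble 1975 c)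
noncomputable def Btab_s_1976_1978 (c : Nat) : Nat := @Bool.rec (fun _ => Nat) (Btab_1976) (Btab_1977) (Nat.ble 1977 c)
noncomputable def Btab_s_1974_1978 (c : Nat) : Nat := @Bool.rec (fun _ => Nat) (Btab_s_1974_1976 c) (Btab_s_1976_1978 c) (Nat.ble 1976 c)
noncomputable def Btab_s_1978_1980 (c : Nat) : Nat := @Bool.rec (fun _ => Nat) (Btab_1978) (Btab_1979) (Nat.ble 1979 c)
noncomputable def Btab_s_1981_1983 (c : Nat) : Nat := @Bool.rec (fun _ => Nat) (Btab_1981) (Btab_1982) (Nat.ble 1982 c)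
noncomputable def Btab_s_1980_1983 (c : Nat) : Nat := @Bool.rec (fun _ => Nat) (Btab_1980) (Btab_s_1981_1983 c) (Nat.ble 1981 c)
noncomputable def Btab_s_1978_1983 (c : Nat) : Nat := @Bool.rec (fun _ => Nat) (Btab_s_1978_1980 c) (Btab_s_1980_1983 c) (Nat.ble 1980 c)
noncomputable def Btab_s_1974_1983 (c : Nat) : Nat := @Bool.rec (fun _ => Nat) (Btab_s_1974_1978 c) (Btab_s_1978_1983 c) (Nat.ble 1978 c)
noncomputable def Btab_s_1983_1985 (c : Nat) : Nat := @Bool.rec (fun _ => Nat) (Btab_1983) (Btab_1984) (Nat.ble 1984 c)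
noncomputable def Btab_s_1985_1987 (c : Nat) : Nat := @Bool.rec (fun _ => Nat) (Btab_1985) (Btab_1986) (Nat.ble 1986 c)
noncomputable def Btab_s_1983_1987 (c : Nat) : Nat := @Bool.rec (fun _ => Nat) (Btab_s_1983_1985 c) (Btab_s_1985_1987 c) (Nat.ble 1985 c)
noncomputable def Btab_s_1987_1989 (c : Nat) : Nat := @Bool.rec (fun _ => Nat) (Btab_1987) (Btab_1988) (Nat.ble 1988 c)
noncomputable def Btab_s_1990_1992 (c : Nat) : Nat := @Bool.rec (fun _ => Nat) (Btab_1990) (Btab_1991) (Nat.ble 1991 c)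
noncomputable def Btab_s_1989_1992 (c : Nat) : Nat := @Bool.rec (fun _ => Nat) (Btab_1989) (Btab_s_1990_1992 c) (Nat.ble 1990 c)
noncomputable def Btab_s_1987_1992 (c : Nat) : Nat := @Bool.rec (fun _ => Nat) (Btab_s_1987_1989 c) (Btab_s_1989_1992 c) (Nat.ble 1989 c)
noncomputable def Btab_s_1983_1992 (c : Nat) : Nat := @Bool.rec (fun _ => Nat) (Btab_s_1983_1987 c) (Btab_s_1987_1992 c) (Nat.ble 1987 c)
noncomputable def Btab_s_1974_1992 (c : Nat) : Nat := @Bool.rec (fun _ => Nat) (Btab_s_1974_1983 c) (Btab_s_1983_1992 c) (Nat.ble 1983 c)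
noncomputable def Btab_s_1992_1994 (c : Nat) : Nat := @Bool.rec (fun _ => Nat) (Btab_1992) (Btab_1993) (Nat.ble 1993 c)
noncomputable def Btab_s_1994_1996 (c : Nat) : Nat := @Bool.rec (fun _ => Nat) (Btab_1994) (Btab_1995) (Nat.ble 1995 c)
noncomputable def Btab_s_1992_1996 (c : Nat) : Nat := @Bool.rec (fun _ => Nat) (Btab_s_1992_1994 c) (Btab_s_1994_1996 c) (Nat.ble 1994 c)
noncomputable def Btab_s_1996_1998 (c : Nat) : Nat := @Bool.rec (fun _ => Nat) (Btab_1996) (Btab_1997) (Nat.ble 1997 c)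
noncomputable def Btab_s_1999_2001 (c : Nat) : Nat := @Bool.rec (fun _ => Nat) (Btab_1999) (Btab_2000) (Nat.ble 2000 c)
noncomputable def Btab_s_1998_2001 (c : Nat) : Nat := @Bool.rec (fun _ => Nat) (Btab_1998) (Btab_s_1999_2001 c) (Nat.ble 1999 c)
noncomputable def Btab_s_1996_2001 (c : Nat) : Nat := @Bool.rec (fun _ => Nat) (Btab_s_1996_1998 c) (Btab_s_1998_2001 c) (Nat.ble 1998 c)
noncomputable def Btab_s_1992_2001 (c : Nat) : Nat := @Bool.rec (fun _ => Nat) (Btab_s_1992_1996 c) (Btab_s_1996_2001 c) (Nat.ble 1996 c)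
noncomputable def Btab_s_2001_2003 (c : Nat) : Nat := @Bool.rec (fun _ => Nat) (Btab_2001) (Btab_2002) (Nat.ble 2002 c)
noncomputable def Btab_s_2004_2006 (c : Nat) : Nat := @Bool.rec (fun _ => Nat) (Btab_2004) (Btab_2005) (Nat.ble 2005 c)
noncomputable def Btab_s_2003_2006 (c : Nat) : Nat := @Bool.rec (fun _ => Nat) (Btab_2003) (Btab_s_2004_2006 c) (Nat.ble 2004 c)
noncomputable def Btab_s_2001_2006 (c : Nat) : Nat := @Bool.rec (fun _ => Nat) (Btab_s_2001_2003 c) (Btab_s_2003_2006 c) (Nat.ble 2003 c)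
noncomputable def Btab_s_2006_2008 (c : Nat) : Nat := @Bool.rec (fun _ => Nat) (Btab_2006) (Btab_2007) (Nat.ble 2007 c)
noncomputable def Btab_s_2009_2011 (c : Nat) : Nat := @Bool.rec (fun _ => Nat) (Btab_2009) (Btab_2010) (Nat.ble 2010 c)
noncomputable def Btab_s_2008_2011 (c : Nat) : Nat := @Bool.rec (fun _ => Nat) (Btab_2008) (Btab_s_2009_2011 c) (Nat.ble 2009 c)
noncomputable def Btab_s_2006_2011 (c : Nat) : Nat := @Bool.rec (fun _ => Nat) (Btab_s_2006_2008 c) (Btab_s_2008_2011 c) (Nat.ble 2008 c)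
noncomputable def Btab_s_2001_2011 (c : Nat) : Nat := @Bool.rec (fun _ => Nat) (Btab_s_2001_2006 c) (Btab_s_2006_2011 c) (Nat.ble 2006 c)
noncomputable def Btab_s_1992_2011 (c : Nat) : Nat := @Bool.rec (fun _ => Nat) (Btab_s_1992_2001 c) (Btab_s_2001_2011 c) (Nat.ble 2001 c)
noncomputable def Btab_s_1974_2011 (c : Nat) : Nat := @Bool.rec (fun _ => Nat) (Btab_s_1974_1992 c) (Btab_s_1992_2011 c) (Nat.ble 1992 c)
noncomputable def Btab_s_1937_2011 (c : Nat) : Nat := @Bool.rec (fun _ => Nat) (Btab_s_1937_1974 c) (Btab_s_1974_2011 c) (Nat.ble 1974 c)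
noncomputable def Btab_s_2011_2013 (c : Nat) : Nat := @Bool.rec (fun _ => Nat) (Btab_2011) (Btab_2012) (Nat.ble 2012 c)
noncomputable def Btab_s_2013_2015 (c : Nat) : Nat := @Bool.rec (fun _ => Nat) (Btab_2013) (Btab_2014) (Nat.ble 2014 c)
noncomputable def Btab_s_2011_2015 (c : Nat) : Nat := @Bool.rec (fun _ => Nat) (Btab_s_2011_2013 c) (Btab_s_2013_2015 c) (Nat.ble 2013 c)
noncomputable def Btab_s_2015_2017 (c : Nat) : Nat := @Bool.rec (fun _ => Nat) (Btab_2015) (Btab_2016) (Nat.ble 2016 c)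
noncomputable def Btab_s_2018_2020 (c : Nat) : Nat := @Bool.rec (fun _ => Nat) (Btab_2018) (Btab_2019) (Nat.ble 2019 c)
noncomputable def Btab_s_2017_2020 (c : Nat) : Nat := @Bool.rec (fun _ => Nat) (Btab_2017) (Btab_s_2018_2020 c) (Nat.ble 2018 c)
noncomputable def Btab_s_2015_2020 (c : Nat) : Nat := @Bool.rec (fun _ => Nat) (Btab_s_2015_2017 c) (Btab_s_2017_2020 c) (Nat.ble 2017 c)
noncomputable def Btab_s_2011_2020 (c : Nat) : Nat := @Bool.rec (fun _ => Nat) (Btab_s_2011_2015 c) (Btab_s_2015_2020 c) (Nat.ble 2015 c)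
noncomputable def Btab_s_2020_2022 (c : Nat) : Nat := @Bool.rec (fun _ => Nat) (Btab_2020) (Btab_2021) (Nat.ble 2021 c)
noncomputable def Btab_s_2022_2024 (c : Nat) : Nat := @Bool.rec (fun _ => Nat) (Btab_2022) (Btab_2023) (Nat.ble 2023 c)
noncomputable def Btab_s_2020_2024 (c : Nat) : Nat := @Bool.rec (fun _ => Nat) (Btab_s_2020_2022 c) (Btab_s_2022_2024 c) (Nat.ble 2022 c)
noncomputable def Btab_s_2024_2026 (c : Nat) : Nat := @Bool.rec (fun _ => Nat) (Btab_2024) (Btab_2025) (Nat.ble 2025 c)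
noncomputable def Btab_s_2027_2029 (c : Nat) : Nat := @Bool.rec (fun _ => Nat) (Btab_2027) (Btab_2028) (Nat.ble 2028 c)
noncomputable def Btab_s_2026_2029 (c : Nat) : Nat := @Bool.rec (fun _ => Nat) (Btab_2026) (Btab_s_2027_2029 c) (Nat.ble 2027 c)
noncomputable def Btab_s_2024_2029 (c : Nat) : Nat := @Bool.rec (fun _ => Nat) (Btab_s_2024_2026 c) (Btab_s_2026_2029 c) (Nat.ble 2026 c)
noncomputable def Btab_s_2020_2029 (c : Nat) : Nat := @Bool.rec (fun _ => Nat) (Btab_s_2020_2024 c) (Btab_s_2024_2029 c) (Nat.ble 2024 c)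
noncomputable def Btab_s_2011_2029 (c : Nat) : Nat := @Bool.rec (fun _ => Nat) (Btab_s_2011_2020 c) (Btab_s_2020_2029 c) (Nat.ble 2020 c)
noncomputable def Btab_s_2029_2031 (c : Nat) : Nat := @Bool.rec (fun _ => Nat) (Btab_2029) (Btab_2030) (Nat.ble 2030 c)
noncomputable def Btab_s_2031_2033 (c : Nat) : Nat := @Bool.rec (fun _ => Nat) (Btab_2031) (Btab_2032) (Nat.ble 2032 c)
noncomputable def Btab_s_2029_2033 (c : Nat) : Nat := @Bool.rec (fun _ => Nat) (Btab_s_2029_2031 c) (Btab_s_2031_2033 c) (Nat.ble 2031 c)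
noncomputable def Btab_s_2033_2035 (c : Nat) : Nat := @Bool.rec (fun _ => Nat) (Btab_2033) (Btab_2034) (Nat.ble 2034 c)
noncomputable def Btab_s_2036_2038 (c : Nat) : Nat := @Bool.rec (fun _ => Nat) (Btab_2036) (Btab_2037) (Nat.ble 2037 c)
noncomputable def Btab_s_2035_2038 (c : Nat) : Nat := @Bool.rec (fun _ => Nat) (Btab_2035) (Btab_s_2036_2038 c) (Nat.ble 2036 c)
noncomputable def Btab_s_2033_2038 (c : Nat) : Nat := @Bool.rec (fun _ => Nat) (Btab_s_2033_2035 c) (Btab_s_2035_2038 c) (Nat.ble 2035 c)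
noncomputable def Btab_s_2029_2038 (c : Nat) : Nat := @Bool.rec (fun _ => Nat) (Btab_s_2029_2033 c) (Btab_s_2033_2038 c) (Nat.ble 2033 c)
noncomputable def Btab_s_2038_2040 (c : Nat) : Nat := @Bool.rec (fun _ => Nat) (Btab_2038) (Btab_2039) (Nat.ble 2039 c)
noncomputable def Btab_s_2041_2043 (c : Nat) : Nat := @Bool.rec (fun _ => Nat) (Btab_2041) (Btab_2042) (Nat.ble 2042 c)
noncomputable def Btab_s_2040_2043 (c : Nat) : Nat := @Bool.rec (fun _ => Nat) (Btab_2040) (Btab_s_2041_2043 c) (Nat.ble 2041 c)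
noncomputable def Btab_s_2038_2043 (c : Nat) : Nat := @Bool.rec (fun _ => Nat) (Btab_s_2038_2040 c) (Btab_s_2040_2043 c) (Nat.ble 2040 c)
noncomputable def Btab_s_2043_2045 (c : Nat) : Nat := @Bool.rec (fun _ => Nat) (Btab_2043) (Btab_2044) (Nat.ble 2044 c)
noncomputable def Btab_s_2046_2048 (c : Nat) : Nat := @Bool.rec (fun _ => Nat) (Btab_2046) (Btab_2047) (Nat.ble 2047 c)
noncomputable def Btab_s_2045_2048 (c : Nat) : Nat := @Bool.rec (fun _ => Nat) (Btab_2045) (Btab_s_2046_2048 c) (Nat.ble 2046 c)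
noncomputable def Btab_s_2043_2048 (c : Nat) : Nat := @Bool.rec (fun _ => Nat) (Btab_s_2043_2045 c) (Btab_s_2045_2048 c) (Nat.ble 2045 c)
noncomputable def Btab_s_2038_2048 (c : Nat) : Nat := @Bool.rec (fun _ => Nat) (Btab_s_2038_2043 c) (Btab_s_2043_2048 c) (Nat.ble 2043 c)
noncomputable def Btab_s_2029_2048 (c : Nat) : Nat := @Bool.rec (fun _ => Nat) (Btab_s_2029_2038 c) (Btab_s_2038_2048 c) (Nat.ble 2038 c)
noncomputable def Btab_s_2011_2048 (c : Nat) : Nat := @Bool.rec (fun _ => Nat) (Btab_s_2011_2029 c) (Btab_s_2029_2048 c) (Nat.ble 2029 c)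
noncomputable def Btab_s_2048_2050 (c : Nat) : Nat := @Bool.rec (fun _ => Nat) (Btab_2048) (Btab_2049) (Nat.ble 2049 c)
noncomputable def Btab_s_2050_2052 (c : Nat) : Nat := @Bool.rec (fun _ => Nat) (Btab_2050) (Btab_2051) (Nat.ble 2051 c)
noncomputable def Btab_s_2048_2052 (c : Nat) : Nat := @Bool.rec (fun _ => Nat) (Btab_s_2048_2050 c) (Btab_s_2050_2052 c) (Nat.ble 2050 c)
noncomputable def Btab_s_2052_2054 (c : Nat) : Nat := @Bool.rec (fun _ => Nat) (Btab_2052) (Btab_2053) (Nat.ble 2053 c)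
noncomputable def Btab_s_2055_2057 (c : Nat) : Nat := @Bool.rec (fun _ => Nat) (Btab_2055) (Btab_2056) (Nat.ble 2056 c)
noncomputable def Btab_s_2054_2057 (c : Nat) : Nat := @Bool.rec (fun _ => Nat) (Btab_2054) (Btab_s_2055_2057 c) (Nat.ble 2055 c)
noncomputable def Btab_s_2052_2057 (c : Nat) : Nat := @Bool.rec (fun _ => Nat) (Btab_s_2052_2054 c) (Btab_s_2054_2057 c) (Nat.ble 2054 c)
noncomputable def Btab_s_2048_2057 (c : Nat) : Nat := @Bool.rec (fun _ => Nat) (Btab_s_2048_2052 c) (Btab_s_2052_2057 c) (Nat.ble 2052 c)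
noncomputable def Btab_s_2057_2059 (c : Nat) : Nat := @Bool.rec (fun _ => Nat) (Btab_2057) (Btab_2058) (Nat.ble 2058 c)
noncomputable def Btab_s_2060_2062 (c : Nat) : Nat := @Bool.rec (fun _ => Nat) (Btab_2060) (Btab_2061) (Nat.ble 2061 c)
noncomputable def Btab_s_2059_2062 (c : Nat) : Nat := @Bool.rec (fun _ => Nat) (Btab_2059) (Btab_s_2060_2062 c) (Nat.ble 2060 c)
noncomputable def Btab_s_2057_2062 (c : Nat) : Nat := @Bool.rec (fun _ => Nat) (Btab_s_2057_2059 c) (Btab_s_2059_2062 c) (Nat.ble 2059 c)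
noncomputable def Btab_s_2062_2064 (c : Nat) : Nat := @Bool.rec (fun _ => Nat) (Btab_2062) (Btab_2063) (Nat.ble 2063 c)
noncomputable def Btab_s_2065_2067 (c : Nat) : Nat := @Bool.rec (fun _ => Nat) (Btab_2065) (Btab_2066) (Nat.ble 2066 c)
noncomputable def Btab_s_2064_2067 (c : Nat) : Nat := @Bool.rec (fun _ => Nat) (Btab_2064) (Btab_s_2065_2067 c) (Nat.ble 2065 c)
noncomputable def Btab_s_2062_2067 (c : Nat) : Nat := @Bool.rec (fun _ => Nat) (Btab_s_2062_2064 c) (Btab_s_2064_2067 c) (Nat.ble 2064 c)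
noncomputable def Btab_s_2057_2067 (c : Nat) : Nat := @Bool.rec (fun _ => Nat) (Btab_s_2057_2062 c) (Btab_s_2062_2067 c) (Nat.ble 2062 c)
noncomputable def Btab_s_2048_2067 (c : Nat) : Nat := @Bool.rec (fun _ => Nat) (Btab_s_2048_2057 c) (Btab_s_2057_2067 c) (Nat.ble 2057 c)
noncomputable def Btab_s_2067_2069 (c : Nat) : Nat := @Bool.rec (fun _ => Nat) (Btab_2067) (Btab_2068) (Nat.ble 2068 c)
noncomputable def Btab_s_2069_2071 (c : Nat) : Nat := @Bool.rec (fun _ => Nat) (Btab_2069) (Btab_2070) (Nat.ble 2070 c)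
noncomputable def Btab_s_2067_2071 (c : Nat) : Nat := @Bool.rec (fun _ => Nat) (Btab_s_2067_2069 c) (Btab_s_2069_2071 c) (Nat.ble 2069 c)
noncomputable def Btab_s_2071_2073 (c : Nat) : Nat := @Bool.rec (fun _ => Nat) (Btab_2071) (Btab_2072) (Nat.ble 2072 c)
noncomputable def Btab_s_2074_2076 (c : Nat) : Nat := @Bool.rec (fun _ => Nat) (Btab_2074) (Btab_2075) (Nat.ble 2075 c)
noncomputable def Btab_s_2073_2076 (c : Nat) : Nat := @Bool.rec (fun _ => Nat) (Btab_2073) (Btab_s_2074_2076 c) (Nat.ble 2074 c)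
noncomputable def Btab_s_2071_2076 (c : Nat) : Nat := @Bool.rec (fun _ => Nat) (Btab_s_2071_2073 c) (Btab_s_2073_2076 c) (Nat.ble 2073 c)
noncomputable def Btab_s_2067_2076 (c : Nat) : Nat := @Bool.rec (fun _ => Nat) (Btab_s_2067_2071 c) (Btab_s_2071_2076 c) (Nat.ble 2071 c)
noncomputable def Btab_s_2076_2078 (c : Nat) : Nat := @Bool.rec (fun _ => Nat) (Btab_2076) (Btab_2077) (Nat.ble 2077 c)
noncomputable def Btab_s_2079_2081 (c : Nat) : Nat := @Bool.rec (fun _ => Nat) (Btab_2079) (Btab_2080) (Nat.ble 2080 c)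
noncomputable def Btab_s_2078_2081 (c : Nat) : Nat := @Bool.rec (fun _ => Nat) (Btab_2078) (Btab_s_2079_2081 c) (Nat.ble 2079 c)
noncomputable def Btab_s_2076_2081 (c : Nat) : Nat := @Bool.rec (fun _ => Nat) (Btab_s_2076_2078 c) (Btab_s_2078_2081 c) (Nat.ble 2078 c)
noncomputable def Btab_s_2081_2083 (c : Nat) : Nat := @Bool.rec (fun _ => Nat) (Btab_2081) (Btab_2082) (Nat.ble 2082 c)
noncomputable def Btab_s_2084_2086 (c : Nat) : Nat := @Bool.rec (fun _ => Nat) (Btab_2084) (Btab_2085) (Nat.ble 2085 c)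
noncomputable def Btab_s_2083_2086 (c : Nat) : Nat := @Bool.rec (fun _ => Nat) (Btab_2083) (Btab_s_2084_2086 c) (Nat.ble 2084 c)
noncomputable def Btab_s_2081_2086 (c : Nat) : Nat := @Bool.rec (fun _ => Nat) (Btab_s_2081_2083 c) (Btab_s_2083_2086 c) (Nat.ble 2083 c)
noncomputable def Btab_s_2076_2086 (c : Nat) : Nat := @Bool.rec (fun _ => Nat) (Btab_s_2076_2081 c) (Btab_s_2081_2086 c) (Nat.ble 2081 c)
noncomputable def Btab_s_2067_2086 (c : Nat) : Nat := @Bool.rec (fun _ => Nat) (Btab_s_2067_2076 c) (Btab_s_2076_2086 c) (Nat.ble 2076 c)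
noncomputable def Btab_s_2048_2086 (c : Nat) : Nat := @Bool.rec (fun _ => Nat) (Btab_s_2048_2067 c) (Btab_s_2067_2086 c) (Nat.ble 2067 c)
noncomputable def Btab_s_2011_2086 (c : Nat) : Nat := @Bool.rec (fun _ => Nat) (Btab_s_2011_2048 c) (Btab_s_2048_2086 c) (Nat.ble 2048 c)
noncomputable def Btab_s_1937_2086 (c : Nat) : Nat := @Bool.rec (fun _ => Nat) (Btab_s_1937_2011 c) (Btab_s_2011_2086 c) (Nat.ble 2011 c)
noncomputable def Btab_s_1788_2086 (c : Nat) : Nat := @Bool.rec (fun _ => Nat) (Btab_s_1788_1937 c) (Btab_s_1937_2086 c) (Nat.ble 1937 c)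
noncomputable def Btab_s_2086_2088 (c : Nat) : Nat := @Bool.rec (fun _ => Nat) (Btab_2086) (Btab_2087) (Nat.ble 2087 c)
noncomputable def Btab_s_2088_2090 (c : Nat) : Nat := @Bool.rec (fun _ => Nat) (Btab_2088) (Btab_2089) (Nat.ble 2089 c)
noncomputable def Btab_s_2086_2090 (c : Nat) : Nat := @Bool.rec (fun _ => Nat) (Btab_s_2086_2088 c) (Btab_s_2088_2090 c) (Nat.ble 2088 c)
noncomputable def Btab_s_2090_2092 (c : Nat) : Nat := @Bool.rec (fun _ => Nat) (Btab_2090) (Btab_2091) (Nat.ble 2091 c)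
noncomputable def Btab_s_2093_2095 (c : Nat) : Nat := @Bool.rec (fun _ => Nat) (Btab_2093) (Btab_2094) (Nat.ble 2094 c)
noncomputable def Btab_s_2092_2095 (c : Nat) : Nat := @Bool.rec (fun _ => Nat) (Btab_2092) (Btab_s_2093_2095 c) (Nat.ble 2093 c)
noncomputable def Btab_s_2090_2095 (c : Nat) : Nat := @Bool.rec (fun _ => Nat) (Btab_s_2090_2092 c) (Btab_s_2092_2095 c) (Nat.ble 2092 c)
noncomputable def Btab_s_2086_2095 (c : Nat) : Nat := @Bool.rec (fun _ => Nat) (Btab_s_2086_2090 c) (Btab_s_2090_2095 c) (Nat.ble 2090 c)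
noncomputable def Btab_s_2095_2097 (c : Nat) : Nat := @Bool.rec (fun _ => Nat) (Btab_2095) (Btab_2096) (Nat.ble 2096 c)
noncomputable def Btab_s_2097_2099 (c : Nat) : Nat := @Bool.rec (fun _ => Nat) (Btab_2097) (Btab_2098) (Nat.ble 2098 c)
noncomputable def Btab_s_2095_2099 (c : Nat) : Nat := @Bool.rec (fun _ => Nat) (Btab_s_2095_2097 c) (Btab_s_2097_2099 c) (Nat.ble 2097 c)
noncomputable def Btab_s_2099_2101 (c : Nat) : Nat := @Bool.rec (fun _ => Nat) (Btab_2099) (Btab_2100) (Nat.ble 2100 c)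
noncomputable def Btab_s_2102_2104 (c : Nat) : Nat := @Bool.rec (fun _ => Nat) (Btab_2102) (Btab_2103) (Nat.ble 2103 c)
noncomputable def Btab_s_2101_2104 (c : Nat) : Nat := @Bool.rec (fun _ => Nat) (Btab_2101) (Btab_s_2102_2104 c) (Nat.ble 2102 c)
noncomputable def Btab_s_2099_2104 (c : Nat) : Nat := @Bool.rec (fun _ => Nat) (Btab_s_2099_2101 c) (Btab_s_2101_2104 c) (Nat.ble 2101 c)
noncomputable def Btab_s_2095_2104 (c : Nat) : Nat := @Bool.rec (fun _ => Nat) (Btab_s_2095_2099 c) (Btab_s_2099_2104 c) (Nat.ble 2099 c)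
noncomputable def Btab_s_2086_2104 (c : Nat) : Nat := @Bool.rec (fun _ => Nat) (Btab_s_2086_2095 c) (Btab_s_2095_2104 c) (Nat.ble 2095 c)
noncomputable def Btab_s_2104_2106 (c : Nat) : Nat := @Bool.rec (fun _ => Nat) (Btab_2104) (Btab_2105) (Nat.ble 2105 c)
noncomputable def Btab_s_2106_2108 (c : Nat) : Nat := @Bool.rec (fun _ => Nat) (Btab_2106) (Btab_2107) (Nat.ble 2107 c)
noncomputable def Btab_s_2104_2108 (c : Nat) : Nat := @Bool.rec (fun _ => Nat) (Btab_s_2104_2106 c) (Btab_s_2106_2108 c) (Nat.ble 2106 c)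
noncomputable def Btab_s_2108_2110 (c : Nat) : Nat := @Bool.rec (fun _ => Nat) (Btab_2108) (Btab_2109) (Nat.ble 2109 c)
noncomputable def Btab_s_2111_2113 (c : Nat) : Nat := @Bool.rec (fun _ => Nat) (Btab_2111) (Btab_2112) (Nat.ble 2112 c)
noncomputable def Btab_s_2110_2113 (c : Nat) : Nat := @Bool.rec (fun _ => Nat) (Btab_2110) (Btab_s_2111_2113 c) (Nat.ble 2111 c)
noncomputable def Btab_s_2108_2113 (c : Nat) : Nat := @Bool.rec (fun _ => Nat) (Btab_s_2108_2110 c) (Btab_s_2110_2113 c) (Nat.ble 2110 c)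
noncomputable def Btab_s_2104_2113 (c : Nat) : Nat := @Bool.rec (fun _ => Nat) (Btab_s_2104_2108 c) (Btab_s_2108_2113 c) (Nat.ble 2108 c)
noncomputable def Btab_s_2113_2115 (c : Nat) : Nat := @Bool.rec (fun _ => Nat) (Btab_2113) (Btab_2114) (Nat.ble 2114 c)
noncomputable def Btab_s_2116_2118 (c : Nat) : Nat := @Bool.rec (fun _ => Nat) (Btab_2116) (Btab_2117) (Nat.ble 2117 c)
noncomputable def Btab_s_2115_2118 (c : Nat) : Nat := @Bool.rec (fun _ => Nat) (Btab_2115) (Btab_s_2116_2118 c) (Nat.ble 2116 c)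
noncomputable def Btab_s_2113_2118 (c : Nat) : Nat := @Bool.rec (fun _ => Nat) (Btab_s_2113_2115 c) (Btab_s_2115_2118 c) (Nat.ble 2115 c)
noncomputable def Btab_s_2118_2120 (c : Nat) : Nat := @Bool.rec (fun _ => Nat) (Btab_2118) (Btab_2119) (Nat.ble 2119 c)
noncomputable def Btab_s_2121_2123 (c : Nat) : Nat := @Bool.rec (fun _ => Nat) (Btab_2121) (Btab_2122) (Nat.ble 2122 c)
noncomputable def Btab_s_2120_2123 (c : Nat) : Nat := @Bool.rec (fun _ => Nat) (Btab_2120) (Btab_s_2121_2123 c) (Nat.ble 2121 c)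
noncomputable def Btab_s_2118_2123 (c : Nat) : Nat := @Bool.rec (fun _ => Nat) (Btab_s_2118_2120 c) (Btab_s_2120_2123 c) (Nat.ble 2120 c)
noncomputable def Btab_s_2113_2123 (c : Nat) : Nat := @Bool.rec (fun _ => Nat) (Btab_s_2113_2118 c) (Btab_s_2118_2123 c) (Nat.ble 2118 c)
noncomputable def Btab_s_2104_2123 (c : Nat) : Nat := @Bool.rec (fun _ => Nat) (Btab_s_2104_2113 c) (Btab_s_2113_2123 c) (Nat.ble 2113 c)
noncomputable def Btab_s_2086_2123 (c : Nat) : Nat := @Bool.rec (fun _ => Nat) (Btab_s_2086_2104 c) (Btab_s_2104_2123 c) (Nat.ble 2104 c)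
noncomputable def Btab_s_2123_2125 (c : Nat) : Nat := @Bool.rec (fun _ => Nat) (Btab_2123) (Btab_2124) (Nat.ble 2124 c)
noncomputable def Btab_s_2125_2127 (c : Nat) : Nat := @Bool.rec (fun _ => Nat) (Btab_2125) (Btab_2126) (Nat.ble 2126 c)
noncomputable def Btab_s_2123_2127 (c : Nat) : Nat := @Bool.rec (fun _ => Nat) (Btab_s_2123_2125 c) (Btab_s_2125_2127 c) (Nat.ble 2125 c)
noncomputable def Btab_s_2127_2129 (c : Nat) : Nat := @Bool.rec (fun _ => Nat) (Btab_2127) (Btab_2128) (Nat.ble 2128 c)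
noncomputable def Btab_s_2130_2132 (c : Nat) : Nat := @Bool.rec (fun _ => Nat) (Btab_2130) (Btab_2131) (Nat.ble 2131 c)
noncomputable def Btab_s_2129_2132 (c : Nat) : Nat := @Bool.rec (fun _ => Nat) (Btab_2129) (Btab_s_2130_2132 c) (Nat.ble 2130 c)
noncomputable def Btab_s_2127_2132 (c : Nat) : Nat := @Bool.rec (fun _ => Nat) (Btab_s_2127_2129 c) (Btab_s_2129_2132 c) (Nat.ble 2129 c)
noncomputable def Btab_s_2123_2132 (c : Nat) : Nat := @Bool.rec (fun _ => Nat) (Btab_s_2123_2127 c) (Btab_s_2127_2132 c) (Nat.ble 2127 c)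
noncomputable def Btab_s_2132_2134 (c : Nat) : Nat := @Bool.rec (fun _ => Nat) (Btab_2132) (Btab_2133) (Nat.ble 2133 c)
noncomputable def Btab_s_2134_2136 (c : Nat) : Nat := @Bool.rec (fun _ => Nat) (Btab_2134) (Btab_2135) (Nat.ble 2135 c)
noncomputable def Btab_s_2132_2136 (c : Nat) : Nat := @Bool.rec (fun _ => Nat) (Btab_s_2132_2134 c) (Btab_s_2134_2136 c) (Nat.ble 2134 c)
noncomputable def Btab_s_2136_2138 (c : Nat) : Nat := @Bool.rec (fun _ => Nat) (Btab_2136) (Btab_2137) (Nat.ble 2137 c)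
noncomputable def Btab_s_2139_2141 (c : Nat) : Nat := @Bool.rec (fun _ => Nat) (Btab_2139) (Btab_2140) (Nat.ble 2140 c)
noncomputable def Btab_s_2138_2141 (c : Nat) : Nat := @Bool.rec (fun _ => Nat) (Btab_2138) (Btab_s_2139_2141 c) (Nat.ble 2139 c)
noncomputable def Btab_s_2136_2141 (c : Nat) : Nat := @Bool.rec (fun _ => Nat) (Btab_s_2136_2138 c) (Btab_s_2138_2141 c) (Nat.ble 2138 c)
noncomputable def Btab_s_2132_2141 (c : Nat) : Nat := @Bool.rec (fun _ => Nat) (Btab_s_2132_2136 c) (Btab_s_2136_2141 c) (Nat.ble 2136 c)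
noncomputable def Btab_s_2123_2141 (c : Nat) : Nat := @Bool.rec (fun _ => Nat) (Btab_s_2123_2132 c) (Btab_s_2132_2141 c) (Nat.ble 2132 c)
noncomputable def Btab_s_2141_2143 (c : Nat) : Nat := @Bool.rec (fun _ => Nat) (Btab_2141) (Btab_2142) (Nat.ble 2142 c)
noncomputable def Btab_s_2143_2145 (c : Nat) : Nat := @Bool.rec (fun _ => Nat) (Btab_2143) (Btab_2144) (Nat.ble 2144 c)
noncomputable def Btab_s_2141_2145 (c : Nat) : Nat := @Bool.rec (fun _ => Nat) (Btab_s_2141_2143 c) (Btab_s_2143_2145 c) (Nat.ble 2143 c)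
noncomputable def Btab_s_2145_2147 (c : Nat) : Nat := @Bool.rec (fun _ => Nat) (Btab_2145) (Btab_2146) (Nat.ble 2146 c)
noncomputable def Btab_s_2148_2150 (c : Nat) : Nat := @Bool.rec (fun _ => Nat) (Btab_2148) (Btab_2149) (Nat.ble 2149 c)
noncomputable def Btab_s_2147_2150 (c : Nat) : Nat := @Bool.rec (fun _ => Nat) (Btab_2147) (Btab_s_2148_2150 c) (Nat.ble 2148 c)
noncomputable def Btab_s_2145_2150 (c : Nat) : Nat := @Bool.rec (fun _ => Nat) (Btab_s_2145_2147 c) (Btab_s_2147_2150 c) (Nat.ble 2147 c)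
noncomputable def Btab_s_2141_2150 (c : Nat) : Nat := @Bool.rec (fun _ => Nat) (Btab_s_2141_2145 c) (Btab_s_2145_2150 c) (Nat.ble 2145 c)
noncomputable def Btab_s_2150_2152 (c : Nat) : Nat := @Bool.rec (fun _ => Nat) (Btab_2150) (Btab_2151) (Nat.ble 2151 c)
noncomputable def Btab_s_2153_2155 (c : Nat) : Nat := @Bool.rec (fun _ => Nat) (Btab_2153) (Btab_2154) (Nat.ble 2154 c)
noncomputable def Btab_s_2152_2155 (c : Nat) : Nat := @Bool.rec (fun _ => Nat) (Btab_2152) (Btab_s_2153_2155 c) (Nat.ble 2153 c)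
noncomputable def Btab_s_2150_2155 (c : Nat) : Nat := @Bool.rec (fun _ => Nat) (Btab_s_2150_2152 c) (Btab_s_2152_2155 c) (Nat.ble 2152 c)
noncomputable def Btab_s_2155_2157 (c : Nat) : Nat := @Bool.rec (fun _ => Nat) (Btab_2155) (Btab_2156) (Nat.ble 2156 c)
noncomputable def Btab_s_2158_2160 (c : Nat) : Nat := @Bool.rec (fun _ => Nat) (Btab_2158) (Btab_2159) (Nat.ble 2159 c)
noncomputable def Btab_s_2157_2160 (c : Nat) : Nat := @Bool.rec (fun _ => Nat) (Btab_2157) (Btab_s_2158_2160 c) (Nat.ble 2158 c)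
noncomputable def Btab_s_2155_2160 (c : Nat) : Nat := @Bool.rec (fun _ => Nat) (Btab_s_2155_2157 c) (Btab_s_2157_2160 c) (Nat.ble 2157 c)
noncomputable def Btab_s_2150_2160 (c : Nat) : Nat := @Bool.rec (fun _ => Nat) (Btab_s_2150_2155 c) (Btab_s_2155_2160 c) (Nat.ble 2155 c)
noncomputable def Btab_s_2141_2160 (c : Nat) : Nat := @Bool.rec (fun _ => Nat) (Btab_s_2141_2150 c) (Btab_s_2150_2160 c) (Nat.ble 2150 c)
noncomputable def Btab_s_2123_2160 (c : Nat) : Nat := @Bool.rec (fun _ => Nat) (Btab_s_2123_2141 c) (Btab_s_2141_2160 c) (Nat.ble 2141 c)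
noncomputable def Btab_s_2086_2160 (c : Nat) : Nat := @Bool.rec (fun _ => Nat) (Btab_s_2086_2123 c) (Btab_s_2123_2160 c) (Nat.ble 2123 c)
noncomputable def Btab_s_2160_2162 (c : Nat) : Nat := @Bool.rec (fun _ => Nat) (Btab_2160) (Btab_2161) (Nat.ble 2161 c)
noncomputable def Btab_s_2162_2164 (c : Nat) : Nat := @Bool.rec (fun _ => Nat) (Btab_2162) (Btab_2163) (Nat.ble 2163 c)
noncomputable def Btab_s_2160_2164 (c : Nat) : Nat := @Bool.rec (fun _ => Nat) (Btab_s_2160_2162 c) (Btab_s_2162_2164 c) (Nat.ble 2162 c)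
noncomputable def Btab_s_2164_2166 (c : Nat) : Nat := @Bool.rec (fun _ => Nat) (Btab_2164) (Btab_2165) (Nat.ble 2165 c)
noncomputable def Btab_s_2167_2169 (c : Nat) : Nat := @Bool.rec (fun _ => Nat) (Btab_2167) (Btab_2168) (Nat.ble 2168 c)
noncomputable def Btab_s_2166_2169 (c : Nat) : Nat := @Bool.rec (fun _ => Nat) (Btab_2166) (Btab_s_2167_2169 c) (Nat.ble 2167 c)
noncomputable def Btab_s_2164_2169 (c : Nat) : Nat := @Bool.rec (fun _ => Nat) (Btab_s_2164_2166 c) (Btab_s_2166_2169 c) (Nat.ble 2166 c)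
noncomputable def Btab_s_2160_2169 (c : Nat) : Nat := @Bool.rec (fun _ => Nat) (Btab_s_2160_2164 c) (Btab_s_2164_2169 c) (Nat.ble 2164 c)
noncomputable def Btab_s_2169_2171 (c : Nat) : Nat := @Bool.rec (fun _ => Nat) (Btab_2169) (Btab_2170) (Nat.ble 2170 c)
noncomputable def Btab_s_2171_2173 (c : Nat) : Nat := @Bool.rec (fun _ => Nat) (Btab_2171) (Btab_2172) (Nat.ble 2172 c)
noncomputable def Btab_s_2169_2173 (c : Nat) : Nat := @Bool.rec (fun _ => Nat) (Btab_s_2169_2171 c) (Btab_s_2171_2173 c) (Nat.ble 2171 c)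
noncomputable def Btab_s_2173_2175 (c : Nat) : Nat := @Bool.rec (fun _ => Nat) (Btab_2173) (Btab_2174) (Nat.ble 2174 c)
noncomputable def Btab_s_2176_2178 (c : Nat) : Nat := @Bool.rec (fun _ => Nat) (Btab_2176) (Btab_2177) (Nat.ble 2177 c)
noncomputable def Btab_s_2175_2178 (c : Nat) : Nat := @Bool.rec (fun _ => Nat) (Btab_2175) (Btab_s_2176_2178 c) (Nat.ble 2176 c)
noncomputable def Btab_s_2173_2178 (c : Nat) : Nat := @Bool.rec (fun _ => Nat) (Btab_s_2173_2175 c) (Btab_s_2175_2178 c) (Nat.ble 2175 c)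
noncomputable def Btab_s_2169_2178 (c : Nat) : Nat := @Bool.rec (fun _ => Nat) (Btab_s_2169_2173 c) (Btab_s_2173_2178 c) (Nat.ble 2173 c)
noncomputable def Btab_s_2160_2178 (c : Nat) : Nat := @Bool.rec (fun _ => Nat) (Btab_s_2160_2169 c) (Btab_s_2169_2178 c) (Nat.ble 2169 c)
noncomputable def Btab_s_2178_2180 (c : Nat) : Nat := @Bool.rec (fun _ => Nat) (Btab_2178) (Btab_2179) (Nat.ble 2179 c)
noncomputable def Btab_s_2180_2182 (c : Nat) : Nat := @Bool.rec (fun _ => Nat) (Btab_2180) (Btab_2181) (Nat.ble 2181 c)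
noncomputable def Btab_s_2178_2182 (c : Nat) : Nat := @Bool.rec (fun _ => Nat) (Btab_s_2178_2180 c) (Btab_s_2180_2182 c) (Nat.ble 2180 c)
noncomputable def Btab_s_2182_2184 (c : Nat) : Nat := @Bool.rec (fun _ => Nat) (Btab_2182) (Btab_2183) (Nat.ble 2183 c)
noncomputable def Btab_s_2185_2187 (c : Nat) : Nat := @Bool.rec (fun _ => Nat) (Btab_2185) (Btab_2186) (Nat.ble 2186 c)
noncomputable def Btab_s_2184_2187 (c : Nat) : Nat := @Bool.rec (fun _ => Nat) (Btab_2184) (Btab_s_2185_2187 c) (Nat.ble 2185 c)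
noncomputable def Btab_s_2182_2187 (c : Nat) : Nat := @Bool.rec (fun _ => Nat) (Btab_s_2182_2184 c) (Btab_s_2184_2187 c) (Nat.ble 2184 c)
noncomputable def Btab_s_2178_2187 (c : Nat) : Nat := @Bool.rec (fun _ => Nat) (Btab_s_2178_2182 c) (Btab_s_2182_2187 c) (Nat.ble 2182 c)
noncomputable def Btab_s_2187_2189 (c : Nat) : Nat := @Bool.rec (fun _ => Nat) (Btab_2187) (Btab_2188) (Nat.ble 2188 c)
noncomputable def Btab_s_2190_2192 (c : Nat) : Nat := @Bool.rec (fun _ => Nat) (Btab_2190) (Btab_2191) (Nat.ble 2191 c)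
noncomputable def Btab_s_2189_2192 (c : Nat) : Nat := @Bool.rec (fun _ => Nat) (Btab_2189) (Btab_s_2190_2192 c) (Nat.ble 2190 c)
noncomputable def Btab_s_2187_2192 (c : Nat) : Nat := @Bool.rec (fun _ => Nat) (Btab_s_2187_2189 c) (Btab_s_2189_2192 c) (Nat.ble 2189 c)
noncomputable def Btab_s_2192_2194 (c : Nat) : Nat := @Bool.rec (fun _ => Nat) (Btab_2192) (Btab_2193) (Nat.ble 2193 c)
noncomputable def Btab_s_2195_2197 (c : Nat) : Nat := @Bool.rec (fun _ => Nat) (Btab_2195) (Btab_2196) (Nat.ble 2196 c)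
noncomputable def Btab_s_2194_2197 (c : Nat) : Nat := @Bool.rec (fun _ => Nat) (Btab_2194) (Btab_s_2195_2197 c) (Nat.ble 2195 c)
noncomputable def Btab_s_2192_2197 (c : Nat) : Nat := @Bool.rec (fun _ => Nat) (Btab_s_2192_2194 c) (Btab_s_2194_2197 c) (Nat.ble 2194 c)
noncomputable def Btab_s_2187_2197 (c : Nat) : Nat := @Bool.rec (fun _ => Nat) (Btab_s_2187_2192 c) (Btab_s_2192_2197 c) (Nat.ble 2192 c)
noncomputable def Btab_s_2178_2197 (c : Nat) : Nat := @Bool.rec (fun _ => Nat) (Btab_s_2178_2187 c) (Btab_s_2187_2197 c) (Nat.ble 2187 c)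
noncomputable def Btab_s_2160_2197 (c : Nat) : Nat := @Bool.rec (fun _ => Nat) (Btab_s_2160_2178 c) (Btab_s_2178_2197 c) (Nat.ble 2178 c)
noncomputable def Btab_s_2197_2199 (c : Nat) : Nat := @Bool.rec (fun _ => Nat) (Btab_2197) (Btab_2198) (Nat.ble 2198 c)
noncomputable def Btab_s_2199_2201 (c : Nat) : Nat := @Bool.rec (fun _ => Nat) (Btab_2199) (Btab_2200) (Nat.ble 2200 c)
noncomputable def Btab_s_2197_2201 (c : Nat) : Nat := @Bool.rec (fun _ => Nat) (Btab_s_2197_2199 c) (Btab_s_2199_2201 c) (Nat.ble 2199 c)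
noncomputable def Btab_s_2201_2203 (c : Nat) : Nat := @Bool.rec (fun _ => Nat) (Btab_2201) (Btab_2202) (Nat.ble 2202 c)
noncomputable def Btab_s_2204_2206 (c : Nat) : Nat := @Bool.rec (fun _ => Nat) (Btab_2204) (Btab_2205) (Nat.ble 2205 c)
noncomputable def Btab_s_2203_2206 (c : Nat) : Nat := @Bool.rec (fun _ => Nat) (Btab_2203) (Btab_s_2204_2206 c) (Nat.ble 2204 c)
noncomputable def Btab_s_2201_2206 (c : Nat) : Nat := @Bool.rec (fun _ => Nat) (Btab_s_2201_2203 c) (Btab_s_2203_2206 c) (Nat.ble 2203 c)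
noncomputable def Btab_s_2197_2206 (c : Nat) : Nat := @Bool.rec (fun _ => Nat) (Btab_s_2197_2201 c) (Btab_s_2201_2206 c) (Nat.ble 2201 c)
noncomputable def Btab_s_2206_2208 (c : Nat) : Nat := @Bool.rec (fun _ => Nat) (Btab_2206) (Btab_2207) (Nat.ble 2207 c)
noncomputable def Btab_s_2209_2211 (c : Nat) : Nat := @Bool.rec (fun _ => Nat) (Btab_2209) (Btab_2210) (Nat.ble 2210 c)
noncomputable def Btab_s_2208_2211 (c : Nat) : Nat := @Bool.rec (fun _ => Nat) (Btab_2208) (Btab_s_2209_2211 c) (Nat.ble 2209 c)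
noncomputable def Btab_s_2206_2211 (c : Nat) : Nat := @Bool.rec (fun _ => Nat) (Btab_s_2206_2208 c) (Btab_s_2208_2211 c) (Nat.ble 2208 c)
noncomputable def Btab_s_2211_2213 (c : Nat) : Nat := @Bool.rec (fun _ => Nat) (Btab_2211) (Btab_2212) (Nat.ble 2212 c)
noncomputable def Btab_s_2214_2216 (c : Nat) : Nat := @Bool.rec (fun _ => Nat) (Btab_2214) (Btab_2215) (Nat.ble 2215 c)
noncomputable def Btab_s_2213_2216 (c : Nat) : Nat := @Bool.rec (fun _ => Nat) (Btab_2213) (Btab_s_2214_2216 c) (Nat.ble 2214 c)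
noncomputable def Btab_s_2211_2216 (c : Nat) : Nat := @Bool.rec (fun _ => Nat) (Btab_s_2211_2213 c) (Btab_s_2213_2216 c) (Nat.ble 2213 c)
noncomputable def Btab_s_2206_2216 (c : Nat) : Nat := @Bool.rec (fun _ => Nat) (Btab_s_2206_2211 c) (Btab_s_2211_2216 c) (Nat.ble 2211 c)
noncomputable def Btab_s_2197_2216 (c : Nat) : Nat := @Bool.rec (fun _ => Nat) (Btab_s_2197_2206 c) (Btab_s_2206_2216 c) (Nat.ble 2206 c)
noncomputable def Btab_s_2216_2218 (c : Nat) : Nat := @Bool.rec (fun _ => Nat) (Btab_2216) (Btab_2217) (Nat.ble 2217 c)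
noncomputable def Btab_s_2218_2220 (c : Nat) : Nat := @Bool.rec (fun _ => Nat) (Btab_2218) (Btab_2219) (Nat.ble 2219 c)
noncomputable def Btab_s_2216_2220 (c : Nat) : Nat := @Bool.rec (fun _ => Nat) (Btab_s_2216_2218 c) (Btab_s_2218_2220 c) (Nat.ble 2218 c)
noncomputable def Btab_s_2220_2222 (c : Nat) : Nat := @Bool.rec (fun _ => Nat) (Btab_2220) (Btab_2221) (Nat.ble 2221 c)
noncomputable def Btab_s_2223_2225 (c : Nat) : Nat := @Bool.rec (fun _ => Nat) (Btab_2223) (Btab_2224) (Nat.ble 2224 c)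
noncomputable def Btab_s_2222_2225 (c : Nat) : Nat := @Bool.rec (fun _ => Nat) (Btab_2222) (Btab_s_2223_2225 c) (Nat.ble 2223 c)
noncomputable def Btab_s_2220_2225 (c : Nat) : Nat := @Bool.rec (fun _ => Nat) (Btab_s_2220_2222 c) (Btab_s_2222_2225 c) (Nat.ble 2222 c)
noncomputable def Btab_s_2216_2225 (c : Nat) : Nat := @Bool.rec (fun _ => Nat) (Btab_s_2216_2220 c) (Btab_s_2220_2225 c) (Nat.ble 2220 c)
noncomputable def Btab_s_2225_2227 (c : Nat) : Nat := @Bool.rec (fun _ => Nat) (Btab_2225) (Btab_2226) (Nat.ble 2226 c)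
noncomputable def Btab_s_2228_2230 (c : Nat) : Nat := @Bool.rec (fun _ => Nat) (Btab_2228) (Btab_2229) (Nat.ble 2229 c)
noncomputable def Btab_s_2227_2230 (c : Nat) : Nat := @Bool.rec (fun _ => Nat) (Btab_2227) (Btab_s_2228_2230 c) (Nat.ble 2228 c)
noncomputable def Btab_s_2225_2230 (c : Nat) : Nat := @Bool.rec (fun _ => Nat) (Btab_s_2225_2227 c) (Btab_s_2227_2230 c) (Nat.ble 2227 c)
noncomputable def Btab_s_2230_2232 (c : Nat) : Nat := @Bool.rec (fun _ => Nat) (Btab_2230) (Btab_2231) (Nat.ble 2231 c)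
noncomputable def Btab_s_2233_2235 (c : Nat) : Nat := @Bool.rec (fun _ => Nat) (Btab_2233) (Btab_2234) (Nat.ble 2234 c)
noncomputable def Btab_s_2232_2235 (c : Nat) : Nat := @Bool.rec (fun _ => Nat) (Btab_2232) (Btab_s_2233_2235 c) (Nat.ble 2233 c)
noncomputable def Btab_s_2230_2235 (c : Nat) : Nat := @Bool.rec (fun _ => Nat) (Btab_s_2230_2232 c) (Btab_s_2232_2235 c) (Nat.ble 2232 c)
noncomputable def Btab_s_2225_2235 (c : Nat) : Nat := @Bool.rec (fun _ => Nat) (Btab_s_2225_2230 c) (Btab_s_2230_2235 c) (Nat.ble 2230 c)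
noncomputable def Btab_s_2216_2235 (c : Nat) : Nat := @Bool.rec (fun _ => Nat) (Btab_s_2216_2225 c) (Btab_s_2225_2235 c) (Nat.ble 2225 c)
noncomputable def Btab_s_2197_2235 (c : Nat) : Nat := @Bool.rec (fun _ => Nat) (Btab_s_2197_2216 c) (Btab_s_2216_2235 c) (Nat.ble 2216 c)
noncomputable def Btab_s_2160_2235 (c : Nat) : Nat := @Bool.rec (fun _ => Nat) (Btab_s_2160_2197 c) (Btab_s_2197_2235 c) (Nat.ble 2197 c)
noncomputable def Btab_s_2086_2235 (c : Nat) : Nat := @Bool.rec (fun _ => Nat) (Btab_s_2086_2160 c) (Btab_s_2160_2235 c) (Nat.ble 2160 c)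
noncomputable def Btab_s_2235_2237 (c : Nat) : Nat := @Bool.rec (fun _ => Nat) (Btab_2235) (Btab_2236) (Nat.ble 2236 c)
noncomputable def Btab_s_2237_2239 (c : Nat) : Nat := @Bool.rec (fun _ => Nat) (Btab_2237) (Btab_2238) (Nat.ble 2238 c)
noncomputable def Btab_s_2235_2239 (c : Nat) : Nat := @Bool.rec (fun _ => Nat) (Btab_s_2235_2237 c) (Btab_s_2237_2239 c) (Nat.ble 2237 c)
noncomputable def Btab_s_2239_2241 (c : Nat) : Nat := @Bool.rec (fun _ => Nat) (Btab_2239) (Btab_2240) (Nat.ble 2240 c)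
noncomputable def Btab_s_2242_2244 (c : Nat) : Nat := @Bool.rec (fun _ => Nat) (Btab_2242) (Btab_2243) (Nat.ble 2243 c)
noncomputable def Btab_s_2241_2244 (c : Nat) : Nat := @Bool.rec (fun _ => Nat) (Btab_2241) (Btab_s_2242_2244 c) (Nat.ble 2242 c)
noncomputable def Btab_s_2239_2244 (c : Nat) : Nat := @Bool.rec (fun _ => Nat) (Btab_s_2239_2241 c) (Btab_s_2241_2244 c) (Nat.ble 2241 c)
noncomputable def Btab_s_2235_2244 (c : Nat) : Nat := @Bool.rec (fun _ => Nat) (Btab_s_2235_2239 c) (Btab_s_2239_2244 c) (Nat.ble 2239 c)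
noncomputable def Btab_s_2244_2246 (c : Nat) : Nat := @Bool.rec (fun _ => Nat) (Btab_2244) (Btab_2245) (Nat.ble 2245 c)
noncomputable def Btab_s_2246_2248 (c : Nat) : Nat := @Bool.rec (fun _ => Nat) (Btab_2246) (Btab_2247) (Nat.ble 2247 c)
noncomputable def Btab_s_2244_2248 (c : Nat) : Nat := @Bool.rec (fun _ => Nat) (Btab_s_2244_2246 c) (Btab_s_2246_2248 c) (Nat.ble 2246 c)
noncomputable def Btab_s_2248_2250 (c : Nat) : Nat := @Bool.rec (fun _ => Nat) (Btab_2248) (Btab_2249) (Nat.ble 2249 c)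
noncomputable def Btab_s_2251_2253 (c : Nat) : Nat := @Bool.rec (fun _ => Nat) (Btab_2251) (Btab_2252) (Nat.ble 2252 c)
noncomputable def Btab_s_2250_2253 (c : Nat) : Nat := @Bool.rec (fun _ => Nat) (Btab_2250) (Btab_s_2251_2253 c) (Nat.ble 2251 c)
noncomputable def Btab_s_2248_2253 (c : Nat) : Nat := @Bool.rec (fun _ => Nat) (Btab_s_2248_2250 c) (Btab_s_2250_2253 c) (Nat.ble 2250 c)
noncomputable def Btab_s_2244_2253 (c : Nat) : Nat := @Bool.rec (fun _ => Nat) (Btab_s_2244_2248 c) (Btab_s_2248_2253 c) (Nat.ble 2248 c)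
noncomputable def Btab_s_2235_2253 (c : Nat) : Nat := @Bool.rec (fun _ => Nat) (Btab_s_2235_2244 c) (Btab_s_2244_2253 c) (Nat.ble 2244 c)
noncomputable def Btab_s_2253_2255 (c : Nat) : Nat := @Bool.rec (fun _ => Nat) (Btab_2253) (Btab_2254) (Nat.ble 2254 c)
noncomputable def Btab_s_2255_2257 (c : Nat) : Nat := @Bool.rec (fun _ => Nat) (Btab_2255) (Btab_2256) (Nat.ble 2256 c)
noncomputable def Btab_s_2253_2257 (c : Nat) : Nat := @Bool.rec (fun _ => Nat) (Btab_s_2253_2255 c) (Btab_s_2255_2257 c) (Nat.ble 2255 c)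
noncomputable def Btab_s_2257_2259 (c : Nat) : Nat := @Bool.rec (fun _ => Nat) (Btab_2257) (Btab_2258) (Nat.ble 2258 c)
noncomputable def Btab_s_2260_2262 (c : Nat) : Nat := @Bool.rec (fun _ => Nat) (Btab_2260) (Btab_2261) (Nat.ble 2261 c)
noncomputable def Btab_s_2259_2262 (c : Nat) : Nat := @Bool.rec (fun _ => Nat) (Btab_2259) (Btab_s_2260_2262 c) (Nat.ble 2260 c)
noncomputable def Btab_s_2257_2262 (c : Nat) : Nat := @Bool.rec (fun _ => Nat) (Btab_s_2257_2259 c) (Btab_s_2259_2262 c) (Nat.ble 2259 c)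
noncomputable def Btab_s_2253_2262 (c : Nat) : Nat := @Bool.rec (fun _ => Nat) (Btab_s_2253_2257 c) (Btab_s_2257_2262 c) (Nat.ble 2257 c)
noncomputable def Btab_s_2262_2264 (c : Nat) : Nat := @Bool.rec (fun _ => Nat) (Btab_2262) (Btab_2263) (Nat.ble 2263 c)
noncomputable def Btab_s_2265_2267 (c : Nat) : Nat := @Bool.rec (fun _ => Nat) (Btab_2265) (Btab_2266) (Nat.ble 2266 c)
noncomputable def Btab_s_2264_2267 (c : Nat) : Nat := @Bool.rec (fun _ => Nat) (Btab_2264) (Btab_s_2265_2267 c) (Nat.ble 2265 c)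
noncomputable def Btab_s_2262_2267 (c : Nat) : Nat := @Bool.rec (fun _ => Nat) (Btab_s_2262_2264 c) (Btab_s_2264_2267 c) (Nat.ble 2264 c)
noncomputable def Btab_s_2267_2269 (c : Nat) : Nat := @Bool.rec (fun _ => Nat) (Btab_2267) (Btab_2268) (Nat.ble 2268 c)
noncomputable def Btab_s_2270_2272 (c : Nat) : Nat := @Bool.rec (fun _ => Nat) (Btab_2270) (Btab_2271) (Nat.ble 2271 c)
noncomputable def Btab_s_2269_2272 (c : Nat) : Nat := @Bool.rec (fun _ => Nat) (Btab_2269) (Btab_s_2270_2272 c) (Nat.ble 2270 c)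
noncomputable def Btab_s_2267_2272 (c : Nat) : Nat := @Bool.rec (fun _ => Nat) (Btab_s_2267_2269 c) (Btab_s_2269_2272 c) (Nat.ble 2269 c)
noncomputable def Btab_s_2262_2272 (c : Nat) : Nat := @Bool.rec (fun _ => Nat) (Btab_s_2262_2267 c) (Btab_s_2267_2272 c) (Nat.ble 2267 c)
noncomputable def Btab_s_2253_2272 (c : Nat) : Nat := @Bool.rec (fun _ => Nat) (Btab_s_2253_2262 c) (Btab_s_2262_2272 c) (Nat.ble 2262 c)
noncomputable def Btab_s_2235_2272 (c : Nat) : Nat := @Bool.rec (fun _ => Nat) (Btab_s_2235_2253 c) (Btab_s_2253_2272 c) (Nat.ble 2253 c)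
noncomputable def Btab_s_2272_2274 (c : Nat) : Nat := @Bool.rec (fun _ => Nat) (Btab_2272) (Btab_2273) (Nat.ble 2273 c)
noncomputable def Btab_s_2274_2276 (c : Nat) : Nat := @Bool.rec (fun _ => Nat) (Btab_2274) (Btab_2275) (Nat.ble 2275 c)
noncomputable def Btab_s_2272_2276 (c : Nat) : Nat := @Bool.rec (fun _ => Nat) (Btab_s_2272_2274 c) (Btab_s_2274_2276 c) (Nat.ble 2274 c)
noncomputable def Btab_s_2276_2278 (c : Nat) : Nat := @Bool.rec (fun _ => Nat) (Btab_2276) (Btab_2277) (Nat.ble 2277 c)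
noncomputable def Btab_s_2279_2281 (c : Nat) : Nat := @Bool.rec (fun _ => Nat) (Btab_2279) (Btab_2280) (Nat.ble 2280 c)
noncomputable def Btab_s_2278_2281 (c : Nat) : Nat := @Bool.rec (fun _ => Nat) (Btab_2278) (Btab_s_2279_2281 c) (Nat.ble 2279 c)
noncomputable def Btab_s_2276_2281 (c : Nat) : Nat := @Bool.rec (fun _ => Nat) (Btab_s_2276_2278 c) (Btab_s_2278_2281 c) (Nat.ble 2278 c)
noncomputable def Btab_s_2272_2281 (c : Nat) : Nat := @Bool.rec (fun _ => Nat) (Btab_s_2272_2276 c) (Btab_s_2276_2281 c) (Nat.ble 2276 c)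
noncomputable def Btab_s_2281_2283 (c : Nat) : Nat := @Bool.rec (fun _ => Nat) (Btab_2281) (Btab_2282) (Nat.ble 2282 c)
noncomputable def Btab_s_2284_2286 (c : Nat) : Nat := @Bool.rec (fun _ => Nat) (Btab_2284) (Btab_2285) (Nat.ble 2285 c)
noncomputable def Btab_s_2283_2286 (c : Nat) : Nat := @Bool.rec (fun _ => Nat) (Btab_2283) (Btab_s_2284_2286 c) (Nat.ble 2284 c)
noncomputable def Btab_s_2281_2286 (c : Nat) : Nat := @Bool.rec (fun _ => Nat) (Btab_s_2281_2283 c) (Btab_s_2283_2286 c) (Nat.ble 2283 c)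
noncomputable def Btab_s_2286_2288 (c : Nat) : Nat := @Bool.rec (fun _ => Nat) (Btab_2286) (Btab_2287) (Nat.ble 2287 c)
noncomputable def Btab_s_2289_2291 (c : Nat) : Nat := @Bool.rec (fun _ => Nat) (Btab_2289) (Btab_2290) (Nat.ble 2290 c)
noncomputable def Btab_s_2288_2291 (c : Nat) : Nat := @Bool.rec (fun _ => Nat) (Btab_2288) (Btab_s_2289_2291 c) (Nat.ble 2289 c)
noncomputable def Btab_s_2286_2291 (c : Nat) : Nat := @Bool.rec (fun _ => Nat) (Btab_s_2286_2288 c) (Btab_s_2288_2291 c) (Nat.ble 2288 c)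
noncomputable def Btab_s_2281_2291 (c : Nat) : Nat := @Bool.rec (fun _ => Nat) (Btab_s_2281_2286 c) (Btab_s_2286_2291 c) (Nat.ble 2286 c)
noncomputable def Btab_s_2272_2291 (c : Nat) : Nat := @Bool.rec (fun _ => Nat) (Btab_s_2272_2281 c) (Btab_s_2281_2291 c) (Nat.ble 2281 c)
noncomputable def Btab_s_2291_2293 (c : Nat) : Nat := @Bool.rec (fun _ => Nat) (Btab_2291) (Btab_2292) (Nat.ble 2292 c)
noncomputable def Btab_s_2293_2295 (c : Nat) : Nat := @Bool.rec (fun _ => Nat) (Btab_2293) (Btab_2294) (Nat.ble 2294 c)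
noncomputable def Btab_s_2291_2295 (c : Nat) : Nat := @Bool.rec (fun _ => Nat) (Btab_s_2291_2293 c) (Btab_s_2293_2295 c) (Nat.ble 2293 c)
noncomputable def Btab_s_2295_2297 (c : Nat) : Nat := @Bool.rec (fun _ => Nat) (Btab_2295) (Btab_2296) (Nat.ble 2296 c)
noncomputable def Btab_s_2298_2300 (c : Nat) : Nat := @Bool.rec (fun _ => Nat) (Btab_2298) (Btab_2299) (Nat.ble 2299 c)
noncomputable def Btab_s_2297_2300 (c : Nat) : Nat := @Bool.rec (fun _ => Nat) (Btab_2297) (Btab_s_2298_2300 c) (Nat.ble 2298 c)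
noncomputable def Btab_s_2295_2300 (c : Nat) : Nat := @Bool.rec (fun _ => Nat) (Btab_s_2295_2297 c) (Btab_s_2297_2300 c) (Nat.ble 2297 c)
noncomputable def Btab_s_2291_2300 (c : Nat) : Nat := @Bool.rec (fun _ => Nat) (Btab_s_2291_2295 c) (Btab_s_2295_2300 c) (Nat.ble 2295 c)
noncomputable def Btab_s_2300_2302 (c : Nat) : Nat := @Bool.rec (fun _ => Nat) (Btab_2300) (Btab_2301) (Nat.ble 2301 c)
noncomputable def Btab_s_2303_2305 (c : Nat) : Nat := @Bool.rec (fun _ => Nat) (Btab_2303) (Btab_2304) (Nat.ble 2304 c)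
noncomputable def Btab_s_2302_2305 (c : Nat) : Nat := @Bool.rec (fun _ => Nat) (Btab_2302) (Btab_s_2303_2305 c) (Nat.ble 2303 c)
noncomputable def Btab_s_2300_2305 (c : Nat) : Nat := @Bool.rec (fun _ => Nat) (Btab_s_2300_2302 c) (Btab_s_2302_2305 c) (Nat.ble 2302 c)
noncomputable def Btab_s_2305_2307 (c : Nat) : Nat := @Bool.rec (fun _ => Nat) (Btab_2305) (Btab_2306) (Nat.ble 2306 c)
noncomputable def Btab_s_2308_2310 (c : Nat) : Nat := @Bool.rec (fun _ => Nat) (Btab_2308) (Btab_2309) (Nat.ble 2309 c)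
noncomputable def Btab_s_2307_2310 (c : Nat) : Nat := @Bool.rec (fun _ => Nat) (Btab_2307) (Btab_s_2308_2310 c) (Nat.ble 2308 c)
noncomputable def Btab_s_2305_2310 (c : Nat) : Nat := @Bool.rec (fun _ => Nat) (Btab_s_2305_2307 c) (Btab_s_2307_2310 c) (Nat.ble 2307 c)
noncomputable def Btab_s_2300_2310 (c : Nat) : Nat := @Bool.rec (fun _ => Nat) (Btab_s_2300_2305 c) (Btab_s_2305_2310 c) (Nat.ble 2305 c)
noncomputable def Btab_s_2291_2310 (c : Nat) : Nat := @Bool.rec (fun _ => Nat) (Btab_s_2291_2300 c) (Btab_s_2300_2310 c) (Nat.ble 2300 c)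
noncomputable def Btab_s_2272_2310 (c : Nat) : Nat := @Bool.rec (fun _ => Nat) (Btab_s_2272_2291 c) (Btab_s_2291_2310 c) (Nat.ble 2291 c)
noncomputable def Btab_s_2235_2310 (c : Nat) : Nat := @Bool.rec (fun _ => Nat) (Btab_s_2235_2272 c) (Btab_s_2272_2310 c) (Nat.ble 2272 c)
noncomputable def Btab_s_2310_2312 (c : Nat) : Nat := @Bool.rec (fun _ => Nat) (Btab_2310) (Btab_2311) (Nat.ble 2311 c)
noncomputable def Btab_s_2312_2314 (c : Nat) : Nat := @Bool.rec (fun _ => Nat) (Btab_2312) (Btab_2313) (Nat.ble 2313 c)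
noncomputable def Btab_s_2310_2314 (c : Nat) : Nat := @Bool.rec (fun _ => Nat) (Btab_s_2310_2312 c) (Btab_s_2312_2314 c) (Nat.ble 2312 c)
noncomputable def Btab_s_2314_2316 (c : Nat) : Nat := @Bool.rec (fun _ => Nat) (Btab_2314) (Btab_2315) (Nat.ble 2315 c)
noncomputable def Btab_s_2317_2319 (c : Nat) : Nat := @Bool.rec (fun _ => Nat) (Btab_2317) (Btab_2318) (Nat.ble 2318 c)
noncomputable def Btab_s_2316_2319 (c : Nat) : Nat := @Bool.rec (fun _ => Nat) (Btab_2316) (Btab_s_2317_2319 c) (Nat.ble 2317 c)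
noncomputable def Btab_s_2314_2319 (c : Nat) : Nat := @Bool.rec (fun _ => Nat) (Btab_s_2314_2316 c) (Btab_s_2316_2319 c) (Nat.ble 2316 c)
noncomputable def Btab_s_2310_2319 (c : Nat) : Nat := @Bool.rec (fun _ => Nat) (Btab_s_2310_2314 c) (Btab_s_2314_2319 c) (Nat.ble 2314 c)
noncomputable def Btab_s_2319_2321 (c : Nat) : Nat := @Bool.rec (fun _ => Nat) (Btab_2319) (Btab_2320) (Nat.ble 2320 c)
noncomputable def Btab_s_2321_2323 (c : Nat) : Nat := @Bool.rec (fun _ => Nat) (Btab_2321) (Btab_2322) (Nat.ble 2322 c)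
noncomputable def Btab_s_2319_2323 (c : Nat) : Nat := @Bool.rec (fun _ => Nat) (Btab_s_2319_2321 c) (Btab_s_2321_2323 c) (Nat.ble 2321 c)
noncomputable def Btab_s_2323_2325 (c : Nat) : Nat := @Bool.rec (fun _ => Nat) (Btab_2323) (Btab_2324) (Nat.ble 2324 c)
noncomputable def Btab_s_2326_2328 (c : Nat) : Nat := @Bool.rec (fun _ => Nat) (Btab_2326) (Btab_2327) (Nat.ble 2327 c)
noncomputable def Btab_s_2325_2328 (c : Nat) : Nat := @Bool.rec (fun _ => Nat) (Btab_2325) (Btab_s_2326_2328 c) (Nat.ble 2326 c)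
noncomputable def Btab_s_2323_2328 (c : Nat) : Nat := @Bool.rec (fun _ => Nat) (Btab_s_2323_2325 c) (Btab_s_2325_2328 c) (Nat.ble 2325 c)
noncomputable def Btab_s_2319_2328 (c : Nat) : Nat := @Bool.rec (fun _ => Nat) (Btab_s_2319_2323 c) (Btab_s_2323_2328 c) (Nat.ble 2323 c)
noncomputable def Btab_s_2310_2328 (c : Nat) : Nat := @Bool.rec (fun _ => Nat) (Btab_s_2310_2319 c) (Btab_s_2319_2328 c) (Nat.ble 2319 c)
noncomputable def Btab_s_2328_2330 (c : Nat) : Nat := @Bool.rec (fun _ => Nat) (Btab_2328) (Btab_2329) (Nat.ble 2329 c)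
noncomputable def Btab_s_2330_2332 (c : Nat) : Nat := @Bool.rec (fun _ => Nat) (Btab_2330) (Btab_2331) (Nat.ble 2331 c)
noncomputable def Btab_s_2328_2332 (c : Nat) : Nat := @Bool.rec (fun _ => Nat) (Btab_s_2328_2330 c) (Btab_s_2330_2332 c) (Nat.ble 2330 c)
noncomputable def Btab_s_2332_2334 (c : Nat) : Nat := @Bool.rec (fun _ => Nat) (Btab_2332) (Btab_2333) (Nat.ble 2333 c)
noncomputable def Btab_s_2335_2337 (c : Nat) : Nat := @Bool.rec (fun _ => Nat) (Btab_2335) (Btab_2336) (Nat.ble 2336 c)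
noncomputable def Btab_s_2334_2337 (c : Nat) : Nat := @Bool.rec (fun _ => Nat) (Btab_2334) (Btab_s_2335_2337 c) (Nat.ble 2335 c)
noncomputable def Btab_s_2332_2337 (c : Nat) : Nat := @Bool.rec (fun _ => Nat) (Btab_s_2332_2334 c) (Btab_s_2334_2337 c) (Nat.ble 2334 c)
noncomputable def Btab_s_2328_2337 (c : Nat) : Nat := @Bool.rec (fun _ => Nat) (Btab_s_2328_2332 c) (Btab_s_2332_2337 c) (Nat.ble 2332 c)
noncomputable def Btab_s_2337_2339 (c : Nat) : Nat := @Bool.rec (fun _ => Nat) (Btab_2337) (Btab_2338) (Nat.ble 2338 c)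
noncomputable def Btab_s_2340_2342 (c : Nat) : Nat := @Bool.rec (fun _ => Nat) (Btab_2340) (Btab_2341) (Nat.ble 2341 c)
noncomputable def Btab_s_2339_2342 (c : Nat) : Nat := @Bool.rec (fun _ => Nat) (Btab_2339) (Btab_s_2340_2342 c) (Nat.ble 2340 c)
noncomputable def Btab_s_2337_2342 (c : Nat) : Nat := @Bool.rec (fun _ => Nat) (Btab_s_2337_2339 c) (Btab_s_2339_2342 c) (Nat.ble 2339 c)
noncomputable def Btab_s_2342_2344 (c : Nat) : Nat := @Bool.rec (fun _ => Nat) (Btab_2342) (Btab_2343) (Nat.ble 2343 c)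
noncomputable def Btab_s_2345_2347 (c : Nat) : Nat := @Bool.rec (fun _ => Nat) (Btab_2345) (Btab_2346) (Nat.ble 2346 c)
noncomputable def Btab_s_2344_2347 (c : Nat) : Nat := @Bool.rec (fun _ => Nat) (Btab_2344) (Btab_s_2345_2347 c) (Nat.ble 2345 c)
noncomputable def Btab_s_2342_2347 (c : Nat) : Nat := @Bool.rec (fun _ => Nat) (Btab_s_2342_2344 c) (Btab_s_2344_2347 c) (Nat.ble 2344 c)
noncomputable def Btab_s_2337_2347 (c : Nat) : Nat := @Bool.rec (fun _ => Nat) (Btab_s_2337_2342 c) (Btab_s_2342_2347 c) (Nat.ble 2342 c)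
noncomputable def Btab_s_2328_2347 (c : Nat) : Nat := @Bool.rec (fun _ => Nat) (Btab_s_2328_2337 c) (Btab_s_2337_2347 c) (Nat.ble 2337 c)
noncomputable def Btab_s_2310_2347 (c : Nat) : Nat := @Bool.rec (fun _ => Nat) (Btab_s_2310_2328 c) (Btab_s_2328_2347 c) (Nat.ble 2328 c)
noncomputable def Btab_s_2347_2349 (c : Nat) : Nat := @Bool.rec (fun _ => Nat) (Btab_2347) (Btab_2348) (Nat.ble 2348 c)
noncomputable def Btab_s_2349_2351 (c : Nat) : Nat := @Bool.rec (fun _ => Nat) (Btab_2349) (Btab_2350) (Nat.ble 2350 c)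
noncomputable def Btab_s_2347_2351 (c : Nat) : Nat := @Bool.rec (fun _ => Nat) (Btab_s_2347_2349 c) (Btab_s_2349_2351 c) (Nat.ble 2349 c)
noncomputable def Btab_s_2351_2353 (c : Nat) : Nat := @Bool.rec (fun _ => Nat) (Btab_2351) (Btab_2352) (Nat.ble 2352 c)
noncomputable def Btab_s_2354_2356 (c : Nat) : Nat := @Bool.rec (fun _ => Nat) (Btab_2354) (Btab_2355) (Nat.ble 2355 c)
noncomputable def Btab_s_2353_2356 (c : Nat) : Nat := @Bool.rec (fun _ => Nat) (Btab_2353) (Btab_s_2354_2356 c) (Nat.ble 2354 c)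
noncomputable def Btab_s_2351_2356 (c : Nat) : Nat := @Bool.rec (fun _ => Nat) (Btab_s_2351_2353 c) (Btab_s_2353_2356 c) (Nat.ble 2353 c)
noncomputable def Btab_s_2347_2356 (c : Nat) : Nat := @Bool.rec (fun _ => Nat) (Btab_s_2347_2351 c) (Btab_s_2351_2356 c) (Nat.ble 2351 c)
noncomputable def Btab_s_2356_2358 (c : Nat) : Nat := @Bool.rec (fun _ => Nat) (Btab_2356) (Btab_2357) (Nat.ble 2357 c)
noncomputable def Btab_s_2359_2361 (c : Nat) : Nat := @Bool.rec (fun _ => Nat) (Btab_2359) (Btab_2360) (Nat.ble 2360 c)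
noncomputable def Btab_s_2358_2361 (c : Nat) : Nat := @Bool.rec (fun _ => Nat) (Btab_2358) (Btab_s_2359_2361 c) (Nat.ble 2359 c)
noncomputable def Btab_s_2356_2361 (c : Nat) : Nat := @Bool.rec (fun _ => Nat) (Btab_s_2356_2358 c) (Btab_s_2358_2361 c) (Nat.ble 2358 c)
noncomputable def Btab_s_2361_2363 (c : Nat) : Nat := @Bool.rec (fun _ => Nat) (Btab_2361) (Btab_2362) (Nat.ble 2362 c)
noncomputable def Btab_s_2364_2366 (c : Nat) : Nat := @Bool.rec (fun _ => Nat) (Btab_2364) (Btab_2365) (Nat.ble 2365 c)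
noncomputable def Btab_s_2363_2366 (c : Nat) : Nat := @Bool.rec (fun _ => Nat) (Btab_2363) (Btab_s_2364_2366 c) (Nat.ble 2364 c)
noncomputable def Btab_s_2361_2366 (c : Nat) : Nat := @Bool.rec (fun _ => Nat) (Btab_s_2361_2363 c) (Btab_s_2363_2366 c) (Nat.ble 2363 c)
noncomputable def Btab_s_2356_2366 (c : Nat) : Nat := @Bool.rec (fun _ => Nat) (Btab_s_2356_2361 c) (Btab_s_2361_2366 c) (Nat.ble 2361 c)
noncomputable def Btab_s_2347_2366 (c : Nat) : Nat := @Bool.rec (fun _ => Nat) (Btab_s_2347_2356 c) (Btab_s_2356_2366 c) (Nat.ble 2356 c)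
noncomputable def Btab_s_2366_2368 (c : Nat) : Nat := @Bool.rec (fun _ => Nat) (Btab_2366) (Btab_2367) (Nat.ble 2367 c)
noncomputable def Btab_s_2368_2370 (c : Nat) : Nat := @Bool.rec (fun _ => Nat) (Btab_2368) (Btab_2369) (Nat.ble 2369 c)
noncomputable def Btab_s_2366_2370 (c : Nat) : Nat := @Bool.rec (fun _ => Nat) (Btab_s_2366_2368 c) (Btab_s_2368_2370 c) (Nat.ble 2368 c)
noncomputable def Btab_s_2370_2372 (c : Nat) : Nat := @Bool.rec (fun _ => Nat) (Btab_2370) (Btab_2371) (Nat.ble 2371 c)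
noncomputable def Btab_s_2373_2375 (c : Nat) : Nat := @Bool.rec (fun _ => Nat) (Btab_2373) (Btab_2374) (Nat.ble 2374 c)
noncomputable def Btab_s_2372_2375 (c : Nat) : Nat := @Bool.rec (fun _ => Nat) (Btab_2372) (Btab_s_2373_2375 c) (Nat.ble 2373 c)
noncomputable def Btab_s_2370_2375 (c : Nat) : Nat := @Bool.rec (fun _ => Nat) (Btab_s_2370_2372 c) (Btab_s_2372_2375 c) (Nat.ble 2372 c)
noncomputable def Btab_s_2366_2375 (c : Nat) : Nat := @Bool.rec (fun _ => Nat) (Btab_s_2366_2370 c) (Btab_s_2370_2375 c) (Nat.ble 2370 c)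
noncomputable def Btab_s_2375_2377 (c : Nat) : Nat := @Bool.rec (fun _ => Nat) (Btab_2375) (Btab_2376) (Nat.ble 2376 c)
noncomputable def Btab_s_2378_2380 (c : Nat) : Nat := @Bool.rec (fun _ => Nat) (Btab_2378) (Btab_2379) (Nat.ble 2379 c)
noncomputable def Btab_s_2377_2380 (c : Nat) : Nat := @Bool.rec (fun _ => Nat) (Btab_2377) (Btab_s_2378_2380 c) (Nat.ble 2378 c)
noncomputable def Btab_s_2375_2380 (c : Nat) : Nat := @Bool.rec (fun _ => Nat) (Btab_s_2375_2377 c) (Btab_s_2377_2380 c) (Nat.ble 2377 c)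
noncomputable def Btab_s_2380_2382 (c : Nat) : Nat := @Bool.rec (fun _ => Nat) (Btab_2380) (Btab_2381) (Nat.ble 2381 c)
noncomputable def Btab_s_2383_2385 (c : Nat) : Nat := @Bool.rec (fun _ => Nat) (Btab_2383) (Btab_2384) (Nat.ble 2384 c)
noncomputable def Btab_s_2382_2385 (c : Nat) : Nat := @Bool.rec (fun _ => Nat) (Btab_2382) (Btab_s_2383_2385 c) (Nat.ble 2383 c)
noncomputable def Btab_s_2380_2385 (c : Nat) : Nat := @Bool.rec (fun _ => Nat) (Btab_s_2380_2382 c) (Btab_s_2382_2385 c) (Nat.ble 2382 c)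
noncomputable def Btab_s_2375_2385 (c : Nat) : Nat := @Bool.rec (fun _ => Nat) (Btab_s_2375_2380 c) (Btab_s_2380_2385 c) (Nat.ble 2380 c)
noncomputable def Btab_s_2366_2385 (c : Nat) : Nat := @Bool.rec (fun _ => Nat) (Btab_s_2366_2375 c) (Btab_s_2375_2385 c) (Nat.ble 2375 c)
noncomputable def Btab_s_2347_2385 (c : Nat) : Nat := @Bool.rec (fun _ => Nat) (Btab_s_2347_2366 c) (Btab_s_2366_2385 c) (Nat.ble 2366 c)
noncomputable def Btab_s_2310_2385 (c : Nat) : Nat := @Bool.rec (fun _ => Nat) (Btab_s_2310_2347 c) (Btab_s_2347_2385 c) (Nat.ble 2347 c)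
noncomputable def Btab_s_2235_2385 (c : Nat) : Nat := @Bool.rec (fun _ => Nat) (Btab_s_2235_2310 c) (Btab_s_2310_2385 c) (Nat.ble 2310 c)
noncomputable def Btab_s_2086_2385 (c : Nat) : Nat := @Bool.rec (fun _ => Nat) (Btab_s_2086_2235 c) (Btab_s_2235_2385 c) (Nat.ble 2235 c)
noncomputable def Btab_s_1788_2385 (c : Nat) : Nat := @Bool.rec (fun _ => Nat) (Btab_s_1788_2086 c) (Btab_s_2086_2385 c) (Nat.ble 2086 c)
noncomputable def Btab_s_1192_2385 (c : Nat) : Nat := @Bool.rec (fun _ => Nat) (Btab_s_1192_1788 c) (Btab_s_1788_2385 c) (Nat.ble 1788 c)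
noncomputable def Btab_s_0_2385 (c : Nat) : Nat := @Bool.rec (fun _ => Nat) (Btab_s_0_1192 c) (Btab_s_1192_2385 c) (Nat.ble 1192 c)
noncomputable def Btab (i : Nat) : Nat := rdw 45 35184372088831 (Btab_s_0_2385 (Nat.shiftRight i 11)) (Nat.land i 2047)
noncomputable def Ptab_s_1_3 (c : Nat) : Nat := @Bool.rec (fun _ => Nat) (Ptab_1) (Ptab_2) (Nat.ble 2 c)
noncomputable def Ptab_s_0_3 (c : Nat) : Nat := @Bool.rec (fun _ => Nat) (Ptab_0) (Ptab_s_1_3 c) (Nat.ble 1 c)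
noncomputable def Ptab_s_3_5 (c : Nat) : Nat := @Bool.rec (fun _ => Nat) (Ptab_3) (Ptab_4) (Nat.ble 4 c)
noncomputable def Ptab_s_5_7 (c : Nat) : Nat := @Bool.rec (fun _ => Nat) (Ptab_5) (Ptab_6) (Nat.ble 6 c)
noncomputable def Ptab_s_3_7 (c : Nat) : Nat := @Bool.rec (fun _ => Nat) (Ptab_s_3_5 c) (Ptab_s_5_7 c) (Nat.ble 5 c)
noncomputable def Ptab_s_0_7 (c : Nat) : Nat := @Bool.rec (fun _ => Nat) (Ptab_s_0_3 c) (Ptab_s_3_7 c) (Nat.ble 3 c)
noncomputable def Ptab_s_7_9 (c : Nat) : Nat := @Bool.rec (fun _ => Nat) (Ptab_7) (Ptab_8) (Nat.ble 8 c)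
noncomputable def Ptab_s_9_11 (c : Nat) : Nat := @Bool.rec (fun _ => Nat) (Ptab_9) (Ptab_10) (Nat.ble 10 c)
noncomputable def Ptab_s_7_11 (c : Nat) : Nat := @Bool.rec (fun _ => Nat) (Ptab_s_7_9 c) (Ptab_s_9_11 c) (Nat.ble 9 c)
noncomputable def Ptab_s_11_13 (c : Nat) : Nat := @Bool.rec (fun _ => Nat) (Ptab_11) (Ptab_12) (Nat.ble 12 c)
noncomputable def Ptab_s_13_15 (c : Nat) : Nat := @Bool.rec (fun _ => Nat) (Ptab_13) (Ptab_14) (Nat.ble 14 c)
noncomputable def Ptab_s_11_15 (c : Nat) : Nat := @Bool.rec (fun _ => Nat) (Ptab_s_11_13 c) (Ptab_s_13_15 c) (Nat.ble 13 c)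
noncomputable def Ptab_s_7_15 (c : Nat) : Nat := @Bool.rec (fun _ => Nat) (Ptab_s_7_11 c) (Ptab_s_11_15 c) (Nat.ble 11 c)
noncomputable def Ptab_s_0_15 (c : Nat) : Nat := @Bool.rec (fun _ => Nat) (Ptab_s_0_7 c) (Ptab_s_7_15 c) (Nat.ble 7 c)
noncomputable def Ptab_s_16_18 (c : Nat) : Nat := @Bool.rec (fun _ => Nat) (Ptab_16) (Ptab_17) (Nat.ble 17 c)
noncomputable def Ptab_s_15_18 (c : Nat) : Nat := @Bool.rec (fun _ => Nat) (Ptab_15) (Ptab_s_16_18 c) (Nat.ble 16 c)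
noncomputable def Ptab_s_18_20 (c : Nat) : Nat := @Bool.rec (fun _ => Nat) (Ptab_18) (Ptab_19) (Nat.ble 19 c)
noncomputable def Ptab_s_20_22 (c : Nat) : Nat := @Bool.rec (fun _ => Nat) (Ptab_20) (Ptab_21) (Nat.ble 21 c)
noncomputable def Ptab_s_18_22 (c : Nat) : Nat := @Bool.rec (fun _ => Nat) (Ptab_s_18_20 c) (Ptab_s_20_22 c) (Nat.ble 20 c)
noncomputable def Ptab_s_15_22 (c : Nat) : Nat := @Bool.rec (fun _ => Nat) (Ptab_s_15_18 c) (Ptab_s_18_22 c) (Nat.ble 18 c)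
noncomputable def Ptab_s_22_24 (c : Nat) : Nat := @Bool.rec (fun _ => Nat) (Ptab_22) (Ptab_23) (Nat.ble 23 c)
noncomputable def Ptab_s_24_26 (c : Nat) : Nat := @Bool.rec (fun _ => Nat) (Ptab_24) (Ptab_25) (Nat.ble 25 c)
noncomputable def Ptab_s_22_26 (c : Nat) : Nat := @Bool.rec (fun _ => Nat) (Ptab_s_22_24 c) (Ptab_s_24_26 c) (Nat.ble 24 c)
noncomputable def Ptab_s_26_28 (c : Nat) : Nat := @Bool.rec (fun _ => Nat) (Ptab_26) (Ptab_27) (Nat.ble 27 c)
noncomputable def Ptab_s_28_30 (c : Nat) : Nat := @Bool.rec (fun _ => Nat) (Ptab_28) (Ptab_29) (Nat.ble 29 c)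
noncomputable def Ptab_s_26_30 (c : Nat) : Nat := @Bool.rec (fun _ => Nat) (Ptab_s_26_28 c) (Ptab_s_28_30 c) (Nat.ble 28 c)
noncomputable def Ptab_s_22_30 (c : Nat) : Nat := @Bool.rec (fun _ => Nat) (Ptab_s_22_26 c) (Ptab_s_26_30 c) (Nat.ble 26 c)
noncomputable def Ptab_s_15_30 (c : Nat) : Nat := @Bool.rec (fun _ => Nat) (Ptab_s_15_22 c) (Ptab_s_22_30 c) (Nat.ble 22 c)
noncomputable def Ptab_s_0_30 (c : Nat) : Nat := @Bool.rec (fun _ => Nat) (Ptab_s_0_15 c) (Ptab_s_15_30 c) (Nat.ble 15 c)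
noncomputable def Ptab_s_31_33 (c : Nat) : Nat := @Bool.rec (fun _ => Nat) (Ptab_31) (Ptab_32) (Nat.ble 32 c)
noncomputable def Ptab_s_30_33 (c : Nat) : Nat := @Bool.rec (fun _ => Nat) (Ptab_30) (Ptab_s_31_33 c) (Nat.ble 31 c)
noncomputable def Ptab_s_33_35 (c : Nat) : Nat := @Bool.rec (fun _ => Nat) (Ptab_33) (Ptab_34) (Nat.ble 34 c)
noncomputable def Ptab_s_35_37 (c : Nat) : Nat := @Bool.rec (fun _ => Nat) (Ptab_35) (Ptab_36) (Nat.ble 36 c)
noncomputable def Ptab_s_33_37 (c : Nat) : Nat := @Bool.rec (fun _ => Nat) (Ptab_s_33_35 c) (Ptab_s_35_37 c) (Nat.ble 35 c)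
noncomputable def Ptab_s_30_37 (c : Nat) : Nat := @Bool.rec (fun _ => Nat) (Ptab_s_30_33 c) (Ptab_s_33_37 c) (Nat.ble 33 c)
noncomputable def Ptab_s_37_39 (c : Nat) : Nat := @Bool.rec (fun _ => Nat) (Ptab_37) (Ptab_38) (Nat.ble 38 c)
noncomputable def Ptab_s_39_41 (c : Nat) : Nat := @Bool.rec (fun _ => Nat) (Ptab_39) (Ptab_40) (Nat.ble 40 c)
noncomputable def Ptab_s_37_41 (c : Nat) : Nat := @Bool.rec (fun _ => Nat) (Ptab_s_37_39 c) (Ptab_s_39_41 c) (Nat.ble 39 c)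
noncomputable def Ptab_s_41_43 (c : Nat) : Nat := @Bool.rec (fun _ => Nat) (Ptab_41) (Ptab_42) (Nat.ble 42 c)
noncomputable def Ptab_s_43_45 (c : Nat) : Nat := @Bool.rec (fun _ => Nat) (Ptab_43) (Ptab_44) (Nat.ble 44 c)
noncomputable def Ptab_s_41_45 (c : Nat) : Nat := @Bool.rec (fun _ => Nat) (Ptab_s_41_43 c) (Ptab_s_43_45 c) (Nat.ble 43 c)
noncomputable def Ptab_s_37_45 (c : Nat) : Nat := @Bool.rec (fun _ => Nat) (Ptab_s_37_41 c) (Ptab_s_41_45 c) (Nat.ble 41 c)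
noncomputable def Ptab_s_30_45 (c : Nat) : Nat := @Bool.rec (fun _ => Nat) (Ptab_s_30_37 c) (Ptab_s_37_45 c) (Nat.ble 37 c)
noncomputable def Ptab_s_45_47 (c : Nat) : Nat := @Bool.rec (fun _ => Nat) (Ptab_45) (Ptab_46) (Nat.ble 46 c)
noncomputable def Ptab_s_47_49 (c : Nat) : Nat := @Bool.rec (fun _ => Nat) (Ptab_47) (Ptab_48) (Nat.ble 48 c)
noncomputable def Ptab_s_45_49 (c : Nat) : Nat := @Bool.rec (fun _ => Nat) (Ptab_s_45_47 c) (Ptab_s_47_49 c) (Nat.ble 47 c)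
noncomputable def Ptab_s_49_51 (c : Nat) : Nat := @Bool.rec (fun _ => Nat) (Ptab_49) (Ptab_50) (Nat.ble 50 c)
noncomputable def Ptab_s_51_53 (c : Nat) : Nat := @Bool.rec (fun _ => Nat) (Ptab_51) (Ptab_52) (Nat.ble 52 c)
noncomputable def Ptab_s_49_53 (c : Nat) : Nat := @Bool.rec (fun _ => Nat) (Ptab_s_49_51 c) (Ptab_s_51_53 c) (Nat.ble 51 c)
noncomputable def Ptab_s_45_53 (c : Nat) : Nat := @Bool.rec (fun _ => Nat) (Ptab_s_45_49 c) (Ptab_s_49_53 c) (Nat.ble 49 c)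
noncomputable def Ptab_s_53_55 (c : Nat) : Nat := @Bool.rec (fun _ => Nat) (Ptab_53) (Ptab_54) (Nat.ble 54 c)
noncomputable def Ptab_s_55_57 (c : Nat) : Nat := @Bool.rec (fun _ => Nat) (Ptab_55) (Ptab_56) (Nat.ble 56 c)
noncomputable def Ptab_s_53_57 (c : Nat) : Nat := @Bool.rec (fun _ => Nat) (Ptab_s_53_55 c) (Ptab_s_55_57 c) (Nat.ble 55 c)
noncomputable def Ptab_s_57_59 (c : Nat) : Nat := @Bool.rec (fun _ => Nat) (Ptab_57) (Ptab_58) (Nat.ble 58 c)
noncomputable def Ptab_s_59_61 (c : Nat) : Nat := @Bool.rec (fun _ => Nat) (Ptab_59) (Ptab_60) (Nat.ble 60 c)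
noncomputable def Ptab_s_57_61 (c : Nat) : Nat := @Bool.rec (fun _ => Nat) (Ptab_s_57_59 c) (Ptab_s_59_61 c) (Nat.ble 59 c)
noncomputable def Ptab_s_53_61 (c : Nat) : Nat := @Bool.rec (fun _ => Nat) (Ptab_s_53_57 c) (Ptab_s_57_61 c) (Nat.ble 57 c)
noncomputable def Ptab_s_45_61 (c : Nat) : Nat := @Bool.rec (fun _ => Nat) (Ptab_s_45_53 c) (Ptab_s_53_61 c) (Nat.ble 53 c)
noncomputable def Ptab_s_30_61 (c : Nat) : Nat := @Bool.rec (fun _ => Nat) (Ptab_s_30_45 c) (Ptab_s_45_61 c) (Nat.ble 45 c)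
noncomputable def Ptab_s_0_61 (c : Nat) : Nat := @Bool.rec (fun _ => Nat) (Ptab_s_0_30 c) (Ptab_s_30_61 c) (Nat.ble 30 c)
noncomputable def Ptab_s_62_64 (c : Nat) : Nat := @Bool.rec (fun _ => Nat) (Ptab_62) (Ptab_63) (Nat.ble 63 c)
noncomputable def Ptab_s_61_64 (c : Nat) : Nat := @Bool.rec (fun _ => Nat) (Ptab_61) (Ptab_s_62_64 c) (Nat.ble 62 c)
noncomputable def Ptab_s_64_66 (c : Nat) : Nat := @Bool.rec (fun _ => Nat) (Ptab_64) (Ptab_65) (Nat.ble 65 c)
noncomputable def Ptab_s_66_68 (c : Nat) : Nat := @Bool.rec (fun _ => Nat) (Ptab_66) (Ptab_67) (Nat.ble 67 c)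
noncomputable def Ptab_s_64_68 (c : Nat) : Nat := @Bool.rec (fun _ => Nat) (Ptab_s_64_66 c) (Ptab_s_66_68 c) (Nat.ble 66 c)
noncomputable def Ptab_s_61_68 (c : Nat) : Nat := @Bool.rec (fun _ => Nat) (Ptab_s_61_64 c) (Ptab_s_64_68 c) (Nat.ble 64 c)
noncomputable def Ptab_s_68_70 (c : Nat) : Nat := @Bool.rec (fun _ => Nat) (Ptab_68) (Ptab_69) (Nat.ble 69 c)
noncomputable def Ptab_s_70_72 (c : Nat) : Nat := @Bool.rec (fun _ => Nat) (Ptab_70) (Ptab_71) (Nat.ble 71 c)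
noncomputable def Ptab_s_68_72 (c : Nat) : Nat := @Bool.rec (fun _ => Nat) (Ptab_s_68_70 c) (Ptab_s_70_72 c) (Nat.ble 70 c)
noncomputable def Ptab_s_72_74 (c : Nat) : Nat := @Bool.rec (fun _ => Nat) (Ptab_72) (Ptab_73) (Nat.ble 73 c)
noncomputable def Ptab_s_74_76 (c : Nat) : Nat := @Bool.rec (fun _ => Nat) (Ptab_74) (Ptab_75) (Nat.ble 75 c)
noncomputable def Ptab_s_72_76 (c : Nat) : Nat := @Bool.rec (fun _ => Nat) (Ptab_s_72_74 c) (Ptab_s_74_76 c) (Nat.ble 74 c)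
noncomputable def Ptab_s_68_76 (c : Nat) : Nat := @Bool.rec (fun _ => Nat) (Ptab_s_68_72 c) (Ptab_s_72_76 c) (Nat.ble 72 c)
noncomputable def Ptab_s_61_76 (c : Nat) : Nat := @Bool.rec (fun _ => Nat) (Ptab_s_61_68 c) (Ptab_s_68_76 c) (Nat.ble 68 c)
noncomputable def Ptab_s_77_79 (c : Nat) : Nat := @Bool.rec (fun _ => Nat) (Ptab_77) (Ptab_78) (Nat.ble 78 c)
noncomputable def Ptab_s_76_79 (c : Nat) : Nat := @Bool.rec (fun _ => Nat) (Ptab_76) (Ptab_s_77_79 c) (Nat.ble 77 c)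
noncomputable def Ptab_s_79_81 (c : Nat) : Nat := @Bool.rec (fun _ => Nat) (Ptab_79) (Ptab_80) (Nat.ble 80 c)
noncomputable def Ptab_s_81_83 (c : Nat) : Nat := @Bool.rec (fun _ => Nat) (Ptab_81) (Ptab_82) (Nat.ble 82 c)
noncomputable def Ptab_s_79_83 (c : Nat) : Nat := @Bool.rec (fun _ => Nat) (Ptab_s_79_81 c) (Ptab_s_81_83 c) (Nat.ble 81 c)
noncomputable def Ptab_s_76_83 (c : Nat) : Nat := @Bool.rec (fun _ => Nat) (Ptab_s_76_79 c) (Ptab_s_79_83 c) (Nat.ble 79 c)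
noncomputable def Ptab_s_83_85 (c : Nat) : Nat := @Bool.rec (fun _ => Nat) (Ptab_83) (Ptab_84) (Nat.ble 84 c)
noncomputable def Ptab_s_85_87 (c : Nat) : Nat := @Bool.rec (fun _ => Nat) (Ptab_85) (Ptab_86) (Nat.ble 86 c)
noncomputable def Ptab_s_83_87 (c : Nat) : Nat := @Bool.rec (fun _ => Nat) (Ptab_s_83_85 c) (Ptab_s_85_87 c) (Nat.ble 85 c)
noncomputable def Ptab_s_87_89 (c : Nat) : Nat := @Bool.rec (fun _ => Nat) (Ptab_87) (Ptab_88) (Nat.ble 88 c)
noncomputable def Ptab_s_89_91 (c : Nat) : Nat := @Bool.rec (fun _ => Nat) (Ptab_89) (Ptab_90) (Nat.ble 90 c)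
noncomputable def Ptab_s_87_91 (c : Nat) : Nat := @Bool.rec (fun _ => Nat) (Ptab_s_87_89 c) (Ptab_s_89_91 c) (Nat.ble 89 c)
noncomputable def Ptab_s_83_91 (c : Nat) : Nat := @Bool.rec (fun _ => Nat) (Ptab_s_83_87 c) (Ptab_s_87_91 c) (Nat.ble 87 c)
noncomputable def Ptab_s_76_91 (c : Nat) : Nat := @Bool.rec (fun _ => Nat) (Ptab_s_76_83 c) (Ptab_s_83_91 c) (Nat.ble 83 c)
noncomputable def Ptab_s_61_91 (c : Nat) : Nat := @Bool.rec (fun _ => Nat) (Ptab_s_61_76 c) (Ptab_s_76_91 c) (Nat.ble 76 c)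
noncomputable def Ptab_s_92_94 (c : Nat) : Nat := @Bool.rec (fun _ => Nat) (Ptab_92) (Ptab_93) (Nat.ble 93 c)
noncomputable def Ptab_s_91_94 (c : Nat) : Nat := @Bool.rec (fun _ => Nat) (Ptab_91) (Ptab_s_92_94 c) (Nat.ble 92 c)
noncomputable def Ptab_s_94_96 (c : Nat) : Nat := @Bool.rec (fun _ => Nat) (Ptab_94) (Ptab_95) (Nat.ble 95 c)
noncomputable def Ptab_s_96_98 (c : Nat) : Nat := @Bool.rec (fun _ => Nat) (Ptab_96) (Ptab_97) (Nat.ble 97 c)
noncomputable def Ptab_s_94_98 (c : Nat) : Nat := @Bool.rec (fun _ => Nat) (Ptab_s_94_96 c) (Ptab_s_96_98 c) (Nat.ble 96 c)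
noncomputable def Ptab_s_91_98 (c : Nat) : Nat := @Bool.rec (fun _ => Nat) (Ptab_s_91_94 c) (Ptab_s_94_98 c) (Nat.ble 94 c)
noncomputable def Ptab_s_98_100 (c : Nat) : Nat := @Bool.rec (fun _ => Nat) (Ptab_98) (Ptab_99) (Nat.ble 99 c)
noncomputable def Ptab_s_100_102 (c : Nat) : Nat := @Bool.rec (fun _ => Nat) (Ptab_100) (Ptab_101) (Nat.ble 101 c)
noncomputable def Ptab_s_98_102 (c : Nat) : Nat := @Bool.rec (fun _ => Nat) (Ptab_s_98_100 c) (Ptab_s_100_102 c) (Nat.ble 100 c)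
noncomputable def Ptab_s_102_104 (c : Nat) : Nat := @Bool.rec (fun _ => Nat) (Ptab_102) (Ptab_103) (Nat.ble 103 c)
noncomputable def Ptab_s_104_106 (c : Nat) : Nat := @Bool.rec (fun _ => Nat) (Ptab_104) (Ptab_105) (Nat.ble 105 c)
noncomputable def Ptab_s_102_106 (c : Nat) : Nat := @Bool.rec (fun _ => Nat) (Ptab_s_102_104 c) (Ptab_s_104_106 c) (Nat.ble 104 c)
noncomputable def Ptab_s_98_106 (c : Nat) : Nat := @Bool.rec (fun _ => Nat) (Ptab_s_98_102 c) (Ptab_s_102_106 c) (Nat.ble 102 c)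
noncomputable def Ptab_s_91_106 (c : Nat) : Nat := @Bool.rec (fun _ => Nat) (Ptab_s_91_98 c) (Ptab_s_98_106 c) (Nat.ble 98 c)
noncomputable def Ptab_s_106_108 (c : Nat) : Nat := @Bool.rec (fun _ => Nat) (Ptab_106) (Ptab_107) (Nat.ble 107 c)
noncomputable def Ptab_s_108_110 (c : Nat) : Nat := @Bool.rec (fun _ => Nat) (Ptab_108) (Ptab_109) (Nat.ble 109 c)
noncomputable def Ptab_s_106_110 (c : Nat) : Nat := @Bool.rec (fun _ => Nat) (Ptab_s_106_108 c) (Ptab_s_108_110 c) (Nat.ble 108 c)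
noncomputable def Ptab_s_110_112 (c : Nat) : Nat := @Bool.rec (fun _ => Nat) (Ptab_110) (Ptab_111) (Nat.ble 111 c)
noncomputable def Ptab_s_112_114 (c : Nat) : Nat := @Bool.rec (fun _ => Nat) (Ptab_112) (Ptab_113) (Nat.ble 113 c)
noncomputable def Ptab_s_110_114 (c : Nat) : Nat := @Bool.rec (fun _ => Nat) (Ptab_s_110_112 c) (Ptab_s_112_114 c) (Nat.ble 112 c)
noncomputable def Ptab_s_106_114 (c : Nat) : Nat := @Bool.rec (fun _ => Nat) (Ptab_s_106_110 c) (Ptab_s_110_114 c) (Nat.ble 110 c)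
noncomputable def Ptab_s_114_116 (c : Nat) : Nat := @Bool.rec (fun _ => Nat) (Ptab_114) (Ptab_115) (Nat.ble 115 c)
noncomputable def Ptab_s_116_118 (c : Nat) : Nat := @Bool.rec (fun _ => Nat) (Ptab_116) (Ptab_117) (Nat.ble 117 c)
noncomputable def Ptab_s_114_118 (c : Nat) : Nat := @Bool.rec (fun _ => Nat) (Ptab_s_114_116 c) (Ptab_s_116_118 c) (Nat.ble 116 c)
noncomputable def Ptab_s_118_120 (c : Nat) : Nat := @Bool.rec (fun _ => Nat) (Ptab_118) (Ptab_119) (Nat.ble 119 c)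
noncomputable def Ptab_s_120_122 (c : Nat) : Nat := @Bool.rec (fun _ => Nat) (Ptab_120) (Ptab_121) (Nat.ble 121 c)
noncomputable def Ptab_s_118_122 (c : Nat) : Nat := @Bool.rec (fun _ => Nat) (Ptab_s_118_120 c) (Ptab_s_120_122 c) (Nat.ble 120 c)
noncomputable def Ptab_s_114_122 (c : Nat) : Nat := @Bool.rec (fun _ => Nat) (Ptab_s_114_118 c) (Ptab_s_118_122 c) (Nat.ble 118 c)
noncomputable def Ptab_s_106_122 (c : Nat) : Nat := @Bool.rec (fun _ => Nat) (Ptab_s_106_114 c) (Ptab_s_114_122 c) (Nat.ble 114 c)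
noncomputable def Ptab_s_91_122 (c : Nat) : Nat := @Bool.rec (fun _ => Nat) (Ptab_s_91_106 c) (Ptab_s_106_122 c) (Nat.ble 106 c)
noncomputable def Ptab_s_61_122 (c : Nat) : Nat := @Bool.rec (fun _ => Nat) (Ptab_s_61_91 c) (Ptab_s_91_122 c) (Nat.ble 91 c)
noncomputable def Ptab_s_0_122 (c : Nat) : Nat := @Bool.rec (fun _ => Nat) (Ptab_s_0_61 c) (Ptab_s_61_122 c) (Nat.ble 61 c)
noncomputable def Ptab_s_123_125 (c : Nat) : Nat := @Bool.rec (fun _ => Nat) (Ptab_123) (Ptab_124) (Nat.ble 124 c)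
noncomputable def Ptab_s_122_125 (c : Nat) : Nat := @Bool.rec (fun _ => Nat) (Ptab_122) (Ptab_s_123_125 c) (Nat.ble 123 c)
noncomputable def Ptab_s_125_127 (c : Nat) : Nat := @Bool.rec (fun _ => Nat) (Ptab_125) (Ptab_126) (Nat.ble 126 c)
noncomputable def Ptab_s_127_129 (c : Nat) : Nat := @Bool.rec (fun _ => Nat) (Ptab_127) (Ptab_128) (Nat.ble 128 c)
noncomputable def Ptab_s_125_129 (c : Nat) : Nat := @Bool.rec (fun _ => Nat) (Ptab_s_125_127 c) (Ptab_s_127_129 c) (Nat.ble 127 c)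
noncomputable def Ptab_s_122_129 (c : Nat) : Nat := @Bool.rec (fun _ => Nat) (Ptab_s_122_125 c) (Ptab_s_125_129 c) (Nat.ble 125 c)
noncomputable def Ptab_s_129_131 (c : Nat) : Nat := @Bool.rec (fun _ => Nat) (Ptab_129) (Ptab_130) (Nat.ble 130 c)
noncomputable def Ptab_s_131_133 (c : Nat) : Nat := @Bool.rec (fun _ => Nat) (Ptab_131) (Ptab_132) (Nat.ble 132 c)
noncomputable def Ptab_s_129_133 (c : Nat) : Nat := @Bool.rec (fun _ => Nat) (Ptab_s_129_131 c) (Ptab_s_131_133 c) (Nat.ble 131 c)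
noncomputable def Ptab_s_133_135 (c : Nat) : Nat := @Bool.rec (fun _ => Nat) (Ptab_133) (Ptab_134) (Nat.ble 134 c)
noncomputable def Ptab_s_135_137 (c : Nat) : Nat := @Bool.rec (fun _ => Nat) (Ptab_135) (Ptab_136) (Nat.ble 136 c)
noncomputable def Ptab_s_133_137 (c : Nat) : Nat := @Bool.rec (fun _ => Nat) (Ptab_s_133_135 c) (Ptab_s_135_137 c) (Nat.ble 135 c)
noncomputable def Ptab_s_129_137 (c : Nat) : Nat := @Bool.rec (fun _ => Nat) (Ptab_s_129_133 c) (Ptab_s_133_137 c) (Nat.ble 133 c)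
noncomputable def Ptab_s_122_137 (c : Nat) : Nat := @Bool.rec (fun _ => Nat) (Ptab_s_122_129 c) (Ptab_s_129_137 c) (Nat.ble 129 c)
noncomputable def Ptab_s_138_140 (c : Nat) : Nat := @Bool.rec (fun _ => Nat) (Ptab_138) (Ptab_139) (Nat.ble 139 c)
noncomputable def Ptab_s_137_140 (c : Nat) : Nat := @Bool.rec (fun _ => Nat) (Ptab_137) (Ptab_s_138_140 c) (Nat.ble 138 c)
noncomputable def Ptab_s_140_142 (c : Nat) : Nat := @Bool.rec (fun _ => Nat) (Ptab_140) (Ptab_141) (Nat.ble 141 c)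
noncomputable def Ptab_s_142_144 (c : Nat) : Nat := @Bool.rec (fun _ => Nat) (Ptab_142) (Ptab_143) (Nat.ble 143 c)
noncomputable def Ptab_s_140_144 (c : Nat) : Nat := @Bool.rec (fun _ => Nat) (Ptab_s_140_142 c) (Ptab_s_142_144 c) (Nat.ble 142 c)
noncomputable def Ptab_s_137_144 (c : Nat) : Nat := @Bool.rec (fun _ => Nat) (Ptab_s_137_140 c) (Ptab_s_140_144 c) (Nat.ble 140 c)
noncomputable def Ptab_s_144_146 (c : Nat) : Nat := @Bool.rec (fun _ => Nat) (Ptab_144) (Ptab_145) (Nat.ble 145 c)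
noncomputable def Ptab_s_146_148 (c : Nat) : Nat := @Bool.rec (fun _ => Nat) (Ptab_146) (Ptab_147) (Nat.ble 147 c)
noncomputable def Ptab_s_144_148 (c : Nat) : Nat := @Bool.rec (fun _ => Nat) (Ptab_s_144_146 c) (Ptab_s_146_148 c) (Nat.ble 146 c)
noncomputable def Ptab_s_148_150 (c : Nat) : Nat := @Bool.rec (fun _ => Nat) (Ptab_148) (Ptab_149) (Nat.ble 149 c)
noncomputable def Ptab_s_150_152 (c : Nat) : Nat := @Bool.rec (fun _ => Nat) (Ptab_150) (Ptab_151) (Nat.ble 151 c)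
noncomputable def Ptab_s_148_152 (c : Nat) : Nat := @Bool.rec (fun _ => Nat) (Ptab_s_148_150 c) (Ptab_s_150_152 c) (Nat.ble 150 c)
noncomputable def Ptab_s_144_152 (c : Nat) : Nat := @Bool.rec (fun _ => Nat) (Ptab_s_144_148 c) (Ptab_s_148_152 c) (Nat.ble 148 c)
noncomputable def Ptab_s_137_152 (c : Nat) : Nat := @Bool.rec (fun _ => Nat) (Ptab_s_137_144 c) (Ptab_s_144_152 c) (Nat.ble 144 c)
noncomputable def Ptab_s_122_152 (c : Nat) : Nat := @Bool.rec (fun _ => Nat) (Ptab_s_122_137 c) (Ptab_s_137_152 c) (Nat.ble 137 c)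
noncomputable def Ptab_s_153_155 (c : Nat) : Nat := @Bool.rec (fun _ => Nat) (Ptab_153) (Ptab_154) (Nat.ble 154 c)
noncomputable def Ptab_s_152_155 (c : Nat) : Nat := @Bool.rec (fun _ => Nat) (Ptab_152) (Ptab_s_153_155 c) (Nat.ble 153 c)
noncomputable def Ptab_s_155_157 (c : Nat) : Nat := @Bool.rec (fun _ => Nat) (Ptab_155) (Ptab_156) (Nat.ble 156 c)
noncomputable def Ptab_s_157_159 (c : Nat) : Nat := @Bool.rec (fun _ => Nat) (Ptab_157) (Ptab_158) (Nat.ble 158 c)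
noncomputable def Ptab_s_155_159 (c : Nat) : Nat := @Bool.rec (fun _ => Nat) (Ptab_s_155_157 c) (Ptab_s_157_159 c) (Nat.ble 157 c)
noncomputable def Ptab_s_152_159 (c : Nat) : Nat := @Bool.rec (fun _ => Nat) (Ptab_s_152_155 c) (Ptab_s_155_159 c) (Nat.ble 155 c)
noncomputable def Ptab_s_159_161 (c : Nat) : Nat := @Bool.rec (fun _ => Nat) (Ptab_159) (Ptab_160) (Nat.ble 160 c)
noncomputable def Ptab_s_161_163 (c : Nat) : Nat := @Bool.rec (fun _ => Nat) (Ptab_161) (Ptab_162) (Nat.ble 162 c)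
noncomputable def Ptab_s_159_163 (c : Nat) : Nat := @Bool.rec (fun _ => Nat) (Ptab_s_159_161 c) (Ptab_s_161_163 c) (Nat.ble 161 c)
noncomputable def Ptab_s_163_165 (c : Nat) : Nat := @Bool.rec (fun _ => Nat) (Ptab_163) (Ptab_164) (Nat.ble 164 c)
noncomputable def Ptab_s_165_167 (c : Nat) : Nat := @Bool.rec (fun _ => Nat) (Ptab_165) (Ptab_166) (Nat.ble 166 c)
noncomputable def Ptab_s_163_167 (c : Nat) : Nat := @Bool.rec (fun _ => Nat) (Ptab_s_163_165 c) (Ptab_s_165_167 c) (Nat.ble 165 c)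
noncomputable def Ptab_s_159_167 (c : Nat) : Nat := @Bool.rec (fun _ => Nat) (Ptab_s_159_163 c) (Ptab_s_163_167 c) (Nat.ble 163 c)
noncomputable def Ptab_s_152_167 (c : Nat) : Nat := @Bool.rec (fun _ => Nat) (Ptab_s_152_159 c) (Ptab_s_159_167 c) (Nat.ble 159 c)
noncomputable def Ptab_s_167_169 (c : Nat) : Nat := @Bool.rec (fun _ => Nat) (Ptab_167) (Ptab_168) (Nat.ble 168 c)
noncomputable def Ptab_s_169_171 (c : Nat) : Nat := @Bool.rec (fun _ => Nat) (Ptab_169) (Ptab_170) (Nat.ble 170 c)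
noncomputable def Ptab_s_167_171 (c : Nat) : Nat := @Bool.rec (fun _ => Nat) (Ptab_s_167_169 c) (Ptab_s_169_171 c) (Nat.ble 169 c)
noncomputable def Ptab_s_171_173 (c : Nat) : Nat := @Bool.rec (fun _ => Nat) (Ptab_171) (Ptab_172) (Nat.ble 172 c)
noncomputable def Ptab_s_173_175 (c : Nat) : Nat := @Bool.rec (fun _ => Nat) (Ptab_173) (Ptab_174) (Nat.ble 174 c)
noncomputable def Ptab_s_171_175 (c : Nat) : Nat := @Bool.rec (fun _ => Nat) (Ptab_s_171_173 c) (Ptab_s_173_175 c) (Nat.ble 173 c)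
noncomputable def Ptab_s_167_175 (c : Nat) : Nat := @Bool.rec (fun _ => Nat) (Ptab_s_167_171 c) (Ptab_s_171_175 c) (Nat.ble 171 c)
noncomputable def Ptab_s_175_177 (c : Nat) : Nat := @Bool.rec (fun _ => Nat) (Ptab_175) (Ptab_176) (Nat.ble 176 c)
noncomputable def Ptab_s_177_179 (c : Nat) : Nat := @Bool.rec (fun _ => Nat) (Ptab_177) (Ptab_178) (Nat.ble 178 c)
noncomputable def Ptab_s_175_179 (c : Nat) : Nat := @Bool.rec (fun _ => Nat) (Ptab_s_175_177 c) (Ptab_s_177_179 c) (Nat.ble 177 c)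
noncomputable def Ptab_s_179_181 (c : Nat) : Nat := @Bool.rec (fun _ => Nat) (Ptab_179) (Ptab_180) (Nat.ble 180 c)
noncomputable def Ptab_s_181_183 (c : Nat) : Nat := @Bool.rec (fun _ => Nat) (Ptab_181) (Ptab_182) (Nat.ble 182 c)
noncomputable def Ptab_s_179_183 (c : Nat) : Nat := @Bool.rec (fun _ => Nat) (Ptab_s_179_181 c) (Ptab_s_181_183 c) (Nat.ble 181 c)
noncomputable def Ptab_s_175_183 (c : Nat) : Nat := @Bool.rec (fun _ => Nat) (Ptab_s_175_179 c) (Ptab_s_179_183 c) (Nat.ble 179 c)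
noncomputable def Ptab_s_167_183 (c : Nat) : Nat := @Bool.rec (fun _ => Nat) (Ptab_s_167_175 c) (Ptab_s_175_183 c) (Nat.ble 175 c)
noncomputable def Ptab_s_152_183 (c : Nat) : Nat := @Bool.rec (fun _ => Nat) (Ptab_s_152_167 c) (Ptab_s_167_183 c) (Nat.ble 167 c)
noncomputable def Ptab_s_122_183 (c : Nat) : Nat := @Bool.rec (fun _ => Nat) (Ptab_s_122_152 c) (Ptab_s_152_183 c) (Nat.ble 152 c)
noncomputable def Ptab_s_184_186 (c : Nat) : Nat := @Bool.rec (fun _ => Nat) (Ptab_184) (Ptab_185) (Nat.ble 185 c)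
noncomputable def Ptab_s_183_186 (c : Nat) : Nat := @Bool.rec (fun _ => Nat) (Ptab_183) (Ptab_s_184_186 c) (Nat.ble 184 c)
noncomputable def Ptab_s_186_188 (c : Nat) : Nat := @Bool.rec (fun _ => Nat) (Ptab_186) (Ptab_187) (Nat.ble 187 c)
noncomputable def Ptab_s_188_190 (c : Nat) : Nat := @Bool.rec (fun _ => Nat) (Ptab_188) (Ptab_189) (Nat.ble 189 c)
noncomputable def Ptab_s_186_190 (c : Nat) : Nat := @Bool.rec (fun _ => Nat) (Ptab_s_186_188 c) (Ptab_s_188_190 c) (Nat.ble 188 c)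
noncomputable def Ptab_s_183_190 (c : Nat) : Nat := @Bool.rec (fun _ => Nat) (Ptab_s_183_186 c) (Ptab_s_186_190 c) (Nat.ble 186 c)
noncomputable def Ptab_s_190_192 (c : Nat) : Nat := @Bool.rec (fun _ => Nat) (Ptab_190) (Ptab_191) (Nat.ble 191 c)
noncomputable def Ptab_s_192_194 (c : Nat) : Nat := @Bool.rec (fun _ => Nat) (Ptab_192) (Ptab_193) (Nat.ble 193 c)
noncomputable def Ptab_s_190_194 (c : Nat) : Nat := @Bool.rec (fun _ => Nat) (Ptab_s_190_192 c) (Ptab_s_192_194 c) (Nat.ble 192 c)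
noncomputable def Ptab_s_194_196 (c : Nat) : Nat := @Bool.rec (fun _ => Nat) (Ptab_194) (Ptab_195) (Nat.ble 195 c)
noncomputable def Ptab_s_196_198 (c : Nat) : Nat := @Bool.rec (fun _ => Nat) (Ptab_196) (Ptab_197) (Nat.ble 197 c)
noncomputable def Ptab_s_194_198 (c : Nat) : Nat := @Bool.rec (fun _ => Nat) (Ptab_s_194_196 c) (Ptab_s_196_198 c) (Nat.ble 196 c)
noncomputable def Ptab_s_190_198 (c : Nat) : Nat := @Bool.rec (fun _ => Nat) (Ptab_s_190_194 c) (Ptab_s_194_198 c) (Nat.ble 194 c)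
noncomputable def Ptab_s_183_198 (c : Nat) : Nat := @Bool.rec (fun _ => Nat) (Ptab_s_183_190 c) (Ptab_s_190_198 c) (Nat.ble 190 c)
noncomputable def Ptab_s_199_201 (c : Nat) : Nat := @Bool.rec (fun _ => Nat) (Ptab_199) (Ptab_200) (Nat.ble 200 c)
noncomputable def Ptab_s_198_201 (c : Nat) : Nat := @Bool.rec (fun _ => Nat) (Ptab_198) (Ptab_s_199_201 c) (Nat.ble 199 c)
noncomputable def Ptab_s_201_203 (c : Nat) : Nat := @Bool.rec (fun _ => Nat) (Ptab_201) (Ptab_202) (Nat.ble 202 c)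
noncomputable def Ptab_s_203_205 (c : Nat) : Nat := @Bool.rec (fun _ => Nat) (Ptab_203) (Ptab_204) (Nat.ble 204 c)
noncomputable def Ptab_s_201_205 (c : Nat) : Nat := @Bool.rec (fun _ => Nat) (Ptab_s_201_203 c) (Ptab_s_203_205 c) (Nat.ble 203 c)
noncomputable def Ptab_s_198_205 (c : Nat) : Nat := @Bool.rec (fun _ => Nat) (Ptab_s_198_201 c) (Ptab_s_201_205 c) (Nat.ble 201 c)
noncomputable def Ptab_s_205_207 (c : Nat) : Nat := @Bool.rec (fun _ => Nat) (Ptab_205) (Ptab_206) (Nat.ble 206 c)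
noncomputable def Ptab_s_207_209 (c : Nat) : Nat := @Bool.rec (fun _ => Nat) (Ptab_207) (Ptab_208) (Nat.ble 208 c)
noncomputable def Ptab_s_205_209 (c : Nat) : Nat := @Bool.rec (fun _ => Nat) (Ptab_s_205_207 c) (Ptab_s_207_209 c) (Nat.ble 207 c)
noncomputable def Ptab_s_209_211 (c : Nat) : Nat := @Bool.rec (fun _ => Nat) (Ptab_209) (Ptab_210) (Nat.ble 210 c)
noncomputable def Ptab_s_211_213 (c : Nat) : Nat := @Bool.rec (fun _ => Nat) (Ptab_211) (Ptab_212) (Nat.ble 212 c)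
noncomputable def Ptab_s_209_213 (c : Nat) : Nat := @Bool.rec (fun _ => Nat) (Ptab_s_209_211 c) (Ptab_s_211_213 c) (Nat.ble 211 c)
noncomputable def Ptab_s_205_213 (c : Nat) : Nat := @Bool.rec (fun _ => Nat) (Ptab_s_205_209 c) (Ptab_s_209_213 c) (Nat.ble 209 c)
noncomputable def Ptab_s_198_213 (c : Nat) : Nat := @Bool.rec (fun _ => Nat) (Ptab_s_198_205 c) (Ptab_s_205_213 c) (Nat.ble 205 c)
noncomputable def Ptab_s_183_213 (c : Nat) : Nat := @Bool.rec (fun _ => Nat) (Ptab_s_183_198 c) (Ptab_s_198_213 c) (Nat.ble 198 c)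
noncomputable def Ptab_s_214_216 (c : Nat) : Nat := @Bool.rec (fun _ => Nat) (Ptab_214) (Ptab_215) (Nat.ble 215 c)
noncomputable def Ptab_s_213_216 (c : Nat) : Nat := @Bool.rec (fun _ => Nat) (Ptab_213) (Ptab_s_214_216 c) (Nat.ble 214 c)
noncomputable def Ptab_s_216_218 (c : Nat) : Nat := @Bool.rec (fun _ => Nat) (Ptab_216) (Ptab_217) (Nat.ble 217 c)
noncomputable def Ptab_s_218_220 (c : Nat) : Nat := @Bool.rec (fun _ => Nat) (Ptab_218) (Ptab_219) (Nat.ble 219 c)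
noncomputable def Ptab_s_216_220 (c : Nat) : Nat := @Bool.rec (fun _ => Nat) (Ptab_s_216_218 c) (Ptab_s_218_220 c) (Nat.ble 218 c)
noncomputable def Ptab_s_213_220 (c : Nat) : Nat := @Bool.rec (fun _ => Nat) (Ptab_s_213_216 c) (Ptab_s_216_220 c) (Nat.ble 216 c)
noncomputable def Ptab_s_220_222 (c : Nat) : Nat := @Bool.rec (fun _ => Nat) (Ptab_220) (Ptab_221) (Nat.ble 221 c)
noncomputable def Ptab_s_222_224 (c : Nat) : Nat := @Bool.rec (fun _ => Nat) (Ptab_222) (Ptab_223) (Nat.ble 223 c)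
noncomputable def Ptab_s_220_224 (c : Nat) : Nat := @Bool.rec (fun _ => Nat) (Ptab_s_220_222 c) (Ptab_s_222_224 c) (Nat.ble 222 c)
noncomputable def Ptab_s_224_226 (c : Nat) : Nat := @Bool.rec (fun _ => Nat) (Ptab_224) (Ptab_225) (Nat.ble 225 c)
noncomputable def Ptab_s_226_228 (c : Nat) : Nat := @Bool.rec (fun _ => Nat) (Ptab_226) (Ptab_227) (Nat.ble 227 c)
noncomputable def Ptab_s_224_228 (c : Nat) : Nat := @Bool.rec (fun _ => Nat) (Ptab_s_224_226 c) (Ptab_s_226_228 c) (Nat.ble 226 c)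
noncomputable def Ptab_s_220_228 (c : Nat) : Nat := @Bool.rec (fun _ => Nat) (Ptab_s_220_224 c) (Ptab_s_224_228 c) (Nat.ble 224 c)
noncomputable def Ptab_s_213_228 (c : Nat) : Nat := @Bool.rec (fun _ => Nat) (Ptab_s_213_220 c) (Ptab_s_220_228 c) (Nat.ble 220 c)
noncomputable def Ptab_s_228_230 (c : Nat) : Nat := @Bool.rec (fun _ => Nat) (Ptab_228) (Ptab_229) (Nat.ble 229 c)
noncomputable def Ptab_s_230_232 (c : Nat) : Nat := @Bool.rec (fun _ => Nat) (Ptab_230) (Ptab_231) (Nat.ble 231 c)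
noncomputable def Ptab_s_228_232 (c : Nat) : Nat := @Bool.rec (fun _ => Nat) (Ptab_s_228_230 c) (Ptab_s_230_232 c) (Nat.ble 230 c)
noncomputable def Ptab_s_232_234 (c : Nat) : Nat := @Bool.rec (fun _ => Nat) (Ptab_232) (Ptab_233) (Nat.ble 233 c)
noncomputable def Ptab_s_234_236 (c : Nat) : Nat := @Bool.rec (fun _ => Nat) (Ptab_234) (Ptab_235) (Nat.ble 235 c)
noncomputable def Ptab_s_232_236 (c : Nat) : Nat := @Bool.rec (fun _ => Nat) (Ptab_s_232_234 c) (Ptab_s_234_236 c) (Nat.ble 234 c)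
noncomputable def Ptab_s_228_236 (c : Nat) : Nat := @Bool.rec (fun _ => Nat) (Ptab_s_228_232 c) (Ptab_s_232_236 c) (Nat.ble 232 c)
noncomputable def Ptab_s_236_238 (c : Nat) : Nat := @Bool.rec (fun _ => Nat) (Ptab_236) (Ptab_237) (Nat.ble 237 c)
noncomputable def Ptab_s_238_240 (c : Nat) : Nat := @Bool.rec (fun _ => Nat) (Ptab_238) (Ptab_239) (Nat.ble 239 c)
noncomputable def Ptab_s_236_240 (c : Nat) : Nat := @Bool.rec (fun _ => Nat) (Ptab_s_236_238 c) (Ptab_s_238_240 c) (Nat.ble 238 c)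
noncomputable def Ptab_s_240_242 (c : Nat) : Nat := @Bool.rec (fun _ => Nat) (Ptab_240) (Ptab_241) (Nat.ble 241 c)
noncomputable def Ptab_s_242_244 (c : Nat) : Nat := @Bool.rec (fun _ => Nat) (Ptab_242) (Ptab_243) (Nat.ble 243 c)
noncomputable def Ptab_s_240_244 (c : Nat) : Nat := @Bool.rec (fun _ => Nat) (Ptab_s_240_242 c) (Ptab_s_242_244 c) (Nat.ble 242 c)
noncomputable def Ptab_s_236_244 (c : Nat) : Nat := @Bool.rec (fun _ => Nat) (Ptab_s_236_240 c) (Ptab_s_240_244 c) (Nat.ble 240 c)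
noncomputable def Ptab_s_228_244 (c : Nat) : Nat := @Bool.rec (fun _ => Nat) (Ptab_s_228_236 c) (Ptab_s_236_244 c) (Nat.ble 236 c)
noncomputable def Ptab_s_213_244 (c : Nat) : Nat := @Bool.rec (fun _ => Nat) (Ptab_s_213_228 c) (Ptab_s_228_244 c) (Nat.ble 228 c)
noncomputable def Ptab_s_183_244 (c : Nat) : Nat := @Bool.rec (fun _ => Nat) (Ptab_s_183_213 c) (Ptab_s_213_244 c) (Nat.ble 213 c)
noncomputable def Ptab_s_122_244 (c : Nat) : Nat := @Bool.rec (fun _ => Nat) (Ptab_s_122_183 c) (Ptab_s_183_244 c) (Nat.ble 183 c)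
noncomputable def Ptab_s_0_244 (c : Nat) : Nat := @Bool.rec (fun _ => Nat) (Ptab_s_0_122 c) (Ptab_s_122_244 c) (Nat.ble 122 c)
noncomputable def Ptab_s_245_247 (c : Nat) : Nat := @Bool.rec (fun _ => Nat) (Ptab_245) (Ptab_246) (Nat.ble 246 c)
noncomputable def Ptab_s_244_247 (c : Nat) : Nat := @Bool.rec (fun _ => Nat) (Ptab_244) (Ptab_s_245_247 c) (Nat.ble 245 c)
noncomputable def Ptab_s_247_249 (c : Nat) : Nat := @Bool.rec (fun _ => Nat) (Ptab_247) (Ptab_248) (Nat.ble 248 c)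
noncomputable def Ptab_s_249_251 (c : Nat) : Nat := @Bool.rec (fun _ => Nat) (Ptab_249) (Ptab_250) (Nat.ble 250 c)
noncomputable def Ptab_s_247_251 (c : Nat) : Nat := @Bool.rec (fun _ => Nat) (Ptab_s_247_249 c) (Ptab_s_249_251 c) (Nat.ble 249 c)
noncomputable def Ptab_s_244_251 (c : Nat) : Nat := @Bool.rec (fun _ => Nat) (Ptab_s_244_247 c) (Ptab_s_247_251 c) (Nat.ble 247 c)
noncomputable def Ptab_s_251_253 (c : Nat) : Nat := @Bool.rec (fun _ => Nat) (Ptab_251) (Ptab_252) (Nat.ble 252 c)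
noncomputable def Ptab_s_253_255 (c : Nat) : Nat := @Bool.rec (fun _ => Nat) (Ptab_253) (Ptab_254) (Nat.ble 254 c)
noncomputable def Ptab_s_251_255 (c : Nat) : Nat := @Bool.rec (fun _ => Nat) (Ptab_s_251_253 c) (Ptab_s_253_255 c) (Nat.ble 253 c)
noncomputable def Ptab_s_255_257 (c : Nat) : Nat := @Bool.rec (fun _ => Nat) (Ptab_255) (Ptab_256) (Nat.ble 256 c)
noncomputable def Ptab_s_257_259 (c : Nat) : Nat := @Bool.rec (fun _ => Nat) (Ptab_257) (Ptab_258) (Nat.ble 258 c)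
noncomputable def Ptab_s_255_259 (c : Nat) : Nat := @Bool.rec (fun _ => Nat) (Ptab_s_255_257 c) (Ptab_s_257_259 c) (Nat.ble 257 c)
noncomputable def Ptab_s_251_259 (c : Nat) : Nat := @Bool.rec (fun _ => Nat) (Ptab_s_251_255 c) (Ptab_s_255_259 c) (Nat.ble 255 c)
noncomputable def Ptab_s_244_259 (c : Nat) : Nat := @Bool.rec (fun _ => Nat) (Ptab_s_244_251 c) (Ptab_s_251_259 c) (Nat.ble 251 c)
noncomputable def Ptab_s_260_262 (c : Nat) : Nat := @Bool.rec (fun _ => Nat) (Ptab_260) (Ptab_261) (Nat.ble 261 c)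
noncomputable def Ptab_s_259_262 (c : Nat) : Nat := @Bool.rec (fun _ => Nat) (Ptab_259) (Ptab_s_260_262 c) (Nat.ble 260 c)
noncomputable def Ptab_s_262_264 (c : Nat) : Nat := @Bool.rec (fun _ => Nat) (Ptab_262) (Ptab_263) (Nat.ble 263 c)
noncomputable def Ptab_s_264_266 (c : Nat) : Nat := @Bool.rec (fun _ => Nat) (Ptab_264) (Ptab_265) (Nat.ble 265 c)
noncomputable def Ptab_s_262_266 (c : Nat) : Nat := @Bool.rec (fun _ => Nat) (Ptab_s_262_264 c) (Ptab_s_264_266 c) (Nat.ble 264 c)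
noncomputable def Ptab_s_259_266 (c : Nat) : Nat := @Bool.rec (fun _ => Nat) (Ptab_s_259_262 c) (Ptab_s_262_266 c) (Nat.ble 262 c)
noncomputable def Ptab_s_266_268 (c : Nat) : Nat := @Bool.rec (fun _ => Nat) (Ptab_266) (Ptab_267) (Nat.ble 267 c)
noncomputable def Ptab_s_268_270 (c : Nat) : Nat := @Bool.rec (fun _ => Nat) (Ptab_268) (Ptab_269) (Nat.ble 269 c)
noncomputable def Ptab_s_266_270 (c : Nat) : Nat := @Bool.rec (fun _ => Nat) (Ptab_s_266_268 c) (Ptab_s_268_270 c) (Nat.ble 268 c)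
noncomputable def Ptab_s_270_272 (c : Nat) : Nat := @Bool.rec (fun _ => Nat) (Ptab_270) (Ptab_271) (Nat.ble 271 c)
noncomputable def Ptab_s_272_274 (c : Nat) : Nat := @Bool.rec (fun _ => Nat) (Ptab_272) (Ptab_273) (Nat.ble 273 c)
noncomputable def Ptab_s_270_274 (c : Nat) : Nat := @Bool.rec (fun _ => Nat) (Ptab_s_270_272 c) (Ptab_s_272_274 c) (Nat.ble 272 c)
noncomputable def Ptab_s_266_274 (c : Nat) : Nat := @Bool.rec (fun _ => Nat) (Ptab_s_266_270 c) (Ptab_s_270_274 c) (Nat.ble 270 c)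
noncomputable def Ptab_s_259_274 (c : Nat) : Nat := @Bool.rec (fun _ => Nat) (Ptab_s_259_266 c) (Ptab_s_266_274 c) (Nat.ble 266 c)
noncomputable def Ptab_s_244_274 (c : Nat) : Nat := @Bool.rec (fun _ => Nat) (Ptab_s_244_259 c) (Ptab_s_259_274 c) (Nat.ble 259 c)
noncomputable def Ptab_s_275_277 (c : Nat) : Nat := @Bool.rec (fun _ => Nat) (Ptab_275) (Ptab_276) (Nat.ble 276 c)
noncomputable def Ptab_s_274_277 (c : Nat) : Nat := @Bool.rec (fun _ => Nat) (Ptab_274) (Ptab_s_275_277 c) (Nat.ble 275 c)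
noncomputable def Ptab_s_277_279 (c : Nat) : Nat := @Bool.rec (fun _ => Nat) (Ptab_277) (Ptab_278) (Nat.ble 278 c)
noncomputable def Ptab_s_279_281 (c : Nat) : Nat := @Bool.rec (fun _ => Nat) (Ptab_279) (Ptab_280) (Nat.ble 280 c)
noncomputable def Ptab_s_277_281 (c : Nat) : Nat := @Bool.rec (fun _ => Nat) (Ptab_s_277_279 c) (Ptab_s_279_281 c) (Nat.ble 279 c)
noncomputable def Ptab_s_274_281 (c : Nat) : Nat := @Bool.rec (fun _ => Nat) (Ptab_s_274_277 c) (Ptab_s_277_281 c) (Nat.ble 277 c)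
noncomputable def Ptab_s_281_283 (c : Nat) : Nat := @Bool.rec (fun _ => Nat) (Ptab_281) (Ptab_282) (Nat.ble 282 c)
noncomputable def Ptab_s_283_285 (c : Nat) : Nat := @Bool.rec (fun _ => Nat) (Ptab_283) (Ptab_284) (Nat.ble 284 c)
noncomputable def Ptab_s_281_285 (c : Nat) : Nat := @Bool.rec (fun _ => Nat) (Ptab_s_281_283 c) (Ptab_s_283_285 c) (Nat.ble 283 c)
noncomputable def Ptab_s_285_287 (c : Nat) : Nat := @Bool.rec (fun _ => Nat) (Ptab_285) (Ptab_286) (Nat.ble 286 c)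
noncomputable def Ptab_s_287_289 (c : Nat) : Nat := @Bool.rec (fun _ => Nat) (Ptab_287) (Ptab_288) (Nat.ble 288 c)
noncomputable def Ptab_s_285_289 (c : Nat) : Nat := @Bool.rec (fun _ => Nat) (Ptab_s_285_287 c) (Ptab_s_287_289 c) (Nat.ble 287 c)
noncomputable def Ptab_s_281_289 (c : Nat) : Nat := @Bool.rec (fun _ => Nat) (Ptab_s_281_285 c) (Ptab_s_285_289 c) (Nat.ble 285 c)
noncomputable def Ptab_s_274_289 (c : Nat) : Nat := @Bool.rec (fun _ => Nat) (Ptab_s_274_281 c) (Ptab_s_281_289 c) (Nat.ble 281 c)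
noncomputable def Ptab_s_289_291 (c : Nat) : Nat := @Bool.rec (fun _ => Nat) (Ptab_289) (Ptab_290) (Nat.ble 290 c)
noncomputable def Ptab_s_291_293 (c : Nat) : Nat := @Bool.rec (fun _ => Nat) (Ptab_291) (Ptab_292) (Nat.ble 292 c)
noncomputable def Ptab_s_289_293 (c : Nat) : Nat := @Bool.rec (fun _ => Nat) (Ptab_s_289_291 c) (Ptab_s_291_293 c) (Nat.ble 291 c)
noncomputable def Ptab_s_293_295 (c : Nat) : Nat := @Bool.rec (fun _ => Nat) (Ptab_293) (Ptab_294) (Nat.ble 294 c)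
noncomputable def Ptab_s_295_297 (c : Nat) : Nat := @Bool.rec (fun _ => Nat) (Ptab_295) (Ptab_296) (Nat.ble 296 c)
noncomputable def Ptab_s_293_297 (c : Nat) : Nat := @Bool.rec (fun _ => Nat) (Ptab_s_293_295 c) (Ptab_s_295_297 c) (Nat.ble 295 c)
noncomputable def Ptab_s_289_297 (c : Nat) : Nat := @Bool.rec (fun _ => Nat) (Ptab_s_289_293 c) (Ptab_s_293_297 c) (Nat.ble 293 c)
noncomputable def Ptab_s_297_299 (c : Nat) : Nat := @Bool.rec (fun _ => Nat) (Ptab_297) (Ptab_298) (Nat.ble 298 c)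
noncomputable def Ptab_s_299_301 (c : Nat) : Nat := @Bool.rec (fun _ => Nat) (Ptab_299) (Ptab_300) (Nat.ble 300 c)
noncomputable def Ptab_s_297_301 (c : Nat) : Nat := @Bool.rec (fun _ => Nat) (Ptab_s_297_299 c) (Ptab_s_299_301 c) (Nat.ble 299 c)
noncomputable def Ptab_s_301_303 (c : Nat) : Nat := @Bool.rec (fun _ => Nat) (Ptab_301) (Ptab_302) (Nat.ble 302 c)
noncomputable def Ptab_s_303_305 (c : Nat) : Nat := @Bool.rec (fun _ => Nat) (Ptab_303) (Ptab_304) (Nat.ble 304 c)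
noncomputable def Ptab_s_301_305 (c : Nat) : Nat := @Bool.rec (fun _ => Nat) (Ptab_s_301_303 c) (Ptab_s_303_305 c) (Nat.ble 303 c)
noncomputable def Ptab_s_297_305 (c : Nat) : Nat := @Bool.rec (fun _ => Nat) (Ptab_s_297_301 c) (Ptab_s_301_305 c) (Nat.ble 301 c)
noncomputable def Ptab_s_289_305 (c : Nat) : Nat := @Bool.rec (fun _ => Nat) (Ptab_s_289_297 c) (Ptab_s_297_305 c) (Nat.ble 297 c)
noncomputable def Ptab_s_274_305 (c : Nat) : Nat := @Bool.rec (fun _ => Nat) (Ptab_s_274_289 c) (Ptab_s_289_305 c) (Nat.ble 289 c)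
noncomputable def Ptab_s_244_305 (c : Nat) : Nat := @Bool.rec (fun _ => Nat) (Ptab_s_244_274 c) (Ptab_s_274_305 c) (Nat.ble 274 c)
noncomputable def Ptab_s_306_308 (c : Nat) : Nat := @Bool.rec (fun _ => Nat) (Ptab_306) (Ptab_307) (Nat.ble 307 c)
noncomputable def Ptab_s_305_308 (c : Nat) : Nat := @Bool.rec (fun _ => Nat) (Ptab_305) (Ptab_s_306_308 c) (Nat.ble 306 c)
noncomputable def Ptab_s_308_310 (c : Nat) : Nat := @Bool.rec (fun _ => Nat) (Ptab_308) (Ptab_309) (Nat.ble 309 c)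
noncomputable def Ptab_s_310_312 (c : Nat) : Nat := @Bool.rec (fun _ => Nat) (Ptab_310) (Ptab_311) (Nat.ble 311 c)
noncomputable def Ptab_s_308_312 (c : Nat) : Nat := @Bool.rec (fun _ => Nat) (Ptab_s_308_310 c) (Ptab_s_310_312 c) (Nat.ble 310 c)
noncomputable def Ptab_s_305_312 (c : Nat) : Nat := @Bool.rec (fun _ => Nat) (Ptab_s_305_308 c) (Ptab_s_308_312 c) (Nat.ble 308 c)
noncomputable def Ptab_s_312_314 (c : Nat) : Nat := @Bool.rec (fun _ => Nat) (Ptab_312) (Ptab_313) (Nat.ble 313 c)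
noncomputable def Ptab_s_314_316 (c : Nat) : Nat := @Bool.rec (fun _ => Nat) (Ptab_314) (Ptab_315) (Nat.ble 315 c)
noncomputable def Ptab_s_312_316 (c : Nat) : Nat := @Bool.rec (fun _ => Nat) (Ptab_s_312_314 c) (Ptab_s_314_316 c) (Nat.ble 314 c)
noncomputable def Ptab_s_316_318 (c : Nat) : Nat := @Bool.rec (fun _ => Nat) (Ptab_316) (Ptab_317) (Nat.ble 317 c)
noncomputable def Ptab_s_318_320 (c : Nat) : Nat := @Bool.rec (fun _ => Nat) (Ptab_318) (Ptab_319) (Nat.ble 319 c)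
noncomputable def Ptab_s_316_320 (c : Nat) : Nat := @Bool.rec (fun _ => Nat) (Ptab_s_316_318 c) (Ptab_s_318_320 c) (Nat.ble 318 c)
noncomputable def Ptab_s_312_320 (c : Nat) : Nat := @Bool.rec (fun _ => Nat) (Ptab_s_312_316 c) (Ptab_s_316_320 c) (Nat.ble 316 c)
noncomputable def Ptab_s_305_320 (c : Nat) : Nat := @Bool.rec (fun _ => Nat) (Ptab_s_305_312 c) (Ptab_s_312_320 c) (Nat.ble 312 c)
noncomputable def Ptab_s_321_323 (c : Nat) : Nat := @Bool.rec (fun _ => Nat) (Ptab_321) (Ptab_322) (Nat.ble 322 c)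
noncomputable def Ptab_s_320_323 (c : Nat) : Nat := @Bool.rec (fun _ => Nat) (Ptab_320) (Ptab_s_321_323 c) (Nat.ble 321 c)
noncomputable def Ptab_s_323_325 (c : Nat) : Nat := @Bool.rec (fun _ => Nat) (Ptab_323) (Ptab_324) (Nat.ble 324 c)
noncomputable def Ptab_s_325_327 (c : Nat) : Nat := @Bool.rec (fun _ => Nat) (Ptab_325) (Ptab_326) (Nat.ble 326 c)
noncomputable def Ptab_s_323_327 (c : Nat) : Nat := @Bool.rec (fun _ => Nat) (Ptab_s_323_325 c) (Ptab_s_325_327 c) (Nat.ble 325 c)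
noncomputable def Ptab_s_320_327 (c : Nat) : Nat := @Bool.rec (fun _ => Nat) (Ptab_s_320_323 c) (Ptab_s_323_327 c) (Nat.ble 323 c)
noncomputable def Ptab_s_327_329 (c : Nat) : Nat := @Bool.rec (fun _ => Nat) (Ptab_327) (Ptab_328) (Nat.ble 328 c)
noncomputable def Ptab_s_329_331 (c : Nat) : Nat := @Bool.rec (fun _ => Nat) (Ptab_329) (Ptab_330) (Nat.ble 330 c)
noncomputable def Ptab_s_327_331 (c : Nat) : Nat := @Bool.rec (fun _ => Nat) (Ptab_s_327_329 c) (Ptab_s_329_331 c) (Nat.ble 329 c)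
noncomputable def Ptab_s_331_333 (c : Nat) : Nat := @Bool.rec (fun _ => Nat) (Ptab_331) (Ptab_332) (Nat.ble 332 c)
noncomputable def Ptab_s_333_335 (c : Nat) : Nat := @Bool.rec (fun _ => Nat) (Ptab_333) (Ptab_334) (Nat.ble 334 c)
noncomputable def Ptab_s_331_335 (c : Nat) : Nat := @Bool.rec (fun _ => Nat) (Ptab_s_331_333 c) (Ptab_s_333_335 c) (Nat.ble 333 c)
noncomputable def Ptab_s_327_335 (c : Nat) : Nat := @Bool.rec (fun _ => Nat) (Ptab_s_327_331 c) (Ptab_s_331_335 c) (Nat.ble 331 c)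
noncomputable def Ptab_s_320_335 (c : Nat) : Nat := @Bool.rec (fun _ => Nat) (Ptab_s_320_327 c) (Ptab_s_327_335 c) (Nat.ble 327 c)
noncomputable def Ptab_s_305_335 (c : Nat) : Nat := @Bool.rec (fun _ => Nat) (Ptab_s_305_320 c) (Ptab_s_320_335 c) (Nat.ble 320 c)
noncomputable def Ptab_s_336_338 (c : Nat) : Nat := @Bool.rec (fun _ => Nat) (Ptab_336) (Ptab_337) (Nat.ble 337 c)
noncomputable def Ptab_s_335_338 (c : Nat) : Nat := @Bool.rec (fun _ => Nat) (Ptab_335) (Ptab_s_336_338 c) (Nat.ble 336 c)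
noncomputable def Ptab_s_338_340 (c : Nat) : Nat := @Bool.rec (fun _ => Nat) (Ptab_338) (Ptab_339) (Nat.ble 339 c)
noncomputable def Ptab_s_340_342 (c : Nat) : Nat := @Bool.rec (fun _ => Nat) (Ptab_340) (Ptab_341) (Nat.ble 341 c)
noncomputable def Ptab_s_338_342 (c : Nat) : Nat := @Bool.rec (fun _ => Nat) (Ptab_s_338_340 c) (Ptab_s_340_342 c) (Nat.ble 340 c)
noncomputable def Ptab_s_335_342 (c : Nat) : Nat := @Bool.rec (fun _ => Nat) (Ptab_s_335_338 c) (Ptab_s_338_342 c) (Nat.ble 338 c)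
noncomputable def Ptab_s_342_344 (c : Nat) : Nat := @Bool.rec (fun _ => Nat) (Ptab_342) (Ptab_343) (Nat.ble 343 c)
noncomputable def Ptab_s_344_346 (c : Nat) : Nat := @Bool.rec (fun _ => Nat) (Ptab_344) (Ptab_345) (Nat.ble 345 c)
noncomputable def Ptab_s_342_346 (c : Nat) : Nat := @Bool.rec (fun _ => Nat) (Ptab_s_342_344 c) (Ptab_s_344_346 c) (Nat.ble 344 c)
noncomputable def Ptab_s_346_348 (c : Nat) : Nat := @Bool.rec (fun _ => Nat) (Ptab_346) (Ptab_347) (Nat.ble 347 c)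
noncomputable def Ptab_s_348_350 (c : Nat) : Nat := @Bool.rec (fun _ => Nat) (Ptab_348) (Ptab_349) (Nat.ble 349 c)
noncomputable def Ptab_s_346_350 (c : Nat) : Nat := @Bool.rec (fun _ => Nat) (Ptab_s_346_348 c) (Ptab_s_348_350 c) (Nat.ble 348 c)
noncomputable def Ptab_s_342_350 (c : Nat) : Nat := @Bool.rec (fun _ => Nat) (Ptab_s_342_346 c) (Ptab_s_346_350 c) (Nat.ble 346 c)
noncomputable def Ptab_s_335_350 (c : Nat) : Nat := @Bool.rec (fun _ => Nat) (Ptab_s_335_342 c) (Ptab_s_342_350 c) (Nat.ble 342 c)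
noncomputable def Ptab_s_350_352 (c : Nat) : Nat := @Bool.rec (fun _ => Nat) (Ptab_350) (Ptab_351) (Nat.ble 351 c)
noncomputable def Ptab_s_352_354 (c : Nat) : Nat := @Bool.rec (fun _ => Nat) (Ptab_352) (Ptab_353) (Nat.ble 353 c)
noncomputable def Ptab_s_350_354 (c : Nat) : Nat := @Bool.rec (fun _ => Nat) (Ptab_s_350_352 c) (Ptab_s_352_354 c) (Nat.ble 352 c)
noncomputable def Ptab_s_354_356 (c : Nat) : Nat := @Bool.rec (fun _ => Nat) (Ptab_354) (Ptab_355) (Nat.ble 355 c)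
noncomputable def Ptab_s_356_358 (c : Nat) : Nat := @Bool.rec (fun _ => Nat) (Ptab_356) (Ptab_357) (Nat.ble 357 c)
noncomputable def Ptab_s_354_358 (c : Nat) : Nat := @Bool.rec (fun _ => Nat) (Ptab_s_354_356 c) (Ptab_s_356_358 c) (Nat.ble 356 c)
noncomputable def Ptab_s_350_358 (c : Nat) : Nat := @Bool.rec (fun _ => Nat) (Ptab_s_350_354 c) (Ptab_s_354_358 c) (Nat.ble 354 c)
noncomputable def Ptab_s_358_360 (c : Nat) : Nat := @Bool.rec (fun _ => Nat) (Ptab_358) (Ptab_359) (Nat.ble 359 c)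
noncomputable def Ptab_s_360_362 (c : Nat) : Nat := @Bool.rec (fun _ => Nat) (Ptab_360) (Ptab_361) (Nat.ble 361 c)
noncomputable def Ptab_s_358_362 (c : Nat) : Nat := @Bool.rec (fun _ => Nat) (Ptab_s_358_360 c) (Ptab_s_360_362 c) (Nat.ble 360 c)
noncomputable def Ptab_s_362_364 (c : Nat) : Nat := @Bool.rec (fun _ => Nat) (Ptab_362) (Ptab_363) (Nat.ble 363 c)
noncomputable def Ptab_s_364_366 (c : Nat) : Nat := @Bool.rec (fun _ => Nat) (Ptab_364) (Ptab_365) (Nat.ble 365 c)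
noncomputable def Ptab_s_362_366 (c : Nat) : Nat := @Bool.rec (fun _ => Nat) (Ptab_s_362_364 c) (Ptab_s_364_366 c) (Nat.ble 364 c)
noncomputable def Ptab_s_358_366 (c : Nat) : Nat := @Bool.rec (fun _ => Nat) (Ptab_s_358_362 c) (Ptab_s_362_366 c) (Nat.ble 362 c)
noncomputable def Ptab_s_350_366 (c : Nat) : Nat := @Bool.rec (fun _ => Nat) (Ptab_s_350_358 c) (Ptab_s_358_366 c) (Nat.ble 358 c)
noncomputable def Ptab_s_335_366 (c : Nat) : Nat := @Bool.rec (fun _ => Nat) (Ptab_s_335_350 c) (Ptab_s_350_366 c) (Nat.ble 350 c)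
noncomputable def Ptab_s_305_366 (c : Nat) : Nat := @Bool.rec (fun _ => Nat) (Ptab_s_305_335 c) (Ptab_s_335_366 c) (Nat.ble 335 c)
noncomputable def Ptab_s_244_366 (c : Nat) : Nat := @Bool.rec (fun _ => Nat) (Ptab_s_244_305 c) (Ptab_s_305_366 c) (Nat.ble 305 c)
noncomputable def Ptab_s_367_369 (c : Nat) : Nat := @Bool.rec (fun _ => Nat) (Ptab_367) (Ptab_368) (Nat.ble 368 c)
noncomputable def Ptab_s_366_369 (c : Nat) : Nat := @Bool.rec (fun _ => Nat) (Ptab_366) (Ptab_s_367_369 c) (Nat.ble 367 c)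
noncomputable def Ptab_s_369_371 (c : Nat) : Nat := @Bool.rec (fun _ => Nat) (Ptab_369) (Ptab_370) (Nat.ble 370 c)
noncomputable def Ptab_s_371_373 (c : Nat) : Nat := @Bool.rec (fun _ => Nat) (Ptab_371) (Ptab_372) (Nat.ble 372 c)
noncomputable def Ptab_s_369_373 (c : Nat) : Nat := @Bool.rec (fun _ => Nat) (Ptab_s_369_371 c) (Ptab_s_371_373 c) (Nat.ble 371 c)
noncomputable def Ptab_s_366_373 (c : Nat) : Nat := @Bool.rec (fun _ => Nat) (Ptab_s_366_369 c) (Ptab_s_369_373 c) (Nat.ble 369 c)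
noncomputable def Ptab_s_373_375 (c : Nat) : Nat := @Bool.rec (fun _ => Nat) (Ptab_373) (Ptab_374) (Nat.ble 374 c)
noncomputable def Ptab_s_375_377 (c : Nat) : Nat := @Bool.rec (fun _ => Nat) (Ptab_375) (Ptab_376) (Nat.ble 376 c)
noncomputable def Ptab_s_373_377 (c : Nat) : Nat := @Bool.rec (fun _ => Nat) (Ptab_s_373_375 c) (Ptab_s_375_377 c) (Nat.ble 375 c)
noncomputable def Ptab_s_377_379 (c : Nat) : Nat := @Bool.rec (fun _ => Nat) (Ptab_377) (Ptab_378) (Nat.ble 378 c)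
noncomputable def Ptab_s_379_381 (c : Nat) : Nat := @Bool.rec (fun _ => Nat) (Ptab_379) (Ptab_380) (Nat.ble 380 c)
noncomputable def Ptab_s_377_381 (c : Nat) : Nat := @Bool.rec (fun _ => Nat) (Ptab_s_377_379 c) (Ptab_s_379_381 c) (Nat.ble 379 c)
noncomputable def Ptab_s_373_381 (c : Nat) : Nat := @Bool.rec (fun _ => Nat) (Ptab_s_373_377 c) (Ptab_s_377_381 c) (Nat.ble 377 c)
noncomputable def Ptab_s_366_381 (c : Nat) : Nat := @Bool.rec (fun _ => Nat) (Ptab_s_366_373 c) (Ptab_s_373_381 c) (Nat.ble 373 c)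
noncomputable def Ptab_s_382_384 (c : Nat) : Nat := @Bool.rec (fun _ => Nat) (Ptab_382) (Ptab_383) (Nat.ble 383 c)
noncomputable def Ptab_s_381_384 (c : Nat) : Nat := @Bool.rec (fun _ => Nat) (Ptab_381) (Ptab_s_382_384 c) (Nat.ble 382 c)
noncomputable def Ptab_s_384_386 (c : Nat) : Nat := @Bool.rec (fun _ => Nat) (Ptab_384) (Ptab_385) (Nat.ble 385 c)
noncomputable def Ptab_s_386_388 (c : Nat) : Nat := @Bool.rec (fun _ => Nat) (Ptab_386) (Ptab_387) (Nat.ble 387 c)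
noncomputable def Ptab_s_384_388 (c : Nat) : Nat := @Bool.rec (fun _ => Nat) (Ptab_s_384_386 c) (Ptab_s_386_388 c) (Nat.ble 386 c)
noncomputable def Ptab_s_381_388 (c : Nat) : Nat := @Bool.rec (fun _ => Nat) (Ptab_s_381_384 c) (Ptab_s_384_388 c) (Nat.ble 384 c)
noncomputable def Ptab_s_388_390 (c : Nat) : Nat := @Bool.rec (fun _ => Nat) (Ptab_388) (Ptab_389) (Nat.ble 389 c)
noncomputable def Ptab_s_390_392 (c : Nat) : Nat := @Bool.rec (fun _ => Nat) (Ptab_390) (Ptab_391) (Nat.ble 391 c)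
noncomputable def Ptab_s_388_392 (c : Nat) : Nat := @Bool.rec (fun _ => Nat) (Ptab_s_388_390 c) (Ptab_s_390_392 c) (Nat.ble 390 c)
noncomputable def Ptab_s_392_394 (c : Nat) : Nat := @Bool.rec (fun _ => Nat) (Ptab_392) (Ptab_393) (Nat.ble 393 c)
noncomputable def Ptab_s_394_396 (c : Nat) : Nat := @Bool.rec (fun _ => Nat) (Ptab_394) (Ptab_395) (Nat.ble 395 c)
noncomputable def Ptab_s_392_396 (c : Nat) : Nat := @Bool.rec (fun _ => Nat) (Ptab_s_392_394 c) (Ptab_s_394_396 c) (Nat.ble 394 c)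
noncomputable def Ptab_s_388_396 (c : Nat) : Nat := @Bool.rec (fun _ => Nat) (Ptab_s_388_392 c) (Ptab_s_392_396 c) (Nat.ble 392 c)
noncomputable def Ptab_s_381_396 (c : Nat) : Nat := @Bool.rec (fun _ => Nat) (Ptab_s_381_388 c) (Ptab_s_388_396 c) (Nat.ble 388 c)
noncomputable def Ptab_s_366_396 (c : Nat) : Nat := @Bool.rec (fun _ => Nat) (Ptab_s_366_381 c) (Ptab_s_381_396 c) (Nat.ble 381 c)
noncomputable def Ptab_s_397_399 (c : Nat) : Nat := @Bool.rec (fun _ => Nat) (Ptab_397) (Ptab_398) (Nat.ble 398 c)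
noncomputable def Ptab_s_396_399 (c : Nat) : Nat := @Bool.rec (fun _ => Nat) (Ptab_396) (Ptab_s_397_399 c) (Nat.ble 397 c)
noncomputable def Ptab_s_399_401 (c : Nat) : Nat := @Bool.rec (fun _ => Nat) (Ptab_399) (Ptab_400) (Nat.ble 400 c)
noncomputable def Ptab_s_401_403 (c : Nat) : Nat := @Bool.rec (fun _ => Nat) (Ptab_401) (Ptab_402) (Nat.ble 402 c)
noncomputable def Ptab_s_399_403 (c : Nat) : Nat := @Bool.rec (fun _ => Nat) (Ptab_s_399_401 c) (Ptab_s_401_403 c) (Nat.ble 401 c)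
noncomputable def Ptab_s_396_403 (c : Nat) : Nat := @Bool.rec (fun _ => Nat) (Ptab_s_396_399 c) (Ptab_s_399_403 c) (Nat.ble 399 c)
noncomputable def Ptab_s_403_405 (c : Nat) : Nat := @Bool.rec (fun _ => Nat) (Ptab_403) (Ptab_404) (Nat.ble 404 c)
noncomputable def Ptab_s_405_407 (c : Nat) : Nat := @Bool.rec (fun _ => Nat) (Ptab_405) (Ptab_406) (Nat.ble 406 c)
noncomputable def Ptab_s_403_407 (c : Nat) : Nat := @Bool.rec (fun _ => Nat) (Ptab_s_403_405 c) (Ptab_s_405_407 c) (Nat.ble 405 c)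
noncomputable def Ptab_s_407_409 (c : Nat) : Nat := @Bool.rec (fun _ => Nat) (Ptab_407) (Ptab_408) (Nat.ble 408 c)
noncomputable def Ptab_s_409_411 (c : Nat) : Nat := @Bool.rec (fun _ => Nat) (Ptab_409) (Ptab_410) (Nat.ble 410 c)
noncomputable def Ptab_s_407_411 (c : Nat) : Nat := @Bool.rec (fun _ => Nat) (Ptab_s_407_409 c) (Ptab_s_409_411 c) (Nat.ble 409 c)
noncomputable def Ptab_s_403_411 (c : Nat) : Nat := @Bool.rec (fun _ => Nat) (Ptab_s_403_407 c) (Ptab_s_407_411 c) (Nat.ble 407 c)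
noncomputable def Ptab_s_396_411 (c : Nat) : Nat := @Bool.rec (fun _ => Nat) (Ptab_s_396_403 c) (Ptab_s_403_411 c) (Nat.ble 403 c)
noncomputable def Ptab_s_411_413 (c : Nat) : Nat := @Bool.rec (fun _ => Nat) (Ptab_411) (Ptab_412) (Nat.ble 412 c)
noncomputable def Ptab_s_413_415 (c : Nat) : Nat := @Bool.rec (fun _ => Nat) (Ptab_413) (Ptab_414) (Nat.ble 414 c)
noncomputable def Ptab_s_411_415 (c : Nat) : Nat := @Bool.rec (fun _ => Nat) (Ptab_s_411_413 c) (Ptab_s_413_415 c) (Nat.ble 413 c)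
noncomputable def Ptab_s_415_417 (c : Nat) : Nat := @Bool.rec (fun _ => Nat) (Ptab_415) (Ptab_416) (Nat.ble 416 c)
noncomputable def Ptab_s_417_419 (c : Nat) : Nat := @Bool.rec (fun _ => Nat) (Ptab_417) (Ptab_418) (Nat.ble 418 c)
noncomputable def Ptab_s_415_419 (c : Nat) : Nat := @Bool.rec (fun _ => Nat) (Ptab_s_415_417 c) (Ptab_s_417_419 c) (Nat.ble 417 c)
noncomputable def Ptab_s_411_419 (c : Nat) : Nat := @Bool.rec (fun _ => Nat) (Ptab_s_411_415 c) (Ptab_s_415_419 c) (Nat.ble 415 c)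
noncomputable def Ptab_s_419_421 (c : Nat) : Nat := @Bool.rec (fun _ => Nat) (Ptab_419) (Ptab_420) (Nat.ble 420 c)
noncomputable def Ptab_s_421_423 (c : Nat) : Nat := @Bool.rec (fun _ => Nat) (Ptab_421) (Ptab_422) (Nat.ble 422 c)
noncomputable def Ptab_s_419_423 (c : Nat) : Nat := @Bool.rec (fun _ => Nat) (Ptab_s_419_421 c) (Ptab_s_421_423 c) (Nat.ble 421 c)
noncomputable def Ptab_s_423_425 (c : Nat) : Nat := @Bool.rec (fun _ => Nat) (Ptab_423) (Ptab_424) (Nat.ble 424 c)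
noncomputable def Ptab_s_425_427 (c : Nat) : Nat := @Bool.rec (fun _ => Nat) (Ptab_425) (Ptab_426) (Nat.ble 426 c)
noncomputable def Ptab_s_423_427 (c : Nat) : Nat := @Bool.rec (fun _ => Nat) (Ptab_s_423_425 c) (Ptab_s_425_427 c) (Nat.ble 425 c)
noncomputable def Ptab_s_419_427 (c : Nat) : Nat := @Bool.rec (fun _ => Nat) (Ptab_s_419_423 c) (Ptab_s_423_427 c) (Nat.ble 423 c)
noncomputable def Ptab_s_411_427 (c : Nat) : Nat := @Bool.rec (fun _ => Nat) (Ptab_s_411_419 c) (Ptab_s_419_427 c) (Nat.ble 419 c)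
noncomputable def Ptab_s_396_427 (c : Nat) : Nat := @Bool.rec (fun _ => Nat) (Ptab_s_396_411 c) (Ptab_s_411_427 c) (Nat.ble 411 c)
noncomputable def Ptab_s_366_427 (c : Nat) : Nat := @Bool.rec (fun _ => Nat) (Ptab_s_366_396 c) (Ptab_s_396_427 c) (Nat.ble 396 c)
noncomputable def Ptab_s_428_430 (c : Nat) : Nat := @Bool.rec (fun _ => Nat) (Ptab_428) (Ptab_429) (Nat.ble 429 c)
noncomputable def Ptab_s_427_430 (c : Nat) : Nat := @Bool.rec (fun _ => Nat) (Ptab_427) (Ptab_s_428_430 c) (Nat.ble 428 c)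
noncomputable def Ptab_s_430_432 (c : Nat) : Nat := @Bool.rec (fun _ => Nat) (Ptab_430) (Ptab_431) (Nat.ble 431 c)
noncomputable def Ptab_s_432_434 (c : Nat) : Nat := @Bool.rec (fun _ => Nat) (Ptab_432) (Ptab_433) (Nat.ble 433 c)
noncomputable def Ptab_s_430_434 (c : Nat) : Nat := @Bool.rec (fun _ => Nat) (Ptab_s_430_432 c) (Ptab_s_432_434 c) (Nat.ble 432 c)
noncomputable def Ptab_s_427_434 (c : Nat) : Nat := @Bool.rec (fun _ => Nat) (Ptab_s_427_430 c) (Ptab_s_430_434 c) (Nat.ble 430 c)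
noncomputable def Ptab_s_434_436 (c : Nat) : Nat := @Bool.rec (fun _ => Nat) (Ptab_434) (Ptab_435) (Nat.ble 435 c)
noncomputable def Ptab_s_436_438 (c : Nat) : Nat := @Bool.rec (fun _ => Nat) (Ptab_436) (Ptab_437) (Nat.ble 437 c)
noncomputable def Ptab_s_434_438 (c : Nat) : Nat := @Bool.rec (fun _ => Nat) (Ptab_s_434_436 c) (Ptab_s_436_438 c) (Nat.ble 436 c)
noncomputable def Ptab_s_438_440 (c : Nat) : Nat := @Bool.rec (fun _ => Nat) (Ptab_438) (Ptab_439) (Nat.ble 439 c)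
noncomputable def Ptab_s_440_442 (c : Nat) : Nat := @Bool.rec (fun _ => Nat) (Ptab_440) (Ptab_441) (Nat.ble 441 c)
noncomputable def Ptab_s_438_442 (c : Nat) : Nat := @Bool.rec (fun _ => Nat) (Ptab_s_438_440 c) (Ptab_s_440_442 c) (Nat.ble 440 c)
noncomputable def Ptab_s_434_442 (c : Nat) : Nat := @Bool.rec (fun _ => Nat) (Ptab_s_434_438 c) (Ptab_s_438_442 c) (Nat.ble 438 c)
noncomputable def Ptab_s_427_442 (c : Nat) : Nat := @Bool.rec (fun _ => Nat) (Ptab_s_427_434 c) (Ptab_s_434_442 c) (Nat.ble 434 c)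
noncomputable def Ptab_s_442_444 (c : Nat) : Nat := @Bool.rec (fun _ => Nat) (Ptab_442) (Ptab_443) (Nat.ble 443 c)
noncomputable def Ptab_s_444_446 (c : Nat) : Nat := @Bool.rec (fun _ => Nat) (Ptab_444) (Ptab_445) (Nat.ble 445 c)
noncomputable def Ptab_s_442_446 (c : Nat) : Nat := @Bool.rec (fun _ => Nat) (Ptab_s_442_444 c) (Ptab_s_444_446 c) (Nat.ble 444 c)
noncomputable def Ptab_s_446_448 (c : Nat) : Nat := @Bool.rec (fun _ => Nat) (Ptab_446) (Ptab_447) (Nat.ble 447 c)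
noncomputable def Ptab_s_448_450 (c : Nat) : Nat := @Bool.rec (fun _ => Nat) (Ptab_448) (Ptab_449) (Nat.ble 449 c)
noncomputable def Ptab_s_446_450 (c : Nat) : Nat := @Bool.rec (fun _ => Nat) (Ptab_s_446_448 c) (Ptab_s_448_450 c) (Nat.ble 448 c)
noncomputable def Ptab_s_442_450 (c : Nat) : Nat := @Bool.rec (fun _ => Nat) (Ptab_s_442_446 c) (Ptab_s_446_450 c) (Nat.ble 446 c)
noncomputable def Ptab_s_450_452 (c : Nat) : Nat := @Bool.rec (fun _ => Nat) (Ptab_450) (Ptab_451) (Nat.ble 451 c)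
noncomputable def Ptab_s_452_454 (c : Nat) : Nat := @Bool.rec (fun _ => Nat) (Ptab_452) (Ptab_453) (Nat.ble 453 c)
noncomputable def Ptab_s_450_454 (c : Nat) : Nat := @Bool.rec (fun _ => Nat) (Ptab_s_450_452 c) (Ptab_s_452_454 c) (Nat.ble 452 c)
noncomputable def Ptab_s_454_456 (c : Nat) : Nat := @Bool.rec (fun _ => Nat) (Ptab_454) (Ptab_455) (Nat.ble 455 c)
noncomputable def Ptab_s_456_458 (c : Nat) : Nat := @Bool.rec (fun _ => Nat) (Ptab_456) (Ptab_457) (Nat.ble 457 c)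
noncomputable def Ptab_s_454_458 (c : Nat) : Nat := @Bool.rec (fun _ => Nat) (Ptab_s_454_456 c) (Ptab_s_456_458 c) (Nat.ble 456 c)
noncomputable def Ptab_s_450_458 (c : Nat) : Nat := @Bool.rec (fun _ => Nat) (Ptab_s_450_454 c) (Ptab_s_454_458 c) (Nat.ble 454 c)
noncomputable def Ptab_s_442_458 (c : Nat) : Nat := @Bool.rec (fun _ => Nat) (Ptab_s_442_450 c) (Ptab_s_450_458 c) (Nat.ble 450 c)
noncomputable def Ptab_s_427_458 (c : Nat) : Nat := @Bool.rec (fun _ => Nat) (Ptab_s_427_442 c) (Ptab_s_442_458 c) (Nat.ble 442 c)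
noncomputable def Ptab_s_459_461 (c : Nat) : Nat := @Bool.rec (fun _ => Nat) (Ptab_459) (Ptab_460) (Nat.ble 460 c)
noncomputable def Ptab_s_458_461 (c : Nat) : Nat := @Bool.rec (fun _ => Nat) (Ptab_458) (Ptab_s_459_461 c) (Nat.ble 459 c)
noncomputable def Ptab_s_461_463 (c : Nat) : Nat := @Bool.rec (fun _ => Nat) (Ptab_461) (Ptab_462) (Nat.ble 462 c)
noncomputable def Ptab_s_463_465 (c : Nat) : Nat := @Bool.rec (fun _ => Nat) (Ptab_463) (Ptab_464) (Nat.ble 464 c)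
noncomputable def Ptab_s_461_465 (c : Nat) : Nat := @Bool.rec (fun _ => Nat) (Ptab_s_461_463 c) (Ptab_s_463_465 c) (Nat.ble 463 c)
noncomputable def Ptab_s_458_465 (c : Nat) : Nat := @Bool.rec (fun _ => Nat) (Ptab_s_458_461 c) (Ptab_s_461_465 c) (Nat.ble 461 c)
noncomputable def Ptab_s_465_467 (c : Nat) : Nat := @Bool.rec (fun _ => Nat) (Ptab_465) (Ptab_466) (Nat.ble 466 c)
noncomputable def Ptab_s_467_469 (c : Nat) : Nat := @Bool.rec (fun _ => Nat) (Ptab_467) (Ptab_468) (Nat.ble 468 c)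
noncomputable def Ptab_s_465_469 (c : Nat) : Nat := @Bool.rec (fun _ => Nat) (Ptab_s_465_467 c) (Ptab_s_467_469 c) (Nat.ble 467 c)
noncomputable def Ptab_s_469_471 (c : Nat) : Nat := @Bool.rec (fun _ => Nat) (Ptab_469) (Ptab_470) (Nat.ble 470 c)
noncomputable def Ptab_s_471_473 (c : Nat) : Nat := @Bool.rec (fun _ => Nat) (Ptab_471) (Ptab_472) (Nat.ble 472 c)
noncomputable def Ptab_s_469_473 (c : Nat) : Nat := @Bool.rec (fun _ => Nat) (Ptab_s_469_471 c) (Ptab_s_471_473 c) (Nat.ble 471 c)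
noncomputable def Ptab_s_465_473 (c : Nat) : Nat := @Bool.rec (fun _ => Nat) (Ptab_s_465_469 c) (Ptab_s_469_473 c) (Nat.ble 469 c)
noncomputable def Ptab_s_458_473 (c : Nat) : Nat := @Bool.rec (fun _ => Nat) (Ptab_s_458_465 c) (Ptab_s_465_473 c) (Nat.ble 465 c)
noncomputable def Ptab_s_473_475 (c : Nat) : Nat := @Bool.rec (fun _ => Nat) (Ptab_473) (Ptab_474) (Nat.ble 474 c)
noncomputable def Ptab_s_475_477 (c : Nat) : Nat := @Bool.rec (fun _ => Nat) (Ptab_475) (Ptab_476) (Nat.ble 476 c)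
noncomputable def Ptab_s_473_477 (c : Nat) : Nat := @Bool.rec (fun _ => Nat) (Ptab_s_473_475 c) (Ptab_s_475_477 c) (Nat.ble 475 c)
noncomputable def Ptab_s_477_479 (c : Nat) : Nat := @Bool.rec (fun _ => Nat) (Ptab_477) (Ptab_478) (Nat.ble 478 c)
noncomputable def Ptab_s_479_481 (c : Nat) : Nat := @Bool.rec (fun _ => Nat) (Ptab_479) (Ptab_480) (Nat.ble 480 c)
noncomputable def Ptab_s_477_481 (c : Nat) : Nat := @Bool.rec (fun _ => Nat) (Ptab_s_477_479 c) (Ptab_s_479_481 c) (Nat.ble 479 c)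
noncomputable def Ptab_s_473_481 (c : Nat) : Nat := @Bool.rec (fun _ => Nat) (Ptab_s_473_477 c) (Ptab_s_477_481 c) (Nat.ble 477 c)
noncomputable def Ptab_s_481_483 (c : Nat) : Nat := @Bool.rec (fun _ => Nat) (Ptab_481) (Ptab_482) (Nat.ble 482 c)
noncomputable def Ptab_s_483_485 (c : Nat) : Nat := @Bool.rec (fun _ => Nat) (Ptab_483) (Ptab_484) (Nat.ble 484 c)
noncomputable def Ptab_s_481_485 (c : Nat) : Nat := @Bool.rec (fun _ => Nat) (Ptab_s_481_483 c) (Ptab_s_483_485 c) (Nat.ble 483 c)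
noncomputable def Ptab_s_485_487 (c : Nat) : Nat := @Bool.rec (fun _ => Nat) (Ptab_485) (Ptab_486) (Nat.ble 486 c)
noncomputable def Ptab_s_487_489 (c : Nat) : Nat := @Bool.rec (fun _ => Nat) (Ptab_487) (Ptab_488) (Nat.ble 488 c)
noncomputable def Ptab_s_485_489 (c : Nat) : Nat := @Bool.rec (fun _ => Nat) (Ptab_s_485_487 c) (Ptab_s_487_489 c) (Nat.ble 487 c)
noncomputable def Ptab_s_481_489 (c : Nat) : Nat := @Bool.rec (fun _ => Nat) (Ptab_s_481_485 c) (Ptab_s_485_489 c) (Nat.ble 485 c)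
noncomputable def Ptab_s_473_489 (c : Nat) : Nat := @Bool.rec (fun _ => Nat) (Ptab_s_473_481 c) (Ptab_s_481_489 c) (Nat.ble 481 c)
noncomputable def Ptab_s_458_489 (c : Nat) : Nat := @Bool.rec (fun _ => Nat) (Ptab_s_458_473 c) (Ptab_s_473_489 c) (Nat.ble 473 c)
noncomputable def Ptab_s_427_489 (c : Nat) : Nat := @Bool.rec (fun _ => Nat) (Ptab_s_427_458 c) (Ptab_s_458_489 c) (Nat.ble 458 c)
noncomputable def Ptab_s_366_489 (c : Nat) : Nat := @Bool.rec (fun _ => Nat) (Ptab_s_366_427 c) (Ptab_s_427_489 c) (Nat.ble 427 c)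
noncomputable def Ptab_s_244_489 (c : Nat) : Nat := @Bool.rec (fun _ => Nat) (Ptab_s_244_366 c) (Ptab_s_366_489 c) (Nat.ble 366 c)
noncomputable def Ptab_s_0_489 (c : Nat) : Nat := @Bool.rec (fun _ => Nat) (Ptab_s_0_244 c) (Ptab_s_244_489 c) (Nat.ble 244 c)
noncomputable def Ptab_s_490_492 (c : Nat) : Nat := @Bool.rec (fun _ => Nat) (Ptab_490) (Ptab_491) (Nat.ble 491 c)
noncomputable def Ptab_s_489_492 (c : Nat) : Nat := @Bool.rec (fun _ => Nat) (Ptab_489) (Ptab_s_490_492 c) (Nat.ble 490 c)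
noncomputable def Ptab_s_492_494 (c : Nat) : Nat := @Bool.rec (fun _ => Nat) (Ptab_492) (Ptab_493) (Nat.ble 493 c)
noncomputable def Ptab_s_494_496 (c : Nat) : Nat := @Bool.rec (fun _ => Nat) (Ptab_494) (Ptab_495) (Nat.ble 495 c)
noncomputable def Ptab_s_492_496 (c : Nat) : Nat := @Bool.rec (fun _ => Nat) (Ptab_s_492_494 c) (Ptab_s_494_496 c) (Nat.ble 494 c)
noncomputable def Ptab_s_489_496 (c : Nat) : Nat := @Bool.rec (fun _ => Nat) (Ptab_s_489_492 c) (Ptab_s_492_496 c) (Nat.ble 492 c)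
noncomputable def Ptab_s_496_498 (c : Nat) : Nat := @Bool.rec (fun _ => Nat) (Ptab_496) (Ptab_497) (Nat.ble 497 c)
noncomputable def Ptab_s_498_500 (c : Nat) : Nat := @Bool.rec (fun _ => Nat) (Ptab_498) (Ptab_499) (Nat.ble 499 c)
noncomputable def Ptab_s_496_500 (c : Nat) : Nat := @Bool.rec (fun _ => Nat) (Ptab_s_496_498 c) (Ptab_s_498_500 c) (Nat.ble 498 c)
noncomputable def Ptab_s_500_502 (c : Nat) : Nat := @Bool.rec (fun _ => Nat) (Ptab_500) (Ptab_501) (Nat.ble 501 c)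
noncomputable def Ptab_s_502_504 (c : Nat) : Nat := @Bool.rec (fun _ => Nat) (Ptab_502) (Ptab_503) (Nat.ble 503 c)
noncomputable def Ptab_s_500_504 (c : Nat) : Nat := @Bool.rec (fun _ => Nat) (Ptab_s_500_502 c) (Ptab_s_502_504 c) (Nat.ble 502 c)
noncomputable def Ptab_s_496_504 (c : Nat) : Nat := @Bool.rec (fun _ => Nat) (Ptab_s_496_500 c) (Ptab_s_500_504 c) (Nat.ble 500 c)
noncomputable def Ptab_s_489_504 (c : Nat) : Nat := @Bool.rec (fun _ => Nat) (Ptab_s_489_496 c) (Ptab_s_496_504 c) (Nat.ble 496 c)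
noncomputable def Ptab_s_505_507 (c : Nat) : Nat := @Bool.rec (fun _ => Nat) (Ptab_505) (Ptab_506) (Nat.ble 506 c)
noncomputable def Ptab_s_504_507 (c : Nat) : Nat := @Bool.rec (fun _ => Nat) (Ptab_504) (Ptab_s_505_507 c) (Nat.ble 505 c)
noncomputable def Ptab_s_507_509 (c : Nat) : Nat := @Bool.rec (fun _ => Nat) (Ptab_507) (Ptab_508) (Nat.ble 508 c)
noncomputable def Ptab_s_509_511 (c : Nat) : Nat := @Bool.rec (fun _ => Nat) (Ptab_509) (Ptab_510) (Nat.ble 510 c)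
noncomputable def Ptab_s_507_511 (c : Nat) : Nat := @Bool.rec (fun _ => Nat) (Ptab_s_507_509 c) (Ptab_s_509_511 c) (Nat.ble 509 c)
noncomputable def Ptab_s_504_511 (c : Nat) : Nat := @Bool.rec (fun _ => Nat) (Ptab_s_504_507 c) (Ptab_s_507_511 c) (Nat.ble 507 c)
noncomputable def Ptab_s_511_513 (c : Nat) : Nat := @Bool.rec (fun _ => Nat) (Ptab_511) (Ptab_512) (Nat.ble 512 c)
noncomputable def Ptab_s_513_515 (c : Nat) : Nat := @Bool.rec (fun _ => Nat) (Ptab_513) (Ptab_514) (Nat.ble 514 c)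
noncomputable def Ptab_s_511_515 (c : Nat) : Nat := @Bool.rec (fun _ => Nat) (Ptab_s_511_513 c) (Ptab_s_513_515 c) (Nat.ble 513 c)
noncomputable def Ptab_s_515_517 (c : Nat) : Nat := @Bool.rec (fun _ => Nat) (Ptab_515) (Ptab_516) (Nat.ble 516 c)
noncomputable def Ptab_s_517_519 (c : Nat) : Nat := @Bool.rec (fun _ => Nat) (Ptab_517) (Ptab_518) (Nat.ble 518 c)
noncomputable def Ptab_s_515_519 (c : Nat) : Nat := @Bool.rec (fun _ => Nat) (Ptab_s_515_517 c) (Ptab_s_517_519 c) (Nat.ble 517 c)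
noncomputable def Ptab_s_511_519 (c : Nat) : Nat := @Bool.rec (fun _ => Nat) (Ptab_s_511_515 c) (Ptab_s_515_519 c) (Nat.ble 515 c)
noncomputable def Ptab_s_504_519 (c : Nat) : Nat := @Bool.rec (fun _ => Nat) (Ptab_s_504_511 c) (Ptab_s_511_519 c) (Nat.ble 511 c)
noncomputable def Ptab_s_489_519 (c : Nat) : Nat := @Bool.rec (fun _ => Nat) (Ptab_s_489_504 c) (Ptab_s_504_519 c) (Nat.ble 504 c)
noncomputable def Ptab_s_520_522 (c : Nat) : Nat := @Bool.rec (fun _ => Nat) (Ptab_520) (Ptab_521) (Nat.ble 521 c)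
noncomputable def Ptab_s_519_522 (c : Nat) : Nat := @Bool.rec (fun _ => Nat) (Ptab_519) (Ptab_s_520_522 c) (Nat.ble 520 c)
noncomputable def Ptab_s_522_524 (c : Nat) : Nat := @Bool.rec (fun _ => Nat) (Ptab_522) (Ptab_523) (Nat.ble 523 c)
noncomputable def Ptab_s_524_526 (c : Nat) : Nat := @Bool.rec (fun _ => Nat) (Ptab_524) (Ptab_525) (Nat.ble 525 c)
noncomputable def Ptab_s_522_526 (c : Nat) : Nat := @Bool.rec (fun _ => Nat) (Ptab_s_522_524 c) (Ptab_s_524_526 c) (Nat.ble 524 c)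
noncomputable def Ptab_s_519_526 (c : Nat) : Nat := @Bool.rec (fun _ => Nat) (Ptab_s_519_522 c) (Ptab_s_522_526 c) (Nat.ble 522 c)
noncomputable def Ptab_s_526_528 (c : Nat) : Nat := @Bool.rec (fun _ => Nat) (Ptab_526) (Ptab_527) (Nat.ble 527 c)
noncomputable def Ptab_s_528_530 (c : Nat) : Nat := @Bool.rec (fun _ => Nat) (Ptab_528) (Ptab_529) (Nat.ble 529 c)
noncomputable def Ptab_s_526_530 (c : Nat) : Nat := @Bool.rec (fun _ => Nat) (Ptab_s_526_528 c) (Ptab_s_528_530 c) (Nat.ble 528 c)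
noncomputable def Ptab_s_530_532 (c : Nat) : Nat := @Bool.rec (fun _ => Nat) (Ptab_530) (Ptab_531) (Nat.ble 531 c)
noncomputable def Ptab_s_532_534 (c : Nat) : Nat := @Bool.rec (fun _ => Nat) (Ptab_532) (Ptab_533) (Nat.ble 533 c)
noncomputable def Ptab_s_530_534 (c : Nat) : Nat := @Bool.rec (fun _ => Nat) (Ptab_s_530_532 c) (Ptab_s_532_534 c) (Nat.ble 532 c)
noncomputable def Ptab_s_526_534 (c : Nat) : Nat := @Bool.rec (fun _ => Nat) (Ptab_s_526_530 c) (Ptab_s_530_534 c) (Nat.ble 530 c)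
noncomputable def Ptab_s_519_534 (c : Nat) : Nat := @Bool.rec (fun _ => Nat) (Ptab_s_519_526 c) (Ptab_s_526_534 c) (Nat.ble 526 c)
noncomputable def Ptab_s_534_536 (c : Nat) : Nat := @Bool.rec (fun _ => Nat) (Ptab_534) (Ptab_535) (Nat.ble 535 c)
noncomputable def Ptab_s_536_538 (c : Nat) : Nat := @Bool.rec (fun _ => Nat) (Ptab_536) (Ptab_537) (Nat.ble 537 c)
noncomputable def Ptab_s_534_538 (c : Nat) : Nat := @Bool.rec (fun _ => Nat) (Ptab_s_534_536 c) (Ptab_s_536_538 c) (Nat.ble 536 c)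
noncomputable def Ptab_s_538_540 (c : Nat) : Nat := @Bool.rec (fun _ => Nat) (Ptab_538) (Ptab_539) (Nat.ble 539 c)
noncomputable def Ptab_s_540_542 (c : Nat) : Nat := @Bool.rec (fun _ => Nat) (Ptab_540) (Ptab_541) (Nat.ble 541 c)
noncomputable def Ptab_s_538_542 (c : Nat) : Nat := @Bool.rec (fun _ => Nat) (Ptab_s_538_540 c) (Ptab_s_540_542 c) (Nat.ble 540 c)
noncomputable def Ptab_s_534_542 (c : Nat) : Nat := @Bool.rec (fun _ => Nat) (Ptab_s_534_538 c) (Ptab_s_538_542 c) (Nat.ble 538 c)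
noncomputable def Ptab_s_542_544 (c : Nat) : Nat := @Bool.rec (fun _ => Nat) (Ptab_542) (Ptab_543) (Nat.ble 543 c)
noncomputable def Ptab_s_544_546 (c : Nat) : Nat := @Bool.rec (fun _ => Nat) (Ptab_544) (Ptab_545) (Nat.ble 545 c)
noncomputable def Ptab_s_542_546 (c : Nat) : Nat := @Bool.rec (fun _ => Nat) (Ptab_s_542_544 c) (Ptab_s_544_546 c) (Nat.ble 544 c)
noncomputable def Ptab_s_546_548 (c : Nat) : Nat := @Bool.rec (fun _ => Nat) (Ptab_546) (Ptab_547) (Nat.ble 547 c)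
noncomputable def Ptab_s_548_550 (c : Nat) : Nat := @Bool.rec (fun _ => Nat) (Ptab_548) (Ptab_549) (Nat.ble 549 c)
noncomputable def Ptab_s_546_550 (c : Nat) : Nat := @Bool.rec (fun _ => Nat) (Ptab_s_546_548 c) (Ptab_s_548_550 c) (Nat.ble 548 c)
noncomputable def Ptab_s_542_550 (c : Nat) : Nat := @Bool.rec (fun _ => Nat) (Ptab_s_542_546 c) (Ptab_s_546_550 c) (Nat.ble 546 c)
noncomputable def Ptab_s_534_550 (c : Nat) : Nat := @Bool.rec (fun _ => Nat) (Ptab_s_534_542 c) (Ptab_s_542_550 c) (Nat.ble 542 c)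
noncomputable def Ptab_s_519_550 (c : Nat) : Nat := @Bool.rec (fun _ => Nat) (Ptab_s_519_534 c) (Ptab_s_534_550 c) (Nat.ble 534 c)
noncomputable def Ptab_s_489_550 (c : Nat) : Nat := @Bool.rec (fun _ => Nat) (Ptab_s_489_519 c) (Ptab_s_519_550 c) (Nat.ble 519 c)
noncomputable def Ptab_s_551_553 (c : Nat) : Nat := @Bool.rec (fun _ => Nat) (Ptab_551) (Ptab_552) (Nat.ble 552 c)
noncomputable def Ptab_s_550_553 (c : Nat) : Nat := @Bool.rec (fun _ => Nat) (Ptab_550) (Ptab_s_551_553 c) (Nat.ble 551 c)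
noncomputable def Ptab_s_553_555 (c : Nat) : Nat := @Bool.rec (fun _ => Nat) (Ptab_553) (Ptab_554) (Nat.ble 554 c)
noncomputable def Ptab_s_555_557 (c : Nat) : Nat := @Bool.rec (fun _ => Nat) (Ptab_555) (Ptab_556) (Nat.ble 556 c)
noncomputable def Ptab_s_553_557 (c : Nat) : Nat := @Bool.rec (fun _ => Nat) (Ptab_s_553_555 c) (Ptab_s_555_557 c) (Nat.ble 555 c)
noncomputable def Ptab_s_550_557 (c : Nat) : Nat := @Bool.rec (fun _ => Nat) (Ptab_s_550_553 c) (Ptab_s_553_557 c) (Nat.ble 553 c)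
noncomputable def Ptab_s_557_559 (c : Nat) : Nat := @Bool.rec (fun _ => Nat) (Ptab_557) (Ptab_558) (Nat.ble 558 c)
noncomputable def Ptab_s_559_561 (c : Nat) : Nat := @Bool.rec (fun _ => Nat) (Ptab_559) (Ptab_560) (Nat.ble 560 c)
noncomputable def Ptab_s_557_561 (c : Nat) : Nat := @Bool.rec (fun _ => Nat) (Ptab_s_557_559 c) (Ptab_s_559_561 c) (Nat.ble 559 c)
noncomputable def Ptab_s_561_563 (c : Nat) : Nat := @Bool.rec (fun _ => Nat) (Ptab_561) (Ptab_562) (Nat.ble 562 c)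
noncomputable def Ptab_s_563_565 (c : Nat) : Nat := @Bool.rec (fun _ => Nat) (Ptab_563) (Ptab_564) (Nat.ble 564 c)
noncomputable def Ptab_s_561_565 (c : Nat) : Nat := @Bool.rec (fun _ => Nat) (Ptab_s_561_563 c) (Ptab_s_563_565 c) (Nat.ble 563 c)
noncomputable def Ptab_s_557_565 (c : Nat) : Nat := @Bool.rec (fun _ => Nat) (Ptab_s_557_561 c) (Ptab_s_561_565 c) (Nat.ble 561 c)
noncomputable def Ptab_s_550_565 (c : Nat) : Nat := @Bool.rec (fun _ => Nat) (Ptab_s_550_557 c) (Ptab_s_557_565 c) (Nat.ble 557 c)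
noncomputable def Ptab_s_566_568 (c : Nat) : Nat := @Bool.rec (fun _ => Nat) (Ptab_566) (Ptab_567) (Nat.ble 567 c)
noncomputable def Ptab_s_565_568 (c : Nat) : Nat := @Bool.rec (fun _ => Nat) (Ptab_565) (Ptab_s_566_568 c) (Nat.ble 566 c)
noncomputable def Ptab_s_568_570 (c : Nat) : Nat := @Bool.rec (fun _ => Nat) (Ptab_568) (Ptab_569) (Nat.ble 569 c)
noncomputable def Ptab_s_570_572 (c : Nat) : Nat := @Bool.rec (fun _ => Nat) (Ptab_570) (Ptab_571) (Nat.ble 571 c)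
noncomputable def Ptab_s_568_572 (c : Nat) : Nat := @Bool.rec (fun _ => Nat) (Ptab_s_568_570 c) (Ptab_s_570_572 c) (Nat.ble 570 c)
noncomputable def Ptab_s_565_572 (c : Nat) : Nat := @Bool.rec (fun _ => Nat) (Ptab_s_565_568 c) (Ptab_s_568_572 c) (Nat.ble 568 c)
noncomputable def Ptab_s_572_574 (c : Nat) : Nat := @Bool.rec (fun _ => Nat) (Ptab_572) (Ptab_573) (Nat.ble 573 c)
noncomputable def Ptab_s_574_576 (c : Nat) : Nat := @Bool.rec (fun _ => Nat) (Ptab_574) (Ptab_575) (Nat.ble 575 c)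
noncomputable def Ptab_s_572_576 (c : Nat) : Nat := @Bool.rec (fun _ => Nat) (Ptab_s_572_574 c) (Ptab_s_574_576 c) (Nat.ble 574 c)
noncomputable def Ptab_s_576_578 (c : Nat) : Nat := @Bool.rec (fun _ => Nat) (Ptab_576) (Ptab_577) (Nat.ble 577 c)
noncomputable def Ptab_s_578_580 (c : Nat) : Nat := @Bool.rec (fun _ => Nat) (Ptab_578) (Ptab_579) (Nat.ble 579 c)
noncomputable def Ptab_s_576_580 (c : Nat) : Nat := @Bool.rec (fun _ => Nat) (Ptab_s_576_578 c) (Ptab_s_578_580 c) (Nat.ble 578 c)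
noncomputable def Ptab_s_572_580 (c : Nat) : Nat := @Bool.rec (fun _ => Nat) (Ptab_s_572_576 c) (Ptab_s_576_580 c) (Nat.ble 576 c)
noncomputable def Ptab_s_565_580 (c : Nat) : Nat := @Bool.rec (fun _ => Nat) (Ptab_s_565_572 c) (Ptab_s_572_580 c) (Nat.ble 572 c)
noncomputable def Ptab_s_550_580 (c : Nat) : Nat := @Bool.rec (fun _ => Nat) (Ptab_s_550_565 c) (Ptab_s_565_580 c) (Nat.ble 565 c)
noncomputable def Ptab_s_581_583 (c : Nat) : Nat := @Bool.rec (fun _ => Nat) (Ptab_581) (Ptab_582) (Nat.ble 582 c)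
noncomputable def Ptab_s_580_583 (c : Nat) : Nat := @Bool.rec (fun _ => Nat) (Ptab_580) (Ptab_s_581_583 c) (Nat.ble 581 c)
noncomputable def Ptab_s_583_585 (c : Nat) : Nat := @Bool.rec (fun _ => Nat) (Ptab_583) (Ptab_584) (Nat.ble 584 c)
noncomputable def Ptab_s_585_587 (c : Nat) : Nat := @Bool.rec (fun _ => Nat) (Ptab_585) (Ptab_586) (Nat.ble 586 c)
noncomputable def Ptab_s_583_587 (c : Nat) : Nat := @Bool.rec (fun _ => Nat) (Ptab_s_583_585 c) (Ptab_s_585_587 c) (Nat.ble 585 c)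
noncomputable def Ptab_s_580_587 (c : Nat) : Nat := @Bool.rec (fun _ => Nat) (Ptab_s_580_583 c) (Ptab_s_583_587 c) (Nat.ble 583 c)
noncomputable def Ptab_s_587_589 (c : Nat) : Nat := @Bool.rec (fun _ => Nat) (Ptab_587) (Ptab_588) (Nat.ble 588 c)
noncomputable def Ptab_s_589_591 (c : Nat) : Nat := @Bool.rec (fun _ => Nat) (Ptab_589) (Ptab_590) (Nat.ble 590 c)
noncomputable def Ptab_s_587_591 (c : Nat) : Nat := @Bool.rec (fun _ => Nat) (Ptab_s_587_589 c) (Ptab_s_589_591 c) (Nat.ble 589 c)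
noncomputable def Ptab_s_591_593 (c : Nat) : Nat := @Bool.rec (fun _ => Nat) (Ptab_591) (Ptab_592) (Nat.ble 592 c)
noncomputable def Ptab_s_593_595 (c : Nat) : Nat := @Bool.rec (fun _ => Nat) (Ptab_593) (Ptab_594) (Nat.ble 594 c)
noncomputable def Ptab_s_591_595 (c : Nat) : Nat := @Bool.rec (fun _ => Nat) (Ptab_s_591_593 c) (Ptab_s_593_595 c) (Nat.ble 593 c)
noncomputable def Ptab_s_587_595 (c : Nat) : Nat := @Bool.rec (fun _ => Nat) (Ptab_s_587_591 c) (Ptab_s_591_595 c) (Nat.ble 591 c)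
noncomputable def Ptab_s_580_595 (c : Nat) : Nat := @Bool.rec (fun _ => Nat) (Ptab_s_580_587 c) (Ptab_s_587_595 c) (Nat.ble 587 c)
noncomputable def Ptab_s_595_597 (c : Nat) : Nat := @Bool.rec (fun _ => Nat) (Ptab_595) (Ptab_596) (Nat.ble 596 c)
noncomputable def Ptab_s_597_599 (c : Nat) : Nat := @Bool.rec (fun _ => Nat) (Ptab_597) (Ptab_598) (Nat.ble 598 c)
noncomputable def Ptab_s_595_599 (c : Nat) : Nat := @Bool.rec (fun _ => Nat) (Ptab_s_595_597 c) (Ptab_s_597_599 c) (Nat.ble 597 c)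
noncomputable def Ptab_s_599_601 (c : Nat) : Nat := @Bool.rec (fun _ => Nat) (Ptab_599) (Ptab_600) (Nat.ble 600 c)
noncomputable def Ptab_s_601_603 (c : Nat) : Nat := @Bool.rec (fun _ => Nat) (Ptab_601) (Ptab_602) (Nat.ble 602 c)
noncomputable def Ptab_s_599_603 (c : Nat) : Nat := @Bool.rec (fun _ => Nat) (Ptab_s_599_601 c) (Ptab_s_601_603 c) (Nat.ble 601 c)
noncomputable def Ptab_s_595_603 (c : Nat) : Nat := @Bool.rec (fun _ => Nat) (Ptab_s_595_599 c) (Ptab_s_599_603 c) (Nat.ble 599 c)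
noncomputable def Ptab_s_603_605 (c : Nat) : Nat := @Bool.rec (fun _ => Nat) (Ptab_603) (Ptab_604) (Nat.ble 604 c)
noncomputable def Ptab_s_605_607 (c : Nat) : Nat := @Bool.rec (fun _ => Nat) (Ptab_605) (Ptab_606) (Nat.ble 606 c)
noncomputable def Ptab_s_603_607 (c : Nat) : Nat := @Bool.rec (fun _ => Nat) (Ptab_s_603_605 c) (Ptab_s_605_607 c) (Nat.ble 605 c)
noncomputable def Ptab_s_607_609 (c : Nat) : Nat := @Bool.rec (fun _ => Nat) (Ptab_607) (Ptab_608) (Nat.ble 608 c)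
noncomputable def Ptab_s_609_611 (c : Nat) : Nat := @Bool.rec (fun _ => Nat) (Ptab_609) (Ptab_610) (Nat.ble 610 c)
noncomputable def Ptab_s_607_611 (c : Nat) : Nat := @Bool.rec (fun _ => Nat) (Ptab_s_607_609 c) (Ptab_s_609_611 c) (Nat.ble 609 c)
noncomputable def Ptab_s_603_611 (c : Nat) : Nat := @Bool.rec (fun _ => Nat) (Ptab_s_603_607 c) (Ptab_s_607_611 c) (Nat.ble 607 c)
noncomputable def Ptab_s_595_611 (c : Nat) : Nat := @Bool.rec (fun _ => Nat) (Ptab_s_595_603 c) (Ptab_s_603_611 c) (Nat.ble 603 c)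
noncomputable def Ptab_s_580_611 (c : Nat) : Nat := @Bool.rec (fun _ => Nat) (Ptab_s_580_595 c) (Ptab_s_595_611 c) (Nat.ble 595 c)
noncomputable def Ptab_s_550_611 (c : Nat) : Nat := @Bool.rec (fun _ => Nat) (Ptab_s_550_580 c) (Ptab_s_580_611 c) (Nat.ble 580 c)
noncomputable def Ptab_s_489_611 (c : Nat) : Nat := @Bool.rec (fun _ => Nat) (Ptab_s_489_550 c) (Ptab_s_550_611 c) (Nat.ble 550 c)
noncomputable def Ptab_s_612_614 (c : Nat) : Nat := @Bool.rec (fun _ => Nat) (Ptab_612) (Ptab_613) (Nat.ble 613 c)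
noncomputable def Ptab_s_611_614 (c : Nat) : Nat := @Bool.rec (fun _ => Nat) (Ptab_611) (Ptab_s_612_614 c) (Nat.ble 612 c)
noncomputable def Ptab_s_614_616 (c : Nat) : Nat := @Bool.rec (fun _ => Nat) (Ptab_614) (Ptab_615) (Nat.ble 615 c)
noncomputable def Ptab_s_616_618 (c : Nat) : Nat := @Bool.rec (fun _ => Nat) (Ptab_616) (Ptab_617) (Nat.ble 617 c)
noncomputable def Ptab_s_614_618 (c : Nat) : Nat := @Bool.rec (fun _ => Nat) (Ptab_s_614_616 c) (Ptab_s_616_618 c) (Nat.ble 616 c)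
noncomputable def Ptab_s_611_618 (c : Nat) : Nat := @Bool.rec (fun _ => Nat) (Ptab_s_611_614 c) (Ptab_s_614_618 c) (Nat.ble 614 c)
noncomputable def Ptab_s_618_620 (c : Nat) : Nat := @Bool.rec (fun _ => Nat) (Ptab_618) (Ptab_619) (Nat.ble 619 c)
noncomputable def Ptab_s_620_622 (c : Nat) : Nat := @Bool.rec (fun _ => Nat) (Ptab_620) (Ptab_621) (Nat.ble 621 c)
noncomputable def Ptab_s_618_622 (c : Nat) : Nat := @Bool.rec (fun _ => Nat) (Ptab_s_618_620 c) (Ptab_s_620_622 c) (Nat.ble 620 c)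
noncomputable def Ptab_s_622_624 (c : Nat) : Nat := @Bool.rec (fun _ => Nat) (Ptab_622) (Ptab_623) (Nat.ble 623 c)
noncomputable def Ptab_s_624_626 (c : Nat) : Nat := @Bool.rec (fun _ => Nat) (Ptab_624) (Ptab_625) (Nat.ble 625 c)
noncomputable def Ptab_s_622_626 (c : Nat) : Nat := @Bool.rec (fun _ => Nat) (Ptab_s_622_624 c) (Ptab_s_624_626 c) (Nat.ble 624 c)
noncomputable def Ptab_s_618_626 (c : Nat) : Nat := @Bool.rec (fun _ => Nat) (Ptab_s_618_622 c) (Ptab_s_622_626 c) (Nat.ble 622 c)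
noncomputable def Ptab_s_611_626 (c : Nat) : Nat := @Bool.rec (fun _ => Nat) (Ptab_s_611_618 c) (Ptab_s_618_626 c) (Nat.ble 618 c)
noncomputable def Ptab_s_627_629 (c : Nat) : Nat := @Bool.rec (fun _ => Nat) (Ptab_627) (Ptab_628) (Nat.ble 628 c)
noncomputable def Ptab_s_626_629 (c : Nat) : Nat := @Bool.rec (fun _ => Nat) (Ptab_626) (Ptab_s_627_629 c) (Nat.ble 627 c)
noncomputable def Ptab_s_629_631 (c : Nat) : Nat := @Bool.rec (fun _ => Nat) (Ptab_629) (Ptab_630) (Nat.ble 630 c)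
noncomputable def Ptab_s_631_633 (c : Nat) : Nat := @Bool.rec (fun _ => Nat) (Ptab_631) (Ptab_632) (Nat.ble 632 c)
noncomputable def Ptab_s_629_633 (c : Nat) : Nat := @Bool.rec (fun _ => Nat) (Ptab_s_629_631 c) (Ptab_s_631_633 c) (Nat.ble 631 c)
noncomputable def Ptab_s_626_633 (c : Nat) : Nat := @Bool.rec (fun _ => Nat) (Ptab_s_626_629 c) (Ptab_s_629_633 c) (Nat.ble 629 c)
noncomputable def Ptab_s_633_635 (c : Nat) : Nat := @Bool.rec (fun _ => Nat) (Ptab_633) (Ptab_634) (Nat.ble 634 c)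
noncomputable def Ptab_s_635_637 (c : Nat) : Nat := @Bool.rec (fun _ => Nat) (Ptab_635) (Ptab_636) (Nat.ble 636 c)
noncomputable def Ptab_s_633_637 (c : Nat) : Nat := @Bool.rec (fun _ => Nat) (Ptab_s_633_635 c) (Ptab_s_635_637 c) (Nat.ble 635 c)
noncomputable def Ptab_s_637_639 (c : Nat) : Nat := @Bool.rec (fun _ => Nat) (Ptab_637) (Ptab_638) (Nat.ble 638 c)
noncomputable def Ptab_s_639_641 (c : Nat) : Nat := @Bool.rec (fun _ => Nat) (Ptab_639) (Ptab_640) (Nat.ble 640 c)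
noncomputable def Ptab_s_637_641 (c : Nat) : Nat := @Bool.rec (fun _ => Nat) (Ptab_s_637_639 c) (Ptab_s_639_641 c) (Nat.ble 639 c)
noncomputable def Ptab_s_633_641 (c : Nat) : Nat := @Bool.rec (fun _ => Nat) (Ptab_s_633_637 c) (Ptab_s_637_641 c) (Nat.ble 637 c)
noncomputable def Ptab_s_626_641 (c : Nat) : Nat := @Bool.rec (fun _ => Nat) (Ptab_s_626_633 c) (Ptab_s_633_641 c) (Nat.ble 633 c)
noncomputable def Ptab_s_611_641 (c : Nat) : Nat := @Bool.rec (fun _ => Nat) (Ptab_s_611_626 c) (Ptab_s_626_641 c) (Nat.ble 626 c)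
noncomputable def Ptab_s_642_644 (c : Nat) : Nat := @Bool.rec (fun _ => Nat) (Ptab_642) (Ptab_643) (Nat.ble 643 c)
noncomputable def Ptab_s_641_644 (c : Nat) : Nat := @Bool.rec (fun _ => Nat) (Ptab_641) (Ptab_s_642_644 c) (Nat.ble 642 c)
noncomputable def Ptab_s_644_646 (c : Nat) : Nat := @Bool.rec (fun _ => Nat) (Ptab_644) (Ptab_645) (Nat.ble 645 c)
noncomputable def Ptab_s_646_648 (c : Nat) : Nat := @Bool.rec (fun _ => Nat) (Ptab_646) (Ptab_647) (Nat.ble 647 c)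
noncomputable def Ptab_s_644_648 (c : Nat) : Nat := @Bool.rec (fun _ => Nat) (Ptab_s_644_646 c) (Ptab_s_646_648 c) (Nat.ble 646 c)
noncomputable def Ptab_s_641_648 (c : Nat) : Nat := @Bool.rec (fun _ => Nat) (Ptab_s_641_644 c) (Ptab_s_644_648 c) (Nat.ble 644 c)
noncomputable def Ptab_s_648_650 (c : Nat) : Nat := @Bool.rec (fun _ => Nat) (Ptab_648) (Ptab_649) (Nat.ble 649 c)
noncomputable def Ptab_s_650_652 (c : Nat) : Nat := @Bool.rec (fun _ => Nat) (Ptab_650) (Ptab_651) (Nat.ble 651 c)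
noncomputable def Ptab_s_648_652 (c : Nat) : Nat := @Bool.rec (fun _ => Nat) (Ptab_s_648_650 c) (Ptab_s_650_652 c) (Nat.ble 650 c)
noncomputable def Ptab_s_652_654 (c : Nat) : Nat := @Bool.rec (fun _ => Nat) (Ptab_652) (Ptab_653) (Nat.ble 653 c)
noncomputable def Ptab_s_654_656 (c : Nat) : Nat := @Bool.rec (fun _ => Nat) (Ptab_654) (Ptab_655) (Nat.ble 655 c)
noncomputable def Ptab_s_652_656 (c : Nat) : Nat := @Bool.rec (fun _ => Nat) (Ptab_s_652_654 c) (Ptab_s_654_656 c) (Nat.ble 654 c)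
noncomputable def Ptab_s_648_656 (c : Nat) : Nat := @Bool.rec (fun _ => Nat) (Ptab_s_648_652 c) (Ptab_s_652_656 c) (Nat.ble 652 c)
noncomputable def Ptab_s_641_656 (c : Nat) : Nat := @Bool.rec (fun _ => Nat) (Ptab_s_641_648 c) (Ptab_s_648_656 c) (Nat.ble 648 c)
noncomputable def Ptab_s_656_658 (c : Nat) : Nat := @Bool.rec (fun _ => Nat) (Ptab_656) (Ptab_657) (Nat.ble 657 c)
noncomputable def Ptab_s_658_660 (c : Nat) : Nat := @Bool.rec (fun _ => Nat) (Ptab_658) (Ptab_659) (Nat.ble 659 c)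
noncomputable def Ptab_s_656_660 (c : Nat) : Nat := @Bool.rec (fun _ => Nat) (Ptab_s_656_658 c) (Ptab_s_658_660 c) (Nat.ble 658 c)
noncomputable def Ptab_s_660_662 (c : Nat) : Nat := @Bool.rec (fun _ => Nat) (Ptab_660) (Ptab_661) (Nat.ble 661 c)
noncomputable def Ptab_s_662_664 (c : Nat) : Nat := @Bool.rec (fun _ => Nat) (Ptab_662) (Ptab_663) (Nat.ble 663 c)
noncomputable def Ptab_s_660_664 (c : Nat) : Nat := @Bool.rec (fun _ => Nat) (Ptab_s_660_662 c) (Ptab_s_662_664 c) (Nat.ble 662 c)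
noncomputable def Ptab_s_656_664 (c : Nat) : Nat := @Bool.rec (fun _ => Nat) (Ptab_s_656_660 c) (Ptab_s_660_664 c) (Nat.ble 660 c)
noncomputable def Ptab_s_664_666 (c : Nat) : Nat := @Bool.rec (fun _ => Nat) (Ptab_664) (Ptab_665) (Nat.ble 665 c)
noncomputable def Ptab_s_666_668 (c : Nat) : Nat := @Bool.rec (fun _ => Nat) (Ptab_666) (Ptab_667) (Nat.ble 667 c)
noncomputable def Ptab_s_664_668 (c : Nat) : Nat := @Bool.rec (fun _ => Nat) (Ptab_s_664_666 c) (Ptab_s_666_668 c) (Nat.ble 666 c)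
noncomputable def Ptab_s_668_670 (c : Nat) : Nat := @Bool.rec (fun _ => Nat) (Ptab_668) (Ptab_669) (Nat.ble 669 c)
noncomputable def Ptab_s_670_672 (c : Nat) : Nat := @Bool.rec (fun _ => Nat) (Ptab_670) (Ptab_671) (Nat.ble 671 c)
noncomputable def Ptab_s_668_672 (c : Nat) : Nat := @Bool.rec (fun _ => Nat) (Ptab_s_668_670 c) (Ptab_s_670_672 c) (Nat.ble 670 c)
noncomputable def Ptab_s_664_672 (c : Nat) : Nat := @Bool.rec (fun _ => Nat) (Ptab_s_664_668 c) (Ptab_s_668_672 c) (Nat.ble 668 c)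
noncomputable def Ptab_s_656_672 (c : Nat) : Nat := @Bool.rec (fun _ => Nat) (Ptab_s_656_664 c) (Ptab_s_664_672 c) (Nat.ble 664 c)
noncomputable def Ptab_s_641_672 (c : Nat) : Nat := @Bool.rec (fun _ => Nat) (Ptab_s_641_656 c) (Ptab_s_656_672 c) (Nat.ble 656 c)
noncomputable def Ptab_s_611_672 (c : Nat) : Nat := @Bool.rec (fun _ => Nat) (Ptab_s_611_641 c) (Ptab_s_641_672 c) (Nat.ble 641 c)
noncomputable def Ptab_s_673_675 (c : Nat) : Nat := @Bool.rec (fun _ => Nat) (Ptab_673) (Ptab_674) (Nat.ble 674 c)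
noncomputable def Ptab_s_672_675 (c : Nat) : Nat := @Bool.rec (fun _ => Nat) (Ptab_672) (Ptab_s_673_675 c) (Nat.ble 673 c)
noncomputable def Ptab_s_675_677 (c : Nat) : Nat := @Bool.rec (fun _ => Nat) (Ptab_675) (Ptab_676) (Nat.ble 676 c)
noncomputable def Ptab_s_677_679 (c : Nat) : Nat := @Bool.rec (fun _ => Nat) (Ptab_677) (Ptab_678) (Nat.ble 678 c)
noncomputable def Ptab_s_675_679 (c : Nat) : Nat := @Bool.rec (fun _ => Nat) (Ptab_s_675_677 c) (Ptab_s_677_679 c) (Nat.ble 677 c)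
noncomputable def Ptab_s_672_679 (c : Nat) : Nat := @Bool.rec (fun _ => Nat) (Ptab_s_672_675 c) (Ptab_s_675_679 c) (Nat.ble 675 c)
noncomputable def Ptab_s_679_681 (c : Nat) : Nat := @Bool.rec (fun _ => Nat) (Ptab_679) (Ptab_680) (Nat.ble 680 c)
noncomputable def Ptab_s_681_683 (c : Nat) : Nat := @Bool.rec (fun _ => Nat) (Ptab_681) (Ptab_682) (Nat.ble 682 c)
noncomputable def Ptab_s_679_683 (c : Nat) : Nat := @Bool.rec (fun _ => Nat) (Ptab_s_679_681 c) (Ptab_s_681_683 c) (Nat.ble 681 c)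
noncomputable def Ptab_s_683_685 (c : Nat) : Nat := @Bool.rec (fun _ => Nat) (Ptab_683) (Ptab_684) (Nat.ble 684 c)
noncomputable def Ptab_s_685_687 (c : Nat) : Nat := @Bool.rec (fun _ => Nat) (Ptab_685) (Ptab_686) (Nat.ble 686 c)
noncomputable def Ptab_s_683_687 (c : Nat) : Nat := @Bool.rec (fun _ => Nat) (Ptab_s_683_685 c) (Ptab_s_685_687 c) (Nat.ble 685 c)
noncomputable def Ptab_s_679_687 (c : Nat) : Nat := @Bool.rec (fun _ => Nat) (Ptab_s_679_683 c) (Ptab_s_683_687 c) (Nat.ble 683 c)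
noncomputable def Ptab_s_672_687 (c : Nat) : Nat := @Bool.rec (fun _ => Nat) (Ptab_s_672_679 c) (Ptab_s_679_687 c) (Nat.ble 679 c)
noncomputable def Ptab_s_687_689 (c : Nat) : Nat := @Bool.rec (fun _ => Nat) (Ptab_687) (Ptab_688) (Nat.ble 688 c)
noncomputable def Ptab_s_689_691 (c : Nat) : Nat := @Bool.rec (fun _ => Nat) (Ptab_689) (Ptab_690) (Nat.ble 690 c)
noncomputable def Ptab_s_687_691 (c : Nat) : Nat := @Bool.rec (fun _ => Nat) (Ptab_s_687_689 c) (Ptab_s_689_691 c) (Nat.ble 689 c)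
noncomputable def Ptab_s_691_693 (c : Nat) : Nat := @Bool.rec (fun _ => Nat) (Ptab_691) (Ptab_692) (Nat.ble 692 c)
noncomputable def Ptab_s_693_695 (c : Nat) : Nat := @Bool.rec (fun _ => Nat) (Ptab_693) (Ptab_694) (Nat.ble 694 c)
noncomputable def Ptab_s_691_695 (c : Nat) : Nat := @Bool.rec (fun _ => Nat) (Ptab_s_691_693 c) (Ptab_s_693_695 c) (Nat.ble 693 c)
noncomputable def Ptab_s_687_695 (c : Nat) : Nat := @Bool.rec (fun _ => Nat) (Ptab_s_687_691 c) (Ptab_s_691_695 c) (Nat.ble 691 c)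
noncomputable def Ptab_s_695_697 (c : Nat) : Nat := @Bool.rec (fun _ => Nat) (Ptab_695) (Ptab_696) (Nat.ble 696 c)
noncomputable def Ptab_s_697_699 (c : Nat) : Nat := @Bool.rec (fun _ => Nat) (Ptab_697) (Ptab_698) (Nat.ble 698 c)
noncomputable def Ptab_s_695_699 (c : Nat) : Nat := @Bool.rec (fun _ => Nat) (Ptab_s_695_697 c) (Ptab_s_697_699 c) (Nat.ble 697 c)
noncomputable def Ptab_s_699_701 (c : Nat) : Nat := @Bool.rec (fun _ => Nat) (Ptab_699) (Ptab_700) (Nat.ble 700 c)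
noncomputable def Ptab_s_701_703 (c : Nat) : Nat := @Bool.rec (fun _ => Nat) (Ptab_701) (Ptab_702) (Nat.ble 702 c)
noncomputable def Ptab_s_699_703 (c : Nat) : Nat := @Bool.rec (fun _ => Nat) (Ptab_s_699_701 c) (Ptab_s_701_703 c) (Nat.ble 701 c)
noncomputable def Ptab_s_695_703 (c : Nat) : Nat := @Bool.rec (fun _ => Nat) (Ptab_s_695_699 c) (Ptab_s_699_703 c) (Nat.ble 699 c)
noncomputable def Ptab_s_687_703 (c : Nat) : Nat := @Bool.rec (fun _ => Nat) (Ptab_s_687_695 c) (Ptab_s_695_703 c) (Nat.ble 695 c)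
noncomputable def Ptab_s_672_703 (c : Nat) : Nat := @Bool.rec (fun _ => Nat) (Ptab_s_672_687 c) (Ptab_s_687_703 c) (Nat.ble 687 c)
noncomputable def Ptab_s_704_706 (c : Nat) : Nat := @Bool.rec (fun _ => Nat) (Ptab_704) (Ptab_705) (Nat.ble 705 c)
noncomputable def Ptab_s_703_706 (c : Nat) : Nat := @Bool.rec (fun _ => Nat) (Ptab_703) (Ptab_s_704_706 c) (Nat.ble 704 c)
noncomputable def Ptab_s_706_708 (c : Nat) : Nat := @Bool.rec (fun _ => Nat) (Ptab_706) (Ptab_707) (Nat.ble 707 c)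
noncomputable def Ptab_s_708_710 (c : Nat) : Nat := @Bool.rec (fun _ => Nat) (Ptab_708) (Ptab_709) (Nat.ble 709 c)
noncomputable def Ptab_s_706_710 (c : Nat) : Nat := @Bool.rec (fun _ => Nat) (Ptab_s_706_708 c) (Ptab_s_708_710 c) (Nat.ble 708 c)
noncomputable def Ptab_s_703_710 (c : Nat) : Nat := @Bool.rec (fun _ => Nat) (Ptab_s_703_706 c) (Ptab_s_706_710 c) (Nat.ble 706 c)
noncomputable def Ptab_s_710_712 (c : Nat) : Nat := @Bool.rec (fun _ => Nat) (Ptab_710) (Ptab_711) (Nat.ble 711 c)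
noncomputable def Ptab_s_712_714 (c : Nat) : Nat := @Bool.rec (fun _ => Nat) (Ptab_712) (Ptab_713) (Nat.ble 713 c)
noncomputable def Ptab_s_710_714 (c : Nat) : Nat := @Bool.rec (fun _ => Nat) (Ptab_s_710_712 c) (Ptab_s_712_714 c) (Nat.ble 712 c)
noncomputable def Ptab_s_714_716 (c : Nat) : Nat := @Bool.rec (fun _ => Nat) (Ptab_714) (Ptab_715) (Nat.ble 715 c)
noncomputable def Ptab_s_716_718 (c : Nat) : Nat := @Bool.rec (fun _ => Nat) (Ptab_716) (Ptab_717) (Nat.ble 717 c)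
noncomputable def Ptab_s_714_718 (c : Nat) : Nat := @Bool.rec (fun _ => Nat) (Ptab_s_714_716 c) (Ptab_s_716_718 c) (Nat.ble 716 c)
noncomputable def Ptab_s_710_718 (c : Nat) : Nat := @Bool.rec (fun _ => Nat) (Ptab_s_710_714 c) (Ptab_s_714_718 c) (Nat.ble 714 c)
noncomputable def Ptab_s_703_718 (c : Nat) : Nat := @Bool.rec (fun _ => Nat) (Ptab_s_703_710 c) (Ptab_s_710_718 c) (Nat.ble 710 c)
noncomputable def Ptab_s_718_720 (c : Nat) : Nat := @Bool.rec (fun _ => Nat) (Ptab_718) (Ptab_719) (Nat.ble 719 c)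
noncomputable def Ptab_s_720_722 (c : Nat) : Nat := @Bool.rec (fun _ => Nat) (Ptab_720) (Ptab_721) (Nat.ble 721 c)
noncomputable def Ptab_s_718_722 (c : Nat) : Nat := @Bool.rec (fun _ => Nat) (Ptab_s_718_720 c) (Ptab_s_720_722 c) (Nat.ble 720 c)
noncomputable def Ptab_s_722_724 (c : Nat) : Nat := @Bool.rec (fun _ => Nat) (Ptab_722) (Ptab_723) (Nat.ble 723 c)
noncomputable def Ptab_s_724_726 (c : Nat) : Nat := @Bool.rec (fun _ => Nat) (Ptab_724) (Ptab_725) (Nat.ble 725 c)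
noncomputable def Ptab_s_722_726 (c : Nat) : Nat := @Bool.rec (fun _ => Nat) (Ptab_s_722_724 c) (Ptab_s_724_726 c) (Nat.ble 724 c)
noncomputable def Ptab_s_718_726 (c : Nat) : Nat := @Bool.rec (fun _ => Nat) (Ptab_s_718_722 c) (Ptab_s_722_726 c) (Nat.ble 722 c)
noncomputable def Ptab_s_726_728 (c : Nat) : Nat := @Bool.rec (fun _ => Nat) (Ptab_726) (Ptab_727) (Nat.ble 727 c)
noncomputable def Ptab_s_728_730 (c : Nat) : Nat := @Bool.rec (fun _ => Nat) (Ptab_728) (Ptab_729) (Nat.ble 729 c)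
noncomputable def Ptab_s_726_730 (c : Nat) : Nat := @Bool.rec (fun _ => Nat) (Ptab_s_726_728 c) (Ptab_s_728_730 c) (Nat.ble 728 c)
noncomputable def Ptab_s_730_732 (c : Nat) : Nat := @Bool.rec (fun _ => Nat) (Ptab_730) (Ptab_731) (Nat.ble 731 c)
noncomputable def Ptab_s_732_734 (c : Nat) : Nat := @Bool.rec (fun _ => Nat) (Ptab_732) (Ptab_733) (Nat.ble 733 c)
noncomputable def Ptab_s_730_734 (c : Nat) : Nat := @Bool.rec (fun _ => Nat) (Ptab_s_730_732 c) (Ptab_s_732_734 c) (Nat.ble 732 c)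
noncomputable def Ptab_s_726_734 (c : Nat) : Nat := @Bool.rec (fun _ => Nat) (Ptab_s_726_730 c) (Ptab_s_730_734 c) (Nat.ble 730 c)
noncomputable def Ptab_s_718_734 (c : Nat) : Nat := @Bool.rec (fun _ => Nat) (Ptab_s_718_726 c) (Ptab_s_726_734 c) (Nat.ble 726 c)
noncomputable def Ptab_s_703_734 (c : Nat) : Nat := @Bool.rec (fun _ => Nat) (Ptab_s_703_718 c) (Ptab_s_718_734 c) (Nat.ble 718 c)
noncomputable def Ptab_s_672_734 (c : Nat) : Nat := @Bool.rec (fun _ => Nat) (Ptab_s_672_703 c) (Ptab_s_703_734 c) (Nat.ble 703 c)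
noncomputable def Ptab_s_611_734 (c : Nat) : Nat := @Bool.rec (fun _ => Nat) (Ptab_s_611_672 c) (Ptab_s_672_734 c) (Nat.ble 672 c)
noncomputable def Ptab_s_489_734 (c : Nat) : Nat := @Bool.rec (fun _ => Nat) (Ptab_s_489_611 c) (Ptab_s_611_734 c) (Nat.ble 611 c)
noncomputable def Ptab_s_735_737 (c : Nat) : Nat := @Bool.rec (fun _ => Nat) (Ptab_735) (Ptab_736) (Nat.ble 736 c)
noncomputable def Ptab_s_734_737 (c : Nat) : Nat := @Bool.rec (fun _ => Nat) (Ptab_734) (Ptab_s_735_737 c) (Nat.ble 735 c)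
noncomputable def Ptab_s_737_739 (c : Nat) : Nat := @Bool.rec (fun _ => Nat) (Ptab_737) (Ptab_738) (Nat.ble 738 c)
noncomputable def Ptab_s_739_741 (c : Nat) : Nat := @Bool.rec (fun _ => Nat) (Ptab_739) (Ptab_740) (Nat.ble 740 c)
noncomputable def Ptab_s_737_741 (c : Nat) : Nat := @Bool.rec (fun _ => Nat) (Ptab_s_737_739 c) (Ptab_s_739_741 c) (Nat.ble 739 c)
noncomputable def Ptab_s_734_741 (c : Nat) : Nat := @Bool.rec (fun _ => Nat) (Ptab_s_734_737 c) (Ptab_s_737_741 c) (Nat.ble 737 c)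
noncomputable def Ptab_s_741_743 (c : Nat) : Nat := @Bool.rec (fun _ => Nat) (Ptab_741) (Ptab_742) (Nat.ble 742 c)
noncomputable def Ptab_s_743_745 (c : Nat) : Nat := @Bool.rec (fun _ => Nat) (Ptab_743) (Ptab_744) (Nat.ble 744 c)
noncomputable def Ptab_s_741_745 (c : Nat) : Nat := @Bool.rec (fun _ => Nat) (Ptab_s_741_743 c) (Ptab_s_743_745 c) (Nat.ble 743 c)
noncomputable def Ptab_s_745_747 (c : Nat) : Nat := @Bool.rec (fun _ => Nat) (Ptab_745) (Ptab_746) (Nat.ble 746 c)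
noncomputable def Ptab_s_747_749 (c : Nat) : Nat := @Bool.rec (fun _ => Nat) (Ptab_747) (Ptab_748) (Nat.ble 748 c)
noncomputable def Ptab_s_745_749 (c : Nat) : Nat := @Bool.rec (fun _ => Nat) (Ptab_s_745_747 c) (Ptab_s_747_749 c) (Nat.ble 747 c)
noncomputable def Ptab_s_741_749 (c : Nat) : Nat := @Bool.rec (fun _ => Nat) (Ptab_s_741_745 c) (Ptab_s_745_749 c) (Nat.ble 745 c)
noncomputable def Ptab_s_734_749 (c : Nat) : Nat := @Bool.rec (fun _ => Nat) (Ptab_s_734_741 c) (Ptab_s_741_749 c) (Nat.ble 741 c)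
noncomputable def Ptab_s_750_752 (c : Nat) : Nat := @Bool.rec (fun _ => Nat) (Ptab_750) (Ptab_751) (Nat.ble 751 c)
noncomputable def Ptab_s_749_752 (c : Nat) : Nat := @Bool.rec (fun _ => Nat) (Ptab_749) (Ptab_s_750_752 c) (Nat.ble 750 c)
noncomputable def Ptab_s_752_754 (c : Nat) : Nat := @Bool.rec (fun _ => Nat) (Ptab_752) (Ptab_753) (Nat.ble 753 c)
noncomputable def Ptab_s_754_756 (c : Nat) : Nat := @Bool.rec (fun _ => Nat) (Ptab_754) (Ptab_755) (Nat.ble 755 c)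
noncomputable def Ptab_s_752_756 (c : Nat) : Nat := @Bool.rec (fun _ => Nat) (Ptab_s_752_754 c) (Ptab_s_754_756 c) (Nat.ble 754 c)
noncomputable def Ptab_s_749_756 (c : Nat) : Nat := @Bool.rec (fun _ => Nat) (Ptab_s_749_752 c) (Ptab_s_752_756 c) (Nat.ble 752 c)
noncomputable def Ptab_s_756_758 (c : Nat) : Nat := @Bool.rec (fun _ => Nat) (Ptab_756) (Ptab_757) (Nat.ble 757 c)
noncomputable def Ptab_s_758_760 (c : Nat) : Nat := @Bool.rec (fun _ => Nat) (Ptab_758) (Ptab_759) (Nat.ble 759 c)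
noncomputable def Ptab_s_756_760 (c : Nat) : Nat := @Bool.rec (fun _ => Nat) (Ptab_s_756_758 c) (Ptab_s_758_760 c) (Nat.ble 758 c)
noncomputable def Ptab_s_760_762 (c : Nat) : Nat := @Bool.rec (fun _ => Nat) (Ptab_760) (Ptab_761) (Nat.ble 761 c)
noncomputable def Ptab_s_762_764 (c : Nat) : Nat := @Bool.rec (fun _ => Nat) (Ptab_762) (Ptab_763) (Nat.ble 763 c)
noncomputable def Ptab_s_760_764 (c : Nat) : Nat := @Bool.rec (fun _ => Nat) (Ptab_s_760_762 c) (Ptab_s_762_764 c) (Nat.ble 762 c)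
noncomputable def Ptab_s_756_764 (c : Nat) : Nat := @Bool.rec (fun _ => Nat) (Ptab_s_756_760 c) (Ptab_s_760_764 c) (Nat.ble 760 c)
noncomputable def Ptab_s_749_764 (c : Nat) : Nat := @Bool.rec (fun _ => Nat) (Ptab_s_749_756 c) (Ptab_s_756_764 c) (Nat.ble 756 c)
noncomputable def Ptab_s_734_764 (c : Nat) : Nat := @Bool.rec (fun _ => Nat) (Ptab_s_734_749 c) (Ptab_s_749_764 c) (Nat.ble 749 c)
noncomputable def Ptab_s_765_767 (c : Nat) : Nat := @Bool.rec (fun _ => Nat) (Ptab_765) (Ptab_766) (Nat.ble 766 c)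
noncomputable def Ptab_s_764_767 (c : Nat) : Nat := @Bool.rec (fun _ => Nat) (Ptab_764) (Ptab_s_765_767 c) (Nat.ble 765 c)
noncomputable def Ptab_s_767_769 (c : Nat) : Nat := @Bool.rec (fun _ => Nat) (Ptab_767) (Ptab_768) (Nat.ble 768 c)
noncomputable def Ptab_s_769_771 (c : Nat) : Nat := @Bool.rec (fun _ => Nat) (Ptab_769) (Ptab_770) (Nat.ble 770 c)
noncomputable def Ptab_s_767_771 (c : Nat) : Nat := @Bool.rec (fun _ => Nat) (Ptab_s_767_769 c) (Ptab_s_769_771 c) (Nat.ble 769 c)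
noncomputable def Ptab_s_764_771 (c : Nat) : Nat := @Bool.rec (fun _ => Nat) (Ptab_s_764_767 c) (Ptab_s_767_771 c) (Nat.ble 767 c)
noncomputable def Ptab_s_771_773 (c : Nat) : Nat := @Bool.rec (fun _ => Nat) (Ptab_771) (Ptab_772) (Nat.ble 772 c)
noncomputable def Ptab_s_773_775 (c : Nat) : Nat := @Bool.rec (fun _ => Nat) (Ptab_773) (Ptab_774) (Nat.ble 774 c)
noncomputable def Ptab_s_771_775 (c : Nat) : Nat := @Bool.rec (fun _ => Nat) (Ptab_s_771_773 c) (Ptab_s_773_775 c) (Nat.ble 773 c)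
noncomputable def Ptab_s_775_777 (c : Nat) : Nat := @Bool.rec (fun _ => Nat) (Ptab_775) (Ptab_776) (Nat.ble 776 c)
noncomputable def Ptab_s_777_779 (c : Nat) : Nat := @Bool.rec (fun _ => Nat) (Ptab_777) (Ptab_778) (Nat.ble 778 c)
noncomputable def Ptab_s_775_779 (c : Nat) : Nat := @Bool.rec (fun _ => Nat) (Ptab_s_775_777 c) (Ptab_s_777_779 c) (Nat.ble 777 c)
noncomputable def Ptab_s_771_779 (c : Nat) : Nat := @Bool.rec (fun _ => Nat) (Ptab_s_771_775 c) (Ptab_s_775_779 c) (Nat.ble 775 c)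
noncomputable def Ptab_s_764_779 (c : Nat) : Nat := @Bool.rec (fun _ => Nat) (Ptab_s_764_771 c) (Ptab_s_771_779 c) (Nat.ble 771 c)
noncomputable def Ptab_s_779_781 (c : Nat) : Nat := @Bool.rec (fun _ => Nat) (Ptab_779) (Ptab_780) (Nat.ble 780 c)
noncomputable def Ptab_s_781_783 (c : Nat) : Nat := @Bool.rec (fun _ => Nat) (Ptab_781) (Ptab_782) (Nat.ble 782 c)
noncomputable def Ptab_s_779_783 (c : Nat) : Nat := @Bool.rec (fun _ => Nat) (Ptab_s_779_781 c) (Ptab_s_781_783 c) (Nat.ble 781 c)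
noncomputable def Ptab_s_783_785 (c : Nat) : Nat := @Bool.rec (fun _ => Nat) (Ptab_783) (Ptab_784) (Nat.ble 784 c)
noncomputable def Ptab_s_785_787 (c : Nat) : Nat := @Bool.rec (fun _ => Nat) (Ptab_785) (Ptab_786) (Nat.ble 786 c)
noncomputable def Ptab_s_783_787 (c : Nat) : Nat := @Bool.rec (fun _ => Nat) (Ptab_s_783_785 c) (Ptab_s_785_787 c) (Nat.ble 785 c)
noncomputable def Ptab_s_779_787 (c : Nat) : Nat := @Bool.rec (fun _ => Nat) (Ptab_s_779_783 c) (Ptab_s_783_787 c) (Nat.ble 783 c)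
noncomputable def Ptab_s_787_789 (c : Nat) : Nat := @Bool.rec (fun _ => Nat) (Ptab_787) (Ptab_788) (Nat.ble 788 c)
noncomputable def Ptab_s_789_791 (c : Nat) : Nat := @Bool.rec (fun _ => Nat) (Ptab_789) (Ptab_790) (Nat.ble 790 c)
noncomputable def Ptab_s_787_791 (c : Nat) : Nat := @Bool.rec (fun _ => Nat) (Ptab_s_787_789 c) (Ptab_s_789_791 c) (Nat.ble 789 c)
noncomputable def Ptab_s_791_793 (c : Nat) : Nat := @Bool.rec (fun _ => Nat) (Ptab_791) (Ptab_792) (Nat.ble 792 c)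
noncomputable def Ptab_s_793_795 (c : Nat) : Nat := @Bool.rec (fun _ => Nat) (Ptab_793) (Ptab_794) (Nat.ble 794 c)
noncomputable def Ptab_s_791_795 (c : Nat) : Nat := @Bool.rec (fun _ => Nat) (Ptab_s_791_793 c) (Ptab_s_793_795 c) (Nat.ble 793 c)
noncomputable def Ptab_s_787_795 (c : Nat) : Nat := @Bool.rec (fun _ => Nat) (Ptab_s_787_791 c) (Ptab_s_791_795 c) (Nat.ble 791 c)
noncomputable def Ptab_s_779_795 (c : Nat) : Nat := @Bool.rec (fun _ => Nat) (Ptab_s_779_787 c) (Ptab_s_787_795 c) (Nat.ble 787 c)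
noncomputable def Ptab_s_764_795 (c : Nat) : Nat := @Bool.rec (fun _ => Nat) (Ptab_s_764_779 c) (Ptab_s_779_795 c) (Nat.ble 779 c)
noncomputable def Ptab_s_734_795 (c : Nat) : Nat := @Bool.rec (fun _ => Nat) (Ptab_s_734_764 c) (Ptab_s_764_795 c) (Nat.ble 764 c)
noncomputable def Ptab_s_796_798 (c : Nat) : Nat := @Bool.rec (fun _ => Nat) (Ptab_796) (Ptab_797) (Nat.ble 797 c)
noncomputable def Ptab_s_795_798 (c : Nat) : Nat := @Bool.rec (fun _ => Nat) (Ptab_795) (Ptab_s_796_798 c) (Nat.ble 796 c)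
noncomputable def Ptab_s_798_800 (c : Nat) : Nat := @Bool.rec (fun _ => Nat) (Ptab_798) (Ptab_799) (Nat.ble 799 c)
noncomputable def Ptab_s_800_802 (c : Nat) : Nat := @Bool.rec (fun _ => Nat) (Ptab_800) (Ptab_801) (Nat.ble 801 c)
noncomputable def Ptab_s_798_802 (c : Nat) : Nat := @Bool.rec (fun _ => Nat) (Ptab_s_798_800 c) (Ptab_s_800_802 c) (Nat.ble 800 c)
noncomputable def Ptab_s_795_802 (c : Nat) : Nat := @Bool.rec (fun _ => Nat) (Ptab_s_795_798 c) (Ptab_s_798_802 c) (Nat.ble 798 c)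
noncomputable def Ptab_s_802_804 (c : Nat) : Nat := @Bool.rec (fun _ => Nat) (Ptab_802) (Ptab_803) (Nat.ble 803 c)
noncomputable def Ptab_s_804_806 (c : Nat) : Nat := @Bool.rec (fun _ => Nat) (Ptab_804) (Ptab_805) (Nat.ble 805 c)
noncomputable def Ptab_s_802_806 (c : Nat) : Nat := @Bool.rec (fun _ => Nat) (Ptab_s_802_804 c) (Ptab_s_804_806 c) (Nat.ble 804 c)
noncomputable def Ptab_s_806_808 (c : Nat) : Nat := @Bool.rec (fun _ => Nat) (Ptab_806) (Ptab_807) (Nat.ble 807 c)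
noncomputable def Ptab_s_808_810 (c : Nat) : Nat := @Bool.rec (fun _ => Nat) (Ptab_808) (Ptab_809) (Nat.ble 809 c)
noncomputable def Ptab_s_806_810 (c : Nat) : Nat := @Bool.rec (fun _ => Nat) (Ptab_s_806_808 c) (Ptab_s_808_810 c) (Nat.ble 808 c)
noncomputable def Ptab_s_802_810 (c : Nat) : Nat := @Bool.rec (fun _ => Nat) (Ptab_s_802_806 c) (Ptab_s_806_810 c) (Nat.ble 806 c)
noncomputable def Ptab_s_795_810 (c : Nat) : Nat := @Bool.rec (fun _ => Nat) (Ptab_s_795_802 c) (Ptab_s_802_810 c) (Nat.ble 802 c)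
noncomputable def Ptab_s_811_813 (c : Nat) : Nat := @Bool.rec (fun _ => Nat) (Ptab_811) (Ptab_812) (Nat.ble 812 c)
noncomputable def Ptab_s_810_813 (c : Nat) : Nat := @Bool.rec (fun _ => Nat) (Ptab_810) (Ptab_s_811_813 c) (Nat.ble 811 c)
noncomputable def Ptab_s_813_815 (c : Nat) : Nat := @Bool.rec (fun _ => Nat) (Ptab_813) (Ptab_814) (Nat.ble 814 c)
noncomputable def Ptab_s_815_817 (c : Nat) : Nat := @Bool.rec (fun _ => Nat) (Ptab_815) (Ptab_816) (Nat.ble 816 c)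
noncomputable def Ptab_s_813_817 (c : Nat) : Nat := @Bool.rec (fun _ => Nat) (Ptab_s_813_815 c) (Ptab_s_815_817 c) (Nat.ble 815 c)
noncomputable def Ptab_s_810_817 (c : Nat) : Nat := @Bool.rec (fun _ => Nat) (Ptab_s_810_813 c) (Ptab_s_813_817 c) (Nat.ble 813 c)
noncomputable def Ptab_s_817_819 (c : Nat) : Nat := @Bool.rec (fun _ => Nat) (Ptab_817) (Ptab_818) (Nat.ble 818 c)
noncomputable def Ptab_s_819_821 (c : Nat) : Nat := @Bool.rec (fun _ => Nat) (Ptab_819) (Ptab_820) (Nat.ble 820 c)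
noncomputable def Ptab_s_817_821 (c : Nat) : Nat := @Bool.rec (fun _ => Nat) (Ptab_s_817_819 c) (Ptab_s_819_821 c) (Nat.ble 819 c)
noncomputable def Ptab_s_821_823 (c : Nat) : Nat := @Bool.rec (fun _ => Nat) (Ptab_821) (Ptab_822) (Nat.ble 822 c)
noncomputable def Ptab_s_823_825 (c : Nat) : Nat := @Bool.rec (fun _ => Nat) (Ptab_823) (Ptab_824) (Nat.ble 824 c)
noncomputable def Ptab_s_821_825 (c : Nat) : Nat := @Bool.rec (fun _ => Nat) (Ptab_s_821_823 c) (Ptab_s_823_825 c) (Nat.ble 823 c)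
noncomputable def Ptab_s_817_825 (c : Nat) : Nat := @Bool.rec (fun _ => Nat) (Ptab_s_817_821 c) (Ptab_s_821_825 c) (Nat.ble 821 c)
noncomputable def Ptab_s_810_825 (c : Nat) : Nat := @Bool.rec (fun _ => Nat) (Ptab_s_810_817 c) (Ptab_s_817_825 c) (Nat.ble 817 c)
noncomputable def Ptab_s_795_825 (c : Nat) : Nat := @Bool.rec (fun _ => Nat) (Ptab_s_795_810 c) (Ptab_s_810_825 c) (Nat.ble 810 c)
noncomputable def Ptab_s_826_828 (c : Nat) : Nat := @Bool.rec (fun _ => Nat) (Ptab_826) (Ptab_827) (Nat.ble 827 c)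
noncomputable def Ptab_s_825_828 (c : Nat) : Nat := @Bool.rec (fun _ => Nat) (Ptab_825) (Ptab_s_826_828 c) (Nat.ble 826 c)
noncomputable def Ptab_s_828_830 (c : Nat) : Nat := @Bool.rec (fun _ => Nat) (Ptab_828) (Ptab_829) (Nat.ble 829 c)
noncomputable def Ptab_s_830_832 (c : Nat) : Nat := @Bool.rec (fun _ => Nat) (Ptab_830) (Ptab_831) (Nat.ble 831 c)
noncomputable def Ptab_s_828_832 (c : Nat) : Nat := @Bool.rec (fun _ => Nat) (Ptab_s_828_830 c) (Ptab_s_830_832 c) (Nat.ble 830 c)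
noncomputable def Ptab_s_825_832 (c : Nat) : Nat := @Bool.rec (fun _ => Nat) (Ptab_s_825_828 c) (Ptab_s_828_832 c) (Nat.ble 828 c)
noncomputable def Ptab_s_832_834 (c : Nat) : Nat := @Bool.rec (fun _ => Nat) (Ptab_832) (Ptab_833) (Nat.ble 833 c)
noncomputable def Ptab_s_834_836 (c : Nat) : Nat := @Bool.rec (fun _ => Nat) (Ptab_834) (Ptab_835) (Nat.ble 835 c)
noncomputable def Ptab_s_832_836 (c : Nat) : Nat := @Bool.rec (fun _ => Nat) (Ptab_s_832_834 c) (Ptab_s_834_836 c) (Nat.ble 834 c)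
noncomputable def Ptab_s_836_838 (c : Nat) : Nat := @Bool.rec (fun _ => Nat) (Ptab_836) (Ptab_837) (Nat.ble 837 c)
noncomputable def Ptab_s_838_840 (c : Nat) : Nat := @Bool.rec (fun _ => Nat) (Ptab_838) (Ptab_839) (Nat.ble 839 c)
noncomputable def Ptab_s_836_840 (c : Nat) : Nat := @Bool.rec (fun _ => Nat) (Ptab_s_836_838 c) (Ptab_s_838_840 c) (Nat.ble 838 c)
noncomputable def Ptab_s_832_840 (c : Nat) : Nat := @Bool.rec (fun _ => Nat) (Ptab_s_832_836 c) (Ptab_s_836_840 c) (Nat.ble 836 c)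
noncomputable def Ptab_s_825_840 (c : Nat) : Nat := @Bool.rec (fun _ => Nat) (Ptab_s_825_832 c) (Ptab_s_832_840 c) (Nat.ble 832 c)
noncomputable def Ptab_s_840_842 (c : Nat) : Nat := @Bool.rec (fun _ => Nat) (Ptab_840) (Ptab_841) (Nat.ble 841 c)
noncomputable def Ptab_s_842_844 (c : Nat) : Nat := @Bool.rec (fun _ => Nat) (Ptab_842) (Ptab_843) (Nat.ble 843 c)
noncomputable def Ptab_s_840_844 (c : Nat) : Nat := @Bool.rec (fun _ => Nat) (Ptab_s_840_842 c) (Ptab_s_842_844 c) (Nat.ble 842 c)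
noncomputable def Ptab_s_844_846 (c : Nat) : Nat := @Bool.rec (fun _ => Nat) (Ptab_844) (Ptab_845) (Nat.ble 845 c)
noncomputable def Ptab_s_846_848 (c : Nat) : Nat := @Bool.rec (fun _ => Nat) (Ptab_846) (Ptab_847) (Nat.ble 847 c)
noncomputable def Ptab_s_844_848 (c : Nat) : Nat := @Bool.rec (fun _ => Nat) (Ptab_s_844_846 c) (Ptab_s_846_848 c) (Nat.ble 846 c)
noncomputable def Ptab_s_840_848 (c : Nat) : Nat := @Bool.rec (fun _ => Nat) (Ptab_s_840_844 c) (Ptab_s_844_848 c) (Nat.ble 844 c)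
noncomputable def Ptab_s_848_850 (c : Nat) : Nat := @Bool.rec (fun _ => Nat) (Ptab_848) (Ptab_849) (Nat.ble 849 c)
noncomputable def Ptab_s_850_852 (c : Nat) : Nat := @Bool.rec (fun _ => Nat) (Ptab_850) (Ptab_851) (Nat.ble 851 c)
noncomputable def Ptab_s_848_852 (c : Nat) : Nat := @Bool.rec (fun _ => Nat) (Ptab_s_848_850 c) (Ptab_s_850_852 c) (Nat.ble 850 c)
noncomputable def Ptab_s_852_854 (c : Nat) : Nat := @Bool.rec (fun _ => Nat) (Ptab_852) (Ptab_853) (Nat.ble 853 c)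
noncomputable def Ptab_s_854_856 (c : Nat) : Nat := @Bool.rec (fun _ => Nat) (Ptab_854) (Ptab_855) (Nat.ble 855 c)
noncomputable def Ptab_s_852_856 (c : Nat) : Nat := @Bool.rec (fun _ => Nat) (Ptab_s_852_854 c) (Ptab_s_854_856 c) (Nat.ble 854 c)
noncomputable def Ptab_s_848_856 (c : Nat) : Nat := @Bool.rec (fun _ => Nat) (Ptab_s_848_852 c) (Ptab_s_852_856 c) (Nat.ble 852 c)
noncomputable def Ptab_s_840_856 (c : Nat) : Nat := @Bool.rec (fun _ => Nat) (Ptab_s_840_848 c) (Ptab_s_848_856 c) (Nat.ble 848 c)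
noncomputable def Ptab_s_825_856 (c : Nat) : Nat := @Bool.rec (fun _ => Nat) (Ptab_s_825_840 c) (Ptab_s_840_856 c) (Nat.ble 840 c)
noncomputable def Ptab_s_795_856 (c : Nat) : Nat := @Bool.rec (fun _ => Nat) (Ptab_s_795_825 c) (Ptab_s_825_856 c) (Nat.ble 825 c)
noncomputable def Ptab_s_734_856 (c : Nat) : Nat := @Bool.rec (fun _ => Nat) (Ptab_s_734_795 c) (Ptab_s_795_856 c) (Nat.ble 795 c)
noncomputable def Ptab_s_857_859 (c : Nat) : Nat := @Bool.rec (fun _ => Nat) (Ptab_857) (Ptab_858) (Nat.ble 858 c)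
noncomputable def Ptab_s_856_859 (c : Nat) : Nat := @Bool.rec (fun _ => Nat) (Ptab_856) (Ptab_s_857_859 c) (Nat.ble 857 c)
noncomputable def Ptab_s_859_861 (c : Nat) : Nat := @Bool.rec (fun _ => Nat) (Ptab_859) (Ptab_860) (Nat.ble 860 c)
noncomputable def Ptab_s_861_863 (c : Nat) : Nat := @Bool.rec (fun _ => Nat) (Ptab_861) (Ptab_862) (Nat.ble 862 c)
noncomputable def Ptab_s_859_863 (c : Nat) : Nat := @Bool.rec (fun _ => Nat) (Ptab_s_859_861 c) (Ptab_s_861_863 c) (Nat.ble 861 c)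
noncomputable def Ptab_s_856_863 (c : Nat) : Nat := @Bool.rec (fun _ => Nat) (Ptab_s_856_859 c) (Ptab_s_859_863 c) (Nat.ble 859 c)
noncomputable def Ptab_s_863_865 (c : Nat) : Nat := @Bool.rec (fun _ => Nat) (Ptab_863) (Ptab_864) (Nat.ble 864 c)
noncomputable def Ptab_s_865_867 (c : Nat) : Nat := @Bool.rec (fun _ => Nat) (Ptab_865) (Ptab_866) (Nat.ble 866 c)
noncomputable def Ptab_s_863_867 (c : Nat) : Nat := @Bool.rec (fun _ => Nat) (Ptab_s_863_865 c) (Ptab_s_865_867 c) (Nat.ble 865 c)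
noncomputable def Ptab_s_867_869 (c : Nat) : Nat := @Bool.rec (fun _ => Nat) (Ptab_867) (Ptab_868) (Nat.ble 868 c)
noncomputable def Ptab_s_869_871 (c : Nat) : Nat := @Bool.rec (fun _ => Nat) (Ptab_869) (Ptab_870) (Nat.ble 870 c)
noncomputable def Ptab_s_867_871 (c : Nat) : Nat := @Bool.rec (fun _ => Nat) (Ptab_s_867_869 c) (Ptab_s_869_871 c) (Nat.ble 869 c)
noncomputable def Ptab_s_863_871 (c : Nat) : Nat := @Bool.rec (fun _ => Nat) (Ptab_s_863_867 c) (Ptab_s_867_871 c) (Nat.ble 867 c)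
noncomputable def Ptab_s_856_871 (c : Nat) : Nat := @Bool.rec (fun _ => Nat) (Ptab_s_856_863 c) (Ptab_s_863_871 c) (Nat.ble 863 c)
noncomputable def Ptab_s_872_874 (c : Nat) : Nat := @Bool.rec (fun _ => Nat) (Ptab_872) (Ptab_873) (Nat.ble 873 c)
noncomputable def Ptab_s_871_874 (c : Nat) : Nat := @Bool.rec (fun _ => Nat) (Ptab_871) (Ptab_s_872_874 c) (Nat.ble 872 c)
noncomputable def Ptab_s_874_876 (c : Nat) : Nat := @Bool.rec (fun _ => Nat) (Ptab_874) (Ptab_875) (Nat.ble 875 c)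
noncomputable def Ptab_s_876_878 (c : Nat) : Nat := @Bool.rec (fun _ => Nat) (Ptab_876) (Ptab_877) (Nat.ble 877 c)
noncomputable def Ptab_s_874_878 (c : Nat) : Nat := @Bool.rec (fun _ => Nat) (Ptab_s_874_876 c) (Ptab_s_876_878 c) (Nat.ble 876 c)
noncomputable def Ptab_s_871_878 (c : Nat) : Nat := @Bool.rec (fun _ => Nat) (Ptab_s_871_874 c) (Ptab_s_874_878 c) (Nat.ble 874 c)
noncomputable def Ptab_s_878_880 (c : Nat) : Nat := @Bool.rec (fun _ => Nat) (Ptab_878) (Ptab_879) (Nat.ble 879 c)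
noncomputable def Ptab_s_880_882 (c : Nat) : Nat := @Bool.rec (fun _ => Nat) (Ptab_880) (Ptab_881) (Nat.ble 881 c)
noncomputable def Ptab_s_878_882 (c : Nat) : Nat := @Bool.rec (fun _ => Nat) (Ptab_s_878_880 c) (Ptab_s_880_882 c) (Nat.ble 880 c)
noncomputable def Ptab_s_882_884 (c : Nat) : Nat := @Bool.rec (fun _ => Nat) (Ptab_882) (Ptab_883) (Nat.ble 883 c)
noncomputable def Ptab_s_884_886 (c : Nat) : Nat := @Bool.rec (fun _ => Nat) (Ptab_884) (Ptab_885) (Nat.ble 885 c)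
noncomputable def Ptab_s_882_886 (c : Nat) : Nat := @Bool.rec (fun _ => Nat) (Ptab_s_882_884 c) (Ptab_s_884_886 c) (Nat.ble 884 c)
noncomputable def Ptab_s_878_886 (c : Nat) : Nat := @Bool.rec (fun _ => Nat) (Ptab_s_878_882 c) (Ptab_s_882_886 c) (Nat.ble 882 c)
noncomputable def Ptab_s_871_886 (c : Nat) : Nat := @Bool.rec (fun _ => Nat) (Ptab_s_871_878 c) (Ptab_s_878_886 c) (Nat.ble 878 c)
noncomputable def Ptab_s_856_886 (c : Nat) : Nat := @Bool.rec (fun _ => Nat) (Ptab_s_856_871 c) (Ptab_s_871_886 c) (Nat.ble 871 c)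
noncomputable def Ptab_s_887_889 (c : Nat) : Nat := @Bool.rec (fun _ => Nat) (Ptab_887) (Ptab_888) (Nat.ble 888 c)
noncomputable def Ptab_s_886_889 (c : Nat) : Nat := @Bool.rec (fun _ => Nat) (Ptab_886) (Ptab_s_887_889 c) (Nat.ble 887 c)
noncomputable def Ptab_s_889_891 (c : Nat) : Nat := @Bool.rec (fun _ => Nat) (Ptab_889) (Ptab_890) (Nat.ble 890 c)
noncomputable def Ptab_s_891_893 (c : Nat) : Nat := @Bool.rec (fun _ => Nat) (Ptab_891) (Ptab_892) (Nat.ble 892 c)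
noncomputable def Ptab_s_889_893 (c : Nat) : Nat := @Bool.rec (fun _ => Nat) (Ptab_s_889_891 c) (Ptab_s_891_893 c) (Nat.ble 891 c)
noncomputable def Ptab_s_886_893 (c : Nat) : Nat := @Bool.rec (fun _ => Nat) (Ptab_s_886_889 c) (Ptab_s_889_893 c) (Nat.ble 889 c)
noncomputable def Ptab_s_893_895 (c : Nat) : Nat := @Bool.rec (fun _ => Nat) (Ptab_893) (Ptab_894) (Nat.ble 894 c)
noncomputable def Ptab_s_895_897 (c : Nat) : Nat := @Bool.rec (fun _ => Nat) (Ptab_895) (Ptab_896) (Nat.ble 896 c)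
noncomputable def Ptab_s_893_897 (c : Nat) : Nat := @Bool.rec (fun _ => Nat) (Ptab_s_893_895 c) (Ptab_s_895_897 c) (Nat.ble 895 c)
noncomputable def Ptab_s_897_899 (c : Nat) : Nat := @Bool.rec (fun _ => Nat) (Ptab_897) (Ptab_898) (Nat.ble 898 c)
noncomputable def Ptab_s_899_901 (c : Nat) : Nat := @Bool.rec (fun _ => Nat) (Ptab_899) (Ptab_900) (Nat.ble 900 c)
noncomputable def Ptab_s_897_901 (c : Nat) : Nat := @Bool.rec (fun _ => Nat) (Ptab_s_897_899 c) (Ptab_s_899_901 c) (Nat.ble 899 c)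
noncomputable def Ptab_s_893_901 (c : Nat) : Nat := @Bool.rec (fun _ => Nat) (Ptab_s_893_897 c) (Ptab_s_897_901 c) (Nat.ble 897 c)
noncomputable def Ptab_s_886_901 (c : Nat) : Nat := @Bool.rec (fun _ => Nat) (Ptab_s_886_893 c) (Ptab_s_893_901 c) (Nat.ble 893 c)
noncomputable def Ptab_s_901_903 (c : Nat) : Nat := @Bool.rec (fun _ => Nat) (Ptab_901) (Ptab_902) (Nat.ble 902 c)
noncomputable def Ptab_s_903_905 (c : Nat) : Nat := @Bool.rec (fun _ => Nat) (Ptab_903) (Ptab_904) (Nat.ble 904 c)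
noncomputable def Ptab_s_901_905 (c : Nat) : Nat := @Bool.rec (fun _ => Nat) (Ptab_s_901_903 c) (Ptab_s_903_905 c) (Nat.ble 903 c)
noncomputable def Ptab_s_905_907 (c : Nat) : Nat := @Bool.rec (fun _ => Nat) (Ptab_905) (Ptab_906) (Nat.ble 906 c)
noncomputable def Ptab_s_907_909 (c : Nat) : Nat := @Bool.rec (fun _ => Nat) (Ptab_907) (Ptab_908) (Nat.ble 908 c)
noncomputable def Ptab_s_905_909 (c : Nat) : Nat := @Bool.rec (fun _ => Nat) (Ptab_s_905_907 c) (Ptab_s_907_909 c) (Nat.ble 907 c)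
noncomputable def Ptab_s_901_909 (c : Nat) : Nat := @Bool.rec (fun _ => Nat) (Ptab_s_901_905 c) (Ptab_s_905_909 c) (Nat.ble 905 c)
noncomputable def Ptab_s_909_911 (c : Nat) : Nat := @Bool.rec (fun _ => Nat) (Ptab_909) (Ptab_910) (Nat.ble 910 c)
noncomputable def Ptab_s_911_913 (c : Nat) : Nat := @Bool.rec (fun _ => Nat) (Ptab_911) (Ptab_912) (Nat.ble 912 c)
noncomputable def Ptab_s_909_913 (c : Nat) : Nat := @Bool.rec (fun _ => Nat) (Ptab_s_909_911 c) (Ptab_s_911_913 c) (Nat.ble 911 c)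
noncomputable def Ptab_s_913_915 (c : Nat) : Nat := @Bool.rec (fun _ => Nat) (Ptab_913) (Ptab_914) (Nat.ble 914 c)
noncomputable def Ptab_s_915_917 (c : Nat) : Nat := @Bool.rec (fun _ => Nat) (Ptab_915) (Ptab_916) (Nat.ble 916 c)
noncomputable def Ptab_s_913_917 (c : Nat) : Nat := @Bool.rec (fun _ => Nat) (Ptab_s_913_915 c) (Ptab_s_915_917 c) (Nat.ble 915 c)
noncomputable def Ptab_s_909_917 (c : Nat) : Nat := @Bool.rec (fun _ => Nat) (Ptab_s_909_913 c) (Ptab_s_913_917 c) (Nat.ble 913 c)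
noncomputable def Ptab_s_901_917 (c : Nat) : Nat := @Bool.rec (fun _ => Nat) (Ptab_s_901_909 c) (Ptab_s_909_917 c) (Nat.ble 909 c)
noncomputable def Ptab_s_886_917 (c : Nat) : Nat := @Bool.rec (fun _ => Nat) (Ptab_s_886_901 c) (Ptab_s_901_917 c) (Nat.ble 901 c)
noncomputable def Ptab_s_856_917 (c : Nat) : Nat := @Bool.rec (fun _ => Nat) (Ptab_s_856_886 c) (Ptab_s_886_917 c) (Nat.ble 886 c)
noncomputable def Ptab_s_918_920 (c : Nat) : Nat := @Bool.rec (fun _ => Nat) (Ptab_918) (Ptab_919) (Nat.ble 919 c)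
noncomputable def Ptab_s_917_920 (c : Nat) : Nat := @Bool.rec (fun _ => Nat) (Ptab_917) (Ptab_s_918_920 c) (Nat.ble 918 c)
noncomputable def Ptab_s_920_922 (c : Nat) : Nat := @Bool.rec (fun _ => Nat) (Ptab_920) (Ptab_921) (Nat.ble 921 c)
noncomputable def Ptab_s_922_924 (c : Nat) : Nat := @Bool.rec (fun _ => Nat) (Ptab_922) (Ptab_923) (Nat.ble 923 c)
noncomputable def Ptab_s_920_924 (c : Nat) : Nat := @Bool.rec (fun _ => Nat) (Ptab_s_920_922 c) (Ptab_s_922_924 c) (Nat.ble 922 c)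
noncomputable def Ptab_s_917_924 (c : Nat) : Nat := @Bool.rec (fun _ => Nat) (Ptab_s_917_920 c) (Ptab_s_920_924 c) (Nat.ble 920 c)
noncomputable def Ptab_s_924_926 (c : Nat) : Nat := @Bool.rec (fun _ => Nat) (Ptab_924) (Ptab_925) (Nat.ble 925 c)
noncomputable def Ptab_s_926_928 (c : Nat) : Nat := @Bool.rec (fun _ => Nat) (Ptab_926) (Ptab_927) (Nat.ble 927 c)
noncomputable def Ptab_s_924_928 (c : Nat) : Nat := @Bool.rec (fun _ => Nat) (Ptab_s_924_926 c) (Ptab_s_926_928 c) (Nat.ble 926 c)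
noncomputable def Ptab_s_928_930 (c : Nat) : Nat := @Bool.rec (fun _ => Nat) (Ptab_928) (Ptab_929) (Nat.ble 929 c)
noncomputable def Ptab_s_930_932 (c : Nat) : Nat := @Bool.rec (fun _ => Nat) (Ptab_930) (Ptab_931) (Nat.ble 931 c)
noncomputable def Ptab_s_928_932 (c : Nat) : Nat := @Bool.rec (fun _ => Nat) (Ptab_s_928_930 c) (Ptab_s_930_932 c) (Nat.ble 930 c)
noncomputable def Ptab_s_924_932 (c : Nat) : Nat := @Bool.rec (fun _ => Nat) (Ptab_s_924_928 c) (Ptab_s_928_932 c) (Nat.ble 928 c)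
noncomputable def Ptab_s_917_932 (c : Nat) : Nat := @Bool.rec (fun _ => Nat) (Ptab_s_917_924 c) (Ptab_s_924_932 c) (Nat.ble 924 c)
noncomputable def Ptab_s_932_934 (c : Nat) : Nat := @Bool.rec (fun _ => Nat) (Ptab_932) (Ptab_933) (Nat.ble 933 c)
noncomputable def Ptab_s_934_936 (c : Nat) : Nat := @Bool.rec (fun _ => Nat) (Ptab_934) (Ptab_935) (Nat.ble 935 c)
noncomputable def Ptab_s_932_936 (c : Nat) : Nat := @Bool.rec (fun _ => Nat) (Ptab_s_932_934 c) (Ptab_s_934_936 c) (Nat.ble 934 c)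
noncomputable def Ptab_s_936_938 (c : Nat) : Nat := @Bool.rec (fun _ => Nat) (Ptab_936) (Ptab_937) (Nat.ble 937 c)
noncomputable def Ptab_s_938_940 (c : Nat) : Nat := @Bool.rec (fun _ => Nat) (Ptab_938) (Ptab_939) (Nat.ble 939 c)
noncomputable def Ptab_s_936_940 (c : Nat) : Nat := @Bool.rec (fun _ => Nat) (Ptab_s_936_938 c) (Ptab_s_938_940 c) (Nat.ble 938 c)
noncomputable def Ptab_s_932_940 (c : Nat) : Nat := @Bool.rec (fun _ => Nat) (Ptab_s_932_936 c) (Ptab_s_936_940 c) (Nat.ble 936 c)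
noncomputable def Ptab_s_940_942 (c : Nat) : Nat := @Bool.rec (fun _ => Nat) (Ptab_940) (Ptab_941) (Nat.ble 941 c)
noncomputable def Ptab_s_942_944 (c : Nat) : Nat := @Bool.rec (fun _ => Nat) (Ptab_942) (Ptab_943) (Nat.ble 943 c)
noncomputable def Ptab_s_940_944 (c : Nat) : Nat := @Bool.rec (fun _ => Nat) (Ptab_s_940_942 c) (Ptab_s_942_944 c) (Nat.ble 942 c)
noncomputable def Ptab_s_944_946 (c : Nat) : Nat := @Bool.rec (fun _ => Nat) (Ptab_944) (Ptab_945) (Nat.ble 945 c)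
noncomputable def Ptab_s_946_948 (c : Nat) : Nat := @Bool.rec (fun _ => Nat) (Ptab_946) (Ptab_947) (Nat.ble 947 c)
noncomputable def Ptab_s_944_948 (c : Nat) : Nat := @Bool.rec (fun _ => Nat) (Ptab_s_944_946 c) (Ptab_s_946_948 c) (Nat.ble 946 c)
noncomputable def Ptab_s_940_948 (c : Nat) : Nat := @Bool.rec (fun _ => Nat) (Ptab_s_940_944 c) (Ptab_s_944_948 c) (Nat.ble 944 c)
noncomputable def Ptab_s_932_948 (c : Nat) : Nat := @Bool.rec (fun _ => Nat) (Ptab_s_932_940 c) (Ptab_s_940_948 c) (Nat.ble 940 c)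
noncomputable def Ptab_s_917_948 (c : Nat) : Nat := @Bool.rec (fun _ => Nat) (Ptab_s_917_932 c) (Ptab_s_932_948 c) (Nat.ble 932 c)
noncomputable def Ptab_s_949_951 (c : Nat) : Nat := @Bool.rec (fun _ => Nat) (Ptab_949) (Ptab_950) (Nat.ble 950 c)
noncomputable def Ptab_s_948_951 (c : Nat) : Nat := @Bool.rec (fun _ => Nat) (Ptab_948) (Ptab_s_949_951 c) (Nat.ble 949 c)
noncomputable def Ptab_s_951_953 (c : Nat) : Nat := @Bool.rec (fun _ => Nat) (Ptab_951) (Ptab_952) (Nat.ble 952 c)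
noncomputable def Ptab_s_953_955 (c : Nat) : Nat := @Bool.rec (fun _ => Nat) (Ptab_953) (Ptab_954) (Nat.ble 954 c)
noncomputable def Ptab_s_951_955 (c : Nat) : Nat := @Bool.rec (fun _ => Nat) (Ptab_s_951_953 c) (Ptab_s_953_955 c) (Nat.ble 953 c)
noncomputable def Ptab_s_948_955 (c : Nat) : Nat := @Bool.rec (fun _ => Nat) (Ptab_s_948_951 c) (Ptab_s_951_955 c) (Nat.ble 951 c)
noncomputable def Ptab_s_955_957 (c : Nat) : Nat := @Bool.rec (fun _ => Nat) (Ptab_955) (Ptab_956) (Nat.ble 956 c)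
noncomputable def Ptab_s_957_959 (c : Nat) : Nat := @Bool.rec (fun _ => Nat) (Ptab_957) (Ptab_958) (Nat.ble 958 c)
noncomputable def Ptab_s_955_959 (c : Nat) : Nat := @Bool.rec (fun _ => Nat) (Ptab_s_955_957 c) (Ptab_s_957_959 c) (Nat.ble 957 c)
noncomputable def Ptab_s_959_961 (c : Nat) : Nat := @Bool.rec (fun _ => Nat) (Ptab_959) (Ptab_960) (Nat.ble 960 c)
noncomputable def Ptab_s_961_963 (c : Nat) : Nat := @Bool.rec (fun _ => Nat) (Ptab_961) (Ptab_962) (Nat.ble 962 c)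
noncomputable def Ptab_s_959_963 (c : Nat) : Nat := @Bool.rec (fun _ => Nat) (Ptab_s_959_961 c) (Ptab_s_961_963 c) (Nat.ble 961 c)
noncomputable def Ptab_s_955_963 (c : Nat) : Nat := @Bool.rec (fun _ => Nat) (Ptab_s_955_959 c) (Ptab_s_959_963 c) (Nat.ble 959 c)
noncomputable def Ptab_s_948_963 (c : Nat) : Nat := @Bool.rec (fun _ => Nat) (Ptab_s_948_955 c) (Ptab_s_955_963 c) (Nat.ble 955 c)
noncomputable def Ptab_s_963_965 (c : Nat) : Nat := @Bool.rec (fun _ => Nat) (Ptab_963) (Ptab_964) (Nat.ble 964 c)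
noncomputable def Ptab_s_965_967 (c : Nat) : Nat := @Bool.rec (fun _ => Nat) (Ptab_965) (Ptab_966) (Nat.ble 966 c)
noncomputable def Ptab_s_963_967 (c : Nat) : Nat := @Bool.rec (fun _ => Nat) (Ptab_s_963_965 c) (Ptab_s_965_967 c) (Nat.ble 965 c)
noncomputable def Ptab_s_967_969 (c : Nat) : Nat := @Bool.rec (fun _ => Nat) (Ptab_967) (Ptab_968) (Nat.ble 968 c)
noncomputable def Ptab_s_969_971 (c : Nat) : Nat := @Bool.rec (fun _ => Nat) (Ptab_969) (Ptab_970) (Nat.ble 970 c)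
noncomputable def Ptab_s_967_971 (c : Nat) : Nat := @Bool.rec (fun _ => Nat) (Ptab_s_967_969 c) (Ptab_s_969_971 c) (Nat.ble 969 c)
noncomputable def Ptab_s_963_971 (c : Nat) : Nat := @Bool.rec (fun _ => Nat) (Ptab_s_963_967 c) (Ptab_s_967_971 c) (Nat.ble 967 c)
noncomputable def Ptab_s_971_973 (c : Nat) : Nat := @Bool.rec (fun _ => Nat) (Ptab_971) (Ptab_972) (Nat.ble 972 c)
noncomputable def Ptab_s_973_975 (c : Nat) : Nat := @Bool.rec (fun _ => Nat) (Ptab_973) (Ptab_974) (Nat.ble 974 c)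
noncomputable def Ptab_s_971_975 (c : Nat) : Nat := @Bool.rec (fun _ => Nat) (Ptab_s_971_973 c) (Ptab_s_973_975 c) (Nat.ble 973 c)
noncomputable def Ptab_s_975_977 (c : Nat) : Nat := @Bool.rec (fun _ => Nat) (Ptab_975) (Ptab_976) (Nat.ble 976 c)
noncomputable def Ptab_s_977_979 (c : Nat) : Nat := @Bool.rec (fun _ => Nat) (Ptab_977) (Ptab_978) (Nat.ble 978 c)
noncomputable def Ptab_s_975_979 (c : Nat) : Nat := @Bool.rec (fun _ => Nat) (Ptab_s_975_977 c) (Ptab_s_977_979 c) (Nat.ble 977 c)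
noncomputable def Ptab_s_971_979 (c : Nat) : Nat := @Bool.rec (fun _ => Nat) (Ptab_s_971_975 c) (Ptab_s_975_979 c) (Nat.ble 975 c)
noncomputable def Ptab_s_963_979 (c : Nat) : Nat := @Bool.rec (fun _ => Nat) (Ptab_s_963_971 c) (Ptab_s_971_979 c) (Nat.ble 971 c)
noncomputable def Ptab_s_948_979 (c : Nat) : Nat := @Bool.rec (fun _ => Nat) (Ptab_s_948_963 c) (Ptab_s_963_979 c) (Nat.ble 963 c)
noncomputable def Ptab_s_917_979 (c : Nat) : Nat := @Bool.rec (fun _ => Nat) (Ptab_s_917_948 c) (Ptab_s_948_979 c) (Nat.ble 948 c)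
noncomputable def Ptab_s_856_979 (c : Nat) : Nat := @Bool.rec (fun _ => Nat) (Ptab_s_856_917 c) (Ptab_s_917_979 c) (Nat.ble 917 c)
noncomputable def Ptab_s_734_979 (c : Nat) : Nat := @Bool.rec (fun _ => Nat) (Ptab_s_734_856 c) (Ptab_s_856_979 c) (Nat.ble 856 c)
noncomputable def Ptab_s_489_979 (c : Nat) : Nat := @Bool.rec (fun _ => Nat) (Ptab_s_489_734 c) (Ptab_s_734_979 c) (Nat.ble 734 c)
noncomputable def Ptab_s_0_979 (c : Nat) : Nat := @Bool.rec (fun _ => Nat) (Ptab_s_0_489 c) (Ptab_s_489_979 c) (Nat.ble 489 c)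
noncomputable def Ptab_s_980_982 (c : Nat) : Nat := @Bool.rec (fun _ => Nat) (Ptab_980) (Ptab_981) (Nat.ble 981 c)
noncomputable def Ptab_s_979_982 (c : Nat) : Nat := @Bool.rec (fun _ => Nat) (Ptab_979) (Ptab_s_980_982 c) (Nat.ble 980 c)
noncomputable def Ptab_s_982_984 (c : Nat) : Nat := @Bool.rec (fun _ => Nat) (Ptab_982) (Ptab_983) (Nat.ble 983 c)
noncomputable def Ptab_s_984_986 (c : Nat) : Nat := @Bool.rec (fun _ => Nat) (Ptab_984) (Ptab_985) (Nat.ble 985 c)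
noncomputable def Ptab_s_982_986 (c : Nat) : Nat := @Bool.rec (fun _ => Nat) (Ptab_s_982_984 c) (Ptab_s_984_986 c) (Nat.ble 984 c)
noncomputable def Ptab_s_979_986 (c : Nat) : Nat := @Bool.rec (fun _ => Nat) (Ptab_s_979_982 c) (Ptab_s_982_986 c) (Nat.ble 982 c)
noncomputable def Ptab_s_986_988 (c : Nat) : Nat := @Bool.rec (fun _ => Nat) (Ptab_986) (Ptab_987) (Nat.ble 987 c)
noncomputable def Ptab_s_988_990 (c : Nat) : Nat := @Bool.rec (fun _ => Nat) (Ptab_988) (Ptab_989) (Nat.ble 989 c)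
noncomputable def Ptab_s_986_990 (c : Nat) : Nat := @Bool.rec (fun _ => Nat) (Ptab_s_986_988 c) (Ptab_s_988_990 c) (Nat.ble 988 c)
noncomputable def Ptab_s_990_992 (c : Nat) : Nat := @Bool.rec (fun _ => Nat) (Ptab_990) (Ptab_991) (Nat.ble 991 c)
noncomputable def Ptab_s_992_994 (c : Nat) : Nat := @Bool.rec (fun _ => Nat) (Ptab_992) (Ptab_993) (Nat.ble 993 c)
noncomputable def Ptab_s_990_994 (c : Nat) : Nat := @Bool.rec (fun _ => Nat) (Ptab_s_990_992 c) (Ptab_s_992_994 c) (Nat.ble 992 c)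
noncomputable def Ptab_s_986_994 (c : Nat) : Nat := @Bool.rec (fun _ => Nat) (Ptab_s_986_990 c) (Ptab_s_990_994 c) (Nat.ble 990 c)
noncomputable def Ptab_s_979_994 (c : Nat) : Nat := @Bool.rec (fun _ => Nat) (Ptab_s_979_986 c) (Ptab_s_986_994 c) (Nat.ble 986 c)
noncomputable def Ptab_s_995_997 (c : Nat) : Nat := @Bool.rec (fun _ => Nat) (Ptab_995) (Ptab_996) (Nat.ble 996 c)
noncomputable def Ptab_s_994_997 (c : Nat) : Nat := @Bool.rec (fun _ => Nat) (Ptab_994) (Ptab_s_995_997 c) (Nat.ble 995 c)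
noncomputable def Ptab_s_997_999 (c : Nat) : Nat := @Bool.rec (fun _ => Nat) (Ptab_997) (Ptab_998) (Nat.ble 998 c)
noncomputable def Ptab_s_999_1001 (c : Nat) : Nat := @Bool.rec (fun _ => Nat) (Ptab_999) (Ptab_1000) (Nat.ble 1000 c)
noncomputable def Ptab_s_997_1001 (c : Nat) : Nat := @Bool.rec (fun _ => Nat) (Ptab_s_997_999 c) (Ptab_s_999_1001 c) (Nat.ble 999 c)
noncomputable def Ptab_s_994_1001 (c : Nat) : Nat := @Bool.rec (fun _ => Nat) (Ptab_s_994_997 c) (Ptab_s_997_1001 c) (Nat.ble 997 c)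
noncomputable def Ptab_s_1001_1003 (c : Nat) : Nat := @Bool.rec (fun _ => Nat) (Ptab_1001) (Ptab_1002) (Nat.ble 1002 c)
noncomputable def Ptab_s_1003_1005 (c : Nat) : Nat := @Bool.rec (fun _ => Nat) (Ptab_1003) (Ptab_1004) (Nat.ble 1004 c)
noncomputable def Ptab_s_1001_1005 (c : Nat) : Nat := @Bool.rec (fun _ => Nat) (Ptab_s_1001_1003 c) (Ptab_s_1003_1005 c) (Nat.ble 1003 c)
noncomputable def Ptab_s_1005_1007 (c : Nat) : Nat := @Bool.rec (fun _ => Nat) (Ptab_1005) (Ptab_1006) (Nat.ble 1006 c)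
noncomputable def Ptab_s_1007_1009 (c : Nat) : Nat := @Bool.rec (fun _ => Nat) (Ptab_1007) (Ptab_1008) (Nat.ble 1008 c)
noncomputable def Ptab_s_1005_1009 (c : Nat) : Nat := @Bool.rec (fun _ => Nat) (Ptab_s_1005_1007 c) (Ptab_s_1007_1009 c) (Nat.ble 1007 c)
noncomputable def Ptab_s_1001_1009 (c : Nat) : Nat := @Bool.rec (fun _ => Nat) (Ptab_s_1001_1005 c) (Ptab_s_1005_1009 c) (Nat.ble 1005 c)
noncomputable def Ptab_s_994_1009 (c : Nat) : Nat := @Bool.rec (fun _ => Nat) (Ptab_s_994_1001 c) (Ptab_s_1001_1009 c) (Nat.ble 1001 c)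
noncomputable def Ptab_s_979_1009 (c : Nat) : Nat := @Bool.rec (fun _ => Nat) (Ptab_s_979_994 c) (Ptab_s_994_1009 c) (Nat.ble 994 c)
noncomputable def Ptab_s_1010_1012 (c : Nat) : Nat := @Bool.rec (fun _ => Nat) (Ptab_1010) (Ptab_1011) (Nat.ble 1011 c)
noncomputable def Ptab_s_1009_1012 (c : Nat) : Nat := @Bool.rec (fun _ => Nat) (Ptab_1009) (Ptab_s_1010_1012 c) (Nat.ble 1010 c)
noncomputable def Ptab_s_1012_1014 (c : Nat) : Nat := @Bool.rec (fun _ => Nat) (Ptab_1012) (Ptab_1013) (Nat.ble 1013 c)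
noncomputable def Ptab_s_1014_1016 (c : Nat) : Nat := @Bool.rec (fun _ => Nat) (Ptab_1014) (Ptab_1015) (Nat.ble 1015 c)
noncomputable def Ptab_s_1012_1016 (c : Nat) : Nat := @Bool.rec (fun _ => Nat) (Ptab_s_1012_1014 c) (Ptab_s_1014_1016 c) (Nat.ble 1014 c)
noncomputable def Ptab_s_1009_1016 (c : Nat) : Nat := @Bool.rec (fun _ => Nat) (Ptab_s_1009_1012 c) (Ptab_s_1012_1016 c) (Nat.ble 1012 c)
noncomputable def Ptab_s_1016_1018 (c : Nat) : Nat := @Bool.rec (fun _ => Nat) (Ptab_1016) (Ptab_1017) (Nat.ble 1017 c)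
noncomputable def Ptab_s_1018_1020 (c : Nat) : Nat := @Bool.rec (fun _ => Nat) (Ptab_1018) (Ptab_1019) (Nat.ble 1019 c)
noncomputable def Ptab_s_1016_1020 (c : Nat) : Nat := @Bool.rec (fun _ => Nat) (Ptab_s_1016_1018 c) (Ptab_s_1018_1020 c) (Nat.ble 1018 c)
noncomputable def Ptab_s_1020_1022 (c : Nat) : Nat := @Bool.rec (fun _ => Nat) (Ptab_1020) (Ptab_1021) (Nat.ble 1021 c)
noncomputable def Ptab_s_1022_1024 (c : Nat) : Nat := @Bool.rec (fun _ => Nat) (Ptab_1022) (Ptab_1023) (Nat.ble 1023 c)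
noncomputable def Ptab_s_1020_1024 (c : Nat) : Nat := @Bool.rec (fun _ => Nat) (Ptab_s_1020_1022 c) (Ptab_s_1022_1024 c) (Nat.ble 1022 c)
noncomputable def Ptab_s_1016_1024 (c : Nat) : Nat := @Bool.rec (fun _ => Nat) (Ptab_s_1016_1020 c) (Ptab_s_1020_1024 c) (Nat.ble 1020 c)
noncomputable def Ptab_s_1009_1024 (c : Nat) : Nat := @Bool.rec (fun _ => Nat) (Ptab_s_1009_1016 c) (Ptab_s_1016_1024 c) (Nat.ble 1016 c)
noncomputable def Ptab_s_1024_1026 (c : Nat) : Nat := @Bool.rec (fun _ => Nat) (Ptab_1024) (Ptab_1025) (Nat.ble 1025 c)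
noncomputable def Ptab_s_1026_1028 (c : Nat) : Nat := @Bool.rec (fun _ => Nat) (Ptab_1026) (Ptab_1027) (Nat.ble 1027 c)
noncomputable def Ptab_s_1024_1028 (c : Nat) : Nat := @Bool.rec (fun _ => Nat) (Ptab_s_1024_1026 c) (Ptab_s_1026_1028 c) (Nat.ble 1026 c)
noncomputable def Ptab_s_1028_1030 (c : Nat) : Nat := @Bool.rec (fun _ => Nat) (Ptab_1028) (Ptab_1029) (Nat.ble 1029 c)
noncomputable def Ptab_s_1030_1032 (c : Nat) : Nat := @Bool.rec (fun _ => Nat) (Ptab_1030) (Ptab_1031) (Nat.ble 1031 c)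
noncomputable def Ptab_s_1028_1032 (c : Nat) : Nat := @Bool.rec (fun _ => Nat) (Ptab_s_1028_1030 c) (Ptab_s_1030_1032 c) (Nat.ble 1030 c)
noncomputable def Ptab_s_1024_1032 (c : Nat) : Nat := @Bool.rec (fun _ => Nat) (Ptab_s_1024_1028 c) (Ptab_s_1028_1032 c) (Nat.ble 1028 c)
noncomputable def Ptab_s_1032_1034 (c : Nat) : Nat := @Bool.rec (fun _ => Nat) (Ptab_1032) (Ptab_1033) (Nat.ble 1033 c)
noncomputable def Ptab_s_1034_1036 (c : Nat) : Nat := @Bool.rec (fun _ => Nat) (Ptab_1034) (Ptab_1035) (Nat.ble 1035 c)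
noncomputable def Ptab_s_1032_1036 (c : Nat) : Nat := @Bool.rec (fun _ => Nat) (Ptab_s_1032_1034 c) (Ptab_s_1034_1036 c) (Nat.ble 1034 c)
noncomputable def Ptab_s_1036_1038 (c : Nat) : Nat := @Bool.rec (fun _ => Nat) (Ptab_1036) (Ptab_1037) (Nat.ble 1037 c)
noncomputable def Ptab_s_1038_1040 (c : Nat) : Nat := @Bool.rec (fun _ => Nat) (Ptab_1038) (Ptab_1039) (Nat.ble 1039 c)
noncomputable def Ptab_s_1036_1040 (c : Nat) : Nat := @Bool.rec (fun _ => Nat) (Ptab_s_1036_1038 c) (Ptab_s_1038_1040 c) (Nat.ble 1038 c)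
noncomputable def Ptab_s_1032_1040 (c : Nat) : Nat := @Bool.rec (fun _ => Nat) (Ptab_s_1032_1036 c) (Ptab_s_1036_1040 c) (Nat.ble 1036 c)
noncomputable def Ptab_s_1024_1040 (c : Nat) : Nat := @Bool.rec (fun _ => Nat) (Ptab_s_1024_1032 c) (Ptab_s_1032_1040 c) (Nat.ble 1032 c)
noncomputable def Ptab_s_1009_1040 (c : Nat) : Nat := @Bool.rec (fun _ => Nat) (Ptab_s_1009_1024 c) (Ptab_s_1024_1040 c) (Nat.ble 1024 c)
noncomputable def Ptab_s_979_1040 (c : Nat) : Nat := @Bool.rec (fun _ => Nat) (Ptab_s_979_1009 c) (Ptab_s_1009_1040 c) (Nat.ble 1009 c)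
noncomputable def Ptab_s_1041_1043 (c : Nat) : Nat := @Bool.rec (fun _ => Nat) (Ptab_1041) (Ptab_1042) (Nat.ble 1042 c)
noncomputable def Ptab_s_1040_1043 (c : Nat) : Nat := @Bool.rec (fun _ => Nat) (Ptab_1040) (Ptab_s_1041_1043 c) (Nat.ble 1041 c)
noncomputable def Ptab_s_1043_1045 (c : Nat) : Nat := @Bool.rec (fun _ => Nat) (Ptab_1043) (Ptab_1044) (Nat.ble 1044 c)
noncomputable def Ptab_s_1045_1047 (c : Nat) : Nat := @Bool.rec (fun _ => Nat) (Ptab_1045) (Ptab_1046) (Nat.ble 1046 c)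
noncomputable def Ptab_s_1043_1047 (c : Nat) : Nat := @Bool.rec (fun _ => Nat) (Ptab_s_1043_1045 c) (Ptab_s_1045_1047 c) (Nat.ble 1045 c)
noncomputable def Ptab_s_1040_1047 (c : Nat) : Nat := @Bool.rec (fun _ => Nat) (Ptab_s_1040_1043 c) (Ptab_s_1043_1047 c) (Nat.ble 1043 c)
noncomputable def Ptab_s_1047_1049 (c : Nat) : Nat := @Bool.rec (fun _ => Nat) (Ptab_1047) (Ptab_1048) (Nat.ble 1048 c)
noncomputable def Ptab_s_1049_1051 (c : Nat) : Nat := @Bool.rec (fun _ => Nat) (Ptab_1049) (Ptab_1050) (Nat.ble 1050 c)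
noncomputable def Ptab_s_1047_1051 (c : Nat) : Nat := @Bool.rec (fun _ => Nat) (Ptab_s_1047_1049 c) (Ptab_s_1049_1051 c) (Nat.ble 1049 c)
noncomputable def Ptab_s_1051_1053 (c : Nat) : Nat := @Bool.rec (fun _ => Nat) (Ptab_1051) (Ptab_1052) (Nat.ble 1052 c)
noncomputable def Ptab_s_1053_1055 (c : Nat) : Nat := @Bool.rec (fun _ => Nat) (Ptab_1053) (Ptab_1054) (Nat.ble 1054 c)
noncomputable def Ptab_s_1051_1055 (c : Nat) : Nat := @Bool.rec (fun _ => Nat) (Ptab_s_1051_1053 c) (Ptab_s_1053_1055 c) (Nat.ble 1053 c)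
noncomputable def Ptab_s_1047_1055 (c : Nat) : Nat := @Bool.rec (fun _ => Nat) (Ptab_s_1047_1051 c) (Ptab_s_1051_1055 c) (Nat.ble 1051 c)
noncomputable def Ptab_s_1040_1055 (c : Nat) : Nat := @Bool.rec (fun _ => Nat) (Ptab_s_1040_1047 c) (Ptab_s_1047_1055 c) (Nat.ble 1047 c)
noncomputable def Ptab_s_1056_1058 (c : Nat) : Nat := @Bool.rec (fun _ => Nat) (Ptab_1056) (Ptab_1057) (Nat.ble 1057 c)
noncomputable def Ptab_s_1055_1058 (c : Nat) : Nat := @Bool.rec (fun _ => Nat) (Ptab_1055) (Ptab_s_1056_1058 c) (Nat.ble 1056 c)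
noncomputable def Ptab_s_1058_1060 (c : Nat) : Nat := @Bool.rec (fun _ => Nat) (Ptab_1058) (Ptab_1059) (Nat.ble 1059 c)
noncomputable def Ptab_s_1060_1062 (c : Nat) : Nat := @Bool.rec (fun _ => Nat) (Ptab_1060) (Ptab_1061) (Nat.ble 1061 c)
noncomputable def Ptab_s_1058_1062 (c : Nat) : Nat := @Bool.rec (fun _ => Nat) (Ptab_s_1058_1060 c) (Ptab_s_1060_1062 c) (Nat.ble 1060 c)
noncomputable def Ptab_s_1055_1062 (c : Nat) : Nat := @Bool.rec (fun _ => Nat) (Ptab_s_1055_1058 c) (Ptab_s_1058_1062 c) (Nat.ble 1058 c)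
noncomputable def Ptab_s_1062_1064 (c : Nat) : Nat := @Bool.rec (fun _ => Nat) (Ptab_1062) (Ptab_1063) (Nat.ble 1063 c)
noncomputable def Ptab_s_1064_1066 (c : Nat) : Nat := @Bool.rec (fun _ => Nat) (Ptab_1064) (Ptab_1065) (Nat.ble 1065 c)
noncomputable def Ptab_s_1062_1066 (c : Nat) : Nat := @Bool.rec (fun _ => Nat) (Ptab_s_1062_1064 c) (Ptab_s_1064_1066 c) (Nat.ble 1064 c)
noncomputable def Ptab_s_1066_1068 (c : Nat) : Nat := @Bool.rec (fun _ => Nat) (Ptab_1066) (Ptab_1067) (Nat.ble 1067 c)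
noncomputable def Ptab_s_1068_1070 (c : Nat) : Nat := @Bool.rec (fun _ => Nat) (Ptab_1068) (Ptab_1069) (Nat.ble 1069 c)
noncomputable def Ptab_s_1066_1070 (c : Nat) : Nat := @Bool.rec (fun _ => Nat) (Ptab_s_1066_1068 c) (Ptab_s_1068_1070 c) (Nat.ble 1068 c)
noncomputable def Ptab_s_1062_1070 (c : Nat) : Nat := @Bool.rec (fun _ => Nat) (Ptab_s_1062_1066 c) (Ptab_s_1066_1070 c) (Nat.ble 1066 c)
noncomputable def Ptab_s_1055_1070 (c : Nat) : Nat := @Bool.rec (fun _ => Nat) (Ptab_s_1055_1062 c) (Ptab_s_1062_1070 c) (Nat.ble 1062 c)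
noncomputable def Ptab_s_1040_1070 (c : Nat) : Nat := @Bool.rec (fun _ => Nat) (Ptab_s_1040_1055 c) (Ptab_s_1055_1070 c) (Nat.ble 1055 c)
noncomputable def Ptab_s_1071_1073 (c : Nat) : Nat := @Bool.rec (fun _ => Nat) (Ptab_1071) (Ptab_1072) (Nat.ble 1072 c)
noncomputable def Ptab_s_1070_1073 (c : Nat) : Nat := @Bool.rec (fun _ => Nat) (Ptab_1070) (Ptab_s_1071_1073 c) (Nat.ble 1071 c)
noncomputable def Ptab_s_1073_1075 (c : Nat) : Nat := @Bool.rec (fun _ => Nat) (Ptab_1073) (Ptab_1074) (Nat.ble 1074 c)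
noncomputable def Ptab_s_1075_1077 (c : Nat) : Nat := @Bool.rec (fun _ => Nat) (Ptab_1075) (Ptab_1076) (Nat.ble 1076 c)
noncomputable def Ptab_s_1073_1077 (c : Nat) : Nat := @Bool.rec (fun _ => Nat) (Ptab_s_1073_1075 c) (Ptab_s_1075_1077 c) (Nat.ble 1075 c)
noncomputable def Ptab_s_1070_1077 (c : Nat) : Nat := @Bool.rec (fun _ => Nat) (Ptab_s_1070_1073 c) (Ptab_s_1073_1077 c) (Nat.ble 1073 c)
noncomputable def Ptab_s_1077_1079 (c : Nat) : Nat := @Bool.rec (fun _ => Nat) (Ptab_1077) (Ptab_1078) (Nat.ble 1078 c)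
noncomputable def Ptab_s_1079_1081 (c : Nat) : Nat := @Bool.rec (fun _ => Nat) (Ptab_1079) (Ptab_1080) (Nat.ble 1080 c)
noncomputable def Ptab_s_1077_1081 (c : Nat) : Nat := @Bool.rec (fun _ => Nat) (Ptab_s_1077_1079 c) (Ptab_s_1079_1081 c) (Nat.ble 1079 c)
noncomputable def Ptab_s_1081_1083 (c : Nat) : Nat := @Bool.rec (fun _ => Nat) (Ptab_1081) (Ptab_1082) (Nat.ble 1082 c)
noncomputable def Ptab_s_1083_1085 (c : Nat) : Nat := @Bool.rec (fun _ => Nat) (Ptab_1083) (Ptab_1084) (Nat.ble 1084 c)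
noncomputable def Ptab_s_1081_1085 (c : Nat) : Nat := @Bool.rec (fun _ => Nat) (Ptab_s_1081_1083 c) (Ptab_s_1083_1085 c) (Nat.ble 1083 c)
noncomputable def Ptab_s_1077_1085 (c : Nat) : Nat := @Bool.rec (fun _ => Nat) (Ptab_s_1077_1081 c) (Ptab_s_1081_1085 c) (Nat.ble 1081 c)
noncomputable def Ptab_s_1070_1085 (c : Nat) : Nat := @Bool.rec (fun _ => Nat) (Ptab_s_1070_1077 c) (Ptab_s_1077_1085 c) (Nat.ble 1077 c)
noncomputable def Ptab_s_1085_1087 (c : Nat) : Nat := @Bool.rec (fun _ => Nat) (Ptab_1085) (Ptab_1086) (Nat.ble 1086 c)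
noncomputable def Ptab_s_1087_1089 (c : Nat) : Nat := @Bool.rec (fun _ => Nat) (Ptab_1087) (Ptab_1088) (Nat.ble 1088 c)
noncomputable def Ptab_s_1085_1089 (c : Nat) : Nat := @Bool.rec (fun _ => Nat) (Ptab_s_1085_1087 c) (Ptab_s_1087_1089 c) (Nat.ble 1087 c)
noncomputable def Ptab_s_1089_1091 (c : Nat) : Nat := @Bool.rec (fun _ => Nat) (Ptab_1089) (Ptab_1090) (Nat.ble 1090 c)
noncomputable def Ptab_s_1091_1093 (c : Nat) : Nat := @Bool.rec (fun _ => Nat) (Ptab_1091) (Ptab_1092) (Nat.ble 1092 c)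
noncomputable def Ptab_s_1089_1093 (c : Nat) : Nat := @Bool.rec (fun _ => Nat) (Ptab_s_1089_1091 c) (Ptab_s_1091_1093 c) (Nat.ble 1091 c)
noncomputable def Ptab_s_1085_1093 (c : Nat) : Nat := @Bool.rec (fun _ => Nat) (Ptab_s_1085_1089 c) (Ptab_s_1089_1093 c) (Nat.ble 1089 c)
noncomputable def Ptab_s_1093_1095 (c : Nat) : Nat := @Bool.rec (fun _ => Nat) (Ptab_1093) (Ptab_1094) (Nat.ble 1094 c)
noncomputable def Ptab_s_1095_1097 (c : Nat) : Nat := @Bool.rec (fun _ => Nat) (Ptab_1095) (Ptab_1096) (Nat.ble 1096 c)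
noncomputable def Ptab_s_1093_1097 (c : Nat) : Nat := @Bool.rec (fun _ => Nat) (Ptab_s_1093_1095 c) (Ptab_s_1095_1097 c) (Nat.ble 1095 c)
noncomputable def Ptab_s_1097_1099 (c : Nat) : Nat := @Bool.rec (fun _ => Nat) (Ptab_1097) (Ptab_1098) (Nat.ble 1098 c)
noncomputable def Ptab_s_1099_1101 (c : Nat) : Nat := @Bool.rec (fun _ => Nat) (Ptab_1099) (Ptab_1100) (Nat.ble 1100 c)
noncomputable def Ptab_s_1097_1101 (c : Nat) : Nat := @Bool.rec (fun _ => Nat) (Ptab_s_1097_1099 c) (Ptab_s_1099_1101 c) (Nat.ble 1099 c)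
noncomputable def Ptab_s_1093_1101 (c : Nat) : Nat := @Bool.rec (fun _ => Nat) (Ptab_s_1093_1097 c) (Ptab_s_1097_1101 c) (Nat.ble 1097 c)
noncomputable def Ptab_s_1085_1101 (c : Nat) : Nat := @Bool.rec (fun _ => Nat) (Ptab_s_1085_1093 c) (Ptab_s_1093_1101 c) (Nat.ble 1093 c)
noncomputable def Ptab_s_1070_1101 (c : Nat) : Nat := @Bool.rec (fun _ => Nat) (Ptab_s_1070_1085 c) (Ptab_s_1085_1101 c) (Nat.ble 1085 c)
noncomputable def Ptab_s_1040_1101 (c : Nat) : Nat := @Bool.rec (fun _ => Nat) (Ptab_s_1040_1070 c) (Ptab_s_1070_1101 c) (Nat.ble 1070 c)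
noncomputable def Ptab_s_979_1101 (c : Nat) : Nat := @Bool.rec (fun _ => Nat) (Ptab_s_979_1040 c) (Ptab_s_1040_1101 c) (Nat.ble 1040 c)
noncomputable def Ptab_s_1102_1104 (c : Nat) : Nat := @Bool.rec (fun _ => Nat) (Ptab_1102) (Ptab_1103) (Nat.ble 1103 c)
noncomputable def Ptab_s_1101_1104 (c : Nat) : Nat := @Bool.rec (fun _ => Nat) (Ptab_1101) (Ptab_s_1102_1104 c) (Nat.ble 1102 c)
noncomputable def Ptab_s_1104_1106 (c : Nat) : Nat := @Bool.rec (fun _ => Nat) (Ptab_1104) (Ptab_1105) (Nat.ble 1105 c)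
noncomputable def Ptab_s_1106_1108 (c : Nat) : Nat := @Bool.rec (fun _ => Nat) (Ptab_1106) (Ptab_1107) (Nat.ble 1107 c)
noncomputable def Ptab_s_1104_1108 (c : Nat) : Nat := @Bool.rec (fun _ => Nat) (Ptab_s_1104_1106 c) (Ptab_s_1106_1108 c) (Nat.ble 1106 c)
noncomputable def Ptab_s_1101_1108 (c : Nat) : Nat := @Bool.rec (fun _ => Nat) (Ptab_s_1101_1104 c) (Ptab_s_1104_1108 c) (Nat.ble 1104 c)
noncomputable def Ptab_s_1108_1110 (c : Nat) : Nat := @Bool.rec (fun _ => Nat) (Ptab_1108) (Ptab_1109) (Nat.ble 1109 c)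
noncomputable def Ptab_s_1110_1112 (c : Nat) : Nat := @Bool.rec (fun _ => Nat) (Ptab_1110) (Ptab_1111) (Nat.ble 1111 c)
noncomputable def Ptab_s_1108_1112 (c : Nat) : Nat := @Bool.rec (fun _ => Nat) (Ptab_s_1108_1110 c) (Ptab_s_1110_1112 c) (Nat.ble 1110 c)
noncomputable def Ptab_s_1112_1114 (c : Nat) : Nat := @Bool.rec (fun _ => Nat) (Ptab_1112) (Ptab_1113) (Nat.ble 1113 c)
noncomputable def Ptab_s_1114_1116 (c : Nat) : Nat := @Bool.rec (fun _ => Nat) (Ptab_1114) (Ptab_1115) (Nat.ble 1115 c)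
noncomputable def Ptab_s_1112_1116 (c : Nat) : Nat := @Bool.rec (fun _ => Nat) (Ptab_s_1112_1114 c) (Ptab_s_1114_1116 c) (Nat.ble 1114 c)
noncomputable def Ptab_s_1108_1116 (c : Nat) : Nat := @Bool.rec (fun _ => Nat) (Ptab_s_1108_1112 c) (Ptab_s_1112_1116 c) (Nat.ble 1112 c)
noncomputable def Ptab_s_1101_1116 (c : Nat) : Nat := @Bool.rec (fun _ => Nat) (Ptab_s_1101_1108 c) (Ptab_s_1108_1116 c) (Nat.ble 1108 c)
noncomputable def Ptab_s_1117_1119 (c : Nat) : Nat := @Bool.rec (fun _ => Nat) (Ptab_1117) (Ptab_1118) (Nat.ble 1118 c)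
noncomputable def Ptab_s_1116_1119 (c : Nat) : Nat := @Bool.rec (fun _ => Nat) (Ptab_1116) (Ptab_s_1117_1119 c) (Nat.ble 1117 c)
noncomputable def Ptab_s_1119_1121 (c : Nat) : Nat := @Bool.rec (fun _ => Nat) (Ptab_1119) (Ptab_1120) (Nat.ble 1120 c)
noncomputable def Ptab_s_1121_1123 (c : Nat) : Nat := @Bool.rec (fun _ => Nat) (Ptab_1121) (Ptab_1122) (Nat.ble 1122 c)
noncomputable def Ptab_s_1119_1123 (c : Nat) : Nat := @Bool.rec (fun _ => Nat) (Ptab_s_1119_1121 c) (Ptab_s_1121_1123 c) (Nat.ble 1121 c)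
noncomputable def Ptab_s_1116_1123 (c : Nat) : Nat := @Bool.rec (fun _ => Nat) (Ptab_s_1116_1119 c) (Ptab_s_1119_1123 c) (Nat.ble 1119 c)
noncomputable def Ptab_s_1123_1125 (c : Nat) : Nat := @Bool.rec (fun _ => Nat) (Ptab_1123) (Ptab_1124) (Nat.ble 1124 c)
noncomputable def Ptab_s_1125_1127 (c : Nat) : Nat := @Bool.rec (fun _ => Nat) (Ptab_1125) (Ptab_1126) (Nat.ble 1126 c)
noncomputable def Ptab_s_1123_1127 (c : Nat) : Nat := @Bool.rec (fun _ => Nat) (Ptab_s_1123_1125 c) (Ptab_s_1125_1127 c) (Nat.ble 1125 c)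
noncomputable def Ptab_s_1127_1129 (c : Nat) : Nat := @Bool.rec (fun _ => Nat) (Ptab_1127) (Ptab_1128) (Nat.ble 1128 c)
noncomputable def Ptab_s_1129_1131 (c : Nat) : Nat := @Bool.rec (fun _ => Nat) (Ptab_1129) (Ptab_1130) (Nat.ble 1130 c)
noncomputable def Ptab_s_1127_1131 (c : Nat) : Nat := @Bool.rec (fun _ => Nat) (Ptab_s_1127_1129 c) (Ptab_s_1129_1131 c) (Nat.ble 1129 c)
noncomputable def Ptab_s_1123_1131 (c : Nat) : Nat := @Bool.rec (fun _ => Nat) (Ptab_s_1123_1127 c) (Ptab_s_1127_1131 c) (Nat.ble 1127 c)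
noncomputable def Ptab_s_1116_1131 (c : Nat) : Nat := @Bool.rec (fun _ => Nat) (Ptab_s_1116_1123 c) (Ptab_s_1123_1131 c) (Nat.ble 1123 c)
noncomputable def Ptab_s_1101_1131 (c : Nat) : Nat := @Bool.rec (fun _ => Nat) (Ptab_s_1101_1116 c) (Ptab_s_1116_1131 c) (Nat.ble 1116 c)
noncomputable def Ptab_s_1132_1134 (c : Nat) : Nat := @Bool.rec (fun _ => Nat) (Ptab_1132) (Ptab_1133) (Nat.ble 1133 c)
noncomputable def Ptab_s_1131_1134 (c : Nat) : Nat := @Bool.rec (fun _ => Nat) (Ptab_1131) (Ptab_s_1132_1134 c) (Nat.ble 1132 c)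
noncomputable def Ptab_s_1134_1136 (c : Nat) : Nat := @Bool.rec (fun _ => Nat) (Ptab_1134) (Ptab_1135) (Nat.ble 1135 c)
noncomputable def Ptab_s_1136_1138 (c : Nat) : Nat := @Bool.rec (fun _ => Nat) (Ptab_1136) (Ptab_1137) (Nat.ble 1137 c)
noncomputable def Ptab_s_1134_1138 (c : Nat) : Nat := @Bool.rec (fun _ => Nat) (Ptab_s_1134_1136 c) (Ptab_s_1136_1138 c) (Nat.ble 1136 c)
noncomputable def Ptab_s_1131_1138 (c : Nat) : Nat := @Bool.rec (fun _ => Nat) (Ptab_s_1131_1134 c) (Ptab_s_1134_1138 c) (Nat.ble 1134 c)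
noncomputable def Ptab_s_1138_1140 (c : Nat) : Nat := @Bool.rec (fun _ => Nat) (Ptab_1138) (Ptab_1139) (Nat.ble 1139 c)
noncomputable def Ptab_s_1140_1142 (c : Nat) : Nat := @Bool.rec (fun _ => Nat) (Ptab_1140) (Ptab_1141) (Nat.ble 1141 c)
noncomputable def Ptab_s_1138_1142 (c : Nat) : Nat := @Bool.rec (fun _ => Nat) (Ptab_s_1138_1140 c) (Ptab_s_1140_1142 c) (Nat.ble 1140 c)
noncomputable def Ptab_s_1142_1144 (c : Nat) : Nat := @Bool.rec (fun _ => Nat) (Ptab_1142) (Ptab_1143) (Nat.ble 1143 c)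
noncomputable def Ptab_s_1144_1146 (c : Nat) : Nat := @Bool.rec (fun _ => Nat) (Ptab_1144) (Ptab_1145) (Nat.ble 1145 c)
noncomputable def Ptab_s_1142_1146 (c : Nat) : Nat := @Bool.rec (fun _ => Nat) (Ptab_s_1142_1144 c) (Ptab_s_1144_1146 c) (Nat.ble 1144 c)
noncomputable def Ptab_s_1138_1146 (c : Nat) : Nat := @Bool.rec (fun _ => Nat) (Ptab_s_1138_1142 c) (Ptab_s_1142_1146 c) (Nat.ble 1142 c)
noncomputable def Ptab_s_1131_1146 (c : Nat) : Nat := @Bool.rec (fun _ => Nat) (Ptab_s_1131_1138 c) (Ptab_s_1138_1146 c) (Nat.ble 1138 c)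
noncomputable def Ptab_s_1146_1148 (c : Nat) : Nat := @Bool.rec (fun _ => Nat) (Ptab_1146) (Ptab_1147) (Nat.ble 1147 c)
noncomputable def Ptab_s_1148_1150 (c : Nat) : Nat := @Bool.rec (fun _ => Nat) (Ptab_1148) (Ptab_1149) (Nat.ble 1149 c)
noncomputable def Ptab_s_1146_1150 (c : Nat) : Nat := @Bool.rec (fun _ => Nat) (Ptab_s_1146_1148 c) (Ptab_s_1148_1150 c) (Nat.ble 1148 c)
noncomputable def Ptab_s_1150_1152 (c : Nat) : Nat := @Bool.rec (fun _ => Nat) (Ptab_1150) (Ptab_1151) (Nat.ble 1151 c)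
noncomputable def Ptab_s_1152_1154 (c : Nat) : Nat := @Bool.rec (fun _ => Nat) (Ptab_1152) (Ptab_1153) (Nat.ble 1153 c)
noncomputable def Ptab_s_1150_1154 (c : Nat) : Nat := @Bool.rec (fun _ => Nat) (Ptab_s_1150_1152 c) (Ptab_s_1152_1154 c) (Nat.ble 1152 c)
noncomputable def Ptab_s_1146_1154 (c : Nat) : Nat := @Bool.rec (fun _ => Nat) (Ptab_s_1146_1150 c) (Ptab_s_1150_1154 c) (Nat.ble 1150 c)
noncomputable def Ptab_s_1154_1156 (c : Nat) : Nat := @Bool.rec (fun _ => Nat) (Ptab_1154) (Ptab_1155) (Nat.ble 1155 c)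
noncomputable def Ptab_s_1156_1158 (c : Nat) : Nat := @Bool.rec (fun _ => Nat) (Ptab_1156) (Ptab_1157) (Nat.ble 1157 c)
noncomputable def Ptab_s_1154_1158 (c : Nat) : Nat := @Bool.rec (fun _ => Nat) (Ptab_s_1154_1156 c) (Ptab_s_1156_1158 c) (Nat.ble 1156 c)
noncomputable def Ptab_s_1158_1160 (c : Nat) : Nat := @Bool.rec (fun _ => Nat) (Ptab_1158) (Ptab_1159) (Nat.ble 1159 c)
noncomputable def Ptab_s_1160_1162 (c : Nat) : Nat := @Bool.rec (fun _ => Nat) (Ptab_1160) (Ptab_1161) (Nat.ble 1161 c)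
noncomputable def Ptab_s_1158_1162 (c : Nat) : Nat := @Bool.rec (fun _ => Nat) (Ptab_s_1158_1160 c) (Ptab_s_1160_1162 c) (Nat.ble 1160 c)
noncomputable def Ptab_s_1154_1162 (c : Nat) : Nat := @Bool.rec (fun _ => Nat) (Ptab_s_1154_1158 c) (Ptab_s_1158_1162 c) (Nat.ble 1158 c)
noncomputable def Ptab_s_1146_1162 (c : Nat) : Nat := @Bool.rec (fun _ => Nat) (Ptab_s_1146_1154 c) (Ptab_s_1154_1162 c) (Nat.ble 1154 c)
noncomputable def Ptab_s_1131_1162 (c : Nat) : Nat := @Bool.rec (fun _ => Nat) (Ptab_s_1131_1146 c) (Ptab_s_1146_1162 c) (Nat.ble 1146 c)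
noncomputable def Ptab_s_1101_1162 (c : Nat) : Nat := @Bool.rec (fun _ => Nat) (Ptab_s_1101_1131 c) (Ptab_s_1131_1162 c) (Nat.ble 1131 c)
noncomputable def Ptab_s_1163_1165 (c : Nat) : Nat := @Bool.rec (fun _ => Nat) (Ptab_1163) (Ptab_1164) (Nat.ble 1164 c)
noncomputable def Ptab_s_1162_1165 (c : Nat) : Nat := @Bool.rec (fun _ => Nat) (Ptab_1162) (Ptab_s_1163_1165 c) (Nat.ble 1163 c)
noncomputable def Ptab_s_1165_1167 (c : Nat) : Nat := @Bool.rec (fun _ => Nat) (Ptab_1165) (Ptab_1166) (Nat.ble 1166 c)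
noncomputable def Ptab_s_1167_1169 (c : Nat) : Nat := @Bool.rec (fun _ => Nat) (Ptab_1167) (Ptab_1168) (Nat.ble 1168 c)
noncomputable def Ptab_s_1165_1169 (c : Nat) : Nat := @Bool.rec (fun _ => Nat) (Ptab_s_1165_1167 c) (Ptab_s_1167_1169 c) (Nat.ble 1167 c)
noncomputable def Ptab_s_1162_1169 (c : Nat) : Nat := @Bool.rec (fun _ => Nat) (Ptab_s_1162_1165 c) (Ptab_s_1165_1169 c) (Nat.ble 1165 c)
noncomputable def Ptab_s_1169_1171 (c : Nat) : Nat := @Bool.rec (fun _ => Nat) (Ptab_1169) (Ptab_1170) (Nat.ble 1170 c)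
noncomputable def Ptab_s_1171_1173 (c : Nat) : Nat := @Bool.rec (fun _ => Nat) (Ptab_1171) (Ptab_1172) (Nat.ble 1172 c)
noncomputable def Ptab_s_1169_1173 (c : Nat) : Nat := @Bool.rec (fun _ => Nat) (Ptab_s_1169_1171 c) (Ptab_s_1171_1173 c) (Nat.ble 1171 c)
noncomputable def Ptab_s_1173_1175 (c : Nat) : Nat := @Bool.rec (fun _ => Nat) (Ptab_1173) (Ptab_1174) (Nat.ble 1174 c)
noncomputable def Ptab_s_1175_1177 (c : Nat) : Nat := @Bool.rec (fun _ => Nat) (Ptab_1175) (Ptab_1176) (Nat.ble 1176 c)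
noncomputable def Ptab_s_1173_1177 (c : Nat) : Nat := @Bool.rec (fun _ => Nat) (Ptab_s_1173_1175 c) (Ptab_s_1175_1177 c) (Nat.ble 1175 c)
noncomputable def Ptab_s_1169_1177 (c : Nat) : Nat := @Bool.rec (fun _ => Nat) (Ptab_s_1169_1173 c) (Ptab_s_1173_1177 c) (Nat.ble 1173 c)
noncomputable def Ptab_s_1162_1177 (c : Nat) : Nat := @Bool.rec (fun _ => Nat) (Ptab_s_1162_1169 c) (Ptab_s_1169_1177 c) (Nat.ble 1169 c)
noncomputable def Ptab_s_1178_1180 (c : Nat) : Nat := @Bool.rec (fun _ => Nat) (Ptab_1178) (Ptab_1179) (Nat.ble 1179 c)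
noncomputable def Ptab_s_1177_1180 (c : Nat) : Nat := @Bool.rec (fun _ => Nat) (Ptab_1177) (Ptab_s_1178_1180 c) (Nat.ble 1178 c)
noncomputable def Ptab_s_1180_1182 (c : Nat) : Nat := @Bool.rec (fun _ => Nat) (Ptab_1180) (Ptab_1181) (Nat.ble 1181 c)
noncomputable def Ptab_s_1182_1184 (c : Nat) : Nat := @Bool.rec (fun _ => Nat) (Ptab_1182) (Ptab_1183) (Nat.ble 1183 c)
noncomputable def Ptab_s_1180_1184 (c : Nat) : Nat := @Bool.rec (fun _ => Nat) (Ptab_s_1180_1182 c) (Ptab_s_1182_1184 c) (Nat.ble 1182 c)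
noncomputable def Ptab_s_1177_1184 (c : Nat) : Nat := @Bool.rec (fun _ => Nat) (Ptab_s_1177_1180 c) (Ptab_s_1180_1184 c) (Nat.ble 1180 c)
noncomputable def Ptab_s_1184_1186 (c : Nat) : Nat := @Bool.rec (fun _ => Nat) (Ptab_1184) (Ptab_1185) (Nat.ble 1185 c)
noncomputable def Ptab_s_1186_1188 (c : Nat) : Nat := @Bool.rec (fun _ => Nat) (Ptab_1186) (Ptab_1187) (Nat.ble 1187 c)
noncomputable def Ptab_s_1184_1188 (c : Nat) : Nat := @Bool.rec (fun _ => Nat) (Ptab_s_1184_1186 c) (Ptab_s_1186_1188 c) (Nat.ble 1186 c)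
noncomputable def Ptab_s_1188_1190 (c : Nat) : Nat := @Bool.rec (fun _ => Nat) (Ptab_1188) (Ptab_1189) (Nat.ble 1189 c)
noncomputable def Ptab_s_1190_1192 (c : Nat) : Nat := @Bool.rec (fun _ => Nat) (Ptab_1190) (Ptab_1191) (Nat.ble 1191 c)
noncomputable def Ptab_s_1188_1192 (c : Nat) : Nat := @Bool.rec (fun _ => Nat) (Ptab_s_1188_1190 c) (Ptab_s_1190_1192 c) (Nat.ble 1190 c)
noncomputable def Ptab_s_1184_1192 (c : Nat) : Nat := @Bool.rec (fun _ => Nat) (Ptab_s_1184_1188 c) (Ptab_s_1188_1192 c) (Nat.ble 1188 c)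
noncomputable def Ptab_s_1177_1192 (c : Nat) : Nat := @Bool.rec (fun _ => Nat) (Ptab_s_1177_1184 c) (Ptab_s_1184_1192 c) (Nat.ble 1184 c)
noncomputable def Ptab_s_1162_1192 (c : Nat) : Nat := @Bool.rec (fun _ => Nat) (Ptab_s_1162_1177 c) (Ptab_s_1177_1192 c) (Nat.ble 1177 c)
noncomputable def Ptab_s_1193_1195 (c : Nat) : Nat := @Bool.rec (fun _ => Nat) (Ptab_1193) (Ptab_1194) (Nat.ble 1194 c)
noncomputable def Ptab_s_1192_1195 (c : Nat) : Nat := @Bool.rec (fun _ => Nat) (Ptab_1192) (Ptab_s_1193_1195 c) (Nat.ble 1193 c)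
noncomputable def Ptab_s_1195_1197 (c : Nat) : Nat := @Bool.rec (fun _ => Nat) (Ptab_1195) (Ptab_1196) (Nat.ble 1196 c)
noncomputable def Ptab_s_1197_1199 (c : Nat) : Nat := @Bool.rec (fun _ => Nat) (Ptab_1197) (Ptab_1198) (Nat.ble 1198 c)
noncomputable def Ptab_s_1195_1199 (c : Nat) : Nat := @Bool.rec (fun _ => Nat) (Ptab_s_1195_1197 c) (Ptab_s_1197_1199 c) (Nat.ble 1197 c)
noncomputable def Ptab_s_1192_1199 (c : Nat) : Nat := @Bool.rec (fun _ => Nat) (Ptab_s_1192_1195 c) (Ptab_s_1195_1199 c) (Nat.ble 1195 c)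
noncomputable def Ptab_s_1199_1201 (c : Nat) : Nat := @Bool.rec (fun _ => Nat) (Ptab_1199) (Ptab_1200) (Nat.ble 1200 c)
noncomputable def Ptab_s_1201_1203 (c : Nat) : Nat := @Bool.rec (fun _ => Nat) (Ptab_1201) (Ptab_1202) (Nat.ble 1202 c)
noncomputable def Ptab_s_1199_1203 (c : Nat) : Nat := @Bool.rec (fun _ => Nat) (Ptab_s_1199_1201 c) (Ptab_s_1201_1203 c) (Nat.ble 1201 c)
noncomputable def Ptab_s_1203_1205 (c : Nat) : Nat := @Bool.rec (fun _ => Nat) (Ptab_1203) (Ptab_1204) (Nat.ble 1204 c)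
noncomputable def Ptab_s_1205_1207 (c : Nat) : Nat := @Bool.rec (fun _ => Nat) (Ptab_1205) (Ptab_1206) (Nat.ble 1206 c)
noncomputable def Ptab_s_1203_1207 (c : Nat) : Nat := @Bool.rec (fun _ => Nat) (Ptab_s_1203_1205 c) (Ptab_s_1205_1207 c) (Nat.ble 1205 c)
noncomputable def Ptab_s_1199_1207 (c : Nat) : Nat := @Bool.rec (fun _ => Nat) (Ptab_s_1199_1203 c) (Ptab_s_1203_1207 c) (Nat.ble 1203 c)
noncomputable def Ptab_s_1192_1207 (c : Nat) : Nat := @Bool.rec (fun _ => Nat) (Ptab_s_1192_1199 c) (Ptab_s_1199_1207 c) (Nat.ble 1199 c)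
noncomputable def Ptab_s_1207_1209 (c : Nat) : Nat := @Bool.rec (fun _ => Nat) (Ptab_1207) (Ptab_1208) (Nat.ble 1208 c)
noncomputable def Ptab_s_1209_1211 (c : Nat) : Nat := @Bool.rec (fun _ => Nat) (Ptab_1209) (Ptab_1210) (Nat.ble 1210 c)
noncomputable def Ptab_s_1207_1211 (c : Nat) : Nat := @Bool.rec (fun _ => Nat) (Ptab_s_1207_1209 c) (Ptab_s_1209_1211 c) (Nat.ble 1209 c)
noncomputable def Ptab_s_1211_1213 (c : Nat) : Nat := @Bool.rec (fun _ => Nat) (Ptab_1211) (Ptab_1212) (Nat.ble 1212 c)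
noncomputable def Ptab_s_1213_1215 (c : Nat) : Nat := @Bool.rec (fun _ => Nat) (Ptab_1213) (Ptab_1214) (Nat.ble 1214 c)
noncomputable def Ptab_s_1211_1215 (c : Nat) : Nat := @Bool.rec (fun _ => Nat) (Ptab_s_1211_1213 c) (Ptab_s_1213_1215 c) (Nat.ble 1213 c)
noncomputable def Ptab_s_1207_1215 (c : Nat) : Nat := @Bool.rec (fun _ => Nat) (Ptab_s_1207_1211 c) (Ptab_s_1211_1215 c) (Nat.ble 1211 c)
noncomputable def Ptab_s_1215_1217 (c : Nat) : Nat := @Bool.rec (fun _ => Nat) (Ptab_1215) (Ptab_1216) (Nat.ble 1216 c)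
noncomputable def Ptab_s_1217_1219 (c : Nat) : Nat := @Bool.rec (fun _ => Nat) (Ptab_1217) (Ptab_1218) (Nat.ble 1218 c)
noncomputable def Ptab_s_1215_1219 (c : Nat) : Nat := @Bool.rec (fun _ => Nat) (Ptab_s_1215_1217 c) (Ptab_s_1217_1219 c) (Nat.ble 1217 c)
noncomputable def Ptab_s_1219_1221 (c : Nat) : Nat := @Bool.rec (fun _ => Nat) (Ptab_1219) (Ptab_1220) (Nat.ble 1220 c)
noncomputable def Ptab_s_1221_1223 (c : Nat) : Nat := @Bool.rec (fun _ => Nat) (Ptab_1221) (Ptab_1222) (Nat.ble 1222 c)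
noncomputable def Ptab_s_1219_1223 (c : Nat) : Nat := @Bool.rec (fun _ => Nat) (Ptab_s_1219_1221 c) (Ptab_s_1221_1223 c) (Nat.ble 1221 c)
noncomputable def Ptab_s_1215_1223 (c : Nat) : Nat := @Bool.rec (fun _ => Nat) (Ptab_s_1215_1219 c) (Ptab_s_1219_1223 c) (Nat.ble 1219 c)
noncomputable def Ptab_s_1207_1223 (c : Nat) : Nat := @Bool.rec (fun _ => Nat) (Ptab_s_1207_1215 c) (Ptab_s_1215_1223 c) (Nat.ble 1215 c)
noncomputable def Ptab_s_1192_1223 (c : Nat) : Nat := @Bool.rec (fun _ => Nat) (Ptab_s_1192_1207 c) (Ptab_s_1207_1223 c) (Nat.ble 1207 c)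
noncomputable def Ptab_s_1162_1223 (c : Nat) : Nat := @Bool.rec (fun _ => Nat) (Ptab_s_1162_1192 c) (Ptab_s_1192_1223 c) (Nat.ble 1192 c)
noncomputable def Ptab_s_1101_1223 (c : Nat) : Nat := @Bool.rec (fun _ => Nat) (Ptab_s_1101_1162 c) (Ptab_s_1162_1223 c) (Nat.ble 1162 c)
noncomputable def Ptab_s_979_1223 (c : Nat) : Nat := @Bool.rec (fun _ => Nat) (Ptab_s_979_1101 c) (Ptab_s_1101_1223 c) (Nat.ble 1101 c)
noncomputable def Ptab_s_1224_1226 (c : Nat) : Nat := @Bool.rec (fun _ => Nat) (Ptab_1224) (Ptab_1225) (Nat.ble 1225 c)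
noncomputable def Ptab_s_1223_1226 (c : Nat) : Nat := @Bool.rec (fun _ => Nat) (Ptab_1223) (Ptab_s_1224_1226 c) (Nat.ble 1224 c)
noncomputable def Ptab_s_1226_1228 (c : Nat) : Nat := @Bool.rec (fun _ => Nat) (Ptab_1226) (Ptab_1227) (Nat.ble 1227 c)
noncomputable def Ptab_s_1228_1230 (c : Nat) : Nat := @Bool.rec (fun _ => Nat) (Ptab_1228) (Ptab_1229) (Nat.ble 1229 c)
noncomputable def Ptab_s_1226_1230 (c : Nat) : Nat := @Bool.rec (fun _ => Nat) (Ptab_s_1226_1228 c) (Ptab_s_1228_1230 c) (Nat.ble 1228 c)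
noncomputable def Ptab_s_1223_1230 (c : Nat) : Nat := @Bool.rec (fun _ => Nat) (Ptab_s_1223_1226 c) (Ptab_s_1226_1230 c) (Nat.ble 1226 c)
noncomputable def Ptab_s_1230_1232 (c : Nat) : Nat := @Bool.rec (fun _ => Nat) (Ptab_1230) (Ptab_1231) (Nat.ble 1231 c)
noncomputable def Ptab_s_1232_1234 (c : Nat) : Nat := @Bool.rec (fun _ => Nat) (Ptab_1232) (Ptab_1233) (Nat.ble 1233 c)
noncomputable def Ptab_s_1230_1234 (c : Nat) : Nat := @Bool.rec (fun _ => Nat) (Ptab_s_1230_1232 c) (Ptab_s_1232_1234 c) (Nat.ble 1232 c)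
noncomputable def Ptab_s_1234_1236 (c : Nat) : Nat := @Bool.rec (fun _ => Nat) (Ptab_1234) (Ptab_1235) (Nat.ble 1235 c)
noncomputable def Ptab_s_1236_1238 (c : Nat) : Nat := @Bool.rec (fun _ => Nat) (Ptab_1236) (Ptab_1237) (Nat.ble 1237 c)
noncomputable def Ptab_s_1234_1238 (c : Nat) : Nat := @Bool.rec (fun _ => Nat) (Ptab_s_1234_1236 c) (Ptab_s_1236_1238 c) (Nat.ble 1236 c)
noncomputable def Ptab_s_1230_1238 (c : Nat) : Nat := @Bool.rec (fun _ => Nat) (Ptab_s_1230_1234 c) (Ptab_s_1234_1238 c) (Nat.ble 1234 c)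
noncomputable def Ptab_s_1223_1238 (c : Nat) : Nat := @Bool.rec (fun _ => Nat) (Ptab_s_1223_1230 c) (Ptab_s_1230_1238 c) (Nat.ble 1230 c)
noncomputable def Ptab_s_1239_1241 (c : Nat) : Nat := @Bool.rec (fun _ => Nat) (Ptab_1239) (Ptab_1240) (Nat.ble 1240 c)
noncomputable def Ptab_s_1238_1241 (c : Nat) : Nat := @Bool.rec (fun _ => Nat) (Ptab_1238) (Ptab_s_1239_1241 c) (Nat.ble 1239 c)
noncomputable def Ptab_s_1241_1243 (c : Nat) : Nat := @Bool.rec (fun _ => Nat) (Ptab_1241) (Ptab_1242) (Nat.ble 1242 c)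
noncomputable def Ptab_s_1243_1245 (c : Nat) : Nat := @Bool.rec (fun _ => Nat) (Ptab_1243) (Ptab_1244) (Nat.ble 1244 c)
noncomputable def Ptab_s_1241_1245 (c : Nat) : Nat := @Bool.rec (fun _ => Nat) (Ptab_s_1241_1243 c) (Ptab_s_1243_1245 c) (Nat.ble 1243 c)
noncomputable def Ptab_s_1238_1245 (c : Nat) : Nat := @Bool.rec (fun _ => Nat) (Ptab_s_1238_1241 c) (Ptab_s_1241_1245 c) (Nat.ble 1241 c)
noncomputable def Ptab_s_1245_1247 (c : Nat) : Nat := @Bool.rec (fun _ => Nat) (Ptab_1245) (Ptab_1246) (Nat.ble 1246 c)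
noncomputable def Ptab_s_1247_1249 (c : Nat) : Nat := @Bool.rec (fun _ => Nat) (Ptab_1247) (Ptab_1248) (Nat.ble 1248 c)
noncomputable def Ptab_s_1245_1249 (c : Nat) : Nat := @Bool.rec (fun _ => Nat) (Ptab_s_1245_1247 c) (Ptab_s_1247_1249 c) (Nat.ble 1247 c)
noncomputable def Ptab_s_1249_1251 (c : Nat) : Nat := @Bool.rec (fun _ => Nat) (Ptab_1249) (Ptab_1250) (Nat.ble 1250 c)
noncomputable def Ptab_s_1251_1253 (c : Nat) : Nat := @Bool.rec (fun _ => Nat) (Ptab_1251) (Ptab_1252) (Nat.ble 1252 c)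
noncomputable def Ptab_s_1249_1253 (c : Nat) : Nat := @Bool.rec (fun _ => Nat) (Ptab_s_1249_1251 c) (Ptab_s_1251_1253 c) (Nat.ble 1251 c)
noncomputable def Ptab_s_1245_1253 (c : Nat) : Nat := @Bool.rec (fun _ => Nat) (Ptab_s_1245_1249 c) (Ptab_s_1249_1253 c) (Nat.ble 1249 c)
noncomputable def Ptab_s_1238_1253 (c : Nat) : Nat := @Bool.rec (fun _ => Nat) (Ptab_s_1238_1245 c) (Ptab_s_1245_1253 c) (Nat.ble 1245 c)
noncomputable def Ptab_s_1223_1253 (c : Nat) : Nat := @Bool.rec (fun _ => Nat) (Ptab_s_1223_1238 c) (Ptab_s_1238_1253 c) (Nat.ble 1238 c)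
noncomputable def Ptab_s_1254_1256 (c : Nat) : Nat := @Bool.rec (fun _ => Nat) (Ptab_1254) (Ptab_1255) (Nat.ble 1255 c)
noncomputable def Ptab_s_1253_1256 (c : Nat) : Nat := @Bool.rec (fun _ => Nat) (Ptab_1253) (Ptab_s_1254_1256 c) (Nat.ble 1254 c)
noncomputable def Ptab_s_1256_1258 (c : Nat) : Nat := @Bool.rec (fun _ => Nat) (Ptab_1256) (Ptab_1257) (Nat.ble 1257 c)
noncomputable def Ptab_s_1258_1260 (c : Nat) : Nat := @Bool.rec (fun _ => Nat) (Ptab_1258) (Ptab_1259) (Nat.ble 1259 c)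
noncomputable def Ptab_s_1256_1260 (c : Nat) : Nat := @Bool.rec (fun _ => Nat) (Ptab_s_1256_1258 c) (Ptab_s_1258_1260 c) (Nat.ble 1258 c)
noncomputable def Ptab_s_1253_1260 (c : Nat) : Nat := @Bool.rec (fun _ => Nat) (Ptab_s_1253_1256 c) (Ptab_s_1256_1260 c) (Nat.ble 1256 c)
noncomputable def Ptab_s_1260_1262 (c : Nat) : Nat := @Bool.rec (fun _ => Nat) (Ptab_1260) (Ptab_1261) (Nat.ble 1261 c)
noncomputable def Ptab_s_1262_1264 (c : Nat) : Nat := @Bool.rec (fun _ => Nat) (Ptab_1262) (Ptab_1263) (Nat.ble 1263 c)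
noncomputable def Ptab_s_1260_1264 (c : Nat) : Nat := @Bool.rec (fun _ => Nat) (Ptab_s_1260_1262 c) (Ptab_s_1262_1264 c) (Nat.ble 1262 c)
noncomputable def Ptab_s_1264_1266 (c : Nat) : Nat := @Bool.rec (fun _ => Nat) (Ptab_1264) (Ptab_1265) (Nat.ble 1265 c)
noncomputable def Ptab_s_1266_1268 (c : Nat) : Nat := @Bool.rec (fun _ => Nat) (Ptab_1266) (Ptab_1267) (Nat.ble 1267 c)
noncomputable def Ptab_s_1264_1268 (c : Nat) : Nat := @Bool.rec (fun _ => Nat) (Ptab_s_1264_1266 c) (Ptab_s_1266_1268 c) (Nat.ble 1266 c)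
noncomputable def Ptab_s_1260_1268 (c : Nat) : Nat := @Bool.rec (fun _ => Nat) (Ptab_s_1260_1264 c) (Ptab_s_1264_1268 c) (Nat.ble 1264 c)
noncomputable def Ptab_s_1253_1268 (c : Nat) : Nat := @Bool.rec (fun _ => Nat) (Ptab_s_1253_1260 c) (Ptab_s_1260_1268 c) (Nat.ble 1260 c)
noncomputable def Ptab_s_1268_1270 (c : Nat) : Nat := @Bool.rec (fun _ => Nat) (Ptab_1268) (Ptab_1269) (Nat.ble 1269 c)
noncomputable def Ptab_s_1270_1272 (c : Nat) : Nat := @Bool.rec (fun _ => Nat) (Ptab_1270) (Ptab_1271) (Nat.ble 1271 c)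
noncomputable def Ptab_s_1268_1272 (c : Nat) : Nat := @Bool.rec (fun _ => Nat) (Ptab_s_1268_1270 c) (Ptab_s_1270_1272 c) (Nat.ble 1270 c)
noncomputable def Ptab_s_1272_1274 (c : Nat) : Nat := @Bool.rec (fun _ => Nat) (Ptab_1272) (Ptab_1273) (Nat.ble 1273 c)
noncomputable def Ptab_s_1274_1276 (c : Nat) : Nat := @Bool.rec (fun _ => Nat) (Ptab_1274) (Ptab_1275) (Nat.ble 1275 c)
noncomputable def Ptab_s_1272_1276 (c : Nat) : Nat := @Bool.rec (fun _ => Nat) (Ptab_s_1272_1274 c) (Ptab_s_1274_1276 c) (Nat.ble 1274 c)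
noncomputable def Ptab_s_1268_1276 (c : Nat) : Nat := @Bool.rec (fun _ => Nat) (Ptab_s_1268_1272 c) (Ptab_s_1272_1276 c) (Nat.ble 1272 c)
noncomputable def Ptab_s_1276_1278 (c : Nat) : Nat := @Bool.rec (fun _ => Nat) (Ptab_1276) (Ptab_1277) (Nat.ble 1277 c)
noncomputable def Ptab_s_1278_1280 (c : Nat) : Nat := @Bool.rec (fun _ => Nat) (Ptab_1278) (Ptab_1279) (Nat.ble 1279 c)
noncomputable def Ptab_s_1276_1280 (c : Nat) : Nat := @Bool.rec (fun _ => Nat) (Ptab_s_1276_1278 c) (Ptab_s_1278_1280 c) (Nat.ble 1278 c)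
noncomputable def Ptab_s_1280_1282 (c : Nat) : Nat := @Bool.rec (fun _ => Nat) (Ptab_1280) (Ptab_1281) (Nat.ble 1281 c)
noncomputable def Ptab_s_1282_1284 (c : Nat) : Nat := @Bool.rec (fun _ => Nat) (Ptab_1282) (Ptab_1283) (Nat.ble 1283 c)
noncomputable def Ptab_s_1280_1284 (c : Nat) : Nat := @Bool.rec (fun _ => Nat) (Ptab_s_1280_1282 c) (Ptab_s_1282_1284 c) (Nat.ble 1282 c)
noncomputable def Ptab_s_1276_1284 (c : Nat) : Nat := @Bool.rec (fun _ => Nat) (Ptab_s_1276_1280 c) (Ptab_s_1280_1284 c) (Nat.ble 1280 c)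
noncomputable def Ptab_s_1268_1284 (c : Nat) : Nat := @Bool.rec (fun _ => Nat) (Ptab_s_1268_1276 c) (Ptab_s_1276_1284 c) (Nat.ble 1276 c)
noncomputable def Ptab_s_1253_1284 (c : Nat) : Nat := @Bool.rec (fun _ => Nat) (Ptab_s_1253_1268 c) (Ptab_s_1268_1284 c) (Nat.ble 1268 c)
noncomputable def Ptab_s_1223_1284 (c : Nat) : Nat := @Bool.rec (fun _ => Nat) (Ptab_s_1223_1253 c) (Ptab_s_1253_1284 c) (Nat.ble 1253 c)
noncomputable def Ptab_s_1285_1287 (c : Nat) : Nat := @Bool.rec (fun _ => Nat) (Ptab_1285) (Ptab_1286) (Nat.ble 1286 c)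
noncomputable def Ptab_s_1284_1287 (c : Nat) : Nat := @Bool.rec (fun _ => Nat) (Ptab_1284) (Ptab_s_1285_1287 c) (Nat.ble 1285 c)
noncomputable def Ptab_s_1287_1289 (c : Nat) : Nat := @Bool.rec (fun _ => Nat) (Ptab_1287) (Ptab_1288) (Nat.ble 1288 c)
noncomputable def Ptab_s_1289_1291 (c : Nat) : Nat := @Bool.rec (fun _ => Nat) (Ptab_1289) (Ptab_1290) (Nat.ble 1290 c)
noncomputable def Ptab_s_1287_1291 (c : Nat) : Nat := @Bool.rec (fun _ => Nat) (Ptab_s_1287_1289 c) (Ptab_s_1289_1291 c) (Nat.ble 1289 c)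
noncomputable def Ptab_s_1284_1291 (c : Nat) : Nat := @Bool.rec (fun _ => Nat) (Ptab_s_1284_1287 c) (Ptab_s_1287_1291 c) (Nat.ble 1287 c)
noncomputable def Ptab_s_1291_1293 (c : Nat) : Nat := @Bool.rec (fun _ => Nat) (Ptab_1291) (Ptab_1292) (Nat.ble 1292 c)
noncomputable def Ptab_s_1293_1295 (c : Nat) : Nat := @Bool.rec (fun _ => Nat) (Ptab_1293) (Ptab_1294) (Nat.ble 1294 c)
noncomputable def Ptab_s_1291_1295 (c : Nat) : Nat := @Bool.rec (fun _ => Nat) (Ptab_s_1291_1293 c) (Ptab_s_1293_1295 c) (Nat.ble 1293 c)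
noncomputable def Ptab_s_1295_1297 (c : Nat) : Nat := @Bool.rec (fun _ => Nat) (Ptab_1295) (Ptab_1296) (Nat.ble 1296 c)
noncomputable def Ptab_s_1297_1299 (c : Nat) : Nat := @Bool.rec (fun _ => Nat) (Ptab_1297) (Ptab_1298) (Nat.ble 1298 c)
noncomputable def Ptab_s_1295_1299 (c : Nat) : Nat := @Bool.rec (fun _ => Nat) (Ptab_s_1295_1297 c) (Ptab_s_1297_1299 c) (Nat.ble 1297 c)
noncomputable def Ptab_s_1291_1299 (c : Nat) : Nat := @Bool.rec (fun _ => Nat) (Ptab_s_1291_1295 c) (Ptab_s_1295_1299 c) (Nat.ble 1295 c)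
noncomputable def Ptab_s_1284_1299 (c : Nat) : Nat := @Bool.rec (fun _ => Nat) (Ptab_s_1284_1291 c) (Ptab_s_1291_1299 c) (Nat.ble 1291 c)
noncomputable def Ptab_s_1300_1302 (c : Nat) : Nat := @Bool.rec (fun _ => Nat) (Ptab_1300) (Ptab_1301) (Nat.ble 1301 c)
noncomputable def Ptab_s_1299_1302 (c : Nat) : Nat := @Bool.rec (fun _ => Nat) (Ptab_1299) (Ptab_s_1300_1302 c) (Nat.ble 1300 c)
noncomputable def Ptab_s_1302_1304 (c : Nat) : Nat := @Bool.rec (fun _ => Nat) (Ptab_1302) (Ptab_1303) (Nat.ble 1303 c)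
noncomputable def Ptab_s_1304_1306 (c : Nat) : Nat := @Bool.rec (fun _ => Nat) (Ptab_1304) (Ptab_1305) (Nat.ble 1305 c)
noncomputable def Ptab_s_1302_1306 (c : Nat) : Nat := @Bool.rec (fun _ => Nat) (Ptab_s_1302_1304 c) (Ptab_s_1304_1306 c) (Nat.ble 1304 c)
noncomputable def Ptab_s_1299_1306 (c : Nat) : Nat := @Bool.rec (fun _ => Nat) (Ptab_s_1299_1302 c) (Ptab_s_1302_1306 c) (Nat.ble 1302 c)
noncomputable def Ptab_s_1306_1308 (c : Nat) : Nat := @Bool.rec (fun _ => Nat) (Ptab_1306) (Ptab_1307) (Nat.ble 1307 c)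
noncomputable def Ptab_s_1308_1310 (c : Nat) : Nat := @Bool.rec (fun _ => Nat) (Ptab_1308) (Ptab_1309) (Nat.ble 1309 c)
noncomputable def Ptab_s_1306_1310 (c : Nat) : Nat := @Bool.rec (fun _ => Nat) (Ptab_s_1306_1308 c) (Ptab_s_1308_1310 c) (Nat.ble 1308 c)
noncomputable def Ptab_s_1310_1312 (c : Nat) : Nat := @Bool.rec (fun _ => Nat) (Ptab_1310) (Ptab_1311) (Nat.ble 1311 c)
noncomputable def Ptab_s_1312_1314 (c : Nat) : Nat := @Bool.rec (fun _ => Nat) (Ptab_1312) (Ptab_1313) (Nat.ble 1313 c)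
noncomputable def Ptab_s_1310_1314 (c : Nat) : Nat := @Bool.rec (fun _ => Nat) (Ptab_s_1310_1312 c) (Ptab_s_1312_1314 c) (Nat.ble 1312 c)
noncomputable def Ptab_s_1306_1314 (c : Nat) : Nat := @Bool.rec (fun _ => Nat) (Ptab_s_1306_1310 c) (Ptab_s_1310_1314 c) (Nat.ble 1310 c)
noncomputable def Ptab_s_1299_1314 (c : Nat) : Nat := @Bool.rec (fun _ => Nat) (Ptab_s_1299_1306 c) (Ptab_s_1306_1314 c) (Nat.ble 1306 c)
noncomputable def Ptab_s_1284_1314 (c : Nat) : Nat := @Bool.rec (fun _ => Nat) (Ptab_s_1284_1299 c) (Ptab_s_1299_1314 c) (Nat.ble 1299 c)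
noncomputable def Ptab_s_1315_1317 (c : Nat) : Nat := @Bool.rec (fun _ => Nat) (Ptab_1315) (Ptab_1316) (Nat.ble 1316 c)
noncomputable def Ptab_s_1314_1317 (c : Nat) : Nat := @Bool.rec (fun _ => Nat) (Ptab_1314) (Ptab_s_1315_1317 c) (Nat.ble 1315 c)
noncomputable def Ptab_s_1317_1319 (c : Nat) : Nat := @Bool.rec (fun _ => Nat) (Ptab_1317) (Ptab_1318) (Nat.ble 1318 c)
noncomputable def Ptab_s_1319_1321 (c : Nat) : Nat := @Bool.rec (fun _ => Nat) (Ptab_1319) (Ptab_1320) (Nat.ble 1320 c)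
noncomputable def Ptab_s_1317_1321 (c : Nat) : Nat := @Bool.rec (fun _ => Nat) (Ptab_s_1317_1319 c) (Ptab_s_1319_1321 c) (Nat.ble 1319 c)
noncomputable def Ptab_s_1314_1321 (c : Nat) : Nat := @Bool.rec (fun _ => Nat) (Ptab_s_1314_1317 c) (Ptab_s_1317_1321 c) (Nat.ble 1317 c)
noncomputable def Ptab_s_1321_1323 (c : Nat) : Nat := @Bool.rec (fun _ => Nat) (Ptab_1321) (Ptab_1322) (Nat.ble 1322 c)
noncomputable def Ptab_s_1323_1325 (c : Nat) : Nat := @Bool.rec (fun _ => Nat) (Ptab_1323) (Ptab_1324) (Nat.ble 1324 c)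
noncomputable def Ptab_s_1321_1325 (c : Nat) : Nat := @Bool.rec (fun _ => Nat) (Ptab_s_1321_1323 c) (Ptab_s_1323_1325 c) (Nat.ble 1323 c)
noncomputable def Ptab_s_1325_1327 (c : Nat) : Nat := @Bool.rec (fun _ => Nat) (Ptab_1325) (Ptab_1326) (Nat.ble 1326 c)
noncomputable def Ptab_s_1327_1329 (c : Nat) : Nat := @Bool.rec (fun _ => Nat) (Ptab_1327) (Ptab_1328) (Nat.ble 1328 c)
noncomputable def Ptab_s_1325_1329 (c : Nat) : Nat := @Bool.rec (fun _ => Nat) (Ptab_s_1325_1327 c) (Ptab_s_1327_1329 c) (Nat.ble 1327 c)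
noncomputable def Ptab_s_1321_1329 (c : Nat) : Nat := @Bool.rec (fun _ => Nat) (Ptab_s_1321_1325 c) (Ptab_s_1325_1329 c) (Nat.ble 1325 c)
noncomputable def Ptab_s_1314_1329 (c : Nat) : Nat := @Bool.rec (fun _ => Nat) (Ptab_s_1314_1321 c) (Ptab_s_1321_1329 c) (Nat.ble 1321 c)
noncomputable def Ptab_s_1329_1331 (c : Nat) : Nat := @Bool.rec (fun _ => Nat) (Ptab_1329) (Ptab_1330) (Nat.ble 1330 c)
noncomputable def Ptab_s_1331_1333 (c : Nat) : Nat := @Bool.rec (fun _ => Nat) (Ptab_1331) (Ptab_1332) (Nat.ble 1332 c)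
noncomputable def Ptab_s_1329_1333 (c : Nat) : Nat := @Bool.rec (fun _ => Nat) (Ptab_s_1329_1331 c) (Ptab_s_1331_1333 c) (Nat.ble 1331 c)
noncomputable def Ptab_s_1333_1335 (c : Nat) : Nat := @Bool.rec (fun _ => Nat) (Ptab_1333) (Ptab_1334) (Nat.ble 1334 c)
noncomputable def Ptab_s_1335_1337 (c : Nat) : Nat := @Bool.rec (fun _ => Nat) (Ptab_1335) (Ptab_1336) (Nat.ble 1336 c)
noncomputable def Ptab_s_1333_1337 (c : Nat) : Nat := @Bool.rec (fun _ => Nat) (Ptab_s_1333_1335 c) (Ptab_s_1335_1337 c) (Nat.ble 1335 c)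
noncomputable def Ptab_s_1329_1337 (c : Nat) : Nat := @Bool.rec (fun _ => Nat) (Ptab_s_1329_1333 c) (Ptab_s_1333_1337 c) (Nat.ble 1333 c)
noncomputable def Ptab_s_1337_1339 (c : Nat) : Nat := @Bool.rec (fun _ => Nat) (Ptab_1337) (Ptab_1338) (Nat.ble 1338 c)
noncomputable def Ptab_s_1339_1341 (c : Nat) : Nat := @Bool.rec (fun _ => Nat) (Ptab_1339) (Ptab_1340) (Nat.ble 1340 c)
noncomputable def Ptab_s_1337_1341 (c : Nat) : Nat := @Bool.rec (fun _ => Nat) (Ptab_s_1337_1339 c) (Ptab_s_1339_1341 c) (Nat.ble 1339 c)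
noncomputable def Ptab_s_1341_1343 (c : Nat) : Nat := @Bool.rec (fun _ => Nat) (Ptab_1341) (Ptab_1342) (Nat.ble 1342 c)
noncomputable def Ptab_s_1343_1345 (c : Nat) : Nat := @Bool.rec (fun _ => Nat) (Ptab_1343) (Ptab_1344) (Nat.ble 1344 c)
noncomputable def Ptab_s_1341_1345 (c : Nat) : Nat := @Bool.rec (fun _ => Nat) (Ptab_s_1341_1343 c) (Ptab_s_1343_1345 c) (Nat.ble 1343 c)
noncomputable def Ptab_s_1337_1345 (c : Nat) : Nat := @Bool.rec (fun _ => Nat) (Ptab_s_1337_1341 c) (Ptab_s_1341_1345 c) (Nat.ble 1341 c)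
noncomputable def Ptab_s_1329_1345 (c : Nat) : Nat := @Bool.rec (fun _ => Nat) (Ptab_s_1329_1337 c) (Ptab_s_1337_1345 c) (Nat.ble 1337 c)
noncomputable def Ptab_s_1314_1345 (c : Nat) : Nat := @Bool.rec (fun _ => Nat) (Ptab_s_1314_1329 c) (Ptab_s_1329_1345 c) (Nat.ble 1329 c)
noncomputable def Ptab_s_1284_1345 (c : Nat) : Nat := @Bool.rec (fun _ => Nat) (Ptab_s_1284_1314 c) (Ptab_s_1314_1345 c) (Nat.ble 1314 c)
noncomputable def Ptab_s_1223_1345 (c : Nat) : Nat := @Bool.rec (fun _ => Nat) (Ptab_s_1223_1284 c) (Ptab_s_1284_1345 c) (Nat.ble 1284 c)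
noncomputable def Ptab_s_1346_1348 (c : Nat) : Nat := @Bool.rec (fun _ => Nat) (Ptab_1346) (Ptab_1347) (Nat.ble 1347 c)
noncomputable def Ptab_s_1345_1348 (c : Nat) : Nat := @Bool.rec (fun _ => Nat) (Ptab_1345) (Ptab_s_1346_1348 c) (Nat.ble 1346 c)
noncomputable def Ptab_s_1348_1350 (c : Nat) : Nat := @Bool.rec (fun _ => Nat) (Ptab_1348) (Ptab_1349) (Nat.ble 1349 c)
noncomputable def Ptab_s_1350_1352 (c : Nat) : Nat := @Bool.rec (fun _ => Nat) (Ptab_1350) (Ptab_1351) (Nat.ble 1351 c)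
noncomputable def Ptab_s_1348_1352 (c : Nat) : Nat := @Bool.rec (fun _ => Nat) (Ptab_s_1348_1350 c) (Ptab_s_1350_1352 c) (Nat.ble 1350 c)
noncomputable def Ptab_s_1345_1352 (c : Nat) : Nat := @Bool.rec (fun _ => Nat) (Ptab_s_1345_1348 c) (Ptab_s_1348_1352 c) (Nat.ble 1348 c)
noncomputable def Ptab_s_1352_1354 (c : Nat) : Nat := @Bool.rec (fun _ => Nat) (Ptab_1352) (Ptab_1353) (Nat.ble 1353 c)
noncomputable def Ptab_s_1354_1356 (c : Nat) : Nat := @Bool.rec (fun _ => Nat) (Ptab_1354) (Ptab_1355) (Nat.ble 1355 c)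
noncomputable def Ptab_s_1352_1356 (c : Nat) : Nat := @Bool.rec (fun _ => Nat) (Ptab_s_1352_1354 c) (Ptab_s_1354_1356 c) (Nat.ble 1354 c)
noncomputable def Ptab_s_1356_1358 (c : Nat) : Nat := @Bool.rec (fun _ => Nat) (Ptab_1356) (Ptab_1357) (Nat.ble 1357 c)
noncomputable def Ptab_s_1358_1360 (c : Nat) : Nat := @Bool.rec (fun _ => Nat) (Ptab_1358) (Ptab_1359) (Nat.ble 1359 c)
noncomputable def Ptab_s_1356_1360 (c : Nat) : Nat := @Bool.rec (fun _ => Nat) (Ptab_s_1356_1358 c) (Ptab_s_1358_1360 c) (Nat.ble 1358 c)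
noncomputable def Ptab_s_1352_1360 (c : Nat) : Nat := @Bool.rec (fun _ => Nat) (Ptab_s_1352_1356 c) (Ptab_s_1356_1360 c) (Nat.ble 1356 c)
noncomputable def Ptab_s_1345_1360 (c : Nat) : Nat := @Bool.rec (fun _ => Nat) (Ptab_s_1345_1352 c) (Ptab_s_1352_1360 c) (Nat.ble 1352 c)
noncomputable def Ptab_s_1361_1363 (c : Nat) : Nat := @Bool.rec (fun _ => Nat) (Ptab_1361) (Ptab_1362) (Nat.ble 1362 c)
noncomputable def Ptab_s_1360_1363 (c : Nat) : Nat := @Bool.rec (fun _ => Nat) (Ptab_1360) (Ptab_s_1361_1363 c) (Nat.ble 1361 c)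
noncomputable def Ptab_s_1363_1365 (c : Nat) : Nat := @Bool.rec (fun _ => Nat) (Ptab_1363) (Ptab_1364) (Nat.ble 1364 c)
noncomputable def Ptab_s_1365_1367 (c : Nat) : Nat := @Bool.rec (fun _ => Nat) (Ptab_1365) (Ptab_1366) (Nat.ble 1366 c)
noncomputable def Ptab_s_1363_1367 (c : Nat) : Nat := @Bool.rec (fun _ => Nat) (Ptab_s_1363_1365 c) (Ptab_s_1365_1367 c) (Nat.ble 1365 c)
noncomputable def Ptab_s_1360_1367 (c : Nat) : Nat := @Bool.rec (fun _ => Nat) (Ptab_s_1360_1363 c) (Ptab_s_1363_1367 c) (Nat.ble 1363 c)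
noncomputable def Ptab_s_1367_1369 (c : Nat) : Nat := @Bool.rec (fun _ => Nat) (Ptab_1367) (Ptab_1368) (Nat.ble 1368 c)
noncomputable def Ptab_s_1369_1371 (c : Nat) : Nat := @Bool.rec (fun _ => Nat) (Ptab_1369) (Ptab_1370) (Nat.ble 1370 c)
noncomputable def Ptab_s_1367_1371 (c : Nat) : Nat := @Bool.rec (fun _ => Nat) (Ptab_s_1367_1369 c) (Ptab_s_1369_1371 c) (Nat.ble 1369 c)
noncomputable def Ptab_s_1371_1373 (c : Nat) : Nat := @Bool.rec (fun _ => Nat) (Ptab_1371) (Ptab_1372) (Nat.ble 1372 c)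
noncomputable def Ptab_s_1373_1375 (c : Nat) : Nat := @Bool.rec (fun _ => Nat) (Ptab_1373) (Ptab_1374) (Nat.ble 1374 c)
noncomputable def Ptab_s_1371_1375 (c : Nat) : Nat := @Bool.rec (fun _ => Nat) (Ptab_s_1371_1373 c) (Ptab_s_1373_1375 c) (Nat.ble 1373 c)
noncomputable def Ptab_s_1367_1375 (c : Nat) : Nat := @Bool.rec (fun _ => Nat) (Ptab_s_1367_1371 c) (Ptab_s_1371_1375 c) (Nat.ble 1371 c)
noncomputable def Ptab_s_1360_1375 (c : Nat) : Nat := @Bool.rec (fun _ => Nat) (Ptab_s_1360_1367 c) (Ptab_s_1367_1375 c) (Nat.ble 1367 c)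
noncomputable def Ptab_s_1345_1375 (c : Nat) : Nat := @Bool.rec (fun _ => Nat) (Ptab_s_1345_1360 c) (Ptab_s_1360_1375 c) (Nat.ble 1360 c)
noncomputable def Ptab_s_1376_1378 (c : Nat) : Nat := @Bool.rec (fun _ => Nat) (Ptab_1376) (Ptab_1377) (Nat.ble 1377 c)
noncomputable def Ptab_s_1375_1378 (c : Nat) : Nat := @Bool.rec (fun _ => Nat) (Ptab_1375) (Ptab_s_1376_1378 c) (Nat.ble 1376 c)
noncomputable def Ptab_s_1378_1380 (c : Nat) : Nat := @Bool.rec (fun _ => Nat) (Ptab_1378) (Ptab_1379) (Nat.ble 1379 c)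
noncomputable def Ptab_s_1380_1382 (c : Nat) : Nat := @Bool.rec (fun _ => Nat) (Ptab_1380) (Ptab_1381) (Nat.ble 1381 c)
noncomputable def Ptab_s_1378_1382 (c : Nat) : Nat := @Bool.rec (fun _ => Nat) (Ptab_s_1378_1380 c) (Ptab_s_1380_1382 c) (Nat.ble 1380 c)
noncomputable def Ptab_s_1375_1382 (c : Nat) : Nat := @Bool.rec (fun _ => Nat) (Ptab_s_1375_1378 c) (Ptab_s_1378_1382 c) (Nat.ble 1378 c)
noncomputable def Ptab_s_1382_1384 (c : Nat) : Nat := @Bool.rec (fun _ => Nat) (Ptab_1382) (Ptab_1383) (Nat.ble 1383 c)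
noncomputable def Ptab_s_1384_1386 (c : Nat) : Nat := @Bool.rec (fun _ => Nat) (Ptab_1384) (Ptab_1385) (Nat.ble 1385 c)
noncomputable def Ptab_s_1382_1386 (c : Nat) : Nat := @Bool.rec (fun _ => Nat) (Ptab_s_1382_1384 c) (Ptab_s_1384_1386 c) (Nat.ble 1384 c)
noncomputable def Ptab_s_1386_1388 (c : Nat) : Nat := @Bool.rec (fun _ => Nat) (Ptab_1386) (Ptab_1387) (Nat.ble 1387 c)
noncomputable def Ptab_s_1388_1390 (c : Nat) : Nat := @Bool.rec (fun _ => Nat) (Ptab_1388) (Ptab_1389) (Nat.ble 1389 c)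
noncomputable def Ptab_s_1386_1390 (c : Nat) : Nat := @Bool.rec (fun _ => Nat) (Ptab_s_1386_1388 c) (Ptab_s_1388_1390 c) (Nat.ble 1388 c)
noncomputable def Ptab_s_1382_1390 (c : Nat) : Nat := @Bool.rec (fun _ => Nat) (Ptab_s_1382_1386 c) (Ptab_s_1386_1390 c) (Nat.ble 1386 c)
noncomputable def Ptab_s_1375_1390 (c : Nat) : Nat := @Bool.rec (fun _ => Nat) (Ptab_s_1375_1382 c) (Ptab_s_1382_1390 c) (Nat.ble 1382 c)
noncomputable def Ptab_s_1390_1392 (c : Nat) : Nat := @Bool.rec (fun _ => Nat) (Ptab_1390) (Ptab_1391) (Nat.ble 1391 c)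
noncomputable def Ptab_s_1392_1394 (c : Nat) : Nat := @Bool.rec (fun _ => Nat) (Ptab_1392) (Ptab_1393) (Nat.ble 1393 c)
noncomputable def Ptab_s_1390_1394 (c : Nat) : Nat := @Bool.rec (fun _ => Nat) (Ptab_s_1390_1392 c) (Ptab_s_1392_1394 c) (Nat.ble 1392 c)
noncomputable def Ptab_s_1394_1396 (c : Nat) : Nat := @Bool.rec (fun _ => Nat) (Ptab_1394) (Ptab_1395) (Nat.ble 1395 c)
noncomputable def Ptab_s_1396_1398 (c : Nat) : Nat := @Bool.rec (fun _ => Nat) (Ptab_1396) (Ptab_1397) (Nat.ble 1397 c)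
noncomputable def Ptab_s_1394_1398 (c : Nat) : Nat := @Bool.rec (fun _ => Nat) (Ptab_s_1394_1396 c) (Ptab_s_1396_1398 c) (Nat.ble 1396 c)
noncomputable def Ptab_s_1390_1398 (c : Nat) : Nat := @Bool.rec (fun _ => Nat) (Ptab_s_1390_1394 c) (Ptab_s_1394_1398 c) (Nat.ble 1394 c)
noncomputable def Ptab_s_1398_1400 (c : Nat) : Nat := @Bool.rec (fun _ => Nat) (Ptab_1398) (Ptab_1399) (Nat.ble 1399 c)
noncomputable def Ptab_s_1400_1402 (c : Nat) : Nat := @Bool.rec (fun _ => Nat) (Ptab_1400) (Ptab_1401) (Nat.ble 1401 c)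
noncomputable def Ptab_s_1398_1402 (c : Nat) : Nat := @Bool.rec (fun _ => Nat) (Ptab_s_1398_1400 c) (Ptab_s_1400_1402 c) (Nat.ble 1400 c)
noncomputable def Ptab_s_1402_1404 (c : Nat) : Nat := @Bool.rec (fun _ => Nat) (Ptab_1402) (Ptab_1403) (Nat.ble 1403 c)
noncomputable def Ptab_s_1404_1406 (c : Nat) : Nat := @Bool.rec (fun _ => Nat) (Ptab_1404) (Ptab_1405) (Nat.ble 1405 c)
noncomputable def Ptab_s_1402_1406 (c : Nat) : Nat := @Bool.rec (fun _ => Nat) (Ptab_s_1402_1404 c) (Ptab_s_1404_1406 c) (Nat.ble 1404 c)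
noncomputable def Ptab_s_1398_1406 (c : Nat) : Nat := @Bool.rec (fun _ => Nat) (Ptab_s_1398_1402 c) (Ptab_s_1402_1406 c) (Nat.ble 1402 c)
noncomputable def Ptab_s_1390_1406 (c : Nat) : Nat := @Bool.rec (fun _ => Nat) (Ptab_s_1390_1398 c) (Ptab_s_1398_1406 c) (Nat.ble 1398 c)
noncomputable def Ptab_s_1375_1406 (c : Nat) : Nat := @Bool.rec (fun _ => Nat) (Ptab_s_1375_1390 c) (Ptab_s_1390_1406 c) (Nat.ble 1390 c)
noncomputable def Ptab_s_1345_1406 (c : Nat) : Nat := @Bool.rec (fun _ => Nat) (Ptab_s_1345_1375 c) (Ptab_s_1375_1406 c) (Nat.ble 1375 c)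
noncomputable def Ptab_s_1407_1409 (c : Nat) : Nat := @Bool.rec (fun _ => Nat) (Ptab_1407) (Ptab_1408) (Nat.ble 1408 c)
noncomputable def Ptab_s_1406_1409 (c : Nat) : Nat := @Bool.rec (fun _ => Nat) (Ptab_1406) (Ptab_s_1407_1409 c) (Nat.ble 1407 c)
noncomputable def Ptab_s_1409_1411 (c : Nat) : Nat := @Bool.rec (fun _ => Nat) (Ptab_1409) (Ptab_1410) (Nat.ble 1410 c)
noncomputable def Ptab_s_1411_1413 (c : Nat) : Nat := @Bool.rec (fun _ => Nat) (Ptab_1411) (Ptab_1412) (Nat.ble 1412 c)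
noncomputable def Ptab_s_1409_1413 (c : Nat) : Nat := @Bool.rec (fun _ => Nat) (Ptab_s_1409_1411 c) (Ptab_s_1411_1413 c) (Nat.ble 1411 c)
noncomputable def Ptab_s_1406_1413 (c : Nat) : Nat := @Bool.rec (fun _ => Nat) (Ptab_s_1406_1409 c) (Ptab_s_1409_1413 c) (Nat.ble 1409 c)
noncomputable def Ptab_s_1413_1415 (c : Nat) : Nat := @Bool.rec (fun _ => Nat) (Ptab_1413) (Ptab_1414) (Nat.ble 1414 c)
noncomputable def Ptab_s_1415_1417 (c : Nat) : Nat := @Bool.rec (fun _ => Nat) (Ptab_1415) (Ptab_1416) (Nat.ble 1416 c)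
noncomputable def Ptab_s_1413_1417 (c : Nat) : Nat := @Bool.rec (fun _ => Nat) (Ptab_s_1413_1415 c) (Ptab_s_1415_1417 c) (Nat.ble 1415 c)
noncomputable def Ptab_s_1417_1419 (c : Nat) : Nat := @Bool.rec (fun _ => Nat) (Ptab_1417) (Ptab_1418) (Nat.ble 1418 c)
noncomputable def Ptab_s_1419_1421 (c : Nat) : Nat := @Bool.rec (fun _ => Nat) (Ptab_1419) (Ptab_1420) (Nat.ble 1420 c)
noncomputable def Ptab_s_1417_1421 (c : Nat) : Nat := @Bool.rec (fun _ => Nat) (Ptab_s_1417_1419 c) (Ptab_s_1419_1421 c) (Nat.ble 1419 c)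
noncomputable def Ptab_s_1413_1421 (c : Nat) : Nat := @Bool.rec (fun _ => Nat) (Ptab_s_1413_1417 c) (Ptab_s_1417_1421 c) (Nat.ble 1417 c)
noncomputable def Ptab_s_1406_1421 (c : Nat) : Nat := @Bool.rec (fun _ => Nat) (Ptab_s_1406_1413 c) (Ptab_s_1413_1421 c) (Nat.ble 1413 c)
noncomputable def Ptab_s_1421_1423 (c : Nat) : Nat := @Bool.rec (fun _ => Nat) (Ptab_1421) (Ptab_1422) (Nat.ble 1422 c)
noncomputable def Ptab_s_1423_1425 (c : Nat) : Nat := @Bool.rec (fun _ => Nat) (Ptab_1423) (Ptab_1424) (Nat.ble 1424 c)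
noncomputable def Ptab_s_1421_1425 (c : Nat) : Nat := @Bool.rec (fun _ => Nat) (Ptab_s_1421_1423 c) (Ptab_s_1423_1425 c) (Nat.ble 1423 c)
noncomputable def Ptab_s_1425_1427 (c : Nat) : Nat := @Bool.rec (fun _ => Nat) (Ptab_1425) (Ptab_1426) (Nat.ble 1426 c)
noncomputable def Ptab_s_1427_1429 (c : Nat) : Nat := @Bool.rec (fun _ => Nat) (Ptab_1427) (Ptab_1428) (Nat.ble 1428 c)
noncomputable def Ptab_s_1425_1429 (c : Nat) : Nat := @Bool.rec (fun _ => Nat) (Ptab_s_1425_1427 c) (Ptab_s_1427_1429 c) (Nat.ble 1427 c)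
noncomputable def Ptab_s_1421_1429 (c : Nat) : Nat := @Bool.rec (fun _ => Nat) (Ptab_s_1421_1425 c) (Ptab_s_1425_1429 c) (Nat.ble 1425 c)
noncomputable def Ptab_s_1429_1431 (c : Nat) : Nat := @Bool.rec (fun _ => Nat) (Ptab_1429) (Ptab_1430) (Nat.ble 1430 c)
noncomputable def Ptab_s_1431_1433 (c : Nat) : Nat := @Bool.rec (fun _ => Nat) (Ptab_1431) (Ptab_1432) (Nat.ble 1432 c)
noncomputable def Ptab_s_1429_1433 (c : Nat) : Nat := @Bool.rec (fun _ => Nat) (Ptab_s_1429_1431 c) (Ptab_s_1431_1433 c) (Nat.ble 1431 c)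
noncomputable def Ptab_s_1433_1435 (c : Nat) : Nat := @Bool.rec (fun _ => Nat) (Ptab_1433) (Ptab_1434) (Nat.ble 1434 c)
noncomputable def Ptab_s_1435_1437 (c : Nat) : Nat := @Bool.rec (fun _ => Nat) (Ptab_1435) (Ptab_1436) (Nat.ble 1436 c)
noncomputable def Ptab_s_1433_1437 (c : Nat) : Nat := @Bool.rec (fun _ => Nat) (Ptab_s_1433_1435 c) (Ptab_s_1435_1437 c) (Nat.ble 1435 c)
noncomputable def Ptab_s_1429_1437 (c : Nat) : Nat := @Bool.rec (fun _ => Nat) (Ptab_s_1429_1433 c) (Ptab_s_1433_1437 c) (Nat.ble 1433 c)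
noncomputable def Ptab_s_1421_1437 (c : Nat) : Nat := @Bool.rec (fun _ => Nat) (Ptab_s_1421_1429 c) (Ptab_s_1429_1437 c) (Nat.ble 1429 c)
noncomputable def Ptab_s_1406_1437 (c : Nat) : Nat := @Bool.rec (fun _ => Nat) (Ptab_s_1406_1421 c) (Ptab_s_1421_1437 c) (Nat.ble 1421 c)
noncomputable def Ptab_s_1438_1440 (c : Nat) : Nat := @Bool.rec (fun _ => Nat) (Ptab_1438) (Ptab_1439) (Nat.ble 1439 c)
noncomputable def Ptab_s_1437_1440 (c : Nat) : Nat := @Bool.rec (fun _ => Nat) (Ptab_1437) (Ptab_s_1438_1440 c) (Nat.ble 1438 c)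
noncomputable def Ptab_s_1440_1442 (c : Nat) : Nat := @Bool.rec (fun _ => Nat) (Ptab_1440) (Ptab_1441) (Nat.ble 1441 c)
noncomputable def Ptab_s_1442_1444 (c : Nat) : Nat := @Bool.rec (fun _ => Nat) (Ptab_1442) (Ptab_1443) (Nat.ble 1443 c)
noncomputable def Ptab_s_1440_1444 (c : Nat) : Nat := @Bool.rec (fun _ => Nat) (Ptab_s_1440_1442 c) (Ptab_s_1442_1444 c) (Nat.ble 1442 c)
noncomputable def Ptab_s_1437_1444 (c : Nat) : Nat := @Bool.rec (fun _ => Nat) (Ptab_s_1437_1440 c) (Ptab_s_1440_1444 c) (Nat.ble 1440 c)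
noncomputable def Ptab_s_1444_1446 (c : Nat) : Nat := @Bool.rec (fun _ => Nat) (Ptab_1444) (Ptab_1445) (Nat.ble 1445 c)
noncomputable def Ptab_s_1446_1448 (c : Nat) : Nat := @Bool.rec (fun _ => Nat) (Ptab_1446) (Ptab_1447) (Nat.ble 1447 c)
noncomputable def Ptab_s_1444_1448 (c : Nat) : Nat := @Bool.rec (fun _ => Nat) (Ptab_s_1444_1446 c) (Ptab_s_1446_1448 c) (Nat.ble 1446 c)
noncomputable def Ptab_s_1448_1450 (c : Nat) : Nat := @Bool.rec (fun _ => Nat) (Ptab_1448) (Ptab_1449) (Nat.ble 1449 c)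
noncomputable def Ptab_s_1450_1452 (c : Nat) : Nat := @Bool.rec (fun _ => Nat) (Ptab_1450) (Ptab_1451) (Nat.ble 1451 c)
noncomputable def Ptab_s_1448_1452 (c : Nat) : Nat := @Bool.rec (fun _ => Nat) (Ptab_s_1448_1450 c) (Ptab_s_1450_1452 c) (Nat.ble 1450 c)
noncomputable def Ptab_s_1444_1452 (c : Nat) : Nat := @Bool.rec (fun _ => Nat) (Ptab_s_1444_1448 c) (Ptab_s_1448_1452 c) (Nat.ble 1448 c)
noncomputable def Ptab_s_1437_1452 (c : Nat) : Nat := @Bool.rec (fun _ => Nat) (Ptab_s_1437_1444 c) (Ptab_s_1444_1452 c) (Nat.ble 1444 c)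
noncomputable def Ptab_s_1452_1454 (c : Nat) : Nat := @Bool.rec (fun _ => Nat) (Ptab_1452) (Ptab_1453) (Nat.ble 1453 c)
noncomputable def Ptab_s_1454_1456 (c : Nat) : Nat := @Bool.rec (fun _ => Nat) (Ptab_1454) (Ptab_1455) (Nat.ble 1455 c)
noncomputable def Ptab_s_1452_1456 (c : Nat) : Nat := @Bool.rec (fun _ => Nat) (Ptab_s_1452_1454 c) (Ptab_s_1454_1456 c) (Nat.ble 1454 c)
noncomputable def Ptab_s_1456_1458 (c : Nat) : Nat := @Bool.rec (fun _ => Nat) (Ptab_1456) (Ptab_1457) (Nat.ble 1457 c)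
noncomputable def Ptab_s_1458_1460 (c : Nat) : Nat := @Bool.rec (fun _ => Nat) (Ptab_1458) (Ptab_1459) (Nat.ble 1459 c)
noncomputable def Ptab_s_1456_1460 (c : Nat) : Nat := @Bool.rec (fun _ => Nat) (Ptab_s_1456_1458 c) (Ptab_s_1458_1460 c) (Nat.ble 1458 c)
noncomputable def Ptab_s_1452_1460 (c : Nat) : Nat := @Bool.rec (fun _ => Nat) (Ptab_s_1452_1456 c) (Ptab_s_1456_1460 c) (Nat.ble 1456 c)
noncomputable def Ptab_s_1460_1462 (c : Nat) : Nat := @Bool.rec (fun _ => Nat) (Ptab_1460) (Ptab_1461) (Nat.ble 1461 c)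
noncomputable def Ptab_s_1462_1464 (c : Nat) : Nat := @Bool.rec (fun _ => Nat) (Ptab_1462) (Ptab_1463) (Nat.ble 1463 c)
noncomputable def Ptab_s_1460_1464 (c : Nat) : Nat := @Bool.rec (fun _ => Nat) (Ptab_s_1460_1462 c) (Ptab_s_1462_1464 c) (Nat.ble 1462 c)
noncomputable def Ptab_s_1464_1466 (c : Nat) : Nat := @Bool.rec (fun _ => Nat) (Ptab_1464) (Ptab_1465) (Nat.ble 1465 c)
noncomputable def Ptab_s_1466_1468 (c : Nat) : Nat := @Bool.rec (fun _ => Nat) (Ptab_1466) (Ptab_1467) (Nat.ble 1467 c)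
noncomputable def Ptab_s_1464_1468 (c : Nat) : Nat := @Bool.rec (fun _ => Nat) (Ptab_s_1464_1466 c) (Ptab_s_1466_1468 c) (Nat.ble 1466 c)
noncomputable def Ptab_s_1460_1468 (c : Nat) : Nat := @Bool.rec (fun _ => Nat) (Ptab_s_1460_1464 c) (Ptab_s_1464_1468 c) (Nat.ble 1464 c)
noncomputable def Ptab_s_1452_1468 (c : Nat) : Nat := @Bool.rec (fun _ => Nat) (Ptab_s_1452_1460 c) (Ptab_s_1460_1468 c) (Nat.ble 1460 c)
noncomputable def Ptab_s_1437_1468 (c : Nat) : Nat := @Bool.rec (fun _ => Nat) (Ptab_s_1437_1452 c) (Ptab_s_1452_1468 c) (Nat.ble 1452 c)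
noncomputable def Ptab_s_1406_1468 (c : Nat) : Nat := @Bool.rec (fun _ => Nat) (Ptab_s_1406_1437 c) (Ptab_s_1437_1468 c) (Nat.ble 1437 c)
noncomputable def Ptab_s_1345_1468 (c : Nat) : Nat := @Bool.rec (fun _ => Nat) (Ptab_s_1345_1406 c) (Ptab_s_1406_1468 c) (Nat.ble 1406 c)
noncomputable def Ptab_s_1223_1468 (c : Nat) : Nat := @Bool.rec (fun _ => Nat) (Ptab_s_1223_1345 c) (Ptab_s_1345_1468 c) (Nat.ble 1345 c)
noncomputable def Ptab_s_979_1468 (c : Nat) : Nat := @Bool.rec (fun _ => Nat) (Ptab_s_979_1223 c) (Ptab_s_1223_1468 c) (Nat.ble 1223 c)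
noncomputable def Ptab_s_1469_1471 (c : Nat) : Nat := @Bool.rec (fun _ => Nat) (Ptab_1469) (Ptab_1470) (Nat.ble 1470 c)
noncomputable def Ptab_s_1468_1471 (c : Nat) : Nat := @Bool.rec (fun _ => Nat) (Ptab_1468) (Ptab_s_1469_1471 c) (Nat.ble 1469 c)
noncomputable def Ptab_s_1471_1473 (c : Nat) : Nat := @Bool.rec (fun _ => Nat) (Ptab_1471) (Ptab_1472) (Nat.ble 1472 c)
noncomputable def Ptab_s_1473_1475 (c : Nat) : Nat := @Bool.rec (fun _ => Nat) (Ptab_1473) (Ptab_1474) (Nat.ble 1474 c)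
noncomputable def Ptab_s_1471_1475 (c : Nat) : Nat := @Bool.rec (fun _ => Nat) (Ptab_s_1471_1473 c) (Ptab_s_1473_1475 c) (Nat.ble 1473 c)
noncomputable def Ptab_s_1468_1475 (c : Nat) : Nat := @Bool.rec (fun _ => Nat) (Ptab_s_1468_1471 c) (Ptab_s_1471_1475 c) (Nat.ble 1471 c)
noncomputable def Ptab_s_1475_1477 (c : Nat) : Nat := @Bool.rec (fun _ => Nat) (Ptab_1475) (Ptab_1476) (Nat.ble 1476 c)
noncomputable def Ptab_s_1477_1479 (c : Nat) : Nat := @Bool.rec (fun _ => Nat) (Ptab_1477) (Ptab_1478) (Nat.ble 1478 c)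
noncomputable def Ptab_s_1475_1479 (c : Nat) : Nat := @Bool.rec (fun _ => Nat) (Ptab_s_1475_1477 c) (Ptab_s_1477_1479 c) (Nat.ble 1477 c)
noncomputable def Ptab_s_1479_1481 (c : Nat) : Nat := @Bool.rec (fun _ => Nat) (Ptab_1479) (Ptab_1480) (Nat.ble 1480 c)
noncomputable def Ptab_s_1481_1483 (c : Nat) : Nat := @Bool.rec (fun _ => Nat) (Ptab_1481) (Ptab_1482) (Nat.ble 1482 c)
noncomputable def Ptab_s_1479_1483 (c : Nat) : Nat := @Bool.rec (fun _ => Nat) (Ptab_s_1479_1481 c) (Ptab_s_1481_1483 c) (Nat.ble 1481 c)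
noncomputable def Ptab_s_1475_1483 (c : Nat) : Nat := @Bool.rec (fun _ => Nat) (Ptab_s_1475_1479 c) (Ptab_s_1479_1483 c) (Nat.ble 1479 c)
noncomputable def Ptab_s_1468_1483 (c : Nat) : Nat := @Bool.rec (fun _ => Nat) (Ptab_s_1468_1475 c) (Ptab_s_1475_1483 c) (Nat.ble 1475 c)
noncomputable def Ptab_s_1484_1486 (c : Nat) : Nat := @Bool.rec (fun _ => Nat) (Ptab_1484) (Ptab_1485) (Nat.ble 1485 c)
noncomputable def Ptab_s_1483_1486 (c : Nat) : Nat := @Bool.rec (fun _ => Nat) (Ptab_1483) (Ptab_s_1484_1486 c) (Nat.ble 1484 c)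
noncomputable def Ptab_s_1486_1488 (c : Nat) : Nat := @Bool.rec (fun _ => Nat) (Ptab_1486) (Ptab_1487) (Nat.ble 1487 c)
noncomputable def Ptab_s_1488_1490 (c : Nat) : Nat := @Bool.rec (fun _ => Nat) (Ptab_1488) (Ptab_1489) (Nat.ble 1489 c)
noncomputable def Ptab_s_1486_1490 (c : Nat) : Nat := @Bool.rec (fun _ => Nat) (Ptab_s_1486_1488 c) (Ptab_s_1488_1490 c) (Nat.ble 1488 c)
noncomputable def Ptab_s_1483_1490 (c : Nat) : Nat := @Bool.rec (fun _ => Nat) (Ptab_s_1483_1486 c) (Ptab_s_1486_1490 c) (Nat.ble 1486 c)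
noncomputable def Ptab_s_1490_1492 (c : Nat) : Nat := @Bool.rec (fun _ => Nat) (Ptab_1490) (Ptab_1491) (Nat.ble 1491 c)
noncomputable def Ptab_s_1492_1494 (c : Nat) : Nat := @Bool.rec (fun _ => Nat) (Ptab_1492) (Ptab_1493) (Nat.ble 1493 c)
noncomputable def Ptab_s_1490_1494 (c : Nat) : Nat := @Bool.rec (fun _ => Nat) (Ptab_s_1490_1492 c) (Ptab_s_1492_1494 c) (Nat.ble 1492 c)
noncomputable def Ptab_s_1494_1496 (c : Nat) : Nat := @Bool.rec (fun _ => Nat) (Ptab_1494) (Ptab_1495) (Nat.ble 1495 c)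
noncomputable def Ptab_s_1496_1498 (c : Nat) : Nat := @Bool.rec (fun _ => Nat) (Ptab_1496) (Ptab_1497) (Nat.ble 1497 c)
noncomputable def Ptab_s_1494_1498 (c : Nat) : Nat := @Bool.rec (fun _ => Nat) (Ptab_s_1494_1496 c) (Ptab_s_1496_1498 c) (Nat.ble 1496 c)
noncomputable def Ptab_s_1490_1498 (c : Nat) : Nat := @Bool.rec (fun _ => Nat) (Ptab_s_1490_1494 c) (Ptab_s_1494_1498 c) (Nat.ble 1494 c)
noncomputable def Ptab_s_1483_1498 (c : Nat) : Nat := @Bool.rec (fun _ => Nat) (Ptab_s_1483_1490 c) (Ptab_s_1490_1498 c) (Nat.ble 1490 c)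
noncomputable def Ptab_s_1468_1498 (c : Nat) : Nat := @Bool.rec (fun _ => Nat) (Ptab_s_1468_1483 c) (Ptab_s_1483_1498 c) (Nat.ble 1483 c)
noncomputable def Ptab_s_1499_1501 (c : Nat) : Nat := @Bool.rec (fun _ => Nat) (Ptab_1499) (Ptab_1500) (Nat.ble 1500 c)
noncomputable def Ptab_s_1498_1501 (c : Nat) : Nat := @Bool.rec (fun _ => Nat) (Ptab_1498) (Ptab_s_1499_1501 c) (Nat.ble 1499 c)
noncomputable def Ptab_s_1501_1503 (c : Nat) : Nat := @Bool.rec (fun _ => Nat) (Ptab_1501) (Ptab_1502) (Nat.ble 1502 c)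
noncomputable def Ptab_s_1503_1505 (c : Nat) : Nat := @Bool.rec (fun _ => Nat) (Ptab_1503) (Ptab_1504) (Nat.ble 1504 c)
noncomputable def Ptab_s_1501_1505 (c : Nat) : Nat := @Bool.rec (fun _ => Nat) (Ptab_s_1501_1503 c) (Ptab_s_1503_1505 c) (Nat.ble 1503 c)
noncomputable def Ptab_s_1498_1505 (c : Nat) : Nat := @Bool.rec (fun _ => Nat) (Ptab_s_1498_1501 c) (Ptab_s_1501_1505 c) (Nat.ble 1501 c)
noncomputable def Ptab_s_1505_1507 (c : Nat) : Nat := @Bool.rec (fun _ => Nat) (Ptab_1505) (Ptab_1506) (Nat.ble 1506 c)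
noncomputable def Ptab_s_1507_1509 (c : Nat) : Nat := @Bool.rec (fun _ => Nat) (Ptab_1507) (Ptab_1508) (Nat.ble 1508 c)
noncomputable def Ptab_s_1505_1509 (c : Nat) : Nat := @Bool.rec (fun _ => Nat) (Ptab_s_1505_1507 c) (Ptab_s_1507_1509 c) (Nat.ble 1507 c)
noncomputable def Ptab_s_1509_1511 (c : Nat) : Nat := @Bool.rec (fun _ => Nat) (Ptab_1509) (Ptab_1510) (Nat.ble 1510 c)
noncomputable def Ptab_s_1511_1513 (c : Nat) : Nat := @Bool.rec (fun _ => Nat) (Ptab_1511) (Ptab_1512) (Nat.ble 1512 c)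
noncomputable def Ptab_s_1509_1513 (c : Nat) : Nat := @Bool.rec (fun _ => Nat) (Ptab_s_1509_1511 c) (Ptab_s_1511_1513 c) (Nat.ble 1511 c)
noncomputable def Ptab_s_1505_1513 (c : Nat) : Nat := @Bool.rec (fun _ => Nat) (Ptab_s_1505_1509 c) (Ptab_s_1509_1513 c) (Nat.ble 1509 c)
noncomputable def Ptab_s_1498_1513 (c : Nat) : Nat := @Bool.rec (fun _ => Nat) (Ptab_s_1498_1505 c) (Ptab_s_1505_1513 c) (Nat.ble 1505 c)
noncomputable def Ptab_s_1513_1515 (c : Nat) : Nat := @Bool.rec (fun _ => Nat) (Ptab_1513) (Ptab_1514) (Nat.ble 1514 c)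
noncomputable def Ptab_s_1515_1517 (c : Nat) : Nat := @Bool.rec (fun _ => Nat) (Ptab_1515) (Ptab_1516) (Nat.ble 1516 c)
noncomputable def Ptab_s_1513_1517 (c : Nat) : Nat := @Bool.rec (fun _ => Nat) (Ptab_s_1513_1515 c) (Ptab_s_1515_1517 c) (Nat.ble 1515 c)
noncomputable def Ptab_s_1517_1519 (c : Nat) : Nat := @Bool.rec (fun _ => Nat) (Ptab_1517) (Ptab_1518) (Nat.ble 1518 c)
noncomputable def Ptab_s_1519_1521 (c : Nat) : Nat := @Bool.rec (fun _ => Nat) (Ptab_1519) (Ptab_1520) (Nat.ble 1520 c)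
noncomputable def Ptab_s_1517_1521 (c : Nat) : Nat := @Bool.rec (fun _ => Nat) (Ptab_s_1517_1519 c) (Ptab_s_1519_1521 c) (Nat.ble 1519 c)
noncomputable def Ptab_s_1513_1521 (c : Nat) : Nat := @Bool.rec (fun _ => Nat) (Ptab_s_1513_1517 c) (Ptab_s_1517_1521 c) (Nat.ble 1517 c)
noncomputable def Ptab_s_1521_1523 (c : Nat) : Nat := @Bool.rec (fun _ => Nat) (Ptab_1521) (Ptab_1522) (Nat.ble 1522 c)
noncomputable def Ptab_s_1523_1525 (c : Nat) : Nat := @Bool.rec (fun _ => Nat) (Ptab_1523) (Ptab_1524) (Nat.ble 1524 c)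
noncomputable def Ptab_s_1521_1525 (c : Nat) : Nat := @Bool.rec (fun _ => Nat) (Ptab_s_1521_1523 c) (Ptab_s_1523_1525 c) (Nat.ble 1523 c)
noncomputable def Ptab_s_1525_1527 (c : Nat) : Nat := @Bool.rec (fun _ => Nat) (Ptab_1525) (Ptab_1526) (Nat.ble 1526 c)
noncomputable def Ptab_s_1527_1529 (c : Nat) : Nat := @Bool.rec (fun _ => Nat) (Ptab_1527) (Ptab_1528) (Nat.ble 1528 c)
noncomputable def Ptab_s_1525_1529 (c : Nat) : Nat := @Bool.rec (fun _ => Nat) (Ptab_s_1525_1527 c) (Ptab_s_1527_1529 c) (Nat.ble 1527 c)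
noncomputable def Ptab_s_1521_1529 (c : Nat) : Nat := @Bool.rec (fun _ => Nat) (Ptab_s_1521_1525 c) (Ptab_s_1525_1529 c) (Nat.ble 1525 c)
noncomputable def Ptab_s_1513_1529 (c : Nat) : Nat := @Bool.rec (fun _ => Nat) (Ptab_s_1513_1521 c) (Ptab_s_1521_1529 c) (Nat.ble 1521 c)
noncomputable def Ptab_s_1498_1529 (c : Nat) : Nat := @Bool.rec (fun _ => Nat) (Ptab_s_1498_1513 c) (Ptab_s_1513_1529 c) (Nat.ble 1513 c)
noncomputable def Ptab_s_1468_1529 (c : Nat) : Nat := @Bool.rec (fun _ => Nat) (Ptab_s_1468_1498 c) (Ptab_s_1498_1529 c) (Nat.ble 1498 c)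
noncomputable def Ptab_s_1530_1532 (c : Nat) : Nat := @Bool.rec (fun _ => Nat) (Ptab_1530) (Ptab_1531) (Nat.ble 1531 c)
noncomputable def Ptab_s_1529_1532 (c : Nat) : Nat := @Bool.rec (fun _ => Nat) (Ptab_1529) (Ptab_s_1530_1532 c) (Nat.ble 1530 c)
noncomputable def Ptab_s_1532_1534 (c : Nat) : Nat := @Bool.rec (fun _ => Nat) (Ptab_1532) (Ptab_1533) (Nat.ble 1533 c)
noncomputable def Ptab_s_1534_1536 (c : Nat) : Nat := @Bool.rec (fun _ => Nat) (Ptab_1534) (Ptab_1535) (Nat.ble 1535 c)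
noncomputable def Ptab_s_1532_1536 (c : Nat) : Nat := @Bool.rec (fun _ => Nat) (Ptab_s_1532_1534 c) (Ptab_s_1534_1536 c) (Nat.ble 1534 c)
noncomputable def Ptab_s_1529_1536 (c : Nat) : Nat := @Bool.rec (fun _ => Nat) (Ptab_s_1529_1532 c) (Ptab_s_1532_1536 c) (Nat.ble 1532 c)
noncomputable def Ptab_s_1536_1538 (c : Nat) : Nat := @Bool.rec (fun _ => Nat) (Ptab_1536) (Ptab_1537) (Nat.ble 1537 c)
noncomputable def Ptab_s_1538_1540 (c : Nat) : Nat := @Bool.rec (fun _ => Nat) (Ptab_1538) (Ptab_1539) (Nat.ble 1539 c)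
noncomputable def Ptab_s_1536_1540 (c : Nat) : Nat := @Bool.rec (fun _ => Nat) (Ptab_s_1536_1538 c) (Ptab_s_1538_1540 c) (Nat.ble 1538 c)
noncomputable def Ptab_s_1540_1542 (c : Nat) : Nat := @Bool.rec (fun _ => Nat) (Ptab_1540) (Ptab_1541) (Nat.ble 1541 c)
noncomputable def Ptab_s_1542_1544 (c : Nat) : Nat := @Bool.rec (fun _ => Nat) (Ptab_1542) (Ptab_1543) (Nat.ble 1543 c)
noncomputable def Ptab_s_1540_1544 (c : Nat) : Nat := @Bool.rec (fun _ => Nat) (Ptab_s_1540_1542 c) (Ptab_s_1542_1544 c) (Nat.ble 1542 c)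
noncomputable def Ptab_s_1536_1544 (c : Nat) : Nat := @Bool.rec (fun _ => Nat) (Ptab_s_1536_1540 c) (Ptab_s_1540_1544 c) (Nat.ble 1540 c)
noncomputable def Ptab_s_1529_1544 (c : Nat) : Nat := @Bool.rec (fun _ => Nat) (Ptab_s_1529_1536 c) (Ptab_s_1536_1544 c) (Nat.ble 1536 c)
noncomputable def Ptab_s_1545_1547 (c : Nat) : Nat := @Bool.rec (fun _ => Nat) (Ptab_1545) (Ptab_1546) (Nat.ble 1546 c)
noncomputable def Ptab_s_1544_1547 (c : Nat) : Nat := @Bool.rec (fun _ => Nat) (Ptab_1544) (Ptab_s_1545_1547 c) (Nat.ble 1545 c)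
noncomputable def Ptab_s_1547_1549 (c : Nat) : Nat := @Bool.rec (fun _ => Nat) (Ptab_1547) (Ptab_1548) (Nat.ble 1548 c)
noncomputable def Ptab_s_1549_1551 (c : Nat) : Nat := @Bool.rec (fun _ => Nat) (Ptab_1549) (Ptab_1550) (Nat.ble 1550 c)
noncomputable def Ptab_s_1547_1551 (c : Nat) : Nat := @Bool.rec (fun _ => Nat) (Ptab_s_1547_1549 c) (Ptab_s_1549_1551 c) (Nat.ble 1549 c)
noncomputable def Ptab_s_1544_1551 (c : Nat) : Nat := @Bool.rec (fun _ => Nat) (Ptab_s_1544_1547 c) (Ptab_s_1547_1551 c) (Nat.ble 1547 c)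
noncomputable def Ptab_s_1551_1553 (c : Nat) : Nat := @Bool.rec (fun _ => Nat) (Ptab_1551) (Ptab_1552) (Nat.ble 1552 c)
noncomputable def Ptab_s_1553_1555 (c : Nat) : Nat := @Bool.rec (fun _ => Nat) (Ptab_1553) (Ptab_1554) (Nat.ble 1554 c)
noncomputable def Ptab_s_1551_1555 (c : Nat) : Nat := @Bool.rec (fun _ => Nat) (Ptab_s_1551_1553 c) (Ptab_s_1553_1555 c) (Nat.ble 1553 c)
noncomputable def Ptab_s_1555_1557 (c : Nat) : Nat := @Bool.rec (fun _ => Nat) (Ptab_1555) (Ptab_1556) (Nat.ble 1556 c)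
noncomputable def Ptab_s_1557_1559 (c : Nat) : Nat := @Bool.rec (fun _ => Nat) (Ptab_1557) (Ptab_1558) (Nat.ble 1558 c)
noncomputable def Ptab_s_1555_1559 (c : Nat) : Nat := @Bool.rec (fun _ => Nat) (Ptab_s_1555_1557 c) (Ptab_s_1557_1559 c) (Nat.ble 1557 c)
noncomputable def Ptab_s_1551_1559 (c : Nat) : Nat := @Bool.rec (fun _ => Nat) (Ptab_s_1551_1555 c) (Ptab_s_1555_1559 c) (Nat.ble 1555 c)
noncomputable def Ptab_s_1544_1559 (c : Nat) : Nat := @Bool.rec (fun _ => Nat) (Ptab_s_1544_1551 c) (Ptab_s_1551_1559 c) (Nat.ble 1551 c)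
noncomputable def Ptab_s_1529_1559 (c : Nat) : Nat := @Bool.rec (fun _ => Nat) (Ptab_s_1529_1544 c) (Ptab_s_1544_1559 c) (Nat.ble 1544 c)
noncomputable def Ptab_s_1560_1562 (c : Nat) : Nat := @Bool.rec (fun _ => Nat) (Ptab_1560) (Ptab_1561) (Nat.ble 1561 c)
noncomputable def Ptab_s_1559_1562 (c : Nat) : Nat := @Bool.rec (fun _ => Nat) (Ptab_1559) (Ptab_s_1560_1562 c) (Nat.ble 1560 c)
noncomputable def Ptab_s_1562_1564 (c : Nat) : Nat := @Bool.rec (fun _ => Nat) (Ptab_1562) (Ptab_1563) (Nat.ble 1563 c)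
noncomputable def Ptab_s_1564_1566 (c : Nat) : Nat := @Bool.rec (fun _ => Nat) (Ptab_1564) (Ptab_1565) (Nat.ble 1565 c)
noncomputable def Ptab_s_1562_1566 (c : Nat) : Nat := @Bool.rec (fun _ => Nat) (Ptab_s_1562_1564 c) (Ptab_s_1564_1566 c) (Nat.ble 1564 c)
noncomputable def Ptab_s_1559_1566 (c : Nat) : Nat := @Bool.rec (fun _ => Nat) (Ptab_s_1559_1562 c) (Ptab_s_1562_1566 c) (Nat.ble 1562 c)
noncomputable def Ptab_s_1566_1568 (c : Nat) : Nat := @Bool.rec (fun _ => Nat) (Ptab_1566) (Ptab_1567) (Nat.ble 1567 c)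
noncomputable def Ptab_s_1568_1570 (c : Nat) : Nat := @Bool.rec (fun _ => Nat) (Ptab_1568) (Ptab_1569) (Nat.ble 1569 c)
noncomputable def Ptab_s_1566_1570 (c : Nat) : Nat := @Bool.rec (fun _ => Nat) (Ptab_s_1566_1568 c) (Ptab_s_1568_1570 c) (Nat.ble 1568 c)
noncomputable def Ptab_s_1570_1572 (c : Nat) : Nat := @Bool.rec (fun _ => Nat) (Ptab_1570) (Ptab_1571) (Nat.ble 1571 c)
noncomputable def Ptab_s_1572_1574 (c : Nat) : Nat := @Bool.rec (fun _ => Nat) (Ptab_1572) (Ptab_1573) (Nat.ble 1573 c)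
noncomputable def Ptab_s_1570_1574 (c : Nat) : Nat := @Bool.rec (fun _ => Nat) (Ptab_s_1570_1572 c) (Ptab_s_1572_1574 c) (Nat.ble 1572 c)
noncomputable def Ptab_s_1566_1574 (c : Nat) : Nat := @Bool.rec (fun _ => Nat) (Ptab_s_1566_1570 c) (Ptab_s_1570_1574 c) (Nat.ble 1570 c)
noncomputable def Ptab_s_1559_1574 (c : Nat) : Nat := @Bool.rec (fun _ => Nat) (Ptab_s_1559_1566 c) (Ptab_s_1566_1574 c) (Nat.ble 1566 c)
noncomputable def Ptab_s_1574_1576 (c : Nat) : Nat := @Bool.rec (fun _ => Nat) (Ptab_1574) (Ptab_1575) (Nat.ble 1575 c)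
noncomputable def Ptab_s_1576_1578 (c : Nat) : Nat := @Bool.rec (fun _ => Nat) (Ptab_1576) (Ptab_1577) (Nat.ble 1577 c)
noncomputable def Ptab_s_1574_1578 (c : Nat) : Nat := @Bool.rec (fun _ => Nat) (Ptab_s_1574_1576 c) (Ptab_s_1576_1578 c) (Nat.ble 1576 c)
noncomputable def Ptab_s_1578_1580 (c : Nat) : Nat := @Bool.rec (fun _ => Nat) (Ptab_1578) (Ptab_1579) (Nat.ble 1579 c)
noncomputable def Ptab_s_1580_1582 (c : Nat) : Nat := @Bool.rec (fun _ => Nat) (Ptab_1580) (Ptab_1581) (Nat.ble 1581 c)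
noncomputable def Ptab_s_1578_1582 (c : Nat) : Nat := @Bool.rec (fun _ => Nat) (Ptab_s_1578_1580 c) (Ptab_s_1580_1582 c) (Nat.ble 1580 c)
noncomputable def Ptab_s_1574_1582 (c : Nat) : Nat := @Bool.rec (fun _ => Nat) (Ptab_s_1574_1578 c) (Ptab_s_1578_1582 c) (Nat.ble 1578 c)
noncomputable def Ptab_s_1582_1584 (c : Nat) : Nat := @Bool.rec (fun _ => Nat) (Ptab_1582) (Ptab_1583) (Nat.ble 1583 c)
noncomputable def Ptab_s_1584_1586 (c : Nat) : Nat := @Bool.rec (fun _ => Nat) (Ptab_1584) (Ptab_1585) (Nat.ble 1585 c)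
noncomputable def Ptab_s_1582_1586 (c : Nat) : Nat := @Bool.rec (fun _ => Nat) (Ptab_s_1582_1584 c) (Ptab_s_1584_1586 c) (Nat.ble 1584 c)
noncomputable def Ptab_s_1586_1588 (c : Nat) : Nat := @Bool.rec (fun _ => Nat) (Ptab_1586) (Ptab_1587) (Nat.ble 1587 c)
noncomputable def Ptab_s_1588_1590 (c : Nat) : Nat := @Bool.rec (fun _ => Nat) (Ptab_1588) (Ptab_1589) (Nat.ble 1589 c)
noncomputable def Ptab_s_1586_1590 (c : Nat) : Nat := @Bool.rec (fun _ => Nat) (Ptab_s_1586_1588 c) (Ptab_s_1588_1590 c) (Nat.ble 1588 c)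
noncomputable def Ptab_s_1582_1590 (c : Nat) : Nat := @Bool.rec (fun _ => Nat) (Ptab_s_1582_1586 c) (Ptab_s_1586_1590 c) (Nat.ble 1586 c)
noncomputable def Ptab_s_1574_1590 (c : Nat) : Nat := @Bool.rec (fun _ => Nat) (Ptab_s_1574_1582 c) (Ptab_s_1582_1590 c) (Nat.ble 1582 c)
noncomputable def Ptab_s_1559_1590 (c : Nat) : Nat := @Bool.rec (fun _ => Nat) (Ptab_s_1559_1574 c) (Ptab_s_1574_1590 c) (Nat.ble 1574 c)
noncomputable def Ptab_s_1529_1590 (c : Nat) : Nat := @Bool.rec (fun _ => Nat) (Ptab_s_1529_1559 c) (Ptab_s_1559_1590 c) (Nat.ble 1559 c)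
noncomputable def Ptab_s_1468_1590 (c : Nat) : Nat := @Bool.rec (fun _ => Nat) (Ptab_s_1468_1529 c) (Ptab_s_1529_1590 c) (Nat.ble 1529 c)
noncomputable def Ptab_s_1591_1593 (c : Nat) : Nat := @Bool.rec (fun _ => Nat) (Ptab_1591) (Ptab_1592) (Nat.ble 1592 c)
noncomputable def Ptab_s_1590_1593 (c : Nat) : Nat := @Bool.rec (fun _ => Nat) (Ptab_1590) (Ptab_s_1591_1593 c) (Nat.ble 1591 c)
noncomputable def Ptab_s_1593_1595 (c : Nat) : Nat := @Bool.rec (fun _ => Nat) (Ptab_1593) (Ptab_1594) (Nat.ble 1594 c)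
noncomputable def Ptab_s_1595_1597 (c : Nat) : Nat := @Bool.rec (fun _ => Nat) (Ptab_1595) (Ptab_1596) (Nat.ble 1596 c)
noncomputable def Ptab_s_1593_1597 (c : Nat) : Nat := @Bool.rec (fun _ => Nat) (Ptab_s_1593_1595 c) (Ptab_s_1595_1597 c) (Nat.ble 1595 c)
noncomputable def Ptab_s_1590_1597 (c : Nat) : Nat := @Bool.rec (fun _ => Nat) (Ptab_s_1590_1593 c) (Ptab_s_1593_1597 c) (Nat.ble 1593 c)
noncomputable def Ptab_s_1597_1599 (c : Nat) : Nat := @Bool.rec (fun _ => Nat) (Ptab_1597) (Ptab_1598) (Nat.ble 1598 c)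
noncomputable def Ptab_s_1599_1601 (c : Nat) : Nat := @Bool.rec (fun _ => Nat) (Ptab_1599) (Ptab_1600) (Nat.ble 1600 c)
noncomputable def Ptab_s_1597_1601 (c : Nat) : Nat := @Bool.rec (fun _ => Nat) (Ptab_s_1597_1599 c) (Ptab_s_1599_1601 c) (Nat.ble 1599 c)
noncomputable def Ptab_s_1601_1603 (c : Nat) : Nat := @Bool.rec (fun _ => Nat) (Ptab_1601) (Ptab_1602) (Nat.ble 1602 c)
noncomputable def Ptab_s_1603_1605 (c : Nat) : Nat := @Bool.rec (fun _ => Nat) (Ptab_1603) (Ptab_1604) (Nat.ble 1604 c)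
noncomputable def Ptab_s_1601_1605 (c : Nat) : Nat := @Bool.rec (fun _ => Nat) (Ptab_s_1601_1603 c) (Ptab_s_1603_1605 c) (Nat.ble 1603 c)
noncomputable def Ptab_s_1597_1605 (c : Nat) : Nat := @Bool.rec (fun _ => Nat) (Ptab_s_1597_1601 c) (Ptab_s_1601_1605 c) (Nat.ble 1601 c)
noncomputable def Ptab_s_1590_1605 (c : Nat) : Nat := @Bool.rec (fun _ => Nat) (Ptab_s_1590_1597 c) (Ptab_s_1597_1605 c) (Nat.ble 1597 c)
noncomputable def Ptab_s_1606_1608 (c : Nat) : Nat := @Bool.rec (fun _ => Nat) (Ptab_1606) (Ptab_1607) (Nat.ble 1607 c)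
noncomputable def Ptab_s_1605_1608 (c : Nat) : Nat := @Bool.rec (fun _ => Nat) (Ptab_1605) (Ptab_s_1606_1608 c) (Nat.ble 1606 c)
noncomputable def Ptab_s_1608_1610 (c : Nat) : Nat := @Bool.rec (fun _ => Nat) (Ptab_1608) (Ptab_1609) (Nat.ble 1609 c)
noncomputable def Ptab_s_1610_1612 (c : Nat) : Nat := @Bool.rec (fun _ => Nat) (Ptab_1610) (Ptab_1611) (Nat.ble 1611 c)
noncomputable def Ptab_s_1608_1612 (c : Nat) : Nat := @Bool.rec (fun _ => Nat) (Ptab_s_1608_1610 c) (Ptab_s_1610_1612 c) (Nat.ble 1610 c)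
noncomputable def Ptab_s_1605_1612 (c : Nat) : Nat := @Bool.rec (fun _ => Nat) (Ptab_s_1605_1608 c) (Ptab_s_1608_1612 c) (Nat.ble 1608 c)
noncomputable def Ptab_s_1612_1614 (c : Nat) : Nat := @Bool.rec (fun _ => Nat) (Ptab_1612) (Ptab_1613) (Nat.ble 1613 c)
noncomputable def Ptab_s_1614_1616 (c : Nat) : Nat := @Bool.rec (fun _ => Nat) (Ptab_1614) (Ptab_1615) (Nat.ble 1615 c)
noncomputable def Ptab_s_1612_1616 (c : Nat) : Nat := @Bool.rec (fun _ => Nat) (Ptab_s_1612_1614 c) (Ptab_s_1614_1616 c) (Nat.ble 1614 c)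
noncomputable def Ptab_s_1616_1618 (c : Nat) : Nat := @Bool.rec (fun _ => Nat) (Ptab_1616) (Ptab_1617) (Nat.ble 1617 c)
noncomputable def Ptab_s_1618_1620 (c : Nat) : Nat := @Bool.rec (fun _ => Nat) (Ptab_1618) (Ptab_1619) (Nat.ble 1619 c)
noncomputable def Ptab_s_1616_1620 (c : Nat) : Nat := @Bool.rec (fun _ => Nat) (Ptab_s_1616_1618 c) (Ptab_s_1618_1620 c) (Nat.ble 1618 c)
noncomputable def Ptab_s_1612_1620 (c : Nat) : Nat := @Bool.rec (fun _ => Nat) (Ptab_s_1612_1616 c) (Ptab_s_1616_1620 c) (Nat.ble 1616 c)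
noncomputable def Ptab_s_1605_1620 (c : Nat) : Nat := @Bool.rec (fun _ => Nat) (Ptab_s_1605_1612 c) (Ptab_s_1612_1620 c) (Nat.ble 1612 c)
noncomputable def Ptab_s_1590_1620 (c : Nat) : Nat := @Bool.rec (fun _ => Nat) (Ptab_s_1590_1605 c) (Ptab_s_1605_1620 c) (Nat.ble 1605 c)
noncomputable def Ptab_s_1621_1623 (c : Nat) : Nat := @Bool.rec (fun _ => Nat) (Ptab_1621) (Ptab_1622) (Nat.ble 1622 c)
noncomputable def Ptab_s_1620_1623 (c : Nat) : Nat := @Bool.rec (fun _ => Nat) (Ptab_1620) (Ptab_s_1621_1623 c) (Nat.ble 1621 c)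
noncomputable def Ptab_s_1623_1625 (c : Nat) : Nat := @Bool.rec (fun _ => Nat) (Ptab_1623) (Ptab_1624) (Nat.ble 1624 c)
noncomputable def Ptab_s_1625_1627 (c : Nat) : Nat := @Bool.rec (fun _ => Nat) (Ptab_1625) (Ptab_1626) (Nat.ble 1626 c)
noncomputable def Ptab_s_1623_1627 (c : Nat) : Nat := @Bool.rec (fun _ => Nat) (Ptab_s_1623_1625 c) (Ptab_s_1625_1627 c) (Nat.ble 1625 c)
noncomputable def Ptab_s_1620_1627 (c : Nat) : Nat := @Bool.rec (fun _ => Nat) (Ptab_s_1620_1623 c) (Ptab_s_1623_1627 c) (Nat.ble 1623 c)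
noncomputable def Ptab_s_1627_1629 (c : Nat) : Nat := @Bool.rec (fun _ => Nat) (Ptab_1627) (Ptab_1628) (Nat.ble 1628 c)
noncomputable def Ptab_s_1629_1631 (c : Nat) : Nat := @Bool.rec (fun _ => Nat) (Ptab_1629) (Ptab_1630) (Nat.ble 1630 c)
noncomputable def Ptab_s_1627_1631 (c : Nat) : Nat := @Bool.rec (fun _ => Nat) (Ptab_s_1627_1629 c) (Ptab_s_1629_1631 c) (Nat.ble 1629 c)
noncomputable def Ptab_s_1631_1633 (c : Nat) : Nat := @Bool.rec (fun _ => Nat) (Ptab_1631) (Ptab_1632) (Nat.ble 1632 c)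
noncomputable def Ptab_s_1633_1635 (c : Nat) : Nat := @Bool.rec (fun _ => Nat) (Ptab_1633) (Ptab_1634) (Nat.ble 1634 c)
noncomputable def Ptab_s_1631_1635 (c : Nat) : Nat := @Bool.rec (fun _ => Nat) (Ptab_s_1631_1633 c) (Ptab_s_1633_1635 c) (Nat.ble 1633 c)
noncomputable def Ptab_s_1627_1635 (c : Nat) : Nat := @Bool.rec (fun _ => Nat) (Ptab_s_1627_1631 c) (Ptab_s_1631_1635 c) (Nat.ble 1631 c)
noncomputable def Ptab_s_1620_1635 (c : Nat) : Nat := @Bool.rec (fun _ => Nat) (Ptab_s_1620_1627 c) (Ptab_s_1627_1635 c) (Nat.ble 1627 c)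
noncomputable def Ptab_s_1635_1637 (c : Nat) : Nat := @Bool.rec (fun _ => Nat) (Ptab_1635) (Ptab_1636) (Nat.ble 1636 c)
noncomputable def Ptab_s_1637_1639 (c : Nat) : Nat := @Bool.rec (fun _ => Nat) (Ptab_1637) (Ptab_1638) (Nat.ble 1638 c)
noncomputable def Ptab_s_1635_1639 (c : Nat) : Nat := @Bool.rec (fun _ => Nat) (Ptab_s_1635_1637 c) (Ptab_s_1637_1639 c) (Nat.ble 1637 c)
noncomputable def Ptab_s_1639_1641 (c : Nat) : Nat := @Bool.rec (fun _ => Nat) (Ptab_1639) (Ptab_1640) (Nat.ble 1640 c)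
noncomputable def Ptab_s_1641_1643 (c : Nat) : Nat := @Bool.rec (fun _ => Nat) (Ptab_1641) (Ptab_1642) (Nat.ble 1642 c)
noncomputable def Ptab_s_1639_1643 (c : Nat) : Nat := @Bool.rec (fun _ => Nat) (Ptab_s_1639_1641 c) (Ptab_s_1641_1643 c) (Nat.ble 1641 c)
noncomputable def Ptab_s_1635_1643 (c : Nat) : Nat := @Bool.rec (fun _ => Nat) (Ptab_s_1635_1639 c) (Ptab_s_1639_1643 c) (Nat.ble 1639 c)
noncomputable def Ptab_s_1643_1645 (c : Nat) : Nat := @Bool.rec (fun _ => Nat) (Ptab_1643) (Ptab_1644) (Nat.ble 1644 c)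
noncomputable def Ptab_s_1645_1647 (c : Nat) : Nat := @Bool.rec (fun _ => Nat) (Ptab_1645) (Ptab_1646) (Nat.ble 1646 c)
noncomputable def Ptab_s_1643_1647 (c : Nat) : Nat := @Bool.rec (fun _ => Nat) (Ptab_s_1643_1645 c) (Ptab_s_1645_1647 c) (Nat.ble 1645 c)
noncomputable def Ptab_s_1647_1649 (c : Nat) : Nat := @Bool.rec (fun _ => Nat) (Ptab_1647) (Ptab_1648) (Nat.ble 1648 c)
noncomputable def Ptab_s_1649_1651 (c : Nat) : Nat := @Bool.rec (fun _ => Nat) (Ptab_1649) (Ptab_1650) (Nat.ble 1650 c)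
noncomputable def Ptab_s_1647_1651 (c : Nat) : Nat := @Bool.rec (fun _ => Nat) (Ptab_s_1647_1649 c) (Ptab_s_1649_1651 c) (Nat.ble 1649 c)
noncomputable def Ptab_s_1643_1651 (c : Nat) : Nat := @Bool.rec (fun _ => Nat) (Ptab_s_1643_1647 c) (Ptab_s_1647_1651 c) (Nat.ble 1647 c)
noncomputable def Ptab_s_1635_1651 (c : Nat) : Nat := @Bool.rec (fun _ => Nat) (Ptab_s_1635_1643 c) (Ptab_s_1643_1651 c) (Nat.ble 1643 c)
noncomputable def Ptab_s_1620_1651 (c : Nat) : Nat := @Bool.rec (fun _ => Nat) (Ptab_s_1620_1635 c) (Ptab_s_1635_1651 c) (Nat.ble 1635 c)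
noncomputable def Ptab_s_1590_1651 (c : Nat) : Nat := @Bool.rec (fun _ => Nat) (Ptab_s_1590_1620 c) (Ptab_s_1620_1651 c) (Nat.ble 1620 c)
noncomputable def Ptab_s_1652_1654 (c : Nat) : Nat := @Bool.rec (fun _ => Nat) (Ptab_1652) (Ptab_1653) (Nat.ble 1653 c)
noncomputable def Ptab_s_1651_1654 (c : Nat) : Nat := @Bool.rec (fun _ => Nat) (Ptab_1651) (Ptab_s_1652_1654 c) (Nat.ble 1652 c)
noncomputable def Ptab_s_1654_1656 (c : Nat) : Nat := @Bool.rec (fun _ => Nat) (Ptab_1654) (Ptab_1655) (Nat.ble 1655 c)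
noncomputable def Ptab_s_1656_1658 (c : Nat) : Nat := @Bool.rec (fun _ => Nat) (Ptab_1656) (Ptab_1657) (Nat.ble 1657 c)
noncomputable def Ptab_s_1654_1658 (c : Nat) : Nat := @Bool.rec (fun _ => Nat) (Ptab_s_1654_1656 c) (Ptab_s_1656_1658 c) (Nat.ble 1656 c)
noncomputable def Ptab_s_1651_1658 (c : Nat) : Nat := @Bool.rec (fun _ => Nat) (Ptab_s_1651_1654 c) (Ptab_s_1654_1658 c) (Nat.ble 1654 c)
noncomputable def Ptab_s_1658_1660 (c : Nat) : Nat := @Bool.rec (fun _ => Nat) (Ptab_1658) (Ptab_1659) (Nat.ble 1659 c)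
noncomputable def Ptab_s_1660_1662 (c : Nat) : Nat := @Bool.rec (fun _ => Nat) (Ptab_1660) (Ptab_1661) (Nat.ble 1661 c)
noncomputable def Ptab_s_1658_1662 (c : Nat) : Nat := @Bool.rec (fun _ => Nat) (Ptab_s_1658_1660 c) (Ptab_s_1660_1662 c) (Nat.ble 1660 c)
noncomputable def Ptab_s_1662_1664 (c : Nat) : Nat := @Bool.rec (fun _ => Nat) (Ptab_1662) (Ptab_1663) (Nat.ble 1663 c)
noncomputable def Ptab_s_1664_1666 (c : Nat) : Nat := @Bool.rec (fun _ => Nat) (Ptab_1664) (Ptab_1665) (Nat.ble 1665 c)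
noncomputable def Ptab_s_1662_1666 (c : Nat) : Nat := @Bool.rec (fun _ => Nat) (Ptab_s_1662_1664 c) (Ptab_s_1664_1666 c) (Nat.ble 1664 c)
noncomputable def Ptab_s_1658_1666 (c : Nat) : Nat := @Bool.rec (fun _ => Nat) (Ptab_s_1658_1662 c) (Ptab_s_1662_1666 c) (Nat.ble 1662 c)
noncomputable def Ptab_s_1651_1666 (c : Nat) : Nat := @Bool.rec (fun _ => Nat) (Ptab_s_1651_1658 c) (Ptab_s_1658_1666 c) (Nat.ble 1658 c)
noncomputable def Ptab_s_1666_1668 (c : Nat) : Nat := @Bool.rec (fun _ => Nat) (Ptab_1666) (Ptab_1667) (Nat.ble 1667 c)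
noncomputable def Ptab_s_1668_1670 (c : Nat) : Nat := @Bool.rec (fun _ => Nat) (Ptab_1668) (Ptab_1669) (Nat.ble 1669 c)
noncomputable def Ptab_s_1666_1670 (c : Nat) : Nat := @Bool.rec (fun _ => Nat) (Ptab_s_1666_1668 c) (Ptab_s_1668_1670 c) (Nat.ble 1668 c)
noncomputable def Ptab_s_1670_1672 (c : Nat) : Nat := @Bool.rec (fun _ => Nat) (Ptab_1670) (Ptab_1671) (Nat.ble 1671 c)
noncomputable def Ptab_s_1672_1674 (c : Nat) : Nat := @Bool.rec (fun _ => Nat) (Ptab_1672) (Ptab_1673) (Nat.ble 1673 c)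
noncomputable def Ptab_s_1670_1674 (c : Nat) : Nat := @Bool.rec (fun _ => Nat) (Ptab_s_1670_1672 c) (Ptab_s_1672_1674 c) (Nat.ble 1672 c)
noncomputable def Ptab_s_1666_1674 (c : Nat) : Nat := @Bool.rec (fun _ => Nat) (Ptab_s_1666_1670 c) (Ptab_s_1670_1674 c) (Nat.ble 1670 c)
noncomputable def Ptab_s_1674_1676 (c : Nat) : Nat := @Bool.rec (fun _ => Nat) (Ptab_1674) (Ptab_1675) (Nat.ble 1675 c)
noncomputable def Ptab_s_1676_1678 (c : Nat) : Nat := @Bool.rec (fun _ => Nat) (Ptab_1676) (Ptab_1677) (Nat.ble 1677 c)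
noncomputable def Ptab_s_1674_1678 (c : Nat) : Nat := @Bool.rec (fun _ => Nat) (Ptab_s_1674_1676 c) (Ptab_s_1676_1678 c) (Nat.ble 1676 c)
noncomputable def Ptab_s_1678_1680 (c : Nat) : Nat := @Bool.rec (fun _ => Nat) (Ptab_1678) (Ptab_1679) (Nat.ble 1679 c)
noncomputable def Ptab_s_1680_1682 (c : Nat) : Nat := @Bool.rec (fun _ => Nat) (Ptab_1680) (Ptab_1681) (Nat.ble 1681 c)
noncomputable def Ptab_s_1678_1682 (c : Nat) : Nat := @Bool.rec (fun _ => Nat) (Ptab_s_1678_1680 c) (Ptab_s_1680_1682 c) (Nat.ble 1680 c)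
noncomputable def Ptab_s_1674_1682 (c : Nat) : Nat := @Bool.rec (fun _ => Nat) (Ptab_s_1674_1678 c) (Ptab_s_1678_1682 c) (Nat.ble 1678 c)
noncomputable def Ptab_s_1666_1682 (c : Nat) : Nat := @Bool.rec (fun _ => Nat) (Ptab_s_1666_1674 c) (Ptab_s_1674_1682 c) (Nat.ble 1674 c)
noncomputable def Ptab_s_1651_1682 (c : Nat) : Nat := @Bool.rec (fun _ => Nat) (Ptab_s_1651_1666 c) (Ptab_s_1666_1682 c) (Nat.ble 1666 c)
noncomputable def Ptab_s_1683_1685 (c : Nat) : Nat := @Bool.rec (fun _ => Nat) (Ptab_1683) (Ptab_1684) (Nat.ble 1684 c)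
noncomputable def Ptab_s_1682_1685 (c : Nat) : Nat := @Bool.rec (fun _ => Nat) (Ptab_1682) (Ptab_s_1683_1685 c) (Nat.ble 1683 c)
noncomputable def Ptab_s_1685_1687 (c : Nat) : Nat := @Bool.rec (fun _ => Nat) (Ptab_1685) (Ptab_1686) (Nat.ble 1686 c)
noncomputable def Ptab_s_1687_1689 (c : Nat) : Nat := @Bool.rec (fun _ => Nat) (Ptab_1687) (Ptab_1688) (Nat.ble 1688 c)
noncomputable def Ptab_s_1685_1689 (c : Nat) : Nat := @Bool.rec (fun _ => Nat) (Ptab_s_1685_1687 c) (Ptab_s_1687_1689 c) (Nat.ble 1687 c)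
noncomputable def Ptab_s_1682_1689 (c : Nat) : Nat := @Bool.rec (fun _ => Nat) (Ptab_s_1682_1685 c) (Ptab_s_1685_1689 c) (Nat.ble 1685 c)
noncomputable def Ptab_s_1689_1691 (c : Nat) : Nat := @Bool.rec (fun _ => Nat) (Ptab_1689) (Ptab_1690) (Nat.ble 1690 c)
noncomputable def Ptab_s_1691_1693 (c : Nat) : Nat := @Bool.rec (fun _ => Nat) (Ptab_1691) (Ptab_1692) (Nat.ble 1692 c)
noncomputable def Ptab_s_1689_1693 (c : Nat) : Nat := @Bool.rec (fun _ => Nat) (Ptab_s_1689_1691 c) (Ptab_s_1691_1693 c) (Nat.ble 1691 c)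
noncomputable def Ptab_s_1693_1695 (c : Nat) : Nat := @Bool.rec (fun _ => Nat) (Ptab_1693) (Ptab_1694) (Nat.ble 1694 c)
noncomputable def Ptab_s_1695_1697 (c : Nat) : Nat := @Bool.rec (fun _ => Nat) (Ptab_1695) (Ptab_1696) (Nat.ble 1696 c)
noncomputable def Ptab_s_1693_1697 (c : Nat) : Nat := @Bool.rec (fun _ => Nat) (Ptab_s_1693_1695 c) (Ptab_s_1695_1697 c) (Nat.ble 1695 c)
noncomputable def Ptab_s_1689_1697 (c : Nat) : Nat := @Bool.rec (fun _ => Nat) (Ptab_s_1689_1693 c) (Ptab_s_1693_1697 c) (Nat.ble 1693 c)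
noncomputable def Ptab_s_1682_1697 (c : Nat) : Nat := @Bool.rec (fun _ => Nat) (Ptab_s_1682_1689 c) (Ptab_s_1689_1697 c) (Nat.ble 1689 c)
noncomputable def Ptab_s_1697_1699 (c : Nat) : Nat := @Bool.rec (fun _ => Nat) (Ptab_1697) (Ptab_1698) (Nat.ble 1698 c)
noncomputable def Ptab_s_1699_1701 (c : Nat) : Nat := @Bool.rec (fun _ => Nat) (Ptab_1699) (Ptab_1700) (Nat.ble 1700 c)
noncomputable def Ptab_s_1697_1701 (c : Nat) : Nat := @Bool.rec (fun _ => Nat) (Ptab_s_1697_1699 c) (Ptab_s_1699_1701 c) (Nat.ble 1699 c)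
noncomputable def Ptab_s_1701_1703 (c : Nat) : Nat := @Bool.rec (fun _ => Nat) (Ptab_1701) (Ptab_1702) (Nat.ble 1702 c)
noncomputable def Ptab_s_1703_1705 (c : Nat) : Nat := @Bool.rec (fun _ => Nat) (Ptab_1703) (Ptab_1704) (Nat.ble 1704 c)
noncomputable def Ptab_s_1701_1705 (c : Nat) : Nat := @Bool.rec (fun _ => Nat) (Ptab_s_1701_1703 c) (Ptab_s_1703_1705 c) (Nat.ble 1703 c)
noncomputable def Ptab_s_1697_1705 (c : Nat) : Nat := @Bool.rec (fun _ => Nat) (Ptab_s_1697_1701 c) (Ptab_s_1701_1705 c) (Nat.ble 1701 c)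
noncomputable def Ptab_s_1705_1707 (c : Nat) : Nat := @Bool.rec (fun _ => Nat) (Ptab_1705) (Ptab_1706) (Nat.ble 1706 c)
noncomputable def Ptab_s_1707_1709 (c : Nat) : Nat := @Bool.rec (fun _ => Nat) (Ptab_1707) (Ptab_1708) (Nat.ble 1708 c)
noncomputable def Ptab_s_1705_1709 (c : Nat) : Nat := @Bool.rec (fun _ => Nat) (Ptab_s_1705_1707 c) (Ptab_s_1707_1709 c) (Nat.ble 1707 c)
noncomputable def Ptab_s_1709_1711 (c : Nat) : Nat := @Bool.rec (fun _ => Nat) (Ptab_1709) (Ptab_1710) (Nat.ble 1710 c)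
noncomputable def Ptab_s_1711_1713 (c : Nat) : Nat := @Bool.rec (fun _ => Nat) (Ptab_1711) (Ptab_1712) (Nat.ble 1712 c)
noncomputable def Ptab_s_1709_1713 (c : Nat) : Nat := @Bool.rec (fun _ => Nat) (Ptab_s_1709_1711 c) (Ptab_s_1711_1713 c) (Nat.ble 1711 c)
noncomputable def Ptab_s_1705_1713 (c : Nat) : Nat := @Bool.rec (fun _ => Nat) (Ptab_s_1705_1709 c) (Ptab_s_1709_1713 c) (Nat.ble 1709 c)
noncomputable def Ptab_s_1697_1713 (c : Nat) : Nat := @Bool.rec (fun _ => Nat) (Ptab_s_1697_1705 c) (Ptab_s_1705_1713 c) (Nat.ble 1705 c)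
noncomputable def Ptab_s_1682_1713 (c : Nat) : Nat := @Bool.rec (fun _ => Nat) (Ptab_s_1682_1697 c) (Ptab_s_1697_1713 c) (Nat.ble 1697 c)
noncomputable def Ptab_s_1651_1713 (c : Nat) : Nat := @Bool.rec (fun _ => Nat) (Ptab_s_1651_1682 c) (Ptab_s_1682_1713 c) (Nat.ble 1682 c)
noncomputable def Ptab_s_1590_1713 (c : Nat) : Nat := @Bool.rec (fun _ => Nat) (Ptab_s_1590_1651 c) (Ptab_s_1651_1713 c) (Nat.ble 1651 c)
noncomputable def Ptab_s_1468_1713 (c : Nat) : Nat := @Bool.rec (fun _ => Nat) (Ptab_s_1468_1590 c) (Ptab_s_1590_1713 c) (Nat.ble 1590 c)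
noncomputable def Ptab_s_1714_1716 (c : Nat) : Nat := @Bool.rec (fun _ => Nat) (Ptab_1714) (Ptab_1715) (Nat.ble 1715 c)
noncomputable def Ptab_s_1713_1716 (c : Nat) : Nat := @Bool.rec (fun _ => Nat) (Ptab_1713) (Ptab_s_1714_1716 c) (Nat.ble 1714 c)
noncomputable def Ptab_s_1716_1718 (c : Nat) : Nat := @Bool.rec (fun _ => Nat) (Ptab_1716) (Ptab_1717) (Nat.ble 1717 c)
noncomputable def Ptab_s_1718_1720 (c : Nat) : Nat := @Bool.rec (fun _ => Nat) (Ptab_1718) (Ptab_1719) (Nat.ble 1719 c)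
noncomputable def Ptab_s_1716_1720 (c : Nat) : Nat := @Bool.rec (fun _ => Nat) (Ptab_s_1716_1718 c) (Ptab_s_1718_1720 c) (Nat.ble 1718 c)
noncomputable def Ptab_s_1713_1720 (c : Nat) : Nat := @Bool.rec (fun _ => Nat) (Ptab_s_1713_1716 c) (Ptab_s_1716_1720 c) (Nat.ble 1716 c)
noncomputable def Ptab_s_1720_1722 (c : Nat) : Nat := @Bool.rec (fun _ => Nat) (Ptab_1720) (Ptab_1721) (Nat.ble 1721 c)
noncomputable def Ptab_s_1722_1724 (c : Nat) : Nat := @Bool.rec (fun _ => Nat) (Ptab_1722) (Ptab_1723) (Nat.ble 1723 c)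
noncomputable def Ptab_s_1720_1724 (c : Nat) : Nat := @Bool.rec (fun _ => Nat) (Ptab_s_1720_1722 c) (Ptab_s_1722_1724 c) (Nat.ble 1722 c)
noncomputable def Ptab_s_1724_1726 (c : Nat) : Nat := @Bool.rec (fun _ => Nat) (Ptab_1724) (Ptab_1725) (Nat.ble 1725 c)
noncomputable def Ptab_s_1726_1728 (c : Nat) : Nat := @Bool.rec (fun _ => Nat) (Ptab_1726) (Ptab_1727) (Nat.ble 1727 c)
noncomputable def Ptab_s_1724_1728 (c : Nat) : Nat := @Bool.rec (fun _ => Nat) (Ptab_s_1724_1726 c) (Ptab_s_1726_1728 c) (Nat.ble 1726 c)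
noncomputable def Ptab_s_1720_1728 (c : Nat) : Nat := @Bool.rec (fun _ => Nat) (Ptab_s_1720_1724 c) (Ptab_s_1724_1728 c) (Nat.ble 1724 c)
noncomputable def Ptab_s_1713_1728 (c : Nat) : Nat := @Bool.rec (fun _ => Nat) (Ptab_s_1713_1720 c) (Ptab_s_1720_1728 c) (Nat.ble 1720 c)
noncomputable def Ptab_s_1729_1731 (c : Nat) : Nat := @Bool.rec (fun _ => Nat) (Ptab_1729) (Ptab_1730) (Nat.ble 1730 c)
noncomputable def Ptab_s_1728_1731 (c : Nat) : Nat := @Bool.rec (fun _ => Nat) (Ptab_1728) (Ptab_s_1729_1731 c) (Nat.ble 1729 c)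
noncomputable def Ptab_s_1731_1733 (c : Nat) : Nat := @Bool.rec (fun _ => Nat) (Ptab_1731) (Ptab_1732) (Nat.ble 1732 c)
noncomputable def Ptab_s_1733_1735 (c : Nat) : Nat := @Bool.rec (fun _ => Nat) (Ptab_1733) (Ptab_1734) (Nat.ble 1734 c)
noncomputable def Ptab_s_1731_1735 (c : Nat) : Nat := @Bool.rec (fun _ => Nat) (Ptab_s_1731_1733 c) (Ptab_s_1733_1735 c) (Nat.ble 1733 c)
noncomputable def Ptab_s_1728_1735 (c : Nat) : Nat := @Bool.rec (fun _ => Nat) (Ptab_s_1728_1731 c) (Ptab_s_1731_1735 c) (Nat.ble 1731 c)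
noncomputable def Ptab_s_1735_1737 (c : Nat) : Nat := @Bool.rec (fun _ => Nat) (Ptab_1735) (Ptab_1736) (Nat.ble 1736 c)
noncomputable def Ptab_s_1737_1739 (c : Nat) : Nat := @Bool.rec (fun _ => Nat) (Ptab_1737) (Ptab_1738) (Nat.ble 1738 c)
noncomputable def Ptab_s_1735_1739 (c : Nat) : Nat := @Bool.rec (fun _ => Nat) (Ptab_s_1735_1737 c) (Ptab_s_1737_1739 c) (Nat.ble 1737 c)
noncomputable def Ptab_s_1739_1741 (c : Nat) : Nat := @Bool.rec (fun _ => Nat) (Ptab_1739) (Ptab_1740) (Nat.ble 1740 c)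
noncomputable def Ptab_s_1741_1743 (c : Nat) : Nat := @Bool.rec (fun _ => Nat) (Ptab_1741) (Ptab_1742) (Nat.ble 1742 c)
noncomputable def Ptab_s_1739_1743 (c : Nat) : Nat := @Bool.rec (fun _ => Nat) (Ptab_s_1739_1741 c) (Ptab_s_1741_1743 c) (Nat.ble 1741 c)
noncomputable def Ptab_s_1735_1743 (c : Nat) : Nat := @Bool.rec (fun _ => Nat) (Ptab_s_1735_1739 c) (Ptab_s_1739_1743 c) (Nat.ble 1739 c)
noncomputable def Ptab_s_1728_1743 (c : Nat) : Nat := @Bool.rec (fun _ => Nat) (Ptab_s_1728_1735 c) (Ptab_s_1735_1743 c) (Nat.ble 1735 c)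
noncomputable def Ptab_s_1713_1743 (c : Nat) : Nat := @Bool.rec (fun _ => Nat) (Ptab_s_1713_1728 c) (Ptab_s_1728_1743 c) (Nat.ble 1728 c)
noncomputable def Ptab_s_1744_1746 (c : Nat) : Nat := @Bool.rec (fun _ => Nat) (Ptab_1744) (Ptab_1745) (Nat.ble 1745 c)
noncomputable def Ptab_s_1743_1746 (c : Nat) : Nat := @Bool.rec (fun _ => Nat) (Ptab_1743) (Ptab_s_1744_1746 c) (Nat.ble 1744 c)
noncomputable def Ptab_s_1746_1748 (c : Nat) : Nat := @Bool.rec (fun _ => Nat) (Ptab_1746) (Ptab_1747) (Nat.ble 1747 c)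
noncomputable def Ptab_s_1748_1750 (c : Nat) : Nat := @Bool.rec (fun _ => Nat) (Ptab_1748) (Ptab_1749) (Nat.ble 1749 c)
noncomputable def Ptab_s_1746_1750 (c : Nat) : Nat := @Bool.rec (fun _ => Nat) (Ptab_s_1746_1748 c) (Ptab_s_1748_1750 c) (Nat.ble 1748 c)
noncomputable def Ptab_s_1743_1750 (c : Nat) : Nat := @Bool.rec (fun _ => Nat) (Ptab_s_1743_1746 c) (Ptab_s_1746_1750 c) (Nat.ble 1746 c)
noncomputable def Ptab_s_1750_1752 (c : Nat) : Nat := @Bool.rec (fun _ => Nat) (Ptab_1750) (Ptab_1751) (Nat.ble 1751 c)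
noncomputable def Ptab_s_1752_1754 (c : Nat) : Nat := @Bool.rec (fun _ => Nat) (Ptab_1752) (Ptab_1753) (Nat.ble 1753 c)
noncomputable def Ptab_s_1750_1754 (c : Nat) : Nat := @Bool.rec (fun _ => Nat) (Ptab_s_1750_1752 c) (Ptab_s_1752_1754 c) (Nat.ble 1752 c)
noncomputable def Ptab_s_1754_1756 (c : Nat) : Nat := @Bool.rec (fun _ => Nat) (Ptab_1754) (Ptab_1755) (Nat.ble 1755 c)
noncomputable def Ptab_s_1756_1758 (c : Nat) : Nat := @Bool.rec (fun _ => Nat) (Ptab_1756) (Ptab_1757) (Nat.ble 1757 c)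
noncomputable def Ptab_s_1754_1758 (c : Nat) : Nat := @Bool.rec (fun _ => Nat) (Ptab_s_1754_1756 c) (Ptab_s_1756_1758 c) (Nat.ble 1756 c)
noncomputable def Ptab_s_1750_1758 (c : Nat) : Nat := @Bool.rec (fun _ => Nat) (Ptab_s_1750_1754 c) (Ptab_s_1754_1758 c) (Nat.ble 1754 c)
noncomputable def Ptab_s_1743_1758 (c : Nat) : Nat := @Bool.rec (fun _ => Nat) (Ptab_s_1743_1750 c) (Ptab_s_1750_1758 c) (Nat.ble 1750 c)
noncomputable def Ptab_s_1758_1760 (c : Nat) : Nat := @Bool.rec (fun _ => Nat) (Ptab_1758) (Ptab_1759) (Nat.ble 1759 c)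
noncomputable def Ptab_s_1760_1762 (c : Nat) : Nat := @Bool.rec (fun _ => Nat) (Ptab_1760) (Ptab_1761) (Nat.ble 1761 c)
noncomputable def Ptab_s_1758_1762 (c : Nat) : Nat := @Bool.rec (fun _ => Nat) (Ptab_s_1758_1760 c) (Ptab_s_1760_1762 c) (Nat.ble 1760 c)
noncomputable def Ptab_s_1762_1764 (c : Nat) : Nat := @Bool.rec (fun _ => Nat) (Ptab_1762) (Ptab_1763) (Nat.ble 1763 c)
noncomputable def Ptab_s_1764_1766 (c : Nat) : Nat := @Bool.rec (fun _ => Nat) (Ptab_1764) (Ptab_1765) (Nat.ble 1765 c)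
noncomputable def Ptab_s_1762_1766 (c : Nat) : Nat := @Bool.rec (fun _ => Nat) (Ptab_s_1762_1764 c) (Ptab_s_1764_1766 c) (Nat.ble 1764 c)
noncomputable def Ptab_s_1758_1766 (c : Nat) : Nat := @Bool.rec (fun _ => Nat) (Ptab_s_1758_1762 c) (Ptab_s_1762_1766 c) (Nat.ble 1762 c)
noncomputable def Ptab_s_1766_1768 (c : Nat) : Nat := @Bool.rec (fun _ => Nat) (Ptab_1766) (Ptab_1767) (Nat.ble 1767 c)
noncomputable def Ptab_s_1768_1770 (c : Nat) : Nat := @Bool.rec (fun _ => Nat) (Ptab_1768) (Ptab_1769) (Nat.ble 1769 c)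
noncomputable def Ptab_s_1766_1770 (c : Nat) : Nat := @Bool.rec (fun _ => Nat) (Ptab_s_1766_1768 c) (Ptab_s_1768_1770 c) (Nat.ble 1768 c)
noncomputable def Ptab_s_1770_1772 (c : Nat) : Nat := @Bool.rec (fun _ => Nat) (Ptab_1770) (Ptab_1771) (Nat.ble 1771 c)
noncomputable def Ptab_s_1772_1774 (c : Nat) : Nat := @Bool.rec (fun _ => Nat) (Ptab_1772) (Ptab_1773) (Nat.ble 1773 c)
noncomputable def Ptab_s_1770_1774 (c : Nat) : Nat := @Bool.rec (fun _ => Nat) (Ptab_s_1770_1772 c) (Ptab_s_1772_1774 c) (Nat.ble 1772 c)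
noncomputable def Ptab_s_1766_1774 (c : Nat) : Nat := @Bool.rec (fun _ => Nat) (Ptab_s_1766_1770 c) (Ptab_s_1770_1774 c) (Nat.ble 1770 c)
noncomputable def Ptab_s_1758_1774 (c : Nat) : Nat := @Bool.rec (fun _ => Nat) (Ptab_s_1758_1766 c) (Ptab_s_1766_1774 c) (Nat.ble 1766 c)
noncomputable def Ptab_s_1743_1774 (c : Nat) : Nat := @Bool.rec (fun _ => Nat) (Ptab_s_1743_1758 c) (Ptab_s_1758_1774 c) (Nat.ble 1758 c)
noncomputable def Ptab_s_1713_1774 (c : Nat) : Nat := @Bool.rec (fun _ => Nat) (Ptab_s_1713_1743 c) (Ptab_s_1743_1774 c) (Nat.ble 1743 c)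
noncomputable def Ptab_s_1775_1777 (c : Nat) : Nat := @Bool.rec (fun _ => Nat) (Ptab_1775) (Ptab_1776) (Nat.ble 1776 c)
noncomputable def Ptab_s_1774_1777 (c : Nat) : Nat := @Bool.rec (fun _ => Nat) (Ptab_1774) (Ptab_s_1775_1777 c) (Nat.ble 1775 c)
noncomputable def Ptab_s_1777_1779 (c : Nat) : Nat := @Bool.rec (fun _ => Nat) (Ptab_1777) (Ptab_1778) (Nat.ble 1778 c)
noncomputable def Ptab_s_1779_1781 (c : Nat) : Nat := @Bool.rec (fun _ => Nat) (Ptab_1779) (Ptab_1780) (Nat.ble 1780 c)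
noncomputable def Ptab_s_1777_1781 (c : Nat) : Nat := @Bool.rec (fun _ => Nat) (Ptab_s_1777_1779 c) (Ptab_s_1779_1781 c) (Nat.ble 1779 c)
noncomputable def Ptab_s_1774_1781 (c : Nat) : Nat := @Bool.rec (fun _ => Nat) (Ptab_s_1774_1777 c) (Ptab_s_1777_1781 c) (Nat.ble 1777 c)
noncomputable def Ptab_s_1781_1783 (c : Nat) : Nat := @Bool.rec (fun _ => Nat) (Ptab_1781) (Ptab_1782) (Nat.ble 1782 c)
noncomputable def Ptab_s_1783_1785 (c : Nat) : Nat := @Bool.rec (fun _ => Nat) (Ptab_1783) (Ptab_1784) (Nat.ble 1784 c)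
noncomputable def Ptab_s_1781_1785 (c : Nat) : Nat := @Bool.rec (fun _ => Nat) (Ptab_s_1781_1783 c) (Ptab_s_1783_1785 c) (Nat.ble 1783 c)
noncomputable def Ptab_s_1785_1787 (c : Nat) : Nat := @Bool.rec (fun _ => Nat) (Ptab_1785) (Ptab_1786) (Nat.ble 1786 c)
noncomputable def Ptab_s_1787_1789 (c : Nat) : Nat := @Bool.rec (fun _ => Nat) (Ptab_1787) (Ptab_1788) (Nat.ble 1788 c)
noncomputable def Ptab_s_1785_1789 (c : Nat) : Nat := @Bool.rec (fun _ => Nat) (Ptab_s_1785_1787 c) (Ptab_s_1787_1789 c) (Nat.ble 1787 c)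
noncomputable def Ptab_s_1781_1789 (c : Nat) : Nat := @Bool.rec (fun _ => Nat) (Ptab_s_1781_1785 c) (Ptab_s_1785_1789 c) (Nat.ble 1785 c)
noncomputable def Ptab_s_1774_1789 (c : Nat) : Nat := @Bool.rec (fun _ => Nat) (Ptab_s_1774_1781 c) (Ptab_s_1781_1789 c) (Nat.ble 1781 c)
noncomputable def Ptab_s_1790_1792 (c : Nat) : Nat := @Bool.rec (fun _ => Nat) (Ptab_1790) (Ptab_1791) (Nat.ble 1791 c)
noncomputable def Ptab_s_1789_1792 (c : Nat) : Nat := @Bool.rec (fun _ => Nat) (Ptab_1789) (Ptab_s_1790_1792 c) (Nat.ble 1790 c)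
noncomputable def Ptab_s_1792_1794 (c : Nat) : Nat := @Bool.rec (fun _ => Nat) (Ptab_1792) (Ptab_1793) (Nat.ble 1793 c)
noncomputable def Ptab_s_1794_1796 (c : Nat) : Nat := @Bool.rec (fun _ => Nat) (Ptab_1794) (Ptab_1795) (Nat.ble 1795 c)
noncomputable def Ptab_s_1792_1796 (c : Nat) : Nat := @Bool.rec (fun _ => Nat) (Ptab_s_1792_1794 c) (Ptab_s_1794_1796 c) (Nat.ble 1794 c)
noncomputable def Ptab_s_1789_1796 (c : Nat) : Nat := @Bool.rec (fun _ => Nat) (Ptab_s_1789_1792 c) (Ptab_s_1792_1796 c) (Nat.ble 1792 c)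
noncomputable def Ptab_s_1796_1798 (c : Nat) : Nat := @Bool.rec (fun _ => Nat) (Ptab_1796) (Ptab_1797) (Nat.ble 1797 c)
noncomputable def Ptab_s_1798_1800 (c : Nat) : Nat := @Bool.rec (fun _ => Nat) (Ptab_1798) (Ptab_1799) (Nat.ble 1799 c)
noncomputable def Ptab_s_1796_1800 (c : Nat) : Nat := @Bool.rec (fun _ => Nat) (Ptab_s_1796_1798 c) (Ptab_s_1798_1800 c) (Nat.ble 1798 c)
noncomputable def Ptab_s_1800_1802 (c : Nat) : Nat := @Bool.rec (fun _ => Nat) (Ptab_1800) (Ptab_1801) (Nat.ble 1801 c)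
noncomputable def Ptab_s_1802_1804 (c : Nat) : Nat := @Bool.rec (fun _ => Nat) (Ptab_1802) (Ptab_1803) (Nat.ble 1803 c)
noncomputable def Ptab_s_1800_1804 (c : Nat) : Nat := @Bool.rec (fun _ => Nat) (Ptab_s_1800_1802 c) (Ptab_s_1802_1804 c) (Nat.ble 1802 c)
noncomputable def Ptab_s_1796_1804 (c : Nat) : Nat := @Bool.rec (fun _ => Nat) (Ptab_s_1796_1800 c) (Ptab_s_1800_1804 c) (Nat.ble 1800 c)
noncomputable def Ptab_s_1789_1804 (c : Nat) : Nat := @Bool.rec (fun _ => Nat) (Ptab_s_1789_1796 c) (Ptab_s_1796_1804 c) (Nat.ble 1796 c)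
noncomputable def Ptab_s_1774_1804 (c : Nat) : Nat := @Bool.rec (fun _ => Nat) (Ptab_s_1774_1789 c) (Ptab_s_1789_1804 c) (Nat.ble 1789 c)
noncomputable def Ptab_s_1805_1807 (c : Nat) : Nat := @Bool.rec (fun _ => Nat) (Ptab_1805) (Ptab_1806) (Nat.ble 1806 c)
noncomputable def Ptab_s_1804_1807 (c : Nat) : Nat := @Bool.rec (fun _ => Nat) (Ptab_1804) (Ptab_s_1805_1807 c) (Nat.ble 1805 c)
noncomputable def Ptab_s_1807_1809 (c : Nat) : Nat := @Bool.rec (fun _ => Nat) (Ptab_1807) (Ptab_1808) (Nat.ble 1808 c)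
noncomputable def Ptab_s_1809_1811 (c : Nat) : Nat := @Bool.rec (fun _ => Nat) (Ptab_1809) (Ptab_1810) (Nat.ble 1810 c)
noncomputable def Ptab_s_1807_1811 (c : Nat) : Nat := @Bool.rec (fun _ => Nat) (Ptab_s_1807_1809 c) (Ptab_s_1809_1811 c) (Nat.ble 1809 c)
noncomputable def Ptab_s_1804_1811 (c : Nat) : Nat := @Bool.rec (fun _ => Nat) (Ptab_s_1804_1807 c) (Ptab_s_1807_1811 c) (Nat.ble 1807 c)
noncomputable def Ptab_s_1811_1813 (c : Nat) : Nat := @Bool.rec (fun _ => Nat) (Ptab_1811) (Ptab_1812) (Nat.ble 1812 c)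
noncomputable def Ptab_s_1813_1815 (c : Nat) : Nat := @Bool.rec (fun _ => Nat) (Ptab_1813) (Ptab_1814) (Nat.ble 1814 c)
noncomputable def Ptab_s_1811_1815 (c : Nat) : Nat := @Bool.rec (fun _ => Nat) (Ptab_s_1811_1813 c) (Ptab_s_1813_1815 c) (Nat.ble 1813 c)
noncomputable def Ptab_s_1815_1817 (c : Nat) : Nat := @Bool.rec (fun _ => Nat) (Ptab_1815) (Ptab_1816) (Nat.ble 1816 c)
noncomputable def Ptab_s_1817_1819 (c : Nat) : Nat := @Bool.rec (fun _ => Nat) (Ptab_1817) (Ptab_1818) (Nat.ble 1818 c)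
noncomputable def Ptab_s_1815_1819 (c : Nat) : Nat := @Bool.rec (fun _ => Nat) (Ptab_s_1815_1817 c) (Ptab_s_1817_1819 c) (Nat.ble 1817 c)
noncomputable def Ptab_s_1811_1819 (c : Nat) : Nat := @Bool.rec (fun _ => Nat) (Ptab_s_1811_1815 c) (Ptab_s_1815_1819 c) (Nat.ble 1815 c)
noncomputable def Ptab_s_1804_1819 (c : Nat) : Nat := @Bool.rec (fun _ => Nat) (Ptab_s_1804_1811 c) (Ptab_s_1811_1819 c) (Nat.ble 1811 c)
noncomputable def Ptab_s_1819_1821 (c : Nat) : Nat := @Bool.rec (fun _ => Nat) (Ptab_1819) (Ptab_1820) (Nat.ble 1820 c)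
noncomputable def Ptab_s_1821_1823 (c : Nat) : Nat := @Bool.rec (fun _ => Nat) (Ptab_1821) (Ptab_1822) (Nat.ble 1822 c)
noncomputable def Ptab_s_1819_1823 (c : Nat) : Nat := @Bool.rec (fun _ => Nat) (Ptab_s_1819_1821 c) (Ptab_s_1821_1823 c) (Nat.ble 1821 c)
noncomputable def Ptab_s_1823_1825 (c : Nat) : Nat := @Bool.rec (fun _ => Nat) (Ptab_1823) (Ptab_1824) (Nat.ble 1824 c)
noncomputable def Ptab_s_1825_1827 (c : Nat) : Nat := @Bool.rec (fun _ => Nat) (Ptab_1825) (Ptab_1826) (Nat.ble 1826 c)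
noncomputable def Ptab_s_1823_1827 (c : Nat) : Nat := @Bool.rec (fun _ => Nat) (Ptab_s_1823_1825 c) (Ptab_s_1825_1827 c) (Nat.ble 1825 c)
noncomputable def Ptab_s_1819_1827 (c : Nat) : Nat := @Bool.rec (fun _ => Nat) (Ptab_s_1819_1823 c) (Ptab_s_1823_1827 c) (Nat.ble 1823 c)
noncomputable def Ptab_s_1827_1829 (c : Nat) : Nat := @Bool.rec (fun _ => Nat) (Ptab_1827) (Ptab_1828) (Nat.ble 1828 c)
noncomputable def Ptab_s_1829_1831 (c : Nat) : Nat := @Bool.rec (fun _ => Nat) (Ptab_1829) (Ptab_1830) (Nat.ble 1830 c)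
noncomputable def Ptab_s_1827_1831 (c : Nat) : Nat := @Bool.rec (fun _ => Nat) (Ptab_s_1827_1829 c) (Ptab_s_1829_1831 c) (Nat.ble 1829 c)
noncomputable def Ptab_s_1831_1833 (c : Nat) : Nat := @Bool.rec (fun _ => Nat) (Ptab_1831) (Ptab_1832) (Nat.ble 1832 c)
noncomputable def Ptab_s_1833_1835 (c : Nat) : Nat := @Bool.rec (fun _ => Nat) (Ptab_1833) (Ptab_1834) (Nat.ble 1834 c)
noncomputable def Ptab_s_1831_1835 (c : Nat) : Nat := @Bool.rec (fun _ => Nat) (Ptab_s_1831_1833 c) (Ptab_s_1833_1835 c) (Nat.ble 1833 c)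
noncomputable def Ptab_s_1827_1835 (c : Nat) : Nat := @Bool.rec (fun _ => Nat) (Ptab_s_1827_1831 c) (Ptab_s_1831_1835 c) (Nat.ble 1831 c)
noncomputable def Ptab_s_1819_1835 (c : Nat) : Nat := @Bool.rec (fun _ => Nat) (Ptab_s_1819_1827 c) (Ptab_s_1827_1835 c) (Nat.ble 1827 c)
noncomputable def Ptab_s_1804_1835 (c : Nat) : Nat := @Bool.rec (fun _ => Nat) (Ptab_s_1804_1819 c) (Ptab_s_1819_1835 c) (Nat.ble 1819 c)
noncomputable def Ptab_s_1774_1835 (c : Nat) : Nat := @Bool.rec (fun _ => Nat) (Ptab_s_1774_1804 c) (Ptab_s_1804_1835 c) (Nat.ble 1804 c)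
noncomputable def Ptab_s_1713_1835 (c : Nat) : Nat := @Bool.rec (fun _ => Nat) (Ptab_s_1713_1774 c) (Ptab_s_1774_1835 c) (Nat.ble 1774 c)
noncomputable def Ptab_s_1836_1838 (c : Nat) : Nat := @Bool.rec (fun _ => Nat) (Ptab_1836) (Ptab_1837) (Nat.ble 1837 c)
noncomputable def Ptab_s_1835_1838 (c : Nat) : Nat := @Bool.rec (fun _ => Nat) (Ptab_1835) (Ptab_s_1836_1838 c) (Nat.ble 1836 c)
noncomputable def Ptab_s_1838_1840 (c : Nat) : Nat := @Bool.rec (fun _ => Nat) (Ptab_1838) (Ptab_1839) (Nat.ble 1839 c)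
noncomputable def Ptab_s_1840_1842 (c : Nat) : Nat := @Bool.rec (fun _ => Nat) (Ptab_1840) (Ptab_1841) (Nat.ble 1841 c)
noncomputable def Ptab_s_1838_1842 (c : Nat) : Nat := @Bool.rec (fun _ => Nat) (Ptab_s_1838_1840 c) (Ptab_s_1840_1842 c) (Nat.ble 1840 c)
noncomputable def Ptab_s_1835_1842 (c : Nat) : Nat := @Bool.rec (fun _ => Nat) (Ptab_s_1835_1838 c) (Ptab_s_1838_1842 c) (Nat.ble 1838 c)
noncomputable def Ptab_s_1842_1844 (c : Nat) : Nat := @Bool.rec (fun _ => Nat) (Ptab_1842) (Ptab_1843) (Nat.ble 1843 c)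
noncomputable def Ptab_s_1844_1846 (c : Nat) : Nat := @Bool.rec (fun _ => Nat) (Ptab_1844) (Ptab_1845) (Nat.ble 1845 c)
noncomputable def Ptab_s_1842_1846 (c : Nat) : Nat := @Bool.rec (fun _ => Nat) (Ptab_s_1842_1844 c) (Ptab_s_1844_1846 c) (Nat.ble 1844 c)
noncomputable def Ptab_s_1846_1848 (c : Nat) : Nat := @Bool.rec (fun _ => Nat) (Ptab_1846) (Ptab_1847) (Nat.ble 1847 c)
noncomputable def Ptab_s_1848_1850 (c : Nat) : Nat := @Bool.rec (fun _ => Nat) (Ptab_1848) (Ptab_1849) (Nat.ble 1849 c)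
noncomputable def Ptab_s_1846_1850 (c : Nat) : Nat := @Bool.rec (fun _ => Nat) (Ptab_s_1846_1848 c) (Ptab_s_1848_1850 c) (Nat.ble 1848 c)
noncomputable def Ptab_s_1842_1850 (c : Nat) : Nat := @Bool.rec (fun _ => Nat) (Ptab_s_1842_1846 c) (Ptab_s_1846_1850 c) (Nat.ble 1846 c)
noncomputable def Ptab_s_1835_1850 (c : Nat) : Nat := @Bool.rec (fun _ => Nat) (Ptab_s_1835_1842 c) (Ptab_s_1842_1850 c) (Nat.ble 1842 c)
noncomputable def Ptab_s_1851_1853 (c : Nat) : Nat := @Bool.rec (fun _ => Nat) (Ptab_1851) (Ptab_1852) (Nat.ble 1852 c)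
noncomputable def Ptab_s_1850_1853 (c : Nat) : Nat := @Bool.rec (fun _ => Nat) (Ptab_1850) (Ptab_s_1851_1853 c) (Nat.ble 1851 c)
noncomputable def Ptab_s_1853_1855 (c : Nat) : Nat := @Bool.rec (fun _ => Nat) (Ptab_1853) (Ptab_1854) (Nat.ble 1854 c)
noncomputable def Ptab_s_1855_1857 (c : Nat) : Nat := @Bool.rec (fun _ => Nat) (Ptab_1855) (Ptab_1856) (Nat.ble 1856 c)
noncomputable def Ptab_s_1853_1857 (c : Nat) : Nat := @Bool.rec (fun _ => Nat) (Ptab_s_1853_1855 c) (Ptab_s_1855_1857 c) (Nat.ble 1855 c)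
noncomputable def Ptab_s_1850_1857 (c : Nat) : Nat := @Bool.rec (fun _ => Nat) (Ptab_s_1850_1853 c) (Ptab_s_1853_1857 c) (Nat.ble 1853 c)
noncomputable def Ptab_s_1857_1859 (c : Nat) : Nat := @Bool.rec (fun _ => Nat) (Ptab_1857) (Ptab_1858) (Nat.ble 1858 c)
noncomputable def Ptab_s_1859_1861 (c : Nat) : Nat := @Bool.rec (fun _ => Nat) (Ptab_1859) (Ptab_1860) (Nat.ble 1860 c)
noncomputable def Ptab_s_1857_1861 (c : Nat) : Nat := @Bool.rec (fun _ => Nat) (Ptab_s_1857_1859 c) (Ptab_s_1859_1861 c) (Nat.ble 1859 c)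
noncomputable def Ptab_s_1861_1863 (c : Nat) : Nat := @Bool.rec (fun _ => Nat) (Ptab_1861) (Ptab_1862) (Nat.ble 1862 c)
noncomputable def Ptab_s_1863_1865 (c : Nat) : Nat := @Bool.rec (fun _ => Nat) (Ptab_1863) (Ptab_1864) (Nat.ble 1864 c)
noncomputable def Ptab_s_1861_1865 (c : Nat) : Nat := @Bool.rec (fun _ => Nat) (Ptab_s_1861_1863 c) (Ptab_s_1863_1865 c) (Nat.ble 1863 c)
noncomputable def Ptab_s_1857_1865 (c : Nat) : Nat := @Bool.rec (fun _ => Nat) (Ptab_s_1857_1861 c) (Ptab_s_1861_1865 c) (Nat.ble 1861 c)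
noncomputable def Ptab_s_1850_1865 (c : Nat) : Nat := @Bool.rec (fun _ => Nat) (Ptab_s_1850_1857 c) (Ptab_s_1857_1865 c) (Nat.ble 1857 c)
noncomputable def Ptab_s_1835_1865 (c : Nat) : Nat := @Bool.rec (fun _ => Nat) (Ptab_s_1835_1850 c) (Ptab_s_1850_1865 c) (Nat.ble 1850 c)
noncomputable def Ptab_s_1866_1868 (c : Nat) : Nat := @Bool.rec (fun _ => Nat) (Ptab_1866) (Ptab_1867) (Nat.ble 1867 c)
noncomputable def Ptab_s_1865_1868 (c : Nat) : Nat := @Bool.rec (fun _ => Nat) (Ptab_1865) (Ptab_s_1866_1868 c) (Nat.ble 1866 c)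
noncomputable def Ptab_s_1868_1870 (c : Nat) : Nat := @Bool.rec (fun _ => Nat) (Ptab_1868) (Ptab_1869) (Nat.ble 1869 c)
noncomputable def Ptab_s_1870_1872 (c : Nat) : Nat := @Bool.rec (fun _ => Nat) (Ptab_1870) (Ptab_1871) (Nat.ble 1871 c)
noncomputable def Ptab_s_1868_1872 (c : Nat) : Nat := @Bool.rec (fun _ => Nat) (Ptab_s_1868_1870 c) (Ptab_s_1870_1872 c) (Nat.ble 1870 c)
noncomputable def Ptab_s_1865_1872 (c : Nat) : Nat := @Bool.rec (fun _ => Nat) (Ptab_s_1865_1868 c) (Ptab_s_1868_1872 c) (Nat.ble 1868 c)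
noncomputable def Ptab_s_1872_1874 (c : Nat) : Nat := @Bool.rec (fun _ => Nat) (Ptab_1872) (Ptab_1873) (Nat.ble 1873 c)
noncomputable def Ptab_s_1874_1876 (c : Nat) : Nat := @Bool.rec (fun _ => Nat) (Ptab_1874) (Ptab_1875) (Nat.ble 1875 c)
noncomputable def Ptab_s_1872_1876 (c : Nat) : Nat := @Bool.rec (fun _ => Nat) (Ptab_s_1872_1874 c) (Ptab_s_1874_1876 c) (Nat.ble 1874 c)
noncomputable def Ptab_s_1876_1878 (c : Nat) : Nat := @Bool.rec (fun _ => Nat) (Ptab_1876) (Ptab_1877) (Nat.ble 1877 c)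
noncomputable def Ptab_s_1878_1880 (c : Nat) : Nat := @Bool.rec (fun _ => Nat) (Ptab_1878) (Ptab_1879) (Nat.ble 1879 c)
noncomputable def Ptab_s_1876_1880 (c : Nat) : Nat := @Bool.rec (fun _ => Nat) (Ptab_s_1876_1878 c) (Ptab_s_1878_1880 c) (Nat.ble 1878 c)
noncomputable def Ptab_s_1872_1880 (c : Nat) : Nat := @Bool.rec (fun _ => Nat) (Ptab_s_1872_1876 c) (Ptab_s_1876_1880 c) (Nat.ble 1876 c)
noncomputable def Ptab_s_1865_1880 (c : Nat) : Nat := @Bool.rec (fun _ => Nat) (Ptab_s_1865_1872 c) (Ptab_s_1872_1880 c) (Nat.ble 1872 c)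
noncomputable def Ptab_s_1880_1882 (c : Nat) : Nat := @Bool.rec (fun _ => Nat) (Ptab_1880) (Ptab_1881) (Nat.ble 1881 c)
noncomputable def Ptab_s_1882_1884 (c : Nat) : Nat := @Bool.rec (fun _ => Nat) (Ptab_1882) (Ptab_1883) (Nat.ble 1883 c)
noncomputable def Ptab_s_1880_1884 (c : Nat) : Nat := @Bool.rec (fun _ => Nat) (Ptab_s_1880_1882 c) (Ptab_s_1882_1884 c) (Nat.ble 1882 c)
noncomputable def Ptab_s_1884_1886 (c : Nat) : Nat := @Bool.rec (fun _ => Nat) (Ptab_1884) (Ptab_1885) (Nat.ble 1885 c)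
noncomputable def Ptab_s_1886_1888 (c : Nat) : Nat := @Bool.rec (fun _ => Nat) (Ptab_1886) (Ptab_1887) (Nat.ble 1887 c)
noncomputable def Ptab_s_1884_1888 (c : Nat) : Nat := @Bool.rec (fun _ => Nat) (Ptab_s_1884_1886 c) (Ptab_s_1886_1888 c) (Nat.ble 1886 c)
noncomputable def Ptab_s_1880_1888 (c : Nat) : Nat := @Bool.rec (fun _ => Nat) (Ptab_s_1880_1884 c) (Ptab_s_1884_1888 c) (Nat.ble 1884 c)
noncomputable def Ptab_s_1888_1890 (c : Nat) : Nat := @Bool.rec (fun _ => Nat) (Ptab_1888) (Ptab_1889) (Nat.ble 1889 c)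
noncomputable def Ptab_s_1890_1892 (c : Nat) : Nat := @Bool.rec (fun _ => Nat) (Ptab_1890) (Ptab_1891) (Nat.ble 1891 c)
noncomputable def Ptab_s_1888_1892 (c : Nat) : Nat := @Bool.rec (fun _ => Nat) (Ptab_s_1888_1890 c) (Ptab_s_1890_1892 c) (Nat.ble 1890 c)
noncomputable def Ptab_s_1892_1894 (c : Nat) : Nat := @Bool.rec (fun _ => Nat) (Ptab_1892) (Ptab_1893) (Nat.ble 1893 c)
noncomputable def Ptab_s_1894_1896 (c : Nat) : Nat := @Bool.rec (fun _ => Nat) (Ptab_1894) (Ptab_1895) (Nat.ble 1895 c)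
noncomputable def Ptab_s_1892_1896 (c : Nat) : Nat := @Bool.rec (fun _ => Nat) (Ptab_s_1892_1894 c) (Ptab_s_1894_1896 c) (Nat.ble 1894 c)
noncomputable def Ptab_s_1888_1896 (c : Nat) : Nat := @Bool.rec (fun _ => Nat) (Ptab_s_1888_1892 c) (Ptab_s_1892_1896 c) (Nat.ble 1892 c)
noncomputable def Ptab_s_1880_1896 (c : Nat) : Nat := @Bool.rec (fun _ => Nat) (Ptab_s_1880_1888 c) (Ptab_s_1888_1896 c) (Nat.ble 1888 c)
noncomputable def Ptab_s_1865_1896 (c : Nat) : Nat := @Bool.rec (fun _ => Nat) (Ptab_s_1865_1880 c) (Ptab_s_1880_1896 c) (Nat.ble 1880 c)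
noncomputable def Ptab_s_1835_1896 (c : Nat) : Nat := @Bool.rec (fun _ => Nat) (Ptab_s_1835_1865 c) (Ptab_s_1865_1896 c) (Nat.ble 1865 c)
noncomputable def Ptab_s_1897_1899 (c : Nat) : Nat := @Bool.rec (fun _ => Nat) (Ptab_1897) (Ptab_1898) (Nat.ble 1898 c)
noncomputable def Ptab_s_1896_1899 (c : Nat) : Nat := @Bool.rec (fun _ => Nat) (Ptab_1896) (Ptab_s_1897_1899 c) (Nat.ble 1897 c)
noncomputable def Ptab_s_1899_1901 (c : Nat) : Nat := @Bool.rec (fun _ => Nat) (Ptab_1899) (Ptab_1900) (Nat.ble 1900 c)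
noncomputable def Ptab_s_1901_1903 (c : Nat) : Nat := @Bool.rec (fun _ => Nat) (Ptab_1901) (Ptab_1902) (Nat.ble 1902 c)
noncomputable def Ptab_s_1899_1903 (c : Nat) : Nat := @Bool.rec (fun _ => Nat) (Ptab_s_1899_1901 c) (Ptab_s_1901_1903 c) (Nat.ble 1901 c)
noncomputable def Ptab_s_1896_1903 (c : Nat) : Nat := @Bool.rec (fun _ => Nat) (Ptab_s_1896_1899 c) (Ptab_s_1899_1903 c) (Nat.ble 1899 c)
noncomputable def Ptab_s_1903_1905 (c : Nat) : Nat := @Bool.rec (fun _ => Nat) (Ptab_1903) (Ptab_1904) (Nat.ble 1904 c)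
noncomputable def Ptab_s_1905_1907 (c : Nat) : Nat := @Bool.rec (fun _ => Nat) (Ptab_1905) (Ptab_1906) (Nat.ble 1906 c)
noncomputable def Ptab_s_1903_1907 (c : Nat) : Nat := @Bool.rec (fun _ => Nat) (Ptab_s_1903_1905 c) (Ptab_s_1905_1907 c) (Nat.ble 1905 c)
noncomputable def Ptab_s_1907_1909 (c : Nat) : Nat := @Bool.rec (fun _ => Nat) (Ptab_1907) (Ptab_1908) (Nat.ble 1908 c)
noncomputable def Ptab_s_1909_1911 (c : Nat) : Nat := @Bool.rec (fun _ => Nat) (Ptab_1909) (Ptab_1910) (Nat.ble 1910 c)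
noncomputable def Ptab_s_1907_1911 (c : Nat) : Nat := @Bool.rec (fun _ => Nat) (Ptab_s_1907_1909 c) (Ptab_s_1909_1911 c) (Nat.ble 1909 c)
noncomputable def Ptab_s_1903_1911 (c : Nat) : Nat := @Bool.rec (fun _ => Nat) (Ptab_s_1903_1907 c) (Ptab_s_1907_1911 c) (Nat.ble 1907 c)
noncomputable def Ptab_s_1896_1911 (c : Nat) : Nat := @Bool.rec (fun _ => Nat) (Ptab_s_1896_1903 c) (Ptab_s_1903_1911 c) (Nat.ble 1903 c)
noncomputable def Ptab_s_1911_1913 (c : Nat) : Nat := @Bool.rec (fun _ => Nat) (Ptab_1911) (Ptab_1912) (Nat.ble 1912 c)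
noncomputable def Ptab_s_1913_1915 (c : Nat) : Nat := @Bool.rec (fun _ => Nat) (Ptab_1913) (Ptab_1914) (Nat.ble 1914 c)
noncomputable def Ptab_s_1911_1915 (c : Nat) : Nat := @Bool.rec (fun _ => Nat) (Ptab_s_1911_1913 c) (Ptab_s_1913_1915 c) (Nat.ble 1913 c)
noncomputable def Ptab_s_1915_1917 (c : Nat) : Nat := @Bool.rec (fun _ => Nat) (Ptab_1915) (Ptab_1916) (Nat.ble 1916 c)
noncomputable def Ptab_s_1917_1919 (c : Nat) : Nat := @Bool.rec (fun _ => Nat) (Ptab_1917) (Ptab_1918) (Nat.ble 1918 c)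
noncomputable def Ptab_s_1915_1919 (c : Nat) : Nat := @Bool.rec (fun _ => Nat) (Ptab_s_1915_1917 c) (Ptab_s_1917_1919 c) (Nat.ble 1917 c)
noncomputable def Ptab_s_1911_1919 (c : Nat) : Nat := @Bool.rec (fun _ => Nat) (Ptab_s_1911_1915 c) (Ptab_s_1915_1919 c) (Nat.ble 1915 c)
noncomputable def Ptab_s_1919_1921 (c : Nat) : Nat := @Bool.rec (fun _ => Nat) (Ptab_1919) (Ptab_1920) (Nat.ble 1920 c)
noncomputable def Ptab_s_1921_1923 (c : Nat) : Nat := @Bool.rec (fun _ => Nat) (Ptab_1921) (Ptab_1922) (Nat.ble 1922 c)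
noncomputable def Ptab_s_1919_1923 (c : Nat) : Nat := @Bool.rec (fun _ => Nat) (Ptab_s_1919_1921 c) (Ptab_s_1921_1923 c) (Nat.ble 1921 c)
noncomputable def Ptab_s_1923_1925 (c : Nat) : Nat := @Bool.rec (fun _ => Nat) (Ptab_1923) (Ptab_1924) (Nat.ble 1924 c)
noncomputable def Ptab_s_1925_1927 (c : Nat) : Nat := @Bool.rec (fun _ => Nat) (Ptab_1925) (Ptab_1926) (Nat.ble 1926 c)
noncomputable def Ptab_s_1923_1927 (c : Nat) : Nat := @Bool.rec (fun _ => Nat) (Ptab_s_1923_1925 c) (Ptab_s_1925_1927 c) (Nat.ble 1925 c)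
noncomputable def Ptab_s_1919_1927 (c : Nat) : Nat := @Bool.rec (fun _ => Nat) (Ptab_s_1919_1923 c) (Ptab_s_1923_1927 c) (Nat.ble 1923 c)
noncomputable def Ptab_s_1911_1927 (c : Nat) : Nat := @Bool.rec (fun _ => Nat) (Ptab_s_1911_1919 c) (Ptab_s_1919_1927 c) (Nat.ble 1919 c)
noncomputable def Ptab_s_1896_1927 (c : Nat) : Nat := @Bool.rec (fun _ => Nat) (Ptab_s_1896_1911 c) (Ptab_s_1911_1927 c) (Nat.ble 1911 c)
noncomputable def Ptab_s_1928_1930 (c : Nat) : Nat := @Bool.rec (fun _ => Nat) (Ptab_1928) (Ptab_1929) (Nat.ble 1929 c)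
noncomputable def Ptab_s_1927_1930 (c : Nat) : Nat := @Bool.rec (fun _ => Nat) (Ptab_1927) (Ptab_s_1928_1930 c) (Nat.ble 1928 c)
noncomputable def Ptab_s_1930_1932 (c : Nat) : Nat := @Bool.rec (fun _ => Nat) (Ptab_1930) (Ptab_1931) (Nat.ble 1931 c)
noncomputable def Ptab_s_1932_1934 (c : Nat) : Nat := @Bool.rec (fun _ => Nat) (Ptab_1932) (Ptab_1933) (Nat.ble 1933 c)
noncomputable def Ptab_s_1930_1934 (c : Nat) : Nat := @Bool.rec (fun _ => Nat) (Ptab_s_1930_1932 c) (Ptab_s_1932_1934 c) (Nat.ble 1932 c)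
noncomputable def Ptab_s_1927_1934 (c : Nat) : Nat := @Bool.rec (fun _ => Nat) (Ptab_s_1927_1930 c) (Ptab_s_1930_1934 c) (Nat.ble 1930 c)
noncomputable def Ptab_s_1934_1936 (c : Nat) : Nat := @Bool.rec (fun _ => Nat) (Ptab_1934) (Ptab_1935) (Nat.ble 1935 c)
noncomputable def Ptab_s_1936_1938 (c : Nat) : Nat := @Bool.rec (fun _ => Nat) (Ptab_1936) (Ptab_1937) (Nat.ble 1937 c)
noncomputable def Ptab_s_1934_1938 (c : Nat) : Nat := @Bool.rec (fun _ => Nat) (Ptab_s_1934_1936 c) (Ptab_s_1936_1938 c) (Nat.ble 1936 c)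
noncomputable def Ptab_s_1938_1940 (c : Nat) : Nat := @Bool.rec (fun _ => Nat) (Ptab_1938) (Ptab_1939) (Nat.ble 1939 c)
noncomputable def Ptab_s_1940_1942 (c : Nat) : Nat := @Bool.rec (fun _ => Nat) (Ptab_1940) (Ptab_1941) (Nat.ble 1941 c)
noncomputable def Ptab_s_1938_1942 (c : Nat) : Nat := @Bool.rec (fun _ => Nat) (Ptab_s_1938_1940 c) (Ptab_s_1940_1942 c) (Nat.ble 1940 c)
noncomputable def Ptab_s_1934_1942 (c : Nat) : Nat := @Bool.rec (fun _ => Nat) (Ptab_s_1934_1938 c) (Ptab_s_1938_1942 c) (Nat.ble 1938 c)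
noncomputable def Ptab_s_1927_1942 (c : Nat) : Nat := @Bool.rec (fun _ => Nat) (Ptab_s_1927_1934 c) (Ptab_s_1934_1942 c) (Nat.ble 1934 c)
noncomputable def Ptab_s_1942_1944 (c : Nat) : Nat := @Bool.rec (fun _ => Nat) (Ptab_1942) (Ptab_1943) (Nat.ble 1943 c)
noncomputable def Ptab_s_1944_1946 (c : Nat) : Nat := @Bool.rec (fun _ => Nat) (Ptab_1944) (Ptab_1945) (Nat.ble 1945 c)
noncomputable def Ptab_s_1942_1946 (c : Nat) : Nat := @Bool.rec (fun _ => Nat) (Ptab_s_1942_1944 c) (Ptab_s_1944_1946 c) (Nat.ble 1944 c)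
noncomputable def Ptab_s_1946_1948 (c : Nat) : Nat := @Bool.rec (fun _ => Nat) (Ptab_1946) (Ptab_1947) (Nat.ble 1947 c)
noncomputable def Ptab_s_1948_1950 (c : Nat) : Nat := @Bool.rec (fun _ => Nat) (Ptab_1948) (Ptab_1949) (Nat.ble 1949 c)
noncomputable def Ptab_s_1946_1950 (c : Nat) : Nat := @Bool.rec (fun _ => Nat) (Ptab_s_1946_1948 c) (Ptab_s_1948_1950 c) (Nat.ble 1948 c)
noncomputable def Ptab_s_1942_1950 (c : Nat) : Nat := @Bool.rec (fun _ => Nat) (Ptab_s_1942_1946 c) (Ptab_s_1946_1950 c) (Nat.ble 1946 c)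
noncomputable def Ptab_s_1950_1952 (c : Nat) : Nat := @Bool.rec (fun _ => Nat) (Ptab_1950) (Ptab_1951) (Nat.ble 1951 c)
noncomputable def Ptab_s_1952_1954 (c : Nat) : Nat := @Bool.rec (fun _ => Nat) (Ptab_1952) (Ptab_1953) (Nat.ble 1953 c)
noncomputable def Ptab_s_1950_1954 (c : Nat) : Nat := @Bool.rec (fun _ => Nat) (Ptab_s_1950_1952 c) (Ptab_s_1952_1954 c) (Nat.ble 1952 c)
noncomputable def Ptab_s_1954_1956 (c : Nat) : Nat := @Bool.rec (fun _ => Nat) (Ptab_1954) (Ptab_1955) (Nat.ble 1955 c)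
noncomputable def Ptab_s_1956_1958 (c : Nat) : Nat := @Bool.rec (fun _ => Nat) (Ptab_1956) (Ptab_1957) (Nat.ble 1957 c)
noncomputable def Ptab_s_1954_1958 (c : Nat) : Nat := @Bool.rec (fun _ => Nat) (Ptab_s_1954_1956 c) (Ptab_s_1956_1958 c) (Nat.ble 1956 c)
noncomputable def Ptab_s_1950_1958 (c : Nat) : Nat := @Bool.rec (fun _ => Nat) (Ptab_s_1950_1954 c) (Ptab_s_1954_1958 c) (Nat.ble 1954 c)
noncomputable def Ptab_s_1942_1958 (c : Nat) : Nat := @Bool.rec (fun _ => Nat) (Ptab_s_1942_1950 c) (Ptab_s_1950_1958 c) (Nat.ble 1950 c)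
noncomputable def Ptab_s_1927_1958 (c : Nat) : Nat := @Bool.rec (fun _ => Nat) (Ptab_s_1927_1942 c) (Ptab_s_1942_1958 c) (Nat.ble 1942 c)
noncomputable def Ptab_s_1896_1958 (c : Nat) : Nat := @Bool.rec (fun _ => Nat) (Ptab_s_1896_1927 c) (Ptab_s_1927_1958 c) (Nat.ble 1927 c)
noncomputable def Ptab_s_1835_1958 (c : Nat) : Nat := @Bool.rec (fun _ => Nat) (Ptab_s_1835_1896 c) (Ptab_s_1896_1958 c) (Nat.ble 1896 c)
noncomputable def Ptab_s_1713_1958 (c : Nat) : Nat := @Bool.rec (fun _ => Nat) (Ptab_s_1713_1835 c) (Ptab_s_1835_1958 c) (Nat.ble 1835 c)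
noncomputable def Ptab_s_1468_1958 (c : Nat) : Nat := @Bool.rec (fun _ => Nat) (Ptab_s_1468_1713 c) (Ptab_s_1713_1958 c) (Nat.ble 1713 c)
noncomputable def Ptab_s_979_1958 (c : Nat) : Nat := @Bool.rec (fun _ => Nat) (Ptab_s_979_1468 c) (Ptab_s_1468_1958 c) (Nat.ble 1468 c)
noncomputable def Ptab_s_0_1958 (c : Nat) : Nat := @Bool.rec (fun _ => Nat) (Ptab_s_0_979 c) (Ptab_s_979_1958 c) (Nat.ble 979 c)
noncomputable def Ptab_s_1959_1961 (c : Nat) : Nat := @Bool.rec (fun _ => Nat) (Ptab_1959) (Ptab_1960) (Nat.ble 1960 c)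
noncomputable def Ptab_s_1958_1961 (c : Nat) : Nat := @Bool.rec (fun _ => Nat) (Ptab_1958) (Ptab_s_1959_1961 c) (Nat.ble 1959 c)
noncomputable def Ptab_s_1961_1963 (c : Nat) : Nat := @Bool.rec (fun _ => Nat) (Ptab_1961) (Ptab_1962) (Nat.ble 1962 c)
noncomputable def Ptab_s_1963_1965 (c : Nat) : Nat := @Bool.rec (fun _ => Nat) (Ptab_1963) (Ptab_1964) (Nat.ble 1964 c)
noncomputable def Ptab_s_1961_1965 (c : Nat) : Nat := @Bool.rec (fun _ => Nat) (Ptab_s_1961_1963 c) (Ptab_s_1963_1965 c) (Nat.ble 1963 c)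
noncomputable def Ptab_s_1958_1965 (c : Nat) : Nat := @Bool.rec (fun _ => Nat) (Ptab_s_1958_1961 c) (Ptab_s_1961_1965 c) (Nat.ble 1961 c)
noncomputable def Ptab_s_1965_1967 (c : Nat) : Nat := @Bool.rec (fun _ => Nat) (Ptab_1965) (Ptab_1966) (Nat.ble 1966 c)
noncomputable def Ptab_s_1967_1969 (c : Nat) : Nat := @Bool.rec (fun _ => Nat) (Ptab_1967) (Ptab_1968) (Nat.ble 1968 c)
noncomputable def Ptab_s_1965_1969 (c : Nat) : Nat := @Bool.rec (fun _ => Nat) (Ptab_s_1965_1967 c) (Ptab_s_1967_1969 c) (Nat.ble 1967 c)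
noncomputable def Ptab_s_1969_1971 (c : Nat) : Nat := @Bool.rec (fun _ => Nat) (Ptab_1969) (Ptab_1970) (Nat.ble 1970 c)
noncomputable def Ptab_s_1971_1973 (c : Nat) : Nat := @Bool.rec (fun _ => Nat) (Ptab_1971) (Ptab_1972) (Nat.ble 1972 c)
noncomputable def Ptab_s_1969_1973 (c : Nat) : Nat := @Bool.rec (fun _ => Nat) (Ptab_s_1969_1971 c) (Ptab_s_1971_1973 c) (Nat.ble 1971 c)
noncomputable def Ptab_s_1965_1973 (c : Nat) : Nat := @Bool.rec (fun _ => Nat) (Ptab_s_1965_1969 c) (Ptab_s_1969_1973 c) (Nat.ble 1969 c)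
noncomputable def Ptab_s_1958_1973 (c : Nat) : Nat := @Bool.rec (fun _ => Nat) (Ptab_s_1958_1965 c) (Ptab_s_1965_1973 c) (Nat.ble 1965 c)
noncomputable def Ptab_s_1974_1976 (c : Nat) : Nat := @Bool.rec (fun _ => Nat) (Ptab_1974) (Ptab_1975) (Nat.ble 1975 c)
noncomputable def Ptab_s_1973_1976 (c : Nat) : Nat := @Bool.rec (fun _ => Nat) (Ptab_1973) (Ptab_s_1974_1976 c) (Nat.ble 1974 c)
noncomputable def Ptab_s_1976_1978 (c : Nat) : Nat := @Bool.rec (fun _ => Nat) (Ptab_1976) (Ptab_1977) (Nat.ble 1977 c)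
noncomputable def Ptab_s_1978_1980 (c : Nat) : Nat := @Bool.rec (fun _ => Nat) (Ptab_1978) (Ptab_1979) (Nat.ble 1979 c)
noncomputable def Ptab_s_1976_1980 (c : Nat) : Nat := @Bool.rec (fun _ => Nat) (Ptab_s_1976_1978 c) (Ptab_s_1978_1980 c) (Nat.ble 1978 c)
noncomputable def Ptab_s_1973_1980 (c : Nat) : Nat := @Bool.rec (fun _ => Nat) (Ptab_s_1973_1976 c) (Ptab_s_1976_1980 c) (Nat.ble 1976 c)
noncomputable def Ptab_s_1980_1982 (c : Nat) : Nat := @Bool.rec (fun _ => Nat) (Ptab_1980) (Ptab_1981) (Nat.ble 1981 c)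
noncomputable def Ptab_s_1982_1984 (c : Nat) : Nat := @Bool.rec (fun _ => Nat) (Ptab_1982) (Ptab_1983) (Nat.ble 1983 c)
noncomputable def Ptab_s_1980_1984 (c : Nat) : Nat := @Bool.rec (fun _ => Nat) (Ptab_s_1980_1982 c) (Ptab_s_1982_1984 c) (Nat.ble 1982 c)
noncomputable def Ptab_s_1984_1986 (c : Nat) : Nat := @Bool.rec (fun _ => Nat) (Ptab_1984) (Ptab_1985) (Nat.ble 1985 c)
noncomputable def Ptab_s_1986_1988 (c : Nat) : Nat := @Bool.rec (fun _ => Nat) (Ptab_1986) (Ptab_1987) (Nat.ble 1987 c)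
noncomputable def Ptab_s_1984_1988 (c : Nat) : Nat := @Bool.rec (fun _ => Nat) (Ptab_s_1984_1986 c) (Ptab_s_1986_1988 c) (Nat.ble 1986 c)
noncomputable def Ptab_s_1980_1988 (c : Nat) : Nat := @Bool.rec (fun _ => Nat) (Ptab_s_1980_1984 c) (Ptab_s_1984_1988 c) (Nat.ble 1984 c)
noncomputable def Ptab_s_1973_1988 (c : Nat) : Nat := @Bool.rec (fun _ => Nat) (Ptab_s_1973_1980 c) (Ptab_s_1980_1988 c) (Nat.ble 1980 c)
noncomputable def Ptab_s_1958_1988 (c : Nat) : Nat := @Bool.rec (fun _ => Nat) (Ptab_s_1958_1973 c) (Ptab_s_1973_1988 c) (Nat.ble 1973 c)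
noncomputable def Ptab_s_1989_1991 (c : Nat) : Nat := @Bool.rec (fun _ => Nat) (Ptab_1989) (Ptab_1990) (Nat.ble 1990 c)
noncomputable def Ptab_s_1988_1991 (c : Nat) : Nat := @Bool.rec (fun _ => Nat) (Ptab_1988) (Ptab_s_1989_1991 c) (Nat.ble 1989 c)
noncomputable def Ptab_s_1991_1993 (c : Nat) : Nat := @Bool.rec (fun _ => Nat) (Ptab_1991) (Ptab_1992) (Nat.ble 1992 c)
noncomputable def Ptab_s_1993_1995 (c : Nat) : Nat := @Bool.rec (fun _ => Nat) (Ptab_1993) (Ptab_1994) (Nat.ble 1994 c)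
noncomputable def Ptab_s_1991_1995 (c : Nat) : Nat := @Bool.rec (fun _ => Nat) (Ptab_s_1991_1993 c) (Ptab_s_1993_1995 c) (Nat.ble 1993 c)
noncomputable def Ptab_s_1988_1995 (c : Nat) : Nat := @Bool.rec (fun _ => Nat) (Ptab_s_1988_1991 c) (Ptab_s_1991_1995 c) (Nat.ble 1991 c)
noncomputable def Ptab_s_1995_1997 (c : Nat) : Nat := @Bool.rec (fun _ => Nat) (Ptab_1995) (Ptab_1996) (Nat.ble 1996 c)
noncomputable def Ptab_s_1997_1999 (c : Nat) : Nat := @Bool.rec (fun _ => Nat) (Ptab_1997) (Ptab_1998) (Nat.ble 1998 c)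
noncomputable def Ptab_s_1995_1999 (c : Nat) : Nat := @Bool.rec (fun _ => Nat) (Ptab_s_1995_1997 c) (Ptab_s_1997_1999 c) (Nat.ble 1997 c)
noncomputable def Ptab_s_1999_2001 (c : Nat) : Nat := @Bool.rec (fun _ => Nat) (Ptab_1999) (Ptab_2000) (Nat.ble 2000 c)
noncomputable def Ptab_s_2001_2003 (c : Nat) : Nat := @Bool.rec (fun _ => Nat) (Ptab_2001) (Ptab_2002) (Nat.ble 2002 c)
noncomputable def Ptab_s_1999_2003 (c : Nat) : Nat := @Bool.rec (fun _ => Nat) (Ptab_s_1999_2001 c) (Ptab_s_2001_2003 c) (Nat.ble 2001 c)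
noncomputable def Ptab_s_1995_2003 (c : Nat) : Nat := @Bool.rec (fun _ => Nat) (Ptab_s_1995_1999 c) (Ptab_s_1999_2003 c) (Nat.ble 1999 c)
noncomputable def Ptab_s_1988_2003 (c : Nat) : Nat := @Bool.rec (fun _ => Nat) (Ptab_s_1988_1995 c) (Ptab_s_1995_2003 c) (Nat.ble 1995 c)
noncomputable def Ptab_s_2003_2005 (c : Nat) : Nat := @Bool.rec (fun _ => Nat) (Ptab_2003) (Ptab_2004) (Nat.ble 2004 c)
noncomputable def Ptab_s_2005_2007 (c : Nat) : Nat := @Bool.rec (fun _ => Nat) (Ptab_2005) (Ptab_2006) (Nat.ble 2006 c)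
noncomputable def Ptab_s_2003_2007 (c : Nat) : Nat := @Bool.rec (fun _ => Nat) (Ptab_s_2003_2005 c) (Ptab_s_2005_2007 c) (Nat.ble 2005 c)
noncomputable def Ptab_s_2007_2009 (c : Nat) : Nat := @Bool.rec (fun _ => Nat) (Ptab_2007) (Ptab_2008) (Nat.ble 2008 c)
noncomputable def Ptab_s_2009_2011 (c : Nat) : Nat := @Bool.rec (fun _ => Nat) (Ptab_2009) (Ptab_2010) (Nat.ble 2010 c)
noncomputable def Ptab_s_2007_2011 (c : Nat) : Nat := @Bool.rec (fun _ => Nat) (Ptab_s_2007_2009 c) (Ptab_s_2009_2011 c) (Nat.ble 2009 c)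
noncomputable def Ptab_s_2003_2011 (c : Nat) : Nat := @Bool.rec (fun _ => Nat) (Ptab_s_2003_2007 c) (Ptab_s_2007_2011 c) (Nat.ble 2007 c)
noncomputable def Ptab_s_2011_2013 (c : Nat) : Nat := @Bool.rec (fun _ => Nat) (Ptab_2011) (Ptab_2012) (Nat.ble 2012 c)
noncomputable def Ptab_s_2013_2015 (c : Nat) : Nat := @Bool.rec (fun _ => Nat) (Ptab_2013) (Ptab_2014) (Nat.ble 2014 c)
noncomputable def Ptab_s_2011_2015 (c : Nat) : Nat := @Bool.rec (fun _ => Nat) (Ptab_s_2011_2013 c) (Ptab_s_2013_2015 c) (Nat.ble 2013 c)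
noncomputable def Ptab_s_2015_2017 (c : Nat) : Nat := @Bool.rec (fun _ => Nat) (Ptab_2015) (Ptab_2016) (Nat.ble 2016 c)
noncomputable def Ptab_s_2017_2019 (c : Nat) : Nat := @Bool.rec (fun _ => Nat) (Ptab_2017) (Ptab_2018) (Nat.ble 2018 c)
noncomputable def Ptab_s_2015_2019 (c : Nat) : Nat := @Bool.rec (fun _ => Nat) (Ptab_s_2015_2017 c) (Ptab_s_2017_2019 c) (Nat.ble 2017 c)
noncomputable def Ptab_s_2011_2019 (c : Nat) : Nat := @Bool.rec (fun _ => Nat) (Ptab_s_2011_2015 c) (Ptab_s_2015_2019 c) (Nat.ble 2015 c)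
noncomputable def Ptab_s_2003_2019 (c : Nat) : Nat := @Bool.rec (fun _ => Nat) (Ptab_s_2003_2011 c) (Ptab_s_2011_2019 c) (Nat.ble 2011 c)
noncomputable def Ptab_s_1988_2019 (c : Nat) : Nat := @Bool.rec (fun _ => Nat) (Ptab_s_1988_2003 c) (Ptab_s_2003_2019 c) (Nat.ble 2003 c)
noncomputable def Ptab_s_1958_2019 (c : Nat) : Nat := @Bool.rec (fun _ => Nat) (Ptab_s_1958_1988 c) (Ptab_s_1988_2019 c) (Nat.ble 1988 c)
noncomputable def Ptab_s_2020_2022 (c : Nat) : Nat := @Bool.rec (fun _ => Nat) (Ptab_2020) (Ptab_2021) (Nat.ble 2021 c)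
noncomputable def Ptab_s_2019_2022 (c : Nat) : Nat := @Bool.rec (fun _ => Nat) (Ptab_2019) (Ptab_s_2020_2022 c) (Nat.ble 2020 c)
noncomputable def Ptab_s_2022_2024 (c : Nat) : Nat := @Bool.rec (fun _ => Nat) (Ptab_2022) (Ptab_2023) (Nat.ble 2023 c)
noncomputable def Ptab_s_2024_2026 (c : Nat) : Nat := @Bool.rec (fun _ => Nat) (Ptab_2024) (Ptab_2025) (Nat.ble 2025 c)
noncomputable def Ptab_s_2022_2026 (c : Nat) : Nat := @Bool.rec (fun _ => Nat) (Ptab_s_2022_2024 c) (Ptab_s_2024_2026 c) (Nat.ble 2024 c)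
noncomputable def Ptab_s_2019_2026 (c : Nat) : Nat := @Bool.rec (fun _ => Nat) (Ptab_s_2019_2022 c) (Ptab_s_2022_2026 c) (Nat.ble 2022 c)
noncomputable def Ptab_s_2026_2028 (c : Nat) : Nat := @Bool.rec (fun _ => Nat) (Ptab_2026) (Ptab_2027) (Nat.ble 2027 c)
noncomputable def Ptab_s_2028_2030 (c : Nat) : Nat := @Bool.rec (fun _ => Nat) (Ptab_2028) (Ptab_2029) (Nat.ble 2029 c)
noncomputable def Ptab_s_2026_2030 (c : Nat) : Nat := @Bool.rec (fun _ => Nat) (Ptab_s_2026_2028 c) (Ptab_s_2028_2030 c) (Nat.ble 2028 c)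
noncomputable def Ptab_s_2030_2032 (c : Nat) : Nat := @Bool.rec (fun _ => Nat) (Ptab_2030) (Ptab_2031) (Nat.ble 2031 c)
noncomputable def Ptab_s_2032_2034 (c : Nat) : Nat := @Bool.rec (fun _ => Nat) (Ptab_2032) (Ptab_2033) (Nat.ble 2033 c)
noncomputable def Ptab_s_2030_2034 (c : Nat) : Nat := @Bool.rec (fun _ => Nat) (Ptab_s_2030_2032 c) (Ptab_s_2032_2034 c) (Nat.ble 2032 c)
noncomputable def Ptab_s_2026_2034 (c : Nat) : Nat := @Bool.rec (fun _ => Nat) (Ptab_s_2026_2030 c) (Ptab_s_2030_2034 c) (Nat.ble 2030 c)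
noncomputable def Ptab_s_2019_2034 (c : Nat) : Nat := @Bool.rec (fun _ => Nat) (Ptab_s_2019_2026 c) (Ptab_s_2026_2034 c) (Nat.ble 2026 c)
noncomputable def Ptab_s_2035_2037 (c : Nat) : Nat := @Bool.rec (fun _ => Nat) (Ptab_2035) (Ptab_2036) (Nat.ble 2036 c)
noncomputable def Ptab_s_2034_2037 (c : Nat) : Nat := @Bool.rec (fun _ => Nat) (Ptab_2034) (Ptab_s_2035_2037 c) (Nat.ble 2035 c)
noncomputable def Ptab_s_2037_2039 (c : Nat) : Nat := @Bool.rec (fun _ => Nat) (Ptab_2037) (Ptab_2038) (Nat.ble 2038 c)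
noncomputable def Ptab_s_2039_2041 (c : Nat) : Nat := @Bool.rec (fun _ => Nat) (Ptab_2039) (Ptab_2040) (Nat.ble 2040 c)
noncomputable def Ptab_s_2037_2041 (c : Nat) : Nat := @Bool.rec (fun _ => Nat) (Ptab_s_2037_2039 c) (Ptab_s_2039_2041 c) (Nat.ble 2039 c)
noncomputable def Ptab_s_2034_2041 (c : Nat) : Nat := @Bool.rec (fun _ => Nat) (Ptab_s_2034_2037 c) (Ptab_s_2037_2041 c) (Nat.ble 2037 c)
noncomputable def Ptab_s_2041_2043 (c : Nat) : Nat := @Bool.rec (fun _ => Nat) (Ptab_2041) (Ptab_2042) (Nat.ble 2042 c)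
noncomputable def Ptab_s_2043_2045 (c : Nat) : Nat := @Bool.rec (fun _ => Nat) (Ptab_2043) (Ptab_2044) (Nat.ble 2044 c)
noncomputable def Ptab_s_2041_2045 (c : Nat) : Nat := @Bool.rec (fun _ => Nat) (Ptab_s_2041_2043 c) (Ptab_s_2043_2045 c) (Nat.ble 2043 c)
noncomputable def Ptab_s_2045_2047 (c : Nat) : Nat := @Bool.rec (fun _ => Nat) (Ptab_2045) (Ptab_2046) (Nat.ble 2046 c)
noncomputable def Ptab_s_2047_2049 (c : Nat) : Nat := @Bool.rec (fun _ => Nat) (Ptab_2047) (Ptab_2048) (Nat.ble 2048 c)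
noncomputable def Ptab_s_2045_2049 (c : Nat) : Nat := @Bool.rec (fun _ => Nat) (Ptab_s_2045_2047 c) (Ptab_s_2047_2049 c) (Nat.ble 2047 c)
noncomputable def Ptab_s_2041_2049 (c : Nat) : Nat := @Bool.rec (fun _ => Nat) (Ptab_s_2041_2045 c) (Ptab_s_2045_2049 c) (Nat.ble 2045 c)
noncomputable def Ptab_s_2034_2049 (c : Nat) : Nat := @Bool.rec (fun _ => Nat) (Ptab_s_2034_2041 c) (Ptab_s_2041_2049 c) (Nat.ble 2041 c)
noncomputable def Ptab_s_2019_2049 (c : Nat) : Nat := @Bool.rec (fun _ => Nat) (Ptab_s_2019_2034 c) (Ptab_s_2034_2049 c) (Nat.ble 2034 c)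
noncomputable def Ptab_s_2050_2052 (c : Nat) : Nat := @Bool.rec (fun _ => Nat) (Ptab_2050) (Ptab_2051) (Nat.ble 2051 c)
noncomputable def Ptab_s_2049_2052 (c : Nat) : Nat := @Bool.rec (fun _ => Nat) (Ptab_2049) (Ptab_s_2050_2052 c) (Nat.ble 2050 c)
noncomputable def Ptab_s_2052_2054 (c : Nat) : Nat := @Bool.rec (fun _ => Nat) (Ptab_2052) (Ptab_2053) (Nat.ble 2053 c)
noncomputable def Ptab_s_2054_2056 (c : Nat) : Nat := @Bool.rec (fun _ => Nat) (Ptab_2054) (Ptab_2055) (Nat.ble 2055 c)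
noncomputable def Ptab_s_2052_2056 (c : Nat) : Nat := @Bool.rec (fun _ => Nat) (Ptab_s_2052_2054 c) (Ptab_s_2054_2056 c) (Nat.ble 2054 c)
noncomputable def Ptab_s_2049_2056 (c : Nat) : Nat := @Bool.rec (fun _ => Nat) (Ptab_s_2049_2052 c) (Ptab_s_2052_2056 c) (Nat.ble 2052 c)
noncomputable def Ptab_s_2056_2058 (c : Nat) : Nat := @Bool.rec (fun _ => Nat) (Ptab_2056) (Ptab_2057) (Nat.ble 2057 c)
noncomputable def Ptab_s_2058_2060 (c : Nat) : Nat := @Bool.rec (fun _ => Nat) (Ptab_2058) (Ptab_2059) (Nat.ble 2059 c)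
noncomputable def Ptab_s_2056_2060 (c : Nat) : Nat := @Bool.rec (fun _ => Nat) (Ptab_s_2056_2058 c) (Ptab_s_2058_2060 c) (Nat.ble 2058 c)
noncomputable def Ptab_s_2060_2062 (c : Nat) : Nat := @Bool.rec (fun _ => Nat) (Ptab_2060) (Ptab_2061) (Nat.ble 2061 c)
noncomputable def Ptab_s_2062_2064 (c : Nat) : Nat := @Bool.rec (fun _ => Nat) (Ptab_2062) (Ptab_2063) (Nat.ble 2063 c)
noncomputable def Ptab_s_2060_2064 (c : Nat) : Nat := @Bool.rec (fun _ => Nat) (Ptab_s_2060_2062 c) (Ptab_s_2062_2064 c) (Nat.ble 2062 c)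
noncomputable def Ptab_s_2056_2064 (c : Nat) : Nat := @Bool.rec (fun _ => Nat) (Ptab_s_2056_2060 c) (Ptab_s_2060_2064 c) (Nat.ble 2060 c)
noncomputable def Ptab_s_2049_2064 (c : Nat) : Nat := @Bool.rec (fun _ => Nat) (Ptab_s_2049_2056 c) (Ptab_s_2056_2064 c) (Nat.ble 2056 c)
noncomputable def Ptab_s_2064_2066 (c : Nat) : Nat := @Bool.rec (fun _ => Nat) (Ptab_2064) (Ptab_2065) (Nat.ble 2065 c)
noncomputable def Ptab_s_2066_2068 (c : Nat) : Nat := @Bool.rec (fun _ => Nat) (Ptab_2066) (Ptab_2067) (Nat.ble 2067 c)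
noncomputable def Ptab_s_2064_2068 (c : Nat) : Nat := @Bool.rec (fun _ => Nat) (Ptab_s_2064_2066 c) (Ptab_s_2066_2068 c) (Nat.ble 2066 c)
noncomputable def Ptab_s_2068_2070 (c : Nat) : Nat := @Bool.rec (fun _ => Nat) (Ptab_2068) (Ptab_2069) (Nat.ble 2069 c)
noncomputable def Ptab_s_2070_2072 (c : Nat) : Nat := @Bool.rec (fun _ => Nat) (Ptab_2070) (Ptab_2071) (Nat.ble 2071 c)
noncomputable def Ptab_s_2068_2072 (c : Nat) : Nat := @Bool.rec (fun _ => Nat) (Ptab_s_2068_2070 c) (Ptab_s_2070_2072 c) (Nat.ble 2070 c)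
noncomputable def Ptab_s_2064_2072 (c : Nat) : Nat := @Bool.rec (fun _ => Nat) (Ptab_s_2064_2068 c) (Ptab_s_2068_2072 c) (Nat.ble 2068 c)
noncomputable def Ptab_s_2072_2074 (c : Nat) : Nat := @Bool.rec (fun _ => Nat) (Ptab_2072) (Ptab_2073) (Nat.ble 2073 c)
noncomputable def Ptab_s_2074_2076 (c : Nat) : Nat := @Bool.rec (fun _ => Nat) (Ptab_2074) (Ptab_2075) (Nat.ble 2075 c)
noncomputable def Ptab_s_2072_2076 (c : Nat) : Nat := @Bool.rec (fun _ => Nat) (Ptab_s_2072_2074 c) (Ptab_s_2074_2076 c) (Nat.ble 2074 c)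
noncomputable def Ptab_s_2076_2078 (c : Nat) : Nat := @Bool.rec (fun _ => Nat) (Ptab_2076) (Ptab_2077) (Nat.ble 2077 c)
noncomputable def Ptab_s_2078_2080 (c : Nat) : Nat := @Bool.rec (fun _ => Nat) (Ptab_2078) (Ptab_2079) (Nat.ble 2079 c)
noncomputable def Ptab_s_2076_2080 (c : Nat) : Nat := @Bool.rec (fun _ => Nat) (Ptab_s_2076_2078 c) (Ptab_s_2078_2080 c) (Nat.ble 2078 c)
noncomputable def Ptab_s_2072_2080 (c : Nat) : Nat := @Bool.rec (fun _ => Nat) (Ptab_s_2072_2076 c) (Ptab_s_2076_2080 c) (Nat.ble 2076 c)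
noncomputable def Ptab_s_2064_2080 (c : Nat) : Nat := @Bool.rec (fun _ => Nat) (Ptab_s_2064_2072 c) (Ptab_s_2072_2080 c) (Nat.ble 2072 c)
noncomputable def Ptab_s_2049_2080 (c : Nat) : Nat := @Bool.rec (fun _ => Nat) (Ptab_s_2049_2064 c) (Ptab_s_2064_2080 c) (Nat.ble 2064 c)
noncomputable def Ptab_s_2019_2080 (c : Nat) : Nat := @Bool.rec (fun _ => Nat) (Ptab_s_2019_2049 c) (Ptab_s_2049_2080 c) (Nat.ble 2049 c)
noncomputable def Ptab_s_1958_2080 (c : Nat) : Nat := @Bool.rec (fun _ => Nat) (Ptab_s_1958_2019 c) (Ptab_s_2019_2080 c) (Nat.ble 2019 c)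
noncomputable def Ptab_s_2081_2083 (c : Nat) : Nat := @Bool.rec (fun _ => Nat) (Ptab_2081) (Ptab_2082) (Nat.ble 2082 c)
noncomputable def Ptab_s_2080_2083 (c : Nat) : Nat := @Bool.rec (fun _ => Nat) (Ptab_2080) (Ptab_s_2081_2083 c) (Nat.ble 2081 c)
noncomputable def Ptab_s_2083_2085 (c : Nat) : Nat := @Bool.rec (fun _ => Nat) (Ptab_2083) (Ptab_2084) (Nat.ble 2084 c)
noncomputable def Ptab_s_2085_2087 (c : Nat) : Nat := @Bool.rec (fun _ => Nat) (Ptab_2085) (Ptab_2086) (Nat.ble 2086 c)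
noncomputable def Ptab_s_2083_2087 (c : Nat) : Nat := @Bool.rec (fun _ => Nat) (Ptab_s_2083_2085 c) (Ptab_s_2085_2087 c) (Nat.ble 2085 c)
noncomputable def Ptab_s_2080_2087 (c : Nat) : Nat := @Bool.rec (fun _ => Nat) (Ptab_s_2080_2083 c) (Ptab_s_2083_2087 c) (Nat.ble 2083 c)
noncomputable def Ptab_s_2087_2089 (c : Nat) : Nat := @Bool.rec (fun _ => Nat) (Ptab_2087) (Ptab_2088) (Nat.ble 2088 c)
noncomputable def Ptab_s_2089_2091 (c : Nat) : Nat := @Bool.rec (fun _ => Nat) (Ptab_2089) (Ptab_2090) (Nat.ble 2090 c)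
noncomputable def Ptab_s_2087_2091 (c : Nat) : Nat := @Bool.rec (fun _ => Nat) (Ptab_s_2087_2089 c) (Ptab_s_2089_2091 c) (Nat.ble 2089 c)
noncomputable def Ptab_s_2091_2093 (c : Nat) : Nat := @Bool.rec (fun _ => Nat) (Ptab_2091) (Ptab_2092) (Nat.ble 2092 c)
noncomputable def Ptab_s_2093_2095 (c : Nat) : Nat := @Bool.rec (fun _ => Nat) (Ptab_2093) (Ptab_2094) (Nat.ble 2094 c)
noncomputable def Ptab_s_2091_2095 (c : Nat) : Nat := @Bool.rec (fun _ => Nat) (Ptab_s_2091_2093 c) (Ptab_s_2093_2095 c) (Nat.ble 2093 c)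
noncomputable def Ptab_s_2087_2095 (c : Nat) : Nat := @Bool.rec (fun _ => Nat) (Ptab_s_2087_2091 c) (Ptab_s_2091_2095 c) (Nat.ble 2091 c)
noncomputable def Ptab_s_2080_2095 (c : Nat) : Nat := @Bool.rec (fun _ => Nat) (Ptab_s_2080_2087 c) (Ptab_s_2087_2095 c) (Nat.ble 2087 c)
noncomputable def Ptab_s_2096_2098 (c : Nat) : Nat := @Bool.rec (fun _ => Nat) (Ptab_2096) (Ptab_2097) (Nat.ble 2097 c)
noncomputable def Ptab_s_2095_2098 (c : Nat) : Nat := @Bool.rec (fun _ => Nat) (Ptab_2095) (Ptab_s_2096_2098 c) (Nat.ble 2096 c)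
noncomputable def Ptab_s_2098_2100 (c : Nat) : Nat := @Bool.rec (fun _ => Nat) (Ptab_2098) (Ptab_2099) (Nat.ble 2099 c)
noncomputable def Ptab_s_2100_2102 (c : Nat) : Nat := @Bool.rec (fun _ => Nat) (Ptab_2100) (Ptab_2101) (Nat.ble 2101 c)
noncomputable def Ptab_s_2098_2102 (c : Nat) : Nat := @Bool.rec (fun _ => Nat) (Ptab_s_2098_2100 c) (Ptab_s_2100_2102 c) (Nat.ble 2100 c)
noncomputable def Ptab_s_2095_2102 (c : Nat) : Nat := @Bool.rec (fun _ => Nat) (Ptab_s_2095_2098 c) (Ptab_s_2098_2102 c) (Nat.ble 2098 c)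
noncomputable def Ptab_s_2102_2104 (c : Nat) : Nat := @Bool.rec (fun _ => Nat) (Ptab_2102) (Ptab_2103) (Nat.ble 2103 c)
noncomputable def Ptab_s_2104_2106 (c : Nat) : Nat := @Bool.rec (fun _ => Nat) (Ptab_2104) (Ptab_2105) (Nat.ble 2105 c)
noncomputable def Ptab_s_2102_2106 (c : Nat) : Nat := @Bool.rec (fun _ => Nat) (Ptab_s_2102_2104 c) (Ptab_s_2104_2106 c) (Nat.ble 2104 c)
noncomputable def Ptab_s_2106_2108 (c : Nat) : Nat := @Bool.rec (fun _ => Nat) (Ptab_2106) (Ptab_2107) (Nat.ble 2107 c)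
noncomputable def Ptab_s_2108_2110 (c : Nat) : Nat := @Bool.rec (fun _ => Nat) (Ptab_2108) (Ptab_2109) (Nat.ble 2109 c)
noncomputable def Ptab_s_2106_2110 (c : Nat) : Nat := @Bool.rec (fun _ => Nat) (Ptab_s_2106_2108 c) (Ptab_s_2108_2110 c) (Nat.ble 2108 c)
noncomputable def Ptab_s_2102_2110 (c : Nat) : Nat := @Bool.rec (fun _ => Nat) (Ptab_s_2102_2106 c) (Ptab_s_2106_2110 c) (Nat.ble 2106 c)
noncomputable def Ptab_s_2095_2110 (c : Nat) : Nat := @Bool.rec (fun _ => Nat) (Ptab_s_2095_2102 c) (Ptab_s_2102_2110 c) (Nat.ble 2102 c)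
noncomputable def Ptab_s_2080_2110 (c : Nat) : Nat := @Bool.rec (fun _ => Nat) (Ptab_s_2080_2095 c) (Ptab_s_2095_2110 c) (Nat.ble 2095 c)
noncomputable def Ptab_s_2111_2113 (c : Nat) : Nat := @Bool.rec (fun _ => Nat) (Ptab_2111) (Ptab_2112) (Nat.ble 2112 c)
noncomputable def Ptab_s_2110_2113 (c : Nat) : Nat := @Bool.rec (fun _ => Nat) (Ptab_2110) (Ptab_s_2111_2113 c) (Nat.ble 2111 c)
noncomputable def Ptab_s_2113_2115 (c : Nat) : Nat := @Bool.rec (fun _ => Nat) (Ptab_2113) (Ptab_2114) (Nat.ble 2114 c)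
noncomputable def Ptab_s_2115_2117 (c : Nat) : Nat := @Bool.rec (fun _ => Nat) (Ptab_2115) (Ptab_2116) (Nat.ble 2116 c)
noncomputable def Ptab_s_2113_2117 (c : Nat) : Nat := @Bool.rec (fun _ => Nat) (Ptab_s_2113_2115 c) (Ptab_s_2115_2117 c) (Nat.ble 2115 c)
noncomputable def Ptab_s_2110_2117 (c : Nat) : Nat := @Bool.rec (fun _ => Nat) (Ptab_s_2110_2113 c) (Ptab_s_2113_2117 c) (Nat.ble 2113 c)
noncomputable def Ptab_s_2117_2119 (c : Nat) : Nat := @Bool.rec (fun _ => Nat) (Ptab_2117) (Ptab_2118) (Nat.ble 2118 c)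
noncomputable def Ptab_s_2119_2121 (c : Nat) : Nat := @Bool.rec (fun _ => Nat) (Ptab_2119) (Ptab_2120) (Nat.ble 2120 c)
noncomputable def Ptab_s_2117_2121 (c : Nat) : Nat := @Bool.rec (fun _ => Nat) (Ptab_s_2117_2119 c) (Ptab_s_2119_2121 c) (Nat.ble 2119 c)
noncomputable def Ptab_s_2121_2123 (c : Nat) : Nat := @Bool.rec (fun _ => Nat) (Ptab_2121) (Ptab_2122) (Nat.ble 2122 c)
noncomputable def Ptab_s_2123_2125 (c : Nat) : Nat := @Bool.rec (fun _ => Nat) (Ptab_2123) (Ptab_2124) (Nat.ble 2124 c)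
noncomputable def Ptab_s_2121_2125 (c : Nat) : Nat := @Bool.rec (fun _ => Nat) (Ptab_s_2121_2123 c) (Ptab_s_2123_2125 c) (Nat.ble 2123 c)
noncomputable def Ptab_s_2117_2125 (c : Nat) : Nat := @Bool.rec (fun _ => Nat) (Ptab_s_2117_2121 c) (Ptab_s_2121_2125 c) (Nat.ble 2121 c)
noncomputable def Ptab_s_2110_2125 (c : Nat) : Nat := @Bool.rec (fun _ => Nat) (Ptab_s_2110_2117 c) (Ptab_s_2117_2125 c) (Nat.ble 2117 c)
noncomputable def Ptab_s_2125_2127 (c : Nat) : Nat := @Bool.rec (fun _ => Nat) (Ptab_2125) (Ptab_2126) (Nat.ble 2126 c)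
noncomputable def Ptab_s_2127_2129 (c : Nat) : Nat := @Bool.rec (fun _ => Nat) (Ptab_2127) (Ptab_2128) (Nat.ble 2128 c)
noncomputable def Ptab_s_2125_2129 (c : Nat) : Nat := @Bool.rec (fun _ => Nat) (Ptab_s_2125_2127 c) (Ptab_s_2127_2129 c) (Nat.ble 2127 c)
noncomputable def Ptab_s_2129_2131 (c : Nat) : Nat := @Bool.rec (fun _ => Nat) (Ptab_2129) (Ptab_2130) (Nat.ble 2130 c)
noncomputable def Ptab_s_2131_2133 (c : Nat) : Nat := @Bool.rec (fun _ => Nat) (Ptab_2131) (Ptab_2132) (Nat.ble 2132 c)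
noncomputable def Ptab_s_2129_2133 (c : Nat) : Nat := @Bool.rec (fun _ => Nat) (Ptab_s_2129_2131 c) (Ptab_s_2131_2133 c) (Nat.ble 2131 c)
noncomputable def Ptab_s_2125_2133 (c : Nat) : Nat := @Bool.rec (fun _ => Nat) (Ptab_s_2125_2129 c) (Ptab_s_2129_2133 c) (Nat.ble 2129 c)
noncomputable def Ptab_s_2133_2135 (c : Nat) : Nat := @Bool.rec (fun _ => Nat) (Ptab_2133) (Ptab_2134) (Nat.ble 2134 c)
noncomputable def Ptab_s_2135_2137 (c : Nat) : Nat := @Bool.rec (fun _ => Nat) (Ptab_2135) (Ptab_2136) (Nat.ble 2136 c)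
noncomputable def Ptab_s_2133_2137 (c : Nat) : Nat := @Bool.rec (fun _ => Nat) (Ptab_s_2133_2135 c) (Ptab_s_2135_2137 c) (Nat.ble 2135 c)
noncomputable def Ptab_s_2137_2139 (c : Nat) : Nat := @Bool.rec (fun _ => Nat) (Ptab_2137) (Ptab_2138) (Nat.ble 2138 c)
noncomputable def Ptab_s_2139_2141 (c : Nat) : Nat := @Bool.rec (fun _ => Nat) (Ptab_2139) (Ptab_2140) (Nat.ble 2140 c)
noncomputable def Ptab_s_2137_2141 (c : Nat) : Nat := @Bool.rec (fun _ => Nat) (Ptab_s_2137_2139 c) (Ptab_s_2139_2141 c) (Nat.ble 2139 c)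
noncomputable def Ptab_s_2133_2141 (c : Nat) : Nat := @Bool.rec (fun _ => Nat) (Ptab_s_2133_2137 c) (Ptab_s_2137_2141 c) (Nat.ble 2137 c)
noncomputable def Ptab_s_2125_2141 (c : Nat) : Nat := @Bool.rec (fun _ => Nat) (Ptab_s_2125_2133 c) (Ptab_s_2133_2141 c) (Nat.ble 2133 c)
noncomputable def Ptab_s_2110_2141 (c : Nat) : Nat := @Bool.rec (fun _ => Nat) (Ptab_s_2110_2125 c) (Ptab_s_2125_2141 c) (Nat.ble 2125 c)
noncomputable def Ptab_s_2080_2141 (c : Nat) : Nat := @Bool.rec (fun _ => Nat) (Ptab_s_2080_2110 c) (Ptab_s_2110_2141 c) (Nat.ble 2110 c)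
noncomputable def Ptab_s_2142_2144 (c : Nat) : Nat := @Bool.rec (fun _ => Nat) (Ptab_2142) (Ptab_2143) (Nat.ble 2143 c)
noncomputable def Ptab_s_2141_2144 (c : Nat) : Nat := @Bool.rec (fun _ => Nat) (Ptab_2141) (Ptab_s_2142_2144 c) (Nat.ble 2142 c)
noncomputable def Ptab_s_2144_2146 (c : Nat) : Nat := @Bool.rec (fun _ => Nat) (Ptab_2144) (Ptab_2145) (Nat.ble 2145 c)
noncomputable def Ptab_s_2146_2148 (c : Nat) : Nat := @Bool.rec (fun _ => Nat) (Ptab_2146) (Ptab_2147) (Nat.ble 2147 c)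
noncomputable def Ptab_s_2144_2148 (c : Nat) : Nat := @Bool.rec (fun _ => Nat) (Ptab_s_2144_2146 c) (Ptab_s_2146_2148 c) (Nat.ble 2146 c)
noncomputable def Ptab_s_2141_2148 (c : Nat) : Nat := @Bool.rec (fun _ => Nat) (Ptab_s_2141_2144 c) (Ptab_s_2144_2148 c) (Nat.ble 2144 c)
noncomputable def Ptab_s_2148_2150 (c : Nat) : Nat := @Bool.rec (fun _ => Nat) (Ptab_2148) (Ptab_2149) (Nat.ble 2149 c)
noncomputable def Ptab_s_2150_2152 (c : Nat) : Nat := @Bool.rec (fun _ => Nat) (Ptab_2150) (Ptab_2151) (Nat.ble 2151 c)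
noncomputable def Ptab_s_2148_2152 (c : Nat) : Nat := @Bool.rec (fun _ => Nat) (Ptab_s_2148_2150 c) (Ptab_s_2150_2152 c) (Nat.ble 2150 c)
noncomputable def Ptab_s_2152_2154 (c : Nat) : Nat := @Bool.rec (fun _ => Nat) (Ptab_2152) (Ptab_2153) (Nat.ble 2153 c)
noncomputable def Ptab_s_2154_2156 (c : Nat) : Nat := @Bool.rec (fun _ => Nat) (Ptab_2154) (Ptab_2155) (Nat.ble 2155 c)
noncomputable def Ptab_s_2152_2156 (c : Nat) : Nat := @Bool.rec (fun _ => Nat) (Ptab_s_2152_2154 c) (Ptab_s_2154_2156 c) (Nat.ble 2154 c)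
noncomputable def Ptab_s_2148_2156 (c : Nat) : Nat := @Bool.rec (fun _ => Nat) (Ptab_s_2148_2152 c) (Ptab_s_2152_2156 c) (Nat.ble 2152 c)
noncomputable def Ptab_s_2141_2156 (c : Nat) : Nat := @Bool.rec (fun _ => Nat) (Ptab_s_2141_2148 c) (Ptab_s_2148_2156 c) (Nat.ble 2148 c)
noncomputable def Ptab_s_2157_2159 (c : Nat) : Nat := @Bool.rec (fun _ => Nat) (Ptab_2157) (Ptab_2158) (Nat.ble 2158 c)
noncomputable def Ptab_s_2156_2159 (c : Nat) : Nat := @Bool.rec (fun _ => Nat) (Ptab_2156) (Ptab_s_2157_2159 c) (Nat.ble 2157 c)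
noncomputable def Ptab_s_2159_2161 (c : Nat) : Nat := @Bool.rec (fun _ => Nat) (Ptab_2159) (Ptab_2160) (Nat.ble 2160 c)
noncomputable def Ptab_s_2161_2163 (c : Nat) : Nat := @Bool.rec (fun _ => Nat) (Ptab_2161) (Ptab_2162) (Nat.ble 2162 c)
noncomputable def Ptab_s_2159_2163 (c : Nat) : Nat := @Bool.rec (fun _ => Nat) (Ptab_s_2159_2161 c) (Ptab_s_2161_2163 c) (Nat.ble 2161 c)
noncomputable def Ptab_s_2156_2163 (c : Nat) : Nat := @Bool.rec (fun _ => Nat) (Ptab_s_2156_2159 c) (Ptab_s_2159_2163 c) (Nat.ble 2159 c)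
noncomputable def Ptab_s_2163_2165 (c : Nat) : Nat := @Bool.rec (fun _ => Nat) (Ptab_2163) (Ptab_2164) (Nat.ble 2164 c)
noncomputable def Ptab_s_2165_2167 (c : Nat) : Nat := @Bool.rec (fun _ => Nat) (Ptab_2165) (Ptab_2166) (Nat.ble 2166 c)
noncomputable def Ptab_s_2163_2167 (c : Nat) : Nat := @Bool.rec (fun _ => Nat) (Ptab_s_2163_2165 c) (Ptab_s_2165_2167 c) (Nat.ble 2165 c)
noncomputable def Ptab_s_2167_2169 (c : Nat) : Nat := @Bool.rec (fun _ => Nat) (Ptab_2167) (Ptab_2168) (Nat.ble 2168 c)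
noncomputable def Ptab_s_2169_2171 (c : Nat) : Nat := @Bool.rec (fun _ => Nat) (Ptab_2169) (Ptab_2170) (Nat.ble 2170 c)
noncomputable def Ptab_s_2167_2171 (c : Nat) : Nat := @Bool.rec (fun _ => Nat) (Ptab_s_2167_2169 c) (Ptab_s_2169_2171 c) (Nat.ble 2169 c)
noncomputable def Ptab_s_2163_2171 (c : Nat) : Nat := @Bool.rec (fun _ => Nat) (Ptab_s_2163_2167 c) (Ptab_s_2167_2171 c) (Nat.ble 2167 c)
noncomputable def Ptab_s_2156_2171 (c : Nat) : Nat := @Bool.rec (fun _ => Nat) (Ptab_s_2156_2163 c) (Ptab_s_2163_2171 c) (Nat.ble 2163 c)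
noncomputable def Ptab_s_2141_2171 (c : Nat) : Nat := @Bool.rec (fun _ => Nat) (Ptab_s_2141_2156 c) (Ptab_s_2156_2171 c) (Nat.ble 2156 c)
noncomputable def Ptab_s_2172_2174 (c : Nat) : Nat := @Bool.rec (fun _ => Nat) (Ptab_2172) (Ptab_2173) (Nat.ble 2173 c)
noncomputable def Ptab_s_2171_2174 (c : Nat) : Nat := @Bool.rec (fun _ => Nat) (Ptab_2171) (Ptab_s_2172_2174 c) (Nat.ble 2172 c)
noncomputable def Ptab_s_2174_2176 (c : Nat) : Nat := @Bool.rec (fun _ => Nat) (Ptab_2174) (Ptab_2175) (Nat.ble 2175 c)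
noncomputable def Ptab_s_2176_2178 (c : Nat) : Nat := @Bool.rec (fun _ => Nat) (Ptab_2176) (Ptab_2177) (Nat.ble 2177 c)
noncomputable def Ptab_s_2174_2178 (c : Nat) : Nat := @Bool.rec (fun _ => Nat) (Ptab_s_2174_2176 c) (Ptab_s_2176_2178 c) (Nat.ble 2176 c)
noncomputable def Ptab_s_2171_2178 (c : Nat) : Nat := @Bool.rec (fun _ => Nat) (Ptab_s_2171_2174 c) (Ptab_s_2174_2178 c) (Nat.ble 2174 c)
noncomputable def Ptab_s_2178_2180 (c : Nat) : Nat := @Bool.rec (fun _ => Nat) (Ptab_2178) (Ptab_2179) (Nat.ble 2179 c)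
noncomputable def Ptab_s_2180_2182 (c : Nat) : Nat := @Bool.rec (fun _ => Nat) (Ptab_2180) (Ptab_2181) (Nat.ble 2181 c)
noncomputable def Ptab_s_2178_2182 (c : Nat) : Nat := @Bool.rec (fun _ => Nat) (Ptab_s_2178_2180 c) (Ptab_s_2180_2182 c) (Nat.ble 2180 c)
noncomputable def Ptab_s_2182_2184 (c : Nat) : Nat := @Bool.rec (fun _ => Nat) (Ptab_2182) (Ptab_2183) (Nat.ble 2183 c)
noncomputable def Ptab_s_2184_2186 (c : Nat) : Nat := @Bool.rec (fun _ => Nat) (Ptab_2184) (Ptab_2185) (Nat.ble 2185 c)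
noncomputable def Ptab_s_2182_2186 (c : Nat) : Nat := @Bool.rec (fun _ => Nat) (Ptab_s_2182_2184 c) (Ptab_s_2184_2186 c) (Nat.ble 2184 c)
noncomputable def Ptab_s_2178_2186 (c : Nat) : Nat := @Bool.rec (fun _ => Nat) (Ptab_s_2178_2182 c) (Ptab_s_2182_2186 c) (Nat.ble 2182 c)
noncomputable def Ptab_s_2171_2186 (c : Nat) : Nat := @Bool.rec (fun _ => Nat) (Ptab_s_2171_2178 c) (Ptab_s_2178_2186 c) (Nat.ble 2178 c)
noncomputable def Ptab_s_2186_2188 (c : Nat) : Nat := @Bool.rec (fun _ => Nat) (Ptab_2186) (Ptab_2187) (Nat.ble 2187 c)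
noncomputable def Ptab_s_2188_2190 (c : Nat) : Nat := @Bool.rec (fun _ => Nat) (Ptab_2188) (Ptab_2189) (Nat.ble 2189 c)
noncomputable def Ptab_s_2186_2190 (c : Nat) : Nat := @Bool.rec (fun _ => Nat) (Ptab_s_2186_2188 c) (Ptab_s_2188_2190 c) (Nat.ble 2188 c)
noncomputable def Ptab_s_2190_2192 (c : Nat) : Nat := @Bool.rec (fun _ => Nat) (Ptab_2190) (Ptab_2191) (Nat.ble 2191 c)
noncomputable def Ptab_s_2192_2194 (c : Nat) : Nat := @Bool.rec (fun _ => Nat) (Ptab_2192) (Ptab_2193) (Nat.ble 2193 c)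
noncomputable def Ptab_s_2190_2194 (c : Nat) : Nat := @Bool.rec (fun _ => Nat) (Ptab_s_2190_2192 c) (Ptab_s_2192_2194 c) (Nat.ble 2192 c)
noncomputable def Ptab_s_2186_2194 (c : Nat) : Nat := @Bool.rec (fun _ => Nat) (Ptab_s_2186_2190 c) (Ptab_s_2190_2194 c) (Nat.ble 2190 c)
noncomputable def Ptab_s_2194_2196 (c : Nat) : Nat := @Bool.rec (fun _ => Nat) (Ptab_2194) (Ptab_2195) (Nat.ble 2195 c)
noncomputable def Ptab_s_2196_2198 (c : Nat) : Nat := @Bool.rec (fun _ => Nat) (Ptab_2196) (Ptab_2197) (Nat.ble 2197 c)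
noncomputable def Ptab_s_2194_2198 (c : Nat) : Nat := @Bool.rec (fun _ => Nat) (Ptab_s_2194_2196 c) (Ptab_s_2196_2198 c) (Nat.ble 2196 c)
noncomputable def Ptab_s_2198_2200 (c : Nat) : Nat := @Bool.rec (fun _ => Nat) (Ptab_2198) (Ptab_2199) (Nat.ble 2199 c)
noncomputable def Ptab_s_2200_2202 (c : Nat) : Nat := @Bool.rec (fun _ => Nat) (Ptab_2200) (Ptab_2201) (Nat.ble 2201 c)
noncomputable def Ptab_s_2198_2202 (c : Nat) : Nat := @Bool.rec (fun _ => Nat) (Ptab_s_2198_2200 c) (Ptab_s_2200_2202 c) (Nat.ble 2200 c)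
noncomputable def Ptab_s_2194_2202 (c : Nat) : Nat := @Bool.rec (fun _ => Nat) (Ptab_s_2194_2198 c) (Ptab_s_2198_2202 c) (Nat.ble 2198 c)
noncomputable def Ptab_s_2186_2202 (c : Nat) : Nat := @Bool.rec (fun _ => Nat) (Ptab_s_2186_2194 c) (Ptab_s_2194_2202 c) (Nat.ble 2194 c)
noncomputable def Ptab_s_2171_2202 (c : Nat) : Nat := @Bool.rec (fun _ => Nat) (Ptab_s_2171_2186 c) (Ptab_s_2186_2202 c) (Nat.ble 2186 c)
noncomputable def Ptab_s_2141_2202 (c : Nat) : Nat := @Bool.rec (fun _ => Nat) (Ptab_s_2141_2171 c) (Ptab_s_2171_2202 c) (Nat.ble 2171 c)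
noncomputable def Ptab_s_2080_2202 (c : Nat) : Nat := @Bool.rec (fun _ => Nat) (Ptab_s_2080_2141 c) (Ptab_s_2141_2202 c) (Nat.ble 2141 c)
noncomputable def Ptab_s_1958_2202 (c : Nat) : Nat := @Bool.rec (fun _ => Nat) (Ptab_s_1958_2080 c) (Ptab_s_2080_2202 c) (Nat.ble 2080 c)
noncomputable def Ptab_s_2203_2205 (c : Nat) : Nat := @Bool.rec (fun _ => Nat) (Ptab_2203) (Ptab_2204) (Nat.ble 2204 c)
noncomputable def Ptab_s_2202_2205 (c : Nat) : Nat := @Bool.rec (fun _ => Nat) (Ptab_2202) (Ptab_s_2203_2205 c) (Nat.ble 2203 c)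
noncomputable def Ptab_s_2205_2207 (c : Nat) : Nat := @Bool.rec (fun _ => Nat) (Ptab_2205) (Ptab_2206) (Nat.ble 2206 c)
noncomputable def Ptab_s_2207_2209 (c : Nat) : Nat := @Bool.rec (fun _ => Nat) (Ptab_2207) (Ptab_2208) (Nat.ble 2208 c)
noncomputable def Ptab_s_2205_2209 (c : Nat) : Nat := @Bool.rec (fun _ => Nat) (Ptab_s_2205_2207 c) (Ptab_s_2207_2209 c) (Nat.ble 2207 c)
noncomputable def Ptab_s_2202_2209 (c : Nat) : Nat := @Bool.rec (fun _ => Nat) (Ptab_s_2202_2205 c) (Ptab_s_2205_2209 c) (Nat.ble 2205 c)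
noncomputable def Ptab_s_2209_2211 (c : Nat) : Nat := @Bool.rec (fun _ => Nat) (Ptab_2209) (Ptab_2210) (Nat.ble 2210 c)
noncomputable def Ptab_s_2211_2213 (c : Nat) : Nat := @Bool.rec (fun _ => Nat) (Ptab_2211) (Ptab_2212) (Nat.ble 2212 c)
noncomputable def Ptab_s_2209_2213 (c : Nat) : Nat := @Bool.rec (fun _ => Nat) (Ptab_s_2209_2211 c) (Ptab_s_2211_2213 c) (Nat.ble 2211 c)
noncomputable def Ptab_s_2213_2215 (c : Nat) : Nat := @Bool.rec (fun _ => Nat) (Ptab_2213) (Ptab_2214) (Nat.ble 2214 c)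
noncomputable def Ptab_s_2215_2217 (c : Nat) : Nat := @Bool.rec (fun _ => Nat) (Ptab_2215) (Ptab_2216) (Nat.ble 2216 c)
noncomputable def Ptab_s_2213_2217 (c : Nat) : Nat := @Bool.rec (fun _ => Nat) (Ptab_s_2213_2215 c) (Ptab_s_2215_2217 c) (Nat.ble 2215 c)
noncomputable def Ptab_s_2209_2217 (c : Nat) : Nat := @Bool.rec (fun _ => Nat) (Ptab_s_2209_2213 c) (Ptab_s_2213_2217 c) (Nat.ble 2213 c)
noncomputable def Ptab_s_2202_2217 (c : Nat) : Nat := @Bool.rec (fun _ => Nat) (Ptab_s_2202_2209 c) (Ptab_s_2209_2217 c) (Nat.ble 2209 c)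
noncomputable def Ptab_s_2218_2220 (c : Nat) : Nat := @Bool.rec (fun _ => Nat) (Ptab_2218) (Ptab_2219) (Nat.ble 2219 c)
noncomputable def Ptab_s_2217_2220 (c : Nat) : Nat := @Bool.rec (fun _ => Nat) (Ptab_2217) (Ptab_s_2218_2220 c) (Nat.ble 2218 c)
noncomputable def Ptab_s_2220_2222 (c : Nat) : Nat := @Bool.rec (fun _ => Nat) (Ptab_2220) (Ptab_2221) (Nat.ble 2221 c)
noncomputable def Ptab_s_2222_2224 (c : Nat) : Nat := @Bool.rec (fun _ => Nat) (Ptab_2222) (Ptab_2223) (Nat.ble 2223 c)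
noncomputable def Ptab_s_2220_2224 (c : Nat) : Nat := @Bool.rec (fun _ => Nat) (Ptab_s_2220_2222 c) (Ptab_s_2222_2224 c) (Nat.ble 2222 c)
noncomputable def Ptab_s_2217_2224 (c : Nat) : Nat := @Bool.rec (fun _ => Nat) (Ptab_s_2217_2220 c) (Ptab_s_2220_2224 c) (Nat.ble 2220 c)
noncomputable def Ptab_s_2224_2226 (c : Nat) : Nat := @Bool.rec (fun _ => Nat) (Ptab_2224) (Ptab_2225) (Nat.ble 2225 c)
noncomputable def Ptab_s_2226_2228 (c : Nat) : Nat := @Bool.rec (fun _ => Nat) (Ptab_2226) (Ptab_2227) (Nat.ble 2227 c)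
noncomputable def Ptab_s_2224_2228 (c : Nat) : Nat := @Bool.rec (fun _ => Nat) (Ptab_s_2224_2226 c) (Ptab_s_2226_2228 c) (Nat.ble 2226 c)
noncomputable def Ptab_s_2228_2230 (c : Nat) : Nat := @Bool.rec (fun _ => Nat) (Ptab_2228) (Ptab_2229) (Nat.ble 2229 c)
noncomputable def Ptab_s_2230_2232 (c : Nat) : Nat := @Bool.rec (fun _ => Nat) (Ptab_2230) (Ptab_2231) (Nat.ble 2231 c)
noncomputable def Ptab_s_2228_2232 (c : Nat) : Nat := @Bool.rec (fun _ => Nat) (Ptab_s_2228_2230 c) (Ptab_s_2230_2232 c) (Nat.ble 2230 c)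
noncomputable def Ptab_s_2224_2232 (c : Nat) : Nat := @Bool.rec (fun _ => Nat) (Ptab_s_2224_2228 c) (Ptab_s_2228_2232 c) (Nat.ble 2228 c)
noncomputable def Ptab_s_2217_2232 (c : Nat) : Nat := @Bool.rec (fun _ => Nat) (Ptab_s_2217_2224 c) (Ptab_s_2224_2232 c) (Nat.ble 2224 c)
noncomputable def Ptab_s_2202_2232 (c : Nat) : Nat := @Bool.rec (fun _ => Nat) (Ptab_s_2202_2217 c) (Ptab_s_2217_2232 c) (Nat.ble 2217 c)
noncomputable def Ptab_s_2233_2235 (c : Nat) : Nat := @Bool.rec (fun _ => Nat) (Ptab_2233) (Ptab_2234) (Nat.ble 2234 c)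
noncomputable def Ptab_s_2232_2235 (c : Nat) : Nat := @Bool.rec (fun _ => Nat) (Ptab_2232) (Ptab_s_2233_2235 c) (Nat.ble 2233 c)
noncomputable def Ptab_s_2235_2237 (c : Nat) : Nat := @Bool.rec (fun _ => Nat) (Ptab_2235) (Ptab_2236) (Nat.ble 2236 c)
noncomputable def Ptab_s_2237_2239 (c : Nat) : Nat := @Bool.rec (fun _ => Nat) (Ptab_2237) (Ptab_2238) (Nat.ble 2238 c)
noncomputable def Ptab_s_2235_2239 (c : Nat) : Nat := @Bool.rec (fun _ => Nat) (Ptab_s_2235_2237 c) (Ptab_s_2237_2239 c) (Nat.ble 2237 c)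
noncomputable def Ptab_s_2232_2239 (c : Nat) : Nat := @Bool.rec (fun _ => Nat) (Ptab_s_2232_2235 c) (Ptab_s_2235_2239 c) (Nat.ble 2235 c)
noncomputable def Ptab_s_2239_2241 (c : Nat) : Nat := @Bool.rec (fun _ => Nat) (Ptab_2239) (Ptab_2240) (Nat.ble 2240 c)
noncomputable def Ptab_s_2241_2243 (c : Nat) : Nat := @Bool.rec (fun _ => Nat) (Ptab_2241) (Ptab_2242) (Nat.ble 2242 c)
noncomputable def Ptab_s_2239_2243 (c : Nat) : Nat := @Bool.rec (fun _ => Nat) (Ptab_s_2239_2241 c) (Ptab_s_2241_2243 c) (Nat.ble 2241 c)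
noncomputable def Ptab_s_2243_2245 (c : Nat) : Nat := @Bool.rec (fun _ => Nat) (Ptab_2243) (Ptab_2244) (Nat.ble 2244 c)
noncomputable def Ptab_s_2245_2247 (c : Nat) : Nat := @Bool.rec (fun _ => Nat) (Ptab_2245) (Ptab_2246) (Nat.ble 2246 c)
noncomputable def Ptab_s_2243_2247 (c : Nat) : Nat := @Bool.rec (fun _ => Nat) (Ptab_s_2243_2245 c) (Ptab_s_2245_2247 c) (Nat.ble 2245 c)
noncomputable def Ptab_s_2239_2247 (c : Nat) : Nat := @Bool.rec (fun _ => Nat) (Ptab_s_2239_2243 c) (Ptab_s_2243_2247 c) (Nat.ble 2243 c)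
noncomputable def Ptab_s_2232_2247 (c : Nat) : Nat := @Bool.rec (fun _ => Nat) (Ptab_s_2232_2239 c) (Ptab_s_2239_2247 c) (Nat.ble 2239 c)
noncomputable def Ptab_s_2247_2249 (c : Nat) : Nat := @Bool.rec (fun _ => Nat) (Ptab_2247) (Ptab_2248) (Nat.ble 2248 c)
noncomputable def Ptab_s_2249_2251 (c : Nat) : Nat := @Bool.rec (fun _ => Nat) (Ptab_2249) (Ptab_2250) (Nat.ble 2250 c)
noncomputable def Ptab_s_2247_2251 (c : Nat) : Nat := @Bool.rec (fun _ => Nat) (Ptab_s_2247_2249 c) (Ptab_s_2249_2251 c) (Nat.ble 2249 c)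
noncomputable def Ptab_s_2251_2253 (c : Nat) : Nat := @Bool.rec (fun _ => Nat) (Ptab_2251) (Ptab_2252) (Nat.ble 2252 c)
noncomputable def Ptab_s_2253_2255 (c : Nat) : Nat := @Bool.rec (fun _ => Nat) (Ptab_2253) (Ptab_2254) (Nat.ble 2254 c)
noncomputable def Ptab_s_2251_2255 (c : Nat) : Nat := @Bool.rec (fun _ => Nat) (Ptab_s_2251_2253 c) (Ptab_s_2253_2255 c) (Nat.ble 2253 c)
noncomputable def Ptab_s_2247_2255 (c : Nat) : Nat := @Bool.rec (fun _ => Nat) (Ptab_s_2247_2251 c) (Ptab_s_2251_2255 c) (Nat.ble 2251 c)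
noncomputable def Ptab_s_2255_2257 (c : Nat) : Nat := @Bool.rec (fun _ => Nat) (Ptab_2255) (Ptab_2256) (Nat.ble 2256 c)
noncomputable def Ptab_s_2257_2259 (c : Nat) : Nat := @Bool.rec (fun _ => Nat) (Ptab_2257) (Ptab_2258) (Nat.ble 2258 c)
noncomputable def Ptab_s_2255_2259 (c : Nat) : Nat := @Bool.rec (fun _ => Nat) (Ptab_s_2255_2257 c) (Ptab_s_2257_2259 c) (Nat.ble 2257 c)
noncomputable def Ptab_s_2259_2261 (c : Nat) : Nat := @Bool.rec (fun _ => Nat) (Ptab_2259) (Ptab_2260) (Nat.ble 2260 c)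
noncomputable def Ptab_s_2261_2263 (c : Nat) : Nat := @Bool.rec (fun _ => Nat) (Ptab_2261) (Ptab_2262) (Nat.ble 2262 c)
noncomputable def Ptab_s_2259_2263 (c : Nat) : Nat := @Bool.rec (fun _ => Nat) (Ptab_s_2259_2261 c) (Ptab_s_2261_2263 c) (Nat.ble 2261 c)
noncomputable def Ptab_s_2255_2263 (c : Nat) : Nat := @Bool.rec (fun _ => Nat) (Ptab_s_2255_2259 c) (Ptab_s_2259_2263 c) (Nat.ble 2259 c)
noncomputable def Ptab_s_2247_2263 (c : Nat) : Nat := @Bool.rec (fun _ => Nat) (Ptab_s_2247_2255 c) (Ptab_s_2255_2263 c) (Nat.ble 2255 c)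
noncomputable def Ptab_s_2232_2263 (c : Nat) : Nat := @Bool.rec (fun _ => Nat) (Ptab_s_2232_2247 c) (Ptab_s_2247_2263 c) (Nat.ble 2247 c)
noncomputable def Ptab_s_2202_2263 (c : Nat) : Nat := @Bool.rec (fun _ => Nat) (Ptab_s_2202_2232 c) (Ptab_s_2232_2263 c) (Nat.ble 2232 c)
noncomputable def Ptab_s_2264_2266 (c : Nat) : Nat := @Bool.rec (fun _ => Nat) (Ptab_2264) (Ptab_2265) (Nat.ble 2265 c)
noncomputable def Ptab_s_2263_2266 (c : Nat) : Nat := @Bool.rec (fun _ => Nat) (Ptab_2263) (Ptab_s_2264_2266 c) (Nat.ble 2264 c)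
noncomputable def Ptab_s_2266_2268 (c : Nat) : Nat := @Bool.rec (fun _ => Nat) (Ptab_2266) (Ptab_2267) (Nat.ble 2267 c)
noncomputable def Ptab_s_2268_2270 (c : Nat) : Nat := @Bool.rec (fun _ => Nat) (Ptab_2268) (Ptab_2269) (Nat.ble 2269 c)
noncomputable def Ptab_s_2266_2270 (c : Nat) : Nat := @Bool.rec (fun _ => Nat) (Ptab_s_2266_2268 c) (Ptab_s_2268_2270 c) (Nat.ble 2268 c)
noncomputable def Ptab_s_2263_2270 (c : Nat) : Nat := @Bool.rec (fun _ => Nat) (Ptab_s_2263_2266 c) (Ptab_s_2266_2270 c) (Nat.ble 2266 c)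
noncomputable def Ptab_s_2270_2272 (c : Nat) : Nat := @Bool.rec (fun _ => Nat) (Ptab_2270) (Ptab_2271) (Nat.ble 2271 c)
noncomputable def Ptab_s_2272_2274 (c : Nat) : Nat := @Bool.rec (fun _ => Nat) (Ptab_2272) (Ptab_2273) (Nat.ble 2273 c)
noncomputable def Ptab_s_2270_2274 (c : Nat) : Nat := @Bool.rec (fun _ => Nat) (Ptab_s_2270_2272 c) (Ptab_s_2272_2274 c) (Nat.ble 2272 c)
noncomputable def Ptab_s_2274_2276 (c : Nat) : Nat := @Bool.rec (fun _ => Nat) (Ptab_2274) (Ptab_2275) (Nat.ble 2275 c)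
noncomputable def Ptab_s_2276_2278 (c : Nat) : Nat := @Bool.rec (fun _ => Nat) (Ptab_2276) (Ptab_2277) (Nat.ble 2277 c)
noncomputable def Ptab_s_2274_2278 (c : Nat) : Nat := @Bool.rec (fun _ => Nat) (Ptab_s_2274_2276 c) (Ptab_s_2276_2278 c) (Nat.ble 2276 c)
noncomputable def Ptab_s_2270_2278 (c : Nat) : Nat := @Bool.rec (fun _ => Nat) (Ptab_s_2270_2274 c) (Ptab_s_2274_2278 c) (Nat.ble 2274 c)
noncomputable def Ptab_s_2263_2278 (c : Nat) : Nat := @Bool.rec (fun _ => Nat) (Ptab_s_2263_2270 c) (Ptab_s_2270_2278 c) (Nat.ble 2270 c)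
noncomputable def Ptab_s_2279_2281 (c : Nat) : Nat := @Bool.rec (fun _ => Nat) (Ptab_2279) (Ptab_2280) (Nat.ble 2280 c)
noncomputable def Ptab_s_2278_2281 (c : Nat) : Nat := @Bool.rec (fun _ => Nat) (Ptab_2278) (Ptab_s_2279_2281 c) (Nat.ble 2279 c)
noncomputable def Ptab_s_2281_2283 (c : Nat) : Nat := @Bool.rec (fun _ => Nat) (Ptab_2281) (Ptab_2282) (Nat.ble 2282 c)
noncomputable def Ptab_s_2283_2285 (c : Nat) : Nat := @Bool.rec (fun _ => Nat) (Ptab_2283) (Ptab_2284) (Nat.ble 2284 c)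
noncomputable def Ptab_s_2281_2285 (c : Nat) : Nat := @Bool.rec (fun _ => Nat) (Ptab_s_2281_2283 c) (Ptab_s_2283_2285 c) (Nat.ble 2283 c)
noncomputable def Ptab_s_2278_2285 (c : Nat) : Nat := @Bool.rec (fun _ => Nat) (Ptab_s_2278_2281 c) (Ptab_s_2281_2285 c) (Nat.ble 2281 c)
noncomputable def Ptab_s_2285_2287 (c : Nat) : Nat := @Bool.rec (fun _ => Nat) (Ptab_2285) (Ptab_2286) (Nat.ble 2286 c)
noncomputable def Ptab_s_2287_2289 (c : Nat) : Nat := @Bool.rec (fun _ => Nat) (Ptab_2287) (Ptab_2288) (Nat.ble 2288 c)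
noncomputable def Ptab_s_2285_2289 (c : Nat) : Nat := @Bool.rec (fun _ => Nat) (Ptab_s_2285_2287 c) (Ptab_s_2287_2289 c) (Nat.ble 2287 c)
noncomputable def Ptab_s_2289_2291 (c : Nat) : Nat := @Bool.rec (fun _ => Nat) (Ptab_2289) (Ptab_2290) (Nat.ble 2290 c)
noncomputable def Ptab_s_2291_2293 (c : Nat) : Nat := @Bool.rec (fun _ => Nat) (Ptab_2291) (Ptab_2292) (Nat.ble 2292 c)
noncomputable def Ptab_s_2289_2293 (c : Nat) : Nat := @Bool.rec (fun _ => Nat) (Ptab_s_2289_2291 c) (Ptab_s_2291_2293 c) (Nat.ble 2291 c)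
noncomputable def Ptab_s_2285_2293 (c : Nat) : Nat := @Bool.rec (fun _ => Nat) (Ptab_s_2285_2289 c) (Ptab_s_2289_2293 c) (Nat.ble 2289 c)
noncomputable def Ptab_s_2278_2293 (c : Nat) : Nat := @Bool.rec (fun _ => Nat) (Ptab_s_2278_2285 c) (Ptab_s_2285_2293 c) (Nat.ble 2285 c)
noncomputable def Ptab_s_2263_2293 (c : Nat) : Nat := @Bool.rec (fun _ => Nat) (Ptab_s_2263_2278 c) (Ptab_s_2278_2293 c) (Nat.ble 2278 c)
noncomputable def Ptab_s_2294_2296 (c : Nat) : Nat := @Bool.rec (fun _ => Nat) (Ptab_2294) (Ptab_2295) (Nat.ble 2295 c)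
noncomputable def Ptab_s_2293_2296 (c : Nat) : Nat := @Bool.rec (fun _ => Nat) (Ptab_2293) (Ptab_s_2294_2296 c) (Nat.ble 2294 c)
noncomputable def Ptab_s_2296_2298 (c : Nat) : Nat := @Bool.rec (fun _ => Nat) (Ptab_2296) (Ptab_2297) (Nat.ble 2297 c)
noncomputable def Ptab_s_2298_2300 (c : Nat) : Nat := @Bool.rec (fun _ => Nat) (Ptab_2298) (Ptab_2299) (Nat.ble 2299 c)
noncomputable def Ptab_s_2296_2300 (c : Nat) : Nat := @Bool.rec (fun _ => Nat) (Ptab_s_2296_2298 c) (Ptab_s_2298_2300 c) (Nat.ble 2298 c)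
noncomputable def Ptab_s_2293_2300 (c : Nat) : Nat := @Bool.rec (fun _ => Nat) (Ptab_s_2293_2296 c) (Ptab_s_2296_2300 c) (Nat.ble 2296 c)
noncomputable def Ptab_s_2300_2302 (c : Nat) : Nat := @Bool.rec (fun _ => Nat) (Ptab_2300) (Ptab_2301) (Nat.ble 2301 c)
noncomputable def Ptab_s_2302_2304 (c : Nat) : Nat := @Bool.rec (fun _ => Nat) (Ptab_2302) (Ptab_2303) (Nat.ble 2303 c)
noncomputable def Ptab_s_2300_2304 (c : Nat) : Nat := @Bool.rec (fun _ => Nat) (Ptab_s_2300_2302 c) (Ptab_s_2302_2304 c) (Nat.ble 2302 c)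
noncomputable def Ptab_s_2304_2306 (c : Nat) : Nat := @Bool.rec (fun _ => Nat) (Ptab_2304) (Ptab_2305) (Nat.ble 2305 c)
noncomputable def Ptab_s_2306_2308 (c : Nat) : Nat := @Bool.rec (fun _ => Nat) (Ptab_2306) (Ptab_2307) (Nat.ble 2307 c)
noncomputable def Ptab_s_2304_2308 (c : Nat) : Nat := @Bool.rec (fun _ => Nat) (Ptab_s_2304_2306 c) (Ptab_s_2306_2308 c) (Nat.ble 2306 c)
noncomputable def Ptab_s_2300_2308 (c : Nat) : Nat := @Bool.rec (fun _ => Nat) (Ptab_s_2300_2304 c) (Ptab_s_2304_2308 c) (Nat.ble 2304 c)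
noncomputable def Ptab_s_2293_2308 (c : Nat) : Nat := @Bool.rec (fun _ => Nat) (Ptab_s_2293_2300 c) (Ptab_s_2300_2308 c) (Nat.ble 2300 c)
noncomputable def Ptab_s_2308_2310 (c : Nat) : Nat := @Bool.rec (fun _ => Nat) (Ptab_2308) (Ptab_2309) (Nat.ble 2309 c)
noncomputable def Ptab_s_2310_2312 (c : Nat) : Nat := @Bool.rec (fun _ => Nat) (Ptab_2310) (Ptab_2311) (Nat.ble 2311 c)
noncomputable def Ptab_s_2308_2312 (c : Nat) : Nat := @Bool.rec (fun _ => Nat) (Ptab_s_2308_2310 c) (Ptab_s_2310_2312 c) (Nat.ble 2310 c)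
noncomputable def Ptab_s_2312_2314 (c : Nat) : Nat := @Bool.rec (fun _ => Nat) (Ptab_2312) (Ptab_2313) (Nat.ble 2313 c)
noncomputable def Ptab_s_2314_2316 (c : Nat) : Nat := @Bool.rec (fun _ => Nat) (Ptab_2314) (Ptab_2315) (Nat.ble 2315 c)
noncomputable def Ptab_s_2312_2316 (c : Nat) : Nat := @Bool.rec (fun _ => Nat) (Ptab_s_2312_2314 c) (Ptab_s_2314_2316 c) (Nat.ble 2314 c)
noncomputable def Ptab_s_2308_2316 (c : Nat) : Nat := @Bool.rec (fun _ => Nat) (Ptab_s_2308_2312 c) (Ptab_s_2312_2316 c) (Nat.ble 2312 c)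
noncomputable def Ptab_s_2316_2318 (c : Nat) : Nat := @Bool.rec (fun _ => Nat) (Ptab_2316) (Ptab_2317) (Nat.ble 2317 c)
noncomputable def Ptab_s_2318_2320 (c : Nat) : Nat := @Bool.rec (fun _ => Nat) (Ptab_2318) (Ptab_2319) (Nat.ble 2319 c)
noncomputable def Ptab_s_2316_2320 (c : Nat) : Nat := @Bool.rec (fun _ => Nat) (Ptab_s_2316_2318 c) (Ptab_s_2318_2320 c) (Nat.ble 2318 c)
noncomputable def Ptab_s_2320_2322 (c : Nat) : Nat := @Bool.rec (fun _ => Nat) (Ptab_2320) (Ptab_2321) (Nat.ble 2321 c)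
noncomputable def Ptab_s_2322_2324 (c : Nat) : Nat := @Bool.rec (fun _ => Nat) (Ptab_2322) (Ptab_2323) (Nat.ble 2323 c)
noncomputable def Ptab_s_2320_2324 (c : Nat) : Nat := @Bool.rec (fun _ => Nat) (Ptab_s_2320_2322 c) (Ptab_s_2322_2324 c) (Nat.ble 2322 c)
noncomputable def Ptab_s_2316_2324 (c : Nat) : Nat := @Bool.rec (fun _ => Nat) (Ptab_s_2316_2320 c) (Ptab_s_2320_2324 c) (Nat.ble 2320 c)
noncomputable def Ptab_s_2308_2324 (c : Nat) : Nat := @Bool.rec (fun _ => Nat) (Ptab_s_2308_2316 c) (Ptab_s_2316_2324 c) (Nat.ble 2316 c)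
noncomputable def Ptab_s_2293_2324 (c : Nat) : Nat := @Bool.rec (fun _ => Nat) (Ptab_s_2293_2308 c) (Ptab_s_2308_2324 c) (Nat.ble 2308 c)
noncomputable def Ptab_s_2263_2324 (c : Nat) : Nat := @Bool.rec (fun _ => Nat) (Ptab_s_2263_2293 c) (Ptab_s_2293_2324 c) (Nat.ble 2293 c)
noncomputable def Ptab_s_2202_2324 (c : Nat) : Nat := @Bool.rec (fun _ => Nat) (Ptab_s_2202_2263 c) (Ptab_s_2263_2324 c) (Nat.ble 2263 c)
noncomputable def Ptab_s_2325_2327 (c : Nat) : Nat := @Bool.rec (fun _ => Nat) (Ptab_2325) (Ptab_2326) (Nat.ble 2326 c)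
noncomputable def Ptab_s_2324_2327 (c : Nat) : Nat := @Bool.rec (fun _ => Nat) (Ptab_2324) (Ptab_s_2325_2327 c) (Nat.ble 2325 c)
noncomputable def Ptab_s_2327_2329 (c : Nat) : Nat := @Bool.rec (fun _ => Nat) (Ptab_2327) (Ptab_2328) (Nat.ble 2328 c)
noncomputable def Ptab_s_2329_2331 (c : Nat) : Nat := @Bool.rec (fun _ => Nat) (Ptab_2329) (Ptab_2330) (Nat.ble 2330 c)
noncomputable def Ptab_s_2327_2331 (c : Nat) : Nat := @Bool.rec (fun _ => Nat) (Ptab_s_2327_2329 c) (Ptab_s_2329_2331 c) (Nat.ble 2329 c)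
noncomputable def Ptab_s_2324_2331 (c : Nat) : Nat := @Bool.rec (fun _ => Nat) (Ptab_s_2324_2327 c) (Ptab_s_2327_2331 c) (Nat.ble 2327 c)
noncomputable def Ptab_s_2331_2333 (c : Nat) : Nat := @Bool.rec (fun _ => Nat) (Ptab_2331) (Ptab_2332) (Nat.ble 2332 c)
noncomputable def Ptab_s_2333_2335 (c : Nat) : Nat := @Bool.rec (fun _ => Nat) (Ptab_2333) (Ptab_2334) (Nat.ble 2334 c)
noncomputable def Ptab_s_2331_2335 (c : Nat) : Nat := @Bool.rec (fun _ => Nat) (Ptab_s_2331_2333 c) (Ptab_s_2333_2335 c) (Nat.ble 2333 c)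
noncomputable def Ptab_s_2335_2337 (c : Nat) : Nat := @Bool.rec (fun _ => Nat) (Ptab_2335) (Ptab_2336) (Nat.ble 2336 c)
noncomputable def Ptab_s_2337_2339 (c : Nat) : Nat := @Bool.rec (fun _ => Nat) (Ptab_2337) (Ptab_2338) (Nat.ble 2338 c)
noncomputable def Ptab_s_2335_2339 (c : Nat) : Nat := @Bool.rec (fun _ => Nat) (Ptab_s_2335_2337 c) (Ptab_s_2337_2339 c) (Nat.ble 2337 c)
noncomputable def Ptab_s_2331_2339 (c : Nat) : Nat := @Bool.rec (fun _ => Nat) (Ptab_s_2331_2335 c) (Ptab_s_2335_2339 c) (Nat.ble 2335 c)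
noncomputable def Ptab_s_2324_2339 (c : Nat) : Nat := @Bool.rec (fun _ => Nat) (Ptab_s_2324_2331 c) (Ptab_s_2331_2339 c) (Nat.ble 2331 c)
noncomputable def Ptab_s_2340_2342 (c : Nat) : Nat := @Bool.rec (fun _ => Nat) (Ptab_2340) (Ptab_2341) (Nat.ble 2341 c)
noncomputable def Ptab_s_2339_2342 (c : Nat) : Nat := @Bool.rec (fun _ => Nat) (Ptab_2339) (Ptab_s_2340_2342 c) (Nat.ble 2340 c)
noncomputable def Ptab_s_2342_2344 (c : Nat) : Nat := @Bool.rec (fun _ => Nat) (Ptab_2342) (Ptab_2343) (Nat.ble 2343 c)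
noncomputable def Ptab_s_2344_2346 (c : Nat) : Nat := @Bool.rec (fun _ => Nat) (Ptab_2344) (Ptab_2345) (Nat.ble 2345 c)
noncomputable def Ptab_s_2342_2346 (c : Nat) : Nat := @Bool.rec (fun _ => Nat) (Ptab_s_2342_2344 c) (Ptab_s_2344_2346 c) (Nat.ble 2344 c)
noncomputable def Ptab_s_2339_2346 (c : Nat) : Nat := @Bool.rec (fun _ => Nat) (Ptab_s_2339_2342 c) (Ptab_s_2342_2346 c) (Nat.ble 2342 c)
noncomputable def Ptab_s_2346_2348 (c : Nat) : Nat := @Bool.rec (fun _ => Nat) (Ptab_2346) (Ptab_2347) (Nat.ble 2347 c)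
noncomputable def Ptab_s_2348_2350 (c : Nat) : Nat := @Bool.rec (fun _ => Nat) (Ptab_2348) (Ptab_2349) (Nat.ble 2349 c)
noncomputable def Ptab_s_2346_2350 (c : Nat) : Nat := @Bool.rec (fun _ => Nat) (Ptab_s_2346_2348 c) (Ptab_s_2348_2350 c) (Nat.ble 2348 c)
noncomputable def Ptab_s_2350_2352 (c : Nat) : Nat := @Bool.rec (fun _ => Nat) (Ptab_2350) (Ptab_2351) (Nat.ble 2351 c)
noncomputable def Ptab_s_2352_2354 (c : Nat) : Nat := @Bool.rec (fun _ => Nat) (Ptab_2352) (Ptab_2353) (Nat.ble 2353 c)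
noncomputable def Ptab_s_2350_2354 (c : Nat) : Nat := @Bool.rec (fun _ => Nat) (Ptab_s_2350_2352 c) (Ptab_s_2352_2354 c) (Nat.ble 2352 c)
noncomputable def Ptab_s_2346_2354 (c : Nat) : Nat := @Bool.rec (fun _ => Nat) (Ptab_s_2346_2350 c) (Ptab_s_2350_2354 c) (Nat.ble 2350 c)
noncomputable def Ptab_s_2339_2354 (c : Nat) : Nat := @Bool.rec (fun _ => Nat) (Ptab_s_2339_2346 c) (Ptab_s_2346_2354 c) (Nat.ble 2346 c)
noncomputable def Ptab_s_2324_2354 (c : Nat) : Nat := @Bool.rec (fun _ => Nat) (Ptab_s_2324_2339 c) (Ptab_s_2339_2354 c) (Nat.ble 2339 c)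
noncomputable def Ptab_s_2355_2357 (c : Nat) : Nat := @Bool.rec (fun _ => Nat) (Ptab_2355) (Ptab_2356) (Nat.ble 2356 c)
noncomputable def Ptab_s_2354_2357 (c : Nat) : Nat := @Bool.rec (fun _ => Nat) (Ptab_2354) (Ptab_s_2355_2357 c) (Nat.ble 2355 c)
noncomputable def Ptab_s_2357_2359 (c : Nat) : Nat := @Bool.rec (fun _ => Nat) (Ptab_2357) (Ptab_2358) (Nat.ble 2358 c)
noncomputable def Ptab_s_2359_2361 (c : Nat) : Nat := @Bool.rec (fun _ => Nat) (Ptab_2359) (Ptab_2360) (Nat.ble 2360 c)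
noncomputable def Ptab_s_2357_2361 (c : Nat) : Nat := @Bool.rec (fun _ => Nat) (Ptab_s_2357_2359 c) (Ptab_s_2359_2361 c) (Nat.ble 2359 c)
noncomputable def Ptab_s_2354_2361 (c : Nat) : Nat := @Bool.rec (fun _ => Nat) (Ptab_s_2354_2357 c) (Ptab_s_2357_2361 c) (Nat.ble 2357 c)
noncomputable def Ptab_s_2361_2363 (c : Nat) : Nat := @Bool.rec (fun _ => Nat) (Ptab_2361) (Ptab_2362) (Nat.ble 2362 c)
noncomputable def Ptab_s_2363_2365 (c : Nat) : Nat := @Bool.rec (fun _ => Nat) (Ptab_2363) (Ptab_2364) (Nat.ble 2364 c)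
noncomputable def Ptab_s_2361_2365 (c : Nat) : Nat := @Bool.rec (fun _ => Nat) (Ptab_s_2361_2363 c) (Ptab_s_2363_2365 c) (Nat.ble 2363 c)
noncomputable def Ptab_s_2365_2367 (c : Nat) : Nat := @Bool.rec (fun _ => Nat) (Ptab_2365) (Ptab_2366) (Nat.ble 2366 c)
noncomputable def Ptab_s_2367_2369 (c : Nat) : Nat := @Bool.rec (fun _ => Nat) (Ptab_2367) (Ptab_2368) (Nat.ble 2368 c)
noncomputable def Ptab_s_2365_2369 (c : Nat) : Nat := @Bool.rec (fun _ => Nat) (Ptab_s_2365_2367 c) (Ptab_s_2367_2369 c) (Nat.ble 2367 c)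
noncomputable def Ptab_s_2361_2369 (c : Nat) : Nat := @Bool.rec (fun _ => Nat) (Ptab_s_2361_2365 c) (Ptab_s_2365_2369 c) (Nat.ble 2365 c)
noncomputable def Ptab_s_2354_2369 (c : Nat) : Nat := @Bool.rec (fun _ => Nat) (Ptab_s_2354_2361 c) (Ptab_s_2361_2369 c) (Nat.ble 2361 c)
noncomputable def Ptab_s_2369_2371 (c : Nat) : Nat := @Bool.rec (fun _ => Nat) (Ptab_2369) (Ptab_2370) (Nat.ble 2370 c)
noncomputable def Ptab_s_2371_2373 (c : Nat) : Nat := @Bool.rec (fun _ => Nat) (Ptab_2371) (Ptab_2372) (Nat.ble 2372 c)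
noncomputable def Ptab_s_2369_2373 (c : Nat) : Nat := @Bool.rec (fun _ => Nat) (Ptab_s_2369_2371 c) (Ptab_s_2371_2373 c) (Nat.ble 2371 c)
noncomputable def Ptab_s_2373_2375 (c : Nat) : Nat := @Bool.rec (fun _ => Nat) (Ptab_2373) (Ptab_2374) (Nat.ble 2374 c)
noncomputable def Ptab_s_2375_2377 (c : Nat) : Nat := @Bool.rec (fun _ => Nat) (Ptab_2375) (Ptab_2376) (Nat.ble 2376 c)
noncomputable def Ptab_s_2373_2377 (c : Nat) : Nat := @Bool.rec (fun _ => Nat) (Ptab_s_2373_2375 c) (Ptab_s_2375_2377 c) (Nat.ble 2375 c)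
noncomputable def Ptab_s_2369_2377 (c : Nat) : Nat := @Bool.rec (fun _ => Nat) (Ptab_s_2369_2373 c) (Ptab_s_2373_2377 c) (Nat.ble 2373 c)
noncomputable def Ptab_s_2377_2379 (c : Nat) : Nat := @Bool.rec (fun _ => Nat) (Ptab_2377) (Ptab_2378) (Nat.ble 2378 c)
noncomputable def Ptab_s_2379_2381 (c : Nat) : Nat := @Bool.rec (fun _ => Nat) (Ptab_2379) (Ptab_2380) (Nat.ble 2380 c)
noncomputable def Ptab_s_2377_2381 (c : Nat) : Nat := @Bool.rec (fun _ => Nat) (Ptab_s_2377_2379 c) (Ptab_s_2379_2381 c) (Nat.ble 2379 c)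
noncomputable def Ptab_s_2381_2383 (c : Nat) : Nat := @Bool.rec (fun _ => Nat) (Ptab_2381) (Ptab_2382) (Nat.ble 2382 c)
noncomputable def Ptab_s_2383_2385 (c : Nat) : Nat := @Bool.rec (fun _ => Nat) (Ptab_2383) (Ptab_2384) (Nat.ble 2384 c)
noncomputable def Ptab_s_2381_2385 (c : Nat) : Nat := @Bool.rec (fun _ => Nat) (Ptab_s_2381_2383 c) (Ptab_s_2383_2385 c) (Nat.ble 2383 c)
noncomputable def Ptab_s_2377_2385 (c : Nat) : Nat := @Bool.rec (fun _ => Nat) (Ptab_s_2377_2381 c) (Ptab_s_2381_2385 c) (Nat.ble 2381 c)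
noncomputable def Ptab_s_2369_2385 (c : Nat) : Nat := @Bool.rec (fun _ => Nat) (Ptab_s_2369_2377 c) (Ptab_s_2377_2385 c) (Nat.ble 2377 c)
noncomputable def Ptab_s_2354_2385 (c : Nat) : Nat := @Bool.rec (fun _ => Nat) (Ptab_s_2354_2369 c) (Ptab_s_2369_2385 c) (Nat.ble 2369 c)
noncomputable def Ptab_s_2324_2385 (c : Nat) : Nat := @Bool.rec (fun _ => Nat) (Ptab_s_2324_2354 c) (Ptab_s_2354_2385 c) (Nat.ble 2354 c)
noncomputable def Ptab_s_2386_2388 (c : Nat) : Nat := @Bool.rec (fun _ => Nat) (Ptab_2386) (Ptab_2387) (Nat.ble 2387 c)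
noncomputable def Ptab_s_2385_2388 (c : Nat) : Nat := @Bool.rec (fun _ => Nat) (Ptab_2385) (Ptab_s_2386_2388 c) (Nat.ble 2386 c)
noncomputable def Ptab_s_2388_2390 (c : Nat) : Nat := @Bool.rec (fun _ => Nat) (Ptab_2388) (Ptab_2389) (Nat.ble 2389 c)
noncomputable def Ptab_s_2390_2392 (c : Nat) : Nat := @Bool.rec (fun _ => Nat) (Ptab_2390) (Ptab_2391) (Nat.ble 2391 c)
noncomputable def Ptab_s_2388_2392 (c : Nat) : Nat := @Bool.rec (fun _ => Nat) (Ptab_s_2388_2390 c) (Ptab_s_2390_2392 c) (Nat.ble 2390 c)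
noncomputable def Ptab_s_2385_2392 (c : Nat) : Nat := @Bool.rec (fun _ => Nat) (Ptab_s_2385_2388 c) (Ptab_s_2388_2392 c) (Nat.ble 2388 c)
noncomputable def Ptab_s_2392_2394 (c : Nat) : Nat := @Bool.rec (fun _ => Nat) (Ptab_2392) (Ptab_2393) (Nat.ble 2393 c)
noncomputable def Ptab_s_2394_2396 (c : Nat) : Nat := @Bool.rec (fun _ => Nat) (Ptab_2394) (Ptab_2395) (Nat.ble 2395 c)
noncomputable def Ptab_s_2392_2396 (c : Nat) : Nat := @Bool.rec (fun _ => Nat) (Ptab_s_2392_2394 c) (Ptab_s_2394_2396 c) (Nat.ble 2394 c)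
noncomputable def Ptab_s_2396_2398 (c : Nat) : Nat := @Bool.rec (fun _ => Nat) (Ptab_2396) (Ptab_2397) (Nat.ble 2397 c)
noncomputable def Ptab_s_2398_2400 (c : Nat) : Nat := @Bool.rec (fun _ => Nat) (Ptab_2398) (Ptab_2399) (Nat.ble 2399 c)
noncomputable def Ptab_s_2396_2400 (c : Nat) : Nat := @Bool.rec (fun _ => Nat) (Ptab_s_2396_2398 c) (Ptab_s_2398_2400 c) (Nat.ble 2398 c)
noncomputable def Ptab_s_2392_2400 (c : Nat) : Nat := @Bool.rec (fun _ => Nat) (Ptab_s_2392_2396 c) (Ptab_s_2396_2400 c) (Nat.ble 2396 c)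
noncomputable def Ptab_s_2385_2400 (c : Nat) : Nat := @Bool.rec (fun _ => Nat) (Ptab_s_2385_2392 c) (Ptab_s_2392_2400 c) (Nat.ble 2392 c)
noncomputable def Ptab_s_2400_2402 (c : Nat) : Nat := @Bool.rec (fun _ => Nat) (Ptab_2400) (Ptab_2401) (Nat.ble 2401 c)
noncomputable def Ptab_s_2402_2404 (c : Nat) : Nat := @Bool.rec (fun _ => Nat) (Ptab_2402) (Ptab_2403) (Nat.ble 2403 c)
noncomputable def Ptab_s_2400_2404 (c : Nat) : Nat := @Bool.rec (fun _ => Nat) (Ptab_s_2400_2402 c) (Ptab_s_2402_2404 c) (Nat.ble 2402 c)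
noncomputable def Ptab_s_2404_2406 (c : Nat) : Nat := @Bool.rec (fun _ => Nat) (Ptab_2404) (Ptab_2405) (Nat.ble 2405 c)
noncomputable def Ptab_s_2406_2408 (c : Nat) : Nat := @Bool.rec (fun _ => Nat) (Ptab_2406) (Ptab_2407) (Nat.ble 2407 c)
noncomputable def Ptab_s_2404_2408 (c : Nat) : Nat := @Bool.rec (fun _ => Nat) (Ptab_s_2404_2406 c) (Ptab_s_2406_2408 c) (Nat.ble 2406 c)
noncomputable def Ptab_s_2400_2408 (c : Nat) : Nat := @Bool.rec (fun _ => Nat) (Ptab_s_2400_2404 c) (Ptab_s_2404_2408 c) (Nat.ble 2404 c)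
noncomputable def Ptab_s_2408_2410 (c : Nat) : Nat := @Bool.rec (fun _ => Nat) (Ptab_2408) (Ptab_2409) (Nat.ble 2409 c)
noncomputable def Ptab_s_2410_2412 (c : Nat) : Nat := @Bool.rec (fun _ => Nat) (Ptab_2410) (Ptab_2411) (Nat.ble 2411 c)
noncomputable def Ptab_s_2408_2412 (c : Nat) : Nat := @Bool.rec (fun _ => Nat) (Ptab_s_2408_2410 c) (Ptab_s_2410_2412 c) (Nat.ble 2410 c)
noncomputable def Ptab_s_2412_2414 (c : Nat) : Nat := @Bool.rec (fun _ => Nat) (Ptab_2412) (Ptab_2413) (Nat.ble 2413 c)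
noncomputable def Ptab_s_2414_2416 (c : Nat) : Nat := @Bool.rec (fun _ => Nat) (Ptab_2414) (Ptab_2415) (Nat.ble 2415 c)
noncomputable def Ptab_s_2412_2416 (c : Nat) : Nat := @Bool.rec (fun _ => Nat) (Ptab_s_2412_2414 c) (Ptab_s_2414_2416 c) (Nat.ble 2414 c)
noncomputable def Ptab_s_2408_2416 (c : Nat) : Nat := @Bool.rec (fun _ => Nat) (Ptab_s_2408_2412 c) (Ptab_s_2412_2416 c) (Nat.ble 2412 c)
noncomputable def Ptab_s_2400_2416 (c : Nat) : Nat := @Bool.rec (fun _ => Nat) (Ptab_s_2400_2408 c) (Ptab_s_2408_2416 c) (Nat.ble 2408 c)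
noncomputable def Ptab_s_2385_2416 (c : Nat) : Nat := @Bool.rec (fun _ => Nat) (Ptab_s_2385_2400 c) (Ptab_s_2400_2416 c) (Nat.ble 2400 c)
noncomputable def Ptab_s_2417_2419 (c : Nat) : Nat := @Bool.rec (fun _ => Nat) (Ptab_2417) (Ptab_2418) (Nat.ble 2418 c)
noncomputable def Ptab_s_2416_2419 (c : Nat) : Nat := @Bool.rec (fun _ => Nat) (Ptab_2416) (Ptab_s_2417_2419 c) (Nat.ble 2417 c)
noncomputable def Ptab_s_2419_2421 (c : Nat) : Nat := @Bool.rec (fun _ => Nat) (Ptab_2419) (Ptab_2420) (Nat.ble 2420 c)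
noncomputable def Ptab_s_2421_2423 (c : Nat) : Nat := @Bool.rec (fun _ => Nat) (Ptab_2421) (Ptab_2422) (Nat.ble 2422 c)
noncomputable def Ptab_s_2419_2423 (c : Nat) : Nat := @Bool.rec (fun _ => Nat) (Ptab_s_2419_2421 c) (Ptab_s_2421_2423 c) (Nat.ble 2421 c)
noncomputable def Ptab_s_2416_2423 (c : Nat) : Nat := @Bool.rec (fun _ => Nat) (Ptab_s_2416_2419 c) (Ptab_s_2419_2423 c) (Nat.ble 2419 c)
noncomputable def Ptab_s_2423_2425 (c : Nat) : Nat := @Bool.rec (fun _ => Nat) (Ptab_2423) (Ptab_2424) (Nat.ble 2424 c)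
noncomputable def Ptab_s_2425_2427 (c : Nat) : Nat := @Bool.rec (fun _ => Nat) (Ptab_2425) (Ptab_2426) (Nat.ble 2426 c)
noncomputable def Ptab_s_2423_2427 (c : Nat) : Nat := @Bool.rec (fun _ => Nat) (Ptab_s_2423_2425 c) (Ptab_s_2425_2427 c) (Nat.ble 2425 c)
noncomputable def Ptab_s_2427_2429 (c : Nat) : Nat := @Bool.rec (fun _ => Nat) (Ptab_2427) (Ptab_2428) (Nat.ble 2428 c)
noncomputable def Ptab_s_2429_2431 (c : Nat) : Nat := @Bool.rec (fun _ => Nat) (Ptab_2429) (Ptab_2430) (Nat.ble 2430 c)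
noncomputable def Ptab_s_2427_2431 (c : Nat) : Nat := @Bool.rec (fun _ => Nat) (Ptab_s_2427_2429 c) (Ptab_s_2429_2431 c) (Nat.ble 2429 c)
noncomputable def Ptab_s_2423_2431 (c : Nat) : Nat := @Bool.rec (fun _ => Nat) (Ptab_s_2423_2427 c) (Ptab_s_2427_2431 c) (Nat.ble 2427 c)
noncomputable def Ptab_s_2416_2431 (c : Nat) : Nat := @Bool.rec (fun _ => Nat) (Ptab_s_2416_2423 c) (Ptab_s_2423_2431 c) (Nat.ble 2423 c)
noncomputable def Ptab_s_2431_2433 (c : Nat) : Nat := @Bool.rec (fun _ => Nat) (Ptab_2431) (Ptab_2432) (Nat.ble 2432 c)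
noncomputable def Ptab_s_2433_2435 (c : Nat) : Nat := @Bool.rec (fun _ => Nat) (Ptab_2433) (Ptab_2434) (Nat.ble 2434 c)
noncomputable def Ptab_s_2431_2435 (c : Nat) : Nat := @Bool.rec (fun _ => Nat) (Ptab_s_2431_2433 c) (Ptab_s_2433_2435 c) (Nat.ble 2433 c)
noncomputable def Ptab_s_2435_2437 (c : Nat) : Nat := @Bool.rec (fun _ => Nat) (Ptab_2435) (Ptab_2436) (Nat.ble 2436 c)
noncomputable def Ptab_s_2437_2439 (c : Nat) : Nat := @Bool.rec (fun _ => Nat) (Ptab_2437) (Ptab_2438) (Nat.ble 2438 c)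
noncomputable def Ptab_s_2435_2439 (c : Nat) : Nat := @Bool.rec (fun _ => Nat) (Ptab_s_2435_2437 c) (Ptab_s_2437_2439 c) (Nat.ble 2437 c)
noncomputable def Ptab_s_2431_2439 (c : Nat) : Nat := @Bool.rec (fun _ => Nat) (Ptab_s_2431_2435 c) (Ptab_s_2435_2439 c) (Nat.ble 2435 c)
noncomputable def Ptab_s_2439_2441 (c : Nat) : Nat := @Bool.rec (fun _ => Nat) (Ptab_2439) (Ptab_2440) (Nat.ble 2440 c)
noncomputable def Ptab_s_2441_2443 (c : Nat) : Nat := @Bool.rec (fun _ => Nat) (Ptab_2441) (Ptab_2442) (Nat.ble 2442 c)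
noncomputable def Ptab_s_2439_2443 (c : Nat) : Nat := @Bool.rec (fun _ => Nat) (Ptab_s_2439_2441 c) (Ptab_s_2441_2443 c) (Nat.ble 2441 c)
noncomputable def Ptab_s_2443_2445 (c : Nat) : Nat := @Bool.rec (fun _ => Nat) (Ptab_2443) (Ptab_2444) (Nat.ble 2444 c)
noncomputable def Ptab_s_2445_2447 (c : Nat) : Nat := @Bool.rec (fun _ => Nat) (Ptab_2445) (Ptab_2446) (Nat.ble 2446 c)
noncomputable def Ptab_s_2443_2447 (c : Nat) : Nat := @Bool.rec (fun _ => Nat) (Ptab_s_2443_2445 c) (Ptab_s_2445_2447 c) (Nat.ble 2445 c)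
noncomputable def Ptab_s_2439_2447 (c : Nat) : Nat := @Bool.rec (fun _ => Nat) (Ptab_s_2439_2443 c) (Ptab_s_2443_2447 c) (Nat.ble 2443 c)
noncomputable def Ptab_s_2431_2447 (c : Nat) : Nat := @Bool.rec (fun _ => Nat) (Ptab_s_2431_2439 c) (Ptab_s_2439_2447 c) (Nat.ble 2439 c)
noncomputable def Ptab_s_2416_2447 (c : Nat) : Nat := @Bool.rec (fun _ => Nat) (Ptab_s_2416_2431 c) (Ptab_s_2431_2447 c) (Nat.ble 2431 c)
noncomputable def Ptab_s_2385_2447 (c : Nat) : Nat := @Bool.rec (fun _ => Nat) (Ptab_s_2385_2416 c) (Ptab_s_2416_2447 c) (Nat.ble 2416 c)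
noncomputable def Ptab_s_2324_2447 (c : Nat) : Nat := @Bool.rec (fun _ => Nat) (Ptab_s_2324_2385 c) (Ptab_s_2385_2447 c) (Nat.ble 2385 c)
noncomputable def Ptab_s_2202_2447 (c : Nat) : Nat := @Bool.rec (fun _ => Nat) (Ptab_s_2202_2324 c) (Ptab_s_2324_2447 c) (Nat.ble 2324 c)
noncomputable def Ptab_s_1958_2447 (c : Nat) : Nat := @Bool.rec (fun _ => Nat) (Ptab_s_1958_2202 c) (Ptab_s_2202_2447 c) (Nat.ble 2202 c)
noncomputable def Ptab_s_2448_2450 (c : Nat) : Nat := @Bool.rec (fun _ => Nat) (Ptab_2448) (Ptab_2449) (Nat.ble 2449 c)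
noncomputable def Ptab_s_2447_2450 (c : Nat) : Nat := @Bool.rec (fun _ => Nat) (Ptab_2447) (Ptab_s_2448_2450 c) (Nat.ble 2448 c)
noncomputable def Ptab_s_2450_2452 (c : Nat) : Nat := @Bool.rec (fun _ => Nat) (Ptab_2450) (Ptab_2451) (Nat.ble 2451 c)
noncomputable def Ptab_s_2452_2454 (c : Nat) : Nat := @Bool.rec (fun _ => Nat) (Ptab_2452) (Ptab_2453) (Nat.ble 2453 c)
noncomputable def Ptab_s_2450_2454 (c : Nat) : Nat := @Bool.rec (fun _ => Nat) (Ptab_s_2450_2452 c) (Ptab_s_2452_2454 c) (Nat.ble 2452 c)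
noncomputable def Ptab_s_2447_2454 (c : Nat) : Nat := @Bool.rec (fun _ => Nat) (Ptab_s_2447_2450 c) (Ptab_s_2450_2454 c) (Nat.ble 2450 c)
noncomputable def Ptab_s_2454_2456 (c : Nat) : Nat := @Bool.rec (fun _ => Nat) (Ptab_2454) (Ptab_2455) (Nat.ble 2455 c)
noncomputable def Ptab_s_2456_2458 (c : Nat) : Nat := @Bool.rec (fun _ => Nat) (Ptab_2456) (Ptab_2457) (Nat.ble 2457 c)
noncomputable def Ptab_s_2454_2458 (c : Nat) : Nat := @Bool.rec (fun _ => Nat) (Ptab_s_2454_2456 c) (Ptab_s_2456_2458 c) (Nat.ble 2456 c)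
noncomputable def Ptab_s_2458_2460 (c : Nat) : Nat := @Bool.rec (fun _ => Nat) (Ptab_2458) (Ptab_2459) (Nat.ble 2459 c)
noncomputable def Ptab_s_2460_2462 (c : Nat) : Nat := @Bool.rec (fun _ => Nat) (Ptab_2460) (Ptab_2461) (Nat.ble 2461 c)
noncomputable def Ptab_s_2458_2462 (c : Nat) : Nat := @Bool.rec (fun _ => Nat) (Ptab_s_2458_2460 c) (Ptab_s_2460_2462 c) (Nat.ble 2460 c)
noncomputable def Ptab_s_2454_2462 (c : Nat) : Nat := @Bool.rec (fun _ => Nat) (Ptab_s_2454_2458 c) (Ptab_s_2458_2462 c) (Nat.ble 2458 c)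
noncomputable def Ptab_s_2447_2462 (c : Nat) : Nat := @Bool.rec (fun _ => Nat) (Ptab_s_2447_2454 c) (Ptab_s_2454_2462 c) (Nat.ble 2454 c)
noncomputable def Ptab_s_2463_2465 (c : Nat) : Nat := @Bool.rec (fun _ => Nat) (Ptab_2463) (Ptab_2464) (Nat.ble 2464 c)
noncomputable def Ptab_s_2462_2465 (c : Nat) : Nat := @Bool.rec (fun _ => Nat) (Ptab_2462) (Ptab_s_2463_2465 c) (Nat.ble 2463 c)
noncomputable def Ptab_s_2465_2467 (c : Nat) : Nat := @Bool.rec (fun _ => Nat) (Ptab_2465) (Ptab_2466) (Nat.ble 2466 c)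
noncomputable def Ptab_s_2467_2469 (c : Nat) : Nat := @Bool.rec (fun _ => Nat) (Ptab_2467) (Ptab_2468) (Nat.ble 2468 c)
noncomputable def Ptab_s_2465_2469 (c : Nat) : Nat := @Bool.rec (fun _ => Nat) (Ptab_s_2465_2467 c) (Ptab_s_2467_2469 c) (Nat.ble 2467 c)
noncomputable def Ptab_s_2462_2469 (c : Nat) : Nat := @Bool.rec (fun _ => Nat) (Ptab_s_2462_2465 c) (Ptab_s_2465_2469 c) (Nat.ble 2465 c)
noncomputable def Ptab_s_2469_2471 (c : Nat) : Nat := @Bool.rec (fun _ => Nat) (Ptab_2469) (Ptab_2470) (Nat.ble 2470 c)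
noncomputable def Ptab_s_2471_2473 (c : Nat) : Nat := @Bool.rec (fun _ => Nat) (Ptab_2471) (Ptab_2472) (Nat.ble 2472 c)
noncomputable def Ptab_s_2469_2473 (c : Nat) : Nat := @Bool.rec (fun _ => Nat) (Ptab_s_2469_2471 c) (Ptab_s_2471_2473 c) (Nat.ble 2471 c)
noncomputable def Ptab_s_2473_2475 (c : Nat) : Nat := @Bool.rec (fun _ => Nat) (Ptab_2473) (Ptab_2474) (Nat.ble 2474 c)
noncomputable def Ptab_s_2475_2477 (c : Nat) : Nat := @Bool.rec (fun _ => Nat) (Ptab_2475) (Ptab_2476) (Nat.ble 2476 c)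
noncomputable def Ptab_s_2473_2477 (c : Nat) : Nat := @Bool.rec (fun _ => Nat) (Ptab_s_2473_2475 c) (Ptab_s_2475_2477 c) (Nat.ble 2475 c)
noncomputable def Ptab_s_2469_2477 (c : Nat) : Nat := @Bool.rec (fun _ => Nat) (Ptab_s_2469_2473 c) (Ptab_s_2473_2477 c) (Nat.ble 2473 c)
noncomputable def Ptab_s_2462_2477 (c : Nat) : Nat := @Bool.rec (fun _ => Nat) (Ptab_s_2462_2469 c) (Ptab_s_2469_2477 c) (Nat.ble 2469 c)
noncomputable def Ptab_s_2447_2477 (c : Nat) : Nat := @Bool.rec (fun _ => Nat) (Ptab_s_2447_2462 c) (Ptab_s_2462_2477 c) (Nat.ble 2462 c)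
noncomputable def Ptab_s_2478_2480 (c : Nat) : Nat := @Bool.rec (fun _ => Nat) (Ptab_2478) (Ptab_2479) (Nat.ble 2479 c)
noncomputable def Ptab_s_2477_2480 (c : Nat) : Nat := @Bool.rec (fun _ => Nat) (Ptab_2477) (Ptab_s_2478_2480 c) (Nat.ble 2478 c)
noncomputable def Ptab_s_2480_2482 (c : Nat) : Nat := @Bool.rec (fun _ => Nat) (Ptab_2480) (Ptab_2481) (Nat.ble 2481 c)
noncomputable def Ptab_s_2482_2484 (c : Nat) : Nat := @Bool.rec (fun _ => Nat) (Ptab_2482) (Ptab_2483) (Nat.ble 2483 c)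
noncomputable def Ptab_s_2480_2484 (c : Nat) : Nat := @Bool.rec (fun _ => Nat) (Ptab_s_2480_2482 c) (Ptab_s_2482_2484 c) (Nat.ble 2482 c)
noncomputable def Ptab_s_2477_2484 (c : Nat) : Nat := @Bool.rec (fun _ => Nat) (Ptab_s_2477_2480 c) (Ptab_s_2480_2484 c) (Nat.ble 2480 c)
noncomputable def Ptab_s_2484_2486 (c : Nat) : Nat := @Bool.rec (fun _ => Nat) (Ptab_2484) (Ptab_2485) (Nat.ble 2485 c)
noncomputable def Ptab_s_2486_2488 (c : Nat) : Nat := @Bool.rec (fun _ => Nat) (Ptab_2486) (Ptab_2487) (Nat.ble 2487 c)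
noncomputable def Ptab_s_2484_2488 (c : Nat) : Nat := @Bool.rec (fun _ => Nat) (Ptab_s_2484_2486 c) (Ptab_s_2486_2488 c) (Nat.ble 2486 c)
noncomputable def Ptab_s_2488_2490 (c : Nat) : Nat := @Bool.rec (fun _ => Nat) (Ptab_2488) (Ptab_2489) (Nat.ble 2489 c)
noncomputable def Ptab_s_2490_2492 (c : Nat) : Nat := @Bool.rec (fun _ => Nat) (Ptab_2490) (Ptab_2491) (Nat.ble 2491 c)
noncomputable def Ptab_s_2488_2492 (c : Nat) : Nat := @Bool.rec (fun _ => Nat) (Ptab_s_2488_2490 c) (Ptab_s_2490_2492 c) (Nat.ble 2490 c)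
noncomputable def Ptab_s_2484_2492 (c : Nat) : Nat := @Bool.rec (fun _ => Nat) (Ptab_s_2484_2488 c) (Ptab_s_2488_2492 c) (Nat.ble 2488 c)
noncomputable def Ptab_s_2477_2492 (c : Nat) : Nat := @Bool.rec (fun _ => Nat) (Ptab_s_2477_2484 c) (Ptab_s_2484_2492 c) (Nat.ble 2484 c)
noncomputable def Ptab_s_2492_2494 (c : Nat) : Nat := @Bool.rec (fun _ => Nat) (Ptab_2492) (Ptab_2493) (Nat.ble 2493 c)
noncomputable def Ptab_s_2494_2496 (c : Nat) : Nat := @Bool.rec (fun _ => Nat) (Ptab_2494) (Ptab_2495) (Nat.ble 2495 c)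
noncomputable def Ptab_s_2492_2496 (c : Nat) : Nat := @Bool.rec (fun _ => Nat) (Ptab_s_2492_2494 c) (Ptab_s_2494_2496 c) (Nat.ble 2494 c)
noncomputable def Ptab_s_2496_2498 (c : Nat) : Nat := @Bool.rec (fun _ => Nat) (Ptab_2496) (Ptab_2497) (Nat.ble 2497 c)
noncomputable def Ptab_s_2498_2500 (c : Nat) : Nat := @Bool.rec (fun _ => Nat) (Ptab_2498) (Ptab_2499) (Nat.ble 2499 c)
noncomputable def Ptab_s_2496_2500 (c : Nat) : Nat := @Bool.rec (fun _ => Nat) (Ptab_s_2496_2498 c) (Ptab_s_2498_2500 c) (Nat.ble 2498 c)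
noncomputable def Ptab_s_2492_2500 (c : Nat) : Nat := @Bool.rec (fun _ => Nat) (Ptab_s_2492_2496 c) (Ptab_s_2496_2500 c) (Nat.ble 2496 c)
noncomputable def Ptab_s_2500_2502 (c : Nat) : Nat := @Bool.rec (fun _ => Nat) (Ptab_2500) (Ptab_2501) (Nat.ble 2501 c)
noncomputable def Ptab_s_2502_2504 (c : Nat) : Nat := @Bool.rec (fun _ => Nat) (Ptab_2502) (Ptab_2503) (Nat.ble 2503 c)
noncomputable def Ptab_s_2500_2504 (c : Nat) : Nat := @Bool.rec (fun _ => Nat) (Ptab_s_2500_2502 c) (Ptab_s_2502_2504 c) (Nat.ble 2502 c)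
noncomputable def Ptab_s_2504_2506 (c : Nat) : Nat := @Bool.rec (fun _ => Nat) (Ptab_2504) (Ptab_2505) (Nat.ble 2505 c)
noncomputable def Ptab_s_2506_2508 (c : Nat) : Nat := @Bool.rec (fun _ => Nat) (Ptab_2506) (Ptab_2507) (Nat.ble 2507 c)
noncomputable def Ptab_s_2504_2508 (c : Nat) : Nat := @Bool.rec (fun _ => Nat) (Ptab_s_2504_2506 c) (Ptab_s_2506_2508 c) (Nat.ble 2506 c)
noncomputable def Ptab_s_2500_2508 (c : Nat) : Nat := @Bool.rec (fun _ => Nat) (Ptab_s_2500_2504 c) (Ptab_s_2504_2508 c) (Nat.ble 2504 c)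
noncomputable def Ptab_s_2492_2508 (c : Nat) : Nat := @Bool.rec (fun _ => Nat) (Ptab_s_2492_2500 c) (Ptab_s_2500_2508 c) (Nat.ble 2500 c)
noncomputable def Ptab_s_2477_2508 (c : Nat) : Nat := @Bool.rec (fun _ => Nat) (Ptab_s_2477_2492 c) (Ptab_s_2492_2508 c) (Nat.ble 2492 c)
noncomputable def Ptab_s_2447_2508 (c : Nat) : Nat := @Bool.rec (fun _ => Nat) (Ptab_s_2447_2477 c) (Ptab_s_2477_2508 c) (Nat.ble 2477 c)
noncomputable def Ptab_s_2509_2511 (c : Nat) : Nat := @Bool.rec (fun _ => Nat) (Ptab_2509) (Ptab_2510) (Nat.ble 2510 c)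
noncomputable def Ptab_s_2508_2511 (c : Nat) : Nat := @Bool.rec (fun _ => Nat) (Ptab_2508) (Ptab_s_2509_2511 c) (Nat.ble 2509 c)
noncomputable def Ptab_s_2511_2513 (c : Nat) : Nat := @Bool.rec (fun _ => Nat) (Ptab_2511) (Ptab_2512) (Nat.ble 2512 c)
noncomputable def Ptab_s_2513_2515 (c : Nat) : Nat := @Bool.rec (fun _ => Nat) (Ptab_2513) (Ptab_2514) (Nat.ble 2514 c)
noncomputable def Ptab_s_2511_2515 (c : Nat) : Nat := @Bool.rec (fun _ => Nat) (Ptab_s_2511_2513 c) (Ptab_s_2513_2515 c) (Nat.ble 2513 c)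
noncomputable def Ptab_s_2508_2515 (c : Nat) : Nat := @Bool.rec (fun _ => Nat) (Ptab_s_2508_2511 c) (Ptab_s_2511_2515 c) (Nat.ble 2511 c)
noncomputable def Ptab_s_2515_2517 (c : Nat) : Nat := @Bool.rec (fun _ => Nat) (Ptab_2515) (Ptab_2516) (Nat.ble 2516 c)
noncomputable def Ptab_s_2517_2519 (c : Nat) : Nat := @Bool.rec (fun _ => Nat) (Ptab_2517) (Ptab_2518) (Nat.ble 2518 c)
noncomputable def Ptab_s_2515_2519 (c : Nat) : Nat := @Bool.rec (fun _ => Nat) (Ptab_s_2515_2517 c) (Ptab_s_2517_2519 c) (Nat.ble 2517 c)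
noncomputable def Ptab_s_2519_2521 (c : Nat) : Nat := @Bool.rec (fun _ => Nat) (Ptab_2519) (Ptab_2520) (Nat.ble 2520 c)
noncomputable def Ptab_s_2521_2523 (c : Nat) : Nat := @Bool.rec (fun _ => Nat) (Ptab_2521) (Ptab_2522) (Nat.ble 2522 c)
noncomputable def Ptab_s_2519_2523 (c : Nat) : Nat := @Bool.rec (fun _ => Nat) (Ptab_s_2519_2521 c) (Ptab_s_2521_2523 c) (Nat.ble 2521 c)
noncomputable def Ptab_s_2515_2523 (c : Nat) : Nat := @Bool.rec (fun _ => Nat) (Ptab_s_2515_2519 c) (Ptab_s_2519_2523 c) (Nat.ble 2519 c)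
noncomputable def Ptab_s_2508_2523 (c : Nat) : Nat := @Bool.rec (fun _ => Nat) (Ptab_s_2508_2515 c) (Ptab_s_2515_2523 c) (Nat.ble 2515 c)
noncomputable def Ptab_s_2524_2526 (c : Nat) : Nat := @Bool.rec (fun _ => Nat) (Ptab_2524) (Ptab_2525) (Nat.ble 2525 c)
noncomputable def Ptab_s_2523_2526 (c : Nat) : Nat := @Bool.rec (fun _ => Nat) (Ptab_2523) (Ptab_s_2524_2526 c) (Nat.ble 2524 c)
noncomputable def Ptab_s_2526_2528 (c : Nat) : Nat := @Bool.rec (fun _ => Nat) (Ptab_2526) (Ptab_2527) (Nat.ble 2527 c)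
noncomputable def Ptab_s_2528_2530 (c : Nat) : Nat := @Bool.rec (fun _ => Nat) (Ptab_2528) (Ptab_2529) (Nat.ble 2529 c)
noncomputable def Ptab_s_2526_2530 (c : Nat) : Nat := @Bool.rec (fun _ => Nat) (Ptab_s_2526_2528 c) (Ptab_s_2528_2530 c) (Nat.ble 2528 c)
noncomputable def Ptab_s_2523_2530 (c : Nat) : Nat := @Bool.rec (fun _ => Nat) (Ptab_s_2523_2526 c) (Ptab_s_2526_2530 c) (Nat.ble 2526 c)
noncomputable def Ptab_s_2530_2532 (c : Nat) : Nat := @Bool.rec (fun _ => Nat) (Ptab_2530) (Ptab_2531) (Nat.ble 2531 c)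
noncomputable def Ptab_s_2532_2534 (c : Nat) : Nat := @Bool.rec (fun _ => Nat) (Ptab_2532) (Ptab_2533) (Nat.ble 2533 c)
noncomputable def Ptab_s_2530_2534 (c : Nat) : Nat := @Bool.rec (fun _ => Nat) (Ptab_s_2530_2532 c) (Ptab_s_2532_2534 c) (Nat.ble 2532 c)
noncomputable def Ptab_s_2534_2536 (c : Nat) : Nat := @Bool.rec (fun _ => Nat) (Ptab_2534) (Ptab_2535) (Nat.ble 2535 c)
noncomputable def Ptab_s_2536_2538 (c : Nat) : Nat := @Bool.rec (fun _ => Nat) (Ptab_2536) (Ptab_2537) (Nat.ble 2537 c)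
noncomputable def Ptab_s_2534_2538 (c : Nat) : Nat := @Bool.rec (fun _ => Nat) (Ptab_s_2534_2536 c) (Ptab_s_2536_2538 c) (Nat.ble 2536 c)
noncomputable def Ptab_s_2530_2538 (c : Nat) : Nat := @Bool.rec (fun _ => Nat) (Ptab_s_2530_2534 c) (Ptab_s_2534_2538 c) (Nat.ble 2534 c)
noncomputable def Ptab_s_2523_2538 (c : Nat) : Nat := @Bool.rec (fun _ => Nat) (Ptab_s_2523_2530 c) (Ptab_s_2530_2538 c) (Nat.ble 2530 c)
noncomputable def Ptab_s_2508_2538 (c : Nat) : Nat := @Bool.rec (fun _ => Nat) (Ptab_s_2508_2523 c) (Ptab_s_2523_2538 c) (Nat.ble 2523 c)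
noncomputable def Ptab_s_2539_2541 (c : Nat) : Nat := @Bool.rec (fun _ => Nat) (Ptab_2539) (Ptab_2540) (Nat.ble 2540 c)
noncomputable def Ptab_s_2538_2541 (c : Nat) : Nat := @Bool.rec (fun _ => Nat) (Ptab_2538) (Ptab_s_2539_2541 c) (Nat.ble 2539 c)
noncomputable def Ptab_s_2541_2543 (c : Nat) : Nat := @Bool.rec (fun _ => Nat) (Ptab_2541) (Ptab_2542) (Nat.ble 2542 c)
noncomputable def Ptab_s_2543_2545 (c : Nat) : Nat := @Bool.rec (fun _ => Nat) (Ptab_2543) (Ptab_2544) (Nat.ble 2544 c)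
noncomputable def Ptab_s_2541_2545 (c : Nat) : Nat := @Bool.rec (fun _ => Nat) (Ptab_s_2541_2543 c) (Ptab_s_2543_2545 c) (Nat.ble 2543 c)
noncomputable def Ptab_s_2538_2545 (c : Nat) : Nat := @Bool.rec (fun _ => Nat) (Ptab_s_2538_2541 c) (Ptab_s_2541_2545 c) (Nat.ble 2541 c)
noncomputable def Ptab_s_2545_2547 (c : Nat) : Nat := @Bool.rec (fun _ => Nat) (Ptab_2545) (Ptab_2546) (Nat.ble 2546 c)
noncomputable def Ptab_s_2547_2549 (c : Nat) : Nat := @Bool.rec (fun _ => Nat) (Ptab_2547) (Ptab_2548) (Nat.ble 2548 c)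
noncomputable def Ptab_s_2545_2549 (c : Nat) : Nat := @Bool.rec (fun _ => Nat) (Ptab_s_2545_2547 c) (Ptab_s_2547_2549 c) (Nat.ble 2547 c)
noncomputable def Ptab_s_2549_2551 (c : Nat) : Nat := @Bool.rec (fun _ => Nat) (Ptab_2549) (Ptab_2550) (Nat.ble 2550 c)
noncomputable def Ptab_s_2551_2553 (c : Nat) : Nat := @Bool.rec (fun _ => Nat) (Ptab_2551) (Ptab_2552) (Nat.ble 2552 c)
noncomputable def Ptab_s_2549_2553 (c : Nat) : Nat := @Bool.rec (fun _ => Nat) (Ptab_s_2549_2551 c) (Ptab_s_2551_2553 c) (Nat.ble 2551 c)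
noncomputable def Ptab_s_2545_2553 (c : Nat) : Nat := @Bool.rec (fun _ => Nat) (Ptab_s_2545_2549 c) (Ptab_s_2549_2553 c) (Nat.ble 2549 c)
noncomputable def Ptab_s_2538_2553 (c : Nat) : Nat := @Bool.rec (fun _ => Nat) (Ptab_s_2538_2545 c) (Ptab_s_2545_2553 c) (Nat.ble 2545 c)
noncomputable def Ptab_s_2553_2555 (c : Nat) : Nat := @Bool.rec (fun _ => Nat) (Ptab_2553) (Ptab_2554) (Nat.ble 2554 c)
noncomputable def Ptab_s_2555_2557 (c : Nat) : Nat := @Bool.rec (fun _ => Nat) (Ptab_2555) (Ptab_2556) (Nat.ble 2556 c)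
noncomputable def Ptab_s_2553_2557 (c : Nat) : Nat := @Bool.rec (fun _ => Nat) (Ptab_s_2553_2555 c) (Ptab_s_2555_2557 c) (Nat.ble 2555 c)
noncomputable def Ptab_s_2557_2559 (c : Nat) : Nat := @Bool.rec (fun _ => Nat) (Ptab_2557) (Ptab_2558) (Nat.ble 2558 c)
noncomputable def Ptab_s_2559_2561 (c : Nat) : Nat := @Bool.rec (fun _ => Nat) (Ptab_2559) (Ptab_2560) (Nat.ble 2560 c)
noncomputable def Ptab_s_2557_2561 (c : Nat) : Nat := @Bool.rec (fun _ => Nat) (Ptab_s_2557_2559 c) (Ptab_s_2559_2561 c) (Nat.ble 2559 c)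
noncomputable def Ptab_s_2553_2561 (c : Nat) : Nat := @Bool.rec (fun _ => Nat) (Ptab_s_2553_2557 c) (Ptab_s_2557_2561 c) (Nat.ble 2557 c)
noncomputable def Ptab_s_2561_2563 (c : Nat) : Nat := @Bool.rec (fun _ => Nat) (Ptab_2561) (Ptab_2562) (Nat.ble 2562 c)
noncomputable def Ptab_s_2563_2565 (c : Nat) : Nat := @Bool.rec (fun _ => Nat) (Ptab_2563) (Ptab_2564) (Nat.ble 2564 c)
noncomputable def Ptab_s_2561_2565 (c : Nat) : Nat := @Bool.rec (fun _ => Nat) (Ptab_s_2561_2563 c) (Ptab_s_2563_2565 c) (Nat.ble 2563 c)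
noncomputable def Ptab_s_2565_2567 (c : Nat) : Nat := @Bool.rec (fun _ => Nat) (Ptab_2565) (Ptab_2566) (Nat.ble 2566 c)
noncomputable def Ptab_s_2567_2569 (c : Nat) : Nat := @Bool.rec (fun _ => Nat) (Ptab_2567) (Ptab_2568) (Nat.ble 2568 c)
noncomputable def Ptab_s_2565_2569 (c : Nat) : Nat := @Bool.rec (fun _ => Nat) (Ptab_s_2565_2567 c) (Ptab_s_2567_2569 c) (Nat.ble 2567 c)
noncomputable def Ptab_s_2561_2569 (c : Nat) : Nat := @Bool.rec (fun _ => Nat) (Ptab_s_2561_2565 c) (Ptab_s_2565_2569 c) (Nat.ble 2565 c)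
noncomputable def Ptab_s_2553_2569 (c : Nat) : Nat := @Bool.rec (fun _ => Nat) (Ptab_s_2553_2561 c) (Ptab_s_2561_2569 c) (Nat.ble 2561 c)
noncomputable def Ptab_s_2538_2569 (c : Nat) : Nat := @Bool.rec (fun _ => Nat) (Ptab_s_2538_2553 c) (Ptab_s_2553_2569 c) (Nat.ble 2553 c)
noncomputable def Ptab_s_2508_2569 (c : Nat) : Nat := @Bool.rec (fun _ => Nat) (Ptab_s_2508_2538 c) (Ptab_s_2538_2569 c) (Nat.ble 2538 c)
noncomputable def Ptab_s_2447_2569 (c : Nat) : Nat := @Bool.rec (fun _ => Nat) (Ptab_s_2447_2508 c) (Ptab_s_2508_2569 c) (Nat.ble 2508 c)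
noncomputable def Ptab_s_2570_2572 (c : Nat) : Nat := @Bool.rec (fun _ => Nat) (Ptab_2570) (Ptab_2571) (Nat.ble 2571 c)
noncomputable def Ptab_s_2569_2572 (c : Nat) : Nat := @Bool.rec (fun _ => Nat) (Ptab_2569) (Ptab_s_2570_2572 c) (Nat.ble 2570 c)
noncomputable def Ptab_s_2572_2574 (c : Nat) : Nat := @Bool.rec (fun _ => Nat) (Ptab_2572) (Ptab_2573) (Nat.ble 2573 c)
noncomputable def Ptab_s_2574_2576 (c : Nat) : Nat := @Bool.rec (fun _ => Nat) (Ptab_2574) (Ptab_2575) (Nat.ble 2575 c)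
noncomputable def Ptab_s_2572_2576 (c : Nat) : Nat := @Bool.rec (fun _ => Nat) (Ptab_s_2572_2574 c) (Ptab_s_2574_2576 c) (Nat.ble 2574 c)
noncomputable def Ptab_s_2569_2576 (c : Nat) : Nat := @Bool.rec (fun _ => Nat) (Ptab_s_2569_2572 c) (Ptab_s_2572_2576 c) (Nat.ble 2572 c)
noncomputable def Ptab_s_2576_2578 (c : Nat) : Nat := @Bool.rec (fun _ => Nat) (Ptab_2576) (Ptab_2577) (Nat.ble 2577 c)
noncomputable def Ptab_s_2578_2580 (c : Nat) : Nat := @Bool.rec (fun _ => Nat) (Ptab_2578) (Ptab_2579) (Nat.ble 2579 c)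
noncomputable def Ptab_s_2576_2580 (c : Nat) : Nat := @Bool.rec (fun _ => Nat) (Ptab_s_2576_2578 c) (Ptab_s_2578_2580 c) (Nat.ble 2578 c)
noncomputable def Ptab_s_2580_2582 (c : Nat) : Nat := @Bool.rec (fun _ => Nat) (Ptab_2580) (Ptab_2581) (Nat.ble 2581 c)
noncomputable def Ptab_s_2582_2584 (c : Nat) : Nat := @Bool.rec (fun _ => Nat) (Ptab_2582) (Ptab_2583) (Nat.ble 2583 c)
noncomputable def Ptab_s_2580_2584 (c : Nat) : Nat := @Bool.rec (fun _ => Nat) (Ptab_s_2580_2582 c) (Ptab_s_2582_2584 c) (Nat.ble 2582 c)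
noncomputable def Ptab_s_2576_2584 (c : Nat) : Nat := @Bool.rec (fun _ => Nat) (Ptab_s_2576_2580 c) (Ptab_s_2580_2584 c) (Nat.ble 2580 c)
noncomputable def Ptab_s_2569_2584 (c : Nat) : Nat := @Bool.rec (fun _ => Nat) (Ptab_s_2569_2576 c) (Ptab_s_2576_2584 c) (Nat.ble 2576 c)
noncomputable def Ptab_s_2585_2587 (c : Nat) : Nat := @Bool.rec (fun _ => Nat) (Ptab_2585) (Ptab_2586) (Nat.ble 2586 c)
noncomputable def Ptab_s_2584_2587 (c : Nat) : Nat := @Bool.rec (fun _ => Nat) (Ptab_2584) (Ptab_s_2585_2587 c) (Nat.ble 2585 c)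
noncomputable def Ptab_s_2587_2589 (c : Nat) : Nat := @Bool.rec (fun _ => Nat) (Ptab_2587) (Ptab_2588) (Nat.ble 2588 c)
noncomputable def Ptab_s_2589_2591 (c : Nat) : Nat := @Bool.rec (fun _ => Nat) (Ptab_2589) (Ptab_2590) (Nat.ble 2590 c)
noncomputable def Ptab_s_2587_2591 (c : Nat) : Nat := @Bool.rec (fun _ => Nat) (Ptab_s_2587_2589 c) (Ptab_s_2589_2591 c) (Nat.ble 2589 c)
noncomputable def Ptab_s_2584_2591 (c : Nat) : Nat := @Bool.rec (fun _ => Nat) (Ptab_s_2584_2587 c) (Ptab_s_2587_2591 c) (Nat.ble 2587 c)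
noncomputable def Ptab_s_2591_2593 (c : Nat) : Nat := @Bool.rec (fun _ => Nat) (Ptab_2591) (Ptab_2592) (Nat.ble 2592 c)
noncomputable def Ptab_s_2593_2595 (c : Nat) : Nat := @Bool.rec (fun _ => Nat) (Ptab_2593) (Ptab_2594) (Nat.ble 2594 c)
noncomputable def Ptab_s_2591_2595 (c : Nat) : Nat := @Bool.rec (fun _ => Nat) (Ptab_s_2591_2593 c) (Ptab_s_2593_2595 c) (Nat.ble 2593 c)
noncomputable def Ptab_s_2595_2597 (c : Nat) : Nat := @Bool.rec (fun _ => Nat) (Ptab_2595) (Ptab_2596) (Nat.ble 2596 c)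
noncomputable def Ptab_s_2597_2599 (c : Nat) : Nat := @Bool.rec (fun _ => Nat) (Ptab_2597) (Ptab_2598) (Nat.ble 2598 c)
noncomputable def Ptab_s_2595_2599 (c : Nat) : Nat := @Bool.rec (fun _ => Nat) (Ptab_s_2595_2597 c) (Ptab_s_2597_2599 c) (Nat.ble 2597 c)
noncomputable def Ptab_s_2591_2599 (c : Nat) : Nat := @Bool.rec (fun _ => Nat) (Ptab_s_2591_2595 c) (Ptab_s_2595_2599 c) (Nat.ble 2595 c)
noncomputable def Ptab_s_2584_2599 (c : Nat) : Nat := @Bool.rec (fun _ => Nat) (Ptab_s_2584_2591 c) (Ptab_s_2591_2599 c) (Nat.ble 2591 c)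
noncomputable def Ptab_s_2569_2599 (c : Nat) : Nat := @Bool.rec (fun _ => Nat) (Ptab_s_2569_2584 c) (Ptab_s_2584_2599 c) (Nat.ble 2584 c)
noncomputable def Ptab_s_2600_2602 (c : Nat) : Nat := @Bool.rec (fun _ => Nat) (Ptab_2600) (Ptab_2601) (Nat.ble 2601 c)
noncomputable def Ptab_s_2599_2602 (c : Nat) : Nat := @Bool.rec (fun _ => Nat) (Ptab_2599) (Ptab_s_2600_2602 c) (Nat.ble 2600 c)
noncomputable def Ptab_s_2602_2604 (c : Nat) : Nat := @Bool.rec (fun _ => Nat) (Ptab_2602) (Ptab_2603) (Nat.ble 2603 c)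
noncomputable def Ptab_s_2604_2606 (c : Nat) : Nat := @Bool.rec (fun _ => Nat) (Ptab_2604) (Ptab_2605) (Nat.ble 2605 c)
noncomputable def Ptab_s_2602_2606 (c : Nat) : Nat := @Bool.rec (fun _ => Nat) (Ptab_s_2602_2604 c) (Ptab_s_2604_2606 c) (Nat.ble 2604 c)
noncomputable def Ptab_s_2599_2606 (c : Nat) : Nat := @Bool.rec (fun _ => Nat) (Ptab_s_2599_2602 c) (Ptab_s_2602_2606 c) (Nat.ble 2602 c)
noncomputable def Ptab_s_2606_2608 (c : Nat) : Nat := @Bool.rec (fun _ => Nat) (Ptab_2606) (Ptab_2607) (Nat.ble 2607 c)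
noncomputable def Ptab_s_2608_2610 (c : Nat) : Nat := @Bool.rec (fun _ => Nat) (Ptab_2608) (Ptab_2609) (Nat.ble 2609 c)
noncomputable def Ptab_s_2606_2610 (c : Nat) : Nat := @Bool.rec (fun _ => Nat) (Ptab_s_2606_2608 c) (Ptab_s_2608_2610 c) (Nat.ble 2608 c)
noncomputable def Ptab_s_2610_2612 (c : Nat) : Nat := @Bool.rec (fun _ => Nat) (Ptab_2610) (Ptab_2611) (Nat.ble 2611 c)
noncomputable def Ptab_s_2612_2614 (c : Nat) : Nat := @Bool.rec (fun _ => Nat) (Ptab_2612) (Ptab_2613) (Nat.ble 2613 c)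
noncomputable def Ptab_s_2610_2614 (c : Nat) : Nat := @Bool.rec (fun _ => Nat) (Ptab_s_2610_2612 c) (Ptab_s_2612_2614 c) (Nat.ble 2612 c)
noncomputable def Ptab_s_2606_2614 (c : Nat) : Nat := @Bool.rec (fun _ => Nat) (Ptab_s_2606_2610 c) (Ptab_s_2610_2614 c) (Nat.ble 2610 c)
noncomputable def Ptab_s_2599_2614 (c : Nat) : Nat := @Bool.rec (fun _ => Nat) (Ptab_s_2599_2606 c) (Ptab_s_2606_2614 c) (Nat.ble 2606 c)
noncomputable def Ptab_s_2614_2616 (c : Nat) : Nat := @Bool.rec (fun _ => Nat) (Ptab_2614) (Ptab_2615) (Nat.ble 2615 c)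
noncomputable def Ptab_s_2616_2618 (c : Nat) : Nat := @Bool.rec (fun _ => Nat) (Ptab_2616) (Ptab_2617) (Nat.ble 2617 c)
noncomputable def Ptab_s_2614_2618 (c : Nat) : Nat := @Bool.rec (fun _ => Nat) (Ptab_s_2614_2616 c) (Ptab_s_2616_2618 c) (Nat.ble 2616 c)
noncomputable def Ptab_s_2618_2620 (c : Nat) : Nat := @Bool.rec (fun _ => Nat) (Ptab_2618) (Ptab_2619) (Nat.ble 2619 c)
noncomputable def Ptab_s_2620_2622 (c : Nat) : Nat := @Bool.rec (fun _ => Nat) (Ptab_2620) (Ptab_2621) (Nat.ble 2621 c)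
noncomputable def Ptab_s_2618_2622 (c : Nat) : Nat := @Bool.rec (fun _ => Nat) (Ptab_s_2618_2620 c) (Ptab_s_2620_2622 c) (Nat.ble 2620 c)
noncomputable def Ptab_s_2614_2622 (c : Nat) : Nat := @Bool.rec (fun _ => Nat) (Ptab_s_2614_2618 c) (Ptab_s_2618_2622 c) (Nat.ble 2618 c)
noncomputable def Ptab_s_2622_2624 (c : Nat) : Nat := @Bool.rec (fun _ => Nat) (Ptab_2622) (Ptab_2623) (Nat.ble 2623 c)
noncomputable def Ptab_s_2624_2626 (c : Nat) : Nat := @Bool.rec (fun _ => Nat) (Ptab_2624) (Ptab_2625) (Nat.ble 2625 c)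
noncomputable def Ptab_s_2622_2626 (c : Nat) : Nat := @Bool.rec (fun _ => Nat) (Ptab_s_2622_2624 c) (Ptab_s_2624_2626 c) (Nat.ble 2624 c)
noncomputable def Ptab_s_2626_2628 (c : Nat) : Nat := @Bool.rec (fun _ => Nat) (Ptab_2626) (Ptab_2627) (Nat.ble 2627 c)
noncomputable def Ptab_s_2628_2630 (c : Nat) : Nat := @Bool.rec (fun _ => Nat) (Ptab_2628) (Ptab_2629) (Nat.ble 2629 c)
noncomputable def Ptab_s_2626_2630 (c : Nat) : Nat := @Bool.rec (fun _ => Nat) (Ptab_s_2626_2628 c) (Ptab_s_2628_2630 c) (Nat.ble 2628 c)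
noncomputable def Ptab_s_2622_2630 (c : Nat) : Nat := @Bool.rec (fun _ => Nat) (Ptab_s_2622_2626 c) (Ptab_s_2626_2630 c) (Nat.ble 2626 c)
noncomputable def Ptab_s_2614_2630 (c : Nat) : Nat := @Bool.rec (fun _ => Nat) (Ptab_s_2614_2622 c) (Ptab_s_2622_2630 c) (Nat.ble 2622 c)
noncomputable def Ptab_s_2599_2630 (c : Nat) : Nat := @Bool.rec (fun _ => Nat) (Ptab_s_2599_2614 c) (Ptab_s_2614_2630 c) (Nat.ble 2614 c)
noncomputable def Ptab_s_2569_2630 (c : Nat) : Nat := @Bool.rec (fun _ => Nat) (Ptab_s_2569_2599 c) (Ptab_s_2599_2630 c) (Nat.ble 2599 c)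
noncomputable def Ptab_s_2631_2633 (c : Nat) : Nat := @Bool.rec (fun _ => Nat) (Ptab_2631) (Ptab_2632) (Nat.ble 2632 c)
noncomputable def Ptab_s_2630_2633 (c : Nat) : Nat := @Bool.rec (fun _ => Nat) (Ptab_2630) (Ptab_s_2631_2633 c) (Nat.ble 2631 c)
noncomputable def Ptab_s_2633_2635 (c : Nat) : Nat := @Bool.rec (fun _ => Nat) (Ptab_2633) (Ptab_2634) (Nat.ble 2634 c)
noncomputable def Ptab_s_2635_2637 (c : Nat) : Nat := @Bool.rec (fun _ => Nat) (Ptab_2635) (Ptab_2636) (Nat.ble 2636 c)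
noncomputable def Ptab_s_2633_2637 (c : Nat) : Nat := @Bool.rec (fun _ => Nat) (Ptab_s_2633_2635 c) (Ptab_s_2635_2637 c) (Nat.ble 2635 c)
noncomputable def Ptab_s_2630_2637 (c : Nat) : Nat := @Bool.rec (fun _ => Nat) (Ptab_s_2630_2633 c) (Ptab_s_2633_2637 c) (Nat.ble 2633 c)
noncomputable def Ptab_s_2637_2639 (c : Nat) : Nat := @Bool.rec (fun _ => Nat) (Ptab_2637) (Ptab_2638) (Nat.ble 2638 c)
noncomputable def Ptab_s_2639_2641 (c : Nat) : Nat := @Bool.rec (fun _ => Nat) (Ptab_2639) (Ptab_2640) (Nat.ble 2640 c)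
noncomputable def Ptab_s_2637_2641 (c : Nat) : Nat := @Bool.rec (fun _ => Nat) (Ptab_s_2637_2639 c) (Ptab_s_2639_2641 c) (Nat.ble 2639 c)
noncomputable def Ptab_s_2641_2643 (c : Nat) : Nat := @Bool.rec (fun _ => Nat) (Ptab_2641) (Ptab_2642) (Nat.ble 2642 c)
noncomputable def Ptab_s_2643_2645 (c : Nat) : Nat := @Bool.rec (fun _ => Nat) (Ptab_2643) (Ptab_2644) (Nat.ble 2644 c)
noncomputable def Ptab_s_2641_2645 (c : Nat) : Nat := @Bool.rec (fun _ => Nat) (Ptab_s_2641_2643 c) (Ptab_s_2643_2645 c) (Nat.ble 2643 c)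
noncomputable def Ptab_s_2637_2645 (c : Nat) : Nat := @Bool.rec (fun _ => Nat) (Ptab_s_2637_2641 c) (Ptab_s_2641_2645 c) (Nat.ble 2641 c)
noncomputable def Ptab_s_2630_2645 (c : Nat) : Nat := @Bool.rec (fun _ => Nat) (Ptab_s_2630_2637 c) (Ptab_s_2637_2645 c) (Nat.ble 2637 c)
noncomputable def Ptab_s_2645_2647 (c : Nat) : Nat := @Bool.rec (fun _ => Nat) (Ptab_2645) (Ptab_2646) (Nat.ble 2646 c)
noncomputable def Ptab_s_2647_2649 (c : Nat) : Nat := @Bool.rec (fun _ => Nat) (Ptab_2647) (Ptab_2648) (Nat.ble 2648 c)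
noncomputable def Ptab_s_2645_2649 (c : Nat) : Nat := @Bool.rec (fun _ => Nat) (Ptab_s_2645_2647 c) (Ptab_s_2647_2649 c) (Nat.ble 2647 c)
noncomputable def Ptab_s_2649_2651 (c : Nat) : Nat := @Bool.rec (fun _ => Nat) (Ptab_2649) (Ptab_2650) (Nat.ble 2650 c)
noncomputable def Ptab_s_2651_2653 (c : Nat) : Nat := @Bool.rec (fun _ => Nat) (Ptab_2651) (Ptab_2652) (Nat.ble 2652 c)
noncomputable def Ptab_s_2649_2653 (c : Nat) : Nat := @Bool.rec (fun _ => Nat) (Ptab_s_2649_2651 c) (Ptab_s_2651_2653 c) (Nat.ble 2651 c)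
noncomputable def Ptab_s_2645_2653 (c : Nat) : Nat := @Bool.rec (fun _ => Nat) (Ptab_s_2645_2649 c) (Ptab_s_2649_2653 c) (Nat.ble 2649 c)
noncomputable def Ptab_s_2653_2655 (c : Nat) : Nat := @Bool.rec (fun _ => Nat) (Ptab_2653) (Ptab_2654) (Nat.ble 2654 c)
noncomputable def Ptab_s_2655_2657 (c : Nat) : Nat := @Bool.rec (fun _ => Nat) (Ptab_2655) (Ptab_2656) (Nat.ble 2656 c)
noncomputable def Ptab_s_2653_2657 (c : Nat) : Nat := @Bool.rec (fun _ => Nat) (Ptab_s_2653_2655 c) (Ptab_s_2655_2657 c) (Nat.ble 2655 c)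
noncomputable def Ptab_s_2657_2659 (c : Nat) : Nat := @Bool.rec (fun _ => Nat) (Ptab_2657) (Ptab_2658) (Nat.ble 2658 c)
noncomputable def Ptab_s_2659_2661 (c : Nat) : Nat := @Bool.rec (fun _ => Nat) (Ptab_2659) (Ptab_2660) (Nat.ble 2660 c)
noncomputable def Ptab_s_2657_2661 (c : Nat) : Nat := @Bool.rec (fun _ => Nat) (Ptab_s_2657_2659 c) (Ptab_s_2659_2661 c) (Nat.ble 2659 c)
noncomputable def Ptab_s_2653_2661 (c : Nat) : Nat := @Bool.rec (fun _ => Nat) (Ptab_s_2653_2657 c) (Ptab_s_2657_2661 c) (Nat.ble 2657 c)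
noncomputable def Ptab_s_2645_2661 (c : Nat) : Nat := @Bool.rec (fun _ => Nat) (Ptab_s_2645_2653 c) (Ptab_s_2653_2661 c) (Nat.ble 2653 c)
noncomputable def Ptab_s_2630_2661 (c : Nat) : Nat := @Bool.rec (fun _ => Nat) (Ptab_s_2630_2645 c) (Ptab_s_2645_2661 c) (Nat.ble 2645 c)
noncomputable def Ptab_s_2662_2664 (c : Nat) : Nat := @Bool.rec (fun _ => Nat) (Ptab_2662) (Ptab_2663) (Nat.ble 2663 c)
noncomputable def Ptab_s_2661_2664 (c : Nat) : Nat := @Bool.rec (fun _ => Nat) (Ptab_2661) (Ptab_s_2662_2664 c) (Nat.ble 2662 c)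
noncomputable def Ptab_s_2664_2666 (c : Nat) : Nat := @Bool.rec (fun _ => Nat) (Ptab_2664) (Ptab_2665) (Nat.ble 2665 c)
noncomputable def Ptab_s_2666_2668 (c : Nat) : Nat := @Bool.rec (fun _ => Nat) (Ptab_2666) (Ptab_2667) (Nat.ble 2667 c)
noncomputable def Ptab_s_2664_2668 (c : Nat) : Nat := @Bool.rec (fun _ => Nat) (Ptab_s_2664_2666 c) (Ptab_s_2666_2668 c) (Nat.ble 2666 c)
noncomputable def Ptab_s_2661_2668 (c : Nat) : Nat := @Bool.rec (fun _ => Nat) (Ptab_s_2661_2664 c) (Ptab_s_2664_2668 c) (Nat.ble 2664 c)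
noncomputable def Ptab_s_2668_2670 (c : Nat) : Nat := @Bool.rec (fun _ => Nat) (Ptab_2668) (Ptab_2669) (Nat.ble 2669 c)
noncomputable def Ptab_s_2670_2672 (c : Nat) : Nat := @Bool.rec (fun _ => Nat) (Ptab_2670) (Ptab_2671) (Nat.ble 2671 c)
noncomputable def Ptab_s_2668_2672 (c : Nat) : Nat := @Bool.rec (fun _ => Nat) (Ptab_s_2668_2670 c) (Ptab_s_2670_2672 c) (Nat.ble 2670 c)
noncomputable def Ptab_s_2672_2674 (c : Nat) : Nat := @Bool.rec (fun _ => Nat) (Ptab_2672) (Ptab_2673) (Nat.ble 2673 c)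
noncomputable def Ptab_s_2674_2676 (c : Nat) : Nat := @Bool.rec (fun _ => Nat) (Ptab_2674) (Ptab_2675) (Nat.ble 2675 c)
noncomputable def Ptab_s_2672_2676 (c : Nat) : Nat := @Bool.rec (fun _ => Nat) (Ptab_s_2672_2674 c) (Ptab_s_2674_2676 c) (Nat.ble 2674 c)
noncomputable def Ptab_s_2668_2676 (c : Nat) : Nat := @Bool.rec (fun _ => Nat) (Ptab_s_2668_2672 c) (Ptab_s_2672_2676 c) (Nat.ble 2672 c)
noncomputable def Ptab_s_2661_2676 (c : Nat) : Nat := @Bool.rec (fun _ => Nat) (Ptab_s_2661_2668 c) (Ptab_s_2668_2676 c) (Nat.ble 2668 c)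
noncomputable def Ptab_s_2676_2678 (c : Nat) : Nat := @Bool.rec (fun _ => Nat) (Ptab_2676) (Ptab_2677) (Nat.ble 2677 c)
noncomputable def Ptab_s_2678_2680 (c : Nat) : Nat := @Bool.rec (fun _ => Nat) (Ptab_2678) (Ptab_2679) (Nat.ble 2679 c)
noncomputable def Ptab_s_2676_2680 (c : Nat) : Nat := @Bool.rec (fun _ => Nat) (Ptab_s_2676_2678 c) (Ptab_s_2678_2680 c) (Nat.ble 2678 c)
noncomputable def Ptab_s_2680_2682 (c : Nat) : Nat := @Bool.rec (fun _ => Nat) (Ptab_2680) (Ptab_2681) (Nat.ble 2681 c)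
noncomputable def Ptab_s_2682_2684 (c : Nat) : Nat := @Bool.rec (fun _ => Nat) (Ptab_2682) (Ptab_2683) (Nat.ble 2683 c)
noncomputable def Ptab_s_2680_2684 (c : Nat) : Nat := @Bool.rec (fun _ => Nat) (Ptab_s_2680_2682 c) (Ptab_s_2682_2684 c) (Nat.ble 2682 c)
noncomputable def Ptab_s_2676_2684 (c : Nat) : Nat := @Bool.rec (fun _ => Nat) (Ptab_s_2676_2680 c) (Ptab_s_2680_2684 c) (Nat.ble 2680 c)
noncomputable def Ptab_s_2684_2686 (c : Nat) : Nat := @Bool.rec (fun _ => Nat) (Ptab_2684) (Ptab_2685) (Nat.ble 2685 c)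
noncomputable def Ptab_s_2686_2688 (c : Nat) : Nat := @Bool.rec (fun _ => Nat) (Ptab_2686) (Ptab_2687) (Nat.ble 2687 c)
noncomputable def Ptab_s_2684_2688 (c : Nat) : Nat := @Bool.rec (fun _ => Nat) (Ptab_s_2684_2686 c) (Ptab_s_2686_2688 c) (Nat.ble 2686 c)
noncomputable def Ptab_s_2688_2690 (c : Nat) : Nat := @Bool.rec (fun _ => Nat) (Ptab_2688) (Ptab_2689) (Nat.ble 2689 c)
noncomputable def Ptab_s_2690_2692 (c : Nat) : Nat := @Bool.rec (fun _ => Nat) (Ptab_2690) (Ptab_2691) (Nat.ble 2691 c)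
noncomputable def Ptab_s_2688_2692 (c : Nat) : Nat := @Bool.rec (fun _ => Nat) (Ptab_s_2688_2690 c) (Ptab_s_2690_2692 c) (Nat.ble 2690 c)
noncomputable def Ptab_s_2684_2692 (c : Nat) : Nat := @Bool.rec (fun _ => Nat) (Ptab_s_2684_2688 c) (Ptab_s_2688_2692 c) (Nat.ble 2688 c)
noncomputable def Ptab_s_2676_2692 (c : Nat) : Nat := @Bool.rec (fun _ => Nat) (Ptab_s_2676_2684 c) (Ptab_s_2684_2692 c) (Nat.ble 2684 c)
noncomputable def Ptab_s_2661_2692 (c : Nat) : Nat := @Bool.rec (fun _ => Nat) (Ptab_s_2661_2676 c) (Ptab_s_2676_2692 c) (Nat.ble 2676 c)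
noncomputable def Ptab_s_2630_2692 (c : Nat) : Nat := @Bool.rec (fun _ => Nat) (Ptab_s_2630_2661 c) (Ptab_s_2661_2692 c) (Nat.ble 2661 c)
noncomputable def Ptab_s_2569_2692 (c : Nat) : Nat := @Bool.rec (fun _ => Nat) (Ptab_s_2569_2630 c) (Ptab_s_2630_2692 c) (Nat.ble 2630 c)
noncomputable def Ptab_s_2447_2692 (c : Nat) : Nat := @Bool.rec (fun _ => Nat) (Ptab_s_2447_2569 c) (Ptab_s_2569_2692 c) (Nat.ble 2569 c)
noncomputable def Ptab_s_2693_2695 (c : Nat) : Nat := @Bool.rec (fun _ => Nat) (Ptab_2693) (Ptab_2694) (Nat.ble 2694 c)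
noncomputable def Ptab_s_2692_2695 (c : Nat) : Nat := @Bool.rec (fun _ => Nat) (Ptab_2692) (Ptab_s_2693_2695 c) (Nat.ble 2693 c)
noncomputable def Ptab_s_2695_2697 (c : Nat) : Nat := @Bool.rec (fun _ => Nat) (Ptab_2695) (Ptab_2696) (Nat.ble 2696 c)
noncomputable def Ptab_s_2697_2699 (c : Nat) : Nat := @Bool.rec (fun _ => Nat) (Ptab_2697) (Ptab_2698) (Nat.ble 2698 c)
noncomputable def Ptab_s_2695_2699 (c : Nat) : Nat := @Bool.rec (fun _ => Nat) (Ptab_s_2695_2697 c) (Ptab_s_2697_2699 c) (Nat.ble 2697 c)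
noncomputable def Ptab_s_2692_2699 (c : Nat) : Nat := @Bool.rec (fun _ => Nat) (Ptab_s_2692_2695 c) (Ptab_s_2695_2699 c) (Nat.ble 2695 c)
noncomputable def Ptab_s_2699_2701 (c : Nat) : Nat := @Bool.rec (fun _ => Nat) (Ptab_2699) (Ptab_2700) (Nat.ble 2700 c)
noncomputable def Ptab_s_2701_2703 (c : Nat) : Nat := @Bool.rec (fun _ => Nat) (Ptab_2701) (Ptab_2702) (Nat.ble 2702 c)
noncomputable def Ptab_s_2699_2703 (c : Nat) : Nat := @Bool.rec (fun _ => Nat) (Ptab_s_2699_2701 c) (Ptab_s_2701_2703 c) (Nat.ble 2701 c)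
noncomputable def Ptab_s_2703_2705 (c : Nat) : Nat := @Bool.rec (fun _ => Nat) (Ptab_2703) (Ptab_2704) (Nat.ble 2704 c)
noncomputable def Ptab_s_2705_2707 (c : Nat) : Nat := @Bool.rec (fun _ => Nat) (Ptab_2705) (Ptab_2706) (Nat.ble 2706 c)
noncomputable def Ptab_s_2703_2707 (c : Nat) : Nat := @Bool.rec (fun _ => Nat) (Ptab_s_2703_2705 c) (Ptab_s_2705_2707 c) (Nat.ble 2705 c)
noncomputable def Ptab_s_2699_2707 (c : Nat) : Nat := @Bool.rec (fun _ => Nat) (Ptab_s_2699_2703 c) (Ptab_s_2703_2707 c) (Nat.ble 2703 c)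
noncomputable def Ptab_s_2692_2707 (c : Nat) : Nat := @Bool.rec (fun _ => Nat) (Ptab_s_2692_2699 c) (Ptab_s_2699_2707 c) (Nat.ble 2699 c)
noncomputable def Ptab_s_2708_2710 (c : Nat) : Nat := @Bool.rec (fun _ => Nat) (Ptab_2708) (Ptab_2709) (Nat.ble 2709 c)
noncomputable def Ptab_s_2707_2710 (c : Nat) : Nat := @Bool.rec (fun _ => Nat) (Ptab_2707) (Ptab_s_2708_2710 c) (Nat.ble 2708 c)
noncomputable def Ptab_s_2710_2712 (c : Nat) : Nat := @Bool.rec (fun _ => Nat) (Ptab_2710) (Ptab_2711) (Nat.ble 2711 c)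
noncomputable def Ptab_s_2712_2714 (c : Nat) : Nat := @Bool.rec (fun _ => Nat) (Ptab_2712) (Ptab_2713) (Nat.ble 2713 c)
noncomputable def Ptab_s_2710_2714 (c : Nat) : Nat := @Bool.rec (fun _ => Nat) (Ptab_s_2710_2712 c) (Ptab_s_2712_2714 c) (Nat.ble 2712 c)
noncomputable def Ptab_s_2707_2714 (c : Nat) : Nat := @Bool.rec (fun _ => Nat) (Ptab_s_2707_2710 c) (Ptab_s_2710_2714 c) (Nat.ble 2710 c)
noncomputable def Ptab_s_2714_2716 (c : Nat) : Nat := @Bool.rec (fun _ => Nat) (Ptab_2714) (Ptab_2715) (Nat.ble 2715 c)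
noncomputable def Ptab_s_2716_2718 (c : Nat) : Nat := @Bool.rec (fun _ => Nat) (Ptab_2716) (Ptab_2717) (Nat.ble 2717 c)
noncomputable def Ptab_s_2714_2718 (c : Nat) : Nat := @Bool.rec (fun _ => Nat) (Ptab_s_2714_2716 c) (Ptab_s_2716_2718 c) (Nat.ble 2716 c)
noncomputable def Ptab_s_2718_2720 (c : Nat) : Nat := @Bool.rec (fun _ => Nat) (Ptab_2718) (Ptab_2719) (Nat.ble 2719 c)
noncomputable def Ptab_s_2720_2722 (c : Nat) : Nat := @Bool.rec (fun _ => Nat) (Ptab_2720) (Ptab_2721) (Nat.ble 2721 c)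
noncomputable def Ptab_s_2718_2722 (c : Nat) : Nat := @Bool.rec (fun _ => Nat) (Ptab_s_2718_2720 c) (Ptab_s_2720_2722 c) (Nat.ble 2720 c)
noncomputable def Ptab_s_2714_2722 (c : Nat) : Nat := @Bool.rec (fun _ => Nat) (Ptab_s_2714_2718 c) (Ptab_s_2718_2722 c) (Nat.ble 2718 c)
noncomputable def Ptab_s_2707_2722 (c : Nat) : Nat := @Bool.rec (fun _ => Nat) (Ptab_s_2707_2714 c) (Ptab_s_2714_2722 c) (Nat.ble 2714 c)
noncomputable def Ptab_s_2692_2722 (c : Nat) : Nat := @Bool.rec (fun _ => Nat) (Ptab_s_2692_2707 c) (Ptab_s_2707_2722 c) (Nat.ble 2707 c)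
noncomputable def Ptab_s_2723_2725 (c : Nat) : Nat := @Bool.rec (fun _ => Nat) (Ptab_2723) (Ptab_2724) (Nat.ble 2724 c)
noncomputable def Ptab_s_2722_2725 (c : Nat) : Nat := @Bool.rec (fun _ => Nat) (Ptab_2722) (Ptab_s_2723_2725 c) (Nat.ble 2723 c)
noncomputable def Ptab_s_2725_2727 (c : Nat) : Nat := @Bool.rec (fun _ => Nat) (Ptab_2725) (Ptab_2726) (Nat.ble 2726 c)
noncomputable def Ptab_s_2727_2729 (c : Nat) : Nat := @Bool.rec (fun _ => Nat) (Ptab_2727) (Ptab_2728) (Nat.ble 2728 c)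
noncomputable def Ptab_s_2725_2729 (c : Nat) : Nat := @Bool.rec (fun _ => Nat) (Ptab_s_2725_2727 c) (Ptab_s_2727_2729 c) (Nat.ble 2727 c)
noncomputable def Ptab_s_2722_2729 (c : Nat) : Nat := @Bool.rec (fun _ => Nat) (Ptab_s_2722_2725 c) (Ptab_s_2725_2729 c) (Nat.ble 2725 c)
noncomputable def Ptab_s_2729_2731 (c : Nat) : Nat := @Bool.rec (fun _ => Nat) (Ptab_2729) (Ptab_2730) (Nat.ble 2730 c)
noncomputable def Ptab_s_2731_2733 (c : Nat) : Nat := @Bool.rec (fun _ => Nat) (Ptab_2731) (Ptab_2732) (Nat.ble 2732 c)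
noncomputable def Ptab_s_2729_2733 (c : Nat) : Nat := @Bool.rec (fun _ => Nat) (Ptab_s_2729_2731 c) (Ptab_s_2731_2733 c) (Nat.ble 2731 c)
noncomputable def Ptab_s_2733_2735 (c : Nat) : Nat := @Bool.rec (fun _ => Nat) (Ptab_2733) (Ptab_2734) (Nat.ble 2734 c)
noncomputable def Ptab_s_2735_2737 (c : Nat) : Nat := @Bool.rec (fun _ => Nat) (Ptab_2735) (Ptab_2736) (Nat.ble 2736 c)
noncomputable def Ptab_s_2733_2737 (c : Nat) : Nat := @Bool.rec (fun _ => Nat) (Ptab_s_2733_2735 c) (Ptab_s_2735_2737 c) (Nat.ble 2735 c)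
noncomputable def Ptab_s_2729_2737 (c : Nat) : Nat := @Bool.rec (fun _ => Nat) (Ptab_s_2729_2733 c) (Ptab_s_2733_2737 c) (Nat.ble 2733 c)
noncomputable def Ptab_s_2722_2737 (c : Nat) : Nat := @Bool.rec (fun _ => Nat) (Ptab_s_2722_2729 c) (Ptab_s_2729_2737 c) (Nat.ble 2729 c)
noncomputable def Ptab_s_2737_2739 (c : Nat) : Nat := @Bool.rec (fun _ => Nat) (Ptab_2737) (Ptab_2738) (Nat.ble 2738 c)
noncomputable def Ptab_s_2739_2741 (c : Nat) : Nat := @Bool.rec (fun _ => Nat) (Ptab_2739) (Ptab_2740) (Nat.ble 2740 c)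
noncomputable def Ptab_s_2737_2741 (c : Nat) : Nat := @Bool.rec (fun _ => Nat) (Ptab_s_2737_2739 c) (Ptab_s_2739_2741 c) (Nat.ble 2739 c)
noncomputable def Ptab_s_2741_2743 (c : Nat) : Nat := @Bool.rec (fun _ => Nat) (Ptab_2741) (Ptab_2742) (Nat.ble 2742 c)
noncomputable def Ptab_s_2743_2745 (c : Nat) : Nat := @Bool.rec (fun _ => Nat) (Ptab_2743) (Ptab_2744) (Nat.ble 2744 c)
noncomputable def Ptab_s_2741_2745 (c : Nat) : Nat := @Bool.rec (fun _ => Nat) (Ptab_s_2741_2743 c) (Ptab_s_2743_2745 c) (Nat.ble 2743 c)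
noncomputable def Ptab_s_2737_2745 (c : Nat) : Nat := @Bool.rec (fun _ => Nat) (Ptab_s_2737_2741 c) (Ptab_s_2741_2745 c) (Nat.ble 2741 c)
noncomputable def Ptab_s_2745_2747 (c : Nat) : Nat := @Bool.rec (fun _ => Nat) (Ptab_2745) (Ptab_2746) (Nat.ble 2746 c)
noncomputable def Ptab_s_2747_2749 (c : Nat) : Nat := @Bool.rec (fun _ => Nat) (Ptab_2747) (Ptab_2748) (Nat.ble 2748 c)
noncomputable def Ptab_s_2745_2749 (c : Nat) : Nat := @Bool.rec (fun _ => Nat) (Ptab_s_2745_2747 c) (Ptab_s_2747_2749 c) (Nat.ble 2747 c)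
noncomputable def Ptab_s_2749_2751 (c : Nat) : Nat := @Bool.rec (fun _ => Nat) (Ptab_2749) (Ptab_2750) (Nat.ble 2750 c)
noncomputable def Ptab_s_2751_2753 (c : Nat) : Nat := @Bool.rec (fun _ => Nat) (Ptab_2751) (Ptab_2752) (Nat.ble 2752 c)
noncomputable def Ptab_s_2749_2753 (c : Nat) : Nat := @Bool.rec (fun _ => Nat) (Ptab_s_2749_2751 c) (Ptab_s_2751_2753 c) (Nat.ble 2751 c)
noncomputable def Ptab_s_2745_2753 (c : Nat) : Nat := @Bool.rec (fun _ => Nat) (Ptab_s_2745_2749 c) (Ptab_s_2749_2753 c) (Nat.ble 2749 c)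
noncomputable def Ptab_s_2737_2753 (c : Nat) : Nat := @Bool.rec (fun _ => Nat) (Ptab_s_2737_2745 c) (Ptab_s_2745_2753 c) (Nat.ble 2745 c)
noncomputable def Ptab_s_2722_2753 (c : Nat) : Nat := @Bool.rec (fun _ => Nat) (Ptab_s_2722_2737 c) (Ptab_s_2737_2753 c) (Nat.ble 2737 c)
noncomputable def Ptab_s_2692_2753 (c : Nat) : Nat := @Bool.rec (fun _ => Nat) (Ptab_s_2692_2722 c) (Ptab_s_2722_2753 c) (Nat.ble 2722 c)
noncomputable def Ptab_s_2754_2756 (c : Nat) : Nat := @Bool.rec (fun _ => Nat) (Ptab_2754) (Ptab_2755) (Nat.ble 2755 c)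
noncomputable def Ptab_s_2753_2756 (c : Nat) : Nat := @Bool.rec (fun _ => Nat) (Ptab_2753) (Ptab_s_2754_2756 c) (Nat.ble 2754 c)
noncomputable def Ptab_s_2756_2758 (c : Nat) : Nat := @Bool.rec (fun _ => Nat) (Ptab_2756) (Ptab_2757) (Nat.ble 2757 c)
noncomputable def Ptab_s_2758_2760 (c : Nat) : Nat := @Bool.rec (fun _ => Nat) (Ptab_2758) (Ptab_2759) (Nat.ble 2759 c)
noncomputable def Ptab_s_2756_2760 (c : Nat) : Nat := @Bool.rec (fun _ => Nat) (Ptab_s_2756_2758 c) (Ptab_s_2758_2760 c) (Nat.ble 2758 c)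
noncomputable def Ptab_s_2753_2760 (c : Nat) : Nat := @Bool.rec (fun _ => Nat) (Ptab_s_2753_2756 c) (Ptab_s_2756_2760 c) (Nat.ble 2756 c)
noncomputable def Ptab_s_2760_2762 (c : Nat) : Nat := @Bool.rec (fun _ => Nat) (Ptab_2760) (Ptab_2761) (Nat.ble 2761 c)
noncomputable def Ptab_s_2762_2764 (c : Nat) : Nat := @Bool.rec (fun _ => Nat) (Ptab_2762) (Ptab_2763) (Nat.ble 2763 c)
noncomputable def Ptab_s_2760_2764 (c : Nat) : Nat := @Bool.rec (fun _ => Nat) (Ptab_s_2760_2762 c) (Ptab_s_2762_2764 c) (Nat.ble 2762 c)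
noncomputable def Ptab_s_2764_2766 (c : Nat) : Nat := @Bool.rec (fun _ => Nat) (Ptab_2764) (Ptab_2765) (Nat.ble 2765 c)
noncomputable def Ptab_s_2766_2768 (c : Nat) : Nat := @Bool.rec (fun _ => Nat) (Ptab_2766) (Ptab_2767) (Nat.ble 2767 c)
noncomputable def Ptab_s_2764_2768 (c : Nat) : Nat := @Bool.rec (fun _ => Nat) (Ptab_s_2764_2766 c) (Ptab_s_2766_2768 c) (Nat.ble 2766 c)
noncomputable def Ptab_s_2760_2768 (c : Nat) : Nat := @Bool.rec (fun _ => Nat) (Ptab_s_2760_2764 c) (Ptab_s_2764_2768 c) (Nat.ble 2764 c)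
noncomputable def Ptab_s_2753_2768 (c : Nat) : Nat := @Bool.rec (fun _ => Nat) (Ptab_s_2753_2760 c) (Ptab_s_2760_2768 c) (Nat.ble 2760 c)
noncomputable def Ptab_s_2769_2771 (c : Nat) : Nat := @Bool.rec (fun _ => Nat) (Ptab_2769) (Ptab_2770) (Nat.ble 2770 c)
noncomputable def Ptab_s_2768_2771 (c : Nat) : Nat := @Bool.rec (fun _ => Nat) (Ptab_2768) (Ptab_s_2769_2771 c) (Nat.ble 2769 c)
noncomputable def Ptab_s_2771_2773 (c : Nat) : Nat := @Bool.rec (fun _ => Nat) (Ptab_2771) (Ptab_2772) (Nat.ble 2772 c)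
noncomputable def Ptab_s_2773_2775 (c : Nat) : Nat := @Bool.rec (fun _ => Nat) (Ptab_2773) (Ptab_2774) (Nat.ble 2774 c)
noncomputable def Ptab_s_2771_2775 (c : Nat) : Nat := @Bool.rec (fun _ => Nat) (Ptab_s_2771_2773 c) (Ptab_s_2773_2775 c) (Nat.ble 2773 c)
noncomputable def Ptab_s_2768_2775 (c : Nat) : Nat := @Bool.rec (fun _ => Nat) (Ptab_s_2768_2771 c) (Ptab_s_2771_2775 c) (Nat.ble 2771 c)
noncomputable def Ptab_s_2775_2777 (c : Nat) : Nat := @Bool.rec (fun _ => Nat) (Ptab_2775) (Ptab_2776) (Nat.ble 2776 c)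
noncomputable def Ptab_s_2777_2779 (c : Nat) : Nat := @Bool.rec (fun _ => Nat) (Ptab_2777) (Ptab_2778) (Nat.ble 2778 c)
noncomputable def Ptab_s_2775_2779 (c : Nat) : Nat := @Bool.rec (fun _ => Nat) (Ptab_s_2775_2777 c) (Ptab_s_2777_2779 c) (Nat.ble 2777 c)
noncomputable def Ptab_s_2779_2781 (c : Nat) : Nat := @Bool.rec (fun _ => Nat) (Ptab_2779) (Ptab_2780) (Nat.ble 2780 c)
noncomputable def Ptab_s_2781_2783 (c : Nat) : Nat := @Bool.rec (fun _ => Nat) (Ptab_2781) (Ptab_2782) (Nat.ble 2782 c)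
noncomputable def Ptab_s_2779_2783 (c : Nat) : Nat := @Bool.rec (fun _ => Nat) (Ptab_s_2779_2781 c) (Ptab_s_2781_2783 c) (Nat.ble 2781 c)
noncomputable def Ptab_s_2775_2783 (c : Nat) : Nat := @Bool.rec (fun _ => Nat) (Ptab_s_2775_2779 c) (Ptab_s_2779_2783 c) (Nat.ble 2779 c)
noncomputable def Ptab_s_2768_2783 (c : Nat) : Nat := @Bool.rec (fun _ => Nat) (Ptab_s_2768_2775 c) (Ptab_s_2775_2783 c) (Nat.ble 2775 c)
noncomputable def Ptab_s_2753_2783 (c : Nat) : Nat := @Bool.rec (fun _ => Nat) (Ptab_s_2753_2768 c) (Ptab_s_2768_2783 c) (Nat.ble 2768 c)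
noncomputable def Ptab_s_2784_2786 (c : Nat) : Nat := @Bool.rec (fun _ => Nat) (Ptab_2784) (Ptab_2785) (Nat.ble 2785 c)
noncomputable def Ptab_s_2783_2786 (c : Nat) : Nat := @Bool.rec (fun _ => Nat) (Ptab_2783) (Ptab_s_2784_2786 c) (Nat.ble 2784 c)
noncomputable def Ptab_s_2786_2788 (c : Nat) : Nat := @Bool.rec (fun _ => Nat) (Ptab_2786) (Ptab_2787) (Nat.ble 2787 c)
noncomputable def Ptab_s_2788_2790 (c : Nat) : Nat := @Bool.rec (fun _ => Nat) (Ptab_2788) (Ptab_2789) (Nat.ble 2789 c)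
noncomputable def Ptab_s_2786_2790 (c : Nat) : Nat := @Bool.rec (fun _ => Nat) (Ptab_s_2786_2788 c) (Ptab_s_2788_2790 c) (Nat.ble 2788 c)
noncomputable def Ptab_s_2783_2790 (c : Nat) : Nat := @Bool.rec (fun _ => Nat) (Ptab_s_2783_2786 c) (Ptab_s_2786_2790 c) (Nat.ble 2786 c)
noncomputable def Ptab_s_2790_2792 (c : Nat) : Nat := @Bool.rec (fun _ => Nat) (Ptab_2790) (Ptab_2791) (Nat.ble 2791 c)
noncomputable def Ptab_s_2792_2794 (c : Nat) : Nat := @Bool.rec (fun _ => Nat) (Ptab_2792) (Ptab_2793) (Nat.ble 2793 c)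
noncomputable def Ptab_s_2790_2794 (c : Nat) : Nat := @Bool.rec (fun _ => Nat) (Ptab_s_2790_2792 c) (Ptab_s_2792_2794 c) (Nat.ble 2792 c)
noncomputable def Ptab_s_2794_2796 (c : Nat) : Nat := @Bool.rec (fun _ => Nat) (Ptab_2794) (Ptab_2795) (Nat.ble 2795 c)
noncomputable def Ptab_s_2796_2798 (c : Nat) : Nat := @Bool.rec (fun _ => Nat) (Ptab_2796) (Ptab_2797) (Nat.ble 2797 c)
noncomputable def Ptab_s_2794_2798 (c : Nat) : Nat := @Bool.rec (fun _ => Nat) (Ptab_s_2794_2796 c) (Ptab_s_2796_2798 c) (Nat.ble 2796 c)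
noncomputable def Ptab_s_2790_2798 (c : Nat) : Nat := @Bool.rec (fun _ => Nat) (Ptab_s_2790_2794 c) (Ptab_s_2794_2798 c) (Nat.ble 2794 c)
noncomputable def Ptab_s_2783_2798 (c : Nat) : Nat := @Bool.rec (fun _ => Nat) (Ptab_s_2783_2790 c) (Ptab_s_2790_2798 c) (Nat.ble 2790 c)
noncomputable def Ptab_s_2798_2800 (c : Nat) : Nat := @Bool.rec (fun _ => Nat) (Ptab_2798) (Ptab_2799) (Nat.ble 2799 c)
noncomputable def Ptab_s_2800_2802 (c : Nat) : Nat := @Bool.rec (fun _ => Nat) (Ptab_2800) (Ptab_2801) (Nat.ble 2801 c)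
noncomputable def Ptab_s_2798_2802 (c : Nat) : Nat := @Bool.rec (fun _ => Nat) (Ptab_s_2798_2800 c) (Ptab_s_2800_2802 c) (Nat.ble 2800 c)
noncomputable def Ptab_s_2802_2804 (c : Nat) : Nat := @Bool.rec (fun _ => Nat) (Ptab_2802) (Ptab_2803) (Nat.ble 2803 c)
noncomputable def Ptab_s_2804_2806 (c : Nat) : Nat := @Bool.rec (fun _ => Nat) (Ptab_2804) (Ptab_2805) (Nat.ble 2805 c)
noncomputable def Ptab_s_2802_2806 (c : Nat) : Nat := @Bool.rec (fun _ => Nat) (Ptab_s_2802_2804 c) (Ptab_s_2804_2806 c) (Nat.ble 2804 c)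
noncomputable def Ptab_s_2798_2806 (c : Nat) : Nat := @Bool.rec (fun _ => Nat) (Ptab_s_2798_2802 c) (Ptab_s_2802_2806 c) (Nat.ble 2802 c)
noncomputable def Ptab_s_2806_2808 (c : Nat) : Nat := @Bool.rec (fun _ => Nat) (Ptab_2806) (Ptab_2807) (Nat.ble 2807 c)
noncomputable def Ptab_s_2808_2810 (c : Nat) : Nat := @Bool.rec (fun _ => Nat) (Ptab_2808) (Ptab_2809) (Nat.ble 2809 c)
noncomputable def Ptab_s_2806_2810 (c : Nat) : Nat := @Bool.rec (fun _ => Nat) (Ptab_s_2806_2808 c) (Ptab_s_2808_2810 c) (Nat.ble 2808 c)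
noncomputable def Ptab_s_2810_2812 (c : Nat) : Nat := @Bool.rec (fun _ => Nat) (Ptab_2810) (Ptab_2811) (Nat.ble 2811 c)
noncomputable def Ptab_s_2812_2814 (c : Nat) : Nat := @Bool.rec (fun _ => Nat) (Ptab_2812) (Ptab_2813) (Nat.ble 2813 c)
noncomputable def Ptab_s_2810_2814 (c : Nat) : Nat := @Bool.rec (fun _ => Nat) (Ptab_s_2810_2812 c) (Ptab_s_2812_2814 c) (Nat.ble 2812 c)
noncomputable def Ptab_s_2806_2814 (c : Nat) : Nat := @Bool.rec (fun _ => Nat) (Ptab_s_2806_2810 c) (Ptab_s_2810_2814 c) (Nat.ble 2810 c)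
noncomputable def Ptab_s_2798_2814 (c : Nat) : Nat := @Bool.rec (fun _ => Nat) (Ptab_s_2798_2806 c) (Ptab_s_2806_2814 c) (Nat.ble 2806 c)
noncomputable def Ptab_s_2783_2814 (c : Nat) : Nat := @Bool.rec (fun _ => Nat) (Ptab_s_2783_2798 c) (Ptab_s_2798_2814 c) (Nat.ble 2798 c)
noncomputable def Ptab_s_2753_2814 (c : Nat) : Nat := @Bool.rec (fun _ => Nat) (Ptab_s_2753_2783 c) (Ptab_s_2783_2814 c) (Nat.ble 2783 c)
noncomputable def Ptab_s_2692_2814 (c : Nat) : Nat := @Bool.rec (fun _ => Nat) (Ptab_s_2692_2753 c) (Ptab_s_2753_2814 c) (Nat.ble 2753 c)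
noncomputable def Ptab_s_2815_2817 (c : Nat) : Nat := @Bool.rec (fun _ => Nat) (Ptab_2815) (Ptab_2816) (Nat.ble 2816 c)
noncomputable def Ptab_s_2814_2817 (c : Nat) : Nat := @Bool.rec (fun _ => Nat) (Ptab_2814) (Ptab_s_2815_2817 c) (Nat.ble 2815 c)
noncomputable def Ptab_s_2817_2819 (c : Nat) : Nat := @Bool.rec (fun _ => Nat) (Ptab_2817) (Ptab_2818) (Nat.ble 2818 c)
noncomputable def Ptab_s_2819_2821 (c : Nat) : Nat := @Bool.rec (fun _ => Nat) (Ptab_2819) (Ptab_2820) (Nat.ble 2820 c)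
noncomputable def Ptab_s_2817_2821 (c : Nat) : Nat := @Bool.rec (fun _ => Nat) (Ptab_s_2817_2819 c) (Ptab_s_2819_2821 c) (Nat.ble 2819 c)
noncomputable def Ptab_s_2814_2821 (c : Nat) : Nat := @Bool.rec (fun _ => Nat) (Ptab_s_2814_2817 c) (Ptab_s_2817_2821 c) (Nat.ble 2817 c)
noncomputable def Ptab_s_2821_2823 (c : Nat) : Nat := @Bool.rec (fun _ => Nat) (Ptab_2821) (Ptab_2822) (Nat.ble 2822 c)
noncomputable def Ptab_s_2823_2825 (c : Nat) : Nat := @Bool.rec (fun _ => Nat) (Ptab_2823) (Ptab_2824) (Nat.ble 2824 c)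
noncomputable def Ptab_s_2821_2825 (c : Nat) : Nat := @Bool.rec (fun _ => Nat) (Ptab_s_2821_2823 c) (Ptab_s_2823_2825 c) (Nat.ble 2823 c)
noncomputable def Ptab_s_2825_2827 (c : Nat) : Nat := @Bool.rec (fun _ => Nat) (Ptab_2825) (Ptab_2826) (Nat.ble 2826 c)
noncomputable def Ptab_s_2827_2829 (c : Nat) : Nat := @Bool.rec (fun _ => Nat) (Ptab_2827) (Ptab_2828) (Nat.ble 2828 c)
noncomputable def Ptab_s_2825_2829 (c : Nat) : Nat := @Bool.rec (fun _ => Nat) (Ptab_s_2825_2827 c) (Ptab_s_2827_2829 c) (Nat.ble 2827 c)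
noncomputable def Ptab_s_2821_2829 (c : Nat) : Nat := @Bool.rec (fun _ => Nat) (Ptab_s_2821_2825 c) (Ptab_s_2825_2829 c) (Nat.ble 2825 c)
noncomputable def Ptab_s_2814_2829 (c : Nat) : Nat := @Bool.rec (fun _ => Nat) (Ptab_s_2814_2821 c) (Ptab_s_2821_2829 c) (Nat.ble 2821 c)
noncomputable def Ptab_s_2830_2832 (c : Nat) : Nat := @Bool.rec (fun _ => Nat) (Ptab_2830) (Ptab_2831) (Nat.ble 2831 c)
noncomputable def Ptab_s_2829_2832 (c : Nat) : Nat := @Bool.rec (fun _ => Nat) (Ptab_2829) (Ptab_s_2830_2832 c) (Nat.ble 2830 c)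
noncomputable def Ptab_s_2832_2834 (c : Nat) : Nat := @Bool.rec (fun _ => Nat) (Ptab_2832) (Ptab_2833) (Nat.ble 2833 c)
noncomputable def Ptab_s_2834_2836 (c : Nat) : Nat := @Bool.rec (fun _ => Nat) (Ptab_2834) (Ptab_2835) (Nat.ble 2835 c)
noncomputable def Ptab_s_2832_2836 (c : Nat) : Nat := @Bool.rec (fun _ => Nat) (Ptab_s_2832_2834 c) (Ptab_s_2834_2836 c) (Nat.ble 2834 c)
noncomputable def Ptab_s_2829_2836 (c : Nat) : Nat := @Bool.rec (fun _ => Nat) (Ptab_s_2829_2832 c) (Ptab_s_2832_2836 c) (Nat.ble 2832 c)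
noncomputable def Ptab_s_2836_2838 (c : Nat) : Nat := @Bool.rec (fun _ => Nat) (Ptab_2836) (Ptab_2837) (Nat.ble 2837 c)
noncomputable def Ptab_s_2838_2840 (c : Nat) : Nat := @Bool.rec (fun _ => Nat) (Ptab_2838) (Ptab_2839) (Nat.ble 2839 c)
noncomputable def Ptab_s_2836_2840 (c : Nat) : Nat := @Bool.rec (fun _ => Nat) (Ptab_s_2836_2838 c) (Ptab_s_2838_2840 c) (Nat.ble 2838 c)
noncomputable def Ptab_s_2840_2842 (c : Nat) : Nat := @Bool.rec (fun _ => Nat) (Ptab_2840) (Ptab_2841) (Nat.ble 2841 c)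
noncomputable def Ptab_s_2842_2844 (c : Nat) : Nat := @Bool.rec (fun _ => Nat) (Ptab_2842) (Ptab_2843) (Nat.ble 2843 c)
noncomputable def Ptab_s_2840_2844 (c : Nat) : Nat := @Bool.rec (fun _ => Nat) (Ptab_s_2840_2842 c) (Ptab_s_2842_2844 c) (Nat.ble 2842 c)
noncomputable def Ptab_s_2836_2844 (c : Nat) : Nat := @Bool.rec (fun _ => Nat) (Ptab_s_2836_2840 c) (Ptab_s_2840_2844 c) (Nat.ble 2840 c)
noncomputable def Ptab_s_2829_2844 (c : Nat) : Nat := @Bool.rec (fun _ => Nat) (Ptab_s_2829_2836 c) (Ptab_s_2836_2844 c) (Nat.ble 2836 c)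
noncomputable def Ptab_s_2814_2844 (c : Nat) : Nat := @Bool.rec (fun _ => Nat) (Ptab_s_2814_2829 c) (Ptab_s_2829_2844 c) (Nat.ble 2829 c)
noncomputable def Ptab_s_2845_2847 (c : Nat) : Nat := @Bool.rec (fun _ => Nat) (Ptab_2845) (Ptab_2846) (Nat.ble 2846 c)
noncomputable def Ptab_s_2844_2847 (c : Nat) : Nat := @Bool.rec (fun _ => Nat) (Ptab_2844) (Ptab_s_2845_2847 c) (Nat.ble 2845 c)
noncomputable def Ptab_s_2847_2849 (c : Nat) : Nat := @Bool.rec (fun _ => Nat) (Ptab_2847) (Ptab_2848) (Nat.ble 2848 c)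
noncomputable def Ptab_s_2849_2851 (c : Nat) : Nat := @Bool.rec (fun _ => Nat) (Ptab_2849) (Ptab_2850) (Nat.ble 2850 c)
noncomputable def Ptab_s_2847_2851 (c : Nat) : Nat := @Bool.rec (fun _ => Nat) (Ptab_s_2847_2849 c) (Ptab_s_2849_2851 c) (Nat.ble 2849 c)
noncomputable def Ptab_s_2844_2851 (c : Nat) : Nat := @Bool.rec (fun _ => Nat) (Ptab_s_2844_2847 c) (Ptab_s_2847_2851 c) (Nat.ble 2847 c)
noncomputable def Ptab_s_2851_2853 (c : Nat) : Nat := @Bool.rec (fun _ => Nat) (Ptab_2851) (Ptab_2852) (Nat.ble 2852 c)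
noncomputable def Ptab_s_2853_2855 (c : Nat) : Nat := @Bool.rec (fun _ => Nat) (Ptab_2853) (Ptab_2854) (Nat.ble 2854 c)
noncomputable def Ptab_s_2851_2855 (c : Nat) : Nat := @Bool.rec (fun _ => Nat) (Ptab_s_2851_2853 c) (Ptab_s_2853_2855 c) (Nat.ble 2853 c)
noncomputable def Ptab_s_2855_2857 (c : Nat) : Nat := @Bool.rec (fun _ => Nat) (Ptab_2855) (Ptab_2856) (Nat.ble 2856 c)
noncomputable def Ptab_s_2857_2859 (c : Nat) : Nat := @Bool.rec (fun _ => Nat) (Ptab_2857) (Ptab_2858) (Nat.ble 2858 c)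
noncomputable def Ptab_s_2855_2859 (c : Nat) : Nat := @Bool.rec (fun _ => Nat) (Ptab_s_2855_2857 c) (Ptab_s_2857_2859 c) (Nat.ble 2857 c)
noncomputable def Ptab_s_2851_2859 (c : Nat) : Nat := @Bool.rec (fun _ => Nat) (Ptab_s_2851_2855 c) (Ptab_s_2855_2859 c) (Nat.ble 2855 c)
noncomputable def Ptab_s_2844_2859 (c : Nat) : Nat := @Bool.rec (fun _ => Nat) (Ptab_s_2844_2851 c) (Ptab_s_2851_2859 c) (Nat.ble 2851 c)
noncomputable def Ptab_s_2859_2861 (c : Nat) : Nat := @Bool.rec (fun _ => Nat) (Ptab_2859) (Ptab_2860) (Nat.ble 2860 c)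
noncomputable def Ptab_s_2861_2863 (c : Nat) : Nat := @Bool.rec (fun _ => Nat) (Ptab_2861) (Ptab_2862) (Nat.ble 2862 c)
noncomputable def Ptab_s_2859_2863 (c : Nat) : Nat := @Bool.rec (fun _ => Nat) (Ptab_s_2859_2861 c) (Ptab_s_2861_2863 c) (Nat.ble 2861 c)
noncomputable def Ptab_s_2863_2865 (c : Nat) : Nat := @Bool.rec (fun _ => Nat) (Ptab_2863) (Ptab_2864) (Nat.ble 2864 c)
noncomputable def Ptab_s_2865_2867 (c : Nat) : Nat := @Bool.rec (fun _ => Nat) (Ptab_2865) (Ptab_2866) (Nat.ble 2866 c)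
noncomputable def Ptab_s_2863_2867 (c : Nat) : Nat := @Bool.rec (fun _ => Nat) (Ptab_s_2863_2865 c) (Ptab_s_2865_2867 c) (Nat.ble 2865 c)
noncomputable def Ptab_s_2859_2867 (c : Nat) : Nat := @Bool.rec (fun _ => Nat) (Ptab_s_2859_2863 c) (Ptab_s_2863_2867 c) (Nat.ble 2863 c)
noncomputable def Ptab_s_2867_2869 (c : Nat) : Nat := @Bool.rec (fun _ => Nat) (Ptab_2867) (Ptab_2868) (Nat.ble 2868 c)
noncomputable def Ptab_s_2869_2871 (c : Nat) : Nat := @Bool.rec (fun _ => Nat) (Ptab_2869) (Ptab_2870) (Nat.ble 2870 c)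
noncomputable def Ptab_s_2867_2871 (c : Nat) : Nat := @Bool.rec (fun _ => Nat) (Ptab_s_2867_2869 c) (Ptab_s_2869_2871 c) (Nat.ble 2869 c)
noncomputable def Ptab_s_2871_2873 (c : Nat) : Nat := @Bool.rec (fun _ => Nat) (Ptab_2871) (Ptab_2872) (Nat.ble 2872 c)
noncomputable def Ptab_s_2873_2875 (c : Nat) : Nat := @Bool.rec (fun _ => Nat) (Ptab_2873) (Ptab_2874) (Nat.ble 2874 c)
noncomputable def Ptab_s_2871_2875 (c : Nat) : Nat := @Bool.rec (fun _ => Nat) (Ptab_s_2871_2873 c) (Ptab_s_2873_2875 c) (Nat.ble 2873 c)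
noncomputable def Ptab_s_2867_2875 (c : Nat) : Nat := @Bool.rec (fun _ => Nat) (Ptab_s_2867_2871 c) (Ptab_s_2871_2875 c) (Nat.ble 2871 c)
noncomputable def Ptab_s_2859_2875 (c : Nat) : Nat := @Bool.rec (fun _ => Nat) (Ptab_s_2859_2867 c) (Ptab_s_2867_2875 c) (Nat.ble 2867 c)
noncomputable def Ptab_s_2844_2875 (c : Nat) : Nat := @Bool.rec (fun _ => Nat) (Ptab_s_2844_2859 c) (Ptab_s_2859_2875 c) (Nat.ble 2859 c)
noncomputable def Ptab_s_2814_2875 (c : Nat) : Nat := @Bool.rec (fun _ => Nat) (Ptab_s_2814_2844 c) (Ptab_s_2844_2875 c) (Nat.ble 2844 c)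
noncomputable def Ptab_s_2876_2878 (c : Nat) : Nat := @Bool.rec (fun _ => Nat) (Ptab_2876) (Ptab_2877) (Nat.ble 2877 c)
noncomputable def Ptab_s_2875_2878 (c : Nat) : Nat := @Bool.rec (fun _ => Nat) (Ptab_2875) (Ptab_s_2876_2878 c) (Nat.ble 2876 c)
noncomputable def Ptab_s_2878_2880 (c : Nat) : Nat := @Bool.rec (fun _ => Nat) (Ptab_2878) (Ptab_2879) (Nat.ble 2879 c)
noncomputable def Ptab_s_2880_2882 (c : Nat) : Nat := @Bool.rec (fun _ => Nat) (Ptab_2880) (Ptab_2881) (Nat.ble 2881 c)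
noncomputable def Ptab_s_2878_2882 (c : Nat) : Nat := @Bool.rec (fun _ => Nat) (Ptab_s_2878_2880 c) (Ptab_s_2880_2882 c) (Nat.ble 2880 c)
noncomputable def Ptab_s_2875_2882 (c : Nat) : Nat := @Bool.rec (fun _ => Nat) (Ptab_s_2875_2878 c) (Ptab_s_2878_2882 c) (Nat.ble 2878 c)
noncomputable def Ptab_s_2882_2884 (c : Nat) : Nat := @Bool.rec (fun _ => Nat) (Ptab_2882) (Ptab_2883) (Nat.ble 2883 c)
noncomputable def Ptab_s_2884_2886 (c : Nat) : Nat := @Bool.rec (fun _ => Nat) (Ptab_2884) (Ptab_2885) (Nat.ble 2885 c)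
noncomputable def Ptab_s_2882_2886 (c : Nat) : Nat := @Bool.rec (fun _ => Nat) (Ptab_s_2882_2884 c) (Ptab_s_2884_2886 c) (Nat.ble 2884 c)
noncomputable def Ptab_s_2886_2888 (c : Nat) : Nat := @Bool.rec (fun _ => Nat) (Ptab_2886) (Ptab_2887) (Nat.ble 2887 c)
noncomputable def Ptab_s_2888_2890 (c : Nat) : Nat := @Bool.rec (fun _ => Nat) (Ptab_2888) (Ptab_2889) (Nat.ble 2889 c)
noncomputable def Ptab_s_2886_2890 (c : Nat) : Nat := @Bool.rec (fun _ => Nat) (Ptab_s_2886_2888 c) (Ptab_s_2888_2890 c) (Nat.ble 2888 c)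
noncomputable def Ptab_s_2882_2890 (c : Nat) : Nat := @Bool.rec (fun _ => Nat) (Ptab_s_2882_2886 c) (Ptab_s_2886_2890 c) (Nat.ble 2886 c)
noncomputable def Ptab_s_2875_2890 (c : Nat) : Nat := @Bool.rec (fun _ => Nat) (Ptab_s_2875_2882 c) (Ptab_s_2882_2890 c) (Nat.ble 2882 c)
noncomputable def Ptab_s_2890_2892 (c : Nat) : Nat := @Bool.rec (fun _ => Nat) (Ptab_2890) (Ptab_2891) (Nat.ble 2891 c)
noncomputable def Ptab_s_2892_2894 (c : Nat) : Nat := @Bool.rec (fun _ => Nat) (Ptab_2892) (Ptab_2893) (Nat.ble 2893 c)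
noncomputable def Ptab_s_2890_2894 (c : Nat) : Nat := @Bool.rec (fun _ => Nat) (Ptab_s_2890_2892 c) (Ptab_s_2892_2894 c) (Nat.ble 2892 c)
noncomputable def Ptab_s_2894_2896 (c : Nat) : Nat := @Bool.rec (fun _ => Nat) (Ptab_2894) (Ptab_2895) (Nat.ble 2895 c)
noncomputable def Ptab_s_2896_2898 (c : Nat) : Nat := @Bool.rec (fun _ => Nat) (Ptab_2896) (Ptab_2897) (Nat.ble 2897 c)
noncomputable def Ptab_s_2894_2898 (c : Nat) : Nat := @Bool.rec (fun _ => Nat) (Ptab_s_2894_2896 c) (Ptab_s_2896_2898 c) (Nat.ble 2896 c)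
noncomputable def Ptab_s_2890_2898 (c : Nat) : Nat := @Bool.rec (fun _ => Nat) (Ptab_s_2890_2894 c) (Ptab_s_2894_2898 c) (Nat.ble 2894 c)
noncomputable def Ptab_s_2898_2900 (c : Nat) : Nat := @Bool.rec (fun _ => Nat) (Ptab_2898) (Ptab_2899) (Nat.ble 2899 c)
noncomputable def Ptab_s_2900_2902 (c : Nat) : Nat := @Bool.rec (fun _ => Nat) (Ptab_2900) (Ptab_2901) (Nat.ble 2901 c)
noncomputable def Ptab_s_2898_2902 (c : Nat) : Nat := @Bool.rec (fun _ => Nat) (Ptab_s_2898_2900 c) (Ptab_s_2900_2902 c) (Nat.ble 2900 c)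
noncomputable def Ptab_s_2902_2904 (c : Nat) : Nat := @Bool.rec (fun _ => Nat) (Ptab_2902) (Ptab_2903) (Nat.ble 2903 c)
noncomputable def Ptab_s_2904_2906 (c : Nat) : Nat := @Bool.rec (fun _ => Nat) (Ptab_2904) (Ptab_2905) (Nat.ble 2905 c)
noncomputable def Ptab_s_2902_2906 (c : Nat) : Nat := @Bool.rec (fun _ => Nat) (Ptab_s_2902_2904 c) (Ptab_s_2904_2906 c) (Nat.ble 2904 c)
noncomputable def Ptab_s_2898_2906 (c : Nat) : Nat := @Bool.rec (fun _ => Nat) (Ptab_s_2898_2902 c) (Ptab_s_2902_2906 c) (Nat.ble 2902 c)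
noncomputable def Ptab_s_2890_2906 (c : Nat) : Nat := @Bool.rec (fun _ => Nat) (Ptab_s_2890_2898 c) (Ptab_s_2898_2906 c) (Nat.ble 2898 c)
noncomputable def Ptab_s_2875_2906 (c : Nat) : Nat := @Bool.rec (fun _ => Nat) (Ptab_s_2875_2890 c) (Ptab_s_2890_2906 c) (Nat.ble 2890 c)
noncomputable def Ptab_s_2907_2909 (c : Nat) : Nat := @Bool.rec (fun _ => Nat) (Ptab_2907) (Ptab_2908) (Nat.ble 2908 c)
noncomputable def Ptab_s_2906_2909 (c : Nat) : Nat := @Bool.rec (fun _ => Nat) (Ptab_2906) (Ptab_s_2907_2909 c) (Nat.ble 2907 c)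
noncomputable def Ptab_s_2909_2911 (c : Nat) : Nat := @Bool.rec (fun _ => Nat) (Ptab_2909) (Ptab_2910) (Nat.ble 2910 c)
noncomputable def Ptab_s_2911_2913 (c : Nat) : Nat := @Bool.rec (fun _ => Nat) (Ptab_2911) (Ptab_2912) (Nat.ble 2912 c)
noncomputable def Ptab_s_2909_2913 (c : Nat) : Nat := @Bool.rec (fun _ => Nat) (Ptab_s_2909_2911 c) (Ptab_s_2911_2913 c) (Nat.ble 2911 c)
noncomputable def Ptab_s_2906_2913 (c : Nat) : Nat := @Bool.rec (fun _ => Nat) (Ptab_s_2906_2909 c) (Ptab_s_2909_2913 c) (Nat.ble 2909 c)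
noncomputable def Ptab_s_2913_2915 (c : Nat) : Nat := @Bool.rec (fun _ => Nat) (Ptab_2913) (Ptab_2914) (Nat.ble 2914 c)
noncomputable def Ptab_s_2915_2917 (c : Nat) : Nat := @Bool.rec (fun _ => Nat) (Ptab_2915) (Ptab_2916) (Nat.ble 2916 c)
noncomputable def Ptab_s_2913_2917 (c : Nat) : Nat := @Bool.rec (fun _ => Nat) (Ptab_s_2913_2915 c) (Ptab_s_2915_2917 c) (Nat.ble 2915 c)
noncomputable def Ptab_s_2917_2919 (c : Nat) : Nat := @Bool.rec (fun _ => Nat) (Ptab_2917) (Ptab_2918) (Nat.ble 2918 c)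
noncomputable def Ptab_s_2919_2921 (c : Nat) : Nat := @Bool.rec (fun _ => Nat) (Ptab_2919) (Ptab_2920) (Nat.ble 2920 c)
noncomputable def Ptab_s_2917_2921 (c : Nat) : Nat := @Bool.rec (fun _ => Nat) (Ptab_s_2917_2919 c) (Ptab_s_2919_2921 c) (Nat.ble 2919 c)
noncomputable def Ptab_s_2913_2921 (c : Nat) : Nat := @Bool.rec (fun _ => Nat) (Ptab_s_2913_2917 c) (Ptab_s_2917_2921 c) (Nat.ble 2917 c)
noncomputable def Ptab_s_2906_2921 (c : Nat) : Nat := @Bool.rec (fun _ => Nat) (Ptab_s_2906_2913 c) (Ptab_s_2913_2921 c) (Nat.ble 2913 c)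
noncomputable def Ptab_s_2921_2923 (c : Nat) : Nat := @Bool.rec (fun _ => Nat) (Ptab_2921) (Ptab_2922) (Nat.ble 2922 c)
noncomputable def Ptab_s_2923_2925 (c : Nat) : Nat := @Bool.rec (fun _ => Nat) (Ptab_2923) (Ptab_2924) (Nat.ble 2924 c)
noncomputable def Ptab_s_2921_2925 (c : Nat) : Nat := @Bool.rec (fun _ => Nat) (Ptab_s_2921_2923 c) (Ptab_s_2923_2925 c) (Nat.ble 2923 c)
noncomputable def Ptab_s_2925_2927 (c : Nat) : Nat := @Bool.rec (fun _ => Nat) (Ptab_2925) (Ptab_2926) (Nat.ble 2926 c)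
noncomputable def Ptab_s_2927_2929 (c : Nat) : Nat := @Bool.rec (fun _ => Nat) (Ptab_2927) (Ptab_2928) (Nat.ble 2928 c)
noncomputable def Ptab_s_2925_2929 (c : Nat) : Nat := @Bool.rec (fun _ => Nat) (Ptab_s_2925_2927 c) (Ptab_s_2927_2929 c) (Nat.ble 2927 c)
noncomputable def Ptab_s_2921_2929 (c : Nat) : Nat := @Bool.rec (fun _ => Nat) (Ptab_s_2921_2925 c) (Ptab_s_2925_2929 c) (Nat.ble 2925 c)
noncomputable def Ptab_s_2929_2931 (c : Nat) : Nat := @Bool.rec (fun _ => Nat) (Ptab_2929) (Ptab_2930) (Nat.ble 2930 c)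
noncomputable def Ptab_s_2931_2933 (c : Nat) : Nat := @Bool.rec (fun _ => Nat) (Ptab_2931) (Ptab_2932) (Nat.ble 2932 c)
noncomputable def Ptab_s_2929_2933 (c : Nat) : Nat := @Bool.rec (fun _ => Nat) (Ptab_s_2929_2931 c) (Ptab_s_2931_2933 c) (Nat.ble 2931 c)
noncomputable def Ptab_s_2933_2935 (c : Nat) : Nat := @Bool.rec (fun _ => Nat) (Ptab_2933) (Ptab_2934) (Nat.ble 2934 c)
noncomputable def Ptab_s_2935_2937 (c : Nat) : Nat := @Bool.rec (fun _ => Nat) (Ptab_2935) (Ptab_2936) (Nat.ble 2936 c)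
noncomputable def Ptab_s_2933_2937 (c : Nat) : Nat := @Bool.rec (fun _ => Nat) (Ptab_s_2933_2935 c) (Ptab_s_2935_2937 c) (Nat.ble 2935 c)
noncomputable def Ptab_s_2929_2937 (c : Nat) : Nat := @Bool.rec (fun _ => Nat) (Ptab_s_2929_2933 c) (Ptab_s_2933_2937 c) (Nat.ble 2933 c)
noncomputable def Ptab_s_2921_2937 (c : Nat) : Nat := @Bool.rec (fun _ => Nat) (Ptab_s_2921_2929 c) (Ptab_s_2929_2937 c) (Nat.ble 2929 c)
noncomputable def Ptab_s_2906_2937 (c : Nat) : Nat := @Bool.rec (fun _ => Nat) (Ptab_s_2906_2921 c) (Ptab_s_2921_2937 c) (Nat.ble 2921 c)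
noncomputable def Ptab_s_2875_2937 (c : Nat) : Nat := @Bool.rec (fun _ => Nat) (Ptab_s_2875_2906 c) (Ptab_s_2906_2937 c) (Nat.ble 2906 c)
noncomputable def Ptab_s_2814_2937 (c : Nat) : Nat := @Bool.rec (fun _ => Nat) (Ptab_s_2814_2875 c) (Ptab_s_2875_2937 c) (Nat.ble 2875 c)
noncomputable def Ptab_s_2692_2937 (c : Nat) : Nat := @Bool.rec (fun _ => Nat) (Ptab_s_2692_2814 c) (Ptab_s_2814_2937 c) (Nat.ble 2814 c)
noncomputable def Ptab_s_2447_2937 (c : Nat) : Nat := @Bool.rec (fun _ => Nat) (Ptab_s_2447_2692 c) (Ptab_s_2692_2937 c) (Nat.ble 2692 c)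
noncomputable def Ptab_s_1958_2937 (c : Nat) : Nat := @Bool.rec (fun _ => Nat) (Ptab_s_1958_2447 c) (Ptab_s_2447_2937 c) (Nat.ble 2447 c)
noncomputable def Ptab_s_2938_2940 (c : Nat) : Nat := @Bool.rec (fun _ => Nat) (Ptab_2938) (Ptab_2939) (Nat.ble 2939 c)
noncomputable def Ptab_s_2937_2940 (c : Nat) : Nat := @Bool.rec (fun _ => Nat) (Ptab_2937) (Ptab_s_2938_2940 c) (Nat.ble 2938 c)
noncomputable def Ptab_s_2940_2942 (c : Nat) : Nat := @Bool.rec (fun _ => Nat) (Ptab_2940) (Ptab_2941) (Nat.ble 2941 c)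
noncomputable def Ptab_s_2942_2944 (c : Nat) : Nat := @Bool.rec (fun _ => Nat) (Ptab_2942) (Ptab_2943) (Nat.ble 2943 c)
noncomputable def Ptab_s_2940_2944 (c : Nat) : Nat := @Bool.rec (fun _ => Nat) (Ptab_s_2940_2942 c) (Ptab_s_2942_2944 c) (Nat.ble 2942 c)
noncomputable def Ptab_s_2937_2944 (c : Nat) : Nat := @Bool.rec (fun _ => Nat) (Ptab_s_2937_2940 c) (Ptab_s_2940_2944 c) (Nat.ble 2940 c)
noncomputable def Ptab_s_2944_2946 (c : Nat) : Nat := @Bool.rec (fun _ => Nat) (Ptab_2944) (Ptab_2945) (Nat.ble 2945 c)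
noncomputable def Ptab_s_2946_2948 (c : Nat) : Nat := @Bool.rec (fun _ => Nat) (Ptab_2946) (Ptab_2947) (Nat.ble 2947 c)
noncomputable def Ptab_s_2944_2948 (c : Nat) : Nat := @Bool.rec (fun _ => Nat) (Ptab_s_2944_2946 c) (Ptab_s_2946_2948 c) (Nat.ble 2946 c)
noncomputable def Ptab_s_2948_2950 (c : Nat) : Nat := @Bool.rec (fun _ => Nat) (Ptab_2948) (Ptab_2949) (Nat.ble 2949 c)
noncomputable def Ptab_s_2950_2952 (c : Nat) : Nat := @Bool.rec (fun _ => Nat) (Ptab_2950) (Ptab_2951) (Nat.ble 2951 c)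
noncomputable def Ptab_s_2948_2952 (c : Nat) : Nat := @Bool.rec (fun _ => Nat) (Ptab_s_2948_2950 c) (Ptab_s_2950_2952 c) (Nat.ble 2950 c)
noncomputable def Ptab_s_2944_2952 (c : Nat) : Nat := @Bool.rec (fun _ => Nat) (Ptab_s_2944_2948 c) (Ptab_s_2948_2952 c) (Nat.ble 2948 c)
noncomputable def Ptab_s_2937_2952 (c : Nat) : Nat := @Bool.rec (fun _ => Nat) (Ptab_s_2937_2944 c) (Ptab_s_2944_2952 c) (Nat.ble 2944 c)
noncomputable def Ptab_s_2953_2955 (c : Nat) : Nat := @Bool.rec (fun _ => Nat) (Ptab_2953) (Ptab_2954) (Nat.ble 2954 c)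
noncomputable def Ptab_s_2952_2955 (c : Nat) : Nat := @Bool.rec (fun _ => Nat) (Ptab_2952) (Ptab_s_2953_2955 c) (Nat.ble 2953 c)
noncomputable def Ptab_s_2955_2957 (c : Nat) : Nat := @Bool.rec (fun _ => Nat) (Ptab_2955) (Ptab_2956) (Nat.ble 2956 c)
noncomputable def Ptab_s_2957_2959 (c : Nat) : Nat := @Bool.rec (fun _ => Nat) (Ptab_2957) (Ptab_2958) (Nat.ble 2958 c)
noncomputable def Ptab_s_2955_2959 (c : Nat) : Nat := @Bool.rec (fun _ => Nat) (Ptab_s_2955_2957 c) (Ptab_s_2957_2959 c) (Nat.ble 2957 c)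
noncomputable def Ptab_s_2952_2959 (c : Nat) : Nat := @Bool.rec (fun _ => Nat) (Ptab_s_2952_2955 c) (Ptab_s_2955_2959 c) (Nat.ble 2955 c)
noncomputable def Ptab_s_2959_2961 (c : Nat) : Nat := @Bool.rec (fun _ => Nat) (Ptab_2959) (Ptab_2960) (Nat.ble 2960 c)
noncomputable def Ptab_s_2961_2963 (c : Nat) : Nat := @Bool.rec (fun _ => Nat) (Ptab_2961) (Ptab_2962) (Nat.ble 2962 c)
noncomputable def Ptab_s_2959_2963 (c : Nat) : Nat := @Bool.rec (fun _ => Nat) (Ptab_s_2959_2961 c) (Ptab_s_2961_2963 c) (Nat.ble 2961 c)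
noncomputable def Ptab_s_2963_2965 (c : Nat) : Nat := @Bool.rec (fun _ => Nat) (Ptab_2963) (Ptab_2964) (Nat.ble 2964 c)
noncomputable def Ptab_s_2965_2967 (c : Nat) : Nat := @Bool.rec (fun _ => Nat) (Ptab_2965) (Ptab_2966) (Nat.ble 2966 c)
noncomputable def Ptab_s_2963_2967 (c : Nat) : Nat := @Bool.rec (fun _ => Nat) (Ptab_s_2963_2965 c) (Ptab_s_2965_2967 c) (Nat.ble 2965 c)
noncomputable def Ptab_s_2959_2967 (c : Nat) : Nat := @Bool.rec (fun _ => Nat) (Ptab_s_2959_2963 c) (Ptab_s_2963_2967 c) (Nat.ble 2963 c)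
noncomputable def Ptab_s_2952_2967 (c : Nat) : Nat := @Bool.rec (fun _ => Nat) (Ptab_s_2952_2959 c) (Ptab_s_2959_2967 c) (Nat.ble 2959 c)
noncomputable def Ptab_s_2937_2967 (c : Nat) : Nat := @Bool.rec (fun _ => Nat) (Ptab_s_2937_2952 c) (Ptab_s_2952_2967 c) (Nat.ble 2952 c)
noncomputable def Ptab_s_2968_2970 (c : Nat) : Nat := @Bool.rec (fun _ => Nat) (Ptab_2968) (Ptab_2969) (Nat.ble 2969 c)
noncomputable def Ptab_s_2967_2970 (c : Nat) : Nat := @Bool.rec (fun _ => Nat) (Ptab_2967) (Ptab_s_2968_2970 c) (Nat.ble 2968 c)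
noncomputable def Ptab_s_2970_2972 (c : Nat) : Nat := @Bool.rec (fun _ => Nat) (Ptab_2970) (Ptab_2971) (Nat.ble 2971 c)
noncomputable def Ptab_s_2972_2974 (c : Nat) : Nat := @Bool.rec (fun _ => Nat) (Ptab_2972) (Ptab_2973) (Nat.ble 2973 c)
noncomputable def Ptab_s_2970_2974 (c : Nat) : Nat := @Bool.rec (fun _ => Nat) (Ptab_s_2970_2972 c) (Ptab_s_2972_2974 c) (Nat.ble 2972 c)
noncomputable def Ptab_s_2967_2974 (c : Nat) : Nat := @Bool.rec (fun _ => Nat) (Ptab_s_2967_2970 c) (Ptab_s_2970_2974 c) (Nat.ble 2970 c)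
noncomputable def Ptab_s_2974_2976 (c : Nat) : Nat := @Bool.rec (fun _ => Nat) (Ptab_2974) (Ptab_2975) (Nat.ble 2975 c)
noncomputable def Ptab_s_2976_2978 (c : Nat) : Nat := @Bool.rec (fun _ => Nat) (Ptab_2976) (Ptab_2977) (Nat.ble 2977 c)
noncomputable def Ptab_s_2974_2978 (c : Nat) : Nat := @Bool.rec (fun _ => Nat) (Ptab_s_2974_2976 c) (Ptab_s_2976_2978 c) (Nat.ble 2976 c)
noncomputable def Ptab_s_2978_2980 (c : Nat) : Nat := @Bool.rec (fun _ => Nat) (Ptab_2978) (Ptab_2979) (Nat.ble 2979 c)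
noncomputable def Ptab_s_2980_2982 (c : Nat) : Nat := @Bool.rec (fun _ => Nat) (Ptab_2980) (Ptab_2981) (Nat.ble 2981 c)
noncomputable def Ptab_s_2978_2982 (c : Nat) : Nat := @Bool.rec (fun _ => Nat) (Ptab_s_2978_2980 c) (Ptab_s_2980_2982 c) (Nat.ble 2980 c)
noncomputable def Ptab_s_2974_2982 (c : Nat) : Nat := @Bool.rec (fun _ => Nat) (Ptab_s_2974_2978 c) (Ptab_s_2978_2982 c) (Nat.ble 2978 c)
noncomputable def Ptab_s_2967_2982 (c : Nat) : Nat := @Bool.rec (fun _ => Nat) (Ptab_s_2967_2974 c) (Ptab_s_2974_2982 c) (Nat.ble 2974 c)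
noncomputable def Ptab_s_2982_2984 (c : Nat) : Nat := @Bool.rec (fun _ => Nat) (Ptab_2982) (Ptab_2983) (Nat.ble 2983 c)
noncomputable def Ptab_s_2984_2986 (c : Nat) : Nat := @Bool.rec (fun _ => Nat) (Ptab_2984) (Ptab_2985) (Nat.ble 2985 c)
noncomputable def Ptab_s_2982_2986 (c : Nat) : Nat := @Bool.rec (fun _ => Nat) (Ptab_s_2982_2984 c) (Ptab_s_2984_2986 c) (Nat.ble 2984 c)
noncomputable def Ptab_s_2986_2988 (c : Nat) : Nat := @Bool.rec (fun _ => Nat) (Ptab_2986) (Ptab_2987) (Nat.ble 2987 c)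
noncomputable def Ptab_s_2988_2990 (c : Nat) : Nat := @Bool.rec (fun _ => Nat) (Ptab_2988) (Ptab_2989) (Nat.ble 2989 c)
noncomputable def Ptab_s_2986_2990 (c : Nat) : Nat := @Bool.rec (fun _ => Nat) (Ptab_s_2986_2988 c) (Ptab_s_2988_2990 c) (Nat.ble 2988 c)
noncomputable def Ptab_s_2982_2990 (c : Nat) : Nat := @Bool.rec (fun _ => Nat) (Ptab_s_2982_2986 c) (Ptab_s_2986_2990 c) (Nat.ble 2986 c)
noncomputable def Ptab_s_2990_2992 (c : Nat) : Nat := @Bool.rec (fun _ => Nat) (Ptab_2990) (Ptab_2991) (Nat.ble 2991 c)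
noncomputable def Ptab_s_2992_2994 (c : Nat) : Nat := @Bool.rec (fun _ => Nat) (Ptab_2992) (Ptab_2993) (Nat.ble 2993 c)
noncomputable def Ptab_s_2990_2994 (c : Nat) : Nat := @Bool.rec (fun _ => Nat) (Ptab_s_2990_2992 c) (Ptab_s_2992_2994 c) (Nat.ble 2992 c)
noncomputable def Ptab_s_2994_2996 (c : Nat) : Nat := @Bool.rec (fun _ => Nat) (Ptab_2994) (Ptab_2995) (Nat.ble 2995 c)
noncomputable def Ptab_s_2996_2998 (c : Nat) : Nat := @Bool.rec (fun _ => Nat) (Ptab_2996) (Ptab_2997) (Nat.ble 2997 c)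
noncomputable def Ptab_s_2994_2998 (c : Nat) : Nat := @Bool.rec (fun _ => Nat) (Ptab_s_2994_2996 c) (Ptab_s_2996_2998 c) (Nat.ble 2996 c)
noncomputable def Ptab_s_2990_2998 (c : Nat) : Nat := @Bool.rec (fun _ => Nat) (Ptab_s_2990_2994 c) (Ptab_s_2994_2998 c) (Nat.ble 2994 c)
noncomputable def Ptab_s_2982_2998 (c : Nat) : Nat := @Bool.rec (fun _ => Nat) (Ptab_s_2982_2990 c) (Ptab_s_2990_2998 c) (Nat.ble 2990 c)
noncomputable def Ptab_s_2967_2998 (c : Nat) : Nat := @Bool.rec (fun _ => Nat) (Ptab_s_2967_2982 c) (Ptab_s_2982_2998 c) (Nat.ble 2982 c)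
noncomputable def Ptab_s_2937_2998 (c : Nat) : Nat := @Bool.rec (fun _ => Nat) (Ptab_s_2937_2967 c) (Ptab_s_2967_2998 c) (Nat.ble 2967 c)
noncomputable def Ptab_s_2999_3001 (c : Nat) : Nat := @Bool.rec (fun _ => Nat) (Ptab_2999) (Ptab_3000) (Nat.ble 3000 c)
noncomputable def Ptab_s_2998_3001 (c : Nat) : Nat := @Bool.rec (fun _ => Nat) (Ptab_2998) (Ptab_s_2999_3001 c) (Nat.ble 2999 c)
noncomputable def Ptab_s_3001_3003 (c : Nat) : Nat := @Bool.rec (fun _ => Nat) (Ptab_3001) (Ptab_3002) (Nat.ble 3002 c)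
noncomputable def Ptab_s_3003_3005 (c : Nat) : Nat := @Bool.rec (fun _ => Nat) (Ptab_3003) (Ptab_3004) (Nat.ble 3004 c)
noncomputable def Ptab_s_3001_3005 (c : Nat) : Nat := @Bool.rec (fun _ => Nat) (Ptab_s_3001_3003 c) (Ptab_s_3003_3005 c) (Nat.ble 3003 c)
noncomputable def Ptab_s_2998_3005 (c : Nat) : Nat := @Bool.rec (fun _ => Nat) (Ptab_s_2998_3001 c) (Ptab_s_3001_3005 c) (Nat.ble 3001 c)
noncomputable def Ptab_s_3005_3007 (c : Nat) : Nat := @Bool.rec (fun _ => Nat) (Ptab_3005) (Ptab_3006) (Nat.ble 3006 c)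
noncomputable def Ptab_s_3007_3009 (c : Nat) : Nat := @Bool.rec (fun _ => Nat) (Ptab_3007) (Ptab_3008) (Nat.ble 3008 c)
noncomputable def Ptab_s_3005_3009 (c : Nat) : Nat := @Bool.rec (fun _ => Nat) (Ptab_s_3005_3007 c) (Ptab_s_3007_3009 c) (Nat.ble 3007 c)
noncomputable def Ptab_s_3009_3011 (c : Nat) : Nat := @Bool.rec (fun _ => Nat) (Ptab_3009) (Ptab_3010) (Nat.ble 3010 c)
noncomputable def Ptab_s_3011_3013 (c : Nat) : Nat := @Bool.rec (fun _ => Nat) (Ptab_3011) (Ptab_3012) (Nat.ble 3012 c)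
noncomputable def Ptab_s_3009_3013 (c : Nat) : Nat := @Bool.rec (fun _ => Nat) (Ptab_s_3009_3011 c) (Ptab_s_3011_3013 c) (Nat.ble 3011 c)
noncomputable def Ptab_s_3005_3013 (c : Nat) : Nat := @Bool.rec (fun _ => Nat) (Ptab_s_3005_3009 c) (Ptab_s_3009_3013 c) (Nat.ble 3009 c)
noncomputable def Ptab_s_2998_3013 (c : Nat) : Nat := @Bool.rec (fun _ => Nat) (Ptab_s_2998_3005 c) (Ptab_s_3005_3013 c) (Nat.ble 3005 c)
noncomputable def Ptab_s_3014_3016 (c : Nat) : Nat := @Bool.rec (fun _ => Nat) (Ptab_3014) (Ptab_3015) (Nat.ble 3015 c)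
noncomputable def Ptab_s_3013_3016 (c : Nat) : Nat := @Bool.rec (fun _ => Nat) (Ptab_3013) (Ptab_s_3014_3016 c) (Nat.ble 3014 c)
noncomputable def Ptab_s_3016_3018 (c : Nat) : Nat := @Bool.rec (fun _ => Nat) (Ptab_3016) (Ptab_3017) (Nat.ble 3017 c)
noncomputable def Ptab_s_3018_3020 (c : Nat) : Nat := @Bool.rec (fun _ => Nat) (Ptab_3018) (Ptab_3019) (Nat.ble 3019 c)
noncomputable def Ptab_s_3016_3020 (c : Nat) : Nat := @Bool.rec (fun _ => Nat) (Ptab_s_3016_3018 c) (Ptab_s_3018_3020 c) (Nat.ble 3018 c)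
noncomputable def Ptab_s_3013_3020 (c : Nat) : Nat := @Bool.rec (fun _ => Nat) (Ptab_s_3013_3016 c) (Ptab_s_3016_3020 c) (Nat.ble 3016 c)
noncomputable def Ptab_s_3020_3022 (c : Nat) : Nat := @Bool.rec (fun _ => Nat) (Ptab_3020) (Ptab_3021) (Nat.ble 3021 c)
noncomputable def Ptab_s_3022_3024 (c : Nat) : Nat := @Bool.rec (fun _ => Nat) (Ptab_3022) (Ptab_3023) (Nat.ble 3023 c)
noncomputable def Ptab_s_3020_3024 (c : Nat) : Nat := @Bool.rec (fun _ => Nat) (Ptab_s_3020_3022 c) (Ptab_s_3022_3024 c) (Nat.ble 3022 c)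
noncomputable def Ptab_s_3024_3026 (c : Nat) : Nat := @Bool.rec (fun _ => Nat) (Ptab_3024) (Ptab_3025) (Nat.ble 3025 c)
noncomputable def Ptab_s_3026_3028 (c : Nat) : Nat := @Bool.rec (fun _ => Nat) (Ptab_3026) (Ptab_3027) (Nat.ble 3027 c)
noncomputable def Ptab_s_3024_3028 (c : Nat) : Nat := @Bool.rec (fun _ => Nat) (Ptab_s_3024_3026 c) (Ptab_s_3026_3028 c) (Nat.ble 3026 c)
noncomputable def Ptab_s_3020_3028 (c : Nat) : Nat := @Bool.rec (fun _ => Nat) (Ptab_s_3020_3024 c) (Ptab_s_3024_3028 c) (Nat.ble 3024 c)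
noncomputable def Ptab_s_3013_3028 (c : Nat) : Nat := @Bool.rec (fun _ => Nat) (Ptab_s_3013_3020 c) (Ptab_s_3020_3028 c) (Nat.ble 3020 c)
noncomputable def Ptab_s_2998_3028 (c : Nat) : Nat := @Bool.rec (fun _ => Nat) (Ptab_s_2998_3013 c) (Ptab_s_3013_3028 c) (Nat.ble 3013 c)
noncomputable def Ptab_s_3029_3031 (c : Nat) : Nat := @Bool.rec (fun _ => Nat) (Ptab_3029) (Ptab_3030) (Nat.ble 3030 c)
noncomputable def Ptab_s_3028_3031 (c : Nat) : Nat := @Bool.rec (fun _ => Nat) (Ptab_3028) (Ptab_s_3029_3031 c) (Nat.ble 3029 c)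
noncomputable def Ptab_s_3031_3033 (c : Nat) : Nat := @Bool.rec (fun _ => Nat) (Ptab_3031) (Ptab_3032) (Nat.ble 3032 c)
noncomputable def Ptab_s_3033_3035 (c : Nat) : Nat := @Bool.rec (fun _ => Nat) (Ptab_3033) (Ptab_3034) (Nat.ble 3034 c)
noncomputable def Ptab_s_3031_3035 (c : Nat) : Nat := @Bool.rec (fun _ => Nat) (Ptab_s_3031_3033 c) (Ptab_s_3033_3035 c) (Nat.ble 3033 c)
noncomputable def Ptab_s_3028_3035 (c : Nat) : Nat := @Bool.rec (fun _ => Nat) (Ptab_s_3028_3031 c) (Ptab_s_3031_3035 c) (Nat.ble 3031 c)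
noncomputable def Ptab_s_3035_3037 (c : Nat) : Nat := @Bool.rec (fun _ => Nat) (Ptab_3035) (Ptab_3036) (Nat.ble 3036 c)
noncomputable def Ptab_s_3037_3039 (c : Nat) : Nat := @Bool.rec (fun _ => Nat) (Ptab_3037) (Ptab_3038) (Nat.ble 3038 c)
noncomputable def Ptab_s_3035_3039 (c : Nat) : Nat := @Bool.rec (fun _ => Nat) (Ptab_s_3035_3037 c) (Ptab_s_3037_3039 c) (Nat.ble 3037 c)
noncomputable def Ptab_s_3039_3041 (c : Nat) : Nat := @Bool.rec (fun _ => Nat) (Ptab_3039) (Ptab_3040) (Nat.ble 3040 c)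
noncomputable def Ptab_s_3041_3043 (c : Nat) : Nat := @Bool.rec (fun _ => Nat) (Ptab_3041) (Ptab_3042) (Nat.ble 3042 c)
noncomputable def Ptab_s_3039_3043 (c : Nat) : Nat := @Bool.rec (fun _ => Nat) (Ptab_s_3039_3041 c) (Ptab_s_3041_3043 c) (Nat.ble 3041 c)
noncomputable def Ptab_s_3035_3043 (c : Nat) : Nat := @Bool.rec (fun _ => Nat) (Ptab_s_3035_3039 c) (Ptab_s_3039_3043 c) (Nat.ble 3039 c)
noncomputable def Ptab_s_3028_3043 (c : Nat) : Nat := @Bool.rec (fun _ => Nat) (Ptab_s_3028_3035 c) (Ptab_s_3035_3043 c) (Nat.ble 3035 c)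
noncomputable def Ptab_s_3043_3045 (c : Nat) : Nat := @Bool.rec (fun _ => Nat) (Ptab_3043) (Ptab_3044) (Nat.ble 3044 c)
noncomputable def Ptab_s_3045_3047 (c : Nat) : Nat := @Bool.rec (fun _ => Nat) (Ptab_3045) (Ptab_3046) (Nat.ble 3046 c)
noncomputable def Ptab_s_3043_3047 (c : Nat) : Nat := @Bool.rec (fun _ => Nat) (Ptab_s_3043_3045 c) (Ptab_s_3045_3047 c) (Nat.ble 3045 c)
noncomputable def Ptab_s_3047_3049 (c : Nat) : Nat := @Bool.rec (fun _ => Nat) (Ptab_3047) (Ptab_3048) (Nat.ble 3048 c)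
noncomputable def Ptab_s_3049_3051 (c : Nat) : Nat := @Bool.rec (fun _ => Nat) (Ptab_3049) (Ptab_3050) (Nat.ble 3050 c)
noncomputable def Ptab_s_3047_3051 (c : Nat) : Nat := @Bool.rec (fun _ => Nat) (Ptab_s_3047_3049 c) (Ptab_s_3049_3051 c) (Nat.ble 3049 c)
noncomputable def Ptab_s_3043_3051 (c : Nat) : Nat := @Bool.rec (fun _ => Nat) (Ptab_s_3043_3047 c) (Ptab_s_3047_3051 c) (Nat.ble 3047 c)
noncomputable def Ptab_s_3051_3053 (c : Nat) : Nat := @Bool.rec (fun _ => Nat) (Ptab_3051) (Ptab_3052) (Nat.ble 3052 c)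
noncomputable def Ptab_s_3053_3055 (c : Nat) : Nat := @Bool.rec (fun _ => Nat) (Ptab_3053) (Ptab_3054) (Nat.ble 3054 c)
noncomputable def Ptab_s_3051_3055 (c : Nat) : Nat := @Bool.rec (fun _ => Nat) (Ptab_s_3051_3053 c) (Ptab_s_3053_3055 c) (Nat.ble 3053 c)
noncomputable def Ptab_s_3055_3057 (c : Nat) : Nat := @Bool.rec (fun _ => Nat) (Ptab_3055) (Ptab_3056) (Nat.ble 3056 c)
noncomputable def Ptab_s_3057_3059 (c : Nat) : Nat := @Bool.rec (fun _ => Nat) (Ptab_3057) (Ptab_3058) (Nat.ble 3058 c)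
noncomputable def Ptab_s_3055_3059 (c : Nat) : Nat := @Bool.rec (fun _ => Nat) (Ptab_s_3055_3057 c) (Ptab_s_3057_3059 c) (Nat.ble 3057 c)
noncomputable def Ptab_s_3051_3059 (c : Nat) : Nat := @Bool.rec (fun _ => Nat) (Ptab_s_3051_3055 c) (Ptab_s_3055_3059 c) (Nat.ble 3055 c)
noncomputable def Ptab_s_3043_3059 (c : Nat) : Nat := @Bool.rec (fun _ => Nat) (Ptab_s_3043_3051 c) (Ptab_s_3051_3059 c) (Nat.ble 3051 c)
noncomputable def Ptab_s_3028_3059 (c : Nat) : Nat := @Bool.rec (fun _ => Nat) (Ptab_s_3028_3043 c) (Ptab_s_3043_3059 c) (Nat.ble 3043 c)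
noncomputable def Ptab_s_2998_3059 (c : Nat) : Nat := @Bool.rec (fun _ => Nat) (Ptab_s_2998_3028 c) (Ptab_s_3028_3059 c) (Nat.ble 3028 c)
noncomputable def Ptab_s_2937_3059 (c : Nat) : Nat := @Bool.rec (fun _ => Nat) (Ptab_s_2937_2998 c) (Ptab_s_2998_3059 c) (Nat.ble 2998 c)
noncomputable def Ptab_s_3060_3062 (c : Nat) : Nat := @Bool.rec (fun _ => Nat) (Ptab_3060) (Ptab_3061) (Nat.ble 3061 c)
noncomputable def Ptab_s_3059_3062 (c : Nat) : Nat := @Bool.rec (fun _ => Nat) (Ptab_3059) (Ptab_s_3060_3062 c) (Nat.ble 3060 c)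
noncomputable def Ptab_s_3062_3064 (c : Nat) : Nat := @Bool.rec (fun _ => Nat) (Ptab_3062) (Ptab_3063) (Nat.ble 3063 c)
noncomputable def Ptab_s_3064_3066 (c : Nat) : Nat := @Bool.rec (fun _ => Nat) (Ptab_3064) (Ptab_3065) (Nat.ble 3065 c)
noncomputable def Ptab_s_3062_3066 (c : Nat) : Nat := @Bool.rec (fun _ => Nat) (Ptab_s_3062_3064 c) (Ptab_s_3064_3066 c) (Nat.ble 3064 c)
noncomputable def Ptab_s_3059_3066 (c : Nat) : Nat := @Bool.rec (fun _ => Nat) (Ptab_s_3059_3062 c) (Ptab_s_3062_3066 c) (Nat.ble 3062 c)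
noncomputable def Ptab_s_3066_3068 (c : Nat) : Nat := @Bool.rec (fun _ => Nat) (Ptab_3066) (Ptab_3067) (Nat.ble 3067 c)
noncomputable def Ptab_s_3068_3070 (c : Nat) : Nat := @Bool.rec (fun _ => Nat) (Ptab_3068) (Ptab_3069) (Nat.ble 3069 c)
noncomputable def Ptab_s_3066_3070 (c : Nat) : Nat := @Bool.rec (fun _ => Nat) (Ptab_s_3066_3068 c) (Ptab_s_3068_3070 c) (Nat.ble 3068 c)
noncomputable def Ptab_s_3070_3072 (c : Nat) : Nat := @Bool.rec (fun _ => Nat) (Ptab_3070) (Ptab_3071) (Nat.ble 3071 c)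
noncomputable def Ptab_s_3072_3074 (c : Nat) : Nat := @Bool.rec (fun _ => Nat) (Ptab_3072) (Ptab_3073) (Nat.ble 3073 c)
noncomputable def Ptab_s_3070_3074 (c : Nat) : Nat := @Bool.rec (fun _ => Nat) (Ptab_s_3070_3072 c) (Ptab_s_3072_3074 c) (Nat.ble 3072 c)
noncomputable def Ptab_s_3066_3074 (c : Nat) : Nat := @Bool.rec (fun _ => Nat) (Ptab_s_3066_3070 c) (Ptab_s_3070_3074 c) (Nat.ble 3070 c)
noncomputable def Ptab_s_3059_3074 (c : Nat) : Nat := @Bool.rec (fun _ => Nat) (Ptab_s_3059_3066 c) (Ptab_s_3066_3074 c) (Nat.ble 3066 c)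
noncomputable def Ptab_s_3075_3077 (c : Nat) : Nat := @Bool.rec (fun _ => Nat) (Ptab_3075) (Ptab_3076) (Nat.ble 3076 c)
noncomputable def Ptab_s_3074_3077 (c : Nat) : Nat := @Bool.rec (fun _ => Nat) (Ptab_3074) (Ptab_s_3075_3077 c) (Nat.ble 3075 c)
noncomputable def Ptab_s_3077_3079 (c : Nat) : Nat := @Bool.rec (fun _ => Nat) (Ptab_3077) (Ptab_3078) (Nat.ble 3078 c)
noncomputable def Ptab_s_3079_3081 (c : Nat) : Nat := @Bool.rec (fun _ => Nat) (Ptab_3079) (Ptab_3080) (Nat.ble 3080 c)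
noncomputable def Ptab_s_3077_3081 (c : Nat) : Nat := @Bool.rec (fun _ => Nat) (Ptab_s_3077_3079 c) (Ptab_s_3079_3081 c) (Nat.ble 3079 c)
noncomputable def Ptab_s_3074_3081 (c : Nat) : Nat := @Bool.rec (fun _ => Nat) (Ptab_s_3074_3077 c) (Ptab_s_3077_3081 c) (Nat.ble 3077 c)
noncomputable def Ptab_s_3081_3083 (c : Nat) : Nat := @Bool.rec (fun _ => Nat) (Ptab_3081) (Ptab_3082) (Nat.ble 3082 c)
noncomputable def Ptab_s_3083_3085 (c : Nat) : Nat := @Bool.rec (fun _ => Nat) (Ptab_3083) (Ptab_3084) (Nat.ble 3084 c)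
noncomputable def Ptab_s_3081_3085 (c : Nat) : Nat := @Bool.rec (fun _ => Nat) (Ptab_s_3081_3083 c) (Ptab_s_3083_3085 c) (Nat.ble 3083 c)
noncomputable def Ptab_s_3085_3087 (c : Nat) : Nat := @Bool.rec (fun _ => Nat) (Ptab_3085) (Ptab_3086) (Nat.ble 3086 c)
noncomputable def Ptab_s_3087_3089 (c : Nat) : Nat := @Bool.rec (fun _ => Nat) (Ptab_3087) (Ptab_3088) (Nat.ble 3088 c)
noncomputable def Ptab_s_3085_3089 (c : Nat) : Nat := @Bool.rec (fun _ => Nat) (Ptab_s_3085_3087 c) (Ptab_s_3087_3089 c) (Nat.ble 3087 c)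
noncomputable def Ptab_s_3081_3089 (c : Nat) : Nat := @Bool.rec (fun _ => Nat) (Ptab_s_3081_3085 c) (Ptab_s_3085_3089 c) (Nat.ble 3085 c)
noncomputable def Ptab_s_3074_3089 (c : Nat) : Nat := @Bool.rec (fun _ => Nat) (Ptab_s_3074_3081 c) (Ptab_s_3081_3089 c) (Nat.ble 3081 c)
noncomputable def Ptab_s_3059_3089 (c : Nat) : Nat := @Bool.rec (fun _ => Nat) (Ptab_s_3059_3074 c) (Ptab_s_3074_3089 c) (Nat.ble 3074 c)
noncomputable def Ptab_s_3090_3092 (c : Nat) : Nat := @Bool.rec (fun _ => Nat) (Ptab_3090) (Ptab_3091) (Nat.ble 3091 c)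
noncomputable def Ptab_s_3089_3092 (c : Nat) : Nat := @Bool.rec (fun _ => Nat) (Ptab_3089) (Ptab_s_3090_3092 c) (Nat.ble 3090 c)
noncomputable def Ptab_s_3092_3094 (c : Nat) : Nat := @Bool.rec (fun _ => Nat) (Ptab_3092) (Ptab_3093) (Nat.ble 3093 c)
noncomputable def Ptab_s_3094_3096 (c : Nat) : Nat := @Bool.rec (fun _ => Nat) (Ptab_3094) (Ptab_3095) (Nat.ble 3095 c)
noncomputable def Ptab_s_3092_3096 (c : Nat) : Nat := @Bool.rec (fun _ => Nat) (Ptab_s_3092_3094 c) (Ptab_s_3094_3096 c) (Nat.ble 3094 c)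
noncomputable def Ptab_s_3089_3096 (c : Nat) : Nat := @Bool.rec (fun _ => Nat) (Ptab_s_3089_3092 c) (Ptab_s_3092_3096 c) (Nat.ble 3092 c)
noncomputable def Ptab_s_3096_3098 (c : Nat) : Nat := @Bool.rec (fun _ => Nat) (Ptab_3096) (Ptab_3097) (Nat.ble 3097 c)
noncomputable def Ptab_s_3098_3100 (c : Nat) : Nat := @Bool.rec (fun _ => Nat) (Ptab_3098) (Ptab_3099) (Nat.ble 3099 c)
noncomputable def Ptab_s_3096_3100 (c : Nat) : Nat := @Bool.rec (fun _ => Nat) (Ptab_s_3096_3098 c) (Ptab_s_3098_3100 c) (Nat.ble 3098 c)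
noncomputable def Ptab_s_3100_3102 (c : Nat) : Nat := @Bool.rec (fun _ => Nat) (Ptab_3100) (Ptab_3101) (Nat.ble 3101 c)
noncomputable def Ptab_s_3102_3104 (c : Nat) : Nat := @Bool.rec (fun _ => Nat) (Ptab_3102) (Ptab_3103) (Nat.ble 3103 c)
noncomputable def Ptab_s_3100_3104 (c : Nat) : Nat := @Bool.rec (fun _ => Nat) (Ptab_s_3100_3102 c) (Ptab_s_3102_3104 c) (Nat.ble 3102 c)
noncomputable def Ptab_s_3096_3104 (c : Nat) : Nat := @Bool.rec (fun _ => Nat) (Ptab_s_3096_3100 c) (Ptab_s_3100_3104 c) (Nat.ble 3100 c)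
noncomputable def Ptab_s_3089_3104 (c : Nat) : Nat := @Bool.rec (fun _ => Nat) (Ptab_s_3089_3096 c) (Ptab_s_3096_3104 c) (Nat.ble 3096 c)
noncomputable def Ptab_s_3104_3106 (c : Nat) : Nat := @Bool.rec (fun _ => Nat) (Ptab_3104) (Ptab_3105) (Nat.ble 3105 c)
noncomputable def Ptab_s_3106_3108 (c : Nat) : Nat := @Bool.rec (fun _ => Nat) (Ptab_3106) (Ptab_3107) (Nat.ble 3107 c)
noncomputable def Ptab_s_3104_3108 (c : Nat) : Nat := @Bool.rec (fun _ => Nat) (Ptab_s_3104_3106 c) (Ptab_s_3106_3108 c) (Nat.ble 3106 c)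
noncomputable def Ptab_s_3108_3110 (c : Nat) : Nat := @Bool.rec (fun _ => Nat) (Ptab_3108) (Ptab_3109) (Nat.ble 3109 c)
noncomputable def Ptab_s_3110_3112 (c : Nat) : Nat := @Bool.rec (fun _ => Nat) (Ptab_3110) (Ptab_3111) (Nat.ble 3111 c)
noncomputable def Ptab_s_3108_3112 (c : Nat) : Nat := @Bool.rec (fun _ => Nat) (Ptab_s_3108_3110 c) (Ptab_s_3110_3112 c) (Nat.ble 3110 c)
noncomputable def Ptab_s_3104_3112 (c : Nat) : Nat := @Bool.rec (fun _ => Nat) (Ptab_s_3104_3108 c) (Ptab_s_3108_3112 c) (Nat.ble 3108 c)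
noncomputable def Ptab_s_3112_3114 (c : Nat) : Nat := @Bool.rec (fun _ => Nat) (Ptab_3112) (Ptab_3113) (Nat.ble 3113 c)
noncomputable def Ptab_s_3114_3116 (c : Nat) : Nat := @Bool.rec (fun _ => Nat) (Ptab_3114) (Ptab_3115) (Nat.ble 3115 c)
noncomputable def Ptab_s_3112_3116 (c : Nat) : Nat := @Bool.rec (fun _ => Nat) (Ptab_s_3112_3114 c) (Ptab_s_3114_3116 c) (Nat.ble 3114 c)
noncomputable def Ptab_s_3116_3118 (c : Nat) : Nat := @Bool.rec (fun _ => Nat) (Ptab_3116) (Ptab_3117) (Nat.ble 3117 c)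
noncomputable def Ptab_s_3118_3120 (c : Nat) : Nat := @Bool.rec (fun _ => Nat) (Ptab_3118) (Ptab_3119) (Nat.ble 3119 c)
noncomputable def Ptab_s_3116_3120 (c : Nat) : Nat := @Bool.rec (fun _ => Nat) (Ptab_s_3116_3118 c) (Ptab_s_3118_3120 c) (Nat.ble 3118 c)
noncomputable def Ptab_s_3112_3120 (c : Nat) : Nat := @Bool.rec (fun _ => Nat) (Ptab_s_3112_3116 c) (Ptab_s_3116_3120 c) (Nat.ble 3116 c)
noncomputable def Ptab_s_3104_3120 (c : Nat) : Nat := @Bool.rec (fun _ => Nat) (Ptab_s_3104_3112 c) (Ptab_s_3112_3120 c) (Nat.ble 3112 c)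
noncomputable def Ptab_s_3089_3120 (c : Nat) : Nat := @Bool.rec (fun _ => Nat) (Ptab_s_3089_3104 c) (Ptab_s_3104_3120 c) (Nat.ble 3104 c)
noncomputable def Ptab_s_3059_3120 (c : Nat) : Nat := @Bool.rec (fun _ => Nat) (Ptab_s_3059_3089 c) (Ptab_s_3089_3120 c) (Nat.ble 3089 c)
noncomputable def Ptab_s_3121_3123 (c : Nat) : Nat := @Bool.rec (fun _ => Nat) (Ptab_3121) (Ptab_3122) (Nat.ble 3122 c)
noncomputable def Ptab_s_3120_3123 (c : Nat) : Nat := @Bool.rec (fun _ => Nat) (Ptab_3120) (Ptab_s_3121_3123 c) (Nat.ble 3121 c)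
noncomputable def Ptab_s_3123_3125 (c : Nat) : Nat := @Bool.rec (fun _ => Nat) (Ptab_3123) (Ptab_3124) (Nat.ble 3124 c)
noncomputable def Ptab_s_3125_3127 (c : Nat) : Nat := @Bool.rec (fun _ => Nat) (Ptab_3125) (Ptab_3126) (Nat.ble 3126 c)
noncomputable def Ptab_s_3123_3127 (c : Nat) : Nat := @Bool.rec (fun _ => Nat) (Ptab_s_3123_3125 c) (Ptab_s_3125_3127 c) (Nat.ble 3125 c)
noncomputable def Ptab_s_3120_3127 (c : Nat) : Nat := @Bool.rec (fun _ => Nat) (Ptab_s_3120_3123 c) (Ptab_s_3123_3127 c) (Nat.ble 3123 c)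
noncomputable def Ptab_s_3127_3129 (c : Nat) : Nat := @Bool.rec (fun _ => Nat) (Ptab_3127) (Ptab_3128) (Nat.ble 3128 c)
noncomputable def Ptab_s_3129_3131 (c : Nat) : Nat := @Bool.rec (fun _ => Nat) (Ptab_3129) (Ptab_3130) (Nat.ble 3130 c)
noncomputable def Ptab_s_3127_3131 (c : Nat) : Nat := @Bool.rec (fun _ => Nat) (Ptab_s_3127_3129 c) (Ptab_s_3129_3131 c) (Nat.ble 3129 c)
noncomputable def Ptab_s_3131_3133 (c : Nat) : Nat := @Bool.rec (fun _ => Nat) (Ptab_3131) (Ptab_3132) (Nat.ble 3132 c)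
noncomputable def Ptab_s_3133_3135 (c : Nat) : Nat := @Bool.rec (fun _ => Nat) (Ptab_3133) (Ptab_3134) (Nat.ble 3134 c)
noncomputable def Ptab_s_3131_3135 (c : Nat) : Nat := @Bool.rec (fun _ => Nat) (Ptab_s_3131_3133 c) (Ptab_s_3133_3135 c) (Nat.ble 3133 c)
noncomputable def Ptab_s_3127_3135 (c : Nat) : Nat := @Bool.rec (fun _ => Nat) (Ptab_s_3127_3131 c) (Ptab_s_3131_3135 c) (Nat.ble 3131 c)
noncomputable def Ptab_s_3120_3135 (c : Nat) : Nat := @Bool.rec (fun _ => Nat) (Ptab_s_3120_3127 c) (Ptab_s_3127_3135 c) (Nat.ble 3127 c)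
noncomputable def Ptab_s_3136_3138 (c : Nat) : Nat := @Bool.rec (fun _ => Nat) (Ptab_3136) (Ptab_3137) (Nat.ble 3137 c)
noncomputable def Ptab_s_3135_3138 (c : Nat) : Nat := @Bool.rec (fun _ => Nat) (Ptab_3135) (Ptab_s_3136_3138 c) (Nat.ble 3136 c)
noncomputable def Ptab_s_3138_3140 (c : Nat) : Nat := @Bool.rec (fun _ => Nat) (Ptab_3138) (Ptab_3139) (Nat.ble 3139 c)
noncomputable def Ptab_s_3140_3142 (c : Nat) : Nat := @Bool.rec (fun _ => Nat) (Ptab_3140) (Ptab_3141) (Nat.ble 3141 c)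
noncomputable def Ptab_s_3138_3142 (c : Nat) : Nat := @Bool.rec (fun _ => Nat) (Ptab_s_3138_3140 c) (Ptab_s_3140_3142 c) (Nat.ble 3140 c)
noncomputable def Ptab_s_3135_3142 (c : Nat) : Nat := @Bool.rec (fun _ => Nat) (Ptab_s_3135_3138 c) (Ptab_s_3138_3142 c) (Nat.ble 3138 c)
noncomputable def Ptab_s_3142_3144 (c : Nat) : Nat := @Bool.rec (fun _ => Nat) (Ptab_3142) (Ptab_3143) (Nat.ble 3143 c)
noncomputable def Ptab_s_3144_3146 (c : Nat) : Nat := @Bool.rec (fun _ => Nat) (Ptab_3144) (Ptab_3145) (Nat.ble 3145 c)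
noncomputable def Ptab_s_3142_3146 (c : Nat) : Nat := @Bool.rec (fun _ => Nat) (Ptab_s_3142_3144 c) (Ptab_s_3144_3146 c) (Nat.ble 3144 c)
noncomputable def Ptab_s_3146_3148 (c : Nat) : Nat := @Bool.rec (fun _ => Nat) (Ptab_3146) (Ptab_3147) (Nat.ble 3147 c)
noncomputable def Ptab_s_3148_3150 (c : Nat) : Nat := @Bool.rec (fun _ => Nat) (Ptab_3148) (Ptab_3149) (Nat.ble 3149 c)
noncomputable def Ptab_s_3146_3150 (c : Nat) : Nat := @Bool.rec (fun _ => Nat) (Ptab_s_3146_3148 c) (Ptab_s_3148_3150 c) (Nat.ble 3148 c)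
noncomputable def Ptab_s_3142_3150 (c : Nat) : Nat := @Bool.rec (fun _ => Nat) (Ptab_s_3142_3146 c) (Ptab_s_3146_3150 c) (Nat.ble 3146 c)
noncomputable def Ptab_s_3135_3150 (c : Nat) : Nat := @Bool.rec (fun _ => Nat) (Ptab_s_3135_3142 c) (Ptab_s_3142_3150 c) (Nat.ble 3142 c)
noncomputable def Ptab_s_3120_3150 (c : Nat) : Nat := @Bool.rec (fun _ => Nat) (Ptab_s_3120_3135 c) (Ptab_s_3135_3150 c) (Nat.ble 3135 c)
noncomputable def Ptab_s_3151_3153 (c : Nat) : Nat := @Bool.rec (fun _ => Nat) (Ptab_3151) (Ptab_3152) (Nat.ble 3152 c)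
noncomputable def Ptab_s_3150_3153 (c : Nat) : Nat := @Bool.rec (fun _ => Nat) (Ptab_3150) (Ptab_s_3151_3153 c) (Nat.ble 3151 c)
noncomputable def Ptab_s_3153_3155 (c : Nat) : Nat := @Bool.rec (fun _ => Nat) (Ptab_3153) (Ptab_3154) (Nat.ble 3154 c)
noncomputable def Ptab_s_3155_3157 (c : Nat) : Nat := @Bool.rec (fun _ => Nat) (Ptab_3155) (Ptab_3156) (Nat.ble 3156 c)
noncomputable def Ptab_s_3153_3157 (c : Nat) : Nat := @Bool.rec (fun _ => Nat) (Ptab_s_3153_3155 c) (Ptab_s_3155_3157 c) (Nat.ble 3155 c)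
noncomputable def Ptab_s_3150_3157 (c : Nat) : Nat := @Bool.rec (fun _ => Nat) (Ptab_s_3150_3153 c) (Ptab_s_3153_3157 c) (Nat.ble 3153 c)
noncomputable def Ptab_s_3157_3159 (c : Nat) : Nat := @Bool.rec (fun _ => Nat) (Ptab_3157) (Ptab_3158) (Nat.ble 3158 c)
noncomputable def Ptab_s_3159_3161 (c : Nat) : Nat := @Bool.rec (fun _ => Nat) (Ptab_3159) (Ptab_3160) (Nat.ble 3160 c)
noncomputable def Ptab_s_3157_3161 (c : Nat) : Nat := @Bool.rec (fun _ => Nat) (Ptab_s_3157_3159 c) (Ptab_s_3159_3161 c) (Nat.ble 3159 c)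
noncomputable def Ptab_s_3161_3163 (c : Nat) : Nat := @Bool.rec (fun _ => Nat) (Ptab_3161) (Ptab_3162) (Nat.ble 3162 c)
noncomputable def Ptab_s_3163_3165 (c : Nat) : Nat := @Bool.rec (fun _ => Nat) (Ptab_3163) (Ptab_3164) (Nat.ble 3164 c)
noncomputable def Ptab_s_3161_3165 (c : Nat) : Nat := @Bool.rec (fun _ => Nat) (Ptab_s_3161_3163 c) (Ptab_s_3163_3165 c) (Nat.ble 3163 c)
noncomputable def Ptab_s_3157_3165 (c : Nat) : Nat := @Bool.rec (fun _ => Nat) (Ptab_s_3157_3161 c) (Ptab_s_3161_3165 c) (Nat.ble 3161 c)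
noncomputable def Ptab_s_3150_3165 (c : Nat) : Nat := @Bool.rec (fun _ => Nat) (Ptab_s_3150_3157 c) (Ptab_s_3157_3165 c) (Nat.ble 3157 c)
noncomputable def Ptab_s_3165_3167 (c : Nat) : Nat := @Bool.rec (fun _ => Nat) (Ptab_3165) (Ptab_3166) (Nat.ble 3166 c)
noncomputable def Ptab_s_3167_3169 (c : Nat) : Nat := @Bool.rec (fun _ => Nat) (Ptab_3167) (Ptab_3168) (Nat.ble 3168 c)
noncomputable def Ptab_s_3165_3169 (c : Nat) : Nat := @Bool.rec (fun _ => Nat) (Ptab_s_3165_3167 c) (Ptab_s_3167_3169 c) (Nat.ble 3167 c)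
noncomputable def Ptab_s_3169_3171 (c : Nat) : Nat := @Bool.rec (fun _ => Nat) (Ptab_3169) (Ptab_3170) (Nat.ble 3170 c)
noncomputable def Ptab_s_3171_3173 (c : Nat) : Nat := @Bool.rec (fun _ => Nat) (Ptab_3171) (Ptab_3172) (Nat.ble 3172 c)
noncomputable def Ptab_s_3169_3173 (c : Nat) : Nat := @Bool.rec (fun _ => Nat) (Ptab_s_3169_3171 c) (Ptab_s_3171_3173 c) (Nat.ble 3171 c)
noncomputable def Ptab_s_3165_3173 (c : Nat) : Nat := @Bool.rec (fun _ => Nat) (Ptab_s_3165_3169 c) (Ptab_s_3169_3173 c) (Nat.ble 3169 c)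
noncomputable def Ptab_s_3173_3175 (c : Nat) : Nat := @Bool.rec (fun _ => Nat) (Ptab_3173) (Ptab_3174) (Nat.ble 3174 c)
noncomputable def Ptab_s_3175_3177 (c : Nat) : Nat := @Bool.rec (fun _ => Nat) (Ptab_3175) (Ptab_3176) (Nat.ble 3176 c)
noncomputable def Ptab_s_3173_3177 (c : Nat) : Nat := @Bool.rec (fun _ => Nat) (Ptab_s_3173_3175 c) (Ptab_s_3175_3177 c) (Nat.ble 3175 c)
noncomputable def Ptab_s_3177_3179 (c : Nat) : Nat := @Bool.rec (fun _ => Nat) (Ptab_3177) (Ptab_3178) (Nat.ble 3178 c)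
noncomputable def Ptab_s_3179_3181 (c : Nat) : Nat := @Bool.rec (fun _ => Nat) (Ptab_3179) (Ptab_3180) (Nat.ble 3180 c)
noncomputable def Ptab_s_3177_3181 (c : Nat) : Nat := @Bool.rec (fun _ => Nat) (Ptab_s_3177_3179 c) (Ptab_s_3179_3181 c) (Nat.ble 3179 c)
noncomputable def Ptab_s_3173_3181 (c : Nat) : Nat := @Bool.rec (fun _ => Nat) (Ptab_s_3173_3177 c) (Ptab_s_3177_3181 c) (Nat.ble 3177 c)
noncomputable def Ptab_s_3165_3181 (c : Nat) : Nat := @Bool.rec (fun _ => Nat) (Ptab_s_3165_3173 c) (Ptab_s_3173_3181 c) (Nat.ble 3173 c)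
noncomputable def Ptab_s_3150_3181 (c : Nat) : Nat := @Bool.rec (fun _ => Nat) (Ptab_s_3150_3165 c) (Ptab_s_3165_3181 c) (Nat.ble 3165 c)
noncomputable def Ptab_s_3120_3181 (c : Nat) : Nat := @Bool.rec (fun _ => Nat) (Ptab_s_3120_3150 c) (Ptab_s_3150_3181 c) (Nat.ble 3150 c)
noncomputable def Ptab_s_3059_3181 (c : Nat) : Nat := @Bool.rec (fun _ => Nat) (Ptab_s_3059_3120 c) (Ptab_s_3120_3181 c) (Nat.ble 3120 c)
noncomputable def Ptab_s_2937_3181 (c : Nat) : Nat := @Bool.rec (fun _ => Nat) (Ptab_s_2937_3059 c) (Ptab_s_3059_3181 c) (Nat.ble 3059 c)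
noncomputable def Ptab_s_3182_3184 (c : Nat) : Nat := @Bool.rec (fun _ => Nat) (Ptab_3182) (Ptab_3183) (Nat.ble 3183 c)
noncomputable def Ptab_s_3181_3184 (c : Nat) : Nat := @Bool.rec (fun _ => Nat) (Ptab_3181) (Ptab_s_3182_3184 c) (Nat.ble 3182 c)
noncomputable def Ptab_s_3184_3186 (c : Nat) : Nat := @Bool.rec (fun _ => Nat) (Ptab_3184) (Ptab_3185) (Nat.ble 3185 c)
noncomputable def Ptab_s_3186_3188 (c : Nat) : Nat := @Bool.rec (fun _ => Nat) (Ptab_3186) (Ptab_3187) (Nat.ble 3187 c)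
noncomputable def Ptab_s_3184_3188 (c : Nat) : Nat := @Bool.rec (fun _ => Nat) (Ptab_s_3184_3186 c) (Ptab_s_3186_3188 c) (Nat.ble 3186 c)
noncomputable def Ptab_s_3181_3188 (c : Nat) : Nat := @Bool.rec (fun _ => Nat) (Ptab_s_3181_3184 c) (Ptab_s_3184_3188 c) (Nat.ble 3184 c)
noncomputable def Ptab_s_3188_3190 (c : Nat) : Nat := @Bool.rec (fun _ => Nat) (Ptab_3188) (Ptab_3189) (Nat.ble 3189 c)
noncomputable def Ptab_s_3190_3192 (c : Nat) : Nat := @Bool.rec (fun _ => Nat) (Ptab_3190) (Ptab_3191) (Nat.ble 3191 c)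
noncomputable def Ptab_s_3188_3192 (c : Nat) : Nat := @Bool.rec (fun _ => Nat) (Ptab_s_3188_3190 c) (Ptab_s_3190_3192 c) (Nat.ble 3190 c)
noncomputable def Ptab_s_3192_3194 (c : Nat) : Nat := @Bool.rec (fun _ => Nat) (Ptab_3192) (Ptab_3193) (Nat.ble 3193 c)
noncomputable def Ptab_s_3194_3196 (c : Nat) : Nat := @Bool.rec (fun _ => Nat) (Ptab_3194) (Ptab_3195) (Nat.ble 3195 c)
noncomputable def Ptab_s_3192_3196 (c : Nat) : Nat := @Bool.rec (fun _ => Nat) (Ptab_s_3192_3194 c) (Ptab_s_3194_3196 c) (Nat.ble 3194 c)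
noncomputable def Ptab_s_3188_3196 (c : Nat) : Nat := @Bool.rec (fun _ => Nat) (Ptab_s_3188_3192 c) (Ptab_s_3192_3196 c) (Nat.ble 3192 c)
noncomputable def Ptab_s_3181_3196 (c : Nat) : Nat := @Bool.rec (fun _ => Nat) (Ptab_s_3181_3188 c) (Ptab_s_3188_3196 c) (Nat.ble 3188 c)
noncomputable def Ptab_s_3197_3199 (c : Nat) : Nat := @Bool.rec (fun _ => Nat) (Ptab_3197) (Ptab_3198) (Nat.ble 3198 c)
noncomputable def Ptab_s_3196_3199 (c : Nat) : Nat := @Bool.rec (fun _ => Nat) (Ptab_3196) (Ptab_s_3197_3199 c) (Nat.ble 3197 c)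
noncomputable def Ptab_s_3199_3201 (c : Nat) : Nat := @Bool.rec (fun _ => Nat) (Ptab_3199) (Ptab_3200) (Nat.ble 3200 c)
noncomputable def Ptab_s_3201_3203 (c : Nat) : Nat := @Bool.rec (fun _ => Nat) (Ptab_3201) (Ptab_3202) (Nat.ble 3202 c)
noncomputable def Ptab_s_3199_3203 (c : Nat) : Nat := @Bool.rec (fun _ => Nat) (Ptab_s_3199_3201 c) (Ptab_s_3201_3203 c) (Nat.ble 3201 c)
noncomputable def Ptab_s_3196_3203 (c : Nat) : Nat := @Bool.rec (fun _ => Nat) (Ptab_s_3196_3199 c) (Ptab_s_3199_3203 c) (Nat.ble 3199 c)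
noncomputable def Ptab_s_3203_3205 (c : Nat) : Nat := @Bool.rec (fun _ => Nat) (Ptab_3203) (Ptab_3204) (Nat.ble 3204 c)
noncomputable def Ptab_s_3205_3207 (c : Nat) : Nat := @Bool.rec (fun _ => Nat) (Ptab_3205) (Ptab_3206) (Nat.ble 3206 c)
noncomputable def Ptab_s_3203_3207 (c : Nat) : Nat := @Bool.rec (fun _ => Nat) (Ptab_s_3203_3205 c) (Ptab_s_3205_3207 c) (Nat.ble 3205 c)
noncomputable def Ptab_s_3207_3209 (c : Nat) : Nat := @Bool.rec (fun _ => Nat) (Ptab_3207) (Ptab_3208) (Nat.ble 3208 c)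
noncomputable def Ptab_s_3209_3211 (c : Nat) : Nat := @Bool.rec (fun _ => Nat) (Ptab_3209) (Ptab_3210) (Nat.ble 3210 c)
noncomputable def Ptab_s_3207_3211 (c : Nat) : Nat := @Bool.rec (fun _ => Nat) (Ptab_s_3207_3209 c) (Ptab_s_3209_3211 c) (Nat.ble 3209 c)
noncomputable def Ptab_s_3203_3211 (c : Nat) : Nat := @Bool.rec (fun _ => Nat) (Ptab_s_3203_3207 c) (Ptab_s_3207_3211 c) (Nat.ble 3207 c)
noncomputable def Ptab_s_3196_3211 (c : Nat) : Nat := @Bool.rec (fun _ => Nat) (Ptab_s_3196_3203 c) (Ptab_s_3203_3211 c) (Nat.ble 3203 c)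
noncomputable def Ptab_s_3181_3211 (c : Nat) : Nat := @Bool.rec (fun _ => Nat) (Ptab_s_3181_3196 c) (Ptab_s_3196_3211 c) (Nat.ble 3196 c)
noncomputable def Ptab_s_3212_3214 (c : Nat) : Nat := @Bool.rec (fun _ => Nat) (Ptab_3212) (Ptab_3213) (Nat.ble 3213 c)
noncomputable def Ptab_s_3211_3214 (c : Nat) : Nat := @Bool.rec (fun _ => Nat) (Ptab_3211) (Ptab_s_3212_3214 c) (Nat.ble 3212 c)
noncomputable def Ptab_s_3214_3216 (c : Nat) : Nat := @Bool.rec (fun _ => Nat) (Ptab_3214) (Ptab_3215) (Nat.ble 3215 c)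
noncomputable def Ptab_s_3216_3218 (c : Nat) : Nat := @Bool.rec (fun _ => Nat) (Ptab_3216) (Ptab_3217) (Nat.ble 3217 c)
noncomputable def Ptab_s_3214_3218 (c : Nat) : Nat := @Bool.rec (fun _ => Nat) (Ptab_s_3214_3216 c) (Ptab_s_3216_3218 c) (Nat.ble 3216 c)
noncomputable def Ptab_s_3211_3218 (c : Nat) : Nat := @Bool.rec (fun _ => Nat) (Ptab_s_3211_3214 c) (Ptab_s_3214_3218 c) (Nat.ble 3214 c)
noncomputable def Ptab_s_3218_3220 (c : Nat) : Nat := @Bool.rec (fun _ => Nat) (Ptab_3218) (Ptab_3219) (Nat.ble 3219 c)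
noncomputable def Ptab_s_3220_3222 (c : Nat) : Nat := @Bool.rec (fun _ => Nat) (Ptab_3220) (Ptab_3221) (Nat.ble 3221 c)
noncomputable def Ptab_s_3218_3222 (c : Nat) : Nat := @Bool.rec (fun _ => Nat) (Ptab_s_3218_3220 c) (Ptab_s_3220_3222 c) (Nat.ble 3220 c)
noncomputable def Ptab_s_3222_3224 (c : Nat) : Nat := @Bool.rec (fun _ => Nat) (Ptab_3222) (Ptab_3223) (Nat.ble 3223 c)
noncomputable def Ptab_s_3224_3226 (c : Nat) : Nat := @Bool.rec (fun _ => Nat) (Ptab_3224) (Ptab_3225) (Nat.ble 3225 c)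
noncomputable def Ptab_s_3222_3226 (c : Nat) : Nat := @Bool.rec (fun _ => Nat) (Ptab_s_3222_3224 c) (Ptab_s_3224_3226 c) (Nat.ble 3224 c)
noncomputable def Ptab_s_3218_3226 (c : Nat) : Nat := @Bool.rec (fun _ => Nat) (Ptab_s_3218_3222 c) (Ptab_s_3222_3226 c) (Nat.ble 3222 c)
noncomputable def Ptab_s_3211_3226 (c : Nat) : Nat := @Bool.rec (fun _ => Nat) (Ptab_s_3211_3218 c) (Ptab_s_3218_3226 c) (Nat.ble 3218 c)
noncomputable def Ptab_s_3226_3228 (c : Nat) : Nat := @Bool.rec (fun _ => Nat) (Ptab_3226) (Ptab_3227) (Nat.ble 3227 c)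
noncomputable def Ptab_s_3228_3230 (c : Nat) : Nat := @Bool.rec (fun _ => Nat) (Ptab_3228) (Ptab_3229) (Nat.ble 3229 c)
noncomputable def Ptab_s_3226_3230 (c : Nat) : Nat := @Bool.rec (fun _ => Nat) (Ptab_s_3226_3228 c) (Ptab_s_3228_3230 c) (Nat.ble 3228 c)
noncomputable def Ptab_s_3230_3232 (c : Nat) : Nat := @Bool.rec (fun _ => Nat) (Ptab_3230) (Ptab_3231) (Nat.ble 3231 c)
noncomputable def Ptab_s_3232_3234 (c : Nat) : Nat := @Bool.rec (fun _ => Nat) (Ptab_3232) (Ptab_3233) (Nat.ble 3233 c)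
noncomputable def Ptab_s_3230_3234 (c : Nat) : Nat := @Bool.rec (fun _ => Nat) (Ptab_s_3230_3232 c) (Ptab_s_3232_3234 c) (Nat.ble 3232 c)
noncomputable def Ptab_s_3226_3234 (c : Nat) : Nat := @Bool.rec (fun _ => Nat) (Ptab_s_3226_3230 c) (Ptab_s_3230_3234 c) (Nat.ble 3230 c)
noncomputable def Ptab_s_3234_3236 (c : Nat) : Nat := @Bool.rec (fun _ => Nat) (Ptab_3234) (Ptab_3235) (Nat.ble 3235 c)
noncomputable def Ptab_s_3236_3238 (c : Nat) : Nat := @Bool.rec (fun _ => Nat) (Ptab_3236) (Ptab_3237) (Nat.ble 3237 c)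
noncomputable def Ptab_s_3234_3238 (c : Nat) : Nat := @Bool.rec (fun _ => Nat) (Ptab_s_3234_3236 c) (Ptab_s_3236_3238 c) (Nat.ble 3236 c)
noncomputable def Ptab_s_3238_3240 (c : Nat) : Nat := @Bool.rec (fun _ => Nat) (Ptab_3238) (Ptab_3239) (Nat.ble 3239 c)
noncomputable def Ptab_s_3240_3242 (c : Nat) : Nat := @Bool.rec (fun _ => Nat) (Ptab_3240) (Ptab_3241) (Nat.ble 3241 c)
noncomputable def Ptab_s_3238_3242 (c : Nat) : Nat := @Bool.rec (fun _ => Nat) (Ptab_s_3238_3240 c) (Ptab_s_3240_3242 c) (Nat.ble 3240 c)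
noncomputable def Ptab_s_3234_3242 (c : Nat) : Nat := @Bool.rec (fun _ => Nat) (Ptab_s_3234_3238 c) (Ptab_s_3238_3242 c) (Nat.ble 3238 c)
noncomputable def Ptab_s_3226_3242 (c : Nat) : Nat := @Bool.rec (fun _ => Nat) (Ptab_s_3226_3234 c) (Ptab_s_3234_3242 c) (Nat.ble 3234 c)
noncomputable def Ptab_s_3211_3242 (c : Nat) : Nat := @Bool.rec (fun _ => Nat) (Ptab_s_3211_3226 c) (Ptab_s_3226_3242 c) (Nat.ble 3226 c)
noncomputable def Ptab_s_3181_3242 (c : Nat) : Nat := @Bool.rec (fun _ => Nat) (Ptab_s_3181_3211 c) (Ptab_s_3211_3242 c) (Nat.ble 3211 c)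
noncomputable def Ptab_s_3243_3245 (c : Nat) : Nat := @Bool.rec (fun _ => Nat) (Ptab_3243) (Ptab_3244) (Nat.ble 3244 c)
noncomputable def Ptab_s_3242_3245 (c : Nat) : Nat := @Bool.rec (fun _ => Nat) (Ptab_3242) (Ptab_s_3243_3245 c) (Nat.ble 3243 c)
noncomputable def Ptab_s_3245_3247 (c : Nat) : Nat := @Bool.rec (fun _ => Nat) (Ptab_3245) (Ptab_3246) (Nat.ble 3246 c)
noncomputable def Ptab_s_3247_3249 (c : Nat) : Nat := @Bool.rec (fun _ => Nat) (Ptab_3247) (Ptab_3248) (Nat.ble 3248 c)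
noncomputable def Ptab_s_3245_3249 (c : Nat) : Nat := @Bool.rec (fun _ => Nat) (Ptab_s_3245_3247 c) (Ptab_s_3247_3249 c) (Nat.ble 3247 c)
noncomputable def Ptab_s_3242_3249 (c : Nat) : Nat := @Bool.rec (fun _ => Nat) (Ptab_s_3242_3245 c) (Ptab_s_3245_3249 c) (Nat.ble 3245 c)
noncomputable def Ptab_s_3249_3251 (c : Nat) : Nat := @Bool.rec (fun _ => Nat) (Ptab_3249) (Ptab_3250) (Nat.ble 3250 c)
noncomputable def Ptab_s_3251_3253 (c : Nat) : Nat := @Bool.rec (fun _ => Nat) (Ptab_3251) (Ptab_3252) (Nat.ble 3252 c)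
noncomputable def Ptab_s_3249_3253 (c : Nat) : Nat := @Bool.rec (fun _ => Nat) (Ptab_s_3249_3251 c) (Ptab_s_3251_3253 c) (Nat.ble 3251 c)
noncomputable def Ptab_s_3253_3255 (c : Nat) : Nat := @Bool.rec (fun _ => Nat) (Ptab_3253) (Ptab_3254) (Nat.ble 3254 c)
noncomputable def Ptab_s_3255_3257 (c : Nat) : Nat := @Bool.rec (fun _ => Nat) (Ptab_3255) (Ptab_3256) (Nat.ble 3256 c)
noncomputable def Ptab_s_3253_3257 (c : Nat) : Nat := @Bool.rec (fun _ => Nat) (Ptab_s_3253_3255 c) (Ptab_s_3255_3257 c) (Nat.ble 3255 c)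
noncomputable def Ptab_s_3249_3257 (c : Nat) : Nat := @Bool.rec (fun _ => Nat) (Ptab_s_3249_3253 c) (Ptab_s_3253_3257 c) (Nat.ble 3253 c)
noncomputable def Ptab_s_3242_3257 (c : Nat) : Nat := @Bool.rec (fun _ => Nat) (Ptab_s_3242_3249 c) (Ptab_s_3249_3257 c) (Nat.ble 3249 c)
noncomputable def Ptab_s_3258_3260 (c : Nat) : Nat := @Bool.rec (fun _ => Nat) (Ptab_3258) (Ptab_3259) (Nat.ble 3259 c)
noncomputable def Ptab_s_3257_3260 (c : Nat) : Nat := @Bool.rec (fun _ => Nat) (Ptab_3257) (Ptab_s_3258_3260 c) (Nat.ble 3258 c)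
noncomputable def Ptab_s_3260_3262 (c : Nat) : Nat := @Bool.rec (fun _ => Nat) (Ptab_3260) (Ptab_3261) (Nat.ble 3261 c)
noncomputable def Ptab_s_3262_3264 (c : Nat) : Nat := @Bool.rec (fun _ => Nat) (Ptab_3262) (Ptab_3263) (Nat.ble 3263 c)
noncomputable def Ptab_s_3260_3264 (c : Nat) : Nat := @Bool.rec (fun _ => Nat) (Ptab_s_3260_3262 c) (Ptab_s_3262_3264 c) (Nat.ble 3262 c)
noncomputable def Ptab_s_3257_3264 (c : Nat) : Nat := @Bool.rec (fun _ => Nat) (Ptab_s_3257_3260 c) (Ptab_s_3260_3264 c) (Nat.ble 3260 c)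
noncomputable def Ptab_s_3264_3266 (c : Nat) : Nat := @Bool.rec (fun _ => Nat) (Ptab_3264) (Ptab_3265) (Nat.ble 3265 c)
noncomputable def Ptab_s_3266_3268 (c : Nat) : Nat := @Bool.rec (fun _ => Nat) (Ptab_3266) (Ptab_3267) (Nat.ble 3267 c)
noncomputable def Ptab_s_3264_3268 (c : Nat) : Nat := @Bool.rec (fun _ => Nat) (Ptab_s_3264_3266 c) (Ptab_s_3266_3268 c) (Nat.ble 3266 c)
noncomputable def Ptab_s_3268_3270 (c : Nat) : Nat := @Bool.rec (fun _ => Nat) (Ptab_3268) (Ptab_3269) (Nat.ble 3269 c)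
noncomputable def Ptab_s_3270_3272 (c : Nat) : Nat := @Bool.rec (fun _ => Nat) (Ptab_3270) (Ptab_3271) (Nat.ble 3271 c)
noncomputable def Ptab_s_3268_3272 (c : Nat) : Nat := @Bool.rec (fun _ => Nat) (Ptab_s_3268_3270 c) (Ptab_s_3270_3272 c) (Nat.ble 3270 c)
noncomputable def Ptab_s_3264_3272 (c : Nat) : Nat := @Bool.rec (fun _ => Nat) (Ptab_s_3264_3268 c) (Ptab_s_3268_3272 c) (Nat.ble 3268 c)
noncomputable def Ptab_s_3257_3272 (c : Nat) : Nat := @Bool.rec (fun _ => Nat) (Ptab_s_3257_3264 c) (Ptab_s_3264_3272 c) (Nat.ble 3264 c)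
noncomputable def Ptab_s_3242_3272 (c : Nat) : Nat := @Bool.rec (fun _ => Nat) (Ptab_s_3242_3257 c) (Ptab_s_3257_3272 c) (Nat.ble 3257 c)
noncomputable def Ptab_s_3273_3275 (c : Nat) : Nat := @Bool.rec (fun _ => Nat) (Ptab_3273) (Ptab_3274) (Nat.ble 3274 c)
noncomputable def Ptab_s_3272_3275 (c : Nat) : Nat := @Bool.rec (fun _ => Nat) (Ptab_3272) (Ptab_s_3273_3275 c) (Nat.ble 3273 c)
noncomputable def Ptab_s_3275_3277 (c : Nat) : Nat := @Bool.rec (fun _ => Nat) (Ptab_3275) (Ptab_3276) (Nat.ble 3276 c)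
noncomputable def Ptab_s_3277_3279 (c : Nat) : Nat := @Bool.rec (fun _ => Nat) (Ptab_3277) (Ptab_3278) (Nat.ble 3278 c)
noncomputable def Ptab_s_3275_3279 (c : Nat) : Nat := @Bool.rec (fun _ => Nat) (Ptab_s_3275_3277 c) (Ptab_s_3277_3279 c) (Nat.ble 3277 c)
noncomputable def Ptab_s_3272_3279 (c : Nat) : Nat := @Bool.rec (fun _ => Nat) (Ptab_s_3272_3275 c) (Ptab_s_3275_3279 c) (Nat.ble 3275 c)
noncomputable def Ptab_s_3279_3281 (c : Nat) : Nat := @Bool.rec (fun _ => Nat) (Ptab_3279) (Ptab_3280) (Nat.ble 3280 c)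
noncomputable def Ptab_s_3281_3283 (c : Nat) : Nat := @Bool.rec (fun _ => Nat) (Ptab_3281) (Ptab_3282) (Nat.ble 3282 c)
noncomputable def Ptab_s_3279_3283 (c : Nat) : Nat := @Bool.rec (fun _ => Nat) (Ptab_s_3279_3281 c) (Ptab_s_3281_3283 c) (Nat.ble 3281 c)
noncomputable def Ptab_s_3283_3285 (c : Nat) : Nat := @Bool.rec (fun _ => Nat) (Ptab_3283) (Ptab_3284) (Nat.ble 3284 c)
noncomputable def Ptab_s_3285_3287 (c : Nat) : Nat := @Bool.rec (fun _ => Nat) (Ptab_3285) (Ptab_3286) (Nat.ble 3286 c)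
noncomputable def Ptab_s_3283_3287 (c : Nat) : Nat := @Bool.rec (fun _ => Nat) (Ptab_s_3283_3285 c) (Ptab_s_3285_3287 c) (Nat.ble 3285 c)
noncomputable def Ptab_s_3279_3287 (c : Nat) : Nat := @Bool.rec (fun _ => Nat) (Ptab_s_3279_3283 c) (Ptab_s_3283_3287 c) (Nat.ble 3283 c)
noncomputable def Ptab_s_3272_3287 (c : Nat) : Nat := @Bool.rec (fun _ => Nat) (Ptab_s_3272_3279 c) (Ptab_s_3279_3287 c) (Nat.ble 3279 c)
noncomputable def Ptab_s_3287_3289 (c : Nat) : Nat := @Bool.rec (fun _ => Nat) (Ptab_3287) (Ptab_3288) (Nat.ble 3288 c)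
noncomputable def Ptab_s_3289_3291 (c : Nat) : Nat := @Bool.rec (fun _ => Nat) (Ptab_3289) (Ptab_3290) (Nat.ble 3290 c)
noncomputable def Ptab_s_3287_3291 (c : Nat) : Nat := @Bool.rec (fun _ => Nat) (Ptab_s_3287_3289 c) (Ptab_s_3289_3291 c) (Nat.ble 3289 c)
noncomputable def Ptab_s_3291_3293 (c : Nat) : Nat := @Bool.rec (fun _ => Nat) (Ptab_3291) (Ptab_3292) (Nat.ble 3292 c)
noncomputable def Ptab_s_3293_3295 (c : Nat) : Nat := @Bool.rec (fun _ => Nat) (Ptab_3293) (Ptab_3294) (Nat.ble 3294 c)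
noncomputable def Ptab_s_3291_3295 (c : Nat) : Nat := @Bool.rec (fun _ => Nat) (Ptab_s_3291_3293 c) (Ptab_s_3293_3295 c) (Nat.ble 3293 c)
noncomputable def Ptab_s_3287_3295 (c : Nat) : Nat := @Bool.rec (fun _ => Nat) (Ptab_s_3287_3291 c) (Ptab_s_3291_3295 c) (Nat.ble 3291 c)
noncomputable def Ptab_s_3295_3297 (c : Nat) : Nat := @Bool.rec (fun _ => Nat) (Ptab_3295) (Ptab_3296) (Nat.ble 3296 c)
noncomputable def Ptab_s_3297_3299 (c : Nat) : Nat := @Bool.rec (fun _ => Nat) (Ptab_3297) (Ptab_3298) (Nat.ble 3298 c)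
noncomputable def Ptab_s_3295_3299 (c : Nat) : Nat := @Bool.rec (fun _ => Nat) (Ptab_s_3295_3297 c) (Ptab_s_3297_3299 c) (Nat.ble 3297 c)
noncomputable def Ptab_s_3299_3301 (c : Nat) : Nat := @Bool.rec (fun _ => Nat) (Ptab_3299) (Ptab_3300) (Nat.ble 3300 c)
noncomputable def Ptab_s_3301_3303 (c : Nat) : Nat := @Bool.rec (fun _ => Nat) (Ptab_3301) (Ptab_3302) (Nat.ble 3302 c)
noncomputable def Ptab_s_3299_3303 (c : Nat) : Nat := @Bool.rec (fun _ => Nat) (Ptab_s_3299_3301 c) (Ptab_s_3301_3303 c) (Nat.ble 3301 c)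
noncomputable def Ptab_s_3295_3303 (c : Nat) : Nat := @Bool.rec (fun _ => Nat) (Ptab_s_3295_3299 c) (Ptab_s_3299_3303 c) (Nat.ble 3299 c)
noncomputable def Ptab_s_3287_3303 (c : Nat) : Nat := @Bool.rec (fun _ => Nat) (Ptab_s_3287_3295 c) (Ptab_s_3295_3303 c) (Nat.ble 3295 c)
noncomputable def Ptab_s_3272_3303 (c : Nat) : Nat := @Bool.rec (fun _ => Nat) (Ptab_s_3272_3287 c) (Ptab_s_3287_3303 c) (Nat.ble 3287 c)
noncomputable def Ptab_s_3242_3303 (c : Nat) : Nat := @Bool.rec (fun _ => Nat) (Ptab_s_3242_3272 c) (Ptab_s_3272_3303 c) (Nat.ble 3272 c)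
noncomputable def Ptab_s_3181_3303 (c : Nat) : Nat := @Bool.rec (fun _ => Nat) (Ptab_s_3181_3242 c) (Ptab_s_3242_3303 c) (Nat.ble 3242 c)
noncomputable def Ptab_s_3304_3306 (c : Nat) : Nat := @Bool.rec (fun _ => Nat) (Ptab_3304) (Ptab_3305) (Nat.ble 3305 c)
noncomputable def Ptab_s_3303_3306 (c : Nat) : Nat := @Bool.rec (fun _ => Nat) (Ptab_3303) (Ptab_s_3304_3306 c) (Nat.ble 3304 c)
noncomputable def Ptab_s_3306_3308 (c : Nat) : Nat := @Bool.rec (fun _ => Nat) (Ptab_3306) (Ptab_3307) (Nat.ble 3307 c)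
noncomputable def Ptab_s_3308_3310 (c : Nat) : Nat := @Bool.rec (fun _ => Nat) (Ptab_3308) (Ptab_3309) (Nat.ble 3309 c)
noncomputable def Ptab_s_3306_3310 (c : Nat) : Nat := @Bool.rec (fun _ => Nat) (Ptab_s_3306_3308 c) (Ptab_s_3308_3310 c) (Nat.ble 3308 c)
noncomputable def Ptab_s_3303_3310 (c : Nat) : Nat := @Bool.rec (fun _ => Nat) (Ptab_s_3303_3306 c) (Ptab_s_3306_3310 c) (Nat.ble 3306 c)
noncomputable def Ptab_s_3310_3312 (c : Nat) : Nat := @Bool.rec (fun _ => Nat) (Ptab_3310) (Ptab_3311) (Nat.ble 3311 c)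
noncomputable def Ptab_s_3312_3314 (c : Nat) : Nat := @Bool.rec (fun _ => Nat) (Ptab_3312) (Ptab_3313) (Nat.ble 3313 c)
noncomputable def Ptab_s_3310_3314 (c : Nat) : Nat := @Bool.rec (fun _ => Nat) (Ptab_s_3310_3312 c) (Ptab_s_3312_3314 c) (Nat.ble 3312 c)
noncomputable def Ptab_s_3314_3316 (c : Nat) : Nat := @Bool.rec (fun _ => Nat) (Ptab_3314) (Ptab_3315) (Nat.ble 3315 c)
noncomputable def Ptab_s_3316_3318 (c : Nat) : Nat := @Bool.rec (fun _ => Nat) (Ptab_3316) (Ptab_3317) (Nat.ble 3317 c)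
noncomputable def Ptab_s_3314_3318 (c : Nat) : Nat := @Bool.rec (fun _ => Nat) (Ptab_s_3314_3316 c) (Ptab_s_3316_3318 c) (Nat.ble 3316 c)
noncomputable def Ptab_s_3310_3318 (c : Nat) : Nat := @Bool.rec (fun _ => Nat) (Ptab_s_3310_3314 c) (Ptab_s_3314_3318 c) (Nat.ble 3314 c)
noncomputable def Ptab_s_3303_3318 (c : Nat) : Nat := @Bool.rec (fun _ => Nat) (Ptab_s_3303_3310 c) (Ptab_s_3310_3318 c) (Nat.ble 3310 c)
noncomputable def Ptab_s_3319_3321 (c : Nat) : Nat := @Bool.rec (fun _ => Nat) (Ptab_3319) (Ptab_3320) (Nat.ble 3320 c)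
noncomputable def Ptab_s_3318_3321 (c : Nat) : Nat := @Bool.rec (fun _ => Nat) (Ptab_3318) (Ptab_s_3319_3321 c) (Nat.ble 3319 c)
noncomputable def Ptab_s_3321_3323 (c : Nat) : Nat := @Bool.rec (fun _ => Nat) (Ptab_3321) (Ptab_3322) (Nat.ble 3322 c)
noncomputable def Ptab_s_3323_3325 (c : Nat) : Nat := @Bool.rec (fun _ => Nat) (Ptab_3323) (Ptab_3324) (Nat.ble 3324 c)
noncomputable def Ptab_s_3321_3325 (c : Nat) : Nat := @Bool.rec (fun _ => Nat) (Ptab_s_3321_3323 c) (Ptab_s_3323_3325 c) (Nat.ble 3323 c)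
noncomputable def Ptab_s_3318_3325 (c : Nat) : Nat := @Bool.rec (fun _ => Nat) (Ptab_s_3318_3321 c) (Ptab_s_3321_3325 c) (Nat.ble 3321 c)
noncomputable def Ptab_s_3325_3327 (c : Nat) : Nat := @Bool.rec (fun _ => Nat) (Ptab_3325) (Ptab_3326) (Nat.ble 3326 c)
noncomputable def Ptab_s_3327_3329 (c : Nat) : Nat := @Bool.rec (fun _ => Nat) (Ptab_3327) (Ptab_3328) (Nat.ble 3328 c)
noncomputable def Ptab_s_3325_3329 (c : Nat) : Nat := @Bool.rec (fun _ => Nat) (Ptab_s_3325_3327 c) (Ptab_s_3327_3329 c) (Nat.ble 3327 c)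
noncomputable def Ptab_s_3329_3331 (c : Nat) : Nat := @Bool.rec (fun _ => Nat) (Ptab_3329) (Ptab_3330) (Nat.ble 3330 c)
noncomputable def Ptab_s_3331_3333 (c : Nat) : Nat := @Bool.rec (fun _ => Nat) (Ptab_3331) (Ptab_3332) (Nat.ble 3332 c)
noncomputable def Ptab_s_3329_3333 (c : Nat) : Nat := @Bool.rec (fun _ => Nat) (Ptab_s_3329_3331 c) (Ptab_s_3331_3333 c) (Nat.ble 3331 c)
noncomputable def Ptab_s_3325_3333 (c : Nat) : Nat := @Bool.rec (fun _ => Nat) (Ptab_s_3325_3329 c) (Ptab_s_3329_3333 c) (Nat.ble 3329 c)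
noncomputable def Ptab_s_3318_3333 (c : Nat) : Nat := @Bool.rec (fun _ => Nat) (Ptab_s_3318_3325 c) (Ptab_s_3325_3333 c) (Nat.ble 3325 c)
noncomputable def Ptab_s_3303_3333 (c : Nat) : Nat := @Bool.rec (fun _ => Nat) (Ptab_s_3303_3318 c) (Ptab_s_3318_3333 c) (Nat.ble 3318 c)
noncomputable def Ptab_s_3334_3336 (c : Nat) : Nat := @Bool.rec (fun _ => Nat) (Ptab_3334) (Ptab_3335) (Nat.ble 3335 c)
noncomputable def Ptab_s_3333_3336 (c : Nat) : Nat := @Bool.rec (fun _ => Nat) (Ptab_3333) (Ptab_s_3334_3336 c) (Nat.ble 3334 c)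
noncomputable def Ptab_s_3336_3338 (c : Nat) : Nat := @Bool.rec (fun _ => Nat) (Ptab_3336) (Ptab_3337) (Nat.ble 3337 c)
noncomputable def Ptab_s_3338_3340 (c : Nat) : Nat := @Bool.rec (fun _ => Nat) (Ptab_3338) (Ptab_3339) (Nat.ble 3339 c)
noncomputable def Ptab_s_3336_3340 (c : Nat) : Nat := @Bool.rec (fun _ => Nat) (Ptab_s_3336_3338 c) (Ptab_s_3338_3340 c) (Nat.ble 3338 c)
noncomputable def Ptab_s_3333_3340 (c : Nat) : Nat := @Bool.rec (fun _ => Nat) (Ptab_s_3333_3336 c) (Ptab_s_3336_3340 c) (Nat.ble 3336 c)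
noncomputable def Ptab_s_3340_3342 (c : Nat) : Nat := @Bool.rec (fun _ => Nat) (Ptab_3340) (Ptab_3341) (Nat.ble 3341 c)
noncomputable def Ptab_s_3342_3344 (c : Nat) : Nat := @Bool.rec (fun _ => Nat) (Ptab_3342) (Ptab_3343) (Nat.ble 3343 c)
noncomputable def Ptab_s_3340_3344 (c : Nat) : Nat := @Bool.rec (fun _ => Nat) (Ptab_s_3340_3342 c) (Ptab_s_3342_3344 c) (Nat.ble 3342 c)
noncomputable def Ptab_s_3344_3346 (c : Nat) : Nat := @Bool.rec (fun _ => Nat) (Ptab_3344) (Ptab_3345) (Nat.ble 3345 c)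
noncomputable def Ptab_s_3346_3348 (c : Nat) : Nat := @Bool.rec (fun _ => Nat) (Ptab_3346) (Ptab_3347) (Nat.ble 3347 c)
noncomputable def Ptab_s_3344_3348 (c : Nat) : Nat := @Bool.rec (fun _ => Nat) (Ptab_s_3344_3346 c) (Ptab_s_3346_3348 c) (Nat.ble 3346 c)
noncomputable def Ptab_s_3340_3348 (c : Nat) : Nat := @Bool.rec (fun _ => Nat) (Ptab_s_3340_3344 c) (Ptab_s_3344_3348 c) (Nat.ble 3344 c)
noncomputable def Ptab_s_3333_3348 (c : Nat) : Nat := @Bool.rec (fun _ => Nat) (Ptab_s_3333_3340 c) (Ptab_s_3340_3348 c) (Nat.ble 3340 c)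
noncomputable def Ptab_s_3348_3350 (c : Nat) : Nat := @Bool.rec (fun _ => Nat) (Ptab_3348) (Ptab_3349) (Nat.ble 3349 c)
noncomputable def Ptab_s_3350_3352 (c : Nat) : Nat := @Bool.rec (fun _ => Nat) (Ptab_3350) (Ptab_3351) (Nat.ble 3351 c)
noncomputable def Ptab_s_3348_3352 (c : Nat) : Nat := @Bool.rec (fun _ => Nat) (Ptab_s_3348_3350 c) (Ptab_s_3350_3352 c) (Nat.ble 3350 c)
noncomputable def Ptab_s_3352_3354 (c : Nat) : Nat := @Bool.rec (fun _ => Nat) (Ptab_3352) (Ptab_3353) (Nat.ble 3353 c)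
noncomputable def Ptab_s_3354_3356 (c : Nat) : Nat := @Bool.rec (fun _ => Nat) (Ptab_3354) (Ptab_3355) (Nat.ble 3355 c)
noncomputable def Ptab_s_3352_3356 (c : Nat) : Nat := @Bool.rec (fun _ => Nat) (Ptab_s_3352_3354 c) (Ptab_s_3354_3356 c) (Nat.ble 3354 c)
noncomputable def Ptab_s_3348_3356 (c : Nat) : Nat := @Bool.rec (fun _ => Nat) (Ptab_s_3348_3352 c) (Ptab_s_3352_3356 c) (Nat.ble 3352 c)
noncomputable def Ptab_s_3356_3358 (c : Nat) : Nat := @Bool.rec (fun _ => Nat) (Ptab_3356) (Ptab_3357) (Nat.ble 3357 c)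
noncomputable def Ptab_s_3358_3360 (c : Nat) : Nat := @Bool.rec (fun _ => Nat) (Ptab_3358) (Ptab_3359) (Nat.ble 3359 c)
noncomputable def Ptab_s_3356_3360 (c : Nat) : Nat := @Bool.rec (fun _ => Nat) (Ptab_s_3356_3358 c) (Ptab_s_3358_3360 c) (Nat.ble 3358 c)
noncomputable def Ptab_s_3360_3362 (c : Nat) : Nat := @Bool.rec (fun _ => Nat) (Ptab_3360) (Ptab_3361) (Nat.ble 3361 c)
noncomputable def Ptab_s_3362_3364 (c : Nat) : Nat := @Bool.rec (fun _ => Nat) (Ptab_3362) (Ptab_3363) (Nat.ble 3363 c)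
noncomputable def Ptab_s_3360_3364 (c : Nat) : Nat := @Bool.rec (fun _ => Nat) (Ptab_s_3360_3362 c) (Ptab_s_3362_3364 c) (Nat.ble 3362 c)
noncomputable def Ptab_s_3356_3364 (c : Nat) : Nat := @Bool.rec (fun _ => Nat) (Ptab_s_3356_3360 c) (Ptab_s_3360_3364 c) (Nat.ble 3360 c)
noncomputable def Ptab_s_3348_3364 (c : Nat) : Nat := @Bool.rec (fun _ => Nat) (Ptab_s_3348_3356 c) (Ptab_s_3356_3364 c) (Nat.ble 3356 c)
noncomputable def Ptab_s_3333_3364 (c : Nat) : Nat := @Bool.rec (fun _ => Nat) (Ptab_s_3333_3348 c) (Ptab_s_3348_3364 c) (Nat.ble 3348 c)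
noncomputable def Ptab_s_3303_3364 (c : Nat) : Nat := @Bool.rec (fun _ => Nat) (Ptab_s_3303_3333 c) (Ptab_s_3333_3364 c) (Nat.ble 3333 c)
noncomputable def Ptab_s_3365_3367 (c : Nat) : Nat := @Bool.rec (fun _ => Nat) (Ptab_3365) (Ptab_3366) (Nat.ble 3366 c)
noncomputable def Ptab_s_3364_3367 (c : Nat) : Nat := @Bool.rec (fun _ => Nat) (Ptab_3364) (Ptab_s_3365_3367 c) (Nat.ble 3365 c)
noncomputable def Ptab_s_3367_3369 (c : Nat) : Nat := @Bool.rec (fun _ => Nat) (Ptab_3367) (Ptab_3368) (Nat.ble 3368 c)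
noncomputable def Ptab_s_3369_3371 (c : Nat) : Nat := @Bool.rec (fun _ => Nat) (Ptab_3369) (Ptab_3370) (Nat.ble 3370 c)
noncomputable def Ptab_s_3367_3371 (c : Nat) : Nat := @Bool.rec (fun _ => Nat) (Ptab_s_3367_3369 c) (Ptab_s_3369_3371 c) (Nat.ble 3369 c)
noncomputable def Ptab_s_3364_3371 (c : Nat) : Nat := @Bool.rec (fun _ => Nat) (Ptab_s_3364_3367 c) (Ptab_s_3367_3371 c) (Nat.ble 3367 c)
noncomputable def Ptab_s_3371_3373 (c : Nat) : Nat := @Bool.rec (fun _ => Nat) (Ptab_3371) (Ptab_3372) (Nat.ble 3372 c)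
noncomputable def Ptab_s_3373_3375 (c : Nat) : Nat := @Bool.rec (fun _ => Nat) (Ptab_3373) (Ptab_3374) (Nat.ble 3374 c)
noncomputable def Ptab_s_3371_3375 (c : Nat) : Nat := @Bool.rec (fun _ => Nat) (Ptab_s_3371_3373 c) (Ptab_s_3373_3375 c) (Nat.ble 3373 c)
noncomputable def Ptab_s_3375_3377 (c : Nat) : Nat := @Bool.rec (fun _ => Nat) (Ptab_3375) (Ptab_3376) (Nat.ble 3376 c)
noncomputable def Ptab_s_3377_3379 (c : Nat) : Nat := @Bool.rec (fun _ => Nat) (Ptab_3377) (Ptab_3378) (Nat.ble 3378 c)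
noncomputable def Ptab_s_3375_3379 (c : Nat) : Nat := @Bool.rec (fun _ => Nat) (Ptab_s_3375_3377 c) (Ptab_s_3377_3379 c) (Nat.ble 3377 c)
noncomputable def Ptab_s_3371_3379 (c : Nat) : Nat := @Bool.rec (fun _ => Nat) (Ptab_s_3371_3375 c) (Ptab_s_3375_3379 c) (Nat.ble 3375 c)
noncomputable def Ptab_s_3364_3379 (c : Nat) : Nat := @Bool.rec (fun _ => Nat) (Ptab_s_3364_3371 c) (Ptab_s_3371_3379 c) (Nat.ble 3371 c)
noncomputable def Ptab_s_3379_3381 (c : Nat) : Nat := @Bool.rec (fun _ => Nat) (Ptab_3379) (Ptab_3380) (Nat.ble 3380 c)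
noncomputable def Ptab_s_3381_3383 (c : Nat) : Nat := @Bool.rec (fun _ => Nat) (Ptab_3381) (Ptab_3382) (Nat.ble 3382 c)
noncomputable def Ptab_s_3379_3383 (c : Nat) : Nat := @Bool.rec (fun _ => Nat) (Ptab_s_3379_3381 c) (Ptab_s_3381_3383 c) (Nat.ble 3381 c)
noncomputable def Ptab_s_3383_3385 (c : Nat) : Nat := @Bool.rec (fun _ => Nat) (Ptab_3383) (Ptab_3384) (Nat.ble 3384 c)
noncomputable def Ptab_s_3385_3387 (c : Nat) : Nat := @Bool.rec (fun _ => Nat) (Ptab_3385) (Ptab_3386) (Nat.ble 3386 c)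
noncomputable def Ptab_s_3383_3387 (c : Nat) : Nat := @Bool.rec (fun _ => Nat) (Ptab_s_3383_3385 c) (Ptab_s_3385_3387 c) (Nat.ble 3385 c)
noncomputable def Ptab_s_3379_3387 (c : Nat) : Nat := @Bool.rec (fun _ => Nat) (Ptab_s_3379_3383 c) (Ptab_s_3383_3387 c) (Nat.ble 3383 c)
noncomputable def Ptab_s_3387_3389 (c : Nat) : Nat := @Bool.rec (fun _ => Nat) (Ptab_3387) (Ptab_3388) (Nat.ble 3388 c)
noncomputable def Ptab_s_3389_3391 (c : Nat) : Nat := @Bool.rec (fun _ => Nat) (Ptab_3389) (Ptab_3390) (Nat.ble 3390 c)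
noncomputable def Ptab_s_3387_3391 (c : Nat) : Nat := @Bool.rec (fun _ => Nat) (Ptab_s_3387_3389 c) (Ptab_s_3389_3391 c) (Nat.ble 3389 c)
noncomputable def Ptab_s_3391_3393 (c : Nat) : Nat := @Bool.rec (fun _ => Nat) (Ptab_3391) (Ptab_3392) (Nat.ble 3392 c)
noncomputable def Ptab_s_3393_3395 (c : Nat) : Nat := @Bool.rec (fun _ => Nat) (Ptab_3393) (Ptab_3394) (Nat.ble 3394 c)
noncomputable def Ptab_s_3391_3395 (c : Nat) : Nat := @Bool.rec (fun _ => Nat) (Ptab_s_3391_3393 c) (Ptab_s_3393_3395 c) (Nat.ble 3393 c)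
noncomputable def Ptab_s_3387_3395 (c : Nat) : Nat := @Bool.rec (fun _ => Nat) (Ptab_s_3387_3391 c) (Ptab_s_3391_3395 c) (Nat.ble 3391 c)
noncomputable def Ptab_s_3379_3395 (c : Nat) : Nat := @Bool.rec (fun _ => Nat) (Ptab_s_3379_3387 c) (Ptab_s_3387_3395 c) (Nat.ble 3387 c)
noncomputable def Ptab_s_3364_3395 (c : Nat) : Nat := @Bool.rec (fun _ => Nat) (Ptab_s_3364_3379 c) (Ptab_s_3379_3395 c) (Nat.ble 3379 c)
noncomputable def Ptab_s_3396_3398 (c : Nat) : Nat := @Bool.rec (fun _ => Nat) (Ptab_3396) (Ptab_3397) (Nat.ble 3397 c)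
noncomputable def Ptab_s_3395_3398 (c : Nat) : Nat := @Bool.rec (fun _ => Nat) (Ptab_3395) (Ptab_s_3396_3398 c) (Nat.ble 3396 c)
noncomputable def Ptab_s_3398_3400 (c : Nat) : Nat := @Bool.rec (fun _ => Nat) (Ptab_3398) (Ptab_3399) (Nat.ble 3399 c)
noncomputable def Ptab_s_3400_3402 (c : Nat) : Nat := @Bool.rec (fun _ => Nat) (Ptab_3400) (Ptab_3401) (Nat.ble 3401 c)
noncomputable def Ptab_s_3398_3402 (c : Nat) : Nat := @Bool.rec (fun _ => Nat) (Ptab_s_3398_3400 c) (Ptab_s_3400_3402 c) (Nat.ble 3400 c)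
noncomputable def Ptab_s_3395_3402 (c : Nat) : Nat := @Bool.rec (fun _ => Nat) (Ptab_s_3395_3398 c) (Ptab_s_3398_3402 c) (Nat.ble 3398 c)
noncomputable def Ptab_s_3402_3404 (c : Nat) : Nat := @Bool.rec (fun _ => Nat) (Ptab_3402) (Ptab_3403) (Nat.ble 3403 c)
noncomputable def Ptab_s_3404_3406 (c : Nat) : Nat := @Bool.rec (fun _ => Nat) (Ptab_3404) (Ptab_3405) (Nat.ble 3405 c)
noncomputable def Ptab_s_3402_3406 (c : Nat) : Nat := @Bool.rec (fun _ => Nat) (Ptab_s_3402_3404 c) (Ptab_s_3404_3406 c) (Nat.ble 3404 c)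
noncomputable def Ptab_s_3406_3408 (c : Nat) : Nat := @Bool.rec (fun _ => Nat) (Ptab_3406) (Ptab_3407) (Nat.ble 3407 c)
noncomputable def Ptab_s_3408_3410 (c : Nat) : Nat := @Bool.rec (fun _ => Nat) (Ptab_3408) (Ptab_3409) (Nat.ble 3409 c)
noncomputable def Ptab_s_3406_3410 (c : Nat) : Nat := @Bool.rec (fun _ => Nat) (Ptab_s_3406_3408 c) (Ptab_s_3408_3410 c) (Nat.ble 3408 c)
noncomputable def Ptab_s_3402_3410 (c : Nat) : Nat := @Bool.rec (fun _ => Nat) (Ptab_s_3402_3406 c) (Ptab_s_3406_3410 c) (Nat.ble 3406 c)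
noncomputable def Ptab_s_3395_3410 (c : Nat) : Nat := @Bool.rec (fun _ => Nat) (Ptab_s_3395_3402 c) (Ptab_s_3402_3410 c) (Nat.ble 3402 c)
noncomputable def Ptab_s_3410_3412 (c : Nat) : Nat := @Bool.rec (fun _ => Nat) (Ptab_3410) (Ptab_3411) (Nat.ble 3411 c)
noncomputable def Ptab_s_3412_3414 (c : Nat) : Nat := @Bool.rec (fun _ => Nat) (Ptab_3412) (Ptab_3413) (Nat.ble 3413 c)
noncomputable def Ptab_s_3410_3414 (c : Nat) : Nat := @Bool.rec (fun _ => Nat) (Ptab_s_3410_3412 c) (Ptab_s_3412_3414 c) (Nat.ble 3412 c)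
noncomputable def Ptab_s_3414_3416 (c : Nat) : Nat := @Bool.rec (fun _ => Nat) (Ptab_3414) (Ptab_3415) (Nat.ble 3415 c)
noncomputable def Ptab_s_3416_3418 (c : Nat) : Nat := @Bool.rec (fun _ => Nat) (Ptab_3416) (Ptab_3417) (Nat.ble 3417 c)
noncomputable def Ptab_s_3414_3418 (c : Nat) : Nat := @Bool.rec (fun _ => Nat) (Ptab_s_3414_3416 c) (Ptab_s_3416_3418 c) (Nat.ble 3416 c)
noncomputable def Ptab_s_3410_3418 (c : Nat) : Nat := @Bool.rec (fun _ => Nat) (Ptab_s_3410_3414 c) (Ptab_s_3414_3418 c) (Nat.ble 3414 c)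
noncomputable def Ptab_s_3418_3420 (c : Nat) : Nat := @Bool.rec (fun _ => Nat) (Ptab_3418) (Ptab_3419) (Nat.ble 3419 c)
noncomputable def Ptab_s_3420_3422 (c : Nat) : Nat := @Bool.rec (fun _ => Nat) (Ptab_3420) (Ptab_3421) (Nat.ble 3421 c)
noncomputable def Ptab_s_3418_3422 (c : Nat) : Nat := @Bool.rec (fun _ => Nat) (Ptab_s_3418_3420 c) (Ptab_s_3420_3422 c) (Nat.ble 3420 c)
noncomputable def Ptab_s_3422_3424 (c : Nat) : Nat := @Bool.rec (fun _ => Nat) (Ptab_3422) (Ptab_3423) (Nat.ble 3423 c)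
noncomputable def Ptab_s_3424_3426 (c : Nat) : Nat := @Bool.rec (fun _ => Nat) (Ptab_3424) (Ptab_3425) (Nat.ble 3425 c)
noncomputable def Ptab_s_3422_3426 (c : Nat) : Nat := @Bool.rec (fun _ => Nat) (Ptab_s_3422_3424 c) (Ptab_s_3424_3426 c) (Nat.ble 3424 c)
noncomputable def Ptab_s_3418_3426 (c : Nat) : Nat := @Bool.rec (fun _ => Nat) (Ptab_s_3418_3422 c) (Ptab_s_3422_3426 c) (Nat.ble 3422 c)
noncomputable def Ptab_s_3410_3426 (c : Nat) : Nat := @Bool.rec (fun _ => Nat) (Ptab_s_3410_3418 c) (Ptab_s_3418_3426 c) (Nat.ble 3418 c)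
noncomputable def Ptab_s_3395_3426 (c : Nat) : Nat := @Bool.rec (fun _ => Nat) (Ptab_s_3395_3410 c) (Ptab_s_3410_3426 c) (Nat.ble 3410 c)
noncomputable def Ptab_s_3364_3426 (c : Nat) : Nat := @Bool.rec (fun _ => Nat) (Ptab_s_3364_3395 c) (Ptab_s_3395_3426 c) (Nat.ble 3395 c)
noncomputable def Ptab_s_3303_3426 (c : Nat) : Nat := @Bool.rec (fun _ => Nat) (Ptab_s_3303_3364 c) (Ptab_s_3364_3426 c) (Nat.ble 3364 c)
noncomputable def Ptab_s_3181_3426 (c : Nat) : Nat := @Bool.rec (fun _ => Nat) (Ptab_s_3181_3303 c) (Ptab_s_3303_3426 c) (Nat.ble 3303 c)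
noncomputable def Ptab_s_2937_3426 (c : Nat) : Nat := @Bool.rec (fun _ => Nat) (Ptab_s_2937_3181 c) (Ptab_s_3181_3426 c) (Nat.ble 3181 c)
noncomputable def Ptab_s_3427_3429 (c : Nat) : Nat := @Bool.rec (fun _ => Nat) (Ptab_3427) (Ptab_3428) (Nat.ble 3428 c)
noncomputable def Ptab_s_3426_3429 (c : Nat) : Nat := @Bool.rec (fun _ => Nat) (Ptab_3426) (Ptab_s_3427_3429 c) (Nat.ble 3427 c)
noncomputable def Ptab_s_3429_3431 (c : Nat) : Nat := @Bool.rec (fun _ => Nat) (Ptab_3429) (Ptab_3430) (Nat.ble 3430 c)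
noncomputable def Ptab_s_3431_3433 (c : Nat) : Nat := @Bool.rec (fun _ => Nat) (Ptab_3431) (Ptab_3432) (Nat.ble 3432 c)
noncomputable def Ptab_s_3429_3433 (c : Nat) : Nat := @Bool.rec (fun _ => Nat) (Ptab_s_3429_3431 c) (Ptab_s_3431_3433 c) (Nat.ble 3431 c)
noncomputable def Ptab_s_3426_3433 (c : Nat) : Nat := @Bool.rec (fun _ => Nat) (Ptab_s_3426_3429 c) (Ptab_s_3429_3433 c) (Nat.ble 3429 c)
noncomputable def Ptab_s_3433_3435 (c : Nat) : Nat := @Bool.rec (fun _ => Nat) (Ptab_3433) (Ptab_3434) (Nat.ble 3434 c)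
noncomputable def Ptab_s_3435_3437 (c : Nat) : Nat := @Bool.rec (fun _ => Nat) (Ptab_3435) (Ptab_3436) (Nat.ble 3436 c)
noncomputable def Ptab_s_3433_3437 (c : Nat) : Nat := @Bool.rec (fun _ => Nat) (Ptab_s_3433_3435 c) (Ptab_s_3435_3437 c) (Nat.ble 3435 c)
noncomputable def Ptab_s_3437_3439 (c : Nat) : Nat := @Bool.rec (fun _ => Nat) (Ptab_3437) (Ptab_3438) (Nat.ble 3438 c)
noncomputable def Ptab_s_3439_3441 (c : Nat) : Nat := @Bool.rec (fun _ => Nat) (Ptab_3439) (Ptab_3440) (Nat.ble 3440 c)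
noncomputable def Ptab_s_3437_3441 (c : Nat) : Nat := @Bool.rec (fun _ => Nat) (Ptab_s_3437_3439 c) (Ptab_s_3439_3441 c) (Nat.ble 3439 c)
noncomputable def Ptab_s_3433_3441 (c : Nat) : Nat := @Bool.rec (fun _ => Nat) (Ptab_s_3433_3437 c) (Ptab_s_3437_3441 c) (Nat.ble 3437 c)
noncomputable def Ptab_s_3426_3441 (c : Nat) : Nat := @Bool.rec (fun _ => Nat) (Ptab_s_3426_3433 c) (Ptab_s_3433_3441 c) (Nat.ble 3433 c)
noncomputable def Ptab_s_3442_3444 (c : Nat) : Nat := @Bool.rec (fun _ => Nat) (Ptab_3442) (Ptab_3443) (Nat.ble 3443 c)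
noncomputable def Ptab_s_3441_3444 (c : Nat) : Nat := @Bool.rec (fun _ => Nat) (Ptab_3441) (Ptab_s_3442_3444 c) (Nat.ble 3442 c)
noncomputable def Ptab_s_3444_3446 (c : Nat) : Nat := @Bool.rec (fun _ => Nat) (Ptab_3444) (Ptab_3445) (Nat.ble 3445 c)
noncomputable def Ptab_s_3446_3448 (c : Nat) : Nat := @Bool.rec (fun _ => Nat) (Ptab_3446) (Ptab_3447) (Nat.ble 3447 c)
noncomputable def Ptab_s_3444_3448 (c : Nat) : Nat := @Bool.rec (fun _ => Nat) (Ptab_s_3444_3446 c) (Ptab_s_3446_3448 c) (Nat.ble 3446 c)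
noncomputable def Ptab_s_3441_3448 (c : Nat) : Nat := @Bool.rec (fun _ => Nat) (Ptab_s_3441_3444 c) (Ptab_s_3444_3448 c) (Nat.ble 3444 c)
noncomputable def Ptab_s_3448_3450 (c : Nat) : Nat := @Bool.rec (fun _ => Nat) (Ptab_3448) (Ptab_3449) (Nat.ble 3449 c)
noncomputable def Ptab_s_3450_3452 (c : Nat) : Nat := @Bool.rec (fun _ => Nat) (Ptab_3450) (Ptab_3451) (Nat.ble 3451 c)
noncomputable def Ptab_s_3448_3452 (c : Nat) : Nat := @Bool.rec (fun _ => Nat) (Ptab_s_3448_3450 c) (Ptab_s_3450_3452 c) (Nat.ble 3450 c)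
noncomputable def Ptab_s_3452_3454 (c : Nat) : Nat := @Bool.rec (fun _ => Nat) (Ptab_3452) (Ptab_3453) (Nat.ble 3453 c)
noncomputable def Ptab_s_3454_3456 (c : Nat) : Nat := @Bool.rec (fun _ => Nat) (Ptab_3454) (Ptab_3455) (Nat.ble 3455 c)
noncomputable def Ptab_s_3452_3456 (c : Nat) : Nat := @Bool.rec (fun _ => Nat) (Ptab_s_3452_3454 c) (Ptab_s_3454_3456 c) (Nat.ble 3454 c)
noncomputable def Ptab_s_3448_3456 (c : Nat) : Nat := @Bool.rec (fun _ => Nat) (Ptab_s_3448_3452 c) (Ptab_s_3452_3456 c) (Nat.ble 3452 c)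
noncomputable def Ptab_s_3441_3456 (c : Nat) : Nat := @Bool.rec (fun _ => Nat) (Ptab_s_3441_3448 c) (Ptab_s_3448_3456 c) (Nat.ble 3448 c)
noncomputable def Ptab_s_3426_3456 (c : Nat) : Nat := @Bool.rec (fun _ => Nat) (Ptab_s_3426_3441 c) (Ptab_s_3441_3456 c) (Nat.ble 3441 c)
noncomputable def Ptab_s_3457_3459 (c : Nat) : Nat := @Bool.rec (fun _ => Nat) (Ptab_3457) (Ptab_3458) (Nat.ble 3458 c)
noncomputable def Ptab_s_3456_3459 (c : Nat) : Nat := @Bool.rec (fun _ => Nat) (Ptab_3456) (Ptab_s_3457_3459 c) (Nat.ble 3457 c)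
noncomputable def Ptab_s_3459_3461 (c : Nat) : Nat := @Bool.rec (fun _ => Nat) (Ptab_3459) (Ptab_3460) (Nat.ble 3460 c)
noncomputable def Ptab_s_3461_3463 (c : Nat) : Nat := @Bool.rec (fun _ => Nat) (Ptab_3461) (Ptab_3462) (Nat.ble 3462 c)
noncomputable def Ptab_s_3459_3463 (c : Nat) : Nat := @Bool.rec (fun _ => Nat) (Ptab_s_3459_3461 c) (Ptab_s_3461_3463 c) (Nat.ble 3461 c)
noncomputable def Ptab_s_3456_3463 (c : Nat) : Nat := @Bool.rec (fun _ => Nat) (Ptab_s_3456_3459 c) (Ptab_s_3459_3463 c) (Nat.ble 3459 c)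
noncomputable def Ptab_s_3463_3465 (c : Nat) : Nat := @Bool.rec (fun _ => Nat) (Ptab_3463) (Ptab_3464) (Nat.ble 3464 c)
noncomputable def Ptab_s_3465_3467 (c : Nat) : Nat := @Bool.rec (fun _ => Nat) (Ptab_3465) (Ptab_3466) (Nat.ble 3466 c)
noncomputable def Ptab_s_3463_3467 (c : Nat) : Nat := @Bool.rec (fun _ => Nat) (Ptab_s_3463_3465 c) (Ptab_s_3465_3467 c) (Nat.ble 3465 c)
noncomputable def Ptab_s_3467_3469 (c : Nat) : Nat := @Bool.rec (fun _ => Nat) (Ptab_3467) (Ptab_3468) (Nat.ble 3468 c)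
noncomputable def Ptab_s_3469_3471 (c : Nat) : Nat := @Bool.rec (fun _ => Nat) (Ptab_3469) (Ptab_3470) (Nat.ble 3470 c)
noncomputable def Ptab_s_3467_3471 (c : Nat) : Nat := @Bool.rec (fun _ => Nat) (Ptab_s_3467_3469 c) (Ptab_s_3469_3471 c) (Nat.ble 3469 c)
noncomputable def Ptab_s_3463_3471 (c : Nat) : Nat := @Bool.rec (fun _ => Nat) (Ptab_s_3463_3467 c) (Ptab_s_3467_3471 c) (Nat.ble 3467 c)
noncomputable def Ptab_s_3456_3471 (c : Nat) : Nat := @Bool.rec (fun _ => Nat) (Ptab_s_3456_3463 c) (Ptab_s_3463_3471 c) (Nat.ble 3463 c)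
noncomputable def Ptab_s_3471_3473 (c : Nat) : Nat := @Bool.rec (fun _ => Nat) (Ptab_3471) (Ptab_3472) (Nat.ble 3472 c)
noncomputable def Ptab_s_3473_3475 (c : Nat) : Nat := @Bool.rec (fun _ => Nat) (Ptab_3473) (Ptab_3474) (Nat.ble 3474 c)
noncomputable def Ptab_s_3471_3475 (c : Nat) : Nat := @Bool.rec (fun _ => Nat) (Ptab_s_3471_3473 c) (Ptab_s_3473_3475 c) (Nat.ble 3473 c)
noncomputable def Ptab_s_3475_3477 (c : Nat) : Nat := @Bool.rec (fun _ => Nat) (Ptab_3475) (Ptab_3476) (Nat.ble 3476 c)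
noncomputable def Ptab_s_3477_3479 (c : Nat) : Nat := @Bool.rec (fun _ => Nat) (Ptab_3477) (Ptab_3478) (Nat.ble 3478 c)
noncomputable def Ptab_s_3475_3479 (c : Nat) : Nat := @Bool.rec (fun _ => Nat) (Ptab_s_3475_3477 c) (Ptab_s_3477_3479 c) (Nat.ble 3477 c)
noncomputable def Ptab_s_3471_3479 (c : Nat) : Nat := @Bool.rec (fun _ => Nat) (Ptab_s_3471_3475 c) (Ptab_s_3475_3479 c) (Nat.ble 3475 c)
noncomputable def Ptab_s_3479_3481 (c : Nat) : Nat := @Bool.rec (fun _ => Nat) (Ptab_3479) (Ptab_3480) (Nat.ble 3480 c)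
noncomputable def Ptab_s_3481_3483 (c : Nat) : Nat := @Bool.rec (fun _ => Nat) (Ptab_3481) (Ptab_3482) (Nat.ble 3482 c)
noncomputable def Ptab_s_3479_3483 (c : Nat) : Nat := @Bool.rec (fun _ => Nat) (Ptab_s_3479_3481 c) (Ptab_s_3481_3483 c) (Nat.ble 3481 c)
noncomputable def Ptab_s_3483_3485 (c : Nat) : Nat := @Bool.rec (fun _ => Nat) (Ptab_3483) (Ptab_3484) (Nat.ble 3484 c)
noncomputable def Ptab_s_3485_3487 (c : Nat) : Nat := @Bool.rec (fun _ => Nat) (Ptab_3485) (Ptab_3486) (Nat.ble 3486 c)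
noncomputable def Ptab_s_3483_3487 (c : Nat) : Nat := @Bool.rec (fun _ => Nat) (Ptab_s_3483_3485 c) (Ptab_s_3485_3487 c) (Nat.ble 3485 c)
noncomputable def Ptab_s_3479_3487 (c : Nat) : Nat := @Bool.rec (fun _ => Nat) (Ptab_s_3479_3483 c) (Ptab_s_3483_3487 c) (Nat.ble 3483 c)
noncomputable def Ptab_s_3471_3487 (c : Nat) : Nat := @Bool.rec (fun _ => Nat) (Ptab_s_3471_3479 c) (Ptab_s_3479_3487 c) (Nat.ble 3479 c)
noncomputable def Ptab_s_3456_3487 (c : Nat) : Nat := @Bool.rec (fun _ => Nat) (Ptab_s_3456_3471 c) (Ptab_s_3471_3487 c) (Nat.ble 3471 c)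
noncomputable def Ptab_s_3426_3487 (c : Nat) : Nat := @Bool.rec (fun _ => Nat) (Ptab_s_3426_3456 c) (Ptab_s_3456_3487 c) (Nat.ble 3456 c)
noncomputable def Ptab_s_3488_3490 (c : Nat) : Nat := @Bool.rec (fun _ => Nat) (Ptab_3488) (Ptab_3489) (Nat.ble 3489 c)
noncomputable def Ptab_s_3487_3490 (c : Nat) : Nat := @Bool.rec (fun _ => Nat) (Ptab_3487) (Ptab_s_3488_3490 c) (Nat.ble 3488 c)
noncomputable def Ptab_s_3490_3492 (c : Nat) : Nat := @Bool.rec (fun _ => Nat) (Ptab_3490) (Ptab_3491) (Nat.ble 3491 c)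
noncomputable def Ptab_s_3492_3494 (c : Nat) : Nat := @Bool.rec (fun _ => Nat) (Ptab_3492) (Ptab_3493) (Nat.ble 3493 c)
noncomputable def Ptab_s_3490_3494 (c : Nat) : Nat := @Bool.rec (fun _ => Nat) (Ptab_s_3490_3492 c) (Ptab_s_3492_3494 c) (Nat.ble 3492 c)
noncomputable def Ptab_s_3487_3494 (c : Nat) : Nat := @Bool.rec (fun _ => Nat) (Ptab_s_3487_3490 c) (Ptab_s_3490_3494 c) (Nat.ble 3490 c)
noncomputable def Ptab_s_3494_3496 (c : Nat) : Nat := @Bool.rec (fun _ => Nat) (Ptab_3494) (Ptab_3495) (Nat.ble 3495 c)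
noncomputable def Ptab_s_3496_3498 (c : Nat) : Nat := @Bool.rec (fun _ => Nat) (Ptab_3496) (Ptab_3497) (Nat.ble 3497 c)
noncomputable def Ptab_s_3494_3498 (c : Nat) : Nat := @Bool.rec (fun _ => Nat) (Ptab_s_3494_3496 c) (Ptab_s_3496_3498 c) (Nat.ble 3496 c)
noncomputable def Ptab_s_3498_3500 (c : Nat) : Nat := @Bool.rec (fun _ => Nat) (Ptab_3498) (Ptab_3499) (Nat.ble 3499 c)
noncomputable def Ptab_s_3500_3502 (c : Nat) : Nat := @Bool.rec (fun _ => Nat) (Ptab_3500) (Ptab_3501) (Nat.ble 3501 c)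
noncomputable def Ptab_s_3498_3502 (c : Nat) : Nat := @Bool.rec (fun _ => Nat) (Ptab_s_3498_3500 c) (Ptab_s_3500_3502 c) (Nat.ble 3500 c)
noncomputable def Ptab_s_3494_3502 (c : Nat) : Nat := @Bool.rec (fun _ => Nat) (Ptab_s_3494_3498 c) (Ptab_s_3498_3502 c) (Nat.ble 3498 c)
noncomputable def Ptab_s_3487_3502 (c : Nat) : Nat := @Bool.rec (fun _ => Nat) (Ptab_s_3487_3494 c) (Ptab_s_3494_3502 c) (Nat.ble 3494 c)
noncomputable def Ptab_s_3503_3505 (c : Nat) : Nat := @Bool.rec (fun _ => Nat) (Ptab_3503) (Ptab_3504) (Nat.ble 3504 c)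
noncomputable def Ptab_s_3502_3505 (c : Nat) : Nat := @Bool.rec (fun _ => Nat) (Ptab_3502) (Ptab_s_3503_3505 c) (Nat.ble 3503 c)
noncomputable def Ptab_s_3505_3507 (c : Nat) : Nat := @Bool.rec (fun _ => Nat) (Ptab_3505) (Ptab_3506) (Nat.ble 3506 c)
noncomputable def Ptab_s_3507_3509 (c : Nat) : Nat := @Bool.rec (fun _ => Nat) (Ptab_3507) (Ptab_3508) (Nat.ble 3508 c)
noncomputable def Ptab_s_3505_3509 (c : Nat) : Nat := @Bool.rec (fun _ => Nat) (Ptab_s_3505_3507 c) (Ptab_s_3507_3509 c) (Nat.ble 3507 c)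
noncomputable def Ptab_s_3502_3509 (c : Nat) : Nat := @Bool.rec (fun _ => Nat) (Ptab_s_3502_3505 c) (Ptab_s_3505_3509 c) (Nat.ble 3505 c)
noncomputable def Ptab_s_3509_3511 (c : Nat) : Nat := @Bool.rec (fun _ => Nat) (Ptab_3509) (Ptab_3510) (Nat.ble 3510 c)
noncomputable def Ptab_s_3511_3513 (c : Nat) : Nat := @Bool.rec (fun _ => Nat) (Ptab_3511) (Ptab_3512) (Nat.ble 3512 c)
noncomputable def Ptab_s_3509_3513 (c : Nat) : Nat := @Bool.rec (fun _ => Nat) (Ptab_s_3509_3511 c) (Ptab_s_3511_3513 c) (Nat.ble 3511 c)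
noncomputable def Ptab_s_3513_3515 (c : Nat) : Nat := @Bool.rec (fun _ => Nat) (Ptab_3513) (Ptab_3514) (Nat.ble 3514 c)
noncomputable def Ptab_s_3515_3517 (c : Nat) : Nat := @Bool.rec (fun _ => Nat) (Ptab_3515) (Ptab_3516) (Nat.ble 3516 c)
noncomputable def Ptab_s_3513_3517 (c : Nat) : Nat := @Bool.rec (fun _ => Nat) (Ptab_s_3513_3515 c) (Ptab_s_3515_3517 c) (Nat.ble 3515 c)
noncomputable def Ptab_s_3509_3517 (c : Nat) : Nat := @Bool.rec (fun _ => Nat) (Ptab_s_3509_3513 c) (Ptab_s_3513_3517 c) (Nat.ble 3513 c)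
noncomputable def Ptab_s_3502_3517 (c : Nat) : Nat := @Bool.rec (fun _ => Nat) (Ptab_s_3502_3509 c) (Ptab_s_3509_3517 c) (Nat.ble 3509 c)
noncomputable def Ptab_s_3487_3517 (c : Nat) : Nat := @Bool.rec (fun _ => Nat) (Ptab_s_3487_3502 c) (Ptab_s_3502_3517 c) (Nat.ble 3502 c)
noncomputable def Ptab_s_3518_3520 (c : Nat) : Nat := @Bool.rec (fun _ => Nat) (Ptab_3518) (Ptab_3519) (Nat.ble 3519 c)
noncomputable def Ptab_s_3517_3520 (c : Nat) : Nat := @Bool.rec (fun _ => Nat) (Ptab_3517) (Ptab_s_3518_3520 c) (Nat.ble 3518 c)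
noncomputable def Ptab_s_3520_3522 (c : Nat) : Nat := @Bool.rec (fun _ => Nat) (Ptab_3520) (Ptab_3521) (Nat.ble 3521 c)
noncomputable def Ptab_s_3522_3524 (c : Nat) : Nat := @Bool.rec (fun _ => Nat) (Ptab_3522) (Ptab_3523) (Nat.ble 3523 c)
noncomputable def Ptab_s_3520_3524 (c : Nat) : Nat := @Bool.rec (fun _ => Nat) (Ptab_s_3520_3522 c) (Ptab_s_3522_3524 c) (Nat.ble 3522 c)
noncomputable def Ptab_s_3517_3524 (c : Nat) : Nat := @Bool.rec (fun _ => Nat) (Ptab_s_3517_3520 c) (Ptab_s_3520_3524 c) (Nat.ble 3520 c)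
noncomputable def Ptab_s_3524_3526 (c : Nat) : Nat := @Bool.rec (fun _ => Nat) (Ptab_3524) (Ptab_3525) (Nat.ble 3525 c)
noncomputable def Ptab_s_3526_3528 (c : Nat) : Nat := @Bool.rec (fun _ => Nat) (Ptab_3526) (Ptab_3527) (Nat.ble 3527 c)
noncomputable def Ptab_s_3524_3528 (c : Nat) : Nat := @Bool.rec (fun _ => Nat) (Ptab_s_3524_3526 c) (Ptab_s_3526_3528 c) (Nat.ble 3526 c)
noncomputable def Ptab_s_3528_3530 (c : Nat) : Nat := @Bool.rec (fun _ => Nat) (Ptab_3528) (Ptab_3529) (Nat.ble 3529 c)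
noncomputable def Ptab_s_3530_3532 (c : Nat) : Nat := @Bool.rec (fun _ => Nat) (Ptab_3530) (Ptab_3531) (Nat.ble 3531 c)
noncomputable def Ptab_s_3528_3532 (c : Nat) : Nat := @Bool.rec (fun _ => Nat) (Ptab_s_3528_3530 c) (Ptab_s_3530_3532 c) (Nat.ble 3530 c)
noncomputable def Ptab_s_3524_3532 (c : Nat) : Nat := @Bool.rec (fun _ => Nat) (Ptab_s_3524_3528 c) (Ptab_s_3528_3532 c) (Nat.ble 3528 c)
noncomputable def Ptab_s_3517_3532 (c : Nat) : Nat := @Bool.rec (fun _ => Nat) (Ptab_s_3517_3524 c) (Ptab_s_3524_3532 c) (Nat.ble 3524 c)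
noncomputable def Ptab_s_3532_3534 (c : Nat) : Nat := @Bool.rec (fun _ => Nat) (Ptab_3532) (Ptab_3533) (Nat.ble 3533 c)
noncomputable def Ptab_s_3534_3536 (c : Nat) : Nat := @Bool.rec (fun _ => Nat) (Ptab_3534) (Ptab_3535) (Nat.ble 3535 c)
noncomputable def Ptab_s_3532_3536 (c : Nat) : Nat := @Bool.rec (fun _ => Nat) (Ptab_s_3532_3534 c) (Ptab_s_3534_3536 c) (Nat.ble 3534 c)
noncomputable def Ptab_s_3536_3538 (c : Nat) : Nat := @Bool.rec (fun _ => Nat) (Ptab_3536) (Ptab_3537) (Nat.ble 3537 c)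
noncomputable def Ptab_s_3538_3540 (c : Nat) : Nat := @Bool.rec (fun _ => Nat) (Ptab_3538) (Ptab_3539) (Nat.ble 3539 c)
noncomputable def Ptab_s_3536_3540 (c : Nat) : Nat := @Bool.rec (fun _ => Nat) (Ptab_s_3536_3538 c) (Ptab_s_3538_3540 c) (Nat.ble 3538 c)
noncomputable def Ptab_s_3532_3540 (c : Nat) : Nat := @Bool.rec (fun _ => Nat) (Ptab_s_3532_3536 c) (Ptab_s_3536_3540 c) (Nat.ble 3536 c)
noncomputable def Ptab_s_3540_3542 (c : Nat) : Nat := @Bool.rec (fun _ => Nat) (Ptab_3540) (Ptab_3541) (Nat.ble 3541 c)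
noncomputable def Ptab_s_3542_3544 (c : Nat) : Nat := @Bool.rec (fun _ => Nat) (Ptab_3542) (Ptab_3543) (Nat.ble 3543 c)
noncomputable def Ptab_s_3540_3544 (c : Nat) : Nat := @Bool.rec (fun _ => Nat) (Ptab_s_3540_3542 c) (Ptab_s_3542_3544 c) (Nat.ble 3542 c)
noncomputable def Ptab_s_3544_3546 (c : Nat) : Nat := @Bool.rec (fun _ => Nat) (Ptab_3544) (Ptab_3545) (Nat.ble 3545 c)
noncomputable def Ptab_s_3546_3548 (c : Nat) : Nat := @Bool.rec (fun _ => Nat) (Ptab_3546) (Ptab_3547) (Nat.ble 3547 c)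
noncomputable def Ptab_s_3544_3548 (c : Nat) : Nat := @Bool.rec (fun _ => Nat) (Ptab_s_3544_3546 c) (Ptab_s_3546_3548 c) (Nat.ble 3546 c)
noncomputable def Ptab_s_3540_3548 (c : Nat) : Nat := @Bool.rec (fun _ => Nat) (Ptab_s_3540_3544 c) (Ptab_s_3544_3548 c) (Nat.ble 3544 c)
noncomputable def Ptab_s_3532_3548 (c : Nat) : Nat := @Bool.rec (fun _ => Nat) (Ptab_s_3532_3540 c) (Ptab_s_3540_3548 c) (Nat.ble 3540 c)
noncomputable def Ptab_s_3517_3548 (c : Nat) : Nat := @Bool.rec (fun _ => Nat) (Ptab_s_3517_3532 c) (Ptab_s_3532_3548 c) (Nat.ble 3532 c)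
noncomputable def Ptab_s_3487_3548 (c : Nat) : Nat := @Bool.rec (fun _ => Nat) (Ptab_s_3487_3517 c) (Ptab_s_3517_3548 c) (Nat.ble 3517 c)
noncomputable def Ptab_s_3426_3548 (c : Nat) : Nat := @Bool.rec (fun _ => Nat) (Ptab_s_3426_3487 c) (Ptab_s_3487_3548 c) (Nat.ble 3487 c)
noncomputable def Ptab_s_3549_3551 (c : Nat) : Nat := @Bool.rec (fun _ => Nat) (Ptab_3549) (Ptab_3550) (Nat.ble 3550 c)
noncomputable def Ptab_s_3548_3551 (c : Nat) : Nat := @Bool.rec (fun _ => Nat) (Ptab_3548) (Ptab_s_3549_3551 c) (Nat.ble 3549 c)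
noncomputable def Ptab_s_3551_3553 (c : Nat) : Nat := @Bool.rec (fun _ => Nat) (Ptab_3551) (Ptab_3552) (Nat.ble 3552 c)
noncomputable def Ptab_s_3553_3555 (c : Nat) : Nat := @Bool.rec (fun _ => Nat) (Ptab_3553) (Ptab_3554) (Nat.ble 3554 c)
noncomputable def Ptab_s_3551_3555 (c : Nat) : Nat := @Bool.rec (fun _ => Nat) (Ptab_s_3551_3553 c) (Ptab_s_3553_3555 c) (Nat.ble 3553 c)
noncomputable def Ptab_s_3548_3555 (c : Nat) : Nat := @Bool.rec (fun _ => Nat) (Ptab_s_3548_3551 c) (Ptab_s_3551_3555 c) (Nat.ble 3551 c)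
noncomputable def Ptab_s_3555_3557 (c : Nat) : Nat := @Bool.rec (fun _ => Nat) (Ptab_3555) (Ptab_3556) (Nat.ble 3556 c)
noncomputable def Ptab_s_3557_3559 (c : Nat) : Nat := @Bool.rec (fun _ => Nat) (Ptab_3557) (Ptab_3558) (Nat.ble 3558 c)
noncomputable def Ptab_s_3555_3559 (c : Nat) : Nat := @Bool.rec (fun _ => Nat) (Ptab_s_3555_3557 c) (Ptab_s_3557_3559 c) (Nat.ble 3557 c)
noncomputable def Ptab_s_3559_3561 (c : Nat) : Nat := @Bool.rec (fun _ => Nat) (Ptab_3559) (Ptab_3560) (Nat.ble 3560 c)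
noncomputable def Ptab_s_3561_3563 (c : Nat) : Nat := @Bool.rec (fun _ => Nat) (Ptab_3561) (Ptab_3562) (Nat.ble 3562 c)
noncomputable def Ptab_s_3559_3563 (c : Nat) : Nat := @Bool.rec (fun _ => Nat) (Ptab_s_3559_3561 c) (Ptab_s_3561_3563 c) (Nat.ble 3561 c)
noncomputable def Ptab_s_3555_3563 (c : Nat) : Nat := @Bool.rec (fun _ => Nat) (Ptab_s_3555_3559 c) (Ptab_s_3559_3563 c) (Nat.ble 3559 c)
noncomputable def Ptab_s_3548_3563 (c : Nat) : Nat := @Bool.rec (fun _ => Nat) (Ptab_s_3548_3555 c) (Ptab_s_3555_3563 c) (Nat.ble 3555 c)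
noncomputable def Ptab_s_3564_3566 (c : Nat) : Nat := @Bool.rec (fun _ => Nat) (Ptab_3564) (Ptab_3565) (Nat.ble 3565 c)
noncomputable def Ptab_s_3563_3566 (c : Nat) : Nat := @Bool.rec (fun _ => Nat) (Ptab_3563) (Ptab_s_3564_3566 c) (Nat.ble 3564 c)
noncomputable def Ptab_s_3566_3568 (c : Nat) : Nat := @Bool.rec (fun _ => Nat) (Ptab_3566) (Ptab_3567) (Nat.ble 3567 c)
noncomputable def Ptab_s_3568_3570 (c : Nat) : Nat := @Bool.rec (fun _ => Nat) (Ptab_3568) (Ptab_3569) (Nat.ble 3569 c)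
noncomputable def Ptab_s_3566_3570 (c : Nat) : Nat := @Bool.rec (fun _ => Nat) (Ptab_s_3566_3568 c) (Ptab_s_3568_3570 c) (Nat.ble 3568 c)
noncomputable def Ptab_s_3563_3570 (c : Nat) : Nat := @Bool.rec (fun _ => Nat) (Ptab_s_3563_3566 c) (Ptab_s_3566_3570 c) (Nat.ble 3566 c)
noncomputable def Ptab_s_3570_3572 (c : Nat) : Nat := @Bool.rec (fun _ => Nat) (Ptab_3570) (Ptab_3571) (Nat.ble 3571 c)
noncomputable def Ptab_s_3572_3574 (c : Nat) : Nat := @Bool.rec (fun _ => Nat) (Ptab_3572) (Ptab_3573) (Nat.ble 3573 c)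
noncomputable def Ptab_s_3570_3574 (c : Nat) : Nat := @Bool.rec (fun _ => Nat) (Ptab_s_3570_3572 c) (Ptab_s_3572_3574 c) (Nat.ble 3572 c)
noncomputable def Ptab_s_3574_3576 (c : Nat) : Nat := @Bool.rec (fun _ => Nat) (Ptab_3574) (Ptab_3575) (Nat.ble 3575 c)
noncomputable def Ptab_s_3576_3578 (c : Nat) : Nat := @Bool.rec (fun _ => Nat) (Ptab_3576) (Ptab_3577) (Nat.ble 3577 c)
noncomputable def Ptab_s_3574_3578 (c : Nat) : Nat := @Bool.rec (fun _ => Nat) (Ptab_s_3574_3576 c) (Ptab_s_3576_3578 c) (Nat.ble 3576 c)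
noncomputable def Ptab_s_3570_3578 (c : Nat) : Nat := @Bool.rec (fun _ => Nat) (Ptab_s_3570_3574 c) (Ptab_s_3574_3578 c) (Nat.ble 3574 c)
noncomputable def Ptab_s_3563_3578 (c : Nat) : Nat := @Bool.rec (fun _ => Nat) (Ptab_s_3563_3570 c) (Ptab_s_3570_3578 c) (Nat.ble 3570 c)
noncomputable def Ptab_s_3548_3578 (c : Nat) : Nat := @Bool.rec (fun _ => Nat) (Ptab_s_3548_3563 c) (Ptab_s_3563_3578 c) (Nat.ble 3563 c)
noncomputable def Ptab_s_3579_3581 (c : Nat) : Nat := @Bool.rec (fun _ => Nat) (Ptab_3579) (Ptab_3580) (Nat.ble 3580 c)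
noncomputable def Ptab_s_3578_3581 (c : Nat) : Nat := @Bool.rec (fun _ => Nat) (Ptab_3578) (Ptab_s_3579_3581 c) (Nat.ble 3579 c)
noncomputable def Ptab_s_3581_3583 (c : Nat) : Nat := @Bool.rec (fun _ => Nat) (Ptab_3581) (Ptab_3582) (Nat.ble 3582 c)
noncomputable def Ptab_s_3583_3585 (c : Nat) : Nat := @Bool.rec (fun _ => Nat) (Ptab_3583) (Ptab_3584) (Nat.ble 3584 c)
noncomputable def Ptab_s_3581_3585 (c : Nat) : Nat := @Bool.rec (fun _ => Nat) (Ptab_s_3581_3583 c) (Ptab_s_3583_3585 c) (Nat.ble 3583 c)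
noncomputable def Ptab_s_3578_3585 (c : Nat) : Nat := @Bool.rec (fun _ => Nat) (Ptab_s_3578_3581 c) (Ptab_s_3581_3585 c) (Nat.ble 3581 c)
noncomputable def Ptab_s_3585_3587 (c : Nat) : Nat := @Bool.rec (fun _ => Nat) (Ptab_3585) (Ptab_3586) (Nat.ble 3586 c)
noncomputable def Ptab_s_3587_3589 (c : Nat) : Nat := @Bool.rec (fun _ => Nat) (Ptab_3587) (Ptab_3588) (Nat.ble 3588 c)
noncomputable def Ptab_s_3585_3589 (c : Nat) : Nat := @Bool.rec (fun _ => Nat) (Ptab_s_3585_3587 c) (Ptab_s_3587_3589 c) (Nat.ble 3587 c)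
noncomputable def Ptab_s_3589_3591 (c : Nat) : Nat := @Bool.rec (fun _ => Nat) (Ptab_3589) (Ptab_3590) (Nat.ble 3590 c)
noncomputable def Ptab_s_3591_3593 (c : Nat) : Nat := @Bool.rec (fun _ => Nat) (Ptab_3591) (Ptab_3592) (Nat.ble 3592 c)
noncomputable def Ptab_s_3589_3593 (c : Nat) : Nat := @Bool.rec (fun _ => Nat) (Ptab_s_3589_3591 c) (Ptab_s_3591_3593 c) (Nat.ble 3591 c)
noncomputable def Ptab_s_3585_3593 (c : Nat) : Nat := @Bool.rec (fun _ => Nat) (Ptab_s_3585_3589 c) (Ptab_s_3589_3593 c) (Nat.ble 3589 c)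
noncomputable def Ptab_s_3578_3593 (c : Nat) : Nat := @Bool.rec (fun _ => Nat) (Ptab_s_3578_3585 c) (Ptab_s_3585_3593 c) (Nat.ble 3585 c)
noncomputable def Ptab_s_3593_3595 (c : Nat) : Nat := @Bool.rec (fun _ => Nat) (Ptab_3593) (Ptab_3594) (Nat.ble 3594 c)
noncomputable def Ptab_s_3595_3597 (c : Nat) : Nat := @Bool.rec (fun _ => Nat) (Ptab_3595) (Ptab_3596) (Nat.ble 3596 c)
noncomputable def Ptab_s_3593_3597 (c : Nat) : Nat := @Bool.rec (fun _ => Nat) (Ptab_s_3593_3595 c) (Ptab_s_3595_3597 c) (Nat.ble 3595 c)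
noncomputable def Ptab_s_3597_3599 (c : Nat) : Nat := @Bool.rec (fun _ => Nat) (Ptab_3597) (Ptab_3598) (Nat.ble 3598 c)
noncomputable def Ptab_s_3599_3601 (c : Nat) : Nat := @Bool.rec (fun _ => Nat) (Ptab_3599) (Ptab_3600) (Nat.ble 3600 c)
noncomputable def Ptab_s_3597_3601 (c : Nat) : Nat := @Bool.rec (fun _ => Nat) (Ptab_s_3597_3599 c) (Ptab_s_3599_3601 c) (Nat.ble 3599 c)
noncomputable def Ptab_s_3593_3601 (c : Nat) : Nat := @Bool.rec (fun _ => Nat) (Ptab_s_3593_3597 c) (Ptab_s_3597_3601 c) (Nat.ble 3597 c)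
noncomputable def Ptab_s_3601_3603 (c : Nat) : Nat := @Bool.rec (fun _ => Nat) (Ptab_3601) (Ptab_3602) (Nat.ble 3602 c)
noncomputable def Ptab_s_3603_3605 (c : Nat) : Nat := @Bool.rec (fun _ => Nat) (Ptab_3603) (Ptab_3604) (Nat.ble 3604 c)
noncomputable def Ptab_s_3601_3605 (c : Nat) : Nat := @Bool.rec (fun _ => Nat) (Ptab_s_3601_3603 c) (Ptab_s_3603_3605 c) (Nat.ble 3603 c)
noncomputable def Ptab_s_3605_3607 (c : Nat) : Nat := @Bool.rec (fun _ => Nat) (Ptab_3605) (Ptab_3606) (Nat.ble 3606 c)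
noncomputable def Ptab_s_3607_3609 (c : Nat) : Nat := @Bool.rec (fun _ => Nat) (Ptab_3607) (Ptab_3608) (Nat.ble 3608 c)
noncomputable def Ptab_s_3605_3609 (c : Nat) : Nat := @Bool.rec (fun _ => Nat) (Ptab_s_3605_3607 c) (Ptab_s_3607_3609 c) (Nat.ble 3607 c)
noncomputable def Ptab_s_3601_3609 (c : Nat) : Nat := @Bool.rec (fun _ => Nat) (Ptab_s_3601_3605 c) (Ptab_s_3605_3609 c) (Nat.ble 3605 c)
noncomputable def Ptab_s_3593_3609 (c : Nat) : Nat := @Bool.rec (fun _ => Nat) (Ptab_s_3593_3601 c) (Ptab_s_3601_3609 c) (Nat.ble 3601 c)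
noncomputable def Ptab_s_3578_3609 (c : Nat) : Nat := @Bool.rec (fun _ => Nat) (Ptab_s_3578_3593 c) (Ptab_s_3593_3609 c) (Nat.ble 3593 c)
noncomputable def Ptab_s_3548_3609 (c : Nat) : Nat := @Bool.rec (fun _ => Nat) (Ptab_s_3548_3578 c) (Ptab_s_3578_3609 c) (Nat.ble 3578 c)
noncomputable def Ptab_s_3610_3612 (c : Nat) : Nat := @Bool.rec (fun _ => Nat) (Ptab_3610) (Ptab_3611) (Nat.ble 3611 c)
noncomputable def Ptab_s_3609_3612 (c : Nat) : Nat := @Bool.rec (fun _ => Nat) (Ptab_3609) (Ptab_s_3610_3612 c) (Nat.ble 3610 c)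
noncomputable def Ptab_s_3612_3614 (c : Nat) : Nat := @Bool.rec (fun _ => Nat) (Ptab_3612) (Ptab_3613) (Nat.ble 3613 c)
noncomputable def Ptab_s_3614_3616 (c : Nat) : Nat := @Bool.rec (fun _ => Nat) (Ptab_3614) (Ptab_3615) (Nat.ble 3615 c)
noncomputable def Ptab_s_3612_3616 (c : Nat) : Nat := @Bool.rec (fun _ => Nat) (Ptab_s_3612_3614 c) (Ptab_s_3614_3616 c) (Nat.ble 3614 c)
noncomputable def Ptab_s_3609_3616 (c : Nat) : Nat := @Bool.rec (fun _ => Nat) (Ptab_s_3609_3612 c) (Ptab_s_3612_3616 c) (Nat.ble 3612 c)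
noncomputable def Ptab_s_3616_3618 (c : Nat) : Nat := @Bool.rec (fun _ => Nat) (Ptab_3616) (Ptab_3617) (Nat.ble 3617 c)
noncomputable def Ptab_s_3618_3620 (c : Nat) : Nat := @Bool.rec (fun _ => Nat) (Ptab_3618) (Ptab_3619) (Nat.ble 3619 c)
noncomputable def Ptab_s_3616_3620 (c : Nat) : Nat := @Bool.rec (fun _ => Nat) (Ptab_s_3616_3618 c) (Ptab_s_3618_3620 c) (Nat.ble 3618 c)
noncomputable def Ptab_s_3620_3622 (c : Nat) : Nat := @Bool.rec (fun _ => Nat) (Ptab_3620) (Ptab_3621) (Nat.ble 3621 c)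
noncomputable def Ptab_s_3622_3624 (c : Nat) : Nat := @Bool.rec (fun _ => Nat) (Ptab_3622) (Ptab_3623) (Nat.ble 3623 c)
noncomputable def Ptab_s_3620_3624 (c : Nat) : Nat := @Bool.rec (fun _ => Nat) (Ptab_s_3620_3622 c) (Ptab_s_3622_3624 c) (Nat.ble 3622 c)
noncomputable def Ptab_s_3616_3624 (c : Nat) : Nat := @Bool.rec (fun _ => Nat) (Ptab_s_3616_3620 c) (Ptab_s_3620_3624 c) (Nat.ble 3620 c)
noncomputable def Ptab_s_3609_3624 (c : Nat) : Nat := @Bool.rec (fun _ => Nat) (Ptab_s_3609_3616 c) (Ptab_s_3616_3624 c) (Nat.ble 3616 c)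
noncomputable def Ptab_s_3624_3626 (c : Nat) : Nat := @Bool.rec (fun _ => Nat) (Ptab_3624) (Ptab_3625) (Nat.ble 3625 c)
noncomputable def Ptab_s_3626_3628 (c : Nat) : Nat := @Bool.rec (fun _ => Nat) (Ptab_3626) (Ptab_3627) (Nat.ble 3627 c)
noncomputable def Ptab_s_3624_3628 (c : Nat) : Nat := @Bool.rec (fun _ => Nat) (Ptab_s_3624_3626 c) (Ptab_s_3626_3628 c) (Nat.ble 3626 c)
noncomputable def Ptab_s_3628_3630 (c : Nat) : Nat := @Bool.rec (fun _ => Nat) (Ptab_3628) (Ptab_3629) (Nat.ble 3629 c)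
noncomputable def Ptab_s_3630_3632 (c : Nat) : Nat := @Bool.rec (fun _ => Nat) (Ptab_3630) (Ptab_3631) (Nat.ble 3631 c)
noncomputable def Ptab_s_3628_3632 (c : Nat) : Nat := @Bool.rec (fun _ => Nat) (Ptab_s_3628_3630 c) (Ptab_s_3630_3632 c) (Nat.ble 3630 c)
noncomputable def Ptab_s_3624_3632 (c : Nat) : Nat := @Bool.rec (fun _ => Nat) (Ptab_s_3624_3628 c) (Ptab_s_3628_3632 c) (Nat.ble 3628 c)
noncomputable def Ptab_s_3632_3634 (c : Nat) : Nat := @Bool.rec (fun _ => Nat) (Ptab_3632) (Ptab_3633) (Nat.ble 3633 c)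
noncomputable def Ptab_s_3634_3636 (c : Nat) : Nat := @Bool.rec (fun _ => Nat) (Ptab_3634) (Ptab_3635) (Nat.ble 3635 c)
noncomputable def Ptab_s_3632_3636 (c : Nat) : Nat := @Bool.rec (fun _ => Nat) (Ptab_s_3632_3634 c) (Ptab_s_3634_3636 c) (Nat.ble 3634 c)
noncomputable def Ptab_s_3636_3638 (c : Nat) : Nat := @Bool.rec (fun _ => Nat) (Ptab_3636) (Ptab_3637) (Nat.ble 3637 c)
noncomputable def Ptab_s_3638_3640 (c : Nat) : Nat := @Bool.rec (fun _ => Nat) (Ptab_3638) (Ptab_3639) (Nat.ble 3639 c)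
noncomputable def Ptab_s_3636_3640 (c : Nat) : Nat := @Bool.rec (fun _ => Nat) (Ptab_s_3636_3638 c) (Ptab_s_3638_3640 c) (Nat.ble 3638 c)
noncomputable def Ptab_s_3632_3640 (c : Nat) : Nat := @Bool.rec (fun _ => Nat) (Ptab_s_3632_3636 c) (Ptab_s_3636_3640 c) (Nat.ble 3636 c)
noncomputable def Ptab_s_3624_3640 (c : Nat) : Nat := @Bool.rec (fun _ => Nat) (Ptab_s_3624_3632 c) (Ptab_s_3632_3640 c) (Nat.ble 3632 c)
noncomputable def Ptab_s_3609_3640 (c : Nat) : Nat := @Bool.rec (fun _ => Nat) (Ptab_s_3609_3624 c) (Ptab_s_3624_3640 c) (Nat.ble 3624 c)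
noncomputable def Ptab_s_3641_3643 (c : Nat) : Nat := @Bool.rec (fun _ => Nat) (Ptab_3641) (Ptab_3642) (Nat.ble 3642 c)
noncomputable def Ptab_s_3640_3643 (c : Nat) : Nat := @Bool.rec (fun _ => Nat) (Ptab_3640) (Ptab_s_3641_3643 c) (Nat.ble 3641 c)
noncomputable def Ptab_s_3643_3645 (c : Nat) : Nat := @Bool.rec (fun _ => Nat) (Ptab_3643) (Ptab_3644) (Nat.ble 3644 c)
noncomputable def Ptab_s_3645_3647 (c : Nat) : Nat := @Bool.rec (fun _ => Nat) (Ptab_3645) (Ptab_3646) (Nat.ble 3646 c)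
noncomputable def Ptab_s_3643_3647 (c : Nat) : Nat := @Bool.rec (fun _ => Nat) (Ptab_s_3643_3645 c) (Ptab_s_3645_3647 c) (Nat.ble 3645 c)
noncomputable def Ptab_s_3640_3647 (c : Nat) : Nat := @Bool.rec (fun _ => Nat) (Ptab_s_3640_3643 c) (Ptab_s_3643_3647 c) (Nat.ble 3643 c)
noncomputable def Ptab_s_3647_3649 (c : Nat) : Nat := @Bool.rec (fun _ => Nat) (Ptab_3647) (Ptab_3648) (Nat.ble 3648 c)
noncomputable def Ptab_s_3649_3651 (c : Nat) : Nat := @Bool.rec (fun _ => Nat) (Ptab_3649) (Ptab_3650) (Nat.ble 3650 c)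
noncomputable def Ptab_s_3647_3651 (c : Nat) : Nat := @Bool.rec (fun _ => Nat) (Ptab_s_3647_3649 c) (Ptab_s_3649_3651 c) (Nat.ble 3649 c)
noncomputable def Ptab_s_3651_3653 (c : Nat) : Nat := @Bool.rec (fun _ => Nat) (Ptab_3651) (Ptab_3652) (Nat.ble 3652 c)
noncomputable def Ptab_s_3653_3655 (c : Nat) : Nat := @Bool.rec (fun _ => Nat) (Ptab_3653) (Ptab_3654) (Nat.ble 3654 c)
noncomputable def Ptab_s_3651_3655 (c : Nat) : Nat := @Bool.rec (fun _ => Nat) (Ptab_s_3651_3653 c) (Ptab_s_3653_3655 c) (Nat.ble 3653 c)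
noncomputable def Ptab_s_3647_3655 (c : Nat) : Nat := @Bool.rec (fun _ => Nat) (Ptab_s_3647_3651 c) (Ptab_s_3651_3655 c) (Nat.ble 3651 c)
noncomputable def Ptab_s_3640_3655 (c : Nat) : Nat := @Bool.rec (fun _ => Nat) (Ptab_s_3640_3647 c) (Ptab_s_3647_3655 c) (Nat.ble 3647 c)
noncomputable def Ptab_s_3655_3657 (c : Nat) : Nat := @Bool.rec (fun _ => Nat) (Ptab_3655) (Ptab_3656) (Nat.ble 3656 c)
noncomputable def Ptab_s_3657_3659 (c : Nat) : Nat := @Bool.rec (fun _ => Nat) (Ptab_3657) (Ptab_3658) (Nat.ble 3658 c)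
noncomputable def Ptab_s_3655_3659 (c : Nat) : Nat := @Bool.rec (fun _ => Nat) (Ptab_s_3655_3657 c) (Ptab_s_3657_3659 c) (Nat.ble 3657 c)
noncomputable def Ptab_s_3659_3661 (c : Nat) : Nat := @Bool.rec (fun _ => Nat) (Ptab_3659) (Ptab_3660) (Nat.ble 3660 c)
noncomputable def Ptab_s_3661_3663 (c : Nat) : Nat := @Bool.rec (fun _ => Nat) (Ptab_3661) (Ptab_3662) (Nat.ble 3662 c)
noncomputable def Ptab_s_3659_3663 (c : Nat) : Nat := @Bool.rec (fun _ => Nat) (Ptab_s_3659_3661 c) (Ptab_s_3661_3663 c) (Nat.ble 3661 c)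
noncomputable def Ptab_s_3655_3663 (c : Nat) : Nat := @Bool.rec (fun _ => Nat) (Ptab_s_3655_3659 c) (Ptab_s_3659_3663 c) (Nat.ble 3659 c)
noncomputable def Ptab_s_3663_3665 (c : Nat) : Nat := @Bool.rec (fun _ => Nat) (Ptab_3663) (Ptab_3664) (Nat.ble 3664 c)
noncomputable def Ptab_s_3665_3667 (c : Nat) : Nat := @Bool.rec (fun _ => Nat) (Ptab_3665) (Ptab_3666) (Nat.ble 3666 c)
noncomputable def Ptab_s_3663_3667 (c : Nat) : Nat := @Bool.rec (fun _ => Nat) (Ptab_s_3663_3665 c) (Ptab_s_3665_3667 c) (Nat.ble 3665 c)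
noncomputable def Ptab_s_3667_3669 (c : Nat) : Nat := @Bool.rec (fun _ => Nat) (Ptab_3667) (Ptab_3668) (Nat.ble 3668 c)
noncomputable def Ptab_s_3669_3671 (c : Nat) : Nat := @Bool.rec (fun _ => Nat) (Ptab_3669) (Ptab_3670) (Nat.ble 3670 c)
noncomputable def Ptab_s_3667_3671 (c : Nat) : Nat := @Bool.rec (fun _ => Nat) (Ptab_s_3667_3669 c) (Ptab_s_3669_3671 c) (Nat.ble 3669 c)
noncomputable def Ptab_s_3663_3671 (c : Nat) : Nat := @Bool.rec (fun _ => Nat) (Ptab_s_3663_3667 c) (Ptab_s_3667_3671 c) (Nat.ble 3667 c)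
noncomputable def Ptab_s_3655_3671 (c : Nat) : Nat := @Bool.rec (fun _ => Nat) (Ptab_s_3655_3663 c) (Ptab_s_3663_3671 c) (Nat.ble 3663 c)
noncomputable def Ptab_s_3640_3671 (c : Nat) : Nat := @Bool.rec (fun _ => Nat) (Ptab_s_3640_3655 c) (Ptab_s_3655_3671 c) (Nat.ble 3655 c)
noncomputable def Ptab_s_3609_3671 (c : Nat) : Nat := @Bool.rec (fun _ => Nat) (Ptab_s_3609_3640 c) (Ptab_s_3640_3671 c) (Nat.ble 3640 c)
noncomputable def Ptab_s_3548_3671 (c : Nat) : Nat := @Bool.rec (fun _ => Nat) (Ptab_s_3548_3609 c) (Ptab_s_3609_3671 c) (Nat.ble 3609 c)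
noncomputable def Ptab_s_3426_3671 (c : Nat) : Nat := @Bool.rec (fun _ => Nat) (Ptab_s_3426_3548 c) (Ptab_s_3548_3671 c) (Nat.ble 3548 c)
noncomputable def Ptab_s_3672_3674 (c : Nat) : Nat := @Bool.rec (fun _ => Nat) (Ptab_3672) (Ptab_3673) (Nat.ble 3673 c)
noncomputable def Ptab_s_3671_3674 (c : Nat) : Nat := @Bool.rec (fun _ => Nat) (Ptab_3671) (Ptab_s_3672_3674 c) (Nat.ble 3672 c)
noncomputable def Ptab_s_3674_3676 (c : Nat) : Nat := @Bool.rec (fun _ => Nat) (Ptab_3674) (Ptab_3675) (Nat.ble 3675 c)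
noncomputable def Ptab_s_3676_3678 (c : Nat) : Nat := @Bool.rec (fun _ => Nat) (Ptab_3676) (Ptab_3677) (Nat.ble 3677 c)
noncomputable def Ptab_s_3674_3678 (c : Nat) : Nat := @Bool.rec (fun _ => Nat) (Ptab_s_3674_3676 c) (Ptab_s_3676_3678 c) (Nat.ble 3676 c)
noncomputable def Ptab_s_3671_3678 (c : Nat) : Nat := @Bool.rec (fun _ => Nat) (Ptab_s_3671_3674 c) (Ptab_s_3674_3678 c) (Nat.ble 3674 c)
noncomputable def Ptab_s_3678_3680 (c : Nat) : Nat := @Bool.rec (fun _ => Nat) (Ptab_3678) (Ptab_3679) (Nat.ble 3679 c)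
noncomputable def Ptab_s_3680_3682 (c : Nat) : Nat := @Bool.rec (fun _ => Nat) (Ptab_3680) (Ptab_3681) (Nat.ble 3681 c)
noncomputable def Ptab_s_3678_3682 (c : Nat) : Nat := @Bool.rec (fun _ => Nat) (Ptab_s_3678_3680 c) (Ptab_s_3680_3682 c) (Nat.ble 3680 c)
noncomputable def Ptab_s_3682_3684 (c : Nat) : Nat := @Bool.rec (fun _ => Nat) (Ptab_3682) (Ptab_3683) (Nat.ble 3683 c)
noncomputable def Ptab_s_3684_3686 (c : Nat) : Nat := @Bool.rec (fun _ => Nat) (Ptab_3684) (Ptab_3685) (Nat.ble 3685 c)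
noncomputable def Ptab_s_3682_3686 (c : Nat) : Nat := @Bool.rec (fun _ => Nat) (Ptab_s_3682_3684 c) (Ptab_s_3684_3686 c) (Nat.ble 3684 c)
noncomputable def Ptab_s_3678_3686 (c : Nat) : Nat := @Bool.rec (fun _ => Nat) (Ptab_s_3678_3682 c) (Ptab_s_3682_3686 c) (Nat.ble 3682 c)
noncomputable def Ptab_s_3671_3686 (c : Nat) : Nat := @Bool.rec (fun _ => Nat) (Ptab_s_3671_3678 c) (Ptab_s_3678_3686 c) (Nat.ble 3678 c)
noncomputable def Ptab_s_3687_3689 (c : Nat) : Nat := @Bool.rec (fun _ => Nat) (Ptab_3687) (Ptab_3688) (Nat.ble 3688 c)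
noncomputable def Ptab_s_3686_3689 (c : Nat) : Nat := @Bool.rec (fun _ => Nat) (Ptab_3686) (Ptab_s_3687_3689 c) (Nat.ble 3687 c)
noncomputable def Ptab_s_3689_3691 (c : Nat) : Nat := @Bool.rec (fun _ => Nat) (Ptab_3689) (Ptab_3690) (Nat.ble 3690 c)
noncomputable def Ptab_s_3691_3693 (c : Nat) : Nat := @Bool.rec (fun _ => Nat) (Ptab_3691) (Ptab_3692) (Nat.ble 3692 c)
noncomputable def Ptab_s_3689_3693 (c : Nat) : Nat := @Bool.rec (fun _ => Nat) (Ptab_s_3689_3691 c) (Ptab_s_3691_3693 c) (Nat.ble 3691 c)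
noncomputable def Ptab_s_3686_3693 (c : Nat) : Nat := @Bool.rec (fun _ => Nat) (Ptab_s_3686_3689 c) (Ptab_s_3689_3693 c) (Nat.ble 3689 c)
noncomputable def Ptab_s_3693_3695 (c : Nat) : Nat := @Bool.rec (fun _ => Nat) (Ptab_3693) (Ptab_3694) (Nat.ble 3694 c)
noncomputable def Ptab_s_3695_3697 (c : Nat) : Nat := @Bool.rec (fun _ => Nat) (Ptab_3695) (Ptab_3696) (Nat.ble 3696 c)
noncomputable def Ptab_s_3693_3697 (c : Nat) : Nat := @Bool.rec (fun _ => Nat) (Ptab_s_3693_3695 c) (Ptab_s_3695_3697 c) (Nat.ble 3695 c)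
noncomputable def Ptab_s_3697_3699 (c : Nat) : Nat := @Bool.rec (fun _ => Nat) (Ptab_3697) (Ptab_3698) (Nat.ble 3698 c)
noncomputable def Ptab_s_3699_3701 (c : Nat) : Nat := @Bool.rec (fun _ => Nat) (Ptab_3699) (Ptab_3700) (Nat.ble 3700 c)
noncomputable def Ptab_s_3697_3701 (c : Nat) : Nat := @Bool.rec (fun _ => Nat) (Ptab_s_3697_3699 c) (Ptab_s_3699_3701 c) (Nat.ble 3699 c)
noncomputable def Ptab_s_3693_3701 (c : Nat) : Nat := @Bool.rec (fun _ => Nat) (Ptab_s_3693_3697 c) (Ptab_s_3697_3701 c) (Nat.ble 3697 c)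
noncomputable def Ptab_s_3686_3701 (c : Nat) : Nat := @Bool.rec (fun _ => Nat) (Ptab_s_3686_3693 c) (Ptab_s_3693_3701 c) (Nat.ble 3693 c)
noncomputable def Ptab_s_3671_3701 (c : Nat) : Nat := @Bool.rec (fun _ => Nat) (Ptab_s_3671_3686 c) (Ptab_s_3686_3701 c) (Nat.ble 3686 c)
noncomputable def Ptab_s_3702_3704 (c : Nat) : Nat := @Bool.rec (fun _ => Nat) (Ptab_3702) (Ptab_3703) (Nat.ble 3703 c)
noncomputable def Ptab_s_3701_3704 (c : Nat) : Nat := @Bool.rec (fun _ => Nat) (Ptab_3701) (Ptab_s_3702_3704 c) (Nat.ble 3702 c)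
noncomputable def Ptab_s_3704_3706 (c : Nat) : Nat := @Bool.rec (fun _ => Nat) (Ptab_3704) (Ptab_3705) (Nat.ble 3705 c)
noncomputable def Ptab_s_3706_3708 (c : Nat) : Nat := @Bool.rec (fun _ => Nat) (Ptab_3706) (Ptab_3707) (Nat.ble 3707 c)
noncomputable def Ptab_s_3704_3708 (c : Nat) : Nat := @Bool.rec (fun _ => Nat) (Ptab_s_3704_3706 c) (Ptab_s_3706_3708 c) (Nat.ble 3706 c)
noncomputable def Ptab_s_3701_3708 (c : Nat) : Nat := @Bool.rec (fun _ => Nat) (Ptab_s_3701_3704 c) (Ptab_s_3704_3708 c) (Nat.ble 3704 c)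
noncomputable def Ptab_s_3708_3710 (c : Nat) : Nat := @Bool.rec (fun _ => Nat) (Ptab_3708) (Ptab_3709) (Nat.ble 3709 c)
noncomputable def Ptab_s_3710_3712 (c : Nat) : Nat := @Bool.rec (fun _ => Nat) (Ptab_3710) (Ptab_3711) (Nat.ble 3711 c)
noncomputable def Ptab_s_3708_3712 (c : Nat) : Nat := @Bool.rec (fun _ => Nat) (Ptab_s_3708_3710 c) (Ptab_s_3710_3712 c) (Nat.ble 3710 c)
noncomputable def Ptab_s_3712_3714 (c : Nat) : Nat := @Bool.rec (fun _ => Nat) (Ptab_3712) (Ptab_3713) (Nat.ble 3713 c)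
noncomputable def Ptab_s_3714_3716 (c : Nat) : Nat := @Bool.rec (fun _ => Nat) (Ptab_3714) (Ptab_3715) (Nat.ble 3715 c)
noncomputable def Ptab_s_3712_3716 (c : Nat) : Nat := @Bool.rec (fun _ => Nat) (Ptab_s_3712_3714 c) (Ptab_s_3714_3716 c) (Nat.ble 3714 c)
noncomputable def Ptab_s_3708_3716 (c : Nat) : Nat := @Bool.rec (fun _ => Nat) (Ptab_s_3708_3712 c) (Ptab_s_3712_3716 c) (Nat.ble 3712 c)
noncomputable def Ptab_s_3701_3716 (c : Nat) : Nat := @Bool.rec (fun _ => Nat) (Ptab_s_3701_3708 c) (Ptab_s_3708_3716 c) (Nat.ble 3708 c)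
noncomputable def Ptab_s_3716_3718 (c : Nat) : Nat := @Bool.rec (fun _ => Nat) (Ptab_3716) (Ptab_3717) (Nat.ble 3717 c)
noncomputable def Ptab_s_3718_3720 (c : Nat) : Nat := @Bool.rec (fun _ => Nat) (Ptab_3718) (Ptab_3719) (Nat.ble 3719 c)
noncomputable def Ptab_s_3716_3720 (c : Nat) : Nat := @Bool.rec (fun _ => Nat) (Ptab_s_3716_3718 c) (Ptab_s_3718_3720 c) (Nat.ble 3718 c)
noncomputable def Ptab_s_3720_3722 (c : Nat) : Nat := @Bool.rec (fun _ => Nat) (Ptab_3720) (Ptab_3721) (Nat.ble 3721 c)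
noncomputable def Ptab_s_3722_3724 (c : Nat) : Nat := @Bool.rec (fun _ => Nat) (Ptab_3722) (Ptab_3723) (Nat.ble 3723 c)
noncomputable def Ptab_s_3720_3724 (c : Nat) : Nat := @Bool.rec (fun _ => Nat) (Ptab_s_3720_3722 c) (Ptab_s_3722_3724 c) (Nat.ble 3722 c)
noncomputable def Ptab_s_3716_3724 (c : Nat) : Nat := @Bool.rec (fun _ => Nat) (Ptab_s_3716_3720 c) (Ptab_s_3720_3724 c) (Nat.ble 3720 c)
noncomputable def Ptab_s_3724_3726 (c : Nat) : Nat := @Bool.rec (fun _ => Nat) (Ptab_3724) (Ptab_3725) (Nat.ble 3725 c)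
noncomputable def Ptab_s_3726_3728 (c : Nat) : Nat := @Bool.rec (fun _ => Nat) (Ptab_3726) (Ptab_3727) (Nat.ble 3727 c)
noncomputable def Ptab_s_3724_3728 (c : Nat) : Nat := @Bool.rec (fun _ => Nat) (Ptab_s_3724_3726 c) (Ptab_s_3726_3728 c) (Nat.ble 3726 c)
noncomputable def Ptab_s_3728_3730 (c : Nat) : Nat := @Bool.rec (fun _ => Nat) (Ptab_3728) (Ptab_3729) (Nat.ble 3729 c)
noncomputable def Ptab_s_3730_3732 (c : Nat) : Nat := @Bool.rec (fun _ => Nat) (Ptab_3730) (Ptab_3731) (Nat.ble 3731 c)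
noncomputable def Ptab_s_3728_3732 (c : Nat) : Nat := @Bool.rec (fun _ => Nat) (Ptab_s_3728_3730 c) (Ptab_s_3730_3732 c) (Nat.ble 3730 c)
noncomputable def Ptab_s_3724_3732 (c : Nat) : Nat := @Bool.rec (fun _ => Nat) (Ptab_s_3724_3728 c) (Ptab_s_3728_3732 c) (Nat.ble 3728 c)
noncomputable def Ptab_s_3716_3732 (c : Nat) : Nat := @Bool.rec (fun _ => Nat) (Ptab_s_3716_3724 c) (Ptab_s_3724_3732 c) (Nat.ble 3724 c)
noncomputable def Ptab_s_3701_3732 (c : Nat) : Nat := @Bool.rec (fun _ => Nat) (Ptab_s_3701_3716 c) (Ptab_s_3716_3732 c) (Nat.ble 3716 c)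
noncomputable def Ptab_s_3671_3732 (c : Nat) : Nat := @Bool.rec (fun _ => Nat) (Ptab_s_3671_3701 c) (Ptab_s_3701_3732 c) (Nat.ble 3701 c)
noncomputable def Ptab_s_3733_3735 (c : Nat) : Nat := @Bool.rec (fun _ => Nat) (Ptab_3733) (Ptab_3734) (Nat.ble 3734 c)
noncomputable def Ptab_s_3732_3735 (c : Nat) : Nat := @Bool.rec (fun _ => Nat) (Ptab_3732) (Ptab_s_3733_3735 c) (Nat.ble 3733 c)
noncomputable def Ptab_s_3735_3737 (c : Nat) : Nat := @Bool.rec (fun _ => Nat) (Ptab_3735) (Ptab_3736) (Nat.ble 3736 c)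
noncomputable def Ptab_s_3737_3739 (c : Nat) : Nat := @Bool.rec (fun _ => Nat) (Ptab_3737) (Ptab_3738) (Nat.ble 3738 c)
noncomputable def Ptab_s_3735_3739 (c : Nat) : Nat := @Bool.rec (fun _ => Nat) (Ptab_s_3735_3737 c) (Ptab_s_3737_3739 c) (Nat.ble 3737 c)
noncomputable def Ptab_s_3732_3739 (c : Nat) : Nat := @Bool.rec (fun _ => Nat) (Ptab_s_3732_3735 c) (Ptab_s_3735_3739 c) (Nat.ble 3735 c)
noncomputable def Ptab_s_3739_3741 (c : Nat) : Nat := @Bool.rec (fun _ => Nat) (Ptab_3739) (Ptab_3740) (Nat.ble 3740 c)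
noncomputable def Ptab_s_3741_3743 (c : Nat) : Nat := @Bool.rec (fun _ => Nat) (Ptab_3741) (Ptab_3742) (Nat.ble 3742 c)
noncomputable def Ptab_s_3739_3743 (c : Nat) : Nat := @Bool.rec (fun _ => Nat) (Ptab_s_3739_3741 c) (Ptab_s_3741_3743 c) (Nat.ble 3741 c)
noncomputable def Ptab_s_3743_3745 (c : Nat) : Nat := @Bool.rec (fun _ => Nat) (Ptab_3743) (Ptab_3744) (Nat.ble 3744 c)
noncomputable def Ptab_s_3745_3747 (c : Nat) : Nat := @Bool.rec (fun _ => Nat) (Ptab_3745) (Ptab_3746) (Nat.ble 3746 c)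
noncomputable def Ptab_s_3743_3747 (c : Nat) : Nat := @Bool.rec (fun _ => Nat) (Ptab_s_3743_3745 c) (Ptab_s_3745_3747 c) (Nat.ble 3745 c)
noncomputable def Ptab_s_3739_3747 (c : Nat) : Nat := @Bool.rec (fun _ => Nat) (Ptab_s_3739_3743 c) (Ptab_s_3743_3747 c) (Nat.ble 3743 c)
noncomputable def Ptab_s_3732_3747 (c : Nat) : Nat := @Bool.rec (fun _ => Nat) (Ptab_s_3732_3739 c) (Ptab_s_3739_3747 c) (Nat.ble 3739 c)
noncomputable def Ptab_s_3748_3750 (c : Nat) : Nat := @Bool.rec (fun _ => Nat) (Ptab_3748) (Ptab_3749) (Nat.ble 3749 c)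
noncomputable def Ptab_s_3747_3750 (c : Nat) : Nat := @Bool.rec (fun _ => Nat) (Ptab_3747) (Ptab_s_3748_3750 c) (Nat.ble 3748 c)
noncomputable def Ptab_s_3750_3752 (c : Nat) : Nat := @Bool.rec (fun _ => Nat) (Ptab_3750) (Ptab_3751) (Nat.ble 3751 c)
noncomputable def Ptab_s_3752_3754 (c : Nat) : Nat := @Bool.rec (fun _ => Nat) (Ptab_3752) (Ptab_3753) (Nat.ble 3753 c)
noncomputable def Ptab_s_3750_3754 (c : Nat) : Nat := @Bool.rec (fun _ => Nat) (Ptab_s_3750_3752 c) (Ptab_s_3752_3754 c) (Nat.ble 3752 c)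
noncomputable def Ptab_s_3747_3754 (c : Nat) : Nat := @Bool.rec (fun _ => Nat) (Ptab_s_3747_3750 c) (Ptab_s_3750_3754 c) (Nat.ble 3750 c)
noncomputable def Ptab_s_3754_3756 (c : Nat) : Nat := @Bool.rec (fun _ => Nat) (Ptab_3754) (Ptab_3755) (Nat.ble 3755 c)
noncomputable def Ptab_s_3756_3758 (c : Nat) : Nat := @Bool.rec (fun _ => Nat) (Ptab_3756) (Ptab_3757) (Nat.ble 3757 c)
noncomputable def Ptab_s_3754_3758 (c : Nat) : Nat := @Bool.rec (fun _ => Nat) (Ptab_s_3754_3756 c) (Ptab_s_3756_3758 c) (Nat.ble 3756 c)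
noncomputable def Ptab_s_3758_3760 (c : Nat) : Nat := @Bool.rec (fun _ => Nat) (Ptab_3758) (Ptab_3759) (Nat.ble 3759 c)
noncomputable def Ptab_s_3760_3762 (c : Nat) : Nat := @Bool.rec (fun _ => Nat) (Ptab_3760) (Ptab_3761) (Nat.ble 3761 c)
noncomputable def Ptab_s_3758_3762 (c : Nat) : Nat := @Bool.rec (fun _ => Nat) (Ptab_s_3758_3760 c) (Ptab_s_3760_3762 c) (Nat.ble 3760 c)
noncomputable def Ptab_s_3754_3762 (c : Nat) : Nat := @Bool.rec (fun _ => Nat) (Ptab_s_3754_3758 c) (Ptab_s_3758_3762 c) (Nat.ble 3758 c)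
noncomputable def Ptab_s_3747_3762 (c : Nat) : Nat := @Bool.rec (fun _ => Nat) (Ptab_s_3747_3754 c) (Ptab_s_3754_3762 c) (Nat.ble 3754 c)
noncomputable def Ptab_s_3732_3762 (c : Nat) : Nat := @Bool.rec (fun _ => Nat) (Ptab_s_3732_3747 c) (Ptab_s_3747_3762 c) (Nat.ble 3747 c)
noncomputable def Ptab_s_3763_3765 (c : Nat) : Nat := @Bool.rec (fun _ => Nat) (Ptab_3763) (Ptab_3764) (Nat.ble 3764 c)
noncomputable def Ptab_s_3762_3765 (c : Nat) : Nat := @Bool.rec (fun _ => Nat) (Ptab_3762) (Ptab_s_3763_3765 c) (Nat.ble 3763 c)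
noncomputable def Ptab_s_3765_3767 (c : Nat) : Nat := @Bool.rec (fun _ => Nat) (Ptab_3765) (Ptab_3766) (Nat.ble 3766 c)
noncomputable def Ptab_s_3767_3769 (c : Nat) : Nat := @Bool.rec (fun _ => Nat) (Ptab_3767) (Ptab_3768) (Nat.ble 3768 c)
noncomputable def Ptab_s_3765_3769 (c : Nat) : Nat := @Bool.rec (fun _ => Nat) (Ptab_s_3765_3767 c) (Ptab_s_3767_3769 c) (Nat.ble 3767 c)
noncomputable def Ptab_s_3762_3769 (c : Nat) : Nat := @Bool.rec (fun _ => Nat) (Ptab_s_3762_3765 c) (Ptab_s_3765_3769 c) (Nat.ble 3765 c)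
noncomputable def Ptab_s_3769_3771 (c : Nat) : Nat := @Bool.rec (fun _ => Nat) (Ptab_3769) (Ptab_3770) (Nat.ble 3770 c)
noncomputable def Ptab_s_3771_3773 (c : Nat) : Nat := @Bool.rec (fun _ => Nat) (Ptab_3771) (Ptab_3772) (Nat.ble 3772 c)
noncomputable def Ptab_s_3769_3773 (c : Nat) : Nat := @Bool.rec (fun _ => Nat) (Ptab_s_3769_3771 c) (Ptab_s_3771_3773 c) (Nat.ble 3771 c)
noncomputable def Ptab_s_3773_3775 (c : Nat) : Nat := @Bool.rec (fun _ => Nat) (Ptab_3773) (Ptab_3774) (Nat.ble 3774 c)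
noncomputable def Ptab_s_3775_3777 (c : Nat) : Nat := @Bool.rec (fun _ => Nat) (Ptab_3775) (Ptab_3776) (Nat.ble 3776 c)
noncomputable def Ptab_s_3773_3777 (c : Nat) : Nat := @Bool.rec (fun _ => Nat) (Ptab_s_3773_3775 c) (Ptab_s_3775_3777 c) (Nat.ble 3775 c)
noncomputable def Ptab_s_3769_3777 (c : Nat) : Nat := @Bool.rec (fun _ => Nat) (Ptab_s_3769_3773 c) (Ptab_s_3773_3777 c) (Nat.ble 3773 c)
noncomputable def Ptab_s_3762_3777 (c : Nat) : Nat := @Bool.rec (fun _ => Nat) (Ptab_s_3762_3769 c) (Ptab_s_3769_3777 c) (Nat.ble 3769 c)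
noncomputable def Ptab_s_3777_3779 (c : Nat) : Nat := @Bool.rec (fun _ => Nat) (Ptab_3777) (Ptab_3778) (Nat.ble 3778 c)
noncomputable def Ptab_s_3779_3781 (c : Nat) : Nat := @Bool.rec (fun _ => Nat) (Ptab_3779) (Ptab_3780) (Nat.ble 3780 c)
noncomputable def Ptab_s_3777_3781 (c : Nat) : Nat := @Bool.rec (fun _ => Nat) (Ptab_s_3777_3779 c) (Ptab_s_3779_3781 c) (Nat.ble 3779 c)
noncomputable def Ptab_s_3781_3783 (c : Nat) : Nat := @Bool.rec (fun _ => Nat) (Ptab_3781) (Ptab_3782) (Nat.ble 3782 c)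
noncomputable def Ptab_s_3783_3785 (c : Nat) : Nat := @Bool.rec (fun _ => Nat) (Ptab_3783) (Ptab_3784) (Nat.ble 3784 c)
noncomputable def Ptab_s_3781_3785 (c : Nat) : Nat := @Bool.rec (fun _ => Nat) (Ptab_s_3781_3783 c) (Ptab_s_3783_3785 c) (Nat.ble 3783 c)
noncomputable def Ptab_s_3777_3785 (c : Nat) : Nat := @Bool.rec (fun _ => Nat) (Ptab_s_3777_3781 c) (Ptab_s_3781_3785 c) (Nat.ble 3781 c)
noncomputable def Ptab_s_3785_3787 (c : Nat) : Nat := @Bool.rec (fun _ => Nat) (Ptab_3785) (Ptab_3786) (Nat.ble 3786 c)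
noncomputable def Ptab_s_3787_3789 (c : Nat) : Nat := @Bool.rec (fun _ => Nat) (Ptab_3787) (Ptab_3788) (Nat.ble 3788 c)
noncomputable def Ptab_s_3785_3789 (c : Nat) : Nat := @Bool.rec (fun _ => Nat) (Ptab_s_3785_3787 c) (Ptab_s_3787_3789 c) (Nat.ble 3787 c)
noncomputable def Ptab_s_3789_3791 (c : Nat) : Nat := @Bool.rec (fun _ => Nat) (Ptab_3789) (Ptab_3790) (Nat.ble 3790 c)
noncomputable def Ptab_s_3791_3793 (c : Nat) : Nat := @Bool.rec (fun _ => Nat) (Ptab_3791) (Ptab_3792) (Nat.ble 3792 c)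
noncomputable def Ptab_s_3789_3793 (c : Nat) : Nat := @Bool.rec (fun _ => Nat) (Ptab_s_3789_3791 c) (Ptab_s_3791_3793 c) (Nat.ble 3791 c)
noncomputable def Ptab_s_3785_3793 (c : Nat) : Nat := @Bool.rec (fun _ => Nat) (Ptab_s_3785_3789 c) (Ptab_s_3789_3793 c) (Nat.ble 3789 c)
noncomputable def Ptab_s_3777_3793 (c : Nat) : Nat := @Bool.rec (fun _ => Nat) (Ptab_s_3777_3785 c) (Ptab_s_3785_3793 c) (Nat.ble 3785 c)
noncomputable def Ptab_s_3762_3793 (c : Nat) : Nat := @Bool.rec (fun _ => Nat) (Ptab_s_3762_3777 c) (Ptab_s_3777_3793 c) (Nat.ble 3777 c)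
noncomputable def Ptab_s_3732_3793 (c : Nat) : Nat := @Bool.rec (fun _ => Nat) (Ptab_s_3732_3762 c) (Ptab_s_3762_3793 c) (Nat.ble 3762 c)
noncomputable def Ptab_s_3671_3793 (c : Nat) : Nat := @Bool.rec (fun _ => Nat) (Ptab_s_3671_3732 c) (Ptab_s_3732_3793 c) (Nat.ble 3732 c)
noncomputable def Ptab_s_3794_3796 (c : Nat) : Nat := @Bool.rec (fun _ => Nat) (Ptab_3794) (Ptab_3795) (Nat.ble 3795 c)
noncomputable def Ptab_s_3793_3796 (c : Nat) : Nat := @Bool.rec (fun _ => Nat) (Ptab_3793) (Ptab_s_3794_3796 c) (Nat.ble 3794 c)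
noncomputable def Ptab_s_3796_3798 (c : Nat) : Nat := @Bool.rec (fun _ => Nat) (Ptab_3796) (Ptab_3797) (Nat.ble 3797 c)
noncomputable def Ptab_s_3798_3800 (c : Nat) : Nat := @Bool.rec (fun _ => Nat) (Ptab_3798) (Ptab_3799) (Nat.ble 3799 c)
noncomputable def Ptab_s_3796_3800 (c : Nat) : Nat := @Bool.rec (fun _ => Nat) (Ptab_s_3796_3798 c) (Ptab_s_3798_3800 c) (Nat.ble 3798 c)
noncomputable def Ptab_s_3793_3800 (c : Nat) : Nat := @Bool.rec (fun _ => Nat) (Ptab_s_3793_3796 c) (Ptab_s_3796_3800 c) (Nat.ble 3796 c)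
noncomputable def Ptab_s_3800_3802 (c : Nat) : Nat := @Bool.rec (fun _ => Nat) (Ptab_3800) (Ptab_3801) (Nat.ble 3801 c)
noncomputable def Ptab_s_3802_3804 (c : Nat) : Nat := @Bool.rec (fun _ => Nat) (Ptab_3802) (Ptab_3803) (Nat.ble 3803 c)
noncomputable def Ptab_s_3800_3804 (c : Nat) : Nat := @Bool.rec (fun _ => Nat) (Ptab_s_3800_3802 c) (Ptab_s_3802_3804 c) (Nat.ble 3802 c)
noncomputable def Ptab_s_3804_3806 (c : Nat) : Nat := @Bool.rec (fun _ => Nat) (Ptab_3804) (Ptab_3805) (Nat.ble 3805 c)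
noncomputable def Ptab_s_3806_3808 (c : Nat) : Nat := @Bool.rec (fun _ => Nat) (Ptab_3806) (Ptab_3807) (Nat.ble 3807 c)
noncomputable def Ptab_s_3804_3808 (c : Nat) : Nat := @Bool.rec (fun _ => Nat) (Ptab_s_3804_3806 c) (Ptab_s_3806_3808 c) (Nat.ble 3806 c)
noncomputable def Ptab_s_3800_3808 (c : Nat) : Nat := @Bool.rec (fun _ => Nat) (Ptab_s_3800_3804 c) (Ptab_s_3804_3808 c) (Nat.ble 3804 c)
noncomputable def Ptab_s_3793_3808 (c : Nat) : Nat := @Bool.rec (fun _ => Nat) (Ptab_s_3793_3800 c) (Ptab_s_3800_3808 c) (Nat.ble 3800 c)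
noncomputable def Ptab_s_3809_3811 (c : Nat) : Nat := @Bool.rec (fun _ => Nat) (Ptab_3809) (Ptab_3810) (Nat.ble 3810 c)
noncomputable def Ptab_s_3808_3811 (c : Nat) : Nat := @Bool.rec (fun _ => Nat) (Ptab_3808) (Ptab_s_3809_3811 c) (Nat.ble 3809 c)
noncomputable def Ptab_s_3811_3813 (c : Nat) : Nat := @Bool.rec (fun _ => Nat) (Ptab_3811) (Ptab_3812) (Nat.ble 3812 c)
noncomputable def Ptab_s_3813_3815 (c : Nat) : Nat := @Bool.rec (fun _ => Nat) (Ptab_3813) (Ptab_3814) (Nat.ble 3814 c)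
noncomputable def Ptab_s_3811_3815 (c : Nat) : Nat := @Bool.rec (fun _ => Nat) (Ptab_s_3811_3813 c) (Ptab_s_3813_3815 c) (Nat.ble 3813 c)
noncomputable def Ptab_s_3808_3815 (c : Nat) : Nat := @Bool.rec (fun _ => Nat) (Ptab_s_3808_3811 c) (Ptab_s_3811_3815 c) (Nat.ble 3811 c)
noncomputable def Ptab_s_3815_3817 (c : Nat) : Nat := @Bool.rec (fun _ => Nat) (Ptab_3815) (Ptab_3816) (Nat.ble 3816 c)
noncomputable def Ptab_s_3817_3819 (c : Nat) : Nat := @Bool.rec (fun _ => Nat) (Ptab_3817) (Ptab_3818) (Nat.ble 3818 c)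
noncomputable def Ptab_s_3815_3819 (c : Nat) : Nat := @Bool.rec (fun _ => Nat) (Ptab_s_3815_3817 c) (Ptab_s_3817_3819 c) (Nat.ble 3817 c)
noncomputable def Ptab_s_3819_3821 (c : Nat) : Nat := @Bool.rec (fun _ => Nat) (Ptab_3819) (Ptab_3820) (Nat.ble 3820 c)
noncomputable def Ptab_s_3821_3823 (c : Nat) : Nat := @Bool.rec (fun _ => Nat) (Ptab_3821) (Ptab_3822) (Nat.ble 3822 c)
noncomputable def Ptab_s_3819_3823 (c : Nat) : Nat := @Bool.rec (fun _ => Nat) (Ptab_s_3819_3821 c) (Ptab_s_3821_3823 c) (Nat.ble 3821 c)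
noncomputable def Ptab_s_3815_3823 (c : Nat) : Nat := @Bool.rec (fun _ => Nat) (Ptab_s_3815_3819 c) (Ptab_s_3819_3823 c) (Nat.ble 3819 c)
noncomputable def Ptab_s_3808_3823 (c : Nat) : Nat := @Bool.rec (fun _ => Nat) (Ptab_s_3808_3815 c) (Ptab_s_3815_3823 c) (Nat.ble 3815 c)
noncomputable def Ptab_s_3793_3823 (c : Nat) : Nat := @Bool.rec (fun _ => Nat) (Ptab_s_3793_3808 c) (Ptab_s_3808_3823 c) (Nat.ble 3808 c)
noncomputable def Ptab_s_3824_3826 (c : Nat) : Nat := @Bool.rec (fun _ => Nat) (Ptab_3824) (Ptab_3825) (Nat.ble 3825 c)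
noncomputable def Ptab_s_3823_3826 (c : Nat) : Nat := @Bool.rec (fun _ => Nat) (Ptab_3823) (Ptab_s_3824_3826 c) (Nat.ble 3824 c)
noncomputable def Ptab_s_3826_3828 (c : Nat) : Nat := @Bool.rec (fun _ => Nat) (Ptab_3826) (Ptab_3827) (Nat.ble 3827 c)
noncomputable def Ptab_s_3828_3830 (c : Nat) : Nat := @Bool.rec (fun _ => Nat) (Ptab_3828) (Ptab_3829) (Nat.ble 3829 c)
noncomputable def Ptab_s_3826_3830 (c : Nat) : Nat := @Bool.rec (fun _ => Nat) (Ptab_s_3826_3828 c) (Ptab_s_3828_3830 c) (Nat.ble 3828 c)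
noncomputable def Ptab_s_3823_3830 (c : Nat) : Nat := @Bool.rec (fun _ => Nat) (Ptab_s_3823_3826 c) (Ptab_s_3826_3830 c) (Nat.ble 3826 c)
noncomputable def Ptab_s_3830_3832 (c : Nat) : Nat := @Bool.rec (fun _ => Nat) (Ptab_3830) (Ptab_3831) (Nat.ble 3831 c)
noncomputable def Ptab_s_3832_3834 (c : Nat) : Nat := @Bool.rec (fun _ => Nat) (Ptab_3832) (Ptab_3833) (Nat.ble 3833 c)
noncomputable def Ptab_s_3830_3834 (c : Nat) : Nat := @Bool.rec (fun _ => Nat) (Ptab_s_3830_3832 c) (Ptab_s_3832_3834 c) (Nat.ble 3832 c)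
noncomputable def Ptab_s_3834_3836 (c : Nat) : Nat := @Bool.rec (fun _ => Nat) (Ptab_3834) (Ptab_3835) (Nat.ble 3835 c)
noncomputable def Ptab_s_3836_3838 (c : Nat) : Nat := @Bool.rec (fun _ => Nat) (Ptab_3836) (Ptab_3837) (Nat.ble 3837 c)
noncomputable def Ptab_s_3834_3838 (c : Nat) : Nat := @Bool.rec (fun _ => Nat) (Ptab_s_3834_3836 c) (Ptab_s_3836_3838 c) (Nat.ble 3836 c)
noncomputable def Ptab_s_3830_3838 (c : Nat) : Nat := @Bool.rec (fun _ => Nat) (Ptab_s_3830_3834 c) (Ptab_s_3834_3838 c) (Nat.ble 3834 c)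
noncomputable def Ptab_s_3823_3838 (c : Nat) : Nat := @Bool.rec (fun _ => Nat) (Ptab_s_3823_3830 c) (Ptab_s_3830_3838 c) (Nat.ble 3830 c)
noncomputable def Ptab_s_3838_3840 (c : Nat) : Nat := @Bool.rec (fun _ => Nat) (Ptab_3838) (Ptab_3839) (Nat.ble 3839 c)
noncomputable def Ptab_s_3840_3842 (c : Nat) : Nat := @Bool.rec (fun _ => Nat) (Ptab_3840) (Ptab_3841) (Nat.ble 3841 c)
noncomputable def Ptab_s_3838_3842 (c : Nat) : Nat := @Bool.rec (fun _ => Nat) (Ptab_s_3838_3840 c) (Ptab_s_3840_3842 c) (Nat.ble 3840 c)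
noncomputable def Ptab_s_3842_3844 (c : Nat) : Nat := @Bool.rec (fun _ => Nat) (Ptab_3842) (Ptab_3843) (Nat.ble 3843 c)
noncomputable def Ptab_s_3844_3846 (c : Nat) : Nat := @Bool.rec (fun _ => Nat) (Ptab_3844) (Ptab_3845) (Nat.ble 3845 c)
noncomputable def Ptab_s_3842_3846 (c : Nat) : Nat := @Bool.rec (fun _ => Nat) (Ptab_s_3842_3844 c) (Ptab_s_3844_3846 c) (Nat.ble 3844 c)
noncomputable def Ptab_s_3838_3846 (c : Nat) : Nat := @Bool.rec (fun _ => Nat) (Ptab_s_3838_3842 c) (Ptab_s_3842_3846 c) (Nat.ble 3842 c)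
noncomputable def Ptab_s_3846_3848 (c : Nat) : Nat := @Bool.rec (fun _ => Nat) (Ptab_3846) (Ptab_3847) (Nat.ble 3847 c)
noncomputable def Ptab_s_3848_3850 (c : Nat) : Nat := @Bool.rec (fun _ => Nat) (Ptab_3848) (Ptab_3849) (Nat.ble 3849 c)
noncomputable def Ptab_s_3846_3850 (c : Nat) : Nat := @Bool.rec (fun _ => Nat) (Ptab_s_3846_3848 c) (Ptab_s_3848_3850 c) (Nat.ble 3848 c)
noncomputable def Ptab_s_3850_3852 (c : Nat) : Nat := @Bool.rec (fun _ => Nat) (Ptab_3850) (Ptab_3851) (Nat.ble 3851 c)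
noncomputable def Ptab_s_3852_3854 (c : Nat) : Nat := @Bool.rec (fun _ => Nat) (Ptab_3852) (Ptab_3853) (Nat.ble 3853 c)
noncomputable def Ptab_s_3850_3854 (c : Nat) : Nat := @Bool.rec (fun _ => Nat) (Ptab_s_3850_3852 c) (Ptab_s_3852_3854 c) (Nat.ble 3852 c)
noncomputable def Ptab_s_3846_3854 (c : Nat) : Nat := @Bool.rec (fun _ => Nat) (Ptab_s_3846_3850 c) (Ptab_s_3850_3854 c) (Nat.ble 3850 c)
noncomputable def Ptab_s_3838_3854 (c : Nat) : Nat := @Bool.rec (fun _ => Nat) (Ptab_s_3838_3846 c) (Ptab_s_3846_3854 c) (Nat.ble 3846 c)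
noncomputable def Ptab_s_3823_3854 (c : Nat) : Nat := @Bool.rec (fun _ => Nat) (Ptab_s_3823_3838 c) (Ptab_s_3838_3854 c) (Nat.ble 3838 c)
noncomputable def Ptab_s_3793_3854 (c : Nat) : Nat := @Bool.rec (fun _ => Nat) (Ptab_s_3793_3823 c) (Ptab_s_3823_3854 c) (Nat.ble 3823 c)
noncomputable def Ptab_s_3855_3857 (c : Nat) : Nat := @Bool.rec (fun _ => Nat) (Ptab_3855) (Ptab_3856) (Nat.ble 3856 c)
noncomputable def Ptab_s_3854_3857 (c : Nat) : Nat := @Bool.rec (fun _ => Nat) (Ptab_3854) (Ptab_s_3855_3857 c) (Nat.ble 3855 c)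
noncomputable def Ptab_s_3857_3859 (c : Nat) : Nat := @Bool.rec (fun _ => Nat) (Ptab_3857) (Ptab_3858) (Nat.ble 3858 c)
noncomputable def Ptab_s_3859_3861 (c : Nat) : Nat := @Bool.rec (fun _ => Nat) (Ptab_3859) (Ptab_3860) (Nat.ble 3860 c)
noncomputable def Ptab_s_3857_3861 (c : Nat) : Nat := @Bool.rec (fun _ => Nat) (Ptab_s_3857_3859 c) (Ptab_s_3859_3861 c) (Nat.ble 3859 c)
noncomputable def Ptab_s_3854_3861 (c : Nat) : Nat := @Bool.rec (fun _ => Nat) (Ptab_s_3854_3857 c) (Ptab_s_3857_3861 c) (Nat.ble 3857 c)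
noncomputable def Ptab_s_3861_3863 (c : Nat) : Nat := @Bool.rec (fun _ => Nat) (Ptab_3861) (Ptab_3862) (Nat.ble 3862 c)
noncomputable def Ptab_s_3863_3865 (c : Nat) : Nat := @Bool.rec (fun _ => Nat) (Ptab_3863) (Ptab_3864) (Nat.ble 3864 c)
noncomputable def Ptab_s_3861_3865 (c : Nat) : Nat := @Bool.rec (fun _ => Nat) (Ptab_s_3861_3863 c) (Ptab_s_3863_3865 c) (Nat.ble 3863 c)
noncomputable def Ptab_s_3865_3867 (c : Nat) : Nat := @Bool.rec (fun _ => Nat) (Ptab_3865) (Ptab_3866) (Nat.ble 3866 c)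
noncomputable def Ptab_s_3867_3869 (c : Nat) : Nat := @Bool.rec (fun _ => Nat) (Ptab_3867) (Ptab_3868) (Nat.ble 3868 c)
noncomputable def Ptab_s_3865_3869 (c : Nat) : Nat := @Bool.rec (fun _ => Nat) (Ptab_s_3865_3867 c) (Ptab_s_3867_3869 c) (Nat.ble 3867 c)
noncomputable def Ptab_s_3861_3869 (c : Nat) : Nat := @Bool.rec (fun _ => Nat) (Ptab_s_3861_3865 c) (Ptab_s_3865_3869 c) (Nat.ble 3865 c)
noncomputable def Ptab_s_3854_3869 (c : Nat) : Nat := @Bool.rec (fun _ => Nat) (Ptab_s_3854_3861 c) (Ptab_s_3861_3869 c) (Nat.ble 3861 c)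
noncomputable def Ptab_s_3869_3871 (c : Nat) : Nat := @Bool.rec (fun _ => Nat) (Ptab_3869) (Ptab_3870) (Nat.ble 3870 c)
noncomputable def Ptab_s_3871_3873 (c : Nat) : Nat := @Bool.rec (fun _ => Nat) (Ptab_3871) (Ptab_3872) (Nat.ble 3872 c)
noncomputable def Ptab_s_3869_3873 (c : Nat) : Nat := @Bool.rec (fun _ => Nat) (Ptab_s_3869_3871 c) (Ptab_s_3871_3873 c) (Nat.ble 3871 c)
noncomputable def Ptab_s_3873_3875 (c : Nat) : Nat := @Bool.rec (fun _ => Nat) (Ptab_3873) (Ptab_3874) (Nat.ble 3874 c)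
noncomputable def Ptab_s_3875_3877 (c : Nat) : Nat := @Bool.rec (fun _ => Nat) (Ptab_3875) (Ptab_3876) (Nat.ble 3876 c)
noncomputable def Ptab_s_3873_3877 (c : Nat) : Nat := @Bool.rec (fun _ => Nat) (Ptab_s_3873_3875 c) (Ptab_s_3875_3877 c) (Nat.ble 3875 c)
noncomputable def Ptab_s_3869_3877 (c : Nat) : Nat := @Bool.rec (fun _ => Nat) (Ptab_s_3869_3873 c) (Ptab_s_3873_3877 c) (Nat.ble 3873 c)
noncomputable def Ptab_s_3877_3879 (c : Nat) : Nat := @Bool.rec (fun _ => Nat) (Ptab_3877) (Ptab_3878) (Nat.ble 3878 c)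
noncomputable def Ptab_s_3879_3881 (c : Nat) : Nat := @Bool.rec (fun _ => Nat) (Ptab_3879) (Ptab_3880) (Nat.ble 3880 c)
noncomputable def Ptab_s_3877_3881 (c : Nat) : Nat := @Bool.rec (fun _ => Nat) (Ptab_s_3877_3879 c) (Ptab_s_3879_3881 c) (Nat.ble 3879 c)
noncomputable def Ptab_s_3881_3883 (c : Nat) : Nat := @Bool.rec (fun _ => Nat) (Ptab_3881) (Ptab_3882) (Nat.ble 3882 c)
noncomputable def Ptab_s_3883_3885 (c : Nat) : Nat := @Bool.rec (fun _ => Nat) (Ptab_3883) (Ptab_3884) (Nat.ble 3884 c)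
noncomputable def Ptab_s_3881_3885 (c : Nat) : Nat := @Bool.rec (fun _ => Nat) (Ptab_s_3881_3883 c) (Ptab_s_3883_3885 c) (Nat.ble 3883 c)
noncomputable def Ptab_s_3877_3885 (c : Nat) : Nat := @Bool.rec (fun _ => Nat) (Ptab_s_3877_3881 c) (Ptab_s_3881_3885 c) (Nat.ble 3881 c)
noncomputable def Ptab_s_3869_3885 (c : Nat) : Nat := @Bool.rec (fun _ => Nat) (Ptab_s_3869_3877 c) (Ptab_s_3877_3885 c) (Nat.ble 3877 c)
noncomputable def Ptab_s_3854_3885 (c : Nat) : Nat := @Bool.rec (fun _ => Nat) (Ptab_s_3854_3869 c) (Ptab_s_3869_3885 c) (Nat.ble 3869 c)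
noncomputable def Ptab_s_3886_3888 (c : Nat) : Nat := @Bool.rec (fun _ => Nat) (Ptab_3886) (Ptab_3887) (Nat.ble 3887 c)
noncomputable def Ptab_s_3885_3888 (c : Nat) : Nat := @Bool.rec (fun _ => Nat) (Ptab_3885) (Ptab_s_3886_3888 c) (Nat.ble 3886 c)
noncomputable def Ptab_s_3888_3890 (c : Nat) : Nat := @Bool.rec (fun _ => Nat) (Ptab_3888) (Ptab_3889) (Nat.ble 3889 c)
noncomputable def Ptab_s_3890_3892 (c : Nat) : Nat := @Bool.rec (fun _ => Nat) (Ptab_3890) (Ptab_3891) (Nat.ble 3891 c)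
noncomputable def Ptab_s_3888_3892 (c : Nat) : Nat := @Bool.rec (fun _ => Nat) (Ptab_s_3888_3890 c) (Ptab_s_3890_3892 c) (Nat.ble 3890 c)
noncomputable def Ptab_s_3885_3892 (c : Nat) : Nat := @Bool.rec (fun _ => Nat) (Ptab_s_3885_3888 c) (Ptab_s_3888_3892 c) (Nat.ble 3888 c)
noncomputable def Ptab_s_3892_3894 (c : Nat) : Nat := @Bool.rec (fun _ => Nat) (Ptab_3892) (Ptab_3893) (Nat.ble 3893 c)
noncomputable def Ptab_s_3894_3896 (c : Nat) : Nat := @Bool.rec (fun _ => Nat) (Ptab_3894) (Ptab_3895) (Nat.ble 3895 c)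
noncomputable def Ptab_s_3892_3896 (c : Nat) : Nat := @Bool.rec (fun _ => Nat) (Ptab_s_3892_3894 c) (Ptab_s_3894_3896 c) (Nat.ble 3894 c)
noncomputable def Ptab_s_3896_3898 (c : Nat) : Nat := @Bool.rec (fun _ => Nat) (Ptab_3896) (Ptab_3897) (Nat.ble 3897 c)
noncomputable def Ptab_s_3898_3900 (c : Nat) : Nat := @Bool.rec (fun _ => Nat) (Ptab_3898) (Ptab_3899) (Nat.ble 3899 c)
noncomputable def Ptab_s_3896_3900 (c : Nat) : Nat := @Bool.rec (fun _ => Nat) (Ptab_s_3896_3898 c) (Ptab_s_3898_3900 c) (Nat.ble 3898 c)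
noncomputable def Ptab_s_3892_3900 (c : Nat) : Nat := @Bool.rec (fun _ => Nat) (Ptab_s_3892_3896 c) (Ptab_s_3896_3900 c) (Nat.ble 3896 c)
noncomputable def Ptab_s_3885_3900 (c : Nat) : Nat := @Bool.rec (fun _ => Nat) (Ptab_s_3885_3892 c) (Ptab_s_3892_3900 c) (Nat.ble 3892 c)
noncomputable def Ptab_s_3900_3902 (c : Nat) : Nat := @Bool.rec (fun _ => Nat) (Ptab_3900) (Ptab_3901) (Nat.ble 3901 c)
noncomputable def Ptab_s_3902_3904 (c : Nat) : Nat := @Bool.rec (fun _ => Nat) (Ptab_3902) (Ptab_3903) (Nat.ble 3903 c)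
noncomputable def Ptab_s_3900_3904 (c : Nat) : Nat := @Bool.rec (fun _ => Nat) (Ptab_s_3900_3902 c) (Ptab_s_3902_3904 c) (Nat.ble 3902 c)
noncomputable def Ptab_s_3904_3906 (c : Nat) : Nat := @Bool.rec (fun _ => Nat) (Ptab_3904) (Ptab_3905) (Nat.ble 3905 c)
noncomputable def Ptab_s_3906_3908 (c : Nat) : Nat := @Bool.rec (fun _ => Nat) (Ptab_3906) (Ptab_3907) (Nat.ble 3907 c)
noncomputable def Ptab_s_3904_3908 (c : Nat) : Nat := @Bool.rec (fun _ => Nat) (Ptab_s_3904_3906 c) (Ptab_s_3906_3908 c) (Nat.ble 3906 c)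
noncomputable def Ptab_s_3900_3908 (c : Nat) : Nat := @Bool.rec (fun _ => Nat) (Ptab_s_3900_3904 c) (Ptab_s_3904_3908 c) (Nat.ble 3904 c)
noncomputable def Ptab_s_3908_3910 (c : Nat) : Nat := @Bool.rec (fun _ => Nat) (Ptab_3908) (Ptab_3909) (Nat.ble 3909 c)
noncomputable def Ptab_s_3910_3912 (c : Nat) : Nat := @Bool.rec (fun _ => Nat) (Ptab_3910) (Ptab_3911) (Nat.ble 3911 c)
noncomputable def Ptab_s_3908_3912 (c : Nat) : Nat := @Bool.rec (fun _ => Nat) (Ptab_s_3908_3910 c) (Ptab_s_3910_3912 c) (Nat.ble 3910 c)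
noncomputable def Ptab_s_3912_3914 (c : Nat) : Nat := @Bool.rec (fun _ => Nat) (Ptab_3912) (Ptab_3913) (Nat.ble 3913 c)
noncomputable def Ptab_s_3914_3916 (c : Nat) : Nat := @Bool.rec (fun _ => Nat) (Ptab_3914) (Ptab_3915) (Nat.ble 3915 c)
noncomputable def Ptab_s_3912_3916 (c : Nat) : Nat := @Bool.rec (fun _ => Nat) (Ptab_s_3912_3914 c) (Ptab_s_3914_3916 c) (Nat.ble 3914 c)
noncomputable def Ptab_s_3908_3916 (c : Nat) : Nat := @Bool.rec (fun _ => Nat) (Ptab_s_3908_3912 c) (Ptab_s_3912_3916 c) (Nat.ble 3912 c)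
noncomputable def Ptab_s_3900_3916 (c : Nat) : Nat := @Bool.rec (fun _ => Nat) (Ptab_s_3900_3908 c) (Ptab_s_3908_3916 c) (Nat.ble 3908 c)
noncomputable def Ptab_s_3885_3916 (c : Nat) : Nat := @Bool.rec (fun _ => Nat) (Ptab_s_3885_3900 c) (Ptab_s_3900_3916 c) (Nat.ble 3900 c)
noncomputable def Ptab_s_3854_3916 (c : Nat) : Nat := @Bool.rec (fun _ => Nat) (Ptab_s_3854_3885 c) (Ptab_s_3885_3916 c) (Nat.ble 3885 c)
noncomputable def Ptab_s_3793_3916 (c : Nat) : Nat := @Bool.rec (fun _ => Nat) (Ptab_s_3793_3854 c) (Ptab_s_3854_3916 c) (Nat.ble 3854 c)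
noncomputable def Ptab_s_3671_3916 (c : Nat) : Nat := @Bool.rec (fun _ => Nat) (Ptab_s_3671_3793 c) (Ptab_s_3793_3916 c) (Nat.ble 3793 c)
noncomputable def Ptab_s_3426_3916 (c : Nat) : Nat := @Bool.rec (fun _ => Nat) (Ptab_s_3426_3671 c) (Ptab_s_3671_3916 c) (Nat.ble 3671 c)
noncomputable def Ptab_s_2937_3916 (c : Nat) : Nat := @Bool.rec (fun _ => Nat) (Ptab_s_2937_3426 c) (Ptab_s_3426_3916 c) (Nat.ble 3426 c)
noncomputable def Ptab_s_1958_3916 (c : Nat) : Nat := @Bool.rec (fun _ => Nat) (Ptab_s_1958_2937 c) (Ptab_s_2937_3916 c) (Nat.ble 2937 c)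
noncomputable def Ptab_s_0_3916 (c : Nat) : Nat := @Bool.rec (fun _ => Nat) (Ptab_s_0_1958 c) (Ptab_s_1958_3916 c) (Nat.ble 1958 c)
noncomputable def Ptab_s_3917_3919 (c : Nat) : Nat := @Bool.rec (fun _ => Nat) (Ptab_3917) (Ptab_3918) (Nat.ble 3918 c)
noncomputable def Ptab_s_3916_3919 (c : Nat) : Nat := @Bool.rec (fun _ => Nat) (Ptab_3916) (Ptab_s_3917_3919 c) (Nat.ble 3917 c)
noncomputable def Ptab_s_3919_3921 (c : Nat) : Nat := @Bool.rec (fun _ => Nat) (Ptab_3919) (Ptab_3920) (Nat.ble 3920 c)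
noncomputable def Ptab_s_3921_3923 (c : Nat) : Nat := @Bool.rec (fun _ => Nat) (Ptab_3921) (Ptab_3922) (Nat.ble 3922 c)
noncomputable def Ptab_s_3919_3923 (c : Nat) : Nat := @Bool.rec (fun _ => Nat) (Ptab_s_3919_3921 c) (Ptab_s_3921_3923 c) (Nat.ble 3921 c)
noncomputable def Ptab_s_3916_3923 (c : Nat) : Nat := @Bool.rec (fun _ => Nat) (Ptab_s_3916_3919 c) (Ptab_s_3919_3923 c) (Nat.ble 3919 c)
noncomputable def Ptab_s_3923_3925 (c : Nat) : Nat := @Bool.rec (fun _ => Nat) (Ptab_3923) (Ptab_3924) (Nat.ble 3924 c)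
noncomputable def Ptab_s_3925_3927 (c : Nat) : Nat := @Bool.rec (fun _ => Nat) (Ptab_3925) (Ptab_3926) (Nat.ble 3926 c)
noncomputable def Ptab_s_3923_3927 (c : Nat) : Nat := @Bool.rec (fun _ => Nat) (Ptab_s_3923_3925 c) (Ptab_s_3925_3927 c) (Nat.ble 3925 c)
noncomputable def Ptab_s_3927_3929 (c : Nat) : Nat := @Bool.rec (fun _ => Nat) (Ptab_3927) (Ptab_3928) (Nat.ble 3928 c)
noncomputable def Ptab_s_3929_3931 (c : Nat) : Nat := @Bool.rec (fun _ => Nat) (Ptab_3929) (Ptab_3930) (Nat.ble 3930 c)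
noncomputable def Ptab_s_3927_3931 (c : Nat) : Nat := @Bool.rec (fun _ => Nat) (Ptab_s_3927_3929 c) (Ptab_s_3929_3931 c) (Nat.ble 3929 c)
noncomputable def Ptab_s_3923_3931 (c : Nat) : Nat := @Bool.rec (fun _ => Nat) (Ptab_s_3923_3927 c) (Ptab_s_3927_3931 c) (Nat.ble 3927 c)
noncomputable def Ptab_s_3916_3931 (c : Nat) : Nat := @Bool.rec (fun _ => Nat) (Ptab_s_3916_3923 c) (Ptab_s_3923_3931 c) (Nat.ble 3923 c)
noncomputable def Ptab_s_3932_3934 (c : Nat) : Nat := @Bool.rec (fun _ => Nat) (Ptab_3932) (Ptab_3933) (Nat.ble 3933 c)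
noncomputable def Ptab_s_3931_3934 (c : Nat) : Nat := @Bool.rec (fun _ => Nat) (Ptab_3931) (Ptab_s_3932_3934 c) (Nat.ble 3932 c)
noncomputable def Ptab_s_3934_3936 (c : Nat) : Nat := @Bool.rec (fun _ => Nat) (Ptab_3934) (Ptab_3935) (Nat.ble 3935 c)
noncomputable def Ptab_s_3936_3938 (c : Nat) : Nat := @Bool.rec (fun _ => Nat) (Ptab_3936) (Ptab_3937) (Nat.ble 3937 c)
noncomputable def Ptab_s_3934_3938 (c : Nat) : Nat := @Bool.rec (fun _ => Nat) (Ptab_s_3934_3936 c) (Ptab_s_3936_3938 c) (Nat.ble 3936 c)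
noncomputable def Ptab_s_3931_3938 (c : Nat) : Nat := @Bool.rec (fun _ => Nat) (Ptab_s_3931_3934 c) (Ptab_s_3934_3938 c) (Nat.ble 3934 c)
noncomputable def Ptab_s_3938_3940 (c : Nat) : Nat := @Bool.rec (fun _ => Nat) (Ptab_3938) (Ptab_3939) (Nat.ble 3939 c)
noncomputable def Ptab_s_3940_3942 (c : Nat) : Nat := @Bool.rec (fun _ => Nat) (Ptab_3940) (Ptab_3941) (Nat.ble 3941 c)
noncomputable def Ptab_s_3938_3942 (c : Nat) : Nat := @Bool.rec (fun _ => Nat) (Ptab_s_3938_3940 c) (Ptab_s_3940_3942 c) (Nat.ble 3940 c)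
noncomputable def Ptab_s_3942_3944 (c : Nat) : Nat := @Bool.rec (fun _ => Nat) (Ptab_3942) (Ptab_3943) (Nat.ble 3943 c)
noncomputable def Ptab_s_3944_3946 (c : Nat) : Nat := @Bool.rec (fun _ => Nat) (Ptab_3944) (Ptab_3945) (Nat.ble 3945 c)
noncomputable def Ptab_s_3942_3946 (c : Nat) : Nat := @Bool.rec (fun _ => Nat) (Ptab_s_3942_3944 c) (Ptab_s_3944_3946 c) (Nat.ble 3944 c)
noncomputable def Ptab_s_3938_3946 (c : Nat) : Nat := @Bool.rec (fun _ => Nat) (Ptab_s_3938_3942 c) (Ptab_s_3942_3946 c) (Nat.ble 3942 c)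
noncomputable def Ptab_s_3931_3946 (c : Nat) : Nat := @Bool.rec (fun _ => Nat) (Ptab_s_3931_3938 c) (Ptab_s_3938_3946 c) (Nat.ble 3938 c)
noncomputable def Ptab_s_3916_3946 (c : Nat) : Nat := @Bool.rec (fun _ => Nat) (Ptab_s_3916_3931 c) (Ptab_s_3931_3946 c) (Nat.ble 3931 c)
noncomputable def Ptab_s_3947_3949 (c : Nat) : Nat := @Bool.rec (fun _ => Nat) (Ptab_3947) (Ptab_3948) (Nat.ble 3948 c)
noncomputable def Ptab_s_3946_3949 (c : Nat) : Nat := @Bool.rec (fun _ => Nat) (Ptab_3946) (Ptab_s_3947_3949 c) (Nat.ble 3947 c)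
noncomputable def Ptab_s_3949_3951 (c : Nat) : Nat := @Bool.rec (fun _ => Nat) (Ptab_3949) (Ptab_3950) (Nat.ble 3950 c)
noncomputable def Ptab_s_3951_3953 (c : Nat) : Nat := @Bool.rec (fun _ => Nat) (Ptab_3951) (Ptab_3952) (Nat.ble 3952 c)
noncomputable def Ptab_s_3949_3953 (c : Nat) : Nat := @Bool.rec (fun _ => Nat) (Ptab_s_3949_3951 c) (Ptab_s_3951_3953 c) (Nat.ble 3951 c)
noncomputable def Ptab_s_3946_3953 (c : Nat) : Nat := @Bool.rec (fun _ => Nat) (Ptab_s_3946_3949 c) (Ptab_s_3949_3953 c) (Nat.ble 3949 c)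
noncomputable def Ptab_s_3953_3955 (c : Nat) : Nat := @Bool.rec (fun _ => Nat) (Ptab_3953) (Ptab_3954) (Nat.ble 3954 c)
noncomputable def Ptab_s_3955_3957 (c : Nat) : Nat := @Bool.rec (fun _ => Nat) (Ptab_3955) (Ptab_3956) (Nat.ble 3956 c)
noncomputable def Ptab_s_3953_3957 (c : Nat) : Nat := @Bool.rec (fun _ => Nat) (Ptab_s_3953_3955 c) (Ptab_s_3955_3957 c) (Nat.ble 3955 c)
noncomputable def Ptab_s_3957_3959 (c : Nat) : Nat := @Bool.rec (fun _ => Nat) (Ptab_3957) (Ptab_3958) (Nat.ble 3958 c)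
noncomputable def Ptab_s_3959_3961 (c : Nat) : Nat := @Bool.rec (fun _ => Nat) (Ptab_3959) (Ptab_3960) (Nat.ble 3960 c)
noncomputable def Ptab_s_3957_3961 (c : Nat) : Nat := @Bool.rec (fun _ => Nat) (Ptab_s_3957_3959 c) (Ptab_s_3959_3961 c) (Nat.ble 3959 c)
noncomputable def Ptab_s_3953_3961 (c : Nat) : Nat := @Bool.rec (fun _ => Nat) (Ptab_s_3953_3957 c) (Ptab_s_3957_3961 c) (Nat.ble 3957 c)
noncomputable def Ptab_s_3946_3961 (c : Nat) : Nat := @Bool.rec (fun _ => Nat) (Ptab_s_3946_3953 c) (Ptab_s_3953_3961 c) (Nat.ble 3953 c)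
noncomputable def Ptab_s_3961_3963 (c : Nat) : Nat := @Bool.rec (fun _ => Nat) (Ptab_3961) (Ptab_3962) (Nat.ble 3962 c)
noncomputable def Ptab_s_3963_3965 (c : Nat) : Nat := @Bool.rec (fun _ => Nat) (Ptab_3963) (Ptab_3964) (Nat.ble 3964 c)
noncomputable def Ptab_s_3961_3965 (c : Nat) : Nat := @Bool.rec (fun _ => Nat) (Ptab_s_3961_3963 c) (Ptab_s_3963_3965 c) (Nat.ble 3963 c)
noncomputable def Ptab_s_3965_3967 (c : Nat) : Nat := @Bool.rec (fun _ => Nat) (Ptab_3965) (Ptab_3966) (Nat.ble 3966 c)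
noncomputable def Ptab_s_3967_3969 (c : Nat) : Nat := @Bool.rec (fun _ => Nat) (Ptab_3967) (Ptab_3968) (Nat.ble 3968 c)
noncomputable def Ptab_s_3965_3969 (c : Nat) : Nat := @Bool.rec (fun _ => Nat) (Ptab_s_3965_3967 c) (Ptab_s_3967_3969 c) (Nat.ble 3967 c)
noncomputable def Ptab_s_3961_3969 (c : Nat) : Nat := @Bool.rec (fun _ => Nat) (Ptab_s_3961_3965 c) (Ptab_s_3965_3969 c) (Nat.ble 3965 c)
noncomputable def Ptab_s_3969_3971 (c : Nat) : Nat := @Bool.rec (fun _ => Nat) (Ptab_3969) (Ptab_3970) (Nat.ble 3970 c)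
noncomputable def Ptab_s_3971_3973 (c : Nat) : Nat := @Bool.rec (fun _ => Nat) (Ptab_3971) (Ptab_3972) (Nat.ble 3972 c)
noncomputable def Ptab_s_3969_3973 (c : Nat) : Nat := @Bool.rec (fun _ => Nat) (Ptab_s_3969_3971 c) (Ptab_s_3971_3973 c) (Nat.ble 3971 c)
noncomputable def Ptab_s_3973_3975 (c : Nat) : Nat := @Bool.rec (fun _ => Nat) (Ptab_3973) (Ptab_3974) (Nat.ble 3974 c)
noncomputable def Ptab_s_3975_3977 (c : Nat) : Nat := @Bool.rec (fun _ => Nat) (Ptab_3975) (Ptab_3976) (Nat.ble 3976 c)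
noncomputable def Ptab_s_3973_3977 (c : Nat) : Nat := @Bool.rec (fun _ => Nat) (Ptab_s_3973_3975 c) (Ptab_s_3975_3977 c) (Nat.ble 3975 c)
noncomputable def Ptab_s_3969_3977 (c : Nat) : Nat := @Bool.rec (fun _ => Nat) (Ptab_s_3969_3973 c) (Ptab_s_3973_3977 c) (Nat.ble 3973 c)
noncomputable def Ptab_s_3961_3977 (c : Nat) : Nat := @Bool.rec (fun _ => Nat) (Ptab_s_3961_3969 c) (Ptab_s_3969_3977 c) (Nat.ble 3969 c)
noncomputable def Ptab_s_3946_3977 (c : Nat) : Nat := @Bool.rec (fun _ => Nat) (Ptab_s_3946_3961 c) (Ptab_s_3961_3977 c) (Nat.ble 3961 c)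
noncomputable def Ptab_s_3916_3977 (c : Nat) : Nat := @Bool.rec (fun _ => Nat) (Ptab_s_3916_3946 c) (Ptab_s_3946_3977 c) (Nat.ble 3946 c)
noncomputable def Ptab_s_3978_3980 (c : Nat) : Nat := @Bool.rec (fun _ => Nat) (Ptab_3978) (Ptab_3979) (Nat.ble 3979 c)
noncomputable def Ptab_s_3977_3980 (c : Nat) : Nat := @Bool.rec (fun _ => Nat) (Ptab_3977) (Ptab_s_3978_3980 c) (Nat.ble 3978 c)
noncomputable def Ptab_s_3980_3982 (c : Nat) : Nat := @Bool.rec (fun _ => Nat) (Ptab_3980) (Ptab_3981) (Nat.ble 3981 c)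
noncomputable def Ptab_s_3982_3984 (c : Nat) : Nat := @Bool.rec (fun _ => Nat) (Ptab_3982) (Ptab_3983) (Nat.ble 3983 c)
noncomputable def Ptab_s_3980_3984 (c : Nat) : Nat := @Bool.rec (fun _ => Nat) (Ptab_s_3980_3982 c) (Ptab_s_3982_3984 c) (Nat.ble 3982 c)
noncomputable def Ptab_s_3977_3984 (c : Nat) : Nat := @Bool.rec (fun _ => Nat) (Ptab_s_3977_3980 c) (Ptab_s_3980_3984 c) (Nat.ble 3980 c)
noncomputable def Ptab_s_3984_3986 (c : Nat) : Nat := @Bool.rec (fun _ => Nat) (Ptab_3984) (Ptab_3985) (Nat.ble 3985 c)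
noncomputable def Ptab_s_3986_3988 (c : Nat) : Nat := @Bool.rec (fun _ => Nat) (Ptab_3986) (Ptab_3987) (Nat.ble 3987 c)
noncomputable def Ptab_s_3984_3988 (c : Nat) : Nat := @Bool.rec (fun _ => Nat) (Ptab_s_3984_3986 c) (Ptab_s_3986_3988 c) (Nat.ble 3986 c)
noncomputable def Ptab_s_3988_3990 (c : Nat) : Nat := @Bool.rec (fun _ => Nat) (Ptab_3988) (Ptab_3989) (Nat.ble 3989 c)
noncomputable def Ptab_s_3990_3992 (c : Nat) : Nat := @Bool.rec (fun _ => Nat) (Ptab_3990) (Ptab_3991) (Nat.ble 3991 c)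
noncomputable def Ptab_s_3988_3992 (c : Nat) : Nat := @Bool.rec (fun _ => Nat) (Ptab_s_3988_3990 c) (Ptab_s_3990_3992 c) (Nat.ble 3990 c)
noncomputable def Ptab_s_3984_3992 (c : Nat) : Nat := @Bool.rec (fun _ => Nat) (Ptab_s_3984_3988 c) (Ptab_s_3988_3992 c) (Nat.ble 3988 c)
noncomputable def Ptab_s_3977_3992 (c : Nat) : Nat := @Bool.rec (fun _ => Nat) (Ptab_s_3977_3984 c) (Ptab_s_3984_3992 c) (Nat.ble 3984 c)
noncomputable def Ptab_s_3993_3995 (c : Nat) : Nat := @Bool.rec (fun _ => Nat) (Ptab_3993) (Ptab_3994) (Nat.ble 3994 c)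
noncomputable def Ptab_s_3992_3995 (c : Nat) : Nat := @Bool.rec (fun _ => Nat) (Ptab_3992) (Ptab_s_3993_3995 c) (Nat.ble 3993 c)
noncomputable def Ptab_s_3995_3997 (c : Nat) : Nat := @Bool.rec (fun _ => Nat) (Ptab_3995) (Ptab_3996) (Nat.ble 3996 c)
noncomputable def Ptab_s_3997_3999 (c : Nat) : Nat := @Bool.rec (fun _ => Nat) (Ptab_3997) (Ptab_3998) (Nat.ble 3998 c)
noncomputable def Ptab_s_3995_3999 (c : Nat) : Nat := @Bool.rec (fun _ => Nat) (Ptab_s_3995_3997 c) (Ptab_s_3997_3999 c) (Nat.ble 3997 c)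
noncomputable def Ptab_s_3992_3999 (c : Nat) : Nat := @Bool.rec (fun _ => Nat) (Ptab_s_3992_3995 c) (Ptab_s_3995_3999 c) (Nat.ble 3995 c)
noncomputable def Ptab_s_3999_4001 (c : Nat) : Nat := @Bool.rec (fun _ => Nat) (Ptab_3999) (Ptab_4000) (Nat.ble 4000 c)
noncomputable def Ptab_s_4001_4003 (c : Nat) : Nat := @Bool.rec (fun _ => Nat) (Ptab_4001) (Ptab_4002) (Nat.ble 4002 c)
noncomputable def Ptab_s_3999_4003 (c : Nat) : Nat := @Bool.rec (fun _ => Nat) (Ptab_s_3999_4001 c) (Ptab_s_4001_4003 c) (Nat.ble 4001 c)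
noncomputable def Ptab_s_4003_4005 (c : Nat) : Nat := @Bool.rec (fun _ => Nat) (Ptab_4003) (Ptab_4004) (Nat.ble 4004 c)
noncomputable def Ptab_s_4005_4007 (c : Nat) : Nat := @Bool.rec (fun _ => Nat) (Ptab_4005) (Ptab_4006) (Nat.ble 4006 c)
noncomputable def Ptab_s_4003_4007 (c : Nat) : Nat := @Bool.rec (fun _ => Nat) (Ptab_s_4003_4005 c) (Ptab_s_4005_4007 c) (Nat.ble 4005 c)
noncomputable def Ptab_s_3999_4007 (c : Nat) : Nat := @Bool.rec (fun _ => Nat) (Ptab_s_3999_4003 c) (Ptab_s_4003_4007 c) (Nat.ble 4003 c)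
noncomputable def Ptab_s_3992_4007 (c : Nat) : Nat := @Bool.rec (fun _ => Nat) (Ptab_s_3992_3999 c) (Ptab_s_3999_4007 c) (Nat.ble 3999 c)
noncomputable def Ptab_s_3977_4007 (c : Nat) : Nat := @Bool.rec (fun _ => Nat) (Ptab_s_3977_3992 c) (Ptab_s_3992_4007 c) (Nat.ble 3992 c)
noncomputable def Ptab_s_4008_4010 (c : Nat) : Nat := @Bool.rec (fun _ => Nat) (Ptab_4008) (Ptab_4009) (Nat.ble 4009 c)
noncomputable def Ptab_s_4007_4010 (c : Nat) : Nat := @Bool.rec (fun _ => Nat) (Ptab_4007) (Ptab_s_4008_4010 c) (Nat.ble 4008 c)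
noncomputable def Ptab_s_4010_4012 (c : Nat) : Nat := @Bool.rec (fun _ => Nat) (Ptab_4010) (Ptab_4011) (Nat.ble 4011 c)
noncomputable def Ptab_s_4012_4014 (c : Nat) : Nat := @Bool.rec (fun _ => Nat) (Ptab_4012) (Ptab_4013) (Nat.ble 4013 c)
noncomputable def Ptab_s_4010_4014 (c : Nat) : Nat := @Bool.rec (fun _ => Nat) (Ptab_s_4010_4012 c) (Ptab_s_4012_4014 c) (Nat.ble 4012 c)
noncomputable def Ptab_s_4007_4014 (c : Nat) : Nat := @Bool.rec (fun _ => Nat) (Ptab_s_4007_4010 c) (Ptab_s_4010_4014 c) (Nat.ble 4010 c)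
noncomputable def Ptab_s_4014_4016 (c : Nat) : Nat := @Bool.rec (fun _ => Nat) (Ptab_4014) (Ptab_4015) (Nat.ble 4015 c)
noncomputable def Ptab_s_4016_4018 (c : Nat) : Nat := @Bool.rec (fun _ => Nat) (Ptab_4016) (Ptab_4017) (Nat.ble 4017 c)
noncomputable def Ptab_s_4014_4018 (c : Nat) : Nat := @Bool.rec (fun _ => Nat) (Ptab_s_4014_4016 c) (Ptab_s_4016_4018 c) (Nat.ble 4016 c)
noncomputable def Ptab_s_4018_4020 (c : Nat) : Nat := @Bool.rec (fun _ => Nat) (Ptab_4018) (Ptab_4019) (Nat.ble 4019 c)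
noncomputable def Ptab_s_4020_4022 (c : Nat) : Nat := @Bool.rec (fun _ => Nat) (Ptab_4020) (Ptab_4021) (Nat.ble 4021 c)
noncomputable def Ptab_s_4018_4022 (c : Nat) : Nat := @Bool.rec (fun _ => Nat) (Ptab_s_4018_4020 c) (Ptab_s_4020_4022 c) (Nat.ble 4020 c)
noncomputable def Ptab_s_4014_4022 (c : Nat) : Nat := @Bool.rec (fun _ => Nat) (Ptab_s_4014_4018 c) (Ptab_s_4018_4022 c) (Nat.ble 4018 c)
noncomputable def Ptab_s_4007_4022 (c : Nat) : Nat := @Bool.rec (fun _ => Nat) (Ptab_s_4007_4014 c) (Ptab_s_4014_4022 c) (Nat.ble 4014 c)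
noncomputable def Ptab_s_4022_4024 (c : Nat) : Nat := @Bool.rec (fun _ => Nat) (Ptab_4022) (Ptab_4023) (Nat.ble 4023 c)
noncomputable def Ptab_s_4024_4026 (c : Nat) : Nat := @Bool.rec (fun _ => Nat) (Ptab_4024) (Ptab_4025) (Nat.ble 4025 c)
noncomputable def Ptab_s_4022_4026 (c : Nat) : Nat := @Bool.rec (fun _ => Nat) (Ptab_s_4022_4024 c) (Ptab_s_4024_4026 c) (Nat.ble 4024 c)
noncomputable def Ptab_s_4026_4028 (c : Nat) : Nat := @Bool.rec (fun _ => Nat) (Ptab_4026) (Ptab_4027) (Nat.ble 4027 c)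
noncomputable def Ptab_s_4028_4030 (c : Nat) : Nat := @Bool.rec (fun _ => Nat) (Ptab_4028) (Ptab_4029) (Nat.ble 4029 c)
noncomputable def Ptab_s_4026_4030 (c : Nat) : Nat := @Bool.rec (fun _ => Nat) (Ptab_s_4026_4028 c) (Ptab_s_4028_4030 c) (Nat.ble 4028 c)
noncomputable def Ptab_s_4022_4030 (c : Nat) : Nat := @Bool.rec (fun _ => Nat) (Ptab_s_4022_4026 c) (Ptab_s_4026_4030 c) (Nat.ble 4026 c)
noncomputable def Ptab_s_4030_4032 (c : Nat) : Nat := @Bool.rec (fun _ => Nat) (Ptab_4030) (Ptab_4031) (Nat.ble 4031 c)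
noncomputable def Ptab_s_4032_4034 (c : Nat) : Nat := @Bool.rec (fun _ => Nat) (Ptab_4032) (Ptab_4033) (Nat.ble 4033 c)
noncomputable def Ptab_s_4030_4034 (c : Nat) : Nat := @Bool.rec (fun _ => Nat) (Ptab_s_4030_4032 c) (Ptab_s_4032_4034 c) (Nat.ble 4032 c)
noncomputable def Ptab_s_4034_4036 (c : Nat) : Nat := @Bool.rec (fun _ => Nat) (Ptab_4034) (Ptab_4035) (Nat.ble 4035 c)
noncomputable def Ptab_s_4036_4038 (c : Nat) : Nat := @Bool.rec (fun _ => Nat) (Ptab_4036) (Ptab_4037) (Nat.ble 4037 c)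
noncomputable def Ptab_s_4034_4038 (c : Nat) : Nat := @Bool.rec (fun _ => Nat) (Ptab_s_4034_4036 c) (Ptab_s_4036_4038 c) (Nat.ble 4036 c)
noncomputable def Ptab_s_4030_4038 (c : Nat) : Nat := @Bool.rec (fun _ => Nat) (Ptab_s_4030_4034 c) (Ptab_s_4034_4038 c) (Nat.ble 4034 c)
noncomputable def Ptab_s_4022_4038 (c : Nat) : Nat := @Bool.rec (fun _ => Nat) (Ptab_s_4022_4030 c) (Ptab_s_4030_4038 c) (Nat.ble 4030 c)
noncomputable def Ptab_s_4007_4038 (c : Nat) : Nat := @Bool.rec (fun _ => Nat) (Ptab_s_4007_4022 c) (Ptab_s_4022_4038 c) (Nat.ble 4022 c)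
noncomputable def Ptab_s_3977_4038 (c : Nat) : Nat := @Bool.rec (fun _ => Nat) (Ptab_s_3977_4007 c) (Ptab_s_4007_4038 c) (Nat.ble 4007 c)
noncomputable def Ptab_s_3916_4038 (c : Nat) : Nat := @Bool.rec (fun _ => Nat) (Ptab_s_3916_3977 c) (Ptab_s_3977_4038 c) (Nat.ble 3977 c)
noncomputable def Ptab_s_4039_4041 (c : Nat) : Nat := @Bool.rec (fun _ => Nat) (Ptab_4039) (Ptab_4040) (Nat.ble 4040 c)
noncomputable def Ptab_s_4038_4041 (c : Nat) : Nat := @Bool.rec (fun _ => Nat) (Ptab_4038) (Ptab_s_4039_4041 c) (Nat.ble 4039 c)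
noncomputable def Ptab_s_4041_4043 (c : Nat) : Nat := @Bool.rec (fun _ => Nat) (Ptab_4041) (Ptab_4042) (Nat.ble 4042 c)
noncomputable def Ptab_s_4043_4045 (c : Nat) : Nat := @Bool.rec (fun _ => Nat) (Ptab_4043) (Ptab_4044) (Nat.ble 4044 c)
noncomputable def Ptab_s_4041_4045 (c : Nat) : Nat := @Bool.rec (fun _ => Nat) (Ptab_s_4041_4043 c) (Ptab_s_4043_4045 c) (Nat.ble 4043 c)
noncomputable def Ptab_s_4038_4045 (c : Nat) : Nat := @Bool.rec (fun _ => Nat) (Ptab_s_4038_4041 c) (Ptab_s_4041_4045 c) (Nat.ble 4041 c)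
noncomputable def Ptab_s_4045_4047 (c : Nat) : Nat := @Bool.rec (fun _ => Nat) (Ptab_4045) (Ptab_4046) (Nat.ble 4046 c)
noncomputable def Ptab_s_4047_4049 (c : Nat) : Nat := @Bool.rec (fun _ => Nat) (Ptab_4047) (Ptab_4048) (Nat.ble 4048 c)
noncomputable def Ptab_s_4045_4049 (c : Nat) : Nat := @Bool.rec (fun _ => Nat) (Ptab_s_4045_4047 c) (Ptab_s_4047_4049 c) (Nat.ble 4047 c)
noncomputable def Ptab_s_4049_4051 (c : Nat) : Nat := @Bool.rec (fun _ => Nat) (Ptab_4049) (Ptab_4050) (Nat.ble 4050 c)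
noncomputable def Ptab_s_4051_4053 (c : Nat) : Nat := @Bool.rec (fun _ => Nat) (Ptab_4051) (Ptab_4052) (Nat.ble 4052 c)
noncomputable def Ptab_s_4049_4053 (c : Nat) : Nat := @Bool.rec (fun _ => Nat) (Ptab_s_4049_4051 c) (Ptab_s_4051_4053 c) (Nat.ble 4051 c)
noncomputable def Ptab_s_4045_4053 (c : Nat) : Nat := @Bool.rec (fun _ => Nat) (Ptab_s_4045_4049 c) (Ptab_s_4049_4053 c) (Nat.ble 4049 c)
noncomputable def Ptab_s_4038_4053 (c : Nat) : Nat := @Bool.rec (fun _ => Nat) (Ptab_s_4038_4045 c) (Ptab_s_4045_4053 c) (Nat.ble 4045 c)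
noncomputable def Ptab_s_4054_4056 (c : Nat) : Nat := @Bool.rec (fun _ => Nat) (Ptab_4054) (Ptab_4055) (Nat.ble 4055 c)
noncomputable def Ptab_s_4053_4056 (c : Nat) : Nat := @Bool.rec (fun _ => Nat) (Ptab_4053) (Ptab_s_4054_4056 c) (Nat.ble 4054 c)
noncomputable def Ptab_s_4056_4058 (c : Nat) : Nat := @Bool.rec (fun _ => Nat) (Ptab_4056) (Ptab_4057) (Nat.ble 4057 c)
noncomputable def Ptab_s_4058_4060 (c : Nat) : Nat := @Bool.rec (fun _ => Nat) (Ptab_4058) (Ptab_4059) (Nat.ble 4059 c)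
noncomputable def Ptab_s_4056_4060 (c : Nat) : Nat := @Bool.rec (fun _ => Nat) (Ptab_s_4056_4058 c) (Ptab_s_4058_4060 c) (Nat.ble 4058 c)
noncomputable def Ptab_s_4053_4060 (c : Nat) : Nat := @Bool.rec (fun _ => Nat) (Ptab_s_4053_4056 c) (Ptab_s_4056_4060 c) (Nat.ble 4056 c)
noncomputable def Ptab_s_4060_4062 (c : Nat) : Nat := @Bool.rec (fun _ => Nat) (Ptab_4060) (Ptab_4061) (Nat.ble 4061 c)
noncomputable def Ptab_s_4062_4064 (c : Nat) : Nat := @Bool.rec (fun _ => Nat) (Ptab_4062) (Ptab_4063) (Nat.ble 4063 c)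
noncomputable def Ptab_s_4060_4064 (c : Nat) : Nat := @Bool.rec (fun _ => Nat) (Ptab_s_4060_4062 c) (Ptab_s_4062_4064 c) (Nat.ble 4062 c)
noncomputable def Ptab_s_4064_4066 (c : Nat) : Nat := @Bool.rec (fun _ => Nat) (Ptab_4064) (Ptab_4065) (Nat.ble 4065 c)
noncomputable def Ptab_s_4066_4068 (c : Nat) : Nat := @Bool.rec (fun _ => Nat) (Ptab_4066) (Ptab_4067) (Nat.ble 4067 c)
noncomputable def Ptab_s_4064_4068 (c : Nat) : Nat := @Bool.rec (fun _ => Nat) (Ptab_s_4064_4066 c) (Ptab_s_4066_4068 c) (Nat.ble 4066 c)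
noncomputable def Ptab_s_4060_4068 (c : Nat) : Nat := @Bool.rec (fun _ => Nat) (Ptab_s_4060_4064 c) (Ptab_s_4064_4068 c) (Nat.ble 4064 c)
noncomputable def Ptab_s_4053_4068 (c : Nat) : Nat := @Bool.rec (fun _ => Nat) (Ptab_s_4053_4060 c) (Ptab_s_4060_4068 c) (Nat.ble 4060 c)
noncomputable def Ptab_s_4038_4068 (c : Nat) : Nat := @Bool.rec (fun _ => Nat) (Ptab_s_4038_4053 c) (Ptab_s_4053_4068 c) (Nat.ble 4053 c)
noncomputable def Ptab_s_4069_4071 (c : Nat) : Nat := @Bool.rec (fun _ => Nat) (Ptab_4069) (Ptab_4070) (Nat.ble 4070 c)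
noncomputable def Ptab_s_4068_4071 (c : Nat) : Nat := @Bool.rec (fun _ => Nat) (Ptab_4068) (Ptab_s_4069_4071 c) (Nat.ble 4069 c)
noncomputable def Ptab_s_4071_4073 (c : Nat) : Nat := @Bool.rec (fun _ => Nat) (Ptab_4071) (Ptab_4072) (Nat.ble 4072 c)
noncomputable def Ptab_s_4073_4075 (c : Nat) : Nat := @Bool.rec (fun _ => Nat) (Ptab_4073) (Ptab_4074) (Nat.ble 4074 c)
noncomputable def Ptab_s_4071_4075 (c : Nat) : Nat := @Bool.rec (fun _ => Nat) (Ptab_s_4071_4073 c) (Ptab_s_4073_4075 c) (Nat.ble 4073 c)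
noncomputable def Ptab_s_4068_4075 (c : Nat) : Nat := @Bool.rec (fun _ => Nat) (Ptab_s_4068_4071 c) (Ptab_s_4071_4075 c) (Nat.ble 4071 c)
noncomputable def Ptab_s_4075_4077 (c : Nat) : Nat := @Bool.rec (fun _ => Nat) (Ptab_4075) (Ptab_4076) (Nat.ble 4076 c)
noncomputable def Ptab_s_4077_4079 (c : Nat) : Nat := @Bool.rec (fun _ => Nat) (Ptab_4077) (Ptab_4078) (Nat.ble 4078 c)
noncomputable def Ptab_s_4075_4079 (c : Nat) : Nat := @Bool.rec (fun _ => Nat) (Ptab_s_4075_4077 c) (Ptab_s_4077_4079 c) (Nat.ble 4077 c)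
noncomputable def Ptab_s_4079_4081 (c : Nat) : Nat := @Bool.rec (fun _ => Nat) (Ptab_4079) (Ptab_4080) (Nat.ble 4080 c)
noncomputable def Ptab_s_4081_4083 (c : Nat) : Nat := @Bool.rec (fun _ => Nat) (Ptab_4081) (Ptab_4082) (Nat.ble 4082 c)
noncomputable def Ptab_s_4079_4083 (c : Nat) : Nat := @Bool.rec (fun _ => Nat) (Ptab_s_4079_4081 c) (Ptab_s_4081_4083 c) (Nat.ble 4081 c)
noncomputable def Ptab_s_4075_4083 (c : Nat) : Nat := @Bool.rec (fun _ => Nat) (Ptab_s_4075_4079 c) (Ptab_s_4079_4083 c) (Nat.ble 4079 c)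
noncomputable def Ptab_s_4068_4083 (c : Nat) : Nat := @Bool.rec (fun _ => Nat) (Ptab_s_4068_4075 c) (Ptab_s_4075_4083 c) (Nat.ble 4075 c)
noncomputable def Ptab_s_4083_4085 (c : Nat) : Nat := @Bool.rec (fun _ => Nat) (Ptab_4083) (Ptab_4084) (Nat.ble 4084 c)
noncomputable def Ptab_s_4085_4087 (c : Nat) : Nat := @Bool.rec (fun _ => Nat) (Ptab_4085) (Ptab_4086) (Nat.ble 4086 c)
noncomputable def Ptab_s_4083_4087 (c : Nat) : Nat := @Bool.rec (fun _ => Nat) (Ptab_s_4083_4085 c) (Ptab_s_4085_4087 c) (Nat.ble 4085 c)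
noncomputable def Ptab_s_4087_4089 (c : Nat) : Nat := @Bool.rec (fun _ => Nat) (Ptab_4087) (Ptab_4088) (Nat.ble 4088 c)
noncomputable def Ptab_s_4089_4091 (c : Nat) : Nat := @Bool.rec (fun _ => Nat) (Ptab_4089) (Ptab_4090) (Nat.ble 4090 c)
noncomputable def Ptab_s_4087_4091 (c : Nat) : Nat := @Bool.rec (fun _ => Nat) (Ptab_s_4087_4089 c) (Ptab_s_4089_4091 c) (Nat.ble 4089 c)
noncomputable def Ptab_s_4083_4091 (c : Nat) : Nat := @Bool.rec (fun _ => Nat) (Ptab_s_4083_4087 c) (Ptab_s_4087_4091 c) (Nat.ble 4087 c)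
noncomputable def Ptab_s_4091_4093 (c : Nat) : Nat := @Bool.rec (fun _ => Nat) (Ptab_4091) (Ptab_4092) (Nat.ble 4092 c)
noncomputable def Ptab_s_4093_4095 (c : Nat) : Nat := @Bool.rec (fun _ => Nat) (Ptab_4093) (Ptab_4094) (Nat.ble 4094 c)
noncomputable def Ptab_s_4091_4095 (c : Nat) : Nat := @Bool.rec (fun _ => Nat) (Ptab_s_4091_4093 c) (Ptab_s_4093_4095 c) (Nat.ble 4093 c)
noncomputable def Ptab_s_4095_4097 (c : Nat) : Nat := @Bool.rec (fun _ => Nat) (Ptab_4095) (Ptab_4096) (Nat.ble 4096 c)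
noncomputable def Ptab_s_4097_4099 (c : Nat) : Nat := @Bool.rec (fun _ => Nat) (Ptab_4097) (Ptab_4098) (Nat.ble 4098 c)
noncomputable def Ptab_s_4095_4099 (c : Nat) : Nat := @Bool.rec (fun _ => Nat) (Ptab_s_4095_4097 c) (Ptab_s_4097_4099 c) (Nat.ble 4097 c)
noncomputable def Ptab_s_4091_4099 (c : Nat) : Nat := @Bool.rec (fun _ => Nat) (Ptab_s_4091_4095 c) (Ptab_s_4095_4099 c) (Nat.ble 4095 c)
noncomputable def Ptab_s_4083_4099 (c : Nat) : Nat := @Bool.rec (fun _ => Nat) (Ptab_s_4083_4091 c) (Ptab_s_4091_4099 c) (Nat.ble 4091 c)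
noncomputable def Ptab_s_4068_4099 (c : Nat) : Nat := @Bool.rec (fun _ => Nat) (Ptab_s_4068_4083 c) (Ptab_s_4083_4099 c) (Nat.ble 4083 c)
noncomputable def Ptab_s_4038_4099 (c : Nat) : Nat := @Bool.rec (fun _ => Nat) (Ptab_s_4038_4068 c) (Ptab_s_4068_4099 c) (Nat.ble 4068 c)
noncomputable def Ptab_s_4100_4102 (c : Nat) : Nat := @Bool.rec (fun _ => Nat) (Ptab_4100) (Ptab_4101) (Nat.ble 4101 c)
noncomputable def Ptab_s_4099_4102 (c : Nat) : Nat := @Bool.rec (fun _ => Nat) (Ptab_4099) (Ptab_s_4100_4102 c) (Nat.ble 4100 c)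
noncomputable def Ptab_s_4102_4104 (c : Nat) : Nat := @Bool.rec (fun _ => Nat) (Ptab_4102) (Ptab_4103) (Nat.ble 4103 c)
noncomputable def Ptab_s_4104_4106 (c : Nat) : Nat := @Bool.rec (fun _ => Nat) (Ptab_4104) (Ptab_4105) (Nat.ble 4105 c)
noncomputable def Ptab_s_4102_4106 (c : Nat) : Nat := @Bool.rec (fun _ => Nat) (Ptab_s_4102_4104 c) (Ptab_s_4104_4106 c) (Nat.ble 4104 c)
noncomputable def Ptab_s_4099_4106 (c : Nat) : Nat := @Bool.rec (fun _ => Nat) (Ptab_s_4099_4102 c) (Ptab_s_4102_4106 c) (Nat.ble 4102 c)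
noncomputable def Ptab_s_4106_4108 (c : Nat) : Nat := @Bool.rec (fun _ => Nat) (Ptab_4106) (Ptab_4107) (Nat.ble 4107 c)
noncomputable def Ptab_s_4108_4110 (c : Nat) : Nat := @Bool.rec (fun _ => Nat) (Ptab_4108) (Ptab_4109) (Nat.ble 4109 c)
noncomputable def Ptab_s_4106_4110 (c : Nat) : Nat := @Bool.rec (fun _ => Nat) (Ptab_s_4106_4108 c) (Ptab_s_4108_4110 c) (Nat.ble 4108 c)
noncomputable def Ptab_s_4110_4112 (c : Nat) : Nat := @Bool.rec (fun _ => Nat) (Ptab_4110) (Ptab_4111) (Nat.ble 4111 c)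
noncomputable def Ptab_s_4112_4114 (c : Nat) : Nat := @Bool.rec (fun _ => Nat) (Ptab_4112) (Ptab_4113) (Nat.ble 4113 c)
noncomputable def Ptab_s_4110_4114 (c : Nat) : Nat := @Bool.rec (fun _ => Nat) (Ptab_s_4110_4112 c) (Ptab_s_4112_4114 c) (Nat.ble 4112 c)
noncomputable def Ptab_s_4106_4114 (c : Nat) : Nat := @Bool.rec (fun _ => Nat) (Ptab_s_4106_4110 c) (Ptab_s_4110_4114 c) (Nat.ble 4110 c)
noncomputable def Ptab_s_4099_4114 (c : Nat) : Nat := @Bool.rec (fun _ => Nat) (Ptab_s_4099_4106 c) (Ptab_s_4106_4114 c) (Nat.ble 4106 c)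
noncomputable def Ptab_s_4115_4117 (c : Nat) : Nat := @Bool.rec (fun _ => Nat) (Ptab_4115) (Ptab_4116) (Nat.ble 4116 c)
noncomputable def Ptab_s_4114_4117 (c : Nat) : Nat := @Bool.rec (fun _ => Nat) (Ptab_4114) (Ptab_s_4115_4117 c) (Nat.ble 4115 c)
noncomputable def Ptab_s_4117_4119 (c : Nat) : Nat := @Bool.rec (fun _ => Nat) (Ptab_4117) (Ptab_4118) (Nat.ble 4118 c)
noncomputable def Ptab_s_4119_4121 (c : Nat) : Nat := @Bool.rec (fun _ => Nat) (Ptab_4119) (Ptab_4120) (Nat.ble 4120 c)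
noncomputable def Ptab_s_4117_4121 (c : Nat) : Nat := @Bool.rec (fun _ => Nat) (Ptab_s_4117_4119 c) (Ptab_s_4119_4121 c) (Nat.ble 4119 c)
noncomputable def Ptab_s_4114_4121 (c : Nat) : Nat := @Bool.rec (fun _ => Nat) (Ptab_s_4114_4117 c) (Ptab_s_4117_4121 c) (Nat.ble 4117 c)
noncomputable def Ptab_s_4121_4123 (c : Nat) : Nat := @Bool.rec (fun _ => Nat) (Ptab_4121) (Ptab_4122) (Nat.ble 4122 c)
noncomputable def Ptab_s_4123_4125 (c : Nat) : Nat := @Bool.rec (fun _ => Nat) (Ptab_4123) (Ptab_4124) (Nat.ble 4124 c)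
noncomputable def Ptab_s_4121_4125 (c : Nat) : Nat := @Bool.rec (fun _ => Nat) (Ptab_s_4121_4123 c) (Ptab_s_4123_4125 c) (Nat.ble 4123 c)
noncomputable def Ptab_s_4125_4127 (c : Nat) : Nat := @Bool.rec (fun _ => Nat) (Ptab_4125) (Ptab_4126) (Nat.ble 4126 c)
noncomputable def Ptab_s_4127_4129 (c : Nat) : Nat := @Bool.rec (fun _ => Nat) (Ptab_4127) (Ptab_4128) (Nat.ble 4128 c)
noncomputable def Ptab_s_4125_4129 (c : Nat) : Nat := @Bool.rec (fun _ => Nat) (Ptab_s_4125_4127 c) (Ptab_s_4127_4129 c) (Nat.ble 4127 c)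
noncomputable def Ptab_s_4121_4129 (c : Nat) : Nat := @Bool.rec (fun _ => Nat) (Ptab_s_4121_4125 c) (Ptab_s_4125_4129 c) (Nat.ble 4125 c)
noncomputable def Ptab_s_4114_4129 (c : Nat) : Nat := @Bool.rec (fun _ => Nat) (Ptab_s_4114_4121 c) (Ptab_s_4121_4129 c) (Nat.ble 4121 c)
noncomputable def Ptab_s_4099_4129 (c : Nat) : Nat := @Bool.rec (fun _ => Nat) (Ptab_s_4099_4114 c) (Ptab_s_4114_4129 c) (Nat.ble 4114 c)
noncomputable def Ptab_s_4130_4132 (c : Nat) : Nat := @Bool.rec (fun _ => Nat) (Ptab_4130) (Ptab_4131) (Nat.ble 4131 c)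
noncomputable def Ptab_s_4129_4132 (c : Nat) : Nat := @Bool.rec (fun _ => Nat) (Ptab_4129) (Ptab_s_4130_4132 c) (Nat.ble 4130 c)
noncomputable def Ptab_s_4132_4134 (c : Nat) : Nat := @Bool.rec (fun _ => Nat) (Ptab_4132) (Ptab_4133) (Nat.ble 4133 c)
noncomputable def Ptab_s_4134_4136 (c : Nat) : Nat := @Bool.rec (fun _ => Nat) (Ptab_4134) (Ptab_4135) (Nat.ble 4135 c)
noncomputable def Ptab_s_4132_4136 (c : Nat) : Nat := @Bool.rec (fun _ => Nat) (Ptab_s_4132_4134 c) (Ptab_s_4134_4136 c) (Nat.ble 4134 c)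
noncomputable def Ptab_s_4129_4136 (c : Nat) : Nat := @Bool.rec (fun _ => Nat) (Ptab_s_4129_4132 c) (Ptab_s_4132_4136 c) (Nat.ble 4132 c)
noncomputable def Ptab_s_4136_4138 (c : Nat) : Nat := @Bool.rec (fun _ => Nat) (Ptab_4136) (Ptab_4137) (Nat.ble 4137 c)
noncomputable def Ptab_s_4138_4140 (c : Nat) : Nat := @Bool.rec (fun _ => Nat) (Ptab_4138) (Ptab_4139) (Nat.ble 4139 c)
noncomputable def Ptab_s_4136_4140 (c : Nat) : Nat := @Bool.rec (fun _ => Nat) (Ptab_s_4136_4138 c) (Ptab_s_4138_4140 c) (Nat.ble 4138 c)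
noncomputable def Ptab_s_4140_4142 (c : Nat) : Nat := @Bool.rec (fun _ => Nat) (Ptab_4140) (Ptab_4141) (Nat.ble 4141 c)
noncomputable def Ptab_s_4142_4144 (c : Nat) : Nat := @Bool.rec (fun _ => Nat) (Ptab_4142) (Ptab_4143) (Nat.ble 4143 c)
noncomputable def Ptab_s_4140_4144 (c : Nat) : Nat := @Bool.rec (fun _ => Nat) (Ptab_s_4140_4142 c) (Ptab_s_4142_4144 c) (Nat.ble 4142 c)
noncomputable def Ptab_s_4136_4144 (c : Nat) : Nat := @Bool.rec (fun _ => Nat) (Ptab_s_4136_4140 c) (Ptab_s_4140_4144 c) (Nat.ble 4140 c)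
noncomputable def Ptab_s_4129_4144 (c : Nat) : Nat := @Bool.rec (fun _ => Nat) (Ptab_s_4129_4136 c) (Ptab_s_4136_4144 c) (Nat.ble 4136 c)
noncomputable def Ptab_s_4144_4146 (c : Nat) : Nat := @Bool.rec (fun _ => Nat) (Ptab_4144) (Ptab_4145) (Nat.ble 4145 c)
noncomputable def Ptab_s_4146_4148 (c : Nat) : Nat := @Bool.rec (fun _ => Nat) (Ptab_4146) (Ptab_4147) (Nat.ble 4147 c)
noncomputable def Ptab_s_4144_4148 (c : Nat) : Nat := @Bool.rec (fun _ => Nat) (Ptab_s_4144_4146 c) (Ptab_s_4146_4148 c) (Nat.ble 4146 c)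
noncomputable def Ptab_s_4148_4150 (c : Nat) : Nat := @Bool.rec (fun _ => Nat) (Ptab_4148) (Ptab_4149) (Nat.ble 4149 c)
noncomputable def Ptab_s_4150_4152 (c : Nat) : Nat := @Bool.rec (fun _ => Nat) (Ptab_4150) (Ptab_4151) (Nat.ble 4151 c)
noncomputable def Ptab_s_4148_4152 (c : Nat) : Nat := @Bool.rec (fun _ => Nat) (Ptab_s_4148_4150 c) (Ptab_s_4150_4152 c) (Nat.ble 4150 c)
noncomputable def Ptab_s_4144_4152 (c : Nat) : Nat := @Bool.rec (fun _ => Nat) (Ptab_s_4144_4148 c) (Ptab_s_4148_4152 c) (Nat.ble 4148 c)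
noncomputable def Ptab_s_4152_4154 (c : Nat) : Nat := @Bool.rec (fun _ => Nat) (Ptab_4152) (Ptab_4153) (Nat.ble 4153 c)
noncomputable def Ptab_s_4154_4156 (c : Nat) : Nat := @Bool.rec (fun _ => Nat) (Ptab_4154) (Ptab_4155) (Nat.ble 4155 c)
noncomputable def Ptab_s_4152_4156 (c : Nat) : Nat := @Bool.rec (fun _ => Nat) (Ptab_s_4152_4154 c) (Ptab_s_4154_4156 c) (Nat.ble 4154 c)
noncomputable def Ptab_s_4156_4158 (c : Nat) : Nat := @Bool.rec (fun _ => Nat) (Ptab_4156) (Ptab_4157) (Nat.ble 4157 c)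
noncomputable def Ptab_s_4158_4160 (c : Nat) : Nat := @Bool.rec (fun _ => Nat) (Ptab_4158) (Ptab_4159) (Nat.ble 4159 c)
noncomputable def Ptab_s_4156_4160 (c : Nat) : Nat := @Bool.rec (fun _ => Nat) (Ptab_s_4156_4158 c) (Ptab_s_4158_4160 c) (Nat.ble 4158 c)
noncomputable def Ptab_s_4152_4160 (c : Nat) : Nat := @Bool.rec (fun _ => Nat) (Ptab_s_4152_4156 c) (Ptab_s_4156_4160 c) (Nat.ble 4156 c)
noncomputable def Ptab_s_4144_4160 (c : Nat) : Nat := @Bool.rec (fun _ => Nat) (Ptab_s_4144_4152 c) (Ptab_s_4152_4160 c) (Nat.ble 4152 c)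
noncomputable def Ptab_s_4129_4160 (c : Nat) : Nat := @Bool.rec (fun _ => Nat) (Ptab_s_4129_4144 c) (Ptab_s_4144_4160 c) (Nat.ble 4144 c)
noncomputable def Ptab_s_4099_4160 (c : Nat) : Nat := @Bool.rec (fun _ => Nat) (Ptab_s_4099_4129 c) (Ptab_s_4129_4160 c) (Nat.ble 4129 c)
noncomputable def Ptab_s_4038_4160 (c : Nat) : Nat := @Bool.rec (fun _ => Nat) (Ptab_s_4038_4099 c) (Ptab_s_4099_4160 c) (Nat.ble 4099 c)
noncomputable def Ptab_s_3916_4160 (c : Nat) : Nat := @Bool.rec (fun _ => Nat) (Ptab_s_3916_4038 c) (Ptab_s_4038_4160 c) (Nat.ble 4038 c)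
noncomputable def Ptab_s_4161_4163 (c : Nat) : Nat := @Bool.rec (fun _ => Nat) (Ptab_4161) (Ptab_4162) (Nat.ble 4162 c)
noncomputable def Ptab_s_4160_4163 (c : Nat) : Nat := @Bool.rec (fun _ => Nat) (Ptab_4160) (Ptab_s_4161_4163 c) (Nat.ble 4161 c)
noncomputable def Ptab_s_4163_4165 (c : Nat) : Nat := @Bool.rec (fun _ => Nat) (Ptab_4163) (Ptab_4164) (Nat.ble 4164 c)
noncomputable def Ptab_s_4165_4167 (c : Nat) : Nat := @Bool.rec (fun _ => Nat) (Ptab_4165) (Ptab_4166) (Nat.ble 4166 c)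
noncomputable def Ptab_s_4163_4167 (c : Nat) : Nat := @Bool.rec (fun _ => Nat) (Ptab_s_4163_4165 c) (Ptab_s_4165_4167 c) (Nat.ble 4165 c)
noncomputable def Ptab_s_4160_4167 (c : Nat) : Nat := @Bool.rec (fun _ => Nat) (Ptab_s_4160_4163 c) (Ptab_s_4163_4167 c) (Nat.ble 4163 c)
noncomputable def Ptab_s_4167_4169 (c : Nat) : Nat := @Bool.rec (fun _ => Nat) (Ptab_4167) (Ptab_4168) (Nat.ble 4168 c)
noncomputable def Ptab_s_4169_4171 (c : Nat) : Nat := @Bool.rec (fun _ => Nat) (Ptab_4169) (Ptab_4170) (Nat.ble 4170 c)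
noncomputable def Ptab_s_4167_4171 (c : Nat) : Nat := @Bool.rec (fun _ => Nat) (Ptab_s_4167_4169 c) (Ptab_s_4169_4171 c) (Nat.ble 4169 c)
noncomputable def Ptab_s_4171_4173 (c : Nat) : Nat := @Bool.rec (fun _ => Nat) (Ptab_4171) (Ptab_4172) (Nat.ble 4172 c)
noncomputable def Ptab_s_4173_4175 (c : Nat) : Nat := @Bool.rec (fun _ => Nat) (Ptab_4173) (Ptab_4174) (Nat.ble 4174 c)
noncomputable def Ptab_s_4171_4175 (c : Nat) : Nat := @Bool.rec (fun _ => Nat) (Ptab_s_4171_4173 c) (Ptab_s_4173_4175 c) (Nat.ble 4173 c)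
noncomputable def Ptab_s_4167_4175 (c : Nat) : Nat := @Bool.rec (fun _ => Nat) (Ptab_s_4167_4171 c) (Ptab_s_4171_4175 c) (Nat.ble 4171 c)
noncomputable def Ptab_s_4160_4175 (c : Nat) : Nat := @Bool.rec (fun _ => Nat) (Ptab_s_4160_4167 c) (Ptab_s_4167_4175 c) (Nat.ble 4167 c)
noncomputable def Ptab_s_4176_4178 (c : Nat) : Nat := @Bool.rec (fun _ => Nat) (Ptab_4176) (Ptab_4177) (Nat.ble 4177 c)
noncomputable def Ptab_s_4175_4178 (c : Nat) : Nat := @Bool.rec (fun _ => Nat) (Ptab_4175) (Ptab_s_4176_4178 c) (Nat.ble 4176 c)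
noncomputable def Ptab_s_4178_4180 (c : Nat) : Nat := @Bool.rec (fun _ => Nat) (Ptab_4178) (Ptab_4179) (Nat.ble 4179 c)
noncomputable def Ptab_s_4180_4182 (c : Nat) : Nat := @Bool.rec (fun _ => Nat) (Ptab_4180) (Ptab_4181) (Nat.ble 4181 c)
noncomputable def Ptab_s_4178_4182 (c : Nat) : Nat := @Bool.rec (fun _ => Nat) (Ptab_s_4178_4180 c) (Ptab_s_4180_4182 c) (Nat.ble 4180 c)
noncomputable def Ptab_s_4175_4182 (c : Nat) : Nat := @Bool.rec (fun _ => Nat) (Ptab_s_4175_4178 c) (Ptab_s_4178_4182 c) (Nat.ble 4178 c)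
noncomputable def Ptab_s_4182_4184 (c : Nat) : Nat := @Bool.rec (fun _ => Nat) (Ptab_4182) (Ptab_4183) (Nat.ble 4183 c)
noncomputable def Ptab_s_4184_4186 (c : Nat) : Nat := @Bool.rec (fun _ => Nat) (Ptab_4184) (Ptab_4185) (Nat.ble 4185 c)
noncomputable def Ptab_s_4182_4186 (c : Nat) : Nat := @Bool.rec (fun _ => Nat) (Ptab_s_4182_4184 c) (Ptab_s_4184_4186 c) (Nat.ble 4184 c)
noncomputable def Ptab_s_4186_4188 (c : Nat) : Nat := @Bool.rec (fun _ => Nat) (Ptab_4186) (Ptab_4187) (Nat.ble 4187 c)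
noncomputable def Ptab_s_4188_4190 (c : Nat) : Nat := @Bool.rec (fun _ => Nat) (Ptab_4188) (Ptab_4189) (Nat.ble 4189 c)
noncomputable def Ptab_s_4186_4190 (c : Nat) : Nat := @Bool.rec (fun _ => Nat) (Ptab_s_4186_4188 c) (Ptab_s_4188_4190 c) (Nat.ble 4188 c)
noncomputable def Ptab_s_4182_4190 (c : Nat) : Nat := @Bool.rec (fun _ => Nat) (Ptab_s_4182_4186 c) (Ptab_s_4186_4190 c) (Nat.ble 4186 c)
noncomputable def Ptab_s_4175_4190 (c : Nat) : Nat := @Bool.rec (fun _ => Nat) (Ptab_s_4175_4182 c) (Ptab_s_4182_4190 c) (Nat.ble 4182 c)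
noncomputable def Ptab_s_4160_4190 (c : Nat) : Nat := @Bool.rec (fun _ => Nat) (Ptab_s_4160_4175 c) (Ptab_s_4175_4190 c) (Nat.ble 4175 c)
noncomputable def Ptab_s_4191_4193 (c : Nat) : Nat := @Bool.rec (fun _ => Nat) (Ptab_4191) (Ptab_4192) (Nat.ble 4192 c)
noncomputable def Ptab_s_4190_4193 (c : Nat) : Nat := @Bool.rec (fun _ => Nat) (Ptab_4190) (Ptab_s_4191_4193 c) (Nat.ble 4191 c)
noncomputable def Ptab_s_4193_4195 (c : Nat) : Nat := @Bool.rec (fun _ => Nat) (Ptab_4193) (Ptab_4194) (Nat.ble 4194 c)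
noncomputable def Ptab_s_4195_4197 (c : Nat) : Nat := @Bool.rec (fun _ => Nat) (Ptab_4195) (Ptab_4196) (Nat.ble 4196 c)
noncomputable def Ptab_s_4193_4197 (c : Nat) : Nat := @Bool.rec (fun _ => Nat) (Ptab_s_4193_4195 c) (Ptab_s_4195_4197 c) (Nat.ble 4195 c)
noncomputable def Ptab_s_4190_4197 (c : Nat) : Nat := @Bool.rec (fun _ => Nat) (Ptab_s_4190_4193 c) (Ptab_s_4193_4197 c) (Nat.ble 4193 c)
noncomputable def Ptab_s_4197_4199 (c : Nat) : Nat := @Bool.rec (fun _ => Nat) (Ptab_4197) (Ptab_4198) (Nat.ble 4198 c)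
noncomputable def Ptab_s_4199_4201 (c : Nat) : Nat := @Bool.rec (fun _ => Nat) (Ptab_4199) (Ptab_4200) (Nat.ble 4200 c)
noncomputable def Ptab_s_4197_4201 (c : Nat) : Nat := @Bool.rec (fun _ => Nat) (Ptab_s_4197_4199 c) (Ptab_s_4199_4201 c) (Nat.ble 4199 c)
noncomputable def Ptab_s_4201_4203 (c : Nat) : Nat := @Bool.rec (fun _ => Nat) (Ptab_4201) (Ptab_4202) (Nat.ble 4202 c)
noncomputable def Ptab_s_4203_4205 (c : Nat) : Nat := @Bool.rec (fun _ => Nat) (Ptab_4203) (Ptab_4204) (Nat.ble 4204 c)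
noncomputable def Ptab_s_4201_4205 (c : Nat) : Nat := @Bool.rec (fun _ => Nat) (Ptab_s_4201_4203 c) (Ptab_s_4203_4205 c) (Nat.ble 4203 c)
noncomputable def Ptab_s_4197_4205 (c : Nat) : Nat := @Bool.rec (fun _ => Nat) (Ptab_s_4197_4201 c) (Ptab_s_4201_4205 c) (Nat.ble 4201 c)
noncomputable def Ptab_s_4190_4205 (c : Nat) : Nat := @Bool.rec (fun _ => Nat) (Ptab_s_4190_4197 c) (Ptab_s_4197_4205 c) (Nat.ble 4197 c)
noncomputable def Ptab_s_4205_4207 (c : Nat) : Nat := @Bool.rec (fun _ => Nat) (Ptab_4205) (Ptab_4206) (Nat.ble 4206 c)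
noncomputable def Ptab_s_4207_4209 (c : Nat) : Nat := @Bool.rec (fun _ => Nat) (Ptab_4207) (Ptab_4208) (Nat.ble 4208 c)
noncomputable def Ptab_s_4205_4209 (c : Nat) : Nat := @Bool.rec (fun _ => Nat) (Ptab_s_4205_4207 c) (Ptab_s_4207_4209 c) (Nat.ble 4207 c)
noncomputable def Ptab_s_4209_4211 (c : Nat) : Nat := @Bool.rec (fun _ => Nat) (Ptab_4209) (Ptab_4210) (Nat.ble 4210 c)
noncomputable def Ptab_s_4211_4213 (c : Nat) : Nat := @Bool.rec (fun _ => Nat) (Ptab_4211) (Ptab_4212) (Nat.ble 4212 c)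
noncomputable def Ptab_s_4209_4213 (c : Nat) : Nat := @Bool.rec (fun _ => Nat) (Ptab_s_4209_4211 c) (Ptab_s_4211_4213 c) (Nat.ble 4211 c)
noncomputable def Ptab_s_4205_4213 (c : Nat) : Nat := @Bool.rec (fun _ => Nat) (Ptab_s_4205_4209 c) (Ptab_s_4209_4213 c) (Nat.ble 4209 c)
noncomputable def Ptab_s_4213_4215 (c : Nat) : Nat := @Bool.rec (fun _ => Nat) (Ptab_4213) (Ptab_4214) (Nat.ble 4214 c)
noncomputable def Ptab_s_4215_4217 (c : Nat) : Nat := @Bool.rec (fun _ => Nat) (Ptab_4215) (Ptab_4216) (Nat.ble 4216 c)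
noncomputable def Ptab_s_4213_4217 (c : Nat) : Nat := @Bool.rec (fun _ => Nat) (Ptab_s_4213_4215 c) (Ptab_s_4215_4217 c) (Nat.ble 4215 c)
noncomputable def Ptab_s_4217_4219 (c : Nat) : Nat := @Bool.rec (fun _ => Nat) (Ptab_4217) (Ptab_4218) (Nat.ble 4218 c)
noncomputable def Ptab_s_4219_4221 (c : Nat) : Nat := @Bool.rec (fun _ => Nat) (Ptab_4219) (Ptab_4220) (Nat.ble 4220 c)
noncomputable def Ptab_s_4217_4221 (c : Nat) : Nat := @Bool.rec (fun _ => Nat) (Ptab_s_4217_4219 c) (Ptab_s_4219_4221 c) (Nat.ble 4219 c)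
noncomputable def Ptab_s_4213_4221 (c : Nat) : Nat := @Bool.rec (fun _ => Nat) (Ptab_s_4213_4217 c) (Ptab_s_4217_4221 c) (Nat.ble 4217 c)
noncomputable def Ptab_s_4205_4221 (c : Nat) : Nat := @Bool.rec (fun _ => Nat) (Ptab_s_4205_4213 c) (Ptab_s_4213_4221 c) (Nat.ble 4213 c)
noncomputable def Ptab_s_4190_4221 (c : Nat) : Nat := @Bool.rec (fun _ => Nat) (Ptab_s_4190_4205 c) (Ptab_s_4205_4221 c) (Nat.ble 4205 c)
noncomputable def Ptab_s_4160_4221 (c : Nat) : Nat := @Bool.rec (fun _ => Nat) (Ptab_s_4160_4190 c) (Ptab_s_4190_4221 c) (Nat.ble 4190 c)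
noncomputable def Ptab_s_4222_4224 (c : Nat) : Nat := @Bool.rec (fun _ => Nat) (Ptab_4222) (Ptab_4223) (Nat.ble 4223 c)
noncomputable def Ptab_s_4221_4224 (c : Nat) : Nat := @Bool.rec (fun _ => Nat) (Ptab_4221) (Ptab_s_4222_4224 c) (Nat.ble 4222 c)
noncomputable def Ptab_s_4224_4226 (c : Nat) : Nat := @Bool.rec (fun _ => Nat) (Ptab_4224) (Ptab_4225) (Nat.ble 4225 c)
noncomputable def Ptab_s_4226_4228 (c : Nat) : Nat := @Bool.rec (fun _ => Nat) (Ptab_4226) (Ptab_4227) (Nat.ble 4227 c)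
noncomputable def Ptab_s_4224_4228 (c : Nat) : Nat := @Bool.rec (fun _ => Nat) (Ptab_s_4224_4226 c) (Ptab_s_4226_4228 c) (Nat.ble 4226 c)
noncomputable def Ptab_s_4221_4228 (c : Nat) : Nat := @Bool.rec (fun _ => Nat) (Ptab_s_4221_4224 c) (Ptab_s_4224_4228 c) (Nat.ble 4224 c)
noncomputable def Ptab_s_4228_4230 (c : Nat) : Nat := @Bool.rec (fun _ => Nat) (Ptab_4228) (Ptab_4229) (Nat.ble 4229 c)
noncomputable def Ptab_s_4230_4232 (c : Nat) : Nat := @Bool.rec (fun _ => Nat) (Ptab_4230) (Ptab_4231) (Nat.ble 4231 c)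
noncomputable def Ptab_s_4228_4232 (c : Nat) : Nat := @Bool.rec (fun _ => Nat) (Ptab_s_4228_4230 c) (Ptab_s_4230_4232 c) (Nat.ble 4230 c)
noncomputable def Ptab_s_4232_4234 (c : Nat) : Nat := @Bool.rec (fun _ => Nat) (Ptab_4232) (Ptab_4233) (Nat.ble 4233 c)
noncomputable def Ptab_s_4234_4236 (c : Nat) : Nat := @Bool.rec (fun _ => Nat) (Ptab_4234) (Ptab_4235) (Nat.ble 4235 c)
noncomputable def Ptab_s_4232_4236 (c : Nat) : Nat := @Bool.rec (fun _ => Nat) (Ptab_s_4232_4234 c) (Ptab_s_4234_4236 c) (Nat.ble 4234 c)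
noncomputable def Ptab_s_4228_4236 (c : Nat) : Nat := @Bool.rec (fun _ => Nat) (Ptab_s_4228_4232 c) (Ptab_s_4232_4236 c) (Nat.ble 4232 c)
noncomputable def Ptab_s_4221_4236 (c : Nat) : Nat := @Bool.rec (fun _ => Nat) (Ptab_s_4221_4228 c) (Ptab_s_4228_4236 c) (Nat.ble 4228 c)
noncomputable def Ptab_s_4237_4239 (c : Nat) : Nat := @Bool.rec (fun _ => Nat) (Ptab_4237) (Ptab_4238) (Nat.ble 4238 c)
noncomputable def Ptab_s_4236_4239 (c : Nat) : Nat := @Bool.rec (fun _ => Nat) (Ptab_4236) (Ptab_s_4237_4239 c) (Nat.ble 4237 c)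
noncomputable def Ptab_s_4239_4241 (c : Nat) : Nat := @Bool.rec (fun _ => Nat) (Ptab_4239) (Ptab_4240) (Nat.ble 4240 c)
noncomputable def Ptab_s_4241_4243 (c : Nat) : Nat := @Bool.rec (fun _ => Nat) (Ptab_4241) (Ptab_4242) (Nat.ble 4242 c)
noncomputable def Ptab_s_4239_4243 (c : Nat) : Nat := @Bool.rec (fun _ => Nat) (Ptab_s_4239_4241 c) (Ptab_s_4241_4243 c) (Nat.ble 4241 c)
noncomputable def Ptab_s_4236_4243 (c : Nat) : Nat := @Bool.rec (fun _ => Nat) (Ptab_s_4236_4239 c) (Ptab_s_4239_4243 c) (Nat.ble 4239 c)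
noncomputable def Ptab_s_4243_4245 (c : Nat) : Nat := @Bool.rec (fun _ => Nat) (Ptab_4243) (Ptab_4244) (Nat.ble 4244 c)
noncomputable def Ptab_s_4245_4247 (c : Nat) : Nat := @Bool.rec (fun _ => Nat) (Ptab_4245) (Ptab_4246) (Nat.ble 4246 c)
noncomputable def Ptab_s_4243_4247 (c : Nat) : Nat := @Bool.rec (fun _ => Nat) (Ptab_s_4243_4245 c) (Ptab_s_4245_4247 c) (Nat.ble 4245 c)
noncomputable def Ptab_s_4247_4249 (c : Nat) : Nat := @Bool.rec (fun _ => Nat) (Ptab_4247) (Ptab_4248) (Nat.ble 4248 c)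
noncomputable def Ptab_s_4249_4251 (c : Nat) : Nat := @Bool.rec (fun _ => Nat) (Ptab_4249) (Ptab_4250) (Nat.ble 4250 c)
noncomputable def Ptab_s_4247_4251 (c : Nat) : Nat := @Bool.rec (fun _ => Nat) (Ptab_s_4247_4249 c) (Ptab_s_4249_4251 c) (Nat.ble 4249 c)
noncomputable def Ptab_s_4243_4251 (c : Nat) : Nat := @Bool.rec (fun _ => Nat) (Ptab_s_4243_4247 c) (Ptab_s_4247_4251 c) (Nat.ble 4247 c)
noncomputable def Ptab_s_4236_4251 (c : Nat) : Nat := @Bool.rec (fun _ => Nat) (Ptab_s_4236_4243 c) (Ptab_s_4243_4251 c) (Nat.ble 4243 c)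
noncomputable def Ptab_s_4221_4251 (c : Nat) : Nat := @Bool.rec (fun _ => Nat) (Ptab_s_4221_4236 c) (Ptab_s_4236_4251 c) (Nat.ble 4236 c)
noncomputable def Ptab_s_4252_4254 (c : Nat) : Nat := @Bool.rec (fun _ => Nat) (Ptab_4252) (Ptab_4253) (Nat.ble 4253 c)
noncomputable def Ptab_s_4251_4254 (c : Nat) : Nat := @Bool.rec (fun _ => Nat) (Ptab_4251) (Ptab_s_4252_4254 c) (Nat.ble 4252 c)
noncomputable def Ptab_s_4254_4256 (c : Nat) : Nat := @Bool.rec (fun _ => Nat) (Ptab_4254) (Ptab_4255) (Nat.ble 4255 c)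
noncomputable def Ptab_s_4256_4258 (c : Nat) : Nat := @Bool.rec (fun _ => Nat) (Ptab_4256) (Ptab_4257) (Nat.ble 4257 c)
noncomputable def Ptab_s_4254_4258 (c : Nat) : Nat := @Bool.rec (fun _ => Nat) (Ptab_s_4254_4256 c) (Ptab_s_4256_4258 c) (Nat.ble 4256 c)
noncomputable def Ptab_s_4251_4258 (c : Nat) : Nat := @Bool.rec (fun _ => Nat) (Ptab_s_4251_4254 c) (Ptab_s_4254_4258 c) (Nat.ble 4254 c)
noncomputable def Ptab_s_4258_4260 (c : Nat) : Nat := @Bool.rec (fun _ => Nat) (Ptab_4258) (Ptab_4259) (Nat.ble 4259 c)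
noncomputable def Ptab_s_4260_4262 (c : Nat) : Nat := @Bool.rec (fun _ => Nat) (Ptab_4260) (Ptab_4261) (Nat.ble 4261 c)
noncomputable def Ptab_s_4258_4262 (c : Nat) : Nat := @Bool.rec (fun _ => Nat) (Ptab_s_4258_4260 c) (Ptab_s_4260_4262 c) (Nat.ble 4260 c)
noncomputable def Ptab_s_4262_4264 (c : Nat) : Nat := @Bool.rec (fun _ => Nat) (Ptab_4262) (Ptab_4263) (Nat.ble 4263 c)
noncomputable def Ptab_s_4264_4266 (c : Nat) : Nat := @Bool.rec (fun _ => Nat) (Ptab_4264) (Ptab_4265) (Nat.ble 4265 c)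
noncomputable def Ptab_s_4262_4266 (c : Nat) : Nat := @Bool.rec (fun _ => Nat) (Ptab_s_4262_4264 c) (Ptab_s_4264_4266 c) (Nat.ble 4264 c)
noncomputable def Ptab_s_4258_4266 (c : Nat) : Nat := @Bool.rec (fun _ => Nat) (Ptab_s_4258_4262 c) (Ptab_s_4262_4266 c) (Nat.ble 4262 c)
noncomputable def Ptab_s_4251_4266 (c : Nat) : Nat := @Bool.rec (fun _ => Nat) (Ptab_s_4251_4258 c) (Ptab_s_4258_4266 c) (Nat.ble 4258 c)
noncomputable def Ptab_s_4266_4268 (c : Nat) : Nat := @Bool.rec (fun _ => Nat) (Ptab_4266) (Ptab_4267) (Nat.ble 4267 c)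
noncomputable def Ptab_s_4268_4270 (c : Nat) : Nat := @Bool.rec (fun _ => Nat) (Ptab_4268) (Ptab_4269) (Nat.ble 4269 c)
noncomputable def Ptab_s_4266_4270 (c : Nat) : Nat := @Bool.rec (fun _ => Nat) (Ptab_s_4266_4268 c) (Ptab_s_4268_4270 c) (Nat.ble 4268 c)
noncomputable def Ptab_s_4270_4272 (c : Nat) : Nat := @Bool.rec (fun _ => Nat) (Ptab_4270) (Ptab_4271) (Nat.ble 4271 c)
noncomputable def Ptab_s_4272_4274 (c : Nat) : Nat := @Bool.rec (fun _ => Nat) (Ptab_4272) (Ptab_4273) (Nat.ble 4273 c)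
noncomputable def Ptab_s_4270_4274 (c : Nat) : Nat := @Bool.rec (fun _ => Nat) (Ptab_s_4270_4272 c) (Ptab_s_4272_4274 c) (Nat.ble 4272 c)
noncomputable def Ptab_s_4266_4274 (c : Nat) : Nat := @Bool.rec (fun _ => Nat) (Ptab_s_4266_4270 c) (Ptab_s_4270_4274 c) (Nat.ble 4270 c)
noncomputable def Ptab_s_4274_4276 (c : Nat) : Nat := @Bool.rec (fun _ => Nat) (Ptab_4274) (Ptab_4275) (Nat.ble 4275 c)
noncomputable def Ptab_s_4276_4278 (c : Nat) : Nat := @Bool.rec (fun _ => Nat) (Ptab_4276) (Ptab_4277) (Nat.ble 4277 c)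
noncomputable def Ptab_s_4274_4278 (c : Nat) : Nat := @Bool.rec (fun _ => Nat) (Ptab_s_4274_4276 c) (Ptab_s_4276_4278 c) (Nat.ble 4276 c)
noncomputable def Ptab_s_4278_4280 (c : Nat) : Nat := @Bool.rec (fun _ => Nat) (Ptab_4278) (Ptab_4279) (Nat.ble 4279 c)
noncomputable def Ptab_s_4280_4282 (c : Nat) : Nat := @Bool.rec (fun _ => Nat) (Ptab_4280) (Ptab_4281) (Nat.ble 4281 c)
noncomputable def Ptab_s_4278_4282 (c : Nat) : Nat := @Bool.rec (fun _ => Nat) (Ptab_s_4278_4280 c) (Ptab_s_4280_4282 c) (Nat.ble 4280 c)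
noncomputable def Ptab_s_4274_4282 (c : Nat) : Nat := @Bool.rec (fun _ => Nat) (Ptab_s_4274_4278 c) (Ptab_s_4278_4282 c) (Nat.ble 4278 c)
noncomputable def Ptab_s_4266_4282 (c : Nat) : Nat := @Bool.rec (fun _ => Nat) (Ptab_s_4266_4274 c) (Ptab_s_4274_4282 c) (Nat.ble 4274 c)
noncomputable def Ptab_s_4251_4282 (c : Nat) : Nat := @Bool.rec (fun _ => Nat) (Ptab_s_4251_4266 c) (Ptab_s_4266_4282 c) (Nat.ble 4266 c)
noncomputable def Ptab_s_4221_4282 (c : Nat) : Nat := @Bool.rec (fun _ => Nat) (Ptab_s_4221_4251 c) (Ptab_s_4251_4282 c) (Nat.ble 4251 c)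
noncomputable def Ptab_s_4160_4282 (c : Nat) : Nat := @Bool.rec (fun _ => Nat) (Ptab_s_4160_4221 c) (Ptab_s_4221_4282 c) (Nat.ble 4221 c)
noncomputable def Ptab_s_4283_4285 (c : Nat) : Nat := @Bool.rec (fun _ => Nat) (Ptab_4283) (Ptab_4284) (Nat.ble 4284 c)
noncomputable def Ptab_s_4282_4285 (c : Nat) : Nat := @Bool.rec (fun _ => Nat) (Ptab_4282) (Ptab_s_4283_4285 c) (Nat.ble 4283 c)
noncomputable def Ptab_s_4285_4287 (c : Nat) : Nat := @Bool.rec (fun _ => Nat) (Ptab_4285) (Ptab_4286) (Nat.ble 4286 c)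
noncomputable def Ptab_s_4287_4289 (c : Nat) : Nat := @Bool.rec (fun _ => Nat) (Ptab_4287) (Ptab_4288) (Nat.ble 4288 c)
noncomputable def Ptab_s_4285_4289 (c : Nat) : Nat := @Bool.rec (fun _ => Nat) (Ptab_s_4285_4287 c) (Ptab_s_4287_4289 c) (Nat.ble 4287 c)
noncomputable def Ptab_s_4282_4289 (c : Nat) : Nat := @Bool.rec (fun _ => Nat) (Ptab_s_4282_4285 c) (Ptab_s_4285_4289 c) (Nat.ble 4285 c)
noncomputable def Ptab_s_4289_4291 (c : Nat) : Nat := @Bool.rec (fun _ => Nat) (Ptab_4289) (Ptab_4290) (Nat.ble 4290 c)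
noncomputable def Ptab_s_4291_4293 (c : Nat) : Nat := @Bool.rec (fun _ => Nat) (Ptab_4291) (Ptab_4292) (Nat.ble 4292 c)
noncomputable def Ptab_s_4289_4293 (c : Nat) : Nat := @Bool.rec (fun _ => Nat) (Ptab_s_4289_4291 c) (Ptab_s_4291_4293 c) (Nat.ble 4291 c)
noncomputable def Ptab_s_4293_4295 (c : Nat) : Nat := @Bool.rec (fun _ => Nat) (Ptab_4293) (Ptab_4294) (Nat.ble 4294 c)
noncomputable def Ptab_s_4295_4297 (c : Nat) : Nat := @Bool.rec (fun _ => Nat) (Ptab_4295) (Ptab_4296) (Nat.ble 4296 c)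
noncomputable def Ptab_s_4293_4297 (c : Nat) : Nat := @Bool.rec (fun _ => Nat) (Ptab_s_4293_4295 c) (Ptab_s_4295_4297 c) (Nat.ble 4295 c)
noncomputable def Ptab_s_4289_4297 (c : Nat) : Nat := @Bool.rec (fun _ => Nat) (Ptab_s_4289_4293 c) (Ptab_s_4293_4297 c) (Nat.ble 4293 c)
noncomputable def Ptab_s_4282_4297 (c : Nat) : Nat := @Bool.rec (fun _ => Nat) (Ptab_s_4282_4289 c) (Ptab_s_4289_4297 c) (Nat.ble 4289 c)
noncomputable def Ptab_s_4298_4300 (c : Nat) : Nat := @Bool.rec (fun _ => Nat) (Ptab_4298) (Ptab_4299) (Nat.ble 4299 c)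
noncomputable def Ptab_s_4297_4300 (c : Nat) : Nat := @Bool.rec (fun _ => Nat) (Ptab_4297) (Ptab_s_4298_4300 c) (Nat.ble 4298 c)
noncomputable def Ptab_s_4300_4302 (c : Nat) : Nat := @Bool.rec (fun _ => Nat) (Ptab_4300) (Ptab_4301) (Nat.ble 4301 c)
noncomputable def Ptab_s_4302_4304 (c : Nat) : Nat := @Bool.rec (fun _ => Nat) (Ptab_4302) (Ptab_4303) (Nat.ble 4303 c)
noncomputable def Ptab_s_4300_4304 (c : Nat) : Nat := @Bool.rec (fun _ => Nat) (Ptab_s_4300_4302 c) (Ptab_s_4302_4304 c) (Nat.ble 4302 c)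
noncomputable def Ptab_s_4297_4304 (c : Nat) : Nat := @Bool.rec (fun _ => Nat) (Ptab_s_4297_4300 c) (Ptab_s_4300_4304 c) (Nat.ble 4300 c)
noncomputable def Ptab_s_4304_4306 (c : Nat) : Nat := @Bool.rec (fun _ => Nat) (Ptab_4304) (Ptab_4305) (Nat.ble 4305 c)
noncomputable def Ptab_s_4306_4308 (c : Nat) : Nat := @Bool.rec (fun _ => Nat) (Ptab_4306) (Ptab_4307) (Nat.ble 4307 c)
noncomputable def Ptab_s_4304_4308 (c : Nat) : Nat := @Bool.rec (fun _ => Nat) (Ptab_s_4304_4306 c) (Ptab_s_4306_4308 c) (Nat.ble 4306 c)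
noncomputable def Ptab_s_4308_4310 (c : Nat) : Nat := @Bool.rec (fun _ => Nat) (Ptab_4308) (Ptab_4309) (Nat.ble 4309 c)
noncomputable def Ptab_s_4310_4312 (c : Nat) : Nat := @Bool.rec (fun _ => Nat) (Ptab_4310) (Ptab_4311) (Nat.ble 4311 c)
noncomputable def Ptab_s_4308_4312 (c : Nat) : Nat := @Bool.rec (fun _ => Nat) (Ptab_s_4308_4310 c) (Ptab_s_4310_4312 c) (Nat.ble 4310 c)
noncomputable def Ptab_s_4304_4312 (c : Nat) : Nat := @Bool.rec (fun _ => Nat) (Ptab_s_4304_4308 c) (Ptab_s_4308_4312 c) (Nat.ble 4308 c)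
noncomputable def Ptab_s_4297_4312 (c : Nat) : Nat := @Bool.rec (fun _ => Nat) (Ptab_s_4297_4304 c) (Ptab_s_4304_4312 c) (Nat.ble 4304 c)
noncomputable def Ptab_s_4282_4312 (c : Nat) : Nat := @Bool.rec (fun _ => Nat) (Ptab_s_4282_4297 c) (Ptab_s_4297_4312 c) (Nat.ble 4297 c)
noncomputable def Ptab_s_4313_4315 (c : Nat) : Nat := @Bool.rec (fun _ => Nat) (Ptab_4313) (Ptab_4314) (Nat.ble 4314 c)
noncomputable def Ptab_s_4312_4315 (c : Nat) : Nat := @Bool.rec (fun _ => Nat) (Ptab_4312) (Ptab_s_4313_4315 c) (Nat.ble 4313 c)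
noncomputable def Ptab_s_4315_4317 (c : Nat) : Nat := @Bool.rec (fun _ => Nat) (Ptab_4315) (Ptab_4316) (Nat.ble 4316 c)
noncomputable def Ptab_s_4317_4319 (c : Nat) : Nat := @Bool.rec (fun _ => Nat) (Ptab_4317) (Ptab_4318) (Nat.ble 4318 c)
noncomputable def Ptab_s_4315_4319 (c : Nat) : Nat := @Bool.rec (fun _ => Nat) (Ptab_s_4315_4317 c) (Ptab_s_4317_4319 c) (Nat.ble 4317 c)
noncomputable def Ptab_s_4312_4319 (c : Nat) : Nat := @Bool.rec (fun _ => Nat) (Ptab_s_4312_4315 c) (Ptab_s_4315_4319 c) (Nat.ble 4315 c)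
noncomputable def Ptab_s_4319_4321 (c : Nat) : Nat := @Bool.rec (fun _ => Nat) (Ptab_4319) (Ptab_4320) (Nat.ble 4320 c)
noncomputable def Ptab_s_4321_4323 (c : Nat) : Nat := @Bool.rec (fun _ => Nat) (Ptab_4321) (Ptab_4322) (Nat.ble 4322 c)
noncomputable def Ptab_s_4319_4323 (c : Nat) : Nat := @Bool.rec (fun _ => Nat) (Ptab_s_4319_4321 c) (Ptab_s_4321_4323 c) (Nat.ble 4321 c)
noncomputable def Ptab_s_4323_4325 (c : Nat) : Nat := @Bool.rec (fun _ => Nat) (Ptab_4323) (Ptab_4324) (Nat.ble 4324 c)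
noncomputable def Ptab_s_4325_4327 (c : Nat) : Nat := @Bool.rec (fun _ => Nat) (Ptab_4325) (Ptab_4326) (Nat.ble 4326 c)
noncomputable def Ptab_s_4323_4327 (c : Nat) : Nat := @Bool.rec (fun _ => Nat) (Ptab_s_4323_4325 c) (Ptab_s_4325_4327 c) (Nat.ble 4325 c)
noncomputable def Ptab_s_4319_4327 (c : Nat) : Nat := @Bool.rec (fun _ => Nat) (Ptab_s_4319_4323 c) (Ptab_s_4323_4327 c) (Nat.ble 4323 c)
noncomputable def Ptab_s_4312_4327 (c : Nat) : Nat := @Bool.rec (fun _ => Nat) (Ptab_s_4312_4319 c) (Ptab_s_4319_4327 c) (Nat.ble 4319 c)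
noncomputable def Ptab_s_4327_4329 (c : Nat) : Nat := @Bool.rec (fun _ => Nat) (Ptab_4327) (Ptab_4328) (Nat.ble 4328 c)
noncomputable def Ptab_s_4329_4331 (c : Nat) : Nat := @Bool.rec (fun _ => Nat) (Ptab_4329) (Ptab_4330) (Nat.ble 4330 c)
noncomputable def Ptab_s_4327_4331 (c : Nat) : Nat := @Bool.rec (fun _ => Nat) (Ptab_s_4327_4329 c) (Ptab_s_4329_4331 c) (Nat.ble 4329 c)
noncomputable def Ptab_s_4331_4333 (c : Nat) : Nat := @Bool.rec (fun _ => Nat) (Ptab_4331) (Ptab_4332) (Nat.ble 4332 c)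
noncomputable def Ptab_s_4333_4335 (c : Nat) : Nat := @Bool.rec (fun _ => Nat) (Ptab_4333) (Ptab_4334) (Nat.ble 4334 c)
noncomputable def Ptab_s_4331_4335 (c : Nat) : Nat := @Bool.rec (fun _ => Nat) (Ptab_s_4331_4333 c) (Ptab_s_4333_4335 c) (Nat.ble 4333 c)
noncomputable def Ptab_s_4327_4335 (c : Nat) : Nat := @Bool.rec (fun _ => Nat) (Ptab_s_4327_4331 c) (Ptab_s_4331_4335 c) (Nat.ble 4331 c)
noncomputable def Ptab_s_4335_4337 (c : Nat) : Nat := @Bool.rec (fun _ => Nat) (Ptab_4335) (Ptab_4336) (Nat.ble 4336 c)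
noncomputable def Ptab_s_4337_4339 (c : Nat) : Nat := @Bool.rec (fun _ => Nat) (Ptab_4337) (Ptab_4338) (Nat.ble 4338 c)
noncomputable def Ptab_s_4335_4339 (c : Nat) : Nat := @Bool.rec (fun _ => Nat) (Ptab_s_4335_4337 c) (Ptab_s_4337_4339 c) (Nat.ble 4337 c)
noncomputable def Ptab_s_4339_4341 (c : Nat) : Nat := @Bool.rec (fun _ => Nat) (Ptab_4339) (Ptab_4340) (Nat.ble 4340 c)
noncomputable def Ptab_s_4341_4343 (c : Nat) : Nat := @Bool.rec (fun _ => Nat) (Ptab_4341) (Ptab_4342) (Nat.ble 4342 c)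
noncomputable def Ptab_s_4339_4343 (c : Nat) : Nat := @Bool.rec (fun _ => Nat) (Ptab_s_4339_4341 c) (Ptab_s_4341_4343 c) (Nat.ble 4341 c)
noncomputable def Ptab_s_4335_4343 (c : Nat) : Nat := @Bool.rec (fun _ => Nat) (Ptab_s_4335_4339 c) (Ptab_s_4339_4343 c) (Nat.ble 4339 c)
noncomputable def Ptab_s_4327_4343 (c : Nat) : Nat := @Bool.rec (fun _ => Nat) (Ptab_s_4327_4335 c) (Ptab_s_4335_4343 c) (Nat.ble 4335 c)
noncomputable def Ptab_s_4312_4343 (c : Nat) : Nat := @Bool.rec (fun _ => Nat) (Ptab_s_4312_4327 c) (Ptab_s_4327_4343 c) (Nat.ble 4327 c)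
noncomputable def Ptab_s_4282_4343 (c : Nat) : Nat := @Bool.rec (fun _ => Nat) (Ptab_s_4282_4312 c) (Ptab_s_4312_4343 c) (Nat.ble 4312 c)
noncomputable def Ptab_s_4344_4346 (c : Nat) : Nat := @Bool.rec (fun _ => Nat) (Ptab_4344) (Ptab_4345) (Nat.ble 4345 c)
noncomputable def Ptab_s_4343_4346 (c : Nat) : Nat := @Bool.rec (fun _ => Nat) (Ptab_4343) (Ptab_s_4344_4346 c) (Nat.ble 4344 c)
noncomputable def Ptab_s_4346_4348 (c : Nat) : Nat := @Bool.rec (fun _ => Nat) (Ptab_4346) (Ptab_4347) (Nat.ble 4347 c)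
noncomputable def Ptab_s_4348_4350 (c : Nat) : Nat := @Bool.rec (fun _ => Nat) (Ptab_4348) (Ptab_4349) (Nat.ble 4349 c)
noncomputable def Ptab_s_4346_4350 (c : Nat) : Nat := @Bool.rec (fun _ => Nat) (Ptab_s_4346_4348 c) (Ptab_s_4348_4350 c) (Nat.ble 4348 c)
noncomputable def Ptab_s_4343_4350 (c : Nat) : Nat := @Bool.rec (fun _ => Nat) (Ptab_s_4343_4346 c) (Ptab_s_4346_4350 c) (Nat.ble 4346 c)
noncomputable def Ptab_s_4350_4352 (c : Nat) : Nat := @Bool.rec (fun _ => Nat) (Ptab_4350) (Ptab_4351) (Nat.ble 4351 c)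
noncomputable def Ptab_s_4352_4354 (c : Nat) : Nat := @Bool.rec (fun _ => Nat) (Ptab_4352) (Ptab_4353) (Nat.ble 4353 c)
noncomputable def Ptab_s_4350_4354 (c : Nat) : Nat := @Bool.rec (fun _ => Nat) (Ptab_s_4350_4352 c) (Ptab_s_4352_4354 c) (Nat.ble 4352 c)
noncomputable def Ptab_s_4354_4356 (c : Nat) : Nat := @Bool.rec (fun _ => Nat) (Ptab_4354) (Ptab_4355) (Nat.ble 4355 c)
noncomputable def Ptab_s_4356_4358 (c : Nat) : Nat := @Bool.rec (fun _ => Nat) (Ptab_4356) (Ptab_4357) (Nat.ble 4357 c)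
noncomputable def Ptab_s_4354_4358 (c : Nat) : Nat := @Bool.rec (fun _ => Nat) (Ptab_s_4354_4356 c) (Ptab_s_4356_4358 c) (Nat.ble 4356 c)
noncomputable def Ptab_s_4350_4358 (c : Nat) : Nat := @Bool.rec (fun _ => Nat) (Ptab_s_4350_4354 c) (Ptab_s_4354_4358 c) (Nat.ble 4354 c)
noncomputable def Ptab_s_4343_4358 (c : Nat) : Nat := @Bool.rec (fun _ => Nat) (Ptab_s_4343_4350 c) (Ptab_s_4350_4358 c) (Nat.ble 4350 c)
noncomputable def Ptab_s_4358_4360 (c : Nat) : Nat := @Bool.rec (fun _ => Nat) (Ptab_4358) (Ptab_4359) (Nat.ble 4359 c)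
noncomputable def Ptab_s_4360_4362 (c : Nat) : Nat := @Bool.rec (fun _ => Nat) (Ptab_4360) (Ptab_4361) (Nat.ble 4361 c)
noncomputable def Ptab_s_4358_4362 (c : Nat) : Nat := @Bool.rec (fun _ => Nat) (Ptab_s_4358_4360 c) (Ptab_s_4360_4362 c) (Nat.ble 4360 c)
noncomputable def Ptab_s_4362_4364 (c : Nat) : Nat := @Bool.rec (fun _ => Nat) (Ptab_4362) (Ptab_4363) (Nat.ble 4363 c)
noncomputable def Ptab_s_4364_4366 (c : Nat) : Nat := @Bool.rec (fun _ => Nat) (Ptab_4364) (Ptab_4365) (Nat.ble 4365 c)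
noncomputable def Ptab_s_4362_4366 (c : Nat) : Nat := @Bool.rec (fun _ => Nat) (Ptab_s_4362_4364 c) (Ptab_s_4364_4366 c) (Nat.ble 4364 c)
noncomputable def Ptab_s_4358_4366 (c : Nat) : Nat := @Bool.rec (fun _ => Nat) (Ptab_s_4358_4362 c) (Ptab_s_4362_4366 c) (Nat.ble 4362 c)
noncomputable def Ptab_s_4366_4368 (c : Nat) : Nat := @Bool.rec (fun _ => Nat) (Ptab_4366) (Ptab_4367) (Nat.ble 4367 c)
noncomputable def Ptab_s_4368_4370 (c : Nat) : Nat := @Bool.rec (fun _ => Nat) (Ptab_4368) (Ptab_4369) (Nat.ble 4369 c)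
noncomputable def Ptab_s_4366_4370 (c : Nat) : Nat := @Bool.rec (fun _ => Nat) (Ptab_s_4366_4368 c) (Ptab_s_4368_4370 c) (Nat.ble 4368 c)
noncomputable def Ptab_s_4370_4372 (c : Nat) : Nat := @Bool.rec (fun _ => Nat) (Ptab_4370) (Ptab_4371) (Nat.ble 4371 c)
noncomputable def Ptab_s_4372_4374 (c : Nat) : Nat := @Bool.rec (fun _ => Nat) (Ptab_4372) (Ptab_4373) (Nat.ble 4373 c)
noncomputable def Ptab_s_4370_4374 (c : Nat) : Nat := @Bool.rec (fun _ => Nat) (Ptab_s_4370_4372 c) (Ptab_s_4372_4374 c) (Nat.ble 4372 c)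
noncomputable def Ptab_s_4366_4374 (c : Nat) : Nat := @Bool.rec (fun _ => Nat) (Ptab_s_4366_4370 c) (Ptab_s_4370_4374 c) (Nat.ble 4370 c)
noncomputable def Ptab_s_4358_4374 (c : Nat) : Nat := @Bool.rec (fun _ => Nat) (Ptab_s_4358_4366 c) (Ptab_s_4366_4374 c) (Nat.ble 4366 c)
noncomputable def Ptab_s_4343_4374 (c : Nat) : Nat := @Bool.rec (fun _ => Nat) (Ptab_s_4343_4358 c) (Ptab_s_4358_4374 c) (Nat.ble 4358 c)
noncomputable def Ptab_s_4375_4377 (c : Nat) : Nat := @Bool.rec (fun _ => Nat) (Ptab_4375) (Ptab_4376) (Nat.ble 4376 c)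
noncomputable def Ptab_s_4374_4377 (c : Nat) : Nat := @Bool.rec (fun _ => Nat) (Ptab_4374) (Ptab_s_4375_4377 c) (Nat.ble 4375 c)
noncomputable def Ptab_s_4377_4379 (c : Nat) : Nat := @Bool.rec (fun _ => Nat) (Ptab_4377) (Ptab_4378) (Nat.ble 4378 c)
noncomputable def Ptab_s_4379_4381 (c : Nat) : Nat := @Bool.rec (fun _ => Nat) (Ptab_4379) (Ptab_4380) (Nat.ble 4380 c)
noncomputable def Ptab_s_4377_4381 (c : Nat) : Nat := @Bool.rec (fun _ => Nat) (Ptab_s_4377_4379 c) (Ptab_s_4379_4381 c) (Nat.ble 4379 c)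
noncomputable def Ptab_s_4374_4381 (c : Nat) : Nat := @Bool.rec (fun _ => Nat) (Ptab_s_4374_4377 c) (Ptab_s_4377_4381 c) (Nat.ble 4377 c)
noncomputable def Ptab_s_4381_4383 (c : Nat) : Nat := @Bool.rec (fun _ => Nat) (Ptab_4381) (Ptab_4382) (Nat.ble 4382 c)
noncomputable def Ptab_s_4383_4385 (c : Nat) : Nat := @Bool.rec (fun _ => Nat) (Ptab_4383) (Ptab_4384) (Nat.ble 4384 c)
noncomputable def Ptab_s_4381_4385 (c : Nat) : Nat := @Bool.rec (fun _ => Nat) (Ptab_s_4381_4383 c) (Ptab_s_4383_4385 c) (Nat.ble 4383 c)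
noncomputable def Ptab_s_4385_4387 (c : Nat) : Nat := @Bool.rec (fun _ => Nat) (Ptab_4385) (Ptab_4386) (Nat.ble 4386 c)
noncomputable def Ptab_s_4387_4389 (c : Nat) : Nat := @Bool.rec (fun _ => Nat) (Ptab_4387) (Ptab_4388) (Nat.ble 4388 c)
noncomputable def Ptab_s_4385_4389 (c : Nat) : Nat := @Bool.rec (fun _ => Nat) (Ptab_s_4385_4387 c) (Ptab_s_4387_4389 c) (Nat.ble 4387 c)
noncomputable def Ptab_s_4381_4389 (c : Nat) : Nat := @Bool.rec (fun _ => Nat) (Ptab_s_4381_4385 c) (Ptab_s_4385_4389 c) (Nat.ble 4385 c)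
noncomputable def Ptab_s_4374_4389 (c : Nat) : Nat := @Bool.rec (fun _ => Nat) (Ptab_s_4374_4381 c) (Ptab_s_4381_4389 c) (Nat.ble 4381 c)
noncomputable def Ptab_s_4389_4391 (c : Nat) : Nat := @Bool.rec (fun _ => Nat) (Ptab_4389) (Ptab_4390) (Nat.ble 4390 c)
noncomputable def Ptab_s_4391_4393 (c : Nat) : Nat := @Bool.rec (fun _ => Nat) (Ptab_4391) (Ptab_4392) (Nat.ble 4392 c)
noncomputable def Ptab_s_4389_4393 (c : Nat) : Nat := @Bool.rec (fun _ => Nat) (Ptab_s_4389_4391 c) (Ptab_s_4391_4393 c) (Nat.ble 4391 c)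
noncomputable def Ptab_s_4393_4395 (c : Nat) : Nat := @Bool.rec (fun _ => Nat) (Ptab_4393) (Ptab_4394) (Nat.ble 4394 c)
noncomputable def Ptab_s_4395_4397 (c : Nat) : Nat := @Bool.rec (fun _ => Nat) (Ptab_4395) (Ptab_4396) (Nat.ble 4396 c)
noncomputable def Ptab_s_4393_4397 (c : Nat) : Nat := @Bool.rec (fun _ => Nat) (Ptab_s_4393_4395 c) (Ptab_s_4395_4397 c) (Nat.ble 4395 c)
noncomputable def Ptab_s_4389_4397 (c : Nat) : Nat := @Bool.rec (fun _ => Nat) (Ptab_s_4389_4393 c) (Ptab_s_4393_4397 c) (Nat.ble 4393 c)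
noncomputable def Ptab_s_4397_4399 (c : Nat) : Nat := @Bool.rec (fun _ => Nat) (Ptab_4397) (Ptab_4398) (Nat.ble 4398 c)
noncomputable def Ptab_s_4399_4401 (c : Nat) : Nat := @Bool.rec (fun _ => Nat) (Ptab_4399) (Ptab_4400) (Nat.ble 4400 c)
noncomputable def Ptab_s_4397_4401 (c : Nat) : Nat := @Bool.rec (fun _ => Nat) (Ptab_s_4397_4399 c) (Ptab_s_4399_4401 c) (Nat.ble 4399 c)
noncomputable def Ptab_s_4401_4403 (c : Nat) : Nat := @Bool.rec (fun _ => Nat) (Ptab_4401) (Ptab_4402) (Nat.ble 4402 c)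
noncomputable def Ptab_s_4403_4405 (c : Nat) : Nat := @Bool.rec (fun _ => Nat) (Ptab_4403) (Ptab_4404) (Nat.ble 4404 c)
noncomputable def Ptab_s_4401_4405 (c : Nat) : Nat := @Bool.rec (fun _ => Nat) (Ptab_s_4401_4403 c) (Ptab_s_4403_4405 c) (Nat.ble 4403 c)
noncomputable def Ptab_s_4397_4405 (c : Nat) : Nat := @Bool.rec (fun _ => Nat) (Ptab_s_4397_4401 c) (Ptab_s_4401_4405 c) (Nat.ble 4401 c)
noncomputable def Ptab_s_4389_4405 (c : Nat) : Nat := @Bool.rec (fun _ => Nat) (Ptab_s_4389_4397 c) (Ptab_s_4397_4405 c) (Nat.ble 4397 c)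
noncomputable def Ptab_s_4374_4405 (c : Nat) : Nat := @Bool.rec (fun _ => Nat) (Ptab_s_4374_4389 c) (Ptab_s_4389_4405 c) (Nat.ble 4389 c)
noncomputable def Ptab_s_4343_4405 (c : Nat) : Nat := @Bool.rec (fun _ => Nat) (Ptab_s_4343_4374 c) (Ptab_s_4374_4405 c) (Nat.ble 4374 c)
noncomputable def Ptab_s_4282_4405 (c : Nat) : Nat := @Bool.rec (fun _ => Nat) (Ptab_s_4282_4343 c) (Ptab_s_4343_4405 c) (Nat.ble 4343 c)
noncomputable def Ptab_s_4160_4405 (c : Nat) : Nat := @Bool.rec (fun _ => Nat) (Ptab_s_4160_4282 c) (Ptab_s_4282_4405 c) (Nat.ble 4282 c)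
noncomputable def Ptab_s_3916_4405 (c : Nat) : Nat := @Bool.rec (fun _ => Nat) (Ptab_s_3916_4160 c) (Ptab_s_4160_4405 c) (Nat.ble 4160 c)
noncomputable def Ptab_s_4406_4408 (c : Nat) : Nat := @Bool.rec (fun _ => Nat) (Ptab_4406) (Ptab_4407) (Nat.ble 4407 c)
noncomputable def Ptab_s_4405_4408 (c : Nat) : Nat := @Bool.rec (fun _ => Nat) (Ptab_4405) (Ptab_s_4406_4408 c) (Nat.ble 4406 c)
noncomputable def Ptab_s_4408_4410 (c : Nat) : Nat := @Bool.rec (fun _ => Nat) (Ptab_4408) (Ptab_4409) (Nat.ble 4409 c)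
noncomputable def Ptab_s_4410_4412 (c : Nat) : Nat := @Bool.rec (fun _ => Nat) (Ptab_4410) (Ptab_4411) (Nat.ble 4411 c)
noncomputable def Ptab_s_4408_4412 (c : Nat) : Nat := @Bool.rec (fun _ => Nat) (Ptab_s_4408_4410 c) (Ptab_s_4410_4412 c) (Nat.ble 4410 c)
noncomputable def Ptab_s_4405_4412 (c : Nat) : Nat := @Bool.rec (fun _ => Nat) (Ptab_s_4405_4408 c) (Ptab_s_4408_4412 c) (Nat.ble 4408 c)
noncomputable def Ptab_s_4412_4414 (c : Nat) : Nat := @Bool.rec (fun _ => Nat) (Ptab_4412) (Ptab_4413) (Nat.ble 4413 c)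
noncomputable def Ptab_s_4414_4416 (c : Nat) : Nat := @Bool.rec (fun _ => Nat) (Ptab_4414) (Ptab_4415) (Nat.ble 4415 c)
noncomputable def Ptab_s_4412_4416 (c : Nat) : Nat := @Bool.rec (fun _ => Nat) (Ptab_s_4412_4414 c) (Ptab_s_4414_4416 c) (Nat.ble 4414 c)
noncomputable def Ptab_s_4416_4418 (c : Nat) : Nat := @Bool.rec (fun _ => Nat) (Ptab_4416) (Ptab_4417) (Nat.ble 4417 c)
noncomputable def Ptab_s_4418_4420 (c : Nat) : Nat := @Bool.rec (fun _ => Nat) (Ptab_4418) (Ptab_4419) (Nat.ble 4419 c)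
noncomputable def Ptab_s_4416_4420 (c : Nat) : Nat := @Bool.rec (fun _ => Nat) (Ptab_s_4416_4418 c) (Ptab_s_4418_4420 c) (Nat.ble 4418 c)
noncomputable def Ptab_s_4412_4420 (c : Nat) : Nat := @Bool.rec (fun _ => Nat) (Ptab_s_4412_4416 c) (Ptab_s_4416_4420 c) (Nat.ble 4416 c)
noncomputable def Ptab_s_4405_4420 (c : Nat) : Nat := @Bool.rec (fun _ => Nat) (Ptab_s_4405_4412 c) (Ptab_s_4412_4420 c) (Nat.ble 4412 c)
noncomputable def Ptab_s_4421_4423 (c : Nat) : Nat := @Bool.rec (fun _ => Nat) (Ptab_4421) (Ptab_4422) (Nat.ble 4422 c)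
noncomputable def Ptab_s_4420_4423 (c : Nat) : Nat := @Bool.rec (fun _ => Nat) (Ptab_4420) (Ptab_s_4421_4423 c) (Nat.ble 4421 c)
noncomputable def Ptab_s_4423_4425 (c : Nat) : Nat := @Bool.rec (fun _ => Nat) (Ptab_4423) (Ptab_4424) (Nat.ble 4424 c)
noncomputable def Ptab_s_4425_4427 (c : Nat) : Nat := @Bool.rec (fun _ => Nat) (Ptab_4425) (Ptab_4426) (Nat.ble 4426 c)
noncomputable def Ptab_s_4423_4427 (c : Nat) : Nat := @Bool.rec (fun _ => Nat) (Ptab_s_4423_4425 c) (Ptab_s_4425_4427 c) (Nat.ble 4425 c)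
noncomputable def Ptab_s_4420_4427 (c : Nat) : Nat := @Bool.rec (fun _ => Nat) (Ptab_s_4420_4423 c) (Ptab_s_4423_4427 c) (Nat.ble 4423 c)
noncomputable def Ptab_s_4427_4429 (c : Nat) : Nat := @Bool.rec (fun _ => Nat) (Ptab_4427) (Ptab_4428) (Nat.ble 4428 c)
noncomputable def Ptab_s_4429_4431 (c : Nat) : Nat := @Bool.rec (fun _ => Nat) (Ptab_4429) (Ptab_4430) (Nat.ble 4430 c)
noncomputable def Ptab_s_4427_4431 (c : Nat) : Nat := @Bool.rec (fun _ => Nat) (Ptab_s_4427_4429 c) (Ptab_s_4429_4431 c) (Nat.ble 4429 c)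
noncomputable def Ptab_s_4431_4433 (c : Nat) : Nat := @Bool.rec (fun _ => Nat) (Ptab_4431) (Ptab_4432) (Nat.ble 4432 c)
noncomputable def Ptab_s_4433_4435 (c : Nat) : Nat := @Bool.rec (fun _ => Nat) (Ptab_4433) (Ptab_4434) (Nat.ble 4434 c)
noncomputable def Ptab_s_4431_4435 (c : Nat) : Nat := @Bool.rec (fun _ => Nat) (Ptab_s_4431_4433 c) (Ptab_s_4433_4435 c) (Nat.ble 4433 c)
noncomputable def Ptab_s_4427_4435 (c : Nat) : Nat := @Bool.rec (fun _ => Nat) (Ptab_s_4427_4431 c) (Ptab_s_4431_4435 c) (Nat.ble 4431 c)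
noncomputable def Ptab_s_4420_4435 (c : Nat) : Nat := @Bool.rec (fun _ => Nat) (Ptab_s_4420_4427 c) (Ptab_s_4427_4435 c) (Nat.ble 4427 c)
noncomputable def Ptab_s_4405_4435 (c : Nat) : Nat := @Bool.rec (fun _ => Nat) (Ptab_s_4405_4420 c) (Ptab_s_4420_4435 c) (Nat.ble 4420 c)
noncomputable def Ptab_s_4436_4438 (c : Nat) : Nat := @Bool.rec (fun _ => Nat) (Ptab_4436) (Ptab_4437) (Nat.ble 4437 c)
noncomputable def Ptab_s_4435_4438 (c : Nat) : Nat := @Bool.rec (fun _ => Nat) (Ptab_4435) (Ptab_s_4436_4438 c) (Nat.ble 4436 c)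
noncomputable def Ptab_s_4438_4440 (c : Nat) : Nat := @Bool.rec (fun _ => Nat) (Ptab_4438) (Ptab_4439) (Nat.ble 4439 c)
noncomputable def Ptab_s_4440_4442 (c : Nat) : Nat := @Bool.rec (fun _ => Nat) (Ptab_4440) (Ptab_4441) (Nat.ble 4441 c)
noncomputable def Ptab_s_4438_4442 (c : Nat) : Nat := @Bool.rec (fun _ => Nat) (Ptab_s_4438_4440 c) (Ptab_s_4440_4442 c) (Nat.ble 4440 c)
noncomputable def Ptab_s_4435_4442 (c : Nat) : Nat := @Bool.rec (fun _ => Nat) (Ptab_s_4435_4438 c) (Ptab_s_4438_4442 c) (Nat.ble 4438 c)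
noncomputable def Ptab_s_4442_4444 (c : Nat) : Nat := @Bool.rec (fun _ => Nat) (Ptab_4442) (Ptab_4443) (Nat.ble 4443 c)
noncomputable def Ptab_s_4444_4446 (c : Nat) : Nat := @Bool.rec (fun _ => Nat) (Ptab_4444) (Ptab_4445) (Nat.ble 4445 c)
noncomputable def Ptab_s_4442_4446 (c : Nat) : Nat := @Bool.rec (fun _ => Nat) (Ptab_s_4442_4444 c) (Ptab_s_4444_4446 c) (Nat.ble 4444 c)
noncomputable def Ptab_s_4446_4448 (c : Nat) : Nat := @Bool.rec (fun _ => Nat) (Ptab_4446) (Ptab_4447) (Nat.ble 4447 c)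
noncomputable def Ptab_s_4448_4450 (c : Nat) : Nat := @Bool.rec (fun _ => Nat) (Ptab_4448) (Ptab_4449) (Nat.ble 4449 c)
noncomputable def Ptab_s_4446_4450 (c : Nat) : Nat := @Bool.rec (fun _ => Nat) (Ptab_s_4446_4448 c) (Ptab_s_4448_4450 c) (Nat.ble 4448 c)
noncomputable def Ptab_s_4442_4450 (c : Nat) : Nat := @Bool.rec (fun _ => Nat) (Ptab_s_4442_4446 c) (Ptab_s_4446_4450 c) (Nat.ble 4446 c)
noncomputable def Ptab_s_4435_4450 (c : Nat) : Nat := @Bool.rec (fun _ => Nat) (Ptab_s_4435_4442 c) (Ptab_s_4442_4450 c) (Nat.ble 4442 c)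
noncomputable def Ptab_s_4450_4452 (c : Nat) : Nat := @Bool.rec (fun _ => Nat) (Ptab_4450) (Ptab_4451) (Nat.ble 4451 c)
noncomputable def Ptab_s_4452_4454 (c : Nat) : Nat := @Bool.rec (fun _ => Nat) (Ptab_4452) (Ptab_4453) (Nat.ble 4453 c)
noncomputable def Ptab_s_4450_4454 (c : Nat) : Nat := @Bool.rec (fun _ => Nat) (Ptab_s_4450_4452 c) (Ptab_s_4452_4454 c) (Nat.ble 4452 c)
noncomputable def Ptab_s_4454_4456 (c : Nat) : Nat := @Bool.rec (fun _ => Nat) (Ptab_4454) (Ptab_4455) (Nat.ble 4455 c)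
noncomputable def Ptab_s_4456_4458 (c : Nat) : Nat := @Bool.rec (fun _ => Nat) (Ptab_4456) (Ptab_4457) (Nat.ble 4457 c)
noncomputable def Ptab_s_4454_4458 (c : Nat) : Nat := @Bool.rec (fun _ => Nat) (Ptab_s_4454_4456 c) (Ptab_s_4456_4458 c) (Nat.ble 4456 c)
noncomputable def Ptab_s_4450_4458 (c : Nat) : Nat := @Bool.rec (fun _ => Nat) (Ptab_s_4450_4454 c) (Ptab_s_4454_4458 c) (Nat.ble 4454 c)
noncomputable def Ptab_s_4458_4460 (c : Nat) : Nat := @Bool.rec (fun _ => Nat) (Ptab_4458) (Ptab_4459) (Nat.ble 4459 c)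
noncomputable def Ptab_s_4460_4462 (c : Nat) : Nat := @Bool.rec (fun _ => Nat) (Ptab_4460) (Ptab_4461) (Nat.ble 4461 c)
noncomputable def Ptab_s_4458_4462 (c : Nat) : Nat := @Bool.rec (fun _ => Nat) (Ptab_s_4458_4460 c) (Ptab_s_4460_4462 c) (Nat.ble 4460 c)
noncomputable def Ptab_s_4462_4464 (c : Nat) : Nat := @Bool.rec (fun _ => Nat) (Ptab_4462) (Ptab_4463) (Nat.ble 4463 c)
noncomputable def Ptab_s_4464_4466 (c : Nat) : Nat := @Bool.rec (fun _ => Nat) (Ptab_4464) (Ptab_4465) (Nat.ble 4465 c)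
noncomputable def Ptab_s_4462_4466 (c : Nat) : Nat := @Bool.rec (fun _ => Nat) (Ptab_s_4462_4464 c) (Ptab_s_4464_4466 c) (Nat.ble 4464 c)
noncomputable def Ptab_s_4458_4466 (c : Nat) : Nat := @Bool.rec (fun _ => Nat) (Ptab_s_4458_4462 c) (Ptab_s_4462_4466 c) (Nat.ble 4462 c)
noncomputable def Ptab_s_4450_4466 (c : Nat) : Nat := @Bool.rec (fun _ => Nat) (Ptab_s_4450_4458 c) (Ptab_s_4458_4466 c) (Nat.ble 4458 c)
noncomputable def Ptab_s_4435_4466 (c : Nat) : Nat := @Bool.rec (fun _ => Nat) (Ptab_s_4435_4450 c) (Ptab_s_4450_4466 c) (Nat.ble 4450 c)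
noncomputable def Ptab_s_4405_4466 (c : Nat) : Nat := @Bool.rec (fun _ => Nat) (Ptab_s_4405_4435 c) (Ptab_s_4435_4466 c) (Nat.ble 4435 c)
noncomputable def Ptab_s_4467_4469 (c : Nat) : Nat := @Bool.rec (fun _ => Nat) (Ptab_4467) (Ptab_4468) (Nat.ble 4468 c)
noncomputable def Ptab_s_4466_4469 (c : Nat) : Nat := @Bool.rec (fun _ => Nat) (Ptab_4466) (Ptab_s_4467_4469 c) (Nat.ble 4467 c)
noncomputable def Ptab_s_4469_4471 (c : Nat) : Nat := @Bool.rec (fun _ => Nat) (Ptab_4469) (Ptab_4470) (Nat.ble 4470 c)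
noncomputable def Ptab_s_4471_4473 (c : Nat) : Nat := @Bool.rec (fun _ => Nat) (Ptab_4471) (Ptab_4472) (Nat.ble 4472 c)
noncomputable def Ptab_s_4469_4473 (c : Nat) : Nat := @Bool.rec (fun _ => Nat) (Ptab_s_4469_4471 c) (Ptab_s_4471_4473 c) (Nat.ble 4471 c)
noncomputable def Ptab_s_4466_4473 (c : Nat) : Nat := @Bool.rec (fun _ => Nat) (Ptab_s_4466_4469 c) (Ptab_s_4469_4473 c) (Nat.ble 4469 c)
noncomputable def Ptab_s_4473_4475 (c : Nat) : Nat := @Bool.rec (fun _ => Nat) (Ptab_4473) (Ptab_4474) (Nat.ble 4474 c)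
noncomputable def Ptab_s_4475_4477 (c : Nat) : Nat := @Bool.rec (fun _ => Nat) (Ptab_4475) (Ptab_4476) (Nat.ble 4476 c)
noncomputable def Ptab_s_4473_4477 (c : Nat) : Nat := @Bool.rec (fun _ => Nat) (Ptab_s_4473_4475 c) (Ptab_s_4475_4477 c) (Nat.ble 4475 c)
noncomputable def Ptab_s_4477_4479 (c : Nat) : Nat := @Bool.rec (fun _ => Nat) (Ptab_4477) (Ptab_4478) (Nat.ble 4478 c)
noncomputable def Ptab_s_4479_4481 (c : Nat) : Nat := @Bool.rec (fun _ => Nat) (Ptab_4479) (Ptab_4480) (Nat.ble 4480 c)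
noncomputable def Ptab_s_4477_4481 (c : Nat) : Nat := @Bool.rec (fun _ => Nat) (Ptab_s_4477_4479 c) (Ptab_s_4479_4481 c) (Nat.ble 4479 c)
noncomputable def Ptab_s_4473_4481 (c : Nat) : Nat := @Bool.rec (fun _ => Nat) (Ptab_s_4473_4477 c) (Ptab_s_4477_4481 c) (Nat.ble 4477 c)
noncomputable def Ptab_s_4466_4481 (c : Nat) : Nat := @Bool.rec (fun _ => Nat) (Ptab_s_4466_4473 c) (Ptab_s_4473_4481 c) (Nat.ble 4473 c)
noncomputable def Ptab_s_4482_4484 (c : Nat) : Nat := @Bool.rec (fun _ => Nat) (Ptab_4482) (Ptab_4483) (Nat.ble 4483 c)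
noncomputable def Ptab_s_4481_4484 (c : Nat) : Nat := @Bool.rec (fun _ => Nat) (Ptab_4481) (Ptab_s_4482_4484 c) (Nat.ble 4482 c)
noncomputable def Ptab_s_4484_4486 (c : Nat) : Nat := @Bool.rec (fun _ => Nat) (Ptab_4484) (Ptab_4485) (Nat.ble 4485 c)
noncomputable def Ptab_s_4486_4488 (c : Nat) : Nat := @Bool.rec (fun _ => Nat) (Ptab_4486) (Ptab_4487) (Nat.ble 4487 c)
noncomputable def Ptab_s_4484_4488 (c : Nat) : Nat := @Bool.rec (fun _ => Nat) (Ptab_s_4484_4486 c) (Ptab_s_4486_4488 c) (Nat.ble 4486 c)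
noncomputable def Ptab_s_4481_4488 (c : Nat) : Nat := @Bool.rec (fun _ => Nat) (Ptab_s_4481_4484 c) (Ptab_s_4484_4488 c) (Nat.ble 4484 c)
noncomputable def Ptab_s_4488_4490 (c : Nat) : Nat := @Bool.rec (fun _ => Nat) (Ptab_4488) (Ptab_4489) (Nat.ble 4489 c)
noncomputable def Ptab_s_4490_4492 (c : Nat) : Nat := @Bool.rec (fun _ => Nat) (Ptab_4490) (Ptab_4491) (Nat.ble 4491 c)
noncomputable def Ptab_s_4488_4492 (c : Nat) : Nat := @Bool.rec (fun _ => Nat) (Ptab_s_4488_4490 c) (Ptab_s_4490_4492 c) (Nat.ble 4490 c)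
noncomputable def Ptab_s_4492_4494 (c : Nat) : Nat := @Bool.rec (fun _ => Nat) (Ptab_4492) (Ptab_4493) (Nat.ble 4493 c)
noncomputable def Ptab_s_4494_4496 (c : Nat) : Nat := @Bool.rec (fun _ => Nat) (Ptab_4494) (Ptab_4495) (Nat.ble 4495 c)
noncomputable def Ptab_s_4492_4496 (c : Nat) : Nat := @Bool.rec (fun _ => Nat) (Ptab_s_4492_4494 c) (Ptab_s_4494_4496 c) (Nat.ble 4494 c)
noncomputable def Ptab_s_4488_4496 (c : Nat) : Nat := @Bool.rec (fun _ => Nat) (Ptab_s_4488_4492 c) (Ptab_s_4492_4496 c) (Nat.ble 4492 c)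
noncomputable def Ptab_s_4481_4496 (c : Nat) : Nat := @Bool.rec (fun _ => Nat) (Ptab_s_4481_4488 c) (Ptab_s_4488_4496 c) (Nat.ble 4488 c)
noncomputable def Ptab_s_4466_4496 (c : Nat) : Nat := @Bool.rec (fun _ => Nat) (Ptab_s_4466_4481 c) (Ptab_s_4481_4496 c) (Nat.ble 4481 c)
noncomputable def Ptab_s_4497_4499 (c : Nat) : Nat := @Bool.rec (fun _ => Nat) (Ptab_4497) (Ptab_4498) (Nat.ble 4498 c)
noncomputable def Ptab_s_4496_4499 (c : Nat) : Nat := @Bool.rec (fun _ => Nat) (Ptab_4496) (Ptab_s_4497_4499 c) (Nat.ble 4497 c)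
noncomputable def Ptab_s_4499_4501 (c : Nat) : Nat := @Bool.rec (fun _ => Nat) (Ptab_4499) (Ptab_4500) (Nat.ble 4500 c)
noncomputable def Ptab_s_4501_4503 (c : Nat) : Nat := @Bool.rec (fun _ => Nat) (Ptab_4501) (Ptab_4502) (Nat.ble 4502 c)
noncomputable def Ptab_s_4499_4503 (c : Nat) : Nat := @Bool.rec (fun _ => Nat) (Ptab_s_4499_4501 c) (Ptab_s_4501_4503 c) (Nat.ble 4501 c)
noncomputable def Ptab_s_4496_4503 (c : Nat) : Nat := @Bool.rec (fun _ => Nat) (Ptab_s_4496_4499 c) (Ptab_s_4499_4503 c) (Nat.ble 4499 c)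
noncomputable def Ptab_s_4503_4505 (c : Nat) : Nat := @Bool.rec (fun _ => Nat) (Ptab_4503) (Ptab_4504) (Nat.ble 4504 c)
noncomputable def Ptab_s_4505_4507 (c : Nat) : Nat := @Bool.rec (fun _ => Nat) (Ptab_4505) (Ptab_4506) (Nat.ble 4506 c)
noncomputable def Ptab_s_4503_4507 (c : Nat) : Nat := @Bool.rec (fun _ => Nat) (Ptab_s_4503_4505 c) (Ptab_s_4505_4507 c) (Nat.ble 4505 c)
noncomputable def Ptab_s_4507_4509 (c : Nat) : Nat := @Bool.rec (fun _ => Nat) (Ptab_4507) (Ptab_4508) (Nat.ble 4508 c)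
noncomputable def Ptab_s_4509_4511 (c : Nat) : Nat := @Bool.rec (fun _ => Nat) (Ptab_4509) (Ptab_4510) (Nat.ble 4510 c)
noncomputable def Ptab_s_4507_4511 (c : Nat) : Nat := @Bool.rec (fun _ => Nat) (Ptab_s_4507_4509 c) (Ptab_s_4509_4511 c) (Nat.ble 4509 c)
noncomputable def Ptab_s_4503_4511 (c : Nat) : Nat := @Bool.rec (fun _ => Nat) (Ptab_s_4503_4507 c) (Ptab_s_4507_4511 c) (Nat.ble 4507 c)
noncomputable def Ptab_s_4496_4511 (c : Nat) : Nat := @Bool.rec (fun _ => Nat) (Ptab_s_4496_4503 c) (Ptab_s_4503_4511 c) (Nat.ble 4503 c)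
noncomputable def Ptab_s_4511_4513 (c : Nat) : Nat := @Bool.rec (fun _ => Nat) (Ptab_4511) (Ptab_4512) (Nat.ble 4512 c)
noncomputable def Ptab_s_4513_4515 (c : Nat) : Nat := @Bool.rec (fun _ => Nat) (Ptab_4513) (Ptab_4514) (Nat.ble 4514 c)
noncomputable def Ptab_s_4511_4515 (c : Nat) : Nat := @Bool.rec (fun _ => Nat) (Ptab_s_4511_4513 c) (Ptab_s_4513_4515 c) (Nat.ble 4513 c)
noncomputable def Ptab_s_4515_4517 (c : Nat) : Nat := @Bool.rec (fun _ => Nat) (Ptab_4515) (Ptab_4516) (Nat.ble 4516 c)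
noncomputable def Ptab_s_4517_4519 (c : Nat) : Nat := @Bool.rec (fun _ => Nat) (Ptab_4517) (Ptab_4518) (Nat.ble 4518 c)
noncomputable def Ptab_s_4515_4519 (c : Nat) : Nat := @Bool.rec (fun _ => Nat) (Ptab_s_4515_4517 c) (Ptab_s_4517_4519 c) (Nat.ble 4517 c)
noncomputable def Ptab_s_4511_4519 (c : Nat) : Nat := @Bool.rec (fun _ => Nat) (Ptab_s_4511_4515 c) (Ptab_s_4515_4519 c) (Nat.ble 4515 c)
noncomputable def Ptab_s_4519_4521 (c : Nat) : Nat := @Bool.rec (fun _ => Nat) (Ptab_4519) (Ptab_4520) (Nat.ble 4520 c)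
noncomputable def Ptab_s_4521_4523 (c : Nat) : Nat := @Bool.rec (fun _ => Nat) (Ptab_4521) (Ptab_4522) (Nat.ble 4522 c)
noncomputable def Ptab_s_4519_4523 (c : Nat) : Nat := @Bool.rec (fun _ => Nat) (Ptab_s_4519_4521 c) (Ptab_s_4521_4523 c) (Nat.ble 4521 c)
noncomputable def Ptab_s_4523_4525 (c : Nat) : Nat := @Bool.rec (fun _ => Nat) (Ptab_4523) (Ptab_4524) (Nat.ble 4524 c)
noncomputable def Ptab_s_4525_4527 (c : Nat) : Nat := @Bool.rec (fun _ => Nat) (Ptab_4525) (Ptab_4526) (Nat.ble 4526 c)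
noncomputable def Ptab_s_4523_4527 (c : Nat) : Nat := @Bool.rec (fun _ => Nat) (Ptab_s_4523_4525 c) (Ptab_s_4525_4527 c) (Nat.ble 4525 c)
noncomputable def Ptab_s_4519_4527 (c : Nat) : Nat := @Bool.rec (fun _ => Nat) (Ptab_s_4519_4523 c) (Ptab_s_4523_4527 c) (Nat.ble 4523 c)
noncomputable def Ptab_s_4511_4527 (c : Nat) : Nat := @Bool.rec (fun _ => Nat) (Ptab_s_4511_4519 c) (Ptab_s_4519_4527 c) (Nat.ble 4519 c)
noncomputable def Ptab_s_4496_4527 (c : Nat) : Nat := @Bool.rec (fun _ => Nat) (Ptab_s_4496_4511 c) (Ptab_s_4511_4527 c) (Nat.ble 4511 c)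
noncomputable def Ptab_s_4466_4527 (c : Nat) : Nat := @Bool.rec (fun _ => Nat) (Ptab_s_4466_4496 c) (Ptab_s_4496_4527 c) (Nat.ble 4496 c)
noncomputable def Ptab_s_4405_4527 (c : Nat) : Nat := @Bool.rec (fun _ => Nat) (Ptab_s_4405_4466 c) (Ptab_s_4466_4527 c) (Nat.ble 4466 c)
noncomputable def Ptab_s_4528_4530 (c : Nat) : Nat := @Bool.rec (fun _ => Nat) (Ptab_4528) (Ptab_4529) (Nat.ble 4529 c)
noncomputable def Ptab_s_4527_4530 (c : Nat) : Nat := @Bool.rec (fun _ => Nat) (Ptab_4527) (Ptab_s_4528_4530 c) (Nat.ble 4528 c)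
noncomputable def Ptab_s_4530_4532 (c : Nat) : Nat := @Bool.rec (fun _ => Nat) (Ptab_4530) (Ptab_4531) (Nat.ble 4531 c)
noncomputable def Ptab_s_4532_4534 (c : Nat) : Nat := @Bool.rec (fun _ => Nat) (Ptab_4532) (Ptab_4533) (Nat.ble 4533 c)
noncomputable def Ptab_s_4530_4534 (c : Nat) : Nat := @Bool.rec (fun _ => Nat) (Ptab_s_4530_4532 c) (Ptab_s_4532_4534 c) (Nat.ble 4532 c)
noncomputable def Ptab_s_4527_4534 (c : Nat) : Nat := @Bool.rec (fun _ => Nat) (Ptab_s_4527_4530 c) (Ptab_s_4530_4534 c) (Nat.ble 4530 c)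
noncomputable def Ptab_s_4534_4536 (c : Nat) : Nat := @Bool.rec (fun _ => Nat) (Ptab_4534) (Ptab_4535) (Nat.ble 4535 c)
noncomputable def Ptab_s_4536_4538 (c : Nat) : Nat := @Bool.rec (fun _ => Nat) (Ptab_4536) (Ptab_4537) (Nat.ble 4537 c)
noncomputable def Ptab_s_4534_4538 (c : Nat) : Nat := @Bool.rec (fun _ => Nat) (Ptab_s_4534_4536 c) (Ptab_s_4536_4538 c) (Nat.ble 4536 c)
noncomputable def Ptab_s_4538_4540 (c : Nat) : Nat := @Bool.rec (fun _ => Nat) (Ptab_4538) (Ptab_4539) (Nat.ble 4539 c)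
noncomputable def Ptab_s_4540_4542 (c : Nat) : Nat := @Bool.rec (fun _ => Nat) (Ptab_4540) (Ptab_4541) (Nat.ble 4541 c)
noncomputable def Ptab_s_4538_4542 (c : Nat) : Nat := @Bool.rec (fun _ => Nat) (Ptab_s_4538_4540 c) (Ptab_s_4540_4542 c) (Nat.ble 4540 c)
noncomputable def Ptab_s_4534_4542 (c : Nat) : Nat := @Bool.rec (fun _ => Nat) (Ptab_s_4534_4538 c) (Ptab_s_4538_4542 c) (Nat.ble 4538 c)
noncomputable def Ptab_s_4527_4542 (c : Nat) : Nat := @Bool.rec (fun _ => Nat) (Ptab_s_4527_4534 c) (Ptab_s_4534_4542 c) (Nat.ble 4534 c)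
noncomputable def Ptab_s_4543_4545 (c : Nat) : Nat := @Bool.rec (fun _ => Nat) (Ptab_4543) (Ptab_4544) (Nat.ble 4544 c)
noncomputable def Ptab_s_4542_4545 (c : Nat) : Nat := @Bool.rec (fun _ => Nat) (Ptab_4542) (Ptab_s_4543_4545 c) (Nat.ble 4543 c)
noncomputable def Ptab_s_4545_4547 (c : Nat) : Nat := @Bool.rec (fun _ => Nat) (Ptab_4545) (Ptab_4546) (Nat.ble 4546 c)
noncomputable def Ptab_s_4547_4549 (c : Nat) : Nat := @Bool.rec (fun _ => Nat) (Ptab_4547) (Ptab_4548) (Nat.ble 4548 c)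
noncomputable def Ptab_s_4545_4549 (c : Nat) : Nat := @Bool.rec (fun _ => Nat) (Ptab_s_4545_4547 c) (Ptab_s_4547_4549 c) (Nat.ble 4547 c)
noncomputable def Ptab_s_4542_4549 (c : Nat) : Nat := @Bool.rec (fun _ => Nat) (Ptab_s_4542_4545 c) (Ptab_s_4545_4549 c) (Nat.ble 4545 c)
noncomputable def Ptab_s_4549_4551 (c : Nat) : Nat := @Bool.rec (fun _ => Nat) (Ptab_4549) (Ptab_4550) (Nat.ble 4550 c)
noncomputable def Ptab_s_4551_4553 (c : Nat) : Nat := @Bool.rec (fun _ => Nat) (Ptab_4551) (Ptab_4552) (Nat.ble 4552 c)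
noncomputable def Ptab_s_4549_4553 (c : Nat) : Nat := @Bool.rec (fun _ => Nat) (Ptab_s_4549_4551 c) (Ptab_s_4551_4553 c) (Nat.ble 4551 c)
noncomputable def Ptab_s_4553_4555 (c : Nat) : Nat := @Bool.rec (fun _ => Nat) (Ptab_4553) (Ptab_4554) (Nat.ble 4554 c)
noncomputable def Ptab_s_4555_4557 (c : Nat) : Nat := @Bool.rec (fun _ => Nat) (Ptab_4555) (Ptab_4556) (Nat.ble 4556 c)
noncomputable def Ptab_s_4553_4557 (c : Nat) : Nat := @Bool.rec (fun _ => Nat) (Ptab_s_4553_4555 c) (Ptab_s_4555_4557 c) (Nat.ble 4555 c)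
noncomputable def Ptab_s_4549_4557 (c : Nat) : Nat := @Bool.rec (fun _ => Nat) (Ptab_s_4549_4553 c) (Ptab_s_4553_4557 c) (Nat.ble 4553 c)
noncomputable def Ptab_s_4542_4557 (c : Nat) : Nat := @Bool.rec (fun _ => Nat) (Ptab_s_4542_4549 c) (Ptab_s_4549_4557 c) (Nat.ble 4549 c)
noncomputable def Ptab_s_4527_4557 (c : Nat) : Nat := @Bool.rec (fun _ => Nat) (Ptab_s_4527_4542 c) (Ptab_s_4542_4557 c) (Nat.ble 4542 c)
noncomputable def Ptab_s_4558_4560 (c : Nat) : Nat := @Bool.rec (fun _ => Nat) (Ptab_4558) (Ptab_4559) (Nat.ble 4559 c)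
noncomputable def Ptab_s_4557_4560 (c : Nat) : Nat := @Bool.rec (fun _ => Nat) (Ptab_4557) (Ptab_s_4558_4560 c) (Nat.ble 4558 c)
noncomputable def Ptab_s_4560_4562 (c : Nat) : Nat := @Bool.rec (fun _ => Nat) (Ptab_4560) (Ptab_4561) (Nat.ble 4561 c)
noncomputable def Ptab_s_4562_4564 (c : Nat) : Nat := @Bool.rec (fun _ => Nat) (Ptab_4562) (Ptab_4563) (Nat.ble 4563 c)
noncomputable def Ptab_s_4560_4564 (c : Nat) : Nat := @Bool.rec (fun _ => Nat) (Ptab_s_4560_4562 c) (Ptab_s_4562_4564 c) (Nat.ble 4562 c)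
noncomputable def Ptab_s_4557_4564 (c : Nat) : Nat := @Bool.rec (fun _ => Nat) (Ptab_s_4557_4560 c) (Ptab_s_4560_4564 c) (Nat.ble 4560 c)
noncomputable def Ptab_s_4564_4566 (c : Nat) : Nat := @Bool.rec (fun _ => Nat) (Ptab_4564) (Ptab_4565) (Nat.ble 4565 c)
noncomputable def Ptab_s_4566_4568 (c : Nat) : Nat := @Bool.rec (fun _ => Nat) (Ptab_4566) (Ptab_4567) (Nat.ble 4567 c)
noncomputable def Ptab_s_4564_4568 (c : Nat) : Nat := @Bool.rec (fun _ => Nat) (Ptab_s_4564_4566 c) (Ptab_s_4566_4568 c) (Nat.ble 4566 c)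
noncomputable def Ptab_s_4568_4570 (c : Nat) : Nat := @Bool.rec (fun _ => Nat) (Ptab_4568) (Ptab_4569) (Nat.ble 4569 c)
noncomputable def Ptab_s_4570_4572 (c : Nat) : Nat := @Bool.rec (fun _ => Nat) (Ptab_4570) (Ptab_4571) (Nat.ble 4571 c)
noncomputable def Ptab_s_4568_4572 (c : Nat) : Nat := @Bool.rec (fun _ => Nat) (Ptab_s_4568_4570 c) (Ptab_s_4570_4572 c) (Nat.ble 4570 c)
noncomputable def Ptab_s_4564_4572 (c : Nat) : Nat := @Bool.rec (fun _ => Nat) (Ptab_s_4564_4568 c) (Ptab_s_4568_4572 c) (Nat.ble 4568 c)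
noncomputable def Ptab_s_4557_4572 (c : Nat) : Nat := @Bool.rec (fun _ => Nat) (Ptab_s_4557_4564 c) (Ptab_s_4564_4572 c) (Nat.ble 4564 c)
noncomputable def Ptab_s_4572_4574 (c : Nat) : Nat := @Bool.rec (fun _ => Nat) (Ptab_4572) (Ptab_4573) (Nat.ble 4573 c)
noncomputable def Ptab_s_4574_4576 (c : Nat) : Nat := @Bool.rec (fun _ => Nat) (Ptab_4574) (Ptab_4575) (Nat.ble 4575 c)
noncomputable def Ptab_s_4572_4576 (c : Nat) : Nat := @Bool.rec (fun _ => Nat) (Ptab_s_4572_4574 c) (Ptab_s_4574_4576 c) (Nat.ble 4574 c)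
noncomputable def Ptab_s_4576_4578 (c : Nat) : Nat := @Bool.rec (fun _ => Nat) (Ptab_4576) (Ptab_4577) (Nat.ble 4577 c)
noncomputable def Ptab_s_4578_4580 (c : Nat) : Nat := @Bool.rec (fun _ => Nat) (Ptab_4578) (Ptab_4579) (Nat.ble 4579 c)
noncomputable def Ptab_s_4576_4580 (c : Nat) : Nat := @Bool.rec (fun _ => Nat) (Ptab_s_4576_4578 c) (Ptab_s_4578_4580 c) (Nat.ble 4578 c)
noncomputable def Ptab_s_4572_4580 (c : Nat) : Nat := @Bool.rec (fun _ => Nat) (Ptab_s_4572_4576 c) (Ptab_s_4576_4580 c) (Nat.ble 4576 c)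
noncomputable def Ptab_s_4580_4582 (c : Nat) : Nat := @Bool.rec (fun _ => Nat) (Ptab_4580) (Ptab_4581) (Nat.ble 4581 c)
noncomputable def Ptab_s_4582_4584 (c : Nat) : Nat := @Bool.rec (fun _ => Nat) (Ptab_4582) (Ptab_4583) (Nat.ble 4583 c)
noncomputable def Ptab_s_4580_4584 (c : Nat) : Nat := @Bool.rec (fun _ => Nat) (Ptab_s_4580_4582 c) (Ptab_s_4582_4584 c) (Nat.ble 4582 c)
noncomputable def Ptab_s_4584_4586 (c : Nat) : Nat := @Bool.rec (fun _ => Nat) (Ptab_4584) (Ptab_4585) (Nat.ble 4585 c)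
noncomputable def Ptab_s_4586_4588 (c : Nat) : Nat := @Bool.rec (fun _ => Nat) (Ptab_4586) (Ptab_4587) (Nat.ble 4587 c)
noncomputable def Ptab_s_4584_4588 (c : Nat) : Nat := @Bool.rec (fun _ => Nat) (Ptab_s_4584_4586 c) (Ptab_s_4586_4588 c) (Nat.ble 4586 c)
noncomputable def Ptab_s_4580_4588 (c : Nat) : Nat := @Bool.rec (fun _ => Nat) (Ptab_s_4580_4584 c) (Ptab_s_4584_4588 c) (Nat.ble 4584 c)
noncomputable def Ptab_s_4572_4588 (c : Nat) : Nat := @Bool.rec (fun _ => Nat) (Ptab_s_4572_4580 c) (Ptab_s_4580_4588 c) (Nat.ble 4580 c)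
noncomputable def Ptab_s_4557_4588 (c : Nat) : Nat := @Bool.rec (fun _ => Nat) (Ptab_s_4557_4572 c) (Ptab_s_4572_4588 c) (Nat.ble 4572 c)
noncomputable def Ptab_s_4527_4588 (c : Nat) : Nat := @Bool.rec (fun _ => Nat) (Ptab_s_4527_4557 c) (Ptab_s_4557_4588 c) (Nat.ble 4557 c)
noncomputable def Ptab_s_4589_4591 (c : Nat) : Nat := @Bool.rec (fun _ => Nat) (Ptab_4589) (Ptab_4590) (Nat.ble 4590 c)
noncomputable def Ptab_s_4588_4591 (c : Nat) : Nat := @Bool.rec (fun _ => Nat) (Ptab_4588) (Ptab_s_4589_4591 c) (Nat.ble 4589 c)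
noncomputable def Ptab_s_4591_4593 (c : Nat) : Nat := @Bool.rec (fun _ => Nat) (Ptab_4591) (Ptab_4592) (Nat.ble 4592 c)
noncomputable def Ptab_s_4593_4595 (c : Nat) : Nat := @Bool.rec (fun _ => Nat) (Ptab_4593) (Ptab_4594) (Nat.ble 4594 c)
noncomputable def Ptab_s_4591_4595 (c : Nat) : Nat := @Bool.rec (fun _ => Nat) (Ptab_s_4591_4593 c) (Ptab_s_4593_4595 c) (Nat.ble 4593 c)
noncomputable def Ptab_s_4588_4595 (c : Nat) : Nat := @Bool.rec (fun _ => Nat) (Ptab_s_4588_4591 c) (Ptab_s_4591_4595 c) (Nat.ble 4591 c)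
noncomputable def Ptab_s_4595_4597 (c : Nat) : Nat := @Bool.rec (fun _ => Nat) (Ptab_4595) (Ptab_4596) (Nat.ble 4596 c)
noncomputable def Ptab_s_4597_4599 (c : Nat) : Nat := @Bool.rec (fun _ => Nat) (Ptab_4597) (Ptab_4598) (Nat.ble 4598 c)
noncomputable def Ptab_s_4595_4599 (c : Nat) : Nat := @Bool.rec (fun _ => Nat) (Ptab_s_4595_4597 c) (Ptab_s_4597_4599 c) (Nat.ble 4597 c)
noncomputable def Ptab_s_4599_4601 (c : Nat) : Nat := @Bool.rec (fun _ => Nat) (Ptab_4599) (Ptab_4600) (Nat.ble 4600 c)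
noncomputable def Ptab_s_4601_4603 (c : Nat) : Nat := @Bool.rec (fun _ => Nat) (Ptab_4601) (Ptab_4602) (Nat.ble 4602 c)
noncomputable def Ptab_s_4599_4603 (c : Nat) : Nat := @Bool.rec (fun _ => Nat) (Ptab_s_4599_4601 c) (Ptab_s_4601_4603 c) (Nat.ble 4601 c)
noncomputable def Ptab_s_4595_4603 (c : Nat) : Nat := @Bool.rec (fun _ => Nat) (Ptab_s_4595_4599 c) (Ptab_s_4599_4603 c) (Nat.ble 4599 c)
noncomputable def Ptab_s_4588_4603 (c : Nat) : Nat := @Bool.rec (fun _ => Nat) (Ptab_s_4588_4595 c) (Ptab_s_4595_4603 c) (Nat.ble 4595 c)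
noncomputable def Ptab_s_4603_4605 (c : Nat) : Nat := @Bool.rec (fun _ => Nat) (Ptab_4603) (Ptab_4604) (Nat.ble 4604 c)
noncomputable def Ptab_s_4605_4607 (c : Nat) : Nat := @Bool.rec (fun _ => Nat) (Ptab_4605) (Ptab_4606) (Nat.ble 4606 c)
noncomputable def Ptab_s_4603_4607 (c : Nat) : Nat := @Bool.rec (fun _ => Nat) (Ptab_s_4603_4605 c) (Ptab_s_4605_4607 c) (Nat.ble 4605 c)
noncomputable def Ptab_s_4607_4609 (c : Nat) : Nat := @Bool.rec (fun _ => Nat) (Ptab_4607) (Ptab_4608) (Nat.ble 4608 c)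
noncomputable def Ptab_s_4609_4611 (c : Nat) : Nat := @Bool.rec (fun _ => Nat) (Ptab_4609) (Ptab_4610) (Nat.ble 4610 c)
noncomputable def Ptab_s_4607_4611 (c : Nat) : Nat := @Bool.rec (fun _ => Nat) (Ptab_s_4607_4609 c) (Ptab_s_4609_4611 c) (Nat.ble 4609 c)
noncomputable def Ptab_s_4603_4611 (c : Nat) : Nat := @Bool.rec (fun _ => Nat) (Ptab_s_4603_4607 c) (Ptab_s_4607_4611 c) (Nat.ble 4607 c)
noncomputable def Ptab_s_4611_4613 (c : Nat) : Nat := @Bool.rec (fun _ => Nat) (Ptab_4611) (Ptab_4612) (Nat.ble 4612 c)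
noncomputable def Ptab_s_4613_4615 (c : Nat) : Nat := @Bool.rec (fun _ => Nat) (Ptab_4613) (Ptab_4614) (Nat.ble 4614 c)
noncomputable def Ptab_s_4611_4615 (c : Nat) : Nat := @Bool.rec (fun _ => Nat) (Ptab_s_4611_4613 c) (Ptab_s_4613_4615 c) (Nat.ble 4613 c)
noncomputable def Ptab_s_4615_4617 (c : Nat) : Nat := @Bool.rec (fun _ => Nat) (Ptab_4615) (Ptab_4616) (Nat.ble 4616 c)
noncomputable def Ptab_s_4617_4619 (c : Nat) : Nat := @Bool.rec (fun _ => Nat) (Ptab_4617) (Ptab_4618) (Nat.ble 4618 c)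
noncomputable def Ptab_s_4615_4619 (c : Nat) : Nat := @Bool.rec (fun _ => Nat) (Ptab_s_4615_4617 c) (Ptab_s_4617_4619 c) (Nat.ble 4617 c)
noncomputable def Ptab_s_4611_4619 (c : Nat) : Nat := @Bool.rec (fun _ => Nat) (Ptab_s_4611_4615 c) (Ptab_s_4615_4619 c) (Nat.ble 4615 c)
noncomputable def Ptab_s_4603_4619 (c : Nat) : Nat := @Bool.rec (fun _ => Nat) (Ptab_s_4603_4611 c) (Ptab_s_4611_4619 c) (Nat.ble 4611 c)
noncomputable def Ptab_s_4588_4619 (c : Nat) : Nat := @Bool.rec (fun _ => Nat) (Ptab_s_4588_4603 c) (Ptab_s_4603_4619 c) (Nat.ble 4603 c)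
noncomputable def Ptab_s_4620_4622 (c : Nat) : Nat := @Bool.rec (fun _ => Nat) (Ptab_4620) (Ptab_4621) (Nat.ble 4621 c)
noncomputable def Ptab_s_4619_4622 (c : Nat) : Nat := @Bool.rec (fun _ => Nat) (Ptab_4619) (Ptab_s_4620_4622 c) (Nat.ble 4620 c)
noncomputable def Ptab_s_4622_4624 (c : Nat) : Nat := @Bool.rec (fun _ => Nat) (Ptab_4622) (Ptab_4623) (Nat.ble 4623 c)
noncomputable def Ptab_s_4624_4626 (c : Nat) : Nat := @Bool.rec (fun _ => Nat) (Ptab_4624) (Ptab_4625) (Nat.ble 4625 c)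
noncomputable def Ptab_s_4622_4626 (c : Nat) : Nat := @Bool.rec (fun _ => Nat) (Ptab_s_4622_4624 c) (Ptab_s_4624_4626 c) (Nat.ble 4624 c)
noncomputable def Ptab_s_4619_4626 (c : Nat) : Nat := @Bool.rec (fun _ => Nat) (Ptab_s_4619_4622 c) (Ptab_s_4622_4626 c) (Nat.ble 4622 c)
noncomputable def Ptab_s_4626_4628 (c : Nat) : Nat := @Bool.rec (fun _ => Nat) (Ptab_4626) (Ptab_4627) (Nat.ble 4627 c)
noncomputable def Ptab_s_4628_4630 (c : Nat) : Nat := @Bool.rec (fun _ => Nat) (Ptab_4628) (Ptab_4629) (Nat.ble 4629 c)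
noncomputable def Ptab_s_4626_4630 (c : Nat) : Nat := @Bool.rec (fun _ => Nat) (Ptab_s_4626_4628 c) (Ptab_s_4628_4630 c) (Nat.ble 4628 c)
noncomputable def Ptab_s_4630_4632 (c : Nat) : Nat := @Bool.rec (fun _ => Nat) (Ptab_4630) (Ptab_4631) (Nat.ble 4631 c)
noncomputable def Ptab_s_4632_4634 (c : Nat) : Nat := @Bool.rec (fun _ => Nat) (Ptab_4632) (Ptab_4633) (Nat.ble 4633 c)
noncomputable def Ptab_s_4630_4634 (c : Nat) : Nat := @Bool.rec (fun _ => Nat) (Ptab_s_4630_4632 c) (Ptab_s_4632_4634 c) (Nat.ble 4632 c)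
noncomputable def Ptab_s_4626_4634 (c : Nat) : Nat := @Bool.rec (fun _ => Nat) (Ptab_s_4626_4630 c) (Ptab_s_4630_4634 c) (Nat.ble 4630 c)
noncomputable def Ptab_s_4619_4634 (c : Nat) : Nat := @Bool.rec (fun _ => Nat) (Ptab_s_4619_4626 c) (Ptab_s_4626_4634 c) (Nat.ble 4626 c)
noncomputable def Ptab_s_4634_4636 (c : Nat) : Nat := @Bool.rec (fun _ => Nat) (Ptab_4634) (Ptab_4635) (Nat.ble 4635 c)
noncomputable def Ptab_s_4636_4638 (c : Nat) : Nat := @Bool.rec (fun _ => Nat) (Ptab_4636) (Ptab_4637) (Nat.ble 4637 c)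
noncomputable def Ptab_s_4634_4638 (c : Nat) : Nat := @Bool.rec (fun _ => Nat) (Ptab_s_4634_4636 c) (Ptab_s_4636_4638 c) (Nat.ble 4636 c)
noncomputable def Ptab_s_4638_4640 (c : Nat) : Nat := @Bool.rec (fun _ => Nat) (Ptab_4638) (Ptab_4639) (Nat.ble 4639 c)
noncomputable def Ptab_s_4640_4642 (c : Nat) : Nat := @Bool.rec (fun _ => Nat) (Ptab_4640) (Ptab_4641) (Nat.ble 4641 c)
noncomputable def Ptab_s_4638_4642 (c : Nat) : Nat := @Bool.rec (fun _ => Nat) (Ptab_s_4638_4640 c) (Ptab_s_4640_4642 c) (Nat.ble 4640 c)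
noncomputable def Ptab_s_4634_4642 (c : Nat) : Nat := @Bool.rec (fun _ => Nat) (Ptab_s_4634_4638 c) (Ptab_s_4638_4642 c) (Nat.ble 4638 c)
noncomputable def Ptab_s_4642_4644 (c : Nat) : Nat := @Bool.rec (fun _ => Nat) (Ptab_4642) (Ptab_4643) (Nat.ble 4643 c)
noncomputable def Ptab_s_4644_4646 (c : Nat) : Nat := @Bool.rec (fun _ => Nat) (Ptab_4644) (Ptab_4645) (Nat.ble 4645 c)
noncomputable def Ptab_s_4642_4646 (c : Nat) : Nat := @Bool.rec (fun _ => Nat) (Ptab_s_4642_4644 c) (Ptab_s_4644_4646 c) (Nat.ble 4644 c)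
noncomputable def Ptab_s_4646_4648 (c : Nat) : Nat := @Bool.rec (fun _ => Nat) (Ptab_4646) (Ptab_4647) (Nat.ble 4647 c)
noncomputable def Ptab_s_4648_4650 (c : Nat) : Nat := @Bool.rec (fun _ => Nat) (Ptab_4648) (Ptab_4649) (Nat.ble 4649 c)
noncomputable def Ptab_s_4646_4650 (c : Nat) : Nat := @Bool.rec (fun _ => Nat) (Ptab_s_4646_4648 c) (Ptab_s_4648_4650 c) (Nat.ble 4648 c)
noncomputable def Ptab_s_4642_4650 (c : Nat) : Nat := @Bool.rec (fun _ => Nat) (Ptab_s_4642_4646 c) (Ptab_s_4646_4650 c) (Nat.ble 4646 c)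
noncomputable def Ptab_s_4634_4650 (c : Nat) : Nat := @Bool.rec (fun _ => Nat) (Ptab_s_4634_4642 c) (Ptab_s_4642_4650 c) (Nat.ble 4642 c)
noncomputable def Ptab_s_4619_4650 (c : Nat) : Nat := @Bool.rec (fun _ => Nat) (Ptab_s_4619_4634 c) (Ptab_s_4634_4650 c) (Nat.ble 4634 c)
noncomputable def Ptab_s_4588_4650 (c : Nat) : Nat := @Bool.rec (fun _ => Nat) (Ptab_s_4588_4619 c) (Ptab_s_4619_4650 c) (Nat.ble 4619 c)
noncomputable def Ptab_s_4527_4650 (c : Nat) : Nat := @Bool.rec (fun _ => Nat) (Ptab_s_4527_4588 c) (Ptab_s_4588_4650 c) (Nat.ble 4588 c)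
noncomputable def Ptab_s_4405_4650 (c : Nat) : Nat := @Bool.rec (fun _ => Nat) (Ptab_s_4405_4527 c) (Ptab_s_4527_4650 c) (Nat.ble 4527 c)
noncomputable def Ptab_s_4651_4653 (c : Nat) : Nat := @Bool.rec (fun _ => Nat) (Ptab_4651) (Ptab_4652) (Nat.ble 4652 c)
noncomputable def Ptab_s_4650_4653 (c : Nat) : Nat := @Bool.rec (fun _ => Nat) (Ptab_4650) (Ptab_s_4651_4653 c) (Nat.ble 4651 c)
noncomputable def Ptab_s_4653_4655 (c : Nat) : Nat := @Bool.rec (fun _ => Nat) (Ptab_4653) (Ptab_4654) (Nat.ble 4654 c)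
noncomputable def Ptab_s_4655_4657 (c : Nat) : Nat := @Bool.rec (fun _ => Nat) (Ptab_4655) (Ptab_4656) (Nat.ble 4656 c)
noncomputable def Ptab_s_4653_4657 (c : Nat) : Nat := @Bool.rec (fun _ => Nat) (Ptab_s_4653_4655 c) (Ptab_s_4655_4657 c) (Nat.ble 4655 c)
noncomputable def Ptab_s_4650_4657 (c : Nat) : Nat := @Bool.rec (fun _ => Nat) (Ptab_s_4650_4653 c) (Ptab_s_4653_4657 c) (Nat.ble 4653 c)
noncomputable def Ptab_s_4657_4659 (c : Nat) : Nat := @Bool.rec (fun _ => Nat) (Ptab_4657) (Ptab_4658) (Nat.ble 4658 c)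
noncomputable def Ptab_s_4659_4661 (c : Nat) : Nat := @Bool.rec (fun _ => Nat) (Ptab_4659) (Ptab_4660) (Nat.ble 4660 c)
noncomputable def Ptab_s_4657_4661 (c : Nat) : Nat := @Bool.rec (fun _ => Nat) (Ptab_s_4657_4659 c) (Ptab_s_4659_4661 c) (Nat.ble 4659 c)
noncomputable def Ptab_s_4661_4663 (c : Nat) : Nat := @Bool.rec (fun _ => Nat) (Ptab_4661) (Ptab_4662) (Nat.ble 4662 c)
noncomputable def Ptab_s_4663_4665 (c : Nat) : Nat := @Bool.rec (fun _ => Nat) (Ptab_4663) (Ptab_4664) (Nat.ble 4664 c)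
noncomputable def Ptab_s_4661_4665 (c : Nat) : Nat := @Bool.rec (fun _ => Nat) (Ptab_s_4661_4663 c) (Ptab_s_4663_4665 c) (Nat.ble 4663 c)
noncomputable def Ptab_s_4657_4665 (c : Nat) : Nat := @Bool.rec (fun _ => Nat) (Ptab_s_4657_4661 c) (Ptab_s_4661_4665 c) (Nat.ble 4661 c)
noncomputable def Ptab_s_4650_4665 (c : Nat) : Nat := @Bool.rec (fun _ => Nat) (Ptab_s_4650_4657 c) (Ptab_s_4657_4665 c) (Nat.ble 4657 c)
noncomputable def Ptab_s_4666_4668 (c : Nat) : Nat := @Bool.rec (fun _ => Nat) (Ptab_4666) (Ptab_4667) (Nat.ble 4667 c)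
noncomputable def Ptab_s_4665_4668 (c : Nat) : Nat := @Bool.rec (fun _ => Nat) (Ptab_4665) (Ptab_s_4666_4668 c) (Nat.ble 4666 c)
noncomputable def Ptab_s_4668_4670 (c : Nat) : Nat := @Bool.rec (fun _ => Nat) (Ptab_4668) (Ptab_4669) (Nat.ble 4669 c)
noncomputable def Ptab_s_4670_4672 (c : Nat) : Nat := @Bool.rec (fun _ => Nat) (Ptab_4670) (Ptab_4671) (Nat.ble 4671 c)
noncomputable def Ptab_s_4668_4672 (c : Nat) : Nat := @Bool.rec (fun _ => Nat) (Ptab_s_4668_4670 c) (Ptab_s_4670_4672 c) (Nat.ble 4670 c)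
noncomputable def Ptab_s_4665_4672 (c : Nat) : Nat := @Bool.rec (fun _ => Nat) (Ptab_s_4665_4668 c) (Ptab_s_4668_4672 c) (Nat.ble 4668 c)
noncomputable def Ptab_s_4672_4674 (c : Nat) : Nat := @Bool.rec (fun _ => Nat) (Ptab_4672) (Ptab_4673) (Nat.ble 4673 c)
noncomputable def Ptab_s_4674_4676 (c : Nat) : Nat := @Bool.rec (fun _ => Nat) (Ptab_4674) (Ptab_4675) (Nat.ble 4675 c)
noncomputable def Ptab_s_4672_4676 (c : Nat) : Nat := @Bool.rec (fun _ => Nat) (Ptab_s_4672_4674 c) (Ptab_s_4674_4676 c) (Nat.ble 4674 c)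
noncomputable def Ptab_s_4676_4678 (c : Nat) : Nat := @Bool.rec (fun _ => Nat) (Ptab_4676) (Ptab_4677) (Nat.ble 4677 c)
noncomputable def Ptab_s_4678_4680 (c : Nat) : Nat := @Bool.rec (fun _ => Nat) (Ptab_4678) (Ptab_4679) (Nat.ble 4679 c)
noncomputable def Ptab_s_4676_4680 (c : Nat) : Nat := @Bool.rec (fun _ => Nat) (Ptab_s_4676_4678 c) (Ptab_s_4678_4680 c) (Nat.ble 4678 c)
noncomputable def Ptab_s_4672_4680 (c : Nat) : Nat := @Bool.rec (fun _ => Nat) (Ptab_s_4672_4676 c) (Ptab_s_4676_4680 c) (Nat.ble 4676 c)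
noncomputable def Ptab_s_4665_4680 (c : Nat) : Nat := @Bool.rec (fun _ => Nat) (Ptab_s_4665_4672 c) (Ptab_s_4672_4680 c) (Nat.ble 4672 c)
noncomputable def Ptab_s_4650_4680 (c : Nat) : Nat := @Bool.rec (fun _ => Nat) (Ptab_s_4650_4665 c) (Ptab_s_4665_4680 c) (Nat.ble 4665 c)
noncomputable def Ptab_s_4681_4683 (c : Nat) : Nat := @Bool.rec (fun _ => Nat) (Ptab_4681) (Ptab_4682) (Nat.ble 4682 c)
noncomputable def Ptab_s_4680_4683 (c : Nat) : Nat := @Bool.rec (fun _ => Nat) (Ptab_4680) (Ptab_s_4681_4683 c) (Nat.ble 4681 c)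
noncomputable def Ptab_s_4683_4685 (c : Nat) : Nat := @Bool.rec (fun _ => Nat) (Ptab_4683) (Ptab_4684) (Nat.ble 4684 c)
noncomputable def Ptab_s_4685_4687 (c : Nat) : Nat := @Bool.rec (fun _ => Nat) (Ptab_4685) (Ptab_4686) (Nat.ble 4686 c)
noncomputable def Ptab_s_4683_4687 (c : Nat) : Nat := @Bool.rec (fun _ => Nat) (Ptab_s_4683_4685 c) (Ptab_s_4685_4687 c) (Nat.ble 4685 c)
noncomputable def Ptab_s_4680_4687 (c : Nat) : Nat := @Bool.rec (fun _ => Nat) (Ptab_s_4680_4683 c) (Ptab_s_4683_4687 c) (Nat.ble 4683 c)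
noncomputable def Ptab_s_4687_4689 (c : Nat) : Nat := @Bool.rec (fun _ => Nat) (Ptab_4687) (Ptab_4688) (Nat.ble 4688 c)
noncomputable def Ptab_s_4689_4691 (c : Nat) : Nat := @Bool.rec (fun _ => Nat) (Ptab_4689) (Ptab_4690) (Nat.ble 4690 c)
noncomputable def Ptab_s_4687_4691 (c : Nat) : Nat := @Bool.rec (fun _ => Nat) (Ptab_s_4687_4689 c) (Ptab_s_4689_4691 c) (Nat.ble 4689 c)
noncomputable def Ptab_s_4691_4693 (c : Nat) : Nat := @Bool.rec (fun _ => Nat) (Ptab_4691) (Ptab_4692) (Nat.ble 4692 c)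
noncomputable def Ptab_s_4693_4695 (c : Nat) : Nat := @Bool.rec (fun _ => Nat) (Ptab_4693) (Ptab_4694) (Nat.ble 4694 c)
noncomputable def Ptab_s_4691_4695 (c : Nat) : Nat := @Bool.rec (fun _ => Nat) (Ptab_s_4691_4693 c) (Ptab_s_4693_4695 c) (Nat.ble 4693 c)
noncomputable def Ptab_s_4687_4695 (c : Nat) : Nat := @Bool.rec (fun _ => Nat) (Ptab_s_4687_4691 c) (Ptab_s_4691_4695 c) (Nat.ble 4691 c)
noncomputable def Ptab_s_4680_4695 (c : Nat) : Nat := @Bool.rec (fun _ => Nat) (Ptab_s_4680_4687 c) (Ptab_s_4687_4695 c) (Nat.ble 4687 c)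
noncomputable def Ptab_s_4695_4697 (c : Nat) : Nat := @Bool.rec (fun _ => Nat) (Ptab_4695) (Ptab_4696) (Nat.ble 4696 c)
noncomputable def Ptab_s_4697_4699 (c : Nat) : Nat := @Bool.rec (fun _ => Nat) (Ptab_4697) (Ptab_4698) (Nat.ble 4698 c)
noncomputable def Ptab_s_4695_4699 (c : Nat) : Nat := @Bool.rec (fun _ => Nat) (Ptab_s_4695_4697 c) (Ptab_s_4697_4699 c) (Nat.ble 4697 c)
noncomputable def Ptab_s_4699_4701 (c : Nat) : Nat := @Bool.rec (fun _ => Nat) (Ptab_4699) (Ptab_4700) (Nat.ble 4700 c)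
noncomputable def Ptab_s_4701_4703 (c : Nat) : Nat := @Bool.rec (fun _ => Nat) (Ptab_4701) (Ptab_4702) (Nat.ble 4702 c)
noncomputable def Ptab_s_4699_4703 (c : Nat) : Nat := @Bool.rec (fun _ => Nat) (Ptab_s_4699_4701 c) (Ptab_s_4701_4703 c) (Nat.ble 4701 c)
noncomputable def Ptab_s_4695_4703 (c : Nat) : Nat := @Bool.rec (fun _ => Nat) (Ptab_s_4695_4699 c) (Ptab_s_4699_4703 c) (Nat.ble 4699 c)
noncomputable def Ptab_s_4703_4705 (c : Nat) : Nat := @Bool.rec (fun _ => Nat) (Ptab_4703) (Ptab_4704) (Nat.ble 4704 c)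
noncomputable def Ptab_s_4705_4707 (c : Nat) : Nat := @Bool.rec (fun _ => Nat) (Ptab_4705) (Ptab_4706) (Nat.ble 4706 c)
noncomputable def Ptab_s_4703_4707 (c : Nat) : Nat := @Bool.rec (fun _ => Nat) (Ptab_s_4703_4705 c) (Ptab_s_4705_4707 c) (Nat.ble 4705 c)
noncomputable def Ptab_s_4707_4709 (c : Nat) : Nat := @Bool.rec (fun _ => Nat) (Ptab_4707) (Ptab_4708) (Nat.ble 4708 c)
noncomputable def Ptab_s_4709_4711 (c : Nat) : Nat := @Bool.rec (fun _ => Nat) (Ptab_4709) (Ptab_4710) (Nat.ble 4710 c)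
noncomputable def Ptab_s_4707_4711 (c : Nat) : Nat := @Bool.rec (fun _ => Nat) (Ptab_s_4707_4709 c) (Ptab_s_4709_4711 c) (Nat.ble 4709 c)
noncomputable def Ptab_s_4703_4711 (c : Nat) : Nat := @Bool.rec (fun _ => Nat) (Ptab_s_4703_4707 c) (Ptab_s_4707_4711 c) (Nat.ble 4707 c)
noncomputable def Ptab_s_4695_4711 (c : Nat) : Nat := @Bool.rec (fun _ => Nat) (Ptab_s_4695_4703 c) (Ptab_s_4703_4711 c) (Nat.ble 4703 c)
noncomputable def Ptab_s_4680_4711 (c : Nat) : Nat := @Bool.rec (fun _ => Nat) (Ptab_s_4680_4695 c) (Ptab_s_4695_4711 c) (Nat.ble 4695 c)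
noncomputable def Ptab_s_4650_4711 (c : Nat) : Nat := @Bool.rec (fun _ => Nat) (Ptab_s_4650_4680 c) (Ptab_s_4680_4711 c) (Nat.ble 4680 c)
noncomputable def Ptab_s_4712_4714 (c : Nat) : Nat := @Bool.rec (fun _ => Nat) (Ptab_4712) (Ptab_4713) (Nat.ble 4713 c)
noncomputable def Ptab_s_4711_4714 (c : Nat) : Nat := @Bool.rec (fun _ => Nat) (Ptab_4711) (Ptab_s_4712_4714 c) (Nat.ble 4712 c)
noncomputable def Ptab_s_4714_4716 (c : Nat) : Nat := @Bool.rec (fun _ => Nat) (Ptab_4714) (Ptab_4715) (Nat.ble 4715 c)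
noncomputable def Ptab_s_4716_4718 (c : Nat) : Nat := @Bool.rec (fun _ => Nat) (Ptab_4716) (Ptab_4717) (Nat.ble 4717 c)
noncomputable def Ptab_s_4714_4718 (c : Nat) : Nat := @Bool.rec (fun _ => Nat) (Ptab_s_4714_4716 c) (Ptab_s_4716_4718 c) (Nat.ble 4716 c)
noncomputable def Ptab_s_4711_4718 (c : Nat) : Nat := @Bool.rec (fun _ => Nat) (Ptab_s_4711_4714 c) (Ptab_s_4714_4718 c) (Nat.ble 4714 c)
noncomputable def Ptab_s_4718_4720 (c : Nat) : Nat := @Bool.rec (fun _ => Nat) (Ptab_4718) (Ptab_4719) (Nat.ble 4719 c)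
noncomputable def Ptab_s_4720_4722 (c : Nat) : Nat := @Bool.rec (fun _ => Nat) (Ptab_4720) (Ptab_4721) (Nat.ble 4721 c)
noncomputable def Ptab_s_4718_4722 (c : Nat) : Nat := @Bool.rec (fun _ => Nat) (Ptab_s_4718_4720 c) (Ptab_s_4720_4722 c) (Nat.ble 4720 c)
noncomputable def Ptab_s_4722_4724 (c : Nat) : Nat := @Bool.rec (fun _ => Nat) (Ptab_4722) (Ptab_4723) (Nat.ble 4723 c)
noncomputable def Ptab_s_4724_4726 (c : Nat) : Nat := @Bool.rec (fun _ => Nat) (Ptab_4724) (Ptab_4725) (Nat.ble 4725 c)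
noncomputable def Ptab_s_4722_4726 (c : Nat) : Nat := @Bool.rec (fun _ => Nat) (Ptab_s_4722_4724 c) (Ptab_s_4724_4726 c) (Nat.ble 4724 c)
noncomputable def Ptab_s_4718_4726 (c : Nat) : Nat := @Bool.rec (fun _ => Nat) (Ptab_s_4718_4722 c) (Ptab_s_4722_4726 c) (Nat.ble 4722 c)
noncomputable def Ptab_s_4711_4726 (c : Nat) : Nat := @Bool.rec (fun _ => Nat) (Ptab_s_4711_4718 c) (Ptab_s_4718_4726 c) (Nat.ble 4718 c)
noncomputable def Ptab_s_4727_4729 (c : Nat) : Nat := @Bool.rec (fun _ => Nat) (Ptab_4727) (Ptab_4728) (Nat.ble 4728 c)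
noncomputable def Ptab_s_4726_4729 (c : Nat) : Nat := @Bool.rec (fun _ => Nat) (Ptab_4726) (Ptab_s_4727_4729 c) (Nat.ble 4727 c)
noncomputable def Ptab_s_4729_4731 (c : Nat) : Nat := @Bool.rec (fun _ => Nat) (Ptab_4729) (Ptab_4730) (Nat.ble 4730 c)
noncomputable def Ptab_s_4731_4733 (c : Nat) : Nat := @Bool.rec (fun _ => Nat) (Ptab_4731) (Ptab_4732) (Nat.ble 4732 c)
noncomputable def Ptab_s_4729_4733 (c : Nat) : Nat := @Bool.rec (fun _ => Nat) (Ptab_s_4729_4731 c) (Ptab_s_4731_4733 c) (Nat.ble 4731 c)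
noncomputable def Ptab_s_4726_4733 (c : Nat) : Nat := @Bool.rec (fun _ => Nat) (Ptab_s_4726_4729 c) (Ptab_s_4729_4733 c) (Nat.ble 4729 c)
noncomputable def Ptab_s_4733_4735 (c : Nat) : Nat := @Bool.rec (fun _ => Nat) (Ptab_4733) (Ptab_4734) (Nat.ble 4734 c)
noncomputable def Ptab_s_4735_4737 (c : Nat) : Nat := @Bool.rec (fun _ => Nat) (Ptab_4735) (Ptab_4736) (Nat.ble 4736 c)
noncomputable def Ptab_s_4733_4737 (c : Nat) : Nat := @Bool.rec (fun _ => Nat) (Ptab_s_4733_4735 c) (Ptab_s_4735_4737 c) (Nat.ble 4735 c)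
noncomputable def Ptab_s_4737_4739 (c : Nat) : Nat := @Bool.rec (fun _ => Nat) (Ptab_4737) (Ptab_4738) (Nat.ble 4738 c)
noncomputable def Ptab_s_4739_4741 (c : Nat) : Nat := @Bool.rec (fun _ => Nat) (Ptab_4739) (Ptab_4740) (Nat.ble 4740 c)
noncomputable def Ptab_s_4737_4741 (c : Nat) : Nat := @Bool.rec (fun _ => Nat) (Ptab_s_4737_4739 c) (Ptab_s_4739_4741 c) (Nat.ble 4739 c)
noncomputable def Ptab_s_4733_4741 (c : Nat) : Nat := @Bool.rec (fun _ => Nat) (Ptab_s_4733_4737 c) (Ptab_s_4737_4741 c) (Nat.ble 4737 c)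
noncomputable def Ptab_s_4726_4741 (c : Nat) : Nat := @Bool.rec (fun _ => Nat) (Ptab_s_4726_4733 c) (Ptab_s_4733_4741 c) (Nat.ble 4733 c)
noncomputable def Ptab_s_4711_4741 (c : Nat) : Nat := @Bool.rec (fun _ => Nat) (Ptab_s_4711_4726 c) (Ptab_s_4726_4741 c) (Nat.ble 4726 c)
noncomputable def Ptab_s_4742_4744 (c : Nat) : Nat := @Bool.rec (fun _ => Nat) (Ptab_4742) (Ptab_4743) (Nat.ble 4743 c)
noncomputable def Ptab_s_4741_4744 (c : Nat) : Nat := @Bool.rec (fun _ => Nat) (Ptab_4741) (Ptab_s_4742_4744 c) (Nat.ble 4742 c)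
noncomputable def Ptab_s_4744_4746 (c : Nat) : Nat := @Bool.rec (fun _ => Nat) (Ptab_4744) (Ptab_4745) (Nat.ble 4745 c)
noncomputable def Ptab_s_4746_4748 (c : Nat) : Nat := @Bool.rec (fun _ => Nat) (Ptab_4746) (Ptab_4747) (Nat.ble 4747 c)
noncomputable def Ptab_s_4744_4748 (c : Nat) : Nat := @Bool.rec (fun _ => Nat) (Ptab_s_4744_4746 c) (Ptab_s_4746_4748 c) (Nat.ble 4746 c)
noncomputable def Ptab_s_4741_4748 (c : Nat) : Nat := @Bool.rec (fun _ => Nat) (Ptab_s_4741_4744 c) (Ptab_s_4744_4748 c) (Nat.ble 4744 c)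
noncomputable def Ptab_s_4748_4750 (c : Nat) : Nat := @Bool.rec (fun _ => Nat) (Ptab_4748) (Ptab_4749) (Nat.ble 4749 c)
noncomputable def Ptab_s_4750_4752 (c : Nat) : Nat := @Bool.rec (fun _ => Nat) (Ptab_4750) (Ptab_4751) (Nat.ble 4751 c)
noncomputable def Ptab_s_4748_4752 (c : Nat) : Nat := @Bool.rec (fun _ => Nat) (Ptab_s_4748_4750 c) (Ptab_s_4750_4752 c) (Nat.ble 4750 c)
noncomputable def Ptab_s_4752_4754 (c : Nat) : Nat := @Bool.rec (fun _ => Nat) (Ptab_4752) (Ptab_4753) (Nat.ble 4753 c)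
noncomputable def Ptab_s_4754_4756 (c : Nat) : Nat := @Bool.rec (fun _ => Nat) (Ptab_4754) (Ptab_4755) (Nat.ble 4755 c)
noncomputable def Ptab_s_4752_4756 (c : Nat) : Nat := @Bool.rec (fun _ => Nat) (Ptab_s_4752_4754 c) (Ptab_s_4754_4756 c) (Nat.ble 4754 c)
noncomputable def Ptab_s_4748_4756 (c : Nat) : Nat := @Bool.rec (fun _ => Nat) (Ptab_s_4748_4752 c) (Ptab_s_4752_4756 c) (Nat.ble 4752 c)
noncomputable def Ptab_s_4741_4756 (c : Nat) : Nat := @Bool.rec (fun _ => Nat) (Ptab_s_4741_4748 c) (Ptab_s_4748_4756 c) (Nat.ble 4748 c)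
noncomputable def Ptab_s_4756_4758 (c : Nat) : Nat := @Bool.rec (fun _ => Nat) (Ptab_4756) (Ptab_4757) (Nat.ble 4757 c)
noncomputable def Ptab_s_4758_4760 (c : Nat) : Nat := @Bool.rec (fun _ => Nat) (Ptab_4758) (Ptab_4759) (Nat.ble 4759 c)
noncomputable def Ptab_s_4756_4760 (c : Nat) : Nat := @Bool.rec (fun _ => Nat) (Ptab_s_4756_4758 c) (Ptab_s_4758_4760 c) (Nat.ble 4758 c)
noncomputable def Ptab_s_4760_4762 (c : Nat) : Nat := @Bool.rec (fun _ => Nat) (Ptab_4760) (Ptab_4761) (Nat.ble 4761 c)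
noncomputable def Ptab_s_4762_4764 (c : Nat) : Nat := @Bool.rec (fun _ => Nat) (Ptab_4762) (Ptab_4763) (Nat.ble 4763 c)
noncomputable def Ptab_s_4760_4764 (c : Nat) : Nat := @Bool.rec (fun _ => Nat) (Ptab_s_4760_4762 c) (Ptab_s_4762_4764 c) (Nat.ble 4762 c)
noncomputable def Ptab_s_4756_4764 (c : Nat) : Nat := @Bool.rec (fun _ => Nat) (Ptab_s_4756_4760 c) (Ptab_s_4760_4764 c) (Nat.ble 4760 c)
noncomputable def Ptab_s_4764_4766 (c : Nat) : Nat := @Bool.rec (fun _ => Nat) (Ptab_4764) (Ptab_4765) (Nat.ble 4765 c)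
noncomputable def Ptab_s_4766_4768 (c : Nat) : Nat := @Bool.rec (fun _ => Nat) (Ptab_4766) (Ptab_4767) (Nat.ble 4767 c)
noncomputable def Ptab_s_4764_4768 (c : Nat) : Nat := @Bool.rec (fun _ => Nat) (Ptab_s_4764_4766 c) (Ptab_s_4766_4768 c) (Nat.ble 4766 c)
noncomputable def Ptab_s_4768_4770 (c : Nat) : Nat := @Bool.rec (fun _ => Nat) (Ptab_4768) (Ptab_4769) (Nat.ble 4769 c)
noncomputable def Ptab_s_4770_4772 (c : Nat) : Nat := @Bool.rec (fun _ => Nat) (Ptab_4770) (Ptab_4771) (Nat.ble 4771 c)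
noncomputable def Ptab_s_4768_4772 (c : Nat) : Nat := @Bool.rec (fun _ => Nat) (Ptab_s_4768_4770 c) (Ptab_s_4770_4772 c) (Nat.ble 4770 c)
noncomputable def Ptab_s_4764_4772 (c : Nat) : Nat := @Bool.rec (fun _ => Nat) (Ptab_s_4764_4768 c) (Ptab_s_4768_4772 c) (Nat.ble 4768 c)
noncomputable def Ptab_s_4756_4772 (c : Nat) : Nat := @Bool.rec (fun _ => Nat) (Ptab_s_4756_4764 c) (Ptab_s_4764_4772 c) (Nat.ble 4764 c)
noncomputable def Ptab_s_4741_4772 (c : Nat) : Nat := @Bool.rec (fun _ => Nat) (Ptab_s_4741_4756 c) (Ptab_s_4756_4772 c) (Nat.ble 4756 c)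
noncomputable def Ptab_s_4711_4772 (c : Nat) : Nat := @Bool.rec (fun _ => Nat) (Ptab_s_4711_4741 c) (Ptab_s_4741_4772 c) (Nat.ble 4741 c)
noncomputable def Ptab_s_4650_4772 (c : Nat) : Nat := @Bool.rec (fun _ => Nat) (Ptab_s_4650_4711 c) (Ptab_s_4711_4772 c) (Nat.ble 4711 c)
noncomputable def Ptab_s_4773_4775 (c : Nat) : Nat := @Bool.rec (fun _ => Nat) (Ptab_4773) (Ptab_4774) (Nat.ble 4774 c)
noncomputable def Ptab_s_4772_4775 (c : Nat) : Nat := @Bool.rec (fun _ => Nat) (Ptab_4772) (Ptab_s_4773_4775 c) (Nat.ble 4773 c)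
noncomputable def Ptab_s_4775_4777 (c : Nat) : Nat := @Bool.rec (fun _ => Nat) (Ptab_4775) (Ptab_4776) (Nat.ble 4776 c)
noncomputable def Ptab_s_4777_4779 (c : Nat) : Nat := @Bool.rec (fun _ => Nat) (Ptab_4777) (Ptab_4778) (Nat.ble 4778 c)
noncomputable def Ptab_s_4775_4779 (c : Nat) : Nat := @Bool.rec (fun _ => Nat) (Ptab_s_4775_4777 c) (Ptab_s_4777_4779 c) (Nat.ble 4777 c)
noncomputable def Ptab_s_4772_4779 (c : Nat) : Nat := @Bool.rec (fun _ => Nat) (Ptab_s_4772_4775 c) (Ptab_s_4775_4779 c) (Nat.ble 4775 c)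
noncomputable def Ptab_s_4779_4781 (c : Nat) : Nat := @Bool.rec (fun _ => Nat) (Ptab_4779) (Ptab_4780) (Nat.ble 4780 c)
noncomputable def Ptab_s_4781_4783 (c : Nat) : Nat := @Bool.rec (fun _ => Nat) (Ptab_4781) (Ptab_4782) (Nat.ble 4782 c)
noncomputable def Ptab_s_4779_4783 (c : Nat) : Nat := @Bool.rec (fun _ => Nat) (Ptab_s_4779_4781 c) (Ptab_s_4781_4783 c) (Nat.ble 4781 c)
noncomputable def Ptab_s_4783_4785 (c : Nat) : Nat := @Bool.rec (fun _ => Nat) (Ptab_4783) (Ptab_4784) (Nat.ble 4784 c)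
noncomputable def Ptab_s_4785_4787 (c : Nat) : Nat := @Bool.rec (fun _ => Nat) (Ptab_4785) (Ptab_4786) (Nat.ble 4786 c)
noncomputable def Ptab_s_4783_4787 (c : Nat) : Nat := @Bool.rec (fun _ => Nat) (Ptab_s_4783_4785 c) (Ptab_s_4785_4787 c) (Nat.ble 4785 c)
noncomputable def Ptab_s_4779_4787 (c : Nat) : Nat := @Bool.rec (fun _ => Nat) (Ptab_s_4779_4783 c) (Ptab_s_4783_4787 c) (Nat.ble 4783 c)
noncomputable def Ptab_s_4772_4787 (c : Nat) : Nat := @Bool.rec (fun _ => Nat) (Ptab_s_4772_4779 c) (Ptab_s_4779_4787 c) (Nat.ble 4779 c)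
noncomputable def Ptab_s_4788_4790 (c : Nat) : Nat := @Bool.rec (fun _ => Nat) (Ptab_4788) (Ptab_4789) (Nat.ble 4789 c)
noncomputable def Ptab_s_4787_4790 (c : Nat) : Nat := @Bool.rec (fun _ => Nat) (Ptab_4787) (Ptab_s_4788_4790 c) (Nat.ble 4788 c)
noncomputable def Ptab_s_4790_4792 (c : Nat) : Nat := @Bool.rec (fun _ => Nat) (Ptab_4790) (Ptab_4791) (Nat.ble 4791 c)
noncomputable def Ptab_s_4792_4794 (c : Nat) : Nat := @Bool.rec (fun _ => Nat) (Ptab_4792) (Ptab_4793) (Nat.ble 4793 c)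
noncomputable def Ptab_s_4790_4794 (c : Nat) : Nat := @Bool.rec (fun _ => Nat) (Ptab_s_4790_4792 c) (Ptab_s_4792_4794 c) (Nat.ble 4792 c)
noncomputable def Ptab_s_4787_4794 (c : Nat) : Nat := @Bool.rec (fun _ => Nat) (Ptab_s_4787_4790 c) (Ptab_s_4790_4794 c) (Nat.ble 4790 c)
noncomputable def Ptab_s_4794_4796 (c : Nat) : Nat := @Bool.rec (fun _ => Nat) (Ptab_4794) (Ptab_4795) (Nat.ble 4795 c)
noncomputable def Ptab_s_4796_4798 (c : Nat) : Nat := @Bool.rec (fun _ => Nat) (Ptab_4796) (Ptab_4797) (Nat.ble 4797 c)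
noncomputable def Ptab_s_4794_4798 (c : Nat) : Nat := @Bool.rec (fun _ => Nat) (Ptab_s_4794_4796 c) (Ptab_s_4796_4798 c) (Nat.ble 4796 c)
noncomputable def Ptab_s_4798_4800 (c : Nat) : Nat := @Bool.rec (fun _ => Nat) (Ptab_4798) (Ptab_4799) (Nat.ble 4799 c)
noncomputable def Ptab_s_4800_4802 (c : Nat) : Nat := @Bool.rec (fun _ => Nat) (Ptab_4800) (Ptab_4801) (Nat.ble 4801 c)
noncomputable def Ptab_s_4798_4802 (c : Nat) : Nat := @Bool.rec (fun _ => Nat) (Ptab_s_4798_4800 c) (Ptab_s_4800_4802 c) (Nat.ble 4800 c)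
noncomputable def Ptab_s_4794_4802 (c : Nat) : Nat := @Bool.rec (fun _ => Nat) (Ptab_s_4794_4798 c) (Ptab_s_4798_4802 c) (Nat.ble 4798 c)
noncomputable def Ptab_s_4787_4802 (c : Nat) : Nat := @Bool.rec (fun _ => Nat) (Ptab_s_4787_4794 c) (Ptab_s_4794_4802 c) (Nat.ble 4794 c)
noncomputable def Ptab_s_4772_4802 (c : Nat) : Nat := @Bool.rec (fun _ => Nat) (Ptab_s_4772_4787 c) (Ptab_s_4787_4802 c) (Nat.ble 4787 c)
noncomputable def Ptab_s_4803_4805 (c : Nat) : Nat := @Bool.rec (fun _ => Nat) (Ptab_4803) (Ptab_4804) (Nat.ble 4804 c)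
noncomputable def Ptab_s_4802_4805 (c : Nat) : Nat := @Bool.rec (fun _ => Nat) (Ptab_4802) (Ptab_s_4803_4805 c) (Nat.ble 4803 c)
noncomputable def Ptab_s_4805_4807 (c : Nat) : Nat := @Bool.rec (fun _ => Nat) (Ptab_4805) (Ptab_4806) (Nat.ble 4806 c)
noncomputable def Ptab_s_4807_4809 (c : Nat) : Nat := @Bool.rec (fun _ => Nat) (Ptab_4807) (Ptab_4808) (Nat.ble 4808 c)
noncomputable def Ptab_s_4805_4809 (c : Nat) : Nat := @Bool.rec (fun _ => Nat) (Ptab_s_4805_4807 c) (Ptab_s_4807_4809 c) (Nat.ble 4807 c)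
noncomputable def Ptab_s_4802_4809 (c : Nat) : Nat := @Bool.rec (fun _ => Nat) (Ptab_s_4802_4805 c) (Ptab_s_4805_4809 c) (Nat.ble 4805 c)
noncomputable def Ptab_s_4809_4811 (c : Nat) : Nat := @Bool.rec (fun _ => Nat) (Ptab_4809) (Ptab_4810) (Nat.ble 4810 c)
noncomputable def Ptab_s_4811_4813 (c : Nat) : Nat := @Bool.rec (fun _ => Nat) (Ptab_4811) (Ptab_4812) (Nat.ble 4812 c)
noncomputable def Ptab_s_4809_4813 (c : Nat) : Nat := @Bool.rec (fun _ => Nat) (Ptab_s_4809_4811 c) (Ptab_s_4811_4813 c) (Nat.ble 4811 c)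
noncomputable def Ptab_s_4813_4815 (c : Nat) : Nat := @Bool.rec (fun _ => Nat) (Ptab_4813) (Ptab_4814) (Nat.ble 4814 c)
noncomputable def Ptab_s_4815_4817 (c : Nat) : Nat := @Bool.rec (fun _ => Nat) (Ptab_4815) (Ptab_4816) (Nat.ble 4816 c)
noncomputable def Ptab_s_4813_4817 (c : Nat) : Nat := @Bool.rec (fun _ => Nat) (Ptab_s_4813_4815 c) (Ptab_s_4815_4817 c) (Nat.ble 4815 c)
noncomputable def Ptab_s_4809_4817 (c : Nat) : Nat := @Bool.rec (fun _ => Nat) (Ptab_s_4809_4813 c) (Ptab_s_4813_4817 c) (Nat.ble 4813 c)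
noncomputable def Ptab_s_4802_4817 (c : Nat) : Nat := @Bool.rec (fun _ => Nat) (Ptab_s_4802_4809 c) (Ptab_s_4809_4817 c) (Nat.ble 4809 c)
noncomputable def Ptab_s_4817_4819 (c : Nat) : Nat := @Bool.rec (fun _ => Nat) (Ptab_4817) (Ptab_4818) (Nat.ble 4818 c)
noncomputable def Ptab_s_4819_4821 (c : Nat) : Nat := @Bool.rec (fun _ => Nat) (Ptab_4819) (Ptab_4820) (Nat.ble 4820 c)
noncomputable def Ptab_s_4817_4821 (c : Nat) : Nat := @Bool.rec (fun _ => Nat) (Ptab_s_4817_4819 c) (Ptab_s_4819_4821 c) (Nat.ble 4819 c)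
noncomputable def Ptab_s_4821_4823 (c : Nat) : Nat := @Bool.rec (fun _ => Nat) (Ptab_4821) (Ptab_4822) (Nat.ble 4822 c)
noncomputable def Ptab_s_4823_4825 (c : Nat) : Nat := @Bool.rec (fun _ => Nat) (Ptab_4823) (Ptab_4824) (Nat.ble 4824 c)
noncomputable def Ptab_s_4821_4825 (c : Nat) : Nat := @Bool.rec (fun _ => Nat) (Ptab_s_4821_4823 c) (Ptab_s_4823_4825 c) (Nat.ble 4823 c)
noncomputable def Ptab_s_4817_4825 (c : Nat) : Nat := @Bool.rec (fun _ => Nat) (Ptab_s_4817_4821 c) (Ptab_s_4821_4825 c) (Nat.ble 4821 c)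
noncomputable def Ptab_s_4825_4827 (c : Nat) : Nat := @Bool.rec (fun _ => Nat) (Ptab_4825) (Ptab_4826) (Nat.ble 4826 c)
noncomputable def Ptab_s_4827_4829 (c : Nat) : Nat := @Bool.rec (fun _ => Nat) (Ptab_4827) (Ptab_4828) (Nat.ble 4828 c)
noncomputable def Ptab_s_4825_4829 (c : Nat) : Nat := @Bool.rec (fun _ => Nat) (Ptab_s_4825_4827 c) (Ptab_s_4827_4829 c) (Nat.ble 4827 c)
noncomputable def Ptab_s_4829_4831 (c : Nat) : Nat := @Bool.rec (fun _ => Nat) (Ptab_4829) (Ptab_4830) (Nat.ble 4830 c)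
noncomputable def Ptab_s_4831_4833 (c : Nat) : Nat := @Bool.rec (fun _ => Nat) (Ptab_4831) (Ptab_4832) (Nat.ble 4832 c)
noncomputable def Ptab_s_4829_4833 (c : Nat) : Nat := @Bool.rec (fun _ => Nat) (Ptab_s_4829_4831 c) (Ptab_s_4831_4833 c) (Nat.ble 4831 c)
noncomputable def Ptab_s_4825_4833 (c : Nat) : Nat := @Bool.rec (fun _ => Nat) (Ptab_s_4825_4829 c) (Ptab_s_4829_4833 c) (Nat.ble 4829 c)
noncomputable def Ptab_s_4817_4833 (c : Nat) : Nat := @Bool.rec (fun _ => Nat) (Ptab_s_4817_4825 c) (Ptab_s_4825_4833 c) (Nat.ble 4825 c)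
noncomputable def Ptab_s_4802_4833 (c : Nat) : Nat := @Bool.rec (fun _ => Nat) (Ptab_s_4802_4817 c) (Ptab_s_4817_4833 c) (Nat.ble 4817 c)
noncomputable def Ptab_s_4772_4833 (c : Nat) : Nat := @Bool.rec (fun _ => Nat) (Ptab_s_4772_4802 c) (Ptab_s_4802_4833 c) (Nat.ble 4802 c)
noncomputable def Ptab_s_4834_4836 (c : Nat) : Nat := @Bool.rec (fun _ => Nat) (Ptab_4834) (Ptab_4835) (Nat.ble 4835 c)
noncomputable def Ptab_s_4833_4836 (c : Nat) : Nat := @Bool.rec (fun _ => Nat) (Ptab_4833) (Ptab_s_4834_4836 c) (Nat.ble 4834 c)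
noncomputable def Ptab_s_4836_4838 (c : Nat) : Nat := @Bool.rec (fun _ => Nat) (Ptab_4836) (Ptab_4837) (Nat.ble 4837 c)
noncomputable def Ptab_s_4838_4840 (c : Nat) : Nat := @Bool.rec (fun _ => Nat) (Ptab_4838) (Ptab_4839) (Nat.ble 4839 c)
noncomputable def Ptab_s_4836_4840 (c : Nat) : Nat := @Bool.rec (fun _ => Nat) (Ptab_s_4836_4838 c) (Ptab_s_4838_4840 c) (Nat.ble 4838 c)
noncomputable def Ptab_s_4833_4840 (c : Nat) : Nat := @Bool.rec (fun _ => Nat) (Ptab_s_4833_4836 c) (Ptab_s_4836_4840 c) (Nat.ble 4836 c)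
noncomputable def Ptab_s_4840_4842 (c : Nat) : Nat := @Bool.rec (fun _ => Nat) (Ptab_4840) (Ptab_4841) (Nat.ble 4841 c)
noncomputable def Ptab_s_4842_4844 (c : Nat) : Nat := @Bool.rec (fun _ => Nat) (Ptab_4842) (Ptab_4843) (Nat.ble 4843 c)
noncomputable def Ptab_s_4840_4844 (c : Nat) : Nat := @Bool.rec (fun _ => Nat) (Ptab_s_4840_4842 c) (Ptab_s_4842_4844 c) (Nat.ble 4842 c)
noncomputable def Ptab_s_4844_4846 (c : Nat) : Nat := @Bool.rec (fun _ => Nat) (Ptab_4844) (Ptab_4845) (Nat.ble 4845 c)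
noncomputable def Ptab_s_4846_4848 (c : Nat) : Nat := @Bool.rec (fun _ => Nat) (Ptab_4846) (Ptab_4847) (Nat.ble 4847 c)
noncomputable def Ptab_s_4844_4848 (c : Nat) : Nat := @Bool.rec (fun _ => Nat) (Ptab_s_4844_4846 c) (Ptab_s_4846_4848 c) (Nat.ble 4846 c)
noncomputable def Ptab_s_4840_4848 (c : Nat) : Nat := @Bool.rec (fun _ => Nat) (Ptab_s_4840_4844 c) (Ptab_s_4844_4848 c) (Nat.ble 4844 c)
noncomputable def Ptab_s_4833_4848 (c : Nat) : Nat := @Bool.rec (fun _ => Nat) (Ptab_s_4833_4840 c) (Ptab_s_4840_4848 c) (Nat.ble 4840 c)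
noncomputable def Ptab_s_4848_4850 (c : Nat) : Nat := @Bool.rec (fun _ => Nat) (Ptab_4848) (Ptab_4849) (Nat.ble 4849 c)
noncomputable def Ptab_s_4850_4852 (c : Nat) : Nat := @Bool.rec (fun _ => Nat) (Ptab_4850) (Ptab_4851) (Nat.ble 4851 c)
noncomputable def Ptab_s_4848_4852 (c : Nat) : Nat := @Bool.rec (fun _ => Nat) (Ptab_s_4848_4850 c) (Ptab_s_4850_4852 c) (Nat.ble 4850 c)
noncomputable def Ptab_s_4852_4854 (c : Nat) : Nat := @Bool.rec (fun _ => Nat) (Ptab_4852) (Ptab_4853) (Nat.ble 4853 c)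
noncomputable def Ptab_s_4854_4856 (c : Nat) : Nat := @Bool.rec (fun _ => Nat) (Ptab_4854) (Ptab_4855) (Nat.ble 4855 c)
noncomputable def Ptab_s_4852_4856 (c : Nat) : Nat := @Bool.rec (fun _ => Nat) (Ptab_s_4852_4854 c) (Ptab_s_4854_4856 c) (Nat.ble 4854 c)
noncomputable def Ptab_s_4848_4856 (c : Nat) : Nat := @Bool.rec (fun _ => Nat) (Ptab_s_4848_4852 c) (Ptab_s_4852_4856 c) (Nat.ble 4852 c)
noncomputable def Ptab_s_4856_4858 (c : Nat) : Nat := @Bool.rec (fun _ => Nat) (Ptab_4856) (Ptab_4857) (Nat.ble 4857 c)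
noncomputable def Ptab_s_4858_4860 (c : Nat) : Nat := @Bool.rec (fun _ => Nat) (Ptab_4858) (Ptab_4859) (Nat.ble 4859 c)
noncomputable def Ptab_s_4856_4860 (c : Nat) : Nat := @Bool.rec (fun _ => Nat) (Ptab_s_4856_4858 c) (Ptab_s_4858_4860 c) (Nat.ble 4858 c)
noncomputable def Ptab_s_4860_4862 (c : Nat) : Nat := @Bool.rec (fun _ => Nat) (Ptab_4860) (Ptab_4861) (Nat.ble 4861 c)
noncomputable def Ptab_s_4862_4864 (c : Nat) : Nat := @Bool.rec (fun _ => Nat) (Ptab_4862) (Ptab_4863) (Nat.ble 4863 c)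
noncomputable def Ptab_s_4860_4864 (c : Nat) : Nat := @Bool.rec (fun _ => Nat) (Ptab_s_4860_4862 c) (Ptab_s_4862_4864 c) (Nat.ble 4862 c)
noncomputable def Ptab_s_4856_4864 (c : Nat) : Nat := @Bool.rec (fun _ => Nat) (Ptab_s_4856_4860 c) (Ptab_s_4860_4864 c) (Nat.ble 4860 c)
noncomputable def Ptab_s_4848_4864 (c : Nat) : Nat := @Bool.rec (fun _ => Nat) (Ptab_s_4848_4856 c) (Ptab_s_4856_4864 c) (Nat.ble 4856 c)
noncomputable def Ptab_s_4833_4864 (c : Nat) : Nat := @Bool.rec (fun _ => Nat) (Ptab_s_4833_4848 c) (Ptab_s_4848_4864 c) (Nat.ble 4848 c)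
noncomputable def Ptab_s_4865_4867 (c : Nat) : Nat := @Bool.rec (fun _ => Nat) (Ptab_4865) (Ptab_4866) (Nat.ble 4866 c)
noncomputable def Ptab_s_4864_4867 (c : Nat) : Nat := @Bool.rec (fun _ => Nat) (Ptab_4864) (Ptab_s_4865_4867 c) (Nat.ble 4865 c)
noncomputable def Ptab_s_4867_4869 (c : Nat) : Nat := @Bool.rec (fun _ => Nat) (Ptab_4867) (Ptab_4868) (Nat.ble 4868 c)
noncomputable def Ptab_s_4869_4871 (c : Nat) : Nat := @Bool.rec (fun _ => Nat) (Ptab_4869) (Ptab_4870) (Nat.ble 4870 c)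
noncomputable def Ptab_s_4867_4871 (c : Nat) : Nat := @Bool.rec (fun _ => Nat) (Ptab_s_4867_4869 c) (Ptab_s_4869_4871 c) (Nat.ble 4869 c)
noncomputable def Ptab_s_4864_4871 (c : Nat) : Nat := @Bool.rec (fun _ => Nat) (Ptab_s_4864_4867 c) (Ptab_s_4867_4871 c) (Nat.ble 4867 c)
noncomputable def Ptab_s_4871_4873 (c : Nat) : Nat := @Bool.rec (fun _ => Nat) (Ptab_4871) (Ptab_4872) (Nat.ble 4872 c)
noncomputable def Ptab_s_4873_4875 (c : Nat) : Nat := @Bool.rec (fun _ => Nat) (Ptab_4873) (Ptab_4874) (Nat.ble 4874 c)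
noncomputable def Ptab_s_4871_4875 (c : Nat) : Nat := @Bool.rec (fun _ => Nat) (Ptab_s_4871_4873 c) (Ptab_s_4873_4875 c) (Nat.ble 4873 c)
noncomputable def Ptab_s_4875_4877 (c : Nat) : Nat := @Bool.rec (fun _ => Nat) (Ptab_4875) (Ptab_4876) (Nat.ble 4876 c)
noncomputable def Ptab_s_4877_4879 (c : Nat) : Nat := @Bool.rec (fun _ => Nat) (Ptab_4877) (Ptab_4878) (Nat.ble 4878 c)
noncomputable def Ptab_s_4875_4879 (c : Nat) : Nat := @Bool.rec (fun _ => Nat) (Ptab_s_4875_4877 c) (Ptab_s_4877_4879 c) (Nat.ble 4877 c)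
noncomputable def Ptab_s_4871_4879 (c : Nat) : Nat := @Bool.rec (fun _ => Nat) (Ptab_s_4871_4875 c) (Ptab_s_4875_4879 c) (Nat.ble 4875 c)
noncomputable def Ptab_s_4864_4879 (c : Nat) : Nat := @Bool.rec (fun _ => Nat) (Ptab_s_4864_4871 c) (Ptab_s_4871_4879 c) (Nat.ble 4871 c)
noncomputable def Ptab_s_4879_4881 (c : Nat) : Nat := @Bool.rec (fun _ => Nat) (Ptab_4879) (Ptab_4880) (Nat.ble 4880 c)
noncomputable def Ptab_s_4881_4883 (c : Nat) : Nat := @Bool.rec (fun _ => Nat) (Ptab_4881) (Ptab_4882) (Nat.ble 4882 c)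
noncomputable def Ptab_s_4879_4883 (c : Nat) : Nat := @Bool.rec (fun _ => Nat) (Ptab_s_4879_4881 c) (Ptab_s_4881_4883 c) (Nat.ble 4881 c)
noncomputable def Ptab_s_4883_4885 (c : Nat) : Nat := @Bool.rec (fun _ => Nat) (Ptab_4883) (Ptab_4884) (Nat.ble 4884 c)
noncomputable def Ptab_s_4885_4887 (c : Nat) : Nat := @Bool.rec (fun _ => Nat) (Ptab_4885) (Ptab_4886) (Nat.ble 4886 c)
noncomputable def Ptab_s_4883_4887 (c : Nat) : Nat := @Bool.rec (fun _ => Nat) (Ptab_s_4883_4885 c) (Ptab_s_4885_4887 c) (Nat.ble 4885 c)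
noncomputable def Ptab_s_4879_4887 (c : Nat) : Nat := @Bool.rec (fun _ => Nat) (Ptab_s_4879_4883 c) (Ptab_s_4883_4887 c) (Nat.ble 4883 c)
noncomputable def Ptab_s_4887_4889 (c : Nat) : Nat := @Bool.rec (fun _ => Nat) (Ptab_4887) (Ptab_4888) (Nat.ble 4888 c)
noncomputable def Ptab_s_4889_4891 (c : Nat) : Nat := @Bool.rec (fun _ => Nat) (Ptab_4889) (Ptab_4890) (Nat.ble 4890 c)
noncomputable def Ptab_s_4887_4891 (c : Nat) : Nat := @Bool.rec (fun _ => Nat) (Ptab_s_4887_4889 c) (Ptab_s_4889_4891 c) (Nat.ble 4889 c)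
noncomputable def Ptab_s_4891_4893 (c : Nat) : Nat := @Bool.rec (fun _ => Nat) (Ptab_4891) (Ptab_4892) (Nat.ble 4892 c)
noncomputable def Ptab_s_4893_4895 (c : Nat) : Nat := @Bool.rec (fun _ => Nat) (Ptab_4893) (Ptab_4894) (Nat.ble 4894 c)
noncomputable def Ptab_s_4891_4895 (c : Nat) : Nat := @Bool.rec (fun _ => Nat) (Ptab_s_4891_4893 c) (Ptab_s_4893_4895 c) (Nat.ble 4893 c)
noncomputable def Ptab_s_4887_4895 (c : Nat) : Nat := @Bool.rec (fun _ => Nat) (Ptab_s_4887_4891 c) (Ptab_s_4891_4895 c) (Nat.ble 4891 c)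
noncomputable def Ptab_s_4879_4895 (c : Nat) : Nat := @Bool.rec (fun _ => Nat) (Ptab_s_4879_4887 c) (Ptab_s_4887_4895 c) (Nat.ble 4887 c)
noncomputable def Ptab_s_4864_4895 (c : Nat) : Nat := @Bool.rec (fun _ => Nat) (Ptab_s_4864_4879 c) (Ptab_s_4879_4895 c) (Nat.ble 4879 c)
noncomputable def Ptab_s_4833_4895 (c : Nat) : Nat := @Bool.rec (fun _ => Nat) (Ptab_s_4833_4864 c) (Ptab_s_4864_4895 c) (Nat.ble 4864 c)
noncomputable def Ptab_s_4772_4895 (c : Nat) : Nat := @Bool.rec (fun _ => Nat) (Ptab_s_4772_4833 c) (Ptab_s_4833_4895 c) (Nat.ble 4833 c)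
noncomputable def Ptab_s_4650_4895 (c : Nat) : Nat := @Bool.rec (fun _ => Nat) (Ptab_s_4650_4772 c) (Ptab_s_4772_4895 c) (Nat.ble 4772 c)
noncomputable def Ptab_s_4405_4895 (c : Nat) : Nat := @Bool.rec (fun _ => Nat) (Ptab_s_4405_4650 c) (Ptab_s_4650_4895 c) (Nat.ble 4650 c)
noncomputable def Ptab_s_3916_4895 (c : Nat) : Nat := @Bool.rec (fun _ => Nat) (Ptab_s_3916_4405 c) (Ptab_s_4405_4895 c) (Nat.ble 4405 c)
noncomputable def Ptab_s_4896_4898 (c : Nat) : Nat := @Bool.rec (fun _ => Nat) (Ptab_4896) (Ptab_4897) (Nat.ble 4897 c)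
noncomputable def Ptab_s_4895_4898 (c : Nat) : Nat := @Bool.rec (fun _ => Nat) (Ptab_4895) (Ptab_s_4896_4898 c) (Nat.ble 4896 c)
noncomputable def Ptab_s_4898_4900 (c : Nat) : Nat := @Bool.rec (fun _ => Nat) (Ptab_4898) (Ptab_4899) (Nat.ble 4899 c)
noncomputable def Ptab_s_4900_4902 (c : Nat) : Nat := @Bool.rec (fun _ => Nat) (Ptab_4900) (Ptab_4901) (Nat.ble 4901 c)
noncomputable def Ptab_s_4898_4902 (c : Nat) : Nat := @Bool.rec (fun _ => Nat) (Ptab_s_4898_4900 c) (Ptab_s_4900_4902 c) (Nat.ble 4900 c)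
noncomputable def Ptab_s_4895_4902 (c : Nat) : Nat := @Bool.rec (fun _ => Nat) (Ptab_s_4895_4898 c) (Ptab_s_4898_4902 c) (Nat.ble 4898 c)
noncomputable def Ptab_s_4902_4904 (c : Nat) : Nat := @Bool.rec (fun _ => Nat) (Ptab_4902) (Ptab_4903) (Nat.ble 4903 c)
noncomputable def Ptab_s_4904_4906 (c : Nat) : Nat := @Bool.rec (fun _ => Nat) (Ptab_4904) (Ptab_4905) (Nat.ble 4905 c)
noncomputable def Ptab_s_4902_4906 (c : Nat) : Nat := @Bool.rec (fun _ => Nat) (Ptab_s_4902_4904 c) (Ptab_s_4904_4906 c) (Nat.ble 4904 c)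
noncomputable def Ptab_s_4906_4908 (c : Nat) : Nat := @Bool.rec (fun _ => Nat) (Ptab_4906) (Ptab_4907) (Nat.ble 4907 c)
noncomputable def Ptab_s_4908_4910 (c : Nat) : Nat := @Bool.rec (fun _ => Nat) (Ptab_4908) (Ptab_4909) (Nat.ble 4909 c)
noncomputable def Ptab_s_4906_4910 (c : Nat) : Nat := @Bool.rec (fun _ => Nat) (Ptab_s_4906_4908 c) (Ptab_s_4908_4910 c) (Nat.ble 4908 c)
noncomputable def Ptab_s_4902_4910 (c : Nat) : Nat := @Bool.rec (fun _ => Nat) (Ptab_s_4902_4906 c) (Ptab_s_4906_4910 c) (Nat.ble 4906 c)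
noncomputable def Ptab_s_4895_4910 (c : Nat) : Nat := @Bool.rec (fun _ => Nat) (Ptab_s_4895_4902 c) (Ptab_s_4902_4910 c) (Nat.ble 4902 c)
noncomputable def Ptab_s_4911_4913 (c : Nat) : Nat := @Bool.rec (fun _ => Nat) (Ptab_4911) (Ptab_4912) (Nat.ble 4912 c)
noncomputable def Ptab_s_4910_4913 (c : Nat) : Nat := @Bool.rec (fun _ => Nat) (Ptab_4910) (Ptab_s_4911_4913 c) (Nat.ble 4911 c)
noncomputable def Ptab_s_4913_4915 (c : Nat) : Nat := @Bool.rec (fun _ => Nat) (Ptab_4913) (Ptab_4914) (Nat.ble 4914 c)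
noncomputable def Ptab_s_4915_4917 (c : Nat) : Nat := @Bool.rec (fun _ => Nat) (Ptab_4915) (Ptab_4916) (Nat.ble 4916 c)
noncomputable def Ptab_s_4913_4917 (c : Nat) : Nat := @Bool.rec (fun _ => Nat) (Ptab_s_4913_4915 c) (Ptab_s_4915_4917 c) (Nat.ble 4915 c)
noncomputable def Ptab_s_4910_4917 (c : Nat) : Nat := @Bool.rec (fun _ => Nat) (Ptab_s_4910_4913 c) (Ptab_s_4913_4917 c) (Nat.ble 4913 c)
noncomputable def Ptab_s_4917_4919 (c : Nat) : Nat := @Bool.rec (fun _ => Nat) (Ptab_4917) (Ptab_4918) (Nat.ble 4918 c)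
noncomputable def Ptab_s_4919_4921 (c : Nat) : Nat := @Bool.rec (fun _ => Nat) (Ptab_4919) (Ptab_4920) (Nat.ble 4920 c)
noncomputable def Ptab_s_4917_4921 (c : Nat) : Nat := @Bool.rec (fun _ => Nat) (Ptab_s_4917_4919 c) (Ptab_s_4919_4921 c) (Nat.ble 4919 c)
noncomputable def Ptab_s_4921_4923 (c : Nat) : Nat := @Bool.rec (fun _ => Nat) (Ptab_4921) (Ptab_4922) (Nat.ble 4922 c)
noncomputable def Ptab_s_4923_4925 (c : Nat) : Nat := @Bool.rec (fun _ => Nat) (Ptab_4923) (Ptab_4924) (Nat.ble 4924 c)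
noncomputable def Ptab_s_4921_4925 (c : Nat) : Nat := @Bool.rec (fun _ => Nat) (Ptab_s_4921_4923 c) (Ptab_s_4923_4925 c) (Nat.ble 4923 c)
noncomputable def Ptab_s_4917_4925 (c : Nat) : Nat := @Bool.rec (fun _ => Nat) (Ptab_s_4917_4921 c) (Ptab_s_4921_4925 c) (Nat.ble 4921 c)
noncomputable def Ptab_s_4910_4925 (c : Nat) : Nat := @Bool.rec (fun _ => Nat) (Ptab_s_4910_4917 c) (Ptab_s_4917_4925 c) (Nat.ble 4917 c)
noncomputable def Ptab_s_4895_4925 (c : Nat) : Nat := @Bool.rec (fun _ => Nat) (Ptab_s_4895_4910 c) (Ptab_s_4910_4925 c) (Nat.ble 4910 c)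
noncomputable def Ptab_s_4926_4928 (c : Nat) : Nat := @Bool.rec (fun _ => Nat) (Ptab_4926) (Ptab_4927) (Nat.ble 4927 c)
noncomputable def Ptab_s_4925_4928 (c : Nat) : Nat := @Bool.rec (fun _ => Nat) (Ptab_4925) (Ptab_s_4926_4928 c) (Nat.ble 4926 c)
noncomputable def Ptab_s_4928_4930 (c : Nat) : Nat := @Bool.rec (fun _ => Nat) (Ptab_4928) (Ptab_4929) (Nat.ble 4929 c)
noncomputable def Ptab_s_4930_4932 (c : Nat) : Nat := @Bool.rec (fun _ => Nat) (Ptab_4930) (Ptab_4931) (Nat.ble 4931 c)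
noncomputable def Ptab_s_4928_4932 (c : Nat) : Nat := @Bool.rec (fun _ => Nat) (Ptab_s_4928_4930 c) (Ptab_s_4930_4932 c) (Nat.ble 4930 c)
noncomputable def Ptab_s_4925_4932 (c : Nat) : Nat := @Bool.rec (fun _ => Nat) (Ptab_s_4925_4928 c) (Ptab_s_4928_4932 c) (Nat.ble 4928 c)
noncomputable def Ptab_s_4932_4934 (c : Nat) : Nat := @Bool.rec (fun _ => Nat) (Ptab_4932) (Ptab_4933) (Nat.ble 4933 c)
noncomputable def Ptab_s_4934_4936 (c : Nat) : Nat := @Bool.rec (fun _ => Nat) (Ptab_4934) (Ptab_4935) (Nat.ble 4935 c)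
noncomputable def Ptab_s_4932_4936 (c : Nat) : Nat := @Bool.rec (fun _ => Nat) (Ptab_s_4932_4934 c) (Ptab_s_4934_4936 c) (Nat.ble 4934 c)
noncomputable def Ptab_s_4936_4938 (c : Nat) : Nat := @Bool.rec (fun _ => Nat) (Ptab_4936) (Ptab_4937) (Nat.ble 4937 c)
noncomputable def Ptab_s_4938_4940 (c : Nat) : Nat := @Bool.rec (fun _ => Nat) (Ptab_4938) (Ptab_4939) (Nat.ble 4939 c)
noncomputable def Ptab_s_4936_4940 (c : Nat) : Nat := @Bool.rec (fun _ => Nat) (Ptab_s_4936_4938 c) (Ptab_s_4938_4940 c) (Nat.ble 4938 c)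
noncomputable def Ptab_s_4932_4940 (c : Nat) : Nat := @Bool.rec (fun _ => Nat) (Ptab_s_4932_4936 c) (Ptab_s_4936_4940 c) (Nat.ble 4936 c)
noncomputable def Ptab_s_4925_4940 (c : Nat) : Nat := @Bool.rec (fun _ => Nat) (Ptab_s_4925_4932 c) (Ptab_s_4932_4940 c) (Nat.ble 4932 c)
noncomputable def Ptab_s_4940_4942 (c : Nat) : Nat := @Bool.rec (fun _ => Nat) (Ptab_4940) (Ptab_4941) (Nat.ble 4941 c)
noncomputable def Ptab_s_4942_4944 (c : Nat) : Nat := @Bool.rec (fun _ => Nat) (Ptab_4942) (Ptab_4943) (Nat.ble 4943 c)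
noncomputable def Ptab_s_4940_4944 (c : Nat) : Nat := @Bool.rec (fun _ => Nat) (Ptab_s_4940_4942 c) (Ptab_s_4942_4944 c) (Nat.ble 4942 c)
noncomputable def Ptab_s_4944_4946 (c : Nat) : Nat := @Bool.rec (fun _ => Nat) (Ptab_4944) (Ptab_4945) (Nat.ble 4945 c)
noncomputable def Ptab_s_4946_4948 (c : Nat) : Nat := @Bool.rec (fun _ => Nat) (Ptab_4946) (Ptab_4947) (Nat.ble 4947 c)
noncomputable def Ptab_s_4944_4948 (c : Nat) : Nat := @Bool.rec (fun _ => Nat) (Ptab_s_4944_4946 c) (Ptab_s_4946_4948 c) (Nat.ble 4946 c)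
noncomputable def Ptab_s_4940_4948 (c : Nat) : Nat := @Bool.rec (fun _ => Nat) (Ptab_s_4940_4944 c) (Ptab_s_4944_4948 c) (Nat.ble 4944 c)
noncomputable def Ptab_s_4948_4950 (c : Nat) : Nat := @Bool.rec (fun _ => Nat) (Ptab_4948) (Ptab_4949) (Nat.ble 4949 c)
noncomputable def Ptab_s_4950_4952 (c : Nat) : Nat := @Bool.rec (fun _ => Nat) (Ptab_4950) (Ptab_4951) (Nat.ble 4951 c)
noncomputable def Ptab_s_4948_4952 (c : Nat) : Nat := @Bool.rec (fun _ => Nat) (Ptab_s_4948_4950 c) (Ptab_s_4950_4952 c) (Nat.ble 4950 c)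
noncomputable def Ptab_s_4952_4954 (c : Nat) : Nat := @Bool.rec (fun _ => Nat) (Ptab_4952) (Ptab_4953) (Nat.ble 4953 c)
noncomputable def Ptab_s_4954_4956 (c : Nat) : Nat := @Bool.rec (fun _ => Nat) (Ptab_4954) (Ptab_4955) (Nat.ble 4955 c)
noncomputable def Ptab_s_4952_4956 (c : Nat) : Nat := @Bool.rec (fun _ => Nat) (Ptab_s_4952_4954 c) (Ptab_s_4954_4956 c) (Nat.ble 4954 c)
noncomputable def Ptab_s_4948_4956 (c : Nat) : Nat := @Bool.rec (fun _ => Nat) (Ptab_s_4948_4952 c) (Ptab_s_4952_4956 c) (Nat.ble 4952 c)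
noncomputable def Ptab_s_4940_4956 (c : Nat) : Nat := @Bool.rec (fun _ => Nat) (Ptab_s_4940_4948 c) (Ptab_s_4948_4956 c) (Nat.ble 4948 c)
noncomputable def Ptab_s_4925_4956 (c : Nat) : Nat := @Bool.rec (fun _ => Nat) (Ptab_s_4925_4940 c) (Ptab_s_4940_4956 c) (Nat.ble 4940 c)
noncomputable def Ptab_s_4895_4956 (c : Nat) : Nat := @Bool.rec (fun _ => Nat) (Ptab_s_4895_4925 c) (Ptab_s_4925_4956 c) (Nat.ble 4925 c)
noncomputable def Ptab_s_4957_4959 (c : Nat) : Nat := @Bool.rec (fun _ => Nat) (Ptab_4957) (Ptab_4958) (Nat.ble 4958 c)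
noncomputable def Ptab_s_4956_4959 (c : Nat) : Nat := @Bool.rec (fun _ => Nat) (Ptab_4956) (Ptab_s_4957_4959 c) (Nat.ble 4957 c)
noncomputable def Ptab_s_4959_4961 (c : Nat) : Nat := @Bool.rec (fun _ => Nat) (Ptab_4959) (Ptab_4960) (Nat.ble 4960 c)
noncomputable def Ptab_s_4961_4963 (c : Nat) : Nat := @Bool.rec (fun _ => Nat) (Ptab_4961) (Ptab_4962) (Nat.ble 4962 c)
noncomputable def Ptab_s_4959_4963 (c : Nat) : Nat := @Bool.rec (fun _ => Nat) (Ptab_s_4959_4961 c) (Ptab_s_4961_4963 c) (Nat.ble 4961 c)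
noncomputable def Ptab_s_4956_4963 (c : Nat) : Nat := @Bool.rec (fun _ => Nat) (Ptab_s_4956_4959 c) (Ptab_s_4959_4963 c) (Nat.ble 4959 c)
noncomputable def Ptab_s_4963_4965 (c : Nat) : Nat := @Bool.rec (fun _ => Nat) (Ptab_4963) (Ptab_4964) (Nat.ble 4964 c)
noncomputable def Ptab_s_4965_4967 (c : Nat) : Nat := @Bool.rec (fun _ => Nat) (Ptab_4965) (Ptab_4966) (Nat.ble 4966 c)
noncomputable def Ptab_s_4963_4967 (c : Nat) : Nat := @Bool.rec (fun _ => Nat) (Ptab_s_4963_4965 c) (Ptab_s_4965_4967 c) (Nat.ble 4965 c)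
noncomputable def Ptab_s_4967_4969 (c : Nat) : Nat := @Bool.rec (fun _ => Nat) (Ptab_4967) (Ptab_4968) (Nat.ble 4968 c)
noncomputable def Ptab_s_4969_4971 (c : Nat) : Nat := @Bool.rec (fun _ => Nat) (Ptab_4969) (Ptab_4970) (Nat.ble 4970 c)
noncomputable def Ptab_s_4967_4971 (c : Nat) : Nat := @Bool.rec (fun _ => Nat) (Ptab_s_4967_4969 c) (Ptab_s_4969_4971 c) (Nat.ble 4969 c)
noncomputable def Ptab_s_4963_4971 (c : Nat) : Nat := @Bool.rec (fun _ => Nat) (Ptab_s_4963_4967 c) (Ptab_s_4967_4971 c) (Nat.ble 4967 c)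
noncomputable def Ptab_s_4956_4971 (c : Nat) : Nat := @Bool.rec (fun _ => Nat) (Ptab_s_4956_4963 c) (Ptab_s_4963_4971 c) (Nat.ble 4963 c)
noncomputable def Ptab_s_4972_4974 (c : Nat) : Nat := @Bool.rec (fun _ => Nat) (Ptab_4972) (Ptab_4973) (Nat.ble 4973 c)
noncomputable def Ptab_s_4971_4974 (c : Nat) : Nat := @Bool.rec (fun _ => Nat) (Ptab_4971) (Ptab_s_4972_4974 c) (Nat.ble 4972 c)
noncomputable def Ptab_s_4974_4976 (c : Nat) : Nat := @Bool.rec (fun _ => Nat) (Ptab_4974) (Ptab_4975) (Nat.ble 4975 c)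
noncomputable def Ptab_s_4976_4978 (c : Nat) : Nat := @Bool.rec (fun _ => Nat) (Ptab_4976) (Ptab_4977) (Nat.ble 4977 c)
noncomputable def Ptab_s_4974_4978 (c : Nat) : Nat := @Bool.rec (fun _ => Nat) (Ptab_s_4974_4976 c) (Ptab_s_4976_4978 c) (Nat.ble 4976 c)
noncomputable def Ptab_s_4971_4978 (c : Nat) : Nat := @Bool.rec (fun _ => Nat) (Ptab_s_4971_4974 c) (Ptab_s_4974_4978 c) (Nat.ble 4974 c)
noncomputable def Ptab_s_4978_4980 (c : Nat) : Nat := @Bool.rec (fun _ => Nat) (Ptab_4978) (Ptab_4979) (Nat.ble 4979 c)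
noncomputable def Ptab_s_4980_4982 (c : Nat) : Nat := @Bool.rec (fun _ => Nat) (Ptab_4980) (Ptab_4981) (Nat.ble 4981 c)
noncomputable def Ptab_s_4978_4982 (c : Nat) : Nat := @Bool.rec (fun _ => Nat) (Ptab_s_4978_4980 c) (Ptab_s_4980_4982 c) (Nat.ble 4980 c)
noncomputable def Ptab_s_4982_4984 (c : Nat) : Nat := @Bool.rec (fun _ => Nat) (Ptab_4982) (Ptab_4983) (Nat.ble 4983 c)
noncomputable def Ptab_s_4984_4986 (c : Nat) : Nat := @Bool.rec (fun _ => Nat) (Ptab_4984) (Ptab_4985) (Nat.ble 4985 c)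
noncomputable def Ptab_s_4982_4986 (c : Nat) : Nat := @Bool.rec (fun _ => Nat) (Ptab_s_4982_4984 c) (Ptab_s_4984_4986 c) (Nat.ble 4984 c)
noncomputable def Ptab_s_4978_4986 (c : Nat) : Nat := @Bool.rec (fun _ => Nat) (Ptab_s_4978_4982 c) (Ptab_s_4982_4986 c) (Nat.ble 4982 c)
noncomputable def Ptab_s_4971_4986 (c : Nat) : Nat := @Bool.rec (fun _ => Nat) (Ptab_s_4971_4978 c) (Ptab_s_4978_4986 c) (Nat.ble 4978 c)
noncomputable def Ptab_s_4956_4986 (c : Nat) : Nat := @Bool.rec (fun _ => Nat) (Ptab_s_4956_4971 c) (Ptab_s_4971_4986 c) (Nat.ble 4971 c)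
noncomputable def Ptab_s_4987_4989 (c : Nat) : Nat := @Bool.rec (fun _ => Nat) (Ptab_4987) (Ptab_4988) (Nat.ble 4988 c)
noncomputable def Ptab_s_4986_4989 (c : Nat) : Nat := @Bool.rec (fun _ => Nat) (Ptab_4986) (Ptab_s_4987_4989 c) (Nat.ble 4987 c)
noncomputable def Ptab_s_4989_4991 (c : Nat) : Nat := @Bool.rec (fun _ => Nat) (Ptab_4989) (Ptab_4990) (Nat.ble 4990 c)
noncomputable def Ptab_s_4991_4993 (c : Nat) : Nat := @Bool.rec (fun _ => Nat) (Ptab_4991) (Ptab_4992) (Nat.ble 4992 c)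
noncomputable def Ptab_s_4989_4993 (c : Nat) : Nat := @Bool.rec (fun _ => Nat) (Ptab_s_4989_4991 c) (Ptab_s_4991_4993 c) (Nat.ble 4991 c)
noncomputable def Ptab_s_4986_4993 (c : Nat) : Nat := @Bool.rec (fun _ => Nat) (Ptab_s_4986_4989 c) (Ptab_s_4989_4993 c) (Nat.ble 4989 c)
noncomputable def Ptab_s_4993_4995 (c : Nat) : Nat := @Bool.rec (fun _ => Nat) (Ptab_4993) (Ptab_4994) (Nat.ble 4994 c)
noncomputable def Ptab_s_4995_4997 (c : Nat) : Nat := @Bool.rec (fun _ => Nat) (Ptab_4995) (Ptab_4996) (Nat.ble 4996 c)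
noncomputable def Ptab_s_4993_4997 (c : Nat) : Nat := @Bool.rec (fun _ => Nat) (Ptab_s_4993_4995 c) (Ptab_s_4995_4997 c) (Nat.ble 4995 c)
noncomputable def Ptab_s_4997_4999 (c : Nat) : Nat := @Bool.rec (fun _ => Nat) (Ptab_4997) (Ptab_4998) (Nat.ble 4998 c)
noncomputable def Ptab_s_4999_5001 (c : Nat) : Nat := @Bool.rec (fun _ => Nat) (Ptab_4999) (Ptab_5000) (Nat.ble 5000 c)
noncomputable def Ptab_s_4997_5001 (c : Nat) : Nat := @Bool.rec (fun _ => Nat) (Ptab_s_4997_4999 c) (Ptab_s_4999_5001 c) (Nat.ble 4999 c)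
noncomputable def Ptab_s_4993_5001 (c : Nat) : Nat := @Bool.rec (fun _ => Nat) (Ptab_s_4993_4997 c) (Ptab_s_4997_5001 c) (Nat.ble 4997 c)
noncomputable def Ptab_s_4986_5001 (c : Nat) : Nat := @Bool.rec (fun _ => Nat) (Ptab_s_4986_4993 c) (Ptab_s_4993_5001 c) (Nat.ble 4993 c)
noncomputable def Ptab_s_5001_5003 (c : Nat) : Nat := @Bool.rec (fun _ => Nat) (Ptab_5001) (Ptab_5002) (Nat.ble 5002 c)
noncomputable def Ptab_s_5003_5005 (c : Nat) : Nat := @Bool.rec (fun _ => Nat) (Ptab_5003) (Ptab_5004) (Nat.ble 5004 c)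
noncomputable def Ptab_s_5001_5005 (c : Nat) : Nat := @Bool.rec (fun _ => Nat) (Ptab_s_5001_5003 c) (Ptab_s_5003_5005 c) (Nat.ble 5003 c)
noncomputable def Ptab_s_5005_5007 (c : Nat) : Nat := @Bool.rec (fun _ => Nat) (Ptab_5005) (Ptab_5006) (Nat.ble 5006 c)
noncomputable def Ptab_s_5007_5009 (c : Nat) : Nat := @Bool.rec (fun _ => Nat) (Ptab_5007) (Ptab_5008) (Nat.ble 5008 c)
noncomputable def Ptab_s_5005_5009 (c : Nat) : Nat := @Bool.rec (fun _ => Nat) (Ptab_s_5005_5007 c) (Ptab_s_5007_5009 c) (Nat.ble 5007 c)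
noncomputable def Ptab_s_5001_5009 (c : Nat) : Nat := @Bool.rec (fun _ => Nat) (Ptab_s_5001_5005 c) (Ptab_s_5005_5009 c) (Nat.ble 5005 c)
noncomputable def Ptab_s_5009_5011 (c : Nat) : Nat := @Bool.rec (fun _ => Nat) (Ptab_5009) (Ptab_5010) (Nat.ble 5010 c)
noncomputable def Ptab_s_5011_5013 (c : Nat) : Nat := @Bool.rec (fun _ => Nat) (Ptab_5011) (Ptab_5012) (Nat.ble 5012 c)
noncomputable def Ptab_s_5009_5013 (c : Nat) : Nat := @Bool.rec (fun _ => Nat) (Ptab_s_5009_5011 c) (Ptab_s_5011_5013 c) (Nat.ble 5011 c)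
noncomputable def Ptab_s_5013_5015 (c : Nat) : Nat := @Bool.rec (fun _ => Nat) (Ptab_5013) (Ptab_5014) (Nat.ble 5014 c)
noncomputable def Ptab_s_5015_5017 (c : Nat) : Nat := @Bool.rec (fun _ => Nat) (Ptab_5015) (Ptab_5016) (Nat.ble 5016 c)
noncomputable def Ptab_s_5013_5017 (c : Nat) : Nat := @Bool.rec (fun _ => Nat) (Ptab_s_5013_5015 c) (Ptab_s_5015_5017 c) (Nat.ble 5015 c)
noncomputable def Ptab_s_5009_5017 (c : Nat) : Nat := @Bool.rec (fun _ => Nat) (Ptab_s_5009_5013 c) (Ptab_s_5013_5017 c) (Nat.ble 5013 c)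
noncomputable def Ptab_s_5001_5017 (c : Nat) : Nat := @Bool.rec (fun _ => Nat) (Ptab_s_5001_5009 c) (Ptab_s_5009_5017 c) (Nat.ble 5009 c)
noncomputable def Ptab_s_4986_5017 (c : Nat) : Nat := @Bool.rec (fun _ => Nat) (Ptab_s_4986_5001 c) (Ptab_s_5001_5017 c) (Nat.ble 5001 c)
noncomputable def Ptab_s_4956_5017 (c : Nat) : Nat := @Bool.rec (fun _ => Nat) (Ptab_s_4956_4986 c) (Ptab_s_4986_5017 c) (Nat.ble 4986 c)
noncomputable def Ptab_s_4895_5017 (c : Nat) : Nat := @Bool.rec (fun _ => Nat) (Ptab_s_4895_4956 c) (Ptab_s_4956_5017 c) (Nat.ble 4956 c)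
noncomputable def Ptab_s_5018_5020 (c : Nat) : Nat := @Bool.rec (fun _ => Nat) (Ptab_5018) (Ptab_5019) (Nat.ble 5019 c)
noncomputable def Ptab_s_5017_5020 (c : Nat) : Nat := @Bool.rec (fun _ => Nat) (Ptab_5017) (Ptab_s_5018_5020 c) (Nat.ble 5018 c)
noncomputable def Ptab_s_5020_5022 (c : Nat) : Nat := @Bool.rec (fun _ => Nat) (Ptab_5020) (Ptab_5021) (Nat.ble 5021 c)
noncomputable def Ptab_s_5022_5024 (c : Nat) : Nat := @Bool.rec (fun _ => Nat) (Ptab_5022) (Ptab_5023) (Nat.ble 5023 c)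
noncomputable def Ptab_s_5020_5024 (c : Nat) : Nat := @Bool.rec (fun _ => Nat) (Ptab_s_5020_5022 c) (Ptab_s_5022_5024 c) (Nat.ble 5022 c)
noncomputable def Ptab_s_5017_5024 (c : Nat) : Nat := @Bool.rec (fun _ => Nat) (Ptab_s_5017_5020 c) (Ptab_s_5020_5024 c) (Nat.ble 5020 c)
noncomputable def Ptab_s_5024_5026 (c : Nat) : Nat := @Bool.rec (fun _ => Nat) (Ptab_5024) (Ptab_5025) (Nat.ble 5025 c)
noncomputable def Ptab_s_5026_5028 (c : Nat) : Nat := @Bool.rec (fun _ => Nat) (Ptab_5026) (Ptab_5027) (Nat.ble 5027 c)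
noncomputable def Ptab_s_5024_5028 (c : Nat) : Nat := @Bool.rec (fun _ => Nat) (Ptab_s_5024_5026 c) (Ptab_s_5026_5028 c) (Nat.ble 5026 c)
noncomputable def Ptab_s_5028_5030 (c : Nat) : Nat := @Bool.rec (fun _ => Nat) (Ptab_5028) (Ptab_5029) (Nat.ble 5029 c)
noncomputable def Ptab_s_5030_5032 (c : Nat) : Nat := @Bool.rec (fun _ => Nat) (Ptab_5030) (Ptab_5031) (Nat.ble 5031 c)
noncomputable def Ptab_s_5028_5032 (c : Nat) : Nat := @Bool.rec (fun _ => Nat) (Ptab_s_5028_5030 c) (Ptab_s_5030_5032 c) (Nat.ble 5030 c)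
noncomputable def Ptab_s_5024_5032 (c : Nat) : Nat := @Bool.rec (fun _ => Nat) (Ptab_s_5024_5028 c) (Ptab_s_5028_5032 c) (Nat.ble 5028 c)
noncomputable def Ptab_s_5017_5032 (c : Nat) : Nat := @Bool.rec (fun _ => Nat) (Ptab_s_5017_5024 c) (Ptab_s_5024_5032 c) (Nat.ble 5024 c)
noncomputable def Ptab_s_5033_5035 (c : Nat) : Nat := @Bool.rec (fun _ => Nat) (Ptab_5033) (Ptab_5034) (Nat.ble 5034 c)
noncomputable def Ptab_s_5032_5035 (c : Nat) : Nat := @Bool.rec (fun _ => Nat) (Ptab_5032) (Ptab_s_5033_5035 c) (Nat.ble 5033 c)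
noncomputable def Ptab_s_5035_5037 (c : Nat) : Nat := @Bool.rec (fun _ => Nat) (Ptab_5035) (Ptab_5036) (Nat.ble 5036 c)
noncomputable def Ptab_s_5037_5039 (c : Nat) : Nat := @Bool.rec (fun _ => Nat) (Ptab_5037) (Ptab_5038) (Nat.ble 5038 c)
noncomputable def Ptab_s_5035_5039 (c : Nat) : Nat := @Bool.rec (fun _ => Nat) (Ptab_s_5035_5037 c) (Ptab_s_5037_5039 c) (Nat.ble 5037 c)
noncomputable def Ptab_s_5032_5039 (c : Nat) : Nat := @Bool.rec (fun _ => Nat) (Ptab_s_5032_5035 c) (Ptab_s_5035_5039 c) (Nat.ble 5035 c)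
noncomputable def Ptab_s_5039_5041 (c : Nat) : Nat := @Bool.rec (fun _ => Nat) (Ptab_5039) (Ptab_5040) (Nat.ble 5040 c)
noncomputable def Ptab_s_5041_5043 (c : Nat) : Nat := @Bool.rec (fun _ => Nat) (Ptab_5041) (Ptab_5042) (Nat.ble 5042 c)
noncomputable def Ptab_s_5039_5043 (c : Nat) : Nat := @Bool.rec (fun _ => Nat) (Ptab_s_5039_5041 c) (Ptab_s_5041_5043 c) (Nat.ble 5041 c)
noncomputable def Ptab_s_5043_5045 (c : Nat) : Nat := @Bool.rec (fun _ => Nat) (Ptab_5043) (Ptab_5044) (Nat.ble 5044 c)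
noncomputable def Ptab_s_5045_5047 (c : Nat) : Nat := @Bool.rec (fun _ => Nat) (Ptab_5045) (Ptab_5046) (Nat.ble 5046 c)
noncomputable def Ptab_s_5043_5047 (c : Nat) : Nat := @Bool.rec (fun _ => Nat) (Ptab_s_5043_5045 c) (Ptab_s_5045_5047 c) (Nat.ble 5045 c)
noncomputable def Ptab_s_5039_5047 (c : Nat) : Nat := @Bool.rec (fun _ => Nat) (Ptab_s_5039_5043 c) (Ptab_s_5043_5047 c) (Nat.ble 5043 c)
noncomputable def Ptab_s_5032_5047 (c : Nat) : Nat := @Bool.rec (fun _ => Nat) (Ptab_s_5032_5039 c) (Ptab_s_5039_5047 c) (Nat.ble 5039 c)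
noncomputable def Ptab_s_5017_5047 (c : Nat) : Nat := @Bool.rec (fun _ => Nat) (Ptab_s_5017_5032 c) (Ptab_s_5032_5047 c) (Nat.ble 5032 c)
noncomputable def Ptab_s_5048_5050 (c : Nat) : Nat := @Bool.rec (fun _ => Nat) (Ptab_5048) (Ptab_5049) (Nat.ble 5049 c)
noncomputable def Ptab_s_5047_5050 (c : Nat) : Nat := @Bool.rec (fun _ => Nat) (Ptab_5047) (Ptab_s_5048_5050 c) (Nat.ble 5048 c)
noncomputable def Ptab_s_5050_5052 (c : Nat) : Nat := @Bool.rec (fun _ => Nat) (Ptab_5050) (Ptab_5051) (Nat.ble 5051 c)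
noncomputable def Ptab_s_5052_5054 (c : Nat) : Nat := @Bool.rec (fun _ => Nat) (Ptab_5052) (Ptab_5053) (Nat.ble 5053 c)
noncomputable def Ptab_s_5050_5054 (c : Nat) : Nat := @Bool.rec (fun _ => Nat) (Ptab_s_5050_5052 c) (Ptab_s_5052_5054 c) (Nat.ble 5052 c)
noncomputable def Ptab_s_5047_5054 (c : Nat) : Nat := @Bool.rec (fun _ => Nat) (Ptab_s_5047_5050 c) (Ptab_s_5050_5054 c) (Nat.ble 5050 c)
noncomputable def Ptab_s_5054_5056 (c : Nat) : Nat := @Bool.rec (fun _ => Nat) (Ptab_5054) (Ptab_5055) (Nat.ble 5055 c)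
noncomputable def Ptab_s_5056_5058 (c : Nat) : Nat := @Bool.rec (fun _ => Nat) (Ptab_5056) (Ptab_5057) (Nat.ble 5057 c)
noncomputable def Ptab_s_5054_5058 (c : Nat) : Nat := @Bool.rec (fun _ => Nat) (Ptab_s_5054_5056 c) (Ptab_s_5056_5058 c) (Nat.ble 5056 c)
noncomputable def Ptab_s_5058_5060 (c : Nat) : Nat := @Bool.rec (fun _ => Nat) (Ptab_5058) (Ptab_5059) (Nat.ble 5059 c)
noncomputable def Ptab_s_5060_5062 (c : Nat) : Nat := @Bool.rec (fun _ => Nat) (Ptab_5060) (Ptab_5061) (Nat.ble 5061 c)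
noncomputable def Ptab_s_5058_5062 (c : Nat) : Nat := @Bool.rec (fun _ => Nat) (Ptab_s_5058_5060 c) (Ptab_s_5060_5062 c) (Nat.ble 5060 c)
noncomputable def Ptab_s_5054_5062 (c : Nat) : Nat := @Bool.rec (fun _ => Nat) (Ptab_s_5054_5058 c) (Ptab_s_5058_5062 c) (Nat.ble 5058 c)
noncomputable def Ptab_s_5047_5062 (c : Nat) : Nat := @Bool.rec (fun _ => Nat) (Ptab_s_5047_5054 c) (Ptab_s_5054_5062 c) (Nat.ble 5054 c)
noncomputable def Ptab_s_5062_5064 (c : Nat) : Nat := @Bool.rec (fun _ => Nat) (Ptab_5062) (Ptab_5063) (Nat.ble 5063 c)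
noncomputable def Ptab_s_5064_5066 (c : Nat) : Nat := @Bool.rec (fun _ => Nat) (Ptab_5064) (Ptab_5065) (Nat.ble 5065 c)
noncomputable def Ptab_s_5062_5066 (c : Nat) : Nat := @Bool.rec (fun _ => Nat) (Ptab_s_5062_5064 c) (Ptab_s_5064_5066 c) (Nat.ble 5064 c)
noncomputable def Ptab_s_5066_5068 (c : Nat) : Nat := @Bool.rec (fun _ => Nat) (Ptab_5066) (Ptab_5067) (Nat.ble 5067 c)
noncomputable def Ptab_s_5068_5070 (c : Nat) : Nat := @Bool.rec (fun _ => Nat) (Ptab_5068) (Ptab_5069) (Nat.ble 5069 c)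
noncomputable def Ptab_s_5066_5070 (c : Nat) : Nat := @Bool.rec (fun _ => Nat) (Ptab_s_5066_5068 c) (Ptab_s_5068_5070 c) (Nat.ble 5068 c)
noncomputable def Ptab_s_5062_5070 (c : Nat) : Nat := @Bool.rec (fun _ => Nat) (Ptab_s_5062_5066 c) (Ptab_s_5066_5070 c) (Nat.ble 5066 c)
noncomputable def Ptab_s_5070_5072 (c : Nat) : Nat := @Bool.rec (fun _ => Nat) (Ptab_5070) (Ptab_5071) (Nat.ble 5071 c)
noncomputable def Ptab_s_5072_5074 (c : Nat) : Nat := @Bool.rec (fun _ => Nat) (Ptab_5072) (Ptab_5073) (Nat.ble 5073 c)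
noncomputable def Ptab_s_5070_5074 (c : Nat) : Nat := @Bool.rec (fun _ => Nat) (Ptab_s_5070_5072 c) (Ptab_s_5072_5074 c) (Nat.ble 5072 c)
noncomputable def Ptab_s_5074_5076 (c : Nat) : Nat := @Bool.rec (fun _ => Nat) (Ptab_5074) (Ptab_5075) (Nat.ble 5075 c)
noncomputable def Ptab_s_5076_5078 (c : Nat) : Nat := @Bool.rec (fun _ => Nat) (Ptab_5076) (Ptab_5077) (Nat.ble 5077 c)
noncomputable def Ptab_s_5074_5078 (c : Nat) : Nat := @Bool.rec (fun _ => Nat) (Ptab_s_5074_5076 c) (Ptab_s_5076_5078 c) (Nat.ble 5076 c)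
noncomputable def Ptab_s_5070_5078 (c : Nat) : Nat := @Bool.rec (fun _ => Nat) (Ptab_s_5070_5074 c) (Ptab_s_5074_5078 c) (Nat.ble 5074 c)
noncomputable def Ptab_s_5062_5078 (c : Nat) : Nat := @Bool.rec (fun _ => Nat) (Ptab_s_5062_5070 c) (Ptab_s_5070_5078 c) (Nat.ble 5070 c)
noncomputable def Ptab_s_5047_5078 (c : Nat) : Nat := @Bool.rec (fun _ => Nat) (Ptab_s_5047_5062 c) (Ptab_s_5062_5078 c) (Nat.ble 5062 c)
noncomputable def Ptab_s_5017_5078 (c : Nat) : Nat := @Bool.rec (fun _ => Nat) (Ptab_s_5017_5047 c) (Ptab_s_5047_5078 c) (Nat.ble 5047 c)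
noncomputable def Ptab_s_5079_5081 (c : Nat) : Nat := @Bool.rec (fun _ => Nat) (Ptab_5079) (Ptab_5080) (Nat.ble 5080 c)
noncomputable def Ptab_s_5078_5081 (c : Nat) : Nat := @Bool.rec (fun _ => Nat) (Ptab_5078) (Ptab_s_5079_5081 c) (Nat.ble 5079 c)
noncomputable def Ptab_s_5081_5083 (c : Nat) : Nat := @Bool.rec (fun _ => Nat) (Ptab_5081) (Ptab_5082) (Nat.ble 5082 c)
noncomputable def Ptab_s_5083_5085 (c : Nat) : Nat := @Bool.rec (fun _ => Nat) (Ptab_5083) (Ptab_5084) (Nat.ble 5084 c)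
noncomputable def Ptab_s_5081_5085 (c : Nat) : Nat := @Bool.rec (fun _ => Nat) (Ptab_s_5081_5083 c) (Ptab_s_5083_5085 c) (Nat.ble 5083 c)
noncomputable def Ptab_s_5078_5085 (c : Nat) : Nat := @Bool.rec (fun _ => Nat) (Ptab_s_5078_5081 c) (Ptab_s_5081_5085 c) (Nat.ble 5081 c)
noncomputable def Ptab_s_5085_5087 (c : Nat) : Nat := @Bool.rec (fun _ => Nat) (Ptab_5085) (Ptab_5086) (Nat.ble 5086 c)
noncomputable def Ptab_s_5087_5089 (c : Nat) : Nat := @Bool.rec (fun _ => Nat) (Ptab_5087) (Ptab_5088) (Nat.ble 5088 c)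
noncomputable def Ptab_s_5085_5089 (c : Nat) : Nat := @Bool.rec (fun _ => Nat) (Ptab_s_5085_5087 c) (Ptab_s_5087_5089 c) (Nat.ble 5087 c)
noncomputable def Ptab_s_5089_5091 (c : Nat) : Nat := @Bool.rec (fun _ => Nat) (Ptab_5089) (Ptab_5090) (Nat.ble 5090 c)
noncomputable def Ptab_s_5091_5093 (c : Nat) : Nat := @Bool.rec (fun _ => Nat) (Ptab_5091) (Ptab_5092) (Nat.ble 5092 c)
noncomputable def Ptab_s_5089_5093 (c : Nat) : Nat := @Bool.rec (fun _ => Nat) (Ptab_s_5089_5091 c) (Ptab_s_5091_5093 c) (Nat.ble 5091 c)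
noncomputable def Ptab_s_5085_5093 (c : Nat) : Nat := @Bool.rec (fun _ => Nat) (Ptab_s_5085_5089 c) (Ptab_s_5089_5093 c) (Nat.ble 5089 c)
noncomputable def Ptab_s_5078_5093 (c : Nat) : Nat := @Bool.rec (fun _ => Nat) (Ptab_s_5078_5085 c) (Ptab_s_5085_5093 c) (Nat.ble 5085 c)
noncomputable def Ptab_s_5094_5096 (c : Nat) : Nat := @Bool.rec (fun _ => Nat) (Ptab_5094) (Ptab_5095) (Nat.ble 5095 c)
noncomputable def Ptab_s_5093_5096 (c : Nat) : Nat := @Bool.rec (fun _ => Nat) (Ptab_5093) (Ptab_s_5094_5096 c) (Nat.ble 5094 c)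
noncomputable def Ptab_s_5096_5098 (c : Nat) : Nat := @Bool.rec (fun _ => Nat) (Ptab_5096) (Ptab_5097) (Nat.ble 5097 c)
noncomputable def Ptab_s_5098_5100 (c : Nat) : Nat := @Bool.rec (fun _ => Nat) (Ptab_5098) (Ptab_5099) (Nat.ble 5099 c)
noncomputable def Ptab_s_5096_5100 (c : Nat) : Nat := @Bool.rec (fun _ => Nat) (Ptab_s_5096_5098 c) (Ptab_s_5098_5100 c) (Nat.ble 5098 c)
noncomputable def Ptab_s_5093_5100 (c : Nat) : Nat := @Bool.rec (fun _ => Nat) (Ptab_s_5093_5096 c) (Ptab_s_5096_5100 c) (Nat.ble 5096 c)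
noncomputable def Ptab_s_5100_5102 (c : Nat) : Nat := @Bool.rec (fun _ => Nat) (Ptab_5100) (Ptab_5101) (Nat.ble 5101 c)
noncomputable def Ptab_s_5102_5104 (c : Nat) : Nat := @Bool.rec (fun _ => Nat) (Ptab_5102) (Ptab_5103) (Nat.ble 5103 c)
noncomputable def Ptab_s_5100_5104 (c : Nat) : Nat := @Bool.rec (fun _ => Nat) (Ptab_s_5100_5102 c) (Ptab_s_5102_5104 c) (Nat.ble 5102 c)
noncomputable def Ptab_s_5104_5106 (c : Nat) : Nat := @Bool.rec (fun _ => Nat) (Ptab_5104) (Ptab_5105) (Nat.ble 5105 c)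
noncomputable def Ptab_s_5106_5108 (c : Nat) : Nat := @Bool.rec (fun _ => Nat) (Ptab_5106) (Ptab_5107) (Nat.ble 5107 c)
noncomputable def Ptab_s_5104_5108 (c : Nat) : Nat := @Bool.rec (fun _ => Nat) (Ptab_s_5104_5106 c) (Ptab_s_5106_5108 c) (Nat.ble 5106 c)
noncomputable def Ptab_s_5100_5108 (c : Nat) : Nat := @Bool.rec (fun _ => Nat) (Ptab_s_5100_5104 c) (Ptab_s_5104_5108 c) (Nat.ble 5104 c)
noncomputable def Ptab_s_5093_5108 (c : Nat) : Nat := @Bool.rec (fun _ => Nat) (Ptab_s_5093_5100 c) (Ptab_s_5100_5108 c) (Nat.ble 5100 c)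
noncomputable def Ptab_s_5078_5108 (c : Nat) : Nat := @Bool.rec (fun _ => Nat) (Ptab_s_5078_5093 c) (Ptab_s_5093_5108 c) (Nat.ble 5093 c)
noncomputable def Ptab_s_5109_5111 (c : Nat) : Nat := @Bool.rec (fun _ => Nat) (Ptab_5109) (Ptab_5110) (Nat.ble 5110 c)
noncomputable def Ptab_s_5108_5111 (c : Nat) : Nat := @Bool.rec (fun _ => Nat) (Ptab_5108) (Ptab_s_5109_5111 c) (Nat.ble 5109 c)
noncomputable def Ptab_s_5111_5113 (c : Nat) : Nat := @Bool.rec (fun _ => Nat) (Ptab_5111) (Ptab_5112) (Nat.ble 5112 c)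
noncomputable def Ptab_s_5113_5115 (c : Nat) : Nat := @Bool.rec (fun _ => Nat) (Ptab_5113) (Ptab_5114) (Nat.ble 5114 c)
noncomputable def Ptab_s_5111_5115 (c : Nat) : Nat := @Bool.rec (fun _ => Nat) (Ptab_s_5111_5113 c) (Ptab_s_5113_5115 c) (Nat.ble 5113 c)
noncomputable def Ptab_s_5108_5115 (c : Nat) : Nat := @Bool.rec (fun _ => Nat) (Ptab_s_5108_5111 c) (Ptab_s_5111_5115 c) (Nat.ble 5111 c)
noncomputable def Ptab_s_5115_5117 (c : Nat) : Nat := @Bool.rec (fun _ => Nat) (Ptab_5115) (Ptab_5116) (Nat.ble 5116 c)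
noncomputable def Ptab_s_5117_5119 (c : Nat) : Nat := @Bool.rec (fun _ => Nat) (Ptab_5117) (Ptab_5118) (Nat.ble 5118 c)
noncomputable def Ptab_s_5115_5119 (c : Nat) : Nat := @Bool.rec (fun _ => Nat) (Ptab_s_5115_5117 c) (Ptab_s_5117_5119 c) (Nat.ble 5117 c)
noncomputable def Ptab_s_5119_5121 (c : Nat) : Nat := @Bool.rec (fun _ => Nat) (Ptab_5119) (Ptab_5120) (Nat.ble 5120 c)
noncomputable def Ptab_s_5121_5123 (c : Nat) : Nat := @Bool.rec (fun _ => Nat) (Ptab_5121) (Ptab_5122) (Nat.ble 5122 c)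
noncomputable def Ptab_s_5119_5123 (c : Nat) : Nat := @Bool.rec (fun _ => Nat) (Ptab_s_5119_5121 c) (Ptab_s_5121_5123 c) (Nat.ble 5121 c)
noncomputable def Ptab_s_5115_5123 (c : Nat) : Nat := @Bool.rec (fun _ => Nat) (Ptab_s_5115_5119 c) (Ptab_s_5119_5123 c) (Nat.ble 5119 c)
noncomputable def Ptab_s_5108_5123 (c : Nat) : Nat := @Bool.rec (fun _ => Nat) (Ptab_s_5108_5115 c) (Ptab_s_5115_5123 c) (Nat.ble 5115 c)
noncomputable def Ptab_s_5123_5125 (c : Nat) : Nat := @Bool.rec (fun _ => Nat) (Ptab_5123) (Ptab_5124) (Nat.ble 5124 c)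
noncomputable def Ptab_s_5125_5127 (c : Nat) : Nat := @Bool.rec (fun _ => Nat) (Ptab_5125) (Ptab_5126) (Nat.ble 5126 c)
noncomputable def Ptab_s_5123_5127 (c : Nat) : Nat := @Bool.rec (fun _ => Nat) (Ptab_s_5123_5125 c) (Ptab_s_5125_5127 c) (Nat.ble 5125 c)
noncomputable def Ptab_s_5127_5129 (c : Nat) : Nat := @Bool.rec (fun _ => Nat) (Ptab_5127) (Ptab_5128) (Nat.ble 5128 c)
noncomputable def Ptab_s_5129_5131 (c : Nat) : Nat := @Bool.rec (fun _ => Nat) (Ptab_5129) (Ptab_5130) (Nat.ble 5130 c)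
noncomputable def Ptab_s_5127_5131 (c : Nat) : Nat := @Bool.rec (fun _ => Nat) (Ptab_s_5127_5129 c) (Ptab_s_5129_5131 c) (Nat.ble 5129 c)
noncomputable def Ptab_s_5123_5131 (c : Nat) : Nat := @Bool.rec (fun _ => Nat) (Ptab_s_5123_5127 c) (Ptab_s_5127_5131 c) (Nat.ble 5127 c)
noncomputable def Ptab_s_5131_5133 (c : Nat) : Nat := @Bool.rec (fun _ => Nat) (Ptab_5131) (Ptab_5132) (Nat.ble 5132 c)
noncomputable def Ptab_s_5133_5135 (c : Nat) : Nat := @Bool.rec (fun _ => Nat) (Ptab_5133) (Ptab_5134) (Nat.ble 5134 c)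
noncomputable def Ptab_s_5131_5135 (c : Nat) : Nat := @Bool.rec (fun _ => Nat) (Ptab_s_5131_5133 c) (Ptab_s_5133_5135 c) (Nat.ble 5133 c)
noncomputable def Ptab_s_5135_5137 (c : Nat) : Nat := @Bool.rec (fun _ => Nat) (Ptab_5135) (Ptab_5136) (Nat.ble 5136 c)
noncomputable def Ptab_s_5137_5139 (c : Nat) : Nat := @Bool.rec (fun _ => Nat) (Ptab_5137) (Ptab_5138) (Nat.ble 5138 c)
noncomputable def Ptab_s_5135_5139 (c : Nat) : Nat := @Bool.rec (fun _ => Nat) (Ptab_s_5135_5137 c) (Ptab_s_5137_5139 c) (Nat.ble 5137 c)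
noncomputable def Ptab_s_5131_5139 (c : Nat) : Nat := @Bool.rec (fun _ => Nat) (Ptab_s_5131_5135 c) (Ptab_s_5135_5139 c) (Nat.ble 5135 c)
noncomputable def Ptab_s_5123_5139 (c : Nat) : Nat := @Bool.rec (fun _ => Nat) (Ptab_s_5123_5131 c) (Ptab_s_5131_5139 c) (Nat.ble 5131 c)
noncomputable def Ptab_s_5108_5139 (c : Nat) : Nat := @Bool.rec (fun _ => Nat) (Ptab_s_5108_5123 c) (Ptab_s_5123_5139 c) (Nat.ble 5123 c)
noncomputable def Ptab_s_5078_5139 (c : Nat) : Nat := @Bool.rec (fun _ => Nat) (Ptab_s_5078_5108 c) (Ptab_s_5108_5139 c) (Nat.ble 5108 c)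
noncomputable def Ptab_s_5017_5139 (c : Nat) : Nat := @Bool.rec (fun _ => Nat) (Ptab_s_5017_5078 c) (Ptab_s_5078_5139 c) (Nat.ble 5078 c)
noncomputable def Ptab_s_4895_5139 (c : Nat) : Nat := @Bool.rec (fun _ => Nat) (Ptab_s_4895_5017 c) (Ptab_s_5017_5139 c) (Nat.ble 5017 c)
noncomputable def Ptab_s_5140_5142 (c : Nat) : Nat := @Bool.rec (fun _ => Nat) (Ptab_5140) (Ptab_5141) (Nat.ble 5141 c)
noncomputable def Ptab_s_5139_5142 (c : Nat) : Nat := @Bool.rec (fun _ => Nat) (Ptab_5139) (Ptab_s_5140_5142 c) (Nat.ble 5140 c)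
noncomputable def Ptab_s_5142_5144 (c : Nat) : Nat := @Bool.rec (fun _ => Nat) (Ptab_5142) (Ptab_5143) (Nat.ble 5143 c)
noncomputable def Ptab_s_5144_5146 (c : Nat) : Nat := @Bool.rec (fun _ => Nat) (Ptab_5144) (Ptab_5145) (Nat.ble 5145 c)
noncomputable def Ptab_s_5142_5146 (c : Nat) : Nat := @Bool.rec (fun _ => Nat) (Ptab_s_5142_5144 c) (Ptab_s_5144_5146 c) (Nat.ble 5144 c)
noncomputable def Ptab_s_5139_5146 (c : Nat) : Nat := @Bool.rec (fun _ => Nat) (Ptab_s_5139_5142 c) (Ptab_s_5142_5146 c) (Nat.ble 5142 c)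
noncomputable def Ptab_s_5146_5148 (c : Nat) : Nat := @Bool.rec (fun _ => Nat) (Ptab_5146) (Ptab_5147) (Nat.ble 5147 c)
noncomputable def Ptab_s_5148_5150 (c : Nat) : Nat := @Bool.rec (fun _ => Nat) (Ptab_5148) (Ptab_5149) (Nat.ble 5149 c)
noncomputable def Ptab_s_5146_5150 (c : Nat) : Nat := @Bool.rec (fun _ => Nat) (Ptab_s_5146_5148 c) (Ptab_s_5148_5150 c) (Nat.ble 5148 c)
noncomputable def Ptab_s_5150_5152 (c : Nat) : Nat := @Bool.rec (fun _ => Nat) (Ptab_5150) (Ptab_5151) (Nat.ble 5151 c)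
noncomputable def Ptab_s_5152_5154 (c : Nat) : Nat := @Bool.rec (fun _ => Nat) (Ptab_5152) (Ptab_5153) (Nat.ble 5153 c)
noncomputable def Ptab_s_5150_5154 (c : Nat) : Nat := @Bool.rec (fun _ => Nat) (Ptab_s_5150_5152 c) (Ptab_s_5152_5154 c) (Nat.ble 5152 c)
noncomputable def Ptab_s_5146_5154 (c : Nat) : Nat := @Bool.rec (fun _ => Nat) (Ptab_s_5146_5150 c) (Ptab_s_5150_5154 c) (Nat.ble 5150 c)
noncomputable def Ptab_s_5139_5154 (c : Nat) : Nat := @Bool.rec (fun _ => Nat) (Ptab_s_5139_5146 c) (Ptab_s_5146_5154 c) (Nat.ble 5146 c)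
noncomputable def Ptab_s_5155_5157 (c : Nat) : Nat := @Bool.rec (fun _ => Nat) (Ptab_5155) (Ptab_5156) (Nat.ble 5156 c)
noncomputable def Ptab_s_5154_5157 (c : Nat) : Nat := @Bool.rec (fun _ => Nat) (Ptab_5154) (Ptab_s_5155_5157 c) (Nat.ble 5155 c)
noncomputable def Ptab_s_5157_5159 (c : Nat) : Nat := @Bool.rec (fun _ => Nat) (Ptab_5157) (Ptab_5158) (Nat.ble 5158 c)
noncomputable def Ptab_s_5159_5161 (c : Nat) : Nat := @Bool.rec (fun _ => Nat) (Ptab_5159) (Ptab_5160) (Nat.ble 5160 c)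
noncomputable def Ptab_s_5157_5161 (c : Nat) : Nat := @Bool.rec (fun _ => Nat) (Ptab_s_5157_5159 c) (Ptab_s_5159_5161 c) (Nat.ble 5159 c)
noncomputable def Ptab_s_5154_5161 (c : Nat) : Nat := @Bool.rec (fun _ => Nat) (Ptab_s_5154_5157 c) (Ptab_s_5157_5161 c) (Nat.ble 5157 c)
noncomputable def Ptab_s_5161_5163 (c : Nat) : Nat := @Bool.rec (fun _ => Nat) (Ptab_5161) (Ptab_5162) (Nat.ble 5162 c)
noncomputable def Ptab_s_5163_5165 (c : Nat) : Nat := @Bool.rec (fun _ => Nat) (Ptab_5163) (Ptab_5164) (Nat.ble 5164 c)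
noncomputable def Ptab_s_5161_5165 (c : Nat) : Nat := @Bool.rec (fun _ => Nat) (Ptab_s_5161_5163 c) (Ptab_s_5163_5165 c) (Nat.ble 5163 c)
noncomputable def Ptab_s_5165_5167 (c : Nat) : Nat := @Bool.rec (fun _ => Nat) (Ptab_5165) (Ptab_5166) (Nat.ble 5166 c)
noncomputable def Ptab_s_5167_5169 (c : Nat) : Nat := @Bool.rec (fun _ => Nat) (Ptab_5167) (Ptab_5168) (Nat.ble 5168 c)
noncomputable def Ptab_s_5165_5169 (c : Nat) : Nat := @Bool.rec (fun _ => Nat) (Ptab_s_5165_5167 c) (Ptab_s_5167_5169 c) (Nat.ble 5167 c)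
noncomputable def Ptab_s_5161_5169 (c : Nat) : Nat := @Bool.rec (fun _ => Nat) (Ptab_s_5161_5165 c) (Ptab_s_5165_5169 c) (Nat.ble 5165 c)
noncomputable def Ptab_s_5154_5169 (c : Nat) : Nat := @Bool.rec (fun _ => Nat) (Ptab_s_5154_5161 c) (Ptab_s_5161_5169 c) (Nat.ble 5161 c)
noncomputable def Ptab_s_5139_5169 (c : Nat) : Nat := @Bool.rec (fun _ => Nat) (Ptab_s_5139_5154 c) (Ptab_s_5154_5169 c) (Nat.ble 5154 c)
noncomputable def Ptab_s_5170_5172 (c : Nat) : Nat := @Bool.rec (fun _ => Nat) (Ptab_5170) (Ptab_5171) (Nat.ble 5171 c)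
noncomputable def Ptab_s_5169_5172 (c : Nat) : Nat := @Bool.rec (fun _ => Nat) (Ptab_5169) (Ptab_s_5170_5172 c) (Nat.ble 5170 c)
noncomputable def Ptab_s_5172_5174 (c : Nat) : Nat := @Bool.rec (fun _ => Nat) (Ptab_5172) (Ptab_5173) (Nat.ble 5173 c)
noncomputable def Ptab_s_5174_5176 (c : Nat) : Nat := @Bool.rec (fun _ => Nat) (Ptab_5174) (Ptab_5175) (Nat.ble 5175 c)
noncomputable def Ptab_s_5172_5176 (c : Nat) : Nat := @Bool.rec (fun _ => Nat) (Ptab_s_5172_5174 c) (Ptab_s_5174_5176 c) (Nat.ble 5174 c)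
noncomputable def Ptab_s_5169_5176 (c : Nat) : Nat := @Bool.rec (fun _ => Nat) (Ptab_s_5169_5172 c) (Ptab_s_5172_5176 c) (Nat.ble 5172 c)
noncomputable def Ptab_s_5176_5178 (c : Nat) : Nat := @Bool.rec (fun _ => Nat) (Ptab_5176) (Ptab_5177) (Nat.ble 5177 c)
noncomputable def Ptab_s_5178_5180 (c : Nat) : Nat := @Bool.rec (fun _ => Nat) (Ptab_5178) (Ptab_5179) (Nat.ble 5179 c)
noncomputable def Ptab_s_5176_5180 (c : Nat) : Nat := @Bool.rec (fun _ => Nat) (Ptab_s_5176_5178 c) (Ptab_s_5178_5180 c) (Nat.ble 5178 c)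
noncomputable def Ptab_s_5180_5182 (c : Nat) : Nat := @Bool.rec (fun _ => Nat) (Ptab_5180) (Ptab_5181) (Nat.ble 5181 c)
noncomputable def Ptab_s_5182_5184 (c : Nat) : Nat := @Bool.rec (fun _ => Nat) (Ptab_5182) (Ptab_5183) (Nat.ble 5183 c)
noncomputable def Ptab_s_5180_5184 (c : Nat) : Nat := @Bool.rec (fun _ => Nat) (Ptab_s_5180_5182 c) (Ptab_s_5182_5184 c) (Nat.ble 5182 c)
noncomputable def Ptab_s_5176_5184 (c : Nat) : Nat := @Bool.rec (fun _ => Nat) (Ptab_s_5176_5180 c) (Ptab_s_5180_5184 c) (Nat.ble 5180 c)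
noncomputable def Ptab_s_5169_5184 (c : Nat) : Nat := @Bool.rec (fun _ => Nat) (Ptab_s_5169_5176 c) (Ptab_s_5176_5184 c) (Nat.ble 5176 c)
noncomputable def Ptab_s_5184_5186 (c : Nat) : Nat := @Bool.rec (fun _ => Nat) (Ptab_5184) (Ptab_5185) (Nat.ble 5185 c)
noncomputable def Ptab_s_5186_5188 (c : Nat) : Nat := @Bool.rec (fun _ => Nat) (Ptab_5186) (Ptab_5187) (Nat.ble 5187 c)
noncomputable def Ptab_s_5184_5188 (c : Nat) : Nat := @Bool.rec (fun _ => Nat) (Ptab_s_5184_5186 c) (Ptab_s_5186_5188 c) (Nat.ble 5186 c)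
noncomputable def Ptab_s_5188_5190 (c : Nat) : Nat := @Bool.rec (fun _ => Nat) (Ptab_5188) (Ptab_5189) (Nat.ble 5189 c)
noncomputable def Ptab_s_5190_5192 (c : Nat) : Nat := @Bool.rec (fun _ => Nat) (Ptab_5190) (Ptab_5191) (Nat.ble 5191 c)
noncomputable def Ptab_s_5188_5192 (c : Nat) : Nat := @Bool.rec (fun _ => Nat) (Ptab_s_5188_5190 c) (Ptab_s_5190_5192 c) (Nat.ble 5190 c)
noncomputable def Ptab_s_5184_5192 (c : Nat) : Nat := @Bool.rec (fun _ => Nat) (Ptab_s_5184_5188 c) (Ptab_s_5188_5192 c) (Nat.ble 5188 c)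
noncomputable def Ptab_s_5192_5194 (c : Nat) : Nat := @Bool.rec (fun _ => Nat) (Ptab_5192) (Ptab_5193) (Nat.ble 5193 c)
noncomputable def Ptab_s_5194_5196 (c : Nat) : Nat := @Bool.rec (fun _ => Nat) (Ptab_5194) (Ptab_5195) (Nat.ble 5195 c)
noncomputable def Ptab_s_5192_5196 (c : Nat) : Nat := @Bool.rec (fun _ => Nat) (Ptab_s_5192_5194 c) (Ptab_s_5194_5196 c) (Nat.ble 5194 c)
noncomputable def Ptab_s_5196_5198 (c : Nat) : Nat := @Bool.rec (fun _ => Nat) (Ptab_5196) (Ptab_5197) (Nat.ble 5197 c)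
noncomputable def Ptab_s_5198_5200 (c : Nat) : Nat := @Bool.rec (fun _ => Nat) (Ptab_5198) (Ptab_5199) (Nat.ble 5199 c)
noncomputable def Ptab_s_5196_5200 (c : Nat) : Nat := @Bool.rec (fun _ => Nat) (Ptab_s_5196_5198 c) (Ptab_s_5198_5200 c) (Nat.ble 5198 c)
noncomputable def Ptab_s_5192_5200 (c : Nat) : Nat := @Bool.rec (fun _ => Nat) (Ptab_s_5192_5196 c) (Ptab_s_5196_5200 c) (Nat.ble 5196 c)
noncomputable def Ptab_s_5184_5200 (c : Nat) : Nat := @Bool.rec (fun _ => Nat) (Ptab_s_5184_5192 c) (Ptab_s_5192_5200 c) (Nat.ble 5192 c)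
noncomputable def Ptab_s_5169_5200 (c : Nat) : Nat := @Bool.rec (fun _ => Nat) (Ptab_s_5169_5184 c) (Ptab_s_5184_5200 c) (Nat.ble 5184 c)
noncomputable def Ptab_s_5139_5200 (c : Nat) : Nat := @Bool.rec (fun _ => Nat) (Ptab_s_5139_5169 c) (Ptab_s_5169_5200 c) (Nat.ble 5169 c)
noncomputable def Ptab_s_5201_5203 (c : Nat) : Nat := @Bool.rec (fun _ => Nat) (Ptab_5201) (Ptab_5202) (Nat.ble 5202 c)
noncomputable def Ptab_s_5200_5203 (c : Nat) : Nat := @Bool.rec (fun _ => Nat) (Ptab_5200) (Ptab_s_5201_5203 c) (Nat.ble 5201 c)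
noncomputable def Ptab_s_5203_5205 (c : Nat) : Nat := @Bool.rec (fun _ => Nat) (Ptab_5203) (Ptab_5204) (Nat.ble 5204 c)
noncomputable def Ptab_s_5205_5207 (c : Nat) : Nat := @Bool.rec (fun _ => Nat) (Ptab_5205) (Ptab_5206) (Nat.ble 5206 c)
noncomputable def Ptab_s_5203_5207 (c : Nat) : Nat := @Bool.rec (fun _ => Nat) (Ptab_s_5203_5205 c) (Ptab_s_5205_5207 c) (Nat.ble 5205 c)
noncomputable def Ptab_s_5200_5207 (c : Nat) : Nat := @Bool.rec (fun _ => Nat) (Ptab_s_5200_5203 c) (Ptab_s_5203_5207 c) (Nat.ble 5203 c)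
noncomputable def Ptab_s_5207_5209 (c : Nat) : Nat := @Bool.rec (fun _ => Nat) (Ptab_5207) (Ptab_5208) (Nat.ble 5208 c)
noncomputable def Ptab_s_5209_5211 (c : Nat) : Nat := @Bool.rec (fun _ => Nat) (Ptab_5209) (Ptab_5210) (Nat.ble 5210 c)
noncomputable def Ptab_s_5207_5211 (c : Nat) : Nat := @Bool.rec (fun _ => Nat) (Ptab_s_5207_5209 c) (Ptab_s_5209_5211 c) (Nat.ble 5209 c)
noncomputable def Ptab_s_5211_5213 (c : Nat) : Nat := @Bool.rec (fun _ => Nat) (Ptab_5211) (Ptab_5212) (Nat.ble 5212 c)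
noncomputable def Ptab_s_5213_5215 (c : Nat) : Nat := @Bool.rec (fun _ => Nat) (Ptab_5213) (Ptab_5214) (Nat.ble 5214 c)
noncomputable def Ptab_s_5211_5215 (c : Nat) : Nat := @Bool.rec (fun _ => Nat) (Ptab_s_5211_5213 c) (Ptab_s_5213_5215 c) (Nat.ble 5213 c)
noncomputable def Ptab_s_5207_5215 (c : Nat) : Nat := @Bool.rec (fun _ => Nat) (Ptab_s_5207_5211 c) (Ptab_s_5211_5215 c) (Nat.ble 5211 c)
noncomputable def Ptab_s_5200_5215 (c : Nat) : Nat := @Bool.rec (fun _ => Nat) (Ptab_s_5200_5207 c) (Ptab_s_5207_5215 c) (Nat.ble 5207 c)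
noncomputable def Ptab_s_5216_5218 (c : Nat) : Nat := @Bool.rec (fun _ => Nat) (Ptab_5216) (Ptab_5217) (Nat.ble 5217 c)
noncomputable def Ptab_s_5215_5218 (c : Nat) : Nat := @Bool.rec (fun _ => Nat) (Ptab_5215) (Ptab_s_5216_5218 c) (Nat.ble 5216 c)
noncomputable def Ptab_s_5218_5220 (c : Nat) : Nat := @Bool.rec (fun _ => Nat) (Ptab_5218) (Ptab_5219) (Nat.ble 5219 c)
noncomputable def Ptab_s_5220_5222 (c : Nat) : Nat := @Bool.rec (fun _ => Nat) (Ptab_5220) (Ptab_5221) (Nat.ble 5221 c)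
noncomputable def Ptab_s_5218_5222 (c : Nat) : Nat := @Bool.rec (fun _ => Nat) (Ptab_s_5218_5220 c) (Ptab_s_5220_5222 c) (Nat.ble 5220 c)
noncomputable def Ptab_s_5215_5222 (c : Nat) : Nat := @Bool.rec (fun _ => Nat) (Ptab_s_5215_5218 c) (Ptab_s_5218_5222 c) (Nat.ble 5218 c)
noncomputable def Ptab_s_5222_5224 (c : Nat) : Nat := @Bool.rec (fun _ => Nat) (Ptab_5222) (Ptab_5223) (Nat.ble 5223 c)
noncomputable def Ptab_s_5224_5226 (c : Nat) : Nat := @Bool.rec (fun _ => Nat) (Ptab_5224) (Ptab_5225) (Nat.ble 5225 c)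
noncomputable def Ptab_s_5222_5226 (c : Nat) : Nat := @Bool.rec (fun _ => Nat) (Ptab_s_5222_5224 c) (Ptab_s_5224_5226 c) (Nat.ble 5224 c)
noncomputable def Ptab_s_5226_5228 (c : Nat) : Nat := @Bool.rec (fun _ => Nat) (Ptab_5226) (Ptab_5227) (Nat.ble 5227 c)
noncomputable def Ptab_s_5228_5230 (c : Nat) : Nat := @Bool.rec (fun _ => Nat) (Ptab_5228) (Ptab_5229) (Nat.ble 5229 c)
noncomputable def Ptab_s_5226_5230 (c : Nat) : Nat := @Bool.rec (fun _ => Nat) (Ptab_s_5226_5228 c) (Ptab_s_5228_5230 c) (Nat.ble 5228 c)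
noncomputable def Ptab_s_5222_5230 (c : Nat) : Nat := @Bool.rec (fun _ => Nat) (Ptab_s_5222_5226 c) (Ptab_s_5226_5230 c) (Nat.ble 5226 c)
noncomputable def Ptab_s_5215_5230 (c : Nat) : Nat := @Bool.rec (fun _ => Nat) (Ptab_s_5215_5222 c) (Ptab_s_5222_5230 c) (Nat.ble 5222 c)
noncomputable def Ptab_s_5200_5230 (c : Nat) : Nat := @Bool.rec (fun _ => Nat) (Ptab_s_5200_5215 c) (Ptab_s_5215_5230 c) (Nat.ble 5215 c)
noncomputable def Ptab_s_5231_5233 (c : Nat) : Nat := @Bool.rec (fun _ => Nat) (Ptab_5231) (Ptab_5232) (Nat.ble 5232 c)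
noncomputable def Ptab_s_5230_5233 (c : Nat) : Nat := @Bool.rec (fun _ => Nat) (Ptab_5230) (Ptab_s_5231_5233 c) (Nat.ble 5231 c)
noncomputable def Ptab_s_5233_5235 (c : Nat) : Nat := @Bool.rec (fun _ => Nat) (Ptab_5233) (Ptab_5234) (Nat.ble 5234 c)
noncomputable def Ptab_s_5235_5237 (c : Nat) : Nat := @Bool.rec (fun _ => Nat) (Ptab_5235) (Ptab_5236) (Nat.ble 5236 c)
noncomputable def Ptab_s_5233_5237 (c : Nat) : Nat := @Bool.rec (fun _ => Nat) (Ptab_s_5233_5235 c) (Ptab_s_5235_5237 c) (Nat.ble 5235 c)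
noncomputable def Ptab_s_5230_5237 (c : Nat) : Nat := @Bool.rec (fun _ => Nat) (Ptab_s_5230_5233 c) (Ptab_s_5233_5237 c) (Nat.ble 5233 c)
noncomputable def Ptab_s_5237_5239 (c : Nat) : Nat := @Bool.rec (fun _ => Nat) (Ptab_5237) (Ptab_5238) (Nat.ble 5238 c)
noncomputable def Ptab_s_5239_5241 (c : Nat) : Nat := @Bool.rec (fun _ => Nat) (Ptab_5239) (Ptab_5240) (Nat.ble 5240 c)
noncomputable def Ptab_s_5237_5241 (c : Nat) : Nat := @Bool.rec (fun _ => Nat) (Ptab_s_5237_5239 c) (Ptab_s_5239_5241 c) (Nat.ble 5239 c)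
noncomputable def Ptab_s_5241_5243 (c : Nat) : Nat := @Bool.rec (fun _ => Nat) (Ptab_5241) (Ptab_5242) (Nat.ble 5242 c)
noncomputable def Ptab_s_5243_5245 (c : Nat) : Nat := @Bool.rec (fun _ => Nat) (Ptab_5243) (Ptab_5244) (Nat.ble 5244 c)
noncomputable def Ptab_s_5241_5245 (c : Nat) : Nat := @Bool.rec (fun _ => Nat) (Ptab_s_5241_5243 c) (Ptab_s_5243_5245 c) (Nat.ble 5243 c)
noncomputable def Ptab_s_5237_5245 (c : Nat) : Nat := @Bool.rec (fun _ => Nat) (Ptab_s_5237_5241 c) (Ptab_s_5241_5245 c) (Nat.ble 5241 c)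
noncomputable def Ptab_s_5230_5245 (c : Nat) : Nat := @Bool.rec (fun _ => Nat) (Ptab_s_5230_5237 c) (Ptab_s_5237_5245 c) (Nat.ble 5237 c)
noncomputable def Ptab_s_5245_5247 (c : Nat) : Nat := @Bool.rec (fun _ => Nat) (Ptab_5245) (Ptab_5246) (Nat.ble 5246 c)
noncomputable def Ptab_s_5247_5249 (c : Nat) : Nat := @Bool.rec (fun _ => Nat) (Ptab_5247) (Ptab_5248) (Nat.ble 5248 c)
noncomputable def Ptab_s_5245_5249 (c : Nat) : Nat := @Bool.rec (fun _ => Nat) (Ptab_s_5245_5247 c) (Ptab_s_5247_5249 c) (Nat.ble 5247 c)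
noncomputable def Ptab_s_5249_5251 (c : Nat) : Nat := @Bool.rec (fun _ => Nat) (Ptab_5249) (Ptab_5250) (Nat.ble 5250 c)
noncomputable def Ptab_s_5251_5253 (c : Nat) : Nat := @Bool.rec (fun _ => Nat) (Ptab_5251) (Ptab_5252) (Nat.ble 5252 c)
noncomputable def Ptab_s_5249_5253 (c : Nat) : Nat := @Bool.rec (fun _ => Nat) (Ptab_s_5249_5251 c) (Ptab_s_5251_5253 c) (Nat.ble 5251 c)
noncomputable def Ptab_s_5245_5253 (c : Nat) : Nat := @Bool.rec (fun _ => Nat) (Ptab_s_5245_5249 c) (Ptab_s_5249_5253 c) (Nat.ble 5249 c)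
noncomputable def Ptab_s_5253_5255 (c : Nat) : Nat := @Bool.rec (fun _ => Nat) (Ptab_5253) (Ptab_5254) (Nat.ble 5254 c)
noncomputable def Ptab_s_5255_5257 (c : Nat) : Nat := @Bool.rec (fun _ => Nat) (Ptab_5255) (Ptab_5256) (Nat.ble 5256 c)
noncomputable def Ptab_s_5253_5257 (c : Nat) : Nat := @Bool.rec (fun _ => Nat) (Ptab_s_5253_5255 c) (Ptab_s_5255_5257 c) (Nat.ble 5255 c)
noncomputable def Ptab_s_5257_5259 (c : Nat) : Nat := @Bool.rec (fun _ => Nat) (Ptab_5257) (Ptab_5258) (Nat.ble 5258 c)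
noncomputable def Ptab_s_5259_5261 (c : Nat) : Nat := @Bool.rec (fun _ => Nat) (Ptab_5259) (Ptab_5260) (Nat.ble 5260 c)
noncomputable def Ptab_s_5257_5261 (c : Nat) : Nat := @Bool.rec (fun _ => Nat) (Ptab_s_5257_5259 c) (Ptab_s_5259_5261 c) (Nat.ble 5259 c)
noncomputable def Ptab_s_5253_5261 (c : Nat) : Nat := @Bool.rec (fun _ => Nat) (Ptab_s_5253_5257 c) (Ptab_s_5257_5261 c) (Nat.ble 5257 c)
noncomputable def Ptab_s_5245_5261 (c : Nat) : Nat := @Bool.rec (fun _ => Nat) (Ptab_s_5245_5253 c) (Ptab_s_5253_5261 c) (Nat.ble 5253 c)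
noncomputable def Ptab_s_5230_5261 (c : Nat) : Nat := @Bool.rec (fun _ => Nat) (Ptab_s_5230_5245 c) (Ptab_s_5245_5261 c) (Nat.ble 5245 c)
noncomputable def Ptab_s_5200_5261 (c : Nat) : Nat := @Bool.rec (fun _ => Nat) (Ptab_s_5200_5230 c) (Ptab_s_5230_5261 c) (Nat.ble 5230 c)
noncomputable def Ptab_s_5139_5261 (c : Nat) : Nat := @Bool.rec (fun _ => Nat) (Ptab_s_5139_5200 c) (Ptab_s_5200_5261 c) (Nat.ble 5200 c)
noncomputable def Ptab_s_5262_5264 (c : Nat) : Nat := @Bool.rec (fun _ => Nat) (Ptab_5262) (Ptab_5263) (Nat.ble 5263 c)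
noncomputable def Ptab_s_5261_5264 (c : Nat) : Nat := @Bool.rec (fun _ => Nat) (Ptab_5261) (Ptab_s_5262_5264 c) (Nat.ble 5262 c)
noncomputable def Ptab_s_5264_5266 (c : Nat) : Nat := @Bool.rec (fun _ => Nat) (Ptab_5264) (Ptab_5265) (Nat.ble 5265 c)
noncomputable def Ptab_s_5266_5268 (c : Nat) : Nat := @Bool.rec (fun _ => Nat) (Ptab_5266) (Ptab_5267) (Nat.ble 5267 c)
noncomputable def Ptab_s_5264_5268 (c : Nat) : Nat := @Bool.rec (fun _ => Nat) (Ptab_s_5264_5266 c) (Ptab_s_5266_5268 c) (Nat.ble 5266 c)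
noncomputable def Ptab_s_5261_5268 (c : Nat) : Nat := @Bool.rec (fun _ => Nat) (Ptab_s_5261_5264 c) (Ptab_s_5264_5268 c) (Nat.ble 5264 c)
noncomputable def Ptab_s_5268_5270 (c : Nat) : Nat := @Bool.rec (fun _ => Nat) (Ptab_5268) (Ptab_5269) (Nat.ble 5269 c)
noncomputable def Ptab_s_5270_5272 (c : Nat) : Nat := @Bool.rec (fun _ => Nat) (Ptab_5270) (Ptab_5271) (Nat.ble 5271 c)
noncomputable def Ptab_s_5268_5272 (c : Nat) : Nat := @Bool.rec (fun _ => Nat) (Ptab_s_5268_5270 c) (Ptab_s_5270_5272 c) (Nat.ble 5270 c)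
noncomputable def Ptab_s_5272_5274 (c : Nat) : Nat := @Bool.rec (fun _ => Nat) (Ptab_5272) (Ptab_5273) (Nat.ble 5273 c)
noncomputable def Ptab_s_5274_5276 (c : Nat) : Nat := @Bool.rec (fun _ => Nat) (Ptab_5274) (Ptab_5275) (Nat.ble 5275 c)
noncomputable def Ptab_s_5272_5276 (c : Nat) : Nat := @Bool.rec (fun _ => Nat) (Ptab_s_5272_5274 c) (Ptab_s_5274_5276 c) (Nat.ble 5274 c)
noncomputable def Ptab_s_5268_5276 (c : Nat) : Nat := @Bool.rec (fun _ => Nat) (Ptab_s_5268_5272 c) (Ptab_s_5272_5276 c) (Nat.ble 5272 c)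
noncomputable def Ptab_s_5261_5276 (c : Nat) : Nat := @Bool.rec (fun _ => Nat) (Ptab_s_5261_5268 c) (Ptab_s_5268_5276 c) (Nat.ble 5268 c)
noncomputable def Ptab_s_5277_5279 (c : Nat) : Nat := @Bool.rec (fun _ => Nat) (Ptab_5277) (Ptab_5278) (Nat.ble 5278 c)
noncomputable def Ptab_s_5276_5279 (c : Nat) : Nat := @Bool.rec (fun _ => Nat) (Ptab_5276) (Ptab_s_5277_5279 c) (Nat.ble 5277 c)
noncomputable def Ptab_s_5279_5281 (c : Nat) : Nat := @Bool.rec (fun _ => Nat) (Ptab_5279) (Ptab_5280) (Nat.ble 5280 c)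
noncomputable def Ptab_s_5281_5283 (c : Nat) : Nat := @Bool.rec (fun _ => Nat) (Ptab_5281) (Ptab_5282) (Nat.ble 5282 c)
noncomputable def Ptab_s_5279_5283 (c : Nat) : Nat := @Bool.rec (fun _ => Nat) (Ptab_s_5279_5281 c) (Ptab_s_5281_5283 c) (Nat.ble 5281 c)
noncomputable def Ptab_s_5276_5283 (c : Nat) : Nat := @Bool.rec (fun _ => Nat) (Ptab_s_5276_5279 c) (Ptab_s_5279_5283 c) (Nat.ble 5279 c)
noncomputable def Ptab_s_5283_5285 (c : Nat) : Nat := @Bool.rec (fun _ => Nat) (Ptab_5283) (Ptab_5284) (Nat.ble 5284 c)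
noncomputable def Ptab_s_5285_5287 (c : Nat) : Nat := @Bool.rec (fun _ => Nat) (Ptab_5285) (Ptab_5286) (Nat.ble 5286 c)
noncomputable def Ptab_s_5283_5287 (c : Nat) : Nat := @Bool.rec (fun _ => Nat) (Ptab_s_5283_5285 c) (Ptab_s_5285_5287 c) (Nat.ble 5285 c)
noncomputable def Ptab_s_5287_5289 (c : Nat) : Nat := @Bool.rec (fun _ => Nat) (Ptab_5287) (Ptab_5288) (Nat.ble 5288 c)
noncomputable def Ptab_s_5289_5291 (c : Nat) : Nat := @Bool.rec (fun _ => Nat) (Ptab_5289) (Ptab_5290) (Nat.ble 5290 c)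
noncomputable def Ptab_s_5287_5291 (c : Nat) : Nat := @Bool.rec (fun _ => Nat) (Ptab_s_5287_5289 c) (Ptab_s_5289_5291 c) (Nat.ble 5289 c)
noncomputable def Ptab_s_5283_5291 (c : Nat) : Nat := @Bool.rec (fun _ => Nat) (Ptab_s_5283_5287 c) (Ptab_s_5287_5291 c) (Nat.ble 5287 c)
noncomputable def Ptab_s_5276_5291 (c : Nat) : Nat := @Bool.rec (fun _ => Nat) (Ptab_s_5276_5283 c) (Ptab_s_5283_5291 c) (Nat.ble 5283 c)
noncomputable def Ptab_s_5261_5291 (c : Nat) : Nat := @Bool.rec (fun _ => Nat) (Ptab_s_5261_5276 c) (Ptab_s_5276_5291 c) (Nat.ble 5276 c)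
noncomputable def Ptab_s_5292_5294 (c : Nat) : Nat := @Bool.rec (fun _ => Nat) (Ptab_5292) (Ptab_5293) (Nat.ble 5293 c)
noncomputable def Ptab_s_5291_5294 (c : Nat) : Nat := @Bool.rec (fun _ => Nat) (Ptab_5291) (Ptab_s_5292_5294 c) (Nat.ble 5292 c)
noncomputable def Ptab_s_5294_5296 (c : Nat) : Nat := @Bool.rec (fun _ => Nat) (Ptab_5294) (Ptab_5295) (Nat.ble 5295 c)
noncomputable def Ptab_s_5296_5298 (c : Nat) : Nat := @Bool.rec (fun _ => Nat) (Ptab_5296) (Ptab_5297) (Nat.ble 5297 c)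
noncomputable def Ptab_s_5294_5298 (c : Nat) : Nat := @Bool.rec (fun _ => Nat) (Ptab_s_5294_5296 c) (Ptab_s_5296_5298 c) (Nat.ble 5296 c)
noncomputable def Ptab_s_5291_5298 (c : Nat) : Nat := @Bool.rec (fun _ => Nat) (Ptab_s_5291_5294 c) (Ptab_s_5294_5298 c) (Nat.ble 5294 c)
noncomputable def Ptab_s_5298_5300 (c : Nat) : Nat := @Bool.rec (fun _ => Nat) (Ptab_5298) (Ptab_5299) (Nat.ble 5299 c)
noncomputable def Ptab_s_5300_5302 (c : Nat) : Nat := @Bool.rec (fun _ => Nat) (Ptab_5300) (Ptab_5301) (Nat.ble 5301 c)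
noncomputable def Ptab_s_5298_5302 (c : Nat) : Nat := @Bool.rec (fun _ => Nat) (Ptab_s_5298_5300 c) (Ptab_s_5300_5302 c) (Nat.ble 5300 c)
noncomputable def Ptab_s_5302_5304 (c : Nat) : Nat := @Bool.rec (fun _ => Nat) (Ptab_5302) (Ptab_5303) (Nat.ble 5303 c)
noncomputable def Ptab_s_5304_5306 (c : Nat) : Nat := @Bool.rec (fun _ => Nat) (Ptab_5304) (Ptab_5305) (Nat.ble 5305 c)
noncomputable def Ptab_s_5302_5306 (c : Nat) : Nat := @Bool.rec (fun _ => Nat) (Ptab_s_5302_5304 c) (Ptab_s_5304_5306 c) (Nat.ble 5304 c)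
noncomputable def Ptab_s_5298_5306 (c : Nat) : Nat := @Bool.rec (fun _ => Nat) (Ptab_s_5298_5302 c) (Ptab_s_5302_5306 c) (Nat.ble 5302 c)
noncomputable def Ptab_s_5291_5306 (c : Nat) : Nat := @Bool.rec (fun _ => Nat) (Ptab_s_5291_5298 c) (Ptab_s_5298_5306 c) (Nat.ble 5298 c)
noncomputable def Ptab_s_5306_5308 (c : Nat) : Nat := @Bool.rec (fun _ => Nat) (Ptab_5306) (Ptab_5307) (Nat.ble 5307 c)
noncomputable def Ptab_s_5308_5310 (c : Nat) : Nat := @Bool.rec (fun _ => Nat) (Ptab_5308) (Ptab_5309) (Nat.ble 5309 c)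
noncomputable def Ptab_s_5306_5310 (c : Nat) : Nat := @Bool.rec (fun _ => Nat) (Ptab_s_5306_5308 c) (Ptab_s_5308_5310 c) (Nat.ble 5308 c)
noncomputable def Ptab_s_5310_5312 (c : Nat) : Nat := @Bool.rec (fun _ => Nat) (Ptab_5310) (Ptab_5311) (Nat.ble 5311 c)
noncomputable def Ptab_s_5312_5314 (c : Nat) : Nat := @Bool.rec (fun _ => Nat) (Ptab_5312) (Ptab_5313) (Nat.ble 5313 c)
noncomputable def Ptab_s_5310_5314 (c : Nat) : Nat := @Bool.rec (fun _ => Nat) (Ptab_s_5310_5312 c) (Ptab_s_5312_5314 c) (Nat.ble 5312 c)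
noncomputable def Ptab_s_5306_5314 (c : Nat) : Nat := @Bool.rec (fun _ => Nat) (Ptab_s_5306_5310 c) (Ptab_s_5310_5314 c) (Nat.ble 5310 c)
noncomputable def Ptab_s_5314_5316 (c : Nat) : Nat := @Bool.rec (fun _ => Nat) (Ptab_5314) (Ptab_5315) (Nat.ble 5315 c)
noncomputable def Ptab_s_5316_5318 (c : Nat) : Nat := @Bool.rec (fun _ => Nat) (Ptab_5316) (Ptab_5317) (Nat.ble 5317 c)
noncomputable def Ptab_s_5314_5318 (c : Nat) : Nat := @Bool.rec (fun _ => Nat) (Ptab_s_5314_5316 c) (Ptab_s_5316_5318 c) (Nat.ble 5316 c)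
noncomputable def Ptab_s_5318_5320 (c : Nat) : Nat := @Bool.rec (fun _ => Nat) (Ptab_5318) (Ptab_5319) (Nat.ble 5319 c)
noncomputable def Ptab_s_5320_5322 (c : Nat) : Nat := @Bool.rec (fun _ => Nat) (Ptab_5320) (Ptab_5321) (Nat.ble 5321 c)
noncomputable def Ptab_s_5318_5322 (c : Nat) : Nat := @Bool.rec (fun _ => Nat) (Ptab_s_5318_5320 c) (Ptab_s_5320_5322 c) (Nat.ble 5320 c)
noncomputable def Ptab_s_5314_5322 (c : Nat) : Nat := @Bool.rec (fun _ => Nat) (Ptab_s_5314_5318 c) (Ptab_s_5318_5322 c) (Nat.ble 5318 c)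
noncomputable def Ptab_s_5306_5322 (c : Nat) : Nat := @Bool.rec (fun _ => Nat) (Ptab_s_5306_5314 c) (Ptab_s_5314_5322 c) (Nat.ble 5314 c)
noncomputable def Ptab_s_5291_5322 (c : Nat) : Nat := @Bool.rec (fun _ => Nat) (Ptab_s_5291_5306 c) (Ptab_s_5306_5322 c) (Nat.ble 5306 c)
noncomputable def Ptab_s_5261_5322 (c : Nat) : Nat := @Bool.rec (fun _ => Nat) (Ptab_s_5261_5291 c) (Ptab_s_5291_5322 c) (Nat.ble 5291 c)
noncomputable def Ptab_s_5323_5325 (c : Nat) : Nat := @Bool.rec (fun _ => Nat) (Ptab_5323) (Ptab_5324) (Nat.ble 5324 c)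
noncomputable def Ptab_s_5322_5325 (c : Nat) : Nat := @Bool.rec (fun _ => Nat) (Ptab_5322) (Ptab_s_5323_5325 c) (Nat.ble 5323 c)
noncomputable def Ptab_s_5325_5327 (c : Nat) : Nat := @Bool.rec (fun _ => Nat) (Ptab_5325) (Ptab_5326) (Nat.ble 5326 c)
noncomputable def Ptab_s_5327_5329 (c : Nat) : Nat := @Bool.rec (fun _ => Nat) (Ptab_5327) (Ptab_5328) (Nat.ble 5328 c)
noncomputable def Ptab_s_5325_5329 (c : Nat) : Nat := @Bool.rec (fun _ => Nat) (Ptab_s_5325_5327 c) (Ptab_s_5327_5329 c) (Nat.ble 5327 c)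
noncomputable def Ptab_s_5322_5329 (c : Nat) : Nat := @Bool.rec (fun _ => Nat) (Ptab_s_5322_5325 c) (Ptab_s_5325_5329 c) (Nat.ble 5325 c)
noncomputable def Ptab_s_5329_5331 (c : Nat) : Nat := @Bool.rec (fun _ => Nat) (Ptab_5329) (Ptab_5330) (Nat.ble 5330 c)
noncomputable def Ptab_s_5331_5333 (c : Nat) : Nat := @Bool.rec (fun _ => Nat) (Ptab_5331) (Ptab_5332) (Nat.ble 5332 c)
noncomputable def Ptab_s_5329_5333 (c : Nat) : Nat := @Bool.rec (fun _ => Nat) (Ptab_s_5329_5331 c) (Ptab_s_5331_5333 c) (Nat.ble 5331 c)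
noncomputable def Ptab_s_5333_5335 (c : Nat) : Nat := @Bool.rec (fun _ => Nat) (Ptab_5333) (Ptab_5334) (Nat.ble 5334 c)
noncomputable def Ptab_s_5335_5337 (c : Nat) : Nat := @Bool.rec (fun _ => Nat) (Ptab_5335) (Ptab_5336) (Nat.ble 5336 c)
noncomputable def Ptab_s_5333_5337 (c : Nat) : Nat := @Bool.rec (fun _ => Nat) (Ptab_s_5333_5335 c) (Ptab_s_5335_5337 c) (Nat.ble 5335 c)
noncomputable def Ptab_s_5329_5337 (c : Nat) : Nat := @Bool.rec (fun _ => Nat) (Ptab_s_5329_5333 c) (Ptab_s_5333_5337 c) (Nat.ble 5333 c)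
noncomputable def Ptab_s_5322_5337 (c : Nat) : Nat := @Bool.rec (fun _ => Nat) (Ptab_s_5322_5329 c) (Ptab_s_5329_5337 c) (Nat.ble 5329 c)
noncomputable def Ptab_s_5337_5339 (c : Nat) : Nat := @Bool.rec (fun _ => Nat) (Ptab_5337) (Ptab_5338) (Nat.ble 5338 c)
noncomputable def Ptab_s_5339_5341 (c : Nat) : Nat := @Bool.rec (fun _ => Nat) (Ptab_5339) (Ptab_5340) (Nat.ble 5340 c)
noncomputable def Ptab_s_5337_5341 (c : Nat) : Nat := @Bool.rec (fun _ => Nat) (Ptab_s_5337_5339 c) (Ptab_s_5339_5341 c) (Nat.ble 5339 c)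
noncomputable def Ptab_s_5341_5343 (c : Nat) : Nat := @Bool.rec (fun _ => Nat) (Ptab_5341) (Ptab_5342) (Nat.ble 5342 c)
noncomputable def Ptab_s_5343_5345 (c : Nat) : Nat := @Bool.rec (fun _ => Nat) (Ptab_5343) (Ptab_5344) (Nat.ble 5344 c)
noncomputable def Ptab_s_5341_5345 (c : Nat) : Nat := @Bool.rec (fun _ => Nat) (Ptab_s_5341_5343 c) (Ptab_s_5343_5345 c) (Nat.ble 5343 c)
noncomputable def Ptab_s_5337_5345 (c : Nat) : Nat := @Bool.rec (fun _ => Nat) (Ptab_s_5337_5341 c) (Ptab_s_5341_5345 c) (Nat.ble 5341 c)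
noncomputable def Ptab_s_5345_5347 (c : Nat) : Nat := @Bool.rec (fun _ => Nat) (Ptab_5345) (Ptab_5346) (Nat.ble 5346 c)
noncomputable def Ptab_s_5347_5349 (c : Nat) : Nat := @Bool.rec (fun _ => Nat) (Ptab_5347) (Ptab_5348) (Nat.ble 5348 c)
noncomputable def Ptab_s_5345_5349 (c : Nat) : Nat := @Bool.rec (fun _ => Nat) (Ptab_s_5345_5347 c) (Ptab_s_5347_5349 c) (Nat.ble 5347 c)
noncomputable def Ptab_s_5349_5351 (c : Nat) : Nat := @Bool.rec (fun _ => Nat) (Ptab_5349) (Ptab_5350) (Nat.ble 5350 c)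
noncomputable def Ptab_s_5351_5353 (c : Nat) : Nat := @Bool.rec (fun _ => Nat) (Ptab_5351) (Ptab_5352) (Nat.ble 5352 c)
noncomputable def Ptab_s_5349_5353 (c : Nat) : Nat := @Bool.rec (fun _ => Nat) (Ptab_s_5349_5351 c) (Ptab_s_5351_5353 c) (Nat.ble 5351 c)
noncomputable def Ptab_s_5345_5353 (c : Nat) : Nat := @Bool.rec (fun _ => Nat) (Ptab_s_5345_5349 c) (Ptab_s_5349_5353 c) (Nat.ble 5349 c)
noncomputable def Ptab_s_5337_5353 (c : Nat) : Nat := @Bool.rec (fun _ => Nat) (Ptab_s_5337_5345 c) (Ptab_s_5345_5353 c) (Nat.ble 5345 c)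
noncomputable def Ptab_s_5322_5353 (c : Nat) : Nat := @Bool.rec (fun _ => Nat) (Ptab_s_5322_5337 c) (Ptab_s_5337_5353 c) (Nat.ble 5337 c)
noncomputable def Ptab_s_5354_5356 (c : Nat) : Nat := @Bool.rec (fun _ => Nat) (Ptab_5354) (Ptab_5355) (Nat.ble 5355 c)
noncomputable def Ptab_s_5353_5356 (c : Nat) : Nat := @Bool.rec (fun _ => Nat) (Ptab_5353) (Ptab_s_5354_5356 c) (Nat.ble 5354 c)
noncomputable def Ptab_s_5356_5358 (c : Nat) : Nat := @Bool.rec (fun _ => Nat) (Ptab_5356) (Ptab_5357) (Nat.ble 5357 c)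
noncomputable def Ptab_s_5358_5360 (c : Nat) : Nat := @Bool.rec (fun _ => Nat) (Ptab_5358) (Ptab_5359) (Nat.ble 5359 c)
noncomputable def Ptab_s_5356_5360 (c : Nat) : Nat := @Bool.rec (fun _ => Nat) (Ptab_s_5356_5358 c) (Ptab_s_5358_5360 c) (Nat.ble 5358 c)
noncomputable def Ptab_s_5353_5360 (c : Nat) : Nat := @Bool.rec (fun _ => Nat) (Ptab_s_5353_5356 c) (Ptab_s_5356_5360 c) (Nat.ble 5356 c)
noncomputable def Ptab_s_5360_5362 (c : Nat) : Nat := @Bool.rec (fun _ => Nat) (Ptab_5360) (Ptab_5361) (Nat.ble 5361 c)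
noncomputable def Ptab_s_5362_5364 (c : Nat) : Nat := @Bool.rec (fun _ => Nat) (Ptab_5362) (Ptab_5363) (Nat.ble 5363 c)
noncomputable def Ptab_s_5360_5364 (c : Nat) : Nat := @Bool.rec (fun _ => Nat) (Ptab_s_5360_5362 c) (Ptab_s_5362_5364 c) (Nat.ble 5362 c)
noncomputable def Ptab_s_5364_5366 (c : Nat) : Nat := @Bool.rec (fun _ => Nat) (Ptab_5364) (Ptab_5365) (Nat.ble 5365 c)
noncomputable def Ptab_s_5366_5368 (c : Nat) : Nat := @Bool.rec (fun _ => Nat) (Ptab_5366) (Ptab_5367) (Nat.ble 5367 c)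
noncomputable def Ptab_s_5364_5368 (c : Nat) : Nat := @Bool.rec (fun _ => Nat) (Ptab_s_5364_5366 c) (Ptab_s_5366_5368 c) (Nat.ble 5366 c)
noncomputable def Ptab_s_5360_5368 (c : Nat) : Nat := @Bool.rec (fun _ => Nat) (Ptab_s_5360_5364 c) (Ptab_s_5364_5368 c) (Nat.ble 5364 c)
noncomputable def Ptab_s_5353_5368 (c : Nat) : Nat := @Bool.rec (fun _ => Nat) (Ptab_s_5353_5360 c) (Ptab_s_5360_5368 c) (Nat.ble 5360 c)
noncomputable def Ptab_s_5368_5370 (c : Nat) : Nat := @Bool.rec (fun _ => Nat) (Ptab_5368) (Ptab_5369) (Nat.ble 5369 c)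
noncomputable def Ptab_s_5370_5372 (c : Nat) : Nat := @Bool.rec (fun _ => Nat) (Ptab_5370) (Ptab_5371) (Nat.ble 5371 c)
noncomputable def Ptab_s_5368_5372 (c : Nat) : Nat := @Bool.rec (fun _ => Nat) (Ptab_s_5368_5370 c) (Ptab_s_5370_5372 c) (Nat.ble 5370 c)
noncomputable def Ptab_s_5372_5374 (c : Nat) : Nat := @Bool.rec (fun _ => Nat) (Ptab_5372) (Ptab_5373) (Nat.ble 5373 c)
noncomputable def Ptab_s_5374_5376 (c : Nat) : Nat := @Bool.rec (fun _ => Nat) (Ptab_5374) (Ptab_5375) (Nat.ble 5375 c)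
noncomputable def Ptab_s_5372_5376 (c : Nat) : Nat := @Bool.rec (fun _ => Nat) (Ptab_s_5372_5374 c) (Ptab_s_5374_5376 c) (Nat.ble 5374 c)
noncomputable def Ptab_s_5368_5376 (c : Nat) : Nat := @Bool.rec (fun _ => Nat) (Ptab_s_5368_5372 c) (Ptab_s_5372_5376 c) (Nat.ble 5372 c)
noncomputable def Ptab_s_5376_5378 (c : Nat) : Nat := @Bool.rec (fun _ => Nat) (Ptab_5376) (Ptab_5377) (Nat.ble 5377 c)
noncomputable def Ptab_s_5378_5380 (c : Nat) : Nat := @Bool.rec (fun _ => Nat) (Ptab_5378) (Ptab_5379) (Nat.ble 5379 c)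
noncomputable def Ptab_s_5376_5380 (c : Nat) : Nat := @Bool.rec (fun _ => Nat) (Ptab_s_5376_5378 c) (Ptab_s_5378_5380 c) (Nat.ble 5378 c)
noncomputable def Ptab_s_5380_5382 (c : Nat) : Nat := @Bool.rec (fun _ => Nat) (Ptab_5380) (Ptab_5381) (Nat.ble 5381 c)
noncomputable def Ptab_s_5382_5384 (c : Nat) : Nat := @Bool.rec (fun _ => Nat) (Ptab_5382) (Ptab_5383) (Nat.ble 5383 c)
noncomputable def Ptab_s_5380_5384 (c : Nat) : Nat := @Bool.rec (fun _ => Nat) (Ptab_s_5380_5382 c) (Ptab_s_5382_5384 c) (Nat.ble 5382 c)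
noncomputable def Ptab_s_5376_5384 (c : Nat) : Nat := @Bool.rec (fun _ => Nat) (Ptab_s_5376_5380 c) (Ptab_s_5380_5384 c) (Nat.ble 5380 c)
noncomputable def Ptab_s_5368_5384 (c : Nat) : Nat := @Bool.rec (fun _ => Nat) (Ptab_s_5368_5376 c) (Ptab_s_5376_5384 c) (Nat.ble 5376 c)
noncomputable def Ptab_s_5353_5384 (c : Nat) : Nat := @Bool.rec (fun _ => Nat) (Ptab_s_5353_5368 c) (Ptab_s_5368_5384 c) (Nat.ble 5368 c)
noncomputable def Ptab_s_5322_5384 (c : Nat) : Nat := @Bool.rec (fun _ => Nat) (Ptab_s_5322_5353 c) (Ptab_s_5353_5384 c) (Nat.ble 5353 c)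
noncomputable def Ptab_s_5261_5384 (c : Nat) : Nat := @Bool.rec (fun _ => Nat) (Ptab_s_5261_5322 c) (Ptab_s_5322_5384 c) (Nat.ble 5322 c)
noncomputable def Ptab_s_5139_5384 (c : Nat) : Nat := @Bool.rec (fun _ => Nat) (Ptab_s_5139_5261 c) (Ptab_s_5261_5384 c) (Nat.ble 5261 c)
noncomputable def Ptab_s_4895_5384 (c : Nat) : Nat := @Bool.rec (fun _ => Nat) (Ptab_s_4895_5139 c) (Ptab_s_5139_5384 c) (Nat.ble 5139 c)
noncomputable def Ptab_s_5385_5387 (c : Nat) : Nat := @Bool.rec (fun _ => Nat) (Ptab_5385) (Ptab_5386) (Nat.ble 5386 c)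
noncomputable def Ptab_s_5384_5387 (c : Nat) : Nat := @Bool.rec (fun _ => Nat) (Ptab_5384) (Ptab_s_5385_5387 c) (Nat.ble 5385 c)
noncomputable def Ptab_s_5387_5389 (c : Nat) : Nat := @Bool.rec (fun _ => Nat) (Ptab_5387) (Ptab_5388) (Nat.ble 5388 c)
noncomputable def Ptab_s_5389_5391 (c : Nat) : Nat := @Bool.rec (fun _ => Nat) (Ptab_5389) (Ptab_5390) (Nat.ble 5390 c)
noncomputable def Ptab_s_5387_5391 (c : Nat) : Nat := @Bool.rec (fun _ => Nat) (Ptab_s_5387_5389 c) (Ptab_s_5389_5391 c) (Nat.ble 5389 c)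
noncomputable def Ptab_s_5384_5391 (c : Nat) : Nat := @Bool.rec (fun _ => Nat) (Ptab_s_5384_5387 c) (Ptab_s_5387_5391 c) (Nat.ble 5387 c)
noncomputable def Ptab_s_5391_5393 (c : Nat) : Nat := @Bool.rec (fun _ => Nat) (Ptab_5391) (Ptab_5392) (Nat.ble 5392 c)
noncomputable def Ptab_s_5393_5395 (c : Nat) : Nat := @Bool.rec (fun _ => Nat) (Ptab_5393) (Ptab_5394) (Nat.ble 5394 c)
noncomputable def Ptab_s_5391_5395 (c : Nat) : Nat := @Bool.rec (fun _ => Nat) (Ptab_s_5391_5393 c) (Ptab_s_5393_5395 c) (Nat.ble 5393 c)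
noncomputable def Ptab_s_5395_5397 (c : Nat) : Nat := @Bool.rec (fun _ => Nat) (Ptab_5395) (Ptab_5396) (Nat.ble 5396 c)
noncomputable def Ptab_s_5397_5399 (c : Nat) : Nat := @Bool.rec (fun _ => Nat) (Ptab_5397) (Ptab_5398) (Nat.ble 5398 c)
noncomputable def Ptab_s_5395_5399 (c : Nat) : Nat := @Bool.rec (fun _ => Nat) (Ptab_s_5395_5397 c) (Ptab_s_5397_5399 c) (Nat.ble 5397 c)
noncomputable def Ptab_s_5391_5399 (c : Nat) : Nat := @Bool.rec (fun _ => Nat) (Ptab_s_5391_5395 c) (Ptab_s_5395_5399 c) (Nat.ble 5395 c)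
noncomputable def Ptab_s_5384_5399 (c : Nat) : Nat := @Bool.rec (fun _ => Nat) (Ptab_s_5384_5391 c) (Ptab_s_5391_5399 c) (Nat.ble 5391 c)
noncomputable def Ptab_s_5400_5402 (c : Nat) : Nat := @Bool.rec (fun _ => Nat) (Ptab_5400) (Ptab_5401) (Nat.ble 5401 c)
noncomputable def Ptab_s_5399_5402 (c : Nat) : Nat := @Bool.rec (fun _ => Nat) (Ptab_5399) (Ptab_s_5400_5402 c) (Nat.ble 5400 c)
noncomputable def Ptab_s_5402_5404 (c : Nat) : Nat := @Bool.rec (fun _ => Nat) (Ptab_5402) (Ptab_5403) (Nat.ble 5403 c)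
noncomputable def Ptab_s_5404_5406 (c : Nat) : Nat := @Bool.rec (fun _ => Nat) (Ptab_5404) (Ptab_5405) (Nat.ble 5405 c)
noncomputable def Ptab_s_5402_5406 (c : Nat) : Nat := @Bool.rec (fun _ => Nat) (Ptab_s_5402_5404 c) (Ptab_s_5404_5406 c) (Nat.ble 5404 c)
noncomputable def Ptab_s_5399_5406 (c : Nat) : Nat := @Bool.rec (fun _ => Nat) (Ptab_s_5399_5402 c) (Ptab_s_5402_5406 c) (Nat.ble 5402 c)
noncomputable def Ptab_s_5406_5408 (c : Nat) : Nat := @Bool.rec (fun _ => Nat) (Ptab_5406) (Ptab_5407) (Nat.ble 5407 c)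
noncomputable def Ptab_s_5408_5410 (c : Nat) : Nat := @Bool.rec (fun _ => Nat) (Ptab_5408) (Ptab_5409) (Nat.ble 5409 c)
noncomputable def Ptab_s_5406_5410 (c : Nat) : Nat := @Bool.rec (fun _ => Nat) (Ptab_s_5406_5408 c) (Ptab_s_5408_5410 c) (Nat.ble 5408 c)
noncomputable def Ptab_s_5410_5412 (c : Nat) : Nat := @Bool.rec (fun _ => Nat) (Ptab_5410) (Ptab_5411) (Nat.ble 5411 c)
noncomputable def Ptab_s_5412_5414 (c : Nat) : Nat := @Bool.rec (fun _ => Nat) (Ptab_5412) (Ptab_5413) (Nat.ble 5413 c)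
noncomputable def Ptab_s_5410_5414 (c : Nat) : Nat := @Bool.rec (fun _ => Nat) (Ptab_s_5410_5412 c) (Ptab_s_5412_5414 c) (Nat.ble 5412 c)
noncomputable def Ptab_s_5406_5414 (c : Nat) : Nat := @Bool.rec (fun _ => Nat) (Ptab_s_5406_5410 c) (Ptab_s_5410_5414 c) (Nat.ble 5410 c)
noncomputable def Ptab_s_5399_5414 (c : Nat) : Nat := @Bool.rec (fun _ => Nat) (Ptab_s_5399_5406 c) (Ptab_s_5406_5414 c) (Nat.ble 5406 c)
noncomputable def Ptab_s_5384_5414 (c : Nat) : Nat := @Bool.rec (fun _ => Nat) (Ptab_s_5384_5399 c) (Ptab_s_5399_5414 c) (Nat.ble 5399 c)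
noncomputable def Ptab_s_5415_5417 (c : Nat) : Nat := @Bool.rec (fun _ => Nat) (Ptab_5415) (Ptab_5416) (Nat.ble 5416 c)
noncomputable def Ptab_s_5414_5417 (c : Nat) : Nat := @Bool.rec (fun _ => Nat) (Ptab_5414) (Ptab_s_5415_5417 c) (Nat.ble 5415 c)
noncomputable def Ptab_s_5417_5419 (c : Nat) : Nat := @Bool.rec (fun _ => Nat) (Ptab_5417) (Ptab_5418) (Nat.ble 5418 c)
noncomputable def Ptab_s_5419_5421 (c : Nat) : Nat := @Bool.rec (fun _ => Nat) (Ptab_5419) (Ptab_5420) (Nat.ble 5420 c)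
noncomputable def Ptab_s_5417_5421 (c : Nat) : Nat := @Bool.rec (fun _ => Nat) (Ptab_s_5417_5419 c) (Ptab_s_5419_5421 c) (Nat.ble 5419 c)
noncomputable def Ptab_s_5414_5421 (c : Nat) : Nat := @Bool.rec (fun _ => Nat) (Ptab_s_5414_5417 c) (Ptab_s_5417_5421 c) (Nat.ble 5417 c)
noncomputable def Ptab_s_5421_5423 (c : Nat) : Nat := @Bool.rec (fun _ => Nat) (Ptab_5421) (Ptab_5422) (Nat.ble 5422 c)
noncomputable def Ptab_s_5423_5425 (c : Nat) : Nat := @Bool.rec (fun _ => Nat) (Ptab_5423) (Ptab_5424) (Nat.ble 5424 c)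
noncomputable def Ptab_s_5421_5425 (c : Nat) : Nat := @Bool.rec (fun _ => Nat) (Ptab_s_5421_5423 c) (Ptab_s_5423_5425 c) (Nat.ble 5423 c)
noncomputable def Ptab_s_5425_5427 (c : Nat) : Nat := @Bool.rec (fun _ => Nat) (Ptab_5425) (Ptab_5426) (Nat.ble 5426 c)
noncomputable def Ptab_s_5427_5429 (c : Nat) : Nat := @Bool.rec (fun _ => Nat) (Ptab_5427) (Ptab_5428) (Nat.ble 5428 c)
noncomputable def Ptab_s_5425_5429 (c : Nat) : Nat := @Bool.rec (fun _ => Nat) (Ptab_s_5425_5427 c) (Ptab_s_5427_5429 c) (Nat.ble 5427 c)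
noncomputable def Ptab_s_5421_5429 (c : Nat) : Nat := @Bool.rec (fun _ => Nat) (Ptab_s_5421_5425 c) (Ptab_s_5425_5429 c) (Nat.ble 5425 c)
noncomputable def Ptab_s_5414_5429 (c : Nat) : Nat := @Bool.rec (fun _ => Nat) (Ptab_s_5414_5421 c) (Ptab_s_5421_5429 c) (Nat.ble 5421 c)
noncomputable def Ptab_s_5429_5431 (c : Nat) : Nat := @Bool.rec (fun _ => Nat) (Ptab_5429) (Ptab_5430) (Nat.ble 5430 c)
noncomputable def Ptab_s_5431_5433 (c : Nat) : Nat := @Bool.rec (fun _ => Nat) (Ptab_5431) (Ptab_5432) (Nat.ble 5432 c)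
noncomputable def Ptab_s_5429_5433 (c : Nat) : Nat := @Bool.rec (fun _ => Nat) (Ptab_s_5429_5431 c) (Ptab_s_5431_5433 c) (Nat.ble 5431 c)
noncomputable def Ptab_s_5433_5435 (c : Nat) : Nat := @Bool.rec (fun _ => Nat) (Ptab_5433) (Ptab_5434) (Nat.ble 5434 c)
noncomputable def Ptab_s_5435_5437 (c : Nat) : Nat := @Bool.rec (fun _ => Nat) (Ptab_5435) (Ptab_5436) (Nat.ble 5436 c)
noncomputable def Ptab_s_5433_5437 (c : Nat) : Nat := @Bool.rec (fun _ => Nat) (Ptab_s_5433_5435 c) (Ptab_s_5435_5437 c) (Nat.ble 5435 c)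
noncomputable def Ptab_s_5429_5437 (c : Nat) : Nat := @Bool.rec (fun _ => Nat) (Ptab_s_5429_5433 c) (Ptab_s_5433_5437 c) (Nat.ble 5433 c)
noncomputable def Ptab_s_5437_5439 (c : Nat) : Nat := @Bool.rec (fun _ => Nat) (Ptab_5437) (Ptab_5438) (Nat.ble 5438 c)
noncomputable def Ptab_s_5439_5441 (c : Nat) : Nat := @Bool.rec (fun _ => Nat) (Ptab_5439) (Ptab_5440) (Nat.ble 5440 c)
noncomputable def Ptab_s_5437_5441 (c : Nat) : Nat := @Bool.rec (fun _ => Nat) (Ptab_s_5437_5439 c) (Ptab_s_5439_5441 c) (Nat.ble 5439 c)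
noncomputable def Ptab_s_5441_5443 (c : Nat) : Nat := @Bool.rec (fun _ => Nat) (Ptab_5441) (Ptab_5442) (Nat.ble 5442 c)
noncomputable def Ptab_s_5443_5445 (c : Nat) : Nat := @Bool.rec (fun _ => Nat) (Ptab_5443) (Ptab_5444) (Nat.ble 5444 c)
noncomputable def Ptab_s_5441_5445 (c : Nat) : Nat := @Bool.rec (fun _ => Nat) (Ptab_s_5441_5443 c) (Ptab_s_5443_5445 c) (Nat.ble 5443 c)
noncomputable def Ptab_s_5437_5445 (c : Nat) : Nat := @Bool.rec (fun _ => Nat) (Ptab_s_5437_5441 c) (Ptab_s_5441_5445 c) (Nat.ble 5441 c)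
noncomputable def Ptab_s_5429_5445 (c : Nat) : Nat := @Bool.rec (fun _ => Nat) (Ptab_s_5429_5437 c) (Ptab_s_5437_5445 c) (Nat.ble 5437 c)
noncomputable def Ptab_s_5414_5445 (c : Nat) : Nat := @Bool.rec (fun _ => Nat) (Ptab_s_5414_5429 c) (Ptab_s_5429_5445 c) (Nat.ble 5429 c)
noncomputable def Ptab_s_5384_5445 (c : Nat) : Nat := @Bool.rec (fun _ => Nat) (Ptab_s_5384_5414 c) (Ptab_s_5414_5445 c) (Nat.ble 5414 c)
noncomputable def Ptab_s_5446_5448 (c : Nat) : Nat := @Bool.rec (fun _ => Nat) (Ptab_5446) (Ptab_5447) (Nat.ble 5447 c)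
noncomputable def Ptab_s_5445_5448 (c : Nat) : Nat := @Bool.rec (fun _ => Nat) (Ptab_5445) (Ptab_s_5446_5448 c) (Nat.ble 5446 c)
noncomputable def Ptab_s_5448_5450 (c : Nat) : Nat := @Bool.rec (fun _ => Nat) (Ptab_5448) (Ptab_5449) (Nat.ble 5449 c)
noncomputable def Ptab_s_5450_5452 (c : Nat) : Nat := @Bool.rec (fun _ => Nat) (Ptab_5450) (Ptab_5451) (Nat.ble 5451 c)
noncomputable def Ptab_s_5448_5452 (c : Nat) : Nat := @Bool.rec (fun _ => Nat) (Ptab_s_5448_5450 c) (Ptab_s_5450_5452 c) (Nat.ble 5450 c)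
noncomputable def Ptab_s_5445_5452 (c : Nat) : Nat := @Bool.rec (fun _ => Nat) (Ptab_s_5445_5448 c) (Ptab_s_5448_5452 c) (Nat.ble 5448 c)
noncomputable def Ptab_s_5452_5454 (c : Nat) : Nat := @Bool.rec (fun _ => Nat) (Ptab_5452) (Ptab_5453) (Nat.ble 5453 c)
noncomputable def Ptab_s_5454_5456 (c : Nat) : Nat := @Bool.rec (fun _ => Nat) (Ptab_5454) (Ptab_5455) (Nat.ble 5455 c)
noncomputable def Ptab_s_5452_5456 (c : Nat) : Nat := @Bool.rec (fun _ => Nat) (Ptab_s_5452_5454 c) (Ptab_s_5454_5456 c) (Nat.ble 5454 c)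
noncomputable def Ptab_s_5456_5458 (c : Nat) : Nat := @Bool.rec (fun _ => Nat) (Ptab_5456) (Ptab_5457) (Nat.ble 5457 c)
noncomputable def Ptab_s_5458_5460 (c : Nat) : Nat := @Bool.rec (fun _ => Nat) (Ptab_5458) (Ptab_5459) (Nat.ble 5459 c)
noncomputable def Ptab_s_5456_5460 (c : Nat) : Nat := @Bool.rec (fun _ => Nat) (Ptab_s_5456_5458 c) (Ptab_s_5458_5460 c) (Nat.ble 5458 c)
noncomputable def Ptab_s_5452_5460 (c : Nat) : Nat := @Bool.rec (fun _ => Nat) (Ptab_s_5452_5456 c) (Ptab_s_5456_5460 c) (Nat.ble 5456 c)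
noncomputable def Ptab_s_5445_5460 (c : Nat) : Nat := @Bool.rec (fun _ => Nat) (Ptab_s_5445_5452 c) (Ptab_s_5452_5460 c) (Nat.ble 5452 c)
noncomputable def Ptab_s_5461_5463 (c : Nat) : Nat := @Bool.rec (fun _ => Nat) (Ptab_5461) (Ptab_5462) (Nat.ble 5462 c)
noncomputable def Ptab_s_5460_5463 (c : Nat) : Nat := @Bool.rec (fun _ => Nat) (Ptab_5460) (Ptab_s_5461_5463 c) (Nat.ble 5461 c)
noncomputable def Ptab_s_5463_5465 (c : Nat) : Nat := @Bool.rec (fun _ => Nat) (Ptab_5463) (Ptab_5464) (Nat.ble 5464 c)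
noncomputable def Ptab_s_5465_5467 (c : Nat) : Nat := @Bool.rec (fun _ => Nat) (Ptab_5465) (Ptab_5466) (Nat.ble 5466 c)
noncomputable def Ptab_s_5463_5467 (c : Nat) : Nat := @Bool.rec (fun _ => Nat) (Ptab_s_5463_5465 c) (Ptab_s_5465_5467 c) (Nat.ble 5465 c)
noncomputable def Ptab_s_5460_5467 (c : Nat) : Nat := @Bool.rec (fun _ => Nat) (Ptab_s_5460_5463 c) (Ptab_s_5463_5467 c) (Nat.ble 5463 c)
noncomputable def Ptab_s_5467_5469 (c : Nat) : Nat := @Bool.rec (fun _ => Nat) (Ptab_5467) (Ptab_5468) (Nat.ble 5468 c)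
noncomputable def Ptab_s_5469_5471 (c : Nat) : Nat := @Bool.rec (fun _ => Nat) (Ptab_5469) (Ptab_5470) (Nat.ble 5470 c)
noncomputable def Ptab_s_5467_5471 (c : Nat) : Nat := @Bool.rec (fun _ => Nat) (Ptab_s_5467_5469 c) (Ptab_s_5469_5471 c) (Nat.ble 5469 c)
noncomputable def Ptab_s_5471_5473 (c : Nat) : Nat := @Bool.rec (fun _ => Nat) (Ptab_5471) (Ptab_5472) (Nat.ble 5472 c)
noncomputable def Ptab_s_5473_5475 (c : Nat) : Nat := @Bool.rec (fun _ => Nat) (Ptab_5473) (Ptab_5474) (Nat.ble 5474 c)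
noncomputable def Ptab_s_5471_5475 (c : Nat) : Nat := @Bool.rec (fun _ => Nat) (Ptab_s_5471_5473 c) (Ptab_s_5473_5475 c) (Nat.ble 5473 c)
noncomputable def Ptab_s_5467_5475 (c : Nat) : Nat := @Bool.rec (fun _ => Nat) (Ptab_s_5467_5471 c) (Ptab_s_5471_5475 c) (Nat.ble 5471 c)
noncomputable def Ptab_s_5460_5475 (c : Nat) : Nat := @Bool.rec (fun _ => Nat) (Ptab_s_5460_5467 c) (Ptab_s_5467_5475 c) (Nat.ble 5467 c)
noncomputable def Ptab_s_5445_5475 (c : Nat) : Nat := @Bool.rec (fun _ => Nat) (Ptab_s_5445_5460 c) (Ptab_s_5460_5475 c) (Nat.ble 5460 c)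
noncomputable def Ptab_s_5476_5478 (c : Nat) : Nat := @Bool.rec (fun _ => Nat) (Ptab_5476) (Ptab_5477) (Nat.ble 5477 c)
noncomputable def Ptab_s_5475_5478 (c : Nat) : Nat := @Bool.rec (fun _ => Nat) (Ptab_5475) (Ptab_s_5476_5478 c) (Nat.ble 5476 c)
noncomputable def Ptab_s_5478_5480 (c : Nat) : Nat := @Bool.rec (fun _ => Nat) (Ptab_5478) (Ptab_5479) (Nat.ble 5479 c)
noncomputable def Ptab_s_5480_5482 (c : Nat) : Nat := @Bool.rec (fun _ => Nat) (Ptab_5480) (Ptab_5481) (Nat.ble 5481 c)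
noncomputable def Ptab_s_5478_5482 (c : Nat) : Nat := @Bool.rec (fun _ => Nat) (Ptab_s_5478_5480 c) (Ptab_s_5480_5482 c) (Nat.ble 5480 c)
noncomputable def Ptab_s_5475_5482 (c : Nat) : Nat := @Bool.rec (fun _ => Nat) (Ptab_s_5475_5478 c) (Ptab_s_5478_5482 c) (Nat.ble 5478 c)
noncomputable def Ptab_s_5482_5484 (c : Nat) : Nat := @Bool.rec (fun _ => Nat) (Ptab_5482) (Ptab_5483) (Nat.ble 5483 c)
noncomputable def Ptab_s_5484_5486 (c : Nat) : Nat := @Bool.rec (fun _ => Nat) (Ptab_5484) (Ptab_5485) (Nat.ble 5485 c)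
noncomputable def Ptab_s_5482_5486 (c : Nat) : Nat := @Bool.rec (fun _ => Nat) (Ptab_s_5482_5484 c) (Ptab_s_5484_5486 c) (Nat.ble 5484 c)
noncomputable def Ptab_s_5486_5488 (c : Nat) : Nat := @Bool.rec (fun _ => Nat) (Ptab_5486) (Ptab_5487) (Nat.ble 5487 c)
noncomputable def Ptab_s_5488_5490 (c : Nat) : Nat := @Bool.rec (fun _ => Nat) (Ptab_5488) (Ptab_5489) (Nat.ble 5489 c)
noncomputable def Ptab_s_5486_5490 (c : Nat) : Nat := @Bool.rec (fun _ => Nat) (Ptab_s_5486_5488 c) (Ptab_s_5488_5490 c) (Nat.ble 5488 c)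
noncomputable def Ptab_s_5482_5490 (c : Nat) : Nat := @Bool.rec (fun _ => Nat) (Ptab_s_5482_5486 c) (Ptab_s_5486_5490 c) (Nat.ble 5486 c)
noncomputable def Ptab_s_5475_5490 (c : Nat) : Nat := @Bool.rec (fun _ => Nat) (Ptab_s_5475_5482 c) (Ptab_s_5482_5490 c) (Nat.ble 5482 c)
noncomputable def Ptab_s_5490_5492 (c : Nat) : Nat := @Bool.rec (fun _ => Nat) (Ptab_5490) (Ptab_5491) (Nat.ble 5491 c)
noncomputable def Ptab_s_5492_5494 (c : Nat) : Nat := @Bool.rec (fun _ => Nat) (Ptab_5492) (Ptab_5493) (Nat.ble 5493 c)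
noncomputable def Ptab_s_5490_5494 (c : Nat) : Nat := @Bool.rec (fun _ => Nat) (Ptab_s_5490_5492 c) (Ptab_s_5492_5494 c) (Nat.ble 5492 c)
noncomputable def Ptab_s_5494_5496 (c : Nat) : Nat := @Bool.rec (fun _ => Nat) (Ptab_5494) (Ptab_5495) (Nat.ble 5495 c)
noncomputable def Ptab_s_5496_5498 (c : Nat) : Nat := @Bool.rec (fun _ => Nat) (Ptab_5496) (Ptab_5497) (Nat.ble 5497 c)
noncomputable def Ptab_s_5494_5498 (c : Nat) : Nat := @Bool.rec (fun _ => Nat) (Ptab_s_5494_5496 c) (Ptab_s_5496_5498 c) (Nat.ble 5496 c)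
noncomputable def Ptab_s_5490_5498 (c : Nat) : Nat := @Bool.rec (fun _ => Nat) (Ptab_s_5490_5494 c) (Ptab_s_5494_5498 c) (Nat.ble 5494 c)
noncomputable def Ptab_s_5498_5500 (c : Nat) : Nat := @Bool.rec (fun _ => Nat) (Ptab_5498) (Ptab_5499) (Nat.ble 5499 c)
noncomputable def Ptab_s_5500_5502 (c : Nat) : Nat := @Bool.rec (fun _ => Nat) (Ptab_5500) (Ptab_5501) (Nat.ble 5501 c)
noncomputable def Ptab_s_5498_5502 (c : Nat) : Nat := @Bool.rec (fun _ => Nat) (Ptab_s_5498_5500 c) (Ptab_s_5500_5502 c) (Nat.ble 5500 c)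
noncomputable def Ptab_s_5502_5504 (c : Nat) : Nat := @Bool.rec (fun _ => Nat) (Ptab_5502) (Ptab_5503) (Nat.ble 5503 c)
noncomputable def Ptab_s_5504_5506 (c : Nat) : Nat := @Bool.rec (fun _ => Nat) (Ptab_5504) (Ptab_5505) (Nat.ble 5505 c)
noncomputable def Ptab_s_5502_5506 (c : Nat) : Nat := @Bool.rec (fun _ => Nat) (Ptab_s_5502_5504 c) (Ptab_s_5504_5506 c) (Nat.ble 5504 c)
noncomputable def Ptab_s_5498_5506 (c : Nat) : Nat := @Bool.rec (fun _ => Nat) (Ptab_s_5498_5502 c) (Ptab_s_5502_5506 c) (Nat.ble 5502 c)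
noncomputable def Ptab_s_5490_5506 (c : Nat) : Nat := @Bool.rec (fun _ => Nat) (Ptab_s_5490_5498 c) (Ptab_s_5498_5506 c) (Nat.ble 5498 c)
noncomputable def Ptab_s_5475_5506 (c : Nat) : Nat := @Bool.rec (fun _ => Nat) (Ptab_s_5475_5490 c) (Ptab_s_5490_5506 c) (Nat.ble 5490 c)
noncomputable def Ptab_s_5445_5506 (c : Nat) : Nat := @Bool.rec (fun _ => Nat) (Ptab_s_5445_5475 c) (Ptab_s_5475_5506 c) (Nat.ble 5475 c)
noncomputable def Ptab_s_5384_5506 (c : Nat) : Nat := @Bool.rec (fun _ => Nat) (Ptab_s_5384_5445 c) (Ptab_s_5445_5506 c) (Nat.ble 5445 c)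
noncomputable def Ptab_s_5507_5509 (c : Nat) : Nat := @Bool.rec (fun _ => Nat) (Ptab_5507) (Ptab_5508) (Nat.ble 5508 c)
noncomputable def Ptab_s_5506_5509 (c : Nat) : Nat := @Bool.rec (fun _ => Nat) (Ptab_5506) (Ptab_s_5507_5509 c) (Nat.ble 5507 c)
noncomputable def Ptab_s_5509_5511 (c : Nat) : Nat := @Bool.rec (fun _ => Nat) (Ptab_5509) (Ptab_5510) (Nat.ble 5510 c)
noncomputable def Ptab_s_5511_5513 (c : Nat) : Nat := @Bool.rec (fun _ => Nat) (Ptab_5511) (Ptab_5512) (Nat.ble 5512 c)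
noncomputable def Ptab_s_5509_5513 (c : Nat) : Nat := @Bool.rec (fun _ => Nat) (Ptab_s_5509_5511 c) (Ptab_s_5511_5513 c) (Nat.ble 5511 c)
noncomputable def Ptab_s_5506_5513 (c : Nat) : Nat := @Bool.rec (fun _ => Nat) (Ptab_s_5506_5509 c) (Ptab_s_5509_5513 c) (Nat.ble 5509 c)
noncomputable def Ptab_s_5513_5515 (c : Nat) : Nat := @Bool.rec (fun _ => Nat) (Ptab_5513) (Ptab_5514) (Nat.ble 5514 c)
noncomputable def Ptab_s_5515_5517 (c : Nat) : Nat := @Bool.rec (fun _ => Nat) (Ptab_5515) (Ptab_5516) (Nat.ble 5516 c)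
noncomputable def Ptab_s_5513_5517 (c : Nat) : Nat := @Bool.rec (fun _ => Nat) (Ptab_s_5513_5515 c) (Ptab_s_5515_5517 c) (Nat.ble 5515 c)
noncomputable def Ptab_s_5517_5519 (c : Nat) : Nat := @Bool.rec (fun _ => Nat) (Ptab_5517) (Ptab_5518) (Nat.ble 5518 c)
noncomputable def Ptab_s_5519_5521 (c : Nat) : Nat := @Bool.rec (fun _ => Nat) (Ptab_5519) (Ptab_5520) (Nat.ble 5520 c)
noncomputable def Ptab_s_5517_5521 (c : Nat) : Nat := @Bool.rec (fun _ => Nat) (Ptab_s_5517_5519 c) (Ptab_s_5519_5521 c) (Nat.ble 5519 c)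
noncomputable def Ptab_s_5513_5521 (c : Nat) : Nat := @Bool.rec (fun _ => Nat) (Ptab_s_5513_5517 c) (Ptab_s_5517_5521 c) (Nat.ble 5517 c)
noncomputable def Ptab_s_5506_5521 (c : Nat) : Nat := @Bool.rec (fun _ => Nat) (Ptab_s_5506_5513 c) (Ptab_s_5513_5521 c) (Nat.ble 5513 c)
noncomputable def Ptab_s_5522_5524 (c : Nat) : Nat := @Bool.rec (fun _ => Nat) (Ptab_5522) (Ptab_5523) (Nat.ble 5523 c)
noncomputable def Ptab_s_5521_5524 (c : Nat) : Nat := @Bool.rec (fun _ => Nat) (Ptab_5521) (Ptab_s_5522_5524 c) (Nat.ble 5522 c)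
noncomputable def Ptab_s_5524_5526 (c : Nat) : Nat := @Bool.rec (fun _ => Nat) (Ptab_5524) (Ptab_5525) (Nat.ble 5525 c)
noncomputable def Ptab_s_5526_5528 (c : Nat) : Nat := @Bool.rec (fun _ => Nat) (Ptab_5526) (Ptab_5527) (Nat.ble 5527 c)
noncomputable def Ptab_s_5524_5528 (c : Nat) : Nat := @Bool.rec (fun _ => Nat) (Ptab_s_5524_5526 c) (Ptab_s_5526_5528 c) (Nat.ble 5526 c)
noncomputable def Ptab_s_5521_5528 (c : Nat) : Nat := @Bool.rec (fun _ => Nat) (Ptab_s_5521_5524 c) (Ptab_s_5524_5528 c) (Nat.ble 5524 c)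
noncomputable def Ptab_s_5528_5530 (c : Nat) : Nat := @Bool.rec (fun _ => Nat) (Ptab_5528) (Ptab_5529) (Nat.ble 5529 c)
noncomputable def Ptab_s_5530_5532 (c : Nat) : Nat := @Bool.rec (fun _ => Nat) (Ptab_5530) (Ptab_5531) (Nat.ble 5531 c)
noncomputable def Ptab_s_5528_5532 (c : Nat) : Nat := @Bool.rec (fun _ => Nat) (Ptab_s_5528_5530 c) (Ptab_s_5530_5532 c) (Nat.ble 5530 c)
noncomputable def Ptab_s_5532_5534 (c : Nat) : Nat := @Bool.rec (fun _ => Nat) (Ptab_5532) (Ptab_5533) (Nat.ble 5533 c)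
noncomputable def Ptab_s_5534_5536 (c : Nat) : Nat := @Bool.rec (fun _ => Nat) (Ptab_5534) (Ptab_5535) (Nat.ble 5535 c)
noncomputable def Ptab_s_5532_5536 (c : Nat) : Nat := @Bool.rec (fun _ => Nat) (Ptab_s_5532_5534 c) (Ptab_s_5534_5536 c) (Nat.ble 5534 c)
noncomputable def Ptab_s_5528_5536 (c : Nat) : Nat := @Bool.rec (fun _ => Nat) (Ptab_s_5528_5532 c) (Ptab_s_5532_5536 c) (Nat.ble 5532 c)
noncomputable def Ptab_s_5521_5536 (c : Nat) : Nat := @Bool.rec (fun _ => Nat) (Ptab_s_5521_5528 c) (Ptab_s_5528_5536 c) (Nat.ble 5528 c)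
noncomputable def Ptab_s_5506_5536 (c : Nat) : Nat := @Bool.rec (fun _ => Nat) (Ptab_s_5506_5521 c) (Ptab_s_5521_5536 c) (Nat.ble 5521 c)
noncomputable def Ptab_s_5537_5539 (c : Nat) : Nat := @Bool.rec (fun _ => Nat) (Ptab_5537) (Ptab_5538) (Nat.ble 5538 c)
noncomputable def Ptab_s_5536_5539 (c : Nat) : Nat := @Bool.rec (fun _ => Nat) (Ptab_5536) (Ptab_s_5537_5539 c) (Nat.ble 5537 c)
noncomputable def Ptab_s_5539_5541 (c : Nat) : Nat := @Bool.rec (fun _ => Nat) (Ptab_5539) (Ptab_5540) (Nat.ble 5540 c)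
noncomputable def Ptab_s_5541_5543 (c : Nat) : Nat := @Bool.rec (fun _ => Nat) (Ptab_5541) (Ptab_5542) (Nat.ble 5542 c)
noncomputable def Ptab_s_5539_5543 (c : Nat) : Nat := @Bool.rec (fun _ => Nat) (Ptab_s_5539_5541 c) (Ptab_s_5541_5543 c) (Nat.ble 5541 c)
noncomputable def Ptab_s_5536_5543 (c : Nat) : Nat := @Bool.rec (fun _ => Nat) (Ptab_s_5536_5539 c) (Ptab_s_5539_5543 c) (Nat.ble 5539 c)
noncomputable def Ptab_s_5543_5545 (c : Nat) : Nat := @Bool.rec (fun _ => Nat) (Ptab_5543) (Ptab_5544) (Nat.ble 5544 c)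
noncomputable def Ptab_s_5545_5547 (c : Nat) : Nat := @Bool.rec (fun _ => Nat) (Ptab_5545) (Ptab_5546) (Nat.ble 5546 c)
noncomputable def Ptab_s_5543_5547 (c : Nat) : Nat := @Bool.rec (fun _ => Nat) (Ptab_s_5543_5545 c) (Ptab_s_5545_5547 c) (Nat.ble 5545 c)
noncomputable def Ptab_s_5547_5549 (c : Nat) : Nat := @Bool.rec (fun _ => Nat) (Ptab_5547) (Ptab_5548) (Nat.ble 5548 c)
noncomputable def Ptab_s_5549_5551 (c : Nat) : Nat := @Bool.rec (fun _ => Nat) (Ptab_5549) (Ptab_5550) (Nat.ble 5550 c)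
noncomputable def Ptab_s_5547_5551 (c : Nat) : Nat := @Bool.rec (fun _ => Nat) (Ptab_s_5547_5549 c) (Ptab_s_5549_5551 c) (Nat.ble 5549 c)
noncomputable def Ptab_s_5543_5551 (c : Nat) : Nat := @Bool.rec (fun _ => Nat) (Ptab_s_5543_5547 c) (Ptab_s_5547_5551 c) (Nat.ble 5547 c)
noncomputable def Ptab_s_5536_5551 (c : Nat) : Nat := @Bool.rec (fun _ => Nat) (Ptab_s_5536_5543 c) (Ptab_s_5543_5551 c) (Nat.ble 5543 c)
noncomputable def Ptab_s_5551_5553 (c : Nat) : Nat := @Bool.rec (fun _ => Nat) (Ptab_5551) (Ptab_5552) (Nat.ble 5552 c)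
noncomputable def Ptab_s_5553_5555 (c : Nat) : Nat := @Bool.rec (fun _ => Nat) (Ptab_5553) (Ptab_5554) (Nat.ble 5554 c)
noncomputable def Ptab_s_5551_5555 (c : Nat) : Nat := @Bool.rec (fun _ => Nat) (Ptab_s_5551_5553 c) (Ptab_s_5553_5555 c) (Nat.ble 5553 c)
noncomputable def Ptab_s_5555_5557 (c : Nat) : Nat := @Bool.rec (fun _ => Nat) (Ptab_5555) (Ptab_5556) (Nat.ble 5556 c)
noncomputable def Ptab_s_5557_5559 (c : Nat) : Nat := @Bool.rec (fun _ => Nat) (Ptab_5557) (Ptab_5558) (Nat.ble 5558 c)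
noncomputable def Ptab_s_5555_5559 (c : Nat) : Nat := @Bool.rec (fun _ => Nat) (Ptab_s_5555_5557 c) (Ptab_s_5557_5559 c) (Nat.ble 5557 c)
noncomputable def Ptab_s_5551_5559 (c : Nat) : Nat := @Bool.rec (fun _ => Nat) (Ptab_s_5551_5555 c) (Ptab_s_5555_5559 c) (Nat.ble 5555 c)
noncomputable def Ptab_s_5559_5561 (c : Nat) : Nat := @Bool.rec (fun _ => Nat) (Ptab_5559) (Ptab_5560) (Nat.ble 5560 c)
noncomputable def Ptab_s_5561_5563 (c : Nat) : Nat := @Bool.rec (fun _ => Nat) (Ptab_5561) (Ptab_5562) (Nat.ble 5562 c)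
noncomputable def Ptab_s_5559_5563 (c : Nat) : Nat := @Bool.rec (fun _ => Nat) (Ptab_s_5559_5561 c) (Ptab_s_5561_5563 c) (Nat.ble 5561 c)
noncomputable def Ptab_s_5563_5565 (c : Nat) : Nat := @Bool.rec (fun _ => Nat) (Ptab_5563) (Ptab_5564) (Nat.ble 5564 c)
noncomputable def Ptab_s_5565_5567 (c : Nat) : Nat := @Bool.rec (fun _ => Nat) (Ptab_5565) (Ptab_5566) (Nat.ble 5566 c)
noncomputable def Ptab_s_5563_5567 (c : Nat) : Nat := @Bool.rec (fun _ => Nat) (Ptab_s_5563_5565 c) (Ptab_s_5565_5567 c) (Nat.ble 5565 c)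
noncomputable def Ptab_s_5559_5567 (c : Nat) : Nat := @Bool.rec (fun _ => Nat) (Ptab_s_5559_5563 c) (Ptab_s_5563_5567 c) (Nat.ble 5563 c)
noncomputable def Ptab_s_5551_5567 (c : Nat) : Nat := @Bool.rec (fun _ => Nat) (Ptab_s_5551_5559 c) (Ptab_s_5559_5567 c) (Nat.ble 5559 c)
noncomputable def Ptab_s_5536_5567 (c : Nat) : Nat := @Bool.rec (fun _ => Nat) (Ptab_s_5536_5551 c) (Ptab_s_5551_5567 c) (Nat.ble 5551 c)
noncomputable def Ptab_s_5506_5567 (c : Nat) : Nat := @Bool.rec (fun _ => Nat) (Ptab_s_5506_5536 c) (Ptab_s_5536_5567 c) (Nat.ble 5536 c)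
noncomputable def Ptab_s_5568_5570 (c : Nat) : Nat := @Bool.rec (fun _ => Nat) (Ptab_5568) (Ptab_5569) (Nat.ble 5569 c)
noncomputable def Ptab_s_5567_5570 (c : Nat) : Nat := @Bool.rec (fun _ => Nat) (Ptab_5567) (Ptab_s_5568_5570 c) (Nat.ble 5568 c)
noncomputable def Ptab_s_5570_5572 (c : Nat) : Nat := @Bool.rec (fun _ => Nat) (Ptab_5570) (Ptab_5571) (Nat.ble 5571 c)
noncomputable def Ptab_s_5572_5574 (c : Nat) : Nat := @Bool.rec (fun _ => Nat) (Ptab_5572) (Ptab_5573) (Nat.ble 5573 c)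
noncomputable def Ptab_s_5570_5574 (c : Nat) : Nat := @Bool.rec (fun _ => Nat) (Ptab_s_5570_5572 c) (Ptab_s_5572_5574 c) (Nat.ble 5572 c)
noncomputable def Ptab_s_5567_5574 (c : Nat) : Nat := @Bool.rec (fun _ => Nat) (Ptab_s_5567_5570 c) (Ptab_s_5570_5574 c) (Nat.ble 5570 c)
noncomputable def Ptab_s_5574_5576 (c : Nat) : Nat := @Bool.rec (fun _ => Nat) (Ptab_5574) (Ptab_5575) (Nat.ble 5575 c)
noncomputable def Ptab_s_5576_5578 (c : Nat) : Nat := @Bool.rec (fun _ => Nat) (Ptab_5576) (Ptab_5577) (Nat.ble 5577 c)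
noncomputable def Ptab_s_5574_5578 (c : Nat) : Nat := @Bool.rec (fun _ => Nat) (Ptab_s_5574_5576 c) (Ptab_s_5576_5578 c) (Nat.ble 5576 c)
noncomputable def Ptab_s_5578_5580 (c : Nat) : Nat := @Bool.rec (fun _ => Nat) (Ptab_5578) (Ptab_5579) (Nat.ble 5579 c)
noncomputable def Ptab_s_5580_5582 (c : Nat) : Nat := @Bool.rec (fun _ => Nat) (Ptab_5580) (Ptab_5581) (Nat.ble 5581 c)
noncomputable def Ptab_s_5578_5582 (c : Nat) : Nat := @Bool.rec (fun _ => Nat) (Ptab_s_5578_5580 c) (Ptab_s_5580_5582 c) (Nat.ble 5580 c)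
noncomputable def Ptab_s_5574_5582 (c : Nat) : Nat := @Bool.rec (fun _ => Nat) (Ptab_s_5574_5578 c) (Ptab_s_5578_5582 c) (Nat.ble 5578 c)
noncomputable def Ptab_s_5567_5582 (c : Nat) : Nat := @Bool.rec (fun _ => Nat) (Ptab_s_5567_5574 c) (Ptab_s_5574_5582 c) (Nat.ble 5574 c)
noncomputable def Ptab_s_5582_5584 (c : Nat) : Nat := @Bool.rec (fun _ => Nat) (Ptab_5582) (Ptab_5583) (Nat.ble 5583 c)
noncomputable def Ptab_s_5584_5586 (c : Nat) : Nat := @Bool.rec (fun _ => Nat) (Ptab_5584) (Ptab_5585) (Nat.ble 5585 c)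
noncomputable def Ptab_s_5582_5586 (c : Nat) : Nat := @Bool.rec (fun _ => Nat) (Ptab_s_5582_5584 c) (Ptab_s_5584_5586 c) (Nat.ble 5584 c)
noncomputable def Ptab_s_5586_5588 (c : Nat) : Nat := @Bool.rec (fun _ => Nat) (Ptab_5586) (Ptab_5587) (Nat.ble 5587 c)
noncomputable def Ptab_s_5588_5590 (c : Nat) : Nat := @Bool.rec (fun _ => Nat) (Ptab_5588) (Ptab_5589) (Nat.ble 5589 c)
noncomputable def Ptab_s_5586_5590 (c : Nat) : Nat := @Bool.rec (fun _ => Nat) (Ptab_s_5586_5588 c) (Ptab_s_5588_5590 c) (Nat.ble 5588 c)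
noncomputable def Ptab_s_5582_5590 (c : Nat) : Nat := @Bool.rec (fun _ => Nat) (Ptab_s_5582_5586 c) (Ptab_s_5586_5590 c) (Nat.ble 5586 c)
noncomputable def Ptab_s_5590_5592 (c : Nat) : Nat := @Bool.rec (fun _ => Nat) (Ptab_5590) (Ptab_5591) (Nat.ble 5591 c)
noncomputable def Ptab_s_5592_5594 (c : Nat) : Nat := @Bool.rec (fun _ => Nat) (Ptab_5592) (Ptab_5593) (Nat.ble 5593 c)
noncomputable def Ptab_s_5590_5594 (c : Nat) : Nat := @Bool.rec (fun _ => Nat) (Ptab_s_5590_5592 c) (Ptab_s_5592_5594 c) (Nat.ble 5592 c)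
noncomputable def Ptab_s_5594_5596 (c : Nat) : Nat := @Bool.rec (fun _ => Nat) (Ptab_5594) (Ptab_5595) (Nat.ble 5595 c)
noncomputable def Ptab_s_5596_5598 (c : Nat) : Nat := @Bool.rec (fun _ => Nat) (Ptab_5596) (Ptab_5597) (Nat.ble 5597 c)
noncomputable def Ptab_s_5594_5598 (c : Nat) : Nat := @Bool.rec (fun _ => Nat) (Ptab_s_5594_5596 c) (Ptab_s_5596_5598 c) (Nat.ble 5596 c)
noncomputable def Ptab_s_5590_5598 (c : Nat) : Nat := @Bool.rec (fun _ => Nat) (Ptab_s_5590_5594 c) (Ptab_s_5594_5598 c) (Nat.ble 5594 c)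
noncomputable def Ptab_s_5582_5598 (c : Nat) : Nat := @Bool.rec (fun _ => Nat) (Ptab_s_5582_5590 c) (Ptab_s_5590_5598 c) (Nat.ble 5590 c)
noncomputable def Ptab_s_5567_5598 (c : Nat) : Nat := @Bool.rec (fun _ => Nat) (Ptab_s_5567_5582 c) (Ptab_s_5582_5598 c) (Nat.ble 5582 c)
noncomputable def Ptab_s_5599_5601 (c : Nat) : Nat := @Bool.rec (fun _ => Nat) (Ptab_5599) (Ptab_5600) (Nat.ble 5600 c)
noncomputable def Ptab_s_5598_5601 (c : Nat) : Nat := @Bool.rec (fun _ => Nat) (Ptab_5598) (Ptab_s_5599_5601 c) (Nat.ble 5599 c)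
noncomputable def Ptab_s_5601_5603 (c : Nat) : Nat := @Bool.rec (fun _ => Nat) (Ptab_5601) (Ptab_5602) (Nat.ble 5602 c)
noncomputable def Ptab_s_5603_5605 (c : Nat) : Nat := @Bool.rec (fun _ => Nat) (Ptab_5603) (Ptab_5604) (Nat.ble 5604 c)
noncomputable def Ptab_s_5601_5605 (c : Nat) : Nat := @Bool.rec (fun _ => Nat) (Ptab_s_5601_5603 c) (Ptab_s_5603_5605 c) (Nat.ble 5603 c)
noncomputable def Ptab_s_5598_5605 (c : Nat) : Nat := @Bool.rec (fun _ => Nat) (Ptab_s_5598_5601 c) (Ptab_s_5601_5605 c) (Nat.ble 5601 c)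
noncomputable def Ptab_s_5605_5607 (c : Nat) : Nat := @Bool.rec (fun _ => Nat) (Ptab_5605) (Ptab_5606) (Nat.ble 5606 c)
noncomputable def Ptab_s_5607_5609 (c : Nat) : Nat := @Bool.rec (fun _ => Nat) (Ptab_5607) (Ptab_5608) (Nat.ble 5608 c)
noncomputable def Ptab_s_5605_5609 (c : Nat) : Nat := @Bool.rec (fun _ => Nat) (Ptab_s_5605_5607 c) (Ptab_s_5607_5609 c) (Nat.ble 5607 c)
noncomputable def Ptab_s_5609_5611 (c : Nat) : Nat := @Bool.rec (fun _ => Nat) (Ptab_5609) (Ptab_5610) (Nat.ble 5610 c)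
noncomputable def Ptab_s_5611_5613 (c : Nat) : Nat := @Bool.rec (fun _ => Nat) (Ptab_5611) (Ptab_5612) (Nat.ble 5612 c)
noncomputable def Ptab_s_5609_5613 (c : Nat) : Nat := @Bool.rec (fun _ => Nat) (Ptab_s_5609_5611 c) (Ptab_s_5611_5613 c) (Nat.ble 5611 c)
noncomputable def Ptab_s_5605_5613 (c : Nat) : Nat := @Bool.rec (fun _ => Nat) (Ptab_s_5605_5609 c) (Ptab_s_5609_5613 c) (Nat.ble 5609 c)
noncomputable def Ptab_s_5598_5613 (c : Nat) : Nat := @Bool.rec (fun _ => Nat) (Ptab_s_5598_5605 c) (Ptab_s_5605_5613 c) (Nat.ble 5605 c)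
noncomputable def Ptab_s_5613_5615 (c : Nat) : Nat := @Bool.rec (fun _ => Nat) (Ptab_5613) (Ptab_5614) (Nat.ble 5614 c)
noncomputable def Ptab_s_5615_5617 (c : Nat) : Nat := @Bool.rec (fun _ => Nat) (Ptab_5615) (Ptab_5616) (Nat.ble 5616 c)
noncomputable def Ptab_s_5613_5617 (c : Nat) : Nat := @Bool.rec (fun _ => Nat) (Ptab_s_5613_5615 c) (Ptab_s_5615_5617 c) (Nat.ble 5615 c)
noncomputable def Ptab_s_5617_5619 (c : Nat) : Nat := @Bool.rec (fun _ => Nat) (Ptab_5617) (Ptab_5618) (Nat.ble 5618 c)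
noncomputable def Ptab_s_5619_5621 (c : Nat) : Nat := @Bool.rec (fun _ => Nat) (Ptab_5619) (Ptab_5620) (Nat.ble 5620 c)
noncomputable def Ptab_s_5617_5621 (c : Nat) : Nat := @Bool.rec (fun _ => Nat) (Ptab_s_5617_5619 c) (Ptab_s_5619_5621 c) (Nat.ble 5619 c)
noncomputable def Ptab_s_5613_5621 (c : Nat) : Nat := @Bool.rec (fun _ => Nat) (Ptab_s_5613_5617 c) (Ptab_s_5617_5621 c) (Nat.ble 5617 c)
noncomputable def Ptab_s_5621_5623 (c : Nat) : Nat := @Bool.rec (fun _ => Nat) (Ptab_5621) (Ptab_5622) (Nat.ble 5622 c)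
noncomputable def Ptab_s_5623_5625 (c : Nat) : Nat := @Bool.rec (fun _ => Nat) (Ptab_5623) (Ptab_5624) (Nat.ble 5624 c)
noncomputable def Ptab_s_5621_5625 (c : Nat) : Nat := @Bool.rec (fun _ => Nat) (Ptab_s_5621_5623 c) (Ptab_s_5623_5625 c) (Nat.ble 5623 c)
noncomputable def Ptab_s_5625_5627 (c : Nat) : Nat := @Bool.rec (fun _ => Nat) (Ptab_5625) (Ptab_5626) (Nat.ble 5626 c)
noncomputable def Ptab_s_5627_5629 (c : Nat) : Nat := @Bool.rec (fun _ => Nat) (Ptab_5627) (Ptab_5628) (Nat.ble 5628 c)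
noncomputable def Ptab_s_5625_5629 (c : Nat) : Nat := @Bool.rec (fun _ => Nat) (Ptab_s_5625_5627 c) (Ptab_s_5627_5629 c) (Nat.ble 5627 c)
noncomputable def Ptab_s_5621_5629 (c : Nat) : Nat := @Bool.rec (fun _ => Nat) (Ptab_s_5621_5625 c) (Ptab_s_5625_5629 c) (Nat.ble 5625 c)
noncomputable def Ptab_s_5613_5629 (c : Nat) : Nat := @Bool.rec (fun _ => Nat) (Ptab_s_5613_5621 c) (Ptab_s_5621_5629 c) (Nat.ble 5621 c)
noncomputable def Ptab_s_5598_5629 (c : Nat) : Nat := @Bool.rec (fun _ => Nat) (Ptab_s_5598_5613 c) (Ptab_s_5613_5629 c) (Nat.ble 5613 c)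
noncomputable def Ptab_s_5567_5629 (c : Nat) : Nat := @Bool.rec (fun _ => Nat) (Ptab_s_5567_5598 c) (Ptab_s_5598_5629 c) (Nat.ble 5598 c)
noncomputable def Ptab_s_5506_5629 (c : Nat) : Nat := @Bool.rec (fun _ => Nat) (Ptab_s_5506_5567 c) (Ptab_s_5567_5629 c) (Nat.ble 5567 c)
noncomputable def Ptab_s_5384_5629 (c : Nat) : Nat := @Bool.rec (fun _ => Nat) (Ptab_s_5384_5506 c) (Ptab_s_5506_5629 c) (Nat.ble 5506 c)
noncomputable def Ptab_s_5630_5632 (c : Nat) : Nat := @Bool.rec (fun _ => Nat) (Ptab_5630) (Ptab_5631) (Nat.ble 5631 c)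
noncomputable def Ptab_s_5629_5632 (c : Nat) : Nat := @Bool.rec (fun _ => Nat) (Ptab_5629) (Ptab_s_5630_5632 c) (Nat.ble 5630 c)
noncomputable def Ptab_s_5632_5634 (c : Nat) : Nat := @Bool.rec (fun _ => Nat) (Ptab_5632) (Ptab_5633) (Nat.ble 5633 c)
noncomputable def Ptab_s_5634_5636 (c : Nat) : Nat := @Bool.rec (fun _ => Nat) (Ptab_5634) (Ptab_5635) (Nat.ble 5635 c)
noncomputable def Ptab_s_5632_5636 (c : Nat) : Nat := @Bool.rec (fun _ => Nat) (Ptab_s_5632_5634 c) (Ptab_s_5634_5636 c) (Nat.ble 5634 c)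
noncomputable def Ptab_s_5629_5636 (c : Nat) : Nat := @Bool.rec (fun _ => Nat) (Ptab_s_5629_5632 c) (Ptab_s_5632_5636 c) (Nat.ble 5632 c)
noncomputable def Ptab_s_5636_5638 (c : Nat) : Nat := @Bool.rec (fun _ => Nat) (Ptab_5636) (Ptab_5637) (Nat.ble 5637 c)
noncomputable def Ptab_s_5638_5640 (c : Nat) : Nat := @Bool.rec (fun _ => Nat) (Ptab_5638) (Ptab_5639) (Nat.ble 5639 c)
noncomputable def Ptab_s_5636_5640 (c : Nat) : Nat := @Bool.rec (fun _ => Nat) (Ptab_s_5636_5638 c) (Ptab_s_5638_5640 c) (Nat.ble 5638 c)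
noncomputable def Ptab_s_5640_5642 (c : Nat) : Nat := @Bool.rec (fun _ => Nat) (Ptab_5640) (Ptab_5641) (Nat.ble 5641 c)
noncomputable def Ptab_s_5642_5644 (c : Nat) : Nat := @Bool.rec (fun _ => Nat) (Ptab_5642) (Ptab_5643) (Nat.ble 5643 c)
noncomputable def Ptab_s_5640_5644 (c : Nat) : Nat := @Bool.rec (fun _ => Nat) (Ptab_s_5640_5642 c) (Ptab_s_5642_5644 c) (Nat.ble 5642 c)
noncomputable def Ptab_s_5636_5644 (c : Nat) : Nat := @Bool.rec (fun _ => Nat) (Ptab_s_5636_5640 c) (Ptab_s_5640_5644 c) (Nat.ble 5640 c)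
noncomputable def Ptab_s_5629_5644 (c : Nat) : Nat := @Bool.rec (fun _ => Nat) (Ptab_s_5629_5636 c) (Ptab_s_5636_5644 c) (Nat.ble 5636 c)
noncomputable def Ptab_s_5645_5647 (c : Nat) : Nat := @Bool.rec (fun _ => Nat) (Ptab_5645) (Ptab_5646) (Nat.ble 5646 c)
noncomputable def Ptab_s_5644_5647 (c : Nat) : Nat := @Bool.rec (fun _ => Nat) (Ptab_5644) (Ptab_s_5645_5647 c) (Nat.ble 5645 c)
noncomputable def Ptab_s_5647_5649 (c : Nat) : Nat := @Bool.rec (fun _ => Nat) (Ptab_5647) (Ptab_5648) (Nat.ble 5648 c)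
noncomputable def Ptab_s_5649_5651 (c : Nat) : Nat := @Bool.rec (fun _ => Nat) (Ptab_5649) (Ptab_5650) (Nat.ble 5650 c)
noncomputable def Ptab_s_5647_5651 (c : Nat) : Nat := @Bool.rec (fun _ => Nat) (Ptab_s_5647_5649 c) (Ptab_s_5649_5651 c) (Nat.ble 5649 c)
noncomputable def Ptab_s_5644_5651 (c : Nat) : Nat := @Bool.rec (fun _ => Nat) (Ptab_s_5644_5647 c) (Ptab_s_5647_5651 c) (Nat.ble 5647 c)
noncomputable def Ptab_s_5651_5653 (c : Nat) : Nat := @Bool.rec (fun _ => Nat) (Ptab_5651) (Ptab_5652) (Nat.ble 5652 c)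
noncomputable def Ptab_s_5653_5655 (c : Nat) : Nat := @Bool.rec (fun _ => Nat) (Ptab_5653) (Ptab_5654) (Nat.ble 5654 c)
noncomputable def Ptab_s_5651_5655 (c : Nat) : Nat := @Bool.rec (fun _ => Nat) (Ptab_s_5651_5653 c) (Ptab_s_5653_5655 c) (Nat.ble 5653 c)
noncomputable def Ptab_s_5655_5657 (c : Nat) : Nat := @Bool.rec (fun _ => Nat) (Ptab_5655) (Ptab_5656) (Nat.ble 5656 c)
noncomputable def Ptab_s_5657_5659 (c : Nat) : Nat := @Bool.rec (fun _ => Nat) (Ptab_5657) (Ptab_5658) (Nat.ble 5658 c)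
noncomputable def Ptab_s_5655_5659 (c : Nat) : Nat := @Bool.rec (fun _ => Nat) (Ptab_s_5655_5657 c) (Ptab_s_5657_5659 c) (Nat.ble 5657 c)
noncomputable def Ptab_s_5651_5659 (c : Nat) : Nat := @Bool.rec (fun _ => Nat) (Ptab_s_5651_5655 c) (Ptab_s_5655_5659 c) (Nat.ble 5655 c)
noncomputable def Ptab_s_5644_5659 (c : Nat) : Nat := @Bool.rec (fun _ => Nat) (Ptab_s_5644_5651 c) (Ptab_s_5651_5659 c) (Nat.ble 5651 c)
noncomputable def Ptab_s_5629_5659 (c : Nat) : Nat := @Bool.rec (fun _ => Nat) (Ptab_s_5629_5644 c) (Ptab_s_5644_5659 c) (Nat.ble 5644 c)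
noncomputable def Ptab_s_5660_5662 (c : Nat) : Nat := @Bool.rec (fun _ => Nat) (Ptab_5660) (Ptab_5661) (Nat.ble 5661 c)
noncomputable def Ptab_s_5659_5662 (c : Nat) : Nat := @Bool.rec (fun _ => Nat) (Ptab_5659) (Ptab_s_5660_5662 c) (Nat.ble 5660 c)
noncomputable def Ptab_s_5662_5664 (c : Nat) : Nat := @Bool.rec (fun _ => Nat) (Ptab_5662) (Ptab_5663) (Nat.ble 5663 c)
noncomputable def Ptab_s_5664_5666 (c : Nat) : Nat := @Bool.rec (fun _ => Nat) (Ptab_5664) (Ptab_5665) (Nat.ble 5665 c)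
noncomputable def Ptab_s_5662_5666 (c : Nat) : Nat := @Bool.rec (fun _ => Nat) (Ptab_s_5662_5664 c) (Ptab_s_5664_5666 c) (Nat.ble 5664 c)
noncomputable def Ptab_s_5659_5666 (c : Nat) : Nat := @Bool.rec (fun _ => Nat) (Ptab_s_5659_5662 c) (Ptab_s_5662_5666 c) (Nat.ble 5662 c)
noncomputable def Ptab_s_5666_5668 (c : Nat) : Nat := @Bool.rec (fun _ => Nat) (Ptab_5666) (Ptab_5667) (Nat.ble 5667 c)
noncomputable def Ptab_s_5668_5670 (c : Nat) : Nat := @Bool.rec (fun _ => Nat) (Ptab_5668) (Ptab_5669) (Nat.ble 5669 c)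
noncomputable def Ptab_s_5666_5670 (c : Nat) : Nat := @Bool.rec (fun _ => Nat) (Ptab_s_5666_5668 c) (Ptab_s_5668_5670 c) (Nat.ble 5668 c)
noncomputable def Ptab_s_5670_5672 (c : Nat) : Nat := @Bool.rec (fun _ => Nat) (Ptab_5670) (Ptab_5671) (Nat.ble 5671 c)
noncomputable def Ptab_s_5672_5674 (c : Nat) : Nat := @Bool.rec (fun _ => Nat) (Ptab_5672) (Ptab_5673) (Nat.ble 5673 c)
noncomputable def Ptab_s_5670_5674 (c : Nat) : Nat := @Bool.rec (fun _ => Nat) (Ptab_s_5670_5672 c) (Ptab_s_5672_5674 c) (Nat.ble 5672 c)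
noncomputable def Ptab_s_5666_5674 (c : Nat) : Nat := @Bool.rec (fun _ => Nat) (Ptab_s_5666_5670 c) (Ptab_s_5670_5674 c) (Nat.ble 5670 c)
noncomputable def Ptab_s_5659_5674 (c : Nat) : Nat := @Bool.rec (fun _ => Nat) (Ptab_s_5659_5666 c) (Ptab_s_5666_5674 c) (Nat.ble 5666 c)
noncomputable def Ptab_s_5674_5676 (c : Nat) : Nat := @Bool.rec (fun _ => Nat) (Ptab_5674) (Ptab_5675) (Nat.ble 5675 c)
noncomputable def Ptab_s_5676_5678 (c : Nat) : Nat := @Bool.rec (fun _ => Nat) (Ptab_5676) (Ptab_5677) (Nat.ble 5677 c)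
noncomputable def Ptab_s_5674_5678 (c : Nat) : Nat := @Bool.rec (fun _ => Nat) (Ptab_s_5674_5676 c) (Ptab_s_5676_5678 c) (Nat.ble 5676 c)
noncomputable def Ptab_s_5678_5680 (c : Nat) : Nat := @Bool.rec (fun _ => Nat) (Ptab_5678) (Ptab_5679) (Nat.ble 5679 c)
noncomputable def Ptab_s_5680_5682 (c : Nat) : Nat := @Bool.rec (fun _ => Nat) (Ptab_5680) (Ptab_5681) (Nat.ble 5681 c)
noncomputable def Ptab_s_5678_5682 (c : Nat) : Nat := @Bool.rec (fun _ => Nat) (Ptab_s_5678_5680 c) (Ptab_s_5680_5682 c) (Nat.ble 5680 c)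
noncomputable def Ptab_s_5674_5682 (c : Nat) : Nat := @Bool.rec (fun _ => Nat) (Ptab_s_5674_5678 c) (Ptab_s_5678_5682 c) (Nat.ble 5678 c)
noncomputable def Ptab_s_5682_5684 (c : Nat) : Nat := @Bool.rec (fun _ => Nat) (Ptab_5682) (Ptab_5683) (Nat.ble 5683 c)
noncomputable def Ptab_s_5684_5686 (c : Nat) : Nat := @Bool.rec (fun _ => Nat) (Ptab_5684) (Ptab_5685) (Nat.ble 5685 c)
noncomputable def Ptab_s_5682_5686 (c : Nat) : Nat := @Bool.rec (fun _ => Nat) (Ptab_s_5682_5684 c) (Ptab_s_5684_5686 c) (Nat.ble 5684 c)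
noncomputable def Ptab_s_5686_5688 (c : Nat) : Nat := @Bool.rec (fun _ => Nat) (Ptab_5686) (Ptab_5687) (Nat.ble 5687 c)
noncomputable def Ptab_s_5688_5690 (c : Nat) : Nat := @Bool.rec (fun _ => Nat) (Ptab_5688) (Ptab_5689) (Nat.ble 5689 c)
noncomputable def Ptab_s_5686_5690 (c : Nat) : Nat := @Bool.rec (fun _ => Nat) (Ptab_s_5686_5688 c) (Ptab_s_5688_5690 c) (Nat.ble 5688 c)
noncomputable def Ptab_s_5682_5690 (c : Nat) : Nat := @Bool.rec (fun _ => Nat) (Ptab_s_5682_5686 c) (Ptab_s_5686_5690 c) (Nat.ble 5686 c)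
noncomputable def Ptab_s_5674_5690 (c : Nat) : Nat := @Bool.rec (fun _ => Nat) (Ptab_s_5674_5682 c) (Ptab_s_5682_5690 c) (Nat.ble 5682 c)
noncomputable def Ptab_s_5659_5690 (c : Nat) : Nat := @Bool.rec (fun _ => Nat) (Ptab_s_5659_5674 c) (Ptab_s_5674_5690 c) (Nat.ble 5674 c)
noncomputable def Ptab_s_5629_5690 (c : Nat) : Nat := @Bool.rec (fun _ => Nat) (Ptab_s_5629_5659 c) (Ptab_s_5659_5690 c) (Nat.ble 5659 c)
noncomputable def Ptab_s_5691_5693 (c : Nat) : Nat := @Bool.rec (fun _ => Nat) (Ptab_5691) (Ptab_5692) (Nat.ble 5692 c)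
noncomputable def Ptab_s_5690_5693 (c : Nat) : Nat := @Bool.rec (fun _ => Nat) (Ptab_5690) (Ptab_s_5691_5693 c) (Nat.ble 5691 c)
noncomputable def Ptab_s_5693_5695 (c : Nat) : Nat := @Bool.rec (fun _ => Nat) (Ptab_5693) (Ptab_5694) (Nat.ble 5694 c)
noncomputable def Ptab_s_5695_5697 (c : Nat) : Nat := @Bool.rec (fun _ => Nat) (Ptab_5695) (Ptab_5696) (Nat.ble 5696 c)
noncomputable def Ptab_s_5693_5697 (c : Nat) : Nat := @Bool.rec (fun _ => Nat) (Ptab_s_5693_5695 c) (Ptab_s_5695_5697 c) (Nat.ble 5695 c)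
noncomputable def Ptab_s_5690_5697 (c : Nat) : Nat := @Bool.rec (fun _ => Nat) (Ptab_s_5690_5693 c) (Ptab_s_5693_5697 c) (Nat.ble 5693 c)
noncomputable def Ptab_s_5697_5699 (c : Nat) : Nat := @Bool.rec (fun _ => Nat) (Ptab_5697) (Ptab_5698) (Nat.ble 5698 c)
noncomputable def Ptab_s_5699_5701 (c : Nat) : Nat := @Bool.rec (fun _ => Nat) (Ptab_5699) (Ptab_5700) (Nat.ble 5700 c)
noncomputable def Ptab_s_5697_5701 (c : Nat) : Nat := @Bool.rec (fun _ => Nat) (Ptab_s_5697_5699 c) (Ptab_s_5699_5701 c) (Nat.ble 5699 c)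
noncomputable def Ptab_s_5701_5703 (c : Nat) : Nat := @Bool.rec (fun _ => Nat) (Ptab_5701) (Ptab_5702) (Nat.ble 5702 c)
noncomputable def Ptab_s_5703_5705 (c : Nat) : Nat := @Bool.rec (fun _ => Nat) (Ptab_5703) (Ptab_5704) (Nat.ble 5704 c)
noncomputable def Ptab_s_5701_5705 (c : Nat) : Nat := @Bool.rec (fun _ => Nat) (Ptab_s_5701_5703 c) (Ptab_s_5703_5705 c) (Nat.ble 5703 c)
noncomputable def Ptab_s_5697_5705 (c : Nat) : Nat := @Bool.rec (fun _ => Nat) (Ptab_s_5697_5701 c) (Ptab_s_5701_5705 c) (Nat.ble 5701 c)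
noncomputable def Ptab_s_5690_5705 (c : Nat) : Nat := @Bool.rec (fun _ => Nat) (Ptab_s_5690_5697 c) (Ptab_s_5697_5705 c) (Nat.ble 5697 c)
noncomputable def Ptab_s_5706_5708 (c : Nat) : Nat := @Bool.rec (fun _ => Nat) (Ptab_5706) (Ptab_5707) (Nat.ble 5707 c)
noncomputable def Ptab_s_5705_5708 (c : Nat) : Nat := @Bool.rec (fun _ => Nat) (Ptab_5705) (Ptab_s_5706_5708 c) (Nat.ble 5706 c)
noncomputable def Ptab_s_5708_5710 (c : Nat) : Nat := @Bool.rec (fun _ => Nat) (Ptab_5708) (Ptab_5709) (Nat.ble 5709 c)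
noncomputable def Ptab_s_5710_5712 (c : Nat) : Nat := @Bool.rec (fun _ => Nat) (Ptab_5710) (Ptab_5711) (Nat.ble 5711 c)
noncomputable def Ptab_s_5708_5712 (c : Nat) : Nat := @Bool.rec (fun _ => Nat) (Ptab_s_5708_5710 c) (Ptab_s_5710_5712 c) (Nat.ble 5710 c)
noncomputable def Ptab_s_5705_5712 (c : Nat) : Nat := @Bool.rec (fun _ => Nat) (Ptab_s_5705_5708 c) (Ptab_s_5708_5712 c) (Nat.ble 5708 c)
noncomputable def Ptab_s_5712_5714 (c : Nat) : Nat := @Bool.rec (fun _ => Nat) (Ptab_5712) (Ptab_5713) (Nat.ble 5713 c)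
noncomputable def Ptab_s_5714_5716 (c : Nat) : Nat := @Bool.rec (fun _ => Nat) (Ptab_5714) (Ptab_5715) (Nat.ble 5715 c)
noncomputable def Ptab_s_5712_5716 (c : Nat) : Nat := @Bool.rec (fun _ => Nat) (Ptab_s_5712_5714 c) (Ptab_s_5714_5716 c) (Nat.ble 5714 c)
noncomputable def Ptab_s_5716_5718 (c : Nat) : Nat := @Bool.rec (fun _ => Nat) (Ptab_5716) (Ptab_5717) (Nat.ble 5717 c)
noncomputable def Ptab_s_5718_5720 (c : Nat) : Nat := @Bool.rec (fun _ => Nat) (Ptab_5718) (Ptab_5719) (Nat.ble 5719 c)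
noncomputable def Ptab_s_5716_5720 (c : Nat) : Nat := @Bool.rec (fun _ => Nat) (Ptab_s_5716_5718 c) (Ptab_s_5718_5720 c) (Nat.ble 5718 c)
noncomputable def Ptab_s_5712_5720 (c : Nat) : Nat := @Bool.rec (fun _ => Nat) (Ptab_s_5712_5716 c) (Ptab_s_5716_5720 c) (Nat.ble 5716 c)
noncomputable def Ptab_s_5705_5720 (c : Nat) : Nat := @Bool.rec (fun _ => Nat) (Ptab_s_5705_5712 c) (Ptab_s_5712_5720 c) (Nat.ble 5712 c)
noncomputable def Ptab_s_5690_5720 (c : Nat) : Nat := @Bool.rec (fun _ => Nat) (Ptab_s_5690_5705 c) (Ptab_s_5705_5720 c) (Nat.ble 5705 c)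
noncomputable def Ptab_s_5721_5723 (c : Nat) : Nat := @Bool.rec (fun _ => Nat) (Ptab_5721) (Ptab_5722) (Nat.ble 5722 c)
noncomputable def Ptab_s_5720_5723 (c : Nat) : Nat := @Bool.rec (fun _ => Nat) (Ptab_5720) (Ptab_s_5721_5723 c) (Nat.ble 5721 c)
noncomputable def Ptab_s_5723_5725 (c : Nat) : Nat := @Bool.rec (fun _ => Nat) (Ptab_5723) (Ptab_5724) (Nat.ble 5724 c)
noncomputable def Ptab_s_5725_5727 (c : Nat) : Nat := @Bool.rec (fun _ => Nat) (Ptab_5725) (Ptab_5726) (Nat.ble 5726 c)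
noncomputable def Ptab_s_5723_5727 (c : Nat) : Nat := @Bool.rec (fun _ => Nat) (Ptab_s_5723_5725 c) (Ptab_s_5725_5727 c) (Nat.ble 5725 c)
noncomputable def Ptab_s_5720_5727 (c : Nat) : Nat := @Bool.rec (fun _ => Nat) (Ptab_s_5720_5723 c) (Ptab_s_5723_5727 c) (Nat.ble 5723 c)
noncomputable def Ptab_s_5727_5729 (c : Nat) : Nat := @Bool.rec (fun _ => Nat) (Ptab_5727) (Ptab_5728) (Nat.ble 5728 c)
noncomputable def Ptab_s_5729_5731 (c : Nat) : Nat := @Bool.rec (fun _ => Nat) (Ptab_5729) (Ptab_5730) (Nat.ble 5730 c)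
noncomputable def Ptab_s_5727_5731 (c : Nat) : Nat := @Bool.rec (fun _ => Nat) (Ptab_s_5727_5729 c) (Ptab_s_5729_5731 c) (Nat.ble 5729 c)
noncomputable def Ptab_s_5731_5733 (c : Nat) : Nat := @Bool.rec (fun _ => Nat) (Ptab_5731) (Ptab_5732) (Nat.ble 5732 c)
noncomputable def Ptab_s_5733_5735 (c : Nat) : Nat := @Bool.rec (fun _ => Nat) (Ptab_5733) (Ptab_5734) (Nat.ble 5734 c)
noncomputable def Ptab_s_5731_5735 (c : Nat) : Nat := @Bool.rec (fun _ => Nat) (Ptab_s_5731_5733 c) (Ptab_s_5733_5735 c) (Nat.ble 5733 c)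
noncomputable def Ptab_s_5727_5735 (c : Nat) : Nat := @Bool.rec (fun _ => Nat) (Ptab_s_5727_5731 c) (Ptab_s_5731_5735 c) (Nat.ble 5731 c)
noncomputable def Ptab_s_5720_5735 (c : Nat) : Nat := @Bool.rec (fun _ => Nat) (Ptab_s_5720_5727 c) (Ptab_s_5727_5735 c) (Nat.ble 5727 c)
noncomputable def Ptab_s_5735_5737 (c : Nat) : Nat := @Bool.rec (fun _ => Nat) (Ptab_5735) (Ptab_5736) (Nat.ble 5736 c)
noncomputable def Ptab_s_5737_5739 (c : Nat) : Nat := @Bool.rec (fun _ => Nat) (Ptab_5737) (Ptab_5738) (Nat.ble 5738 c)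
noncomputable def Ptab_s_5735_5739 (c : Nat) : Nat := @Bool.rec (fun _ => Nat) (Ptab_s_5735_5737 c) (Ptab_s_5737_5739 c) (Nat.ble 5737 c)
noncomputable def Ptab_s_5739_5741 (c : Nat) : Nat := @Bool.rec (fun _ => Nat) (Ptab_5739) (Ptab_5740) (Nat.ble 5740 c)
noncomputable def Ptab_s_5741_5743 (c : Nat) : Nat := @Bool.rec (fun _ => Nat) (Ptab_5741) (Ptab_5742) (Nat.ble 5742 c)
noncomputable def Ptab_s_5739_5743 (c : Nat) : Nat := @Bool.rec (fun _ => Nat) (Ptab_s_5739_5741 c) (Ptab_s_5741_5743 c) (Nat.ble 5741 c)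
noncomputable def Ptab_s_5735_5743 (c : Nat) : Nat := @Bool.rec (fun _ => Nat) (Ptab_s_5735_5739 c) (Ptab_s_5739_5743 c) (Nat.ble 5739 c)
noncomputable def Ptab_s_5743_5745 (c : Nat) : Nat := @Bool.rec (fun _ => Nat) (Ptab_5743) (Ptab_5744) (Nat.ble 5744 c)
noncomputable def Ptab_s_5745_5747 (c : Nat) : Nat := @Bool.rec (fun _ => Nat) (Ptab_5745) (Ptab_5746) (Nat.ble 5746 c)
noncomputable def Ptab_s_5743_5747 (c : Nat) : Nat := @Bool.rec (fun _ => Nat) (Ptab_s_5743_5745 c) (Ptab_s_5745_5747 c) (Nat.ble 5745 c)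
noncomputable def Ptab_s_5747_5749 (c : Nat) : Nat := @Bool.rec (fun _ => Nat) (Ptab_5747) (Ptab_5748) (Nat.ble 5748 c)
noncomputable def Ptab_s_5749_5751 (c : Nat) : Nat := @Bool.rec (fun _ => Nat) (Ptab_5749) (Ptab_5750) (Nat.ble 5750 c)
noncomputable def Ptab_s_5747_5751 (c : Nat) : Nat := @Bool.rec (fun _ => Nat) (Ptab_s_5747_5749 c) (Ptab_s_5749_5751 c) (Nat.ble 5749 c)
noncomputable def Ptab_s_5743_5751 (c : Nat) : Nat := @Bool.rec (fun _ => Nat) (Ptab_s_5743_5747 c) (Ptab_s_5747_5751 c) (Nat.ble 5747 c)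
noncomputable def Ptab_s_5735_5751 (c : Nat) : Nat := @Bool.rec (fun _ => Nat) (Ptab_s_5735_5743 c) (Ptab_s_5743_5751 c) (Nat.ble 5743 c)
noncomputable def Ptab_s_5720_5751 (c : Nat) : Nat := @Bool.rec (fun _ => Nat) (Ptab_s_5720_5735 c) (Ptab_s_5735_5751 c) (Nat.ble 5735 c)
noncomputable def Ptab_s_5690_5751 (c : Nat) : Nat := @Bool.rec (fun _ => Nat) (Ptab_s_5690_5720 c) (Ptab_s_5720_5751 c) (Nat.ble 5720 c)
noncomputable def Ptab_s_5629_5751 (c : Nat) : Nat := @Bool.rec (fun _ => Nat) (Ptab_s_5629_5690 c) (Ptab_s_5690_5751 c) (Nat.ble 5690 c)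
noncomputable def Ptab_s_5752_5754 (c : Nat) : Nat := @Bool.rec (fun _ => Nat) (Ptab_5752) (Ptab_5753) (Nat.ble 5753 c)
noncomputable def Ptab_s_5751_5754 (c : Nat) : Nat := @Bool.rec (fun _ => Nat) (Ptab_5751) (Ptab_s_5752_5754 c) (Nat.ble 5752 c)
noncomputable def Ptab_s_5754_5756 (c : Nat) : Nat := @Bool.rec (fun _ => Nat) (Ptab_5754) (Ptab_5755) (Nat.ble 5755 c)
noncomputable def Ptab_s_5756_5758 (c : Nat) : Nat := @Bool.rec (fun _ => Nat) (Ptab_5756) (Ptab_5757) (Nat.ble 5757 c)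
noncomputable def Ptab_s_5754_5758 (c : Nat) : Nat := @Bool.rec (fun _ => Nat) (Ptab_s_5754_5756 c) (Ptab_s_5756_5758 c) (Nat.ble 5756 c)
noncomputable def Ptab_s_5751_5758 (c : Nat) : Nat := @Bool.rec (fun _ => Nat) (Ptab_s_5751_5754 c) (Ptab_s_5754_5758 c) (Nat.ble 5754 c)
noncomputable def Ptab_s_5758_5760 (c : Nat) : Nat := @Bool.rec (fun _ => Nat) (Ptab_5758) (Ptab_5759) (Nat.ble 5759 c)
noncomputable def Ptab_s_5760_5762 (c : Nat) : Nat := @Bool.rec (fun _ => Nat) (Ptab_5760) (Ptab_5761) (Nat.ble 5761 c)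
noncomputable def Ptab_s_5758_5762 (c : Nat) : Nat := @Bool.rec (fun _ => Nat) (Ptab_s_5758_5760 c) (Ptab_s_5760_5762 c) (Nat.ble 5760 c)
noncomputable def Ptab_s_5762_5764 (c : Nat) : Nat := @Bool.rec (fun _ => Nat) (Ptab_5762) (Ptab_5763) (Nat.ble 5763 c)
noncomputable def Ptab_s_5764_5766 (c : Nat) : Nat := @Bool.rec (fun _ => Nat) (Ptab_5764) (Ptab_5765) (Nat.ble 5765 c)
noncomputable def Ptab_s_5762_5766 (c : Nat) : Nat := @Bool.rec (fun _ => Nat) (Ptab_s_5762_5764 c) (Ptab_s_5764_5766 c) (Nat.ble 5764 c)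
noncomputable def Ptab_s_5758_5766 (c : Nat) : Nat := @Bool.rec (fun _ => Nat) (Ptab_s_5758_5762 c) (Ptab_s_5762_5766 c) (Nat.ble 5762 c)
noncomputable def Ptab_s_5751_5766 (c : Nat) : Nat := @Bool.rec (fun _ => Nat) (Ptab_s_5751_5758 c) (Ptab_s_5758_5766 c) (Nat.ble 5758 c)
noncomputable def Ptab_s_5767_5769 (c : Nat) : Nat := @Bool.rec (fun _ => Nat) (Ptab_5767) (Ptab_5768) (Nat.ble 5768 c)
noncomputable def Ptab_s_5766_5769 (c : Nat) : Nat := @Bool.rec (fun _ => Nat) (Ptab_5766) (Ptab_s_5767_5769 c) (Nat.ble 5767 c)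
noncomputable def Ptab_s_5769_5771 (c : Nat) : Nat := @Bool.rec (fun _ => Nat) (Ptab_5769) (Ptab_5770) (Nat.ble 5770 c)
noncomputable def Ptab_s_5771_5773 (c : Nat) : Nat := @Bool.rec (fun _ => Nat) (Ptab_5771) (Ptab_5772) (Nat.ble 5772 c)
noncomputable def Ptab_s_5769_5773 (c : Nat) : Nat := @Bool.rec (fun _ => Nat) (Ptab_s_5769_5771 c) (Ptab_s_5771_5773 c) (Nat.ble 5771 c)
noncomputable def Ptab_s_5766_5773 (c : Nat) : Nat := @Bool.rec (fun _ => Nat) (Ptab_s_5766_5769 c) (Ptab_s_5769_5773 c) (Nat.ble 5769 c)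
noncomputable def Ptab_s_5773_5775 (c : Nat) : Nat := @Bool.rec (fun _ => Nat) (Ptab_5773) (Ptab_5774) (Nat.ble 5774 c)
noncomputable def Ptab_s_5775_5777 (c : Nat) : Nat := @Bool.rec (fun _ => Nat) (Ptab_5775) (Ptab_5776) (Nat.ble 5776 c)
noncomputable def Ptab_s_5773_5777 (c : Nat) : Nat := @Bool.rec (fun _ => Nat) (Ptab_s_5773_5775 c) (Ptab_s_5775_5777 c) (Nat.ble 5775 c)
noncomputable def Ptab_s_5777_5779 (c : Nat) : Nat := @Bool.rec (fun _ => Nat) (Ptab_5777) (Ptab_5778) (Nat.ble 5778 c)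
noncomputable def Ptab_s_5779_5781 (c : Nat) : Nat := @Bool.rec (fun _ => Nat) (Ptab_5779) (Ptab_5780) (Nat.ble 5780 c)
noncomputable def Ptab_s_5777_5781 (c : Nat) : Nat := @Bool.rec (fun _ => Nat) (Ptab_s_5777_5779 c) (Ptab_s_5779_5781 c) (Nat.ble 5779 c)
noncomputable def Ptab_s_5773_5781 (c : Nat) : Nat := @Bool.rec (fun _ => Nat) (Ptab_s_5773_5777 c) (Ptab_s_5777_5781 c) (Nat.ble 5777 c)
noncomputable def Ptab_s_5766_5781 (c : Nat) : Nat := @Bool.rec (fun _ => Nat) (Ptab_s_5766_5773 c) (Ptab_s_5773_5781 c) (Nat.ble 5773 c)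
noncomputable def Ptab_s_5751_5781 (c : Nat) : Nat := @Bool.rec (fun _ => Nat) (Ptab_s_5751_5766 c) (Ptab_s_5766_5781 c) (Nat.ble 5766 c)
noncomputable def Ptab_s_5782_5784 (c : Nat) : Nat := @Bool.rec (fun _ => Nat) (Ptab_5782) (Ptab_5783) (Nat.ble 5783 c)
noncomputable def Ptab_s_5781_5784 (c : Nat) : Nat := @Bool.rec (fun _ => Nat) (Ptab_5781) (Ptab_s_5782_5784 c) (Nat.ble 5782 c)
noncomputable def Ptab_s_5784_5786 (c : Nat) : Nat := @Bool.rec (fun _ => Nat) (Ptab_5784) (Ptab_5785) (Nat.ble 5785 c)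
noncomputable def Ptab_s_5786_5788 (c : Nat) : Nat := @Bool.rec (fun _ => Nat) (Ptab_5786) (Ptab_5787) (Nat.ble 5787 c)
noncomputable def Ptab_s_5784_5788 (c : Nat) : Nat := @Bool.rec (fun _ => Nat) (Ptab_s_5784_5786 c) (Ptab_s_5786_5788 c) (Nat.ble 5786 c)
noncomputable def Ptab_s_5781_5788 (c : Nat) : Nat := @Bool.rec (fun _ => Nat) (Ptab_s_5781_5784 c) (Ptab_s_5784_5788 c) (Nat.ble 5784 c)
noncomputable def Ptab_s_5788_5790 (c : Nat) : Nat := @Bool.rec (fun _ => Nat) (Ptab_5788) (Ptab_5789) (Nat.ble 5789 c)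
noncomputable def Ptab_s_5790_5792 (c : Nat) : Nat := @Bool.rec (fun _ => Nat) (Ptab_5790) (Ptab_5791) (Nat.ble 5791 c)
noncomputable def Ptab_s_5788_5792 (c : Nat) : Nat := @Bool.rec (fun _ => Nat) (Ptab_s_5788_5790 c) (Ptab_s_5790_5792 c) (Nat.ble 5790 c)
noncomputable def Ptab_s_5792_5794 (c : Nat) : Nat := @Bool.rec (fun _ => Nat) (Ptab_5792) (Ptab_5793) (Nat.ble 5793 c)
noncomputable def Ptab_s_5794_5796 (c : Nat) : Nat := @Bool.rec (fun _ => Nat) (Ptab_5794) (Ptab_5795) (Nat.ble 5795 c)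
noncomputable def Ptab_s_5792_5796 (c : Nat) : Nat := @Bool.rec (fun _ => Nat) (Ptab_s_5792_5794 c) (Ptab_s_5794_5796 c) (Nat.ble 5794 c)
noncomputable def Ptab_s_5788_5796 (c : Nat) : Nat := @Bool.rec (fun _ => Nat) (Ptab_s_5788_5792 c) (Ptab_s_5792_5796 c) (Nat.ble 5792 c)
noncomputable def Ptab_s_5781_5796 (c : Nat) : Nat := @Bool.rec (fun _ => Nat) (Ptab_s_5781_5788 c) (Ptab_s_5788_5796 c) (Nat.ble 5788 c)
noncomputable def Ptab_s_5796_5798 (c : Nat) : Nat := @Bool.rec (fun _ => Nat) (Ptab_5796) (Ptab_5797) (Nat.ble 5797 c)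
noncomputable def Ptab_s_5798_5800 (c : Nat) : Nat := @Bool.rec (fun _ => Nat) (Ptab_5798) (Ptab_5799) (Nat.ble 5799 c)
noncomputable def Ptab_s_5796_5800 (c : Nat) : Nat := @Bool.rec (fun _ => Nat) (Ptab_s_5796_5798 c) (Ptab_s_5798_5800 c) (Nat.ble 5798 c)
noncomputable def Ptab_s_5800_5802 (c : Nat) : Nat := @Bool.rec (fun _ => Nat) (Ptab_5800) (Ptab_5801) (Nat.ble 5801 c)
noncomputable def Ptab_s_5802_5804 (c : Nat) : Nat := @Bool.rec (fun _ => Nat) (Ptab_5802) (Ptab_5803) (Nat.ble 5803 c)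
noncomputable def Ptab_s_5800_5804 (c : Nat) : Nat := @Bool.rec (fun _ => Nat) (Ptab_s_5800_5802 c) (Ptab_s_5802_5804 c) (Nat.ble 5802 c)
noncomputable def Ptab_s_5796_5804 (c : Nat) : Nat := @Bool.rec (fun _ => Nat) (Ptab_s_5796_5800 c) (Ptab_s_5800_5804 c) (Nat.ble 5800 c)
noncomputable def Ptab_s_5804_5806 (c : Nat) : Nat := @Bool.rec (fun _ => Nat) (Ptab_5804) (Ptab_5805) (Nat.ble 5805 c)
noncomputable def Ptab_s_5806_5808 (c : Nat) : Nat := @Bool.rec (fun _ => Nat) (Ptab_5806) (Ptab_5807) (Nat.ble 5807 c)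
noncomputable def Ptab_s_5804_5808 (c : Nat) : Nat := @Bool.rec (fun _ => Nat) (Ptab_s_5804_5806 c) (Ptab_s_5806_5808 c) (Nat.ble 5806 c)
noncomputable def Ptab_s_5808_5810 (c : Nat) : Nat := @Bool.rec (fun _ => Nat) (Ptab_5808) (Ptab_5809) (Nat.ble 5809 c)
noncomputable def Ptab_s_5810_5812 (c : Nat) : Nat := @Bool.rec (fun _ => Nat) (Ptab_5810) (Ptab_5811) (Nat.ble 5811 c)
noncomputable def Ptab_s_5808_5812 (c : Nat) : Nat := @Bool.rec (fun _ => Nat) (Ptab_s_5808_5810 c) (Ptab_s_5810_5812 c) (Nat.ble 5810 c)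
noncomputable def Ptab_s_5804_5812 (c : Nat) : Nat := @Bool.rec (fun _ => Nat) (Ptab_s_5804_5808 c) (Ptab_s_5808_5812 c) (Nat.ble 5808 c)
noncomputable def Ptab_s_5796_5812 (c : Nat) : Nat := @Bool.rec (fun _ => Nat) (Ptab_s_5796_5804 c) (Ptab_s_5804_5812 c) (Nat.ble 5804 c)
noncomputable def Ptab_s_5781_5812 (c : Nat) : Nat := @Bool.rec (fun _ => Nat) (Ptab_s_5781_5796 c) (Ptab_s_5796_5812 c) (Nat.ble 5796 c)
noncomputable def Ptab_s_5751_5812 (c : Nat) : Nat := @Bool.rec (fun _ => Nat) (Ptab_s_5751_5781 c) (Ptab_s_5781_5812 c) (Nat.ble 5781 c)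
noncomputable def Ptab_s_5813_5815 (c : Nat) : Nat := @Bool.rec (fun _ => Nat) (Ptab_5813) (Ptab_5814) (Nat.ble 5814 c)
noncomputable def Ptab_s_5812_5815 (c : Nat) : Nat := @Bool.rec (fun _ => Nat) (Ptab_5812) (Ptab_s_5813_5815 c) (Nat.ble 5813 c)
noncomputable def Ptab_s_5815_5817 (c : Nat) : Nat := @Bool.rec (fun _ => Nat) (Ptab_5815) (Ptab_5816) (Nat.ble 5816 c)
noncomputable def Ptab_s_5817_5819 (c : Nat) : Nat := @Bool.rec (fun _ => Nat) (Ptab_5817) (Ptab_5818) (Nat.ble 5818 c)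
noncomputable def Ptab_s_5815_5819 (c : Nat) : Nat := @Bool.rec (fun _ => Nat) (Ptab_s_5815_5817 c) (Ptab_s_5817_5819 c) (Nat.ble 5817 c)
noncomputable def Ptab_s_5812_5819 (c : Nat) : Nat := @Bool.rec (fun _ => Nat) (Ptab_s_5812_5815 c) (Ptab_s_5815_5819 c) (Nat.ble 5815 c)
noncomputable def Ptab_s_5819_5821 (c : Nat) : Nat := @Bool.rec (fun _ => Nat) (Ptab_5819) (Ptab_5820) (Nat.ble 5820 c)
noncomputable def Ptab_s_5821_5823 (c : Nat) : Nat := @Bool.rec (fun _ => Nat) (Ptab_5821) (Ptab_5822) (Nat.ble 5822 c)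
noncomputable def Ptab_s_5819_5823 (c : Nat) : Nat := @Bool.rec (fun _ => Nat) (Ptab_s_5819_5821 c) (Ptab_s_5821_5823 c) (Nat.ble 5821 c)
noncomputable def Ptab_s_5823_5825 (c : Nat) : Nat := @Bool.rec (fun _ => Nat) (Ptab_5823) (Ptab_5824) (Nat.ble 5824 c)
noncomputable def Ptab_s_5825_5827 (c : Nat) : Nat := @Bool.rec (fun _ => Nat) (Ptab_5825) (Ptab_5826) (Nat.ble 5826 c)
noncomputable def Ptab_s_5823_5827 (c : Nat) : Nat := @Bool.rec (fun _ => Nat) (Ptab_s_5823_5825 c) (Ptab_s_5825_5827 c) (Nat.ble 5825 c)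
noncomputable def Ptab_s_5819_5827 (c : Nat) : Nat := @Bool.rec (fun _ => Nat) (Ptab_s_5819_5823 c) (Ptab_s_5823_5827 c) (Nat.ble 5823 c)
noncomputable def Ptab_s_5812_5827 (c : Nat) : Nat := @Bool.rec (fun _ => Nat) (Ptab_s_5812_5819 c) (Ptab_s_5819_5827 c) (Nat.ble 5819 c)
noncomputable def Ptab_s_5827_5829 (c : Nat) : Nat := @Bool.rec (fun _ => Nat) (Ptab_5827) (Ptab_5828) (Nat.ble 5828 c)
noncomputable def Ptab_s_5829_5831 (c : Nat) : Nat := @Bool.rec (fun _ => Nat) (Ptab_5829) (Ptab_5830) (Nat.ble 5830 c)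
noncomputable def Ptab_s_5827_5831 (c : Nat) : Nat := @Bool.rec (fun _ => Nat) (Ptab_s_5827_5829 c) (Ptab_s_5829_5831 c) (Nat.ble 5829 c)
noncomputable def Ptab_s_5831_5833 (c : Nat) : Nat := @Bool.rec (fun _ => Nat) (Ptab_5831) (Ptab_5832) (Nat.ble 5832 c)
noncomputable def Ptab_s_5833_5835 (c : Nat) : Nat := @Bool.rec (fun _ => Nat) (Ptab_5833) (Ptab_5834) (Nat.ble 5834 c)
noncomputable def Ptab_s_5831_5835 (c : Nat) : Nat := @Bool.rec (fun _ => Nat) (Ptab_s_5831_5833 c) (Ptab_s_5833_5835 c) (Nat.ble 5833 c)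
noncomputable def Ptab_s_5827_5835 (c : Nat) : Nat := @Bool.rec (fun _ => Nat) (Ptab_s_5827_5831 c) (Ptab_s_5831_5835 c) (Nat.ble 5831 c)
noncomputable def Ptab_s_5835_5837 (c : Nat) : Nat := @Bool.rec (fun _ => Nat) (Ptab_5835) (Ptab_5836) (Nat.ble 5836 c)
noncomputable def Ptab_s_5837_5839 (c : Nat) : Nat := @Bool.rec (fun _ => Nat) (Ptab_5837) (Ptab_5838) (Nat.ble 5838 c)
noncomputable def Ptab_s_5835_5839 (c : Nat) : Nat := @Bool.rec (fun _ => Nat) (Ptab_s_5835_5837 c) (Ptab_s_5837_5839 c) (Nat.ble 5837 c)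
noncomputable def Ptab_s_5839_5841 (c : Nat) : Nat := @Bool.rec (fun _ => Nat) (Ptab_5839) (Ptab_5840) (Nat.ble 5840 c)
noncomputable def Ptab_s_5841_5843 (c : Nat) : Nat := @Bool.rec (fun _ => Nat) (Ptab_5841) (Ptab_5842) (Nat.ble 5842 c)
noncomputable def Ptab_s_5839_5843 (c : Nat) : Nat := @Bool.rec (fun _ => Nat) (Ptab_s_5839_5841 c) (Ptab_s_5841_5843 c) (Nat.ble 5841 c)
noncomputable def Ptab_s_5835_5843 (c : Nat) : Nat := @Bool.rec (fun _ => Nat) (Ptab_s_5835_5839 c) (Ptab_s_5839_5843 c) (Nat.ble 5839 c)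
noncomputable def Ptab_s_5827_5843 (c : Nat) : Nat := @Bool.rec (fun _ => Nat) (Ptab_s_5827_5835 c) (Ptab_s_5835_5843 c) (Nat.ble 5835 c)
noncomputable def Ptab_s_5812_5843 (c : Nat) : Nat := @Bool.rec (fun _ => Nat) (Ptab_s_5812_5827 c) (Ptab_s_5827_5843 c) (Nat.ble 5827 c)
noncomputable def Ptab_s_5844_5846 (c : Nat) : Nat := @Bool.rec (fun _ => Nat) (Ptab_5844) (Ptab_5845) (Nat.ble 5845 c)
noncomputable def Ptab_s_5843_5846 (c : Nat) : Nat := @Bool.rec (fun _ => Nat) (Ptab_5843) (Ptab_s_5844_5846 c) (Nat.ble 5844 c)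
noncomputable def Ptab_s_5846_5848 (c : Nat) : Nat := @Bool.rec (fun _ => Nat) (Ptab_5846) (Ptab_5847) (Nat.ble 5847 c)
noncomputable def Ptab_s_5848_5850 (c : Nat) : Nat := @Bool.rec (fun _ => Nat) (Ptab_5848) (Ptab_5849) (Nat.ble 5849 c)
noncomputable def Ptab_s_5846_5850 (c : Nat) : Nat := @Bool.rec (fun _ => Nat) (Ptab_s_5846_5848 c) (Ptab_s_5848_5850 c) (Nat.ble 5848 c)
noncomputable def Ptab_s_5843_5850 (c : Nat) : Nat := @Bool.rec (fun _ => Nat) (Ptab_s_5843_5846 c) (Ptab_s_5846_5850 c) (Nat.ble 5846 c)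
noncomputable def Ptab_s_5850_5852 (c : Nat) : Nat := @Bool.rec (fun _ => Nat) (Ptab_5850) (Ptab_5851) (Nat.ble 5851 c)
noncomputable def Ptab_s_5852_5854 (c : Nat) : Nat := @Bool.rec (fun _ => Nat) (Ptab_5852) (Ptab_5853) (Nat.ble 5853 c)
noncomputable def Ptab_s_5850_5854 (c : Nat) : Nat := @Bool.rec (fun _ => Nat) (Ptab_s_5850_5852 c) (Ptab_s_5852_5854 c) (Nat.ble 5852 c)
noncomputable def Ptab_s_5854_5856 (c : Nat) : Nat := @Bool.rec (fun _ => Nat) (Ptab_5854) (Ptab_5855) (Nat.ble 5855 c)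
noncomputable def Ptab_s_5856_5858 (c : Nat) : Nat := @Bool.rec (fun _ => Nat) (Ptab_5856) (Ptab_5857) (Nat.ble 5857 c)
noncomputable def Ptab_s_5854_5858 (c : Nat) : Nat := @Bool.rec (fun _ => Nat) (Ptab_s_5854_5856 c) (Ptab_s_5856_5858 c) (Nat.ble 5856 c)
noncomputable def Ptab_s_5850_5858 (c : Nat) : Nat := @Bool.rec (fun _ => Nat) (Ptab_s_5850_5854 c) (Ptab_s_5854_5858 c) (Nat.ble 5854 c)
noncomputable def Ptab_s_5843_5858 (c : Nat) : Nat := @Bool.rec (fun _ => Nat) (Ptab_s_5843_5850 c) (Ptab_s_5850_5858 c) (Nat.ble 5850 c)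
noncomputable def Ptab_s_5858_5860 (c : Nat) : Nat := @Bool.rec (fun _ => Nat) (Ptab_5858) (Ptab_5859) (Nat.ble 5859 c)
noncomputable def Ptab_s_5860_5862 (c : Nat) : Nat := @Bool.rec (fun _ => Nat) (Ptab_5860) (Ptab_5861) (Nat.ble 5861 c)
noncomputable def Ptab_s_5858_5862 (c : Nat) : Nat := @Bool.rec (fun _ => Nat) (Ptab_s_5858_5860 c) (Ptab_s_5860_5862 c) (Nat.ble 5860 c)
noncomputable def Ptab_s_5862_5864 (c : Nat) : Nat := @Bool.rec (fun _ => Nat) (Ptab_5862) (Ptab_5863) (Nat.ble 5863 c)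
noncomputable def Ptab_s_5864_5866 (c : Nat) : Nat := @Bool.rec (fun _ => Nat) (Ptab_5864) (Ptab_5865) (Nat.ble 5865 c)
noncomputable def Ptab_s_5862_5866 (c : Nat) : Nat := @Bool.rec (fun _ => Nat) (Ptab_s_5862_5864 c) (Ptab_s_5864_5866 c) (Nat.ble 5864 c)
noncomputable def Ptab_s_5858_5866 (c : Nat) : Nat := @Bool.rec (fun _ => Nat) (Ptab_s_5858_5862 c) (Ptab_s_5862_5866 c) (Nat.ble 5862 c)
noncomputable def Ptab_s_5866_5868 (c : Nat) : Nat := @Bool.rec (fun _ => Nat) (Ptab_5866) (Ptab_5867) (Nat.ble 5867 c)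
noncomputable def Ptab_s_5868_5870 (c : Nat) : Nat := @Bool.rec (fun _ => Nat) (Ptab_5868) (Ptab_5869) (Nat.ble 5869 c)
noncomputable def Ptab_s_5866_5870 (c : Nat) : Nat := @Bool.rec (fun _ => Nat) (Ptab_s_5866_5868 c) (Ptab_s_5868_5870 c) (Nat.ble 5868 c)
noncomputable def Ptab_s_5870_5872 (c : Nat) : Nat := @Bool.rec (fun _ => Nat) (Ptab_5870) (Ptab_5871) (Nat.ble 5871 c)
noncomputable def Ptab_s_5872_5874 (c : Nat) : Nat := @Bool.rec (fun _ => Nat) (Ptab_5872) (Ptab_5873) (Nat.ble 5873 c)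
noncomputable def Ptab_s_5870_5874 (c : Nat) : Nat := @Bool.rec (fun _ => Nat) (Ptab_s_5870_5872 c) (Ptab_s_5872_5874 c) (Nat.ble 5872 c)
noncomputable def Ptab_s_5866_5874 (c : Nat) : Nat := @Bool.rec (fun _ => Nat) (Ptab_s_5866_5870 c) (Ptab_s_5870_5874 c) (Nat.ble 5870 c)
noncomputable def Ptab_s_5858_5874 (c : Nat) : Nat := @Bool.rec (fun _ => Nat) (Ptab_s_5858_5866 c) (Ptab_s_5866_5874 c) (Nat.ble 5866 c)
noncomputable def Ptab_s_5843_5874 (c : Nat) : Nat := @Bool.rec (fun _ => Nat) (Ptab_s_5843_5858 c) (Ptab_s_5858_5874 c) (Nat.ble 5858 c)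
noncomputable def Ptab_s_5812_5874 (c : Nat) : Nat := @Bool.rec (fun _ => Nat) (Ptab_s_5812_5843 c) (Ptab_s_5843_5874 c) (Nat.ble 5843 c)
noncomputable def Ptab_s_5751_5874 (c : Nat) : Nat := @Bool.rec (fun _ => Nat) (Ptab_s_5751_5812 c) (Ptab_s_5812_5874 c) (Nat.ble 5812 c)
noncomputable def Ptab_s_5629_5874 (c : Nat) : Nat := @Bool.rec (fun _ => Nat) (Ptab_s_5629_5751 c) (Ptab_s_5751_5874 c) (Nat.ble 5751 c)
noncomputable def Ptab_s_5384_5874 (c : Nat) : Nat := @Bool.rec (fun _ => Nat) (Ptab_s_5384_5629 c) (Ptab_s_5629_5874 c) (Nat.ble 5629 c)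
noncomputable def Ptab_s_4895_5874 (c : Nat) : Nat := @Bool.rec (fun _ => Nat) (Ptab_s_4895_5384 c) (Ptab_s_5384_5874 c) (Nat.ble 5384 c)
noncomputable def Ptab_s_3916_5874 (c : Nat) : Nat := @Bool.rec (fun _ => Nat) (Ptab_s_3916_4895 c) (Ptab_s_4895_5874 c) (Nat.ble 4895 c)
noncomputable def Ptab_s_5875_5877 (c : Nat) : Nat := @Bool.rec (fun _ => Nat) (Ptab_5875) (Ptab_5876) (Nat.ble 5876 c)
noncomputable def Ptab_s_5874_5877 (c : Nat) : Nat := @Bool.rec (fun _ => Nat) (Ptab_5874) (Ptab_s_5875_5877 c) (Nat.ble 5875 c)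
noncomputable def Ptab_s_5877_5879 (c : Nat) : Nat := @Bool.rec (fun _ => Nat) (Ptab_5877) (Ptab_5878) (Nat.ble 5878 c)
noncomputable def Ptab_s_5879_5881 (c : Nat) : Nat := @Bool.rec (fun _ => Nat) (Ptab_5879) (Ptab_5880) (Nat.ble 5880 c)
noncomputable def Ptab_s_5877_5881 (c : Nat) : Nat := @Bool.rec (fun _ => Nat) (Ptab_s_5877_5879 c) (Ptab_s_5879_5881 c) (Nat.ble 5879 c)
noncomputable def Ptab_s_5874_5881 (c : Nat) : Nat := @Bool.rec (fun _ => Nat) (Ptab_s_5874_5877 c) (Ptab_s_5877_5881 c) (Nat.ble 5877 c)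
noncomputable def Ptab_s_5881_5883 (c : Nat) : Nat := @Bool.rec (fun _ => Nat) (Ptab_5881) (Ptab_5882) (Nat.ble 5882 c)
noncomputable def Ptab_s_5883_5885 (c : Nat) : Nat := @Bool.rec (fun _ => Nat) (Ptab_5883) (Ptab_5884) (Nat.ble 5884 c)
noncomputable def Ptab_s_5881_5885 (c : Nat) : Nat := @Bool.rec (fun _ => Nat) (Ptab_s_5881_5883 c) (Ptab_s_5883_5885 c) (Nat.ble 5883 c)
noncomputable def Ptab_s_5885_5887 (c : Nat) : Nat := @Bool.rec (fun _ => Nat) (Ptab_5885) (Ptab_5886) (Nat.ble 5886 c)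
noncomputable def Ptab_s_5887_5889 (c : Nat) : Nat := @Bool.rec (fun _ => Nat) (Ptab_5887) (Ptab_5888) (Nat.ble 5888 c)
noncomputable def Ptab_s_5885_5889 (c : Nat) : Nat := @Bool.rec (fun _ => Nat) (Ptab_s_5885_5887 c) (Ptab_s_5887_5889 c) (Nat.ble 5887 c)
noncomputable def Ptab_s_5881_5889 (c : Nat) : Nat := @Bool.rec (fun _ => Nat) (Ptab_s_5881_5885 c) (Ptab_s_5885_5889 c) (Nat.ble 5885 c)
noncomputable def Ptab_s_5874_5889 (c : Nat) : Nat := @Bool.rec (fun _ => Nat) (Ptab_s_5874_5881 c) (Ptab_s_5881_5889 c) (Nat.ble 5881 c)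
noncomputable def Ptab_s_5890_5892 (c : Nat) : Nat := @Bool.rec (fun _ => Nat) (Ptab_5890) (Ptab_5891) (Nat.ble 5891 c)
noncomputable def Ptab_s_5889_5892 (c : Nat) : Nat := @Bool.rec (fun _ => Nat) (Ptab_5889) (Ptab_s_5890_5892 c) (Nat.ble 5890 c)
noncomputable def Ptab_s_5892_5894 (c : Nat) : Nat := @Bool.rec (fun _ => Nat) (Ptab_5892) (Ptab_5893) (Nat.ble 5893 c)
noncomputable def Ptab_s_5894_5896 (c : Nat) : Nat := @Bool.rec (fun _ => Nat) (Ptab_5894) (Ptab_5895) (Nat.ble 5895 c)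
noncomputable def Ptab_s_5892_5896 (c : Nat) : Nat := @Bool.rec (fun _ => Nat) (Ptab_s_5892_5894 c) (Ptab_s_5894_5896 c) (Nat.ble 5894 c)
noncomputable def Ptab_s_5889_5896 (c : Nat) : Nat := @Bool.rec (fun _ => Nat) (Ptab_s_5889_5892 c) (Ptab_s_5892_5896 c) (Nat.ble 5892 c)
noncomputable def Ptab_s_5896_5898 (c : Nat) : Nat := @Bool.rec (fun _ => Nat) (Ptab_5896) (Ptab_5897) (Nat.ble 5897 c)
noncomputable def Ptab_s_5898_5900 (c : Nat) : Nat := @Bool.rec (fun _ => Nat) (Ptab_5898) (Ptab_5899) (Nat.ble 5899 c)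
noncomputable def Ptab_s_5896_5900 (c : Nat) : Nat := @Bool.rec (fun _ => Nat) (Ptab_s_5896_5898 c) (Ptab_s_5898_5900 c) (Nat.ble 5898 c)
noncomputable def Ptab_s_5900_5902 (c : Nat) : Nat := @Bool.rec (fun _ => Nat) (Ptab_5900) (Ptab_5901) (Nat.ble 5901 c)
noncomputable def Ptab_s_5902_5904 (c : Nat) : Nat := @Bool.rec (fun _ => Nat) (Ptab_5902) (Ptab_5903) (Nat.ble 5903 c)
noncomputable def Ptab_s_5900_5904 (c : Nat) : Nat := @Bool.rec (fun _ => Nat) (Ptab_s_5900_5902 c) (Ptab_s_5902_5904 c) (Nat.ble 5902 c)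
noncomputable def Ptab_s_5896_5904 (c : Nat) : Nat := @Bool.rec (fun _ => Nat) (Ptab_s_5896_5900 c) (Ptab_s_5900_5904 c) (Nat.ble 5900 c)
noncomputable def Ptab_s_5889_5904 (c : Nat) : Nat := @Bool.rec (fun _ => Nat) (Ptab_s_5889_5896 c) (Ptab_s_5896_5904 c) (Nat.ble 5896 c)
noncomputable def Ptab_s_5874_5904 (c : Nat) : Nat := @Bool.rec (fun _ => Nat) (Ptab_s_5874_5889 c) (Ptab_s_5889_5904 c) (Nat.ble 5889 c)
noncomputable def Ptab_s_5905_5907 (c : Nat) : Nat := @Bool.rec (fun _ => Nat) (Ptab_5905) (Ptab_5906) (Nat.ble 5906 c)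
noncomputable def Ptab_s_5904_5907 (c : Nat) : Nat := @Bool.rec (fun _ => Nat) (Ptab_5904) (Ptab_s_5905_5907 c) (Nat.ble 5905 c)
noncomputable def Ptab_s_5907_5909 (c : Nat) : Nat := @Bool.rec (fun _ => Nat) (Ptab_5907) (Ptab_5908) (Nat.ble 5908 c)
noncomputable def Ptab_s_5909_5911 (c : Nat) : Nat := @Bool.rec (fun _ => Nat) (Ptab_5909) (Ptab_5910) (Nat.ble 5910 c)
noncomputable def Ptab_s_5907_5911 (c : Nat) : Nat := @Bool.rec (fun _ => Nat) (Ptab_s_5907_5909 c) (Ptab_s_5909_5911 c) (Nat.ble 5909 c)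
noncomputable def Ptab_s_5904_5911 (c : Nat) : Nat := @Bool.rec (fun _ => Nat) (Ptab_s_5904_5907 c) (Ptab_s_5907_5911 c) (Nat.ble 5907 c)
noncomputable def Ptab_s_5911_5913 (c : Nat) : Nat := @Bool.rec (fun _ => Nat) (Ptab_5911) (Ptab_5912) (Nat.ble 5912 c)
noncomputable def Ptab_s_5913_5915 (c : Nat) : Nat := @Bool.rec (fun _ => Nat) (Ptab_5913) (Ptab_5914) (Nat.ble 5914 c)
noncomputable def Ptab_s_5911_5915 (c : Nat) : Nat := @Bool.rec (fun _ => Nat) (Ptab_s_5911_5913 c) (Ptab_s_5913_5915 c) (Nat.ble 5913 c)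
noncomputable def Ptab_s_5915_5917 (c : Nat) : Nat := @Bool.rec (fun _ => Nat) (Ptab_5915) (Ptab_5916) (Nat.ble 5916 c)
noncomputable def Ptab_s_5917_5919 (c : Nat) : Nat := @Bool.rec (fun _ => Nat) (Ptab_5917) (Ptab_5918) (Nat.ble 5918 c)
noncomputable def Ptab_s_5915_5919 (c : Nat) : Nat := @Bool.rec (fun _ => Nat) (Ptab_s_5915_5917 c) (Ptab_s_5917_5919 c) (Nat.ble 5917 c)
noncomputable def Ptab_s_5911_5919 (c : Nat) : Nat := @Bool.rec (fun _ => Nat) (Ptab_s_5911_5915 c) (Ptab_s_5915_5919 c) (Nat.ble 5915 c)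
noncomputable def Ptab_s_5904_5919 (c : Nat) : Nat := @Bool.rec (fun _ => Nat) (Ptab_s_5904_5911 c) (Ptab_s_5911_5919 c) (Nat.ble 5911 c)
noncomputable def Ptab_s_5919_5921 (c : Nat) : Nat := @Bool.rec (fun _ => Nat) (Ptab_5919) (Ptab_5920) (Nat.ble 5920 c)
noncomputable def Ptab_s_5921_5923 (c : Nat) : Nat := @Bool.rec (fun _ => Nat) (Ptab_5921) (Ptab_5922) (Nat.ble 5922 c)
noncomputable def Ptab_s_5919_5923 (c : Nat) : Nat := @Bool.rec (fun _ => Nat) (Ptab_s_5919_5921 c) (Ptab_s_5921_5923 c) (Nat.ble 5921 c)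
noncomputable def Ptab_s_5923_5925 (c : Nat) : Nat := @Bool.rec (fun _ => Nat) (Ptab_5923) (Ptab_5924) (Nat.ble 5924 c)
noncomputable def Ptab_s_5925_5927 (c : Nat) : Nat := @Bool.rec (fun _ => Nat) (Ptab_5925) (Ptab_5926) (Nat.ble 5926 c)
noncomputable def Ptab_s_5923_5927 (c : Nat) : Nat := @Bool.rec (fun _ => Nat) (Ptab_s_5923_5925 c) (Ptab_s_5925_5927 c) (Nat.ble 5925 c)
noncomputable def Ptab_s_5919_5927 (c : Nat) : Nat := @Bool.rec (fun _ => Nat) (Ptab_s_5919_5923 c) (Ptab_s_5923_5927 c) (Nat.ble 5923 c)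
noncomputable def Ptab_s_5927_5929 (c : Nat) : Nat := @Bool.rec (fun _ => Nat) (Ptab_5927) (Ptab_5928) (Nat.ble 5928 c)
noncomputable def Ptab_s_5929_5931 (c : Nat) : Nat := @Bool.rec (fun _ => Nat) (Ptab_5929) (Ptab_5930) (Nat.ble 5930 c)
noncomputable def Ptab_s_5927_5931 (c : Nat) : Nat := @Bool.rec (fun _ => Nat) (Ptab_s_5927_5929 c) (Ptab_s_5929_5931 c) (Nat.ble 5929 c)
noncomputable def Ptab_s_5931_5933 (c : Nat) : Nat := @Bool.rec (fun _ => Nat) (Ptab_5931) (Ptab_5932) (Nat.ble 5932 c)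
noncomputable def Ptab_s_5933_5935 (c : Nat) : Nat := @Bool.rec (fun _ => Nat) (Ptab_5933) (Ptab_5934) (Nat.ble 5934 c)
noncomputable def Ptab_s_5931_5935 (c : Nat) : Nat := @Bool.rec (fun _ => Nat) (Ptab_s_5931_5933 c) (Ptab_s_5933_5935 c) (Nat.ble 5933 c)
noncomputable def Ptab_s_5927_5935 (c : Nat) : Nat := @Bool.rec (fun _ => Nat) (Ptab_s_5927_5931 c) (Ptab_s_5931_5935 c) (Nat.ble 5931 c)
noncomputable def Ptab_s_5919_5935 (c : Nat) : Nat := @Bool.rec (fun _ => Nat) (Ptab_s_5919_5927 c) (Ptab_s_5927_5935 c) (Nat.ble 5927 c)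
noncomputable def Ptab_s_5904_5935 (c : Nat) : Nat := @Bool.rec (fun _ => Nat) (Ptab_s_5904_5919 c) (Ptab_s_5919_5935 c) (Nat.ble 5919 c)
noncomputable def Ptab_s_5874_5935 (c : Nat) : Nat := @Bool.rec (fun _ => Nat) (Ptab_s_5874_5904 c) (Ptab_s_5904_5935 c) (Nat.ble 5904 c)
noncomputable def Ptab_s_5936_5938 (c : Nat) : Nat := @Bool.rec (fun _ => Nat) (Ptab_5936) (Ptab_5937) (Nat.ble 5937 c)
noncomputable def Ptab_s_5935_5938 (c : Nat) : Nat := @Bool.rec (fun _ => Nat) (Ptab_5935) (Ptab_s_5936_5938 c) (Nat.ble 5936 c)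
noncomputable def Ptab_s_5938_5940 (c : Nat) : Nat := @Bool.rec (fun _ => Nat) (Ptab_5938) (Ptab_5939) (Nat.ble 5939 c)
noncomputable def Ptab_s_5940_5942 (c : Nat) : Nat := @Bool.rec (fun _ => Nat) (Ptab_5940) (Ptab_5941) (Nat.ble 5941 c)
noncomputable def Ptab_s_5938_5942 (c : Nat) : Nat := @Bool.rec (fun _ => Nat) (Ptab_s_5938_5940 c) (Ptab_s_5940_5942 c) (Nat.ble 5940 c)
noncomputable def Ptab_s_5935_5942 (c : Nat) : Nat := @Bool.rec (fun _ => Nat) (Ptab_s_5935_5938 c) (Ptab_s_5938_5942 c) (Nat.ble 5938 c)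
noncomputable def Ptab_s_5942_5944 (c : Nat) : Nat := @Bool.rec (fun _ => Nat) (Ptab_5942) (Ptab_5943) (Nat.ble 5943 c)
noncomputable def Ptab_s_5944_5946 (c : Nat) : Nat := @Bool.rec (fun _ => Nat) (Ptab_5944) (Ptab_5945) (Nat.ble 5945 c)
noncomputable def Ptab_s_5942_5946 (c : Nat) : Nat := @Bool.rec (fun _ => Nat) (Ptab_s_5942_5944 c) (Ptab_s_5944_5946 c) (Nat.ble 5944 c)
noncomputable def Ptab_s_5946_5948 (c : Nat) : Nat := @Bool.rec (fun _ => Nat) (Ptab_5946) (Ptab_5947) (Nat.ble 5947 c)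
noncomputable def Ptab_s_5948_5950 (c : Nat) : Nat := @Bool.rec (fun _ => Nat) (Ptab_5948) (Ptab_5949) (Nat.ble 5949 c)
noncomputable def Ptab_s_5946_5950 (c : Nat) : Nat := @Bool.rec (fun _ => Nat) (Ptab_s_5946_5948 c) (Ptab_s_5948_5950 c) (Nat.ble 5948 c)
noncomputable def Ptab_s_5942_5950 (c : Nat) : Nat := @Bool.rec (fun _ => Nat) (Ptab_s_5942_5946 c) (Ptab_s_5946_5950 c) (Nat.ble 5946 c)
noncomputable def Ptab_s_5935_5950 (c : Nat) : Nat := @Bool.rec (fun _ => Nat) (Ptab_s_5935_5942 c) (Ptab_s_5942_5950 c) (Nat.ble 5942 c)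
noncomputable def Ptab_s_5951_5953 (c : Nat) : Nat := @Bool.rec (fun _ => Nat) (Ptab_5951) (Ptab_5952) (Nat.ble 5952 c)
noncomputable def Ptab_s_5950_5953 (c : Nat) : Nat := @Bool.rec (fun _ => Nat) (Ptab_5950) (Ptab_s_5951_5953 c) (Nat.ble 5951 c)
noncomputable def Ptab_s_5953_5955 (c : Nat) : Nat := @Bool.rec (fun _ => Nat) (Ptab_5953) (Ptab_5954) (Nat.ble 5954 c)
noncomputable def Ptab_s_5955_5957 (c : Nat) : Nat := @Bool.rec (fun _ => Nat) (Ptab_5955) (Ptab_5956) (Nat.ble 5956 c)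
noncomputable def Ptab_s_5953_5957 (c : Nat) : Nat := @Bool.rec (fun _ => Nat) (Ptab_s_5953_5955 c) (Ptab_s_5955_5957 c) (Nat.ble 5955 c)
noncomputable def Ptab_s_5950_5957 (c : Nat) : Nat := @Bool.rec (fun _ => Nat) (Ptab_s_5950_5953 c) (Ptab_s_5953_5957 c) (Nat.ble 5953 c)
noncomputable def Ptab_s_5957_5959 (c : Nat) : Nat := @Bool.rec (fun _ => Nat) (Ptab_5957) (Ptab_5958) (Nat.ble 5958 c)
noncomputable def Ptab_s_5959_5961 (c : Nat) : Nat := @Bool.rec (fun _ => Nat) (Ptab_5959) (Ptab_5960) (Nat.ble 5960 c)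
noncomputable def Ptab_s_5957_5961 (c : Nat) : Nat := @Bool.rec (fun _ => Nat) (Ptab_s_5957_5959 c) (Ptab_s_5959_5961 c) (Nat.ble 5959 c)
noncomputable def Ptab_s_5961_5963 (c : Nat) : Nat := @Bool.rec (fun _ => Nat) (Ptab_5961) (Ptab_5962) (Nat.ble 5962 c)
noncomputable def Ptab_s_5963_5965 (c : Nat) : Nat := @Bool.rec (fun _ => Nat) (Ptab_5963) (Ptab_5964) (Nat.ble 5964 c)
noncomputable def Ptab_s_5961_5965 (c : Nat) : Nat := @Bool.rec (fun _ => Nat) (Ptab_s_5961_5963 c) (Ptab_s_5963_5965 c) (Nat.ble 5963 c)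
noncomputable def Ptab_s_5957_5965 (c : Nat) : Nat := @Bool.rec (fun _ => Nat) (Ptab_s_5957_5961 c) (Ptab_s_5961_5965 c) (Nat.ble 5961 c)
noncomputable def Ptab_s_5950_5965 (c : Nat) : Nat := @Bool.rec (fun _ => Nat) (Ptab_s_5950_5957 c) (Ptab_s_5957_5965 c) (Nat.ble 5957 c)
noncomputable def Ptab_s_5935_5965 (c : Nat) : Nat := @Bool.rec (fun _ => Nat) (Ptab_s_5935_5950 c) (Ptab_s_5950_5965 c) (Nat.ble 5950 c)
noncomputable def Ptab_s_5966_5968 (c : Nat) : Nat := @Bool.rec (fun _ => Nat) (Ptab_5966) (Ptab_5967) (Nat.ble 5967 c)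
noncomputable def Ptab_s_5965_5968 (c : Nat) : Nat := @Bool.rec (fun _ => Nat) (Ptab_5965) (Ptab_s_5966_5968 c) (Nat.ble 5966 c)
noncomputable def Ptab_s_5968_5970 (c : Nat) : Nat := @Bool.rec (fun _ => Nat) (Ptab_5968) (Ptab_5969) (Nat.ble 5969 c)
noncomputable def Ptab_s_5970_5972 (c : Nat) : Nat := @Bool.rec (fun _ => Nat) (Ptab_5970) (Ptab_5971) (Nat.ble 5971 c)
noncomputable def Ptab_s_5968_5972 (c : Nat) : Nat := @Bool.rec (fun _ => Nat) (Ptab_s_5968_5970 c) (Ptab_s_5970_5972 c) (Nat.ble 5970 c)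
noncomputable def Ptab_s_5965_5972 (c : Nat) : Nat := @Bool.rec (fun _ => Nat) (Ptab_s_5965_5968 c) (Ptab_s_5968_5972 c) (Nat.ble 5968 c)
noncomputable def Ptab_s_5972_5974 (c : Nat) : Nat := @Bool.rec (fun _ => Nat) (Ptab_5972) (Ptab_5973) (Nat.ble 5973 c)
noncomputable def Ptab_s_5974_5976 (c : Nat) : Nat := @Bool.rec (fun _ => Nat) (Ptab_5974) (Ptab_5975) (Nat.ble 5975 c)
noncomputable def Ptab_s_5972_5976 (c : Nat) : Nat := @Bool.rec (fun _ => Nat) (Ptab_s_5972_5974 c) (Ptab_s_5974_5976 c) (Nat.ble 5974 c)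
noncomputable def Ptab_s_5976_5978 (c : Nat) : Nat := @Bool.rec (fun _ => Nat) (Ptab_5976) (Ptab_5977) (Nat.ble 5977 c)
noncomputable def Ptab_s_5978_5980 (c : Nat) : Nat := @Bool.rec (fun _ => Nat) (Ptab_5978) (Ptab_5979) (Nat.ble 5979 c)
noncomputable def Ptab_s_5976_5980 (c : Nat) : Nat := @Bool.rec (fun _ => Nat) (Ptab_s_5976_5978 c) (Ptab_s_5978_5980 c) (Nat.ble 5978 c)
noncomputable def Ptab_s_5972_5980 (c : Nat) : Nat := @Bool.rec (fun _ => Nat) (Ptab_s_5972_5976 c) (Ptab_s_5976_5980 c) (Nat.ble 5976 c)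
noncomputable def Ptab_s_5965_5980 (c : Nat) : Nat := @Bool.rec (fun _ => Nat) (Ptab_s_5965_5972 c) (Ptab_s_5972_5980 c) (Nat.ble 5972 c)
noncomputable def Ptab_s_5980_5982 (c : Nat) : Nat := @Bool.rec (fun _ => Nat) (Ptab_5980) (Ptab_5981) (Nat.ble 5981 c)
noncomputable def Ptab_s_5982_5984 (c : Nat) : Nat := @Bool.rec (fun _ => Nat) (Ptab_5982) (Ptab_5983) (Nat.ble 5983 c)
noncomputable def Ptab_s_5980_5984 (c : Nat) : Nat := @Bool.rec (fun _ => Nat) (Ptab_s_5980_5982 c) (Ptab_s_5982_5984 c) (Nat.ble 5982 c)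
noncomputable def Ptab_s_5984_5986 (c : Nat) : Nat := @Bool.rec (fun _ => Nat) (Ptab_5984) (Ptab_5985) (Nat.ble 5985 c)
noncomputable def Ptab_s_5986_5988 (c : Nat) : Nat := @Bool.rec (fun _ => Nat) (Ptab_5986) (Ptab_5987) (Nat.ble 5987 c)
noncomputable def Ptab_s_5984_5988 (c : Nat) : Nat := @Bool.rec (fun _ => Nat) (Ptab_s_5984_5986 c) (Ptab_s_5986_5988 c) (Nat.ble 5986 c)
noncomputable def Ptab_s_5980_5988 (c : Nat) : Nat := @Bool.rec (fun _ => Nat) (Ptab_s_5980_5984 c) (Ptab_s_5984_5988 c) (Nat.ble 5984 c)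
noncomputable def Ptab_s_5988_5990 (c : Nat) : Nat := @Bool.rec (fun _ => Nat) (Ptab_5988) (Ptab_5989) (Nat.ble 5989 c)
noncomputable def Ptab_s_5990_5992 (c : Nat) : Nat := @Bool.rec (fun _ => Nat) (Ptab_5990) (Ptab_5991) (Nat.ble 5991 c)
noncomputable def Ptab_s_5988_5992 (c : Nat) : Nat := @Bool.rec (fun _ => Nat) (Ptab_s_5988_5990 c) (Ptab_s_5990_5992 c) (Nat.ble 5990 c)
noncomputable def Ptab_s_5992_5994 (c : Nat) : Nat := @Bool.rec (fun _ => Nat) (Ptab_5992) (Ptab_5993) (Nat.ble 5993 c)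
noncomputable def Ptab_s_5994_5996 (c : Nat) : Nat := @Bool.rec (fun _ => Nat) (Ptab_5994) (Ptab_5995) (Nat.ble 5995 c)
noncomputable def Ptab_s_5992_5996 (c : Nat) : Nat := @Bool.rec (fun _ => Nat) (Ptab_s_5992_5994 c) (Ptab_s_5994_5996 c) (Nat.ble 5994 c)
noncomputable def Ptab_s_5988_5996 (c : Nat) : Nat := @Bool.rec (fun _ => Nat) (Ptab_s_5988_5992 c) (Ptab_s_5992_5996 c) (Nat.ble 5992 c)
noncomputable def Ptab_s_5980_5996 (c : Nat) : Nat := @Bool.rec (fun _ => Nat) (Ptab_s_5980_5988 c) (Ptab_s_5988_5996 c) (Nat.ble 5988 c)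
noncomputable def Ptab_s_5965_5996 (c : Nat) : Nat := @Bool.rec (fun _ => Nat) (Ptab_s_5965_5980 c) (Ptab_s_5980_5996 c) (Nat.ble 5980 c)
noncomputable def Ptab_s_5935_5996 (c : Nat) : Nat := @Bool.rec (fun _ => Nat) (Ptab_s_5935_5965 c) (Ptab_s_5965_5996 c) (Nat.ble 5965 c)
noncomputable def Ptab_s_5874_5996 (c : Nat) : Nat := @Bool.rec (fun _ => Nat) (Ptab_s_5874_5935 c) (Ptab_s_5935_5996 c) (Nat.ble 5935 c)
noncomputable def Ptab_s_5997_5999 (c : Nat) : Nat := @Bool.rec (fun _ => Nat) (Ptab_5997) (Ptab_5998) (Nat.ble 5998 c)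
noncomputable def Ptab_s_5996_5999 (c : Nat) : Nat := @Bool.rec (fun _ => Nat) (Ptab_5996) (Ptab_s_5997_5999 c) (Nat.ble 5997 c)
noncomputable def Ptab_s_5999_6001 (c : Nat) : Nat := @Bool.rec (fun _ => Nat) (Ptab_5999) (Ptab_6000) (Nat.ble 6000 c)
noncomputable def Ptab_s_6001_6003 (c : Nat) : Nat := @Bool.rec (fun _ => Nat) (Ptab_6001) (Ptab_6002) (Nat.ble 6002 c)
noncomputable def Ptab_s_5999_6003 (c : Nat) : Nat := @Bool.rec (fun _ => Nat) (Ptab_s_5999_6001 c) (Ptab_s_6001_6003 c) (Nat.ble 6001 c)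
noncomputable def Ptab_s_5996_6003 (c : Nat) : Nat := @Bool.rec (fun _ => Nat) (Ptab_s_5996_5999 c) (Ptab_s_5999_6003 c) (Nat.ble 5999 c)
noncomputable def Ptab_s_6003_6005 (c : Nat) : Nat := @Bool.rec (fun _ => Nat) (Ptab_6003) (Ptab_6004) (Nat.ble 6004 c)
noncomputable def Ptab_s_6005_6007 (c : Nat) : Nat := @Bool.rec (fun _ => Nat) (Ptab_6005) (Ptab_6006) (Nat.ble 6006 c)
noncomputable def Ptab_s_6003_6007 (c : Nat) : Nat := @Bool.rec (fun _ => Nat) (Ptab_s_6003_6005 c) (Ptab_s_6005_6007 c) (Nat.ble 6005 c)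
noncomputable def Ptab_s_6007_6009 (c : Nat) : Nat := @Bool.rec (fun _ => Nat) (Ptab_6007) (Ptab_6008) (Nat.ble 6008 c)
noncomputable def Ptab_s_6009_6011 (c : Nat) : Nat := @Bool.rec (fun _ => Nat) (Ptab_6009) (Ptab_6010) (Nat.ble 6010 c)
noncomputable def Ptab_s_6007_6011 (c : Nat) : Nat := @Bool.rec (fun _ => Nat) (Ptab_s_6007_6009 c) (Ptab_s_6009_6011 c) (Nat.ble 6009 c)
noncomputable def Ptab_s_6003_6011 (c : Nat) : Nat := @Bool.rec (fun _ => Nat) (Ptab_s_6003_6007 c) (Ptab_s_6007_6011 c) (Nat.ble 6007 c)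
noncomputable def Ptab_s_5996_6011 (c : Nat) : Nat := @Bool.rec (fun _ => Nat) (Ptab_s_5996_6003 c) (Ptab_s_6003_6011 c) (Nat.ble 6003 c)
noncomputable def Ptab_s_6012_6014 (c : Nat) : Nat := @Bool.rec (fun _ => Nat) (Ptab_6012) (Ptab_6013) (Nat.ble 6013 c)
noncomputable def Ptab_s_6011_6014 (c : Nat) : Nat := @Bool.rec (fun _ => Nat) (Ptab_6011) (Ptab_s_6012_6014 c) (Nat.ble 6012 c)
noncomputable def Ptab_s_6014_6016 (c : Nat) : Nat := @Bool.rec (fun _ => Nat) (Ptab_6014) (Ptab_6015) (Nat.ble 6015 c)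
noncomputable def Ptab_s_6016_6018 (c : Nat) : Nat := @Bool.rec (fun _ => Nat) (Ptab_6016) (Ptab_6017) (Nat.ble 6017 c)
noncomputable def Ptab_s_6014_6018 (c : Nat) : Nat := @Bool.rec (fun _ => Nat) (Ptab_s_6014_6016 c) (Ptab_s_6016_6018 c) (Nat.ble 6016 c)
noncomputable def Ptab_s_6011_6018 (c : Nat) : Nat := @Bool.rec (fun _ => Nat) (Ptab_s_6011_6014 c) (Ptab_s_6014_6018 c) (Nat.ble 6014 c)
noncomputable def Ptab_s_6018_6020 (c : Nat) : Nat := @Bool.rec (fun _ => Nat) (Ptab_6018) (Ptab_6019) (Nat.ble 6019 c)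
noncomputable def Ptab_s_6020_6022 (c : Nat) : Nat := @Bool.rec (fun _ => Nat) (Ptab_6020) (Ptab_6021) (Nat.ble 6021 c)
noncomputable def Ptab_s_6018_6022 (c : Nat) : Nat := @Bool.rec (fun _ => Nat) (Ptab_s_6018_6020 c) (Ptab_s_6020_6022 c) (Nat.ble 6020 c)
noncomputable def Ptab_s_6022_6024 (c : Nat) : Nat := @Bool.rec (fun _ => Nat) (Ptab_6022) (Ptab_6023) (Nat.ble 6023 c)
noncomputable def Ptab_s_6024_6026 (c : Nat) : Nat := @Bool.rec (fun _ => Nat) (Ptab_6024) (Ptab_6025) (Nat.ble 6025 c)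
noncomputable def Ptab_s_6022_6026 (c : Nat) : Nat := @Bool.rec (fun _ => Nat) (Ptab_s_6022_6024 c) (Ptab_s_6024_6026 c) (Nat.ble 6024 c)
noncomputable def Ptab_s_6018_6026 (c : Nat) : Nat := @Bool.rec (fun _ => Nat) (Ptab_s_6018_6022 c) (Ptab_s_6022_6026 c) (Nat.ble 6022 c)
noncomputable def Ptab_s_6011_6026 (c : Nat) : Nat := @Bool.rec (fun _ => Nat) (Ptab_s_6011_6018 c) (Ptab_s_6018_6026 c) (Nat.ble 6018 c)
noncomputable def Ptab_s_5996_6026 (c : Nat) : Nat := @Bool.rec (fun _ => Nat) (Ptab_s_5996_6011 c) (Ptab_s_6011_6026 c) (Nat.ble 6011 c)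
noncomputable def Ptab_s_6027_6029 (c : Nat) : Nat := @Bool.rec (fun _ => Nat) (Ptab_6027) (Ptab_6028) (Nat.ble 6028 c)
noncomputable def Ptab_s_6026_6029 (c : Nat) : Nat := @Bool.rec (fun _ => Nat) (Ptab_6026) (Ptab_s_6027_6029 c) (Nat.ble 6027 c)
noncomputable def Ptab_s_6029_6031 (c : Nat) : Nat := @Bool.rec (fun _ => Nat) (Ptab_6029) (Ptab_6030) (Nat.ble 6030 c)
noncomputable def Ptab_s_6031_6033 (c : Nat) : Nat := @Bool.rec (fun _ => Nat) (Ptab_6031) (Ptab_6032) (Nat.ble 6032 c)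
noncomputable def Ptab_s_6029_6033 (c : Nat) : Nat := @Bool.rec (fun _ => Nat) (Ptab_s_6029_6031 c) (Ptab_s_6031_6033 c) (Nat.ble 6031 c)
noncomputable def Ptab_s_6026_6033 (c : Nat) : Nat := @Bool.rec (fun _ => Nat) (Ptab_s_6026_6029 c) (Ptab_s_6029_6033 c) (Nat.ble 6029 c)
noncomputable def Ptab_s_6033_6035 (c : Nat) : Nat := @Bool.rec (fun _ => Nat) (Ptab_6033) (Ptab_6034) (Nat.ble 6034 c)
noncomputable def Ptab_s_6035_6037 (c : Nat) : Nat := @Bool.rec (fun _ => Nat) (Ptab_6035) (Ptab_6036) (Nat.ble 6036 c)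
noncomputable def Ptab_s_6033_6037 (c : Nat) : Nat := @Bool.rec (fun _ => Nat) (Ptab_s_6033_6035 c) (Ptab_s_6035_6037 c) (Nat.ble 6035 c)
noncomputable def Ptab_s_6037_6039 (c : Nat) : Nat := @Bool.rec (fun _ => Nat) (Ptab_6037) (Ptab_6038) (Nat.ble 6038 c)
noncomputable def Ptab_s_6039_6041 (c : Nat) : Nat := @Bool.rec (fun _ => Nat) (Ptab_6039) (Ptab_6040) (Nat.ble 6040 c)
noncomputable def Ptab_s_6037_6041 (c : Nat) : Nat := @Bool.rec (fun _ => Nat) (Ptab_s_6037_6039 c) (Ptab_s_6039_6041 c) (Nat.ble 6039 c)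
noncomputable def Ptab_s_6033_6041 (c : Nat) : Nat := @Bool.rec (fun _ => Nat) (Ptab_s_6033_6037 c) (Ptab_s_6037_6041 c) (Nat.ble 6037 c)
noncomputable def Ptab_s_6026_6041 (c : Nat) : Nat := @Bool.rec (fun _ => Nat) (Ptab_s_6026_6033 c) (Ptab_s_6033_6041 c) (Nat.ble 6033 c)
noncomputable def Ptab_s_6041_6043 (c : Nat) : Nat := @Bool.rec (fun _ => Nat) (Ptab_6041) (Ptab_6042) (Nat.ble 6042 c)
noncomputable def Ptab_s_6043_6045 (c : Nat) : Nat := @Bool.rec (fun _ => Nat) (Ptab_6043) (Ptab_6044) (Nat.ble 6044 c)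
noncomputable def Ptab_s_6041_6045 (c : Nat) : Nat := @Bool.rec (fun _ => Nat) (Ptab_s_6041_6043 c) (Ptab_s_6043_6045 c) (Nat.ble 6043 c)
noncomputable def Ptab_s_6045_6047 (c : Nat) : Nat := @Bool.rec (fun _ => Nat) (Ptab_6045) (Ptab_6046) (Nat.ble 6046 c)
noncomputable def Ptab_s_6047_6049 (c : Nat) : Nat := @Bool.rec (fun _ => Nat) (Ptab_6047) (Ptab_6048) (Nat.ble 6048 c)
noncomputable def Ptab_s_6045_6049 (c : Nat) : Nat := @Bool.rec (fun _ => Nat) (Ptab_s_6045_6047 c) (Ptab_s_6047_6049 c) (Nat.ble 6047 c)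
noncomputable def Ptab_s_6041_6049 (c : Nat) : Nat := @Bool.rec (fun _ => Nat) (Ptab_s_6041_6045 c) (Ptab_s_6045_6049 c) (Nat.ble 6045 c)
noncomputable def Ptab_s_6049_6051 (c : Nat) : Nat := @Bool.rec (fun _ => Nat) (Ptab_6049) (Ptab_6050) (Nat.ble 6050 c)
noncomputable def Ptab_s_6051_6053 (c : Nat) : Nat := @Bool.rec (fun _ => Nat) (Ptab_6051) (Ptab_6052) (Nat.ble 6052 c)
noncomputable def Ptab_s_6049_6053 (c : Nat) : Nat := @Bool.rec (fun _ => Nat) (Ptab_s_6049_6051 c) (Ptab_s_6051_6053 c) (Nat.ble 6051 c)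
noncomputable def Ptab_s_6053_6055 (c : Nat) : Nat := @Bool.rec (fun _ => Nat) (Ptab_6053) (Ptab_6054) (Nat.ble 6054 c)
noncomputable def Ptab_s_6055_6057 (c : Nat) : Nat := @Bool.rec (fun _ => Nat) (Ptab_6055) (Ptab_6056) (Nat.ble 6056 c)
noncomputable def Ptab_s_6053_6057 (c : Nat) : Nat := @Bool.rec (fun _ => Nat) (Ptab_s_6053_6055 c) (Ptab_s_6055_6057 c) (Nat.ble 6055 c)
noncomputable def Ptab_s_6049_6057 (c : Nat) : Nat := @Bool.rec (fun _ => Nat) (Ptab_s_6049_6053 c) (Ptab_s_6053_6057 c) (Nat.ble 6053 c)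
noncomputable def Ptab_s_6041_6057 (c : Nat) : Nat := @Bool.rec (fun _ => Nat) (Ptab_s_6041_6049 c) (Ptab_s_6049_6057 c) (Nat.ble 6049 c)
noncomputable def Ptab_s_6026_6057 (c : Nat) : Nat := @Bool.rec (fun _ => Nat) (Ptab_s_6026_6041 c) (Ptab_s_6041_6057 c) (Nat.ble 6041 c)
noncomputable def Ptab_s_5996_6057 (c : Nat) : Nat := @Bool.rec (fun _ => Nat) (Ptab_s_5996_6026 c) (Ptab_s_6026_6057 c) (Nat.ble 6026 c)
noncomputable def Ptab_s_6058_6060 (c : Nat) : Nat := @Bool.rec (fun _ => Nat) (Ptab_6058) (Ptab_6059) (Nat.ble 6059 c)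
noncomputable def Ptab_s_6057_6060 (c : Nat) : Nat := @Bool.rec (fun _ => Nat) (Ptab_6057) (Ptab_s_6058_6060 c) (Nat.ble 6058 c)
noncomputable def Ptab_s_6060_6062 (c : Nat) : Nat := @Bool.rec (fun _ => Nat) (Ptab_6060) (Ptab_6061) (Nat.ble 6061 c)
noncomputable def Ptab_s_6062_6064 (c : Nat) : Nat := @Bool.rec (fun _ => Nat) (Ptab_6062) (Ptab_6063) (Nat.ble 6063 c)
noncomputable def Ptab_s_6060_6064 (c : Nat) : Nat := @Bool.rec (fun _ => Nat) (Ptab_s_6060_6062 c) (Ptab_s_6062_6064 c) (Nat.ble 6062 c)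
noncomputable def Ptab_s_6057_6064 (c : Nat) : Nat := @Bool.rec (fun _ => Nat) (Ptab_s_6057_6060 c) (Ptab_s_6060_6064 c) (Nat.ble 6060 c)
noncomputable def Ptab_s_6064_6066 (c : Nat) : Nat := @Bool.rec (fun _ => Nat) (Ptab_6064) (Ptab_6065) (Nat.ble 6065 c)
noncomputable def Ptab_s_6066_6068 (c : Nat) : Nat := @Bool.rec (fun _ => Nat) (Ptab_6066) (Ptab_6067) (Nat.ble 6067 c)
noncomputable def Ptab_s_6064_6068 (c : Nat) : Nat := @Bool.rec (fun _ => Nat) (Ptab_s_6064_6066 c) (Ptab_s_6066_6068 c) (Nat.ble 6066 c)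
noncomputable def Ptab_s_6068_6070 (c : Nat) : Nat := @Bool.rec (fun _ => Nat) (Ptab_6068) (Ptab_6069) (Nat.ble 6069 c)
noncomputable def Ptab_s_6070_6072 (c : Nat) : Nat := @Bool.rec (fun _ => Nat) (Ptab_6070) (Ptab_6071) (Nat.ble 6071 c)
noncomputable def Ptab_s_6068_6072 (c : Nat) : Nat := @Bool.rec (fun _ => Nat) (Ptab_s_6068_6070 c) (Ptab_s_6070_6072 c) (Nat.ble 6070 c)
noncomputable def Ptab_s_6064_6072 (c : Nat) : Nat := @Bool.rec (fun _ => Nat) (Ptab_s_6064_6068 c) (Ptab_s_6068_6072 c) (Nat.ble 6068 c)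
noncomputable def Ptab_s_6057_6072 (c : Nat) : Nat := @Bool.rec (fun _ => Nat) (Ptab_s_6057_6064 c) (Ptab_s_6064_6072 c) (Nat.ble 6064 c)
noncomputable def Ptab_s_6073_6075 (c : Nat) : Nat := @Bool.rec (fun _ => Nat) (Ptab_6073) (Ptab_6074) (Nat.ble 6074 c)
noncomputable def Ptab_s_6072_6075 (c : Nat) : Nat := @Bool.rec (fun _ => Nat) (Ptab_6072) (Ptab_s_6073_6075 c) (Nat.ble 6073 c)
noncomputable def Ptab_s_6075_6077 (c : Nat) : Nat := @Bool.rec (fun _ => Nat) (Ptab_6075) (Ptab_6076) (Nat.ble 6076 c)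
noncomputable def Ptab_s_6077_6079 (c : Nat) : Nat := @Bool.rec (fun _ => Nat) (Ptab_6077) (Ptab_6078) (Nat.ble 6078 c)
noncomputable def Ptab_s_6075_6079 (c : Nat) : Nat := @Bool.rec (fun _ => Nat) (Ptab_s_6075_6077 c) (Ptab_s_6077_6079 c) (Nat.ble 6077 c)
noncomputable def Ptab_s_6072_6079 (c : Nat) : Nat := @Bool.rec (fun _ => Nat) (Ptab_s_6072_6075 c) (Ptab_s_6075_6079 c) (Nat.ble 6075 c)
noncomputable def Ptab_s_6079_6081 (c : Nat) : Nat := @Bool.rec (fun _ => Nat) (Ptab_6079) (Ptab_6080) (Nat.ble 6080 c)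
noncomputable def Ptab_s_6081_6083 (c : Nat) : Nat := @Bool.rec (fun _ => Nat) (Ptab_6081) (Ptab_6082) (Nat.ble 6082 c)
noncomputable def Ptab_s_6079_6083 (c : Nat) : Nat := @Bool.rec (fun _ => Nat) (Ptab_s_6079_6081 c) (Ptab_s_6081_6083 c) (Nat.ble 6081 c)
noncomputable def Ptab_s_6083_6085 (c : Nat) : Nat := @Bool.rec (fun _ => Nat) (Ptab_6083) (Ptab_6084) (Nat.ble 6084 c)
noncomputable def Ptab_s_6085_6087 (c : Nat) : Nat := @Bool.rec (fun _ => Nat) (Ptab_6085) (Ptab_6086) (Nat.ble 6086 c)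
noncomputable def Ptab_s_6083_6087 (c : Nat) : Nat := @Bool.rec (fun _ => Nat) (Ptab_s_6083_6085 c) (Ptab_s_6085_6087 c) (Nat.ble 6085 c)
noncomputable def Ptab_s_6079_6087 (c : Nat) : Nat := @Bool.rec (fun _ => Nat) (Ptab_s_6079_6083 c) (Ptab_s_6083_6087 c) (Nat.ble 6083 c)
noncomputable def Ptab_s_6072_6087 (c : Nat) : Nat := @Bool.rec (fun _ => Nat) (Ptab_s_6072_6079 c) (Ptab_s_6079_6087 c) (Nat.ble 6079 c)
noncomputable def Ptab_s_6057_6087 (c : Nat) : Nat := @Bool.rec (fun _ => Nat) (Ptab_s_6057_6072 c) (Ptab_s_6072_6087 c) (Nat.ble 6072 c)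
noncomputable def Ptab_s_6088_6090 (c : Nat) : Nat := @Bool.rec (fun _ => Nat) (Ptab_6088) (Ptab_6089) (Nat.ble 6089 c)
noncomputable def Ptab_s_6087_6090 (c : Nat) : Nat := @Bool.rec (fun _ => Nat) (Ptab_6087) (Ptab_s_6088_6090 c) (Nat.ble 6088 c)
noncomputable def Ptab_s_6090_6092 (c : Nat) : Nat := @Bool.rec (fun _ => Nat) (Ptab_6090) (Ptab_6091) (Nat.ble 6091 c)
noncomputable def Ptab_s_6092_6094 (c : Nat) : Nat := @Bool.rec (fun _ => Nat) (Ptab_6092) (Ptab_6093) (Nat.ble 6093 c)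
noncomputable def Ptab_s_6090_6094 (c : Nat) : Nat := @Bool.rec (fun _ => Nat) (Ptab_s_6090_6092 c) (Ptab_s_6092_6094 c) (Nat.ble 6092 c)
noncomputable def Ptab_s_6087_6094 (c : Nat) : Nat := @Bool.rec (fun _ => Nat) (Ptab_s_6087_6090 c) (Ptab_s_6090_6094 c) (Nat.ble 6090 c)
noncomputable def Ptab_s_6094_6096 (c : Nat) : Nat := @Bool.rec (fun _ => Nat) (Ptab_6094) (Ptab_6095) (Nat.ble 6095 c)
noncomputable def Ptab_s_6096_6098 (c : Nat) : Nat := @Bool.rec (fun _ => Nat) (Ptab_6096) (Ptab_6097) (Nat.ble 6097 c)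
noncomputable def Ptab_s_6094_6098 (c : Nat) : Nat := @Bool.rec (fun _ => Nat) (Ptab_s_6094_6096 c) (Ptab_s_6096_6098 c) (Nat.ble 6096 c)
noncomputable def Ptab_s_6098_6100 (c : Nat) : Nat := @Bool.rec (fun _ => Nat) (Ptab_6098) (Ptab_6099) (Nat.ble 6099 c)
noncomputable def Ptab_s_6100_6102 (c : Nat) : Nat := @Bool.rec (fun _ => Nat) (Ptab_6100) (Ptab_6101) (Nat.ble 6101 c)
noncomputable def Ptab_s_6098_6102 (c : Nat) : Nat := @Bool.rec (fun _ => Nat) (Ptab_s_6098_6100 c) (Ptab_s_6100_6102 c) (Nat.ble 6100 c)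
noncomputable def Ptab_s_6094_6102 (c : Nat) : Nat := @Bool.rec (fun _ => Nat) (Ptab_s_6094_6098 c) (Ptab_s_6098_6102 c) (Nat.ble 6098 c)
noncomputable def Ptab_s_6087_6102 (c : Nat) : Nat := @Bool.rec (fun _ => Nat) (Ptab_s_6087_6094 c) (Ptab_s_6094_6102 c) (Nat.ble 6094 c)
noncomputable def Ptab_s_6102_6104 (c : Nat) : Nat := @Bool.rec (fun _ => Nat) (Ptab_6102) (Ptab_6103) (Nat.ble 6103 c)
noncomputable def Ptab_s_6104_6106 (c : Nat) : Nat := @Bool.rec (fun _ => Nat) (Ptab_6104) (Ptab_6105) (Nat.ble 6105 c)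
noncomputable def Ptab_s_6102_6106 (c : Nat) : Nat := @Bool.rec (fun _ => Nat) (Ptab_s_6102_6104 c) (Ptab_s_6104_6106 c) (Nat.ble 6104 c)
noncomputable def Ptab_s_6106_6108 (c : Nat) : Nat := @Bool.rec (fun _ => Nat) (Ptab_6106) (Ptab_6107) (Nat.ble 6107 c)
noncomputable def Ptab_s_6108_6110 (c : Nat) : Nat := @Bool.rec (fun _ => Nat) (Ptab_6108) (Ptab_6109) (Nat.ble 6109 c)
noncomputable def Ptab_s_6106_6110 (c : Nat) : Nat := @Bool.rec (fun _ => Nat) (Ptab_s_6106_6108 c) (Ptab_s_6108_6110 c) (Nat.ble 6108 c)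
noncomputable def Ptab_s_6102_6110 (c : Nat) : Nat := @Bool.rec (fun _ => Nat) (Ptab_s_6102_6106 c) (Ptab_s_6106_6110 c) (Nat.ble 6106 c)
noncomputable def Ptab_s_6110_6112 (c : Nat) : Nat := @Bool.rec (fun _ => Nat) (Ptab_6110) (Ptab_6111) (Nat.ble 6111 c)
noncomputable def Ptab_s_6112_6114 (c : Nat) : Nat := @Bool.rec (fun _ => Nat) (Ptab_6112) (Ptab_6113) (Nat.ble 6113 c)
noncomputable def Ptab_s_6110_6114 (c : Nat) : Nat := @Bool.rec (fun _ => Nat) (Ptab_s_6110_6112 c) (Ptab_s_6112_6114 c) (Nat.ble 6112 c)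
noncomputable def Ptab_s_6114_6116 (c : Nat) : Nat := @Bool.rec (fun _ => Nat) (Ptab_6114) (Ptab_6115) (Nat.ble 6115 c)
noncomputable def Ptab_s_6116_6118 (c : Nat) : Nat := @Bool.rec (fun _ => Nat) (Ptab_6116) (Ptab_6117) (Nat.ble 6117 c)
noncomputable def Ptab_s_6114_6118 (c : Nat) : Nat := @Bool.rec (fun _ => Nat) (Ptab_s_6114_6116 c) (Ptab_s_6116_6118 c) (Nat.ble 6116 c)
noncomputable def Ptab_s_6110_6118 (c : Nat) : Nat := @Bool.rec (fun _ => Nat) (Ptab_s_6110_6114 c) (Ptab_s_6114_6118 c) (Nat.ble 6114 c)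
noncomputable def Ptab_s_6102_6118 (c : Nat) : Nat := @Bool.rec (fun _ => Nat) (Ptab_s_6102_6110 c) (Ptab_s_6110_6118 c) (Nat.ble 6110 c)
noncomputable def Ptab_s_6087_6118 (c : Nat) : Nat := @Bool.rec (fun _ => Nat) (Ptab_s_6087_6102 c) (Ptab_s_6102_6118 c) (Nat.ble 6102 c)
noncomputable def Ptab_s_6057_6118 (c : Nat) : Nat := @Bool.rec (fun _ => Nat) (Ptab_s_6057_6087 c) (Ptab_s_6087_6118 c) (Nat.ble 6087 c)
noncomputable def Ptab_s_5996_6118 (c : Nat) : Nat := @Bool.rec (fun _ => Nat) (Ptab_s_5996_6057 c) (Ptab_s_6057_6118 c) (Nat.ble 6057 c)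
noncomputable def Ptab_s_5874_6118 (c : Nat) : Nat := @Bool.rec (fun _ => Nat) (Ptab_s_5874_5996 c) (Ptab_s_5996_6118 c) (Nat.ble 5996 c)
noncomputable def Ptab_s_6119_6121 (c : Nat) : Nat := @Bool.rec (fun _ => Nat) (Ptab_6119) (Ptab_6120) (Nat.ble 6120 c)
noncomputable def Ptab_s_6118_6121 (c : Nat) : Nat := @Bool.rec (fun _ => Nat) (Ptab_6118) (Ptab_s_6119_6121 c) (Nat.ble 6119 c)
noncomputable def Ptab_s_6121_6123 (c : Nat) : Nat := @Bool.rec (fun _ => Nat) (Ptab_6121) (Ptab_6122) (Nat.ble 6122 c)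
noncomputable def Ptab_s_6123_6125 (c : Nat) : Nat := @Bool.rec (fun _ => Nat) (Ptab_6123) (Ptab_6124) (Nat.ble 6124 c)
noncomputable def Ptab_s_6121_6125 (c : Nat) : Nat := @Bool.rec (fun _ => Nat) (Ptab_s_6121_6123 c) (Ptab_s_6123_6125 c) (Nat.ble 6123 c)
noncomputable def Ptab_s_6118_6125 (c : Nat) : Nat := @Bool.rec (fun _ => Nat) (Ptab_s_6118_6121 c) (Ptab_s_6121_6125 c) (Nat.ble 6121 c)
noncomputable def Ptab_s_6125_6127 (c : Nat) : Nat := @Bool.rec (fun _ => Nat) (Ptab_6125) (Ptab_6126) (Nat.ble 6126 c)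
noncomputable def Ptab_s_6127_6129 (c : Nat) : Nat := @Bool.rec (fun _ => Nat) (Ptab_6127) (Ptab_6128) (Nat.ble 6128 c)
noncomputable def Ptab_s_6125_6129 (c : Nat) : Nat := @Bool.rec (fun _ => Nat) (Ptab_s_6125_6127 c) (Ptab_s_6127_6129 c) (Nat.ble 6127 c)
noncomputable def Ptab_s_6129_6131 (c : Nat) : Nat := @Bool.rec (fun _ => Nat) (Ptab_6129) (Ptab_6130) (Nat.ble 6130 c)
noncomputable def Ptab_s_6131_6133 (c : Nat) : Nat := @Bool.rec (fun _ => Nat) (Ptab_6131) (Ptab_6132) (Nat.ble 6132 c)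
noncomputable def Ptab_s_6129_6133 (c : Nat) : Nat := @Bool.rec (fun _ => Nat) (Ptab_s_6129_6131 c) (Ptab_s_6131_6133 c) (Nat.ble 6131 c)
noncomputable def Ptab_s_6125_6133 (c : Nat) : Nat := @Bool.rec (fun _ => Nat) (Ptab_s_6125_6129 c) (Ptab_s_6129_6133 c) (Nat.ble 6129 c)
noncomputable def Ptab_s_6118_6133 (c : Nat) : Nat := @Bool.rec (fun _ => Nat) (Ptab_s_6118_6125 c) (Ptab_s_6125_6133 c) (Nat.ble 6125 c)
noncomputable def Ptab_s_6134_6136 (c : Nat) : Nat := @Bool.rec (fun _ => Nat) (Ptab_6134) (Ptab_6135) (Nat.ble 6135 c)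
noncomputable def Ptab_s_6133_6136 (c : Nat) : Nat := @Bool.rec (fun _ => Nat) (Ptab_6133) (Ptab_s_6134_6136 c) (Nat.ble 6134 c)
noncomputable def Ptab_s_6136_6138 (c : Nat) : Nat := @Bool.rec (fun _ => Nat) (Ptab_6136) (Ptab_6137) (Nat.ble 6137 c)
noncomputable def Ptab_s_6138_6140 (c : Nat) : Nat := @Bool.rec (fun _ => Nat) (Ptab_6138) (Ptab_6139) (Nat.ble 6139 c)
noncomputable def Ptab_s_6136_6140 (c : Nat) : Nat := @Bool.rec (fun _ => Nat) (Ptab_s_6136_6138 c) (Ptab_s_6138_6140 c) (Nat.ble 6138 c)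
noncomputable def Ptab_s_6133_6140 (c : Nat) : Nat := @Bool.rec (fun _ => Nat) (Ptab_s_6133_6136 c) (Ptab_s_6136_6140 c) (Nat.ble 6136 c)
noncomputable def Ptab_s_6140_6142 (c : Nat) : Nat := @Bool.rec (fun _ => Nat) (Ptab_6140) (Ptab_6141) (Nat.ble 6141 c)
noncomputable def Ptab_s_6142_6144 (c : Nat) : Nat := @Bool.rec (fun _ => Nat) (Ptab_6142) (Ptab_6143) (Nat.ble 6143 c)
noncomputable def Ptab_s_6140_6144 (c : Nat) : Nat := @Bool.rec (fun _ => Nat) (Ptab_s_6140_6142 c) (Ptab_s_6142_6144 c) (Nat.ble 6142 c)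
noncomputable def Ptab_s_6144_6146 (c : Nat) : Nat := @Bool.rec (fun _ => Nat) (Ptab_6144) (Ptab_6145) (Nat.ble 6145 c)
noncomputable def Ptab_s_6146_6148 (c : Nat) : Nat := @Bool.rec (fun _ => Nat) (Ptab_6146) (Ptab_6147) (Nat.ble 6147 c)
noncomputable def Ptab_s_6144_6148 (c : Nat) : Nat := @Bool.rec (fun _ => Nat) (Ptab_s_6144_6146 c) (Ptab_s_6146_6148 c) (Nat.ble 6146 c)
noncomputable def Ptab_s_6140_6148 (c : Nat) : Nat := @Bool.rec (fun _ => Nat) (Ptab_s_6140_6144 c) (Ptab_s_6144_6148 c) (Nat.ble 6144 c)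
noncomputable def Ptab_s_6133_6148 (c : Nat) : Nat := @Bool.rec (fun _ => Nat) (Ptab_s_6133_6140 c) (Ptab_s_6140_6148 c) (Nat.ble 6140 c)
noncomputable def Ptab_s_6118_6148 (c : Nat) : Nat := @Bool.rec (fun _ => Nat) (Ptab_s_6118_6133 c) (Ptab_s_6133_6148 c) (Nat.ble 6133 c)
noncomputable def Ptab_s_6149_6151 (c : Nat) : Nat := @Bool.rec (fun _ => Nat) (Ptab_6149) (Ptab_6150) (Nat.ble 6150 c)
noncomputable def Ptab_s_6148_6151 (c : Nat) : Nat := @Bool.rec (fun _ => Nat) (Ptab_6148) (Ptab_s_6149_6151 c) (Nat.ble 6149 c)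
noncomputable def Ptab_s_6151_6153 (c : Nat) : Nat := @Bool.rec (fun _ => Nat) (Ptab_6151) (Ptab_6152) (Nat.ble 6152 c)
noncomputable def Ptab_s_6153_6155 (c : Nat) : Nat := @Bool.rec (fun _ => Nat) (Ptab_6153) (Ptab_6154) (Nat.ble 6154 c)
noncomputable def Ptab_s_6151_6155 (c : Nat) : Nat := @Bool.rec (fun _ => Nat) (Ptab_s_6151_6153 c) (Ptab_s_6153_6155 c) (Nat.ble 6153 c)
noncomputable def Ptab_s_6148_6155 (c : Nat) : Nat := @Bool.rec (fun _ => Nat) (Ptab_s_6148_6151 c) (Ptab_s_6151_6155 c) (Nat.ble 6151 c)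
noncomputable def Ptab_s_6155_6157 (c : Nat) : Nat := @Bool.rec (fun _ => Nat) (Ptab_6155) (Ptab_6156) (Nat.ble 6156 c)
noncomputable def Ptab_s_6157_6159 (c : Nat) : Nat := @Bool.rec (fun _ => Nat) (Ptab_6157) (Ptab_6158) (Nat.ble 6158 c)
noncomputable def Ptab_s_6155_6159 (c : Nat) : Nat := @Bool.rec (fun _ => Nat) (Ptab_s_6155_6157 c) (Ptab_s_6157_6159 c) (Nat.ble 6157 c)
noncomputable def Ptab_s_6159_6161 (c : Nat) : Nat := @Bool.rec (fun _ => Nat) (Ptab_6159) (Ptab_6160) (Nat.ble 6160 c)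
noncomputable def Ptab_s_6161_6163 (c : Nat) : Nat := @Bool.rec (fun _ => Nat) (Ptab_6161) (Ptab_6162) (Nat.ble 6162 c)
noncomputable def Ptab_s_6159_6163 (c : Nat) : Nat := @Bool.rec (fun _ => Nat) (Ptab_s_6159_6161 c) (Ptab_s_6161_6163 c) (Nat.ble 6161 c)
noncomputable def Ptab_s_6155_6163 (c : Nat) : Nat := @Bool.rec (fun _ => Nat) (Ptab_s_6155_6159 c) (Ptab_s_6159_6163 c) (Nat.ble 6159 c)
noncomputable def Ptab_s_6148_6163 (c : Nat) : Nat := @Bool.rec (fun _ => Nat) (Ptab_s_6148_6155 c) (Ptab_s_6155_6163 c) (Nat.ble 6155 c)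
noncomputable def Ptab_s_6163_6165 (c : Nat) : Nat := @Bool.rec (fun _ => Nat) (Ptab_6163) (Ptab_6164) (Nat.ble 6164 c)
noncomputable def Ptab_s_6165_6167 (c : Nat) : Nat := @Bool.rec (fun _ => Nat) (Ptab_6165) (Ptab_6166) (Nat.ble 6166 c)
noncomputable def Ptab_s_6163_6167 (c : Nat) : Nat := @Bool.rec (fun _ => Nat) (Ptab_s_6163_6165 c) (Ptab_s_6165_6167 c) (Nat.ble 6165 c)
noncomputable def Ptab_s_6167_6169 (c : Nat) : Nat := @Bool.rec (fun _ => Nat) (Ptab_6167) (Ptab_6168) (Nat.ble 6168 c)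
noncomputable def Ptab_s_6169_6171 (c : Nat) : Nat := @Bool.rec (fun _ => Nat) (Ptab_6169) (Ptab_6170) (Nat.ble 6170 c)
noncomputable def Ptab_s_6167_6171 (c : Nat) : Nat := @Bool.rec (fun _ => Nat) (Ptab_s_6167_6169 c) (Ptab_s_6169_6171 c) (Nat.ble 6169 c)
noncomputable def Ptab_s_6163_6171 (c : Nat) : Nat := @Bool.rec (fun _ => Nat) (Ptab_s_6163_6167 c) (Ptab_s_6167_6171 c) (Nat.ble 6167 c)
noncomputable def Ptab_s_6171_6173 (c : Nat) : Nat := @Bool.rec (fun _ => Nat) (Ptab_6171) (Ptab_6172) (Nat.ble 6172 c)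
noncomputable def Ptab_s_6173_6175 (c : Nat) : Nat := @Bool.rec (fun _ => Nat) (Ptab_6173) (Ptab_6174) (Nat.ble 6174 c)
noncomputable def Ptab_s_6171_6175 (c : Nat) : Nat := @Bool.rec (fun _ => Nat) (Ptab_s_6171_6173 c) (Ptab_s_6173_6175 c) (Nat.ble 6173 c)
noncomputable def Ptab_s_6175_6177 (c : Nat) : Nat := @Bool.rec (fun _ => Nat) (Ptab_6175) (Ptab_6176) (Nat.ble 6176 c)
noncomputable def Ptab_s_6177_6179 (c : Nat) : Nat := @Bool.rec (fun _ => Nat) (Ptab_6177) (Ptab_6178) (Nat.ble 6178 c)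
noncomputable def Ptab_s_6175_6179 (c : Nat) : Nat := @Bool.rec (fun _ => Nat) (Ptab_s_6175_6177 c) (Ptab_s_6177_6179 c) (Nat.ble 6177 c)
noncomputable def Ptab_s_6171_6179 (c : Nat) : Nat := @Bool.rec (fun _ => Nat) (Ptab_s_6171_6175 c) (Ptab_s_6175_6179 c) (Nat.ble 6175 c)
noncomputable def Ptab_s_6163_6179 (c : Nat) : Nat := @Bool.rec (fun _ => Nat) (Ptab_s_6163_6171 c) (Ptab_s_6171_6179 c) (Nat.ble 6171 c)
noncomputable def Ptab_s_6148_6179 (c : Nat) : Nat := @Bool.rec (fun _ => Nat) (Ptab_s_6148_6163 c) (Ptab_s_6163_6179 c) (Nat.ble 6163 c)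
noncomputable def Ptab_s_6118_6179 (c : Nat) : Nat := @Bool.rec (fun _ => Nat) (Ptab_s_6118_6148 c) (Ptab_s_6148_6179 c) (Nat.ble 6148 c)
noncomputable def Ptab_s_6180_6182 (c : Nat) : Nat := @Bool.rec (fun _ => Nat) (Ptab_6180) (Ptab_6181) (Nat.ble 6181 c)
noncomputable def Ptab_s_6179_6182 (c : Nat) : Nat := @Bool.rec (fun _ => Nat) (Ptab_6179) (Ptab_s_6180_6182 c) (Nat.ble 6180 c)
noncomputable def Ptab_s_6182_6184 (c : Nat) : Nat := @Bool.rec (fun _ => Nat) (Ptab_6182) (Ptab_6183) (Nat.ble 6183 c)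
noncomputable def Ptab_s_6184_6186 (c : Nat) : Nat := @Bool.rec (fun _ => Nat) (Ptab_6184) (Ptab_6185) (Nat.ble 6185 c)
noncomputable def Ptab_s_6182_6186 (c : Nat) : Nat := @Bool.rec (fun _ => Nat) (Ptab_s_6182_6184 c) (Ptab_s_6184_6186 c) (Nat.ble 6184 c)
noncomputable def Ptab_s_6179_6186 (c : Nat) : Nat := @Bool.rec (fun _ => Nat) (Ptab_s_6179_6182 c) (Ptab_s_6182_6186 c) (Nat.ble 6182 c)
noncomputable def Ptab_s_6186_6188 (c : Nat) : Nat := @Bool.rec (fun _ => Nat) (Ptab_6186) (Ptab_6187) (Nat.ble 6187 c)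
noncomputable def Ptab_s_6188_6190 (c : Nat) : Nat := @Bool.rec (fun _ => Nat) (Ptab_6188) (Ptab_6189) (Nat.ble 6189 c)
noncomputable def Ptab_s_6186_6190 (c : Nat) : Nat := @Bool.rec (fun _ => Nat) (Ptab_s_6186_6188 c) (Ptab_s_6188_6190 c) (Nat.ble 6188 c)
noncomputable def Ptab_s_6190_6192 (c : Nat) : Nat := @Bool.rec (fun _ => Nat) (Ptab_6190) (Ptab_6191) (Nat.ble 6191 c)
noncomputable def Ptab_s_6192_6194 (c : Nat) : Nat := @Bool.rec (fun _ => Nat) (Ptab_6192) (Ptab_6193) (Nat.ble 6193 c)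
noncomputable def Ptab_s_6190_6194 (c : Nat) : Nat := @Bool.rec (fun _ => Nat) (Ptab_s_6190_6192 c) (Ptab_s_6192_6194 c) (Nat.ble 6192 c)
noncomputable def Ptab_s_6186_6194 (c : Nat) : Nat := @Bool.rec (fun _ => Nat) (Ptab_s_6186_6190 c) (Ptab_s_6190_6194 c) (Nat.ble 6190 c)
noncomputable def Ptab_s_6179_6194 (c : Nat) : Nat := @Bool.rec (fun _ => Nat) (Ptab_s_6179_6186 c) (Ptab_s_6186_6194 c) (Nat.ble 6186 c)
noncomputable def Ptab_s_6195_6197 (c : Nat) : Nat := @Bool.rec (fun _ => Nat) (Ptab_6195) (Ptab_6196) (Nat.ble 6196 c)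
noncomputable def Ptab_s_6194_6197 (c : Nat) : Nat := @Bool.rec (fun _ => Nat) (Ptab_6194) (Ptab_s_6195_6197 c) (Nat.ble 6195 c)
noncomputable def Ptab_s_6197_6199 (c : Nat) : Nat := @Bool.rec (fun _ => Nat) (Ptab_6197) (Ptab_6198) (Nat.ble 6198 c)
noncomputable def Ptab_s_6199_6201 (c : Nat) : Nat := @Bool.rec (fun _ => Nat) (Ptab_6199) (Ptab_6200) (Nat.ble 6200 c)
noncomputable def Ptab_s_6197_6201 (c : Nat) : Nat := @Bool.rec (fun _ => Nat) (Ptab_s_6197_6199 c) (Ptab_s_6199_6201 c) (Nat.ble 6199 c)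
noncomputable def Ptab_s_6194_6201 (c : Nat) : Nat := @Bool.rec (fun _ => Nat) (Ptab_s_6194_6197 c) (Ptab_s_6197_6201 c) (Nat.ble 6197 c)
noncomputable def Ptab_s_6201_6203 (c : Nat) : Nat := @Bool.rec (fun _ => Nat) (Ptab_6201) (Ptab_6202) (Nat.ble 6202 c)
noncomputable def Ptab_s_6203_6205 (c : Nat) : Nat := @Bool.rec (fun _ => Nat) (Ptab_6203) (Ptab_6204) (Nat.ble 6204 c)
noncomputable def Ptab_s_6201_6205 (c : Nat) : Nat := @Bool.rec (fun _ => Nat) (Ptab_s_6201_6203 c) (Ptab_s_6203_6205 c) (Nat.ble 6203 c)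
noncomputable def Ptab_s_6205_6207 (c : Nat) : Nat := @Bool.rec (fun _ => Nat) (Ptab_6205) (Ptab_6206) (Nat.ble 6206 c)
noncomputable def Ptab_s_6207_6209 (c : Nat) : Nat := @Bool.rec (fun _ => Nat) (Ptab_6207) (Ptab_6208) (Nat.ble 6208 c)
noncomputable def Ptab_s_6205_6209 (c : Nat) : Nat := @Bool.rec (fun _ => Nat) (Ptab_s_6205_6207 c) (Ptab_s_6207_6209 c) (Nat.ble 6207 c)
noncomputable def Ptab_s_6201_6209 (c : Nat) : Nat := @Bool.rec (fun _ => Nat) (Ptab_s_6201_6205 c) (Ptab_s_6205_6209 c) (Nat.ble 6205 c)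
noncomputable def Ptab_s_6194_6209 (c : Nat) : Nat := @Bool.rec (fun _ => Nat) (Ptab_s_6194_6201 c) (Ptab_s_6201_6209 c) (Nat.ble 6201 c)
noncomputable def Ptab_s_6179_6209 (c : Nat) : Nat := @Bool.rec (fun _ => Nat) (Ptab_s_6179_6194 c) (Ptab_s_6194_6209 c) (Nat.ble 6194 c)
noncomputable def Ptab_s_6210_6212 (c : Nat) : Nat := @Bool.rec (fun _ => Nat) (Ptab_6210) (Ptab_6211) (Nat.ble 6211 c)
noncomputable def Ptab_s_6209_6212 (c : Nat) : Nat := @Bool.rec (fun _ => Nat) (Ptab_6209) (Ptab_s_6210_6212 c) (Nat.ble 6210 c)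
noncomputable def Ptab_s_6212_6214 (c : Nat) : Nat := @Bool.rec (fun _ => Nat) (Ptab_6212) (Ptab_6213) (Nat.ble 6213 c)
noncomputable def Ptab_s_6214_6216 (c : Nat) : Nat := @Bool.rec (fun _ => Nat) (Ptab_6214) (Ptab_6215) (Nat.ble 6215 c)
noncomputable def Ptab_s_6212_6216 (c : Nat) : Nat := @Bool.rec (fun _ => Nat) (Ptab_s_6212_6214 c) (Ptab_s_6214_6216 c) (Nat.ble 6214 c)
noncomputable def Ptab_s_6209_6216 (c : Nat) : Nat := @Bool.rec (fun _ => Nat) (Ptab_s_6209_6212 c) (Ptab_s_6212_6216 c) (Nat.ble 6212 c)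
noncomputable def Ptab_s_6216_6218 (c : Nat) : Nat := @Bool.rec (fun _ => Nat) (Ptab_6216) (Ptab_6217) (Nat.ble 6217 c)
noncomputable def Ptab_s_6218_6220 (c : Nat) : Nat := @Bool.rec (fun _ => Nat) (Ptab_6218) (Ptab_6219) (Nat.ble 6219 c)
noncomputable def Ptab_s_6216_6220 (c : Nat) : Nat := @Bool.rec (fun _ => Nat) (Ptab_s_6216_6218 c) (Ptab_s_6218_6220 c) (Nat.ble 6218 c)
noncomputable def Ptab_s_6220_6222 (c : Nat) : Nat := @Bool.rec (fun _ => Nat) (Ptab_6220) (Ptab_6221) (Nat.ble 6221 c)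
noncomputable def Ptab_s_6222_6224 (c : Nat) : Nat := @Bool.rec (fun _ => Nat) (Ptab_6222) (Ptab_6223) (Nat.ble 6223 c)
noncomputable def Ptab_s_6220_6224 (c : Nat) : Nat := @Bool.rec (fun _ => Nat) (Ptab_s_6220_6222 c) (Ptab_s_6222_6224 c) (Nat.ble 6222 c)
noncomputable def Ptab_s_6216_6224 (c : Nat) : Nat := @Bool.rec (fun _ => Nat) (Ptab_s_6216_6220 c) (Ptab_s_6220_6224 c) (Nat.ble 6220 c)
noncomputable def Ptab_s_6209_6224 (c : Nat) : Nat := @Bool.rec (fun _ => Nat) (Ptab_s_6209_6216 c) (Ptab_s_6216_6224 c) (Nat.ble 6216 c)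
noncomputable def Ptab_s_6224_6226 (c : Nat) : Nat := @Bool.rec (fun _ => Nat) (Ptab_6224) (Ptab_6225) (Nat.ble 6225 c)
noncomputable def Ptab_s_6226_6228 (c : Nat) : Nat := @Bool.rec (fun _ => Nat) (Ptab_6226) (Ptab_6227) (Nat.ble 6227 c)
noncomputable def Ptab_s_6224_6228 (c : Nat) : Nat := @Bool.rec (fun _ => Nat) (Ptab_s_6224_6226 c) (Ptab_s_6226_6228 c) (Nat.ble 6226 c)
noncomputable def Ptab_s_6228_6230 (c : Nat) : Nat := @Bool.rec (fun _ => Nat) (Ptab_6228) (Ptab_6229) (Nat.ble 6229 c)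
noncomputable def Ptab_s_6230_6232 (c : Nat) : Nat := @Bool.rec (fun _ => Nat) (Ptab_6230) (Ptab_6231) (Nat.ble 6231 c)
noncomputable def Ptab_s_6228_6232 (c : Nat) : Nat := @Bool.rec (fun _ => Nat) (Ptab_s_6228_6230 c) (Ptab_s_6230_6232 c) (Nat.ble 6230 c)
noncomputable def Ptab_s_6224_6232 (c : Nat) : Nat := @Bool.rec (fun _ => Nat) (Ptab_s_6224_6228 c) (Ptab_s_6228_6232 c) (Nat.ble 6228 c)
noncomputable def Ptab_s_6232_6234 (c : Nat) : Nat := @Bool.rec (fun _ => Nat) (Ptab_6232) (Ptab_6233) (Nat.ble 6233 c)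
noncomputable def Ptab_s_6234_6236 (c : Nat) : Nat := @Bool.rec (fun _ => Nat) (Ptab_6234) (Ptab_6235) (Nat.ble 6235 c)
noncomputable def Ptab_s_6232_6236 (c : Nat) : Nat := @Bool.rec (fun _ => Nat) (Ptab_s_6232_6234 c) (Ptab_s_6234_6236 c) (Nat.ble 6234 c)
noncomputable def Ptab_s_6236_6238 (c : Nat) : Nat := @Bool.rec (fun _ => Nat) (Ptab_6236) (Ptab_6237) (Nat.ble 6237 c)
noncomputable def Ptab_s_6238_6240 (c : Nat) : Nat := @Bool.rec (fun _ => Nat) (Ptab_6238) (Ptab_6239) (Nat.ble 6239 c)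
noncomputable def Ptab_s_6236_6240 (c : Nat) : Nat := @Bool.rec (fun _ => Nat) (Ptab_s_6236_6238 c) (Ptab_s_6238_6240 c) (Nat.ble 6238 c)
noncomputable def Ptab_s_6232_6240 (c : Nat) : Nat := @Bool.rec (fun _ => Nat) (Ptab_s_6232_6236 c) (Ptab_s_6236_6240 c) (Nat.ble 6236 c)
noncomputable def Ptab_s_6224_6240 (c : Nat) : Nat := @Bool.rec (fun _ => Nat) (Ptab_s_6224_6232 c) (Ptab_s_6232_6240 c) (Nat.ble 6232 c)
noncomputable def Ptab_s_6209_6240 (c : Nat) : Nat := @Bool.rec (fun _ => Nat) (Ptab_s_6209_6224 c) (Ptab_s_6224_6240 c) (Nat.ble 6224 c)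
noncomputable def Ptab_s_6179_6240 (c : Nat) : Nat := @Bool.rec (fun _ => Nat) (Ptab_s_6179_6209 c) (Ptab_s_6209_6240 c) (Nat.ble 6209 c)
noncomputable def Ptab_s_6118_6240 (c : Nat) : Nat := @Bool.rec (fun _ => Nat) (Ptab_s_6118_6179 c) (Ptab_s_6179_6240 c) (Nat.ble 6179 c)
noncomputable def Ptab_s_6241_6243 (c : Nat) : Nat := @Bool.rec (fun _ => Nat) (Ptab_6241) (Ptab_6242) (Nat.ble 6242 c)
noncomputable def Ptab_s_6240_6243 (c : Nat) : Nat := @Bool.rec (fun _ => Nat) (Ptab_6240) (Ptab_s_6241_6243 c) (Nat.ble 6241 c)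
noncomputable def Ptab_s_6243_6245 (c : Nat) : Nat := @Bool.rec (fun _ => Nat) (Ptab_6243) (Ptab_6244) (Nat.ble 6244 c)
noncomputable def Ptab_s_6245_6247 (c : Nat) : Nat := @Bool.rec (fun _ => Nat) (Ptab_6245) (Ptab_6246) (Nat.ble 6246 c)
noncomputable def Ptab_s_6243_6247 (c : Nat) : Nat := @Bool.rec (fun _ => Nat) (Ptab_s_6243_6245 c) (Ptab_s_6245_6247 c) (Nat.ble 6245 c)
noncomputable def Ptab_s_6240_6247 (c : Nat) : Nat := @Bool.rec (fun _ => Nat) (Ptab_s_6240_6243 c) (Ptab_s_6243_6247 c) (Nat.ble 6243 c)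
noncomputable def Ptab_s_6247_6249 (c : Nat) : Nat := @Bool.rec (fun _ => Nat) (Ptab_6247) (Ptab_6248) (Nat.ble 6248 c)
noncomputable def Ptab_s_6249_6251 (c : Nat) : Nat := @Bool.rec (fun _ => Nat) (Ptab_6249) (Ptab_6250) (Nat.ble 6250 c)
noncomputable def Ptab_s_6247_6251 (c : Nat) : Nat := @Bool.rec (fun _ => Nat) (Ptab_s_6247_6249 c) (Ptab_s_6249_6251 c) (Nat.ble 6249 c)
noncomputable def Ptab_s_6251_6253 (c : Nat) : Nat := @Bool.rec (fun _ => Nat) (Ptab_6251) (Ptab_6252) (Nat.ble 6252 c)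
noncomputable def Ptab_s_6253_6255 (c : Nat) : Nat := @Bool.rec (fun _ => Nat) (Ptab_6253) (Ptab_6254) (Nat.ble 6254 c)
noncomputable def Ptab_s_6251_6255 (c : Nat) : Nat := @Bool.rec (fun _ => Nat) (Ptab_s_6251_6253 c) (Ptab_s_6253_6255 c) (Nat.ble 6253 c)
noncomputable def Ptab_s_6247_6255 (c : Nat) : Nat := @Bool.rec (fun _ => Nat) (Ptab_s_6247_6251 c) (Ptab_s_6251_6255 c) (Nat.ble 6251 c)
noncomputable def Ptab_s_6240_6255 (c : Nat) : Nat := @Bool.rec (fun _ => Nat) (Ptab_s_6240_6247 c) (Ptab_s_6247_6255 c) (Nat.ble 6247 c)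
noncomputable def Ptab_s_6256_6258 (c : Nat) : Nat := @Bool.rec (fun _ => Nat) (Ptab_6256) (Ptab_6257) (Nat.ble 6257 c)
noncomputable def Ptab_s_6255_6258 (c : Nat) : Nat := @Bool.rec (fun _ => Nat) (Ptab_6255) (Ptab_s_6256_6258 c) (Nat.ble 6256 c)
noncomputable def Ptab_s_6258_6260 (c : Nat) : Nat := @Bool.rec (fun _ => Nat) (Ptab_6258) (Ptab_6259) (Nat.ble 6259 c)
noncomputable def Ptab_s_6260_6262 (c : Nat) : Nat := @Bool.rec (fun _ => Nat) (Ptab_6260) (Ptab_6261) (Nat.ble 6261 c)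
noncomputable def Ptab_s_6258_6262 (c : Nat) : Nat := @Bool.rec (fun _ => Nat) (Ptab_s_6258_6260 c) (Ptab_s_6260_6262 c) (Nat.ble 6260 c)
noncomputable def Ptab_s_6255_6262 (c : Nat) : Nat := @Bool.rec (fun _ => Nat) (Ptab_s_6255_6258 c) (Ptab_s_6258_6262 c) (Nat.ble 6258 c)
noncomputable def Ptab_s_6262_6264 (c : Nat) : Nat := @Bool.rec (fun _ => Nat) (Ptab_6262) (Ptab_6263) (Nat.ble 6263 c)
noncomputable def Ptab_s_6264_6266 (c : Nat) : Nat := @Bool.rec (fun _ => Nat) (Ptab_6264) (Ptab_6265) (Nat.ble 6265 c)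
noncomputable def Ptab_s_6262_6266 (c : Nat) : Nat := @Bool.rec (fun _ => Nat) (Ptab_s_6262_6264 c) (Ptab_s_6264_6266 c) (Nat.ble 6264 c)
noncomputable def Ptab_s_6266_6268 (c : Nat) : Nat := @Bool.rec (fun _ => Nat) (Ptab_6266) (Ptab_6267) (Nat.ble 6267 c)
noncomputable def Ptab_s_6268_6270 (c : Nat) : Nat := @Bool.rec (fun _ => Nat) (Ptab_6268) (Ptab_6269) (Nat.ble 6269 c)
noncomputable def Ptab_s_6266_6270 (c : Nat) : Nat := @Bool.rec (fun _ => Nat) (Ptab_s_6266_6268 c) (Ptab_s_6268_6270 c) (Nat.ble 6268 c)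
noncomputable def Ptab_s_6262_6270 (c : Nat) : Nat := @Bool.rec (fun _ => Nat) (Ptab_s_6262_6266 c) (Ptab_s_6266_6270 c) (Nat.ble 6266 c)
noncomputable def Ptab_s_6255_6270 (c : Nat) : Nat := @Bool.rec (fun _ => Nat) (Ptab_s_6255_6262 c) (Ptab_s_6262_6270 c) (Nat.ble 6262 c)
noncomputable def Ptab_s_6240_6270 (c : Nat) : Nat := @Bool.rec (fun _ => Nat) (Ptab_s_6240_6255 c) (Ptab_s_6255_6270 c) (Nat.ble 6255 c)
noncomputable def Ptab_s_6271_6273 (c : Nat) : Nat := @Bool.rec (fun _ => Nat) (Ptab_6271) (Ptab_6272) (Nat.ble 6272 c)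
noncomputable def Ptab_s_6270_6273 (c : Nat) : Nat := @Bool.rec (fun _ => Nat) (Ptab_6270) (Ptab_s_6271_6273 c) (Nat.ble 6271 c)
noncomputable def Ptab_s_6273_6275 (c : Nat) : Nat := @Bool.rec (fun _ => Nat) (Ptab_6273) (Ptab_6274) (Nat.ble 6274 c)
noncomputable def Ptab_s_6275_6277 (c : Nat) : Nat := @Bool.rec (fun _ => Nat) (Ptab_6275) (Ptab_6276) (Nat.ble 6276 c)
noncomputable def Ptab_s_6273_6277 (c : Nat) : Nat := @Bool.rec (fun _ => Nat) (Ptab_s_6273_6275 c) (Ptab_s_6275_6277 c) (Nat.ble 6275 c)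
noncomputable def Ptab_s_6270_6277 (c : Nat) : Nat := @Bool.rec (fun _ => Nat) (Ptab_s_6270_6273 c) (Ptab_s_6273_6277 c) (Nat.ble 6273 c)
noncomputable def Ptab_s_6277_6279 (c : Nat) : Nat := @Bool.rec (fun _ => Nat) (Ptab_6277) (Ptab_6278) (Nat.ble 6278 c)
noncomputable def Ptab_s_6279_6281 (c : Nat) : Nat := @Bool.rec (fun _ => Nat) (Ptab_6279) (Ptab_6280) (Nat.ble 6280 c)
noncomputable def Ptab_s_6277_6281 (c : Nat) : Nat := @Bool.rec (fun _ => Nat) (Ptab_s_6277_6279 c) (Ptab_s_6279_6281 c) (Nat.ble 6279 c)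
noncomputable def Ptab_s_6281_6283 (c : Nat) : Nat := @Bool.rec (fun _ => Nat) (Ptab_6281) (Ptab_6282) (Nat.ble 6282 c)
noncomputable def Ptab_s_6283_6285 (c : Nat) : Nat := @Bool.rec (fun _ => Nat) (Ptab_6283) (Ptab_6284) (Nat.ble 6284 c)
noncomputable def Ptab_s_6281_6285 (c : Nat) : Nat := @Bool.rec (fun _ => Nat) (Ptab_s_6281_6283 c) (Ptab_s_6283_6285 c) (Nat.ble 6283 c)
noncomputable def Ptab_s_6277_6285 (c : Nat) : Nat := @Bool.rec (fun _ => Nat) (Ptab_s_6277_6281 c) (Ptab_s_6281_6285 c) (Nat.ble 6281 c)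
noncomputable def Ptab_s_6270_6285 (c : Nat) : Nat := @Bool.rec (fun _ => Nat) (Ptab_s_6270_6277 c) (Ptab_s_6277_6285 c) (Nat.ble 6277 c)
noncomputable def Ptab_s_6285_6287 (c : Nat) : Nat := @Bool.rec (fun _ => Nat) (Ptab_6285) (Ptab_6286) (Nat.ble 6286 c)
noncomputable def Ptab_s_6287_6289 (c : Nat) : Nat := @Bool.rec (fun _ => Nat) (Ptab_6287) (Ptab_6288) (Nat.ble 6288 c)
noncomputable def Ptab_s_6285_6289 (c : Nat) : Nat := @Bool.rec (fun _ => Nat) (Ptab_s_6285_6287 c) (Ptab_s_6287_6289 c) (Nat.ble 6287 c)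
noncomputable def Ptab_s_6289_6291 (c : Nat) : Nat := @Bool.rec (fun _ => Nat) (Ptab_6289) (Ptab_6290) (Nat.ble 6290 c)
noncomputable def Ptab_s_6291_6293 (c : Nat) : Nat := @Bool.rec (fun _ => Nat) (Ptab_6291) (Ptab_6292) (Nat.ble 6292 c)
noncomputable def Ptab_s_6289_6293 (c : Nat) : Nat := @Bool.rec (fun _ => Nat) (Ptab_s_6289_6291 c) (Ptab_s_6291_6293 c) (Nat.ble 6291 c)
noncomputable def Ptab_s_6285_6293 (c : Nat) : Nat := @Bool.rec (fun _ => Nat) (Ptab_s_6285_6289 c) (Ptab_s_6289_6293 c) (Nat.ble 6289 c)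
noncomputable def Ptab_s_6293_6295 (c : Nat) : Nat := @Bool.rec (fun _ => Nat) (Ptab_6293) (Ptab_6294) (Nat.ble 6294 c)
noncomputable def Ptab_s_6295_6297 (c : Nat) : Nat := @Bool.rec (fun _ => Nat) (Ptab_6295) (Ptab_6296) (Nat.ble 6296 c)
noncomputable def Ptab_s_6293_6297 (c : Nat) : Nat := @Bool.rec (fun _ => Nat) (Ptab_s_6293_6295 c) (Ptab_s_6295_6297 c) (Nat.ble 6295 c)
noncomputable def Ptab_s_6297_6299 (c : Nat) : Nat := @Bool.rec (fun _ => Nat) (Ptab_6297) (Ptab_6298) (Nat.ble 6298 c)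
noncomputable def Ptab_s_6299_6301 (c : Nat) : Nat := @Bool.rec (fun _ => Nat) (Ptab_6299) (Ptab_6300) (Nat.ble 6300 c)
noncomputable def Ptab_s_6297_6301 (c : Nat) : Nat := @Bool.rec (fun _ => Nat) (Ptab_s_6297_6299 c) (Ptab_s_6299_6301 c) (Nat.ble 6299 c)
noncomputable def Ptab_s_6293_6301 (c : Nat) : Nat := @Bool.rec (fun _ => Nat) (Ptab_s_6293_6297 c) (Ptab_s_6297_6301 c) (Nat.ble 6297 c)
noncomputable def Ptab_s_6285_6301 (c : Nat) : Nat := @Bool.rec (fun _ => Nat) (Ptab_s_6285_6293 c) (Ptab_s_6293_6301 c) (Nat.ble 6293 c)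
noncomputable def Ptab_s_6270_6301 (c : Nat) : Nat := @Bool.rec (fun _ => Nat) (Ptab_s_6270_6285 c) (Ptab_s_6285_6301 c) (Nat.ble 6285 c)
noncomputable def Ptab_s_6240_6301 (c : Nat) : Nat := @Bool.rec (fun _ => Nat) (Ptab_s_6240_6270 c) (Ptab_s_6270_6301 c) (Nat.ble 6270 c)
noncomputable def Ptab_s_6302_6304 (c : Nat) : Nat := @Bool.rec (fun _ => Nat) (Ptab_6302) (Ptab_6303) (Nat.ble 6303 c)
noncomputable def Ptab_s_6301_6304 (c : Nat) : Nat := @Bool.rec (fun _ => Nat) (Ptab_6301) (Ptab_s_6302_6304 c) (Nat.ble 6302 c)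
noncomputable def Ptab_s_6304_6306 (c : Nat) : Nat := @Bool.rec (fun _ => Nat) (Ptab_6304) (Ptab_6305) (Nat.ble 6305 c)
noncomputable def Ptab_s_6306_6308 (c : Nat) : Nat := @Bool.rec (fun _ => Nat) (Ptab_6306) (Ptab_6307) (Nat.ble 6307 c)
noncomputable def Ptab_s_6304_6308 (c : Nat) : Nat := @Bool.rec (fun _ => Nat) (Ptab_s_6304_6306 c) (Ptab_s_6306_6308 c) (Nat.ble 6306 c)
noncomputable def Ptab_s_6301_6308 (c : Nat) : Nat := @Bool.rec (fun _ => Nat) (Ptab_s_6301_6304 c) (Ptab_s_6304_6308 c) (Nat.ble 6304 c)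
noncomputable def Ptab_s_6308_6310 (c : Nat) : Nat := @Bool.rec (fun _ => Nat) (Ptab_6308) (Ptab_6309) (Nat.ble 6309 c)
noncomputable def Ptab_s_6310_6312 (c : Nat) : Nat := @Bool.rec (fun _ => Nat) (Ptab_6310) (Ptab_6311) (Nat.ble 6311 c)
noncomputable def Ptab_s_6308_6312 (c : Nat) : Nat := @Bool.rec (fun _ => Nat) (Ptab_s_6308_6310 c) (Ptab_s_6310_6312 c) (Nat.ble 6310 c)
noncomputable def Ptab_s_6312_6314 (c : Nat) : Nat := @Bool.rec (fun _ => Nat) (Ptab_6312) (Ptab_6313) (Nat.ble 6313 c)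
noncomputable def Ptab_s_6314_6316 (c : Nat) : Nat := @Bool.rec (fun _ => Nat) (Ptab_6314) (Ptab_6315) (Nat.ble 6315 c)
noncomputable def Ptab_s_6312_6316 (c : Nat) : Nat := @Bool.rec (fun _ => Nat) (Ptab_s_6312_6314 c) (Ptab_s_6314_6316 c) (Nat.ble 6314 c)
noncomputable def Ptab_s_6308_6316 (c : Nat) : Nat := @Bool.rec (fun _ => Nat) (Ptab_s_6308_6312 c) (Ptab_s_6312_6316 c) (Nat.ble 6312 c)
noncomputable def Ptab_s_6301_6316 (c : Nat) : Nat := @Bool.rec (fun _ => Nat) (Ptab_s_6301_6308 c) (Ptab_s_6308_6316 c) (Nat.ble 6308 c)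
noncomputable def Ptab_s_6316_6318 (c : Nat) : Nat := @Bool.rec (fun _ => Nat) (Ptab_6316) (Ptab_6317) (Nat.ble 6317 c)
noncomputable def Ptab_s_6318_6320 (c : Nat) : Nat := @Bool.rec (fun _ => Nat) (Ptab_6318) (Ptab_6319) (Nat.ble 6319 c)
noncomputable def Ptab_s_6316_6320 (c : Nat) : Nat := @Bool.rec (fun _ => Nat) (Ptab_s_6316_6318 c) (Ptab_s_6318_6320 c) (Nat.ble 6318 c)
noncomputable def Ptab_s_6320_6322 (c : Nat) : Nat := @Bool.rec (fun _ => Nat) (Ptab_6320) (Ptab_6321) (Nat.ble 6321 c)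
noncomputable def Ptab_s_6322_6324 (c : Nat) : Nat := @Bool.rec (fun _ => Nat) (Ptab_6322) (Ptab_6323) (Nat.ble 6323 c)
noncomputable def Ptab_s_6320_6324 (c : Nat) : Nat := @Bool.rec (fun _ => Nat) (Ptab_s_6320_6322 c) (Ptab_s_6322_6324 c) (Nat.ble 6322 c)
noncomputable def Ptab_s_6316_6324 (c : Nat) : Nat := @Bool.rec (fun _ => Nat) (Ptab_s_6316_6320 c) (Ptab_s_6320_6324 c) (Nat.ble 6320 c)
noncomputable def Ptab_s_6324_6326 (c : Nat) : Nat := @Bool.rec (fun _ => Nat) (Ptab_6324) (Ptab_6325) (Nat.ble 6325 c)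
noncomputable def Ptab_s_6326_6328 (c : Nat) : Nat := @Bool.rec (fun _ => Nat) (Ptab_6326) (Ptab_6327) (Nat.ble 6327 c)
noncomputable def Ptab_s_6324_6328 (c : Nat) : Nat := @Bool.rec (fun _ => Nat) (Ptab_s_6324_6326 c) (Ptab_s_6326_6328 c) (Nat.ble 6326 c)
noncomputable def Ptab_s_6328_6330 (c : Nat) : Nat := @Bool.rec (fun _ => Nat) (Ptab_6328) (Ptab_6329) (Nat.ble 6329 c)
noncomputable def Ptab_s_6330_6332 (c : Nat) : Nat := @Bool.rec (fun _ => Nat) (Ptab_6330) (Ptab_6331) (Nat.ble 6331 c)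
noncomputable def Ptab_s_6328_6332 (c : Nat) : Nat := @Bool.rec (fun _ => Nat) (Ptab_s_6328_6330 c) (Ptab_s_6330_6332 c) (Nat.ble 6330 c)
noncomputable def Ptab_s_6324_6332 (c : Nat) : Nat := @Bool.rec (fun _ => Nat) (Ptab_s_6324_6328 c) (Ptab_s_6328_6332 c) (Nat.ble 6328 c)
noncomputable def Ptab_s_6316_6332 (c : Nat) : Nat := @Bool.rec (fun _ => Nat) (Ptab_s_6316_6324 c) (Ptab_s_6324_6332 c) (Nat.ble 6324 c)
noncomputable def Ptab_s_6301_6332 (c : Nat) : Nat := @Bool.rec (fun _ => Nat) (Ptab_s_6301_6316 c) (Ptab_s_6316_6332 c) (Nat.ble 6316 c)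
noncomputable def Ptab_s_6333_6335 (c : Nat) : Nat := @Bool.rec (fun _ => Nat) (Ptab_6333) (Ptab_6334) (Nat.ble 6334 c)
noncomputable def Ptab_s_6332_6335 (c : Nat) : Nat := @Bool.rec (fun _ => Nat) (Ptab_6332) (Ptab_s_6333_6335 c) (Nat.ble 6333 c)
noncomputable def Ptab_s_6335_6337 (c : Nat) : Nat := @Bool.rec (fun _ => Nat) (Ptab_6335) (Ptab_6336) (Nat.ble 6336 c)
noncomputable def Ptab_s_6337_6339 (c : Nat) : Nat := @Bool.rec (fun _ => Nat) (Ptab_6337) (Ptab_6338) (Nat.ble 6338 c)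
noncomputable def Ptab_s_6335_6339 (c : Nat) : Nat := @Bool.rec (fun _ => Nat) (Ptab_s_6335_6337 c) (Ptab_s_6337_6339 c) (Nat.ble 6337 c)
noncomputable def Ptab_s_6332_6339 (c : Nat) : Nat := @Bool.rec (fun _ => Nat) (Ptab_s_6332_6335 c) (Ptab_s_6335_6339 c) (Nat.ble 6335 c)
noncomputable def Ptab_s_6339_6341 (c : Nat) : Nat := @Bool.rec (fun _ => Nat) (Ptab_6339) (Ptab_6340) (Nat.ble 6340 c)
noncomputable def Ptab_s_6341_6343 (c : Nat) : Nat := @Bool.rec (fun _ => Nat) (Ptab_6341) (Ptab_6342) (Nat.ble 6342 c)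
noncomputable def Ptab_s_6339_6343 (c : Nat) : Nat := @Bool.rec (fun _ => Nat) (Ptab_s_6339_6341 c) (Ptab_s_6341_6343 c) (Nat.ble 6341 c)
noncomputable def Ptab_s_6343_6345 (c : Nat) : Nat := @Bool.rec (fun _ => Nat) (Ptab_6343) (Ptab_6344) (Nat.ble 6344 c)
noncomputable def Ptab_s_6345_6347 (c : Nat) : Nat := @Bool.rec (fun _ => Nat) (Ptab_6345) (Ptab_6346) (Nat.ble 6346 c)
noncomputable def Ptab_s_6343_6347 (c : Nat) : Nat := @Bool.rec (fun _ => Nat) (Ptab_s_6343_6345 c) (Ptab_s_6345_6347 c) (Nat.ble 6345 c)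
noncomputable def Ptab_s_6339_6347 (c : Nat) : Nat := @Bool.rec (fun _ => Nat) (Ptab_s_6339_6343 c) (Ptab_s_6343_6347 c) (Nat.ble 6343 c)
noncomputable def Ptab_s_6332_6347 (c : Nat) : Nat := @Bool.rec (fun _ => Nat) (Ptab_s_6332_6339 c) (Ptab_s_6339_6347 c) (Nat.ble 6339 c)
noncomputable def Ptab_s_6347_6349 (c : Nat) : Nat := @Bool.rec (fun _ => Nat) (Ptab_6347) (Ptab_6348) (Nat.ble 6348 c)
noncomputable def Ptab_s_6349_6351 (c : Nat) : Nat := @Bool.rec (fun _ => Nat) (Ptab_6349) (Ptab_6350) (Nat.ble 6350 c)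
noncomputable def Ptab_s_6347_6351 (c : Nat) : Nat := @Bool.rec (fun _ => Nat) (Ptab_s_6347_6349 c) (Ptab_s_6349_6351 c) (Nat.ble 6349 c)
noncomputable def Ptab_s_6351_6353 (c : Nat) : Nat := @Bool.rec (fun _ => Nat) (Ptab_6351) (Ptab_6352) (Nat.ble 6352 c)
noncomputable def Ptab_s_6353_6355 (c : Nat) : Nat := @Bool.rec (fun _ => Nat) (Ptab_6353) (Ptab_6354) (Nat.ble 6354 c)
noncomputable def Ptab_s_6351_6355 (c : Nat) : Nat := @Bool.rec (fun _ => Nat) (Ptab_s_6351_6353 c) (Ptab_s_6353_6355 c) (Nat.ble 6353 c)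
noncomputable def Ptab_s_6347_6355 (c : Nat) : Nat := @Bool.rec (fun _ => Nat) (Ptab_s_6347_6351 c) (Ptab_s_6351_6355 c) (Nat.ble 6351 c)
noncomputable def Ptab_s_6355_6357 (c : Nat) : Nat := @Bool.rec (fun _ => Nat) (Ptab_6355) (Ptab_6356) (Nat.ble 6356 c)
noncomputable def Ptab_s_6357_6359 (c : Nat) : Nat := @Bool.rec (fun _ => Nat) (Ptab_6357) (Ptab_6358) (Nat.ble 6358 c)
noncomputable def Ptab_s_6355_6359 (c : Nat) : Nat := @Bool.rec (fun _ => Nat) (Ptab_s_6355_6357 c) (Ptab_s_6357_6359 c) (Nat.ble 6357 c)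
noncomputable def Ptab_s_6359_6361 (c : Nat) : Nat := @Bool.rec (fun _ => Nat) (Ptab_6359) (Ptab_6360) (Nat.ble 6360 c)
noncomputable def Ptab_s_6361_6363 (c : Nat) : Nat := @Bool.rec (fun _ => Nat) (Ptab_6361) (Ptab_6362) (Nat.ble 6362 c)
noncomputable def Ptab_s_6359_6363 (c : Nat) : Nat := @Bool.rec (fun _ => Nat) (Ptab_s_6359_6361 c) (Ptab_s_6361_6363 c) (Nat.ble 6361 c)
noncomputable def Ptab_s_6355_6363 (c : Nat) : Nat := @Bool.rec (fun _ => Nat) (Ptab_s_6355_6359 c) (Ptab_s_6359_6363 c) (Nat.ble 6359 c)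
noncomputable def Ptab_s_6347_6363 (c : Nat) : Nat := @Bool.rec (fun _ => Nat) (Ptab_s_6347_6355 c) (Ptab_s_6355_6363 c) (Nat.ble 6355 c)
noncomputable def Ptab_s_6332_6363 (c : Nat) : Nat := @Bool.rec (fun _ => Nat) (Ptab_s_6332_6347 c) (Ptab_s_6347_6363 c) (Nat.ble 6347 c)
noncomputable def Ptab_s_6301_6363 (c : Nat) : Nat := @Bool.rec (fun _ => Nat) (Ptab_s_6301_6332 c) (Ptab_s_6332_6363 c) (Nat.ble 6332 c)
noncomputable def Ptab_s_6240_6363 (c : Nat) : Nat := @Bool.rec (fun _ => Nat) (Ptab_s_6240_6301 c) (Ptab_s_6301_6363 c) (Nat.ble 6301 c)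
noncomputable def Ptab_s_6118_6363 (c : Nat) : Nat := @Bool.rec (fun _ => Nat) (Ptab_s_6118_6240 c) (Ptab_s_6240_6363 c) (Nat.ble 6240 c)
noncomputable def Ptab_s_5874_6363 (c : Nat) : Nat := @Bool.rec (fun _ => Nat) (Ptab_s_5874_6118 c) (Ptab_s_6118_6363 c) (Nat.ble 6118 c)
noncomputable def Ptab_s_6364_6366 (c : Nat) : Nat := @Bool.rec (fun _ => Nat) (Ptab_6364) (Ptab_6365) (Nat.ble 6365 c)
noncomputable def Ptab_s_6363_6366 (c : Nat) : Nat := @Bool.rec (fun _ => Nat) (Ptab_6363) (Ptab_s_6364_6366 c) (Nat.ble 6364 c)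
noncomputable def Ptab_s_6366_6368 (c : Nat) : Nat := @Bool.rec (fun _ => Nat) (Ptab_6366) (Ptab_6367) (Nat.ble 6367 c)
noncomputable def Ptab_s_6368_6370 (c : Nat) : Nat := @Bool.rec (fun _ => Nat) (Ptab_6368) (Ptab_6369) (Nat.ble 6369 c)
noncomputable def Ptab_s_6366_6370 (c : Nat) : Nat := @Bool.rec (fun _ => Nat) (Ptab_s_6366_6368 c) (Ptab_s_6368_6370 c) (Nat.ble 6368 c)
noncomputable def Ptab_s_6363_6370 (c : Nat) : Nat := @Bool.rec (fun _ => Nat) (Ptab_s_6363_6366 c) (Ptab_s_6366_6370 c) (Nat.ble 6366 c)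
noncomputable def Ptab_s_6370_6372 (c : Nat) : Nat := @Bool.rec (fun _ => Nat) (Ptab_6370) (Ptab_6371) (Nat.ble 6371 c)
noncomputable def Ptab_s_6372_6374 (c : Nat) : Nat := @Bool.rec (fun _ => Nat) (Ptab_6372) (Ptab_6373) (Nat.ble 6373 c)
noncomputable def Ptab_s_6370_6374 (c : Nat) : Nat := @Bool.rec (fun _ => Nat) (Ptab_s_6370_6372 c) (Ptab_s_6372_6374 c) (Nat.ble 6372 c)
noncomputable def Ptab_s_6374_6376 (c : Nat) : Nat := @Bool.rec (fun _ => Nat) (Ptab_6374) (Ptab_6375) (Nat.ble 6375 c)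
noncomputable def Ptab_s_6376_6378 (c : Nat) : Nat := @Bool.rec (fun _ => Nat) (Ptab_6376) (Ptab_6377) (Nat.ble 6377 c)
noncomputable def Ptab_s_6374_6378 (c : Nat) : Nat := @Bool.rec (fun _ => Nat) (Ptab_s_6374_6376 c) (Ptab_s_6376_6378 c) (Nat.ble 6376 c)
noncomputable def Ptab_s_6370_6378 (c : Nat) : Nat := @Bool.rec (fun _ => Nat) (Ptab_s_6370_6374 c) (Ptab_s_6374_6378 c) (Nat.ble 6374 c)
noncomputable def Ptab_s_6363_6378 (c : Nat) : Nat := @Bool.rec (fun _ => Nat) (Ptab_s_6363_6370 c) (Ptab_s_6370_6378 c) (Nat.ble 6370 c)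
noncomputable def Ptab_s_6379_6381 (c : Nat) : Nat := @Bool.rec (fun _ => Nat) (Ptab_6379) (Ptab_6380) (Nat.ble 6380 c)
noncomputable def Ptab_s_6378_6381 (c : Nat) : Nat := @Bool.rec (fun _ => Nat) (Ptab_6378) (Ptab_s_6379_6381 c) (Nat.ble 6379 c)
noncomputable def Ptab_s_6381_6383 (c : Nat) : Nat := @Bool.rec (fun _ => Nat) (Ptab_6381) (Ptab_6382) (Nat.ble 6382 c)
noncomputable def Ptab_s_6383_6385 (c : Nat) : Nat := @Bool.rec (fun _ => Nat) (Ptab_6383) (Ptab_6384) (Nat.ble 6384 c)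
noncomputable def Ptab_s_6381_6385 (c : Nat) : Nat := @Bool.rec (fun _ => Nat) (Ptab_s_6381_6383 c) (Ptab_s_6383_6385 c) (Nat.ble 6383 c)
noncomputable def Ptab_s_6378_6385 (c : Nat) : Nat := @Bool.rec (fun _ => Nat) (Ptab_s_6378_6381 c) (Ptab_s_6381_6385 c) (Nat.ble 6381 c)
noncomputable def Ptab_s_6385_6387 (c : Nat) : Nat := @Bool.rec (fun _ => Nat) (Ptab_6385) (Ptab_6386) (Nat.ble 6386 c)
noncomputable def Ptab_s_6387_6389 (c : Nat) : Nat := @Bool.rec (fun _ => Nat) (Ptab_6387) (Ptab_6388) (Nat.ble 6388 c)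
noncomputable def Ptab_s_6385_6389 (c : Nat) : Nat := @Bool.rec (fun _ => Nat) (Ptab_s_6385_6387 c) (Ptab_s_6387_6389 c) (Nat.ble 6387 c)
noncomputable def Ptab_s_6389_6391 (c : Nat) : Nat := @Bool.rec (fun _ => Nat) (Ptab_6389) (Ptab_6390) (Nat.ble 6390 c)
noncomputable def Ptab_s_6391_6393 (c : Nat) : Nat := @Bool.rec (fun _ => Nat) (Ptab_6391) (Ptab_6392) (Nat.ble 6392 c)
noncomputable def Ptab_s_6389_6393 (c : Nat) : Nat := @Bool.rec (fun _ => Nat) (Ptab_s_6389_6391 c) (Ptab_s_6391_6393 c) (Nat.ble 6391 c)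
noncomputable def Ptab_s_6385_6393 (c : Nat) : Nat := @Bool.rec (fun _ => Nat) (Ptab_s_6385_6389 c) (Ptab_s_6389_6393 c) (Nat.ble 6389 c)
noncomputable def Ptab_s_6378_6393 (c : Nat) : Nat := @Bool.rec (fun _ => Nat) (Ptab_s_6378_6385 c) (Ptab_s_6385_6393 c) (Nat.ble 6385 c)
noncomputable def Ptab_s_6363_6393 (c : Nat) : Nat := @Bool.rec (fun _ => Nat) (Ptab_s_6363_6378 c) (Ptab_s_6378_6393 c) (Nat.ble 6378 c)
noncomputable def Ptab_s_6394_6396 (c : Nat) : Nat := @Bool.rec (fun _ => Nat) (Ptab_6394) (Ptab_6395) (Nat.ble 6395 c)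
noncomputable def Ptab_s_6393_6396 (c : Nat) : Nat := @Bool.rec (fun _ => Nat) (Ptab_6393) (Ptab_s_6394_6396 c) (Nat.ble 6394 c)
noncomputable def Ptab_s_6396_6398 (c : Nat) : Nat := @Bool.rec (fun _ => Nat) (Ptab_6396) (Ptab_6397) (Nat.ble 6397 c)
noncomputable def Ptab_s_6398_6400 (c : Nat) : Nat := @Bool.rec (fun _ => Nat) (Ptab_6398) (Ptab_6399) (Nat.ble 6399 c)
noncomputable def Ptab_s_6396_6400 (c : Nat) : Nat := @Bool.rec (fun _ => Nat) (Ptab_s_6396_6398 c) (Ptab_s_6398_6400 c) (Nat.ble 6398 c)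
noncomputable def Ptab_s_6393_6400 (c : Nat) : Nat := @Bool.rec (fun _ => Nat) (Ptab_s_6393_6396 c) (Ptab_s_6396_6400 c) (Nat.ble 6396 c)
noncomputable def Ptab_s_6400_6402 (c : Nat) : Nat := @Bool.rec (fun _ => Nat) (Ptab_6400) (Ptab_6401) (Nat.ble 6401 c)
noncomputable def Ptab_s_6402_6404 (c : Nat) : Nat := @Bool.rec (fun _ => Nat) (Ptab_6402) (Ptab_6403) (Nat.ble 6403 c)
noncomputable def Ptab_s_6400_6404 (c : Nat) : Nat := @Bool.rec (fun _ => Nat) (Ptab_s_6400_6402 c) (Ptab_s_6402_6404 c) (Nat.ble 6402 c)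
noncomputable def Ptab_s_6404_6406 (c : Nat) : Nat := @Bool.rec (fun _ => Nat) (Ptab_6404) (Ptab_6405) (Nat.ble 6405 c)
noncomputable def Ptab_s_6406_6408 (c : Nat) : Nat := @Bool.rec (fun _ => Nat) (Ptab_6406) (Ptab_6407) (Nat.ble 6407 c)
noncomputable def Ptab_s_6404_6408 (c : Nat) : Nat := @Bool.rec (fun _ => Nat) (Ptab_s_6404_6406 c) (Ptab_s_6406_6408 c) (Nat.ble 6406 c)
noncomputable def Ptab_s_6400_6408 (c : Nat) : Nat := @Bool.rec (fun _ => Nat) (Ptab_s_6400_6404 c) (Ptab_s_6404_6408 c) (Nat.ble 6404 c)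
noncomputable def Ptab_s_6393_6408 (c : Nat) : Nat := @Bool.rec (fun _ => Nat) (Ptab_s_6393_6400 c) (Ptab_s_6400_6408 c) (Nat.ble 6400 c)
noncomputable def Ptab_s_6408_6410 (c : Nat) : Nat := @Bool.rec (fun _ => Nat) (Ptab_6408) (Ptab_6409) (Nat.ble 6409 c)
noncomputable def Ptab_s_6410_6412 (c : Nat) : Nat := @Bool.rec (fun _ => Nat) (Ptab_6410) (Ptab_6411) (Nat.ble 6411 c)
noncomputable def Ptab_s_6408_6412 (c : Nat) : Nat := @Bool.rec (fun _ => Nat) (Ptab_s_6408_6410 c) (Ptab_s_6410_6412 c) (Nat.ble 6410 c)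
noncomputable def Ptab_s_6412_6414 (c : Nat) : Nat := @Bool.rec (fun _ => Nat) (Ptab_6412) (Ptab_6413) (Nat.ble 6413 c)
noncomputable def Ptab_s_6414_6416 (c : Nat) : Nat := @Bool.rec (fun _ => Nat) (Ptab_6414) (Ptab_6415) (Nat.ble 6415 c)
noncomputable def Ptab_s_6412_6416 (c : Nat) : Nat := @Bool.rec (fun _ => Nat) (Ptab_s_6412_6414 c) (Ptab_s_6414_6416 c) (Nat.ble 6414 c)
noncomputable def Ptab_s_6408_6416 (c : Nat) : Nat := @Bool.rec (fun _ => Nat) (Ptab_s_6408_6412 c) (Ptab_s_6412_6416 c) (Nat.ble 6412 c)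
noncomputable def Ptab_s_6416_6418 (c : Nat) : Nat := @Bool.rec (fun _ => Nat) (Ptab_6416) (Ptab_6417) (Nat.ble 6417 c)
noncomputable def Ptab_s_6418_6420 (c : Nat) : Nat := @Bool.rec (fun _ => Nat) (Ptab_6418) (Ptab_6419) (Nat.ble 6419 c)
noncomputable def Ptab_s_6416_6420 (c : Nat) : Nat := @Bool.rec (fun _ => Nat) (Ptab_s_6416_6418 c) (Ptab_s_6418_6420 c) (Nat.ble 6418 c)
noncomputable def Ptab_s_6420_6422 (c : Nat) : Nat := @Bool.rec (fun _ => Nat) (Ptab_6420) (Ptab_6421) (Nat.ble 6421 c)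
noncomputable def Ptab_s_6422_6424 (c : Nat) : Nat := @Bool.rec (fun _ => Nat) (Ptab_6422) (Ptab_6423) (Nat.ble 6423 c)
noncomputable def Ptab_s_6420_6424 (c : Nat) : Nat := @Bool.rec (fun _ => Nat) (Ptab_s_6420_6422 c) (Ptab_s_6422_6424 c) (Nat.ble 6422 c)
noncomputable def Ptab_s_6416_6424 (c : Nat) : Nat := @Bool.rec (fun _ => Nat) (Ptab_s_6416_6420 c) (Ptab_s_6420_6424 c) (Nat.ble 6420 c)
noncomputable def Ptab_s_6408_6424 (c : Nat) : Nat := @Bool.rec (fun _ => Nat) (Ptab_s_6408_6416 c) (Ptab_s_6416_6424 c) (Nat.ble 6416 c)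
noncomputable def Ptab_s_6393_6424 (c : Nat) : Nat := @Bool.rec (fun _ => Nat) (Ptab_s_6393_6408 c) (Ptab_s_6408_6424 c) (Nat.ble 6408 c)
noncomputable def Ptab_s_6363_6424 (c : Nat) : Nat := @Bool.rec (fun _ => Nat) (Ptab_s_6363_6393 c) (Ptab_s_6393_6424 c) (Nat.ble 6393 c)
noncomputable def Ptab_s_6425_6427 (c : Nat) : Nat := @Bool.rec (fun _ => Nat) (Ptab_6425) (Ptab_6426) (Nat.ble 6426 c)
noncomputable def Ptab_s_6424_6427 (c : Nat) : Nat := @Bool.rec (fun _ => Nat) (Ptab_6424) (Ptab_s_6425_6427 c) (Nat.ble 6425 c)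
noncomputable def Ptab_s_6427_6429 (c : Nat) : Nat := @Bool.rec (fun _ => Nat) (Ptab_6427) (Ptab_6428) (Nat.ble 6428 c)
noncomputable def Ptab_s_6429_6431 (c : Nat) : Nat := @Bool.rec (fun _ => Nat) (Ptab_6429) (Ptab_6430) (Nat.ble 6430 c)
noncomputable def Ptab_s_6427_6431 (c : Nat) : Nat := @Bool.rec (fun _ => Nat) (Ptab_s_6427_6429 c) (Ptab_s_6429_6431 c) (Nat.ble 6429 c)
noncomputable def Ptab_s_6424_6431 (c : Nat) : Nat := @Bool.rec (fun _ => Nat) (Ptab_s_6424_6427 c) (Ptab_s_6427_6431 c) (Nat.ble 6427 c)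
noncomputable def Ptab_s_6431_6433 (c : Nat) : Nat := @Bool.rec (fun _ => Nat) (Ptab_6431) (Ptab_6432) (Nat.ble 6432 c)
noncomputable def Ptab_s_6433_6435 (c : Nat) : Nat := @Bool.rec (fun _ => Nat) (Ptab_6433) (Ptab_6434) (Nat.ble 6434 c)
noncomputable def Ptab_s_6431_6435 (c : Nat) : Nat := @Bool.rec (fun _ => Nat) (Ptab_s_6431_6433 c) (Ptab_s_6433_6435 c) (Nat.ble 6433 c)
noncomputable def Ptab_s_6435_6437 (c : Nat) : Nat := @Bool.rec (fun _ => Nat) (Ptab_6435) (Ptab_6436) (Nat.ble 6436 c)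
noncomputable def Ptab_s_6437_6439 (c : Nat) : Nat := @Bool.rec (fun _ => Nat) (Ptab_6437) (Ptab_6438) (Nat.ble 6438 c)
noncomputable def Ptab_s_6435_6439 (c : Nat) : Nat := @Bool.rec (fun _ => Nat) (Ptab_s_6435_6437 c) (Ptab_s_6437_6439 c) (Nat.ble 6437 c)
noncomputable def Ptab_s_6431_6439 (c : Nat) : Nat := @Bool.rec (fun _ => Nat) (Ptab_s_6431_6435 c) (Ptab_s_6435_6439 c) (Nat.ble 6435 c)
noncomputable def Ptab_s_6424_6439 (c : Nat) : Nat := @Bool.rec (fun _ => Nat) (Ptab_s_6424_6431 c) (Ptab_s_6431_6439 c) (Nat.ble 6431 c)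
noncomputable def Ptab_s_6440_6442 (c : Nat) : Nat := @Bool.rec (fun _ => Nat) (Ptab_6440) (Ptab_6441) (Nat.ble 6441 c)
noncomputable def Ptab_s_6439_6442 (c : Nat) : Nat := @Bool.rec (fun _ => Nat) (Ptab_6439) (Ptab_s_6440_6442 c) (Nat.ble 6440 c)
noncomputable def Ptab_s_6442_6444 (c : Nat) : Nat := @Bool.rec (fun _ => Nat) (Ptab_6442) (Ptab_6443) (Nat.ble 6443 c)
noncomputable def Ptab_s_6444_6446 (c : Nat) : Nat := @Bool.rec (fun _ => Nat) (Ptab_6444) (Ptab_6445) (Nat.ble 6445 c)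
noncomputable def Ptab_s_6442_6446 (c : Nat) : Nat := @Bool.rec (fun _ => Nat) (Ptab_s_6442_6444 c) (Ptab_s_6444_6446 c) (Nat.ble 6444 c)
noncomputable def Ptab_s_6439_6446 (c : Nat) : Nat := @Bool.rec (fun _ => Nat) (Ptab_s_6439_6442 c) (Ptab_s_6442_6446 c) (Nat.ble 6442 c)
noncomputable def Ptab_s_6446_6448 (c : Nat) : Nat := @Bool.rec (fun _ => Nat) (Ptab_6446) (Ptab_6447) (Nat.ble 6447 c)
noncomputable def Ptab_s_6448_6450 (c : Nat) : Nat := @Bool.rec (fun _ => Nat) (Ptab_6448) (Ptab_6449) (Nat.ble 6449 c)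
noncomputable def Ptab_s_6446_6450 (c : Nat) : Nat := @Bool.rec (fun _ => Nat) (Ptab_s_6446_6448 c) (Ptab_s_6448_6450 c) (Nat.ble 6448 c)
noncomputable def Ptab_s_6450_6452 (c : Nat) : Nat := @Bool.rec (fun _ => Nat) (Ptab_6450) (Ptab_6451) (Nat.ble 6451 c)
noncomputable def Ptab_s_6452_6454 (c : Nat) : Nat := @Bool.rec (fun _ => Nat) (Ptab_6452) (Ptab_6453) (Nat.ble 6453 c)
noncomputable def Ptab_s_6450_6454 (c : Nat) : Nat := @Bool.rec (fun _ => Nat) (Ptab_s_6450_6452 c) (Ptab_s_6452_6454 c) (Nat.ble 6452 c)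
noncomputable def Ptab_s_6446_6454 (c : Nat) : Nat := @Bool.rec (fun _ => Nat) (Ptab_s_6446_6450 c) (Ptab_s_6450_6454 c) (Nat.ble 6450 c)
noncomputable def Ptab_s_6439_6454 (c : Nat) : Nat := @Bool.rec (fun _ => Nat) (Ptab_s_6439_6446 c) (Ptab_s_6446_6454 c) (Nat.ble 6446 c)
noncomputable def Ptab_s_6424_6454 (c : Nat) : Nat := @Bool.rec (fun _ => Nat) (Ptab_s_6424_6439 c) (Ptab_s_6439_6454 c) (Nat.ble 6439 c)
noncomputable def Ptab_s_6455_6457 (c : Nat) : Nat := @Bool.rec (fun _ => Nat) (Ptab_6455) (Ptab_6456) (Nat.ble 6456 c)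
noncomputable def Ptab_s_6454_6457 (c : Nat) : Nat := @Bool.rec (fun _ => Nat) (Ptab_6454) (Ptab_s_6455_6457 c) (Nat.ble 6455 c)
noncomputable def Ptab_s_6457_6459 (c : Nat) : Nat := @Bool.rec (fun _ => Nat) (Ptab_6457) (Ptab_6458) (Nat.ble 6458 c)
noncomputable def Ptab_s_6459_6461 (c : Nat) : Nat := @Bool.rec (fun _ => Nat) (Ptab_6459) (Ptab_6460) (Nat.ble 6460 c)
noncomputable def Ptab_s_6457_6461 (c : Nat) : Nat := @Bool.rec (fun _ => Nat) (Ptab_s_6457_6459 c) (Ptab_s_6459_6461 c) (Nat.ble 6459 c)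
noncomputable def Ptab_s_6454_6461 (c : Nat) : Nat := @Bool.rec (fun _ => Nat) (Ptab_s_6454_6457 c) (Ptab_s_6457_6461 c) (Nat.ble 6457 c)
noncomputable def Ptab_s_6461_6463 (c : Nat) : Nat := @Bool.rec (fun _ => Nat) (Ptab_6461) (Ptab_6462) (Nat.ble 6462 c)
noncomputable def Ptab_s_6463_6465 (c : Nat) : Nat := @Bool.rec (fun _ => Nat) (Ptab_6463) (Ptab_6464) (Nat.ble 6464 c)
noncomputable def Ptab_s_6461_6465 (c : Nat) : Nat := @Bool.rec (fun _ => Nat) (Ptab_s_6461_6463 c) (Ptab_s_6463_6465 c) (Nat.ble 6463 c)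
noncomputable def Ptab_s_6465_6467 (c : Nat) : Nat := @Bool.rec (fun _ => Nat) (Ptab_6465) (Ptab_6466) (Nat.ble 6466 c)
noncomputable def Ptab_s_6467_6469 (c : Nat) : Nat := @Bool.rec (fun _ => Nat) (Ptab_6467) (Ptab_6468) (Nat.ble 6468 c)
noncomputable def Ptab_s_6465_6469 (c : Nat) : Nat := @Bool.rec (fun _ => Nat) (Ptab_s_6465_6467 c) (Ptab_s_6467_6469 c) (Nat.ble 6467 c)
noncomputable def Ptab_s_6461_6469 (c : Nat) : Nat := @Bool.rec (fun _ => Nat) (Ptab_s_6461_6465 c) (Ptab_s_6465_6469 c) (Nat.ble 6465 c)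
noncomputable def Ptab_s_6454_6469 (c : Nat) : Nat := @Bool.rec (fun _ => Nat) (Ptab_s_6454_6461 c) (Ptab_s_6461_6469 c) (Nat.ble 6461 c)
noncomputable def Ptab_s_6469_6471 (c : Nat) : Nat := @Bool.rec (fun _ => Nat) (Ptab_6469) (Ptab_6470) (Nat.ble 6470 c)
noncomputable def Ptab_s_6471_6473 (c : Nat) : Nat := @Bool.rec (fun _ => Nat) (Ptab_6471) (Ptab_6472) (Nat.ble 6472 c)
noncomputable def Ptab_s_6469_6473 (c : Nat) : Nat := @Bool.rec (fun _ => Nat) (Ptab_s_6469_6471 c) (Ptab_s_6471_6473 c) (Nat.ble 6471 c)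
noncomputable def Ptab_s_6473_6475 (c : Nat) : Nat := @Bool.rec (fun _ => Nat) (Ptab_6473) (Ptab_6474) (Nat.ble 6474 c)
noncomputable def Ptab_s_6475_6477 (c : Nat) : Nat := @Bool.rec (fun _ => Nat) (Ptab_6475) (Ptab_6476) (Nat.ble 6476 c)
noncomputable def Ptab_s_6473_6477 (c : Nat) : Nat := @Bool.rec (fun _ => Nat) (Ptab_s_6473_6475 c) (Ptab_s_6475_6477 c) (Nat.ble 6475 c)
noncomputable def Ptab_s_6469_6477 (c : Nat) : Nat := @Bool.rec (fun _ => Nat) (Ptab_s_6469_6473 c) (Ptab_s_6473_6477 c) (Nat.ble 6473 c)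
noncomputable def Ptab_s_6477_6479 (c : Nat) : Nat := @Bool.rec (fun _ => Nat) (Ptab_6477) (Ptab_6478) (Nat.ble 6478 c)
noncomputable def Ptab_s_6479_6481 (c : Nat) : Nat := @Bool.rec (fun _ => Nat) (Ptab_6479) (Ptab_6480) (Nat.ble 6480 c)
noncomputable def Ptab_s_6477_6481 (c : Nat) : Nat := @Bool.rec (fun _ => Nat) (Ptab_s_6477_6479 c) (Ptab_s_6479_6481 c) (Nat.ble 6479 c)
noncomputable def Ptab_s_6481_6483 (c : Nat) : Nat := @Bool.rec (fun _ => Nat) (Ptab_6481) (Ptab_6482) (Nat.ble 6482 c)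
noncomputable def Ptab_s_6483_6485 (c : Nat) : Nat := @Bool.rec (fun _ => Nat) (Ptab_6483) (Ptab_6484) (Nat.ble 6484 c)
noncomputable def Ptab_s_6481_6485 (c : Nat) : Nat := @Bool.rec (fun _ => Nat) (Ptab_s_6481_6483 c) (Ptab_s_6483_6485 c) (Nat.ble 6483 c)
noncomputable def Ptab_s_6477_6485 (c : Nat) : Nat := @Bool.rec (fun _ => Nat) (Ptab_s_6477_6481 c) (Ptab_s_6481_6485 c) (Nat.ble 6481 c)
noncomputable def Ptab_s_6469_6485 (c : Nat) : Nat := @Bool.rec (fun _ => Nat) (Ptab_s_6469_6477 c) (Ptab_s_6477_6485 c) (Nat.ble 6477 c)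
noncomputable def Ptab_s_6454_6485 (c : Nat) : Nat := @Bool.rec (fun _ => Nat) (Ptab_s_6454_6469 c) (Ptab_s_6469_6485 c) (Nat.ble 6469 c)
noncomputable def Ptab_s_6424_6485 (c : Nat) : Nat := @Bool.rec (fun _ => Nat) (Ptab_s_6424_6454 c) (Ptab_s_6454_6485 c) (Nat.ble 6454 c)
noncomputable def Ptab_s_6363_6485 (c : Nat) : Nat := @Bool.rec (fun _ => Nat) (Ptab_s_6363_6424 c) (Ptab_s_6424_6485 c) (Nat.ble 6424 c)
noncomputable def Ptab_s_6486_6488 (c : Nat) : Nat := @Bool.rec (fun _ => Nat) (Ptab_6486) (Ptab_6487) (Nat.ble 6487 c)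
noncomputable def Ptab_s_6485_6488 (c : Nat) : Nat := @Bool.rec (fun _ => Nat) (Ptab_6485) (Ptab_s_6486_6488 c) (Nat.ble 6486 c)
noncomputable def Ptab_s_6488_6490 (c : Nat) : Nat := @Bool.rec (fun _ => Nat) (Ptab_6488) (Ptab_6489) (Nat.ble 6489 c)
noncomputable def Ptab_s_6490_6492 (c : Nat) : Nat := @Bool.rec (fun _ => Nat) (Ptab_6490) (Ptab_6491) (Nat.ble 6491 c)
noncomputable def Ptab_s_6488_6492 (c : Nat) : Nat := @Bool.rec (fun _ => Nat) (Ptab_s_6488_6490 c) (Ptab_s_6490_6492 c) (Nat.ble 6490 c)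
noncomputable def Ptab_s_6485_6492 (c : Nat) : Nat := @Bool.rec (fun _ => Nat) (Ptab_s_6485_6488 c) (Ptab_s_6488_6492 c) (Nat.ble 6488 c)
noncomputable def Ptab_s_6492_6494 (c : Nat) : Nat := @Bool.rec (fun _ => Nat) (Ptab_6492) (Ptab_6493) (Nat.ble 6493 c)
noncomputable def Ptab_s_6494_6496 (c : Nat) : Nat := @Bool.rec (fun _ => Nat) (Ptab_6494) (Ptab_6495) (Nat.ble 6495 c)
noncomputable def Ptab_s_6492_6496 (c : Nat) : Nat := @Bool.rec (fun _ => Nat) (Ptab_s_6492_6494 c) (Ptab_s_6494_6496 c) (Nat.ble 6494 c)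
noncomputable def Ptab_s_6496_6498 (c : Nat) : Nat := @Bool.rec (fun _ => Nat) (Ptab_6496) (Ptab_6497) (Nat.ble 6497 c)
noncomputable def Ptab_s_6498_6500 (c : Nat) : Nat := @Bool.rec (fun _ => Nat) (Ptab_6498) (Ptab_6499) (Nat.ble 6499 c)
noncomputable def Ptab_s_6496_6500 (c : Nat) : Nat := @Bool.rec (fun _ => Nat) (Ptab_s_6496_6498 c) (Ptab_s_6498_6500 c) (Nat.ble 6498 c)
noncomputable def Ptab_s_6492_6500 (c : Nat) : Nat := @Bool.rec (fun _ => Nat) (Ptab_s_6492_6496 c) (Ptab_s_6496_6500 c) (Nat.ble 6496 c)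
noncomputable def Ptab_s_6485_6500 (c : Nat) : Nat := @Bool.rec (fun _ => Nat) (Ptab_s_6485_6492 c) (Ptab_s_6492_6500 c) (Nat.ble 6492 c)
noncomputable def Ptab_s_6501_6503 (c : Nat) : Nat := @Bool.rec (fun _ => Nat) (Ptab_6501) (Ptab_6502) (Nat.ble 6502 c)
noncomputable def Ptab_s_6500_6503 (c : Nat) : Nat := @Bool.rec (fun _ => Nat) (Ptab_6500) (Ptab_s_6501_6503 c) (Nat.ble 6501 c)
noncomputable def Ptab_s_6503_6505 (c : Nat) : Nat := @Bool.rec (fun _ => Nat) (Ptab_6503) (Ptab_6504) (Nat.ble 6504 c)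
noncomputable def Ptab_s_6505_6507 (c : Nat) : Nat := @Bool.rec (fun _ => Nat) (Ptab_6505) (Ptab_6506) (Nat.ble 6506 c)
noncomputable def Ptab_s_6503_6507 (c : Nat) : Nat := @Bool.rec (fun _ => Nat) (Ptab_s_6503_6505 c) (Ptab_s_6505_6507 c) (Nat.ble 6505 c)
noncomputable def Ptab_s_6500_6507 (c : Nat) : Nat := @Bool.rec (fun _ => Nat) (Ptab_s_6500_6503 c) (Ptab_s_6503_6507 c) (Nat.ble 6503 c)
noncomputable def Ptab_s_6507_6509 (c : Nat) : Nat := @Bool.rec (fun _ => Nat) (Ptab_6507) (Ptab_6508) (Nat.ble 6508 c)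
noncomputable def Ptab_s_6509_6511 (c : Nat) : Nat := @Bool.rec (fun _ => Nat) (Ptab_6509) (Ptab_6510) (Nat.ble 6510 c)
noncomputable def Ptab_s_6507_6511 (c : Nat) : Nat := @Bool.rec (fun _ => Nat) (Ptab_s_6507_6509 c) (Ptab_s_6509_6511 c) (Nat.ble 6509 c)
noncomputable def Ptab_s_6511_6513 (c : Nat) : Nat := @Bool.rec (fun _ => Nat) (Ptab_6511) (Ptab_6512) (Nat.ble 6512 c)
noncomputable def Ptab_s_6513_6515 (c : Nat) : Nat := @Bool.rec (fun _ => Nat) (Ptab_6513) (Ptab_6514) (Nat.ble 6514 c)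
noncomputable def Ptab_s_6511_6515 (c : Nat) : Nat := @Bool.rec (fun _ => Nat) (Ptab_s_6511_6513 c) (Ptab_s_6513_6515 c) (Nat.ble 6513 c)
noncomputable def Ptab_s_6507_6515 (c : Nat) : Nat := @Bool.rec (fun _ => Nat) (Ptab_s_6507_6511 c) (Ptab_s_6511_6515 c) (Nat.ble 6511 c)
noncomputable def Ptab_s_6500_6515 (c : Nat) : Nat := @Bool.rec (fun _ => Nat) (Ptab_s_6500_6507 c) (Ptab_s_6507_6515 c) (Nat.ble 6507 c)
noncomputable def Ptab_s_6485_6515 (c : Nat) : Nat := @Bool.rec (fun _ => Nat) (Ptab_s_6485_6500 c) (Ptab_s_6500_6515 c) (Nat.ble 6500 c)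
noncomputable def Ptab_s_6516_6518 (c : Nat) : Nat := @Bool.rec (fun _ => Nat) (Ptab_6516) (Ptab_6517) (Nat.ble 6517 c)
noncomputable def Ptab_s_6515_6518 (c : Nat) : Nat := @Bool.rec (fun _ => Nat) (Ptab_6515) (Ptab_s_6516_6518 c) (Nat.ble 6516 c)
noncomputable def Ptab_s_6518_6520 (c : Nat) : Nat := @Bool.rec (fun _ => Nat) (Ptab_6518) (Ptab_6519) (Nat.ble 6519 c)
noncomputable def Ptab_s_6520_6522 (c : Nat) : Nat := @Bool.rec (fun _ => Nat) (Ptab_6520) (Ptab_6521) (Nat.ble 6521 c)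
noncomputable def Ptab_s_6518_6522 (c : Nat) : Nat := @Bool.rec (fun _ => Nat) (Ptab_s_6518_6520 c) (Ptab_s_6520_6522 c) (Nat.ble 6520 c)
noncomputable def Ptab_s_6515_6522 (c : Nat) : Nat := @Bool.rec (fun _ => Nat) (Ptab_s_6515_6518 c) (Ptab_s_6518_6522 c) (Nat.ble 6518 c)
noncomputable def Ptab_s_6522_6524 (c : Nat) : Nat := @Bool.rec (fun _ => Nat) (Ptab_6522) (Ptab_6523) (Nat.ble 6523 c)
noncomputable def Ptab_s_6524_6526 (c : Nat) : Nat := @Bool.rec (fun _ => Nat) (Ptab_6524) (Ptab_6525) (Nat.ble 6525 c)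
noncomputable def Ptab_s_6522_6526 (c : Nat) : Nat := @Bool.rec (fun _ => Nat) (Ptab_s_6522_6524 c) (Ptab_s_6524_6526 c) (Nat.ble 6524 c)
noncomputable def Ptab_s_6526_6528 (c : Nat) : Nat := @Bool.rec (fun _ => Nat) (Ptab_6526) (Ptab_6527) (Nat.ble 6527 c)
noncomputable def Ptab_s_6528_6530 (c : Nat) : Nat := @Bool.rec (fun _ => Nat) (Ptab_6528) (Ptab_6529) (Nat.ble 6529 c)
noncomputable def Ptab_s_6526_6530 (c : Nat) : Nat := @Bool.rec (fun _ => Nat) (Ptab_s_6526_6528 c) (Ptab_s_6528_6530 c) (Nat.ble 6528 c)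
noncomputable def Ptab_s_6522_6530 (c : Nat) : Nat := @Bool.rec (fun _ => Nat) (Ptab_s_6522_6526 c) (Ptab_s_6526_6530 c) (Nat.ble 6526 c)
noncomputable def Ptab_s_6515_6530 (c : Nat) : Nat := @Bool.rec (fun _ => Nat) (Ptab_s_6515_6522 c) (Ptab_s_6522_6530 c) (Nat.ble 6522 c)
noncomputable def Ptab_s_6530_6532 (c : Nat) : Nat := @Bool.rec (fun _ => Nat) (Ptab_6530) (Ptab_6531) (Nat.ble 6531 c)
noncomputable def Ptab_s_6532_6534 (c : Nat) : Nat := @Bool.rec (fun _ => Nat) (Ptab_6532) (Ptab_6533) (Nat.ble 6533 c)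
noncomputable def Ptab_s_6530_6534 (c : Nat) : Nat := @Bool.rec (fun _ => Nat) (Ptab_s_6530_6532 c) (Ptab_s_6532_6534 c) (Nat.ble 6532 c)
noncomputable def Ptab_s_6534_6536 (c : Nat) : Nat := @Bool.rec (fun _ => Nat) (Ptab_6534) (Ptab_6535) (Nat.ble 6535 c)
noncomputable def Ptab_s_6536_6538 (c : Nat) : Nat := @Bool.rec (fun _ => Nat) (Ptab_6536) (Ptab_6537) (Nat.ble 6537 c)
noncomputable def Ptab_s_6534_6538 (c : Nat) : Nat := @Bool.rec (fun _ => Nat) (Ptab_s_6534_6536 c) (Ptab_s_6536_6538 c) (Nat.ble 6536 c)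
noncomputable def Ptab_s_6530_6538 (c : Nat) : Nat := @Bool.rec (fun _ => Nat) (Ptab_s_6530_6534 c) (Ptab_s_6534_6538 c) (Nat.ble 6534 c)
noncomputable def Ptab_s_6538_6540 (c : Nat) : Nat := @Bool.rec (fun _ => Nat) (Ptab_6538) (Ptab_6539) (Nat.ble 6539 c)
noncomputable def Ptab_s_6540_6542 (c : Nat) : Nat := @Bool.rec (fun _ => Nat) (Ptab_6540) (Ptab_6541) (Nat.ble 6541 c)
noncomputable def Ptab_s_6538_6542 (c : Nat) : Nat := @Bool.rec (fun _ => Nat) (Ptab_s_6538_6540 c) (Ptab_s_6540_6542 c) (Nat.ble 6540 c)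
noncomputable def Ptab_s_6542_6544 (c : Nat) : Nat := @Bool.rec (fun _ => Nat) (Ptab_6542) (Ptab_6543) (Nat.ble 6543 c)
noncomputable def Ptab_s_6544_6546 (c : Nat) : Nat := @Bool.rec (fun _ => Nat) (Ptab_6544) (Ptab_6545) (Nat.ble 6545 c)
noncomputable def Ptab_s_6542_6546 (c : Nat) : Nat := @Bool.rec (fun _ => Nat) (Ptab_s_6542_6544 c) (Ptab_s_6544_6546 c) (Nat.ble 6544 c)
noncomputable def Ptab_s_6538_6546 (c : Nat) : Nat := @Bool.rec (fun _ => Nat) (Ptab_s_6538_6542 c) (Ptab_s_6542_6546 c) (Nat.ble 6542 c)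
noncomputable def Ptab_s_6530_6546 (c : Nat) : Nat := @Bool.rec (fun _ => Nat) (Ptab_s_6530_6538 c) (Ptab_s_6538_6546 c) (Nat.ble 6538 c)
noncomputable def Ptab_s_6515_6546 (c : Nat) : Nat := @Bool.rec (fun _ => Nat) (Ptab_s_6515_6530 c) (Ptab_s_6530_6546 c) (Nat.ble 6530 c)
noncomputable def Ptab_s_6485_6546 (c : Nat) : Nat := @Bool.rec (fun _ => Nat) (Ptab_s_6485_6515 c) (Ptab_s_6515_6546 c) (Nat.ble 6515 c)
noncomputable def Ptab_s_6547_6549 (c : Nat) : Nat := @Bool.rec (fun _ => Nat) (Ptab_6547) (Ptab_6548) (Nat.ble 6548 c)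
noncomputable def Ptab_s_6546_6549 (c : Nat) : Nat := @Bool.rec (fun _ => Nat) (Ptab_6546) (Ptab_s_6547_6549 c) (Nat.ble 6547 c)
noncomputable def Ptab_s_6549_6551 (c : Nat) : Nat := @Bool.rec (fun _ => Nat) (Ptab_6549) (Ptab_6550) (Nat.ble 6550 c)
noncomputable def Ptab_s_6551_6553 (c : Nat) : Nat := @Bool.rec (fun _ => Nat) (Ptab_6551) (Ptab_6552) (Nat.ble 6552 c)
noncomputable def Ptab_s_6549_6553 (c : Nat) : Nat := @Bool.rec (fun _ => Nat) (Ptab_s_6549_6551 c) (Ptab_s_6551_6553 c) (Nat.ble 6551 c)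
noncomputable def Ptab_s_6546_6553 (c : Nat) : Nat := @Bool.rec (fun _ => Nat) (Ptab_s_6546_6549 c) (Ptab_s_6549_6553 c) (Nat.ble 6549 c)
noncomputable def Ptab_s_6553_6555 (c : Nat) : Nat := @Bool.rec (fun _ => Nat) (Ptab_6553) (Ptab_6554) (Nat.ble 6554 c)
noncomputable def Ptab_s_6555_6557 (c : Nat) : Nat := @Bool.rec (fun _ => Nat) (Ptab_6555) (Ptab_6556) (Nat.ble 6556 c)
noncomputable def Ptab_s_6553_6557 (c : Nat) : Nat := @Bool.rec (fun _ => Nat) (Ptab_s_6553_6555 c) (Ptab_s_6555_6557 c) (Nat.ble 6555 c)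
noncomputable def Ptab_s_6557_6559 (c : Nat) : Nat := @Bool.rec (fun _ => Nat) (Ptab_6557) (Ptab_6558) (Nat.ble 6558 c)
noncomputable def Ptab_s_6559_6561 (c : Nat) : Nat := @Bool.rec (fun _ => Nat) (Ptab_6559) (Ptab_6560) (Nat.ble 6560 c)
noncomputable def Ptab_s_6557_6561 (c : Nat) : Nat := @Bool.rec (fun _ => Nat) (Ptab_s_6557_6559 c) (Ptab_s_6559_6561 c) (Nat.ble 6559 c)
noncomputable def Ptab_s_6553_6561 (c : Nat) : Nat := @Bool.rec (fun _ => Nat) (Ptab_s_6553_6557 c) (Ptab_s_6557_6561 c) (Nat.ble 6557 c)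
noncomputable def Ptab_s_6546_6561 (c : Nat) : Nat := @Bool.rec (fun _ => Nat) (Ptab_s_6546_6553 c) (Ptab_s_6553_6561 c) (Nat.ble 6553 c)
noncomputable def Ptab_s_6561_6563 (c : Nat) : Nat := @Bool.rec (fun _ => Nat) (Ptab_6561) (Ptab_6562) (Nat.ble 6562 c)
noncomputable def Ptab_s_6563_6565 (c : Nat) : Nat := @Bool.rec (fun _ => Nat) (Ptab_6563) (Ptab_6564) (Nat.ble 6564 c)
noncomputable def Ptab_s_6561_6565 (c : Nat) : Nat := @Bool.rec (fun _ => Nat) (Ptab_s_6561_6563 c) (Ptab_s_6563_6565 c) (Nat.ble 6563 c)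
noncomputable def Ptab_s_6565_6567 (c : Nat) : Nat := @Bool.rec (fun _ => Nat) (Ptab_6565) (Ptab_6566) (Nat.ble 6566 c)
noncomputable def Ptab_s_6567_6569 (c : Nat) : Nat := @Bool.rec (fun _ => Nat) (Ptab_6567) (Ptab_6568) (Nat.ble 6568 c)
noncomputable def Ptab_s_6565_6569 (c : Nat) : Nat := @Bool.rec (fun _ => Nat) (Ptab_s_6565_6567 c) (Ptab_s_6567_6569 c) (Nat.ble 6567 c)
noncomputable def Ptab_s_6561_6569 (c : Nat) : Nat := @Bool.rec (fun _ => Nat) (Ptab_s_6561_6565 c) (Ptab_s_6565_6569 c) (Nat.ble 6565 c)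
noncomputable def Ptab_s_6569_6571 (c : Nat) : Nat := @Bool.rec (fun _ => Nat) (Ptab_6569) (Ptab_6570) (Nat.ble 6570 c)
noncomputable def Ptab_s_6571_6573 (c : Nat) : Nat := @Bool.rec (fun _ => Nat) (Ptab_6571) (Ptab_6572) (Nat.ble 6572 c)
noncomputable def Ptab_s_6569_6573 (c : Nat) : Nat := @Bool.rec (fun _ => Nat) (Ptab_s_6569_6571 c) (Ptab_s_6571_6573 c) (Nat.ble 6571 c)
noncomputable def Ptab_s_6573_6575 (c : Nat) : Nat := @Bool.rec (fun _ => Nat) (Ptab_6573) (Ptab_6574) (Nat.ble 6574 c)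
noncomputable def Ptab_s_6575_6577 (c : Nat) : Nat := @Bool.rec (fun _ => Nat) (Ptab_6575) (Ptab_6576) (Nat.ble 6576 c)
noncomputable def Ptab_s_6573_6577 (c : Nat) : Nat := @Bool.rec (fun _ => Nat) (Ptab_s_6573_6575 c) (Ptab_s_6575_6577 c) (Nat.ble 6575 c)
noncomputable def Ptab_s_6569_6577 (c : Nat) : Nat := @Bool.rec (fun _ => Nat) (Ptab_s_6569_6573 c) (Ptab_s_6573_6577 c) (Nat.ble 6573 c)
noncomputable def Ptab_s_6561_6577 (c : Nat) : Nat := @Bool.rec (fun _ => Nat) (Ptab_s_6561_6569 c) (Ptab_s_6569_6577 c) (Nat.ble 6569 c)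
noncomputable def Ptab_s_6546_6577 (c : Nat) : Nat := @Bool.rec (fun _ => Nat) (Ptab_s_6546_6561 c) (Ptab_s_6561_6577 c) (Nat.ble 6561 c)
noncomputable def Ptab_s_6578_6580 (c : Nat) : Nat := @Bool.rec (fun _ => Nat) (Ptab_6578) (Ptab_6579) (Nat.ble 6579 c)
noncomputable def Ptab_s_6577_6580 (c : Nat) : Nat := @Bool.rec (fun _ => Nat) (Ptab_6577) (Ptab_s_6578_6580 c) (Nat.ble 6578 c)
noncomputable def Ptab_s_6580_6582 (c : Nat) : Nat := @Bool.rec (fun _ => Nat) (Ptab_6580) (Ptab_6581) (Nat.ble 6581 c)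
noncomputable def Ptab_s_6582_6584 (c : Nat) : Nat := @Bool.rec (fun _ => Nat) (Ptab_6582) (Ptab_6583) (Nat.ble 6583 c)
noncomputable def Ptab_s_6580_6584 (c : Nat) : Nat := @Bool.rec (fun _ => Nat) (Ptab_s_6580_6582 c) (Ptab_s_6582_6584 c) (Nat.ble 6582 c)
noncomputable def Ptab_s_6577_6584 (c : Nat) : Nat := @Bool.rec (fun _ => Nat) (Ptab_s_6577_6580 c) (Ptab_s_6580_6584 c) (Nat.ble 6580 c)
noncomputable def Ptab_s_6584_6586 (c : Nat) : Nat := @Bool.rec (fun _ => Nat) (Ptab_6584) (Ptab_6585) (Nat.ble 6585 c)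
noncomputable def Ptab_s_6586_6588 (c : Nat) : Nat := @Bool.rec (fun _ => Nat) (Ptab_6586) (Ptab_6587) (Nat.ble 6587 c)
noncomputable def Ptab_s_6584_6588 (c : Nat) : Nat := @Bool.rec (fun _ => Nat) (Ptab_s_6584_6586 c) (Ptab_s_6586_6588 c) (Nat.ble 6586 c)
noncomputable def Ptab_s_6588_6590 (c : Nat) : Nat := @Bool.rec (fun _ => Nat) (Ptab_6588) (Ptab_6589) (Nat.ble 6589 c)
noncomputable def Ptab_s_6590_6592 (c : Nat) : Nat := @Bool.rec (fun _ => Nat) (Ptab_6590) (Ptab_6591) (Nat.ble 6591 c)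
noncomputable def Ptab_s_6588_6592 (c : Nat) : Nat := @Bool.rec (fun _ => Nat) (Ptab_s_6588_6590 c) (Ptab_s_6590_6592 c) (Nat.ble 6590 c)
noncomputable def Ptab_s_6584_6592 (c : Nat) : Nat := @Bool.rec (fun _ => Nat) (Ptab_s_6584_6588 c) (Ptab_s_6588_6592 c) (Nat.ble 6588 c)
noncomputable def Ptab_s_6577_6592 (c : Nat) : Nat := @Bool.rec (fun _ => Nat) (Ptab_s_6577_6584 c) (Ptab_s_6584_6592 c) (Nat.ble 6584 c)
noncomputable def Ptab_s_6592_6594 (c : Nat) : Nat := @Bool.rec (fun _ => Nat) (Ptab_6592) (Ptab_6593) (Nat.ble 6593 c)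
noncomputable def Ptab_s_6594_6596 (c : Nat) : Nat := @Bool.rec (fun _ => Nat) (Ptab_6594) (Ptab_6595) (Nat.ble 6595 c)
noncomputable def Ptab_s_6592_6596 (c : Nat) : Nat := @Bool.rec (fun _ => Nat) (Ptab_s_6592_6594 c) (Ptab_s_6594_6596 c) (Nat.ble 6594 c)
noncomputable def Ptab_s_6596_6598 (c : Nat) : Nat := @Bool.rec (fun _ => Nat) (Ptab_6596) (Ptab_6597) (Nat.ble 6597 c)
noncomputable def Ptab_s_6598_6600 (c : Nat) : Nat := @Bool.rec (fun _ => Nat) (Ptab_6598) (Ptab_6599) (Nat.ble 6599 c)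
noncomputable def Ptab_s_6596_6600 (c : Nat) : Nat := @Bool.rec (fun _ => Nat) (Ptab_s_6596_6598 c) (Ptab_s_6598_6600 c) (Nat.ble 6598 c)
noncomputable def Ptab_s_6592_6600 (c : Nat) : Nat := @Bool.rec (fun _ => Nat) (Ptab_s_6592_6596 c) (Ptab_s_6596_6600 c) (Nat.ble 6596 c)
noncomputable def Ptab_s_6600_6602 (c : Nat) : Nat := @Bool.rec (fun _ => Nat) (Ptab_6600) (Ptab_6601) (Nat.ble 6601 c)
noncomputable def Ptab_s_6602_6604 (c : Nat) : Nat := @Bool.rec (fun _ => Nat) (Ptab_6602) (Ptab_6603) (Nat.ble 6603 c)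
noncomputable def Ptab_s_6600_6604 (c : Nat) : Nat := @Bool.rec (fun _ => Nat) (Ptab_s_6600_6602 c) (Ptab_s_6602_6604 c) (Nat.ble 6602 c)
noncomputable def Ptab_s_6604_6606 (c : Nat) : Nat := @Bool.rec (fun _ => Nat) (Ptab_6604) (Ptab_6605) (Nat.ble 6605 c)
noncomputable def Ptab_s_6606_6608 (c : Nat) : Nat := @Bool.rec (fun _ => Nat) (Ptab_6606) (Ptab_6607) (Nat.ble 6607 c)
noncomputable def Ptab_s_6604_6608 (c : Nat) : Nat := @Bool.rec (fun _ => Nat) (Ptab_s_6604_6606 c) (Ptab_s_6606_6608 c) (Nat.ble 6606 c)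
noncomputable def Ptab_s_6600_6608 (c : Nat) : Nat := @Bool.rec (fun _ => Nat) (Ptab_s_6600_6604 c) (Ptab_s_6604_6608 c) (Nat.ble 6604 c)
noncomputable def Ptab_s_6592_6608 (c : Nat) : Nat := @Bool.rec (fun _ => Nat) (Ptab_s_6592_6600 c) (Ptab_s_6600_6608 c) (Nat.ble 6600 c)
noncomputable def Ptab_s_6577_6608 (c : Nat) : Nat := @Bool.rec (fun _ => Nat) (Ptab_s_6577_6592 c) (Ptab_s_6592_6608 c) (Nat.ble 6592 c)
noncomputable def Ptab_s_6546_6608 (c : Nat) : Nat := @Bool.rec (fun _ => Nat) (Ptab_s_6546_6577 c) (Ptab_s_6577_6608 c) (Nat.ble 6577 c)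
noncomputable def Ptab_s_6485_6608 (c : Nat) : Nat := @Bool.rec (fun _ => Nat) (Ptab_s_6485_6546 c) (Ptab_s_6546_6608 c) (Nat.ble 6546 c)
noncomputable def Ptab_s_6363_6608 (c : Nat) : Nat := @Bool.rec (fun _ => Nat) (Ptab_s_6363_6485 c) (Ptab_s_6485_6608 c) (Nat.ble 6485 c)
noncomputable def Ptab_s_6609_6611 (c : Nat) : Nat := @Bool.rec (fun _ => Nat) (Ptab_6609) (Ptab_6610) (Nat.ble 6610 c)
noncomputable def Ptab_s_6608_6611 (c : Nat) : Nat := @Bool.rec (fun _ => Nat) (Ptab_6608) (Ptab_s_6609_6611 c) (Nat.ble 6609 c)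
noncomputable def Ptab_s_6611_6613 (c : Nat) : Nat := @Bool.rec (fun _ => Nat) (Ptab_6611) (Ptab_6612) (Nat.ble 6612 c)
noncomputable def Ptab_s_6613_6615 (c : Nat) : Nat := @Bool.rec (fun _ => Nat) (Ptab_6613) (Ptab_6614) (Nat.ble 6614 c)
noncomputable def Ptab_s_6611_6615 (c : Nat) : Nat := @Bool.rec (fun _ => Nat) (Ptab_s_6611_6613 c) (Ptab_s_6613_6615 c) (Nat.ble 6613 c)
noncomputable def Ptab_s_6608_6615 (c : Nat) : Nat := @Bool.rec (fun _ => Nat) (Ptab_s_6608_6611 c) (Ptab_s_6611_6615 c) (Nat.ble 6611 c)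
noncomputable def Ptab_s_6615_6617 (c : Nat) : Nat := @Bool.rec (fun _ => Nat) (Ptab_6615) (Ptab_6616) (Nat.ble 6616 c)
noncomputable def Ptab_s_6617_6619 (c : Nat) : Nat := @Bool.rec (fun _ => Nat) (Ptab_6617) (Ptab_6618) (Nat.ble 6618 c)
noncomputable def Ptab_s_6615_6619 (c : Nat) : Nat := @Bool.rec (fun _ => Nat) (Ptab_s_6615_6617 c) (Ptab_s_6617_6619 c) (Nat.ble 6617 c)
noncomputable def Ptab_s_6619_6621 (c : Nat) : Nat := @Bool.rec (fun _ => Nat) (Ptab_6619) (Ptab_6620) (Nat.ble 6620 c)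
noncomputable def Ptab_s_6621_6623 (c : Nat) : Nat := @Bool.rec (fun _ => Nat) (Ptab_6621) (Ptab_6622) (Nat.ble 6622 c)
noncomputable def Ptab_s_6619_6623 (c : Nat) : Nat := @Bool.rec (fun _ => Nat) (Ptab_s_6619_6621 c) (Ptab_s_6621_6623 c) (Nat.ble 6621 c)
noncomputable def Ptab_s_6615_6623 (c : Nat) : Nat := @Bool.rec (fun _ => Nat) (Ptab_s_6615_6619 c) (Ptab_s_6619_6623 c) (Nat.ble 6619 c)
noncomputable def Ptab_s_6608_6623 (c : Nat) : Nat := @Bool.rec (fun _ => Nat) (Ptab_s_6608_6615 c) (Ptab_s_6615_6623 c) (Nat.ble 6615 c)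
noncomputable def Ptab_s_6624_6626 (c : Nat) : Nat := @Bool.rec (fun _ => Nat) (Ptab_6624) (Ptab_6625) (Nat.ble 6625 c)
noncomputable def Ptab_s_6623_6626 (c : Nat) : Nat := @Bool.rec (fun _ => Nat) (Ptab_6623) (Ptab_s_6624_6626 c) (Nat.ble 6624 c)
noncomputable def Ptab_s_6626_6628 (c : Nat) : Nat := @Bool.rec (fun _ => Nat) (Ptab_6626) (Ptab_6627) (Nat.ble 6627 c)
noncomputable def Ptab_s_6628_6630 (c : Nat) : Nat := @Bool.rec (fun _ => Nat) (Ptab_6628) (Ptab_6629) (Nat.ble 6629 c)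
noncomputable def Ptab_s_6626_6630 (c : Nat) : Nat := @Bool.rec (fun _ => Nat) (Ptab_s_6626_6628 c) (Ptab_s_6628_6630 c) (Nat.ble 6628 c)
noncomputable def Ptab_s_6623_6630 (c : Nat) : Nat := @Bool.rec (fun _ => Nat) (Ptab_s_6623_6626 c) (Ptab_s_6626_6630 c) (Nat.ble 6626 c)
noncomputable def Ptab_s_6630_6632 (c : Nat) : Nat := @Bool.rec (fun _ => Nat) (Ptab_6630) (Ptab_6631) (Nat.ble 6631 c)
noncomputable def Ptab_s_6632_6634 (c : Nat) : Nat := @Bool.rec (fun _ => Nat) (Ptab_6632) (Ptab_6633) (Nat.ble 6633 c)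
noncomputable def Ptab_s_6630_6634 (c : Nat) : Nat := @Bool.rec (fun _ => Nat) (Ptab_s_6630_6632 c) (Ptab_s_6632_6634 c) (Nat.ble 6632 c)
noncomputable def Ptab_s_6634_6636 (c : Nat) : Nat := @Bool.rec (fun _ => Nat) (Ptab_6634) (Ptab_6635) (Nat.ble 6635 c)
noncomputable def Ptab_s_6636_6638 (c : Nat) : Nat := @Bool.rec (fun _ => Nat) (Ptab_6636) (Ptab_6637) (Nat.ble 6637 c)
noncomputable def Ptab_s_6634_6638 (c : Nat) : Nat := @Bool.rec (fun _ => Nat) (Ptab_s_6634_6636 c) (Ptab_s_6636_6638 c) (Nat.ble 6636 c)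
noncomputable def Ptab_s_6630_6638 (c : Nat) : Nat := @Bool.rec (fun _ => Nat) (Ptab_s_6630_6634 c) (Ptab_s_6634_6638 c) (Nat.ble 6634 c)
noncomputable def Ptab_s_6623_6638 (c : Nat) : Nat := @Bool.rec (fun _ => Nat) (Ptab_s_6623_6630 c) (Ptab_s_6630_6638 c) (Nat.ble 6630 c)
noncomputable def Ptab_s_6608_6638 (c : Nat) : Nat := @Bool.rec (fun _ => Nat) (Ptab_s_6608_6623 c) (Ptab_s_6623_6638 c) (Nat.ble 6623 c)
noncomputable def Ptab_s_6639_6641 (c : Nat) : Nat := @Bool.rec (fun _ => Nat) (Ptab_6639) (Ptab_6640) (Nat.ble 6640 c)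
noncomputable def Ptab_s_6638_6641 (c : Nat) : Nat := @Bool.rec (fun _ => Nat) (Ptab_6638) (Ptab_s_6639_6641 c) (Nat.ble 6639 c)
noncomputable def Ptab_s_6641_6643 (c : Nat) : Nat := @Bool.rec (fun _ => Nat) (Ptab_6641) (Ptab_6642) (Nat.ble 6642 c)
noncomputable def Ptab_s_6643_6645 (c : Nat) : Nat := @Bool.rec (fun _ => Nat) (Ptab_6643) (Ptab_6644) (Nat.ble 6644 c)
noncomputable def Ptab_s_6641_6645 (c : Nat) : Nat := @Bool.rec (fun _ => Nat) (Ptab_s_6641_6643 c) (Ptab_s_6643_6645 c) (Nat.ble 6643 c)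
noncomputable def Ptab_s_6638_6645 (c : Nat) : Nat := @Bool.rec (fun _ => Nat) (Ptab_s_6638_6641 c) (Ptab_s_6641_6645 c) (Nat.ble 6641 c)
noncomputable def Ptab_s_6645_6647 (c : Nat) : Nat := @Bool.rec (fun _ => Nat) (Ptab_6645) (Ptab_6646) (Nat.ble 6646 c)
noncomputable def Ptab_s_6647_6649 (c : Nat) : Nat := @Bool.rec (fun _ => Nat) (Ptab_6647) (Ptab_6648) (Nat.ble 6648 c)
noncomputable def Ptab_s_6645_6649 (c : Nat) : Nat := @Bool.rec (fun _ => Nat) (Ptab_s_6645_6647 c) (Ptab_s_6647_6649 c) (Nat.ble 6647 c)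
noncomputable def Ptab_s_6649_6651 (c : Nat) : Nat := @Bool.rec (fun _ => Nat) (Ptab_6649) (Ptab_6650) (Nat.ble 6650 c)
noncomputable def Ptab_s_6651_6653 (c : Nat) : Nat := @Bool.rec (fun _ => Nat) (Ptab_6651) (Ptab_6652) (Nat.ble 6652 c)
noncomputable def Ptab_s_6649_6653 (c : Nat) : Nat := @Bool.rec (fun _ => Nat) (Ptab_s_6649_6651 c) (Ptab_s_6651_6653 c) (Nat.ble 6651 c)
noncomputable def Ptab_s_6645_6653 (c : Nat) : Nat := @Bool.rec (fun _ => Nat) (Ptab_s_6645_6649 c) (Ptab_s_6649_6653 c) (Nat.ble 6649 c)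
noncomputable def Ptab_s_6638_6653 (c : Nat) : Nat := @Bool.rec (fun _ => Nat) (Ptab_s_6638_6645 c) (Ptab_s_6645_6653 c) (Nat.ble 6645 c)
noncomputable def Ptab_s_6653_6655 (c : Nat) : Nat := @Bool.rec (fun _ => Nat) (Ptab_6653) (Ptab_6654) (Nat.ble 6654 c)
noncomputable def Ptab_s_6655_6657 (c : Nat) : Nat := @Bool.rec (fun _ => Nat) (Ptab_6655) (Ptab_6656) (Nat.ble 6656 c)
noncomputable def Ptab_s_6653_6657 (c : Nat) : Nat := @Bool.rec (fun _ => Nat) (Ptab_s_6653_6655 c) (Ptab_s_6655_6657 c) (Nat.ble 6655 c)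
noncomputable def Ptab_s_6657_6659 (c : Nat) : Nat := @Bool.rec (fun _ => Nat) (Ptab_6657) (Ptab_6658) (Nat.ble 6658 c)
noncomputable def Ptab_s_6659_6661 (c : Nat) : Nat := @Bool.rec (fun _ => Nat) (Ptab_6659) (Ptab_6660) (Nat.ble 6660 c)
noncomputable def Ptab_s_6657_6661 (c : Nat) : Nat := @Bool.rec (fun _ => Nat) (Ptab_s_6657_6659 c) (Ptab_s_6659_6661 c) (Nat.ble 6659 c)
noncomputable def Ptab_s_6653_6661 (c : Nat) : Nat := @Bool.rec (fun _ => Nat) (Ptab_s_6653_6657 c) (Ptab_s_6657_6661 c) (Nat.ble 6657 c)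
noncomputable def Ptab_s_6661_6663 (c : Nat) : Nat := @Bool.rec (fun _ => Nat) (Ptab_6661) (Ptab_6662) (Nat.ble 6662 c)
noncomputable def Ptab_s_6663_6665 (c : Nat) : Nat := @Bool.rec (fun _ => Nat) (Ptab_6663) (Ptab_6664) (Nat.ble 6664 c)
noncomputable def Ptab_s_6661_6665 (c : Nat) : Nat := @Bool.rec (fun _ => Nat) (Ptab_s_6661_6663 c) (Ptab_s_6663_6665 c) (Nat.ble 6663 c)
noncomputable def Ptab_s_6665_6667 (c : Nat) : Nat := @Bool.rec (fun _ => Nat) (Ptab_6665) (Ptab_6666) (Nat.ble 6666 c)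
noncomputable def Ptab_s_6667_6669 (c : Nat) : Nat := @Bool.rec (fun _ => Nat) (Ptab_6667) (Ptab_6668) (Nat.ble 6668 c)
noncomputable def Ptab_s_6665_6669 (c : Nat) : Nat := @Bool.rec (fun _ => Nat) (Ptab_s_6665_6667 c) (Ptab_s_6667_6669 c) (Nat.ble 6667 c)
noncomputable def Ptab_s_6661_6669 (c : Nat) : Nat := @Bool.rec (fun _ => Nat) (Ptab_s_6661_6665 c) (Ptab_s_6665_6669 c) (Nat.ble 6665 c)
noncomputable def Ptab_s_6653_6669 (c : Nat) : Nat := @Bool.rec (fun _ => Nat) (Ptab_s_6653_6661 c) (Ptab_s_6661_6669 c) (Nat.ble 6661 c)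
noncomputable def Ptab_s_6638_6669 (c : Nat) : Nat := @Bool.rec (fun _ => Nat) (Ptab_s_6638_6653 c) (Ptab_s_6653_6669 c) (Nat.ble 6653 c)
noncomputable def Ptab_s_6608_6669 (c : Nat) : Nat := @Bool.rec (fun _ => Nat) (Ptab_s_6608_6638 c) (Ptab_s_6638_6669 c) (Nat.ble 6638 c)
noncomputable def Ptab_s_6670_6672 (c : Nat) : Nat := @Bool.rec (fun _ => Nat) (Ptab_6670) (Ptab_6671) (Nat.ble 6671 c)
noncomputable def Ptab_s_6669_6672 (c : Nat) : Nat := @Bool.rec (fun _ => Nat) (Ptab_6669) (Ptab_s_6670_6672 c) (Nat.ble 6670 c)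
noncomputable def Ptab_s_6672_6674 (c : Nat) : Nat := @Bool.rec (fun _ => Nat) (Ptab_6672) (Ptab_6673) (Nat.ble 6673 c)
noncomputable def Ptab_s_6674_6676 (c : Nat) : Nat := @Bool.rec (fun _ => Nat) (Ptab_6674) (Ptab_6675) (Nat.ble 6675 c)
noncomputable def Ptab_s_6672_6676 (c : Nat) : Nat := @Bool.rec (fun _ => Nat) (Ptab_s_6672_6674 c) (Ptab_s_6674_6676 c) (Nat.ble 6674 c)
noncomputable def Ptab_s_6669_6676 (c : Nat) : Nat := @Bool.rec (fun _ => Nat) (Ptab_s_6669_6672 c) (Ptab_s_6672_6676 c) (Nat.ble 6672 c)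
noncomputable def Ptab_s_6676_6678 (c : Nat) : Nat := @Bool.rec (fun _ => Nat) (Ptab_6676) (Ptab_6677) (Nat.ble 6677 c)
noncomputable def Ptab_s_6678_6680 (c : Nat) : Nat := @Bool.rec (fun _ => Nat) (Ptab_6678) (Ptab_6679) (Nat.ble 6679 c)
noncomputable def Ptab_s_6676_6680 (c : Nat) : Nat := @Bool.rec (fun _ => Nat) (Ptab_s_6676_6678 c) (Ptab_s_6678_6680 c) (Nat.ble 6678 c)
noncomputable def Ptab_s_6680_6682 (c : Nat) : Nat := @Bool.rec (fun _ => Nat) (Ptab_6680) (Ptab_6681) (Nat.ble 6681 c)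
noncomputable def Ptab_s_6682_6684 (c : Nat) : Nat := @Bool.rec (fun _ => Nat) (Ptab_6682) (Ptab_6683) (Nat.ble 6683 c)
noncomputable def Ptab_s_6680_6684 (c : Nat) : Nat := @Bool.rec (fun _ => Nat) (Ptab_s_6680_6682 c) (Ptab_s_6682_6684 c) (Nat.ble 6682 c)
noncomputable def Ptab_s_6676_6684 (c : Nat) : Nat := @Bool.rec (fun _ => Nat) (Ptab_s_6676_6680 c) (Ptab_s_6680_6684 c) (Nat.ble 6680 c)
noncomputable def Ptab_s_6669_6684 (c : Nat) : Nat := @Bool.rec (fun _ => Nat) (Ptab_s_6669_6676 c) (Ptab_s_6676_6684 c) (Nat.ble 6676 c)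
noncomputable def Ptab_s_6685_6687 (c : Nat) : Nat := @Bool.rec (fun _ => Nat) (Ptab_6685) (Ptab_6686) (Nat.ble 6686 c)
noncomputable def Ptab_s_6684_6687 (c : Nat) : Nat := @Bool.rec (fun _ => Nat) (Ptab_6684) (Ptab_s_6685_6687 c) (Nat.ble 6685 c)
noncomputable def Ptab_s_6687_6689 (c : Nat) : Nat := @Bool.rec (fun _ => Nat) (Ptab_6687) (Ptab_6688) (Nat.ble 6688 c)
noncomputable def Ptab_s_6689_6691 (c : Nat) : Nat := @Bool.rec (fun _ => Nat) (Ptab_6689) (Ptab_6690) (Nat.ble 6690 c)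
noncomputable def Ptab_s_6687_6691 (c : Nat) : Nat := @Bool.rec (fun _ => Nat) (Ptab_s_6687_6689 c) (Ptab_s_6689_6691 c) (Nat.ble 6689 c)
noncomputable def Ptab_s_6684_6691 (c : Nat) : Nat := @Bool.rec (fun _ => Nat) (Ptab_s_6684_6687 c) (Ptab_s_6687_6691 c) (Nat.ble 6687 c)
noncomputable def Ptab_s_6691_6693 (c : Nat) : Nat := @Bool.rec (fun _ => Nat) (Ptab_6691) (Ptab_6692) (Nat.ble 6692 c)
noncomputable def Ptab_s_6693_6695 (c : Nat) : Nat := @Bool.rec (fun _ => Nat) (Ptab_6693) (Ptab_6694) (Nat.ble 6694 c)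
noncomputable def Ptab_s_6691_6695 (c : Nat) : Nat := @Bool.rec (fun _ => Nat) (Ptab_s_6691_6693 c) (Ptab_s_6693_6695 c) (Nat.ble 6693 c)
noncomputable def Ptab_s_6695_6697 (c : Nat) : Nat := @Bool.rec (fun _ => Nat) (Ptab_6695) (Ptab_6696) (Nat.ble 6696 c)
noncomputable def Ptab_s_6697_6699 (c : Nat) : Nat := @Bool.rec (fun _ => Nat) (Ptab_6697) (Ptab_6698) (Nat.ble 6698 c)
noncomputable def Ptab_s_6695_6699 (c : Nat) : Nat := @Bool.rec (fun _ => Nat) (Ptab_s_6695_6697 c) (Ptab_s_6697_6699 c) (Nat.ble 6697 c)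
noncomputable def Ptab_s_6691_6699 (c : Nat) : Nat := @Bool.rec (fun _ => Nat) (Ptab_s_6691_6695 c) (Ptab_s_6695_6699 c) (Nat.ble 6695 c)
noncomputable def Ptab_s_6684_6699 (c : Nat) : Nat := @Bool.rec (fun _ => Nat) (Ptab_s_6684_6691 c) (Ptab_s_6691_6699 c) (Nat.ble 6691 c)
noncomputable def Ptab_s_6669_6699 (c : Nat) : Nat := @Bool.rec (fun _ => Nat) (Ptab_s_6669_6684 c) (Ptab_s_6684_6699 c) (Nat.ble 6684 c)
noncomputable def Ptab_s_6700_6702 (c : Nat) : Nat := @Bool.rec (fun _ => Nat) (Ptab_6700) (Ptab_6701) (Nat.ble 6701 c)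
noncomputable def Ptab_s_6699_6702 (c : Nat) : Nat := @Bool.rec (fun _ => Nat) (Ptab_6699) (Ptab_s_6700_6702 c) (Nat.ble 6700 c)
noncomputable def Ptab_s_6702_6704 (c : Nat) : Nat := @Bool.rec (fun _ => Nat) (Ptab_6702) (Ptab_6703) (Nat.ble 6703 c)
noncomputable def Ptab_s_6704_6706 (c : Nat) : Nat := @Bool.rec (fun _ => Nat) (Ptab_6704) (Ptab_6705) (Nat.ble 6705 c)
noncomputable def Ptab_s_6702_6706 (c : Nat) : Nat := @Bool.rec (fun _ => Nat) (Ptab_s_6702_6704 c) (Ptab_s_6704_6706 c) (Nat.ble 6704 c)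
noncomputable def Ptab_s_6699_6706 (c : Nat) : Nat := @Bool.rec (fun _ => Nat) (Ptab_s_6699_6702 c) (Ptab_s_6702_6706 c) (Nat.ble 6702 c)
noncomputable def Ptab_s_6706_6708 (c : Nat) : Nat := @Bool.rec (fun _ => Nat) (Ptab_6706) (Ptab_6707) (Nat.ble 6707 c)
noncomputable def Ptab_s_6708_6710 (c : Nat) : Nat := @Bool.rec (fun _ => Nat) (Ptab_6708) (Ptab_6709) (Nat.ble 6709 c)
noncomputable def Ptab_s_6706_6710 (c : Nat) : Nat := @Bool.rec (fun _ => Nat) (Ptab_s_6706_6708 c) (Ptab_s_6708_6710 c) (Nat.ble 6708 c)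
noncomputable def Ptab_s_6710_6712 (c : Nat) : Nat := @Bool.rec (fun _ => Nat) (Ptab_6710) (Ptab_6711) (Nat.ble 6711 c)
noncomputable def Ptab_s_6712_6714 (c : Nat) : Nat := @Bool.rec (fun _ => Nat) (Ptab_6712) (Ptab_6713) (Nat.ble 6713 c)
noncomputable def Ptab_s_6710_6714 (c : Nat) : Nat := @Bool.rec (fun _ => Nat) (Ptab_s_6710_6712 c) (Ptab_s_6712_6714 c) (Nat.ble 6712 c)
noncomputable def Ptab_s_6706_6714 (c : Nat) : Nat := @Bool.rec (fun _ => Nat) (Ptab_s_6706_6710 c) (Ptab_s_6710_6714 c) (Nat.ble 6710 c)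
noncomputable def Ptab_s_6699_6714 (c : Nat) : Nat := @Bool.rec (fun _ => Nat) (Ptab_s_6699_6706 c) (Ptab_s_6706_6714 c) (Nat.ble 6706 c)
noncomputable def Ptab_s_6714_6716 (c : Nat) : Nat := @Bool.rec (fun _ => Nat) (Ptab_6714) (Ptab_6715) (Nat.ble 6715 c)
noncomputable def Ptab_s_6716_6718 (c : Nat) : Nat := @Bool.rec (fun _ => Nat) (Ptab_6716) (Ptab_6717) (Nat.ble 6717 c)
noncomputable def Ptab_s_6714_6718 (c : Nat) : Nat := @Bool.rec (fun _ => Nat) (Ptab_s_6714_6716 c) (Ptab_s_6716_6718 c) (Nat.ble 6716 c)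
noncomputable def Ptab_s_6718_6720 (c : Nat) : Nat := @Bool.rec (fun _ => Nat) (Ptab_6718) (Ptab_6719) (Nat.ble 6719 c)
noncomputable def Ptab_s_6720_6722 (c : Nat) : Nat := @Bool.rec (fun _ => Nat) (Ptab_6720) (Ptab_6721) (Nat.ble 6721 c)
noncomputable def Ptab_s_6718_6722 (c : Nat) : Nat := @Bool.rec (fun _ => Nat) (Ptab_s_6718_6720 c) (Ptab_s_6720_6722 c) (Nat.ble 6720 c)
noncomputable def Ptab_s_6714_6722 (c : Nat) : Nat := @Bool.rec (fun _ => Nat) (Ptab_s_6714_6718 c) (Ptab_s_6718_6722 c) (Nat.ble 6718 c)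
noncomputable def Ptab_s_6722_6724 (c : Nat) : Nat := @Bool.rec (fun _ => Nat) (Ptab_6722) (Ptab_6723) (Nat.ble 6723 c)
noncomputable def Ptab_s_6724_6726 (c : Nat) : Nat := @Bool.rec (fun _ => Nat) (Ptab_6724) (Ptab_6725) (Nat.ble 6725 c)
noncomputable def Ptab_s_6722_6726 (c : Nat) : Nat := @Bool.rec (fun _ => Nat) (Ptab_s_6722_6724 c) (Ptab_s_6724_6726 c) (Nat.ble 6724 c)
noncomputable def Ptab_s_6726_6728 (c : Nat) : Nat := @Bool.rec (fun _ => Nat) (Ptab_6726) (Ptab_6727) (Nat.ble 6727 c)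
noncomputable def Ptab_s_6728_6730 (c : Nat) : Nat := @Bool.rec (fun _ => Nat) (Ptab_6728) (Ptab_6729) (Nat.ble 6729 c)
noncomputable def Ptab_s_6726_6730 (c : Nat) : Nat := @Bool.rec (fun _ => Nat) (Ptab_s_6726_6728 c) (Ptab_s_6728_6730 c) (Nat.ble 6728 c)
noncomputable def Ptab_s_6722_6730 (c : Nat) : Nat := @Bool.rec (fun _ => Nat) (Ptab_s_6722_6726 c) (Ptab_s_6726_6730 c) (Nat.ble 6726 c)
noncomputable def Ptab_s_6714_6730 (c : Nat) : Nat := @Bool.rec (fun _ => Nat) (Ptab_s_6714_6722 c) (Ptab_s_6722_6730 c) (Nat.ble 6722 c)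
noncomputable def Ptab_s_6699_6730 (c : Nat) : Nat := @Bool.rec (fun _ => Nat) (Ptab_s_6699_6714 c) (Ptab_s_6714_6730 c) (Nat.ble 6714 c)
noncomputable def Ptab_s_6669_6730 (c : Nat) : Nat := @Bool.rec (fun _ => Nat) (Ptab_s_6669_6699 c) (Ptab_s_6699_6730 c) (Nat.ble 6699 c)
noncomputable def Ptab_s_6608_6730 (c : Nat) : Nat := @Bool.rec (fun _ => Nat) (Ptab_s_6608_6669 c) (Ptab_s_6669_6730 c) (Nat.ble 6669 c)
noncomputable def Ptab_s_6731_6733 (c : Nat) : Nat := @Bool.rec (fun _ => Nat) (Ptab_6731) (Ptab_6732) (Nat.ble 6732 c)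
noncomputable def Ptab_s_6730_6733 (c : Nat) : Nat := @Bool.rec (fun _ => Nat) (Ptab_6730) (Ptab_s_6731_6733 c) (Nat.ble 6731 c)
noncomputable def Ptab_s_6733_6735 (c : Nat) : Nat := @Bool.rec (fun _ => Nat) (Ptab_6733) (Ptab_6734) (Nat.ble 6734 c)
noncomputable def Ptab_s_6735_6737 (c : Nat) : Nat := @Bool.rec (fun _ => Nat) (Ptab_6735) (Ptab_6736) (Nat.ble 6736 c)
noncomputable def Ptab_s_6733_6737 (c : Nat) : Nat := @Bool.rec (fun _ => Nat) (Ptab_s_6733_6735 c) (Ptab_s_6735_6737 c) (Nat.ble 6735 c)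
noncomputable def Ptab_s_6730_6737 (c : Nat) : Nat := @Bool.rec (fun _ => Nat) (Ptab_s_6730_6733 c) (Ptab_s_6733_6737 c) (Nat.ble 6733 c)
noncomputable def Ptab_s_6737_6739 (c : Nat) : Nat := @Bool.rec (fun _ => Nat) (Ptab_6737) (Ptab_6738) (Nat.ble 6738 c)
noncomputable def Ptab_s_6739_6741 (c : Nat) : Nat := @Bool.rec (fun _ => Nat) (Ptab_6739) (Ptab_6740) (Nat.ble 6740 c)
noncomputable def Ptab_s_6737_6741 (c : Nat) : Nat := @Bool.rec (fun _ => Nat) (Ptab_s_6737_6739 c) (Ptab_s_6739_6741 c) (Nat.ble 6739 c)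
noncomputable def Ptab_s_6741_6743 (c : Nat) : Nat := @Bool.rec (fun _ => Nat) (Ptab_6741) (Ptab_6742) (Nat.ble 6742 c)
noncomputable def Ptab_s_6743_6745 (c : Nat) : Nat := @Bool.rec (fun _ => Nat) (Ptab_6743) (Ptab_6744) (Nat.ble 6744 c)
noncomputable def Ptab_s_6741_6745 (c : Nat) : Nat := @Bool.rec (fun _ => Nat) (Ptab_s_6741_6743 c) (Ptab_s_6743_6745 c) (Nat.ble 6743 c)
noncomputable def Ptab_s_6737_6745 (c : Nat) : Nat := @Bool.rec (fun _ => Nat) (Ptab_s_6737_6741 c) (Ptab_s_6741_6745 c) (Nat.ble 6741 c)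
noncomputable def Ptab_s_6730_6745 (c : Nat) : Nat := @Bool.rec (fun _ => Nat) (Ptab_s_6730_6737 c) (Ptab_s_6737_6745 c) (Nat.ble 6737 c)
noncomputable def Ptab_s_6746_6748 (c : Nat) : Nat := @Bool.rec (fun _ => Nat) (Ptab_6746) (Ptab_6747) (Nat.ble 6747 c)
noncomputable def Ptab_s_6745_6748 (c : Nat) : Nat := @Bool.rec (fun _ => Nat) (Ptab_6745) (Ptab_s_6746_6748 c) (Nat.ble 6746 c)
noncomputable def Ptab_s_6748_6750 (c : Nat) : Nat := @Bool.rec (fun _ => Nat) (Ptab_6748) (Ptab_6749) (Nat.ble 6749 c)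
noncomputable def Ptab_s_6750_6752 (c : Nat) : Nat := @Bool.rec (fun _ => Nat) (Ptab_6750) (Ptab_6751) (Nat.ble 6751 c)
noncomputable def Ptab_s_6748_6752 (c : Nat) : Nat := @Bool.rec (fun _ => Nat) (Ptab_s_6748_6750 c) (Ptab_s_6750_6752 c) (Nat.ble 6750 c)
noncomputable def Ptab_s_6745_6752 (c : Nat) : Nat := @Bool.rec (fun _ => Nat) (Ptab_s_6745_6748 c) (Ptab_s_6748_6752 c) (Nat.ble 6748 c)
noncomputable def Ptab_s_6752_6754 (c : Nat) : Nat := @Bool.rec (fun _ => Nat) (Ptab_6752) (Ptab_6753) (Nat.ble 6753 c)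
noncomputable def Ptab_s_6754_6756 (c : Nat) : Nat := @Bool.rec (fun _ => Nat) (Ptab_6754) (Ptab_6755) (Nat.ble 6755 c)
noncomputable def Ptab_s_6752_6756 (c : Nat) : Nat := @Bool.rec (fun _ => Nat) (Ptab_s_6752_6754 c) (Ptab_s_6754_6756 c) (Nat.ble 6754 c)
noncomputable def Ptab_s_6756_6758 (c : Nat) : Nat := @Bool.rec (fun _ => Nat) (Ptab_6756) (Ptab_6757) (Nat.ble 6757 c)
noncomputable def Ptab_s_6758_6760 (c : Nat) : Nat := @Bool.rec (fun _ => Nat) (Ptab_6758) (Ptab_6759) (Nat.ble 6759 c)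
noncomputable def Ptab_s_6756_6760 (c : Nat) : Nat := @Bool.rec (fun _ => Nat) (Ptab_s_6756_6758 c) (Ptab_s_6758_6760 c) (Nat.ble 6758 c)
noncomputable def Ptab_s_6752_6760 (c : Nat) : Nat := @Bool.rec (fun _ => Nat) (Ptab_s_6752_6756 c) (Ptab_s_6756_6760 c) (Nat.ble 6756 c)
noncomputable def Ptab_s_6745_6760 (c : Nat) : Nat := @Bool.rec (fun _ => Nat) (Ptab_s_6745_6752 c) (Ptab_s_6752_6760 c) (Nat.ble 6752 c)
noncomputable def Ptab_s_6730_6760 (c : Nat) : Nat := @Bool.rec (fun _ => Nat) (Ptab_s_6730_6745 c) (Ptab_s_6745_6760 c) (Nat.ble 6745 c)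
noncomputable def Ptab_s_6761_6763 (c : Nat) : Nat := @Bool.rec (fun _ => Nat) (Ptab_6761) (Ptab_6762) (Nat.ble 6762 c)
noncomputable def Ptab_s_6760_6763 (c : Nat) : Nat := @Bool.rec (fun _ => Nat) (Ptab_6760) (Ptab_s_6761_6763 c) (Nat.ble 6761 c)
noncomputable def Ptab_s_6763_6765 (c : Nat) : Nat := @Bool.rec (fun _ => Nat) (Ptab_6763) (Ptab_6764) (Nat.ble 6764 c)
noncomputable def Ptab_s_6765_6767 (c : Nat) : Nat := @Bool.rec (fun _ => Nat) (Ptab_6765) (Ptab_6766) (Nat.ble 6766 c)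
noncomputable def Ptab_s_6763_6767 (c : Nat) : Nat := @Bool.rec (fun _ => Nat) (Ptab_s_6763_6765 c) (Ptab_s_6765_6767 c) (Nat.ble 6765 c)
noncomputable def Ptab_s_6760_6767 (c : Nat) : Nat := @Bool.rec (fun _ => Nat) (Ptab_s_6760_6763 c) (Ptab_s_6763_6767 c) (Nat.ble 6763 c)
noncomputable def Ptab_s_6767_6769 (c : Nat) : Nat := @Bool.rec (fun _ => Nat) (Ptab_6767) (Ptab_6768) (Nat.ble 6768 c)
noncomputable def Ptab_s_6769_6771 (c : Nat) : Nat := @Bool.rec (fun _ => Nat) (Ptab_6769) (Ptab_6770) (Nat.ble 6770 c)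
noncomputable def Ptab_s_6767_6771 (c : Nat) : Nat := @Bool.rec (fun _ => Nat) (Ptab_s_6767_6769 c) (Ptab_s_6769_6771 c) (Nat.ble 6769 c)
noncomputable def Ptab_s_6771_6773 (c : Nat) : Nat := @Bool.rec (fun _ => Nat) (Ptab_6771) (Ptab_6772) (Nat.ble 6772 c)
noncomputable def Ptab_s_6773_6775 (c : Nat) : Nat := @Bool.rec (fun _ => Nat) (Ptab_6773) (Ptab_6774) (Nat.ble 6774 c)
noncomputable def Ptab_s_6771_6775 (c : Nat) : Nat := @Bool.rec (fun _ => Nat) (Ptab_s_6771_6773 c) (Ptab_s_6773_6775 c) (Nat.ble 6773 c)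
noncomputable def Ptab_s_6767_6775 (c : Nat) : Nat := @Bool.rec (fun _ => Nat) (Ptab_s_6767_6771 c) (Ptab_s_6771_6775 c) (Nat.ble 6771 c)
noncomputable def Ptab_s_6760_6775 (c : Nat) : Nat := @Bool.rec (fun _ => Nat) (Ptab_s_6760_6767 c) (Ptab_s_6767_6775 c) (Nat.ble 6767 c)
noncomputable def Ptab_s_6775_6777 (c : Nat) : Nat := @Bool.rec (fun _ => Nat) (Ptab_6775) (Ptab_6776) (Nat.ble 6776 c)
noncomputable def Ptab_s_6777_6779 (c : Nat) : Nat := @Bool.rec (fun _ => Nat) (Ptab_6777) (Ptab_6778) (Nat.ble 6778 c)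
noncomputable def Ptab_s_6775_6779 (c : Nat) : Nat := @Bool.rec (fun _ => Nat) (Ptab_s_6775_6777 c) (Ptab_s_6777_6779 c) (Nat.ble 6777 c)
noncomputable def Ptab_s_6779_6781 (c : Nat) : Nat := @Bool.rec (fun _ => Nat) (Ptab_6779) (Ptab_6780) (Nat.ble 6780 c)
noncomputable def Ptab_s_6781_6783 (c : Nat) : Nat := @Bool.rec (fun _ => Nat) (Ptab_6781) (Ptab_6782) (Nat.ble 6782 c)
noncomputable def Ptab_s_6779_6783 (c : Nat) : Nat := @Bool.rec (fun _ => Nat) (Ptab_s_6779_6781 c) (Ptab_s_6781_6783 c) (Nat.ble 6781 c)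
noncomputable def Ptab_s_6775_6783 (c : Nat) : Nat := @Bool.rec (fun _ => Nat) (Ptab_s_6775_6779 c) (Ptab_s_6779_6783 c) (Nat.ble 6779 c)
noncomputable def Ptab_s_6783_6785 (c : Nat) : Nat := @Bool.rec (fun _ => Nat) (Ptab_6783) (Ptab_6784) (Nat.ble 6784 c)
noncomputable def Ptab_s_6785_6787 (c : Nat) : Nat := @Bool.rec (fun _ => Nat) (Ptab_6785) (Ptab_6786) (Nat.ble 6786 c)
noncomputable def Ptab_s_6783_6787 (c : Nat) : Nat := @Bool.rec (fun _ => Nat) (Ptab_s_6783_6785 c) (Ptab_s_6785_6787 c) (Nat.ble 6785 c)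
noncomputable def Ptab_s_6787_6789 (c : Nat) : Nat := @Bool.rec (fun _ => Nat) (Ptab_6787) (Ptab_6788) (Nat.ble 6788 c)
noncomputable def Ptab_s_6789_6791 (c : Nat) : Nat := @Bool.rec (fun _ => Nat) (Ptab_6789) (Ptab_6790) (Nat.ble 6790 c)
noncomputable def Ptab_s_6787_6791 (c : Nat) : Nat := @Bool.rec (fun _ => Nat) (Ptab_s_6787_6789 c) (Ptab_s_6789_6791 c) (Nat.ble 6789 c)
noncomputable def Ptab_s_6783_6791 (c : Nat) : Nat := @Bool.rec (fun _ => Nat) (Ptab_s_6783_6787 c) (Ptab_s_6787_6791 c) (Nat.ble 6787 c)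
noncomputable def Ptab_s_6775_6791 (c : Nat) : Nat := @Bool.rec (fun _ => Nat) (Ptab_s_6775_6783 c) (Ptab_s_6783_6791 c) (Nat.ble 6783 c)
noncomputable def Ptab_s_6760_6791 (c : Nat) : Nat := @Bool.rec (fun _ => Nat) (Ptab_s_6760_6775 c) (Ptab_s_6775_6791 c) (Nat.ble 6775 c)
noncomputable def Ptab_s_6730_6791 (c : Nat) : Nat := @Bool.rec (fun _ => Nat) (Ptab_s_6730_6760 c) (Ptab_s_6760_6791 c) (Nat.ble 6760 c)
noncomputable def Ptab_s_6792_6794 (c : Nat) : Nat := @Bool.rec (fun _ => Nat) (Ptab_6792) (Ptab_6793) (Nat.ble 6793 c)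
noncomputable def Ptab_s_6791_6794 (c : Nat) : Nat := @Bool.rec (fun _ => Nat) (Ptab_6791) (Ptab_s_6792_6794 c) (Nat.ble 6792 c)
noncomputable def Ptab_s_6794_6796 (c : Nat) : Nat := @Bool.rec (fun _ => Nat) (Ptab_6794) (Ptab_6795) (Nat.ble 6795 c)
noncomputable def Ptab_s_6796_6798 (c : Nat) : Nat := @Bool.rec (fun _ => Nat) (Ptab_6796) (Ptab_6797) (Nat.ble 6797 c)
noncomputable def Ptab_s_6794_6798 (c : Nat) : Nat := @Bool.rec (fun _ => Nat) (Ptab_s_6794_6796 c) (Ptab_s_6796_6798 c) (Nat.ble 6796 c)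
noncomputable def Ptab_s_6791_6798 (c : Nat) : Nat := @Bool.rec (fun _ => Nat) (Ptab_s_6791_6794 c) (Ptab_s_6794_6798 c) (Nat.ble 6794 c)
noncomputable def Ptab_s_6798_6800 (c : Nat) : Nat := @Bool.rec (fun _ => Nat) (Ptab_6798) (Ptab_6799) (Nat.ble 6799 c)
noncomputable def Ptab_s_6800_6802 (c : Nat) : Nat := @Bool.rec (fun _ => Nat) (Ptab_6800) (Ptab_6801) (Nat.ble 6801 c)
noncomputable def Ptab_s_6798_6802 (c : Nat) : Nat := @Bool.rec (fun _ => Nat) (Ptab_s_6798_6800 c) (Ptab_s_6800_6802 c) (Nat.ble 6800 c)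
noncomputable def Ptab_s_6802_6804 (c : Nat) : Nat := @Bool.rec (fun _ => Nat) (Ptab_6802) (Ptab_6803) (Nat.ble 6803 c)
noncomputable def Ptab_s_6804_6806 (c : Nat) : Nat := @Bool.rec (fun _ => Nat) (Ptab_6804) (Ptab_6805) (Nat.ble 6805 c)
noncomputable def Ptab_s_6802_6806 (c : Nat) : Nat := @Bool.rec (fun _ => Nat) (Ptab_s_6802_6804 c) (Ptab_s_6804_6806 c) (Nat.ble 6804 c)
noncomputable def Ptab_s_6798_6806 (c : Nat) : Nat := @Bool.rec (fun _ => Nat) (Ptab_s_6798_6802 c) (Ptab_s_6802_6806 c) (Nat.ble 6802 c)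
noncomputable def Ptab_s_6791_6806 (c : Nat) : Nat := @Bool.rec (fun _ => Nat) (Ptab_s_6791_6798 c) (Ptab_s_6798_6806 c) (Nat.ble 6798 c)
noncomputable def Ptab_s_6806_6808 (c : Nat) : Nat := @Bool.rec (fun _ => Nat) (Ptab_6806) (Ptab_6807) (Nat.ble 6807 c)
noncomputable def Ptab_s_6808_6810 (c : Nat) : Nat := @Bool.rec (fun _ => Nat) (Ptab_6808) (Ptab_6809) (Nat.ble 6809 c)
noncomputable def Ptab_s_6806_6810 (c : Nat) : Nat := @Bool.rec (fun _ => Nat) (Ptab_s_6806_6808 c) (Ptab_s_6808_6810 c) (Nat.ble 6808 c)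
noncomputable def Ptab_s_6810_6812 (c : Nat) : Nat := @Bool.rec (fun _ => Nat) (Ptab_6810) (Ptab_6811) (Nat.ble 6811 c)
noncomputable def Ptab_s_6812_6814 (c : Nat) : Nat := @Bool.rec (fun _ => Nat) (Ptab_6812) (Ptab_6813) (Nat.ble 6813 c)
noncomputable def Ptab_s_6810_6814 (c : Nat) : Nat := @Bool.rec (fun _ => Nat) (Ptab_s_6810_6812 c) (Ptab_s_6812_6814 c) (Nat.ble 6812 c)
noncomputable def Ptab_s_6806_6814 (c : Nat) : Nat := @Bool.rec (fun _ => Nat) (Ptab_s_6806_6810 c) (Ptab_s_6810_6814 c) (Nat.ble 6810 c)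
noncomputable def Ptab_s_6814_6816 (c : Nat) : Nat := @Bool.rec (fun _ => Nat) (Ptab_6814) (Ptab_6815) (Nat.ble 6815 c)
noncomputable def Ptab_s_6816_6818 (c : Nat) : Nat := @Bool.rec (fun _ => Nat) (Ptab_6816) (Ptab_6817) (Nat.ble 6817 c)
noncomputable def Ptab_s_6814_6818 (c : Nat) : Nat := @Bool.rec (fun _ => Nat) (Ptab_s_6814_6816 c) (Ptab_s_6816_6818 c) (Nat.ble 6816 c)
noncomputable def Ptab_s_6818_6820 (c : Nat) : Nat := @Bool.rec (fun _ => Nat) (Ptab_6818) (Ptab_6819) (Nat.ble 6819 c)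
noncomputable def Ptab_s_6820_6822 (c : Nat) : Nat := @Bool.rec (fun _ => Nat) (Ptab_6820) (Ptab_6821) (Nat.ble 6821 c)
noncomputable def Ptab_s_6818_6822 (c : Nat) : Nat := @Bool.rec (fun _ => Nat) (Ptab_s_6818_6820 c) (Ptab_s_6820_6822 c) (Nat.ble 6820 c)
noncomputable def Ptab_s_6814_6822 (c : Nat) : Nat := @Bool.rec (fun _ => Nat) (Ptab_s_6814_6818 c) (Ptab_s_6818_6822 c) (Nat.ble 6818 c)
noncomputable def Ptab_s_6806_6822 (c : Nat) : Nat := @Bool.rec (fun _ => Nat) (Ptab_s_6806_6814 c) (Ptab_s_6814_6822 c) (Nat.ble 6814 c)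
noncomputable def Ptab_s_6791_6822 (c : Nat) : Nat := @Bool.rec (fun _ => Nat) (Ptab_s_6791_6806 c) (Ptab_s_6806_6822 c) (Nat.ble 6806 c)
noncomputable def Ptab_s_6823_6825 (c : Nat) : Nat := @Bool.rec (fun _ => Nat) (Ptab_6823) (Ptab_6824) (Nat.ble 6824 c)
noncomputable def Ptab_s_6822_6825 (c : Nat) : Nat := @Bool.rec (fun _ => Nat) (Ptab_6822) (Ptab_s_6823_6825 c) (Nat.ble 6823 c)
noncomputable def Ptab_s_6825_6827 (c : Nat) : Nat := @Bool.rec (fun _ => Nat) (Ptab_6825) (Ptab_6826) (Nat.ble 6826 c)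
noncomputable def Ptab_s_6827_6829 (c : Nat) : Nat := @Bool.rec (fun _ => Nat) (Ptab_6827) (Ptab_6828) (Nat.ble 6828 c)
noncomputable def Ptab_s_6825_6829 (c : Nat) : Nat := @Bool.rec (fun _ => Nat) (Ptab_s_6825_6827 c) (Ptab_s_6827_6829 c) (Nat.ble 6827 c)
noncomputable def Ptab_s_6822_6829 (c : Nat) : Nat := @Bool.rec (fun _ => Nat) (Ptab_s_6822_6825 c) (Ptab_s_6825_6829 c) (Nat.ble 6825 c)
noncomputable def Ptab_s_6829_6831 (c : Nat) : Nat := @Bool.rec (fun _ => Nat) (Ptab_6829) (Ptab_6830) (Nat.ble 6830 c)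
noncomputable def Ptab_s_6831_6833 (c : Nat) : Nat := @Bool.rec (fun _ => Nat) (Ptab_6831) (Ptab_6832) (Nat.ble 6832 c)
noncomputable def Ptab_s_6829_6833 (c : Nat) : Nat := @Bool.rec (fun _ => Nat) (Ptab_s_6829_6831 c) (Ptab_s_6831_6833 c) (Nat.ble 6831 c)
noncomputable def Ptab_s_6833_6835 (c : Nat) : Nat := @Bool.rec (fun _ => Nat) (Ptab_6833) (Ptab_6834) (Nat.ble 6834 c)
noncomputable def Ptab_s_6835_6837 (c : Nat) : Nat := @Bool.rec (fun _ => Nat) (Ptab_6835) (Ptab_6836) (Nat.ble 6836 c)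
noncomputable def Ptab_s_6833_6837 (c : Nat) : Nat := @Bool.rec (fun _ => Nat) (Ptab_s_6833_6835 c) (Ptab_s_6835_6837 c) (Nat.ble 6835 c)
noncomputable def Ptab_s_6829_6837 (c : Nat) : Nat := @Bool.rec (fun _ => Nat) (Ptab_s_6829_6833 c) (Ptab_s_6833_6837 c) (Nat.ble 6833 c)
noncomputable def Ptab_s_6822_6837 (c : Nat) : Nat := @Bool.rec (fun _ => Nat) (Ptab_s_6822_6829 c) (Ptab_s_6829_6837 c) (Nat.ble 6829 c)
noncomputable def Ptab_s_6837_6839 (c : Nat) : Nat := @Bool.rec (fun _ => Nat) (Ptab_6837) (Ptab_6838) (Nat.ble 6838 c)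
noncomputable def Ptab_s_6839_6841 (c : Nat) : Nat := @Bool.rec (fun _ => Nat) (Ptab_6839) (Ptab_6840) (Nat.ble 6840 c)
noncomputable def Ptab_s_6837_6841 (c : Nat) : Nat := @Bool.rec (fun _ => Nat) (Ptab_s_6837_6839 c) (Ptab_s_6839_6841 c) (Nat.ble 6839 c)
noncomputable def Ptab_s_6841_6843 (c : Nat) : Nat := @Bool.rec (fun _ => Nat) (Ptab_6841) (Ptab_6842) (Nat.ble 6842 c)
noncomputable def Ptab_s_6843_6845 (c : Nat) : Nat := @Bool.rec (fun _ => Nat) (Ptab_6843) (Ptab_6844) (Nat.ble 6844 c)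
noncomputable def Ptab_s_6841_6845 (c : Nat) : Nat := @Bool.rec (fun _ => Nat) (Ptab_s_6841_6843 c) (Ptab_s_6843_6845 c) (Nat.ble 6843 c)
noncomputable def Ptab_s_6837_6845 (c : Nat) : Nat := @Bool.rec (fun _ => Nat) (Ptab_s_6837_6841 c) (Ptab_s_6841_6845 c) (Nat.ble 6841 c)
noncomputable def Ptab_s_6845_6847 (c : Nat) : Nat := @Bool.rec (fun _ => Nat) (Ptab_6845) (Ptab_6846) (Nat.ble 6846 c)
noncomputable def Ptab_s_6847_6849 (c : Nat) : Nat := @Bool.rec (fun _ => Nat) (Ptab_6847) (Ptab_6848) (Nat.ble 6848 c)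
noncomputable def Ptab_s_6845_6849 (c : Nat) : Nat := @Bool.rec (fun _ => Nat) (Ptab_s_6845_6847 c) (Ptab_s_6847_6849 c) (Nat.ble 6847 c)
noncomputable def Ptab_s_6849_6851 (c : Nat) : Nat := @Bool.rec (fun _ => Nat) (Ptab_6849) (Ptab_6850) (Nat.ble 6850 c)
noncomputable def Ptab_s_6851_6853 (c : Nat) : Nat := @Bool.rec (fun _ => Nat) (Ptab_6851) (Ptab_6852) (Nat.ble 6852 c)
noncomputable def Ptab_s_6849_6853 (c : Nat) : Nat := @Bool.rec (fun _ => Nat) (Ptab_s_6849_6851 c) (Ptab_s_6851_6853 c) (Nat.ble 6851 c)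
noncomputable def Ptab_s_6845_6853 (c : Nat) : Nat := @Bool.rec (fun _ => Nat) (Ptab_s_6845_6849 c) (Ptab_s_6849_6853 c) (Nat.ble 6849 c)
noncomputable def Ptab_s_6837_6853 (c : Nat) : Nat := @Bool.rec (fun _ => Nat) (Ptab_s_6837_6845 c) (Ptab_s_6845_6853 c) (Nat.ble 6845 c)
noncomputable def Ptab_s_6822_6853 (c : Nat) : Nat := @Bool.rec (fun _ => Nat) (Ptab_s_6822_6837 c) (Ptab_s_6837_6853 c) (Nat.ble 6837 c)
noncomputable def Ptab_s_6791_6853 (c : Nat) : Nat := @Bool.rec (fun _ => Nat) (Ptab_s_6791_6822 c) (Ptab_s_6822_6853 c) (Nat.ble 6822 c)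
noncomputable def Ptab_s_6730_6853 (c : Nat) : Nat := @Bool.rec (fun _ => Nat) (Ptab_s_6730_6791 c) (Ptab_s_6791_6853 c) (Nat.ble 6791 c)
noncomputable def Ptab_s_6608_6853 (c : Nat) : Nat := @Bool.rec (fun _ => Nat) (Ptab_s_6608_6730 c) (Ptab_s_6730_6853 c) (Nat.ble 6730 c)
noncomputable def Ptab_s_6363_6853 (c : Nat) : Nat := @Bool.rec (fun _ => Nat) (Ptab_s_6363_6608 c) (Ptab_s_6608_6853 c) (Nat.ble 6608 c)
noncomputable def Ptab_s_5874_6853 (c : Nat) : Nat := @Bool.rec (fun _ => Nat) (Ptab_s_5874_6363 c) (Ptab_s_6363_6853 c) (Nat.ble 6363 c)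
noncomputable def Ptab_s_6854_6856 (c : Nat) : Nat := @Bool.rec (fun _ => Nat) (Ptab_6854) (Ptab_6855) (Nat.ble 6855 c)
noncomputable def Ptab_s_6853_6856 (c : Nat) : Nat := @Bool.rec (fun _ => Nat) (Ptab_6853) (Ptab_s_6854_6856 c) (Nat.ble 6854 c)
noncomputable def Ptab_s_6856_6858 (c : Nat) : Nat := @Bool.rec (fun _ => Nat) (Ptab_6856) (Ptab_6857) (Nat.ble 6857 c)
noncomputable def Ptab_s_6858_6860 (c : Nat) : Nat := @Bool.rec (fun _ => Nat) (Ptab_6858) (Ptab_6859) (Nat.ble 6859 c)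
noncomputable def Ptab_s_6856_6860 (c : Nat) : Nat := @Bool.rec (fun _ => Nat) (Ptab_s_6856_6858 c) (Ptab_s_6858_6860 c) (Nat.ble 6858 c)
noncomputable def Ptab_s_6853_6860 (c : Nat) : Nat := @Bool.rec (fun _ => Nat) (Ptab_s_6853_6856 c) (Ptab_s_6856_6860 c) (Nat.ble 6856 c)
noncomputable def Ptab_s_6860_6862 (c : Nat) : Nat := @Bool.rec (fun _ => Nat) (Ptab_6860) (Ptab_6861) (Nat.ble 6861 c)
noncomputable def Ptab_s_6862_6864 (c : Nat) : Nat := @Bool.rec (fun _ => Nat) (Ptab_6862) (Ptab_6863) (Nat.ble 6863 c)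
noncomputable def Ptab_s_6860_6864 (c : Nat) : Nat := @Bool.rec (fun _ => Nat) (Ptab_s_6860_6862 c) (Ptab_s_6862_6864 c) (Nat.ble 6862 c)
noncomputable def Ptab_s_6864_6866 (c : Nat) : Nat := @Bool.rec (fun _ => Nat) (Ptab_6864) (Ptab_6865) (Nat.ble 6865 c)
noncomputable def Ptab_s_6866_6868 (c : Nat) : Nat := @Bool.rec (fun _ => Nat) (Ptab_6866) (Ptab_6867) (Nat.ble 6867 c)
noncomputable def Ptab_s_6864_6868 (c : Nat) : Nat := @Bool.rec (fun _ => Nat) (Ptab_s_6864_6866 c) (Ptab_s_6866_6868 c) (Nat.ble 6866 c)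
noncomputable def Ptab_s_6860_6868 (c : Nat) : Nat := @Bool.rec (fun _ => Nat) (Ptab_s_6860_6864 c) (Ptab_s_6864_6868 c) (Nat.ble 6864 c)
noncomputable def Ptab_s_6853_6868 (c : Nat) : Nat := @Bool.rec (fun _ => Nat) (Ptab_s_6853_6860 c) (Ptab_s_6860_6868 c) (Nat.ble 6860 c)
noncomputable def Ptab_s_6869_6871 (c : Nat) : Nat := @Bool.rec (fun _ => Nat) (Ptab_6869) (Ptab_6870) (Nat.ble 6870 c)
noncomputable def Ptab_s_6868_6871 (c : Nat) : Nat := @Bool.rec (fun _ => Nat) (Ptab_6868) (Ptab_s_6869_6871 c) (Nat.ble 6869 c)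
noncomputable def Ptab_s_6871_6873 (c : Nat) : Nat := @Bool.rec (fun _ => Nat) (Ptab_6871) (Ptab_6872) (Nat.ble 6872 c)
noncomputable def Ptab_s_6873_6875 (c : Nat) : Nat := @Bool.rec (fun _ => Nat) (Ptab_6873) (Ptab_6874) (Nat.ble 6874 c)
noncomputable def Ptab_s_6871_6875 (c : Nat) : Nat := @Bool.rec (fun _ => Nat) (Ptab_s_6871_6873 c) (Ptab_s_6873_6875 c) (Nat.ble 6873 c)
noncomputable def Ptab_s_6868_6875 (c : Nat) : Nat := @Bool.rec (fun _ => Nat) (Ptab_s_6868_6871 c) (Ptab_s_6871_6875 c) (Nat.ble 6871 c)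
noncomputable def Ptab_s_6875_6877 (c : Nat) : Nat := @Bool.rec (fun _ => Nat) (Ptab_6875) (Ptab_6876) (Nat.ble 6876 c)
noncomputable def Ptab_s_6877_6879 (c : Nat) : Nat := @Bool.rec (fun _ => Nat) (Ptab_6877) (Ptab_6878) (Nat.ble 6878 c)
noncomputable def Ptab_s_6875_6879 (c : Nat) : Nat := @Bool.rec (fun _ => Nat) (Ptab_s_6875_6877 c) (Ptab_s_6877_6879 c) (Nat.ble 6877 c)
noncomputable def Ptab_s_6879_6881 (c : Nat) : Nat := @Bool.rec (fun _ => Nat) (Ptab_6879) (Ptab_6880) (Nat.ble 6880 c)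
noncomputable def Ptab_s_6881_6883 (c : Nat) : Nat := @Bool.rec (fun _ => Nat) (Ptab_6881) (Ptab_6882) (Nat.ble 6882 c)
noncomputable def Ptab_s_6879_6883 (c : Nat) : Nat := @Bool.rec (fun _ => Nat) (Ptab_s_6879_6881 c) (Ptab_s_6881_6883 c) (Nat.ble 6881 c)
noncomputable def Ptab_s_6875_6883 (c : Nat) : Nat := @Bool.rec (fun _ => Nat) (Ptab_s_6875_6879 c) (Ptab_s_6879_6883 c) (Nat.ble 6879 c)
noncomputable def Ptab_s_6868_6883 (c : Nat) : Nat := @Bool.rec (fun _ => Nat) (Ptab_s_6868_6875 c) (Ptab_s_6875_6883 c) (Nat.ble 6875 c)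
noncomputable def Ptab_s_6853_6883 (c : Nat) : Nat := @Bool.rec (fun _ => Nat) (Ptab_s_6853_6868 c) (Ptab_s_6868_6883 c) (Nat.ble 6868 c)
noncomputable def Ptab_s_6884_6886 (c : Nat) : Nat := @Bool.rec (fun _ => Nat) (Ptab_6884) (Ptab_6885) (Nat.ble 6885 c)
noncomputable def Ptab_s_6883_6886 (c : Nat) : Nat := @Bool.rec (fun _ => Nat) (Ptab_6883) (Ptab_s_6884_6886 c) (Nat.ble 6884 c)
noncomputable def Ptab_s_6886_6888 (c : Nat) : Nat := @Bool.rec (fun _ => Nat) (Ptab_6886) (Ptab_6887) (Nat.ble 6887 c)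
noncomputable def Ptab_s_6888_6890 (c : Nat) : Nat := @Bool.rec (fun _ => Nat) (Ptab_6888) (Ptab_6889) (Nat.ble 6889 c)
noncomputable def Ptab_s_6886_6890 (c : Nat) : Nat := @Bool.rec (fun _ => Nat) (Ptab_s_6886_6888 c) (Ptab_s_6888_6890 c) (Nat.ble 6888 c)
noncomputable def Ptab_s_6883_6890 (c : Nat) : Nat := @Bool.rec (fun _ => Nat) (Ptab_s_6883_6886 c) (Ptab_s_6886_6890 c) (Nat.ble 6886 c)
noncomputable def Ptab_s_6890_6892 (c : Nat) : Nat := @Bool.rec (fun _ => Nat) (Ptab_6890) (Ptab_6891) (Nat.ble 6891 c)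
noncomputable def Ptab_s_6892_6894 (c : Nat) : Nat := @Bool.rec (fun _ => Nat) (Ptab_6892) (Ptab_6893) (Nat.ble 6893 c)
noncomputable def Ptab_s_6890_6894 (c : Nat) : Nat := @Bool.rec (fun _ => Nat) (Ptab_s_6890_6892 c) (Ptab_s_6892_6894 c) (Nat.ble 6892 c)
noncomputable def Ptab_s_6894_6896 (c : Nat) : Nat := @Bool.rec (fun _ => Nat) (Ptab_6894) (Ptab_6895) (Nat.ble 6895 c)
noncomputable def Ptab_s_6896_6898 (c : Nat) : Nat := @Bool.rec (fun _ => Nat) (Ptab_6896) (Ptab_6897) (Nat.ble 6897 c)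
noncomputable def Ptab_s_6894_6898 (c : Nat) : Nat := @Bool.rec (fun _ => Nat) (Ptab_s_6894_6896 c) (Ptab_s_6896_6898 c) (Nat.ble 6896 c)
noncomputable def Ptab_s_6890_6898 (c : Nat) : Nat := @Bool.rec (fun _ => Nat) (Ptab_s_6890_6894 c) (Ptab_s_6894_6898 c) (Nat.ble 6894 c)
noncomputable def Ptab_s_6883_6898 (c : Nat) : Nat := @Bool.rec (fun _ => Nat) (Ptab_s_6883_6890 c) (Ptab_s_6890_6898 c) (Nat.ble 6890 c)
noncomputable def Ptab_s_6898_6900 (c : Nat) : Nat := @Bool.rec (fun _ => Nat) (Ptab_6898) (Ptab_6899) (Nat.ble 6899 c)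
noncomputable def Ptab_s_6900_6902 (c : Nat) : Nat := @Bool.rec (fun _ => Nat) (Ptab_6900) (Ptab_6901) (Nat.ble 6901 c)
noncomputable def Ptab_s_6898_6902 (c : Nat) : Nat := @Bool.rec (fun _ => Nat) (Ptab_s_6898_6900 c) (Ptab_s_6900_6902 c) (Nat.ble 6900 c)
noncomputable def Ptab_s_6902_6904 (c : Nat) : Nat := @Bool.rec (fun _ => Nat) (Ptab_6902) (Ptab_6903) (Nat.ble 6903 c)
noncomputable def Ptab_s_6904_6906 (c : Nat) : Nat := @Bool.rec (fun _ => Nat) (Ptab_6904) (Ptab_6905) (Nat.ble 6905 c)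
noncomputable def Ptab_s_6902_6906 (c : Nat) : Nat := @Bool.rec (fun _ => Nat) (Ptab_s_6902_6904 c) (Ptab_s_6904_6906 c) (Nat.ble 6904 c)
noncomputable def Ptab_s_6898_6906 (c : Nat) : Nat := @Bool.rec (fun _ => Nat) (Ptab_s_6898_6902 c) (Ptab_s_6902_6906 c) (Nat.ble 6902 c)
noncomputable def Ptab_s_6906_6908 (c : Nat) : Nat := @Bool.rec (fun _ => Nat) (Ptab_6906) (Ptab_6907) (Nat.ble 6907 c)
noncomputable def Ptab_s_6908_6910 (c : Nat) : Nat := @Bool.rec (fun _ => Nat) (Ptab_6908) (Ptab_6909) (Nat.ble 6909 c)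
noncomputable def Ptab_s_6906_6910 (c : Nat) : Nat := @Bool.rec (fun _ => Nat) (Ptab_s_6906_6908 c) (Ptab_s_6908_6910 c) (Nat.ble 6908 c)
noncomputable def Ptab_s_6910_6912 (c : Nat) : Nat := @Bool.rec (fun _ => Nat) (Ptab_6910) (Ptab_6911) (Nat.ble 6911 c)
noncomputable def Ptab_s_6912_6914 (c : Nat) : Nat := @Bool.rec (fun _ => Nat) (Ptab_6912) (Ptab_6913) (Nat.ble 6913 c)
noncomputable def Ptab_s_6910_6914 (c : Nat) : Nat := @Bool.rec (fun _ => Nat) (Ptab_s_6910_6912 c) (Ptab_s_6912_6914 c) (Nat.ble 6912 c)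
noncomputable def Ptab_s_6906_6914 (c : Nat) : Nat := @Bool.rec (fun _ => Nat) (Ptab_s_6906_6910 c) (Ptab_s_6910_6914 c) (Nat.ble 6910 c)
noncomputable def Ptab_s_6898_6914 (c : Nat) : Nat := @Bool.rec (fun _ => Nat) (Ptab_s_6898_6906 c) (Ptab_s_6906_6914 c) (Nat.ble 6906 c)
noncomputable def Ptab_s_6883_6914 (c : Nat) : Nat := @Bool.rec (fun _ => Nat) (Ptab_s_6883_6898 c) (Ptab_s_6898_6914 c) (Nat.ble 6898 c)
noncomputable def Ptab_s_6853_6914 (c : Nat) : Nat := @Bool.rec (fun _ => Nat) (Ptab_s_6853_6883 c) (Ptab_s_6883_6914 c) (Nat.ble 6883 c)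
noncomputable def Ptab_s_6915_6917 (c : Nat) : Nat := @Bool.rec (fun _ => Nat) (Ptab_6915) (Ptab_6916) (Nat.ble 6916 c)
noncomputable def Ptab_s_6914_6917 (c : Nat) : Nat := @Bool.rec (fun _ => Nat) (Ptab_6914) (Ptab_s_6915_6917 c) (Nat.ble 6915 c)
noncomputable def Ptab_s_6917_6919 (c : Nat) : Nat := @Bool.rec (fun _ => Nat) (Ptab_6917) (Ptab_6918) (Nat.ble 6918 c)
noncomputable def Ptab_s_6919_6921 (c : Nat) : Nat := @Bool.rec (fun _ => Nat) (Ptab_6919) (Ptab_6920) (Nat.ble 6920 c)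
noncomputable def Ptab_s_6917_6921 (c : Nat) : Nat := @Bool.rec (fun _ => Nat) (Ptab_s_6917_6919 c) (Ptab_s_6919_6921 c) (Nat.ble 6919 c)
noncomputable def Ptab_s_6914_6921 (c : Nat) : Nat := @Bool.rec (fun _ => Nat) (Ptab_s_6914_6917 c) (Ptab_s_6917_6921 c) (Nat.ble 6917 c)
noncomputable def Ptab_s_6921_6923 (c : Nat) : Nat := @Bool.rec (fun _ => Nat) (Ptab_6921) (Ptab_6922) (Nat.ble 6922 c)
noncomputable def Ptab_s_6923_6925 (c : Nat) : Nat := @Bool.rec (fun _ => Nat) (Ptab_6923) (Ptab_6924) (Nat.ble 6924 c)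
noncomputable def Ptab_s_6921_6925 (c : Nat) : Nat := @Bool.rec (fun _ => Nat) (Ptab_s_6921_6923 c) (Ptab_s_6923_6925 c) (Nat.ble 6923 c)
noncomputable def Ptab_s_6925_6927 (c : Nat) : Nat := @Bool.rec (fun _ => Nat) (Ptab_6925) (Ptab_6926) (Nat.ble 6926 c)
noncomputable def Ptab_s_6927_6929 (c : Nat) : Nat := @Bool.rec (fun _ => Nat) (Ptab_6927) (Ptab_6928) (Nat.ble 6928 c)
noncomputable def Ptab_s_6925_6929 (c : Nat) : Nat := @Bool.rec (fun _ => Nat) (Ptab_s_6925_6927 c) (Ptab_s_6927_6929 c) (Nat.ble 6927 c)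
noncomputable def Ptab_s_6921_6929 (c : Nat) : Nat := @Bool.rec (fun _ => Nat) (Ptab_s_6921_6925 c) (Ptab_s_6925_6929 c) (Nat.ble 6925 c)
noncomputable def Ptab_s_6914_6929 (c : Nat) : Nat := @Bool.rec (fun _ => Nat) (Ptab_s_6914_6921 c) (Ptab_s_6921_6929 c) (Nat.ble 6921 c)
noncomputable def Ptab_s_6930_6932 (c : Nat) : Nat := @Bool.rec (fun _ => Nat) (Ptab_6930) (Ptab_6931) (Nat.ble 6931 c)
noncomputable def Ptab_s_6929_6932 (c : Nat) : Nat := @Bool.rec (fun _ => Nat) (Ptab_6929) (Ptab_s_6930_6932 c) (Nat.ble 6930 c)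
noncomputable def Ptab_s_6932_6934 (c : Nat) : Nat := @Bool.rec (fun _ => Nat) (Ptab_6932) (Ptab_6933) (Nat.ble 6933 c)
noncomputable def Ptab_s_6934_6936 (c : Nat) : Nat := @Bool.rec (fun _ => Nat) (Ptab_6934) (Ptab_6935) (Nat.ble 6935 c)
noncomputable def Ptab_s_6932_6936 (c : Nat) : Nat := @Bool.rec (fun _ => Nat) (Ptab_s_6932_6934 c) (Ptab_s_6934_6936 c) (Nat.ble 6934 c)
noncomputable def Ptab_s_6929_6936 (c : Nat) : Nat := @Bool.rec (fun _ => Nat) (Ptab_s_6929_6932 c) (Ptab_s_6932_6936 c) (Nat.ble 6932 c)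
noncomputable def Ptab_s_6936_6938 (c : Nat) : Nat := @Bool.rec (fun _ => Nat) (Ptab_6936) (Ptab_6937) (Nat.ble 6937 c)
noncomputable def Ptab_s_6938_6940 (c : Nat) : Nat := @Bool.rec (fun _ => Nat) (Ptab_6938) (Ptab_6939) (Nat.ble 6939 c)
noncomputable def Ptab_s_6936_6940 (c : Nat) : Nat := @Bool.rec (fun _ => Nat) (Ptab_s_6936_6938 c) (Ptab_s_6938_6940 c) (Nat.ble 6938 c)
noncomputable def Ptab_s_6940_6942 (c : Nat) : Nat := @Bool.rec (fun _ => Nat) (Ptab_6940) (Ptab_6941) (Nat.ble 6941 c)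
noncomputable def Ptab_s_6942_6944 (c : Nat) : Nat := @Bool.rec (fun _ => Nat) (Ptab_6942) (Ptab_6943) (Nat.ble 6943 c)
noncomputable def Ptab_s_6940_6944 (c : Nat) : Nat := @Bool.rec (fun _ => Nat) (Ptab_s_6940_6942 c) (Ptab_s_6942_6944 c) (Nat.ble 6942 c)
noncomputable def Ptab_s_6936_6944 (c : Nat) : Nat := @Bool.rec (fun _ => Nat) (Ptab_s_6936_6940 c) (Ptab_s_6940_6944 c) (Nat.ble 6940 c)
noncomputable def Ptab_s_6929_6944 (c : Nat) : Nat := @Bool.rec (fun _ => Nat) (Ptab_s_6929_6936 c) (Ptab_s_6936_6944 c) (Nat.ble 6936 c)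
noncomputable def Ptab_s_6914_6944 (c : Nat) : Nat := @Bool.rec (fun _ => Nat) (Ptab_s_6914_6929 c) (Ptab_s_6929_6944 c) (Nat.ble 6929 c)
noncomputable def Ptab_s_6945_6947 (c : Nat) : Nat := @Bool.rec (fun _ => Nat) (Ptab_6945) (Ptab_6946) (Nat.ble 6946 c)
noncomputable def Ptab_s_6944_6947 (c : Nat) : Nat := @Bool.rec (fun _ => Nat) (Ptab_6944) (Ptab_s_6945_6947 c) (Nat.ble 6945 c)
noncomputable def Ptab_s_6947_6949 (c : Nat) : Nat := @Bool.rec (fun _ => Nat) (Ptab_6947) (Ptab_6948) (Nat.ble 6948 c)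
noncomputable def Ptab_s_6949_6951 (c : Nat) : Nat := @Bool.rec (fun _ => Nat) (Ptab_6949) (Ptab_6950) (Nat.ble 6950 c)
noncomputable def Ptab_s_6947_6951 (c : Nat) : Nat := @Bool.rec (fun _ => Nat) (Ptab_s_6947_6949 c) (Ptab_s_6949_6951 c) (Nat.ble 6949 c)
noncomputable def Ptab_s_6944_6951 (c : Nat) : Nat := @Bool.rec (fun _ => Nat) (Ptab_s_6944_6947 c) (Ptab_s_6947_6951 c) (Nat.ble 6947 c)
noncomputable def Ptab_s_6951_6953 (c : Nat) : Nat := @Bool.rec (fun _ => Nat) (Ptab_6951) (Ptab_6952) (Nat.ble 6952 c)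
noncomputable def Ptab_s_6953_6955 (c : Nat) : Nat := @Bool.rec (fun _ => Nat) (Ptab_6953) (Ptab_6954) (Nat.ble 6954 c)
noncomputable def Ptab_s_6951_6955 (c : Nat) : Nat := @Bool.rec (fun _ => Nat) (Ptab_s_6951_6953 c) (Ptab_s_6953_6955 c) (Nat.ble 6953 c)
noncomputable def Ptab_s_6955_6957 (c : Nat) : Nat := @Bool.rec (fun _ => Nat) (Ptab_6955) (Ptab_6956) (Nat.ble 6956 c)
noncomputable def Ptab_s_6957_6959 (c : Nat) : Nat := @Bool.rec (fun _ => Nat) (Ptab_6957) (Ptab_6958) (Nat.ble 6958 c)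
noncomputable def Ptab_s_6955_6959 (c : Nat) : Nat := @Bool.rec (fun _ => Nat) (Ptab_s_6955_6957 c) (Ptab_s_6957_6959 c) (Nat.ble 6957 c)
noncomputable def Ptab_s_6951_6959 (c : Nat) : Nat := @Bool.rec (fun _ => Nat) (Ptab_s_6951_6955 c) (Ptab_s_6955_6959 c) (Nat.ble 6955 c)
noncomputable def Ptab_s_6944_6959 (c : Nat) : Nat := @Bool.rec (fun _ => Nat) (Ptab_s_6944_6951 c) (Ptab_s_6951_6959 c) (Nat.ble 6951 c)
noncomputable def Ptab_s_6959_6961 (c : Nat) : Nat := @Bool.rec (fun _ => Nat) (Ptab_6959) (Ptab_6960) (Nat.ble 6960 c)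
noncomputable def Ptab_s_6961_6963 (c : Nat) : Nat := @Bool.rec (fun _ => Nat) (Ptab_6961) (Ptab_6962) (Nat.ble 6962 c)
noncomputable def Ptab_s_6959_6963 (c : Nat) : Nat := @Bool.rec (fun _ => Nat) (Ptab_s_6959_6961 c) (Ptab_s_6961_6963 c) (Nat.ble 6961 c)
noncomputable def Ptab_s_6963_6965 (c : Nat) : Nat := @Bool.rec (fun _ => Nat) (Ptab_6963) (Ptab_6964) (Nat.ble 6964 c)
noncomputable def Ptab_s_6965_6967 (c : Nat) : Nat := @Bool.rec (fun _ => Nat) (Ptab_6965) (Ptab_6966) (Nat.ble 6966 c)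
noncomputable def Ptab_s_6963_6967 (c : Nat) : Nat := @Bool.rec (fun _ => Nat) (Ptab_s_6963_6965 c) (Ptab_s_6965_6967 c) (Nat.ble 6965 c)
noncomputable def Ptab_s_6959_6967 (c : Nat) : Nat := @Bool.rec (fun _ => Nat) (Ptab_s_6959_6963 c) (Ptab_s_6963_6967 c) (Nat.ble 6963 c)
noncomputable def Ptab_s_6967_6969 (c : Nat) : Nat := @Bool.rec (fun _ => Nat) (Ptab_6967) (Ptab_6968) (Nat.ble 6968 c)
noncomputable def Ptab_s_6969_6971 (c : Nat) : Nat := @Bool.rec (fun _ => Nat) (Ptab_6969) (Ptab_6970) (Nat.ble 6970 c)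
noncomputable def Ptab_s_6967_6971 (c : Nat) : Nat := @Bool.rec (fun _ => Nat) (Ptab_s_6967_6969 c) (Ptab_s_6969_6971 c) (Nat.ble 6969 c)
noncomputable def Ptab_s_6971_6973 (c : Nat) : Nat := @Bool.rec (fun _ => Nat) (Ptab_6971) (Ptab_6972) (Nat.ble 6972 c)
noncomputable def Ptab_s_6973_6975 (c : Nat) : Nat := @Bool.rec (fun _ => Nat) (Ptab_6973) (Ptab_6974) (Nat.ble 6974 c)
noncomputable def Ptab_s_6971_6975 (c : Nat) : Nat := @Bool.rec (fun _ => Nat) (Ptab_s_6971_6973 c) (Ptab_s_6973_6975 c) (Nat.ble 6973 c)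
noncomputable def Ptab_s_6967_6975 (c : Nat) : Nat := @Bool.rec (fun _ => Nat) (Ptab_s_6967_6971 c) (Ptab_s_6971_6975 c) (Nat.ble 6971 c)
noncomputable def Ptab_s_6959_6975 (c : Nat) : Nat := @Bool.rec (fun _ => Nat) (Ptab_s_6959_6967 c) (Ptab_s_6967_6975 c) (Nat.ble 6967 c)
noncomputable def Ptab_s_6944_6975 (c : Nat) : Nat := @Bool.rec (fun _ => Nat) (Ptab_s_6944_6959 c) (Ptab_s_6959_6975 c) (Nat.ble 6959 c)
noncomputable def Ptab_s_6914_6975 (c : Nat) : Nat := @Bool.rec (fun _ => Nat) (Ptab_s_6914_6944 c) (Ptab_s_6944_6975 c) (Nat.ble 6944 c)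
noncomputable def Ptab_s_6853_6975 (c : Nat) : Nat := @Bool.rec (fun _ => Nat) (Ptab_s_6853_6914 c) (Ptab_s_6914_6975 c) (Nat.ble 6914 c)
noncomputable def Ptab_s_6976_6978 (c : Nat) : Nat := @Bool.rec (fun _ => Nat) (Ptab_6976) (Ptab_6977) (Nat.ble 6977 c)
noncomputable def Ptab_s_6975_6978 (c : Nat) : Nat := @Bool.rec (fun _ => Nat) (Ptab_6975) (Ptab_s_6976_6978 c) (Nat.ble 6976 c)
noncomputable def Ptab_s_6978_6980 (c : Nat) : Nat := @Bool.rec (fun _ => Nat) (Ptab_6978) (Ptab_6979) (Nat.ble 6979 c)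
noncomputable def Ptab_s_6980_6982 (c : Nat) : Nat := @Bool.rec (fun _ => Nat) (Ptab_6980) (Ptab_6981) (Nat.ble 6981 c)
noncomputable def Ptab_s_6978_6982 (c : Nat) : Nat := @Bool.rec (fun _ => Nat) (Ptab_s_6978_6980 c) (Ptab_s_6980_6982 c) (Nat.ble 6980 c)
noncomputable def Ptab_s_6975_6982 (c : Nat) : Nat := @Bool.rec (fun _ => Nat) (Ptab_s_6975_6978 c) (Ptab_s_6978_6982 c) (Nat.ble 6978 c)
noncomputable def Ptab_s_6982_6984 (c : Nat) : Nat := @Bool.rec (fun _ => Nat) (Ptab_6982) (Ptab_6983) (Nat.ble 6983 c)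
noncomputable def Ptab_s_6984_6986 (c : Nat) : Nat := @Bool.rec (fun _ => Nat) (Ptab_6984) (Ptab_6985) (Nat.ble 6985 c)
noncomputable def Ptab_s_6982_6986 (c : Nat) : Nat := @Bool.rec (fun _ => Nat) (Ptab_s_6982_6984 c) (Ptab_s_6984_6986 c) (Nat.ble 6984 c)
noncomputable def Ptab_s_6986_6988 (c : Nat) : Nat := @Bool.rec (fun _ => Nat) (Ptab_6986) (Ptab_6987) (Nat.ble 6987 c)
noncomputable def Ptab_s_6988_6990 (c : Nat) : Nat := @Bool.rec (fun _ => Nat) (Ptab_6988) (Ptab_6989) (Nat.ble 6989 c)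
noncomputable def Ptab_s_6986_6990 (c : Nat) : Nat := @Bool.rec (fun _ => Nat) (Ptab_s_6986_6988 c) (Ptab_s_6988_6990 c) (Nat.ble 6988 c)
noncomputable def Ptab_s_6982_6990 (c : Nat) : Nat := @Bool.rec (fun _ => Nat) (Ptab_s_6982_6986 c) (Ptab_s_6986_6990 c) (Nat.ble 6986 c)
noncomputable def Ptab_s_6975_6990 (c : Nat) : Nat := @Bool.rec (fun _ => Nat) (Ptab_s_6975_6982 c) (Ptab_s_6982_6990 c) (Nat.ble 6982 c)
noncomputable def Ptab_s_6991_6993 (c : Nat) : Nat := @Bool.rec (fun _ => Nat) (Ptab_6991) (Ptab_6992) (Nat.ble 6992 c)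
noncomputable def Ptab_s_6990_6993 (c : Nat) : Nat := @Bool.rec (fun _ => Nat) (Ptab_6990) (Ptab_s_6991_6993 c) (Nat.ble 6991 c)
noncomputable def Ptab_s_6993_6995 (c : Nat) : Nat := @Bool.rec (fun _ => Nat) (Ptab_6993) (Ptab_6994) (Nat.ble 6994 c)
noncomputable def Ptab_s_6995_6997 (c : Nat) : Nat := @Bool.rec (fun _ => Nat) (Ptab_6995) (Ptab_6996) (Nat.ble 6996 c)
noncomputable def Ptab_s_6993_6997 (c : Nat) : Nat := @Bool.rec (fun _ => Nat) (Ptab_s_6993_6995 c) (Ptab_s_6995_6997 c) (Nat.ble 6995 c)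
noncomputable def Ptab_s_6990_6997 (c : Nat) : Nat := @Bool.rec (fun _ => Nat) (Ptab_s_6990_6993 c) (Ptab_s_6993_6997 c) (Nat.ble 6993 c)
noncomputable def Ptab_s_6997_6999 (c : Nat) : Nat := @Bool.rec (fun _ => Nat) (Ptab_6997) (Ptab_6998) (Nat.ble 6998 c)
noncomputable def Ptab_s_6999_7001 (c : Nat) : Nat := @Bool.rec (fun _ => Nat) (Ptab_6999) (Ptab_7000) (Nat.ble 7000 c)
noncomputable def Ptab_s_6997_7001 (c : Nat) : Nat := @Bool.rec (fun _ => Nat) (Ptab_s_6997_6999 c) (Ptab_s_6999_7001 c) (Nat.ble 6999 c)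
noncomputable def Ptab_s_7001_7003 (c : Nat) : Nat := @Bool.rec (fun _ => Nat) (Ptab_7001) (Ptab_7002) (Nat.ble 7002 c)
noncomputable def Ptab_s_7003_7005 (c : Nat) : Nat := @Bool.rec (fun _ => Nat) (Ptab_7003) (Ptab_7004) (Nat.ble 7004 c)
noncomputable def Ptab_s_7001_7005 (c : Nat) : Nat := @Bool.rec (fun _ => Nat) (Ptab_s_7001_7003 c) (Ptab_s_7003_7005 c) (Nat.ble 7003 c)
noncomputable def Ptab_s_6997_7005 (c : Nat) : Nat := @Bool.rec (fun _ => Nat) (Ptab_s_6997_7001 c) (Ptab_s_7001_7005 c) (Nat.ble 7001 c)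
noncomputable def Ptab_s_6990_7005 (c : Nat) : Nat := @Bool.rec (fun _ => Nat) (Ptab_s_6990_6997 c) (Ptab_s_6997_7005 c) (Nat.ble 6997 c)
noncomputable def Ptab_s_6975_7005 (c : Nat) : Nat := @Bool.rec (fun _ => Nat) (Ptab_s_6975_6990 c) (Ptab_s_6990_7005 c) (Nat.ble 6990 c)
noncomputable def Ptab_s_7006_7008 (c : Nat) : Nat := @Bool.rec (fun _ => Nat) (Ptab_7006) (Ptab_7007) (Nat.ble 7007 c)
noncomputable def Ptab_s_7005_7008 (c : Nat) : Nat := @Bool.rec (fun _ => Nat) (Ptab_7005) (Ptab_s_7006_7008 c) (Nat.ble 7006 c)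
noncomputable def Ptab_s_7008_7010 (c : Nat) : Nat := @Bool.rec (fun _ => Nat) (Ptab_7008) (Ptab_7009) (Nat.ble 7009 c)
noncomputable def Ptab_s_7010_7012 (c : Nat) : Nat := @Bool.rec (fun _ => Nat) (Ptab_7010) (Ptab_7011) (Nat.ble 7011 c)
noncomputable def Ptab_s_7008_7012 (c : Nat) : Nat := @Bool.rec (fun _ => Nat) (Ptab_s_7008_7010 c) (Ptab_s_7010_7012 c) (Nat.ble 7010 c)
noncomputable def Ptab_s_7005_7012 (c : Nat) : Nat := @Bool.rec (fun _ => Nat) (Ptab_s_7005_7008 c) (Ptab_s_7008_7012 c) (Nat.ble 7008 c)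
noncomputable def Ptab_s_7012_7014 (c : Nat) : Nat := @Bool.rec (fun _ => Nat) (Ptab_7012) (Ptab_7013) (Nat.ble 7013 c)
noncomputable def Ptab_s_7014_7016 (c : Nat) : Nat := @Bool.rec (fun _ => Nat) (Ptab_7014) (Ptab_7015) (Nat.ble 7015 c)
noncomputable def Ptab_s_7012_7016 (c : Nat) : Nat := @Bool.rec (fun _ => Nat) (Ptab_s_7012_7014 c) (Ptab_s_7014_7016 c) (Nat.ble 7014 c)
noncomputable def Ptab_s_7016_7018 (c : Nat) : Nat := @Bool.rec (fun _ => Nat) (Ptab_7016) (Ptab_7017) (Nat.ble 7017 c)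
noncomputable def Ptab_s_7018_7020 (c : Nat) : Nat := @Bool.rec (fun _ => Nat) (Ptab_7018) (Ptab_7019) (Nat.ble 7019 c)
noncomputable def Ptab_s_7016_7020 (c : Nat) : Nat := @Bool.rec (fun _ => Nat) (Ptab_s_7016_7018 c) (Ptab_s_7018_7020 c) (Nat.ble 7018 c)
noncomputable def Ptab_s_7012_7020 (c : Nat) : Nat := @Bool.rec (fun _ => Nat) (Ptab_s_7012_7016 c) (Ptab_s_7016_7020 c) (Nat.ble 7016 c)
noncomputable def Ptab_s_7005_7020 (c : Nat) : Nat := @Bool.rec (fun _ => Nat) (Ptab_s_7005_7012 c) (Ptab_s_7012_7020 c) (Nat.ble 7012 c)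
noncomputable def Ptab_s_7020_7022 (c : Nat) : Nat := @Bool.rec (fun _ => Nat) (Ptab_7020) (Ptab_7021) (Nat.ble 7021 c)
noncomputable def Ptab_s_7022_7024 (c : Nat) : Nat := @Bool.rec (fun _ => Nat) (Ptab_7022) (Ptab_7023) (Nat.ble 7023 c)
noncomputable def Ptab_s_7020_7024 (c : Nat) : Nat := @Bool.rec (fun _ => Nat) (Ptab_s_7020_7022 c) (Ptab_s_7022_7024 c) (Nat.ble 7022 c)
noncomputable def Ptab_s_7024_7026 (c : Nat) : Nat := @Bool.rec (fun _ => Nat) (Ptab_7024) (Ptab_7025) (Nat.ble 7025 c)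
noncomputable def Ptab_s_7026_7028 (c : Nat) : Nat := @Bool.rec (fun _ => Nat) (Ptab_7026) (Ptab_7027) (Nat.ble 7027 c)
noncomputable def Ptab_s_7024_7028 (c : Nat) : Nat := @Bool.rec (fun _ => Nat) (Ptab_s_7024_7026 c) (Ptab_s_7026_7028 c) (Nat.ble 7026 c)
noncomputable def Ptab_s_7020_7028 (c : Nat) : Nat := @Bool.rec (fun _ => Nat) (Ptab_s_7020_7024 c) (Ptab_s_7024_7028 c) (Nat.ble 7024 c)
noncomputable def Ptab_s_7028_7030 (c : Nat) : Nat := @Bool.rec (fun _ => Nat) (Ptab_7028) (Ptab_7029) (Nat.ble 7029 c)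
noncomputable def Ptab_s_7030_7032 (c : Nat) : Nat := @Bool.rec (fun _ => Nat) (Ptab_7030) (Ptab_7031) (Nat.ble 7031 c)
noncomputable def Ptab_s_7028_7032 (c : Nat) : Nat := @Bool.rec (fun _ => Nat) (Ptab_s_7028_7030 c) (Ptab_s_7030_7032 c) (Nat.ble 7030 c)
noncomputable def Ptab_s_7032_7034 (c : Nat) : Nat := @Bool.rec (fun _ => Nat) (Ptab_7032) (Ptab_7033) (Nat.ble 7033 c)
noncomputable def Ptab_s_7034_7036 (c : Nat) : Nat := @Bool.rec (fun _ => Nat) (Ptab_7034) (Ptab_7035) (Nat.ble 7035 c)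
noncomputable def Ptab_s_7032_7036 (c : Nat) : Nat := @Bool.rec (fun _ => Nat) (Ptab_s_7032_7034 c) (Ptab_s_7034_7036 c) (Nat.ble 7034 c)
noncomputable def Ptab_s_7028_7036 (c : Nat) : Nat := @Bool.rec (fun _ => Nat) (Ptab_s_7028_7032 c) (Ptab_s_7032_7036 c) (Nat.ble 7032 c)
noncomputable def Ptab_s_7020_7036 (c : Nat) : Nat := @Bool.rec (fun _ => Nat) (Ptab_s_7020_7028 c) (Ptab_s_7028_7036 c) (Nat.ble 7028 c)
noncomputable def Ptab_s_7005_7036 (c : Nat) : Nat := @Bool.rec (fun _ => Nat) (Ptab_s_7005_7020 c) (Ptab_s_7020_7036 c) (Nat.ble 7020 c)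
noncomputable def Ptab_s_6975_7036 (c : Nat) : Nat := @Bool.rec (fun _ => Nat) (Ptab_s_6975_7005 c) (Ptab_s_7005_7036 c) (Nat.ble 7005 c)
noncomputable def Ptab_s_7037_7039 (c : Nat) : Nat := @Bool.rec (fun _ => Nat) (Ptab_7037) (Ptab_7038) (Nat.ble 7038 c)
noncomputable def Ptab_s_7036_7039 (c : Nat) : Nat := @Bool.rec (fun _ => Nat) (Ptab_7036) (Ptab_s_7037_7039 c) (Nat.ble 7037 c)
noncomputable def Ptab_s_7039_7041 (c : Nat) : Nat := @Bool.rec (fun _ => Nat) (Ptab_7039) (Ptab_7040) (Nat.ble 7040 c)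
noncomputable def Ptab_s_7041_7043 (c : Nat) : Nat := @Bool.rec (fun _ => Nat) (Ptab_7041) (Ptab_7042) (Nat.ble 7042 c)
noncomputable def Ptab_s_7039_7043 (c : Nat) : Nat := @Bool.rec (fun _ => Nat) (Ptab_s_7039_7041 c) (Ptab_s_7041_7043 c) (Nat.ble 7041 c)
noncomputable def Ptab_s_7036_7043 (c : Nat) : Nat := @Bool.rec (fun _ => Nat) (Ptab_s_7036_7039 c) (Ptab_s_7039_7043 c) (Nat.ble 7039 c)
noncomputable def Ptab_s_7043_7045 (c : Nat) : Nat := @Bool.rec (fun _ => Nat) (Ptab_7043) (Ptab_7044) (Nat.ble 7044 c)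
noncomputable def Ptab_s_7045_7047 (c : Nat) : Nat := @Bool.rec (fun _ => Nat) (Ptab_7045) (Ptab_7046) (Nat.ble 7046 c)
noncomputable def Ptab_s_7043_7047 (c : Nat) : Nat := @Bool.rec (fun _ => Nat) (Ptab_s_7043_7045 c) (Ptab_s_7045_7047 c) (Nat.ble 7045 c)
noncomputable def Ptab_s_7047_7049 (c : Nat) : Nat := @Bool.rec (fun _ => Nat) (Ptab_7047) (Ptab_7048) (Nat.ble 7048 c)
noncomputable def Ptab_s_7049_7051 (c : Nat) : Nat := @Bool.rec (fun _ => Nat) (Ptab_7049) (Ptab_7050) (Nat.ble 7050 c)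
noncomputable def Ptab_s_7047_7051 (c : Nat) : Nat := @Bool.rec (fun _ => Nat) (Ptab_s_7047_7049 c) (Ptab_s_7049_7051 c) (Nat.ble 7049 c)
noncomputable def Ptab_s_7043_7051 (c : Nat) : Nat := @Bool.rec (fun _ => Nat) (Ptab_s_7043_7047 c) (Ptab_s_7047_7051 c) (Nat.ble 7047 c)
noncomputable def Ptab_s_7036_7051 (c : Nat) : Nat := @Bool.rec (fun _ => Nat) (Ptab_s_7036_7043 c) (Ptab_s_7043_7051 c) (Nat.ble 7043 c)
noncomputable def Ptab_s_7051_7053 (c : Nat) : Nat := @Bool.rec (fun _ => Nat) (Ptab_7051) (Ptab_7052) (Nat.ble 7052 c)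
noncomputable def Ptab_s_7053_7055 (c : Nat) : Nat := @Bool.rec (fun _ => Nat) (Ptab_7053) (Ptab_7054) (Nat.ble 7054 c)
noncomputable def Ptab_s_7051_7055 (c : Nat) : Nat := @Bool.rec (fun _ => Nat) (Ptab_s_7051_7053 c) (Ptab_s_7053_7055 c) (Nat.ble 7053 c)
noncomputable def Ptab_s_7055_7057 (c : Nat) : Nat := @Bool.rec (fun _ => Nat) (Ptab_7055) (Ptab_7056) (Nat.ble 7056 c)
noncomputable def Ptab_s_7057_7059 (c : Nat) : Nat := @Bool.rec (fun _ => Nat) (Ptab_7057) (Ptab_7058) (Nat.ble 7058 c)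
noncomputable def Ptab_s_7055_7059 (c : Nat) : Nat := @Bool.rec (fun _ => Nat) (Ptab_s_7055_7057 c) (Ptab_s_7057_7059 c) (Nat.ble 7057 c)
noncomputable def Ptab_s_7051_7059 (c : Nat) : Nat := @Bool.rec (fun _ => Nat) (Ptab_s_7051_7055 c) (Ptab_s_7055_7059 c) (Nat.ble 7055 c)
noncomputable def Ptab_s_7059_7061 (c : Nat) : Nat := @Bool.rec (fun _ => Nat) (Ptab_7059) (Ptab_7060) (Nat.ble 7060 c)
noncomputable def Ptab_s_7061_7063 (c : Nat) : Nat := @Bool.rec (fun _ => Nat) (Ptab_7061) (Ptab_7062) (Nat.ble 7062 c)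
noncomputable def Ptab_s_7059_7063 (c : Nat) : Nat := @Bool.rec (fun _ => Nat) (Ptab_s_7059_7061 c) (Ptab_s_7061_7063 c) (Nat.ble 7061 c)
noncomputable def Ptab_s_7063_7065 (c : Nat) : Nat := @Bool.rec (fun _ => Nat) (Ptab_7063) (Ptab_7064) (Nat.ble 7064 c)
noncomputable def Ptab_s_7065_7067 (c : Nat) : Nat := @Bool.rec (fun _ => Nat) (Ptab_7065) (Ptab_7066) (Nat.ble 7066 c)
noncomputable def Ptab_s_7063_7067 (c : Nat) : Nat := @Bool.rec (fun _ => Nat) (Ptab_s_7063_7065 c) (Ptab_s_7065_7067 c) (Nat.ble 7065 c)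
noncomputable def Ptab_s_7059_7067 (c : Nat) : Nat := @Bool.rec (fun _ => Nat) (Ptab_s_7059_7063 c) (Ptab_s_7063_7067 c) (Nat.ble 7063 c)
noncomputable def Ptab_s_7051_7067 (c : Nat) : Nat := @Bool.rec (fun _ => Nat) (Ptab_s_7051_7059 c) (Ptab_s_7059_7067 c) (Nat.ble 7059 c)
noncomputable def Ptab_s_7036_7067 (c : Nat) : Nat := @Bool.rec (fun _ => Nat) (Ptab_s_7036_7051 c) (Ptab_s_7051_7067 c) (Nat.ble 7051 c)
noncomputable def Ptab_s_7068_7070 (c : Nat) : Nat := @Bool.rec (fun _ => Nat) (Ptab_7068) (Ptab_7069) (Nat.ble 7069 c)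
noncomputable def Ptab_s_7067_7070 (c : Nat) : Nat := @Bool.rec (fun _ => Nat) (Ptab_7067) (Ptab_s_7068_7070 c) (Nat.ble 7068 c)
noncomputable def Ptab_s_7070_7072 (c : Nat) : Nat := @Bool.rec (fun _ => Nat) (Ptab_7070) (Ptab_7071) (Nat.ble 7071 c)
noncomputable def Ptab_s_7072_7074 (c : Nat) : Nat := @Bool.rec (fun _ => Nat) (Ptab_7072) (Ptab_7073) (Nat.ble 7073 c)
noncomputable def Ptab_s_7070_7074 (c : Nat) : Nat := @Bool.rec (fun _ => Nat) (Ptab_s_7070_7072 c) (Ptab_s_7072_7074 c) (Nat.ble 7072 c)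
noncomputable def Ptab_s_7067_7074 (c : Nat) : Nat := @Bool.rec (fun _ => Nat) (Ptab_s_7067_7070 c) (Ptab_s_7070_7074 c) (Nat.ble 7070 c)
noncomputable def Ptab_s_7074_7076 (c : Nat) : Nat := @Bool.rec (fun _ => Nat) (Ptab_7074) (Ptab_7075) (Nat.ble 7075 c)
noncomputable def Ptab_s_7076_7078 (c : Nat) : Nat := @Bool.rec (fun _ => Nat) (Ptab_7076) (Ptab_7077) (Nat.ble 7077 c)
noncomputable def Ptab_s_7074_7078 (c : Nat) : Nat := @Bool.rec (fun _ => Nat) (Ptab_s_7074_7076 c) (Ptab_s_7076_7078 c) (Nat.ble 7076 c)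
noncomputable def Ptab_s_7078_7080 (c : Nat) : Nat := @Bool.rec (fun _ => Nat) (Ptab_7078) (Ptab_7079) (Nat.ble 7079 c)
noncomputable def Ptab_s_7080_7082 (c : Nat) : Nat := @Bool.rec (fun _ => Nat) (Ptab_7080) (Ptab_7081) (Nat.ble 7081 c)
noncomputable def Ptab_s_7078_7082 (c : Nat) : Nat := @Bool.rec (fun _ => Nat) (Ptab_s_7078_7080 c) (Ptab_s_7080_7082 c) (Nat.ble 7080 c)
noncomputable def Ptab_s_7074_7082 (c : Nat) : Nat := @Bool.rec (fun _ => Nat) (Ptab_s_7074_7078 c) (Ptab_s_7078_7082 c) (Nat.ble 7078 c)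
noncomputable def Ptab_s_7067_7082 (c : Nat) : Nat := @Bool.rec (fun _ => Nat) (Ptab_s_7067_7074 c) (Ptab_s_7074_7082 c) (Nat.ble 7074 c)
noncomputable def Ptab_s_7082_7084 (c : Nat) : Nat := @Bool.rec (fun _ => Nat) (Ptab_7082) (Ptab_7083) (Nat.ble 7083 c)
noncomputable def Ptab_s_7084_7086 (c : Nat) : Nat := @Bool.rec (fun _ => Nat) (Ptab_7084) (Ptab_7085) (Nat.ble 7085 c)
noncomputable def Ptab_s_7082_7086 (c : Nat) : Nat := @Bool.rec (fun _ => Nat) (Ptab_s_7082_7084 c) (Ptab_s_7084_7086 c) (Nat.ble 7084 c)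
noncomputable def Ptab_s_7086_7088 (c : Nat) : Nat := @Bool.rec (fun _ => Nat) (Ptab_7086) (Ptab_7087) (Nat.ble 7087 c)
noncomputable def Ptab_s_7088_7090 (c : Nat) : Nat := @Bool.rec (fun _ => Nat) (Ptab_7088) (Ptab_7089) (Nat.ble 7089 c)
noncomputable def Ptab_s_7086_7090 (c : Nat) : Nat := @Bool.rec (fun _ => Nat) (Ptab_s_7086_7088 c) (Ptab_s_7088_7090 c) (Nat.ble 7088 c)
noncomputable def Ptab_s_7082_7090 (c : Nat) : Nat := @Bool.rec (fun _ => Nat) (Ptab_s_7082_7086 c) (Ptab_s_7086_7090 c) (Nat.ble 7086 c)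
noncomputable def Ptab_s_7090_7092 (c : Nat) : Nat := @Bool.rec (fun _ => Nat) (Ptab_7090) (Ptab_7091) (Nat.ble 7091 c)
noncomputable def Ptab_s_7092_7094 (c : Nat) : Nat := @Bool.rec (fun _ => Nat) (Ptab_7092) (Ptab_7093) (Nat.ble 7093 c)
noncomputable def Ptab_s_7090_7094 (c : Nat) : Nat := @Bool.rec (fun _ => Nat) (Ptab_s_7090_7092 c) (Ptab_s_7092_7094 c) (Nat.ble 7092 c)
noncomputable def Ptab_s_7094_7096 (c : Nat) : Nat := @Bool.rec (fun _ => Nat) (Ptab_7094) (Ptab_7095) (Nat.ble 7095 c)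
noncomputable def Ptab_s_7096_7098 (c : Nat) : Nat := @Bool.rec (fun _ => Nat) (Ptab_7096) (Ptab_7097) (Nat.ble 7097 c)
noncomputable def Ptab_s_7094_7098 (c : Nat) : Nat := @Bool.rec (fun _ => Nat) (Ptab_s_7094_7096 c) (Ptab_s_7096_7098 c) (Nat.ble 7096 c)
noncomputable def Ptab_s_7090_7098 (c : Nat) : Nat := @Bool.rec (fun _ => Nat) (Ptab_s_7090_7094 c) (Ptab_s_7094_7098 c) (Nat.ble 7094 c)
noncomputable def Ptab_s_7082_7098 (c : Nat) : Nat := @Bool.rec (fun _ => Nat) (Ptab_s_7082_7090 c) (Ptab_s_7090_7098 c) (Nat.ble 7090 c)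
noncomputable def Ptab_s_7067_7098 (c : Nat) : Nat := @Bool.rec (fun _ => Nat) (Ptab_s_7067_7082 c) (Ptab_s_7082_7098 c) (Nat.ble 7082 c)
noncomputable def Ptab_s_7036_7098 (c : Nat) : Nat := @Bool.rec (fun _ => Nat) (Ptab_s_7036_7067 c) (Ptab_s_7067_7098 c) (Nat.ble 7067 c)
noncomputable def Ptab_s_6975_7098 (c : Nat) : Nat := @Bool.rec (fun _ => Nat) (Ptab_s_6975_7036 c) (Ptab_s_7036_7098 c) (Nat.ble 7036 c)
noncomputable def Ptab_s_6853_7098 (c : Nat) : Nat := @Bool.rec (fun _ => Nat) (Ptab_s_6853_6975 c) (Ptab_s_6975_7098 c) (Nat.ble 6975 c)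
noncomputable def Ptab_s_7099_7101 (c : Nat) : Nat := @Bool.rec (fun _ => Nat) (Ptab_7099) (Ptab_7100) (Nat.ble 7100 c)
noncomputable def Ptab_s_7098_7101 (c : Nat) : Nat := @Bool.rec (fun _ => Nat) (Ptab_7098) (Ptab_s_7099_7101 c) (Nat.ble 7099 c)
noncomputable def Ptab_s_7101_7103 (c : Nat) : Nat := @Bool.rec (fun _ => Nat) (Ptab_7101) (Ptab_7102) (Nat.ble 7102 c)
noncomputable def Ptab_s_7103_7105 (c : Nat) : Nat := @Bool.rec (fun _ => Nat) (Ptab_7103) (Ptab_7104) (Nat.ble 7104 c)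
noncomputable def Ptab_s_7101_7105 (c : Nat) : Nat := @Bool.rec (fun _ => Nat) (Ptab_s_7101_7103 c) (Ptab_s_7103_7105 c) (Nat.ble 7103 c)
noncomputable def Ptab_s_7098_7105 (c : Nat) : Nat := @Bool.rec (fun _ => Nat) (Ptab_s_7098_7101 c) (Ptab_s_7101_7105 c) (Nat.ble 7101 c)
noncomputable def Ptab_s_7105_7107 (c : Nat) : Nat := @Bool.rec (fun _ => Nat) (Ptab_7105) (Ptab_7106) (Nat.ble 7106 c)
noncomputable def Ptab_s_7107_7109 (c : Nat) : Nat := @Bool.rec (fun _ => Nat) (Ptab_7107) (Ptab_7108) (Nat.ble 7108 c)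
noncomputable def Ptab_s_7105_7109 (c : Nat) : Nat := @Bool.rec (fun _ => Nat) (Ptab_s_7105_7107 c) (Ptab_s_7107_7109 c) (Nat.ble 7107 c)
noncomputable def Ptab_s_7109_7111 (c : Nat) : Nat := @Bool.rec (fun _ => Nat) (Ptab_7109) (Ptab_7110) (Nat.ble 7110 c)
noncomputable def Ptab_s_7111_7113 (c : Nat) : Nat := @Bool.rec (fun _ => Nat) (Ptab_7111) (Ptab_7112) (Nat.ble 7112 c)
noncomputable def Ptab_s_7109_7113 (c : Nat) : Nat := @Bool.rec (fun _ => Nat) (Ptab_s_7109_7111 c) (Ptab_s_7111_7113 c) (Nat.ble 7111 c)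
noncomputable def Ptab_s_7105_7113 (c : Nat) : Nat := @Bool.rec (fun _ => Nat) (Ptab_s_7105_7109 c) (Ptab_s_7109_7113 c) (Nat.ble 7109 c)
noncomputable def Ptab_s_7098_7113 (c : Nat) : Nat := @Bool.rec (fun _ => Nat) (Ptab_s_7098_7105 c) (Ptab_s_7105_7113 c) (Nat.ble 7105 c)
noncomputable def Ptab_s_7114_7116 (c : Nat) : Nat := @Bool.rec (fun _ => Nat) (Ptab_7114) (Ptab_7115) (Nat.ble 7115 c)
noncomputable def Ptab_s_7113_7116 (c : Nat) : Nat := @Bool.rec (fun _ => Nat) (Ptab_7113) (Ptab_s_7114_7116 c) (Nat.ble 7114 c)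
noncomputable def Ptab_s_7116_7118 (c : Nat) : Nat := @Bool.rec (fun _ => Nat) (Ptab_7116) (Ptab_7117) (Nat.ble 7117 c)
noncomputable def Ptab_s_7118_7120 (c : Nat) : Nat := @Bool.rec (fun _ => Nat) (Ptab_7118) (Ptab_7119) (Nat.ble 7119 c)
noncomputable def Ptab_s_7116_7120 (c : Nat) : Nat := @Bool.rec (fun _ => Nat) (Ptab_s_7116_7118 c) (Ptab_s_7118_7120 c) (Nat.ble 7118 c)
noncomputable def Ptab_s_7113_7120 (c : Nat) : Nat := @Bool.rec (fun _ => Nat) (Ptab_s_7113_7116 c) (Ptab_s_7116_7120 c) (Nat.ble 7116 c)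
noncomputable def Ptab_s_7120_7122 (c : Nat) : Nat := @Bool.rec (fun _ => Nat) (Ptab_7120) (Ptab_7121) (Nat.ble 7121 c)
noncomputable def Ptab_s_7122_7124 (c : Nat) : Nat := @Bool.rec (fun _ => Nat) (Ptab_7122) (Ptab_7123) (Nat.ble 7123 c)
noncomputable def Ptab_s_7120_7124 (c : Nat) : Nat := @Bool.rec (fun _ => Nat) (Ptab_s_7120_7122 c) (Ptab_s_7122_7124 c) (Nat.ble 7122 c)
noncomputable def Ptab_s_7124_7126 (c : Nat) : Nat := @Bool.rec (fun _ => Nat) (Ptab_7124) (Ptab_7125) (Nat.ble 7125 c)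
noncomputable def Ptab_s_7126_7128 (c : Nat) : Nat := @Bool.rec (fun _ => Nat) (Ptab_7126) (Ptab_7127) (Nat.ble 7127 c)
noncomputable def Ptab_s_7124_7128 (c : Nat) : Nat := @Bool.rec (fun _ => Nat) (Ptab_s_7124_7126 c) (Ptab_s_7126_7128 c) (Nat.ble 7126 c)
noncomputable def Ptab_s_7120_7128 (c : Nat) : Nat := @Bool.rec (fun _ => Nat) (Ptab_s_7120_7124 c) (Ptab_s_7124_7128 c) (Nat.ble 7124 c)
noncomputable def Ptab_s_7113_7128 (c : Nat) : Nat := @Bool.rec (fun _ => Nat) (Ptab_s_7113_7120 c) (Ptab_s_7120_7128 c) (Nat.ble 7120 c)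
noncomputable def Ptab_s_7098_7128 (c : Nat) : Nat := @Bool.rec (fun _ => Nat) (Ptab_s_7098_7113 c) (Ptab_s_7113_7128 c) (Nat.ble 7113 c)
noncomputable def Ptab_s_7129_7131 (c : Nat) : Nat := @Bool.rec (fun _ => Nat) (Ptab_7129) (Ptab_7130) (Nat.ble 7130 c)
noncomputable def Ptab_s_7128_7131 (c : Nat) : Nat := @Bool.rec (fun _ => Nat) (Ptab_7128) (Ptab_s_7129_7131 c) (Nat.ble 7129 c)
noncomputable def Ptab_s_7131_7133 (c : Nat) : Nat := @Bool.rec (fun _ => Nat) (Ptab_7131) (Ptab_7132) (Nat.ble 7132 c)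
noncomputable def Ptab_s_7133_7135 (c : Nat) : Nat := @Bool.rec (fun _ => Nat) (Ptab_7133) (Ptab_7134) (Nat.ble 7134 c)
noncomputable def Ptab_s_7131_7135 (c : Nat) : Nat := @Bool.rec (fun _ => Nat) (Ptab_s_7131_7133 c) (Ptab_s_7133_7135 c) (Nat.ble 7133 c)
noncomputable def Ptab_s_7128_7135 (c : Nat) : Nat := @Bool.rec (fun _ => Nat) (Ptab_s_7128_7131 c) (Ptab_s_7131_7135 c) (Nat.ble 7131 c)
noncomputable def Ptab_s_7135_7137 (c : Nat) : Nat := @Bool.rec (fun _ => Nat) (Ptab_7135) (Ptab_7136) (Nat.ble 7136 c)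
noncomputable def Ptab_s_7137_7139 (c : Nat) : Nat := @Bool.rec (fun _ => Nat) (Ptab_7137) (Ptab_7138) (Nat.ble 7138 c)
noncomputable def Ptab_s_7135_7139 (c : Nat) : Nat := @Bool.rec (fun _ => Nat) (Ptab_s_7135_7137 c) (Ptab_s_7137_7139 c) (Nat.ble 7137 c)
noncomputable def Ptab_s_7139_7141 (c : Nat) : Nat := @Bool.rec (fun _ => Nat) (Ptab_7139) (Ptab_7140) (Nat.ble 7140 c)
noncomputable def Ptab_s_7141_7143 (c : Nat) : Nat := @Bool.rec (fun _ => Nat) (Ptab_7141) (Ptab_7142) (Nat.ble 7142 c)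
noncomputable def Ptab_s_7139_7143 (c : Nat) : Nat := @Bool.rec (fun _ => Nat) (Ptab_s_7139_7141 c) (Ptab_s_7141_7143 c) (Nat.ble 7141 c)
noncomputable def Ptab_s_7135_7143 (c : Nat) : Nat := @Bool.rec (fun _ => Nat) (Ptab_s_7135_7139 c) (Ptab_s_7139_7143 c) (Nat.ble 7139 c)
noncomputable def Ptab_s_7128_7143 (c : Nat) : Nat := @Bool.rec (fun _ => Nat) (Ptab_s_7128_7135 c) (Ptab_s_7135_7143 c) (Nat.ble 7135 c)
noncomputable def Ptab_s_7143_7145 (c : Nat) : Nat := @Bool.rec (fun _ => Nat) (Ptab_7143) (Ptab_7144) (Nat.ble 7144 c)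
noncomputable def Ptab_s_7145_7147 (c : Nat) : Nat := @Bool.rec (fun _ => Nat) (Ptab_7145) (Ptab_7146) (Nat.ble 7146 c)
noncomputable def Ptab_s_7143_7147 (c : Nat) : Nat := @Bool.rec (fun _ => Nat) (Ptab_s_7143_7145 c) (Ptab_s_7145_7147 c) (Nat.ble 7145 c)
noncomputable def Ptab_s_7147_7149 (c : Nat) : Nat := @Bool.rec (fun _ => Nat) (Ptab_7147) (Ptab_7148) (Nat.ble 7148 c)
noncomputable def Ptab_s_7149_7151 (c : Nat) : Nat := @Bool.rec (fun _ => Nat) (Ptab_7149) (Ptab_7150) (Nat.ble 7150 c)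
noncomputable def Ptab_s_7147_7151 (c : Nat) : Nat := @Bool.rec (fun _ => Nat) (Ptab_s_7147_7149 c) (Ptab_s_7149_7151 c) (Nat.ble 7149 c)
noncomputable def Ptab_s_7143_7151 (c : Nat) : Nat := @Bool.rec (fun _ => Nat) (Ptab_s_7143_7147 c) (Ptab_s_7147_7151 c) (Nat.ble 7147 c)
noncomputable def Ptab_s_7151_7153 (c : Nat) : Nat := @Bool.rec (fun _ => Nat) (Ptab_7151) (Ptab_7152) (Nat.ble 7152 c)
noncomputable def Ptab_s_7153_7155 (c : Nat) : Nat := @Bool.rec (fun _ => Nat) (Ptab_7153) (Ptab_7154) (Nat.ble 7154 c)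
noncomputable def Ptab_s_7151_7155 (c : Nat) : Nat := @Bool.rec (fun _ => Nat) (Ptab_s_7151_7153 c) (Ptab_s_7153_7155 c) (Nat.ble 7153 c)
noncomputable def Ptab_s_7155_7157 (c : Nat) : Nat := @Bool.rec (fun _ => Nat) (Ptab_7155) (Ptab_7156) (Nat.ble 7156 c)
noncomputable def Ptab_s_7157_7159 (c : Nat) : Nat := @Bool.rec (fun _ => Nat) (Ptab_7157) (Ptab_7158) (Nat.ble 7158 c)
noncomputable def Ptab_s_7155_7159 (c : Nat) : Nat := @Bool.rec (fun _ => Nat) (Ptab_s_7155_7157 c) (Ptab_s_7157_7159 c) (Nat.ble 7157 c)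
noncomputable def Ptab_s_7151_7159 (c : Nat) : Nat := @Bool.rec (fun _ => Nat) (Ptab_s_7151_7155 c) (Ptab_s_7155_7159 c) (Nat.ble 7155 c)
noncomputable def Ptab_s_7143_7159 (c : Nat) : Nat := @Bool.rec (fun _ => Nat) (Ptab_s_7143_7151 c) (Ptab_s_7151_7159 c) (Nat.ble 7151 c)
noncomputable def Ptab_s_7128_7159 (c : Nat) : Nat := @Bool.rec (fun _ => Nat) (Ptab_s_7128_7143 c) (Ptab_s_7143_7159 c) (Nat.ble 7143 c)
noncomputable def Ptab_s_7098_7159 (c : Nat) : Nat := @Bool.rec (fun _ => Nat) (Ptab_s_7098_7128 c) (Ptab_s_7128_7159 c) (Nat.ble 7128 c)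
noncomputable def Ptab_s_7160_7162 (c : Nat) : Nat := @Bool.rec (fun _ => Nat) (Ptab_7160) (Ptab_7161) (Nat.ble 7161 c)
noncomputable def Ptab_s_7159_7162 (c : Nat) : Nat := @Bool.rec (fun _ => Nat) (Ptab_7159) (Ptab_s_7160_7162 c) (Nat.ble 7160 c)
noncomputable def Ptab_s_7162_7164 (c : Nat) : Nat := @Bool.rec (fun _ => Nat) (Ptab_7162) (Ptab_7163) (Nat.ble 7163 c)
noncomputable def Ptab_s_7164_7166 (c : Nat) : Nat := @Bool.rec (fun _ => Nat) (Ptab_7164) (Ptab_7165) (Nat.ble 7165 c)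
noncomputable def Ptab_s_7162_7166 (c : Nat) : Nat := @Bool.rec (fun _ => Nat) (Ptab_s_7162_7164 c) (Ptab_s_7164_7166 c) (Nat.ble 7164 c)
noncomputable def Ptab_s_7159_7166 (c : Nat) : Nat := @Bool.rec (fun _ => Nat) (Ptab_s_7159_7162 c) (Ptab_s_7162_7166 c) (Nat.ble 7162 c)
noncomputable def Ptab_s_7166_7168 (c : Nat) : Nat := @Bool.rec (fun _ => Nat) (Ptab_7166) (Ptab_7167) (Nat.ble 7167 c)
noncomputable def Ptab_s_7168_7170 (c : Nat) : Nat := @Bool.rec (fun _ => Nat) (Ptab_7168) (Ptab_7169) (Nat.ble 7169 c)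
noncomputable def Ptab_s_7166_7170 (c : Nat) : Nat := @Bool.rec (fun _ => Nat) (Ptab_s_7166_7168 c) (Ptab_s_7168_7170 c) (Nat.ble 7168 c)
noncomputable def Ptab_s_7170_7172 (c : Nat) : Nat := @Bool.rec (fun _ => Nat) (Ptab_7170) (Ptab_7171) (Nat.ble 7171 c)
noncomputable def Ptab_s_7172_7174 (c : Nat) : Nat := @Bool.rec (fun _ => Nat) (Ptab_7172) (Ptab_7173) (Nat.ble 7173 c)
noncomputable def Ptab_s_7170_7174 (c : Nat) : Nat := @Bool.rec (fun _ => Nat) (Ptab_s_7170_7172 c) (Ptab_s_7172_7174 c) (Nat.ble 7172 c)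
noncomputable def Ptab_s_7166_7174 (c : Nat) : Nat := @Bool.rec (fun _ => Nat) (Ptab_s_7166_7170 c) (Ptab_s_7170_7174 c) (Nat.ble 7170 c)
noncomputable def Ptab_s_7159_7174 (c : Nat) : Nat := @Bool.rec (fun _ => Nat) (Ptab_s_7159_7166 c) (Ptab_s_7166_7174 c) (Nat.ble 7166 c)
noncomputable def Ptab_s_7175_7177 (c : Nat) : Nat := @Bool.rec (fun _ => Nat) (Ptab_7175) (Ptab_7176) (Nat.ble 7176 c)
noncomputable def Ptab_s_7174_7177 (c : Nat) : Nat := @Bool.rec (fun _ => Nat) (Ptab_7174) (Ptab_s_7175_7177 c) (Nat.ble 7175 c)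
noncomputable def Ptab_s_7177_7179 (c : Nat) : Nat := @Bool.rec (fun _ => Nat) (Ptab_7177) (Ptab_7178) (Nat.ble 7178 c)
noncomputable def Ptab_s_7179_7181 (c : Nat) : Nat := @Bool.rec (fun _ => Nat) (Ptab_7179) (Ptab_7180) (Nat.ble 7180 c)
noncomputable def Ptab_s_7177_7181 (c : Nat) : Nat := @Bool.rec (fun _ => Nat) (Ptab_s_7177_7179 c) (Ptab_s_7179_7181 c) (Nat.ble 7179 c)
noncomputable def Ptab_s_7174_7181 (c : Nat) : Nat := @Bool.rec (fun _ => Nat) (Ptab_s_7174_7177 c) (Ptab_s_7177_7181 c) (Nat.ble 7177 c)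
noncomputable def Ptab_s_7181_7183 (c : Nat) : Nat := @Bool.rec (fun _ => Nat) (Ptab_7181) (Ptab_7182) (Nat.ble 7182 c)
noncomputable def Ptab_s_7183_7185 (c : Nat) : Nat := @Bool.rec (fun _ => Nat) (Ptab_7183) (Ptab_7184) (Nat.ble 7184 c)
noncomputable def Ptab_s_7181_7185 (c : Nat) : Nat := @Bool.rec (fun _ => Nat) (Ptab_s_7181_7183 c) (Ptab_s_7183_7185 c) (Nat.ble 7183 c)
noncomputable def Ptab_s_7185_7187 (c : Nat) : Nat := @Bool.rec (fun _ => Nat) (Ptab_7185) (Ptab_7186) (Nat.ble 7186 c)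
noncomputable def Ptab_s_7187_7189 (c : Nat) : Nat := @Bool.rec (fun _ => Nat) (Ptab_7187) (Ptab_7188) (Nat.ble 7188 c)
noncomputable def Ptab_s_7185_7189 (c : Nat) : Nat := @Bool.rec (fun _ => Nat) (Ptab_s_7185_7187 c) (Ptab_s_7187_7189 c) (Nat.ble 7187 c)
noncomputable def Ptab_s_7181_7189 (c : Nat) : Nat := @Bool.rec (fun _ => Nat) (Ptab_s_7181_7185 c) (Ptab_s_7185_7189 c) (Nat.ble 7185 c)
noncomputable def Ptab_s_7174_7189 (c : Nat) : Nat := @Bool.rec (fun _ => Nat) (Ptab_s_7174_7181 c) (Ptab_s_7181_7189 c) (Nat.ble 7181 c)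
noncomputable def Ptab_s_7159_7189 (c : Nat) : Nat := @Bool.rec (fun _ => Nat) (Ptab_s_7159_7174 c) (Ptab_s_7174_7189 c) (Nat.ble 7174 c)
noncomputable def Ptab_s_7190_7192 (c : Nat) : Nat := @Bool.rec (fun _ => Nat) (Ptab_7190) (Ptab_7191) (Nat.ble 7191 c)
noncomputable def Ptab_s_7189_7192 (c : Nat) : Nat := @Bool.rec (fun _ => Nat) (Ptab_7189) (Ptab_s_7190_7192 c) (Nat.ble 7190 c)
noncomputable def Ptab_s_7192_7194 (c : Nat) : Nat := @Bool.rec (fun _ => Nat) (Ptab_7192) (Ptab_7193) (Nat.ble 7193 c)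
noncomputable def Ptab_s_7194_7196 (c : Nat) : Nat := @Bool.rec (fun _ => Nat) (Ptab_7194) (Ptab_7195) (Nat.ble 7195 c)
noncomputable def Ptab_s_7192_7196 (c : Nat) : Nat := @Bool.rec (fun _ => Nat) (Ptab_s_7192_7194 c) (Ptab_s_7194_7196 c) (Nat.ble 7194 c)
noncomputable def Ptab_s_7189_7196 (c : Nat) : Nat := @Bool.rec (fun _ => Nat) (Ptab_s_7189_7192 c) (Ptab_s_7192_7196 c) (Nat.ble 7192 c)
noncomputable def Ptab_s_7196_7198 (c : Nat) : Nat := @Bool.rec (fun _ => Nat) (Ptab_7196) (Ptab_7197) (Nat.ble 7197 c)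
noncomputable def Ptab_s_7198_7200 (c : Nat) : Nat := @Bool.rec (fun _ => Nat) (Ptab_7198) (Ptab_7199) (Nat.ble 7199 c)
noncomputable def Ptab_s_7196_7200 (c : Nat) : Nat := @Bool.rec (fun _ => Nat) (Ptab_s_7196_7198 c) (Ptab_s_7198_7200 c) (Nat.ble 7198 c)
noncomputable def Ptab_s_7200_7202 (c : Nat) : Nat := @Bool.rec (fun _ => Nat) (Ptab_7200) (Ptab_7201) (Nat.ble 7201 c)
noncomputable def Ptab_s_7202_7204 (c : Nat) : Nat := @Bool.rec (fun _ => Nat) (Ptab_7202) (Ptab_7203) (Nat.ble 7203 c)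
noncomputable def Ptab_s_7200_7204 (c : Nat) : Nat := @Bool.rec (fun _ => Nat) (Ptab_s_7200_7202 c) (Ptab_s_7202_7204 c) (Nat.ble 7202 c)
noncomputable def Ptab_s_7196_7204 (c : Nat) : Nat := @Bool.rec (fun _ => Nat) (Ptab_s_7196_7200 c) (Ptab_s_7200_7204 c) (Nat.ble 7200 c)
noncomputable def Ptab_s_7189_7204 (c : Nat) : Nat := @Bool.rec (fun _ => Nat) (Ptab_s_7189_7196 c) (Ptab_s_7196_7204 c) (Nat.ble 7196 c)
noncomputable def Ptab_s_7204_7206 (c : Nat) : Nat := @Bool.rec (fun _ => Nat) (Ptab_7204) (Ptab_7205) (Nat.ble 7205 c)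
noncomputable def Ptab_s_7206_7208 (c : Nat) : Nat := @Bool.rec (fun _ => Nat) (Ptab_7206) (Ptab_7207) (Nat.ble 7207 c)
noncomputable def Ptab_s_7204_7208 (c : Nat) : Nat := @Bool.rec (fun _ => Nat) (Ptab_s_7204_7206 c) (Ptab_s_7206_7208 c) (Nat.ble 7206 c)
noncomputable def Ptab_s_7208_7210 (c : Nat) : Nat := @Bool.rec (fun _ => Nat) (Ptab_7208) (Ptab_7209) (Nat.ble 7209 c)
noncomputable def Ptab_s_7210_7212 (c : Nat) : Nat := @Bool.rec (fun _ => Nat) (Ptab_7210) (Ptab_7211) (Nat.ble 7211 c)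
noncomputable def Ptab_s_7208_7212 (c : Nat) : Nat := @Bool.rec (fun _ => Nat) (Ptab_s_7208_7210 c) (Ptab_s_7210_7212 c) (Nat.ble 7210 c)
noncomputable def Ptab_s_7204_7212 (c : Nat) : Nat := @Bool.rec (fun _ => Nat) (Ptab_s_7204_7208 c) (Ptab_s_7208_7212 c) (Nat.ble 7208 c)
noncomputable def Ptab_s_7212_7214 (c : Nat) : Nat := @Bool.rec (fun _ => Nat) (Ptab_7212) (Ptab_7213) (Nat.ble 7213 c)
noncomputable def Ptab_s_7214_7216 (c : Nat) : Nat := @Bool.rec (fun _ => Nat) (Ptab_7214) (Ptab_7215) (Nat.ble 7215 c)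
noncomputable def Ptab_s_7212_7216 (c : Nat) : Nat := @Bool.rec (fun _ => Nat) (Ptab_s_7212_7214 c) (Ptab_s_7214_7216 c) (Nat.ble 7214 c)
noncomputable def Ptab_s_7216_7218 (c : Nat) : Nat := @Bool.rec (fun _ => Nat) (Ptab_7216) (Ptab_7217) (Nat.ble 7217 c)
noncomputable def Ptab_s_7218_7220 (c : Nat) : Nat := @Bool.rec (fun _ => Nat) (Ptab_7218) (Ptab_7219) (Nat.ble 7219 c)
noncomputable def Ptab_s_7216_7220 (c : Nat) : Nat := @Bool.rec (fun _ => Nat) (Ptab_s_7216_7218 c) (Ptab_s_7218_7220 c) (Nat.ble 7218 c)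
noncomputable def Ptab_s_7212_7220 (c : Nat) : Nat := @Bool.rec (fun _ => Nat) (Ptab_s_7212_7216 c) (Ptab_s_7216_7220 c) (Nat.ble 7216 c)
noncomputable def Ptab_s_7204_7220 (c : Nat) : Nat := @Bool.rec (fun _ => Nat) (Ptab_s_7204_7212 c) (Ptab_s_7212_7220 c) (Nat.ble 7212 c)
noncomputable def Ptab_s_7189_7220 (c : Nat) : Nat := @Bool.rec (fun _ => Nat) (Ptab_s_7189_7204 c) (Ptab_s_7204_7220 c) (Nat.ble 7204 c)
noncomputable def Ptab_s_7159_7220 (c : Nat) : Nat := @Bool.rec (fun _ => Nat) (Ptab_s_7159_7189 c) (Ptab_s_7189_7220 c) (Nat.ble 7189 c)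
noncomputable def Ptab_s_7098_7220 (c : Nat) : Nat := @Bool.rec (fun _ => Nat) (Ptab_s_7098_7159 c) (Ptab_s_7159_7220 c) (Nat.ble 7159 c)
noncomputable def Ptab_s_7221_7223 (c : Nat) : Nat := @Bool.rec (fun _ => Nat) (Ptab_7221) (Ptab_7222) (Nat.ble 7222 c)
noncomputable def Ptab_s_7220_7223 (c : Nat) : Nat := @Bool.rec (fun _ => Nat) (Ptab_7220) (Ptab_s_7221_7223 c) (Nat.ble 7221 c)
noncomputable def Ptab_s_7223_7225 (c : Nat) : Nat := @Bool.rec (fun _ => Nat) (Ptab_7223) (Ptab_7224) (Nat.ble 7224 c)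
noncomputable def Ptab_s_7225_7227 (c : Nat) : Nat := @Bool.rec (fun _ => Nat) (Ptab_7225) (Ptab_7226) (Nat.ble 7226 c)
noncomputable def Ptab_s_7223_7227 (c : Nat) : Nat := @Bool.rec (fun _ => Nat) (Ptab_s_7223_7225 c) (Ptab_s_7225_7227 c) (Nat.ble 7225 c)
noncomputable def Ptab_s_7220_7227 (c : Nat) : Nat := @Bool.rec (fun _ => Nat) (Ptab_s_7220_7223 c) (Ptab_s_7223_7227 c) (Nat.ble 7223 c)
noncomputable def Ptab_s_7227_7229 (c : Nat) : Nat := @Bool.rec (fun _ => Nat) (Ptab_7227) (Ptab_7228) (Nat.ble 7228 c)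
noncomputable def Ptab_s_7229_7231 (c : Nat) : Nat := @Bool.rec (fun _ => Nat) (Ptab_7229) (Ptab_7230) (Nat.ble 7230 c)
noncomputable def Ptab_s_7227_7231 (c : Nat) : Nat := @Bool.rec (fun _ => Nat) (Ptab_s_7227_7229 c) (Ptab_s_7229_7231 c) (Nat.ble 7229 c)
noncomputable def Ptab_s_7231_7233 (c : Nat) : Nat := @Bool.rec (fun _ => Nat) (Ptab_7231) (Ptab_7232) (Nat.ble 7232 c)
noncomputable def Ptab_s_7233_7235 (c : Nat) : Nat := @Bool.rec (fun _ => Nat) (Ptab_7233) (Ptab_7234) (Nat.ble 7234 c)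
noncomputable def Ptab_s_7231_7235 (c : Nat) : Nat := @Bool.rec (fun _ => Nat) (Ptab_s_7231_7233 c) (Ptab_s_7233_7235 c) (Nat.ble 7233 c)
noncomputable def Ptab_s_7227_7235 (c : Nat) : Nat := @Bool.rec (fun _ => Nat) (Ptab_s_7227_7231 c) (Ptab_s_7231_7235 c) (Nat.ble 7231 c)
noncomputable def Ptab_s_7220_7235 (c : Nat) : Nat := @Bool.rec (fun _ => Nat) (Ptab_s_7220_7227 c) (Ptab_s_7227_7235 c) (Nat.ble 7227 c)
noncomputable def Ptab_s_7236_7238 (c : Nat) : Nat := @Bool.rec (fun _ => Nat) (Ptab_7236) (Ptab_7237) (Nat.ble 7237 c)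
noncomputable def Ptab_s_7235_7238 (c : Nat) : Nat := @Bool.rec (fun _ => Nat) (Ptab_7235) (Ptab_s_7236_7238 c) (Nat.ble 7236 c)
noncomputable def Ptab_s_7238_7240 (c : Nat) : Nat := @Bool.rec (fun _ => Nat) (Ptab_7238) (Ptab_7239) (Nat.ble 7239 c)
noncomputable def Ptab_s_7240_7242 (c : Nat) : Nat := @Bool.rec (fun _ => Nat) (Ptab_7240) (Ptab_7241) (Nat.ble 7241 c)
noncomputable def Ptab_s_7238_7242 (c : Nat) : Nat := @Bool.rec (fun _ => Nat) (Ptab_s_7238_7240 c) (Ptab_s_7240_7242 c) (Nat.ble 7240 c)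
noncomputable def Ptab_s_7235_7242 (c : Nat) : Nat := @Bool.rec (fun _ => Nat) (Ptab_s_7235_7238 c) (Ptab_s_7238_7242 c) (Nat.ble 7238 c)
noncomputable def Ptab_s_7242_7244 (c : Nat) : Nat := @Bool.rec (fun _ => Nat) (Ptab_7242) (Ptab_7243) (Nat.ble 7243 c)
noncomputable def Ptab_s_7244_7246 (c : Nat) : Nat := @Bool.rec (fun _ => Nat) (Ptab_7244) (Ptab_7245) (Nat.ble 7245 c)
noncomputable def Ptab_s_7242_7246 (c : Nat) : Nat := @Bool.rec (fun _ => Nat) (Ptab_s_7242_7244 c) (Ptab_s_7244_7246 c) (Nat.ble 7244 c)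
noncomputable def Ptab_s_7246_7248 (c : Nat) : Nat := @Bool.rec (fun _ => Nat) (Ptab_7246) (Ptab_7247) (Nat.ble 7247 c)
noncomputable def Ptab_s_7248_7250 (c : Nat) : Nat := @Bool.rec (fun _ => Nat) (Ptab_7248) (Ptab_7249) (Nat.ble 7249 c)
noncomputable def Ptab_s_7246_7250 (c : Nat) : Nat := @Bool.rec (fun _ => Nat) (Ptab_s_7246_7248 c) (Ptab_s_7248_7250 c) (Nat.ble 7248 c)
noncomputable def Ptab_s_7242_7250 (c : Nat) : Nat := @Bool.rec (fun _ => Nat) (Ptab_s_7242_7246 c) (Ptab_s_7246_7250 c) (Nat.ble 7246 c)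
noncomputable def Ptab_s_7235_7250 (c : Nat) : Nat := @Bool.rec (fun _ => Nat) (Ptab_s_7235_7242 c) (Ptab_s_7242_7250 c) (Nat.ble 7242 c)
noncomputable def Ptab_s_7220_7250 (c : Nat) : Nat := @Bool.rec (fun _ => Nat) (Ptab_s_7220_7235 c) (Ptab_s_7235_7250 c) (Nat.ble 7235 c)
noncomputable def Ptab_s_7251_7253 (c : Nat) : Nat := @Bool.rec (fun _ => Nat) (Ptab_7251) (Ptab_7252) (Nat.ble 7252 c)
noncomputable def Ptab_s_7250_7253 (c : Nat) : Nat := @Bool.rec (fun _ => Nat) (Ptab_7250) (Ptab_s_7251_7253 c) (Nat.ble 7251 c)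
noncomputable def Ptab_s_7253_7255 (c : Nat) : Nat := @Bool.rec (fun _ => Nat) (Ptab_7253) (Ptab_7254) (Nat.ble 7254 c)
noncomputable def Ptab_s_7255_7257 (c : Nat) : Nat := @Bool.rec (fun _ => Nat) (Ptab_7255) (Ptab_7256) (Nat.ble 7256 c)
noncomputable def Ptab_s_7253_7257 (c : Nat) : Nat := @Bool.rec (fun _ => Nat) (Ptab_s_7253_7255 c) (Ptab_s_7255_7257 c) (Nat.ble 7255 c)
noncomputable def Ptab_s_7250_7257 (c : Nat) : Nat := @Bool.rec (fun _ => Nat) (Ptab_s_7250_7253 c) (Ptab_s_7253_7257 c) (Nat.ble 7253 c)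
noncomputable def Ptab_s_7257_7259 (c : Nat) : Nat := @Bool.rec (fun _ => Nat) (Ptab_7257) (Ptab_7258) (Nat.ble 7258 c)
noncomputable def Ptab_s_7259_7261 (c : Nat) : Nat := @Bool.rec (fun _ => Nat) (Ptab_7259) (Ptab_7260) (Nat.ble 7260 c)
noncomputable def Ptab_s_7257_7261 (c : Nat) : Nat := @Bool.rec (fun _ => Nat) (Ptab_s_7257_7259 c) (Ptab_s_7259_7261 c) (Nat.ble 7259 c)
noncomputable def Ptab_s_7261_7263 (c : Nat) : Nat := @Bool.rec (fun _ => Nat) (Ptab_7261) (Ptab_7262) (Nat.ble 7262 c)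
noncomputable def Ptab_s_7263_7265 (c : Nat) : Nat := @Bool.rec (fun _ => Nat) (Ptab_7263) (Ptab_7264) (Nat.ble 7264 c)
noncomputable def Ptab_s_7261_7265 (c : Nat) : Nat := @Bool.rec (fun _ => Nat) (Ptab_s_7261_7263 c) (Ptab_s_7263_7265 c) (Nat.ble 7263 c)
noncomputable def Ptab_s_7257_7265 (c : Nat) : Nat := @Bool.rec (fun _ => Nat) (Ptab_s_7257_7261 c) (Ptab_s_7261_7265 c) (Nat.ble 7261 c)
noncomputable def Ptab_s_7250_7265 (c : Nat) : Nat := @Bool.rec (fun _ => Nat) (Ptab_s_7250_7257 c) (Ptab_s_7257_7265 c) (Nat.ble 7257 c)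
noncomputable def Ptab_s_7265_7267 (c : Nat) : Nat := @Bool.rec (fun _ => Nat) (Ptab_7265) (Ptab_7266) (Nat.ble 7266 c)
noncomputable def Ptab_s_7267_7269 (c : Nat) : Nat := @Bool.rec (fun _ => Nat) (Ptab_7267) (Ptab_7268) (Nat.ble 7268 c)
noncomputable def Ptab_s_7265_7269 (c : Nat) : Nat := @Bool.rec (fun _ => Nat) (Ptab_s_7265_7267 c) (Ptab_s_7267_7269 c) (Nat.ble 7267 c)
noncomputable def Ptab_s_7269_7271 (c : Nat) : Nat := @Bool.rec (fun _ => Nat) (Ptab_7269) (Ptab_7270) (Nat.ble 7270 c)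
noncomputable def Ptab_s_7271_7273 (c : Nat) : Nat := @Bool.rec (fun _ => Nat) (Ptab_7271) (Ptab_7272) (Nat.ble 7272 c)
noncomputable def Ptab_s_7269_7273 (c : Nat) : Nat := @Bool.rec (fun _ => Nat) (Ptab_s_7269_7271 c) (Ptab_s_7271_7273 c) (Nat.ble 7271 c)
noncomputable def Ptab_s_7265_7273 (c : Nat) : Nat := @Bool.rec (fun _ => Nat) (Ptab_s_7265_7269 c) (Ptab_s_7269_7273 c) (Nat.ble 7269 c)
noncomputable def Ptab_s_7273_7275 (c : Nat) : Nat := @Bool.rec (fun _ => Nat) (Ptab_7273) (Ptab_7274) (Nat.ble 7274 c)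
noncomputable def Ptab_s_7275_7277 (c : Nat) : Nat := @Bool.rec (fun _ => Nat) (Ptab_7275) (Ptab_7276) (Nat.ble 7276 c)
noncomputable def Ptab_s_7273_7277 (c : Nat) : Nat := @Bool.rec (fun _ => Nat) (Ptab_s_7273_7275 c) (Ptab_s_7275_7277 c) (Nat.ble 7275 c)
noncomputable def Ptab_s_7277_7279 (c : Nat) : Nat := @Bool.rec (fun _ => Nat) (Ptab_7277) (Ptab_7278) (Nat.ble 7278 c)
noncomputable def Ptab_s_7279_7281 (c : Nat) : Nat := @Bool.rec (fun _ => Nat) (Ptab_7279) (Ptab_7280) (Nat.ble 7280 c)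
noncomputable def Ptab_s_7277_7281 (c : Nat) : Nat := @Bool.rec (fun _ => Nat) (Ptab_s_7277_7279 c) (Ptab_s_7279_7281 c) (Nat.ble 7279 c)
noncomputable def Ptab_s_7273_7281 (c : Nat) : Nat := @Bool.rec (fun _ => Nat) (Ptab_s_7273_7277 c) (Ptab_s_7277_7281 c) (Nat.ble 7277 c)
noncomputable def Ptab_s_7265_7281 (c : Nat) : Nat := @Bool.rec (fun _ => Nat) (Ptab_s_7265_7273 c) (Ptab_s_7273_7281 c) (Nat.ble 7273 c)
noncomputable def Ptab_s_7250_7281 (c : Nat) : Nat := @Bool.rec (fun _ => Nat) (Ptab_s_7250_7265 c) (Ptab_s_7265_7281 c) (Nat.ble 7265 c)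
noncomputable def Ptab_s_7220_7281 (c : Nat) : Nat := @Bool.rec (fun _ => Nat) (Ptab_s_7220_7250 c) (Ptab_s_7250_7281 c) (Nat.ble 7250 c)
noncomputable def Ptab_s_7282_7284 (c : Nat) : Nat := @Bool.rec (fun _ => Nat) (Ptab_7282) (Ptab_7283) (Nat.ble 7283 c)
noncomputable def Ptab_s_7281_7284 (c : Nat) : Nat := @Bool.rec (fun _ => Nat) (Ptab_7281) (Ptab_s_7282_7284 c) (Nat.ble 7282 c)
noncomputable def Ptab_s_7284_7286 (c : Nat) : Nat := @Bool.rec (fun _ => Nat) (Ptab_7284) (Ptab_7285) (Nat.ble 7285 c)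
noncomputable def Ptab_s_7286_7288 (c : Nat) : Nat := @Bool.rec (fun _ => Nat) (Ptab_7286) (Ptab_7287) (Nat.ble 7287 c)
noncomputable def Ptab_s_7284_7288 (c : Nat) : Nat := @Bool.rec (fun _ => Nat) (Ptab_s_7284_7286 c) (Ptab_s_7286_7288 c) (Nat.ble 7286 c)
noncomputable def Ptab_s_7281_7288 (c : Nat) : Nat := @Bool.rec (fun _ => Nat) (Ptab_s_7281_7284 c) (Ptab_s_7284_7288 c) (Nat.ble 7284 c)
noncomputable def Ptab_s_7288_7290 (c : Nat) : Nat := @Bool.rec (fun _ => Nat) (Ptab_7288) (Ptab_7289) (Nat.ble 7289 c)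
noncomputable def Ptab_s_7290_7292 (c : Nat) : Nat := @Bool.rec (fun _ => Nat) (Ptab_7290) (Ptab_7291) (Nat.ble 7291 c)
noncomputable def Ptab_s_7288_7292 (c : Nat) : Nat := @Bool.rec (fun _ => Nat) (Ptab_s_7288_7290 c) (Ptab_s_7290_7292 c) (Nat.ble 7290 c)
noncomputable def Ptab_s_7292_7294 (c : Nat) : Nat := @Bool.rec (fun _ => Nat) (Ptab_7292) (Ptab_7293) (Nat.ble 7293 c)
noncomputable def Ptab_s_7294_7296 (c : Nat) : Nat := @Bool.rec (fun _ => Nat) (Ptab_7294) (Ptab_7295) (Nat.ble 7295 c)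
noncomputable def Ptab_s_7292_7296 (c : Nat) : Nat := @Bool.rec (fun _ => Nat) (Ptab_s_7292_7294 c) (Ptab_s_7294_7296 c) (Nat.ble 7294 c)
noncomputable def Ptab_s_7288_7296 (c : Nat) : Nat := @Bool.rec (fun _ => Nat) (Ptab_s_7288_7292 c) (Ptab_s_7292_7296 c) (Nat.ble 7292 c)
noncomputable def Ptab_s_7281_7296 (c : Nat) : Nat := @Bool.rec (fun _ => Nat) (Ptab_s_7281_7288 c) (Ptab_s_7288_7296 c) (Nat.ble 7288 c)
noncomputable def Ptab_s_7296_7298 (c : Nat) : Nat := @Bool.rec (fun _ => Nat) (Ptab_7296) (Ptab_7297) (Nat.ble 7297 c)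
noncomputable def Ptab_s_7298_7300 (c : Nat) : Nat := @Bool.rec (fun _ => Nat) (Ptab_7298) (Ptab_7299) (Nat.ble 7299 c)
noncomputable def Ptab_s_7296_7300 (c : Nat) : Nat := @Bool.rec (fun _ => Nat) (Ptab_s_7296_7298 c) (Ptab_s_7298_7300 c) (Nat.ble 7298 c)
noncomputable def Ptab_s_7300_7302 (c : Nat) : Nat := @Bool.rec (fun _ => Nat) (Ptab_7300) (Ptab_7301) (Nat.ble 7301 c)
noncomputable def Ptab_s_7302_7304 (c : Nat) : Nat := @Bool.rec (fun _ => Nat) (Ptab_7302) (Ptab_7303) (Nat.ble 7303 c)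
noncomputable def Ptab_s_7300_7304 (c : Nat) : Nat := @Bool.rec (fun _ => Nat) (Ptab_s_7300_7302 c) (Ptab_s_7302_7304 c) (Nat.ble 7302 c)
noncomputable def Ptab_s_7296_7304 (c : Nat) : Nat := @Bool.rec (fun _ => Nat) (Ptab_s_7296_7300 c) (Ptab_s_7300_7304 c) (Nat.ble 7300 c)
noncomputable def Ptab_s_7304_7306 (c : Nat) : Nat := @Bool.rec (fun _ => Nat) (Ptab_7304) (Ptab_7305) (Nat.ble 7305 c)
noncomputable def Ptab_s_7306_7308 (c : Nat) : Nat := @Bool.rec (fun _ => Nat) (Ptab_7306) (Ptab_7307) (Nat.ble 7307 c)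
noncomputable def Ptab_s_7304_7308 (c : Nat) : Nat := @Bool.rec (fun _ => Nat) (Ptab_s_7304_7306 c) (Ptab_s_7306_7308 c) (Nat.ble 7306 c)
noncomputable def Ptab_s_7308_7310 (c : Nat) : Nat := @Bool.rec (fun _ => Nat) (Ptab_7308) (Ptab_7309) (Nat.ble 7309 c)
noncomputable def Ptab_s_7310_7312 (c : Nat) : Nat := @Bool.rec (fun _ => Nat) (Ptab_7310) (Ptab_7311) (Nat.ble 7311 c)
noncomputable def Ptab_s_7308_7312 (c : Nat) : Nat := @Bool.rec (fun _ => Nat) (Ptab_s_7308_7310 c) (Ptab_s_7310_7312 c) (Nat.ble 7310 c)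
noncomputable def Ptab_s_7304_7312 (c : Nat) : Nat := @Bool.rec (fun _ => Nat) (Ptab_s_7304_7308 c) (Ptab_s_7308_7312 c) (Nat.ble 7308 c)
noncomputable def Ptab_s_7296_7312 (c : Nat) : Nat := @Bool.rec (fun _ => Nat) (Ptab_s_7296_7304 c) (Ptab_s_7304_7312 c) (Nat.ble 7304 c)
noncomputable def Ptab_s_7281_7312 (c : Nat) : Nat := @Bool.rec (fun _ => Nat) (Ptab_s_7281_7296 c) (Ptab_s_7296_7312 c) (Nat.ble 7296 c)
noncomputable def Ptab_s_7313_7315 (c : Nat) : Nat := @Bool.rec (fun _ => Nat) (Ptab_7313) (Ptab_7314) (Nat.ble 7314 c)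
noncomputable def Ptab_s_7312_7315 (c : Nat) : Nat := @Bool.rec (fun _ => Nat) (Ptab_7312) (Ptab_s_7313_7315 c) (Nat.ble 7313 c)
noncomputable def Ptab_s_7315_7317 (c : Nat) : Nat := @Bool.rec (fun _ => Nat) (Ptab_7315) (Ptab_7316) (Nat.ble 7316 c)
noncomputable def Ptab_s_7317_7319 (c : Nat) : Nat := @Bool.rec (fun _ => Nat) (Ptab_7317) (Ptab_7318) (Nat.ble 7318 c)
noncomputable def Ptab_s_7315_7319 (c : Nat) : Nat := @Bool.rec (fun _ => Nat) (Ptab_s_7315_7317 c) (Ptab_s_7317_7319 c) (Nat.ble 7317 c)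
noncomputable def Ptab_s_7312_7319 (c : Nat) : Nat := @Bool.rec (fun _ => Nat) (Ptab_s_7312_7315 c) (Ptab_s_7315_7319 c) (Nat.ble 7315 c)
noncomputable def Ptab_s_7319_7321 (c : Nat) : Nat := @Bool.rec (fun _ => Nat) (Ptab_7319) (Ptab_7320) (Nat.ble 7320 c)
noncomputable def Ptab_s_7321_7323 (c : Nat) : Nat := @Bool.rec (fun _ => Nat) (Ptab_7321) (Ptab_7322) (Nat.ble 7322 c)
noncomputable def Ptab_s_7319_7323 (c : Nat) : Nat := @Bool.rec (fun _ => Nat) (Ptab_s_7319_7321 c) (Ptab_s_7321_7323 c) (Nat.ble 7321 c)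
noncomputable def Ptab_s_7323_7325 (c : Nat) : Nat := @Bool.rec (fun _ => Nat) (Ptab_7323) (Ptab_7324) (Nat.ble 7324 c)
noncomputable def Ptab_s_7325_7327 (c : Nat) : Nat := @Bool.rec (fun _ => Nat) (Ptab_7325) (Ptab_7326) (Nat.ble 7326 c)
noncomputable def Ptab_s_7323_7327 (c : Nat) : Nat := @Bool.rec (fun _ => Nat) (Ptab_s_7323_7325 c) (Ptab_s_7325_7327 c) (Nat.ble 7325 c)
noncomputable def Ptab_s_7319_7327 (c : Nat) : Nat := @Bool.rec (fun _ => Nat) (Ptab_s_7319_7323 c) (Ptab_s_7323_7327 c) (Nat.ble 7323 c)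
noncomputable def Ptab_s_7312_7327 (c : Nat) : Nat := @Bool.rec (fun _ => Nat) (Ptab_s_7312_7319 c) (Ptab_s_7319_7327 c) (Nat.ble 7319 c)
noncomputable def Ptab_s_7327_7329 (c : Nat) : Nat := @Bool.rec (fun _ => Nat) (Ptab_7327) (Ptab_7328) (Nat.ble 7328 c)
noncomputable def Ptab_s_7329_7331 (c : Nat) : Nat := @Bool.rec (fun _ => Nat) (Ptab_7329) (Ptab_7330) (Nat.ble 7330 c)
noncomputable def Ptab_s_7327_7331 (c : Nat) : Nat := @Bool.rec (fun _ => Nat) (Ptab_s_7327_7329 c) (Ptab_s_7329_7331 c) (Nat.ble 7329 c)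
noncomputable def Ptab_s_7331_7333 (c : Nat) : Nat := @Bool.rec (fun _ => Nat) (Ptab_7331) (Ptab_7332) (Nat.ble 7332 c)
noncomputable def Ptab_s_7333_7335 (c : Nat) : Nat := @Bool.rec (fun _ => Nat) (Ptab_7333) (Ptab_7334) (Nat.ble 7334 c)
noncomputable def Ptab_s_7331_7335 (c : Nat) : Nat := @Bool.rec (fun _ => Nat) (Ptab_s_7331_7333 c) (Ptab_s_7333_7335 c) (Nat.ble 7333 c)
noncomputable def Ptab_s_7327_7335 (c : Nat) : Nat := @Bool.rec (fun _ => Nat) (Ptab_s_7327_7331 c) (Ptab_s_7331_7335 c) (Nat.ble 7331 c)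
noncomputable def Ptab_s_7335_7337 (c : Nat) : Nat := @Bool.rec (fun _ => Nat) (Ptab_7335) (Ptab_7336) (Nat.ble 7336 c)
noncomputable def Ptab_s_7337_7339 (c : Nat) : Nat := @Bool.rec (fun _ => Nat) (Ptab_7337) (Ptab_7338) (Nat.ble 7338 c)
noncomputable def Ptab_s_7335_7339 (c : Nat) : Nat := @Bool.rec (fun _ => Nat) (Ptab_s_7335_7337 c) (Ptab_s_7337_7339 c) (Nat.ble 7337 c)
noncomputable def Ptab_s_7339_7341 (c : Nat) : Nat := @Bool.rec (fun _ => Nat) (Ptab_7339) (Ptab_7340) (Nat.ble 7340 c)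
noncomputable def Ptab_s_7341_7343 (c : Nat) : Nat := @Bool.rec (fun _ => Nat) (Ptab_7341) (Ptab_7342) (Nat.ble 7342 c)
noncomputable def Ptab_s_7339_7343 (c : Nat) : Nat := @Bool.rec (fun _ => Nat) (Ptab_s_7339_7341 c) (Ptab_s_7341_7343 c) (Nat.ble 7341 c)
noncomputable def Ptab_s_7335_7343 (c : Nat) : Nat := @Bool.rec (fun _ => Nat) (Ptab_s_7335_7339 c) (Ptab_s_7339_7343 c) (Nat.ble 7339 c)
noncomputable def Ptab_s_7327_7343 (c : Nat) : Nat := @Bool.rec (fun _ => Nat) (Ptab_s_7327_7335 c) (Ptab_s_7335_7343 c) (Nat.ble 7335 c)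
noncomputable def Ptab_s_7312_7343 (c : Nat) : Nat := @Bool.rec (fun _ => Nat) (Ptab_s_7312_7327 c) (Ptab_s_7327_7343 c) (Nat.ble 7327 c)
noncomputable def Ptab_s_7281_7343 (c : Nat) : Nat := @Bool.rec (fun _ => Nat) (Ptab_s_7281_7312 c) (Ptab_s_7312_7343 c) (Nat.ble 7312 c)
noncomputable def Ptab_s_7220_7343 (c : Nat) : Nat := @Bool.rec (fun _ => Nat) (Ptab_s_7220_7281 c) (Ptab_s_7281_7343 c) (Nat.ble 7281 c)
noncomputable def Ptab_s_7098_7343 (c : Nat) : Nat := @Bool.rec (fun _ => Nat) (Ptab_s_7098_7220 c) (Ptab_s_7220_7343 c) (Nat.ble 7220 c)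
noncomputable def Ptab_s_6853_7343 (c : Nat) : Nat := @Bool.rec (fun _ => Nat) (Ptab_s_6853_7098 c) (Ptab_s_7098_7343 c) (Nat.ble 7098 c)
noncomputable def Ptab_s_7344_7346 (c : Nat) : Nat := @Bool.rec (fun _ => Nat) (Ptab_7344) (Ptab_7345) (Nat.ble 7345 c)
noncomputable def Ptab_s_7343_7346 (c : Nat) : Nat := @Bool.rec (fun _ => Nat) (Ptab_7343) (Ptab_s_7344_7346 c) (Nat.ble 7344 c)
noncomputable def Ptab_s_7346_7348 (c : Nat) : Nat := @Bool.rec (fun _ => Nat) (Ptab_7346) (Ptab_7347) (Nat.ble 7347 c)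
noncomputable def Ptab_s_7348_7350 (c : Nat) : Nat := @Bool.rec (fun _ => Nat) (Ptab_7348) (Ptab_7349) (Nat.ble 7349 c)
noncomputable def Ptab_s_7346_7350 (c : Nat) : Nat := @Bool.rec (fun _ => Nat) (Ptab_s_7346_7348 c) (Ptab_s_7348_7350 c) (Nat.ble 7348 c)
noncomputable def Ptab_s_7343_7350 (c : Nat) : Nat := @Bool.rec (fun _ => Nat) (Ptab_s_7343_7346 c) (Ptab_s_7346_7350 c) (Nat.ble 7346 c)
noncomputable def Ptab_s_7350_7352 (c : Nat) : Nat := @Bool.rec (fun _ => Nat) (Ptab_7350) (Ptab_7351) (Nat.ble 7351 c)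
noncomputable def Ptab_s_7352_7354 (c : Nat) : Nat := @Bool.rec (fun _ => Nat) (Ptab_7352) (Ptab_7353) (Nat.ble 7353 c)
noncomputable def Ptab_s_7350_7354 (c : Nat) : Nat := @Bool.rec (fun _ => Nat) (Ptab_s_7350_7352 c) (Ptab_s_7352_7354 c) (Nat.ble 7352 c)
noncomputable def Ptab_s_7354_7356 (c : Nat) : Nat := @Bool.rec (fun _ => Nat) (Ptab_7354) (Ptab_7355) (Nat.ble 7355 c)
noncomputable def Ptab_s_7356_7358 (c : Nat) : Nat := @Bool.rec (fun _ => Nat) (Ptab_7356) (Ptab_7357) (Nat.ble 7357 c)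
noncomputable def Ptab_s_7354_7358 (c : Nat) : Nat := @Bool.rec (fun _ => Nat) (Ptab_s_7354_7356 c) (Ptab_s_7356_7358 c) (Nat.ble 7356 c)
noncomputable def Ptab_s_7350_7358 (c : Nat) : Nat := @Bool.rec (fun _ => Nat) (Ptab_s_7350_7354 c) (Ptab_s_7354_7358 c) (Nat.ble 7354 c)
noncomputable def Ptab_s_7343_7358 (c : Nat) : Nat := @Bool.rec (fun _ => Nat) (Ptab_s_7343_7350 c) (Ptab_s_7350_7358 c) (Nat.ble 7350 c)
noncomputable def Ptab_s_7359_7361 (c : Nat) : Nat := @Bool.rec (fun _ => Nat) (Ptab_7359) (Ptab_7360) (Nat.ble 7360 c)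
noncomputable def Ptab_s_7358_7361 (c : Nat) : Nat := @Bool.rec (fun _ => Nat) (Ptab_7358) (Ptab_s_7359_7361 c) (Nat.ble 7359 c)
noncomputable def Ptab_s_7361_7363 (c : Nat) : Nat := @Bool.rec (fun _ => Nat) (Ptab_7361) (Ptab_7362) (Nat.ble 7362 c)
noncomputable def Ptab_s_7363_7365 (c : Nat) : Nat := @Bool.rec (fun _ => Nat) (Ptab_7363) (Ptab_7364) (Nat.ble 7364 c)
noncomputable def Ptab_s_7361_7365 (c : Nat) : Nat := @Bool.rec (fun _ => Nat) (Ptab_s_7361_7363 c) (Ptab_s_7363_7365 c) (Nat.ble 7363 c)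
noncomputable def Ptab_s_7358_7365 (c : Nat) : Nat := @Bool.rec (fun _ => Nat) (Ptab_s_7358_7361 c) (Ptab_s_7361_7365 c) (Nat.ble 7361 c)
noncomputable def Ptab_s_7365_7367 (c : Nat) : Nat := @Bool.rec (fun _ => Nat) (Ptab_7365) (Ptab_7366) (Nat.ble 7366 c)
noncomputable def Ptab_s_7367_7369 (c : Nat) : Nat := @Bool.rec (fun _ => Nat) (Ptab_7367) (Ptab_7368) (Nat.ble 7368 c)
noncomputable def Ptab_s_7365_7369 (c : Nat) : Nat := @Bool.rec (fun _ => Nat) (Ptab_s_7365_7367 c) (Ptab_s_7367_7369 c) (Nat.ble 7367 c)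
noncomputable def Ptab_s_7369_7371 (c : Nat) : Nat := @Bool.rec (fun _ => Nat) (Ptab_7369) (Ptab_7370) (Nat.ble 7370 c)
noncomputable def Ptab_s_7371_7373 (c : Nat) : Nat := @Bool.rec (fun _ => Nat) (Ptab_7371) (Ptab_7372) (Nat.ble 7372 c)
noncomputable def Ptab_s_7369_7373 (c : Nat) : Nat := @Bool.rec (fun _ => Nat) (Ptab_s_7369_7371 c) (Ptab_s_7371_7373 c) (Nat.ble 7371 c)
noncomputable def Ptab_s_7365_7373 (c : Nat) : Nat := @Bool.rec (fun _ => Nat) (Ptab_s_7365_7369 c) (Ptab_s_7369_7373 c) (Nat.ble 7369 c)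
noncomputable def Ptab_s_7358_7373 (c : Nat) : Nat := @Bool.rec (fun _ => Nat) (Ptab_s_7358_7365 c) (Ptab_s_7365_7373 c) (Nat.ble 7365 c)
noncomputable def Ptab_s_7343_7373 (c : Nat) : Nat := @Bool.rec (fun _ => Nat) (Ptab_s_7343_7358 c) (Ptab_s_7358_7373 c) (Nat.ble 7358 c)
noncomputable def Ptab_s_7374_7376 (c : Nat) : Nat := @Bool.rec (fun _ => Nat) (Ptab_7374) (Ptab_7375) (Nat.ble 7375 c)
noncomputable def Ptab_s_7373_7376 (c : Nat) : Nat := @Bool.rec (fun _ => Nat) (Ptab_7373) (Ptab_s_7374_7376 c) (Nat.ble 7374 c)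
noncomputable def Ptab_s_7376_7378 (c : Nat) : Nat := @Bool.rec (fun _ => Nat) (Ptab_7376) (Ptab_7377) (Nat.ble 7377 c)
noncomputable def Ptab_s_7378_7380 (c : Nat) : Nat := @Bool.rec (fun _ => Nat) (Ptab_7378) (Ptab_7379) (Nat.ble 7379 c)
noncomputable def Ptab_s_7376_7380 (c : Nat) : Nat := @Bool.rec (fun _ => Nat) (Ptab_s_7376_7378 c) (Ptab_s_7378_7380 c) (Nat.ble 7378 c)
noncomputable def Ptab_s_7373_7380 (c : Nat) : Nat := @Bool.rec (fun _ => Nat) (Ptab_s_7373_7376 c) (Ptab_s_7376_7380 c) (Nat.ble 7376 c)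
noncomputable def Ptab_s_7380_7382 (c : Nat) : Nat := @Bool.rec (fun _ => Nat) (Ptab_7380) (Ptab_7381) (Nat.ble 7381 c)
noncomputable def Ptab_s_7382_7384 (c : Nat) : Nat := @Bool.rec (fun _ => Nat) (Ptab_7382) (Ptab_7383) (Nat.ble 7383 c)
noncomputable def Ptab_s_7380_7384 (c : Nat) : Nat := @Bool.rec (fun _ => Nat) (Ptab_s_7380_7382 c) (Ptab_s_7382_7384 c) (Nat.ble 7382 c)
noncomputable def Ptab_s_7384_7386 (c : Nat) : Nat := @Bool.rec (fun _ => Nat) (Ptab_7384) (Ptab_7385) (Nat.ble 7385 c)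
noncomputable def Ptab_s_7386_7388 (c : Nat) : Nat := @Bool.rec (fun _ => Nat) (Ptab_7386) (Ptab_7387) (Nat.ble 7387 c)
noncomputable def Ptab_s_7384_7388 (c : Nat) : Nat := @Bool.rec (fun _ => Nat) (Ptab_s_7384_7386 c) (Ptab_s_7386_7388 c) (Nat.ble 7386 c)
noncomputable def Ptab_s_7380_7388 (c : Nat) : Nat := @Bool.rec (fun _ => Nat) (Ptab_s_7380_7384 c) (Ptab_s_7384_7388 c) (Nat.ble 7384 c)
noncomputable def Ptab_s_7373_7388 (c : Nat) : Nat := @Bool.rec (fun _ => Nat) (Ptab_s_7373_7380 c) (Ptab_s_7380_7388 c) (Nat.ble 7380 c)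
noncomputable def Ptab_s_7388_7390 (c : Nat) : Nat := @Bool.rec (fun _ => Nat) (Ptab_7388) (Ptab_7389) (Nat.ble 7389 c)
noncomputable def Ptab_s_7390_7392 (c : Nat) : Nat := @Bool.rec (fun _ => Nat) (Ptab_7390) (Ptab_7391) (Nat.ble 7391 c)
noncomputable def Ptab_s_7388_7392 (c : Nat) : Nat := @Bool.rec (fun _ => Nat) (Ptab_s_7388_7390 c) (Ptab_s_7390_7392 c) (Nat.ble 7390 c)
noncomputable def Ptab_s_7392_7394 (c : Nat) : Nat := @Bool.rec (fun _ => Nat) (Ptab_7392) (Ptab_7393) (Nat.ble 7393 c)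
noncomputable def Ptab_s_7394_7396 (c : Nat) : Nat := @Bool.rec (fun _ => Nat) (Ptab_7394) (Ptab_7395) (Nat.ble 7395 c)
noncomputable def Ptab_s_7392_7396 (c : Nat) : Nat := @Bool.rec (fun _ => Nat) (Ptab_s_7392_7394 c) (Ptab_s_7394_7396 c) (Nat.ble 7394 c)
noncomputable def Ptab_s_7388_7396 (c : Nat) : Nat := @Bool.rec (fun _ => Nat) (Ptab_s_7388_7392 c) (Ptab_s_7392_7396 c) (Nat.ble 7392 c)
noncomputable def Ptab_s_7396_7398 (c : Nat) : Nat := @Bool.rec (fun _ => Nat) (Ptab_7396) (Ptab_7397) (Nat.ble 7397 c)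
noncomputable def Ptab_s_7398_7400 (c : Nat) : Nat := @Bool.rec (fun _ => Nat) (Ptab_7398) (Ptab_7399) (Nat.ble 7399 c)
noncomputable def Ptab_s_7396_7400 (c : Nat) : Nat := @Bool.rec (fun _ => Nat) (Ptab_s_7396_7398 c) (Ptab_s_7398_7400 c) (Nat.ble 7398 c)
noncomputable def Ptab_s_7400_7402 (c : Nat) : Nat := @Bool.rec (fun _ => Nat) (Ptab_7400) (Ptab_7401) (Nat.ble 7401 c)
noncomputable def Ptab_s_7402_7404 (c : Nat) : Nat := @Bool.rec (fun _ => Nat) (Ptab_7402) (Ptab_7403) (Nat.ble 7403 c)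
noncomputable def Ptab_s_7400_7404 (c : Nat) : Nat := @Bool.rec (fun _ => Nat) (Ptab_s_7400_7402 c) (Ptab_s_7402_7404 c) (Nat.ble 7402 c)
noncomputable def Ptab_s_7396_7404 (c : Nat) : Nat := @Bool.rec (fun _ => Nat) (Ptab_s_7396_7400 c) (Ptab_s_7400_7404 c) (Nat.ble 7400 c)
noncomputable def Ptab_s_7388_7404 (c : Nat) : Nat := @Bool.rec (fun _ => Nat) (Ptab_s_7388_7396 c) (Ptab_s_7396_7404 c) (Nat.ble 7396 c)
noncomputable def Ptab_s_7373_7404 (c : Nat) : Nat := @Bool.rec (fun _ => Nat) (Ptab_s_7373_7388 c) (Ptab_s_7388_7404 c) (Nat.ble 7388 c)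
noncomputable def Ptab_s_7343_7404 (c : Nat) : Nat := @Bool.rec (fun _ => Nat) (Ptab_s_7343_7373 c) (Ptab_s_7373_7404 c) (Nat.ble 7373 c)
noncomputable def Ptab_s_7405_7407 (c : Nat) : Nat := @Bool.rec (fun _ => Nat) (Ptab_7405) (Ptab_7406) (Nat.ble 7406 c)
noncomputable def Ptab_s_7404_7407 (c : Nat) : Nat := @Bool.rec (fun _ => Nat) (Ptab_7404) (Ptab_s_7405_7407 c) (Nat.ble 7405 c)
noncomputable def Ptab_s_7407_7409 (c : Nat) : Nat := @Bool.rec (fun _ => Nat) (Ptab_7407) (Ptab_7408) (Nat.ble 7408 c)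
noncomputable def Ptab_s_7409_7411 (c : Nat) : Nat := @Bool.rec (fun _ => Nat) (Ptab_7409) (Ptab_7410) (Nat.ble 7410 c)
noncomputable def Ptab_s_7407_7411 (c : Nat) : Nat := @Bool.rec (fun _ => Nat) (Ptab_s_7407_7409 c) (Ptab_s_7409_7411 c) (Nat.ble 7409 c)
noncomputable def Ptab_s_7404_7411 (c : Nat) : Nat := @Bool.rec (fun _ => Nat) (Ptab_s_7404_7407 c) (Ptab_s_7407_7411 c) (Nat.ble 7407 c)
noncomputable def Ptab_s_7411_7413 (c : Nat) : Nat := @Bool.rec (fun _ => Nat) (Ptab_7411) (Ptab_7412) (Nat.ble 7412 c)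
noncomputable def Ptab_s_7413_7415 (c : Nat) : Nat := @Bool.rec (fun _ => Nat) (Ptab_7413) (Ptab_7414) (Nat.ble 7414 c)
noncomputable def Ptab_s_7411_7415 (c : Nat) : Nat := @Bool.rec (fun _ => Nat) (Ptab_s_7411_7413 c) (Ptab_s_7413_7415 c) (Nat.ble 7413 c)
noncomputable def Ptab_s_7415_7417 (c : Nat) : Nat := @Bool.rec (fun _ => Nat) (Ptab_7415) (Ptab_7416) (Nat.ble 7416 c)
noncomputable def Ptab_s_7417_7419 (c : Nat) : Nat := @Bool.rec (fun _ => Nat) (Ptab_7417) (Ptab_7418) (Nat.ble 7418 c)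
noncomputable def Ptab_s_7415_7419 (c : Nat) : Nat := @Bool.rec (fun _ => Nat) (Ptab_s_7415_7417 c) (Ptab_s_7417_7419 c) (Nat.ble 7417 c)
noncomputable def Ptab_s_7411_7419 (c : Nat) : Nat := @Bool.rec (fun _ => Nat) (Ptab_s_7411_7415 c) (Ptab_s_7415_7419 c) (Nat.ble 7415 c)
noncomputable def Ptab_s_7404_7419 (c : Nat) : Nat := @Bool.rec (fun _ => Nat) (Ptab_s_7404_7411 c) (Ptab_s_7411_7419 c) (Nat.ble 7411 c)
noncomputable def Ptab_s_7420_7422 (c : Nat) : Nat := @Bool.rec (fun _ => Nat) (Ptab_7420) (Ptab_7421) (Nat.ble 7421 c)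
noncomputable def Ptab_s_7419_7422 (c : Nat) : Nat := @Bool.rec (fun _ => Nat) (Ptab_7419) (Ptab_s_7420_7422 c) (Nat.ble 7420 c)
noncomputable def Ptab_s_7422_7424 (c : Nat) : Nat := @Bool.rec (fun _ => Nat) (Ptab_7422) (Ptab_7423) (Nat.ble 7423 c)
noncomputable def Ptab_s_7424_7426 (c : Nat) : Nat := @Bool.rec (fun _ => Nat) (Ptab_7424) (Ptab_7425) (Nat.ble 7425 c)
noncomputable def Ptab_s_7422_7426 (c : Nat) : Nat := @Bool.rec (fun _ => Nat) (Ptab_s_7422_7424 c) (Ptab_s_7424_7426 c) (Nat.ble 7424 c)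
noncomputable def Ptab_s_7419_7426 (c : Nat) : Nat := @Bool.rec (fun _ => Nat) (Ptab_s_7419_7422 c) (Ptab_s_7422_7426 c) (Nat.ble 7422 c)
noncomputable def Ptab_s_7426_7428 (c : Nat) : Nat := @Bool.rec (fun _ => Nat) (Ptab_7426) (Ptab_7427) (Nat.ble 7427 c)
noncomputable def Ptab_s_7428_7430 (c : Nat) : Nat := @Bool.rec (fun _ => Nat) (Ptab_7428) (Ptab_7429) (Nat.ble 7429 c)
noncomputable def Ptab_s_7426_7430 (c : Nat) : Nat := @Bool.rec (fun _ => Nat) (Ptab_s_7426_7428 c) (Ptab_s_7428_7430 c) (Nat.ble 7428 c)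
noncomputable def Ptab_s_7430_7432 (c : Nat) : Nat := @Bool.rec (fun _ => Nat) (Ptab_7430) (Ptab_7431) (Nat.ble 7431 c)
noncomputable def Ptab_s_7432_7434 (c : Nat) : Nat := @Bool.rec (fun _ => Nat) (Ptab_7432) (Ptab_7433) (Nat.ble 7433 c)
noncomputable def Ptab_s_7430_7434 (c : Nat) : Nat := @Bool.rec (fun _ => Nat) (Ptab_s_7430_7432 c) (Ptab_s_7432_7434 c) (Nat.ble 7432 c)
noncomputable def Ptab_s_7426_7434 (c : Nat) : Nat := @Bool.rec (fun _ => Nat) (Ptab_s_7426_7430 c) (Ptab_s_7430_7434 c) (Nat.ble 7430 c)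
noncomputable def Ptab_s_7419_7434 (c : Nat) : Nat := @Bool.rec (fun _ => Nat) (Ptab_s_7419_7426 c) (Ptab_s_7426_7434 c) (Nat.ble 7426 c)
noncomputable def Ptab_s_7404_7434 (c : Nat) : Nat := @Bool.rec (fun _ => Nat) (Ptab_s_7404_7419 c) (Ptab_s_7419_7434 c) (Nat.ble 7419 c)
noncomputable def Ptab_s_7435_7437 (c : Nat) : Nat := @Bool.rec (fun _ => Nat) (Ptab_7435) (Ptab_7436) (Nat.ble 7436 c)
noncomputable def Ptab_s_7434_7437 (c : Nat) : Nat := @Bool.rec (fun _ => Nat) (Ptab_7434) (Ptab_s_7435_7437 c) (Nat.ble 7435 c)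
noncomputable def Ptab_s_7437_7439 (c : Nat) : Nat := @Bool.rec (fun _ => Nat) (Ptab_7437) (Ptab_7438) (Nat.ble 7438 c)
noncomputable def Ptab_s_7439_7441 (c : Nat) : Nat := @Bool.rec (fun _ => Nat) (Ptab_7439) (Ptab_7440) (Nat.ble 7440 c)
noncomputable def Ptab_s_7437_7441 (c : Nat) : Nat := @Bool.rec (fun _ => Nat) (Ptab_s_7437_7439 c) (Ptab_s_7439_7441 c) (Nat.ble 7439 c)
noncomputable def Ptab_s_7434_7441 (c : Nat) : Nat := @Bool.rec (fun _ => Nat) (Ptab_s_7434_7437 c) (Ptab_s_7437_7441 c) (Nat.ble 7437 c)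
noncomputable def Ptab_s_7441_7443 (c : Nat) : Nat := @Bool.rec (fun _ => Nat) (Ptab_7441) (Ptab_7442) (Nat.ble 7442 c)
noncomputable def Ptab_s_7443_7445 (c : Nat) : Nat := @Bool.rec (fun _ => Nat) (Ptab_7443) (Ptab_7444) (Nat.ble 7444 c)
noncomputable def Ptab_s_7441_7445 (c : Nat) : Nat := @Bool.rec (fun _ => Nat) (Ptab_s_7441_7443 c) (Ptab_s_7443_7445 c) (Nat.ble 7443 c)
noncomputable def Ptab_s_7445_7447 (c : Nat) : Nat := @Bool.rec (fun _ => Nat) (Ptab_7445) (Ptab_7446) (Nat.ble 7446 c)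
noncomputable def Ptab_s_7447_7449 (c : Nat) : Nat := @Bool.rec (fun _ => Nat) (Ptab_7447) (Ptab_7448) (Nat.ble 7448 c)
noncomputable def Ptab_s_7445_7449 (c : Nat) : Nat := @Bool.rec (fun _ => Nat) (Ptab_s_7445_7447 c) (Ptab_s_7447_7449 c) (Nat.ble 7447 c)
noncomputable def Ptab_s_7441_7449 (c : Nat) : Nat := @Bool.rec (fun _ => Nat) (Ptab_s_7441_7445 c) (Ptab_s_7445_7449 c) (Nat.ble 7445 c)
noncomputable def Ptab_s_7434_7449 (c : Nat) : Nat := @Bool.rec (fun _ => Nat) (Ptab_s_7434_7441 c) (Ptab_s_7441_7449 c) (Nat.ble 7441 c)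
noncomputable def Ptab_s_7449_7451 (c : Nat) : Nat := @Bool.rec (fun _ => Nat) (Ptab_7449) (Ptab_7450) (Nat.ble 7450 c)
noncomputable def Ptab_s_7451_7453 (c : Nat) : Nat := @Bool.rec (fun _ => Nat) (Ptab_7451) (Ptab_7452) (Nat.ble 7452 c)
noncomputable def Ptab_s_7449_7453 (c : Nat) : Nat := @Bool.rec (fun _ => Nat) (Ptab_s_7449_7451 c) (Ptab_s_7451_7453 c) (Nat.ble 7451 c)
noncomputable def Ptab_s_7453_7455 (c : Nat) : Nat := @Bool.rec (fun _ => Nat) (Ptab_7453) (Ptab_7454) (Nat.ble 7454 c)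
noncomputable def Ptab_s_7455_7457 (c : Nat) : Nat := @Bool.rec (fun _ => Nat) (Ptab_7455) (Ptab_7456) (Nat.ble 7456 c)
noncomputable def Ptab_s_7453_7457 (c : Nat) : Nat := @Bool.rec (fun _ => Nat) (Ptab_s_7453_7455 c) (Ptab_s_7455_7457 c) (Nat.ble 7455 c)
noncomputable def Ptab_s_7449_7457 (c : Nat) : Nat := @Bool.rec (fun _ => Nat) (Ptab_s_7449_7453 c) (Ptab_s_7453_7457 c) (Nat.ble 7453 c)
noncomputable def Ptab_s_7457_7459 (c : Nat) : Nat := @Bool.rec (fun _ => Nat) (Ptab_7457) (Ptab_7458) (Nat.ble 7458 c)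
noncomputable def Ptab_s_7459_7461 (c : Nat) : Nat := @Bool.rec (fun _ => Nat) (Ptab_7459) (Ptab_7460) (Nat.ble 7460 c)
noncomputable def Ptab_s_7457_7461 (c : Nat) : Nat := @Bool.rec (fun _ => Nat) (Ptab_s_7457_7459 c) (Ptab_s_7459_7461 c) (Nat.ble 7459 c)
noncomputable def Ptab_s_7461_7463 (c : Nat) : Nat := @Bool.rec (fun _ => Nat) (Ptab_7461) (Ptab_7462) (Nat.ble 7462 c)
noncomputable def Ptab_s_7463_7465 (c : Nat) : Nat := @Bool.rec (fun _ => Nat) (Ptab_7463) (Ptab_7464) (Nat.ble 7464 c)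
noncomputable def Ptab_s_7461_7465 (c : Nat) : Nat := @Bool.rec (fun _ => Nat) (Ptab_s_7461_7463 c) (Ptab_s_7463_7465 c) (Nat.ble 7463 c)
noncomputable def Ptab_s_7457_7465 (c : Nat) : Nat := @Bool.rec (fun _ => Nat) (Ptab_s_7457_7461 c) (Ptab_s_7461_7465 c) (Nat.ble 7461 c)
noncomputable def Ptab_s_7449_7465 (c : Nat) : Nat := @Bool.rec (fun _ => Nat) (Ptab_s_7449_7457 c) (Ptab_s_7457_7465 c) (Nat.ble 7457 c)
noncomputable def Ptab_s_7434_7465 (c : Nat) : Nat := @Bool.rec (fun _ => Nat) (Ptab_s_7434_7449 c) (Ptab_s_7449_7465 c) (Nat.ble 7449 c)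
noncomputable def Ptab_s_7404_7465 (c : Nat) : Nat := @Bool.rec (fun _ => Nat) (Ptab_s_7404_7434 c) (Ptab_s_7434_7465 c) (Nat.ble 7434 c)
noncomputable def Ptab_s_7343_7465 (c : Nat) : Nat := @Bool.rec (fun _ => Nat) (Ptab_s_7343_7404 c) (Ptab_s_7404_7465 c) (Nat.ble 7404 c)
noncomputable def Ptab_s_7466_7468 (c : Nat) : Nat := @Bool.rec (fun _ => Nat) (Ptab_7466) (Ptab_7467) (Nat.ble 7467 c)
noncomputable def Ptab_s_7465_7468 (c : Nat) : Nat := @Bool.rec (fun _ => Nat) (Ptab_7465) (Ptab_s_7466_7468 c) (Nat.ble 7466 c)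
noncomputable def Ptab_s_7468_7470 (c : Nat) : Nat := @Bool.rec (fun _ => Nat) (Ptab_7468) (Ptab_7469) (Nat.ble 7469 c)
noncomputable def Ptab_s_7470_7472 (c : Nat) : Nat := @Bool.rec (fun _ => Nat) (Ptab_7470) (Ptab_7471) (Nat.ble 7471 c)
noncomputable def Ptab_s_7468_7472 (c : Nat) : Nat := @Bool.rec (fun _ => Nat) (Ptab_s_7468_7470 c) (Ptab_s_7470_7472 c) (Nat.ble 7470 c)
noncomputable def Ptab_s_7465_7472 (c : Nat) : Nat := @Bool.rec (fun _ => Nat) (Ptab_s_7465_7468 c) (Ptab_s_7468_7472 c) (Nat.ble 7468 c)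
noncomputable def Ptab_s_7472_7474 (c : Nat) : Nat := @Bool.rec (fun _ => Nat) (Ptab_7472) (Ptab_7473) (Nat.ble 7473 c)
noncomputable def Ptab_s_7474_7476 (c : Nat) : Nat := @Bool.rec (fun _ => Nat) (Ptab_7474) (Ptab_7475) (Nat.ble 7475 c)
noncomputable def Ptab_s_7472_7476 (c : Nat) : Nat := @Bool.rec (fun _ => Nat) (Ptab_s_7472_7474 c) (Ptab_s_7474_7476 c) (Nat.ble 7474 c)
noncomputable def Ptab_s_7476_7478 (c : Nat) : Nat := @Bool.rec (fun _ => Nat) (Ptab_7476) (Ptab_7477) (Nat.ble 7477 c)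
noncomputable def Ptab_s_7478_7480 (c : Nat) : Nat := @Bool.rec (fun _ => Nat) (Ptab_7478) (Ptab_7479) (Nat.ble 7479 c)
noncomputable def Ptab_s_7476_7480 (c : Nat) : Nat := @Bool.rec (fun _ => Nat) (Ptab_s_7476_7478 c) (Ptab_s_7478_7480 c) (Nat.ble 7478 c)
noncomputable def Ptab_s_7472_7480 (c : Nat) : Nat := @Bool.rec (fun _ => Nat) (Ptab_s_7472_7476 c) (Ptab_s_7476_7480 c) (Nat.ble 7476 c)
noncomputable def Ptab_s_7465_7480 (c : Nat) : Nat := @Bool.rec (fun _ => Nat) (Ptab_s_7465_7472 c) (Ptab_s_7472_7480 c) (Nat.ble 7472 c)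
noncomputable def Ptab_s_7481_7483 (c : Nat) : Nat := @Bool.rec (fun _ => Nat) (Ptab_7481) (Ptab_7482) (Nat.ble 7482 c)
noncomputable def Ptab_s_7480_7483 (c : Nat) : Nat := @Bool.rec (fun _ => Nat) (Ptab_7480) (Ptab_s_7481_7483 c) (Nat.ble 7481 c)
noncomputable def Ptab_s_7483_7485 (c : Nat) : Nat := @Bool.rec (fun _ => Nat) (Ptab_7483) (Ptab_7484) (Nat.ble 7484 c)
noncomputable def Ptab_s_7485_7487 (c : Nat) : Nat := @Bool.rec (fun _ => Nat) (Ptab_7485) (Ptab_7486) (Nat.ble 7486 c)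
noncomputable def Ptab_s_7483_7487 (c : Nat) : Nat := @Bool.rec (fun _ => Nat) (Ptab_s_7483_7485 c) (Ptab_s_7485_7487 c) (Nat.ble 7485 c)
noncomputable def Ptab_s_7480_7487 (c : Nat) : Nat := @Bool.rec (fun _ => Nat) (Ptab_s_7480_7483 c) (Ptab_s_7483_7487 c) (Nat.ble 7483 c)
noncomputable def Ptab_s_7487_7489 (c : Nat) : Nat := @Bool.rec (fun _ => Nat) (Ptab_7487) (Ptab_7488) (Nat.ble 7488 c)
noncomputable def Ptab_s_7489_7491 (c : Nat) : Nat := @Bool.rec (fun _ => Nat) (Ptab_7489) (Ptab_7490) (Nat.ble 7490 c)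
noncomputable def Ptab_s_7487_7491 (c : Nat) : Nat := @Bool.rec (fun _ => Nat) (Ptab_s_7487_7489 c) (Ptab_s_7489_7491 c) (Nat.ble 7489 c)
noncomputable def Ptab_s_7491_7493 (c : Nat) : Nat := @Bool.rec (fun _ => Nat) (Ptab_7491) (Ptab_7492) (Nat.ble 7492 c)
noncomputable def Ptab_s_7493_7495 (c : Nat) : Nat := @Bool.rec (fun _ => Nat) (Ptab_7493) (Ptab_7494) (Nat.ble 7494 c)
noncomputable def Ptab_s_7491_7495 (c : Nat) : Nat := @Bool.rec (fun _ => Nat) (Ptab_s_7491_7493 c) (Ptab_s_7493_7495 c) (Nat.ble 7493 c)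
noncomputable def Ptab_s_7487_7495 (c : Nat) : Nat := @Bool.rec (fun _ => Nat) (Ptab_s_7487_7491 c) (Ptab_s_7491_7495 c) (Nat.ble 7491 c)
noncomputable def Ptab_s_7480_7495 (c : Nat) : Nat := @Bool.rec (fun _ => Nat) (Ptab_s_7480_7487 c) (Ptab_s_7487_7495 c) (Nat.ble 7487 c)
noncomputable def Ptab_s_7465_7495 (c : Nat) : Nat := @Bool.rec (fun _ => Nat) (Ptab_s_7465_7480 c) (Ptab_s_7480_7495 c) (Nat.ble 7480 c)
noncomputable def Ptab_s_7496_7498 (c : Nat) : Nat := @Bool.rec (fun _ => Nat) (Ptab_7496) (Ptab_7497) (Nat.ble 7497 c)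
noncomputable def Ptab_s_7495_7498 (c : Nat) : Nat := @Bool.rec (fun _ => Nat) (Ptab_7495) (Ptab_s_7496_7498 c) (Nat.ble 7496 c)
noncomputable def Ptab_s_7498_7500 (c : Nat) : Nat := @Bool.rec (fun _ => Nat) (Ptab_7498) (Ptab_7499) (Nat.ble 7499 c)
noncomputable def Ptab_s_7500_7502 (c : Nat) : Nat := @Bool.rec (fun _ => Nat) (Ptab_7500) (Ptab_7501) (Nat.ble 7501 c)
noncomputable def Ptab_s_7498_7502 (c : Nat) : Nat := @Bool.rec (fun _ => Nat) (Ptab_s_7498_7500 c) (Ptab_s_7500_7502 c) (Nat.ble 7500 c)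
noncomputable def Ptab_s_7495_7502 (c : Nat) : Nat := @Bool.rec (fun _ => Nat) (Ptab_s_7495_7498 c) (Ptab_s_7498_7502 c) (Nat.ble 7498 c)
noncomputable def Ptab_s_7502_7504 (c : Nat) : Nat := @Bool.rec (fun _ => Nat) (Ptab_7502) (Ptab_7503) (Nat.ble 7503 c)
noncomputable def Ptab_s_7504_7506 (c : Nat) : Nat := @Bool.rec (fun _ => Nat) (Ptab_7504) (Ptab_7505) (Nat.ble 7505 c)
noncomputable def Ptab_s_7502_7506 (c : Nat) : Nat := @Bool.rec (fun _ => Nat) (Ptab_s_7502_7504 c) (Ptab_s_7504_7506 c) (Nat.ble 7504 c)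
noncomputable def Ptab_s_7506_7508 (c : Nat) : Nat := @Bool.rec (fun _ => Nat) (Ptab_7506) (Ptab_7507) (Nat.ble 7507 c)
noncomputable def Ptab_s_7508_7510 (c : Nat) : Nat := @Bool.rec (fun _ => Nat) (Ptab_7508) (Ptab_7509) (Nat.ble 7509 c)
noncomputable def Ptab_s_7506_7510 (c : Nat) : Nat := @Bool.rec (fun _ => Nat) (Ptab_s_7506_7508 c) (Ptab_s_7508_7510 c) (Nat.ble 7508 c)
noncomputable def Ptab_s_7502_7510 (c : Nat) : Nat := @Bool.rec (fun _ => Nat) (Ptab_s_7502_7506 c) (Ptab_s_7506_7510 c) (Nat.ble 7506 c)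
noncomputable def Ptab_s_7495_7510 (c : Nat) : Nat := @Bool.rec (fun _ => Nat) (Ptab_s_7495_7502 c) (Ptab_s_7502_7510 c) (Nat.ble 7502 c)
noncomputable def Ptab_s_7510_7512 (c : Nat) : Nat := @Bool.rec (fun _ => Nat) (Ptab_7510) (Ptab_7511) (Nat.ble 7511 c)
noncomputable def Ptab_s_7512_7514 (c : Nat) : Nat := @Bool.rec (fun _ => Nat) (Ptab_7512) (Ptab_7513) (Nat.ble 7513 c)
noncomputable def Ptab_s_7510_7514 (c : Nat) : Nat := @Bool.rec (fun _ => Nat) (Ptab_s_7510_7512 c) (Ptab_s_7512_7514 c) (Nat.ble 7512 c)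
noncomputable def Ptab_s_7514_7516 (c : Nat) : Nat := @Bool.rec (fun _ => Nat) (Ptab_7514) (Ptab_7515) (Nat.ble 7515 c)
noncomputable def Ptab_s_7516_7518 (c : Nat) : Nat := @Bool.rec (fun _ => Nat) (Ptab_7516) (Ptab_7517) (Nat.ble 7517 c)
noncomputable def Ptab_s_7514_7518 (c : Nat) : Nat := @Bool.rec (fun _ => Nat) (Ptab_s_7514_7516 c) (Ptab_s_7516_7518 c) (Nat.ble 7516 c)
noncomputable def Ptab_s_7510_7518 (c : Nat) : Nat := @Bool.rec (fun _ => Nat) (Ptab_s_7510_7514 c) (Ptab_s_7514_7518 c) (Nat.ble 7514 c)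
noncomputable def Ptab_s_7518_7520 (c : Nat) : Nat := @Bool.rec (fun _ => Nat) (Ptab_7518) (Ptab_7519) (Nat.ble 7519 c)
noncomputable def Ptab_s_7520_7522 (c : Nat) : Nat := @Bool.rec (fun _ => Nat) (Ptab_7520) (Ptab_7521) (Nat.ble 7521 c)
noncomputable def Ptab_s_7518_7522 (c : Nat) : Nat := @Bool.rec (fun _ => Nat) (Ptab_s_7518_7520 c) (Ptab_s_7520_7522 c) (Nat.ble 7520 c)
noncomputable def Ptab_s_7522_7524 (c : Nat) : Nat := @Bool.rec (fun _ => Nat) (Ptab_7522) (Ptab_7523) (Nat.ble 7523 c)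
noncomputable def Ptab_s_7524_7526 (c : Nat) : Nat := @Bool.rec (fun _ => Nat) (Ptab_7524) (Ptab_7525) (Nat.ble 7525 c)
noncomputable def Ptab_s_7522_7526 (c : Nat) : Nat := @Bool.rec (fun _ => Nat) (Ptab_s_7522_7524 c) (Ptab_s_7524_7526 c) (Nat.ble 7524 c)
noncomputable def Ptab_s_7518_7526 (c : Nat) : Nat := @Bool.rec (fun _ => Nat) (Ptab_s_7518_7522 c) (Ptab_s_7522_7526 c) (Nat.ble 7522 c)
noncomputable def Ptab_s_7510_7526 (c : Nat) : Nat := @Bool.rec (fun _ => Nat) (Ptab_s_7510_7518 c) (Ptab_s_7518_7526 c) (Nat.ble 7518 c)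
noncomputable def Ptab_s_7495_7526 (c : Nat) : Nat := @Bool.rec (fun _ => Nat) (Ptab_s_7495_7510 c) (Ptab_s_7510_7526 c) (Nat.ble 7510 c)
noncomputable def Ptab_s_7465_7526 (c : Nat) : Nat := @Bool.rec (fun _ => Nat) (Ptab_s_7465_7495 c) (Ptab_s_7495_7526 c) (Nat.ble 7495 c)
noncomputable def Ptab_s_7527_7529 (c : Nat) : Nat := @Bool.rec (fun _ => Nat) (Ptab_7527) (Ptab_7528) (Nat.ble 7528 c)
noncomputable def Ptab_s_7526_7529 (c : Nat) : Nat := @Bool.rec (fun _ => Nat) (Ptab_7526) (Ptab_s_7527_7529 c) (Nat.ble 7527 c)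
noncomputable def Ptab_s_7529_7531 (c : Nat) : Nat := @Bool.rec (fun _ => Nat) (Ptab_7529) (Ptab_7530) (Nat.ble 7530 c)
noncomputable def Ptab_s_7531_7533 (c : Nat) : Nat := @Bool.rec (fun _ => Nat) (Ptab_7531) (Ptab_7532) (Nat.ble 7532 c)
noncomputable def Ptab_s_7529_7533 (c : Nat) : Nat := @Bool.rec (fun _ => Nat) (Ptab_s_7529_7531 c) (Ptab_s_7531_7533 c) (Nat.ble 7531 c)
noncomputable def Ptab_s_7526_7533 (c : Nat) : Nat := @Bool.rec (fun _ => Nat) (Ptab_s_7526_7529 c) (Ptab_s_7529_7533 c) (Nat.ble 7529 c)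
noncomputable def Ptab_s_7533_7535 (c : Nat) : Nat := @Bool.rec (fun _ => Nat) (Ptab_7533) (Ptab_7534) (Nat.ble 7534 c)
noncomputable def Ptab_s_7535_7537 (c : Nat) : Nat := @Bool.rec (fun _ => Nat) (Ptab_7535) (Ptab_7536) (Nat.ble 7536 c)
noncomputable def Ptab_s_7533_7537 (c : Nat) : Nat := @Bool.rec (fun _ => Nat) (Ptab_s_7533_7535 c) (Ptab_s_7535_7537 c) (Nat.ble 7535 c)
noncomputable def Ptab_s_7537_7539 (c : Nat) : Nat := @Bool.rec (fun _ => Nat) (Ptab_7537) (Ptab_7538) (Nat.ble 7538 c)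
noncomputable def Ptab_s_7539_7541 (c : Nat) : Nat := @Bool.rec (fun _ => Nat) (Ptab_7539) (Ptab_7540) (Nat.ble 7540 c)
noncomputable def Ptab_s_7537_7541 (c : Nat) : Nat := @Bool.rec (fun _ => Nat) (Ptab_s_7537_7539 c) (Ptab_s_7539_7541 c) (Nat.ble 7539 c)
noncomputable def Ptab_s_7533_7541 (c : Nat) : Nat := @Bool.rec (fun _ => Nat) (Ptab_s_7533_7537 c) (Ptab_s_7537_7541 c) (Nat.ble 7537 c)
noncomputable def Ptab_s_7526_7541 (c : Nat) : Nat := @Bool.rec (fun _ => Nat) (Ptab_s_7526_7533 c) (Ptab_s_7533_7541 c) (Nat.ble 7533 c)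
noncomputable def Ptab_s_7541_7543 (c : Nat) : Nat := @Bool.rec (fun _ => Nat) (Ptab_7541) (Ptab_7542) (Nat.ble 7542 c)
noncomputable def Ptab_s_7543_7545 (c : Nat) : Nat := @Bool.rec (fun _ => Nat) (Ptab_7543) (Ptab_7544) (Nat.ble 7544 c)
noncomputable def Ptab_s_7541_7545 (c : Nat) : Nat := @Bool.rec (fun _ => Nat) (Ptab_s_7541_7543 c) (Ptab_s_7543_7545 c) (Nat.ble 7543 c)
noncomputable def Ptab_s_7545_7547 (c : Nat) : Nat := @Bool.rec (fun _ => Nat) (Ptab_7545) (Ptab_7546) (Nat.ble 7546 c)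
noncomputable def Ptab_s_7547_7549 (c : Nat) : Nat := @Bool.rec (fun _ => Nat) (Ptab_7547) (Ptab_7548) (Nat.ble 7548 c)
noncomputable def Ptab_s_7545_7549 (c : Nat) : Nat := @Bool.rec (fun _ => Nat) (Ptab_s_7545_7547 c) (Ptab_s_7547_7549 c) (Nat.ble 7547 c)
noncomputable def Ptab_s_7541_7549 (c : Nat) : Nat := @Bool.rec (fun _ => Nat) (Ptab_s_7541_7545 c) (Ptab_s_7545_7549 c) (Nat.ble 7545 c)
noncomputable def Ptab_s_7549_7551 (c : Nat) : Nat := @Bool.rec (fun _ => Nat) (Ptab_7549) (Ptab_7550) (Nat.ble 7550 c)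
noncomputable def Ptab_s_7551_7553 (c : Nat) : Nat := @Bool.rec (fun _ => Nat) (Ptab_7551) (Ptab_7552) (Nat.ble 7552 c)
noncomputable def Ptab_s_7549_7553 (c : Nat) : Nat := @Bool.rec (fun _ => Nat) (Ptab_s_7549_7551 c) (Ptab_s_7551_7553 c) (Nat.ble 7551 c)
noncomputable def Ptab_s_7553_7555 (c : Nat) : Nat := @Bool.rec (fun _ => Nat) (Ptab_7553) (Ptab_7554) (Nat.ble 7554 c)
noncomputable def Ptab_s_7555_7557 (c : Nat) : Nat := @Bool.rec (fun _ => Nat) (Ptab_7555) (Ptab_7556) (Nat.ble 7556 c)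
noncomputable def Ptab_s_7553_7557 (c : Nat) : Nat := @Bool.rec (fun _ => Nat) (Ptab_s_7553_7555 c) (Ptab_s_7555_7557 c) (Nat.ble 7555 c)
noncomputable def Ptab_s_7549_7557 (c : Nat) : Nat := @Bool.rec (fun _ => Nat) (Ptab_s_7549_7553 c) (Ptab_s_7553_7557 c) (Nat.ble 7553 c)
noncomputable def Ptab_s_7541_7557 (c : Nat) : Nat := @Bool.rec (fun _ => Nat) (Ptab_s_7541_7549 c) (Ptab_s_7549_7557 c) (Nat.ble 7549 c)
noncomputable def Ptab_s_7526_7557 (c : Nat) : Nat := @Bool.rec (fun _ => Nat) (Ptab_s_7526_7541 c) (Ptab_s_7541_7557 c) (Nat.ble 7541 c)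
noncomputable def Ptab_s_7558_7560 (c : Nat) : Nat := @Bool.rec (fun _ => Nat) (Ptab_7558) (Ptab_7559) (Nat.ble 7559 c)
noncomputable def Ptab_s_7557_7560 (c : Nat) : Nat := @Bool.rec (fun _ => Nat) (Ptab_7557) (Ptab_s_7558_7560 c) (Nat.ble 7558 c)
noncomputable def Ptab_s_7560_7562 (c : Nat) : Nat := @Bool.rec (fun _ => Nat) (Ptab_7560) (Ptab_7561) (Nat.ble 7561 c)
noncomputable def Ptab_s_7562_7564 (c : Nat) : Nat := @Bool.rec (fun _ => Nat) (Ptab_7562) (Ptab_7563) (Nat.ble 7563 c)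
noncomputable def Ptab_s_7560_7564 (c : Nat) : Nat := @Bool.rec (fun _ => Nat) (Ptab_s_7560_7562 c) (Ptab_s_7562_7564 c) (Nat.ble 7562 c)
noncomputable def Ptab_s_7557_7564 (c : Nat) : Nat := @Bool.rec (fun _ => Nat) (Ptab_s_7557_7560 c) (Ptab_s_7560_7564 c) (Nat.ble 7560 c)
noncomputable def Ptab_s_7564_7566 (c : Nat) : Nat := @Bool.rec (fun _ => Nat) (Ptab_7564) (Ptab_7565) (Nat.ble 7565 c)
noncomputable def Ptab_s_7566_7568 (c : Nat) : Nat := @Bool.rec (fun _ => Nat) (Ptab_7566) (Ptab_7567) (Nat.ble 7567 c)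
noncomputable def Ptab_s_7564_7568 (c : Nat) : Nat := @Bool.rec (fun _ => Nat) (Ptab_s_7564_7566 c) (Ptab_s_7566_7568 c) (Nat.ble 7566 c)
noncomputable def Ptab_s_7568_7570 (c : Nat) : Nat := @Bool.rec (fun _ => Nat) (Ptab_7568) (Ptab_7569) (Nat.ble 7569 c)
noncomputable def Ptab_s_7570_7572 (c : Nat) : Nat := @Bool.rec (fun _ => Nat) (Ptab_7570) (Ptab_7571) (Nat.ble 7571 c)
noncomputable def Ptab_s_7568_7572 (c : Nat) : Nat := @Bool.rec (fun _ => Nat) (Ptab_s_7568_7570 c) (Ptab_s_7570_7572 c) (Nat.ble 7570 c)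
noncomputable def Ptab_s_7564_7572 (c : Nat) : Nat := @Bool.rec (fun _ => Nat) (Ptab_s_7564_7568 c) (Ptab_s_7568_7572 c) (Nat.ble 7568 c)
noncomputable def Ptab_s_7557_7572 (c : Nat) : Nat := @Bool.rec (fun _ => Nat) (Ptab_s_7557_7564 c) (Ptab_s_7564_7572 c) (Nat.ble 7564 c)
noncomputable def Ptab_s_7572_7574 (c : Nat) : Nat := @Bool.rec (fun _ => Nat) (Ptab_7572) (Ptab_7573) (Nat.ble 7573 c)
noncomputable def Ptab_s_7574_7576 (c : Nat) : Nat := @Bool.rec (fun _ => Nat) (Ptab_7574) (Ptab_7575) (Nat.ble 7575 c)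
noncomputable def Ptab_s_7572_7576 (c : Nat) : Nat := @Bool.rec (fun _ => Nat) (Ptab_s_7572_7574 c) (Ptab_s_7574_7576 c) (Nat.ble 7574 c)
noncomputable def Ptab_s_7576_7578 (c : Nat) : Nat := @Bool.rec (fun _ => Nat) (Ptab_7576) (Ptab_7577) (Nat.ble 7577 c)
noncomputable def Ptab_s_7578_7580 (c : Nat) : Nat := @Bool.rec (fun _ => Nat) (Ptab_7578) (Ptab_7579) (Nat.ble 7579 c)
noncomputable def Ptab_s_7576_7580 (c : Nat) : Nat := @Bool.rec (fun _ => Nat) (Ptab_s_7576_7578 c) (Ptab_s_7578_7580 c) (Nat.ble 7578 c)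
noncomputable def Ptab_s_7572_7580 (c : Nat) : Nat := @Bool.rec (fun _ => Nat) (Ptab_s_7572_7576 c) (Ptab_s_7576_7580 c) (Nat.ble 7576 c)
noncomputable def Ptab_s_7580_7582 (c : Nat) : Nat := @Bool.rec (fun _ => Nat) (Ptab_7580) (Ptab_7581) (Nat.ble 7581 c)
noncomputable def Ptab_s_7582_7584 (c : Nat) : Nat := @Bool.rec (fun _ => Nat) (Ptab_7582) (Ptab_7583) (Nat.ble 7583 c)
noncomputable def Ptab_s_7580_7584 (c : Nat) : Nat := @Bool.rec (fun _ => Nat) (Ptab_s_7580_7582 c) (Ptab_s_7582_7584 c) (Nat.ble 7582 c)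
noncomputable def Ptab_s_7584_7586 (c : Nat) : Nat := @Bool.rec (fun _ => Nat) (Ptab_7584) (Ptab_7585) (Nat.ble 7585 c)
noncomputable def Ptab_s_7586_7588 (c : Nat) : Nat := @Bool.rec (fun _ => Nat) (Ptab_7586) (Ptab_7587) (Nat.ble 7587 c)
noncomputable def Ptab_s_7584_7588 (c : Nat) : Nat := @Bool.rec (fun _ => Nat) (Ptab_s_7584_7586 c) (Ptab_s_7586_7588 c) (Nat.ble 7586 c)
noncomputable def Ptab_s_7580_7588 (c : Nat) : Nat := @Bool.rec (fun _ => Nat) (Ptab_s_7580_7584 c) (Ptab_s_7584_7588 c) (Nat.ble 7584 c)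
noncomputable def Ptab_s_7572_7588 (c : Nat) : Nat := @Bool.rec (fun _ => Nat) (Ptab_s_7572_7580 c) (Ptab_s_7580_7588 c) (Nat.ble 7580 c)
noncomputable def Ptab_s_7557_7588 (c : Nat) : Nat := @Bool.rec (fun _ => Nat) (Ptab_s_7557_7572 c) (Ptab_s_7572_7588 c) (Nat.ble 7572 c)
noncomputable def Ptab_s_7526_7588 (c : Nat) : Nat := @Bool.rec (fun _ => Nat) (Ptab_s_7526_7557 c) (Ptab_s_7557_7588 c) (Nat.ble 7557 c)
noncomputable def Ptab_s_7465_7588 (c : Nat) : Nat := @Bool.rec (fun _ => Nat) (Ptab_s_7465_7526 c) (Ptab_s_7526_7588 c) (Nat.ble 7526 c)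
noncomputable def Ptab_s_7343_7588 (c : Nat) : Nat := @Bool.rec (fun _ => Nat) (Ptab_s_7343_7465 c) (Ptab_s_7465_7588 c) (Nat.ble 7465 c)
noncomputable def Ptab_s_7589_7591 (c : Nat) : Nat := @Bool.rec (fun _ => Nat) (Ptab_7589) (Ptab_7590) (Nat.ble 7590 c)
noncomputable def Ptab_s_7588_7591 (c : Nat) : Nat := @Bool.rec (fun _ => Nat) (Ptab_7588) (Ptab_s_7589_7591 c) (Nat.ble 7589 c)
noncomputable def Ptab_s_7591_7593 (c : Nat) : Nat := @Bool.rec (fun _ => Nat) (Ptab_7591) (Ptab_7592) (Nat.ble 7592 c)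
noncomputable def Ptab_s_7593_7595 (c : Nat) : Nat := @Bool.rec (fun _ => Nat) (Ptab_7593) (Ptab_7594) (Nat.ble 7594 c)
noncomputable def Ptab_s_7591_7595 (c : Nat) : Nat := @Bool.rec (fun _ => Nat) (Ptab_s_7591_7593 c) (Ptab_s_7593_7595 c) (Nat.ble 7593 c)
noncomputable def Ptab_s_7588_7595 (c : Nat) : Nat := @Bool.rec (fun _ => Nat) (Ptab_s_7588_7591 c) (Ptab_s_7591_7595 c) (Nat.ble 7591 c)
noncomputable def Ptab_s_7595_7597 (c : Nat) : Nat := @Bool.rec (fun _ => Nat) (Ptab_7595) (Ptab_7596) (Nat.ble 7596 c)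
noncomputable def Ptab_s_7597_7599 (c : Nat) : Nat := @Bool.rec (fun _ => Nat) (Ptab_7597) (Ptab_7598) (Nat.ble 7598 c)
noncomputable def Ptab_s_7595_7599 (c : Nat) : Nat := @Bool.rec (fun _ => Nat) (Ptab_s_7595_7597 c) (Ptab_s_7597_7599 c) (Nat.ble 7597 c)
noncomputable def Ptab_s_7599_7601 (c : Nat) : Nat := @Bool.rec (fun _ => Nat) (Ptab_7599) (Ptab_7600) (Nat.ble 7600 c)
noncomputable def Ptab_s_7601_7603 (c : Nat) : Nat := @Bool.rec (fun _ => Nat) (Ptab_7601) (Ptab_7602) (Nat.ble 7602 c)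
noncomputable def Ptab_s_7599_7603 (c : Nat) : Nat := @Bool.rec (fun _ => Nat) (Ptab_s_7599_7601 c) (Ptab_s_7601_7603 c) (Nat.ble 7601 c)
noncomputable def Ptab_s_7595_7603 (c : Nat) : Nat := @Bool.rec (fun _ => Nat) (Ptab_s_7595_7599 c) (Ptab_s_7599_7603 c) (Nat.ble 7599 c)
noncomputable def Ptab_s_7588_7603 (c : Nat) : Nat := @Bool.rec (fun _ => Nat) (Ptab_s_7588_7595 c) (Ptab_s_7595_7603 c) (Nat.ble 7595 c)
noncomputable def Ptab_s_7604_7606 (c : Nat) : Nat := @Bool.rec (fun _ => Nat) (Ptab_7604) (Ptab_7605) (Nat.ble 7605 c)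
noncomputable def Ptab_s_7603_7606 (c : Nat) : Nat := @Bool.rec (fun _ => Nat) (Ptab_7603) (Ptab_s_7604_7606 c) (Nat.ble 7604 c)
noncomputable def Ptab_s_7606_7608 (c : Nat) : Nat := @Bool.rec (fun _ => Nat) (Ptab_7606) (Ptab_7607) (Nat.ble 7607 c)
noncomputable def Ptab_s_7608_7610 (c : Nat) : Nat := @Bool.rec (fun _ => Nat) (Ptab_7608) (Ptab_7609) (Nat.ble 7609 c)
noncomputable def Ptab_s_7606_7610 (c : Nat) : Nat := @Bool.rec (fun _ => Nat) (Ptab_s_7606_7608 c) (Ptab_s_7608_7610 c) (Nat.ble 7608 c)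
noncomputable def Ptab_s_7603_7610 (c : Nat) : Nat := @Bool.rec (fun _ => Nat) (Ptab_s_7603_7606 c) (Ptab_s_7606_7610 c) (Nat.ble 7606 c)
noncomputable def Ptab_s_7610_7612 (c : Nat) : Nat := @Bool.rec (fun _ => Nat) (Ptab_7610) (Ptab_7611) (Nat.ble 7611 c)
noncomputable def Ptab_s_7612_7614 (c : Nat) : Nat := @Bool.rec (fun _ => Nat) (Ptab_7612) (Ptab_7613) (Nat.ble 7613 c)
noncomputable def Ptab_s_7610_7614 (c : Nat) : Nat := @Bool.rec (fun _ => Nat) (Ptab_s_7610_7612 c) (Ptab_s_7612_7614 c) (Nat.ble 7612 c)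
noncomputable def Ptab_s_7614_7616 (c : Nat) : Nat := @Bool.rec (fun _ => Nat) (Ptab_7614) (Ptab_7615) (Nat.ble 7615 c)
noncomputable def Ptab_s_7616_7618 (c : Nat) : Nat := @Bool.rec (fun _ => Nat) (Ptab_7616) (Ptab_7617) (Nat.ble 7617 c)
noncomputable def Ptab_s_7614_7618 (c : Nat) : Nat := @Bool.rec (fun _ => Nat) (Ptab_s_7614_7616 c) (Ptab_s_7616_7618 c) (Nat.ble 7616 c)
noncomputable def Ptab_s_7610_7618 (c : Nat) : Nat := @Bool.rec (fun _ => Nat) (Ptab_s_7610_7614 c) (Ptab_s_7614_7618 c) (Nat.ble 7614 c)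
noncomputable def Ptab_s_7603_7618 (c : Nat) : Nat := @Bool.rec (fun _ => Nat) (Ptab_s_7603_7610 c) (Ptab_s_7610_7618 c) (Nat.ble 7610 c)
noncomputable def Ptab_s_7588_7618 (c : Nat) : Nat := @Bool.rec (fun _ => Nat) (Ptab_s_7588_7603 c) (Ptab_s_7603_7618 c) (Nat.ble 7603 c)
noncomputable def Ptab_s_7619_7621 (c : Nat) : Nat := @Bool.rec (fun _ => Nat) (Ptab_7619) (Ptab_7620) (Nat.ble 7620 c)
noncomputable def Ptab_s_7618_7621 (c : Nat) : Nat := @Bool.rec (fun _ => Nat) (Ptab_7618) (Ptab_s_7619_7621 c) (Nat.ble 7619 c)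
noncomputable def Ptab_s_7621_7623 (c : Nat) : Nat := @Bool.rec (fun _ => Nat) (Ptab_7621) (Ptab_7622) (Nat.ble 7622 c)
noncomputable def Ptab_s_7623_7625 (c : Nat) : Nat := @Bool.rec (fun _ => Nat) (Ptab_7623) (Ptab_7624) (Nat.ble 7624 c)
noncomputable def Ptab_s_7621_7625 (c : Nat) : Nat := @Bool.rec (fun _ => Nat) (Ptab_s_7621_7623 c) (Ptab_s_7623_7625 c) (Nat.ble 7623 c)
noncomputable def Ptab_s_7618_7625 (c : Nat) : Nat := @Bool.rec (fun _ => Nat) (Ptab_s_7618_7621 c) (Ptab_s_7621_7625 c) (Nat.ble 7621 c)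
noncomputable def Ptab_s_7625_7627 (c : Nat) : Nat := @Bool.rec (fun _ => Nat) (Ptab_7625) (Ptab_7626) (Nat.ble 7626 c)
noncomputable def Ptab_s_7627_7629 (c : Nat) : Nat := @Bool.rec (fun _ => Nat) (Ptab_7627) (Ptab_7628) (Nat.ble 7628 c)
noncomputable def Ptab_s_7625_7629 (c : Nat) : Nat := @Bool.rec (fun _ => Nat) (Ptab_s_7625_7627 c) (Ptab_s_7627_7629 c) (Nat.ble 7627 c)
noncomputable def Ptab_s_7629_7631 (c : Nat) : Nat := @Bool.rec (fun _ => Nat) (Ptab_7629) (Ptab_7630) (Nat.ble 7630 c)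
noncomputable def Ptab_s_7631_7633 (c : Nat) : Nat := @Bool.rec (fun _ => Nat) (Ptab_7631) (Ptab_7632) (Nat.ble 7632 c)
noncomputable def Ptab_s_7629_7633 (c : Nat) : Nat := @Bool.rec (fun _ => Nat) (Ptab_s_7629_7631 c) (Ptab_s_7631_7633 c) (Nat.ble 7631 c)
noncomputable def Ptab_s_7625_7633 (c : Nat) : Nat := @Bool.rec (fun _ => Nat) (Ptab_s_7625_7629 c) (Ptab_s_7629_7633 c) (Nat.ble 7629 c)
noncomputable def Ptab_s_7618_7633 (c : Nat) : Nat := @Bool.rec (fun _ => Nat) (Ptab_s_7618_7625 c) (Ptab_s_7625_7633 c) (Nat.ble 7625 c)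
noncomputable def Ptab_s_7633_7635 (c : Nat) : Nat := @Bool.rec (fun _ => Nat) (Ptab_7633) (Ptab_7634) (Nat.ble 7634 c)
noncomputable def Ptab_s_7635_7637 (c : Nat) : Nat := @Bool.rec (fun _ => Nat) (Ptab_7635) (Ptab_7636) (Nat.ble 7636 c)
noncomputable def Ptab_s_7633_7637 (c : Nat) : Nat := @Bool.rec (fun _ => Nat) (Ptab_s_7633_7635 c) (Ptab_s_7635_7637 c) (Nat.ble 7635 c)
noncomputable def Ptab_s_7637_7639 (c : Nat) : Nat := @Bool.rec (fun _ => Nat) (Ptab_7637) (Ptab_7638) (Nat.ble 7638 c)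
noncomputable def Ptab_s_7639_7641 (c : Nat) : Nat := @Bool.rec (fun _ => Nat) (Ptab_7639) (Ptab_7640) (Nat.ble 7640 c)
noncomputable def Ptab_s_7637_7641 (c : Nat) : Nat := @Bool.rec (fun _ => Nat) (Ptab_s_7637_7639 c) (Ptab_s_7639_7641 c) (Nat.ble 7639 c)
noncomputable def Ptab_s_7633_7641 (c : Nat) : Nat := @Bool.rec (fun _ => Nat) (Ptab_s_7633_7637 c) (Ptab_s_7637_7641 c) (Nat.ble 7637 c)
noncomputable def Ptab_s_7641_7643 (c : Nat) : Nat := @Bool.rec (fun _ => Nat) (Ptab_7641) (Ptab_7642) (Nat.ble 7642 c)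
noncomputable def Ptab_s_7643_7645 (c : Nat) : Nat := @Bool.rec (fun _ => Nat) (Ptab_7643) (Ptab_7644) (Nat.ble 7644 c)
noncomputable def Ptab_s_7641_7645 (c : Nat) : Nat := @Bool.rec (fun _ => Nat) (Ptab_s_7641_7643 c) (Ptab_s_7643_7645 c) (Nat.ble 7643 c)
noncomputable def Ptab_s_7645_7647 (c : Nat) : Nat := @Bool.rec (fun _ => Nat) (Ptab_7645) (Ptab_7646) (Nat.ble 7646 c)
noncomputable def Ptab_s_7647_7649 (c : Nat) : Nat := @Bool.rec (fun _ => Nat) (Ptab_7647) (Ptab_7648) (Nat.ble 7648 c)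
noncomputable def Ptab_s_7645_7649 (c : Nat) : Nat := @Bool.rec (fun _ => Nat) (Ptab_s_7645_7647 c) (Ptab_s_7647_7649 c) (Nat.ble 7647 c)
noncomputable def Ptab_s_7641_7649 (c : Nat) : Nat := @Bool.rec (fun _ => Nat) (Ptab_s_7641_7645 c) (Ptab_s_7645_7649 c) (Nat.ble 7645 c)
noncomputable def Ptab_s_7633_7649 (c : Nat) : Nat := @Bool.rec (fun _ => Nat) (Ptab_s_7633_7641 c) (Ptab_s_7641_7649 c) (Nat.ble 7641 c)
noncomputable def Ptab_s_7618_7649 (c : Nat) : Nat := @Bool.rec (fun _ => Nat) (Ptab_s_7618_7633 c) (Ptab_s_7633_7649 c) (Nat.ble 7633 c)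
noncomputable def Ptab_s_7588_7649 (c : Nat) : Nat := @Bool.rec (fun _ => Nat) (Ptab_s_7588_7618 c) (Ptab_s_7618_7649 c) (Nat.ble 7618 c)
noncomputable def Ptab_s_7650_7652 (c : Nat) : Nat := @Bool.rec (fun _ => Nat) (Ptab_7650) (Ptab_7651) (Nat.ble 7651 c)
noncomputable def Ptab_s_7649_7652 (c : Nat) : Nat := @Bool.rec (fun _ => Nat) (Ptab_7649) (Ptab_s_7650_7652 c) (Nat.ble 7650 c)
noncomputable def Ptab_s_7652_7654 (c : Nat) : Nat := @Bool.rec (fun _ => Nat) (Ptab_7652) (Ptab_7653) (Nat.ble 7653 c)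
noncomputable def Ptab_s_7654_7656 (c : Nat) : Nat := @Bool.rec (fun _ => Nat) (Ptab_7654) (Ptab_7655) (Nat.ble 7655 c)
noncomputable def Ptab_s_7652_7656 (c : Nat) : Nat := @Bool.rec (fun _ => Nat) (Ptab_s_7652_7654 c) (Ptab_s_7654_7656 c) (Nat.ble 7654 c)
noncomputable def Ptab_s_7649_7656 (c : Nat) : Nat := @Bool.rec (fun _ => Nat) (Ptab_s_7649_7652 c) (Ptab_s_7652_7656 c) (Nat.ble 7652 c)
noncomputable def Ptab_s_7656_7658 (c : Nat) : Nat := @Bool.rec (fun _ => Nat) (Ptab_7656) (Ptab_7657) (Nat.ble 7657 c)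
noncomputable def Ptab_s_7658_7660 (c : Nat) : Nat := @Bool.rec (fun _ => Nat) (Ptab_7658) (Ptab_7659) (Nat.ble 7659 c)
noncomputable def Ptab_s_7656_7660 (c : Nat) : Nat := @Bool.rec (fun _ => Nat) (Ptab_s_7656_7658 c) (Ptab_s_7658_7660 c) (Nat.ble 7658 c)
noncomputable def Ptab_s_7660_7662 (c : Nat) : Nat := @Bool.rec (fun _ => Nat) (Ptab_7660) (Ptab_7661) (Nat.ble 7661 c)
noncomputable def Ptab_s_7662_7664 (c : Nat) : Nat := @Bool.rec (fun _ => Nat) (Ptab_7662) (Ptab_7663) (Nat.ble 7663 c)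
noncomputable def Ptab_s_7660_7664 (c : Nat) : Nat := @Bool.rec (fun _ => Nat) (Ptab_s_7660_7662 c) (Ptab_s_7662_7664 c) (Nat.ble 7662 c)
noncomputable def Ptab_s_7656_7664 (c : Nat) : Nat := @Bool.rec (fun _ => Nat) (Ptab_s_7656_7660 c) (Ptab_s_7660_7664 c) (Nat.ble 7660 c)
noncomputable def Ptab_s_7649_7664 (c : Nat) : Nat := @Bool.rec (fun _ => Nat) (Ptab_s_7649_7656 c) (Ptab_s_7656_7664 c) (Nat.ble 7656 c)
noncomputable def Ptab_s_7665_7667 (c : Nat) : Nat := @Bool.rec (fun _ => Nat) (Ptab_7665) (Ptab_7666) (Nat.ble 7666 c)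
noncomputable def Ptab_s_7664_7667 (c : Nat) : Nat := @Bool.rec (fun _ => Nat) (Ptab_7664) (Ptab_s_7665_7667 c) (Nat.ble 7665 c)
noncomputable def Ptab_s_7667_7669 (c : Nat) : Nat := @Bool.rec (fun _ => Nat) (Ptab_7667) (Ptab_7668) (Nat.ble 7668 c)
noncomputable def Ptab_s_7669_7671 (c : Nat) : Nat := @Bool.rec (fun _ => Nat) (Ptab_7669) (Ptab_7670) (Nat.ble 7670 c)
noncomputable def Ptab_s_7667_7671 (c : Nat) : Nat := @Bool.rec (fun _ => Nat) (Ptab_s_7667_7669 c) (Ptab_s_7669_7671 c) (Nat.ble 7669 c)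
noncomputable def Ptab_s_7664_7671 (c : Nat) : Nat := @Bool.rec (fun _ => Nat) (Ptab_s_7664_7667 c) (Ptab_s_7667_7671 c) (Nat.ble 7667 c)
noncomputable def Ptab_s_7671_7673 (c : Nat) : Nat := @Bool.rec (fun _ => Nat) (Ptab_7671) (Ptab_7672) (Nat.ble 7672 c)
noncomputable def Ptab_s_7673_7675 (c : Nat) : Nat := @Bool.rec (fun _ => Nat) (Ptab_7673) (Ptab_7674) (Nat.ble 7674 c)
noncomputable def Ptab_s_7671_7675 (c : Nat) : Nat := @Bool.rec (fun _ => Nat) (Ptab_s_7671_7673 c) (Ptab_s_7673_7675 c) (Nat.ble 7673 c)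
noncomputable def Ptab_s_7675_7677 (c : Nat) : Nat := @Bool.rec (fun _ => Nat) (Ptab_7675) (Ptab_7676) (Nat.ble 7676 c)
noncomputable def Ptab_s_7677_7679 (c : Nat) : Nat := @Bool.rec (fun _ => Nat) (Ptab_7677) (Ptab_7678) (Nat.ble 7678 c)
noncomputable def Ptab_s_7675_7679 (c : Nat) : Nat := @Bool.rec (fun _ => Nat) (Ptab_s_7675_7677 c) (Ptab_s_7677_7679 c) (Nat.ble 7677 c)
noncomputable def Ptab_s_7671_7679 (c : Nat) : Nat := @Bool.rec (fun _ => Nat) (Ptab_s_7671_7675 c) (Ptab_s_7675_7679 c) (Nat.ble 7675 c)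
noncomputable def Ptab_s_7664_7679 (c : Nat) : Nat := @Bool.rec (fun _ => Nat) (Ptab_s_7664_7671 c) (Ptab_s_7671_7679 c) (Nat.ble 7671 c)
noncomputable def Ptab_s_7649_7679 (c : Nat) : Nat := @Bool.rec (fun _ => Nat) (Ptab_s_7649_7664 c) (Ptab_s_7664_7679 c) (Nat.ble 7664 c)
noncomputable def Ptab_s_7680_7682 (c : Nat) : Nat := @Bool.rec (fun _ => Nat) (Ptab_7680) (Ptab_7681) (Nat.ble 7681 c)
noncomputable def Ptab_s_7679_7682 (c : Nat) : Nat := @Bool.rec (fun _ => Nat) (Ptab_7679) (Ptab_s_7680_7682 c) (Nat.ble 7680 c)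
noncomputable def Ptab_s_7682_7684 (c : Nat) : Nat := @Bool.rec (fun _ => Nat) (Ptab_7682) (Ptab_7683) (Nat.ble 7683 c)
noncomputable def Ptab_s_7684_7686 (c : Nat) : Nat := @Bool.rec (fun _ => Nat) (Ptab_7684) (Ptab_7685) (Nat.ble 7685 c)
noncomputable def Ptab_s_7682_7686 (c : Nat) : Nat := @Bool.rec (fun _ => Nat) (Ptab_s_7682_7684 c) (Ptab_s_7684_7686 c) (Nat.ble 7684 c)
noncomputable def Ptab_s_7679_7686 (c : Nat) : Nat := @Bool.rec (fun _ => Nat) (Ptab_s_7679_7682 c) (Ptab_s_7682_7686 c) (Nat.ble 7682 c)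
noncomputable def Ptab_s_7686_7688 (c : Nat) : Nat := @Bool.rec (fun _ => Nat) (Ptab_7686) (Ptab_7687) (Nat.ble 7687 c)
noncomputable def Ptab_s_7688_7690 (c : Nat) : Nat := @Bool.rec (fun _ => Nat) (Ptab_7688) (Ptab_7689) (Nat.ble 7689 c)
noncomputable def Ptab_s_7686_7690 (c : Nat) : Nat := @Bool.rec (fun _ => Nat) (Ptab_s_7686_7688 c) (Ptab_s_7688_7690 c) (Nat.ble 7688 c)
noncomputable def Ptab_s_7690_7692 (c : Nat) : Nat := @Bool.rec (fun _ => Nat) (Ptab_7690) (Ptab_7691) (Nat.ble 7691 c)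
noncomputable def Ptab_s_7692_7694 (c : Nat) : Nat := @Bool.rec (fun _ => Nat) (Ptab_7692) (Ptab_7693) (Nat.ble 7693 c)
noncomputable def Ptab_s_7690_7694 (c : Nat) : Nat := @Bool.rec (fun _ => Nat) (Ptab_s_7690_7692 c) (Ptab_s_7692_7694 c) (Nat.ble 7692 c)
noncomputable def Ptab_s_7686_7694 (c : Nat) : Nat := @Bool.rec (fun _ => Nat) (Ptab_s_7686_7690 c) (Ptab_s_7690_7694 c) (Nat.ble 7690 c)
noncomputable def Ptab_s_7679_7694 (c : Nat) : Nat := @Bool.rec (fun _ => Nat) (Ptab_s_7679_7686 c) (Ptab_s_7686_7694 c) (Nat.ble 7686 c)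
noncomputable def Ptab_s_7694_7696 (c : Nat) : Nat := @Bool.rec (fun _ => Nat) (Ptab_7694) (Ptab_7695) (Nat.ble 7695 c)
noncomputable def Ptab_s_7696_7698 (c : Nat) : Nat := @Bool.rec (fun _ => Nat) (Ptab_7696) (Ptab_7697) (Nat.ble 7697 c)
noncomputable def Ptab_s_7694_7698 (c : Nat) : Nat := @Bool.rec (fun _ => Nat) (Ptab_s_7694_7696 c) (Ptab_s_7696_7698 c) (Nat.ble 7696 c)
noncomputable def Ptab_s_7698_7700 (c : Nat) : Nat := @Bool.rec (fun _ => Nat) (Ptab_7698) (Ptab_7699) (Nat.ble 7699 c)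
noncomputable def Ptab_s_7700_7702 (c : Nat) : Nat := @Bool.rec (fun _ => Nat) (Ptab_7700) (Ptab_7701) (Nat.ble 7701 c)
noncomputable def Ptab_s_7698_7702 (c : Nat) : Nat := @Bool.rec (fun _ => Nat) (Ptab_s_7698_7700 c) (Ptab_s_7700_7702 c) (Nat.ble 7700 c)
noncomputable def Ptab_s_7694_7702 (c : Nat) : Nat := @Bool.rec (fun _ => Nat) (Ptab_s_7694_7698 c) (Ptab_s_7698_7702 c) (Nat.ble 7698 c)
noncomputable def Ptab_s_7702_7704 (c : Nat) : Nat := @Bool.rec (fun _ => Nat) (Ptab_7702) (Ptab_7703) (Nat.ble 7703 c)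
noncomputable def Ptab_s_7704_7706 (c : Nat) : Nat := @Bool.rec (fun _ => Nat) (Ptab_7704) (Ptab_7705) (Nat.ble 7705 c)
noncomputable def Ptab_s_7702_7706 (c : Nat) : Nat := @Bool.rec (fun _ => Nat) (Ptab_s_7702_7704 c) (Ptab_s_7704_7706 c) (Nat.ble 7704 c)
noncomputable def Ptab_s_7706_7708 (c : Nat) : Nat := @Bool.rec (fun _ => Nat) (Ptab_7706) (Ptab_7707) (Nat.ble 7707 c)
noncomputable def Ptab_s_7708_7710 (c : Nat) : Nat := @Bool.rec (fun _ => Nat) (Ptab_7708) (Ptab_7709) (Nat.ble 7709 c)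
noncomputable def Ptab_s_7706_7710 (c : Nat) : Nat := @Bool.rec (fun _ => Nat) (Ptab_s_7706_7708 c) (Ptab_s_7708_7710 c) (Nat.ble 7708 c)
noncomputable def Ptab_s_7702_7710 (c : Nat) : Nat := @Bool.rec (fun _ => Nat) (Ptab_s_7702_7706 c) (Ptab_s_7706_7710 c) (Nat.ble 7706 c)
noncomputable def Ptab_s_7694_7710 (c : Nat) : Nat := @Bool.rec (fun _ => Nat) (Ptab_s_7694_7702 c) (Ptab_s_7702_7710 c) (Nat.ble 7702 c)
noncomputable def Ptab_s_7679_7710 (c : Nat) : Nat := @Bool.rec (fun _ => Nat) (Ptab_s_7679_7694 c) (Ptab_s_7694_7710 c) (Nat.ble 7694 c)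
noncomputable def Ptab_s_7649_7710 (c : Nat) : Nat := @Bool.rec (fun _ => Nat) (Ptab_s_7649_7679 c) (Ptab_s_7679_7710 c) (Nat.ble 7679 c)
noncomputable def Ptab_s_7588_7710 (c : Nat) : Nat := @Bool.rec (fun _ => Nat) (Ptab_s_7588_7649 c) (Ptab_s_7649_7710 c) (Nat.ble 7649 c)
noncomputable def Ptab_s_7711_7713 (c : Nat) : Nat := @Bool.rec (fun _ => Nat) (Ptab_7711) (Ptab_7712) (Nat.ble 7712 c)
noncomputable def Ptab_s_7710_7713 (c : Nat) : Nat := @Bool.rec (fun _ => Nat) (Ptab_7710) (Ptab_s_7711_7713 c) (Nat.ble 7711 c)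
noncomputable def Ptab_s_7713_7715 (c : Nat) : Nat := @Bool.rec (fun _ => Nat) (Ptab_7713) (Ptab_7714) (Nat.ble 7714 c)
noncomputable def Ptab_s_7715_7717 (c : Nat) : Nat := @Bool.rec (fun _ => Nat) (Ptab_7715) (Ptab_7716) (Nat.ble 7716 c)
noncomputable def Ptab_s_7713_7717 (c : Nat) : Nat := @Bool.rec (fun _ => Nat) (Ptab_s_7713_7715 c) (Ptab_s_7715_7717 c) (Nat.ble 7715 c)
noncomputable def Ptab_s_7710_7717 (c : Nat) : Nat := @Bool.rec (fun _ => Nat) (Ptab_s_7710_7713 c) (Ptab_s_7713_7717 c) (Nat.ble 7713 c)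
noncomputable def Ptab_s_7717_7719 (c : Nat) : Nat := @Bool.rec (fun _ => Nat) (Ptab_7717) (Ptab_7718) (Nat.ble 7718 c)
noncomputable def Ptab_s_7719_7721 (c : Nat) : Nat := @Bool.rec (fun _ => Nat) (Ptab_7719) (Ptab_7720) (Nat.ble 7720 c)
noncomputable def Ptab_s_7717_7721 (c : Nat) : Nat := @Bool.rec (fun _ => Nat) (Ptab_s_7717_7719 c) (Ptab_s_7719_7721 c) (Nat.ble 7719 c)
noncomputable def Ptab_s_7721_7723 (c : Nat) : Nat := @Bool.rec (fun _ => Nat) (Ptab_7721) (Ptab_7722) (Nat.ble 7722 c)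
noncomputable def Ptab_s_7723_7725 (c : Nat) : Nat := @Bool.rec (fun _ => Nat) (Ptab_7723) (Ptab_7724) (Nat.ble 7724 c)
noncomputable def Ptab_s_7721_7725 (c : Nat) : Nat := @Bool.rec (fun _ => Nat) (Ptab_s_7721_7723 c) (Ptab_s_7723_7725 c) (Nat.ble 7723 c)
noncomputable def Ptab_s_7717_7725 (c : Nat) : Nat := @Bool.rec (fun _ => Nat) (Ptab_s_7717_7721 c) (Ptab_s_7721_7725 c) (Nat.ble 7721 c)
noncomputable def Ptab_s_7710_7725 (c : Nat) : Nat := @Bool.rec (fun _ => Nat) (Ptab_s_7710_7717 c) (Ptab_s_7717_7725 c) (Nat.ble 7717 c)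
noncomputable def Ptab_s_7726_7728 (c : Nat) : Nat := @Bool.rec (fun _ => Nat) (Ptab_7726) (Ptab_7727) (Nat.ble 7727 c)
noncomputable def Ptab_s_7725_7728 (c : Nat) : Nat := @Bool.rec (fun _ => Nat) (Ptab_7725) (Ptab_s_7726_7728 c) (Nat.ble 7726 c)
noncomputable def Ptab_s_7728_7730 (c : Nat) : Nat := @Bool.rec (fun _ => Nat) (Ptab_7728) (Ptab_7729) (Nat.ble 7729 c)
noncomputable def Ptab_s_7730_7732 (c : Nat) : Nat := @Bool.rec (fun _ => Nat) (Ptab_7730) (Ptab_7731) (Nat.ble 7731 c)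
noncomputable def Ptab_s_7728_7732 (c : Nat) : Nat := @Bool.rec (fun _ => Nat) (Ptab_s_7728_7730 c) (Ptab_s_7730_7732 c) (Nat.ble 7730 c)
noncomputable def Ptab_s_7725_7732 (c : Nat) : Nat := @Bool.rec (fun _ => Nat) (Ptab_s_7725_7728 c) (Ptab_s_7728_7732 c) (Nat.ble 7728 c)
noncomputable def Ptab_s_7732_7734 (c : Nat) : Nat := @Bool.rec (fun _ => Nat) (Ptab_7732) (Ptab_7733) (Nat.ble 7733 c)
noncomputable def Ptab_s_7734_7736 (c : Nat) : Nat := @Bool.rec (fun _ => Nat) (Ptab_7734) (Ptab_7735) (Nat.ble 7735 c)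
noncomputable def Ptab_s_7732_7736 (c : Nat) : Nat := @Bool.rec (fun _ => Nat) (Ptab_s_7732_7734 c) (Ptab_s_7734_7736 c) (Nat.ble 7734 c)
noncomputable def Ptab_s_7736_7738 (c : Nat) : Nat := @Bool.rec (fun _ => Nat) (Ptab_7736) (Ptab_7737) (Nat.ble 7737 c)
noncomputable def Ptab_s_7738_7740 (c : Nat) : Nat := @Bool.rec (fun _ => Nat) (Ptab_7738) (Ptab_7739) (Nat.ble 7739 c)
noncomputable def Ptab_s_7736_7740 (c : Nat) : Nat := @Bool.rec (fun _ => Nat) (Ptab_s_7736_7738 c) (Ptab_s_7738_7740 c) (Nat.ble 7738 c)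
noncomputable def Ptab_s_7732_7740 (c : Nat) : Nat := @Bool.rec (fun _ => Nat) (Ptab_s_7732_7736 c) (Ptab_s_7736_7740 c) (Nat.ble 7736 c)
noncomputable def Ptab_s_7725_7740 (c : Nat) : Nat := @Bool.rec (fun _ => Nat) (Ptab_s_7725_7732 c) (Ptab_s_7732_7740 c) (Nat.ble 7732 c)
noncomputable def Ptab_s_7710_7740 (c : Nat) : Nat := @Bool.rec (fun _ => Nat) (Ptab_s_7710_7725 c) (Ptab_s_7725_7740 c) (Nat.ble 7725 c)
noncomputable def Ptab_s_7741_7743 (c : Nat) : Nat := @Bool.rec (fun _ => Nat) (Ptab_7741) (Ptab_7742) (Nat.ble 7742 c)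
noncomputable def Ptab_s_7740_7743 (c : Nat) : Nat := @Bool.rec (fun _ => Nat) (Ptab_7740) (Ptab_s_7741_7743 c) (Nat.ble 7741 c)
noncomputable def Ptab_s_7743_7745 (c : Nat) : Nat := @Bool.rec (fun _ => Nat) (Ptab_7743) (Ptab_7744) (Nat.ble 7744 c)
noncomputable def Ptab_s_7745_7747 (c : Nat) : Nat := @Bool.rec (fun _ => Nat) (Ptab_7745) (Ptab_7746) (Nat.ble 7746 c)
noncomputable def Ptab_s_7743_7747 (c : Nat) : Nat := @Bool.rec (fun _ => Nat) (Ptab_s_7743_7745 c) (Ptab_s_7745_7747 c) (Nat.ble 7745 c)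
noncomputable def Ptab_s_7740_7747 (c : Nat) : Nat := @Bool.rec (fun _ => Nat) (Ptab_s_7740_7743 c) (Ptab_s_7743_7747 c) (Nat.ble 7743 c)
noncomputable def Ptab_s_7747_7749 (c : Nat) : Nat := @Bool.rec (fun _ => Nat) (Ptab_7747) (Ptab_7748) (Nat.ble 7748 c)
noncomputable def Ptab_s_7749_7751 (c : Nat) : Nat := @Bool.rec (fun _ => Nat) (Ptab_7749) (Ptab_7750) (Nat.ble 7750 c)
noncomputable def Ptab_s_7747_7751 (c : Nat) : Nat := @Bool.rec (fun _ => Nat) (Ptab_s_7747_7749 c) (Ptab_s_7749_7751 c) (Nat.ble 7749 c)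
noncomputable def Ptab_s_7751_7753 (c : Nat) : Nat := @Bool.rec (fun _ => Nat) (Ptab_7751) (Ptab_7752) (Nat.ble 7752 c)
noncomputable def Ptab_s_7753_7755 (c : Nat) : Nat := @Bool.rec (fun _ => Nat) (Ptab_7753) (Ptab_7754) (Nat.ble 7754 c)
noncomputable def Ptab_s_7751_7755 (c : Nat) : Nat := @Bool.rec (fun _ => Nat) (Ptab_s_7751_7753 c) (Ptab_s_7753_7755 c) (Nat.ble 7753 c)
noncomputable def Ptab_s_7747_7755 (c : Nat) : Nat := @Bool.rec (fun _ => Nat) (Ptab_s_7747_7751 c) (Ptab_s_7751_7755 c) (Nat.ble 7751 c)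
noncomputable def Ptab_s_7740_7755 (c : Nat) : Nat := @Bool.rec (fun _ => Nat) (Ptab_s_7740_7747 c) (Ptab_s_7747_7755 c) (Nat.ble 7747 c)
noncomputable def Ptab_s_7755_7757 (c : Nat) : Nat := @Bool.rec (fun _ => Nat) (Ptab_7755) (Ptab_7756) (Nat.ble 7756 c)
noncomputable def Ptab_s_7757_7759 (c : Nat) : Nat := @Bool.rec (fun _ => Nat) (Ptab_7757) (Ptab_7758) (Nat.ble 7758 c)
noncomputable def Ptab_s_7755_7759 (c : Nat) : Nat := @Bool.rec (fun _ => Nat) (Ptab_s_7755_7757 c) (Ptab_s_7757_7759 c) (Nat.ble 7757 c)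
noncomputable def Ptab_s_7759_7761 (c : Nat) : Nat := @Bool.rec (fun _ => Nat) (Ptab_7759) (Ptab_7760) (Nat.ble 7760 c)
noncomputable def Ptab_s_7761_7763 (c : Nat) : Nat := @Bool.rec (fun _ => Nat) (Ptab_7761) (Ptab_7762) (Nat.ble 7762 c)
noncomputable def Ptab_s_7759_7763 (c : Nat) : Nat := @Bool.rec (fun _ => Nat) (Ptab_s_7759_7761 c) (Ptab_s_7761_7763 c) (Nat.ble 7761 c)
noncomputable def Ptab_s_7755_7763 (c : Nat) : Nat := @Bool.rec (fun _ => Nat) (Ptab_s_7755_7759 c) (Ptab_s_7759_7763 c) (Nat.ble 7759 c)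
noncomputable def Ptab_s_7763_7765 (c : Nat) : Nat := @Bool.rec (fun _ => Nat) (Ptab_7763) (Ptab_7764) (Nat.ble 7764 c)
noncomputable def Ptab_s_7765_7767 (c : Nat) : Nat := @Bool.rec (fun _ => Nat) (Ptab_7765) (Ptab_7766) (Nat.ble 7766 c)
noncomputable def Ptab_s_7763_7767 (c : Nat) : Nat := @Bool.rec (fun _ => Nat) (Ptab_s_7763_7765 c) (Ptab_s_7765_7767 c) (Nat.ble 7765 c)
noncomputable def Ptab_s_7767_7769 (c : Nat) : Nat := @Bool.rec (fun _ => Nat) (Ptab_7767) (Ptab_7768) (Nat.ble 7768 c)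
noncomputable def Ptab_s_7769_7771 (c : Nat) : Nat := @Bool.rec (fun _ => Nat) (Ptab_7769) (Ptab_7770) (Nat.ble 7770 c)
noncomputable def Ptab_s_7767_7771 (c : Nat) : Nat := @Bool.rec (fun _ => Nat) (Ptab_s_7767_7769 c) (Ptab_s_7769_7771 c) (Nat.ble 7769 c)
noncomputable def Ptab_s_7763_7771 (c : Nat) : Nat := @Bool.rec (fun _ => Nat) (Ptab_s_7763_7767 c) (Ptab_s_7767_7771 c) (Nat.ble 7767 c)
noncomputable def Ptab_s_7755_7771 (c : Nat) : Nat := @Bool.rec (fun _ => Nat) (Ptab_s_7755_7763 c) (Ptab_s_7763_7771 c) (Nat.ble 7763 c)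
noncomputable def Ptab_s_7740_7771 (c : Nat) : Nat := @Bool.rec (fun _ => Nat) (Ptab_s_7740_7755 c) (Ptab_s_7755_7771 c) (Nat.ble 7755 c)
noncomputable def Ptab_s_7710_7771 (c : Nat) : Nat := @Bool.rec (fun _ => Nat) (Ptab_s_7710_7740 c) (Ptab_s_7740_7771 c) (Nat.ble 7740 c)
noncomputable def Ptab_s_7772_7774 (c : Nat) : Nat := @Bool.rec (fun _ => Nat) (Ptab_7772) (Ptab_7773) (Nat.ble 7773 c)
noncomputable def Ptab_s_7771_7774 (c : Nat) : Nat := @Bool.rec (fun _ => Nat) (Ptab_7771) (Ptab_s_7772_7774 c) (Nat.ble 7772 c)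
noncomputable def Ptab_s_7774_7776 (c : Nat) : Nat := @Bool.rec (fun _ => Nat) (Ptab_7774) (Ptab_7775) (Nat.ble 7775 c)
noncomputable def Ptab_s_7776_7778 (c : Nat) : Nat := @Bool.rec (fun _ => Nat) (Ptab_7776) (Ptab_7777) (Nat.ble 7777 c)
noncomputable def Ptab_s_7774_7778 (c : Nat) : Nat := @Bool.rec (fun _ => Nat) (Ptab_s_7774_7776 c) (Ptab_s_7776_7778 c) (Nat.ble 7776 c)
noncomputable def Ptab_s_7771_7778 (c : Nat) : Nat := @Bool.rec (fun _ => Nat) (Ptab_s_7771_7774 c) (Ptab_s_7774_7778 c) (Nat.ble 7774 c)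
noncomputable def Ptab_s_7778_7780 (c : Nat) : Nat := @Bool.rec (fun _ => Nat) (Ptab_7778) (Ptab_7779) (Nat.ble 7779 c)
noncomputable def Ptab_s_7780_7782 (c : Nat) : Nat := @Bool.rec (fun _ => Nat) (Ptab_7780) (Ptab_7781) (Nat.ble 7781 c)
noncomputable def Ptab_s_7778_7782 (c : Nat) : Nat := @Bool.rec (fun _ => Nat) (Ptab_s_7778_7780 c) (Ptab_s_7780_7782 c) (Nat.ble 7780 c)
noncomputable def Ptab_s_7782_7784 (c : Nat) : Nat := @Bool.rec (fun _ => Nat) (Ptab_7782) (Ptab_7783) (Nat.ble 7783 c)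
noncomputable def Ptab_s_7784_7786 (c : Nat) : Nat := @Bool.rec (fun _ => Nat) (Ptab_7784) (Ptab_7785) (Nat.ble 7785 c)
noncomputable def Ptab_s_7782_7786 (c : Nat) : Nat := @Bool.rec (fun _ => Nat) (Ptab_s_7782_7784 c) (Ptab_s_7784_7786 c) (Nat.ble 7784 c)
noncomputable def Ptab_s_7778_7786 (c : Nat) : Nat := @Bool.rec (fun _ => Nat) (Ptab_s_7778_7782 c) (Ptab_s_7782_7786 c) (Nat.ble 7782 c)
noncomputable def Ptab_s_7771_7786 (c : Nat) : Nat := @Bool.rec (fun _ => Nat) (Ptab_s_7771_7778 c) (Ptab_s_7778_7786 c) (Nat.ble 7778 c)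
noncomputable def Ptab_s_7786_7788 (c : Nat) : Nat := @Bool.rec (fun _ => Nat) (Ptab_7786) (Ptab_7787) (Nat.ble 7787 c)
noncomputable def Ptab_s_7788_7790 (c : Nat) : Nat := @Bool.rec (fun _ => Nat) (Ptab_7788) (Ptab_7789) (Nat.ble 7789 c)
noncomputable def Ptab_s_7786_7790 (c : Nat) : Nat := @Bool.rec (fun _ => Nat) (Ptab_s_7786_7788 c) (Ptab_s_7788_7790 c) (Nat.ble 7788 c)
noncomputable def Ptab_s_7790_7792 (c : Nat) : Nat := @Bool.rec (fun _ => Nat) (Ptab_7790) (Ptab_7791) (Nat.ble 7791 c)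
noncomputable def Ptab_s_7792_7794 (c : Nat) : Nat := @Bool.rec (fun _ => Nat) (Ptab_7792) (Ptab_7793) (Nat.ble 7793 c)
noncomputable def Ptab_s_7790_7794 (c : Nat) : Nat := @Bool.rec (fun _ => Nat) (Ptab_s_7790_7792 c) (Ptab_s_7792_7794 c) (Nat.ble 7792 c)
noncomputable def Ptab_s_7786_7794 (c : Nat) : Nat := @Bool.rec (fun _ => Nat) (Ptab_s_7786_7790 c) (Ptab_s_7790_7794 c) (Nat.ble 7790 c)
noncomputable def Ptab_s_7794_7796 (c : Nat) : Nat := @Bool.rec (fun _ => Nat) (Ptab_7794) (Ptab_7795) (Nat.ble 7795 c)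
noncomputable def Ptab_s_7796_7798 (c : Nat) : Nat := @Bool.rec (fun _ => Nat) (Ptab_7796) (Ptab_7797) (Nat.ble 7797 c)
noncomputable def Ptab_s_7794_7798 (c : Nat) : Nat := @Bool.rec (fun _ => Nat) (Ptab_s_7794_7796 c) (Ptab_s_7796_7798 c) (Nat.ble 7796 c)
noncomputable def Ptab_s_7798_7800 (c : Nat) : Nat := @Bool.rec (fun _ => Nat) (Ptab_7798) (Ptab_7799) (Nat.ble 7799 c)
noncomputable def Ptab_s_7800_7802 (c : Nat) : Nat := @Bool.rec (fun _ => Nat) (Ptab_7800) (Ptab_7801) (Nat.ble 7801 c)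
noncomputable def Ptab_s_7798_7802 (c : Nat) : Nat := @Bool.rec (fun _ => Nat) (Ptab_s_7798_7800 c) (Ptab_s_7800_7802 c) (Nat.ble 7800 c)
noncomputable def Ptab_s_7794_7802 (c : Nat) : Nat := @Bool.rec (fun _ => Nat) (Ptab_s_7794_7798 c) (Ptab_s_7798_7802 c) (Nat.ble 7798 c)
noncomputable def Ptab_s_7786_7802 (c : Nat) : Nat := @Bool.rec (fun _ => Nat) (Ptab_s_7786_7794 c) (Ptab_s_7794_7802 c) (Nat.ble 7794 c)
noncomputable def Ptab_s_7771_7802 (c : Nat) : Nat := @Bool.rec (fun _ => Nat) (Ptab_s_7771_7786 c) (Ptab_s_7786_7802 c) (Nat.ble 7786 c)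
noncomputable def Ptab_s_7803_7805 (c : Nat) : Nat := @Bool.rec (fun _ => Nat) (Ptab_7803) (Ptab_7804) (Nat.ble 7804 c)
noncomputable def Ptab_s_7802_7805 (c : Nat) : Nat := @Bool.rec (fun _ => Nat) (Ptab_7802) (Ptab_s_7803_7805 c) (Nat.ble 7803 c)
noncomputable def Ptab_s_7805_7807 (c : Nat) : Nat := @Bool.rec (fun _ => Nat) (Ptab_7805) (Ptab_7806) (Nat.ble 7806 c)
noncomputable def Ptab_s_7807_7809 (c : Nat) : Nat := @Bool.rec (fun _ => Nat) (Ptab_7807) (Ptab_7808) (Nat.ble 7808 c)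
noncomputable def Ptab_s_7805_7809 (c : Nat) : Nat := @Bool.rec (fun _ => Nat) (Ptab_s_7805_7807 c) (Ptab_s_7807_7809 c) (Nat.ble 7807 c)
noncomputable def Ptab_s_7802_7809 (c : Nat) : Nat := @Bool.rec (fun _ => Nat) (Ptab_s_7802_7805 c) (Ptab_s_7805_7809 c) (Nat.ble 7805 c)
noncomputable def Ptab_s_7809_7811 (c : Nat) : Nat := @Bool.rec (fun _ => Nat) (Ptab_7809) (Ptab_7810) (Nat.ble 7810 c)
noncomputable def Ptab_s_7811_7813 (c : Nat) : Nat := @Bool.rec (fun _ => Nat) (Ptab_7811) (Ptab_7812) (Nat.ble 7812 c)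
noncomputable def Ptab_s_7809_7813 (c : Nat) : Nat := @Bool.rec (fun _ => Nat) (Ptab_s_7809_7811 c) (Ptab_s_7811_7813 c) (Nat.ble 7811 c)
noncomputable def Ptab_s_7813_7815 (c : Nat) : Nat := @Bool.rec (fun _ => Nat) (Ptab_7813) (Ptab_7814) (Nat.ble 7814 c)
noncomputable def Ptab_s_7815_7817 (c : Nat) : Nat := @Bool.rec (fun _ => Nat) (Ptab_7815) (Ptab_7816) (Nat.ble 7816 c)
noncomputable def Ptab_s_7813_7817 (c : Nat) : Nat := @Bool.rec (fun _ => Nat) (Ptab_s_7813_7815 c) (Ptab_s_7815_7817 c) (Nat.ble 7815 c)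
noncomputable def Ptab_s_7809_7817 (c : Nat) : Nat := @Bool.rec (fun _ => Nat) (Ptab_s_7809_7813 c) (Ptab_s_7813_7817 c) (Nat.ble 7813 c)
noncomputable def Ptab_s_7802_7817 (c : Nat) : Nat := @Bool.rec (fun _ => Nat) (Ptab_s_7802_7809 c) (Ptab_s_7809_7817 c) (Nat.ble 7809 c)
noncomputable def Ptab_s_7817_7819 (c : Nat) : Nat := @Bool.rec (fun _ => Nat) (Ptab_7817) (Ptab_7818) (Nat.ble 7818 c)
noncomputable def Ptab_s_7819_7821 (c : Nat) : Nat := @Bool.rec (fun _ => Nat) (Ptab_7819) (Ptab_7820) (Nat.ble 7820 c)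
noncomputable def Ptab_s_7817_7821 (c : Nat) : Nat := @Bool.rec (fun _ => Nat) (Ptab_s_7817_7819 c) (Ptab_s_7819_7821 c) (Nat.ble 7819 c)
noncomputable def Ptab_s_7821_7823 (c : Nat) : Nat := @Bool.rec (fun _ => Nat) (Ptab_7821) (Ptab_7822) (Nat.ble 7822 c)
noncomputable def Ptab_s_7823_7825 (c : Nat) : Nat := @Bool.rec (fun _ => Nat) (Ptab_7823) (Ptab_7824) (Nat.ble 7824 c)
noncomputable def Ptab_s_7821_7825 (c : Nat) : Nat := @Bool.rec (fun _ => Nat) (Ptab_s_7821_7823 c) (Ptab_s_7823_7825 c) (Nat.ble 7823 c)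
noncomputable def Ptab_s_7817_7825 (c : Nat) : Nat := @Bool.rec (fun _ => Nat) (Ptab_s_7817_7821 c) (Ptab_s_7821_7825 c) (Nat.ble 7821 c)
noncomputable def Ptab_s_7825_7827 (c : Nat) : Nat := @Bool.rec (fun _ => Nat) (Ptab_7825) (Ptab_7826) (Nat.ble 7826 c)
noncomputable def Ptab_s_7827_7829 (c : Nat) : Nat := @Bool.rec (fun _ => Nat) (Ptab_7827) (Ptab_7828) (Nat.ble 7828 c)
noncomputable def Ptab_s_7825_7829 (c : Nat) : Nat := @Bool.rec (fun _ => Nat) (Ptab_s_7825_7827 c) (Ptab_s_7827_7829 c) (Nat.ble 7827 c)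
noncomputable def Ptab_s_7829_7831 (c : Nat) : Nat := @Bool.rec (fun _ => Nat) (Ptab_7829) (Ptab_7830) (Nat.ble 7830 c)
noncomputable def Ptab_s_7831_7833 (c : Nat) : Nat := @Bool.rec (fun _ => Nat) (Ptab_7831) (Ptab_7832) (Nat.ble 7832 c)
noncomputable def Ptab_s_7829_7833 (c : Nat) : Nat := @Bool.rec (fun _ => Nat) (Ptab_s_7829_7831 c) (Ptab_s_7831_7833 c) (Nat.ble 7831 c)
noncomputable def Ptab_s_7825_7833 (c : Nat) : Nat := @Bool.rec (fun _ => Nat) (Ptab_s_7825_7829 c) (Ptab_s_7829_7833 c) (Nat.ble 7829 c)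
noncomputable def Ptab_s_7817_7833 (c : Nat) : Nat := @Bool.rec (fun _ => Nat) (Ptab_s_7817_7825 c) (Ptab_s_7825_7833 c) (Nat.ble 7825 c)
noncomputable def Ptab_s_7802_7833 (c : Nat) : Nat := @Bool.rec (fun _ => Nat) (Ptab_s_7802_7817 c) (Ptab_s_7817_7833 c) (Nat.ble 7817 c)
noncomputable def Ptab_s_7771_7833 (c : Nat) : Nat := @Bool.rec (fun _ => Nat) (Ptab_s_7771_7802 c) (Ptab_s_7802_7833 c) (Nat.ble 7802 c)
noncomputable def Ptab_s_7710_7833 (c : Nat) : Nat := @Bool.rec (fun _ => Nat) (Ptab_s_7710_7771 c) (Ptab_s_7771_7833 c) (Nat.ble 7771 c)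
noncomputable def Ptab_s_7588_7833 (c : Nat) : Nat := @Bool.rec (fun _ => Nat) (Ptab_s_7588_7710 c) (Ptab_s_7710_7833 c) (Nat.ble 7710 c)
noncomputable def Ptab_s_7343_7833 (c : Nat) : Nat := @Bool.rec (fun _ => Nat) (Ptab_s_7343_7588 c) (Ptab_s_7588_7833 c) (Nat.ble 7588 c)
noncomputable def Ptab_s_6853_7833 (c : Nat) : Nat := @Bool.rec (fun _ => Nat) (Ptab_s_6853_7343 c) (Ptab_s_7343_7833 c) (Nat.ble 7343 c)
noncomputable def Ptab_s_5874_7833 (c : Nat) : Nat := @Bool.rec (fun _ => Nat) (Ptab_s_5874_6853 c) (Ptab_s_6853_7833 c) (Nat.ble 6853 c)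
noncomputable def Ptab_s_3916_7833 (c : Nat) : Nat := @Bool.rec (fun _ => Nat) (Ptab_s_3916_5874 c) (Ptab_s_5874_7833 c) (Nat.ble 5874 c)
noncomputable def Ptab_s_0_7833 (c : Nat) : Nat := @Bool.rec (fun _ => Nat) (Ptab_s_0_3916 c) (Ptab_s_3916_7833 c) (Nat.ble 3916 c)
noncomputable def Ptab (i : Nat) : Nat := rdw 24 16777215 (Ptab_s_0_7833 (Nat.shiftRight i 12)) (Nat.land i 4095)
noncomputable def RRtab (i : Nat) : Nat := rdw 4 15 RRtab_0 i
noncomputable def rBtab (i : Nat) : Nat := rdw 11 2047 rBtab_0 i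
noncomputable def rLtab (i : Nat) : Nat := rdw 6 63 rLtab_0 i
noncomputable def nameTab_s_0_2 (c : Nat) : Nat := @Bool.rec (fun _ => Nat) (nameTab_0) (nameTab_1) (Nat.ble 1 c)
noncomputable def nameTab_s_3_5 (c : Nat) : Nat := @Bool.rec (fun _ => Nat) (nameTab_3) (nameTab_4) (Nat.ble 4 c)
noncomputable def nameTab_s_2_5 (c : Nat) : Nat := @Bool.rec (fun _ => Nat) (nameTab_2) (nameTab_s_3_5 c) (Nat.ble 3 c)
noncomputable def nameTab_s_0_5 (c : Nat) : Nat := @Bool.rec (fun _ => Nat) (nameTab_s_0_2 c) (nameTab_s_2_5 c) (Nat.ble 2 c)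
noncomputable def nameTab_s_6_8 (c : Nat) : Nat := @Bool.rec (fun _ => Nat) (nameTab_6) (nameTab_7) (Nat.ble 7 c)
noncomputable def nameTab_s_5_8 (c : Nat) : Nat := @Bool.rec (fun _ => Nat) (nameTab_5) (nameTab_s_6_8 c) (Nat.ble 6 c)
noncomputable def nameTab_s_9_11 (c : Nat) : Nat := @Bool.rec (fun _ => Nat) (nameTab_9) (nameTab_10) (Nat.ble 10 c)
noncomputable def nameTab_s_8_11 (c : Nat) : Nat := @Bool.rec (fun _ => Nat) (nameTab_8) (nameTab_s_9_11 c) (Nat.ble 9 c)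
noncomputable def nameTab_s_5_11 (c : Nat) : Nat := @Bool.rec (fun _ => Nat) (nameTab_s_5_8 c) (nameTab_s_8_11 c) (Nat.ble 8 c)
noncomputable def nameTab_s_0_11 (c : Nat) : Nat := @Bool.rec (fun _ => Nat) (nameTab_s_0_5 c) (nameTab_s_5_11 c) (Nat.ble 5 c)
noncomputable def nameTab_s_12_14 (c : Nat) : Nat := @Bool.rec (fun _ => Nat) (nameTab_12) (nameTab_13) (Nat.ble 13 c)
noncomputable def nameTab_s_11_14 (c : Nat) : Nat := @Bool.rec (fun _ => Nat) (nameTab_11) (nameTab_s_12_14 c) (Nat.ble 12 c)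
noncomputable def nameTab_s_15_17 (c : Nat) : Nat := @Bool.rec (fun _ => Nat) (nameTab_15) (nameTab_16) (Nat.ble 16 c)
noncomputable def nameTab_s_14_17 (c : Nat) : Nat := @Bool.rec (fun _ => Nat) (nameTab_14) (nameTab_s_15_17 c) (Nat.ble 15 c)
noncomputable def nameTab_s_11_17 (c : Nat) : Nat := @Bool.rec (fun _ => Nat) (nameTab_s_11_14 c) (nameTab_s_14_17 c) (Nat.ble 14 c)
noncomputable def nameTab_s_18_20 (c : Nat) : Nat := @Bool.rec (fun _ => Nat) (nameTab_18) (nameTab_19) (Nat.ble 19 c)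
noncomputable def nameTab_s_17_20 (c : Nat) : Nat := @Bool.rec (fun _ => Nat) (nameTab_17) (nameTab_s_18_20 c) (Nat.ble 18 c)
noncomputable def nameTab_s_21_23 (c : Nat) : Nat := @Bool.rec (fun _ => Nat) (nameTab_21) (nameTab_22) (Nat.ble 22 c)
noncomputable def nameTab_s_20_23 (c : Nat) : Nat := @Bool.rec (fun _ => Nat) (nameTab_20) (nameTab_s_21_23 c) (Nat.ble 21 c)
noncomputable def nameTab_s_17_23 (c : Nat) : Nat := @Bool.rec (fun _ => Nat) (nameTab_s_17_20 c) (nameTab_s_20_23 c) (Nat.ble 20 c)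
noncomputable def nameTab_s_11_23 (c : Nat) : Nat := @Bool.rec (fun _ => Nat) (nameTab_s_11_17 c) (nameTab_s_17_23 c) (Nat.ble 17 c)
noncomputable def nameTab_s_0_23 (c : Nat) : Nat := @Bool.rec (fun _ => Nat) (nameTab_s_0_11 c) (nameTab_s_11_23 c) (Nat.ble 11 c)
noncomputable def nameTab_s_24_26 (c : Nat) : Nat := @Bool.rec (fun _ => Nat) (nameTab_24) (nameTab_25) (Nat.ble 25 c)
noncomputable def nameTab_s_23_26 (c : Nat) : Nat := @Bool.rec (fun _ => Nat) (nameTab_23) (nameTab_s_24_26 c) (Nat.ble 24 c)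
noncomputable def nameTab_s_27_29 (c : Nat) : Nat := @Bool.rec (fun _ => Nat) (nameTab_27) (nameTab_28) (Nat.ble 28 c)
noncomputable def nameTab_s_26_29 (c : Nat) : Nat := @Bool.rec (fun _ => Nat) (nameTab_26) (nameTab_s_27_29 c) (Nat.ble 27 c)
noncomputable def nameTab_s_23_29 (c : Nat) : Nat := @Bool.rec (fun _ => Nat) (nameTab_s_23_26 c) (nameTab_s_26_29 c) (Nat.ble 26 c)
noncomputable def nameTab_s_30_32 (c : Nat) : Nat := @Bool.rec (fun _ => Nat) (nameTab_30) (nameTab_31) (Nat.ble 31 c)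
noncomputable def nameTab_s_29_32 (c : Nat) : Nat := @Bool.rec (fun _ => Nat) (nameTab_29) (nameTab_s_30_32 c) (Nat.ble 30 c)
noncomputable def nameTab_s_33_35 (c : Nat) : Nat := @Bool.rec (fun _ => Nat) (nameTab_33) (nameTab_34) (Nat.ble 34 c)
noncomputable def nameTab_s_32_35 (c : Nat) : Nat := @Bool.rec (fun _ => Nat) (nameTab_32) (nameTab_s_33_35 c) (Nat.ble 33 c)
noncomputable def nameTab_s_29_35 (c : Nat) : Nat := @Bool.rec (fun _ => Nat) (nameTab_s_29_32 c) (nameTab_s_32_35 c) (Nat.ble 32 c)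
noncomputable def nameTab_s_23_35 (c : Nat) : Nat := @Bool.rec (fun _ => Nat) (nameTab_s_23_29 c) (nameTab_s_29_35 c) (Nat.ble 29 c)
noncomputable def nameTab_s_36_38 (c : Nat) : Nat := @Bool.rec (fun _ => Nat) (nameTab_36) (nameTab_37) (Nat.ble 37 c)
noncomputable def nameTab_s_35_38 (c : Nat) : Nat := @Bool.rec (fun _ => Nat) (nameTab_35) (nameTab_s_36_38 c) (Nat.ble 36 c)
noncomputable def nameTab_s_39_41 (c : Nat) : Nat := @Bool.rec (fun _ => Nat) (nameTab_39) (nameTab_40) (Nat.ble 40 c)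
noncomputable def nameTab_s_38_41 (c : Nat) : Nat := @Bool.rec (fun _ => Nat) (nameTab_38) (nameTab_s_39_41 c) (Nat.ble 39 c)
noncomputable def nameTab_s_35_41 (c : Nat) : Nat := @Bool.rec (fun _ => Nat) (nameTab_s_35_38 c) (nameTab_s_38_41 c) (Nat.ble 38 c)
noncomputable def nameTab_s_42_44 (c : Nat) : Nat := @Bool.rec (fun _ => Nat) (nameTab_42) (nameTab_43) (Nat.ble 43 c)
noncomputable def nameTab_s_41_44 (c : Nat) : Nat := @Bool.rec (fun _ => Nat) (nameTab_41) (nameTab_s_42_44 c) (Nat.ble 42 c)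
noncomputable def nameTab_s_45_47 (c : Nat) : Nat := @Bool.rec (fun _ => Nat) (nameTab_45) (nameTab_46) (Nat.ble 46 c)
noncomputable def nameTab_s_44_47 (c : Nat) : Nat := @Bool.rec (fun _ => Nat) (nameTab_44) (nameTab_s_45_47 c) (Nat.ble 45 c)
noncomputable def nameTab_s_41_47 (c : Nat) : Nat := @Bool.rec (fun _ => Nat) (nameTab_s_41_44 c) (nameTab_s_44_47 c) (Nat.ble 44 c)
noncomputable def nameTab_s_35_47 (c : Nat) : Nat := @Bool.rec (fun _ => Nat) (nameTab_s_35_41 c) (nameTab_s_41_47 c) (Nat.ble 41 c)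
noncomputable def nameTab_s_23_47 (c : Nat) : Nat := @Bool.rec (fun _ => Nat) (nameTab_s_23_35 c) (nameTab_s_35_47 c) (Nat.ble 35 c)
noncomputable def nameTab_s_0_47 (c : Nat) : Nat := @Bool.rec (fun _ => Nat) (nameTab_s_0_23 c) (nameTab_s_23_47 c) (Nat.ble 23 c)
noncomputable def nameTab_s_47_49 (c : Nat) : Nat := @Bool.rec (fun _ => Nat) (nameTab_47) (nameTab_48) (Nat.ble 48 c)
noncomputable def nameTab_s_50_52 (c : Nat) : Nat := @Bool.rec (fun _ => Nat) (nameTab_50) (nameTab_51) (Nat.ble 51 c)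
noncomputable def nameTab_s_49_52 (c : Nat) : Nat := @Bool.rec (fun _ => Nat) (nameTab_49) (nameTab_s_50_52 c) (Nat.ble 50 c)
noncomputable def nameTab_s_47_52 (c : Nat) : Nat := @Bool.rec (fun _ => Nat) (nameTab_s_47_49 c) (nameTab_s_49_52 c) (Nat.ble 49 c)
noncomputable def nameTab_s_53_55 (c : Nat) : Nat := @Bool.rec (fun _ => Nat) (nameTab_53) (nameTab_54) (Nat.ble 54 c)
noncomputable def nameTab_s_52_55 (c : Nat) : Nat := @Bool.rec (fun _ => Nat) (nameTab_52) (nameTab_s_53_55 c) (Nat.ble 53 c)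
noncomputable def nameTab_s_56_58 (c : Nat) : Nat := @Bool.rec (fun _ => Nat) (nameTab_56) (nameTab_57) (Nat.ble 57 c)
noncomputable def nameTab_s_55_58 (c : Nat) : Nat := @Bool.rec (fun _ => Nat) (nameTab_55) (nameTab_s_56_58 c) (Nat.ble 56 c)
noncomputable def nameTab_s_52_58 (c : Nat) : Nat := @Bool.rec (fun _ => Nat) (nameTab_s_52_55 c) (nameTab_s_55_58 c) (Nat.ble 55 c)
noncomputable def nameTab_s_47_58 (c : Nat) : Nat := @Bool.rec (fun _ => Nat) (nameTab_s_47_52 c) (nameTab_s_52_58 c) (Nat.ble 52 c)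
noncomputable def nameTab_s_59_61 (c : Nat) : Nat := @Bool.rec (fun _ => Nat) (nameTab_59) (nameTab_60) (Nat.ble 60 c)
noncomputable def nameTab_s_58_61 (c : Nat) : Nat := @Bool.rec (fun _ => Nat) (nameTab_58) (nameTab_s_59_61 c) (Nat.ble 59 c)
noncomputable def nameTab_s_62_64 (c : Nat) : Nat := @Bool.rec (fun _ => Nat) (nameTab_62) (nameTab_63) (Nat.ble 63 c)
noncomputable def nameTab_s_61_64 (c : Nat) : Nat := @Bool.rec (fun _ => Nat) (nameTab_61) (nameTab_s_62_64 c) (Nat.ble 62 c)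
noncomputable def nameTab_s_58_64 (c : Nat) : Nat := @Bool.rec (fun _ => Nat) (nameTab_s_58_61 c) (nameTab_s_61_64 c) (Nat.ble 61 c)
noncomputable def nameTab_s_65_67 (c : Nat) : Nat := @Bool.rec (fun _ => Nat) (nameTab_65) (nameTab_66) (Nat.ble 66 c)
noncomputable def nameTab_s_64_67 (c : Nat) : Nat := @Bool.rec (fun _ => Nat) (nameTab_64) (nameTab_s_65_67 c) (Nat.ble 65 c)
noncomputable def nameTab_s_68_70 (c : Nat) : Nat := @Bool.rec (fun _ => Nat) (nameTab_68) (nameTab_69) (Nat.ble 69 c)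
noncomputable def nameTab_s_67_70 (c : Nat) : Nat := @Bool.rec (fun _ => Nat) (nameTab_67) (nameTab_s_68_70 c) (Nat.ble 68 c)
noncomputable def nameTab_s_64_70 (c : Nat) : Nat := @Bool.rec (fun _ => Nat) (nameTab_s_64_67 c) (nameTab_s_67_70 c) (Nat.ble 67 c)
noncomputable def nameTab_s_58_70 (c : Nat) : Nat := @Bool.rec (fun _ => Nat) (nameTab_s_58_64 c) (nameTab_s_64_70 c) (Nat.ble 64 c)
noncomputable def nameTab_s_47_70 (c : Nat) : Nat := @Bool.rec (fun _ => Nat) (nameTab_s_47_58 c) (nameTab_s_58_70 c) (Nat.ble 58 c)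
noncomputable def nameTab_s_71_73 (c : Nat) : Nat := @Bool.rec (fun _ => Nat) (nameTab_71) (nameTab_72) (Nat.ble 72 c)
noncomputable def nameTab_s_70_73 (c : Nat) : Nat := @Bool.rec (fun _ => Nat) (nameTab_70) (nameTab_s_71_73 c) (Nat.ble 71 c)
noncomputable def nameTab_s_74_76 (c : Nat) : Nat := @Bool.rec (fun _ => Nat) (nameTab_74) (nameTab_75) (Nat.ble 75 c)
noncomputable def nameTab_s_73_76 (c : Nat) : Nat := @Bool.rec (fun _ => Nat) (nameTab_73) (nameTab_s_74_76 c) (Nat.ble 74 c)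
noncomputable def nameTab_s_70_76 (c : Nat) : Nat := @Bool.rec (fun _ => Nat) (nameTab_s_70_73 c) (nameTab_s_73_76 c) (Nat.ble 73 c)
noncomputable def nameTab_s_77_79 (c : Nat) : Nat := @Bool.rec (fun _ => Nat) (nameTab_77) (nameTab_78) (Nat.ble 78 c)
noncomputable def nameTab_s_76_79 (c : Nat) : Nat := @Bool.rec (fun _ => Nat) (nameTab_76) (nameTab_s_77_79 c) (Nat.ble 77 c)
noncomputable def nameTab_s_80_82 (c : Nat) : Nat := @Bool.rec (fun _ => Nat) (nameTab_80) (nameTab_81) (Nat.ble 81 c)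
noncomputable def nameTab_s_79_82 (c : Nat) : Nat := @Bool.rec (fun _ => Nat) (nameTab_79) (nameTab_s_80_82 c) (Nat.ble 80 c)
noncomputable def nameTab_s_76_82 (c : Nat) : Nat := @Bool.rec (fun _ => Nat) (nameTab_s_76_79 c) (nameTab_s_79_82 c) (Nat.ble 79 c)
noncomputable def nameTab_s_70_82 (c : Nat) : Nat := @Bool.rec (fun _ => Nat) (nameTab_s_70_76 c) (nameTab_s_76_82 c) (Nat.ble 76 c)
noncomputable def nameTab_s_83_85 (c : Nat) : Nat := @Bool.rec (fun _ => Nat) (nameTab_83) (nameTab_84) (Nat.ble 84 c)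
noncomputable def nameTab_s_82_85 (c : Nat) : Nat := @Bool.rec (fun _ => Nat) (nameTab_82) (nameTab_s_83_85 c) (Nat.ble 83 c)
noncomputable def nameTab_s_86_88 (c : Nat) : Nat := @Bool.rec (fun _ => Nat) (nameTab_86) (nameTab_87) (Nat.ble 87 c)
noncomputable def nameTab_s_85_88 (c : Nat) : Nat := @Bool.rec (fun _ => Nat) (nameTab_85) (nameTab_s_86_88 c) (Nat.ble 86 c)
noncomputable def nameTab_s_82_88 (c : Nat) : Nat := @Bool.rec (fun _ => Nat) (nameTab_s_82_85 c) (nameTab_s_85_88 c) (Nat.ble 85 c)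
noncomputable def nameTab_s_89_91 (c : Nat) : Nat := @Bool.rec (fun _ => Nat) (nameTab_89) (nameTab_90) (Nat.ble 90 c)
noncomputable def nameTab_s_88_91 (c : Nat) : Nat := @Bool.rec (fun _ => Nat) (nameTab_88) (nameTab_s_89_91 c) (Nat.ble 89 c)
noncomputable def nameTab_s_92_94 (c : Nat) : Nat := @Bool.rec (fun _ => Nat) (nameTab_92) (nameTab_93) (Nat.ble 93 c)
noncomputable def nameTab_s_91_94 (c : Nat) : Nat := @Bool.rec (fun _ => Nat) (nameTab_91) (nameTab_s_92_94 c) (Nat.ble 92 c)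
noncomputable def nameTab_s_88_94 (c : Nat) : Nat := @Bool.rec (fun _ => Nat) (nameTab_s_88_91 c) (nameTab_s_91_94 c) (Nat.ble 91 c)
noncomputable def nameTab_s_82_94 (c : Nat) : Nat := @Bool.rec (fun _ => Nat) (nameTab_s_82_88 c) (nameTab_s_88_94 c) (Nat.ble 88 c)
noncomputable def nameTab_s_70_94 (c : Nat) : Nat := @Bool.rec (fun _ => Nat) (nameTab_s_70_82 c) (nameTab_s_82_94 c) (Nat.ble 82 c)
noncomputable def nameTab_s_47_94 (c : Nat) : Nat := @Bool.rec (fun _ => Nat) (nameTab_s_47_70 c) (nameTab_s_70_94 c) (Nat.ble 70 c)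
noncomputable def nameTab_s_0_94 (c : Nat) : Nat := @Bool.rec (fun _ => Nat) (nameTab_s_0_47 c) (nameTab_s_47_94 c) (Nat.ble 47 c)
noncomputable def nameTab_s_94_96 (c : Nat) : Nat := @Bool.rec (fun _ => Nat) (nameTab_94) (nameTab_95) (Nat.ble 95 c)
noncomputable def nameTab_s_97_99 (c : Nat) : Nat := @Bool.rec (fun _ => Nat) (nameTab_97) (nameTab_98) (Nat.ble 98 c)
noncomputable def nameTab_s_96_99 (c : Nat) : Nat := @Bool.rec (fun _ => Nat) (nameTab_96) (nameTab_s_97_99 c) (Nat.ble 97 c)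
noncomputable def nameTab_s_94_99 (c : Nat) : Nat := @Bool.rec (fun _ => Nat) (nameTab_s_94_96 c) (nameTab_s_96_99 c) (Nat.ble 96 c)
noncomputable def nameTab_s_100_102 (c : Nat) : Nat := @Bool.rec (fun _ => Nat) (nameTab_100) (nameTab_101) (Nat.ble 101 c)
noncomputable def nameTab_s_99_102 (c : Nat) : Nat := @Bool.rec (fun _ => Nat) (nameTab_99) (nameTab_s_100_102 c) (Nat.ble 100 c)
noncomputable def nameTab_s_103_105 (c : Nat) : Nat := @Bool.rec (fun _ => Nat) (nameTab_103) (nameTab_104) (Nat.ble 104 c)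
noncomputable def nameTab_s_102_105 (c : Nat) : Nat := @Bool.rec (fun _ => Nat) (nameTab_102) (nameTab_s_103_105 c) (Nat.ble 103 c)
noncomputable def nameTab_s_99_105 (c : Nat) : Nat := @Bool.rec (fun _ => Nat) (nameTab_s_99_102 c) (nameTab_s_102_105 c) (Nat.ble 102 c)
noncomputable def nameTab_s_94_105 (c : Nat) : Nat := @Bool.rec (fun _ => Nat) (nameTab_s_94_99 c) (nameTab_s_99_105 c) (Nat.ble 99 c)
noncomputable def nameTab_s_106_108 (c : Nat) : Nat := @Bool.rec (fun _ => Nat) (nameTab_106) (nameTab_107) (Nat.ble 107 c)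
noncomputable def nameTab_s_105_108 (c : Nat) : Nat := @Bool.rec (fun _ => Nat) (nameTab_105) (nameTab_s_106_108 c) (Nat.ble 106 c)
noncomputable def nameTab_s_109_111 (c : Nat) : Nat := @Bool.rec (fun _ => Nat) (nameTab_109) (nameTab_110) (Nat.ble 110 c)
noncomputable def nameTab_s_108_111 (c : Nat) : Nat := @Bool.rec (fun _ => Nat) (nameTab_108) (nameTab_s_109_111 c) (Nat.ble 109 c)
noncomputable def nameTab_s_105_111 (c : Nat) : Nat := @Bool.rec (fun _ => Nat) (nameTab_s_105_108 c) (nameTab_s_108_111 c) (Nat.ble 108 c)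
noncomputable def nameTab_s_112_114 (c : Nat) : Nat := @Bool.rec (fun _ => Nat) (nameTab_112) (nameTab_113) (Nat.ble 113 c)
noncomputable def nameTab_s_111_114 (c : Nat) : Nat := @Bool.rec (fun _ => Nat) (nameTab_111) (nameTab_s_112_114 c) (Nat.ble 112 c)
noncomputable def nameTab_s_115_117 (c : Nat) : Nat := @Bool.rec (fun _ => Nat) (nameTab_115) (nameTab_116) (Nat.ble 116 c)
noncomputable def nameTab_s_114_117 (c : Nat) : Nat := @Bool.rec (fun _ => Nat) (nameTab_114) (nameTab_s_115_117 c) (Nat.ble 115 c)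
noncomputable def nameTab_s_111_117 (c : Nat) : Nat := @Bool.rec (fun _ => Nat) (nameTab_s_111_114 c) (nameTab_s_114_117 c) (Nat.ble 114 c)
noncomputable def nameTab_s_105_117 (c : Nat) : Nat := @Bool.rec (fun _ => Nat) (nameTab_s_105_111 c) (nameTab_s_111_117 c) (Nat.ble 111 c)
noncomputable def nameTab_s_94_117 (c : Nat) : Nat := @Bool.rec (fun _ => Nat) (nameTab_s_94_105 c) (nameTab_s_105_117 c) (Nat.ble 105 c)
noncomputable def nameTab_s_118_120 (c : Nat) : Nat := @Bool.rec (fun _ => Nat) (nameTab_118) (nameTab_119) (Nat.ble 119 c)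
noncomputable def nameTab_s_117_120 (c : Nat) : Nat := @Bool.rec (fun _ => Nat) (nameTab_117) (nameTab_s_118_120 c) (Nat.ble 118 c)
noncomputable def nameTab_s_121_123 (c : Nat) : Nat := @Bool.rec (fun _ => Nat) (nameTab_121) (nameTab_122) (Nat.ble 122 c)
noncomputable def nameTab_s_120_123 (c : Nat) : Nat := @Bool.rec (fun _ => Nat) (nameTab_120) (nameTab_s_121_123 c) (Nat.ble 121 c)
noncomputable def nameTab_s_117_123 (c : Nat) : Nat := @Bool.rec (fun _ => Nat) (nameTab_s_117_120 c) (nameTab_s_120_123 c) (Nat.ble 120 c)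
noncomputable def nameTab_s_124_126 (c : Nat) : Nat := @Bool.rec (fun _ => Nat) (nameTab_124) (nameTab_125) (Nat.ble 125 c)
noncomputable def nameTab_s_123_126 (c : Nat) : Nat := @Bool.rec (fun _ => Nat) (nameTab_123) (nameTab_s_124_126 c) (Nat.ble 124 c)
noncomputable def nameTab_s_127_129 (c : Nat) : Nat := @Bool.rec (fun _ => Nat) (nameTab_127) (nameTab_128) (Nat.ble 128 c)
noncomputable def nameTab_s_126_129 (c : Nat) : Nat := @Bool.rec (fun _ => Nat) (nameTab_126) (nameTab_s_127_129 c) (Nat.ble 127 c)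
noncomputable def nameTab_s_123_129 (c : Nat) : Nat := @Bool.rec (fun _ => Nat) (nameTab_s_123_126 c) (nameTab_s_126_129 c) (Nat.ble 126 c)
noncomputable def nameTab_s_117_129 (c : Nat) : Nat := @Bool.rec (fun _ => Nat) (nameTab_s_117_123 c) (nameTab_s_123_129 c) (Nat.ble 123 c)
noncomputable def nameTab_s_130_132 (c : Nat) : Nat := @Bool.rec (fun _ => Nat) (nameTab_130) (nameTab_131) (Nat.ble 131 c)
noncomputable def nameTab_s_129_132 (c : Nat) : Nat := @Bool.rec (fun _ => Nat) (nameTab_129) (nameTab_s_130_132 c) (Nat.ble 130 c)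
noncomputable def nameTab_s_133_135 (c : Nat) : Nat := @Bool.rec (fun _ => Nat) (nameTab_133) (nameTab_134) (Nat.ble 134 c)
noncomputable def nameTab_s_132_135 (c : Nat) : Nat := @Bool.rec (fun _ => Nat) (nameTab_132) (nameTab_s_133_135 c) (Nat.ble 133 c)
noncomputable def nameTab_s_129_135 (c : Nat) : Nat := @Bool.rec (fun _ => Nat) (nameTab_s_129_132 c) (nameTab_s_132_135 c) (Nat.ble 132 c)
noncomputable def nameTab_s_136_138 (c : Nat) : Nat := @Bool.rec (fun _ => Nat) (nameTab_136) (nameTab_137) (Nat.ble 137 c)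
noncomputable def nameTab_s_135_138 (c : Nat) : Nat := @Bool.rec (fun _ => Nat) (nameTab_135) (nameTab_s_136_138 c) (Nat.ble 136 c)
noncomputable def nameTab_s_139_141 (c : Nat) : Nat := @Bool.rec (fun _ => Nat) (nameTab_139) (nameTab_140) (Nat.ble 140 c)
noncomputable def nameTab_s_138_141 (c : Nat) : Nat := @Bool.rec (fun _ => Nat) (nameTab_138) (nameTab_s_139_141 c) (Nat.ble 139 c)
noncomputable def nameTab_s_135_141 (c : Nat) : Nat := @Bool.rec (fun _ => Nat) (nameTab_s_135_138 c) (nameTab_s_138_141 c) (Nat.ble 138 c)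
noncomputable def nameTab_s_129_141 (c : Nat) : Nat := @Bool.rec (fun _ => Nat) (nameTab_s_129_135 c) (nameTab_s_135_141 c) (Nat.ble 135 c)
noncomputable def nameTab_s_117_141 (c : Nat) : Nat := @Bool.rec (fun _ => Nat) (nameTab_s_117_129 c) (nameTab_s_129_141 c) (Nat.ble 129 c)
noncomputable def nameTab_s_94_141 (c : Nat) : Nat := @Bool.rec (fun _ => Nat) (nameTab_s_94_117 c) (nameTab_s_117_141 c) (Nat.ble 117 c)
noncomputable def nameTab_s_141_143 (c : Nat) : Nat := @Bool.rec (fun _ => Nat) (nameTab_141) (nameTab_142) (Nat.ble 142 c)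
noncomputable def nameTab_s_144_146 (c : Nat) : Nat := @Bool.rec (fun _ => Nat) (nameTab_144) (nameTab_145) (Nat.ble 145 c)
noncomputable def nameTab_s_143_146 (c : Nat) : Nat := @Bool.rec (fun _ => Nat) (nameTab_143) (nameTab_s_144_146 c) (Nat.ble 144 c)
noncomputable def nameTab_s_141_146 (c : Nat) : Nat := @Bool.rec (fun _ => Nat) (nameTab_s_141_143 c) (nameTab_s_143_146 c) (Nat.ble 143 c)
noncomputable def nameTab_s_147_149 (c : Nat) : Nat := @Bool.rec (fun _ => Nat) (nameTab_147) (nameTab_148) (Nat.ble 148 c)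
noncomputable def nameTab_s_146_149 (c : Nat) : Nat := @Bool.rec (fun _ => Nat) (nameTab_146) (nameTab_s_147_149 c) (Nat.ble 147 c)
noncomputable def nameTab_s_150_152 (c : Nat) : Nat := @Bool.rec (fun _ => Nat) (nameTab_150) (nameTab_151) (Nat.ble 151 c)
noncomputable def nameTab_s_149_152 (c : Nat) : Nat := @Bool.rec (fun _ => Nat) (nameTab_149) (nameTab_s_150_152 c) (Nat.ble 150 c)
noncomputable def nameTab_s_146_152 (c : Nat) : Nat := @Bool.rec (fun _ => Nat) (nameTab_s_146_149 c) (nameTab_s_149_152 c) (Nat.ble 149 c)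
noncomputable def nameTab_s_141_152 (c : Nat) : Nat := @Bool.rec (fun _ => Nat) (nameTab_s_141_146 c) (nameTab_s_146_152 c) (Nat.ble 146 c)
noncomputable def nameTab_s_153_155 (c : Nat) : Nat := @Bool.rec (fun _ => Nat) (nameTab_153) (nameTab_154) (Nat.ble 154 c)
noncomputable def nameTab_s_152_155 (c : Nat) : Nat := @Bool.rec (fun _ => Nat) (nameTab_152) (nameTab_s_153_155 c) (Nat.ble 153 c)
noncomputable def nameTab_s_156_158 (c : Nat) : Nat := @Bool.rec (fun _ => Nat) (nameTab_156) (nameTab_157) (Nat.ble 157 c)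
noncomputable def nameTab_s_155_158 (c : Nat) : Nat := @Bool.rec (fun _ => Nat) (nameTab_155) (nameTab_s_156_158 c) (Nat.ble 156 c)
noncomputable def nameTab_s_152_158 (c : Nat) : Nat := @Bool.rec (fun _ => Nat) (nameTab_s_152_155 c) (nameTab_s_155_158 c) (Nat.ble 155 c)
noncomputable def nameTab_s_159_161 (c : Nat) : Nat := @Bool.rec (fun _ => Nat) (nameTab_159) (nameTab_160) (Nat.ble 160 c)
noncomputable def nameTab_s_158_161 (c : Nat) : Nat := @Bool.rec (fun _ => Nat) (nameTab_158) (nameTab_s_159_161 c) (Nat.ble 159 c)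
noncomputable def nameTab_s_162_164 (c : Nat) : Nat := @Bool.rec (fun _ => Nat) (nameTab_162) (nameTab_163) (Nat.ble 163 c)
noncomputable def nameTab_s_161_164 (c : Nat) : Nat := @Bool.rec (fun _ => Nat) (nameTab_161) (nameTab_s_162_164 c) (Nat.ble 162 c)
noncomputable def nameTab_s_158_164 (c : Nat) : Nat := @Bool.rec (fun _ => Nat) (nameTab_s_158_161 c) (nameTab_s_161_164 c) (Nat.ble 161 c)
noncomputable def nameTab_s_152_164 (c : Nat) : Nat := @Bool.rec (fun _ => Nat) (nameTab_s_152_158 c) (nameTab_s_158_164 c) (Nat.ble 158 c)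
noncomputable def nameTab_s_141_164 (c : Nat) : Nat := @Bool.rec (fun _ => Nat) (nameTab_s_141_152 c) (nameTab_s_152_164 c) (Nat.ble 152 c)
noncomputable def nameTab_s_165_167 (c : Nat) : Nat := @Bool.rec (fun _ => Nat) (nameTab_165) (nameTab_166) (Nat.ble 166 c)
noncomputable def nameTab_s_164_167 (c : Nat) : Nat := @Bool.rec (fun _ => Nat) (nameTab_164) (nameTab_s_165_167 c) (Nat.ble 165 c)
noncomputable def nameTab_s_168_170 (c : Nat) : Nat := @Bool.rec (fun _ => Nat) (nameTab_168) (nameTab_169) (Nat.ble 169 c)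
noncomputable def nameTab_s_167_170 (c : Nat) : Nat := @Bool.rec (fun _ => Nat) (nameTab_167) (nameTab_s_168_170 c) (Nat.ble 168 c)
noncomputable def nameTab_s_164_170 (c : Nat) : Nat := @Bool.rec (fun _ => Nat) (nameTab_s_164_167 c) (nameTab_s_167_170 c) (Nat.ble 167 c)
noncomputable def nameTab_s_171_173 (c : Nat) : Nat := @Bool.rec (fun _ => Nat) (nameTab_171) (nameTab_172) (Nat.ble 172 c)
noncomputable def nameTab_s_170_173 (c : Nat) : Nat := @Bool.rec (fun _ => Nat) (nameTab_170) (nameTab_s_171_173 c) (Nat.ble 171 c)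
noncomputable def nameTab_s_174_176 (c : Nat) : Nat := @Bool.rec (fun _ => Nat) (nameTab_174) (nameTab_175) (Nat.ble 175 c)
noncomputable def nameTab_s_173_176 (c : Nat) : Nat := @Bool.rec (fun _ => Nat) (nameTab_173) (nameTab_s_174_176 c) (Nat.ble 174 c)
noncomputable def nameTab_s_170_176 (c : Nat) : Nat := @Bool.rec (fun _ => Nat) (nameTab_s_170_173 c) (nameTab_s_173_176 c) (Nat.ble 173 c)
noncomputable def nameTab_s_164_176 (c : Nat) : Nat := @Bool.rec (fun _ => Nat) (nameTab_s_164_170 c) (nameTab_s_170_176 c) (Nat.ble 170 c)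
noncomputable def nameTab_s_177_179 (c : Nat) : Nat := @Bool.rec (fun _ => Nat) (nameTab_177) (nameTab_178) (Nat.ble 178 c)
noncomputable def nameTab_s_176_179 (c : Nat) : Nat := @Bool.rec (fun _ => Nat) (nameTab_176) (nameTab_s_177_179 c) (Nat.ble 177 c)
noncomputable def nameTab_s_180_182 (c : Nat) : Nat := @Bool.rec (fun _ => Nat) (nameTab_180) (nameTab_181) (Nat.ble 181 c)
noncomputable def nameTab_s_179_182 (c : Nat) : Nat := @Bool.rec (fun _ => Nat) (nameTab_179) (nameTab_s_180_182 c) (Nat.ble 180 c)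
noncomputable def nameTab_s_176_182 (c : Nat) : Nat := @Bool.rec (fun _ => Nat) (nameTab_s_176_179 c) (nameTab_s_179_182 c) (Nat.ble 179 c)
noncomputable def nameTab_s_183_185 (c : Nat) : Nat := @Bool.rec (fun _ => Nat) (nameTab_183) (nameTab_184) (Nat.ble 184 c)
noncomputable def nameTab_s_182_185 (c : Nat) : Nat := @Bool.rec (fun _ => Nat) (nameTab_182) (nameTab_s_183_185 c) (Nat.ble 183 c)
noncomputable def nameTab_s_186_188 (c : Nat) : Nat := @Bool.rec (fun _ => Nat) (nameTab_186) (nameTab_187) (Nat.ble 187 c)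
noncomputable def nameTab_s_185_188 (c : Nat) : Nat := @Bool.rec (fun _ => Nat) (nameTab_185) (nameTab_s_186_188 c) (Nat.ble 186 c)
noncomputable def nameTab_s_182_188 (c : Nat) : Nat := @Bool.rec (fun _ => Nat) (nameTab_s_182_185 c) (nameTab_s_185_188 c) (Nat.ble 185 c)
noncomputable def nameTab_s_176_188 (c : Nat) : Nat := @Bool.rec (fun _ => Nat) (nameTab_s_176_182 c) (nameTab_s_182_188 c) (Nat.ble 182 c)
noncomputable def nameTab_s_164_188 (c : Nat) : Nat := @Bool.rec (fun _ => Nat) (nameTab_s_164_176 c) (nameTab_s_176_188 c) (Nat.ble 176 c)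
noncomputable def nameTab_s_141_188 (c : Nat) : Nat := @Bool.rec (fun _ => Nat) (nameTab_s_141_164 c) (nameTab_s_164_188 c) (Nat.ble 164 c)
noncomputable def nameTab_s_94_188 (c : Nat) : Nat := @Bool.rec (fun _ => Nat) (nameTab_s_94_141 c) (nameTab_s_141_188 c) (Nat.ble 141 c)
noncomputable def nameTab_s_0_188 (c : Nat) : Nat := @Bool.rec (fun _ => Nat) (nameTab_s_0_94 c) (nameTab_s_94_188 c) (Nat.ble 94 c)
noncomputable def nameTab_s_188_190 (c : Nat) : Nat := @Bool.rec (fun _ => Nat) (nameTab_188) (nameTab_189) (Nat.ble 189 c)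
noncomputable def nameTab_s_191_193 (c : Nat) : Nat := @Bool.rec (fun _ => Nat) (nameTab_191) (nameTab_192) (Nat.ble 192 c)
noncomputable def nameTab_s_190_193 (c : Nat) : Nat := @Bool.rec (fun _ => Nat) (nameTab_190) (nameTab_s_191_193 c) (Nat.ble 191 c)
noncomputable def nameTab_s_188_193 (c : Nat) : Nat := @Bool.rec (fun _ => Nat) (nameTab_s_188_190 c) (nameTab_s_190_193 c) (Nat.ble 190 c)
noncomputable def nameTab_s_194_196 (c : Nat) : Nat := @Bool.rec (fun _ => Nat) (nameTab_194) (nameTab_195) (Nat.ble 195 c)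
noncomputable def nameTab_s_193_196 (c : Nat) : Nat := @Bool.rec (fun _ => Nat) (nameTab_193) (nameTab_s_194_196 c) (Nat.ble 194 c)
noncomputable def nameTab_s_197_199 (c : Nat) : Nat := @Bool.rec (fun _ => Nat) (nameTab_197) (nameTab_198) (Nat.ble 198 c)
noncomputable def nameTab_s_196_199 (c : Nat) : Nat := @Bool.rec (fun _ => Nat) (nameTab_196) (nameTab_s_197_199 c) (Nat.ble 197 c)
noncomputable def nameTab_s_193_199 (c : Nat) : Nat := @Bool.rec (fun _ => Nat) (nameTab_s_193_196 c) (nameTab_s_196_199 c) (Nat.ble 196 c)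
noncomputable def nameTab_s_188_199 (c : Nat) : Nat := @Bool.rec (fun _ => Nat) (nameTab_s_188_193 c) (nameTab_s_193_199 c) (Nat.ble 193 c)
noncomputable def nameTab_s_200_202 (c : Nat) : Nat := @Bool.rec (fun _ => Nat) (nameTab_200) (nameTab_201) (Nat.ble 201 c)
noncomputable def nameTab_s_199_202 (c : Nat) : Nat := @Bool.rec (fun _ => Nat) (nameTab_199) (nameTab_s_200_202 c) (Nat.ble 200 c)
noncomputable def nameTab_s_203_205 (c : Nat) : Nat := @Bool.rec (fun _ => Nat) (nameTab_203) (nameTab_204) (Nat.ble 204 c)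
noncomputable def nameTab_s_202_205 (c : Nat) : Nat := @Bool.rec (fun _ => Nat) (nameTab_202) (nameTab_s_203_205 c) (Nat.ble 203 c)
noncomputable def nameTab_s_199_205 (c : Nat) : Nat := @Bool.rec (fun _ => Nat) (nameTab_s_199_202 c) (nameTab_s_202_205 c) (Nat.ble 202 c)
noncomputable def nameTab_s_206_208 (c : Nat) : Nat := @Bool.rec (fun _ => Nat) (nameTab_206) (nameTab_207) (Nat.ble 207 c)
noncomputable def nameTab_s_205_208 (c : Nat) : Nat := @Bool.rec (fun _ => Nat) (nameTab_205) (nameTab_s_206_208 c) (Nat.ble 206 c)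
noncomputable def nameTab_s_209_211 (c : Nat) : Nat := @Bool.rec (fun _ => Nat) (nameTab_209) (nameTab_210) (Nat.ble 210 c)
noncomputable def nameTab_s_208_211 (c : Nat) : Nat := @Bool.rec (fun _ => Nat) (nameTab_208) (nameTab_s_209_211 c) (Nat.ble 209 c)
noncomputable def nameTab_s_205_211 (c : Nat) : Nat := @Bool.rec (fun _ => Nat) (nameTab_s_205_208 c) (nameTab_s_208_211 c) (Nat.ble 208 c)
noncomputable def nameTab_s_199_211 (c : Nat) : Nat := @Bool.rec (fun _ => Nat) (nameTab_s_199_205 c) (nameTab_s_205_211 c) (Nat.ble 205 c)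
noncomputable def nameTab_s_188_211 (c : Nat) : Nat := @Bool.rec (fun _ => Nat) (nameTab_s_188_199 c) (nameTab_s_199_211 c) (Nat.ble 199 c)
noncomputable def nameTab_s_212_214 (c : Nat) : Nat := @Bool.rec (fun _ => Nat) (nameTab_212) (nameTab_213) (Nat.ble 213 c)
noncomputable def nameTab_s_211_214 (c : Nat) : Nat := @Bool.rec (fun _ => Nat) (nameTab_211) (nameTab_s_212_214 c) (Nat.ble 212 c)
noncomputable def nameTab_s_215_217 (c : Nat) : Nat := @Bool.rec (fun _ => Nat) (nameTab_215) (nameTab_216) (Nat.ble 216 c)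
noncomputable def nameTab_s_214_217 (c : Nat) : Nat := @Bool.rec (fun _ => Nat) (nameTab_214) (nameTab_s_215_217 c) (Nat.ble 215 c)
noncomputable def nameTab_s_211_217 (c : Nat) : Nat := @Bool.rec (fun _ => Nat) (nameTab_s_211_214 c) (nameTab_s_214_217 c) (Nat.ble 214 c)
noncomputable def nameTab_s_218_220 (c : Nat) : Nat := @Bool.rec (fun _ => Nat) (nameTab_218) (nameTab_219) (Nat.ble 219 c)
noncomputable def nameTab_s_217_220 (c : Nat) : Nat := @Bool.rec (fun _ => Nat) (nameTab_217) (nameTab_s_218_220 c) (Nat.ble 218 c)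
noncomputable def nameTab_s_221_223 (c : Nat) : Nat := @Bool.rec (fun _ => Nat) (nameTab_221) (nameTab_222) (Nat.ble 222 c)
noncomputable def nameTab_s_220_223 (c : Nat) : Nat := @Bool.rec (fun _ => Nat) (nameTab_220) (nameTab_s_221_223 c) (Nat.ble 221 c)
noncomputable def nameTab_s_217_223 (c : Nat) : Nat := @Bool.rec (fun _ => Nat) (nameTab_s_217_220 c) (nameTab_s_220_223 c) (Nat.ble 220 c)
noncomputable def nameTab_s_211_223 (c : Nat) : Nat := @Bool.rec (fun _ => Nat) (nameTab_s_211_217 c) (nameTab_s_217_223 c) (Nat.ble 217 c)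
noncomputable def nameTab_s_224_226 (c : Nat) : Nat := @Bool.rec (fun _ => Nat) (nameTab_224) (nameTab_225) (Nat.ble 225 c)
noncomputable def nameTab_s_223_226 (c : Nat) : Nat := @Bool.rec (fun _ => Nat) (nameTab_223) (nameTab_s_224_226 c) (Nat.ble 224 c)
noncomputable def nameTab_s_227_229 (c : Nat) : Nat := @Bool.rec (fun _ => Nat) (nameTab_227) (nameTab_228) (Nat.ble 228 c)
noncomputable def nameTab_s_226_229 (c : Nat) : Nat := @Bool.rec (fun _ => Nat) (nameTab_226) (nameTab_s_227_229 c) (Nat.ble 227 c)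
noncomputable def nameTab_s_223_229 (c : Nat) : Nat := @Bool.rec (fun _ => Nat) (nameTab_s_223_226 c) (nameTab_s_226_229 c) (Nat.ble 226 c)
noncomputable def nameTab_s_230_232 (c : Nat) : Nat := @Bool.rec (fun _ => Nat) (nameTab_230) (nameTab_231) (Nat.ble 231 c)
noncomputable def nameTab_s_229_232 (c : Nat) : Nat := @Bool.rec (fun _ => Nat) (nameTab_229) (nameTab_s_230_232 c) (Nat.ble 230 c)
noncomputable def nameTab_s_233_235 (c : Nat) : Nat := @Bool.rec (fun _ => Nat) (nameTab_233) (nameTab_234) (Nat.ble 234 c)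
noncomputable def nameTab_s_232_235 (c : Nat) : Nat := @Bool.rec (fun _ => Nat) (nameTab_232) (nameTab_s_233_235 c) (Nat.ble 233 c)
noncomputable def nameTab_s_229_235 (c : Nat) : Nat := @Bool.rec (fun _ => Nat) (nameTab_s_229_232 c) (nameTab_s_232_235 c) (Nat.ble 232 c)
noncomputable def nameTab_s_223_235 (c : Nat) : Nat := @Bool.rec (fun _ => Nat) (nameTab_s_223_229 c) (nameTab_s_229_235 c) (Nat.ble 229 c)
noncomputable def nameTab_s_211_235 (c : Nat) : Nat := @Bool.rec (fun _ => Nat) (nameTab_s_211_223 c) (nameTab_s_223_235 c) (Nat.ble 223 c)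
noncomputable def nameTab_s_188_235 (c : Nat) : Nat := @Bool.rec (fun _ => Nat) (nameTab_s_188_211 c) (nameTab_s_211_235 c) (Nat.ble 211 c)
noncomputable def nameTab_s_235_237 (c : Nat) : Nat := @Bool.rec (fun _ => Nat) (nameTab_235) (nameTab_236) (Nat.ble 236 c)
noncomputable def nameTab_s_238_240 (c : Nat) : Nat := @Bool.rec (fun _ => Nat) (nameTab_238) (nameTab_239) (Nat.ble 239 c)
noncomputable def nameTab_s_237_240 (c : Nat) : Nat := @Bool.rec (fun _ => Nat) (nameTab_237) (nameTab_s_238_240 c) (Nat.ble 238 c)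
noncomputable def nameTab_s_235_240 (c : Nat) : Nat := @Bool.rec (fun _ => Nat) (nameTab_s_235_237 c) (nameTab_s_237_240 c) (Nat.ble 237 c)
noncomputable def nameTab_s_241_243 (c : Nat) : Nat := @Bool.rec (fun _ => Nat) (nameTab_241) (nameTab_242) (Nat.ble 242 c)
noncomputable def nameTab_s_240_243 (c : Nat) : Nat := @Bool.rec (fun _ => Nat) (nameTab_240) (nameTab_s_241_243 c) (Nat.ble 241 c)
noncomputable def nameTab_s_244_246 (c : Nat) : Nat := @Bool.rec (fun _ => Nat) (nameTab_244) (nameTab_245) (Nat.ble 245 c)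
noncomputable def nameTab_s_243_246 (c : Nat) : Nat := @Bool.rec (fun _ => Nat) (nameTab_243) (nameTab_s_244_246 c) (Nat.ble 244 c)
noncomputable def nameTab_s_240_246 (c : Nat) : Nat := @Bool.rec (fun _ => Nat) (nameTab_s_240_243 c) (nameTab_s_243_246 c) (Nat.ble 243 c)
noncomputable def nameTab_s_235_246 (c : Nat) : Nat := @Bool.rec (fun _ => Nat) (nameTab_s_235_240 c) (nameTab_s_240_246 c) (Nat.ble 240 c)
noncomputable def nameTab_s_247_249 (c : Nat) : Nat := @Bool.rec (fun _ => Nat) (nameTab_247) (nameTab_248) (Nat.ble 248 c)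
noncomputable def nameTab_s_246_249 (c : Nat) : Nat := @Bool.rec (fun _ => Nat) (nameTab_246) (nameTab_s_247_249 c) (Nat.ble 247 c)
noncomputable def nameTab_s_250_252 (c : Nat) : Nat := @Bool.rec (fun _ => Nat) (nameTab_250) (nameTab_251) (Nat.ble 251 c)
noncomputable def nameTab_s_249_252 (c : Nat) : Nat := @Bool.rec (fun _ => Nat) (nameTab_249) (nameTab_s_250_252 c) (Nat.ble 250 c)
noncomputable def nameTab_s_246_252 (c : Nat) : Nat := @Bool.rec (fun _ => Nat) (nameTab_s_246_249 c) (nameTab_s_249_252 c) (Nat.ble 249 c)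
noncomputable def nameTab_s_253_255 (c : Nat) : Nat := @Bool.rec (fun _ => Nat) (nameTab_253) (nameTab_254) (Nat.ble 254 c)
noncomputable def nameTab_s_252_255 (c : Nat) : Nat := @Bool.rec (fun _ => Nat) (nameTab_252) (nameTab_s_253_255 c) (Nat.ble 253 c)
noncomputable def nameTab_s_256_258 (c : Nat) : Nat := @Bool.rec (fun _ => Nat) (nameTab_256) (nameTab_257) (Nat.ble 257 c)
noncomputable def nameTab_s_255_258 (c : Nat) : Nat := @Bool.rec (fun _ => Nat) (nameTab_255) (nameTab_s_256_258 c) (Nat.ble 256 c)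
noncomputable def nameTab_s_252_258 (c : Nat) : Nat := @Bool.rec (fun _ => Nat) (nameTab_s_252_255 c) (nameTab_s_255_258 c) (Nat.ble 255 c)
noncomputable def nameTab_s_246_258 (c : Nat) : Nat := @Bool.rec (fun _ => Nat) (nameTab_s_246_252 c) (nameTab_s_252_258 c) (Nat.ble 252 c)
noncomputable def nameTab_s_235_258 (c : Nat) : Nat := @Bool.rec (fun _ => Nat) (nameTab_s_235_246 c) (nameTab_s_246_258 c) (Nat.ble 246 c)
noncomputable def nameTab_s_259_261 (c : Nat) : Nat := @Bool.rec (fun _ => Nat) (nameTab_259) (nameTab_260) (Nat.ble 260 c)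
noncomputable def nameTab_s_258_261 (c : Nat) : Nat := @Bool.rec (fun _ => Nat) (nameTab_258) (nameTab_s_259_261 c) (Nat.ble 259 c)
noncomputable def nameTab_s_262_264 (c : Nat) : Nat := @Bool.rec (fun _ => Nat) (nameTab_262) (nameTab_263) (Nat.ble 263 c)
noncomputable def nameTab_s_261_264 (c : Nat) : Nat := @Bool.rec (fun _ => Nat) (nameTab_261) (nameTab_s_262_264 c) (Nat.ble 262 c)
noncomputable def nameTab_s_258_264 (c : Nat) : Nat := @Bool.rec (fun _ => Nat) (nameTab_s_258_261 c) (nameTab_s_261_264 c) (Nat.ble 261 c)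
noncomputable def nameTab_s_265_267 (c : Nat) : Nat := @Bool.rec (fun _ => Nat) (nameTab_265) (nameTab_266) (Nat.ble 266 c)
noncomputable def nameTab_s_264_267 (c : Nat) : Nat := @Bool.rec (fun _ => Nat) (nameTab_264) (nameTab_s_265_267 c) (Nat.ble 265 c)
noncomputable def nameTab_s_268_270 (c : Nat) : Nat := @Bool.rec (fun _ => Nat) (nameTab_268) (nameTab_269) (Nat.ble 269 c)
noncomputable def nameTab_s_267_270 (c : Nat) : Nat := @Bool.rec (fun _ => Nat) (nameTab_267) (nameTab_s_268_270 c) (Nat.ble 268 c)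
noncomputable def nameTab_s_264_270 (c : Nat) : Nat := @Bool.rec (fun _ => Nat) (nameTab_s_264_267 c) (nameTab_s_267_270 c) (Nat.ble 267 c)
noncomputable def nameTab_s_258_270 (c : Nat) : Nat := @Bool.rec (fun _ => Nat) (nameTab_s_258_264 c) (nameTab_s_264_270 c) (Nat.ble 264 c)
noncomputable def nameTab_s_271_273 (c : Nat) : Nat := @Bool.rec (fun _ => Nat) (nameTab_271) (nameTab_272) (Nat.ble 272 c)
noncomputable def nameTab_s_270_273 (c : Nat) : Nat := @Bool.rec (fun _ => Nat) (nameTab_270) (nameTab_s_271_273 c) (Nat.ble 271 c)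
noncomputable def nameTab_s_274_276 (c : Nat) : Nat := @Bool.rec (fun _ => Nat) (nameTab_274) (nameTab_275) (Nat.ble 275 c)
noncomputable def nameTab_s_273_276 (c : Nat) : Nat := @Bool.rec (fun _ => Nat) (nameTab_273) (nameTab_s_274_276 c) (Nat.ble 274 c)
noncomputable def nameTab_s_270_276 (c : Nat) : Nat := @Bool.rec (fun _ => Nat) (nameTab_s_270_273 c) (nameTab_s_273_276 c) (Nat.ble 273 c)
noncomputable def nameTab_s_277_279 (c : Nat) : Nat := @Bool.rec (fun _ => Nat) (nameTab_277) (nameTab_278) (Nat.ble 278 c)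
noncomputable def nameTab_s_276_279 (c : Nat) : Nat := @Bool.rec (fun _ => Nat) (nameTab_276) (nameTab_s_277_279 c) (Nat.ble 277 c)
noncomputable def nameTab_s_280_282 (c : Nat) : Nat := @Bool.rec (fun _ => Nat) (nameTab_280) (nameTab_281) (Nat.ble 281 c)
noncomputable def nameTab_s_279_282 (c : Nat) : Nat := @Bool.rec (fun _ => Nat) (nameTab_279) (nameTab_s_280_282 c) (Nat.ble 280 c)
noncomputable def nameTab_s_276_282 (c : Nat) : Nat := @Bool.rec (fun _ => Nat) (nameTab_s_276_279 c) (nameTab_s_279_282 c) (Nat.ble 279 c)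
noncomputable def nameTab_s_270_282 (c : Nat) : Nat := @Bool.rec (fun _ => Nat) (nameTab_s_270_276 c) (nameTab_s_276_282 c) (Nat.ble 276 c)
noncomputable def nameTab_s_258_282 (c : Nat) : Nat := @Bool.rec (fun _ => Nat) (nameTab_s_258_270 c) (nameTab_s_270_282 c) (Nat.ble 270 c)
noncomputable def nameTab_s_235_282 (c : Nat) : Nat := @Bool.rec (fun _ => Nat) (nameTab_s_235_258 c) (nameTab_s_258_282 c) (Nat.ble 258 c)
noncomputable def nameTab_s_188_282 (c : Nat) : Nat := @Bool.rec (fun _ => Nat) (nameTab_s_188_235 c) (nameTab_s_235_282 c) (Nat.ble 235 c)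
noncomputable def nameTab_s_282_284 (c : Nat) : Nat := @Bool.rec (fun _ => Nat) (nameTab_282) (nameTab_283) (Nat.ble 283 c)
noncomputable def nameTab_s_285_287 (c : Nat) : Nat := @Bool.rec (fun _ => Nat) (nameTab_285) (nameTab_286) (Nat.ble 286 c)
noncomputable def nameTab_s_284_287 (c : Nat) : Nat := @Bool.rec (fun _ => Nat) (nameTab_284) (nameTab_s_285_287 c) (Nat.ble 285 c)
noncomputable def nameTab_s_282_287 (c : Nat) : Nat := @Bool.rec (fun _ => Nat) (nameTab_s_282_284 c) (nameTab_s_284_287 c) (Nat.ble 284 c)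
noncomputable def nameTab_s_288_290 (c : Nat) : Nat := @Bool.rec (fun _ => Nat) (nameTab_288) (nameTab_289) (Nat.ble 289 c)
noncomputable def nameTab_s_287_290 (c : Nat) : Nat := @Bool.rec (fun _ => Nat) (nameTab_287) (nameTab_s_288_290 c) (Nat.ble 288 c)
noncomputable def nameTab_s_291_293 (c : Nat) : Nat := @Bool.rec (fun _ => Nat) (nameTab_291) (nameTab_292) (Nat.ble 292 c)
noncomputable def nameTab_s_290_293 (c : Nat) : Nat := @Bool.rec (fun _ => Nat) (nameTab_290) (nameTab_s_291_293 c) (Nat.ble 291 c)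
noncomputable def nameTab_s_287_293 (c : Nat) : Nat := @Bool.rec (fun _ => Nat) (nameTab_s_287_290 c) (nameTab_s_290_293 c) (Nat.ble 290 c)
noncomputable def nameTab_s_282_293 (c : Nat) : Nat := @Bool.rec (fun _ => Nat) (nameTab_s_282_287 c) (nameTab_s_287_293 c) (Nat.ble 287 c)
noncomputable def nameTab_s_294_296 (c : Nat) : Nat := @Bool.rec (fun _ => Nat) (nameTab_294) (nameTab_295) (Nat.ble 295 c)
noncomputable def nameTab_s_293_296 (c : Nat) : Nat := @Bool.rec (fun _ => Nat) (nameTab_293) (nameTab_s_294_296 c) (Nat.ble 294 c)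
noncomputable def nameTab_s_297_299 (c : Nat) : Nat := @Bool.rec (fun _ => Nat) (nameTab_297) (nameTab_298) (Nat.ble 298 c)
noncomputable def nameTab_s_296_299 (c : Nat) : Nat := @Bool.rec (fun _ => Nat) (nameTab_296) (nameTab_s_297_299 c) (Nat.ble 297 c)
noncomputable def nameTab_s_293_299 (c : Nat) : Nat := @Bool.rec (fun _ => Nat) (nameTab_s_293_296 c) (nameTab_s_296_299 c) (Nat.ble 296 c)
noncomputable def nameTab_s_300_302 (c : Nat) : Nat := @Bool.rec (fun _ => Nat) (nameTab_300) (nameTab_301) (Nat.ble 301 c)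
noncomputable def nameTab_s_299_302 (c : Nat) : Nat := @Bool.rec (fun _ => Nat) (nameTab_299) (nameTab_s_300_302 c) (Nat.ble 300 c)
noncomputable def nameTab_s_303_305 (c : Nat) : Nat := @Bool.rec (fun _ => Nat) (nameTab_303) (nameTab_304) (Nat.ble 304 c)
noncomputable def nameTab_s_302_305 (c : Nat) : Nat := @Bool.rec (fun _ => Nat) (nameTab_302) (nameTab_s_303_305 c) (Nat.ble 303 c)
noncomputable def nameTab_s_299_305 (c : Nat) : Nat := @Bool.rec (fun _ => Nat) (nameTab_s_299_302 c) (nameTab_s_302_305 c) (Nat.ble 302 c)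
noncomputable def nameTab_s_293_305 (c : Nat) : Nat := @Bool.rec (fun _ => Nat) (nameTab_s_293_299 c) (nameTab_s_299_305 c) (Nat.ble 299 c)
noncomputable def nameTab_s_282_305 (c : Nat) : Nat := @Bool.rec (fun _ => Nat) (nameTab_s_282_293 c) (nameTab_s_293_305 c) (Nat.ble 293 c)
noncomputable def nameTab_s_306_308 (c : Nat) : Nat := @Bool.rec (fun _ => Nat) (nameTab_306) (nameTab_307) (Nat.ble 307 c)
noncomputable def nameTab_s_305_308 (c : Nat) : Nat := @Bool.rec (fun _ => Nat) (nameTab_305) (nameTab_s_306_308 c) (Nat.ble 306 c)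
noncomputable def nameTab_s_309_311 (c : Nat) : Nat := @Bool.rec (fun _ => Nat) (nameTab_309) (nameTab_310) (Nat.ble 310 c)
noncomputable def nameTab_s_308_311 (c : Nat) : Nat := @Bool.rec (fun _ => Nat) (nameTab_308) (nameTab_s_309_311 c) (Nat.ble 309 c)
noncomputable def nameTab_s_305_311 (c : Nat) : Nat := @Bool.rec (fun _ => Nat) (nameTab_s_305_308 c) (nameTab_s_308_311 c) (Nat.ble 308 c)
noncomputable def nameTab_s_312_314 (c : Nat) : Nat := @Bool.rec (fun _ => Nat) (nameTab_312) (nameTab_313) (Nat.ble 313 c)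
noncomputable def nameTab_s_311_314 (c : Nat) : Nat := @Bool.rec (fun _ => Nat) (nameTab_311) (nameTab_s_312_314 c) (Nat.ble 312 c)
noncomputable def nameTab_s_315_317 (c : Nat) : Nat := @Bool.rec (fun _ => Nat) (nameTab_315) (nameTab_316) (Nat.ble 316 c)
noncomputable def nameTab_s_314_317 (c : Nat) : Nat := @Bool.rec (fun _ => Nat) (nameTab_314) (nameTab_s_315_317 c) (Nat.ble 315 c)
noncomputable def nameTab_s_311_317 (c : Nat) : Nat := @Bool.rec (fun _ => Nat) (nameTab_s_311_314 c) (nameTab_s_314_317 c) (Nat.ble 314 c)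
noncomputable def nameTab_s_305_317 (c : Nat) : Nat := @Bool.rec (fun _ => Nat) (nameTab_s_305_311 c) (nameTab_s_311_317 c) (Nat.ble 311 c)
noncomputable def nameTab_s_318_320 (c : Nat) : Nat := @Bool.rec (fun _ => Nat) (nameTab_318) (nameTab_319) (Nat.ble 319 c)
noncomputable def nameTab_s_317_320 (c : Nat) : Nat := @Bool.rec (fun _ => Nat) (nameTab_317) (nameTab_s_318_320 c) (Nat.ble 318 c)
noncomputable def nameTab_s_321_323 (c : Nat) : Nat := @Bool.rec (fun _ => Nat) (nameTab_321) (nameTab_322) (Nat.ble 322 c)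
noncomputable def nameTab_s_320_323 (c : Nat) : Nat := @Bool.rec (fun _ => Nat) (nameTab_320) (nameTab_s_321_323 c) (Nat.ble 321 c)
noncomputable def nameTab_s_317_323 (c : Nat) : Nat := @Bool.rec (fun _ => Nat) (nameTab_s_317_320 c) (nameTab_s_320_323 c) (Nat.ble 320 c)
noncomputable def nameTab_s_324_326 (c : Nat) : Nat := @Bool.rec (fun _ => Nat) (nameTab_324) (nameTab_325) (Nat.ble 325 c)
noncomputable def nameTab_s_323_326 (c : Nat) : Nat := @Bool.rec (fun _ => Nat) (nameTab_323) (nameTab_s_324_326 c) (Nat.ble 324 c)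
noncomputable def nameTab_s_327_329 (c : Nat) : Nat := @Bool.rec (fun _ => Nat) (nameTab_327) (nameTab_328) (Nat.ble 328 c)
noncomputable def nameTab_s_326_329 (c : Nat) : Nat := @Bool.rec (fun _ => Nat) (nameTab_326) (nameTab_s_327_329 c) (Nat.ble 327 c)
noncomputable def nameTab_s_323_329 (c : Nat) : Nat := @Bool.rec (fun _ => Nat) (nameTab_s_323_326 c) (nameTab_s_326_329 c) (Nat.ble 326 c)
noncomputable def nameTab_s_317_329 (c : Nat) : Nat := @Bool.rec (fun _ => Nat) (nameTab_s_317_323 c) (nameTab_s_323_329 c) (Nat.ble 323 c)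
noncomputable def nameTab_s_305_329 (c : Nat) : Nat := @Bool.rec (fun _ => Nat) (nameTab_s_305_317 c) (nameTab_s_317_329 c) (Nat.ble 317 c)
noncomputable def nameTab_s_282_329 (c : Nat) : Nat := @Bool.rec (fun _ => Nat) (nameTab_s_282_305 c) (nameTab_s_305_329 c) (Nat.ble 305 c)
noncomputable def nameTab_s_329_331 (c : Nat) : Nat := @Bool.rec (fun _ => Nat) (nameTab_329) (nameTab_330) (Nat.ble 330 c)
noncomputable def nameTab_s_332_334 (c : Nat) : Nat := @Bool.rec (fun _ => Nat) (nameTab_332) (nameTab_333) (Nat.ble 333 c)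
noncomputable def nameTab_s_331_334 (c : Nat) : Nat := @Bool.rec (fun _ => Nat) (nameTab_331) (nameTab_s_332_334 c) (Nat.ble 332 c)
noncomputable def nameTab_s_329_334 (c : Nat) : Nat := @Bool.rec (fun _ => Nat) (nameTab_s_329_331 c) (nameTab_s_331_334 c) (Nat.ble 331 c)
noncomputable def nameTab_s_335_337 (c : Nat) : Nat := @Bool.rec (fun _ => Nat) (nameTab_335) (nameTab_336) (Nat.ble 336 c)
noncomputable def nameTab_s_334_337 (c : Nat) : Nat := @Bool.rec (fun _ => Nat) (nameTab_334) (nameTab_s_335_337 c) (Nat.ble 335 c)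
noncomputable def nameTab_s_338_340 (c : Nat) : Nat := @Bool.rec (fun _ => Nat) (nameTab_338) (nameTab_339) (Nat.ble 339 c)
noncomputable def nameTab_s_337_340 (c : Nat) : Nat := @Bool.rec (fun _ => Nat) (nameTab_337) (nameTab_s_338_340 c) (Nat.ble 338 c)
noncomputable def nameTab_s_334_340 (c : Nat) : Nat := @Bool.rec (fun _ => Nat) (nameTab_s_334_337 c) (nameTab_s_337_340 c) (Nat.ble 337 c)
noncomputable def nameTab_s_329_340 (c : Nat) : Nat := @Bool.rec (fun _ => Nat) (nameTab_s_329_334 c) (nameTab_s_334_340 c) (Nat.ble 334 c)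
noncomputable def nameTab_s_341_343 (c : Nat) : Nat := @Bool.rec (fun _ => Nat) (nameTab_341) (nameTab_342) (Nat.ble 342 c)
noncomputable def nameTab_s_340_343 (c : Nat) : Nat := @Bool.rec (fun _ => Nat) (nameTab_340) (nameTab_s_341_343 c) (Nat.ble 341 c)
noncomputable def nameTab_s_344_346 (c : Nat) : Nat := @Bool.rec (fun _ => Nat) (nameTab_344) (nameTab_345) (Nat.ble 345 c)
noncomputable def nameTab_s_343_346 (c : Nat) : Nat := @Bool.rec (fun _ => Nat) (nameTab_343) (nameTab_s_344_346 c) (Nat.ble 344 c)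
noncomputable def nameTab_s_340_346 (c : Nat) : Nat := @Bool.rec (fun _ => Nat) (nameTab_s_340_343 c) (nameTab_s_343_346 c) (Nat.ble 343 c)
noncomputable def nameTab_s_347_349 (c : Nat) : Nat := @Bool.rec (fun _ => Nat) (nameTab_347) (nameTab_348) (Nat.ble 348 c)
noncomputable def nameTab_s_346_349 (c : Nat) : Nat := @Bool.rec (fun _ => Nat) (nameTab_346) (nameTab_s_347_349 c) (Nat.ble 347 c)
noncomputable def nameTab_s_350_352 (c : Nat) : Nat := @Bool.rec (fun _ => Nat) (nameTab_350) (nameTab_351) (Nat.ble 351 c)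
noncomputable def nameTab_s_349_352 (c : Nat) : Nat := @Bool.rec (fun _ => Nat) (nameTab_349) (nameTab_s_350_352 c) (Nat.ble 350 c)
noncomputable def nameTab_s_346_352 (c : Nat) : Nat := @Bool.rec (fun _ => Nat) (nameTab_s_346_349 c) (nameTab_s_349_352 c) (Nat.ble 349 c)
noncomputable def nameTab_s_340_352 (c : Nat) : Nat := @Bool.rec (fun _ => Nat) (nameTab_s_340_346 c) (nameTab_s_346_352 c) (Nat.ble 346 c)
noncomputable def nameTab_s_329_352 (c : Nat) : Nat := @Bool.rec (fun _ => Nat) (nameTab_s_329_340 c) (nameTab_s_340_352 c) (Nat.ble 340 c)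
noncomputable def nameTab_s_353_355 (c : Nat) : Nat := @Bool.rec (fun _ => Nat) (nameTab_353) (nameTab_354) (Nat.ble 354 c)
noncomputable def nameTab_s_352_355 (c : Nat) : Nat := @Bool.rec (fun _ => Nat) (nameTab_352) (nameTab_s_353_355 c) (Nat.ble 353 c)
noncomputable def nameTab_s_356_358 (c : Nat) : Nat := @Bool.rec (fun _ => Nat) (nameTab_356) (nameTab_357) (Nat.ble 357 c)
noncomputable def nameTab_s_355_358 (c : Nat) : Nat := @Bool.rec (fun _ => Nat) (nameTab_355) (nameTab_s_356_358 c) (Nat.ble 356 c)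
noncomputable def nameTab_s_352_358 (c : Nat) : Nat := @Bool.rec (fun _ => Nat) (nameTab_s_352_355 c) (nameTab_s_355_358 c) (Nat.ble 355 c)
noncomputable def nameTab_s_359_361 (c : Nat) : Nat := @Bool.rec (fun _ => Nat) (nameTab_359) (nameTab_360) (Nat.ble 360 c)
noncomputable def nameTab_s_358_361 (c : Nat) : Nat := @Bool.rec (fun _ => Nat) (nameTab_358) (nameTab_s_359_361 c) (Nat.ble 359 c)
noncomputable def nameTab_s_362_364 (c : Nat) : Nat := @Bool.rec (fun _ => Nat) (nameTab_362) (nameTab_363) (Nat.ble 363 c)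
noncomputable def nameTab_s_361_364 (c : Nat) : Nat := @Bool.rec (fun _ => Nat) (nameTab_361) (nameTab_s_362_364 c) (Nat.ble 362 c)
noncomputable def nameTab_s_358_364 (c : Nat) : Nat := @Bool.rec (fun _ => Nat) (nameTab_s_358_361 c) (nameTab_s_361_364 c) (Nat.ble 361 c)
noncomputable def nameTab_s_352_364 (c : Nat) : Nat := @Bool.rec (fun _ => Nat) (nameTab_s_352_358 c) (nameTab_s_358_364 c) (Nat.ble 358 c)
noncomputable def nameTab_s_365_367 (c : Nat) : Nat := @Bool.rec (fun _ => Nat) (nameTab_365) (nameTab_366) (Nat.ble 366 c)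
noncomputable def nameTab_s_364_367 (c : Nat) : Nat := @Bool.rec (fun _ => Nat) (nameTab_364) (nameTab_s_365_367 c) (Nat.ble 365 c)
noncomputable def nameTab_s_368_370 (c : Nat) : Nat := @Bool.rec (fun _ => Nat) (nameTab_368) (nameTab_369) (Nat.ble 369 c)
noncomputable def nameTab_s_367_370 (c : Nat) : Nat := @Bool.rec (fun _ => Nat) (nameTab_367) (nameTab_s_368_370 c) (Nat.ble 368 c)
noncomputable def nameTab_s_364_370 (c : Nat) : Nat := @Bool.rec (fun _ => Nat) (nameTab_s_364_367 c) (nameTab_s_367_370 c) (Nat.ble 367 c)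
noncomputable def nameTab_s_371_373 (c : Nat) : Nat := @Bool.rec (fun _ => Nat) (nameTab_371) (nameTab_372) (Nat.ble 372 c)
noncomputable def nameTab_s_370_373 (c : Nat) : Nat := @Bool.rec (fun _ => Nat) (nameTab_370) (nameTab_s_371_373 c) (Nat.ble 371 c)
noncomputable def nameTab_s_374_376 (c : Nat) : Nat := @Bool.rec (fun _ => Nat) (nameTab_374) (nameTab_375) (Nat.ble 375 c)
noncomputable def nameTab_s_373_376 (c : Nat) : Nat := @Bool.rec (fun _ => Nat) (nameTab_373) (nameTab_s_374_376 c) (Nat.ble 374 c)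
noncomputable def nameTab_s_370_376 (c : Nat) : Nat := @Bool.rec (fun _ => Nat) (nameTab_s_370_373 c) (nameTab_s_373_376 c) (Nat.ble 373 c)
noncomputable def nameTab_s_364_376 (c : Nat) : Nat := @Bool.rec (fun _ => Nat) (nameTab_s_364_370 c) (nameTab_s_370_376 c) (Nat.ble 370 c)
noncomputable def nameTab_s_352_376 (c : Nat) : Nat := @Bool.rec (fun _ => Nat) (nameTab_s_352_364 c) (nameTab_s_364_376 c) (Nat.ble 364 c)
noncomputable def nameTab_s_329_376 (c : Nat) : Nat := @Bool.rec (fun _ => Nat) (nameTab_s_329_352 c) (nameTab_s_352_376 c) (Nat.ble 352 c)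
noncomputable def nameTab_s_282_376 (c : Nat) : Nat := @Bool.rec (fun _ => Nat) (nameTab_s_282_329 c) (nameTab_s_329_376 c) (Nat.ble 329 c)
noncomputable def nameTab_s_188_376 (c : Nat) : Nat := @Bool.rec (fun _ => Nat) (nameTab_s_188_282 c) (nameTab_s_282_376 c) (Nat.ble 282 c)
noncomputable def nameTab_s_0_376 (c : Nat) : Nat := @Bool.rec (fun _ => Nat) (nameTab_s_0_188 c) (nameTab_s_188_376 c) (Nat.ble 188 c)
noncomputable def nameTab (i : Nat) : Nat := rdw 21 2097151 (nameTab_s_0_376 (Nat.shiftRight i 12)) (Nat.land i 4095)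
noncomputable def col0_s_0_2 (c : Nat) : Nat := @Bool.rec (fun _ => Nat) (col0_0) (col0_1) (Nat.ble 1 c)
noncomputable def col0_s_3_5 (c : Nat) : Nat := @Bool.rec (fun _ => Nat) (col0_3) (col0_4) (Nat.ble 4 c)
noncomputable def col0_s_2_5 (c : Nat) : Nat := @Bool.rec (fun _ => Nat) (col0_2) (col0_s_3_5 c) (Nat.ble 3 c)
noncomputable def col0_s_0_5 (c : Nat) : Nat := @Bool.rec (fun _ => Nat) (col0_s_0_2 c) (col0_s_2_5 c) (Nat.ble 2 c)
noncomputable def col0_s_6_8 (c : Nat) : Nat := @Bool.rec (fun _ => Nat) (col0_6) (col0_7) (Nat.ble 7 c)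
noncomputable def col0_s_5_8 (c : Nat) : Nat := @Bool.rec (fun _ => Nat) (col0_5) (col0_s_6_8 c) (Nat.ble 6 c)
noncomputable def col0_s_9_11 (c : Nat) : Nat := @Bool.rec (fun _ => Nat) (col0_9) (col0_10) (Nat.ble 10 c)
noncomputable def col0_s_8_11 (c : Nat) : Nat := @Bool.rec (fun _ => Nat) (col0_8) (col0_s_9_11 c) (Nat.ble 9 c)
noncomputable def col0_s_5_11 (c : Nat) : Nat := @Bool.rec (fun _ => Nat) (col0_s_5_8 c) (col0_s_8_11 c) (Nat.ble 8 c)
noncomputable def col0_s_0_11 (c : Nat) : Nat := @Bool.rec (fun _ => Nat) (col0_s_0_5 c) (col0_s_5_11 c) (Nat.ble 5 c)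
noncomputable def col0_s_12_14 (c : Nat) : Nat := @Bool.rec (fun _ => Nat) (col0_12) (col0_13) (Nat.ble 13 c)
noncomputable def col0_s_11_14 (c : Nat) : Nat := @Bool.rec (fun _ => Nat) (col0_11) (col0_s_12_14 c) (Nat.ble 12 c)
noncomputable def col0_s_15_17 (c : Nat) : Nat := @Bool.rec (fun _ => Nat) (col0_15) (col0_16) (Nat.ble 16 c)
noncomputable def col0_s_14_17 (c : Nat) : Nat := @Bool.rec (fun _ => Nat) (col0_14) (col0_s_15_17 c) (Nat.ble 15 c)
noncomputable def col0_s_11_17 (c : Nat) : Nat := @Bool.rec (fun _ => Nat) (col0_s_11_14 c) (col0_s_14_17 c) (Nat.ble 14 c)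
noncomputable def col0_s_18_20 (c : Nat) : Nat := @Bool.rec (fun _ => Nat) (col0_18) (col0_19) (Nat.ble 19 c)
noncomputable def col0_s_17_20 (c : Nat) : Nat := @Bool.rec (fun _ => Nat) (col0_17) (col0_s_18_20 c) (Nat.ble 18 c)
noncomputable def col0_s_21_23 (c : Nat) : Nat := @Bool.rec (fun _ => Nat) (col0_21) (col0_22) (Nat.ble 22 c)
noncomputable def col0_s_20_23 (c : Nat) : Nat := @Bool.rec (fun _ => Nat) (col0_20) (col0_s_21_23 c) (Nat.ble 21 c)
noncomputable def col0_s_17_23 (c : Nat) : Nat := @Bool.rec (fun _ => Nat) (col0_s_17_20 c) (col0_s_20_23 c) (Nat.ble 20 c)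
noncomputable def col0_s_11_23 (c : Nat) : Nat := @Bool.rec (fun _ => Nat) (col0_s_11_17 c) (col0_s_17_23 c) (Nat.ble 17 c)
noncomputable def col0_s_0_23 (c : Nat) : Nat := @Bool.rec (fun _ => Nat) (col0_s_0_11 c) (col0_s_11_23 c) (Nat.ble 11 c)
noncomputable def col0_s_24_26 (c : Nat) : Nat := @Bool.rec (fun _ => Nat) (col0_24) (col0_25) (Nat.ble 25 c)
noncomputable def col0_s_23_26 (c : Nat) : Nat := @Bool.rec (fun _ => Nat) (col0_23) (col0_s_24_26 c) (Nat.ble 24 c)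
noncomputable def col0_s_27_29 (c : Nat) : Nat := @Bool.rec (fun _ => Nat) (col0_27) (col0_28) (Nat.ble 28 c)
noncomputable def col0_s_26_29 (c : Nat) : Nat := @Bool.rec (fun _ => Nat) (col0_26) (col0_s_27_29 c) (Nat.ble 27 c)
noncomputable def col0_s_23_29 (c : Nat) : Nat := @Bool.rec (fun _ => Nat) (col0_s_23_26 c) (col0_s_26_29 c) (Nat.ble 26 c)
noncomputable def col0_s_30_32 (c : Nat) : Nat := @Bool.rec (fun _ => Nat) (col0_30) (col0_31) (Nat.ble 31 c)
noncomputable def col0_s_29_32 (c : Nat) : Nat := @Bool.rec (fun _ => Nat) (col0_29) (col0_s_30_32 c) (Nat.ble 30 c)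
noncomputable def col0_s_33_35 (c : Nat) : Nat := @Bool.rec (fun _ => Nat) (col0_33) (col0_34) (Nat.ble 34 c)
noncomputable def col0_s_32_35 (c : Nat) : Nat := @Bool.rec (fun _ => Nat) (col0_32) (col0_s_33_35 c) (Nat.ble 33 c)
noncomputable def col0_s_29_35 (c : Nat) : Nat := @Bool.rec (fun _ => Nat) (col0_s_29_32 c) (col0_s_32_35 c) (Nat.ble 32 c)
noncomputable def col0_s_23_35 (c : Nat) : Nat := @Bool.rec (fun _ => Nat) (col0_s_23_29 c) (col0_s_29_35 c) (Nat.ble 29 c)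
noncomputable def col0_s_36_38 (c : Nat) : Nat := @Bool.rec (fun _ => Nat) (col0_36) (col0_37) (Nat.ble 37 c)
noncomputable def col0_s_35_38 (c : Nat) : Nat := @Bool.rec (fun _ => Nat) (col0_35) (col0_s_36_38 c) (Nat.ble 36 c)
noncomputable def col0_s_39_41 (c : Nat) : Nat := @Bool.rec (fun _ => Nat) (col0_39) (col0_40) (Nat.ble 40 c)
noncomputable def col0_s_38_41 (c : Nat) : Nat := @Bool.rec (fun _ => Nat) (col0_38) (col0_s_39_41 c) (Nat.ble 39 c)
noncomputable def col0_s_35_41 (c : Nat) : Nat := @Bool.rec (fun _ => Nat) (col0_s_35_38 c) (col0_s_38_41 c) (Nat.ble 38 c)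
noncomputable def col0_s_42_44 (c : Nat) : Nat := @Bool.rec (fun _ => Nat) (col0_42) (col0_43) (Nat.ble 43 c)
noncomputable def col0_s_41_44 (c : Nat) : Nat := @Bool.rec (fun _ => Nat) (col0_41) (col0_s_42_44 c) (Nat.ble 42 c)
noncomputable def col0_s_45_47 (c : Nat) : Nat := @Bool.rec (fun _ => Nat) (col0_45) (col0_46) (Nat.ble 46 c)
noncomputable def col0_s_44_47 (c : Nat) : Nat := @Bool.rec (fun _ => Nat) (col0_44) (col0_s_45_47 c) (Nat.ble 45 c)
noncomputable def col0_s_41_47 (c : Nat) : Nat := @Bool.rec (fun _ => Nat) (col0_s_41_44 c) (col0_s_44_47 c) (Nat.ble 44 c)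
noncomputable def col0_s_35_47 (c : Nat) : Nat := @Bool.rec (fun _ => Nat) (col0_s_35_41 c) (col0_s_41_47 c) (Nat.ble 41 c)
noncomputable def col0_s_23_47 (c : Nat) : Nat := @Bool.rec (fun _ => Nat) (col0_s_23_35 c) (col0_s_35_47 c) (Nat.ble 35 c)
noncomputable def col0_s_0_47 (c : Nat) : Nat := @Bool.rec (fun _ => Nat) (col0_s_0_23 c) (col0_s_23_47 c) (Nat.ble 23 c)
noncomputable def col0_s_47_49 (c : Nat) : Nat := @Bool.rec (fun _ => Nat) (col0_47) (col0_48) (Nat.ble 48 c)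
noncomputable def col0_s_50_52 (c : Nat) : Nat := @Bool.rec (fun _ => Nat) (col0_50) (col0_51) (Nat.ble 51 c)
noncomputable def col0_s_49_52 (c : Nat) : Nat := @Bool.rec (fun _ => Nat) (col0_49) (col0_s_50_52 c) (Nat.ble 50 c)
noncomputable def col0_s_47_52 (c : Nat) : Nat := @Bool.rec (fun _ => Nat) (col0_s_47_49 c) (col0_s_49_52 c) (Nat.ble 49 c)
noncomputable def col0_s_53_55 (c : Nat) : Nat := @Bool.rec (fun _ => Nat) (col0_53) (col0_54) (Nat.ble 54 c)
noncomputable def col0_s_52_55 (c : Nat) : Nat := @Bool.rec (fun _ => Nat) (col0_52) (col0_s_53_55 c) (Nat.ble 53 c)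
noncomputable def col0_s_56_58 (c : Nat) : Nat := @Bool.rec (fun _ => Nat) (col0_56) (col0_57) (Nat.ble 57 c)
noncomputable def col0_s_55_58 (c : Nat) : Nat := @Bool.rec (fun _ => Nat) (col0_55) (col0_s_56_58 c) (Nat.ble 56 c)
noncomputable def col0_s_52_58 (c : Nat) : Nat := @Bool.rec (fun _ => Nat) (col0_s_52_55 c) (col0_s_55_58 c) (Nat.ble 55 c)
noncomputable def col0_s_47_58 (c : Nat) : Nat := @Bool.rec (fun _ => Nat) (col0_s_47_52 c) (col0_s_52_58 c) (Nat.ble 52 c)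
noncomputable def col0_s_59_61 (c : Nat) : Nat := @Bool.rec (fun _ => Nat) (col0_59) (col0_60) (Nat.ble 60 c)
noncomputable def col0_s_58_61 (c : Nat) : Nat := @Bool.rec (fun _ => Nat) (col0_58) (col0_s_59_61 c) (Nat.ble 59 c)
noncomputable def col0_s_62_64 (c : Nat) : Nat := @Bool.rec (fun _ => Nat) (col0_62) (col0_63) (Nat.ble 63 c)
noncomputable def col0_s_61_64 (c : Nat) : Nat := @Bool.rec (fun _ => Nat) (col0_61) (col0_s_62_64 c) (Nat.ble 62 c)
noncomputable def col0_s_58_64 (c : Nat) : Nat := @Bool.rec (fun _ => Nat) (col0_s_58_61 c) (col0_s_61_64 c) (Nat.ble 61 c)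
noncomputable def col0_s_65_67 (c : Nat) : Nat := @Bool.rec (fun _ => Nat) (col0_65) (col0_66) (Nat.ble 66 c)
noncomputable def col0_s_64_67 (c : Nat) : Nat := @Bool.rec (fun _ => Nat) (col0_64) (col0_s_65_67 c) (Nat.ble 65 c)
noncomputable def col0_s_68_70 (c : Nat) : Nat := @Bool.rec (fun _ => Nat) (col0_68) (col0_69) (Nat.ble 69 c)
noncomputable def col0_s_67_70 (c : Nat) : Nat := @Bool.rec (fun _ => Nat) (col0_67) (col0_s_68_70 c) (Nat.ble 68 c)
noncomputable def col0_s_64_70 (c : Nat) : Nat := @Bool.rec (fun _ => Nat) (col0_s_64_67 c) (col0_s_67_70 c) (Nat.ble 67 c)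
noncomputable def col0_s_58_70 (c : Nat) : Nat := @Bool.rec (fun _ => Nat) (col0_s_58_64 c) (col0_s_64_70 c) (Nat.ble 64 c)
noncomputable def col0_s_47_70 (c : Nat) : Nat := @Bool.rec (fun _ => Nat) (col0_s_47_58 c) (col0_s_58_70 c) (Nat.ble 58 c)
noncomputable def col0_s_71_73 (c : Nat) : Nat := @Bool.rec (fun _ => Nat) (col0_71) (col0_72) (Nat.ble 72 c)
noncomputable def col0_s_70_73 (c : Nat) : Nat := @Bool.rec (fun _ => Nat) (col0_70) (col0_s_71_73 c) (Nat.ble 71 c)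
noncomputable def col0_s_74_76 (c : Nat) : Nat := @Bool.rec (fun _ => Nat) (col0_74) (col0_75) (Nat.ble 75 c)
noncomputable def col0_s_73_76 (c : Nat) : Nat := @Bool.rec (fun _ => Nat) (col0_73) (col0_s_74_76 c) (Nat.ble 74 c)
noncomputable def col0_s_70_76 (c : Nat) : Nat := @Bool.rec (fun _ => Nat) (col0_s_70_73 c) (col0_s_73_76 c) (Nat.ble 73 c)
noncomputable def col0_s_77_79 (c : Nat) : Nat := @Bool.rec (fun _ => Nat) (col0_77) (col0_78) (Nat.ble 78 c)
noncomputable def col0_s_76_79 (c : Nat) : Nat := @Bool.rec (fun _ => Nat) (col0_76) (col0_s_77_79 c) (Nat.ble 77 c)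
noncomputable def col0_s_80_82 (c : Nat) : Nat := @Bool.rec (fun _ => Nat) (col0_80) (col0_81) (Nat.ble 81 c)
noncomputable def col0_s_79_82 (c : Nat) : Nat := @Bool.rec (fun _ => Nat) (col0_79) (col0_s_80_82 c) (Nat.ble 80 c)
noncomputable def col0_s_76_82 (c : Nat) : Nat := @Bool.rec (fun _ => Nat) (col0_s_76_79 c) (col0_s_79_82 c) (Nat.ble 79 c)
noncomputable def col0_s_70_82 (c : Nat) : Nat := @Bool.rec (fun _ => Nat) (col0_s_70_76 c) (col0_s_76_82 c) (Nat.ble 76 c)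
noncomputable def col0_s_83_85 (c : Nat) : Nat := @Bool.rec (fun _ => Nat) (col0_83) (col0_84) (Nat.ble 84 c)
noncomputable def col0_s_82_85 (c : Nat) : Nat := @Bool.rec (fun _ => Nat) (col0_82) (col0_s_83_85 c) (Nat.ble 83 c)
noncomputable def col0_s_86_88 (c : Nat) : Nat := @Bool.rec (fun _ => Nat) (col0_86) (col0_87) (Nat.ble 87 c)
noncomputable def col0_s_85_88 (c : Nat) : Nat := @Bool.rec (fun _ => Nat) (col0_85) (col0_s_86_88 c) (Nat.ble 86 c)
noncomputable def col0_s_82_88 (c : Nat) : Nat := @Bool.rec (fun _ => Nat) (col0_s_82_85 c) (col0_s_85_88 c) (Nat.ble 85 c)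
noncomputable def col0_s_89_91 (c : Nat) : Nat := @Bool.rec (fun _ => Nat) (col0_89) (col0_90) (Nat.ble 90 c)
noncomputable def col0_s_88_91 (c : Nat) : Nat := @Bool.rec (fun _ => Nat) (col0_88) (col0_s_89_91 c) (Nat.ble 89 c)
noncomputable def col0_s_92_94 (c : Nat) : Nat := @Bool.rec (fun _ => Nat) (col0_92) (col0_93) (Nat.ble 93 c)
noncomputable def col0_s_91_94 (c : Nat) : Nat := @Bool.rec (fun _ => Nat) (col0_91) (col0_s_92_94 c) (Nat.ble 92 c)
noncomputable def col0_s_88_94 (c : Nat) : Nat := @Bool.rec (fun _ => Nat) (col0_s_88_91 c) (col0_s_91_94 c) (Nat.ble 91 c)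
noncomputable def col0_s_82_94 (c : Nat) : Nat := @Bool.rec (fun _ => Nat) (col0_s_82_88 c) (col0_s_88_94 c) (Nat.ble 88 c)
noncomputable def col0_s_70_94 (c : Nat) : Nat := @Bool.rec (fun _ => Nat) (col0_s_70_82 c) (col0_s_82_94 c) (Nat.ble 82 c)
noncomputable def col0_s_47_94 (c : Nat) : Nat := @Bool.rec (fun _ => Nat) (col0_s_47_70 c) (col0_s_70_94 c) (Nat.ble 70 c)
noncomputable def col0_s_0_94 (c : Nat) : Nat := @Bool.rec (fun _ => Nat) (col0_s_0_47 c) (col0_s_47_94 c) (Nat.ble 47 c)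
noncomputable def col0_s_94_96 (c : Nat) : Nat := @Bool.rec (fun _ => Nat) (col0_94) (col0_95) (Nat.ble 95 c)
noncomputable def col0_s_97_99 (c : Nat) : Nat := @Bool.rec (fun _ => Nat) (col0_97) (col0_98) (Nat.ble 98 c)
noncomputable def col0_s_96_99 (c : Nat) : Nat := @Bool.rec (fun _ => Nat) (col0_96) (col0_s_97_99 c) (Nat.ble 97 c)
noncomputable def col0_s_94_99 (c : Nat) : Nat := @Bool.rec (fun _ => Nat) (col0_s_94_96 c) (col0_s_96_99 c) (Nat.ble 96 c)
noncomputable def col0_s_100_102 (c : Nat) : Nat := @Bool.rec (fun _ => Nat) (col0_100) (col0_101) (Nat.ble 101 c)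
noncomputable def col0_s_99_102 (c : Nat) : Nat := @Bool.rec (fun _ => Nat) (col0_99) (col0_s_100_102 c) (Nat.ble 100 c)
noncomputable def col0_s_103_105 (c : Nat) : Nat := @Bool.rec (fun _ => Nat) (col0_103) (col0_104) (Nat.ble 104 c)
noncomputable def col0_s_102_105 (c : Nat) : Nat := @Bool.rec (fun _ => Nat) (col0_102) (col0_s_103_105 c) (Nat.ble 103 c)
noncomputable def col0_s_99_105 (c : Nat) : Nat := @Bool.rec (fun _ => Nat) (col0_s_99_102 c) (col0_s_102_105 c) (Nat.ble 102 c)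
noncomputable def col0_s_94_105 (c : Nat) : Nat := @Bool.rec (fun _ => Nat) (col0_s_94_99 c) (col0_s_99_105 c) (Nat.ble 99 c)
noncomputable def col0_s_106_108 (c : Nat) : Nat := @Bool.rec (fun _ => Nat) (col0_106) (col0_107) (Nat.ble 107 c)
noncomputable def col0_s_105_108 (c : Nat) : Nat := @Bool.rec (fun _ => Nat) (col0_105) (col0_s_106_108 c) (Nat.ble 106 c)
noncomputable def col0_s_109_111 (c : Nat) : Nat := @Bool.rec (fun _ => Nat) (col0_109) (col0_110) (Nat.ble 110 c)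
noncomputable def col0_s_108_111 (c : Nat) : Nat := @Bool.rec (fun _ => Nat) (col0_108) (col0_s_109_111 c) (Nat.ble 109 c)
noncomputable def col0_s_105_111 (c : Nat) : Nat := @Bool.rec (fun _ => Nat) (col0_s_105_108 c) (col0_s_108_111 c) (Nat.ble 108 c)
noncomputable def col0_s_112_114 (c : Nat) : Nat := @Bool.rec (fun _ => Nat) (col0_112) (col0_113) (Nat.ble 113 c)
noncomputable def col0_s_111_114 (c : Nat) : Nat := @Bool.rec (fun _ => Nat) (col0_111) (col0_s_112_114 c) (Nat.ble 112 c)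
noncomputable def col0_s_115_117 (c : Nat) : Nat := @Bool.rec (fun _ => Nat) (col0_115) (col0_116) (Nat.ble 116 c)
noncomputable def col0_s_114_117 (c : Nat) : Nat := @Bool.rec (fun _ => Nat) (col0_114) (col0_s_115_117 c) (Nat.ble 115 c)
noncomputable def col0_s_111_117 (c : Nat) : Nat := @Bool.rec (fun _ => Nat) (col0_s_111_114 c) (col0_s_114_117 c) (Nat.ble 114 c)
noncomputable def col0_s_105_117 (c : Nat) : Nat := @Bool.rec (fun _ => Nat) (col0_s_105_111 c) (col0_s_111_117 c) (Nat.ble 111 c)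
noncomputable def col0_s_94_117 (c : Nat) : Nat := @Bool.rec (fun _ => Nat) (col0_s_94_105 c) (col0_s_105_117 c) (Nat.ble 105 c)
noncomputable def col0_s_118_120 (c : Nat) : Nat := @Bool.rec (fun _ => Nat) (col0_118) (col0_119) (Nat.ble 119 c)
noncomputable def col0_s_117_120 (c : Nat) : Nat := @Bool.rec (fun _ => Nat) (col0_117) (col0_s_118_120 c) (Nat.ble 118 c)
noncomputable def col0_s_121_123 (c : Nat) : Nat := @Bool.rec (fun _ => Nat) (col0_121) (col0_122) (Nat.ble 122 c)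
noncomputable def col0_s_120_123 (c : Nat) : Nat := @Bool.rec (fun _ => Nat) (col0_120) (col0_s_121_123 c) (Nat.ble 121 c)
noncomputable def col0_s_117_123 (c : Nat) : Nat := @Bool.rec (fun _ => Nat) (col0_s_117_120 c) (col0_s_120_123 c) (Nat.ble 120 c)
noncomputable def col0_s_124_126 (c : Nat) : Nat := @Bool.rec (fun _ => Nat) (col0_124) (col0_125) (Nat.ble 125 c)
noncomputable def col0_s_123_126 (c : Nat) : Nat := @Bool.rec (fun _ => Nat) (col0_123) (col0_s_124_126 c) (Nat.ble 124 c)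
noncomputable def col0_s_127_129 (c : Nat) : Nat := @Bool.rec (fun _ => Nat) (col0_127) (col0_128) (Nat.ble 128 c)
noncomputable def col0_s_126_129 (c : Nat) : Nat := @Bool.rec (fun _ => Nat) (col0_126) (col0_s_127_129 c) (Nat.ble 127 c)
noncomputable def col0_s_123_129 (c : Nat) : Nat := @Bool.rec (fun _ => Nat) (col0_s_123_126 c) (col0_s_126_129 c) (Nat.ble 126 c)
noncomputable def col0_s_117_129 (c : Nat) : Nat := @Bool.rec (fun _ => Nat) (col0_s_117_123 c) (col0_s_123_129 c) (Nat.ble 123 c)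
noncomputable def col0_s_130_132 (c : Nat) : Nat := @Bool.rec (fun _ => Nat) (col0_130) (col0_131) (Nat.ble 131 c)
noncomputable def col0_s_129_132 (c : Nat) : Nat := @Bool.rec (fun _ => Nat) (col0_129) (col0_s_130_132 c) (Nat.ble 130 c)
noncomputable def col0_s_133_135 (c : Nat) : Nat := @Bool.rec (fun _ => Nat) (col0_133) (col0_134) (Nat.ble 134 c)
noncomputable def col0_s_132_135 (c : Nat) : Nat := @Bool.rec (fun _ => Nat) (col0_132) (col0_s_133_135 c) (Nat.ble 133 c)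
noncomputable def col0_s_129_135 (c : Nat) : Nat := @Bool.rec (fun _ => Nat) (col0_s_129_132 c) (col0_s_132_135 c) (Nat.ble 132 c)
noncomputable def col0_s_136_138 (c : Nat) : Nat := @Bool.rec (fun _ => Nat) (col0_136) (col0_137) (Nat.ble 137 c)
noncomputable def col0_s_135_138 (c : Nat) : Nat := @Bool.rec (fun _ => Nat) (col0_135) (col0_s_136_138 c) (Nat.ble 136 c)
noncomputable def col0_s_139_141 (c : Nat) : Nat := @Bool.rec (fun _ => Nat) (col0_139) (col0_140) (Nat.ble 140 c)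
noncomputable def col0_s_138_141 (c : Nat) : Nat := @Bool.rec (fun _ => Nat) (col0_138) (col0_s_139_141 c) (Nat.ble 139 c)
noncomputable def col0_s_135_141 (c : Nat) : Nat := @Bool.rec (fun _ => Nat) (col0_s_135_138 c) (col0_s_138_141 c) (Nat.ble 138 c)
noncomputable def col0_s_129_141 (c : Nat) : Nat := @Bool.rec (fun _ => Nat) (col0_s_129_135 c) (col0_s_135_141 c) (Nat.ble 135 c)
noncomputable def col0_s_117_141 (c : Nat) : Nat := @Bool.rec (fun _ => Nat) (col0_s_117_129 c) (col0_s_129_141 c) (Nat.ble 129 c)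
noncomputable def col0_s_94_141 (c : Nat) : Nat := @Bool.rec (fun _ => Nat) (col0_s_94_117 c) (col0_s_117_141 c) (Nat.ble 117 c)
noncomputable def col0_s_141_143 (c : Nat) : Nat := @Bool.rec (fun _ => Nat) (col0_141) (col0_142) (Nat.ble 142 c)
noncomputable def col0_s_144_146 (c : Nat) : Nat := @Bool.rec (fun _ => Nat) (col0_144) (col0_145) (Nat.ble 145 c)
noncomputable def col0_s_143_146 (c : Nat) : Nat := @Bool.rec (fun _ => Nat) (col0_143) (col0_s_144_146 c) (Nat.ble 144 c)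
noncomputable def col0_s_141_146 (c : Nat) : Nat := @Bool.rec (fun _ => Nat) (col0_s_141_143 c) (col0_s_143_146 c) (Nat.ble 143 c)
noncomputable def col0_s_147_149 (c : Nat) : Nat := @Bool.rec (fun _ => Nat) (col0_147) (col0_148) (Nat.ble 148 c)
noncomputable def col0_s_146_149 (c : Nat) : Nat := @Bool.rec (fun _ => Nat) (col0_146) (col0_s_147_149 c) (Nat.ble 147 c)
noncomputable def col0_s_150_152 (c : Nat) : Nat := @Bool.rec (fun _ => Nat) (col0_150) (col0_151) (Nat.ble 151 c)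
noncomputable def col0_s_149_152 (c : Nat) : Nat := @Bool.rec (fun _ => Nat) (col0_149) (col0_s_150_152 c) (Nat.ble 150 c)
noncomputable def col0_s_146_152 (c : Nat) : Nat := @Bool.rec (fun _ => Nat) (col0_s_146_149 c) (col0_s_149_152 c) (Nat.ble 149 c)
noncomputable def col0_s_141_152 (c : Nat) : Nat := @Bool.rec (fun _ => Nat) (col0_s_141_146 c) (col0_s_146_152 c) (Nat.ble 146 c)
noncomputable def col0_s_153_155 (c : Nat) : Nat := @Bool.rec (fun _ => Nat) (col0_153) (col0_154) (Nat.ble 154 c)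
noncomputable def col0_s_152_155 (c : Nat) : Nat := @Bool.rec (fun _ => Nat) (col0_152) (col0_s_153_155 c) (Nat.ble 153 c)
noncomputable def col0_s_156_158 (c : Nat) : Nat := @Bool.rec (fun _ => Nat) (col0_156) (col0_157) (Nat.ble 157 c)
noncomputable def col0_s_155_158 (c : Nat) : Nat := @Bool.rec (fun _ => Nat) (col0_155) (col0_s_156_158 c) (Nat.ble 156 c)
noncomputable def col0_s_152_158 (c : Nat) : Nat := @Bool.rec (fun _ => Nat) (col0_s_152_155 c) (col0_s_155_158 c) (Nat.ble 155 c)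
noncomputable def col0_s_159_161 (c : Nat) : Nat := @Bool.rec (fun _ => Nat) (col0_159) (col0_160) (Nat.ble 160 c)
noncomputable def col0_s_158_161 (c : Nat) : Nat := @Bool.rec (fun _ => Nat) (col0_158) (col0_s_159_161 c) (Nat.ble 159 c)
noncomputable def col0_s_162_164 (c : Nat) : Nat := @Bool.rec (fun _ => Nat) (col0_162) (col0_163) (Nat.ble 163 c)
noncomputable def col0_s_161_164 (c : Nat) : Nat := @Bool.rec (fun _ => Nat) (col0_161) (col0_s_162_164 c) (Nat.ble 162 c)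
noncomputable def col0_s_158_164 (c : Nat) : Nat := @Bool.rec (fun _ => Nat) (col0_s_158_161 c) (col0_s_161_164 c) (Nat.ble 161 c)
noncomputable def col0_s_152_164 (c : Nat) : Nat := @Bool.rec (fun _ => Nat) (col0_s_152_158 c) (col0_s_158_164 c) (Nat.ble 158 c)
noncomputable def col0_s_141_164 (c : Nat) : Nat := @Bool.rec (fun _ => Nat) (col0_s_141_152 c) (col0_s_152_164 c) (Nat.ble 152 c)
noncomputable def col0_s_165_167 (c : Nat) : Nat := @Bool.rec (fun _ => Nat) (col0_165) (col0_166) (Nat.ble 166 c)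
noncomputable def col0_s_164_167 (c : Nat) : Nat := @Bool.rec (fun _ => Nat) (col0_164) (col0_s_165_167 c) (Nat.ble 165 c)
noncomputable def col0_s_168_170 (c : Nat) : Nat := @Bool.rec (fun _ => Nat) (col0_168) (col0_169) (Nat.ble 169 c)
noncomputable def col0_s_167_170 (c : Nat) : Nat := @Bool.rec (fun _ => Nat) (col0_167) (col0_s_168_170 c) (Nat.ble 168 c)
noncomputable def col0_s_164_170 (c : Nat) : Nat := @Bool.rec (fun _ => Nat) (col0_s_164_167 c) (col0_s_167_170 c) (Nat.ble 167 c)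
noncomputable def col0_s_171_173 (c : Nat) : Nat := @Bool.rec (fun _ => Nat) (col0_171) (col0_172) (Nat.ble 172 c)
noncomputable def col0_s_170_173 (c : Nat) : Nat := @Bool.rec (fun _ => Nat) (col0_170) (col0_s_171_173 c) (Nat.ble 171 c)
noncomputable def col0_s_174_176 (c : Nat) : Nat := @Bool.rec (fun _ => Nat) (col0_174) (col0_175) (Nat.ble 175 c)
noncomputable def col0_s_173_176 (c : Nat) : Nat := @Bool.rec (fun _ => Nat) (col0_173) (col0_s_174_176 c) (Nat.ble 174 c)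
noncomputable def col0_s_170_176 (c : Nat) : Nat := @Bool.rec (fun _ => Nat) (col0_s_170_173 c) (col0_s_173_176 c) (Nat.ble 173 c)
noncomputable def col0_s_164_176 (c : Nat) : Nat := @Bool.rec (fun _ => Nat) (col0_s_164_170 c) (col0_s_170_176 c) (Nat.ble 170 c)
noncomputable def col0_s_177_179 (c : Nat) : Nat := @Bool.rec (fun _ => Nat) (col0_177) (col0_178) (Nat.ble 178 c)
noncomputable def col0_s_176_179 (c : Nat) : Nat := @Bool.rec (fun _ => Nat) (col0_176) (col0_s_177_179 c) (Nat.ble 177 c)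
noncomputable def col0_s_180_182 (c : Nat) : Nat := @Bool.rec (fun _ => Nat) (col0_180) (col0_181) (Nat.ble 181 c)
noncomputable def col0_s_179_182 (c : Nat) : Nat := @Bool.rec (fun _ => Nat) (col0_179) (col0_s_180_182 c) (Nat.ble 180 c)
noncomputable def col0_s_176_182 (c : Nat) : Nat := @Bool.rec (fun _ => Nat) (col0_s_176_179 c) (col0_s_179_182 c) (Nat.ble 179 c)
noncomputable def col0_s_183_185 (c : Nat) : Nat := @Bool.rec (fun _ => Nat) (col0_183) (col0_184) (Nat.ble 184 c)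
noncomputable def col0_s_182_185 (c : Nat) : Nat := @Bool.rec (fun _ => Nat) (col0_182) (col0_s_183_185 c) (Nat.ble 183 c)
noncomputable def col0_s_186_188 (c : Nat) : Nat := @Bool.rec (fun _ => Nat) (col0_186) (col0_187) (Nat.ble 187 c)
noncomputable def col0_s_185_188 (c : Nat) : Nat := @Bool.rec (fun _ => Nat) (col0_185) (col0_s_186_188 c) (Nat.ble 186 c)
noncomputable def col0_s_182_188 (c : Nat) : Nat := @Bool.rec (fun _ => Nat) (col0_s_182_185 c) (col0_s_185_188 c) (Nat.ble 185 c)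
noncomputable def col0_s_176_188 (c : Nat) : Nat := @Bool.rec (fun _ => Nat) (col0_s_176_182 c) (col0_s_182_188 c) (Nat.ble 182 c)
noncomputable def col0_s_164_188 (c : Nat) : Nat := @Bool.rec (fun _ => Nat) (col0_s_164_176 c) (col0_s_176_188 c) (Nat.ble 176 c)
noncomputable def col0_s_141_188 (c : Nat) : Nat := @Bool.rec (fun _ => Nat) (col0_s_141_164 c) (col0_s_164_188 c) (Nat.ble 164 c)
noncomputable def col0_s_94_188 (c : Nat) : Nat := @Bool.rec (fun _ => Nat) (col0_s_94_141 c) (col0_s_141_188 c) (Nat.ble 141 c)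
noncomputable def col0_s_0_188 (c : Nat) : Nat := @Bool.rec (fun _ => Nat) (col0_s_0_94 c) (col0_s_94_188 c) (Nat.ble 94 c)
noncomputable def col0_s_188_190 (c : Nat) : Nat := @Bool.rec (fun _ => Nat) (col0_188) (col0_189) (Nat.ble 189 c)
noncomputable def col0_s_191_193 (c : Nat) : Nat := @Bool.rec (fun _ => Nat) (col0_191) (col0_192) (Nat.ble 192 c)
noncomputable def col0_s_190_193 (c : Nat) : Nat := @Bool.rec (fun _ => Nat) (col0_190) (col0_s_191_193 c) (Nat.ble 191 c)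
noncomputable def col0_s_188_193 (c : Nat) : Nat := @Bool.rec (fun _ => Nat) (col0_s_188_190 c) (col0_s_190_193 c) (Nat.ble 190 c)
noncomputable def col0_s_194_196 (c : Nat) : Nat := @Bool.rec (fun _ => Nat) (col0_194) (col0_195) (Nat.ble 195 c)
noncomputable def col0_s_193_196 (c : Nat) : Nat := @Bool.rec (fun _ => Nat) (col0_193) (col0_s_194_196 c) (Nat.ble 194 c)
noncomputable def col0_s_197_199 (c : Nat) : Nat := @Bool.rec (fun _ => Nat) (col0_197) (col0_198) (Nat.ble 198 c)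
noncomputable def col0_s_196_199 (c : Nat) : Nat := @Bool.rec (fun _ => Nat) (col0_196) (col0_s_197_199 c) (Nat.ble 197 c)
noncomputable def col0_s_193_199 (c : Nat) : Nat := @Bool.rec (fun _ => Nat) (col0_s_193_196 c) (col0_s_196_199 c) (Nat.ble 196 c)
noncomputable def col0_s_188_199 (c : Nat) : Nat := @Bool.rec (fun _ => Nat) (col0_s_188_193 c) (col0_s_193_199 c) (Nat.ble 193 c)
noncomputable def col0_s_200_202 (c : Nat) : Nat := @Bool.rec (fun _ => Nat) (col0_200) (col0_201) (Nat.ble 201 c)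
noncomputable def col0_s_199_202 (c : Nat) : Nat := @Bool.rec (fun _ => Nat) (col0_199) (col0_s_200_202 c) (Nat.ble 200 c)
noncomputable def col0_s_203_205 (c : Nat) : Nat := @Bool.rec (fun _ => Nat) (col0_203) (col0_204) (Nat.ble 204 c)
noncomputable def col0_s_202_205 (c : Nat) : Nat := @Bool.rec (fun _ => Nat) (col0_202) (col0_s_203_205 c) (Nat.ble 203 c)
noncomputable def col0_s_199_205 (c : Nat) : Nat := @Bool.rec (fun _ => Nat) (col0_s_199_202 c) (col0_s_202_205 c) (Nat.ble 202 c)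
noncomputable def col0_s_206_208 (c : Nat) : Nat := @Bool.rec (fun _ => Nat) (col0_206) (col0_207) (Nat.ble 207 c)
noncomputable def col0_s_205_208 (c : Nat) : Nat := @Bool.rec (fun _ => Nat) (col0_205) (col0_s_206_208 c) (Nat.ble 206 c)
noncomputable def col0_s_209_211 (c : Nat) : Nat := @Bool.rec (fun _ => Nat) (col0_209) (col0_210) (Nat.ble 210 c)
noncomputable def col0_s_208_211 (c : Nat) : Nat := @Bool.rec (fun _ => Nat) (col0_208) (col0_s_209_211 c) (Nat.ble 209 c)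
noncomputable def col0_s_205_211 (c : Nat) : Nat := @Bool.rec (fun _ => Nat) (col0_s_205_208 c) (col0_s_208_211 c) (Nat.ble 208 c)
noncomputable def col0_s_199_211 (c : Nat) : Nat := @Bool.rec (fun _ => Nat) (col0_s_199_205 c) (col0_s_205_211 c) (Nat.ble 205 c)
noncomputable def col0_s_188_211 (c : Nat) : Nat := @Bool.rec (fun _ => Nat) (col0_s_188_199 c) (col0_s_199_211 c) (Nat.ble 199 c)
noncomputable def col0_s_212_214 (c : Nat) : Nat := @Bool.rec (fun _ => Nat) (col0_212) (col0_213) (Nat.ble 213 c)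
noncomputable def col0_s_211_214 (c : Nat) : Nat := @Bool.rec (fun _ => Nat) (col0_211) (col0_s_212_214 c) (Nat.ble 212 c)
noncomputable def col0_s_215_217 (c : Nat) : Nat := @Bool.rec (fun _ => Nat) (col0_215) (col0_216) (Nat.ble 216 c)
noncomputable def col0_s_214_217 (c : Nat) : Nat := @Bool.rec (fun _ => Nat) (col0_214) (col0_s_215_217 c) (Nat.ble 215 c)
noncomputable def col0_s_211_217 (c : Nat) : Nat := @Bool.rec (fun _ => Nat) (col0_s_211_214 c) (col0_s_214_217 c) (Nat.ble 214 c)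
noncomputable def col0_s_218_220 (c : Nat) : Nat := @Bool.rec (fun _ => Nat) (col0_218) (col0_219) (Nat.ble 219 c)
noncomputable def col0_s_217_220 (c : Nat) : Nat := @Bool.rec (fun _ => Nat) (col0_217) (col0_s_218_220 c) (Nat.ble 218 c)
noncomputable def col0_s_221_223 (c : Nat) : Nat := @Bool.rec (fun _ => Nat) (col0_221) (col0_222) (Nat.ble 222 c)
noncomputable def col0_s_220_223 (c : Nat) : Nat := @Bool.rec (fun _ => Nat) (col0_220) (col0_s_221_223 c) (Nat.ble 221 c)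
noncomputable def col0_s_217_223 (c : Nat) : Nat := @Bool.rec (fun _ => Nat) (col0_s_217_220 c) (col0_s_220_223 c) (Nat.ble 220 c)
noncomputable def col0_s_211_223 (c : Nat) : Nat := @Bool.rec (fun _ => Nat) (col0_s_211_217 c) (col0_s_217_223 c) (Nat.ble 217 c)
noncomputable def col0_s_224_226 (c : Nat) : Nat := @Bool.rec (fun _ => Nat) (col0_224) (col0_225) (Nat.ble 225 c)
noncomputable def col0_s_223_226 (c : Nat) : Nat := @Bool.rec (fun _ => Nat) (col0_223) (col0_s_224_226 c) (Nat.ble 224 c)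
noncomputable def col0_s_227_229 (c : Nat) : Nat := @Bool.rec (fun _ => Nat) (col0_227) (col0_228) (Nat.ble 228 c)
noncomputable def col0_s_226_229 (c : Nat) : Nat := @Bool.rec (fun _ => Nat) (col0_226) (col0_s_227_229 c) (Nat.ble 227 c)
noncomputable def col0_s_223_229 (c : Nat) : Nat := @Bool.rec (fun _ => Nat) (col0_s_223_226 c) (col0_s_226_229 c) (Nat.ble 226 c)
noncomputable def col0_s_230_232 (c : Nat) : Nat := @Bool.rec (fun _ => Nat) (col0_230) (col0_231) (Nat.ble 231 c)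
noncomputable def col0_s_229_232 (c : Nat) : Nat := @Bool.rec (fun _ => Nat) (col0_229) (col0_s_230_232 c) (Nat.ble 230 c)
noncomputable def col0_s_233_235 (c : Nat) : Nat := @Bool.rec (fun _ => Nat) (col0_233) (col0_234) (Nat.ble 234 c)
noncomputable def col0_s_232_235 (c : Nat) : Nat := @Bool.rec (fun _ => Nat) (col0_232) (col0_s_233_235 c) (Nat.ble 233 c)
noncomputable def col0_s_229_235 (c : Nat) : Nat := @Bool.rec (fun _ => Nat) (col0_s_229_232 c) (col0_s_232_235 c) (Nat.ble 232 c)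
noncomputable def col0_s_223_235 (c : Nat) : Nat := @Bool.rec (fun _ => Nat) (col0_s_223_229 c) (col0_s_229_235 c) (Nat.ble 229 c)
noncomputable def col0_s_211_235 (c : Nat) : Nat := @Bool.rec (fun _ => Nat) (col0_s_211_223 c) (col0_s_223_235 c) (Nat.ble 223 c)
noncomputable def col0_s_188_235 (c : Nat) : Nat := @Bool.rec (fun _ => Nat) (col0_s_188_211 c) (col0_s_211_235 c) (Nat.ble 211 c)
noncomputable def col0_s_235_237 (c : Nat) : Nat := @Bool.rec (fun _ => Nat) (col0_235) (col0_236) (Nat.ble 236 c)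
noncomputable def col0_s_238_240 (c : Nat) : Nat := @Bool.rec (fun _ => Nat) (col0_238) (col0_239) (Nat.ble 239 c)
noncomputable def col0_s_237_240 (c : Nat) : Nat := @Bool.rec (fun _ => Nat) (col0_237) (col0_s_238_240 c) (Nat.ble 238 c)
noncomputable def col0_s_235_240 (c : Nat) : Nat := @Bool.rec (fun _ => Nat) (col0_s_235_237 c) (col0_s_237_240 c) (Nat.ble 237 c)
noncomputable def col0_s_241_243 (c : Nat) : Nat := @Bool.rec (fun _ => Nat) (col0_241) (col0_242) (Nat.ble 242 c)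
noncomputable def col0_s_240_243 (c : Nat) : Nat := @Bool.rec (fun _ => Nat) (col0_240) (col0_s_241_243 c) (Nat.ble 241 c)
noncomputable def col0_s_244_246 (c : Nat) : Nat := @Bool.rec (fun _ => Nat) (col0_244) (col0_245) (Nat.ble 245 c)
noncomputable def col0_s_243_246 (c : Nat) : Nat := @Bool.rec (fun _ => Nat) (col0_243) (col0_s_244_246 c) (Nat.ble 244 c)
noncomputable def col0_s_240_246 (c : Nat) : Nat := @Bool.rec (fun _ => Nat) (col0_s_240_243 c) (col0_s_243_246 c) (Nat.ble 243 c)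
noncomputable def col0_s_235_246 (c : Nat) : Nat := @Bool.rec (fun _ => Nat) (col0_s_235_240 c) (col0_s_240_246 c) (Nat.ble 240 c)
noncomputable def col0_s_247_249 (c : Nat) : Nat := @Bool.rec (fun _ => Nat) (col0_247) (col0_248) (Nat.ble 248 c)
noncomputable def col0_s_246_249 (c : Nat) : Nat := @Bool.rec (fun _ => Nat) (col0_246) (col0_s_247_249 c) (Nat.ble 247 c)
noncomputable def col0_s_250_252 (c : Nat) : Nat := @Bool.rec (fun _ => Nat) (col0_250) (col0_251) (Nat.ble 251 c)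
noncomputable def col0_s_249_252 (c : Nat) : Nat := @Bool.rec (fun _ => Nat) (col0_249) (col0_s_250_252 c) (Nat.ble 250 c)
noncomputable def col0_s_246_252 (c : Nat) : Nat := @Bool.rec (fun _ => Nat) (col0_s_246_249 c) (col0_s_249_252 c) (Nat.ble 249 c)
noncomputable def col0_s_253_255 (c : Nat) : Nat := @Bool.rec (fun _ => Nat) (col0_253) (col0_254) (Nat.ble 254 c)
noncomputable def col0_s_252_255 (c : Nat) : Nat := @Bool.rec (fun _ => Nat) (col0_252) (col0_s_253_255 c) (Nat.ble 253 c)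
noncomputable def col0_s_256_258 (c : Nat) : Nat := @Bool.rec (fun _ => Nat) (col0_256) (col0_257) (Nat.ble 257 c)
noncomputable def col0_s_255_258 (c : Nat) : Nat := @Bool.rec (fun _ => Nat) (col0_255) (col0_s_256_258 c) (Nat.ble 256 c)
noncomputable def col0_s_252_258 (c : Nat) : Nat := @Bool.rec (fun _ => Nat) (col0_s_252_255 c) (col0_s_255_258 c) (Nat.ble 255 c)
noncomputable def col0_s_246_258 (c : Nat) : Nat := @Bool.rec (fun _ => Nat) (col0_s_246_252 c) (col0_s_252_258 c) (Nat.ble 252 c)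
noncomputable def col0_s_235_258 (c : Nat) : Nat := @Bool.rec (fun _ => Nat) (col0_s_235_246 c) (col0_s_246_258 c) (Nat.ble 246 c)
noncomputable def col0_s_259_261 (c : Nat) : Nat := @Bool.rec (fun _ => Nat) (col0_259) (col0_260) (Nat.ble 260 c)
noncomputable def col0_s_258_261 (c : Nat) : Nat := @Bool.rec (fun _ => Nat) (col0_258) (col0_s_259_261 c) (Nat.ble 259 c)
noncomputable def col0_s_262_264 (c : Nat) : Nat := @Bool.rec (fun _ => Nat) (col0_262) (col0_263) (Nat.ble 263 c)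
noncomputable def col0_s_261_264 (c : Nat) : Nat := @Bool.rec (fun _ => Nat) (col0_261) (col0_s_262_264 c) (Nat.ble 262 c)
noncomputable def col0_s_258_264 (c : Nat) : Nat := @Bool.rec (fun _ => Nat) (col0_s_258_261 c) (col0_s_261_264 c) (Nat.ble 261 c)
noncomputable def col0_s_265_267 (c : Nat) : Nat := @Bool.rec (fun _ => Nat) (col0_265) (col0_266) (Nat.ble 266 c)
noncomputable def col0_s_264_267 (c : Nat) : Nat := @Bool.rec (fun _ => Nat) (col0_264) (col0_s_265_267 c) (Nat.ble 265 c)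
noncomputable def col0_s_268_270 (c : Nat) : Nat := @Bool.rec (fun _ => Nat) (col0_268) (col0_269) (Nat.ble 269 c)
noncomputable def col0_s_267_270 (c : Nat) : Nat := @Bool.rec (fun _ => Nat) (col0_267) (col0_s_268_270 c) (Nat.ble 268 c)
noncomputable def col0_s_264_270 (c : Nat) : Nat := @Bool.rec (fun _ => Nat) (col0_s_264_267 c) (col0_s_267_270 c) (Nat.ble 267 c)
noncomputable def col0_s_258_270 (c : Nat) : Nat := @Bool.rec (fun _ => Nat) (col0_s_258_264 c) (col0_s_264_270 c) (Nat.ble 264 c)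
noncomputable def col0_s_271_273 (c : Nat) : Nat := @Bool.rec (fun _ => Nat) (col0_271) (col0_272) (Nat.ble 272 c)
noncomputable def col0_s_270_273 (c : Nat) : Nat := @Bool.rec (fun _ => Nat) (col0_270) (col0_s_271_273 c) (Nat.ble 271 c)
noncomputable def col0_s_274_276 (c : Nat) : Nat := @Bool.rec (fun _ => Nat) (col0_274) (col0_275) (Nat.ble 275 c)
noncomputable def col0_s_273_276 (c : Nat) : Nat := @Bool.rec (fun _ => Nat) (col0_273) (col0_s_274_276 c) (Nat.ble 274 c)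
noncomputable def col0_s_270_276 (c : Nat) : Nat := @Bool.rec (fun _ => Nat) (col0_s_270_273 c) (col0_s_273_276 c) (Nat.ble 273 c)
noncomputable def col0_s_277_279 (c : Nat) : Nat := @Bool.rec (fun _ => Nat) (col0_277) (col0_278) (Nat.ble 278 c)
noncomputable def col0_s_276_279 (c : Nat) : Nat := @Bool.rec (fun _ => Nat) (col0_276) (col0_s_277_279 c) (Nat.ble 277 c)
noncomputable def col0_s_280_282 (c : Nat) : Nat := @Bool.rec (fun _ => Nat) (col0_280) (col0_281) (Nat.ble 281 c)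
noncomputable def col0_s_279_282 (c : Nat) : Nat := @Bool.rec (fun _ => Nat) (col0_279) (col0_s_280_282 c) (Nat.ble 280 c)
noncomputable def col0_s_276_282 (c : Nat) : Nat := @Bool.rec (fun _ => Nat) (col0_s_276_279 c) (col0_s_279_282 c) (Nat.ble 279 c)
noncomputable def col0_s_270_282 (c : Nat) : Nat := @Bool.rec (fun _ => Nat) (col0_s_270_276 c) (col0_s_276_282 c) (Nat.ble 276 c)
noncomputable def col0_s_258_282 (c : Nat) : Nat := @Bool.rec (fun _ => Nat) (col0_s_258_270 c) (col0_s_270_282 c) (Nat.ble 270 c)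
noncomputable def col0_s_235_282 (c : Nat) : Nat := @Bool.rec (fun _ => Nat) (col0_s_235_258 c) (col0_s_258_282 c) (Nat.ble 258 c)
noncomputable def col0_s_188_282 (c : Nat) : Nat := @Bool.rec (fun _ => Nat) (col0_s_188_235 c) (col0_s_235_282 c) (Nat.ble 235 c)
noncomputable def col0_s_282_284 (c : Nat) : Nat := @Bool.rec (fun _ => Nat) (col0_282) (col0_283) (Nat.ble 283 c)
noncomputable def col0_s_285_287 (c : Nat) : Nat := @Bool.rec (fun _ => Nat) (col0_285) (col0_286) (Nat.ble 286 c)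
noncomputable def col0_s_284_287 (c : Nat) : Nat := @Bool.rec (fun _ => Nat) (col0_284) (col0_s_285_287 c) (Nat.ble 285 c)
noncomputable def col0_s_282_287 (c : Nat) : Nat := @Bool.rec (fun _ => Nat) (col0_s_282_284 c) (col0_s_284_287 c) (Nat.ble 284 c)
noncomputable def col0_s_288_290 (c : Nat) : Nat := @Bool.rec (fun _ => Nat) (col0_288) (col0_289) (Nat.ble 289 c)
noncomputable def col0_s_287_290 (c : Nat) : Nat := @Bool.rec (fun _ => Nat) (col0_287) (col0_s_288_290 c) (Nat.ble 288 c)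
noncomputable def col0_s_291_293 (c : Nat) : Nat := @Bool.rec (fun _ => Nat) (col0_291) (col0_292) (Nat.ble 292 c)
noncomputable def col0_s_290_293 (c : Nat) : Nat := @Bool.rec (fun _ => Nat) (col0_290) (col0_s_291_293 c) (Nat.ble 291 c)
noncomputable def col0_s_287_293 (c : Nat) : Nat := @Bool.rec (fun _ => Nat) (col0_s_287_290 c) (col0_s_290_293 c) (Nat.ble 290 c)
noncomputable def col0_s_282_293 (c : Nat) : Nat := @Bool.rec (fun _ => Nat) (col0_s_282_287 c) (col0_s_287_293 c) (Nat.ble 287 c)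
noncomputable def col0_s_294_296 (c : Nat) : Nat := @Bool.rec (fun _ => Nat) (col0_294) (col0_295) (Nat.ble 295 c)
noncomputable def col0_s_293_296 (c : Nat) : Nat := @Bool.rec (fun _ => Nat) (col0_293) (col0_s_294_296 c) (Nat.ble 294 c)
noncomputable def col0_s_297_299 (c : Nat) : Nat := @Bool.rec (fun _ => Nat) (col0_297) (col0_298) (Nat.ble 298 c)
noncomputable def col0_s_296_299 (c : Nat) : Nat := @Bool.rec (fun _ => Nat) (col0_296) (col0_s_297_299 c) (Nat.ble 297 c)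
noncomputable def col0_s_293_299 (c : Nat) : Nat := @Bool.rec (fun _ => Nat) (col0_s_293_296 c) (col0_s_296_299 c) (Nat.ble 296 c)
noncomputable def col0_s_300_302 (c : Nat) : Nat := @Bool.rec (fun _ => Nat) (col0_300) (col0_301) (Nat.ble 301 c)
noncomputable def col0_s_299_302 (c : Nat) : Nat := @Bool.rec (fun _ => Nat) (col0_299) (col0_s_300_302 c) (Nat.ble 300 c)
noncomputable def col0_s_303_305 (c : Nat) : Nat := @Bool.rec (fun _ => Nat) (col0_303) (col0_304) (Nat.ble 304 c)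
noncomputable def col0_s_302_305 (c : Nat) : Nat := @Bool.rec (fun _ => Nat) (col0_302) (col0_s_303_305 c) (Nat.ble 303 c)
noncomputable def col0_s_299_305 (c : Nat) : Nat := @Bool.rec (fun _ => Nat) (col0_s_299_302 c) (col0_s_302_305 c) (Nat.ble 302 c)
noncomputable def col0_s_293_305 (c : Nat) : Nat := @Bool.rec (fun _ => Nat) (col0_s_293_299 c) (col0_s_299_305 c) (Nat.ble 299 c)
noncomputable def col0_s_282_305 (c : Nat) : Nat := @Bool.rec (fun _ => Nat) (col0_s_282_293 c) (col0_s_293_305 c) (Nat.ble 293 c)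
noncomputable def col0_s_306_308 (c : Nat) : Nat := @Bool.rec (fun _ => Nat) (col0_306) (col0_307) (Nat.ble 307 c)
noncomputable def col0_s_305_308 (c : Nat) : Nat := @Bool.rec (fun _ => Nat) (col0_305) (col0_s_306_308 c) (Nat.ble 306 c)
noncomputable def col0_s_309_311 (c : Nat) : Nat := @Bool.rec (fun _ => Nat) (col0_309) (col0_310) (Nat.ble 310 c)
noncomputable def col0_s_308_311 (c : Nat) : Nat := @Bool.rec (fun _ => Nat) (col0_308) (col0_s_309_311 c) (Nat.ble 309 c)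
noncomputable def col0_s_305_311 (c : Nat) : Nat := @Bool.rec (fun _ => Nat) (col0_s_305_308 c) (col0_s_308_311 c) (Nat.ble 308 c)
noncomputable def col0_s_312_314 (c : Nat) : Nat := @Bool.rec (fun _ => Nat) (col0_312) (col0_313) (Nat.ble 313 c)
noncomputable def col0_s_311_314 (c : Nat) : Nat := @Bool.rec (fun _ => Nat) (col0_311) (col0_s_312_314 c) (Nat.ble 312 c)
noncomputable def col0_s_315_317 (c : Nat) : Nat := @Bool.rec (fun _ => Nat) (col0_315) (col0_316) (Nat.ble 316 c)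
noncomputable def col0_s_314_317 (c : Nat) : Nat := @Bool.rec (fun _ => Nat) (col0_314) (col0_s_315_317 c) (Nat.ble 315 c)
noncomputable def col0_s_311_317 (c : Nat) : Nat := @Bool.rec (fun _ => Nat) (col0_s_311_314 c) (col0_s_314_317 c) (Nat.ble 314 c)
noncomputable def col0_s_305_317 (c : Nat) : Nat := @Bool.rec (fun _ => Nat) (col0_s_305_311 c) (col0_s_311_317 c) (Nat.ble 311 c)
noncomputable def col0_s_318_320 (c : Nat) : Nat := @Bool.rec (fun _ => Nat) (col0_318) (col0_319) (Nat.ble 319 c)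
noncomputable def col0_s_317_320 (c : Nat) : Nat := @Bool.rec (fun _ => Nat) (col0_317) (col0_s_318_320 c) (Nat.ble 318 c)
noncomputable def col0_s_321_323 (c : Nat) : Nat := @Bool.rec (fun _ => Nat) (col0_321) (col0_322) (Nat.ble 322 c)
noncomputable def col0_s_320_323 (c : Nat) : Nat := @Bool.rec (fun _ => Nat) (col0_320) (col0_s_321_323 c) (Nat.ble 321 c)
noncomputable def col0_s_317_323 (c : Nat) : Nat := @Bool.rec (fun _ => Nat) (col0_s_317_320 c) (col0_s_320_323 c) (Nat.ble 320 c)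
noncomputable def col0_s_324_326 (c : Nat) : Nat := @Bool.rec (fun _ => Nat) (col0_324) (col0_325) (Nat.ble 325 c)
noncomputable def col0_s_323_326 (c : Nat) : Nat := @Bool.rec (fun _ => Nat) (col0_323) (col0_s_324_326 c) (Nat.ble 324 c)
noncomputable def col0_s_327_329 (c : Nat) : Nat := @Bool.rec (fun _ => Nat) (col0_327) (col0_328) (Nat.ble 328 c)
noncomputable def col0_s_326_329 (c : Nat) : Nat := @Bool.rec (fun _ => Nat) (col0_326) (col0_s_327_329 c) (Nat.ble 327 c)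
noncomputable def col0_s_323_329 (c : Nat) : Nat := @Bool.rec (fun _ => Nat) (col0_s_323_326 c) (col0_s_326_329 c) (Nat.ble 326 c)
noncomputable def col0_s_317_329 (c : Nat) : Nat := @Bool.rec (fun _ => Nat) (col0_s_317_323 c) (col0_s_323_329 c) (Nat.ble 323 c)
noncomputable def col0_s_305_329 (c : Nat) : Nat := @Bool.rec (fun _ => Nat) (col0_s_305_317 c) (col0_s_317_329 c) (Nat.ble 317 c)
noncomputable def col0_s_282_329 (c : Nat) : Nat := @Bool.rec (fun _ => Nat) (col0_s_282_305 c) (col0_s_305_329 c) (Nat.ble 305 c)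
noncomputable def col0_s_329_331 (c : Nat) : Nat := @Bool.rec (fun _ => Nat) (col0_329) (col0_330) (Nat.ble 330 c)
noncomputable def col0_s_332_334 (c : Nat) : Nat := @Bool.rec (fun _ => Nat) (col0_332) (col0_333) (Nat.ble 333 c)
noncomputable def col0_s_331_334 (c : Nat) : Nat := @Bool.rec (fun _ => Nat) (col0_331) (col0_s_332_334 c) (Nat.ble 332 c)
noncomputable def col0_s_329_334 (c : Nat) : Nat := @Bool.rec (fun _ => Nat) (col0_s_329_331 c) (col0_s_331_334 c) (Nat.ble 331 c)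
noncomputable def col0_s_335_337 (c : Nat) : Nat := @Bool.rec (fun _ => Nat) (col0_335) (col0_336) (Nat.ble 336 c)
noncomputable def col0_s_334_337 (c : Nat) : Nat := @Bool.rec (fun _ => Nat) (col0_334) (col0_s_335_337 c) (Nat.ble 335 c)
noncomputable def col0_s_338_340 (c : Nat) : Nat := @Bool.rec (fun _ => Nat) (col0_338) (col0_339) (Nat.ble 339 c)
noncomputable def col0_s_337_340 (c : Nat) : Nat := @Bool.rec (fun _ => Nat) (col0_337) (col0_s_338_340 c) (Nat.ble 338 c)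
noncomputable def col0_s_334_340 (c : Nat) : Nat := @Bool.rec (fun _ => Nat) (col0_s_334_337 c) (col0_s_337_340 c) (Nat.ble 337 c)
noncomputable def col0_s_329_340 (c : Nat) : Nat := @Bool.rec (fun _ => Nat) (col0_s_329_334 c) (col0_s_334_340 c) (Nat.ble 334 c)
noncomputable def col0_s_341_343 (c : Nat) : Nat := @Bool.rec (fun _ => Nat) (col0_341) (col0_342) (Nat.ble 342 c)
noncomputable def col0_s_340_343 (c : Nat) : Nat := @Bool.rec (fun _ => Nat) (col0_340) (col0_s_341_343 c) (Nat.ble 341 c)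
noncomputable def col0_s_344_346 (c : Nat) : Nat := @Bool.rec (fun _ => Nat) (col0_344) (col0_345) (Nat.ble 345 c)
noncomputable def col0_s_343_346 (c : Nat) : Nat := @Bool.rec (fun _ => Nat) (col0_343) (col0_s_344_346 c) (Nat.ble 344 c)
noncomputable def col0_s_340_346 (c : Nat) : Nat := @Bool.rec (fun _ => Nat) (col0_s_340_343 c) (col0_s_343_346 c) (Nat.ble 343 c)
noncomputable def col0_s_347_349 (c : Nat) : Nat := @Bool.rec (fun _ => Nat) (col0_347) (col0_348) (Nat.ble 348 c)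
noncomputable def col0_s_346_349 (c : Nat) : Nat := @Bool.rec (fun _ => Nat) (col0_346) (col0_s_347_349 c) (Nat.ble 347 c)
noncomputable def col0_s_350_352 (c : Nat) : Nat := @Bool.rec (fun _ => Nat) (col0_350) (col0_351) (Nat.ble 351 c)
noncomputable def col0_s_349_352 (c : Nat) : Nat := @Bool.rec (fun _ => Nat) (col0_349) (col0_s_350_352 c) (Nat.ble 350 c)
noncomputable def col0_s_346_352 (c : Nat) : Nat := @Bool.rec (fun _ => Nat) (col0_s_346_349 c) (col0_s_349_352 c) (Nat.ble 349 c)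
noncomputable def col0_s_340_352 (c : Nat) : Nat := @Bool.rec (fun _ => Nat) (col0_s_340_346 c) (col0_s_346_352 c) (Nat.ble 346 c)
noncomputable def col0_s_329_352 (c : Nat) : Nat := @Bool.rec (fun _ => Nat) (col0_s_329_340 c) (col0_s_340_352 c) (Nat.ble 340 c)
noncomputable def col0_s_353_355 (c : Nat) : Nat := @Bool.rec (fun _ => Nat) (col0_353) (col0_354) (Nat.ble 354 c)
noncomputable def col0_s_352_355 (c : Nat) : Nat := @Bool.rec (fun _ => Nat) (col0_352) (col0_s_353_355 c) (Nat.ble 353 c)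
noncomputable def col0_s_356_358 (c : Nat) : Nat := @Bool.rec (fun _ => Nat) (col0_356) (col0_357) (Nat.ble 357 c)
noncomputable def col0_s_355_358 (c : Nat) : Nat := @Bool.rec (fun _ => Nat) (col0_355) (col0_s_356_358 c) (Nat.ble 356 c)
noncomputable def col0_s_352_358 (c : Nat) : Nat := @Bool.rec (fun _ => Nat) (col0_s_352_355 c) (col0_s_355_358 c) (Nat.ble 355 c)
noncomputable def col0_s_359_361 (c : Nat) : Nat := @Bool.rec (fun _ => Nat) (col0_359) (col0_360) (Nat.ble 360 c)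
noncomputable def col0_s_358_361 (c : Nat) : Nat := @Bool.rec (fun _ => Nat) (col0_358) (col0_s_359_361 c) (Nat.ble 359 c)
noncomputable def col0_s_362_364 (c : Nat) : Nat := @Bool.rec (fun _ => Nat) (col0_362) (col0_363) (Nat.ble 363 c)
noncomputable def col0_s_361_364 (c : Nat) : Nat := @Bool.rec (fun _ => Nat) (col0_361) (col0_s_362_364 c) (Nat.ble 362 c)
noncomputable def col0_s_358_364 (c : Nat) : Nat := @Bool.rec (fun _ => Nat) (col0_s_358_361 c) (col0_s_361_364 c) (Nat.ble 361 c)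
noncomputable def col0_s_352_364 (c : Nat) : Nat := @Bool.rec (fun _ => Nat) (col0_s_352_358 c) (col0_s_358_364 c) (Nat.ble 358 c)
noncomputable def col0_s_365_367 (c : Nat) : Nat := @Bool.rec (fun _ => Nat) (col0_365) (col0_366) (Nat.ble 366 c)
noncomputable def col0_s_364_367 (c : Nat) : Nat := @Bool.rec (fun _ => Nat) (col0_364) (col0_s_365_367 c) (Nat.ble 365 c)
noncomputable def col0_s_368_370 (c : Nat) : Nat := @Bool.rec (fun _ => Nat) (col0_368) (col0_369) (Nat.ble 369 c)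
noncomputable def col0_s_367_370 (c : Nat) : Nat := @Bool.rec (fun _ => Nat) (col0_367) (col0_s_368_370 c) (Nat.ble 368 c)
noncomputable def col0_s_364_370 (c : Nat) : Nat := @Bool.rec (fun _ => Nat) (col0_s_364_367 c) (col0_s_367_370 c) (Nat.ble 367 c)
noncomputable def col0_s_371_373 (c : Nat) : Nat := @Bool.rec (fun _ => Nat) (col0_371) (col0_372) (Nat.ble 372 c)
noncomputable def col0_s_370_373 (c : Nat) : Nat := @Bool.rec (fun _ => Nat) (col0_370) (col0_s_371_373 c) (Nat.ble 371 c)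
noncomputable def col0_s_374_376 (c : Nat) : Nat := @Bool.rec (fun _ => Nat) (col0_374) (col0_375) (Nat.ble 375 c)
noncomputable def col0_s_373_376 (c : Nat) : Nat := @Bool.rec (fun _ => Nat) (col0_373) (col0_s_374_376 c) (Nat.ble 374 c)
noncomputable def col0_s_370_376 (c : Nat) : Nat := @Bool.rec (fun _ => Nat) (col0_s_370_373 c) (col0_s_373_376 c) (Nat.ble 373 c)
noncomputable def col0_s_364_376 (c : Nat) : Nat := @Bool.rec (fun _ => Nat) (col0_s_364_370 c) (col0_s_370_376 c) (Nat.ble 370 c)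
noncomputable def col0_s_352_376 (c : Nat) : Nat := @Bool.rec (fun _ => Nat) (col0_s_352_364 c) (col0_s_364_376 c) (Nat.ble 364 c)
noncomputable def col0_s_329_376 (c : Nat) : Nat := @Bool.rec (fun _ => Nat) (col0_s_329_352 c) (col0_s_352_376 c) (Nat.ble 352 c)
noncomputable def col0_s_282_376 (c : Nat) : Nat := @Bool.rec (fun _ => Nat) (col0_s_282_329 c) (col0_s_329_376 c) (Nat.ble 329 c)
noncomputable def col0_s_188_376 (c : Nat) : Nat := @Bool.rec (fun _ => Nat) (col0_s_188_282 c) (col0_s_282_376 c) (Nat.ble 282 c)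
noncomputable def col0_s_0_376 (c : Nat) : Nat := @Bool.rec (fun _ => Nat) (col0_s_0_188 c) (col0_s_188_376 c) (Nat.ble 188 c)
noncomputable def col0 (i : Nat) : Nat := rdw 21 2097151 (col0_s_0_376 (Nat.shiftRight i 12)) (Nat.land i 4095)
noncomputable def col1_s_0_2 (c : Nat) : Nat := @Bool.rec (fun _ => Nat) (col1_0) (col1_1) (Nat.ble 1 c)
noncomputable def col1_s_3_5 (c : Nat) : Nat := @Bool.rec (fun _ => Nat) (col1_3) (col1_4) (Nat.ble 4 c)
noncomputable def col1_s_2_5 (c : Nat) : Nat := @Bool.rec (fun _ => Nat) (col1_2) (col1_s_3_5 c) (Nat.ble 3 c)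
noncomputable def col1_s_0_5 (c : Nat) : Nat := @Bool.rec (fun _ => Nat) (col1_s_0_2 c) (col1_s_2_5 c) (Nat.ble 2 c)
noncomputable def col1_s_6_8 (c : Nat) : Nat := @Bool.rec (fun _ => Nat) (col1_6) (col1_7) (Nat.ble 7 c)
noncomputable def col1_s_5_8 (c : Nat) : Nat := @Bool.rec (fun _ => Nat) (col1_5) (col1_s_6_8 c) (Nat.ble 6 c)
noncomputable def col1_s_9_11 (c : Nat) : Nat := @Bool.rec (fun _ => Nat) (col1_9) (col1_10) (Nat.ble 10 c)
noncomputable def col1_s_8_11 (c : Nat) : Nat := @Bool.rec (fun _ => Nat) (col1_8) (col1_s_9_11 c) (Nat.ble 9 c)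
noncomputable def col1_s_5_11 (c : Nat) : Nat := @Bool.rec (fun _ => Nat) (col1_s_5_8 c) (col1_s_8_11 c) (Nat.ble 8 c)
noncomputable def col1_s_0_11 (c : Nat) : Nat := @Bool.rec (fun _ => Nat) (col1_s_0_5 c) (col1_s_5_11 c) (Nat.ble 5 c)
noncomputable def col1_s_12_14 (c : Nat) : Nat := @Bool.rec (fun _ => Nat) (col1_12) (col1_13) (Nat.ble 13 c)
noncomputable def col1_s_11_14 (c : Nat) : Nat := @Bool.rec (fun _ => Nat) (col1_11) (col1_s_12_14 c) (Nat.ble 12 c)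
noncomputable def col1_s_15_17 (c : Nat) : Nat := @Bool.rec (fun _ => Nat) (col1_15) (col1_16) (Nat.ble 16 c)
noncomputable def col1_s_14_17 (c : Nat) : Nat := @Bool.rec (fun _ => Nat) (col1_14) (col1_s_15_17 c) (Nat.ble 15 c)
noncomputable def col1_s_11_17 (c : Nat) : Nat := @Bool.rec (fun _ => Nat) (col1_s_11_14 c) (col1_s_14_17 c) (Nat.ble 14 c)
noncomputable def col1_s_18_20 (c : Nat) : Nat := @Bool.rec (fun _ => Nat) (col1_18) (col1_19) (Nat.ble 19 c)
noncomputable def col1_s_17_20 (c : Nat) : Nat := @Bool.rec (fun _ => Nat) (col1_17) (col1_s_18_20 c) (Nat.ble 18 c)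
noncomputable def col1_s_21_23 (c : Nat) : Nat := @Bool.rec (fun _ => Nat) (col1_21) (col1_22) (Nat.ble 22 c)
noncomputable def col1_s_20_23 (c : Nat) : Nat := @Bool.rec (fun _ => Nat) (col1_20) (col1_s_21_23 c) (Nat.ble 21 c)
noncomputable def col1_s_17_23 (c : Nat) : Nat := @Bool.rec (fun _ => Nat) (col1_s_17_20 c) (col1_s_20_23 c) (Nat.ble 20 c)
noncomputable def col1_s_11_23 (c : Nat) : Nat := @Bool.rec (fun _ => Nat) (col1_s_11_17 c) (col1_s_17_23 c) (Nat.ble 17 c)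
noncomputable def col1_s_0_23 (c : Nat) : Nat := @Bool.rec (fun _ => Nat) (col1_s_0_11 c) (col1_s_11_23 c) (Nat.ble 11 c)
noncomputable def col1_s_24_26 (c : Nat) : Nat := @Bool.rec (fun _ => Nat) (col1_24) (col1_25) (Nat.ble 25 c)
noncomputable def col1_s_23_26 (c : Nat) : Nat := @Bool.rec (fun _ => Nat) (col1_23) (col1_s_24_26 c) (Nat.ble 24 c)
noncomputable def col1_s_27_29 (c : Nat) : Nat := @Bool.rec (fun _ => Nat) (col1_27) (col1_28) (Nat.ble 28 c)
noncomputable def col1_s_26_29 (c : Nat) : Nat := @Bool.rec (fun _ => Nat) (col1_26) (col1_s_27_29 c) (Nat.ble 27 c)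
noncomputable def col1_s_23_29 (c : Nat) : Nat := @Bool.rec (fun _ => Nat) (col1_s_23_26 c) (col1_s_26_29 c) (Nat.ble 26 c)
noncomputable def col1_s_30_32 (c : Nat) : Nat := @Bool.rec (fun _ => Nat) (col1_30) (col1_31) (Nat.ble 31 c)
noncomputable def col1_s_29_32 (c : Nat) : Nat := @Bool.rec (fun _ => Nat) (col1_29) (col1_s_30_32 c) (Nat.ble 30 c)
noncomputable def col1_s_33_35 (c : Nat) : Nat := @Bool.rec (fun _ => Nat) (col1_33) (col1_34) (Nat.ble 34 c)
noncomputable def col1_s_32_35 (c : Nat) : Nat := @Bool.rec (fun _ => Nat) (col1_32) (col1_s_33_35 c) (Nat.ble 33 c)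
noncomputable def col1_s_29_35 (c : Nat) : Nat := @Bool.rec (fun _ => Nat) (col1_s_29_32 c) (col1_s_32_35 c) (Nat.ble 32 c)
noncomputable def col1_s_23_35 (c : Nat) : Nat := @Bool.rec (fun _ => Nat) (col1_s_23_29 c) (col1_s_29_35 c) (Nat.ble 29 c)
noncomputable def col1_s_36_38 (c : Nat) : Nat := @Bool.rec (fun _ => Nat) (col1_36) (col1_37) (Nat.ble 37 c)
noncomputable def col1_s_35_38 (c : Nat) : Nat := @Bool.rec (fun _ => Nat) (col1_35) (col1_s_36_38 c) (Nat.ble 36 c)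
noncomputable def col1_s_39_41 (c : Nat) : Nat := @Bool.rec (fun _ => Nat) (col1_39) (col1_40) (Nat.ble 40 c)
noncomputable def col1_s_38_41 (c : Nat) : Nat := @Bool.rec (fun _ => Nat) (col1_38) (col1_s_39_41 c) (Nat.ble 39 c)
noncomputable def col1_s_35_41 (c : Nat) : Nat := @Bool.rec (fun _ => Nat) (col1_s_35_38 c) (col1_s_38_41 c) (Nat.ble 38 c)
noncomputable def col1_s_42_44 (c : Nat) : Nat := @Bool.rec (fun _ => Nat) (col1_42) (col1_43) (Nat.ble 43 c)
noncomputable def col1_s_41_44 (c : Nat) : Nat := @Bool.rec (fun _ => Nat) (col1_41) (col1_s_42_44 c) (Nat.ble 42 c)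
noncomputable def col1_s_45_47 (c : Nat) : Nat := @Bool.rec (fun _ => Nat) (col1_45) (col1_46) (Nat.ble 46 c)
noncomputable def col1_s_44_47 (c : Nat) : Nat := @Bool.rec (fun _ => Nat) (col1_44) (col1_s_45_47 c) (Nat.ble 45 c)
noncomputable def col1_s_41_47 (c : Nat) : Nat := @Bool.rec (fun _ => Nat) (col1_s_41_44 c) (col1_s_44_47 c) (Nat.ble 44 c)
noncomputable def col1_s_35_47 (c : Nat) : Nat := @Bool.rec (fun _ => Nat) (col1_s_35_41 c) (col1_s_41_47 c) (Nat.ble 41 c)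
noncomputable def col1_s_23_47 (c : Nat) : Nat := @Bool.rec (fun _ => Nat) (col1_s_23_35 c) (col1_s_35_47 c) (Nat.ble 35 c)
noncomputable def col1_s_0_47 (c : Nat) : Nat := @Bool.rec (fun _ => Nat) (col1_s_0_23 c) (col1_s_23_47 c) (Nat.ble 23 c)
noncomputable def col1_s_47_49 (c : Nat) : Nat := @Bool.rec (fun _ => Nat) (col1_47) (col1_48) (Nat.ble 48 c)
noncomputable def col1_s_50_52 (c : Nat) : Nat := @Bool.rec (fun _ => Nat) (col1_50) (col1_51) (Nat.ble 51 c)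
noncomputable def col1_s_49_52 (c : Nat) : Nat := @Bool.rec (fun _ => Nat) (col1_49) (col1_s_50_52 c) (Nat.ble 50 c)
noncomputable def col1_s_47_52 (c : Nat) : Nat := @Bool.rec (fun _ => Nat) (col1_s_47_49 c) (col1_s_49_52 c) (Nat.ble 49 c)
noncomputable def col1_s_53_55 (c : Nat) : Nat := @Bool.rec (fun _ => Nat) (col1_53) (col1_54) (Nat.ble 54 c)
noncomputable def col1_s_52_55 (c : Nat) : Nat := @Bool.rec (fun _ => Nat) (col1_52) (col1_s_53_55 c) (Nat.ble 53 c)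
noncomputable def col1_s_56_58 (c : Nat) : Nat := @Bool.rec (fun _ => Nat) (col1_56) (col1_57) (Nat.ble 57 c)
noncomputable def col1_s_55_58 (c : Nat) : Nat := @Bool.rec (fun _ => Nat) (col1_55) (col1_s_56_58 c) (Nat.ble 56 c)
noncomputable def col1_s_52_58 (c : Nat) : Nat := @Bool.rec (fun _ => Nat) (col1_s_52_55 c) (col1_s_55_58 c) (Nat.ble 55 c)
noncomputable def col1_s_47_58 (c : Nat) : Nat := @Bool.rec (fun _ => Nat) (col1_s_47_52 c) (col1_s_52_58 c) (Nat.ble 52 c)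
noncomputable def col1_s_59_61 (c : Nat) : Nat := @Bool.rec (fun _ => Nat) (col1_59) (col1_60) (Nat.ble 60 c)
noncomputable def col1_s_58_61 (c : Nat) : Nat := @Bool.rec (fun _ => Nat) (col1_58) (col1_s_59_61 c) (Nat.ble 59 c)
noncomputable def col1_s_62_64 (c : Nat) : Nat := @Bool.rec (fun _ => Nat) (col1_62) (col1_63) (Nat.ble 63 c)
noncomputable def col1_s_61_64 (c : Nat) : Nat := @Bool.rec (fun _ => Nat) (col1_61) (col1_s_62_64 c) (Nat.ble 62 c)
noncomputable def col1_s_58_64 (c : Nat) : Nat := @Bool.rec (fun _ => Nat) (col1_s_58_61 c) (col1_s_61_64 c) (Nat.ble 61 c)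
noncomputable def col1_s_65_67 (c : Nat) : Nat := @Bool.rec (fun _ => Nat) (col1_65) (col1_66) (Nat.ble 66 c)
noncomputable def col1_s_64_67 (c : Nat) : Nat := @Bool.rec (fun _ => Nat) (col1_64) (col1_s_65_67 c) (Nat.ble 65 c)
noncomputable def col1_s_68_70 (c : Nat) : Nat := @Bool.rec (fun _ => Nat) (col1_68) (col1_69) (Nat.ble 69 c)
noncomputable def col1_s_67_70 (c : Nat) : Nat := @Bool.rec (fun _ => Nat) (col1_67) (col1_s_68_70 c) (Nat.ble 68 c)
noncomputable def col1_s_64_70 (c : Nat) : Nat := @Bool.rec (fun _ => Nat) (col1_s_64_67 c) (col1_s_67_70 c) (Nat.ble 67 c)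
noncomputable def col1_s_58_70 (c : Nat) : Nat := @Bool.rec (fun _ => Nat) (col1_s_58_64 c) (col1_s_64_70 c) (Nat.ble 64 c)
noncomputable def col1_s_47_70 (c : Nat) : Nat := @Bool.rec (fun _ => Nat) (col1_s_47_58 c) (col1_s_58_70 c) (Nat.ble 58 c)
noncomputable def col1_s_71_73 (c : Nat) : Nat := @Bool.rec (fun _ => Nat) (col1_71) (col1_72) (Nat.ble 72 c)
noncomputable def col1_s_70_73 (c : Nat) : Nat := @Bool.rec (fun _ => Nat) (col1_70) (col1_s_71_73 c) (Nat.ble 71 c)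
noncomputable def col1_s_74_76 (c : Nat) : Nat := @Bool.rec (fun _ => Nat) (col1_74) (col1_75) (Nat.ble 75 c)
noncomputable def col1_s_73_76 (c : Nat) : Nat := @Bool.rec (fun _ => Nat) (col1_73) (col1_s_74_76 c) (Nat.ble 74 c)
noncomputable def col1_s_70_76 (c : Nat) : Nat := @Bool.rec (fun _ => Nat) (col1_s_70_73 c) (col1_s_73_76 c) (Nat.ble 73 c)
noncomputable def col1_s_77_79 (c : Nat) : Nat := @Bool.rec (fun _ => Nat) (col1_77) (col1_78) (Nat.ble 78 c)
noncomputable def col1_s_76_79 (c : Nat) : Nat := @Bool.rec (fun _ => Nat) (col1_76) (col1_s_77_79 c) (Nat.ble 77 c)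
noncomputable def col1_s_80_82 (c : Nat) : Nat := @Bool.rec (fun _ => Nat) (col1_80) (col1_81) (Nat.ble 81 c)
noncomputable def col1_s_79_82 (c : Nat) : Nat := @Bool.rec (fun _ => Nat) (col1_79) (col1_s_80_82 c) (Nat.ble 80 c)
noncomputable def col1_s_76_82 (c : Nat) : Nat := @Bool.rec (fun _ => Nat) (col1_s_76_79 c) (col1_s_79_82 c) (Nat.ble 79 c)
noncomputable def col1_s_70_82 (c : Nat) : Nat := @Bool.rec (fun _ => Nat) (col1_s_70_76 c) (col1_s_76_82 c) (Nat.ble 76 c)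
noncomputable def col1_s_83_85 (c : Nat) : Nat := @Bool.rec (fun _ => Nat) (col1_83) (col1_84) (Nat.ble 84 c)
noncomputable def col1_s_82_85 (c : Nat) : Nat := @Bool.rec (fun _ => Nat) (col1_82) (col1_s_83_85 c) (Nat.ble 83 c)
noncomputable def col1_s_86_88 (c : Nat) : Nat := @Bool.rec (fun _ => Nat) (col1_86) (col1_87) (Nat.ble 87 c)
noncomputable def col1_s_85_88 (c : Nat) : Nat := @Bool.rec (fun _ => Nat) (col1_85) (col1_s_86_88 c) (Nat.ble 86 c)
noncomputable def col1_s_82_88 (c : Nat) : Nat := @Bool.rec (fun _ => Nat) (col1_s_82_85 c) (col1_s_85_88 c) (Nat.ble 85 c)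
noncomputable def col1_s_89_91 (c : Nat) : Nat := @Bool.rec (fun _ => Nat) (col1_89) (col1_90) (Nat.ble 90 c)
noncomputable def col1_s_88_91 (c : Nat) : Nat := @Bool.rec (fun _ => Nat) (col1_88) (col1_s_89_91 c) (Nat.ble 89 c)
noncomputable def col1_s_92_94 (c : Nat) : Nat := @Bool.rec (fun _ => Nat) (col1_92) (col1_93) (Nat.ble 93 c)
noncomputable def col1_s_91_94 (c : Nat) : Nat := @Bool.rec (fun _ => Nat) (col1_91) (col1_s_92_94 c) (Nat.ble 92 c)
noncomputable def col1_s_88_94 (c : Nat) : Nat := @Bool.rec (fun _ => Nat) (col1_s_88_91 c) (col1_s_91_94 c) (Nat.ble 91 c)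
noncomputable def col1_s_82_94 (c : Nat) : Nat := @Bool.rec (fun _ => Nat) (col1_s_82_88 c) (col1_s_88_94 c) (Nat.ble 88 c)
noncomputable def col1_s_70_94 (c : Nat) : Nat := @Bool.rec (fun _ => Nat) (col1_s_70_82 c) (col1_s_82_94 c) (Nat.ble 82 c)
noncomputable def col1_s_47_94 (c : Nat) : Nat := @Bool.rec (fun _ => Nat) (col1_s_47_70 c) (col1_s_70_94 c) (Nat.ble 70 c)
noncomputable def col1_s_0_94 (c : Nat) : Nat := @Bool.rec (fun _ => Nat) (col1_s_0_47 c) (col1_s_47_94 c) (Nat.ble 47 c)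
noncomputable def col1_s_94_96 (c : Nat) : Nat := @Bool.rec (fun _ => Nat) (col1_94) (col1_95) (Nat.ble 95 c)
noncomputable def col1_s_97_99 (c : Nat) : Nat := @Bool.rec (fun _ => Nat) (col1_97) (col1_98) (Nat.ble 98 c)
noncomputable def col1_s_96_99 (c : Nat) : Nat := @Bool.rec (fun _ => Nat) (col1_96) (col1_s_97_99 c) (Nat.ble 97 c)
noncomputable def col1_s_94_99 (c : Nat) : Nat := @Bool.rec (fun _ => Nat) (col1_s_94_96 c) (col1_s_96_99 c) (Nat.ble 96 c)
noncomputable def col1_s_100_102 (c : Nat) : Nat := @Bool.rec (fun _ => Nat) (col1_100) (col1_101) (Nat.ble 101 c)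
noncomputable def col1_s_99_102 (c : Nat) : Nat := @Bool.rec (fun _ => Nat) (col1_99) (col1_s_100_102 c) (Nat.ble 100 c)
noncomputable def col1_s_103_105 (c : Nat) : Nat := @Bool.rec (fun _ => Nat) (col1_103) (col1_104) (Nat.ble 104 c)
noncomputable def col1_s_102_105 (c : Nat) : Nat := @Bool.rec (fun _ => Nat) (col1_102) (col1_s_103_105 c) (Nat.ble 103 c)
noncomputable def col1_s_99_105 (c : Nat) : Nat := @Bool.rec (fun _ => Nat) (col1_s_99_102 c) (col1_s_102_105 c) (Nat.ble 102 c)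
noncomputable def col1_s_94_105 (c : Nat) : Nat := @Bool.rec (fun _ => Nat) (col1_s_94_99 c) (col1_s_99_105 c) (Nat.ble 99 c)
noncomputable def col1_s_106_108 (c : Nat) : Nat := @Bool.rec (fun _ => Nat) (col1_106) (col1_107) (Nat.ble 107 c)
noncomputable def col1_s_105_108 (c : Nat) : Nat := @Bool.rec (fun _ => Nat) (col1_105) (col1_s_106_108 c) (Nat.ble 106 c)
noncomputable def col1_s_109_111 (c : Nat) : Nat := @Bool.rec (fun _ => Nat) (col1_109) (col1_110) (Nat.ble 110 c)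
noncomputable def col1_s_108_111 (c : Nat) : Nat := @Bool.rec (fun _ => Nat) (col1_108) (col1_s_109_111 c) (Nat.ble 109 c)
noncomputable def col1_s_105_111 (c : Nat) : Nat := @Bool.rec (fun _ => Nat) (col1_s_105_108 c) (col1_s_108_111 c) (Nat.ble 108 c)
noncomputable def col1_s_112_114 (c : Nat) : Nat := @Bool.rec (fun _ => Nat) (col1_112) (col1_113) (Nat.ble 113 c)
noncomputable def col1_s_111_114 (c : Nat) : Nat := @Bool.rec (fun _ => Nat) (col1_111) (col1_s_112_114 c) (Nat.ble 112 c)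
noncomputable def col1_s_115_117 (c : Nat) : Nat := @Bool.rec (fun _ => Nat) (col1_115) (col1_116) (Nat.ble 116 c)
noncomputable def col1_s_114_117 (c : Nat) : Nat := @Bool.rec (fun _ => Nat) (col1_114) (col1_s_115_117 c) (Nat.ble 115 c)
noncomputable def col1_s_111_117 (c : Nat) : Nat := @Bool.rec (fun _ => Nat) (col1_s_111_114 c) (col1_s_114_117 c) (Nat.ble 114 c)
noncomputable def col1_s_105_117 (c : Nat) : Nat := @Bool.rec (fun _ => Nat) (col1_s_105_111 c) (col1_s_111_117 c) (Nat.ble 111 c)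
noncomputable def col1_s_94_117 (c : Nat) : Nat := @Bool.rec (fun _ => Nat) (col1_s_94_105 c) (col1_s_105_117 c) (Nat.ble 105 c)
noncomputable def col1_s_118_120 (c : Nat) : Nat := @Bool.rec (fun _ => Nat) (col1_118) (col1_119) (Nat.ble 119 c)
noncomputable def col1_s_117_120 (c : Nat) : Nat := @Bool.rec (fun _ => Nat) (col1_117) (col1_s_118_120 c) (Nat.ble 118 c)
noncomputable def col1_s_121_123 (c : Nat) : Nat := @Bool.rec (fun _ => Nat) (col1_121) (col1_122) (Nat.ble 122 c)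
noncomputable def col1_s_120_123 (c : Nat) : Nat := @Bool.rec (fun _ => Nat) (col1_120) (col1_s_121_123 c) (Nat.ble 121 c)
noncomputable def col1_s_117_123 (c : Nat) : Nat := @Bool.rec (fun _ => Nat) (col1_s_117_120 c) (col1_s_120_123 c) (Nat.ble 120 c)
noncomputable def col1_s_124_126 (c : Nat) : Nat := @Bool.rec (fun _ => Nat) (col1_124) (col1_125) (Nat.ble 125 c)
noncomputable def col1_s_123_126 (c : Nat) : Nat := @Bool.rec (fun _ => Nat) (col1_123) (col1_s_124_126 c) (Nat.ble 124 c)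
noncomputable def col1_s_127_129 (c : Nat) : Nat := @Bool.rec (fun _ => Nat) (col1_127) (col1_128) (Nat.ble 128 c)
noncomputable def col1_s_126_129 (c : Nat) : Nat := @Bool.rec (fun _ => Nat) (col1_126) (col1_s_127_129 c) (Nat.ble 127 c)
noncomputable def col1_s_123_129 (c : Nat) : Nat := @Bool.rec (fun _ => Nat) (col1_s_123_126 c) (col1_s_126_129 c) (Nat.ble 126 c)
noncomputable def col1_s_117_129 (c : Nat) : Nat := @Bool.rec (fun _ => Nat) (col1_s_117_123 c) (col1_s_123_129 c) (Nat.ble 123 c)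
noncomputable def col1_s_130_132 (c : Nat) : Nat := @Bool.rec (fun _ => Nat) (col1_130) (col1_131) (Nat.ble 131 c)
noncomputable def col1_s_129_132 (c : Nat) : Nat := @Bool.rec (fun _ => Nat) (col1_129) (col1_s_130_132 c) (Nat.ble 130 c)
noncomputable def col1_s_133_135 (c : Nat) : Nat := @Bool.rec (fun _ => Nat) (col1_133) (col1_134) (Nat.ble 134 c)
noncomputable def col1_s_132_135 (c : Nat) : Nat := @Bool.rec (fun _ => Nat) (col1_132) (col1_s_133_135 c) (Nat.ble 133 c)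
noncomputable def col1_s_129_135 (c : Nat) : Nat := @Bool.rec (fun _ => Nat) (col1_s_129_132 c) (col1_s_132_135 c) (Nat.ble 132 c)
noncomputable def col1_s_136_138 (c : Nat) : Nat := @Bool.rec (fun _ => Nat) (col1_136) (col1_137) (Nat.ble 137 c)
noncomputable def col1_s_135_138 (c : Nat) : Nat := @Bool.rec (fun _ => Nat) (col1_135) (col1_s_136_138 c) (Nat.ble 136 c)
noncomputable def col1_s_139_141 (c : Nat) : Nat := @Bool.rec (fun _ => Nat) (col1_139) (col1_140) (Nat.ble 140 c)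
noncomputable def col1_s_138_141 (c : Nat) : Nat := @Bool.rec (fun _ => Nat) (col1_138) (col1_s_139_141 c) (Nat.ble 139 c)
noncomputable def col1_s_135_141 (c : Nat) : Nat := @Bool.rec (fun _ => Nat) (col1_s_135_138 c) (col1_s_138_141 c) (Nat.ble 138 c)
noncomputable def col1_s_129_141 (c : Nat) : Nat := @Bool.rec (fun _ => Nat) (col1_s_129_135 c) (col1_s_135_141 c) (Nat.ble 135 c)
noncomputable def col1_s_117_141 (c : Nat) : Nat := @Bool.rec (fun _ => Nat) (col1_s_117_129 c) (col1_s_129_141 c) (Nat.ble 129 c)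
noncomputable def col1_s_94_141 (c : Nat) : Nat := @Bool.rec (fun _ => Nat) (col1_s_94_117 c) (col1_s_117_141 c) (Nat.ble 117 c)
noncomputable def col1_s_141_143 (c : Nat) : Nat := @Bool.rec (fun _ => Nat) (col1_141) (col1_142) (Nat.ble 142 c)
noncomputable def col1_s_144_146 (c : Nat) : Nat := @Bool.rec (fun _ => Nat) (col1_144) (col1_145) (Nat.ble 145 c)
noncomputable def col1_s_143_146 (c : Nat) : Nat := @Bool.rec (fun _ => Nat) (col1_143) (col1_s_144_146 c) (Nat.ble 144 c)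
noncomputable def col1_s_141_146 (c : Nat) : Nat := @Bool.rec (fun _ => Nat) (col1_s_141_143 c) (col1_s_143_146 c) (Nat.ble 143 c)
noncomputable def col1_s_147_149 (c : Nat) : Nat := @Bool.rec (fun _ => Nat) (col1_147) (col1_148) (Nat.ble 148 c)
noncomputable def col1_s_146_149 (c : Nat) : Nat := @Bool.rec (fun _ => Nat) (col1_146) (col1_s_147_149 c) (Nat.ble 147 c)
noncomputable def col1_s_150_152 (c : Nat) : Nat := @Bool.rec (fun _ => Nat) (col1_150) (col1_151) (Nat.ble 151 c)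
noncomputable def col1_s_149_152 (c : Nat) : Nat := @Bool.rec (fun _ => Nat) (col1_149) (col1_s_150_152 c) (Nat.ble 150 c)
noncomputable def col1_s_146_152 (c : Nat) : Nat := @Bool.rec (fun _ => Nat) (col1_s_146_149 c) (col1_s_149_152 c) (Nat.ble 149 c)
noncomputable def col1_s_141_152 (c : Nat) : Nat := @Bool.rec (fun _ => Nat) (col1_s_141_146 c) (col1_s_146_152 c) (Nat.ble 146 c)
noncomputable def col1_s_153_155 (c : Nat) : Nat := @Bool.rec (fun _ => Nat) (col1_153) (col1_154) (Nat.ble 154 c)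
noncomputable def col1_s_152_155 (c : Nat) : Nat := @Bool.rec (fun _ => Nat) (col1_152) (col1_s_153_155 c) (Nat.ble 153 c)
noncomputable def col1_s_156_158 (c : Nat) : Nat := @Bool.rec (fun _ => Nat) (col1_156) (col1_157) (Nat.ble 157 c)
noncomputable def col1_s_155_158 (c : Nat) : Nat := @Bool.rec (fun _ => Nat) (col1_155) (col1_s_156_158 c) (Nat.ble 156 c)
noncomputable def col1_s_152_158 (c : Nat) : Nat := @Bool.rec (fun _ => Nat) (col1_s_152_155 c) (col1_s_155_158 c) (Nat.ble 155 c)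
noncomputable def col1_s_159_161 (c : Nat) : Nat := @Bool.rec (fun _ => Nat) (col1_159) (col1_160) (Nat.ble 160 c)
noncomputable def col1_s_158_161 (c : Nat) : Nat := @Bool.rec (fun _ => Nat) (col1_158) (col1_s_159_161 c) (Nat.ble 159 c)
noncomputable def col1_s_162_164 (c : Nat) : Nat := @Bool.rec (fun _ => Nat) (col1_162) (col1_163) (Nat.ble 163 c)
noncomputable def col1_s_161_164 (c : Nat) : Nat := @Bool.rec (fun _ => Nat) (col1_161) (col1_s_162_164 c) (Nat.ble 162 c)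
noncomputable def col1_s_158_164 (c : Nat) : Nat := @Bool.rec (fun _ => Nat) (col1_s_158_161 c) (col1_s_161_164 c) (Nat.ble 161 c)
noncomputable def col1_s_152_164 (c : Nat) : Nat := @Bool.rec (fun _ => Nat) (col1_s_152_158 c) (col1_s_158_164 c) (Nat.ble 158 c)
noncomputable def col1_s_141_164 (c : Nat) : Nat := @Bool.rec (fun _ => Nat) (col1_s_141_152 c) (col1_s_152_164 c) (Nat.ble 152 c)
noncomputable def col1_s_165_167 (c : Nat) : Nat := @Bool.rec (fun _ => Nat) (col1_165) (col1_166) (Nat.ble 166 c)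
noncomputable def col1_s_164_167 (c : Nat) : Nat := @Bool.rec (fun _ => Nat) (col1_164) (col1_s_165_167 c) (Nat.ble 165 c)
noncomputable def col1_s_168_170 (c : Nat) : Nat := @Bool.rec (fun _ => Nat) (col1_168) (col1_169) (Nat.ble 169 c)
noncomputable def col1_s_167_170 (c : Nat) : Nat := @Bool.rec (fun _ => Nat) (col1_167) (col1_s_168_170 c) (Nat.ble 168 c)
noncomputable def col1_s_164_170 (c : Nat) : Nat := @Bool.rec (fun _ => Nat) (col1_s_164_167 c) (col1_s_167_170 c) (Nat.ble 167 c)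
noncomputable def col1_s_171_173 (c : Nat) : Nat := @Bool.rec (fun _ => Nat) (col1_171) (col1_172) (Nat.ble 172 c)
noncomputable def col1_s_170_173 (c : Nat) : Nat := @Bool.rec (fun _ => Nat) (col1_170) (col1_s_171_173 c) (Nat.ble 171 c)
noncomputable def col1_s_174_176 (c : Nat) : Nat := @Bool.rec (fun _ => Nat) (col1_174) (col1_175) (Nat.ble 175 c)
noncomputable def col1_s_173_176 (c : Nat) : Nat := @Bool.rec (fun _ => Nat) (col1_173) (col1_s_174_176 c) (Nat.ble 174 c)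
noncomputable def col1_s_170_176 (c : Nat) : Nat := @Bool.rec (fun _ => Nat) (col1_s_170_173 c) (col1_s_173_176 c) (Nat.ble 173 c)
noncomputable def col1_s_164_176 (c : Nat) : Nat := @Bool.rec (fun _ => Nat) (col1_s_164_170 c) (col1_s_170_176 c) (Nat.ble 170 c)
noncomputable def col1_s_177_179 (c : Nat) : Nat := @Bool.rec (fun _ => Nat) (col1_177) (col1_178) (Nat.ble 178 c)
noncomputable def col1_s_176_179 (c : Nat) : Nat := @Bool.rec (fun _ => Nat) (col1_176) (col1_s_177_179 c) (Nat.ble 177 c)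
noncomputable def col1_s_180_182 (c : Nat) : Nat := @Bool.rec (fun _ => Nat) (col1_180) (col1_181) (Nat.ble 181 c)
noncomputable def col1_s_179_182 (c : Nat) : Nat := @Bool.rec (fun _ => Nat) (col1_179) (col1_s_180_182 c) (Nat.ble 180 c)
noncomputable def col1_s_176_182 (c : Nat) : Nat := @Bool.rec (fun _ => Nat) (col1_s_176_179 c) (col1_s_179_182 c) (Nat.ble 179 c)
noncomputable def col1_s_183_185 (c : Nat) : Nat := @Bool.rec (fun _ => Nat) (col1_183) (col1_184) (Nat.ble 184 c)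
noncomputable def col1_s_182_185 (c : Nat) : Nat := @Bool.rec (fun _ => Nat) (col1_182) (col1_s_183_185 c) (Nat.ble 183 c)
noncomputable def col1_s_186_188 (c : Nat) : Nat := @Bool.rec (fun _ => Nat) (col1_186) (col1_187) (Nat.ble 187 c)
noncomputable def col1_s_185_188 (c : Nat) : Nat := @Bool.rec (fun _ => Nat) (col1_185) (col1_s_186_188 c) (Nat.ble 186 c)
noncomputable def col1_s_182_188 (c : Nat) : Nat := @Bool.rec (fun _ => Nat) (col1_s_182_185 c) (col1_s_185_188 c) (Nat.ble 185 c)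
noncomputable def col1_s_176_188 (c : Nat) : Nat := @Bool.rec (fun _ => Nat) (col1_s_176_182 c) (col1_s_182_188 c) (Nat.ble 182 c)
noncomputable def col1_s_164_188 (c : Nat) : Nat := @Bool.rec (fun _ => Nat) (col1_s_164_176 c) (col1_s_176_188 c) (Nat.ble 176 c)
noncomputable def col1_s_141_188 (c : Nat) : Nat := @Bool.rec (fun _ => Nat) (col1_s_141_164 c) (col1_s_164_188 c) (Nat.ble 164 c)
noncomputable def col1_s_94_188 (c : Nat) : Nat := @Bool.rec (fun _ => Nat) (col1_s_94_141 c) (col1_s_141_188 c) (Nat.ble 141 c)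
noncomputable def col1_s_0_188 (c : Nat) : Nat := @Bool.rec (fun _ => Nat) (col1_s_0_94 c) (col1_s_94_188 c) (Nat.ble 94 c)
noncomputable def col1_s_188_190 (c : Nat) : Nat := @Bool.rec (fun _ => Nat) (col1_188) (col1_189) (Nat.ble 189 c)
noncomputable def col1_s_191_193 (c : Nat) : Nat := @Bool.rec (fun _ => Nat) (col1_191) (col1_192) (Nat.ble 192 c)
noncomputable def col1_s_190_193 (c : Nat) : Nat := @Bool.rec (fun _ => Nat) (col1_190) (col1_s_191_193 c) (Nat.ble 191 c)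
noncomputable def col1_s_188_193 (c : Nat) : Nat := @Bool.rec (fun _ => Nat) (col1_s_188_190 c) (col1_s_190_193 c) (Nat.ble 190 c)
noncomputable def col1_s_194_196 (c : Nat) : Nat := @Bool.rec (fun _ => Nat) (col1_194) (col1_195) (Nat.ble 195 c)
noncomputable def col1_s_193_196 (c : Nat) : Nat := @Bool.rec (fun _ => Nat) (col1_193) (col1_s_194_196 c) (Nat.ble 194 c)
noncomputable def col1_s_197_199 (c : Nat) : Nat := @Bool.rec (fun _ => Nat) (col1_197) (col1_198) (Nat.ble 198 c)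
noncomputable def col1_s_196_199 (c : Nat) : Nat := @Bool.rec (fun _ => Nat) (col1_196) (col1_s_197_199 c) (Nat.ble 197 c)
noncomputable def col1_s_193_199 (c : Nat) : Nat := @Bool.rec (fun _ => Nat) (col1_s_193_196 c) (col1_s_196_199 c) (Nat.ble 196 c)
noncomputable def col1_s_188_199 (c : Nat) : Nat := @Bool.rec (fun _ => Nat) (col1_s_188_193 c) (col1_s_193_199 c) (Nat.ble 193 c)
noncomputable def col1_s_200_202 (c : Nat) : Nat := @Bool.rec (fun _ => Nat) (col1_200) (col1_201) (Nat.ble 201 c)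
noncomputable def col1_s_199_202 (c : Nat) : Nat := @Bool.rec (fun _ => Nat) (col1_199) (col1_s_200_202 c) (Nat.ble 200 c)
noncomputable def col1_s_203_205 (c : Nat) : Nat := @Bool.rec (fun _ => Nat) (col1_203) (col1_204) (Nat.ble 204 c)
noncomputable def col1_s_202_205 (c : Nat) : Nat := @Bool.rec (fun _ => Nat) (col1_202) (col1_s_203_205 c) (Nat.ble 203 c)
noncomputable def col1_s_199_205 (c : Nat) : Nat := @Bool.rec (fun _ => Nat) (col1_s_199_202 c) (col1_s_202_205 c) (Nat.ble 202 c)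
noncomputable def col1_s_206_208 (c : Nat) : Nat := @Bool.rec (fun _ => Nat) (col1_206) (col1_207) (Nat.ble 207 c)
noncomputable def col1_s_205_208 (c : Nat) : Nat := @Bool.rec (fun _ => Nat) (col1_205) (col1_s_206_208 c) (Nat.ble 206 c)
noncomputable def col1_s_209_211 (c : Nat) : Nat := @Bool.rec (fun _ => Nat) (col1_209) (col1_210) (Nat.ble 210 c)
noncomputable def col1_s_208_211 (c : Nat) : Nat := @Bool.rec (fun _ => Nat) (col1_208) (col1_s_209_211 c) (Nat.ble 209 c)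
noncomputable def col1_s_205_211 (c : Nat) : Nat := @Bool.rec (fun _ => Nat) (col1_s_205_208 c) (col1_s_208_211 c) (Nat.ble 208 c)
noncomputable def col1_s_199_211 (c : Nat) : Nat := @Bool.rec (fun _ => Nat) (col1_s_199_205 c) (col1_s_205_211 c) (Nat.ble 205 c)
noncomputable def col1_s_188_211 (c : Nat) : Nat := @Bool.rec (fun _ => Nat) (col1_s_188_199 c) (col1_s_199_211 c) (Nat.ble 199 c)
noncomputable def col1_s_212_214 (c : Nat) : Nat := @Bool.rec (fun _ => Nat) (col1_212) (col1_213) (Nat.ble 213 c)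
noncomputable def col1_s_211_214 (c : Nat) : Nat := @Bool.rec (fun _ => Nat) (col1_211) (col1_s_212_214 c) (Nat.ble 212 c)
noncomputable def col1_s_215_217 (c : Nat) : Nat := @Bool.rec (fun _ => Nat) (col1_215) (col1_216) (Nat.ble 216 c)
noncomputable def col1_s_214_217 (c : Nat) : Nat := @Bool.rec (fun _ => Nat) (col1_214) (col1_s_215_217 c) (Nat.ble 215 c)
noncomputable def col1_s_211_217 (c : Nat) : Nat := @Bool.rec (fun _ => Nat) (col1_s_211_214 c) (col1_s_214_217 c) (Nat.ble 214 c)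
noncomputable def col1_s_218_220 (c : Nat) : Nat := @Bool.rec (fun _ => Nat) (col1_218) (col1_219) (Nat.ble 219 c)
noncomputable def col1_s_217_220 (c : Nat) : Nat := @Bool.rec (fun _ => Nat) (col1_217) (col1_s_218_220 c) (Nat.ble 218 c)
noncomputable def col1_s_221_223 (c : Nat) : Nat := @Bool.rec (fun _ => Nat) (col1_221) (col1_222) (Nat.ble 222 c)
noncomputable def col1_s_220_223 (c : Nat) : Nat := @Bool.rec (fun _ => Nat) (col1_220) (col1_s_221_223 c) (Nat.ble 221 c)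
noncomputable def col1_s_217_223 (c : Nat) : Nat := @Bool.rec (fun _ => Nat) (col1_s_217_220 c) (col1_s_220_223 c) (Nat.ble 220 c)
noncomputable def col1_s_211_223 (c : Nat) : Nat := @Bool.rec (fun _ => Nat) (col1_s_211_217 c) (col1_s_217_223 c) (Nat.ble 217 c)
noncomputable def col1_s_224_226 (c : Nat) : Nat := @Bool.rec (fun _ => Nat) (col1_224) (col1_225) (Nat.ble 225 c)
noncomputable def col1_s_223_226 (c : Nat) : Nat := @Bool.rec (fun _ => Nat) (col1_223) (col1_s_224_226 c) (Nat.ble 224 c)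
noncomputable def col1_s_227_229 (c : Nat) : Nat := @Bool.rec (fun _ => Nat) (col1_227) (col1_228) (Nat.ble 228 c)
noncomputable def col1_s_226_229 (c : Nat) : Nat := @Bool.rec (fun _ => Nat) (col1_226) (col1_s_227_229 c) (Nat.ble 227 c)
noncomputable def col1_s_223_229 (c : Nat) : Nat := @Bool.rec (fun _ => Nat) (col1_s_223_226 c) (col1_s_226_229 c) (Nat.ble 226 c)
noncomputable def col1_s_230_232 (c : Nat) : Nat := @Bool.rec (fun _ => Nat) (col1_230) (col1_231) (Nat.ble 231 c)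
noncomputable def col1_s_229_232 (c : Nat) : Nat := @Bool.rec (fun _ => Nat) (col1_229) (col1_s_230_232 c) (Nat.ble 230 c)
noncomputable def col1_s_233_235 (c : Nat) : Nat := @Bool.rec (fun _ => Nat) (col1_233) (col1_234) (Nat.ble 234 c)
noncomputable def col1_s_232_235 (c : Nat) : Nat := @Bool.rec (fun _ => Nat) (col1_232) (col1_s_233_235 c) (Nat.ble 233 c)
noncomputable def col1_s_229_235 (c : Nat) : Nat := @Bool.rec (fun _ => Nat) (col1_s_229_232 c) (col1_s_232_235 c) (Nat.ble 232 c)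
noncomputable def col1_s_223_235 (c : Nat) : Nat := @Bool.rec (fun _ => Nat) (col1_s_223_229 c) (col1_s_229_235 c) (Nat.ble 229 c)
noncomputable def col1_s_211_235 (c : Nat) : Nat := @Bool.rec (fun _ => Nat) (col1_s_211_223 c) (col1_s_223_235 c) (Nat.ble 223 c)
noncomputable def col1_s_188_235 (c : Nat) : Nat := @Bool.rec (fun _ => Nat) (col1_s_188_211 c) (col1_s_211_235 c) (Nat.ble 211 c)
noncomputable def col1_s_235_237 (c : Nat) : Nat := @Bool.rec (fun _ => Nat) (col1_235) (col1_236) (Nat.ble 236 c)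
noncomputable def col1_s_238_240 (c : Nat) : Nat := @Bool.rec (fun _ => Nat) (col1_238) (col1_239) (Nat.ble 239 c)
noncomputable def col1_s_237_240 (c : Nat) : Nat := @Bool.rec (fun _ => Nat) (col1_237) (col1_s_238_240 c) (Nat.ble 238 c)
noncomputable def col1_s_235_240 (c : Nat) : Nat := @Bool.rec (fun _ => Nat) (col1_s_235_237 c) (col1_s_237_240 c) (Nat.ble 237 c)
noncomputable def col1_s_241_243 (c : Nat) : Nat := @Bool.rec (fun _ => Nat) (col1_241) (col1_242) (Nat.ble 242 c)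
noncomputable def col1_s_240_243 (c : Nat) : Nat := @Bool.rec (fun _ => Nat) (col1_240) (col1_s_241_243 c) (Nat.ble 241 c)
noncomputable def col1_s_244_246 (c : Nat) : Nat := @Bool.rec (fun _ => Nat) (col1_244) (col1_245) (Nat.ble 245 c)
noncomputable def col1_s_243_246 (c : Nat) : Nat := @Bool.rec (fun _ => Nat) (col1_243) (col1_s_244_246 c) (Nat.ble 244 c)
noncomputable def col1_s_240_246 (c : Nat) : Nat := @Bool.rec (fun _ => Nat) (col1_s_240_243 c) (col1_s_243_246 c) (Nat.ble 243 c)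
noncomputable def col1_s_235_246 (c : Nat) : Nat := @Bool.rec (fun _ => Nat) (col1_s_235_240 c) (col1_s_240_246 c) (Nat.ble 240 c)
noncomputable def col1_s_247_249 (c : Nat) : Nat := @Bool.rec (fun _ => Nat) (col1_247) (col1_248) (Nat.ble 248 c)
noncomputable def col1_s_246_249 (c : Nat) : Nat := @Bool.rec (fun _ => Nat) (col1_246) (col1_s_247_249 c) (Nat.ble 247 c)
noncomputable def col1_s_250_252 (c : Nat) : Nat := @Bool.rec (fun _ => Nat) (col1_250) (col1_251) (Nat.ble 251 c)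
noncomputable def col1_s_249_252 (c : Nat) : Nat := @Bool.rec (fun _ => Nat) (col1_249) (col1_s_250_252 c) (Nat.ble 250 c)
noncomputable def col1_s_246_252 (c : Nat) : Nat := @Bool.rec (fun _ => Nat) (col1_s_246_249 c) (col1_s_249_252 c) (Nat.ble 249 c)
noncomputable def col1_s_253_255 (c : Nat) : Nat := @Bool.rec (fun _ => Nat) (col1_253) (col1_254) (Nat.ble 254 c)
noncomputable def col1_s_252_255 (c : Nat) : Nat := @Bool.rec (fun _ => Nat) (col1_252) (col1_s_253_255 c) (Nat.ble 253 c)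
noncomputable def col1_s_256_258 (c : Nat) : Nat := @Bool.rec (fun _ => Nat) (col1_256) (col1_257) (Nat.ble 257 c)
noncomputable def col1_s_255_258 (c : Nat) : Nat := @Bool.rec (fun _ => Nat) (col1_255) (col1_s_256_258 c) (Nat.ble 256 c)
noncomputable def col1_s_252_258 (c : Nat) : Nat := @Bool.rec (fun _ => Nat) (col1_s_252_255 c) (col1_s_255_258 c) (Nat.ble 255 c)
noncomputable def col1_s_246_258 (c : Nat) : Nat := @Bool.rec (fun _ => Nat) (col1_s_246_252 c) (col1_s_252_258 c) (Nat.ble 252 c)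
noncomputable def col1_s_235_258 (c : Nat) : Nat := @Bool.rec (fun _ => Nat) (col1_s_235_246 c) (col1_s_246_258 c) (Nat.ble 246 c)
noncomputable def col1_s_259_261 (c : Nat) : Nat := @Bool.rec (fun _ => Nat) (col1_259) (col1_260) (Nat.ble 260 c)
noncomputable def col1_s_258_261 (c : Nat) : Nat := @Bool.rec (fun _ => Nat) (col1_258) (col1_s_259_261 c) (Nat.ble 259 c)
noncomputable def col1_s_262_264 (c : Nat) : Nat := @Bool.rec (fun _ => Nat) (col1_262) (col1_263) (Nat.ble 263 c)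
noncomputable def col1_s_261_264 (c : Nat) : Nat := @Bool.rec (fun _ => Nat) (col1_261) (col1_s_262_264 c) (Nat.ble 262 c)
noncomputable def col1_s_258_264 (c : Nat) : Nat := @Bool.rec (fun _ => Nat) (col1_s_258_261 c) (col1_s_261_264 c) (Nat.ble 261 c)
noncomputable def col1_s_265_267 (c : Nat) : Nat := @Bool.rec (fun _ => Nat) (col1_265) (col1_266) (Nat.ble 266 c)
noncomputable def col1_s_264_267 (c : Nat) : Nat := @Bool.rec (fun _ => Nat) (col1_264) (col1_s_265_267 c) (Nat.ble 265 c)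
noncomputable def col1_s_268_270 (c : Nat) : Nat := @Bool.rec (fun _ => Nat) (col1_268) (col1_269) (Nat.ble 269 c)
noncomputable def col1_s_267_270 (c : Nat) : Nat := @Bool.rec (fun _ => Nat) (col1_267) (col1_s_268_270 c) (Nat.ble 268 c)
noncomputable def col1_s_264_270 (c : Nat) : Nat := @Bool.rec (fun _ => Nat) (col1_s_264_267 c) (col1_s_267_270 c) (Nat.ble 267 c)
noncomputable def col1_s_258_270 (c : Nat) : Nat := @Bool.rec (fun _ => Nat) (col1_s_258_264 c) (col1_s_264_270 c) (Nat.ble 264 c)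
noncomputable def col1_s_271_273 (c : Nat) : Nat := @Bool.rec (fun _ => Nat) (col1_271) (col1_272) (Nat.ble 272 c)
noncomputable def col1_s_270_273 (c : Nat) : Nat := @Bool.rec (fun _ => Nat) (col1_270) (col1_s_271_273 c) (Nat.ble 271 c)
noncomputable def col1_s_274_276 (c : Nat) : Nat := @Bool.rec (fun _ => Nat) (col1_274) (col1_275) (Nat.ble 275 c)
noncomputable def col1_s_273_276 (c : Nat) : Nat := @Bool.rec (fun _ => Nat) (col1_273) (col1_s_274_276 c) (Nat.ble 274 c)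
noncomputable def col1_s_270_276 (c : Nat) : Nat := @Bool.rec (fun _ => Nat) (col1_s_270_273 c) (col1_s_273_276 c) (Nat.ble 273 c)
noncomputable def col1_s_277_279 (c : Nat) : Nat := @Bool.rec (fun _ => Nat) (col1_277) (col1_278) (Nat.ble 278 c)
noncomputable def col1_s_276_279 (c : Nat) : Nat := @Bool.rec (fun _ => Nat) (col1_276) (col1_s_277_279 c) (Nat.ble 277 c)
noncomputable def col1_s_280_282 (c : Nat) : Nat := @Bool.rec (fun _ => Nat) (col1_280) (col1_281) (Nat.ble 281 c)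
noncomputable def col1_s_279_282 (c : Nat) : Nat := @Bool.rec (fun _ => Nat) (col1_279) (col1_s_280_282 c) (Nat.ble 280 c)
noncomputable def col1_s_276_282 (c : Nat) : Nat := @Bool.rec (fun _ => Nat) (col1_s_276_279 c) (col1_s_279_282 c) (Nat.ble 279 c)
noncomputable def col1_s_270_282 (c : Nat) : Nat := @Bool.rec (fun _ => Nat) (col1_s_270_276 c) (col1_s_276_282 c) (Nat.ble 276 c)
noncomputable def col1_s_258_282 (c : Nat) : Nat := @Bool.rec (fun _ => Nat) (col1_s_258_270 c) (col1_s_270_282 c) (Nat.ble 270 c)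
noncomputable def col1_s_235_282 (c : Nat) : Nat := @Bool.rec (fun _ => Nat) (col1_s_235_258 c) (col1_s_258_282 c) (Nat.ble 258 c)
noncomputable def col1_s_188_282 (c : Nat) : Nat := @Bool.rec (fun _ => Nat) (col1_s_188_235 c) (col1_s_235_282 c) (Nat.ble 235 c)
noncomputable def col1_s_282_284 (c : Nat) : Nat := @Bool.rec (fun _ => Nat) (col1_282) (col1_283) (Nat.ble 283 c)
noncomputable def col1_s_285_287 (c : Nat) : Nat := @Bool.rec (fun _ => Nat) (col1_285) (col1_286) (Nat.ble 286 c)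
noncomputable def col1_s_284_287 (c : Nat) : Nat := @Bool.rec (fun _ => Nat) (col1_284) (col1_s_285_287 c) (Nat.ble 285 c)
noncomputable def col1_s_282_287 (c : Nat) : Nat := @Bool.rec (fun _ => Nat) (col1_s_282_284 c) (col1_s_284_287 c) (Nat.ble 284 c)
noncomputable def col1_s_288_290 (c : Nat) : Nat := @Bool.rec (fun _ => Nat) (col1_288) (col1_289) (Nat.ble 289 c)
noncomputable def col1_s_287_290 (c : Nat) : Nat := @Bool.rec (fun _ => Nat) (col1_287) (col1_s_288_290 c) (Nat.ble 288 c)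
noncomputable def col1_s_291_293 (c : Nat) : Nat := @Bool.rec (fun _ => Nat) (col1_291) (col1_292) (Nat.ble 292 c)
noncomputable def col1_s_290_293 (c : Nat) : Nat := @Bool.rec (fun _ => Nat) (col1_290) (col1_s_291_293 c) (Nat.ble 291 c)
noncomputable def col1_s_287_293 (c : Nat) : Nat := @Bool.rec (fun _ => Nat) (col1_s_287_290 c) (col1_s_290_293 c) (Nat.ble 290 c)
noncomputable def col1_s_282_293 (c : Nat) : Nat := @Bool.rec (fun _ => Nat) (col1_s_282_287 c) (col1_s_287_293 c) (Nat.ble 287 c)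
noncomputable def col1_s_294_296 (c : Nat) : Nat := @Bool.rec (fun _ => Nat) (col1_294) (col1_295) (Nat.ble 295 c)
noncomputable def col1_s_293_296 (c : Nat) : Nat := @Bool.rec (fun _ => Nat) (col1_293) (col1_s_294_296 c) (Nat.ble 294 c)
noncomputable def col1_s_297_299 (c : Nat) : Nat := @Bool.rec (fun _ => Nat) (col1_297) (col1_298) (Nat.ble 298 c)
noncomputable def col1_s_296_299 (c : Nat) : Nat := @Bool.rec (fun _ => Nat) (col1_296) (col1_s_297_299 c) (Nat.ble 297 c)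
noncomputable def col1_s_293_299 (c : Nat) : Nat := @Bool.rec (fun _ => Nat) (col1_s_293_296 c) (col1_s_296_299 c) (Nat.ble 296 c)
noncomputable def col1_s_300_302 (c : Nat) : Nat := @Bool.rec (fun _ => Nat) (col1_300) (col1_301) (Nat.ble 301 c)
noncomputable def col1_s_299_302 (c : Nat) : Nat := @Bool.rec (fun _ => Nat) (col1_299) (col1_s_300_302 c) (Nat.ble 300 c)
noncomputable def col1_s_303_305 (c : Nat) : Nat := @Bool.rec (fun _ => Nat) (col1_303) (col1_304) (Nat.ble 304 c)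
noncomputable def col1_s_302_305 (c : Nat) : Nat := @Bool.rec (fun _ => Nat) (col1_302) (col1_s_303_305 c) (Nat.ble 303 c)
noncomputable def col1_s_299_305 (c : Nat) : Nat := @Bool.rec (fun _ => Nat) (col1_s_299_302 c) (col1_s_302_305 c) (Nat.ble 302 c)
noncomputable def col1_s_293_305 (c : Nat) : Nat := @Bool.rec (fun _ => Nat) (col1_s_293_299 c) (col1_s_299_305 c) (Nat.ble 299 c)
noncomputable def col1_s_282_305 (c : Nat) : Nat := @Bool.rec (fun _ => Nat) (col1_s_282_293 c) (col1_s_293_305 c) (Nat.ble 293 c)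
noncomputable def col1_s_306_308 (c : Nat) : Nat := @Bool.rec (fun _ => Nat) (col1_306) (col1_307) (Nat.ble 307 c)
noncomputable def col1_s_305_308 (c : Nat) : Nat := @Bool.rec (fun _ => Nat) (col1_305) (col1_s_306_308 c) (Nat.ble 306 c)
noncomputable def col1_s_309_311 (c : Nat) : Nat := @Bool.rec (fun _ => Nat) (col1_309) (col1_310) (Nat.ble 310 c)
noncomputable def col1_s_308_311 (c : Nat) : Nat := @Bool.rec (fun _ => Nat) (col1_308) (col1_s_309_311 c) (Nat.ble 309 c)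
noncomputable def col1_s_305_311 (c : Nat) : Nat := @Bool.rec (fun _ => Nat) (col1_s_305_308 c) (col1_s_308_311 c) (Nat.ble 308 c)
noncomputable def col1_s_312_314 (c : Nat) : Nat := @Bool.rec (fun _ => Nat) (col1_312) (col1_313) (Nat.ble 313 c)
noncomputable def col1_s_311_314 (c : Nat) : Nat := @Bool.rec (fun _ => Nat) (col1_311) (col1_s_312_314 c) (Nat.ble 312 c)
noncomputable def col1_s_315_317 (c : Nat) : Nat := @Bool.rec (fun _ => Nat) (col1_315) (col1_316) (Nat.ble 316 c)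
noncomputable def col1_s_314_317 (c : Nat) : Nat := @Bool.rec (fun _ => Nat) (col1_314) (col1_s_315_317 c) (Nat.ble 315 c)
noncomputable def col1_s_311_317 (c : Nat) : Nat := @Bool.rec (fun _ => Nat) (col1_s_311_314 c) (col1_s_314_317 c) (Nat.ble 314 c)
noncomputable def col1_s_305_317 (c : Nat) : Nat := @Bool.rec (fun _ => Nat) (col1_s_305_311 c) (col1_s_311_317 c) (Nat.ble 311 c)
noncomputable def col1_s_318_320 (c : Nat) : Nat := @Bool.rec (fun _ => Nat) (col1_318) (col1_319) (Nat.ble 319 c)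
noncomputable def col1_s_317_320 (c : Nat) : Nat := @Bool.rec (fun _ => Nat) (col1_317) (col1_s_318_320 c) (Nat.ble 318 c)
noncomputable def col1_s_321_323 (c : Nat) : Nat := @Bool.rec (fun _ => Nat) (col1_321) (col1_322) (Nat.ble 322 c)
noncomputable def col1_s_320_323 (c : Nat) : Nat := @Bool.rec (fun _ => Nat) (col1_320) (col1_s_321_323 c) (Nat.ble 321 c)
noncomputable def col1_s_317_323 (c : Nat) : Nat := @Bool.rec (fun _ => Nat) (col1_s_317_320 c) (col1_s_320_323 c) (Nat.ble 320 c)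
noncomputable def col1_s_324_326 (c : Nat) : Nat := @Bool.rec (fun _ => Nat) (col1_324) (col1_325) (Nat.ble 325 c)
noncomputable def col1_s_323_326 (c : Nat) : Nat := @Bool.rec (fun _ => Nat) (col1_323) (col1_s_324_326 c) (Nat.ble 324 c)
noncomputable def col1_s_327_329 (c : Nat) : Nat := @Bool.rec (fun _ => Nat) (col1_327) (col1_328) (Nat.ble 328 c)
noncomputable def col1_s_326_329 (c : Nat) : Nat := @Bool.rec (fun _ => Nat) (col1_326) (col1_s_327_329 c) (Nat.ble 327 c)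
noncomputable def col1_s_323_329 (c : Nat) : Nat := @Bool.rec (fun _ => Nat) (col1_s_323_326 c) (col1_s_326_329 c) (Nat.ble 326 c)
noncomputable def col1_s_317_329 (c : Nat) : Nat := @Bool.rec (fun _ => Nat) (col1_s_317_323 c) (col1_s_323_329 c) (Nat.ble 323 c)
noncomputable def col1_s_305_329 (c : Nat) : Nat := @Bool.rec (fun _ => Nat) (col1_s_305_317 c) (col1_s_317_329 c) (Nat.ble 317 c)
noncomputable def col1_s_282_329 (c : Nat) : Nat := @Bool.rec (fun _ => Nat) (col1_s_282_305 c) (col1_s_305_329 c) (Nat.ble 305 c)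
noncomputable def col1_s_329_331 (c : Nat) : Nat := @Bool.rec (fun _ => Nat) (col1_329) (col1_330) (Nat.ble 330 c)
noncomputable def col1_s_332_334 (c : Nat) : Nat := @Bool.rec (fun _ => Nat) (col1_332) (col1_333) (Nat.ble 333 c)
noncomputable def col1_s_331_334 (c : Nat) : Nat := @Bool.rec (fun _ => Nat) (col1_331) (col1_s_332_334 c) (Nat.ble 332 c)
noncomputable def col1_s_329_334 (c : Nat) : Nat := @Bool.rec (fun _ => Nat) (col1_s_329_331 c) (col1_s_331_334 c) (Nat.ble 331 c)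
noncomputable def col1_s_335_337 (c : Nat) : Nat := @Bool.rec (fun _ => Nat) (col1_335) (col1_336) (Nat.ble 336 c)
noncomputable def col1_s_334_337 (c : Nat) : Nat := @Bool.rec (fun _ => Nat) (col1_334) (col1_s_335_337 c) (Nat.ble 335 c)
noncomputable def col1_s_338_340 (c : Nat) : Nat := @Bool.rec (fun _ => Nat) (col1_338) (col1_339) (Nat.ble 339 c)
noncomputable def col1_s_337_340 (c : Nat) : Nat := @Bool.rec (fun _ => Nat) (col1_337) (col1_s_338_340 c) (Nat.ble 338 c)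
noncomputable def col1_s_334_340 (c : Nat) : Nat := @Bool.rec (fun _ => Nat) (col1_s_334_337 c) (col1_s_337_340 c) (Nat.ble 337 c)
noncomputable def col1_s_329_340 (c : Nat) : Nat := @Bool.rec (fun _ => Nat) (col1_s_329_334 c) (col1_s_334_340 c) (Nat.ble 334 c)
noncomputable def col1_s_341_343 (c : Nat) : Nat := @Bool.rec (fun _ => Nat) (col1_341) (col1_342) (Nat.ble 342 c)
noncomputable def col1_s_340_343 (c : Nat) : Nat := @Bool.rec (fun _ => Nat) (col1_340) (col1_s_341_343 c) (Nat.ble 341 c)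
noncomputable def col1_s_344_346 (c : Nat) : Nat := @Bool.rec (fun _ => Nat) (col1_344) (col1_345) (Nat.ble 345 c)
noncomputable def col1_s_343_346 (c : Nat) : Nat := @Bool.rec (fun _ => Nat) (col1_343) (col1_s_344_346 c) (Nat.ble 344 c)
noncomputable def col1_s_340_346 (c : Nat) : Nat := @Bool.rec (fun _ => Nat) (col1_s_340_343 c) (col1_s_343_346 c) (Nat.ble 343 c)
noncomputable def col1_s_347_349 (c : Nat) : Nat := @Bool.rec (fun _ => Nat) (col1_347) (col1_348) (Nat.ble 348 c)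
noncomputable def col1_s_346_349 (c : Nat) : Nat := @Bool.rec (fun _ => Nat) (col1_346) (col1_s_347_349 c) (Nat.ble 347 c)
noncomputable def col1_s_350_352 (c : Nat) : Nat := @Bool.rec (fun _ => Nat) (col1_350) (col1_351) (Nat.ble 351 c)
noncomputable def col1_s_349_352 (c : Nat) : Nat := @Bool.rec (fun _ => Nat) (col1_349) (col1_s_350_352 c) (Nat.ble 350 c)
noncomputable def col1_s_346_352 (c : Nat) : Nat := @Bool.rec (fun _ => Nat) (col1_s_346_349 c) (col1_s_349_352 c) (Nat.ble 349 c)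
noncomputable def col1_s_340_352 (c : Nat) : Nat := @Bool.rec (fun _ => Nat) (col1_s_340_346 c) (col1_s_346_352 c) (Nat.ble 346 c)
noncomputable def col1_s_329_352 (c : Nat) : Nat := @Bool.rec (fun _ => Nat) (col1_s_329_340 c) (col1_s_340_352 c) (Nat.ble 340 c)
noncomputable def col1_s_353_355 (c : Nat) : Nat := @Bool.rec (fun _ => Nat) (col1_353) (col1_354) (Nat.ble 354 c)
noncomputable def col1_s_352_355 (c : Nat) : Nat := @Bool.rec (fun _ => Nat) (col1_352) (col1_s_353_355 c) (Nat.ble 353 c)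
noncomputable def col1_s_356_358 (c : Nat) : Nat := @Bool.rec (fun _ => Nat) (col1_356) (col1_357) (Nat.ble 357 c)
noncomputable def col1_s_355_358 (c : Nat) : Nat := @Bool.rec (fun _ => Nat) (col1_355) (col1_s_356_358 c) (Nat.ble 356 c)
noncomputable def col1_s_352_358 (c : Nat) : Nat := @Bool.rec (fun _ => Nat) (col1_s_352_355 c) (col1_s_355_358 c) (Nat.ble 355 c)
noncomputable def col1_s_359_361 (c : Nat) : Nat := @Bool.rec (fun _ => Nat) (col1_359) (col1_360) (Nat.ble 360 c)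
noncomputable def col1_s_358_361 (c : Nat) : Nat := @Bool.rec (fun _ => Nat) (col1_358) (col1_s_359_361 c) (Nat.ble 359 c)
noncomputable def col1_s_362_364 (c : Nat) : Nat := @Bool.rec (fun _ => Nat) (col1_362) (col1_363) (Nat.ble 363 c)
noncomputable def col1_s_361_364 (c : Nat) : Nat := @Bool.rec (fun _ => Nat) (col1_361) (col1_s_362_364 c) (Nat.ble 362 c)
noncomputable def col1_s_358_364 (c : Nat) : Nat := @Bool.rec (fun _ => Nat) (col1_s_358_361 c) (col1_s_361_364 c) (Nat.ble 361 c)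
noncomputable def col1_s_352_364 (c : Nat) : Nat := @Bool.rec (fun _ => Nat) (col1_s_352_358 c) (col1_s_358_364 c) (Nat.ble 358 c)
noncomputable def col1_s_365_367 (c : Nat) : Nat := @Bool.rec (fun _ => Nat) (col1_365) (col1_366) (Nat.ble 366 c)
noncomputable def col1_s_364_367 (c : Nat) : Nat := @Bool.rec (fun _ => Nat) (col1_364) (col1_s_365_367 c) (Nat.ble 365 c)
noncomputable def col1_s_368_370 (c : Nat) : Nat := @Bool.rec (fun _ => Nat) (col1_368) (col1_369) (Nat.ble 369 c)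
noncomputable def col1_s_367_370 (c : Nat) : Nat := @Bool.rec (fun _ => Nat) (col1_367) (col1_s_368_370 c) (Nat.ble 368 c)
noncomputable def col1_s_364_370 (c : Nat) : Nat := @Bool.rec (fun _ => Nat) (col1_s_364_367 c) (col1_s_367_370 c) (Nat.ble 367 c)
noncomputable def col1_s_371_373 (c : Nat) : Nat := @Bool.rec (fun _ => Nat) (col1_371) (col1_372) (Nat.ble 372 c)
noncomputable def col1_s_370_373 (c : Nat) : Nat := @Bool.rec (fun _ => Nat) (col1_370) (col1_s_371_373 c) (Nat.ble 371 c)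
noncomputable def col1_s_374_376 (c : Nat) : Nat := @Bool.rec (fun _ => Nat) (col1_374) (col1_375) (Nat.ble 375 c)
noncomputable def col1_s_373_376 (c : Nat) : Nat := @Bool.rec (fun _ => Nat) (col1_373) (col1_s_374_376 c) (Nat.ble 374 c)
noncomputable def col1_s_370_376 (c : Nat) : Nat := @Bool.rec (fun _ => Nat) (col1_s_370_373 c) (col1_s_373_376 c) (Nat.ble 373 c)
noncomputable def col1_s_364_376 (c : Nat) : Nat := @Bool.rec (fun _ => Nat) (col1_s_364_370 c) (col1_s_370_376 c) (Nat.ble 370 c)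
noncomputable def col1_s_352_376 (c : Nat) : Nat := @Bool.rec (fun _ => Nat) (col1_s_352_364 c) (col1_s_364_376 c) (Nat.ble 364 c)
noncomputable def col1_s_329_376 (c : Nat) : Nat := @Bool.rec (fun _ => Nat) (col1_s_329_352 c) (col1_s_352_376 c) (Nat.ble 352 c)
noncomputable def col1_s_282_376 (c : Nat) : Nat := @Bool.rec (fun _ => Nat) (col1_s_282_329 c) (col1_s_329_376 c) (Nat.ble 329 c)
noncomputable def col1_s_188_376 (c : Nat) : Nat := @Bool.rec (fun _ => Nat) (col1_s_188_282 c) (col1_s_282_376 c) (Nat.ble 282 c)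
noncomputable def col1_s_0_376 (c : Nat) : Nat := @Bool.rec (fun _ => Nat) (col1_s_0_188 c) (col1_s_188_376 c) (Nat.ble 188 c)
noncomputable def col1 (i : Nat) : Nat := rdw 21 2097151 (col1_s_0_376 (Nat.shiftRight i 12)) (Nat.land i 4095)
noncomputable def col2_s_0_2 (c : Nat) : Nat := @Bool.rec (fun _ => Nat) (col2_0) (col2_1) (Nat.ble 1 c)
noncomputable def col2_s_3_5 (c : Nat) : Nat := @Bool.rec (fun _ => Nat) (col2_3) (col2_4) (Nat.ble 4 c)
noncomputable def col2_s_2_5 (c : Nat) : Nat := @Bool.rec (fun _ => Nat) (col2_2) (col2_s_3_5 c) (Nat.ble 3 c)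
noncomputable def col2_s_0_5 (c : Nat) : Nat := @Bool.rec (fun _ => Nat) (col2_s_0_2 c) (col2_s_2_5 c) (Nat.ble 2 c)
noncomputable def col2_s_6_8 (c : Nat) : Nat := @Bool.rec (fun _ => Nat) (col2_6) (col2_7) (Nat.ble 7 c)
noncomputable def col2_s_5_8 (c : Nat) : Nat := @Bool.rec (fun _ => Nat) (col2_5) (col2_s_6_8 c) (Nat.ble 6 c)
noncomputable def col2_s_9_11 (c : Nat) : Nat := @Bool.rec (fun _ => Nat) (col2_9) (col2_10) (Nat.ble 10 c)
noncomputable def col2_s_8_11 (c : Nat) : Nat := @Bool.rec (fun _ => Nat) (col2_8) (col2_s_9_11 c) (Nat.ble 9 c)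
noncomputable def col2_s_5_11 (c : Nat) : Nat := @Bool.rec (fun _ => Nat) (col2_s_5_8 c) (col2_s_8_11 c) (Nat.ble 8 c)
noncomputable def col2_s_0_11 (c : Nat) : Nat := @Bool.rec (fun _ => Nat) (col2_s_0_5 c) (col2_s_5_11 c) (Nat.ble 5 c)
noncomputable def col2_s_12_14 (c : Nat) : Nat := @Bool.rec (fun _ => Nat) (col2_12) (col2_13) (Nat.ble 13 c)
noncomputable def col2_s_11_14 (c : Nat) : Nat := @Bool.rec (fun _ => Nat) (col2_11) (col2_s_12_14 c) (Nat.ble 12 c)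
noncomputable def col2_s_15_17 (c : Nat) : Nat := @Bool.rec (fun _ => Nat) (col2_15) (col2_16) (Nat.ble 16 c)
noncomputable def col2_s_14_17 (c : Nat) : Nat := @Bool.rec (fun _ => Nat) (col2_14) (col2_s_15_17 c) (Nat.ble 15 c)
noncomputable def col2_s_11_17 (c : Nat) : Nat := @Bool.rec (fun _ => Nat) (col2_s_11_14 c) (col2_s_14_17 c) (Nat.ble 14 c)
noncomputable def col2_s_18_20 (c : Nat) : Nat := @Bool.rec (fun _ => Nat) (col2_18) (col2_19) (Nat.ble 19 c)
noncomputable def col2_s_17_20 (c : Nat) : Nat := @Bool.rec (fun _ => Nat) (col2_17) (col2_s_18_20 c) (Nat.ble 18 c)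
noncomputable def col2_s_21_23 (c : Nat) : Nat := @Bool.rec (fun _ => Nat) (col2_21) (col2_22) (Nat.ble 22 c)
noncomputable def col2_s_20_23 (c : Nat) : Nat := @Bool.rec (fun _ => Nat) (col2_20) (col2_s_21_23 c) (Nat.ble 21 c)
noncomputable def col2_s_17_23 (c : Nat) : Nat := @Bool.rec (fun _ => Nat) (col2_s_17_20 c) (col2_s_20_23 c) (Nat.ble 20 c)
noncomputable def col2_s_11_23 (c : Nat) : Nat := @Bool.rec (fun _ => Nat) (col2_s_11_17 c) (col2_s_17_23 c) (Nat.ble 17 c)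
noncomputable def col2_s_0_23 (c : Nat) : Nat := @Bool.rec (fun _ => Nat) (col2_s_0_11 c) (col2_s_11_23 c) (Nat.ble 11 c)
noncomputable def col2_s_24_26 (c : Nat) : Nat := @Bool.rec (fun _ => Nat) (col2_24) (col2_25) (Nat.ble 25 c)
noncomputable def col2_s_23_26 (c : Nat) : Nat := @Bool.rec (fun _ => Nat) (col2_23) (col2_s_24_26 c) (Nat.ble 24 c)
noncomputable def col2_s_27_29 (c : Nat) : Nat := @Bool.rec (fun _ => Nat) (col2_27) (col2_28) (Nat.ble 28 c)
noncomputable def col2_s_26_29 (c : Nat) : Nat := @Bool.rec (fun _ => Nat) (col2_26) (col2_s_27_29 c) (Nat.ble 27 c)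
noncomputable def col2_s_23_29 (c : Nat) : Nat := @Bool.rec (fun _ => Nat) (col2_s_23_26 c) (col2_s_26_29 c) (Nat.ble 26 c)
noncomputable def col2_s_30_32 (c : Nat) : Nat := @Bool.rec (fun _ => Nat) (col2_30) (col2_31) (Nat.ble 31 c)
noncomputable def col2_s_29_32 (c : Nat) : Nat := @Bool.rec (fun _ => Nat) (col2_29) (col2_s_30_32 c) (Nat.ble 30 c)
noncomputable def col2_s_33_35 (c : Nat) : Nat := @Bool.rec (fun _ => Nat) (col2_33) (col2_34) (Nat.ble 34 c)
noncomputable def col2_s_32_35 (c : Nat) : Nat := @Bool.rec (fun _ => Nat) (col2_32) (col2_s_33_35 c) (Nat.ble 33 c)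
noncomputable def col2_s_29_35 (c : Nat) : Nat := @Bool.rec (fun _ => Nat) (col2_s_29_32 c) (col2_s_32_35 c) (Nat.ble 32 c)
noncomputable def col2_s_23_35 (c : Nat) : Nat := @Bool.rec (fun _ => Nat) (col2_s_23_29 c) (col2_s_29_35 c) (Nat.ble 29 c)
noncomputable def col2_s_36_38 (c : Nat) : Nat := @Bool.rec (fun _ => Nat) (col2_36) (col2_37) (Nat.ble 37 c)
noncomputable def col2_s_35_38 (c : Nat) : Nat := @Bool.rec (fun _ => Nat) (col2_35) (col2_s_36_38 c) (Nat.ble 36 c)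
noncomputable def col2_s_39_41 (c : Nat) : Nat := @Bool.rec (fun _ => Nat) (col2_39) (col2_40) (Nat.ble 40 c)
noncomputable def col2_s_38_41 (c : Nat) : Nat := @Bool.rec (fun _ => Nat) (col2_38) (col2_s_39_41 c) (Nat.ble 39 c)
noncomputable def col2_s_35_41 (c : Nat) : Nat := @Bool.rec (fun _ => Nat) (col2_s_35_38 c) (col2_s_38_41 c) (Nat.ble 38 c)
noncomputable def col2_s_42_44 (c : Nat) : Nat := @Bool.rec (fun _ => Nat) (col2_42) (col2_43) (Nat.ble 43 c)
noncomputable def col2_s_41_44 (c : Nat) : Nat := @Bool.rec (fun _ => Nat) (col2_41) (col2_s_42_44 c) (Nat.ble 42 c)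
noncomputable def col2_s_45_47 (c : Nat) : Nat := @Bool.rec (fun _ => Nat) (col2_45) (col2_46) (Nat.ble 46 c)
noncomputable def col2_s_44_47 (c : Nat) : Nat := @Bool.rec (fun _ => Nat) (col2_44) (col2_s_45_47 c) (Nat.ble 45 c)
noncomputable def col2_s_41_47 (c : Nat) : Nat := @Bool.rec (fun _ => Nat) (col2_s_41_44 c) (col2_s_44_47 c) (Nat.ble 44 c)
noncomputable def col2_s_35_47 (c : Nat) : Nat := @Bool.rec (fun _ => Nat) (col2_s_35_41 c) (col2_s_41_47 c) (Nat.ble 41 c)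
noncomputable def col2_s_23_47 (c : Nat) : Nat := @Bool.rec (fun _ => Nat) (col2_s_23_35 c) (col2_s_35_47 c) (Nat.ble 35 c)
noncomputable def col2_s_0_47 (c : Nat) : Nat := @Bool.rec (fun _ => Nat) (col2_s_0_23 c) (col2_s_23_47 c) (Nat.ble 23 c)
noncomputable def col2_s_47_49 (c : Nat) : Nat := @Bool.rec (fun _ => Nat) (col2_47) (col2_48) (Nat.ble 48 c)
noncomputable def col2_s_50_52 (c : Nat) : Nat := @Bool.rec (fun _ => Nat) (col2_50) (col2_51) (Nat.ble 51 c)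
noncomputable def col2_s_49_52 (c : Nat) : Nat := @Bool.rec (fun _ => Nat) (col2_49) (col2_s_50_52 c) (Nat.ble 50 c)
noncomputable def col2_s_47_52 (c : Nat) : Nat := @Bool.rec (fun _ => Nat) (col2_s_47_49 c) (col2_s_49_52 c) (Nat.ble 49 c)
noncomputable def col2_s_53_55 (c : Nat) : Nat := @Bool.rec (fun _ => Nat) (col2_53) (col2_54) (Nat.ble 54 c)
noncomputable def col2_s_52_55 (c : Nat) : Nat := @Bool.rec (fun _ => Nat) (col2_52) (col2_s_53_55 c) (Nat.ble 53 c)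
noncomputable def col2_s_56_58 (c : Nat) : Nat := @Bool.rec (fun _ => Nat) (col2_56) (col2_57) (Nat.ble 57 c)
noncomputable def col2_s_55_58 (c : Nat) : Nat := @Bool.rec (fun _ => Nat) (col2_55) (col2_s_56_58 c) (Nat.ble 56 c)
noncomputable def col2_s_52_58 (c : Nat) : Nat := @Bool.rec (fun _ => Nat) (col2_s_52_55 c) (col2_s_55_58 c) (Nat.ble 55 c)
noncomputable def col2_s_47_58 (c : Nat) : Nat := @Bool.rec (fun _ => Nat) (col2_s_47_52 c) (col2_s_52_58 c) (Nat.ble 52 c)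
noncomputable def col2_s_59_61 (c : Nat) : Nat := @Bool.rec (fun _ => Nat) (col2_59) (col2_60) (Nat.ble 60 c)
noncomputable def col2_s_58_61 (c : Nat) : Nat := @Bool.rec (fun _ => Nat) (col2_58) (col2_s_59_61 c) (Nat.ble 59 c)
noncomputable def col2_s_62_64 (c : Nat) : Nat := @Bool.rec (fun _ => Nat) (col2_62) (col2_63) (Nat.ble 63 c)
noncomputable def col2_s_61_64 (c : Nat) : Nat := @Bool.rec (fun _ => Nat) (col2_61) (col2_s_62_64 c) (Nat.ble 62 c)
noncomputable def col2_s_58_64 (c : Nat) : Nat := @Bool.rec (fun _ => Nat) (col2_s_58_61 c) (col2_s_61_64 c) (Nat.ble 61 c)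
noncomputable def col2_s_65_67 (c : Nat) : Nat := @Bool.rec (fun _ => Nat) (col2_65) (col2_66) (Nat.ble 66 c)
noncomputable def col2_s_64_67 (c : Nat) : Nat := @Bool.rec (fun _ => Nat) (col2_64) (col2_s_65_67 c) (Nat.ble 65 c)
noncomputable def col2_s_68_70 (c : Nat) : Nat := @Bool.rec (fun _ => Nat) (col2_68) (col2_69) (Nat.ble 69 c)
noncomputable def col2_s_67_70 (c : Nat) : Nat := @Bool.rec (fun _ => Nat) (col2_67) (col2_s_68_70 c) (Nat.ble 68 c)
noncomputable def col2_s_64_70 (c : Nat) : Nat := @Bool.rec (fun _ => Nat) (col2_s_64_67 c) (col2_s_67_70 c) (Nat.ble 67 c)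
noncomputable def col2_s_58_70 (c : Nat) : Nat := @Bool.rec (fun _ => Nat) (col2_s_58_64 c) (col2_s_64_70 c) (Nat.ble 64 c)
noncomputable def col2_s_47_70 (c : Nat) : Nat := @Bool.rec (fun _ => Nat) (col2_s_47_58 c) (col2_s_58_70 c) (Nat.ble 58 c)
noncomputable def col2_s_71_73 (c : Nat) : Nat := @Bool.rec (fun _ => Nat) (col2_71) (col2_72) (Nat.ble 72 c)
noncomputable def col2_s_70_73 (c : Nat) : Nat := @Bool.rec (fun _ => Nat) (col2_70) (col2_s_71_73 c) (Nat.ble 71 c)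
noncomputable def col2_s_74_76 (c : Nat) : Nat := @Bool.rec (fun _ => Nat) (col2_74) (col2_75) (Nat.ble 75 c)
noncomputable def col2_s_73_76 (c : Nat) : Nat := @Bool.rec (fun _ => Nat) (col2_73) (col2_s_74_76 c) (Nat.ble 74 c)
noncomputable def col2_s_70_76 (c : Nat) : Nat := @Bool.rec (fun _ => Nat) (col2_s_70_73 c) (col2_s_73_76 c) (Nat.ble 73 c)
noncomputable def col2_s_77_79 (c : Nat) : Nat := @Bool.rec (fun _ => Nat) (col2_77) (col2_78) (Nat.ble 78 c)
noncomputable def col2_s_76_79 (c : Nat) : Nat := @Bool.rec (fun _ => Nat) (col2_76) (col2_s_77_79 c) (Nat.ble 77 c)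
noncomputable def col2_s_80_82 (c : Nat) : Nat := @Bool.rec (fun _ => Nat) (col2_80) (col2_81) (Nat.ble 81 c)
noncomputable def col2_s_79_82 (c : Nat) : Nat := @Bool.rec (fun _ => Nat) (col2_79) (col2_s_80_82 c) (Nat.ble 80 c)
noncomputable def col2_s_76_82 (c : Nat) : Nat := @Bool.rec (fun _ => Nat) (col2_s_76_79 c) (col2_s_79_82 c) (Nat.ble 79 c)
noncomputable def col2_s_70_82 (c : Nat) : Nat := @Bool.rec (fun _ => Nat) (col2_s_70_76 c) (col2_s_76_82 c) (Nat.ble 76 c)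
noncomputable def col2_s_83_85 (c : Nat) : Nat := @Bool.rec (fun _ => Nat) (col2_83) (col2_84) (Nat.ble 84 c)
noncomputable def col2_s_82_85 (c : Nat) : Nat := @Bool.rec (fun _ => Nat) (col2_82) (col2_s_83_85 c) (Nat.ble 83 c)
noncomputable def col2_s_86_88 (c : Nat) : Nat := @Bool.rec (fun _ => Nat) (col2_86) (col2_87) (Nat.ble 87 c)
noncomputable def col2_s_85_88 (c : Nat) : Nat := @Bool.rec (fun _ => Nat) (col2_85) (col2_s_86_88 c) (Nat.ble 86 c)
noncomputable def col2_s_82_88 (c : Nat) : Nat := @Bool.rec (fun _ => Nat) (col2_s_82_85 c) (col2_s_85_88 c) (Nat.ble 85 c)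
noncomputable def col2_s_89_91 (c : Nat) : Nat := @Bool.rec (fun _ => Nat) (col2_89) (col2_90) (Nat.ble 90 c)
noncomputable def col2_s_88_91 (c : Nat) : Nat := @Bool.rec (fun _ => Nat) (col2_88) (col2_s_89_91 c) (Nat.ble 89 c)
noncomputable def col2_s_92_94 (c : Nat) : Nat := @Bool.rec (fun _ => Nat) (col2_92) (col2_93) (Nat.ble 93 c)
noncomputable def col2_s_91_94 (c : Nat) : Nat := @Bool.rec (fun _ => Nat) (col2_91) (col2_s_92_94 c) (Nat.ble 92 c)
noncomputable def col2_s_88_94 (c : Nat) : Nat := @Bool.rec (fun _ => Nat) (col2_s_88_91 c) (col2_s_91_94 c) (Nat.ble 91 c)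
noncomputable def col2_s_82_94 (c : Nat) : Nat := @Bool.rec (fun _ => Nat) (col2_s_82_88 c) (col2_s_88_94 c) (Nat.ble 88 c)
noncomputable def col2_s_70_94 (c : Nat) : Nat := @Bool.rec (fun _ => Nat) (col2_s_70_82 c) (col2_s_82_94 c) (Nat.ble 82 c)
noncomputable def col2_s_47_94 (c : Nat) : Nat := @Bool.rec (fun _ => Nat) (col2_s_47_70 c) (col2_s_70_94 c) (Nat.ble 70 c)
noncomputable def col2_s_0_94 (c : Nat) : Nat := @Bool.rec (fun _ => Nat) (col2_s_0_47 c) (col2_s_47_94 c) (Nat.ble 47 c)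
noncomputable def col2_s_94_96 (c : Nat) : Nat := @Bool.rec (fun _ => Nat) (col2_94) (col2_95) (Nat.ble 95 c)
noncomputable def col2_s_97_99 (c : Nat) : Nat := @Bool.rec (fun _ => Nat) (col2_97) (col2_98) (Nat.ble 98 c)
noncomputable def col2_s_96_99 (c : Nat) : Nat := @Bool.rec (fun _ => Nat) (col2_96) (col2_s_97_99 c) (Nat.ble 97 c)
noncomputable def col2_s_94_99 (c : Nat) : Nat := @Bool.rec (fun _ => Nat) (col2_s_94_96 c) (col2_s_96_99 c) (Nat.ble 96 c)
noncomputable def col2_s_100_102 (c : Nat) : Nat := @Bool.rec (fun _ => Nat) (col2_100) (col2_101) (Nat.ble 101 c)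
noncomputable def col2_s_99_102 (c : Nat) : Nat := @Bool.rec (fun _ => Nat) (col2_99) (col2_s_100_102 c) (Nat.ble 100 c)
noncomputable def col2_s_103_105 (c : Nat) : Nat := @Bool.rec (fun _ => Nat) (col2_103) (col2_104) (Nat.ble 104 c)
noncomputable def col2_s_102_105 (c : Nat) : Nat := @Bool.rec (fun _ => Nat) (col2_102) (col2_s_103_105 c) (Nat.ble 103 c)
noncomputable def col2_s_99_105 (c : Nat) : Nat := @Bool.rec (fun _ => Nat) (col2_s_99_102 c) (col2_s_102_105 c) (Nat.ble 102 c)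
noncomputable def col2_s_94_105 (c : Nat) : Nat := @Bool.rec (fun _ => Nat) (col2_s_94_99 c) (col2_s_99_105 c) (Nat.ble 99 c)
noncomputable def col2_s_106_108 (c : Nat) : Nat := @Bool.rec (fun _ => Nat) (col2_106) (col2_107) (Nat.ble 107 c)
noncomputable def col2_s_105_108 (c : Nat) : Nat := @Bool.rec (fun _ => Nat) (col2_105) (col2_s_106_108 c) (Nat.ble 106 c)
noncomputable def col2_s_109_111 (c : Nat) : Nat := @Bool.rec (fun _ => Nat) (col2_109) (col2_110) (Nat.ble 110 c)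
noncomputable def col2_s_108_111 (c : Nat) : Nat := @Bool.rec (fun _ => Nat) (col2_108) (col2_s_109_111 c) (Nat.ble 109 c)
noncomputable def col2_s_105_111 (c : Nat) : Nat := @Bool.rec (fun _ => Nat) (col2_s_105_108 c) (col2_s_108_111 c) (Nat.ble 108 c)
noncomputable def col2_s_112_114 (c : Nat) : Nat := @Bool.rec (fun _ => Nat) (col2_112) (col2_113) (Nat.ble 113 c)
noncomputable def col2_s_111_114 (c : Nat) : Nat := @Bool.rec (fun _ => Nat) (col2_111) (col2_s_112_114 c) (Nat.ble 112 c)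
noncomputable def col2_s_115_117 (c : Nat) : Nat := @Bool.rec (fun _ => Nat) (col2_115) (col2_116) (Nat.ble 116 c)
noncomputable def col2_s_114_117 (c : Nat) : Nat := @Bool.rec (fun _ => Nat) (col2_114) (col2_s_115_117 c) (Nat.ble 115 c)
noncomputable def col2_s_111_117 (c : Nat) : Nat := @Bool.rec (fun _ => Nat) (col2_s_111_114 c) (col2_s_114_117 c) (Nat.ble 114 c)
noncomputable def col2_s_105_117 (c : Nat) : Nat := @Bool.rec (fun _ => Nat) (col2_s_105_111 c) (col2_s_111_117 c) (Nat.ble 111 c)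
noncomputable def col2_s_94_117 (c : Nat) : Nat := @Bool.rec (fun _ => Nat) (col2_s_94_105 c) (col2_s_105_117 c) (Nat.ble 105 c)
noncomputable def col2_s_118_120 (c : Nat) : Nat := @Bool.rec (fun _ => Nat) (col2_118) (col2_119) (Nat.ble 119 c)
noncomputable def col2_s_117_120 (c : Nat) : Nat := @Bool.rec (fun _ => Nat) (col2_117) (col2_s_118_120 c) (Nat.ble 118 c)
noncomputable def col2_s_121_123 (c : Nat) : Nat := @Bool.rec (fun _ => Nat) (col2_121) (col2_122) (Nat.ble 122 c)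
noncomputable def col2_s_120_123 (c : Nat) : Nat := @Bool.rec (fun _ => Nat) (col2_120) (col2_s_121_123 c) (Nat.ble 121 c)
noncomputable def col2_s_117_123 (c : Nat) : Nat := @Bool.rec (fun _ => Nat) (col2_s_117_120 c) (col2_s_120_123 c) (Nat.ble 120 c)
noncomputable def col2_s_124_126 (c : Nat) : Nat := @Bool.rec (fun _ => Nat) (col2_124) (col2_125) (Nat.ble 125 c)
noncomputable def col2_s_123_126 (c : Nat) : Nat := @Bool.rec (fun _ => Nat) (col2_123) (col2_s_124_126 c) (Nat.ble 124 c)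
noncomputable def col2_s_127_129 (c : Nat) : Nat := @Bool.rec (fun _ => Nat) (col2_127) (col2_128) (Nat.ble 128 c)
noncomputable def col2_s_126_129 (c : Nat) : Nat := @Bool.rec (fun _ => Nat) (col2_126) (col2_s_127_129 c) (Nat.ble 127 c)
noncomputable def col2_s_123_129 (c : Nat) : Nat := @Bool.rec (fun _ => Nat) (col2_s_123_126 c) (col2_s_126_129 c) (Nat.ble 126 c)
noncomputable def col2_s_117_129 (c : Nat) : Nat := @Bool.rec (fun _ => Nat) (col2_s_117_123 c) (col2_s_123_129 c) (Nat.ble 123 c)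
noncomputable def col2_s_130_132 (c : Nat) : Nat := @Bool.rec (fun _ => Nat) (col2_130) (col2_131) (Nat.ble 131 c)
noncomputable def col2_s_129_132 (c : Nat) : Nat := @Bool.rec (fun _ => Nat) (col2_129) (col2_s_130_132 c) (Nat.ble 130 c)
noncomputable def col2_s_133_135 (c : Nat) : Nat := @Bool.rec (fun _ => Nat) (col2_133) (col2_134) (Nat.ble 134 c)
noncomputable def col2_s_132_135 (c : Nat) : Nat := @Bool.rec (fun _ => Nat) (col2_132) (col2_s_133_135 c) (Nat.ble 133 c)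
noncomputable def col2_s_129_135 (c : Nat) : Nat := @Bool.rec (fun _ => Nat) (col2_s_129_132 c) (col2_s_132_135 c) (Nat.ble 132 c)
noncomputable def col2_s_136_138 (c : Nat) : Nat := @Bool.rec (fun _ => Nat) (col2_136) (col2_137) (Nat.ble 137 c)
noncomputable def col2_s_135_138 (c : Nat) : Nat := @Bool.rec (fun _ => Nat) (col2_135) (col2_s_136_138 c) (Nat.ble 136 c)
noncomputable def col2_s_139_141 (c : Nat) : Nat := @Bool.rec (fun _ => Nat) (col2_139) (col2_140) (Nat.ble 140 c)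
noncomputable def col2_s_138_141 (c : Nat) : Nat := @Bool.rec (fun _ => Nat) (col2_138) (col2_s_139_141 c) (Nat.ble 139 c)
noncomputable def col2_s_135_141 (c : Nat) : Nat := @Bool.rec (fun _ => Nat) (col2_s_135_138 c) (col2_s_138_141 c) (Nat.ble 138 c)
noncomputable def col2_s_129_141 (c : Nat) : Nat := @Bool.rec (fun _ => Nat) (col2_s_129_135 c) (col2_s_135_141 c) (Nat.ble 135 c)
noncomputable def col2_s_117_141 (c : Nat) : Nat := @Bool.rec (fun _ => Nat) (col2_s_117_129 c) (col2_s_129_141 c) (Nat.ble 129 c)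
noncomputable def col2_s_94_141 (c : Nat) : Nat := @Bool.rec (fun _ => Nat) (col2_s_94_117 c) (col2_s_117_141 c) (Nat.ble 117 c)
noncomputable def col2_s_141_143 (c : Nat) : Nat := @Bool.rec (fun _ => Nat) (col2_141) (col2_142) (Nat.ble 142 c)
noncomputable def col2_s_144_146 (c : Nat) : Nat := @Bool.rec (fun _ => Nat) (col2_144) (col2_145) (Nat.ble 145 c)
noncomputable def col2_s_143_146 (c : Nat) : Nat := @Bool.rec (fun _ => Nat) (col2_143) (col2_s_144_146 c) (Nat.ble 144 c)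
noncomputable def col2_s_141_146 (c : Nat) : Nat := @Bool.rec (fun _ => Nat) (col2_s_141_143 c) (col2_s_143_146 c) (Nat.ble 143 c)
noncomputable def col2_s_147_149 (c : Nat) : Nat := @Bool.rec (fun _ => Nat) (col2_147) (col2_148) (Nat.ble 148 c)
noncomputable def col2_s_146_149 (c : Nat) : Nat := @Bool.rec (fun _ => Nat) (col2_146) (col2_s_147_149 c) (Nat.ble 147 c)
noncomputable def col2_s_150_152 (c : Nat) : Nat := @Bool.rec (fun _ => Nat) (col2_150) (col2_151) (Nat.ble 151 c)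
noncomputable def col2_s_149_152 (c : Nat) : Nat := @Bool.rec (fun _ => Nat) (col2_149) (col2_s_150_152 c) (Nat.ble 150 c)
noncomputable def col2_s_146_152 (c : Nat) : Nat := @Bool.rec (fun _ => Nat) (col2_s_146_149 c) (col2_s_149_152 c) (Nat.ble 149 c)
noncomputable def col2_s_141_152 (c : Nat) : Nat := @Bool.rec (fun _ => Nat) (col2_s_141_146 c) (col2_s_146_152 c) (Nat.ble 146 c)
noncomputable def col2_s_153_155 (c : Nat) : Nat := @Bool.rec (fun _ => Nat) (col2_153) (col2_154) (Nat.ble 154 c)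
noncomputable def col2_s_152_155 (c : Nat) : Nat := @Bool.rec (fun _ => Nat) (col2_152) (col2_s_153_155 c) (Nat.ble 153 c)
noncomputable def col2_s_156_158 (c : Nat) : Nat := @Bool.rec (fun _ => Nat) (col2_156) (col2_157) (Nat.ble 157 c)
noncomputable def col2_s_155_158 (c : Nat) : Nat := @Bool.rec (fun _ => Nat) (col2_155) (col2_s_156_158 c) (Nat.ble 156 c)
noncomputable def col2_s_152_158 (c : Nat) : Nat := @Bool.rec (fun _ => Nat) (col2_s_152_155 c) (col2_s_155_158 c) (Nat.ble 155 c)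
noncomputable def col2_s_159_161 (c : Nat) : Nat := @Bool.rec (fun _ => Nat) (col2_159) (col2_160) (Nat.ble 160 c)
noncomputable def col2_s_158_161 (c : Nat) : Nat := @Bool.rec (fun _ => Nat) (col2_158) (col2_s_159_161 c) (Nat.ble 159 c)
noncomputable def col2_s_162_164 (c : Nat) : Nat := @Bool.rec (fun _ => Nat) (col2_162) (col2_163) (Nat.ble 163 c)
noncomputable def col2_s_161_164 (c : Nat) : Nat := @Bool.rec (fun _ => Nat) (col2_161) (col2_s_162_164 c) (Nat.ble 162 c)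
noncomputable def col2_s_158_164 (c : Nat) : Nat := @Bool.rec (fun _ => Nat) (col2_s_158_161 c) (col2_s_161_164 c) (Nat.ble 161 c)
noncomputable def col2_s_152_164 (c : Nat) : Nat := @Bool.rec (fun _ => Nat) (col2_s_152_158 c) (col2_s_158_164 c) (Nat.ble 158 c)
noncomputable def col2_s_141_164 (c : Nat) : Nat := @Bool.rec (fun _ => Nat) (col2_s_141_152 c) (col2_s_152_164 c) (Nat.ble 152 c)
noncomputable def col2_s_165_167 (c : Nat) : Nat := @Bool.rec (fun _ => Nat) (col2_165) (col2_166) (Nat.ble 166 c)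
noncomputable def col2_s_164_167 (c : Nat) : Nat := @Bool.rec (fun _ => Nat) (col2_164) (col2_s_165_167 c) (Nat.ble 165 c)
noncomputable def col2_s_168_170 (c : Nat) : Nat := @Bool.rec (fun _ => Nat) (col2_168) (col2_169) (Nat.ble 169 c)
noncomputable def col2_s_167_170 (c : Nat) : Nat := @Bool.rec (fun _ => Nat) (col2_167) (col2_s_168_170 c) (Nat.ble 168 c)
noncomputable def col2_s_164_170 (c : Nat) : Nat := @Bool.rec (fun _ => Nat) (col2_s_164_167 c) (col2_s_167_170 c) (Nat.ble 167 c)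
noncomputable def col2_s_171_173 (c : Nat) : Nat := @Bool.rec (fun _ => Nat) (col2_171) (col2_172) (Nat.ble 172 c)
noncomputable def col2_s_170_173 (c : Nat) : Nat := @Bool.rec (fun _ => Nat) (col2_170) (col2_s_171_173 c) (Nat.ble 171 c)
noncomputable def col2_s_174_176 (c : Nat) : Nat := @Bool.rec (fun _ => Nat) (col2_174) (col2_175) (Nat.ble 175 c)
noncomputable def col2_s_173_176 (c : Nat) : Nat := @Bool.rec (fun _ => Nat) (col2_173) (col2_s_174_176 c) (Nat.ble 174 c)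
noncomputable def col2_s_170_176 (c : Nat) : Nat := @Bool.rec (fun _ => Nat) (col2_s_170_173 c) (col2_s_173_176 c) (Nat.ble 173 c)
noncomputable def col2_s_164_176 (c : Nat) : Nat := @Bool.rec (fun _ => Nat) (col2_s_164_170 c) (col2_s_170_176 c) (Nat.ble 170 c)
noncomputable def col2_s_177_179 (c : Nat) : Nat := @Bool.rec (fun _ => Nat) (col2_177) (col2_178) (Nat.ble 178 c)
noncomputable def col2_s_176_179 (c : Nat) : Nat := @Bool.rec (fun _ => Nat) (col2_176) (col2_s_177_179 c) (Nat.ble 177 c)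
noncomputable def col2_s_180_182 (c : Nat) : Nat := @Bool.rec (fun _ => Nat) (col2_180) (col2_181) (Nat.ble 181 c)
noncomputable def col2_s_179_182 (c : Nat) : Nat := @Bool.rec (fun _ => Nat) (col2_179) (col2_s_180_182 c) (Nat.ble 180 c)
noncomputable def col2_s_176_182 (c : Nat) : Nat := @Bool.rec (fun _ => Nat) (col2_s_176_179 c) (col2_s_179_182 c) (Nat.ble 179 c)
noncomputable def col2_s_183_185 (c : Nat) : Nat := @Bool.rec (fun _ => Nat) (col2_183) (col2_184) (Nat.ble 184 c)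
noncomputable def col2_s_182_185 (c : Nat) : Nat := @Bool.rec (fun _ => Nat) (col2_182) (col2_s_183_185 c) (Nat.ble 183 c)
noncomputable def col2_s_186_188 (c : Nat) : Nat := @Bool.rec (fun _ => Nat) (col2_186) (col2_187) (Nat.ble 187 c)
noncomputable def col2_s_185_188 (c : Nat) : Nat := @Bool.rec (fun _ => Nat) (col2_185) (col2_s_186_188 c) (Nat.ble 186 c)
noncomputable def col2_s_182_188 (c : Nat) : Nat := @Bool.rec (fun _ => Nat) (col2_s_182_185 c) (col2_s_185_188 c) (Nat.ble 185 c)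
noncomputable def col2_s_176_188 (c : Nat) : Nat := @Bool.rec (fun _ => Nat) (col2_s_176_182 c) (col2_s_182_188 c) (Nat.ble 182 c)
noncomputable def col2_s_164_188 (c : Nat) : Nat := @Bool.rec (fun _ => Nat) (col2_s_164_176 c) (col2_s_176_188 c) (Nat.ble 176 c)
noncomputable def col2_s_141_188 (c : Nat) : Nat := @Bool.rec (fun _ => Nat) (col2_s_141_164 c) (col2_s_164_188 c) (Nat.ble 164 c)
noncomputable def col2_s_94_188 (c : Nat) : Nat := @Bool.rec (fun _ => Nat) (col2_s_94_141 c) (col2_s_141_188 c) (Nat.ble 141 c)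
noncomputable def col2_s_0_188 (c : Nat) : Nat := @Bool.rec (fun _ => Nat) (col2_s_0_94 c) (col2_s_94_188 c) (Nat.ble 94 c)
noncomputable def col2_s_188_190 (c : Nat) : Nat := @Bool.rec (fun _ => Nat) (col2_188) (col2_189) (Nat.ble 189 c)
noncomputable def col2_s_191_193 (c : Nat) : Nat := @Bool.rec (fun _ => Nat) (col2_191) (col2_192) (Nat.ble 192 c)
noncomputable def col2_s_190_193 (c : Nat) : Nat := @Bool.rec (fun _ => Nat) (col2_190) (col2_s_191_193 c) (Nat.ble 191 c)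
noncomputable def col2_s_188_193 (c : Nat) : Nat := @Bool.rec (fun _ => Nat) (col2_s_188_190 c) (col2_s_190_193 c) (Nat.ble 190 c)
noncomputable def col2_s_194_196 (c : Nat) : Nat := @Bool.rec (fun _ => Nat) (col2_194) (col2_195) (Nat.ble 195 c)
noncomputable def col2_s_193_196 (c : Nat) : Nat := @Bool.rec (fun _ => Nat) (col2_193) (col2_s_194_196 c) (Nat.ble 194 c)
noncomputable def col2_s_197_199 (c : Nat) : Nat := @Bool.rec (fun _ => Nat) (col2_197) (col2_198) (Nat.ble 198 c)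
noncomputable def col2_s_196_199 (c : Nat) : Nat := @Bool.rec (fun _ => Nat) (col2_196) (col2_s_197_199 c) (Nat.ble 197 c)
noncomputable def col2_s_193_199 (c : Nat) : Nat := @Bool.rec (fun _ => Nat) (col2_s_193_196 c) (col2_s_196_199 c) (Nat.ble 196 c)
noncomputable def col2_s_188_199 (c : Nat) : Nat := @Bool.rec (fun _ => Nat) (col2_s_188_193 c) (col2_s_193_199 c) (Nat.ble 193 c)
noncomputable def col2_s_200_202 (c : Nat) : Nat := @Bool.rec (fun _ => Nat) (col2_200) (col2_201) (Nat.ble 201 c)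
noncomputable def col2_s_199_202 (c : Nat) : Nat := @Bool.rec (fun _ => Nat) (col2_199) (col2_s_200_202 c) (Nat.ble 200 c)
noncomputable def col2_s_203_205 (c : Nat) : Nat := @Bool.rec (fun _ => Nat) (col2_203) (col2_204) (Nat.ble 204 c)
noncomputable def col2_s_202_205 (c : Nat) : Nat := @Bool.rec (fun _ => Nat) (col2_202) (col2_s_203_205 c) (Nat.ble 203 c)
noncomputable def col2_s_199_205 (c : Nat) : Nat := @Bool.rec (fun _ => Nat) (col2_s_199_202 c) (col2_s_202_205 c) (Nat.ble 202 c)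
noncomputable def col2_s_206_208 (c : Nat) : Nat := @Bool.rec (fun _ => Nat) (col2_206) (col2_207) (Nat.ble 207 c)
noncomputable def col2_s_205_208 (c : Nat) : Nat := @Bool.rec (fun _ => Nat) (col2_205) (col2_s_206_208 c) (Nat.ble 206 c)
noncomputable def col2_s_209_211 (c : Nat) : Nat := @Bool.rec (fun _ => Nat) (col2_209) (col2_210) (Nat.ble 210 c)
noncomputable def col2_s_208_211 (c : Nat) : Nat := @Bool.rec (fun _ => Nat) (col2_208) (col2_s_209_211 c) (Nat.ble 209 c)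
noncomputable def col2_s_205_211 (c : Nat) : Nat := @Bool.rec (fun _ => Nat) (col2_s_205_208 c) (col2_s_208_211 c) (Nat.ble 208 c)
noncomputable def col2_s_199_211 (c : Nat) : Nat := @Bool.rec (fun _ => Nat) (col2_s_199_205 c) (col2_s_205_211 c) (Nat.ble 205 c)
noncomputable def col2_s_188_211 (c : Nat) : Nat := @Bool.rec (fun _ => Nat) (col2_s_188_199 c) (col2_s_199_211 c) (Nat.ble 199 c)
noncomputable def col2_s_212_214 (c : Nat) : Nat := @Bool.rec (fun _ => Nat) (col2_212) (col2_213) (Nat.ble 213 c)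
noncomputable def col2_s_211_214 (c : Nat) : Nat := @Bool.rec (fun _ => Nat) (col2_211) (col2_s_212_214 c) (Nat.ble 212 c)
noncomputable def col2_s_215_217 (c : Nat) : Nat := @Bool.rec (fun _ => Nat) (col2_215) (col2_216) (Nat.ble 216 c)
noncomputable def col2_s_214_217 (c : Nat) : Nat := @Bool.rec (fun _ => Nat) (col2_214) (col2_s_215_217 c) (Nat.ble 215 c)
noncomputable def col2_s_211_217 (c : Nat) : Nat := @Bool.rec (fun _ => Nat) (col2_s_211_214 c) (col2_s_214_217 c) (Nat.ble 214 c)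
noncomputable def col2_s_218_220 (c : Nat) : Nat := @Bool.rec (fun _ => Nat) (col2_218) (col2_219) (Nat.ble 219 c)
noncomputable def col2_s_217_220 (c : Nat) : Nat := @Bool.rec (fun _ => Nat) (col2_217) (col2_s_218_220 c) (Nat.ble 218 c)
noncomputable def col2_s_221_223 (c : Nat) : Nat := @Bool.rec (fun _ => Nat) (col2_221) (col2_222) (Nat.ble 222 c)
noncomputable def col2_s_220_223 (c : Nat) : Nat := @Bool.rec (fun _ => Nat) (col2_220) (col2_s_221_223 c) (Nat.ble 221 c)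
noncomputable def col2_s_217_223 (c : Nat) : Nat := @Bool.rec (fun _ => Nat) (col2_s_217_220 c) (col2_s_220_223 c) (Nat.ble 220 c)
noncomputable def col2_s_211_223 (c : Nat) : Nat := @Bool.rec (fun _ => Nat) (col2_s_211_217 c) (col2_s_217_223 c) (Nat.ble 217 c)
noncomputable def col2_s_224_226 (c : Nat) : Nat := @Bool.rec (fun _ => Nat) (col2_224) (col2_225) (Nat.ble 225 c)
noncomputable def col2_s_223_226 (c : Nat) : Nat := @Bool.rec (fun _ => Nat) (col2_223) (col2_s_224_226 c) (Nat.ble 224 c)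
noncomputable def col2_s_227_229 (c : Nat) : Nat := @Bool.rec (fun _ => Nat) (col2_227) (col2_228) (Nat.ble 228 c)
noncomputable def col2_s_226_229 (c : Nat) : Nat := @Bool.rec (fun _ => Nat) (col2_226) (col2_s_227_229 c) (Nat.ble 227 c)
noncomputable def col2_s_223_229 (c : Nat) : Nat := @Bool.rec (fun _ => Nat) (col2_s_223_226 c) (col2_s_226_229 c) (Nat.ble 226 c)
noncomputable def col2_s_230_232 (c : Nat) : Nat := @Bool.rec (fun _ => Nat) (col2_230) (col2_231) (Nat.ble 231 c)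
noncomputable def col2_s_229_232 (c : Nat) : Nat := @Bool.rec (fun _ => Nat) (col2_229) (col2_s_230_232 c) (Nat.ble 230 c)
noncomputable def col2_s_233_235 (c : Nat) : Nat := @Bool.rec (fun _ => Nat) (col2_233) (col2_234) (Nat.ble 234 c)
noncomputable def col2_s_232_235 (c : Nat) : Nat := @Bool.rec (fun _ => Nat) (col2_232) (col2_s_233_235 c) (Nat.ble 233 c)
noncomputable def col2_s_229_235 (c : Nat) : Nat := @Bool.rec (fun _ => Nat) (col2_s_229_232 c) (col2_s_232_235 c) (Nat.ble 232 c)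
noncomputable def col2_s_223_235 (c : Nat) : Nat := @Bool.rec (fun _ => Nat) (col2_s_223_229 c) (col2_s_229_235 c) (Nat.ble 229 c)
noncomputable def col2_s_211_235 (c : Nat) : Nat := @Bool.rec (fun _ => Nat) (col2_s_211_223 c) (col2_s_223_235 c) (Nat.ble 223 c)
noncomputable def col2_s_188_235 (c : Nat) : Nat := @Bool.rec (fun _ => Nat) (col2_s_188_211 c) (col2_s_211_235 c) (Nat.ble 211 c)
noncomputable def col2_s_235_237 (c : Nat) : Nat := @Bool.rec (fun _ => Nat) (col2_235) (col2_236) (Nat.ble 236 c)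
noncomputable def col2_s_238_240 (c : Nat) : Nat := @Bool.rec (fun _ => Nat) (col2_238) (col2_239) (Nat.ble 239 c)
noncomputable def col2_s_237_240 (c : Nat) : Nat := @Bool.rec (fun _ => Nat) (col2_237) (col2_s_238_240 c) (Nat.ble 238 c)
noncomputable def col2_s_235_240 (c : Nat) : Nat := @Bool.rec (fun _ => Nat) (col2_s_235_237 c) (col2_s_237_240 c) (Nat.ble 237 c)
noncomputable def col2_s_241_243 (c : Nat) : Nat := @Bool.rec (fun _ => Nat) (col2_241) (col2_242) (Nat.ble 242 c)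
noncomputable def col2_s_240_243 (c : Nat) : Nat := @Bool.rec (fun _ => Nat) (col2_240) (col2_s_241_243 c) (Nat.ble 241 c)
noncomputable def col2_s_244_246 (c : Nat) : Nat := @Bool.rec (fun _ => Nat) (col2_244) (col2_245) (Nat.ble 245 c)
noncomputable def col2_s_243_246 (c : Nat) : Nat := @Bool.rec (fun _ => Nat) (col2_243) (col2_s_244_246 c) (Nat.ble 244 c)
noncomputable def col2_s_240_246 (c : Nat) : Nat := @Bool.rec (fun _ => Nat) (col2_s_240_243 c) (col2_s_243_246 c) (Nat.ble 243 c)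
noncomputable def col2_s_235_246 (c : Nat) : Nat := @Bool.rec (fun _ => Nat) (col2_s_235_240 c) (col2_s_240_246 c) (Nat.ble 240 c)
noncomputable def col2_s_247_249 (c : Nat) : Nat := @Bool.rec (fun _ => Nat) (col2_247) (col2_248) (Nat.ble 248 c)
noncomputable def col2_s_246_249 (c : Nat) : Nat := @Bool.rec (fun _ => Nat) (col2_246) (col2_s_247_249 c) (Nat.ble 247 c)
noncomputable def col2_s_250_252 (c : Nat) : Nat := @Bool.rec (fun _ => Nat) (col2_250) (col2_251) (Nat.ble 251 c)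
noncomputable def col2_s_249_252 (c : Nat) : Nat := @Bool.rec (fun _ => Nat) (col2_249) (col2_s_250_252 c) (Nat.ble 250 c)
noncomputable def col2_s_246_252 (c : Nat) : Nat := @Bool.rec (fun _ => Nat) (col2_s_246_249 c) (col2_s_249_252 c) (Nat.ble 249 c)
noncomputable def col2_s_253_255 (c : Nat) : Nat := @Bool.rec (fun _ => Nat) (col2_253) (col2_254) (Nat.ble 254 c)
noncomputable def col2_s_252_255 (c : Nat) : Nat := @Bool.rec (fun _ => Nat) (col2_252) (col2_s_253_255 c) (Nat.ble 253 c)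
noncomputable def col2_s_256_258 (c : Nat) : Nat := @Bool.rec (fun _ => Nat) (col2_256) (col2_257) (Nat.ble 257 c)
noncomputable def col2_s_255_258 (c : Nat) : Nat := @Bool.rec (fun _ => Nat) (col2_255) (col2_s_256_258 c) (Nat.ble 256 c)
noncomputable def col2_s_252_258 (c : Nat) : Nat := @Bool.rec (fun _ => Nat) (col2_s_252_255 c) (col2_s_255_258 c) (Nat.ble 255 c)
noncomputable def col2_s_246_258 (c : Nat) : Nat := @Bool.rec (fun _ => Nat) (col2_s_246_252 c) (col2_s_252_258 c) (Nat.ble 252 c)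
noncomputable def col2_s_235_258 (c : Nat) : Nat := @Bool.rec (fun _ => Nat) (col2_s_235_246 c) (col2_s_246_258 c) (Nat.ble 246 c)
noncomputable def col2_s_259_261 (c : Nat) : Nat := @Bool.rec (fun _ => Nat) (col2_259) (col2_260) (Nat.ble 260 c)
noncomputable def col2_s_258_261 (c : Nat) : Nat := @Bool.rec (fun _ => Nat) (col2_258) (col2_s_259_261 c) (Nat.ble 259 c)
noncomputable def col2_s_262_264 (c : Nat) : Nat := @Bool.rec (fun _ => Nat) (col2_262) (col2_263) (Nat.ble 263 c)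
noncomputable def col2_s_261_264 (c : Nat) : Nat := @Bool.rec (fun _ => Nat) (col2_261) (col2_s_262_264 c) (Nat.ble 262 c)
noncomputable def col2_s_258_264 (c : Nat) : Nat := @Bool.rec (fun _ => Nat) (col2_s_258_261 c) (col2_s_261_264 c) (Nat.ble 261 c)
noncomputable def col2_s_265_267 (c : Nat) : Nat := @Bool.rec (fun _ => Nat) (col2_265) (col2_266) (Nat.ble 266 c)
noncomputable def col2_s_264_267 (c : Nat) : Nat := @Bool.rec (fun _ => Nat) (col2_264) (col2_s_265_267 c) (Nat.ble 265 c)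
noncomputable def col2_s_268_270 (c : Nat) : Nat := @Bool.rec (fun _ => Nat) (col2_268) (col2_269) (Nat.ble 269 c)
noncomputable def col2_s_267_270 (c : Nat) : Nat := @Bool.rec (fun _ => Nat) (col2_267) (col2_s_268_270 c) (Nat.ble 268 c)
noncomputable def col2_s_264_270 (c : Nat) : Nat := @Bool.rec (fun _ => Nat) (col2_s_264_267 c) (col2_s_267_270 c) (Nat.ble 267 c)
noncomputable def col2_s_258_270 (c : Nat) : Nat := @Bool.rec (fun _ => Nat) (col2_s_258_264 c) (col2_s_264_270 c) (Nat.ble 264 c)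
noncomputable def col2_s_271_273 (c : Nat) : Nat := @Bool.rec (fun _ => Nat) (col2_271) (col2_272) (Nat.ble 272 c)
noncomputable def col2_s_270_273 (c : Nat) : Nat := @Bool.rec (fun _ => Nat) (col2_270) (col2_s_271_273 c) (Nat.ble 271 c)
noncomputable def col2_s_274_276 (c : Nat) : Nat := @Bool.rec (fun _ => Nat) (col2_274) (col2_275) (Nat.ble 275 c)
noncomputable def col2_s_273_276 (c : Nat) : Nat := @Bool.rec (fun _ => Nat) (col2_273) (col2_s_274_276 c) (Nat.ble 274 c)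
noncomputable def col2_s_270_276 (c : Nat) : Nat := @Bool.rec (fun _ => Nat) (col2_s_270_273 c) (col2_s_273_276 c) (Nat.ble 273 c)
noncomputable def col2_s_277_279 (c : Nat) : Nat := @Bool.rec (fun _ => Nat) (col2_277) (col2_278) (Nat.ble 278 c)
noncomputable def col2_s_276_279 (c : Nat) : Nat := @Bool.rec (fun _ => Nat) (col2_276) (col2_s_277_279 c) (Nat.ble 277 c)
noncomputable def col2_s_280_282 (c : Nat) : Nat := @Bool.rec (fun _ => Nat) (col2_280) (col2_281) (Nat.ble 281 c)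
noncomputable def col2_s_279_282 (c : Nat) : Nat := @Bool.rec (fun _ => Nat) (col2_279) (col2_s_280_282 c) (Nat.ble 280 c)
noncomputable def col2_s_276_282 (c : Nat) : Nat := @Bool.rec (fun _ => Nat) (col2_s_276_279 c) (col2_s_279_282 c) (Nat.ble 279 c)
noncomputable def col2_s_270_282 (c : Nat) : Nat := @Bool.rec (fun _ => Nat) (col2_s_270_276 c) (col2_s_276_282 c) (Nat.ble 276 c)
noncomputable def col2_s_258_282 (c : Nat) : Nat := @Bool.rec (fun _ => Nat) (col2_s_258_270 c) (col2_s_270_282 c) (Nat.ble 270 c)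
noncomputable def col2_s_235_282 (c : Nat) : Nat := @Bool.rec (fun _ => Nat) (col2_s_235_258 c) (col2_s_258_282 c) (Nat.ble 258 c)
noncomputable def col2_s_188_282 (c : Nat) : Nat := @Bool.rec (fun _ => Nat) (col2_s_188_235 c) (col2_s_235_282 c) (Nat.ble 235 c)
noncomputable def col2_s_282_284 (c : Nat) : Nat := @Bool.rec (fun _ => Nat) (col2_282) (col2_283) (Nat.ble 283 c)
noncomputable def col2_s_285_287 (c : Nat) : Nat := @Bool.rec (fun _ => Nat) (col2_285) (col2_286) (Nat.ble 286 c)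
noncomputable def col2_s_284_287 (c : Nat) : Nat := @Bool.rec (fun _ => Nat) (col2_284) (col2_s_285_287 c) (Nat.ble 285 c)
noncomputable def col2_s_282_287 (c : Nat) : Nat := @Bool.rec (fun _ => Nat) (col2_s_282_284 c) (col2_s_284_287 c) (Nat.ble 284 c)
noncomputable def col2_s_288_290 (c : Nat) : Nat := @Bool.rec (fun _ => Nat) (col2_288) (col2_289) (Nat.ble 289 c)
noncomputable def col2_s_287_290 (c : Nat) : Nat := @Bool.rec (fun _ => Nat) (col2_287) (col2_s_288_290 c) (Nat.ble 288 c)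
noncomputable def col2_s_291_293 (c : Nat) : Nat := @Bool.rec (fun _ => Nat) (col2_291) (col2_292) (Nat.ble 292 c)
noncomputable def col2_s_290_293 (c : Nat) : Nat := @Bool.rec (fun _ => Nat) (col2_290) (col2_s_291_293 c) (Nat.ble 291 c)
noncomputable def col2_s_287_293 (c : Nat) : Nat := @Bool.rec (fun _ => Nat) (col2_s_287_290 c) (col2_s_290_293 c) (Nat.ble 290 c)
noncomputable def col2_s_282_293 (c : Nat) : Nat := @Bool.rec (fun _ => Nat) (col2_s_282_287 c) (col2_s_287_293 c) (Nat.ble 287 c)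
noncomputable def col2_s_294_296 (c : Nat) : Nat := @Bool.rec (fun _ => Nat) (col2_294) (col2_295) (Nat.ble 295 c)
noncomputable def col2_s_293_296 (c : Nat) : Nat := @Bool.rec (fun _ => Nat) (col2_293) (col2_s_294_296 c) (Nat.ble 294 c)
noncomputable def col2_s_297_299 (c : Nat) : Nat := @Bool.rec (fun _ => Nat) (col2_297) (col2_298) (Nat.ble 298 c)
noncomputable def col2_s_296_299 (c : Nat) : Nat := @Bool.rec (fun _ => Nat) (col2_296) (col2_s_297_299 c) (Nat.ble 297 c)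
noncomputable def col2_s_293_299 (c : Nat) : Nat := @Bool.rec (fun _ => Nat) (col2_s_293_296 c) (col2_s_296_299 c) (Nat.ble 296 c)
noncomputable def col2_s_300_302 (c : Nat) : Nat := @Bool.rec (fun _ => Nat) (col2_300) (col2_301) (Nat.ble 301 c)
noncomputable def col2_s_299_302 (c : Nat) : Nat := @Bool.rec (fun _ => Nat) (col2_299) (col2_s_300_302 c) (Nat.ble 300 c)
noncomputable def col2_s_303_305 (c : Nat) : Nat := @Bool.rec (fun _ => Nat) (col2_303) (col2_304) (Nat.ble 304 c)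
noncomputable def col2_s_302_305 (c : Nat) : Nat := @Bool.rec (fun _ => Nat) (col2_302) (col2_s_303_305 c) (Nat.ble 303 c)
noncomputable def col2_s_299_305 (c : Nat) : Nat := @Bool.rec (fun _ => Nat) (col2_s_299_302 c) (col2_s_302_305 c) (Nat.ble 302 c)
noncomputable def col2_s_293_305 (c : Nat) : Nat := @Bool.rec (fun _ => Nat) (col2_s_293_299 c) (col2_s_299_305 c) (Nat.ble 299 c)
noncomputable def col2_s_282_305 (c : Nat) : Nat := @Bool.rec (fun _ => Nat) (col2_s_282_293 c) (col2_s_293_305 c) (Nat.ble 293 c)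
noncomputable def col2_s_306_308 (c : Nat) : Nat := @Bool.rec (fun _ => Nat) (col2_306) (col2_307) (Nat.ble 307 c)
noncomputable def col2_s_305_308 (c : Nat) : Nat := @Bool.rec (fun _ => Nat) (col2_305) (col2_s_306_308 c) (Nat.ble 306 c)
noncomputable def col2_s_309_311 (c : Nat) : Nat := @Bool.rec (fun _ => Nat) (col2_309) (col2_310) (Nat.ble 310 c)
noncomputable def col2_s_308_311 (c : Nat) : Nat := @Bool.rec (fun _ => Nat) (col2_308) (col2_s_309_311 c) (Nat.ble 309 c)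
noncomputable def col2_s_305_311 (c : Nat) : Nat := @Bool.rec (fun _ => Nat) (col2_s_305_308 c) (col2_s_308_311 c) (Nat.ble 308 c)
noncomputable def col2_s_312_314 (c : Nat) : Nat := @Bool.rec (fun _ => Nat) (col2_312) (col2_313) (Nat.ble 313 c)
noncomputable def col2_s_311_314 (c : Nat) : Nat := @Bool.rec (fun _ => Nat) (col2_311) (col2_s_312_314 c) (Nat.ble 312 c)
noncomputable def col2_s_315_317 (c : Nat) : Nat := @Bool.rec (fun _ => Nat) (col2_315) (col2_316) (Nat.ble 316 c)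
noncomputable def col2_s_314_317 (c : Nat) : Nat := @Bool.rec (fun _ => Nat) (col2_314) (col2_s_315_317 c) (Nat.ble 315 c)
noncomputable def col2_s_311_317 (c : Nat) : Nat := @Bool.rec (fun _ => Nat) (col2_s_311_314 c) (col2_s_314_317 c) (Nat.ble 314 c)
noncomputable def col2_s_305_317 (c : Nat) : Nat := @Bool.rec (fun _ => Nat) (col2_s_305_311 c) (col2_s_311_317 c) (Nat.ble 311 c)
noncomputable def col2_s_318_320 (c : Nat) : Nat := @Bool.rec (fun _ => Nat) (col2_318) (col2_319) (Nat.ble 319 c)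
noncomputable def col2_s_317_320 (c : Nat) : Nat := @Bool.rec (fun _ => Nat) (col2_317) (col2_s_318_320 c) (Nat.ble 318 c)
noncomputable def col2_s_321_323 (c : Nat) : Nat := @Bool.rec (fun _ => Nat) (col2_321) (col2_322) (Nat.ble 322 c)
noncomputable def col2_s_320_323 (c : Nat) : Nat := @Bool.rec (fun _ => Nat) (col2_320) (col2_s_321_323 c) (Nat.ble 321 c)
noncomputable def col2_s_317_323 (c : Nat) : Nat := @Bool.rec (fun _ => Nat) (col2_s_317_320 c) (col2_s_320_323 c) (Nat.ble 320 c)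
noncomputable def col2_s_324_326 (c : Nat) : Nat := @Bool.rec (fun _ => Nat) (col2_324) (col2_325) (Nat.ble 325 c)
noncomputable def col2_s_323_326 (c : Nat) : Nat := @Bool.rec (fun _ => Nat) (col2_323) (col2_s_324_326 c) (Nat.ble 324 c)
noncomputable def col2_s_327_329 (c : Nat) : Nat := @Bool.rec (fun _ => Nat) (col2_327) (col2_328) (Nat.ble 328 c)
noncomputable def col2_s_326_329 (c : Nat) : Nat := @Bool.rec (fun _ => Nat) (col2_326) (col2_s_327_329 c) (Nat.ble 327 c)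
noncomputable def col2_s_323_329 (c : Nat) : Nat := @Bool.rec (fun _ => Nat) (col2_s_323_326 c) (col2_s_326_329 c) (Nat.ble 326 c)
noncomputable def col2_s_317_329 (c : Nat) : Nat := @Bool.rec (fun _ => Nat) (col2_s_317_323 c) (col2_s_323_329 c) (Nat.ble 323 c)
noncomputable def col2_s_305_329 (c : Nat) : Nat := @Bool.rec (fun _ => Nat) (col2_s_305_317 c) (col2_s_317_329 c) (Nat.ble 317 c)
noncomputable def col2_s_282_329 (c : Nat) : Nat := @Bool.rec (fun _ => Nat) (col2_s_282_305 c) (col2_s_305_329 c) (Nat.ble 305 c)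
noncomputable def col2_s_329_331 (c : Nat) : Nat := @Bool.rec (fun _ => Nat) (col2_329) (col2_330) (Nat.ble 330 c)
noncomputable def col2_s_332_334 (c : Nat) : Nat := @Bool.rec (fun _ => Nat) (col2_332) (col2_333) (Nat.ble 333 c)
noncomputable def col2_s_331_334 (c : Nat) : Nat := @Bool.rec (fun _ => Nat) (col2_331) (col2_s_332_334 c) (Nat.ble 332 c)
noncomputable def col2_s_329_334 (c : Nat) : Nat := @Bool.rec (fun _ => Nat) (col2_s_329_331 c) (col2_s_331_334 c) (Nat.ble 331 c)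
noncomputable def col2_s_335_337 (c : Nat) : Nat := @Bool.rec (fun _ => Nat) (col2_335) (col2_336) (Nat.ble 336 c)
noncomputable def col2_s_334_337 (c : Nat) : Nat := @Bool.rec (fun _ => Nat) (col2_334) (col2_s_335_337 c) (Nat.ble 335 c)
noncomputable def col2_s_338_340 (c : Nat) : Nat := @Bool.rec (fun _ => Nat) (col2_338) (col2_339) (Nat.ble 339 c)
noncomputable def col2_s_337_340 (c : Nat) : Nat := @Bool.rec (fun _ => Nat) (col2_337) (col2_s_338_340 c) (Nat.ble 338 c)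
noncomputable def col2_s_334_340 (c : Nat) : Nat := @Bool.rec (fun _ => Nat) (col2_s_334_337 c) (col2_s_337_340 c) (Nat.ble 337 c)
noncomputable def col2_s_329_340 (c : Nat) : Nat := @Bool.rec (fun _ => Nat) (col2_s_329_334 c) (col2_s_334_340 c) (Nat.ble 334 c)
noncomputable def col2_s_341_343 (c : Nat) : Nat := @Bool.rec (fun _ => Nat) (col2_341) (col2_342) (Nat.ble 342 c)
noncomputable def col2_s_340_343 (c : Nat) : Nat := @Bool.rec (fun _ => Nat) (col2_340) (col2_s_341_343 c) (Nat.ble 341 c)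
noncomputable def col2_s_344_346 (c : Nat) : Nat := @Bool.rec (fun _ => Nat) (col2_344) (col2_345) (Nat.ble 345 c)
noncomputable def col2_s_343_346 (c : Nat) : Nat := @Bool.rec (fun _ => Nat) (col2_343) (col2_s_344_346 c) (Nat.ble 344 c)
noncomputable def col2_s_340_346 (c : Nat) : Nat := @Bool.rec (fun _ => Nat) (col2_s_340_343 c) (col2_s_343_346 c) (Nat.ble 343 c)
noncomputable def col2_s_347_349 (c : Nat) : Nat := @Bool.rec (fun _ => Nat) (col2_347) (col2_348) (Nat.ble 348 c)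
noncomputable def col2_s_346_349 (c : Nat) : Nat := @Bool.rec (fun _ => Nat) (col2_346) (col2_s_347_349 c) (Nat.ble 347 c)
noncomputable def col2_s_350_352 (c : Nat) : Nat := @Bool.rec (fun _ => Nat) (col2_350) (col2_351) (Nat.ble 351 c)
noncomputable def col2_s_349_352 (c : Nat) : Nat := @Bool.rec (fun _ => Nat) (col2_349) (col2_s_350_352 c) (Nat.ble 350 c)
noncomputable def col2_s_346_352 (c : Nat) : Nat := @Bool.rec (fun _ => Nat) (col2_s_346_349 c) (col2_s_349_352 c) (Nat.ble 349 c)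
noncomputable def col2_s_340_352 (c : Nat) : Nat := @Bool.rec (fun _ => Nat) (col2_s_340_346 c) (col2_s_346_352 c) (Nat.ble 346 c)
noncomputable def col2_s_329_352 (c : Nat) : Nat := @Bool.rec (fun _ => Nat) (col2_s_329_340 c) (col2_s_340_352 c) (Nat.ble 340 c)
noncomputable def col2_s_353_355 (c : Nat) : Nat := @Bool.rec (fun _ => Nat) (col2_353) (col2_354) (Nat.ble 354 c)
noncomputable def col2_s_352_355 (c : Nat) : Nat := @Bool.rec (fun _ => Nat) (col2_352) (col2_s_353_355 c) (Nat.ble 353 c)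
noncomputable def col2_s_356_358 (c : Nat) : Nat := @Bool.rec (fun _ => Nat) (col2_356) (col2_357) (Nat.ble 357 c)
noncomputable def col2_s_355_358 (c : Nat) : Nat := @Bool.rec (fun _ => Nat) (col2_355) (col2_s_356_358 c) (Nat.ble 356 c)
noncomputable def col2_s_352_358 (c : Nat) : Nat := @Bool.rec (fun _ => Nat) (col2_s_352_355 c) (col2_s_355_358 c) (Nat.ble 355 c)
noncomputable def col2_s_359_361 (c : Nat) : Nat := @Bool.rec (fun _ => Nat) (col2_359) (col2_360) (Nat.ble 360 c)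
noncomputable def col2_s_358_361 (c : Nat) : Nat := @Bool.rec (fun _ => Nat) (col2_358) (col2_s_359_361 c) (Nat.ble 359 c)
noncomputable def col2_s_362_364 (c : Nat) : Nat := @Bool.rec (fun _ => Nat) (col2_362) (col2_363) (Nat.ble 363 c)
noncomputable def col2_s_361_364 (c : Nat) : Nat := @Bool.rec (fun _ => Nat) (col2_361) (col2_s_362_364 c) (Nat.ble 362 c)
noncomputable def col2_s_358_364 (c : Nat) : Nat := @Bool.rec (fun _ => Nat) (col2_s_358_361 c) (col2_s_361_364 c) (Nat.ble 361 c)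
noncomputable def col2_s_352_364 (c : Nat) : Nat := @Bool.rec (fun _ => Nat) (col2_s_352_358 c) (col2_s_358_364 c) (Nat.ble 358 c)
noncomputable def col2_s_365_367 (c : Nat) : Nat := @Bool.rec (fun _ => Nat) (col2_365) (col2_366) (Nat.ble 366 c)
noncomputable def col2_s_364_367 (c : Nat) : Nat := @Bool.rec (fun _ => Nat) (col2_364) (col2_s_365_367 c) (Nat.ble 365 c)
noncomputable def col2_s_368_370 (c : Nat) : Nat := @Bool.rec (fun _ => Nat) (col2_368) (col2_369) (Nat.ble 369 c)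
noncomputable def col2_s_367_370 (c : Nat) : Nat := @Bool.rec (fun _ => Nat) (col2_367) (col2_s_368_370 c) (Nat.ble 368 c)
noncomputable def col2_s_364_370 (c : Nat) : Nat := @Bool.rec (fun _ => Nat) (col2_s_364_367 c) (col2_s_367_370 c) (Nat.ble 367 c)
noncomputable def col2_s_371_373 (c : Nat) : Nat := @Bool.rec (fun _ => Nat) (col2_371) (col2_372) (Nat.ble 372 c)
noncomputable def col2_s_370_373 (c : Nat) : Nat := @Bool.rec (fun _ => Nat) (col2_370) (col2_s_371_373 c) (Nat.ble 371 c)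
noncomputable def col2_s_374_376 (c : Nat) : Nat := @Bool.rec (fun _ => Nat) (col2_374) (col2_375) (Nat.ble 375 c)
noncomputable def col2_s_373_376 (c : Nat) : Nat := @Bool.rec (fun _ => Nat) (col2_373) (col2_s_374_376 c) (Nat.ble 374 c)
noncomputable def col2_s_370_376 (c : Nat) : Nat := @Bool.rec (fun _ => Nat) (col2_s_370_373 c) (col2_s_373_376 c) (Nat.ble 373 c)
noncomputable def col2_s_364_376 (c : Nat) : Nat := @Bool.rec (fun _ => Nat) (col2_s_364_370 c) (col2_s_370_376 c) (Nat.ble 370 c)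
noncomputable def col2_s_352_376 (c : Nat) : Nat := @Bool.rec (fun _ => Nat) (col2_s_352_364 c) (col2_s_364_376 c) (Nat.ble 364 c)
noncomputable def col2_s_329_376 (c : Nat) : Nat := @Bool.rec (fun _ => Nat) (col2_s_329_352 c) (col2_s_352_376 c) (Nat.ble 352 c)
noncomputable def col2_s_282_376 (c : Nat) : Nat := @Bool.rec (fun _ => Nat) (col2_s_282_329 c) (col2_s_329_376 c) (Nat.ble 329 c)
noncomputable def col2_s_188_376 (c : Nat) : Nat := @Bool.rec (fun _ => Nat) (col2_s_188_282 c) (col2_s_282_376 c) (Nat.ble 282 c)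
noncomputable def col2_s_0_376 (c : Nat) : Nat := @Bool.rec (fun _ => Nat) (col2_s_0_188 c) (col2_s_188_376 c) (Nat.ble 188 c)
noncomputable def col2 (i : Nat) : Nat := rdw 21 2097151 (col2_s_0_376 (Nat.shiftRight i 12)) (Nat.land i 4095)
noncomputable def col3_s_0_2 (c : Nat) : Nat := @Bool.rec (fun _ => Nat) (col3_0) (col3_1) (Nat.ble 1 c)
noncomputable def col3_s_3_5 (c : Nat) : Nat := @Bool.rec (fun _ => Nat) (col3_3) (col3_4) (Nat.ble 4 c)
noncomputable def col3_s_2_5 (c : Nat) : Nat := @Bool.rec (fun _ => Nat) (col3_2) (col3_s_3_5 c) (Nat.ble 3 c)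
noncomputable def col3_s_0_5 (c : Nat) : Nat := @Bool.rec (fun _ => Nat) (col3_s_0_2 c) (col3_s_2_5 c) (Nat.ble 2 c)
noncomputable def col3_s_6_8 (c : Nat) : Nat := @Bool.rec (fun _ => Nat) (col3_6) (col3_7) (Nat.ble 7 c)
noncomputable def col3_s_5_8 (c : Nat) : Nat := @Bool.rec (fun _ => Nat) (col3_5) (col3_s_6_8 c) (Nat.ble 6 c)
noncomputable def col3_s_9_11 (c : Nat) : Nat := @Bool.rec (fun _ => Nat) (col3_9) (col3_10) (Nat.ble 10 c)
noncomputable def col3_s_8_11 (c : Nat) : Nat := @Bool.rec (fun _ => Nat) (col3_8) (col3_s_9_11 c) (Nat.ble 9 c)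
noncomputable def col3_s_5_11 (c : Nat) : Nat := @Bool.rec (fun _ => Nat) (col3_s_5_8 c) (col3_s_8_11 c) (Nat.ble 8 c)
noncomputable def col3_s_0_11 (c : Nat) : Nat := @Bool.rec (fun _ => Nat) (col3_s_0_5 c) (col3_s_5_11 c) (Nat.ble 5 c)
noncomputable def col3_s_12_14 (c : Nat) : Nat := @Bool.rec (fun _ => Nat) (col3_12) (col3_13) (Nat.ble 13 c)
noncomputable def col3_s_11_14 (c : Nat) : Nat := @Bool.rec (fun _ => Nat) (col3_11) (col3_s_12_14 c) (Nat.ble 12 c)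
noncomputable def col3_s_15_17 (c : Nat) : Nat := @Bool.rec (fun _ => Nat) (col3_15) (col3_16) (Nat.ble 16 c)
noncomputable def col3_s_14_17 (c : Nat) : Nat := @Bool.rec (fun _ => Nat) (col3_14) (col3_s_15_17 c) (Nat.ble 15 c)
noncomputable def col3_s_11_17 (c : Nat) : Nat := @Bool.rec (fun _ => Nat) (col3_s_11_14 c) (col3_s_14_17 c) (Nat.ble 14 c)
noncomputable def col3_s_18_20 (c : Nat) : Nat := @Bool.rec (fun _ => Nat) (col3_18) (col3_19) (Nat.ble 19 c)
noncomputable def col3_s_17_20 (c : Nat) : Nat := @Bool.rec (fun _ => Nat) (col3_17) (col3_s_18_20 c) (Nat.ble 18 c)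
noncomputable def col3_s_21_23 (c : Nat) : Nat := @Bool.rec (fun _ => Nat) (col3_21) (col3_22) (Nat.ble 22 c)
noncomputable def col3_s_20_23 (c : Nat) : Nat := @Bool.rec (fun _ => Nat) (col3_20) (col3_s_21_23 c) (Nat.ble 21 c)
noncomputable def col3_s_17_23 (c : Nat) : Nat := @Bool.rec (fun _ => Nat) (col3_s_17_20 c) (col3_s_20_23 c) (Nat.ble 20 c)
noncomputable def col3_s_11_23 (c : Nat) : Nat := @Bool.rec (fun _ => Nat) (col3_s_11_17 c) (col3_s_17_23 c) (Nat.ble 17 c)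
noncomputable def col3_s_0_23 (c : Nat) : Nat := @Bool.rec (fun _ => Nat) (col3_s_0_11 c) (col3_s_11_23 c) (Nat.ble 11 c)
noncomputable def col3_s_24_26 (c : Nat) : Nat := @Bool.rec (fun _ => Nat) (col3_24) (col3_25) (Nat.ble 25 c)
noncomputable def col3_s_23_26 (c : Nat) : Nat := @Bool.rec (fun _ => Nat) (col3_23) (col3_s_24_26 c) (Nat.ble 24 c)
noncomputable def col3_s_27_29 (c : Nat) : Nat := @Bool.rec (fun _ => Nat) (col3_27) (col3_28) (Nat.ble 28 c)
noncomputable def col3_s_26_29 (c : Nat) : Nat := @Bool.rec (fun _ => Nat) (col3_26) (col3_s_27_29 c) (Nat.ble 27 c)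
noncomputable def col3_s_23_29 (c : Nat) : Nat := @Bool.rec (fun _ => Nat) (col3_s_23_26 c) (col3_s_26_29 c) (Nat.ble 26 c)
noncomputable def col3_s_30_32 (c : Nat) : Nat := @Bool.rec (fun _ => Nat) (col3_30) (col3_31) (Nat.ble 31 c)
noncomputable def col3_s_29_32 (c : Nat) : Nat := @Bool.rec (fun _ => Nat) (col3_29) (col3_s_30_32 c) (Nat.ble 30 c)
noncomputable def col3_s_33_35 (c : Nat) : Nat := @Bool.rec (fun _ => Nat) (col3_33) (col3_34) (Nat.ble 34 c)
noncomputable def col3_s_32_35 (c : Nat) : Nat := @Bool.rec (fun _ => Nat) (col3_32) (col3_s_33_35 c) (Nat.ble 33 c)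
noncomputable def col3_s_29_35 (c : Nat) : Nat := @Bool.rec (fun _ => Nat) (col3_s_29_32 c) (col3_s_32_35 c) (Nat.ble 32 c)
noncomputable def col3_s_23_35 (c : Nat) : Nat := @Bool.rec (fun _ => Nat) (col3_s_23_29 c) (col3_s_29_35 c) (Nat.ble 29 c)
noncomputable def col3_s_36_38 (c : Nat) : Nat := @Bool.rec (fun _ => Nat) (col3_36) (col3_37) (Nat.ble 37 c)
noncomputable def col3_s_35_38 (c : Nat) : Nat := @Bool.rec (fun _ => Nat) (col3_35) (col3_s_36_38 c) (Nat.ble 36 c)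
noncomputable def col3_s_39_41 (c : Nat) : Nat := @Bool.rec (fun _ => Nat) (col3_39) (col3_40) (Nat.ble 40 c)
noncomputable def col3_s_38_41 (c : Nat) : Nat := @Bool.rec (fun _ => Nat) (col3_38) (col3_s_39_41 c) (Nat.ble 39 c)
noncomputable def col3_s_35_41 (c : Nat) : Nat := @Bool.rec (fun _ => Nat) (col3_s_35_38 c) (col3_s_38_41 c) (Nat.ble 38 c)
noncomputable def col3_s_42_44 (c : Nat) : Nat := @Bool.rec (fun _ => Nat) (col3_42) (col3_43) (Nat.ble 43 c)
noncomputable def col3_s_41_44 (c : Nat) : Nat := @Bool.rec (fun _ => Nat) (col3_41) (col3_s_42_44 c) (Nat.ble 42 c)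
noncomputable def col3_s_45_47 (c : Nat) : Nat := @Bool.rec (fun _ => Nat) (col3_45) (col3_46) (Nat.ble 46 c)
noncomputable def col3_s_44_47 (c : Nat) : Nat := @Bool.rec (fun _ => Nat) (col3_44) (col3_s_45_47 c) (Nat.ble 45 c)
noncomputable def col3_s_41_47 (c : Nat) : Nat := @Bool.rec (fun _ => Nat) (col3_s_41_44 c) (col3_s_44_47 c) (Nat.ble 44 c)
noncomputable def col3_s_35_47 (c : Nat) : Nat := @Bool.rec (fun _ => Nat) (col3_s_35_41 c) (col3_s_41_47 c) (Nat.ble 41 c)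
noncomputable def col3_s_23_47 (c : Nat) : Nat := @Bool.rec (fun _ => Nat) (col3_s_23_35 c) (col3_s_35_47 c) (Nat.ble 35 c)
noncomputable def col3_s_0_47 (c : Nat) : Nat := @Bool.rec (fun _ => Nat) (col3_s_0_23 c) (col3_s_23_47 c) (Nat.ble 23 c)
noncomputable def col3_s_47_49 (c : Nat) : Nat := @Bool.rec (fun _ => Nat) (col3_47) (col3_48) (Nat.ble 48 c)
noncomputable def col3_s_50_52 (c : Nat) : Nat := @Bool.rec (fun _ => Nat) (col3_50) (col3_51) (Nat.ble 51 c)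
noncomputable def col3_s_49_52 (c : Nat) : Nat := @Bool.rec (fun _ => Nat) (col3_49) (col3_s_50_52 c) (Nat.ble 50 c)
noncomputable def col3_s_47_52 (c : Nat) : Nat := @Bool.rec (fun _ => Nat) (col3_s_47_49 c) (col3_s_49_52 c) (Nat.ble 49 c)
noncomputable def col3_s_53_55 (c : Nat) : Nat := @Bool.rec (fun _ => Nat) (col3_53) (col3_54) (Nat.ble 54 c)
noncomputable def col3_s_52_55 (c : Nat) : Nat := @Bool.rec (fun _ => Nat) (col3_52) (col3_s_53_55 c) (Nat.ble 53 c)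
noncomputable def col3_s_56_58 (c : Nat) : Nat := @Bool.rec (fun _ => Nat) (col3_56) (col3_57) (Nat.ble 57 c)
noncomputable def col3_s_55_58 (c : Nat) : Nat := @Bool.rec (fun _ => Nat) (col3_55) (col3_s_56_58 c) (Nat.ble 56 c)
noncomputable def col3_s_52_58 (c : Nat) : Nat := @Bool.rec (fun _ => Nat) (col3_s_52_55 c) (col3_s_55_58 c) (Nat.ble 55 c)
noncomputable def col3_s_47_58 (c : Nat) : Nat := @Bool.rec (fun _ => Nat) (col3_s_47_52 c) (col3_s_52_58 c) (Nat.ble 52 c)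
noncomputable def col3_s_59_61 (c : Nat) : Nat := @Bool.rec (fun _ => Nat) (col3_59) (col3_60) (Nat.ble 60 c)
noncomputable def col3_s_58_61 (c : Nat) : Nat := @Bool.rec (fun _ => Nat) (col3_58) (col3_s_59_61 c) (Nat.ble 59 c)
noncomputable def col3_s_62_64 (c : Nat) : Nat := @Bool.rec (fun _ => Nat) (col3_62) (col3_63) (Nat.ble 63 c)
noncomputable def col3_s_61_64 (c : Nat) : Nat := @Bool.rec (fun _ => Nat) (col3_61) (col3_s_62_64 c) (Nat.ble 62 c)
noncomputable def col3_s_58_64 (c : Nat) : Nat := @Bool.rec (fun _ => Nat) (col3_s_58_61 c) (col3_s_61_64 c) (Nat.ble 61 c)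
noncomputable def col3_s_65_67 (c : Nat) : Nat := @Bool.rec (fun _ => Nat) (col3_65) (col3_66) (Nat.ble 66 c)
noncomputable def col3_s_64_67 (c : Nat) : Nat := @Bool.rec (fun _ => Nat) (col3_64) (col3_s_65_67 c) (Nat.ble 65 c)
noncomputable def col3_s_68_70 (c : Nat) : Nat := @Bool.rec (fun _ => Nat) (col3_68) (col3_69) (Nat.ble 69 c)
noncomputable def col3_s_67_70 (c : Nat) : Nat := @Bool.rec (fun _ => Nat) (col3_67) (col3_s_68_70 c) (Nat.ble 68 c)
noncomputable def col3_s_64_70 (c : Nat) : Nat := @Bool.rec (fun _ => Nat) (col3_s_64_67 c) (col3_s_67_70 c) (Nat.ble 67 c)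
noncomputable def col3_s_58_70 (c : Nat) : Nat := @Bool.rec (fun _ => Nat) (col3_s_58_64 c) (col3_s_64_70 c) (Nat.ble 64 c)
noncomputable def col3_s_47_70 (c : Nat) : Nat := @Bool.rec (fun _ => Nat) (col3_s_47_58 c) (col3_s_58_70 c) (Nat.ble 58 c)
noncomputable def col3_s_71_73 (c : Nat) : Nat := @Bool.rec (fun _ => Nat) (col3_71) (col3_72) (Nat.ble 72 c)
noncomputable def col3_s_70_73 (c : Nat) : Nat := @Bool.rec (fun _ => Nat) (col3_70) (col3_s_71_73 c) (Nat.ble 71 c)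
noncomputable def col3_s_74_76 (c : Nat) : Nat := @Bool.rec (fun _ => Nat) (col3_74) (col3_75) (Nat.ble 75 c)
noncomputable def col3_s_73_76 (c : Nat) : Nat := @Bool.rec (fun _ => Nat) (col3_73) (col3_s_74_76 c) (Nat.ble 74 c)
noncomputable def col3_s_70_76 (c : Nat) : Nat := @Bool.rec (fun _ => Nat) (col3_s_70_73 c) (col3_s_73_76 c) (Nat.ble 73 c)
noncomputable def col3_s_77_79 (c : Nat) : Nat := @Bool.rec (fun _ => Nat) (col3_77) (col3_78) (Nat.ble 78 c)
noncomputable def col3_s_76_79 (c : Nat) : Nat := @Bool.rec (fun _ => Nat) (col3_76) (col3_s_77_79 c) (Nat.ble 77 c)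
noncomputable def col3_s_80_82 (c : Nat) : Nat := @Bool.rec (fun _ => Nat) (col3_80) (col3_81) (Nat.ble 81 c)
noncomputable def col3_s_79_82 (c : Nat) : Nat := @Bool.rec (fun _ => Nat) (col3_79) (col3_s_80_82 c) (Nat.ble 80 c)
noncomputable def col3_s_76_82 (c : Nat) : Nat := @Bool.rec (fun _ => Nat) (col3_s_76_79 c) (col3_s_79_82 c) (Nat.ble 79 c)
noncomputable def col3_s_70_82 (c : Nat) : Nat := @Bool.rec (fun _ => Nat) (col3_s_70_76 c) (col3_s_76_82 c) (Nat.ble 76 c)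
noncomputable def col3_s_83_85 (c : Nat) : Nat := @Bool.rec (fun _ => Nat) (col3_83) (col3_84) (Nat.ble 84 c)
noncomputable def col3_s_82_85 (c : Nat) : Nat := @Bool.rec (fun _ => Nat) (col3_82) (col3_s_83_85 c) (Nat.ble 83 c)
noncomputable def col3_s_86_88 (c : Nat) : Nat := @Bool.rec (fun _ => Nat) (col3_86) (col3_87) (Nat.ble 87 c)
noncomputable def col3_s_85_88 (c : Nat) : Nat := @Bool.rec (fun _ => Nat) (col3_85) (col3_s_86_88 c) (Nat.ble 86 c)
noncomputable def col3_s_82_88 (c : Nat) : Nat := @Bool.rec (fun _ => Nat) (col3_s_82_85 c) (col3_s_85_88 c) (Nat.ble 85 c)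
noncomputable def col3_s_89_91 (c : Nat) : Nat := @Bool.rec (fun _ => Nat) (col3_89) (col3_90) (Nat.ble 90 c)
noncomputable def col3_s_88_91 (c : Nat) : Nat := @Bool.rec (fun _ => Nat) (col3_88) (col3_s_89_91 c) (Nat.ble 89 c)
noncomputable def col3_s_92_94 (c : Nat) : Nat := @Bool.rec (fun _ => Nat) (col3_92) (col3_93) (Nat.ble 93 c)
noncomputable def col3_s_91_94 (c : Nat) : Nat := @Bool.rec (fun _ => Nat) (col3_91) (col3_s_92_94 c) (Nat.ble 92 c)
noncomputable def col3_s_88_94 (c : Nat) : Nat := @Bool.rec (fun _ => Nat) (col3_s_88_91 c) (col3_s_91_94 c) (Nat.ble 91 c)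
noncomputable def col3_s_82_94 (c : Nat) : Nat := @Bool.rec (fun _ => Nat) (col3_s_82_88 c) (col3_s_88_94 c) (Nat.ble 88 c)
noncomputable def col3_s_70_94 (c : Nat) : Nat := @Bool.rec (fun _ => Nat) (col3_s_70_82 c) (col3_s_82_94 c) (Nat.ble 82 c)
noncomputable def col3_s_47_94 (c : Nat) : Nat := @Bool.rec (fun _ => Nat) (col3_s_47_70 c) (col3_s_70_94 c) (Nat.ble 70 c)
noncomputable def col3_s_0_94 (c : Nat) : Nat := @Bool.rec (fun _ => Nat) (col3_s_0_47 c) (col3_s_47_94 c) (Nat.ble 47 c)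
noncomputable def col3_s_94_96 (c : Nat) : Nat := @Bool.rec (fun _ => Nat) (col3_94) (col3_95) (Nat.ble 95 c)
noncomputable def col3_s_97_99 (c : Nat) : Nat := @Bool.rec (fun _ => Nat) (col3_97) (col3_98) (Nat.ble 98 c)
noncomputable def col3_s_96_99 (c : Nat) : Nat := @Bool.rec (fun _ => Nat) (col3_96) (col3_s_97_99 c) (Nat.ble 97 c)
noncomputable def col3_s_94_99 (c : Nat) : Nat := @Bool.rec (fun _ => Nat) (col3_s_94_96 c) (col3_s_96_99 c) (Nat.ble 96 c)
noncomputable def col3_s_100_102 (c : Nat) : Nat := @Bool.rec (fun _ => Nat) (col3_100) (col3_101) (Nat.ble 101 c)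
noncomputable def col3_s_99_102 (c : Nat) : Nat := @Bool.rec (fun _ => Nat) (col3_99) (col3_s_100_102 c) (Nat.ble 100 c)
noncomputable def col3_s_103_105 (c : Nat) : Nat := @Bool.rec (fun _ => Nat) (col3_103) (col3_104) (Nat.ble 104 c)
noncomputable def col3_s_102_105 (c : Nat) : Nat := @Bool.rec (fun _ => Nat) (col3_102) (col3_s_103_105 c) (Nat.ble 103 c)
noncomputable def col3_s_99_105 (c : Nat) : Nat := @Bool.rec (fun _ => Nat) (col3_s_99_102 c) (col3_s_102_105 c) (Nat.ble 102 c)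
noncomputable def col3_s_94_105 (c : Nat) : Nat := @Bool.rec (fun _ => Nat) (col3_s_94_99 c) (col3_s_99_105 c) (Nat.ble 99 c)
noncomputable def col3_s_106_108 (c : Nat) : Nat := @Bool.rec (fun _ => Nat) (col3_106) (col3_107) (Nat.ble 107 c)
noncomputable def col3_s_105_108 (c : Nat) : Nat := @Bool.rec (fun _ => Nat) (col3_105) (col3_s_106_108 c) (Nat.ble 106 c)
noncomputable def col3_s_109_111 (c : Nat) : Nat := @Bool.rec (fun _ => Nat) (col3_109) (col3_110) (Nat.ble 110 c)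
noncomputable def col3_s_108_111 (c : Nat) : Nat := @Bool.rec (fun _ => Nat) (col3_108) (col3_s_109_111 c) (Nat.ble 109 c)
noncomputable def col3_s_105_111 (c : Nat) : Nat := @Bool.rec (fun _ => Nat) (col3_s_105_108 c) (col3_s_108_111 c) (Nat.ble 108 c)
noncomputable def col3_s_112_114 (c : Nat) : Nat := @Bool.rec (fun _ => Nat) (col3_112) (col3_113) (Nat.ble 113 c)
noncomputable def col3_s_111_114 (c : Nat) : Nat := @Bool.rec (fun _ => Nat) (col3_111) (col3_s_112_114 c) (Nat.ble 112 c)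
noncomputable def col3_s_115_117 (c : Nat) : Nat := @Bool.rec (fun _ => Nat) (col3_115) (col3_116) (Nat.ble 116 c)
noncomputable def col3_s_114_117 (c : Nat) : Nat := @Bool.rec (fun _ => Nat) (col3_114) (col3_s_115_117 c) (Nat.ble 115 c)
noncomputable def col3_s_111_117 (c : Nat) : Nat := @Bool.rec (fun _ => Nat) (col3_s_111_114 c) (col3_s_114_117 c) (Nat.ble 114 c)
noncomputable def col3_s_105_117 (c : Nat) : Nat := @Bool.rec (fun _ => Nat) (col3_s_105_111 c) (col3_s_111_117 c) (Nat.ble 111 c)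
noncomputable def col3_s_94_117 (c : Nat) : Nat := @Bool.rec (fun _ => Nat) (col3_s_94_105 c) (col3_s_105_117 c) (Nat.ble 105 c)
noncomputable def col3_s_118_120 (c : Nat) : Nat := @Bool.rec (fun _ => Nat) (col3_118) (col3_119) (Nat.ble 119 c)
noncomputable def col3_s_117_120 (c : Nat) : Nat := @Bool.rec (fun _ => Nat) (col3_117) (col3_s_118_120 c) (Nat.ble 118 c)
noncomputable def col3_s_121_123 (c : Nat) : Nat := @Bool.rec (fun _ => Nat) (col3_121) (col3_122) (Nat.ble 122 c)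
noncomputable def col3_s_120_123 (c : Nat) : Nat := @Bool.rec (fun _ => Nat) (col3_120) (col3_s_121_123 c) (Nat.ble 121 c)
noncomputable def col3_s_117_123 (c : Nat) : Nat := @Bool.rec (fun _ => Nat) (col3_s_117_120 c) (col3_s_120_123 c) (Nat.ble 120 c)
noncomputable def col3_s_124_126 (c : Nat) : Nat := @Bool.rec (fun _ => Nat) (col3_124) (col3_125) (Nat.ble 125 c)
noncomputable def col3_s_123_126 (c : Nat) : Nat := @Bool.rec (fun _ => Nat) (col3_123) (col3_s_124_126 c) (Nat.ble 124 c)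
noncomputable def col3_s_127_129 (c : Nat) : Nat := @Bool.rec (fun _ => Nat) (col3_127) (col3_128) (Nat.ble 128 c)
noncomputable def col3_s_126_129 (c : Nat) : Nat := @Bool.rec (fun _ => Nat) (col3_126) (col3_s_127_129 c) (Nat.ble 127 c)
noncomputable def col3_s_123_129 (c : Nat) : Nat := @Bool.rec (fun _ => Nat) (col3_s_123_126 c) (col3_s_126_129 c) (Nat.ble 126 c)
noncomputable def col3_s_117_129 (c : Nat) : Nat := @Bool.rec (fun _ => Nat) (col3_s_117_123 c) (col3_s_123_129 c) (Nat.ble 123 c)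
noncomputable def col3_s_130_132 (c : Nat) : Nat := @Bool.rec (fun _ => Nat) (col3_130) (col3_131) (Nat.ble 131 c)
noncomputable def col3_s_129_132 (c : Nat) : Nat := @Bool.rec (fun _ => Nat) (col3_129) (col3_s_130_132 c) (Nat.ble 130 c)
noncomputable def col3_s_133_135 (c : Nat) : Nat := @Bool.rec (fun _ => Nat) (col3_133) (col3_134) (Nat.ble 134 c)
noncomputable def col3_s_132_135 (c : Nat) : Nat := @Bool.rec (fun _ => Nat) (col3_132) (col3_s_133_135 c) (Nat.ble 133 c)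
noncomputable def col3_s_129_135 (c : Nat) : Nat := @Bool.rec (fun _ => Nat) (col3_s_129_132 c) (col3_s_132_135 c) (Nat.ble 132 c)
noncomputable def col3_s_136_138 (c : Nat) : Nat := @Bool.rec (fun _ => Nat) (col3_136) (col3_137) (Nat.ble 137 c)
noncomputable def col3_s_135_138 (c : Nat) : Nat := @Bool.rec (fun _ => Nat) (col3_135) (col3_s_136_138 c) (Nat.ble 136 c)
noncomputable def col3_s_139_141 (c : Nat) : Nat := @Bool.rec (fun _ => Nat) (col3_139) (col3_140) (Nat.ble 140 c)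
noncomputable def col3_s_138_141 (c : Nat) : Nat := @Bool.rec (fun _ => Nat) (col3_138) (col3_s_139_141 c) (Nat.ble 139 c)
noncomputable def col3_s_135_141 (c : Nat) : Nat := @Bool.rec (fun _ => Nat) (col3_s_135_138 c) (col3_s_138_141 c) (Nat.ble 138 c)
noncomputable def col3_s_129_141 (c : Nat) : Nat := @Bool.rec (fun _ => Nat) (col3_s_129_135 c) (col3_s_135_141 c) (Nat.ble 135 c)
noncomputable def col3_s_117_141 (c : Nat) : Nat := @Bool.rec (fun _ => Nat) (col3_s_117_129 c) (col3_s_129_141 c) (Nat.ble 129 c)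
noncomputable def col3_s_94_141 (c : Nat) : Nat := @Bool.rec (fun _ => Nat) (col3_s_94_117 c) (col3_s_117_141 c) (Nat.ble 117 c)
noncomputable def col3_s_141_143 (c : Nat) : Nat := @Bool.rec (fun _ => Nat) (col3_141) (col3_142) (Nat.ble 142 c)
noncomputable def col3_s_144_146 (c : Nat) : Nat := @Bool.rec (fun _ => Nat) (col3_144) (col3_145) (Nat.ble 145 c)
noncomputable def col3_s_143_146 (c : Nat) : Nat := @Bool.rec (fun _ => Nat) (col3_143) (col3_s_144_146 c) (Nat.ble 144 c)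
noncomputable def col3_s_141_146 (c : Nat) : Nat := @Bool.rec (fun _ => Nat) (col3_s_141_143 c) (col3_s_143_146 c) (Nat.ble 143 c)
noncomputable def col3_s_147_149 (c : Nat) : Nat := @Bool.rec (fun _ => Nat) (col3_147) (col3_148) (Nat.ble 148 c)
noncomputable def col3_s_146_149 (c : Nat) : Nat := @Bool.rec (fun _ => Nat) (col3_146) (col3_s_147_149 c) (Nat.ble 147 c)
noncomputable def col3_s_150_152 (c : Nat) : Nat := @Bool.rec (fun _ => Nat) (col3_150) (col3_151) (Nat.ble 151 c)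
noncomputable def col3_s_149_152 (c : Nat) : Nat := @Bool.rec (fun _ => Nat) (col3_149) (col3_s_150_152 c) (Nat.ble 150 c)
noncomputable def col3_s_146_152 (c : Nat) : Nat := @Bool.rec (fun _ => Nat) (col3_s_146_149 c) (col3_s_149_152 c) (Nat.ble 149 c)
noncomputable def col3_s_141_152 (c : Nat) : Nat := @Bool.rec (fun _ => Nat) (col3_s_141_146 c) (col3_s_146_152 c) (Nat.ble 146 c)
noncomputable def col3_s_153_155 (c : Nat) : Nat := @Bool.rec (fun _ => Nat) (col3_153) (col3_154) (Nat.ble 154 c)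
noncomputable def col3_s_152_155 (c : Nat) : Nat := @Bool.rec (fun _ => Nat) (col3_152) (col3_s_153_155 c) (Nat.ble 153 c)
noncomputable def col3_s_156_158 (c : Nat) : Nat := @Bool.rec (fun _ => Nat) (col3_156) (col3_157) (Nat.ble 157 c)
noncomputable def col3_s_155_158 (c : Nat) : Nat := @Bool.rec (fun _ => Nat) (col3_155) (col3_s_156_158 c) (Nat.ble 156 c)
noncomputable def col3_s_152_158 (c : Nat) : Nat := @Bool.rec (fun _ => Nat) (col3_s_152_155 c) (col3_s_155_158 c) (Nat.ble 155 c)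
noncomputable def col3_s_159_161 (c : Nat) : Nat := @Bool.rec (fun _ => Nat) (col3_159) (col3_160) (Nat.ble 160 c)
noncomputable def col3_s_158_161 (c : Nat) : Nat := @Bool.rec (fun _ => Nat) (col3_158) (col3_s_159_161 c) (Nat.ble 159 c)
noncomputable def col3_s_162_164 (c : Nat) : Nat := @Bool.rec (fun _ => Nat) (col3_162) (col3_163) (Nat.ble 163 c)
noncomputable def col3_s_161_164 (c : Nat) : Nat := @Bool.rec (fun _ => Nat) (col3_161) (col3_s_162_164 c) (Nat.ble 162 c)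
noncomputable def col3_s_158_164 (c : Nat) : Nat := @Bool.rec (fun _ => Nat) (col3_s_158_161 c) (col3_s_161_164 c) (Nat.ble 161 c)
noncomputable def col3_s_152_164 (c : Nat) : Nat := @Bool.rec (fun _ => Nat) (col3_s_152_158 c) (col3_s_158_164 c) (Nat.ble 158 c)
noncomputable def col3_s_141_164 (c : Nat) : Nat := @Bool.rec (fun _ => Nat) (col3_s_141_152 c) (col3_s_152_164 c) (Nat.ble 152 c)
noncomputable def col3_s_165_167 (c : Nat) : Nat := @Bool.rec (fun _ => Nat) (col3_165) (col3_166) (Nat.ble 166 c)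
noncomputable def col3_s_164_167 (c : Nat) : Nat := @Bool.rec (fun _ => Nat) (col3_164) (col3_s_165_167 c) (Nat.ble 165 c)
noncomputable def col3_s_168_170 (c : Nat) : Nat := @Bool.rec (fun _ => Nat) (col3_168) (col3_169) (Nat.ble 169 c)
noncomputable def col3_s_167_170 (c : Nat) : Nat := @Bool.rec (fun _ => Nat) (col3_167) (col3_s_168_170 c) (Nat.ble 168 c)
noncomputable def col3_s_164_170 (c : Nat) : Nat := @Bool.rec (fun _ => Nat) (col3_s_164_167 c) (col3_s_167_170 c) (Nat.ble 167 c)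
noncomputable def col3_s_171_173 (c : Nat) : Nat := @Bool.rec (fun _ => Nat) (col3_171) (col3_172) (Nat.ble 172 c)
noncomputable def col3_s_170_173 (c : Nat) : Nat := @Bool.rec (fun _ => Nat) (col3_170) (col3_s_171_173 c) (Nat.ble 171 c)
noncomputable def col3_s_174_176 (c : Nat) : Nat := @Bool.rec (fun _ => Nat) (col3_174) (col3_175) (Nat.ble 175 c)
noncomputable def col3_s_173_176 (c : Nat) : Nat := @Bool.rec (fun _ => Nat) (col3_173) (col3_s_174_176 c) (Nat.ble 174 c)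
noncomputable def col3_s_170_176 (c : Nat) : Nat := @Bool.rec (fun _ => Nat) (col3_s_170_173 c) (col3_s_173_176 c) (Nat.ble 173 c)
noncomputable def col3_s_164_176 (c : Nat) : Nat := @Bool.rec (fun _ => Nat) (col3_s_164_170 c) (col3_s_170_176 c) (Nat.ble 170 c)
noncomputable def col3_s_177_179 (c : Nat) : Nat := @Bool.rec (fun _ => Nat) (col3_177) (col3_178) (Nat.ble 178 c)
noncomputable def col3_s_176_179 (c : Nat) : Nat := @Bool.rec (fun _ => Nat) (col3_176) (col3_s_177_179 c) (Nat.ble 177 c)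
noncomputable def col3_s_180_182 (c : Nat) : Nat := @Bool.rec (fun _ => Nat) (col3_180) (col3_181) (Nat.ble 181 c)
noncomputable def col3_s_179_182 (c : Nat) : Nat := @Bool.rec (fun _ => Nat) (col3_179) (col3_s_180_182 c) (Nat.ble 180 c)
noncomputable def col3_s_176_182 (c : Nat) : Nat := @Bool.rec (fun _ => Nat) (col3_s_176_179 c) (col3_s_179_182 c) (Nat.ble 179 c)
noncomputable def col3_s_183_185 (c : Nat) : Nat := @Bool.rec (fun _ => Nat) (col3_183) (col3_184) (Nat.ble 184 c)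
noncomputable def col3_s_182_185 (c : Nat) : Nat := @Bool.rec (fun _ => Nat) (col3_182) (col3_s_183_185 c) (Nat.ble 183 c)
noncomputable def col3_s_186_188 (c : Nat) : Nat := @Bool.rec (fun _ => Nat) (col3_186) (col3_187) (Nat.ble 187 c)
noncomputable def col3_s_185_188 (c : Nat) : Nat := @Bool.rec (fun _ => Nat) (col3_185) (col3_s_186_188 c) (Nat.ble 186 c)
noncomputable def col3_s_182_188 (c : Nat) : Nat := @Bool.rec (fun _ => Nat) (col3_s_182_185 c) (col3_s_185_188 c) (Nat.ble 185 c)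
noncomputable def col3_s_176_188 (c : Nat) : Nat := @Bool.rec (fun _ => Nat) (col3_s_176_182 c) (col3_s_182_188 c) (Nat.ble 182 c)
noncomputable def col3_s_164_188 (c : Nat) : Nat := @Bool.rec (fun _ => Nat) (col3_s_164_176 c) (col3_s_176_188 c) (Nat.ble 176 c)
noncomputable def col3_s_141_188 (c : Nat) : Nat := @Bool.rec (fun _ => Nat) (col3_s_141_164 c) (col3_s_164_188 c) (Nat.ble 164 c)
noncomputable def col3_s_94_188 (c : Nat) : Nat := @Bool.rec (fun _ => Nat) (col3_s_94_141 c) (col3_s_141_188 c) (Nat.ble 141 c)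
noncomputable def col3_s_0_188 (c : Nat) : Nat := @Bool.rec (fun _ => Nat) (col3_s_0_94 c) (col3_s_94_188 c) (Nat.ble 94 c)
noncomputable def col3_s_188_190 (c : Nat) : Nat := @Bool.rec (fun _ => Nat) (col3_188) (col3_189) (Nat.ble 189 c)
noncomputable def col3_s_191_193 (c : Nat) : Nat := @Bool.rec (fun _ => Nat) (col3_191) (col3_192) (Nat.ble 192 c)
noncomputable def col3_s_190_193 (c : Nat) : Nat := @Bool.rec (fun _ => Nat) (col3_190) (col3_s_191_193 c) (Nat.ble 191 c)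
noncomputable def col3_s_188_193 (c : Nat) : Nat := @Bool.rec (fun _ => Nat) (col3_s_188_190 c) (col3_s_190_193 c) (Nat.ble 190 c)
noncomputable def col3_s_194_196 (c : Nat) : Nat := @Bool.rec (fun _ => Nat) (col3_194) (col3_195) (Nat.ble 195 c)
noncomputable def col3_s_193_196 (c : Nat) : Nat := @Bool.rec (fun _ => Nat) (col3_193) (col3_s_194_196 c) (Nat.ble 194 c)
noncomputable def col3_s_197_199 (c : Nat) : Nat := @Bool.rec (fun _ => Nat) (col3_197) (col3_198) (Nat.ble 198 c)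
noncomputable def col3_s_196_199 (c : Nat) : Nat := @Bool.rec (fun _ => Nat) (col3_196) (col3_s_197_199 c) (Nat.ble 197 c)
noncomputable def col3_s_193_199 (c : Nat) : Nat := @Bool.rec (fun _ => Nat) (col3_s_193_196 c) (col3_s_196_199 c) (Nat.ble 196 c)
noncomputable def col3_s_188_199 (c : Nat) : Nat := @Bool.rec (fun _ => Nat) (col3_s_188_193 c) (col3_s_193_199 c) (Nat.ble 193 c)
noncomputable def col3_s_200_202 (c : Nat) : Nat := @Bool.rec (fun _ => Nat) (col3_200) (col3_201) (Nat.ble 201 c)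
noncomputable def col3_s_199_202 (c : Nat) : Nat := @Bool.rec (fun _ => Nat) (col3_199) (col3_s_200_202 c) (Nat.ble 200 c)
noncomputable def col3_s_203_205 (c : Nat) : Nat := @Bool.rec (fun _ => Nat) (col3_203) (col3_204) (Nat.ble 204 c)
noncomputable def col3_s_202_205 (c : Nat) : Nat := @Bool.rec (fun _ => Nat) (col3_202) (col3_s_203_205 c) (Nat.ble 203 c)
noncomputable def col3_s_199_205 (c : Nat) : Nat := @Bool.rec (fun _ => Nat) (col3_s_199_202 c) (col3_s_202_205 c) (Nat.ble 202 c)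
noncomputable def col3_s_206_208 (c : Nat) : Nat := @Bool.rec (fun _ => Nat) (col3_206) (col3_207) (Nat.ble 207 c)
noncomputable def col3_s_205_208 (c : Nat) : Nat := @Bool.rec (fun _ => Nat) (col3_205) (col3_s_206_208 c) (Nat.ble 206 c)
noncomputable def col3_s_209_211 (c : Nat) : Nat := @Bool.rec (fun _ => Nat) (col3_209) (col3_210) (Nat.ble 210 c)
noncomputable def col3_s_208_211 (c : Nat) : Nat := @Bool.rec (fun _ => Nat) (col3_208) (col3_s_209_211 c) (Nat.ble 209 c)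
noncomputable def col3_s_205_211 (c : Nat) : Nat := @Bool.rec (fun _ => Nat) (col3_s_205_208 c) (col3_s_208_211 c) (Nat.ble 208 c)
noncomputable def col3_s_199_211 (c : Nat) : Nat := @Bool.rec (fun _ => Nat) (col3_s_199_205 c) (col3_s_205_211 c) (Nat.ble 205 c)
noncomputable def col3_s_188_211 (c : Nat) : Nat := @Bool.rec (fun _ => Nat) (col3_s_188_199 c) (col3_s_199_211 c) (Nat.ble 199 c)
noncomputable def col3_s_212_214 (c : Nat) : Nat := @Bool.rec (fun _ => Nat) (col3_212) (col3_213) (Nat.ble 213 c)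
noncomputable def col3_s_211_214 (c : Nat) : Nat := @Bool.rec (fun _ => Nat) (col3_211) (col3_s_212_214 c) (Nat.ble 212 c)
noncomputable def col3_s_215_217 (c : Nat) : Nat := @Bool.rec (fun _ => Nat) (col3_215) (col3_216) (Nat.ble 216 c)
noncomputable def col3_s_214_217 (c : Nat) : Nat := @Bool.rec (fun _ => Nat) (col3_214) (col3_s_215_217 c) (Nat.ble 215 c)
noncomputable def col3_s_211_217 (c : Nat) : Nat := @Bool.rec (fun _ => Nat) (col3_s_211_214 c) (col3_s_214_217 c) (Nat.ble 214 c)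
noncomputable def col3_s_218_220 (c : Nat) : Nat := @Bool.rec (fun _ => Nat) (col3_218) (col3_219) (Nat.ble 219 c)
noncomputable def col3_s_217_220 (c : Nat) : Nat := @Bool.rec (fun _ => Nat) (col3_217) (col3_s_218_220 c) (Nat.ble 218 c)
noncomputable def col3_s_221_223 (c : Nat) : Nat := @Bool.rec (fun _ => Nat) (col3_221) (col3_222) (Nat.ble 222 c)
noncomputable def col3_s_220_223 (c : Nat) : Nat := @Bool.rec (fun _ => Nat) (col3_220) (col3_s_221_223 c) (Nat.ble 221 c)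
noncomputable def col3_s_217_223 (c : Nat) : Nat := @Bool.rec (fun _ => Nat) (col3_s_217_220 c) (col3_s_220_223 c) (Nat.ble 220 c)
noncomputable def col3_s_211_223 (c : Nat) : Nat := @Bool.rec (fun _ => Nat) (col3_s_211_217 c) (col3_s_217_223 c) (Nat.ble 217 c)
noncomputable def col3_s_224_226 (c : Nat) : Nat := @Bool.rec (fun _ => Nat) (col3_224) (col3_225) (Nat.ble 225 c)
noncomputable def col3_s_223_226 (c : Nat) : Nat := @Bool.rec (fun _ => Nat) (col3_223) (col3_s_224_226 c) (Nat.ble 224 c)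
noncomputable def col3_s_227_229 (c : Nat) : Nat := @Bool.rec (fun _ => Nat) (col3_227) (col3_228) (Nat.ble 228 c)
noncomputable def col3_s_226_229 (c : Nat) : Nat := @Bool.rec (fun _ => Nat) (col3_226) (col3_s_227_229 c) (Nat.ble 227 c)
noncomputable def col3_s_223_229 (c : Nat) : Nat := @Bool.rec (fun _ => Nat) (col3_s_223_226 c) (col3_s_226_229 c) (Nat.ble 226 c)
noncomputable def col3_s_230_232 (c : Nat) : Nat := @Bool.rec (fun _ => Nat) (col3_230) (col3_231) (Nat.ble 231 c)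
noncomputable def col3_s_229_232 (c : Nat) : Nat := @Bool.rec (fun _ => Nat) (col3_229) (col3_s_230_232 c) (Nat.ble 230 c)
noncomputable def col3_s_233_235 (c : Nat) : Nat := @Bool.rec (fun _ => Nat) (col3_233) (col3_234) (Nat.ble 234 c)
noncomputable def col3_s_232_235 (c : Nat) : Nat := @Bool.rec (fun _ => Nat) (col3_232) (col3_s_233_235 c) (Nat.ble 233 c)
noncomputable def col3_s_229_235 (c : Nat) : Nat := @Bool.rec (fun _ => Nat) (col3_s_229_232 c) (col3_s_232_235 c) (Nat.ble 232 c)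
noncomputable def col3_s_223_235 (c : Nat) : Nat := @Bool.rec (fun _ => Nat) (col3_s_223_229 c) (col3_s_229_235 c) (Nat.ble 229 c)
noncomputable def col3_s_211_235 (c : Nat) : Nat := @Bool.rec (fun _ => Nat) (col3_s_211_223 c) (col3_s_223_235 c) (Nat.ble 223 c)
noncomputable def col3_s_188_235 (c : Nat) : Nat := @Bool.rec (fun _ => Nat) (col3_s_188_211 c) (col3_s_211_235 c) (Nat.ble 211 c)
noncomputable def col3_s_235_237 (c : Nat) : Nat := @Bool.rec (fun _ => Nat) (col3_235) (col3_236) (Nat.ble 236 c)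
noncomputable def col3_s_238_240 (c : Nat) : Nat := @Bool.rec (fun _ => Nat) (col3_238) (col3_239) (Nat.ble 239 c)
noncomputable def col3_s_237_240 (c : Nat) : Nat := @Bool.rec (fun _ => Nat) (col3_237) (col3_s_238_240 c) (Nat.ble 238 c)
noncomputable def col3_s_235_240 (c : Nat) : Nat := @Bool.rec (fun _ => Nat) (col3_s_235_237 c) (col3_s_237_240 c) (Nat.ble 237 c)
noncomputable def col3_s_241_243 (c : Nat) : Nat := @Bool.rec (fun _ => Nat) (col3_241) (col3_242) (Nat.ble 242 c)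
noncomputable def col3_s_240_243 (c : Nat) : Nat := @Bool.rec (fun _ => Nat) (col3_240) (col3_s_241_243 c) (Nat.ble 241 c)
noncomputable def col3_s_244_246 (c : Nat) : Nat := @Bool.rec (fun _ => Nat) (col3_244) (col3_245) (Nat.ble 245 c)
noncomputable def col3_s_243_246 (c : Nat) : Nat := @Bool.rec (fun _ => Nat) (col3_243) (col3_s_244_246 c) (Nat.ble 244 c)
noncomputable def col3_s_240_246 (c : Nat) : Nat := @Bool.rec (fun _ => Nat) (col3_s_240_243 c) (col3_s_243_246 c) (Nat.ble 243 c)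
noncomputable def col3_s_235_246 (c : Nat) : Nat := @Bool.rec (fun _ => Nat) (col3_s_235_240 c) (col3_s_240_246 c) (Nat.ble 240 c)
noncomputable def col3_s_247_249 (c : Nat) : Nat := @Bool.rec (fun _ => Nat) (col3_247) (col3_248) (Nat.ble 248 c)
noncomputable def col3_s_246_249 (c : Nat) : Nat := @Bool.rec (fun _ => Nat) (col3_246) (col3_s_247_249 c) (Nat.ble 247 c)
noncomputable def col3_s_250_252 (c : Nat) : Nat := @Bool.rec (fun _ => Nat) (col3_250) (col3_251) (Nat.ble 251 c)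
noncomputable def col3_s_249_252 (c : Nat) : Nat := @Bool.rec (fun _ => Nat) (col3_249) (col3_s_250_252 c) (Nat.ble 250 c)
noncomputable def col3_s_246_252 (c : Nat) : Nat := @Bool.rec (fun _ => Nat) (col3_s_246_249 c) (col3_s_249_252 c) (Nat.ble 249 c)
noncomputable def col3_s_253_255 (c : Nat) : Nat := @Bool.rec (fun _ => Nat) (col3_253) (col3_254) (Nat.ble 254 c)
noncomputable def col3_s_252_255 (c : Nat) : Nat := @Bool.rec (fun _ => Nat) (col3_252) (col3_s_253_255 c) (Nat.ble 253 c)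
noncomputable def col3_s_256_258 (c : Nat) : Nat := @Bool.rec (fun _ => Nat) (col3_256) (col3_257) (Nat.ble 257 c)
noncomputable def col3_s_255_258 (c : Nat) : Nat := @Bool.rec (fun _ => Nat) (col3_255) (col3_s_256_258 c) (Nat.ble 256 c)
noncomputable def col3_s_252_258 (c : Nat) : Nat := @Bool.rec (fun _ => Nat) (col3_s_252_255 c) (col3_s_255_258 c) (Nat.ble 255 c)
noncomputable def col3_s_246_258 (c : Nat) : Nat := @Bool.rec (fun _ => Nat) (col3_s_246_252 c) (col3_s_252_258 c) (Nat.ble 252 c)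
noncomputable def col3_s_235_258 (c : Nat) : Nat := @Bool.rec (fun _ => Nat) (col3_s_235_246 c) (col3_s_246_258 c) (Nat.ble 246 c)
noncomputable def col3_s_259_261 (c : Nat) : Nat := @Bool.rec (fun _ => Nat) (col3_259) (col3_260) (Nat.ble 260 c)
noncomputable def col3_s_258_261 (c : Nat) : Nat := @Bool.rec (fun _ => Nat) (col3_258) (col3_s_259_261 c) (Nat.ble 259 c)
noncomputable def col3_s_262_264 (c : Nat) : Nat := @Bool.rec (fun _ => Nat) (col3_262) (col3_263) (Nat.ble 263 c)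
noncomputable def col3_s_261_264 (c : Nat) : Nat := @Bool.rec (fun _ => Nat) (col3_261) (col3_s_262_264 c) (Nat.ble 262 c)
noncomputable def col3_s_258_264 (c : Nat) : Nat := @Bool.rec (fun _ => Nat) (col3_s_258_261 c) (col3_s_261_264 c) (Nat.ble 261 c)
noncomputable def col3_s_265_267 (c : Nat) : Nat := @Bool.rec (fun _ => Nat) (col3_265) (col3_266) (Nat.ble 266 c)
noncomputable def col3_s_264_267 (c : Nat) : Nat := @Bool.rec (fun _ => Nat) (col3_264) (col3_s_265_267 c) (Nat.ble 265 c)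
noncomputable def col3_s_268_270 (c : Nat) : Nat := @Bool.rec (fun _ => Nat) (col3_268) (col3_269) (Nat.ble 269 c)
noncomputable def col3_s_267_270 (c : Nat) : Nat := @Bool.rec (fun _ => Nat) (col3_267) (col3_s_268_270 c) (Nat.ble 268 c)
noncomputable def col3_s_264_270 (c : Nat) : Nat := @Bool.rec (fun _ => Nat) (col3_s_264_267 c) (col3_s_267_270 c) (Nat.ble 267 c)
noncomputable def col3_s_258_270 (c : Nat) : Nat := @Bool.rec (fun _ => Nat) (col3_s_258_264 c) (col3_s_264_270 c) (Nat.ble 264 c)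
noncomputable def col3_s_271_273 (c : Nat) : Nat := @Bool.rec (fun _ => Nat) (col3_271) (col3_272) (Nat.ble 272 c)
noncomputable def col3_s_270_273 (c : Nat) : Nat := @Bool.rec (fun _ => Nat) (col3_270) (col3_s_271_273 c) (Nat.ble 271 c)
noncomputable def col3_s_274_276 (c : Nat) : Nat := @Bool.rec (fun _ => Nat) (col3_274) (col3_275) (Nat.ble 275 c)
noncomputable def col3_s_273_276 (c : Nat) : Nat := @Bool.rec (fun _ => Nat) (col3_273) (col3_s_274_276 c) (Nat.ble 274 c)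
noncomputable def col3_s_270_276 (c : Nat) : Nat := @Bool.rec (fun _ => Nat) (col3_s_270_273 c) (col3_s_273_276 c) (Nat.ble 273 c)
noncomputable def col3_s_277_279 (c : Nat) : Nat := @Bool.rec (fun _ => Nat) (col3_277) (col3_278) (Nat.ble 278 c)
noncomputable def col3_s_276_279 (c : Nat) : Nat := @Bool.rec (fun _ => Nat) (col3_276) (col3_s_277_279 c) (Nat.ble 277 c)
noncomputable def col3_s_280_282 (c : Nat) : Nat := @Bool.rec (fun _ => Nat) (col3_280) (col3_281) (Nat.ble 281 c)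
noncomputable def col3_s_279_282 (c : Nat) : Nat := @Bool.rec (fun _ => Nat) (col3_279) (col3_s_280_282 c) (Nat.ble 280 c)
noncomputable def col3_s_276_282 (c : Nat) : Nat := @Bool.rec (fun _ => Nat) (col3_s_276_279 c) (col3_s_279_282 c) (Nat.ble 279 c)
noncomputable def col3_s_270_282 (c : Nat) : Nat := @Bool.rec (fun _ => Nat) (col3_s_270_276 c) (col3_s_276_282 c) (Nat.ble 276 c)
noncomputable def col3_s_258_282 (c : Nat) : Nat := @Bool.rec (fun _ => Nat) (col3_s_258_270 c) (col3_s_270_282 c) (Nat.ble 270 c)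
noncomputable def col3_s_235_282 (c : Nat) : Nat := @Bool.rec (fun _ => Nat) (col3_s_235_258 c) (col3_s_258_282 c) (Nat.ble 258 c)
noncomputable def col3_s_188_282 (c : Nat) : Nat := @Bool.rec (fun _ => Nat) (col3_s_188_235 c) (col3_s_235_282 c) (Nat.ble 235 c)
noncomputable def col3_s_282_284 (c : Nat) : Nat := @Bool.rec (fun _ => Nat) (col3_282) (col3_283) (Nat.ble 283 c)
noncomputable def col3_s_285_287 (c : Nat) : Nat := @Bool.rec (fun _ => Nat) (col3_285) (col3_286) (Nat.ble 286 c)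
noncomputable def col3_s_284_287 (c : Nat) : Nat := @Bool.rec (fun _ => Nat) (col3_284) (col3_s_285_287 c) (Nat.ble 285 c)
noncomputable def col3_s_282_287 (c : Nat) : Nat := @Bool.rec (fun _ => Nat) (col3_s_282_284 c) (col3_s_284_287 c) (Nat.ble 284 c)
noncomputable def col3_s_288_290 (c : Nat) : Nat := @Bool.rec (fun _ => Nat) (col3_288) (col3_289) (Nat.ble 289 c)
noncomputable def col3_s_287_290 (c : Nat) : Nat := @Bool.rec (fun _ => Nat) (col3_287) (col3_s_288_290 c) (Nat.ble 288 c)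
noncomputable def col3_s_291_293 (c : Nat) : Nat := @Bool.rec (fun _ => Nat) (col3_291) (col3_292) (Nat.ble 292 c)
noncomputable def col3_s_290_293 (c : Nat) : Nat := @Bool.rec (fun _ => Nat) (col3_290) (col3_s_291_293 c) (Nat.ble 291 c)
noncomputable def col3_s_287_293 (c : Nat) : Nat := @Bool.rec (fun _ => Nat) (col3_s_287_290 c) (col3_s_290_293 c) (Nat.ble 290 c)
noncomputable def col3_s_282_293 (c : Nat) : Nat := @Bool.rec (fun _ => Nat) (col3_s_282_287 c) (col3_s_287_293 c) (Nat.ble 287 c)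
noncomputable def col3_s_294_296 (c : Nat) : Nat := @Bool.rec (fun _ => Nat) (col3_294) (col3_295) (Nat.ble 295 c)
noncomputable def col3_s_293_296 (c : Nat) : Nat := @Bool.rec (fun _ => Nat) (col3_293) (col3_s_294_296 c) (Nat.ble 294 c)
noncomputable def col3_s_297_299 (c : Nat) : Nat := @Bool.rec (fun _ => Nat) (col3_297) (col3_298) (Nat.ble 298 c)
noncomputable def col3_s_296_299 (c : Nat) : Nat := @Bool.rec (fun _ => Nat) (col3_296) (col3_s_297_299 c) (Nat.ble 297 c)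
noncomputable def col3_s_293_299 (c : Nat) : Nat := @Bool.rec (fun _ => Nat) (col3_s_293_296 c) (col3_s_296_299 c) (Nat.ble 296 c)
noncomputable def col3_s_300_302 (c : Nat) : Nat := @Bool.rec (fun _ => Nat) (col3_300) (col3_301) (Nat.ble 301 c)
noncomputable def col3_s_299_302 (c : Nat) : Nat := @Bool.rec (fun _ => Nat) (col3_299) (col3_s_300_302 c) (Nat.ble 300 c)
noncomputable def col3_s_303_305 (c : Nat) : Nat := @Bool.rec (fun _ => Nat) (col3_303) (col3_304) (Nat.ble 304 c)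
noncomputable def col3_s_302_305 (c : Nat) : Nat := @Bool.rec (fun _ => Nat) (col3_302) (col3_s_303_305 c) (Nat.ble 303 c)
noncomputable def col3_s_299_305 (c : Nat) : Nat := @Bool.rec (fun _ => Nat) (col3_s_299_302 c) (col3_s_302_305 c) (Nat.ble 302 c)
noncomputable def col3_s_293_305 (c : Nat) : Nat := @Bool.rec (fun _ => Nat) (col3_s_293_299 c) (col3_s_299_305 c) (Nat.ble 299 c)
noncomputable def col3_s_282_305 (c : Nat) : Nat := @Bool.rec (fun _ => Nat) (col3_s_282_293 c) (col3_s_293_305 c) (Nat.ble 293 c)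
noncomputable def col3_s_306_308 (c : Nat) : Nat := @Bool.rec (fun _ => Nat) (col3_306) (col3_307) (Nat.ble 307 c)
noncomputable def col3_s_305_308 (c : Nat) : Nat := @Bool.rec (fun _ => Nat) (col3_305) (col3_s_306_308 c) (Nat.ble 306 c)
noncomputable def col3_s_309_311 (c : Nat) : Nat := @Bool.rec (fun _ => Nat) (col3_309) (col3_310) (Nat.ble 310 c)
noncomputable def col3_s_308_311 (c : Nat) : Nat := @Bool.rec (fun _ => Nat) (col3_308) (col3_s_309_311 c) (Nat.ble 309 c)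
noncomputable def col3_s_305_311 (c : Nat) : Nat := @Bool.rec (fun _ => Nat) (col3_s_305_308 c) (col3_s_308_311 c) (Nat.ble 308 c)
noncomputable def col3_s_312_314 (c : Nat) : Nat := @Bool.rec (fun _ => Nat) (col3_312) (col3_313) (Nat.ble 313 c)
noncomputable def col3_s_311_314 (c : Nat) : Nat := @Bool.rec (fun _ => Nat) (col3_311) (col3_s_312_314 c) (Nat.ble 312 c)
noncomputable def col3_s_315_317 (c : Nat) : Nat := @Bool.rec (fun _ => Nat) (col3_315) (col3_316) (Nat.ble 316 c)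
noncomputable def col3_s_314_317 (c : Nat) : Nat := @Bool.rec (fun _ => Nat) (col3_314) (col3_s_315_317 c) (Nat.ble 315 c)
noncomputable def col3_s_311_317 (c : Nat) : Nat := @Bool.rec (fun _ => Nat) (col3_s_311_314 c) (col3_s_314_317 c) (Nat.ble 314 c)
noncomputable def col3_s_305_317 (c : Nat) : Nat := @Bool.rec (fun _ => Nat) (col3_s_305_311 c) (col3_s_311_317 c) (Nat.ble 311 c)
noncomputable def col3_s_318_320 (c : Nat) : Nat := @Bool.rec (fun _ => Nat) (col3_318) (col3_319) (Nat.ble 319 c)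
noncomputable def col3_s_317_320 (c : Nat) : Nat := @Bool.rec (fun _ => Nat) (col3_317) (col3_s_318_320 c) (Nat.ble 318 c)
noncomputable def col3_s_321_323 (c : Nat) : Nat := @Bool.rec (fun _ => Nat) (col3_321) (col3_322) (Nat.ble 322 c)
noncomputable def col3_s_320_323 (c : Nat) : Nat := @Bool.rec (fun _ => Nat) (col3_320) (col3_s_321_323 c) (Nat.ble 321 c)
noncomputable def col3_s_317_323 (c : Nat) : Nat := @Bool.rec (fun _ => Nat) (col3_s_317_320 c) (col3_s_320_323 c) (Nat.ble 320 c)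
noncomputable def col3_s_324_326 (c : Nat) : Nat := @Bool.rec (fun _ => Nat) (col3_324) (col3_325) (Nat.ble 325 c)
noncomputable def col3_s_323_326 (c : Nat) : Nat := @Bool.rec (fun _ => Nat) (col3_323) (col3_s_324_326 c) (Nat.ble 324 c)
noncomputable def col3_s_327_329 (c : Nat) : Nat := @Bool.rec (fun _ => Nat) (col3_327) (col3_328) (Nat.ble 328 c)
noncomputable def col3_s_326_329 (c : Nat) : Nat := @Bool.rec (fun _ => Nat) (col3_326) (col3_s_327_329 c) (Nat.ble 327 c)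
noncomputable def col3_s_323_329 (c : Nat) : Nat := @Bool.rec (fun _ => Nat) (col3_s_323_326 c) (col3_s_326_329 c) (Nat.ble 326 c)
noncomputable def col3_s_317_329 (c : Nat) : Nat := @Bool.rec (fun _ => Nat) (col3_s_317_323 c) (col3_s_323_329 c) (Nat.ble 323 c)
noncomputable def col3_s_305_329 (c : Nat) : Nat := @Bool.rec (fun _ => Nat) (col3_s_305_317 c) (col3_s_317_329 c) (Nat.ble 317 c)
noncomputable def col3_s_282_329 (c : Nat) : Nat := @Bool.rec (fun _ => Nat) (col3_s_282_305 c) (col3_s_305_329 c) (Nat.ble 305 c)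
noncomputable def col3_s_329_331 (c : Nat) : Nat := @Bool.rec (fun _ => Nat) (col3_329) (col3_330) (Nat.ble 330 c)
noncomputable def col3_s_332_334 (c : Nat) : Nat := @Bool.rec (fun _ => Nat) (col3_332) (col3_333) (Nat.ble 333 c)
noncomputable def col3_s_331_334 (c : Nat) : Nat := @Bool.rec (fun _ => Nat) (col3_331) (col3_s_332_334 c) (Nat.ble 332 c)
noncomputable def col3_s_329_334 (c : Nat) : Nat := @Bool.rec (fun _ => Nat) (col3_s_329_331 c) (col3_s_331_334 c) (Nat.ble 331 c)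
noncomputable def col3_s_335_337 (c : Nat) : Nat := @Bool.rec (fun _ => Nat) (col3_335) (col3_336) (Nat.ble 336 c)
noncomputable def col3_s_334_337 (c : Nat) : Nat := @Bool.rec (fun _ => Nat) (col3_334) (col3_s_335_337 c) (Nat.ble 335 c)
noncomputable def col3_s_338_340 (c : Nat) : Nat := @Bool.rec (fun _ => Nat) (col3_338) (col3_339) (Nat.ble 339 c)
noncomputable def col3_s_337_340 (c : Nat) : Nat := @Bool.rec (fun _ => Nat) (col3_337) (col3_s_338_340 c) (Nat.ble 338 c)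
noncomputable def col3_s_334_340 (c : Nat) : Nat := @Bool.rec (fun _ => Nat) (col3_s_334_337 c) (col3_s_337_340 c) (Nat.ble 337 c)
noncomputable def col3_s_329_340 (c : Nat) : Nat := @Bool.rec (fun _ => Nat) (col3_s_329_334 c) (col3_s_334_340 c) (Nat.ble 334 c)
noncomputable def col3_s_341_343 (c : Nat) : Nat := @Bool.rec (fun _ => Nat) (col3_341) (col3_342) (Nat.ble 342 c)
noncomputable def col3_s_340_343 (c : Nat) : Nat := @Bool.rec (fun _ => Nat) (col3_340) (col3_s_341_343 c) (Nat.ble 341 c)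
noncomputable def col3_s_344_346 (c : Nat) : Nat := @Bool.rec (fun _ => Nat) (col3_344) (col3_345) (Nat.ble 345 c)
noncomputable def col3_s_343_346 (c : Nat) : Nat := @Bool.rec (fun _ => Nat) (col3_343) (col3_s_344_346 c) (Nat.ble 344 c)
noncomputable def col3_s_340_346 (c : Nat) : Nat := @Bool.rec (fun _ => Nat) (col3_s_340_343 c) (col3_s_343_346 c) (Nat.ble 343 c)
noncomputable def col3_s_347_349 (c : Nat) : Nat := @Bool.rec (fun _ => Nat) (col3_347) (col3_348) (Nat.ble 348 c)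
noncomputable def col3_s_346_349 (c : Nat) : Nat := @Bool.rec (fun _ => Nat) (col3_346) (col3_s_347_349 c) (Nat.ble 347 c)
noncomputable def col3_s_350_352 (c : Nat) : Nat := @Bool.rec (fun _ => Nat) (col3_350) (col3_351) (Nat.ble 351 c)
noncomputable def col3_s_349_352 (c : Nat) : Nat := @Bool.rec (fun _ => Nat) (col3_349) (col3_s_350_352 c) (Nat.ble 350 c)
noncomputable def col3_s_346_352 (c : Nat) : Nat := @Bool.rec (fun _ => Nat) (col3_s_346_349 c) (col3_s_349_352 c) (Nat.ble 349 c)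
noncomputable def col3_s_340_352 (c : Nat) : Nat := @Bool.rec (fun _ => Nat) (col3_s_340_346 c) (col3_s_346_352 c) (Nat.ble 346 c)
noncomputable def col3_s_329_352 (c : Nat) : Nat := @Bool.rec (fun _ => Nat) (col3_s_329_340 c) (col3_s_340_352 c) (Nat.ble 340 c)
noncomputable def col3_s_353_355 (c : Nat) : Nat := @Bool.rec (fun _ => Nat) (col3_353) (col3_354) (Nat.ble 354 c)
noncomputable def col3_s_352_355 (c : Nat) : Nat := @Bool.rec (fun _ => Nat) (col3_352) (col3_s_353_355 c) (Nat.ble 353 c)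
noncomputable def col3_s_356_358 (c : Nat) : Nat := @Bool.rec (fun _ => Nat) (col3_356) (col3_357) (Nat.ble 357 c)
noncomputable def col3_s_355_358 (c : Nat) : Nat := @Bool.rec (fun _ => Nat) (col3_355) (col3_s_356_358 c) (Nat.ble 356 c)
noncomputable def col3_s_352_358 (c : Nat) : Nat := @Bool.rec (fun _ => Nat) (col3_s_352_355 c) (col3_s_355_358 c) (Nat.ble 355 c)
noncomputable def col3_s_359_361 (c : Nat) : Nat := @Bool.rec (fun _ => Nat) (col3_359) (col3_360) (Nat.ble 360 c)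
noncomputable def col3_s_358_361 (c : Nat) : Nat := @Bool.rec (fun _ => Nat) (col3_358) (col3_s_359_361 c) (Nat.ble 359 c)
noncomputable def col3_s_362_364 (c : Nat) : Nat := @Bool.rec (fun _ => Nat) (col3_362) (col3_363) (Nat.ble 363 c)
noncomputable def col3_s_361_364 (c : Nat) : Nat := @Bool.rec (fun _ => Nat) (col3_361) (col3_s_362_364 c) (Nat.ble 362 c)
noncomputable def col3_s_358_364 (c : Nat) : Nat := @Bool.rec (fun _ => Nat) (col3_s_358_361 c) (col3_s_361_364 c) (Nat.ble 361 c)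
noncomputable def col3_s_352_364 (c : Nat) : Nat := @Bool.rec (fun _ => Nat) (col3_s_352_358 c) (col3_s_358_364 c) (Nat.ble 358 c)
noncomputable def col3_s_365_367 (c : Nat) : Nat := @Bool.rec (fun _ => Nat) (col3_365) (col3_366) (Nat.ble 366 c)
noncomputable def col3_s_364_367 (c : Nat) : Nat := @Bool.rec (fun _ => Nat) (col3_364) (col3_s_365_367 c) (Nat.ble 365 c)
noncomputable def col3_s_368_370 (c : Nat) : Nat := @Bool.rec (fun _ => Nat) (col3_368) (col3_369) (Nat.ble 369 c)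
noncomputable def col3_s_367_370 (c : Nat) : Nat := @Bool.rec (fun _ => Nat) (col3_367) (col3_s_368_370 c) (Nat.ble 368 c)
noncomputable def col3_s_364_370 (c : Nat) : Nat := @Bool.rec (fun _ => Nat) (col3_s_364_367 c) (col3_s_367_370 c) (Nat.ble 367 c)
noncomputable def col3_s_371_373 (c : Nat) : Nat := @Bool.rec (fun _ => Nat) (col3_371) (col3_372) (Nat.ble 372 c)
noncomputable def col3_s_370_373 (c : Nat) : Nat := @Bool.rec (fun _ => Nat) (col3_370) (col3_s_371_373 c) (Nat.ble 371 c)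
noncomputable def col3_s_374_376 (c : Nat) : Nat := @Bool.rec (fun _ => Nat) (col3_374) (col3_375) (Nat.ble 375 c)
noncomputable def col3_s_373_376 (c : Nat) : Nat := @Bool.rec (fun _ => Nat) (col3_373) (col3_s_374_376 c) (Nat.ble 374 c)
noncomputable def col3_s_370_376 (c : Nat) : Nat := @Bool.rec (fun _ => Nat) (col3_s_370_373 c) (col3_s_373_376 c) (Nat.ble 373 c)
noncomputable def col3_s_364_376 (c : Nat) : Nat := @Bool.rec (fun _ => Nat) (col3_s_364_370 c) (col3_s_370_376 c) (Nat.ble 370 c)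
noncomputable def col3_s_352_376 (c : Nat) : Nat := @Bool.rec (fun _ => Nat) (col3_s_352_364 c) (col3_s_364_376 c) (Nat.ble 364 c)
noncomputable def col3_s_329_376 (c : Nat) : Nat := @Bool.rec (fun _ => Nat) (col3_s_329_352 c) (col3_s_352_376 c) (Nat.ble 352 c)
noncomputable def col3_s_282_376 (c : Nat) : Nat := @Bool.rec (fun _ => Nat) (col3_s_282_329 c) (col3_s_329_376 c) (Nat.ble 329 c)
noncomputable def col3_s_188_376 (c : Nat) : Nat := @Bool.rec (fun _ => Nat) (col3_s_188_282 c) (col3_s_282_376 c) (Nat.ble 282 c)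
noncomputable def col3_s_0_376 (c : Nat) : Nat := @Bool.rec (fun _ => Nat) (col3_s_0_188 c) (col3_s_188_376 c) (Nat.ble 188 c)
noncomputable def col3 (i : Nat) : Nat := rdw 21 2097151 (col3_s_0_376 (Nat.shiftRight i 12)) (Nat.land i 4095)
noncomputable def col4_s_0_2 (c : Nat) : Nat := @Bool.rec (fun _ => Nat) (col4_0) (col4_1) (Nat.ble 1 c)
noncomputable def col4_s_3_5 (c : Nat) : Nat := @Bool.rec (fun _ => Nat) (col4_3) (col4_4) (Nat.ble 4 c)
noncomputable def col4_s_2_5 (c : Nat) : Nat := @Bool.rec (fun _ => Nat) (col4_2) (col4_s_3_5 c) (Nat.ble 3 c)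
noncomputable def col4_s_0_5 (c : Nat) : Nat := @Bool.rec (fun _ => Nat) (col4_s_0_2 c) (col4_s_2_5 c) (Nat.ble 2 c)
noncomputable def col4_s_6_8 (c : Nat) : Nat := @Bool.rec (fun _ => Nat) (col4_6) (col4_7) (Nat.ble 7 c)
noncomputable def col4_s_5_8 (c : Nat) : Nat := @Bool.rec (fun _ => Nat) (col4_5) (col4_s_6_8 c) (Nat.ble 6 c)
noncomputable def col4_s_9_11 (c : Nat) : Nat := @Bool.rec (fun _ => Nat) (col4_9) (col4_10) (Nat.ble 10 c)
noncomputable def col4_s_8_11 (c : Nat) : Nat := @Bool.rec (fun _ => Nat) (col4_8) (col4_s_9_11 c) (Nat.ble 9 c)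
noncomputable def col4_s_5_11 (c : Nat) : Nat := @Bool.rec (fun _ => Nat) (col4_s_5_8 c) (col4_s_8_11 c) (Nat.ble 8 c)
noncomputable def col4_s_0_11 (c : Nat) : Nat := @Bool.rec (fun _ => Nat) (col4_s_0_5 c) (col4_s_5_11 c) (Nat.ble 5 c)
noncomputable def col4_s_12_14 (c : Nat) : Nat := @Bool.rec (fun _ => Nat) (col4_12) (col4_13) (Nat.ble 13 c)
noncomputable def col4_s_11_14 (c : Nat) : Nat := @Bool.rec (fun _ => Nat) (col4_11) (col4_s_12_14 c) (Nat.ble 12 c)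
noncomputable def col4_s_15_17 (c : Nat) : Nat := @Bool.rec (fun _ => Nat) (col4_15) (col4_16) (Nat.ble 16 c)
noncomputable def col4_s_14_17 (c : Nat) : Nat := @Bool.rec (fun _ => Nat) (col4_14) (col4_s_15_17 c) (Nat.ble 15 c)
noncomputable def col4_s_11_17 (c : Nat) : Nat := @Bool.rec (fun _ => Nat) (col4_s_11_14 c) (col4_s_14_17 c) (Nat.ble 14 c)
noncomputable def col4_s_18_20 (c : Nat) : Nat := @Bool.rec (fun _ => Nat) (col4_18) (col4_19) (Nat.ble 19 c)
noncomputable def col4_s_17_20 (c : Nat) : Nat := @Bool.rec (fun _ => Nat) (col4_17) (col4_s_18_20 c) (Nat.ble 18 c)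
noncomputable def col4_s_21_23 (c : Nat) : Nat := @Bool.rec (fun _ => Nat) (col4_21) (col4_22) (Nat.ble 22 c)
noncomputable def col4_s_20_23 (c : Nat) : Nat := @Bool.rec (fun _ => Nat) (col4_20) (col4_s_21_23 c) (Nat.ble 21 c)
noncomputable def col4_s_17_23 (c : Nat) : Nat := @Bool.rec (fun _ => Nat) (col4_s_17_20 c) (col4_s_20_23 c) (Nat.ble 20 c)
noncomputable def col4_s_11_23 (c : Nat) : Nat := @Bool.rec (fun _ => Nat) (col4_s_11_17 c) (col4_s_17_23 c) (Nat.ble 17 c)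
noncomputable def col4_s_0_23 (c : Nat) : Nat := @Bool.rec (fun _ => Nat) (col4_s_0_11 c) (col4_s_11_23 c) (Nat.ble 11 c)
noncomputable def col4_s_24_26 (c : Nat) : Nat := @Bool.rec (fun _ => Nat) (col4_24) (col4_25) (Nat.ble 25 c)
noncomputable def col4_s_23_26 (c : Nat) : Nat := @Bool.rec (fun _ => Nat) (col4_23) (col4_s_24_26 c) (Nat.ble 24 c)
noncomputable def col4_s_27_29 (c : Nat) : Nat := @Bool.rec (fun _ => Nat) (col4_27) (col4_28) (Nat.ble 28 c)
noncomputable def col4_s_26_29 (c : Nat) : Nat := @Bool.rec (fun _ => Nat) (col4_26) (col4_s_27_29 c) (Nat.ble 27 c)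
noncomputable def col4_s_23_29 (c : Nat) : Nat := @Bool.rec (fun _ => Nat) (col4_s_23_26 c) (col4_s_26_29 c) (Nat.ble 26 c)
noncomputable def col4_s_30_32 (c : Nat) : Nat := @Bool.rec (fun _ => Nat) (col4_30) (col4_31) (Nat.ble 31 c)
noncomputable def col4_s_29_32 (c : Nat) : Nat := @Bool.rec (fun _ => Nat) (col4_29) (col4_s_30_32 c) (Nat.ble 30 c)
noncomputable def col4_s_33_35 (c : Nat) : Nat := @Bool.rec (fun _ => Nat) (col4_33) (col4_34) (Nat.ble 34 c)
noncomputable def col4_s_32_35 (c : Nat) : Nat := @Bool.rec (fun _ => Nat) (col4_32) (col4_s_33_35 c) (Nat.ble 33 c)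
noncomputable def col4_s_29_35 (c : Nat) : Nat := @Bool.rec (fun _ => Nat) (col4_s_29_32 c) (col4_s_32_35 c) (Nat.ble 32 c)
noncomputable def col4_s_23_35 (c : Nat) : Nat := @Bool.rec (fun _ => Nat) (col4_s_23_29 c) (col4_s_29_35 c) (Nat.ble 29 c)
noncomputable def col4_s_36_38 (c : Nat) : Nat := @Bool.rec (fun _ => Nat) (col4_36) (col4_37) (Nat.ble 37 c)
noncomputable def col4_s_35_38 (c : Nat) : Nat := @Bool.rec (fun _ => Nat) (col4_35) (col4_s_36_38 c) (Nat.ble 36 c)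
noncomputable def col4_s_39_41 (c : Nat) : Nat := @Bool.rec (fun _ => Nat) (col4_39) (col4_40) (Nat.ble 40 c)
noncomputable def col4_s_38_41 (c : Nat) : Nat := @Bool.rec (fun _ => Nat) (col4_38) (col4_s_39_41 c) (Nat.ble 39 c)
noncomputable def col4_s_35_41 (c : Nat) : Nat := @Bool.rec (fun _ => Nat) (col4_s_35_38 c) (col4_s_38_41 c) (Nat.ble 38 c)
noncomputable def col4_s_42_44 (c : Nat) : Nat := @Bool.rec (fun _ => Nat) (col4_42) (col4_43) (Nat.ble 43 c)
noncomputable def col4_s_41_44 (c : Nat) : Nat := @Bool.rec (fun _ => Nat) (col4_41) (col4_s_42_44 c) (Nat.ble 42 c)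
noncomputable def col4_s_45_47 (c : Nat) : Nat := @Bool.rec (fun _ => Nat) (col4_45) (col4_46) (Nat.ble 46 c)
noncomputable def col4_s_44_47 (c : Nat) : Nat := @Bool.rec (fun _ => Nat) (col4_44) (col4_s_45_47 c) (Nat.ble 45 c)
noncomputable def col4_s_41_47 (c : Nat) : Nat := @Bool.rec (fun _ => Nat) (col4_s_41_44 c) (col4_s_44_47 c) (Nat.ble 44 c)
noncomputable def col4_s_35_47 (c : Nat) : Nat := @Bool.rec (fun _ => Nat) (col4_s_35_41 c) (col4_s_41_47 c) (Nat.ble 41 c)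
noncomputable def col4_s_23_47 (c : Nat) : Nat := @Bool.rec (fun _ => Nat) (col4_s_23_35 c) (col4_s_35_47 c) (Nat.ble 35 c)
noncomputable def col4_s_0_47 (c : Nat) : Nat := @Bool.rec (fun _ => Nat) (col4_s_0_23 c) (col4_s_23_47 c) (Nat.ble 23 c)
noncomputable def col4_s_47_49 (c : Nat) : Nat := @Bool.rec (fun _ => Nat) (col4_47) (col4_48) (Nat.ble 48 c)
noncomputable def col4_s_50_52 (c : Nat) : Nat := @Bool.rec (fun _ => Nat) (col4_50) (col4_51) (Nat.ble 51 c)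
noncomputable def col4_s_49_52 (c : Nat) : Nat := @Bool.rec (fun _ => Nat) (col4_49) (col4_s_50_52 c) (Nat.ble 50 c)
noncomputable def col4_s_47_52 (c : Nat) : Nat := @Bool.rec (fun _ => Nat) (col4_s_47_49 c) (col4_s_49_52 c) (Nat.ble 49 c)
noncomputable def col4_s_53_55 (c : Nat) : Nat := @Bool.rec (fun _ => Nat) (col4_53) (col4_54) (Nat.ble 54 c)
noncomputable def col4_s_52_55 (c : Nat) : Nat := @Bool.rec (fun _ => Nat) (col4_52) (col4_s_53_55 c) (Nat.ble 53 c)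
noncomputable def col4_s_56_58 (c : Nat) : Nat := @Bool.rec (fun _ => Nat) (col4_56) (col4_57) (Nat.ble 57 c)
noncomputable def col4_s_55_58 (c : Nat) : Nat := @Bool.rec (fun _ => Nat) (col4_55) (col4_s_56_58 c) (Nat.ble 56 c)
noncomputable def col4_s_52_58 (c : Nat) : Nat := @Bool.rec (fun _ => Nat) (col4_s_52_55 c) (col4_s_55_58 c) (Nat.ble 55 c)
noncomputable def col4_s_47_58 (c : Nat) : Nat := @Bool.rec (fun _ => Nat) (col4_s_47_52 c) (col4_s_52_58 c) (Nat.ble 52 c)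
noncomputable def col4_s_59_61 (c : Nat) : Nat := @Bool.rec (fun _ => Nat) (col4_59) (col4_60) (Nat.ble 60 c)
noncomputable def col4_s_58_61 (c : Nat) : Nat := @Bool.rec (fun _ => Nat) (col4_58) (col4_s_59_61 c) (Nat.ble 59 c)
noncomputable def col4_s_62_64 (c : Nat) : Nat := @Bool.rec (fun _ => Nat) (col4_62) (col4_63) (Nat.ble 63 c)
noncomputable def col4_s_61_64 (c : Nat) : Nat := @Bool.rec (fun _ => Nat) (col4_61) (col4_s_62_64 c) (Nat.ble 62 c)
noncomputable def col4_s_58_64 (c : Nat) : Nat := @Bool.rec (fun _ => Nat) (col4_s_58_61 c) (col4_s_61_64 c) (Nat.ble 61 c)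
noncomputable def col4_s_65_67 (c : Nat) : Nat := @Bool.rec (fun _ => Nat) (col4_65) (col4_66) (Nat.ble 66 c)
noncomputable def col4_s_64_67 (c : Nat) : Nat := @Bool.rec (fun _ => Nat) (col4_64) (col4_s_65_67 c) (Nat.ble 65 c)
noncomputable def col4_s_68_70 (c : Nat) : Nat := @Bool.rec (fun _ => Nat) (col4_68) (col4_69) (Nat.ble 69 c)
noncomputable def col4_s_67_70 (c : Nat) : Nat := @Bool.rec (fun _ => Nat) (col4_67) (col4_s_68_70 c) (Nat.ble 68 c)
noncomputable def col4_s_64_70 (c : Nat) : Nat := @Bool.rec (fun _ => Nat) (col4_s_64_67 c) (col4_s_67_70 c) (Nat.ble 67 c)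
noncomputable def col4_s_58_70 (c : Nat) : Nat := @Bool.rec (fun _ => Nat) (col4_s_58_64 c) (col4_s_64_70 c) (Nat.ble 64 c)
noncomputable def col4_s_47_70 (c : Nat) : Nat := @Bool.rec (fun _ => Nat) (col4_s_47_58 c) (col4_s_58_70 c) (Nat.ble 58 c)
noncomputable def col4_s_71_73 (c : Nat) : Nat := @Bool.rec (fun _ => Nat) (col4_71) (col4_72) (Nat.ble 72 c)
noncomputable def col4_s_70_73 (c : Nat) : Nat := @Bool.rec (fun _ => Nat) (col4_70) (col4_s_71_73 c) (Nat.ble 71 c)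
noncomputable def col4_s_74_76 (c : Nat) : Nat := @Bool.rec (fun _ => Nat) (col4_74) (col4_75) (Nat.ble 75 c)
noncomputable def col4_s_73_76 (c : Nat) : Nat := @Bool.rec (fun _ => Nat) (col4_73) (col4_s_74_76 c) (Nat.ble 74 c)
noncomputable def col4_s_70_76 (c : Nat) : Nat := @Bool.rec (fun _ => Nat) (col4_s_70_73 c) (col4_s_73_76 c) (Nat.ble 73 c)
noncomputable def col4_s_77_79 (c : Nat) : Nat := @Bool.rec (fun _ => Nat) (col4_77) (col4_78) (Nat.ble 78 c)
noncomputable def col4_s_76_79 (c : Nat) : Nat := @Bool.rec (fun _ => Nat) (col4_76) (col4_s_77_79 c) (Nat.ble 77 c)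
noncomputable def col4_s_80_82 (c : Nat) : Nat := @Bool.rec (fun _ => Nat) (col4_80) (col4_81) (Nat.ble 81 c)
noncomputable def col4_s_79_82 (c : Nat) : Nat := @Bool.rec (fun _ => Nat) (col4_79) (col4_s_80_82 c) (Nat.ble 80 c)
noncomputable def col4_s_76_82 (c : Nat) : Nat := @Bool.rec (fun _ => Nat) (col4_s_76_79 c) (col4_s_79_82 c) (Nat.ble 79 c)
noncomputable def col4_s_70_82 (c : Nat) : Nat := @Bool.rec (fun _ => Nat) (col4_s_70_76 c) (col4_s_76_82 c) (Nat.ble 76 c)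
noncomputable def col4_s_83_85 (c : Nat) : Nat := @Bool.rec (fun _ => Nat) (col4_83) (col4_84) (Nat.ble 84 c)
noncomputable def col4_s_82_85 (c : Nat) : Nat := @Bool.rec (fun _ => Nat) (col4_82) (col4_s_83_85 c) (Nat.ble 83 c)
noncomputable def col4_s_86_88 (c : Nat) : Nat := @Bool.rec (fun _ => Nat) (col4_86) (col4_87) (Nat.ble 87 c)
noncomputable def col4_s_85_88 (c : Nat) : Nat := @Bool.rec (fun _ => Nat) (col4_85) (col4_s_86_88 c) (Nat.ble 86 c)
noncomputable def col4_s_82_88 (c : Nat) : Nat := @Bool.rec (fun _ => Nat) (col4_s_82_85 c) (col4_s_85_88 c) (Nat.ble 85 c)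
noncomputable def col4_s_89_91 (c : Nat) : Nat := @Bool.rec (fun _ => Nat) (col4_89) (col4_90) (Nat.ble 90 c)
noncomputable def col4_s_88_91 (c : Nat) : Nat := @Bool.rec (fun _ => Nat) (col4_88) (col4_s_89_91 c) (Nat.ble 89 c)
noncomputable def col4_s_92_94 (c : Nat) : Nat := @Bool.rec (fun _ => Nat) (col4_92) (col4_93) (Nat.ble 93 c)
noncomputable def col4_s_91_94 (c : Nat) : Nat := @Bool.rec (fun _ => Nat) (col4_91) (col4_s_92_94 c) (Nat.ble 92 c)
noncomputable def col4_s_88_94 (c : Nat) : Nat := @Bool.rec (fun _ => Nat) (col4_s_88_91 c) (col4_s_91_94 c) (Nat.ble 91 c)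
noncomputable def col4_s_82_94 (c : Nat) : Nat := @Bool.rec (fun _ => Nat) (col4_s_82_88 c) (col4_s_88_94 c) (Nat.ble 88 c)
noncomputable def col4_s_70_94 (c : Nat) : Nat := @Bool.rec (fun _ => Nat) (col4_s_70_82 c) (col4_s_82_94 c) (Nat.ble 82 c)
noncomputable def col4_s_47_94 (c : Nat) : Nat := @Bool.rec (fun _ => Nat) (col4_s_47_70 c) (col4_s_70_94 c) (Nat.ble 70 c)
noncomputable def col4_s_0_94 (c : Nat) : Nat := @Bool.rec (fun _ => Nat) (col4_s_0_47 c) (col4_s_47_94 c) (Nat.ble 47 c)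
noncomputable def col4_s_94_96 (c : Nat) : Nat := @Bool.rec (fun _ => Nat) (col4_94) (col4_95) (Nat.ble 95 c)
noncomputable def col4_s_97_99 (c : Nat) : Nat := @Bool.rec (fun _ => Nat) (col4_97) (col4_98) (Nat.ble 98 c)
noncomputable def col4_s_96_99 (c : Nat) : Nat := @Bool.rec (fun _ => Nat) (col4_96) (col4_s_97_99 c) (Nat.ble 97 c)
noncomputable def col4_s_94_99 (c : Nat) : Nat := @Bool.rec (fun _ => Nat) (col4_s_94_96 c) (col4_s_96_99 c) (Nat.ble 96 c)
noncomputable def col4_s_100_102 (c : Nat) : Nat := @Bool.rec (fun _ => Nat) (col4_100) (col4_101) (Nat.ble 101 c)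
noncomputable def col4_s_99_102 (c : Nat) : Nat := @Bool.rec (fun _ => Nat) (col4_99) (col4_s_100_102 c) (Nat.ble 100 c)
noncomputable def col4_s_103_105 (c : Nat) : Nat := @Bool.rec (fun _ => Nat) (col4_103) (col4_104) (Nat.ble 104 c)
noncomputable def col4_s_102_105 (c : Nat) : Nat := @Bool.rec (fun _ => Nat) (col4_102) (col4_s_103_105 c) (Nat.ble 103 c)
noncomputable def col4_s_99_105 (c : Nat) : Nat := @Bool.rec (fun _ => Nat) (col4_s_99_102 c) (col4_s_102_105 c) (Nat.ble 102 c)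
noncomputable def col4_s_94_105 (c : Nat) : Nat := @Bool.rec (fun _ => Nat) (col4_s_94_99 c) (col4_s_99_105 c) (Nat.ble 99 c)
noncomputable def col4_s_106_108 (c : Nat) : Nat := @Bool.rec (fun _ => Nat) (col4_106) (col4_107) (Nat.ble 107 c)
noncomputable def col4_s_105_108 (c : Nat) : Nat := @Bool.rec (fun _ => Nat) (col4_105) (col4_s_106_108 c) (Nat.ble 106 c)
noncomputable def col4_s_109_111 (c : Nat) : Nat := @Bool.rec (fun _ => Nat) (col4_109) (col4_110) (Nat.ble 110 c)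
noncomputable def col4_s_108_111 (c : Nat) : Nat := @Bool.rec (fun _ => Nat) (col4_108) (col4_s_109_111 c) (Nat.ble 109 c)
noncomputable def col4_s_105_111 (c : Nat) : Nat := @Bool.rec (fun _ => Nat) (col4_s_105_108 c) (col4_s_108_111 c) (Nat.ble 108 c)
noncomputable def col4_s_112_114 (c : Nat) : Nat := @Bool.rec (fun _ => Nat) (col4_112) (col4_113) (Nat.ble 113 c)
noncomputable def col4_s_111_114 (c : Nat) : Nat := @Bool.rec (fun _ => Nat) (col4_111) (col4_s_112_114 c) (Nat.ble 112 c)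
noncomputable def col4_s_115_117 (c : Nat) : Nat := @Bool.rec (fun _ => Nat) (col4_115) (col4_116) (Nat.ble 116 c)
noncomputable def col4_s_114_117 (c : Nat) : Nat := @Bool.rec (fun _ => Nat) (col4_114) (col4_s_115_117 c) (Nat.ble 115 c)
noncomputable def col4_s_111_117 (c : Nat) : Nat := @Bool.rec (fun _ => Nat) (col4_s_111_114 c) (col4_s_114_117 c) (Nat.ble 114 c)
noncomputable def col4_s_105_117 (c : Nat) : Nat := @Bool.rec (fun _ => Nat) (col4_s_105_111 c) (col4_s_111_117 c) (Nat.ble 111 c)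
noncomputable def col4_s_94_117 (c : Nat) : Nat := @Bool.rec (fun _ => Nat) (col4_s_94_105 c) (col4_s_105_117 c) (Nat.ble 105 c)
noncomputable def col4_s_118_120 (c : Nat) : Nat := @Bool.rec (fun _ => Nat) (col4_118) (col4_119) (Nat.ble 119 c)
noncomputable def col4_s_117_120 (c : Nat) : Nat := @Bool.rec (fun _ => Nat) (col4_117) (col4_s_118_120 c) (Nat.ble 118 c)
noncomputable def col4_s_121_123 (c : Nat) : Nat := @Bool.rec (fun _ => Nat) (col4_121) (col4_122) (Nat.ble 122 c)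
noncomputable def col4_s_120_123 (c : Nat) : Nat := @Bool.rec (fun _ => Nat) (col4_120) (col4_s_121_123 c) (Nat.ble 121 c)
noncomputable def col4_s_117_123 (c : Nat) : Nat := @Bool.rec (fun _ => Nat) (col4_s_117_120 c) (col4_s_120_123 c) (Nat.ble 120 c)
noncomputable def col4_s_124_126 (c : Nat) : Nat := @Bool.rec (fun _ => Nat) (col4_124) (col4_125) (Nat.ble 125 c)
noncomputable def col4_s_123_126 (c : Nat) : Nat := @Bool.rec (fun _ => Nat) (col4_123) (col4_s_124_126 c) (Nat.ble 124 c)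
noncomputable def col4_s_127_129 (c : Nat) : Nat := @Bool.rec (fun _ => Nat) (col4_127) (col4_128) (Nat.ble 128 c)
noncomputable def col4_s_126_129 (c : Nat) : Nat := @Bool.rec (fun _ => Nat) (col4_126) (col4_s_127_129 c) (Nat.ble 127 c)
noncomputable def col4_s_123_129 (c : Nat) : Nat := @Bool.rec (fun _ => Nat) (col4_s_123_126 c) (col4_s_126_129 c) (Nat.ble 126 c)
noncomputable def col4_s_117_129 (c : Nat) : Nat := @Bool.rec (fun _ => Nat) (col4_s_117_123 c) (col4_s_123_129 c) (Nat.ble 123 c)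
noncomputable def col4_s_130_132 (c : Nat) : Nat := @Bool.rec (fun _ => Nat) (col4_130) (col4_131) (Nat.ble 131 c)
noncomputable def col4_s_129_132 (c : Nat) : Nat := @Bool.rec (fun _ => Nat) (col4_129) (col4_s_130_132 c) (Nat.ble 130 c)
noncomputable def col4_s_133_135 (c : Nat) : Nat := @Bool.rec (fun _ => Nat) (col4_133) (col4_134) (Nat.ble 134 c)
noncomputable def col4_s_132_135 (c : Nat) : Nat := @Bool.rec (fun _ => Nat) (col4_132) (col4_s_133_135 c) (Nat.ble 133 c)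
noncomputable def col4_s_129_135 (c : Nat) : Nat := @Bool.rec (fun _ => Nat) (col4_s_129_132 c) (col4_s_132_135 c) (Nat.ble 132 c)
noncomputable def col4_s_136_138 (c : Nat) : Nat := @Bool.rec (fun _ => Nat) (col4_136) (col4_137) (Nat.ble 137 c)
noncomputable def col4_s_135_138 (c : Nat) : Nat := @Bool.rec (fun _ => Nat) (col4_135) (col4_s_136_138 c) (Nat.ble 136 c)
noncomputable def col4_s_139_141 (c : Nat) : Nat := @Bool.rec (fun _ => Nat) (col4_139) (col4_140) (Nat.ble 140 c)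
noncomputable def col4_s_138_141 (c : Nat) : Nat := @Bool.rec (fun _ => Nat) (col4_138) (col4_s_139_141 c) (Nat.ble 139 c)
noncomputable def col4_s_135_141 (c : Nat) : Nat := @Bool.rec (fun _ => Nat) (col4_s_135_138 c) (col4_s_138_141 c) (Nat.ble 138 c)
noncomputable def col4_s_129_141 (c : Nat) : Nat := @Bool.rec (fun _ => Nat) (col4_s_129_135 c) (col4_s_135_141 c) (Nat.ble 135 c)
noncomputable def col4_s_117_141 (c : Nat) : Nat := @Bool.rec (fun _ => Nat) (col4_s_117_129 c) (col4_s_129_141 c) (Nat.ble 129 c)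
noncomputable def col4_s_94_141 (c : Nat) : Nat := @Bool.rec (fun _ => Nat) (col4_s_94_117 c) (col4_s_117_141 c) (Nat.ble 117 c)
noncomputable def col4_s_141_143 (c : Nat) : Nat := @Bool.rec (fun _ => Nat) (col4_141) (col4_142) (Nat.ble 142 c)
noncomputable def col4_s_144_146 (c : Nat) : Nat := @Bool.rec (fun _ => Nat) (col4_144) (col4_145) (Nat.ble 145 c)
noncomputable def col4_s_143_146 (c : Nat) : Nat := @Bool.rec (fun _ => Nat) (col4_143) (col4_s_144_146 c) (Nat.ble 144 c)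
noncomputable def col4_s_141_146 (c : Nat) : Nat := @Bool.rec (fun _ => Nat) (col4_s_141_143 c) (col4_s_143_146 c) (Nat.ble 143 c)
noncomputable def col4_s_147_149 (c : Nat) : Nat := @Bool.rec (fun _ => Nat) (col4_147) (col4_148) (Nat.ble 148 c)
noncomputable def col4_s_146_149 (c : Nat) : Nat := @Bool.rec (fun _ => Nat) (col4_146) (col4_s_147_149 c) (Nat.ble 147 c)
noncomputable def col4_s_150_152 (c : Nat) : Nat := @Bool.rec (fun _ => Nat) (col4_150) (col4_151) (Nat.ble 151 c)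
noncomputable def col4_s_149_152 (c : Nat) : Nat := @Bool.rec (fun _ => Nat) (col4_149) (col4_s_150_152 c) (Nat.ble 150 c)
noncomputable def col4_s_146_152 (c : Nat) : Nat := @Bool.rec (fun _ => Nat) (col4_s_146_149 c) (col4_s_149_152 c) (Nat.ble 149 c)
noncomputable def col4_s_141_152 (c : Nat) : Nat := @Bool.rec (fun _ => Nat) (col4_s_141_146 c) (col4_s_146_152 c) (Nat.ble 146 c)
noncomputable def col4_s_153_155 (c : Nat) : Nat := @Bool.rec (fun _ => Nat) (col4_153) (col4_154) (Nat.ble 154 c)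
noncomputable def col4_s_152_155 (c : Nat) : Nat := @Bool.rec (fun _ => Nat) (col4_152) (col4_s_153_155 c) (Nat.ble 153 c)
noncomputable def col4_s_156_158 (c : Nat) : Nat := @Bool.rec (fun _ => Nat) (col4_156) (col4_157) (Nat.ble 157 c)
noncomputable def col4_s_155_158 (c : Nat) : Nat := @Bool.rec (fun _ => Nat) (col4_155) (col4_s_156_158 c) (Nat.ble 156 c)
noncomputable def col4_s_152_158 (c : Nat) : Nat := @Bool.rec (fun _ => Nat) (col4_s_152_155 c) (col4_s_155_158 c) (Nat.ble 155 c)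
noncomputable def col4_s_159_161 (c : Nat) : Nat := @Bool.rec (fun _ => Nat) (col4_159) (col4_160) (Nat.ble 160 c)
noncomputable def col4_s_158_161 (c : Nat) : Nat := @Bool.rec (fun _ => Nat) (col4_158) (col4_s_159_161 c) (Nat.ble 159 c)
noncomputable def col4_s_162_164 (c : Nat) : Nat := @Bool.rec (fun _ => Nat) (col4_162) (col4_163) (Nat.ble 163 c)
noncomputable def col4_s_161_164 (c : Nat) : Nat := @Bool.rec (fun _ => Nat) (col4_161) (col4_s_162_164 c) (Nat.ble 162 c)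
noncomputable def col4_s_158_164 (c : Nat) : Nat := @Bool.rec (fun _ => Nat) (col4_s_158_161 c) (col4_s_161_164 c) (Nat.ble 161 c)
noncomputable def col4_s_152_164 (c : Nat) : Nat := @Bool.rec (fun _ => Nat) (col4_s_152_158 c) (col4_s_158_164 c) (Nat.ble 158 c)
noncomputable def col4_s_141_164 (c : Nat) : Nat := @Bool.rec (fun _ => Nat) (col4_s_141_152 c) (col4_s_152_164 c) (Nat.ble 152 c)
noncomputable def col4_s_165_167 (c : Nat) : Nat := @Bool.rec (fun _ => Nat) (col4_165) (col4_166) (Nat.ble 166 c)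
noncomputable def col4_s_164_167 (c : Nat) : Nat := @Bool.rec (fun _ => Nat) (col4_164) (col4_s_165_167 c) (Nat.ble 165 c)
noncomputable def col4_s_168_170 (c : Nat) : Nat := @Bool.rec (fun _ => Nat) (col4_168) (col4_169) (Nat.ble 169 c)
noncomputable def col4_s_167_170 (c : Nat) : Nat := @Bool.rec (fun _ => Nat) (col4_167) (col4_s_168_170 c) (Nat.ble 168 c)
noncomputable def col4_s_164_170 (c : Nat) : Nat := @Bool.rec (fun _ => Nat) (col4_s_164_167 c) (col4_s_167_170 c) (Nat.ble 167 c)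
noncomputable def col4_s_171_173 (c : Nat) : Nat := @Bool.rec (fun _ => Nat) (col4_171) (col4_172) (Nat.ble 172 c)
noncomputable def col4_s_170_173 (c : Nat) : Nat := @Bool.rec (fun _ => Nat) (col4_170) (col4_s_171_173 c) (Nat.ble 171 c)
noncomputable def col4_s_174_176 (c : Nat) : Nat := @Bool.rec (fun _ => Nat) (col4_174) (col4_175) (Nat.ble 175 c)
noncomputable def col4_s_173_176 (c : Nat) : Nat := @Bool.rec (fun _ => Nat) (col4_173) (col4_s_174_176 c) (Nat.ble 174 c)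
noncomputable def col4_s_170_176 (c : Nat) : Nat := @Bool.rec (fun _ => Nat) (col4_s_170_173 c) (col4_s_173_176 c) (Nat.ble 173 c)
noncomputable def col4_s_164_176 (c : Nat) : Nat := @Bool.rec (fun _ => Nat) (col4_s_164_170 c) (col4_s_170_176 c) (Nat.ble 170 c)
noncomputable def col4_s_177_179 (c : Nat) : Nat := @Bool.rec (fun _ => Nat) (col4_177) (col4_178) (Nat.ble 178 c)
noncomputable def col4_s_176_179 (c : Nat) : Nat := @Bool.rec (fun _ => Nat) (col4_176) (col4_s_177_179 c) (Nat.ble 177 c)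
noncomputable def col4_s_180_182 (c : Nat) : Nat := @Bool.rec (fun _ => Nat) (col4_180) (col4_181) (Nat.ble 181 c)
noncomputable def col4_s_179_182 (c : Nat) : Nat := @Bool.rec (fun _ => Nat) (col4_179) (col4_s_180_182 c) (Nat.ble 180 c)
noncomputable def col4_s_176_182 (c : Nat) : Nat := @Bool.rec (fun _ => Nat) (col4_s_176_179 c) (col4_s_179_182 c) (Nat.ble 179 c)
noncomputable def col4_s_183_185 (c : Nat) : Nat := @Bool.rec (fun _ => Nat) (col4_183) (col4_184) (Nat.ble 184 c)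
noncomputable def col4_s_182_185 (c : Nat) : Nat := @Bool.rec (fun _ => Nat) (col4_182) (col4_s_183_185 c) (Nat.ble 183 c)
noncomputable def col4_s_186_188 (c : Nat) : Nat := @Bool.rec (fun _ => Nat) (col4_186) (col4_187) (Nat.ble 187 c)
noncomputable def col4_s_185_188 (c : Nat) : Nat := @Bool.rec (fun _ => Nat) (col4_185) (col4_s_186_188 c) (Nat.ble 186 c)
noncomputable def col4_s_182_188 (c : Nat) : Nat := @Bool.rec (fun _ => Nat) (col4_s_182_185 c) (col4_s_185_188 c) (Nat.ble 185 c)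
noncomputable def col4_s_176_188 (c : Nat) : Nat := @Bool.rec (fun _ => Nat) (col4_s_176_182 c) (col4_s_182_188 c) (Nat.ble 182 c)
noncomputable def col4_s_164_188 (c : Nat) : Nat := @Bool.rec (fun _ => Nat) (col4_s_164_176 c) (col4_s_176_188 c) (Nat.ble 176 c)
noncomputable def col4_s_141_188 (c : Nat) : Nat := @Bool.rec (fun _ => Nat) (col4_s_141_164 c) (col4_s_164_188 c) (Nat.ble 164 c)
noncomputable def col4_s_94_188 (c : Nat) : Nat := @Bool.rec (fun _ => Nat) (col4_s_94_141 c) (col4_s_141_188 c) (Nat.ble 141 c)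
noncomputable def col4_s_0_188 (c : Nat) : Nat := @Bool.rec (fun _ => Nat) (col4_s_0_94 c) (col4_s_94_188 c) (Nat.ble 94 c)
noncomputable def col4_s_188_190 (c : Nat) : Nat := @Bool.rec (fun _ => Nat) (col4_188) (col4_189) (Nat.ble 189 c)
noncomputable def col4_s_191_193 (c : Nat) : Nat := @Bool.rec (fun _ => Nat) (col4_191) (col4_192) (Nat.ble 192 c)
noncomputable def col4_s_190_193 (c : Nat) : Nat := @Bool.rec (fun _ => Nat) (col4_190) (col4_s_191_193 c) (Nat.ble 191 c)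
noncomputable def col4_s_188_193 (c : Nat) : Nat := @Bool.rec (fun _ => Nat) (col4_s_188_190 c) (col4_s_190_193 c) (Nat.ble 190 c)
noncomputable def col4_s_194_196 (c : Nat) : Nat := @Bool.rec (fun _ => Nat) (col4_194) (col4_195) (Nat.ble 195 c)
noncomputable def col4_s_193_196 (c : Nat) : Nat := @Bool.rec (fun _ => Nat) (col4_193) (col4_s_194_196 c) (Nat.ble 194 c)
noncomputable def col4_s_197_199 (c : Nat) : Nat := @Bool.rec (fun _ => Nat) (col4_197) (col4_198) (Nat.ble 198 c)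
noncomputable def col4_s_196_199 (c : Nat) : Nat := @Bool.rec (fun _ => Nat) (col4_196) (col4_s_197_199 c) (Nat.ble 197 c)
noncomputable def col4_s_193_199 (c : Nat) : Nat := @Bool.rec (fun _ => Nat) (col4_s_193_196 c) (col4_s_196_199 c) (Nat.ble 196 c)
noncomputable def col4_s_188_199 (c : Nat) : Nat := @Bool.rec (fun _ => Nat) (col4_s_188_193 c) (col4_s_193_199 c) (Nat.ble 193 c)
noncomputable def col4_s_200_202 (c : Nat) : Nat := @Bool.rec (fun _ => Nat) (col4_200) (col4_201) (Nat.ble 201 c)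
noncomputable def col4_s_199_202 (c : Nat) : Nat := @Bool.rec (fun _ => Nat) (col4_199) (col4_s_200_202 c) (Nat.ble 200 c)
noncomputable def col4_s_203_205 (c : Nat) : Nat := @Bool.rec (fun _ => Nat) (col4_203) (col4_204) (Nat.ble 204 c)
noncomputable def col4_s_202_205 (c : Nat) : Nat := @Bool.rec (fun _ => Nat) (col4_202) (col4_s_203_205 c) (Nat.ble 203 c)
noncomputable def col4_s_199_205 (c : Nat) : Nat := @Bool.rec (fun _ => Nat) (col4_s_199_202 c) (col4_s_202_205 c) (Nat.ble 202 c)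
noncomputable def col4_s_206_208 (c : Nat) : Nat := @Bool.rec (fun _ => Nat) (col4_206) (col4_207) (Nat.ble 207 c)
noncomputable def col4_s_205_208 (c : Nat) : Nat := @Bool.rec (fun _ => Nat) (col4_205) (col4_s_206_208 c) (Nat.ble 206 c)
noncomputable def col4_s_209_211 (c : Nat) : Nat := @Bool.rec (fun _ => Nat) (col4_209) (col4_210) (Nat.ble 210 c)
noncomputable def col4_s_208_211 (c : Nat) : Nat := @Bool.rec (fun _ => Nat) (col4_208) (col4_s_209_211 c) (Nat.ble 209 c)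
noncomputable def col4_s_205_211 (c : Nat) : Nat := @Bool.rec (fun _ => Nat) (col4_s_205_208 c) (col4_s_208_211 c) (Nat.ble 208 c)
noncomputable def col4_s_199_211 (c : Nat) : Nat := @Bool.rec (fun _ => Nat) (col4_s_199_205 c) (col4_s_205_211 c) (Nat.ble 205 c)
noncomputable def col4_s_188_211 (c : Nat) : Nat := @Bool.rec (fun _ => Nat) (col4_s_188_199 c) (col4_s_199_211 c) (Nat.ble 199 c)
noncomputable def col4_s_212_214 (c : Nat) : Nat := @Bool.rec (fun _ => Nat) (col4_212) (col4_213) (Nat.ble 213 c)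
noncomputable def col4_s_211_214 (c : Nat) : Nat := @Bool.rec (fun _ => Nat) (col4_211) (col4_s_212_214 c) (Nat.ble 212 c)
noncomputable def col4_s_215_217 (c : Nat) : Nat := @Bool.rec (fun _ => Nat) (col4_215) (col4_216) (Nat.ble 216 c)
noncomputable def col4_s_214_217 (c : Nat) : Nat := @Bool.rec (fun _ => Nat) (col4_214) (col4_s_215_217 c) (Nat.ble 215 c)
noncomputable def col4_s_211_217 (c : Nat) : Nat := @Bool.rec (fun _ => Nat) (col4_s_211_214 c) (col4_s_214_217 c) (Nat.ble 214 c)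
noncomputable def col4_s_218_220 (c : Nat) : Nat := @Bool.rec (fun _ => Nat) (col4_218) (col4_219) (Nat.ble 219 c)
noncomputable def col4_s_217_220 (c : Nat) : Nat := @Bool.rec (fun _ => Nat) (col4_217) (col4_s_218_220 c) (Nat.ble 218 c)
noncomputable def col4_s_221_223 (c : Nat) : Nat := @Bool.rec (fun _ => Nat) (col4_221) (col4_222) (Nat.ble 222 c)
noncomputable def col4_s_220_223 (c : Nat) : Nat := @Bool.rec (fun _ => Nat) (col4_220) (col4_s_221_223 c) (Nat.ble 221 c)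
noncomputable def col4_s_217_223 (c : Nat) : Nat := @Bool.rec (fun _ => Nat) (col4_s_217_220 c) (col4_s_220_223 c) (Nat.ble 220 c)
noncomputable def col4_s_211_223 (c : Nat) : Nat := @Bool.rec (fun _ => Nat) (col4_s_211_217 c) (col4_s_217_223 c) (Nat.ble 217 c)
noncomputable def col4_s_224_226 (c : Nat) : Nat := @Bool.rec (fun _ => Nat) (col4_224) (col4_225) (Nat.ble 225 c)
noncomputable def col4_s_223_226 (c : Nat) : Nat := @Bool.rec (fun _ => Nat) (col4_223) (col4_s_224_226 c) (Nat.ble 224 c)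
noncomputable def col4_s_227_229 (c : Nat) : Nat := @Bool.rec (fun _ => Nat) (col4_227) (col4_228) (Nat.ble 228 c)
noncomputable def col4_s_226_229 (c : Nat) : Nat := @Bool.rec (fun _ => Nat) (col4_226) (col4_s_227_229 c) (Nat.ble 227 c)
noncomputable def col4_s_223_229 (c : Nat) : Nat := @Bool.rec (fun _ => Nat) (col4_s_223_226 c) (col4_s_226_229 c) (Nat.ble 226 c)
noncomputable def col4_s_230_232 (c : Nat) : Nat := @Bool.rec (fun _ => Nat) (col4_230) (col4_231) (Nat.ble 231 c)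
noncomputable def col4_s_229_232 (c : Nat) : Nat := @Bool.rec (fun _ => Nat) (col4_229) (col4_s_230_232 c) (Nat.ble 230 c)
noncomputable def col4_s_233_235 (c : Nat) : Nat := @Bool.rec (fun _ => Nat) (col4_233) (col4_234) (Nat.ble 234 c)
noncomputable def col4_s_232_235 (c : Nat) : Nat := @Bool.rec (fun _ => Nat) (col4_232) (col4_s_233_235 c) (Nat.ble 233 c)
noncomputable def col4_s_229_235 (c : Nat) : Nat := @Bool.rec (fun _ => Nat) (col4_s_229_232 c) (col4_s_232_235 c) (Nat.ble 232 c)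
noncomputable def col4_s_223_235 (c : Nat) : Nat := @Bool.rec (fun _ => Nat) (col4_s_223_229 c) (col4_s_229_235 c) (Nat.ble 229 c)
noncomputable def col4_s_211_235 (c : Nat) : Nat := @Bool.rec (fun _ => Nat) (col4_s_211_223 c) (col4_s_223_235 c) (Nat.ble 223 c)
noncomputable def col4_s_188_235 (c : Nat) : Nat := @Bool.rec (fun _ => Nat) (col4_s_188_211 c) (col4_s_211_235 c) (Nat.ble 211 c)
noncomputable def col4_s_235_237 (c : Nat) : Nat := @Bool.rec (fun _ => Nat) (col4_235) (col4_236) (Nat.ble 236 c)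
noncomputable def col4_s_238_240 (c : Nat) : Nat := @Bool.rec (fun _ => Nat) (col4_238) (col4_239) (Nat.ble 239 c)
noncomputable def col4_s_237_240 (c : Nat) : Nat := @Bool.rec (fun _ => Nat) (col4_237) (col4_s_238_240 c) (Nat.ble 238 c)
noncomputable def col4_s_235_240 (c : Nat) : Nat := @Bool.rec (fun _ => Nat) (col4_s_235_237 c) (col4_s_237_240 c) (Nat.ble 237 c)
noncomputable def col4_s_241_243 (c : Nat) : Nat := @Bool.rec (fun _ => Nat) (col4_241) (col4_242) (Nat.ble 242 c)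
noncomputable def col4_s_240_243 (c : Nat) : Nat := @Bool.rec (fun _ => Nat) (col4_240) (col4_s_241_243 c) (Nat.ble 241 c)
noncomputable def col4_s_244_246 (c : Nat) : Nat := @Bool.rec (fun _ => Nat) (col4_244) (col4_245) (Nat.ble 245 c)
noncomputable def col4_s_243_246 (c : Nat) : Nat := @Bool.rec (fun _ => Nat) (col4_243) (col4_s_244_246 c) (Nat.ble 244 c)
noncomputable def col4_s_240_246 (c : Nat) : Nat := @Bool.rec (fun _ => Nat) (col4_s_240_243 c) (col4_s_243_246 c) (Nat.ble 243 c)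
noncomputable def col4_s_235_246 (c : Nat) : Nat := @Bool.rec (fun _ => Nat) (col4_s_235_240 c) (col4_s_240_246 c) (Nat.ble 240 c)
noncomputable def col4_s_247_249 (c : Nat) : Nat := @Bool.rec (fun _ => Nat) (col4_247) (col4_248) (Nat.ble 248 c)
noncomputable def col4_s_246_249 (c : Nat) : Nat := @Bool.rec (fun _ => Nat) (col4_246) (col4_s_247_249 c) (Nat.ble 247 c)
noncomputable def col4_s_250_252 (c : Nat) : Nat := @Bool.rec (fun _ => Nat) (col4_250) (col4_251) (Nat.ble 251 c)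
noncomputable def col4_s_249_252 (c : Nat) : Nat := @Bool.rec (fun _ => Nat) (col4_249) (col4_s_250_252 c) (Nat.ble 250 c)
noncomputable def col4_s_246_252 (c : Nat) : Nat := @Bool.rec (fun _ => Nat) (col4_s_246_249 c) (col4_s_249_252 c) (Nat.ble 249 c)
noncomputable def col4_s_253_255 (c : Nat) : Nat := @Bool.rec (fun _ => Nat) (col4_253) (col4_254) (Nat.ble 254 c)
noncomputable def col4_s_252_255 (c : Nat) : Nat := @Bool.rec (fun _ => Nat) (col4_252) (col4_s_253_255 c) (Nat.ble 253 c)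
noncomputable def col4_s_256_258 (c : Nat) : Nat := @Bool.rec (fun _ => Nat) (col4_256) (col4_257) (Nat.ble 257 c)
noncomputable def col4_s_255_258 (c : Nat) : Nat := @Bool.rec (fun _ => Nat) (col4_255) (col4_s_256_258 c) (Nat.ble 256 c)
noncomputable def col4_s_252_258 (c : Nat) : Nat := @Bool.rec (fun _ => Nat) (col4_s_252_255 c) (col4_s_255_258 c) (Nat.ble 255 c)
noncomputable def col4_s_246_258 (c : Nat) : Nat := @Bool.rec (fun _ => Nat) (col4_s_246_252 c) (col4_s_252_258 c) (Nat.ble 252 c)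
noncomputable def col4_s_235_258 (c : Nat) : Nat := @Bool.rec (fun _ => Nat) (col4_s_235_246 c) (col4_s_246_258 c) (Nat.ble 246 c)
noncomputable def col4_s_259_261 (c : Nat) : Nat := @Bool.rec (fun _ => Nat) (col4_259) (col4_260) (Nat.ble 260 c)
noncomputable def col4_s_258_261 (c : Nat) : Nat := @Bool.rec (fun _ => Nat) (col4_258) (col4_s_259_261 c) (Nat.ble 259 c)
noncomputable def col4_s_262_264 (c : Nat) : Nat := @Bool.rec (fun _ => Nat) (col4_262) (col4_263) (Nat.ble 263 c)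
noncomputable def col4_s_261_264 (c : Nat) : Nat := @Bool.rec (fun _ => Nat) (col4_261) (col4_s_262_264 c) (Nat.ble 262 c)
noncomputable def col4_s_258_264 (c : Nat) : Nat := @Bool.rec (fun _ => Nat) (col4_s_258_261 c) (col4_s_261_264 c) (Nat.ble 261 c)
noncomputable def col4_s_265_267 (c : Nat) : Nat := @Bool.rec (fun _ => Nat) (col4_265) (col4_266) (Nat.ble 266 c)
noncomputable def col4_s_264_267 (c : Nat) : Nat := @Bool.rec (fun _ => Nat) (col4_264) (col4_s_265_267 c) (Nat.ble 265 c)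
noncomputable def col4_s_268_270 (c : Nat) : Nat := @Bool.rec (fun _ => Nat) (col4_268) (col4_269) (Nat.ble 269 c)
noncomputable def col4_s_267_270 (c : Nat) : Nat := @Bool.rec (fun _ => Nat) (col4_267) (col4_s_268_270 c) (Nat.ble 268 c)
noncomputable def col4_s_264_270 (c : Nat) : Nat := @Bool.rec (fun _ => Nat) (col4_s_264_267 c) (col4_s_267_270 c) (Nat.ble 267 c)
noncomputable def col4_s_258_270 (c : Nat) : Nat := @Bool.rec (fun _ => Nat) (col4_s_258_264 c) (col4_s_264_270 c) (Nat.ble 264 c)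
noncomputable def col4_s_271_273 (c : Nat) : Nat := @Bool.rec (fun _ => Nat) (col4_271) (col4_272) (Nat.ble 272 c)
noncomputable def col4_s_270_273 (c : Nat) : Nat := @Bool.rec (fun _ => Nat) (col4_270) (col4_s_271_273 c) (Nat.ble 271 c)
noncomputable def col4_s_274_276 (c : Nat) : Nat := @Bool.rec (fun _ => Nat) (col4_274) (col4_275) (Nat.ble 275 c)
noncomputable def col4_s_273_276 (c : Nat) : Nat := @Bool.rec (fun _ => Nat) (col4_273) (col4_s_274_276 c) (Nat.ble 274 c)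
noncomputable def col4_s_270_276 (c : Nat) : Nat := @Bool.rec (fun _ => Nat) (col4_s_270_273 c) (col4_s_273_276 c) (Nat.ble 273 c)
noncomputable def col4_s_277_279 (c : Nat) : Nat := @Bool.rec (fun _ => Nat) (col4_277) (col4_278) (Nat.ble 278 c)
noncomputable def col4_s_276_279 (c : Nat) : Nat := @Bool.rec (fun _ => Nat) (col4_276) (col4_s_277_279 c) (Nat.ble 277 c)
noncomputable def col4_s_280_282 (c : Nat) : Nat := @Bool.rec (fun _ => Nat) (col4_280) (col4_281) (Nat.ble 281 c)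
noncomputable def col4_s_279_282 (c : Nat) : Nat := @Bool.rec (fun _ => Nat) (col4_279) (col4_s_280_282 c) (Nat.ble 280 c)
noncomputable def col4_s_276_282 (c : Nat) : Nat := @Bool.rec (fun _ => Nat) (col4_s_276_279 c) (col4_s_279_282 c) (Nat.ble 279 c)
noncomputable def col4_s_270_282 (c : Nat) : Nat := @Bool.rec (fun _ => Nat) (col4_s_270_276 c) (col4_s_276_282 c) (Nat.ble 276 c)
noncomputable def col4_s_258_282 (c : Nat) : Nat := @Bool.rec (fun _ => Nat) (col4_s_258_270 c) (col4_s_270_282 c) (Nat.ble 270 c)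
noncomputable def col4_s_235_282 (c : Nat) : Nat := @Bool.rec (fun _ => Nat) (col4_s_235_258 c) (col4_s_258_282 c) (Nat.ble 258 c)
noncomputable def col4_s_188_282 (c : Nat) : Nat := @Bool.rec (fun _ => Nat) (col4_s_188_235 c) (col4_s_235_282 c) (Nat.ble 235 c)
noncomputable def col4_s_282_284 (c : Nat) : Nat := @Bool.rec (fun _ => Nat) (col4_282) (col4_283) (Nat.ble 283 c)
noncomputable def col4_s_285_287 (c : Nat) : Nat := @Bool.rec (fun _ => Nat) (col4_285) (col4_286) (Nat.ble 286 c)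
noncomputable def col4_s_284_287 (c : Nat) : Nat := @Bool.rec (fun _ => Nat) (col4_284) (col4_s_285_287 c) (Nat.ble 285 c)
noncomputable def col4_s_282_287 (c : Nat) : Nat := @Bool.rec (fun _ => Nat) (col4_s_282_284 c) (col4_s_284_287 c) (Nat.ble 284 c)
noncomputable def col4_s_288_290 (c : Nat) : Nat := @Bool.rec (fun _ => Nat) (col4_288) (col4_289) (Nat.ble 289 c)
noncomputable def col4_s_287_290 (c : Nat) : Nat := @Bool.rec (fun _ => Nat) (col4_287) (col4_s_288_290 c) (Nat.ble 288 c)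
noncomputable def col4_s_291_293 (c : Nat) : Nat := @Bool.rec (fun _ => Nat) (col4_291) (col4_292) (Nat.ble 292 c)
noncomputable def col4_s_290_293 (c : Nat) : Nat := @Bool.rec (fun _ => Nat) (col4_290) (col4_s_291_293 c) (Nat.ble 291 c)
noncomputable def col4_s_287_293 (c : Nat) : Nat := @Bool.rec (fun _ => Nat) (col4_s_287_290 c) (col4_s_290_293 c) (Nat.ble 290 c)
noncomputable def col4_s_282_293 (c : Nat) : Nat := @Bool.rec (fun _ => Nat) (col4_s_282_287 c) (col4_s_287_293 c) (Nat.ble 287 c)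
noncomputable def col4_s_294_296 (c : Nat) : Nat := @Bool.rec (fun _ => Nat) (col4_294) (col4_295) (Nat.ble 295 c)
noncomputable def col4_s_293_296 (c : Nat) : Nat := @Bool.rec (fun _ => Nat) (col4_293) (col4_s_294_296 c) (Nat.ble 294 c)
noncomputable def col4_s_297_299 (c : Nat) : Nat := @Bool.rec (fun _ => Nat) (col4_297) (col4_298) (Nat.ble 298 c)
noncomputable def col4_s_296_299 (c : Nat) : Nat := @Bool.rec (fun _ => Nat) (col4_296) (col4_s_297_299 c) (Nat.ble 297 c)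
noncomputable def col4_s_293_299 (c : Nat) : Nat := @Bool.rec (fun _ => Nat) (col4_s_293_296 c) (col4_s_296_299 c) (Nat.ble 296 c)
noncomputable def col4_s_300_302 (c : Nat) : Nat := @Bool.rec (fun _ => Nat) (col4_300) (col4_301) (Nat.ble 301 c)
noncomputable def col4_s_299_302 (c : Nat) : Nat := @Bool.rec (fun _ => Nat) (col4_299) (col4_s_300_302 c) (Nat.ble 300 c)
noncomputable def col4_s_303_305 (c : Nat) : Nat := @Bool.rec (fun _ => Nat) (col4_303) (col4_304) (Nat.ble 304 c)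
noncomputable def col4_s_302_305 (c : Nat) : Nat := @Bool.rec (fun _ => Nat) (col4_302) (col4_s_303_305 c) (Nat.ble 303 c)
noncomputable def col4_s_299_305 (c : Nat) : Nat := @Bool.rec (fun _ => Nat) (col4_s_299_302 c) (col4_s_302_305 c) (Nat.ble 302 c)
noncomputable def col4_s_293_305 (c : Nat) : Nat := @Bool.rec (fun _ => Nat) (col4_s_293_299 c) (col4_s_299_305 c) (Nat.ble 299 c)
noncomputable def col4_s_282_305 (c : Nat) : Nat := @Bool.rec (fun _ => Nat) (col4_s_282_293 c) (col4_s_293_305 c) (Nat.ble 293 c)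
noncomputable def col4_s_306_308 (c : Nat) : Nat := @Bool.rec (fun _ => Nat) (col4_306) (col4_307) (Nat.ble 307 c)
noncomputable def col4_s_305_308 (c : Nat) : Nat := @Bool.rec (fun _ => Nat) (col4_305) (col4_s_306_308 c) (Nat.ble 306 c)
noncomputable def col4_s_309_311 (c : Nat) : Nat := @Bool.rec (fun _ => Nat) (col4_309) (col4_310) (Nat.ble 310 c)
noncomputable def col4_s_308_311 (c : Nat) : Nat := @Bool.rec (fun _ => Nat) (col4_308) (col4_s_309_311 c) (Nat.ble 309 c)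
noncomputable def col4_s_305_311 (c : Nat) : Nat := @Bool.rec (fun _ => Nat) (col4_s_305_308 c) (col4_s_308_311 c) (Nat.ble 308 c)
noncomputable def col4_s_312_314 (c : Nat) : Nat := @Bool.rec (fun _ => Nat) (col4_312) (col4_313) (Nat.ble 313 c)
noncomputable def col4_s_311_314 (c : Nat) : Nat := @Bool.rec (fun _ => Nat) (col4_311) (col4_s_312_314 c) (Nat.ble 312 c)
noncomputable def col4_s_315_317 (c : Nat) : Nat := @Bool.rec (fun _ => Nat) (col4_315) (col4_316) (Nat.ble 316 c)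
noncomputable def col4_s_314_317 (c : Nat) : Nat := @Bool.rec (fun _ => Nat) (col4_314) (col4_s_315_317 c) (Nat.ble 315 c)
noncomputable def col4_s_311_317 (c : Nat) : Nat := @Bool.rec (fun _ => Nat) (col4_s_311_314 c) (col4_s_314_317 c) (Nat.ble 314 c)
noncomputable def col4_s_305_317 (c : Nat) : Nat := @Bool.rec (fun _ => Nat) (col4_s_305_311 c) (col4_s_311_317 c) (Nat.ble 311 c)
noncomputable def col4_s_318_320 (c : Nat) : Nat := @Bool.rec (fun _ => Nat) (col4_318) (col4_319) (Nat.ble 319 c)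
noncomputable def col4_s_317_320 (c : Nat) : Nat := @Bool.rec (fun _ => Nat) (col4_317) (col4_s_318_320 c) (Nat.ble 318 c)
noncomputable def col4_s_321_323 (c : Nat) : Nat := @Bool.rec (fun _ => Nat) (col4_321) (col4_322) (Nat.ble 322 c)
noncomputable def col4_s_320_323 (c : Nat) : Nat := @Bool.rec (fun _ => Nat) (col4_320) (col4_s_321_323 c) (Nat.ble 321 c)
noncomputable def col4_s_317_323 (c : Nat) : Nat := @Bool.rec (fun _ => Nat) (col4_s_317_320 c) (col4_s_320_323 c) (Nat.ble 320 c)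
noncomputable def col4_s_324_326 (c : Nat) : Nat := @Bool.rec (fun _ => Nat) (col4_324) (col4_325) (Nat.ble 325 c)
noncomputable def col4_s_323_326 (c : Nat) : Nat := @Bool.rec (fun _ => Nat) (col4_323) (col4_s_324_326 c) (Nat.ble 324 c)
noncomputable def col4_s_327_329 (c : Nat) : Nat := @Bool.rec (fun _ => Nat) (col4_327) (col4_328) (Nat.ble 328 c)
noncomputable def col4_s_326_329 (c : Nat) : Nat := @Bool.rec (fun _ => Nat) (col4_326) (col4_s_327_329 c) (Nat.ble 327 c)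
noncomputable def col4_s_323_329 (c : Nat) : Nat := @Bool.rec (fun _ => Nat) (col4_s_323_326 c) (col4_s_326_329 c) (Nat.ble 326 c)
noncomputable def col4_s_317_329 (c : Nat) : Nat := @Bool.rec (fun _ => Nat) (col4_s_317_323 c) (col4_s_323_329 c) (Nat.ble 323 c)
noncomputable def col4_s_305_329 (c : Nat) : Nat := @Bool.rec (fun _ => Nat) (col4_s_305_317 c) (col4_s_317_329 c) (Nat.ble 317 c)
noncomputable def col4_s_282_329 (c : Nat) : Nat := @Bool.rec (fun _ => Nat) (col4_s_282_305 c) (col4_s_305_329 c) (Nat.ble 305 c)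
noncomputable def col4_s_329_331 (c : Nat) : Nat := @Bool.rec (fun _ => Nat) (col4_329) (col4_330) (Nat.ble 330 c)
noncomputable def col4_s_332_334 (c : Nat) : Nat := @Bool.rec (fun _ => Nat) (col4_332) (col4_333) (Nat.ble 333 c)
noncomputable def col4_s_331_334 (c : Nat) : Nat := @Bool.rec (fun _ => Nat) (col4_331) (col4_s_332_334 c) (Nat.ble 332 c)
noncomputable def col4_s_329_334 (c : Nat) : Nat := @Bool.rec (fun _ => Nat) (col4_s_329_331 c) (col4_s_331_334 c) (Nat.ble 331 c)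
noncomputable def col4_s_335_337 (c : Nat) : Nat := @Bool.rec (fun _ => Nat) (col4_335) (col4_336) (Nat.ble 336 c)
noncomputable def col4_s_334_337 (c : Nat) : Nat := @Bool.rec (fun _ => Nat) (col4_334) (col4_s_335_337 c) (Nat.ble 335 c)
noncomputable def col4_s_338_340 (c : Nat) : Nat := @Bool.rec (fun _ => Nat) (col4_338) (col4_339) (Nat.ble 339 c)
noncomputable def col4_s_337_340 (c : Nat) : Nat := @Bool.rec (fun _ => Nat) (col4_337) (col4_s_338_340 c) (Nat.ble 338 c)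
noncomputable def col4_s_334_340 (c : Nat) : Nat := @Bool.rec (fun _ => Nat) (col4_s_334_337 c) (col4_s_337_340 c) (Nat.ble 337 c)
noncomputable def col4_s_329_340 (c : Nat) : Nat := @Bool.rec (fun _ => Nat) (col4_s_329_334 c) (col4_s_334_340 c) (Nat.ble 334 c)
noncomputable def col4_s_341_343 (c : Nat) : Nat := @Bool.rec (fun _ => Nat) (col4_341) (col4_342) (Nat.ble 342 c)
noncomputable def col4_s_340_343 (c : Nat) : Nat := @Bool.rec (fun _ => Nat) (col4_340) (col4_s_341_343 c) (Nat.ble 341 c)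
noncomputable def col4_s_344_346 (c : Nat) : Nat := @Bool.rec (fun _ => Nat) (col4_344) (col4_345) (Nat.ble 345 c)
noncomputable def col4_s_343_346 (c : Nat) : Nat := @Bool.rec (fun _ => Nat) (col4_343) (col4_s_344_346 c) (Nat.ble 344 c)
noncomputable def col4_s_340_346 (c : Nat) : Nat := @Bool.rec (fun _ => Nat) (col4_s_340_343 c) (col4_s_343_346 c) (Nat.ble 343 c)
noncomputable def col4_s_347_349 (c : Nat) : Nat := @Bool.rec (fun _ => Nat) (col4_347) (col4_348) (Nat.ble 348 c)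
noncomputable def col4_s_346_349 (c : Nat) : Nat := @Bool.rec (fun _ => Nat) (col4_346) (col4_s_347_349 c) (Nat.ble 347 c)
noncomputable def col4_s_350_352 (c : Nat) : Nat := @Bool.rec (fun _ => Nat) (col4_350) (col4_351) (Nat.ble 351 c)
noncomputable def col4_s_349_352 (c : Nat) : Nat := @Bool.rec (fun _ => Nat) (col4_349) (col4_s_350_352 c) (Nat.ble 350 c)
noncomputable def col4_s_346_352 (c : Nat) : Nat := @Bool.rec (fun _ => Nat) (col4_s_346_349 c) (col4_s_349_352 c) (Nat.ble 349 c)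
noncomputable def col4_s_340_352 (c : Nat) : Nat := @Bool.rec (fun _ => Nat) (col4_s_340_346 c) (col4_s_346_352 c) (Nat.ble 346 c)
noncomputable def col4_s_329_352 (c : Nat) : Nat := @Bool.rec (fun _ => Nat) (col4_s_329_340 c) (col4_s_340_352 c) (Nat.ble 340 c)
noncomputable def col4_s_353_355 (c : Nat) : Nat := @Bool.rec (fun _ => Nat) (col4_353) (col4_354) (Nat.ble 354 c)
noncomputable def col4_s_352_355 (c : Nat) : Nat := @Bool.rec (fun _ => Nat) (col4_352) (col4_s_353_355 c) (Nat.ble 353 c)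
noncomputable def col4_s_356_358 (c : Nat) : Nat := @Bool.rec (fun _ => Nat) (col4_356) (col4_357) (Nat.ble 357 c)
noncomputable def col4_s_355_358 (c : Nat) : Nat := @Bool.rec (fun _ => Nat) (col4_355) (col4_s_356_358 c) (Nat.ble 356 c)
noncomputable def col4_s_352_358 (c : Nat) : Nat := @Bool.rec (fun _ => Nat) (col4_s_352_355 c) (col4_s_355_358 c) (Nat.ble 355 c)
noncomputable def col4_s_359_361 (c : Nat) : Nat := @Bool.rec (fun _ => Nat) (col4_359) (col4_360) (Nat.ble 360 c)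
noncomputable def col4_s_358_361 (c : Nat) : Nat := @Bool.rec (fun _ => Nat) (col4_358) (col4_s_359_361 c) (Nat.ble 359 c)
noncomputable def col4_s_362_364 (c : Nat) : Nat := @Bool.rec (fun _ => Nat) (col4_362) (col4_363) (Nat.ble 363 c)
noncomputable def col4_s_361_364 (c : Nat) : Nat := @Bool.rec (fun _ => Nat) (col4_361) (col4_s_362_364 c) (Nat.ble 362 c)
noncomputable def col4_s_358_364 (c : Nat) : Nat := @Bool.rec (fun _ => Nat) (col4_s_358_361 c) (col4_s_361_364 c) (Nat.ble 361 c)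
noncomputable def col4_s_352_364 (c : Nat) : Nat := @Bool.rec (fun _ => Nat) (col4_s_352_358 c) (col4_s_358_364 c) (Nat.ble 358 c)
noncomputable def col4_s_365_367 (c : Nat) : Nat := @Bool.rec (fun _ => Nat) (col4_365) (col4_366) (Nat.ble 366 c)
noncomputable def col4_s_364_367 (c : Nat) : Nat := @Bool.rec (fun _ => Nat) (col4_364) (col4_s_365_367 c) (Nat.ble 365 c)
noncomputable def col4_s_368_370 (c : Nat) : Nat := @Bool.rec (fun _ => Nat) (col4_368) (col4_369) (Nat.ble 369 c)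
noncomputable def col4_s_367_370 (c : Nat) : Nat := @Bool.rec (fun _ => Nat) (col4_367) (col4_s_368_370 c) (Nat.ble 368 c)
noncomputable def col4_s_364_370 (c : Nat) : Nat := @Bool.rec (fun _ => Nat) (col4_s_364_367 c) (col4_s_367_370 c) (Nat.ble 367 c)
noncomputable def col4_s_371_373 (c : Nat) : Nat := @Bool.rec (fun _ => Nat) (col4_371) (col4_372) (Nat.ble 372 c)
noncomputable def col4_s_370_373 (c : Nat) : Nat := @Bool.rec (fun _ => Nat) (col4_370) (col4_s_371_373 c) (Nat.ble 371 c)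
noncomputable def col4_s_374_376 (c : Nat) : Nat := @Bool.rec (fun _ => Nat) (col4_374) (col4_375) (Nat.ble 375 c)
noncomputable def col4_s_373_376 (c : Nat) : Nat := @Bool.rec (fun _ => Nat) (col4_373) (col4_s_374_376 c) (Nat.ble 374 c)
noncomputable def col4_s_370_376 (c : Nat) : Nat := @Bool.rec (fun _ => Nat) (col4_s_370_373 c) (col4_s_373_376 c) (Nat.ble 373 c)
noncomputable def col4_s_364_376 (c : Nat) : Nat := @Bool.rec (fun _ => Nat) (col4_s_364_370 c) (col4_s_370_376 c) (Nat.ble 370 c)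
noncomputable def col4_s_352_376 (c : Nat) : Nat := @Bool.rec (fun _ => Nat) (col4_s_352_364 c) (col4_s_364_376 c) (Nat.ble 364 c)
noncomputable def col4_s_329_376 (c : Nat) : Nat := @Bool.rec (fun _ => Nat) (col4_s_329_352 c) (col4_s_352_376 c) (Nat.ble 352 c)
noncomputable def col4_s_282_376 (c : Nat) : Nat := @Bool.rec (fun _ => Nat) (col4_s_282_329 c) (col4_s_329_376 c) (Nat.ble 329 c)
noncomputable def col4_s_188_376 (c : Nat) : Nat := @Bool.rec (fun _ => Nat) (col4_s_188_282 c) (col4_s_282_376 c) (Nat.ble 282 c)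
noncomputable def col4_s_0_376 (c : Nat) : Nat := @Bool.rec (fun _ => Nat) (col4_s_0_188 c) (col4_s_188_376 c) (Nat.ble 188 c)
noncomputable def col4 (i : Nat) : Nat := rdw 21 2097151 (col4_s_0_376 (Nat.shiftRight i 12)) (Nat.land i 4095)
noncomputable def col5_s_0_2 (c : Nat) : Nat := @Bool.rec (fun _ => Nat) (col5_0) (col5_1) (Nat.ble 1 c)
noncomputable def col5_s_3_5 (c : Nat) : Nat := @Bool.rec (fun _ => Nat) (col5_3) (col5_4) (Nat.ble 4 c)
noncomputable def col5_s_2_5 (c : Nat) : Nat := @Bool.rec (fun _ => Nat) (col5_2) (col5_s_3_5 c) (Nat.ble 3 c)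
noncomputable def col5_s_0_5 (c : Nat) : Nat := @Bool.rec (fun _ => Nat) (col5_s_0_2 c) (col5_s_2_5 c) (Nat.ble 2 c)
noncomputable def col5_s_6_8 (c : Nat) : Nat := @Bool.rec (fun _ => Nat) (col5_6) (col5_7) (Nat.ble 7 c)
noncomputable def col5_s_5_8 (c : Nat) : Nat := @Bool.rec (fun _ => Nat) (col5_5) (col5_s_6_8 c) (Nat.ble 6 c)
noncomputable def col5_s_9_11 (c : Nat) : Nat := @Bool.rec (fun _ => Nat) (col5_9) (col5_10) (Nat.ble 10 c)
noncomputable def col5_s_8_11 (c : Nat) : Nat := @Bool.rec (fun _ => Nat) (col5_8) (col5_s_9_11 c) (Nat.ble 9 c)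
noncomputable def col5_s_5_11 (c : Nat) : Nat := @Bool.rec (fun _ => Nat) (col5_s_5_8 c) (col5_s_8_11 c) (Nat.ble 8 c)
noncomputable def col5_s_0_11 (c : Nat) : Nat := @Bool.rec (fun _ => Nat) (col5_s_0_5 c) (col5_s_5_11 c) (Nat.ble 5 c)
noncomputable def col5_s_12_14 (c : Nat) : Nat := @Bool.rec (fun _ => Nat) (col5_12) (col5_13) (Nat.ble 13 c)
noncomputable def col5_s_11_14 (c : Nat) : Nat := @Bool.rec (fun _ => Nat) (col5_11) (col5_s_12_14 c) (Nat.ble 12 c)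
noncomputable def col5_s_15_17 (c : Nat) : Nat := @Bool.rec (fun _ => Nat) (col5_15) (col5_16) (Nat.ble 16 c)
noncomputable def col5_s_14_17 (c : Nat) : Nat := @Bool.rec (fun _ => Nat) (col5_14) (col5_s_15_17 c) (Nat.ble 15 c)
noncomputable def col5_s_11_17 (c : Nat) : Nat := @Bool.rec (fun _ => Nat) (col5_s_11_14 c) (col5_s_14_17 c) (Nat.ble 14 c)
noncomputable def col5_s_18_20 (c : Nat) : Nat := @Bool.rec (fun _ => Nat) (col5_18) (col5_19) (Nat.ble 19 c)
noncomputable def col5_s_17_20 (c : Nat) : Nat := @Bool.rec (fun _ => Nat) (col5_17) (col5_s_18_20 c) (Nat.ble 18 c)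
noncomputable def col5_s_21_23 (c : Nat) : Nat := @Bool.rec (fun _ => Nat) (col5_21) (col5_22) (Nat.ble 22 c)
noncomputable def col5_s_20_23 (c : Nat) : Nat := @Bool.rec (fun _ => Nat) (col5_20) (col5_s_21_23 c) (Nat.ble 21 c)
noncomputable def col5_s_17_23 (c : Nat) : Nat := @Bool.rec (fun _ => Nat) (col5_s_17_20 c) (col5_s_20_23 c) (Nat.ble 20 c)
noncomputable def col5_s_11_23 (c : Nat) : Nat := @Bool.rec (fun _ => Nat) (col5_s_11_17 c) (col5_s_17_23 c) (Nat.ble 17 c)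
noncomputable def col5_s_0_23 (c : Nat) : Nat := @Bool.rec (fun _ => Nat) (col5_s_0_11 c) (col5_s_11_23 c) (Nat.ble 11 c)
noncomputable def col5_s_24_26 (c : Nat) : Nat := @Bool.rec (fun _ => Nat) (col5_24) (col5_25) (Nat.ble 25 c)
noncomputable def col5_s_23_26 (c : Nat) : Nat := @Bool.rec (fun _ => Nat) (col5_23) (col5_s_24_26 c) (Nat.ble 24 c)
noncomputable def col5_s_27_29 (c : Nat) : Nat := @Bool.rec (fun _ => Nat) (col5_27) (col5_28) (Nat.ble 28 c)
noncomputable def col5_s_26_29 (c : Nat) : Nat := @Bool.rec (fun _ => Nat) (col5_26) (col5_s_27_29 c) (Nat.ble 27 c)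
noncomputable def col5_s_23_29 (c : Nat) : Nat := @Bool.rec (fun _ => Nat) (col5_s_23_26 c) (col5_s_26_29 c) (Nat.ble 26 c)
noncomputable def col5_s_30_32 (c : Nat) : Nat := @Bool.rec (fun _ => Nat) (col5_30) (col5_31) (Nat.ble 31 c)
noncomputable def col5_s_29_32 (c : Nat) : Nat := @Bool.rec (fun _ => Nat) (col5_29) (col5_s_30_32 c) (Nat.ble 30 c)
noncomputable def col5_s_33_35 (c : Nat) : Nat := @Bool.rec (fun _ => Nat) (col5_33) (col5_34) (Nat.ble 34 c)
noncomputable def col5_s_32_35 (c : Nat) : Nat := @Bool.rec (fun _ => Nat) (col5_32) (col5_s_33_35 c) (Nat.ble 33 c)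
noncomputable def col5_s_29_35 (c : Nat) : Nat := @Bool.rec (fun _ => Nat) (col5_s_29_32 c) (col5_s_32_35 c) (Nat.ble 32 c)
noncomputable def col5_s_23_35 (c : Nat) : Nat := @Bool.rec (fun _ => Nat) (col5_s_23_29 c) (col5_s_29_35 c) (Nat.ble 29 c)
noncomputable def col5_s_36_38 (c : Nat) : Nat := @Bool.rec (fun _ => Nat) (col5_36) (col5_37) (Nat.ble 37 c)
noncomputable def col5_s_35_38 (c : Nat) : Nat := @Bool.rec (fun _ => Nat) (col5_35) (col5_s_36_38 c) (Nat.ble 36 c)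
noncomputable def col5_s_39_41 (c : Nat) : Nat := @Bool.rec (fun _ => Nat) (col5_39) (col5_40) (Nat.ble 40 c)
noncomputable def col5_s_38_41 (c : Nat) : Nat := @Bool.rec (fun _ => Nat) (col5_38) (col5_s_39_41 c) (Nat.ble 39 c)
noncomputable def col5_s_35_41 (c : Nat) : Nat := @Bool.rec (fun _ => Nat) (col5_s_35_38 c) (col5_s_38_41 c) (Nat.ble 38 c)
noncomputable def col5_s_42_44 (c : Nat) : Nat := @Bool.rec (fun _ => Nat) (col5_42) (col5_43) (Nat.ble 43 c)
noncomputable def col5_s_41_44 (c : Nat) : Nat := @Bool.rec (fun _ => Nat) (col5_41) (col5_s_42_44 c) (Nat.ble 42 c)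
noncomputable def col5_s_45_47 (c : Nat) : Nat := @Bool.rec (fun _ => Nat) (col5_45) (col5_46) (Nat.ble 46 c)
noncomputable def col5_s_44_47 (c : Nat) : Nat := @Bool.rec (fun _ => Nat) (col5_44) (col5_s_45_47 c) (Nat.ble 45 c)
noncomputable def col5_s_41_47 (c : Nat) : Nat := @Bool.rec (fun _ => Nat) (col5_s_41_44 c) (col5_s_44_47 c) (Nat.ble 44 c)
noncomputable def col5_s_35_47 (c : Nat) : Nat := @Bool.rec (fun _ => Nat) (col5_s_35_41 c) (col5_s_41_47 c) (Nat.ble 41 c)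
noncomputable def col5_s_23_47 (c : Nat) : Nat := @Bool.rec (fun _ => Nat) (col5_s_23_35 c) (col5_s_35_47 c) (Nat.ble 35 c)
noncomputable def col5_s_0_47 (c : Nat) : Nat := @Bool.rec (fun _ => Nat) (col5_s_0_23 c) (col5_s_23_47 c) (Nat.ble 23 c)
noncomputable def col5_s_47_49 (c : Nat) : Nat := @Bool.rec (fun _ => Nat) (col5_47) (col5_48) (Nat.ble 48 c)
noncomputable def col5_s_50_52 (c : Nat) : Nat := @Bool.rec (fun _ => Nat) (col5_50) (col5_51) (Nat.ble 51 c)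
noncomputable def col5_s_49_52 (c : Nat) : Nat := @Bool.rec (fun _ => Nat) (col5_49) (col5_s_50_52 c) (Nat.ble 50 c)
noncomputable def col5_s_47_52 (c : Nat) : Nat := @Bool.rec (fun _ => Nat) (col5_s_47_49 c) (col5_s_49_52 c) (Nat.ble 49 c)
noncomputable def col5_s_53_55 (c : Nat) : Nat := @Bool.rec (fun _ => Nat) (col5_53) (col5_54) (Nat.ble 54 c)
noncomputable def col5_s_52_55 (c : Nat) : Nat := @Bool.rec (fun _ => Nat) (col5_52) (col5_s_53_55 c) (Nat.ble 53 c)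
noncomputable def col5_s_56_58 (c : Nat) : Nat := @Bool.rec (fun _ => Nat) (col5_56) (col5_57) (Nat.ble 57 c)
noncomputable def col5_s_55_58 (c : Nat) : Nat := @Bool.rec (fun _ => Nat) (col5_55) (col5_s_56_58 c) (Nat.ble 56 c)
noncomputable def col5_s_52_58 (c : Nat) : Nat := @Bool.rec (fun _ => Nat) (col5_s_52_55 c) (col5_s_55_58 c) (Nat.ble 55 c)
noncomputable def col5_s_47_58 (c : Nat) : Nat := @Bool.rec (fun _ => Nat) (col5_s_47_52 c) (col5_s_52_58 c) (Nat.ble 52 c)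
noncomputable def col5_s_59_61 (c : Nat) : Nat := @Bool.rec (fun _ => Nat) (col5_59) (col5_60) (Nat.ble 60 c)
noncomputable def col5_s_58_61 (c : Nat) : Nat := @Bool.rec (fun _ => Nat) (col5_58) (col5_s_59_61 c) (Nat.ble 59 c)
noncomputable def col5_s_62_64 (c : Nat) : Nat := @Bool.rec (fun _ => Nat) (col5_62) (col5_63) (Nat.ble 63 c)
noncomputable def col5_s_61_64 (c : Nat) : Nat := @Bool.rec (fun _ => Nat) (col5_61) (col5_s_62_64 c) (Nat.ble 62 c)
noncomputable def col5_s_58_64 (c : Nat) : Nat := @Bool.rec (fun _ => Nat) (col5_s_58_61 c) (col5_s_61_64 c) (Nat.ble 61 c)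
noncomputable def col5_s_65_67 (c : Nat) : Nat := @Bool.rec (fun _ => Nat) (col5_65) (col5_66) (Nat.ble 66 c)
noncomputable def col5_s_64_67 (c : Nat) : Nat := @Bool.rec (fun _ => Nat) (col5_64) (col5_s_65_67 c) (Nat.ble 65 c)
noncomputable def col5_s_68_70 (c : Nat) : Nat := @Bool.rec (fun _ => Nat) (col5_68) (col5_69) (Nat.ble 69 c)
noncomputable def col5_s_67_70 (c : Nat) : Nat := @Bool.rec (fun _ => Nat) (col5_67) (col5_s_68_70 c) (Nat.ble 68 c)
noncomputable def col5_s_64_70 (c : Nat) : Nat := @Bool.rec (fun _ => Nat) (col5_s_64_67 c) (col5_s_67_70 c) (Nat.ble 67 c)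
noncomputable def col5_s_58_70 (c : Nat) : Nat := @Bool.rec (fun _ => Nat) (col5_s_58_64 c) (col5_s_64_70 c) (Nat.ble 64 c)
noncomputable def col5_s_47_70 (c : Nat) : Nat := @Bool.rec (fun _ => Nat) (col5_s_47_58 c) (col5_s_58_70 c) (Nat.ble 58 c)
noncomputable def col5_s_71_73 (c : Nat) : Nat := @Bool.rec (fun _ => Nat) (col5_71) (col5_72) (Nat.ble 72 c)
noncomputable def col5_s_70_73 (c : Nat) : Nat := @Bool.rec (fun _ => Nat) (col5_70) (col5_s_71_73 c) (Nat.ble 71 c)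
noncomputable def col5_s_74_76 (c : Nat) : Nat := @Bool.rec (fun _ => Nat) (col5_74) (col5_75) (Nat.ble 75 c)
noncomputable def col5_s_73_76 (c : Nat) : Nat := @Bool.rec (fun _ => Nat) (col5_73) (col5_s_74_76 c) (Nat.ble 74 c)
noncomputable def col5_s_70_76 (c : Nat) : Nat := @Bool.rec (fun _ => Nat) (col5_s_70_73 c) (col5_s_73_76 c) (Nat.ble 73 c)
noncomputable def col5_s_77_79 (c : Nat) : Nat := @Bool.rec (fun _ => Nat) (col5_77) (col5_78) (Nat.ble 78 c)
noncomputable def col5_s_76_79 (c : Nat) : Nat := @Bool.rec (fun _ => Nat) (col5_76) (col5_s_77_79 c) (Nat.ble 77 c)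
noncomputable def col5_s_80_82 (c : Nat) : Nat := @Bool.rec (fun _ => Nat) (col5_80) (col5_81) (Nat.ble 81 c)
noncomputable def col5_s_79_82 (c : Nat) : Nat := @Bool.rec (fun _ => Nat) (col5_79) (col5_s_80_82 c) (Nat.ble 80 c)
noncomputable def col5_s_76_82 (c : Nat) : Nat := @Bool.rec (fun _ => Nat) (col5_s_76_79 c) (col5_s_79_82 c) (Nat.ble 79 c)
noncomputable def col5_s_70_82 (c : Nat) : Nat := @Bool.rec (fun _ => Nat) (col5_s_70_76 c) (col5_s_76_82 c) (Nat.ble 76 c)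
noncomputable def col5_s_83_85 (c : Nat) : Nat := @Bool.rec (fun _ => Nat) (col5_83) (col5_84) (Nat.ble 84 c)
noncomputable def col5_s_82_85 (c : Nat) : Nat := @Bool.rec (fun _ => Nat) (col5_82) (col5_s_83_85 c) (Nat.ble 83 c)
noncomputable def col5_s_86_88 (c : Nat) : Nat := @Bool.rec (fun _ => Nat) (col5_86) (col5_87) (Nat.ble 87 c)
noncomputable def col5_s_85_88 (c : Nat) : Nat := @Bool.rec (fun _ => Nat) (col5_85) (col5_s_86_88 c) (Nat.ble 86 c)
noncomputable def col5_s_82_88 (c : Nat) : Nat := @Bool.rec (fun _ => Nat) (col5_s_82_85 c) (col5_s_85_88 c) (Nat.ble 85 c)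
noncomputable def col5_s_89_91 (c : Nat) : Nat := @Bool.rec (fun _ => Nat) (col5_89) (col5_90) (Nat.ble 90 c)
noncomputable def col5_s_88_91 (c : Nat) : Nat := @Bool.rec (fun _ => Nat) (col5_88) (col5_s_89_91 c) (Nat.ble 89 c)
noncomputable def col5_s_92_94 (c : Nat) : Nat := @Bool.rec (fun _ => Nat) (col5_92) (col5_93) (Nat.ble 93 c)
noncomputable def col5_s_91_94 (c : Nat) : Nat := @Bool.rec (fun _ => Nat) (col5_91) (col5_s_92_94 c) (Nat.ble 92 c)
noncomputable def col5_s_88_94 (c : Nat) : Nat := @Bool.rec (fun _ => Nat) (col5_s_88_91 c) (col5_s_91_94 c) (Nat.ble 91 c)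
noncomputable def col5_s_82_94 (c : Nat) : Nat := @Bool.rec (fun _ => Nat) (col5_s_82_88 c) (col5_s_88_94 c) (Nat.ble 88 c)
noncomputable def col5_s_70_94 (c : Nat) : Nat := @Bool.rec (fun _ => Nat) (col5_s_70_82 c) (col5_s_82_94 c) (Nat.ble 82 c)
noncomputable def col5_s_47_94 (c : Nat) : Nat := @Bool.rec (fun _ => Nat) (col5_s_47_70 c) (col5_s_70_94 c) (Nat.ble 70 c)
noncomputable def col5_s_0_94 (c : Nat) : Nat := @Bool.rec (fun _ => Nat) (col5_s_0_47 c) (col5_s_47_94 c) (Nat.ble 47 c)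
noncomputable def col5_s_94_96 (c : Nat) : Nat := @Bool.rec (fun _ => Nat) (col5_94) (col5_95) (Nat.ble 95 c)
noncomputable def col5_s_97_99 (c : Nat) : Nat := @Bool.rec (fun _ => Nat) (col5_97) (col5_98) (Nat.ble 98 c)
noncomputable def col5_s_96_99 (c : Nat) : Nat := @Bool.rec (fun _ => Nat) (col5_96) (col5_s_97_99 c) (Nat.ble 97 c)
noncomputable def col5_s_94_99 (c : Nat) : Nat := @Bool.rec (fun _ => Nat) (col5_s_94_96 c) (col5_s_96_99 c) (Nat.ble 96 c)
noncomputable def col5_s_100_102 (c : Nat) : Nat := @Bool.rec (fun _ => Nat) (col5_100) (col5_101) (Nat.ble 101 c)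
noncomputable def col5_s_99_102 (c : Nat) : Nat := @Bool.rec (fun _ => Nat) (col5_99) (col5_s_100_102 c) (Nat.ble 100 c)
noncomputable def col5_s_103_105 (c : Nat) : Nat := @Bool.rec (fun _ => Nat) (col5_103) (col5_104) (Nat.ble 104 c)
noncomputable def col5_s_102_105 (c : Nat) : Nat := @Bool.rec (fun _ => Nat) (col5_102) (col5_s_103_105 c) (Nat.ble 103 c)
noncomputable def col5_s_99_105 (c : Nat) : Nat := @Bool.rec (fun _ => Nat) (col5_s_99_102 c) (col5_s_102_105 c) (Nat.ble 102 c)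
noncomputable def col5_s_94_105 (c : Nat) : Nat := @Bool.rec (fun _ => Nat) (col5_s_94_99 c) (col5_s_99_105 c) (Nat.ble 99 c)
noncomputable def col5_s_106_108 (c : Nat) : Nat := @Bool.rec (fun _ => Nat) (col5_106) (col5_107) (Nat.ble 107 c)
noncomputable def col5_s_105_108 (c : Nat) : Nat := @Bool.rec (fun _ => Nat) (col5_105) (col5_s_106_108 c) (Nat.ble 106 c)
noncomputable def col5_s_109_111 (c : Nat) : Nat := @Bool.rec (fun _ => Nat) (col5_109) (col5_110) (Nat.ble 110 c)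
noncomputable def col5_s_108_111 (c : Nat) : Nat := @Bool.rec (fun _ => Nat) (col5_108) (col5_s_109_111 c) (Nat.ble 109 c)
noncomputable def col5_s_105_111 (c : Nat) : Nat := @Bool.rec (fun _ => Nat) (col5_s_105_108 c) (col5_s_108_111 c) (Nat.ble 108 c)
noncomputable def col5_s_112_114 (c : Nat) : Nat := @Bool.rec (fun _ => Nat) (col5_112) (col5_113) (Nat.ble 113 c)
noncomputable def col5_s_111_114 (c : Nat) : Nat := @Bool.rec (fun _ => Nat) (col5_111) (col5_s_112_114 c) (Nat.ble 112 c)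
noncomputable def col5_s_115_117 (c : Nat) : Nat := @Bool.rec (fun _ => Nat) (col5_115) (col5_116) (Nat.ble 116 c)
noncomputable def col5_s_114_117 (c : Nat) : Nat := @Bool.rec (fun _ => Nat) (col5_114) (col5_s_115_117 c) (Nat.ble 115 c)
noncomputable def col5_s_111_117 (c : Nat) : Nat := @Bool.rec (fun _ => Nat) (col5_s_111_114 c) (col5_s_114_117 c) (Nat.ble 114 c)
noncomputable def col5_s_105_117 (c : Nat) : Nat := @Bool.rec (fun _ => Nat) (col5_s_105_111 c) (col5_s_111_117 c) (Nat.ble 111 c)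
noncomputable def col5_s_94_117 (c : Nat) : Nat := @Bool.rec (fun _ => Nat) (col5_s_94_105 c) (col5_s_105_117 c) (Nat.ble 105 c)
noncomputable def col5_s_118_120 (c : Nat) : Nat := @Bool.rec (fun _ => Nat) (col5_118) (col5_119) (Nat.ble 119 c)
noncomputable def col5_s_117_120 (c : Nat) : Nat := @Bool.rec (fun _ => Nat) (col5_117) (col5_s_118_120 c) (Nat.ble 118 c)
noncomputable def col5_s_121_123 (c : Nat) : Nat := @Bool.rec (fun _ => Nat) (col5_121) (col5_122) (Nat.ble 122 c)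
noncomputable def col5_s_120_123 (c : Nat) : Nat := @Bool.rec (fun _ => Nat) (col5_120) (col5_s_121_123 c) (Nat.ble 121 c)
noncomputable def col5_s_117_123 (c : Nat) : Nat := @Bool.rec (fun _ => Nat) (col5_s_117_120 c) (col5_s_120_123 c) (Nat.ble 120 c)
noncomputable def col5_s_124_126 (c : Nat) : Nat := @Bool.rec (fun _ => Nat) (col5_124) (col5_125) (Nat.ble 125 c)
noncomputable def col5_s_123_126 (c : Nat) : Nat := @Bool.rec (fun _ => Nat) (col5_123) (col5_s_124_126 c) (Nat.ble 124 c)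
noncomputable def col5_s_127_129 (c : Nat) : Nat := @Bool.rec (fun _ => Nat) (col5_127) (col5_128) (Nat.ble 128 c)
noncomputable def col5_s_126_129 (c : Nat) : Nat := @Bool.rec (fun _ => Nat) (col5_126) (col5_s_127_129 c) (Nat.ble 127 c)
noncomputable def col5_s_123_129 (c : Nat) : Nat := @Bool.rec (fun _ => Nat) (col5_s_123_126 c) (col5_s_126_129 c) (Nat.ble 126 c)
noncomputable def col5_s_117_129 (c : Nat) : Nat := @Bool.rec (fun _ => Nat) (col5_s_117_123 c) (col5_s_123_129 c) (Nat.ble 123 c)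
noncomputable def col5_s_130_132 (c : Nat) : Nat := @Bool.rec (fun _ => Nat) (col5_130) (col5_131) (Nat.ble 131 c)
noncomputable def col5_s_129_132 (c : Nat) : Nat := @Bool.rec (fun _ => Nat) (col5_129) (col5_s_130_132 c) (Nat.ble 130 c)
noncomputable def col5_s_133_135 (c : Nat) : Nat := @Bool.rec (fun _ => Nat) (col5_133) (col5_134) (Nat.ble 134 c)
noncomputable def col5_s_132_135 (c : Nat) : Nat := @Bool.rec (fun _ => Nat) (col5_132) (col5_s_133_135 c) (Nat.ble 133 c)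
noncomputable def col5_s_129_135 (c : Nat) : Nat := @Bool.rec (fun _ => Nat) (col5_s_129_132 c) (col5_s_132_135 c) (Nat.ble 132 c)
noncomputable def col5_s_136_138 (c : Nat) : Nat := @Bool.rec (fun _ => Nat) (col5_136) (col5_137) (Nat.ble 137 c)
noncomputable def col5_s_135_138 (c : Nat) : Nat := @Bool.rec (fun _ => Nat) (col5_135) (col5_s_136_138 c) (Nat.ble 136 c)
noncomputable def col5_s_139_141 (c : Nat) : Nat := @Bool.rec (fun _ => Nat) (col5_139) (col5_140) (Nat.ble 140 c)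
noncomputable def col5_s_138_141 (c : Nat) : Nat := @Bool.rec (fun _ => Nat) (col5_138) (col5_s_139_141 c) (Nat.ble 139 c)
noncomputable def col5_s_135_141 (c : Nat) : Nat := @Bool.rec (fun _ => Nat) (col5_s_135_138 c) (col5_s_138_141 c) (Nat.ble 138 c)
noncomputable def col5_s_129_141 (c : Nat) : Nat := @Bool.rec (fun _ => Nat) (col5_s_129_135 c) (col5_s_135_141 c) (Nat.ble 135 c)
noncomputable def col5_s_117_141 (c : Nat) : Nat := @Bool.rec (fun _ => Nat) (col5_s_117_129 c) (col5_s_129_141 c) (Nat.ble 129 c)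
noncomputable def col5_s_94_141 (c : Nat) : Nat := @Bool.rec (fun _ => Nat) (col5_s_94_117 c) (col5_s_117_141 c) (Nat.ble 117 c)
noncomputable def col5_s_141_143 (c : Nat) : Nat := @Bool.rec (fun _ => Nat) (col5_141) (col5_142) (Nat.ble 142 c)
noncomputable def col5_s_144_146 (c : Nat) : Nat := @Bool.rec (fun _ => Nat) (col5_144) (col5_145) (Nat.ble 145 c)
noncomputable def col5_s_143_146 (c : Nat) : Nat := @Bool.rec (fun _ => Nat) (col5_143) (col5_s_144_146 c) (Nat.ble 144 c)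
noncomputable def col5_s_141_146 (c : Nat) : Nat := @Bool.rec (fun _ => Nat) (col5_s_141_143 c) (col5_s_143_146 c) (Nat.ble 143 c)
noncomputable def col5_s_147_149 (c : Nat) : Nat := @Bool.rec (fun _ => Nat) (col5_147) (col5_148) (Nat.ble 148 c)
noncomputable def col5_s_146_149 (c : Nat) : Nat := @Bool.rec (fun _ => Nat) (col5_146) (col5_s_147_149 c) (Nat.ble 147 c)
noncomputable def col5_s_150_152 (c : Nat) : Nat := @Bool.rec (fun _ => Nat) (col5_150) (col5_151) (Nat.ble 151 c)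
noncomputable def col5_s_149_152 (c : Nat) : Nat := @Bool.rec (fun _ => Nat) (col5_149) (col5_s_150_152 c) (Nat.ble 150 c)
noncomputable def col5_s_146_152 (c : Nat) : Nat := @Bool.rec (fun _ => Nat) (col5_s_146_149 c) (col5_s_149_152 c) (Nat.ble 149 c)
noncomputable def col5_s_141_152 (c : Nat) : Nat := @Bool.rec (fun _ => Nat) (col5_s_141_146 c) (col5_s_146_152 c) (Nat.ble 146 c)
noncomputable def col5_s_153_155 (c : Nat) : Nat := @Bool.rec (fun _ => Nat) (col5_153) (col5_154) (Nat.ble 154 c)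
noncomputable def col5_s_152_155 (c : Nat) : Nat := @Bool.rec (fun _ => Nat) (col5_152) (col5_s_153_155 c) (Nat.ble 153 c)
noncomputable def col5_s_156_158 (c : Nat) : Nat := @Bool.rec (fun _ => Nat) (col5_156) (col5_157) (Nat.ble 157 c)
noncomputable def col5_s_155_158 (c : Nat) : Nat := @Bool.rec (fun _ => Nat) (col5_155) (col5_s_156_158 c) (Nat.ble 156 c)
noncomputable def col5_s_152_158 (c : Nat) : Nat := @Bool.rec (fun _ => Nat) (col5_s_152_155 c) (col5_s_155_158 c) (Nat.ble 155 c)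
noncomputable def col5_s_159_161 (c : Nat) : Nat := @Bool.rec (fun _ => Nat) (col5_159) (col5_160) (Nat.ble 160 c)
noncomputable def col5_s_158_161 (c : Nat) : Nat := @Bool.rec (fun _ => Nat) (col5_158) (col5_s_159_161 c) (Nat.ble 159 c)
noncomputable def col5_s_162_164 (c : Nat) : Nat := @Bool.rec (fun _ => Nat) (col5_162) (col5_163) (Nat.ble 163 c)
noncomputable def col5_s_161_164 (c : Nat) : Nat := @Bool.rec (fun _ => Nat) (col5_161) (col5_s_162_164 c) (Nat.ble 162 c)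
noncomputable def col5_s_158_164 (c : Nat) : Nat := @Bool.rec (fun _ => Nat) (col5_s_158_161 c) (col5_s_161_164 c) (Nat.ble 161 c)
noncomputable def col5_s_152_164 (c : Nat) : Nat := @Bool.rec (fun _ => Nat) (col5_s_152_158 c) (col5_s_158_164 c) (Nat.ble 158 c)
noncomputable def col5_s_141_164 (c : Nat) : Nat := @Bool.rec (fun _ => Nat) (col5_s_141_152 c) (col5_s_152_164 c) (Nat.ble 152 c)
noncomputable def col5_s_165_167 (c : Nat) : Nat := @Bool.rec (fun _ => Nat) (col5_165) (col5_166) (Nat.ble 166 c)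
noncomputable def col5_s_164_167 (c : Nat) : Nat := @Bool.rec (fun _ => Nat) (col5_164) (col5_s_165_167 c) (Nat.ble 165 c)
noncomputable def col5_s_168_170 (c : Nat) : Nat := @Bool.rec (fun _ => Nat) (col5_168) (col5_169) (Nat.ble 169 c)
noncomputable def col5_s_167_170 (c : Nat) : Nat := @Bool.rec (fun _ => Nat) (col5_167) (col5_s_168_170 c) (Nat.ble 168 c)
noncomputable def col5_s_164_170 (c : Nat) : Nat := @Bool.rec (fun _ => Nat) (col5_s_164_167 c) (col5_s_167_170 c) (Nat.ble 167 c)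
noncomputable def col5_s_171_173 (c : Nat) : Nat := @Bool.rec (fun _ => Nat) (col5_171) (col5_172) (Nat.ble 172 c)
noncomputable def col5_s_170_173 (c : Nat) : Nat := @Bool.rec (fun _ => Nat) (col5_170) (col5_s_171_173 c) (Nat.ble 171 c)
noncomputable def col5_s_174_176 (c : Nat) : Nat := @Bool.rec (fun _ => Nat) (col5_174) (col5_175) (Nat.ble 175 c)
noncomputable def col5_s_173_176 (c : Nat) : Nat := @Bool.rec (fun _ => Nat) (col5_173) (col5_s_174_176 c) (Nat.ble 174 c)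
noncomputable def col5_s_170_176 (c : Nat) : Nat := @Bool.rec (fun _ => Nat) (col5_s_170_173 c) (col5_s_173_176 c) (Nat.ble 173 c)
noncomputable def col5_s_164_176 (c : Nat) : Nat := @Bool.rec (fun _ => Nat) (col5_s_164_170 c) (col5_s_170_176 c) (Nat.ble 170 c)
noncomputable def col5_s_177_179 (c : Nat) : Nat := @Bool.rec (fun _ => Nat) (col5_177) (col5_178) (Nat.ble 178 c)
noncomputable def col5_s_176_179 (c : Nat) : Nat := @Bool.rec (fun _ => Nat) (col5_176) (col5_s_177_179 c) (Nat.ble 177 c)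
noncomputable def col5_s_180_182 (c : Nat) : Nat := @Bool.rec (fun _ => Nat) (col5_180) (col5_181) (Nat.ble 181 c)
noncomputable def col5_s_179_182 (c : Nat) : Nat := @Bool.rec (fun _ => Nat) (col5_179) (col5_s_180_182 c) (Nat.ble 180 c)
noncomputable def col5_s_176_182 (c : Nat) : Nat := @Bool.rec (fun _ => Nat) (col5_s_176_179 c) (col5_s_179_182 c) (Nat.ble 179 c)
noncomputable def col5_s_183_185 (c : Nat) : Nat := @Bool.rec (fun _ => Nat) (col5_183) (col5_184) (Nat.ble 184 c)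
noncomputable def col5_s_182_185 (c : Nat) : Nat := @Bool.rec (fun _ => Nat) (col5_182) (col5_s_183_185 c) (Nat.ble 183 c)
noncomputable def col5_s_186_188 (c : Nat) : Nat := @Bool.rec (fun _ => Nat) (col5_186) (col5_187) (Nat.ble 187 c)
noncomputable def col5_s_185_188 (c : Nat) : Nat := @Bool.rec (fun _ => Nat) (col5_185) (col5_s_186_188 c) (Nat.ble 186 c)
noncomputable def col5_s_182_188 (c : Nat) : Nat := @Bool.rec (fun _ => Nat) (col5_s_182_185 c) (col5_s_185_188 c) (Nat.ble 185 c)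
noncomputable def col5_s_176_188 (c : Nat) : Nat := @Bool.rec (fun _ => Nat) (col5_s_176_182 c) (col5_s_182_188 c) (Nat.ble 182 c)
noncomputable def col5_s_164_188 (c : Nat) : Nat := @Bool.rec (fun _ => Nat) (col5_s_164_176 c) (col5_s_176_188 c) (Nat.ble 176 c)
noncomputable def col5_s_141_188 (c : Nat) : Nat := @Bool.rec (fun _ => Nat) (col5_s_141_164 c) (col5_s_164_188 c) (Nat.ble 164 c)
noncomputable def col5_s_94_188 (c : Nat) : Nat := @Bool.rec (fun _ => Nat) (col5_s_94_141 c) (col5_s_141_188 c) (Nat.ble 141 c)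
noncomputable def col5_s_0_188 (c : Nat) : Nat := @Bool.rec (fun _ => Nat) (col5_s_0_94 c) (col5_s_94_188 c) (Nat.ble 94 c)
noncomputable def col5_s_188_190 (c : Nat) : Nat := @Bool.rec (fun _ => Nat) (col5_188) (col5_189) (Nat.ble 189 c)
noncomputable def col5_s_191_193 (c : Nat) : Nat := @Bool.rec (fun _ => Nat) (col5_191) (col5_192) (Nat.ble 192 c)
noncomputable def col5_s_190_193 (c : Nat) : Nat := @Bool.rec (fun _ => Nat) (col5_190) (col5_s_191_193 c) (Nat.ble 191 c)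
noncomputable def col5_s_188_193 (c : Nat) : Nat := @Bool.rec (fun _ => Nat) (col5_s_188_190 c) (col5_s_190_193 c) (Nat.ble 190 c)
noncomputable def col5_s_194_196 (c : Nat) : Nat := @Bool.rec (fun _ => Nat) (col5_194) (col5_195) (Nat.ble 195 c)
noncomputable def col5_s_193_196 (c : Nat) : Nat := @Bool.rec (fun _ => Nat) (col5_193) (col5_s_194_196 c) (Nat.ble 194 c)
noncomputable def col5_s_197_199 (c : Nat) : Nat := @Bool.rec (fun _ => Nat) (col5_197) (col5_198) (Nat.ble 198 c)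
noncomputable def col5_s_196_199 (c : Nat) : Nat := @Bool.rec (fun _ => Nat) (col5_196) (col5_s_197_199 c) (Nat.ble 197 c)
noncomputable def col5_s_193_199 (c : Nat) : Nat := @Bool.rec (fun _ => Nat) (col5_s_193_196 c) (col5_s_196_199 c) (Nat.ble 196 c)
noncomputable def col5_s_188_199 (c : Nat) : Nat := @Bool.rec (fun _ => Nat) (col5_s_188_193 c) (col5_s_193_199 c) (Nat.ble 193 c)
noncomputable def col5_s_200_202 (c : Nat) : Nat := @Bool.rec (fun _ => Nat) (col5_200) (col5_201) (Nat.ble 201 c)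
noncomputable def col5_s_199_202 (c : Nat) : Nat := @Bool.rec (fun _ => Nat) (col5_199) (col5_s_200_202 c) (Nat.ble 200 c)
noncomputable def col5_s_203_205 (c : Nat) : Nat := @Bool.rec (fun _ => Nat) (col5_203) (col5_204) (Nat.ble 204 c)
noncomputable def col5_s_202_205 (c : Nat) : Nat := @Bool.rec (fun _ => Nat) (col5_202) (col5_s_203_205 c) (Nat.ble 203 c)
noncomputable def col5_s_199_205 (c : Nat) : Nat := @Bool.rec (fun _ => Nat) (col5_s_199_202 c) (col5_s_202_205 c) (Nat.ble 202 c)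
noncomputable def col5_s_206_208 (c : Nat) : Nat := @Bool.rec (fun _ => Nat) (col5_206) (col5_207) (Nat.ble 207 c)
noncomputable def col5_s_205_208 (c : Nat) : Nat := @Bool.rec (fun _ => Nat) (col5_205) (col5_s_206_208 c) (Nat.ble 206 c)
noncomputable def col5_s_209_211 (c : Nat) : Nat := @Bool.rec (fun _ => Nat) (col5_209) (col5_210) (Nat.ble 210 c)
noncomputable def col5_s_208_211 (c : Nat) : Nat := @Bool.rec (fun _ => Nat) (col5_208) (col5_s_209_211 c) (Nat.ble 209 c)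
noncomputable def col5_s_205_211 (c : Nat) : Nat := @Bool.rec (fun _ => Nat) (col5_s_205_208 c) (col5_s_208_211 c) (Nat.ble 208 c)
noncomputable def col5_s_199_211 (c : Nat) : Nat := @Bool.rec (fun _ => Nat) (col5_s_199_205 c) (col5_s_205_211 c) (Nat.ble 205 c)
noncomputable def col5_s_188_211 (c : Nat) : Nat := @Bool.rec (fun _ => Nat) (col5_s_188_199 c) (col5_s_199_211 c) (Nat.ble 199 c)
noncomputable def col5_s_212_214 (c : Nat) : Nat := @Bool.rec (fun _ => Nat) (col5_212) (col5_213) (Nat.ble 213 c)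
noncomputable def col5_s_211_214 (c : Nat) : Nat := @Bool.rec (fun _ => Nat) (col5_211) (col5_s_212_214 c) (Nat.ble 212 c)
noncomputable def col5_s_215_217 (c : Nat) : Nat := @Bool.rec (fun _ => Nat) (col5_215) (col5_216) (Nat.ble 216 c)
noncomputable def col5_s_214_217 (c : Nat) : Nat := @Bool.rec (fun _ => Nat) (col5_214) (col5_s_215_217 c) (Nat.ble 215 c)
noncomputable def col5_s_211_217 (c : Nat) : Nat := @Bool.rec (fun _ => Nat) (col5_s_211_214 c) (col5_s_214_217 c) (Nat.ble 214 c)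
noncomputable def col5_s_218_220 (c : Nat) : Nat := @Bool.rec (fun _ => Nat) (col5_218) (col5_219) (Nat.ble 219 c)
noncomputable def col5_s_217_220 (c : Nat) : Nat := @Bool.rec (fun _ => Nat) (col5_217) (col5_s_218_220 c) (Nat.ble 218 c)
noncomputable def col5_s_221_223 (c : Nat) : Nat := @Bool.rec (fun _ => Nat) (col5_221) (col5_222) (Nat.ble 222 c)
noncomputable def col5_s_220_223 (c : Nat) : Nat := @Bool.rec (fun _ => Nat) (col5_220) (col5_s_221_223 c) (Nat.ble 221 c)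
noncomputable def col5_s_217_223 (c : Nat) : Nat := @Bool.rec (fun _ => Nat) (col5_s_217_220 c) (col5_s_220_223 c) (Nat.ble 220 c)
noncomputable def col5_s_211_223 (c : Nat) : Nat := @Bool.rec (fun _ => Nat) (col5_s_211_217 c) (col5_s_217_223 c) (Nat.ble 217 c)
noncomputable def col5_s_224_226 (c : Nat) : Nat := @Bool.rec (fun _ => Nat) (col5_224) (col5_225) (Nat.ble 225 c)
noncomputable def col5_s_223_226 (c : Nat) : Nat := @Bool.rec (fun _ => Nat) (col5_223) (col5_s_224_226 c) (Nat.ble 224 c)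
noncomputable def col5_s_227_229 (c : Nat) : Nat := @Bool.rec (fun _ => Nat) (col5_227) (col5_228) (Nat.ble 228 c)
noncomputable def col5_s_226_229 (c : Nat) : Nat := @Bool.rec (fun _ => Nat) (col5_226) (col5_s_227_229 c) (Nat.ble 227 c)
noncomputable def col5_s_223_229 (c : Nat) : Nat := @Bool.rec (fun _ => Nat) (col5_s_223_226 c) (col5_s_226_229 c) (Nat.ble 226 c)
noncomputable def col5_s_230_232 (c : Nat) : Nat := @Bool.rec (fun _ => Nat) (col5_230) (col5_231) (Nat.ble 231 c)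
noncomputable def col5_s_229_232 (c : Nat) : Nat := @Bool.rec (fun _ => Nat) (col5_229) (col5_s_230_232 c) (Nat.ble 230 c)
noncomputable def col5_s_233_235 (c : Nat) : Nat := @Bool.rec (fun _ => Nat) (col5_233) (col5_234) (Nat.ble 234 c)
noncomputable def col5_s_232_235 (c : Nat) : Nat := @Bool.rec (fun _ => Nat) (col5_232) (col5_s_233_235 c) (Nat.ble 233 c)
noncomputable def col5_s_229_235 (c : Nat) : Nat := @Bool.rec (fun _ => Nat) (col5_s_229_232 c) (col5_s_232_235 c) (Nat.ble 232 c)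
noncomputable def col5_s_223_235 (c : Nat) : Nat := @Bool.rec (fun _ => Nat) (col5_s_223_229 c) (col5_s_229_235 c) (Nat.ble 229 c)
noncomputable def col5_s_211_235 (c : Nat) : Nat := @Bool.rec (fun _ => Nat) (col5_s_211_223 c) (col5_s_223_235 c) (Nat.ble 223 c)
noncomputable def col5_s_188_235 (c : Nat) : Nat := @Bool.rec (fun _ => Nat) (col5_s_188_211 c) (col5_s_211_235 c) (Nat.ble 211 c)
noncomputable def col5_s_235_237 (c : Nat) : Nat := @Bool.rec (fun _ => Nat) (col5_235) (col5_236) (Nat.ble 236 c)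
noncomputable def col5_s_238_240 (c : Nat) : Nat := @Bool.rec (fun _ => Nat) (col5_238) (col5_239) (Nat.ble 239 c)
noncomputable def col5_s_237_240 (c : Nat) : Nat := @Bool.rec (fun _ => Nat) (col5_237) (col5_s_238_240 c) (Nat.ble 238 c)
noncomputable def col5_s_235_240 (c : Nat) : Nat := @Bool.rec (fun _ => Nat) (col5_s_235_237 c) (col5_s_237_240 c) (Nat.ble 237 c)
noncomputable def col5_s_241_243 (c : Nat) : Nat := @Bool.rec (fun _ => Nat) (col5_241) (col5_242) (Nat.ble 242 c)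
noncomputable def col5_s_240_243 (c : Nat) : Nat := @Bool.rec (fun _ => Nat) (col5_240) (col5_s_241_243 c) (Nat.ble 241 c)
noncomputable def col5_s_244_246 (c : Nat) : Nat := @Bool.rec (fun _ => Nat) (col5_244) (col5_245) (Nat.ble 245 c)
noncomputable def col5_s_243_246 (c : Nat) : Nat := @Bool.rec (fun _ => Nat) (col5_243) (col5_s_244_246 c) (Nat.ble 244 c)
noncomputable def col5_s_240_246 (c : Nat) : Nat := @Bool.rec (fun _ => Nat) (col5_s_240_243 c) (col5_s_243_246 c) (Nat.ble 243 c)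
noncomputable def col5_s_235_246 (c : Nat) : Nat := @Bool.rec (fun _ => Nat) (col5_s_235_240 c) (col5_s_240_246 c) (Nat.ble 240 c)
noncomputable def col5_s_247_249 (c : Nat) : Nat := @Bool.rec (fun _ => Nat) (col5_247) (col5_248) (Nat.ble 248 c)
noncomputable def col5_s_246_249 (c : Nat) : Nat := @Bool.rec (fun _ => Nat) (col5_246) (col5_s_247_249 c) (Nat.ble 247 c)
noncomputable def col5_s_250_252 (c : Nat) : Nat := @Bool.rec (fun _ => Nat) (col5_250) (col5_251) (Nat.ble 251 c)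
noncomputable def col5_s_249_252 (c : Nat) : Nat := @Bool.rec (fun _ => Nat) (col5_249) (col5_s_250_252 c) (Nat.ble 250 c)
noncomputable def col5_s_246_252 (c : Nat) : Nat := @Bool.rec (fun _ => Nat) (col5_s_246_249 c) (col5_s_249_252 c) (Nat.ble 249 c)
noncomputable def col5_s_253_255 (c : Nat) : Nat := @Bool.rec (fun _ => Nat) (col5_253) (col5_254) (Nat.ble 254 c)
noncomputable def col5_s_252_255 (c : Nat) : Nat := @Bool.rec (fun _ => Nat) (col5_252) (col5_s_253_255 c) (Nat.ble 253 c)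
noncomputable def col5_s_256_258 (c : Nat) : Nat := @Bool.rec (fun _ => Nat) (col5_256) (col5_257) (Nat.ble 257 c)
noncomputable def col5_s_255_258 (c : Nat) : Nat := @Bool.rec (fun _ => Nat) (col5_255) (col5_s_256_258 c) (Nat.ble 256 c)
noncomputable def col5_s_252_258 (c : Nat) : Nat := @Bool.rec (fun _ => Nat) (col5_s_252_255 c) (col5_s_255_258 c) (Nat.ble 255 c)
noncomputable def col5_s_246_258 (c : Nat) : Nat := @Bool.rec (fun _ => Nat) (col5_s_246_252 c) (col5_s_252_258 c) (Nat.ble 252 c)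
noncomputable def col5_s_235_258 (c : Nat) : Nat := @Bool.rec (fun _ => Nat) (col5_s_235_246 c) (col5_s_246_258 c) (Nat.ble 246 c)
noncomputable def col5_s_259_261 (c : Nat) : Nat := @Bool.rec (fun _ => Nat) (col5_259) (col5_260) (Nat.ble 260 c)
noncomputable def col5_s_258_261 (c : Nat) : Nat := @Bool.rec (fun _ => Nat) (col5_258) (col5_s_259_261 c) (Nat.ble 259 c)
noncomputable def col5_s_262_264 (c : Nat) : Nat := @Bool.rec (fun _ => Nat) (col5_262) (col5_263) (Nat.ble 263 c)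
noncomputable def col5_s_261_264 (c : Nat) : Nat := @Bool.rec (fun _ => Nat) (col5_261) (col5_s_262_264 c) (Nat.ble 262 c)
noncomputable def col5_s_258_264 (c : Nat) : Nat := @Bool.rec (fun _ => Nat) (col5_s_258_261 c) (col5_s_261_264 c) (Nat.ble 261 c)
noncomputable def col5_s_265_267 (c : Nat) : Nat := @Bool.rec (fun _ => Nat) (col5_265) (col5_266) (Nat.ble 266 c)
noncomputable def col5_s_264_267 (c : Nat) : Nat := @Bool.rec (fun _ => Nat) (col5_264) (col5_s_265_267 c) (Nat.ble 265 c)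
noncomputable def col5_s_268_270 (c : Nat) : Nat := @Bool.rec (fun _ => Nat) (col5_268) (col5_269) (Nat.ble 269 c)
noncomputable def col5_s_267_270 (c : Nat) : Nat := @Bool.rec (fun _ => Nat) (col5_267) (col5_s_268_270 c) (Nat.ble 268 c)
noncomputable def col5_s_264_270 (c : Nat) : Nat := @Bool.rec (fun _ => Nat) (col5_s_264_267 c) (col5_s_267_270 c) (Nat.ble 267 c)
noncomputable def col5_s_258_270 (c : Nat) : Nat := @Bool.rec (fun _ => Nat) (col5_s_258_264 c) (col5_s_264_270 c) (Nat.ble 264 c)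
noncomputable def col5_s_271_273 (c : Nat) : Nat := @Bool.rec (fun _ => Nat) (col5_271) (col5_272) (Nat.ble 272 c)
noncomputable def col5_s_270_273 (c : Nat) : Nat := @Bool.rec (fun _ => Nat) (col5_270) (col5_s_271_273 c) (Nat.ble 271 c)
noncomputable def col5_s_274_276 (c : Nat) : Nat := @Bool.rec (fun _ => Nat) (col5_274) (col5_275) (Nat.ble 275 c)
noncomputable def col5_s_273_276 (c : Nat) : Nat := @Bool.rec (fun _ => Nat) (col5_273) (col5_s_274_276 c) (Nat.ble 274 c)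
noncomputable def col5_s_270_276 (c : Nat) : Nat := @Bool.rec (fun _ => Nat) (col5_s_270_273 c) (col5_s_273_276 c) (Nat.ble 273 c)
noncomputable def col5_s_277_279 (c : Nat) : Nat := @Bool.rec (fun _ => Nat) (col5_277) (col5_278) (Nat.ble 278 c)
noncomputable def col5_s_276_279 (c : Nat) : Nat := @Bool.rec (fun _ => Nat) (col5_276) (col5_s_277_279 c) (Nat.ble 277 c)
noncomputable def col5_s_280_282 (c : Nat) : Nat := @Bool.rec (fun _ => Nat) (col5_280) (col5_281) (Nat.ble 281 c)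
noncomputable def col5_s_279_282 (c : Nat) : Nat := @Bool.rec (fun _ => Nat) (col5_279) (col5_s_280_282 c) (Nat.ble 280 c)
noncomputable def col5_s_276_282 (c : Nat) : Nat := @Bool.rec (fun _ => Nat) (col5_s_276_279 c) (col5_s_279_282 c) (Nat.ble 279 c)
noncomputable def col5_s_270_282 (c : Nat) : Nat := @Bool.rec (fun _ => Nat) (col5_s_270_276 c) (col5_s_276_282 c) (Nat.ble 276 c)
noncomputable def col5_s_258_282 (c : Nat) : Nat := @Bool.rec (fun _ => Nat) (col5_s_258_270 c) (col5_s_270_282 c) (Nat.ble 270 c)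
noncomputable def col5_s_235_282 (c : Nat) : Nat := @Bool.rec (fun _ => Nat) (col5_s_235_258 c) (col5_s_258_282 c) (Nat.ble 258 c)
noncomputable def col5_s_188_282 (c : Nat) : Nat := @Bool.rec (fun _ => Nat) (col5_s_188_235 c) (col5_s_235_282 c) (Nat.ble 235 c)
noncomputable def col5_s_282_284 (c : Nat) : Nat := @Bool.rec (fun _ => Nat) (col5_282) (col5_283) (Nat.ble 283 c)
noncomputable def col5_s_285_287 (c : Nat) : Nat := @Bool.rec (fun _ => Nat) (col5_285) (col5_286) (Nat.ble 286 c)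
noncomputable def col5_s_284_287 (c : Nat) : Nat := @Bool.rec (fun _ => Nat) (col5_284) (col5_s_285_287 c) (Nat.ble 285 c)
noncomputable def col5_s_282_287 (c : Nat) : Nat := @Bool.rec (fun _ => Nat) (col5_s_282_284 c) (col5_s_284_287 c) (Nat.ble 284 c)
noncomputable def col5_s_288_290 (c : Nat) : Nat := @Bool.rec (fun _ => Nat) (col5_288) (col5_289) (Nat.ble 289 c)
noncomputable def col5_s_287_290 (c : Nat) : Nat := @Bool.rec (fun _ => Nat) (col5_287) (col5_s_288_290 c) (Nat.ble 288 c)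
noncomputable def col5_s_291_293 (c : Nat) : Nat := @Bool.rec (fun _ => Nat) (col5_291) (col5_292) (Nat.ble 292 c)
noncomputable def col5_s_290_293 (c : Nat) : Nat := @Bool.rec (fun _ => Nat) (col5_290) (col5_s_291_293 c) (Nat.ble 291 c)
noncomputable def col5_s_287_293 (c : Nat) : Nat := @Bool.rec (fun _ => Nat) (col5_s_287_290 c) (col5_s_290_293 c) (Nat.ble 290 c)
noncomputable def col5_s_282_293 (c : Nat) : Nat := @Bool.rec (fun _ => Nat) (col5_s_282_287 c) (col5_s_287_293 c) (Nat.ble 287 c)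
noncomputable def col5_s_294_296 (c : Nat) : Nat := @Bool.rec (fun _ => Nat) (col5_294) (col5_295) (Nat.ble 295 c)
noncomputable def col5_s_293_296 (c : Nat) : Nat := @Bool.rec (fun _ => Nat) (col5_293) (col5_s_294_296 c) (Nat.ble 294 c)
noncomputable def col5_s_297_299 (c : Nat) : Nat := @Bool.rec (fun _ => Nat) (col5_297) (col5_298) (Nat.ble 298 c)
noncomputable def col5_s_296_299 (c : Nat) : Nat := @Bool.rec (fun _ => Nat) (col5_296) (col5_s_297_299 c) (Nat.ble 297 c)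
noncomputable def col5_s_293_299 (c : Nat) : Nat := @Bool.rec (fun _ => Nat) (col5_s_293_296 c) (col5_s_296_299 c) (Nat.ble 296 c)
noncomputable def col5_s_300_302 (c : Nat) : Nat := @Bool.rec (fun _ => Nat) (col5_300) (col5_301) (Nat.ble 301 c)
noncomputable def col5_s_299_302 (c : Nat) : Nat := @Bool.rec (fun _ => Nat) (col5_299) (col5_s_300_302 c) (Nat.ble 300 c)
noncomputable def col5_s_303_305 (c : Nat) : Nat := @Bool.rec (fun _ => Nat) (col5_303) (col5_304) (Nat.ble 304 c)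
noncomputable def col5_s_302_305 (c : Nat) : Nat := @Bool.rec (fun _ => Nat) (col5_302) (col5_s_303_305 c) (Nat.ble 303 c)
noncomputable def col5_s_299_305 (c : Nat) : Nat := @Bool.rec (fun _ => Nat) (col5_s_299_302 c) (col5_s_302_305 c) (Nat.ble 302 c)
noncomputable def col5_s_293_305 (c : Nat) : Nat := @Bool.rec (fun _ => Nat) (col5_s_293_299 c) (col5_s_299_305 c) (Nat.ble 299 c)
noncomputable def col5_s_282_305 (c : Nat) : Nat := @Bool.rec (fun _ => Nat) (col5_s_282_293 c) (col5_s_293_305 c) (Nat.ble 293 c)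
noncomputable def col5_s_306_308 (c : Nat) : Nat := @Bool.rec (fun _ => Nat) (col5_306) (col5_307) (Nat.ble 307 c)
noncomputable def col5_s_305_308 (c : Nat) : Nat := @Bool.rec (fun _ => Nat) (col5_305) (col5_s_306_308 c) (Nat.ble 306 c)
noncomputable def col5_s_309_311 (c : Nat) : Nat := @Bool.rec (fun _ => Nat) (col5_309) (col5_310) (Nat.ble 310 c)
noncomputable def col5_s_308_311 (c : Nat) : Nat := @Bool.rec (fun _ => Nat) (col5_308) (col5_s_309_311 c) (Nat.ble 309 c)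
noncomputable def col5_s_305_311 (c : Nat) : Nat := @Bool.rec (fun _ => Nat) (col5_s_305_308 c) (col5_s_308_311 c) (Nat.ble 308 c)
noncomputable def col5_s_312_314 (c : Nat) : Nat := @Bool.rec (fun _ => Nat) (col5_312) (col5_313) (Nat.ble 313 c)
noncomputable def col5_s_311_314 (c : Nat) : Nat := @Bool.rec (fun _ => Nat) (col5_311) (col5_s_312_314 c) (Nat.ble 312 c)
noncomputable def col5_s_315_317 (c : Nat) : Nat := @Bool.rec (fun _ => Nat) (col5_315) (col5_316) (Nat.ble 316 c)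
noncomputable def col5_s_314_317 (c : Nat) : Nat := @Bool.rec (fun _ => Nat) (col5_314) (col5_s_315_317 c) (Nat.ble 315 c)
noncomputable def col5_s_311_317 (c : Nat) : Nat := @Bool.rec (fun _ => Nat) (col5_s_311_314 c) (col5_s_314_317 c) (Nat.ble 314 c)
noncomputable def col5_s_305_317 (c : Nat) : Nat := @Bool.rec (fun _ => Nat) (col5_s_305_311 c) (col5_s_311_317 c) (Nat.ble 311 c)
noncomputable def col5_s_318_320 (c : Nat) : Nat := @Bool.rec (fun _ => Nat) (col5_318) (col5_319) (Nat.ble 319 c)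
noncomputable def col5_s_317_320 (c : Nat) : Nat := @Bool.rec (fun _ => Nat) (col5_317) (col5_s_318_320 c) (Nat.ble 318 c)
noncomputable def col5_s_321_323 (c : Nat) : Nat := @Bool.rec (fun _ => Nat) (col5_321) (col5_322) (Nat.ble 322 c)
noncomputable def col5_s_320_323 (c : Nat) : Nat := @Bool.rec (fun _ => Nat) (col5_320) (col5_s_321_323 c) (Nat.ble 321 c)
noncomputable def col5_s_317_323 (c : Nat) : Nat := @Bool.rec (fun _ => Nat) (col5_s_317_320 c) (col5_s_320_323 c) (Nat.ble 320 c)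
noncomputable def col5_s_324_326 (c : Nat) : Nat := @Bool.rec (fun _ => Nat) (col5_324) (col5_325) (Nat.ble 325 c)
noncomputable def col5_s_323_326 (c : Nat) : Nat := @Bool.rec (fun _ => Nat) (col5_323) (col5_s_324_326 c) (Nat.ble 324 c)
noncomputable def col5_s_327_329 (c : Nat) : Nat := @Bool.rec (fun _ => Nat) (col5_327) (col5_328) (Nat.ble 328 c)
noncomputable def col5_s_326_329 (c : Nat) : Nat := @Bool.rec (fun _ => Nat) (col5_326) (col5_s_327_329 c) (Nat.ble 327 c)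
noncomputable def col5_s_323_329 (c : Nat) : Nat := @Bool.rec (fun _ => Nat) (col5_s_323_326 c) (col5_s_326_329 c) (Nat.ble 326 c)
noncomputable def col5_s_317_329 (c : Nat) : Nat := @Bool.rec (fun _ => Nat) (col5_s_317_323 c) (col5_s_323_329 c) (Nat.ble 323 c)
noncomputable def col5_s_305_329 (c : Nat) : Nat := @Bool.rec (fun _ => Nat) (col5_s_305_317 c) (col5_s_317_329 c) (Nat.ble 317 c)
noncomputable def col5_s_282_329 (c : Nat) : Nat := @Bool.rec (fun _ => Nat) (col5_s_282_305 c) (col5_s_305_329 c) (Nat.ble 305 c)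
noncomputable def col5_s_329_331 (c : Nat) : Nat := @Bool.rec (fun _ => Nat) (col5_329) (col5_330) (Nat.ble 330 c)
noncomputable def col5_s_332_334 (c : Nat) : Nat := @Bool.rec (fun _ => Nat) (col5_332) (col5_333) (Nat.ble 333 c)
noncomputable def col5_s_331_334 (c : Nat) : Nat := @Bool.rec (fun _ => Nat) (col5_331) (col5_s_332_334 c) (Nat.ble 332 c)
noncomputable def col5_s_329_334 (c : Nat) : Nat := @Bool.rec (fun _ => Nat) (col5_s_329_331 c) (col5_s_331_334 c) (Nat.ble 331 c)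
noncomputable def col5_s_335_337 (c : Nat) : Nat := @Bool.rec (fun _ => Nat) (col5_335) (col5_336) (Nat.ble 336 c)
noncomputable def col5_s_334_337 (c : Nat) : Nat := @Bool.rec (fun _ => Nat) (col5_334) (col5_s_335_337 c) (Nat.ble 335 c)
noncomputable def col5_s_338_340 (c : Nat) : Nat := @Bool.rec (fun _ => Nat) (col5_338) (col5_339) (Nat.ble 339 c)
noncomputable def col5_s_337_340 (c : Nat) : Nat := @Bool.rec (fun _ => Nat) (col5_337) (col5_s_338_340 c) (Nat.ble 338 c)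
noncomputable def col5_s_334_340 (c : Nat) : Nat := @Bool.rec (fun _ => Nat) (col5_s_334_337 c) (col5_s_337_340 c) (Nat.ble 337 c)
noncomputable def col5_s_329_340 (c : Nat) : Nat := @Bool.rec (fun _ => Nat) (col5_s_329_334 c) (col5_s_334_340 c) (Nat.ble 334 c)
noncomputable def col5_s_341_343 (c : Nat) : Nat := @Bool.rec (fun _ => Nat) (col5_341) (col5_342) (Nat.ble 342 c)
noncomputable def col5_s_340_343 (c : Nat) : Nat := @Bool.rec (fun _ => Nat) (col5_340) (col5_s_341_343 c) (Nat.ble 341 c)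
noncomputable def col5_s_344_346 (c : Nat) : Nat := @Bool.rec (fun _ => Nat) (col5_344) (col5_345) (Nat.ble 345 c)
noncomputable def col5_s_343_346 (c : Nat) : Nat := @Bool.rec (fun _ => Nat) (col5_343) (col5_s_344_346 c) (Nat.ble 344 c)
noncomputable def col5_s_340_346 (c : Nat) : Nat := @Bool.rec (fun _ => Nat) (col5_s_340_343 c) (col5_s_343_346 c) (Nat.ble 343 c)
noncomputable def col5_s_347_349 (c : Nat) : Nat := @Bool.rec (fun _ => Nat) (col5_347) (col5_348) (Nat.ble 348 c)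
noncomputable def col5_s_346_349 (c : Nat) : Nat := @Bool.rec (fun _ => Nat) (col5_346) (col5_s_347_349 c) (Nat.ble 347 c)
noncomputable def col5_s_350_352 (c : Nat) : Nat := @Bool.rec (fun _ => Nat) (col5_350) (col5_351) (Nat.ble 351 c)
noncomputable def col5_s_349_352 (c : Nat) : Nat := @Bool.rec (fun _ => Nat) (col5_349) (col5_s_350_352 c) (Nat.ble 350 c)
noncomputable def col5_s_346_352 (c : Nat) : Nat := @Bool.rec (fun _ => Nat) (col5_s_346_349 c) (col5_s_349_352 c) (Nat.ble 349 c)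
noncomputable def col5_s_340_352 (c : Nat) : Nat := @Bool.rec (fun _ => Nat) (col5_s_340_346 c) (col5_s_346_352 c) (Nat.ble 346 c)
noncomputable def col5_s_329_352 (c : Nat) : Nat := @Bool.rec (fun _ => Nat) (col5_s_329_340 c) (col5_s_340_352 c) (Nat.ble 340 c)
noncomputable def col5_s_353_355 (c : Nat) : Nat := @Bool.rec (fun _ => Nat) (col5_353) (col5_354) (Nat.ble 354 c)
noncomputable def col5_s_352_355 (c : Nat) : Nat := @Bool.rec (fun _ => Nat) (col5_352) (col5_s_353_355 c) (Nat.ble 353 c)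
noncomputable def col5_s_356_358 (c : Nat) : Nat := @Bool.rec (fun _ => Nat) (col5_356) (col5_357) (Nat.ble 357 c)
noncomputable def col5_s_355_358 (c : Nat) : Nat := @Bool.rec (fun _ => Nat) (col5_355) (col5_s_356_358 c) (Nat.ble 356 c)
noncomputable def col5_s_352_358 (c : Nat) : Nat := @Bool.rec (fun _ => Nat) (col5_s_352_355 c) (col5_s_355_358 c) (Nat.ble 355 c)
noncomputable def col5_s_359_361 (c : Nat) : Nat := @Bool.rec (fun _ => Nat) (col5_359) (col5_360) (Nat.ble 360 c)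
noncomputable def col5_s_358_361 (c : Nat) : Nat := @Bool.rec (fun _ => Nat) (col5_358) (col5_s_359_361 c) (Nat.ble 359 c)
noncomputable def col5_s_362_364 (c : Nat) : Nat := @Bool.rec (fun _ => Nat) (col5_362) (col5_363) (Nat.ble 363 c)
noncomputable def col5_s_361_364 (c : Nat) : Nat := @Bool.rec (fun _ => Nat) (col5_361) (col5_s_362_364 c) (Nat.ble 362 c)
noncomputable def col5_s_358_364 (c : Nat) : Nat := @Bool.rec (fun _ => Nat) (col5_s_358_361 c) (col5_s_361_364 c) (Nat.ble 361 c)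
noncomputable def col5_s_352_364 (c : Nat) : Nat := @Bool.rec (fun _ => Nat) (col5_s_352_358 c) (col5_s_358_364 c) (Nat.ble 358 c)
noncomputable def col5_s_365_367 (c : Nat) : Nat := @Bool.rec (fun _ => Nat) (col5_365) (col5_366) (Nat.ble 366 c)
noncomputable def col5_s_364_367 (c : Nat) : Nat := @Bool.rec (fun _ => Nat) (col5_364) (col5_s_365_367 c) (Nat.ble 365 c)
noncomputable def col5_s_368_370 (c : Nat) : Nat := @Bool.rec (fun _ => Nat) (col5_368) (col5_369) (Nat.ble 369 c)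
noncomputable def col5_s_367_370 (c : Nat) : Nat := @Bool.rec (fun _ => Nat) (col5_367) (col5_s_368_370 c) (Nat.ble 368 c)
noncomputable def col5_s_364_370 (c : Nat) : Nat := @Bool.rec (fun _ => Nat) (col5_s_364_367 c) (col5_s_367_370 c) (Nat.ble 367 c)
noncomputable def col5_s_371_373 (c : Nat) : Nat := @Bool.rec (fun _ => Nat) (col5_371) (col5_372) (Nat.ble 372 c)
noncomputable def col5_s_370_373 (c : Nat) : Nat := @Bool.rec (fun _ => Nat) (col5_370) (col5_s_371_373 c) (Nat.ble 371 c)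
noncomputable def col5_s_374_376 (c : Nat) : Nat := @Bool.rec (fun _ => Nat) (col5_374) (col5_375) (Nat.ble 375 c)
noncomputable def col5_s_373_376 (c : Nat) : Nat := @Bool.rec (fun _ => Nat) (col5_373) (col5_s_374_376 c) (Nat.ble 374 c)
noncomputable def col5_s_370_376 (c : Nat) : Nat := @Bool.rec (fun _ => Nat) (col5_s_370_373 c) (col5_s_373_376 c) (Nat.ble 373 c)
noncomputable def col5_s_364_376 (c : Nat) : Nat := @Bool.rec (fun _ => Nat) (col5_s_364_370 c) (col5_s_370_376 c) (Nat.ble 370 c)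
noncomputable def col5_s_352_376 (c : Nat) : Nat := @Bool.rec (fun _ => Nat) (col5_s_352_364 c) (col5_s_364_376 c) (Nat.ble 364 c)
noncomputable def col5_s_329_376 (c : Nat) : Nat := @Bool.rec (fun _ => Nat) (col5_s_329_352 c) (col5_s_352_376 c) (Nat.ble 352 c)
noncomputable def col5_s_282_376 (c : Nat) : Nat := @Bool.rec (fun _ => Nat) (col5_s_282_329 c) (col5_s_329_376 c) (Nat.ble 329 c)
noncomputable def col5_s_188_376 (c : Nat) : Nat := @Bool.rec (fun _ => Nat) (col5_s_188_282 c) (col5_s_282_376 c) (Nat.ble 282 c)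
noncomputable def col5_s_0_376 (c : Nat) : Nat := @Bool.rec (fun _ => Nat) (col5_s_0_188 c) (col5_s_188_376 c) (Nat.ble 188 c)
noncomputable def col5 (i : Nat) : Nat := rdw 21 2097151 (col5_s_0_376 (Nat.shiftRight i 12)) (Nat.land i 4095)
noncomputable def col6_s_0_2 (c : Nat) : Nat := @Bool.rec (fun _ => Nat) (col6_0) (col6_1) (Nat.ble 1 c)
noncomputable def col6_s_3_5 (c : Nat) : Nat := @Bool.rec (fun _ => Nat) (col6_3) (col6_4) (Nat.ble 4 c)
noncomputable def col6_s_2_5 (c : Nat) : Nat := @Bool.rec (fun _ => Nat) (col6_2) (col6_s_3_5 c) (Nat.ble 3 c)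
noncomputable def col6_s_0_5 (c : Nat) : Nat := @Bool.rec (fun _ => Nat) (col6_s_0_2 c) (col6_s_2_5 c) (Nat.ble 2 c)
noncomputable def col6_s_6_8 (c : Nat) : Nat := @Bool.rec (fun _ => Nat) (col6_6) (col6_7) (Nat.ble 7 c)
noncomputable def col6_s_5_8 (c : Nat) : Nat := @Bool.rec (fun _ => Nat) (col6_5) (col6_s_6_8 c) (Nat.ble 6 c)
noncomputable def col6_s_9_11 (c : Nat) : Nat := @Bool.rec (fun _ => Nat) (col6_9) (col6_10) (Nat.ble 10 c)
noncomputable def col6_s_8_11 (c : Nat) : Nat := @Bool.rec (fun _ => Nat) (col6_8) (col6_s_9_11 c) (Nat.ble 9 c)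
noncomputable def col6_s_5_11 (c : Nat) : Nat := @Bool.rec (fun _ => Nat) (col6_s_5_8 c) (col6_s_8_11 c) (Nat.ble 8 c)
noncomputable def col6_s_0_11 (c : Nat) : Nat := @Bool.rec (fun _ => Nat) (col6_s_0_5 c) (col6_s_5_11 c) (Nat.ble 5 c)
noncomputable def col6_s_12_14 (c : Nat) : Nat := @Bool.rec (fun _ => Nat) (col6_12) (col6_13) (Nat.ble 13 c)
noncomputable def col6_s_11_14 (c : Nat) : Nat := @Bool.rec (fun _ => Nat) (col6_11) (col6_s_12_14 c) (Nat.ble 12 c)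
noncomputable def col6_s_15_17 (c : Nat) : Nat := @Bool.rec (fun _ => Nat) (col6_15) (col6_16) (Nat.ble 16 c)
noncomputable def col6_s_14_17 (c : Nat) : Nat := @Bool.rec (fun _ => Nat) (col6_14) (col6_s_15_17 c) (Nat.ble 15 c)
noncomputable def col6_s_11_17 (c : Nat) : Nat := @Bool.rec (fun _ => Nat) (col6_s_11_14 c) (col6_s_14_17 c) (Nat.ble 14 c)
noncomputable def col6_s_18_20 (c : Nat) : Nat := @Bool.rec (fun _ => Nat) (col6_18) (col6_19) (Nat.ble 19 c)
noncomputable def col6_s_17_20 (c : Nat) : Nat := @Bool.rec (fun _ => Nat) (col6_17) (col6_s_18_20 c) (Nat.ble 18 c)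
noncomputable def col6_s_21_23 (c : Nat) : Nat := @Bool.rec (fun _ => Nat) (col6_21) (col6_22) (Nat.ble 22 c)
noncomputable def col6_s_20_23 (c : Nat) : Nat := @Bool.rec (fun _ => Nat) (col6_20) (col6_s_21_23 c) (Nat.ble 21 c)
noncomputable def col6_s_17_23 (c : Nat) : Nat := @Bool.rec (fun _ => Nat) (col6_s_17_20 c) (col6_s_20_23 c) (Nat.ble 20 c)
noncomputable def col6_s_11_23 (c : Nat) : Nat := @Bool.rec (fun _ => Nat) (col6_s_11_17 c) (col6_s_17_23 c) (Nat.ble 17 c)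
noncomputable def col6_s_0_23 (c : Nat) : Nat := @Bool.rec (fun _ => Nat) (col6_s_0_11 c) (col6_s_11_23 c) (Nat.ble 11 c)
noncomputable def col6_s_24_26 (c : Nat) : Nat := @Bool.rec (fun _ => Nat) (col6_24) (col6_25) (Nat.ble 25 c)
noncomputable def col6_s_23_26 (c : Nat) : Nat := @Bool.rec (fun _ => Nat) (col6_23) (col6_s_24_26 c) (Nat.ble 24 c)
noncomputable def col6_s_27_29 (c : Nat) : Nat := @Bool.rec (fun _ => Nat) (col6_27) (col6_28) (Nat.ble 28 c)
noncomputable def col6_s_26_29 (c : Nat) : Nat := @Bool.rec (fun _ => Nat) (col6_26) (col6_s_27_29 c) (Nat.ble 27 c)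
noncomputable def col6_s_23_29 (c : Nat) : Nat := @Bool.rec (fun _ => Nat) (col6_s_23_26 c) (col6_s_26_29 c) (Nat.ble 26 c)
noncomputable def col6_s_30_32 (c : Nat) : Nat := @Bool.rec (fun _ => Nat) (col6_30) (col6_31) (Nat.ble 31 c)
noncomputable def col6_s_29_32 (c : Nat) : Nat := @Bool.rec (fun _ => Nat) (col6_29) (col6_s_30_32 c) (Nat.ble 30 c)
noncomputable def col6_s_33_35 (c : Nat) : Nat := @Bool.rec (fun _ => Nat) (col6_33) (col6_34) (Nat.ble 34 c)
noncomputable def col6_s_32_35 (c : Nat) : Nat := @Bool.rec (fun _ => Nat) (col6_32) (col6_s_33_35 c) (Nat.ble 33 c)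
noncomputable def col6_s_29_35 (c : Nat) : Nat := @Bool.rec (fun _ => Nat) (col6_s_29_32 c) (col6_s_32_35 c) (Nat.ble 32 c)
noncomputable def col6_s_23_35 (c : Nat) : Nat := @Bool.rec (fun _ => Nat) (col6_s_23_29 c) (col6_s_29_35 c) (Nat.ble 29 c)
noncomputable def col6_s_36_38 (c : Nat) : Nat := @Bool.rec (fun _ => Nat) (col6_36) (col6_37) (Nat.ble 37 c)
noncomputable def col6_s_35_38 (c : Nat) : Nat := @Bool.rec (fun _ => Nat) (col6_35) (col6_s_36_38 c) (Nat.ble 36 c)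
noncomputable def col6_s_39_41 (c : Nat) : Nat := @Bool.rec (fun _ => Nat) (col6_39) (col6_40) (Nat.ble 40 c)
noncomputable def col6_s_38_41 (c : Nat) : Nat := @Bool.rec (fun _ => Nat) (col6_38) (col6_s_39_41 c) (Nat.ble 39 c)
noncomputable def col6_s_35_41 (c : Nat) : Nat := @Bool.rec (fun _ => Nat) (col6_s_35_38 c) (col6_s_38_41 c) (Nat.ble 38 c)
noncomputable def col6_s_42_44 (c : Nat) : Nat := @Bool.rec (fun _ => Nat) (col6_42) (col6_43) (Nat.ble 43 c)
noncomputable def col6_s_41_44 (c : Nat) : Nat := @Bool.rec (fun _ => Nat) (col6_41) (col6_s_42_44 c) (Nat.ble 42 c)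
noncomputable def col6_s_45_47 (c : Nat) : Nat := @Bool.rec (fun _ => Nat) (col6_45) (col6_46) (Nat.ble 46 c)
noncomputable def col6_s_44_47 (c : Nat) : Nat := @Bool.rec (fun _ => Nat) (col6_44) (col6_s_45_47 c) (Nat.ble 45 c)
noncomputable def col6_s_41_47 (c : Nat) : Nat := @Bool.rec (fun _ => Nat) (col6_s_41_44 c) (col6_s_44_47 c) (Nat.ble 44 c)
noncomputable def col6_s_35_47 (c : Nat) : Nat := @Bool.rec (fun _ => Nat) (col6_s_35_41 c) (col6_s_41_47 c) (Nat.ble 41 c)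
noncomputable def col6_s_23_47 (c : Nat) : Nat := @Bool.rec (fun _ => Nat) (col6_s_23_35 c) (col6_s_35_47 c) (Nat.ble 35 c)
noncomputable def col6_s_0_47 (c : Nat) : Nat := @Bool.rec (fun _ => Nat) (col6_s_0_23 c) (col6_s_23_47 c) (Nat.ble 23 c)
noncomputable def col6_s_47_49 (c : Nat) : Nat := @Bool.rec (fun _ => Nat) (col6_47) (col6_48) (Nat.ble 48 c)
noncomputable def col6_s_50_52 (c : Nat) : Nat := @Bool.rec (fun _ => Nat) (col6_50) (col6_51) (Nat.ble 51 c)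
noncomputable def col6_s_49_52 (c : Nat) : Nat := @Bool.rec (fun _ => Nat) (col6_49) (col6_s_50_52 c) (Nat.ble 50 c)
noncomputable def col6_s_47_52 (c : Nat) : Nat := @Bool.rec (fun _ => Nat) (col6_s_47_49 c) (col6_s_49_52 c) (Nat.ble 49 c)
noncomputable def col6_s_53_55 (c : Nat) : Nat := @Bool.rec (fun _ => Nat) (col6_53) (col6_54) (Nat.ble 54 c)
noncomputable def col6_s_52_55 (c : Nat) : Nat := @Bool.rec (fun _ => Nat) (col6_52) (col6_s_53_55 c) (Nat.ble 53 c)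
noncomputable def col6_s_56_58 (c : Nat) : Nat := @Bool.rec (fun _ => Nat) (col6_56) (col6_57) (Nat.ble 57 c)
noncomputable def col6_s_55_58 (c : Nat) : Nat := @Bool.rec (fun _ => Nat) (col6_55) (col6_s_56_58 c) (Nat.ble 56 c)
noncomputable def col6_s_52_58 (c : Nat) : Nat := @Bool.rec (fun _ => Nat) (col6_s_52_55 c) (col6_s_55_58 c) (Nat.ble 55 c)
noncomputable def col6_s_47_58 (c : Nat) : Nat := @Bool.rec (fun _ => Nat) (col6_s_47_52 c) (col6_s_52_58 c) (Nat.ble 52 c)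
noncomputable def col6_s_59_61 (c : Nat) : Nat := @Bool.rec (fun _ => Nat) (col6_59) (col6_60) (Nat.ble 60 c)
noncomputable def col6_s_58_61 (c : Nat) : Nat := @Bool.rec (fun _ => Nat) (col6_58) (col6_s_59_61 c) (Nat.ble 59 c)
noncomputable def col6_s_62_64 (c : Nat) : Nat := @Bool.rec (fun _ => Nat) (col6_62) (col6_63) (Nat.ble 63 c)
noncomputable def col6_s_61_64 (c : Nat) : Nat := @Bool.rec (fun _ => Nat) (col6_61) (col6_s_62_64 c) (Nat.ble 62 c)
noncomputable def col6_s_58_64 (c : Nat) : Nat := @Bool.rec (fun _ => Nat) (col6_s_58_61 c) (col6_s_61_64 c) (Nat.ble 61 c)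
noncomputable def col6_s_65_67 (c : Nat) : Nat := @Bool.rec (fun _ => Nat) (col6_65) (col6_66) (Nat.ble 66 c)
noncomputable def col6_s_64_67 (c : Nat) : Nat := @Bool.rec (fun _ => Nat) (col6_64) (col6_s_65_67 c) (Nat.ble 65 c)
noncomputable def col6_s_68_70 (c : Nat) : Nat := @Bool.rec (fun _ => Nat) (col6_68) (col6_69) (Nat.ble 69 c)
noncomputable def col6_s_67_70 (c : Nat) : Nat := @Bool.rec (fun _ => Nat) (col6_67) (col6_s_68_70 c) (Nat.ble 68 c)
noncomputable def col6_s_64_70 (c : Nat) : Nat := @Bool.rec (fun _ => Nat) (col6_s_64_67 c) (col6_s_67_70 c) (Nat.ble 67 c)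
noncomputable def col6_s_58_70 (c : Nat) : Nat := @Bool.rec (fun _ => Nat) (col6_s_58_64 c) (col6_s_64_70 c) (Nat.ble 64 c)
noncomputable def col6_s_47_70 (c : Nat) : Nat := @Bool.rec (fun _ => Nat) (col6_s_47_58 c) (col6_s_58_70 c) (Nat.ble 58 c)
noncomputable def col6_s_71_73 (c : Nat) : Nat := @Bool.rec (fun _ => Nat) (col6_71) (col6_72) (Nat.ble 72 c)
noncomputable def col6_s_70_73 (c : Nat) : Nat := @Bool.rec (fun _ => Nat) (col6_70) (col6_s_71_73 c) (Nat.ble 71 c)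
noncomputable def col6_s_74_76 (c : Nat) : Nat := @Bool.rec (fun _ => Nat) (col6_74) (col6_75) (Nat.ble 75 c)
noncomputable def col6_s_73_76 (c : Nat) : Nat := @Bool.rec (fun _ => Nat) (col6_73) (col6_s_74_76 c) (Nat.ble 74 c)
noncomputable def col6_s_70_76 (c : Nat) : Nat := @Bool.rec (fun _ => Nat) (col6_s_70_73 c) (col6_s_73_76 c) (Nat.ble 73 c)
noncomputable def col6_s_77_79 (c : Nat) : Nat := @Bool.rec (fun _ => Nat) (col6_77) (col6_78) (Nat.ble 78 c)
noncomputable def col6_s_76_79 (c : Nat) : Nat := @Bool.rec (fun _ => Nat) (col6_76) (col6_s_77_79 c) (Nat.ble 77 c)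
noncomputable def col6_s_80_82 (c : Nat) : Nat := @Bool.rec (fun _ => Nat) (col6_80) (col6_81) (Nat.ble 81 c)
noncomputable def col6_s_79_82 (c : Nat) : Nat := @Bool.rec (fun _ => Nat) (col6_79) (col6_s_80_82 c) (Nat.ble 80 c)
noncomputable def col6_s_76_82 (c : Nat) : Nat := @Bool.rec (fun _ => Nat) (col6_s_76_79 c) (col6_s_79_82 c) (Nat.ble 79 c)
noncomputable def col6_s_70_82 (c : Nat) : Nat := @Bool.rec (fun _ => Nat) (col6_s_70_76 c) (col6_s_76_82 c) (Nat.ble 76 c)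
noncomputable def col6_s_83_85 (c : Nat) : Nat := @Bool.rec (fun _ => Nat) (col6_83) (col6_84) (Nat.ble 84 c)
noncomputable def col6_s_82_85 (c : Nat) : Nat := @Bool.rec (fun _ => Nat) (col6_82) (col6_s_83_85 c) (Nat.ble 83 c)
noncomputable def col6_s_86_88 (c : Nat) : Nat := @Bool.rec (fun _ => Nat) (col6_86) (col6_87) (Nat.ble 87 c)
noncomputable def col6_s_85_88 (c : Nat) : Nat := @Bool.rec (fun _ => Nat) (col6_85) (col6_s_86_88 c) (Nat.ble 86 c)
noncomputable def col6_s_82_88 (c : Nat) : Nat := @Bool.rec (fun _ => Nat) (col6_s_82_85 c) (col6_s_85_88 c) (Nat.ble 85 c)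
noncomputable def col6_s_89_91 (c : Nat) : Nat := @Bool.rec (fun _ => Nat) (col6_89) (col6_90) (Nat.ble 90 c)
noncomputable def col6_s_88_91 (c : Nat) : Nat := @Bool.rec (fun _ => Nat) (col6_88) (col6_s_89_91 c) (Nat.ble 89 c)
noncomputable def col6_s_92_94 (c : Nat) : Nat := @Bool.rec (fun _ => Nat) (col6_92) (col6_93) (Nat.ble 93 c)
noncomputable def col6_s_91_94 (c : Nat) : Nat := @Bool.rec (fun _ => Nat) (col6_91) (col6_s_92_94 c) (Nat.ble 92 c)
noncomputable def col6_s_88_94 (c : Nat) : Nat := @Bool.rec (fun _ => Nat) (col6_s_88_91 c) (col6_s_91_94 c) (Nat.ble 91 c)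
noncomputable def col6_s_82_94 (c : Nat) : Nat := @Bool.rec (fun _ => Nat) (col6_s_82_88 c) (col6_s_88_94 c) (Nat.ble 88 c)
noncomputable def col6_s_70_94 (c : Nat) : Nat := @Bool.rec (fun _ => Nat) (col6_s_70_82 c) (col6_s_82_94 c) (Nat.ble 82 c)
noncomputable def col6_s_47_94 (c : Nat) : Nat := @Bool.rec (fun _ => Nat) (col6_s_47_70 c) (col6_s_70_94 c) (Nat.ble 70 c)
noncomputable def col6_s_0_94 (c : Nat) : Nat := @Bool.rec (fun _ => Nat) (col6_s_0_47 c) (col6_s_47_94 c) (Nat.ble 47 c)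
noncomputable def col6_s_94_96 (c : Nat) : Nat := @Bool.rec (fun _ => Nat) (col6_94) (col6_95) (Nat.ble 95 c)
noncomputable def col6_s_97_99 (c : Nat) : Nat := @Bool.rec (fun _ => Nat) (col6_97) (col6_98) (Nat.ble 98 c)
noncomputable def col6_s_96_99 (c : Nat) : Nat := @Bool.rec (fun _ => Nat) (col6_96) (col6_s_97_99 c) (Nat.ble 97 c)
noncomputable def col6_s_94_99 (c : Nat) : Nat := @Bool.rec (fun _ => Nat) (col6_s_94_96 c) (col6_s_96_99 c) (Nat.ble 96 c)
noncomputable def col6_s_100_102 (c : Nat) : Nat := @Bool.rec (fun _ => Nat) (col6_100) (col6_101) (Nat.ble 101 c)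
noncomputable def col6_s_99_102 (c : Nat) : Nat := @Bool.rec (fun _ => Nat) (col6_99) (col6_s_100_102 c) (Nat.ble 100 c)
noncomputable def col6_s_103_105 (c : Nat) : Nat := @Bool.rec (fun _ => Nat) (col6_103) (col6_104) (Nat.ble 104 c)
noncomputable def col6_s_102_105 (c : Nat) : Nat := @Bool.rec (fun _ => Nat) (col6_102) (col6_s_103_105 c) (Nat.ble 103 c)
noncomputable def col6_s_99_105 (c : Nat) : Nat := @Bool.rec (fun _ => Nat) (col6_s_99_102 c) (col6_s_102_105 c) (Nat.ble 102 c)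
noncomputable def col6_s_94_105 (c : Nat) : Nat := @Bool.rec (fun _ => Nat) (col6_s_94_99 c) (col6_s_99_105 c) (Nat.ble 99 c)
noncomputable def col6_s_106_108 (c : Nat) : Nat := @Bool.rec (fun _ => Nat) (col6_106) (col6_107) (Nat.ble 107 c)
noncomputable def col6_s_105_108 (c : Nat) : Nat := @Bool.rec (fun _ => Nat) (col6_105) (col6_s_106_108 c) (Nat.ble 106 c)
noncomputable def col6_s_109_111 (c : Nat) : Nat := @Bool.rec (fun _ => Nat) (col6_109) (col6_110) (Nat.ble 110 c)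
noncomputable def col6_s_108_111 (c : Nat) : Nat := @Bool.rec (fun _ => Nat) (col6_108) (col6_s_109_111 c) (Nat.ble 109 c)
noncomputable def col6_s_105_111 (c : Nat) : Nat := @Bool.rec (fun _ => Nat) (col6_s_105_108 c) (col6_s_108_111 c) (Nat.ble 108 c)
noncomputable def col6_s_112_114 (c : Nat) : Nat := @Bool.rec (fun _ => Nat) (col6_112) (col6_113) (Nat.ble 113 c)
noncomputable def col6_s_111_114 (c : Nat) : Nat := @Bool.rec (fun _ => Nat) (col6_111) (col6_s_112_114 c) (Nat.ble 112 c)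
noncomputable def col6_s_115_117 (c : Nat) : Nat := @Bool.rec (fun _ => Nat) (col6_115) (col6_116) (Nat.ble 116 c)
noncomputable def col6_s_114_117 (c : Nat) : Nat := @Bool.rec (fun _ => Nat) (col6_114) (col6_s_115_117 c) (Nat.ble 115 c)
noncomputable def col6_s_111_117 (c : Nat) : Nat := @Bool.rec (fun _ => Nat) (col6_s_111_114 c) (col6_s_114_117 c) (Nat.ble 114 c)
noncomputable def col6_s_105_117 (c : Nat) : Nat := @Bool.rec (fun _ => Nat) (col6_s_105_111 c) (col6_s_111_117 c) (Nat.ble 111 c)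
noncomputable def col6_s_94_117 (c : Nat) : Nat := @Bool.rec (fun _ => Nat) (col6_s_94_105 c) (col6_s_105_117 c) (Nat.ble 105 c)
noncomputable def col6_s_118_120 (c : Nat) : Nat := @Bool.rec (fun _ => Nat) (col6_118) (col6_119) (Nat.ble 119 c)
noncomputable def col6_s_117_120 (c : Nat) : Nat := @Bool.rec (fun _ => Nat) (col6_117) (col6_s_118_120 c) (Nat.ble 118 c)
noncomputable def col6_s_121_123 (c : Nat) : Nat := @Bool.rec (fun _ => Nat) (col6_121) (col6_122) (Nat.ble 122 c)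
noncomputable def col6_s_120_123 (c : Nat) : Nat := @Bool.rec (fun _ => Nat) (col6_120) (col6_s_121_123 c) (Nat.ble 121 c)
noncomputable def col6_s_117_123 (c : Nat) : Nat := @Bool.rec (fun _ => Nat) (col6_s_117_120 c) (col6_s_120_123 c) (Nat.ble 120 c)
noncomputable def col6_s_124_126 (c : Nat) : Nat := @Bool.rec (fun _ => Nat) (col6_124) (col6_125) (Nat.ble 125 c)
noncomputable def col6_s_123_126 (c : Nat) : Nat := @Bool.rec (fun _ => Nat) (col6_123) (col6_s_124_126 c) (Nat.ble 124 c)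
noncomputable def col6_s_127_129 (c : Nat) : Nat := @Bool.rec (fun _ => Nat) (col6_127) (col6_128) (Nat.ble 128 c)
noncomputable def col6_s_126_129 (c : Nat) : Nat := @Bool.rec (fun _ => Nat) (col6_126) (col6_s_127_129 c) (Nat.ble 127 c)
noncomputable def col6_s_123_129 (c : Nat) : Nat := @Bool.rec (fun _ => Nat) (col6_s_123_126 c) (col6_s_126_129 c) (Nat.ble 126 c)
noncomputable def col6_s_117_129 (c : Nat) : Nat := @Bool.rec (fun _ => Nat) (col6_s_117_123 c) (col6_s_123_129 c) (Nat.ble 123 c)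
noncomputable def col6_s_130_132 (c : Nat) : Nat := @Bool.rec (fun _ => Nat) (col6_130) (col6_131) (Nat.ble 131 c)
noncomputable def col6_s_129_132 (c : Nat) : Nat := @Bool.rec (fun _ => Nat) (col6_129) (col6_s_130_132 c) (Nat.ble 130 c)
noncomputable def col6_s_133_135 (c : Nat) : Nat := @Bool.rec (fun _ => Nat) (col6_133) (col6_134) (Nat.ble 134 c)
noncomputable def col6_s_132_135 (c : Nat) : Nat := @Bool.rec (fun _ => Nat) (col6_132) (col6_s_133_135 c) (Nat.ble 133 c)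
noncomputable def col6_s_129_135 (c : Nat) : Nat := @Bool.rec (fun _ => Nat) (col6_s_129_132 c) (col6_s_132_135 c) (Nat.ble 132 c)
noncomputable def col6_s_136_138 (c : Nat) : Nat := @Bool.rec (fun _ => Nat) (col6_136) (col6_137) (Nat.ble 137 c)
noncomputable def col6_s_135_138 (c : Nat) : Nat := @Bool.rec (fun _ => Nat) (col6_135) (col6_s_136_138 c) (Nat.ble 136 c)
noncomputable def col6_s_139_141 (c : Nat) : Nat := @Bool.rec (fun _ => Nat) (col6_139) (col6_140) (Nat.ble 140 c)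
noncomputable def col6_s_138_141 (c : Nat) : Nat := @Bool.rec (fun _ => Nat) (col6_138) (col6_s_139_141 c) (Nat.ble 139 c)
noncomputable def col6_s_135_141 (c : Nat) : Nat := @Bool.rec (fun _ => Nat) (col6_s_135_138 c) (col6_s_138_141 c) (Nat.ble 138 c)
noncomputable def col6_s_129_141 (c : Nat) : Nat := @Bool.rec (fun _ => Nat) (col6_s_129_135 c) (col6_s_135_141 c) (Nat.ble 135 c)
noncomputable def col6_s_117_141 (c : Nat) : Nat := @Bool.rec (fun _ => Nat) (col6_s_117_129 c) (col6_s_129_141 c) (Nat.ble 129 c)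
noncomputable def col6_s_94_141 (c : Nat) : Nat := @Bool.rec (fun _ => Nat) (col6_s_94_117 c) (col6_s_117_141 c) (Nat.ble 117 c)
noncomputable def col6_s_141_143 (c : Nat) : Nat := @Bool.rec (fun _ => Nat) (col6_141) (col6_142) (Nat.ble 142 c)
noncomputable def col6_s_144_146 (c : Nat) : Nat := @Bool.rec (fun _ => Nat) (col6_144) (col6_145) (Nat.ble 145 c)
noncomputable def col6_s_143_146 (c : Nat) : Nat := @Bool.rec (fun _ => Nat) (col6_143) (col6_s_144_146 c) (Nat.ble 144 c)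
noncomputable def col6_s_141_146 (c : Nat) : Nat := @Bool.rec (fun _ => Nat) (col6_s_141_143 c) (col6_s_143_146 c) (Nat.ble 143 c)
noncomputable def col6_s_147_149 (c : Nat) : Nat := @Bool.rec (fun _ => Nat) (col6_147) (col6_148) (Nat.ble 148 c)
noncomputable def col6_s_146_149 (c : Nat) : Nat := @Bool.rec (fun _ => Nat) (col6_146) (col6_s_147_149 c) (Nat.ble 147 c)
noncomputable def col6_s_150_152 (c : Nat) : Nat := @Bool.rec (fun _ => Nat) (col6_150) (col6_151) (Nat.ble 151 c)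
noncomputable def col6_s_149_152 (c : Nat) : Nat := @Bool.rec (fun _ => Nat) (col6_149) (col6_s_150_152 c) (Nat.ble 150 c)
noncomputable def col6_s_146_152 (c : Nat) : Nat := @Bool.rec (fun _ => Nat) (col6_s_146_149 c) (col6_s_149_152 c) (Nat.ble 149 c)
noncomputable def col6_s_141_152 (c : Nat) : Nat := @Bool.rec (fun _ => Nat) (col6_s_141_146 c) (col6_s_146_152 c) (Nat.ble 146 c)
noncomputable def col6_s_153_155 (c : Nat) : Nat := @Bool.rec (fun _ => Nat) (col6_153) (col6_154) (Nat.ble 154 c)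
noncomputable def col6_s_152_155 (c : Nat) : Nat := @Bool.rec (fun _ => Nat) (col6_152) (col6_s_153_155 c) (Nat.ble 153 c)
noncomputable def col6_s_156_158 (c : Nat) : Nat := @Bool.rec (fun _ => Nat) (col6_156) (col6_157) (Nat.ble 157 c)
noncomputable def col6_s_155_158 (c : Nat) : Nat := @Bool.rec (fun _ => Nat) (col6_155) (col6_s_156_158 c) (Nat.ble 156 c)
noncomputable def col6_s_152_158 (c : Nat) : Nat := @Bool.rec (fun _ => Nat) (col6_s_152_155 c) (col6_s_155_158 c) (Nat.ble 155 c)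
noncomputable def col6_s_159_161 (c : Nat) : Nat := @Bool.rec (fun _ => Nat) (col6_159) (col6_160) (Nat.ble 160 c)
noncomputable def col6_s_158_161 (c : Nat) : Nat := @Bool.rec (fun _ => Nat) (col6_158) (col6_s_159_161 c) (Nat.ble 159 c)
noncomputable def col6_s_162_164 (c : Nat) : Nat := @Bool.rec (fun _ => Nat) (col6_162) (col6_163) (Nat.ble 163 c)
noncomputable def col6_s_161_164 (c : Nat) : Nat := @Bool.rec (fun _ => Nat) (col6_161) (col6_s_162_164 c) (Nat.ble 162 c)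
noncomputable def col6_s_158_164 (c : Nat) : Nat := @Bool.rec (fun _ => Nat) (col6_s_158_161 c) (col6_s_161_164 c) (Nat.ble 161 c)
noncomputable def col6_s_152_164 (c : Nat) : Nat := @Bool.rec (fun _ => Nat) (col6_s_152_158 c) (col6_s_158_164 c) (Nat.ble 158 c)
noncomputable def col6_s_141_164 (c : Nat) : Nat := @Bool.rec (fun _ => Nat) (col6_s_141_152 c) (col6_s_152_164 c) (Nat.ble 152 c)
noncomputable def col6_s_165_167 (c : Nat) : Nat := @Bool.rec (fun _ => Nat) (col6_165) (col6_166) (Nat.ble 166 c)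
noncomputable def col6_s_164_167 (c : Nat) : Nat := @Bool.rec (fun _ => Nat) (col6_164) (col6_s_165_167 c) (Nat.ble 165 c)
noncomputable def col6_s_168_170 (c : Nat) : Nat := @Bool.rec (fun _ => Nat) (col6_168) (col6_169) (Nat.ble 169 c)
noncomputable def col6_s_167_170 (c : Nat) : Nat := @Bool.rec (fun _ => Nat) (col6_167) (col6_s_168_170 c) (Nat.ble 168 c)
noncomputable def col6_s_164_170 (c : Nat) : Nat := @Bool.rec (fun _ => Nat) (col6_s_164_167 c) (col6_s_167_170 c) (Nat.ble 167 c)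
noncomputable def col6_s_171_173 (c : Nat) : Nat := @Bool.rec (fun _ => Nat) (col6_171) (col6_172) (Nat.ble 172 c)
noncomputable def col6_s_170_173 (c : Nat) : Nat := @Bool.rec (fun _ => Nat) (col6_170) (col6_s_171_173 c) (Nat.ble 171 c)
noncomputable def col6_s_174_176 (c : Nat) : Nat := @Bool.rec (fun _ => Nat) (col6_174) (col6_175) (Nat.ble 175 c)
noncomputable def col6_s_173_176 (c : Nat) : Nat := @Bool.rec (fun _ => Nat) (col6_173) (col6_s_174_176 c) (Nat.ble 174 c)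
noncomputable def col6_s_170_176 (c : Nat) : Nat := @Bool.rec (fun _ => Nat) (col6_s_170_173 c) (col6_s_173_176 c) (Nat.ble 173 c)
noncomputable def col6_s_164_176 (c : Nat) : Nat := @Bool.rec (fun _ => Nat) (col6_s_164_170 c) (col6_s_170_176 c) (Nat.ble 170 c)
noncomputable def col6_s_177_179 (c : Nat) : Nat := @Bool.rec (fun _ => Nat) (col6_177) (col6_178) (Nat.ble 178 c)
noncomputable def col6_s_176_179 (c : Nat) : Nat := @Bool.rec (fun _ => Nat) (col6_176) (col6_s_177_179 c) (Nat.ble 177 c)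
noncomputable def col6_s_180_182 (c : Nat) : Nat := @Bool.rec (fun _ => Nat) (col6_180) (col6_181) (Nat.ble 181 c)
noncomputable def col6_s_179_182 (c : Nat) : Nat := @Bool.rec (fun _ => Nat) (col6_179) (col6_s_180_182 c) (Nat.ble 180 c)
noncomputable def col6_s_176_182 (c : Nat) : Nat := @Bool.rec (fun _ => Nat) (col6_s_176_179 c) (col6_s_179_182 c) (Nat.ble 179 c)
noncomputable def col6_s_183_185 (c : Nat) : Nat := @Bool.rec (fun _ => Nat) (col6_183) (col6_184) (Nat.ble 184 c)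
noncomputable def col6_s_182_185 (c : Nat) : Nat := @Bool.rec (fun _ => Nat) (col6_182) (col6_s_183_185 c) (Nat.ble 183 c)
noncomputable def col6_s_186_188 (c : Nat) : Nat := @Bool.rec (fun _ => Nat) (col6_186) (col6_187) (Nat.ble 187 c)
noncomputable def col6_s_185_188 (c : Nat) : Nat := @Bool.rec (fun _ => Nat) (col6_185) (col6_s_186_188 c) (Nat.ble 186 c)
noncomputable def col6_s_182_188 (c : Nat) : Nat := @Bool.rec (fun _ => Nat) (col6_s_182_185 c) (col6_s_185_188 c) (Nat.ble 185 c)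
noncomputable def col6_s_176_188 (c : Nat) : Nat := @Bool.rec (fun _ => Nat) (col6_s_176_182 c) (col6_s_182_188 c) (Nat.ble 182 c)
noncomputable def col6_s_164_188 (c : Nat) : Nat := @Bool.rec (fun _ => Nat) (col6_s_164_176 c) (col6_s_176_188 c) (Nat.ble 176 c)
noncomputable def col6_s_141_188 (c : Nat) : Nat := @Bool.rec (fun _ => Nat) (col6_s_141_164 c) (col6_s_164_188 c) (Nat.ble 164 c)
noncomputable def col6_s_94_188 (c : Nat) : Nat := @Bool.rec (fun _ => Nat) (col6_s_94_141 c) (col6_s_141_188 c) (Nat.ble 141 c)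
noncomputable def col6_s_0_188 (c : Nat) : Nat := @Bool.rec (fun _ => Nat) (col6_s_0_94 c) (col6_s_94_188 c) (Nat.ble 94 c)
noncomputable def col6_s_188_190 (c : Nat) : Nat := @Bool.rec (fun _ => Nat) (col6_188) (col6_189) (Nat.ble 189 c)
noncomputable def col6_s_191_193 (c : Nat) : Nat := @Bool.rec (fun _ => Nat) (col6_191) (col6_192) (Nat.ble 192 c)
noncomputable def col6_s_190_193 (c : Nat) : Nat := @Bool.rec (fun _ => Nat) (col6_190) (col6_s_191_193 c) (Nat.ble 191 c)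
noncomputable def col6_s_188_193 (c : Nat) : Nat := @Bool.rec (fun _ => Nat) (col6_s_188_190 c) (col6_s_190_193 c) (Nat.ble 190 c)
noncomputable def col6_s_194_196 (c : Nat) : Nat := @Bool.rec (fun _ => Nat) (col6_194) (col6_195) (Nat.ble 195 c)
noncomputable def col6_s_193_196 (c : Nat) : Nat := @Bool.rec (fun _ => Nat) (col6_193) (col6_s_194_196 c) (Nat.ble 194 c)
noncomputable def col6_s_197_199 (c : Nat) : Nat := @Bool.rec (fun _ => Nat) (col6_197) (col6_198) (Nat.ble 198 c)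
noncomputable def col6_s_196_199 (c : Nat) : Nat := @Bool.rec (fun _ => Nat) (col6_196) (col6_s_197_199 c) (Nat.ble 197 c)
noncomputable def col6_s_193_199 (c : Nat) : Nat := @Bool.rec (fun _ => Nat) (col6_s_193_196 c) (col6_s_196_199 c) (Nat.ble 196 c)
noncomputable def col6_s_188_199 (c : Nat) : Nat := @Bool.rec (fun _ => Nat) (col6_s_188_193 c) (col6_s_193_199 c) (Nat.ble 193 c)
noncomputable def col6_s_200_202 (c : Nat) : Nat := @Bool.rec (fun _ => Nat) (col6_200) (col6_201) (Nat.ble 201 c)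
noncomputable def col6_s_199_202 (c : Nat) : Nat := @Bool.rec (fun _ => Nat) (col6_199) (col6_s_200_202 c) (Nat.ble 200 c)
noncomputable def col6_s_203_205 (c : Nat) : Nat := @Bool.rec (fun _ => Nat) (col6_203) (col6_204) (Nat.ble 204 c)
noncomputable def col6_s_202_205 (c : Nat) : Nat := @Bool.rec (fun _ => Nat) (col6_202) (col6_s_203_205 c) (Nat.ble 203 c)
noncomputable def col6_s_199_205 (c : Nat) : Nat := @Bool.rec (fun _ => Nat) (col6_s_199_202 c) (col6_s_202_205 c) (Nat.ble 202 c)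
noncomputable def col6_s_206_208 (c : Nat) : Nat := @Bool.rec (fun _ => Nat) (col6_206) (col6_207) (Nat.ble 207 c)
noncomputable def col6_s_205_208 (c : Nat) : Nat := @Bool.rec (fun _ => Nat) (col6_205) (col6_s_206_208 c) (Nat.ble 206 c)
noncomputable def col6_s_209_211 (c : Nat) : Nat := @Bool.rec (fun _ => Nat) (col6_209) (col6_210) (Nat.ble 210 c)
noncomputable def col6_s_208_211 (c : Nat) : Nat := @Bool.rec (fun _ => Nat) (col6_208) (col6_s_209_211 c) (Nat.ble 209 c)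
noncomputable def col6_s_205_211 (c : Nat) : Nat := @Bool.rec (fun _ => Nat) (col6_s_205_208 c) (col6_s_208_211 c) (Nat.ble 208 c)
noncomputable def col6_s_199_211 (c : Nat) : Nat := @Bool.rec (fun _ => Nat) (col6_s_199_205 c) (col6_s_205_211 c) (Nat.ble 205 c)
noncomputable def col6_s_188_211 (c : Nat) : Nat := @Bool.rec (fun _ => Nat) (col6_s_188_199 c) (col6_s_199_211 c) (Nat.ble 199 c)
noncomputable def col6_s_212_214 (c : Nat) : Nat := @Bool.rec (fun _ => Nat) (col6_212) (col6_213) (Nat.ble 213 c)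
noncomputable def col6_s_211_214 (c : Nat) : Nat := @Bool.rec (fun _ => Nat) (col6_211) (col6_s_212_214 c) (Nat.ble 212 c)
noncomputable def col6_s_215_217 (c : Nat) : Nat := @Bool.rec (fun _ => Nat) (col6_215) (col6_216) (Nat.ble 216 c)
noncomputable def col6_s_214_217 (c : Nat) : Nat := @Bool.rec (fun _ => Nat) (col6_214) (col6_s_215_217 c) (Nat.ble 215 c)
noncomputable def col6_s_211_217 (c : Nat) : Nat := @Bool.rec (fun _ => Nat) (col6_s_211_214 c) (col6_s_214_217 c) (Nat.ble 214 c)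
noncomputable def col6_s_218_220 (c : Nat) : Nat := @Bool.rec (fun _ => Nat) (col6_218) (col6_219) (Nat.ble 219 c)
noncomputable def col6_s_217_220 (c : Nat) : Nat := @Bool.rec (fun _ => Nat) (col6_217) (col6_s_218_220 c) (Nat.ble 218 c)
noncomputable def col6_s_221_223 (c : Nat) : Nat := @Bool.rec (fun _ => Nat) (col6_221) (col6_222) (Nat.ble 222 c)
noncomputable def col6_s_220_223 (c : Nat) : Nat := @Bool.rec (fun _ => Nat) (col6_220) (col6_s_221_223 c) (Nat.ble 221 c)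
noncomputable def col6_s_217_223 (c : Nat) : Nat := @Bool.rec (fun _ => Nat) (col6_s_217_220 c) (col6_s_220_223 c) (Nat.ble 220 c)
noncomputable def col6_s_211_223 (c : Nat) : Nat := @Bool.rec (fun _ => Nat) (col6_s_211_217 c) (col6_s_217_223 c) (Nat.ble 217 c)
noncomputable def col6_s_224_226 (c : Nat) : Nat := @Bool.rec (fun _ => Nat) (col6_224) (col6_225) (Nat.ble 225 c)
noncomputable def col6_s_223_226 (c : Nat) : Nat := @Bool.rec (fun _ => Nat) (col6_223) (col6_s_224_226 c) (Nat.ble 224 c)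
noncomputable def col6_s_227_229 (c : Nat) : Nat := @Bool.rec (fun _ => Nat) (col6_227) (col6_228) (Nat.ble 228 c)
noncomputable def col6_s_226_229 (c : Nat) : Nat := @Bool.rec (fun _ => Nat) (col6_226) (col6_s_227_229 c) (Nat.ble 227 c)
noncomputable def col6_s_223_229 (c : Nat) : Nat := @Bool.rec (fun _ => Nat) (col6_s_223_226 c) (col6_s_226_229 c) (Nat.ble 226 c)
noncomputable def col6_s_230_232 (c : Nat) : Nat := @Bool.rec (fun _ => Nat) (col6_230) (col6_231) (Nat.ble 231 c)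
noncomputable def col6_s_229_232 (c : Nat) : Nat := @Bool.rec (fun _ => Nat) (col6_229) (col6_s_230_232 c) (Nat.ble 230 c)
noncomputable def col6_s_233_235 (c : Nat) : Nat := @Bool.rec (fun _ => Nat) (col6_233) (col6_234) (Nat.ble 234 c)
noncomputable def col6_s_232_235 (c : Nat) : Nat := @Bool.rec (fun _ => Nat) (col6_232) (col6_s_233_235 c) (Nat.ble 233 c)
noncomputable def col6_s_229_235 (c : Nat) : Nat := @Bool.rec (fun _ => Nat) (col6_s_229_232 c) (col6_s_232_235 c) (Nat.ble 232 c)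
noncomputable def col6_s_223_235 (c : Nat) : Nat := @Bool.rec (fun _ => Nat) (col6_s_223_229 c) (col6_s_229_235 c) (Nat.ble 229 c)
noncomputable def col6_s_211_235 (c : Nat) : Nat := @Bool.rec (fun _ => Nat) (col6_s_211_223 c) (col6_s_223_235 c) (Nat.ble 223 c)
noncomputable def col6_s_188_235 (c : Nat) : Nat := @Bool.rec (fun _ => Nat) (col6_s_188_211 c) (col6_s_211_235 c) (Nat.ble 211 c)
noncomputable def col6_s_235_237 (c : Nat) : Nat := @Bool.rec (fun _ => Nat) (col6_235) (col6_236) (Nat.ble 236 c)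
noncomputable def col6_s_238_240 (c : Nat) : Nat := @Bool.rec (fun _ => Nat) (col6_238) (col6_239) (Nat.ble 239 c)
noncomputable def col6_s_237_240 (c : Nat) : Nat := @Bool.rec (fun _ => Nat) (col6_237) (col6_s_238_240 c) (Nat.ble 238 c)
noncomputable def col6_s_235_240 (c : Nat) : Nat := @Bool.rec (fun _ => Nat) (col6_s_235_237 c) (col6_s_237_240 c) (Nat.ble 237 c)
noncomputable def col6_s_241_243 (c : Nat) : Nat := @Bool.rec (fun _ => Nat) (col6_241) (col6_242) (Nat.ble 242 c)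
noncomputable def col6_s_240_243 (c : Nat) : Nat := @Bool.rec (fun _ => Nat) (col6_240) (col6_s_241_243 c) (Nat.ble 241 c)
noncomputable def col6_s_244_246 (c : Nat) : Nat := @Bool.rec (fun _ => Nat) (col6_244) (col6_245) (Nat.ble 245 c)
noncomputable def col6_s_243_246 (c : Nat) : Nat := @Bool.rec (fun _ => Nat) (col6_243) (col6_s_244_246 c) (Nat.ble 244 c)
noncomputable def col6_s_240_246 (c : Nat) : Nat := @Bool.rec (fun _ => Nat) (col6_s_240_243 c) (col6_s_243_246 c) (Nat.ble 243 c)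
noncomputable def col6_s_235_246 (c : Nat) : Nat := @Bool.rec (fun _ => Nat) (col6_s_235_240 c) (col6_s_240_246 c) (Nat.ble 240 c)
noncomputable def col6_s_247_249 (c : Nat) : Nat := @Bool.rec (fun _ => Nat) (col6_247) (col6_248) (Nat.ble 248 c)
noncomputable def col6_s_246_249 (c : Nat) : Nat := @Bool.rec (fun _ => Nat) (col6_246) (col6_s_247_249 c) (Nat.ble 247 c)
noncomputable def col6_s_250_252 (c : Nat) : Nat := @Bool.rec (fun _ => Nat) (col6_250) (col6_251) (Nat.ble 251 c)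
noncomputable def col6_s_249_252 (c : Nat) : Nat := @Bool.rec (fun _ => Nat) (col6_249) (col6_s_250_252 c) (Nat.ble 250 c)
noncomputable def col6_s_246_252 (c : Nat) : Nat := @Bool.rec (fun _ => Nat) (col6_s_246_249 c) (col6_s_249_252 c) (Nat.ble 249 c)
noncomputable def col6_s_253_255 (c : Nat) : Nat := @Bool.rec (fun _ => Nat) (col6_253) (col6_254) (Nat.ble 254 c)
noncomputable def col6_s_252_255 (c : Nat) : Nat := @Bool.rec (fun _ => Nat) (col6_252) (col6_s_253_255 c) (Nat.ble 253 c)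
noncomputable def col6_s_256_258 (c : Nat) : Nat := @Bool.rec (fun _ => Nat) (col6_256) (col6_257) (Nat.ble 257 c)
noncomputable def col6_s_255_258 (c : Nat) : Nat := @Bool.rec (fun _ => Nat) (col6_255) (col6_s_256_258 c) (Nat.ble 256 c)
noncomputable def col6_s_252_258 (c : Nat) : Nat := @Bool.rec (fun _ => Nat) (col6_s_252_255 c) (col6_s_255_258 c) (Nat.ble 255 c)
noncomputable def col6_s_246_258 (c : Nat) : Nat := @Bool.rec (fun _ => Nat) (col6_s_246_252 c) (col6_s_252_258 c) (Nat.ble 252 c)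
noncomputable def col6_s_235_258 (c : Nat) : Nat := @Bool.rec (fun _ => Nat) (col6_s_235_246 c) (col6_s_246_258 c) (Nat.ble 246 c)
noncomputable def col6_s_259_261 (c : Nat) : Nat := @Bool.rec (fun _ => Nat) (col6_259) (col6_260) (Nat.ble 260 c)
noncomputable def col6_s_258_261 (c : Nat) : Nat := @Bool.rec (fun _ => Nat) (col6_258) (col6_s_259_261 c) (Nat.ble 259 c)
noncomputable def col6_s_262_264 (c : Nat) : Nat := @Bool.rec (fun _ => Nat) (col6_262) (col6_263) (Nat.ble 263 c)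
noncomputable def col6_s_261_264 (c : Nat) : Nat := @Bool.rec (fun _ => Nat) (col6_261) (col6_s_262_264 c) (Nat.ble 262 c)
noncomputable def col6_s_258_264 (c : Nat) : Nat := @Bool.rec (fun _ => Nat) (col6_s_258_261 c) (col6_s_261_264 c) (Nat.ble 261 c)
noncomputable def col6_s_265_267 (c : Nat) : Nat := @Bool.rec (fun _ => Nat) (col6_265) (col6_266) (Nat.ble 266 c)
noncomputable def col6_s_264_267 (c : Nat) : Nat := @Bool.rec (fun _ => Nat) (col6_264) (col6_s_265_267 c) (Nat.ble 265 c)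
noncomputable def col6_s_268_270 (c : Nat) : Nat := @Bool.rec (fun _ => Nat) (col6_268) (col6_269) (Nat.ble 269 c)
noncomputable def col6_s_267_270 (c : Nat) : Nat := @Bool.rec (fun _ => Nat) (col6_267) (col6_s_268_270 c) (Nat.ble 268 c)
noncomputable def col6_s_264_270 (c : Nat) : Nat := @Bool.rec (fun _ => Nat) (col6_s_264_267 c) (col6_s_267_270 c) (Nat.ble 267 c)
noncomputable def col6_s_258_270 (c : Nat) : Nat := @Bool.rec (fun _ => Nat) (col6_s_258_264 c) (col6_s_264_270 c) (Nat.ble 264 c)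
noncomputable def col6_s_271_273 (c : Nat) : Nat := @Bool.rec (fun _ => Nat) (col6_271) (col6_272) (Nat.ble 272 c)
noncomputable def col6_s_270_273 (c : Nat) : Nat := @Bool.rec (fun _ => Nat) (col6_270) (col6_s_271_273 c) (Nat.ble 271 c)
noncomputable def col6_s_274_276 (c : Nat) : Nat := @Bool.rec (fun _ => Nat) (col6_274) (col6_275) (Nat.ble 275 c)
noncomputable def col6_s_273_276 (c : Nat) : Nat := @Bool.rec (fun _ => Nat) (col6_273) (col6_s_274_276 c) (Nat.ble 274 c)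
noncomputable def col6_s_270_276 (c : Nat) : Nat := @Bool.rec (fun _ => Nat) (col6_s_270_273 c) (col6_s_273_276 c) (Nat.ble 273 c)
noncomputable def col6_s_277_279 (c : Nat) : Nat := @Bool.rec (fun _ => Nat) (col6_277) (col6_278) (Nat.ble 278 c)
noncomputable def col6_s_276_279 (c : Nat) : Nat := @Bool.rec (fun _ => Nat) (col6_276) (col6_s_277_279 c) (Nat.ble 277 c)
noncomputable def col6_s_280_282 (c : Nat) : Nat := @Bool.rec (fun _ => Nat) (col6_280) (col6_281) (Nat.ble 281 c)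
noncomputable def col6_s_279_282 (c : Nat) : Nat := @Bool.rec (fun _ => Nat) (col6_279) (col6_s_280_282 c) (Nat.ble 280 c)
noncomputable def col6_s_276_282 (c : Nat) : Nat := @Bool.rec (fun _ => Nat) (col6_s_276_279 c) (col6_s_279_282 c) (Nat.ble 279 c)
noncomputable def col6_s_270_282 (c : Nat) : Nat := @Bool.rec (fun _ => Nat) (col6_s_270_276 c) (col6_s_276_282 c) (Nat.ble 276 c)
noncomputable def col6_s_258_282 (c : Nat) : Nat := @Bool.rec (fun _ => Nat) (col6_s_258_270 c) (col6_s_270_282 c) (Nat.ble 270 c)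
noncomputable def col6_s_235_282 (c : Nat) : Nat := @Bool.rec (fun _ => Nat) (col6_s_235_258 c) (col6_s_258_282 c) (Nat.ble 258 c)
noncomputable def col6_s_188_282 (c : Nat) : Nat := @Bool.rec (fun _ => Nat) (col6_s_188_235 c) (col6_s_235_282 c) (Nat.ble 235 c)
noncomputable def col6_s_282_284 (c : Nat) : Nat := @Bool.rec (fun _ => Nat) (col6_282) (col6_283) (Nat.ble 283 c)
noncomputable def col6_s_285_287 (c : Nat) : Nat := @Bool.rec (fun _ => Nat) (col6_285) (col6_286) (Nat.ble 286 c)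
noncomputable def col6_s_284_287 (c : Nat) : Nat := @Bool.rec (fun _ => Nat) (col6_284) (col6_s_285_287 c) (Nat.ble 285 c)
noncomputable def col6_s_282_287 (c : Nat) : Nat := @Bool.rec (fun _ => Nat) (col6_s_282_284 c) (col6_s_284_287 c) (Nat.ble 284 c)
noncomputable def col6_s_288_290 (c : Nat) : Nat := @Bool.rec (fun _ => Nat) (col6_288) (col6_289) (Nat.ble 289 c)
noncomputable def col6_s_287_290 (c : Nat) : Nat := @Bool.rec (fun _ => Nat) (col6_287) (col6_s_288_290 c) (Nat.ble 288 c)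
noncomputable def col6_s_291_293 (c : Nat) : Nat := @Bool.rec (fun _ => Nat) (col6_291) (col6_292) (Nat.ble 292 c)
noncomputable def col6_s_290_293 (c : Nat) : Nat := @Bool.rec (fun _ => Nat) (col6_290) (col6_s_291_293 c) (Nat.ble 291 c)
noncomputable def col6_s_287_293 (c : Nat) : Nat := @Bool.rec (fun _ => Nat) (col6_s_287_290 c) (col6_s_290_293 c) (Nat.ble 290 c)
noncomputable def col6_s_282_293 (c : Nat) : Nat := @Bool.rec (fun _ => Nat) (col6_s_282_287 c) (col6_s_287_293 c) (Nat.ble 287 c)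
noncomputable def col6_s_294_296 (c : Nat) : Nat := @Bool.rec (fun _ => Nat) (col6_294) (col6_295) (Nat.ble 295 c)
noncomputable def col6_s_293_296 (c : Nat) : Nat := @Bool.rec (fun _ => Nat) (col6_293) (col6_s_294_296 c) (Nat.ble 294 c)
noncomputable def col6_s_297_299 (c : Nat) : Nat := @Bool.rec (fun _ => Nat) (col6_297) (col6_298) (Nat.ble 298 c)
noncomputable def col6_s_296_299 (c : Nat) : Nat := @Bool.rec (fun _ => Nat) (col6_296) (col6_s_297_299 c) (Nat.ble 297 c)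
noncomputable def col6_s_293_299 (c : Nat) : Nat := @Bool.rec (fun _ => Nat) (col6_s_293_296 c) (col6_s_296_299 c) (Nat.ble 296 c)
noncomputable def col6_s_300_302 (c : Nat) : Nat := @Bool.rec (fun _ => Nat) (col6_300) (col6_301) (Nat.ble 301 c)
noncomputable def col6_s_299_302 (c : Nat) : Nat := @Bool.rec (fun _ => Nat) (col6_299) (col6_s_300_302 c) (Nat.ble 300 c)
noncomputable def col6_s_303_305 (c : Nat) : Nat := @Bool.rec (fun _ => Nat) (col6_303) (col6_304) (Nat.ble 304 c)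
noncomputable def col6_s_302_305 (c : Nat) : Nat := @Bool.rec (fun _ => Nat) (col6_302) (col6_s_303_305 c) (Nat.ble 303 c)
noncomputable def col6_s_299_305 (c : Nat) : Nat := @Bool.rec (fun _ => Nat) (col6_s_299_302 c) (col6_s_302_305 c) (Nat.ble 302 c)
noncomputable def col6_s_293_305 (c : Nat) : Nat := @Bool.rec (fun _ => Nat) (col6_s_293_299 c) (col6_s_299_305 c) (Nat.ble 299 c)
noncomputable def col6_s_282_305 (c : Nat) : Nat := @Bool.rec (fun _ => Nat) (col6_s_282_293 c) (col6_s_293_305 c) (Nat.ble 293 c)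
noncomputable def col6_s_306_308 (c : Nat) : Nat := @Bool.rec (fun _ => Nat) (col6_306) (col6_307) (Nat.ble 307 c)
noncomputable def col6_s_305_308 (c : Nat) : Nat := @Bool.rec (fun _ => Nat) (col6_305) (col6_s_306_308 c) (Nat.ble 306 c)
noncomputable def col6_s_309_311 (c : Nat) : Nat := @Bool.rec (fun _ => Nat) (col6_309) (col6_310) (Nat.ble 310 c)
noncomputable def col6_s_308_311 (c : Nat) : Nat := @Bool.rec (fun _ => Nat) (col6_308) (col6_s_309_311 c) (Nat.ble 309 c)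
noncomputable def col6_s_305_311 (c : Nat) : Nat := @Bool.rec (fun _ => Nat) (col6_s_305_308 c) (col6_s_308_311 c) (Nat.ble 308 c)
noncomputable def col6_s_312_314 (c : Nat) : Nat := @Bool.rec (fun _ => Nat) (col6_312) (col6_313) (Nat.ble 313 c)
noncomputable def col6_s_311_314 (c : Nat) : Nat := @Bool.rec (fun _ => Nat) (col6_311) (col6_s_312_314 c) (Nat.ble 312 c)
noncomputable def col6_s_315_317 (c : Nat) : Nat := @Bool.rec (fun _ => Nat) (col6_315) (col6_316) (Nat.ble 316 c)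
noncomputable def col6_s_314_317 (c : Nat) : Nat := @Bool.rec (fun _ => Nat) (col6_314) (col6_s_315_317 c) (Nat.ble 315 c)
noncomputable def col6_s_311_317 (c : Nat) : Nat := @Bool.rec (fun _ => Nat) (col6_s_311_314 c) (col6_s_314_317 c) (Nat.ble 314 c)
noncomputable def col6_s_305_317 (c : Nat) : Nat := @Bool.rec (fun _ => Nat) (col6_s_305_311 c) (col6_s_311_317 c) (Nat.ble 311 c)
noncomputable def col6_s_318_320 (c : Nat) : Nat := @Bool.rec (fun _ => Nat) (col6_318) (col6_319) (Nat.ble 319 c)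
noncomputable def col6_s_317_320 (c : Nat) : Nat := @Bool.rec (fun _ => Nat) (col6_317) (col6_s_318_320 c) (Nat.ble 318 c)
noncomputable def col6_s_321_323 (c : Nat) : Nat := @Bool.rec (fun _ => Nat) (col6_321) (col6_322) (Nat.ble 322 c)
noncomputable def col6_s_320_323 (c : Nat) : Nat := @Bool.rec (fun _ => Nat) (col6_320) (col6_s_321_323 c) (Nat.ble 321 c)
noncomputable def col6_s_317_323 (c : Nat) : Nat := @Bool.rec (fun _ => Nat) (col6_s_317_320 c) (col6_s_320_323 c) (Nat.ble 320 c)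
noncomputable def col6_s_324_326 (c : Nat) : Nat := @Bool.rec (fun _ => Nat) (col6_324) (col6_325) (Nat.ble 325 c)
noncomputable def col6_s_323_326 (c : Nat) : Nat := @Bool.rec (fun _ => Nat) (col6_323) (col6_s_324_326 c) (Nat.ble 324 c)
noncomputable def col6_s_327_329 (c : Nat) : Nat := @Bool.rec (fun _ => Nat) (col6_327) (col6_328) (Nat.ble 328 c)
noncomputable def col6_s_326_329 (c : Nat) : Nat := @Bool.rec (fun _ => Nat) (col6_326) (col6_s_327_329 c) (Nat.ble 327 c)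
noncomputable def col6_s_323_329 (c : Nat) : Nat := @Bool.rec (fun _ => Nat) (col6_s_323_326 c) (col6_s_326_329 c) (Nat.ble 326 c)
noncomputable def col6_s_317_329 (c : Nat) : Nat := @Bool.rec (fun _ => Nat) (col6_s_317_323 c) (col6_s_323_329 c) (Nat.ble 323 c)
noncomputable def col6_s_305_329 (c : Nat) : Nat := @Bool.rec (fun _ => Nat) (col6_s_305_317 c) (col6_s_317_329 c) (Nat.ble 317 c)
noncomputable def col6_s_282_329 (c : Nat) : Nat := @Bool.rec (fun _ => Nat) (col6_s_282_305 c) (col6_s_305_329 c) (Nat.ble 305 c)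
noncomputable def col6_s_329_331 (c : Nat) : Nat := @Bool.rec (fun _ => Nat) (col6_329) (col6_330) (Nat.ble 330 c)
noncomputable def col6_s_332_334 (c : Nat) : Nat := @Bool.rec (fun _ => Nat) (col6_332) (col6_333) (Nat.ble 333 c)
noncomputable def col6_s_331_334 (c : Nat) : Nat := @Bool.rec (fun _ => Nat) (col6_331) (col6_s_332_334 c) (Nat.ble 332 c)
noncomputable def col6_s_329_334 (c : Nat) : Nat := @Bool.rec (fun _ => Nat) (col6_s_329_331 c) (col6_s_331_334 c) (Nat.ble 331 c)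
noncomputable def col6_s_335_337 (c : Nat) : Nat := @Bool.rec (fun _ => Nat) (col6_335) (col6_336) (Nat.ble 336 c)
noncomputable def col6_s_334_337 (c : Nat) : Nat := @Bool.rec (fun _ => Nat) (col6_334) (col6_s_335_337 c) (Nat.ble 335 c)
noncomputable def col6_s_338_340 (c : Nat) : Nat := @Bool.rec (fun _ => Nat) (col6_338) (col6_339) (Nat.ble 339 c)
noncomputable def col6_s_337_340 (c : Nat) : Nat := @Bool.rec (fun _ => Nat) (col6_337) (col6_s_338_340 c) (Nat.ble 338 c)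
noncomputable def col6_s_334_340 (c : Nat) : Nat := @Bool.rec (fun _ => Nat) (col6_s_334_337 c) (col6_s_337_340 c) (Nat.ble 337 c)
noncomputable def col6_s_329_340 (c : Nat) : Nat := @Bool.rec (fun _ => Nat) (col6_s_329_334 c) (col6_s_334_340 c) (Nat.ble 334 c)
noncomputable def col6_s_341_343 (c : Nat) : Nat := @Bool.rec (fun _ => Nat) (col6_341) (col6_342) (Nat.ble 342 c)
noncomputable def col6_s_340_343 (c : Nat) : Nat := @Bool.rec (fun _ => Nat) (col6_340) (col6_s_341_343 c) (Nat.ble 341 c)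
noncomputable def col6_s_344_346 (c : Nat) : Nat := @Bool.rec (fun _ => Nat) (col6_344) (col6_345) (Nat.ble 345 c)
noncomputable def col6_s_343_346 (c : Nat) : Nat := @Bool.rec (fun _ => Nat) (col6_343) (col6_s_344_346 c) (Nat.ble 344 c)
noncomputable def col6_s_340_346 (c : Nat) : Nat := @Bool.rec (fun _ => Nat) (col6_s_340_343 c) (col6_s_343_346 c) (Nat.ble 343 c)
noncomputable def col6_s_347_349 (c : Nat) : Nat := @Bool.rec (fun _ => Nat) (col6_347) (col6_348) (Nat.ble 348 c)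
noncomputable def col6_s_346_349 (c : Nat) : Nat := @Bool.rec (fun _ => Nat) (col6_346) (col6_s_347_349 c) (Nat.ble 347 c)
noncomputable def col6_s_350_352 (c : Nat) : Nat := @Bool.rec (fun _ => Nat) (col6_350) (col6_351) (Nat.ble 351 c)
noncomputable def col6_s_349_352 (c : Nat) : Nat := @Bool.rec (fun _ => Nat) (col6_349) (col6_s_350_352 c) (Nat.ble 350 c)
noncomputable def col6_s_346_352 (c : Nat) : Nat := @Bool.rec (fun _ => Nat) (col6_s_346_349 c) (col6_s_349_352 c) (Nat.ble 349 c)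
noncomputable def col6_s_340_352 (c : Nat) : Nat := @Bool.rec (fun _ => Nat) (col6_s_340_346 c) (col6_s_346_352 c) (Nat.ble 346 c)
noncomputable def col6_s_329_352 (c : Nat) : Nat := @Bool.rec (fun _ => Nat) (col6_s_329_340 c) (col6_s_340_352 c) (Nat.ble 340 c)
noncomputable def col6_s_353_355 (c : Nat) : Nat := @Bool.rec (fun _ => Nat) (col6_353) (col6_354) (Nat.ble 354 c)
noncomputable def col6_s_352_355 (c : Nat) : Nat := @Bool.rec (fun _ => Nat) (col6_352) (col6_s_353_355 c) (Nat.ble 353 c)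
noncomputable def col6_s_356_358 (c : Nat) : Nat := @Bool.rec (fun _ => Nat) (col6_356) (col6_357) (Nat.ble 357 c)
noncomputable def col6_s_355_358 (c : Nat) : Nat := @Bool.rec (fun _ => Nat) (col6_355) (col6_s_356_358 c) (Nat.ble 356 c)
noncomputable def col6_s_352_358 (c : Nat) : Nat := @Bool.rec (fun _ => Nat) (col6_s_352_355 c) (col6_s_355_358 c) (Nat.ble 355 c)
noncomputable def col6_s_359_361 (c : Nat) : Nat := @Bool.rec (fun _ => Nat) (col6_359) (col6_360) (Nat.ble 360 c)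
noncomputable def col6_s_358_361 (c : Nat) : Nat := @Bool.rec (fun _ => Nat) (col6_358) (col6_s_359_361 c) (Nat.ble 359 c)
noncomputable def col6_s_362_364 (c : Nat) : Nat := @Bool.rec (fun _ => Nat) (col6_362) (col6_363) (Nat.ble 363 c)
noncomputable def col6_s_361_364 (c : Nat) : Nat := @Bool.rec (fun _ => Nat) (col6_361) (col6_s_362_364 c) (Nat.ble 362 c)
noncomputable def col6_s_358_364 (c : Nat) : Nat := @Bool.rec (fun _ => Nat) (col6_s_358_361 c) (col6_s_361_364 c) (Nat.ble 361 c)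
noncomputable def col6_s_352_364 (c : Nat) : Nat := @Bool.rec (fun _ => Nat) (col6_s_352_358 c) (col6_s_358_364 c) (Nat.ble 358 c)
noncomputable def col6_s_365_367 (c : Nat) : Nat := @Bool.rec (fun _ => Nat) (col6_365) (col6_366) (Nat.ble 366 c)
noncomputable def col6_s_364_367 (c : Nat) : Nat := @Bool.rec (fun _ => Nat) (col6_364) (col6_s_365_367 c) (Nat.ble 365 c)
noncomputable def col6_s_368_370 (c : Nat) : Nat := @Bool.rec (fun _ => Nat) (col6_368) (col6_369) (Nat.ble 369 c)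
noncomputable def col6_s_367_370 (c : Nat) : Nat := @Bool.rec (fun _ => Nat) (col6_367) (col6_s_368_370 c) (Nat.ble 368 c)
noncomputable def col6_s_364_370 (c : Nat) : Nat := @Bool.rec (fun _ => Nat) (col6_s_364_367 c) (col6_s_367_370 c) (Nat.ble 367 c)
noncomputable def col6_s_371_373 (c : Nat) : Nat := @Bool.rec (fun _ => Nat) (col6_371) (col6_372) (Nat.ble 372 c)
noncomputable def col6_s_370_373 (c : Nat) : Nat := @Bool.rec (fun _ => Nat) (col6_370) (col6_s_371_373 c) (Nat.ble 371 c)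
noncomputable def col6_s_374_376 (c : Nat) : Nat := @Bool.rec (fun _ => Nat) (col6_374) (col6_375) (Nat.ble 375 c)
noncomputable def col6_s_373_376 (c : Nat) : Nat := @Bool.rec (fun _ => Nat) (col6_373) (col6_s_374_376 c) (Nat.ble 374 c)
noncomputable def col6_s_370_376 (c : Nat) : Nat := @Bool.rec (fun _ => Nat) (col6_s_370_373 c) (col6_s_373_376 c) (Nat.ble 373 c)
noncomputable def col6_s_364_376 (c : Nat) : Nat := @Bool.rec (fun _ => Nat) (col6_s_364_370 c) (col6_s_370_376 c) (Nat.ble 370 c)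
noncomputable def col6_s_352_376 (c : Nat) : Nat := @Bool.rec (fun _ => Nat) (col6_s_352_364 c) (col6_s_364_376 c) (Nat.ble 364 c)
noncomputable def col6_s_329_376 (c : Nat) : Nat := @Bool.rec (fun _ => Nat) (col6_s_329_352 c) (col6_s_352_376 c) (Nat.ble 352 c)
noncomputable def col6_s_282_376 (c : Nat) : Nat := @Bool.rec (fun _ => Nat) (col6_s_282_329 c) (col6_s_329_376 c) (Nat.ble 329 c)
noncomputable def col6_s_188_376 (c : Nat) : Nat := @Bool.rec (fun _ => Nat) (col6_s_188_282 c) (col6_s_282_376 c) (Nat.ble 282 c)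
noncomputable def col6_s_0_376 (c : Nat) : Nat := @Bool.rec (fun _ => Nat) (col6_s_0_188 c) (col6_s_188_376 c) (Nat.ble 188 c)
noncomputable def col6 (i : Nat) : Nat := rdw 21 2097151 (col6_s_0_376 (Nat.shiftRight i 12)) (Nat.land i 4095)
noncomputable def col7_s_0_2 (c : Nat) : Nat := @Bool.rec (fun _ => Nat) (col7_0) (col7_1) (Nat.ble 1 c)
noncomputable def col7_s_3_5 (c : Nat) : Nat := @Bool.rec (fun _ => Nat) (col7_3) (col7_4) (Nat.ble 4 c)
noncomputable def col7_s_2_5 (c : Nat) : Nat := @Bool.rec (fun _ => Nat) (col7_2) (col7_s_3_5 c) (Nat.ble 3 c)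
noncomputable def col7_s_0_5 (c : Nat) : Nat := @Bool.rec (fun _ => Nat) (col7_s_0_2 c) (col7_s_2_5 c) (Nat.ble 2 c)
noncomputable def col7_s_6_8 (c : Nat) : Nat := @Bool.rec (fun _ => Nat) (col7_6) (col7_7) (Nat.ble 7 c)
noncomputable def col7_s_5_8 (c : Nat) : Nat := @Bool.rec (fun _ => Nat) (col7_5) (col7_s_6_8 c) (Nat.ble 6 c)
noncomputable def col7_s_9_11 (c : Nat) : Nat := @Bool.rec (fun _ => Nat) (col7_9) (col7_10) (Nat.ble 10 c)
noncomputable def col7_s_8_11 (c : Nat) : Nat := @Bool.rec (fun _ => Nat) (col7_8) (col7_s_9_11 c) (Nat.ble 9 c)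
noncomputable def col7_s_5_11 (c : Nat) : Nat := @Bool.rec (fun _ => Nat) (col7_s_5_8 c) (col7_s_8_11 c) (Nat.ble 8 c)
noncomputable def col7_s_0_11 (c : Nat) : Nat := @Bool.rec (fun _ => Nat) (col7_s_0_5 c) (col7_s_5_11 c) (Nat.ble 5 c)
noncomputable def col7_s_12_14 (c : Nat) : Nat := @Bool.rec (fun _ => Nat) (col7_12) (col7_13) (Nat.ble 13 c)
noncomputable def col7_s_11_14 (c : Nat) : Nat := @Bool.rec (fun _ => Nat) (col7_11) (col7_s_12_14 c) (Nat.ble 12 c)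
noncomputable def col7_s_15_17 (c : Nat) : Nat := @Bool.rec (fun _ => Nat) (col7_15) (col7_16) (Nat.ble 16 c)
noncomputable def col7_s_14_17 (c : Nat) : Nat := @Bool.rec (fun _ => Nat) (col7_14) (col7_s_15_17 c) (Nat.ble 15 c)
noncomputable def col7_s_11_17 (c : Nat) : Nat := @Bool.rec (fun _ => Nat) (col7_s_11_14 c) (col7_s_14_17 c) (Nat.ble 14 c)
noncomputable def col7_s_18_20 (c : Nat) : Nat := @Bool.rec (fun _ => Nat) (col7_18) (col7_19) (Nat.ble 19 c)
noncomputable def col7_s_17_20 (c : Nat) : Nat := @Bool.rec (fun _ => Nat) (col7_17) (col7_s_18_20 c) (Nat.ble 18 c)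
noncomputable def col7_s_21_23 (c : Nat) : Nat := @Bool.rec (fun _ => Nat) (col7_21) (col7_22) (Nat.ble 22 c)
noncomputable def col7_s_20_23 (c : Nat) : Nat := @Bool.rec (fun _ => Nat) (col7_20) (col7_s_21_23 c) (Nat.ble 21 c)
noncomputable def col7_s_17_23 (c : Nat) : Nat := @Bool.rec (fun _ => Nat) (col7_s_17_20 c) (col7_s_20_23 c) (Nat.ble 20 c)
noncomputable def col7_s_11_23 (c : Nat) : Nat := @Bool.rec (fun _ => Nat) (col7_s_11_17 c) (col7_s_17_23 c) (Nat.ble 17 c)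
noncomputable def col7_s_0_23 (c : Nat) : Nat := @Bool.rec (fun _ => Nat) (col7_s_0_11 c) (col7_s_11_23 c) (Nat.ble 11 c)
noncomputable def col7_s_24_26 (c : Nat) : Nat := @Bool.rec (fun _ => Nat) (col7_24) (col7_25) (Nat.ble 25 c)
noncomputable def col7_s_23_26 (c : Nat) : Nat := @Bool.rec (fun _ => Nat) (col7_23) (col7_s_24_26 c) (Nat.ble 24 c)
noncomputable def col7_s_27_29 (c : Nat) : Nat := @Bool.rec (fun _ => Nat) (col7_27) (col7_28) (Nat.ble 28 c)
noncomputable def col7_s_26_29 (c : Nat) : Nat := @Bool.rec (fun _ => Nat) (col7_26) (col7_s_27_29 c) (Nat.ble 27 c)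
noncomputable def col7_s_23_29 (c : Nat) : Nat := @Bool.rec (fun _ => Nat) (col7_s_23_26 c) (col7_s_26_29 c) (Nat.ble 26 c)
noncomputable def col7_s_30_32 (c : Nat) : Nat := @Bool.rec (fun _ => Nat) (col7_30) (col7_31) (Nat.ble 31 c)
noncomputable def col7_s_29_32 (c : Nat) : Nat := @Bool.rec (fun _ => Nat) (col7_29) (col7_s_30_32 c) (Nat.ble 30 c)
noncomputable def col7_s_33_35 (c : Nat) : Nat := @Bool.rec (fun _ => Nat) (col7_33) (col7_34) (Nat.ble 34 c)
noncomputable def col7_s_32_35 (c : Nat) : Nat := @Bool.rec (fun _ => Nat) (col7_32) (col7_s_33_35 c) (Nat.ble 33 c)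
noncomputable def col7_s_29_35 (c : Nat) : Nat := @Bool.rec (fun _ => Nat) (col7_s_29_32 c) (col7_s_32_35 c) (Nat.ble 32 c)
noncomputable def col7_s_23_35 (c : Nat) : Nat := @Bool.rec (fun _ => Nat) (col7_s_23_29 c) (col7_s_29_35 c) (Nat.ble 29 c)
noncomputable def col7_s_36_38 (c : Nat) : Nat := @Bool.rec (fun _ => Nat) (col7_36) (col7_37) (Nat.ble 37 c)
noncomputable def col7_s_35_38 (c : Nat) : Nat := @Bool.rec (fun _ => Nat) (col7_35) (col7_s_36_38 c) (Nat.ble 36 c)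
noncomputable def col7_s_39_41 (c : Nat) : Nat := @Bool.rec (fun _ => Nat) (col7_39) (col7_40) (Nat.ble 40 c)
noncomputable def col7_s_38_41 (c : Nat) : Nat := @Bool.rec (fun _ => Nat) (col7_38) (col7_s_39_41 c) (Nat.ble 39 c)
noncomputable def col7_s_35_41 (c : Nat) : Nat := @Bool.rec (fun _ => Nat) (col7_s_35_38 c) (col7_s_38_41 c) (Nat.ble 38 c)
noncomputable def col7_s_42_44 (c : Nat) : Nat := @Bool.rec (fun _ => Nat) (col7_42) (col7_43) (Nat.ble 43 c)
noncomputable def col7_s_41_44 (c : Nat) : Nat := @Bool.rec (fun _ => Nat) (col7_41) (col7_s_42_44 c) (Nat.ble 42 c)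
noncomputable def col7_s_45_47 (c : Nat) : Nat := @Bool.rec (fun _ => Nat) (col7_45) (col7_46) (Nat.ble 46 c)
noncomputable def col7_s_44_47 (c : Nat) : Nat := @Bool.rec (fun _ => Nat) (col7_44) (col7_s_45_47 c) (Nat.ble 45 c)
noncomputable def col7_s_41_47 (c : Nat) : Nat := @Bool.rec (fun _ => Nat) (col7_s_41_44 c) (col7_s_44_47 c) (Nat.ble 44 c)
noncomputable def col7_s_35_47 (c : Nat) : Nat := @Bool.rec (fun _ => Nat) (col7_s_35_41 c) (col7_s_41_47 c) (Nat.ble 41 c)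
noncomputable def col7_s_23_47 (c : Nat) : Nat := @Bool.rec (fun _ => Nat) (col7_s_23_35 c) (col7_s_35_47 c) (Nat.ble 35 c)
noncomputable def col7_s_0_47 (c : Nat) : Nat := @Bool.rec (fun _ => Nat) (col7_s_0_23 c) (col7_s_23_47 c) (Nat.ble 23 c)
noncomputable def col7_s_47_49 (c : Nat) : Nat := @Bool.rec (fun _ => Nat) (col7_47) (col7_48) (Nat.ble 48 c)
noncomputable def col7_s_50_52 (c : Nat) : Nat := @Bool.rec (fun _ => Nat) (col7_50) (col7_51) (Nat.ble 51 c)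
noncomputable def col7_s_49_52 (c : Nat) : Nat := @Bool.rec (fun _ => Nat) (col7_49) (col7_s_50_52 c) (Nat.ble 50 c)
noncomputable def col7_s_47_52 (c : Nat) : Nat := @Bool.rec (fun _ => Nat) (col7_s_47_49 c) (col7_s_49_52 c) (Nat.ble 49 c)
noncomputable def col7_s_53_55 (c : Nat) : Nat := @Bool.rec (fun _ => Nat) (col7_53) (col7_54) (Nat.ble 54 c)
noncomputable def col7_s_52_55 (c : Nat) : Nat := @Bool.rec (fun _ => Nat) (col7_52) (col7_s_53_55 c) (Nat.ble 53 c)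
noncomputable def col7_s_56_58 (c : Nat) : Nat := @Bool.rec (fun _ => Nat) (col7_56) (col7_57) (Nat.ble 57 c)
noncomputable def col7_s_55_58 (c : Nat) : Nat := @Bool.rec (fun _ => Nat) (col7_55) (col7_s_56_58 c) (Nat.ble 56 c)
noncomputable def col7_s_52_58 (c : Nat) : Nat := @Bool.rec (fun _ => Nat) (col7_s_52_55 c) (col7_s_55_58 c) (Nat.ble 55 c)
noncomputable def col7_s_47_58 (c : Nat) : Nat := @Bool.rec (fun _ => Nat) (col7_s_47_52 c) (col7_s_52_58 c) (Nat.ble 52 c)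
noncomputable def col7_s_59_61 (c : Nat) : Nat := @Bool.rec (fun _ => Nat) (col7_59) (col7_60) (Nat.ble 60 c)
noncomputable def col7_s_58_61 (c : Nat) : Nat := @Bool.rec (fun _ => Nat) (col7_58) (col7_s_59_61 c) (Nat.ble 59 c)
noncomputable def col7_s_62_64 (c : Nat) : Nat := @Bool.rec (fun _ => Nat) (col7_62) (col7_63) (Nat.ble 63 c)
noncomputable def col7_s_61_64 (c : Nat) : Nat := @Bool.rec (fun _ => Nat) (col7_61) (col7_s_62_64 c) (Nat.ble 62 c)
noncomputable def col7_s_58_64 (c : Nat) : Nat := @Bool.rec (fun _ => Nat) (col7_s_58_61 c) (col7_s_61_64 c) (Nat.ble 61 c)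
noncomputable def col7_s_65_67 (c : Nat) : Nat := @Bool.rec (fun _ => Nat) (col7_65) (col7_66) (Nat.ble 66 c)
noncomputable def col7_s_64_67 (c : Nat) : Nat := @Bool.rec (fun _ => Nat) (col7_64) (col7_s_65_67 c) (Nat.ble 65 c)
noncomputable def col7_s_68_70 (c : Nat) : Nat := @Bool.rec (fun _ => Nat) (col7_68) (col7_69) (Nat.ble 69 c)
noncomputable def col7_s_67_70 (c : Nat) : Nat := @Bool.rec (fun _ => Nat) (col7_67) (col7_s_68_70 c) (Nat.ble 68 c)
noncomputable def col7_s_64_70 (c : Nat) : Nat := @Bool.rec (fun _ => Nat) (col7_s_64_67 c) (col7_s_67_70 c) (Nat.ble 67 c)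
noncomputable def col7_s_58_70 (c : Nat) : Nat := @Bool.rec (fun _ => Nat) (col7_s_58_64 c) (col7_s_64_70 c) (Nat.ble 64 c)
noncomputable def col7_s_47_70 (c : Nat) : Nat := @Bool.rec (fun _ => Nat) (col7_s_47_58 c) (col7_s_58_70 c) (Nat.ble 58 c)
noncomputable def col7_s_71_73 (c : Nat) : Nat := @Bool.rec (fun _ => Nat) (col7_71) (col7_72) (Nat.ble 72 c)
noncomputable def col7_s_70_73 (c : Nat) : Nat := @Bool.rec (fun _ => Nat) (col7_70) (col7_s_71_73 c) (Nat.ble 71 c)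
noncomputable def col7_s_74_76 (c : Nat) : Nat := @Bool.rec (fun _ => Nat) (col7_74) (col7_75) (Nat.ble 75 c)
noncomputable def col7_s_73_76 (c : Nat) : Nat := @Bool.rec (fun _ => Nat) (col7_73) (col7_s_74_76 c) (Nat.ble 74 c)
noncomputable def col7_s_70_76 (c : Nat) : Nat := @Bool.rec (fun _ => Nat) (col7_s_70_73 c) (col7_s_73_76 c) (Nat.ble 73 c)
noncomputable def col7_s_77_79 (c : Nat) : Nat := @Bool.rec (fun _ => Nat) (col7_77) (col7_78) (Nat.ble 78 c)
noncomputable def col7_s_76_79 (c : Nat) : Nat := @Bool.rec (fun _ => Nat) (col7_76) (col7_s_77_79 c) (Nat.ble 77 c)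
noncomputable def col7_s_80_82 (c : Nat) : Nat := @Bool.rec (fun _ => Nat) (col7_80) (col7_81) (Nat.ble 81 c)
noncomputable def col7_s_79_82 (c : Nat) : Nat := @Bool.rec (fun _ => Nat) (col7_79) (col7_s_80_82 c) (Nat.ble 80 c)
noncomputable def col7_s_76_82 (c : Nat) : Nat := @Bool.rec (fun _ => Nat) (col7_s_76_79 c) (col7_s_79_82 c) (Nat.ble 79 c)
noncomputable def col7_s_70_82 (c : Nat) : Nat := @Bool.rec (fun _ => Nat) (col7_s_70_76 c) (col7_s_76_82 c) (Nat.ble 76 c)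
noncomputable def col7_s_83_85 (c : Nat) : Nat := @Bool.rec (fun _ => Nat) (col7_83) (col7_84) (Nat.ble 84 c)
noncomputable def col7_s_82_85 (c : Nat) : Nat := @Bool.rec (fun _ => Nat) (col7_82) (col7_s_83_85 c) (Nat.ble 83 c)
noncomputable def col7_s_86_88 (c : Nat) : Nat := @Bool.rec (fun _ => Nat) (col7_86) (col7_87) (Nat.ble 87 c)
noncomputable def col7_s_85_88 (c : Nat) : Nat := @Bool.rec (fun _ => Nat) (col7_85) (col7_s_86_88 c) (Nat.ble 86 c)
noncomputable def col7_s_82_88 (c : Nat) : Nat := @Bool.rec (fun _ => Nat) (col7_s_82_85 c) (col7_s_85_88 c) (Nat.ble 85 c)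
noncomputable def col7_s_89_91 (c : Nat) : Nat := @Bool.rec (fun _ => Nat) (col7_89) (col7_90) (Nat.ble 90 c)
noncomputable def col7_s_88_91 (c : Nat) : Nat := @Bool.rec (fun _ => Nat) (col7_88) (col7_s_89_91 c) (Nat.ble 89 c)
noncomputable def col7_s_92_94 (c : Nat) : Nat := @Bool.rec (fun _ => Nat) (col7_92) (col7_93) (Nat.ble 93 c)
noncomputable def col7_s_91_94 (c : Nat) : Nat := @Bool.rec (fun _ => Nat) (col7_91) (col7_s_92_94 c) (Nat.ble 92 c)
noncomputable def col7_s_88_94 (c : Nat) : Nat := @Bool.rec (fun _ => Nat) (col7_s_88_91 c) (col7_s_91_94 c) (Nat.ble 91 c)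
noncomputable def col7_s_82_94 (c : Nat) : Nat := @Bool.rec (fun _ => Nat) (col7_s_82_88 c) (col7_s_88_94 c) (Nat.ble 88 c)
noncomputable def col7_s_70_94 (c : Nat) : Nat := @Bool.rec (fun _ => Nat) (col7_s_70_82 c) (col7_s_82_94 c) (Nat.ble 82 c)
noncomputable def col7_s_47_94 (c : Nat) : Nat := @Bool.rec (fun _ => Nat) (col7_s_47_70 c) (col7_s_70_94 c) (Nat.ble 70 c)
noncomputable def col7_s_0_94 (c : Nat) : Nat := @Bool.rec (fun _ => Nat) (col7_s_0_47 c) (col7_s_47_94 c) (Nat.ble 47 c)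
noncomputable def col7_s_94_96 (c : Nat) : Nat := @Bool.rec (fun _ => Nat) (col7_94) (col7_95) (Nat.ble 95 c)
noncomputable def col7_s_97_99 (c : Nat) : Nat := @Bool.rec (fun _ => Nat) (col7_97) (col7_98) (Nat.ble 98 c)
noncomputable def col7_s_96_99 (c : Nat) : Nat := @Bool.rec (fun _ => Nat) (col7_96) (col7_s_97_99 c) (Nat.ble 97 c)
noncomputable def col7_s_94_99 (c : Nat) : Nat := @Bool.rec (fun _ => Nat) (col7_s_94_96 c) (col7_s_96_99 c) (Nat.ble 96 c)
noncomputable def col7_s_100_102 (c : Nat) : Nat := @Bool.rec (fun _ => Nat) (col7_100) (col7_101) (Nat.ble 101 c)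
noncomputable def col7_s_99_102 (c : Nat) : Nat := @Bool.rec (fun _ => Nat) (col7_99) (col7_s_100_102 c) (Nat.ble 100 c)
noncomputable def col7_s_103_105 (c : Nat) : Nat := @Bool.rec (fun _ => Nat) (col7_103) (col7_104) (Nat.ble 104 c)
noncomputable def col7_s_102_105 (c : Nat) : Nat := @Bool.rec (fun _ => Nat) (col7_102) (col7_s_103_105 c) (Nat.ble 103 c)
noncomputable def col7_s_99_105 (c : Nat) : Nat := @Bool.rec (fun _ => Nat) (col7_s_99_102 c) (col7_s_102_105 c) (Nat.ble 102 c)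
noncomputable def col7_s_94_105 (c : Nat) : Nat := @Bool.rec (fun _ => Nat) (col7_s_94_99 c) (col7_s_99_105 c) (Nat.ble 99 c)
noncomputable def col7_s_106_108 (c : Nat) : Nat := @Bool.rec (fun _ => Nat) (col7_106) (col7_107) (Nat.ble 107 c)
noncomputable def col7_s_105_108 (c : Nat) : Nat := @Bool.rec (fun _ => Nat) (col7_105) (col7_s_106_108 c) (Nat.ble 106 c)
noncomputable def col7_s_109_111 (c : Nat) : Nat := @Bool.rec (fun _ => Nat) (col7_109) (col7_110) (Nat.ble 110 c)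
noncomputable def col7_s_108_111 (c : Nat) : Nat := @Bool.rec (fun _ => Nat) (col7_108) (col7_s_109_111 c) (Nat.ble 109 c)
noncomputable def col7_s_105_111 (c : Nat) : Nat := @Bool.rec (fun _ => Nat) (col7_s_105_108 c) (col7_s_108_111 c) (Nat.ble 108 c)
noncomputable def col7_s_112_114 (c : Nat) : Nat := @Bool.rec (fun _ => Nat) (col7_112) (col7_113) (Nat.ble 113 c)
noncomputable def col7_s_111_114 (c : Nat) : Nat := @Bool.rec (fun _ => Nat) (col7_111) (col7_s_112_114 c) (Nat.ble 112 c)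
noncomputable def col7_s_115_117 (c : Nat) : Nat := @Bool.rec (fun _ => Nat) (col7_115) (col7_116) (Nat.ble 116 c)
noncomputable def col7_s_114_117 (c : Nat) : Nat := @Bool.rec (fun _ => Nat) (col7_114) (col7_s_115_117 c) (Nat.ble 115 c)
noncomputable def col7_s_111_117 (c : Nat) : Nat := @Bool.rec (fun _ => Nat) (col7_s_111_114 c) (col7_s_114_117 c) (Nat.ble 114 c)
noncomputable def col7_s_105_117 (c : Nat) : Nat := @Bool.rec (fun _ => Nat) (col7_s_105_111 c) (col7_s_111_117 c) (Nat.ble 111 c)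
noncomputable def col7_s_94_117 (c : Nat) : Nat := @Bool.rec (fun _ => Nat) (col7_s_94_105 c) (col7_s_105_117 c) (Nat.ble 105 c)
noncomputable def col7_s_118_120 (c : Nat) : Nat := @Bool.rec (fun _ => Nat) (col7_118) (col7_119) (Nat.ble 119 c)
noncomputable def col7_s_117_120 (c : Nat) : Nat := @Bool.rec (fun _ => Nat) (col7_117) (col7_s_118_120 c) (Nat.ble 118 c)
noncomputable def col7_s_121_123 (c : Nat) : Nat := @Bool.rec (fun _ => Nat) (col7_121) (col7_122) (Nat.ble 122 c)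
noncomputable def col7_s_120_123 (c : Nat) : Nat := @Bool.rec (fun _ => Nat) (col7_120) (col7_s_121_123 c) (Nat.ble 121 c)
noncomputable def col7_s_117_123 (c : Nat) : Nat := @Bool.rec (fun _ => Nat) (col7_s_117_120 c) (col7_s_120_123 c) (Nat.ble 120 c)
noncomputable def col7_s_124_126 (c : Nat) : Nat := @Bool.rec (fun _ => Nat) (col7_124) (col7_125) (Nat.ble 125 c)
noncomputable def col7_s_123_126 (c : Nat) : Nat := @Bool.rec (fun _ => Nat) (col7_123) (col7_s_124_126 c) (Nat.ble 124 c)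
noncomputable def col7_s_127_129 (c : Nat) : Nat := @Bool.rec (fun _ => Nat) (col7_127) (col7_128) (Nat.ble 128 c)
noncomputable def col7_s_126_129 (c : Nat) : Nat := @Bool.rec (fun _ => Nat) (col7_126) (col7_s_127_129 c) (Nat.ble 127 c)
noncomputable def col7_s_123_129 (c : Nat) : Nat := @Bool.rec (fun _ => Nat) (col7_s_123_126 c) (col7_s_126_129 c) (Nat.ble 126 c)
noncomputable def col7_s_117_129 (c : Nat) : Nat := @Bool.rec (fun _ => Nat) (col7_s_117_123 c) (col7_s_123_129 c) (Nat.ble 123 c)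
noncomputable def col7_s_130_132 (c : Nat) : Nat := @Bool.rec (fun _ => Nat) (col7_130) (col7_131) (Nat.ble 131 c)
noncomputable def col7_s_129_132 (c : Nat) : Nat := @Bool.rec (fun _ => Nat) (col7_129) (col7_s_130_132 c) (Nat.ble 130 c)
noncomputable def col7_s_133_135 (c : Nat) : Nat := @Bool.rec (fun _ => Nat) (col7_133) (col7_134) (Nat.ble 134 c)
noncomputable def col7_s_132_135 (c : Nat) : Nat := @Bool.rec (fun _ => Nat) (col7_132) (col7_s_133_135 c) (Nat.ble 133 c)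
noncomputable def col7_s_129_135 (c : Nat) : Nat := @Bool.rec (fun _ => Nat) (col7_s_129_132 c) (col7_s_132_135 c) (Nat.ble 132 c)
noncomputable def col7_s_136_138 (c : Nat) : Nat := @Bool.rec (fun _ => Nat) (col7_136) (col7_137) (Nat.ble 137 c)
noncomputable def col7_s_135_138 (c : Nat) : Nat := @Bool.rec (fun _ => Nat) (col7_135) (col7_s_136_138 c) (Nat.ble 136 c)
noncomputable def col7_s_139_141 (c : Nat) : Nat := @Bool.rec (fun _ => Nat) (col7_139) (col7_140) (Nat.ble 140 c)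
noncomputable def col7_s_138_141 (c : Nat) : Nat := @Bool.rec (fun _ => Nat) (col7_138) (col7_s_139_141 c) (Nat.ble 139 c)
noncomputable def col7_s_135_141 (c : Nat) : Nat := @Bool.rec (fun _ => Nat) (col7_s_135_138 c) (col7_s_138_141 c) (Nat.ble 138 c)
noncomputable def col7_s_129_141 (c : Nat) : Nat := @Bool.rec (fun _ => Nat) (col7_s_129_135 c) (col7_s_135_141 c) (Nat.ble 135 c)
noncomputable def col7_s_117_141 (c : Nat) : Nat := @Bool.rec (fun _ => Nat) (col7_s_117_129 c) (col7_s_129_141 c) (Nat.ble 129 c)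
noncomputable def col7_s_94_141 (c : Nat) : Nat := @Bool.rec (fun _ => Nat) (col7_s_94_117 c) (col7_s_117_141 c) (Nat.ble 117 c)
noncomputable def col7_s_141_143 (c : Nat) : Nat := @Bool.rec (fun _ => Nat) (col7_141) (col7_142) (Nat.ble 142 c)
noncomputable def col7_s_144_146 (c : Nat) : Nat := @Bool.rec (fun _ => Nat) (col7_144) (col7_145) (Nat.ble 145 c)
noncomputable def col7_s_143_146 (c : Nat) : Nat := @Bool.rec (fun _ => Nat) (col7_143) (col7_s_144_146 c) (Nat.ble 144 c)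
noncomputable def col7_s_141_146 (c : Nat) : Nat := @Bool.rec (fun _ => Nat) (col7_s_141_143 c) (col7_s_143_146 c) (Nat.ble 143 c)
noncomputable def col7_s_147_149 (c : Nat) : Nat := @Bool.rec (fun _ => Nat) (col7_147) (col7_148) (Nat.ble 148 c)
noncomputable def col7_s_146_149 (c : Nat) : Nat := @Bool.rec (fun _ => Nat) (col7_146) (col7_s_147_149 c) (Nat.ble 147 c)
noncomputable def col7_s_150_152 (c : Nat) : Nat := @Bool.rec (fun _ => Nat) (col7_150) (col7_151) (Nat.ble 151 c)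
noncomputable def col7_s_149_152 (c : Nat) : Nat := @Bool.rec (fun _ => Nat) (col7_149) (col7_s_150_152 c) (Nat.ble 150 c)
noncomputable def col7_s_146_152 (c : Nat) : Nat := @Bool.rec (fun _ => Nat) (col7_s_146_149 c) (col7_s_149_152 c) (Nat.ble 149 c)
noncomputable def col7_s_141_152 (c : Nat) : Nat := @Bool.rec (fun _ => Nat) (col7_s_141_146 c) (col7_s_146_152 c) (Nat.ble 146 c)
noncomputable def col7_s_153_155 (c : Nat) : Nat := @Bool.rec (fun _ => Nat) (col7_153) (col7_154) (Nat.ble 154 c)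
noncomputable def col7_s_152_155 (c : Nat) : Nat := @Bool.rec (fun _ => Nat) (col7_152) (col7_s_153_155 c) (Nat.ble 153 c)
noncomputable def col7_s_156_158 (c : Nat) : Nat := @Bool.rec (fun _ => Nat) (col7_156) (col7_157) (Nat.ble 157 c)
noncomputable def col7_s_155_158 (c : Nat) : Nat := @Bool.rec (fun _ => Nat) (col7_155) (col7_s_156_158 c) (Nat.ble 156 c)
noncomputable def col7_s_152_158 (c : Nat) : Nat := @Bool.rec (fun _ => Nat) (col7_s_152_155 c) (col7_s_155_158 c) (Nat.ble 155 c)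
noncomputable def col7_s_159_161 (c : Nat) : Nat := @Bool.rec (fun _ => Nat) (col7_159) (col7_160) (Nat.ble 160 c)
noncomputable def col7_s_158_161 (c : Nat) : Nat := @Bool.rec (fun _ => Nat) (col7_158) (col7_s_159_161 c) (Nat.ble 159 c)
noncomputable def col7_s_162_164 (c : Nat) : Nat := @Bool.rec (fun _ => Nat) (col7_162) (col7_163) (Nat.ble 163 c)
noncomputable def col7_s_161_164 (c : Nat) : Nat := @Bool.rec (fun _ => Nat) (col7_161) (col7_s_162_164 c) (Nat.ble 162 c)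
noncomputable def col7_s_158_164 (c : Nat) : Nat := @Bool.rec (fun _ => Nat) (col7_s_158_161 c) (col7_s_161_164 c) (Nat.ble 161 c)
noncomputable def col7_s_152_164 (c : Nat) : Nat := @Bool.rec (fun _ => Nat) (col7_s_152_158 c) (col7_s_158_164 c) (Nat.ble 158 c)
noncomputable def col7_s_141_164 (c : Nat) : Nat := @Bool.rec (fun _ => Nat) (col7_s_141_152 c) (col7_s_152_164 c) (Nat.ble 152 c)
noncomputable def col7_s_165_167 (c : Nat) : Nat := @Bool.rec (fun _ => Nat) (col7_165) (col7_166) (Nat.ble 166 c)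
noncomputable def col7_s_164_167 (c : Nat) : Nat := @Bool.rec (fun _ => Nat) (col7_164) (col7_s_165_167 c) (Nat.ble 165 c)
noncomputable def col7_s_168_170 (c : Nat) : Nat := @Bool.rec (fun _ => Nat) (col7_168) (col7_169) (Nat.ble 169 c)
noncomputable def col7_s_167_170 (c : Nat) : Nat := @Bool.rec (fun _ => Nat) (col7_167) (col7_s_168_170 c) (Nat.ble 168 c)
noncomputable def col7_s_164_170 (c : Nat) : Nat := @Bool.rec (fun _ => Nat) (col7_s_164_167 c) (col7_s_167_170 c) (Nat.ble 167 c)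
noncomputable def col7_s_171_173 (c : Nat) : Nat := @Bool.rec (fun _ => Nat) (col7_171) (col7_172) (Nat.ble 172 c)
noncomputable def col7_s_170_173 (c : Nat) : Nat := @Bool.rec (fun _ => Nat) (col7_170) (col7_s_171_173 c) (Nat.ble 171 c)
noncomputable def col7_s_174_176 (c : Nat) : Nat := @Bool.rec (fun _ => Nat) (col7_174) (col7_175) (Nat.ble 175 c)
noncomputable def col7_s_173_176 (c : Nat) : Nat := @Bool.rec (fun _ => Nat) (col7_173) (col7_s_174_176 c) (Nat.ble 174 c)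
noncomputable def col7_s_170_176 (c : Nat) : Nat := @Bool.rec (fun _ => Nat) (col7_s_170_173 c) (col7_s_173_176 c) (Nat.ble 173 c)
noncomputable def col7_s_164_176 (c : Nat) : Nat := @Bool.rec (fun _ => Nat) (col7_s_164_170 c) (col7_s_170_176 c) (Nat.ble 170 c)
noncomputable def col7_s_177_179 (c : Nat) : Nat := @Bool.rec (fun _ => Nat) (col7_177) (col7_178) (Nat.ble 178 c)
noncomputable def col7_s_176_179 (c : Nat) : Nat := @Bool.rec (fun _ => Nat) (col7_176) (col7_s_177_179 c) (Nat.ble 177 c)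
noncomputable def col7_s_180_182 (c : Nat) : Nat := @Bool.rec (fun _ => Nat) (col7_180) (col7_181) (Nat.ble 181 c)
noncomputable def col7_s_179_182 (c : Nat) : Nat := @Bool.rec (fun _ => Nat) (col7_179) (col7_s_180_182 c) (Nat.ble 180 c)
noncomputable def col7_s_176_182 (c : Nat) : Nat := @Bool.rec (fun _ => Nat) (col7_s_176_179 c) (col7_s_179_182 c) (Nat.ble 179 c)
noncomputable def col7_s_183_185 (c : Nat) : Nat := @Bool.rec (fun _ => Nat) (col7_183) (col7_184) (Nat.ble 184 c)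
noncomputable def col7_s_182_185 (c : Nat) : Nat := @Bool.rec (fun _ => Nat) (col7_182) (col7_s_183_185 c) (Nat.ble 183 c)
noncomputable def col7_s_186_188 (c : Nat) : Nat := @Bool.rec (fun _ => Nat) (col7_186) (col7_187) (Nat.ble 187 c)
noncomputable def col7_s_185_188 (c : Nat) : Nat := @Bool.rec (fun _ => Nat) (col7_185) (col7_s_186_188 c) (Nat.ble 186 c)
noncomputable def col7_s_182_188 (c : Nat) : Nat := @Bool.rec (fun _ => Nat) (col7_s_182_185 c) (col7_s_185_188 c) (Nat.ble 185 c)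
noncomputable def col7_s_176_188 (c : Nat) : Nat := @Bool.rec (fun _ => Nat) (col7_s_176_182 c) (col7_s_182_188 c) (Nat.ble 182 c)
noncomputable def col7_s_164_188 (c : Nat) : Nat := @Bool.rec (fun _ => Nat) (col7_s_164_176 c) (col7_s_176_188 c) (Nat.ble 176 c)
noncomputable def col7_s_141_188 (c : Nat) : Nat := @Bool.rec (fun _ => Nat) (col7_s_141_164 c) (col7_s_164_188 c) (Nat.ble 164 c)
noncomputable def col7_s_94_188 (c : Nat) : Nat := @Bool.rec (fun _ => Nat) (col7_s_94_141 c) (col7_s_141_188 c) (Nat.ble 141 c)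
noncomputable def col7_s_0_188 (c : Nat) : Nat := @Bool.rec (fun _ => Nat) (col7_s_0_94 c) (col7_s_94_188 c) (Nat.ble 94 c)
noncomputable def col7_s_188_190 (c : Nat) : Nat := @Bool.rec (fun _ => Nat) (col7_188) (col7_189) (Nat.ble 189 c)
noncomputable def col7_s_191_193 (c : Nat) : Nat := @Bool.rec (fun _ => Nat) (col7_191) (col7_192) (Nat.ble 192 c)
noncomputable def col7_s_190_193 (c : Nat) : Nat := @Bool.rec (fun _ => Nat) (col7_190) (col7_s_191_193 c) (Nat.ble 191 c)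
noncomputable def col7_s_188_193 (c : Nat) : Nat := @Bool.rec (fun _ => Nat) (col7_s_188_190 c) (col7_s_190_193 c) (Nat.ble 190 c)
noncomputable def col7_s_194_196 (c : Nat) : Nat := @Bool.rec (fun _ => Nat) (col7_194) (col7_195) (Nat.ble 195 c)
noncomputable def col7_s_193_196 (c : Nat) : Nat := @Bool.rec (fun _ => Nat) (col7_193) (col7_s_194_196 c) (Nat.ble 194 c)
noncomputable def col7_s_197_199 (c : Nat) : Nat := @Bool.rec (fun _ => Nat) (col7_197) (col7_198) (Nat.ble 198 c)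
noncomputable def col7_s_196_199 (c : Nat) : Nat := @Bool.rec (fun _ => Nat) (col7_196) (col7_s_197_199 c) (Nat.ble 197 c)
noncomputable def col7_s_193_199 (c : Nat) : Nat := @Bool.rec (fun _ => Nat) (col7_s_193_196 c) (col7_s_196_199 c) (Nat.ble 196 c)
noncomputable def col7_s_188_199 (c : Nat) : Nat := @Bool.rec (fun _ => Nat) (col7_s_188_193 c) (col7_s_193_199 c) (Nat.ble 193 c)
noncomputable def col7_s_200_202 (c : Nat) : Nat := @Bool.rec (fun _ => Nat) (col7_200) (col7_201) (Nat.ble 201 c)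
noncomputable def col7_s_199_202 (c : Nat) : Nat := @Bool.rec (fun _ => Nat) (col7_199) (col7_s_200_202 c) (Nat.ble 200 c)
noncomputable def col7_s_203_205 (c : Nat) : Nat := @Bool.rec (fun _ => Nat) (col7_203) (col7_204) (Nat.ble 204 c)
noncomputable def col7_s_202_205 (c : Nat) : Nat := @Bool.rec (fun _ => Nat) (col7_202) (col7_s_203_205 c) (Nat.ble 203 c)
noncomputable def col7_s_199_205 (c : Nat) : Nat := @Bool.rec (fun _ => Nat) (col7_s_199_202 c) (col7_s_202_205 c) (Nat.ble 202 c)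
noncomputable def col7_s_206_208 (c : Nat) : Nat := @Bool.rec (fun _ => Nat) (col7_206) (col7_207) (Nat.ble 207 c)
noncomputable def col7_s_205_208 (c : Nat) : Nat := @Bool.rec (fun _ => Nat) (col7_205) (col7_s_206_208 c) (Nat.ble 206 c)
noncomputable def col7_s_209_211 (c : Nat) : Nat := @Bool.rec (fun _ => Nat) (col7_209) (col7_210) (Nat.ble 210 c)
noncomputable def col7_s_208_211 (c : Nat) : Nat := @Bool.rec (fun _ => Nat) (col7_208) (col7_s_209_211 c) (Nat.ble 209 c)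
noncomputable def col7_s_205_211 (c : Nat) : Nat := @Bool.rec (fun _ => Nat) (col7_s_205_208 c) (col7_s_208_211 c) (Nat.ble 208 c)
noncomputable def col7_s_199_211 (c : Nat) : Nat := @Bool.rec (fun _ => Nat) (col7_s_199_205 c) (col7_s_205_211 c) (Nat.ble 205 c)
noncomputable def col7_s_188_211 (c : Nat) : Nat := @Bool.rec (fun _ => Nat) (col7_s_188_199 c) (col7_s_199_211 c) (Nat.ble 199 c)
noncomputable def col7_s_212_214 (c : Nat) : Nat := @Bool.rec (fun _ => Nat) (col7_212) (col7_213) (Nat.ble 213 c)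
noncomputable def col7_s_211_214 (c : Nat) : Nat := @Bool.rec (fun _ => Nat) (col7_211) (col7_s_212_214 c) (Nat.ble 212 c)
noncomputable def col7_s_215_217 (c : Nat) : Nat := @Bool.rec (fun _ => Nat) (col7_215) (col7_216) (Nat.ble 216 c)
noncomputable def col7_s_214_217 (c : Nat) : Nat := @Bool.rec (fun _ => Nat) (col7_214) (col7_s_215_217 c) (Nat.ble 215 c)
noncomputable def col7_s_211_217 (c : Nat) : Nat := @Bool.rec (fun _ => Nat) (col7_s_211_214 c) (col7_s_214_217 c) (Nat.ble 214 c)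
noncomputable def col7_s_218_220 (c : Nat) : Nat := @Bool.rec (fun _ => Nat) (col7_218) (col7_219) (Nat.ble 219 c)
noncomputable def col7_s_217_220 (c : Nat) : Nat := @Bool.rec (fun _ => Nat) (col7_217) (col7_s_218_220 c) (Nat.ble 218 c)
noncomputable def col7_s_221_223 (c : Nat) : Nat := @Bool.rec (fun _ => Nat) (col7_221) (col7_222) (Nat.ble 222 c)
noncomputable def col7_s_220_223 (c : Nat) : Nat := @Bool.rec (fun _ => Nat) (col7_220) (col7_s_221_223 c) (Nat.ble 221 c)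
noncomputable def col7_s_217_223 (c : Nat) : Nat := @Bool.rec (fun _ => Nat) (col7_s_217_220 c) (col7_s_220_223 c) (Nat.ble 220 c)
noncomputable def col7_s_211_223 (c : Nat) : Nat := @Bool.rec (fun _ => Nat) (col7_s_211_217 c) (col7_s_217_223 c) (Nat.ble 217 c)
noncomputable def col7_s_224_226 (c : Nat) : Nat := @Bool.rec (fun _ => Nat) (col7_224) (col7_225) (Nat.ble 225 c)
noncomputable def col7_s_223_226 (c : Nat) : Nat := @Bool.rec (fun _ => Nat) (col7_223) (col7_s_224_226 c) (Nat.ble 224 c)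
noncomputable def col7_s_227_229 (c : Nat) : Nat := @Bool.rec (fun _ => Nat) (col7_227) (col7_228) (Nat.ble 228 c)
noncomputable def col7_s_226_229 (c : Nat) : Nat := @Bool.rec (fun _ => Nat) (col7_226) (col7_s_227_229 c) (Nat.ble 227 c)
noncomputable def col7_s_223_229 (c : Nat) : Nat := @Bool.rec (fun _ => Nat) (col7_s_223_226 c) (col7_s_226_229 c) (Nat.ble 226 c)
noncomputable def col7_s_230_232 (c : Nat) : Nat := @Bool.rec (fun _ => Nat) (col7_230) (col7_231) (Nat.ble 231 c)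
noncomputable def col7_s_229_232 (c : Nat) : Nat := @Bool.rec (fun _ => Nat) (col7_229) (col7_s_230_232 c) (Nat.ble 230 c)
noncomputable def col7_s_233_235 (c : Nat) : Nat := @Bool.rec (fun _ => Nat) (col7_233) (col7_234) (Nat.ble 234 c)
noncomputable def col7_s_232_235 (c : Nat) : Nat := @Bool.rec (fun _ => Nat) (col7_232) (col7_s_233_235 c) (Nat.ble 233 c)
noncomputable def col7_s_229_235 (c : Nat) : Nat := @Bool.rec (fun _ => Nat) (col7_s_229_232 c) (col7_s_232_235 c) (Nat.ble 232 c)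
noncomputable def col7_s_223_235 (c : Nat) : Nat := @Bool.rec (fun _ => Nat) (col7_s_223_229 c) (col7_s_229_235 c) (Nat.ble 229 c)
noncomputable def col7_s_211_235 (c : Nat) : Nat := @Bool.rec (fun _ => Nat) (col7_s_211_223 c) (col7_s_223_235 c) (Nat.ble 223 c)
noncomputable def col7_s_188_235 (c : Nat) : Nat := @Bool.rec (fun _ => Nat) (col7_s_188_211 c) (col7_s_211_235 c) (Nat.ble 211 c)
noncomputable def col7_s_235_237 (c : Nat) : Nat := @Bool.rec (fun _ => Nat) (col7_235) (col7_236) (Nat.ble 236 c)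
noncomputable def col7_s_238_240 (c : Nat) : Nat := @Bool.rec (fun _ => Nat) (col7_238) (col7_239) (Nat.ble 239 c)
noncomputable def col7_s_237_240 (c : Nat) : Nat := @Bool.rec (fun _ => Nat) (col7_237) (col7_s_238_240 c) (Nat.ble 238 c)
noncomputable def col7_s_235_240 (c : Nat) : Nat := @Bool.rec (fun _ => Nat) (col7_s_235_237 c) (col7_s_237_240 c) (Nat.ble 237 c)
noncomputable def col7_s_241_243 (c : Nat) : Nat := @Bool.rec (fun _ => Nat) (col7_241) (col7_242) (Nat.ble 242 c)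
noncomputable def col7_s_240_243 (c : Nat) : Nat := @Bool.rec (fun _ => Nat) (col7_240) (col7_s_241_243 c) (Nat.ble 241 c)
noncomputable def col7_s_244_246 (c : Nat) : Nat := @Bool.rec (fun _ => Nat) (col7_244) (col7_245) (Nat.ble 245 c)
noncomputable def col7_s_243_246 (c : Nat) : Nat := @Bool.rec (fun _ => Nat) (col7_243) (col7_s_244_246 c) (Nat.ble 244 c)
noncomputable def col7_s_240_246 (c : Nat) : Nat := @Bool.rec (fun _ => Nat) (col7_s_240_243 c) (col7_s_243_246 c) (Nat.ble 243 c)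
noncomputable def col7_s_235_246 (c : Nat) : Nat := @Bool.rec (fun _ => Nat) (col7_s_235_240 c) (col7_s_240_246 c) (Nat.ble 240 c)
noncomputable def col7_s_247_249 (c : Nat) : Nat := @Bool.rec (fun _ => Nat) (col7_247) (col7_248) (Nat.ble 248 c)
noncomputable def col7_s_246_249 (c : Nat) : Nat := @Bool.rec (fun _ => Nat) (col7_246) (col7_s_247_249 c) (Nat.ble 247 c)
noncomputable def col7_s_250_252 (c : Nat) : Nat := @Bool.rec (fun _ => Nat) (col7_250) (col7_251) (Nat.ble 251 c)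
noncomputable def col7_s_249_252 (c : Nat) : Nat := @Bool.rec (fun _ => Nat) (col7_249) (col7_s_250_252 c) (Nat.ble 250 c)
noncomputable def col7_s_246_252 (c : Nat) : Nat := @Bool.rec (fun _ => Nat) (col7_s_246_249 c) (col7_s_249_252 c) (Nat.ble 249 c)
noncomputable def col7_s_253_255 (c : Nat) : Nat := @Bool.rec (fun _ => Nat) (col7_253) (col7_254) (Nat.ble 254 c)
noncomputable def col7_s_252_255 (c : Nat) : Nat := @Bool.rec (fun _ => Nat) (col7_252) (col7_s_253_255 c) (Nat.ble 253 c)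
noncomputable def col7_s_256_258 (c : Nat) : Nat := @Bool.rec (fun _ => Nat) (col7_256) (col7_257) (Nat.ble 257 c)
noncomputable def col7_s_255_258 (c : Nat) : Nat := @Bool.rec (fun _ => Nat) (col7_255) (col7_s_256_258 c) (Nat.ble 256 c)
noncomputable def col7_s_252_258 (c : Nat) : Nat := @Bool.rec (fun _ => Nat) (col7_s_252_255 c) (col7_s_255_258 c) (Nat.ble 255 c)
noncomputable def col7_s_246_258 (c : Nat) : Nat := @Bool.rec (fun _ => Nat) (col7_s_246_252 c) (col7_s_252_258 c) (Nat.ble 252 c)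
noncomputable def col7_s_235_258 (c : Nat) : Nat := @Bool.rec (fun _ => Nat) (col7_s_235_246 c) (col7_s_246_258 c) (Nat.ble 246 c)
noncomputable def col7_s_259_261 (c : Nat) : Nat := @Bool.rec (fun _ => Nat) (col7_259) (col7_260) (Nat.ble 260 c)
noncomputable def col7_s_258_261 (c : Nat) : Nat := @Bool.rec (fun _ => Nat) (col7_258) (col7_s_259_261 c) (Nat.ble 259 c)
noncomputable def col7_s_262_264 (c : Nat) : Nat := @Bool.rec (fun _ => Nat) (col7_262) (col7_263) (Nat.ble 263 c)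
noncomputable def col7_s_261_264 (c : Nat) : Nat := @Bool.rec (fun _ => Nat) (col7_261) (col7_s_262_264 c) (Nat.ble 262 c)
noncomputable def col7_s_258_264 (c : Nat) : Nat := @Bool.rec (fun _ => Nat) (col7_s_258_261 c) (col7_s_261_264 c) (Nat.ble 261 c)
noncomputable def col7_s_265_267 (c : Nat) : Nat := @Bool.rec (fun _ => Nat) (col7_265) (col7_266) (Nat.ble 266 c)
noncomputable def col7_s_264_267 (c : Nat) : Nat := @Bool.rec (fun _ => Nat) (col7_264) (col7_s_265_267 c) (Nat.ble 265 c)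
noncomputable def col7_s_268_270 (c : Nat) : Nat := @Bool.rec (fun _ => Nat) (col7_268) (col7_269) (Nat.ble 269 c)
noncomputable def col7_s_267_270 (c : Nat) : Nat := @Bool.rec (fun _ => Nat) (col7_267) (col7_s_268_270 c) (Nat.ble 268 c)
noncomputable def col7_s_264_270 (c : Nat) : Nat := @Bool.rec (fun _ => Nat) (col7_s_264_267 c) (col7_s_267_270 c) (Nat.ble 267 c)
noncomputable def col7_s_258_270 (c : Nat) : Nat := @Bool.rec (fun _ => Nat) (col7_s_258_264 c) (col7_s_264_270 c) (Nat.ble 264 c)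
noncomputable def col7_s_271_273 (c : Nat) : Nat := @Bool.rec (fun _ => Nat) (col7_271) (col7_272) (Nat.ble 272 c)
noncomputable def col7_s_270_273 (c : Nat) : Nat := @Bool.rec (fun _ => Nat) (col7_270) (col7_s_271_273 c) (Nat.ble 271 c)
noncomputable def col7_s_274_276 (c : Nat) : Nat := @Bool.rec (fun _ => Nat) (col7_274) (col7_275) (Nat.ble 275 c)
noncomputable def col7_s_273_276 (c : Nat) : Nat := @Bool.rec (fun _ => Nat) (col7_273) (col7_s_274_276 c) (Nat.ble 274 c)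
noncomputable def col7_s_270_276 (c : Nat) : Nat := @Bool.rec (fun _ => Nat) (col7_s_270_273 c) (col7_s_273_276 c) (Nat.ble 273 c)
noncomputable def col7_s_277_279 (c : Nat) : Nat := @Bool.rec (fun _ => Nat) (col7_277) (col7_278) (Nat.ble 278 c)
noncomputable def col7_s_276_279 (c : Nat) : Nat := @Bool.rec (fun _ => Nat) (col7_276) (col7_s_277_279 c) (Nat.ble 277 c)
noncomputable def col7_s_280_282 (c : Nat) : Nat := @Bool.rec (fun _ => Nat) (col7_280) (col7_281) (Nat.ble 281 c)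
noncomputable def col7_s_279_282 (c : Nat) : Nat := @Bool.rec (fun _ => Nat) (col7_279) (col7_s_280_282 c) (Nat.ble 280 c)
noncomputable def col7_s_276_282 (c : Nat) : Nat := @Bool.rec (fun _ => Nat) (col7_s_276_279 c) (col7_s_279_282 c) (Nat.ble 279 c)
noncomputable def col7_s_270_282 (c : Nat) : Nat := @Bool.rec (fun _ => Nat) (col7_s_270_276 c) (col7_s_276_282 c) (Nat.ble 276 c)
noncomputable def col7_s_258_282 (c : Nat) : Nat := @Bool.rec (fun _ => Nat) (col7_s_258_270 c) (col7_s_270_282 c) (Nat.ble 270 c)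
noncomputable def col7_s_235_282 (c : Nat) : Nat := @Bool.rec (fun _ => Nat) (col7_s_235_258 c) (col7_s_258_282 c) (Nat.ble 258 c)
noncomputable def col7_s_188_282 (c : Nat) : Nat := @Bool.rec (fun _ => Nat) (col7_s_188_235 c) (col7_s_235_282 c) (Nat.ble 235 c)
noncomputable def col7_s_282_284 (c : Nat) : Nat := @Bool.rec (fun _ => Nat) (col7_282) (col7_283) (Nat.ble 283 c)
noncomputable def col7_s_285_287 (c : Nat) : Nat := @Bool.rec (fun _ => Nat) (col7_285) (col7_286) (Nat.ble 286 c)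
noncomputable def col7_s_284_287 (c : Nat) : Nat := @Bool.rec (fun _ => Nat) (col7_284) (col7_s_285_287 c) (Nat.ble 285 c)
noncomputable def col7_s_282_287 (c : Nat) : Nat := @Bool.rec (fun _ => Nat) (col7_s_282_284 c) (col7_s_284_287 c) (Nat.ble 284 c)
noncomputable def col7_s_288_290 (c : Nat) : Nat := @Bool.rec (fun _ => Nat) (col7_288) (col7_289) (Nat.ble 289 c)
noncomputable def col7_s_287_290 (c : Nat) : Nat := @Bool.rec (fun _ => Nat) (col7_287) (col7_s_288_290 c) (Nat.ble 288 c)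
noncomputable def col7_s_291_293 (c : Nat) : Nat := @Bool.rec (fun _ => Nat) (col7_291) (col7_292) (Nat.ble 292 c)
noncomputable def col7_s_290_293 (c : Nat) : Nat := @Bool.rec (fun _ => Nat) (col7_290) (col7_s_291_293 c) (Nat.ble 291 c)
noncomputable def col7_s_287_293 (c : Nat) : Nat := @Bool.rec (fun _ => Nat) (col7_s_287_290 c) (col7_s_290_293 c) (Nat.ble 290 c)
noncomputable def col7_s_282_293 (c : Nat) : Nat := @Bool.rec (fun _ => Nat) (col7_s_282_287 c) (col7_s_287_293 c) (Nat.ble 287 c)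
noncomputable def col7_s_294_296 (c : Nat) : Nat := @Bool.rec (fun _ => Nat) (col7_294) (col7_295) (Nat.ble 295 c)
noncomputable def col7_s_293_296 (c : Nat) : Nat := @Bool.rec (fun _ => Nat) (col7_293) (col7_s_294_296 c) (Nat.ble 294 c)
noncomputable def col7_s_297_299 (c : Nat) : Nat := @Bool.rec (fun _ => Nat) (col7_297) (col7_298) (Nat.ble 298 c)
noncomputable def col7_s_296_299 (c : Nat) : Nat := @Bool.rec (fun _ => Nat) (col7_296) (col7_s_297_299 c) (Nat.ble 297 c)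
noncomputable def col7_s_293_299 (c : Nat) : Nat := @Bool.rec (fun _ => Nat) (col7_s_293_296 c) (col7_s_296_299 c) (Nat.ble 296 c)
noncomputable def col7_s_300_302 (c : Nat) : Nat := @Bool.rec (fun _ => Nat) (col7_300) (col7_301) (Nat.ble 301 c)
noncomputable def col7_s_299_302 (c : Nat) : Nat := @Bool.rec (fun _ => Nat) (col7_299) (col7_s_300_302 c) (Nat.ble 300 c)
noncomputable def col7_s_303_305 (c : Nat) : Nat := @Bool.rec (fun _ => Nat) (col7_303) (col7_304) (Nat.ble 304 c)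
noncomputable def col7_s_302_305 (c : Nat) : Nat := @Bool.rec (fun _ => Nat) (col7_302) (col7_s_303_305 c) (Nat.ble 303 c)
noncomputable def col7_s_299_305 (c : Nat) : Nat := @Bool.rec (fun _ => Nat) (col7_s_299_302 c) (col7_s_302_305 c) (Nat.ble 302 c)
noncomputable def col7_s_293_305 (c : Nat) : Nat := @Bool.rec (fun _ => Nat) (col7_s_293_299 c) (col7_s_299_305 c) (Nat.ble 299 c)
noncomputable def col7_s_282_305 (c : Nat) : Nat := @Bool.rec (fun _ => Nat) (col7_s_282_293 c) (col7_s_293_305 c) (Nat.ble 293 c)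
noncomputable def col7_s_306_308 (c : Nat) : Nat := @Bool.rec (fun _ => Nat) (col7_306) (col7_307) (Nat.ble 307 c)
noncomputable def col7_s_305_308 (c : Nat) : Nat := @Bool.rec (fun _ => Nat) (col7_305) (col7_s_306_308 c) (Nat.ble 306 c)
noncomputable def col7_s_309_311 (c : Nat) : Nat := @Bool.rec (fun _ => Nat) (col7_309) (col7_310) (Nat.ble 310 c)
noncomputable def col7_s_308_311 (c : Nat) : Nat := @Bool.rec (fun _ => Nat) (col7_308) (col7_s_309_311 c) (Nat.ble 309 c)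
noncomputable def col7_s_305_311 (c : Nat) : Nat := @Bool.rec (fun _ => Nat) (col7_s_305_308 c) (col7_s_308_311 c) (Nat.ble 308 c)
noncomputable def col7_s_312_314 (c : Nat) : Nat := @Bool.rec (fun _ => Nat) (col7_312) (col7_313) (Nat.ble 313 c)
noncomputable def col7_s_311_314 (c : Nat) : Nat := @Bool.rec (fun _ => Nat) (col7_311) (col7_s_312_314 c) (Nat.ble 312 c)
noncomputable def col7_s_315_317 (c : Nat) : Nat := @Bool.rec (fun _ => Nat) (col7_315) (col7_316) (Nat.ble 316 c)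
noncomputable def col7_s_314_317 (c : Nat) : Nat := @Bool.rec (fun _ => Nat) (col7_314) (col7_s_315_317 c) (Nat.ble 315 c)
noncomputable def col7_s_311_317 (c : Nat) : Nat := @Bool.rec (fun _ => Nat) (col7_s_311_314 c) (col7_s_314_317 c) (Nat.ble 314 c)
noncomputable def col7_s_305_317 (c : Nat) : Nat := @Bool.rec (fun _ => Nat) (col7_s_305_311 c) (col7_s_311_317 c) (Nat.ble 311 c)
noncomputable def col7_s_318_320 (c : Nat) : Nat := @Bool.rec (fun _ => Nat) (col7_318) (col7_319) (Nat.ble 319 c)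
noncomputable def col7_s_317_320 (c : Nat) : Nat := @Bool.rec (fun _ => Nat) (col7_317) (col7_s_318_320 c) (Nat.ble 318 c)
noncomputable def col7_s_321_323 (c : Nat) : Nat := @Bool.rec (fun _ => Nat) (col7_321) (col7_322) (Nat.ble 322 c)
noncomputable def col7_s_320_323 (c : Nat) : Nat := @Bool.rec (fun _ => Nat) (col7_320) (col7_s_321_323 c) (Nat.ble 321 c)
noncomputable def col7_s_317_323 (c : Nat) : Nat := @Bool.rec (fun _ => Nat) (col7_s_317_320 c) (col7_s_320_323 c) (Nat.ble 320 c)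
noncomputable def col7_s_324_326 (c : Nat) : Nat := @Bool.rec (fun _ => Nat) (col7_324) (col7_325) (Nat.ble 325 c)
noncomputable def col7_s_323_326 (c : Nat) : Nat := @Bool.rec (fun _ => Nat) (col7_323) (col7_s_324_326 c) (Nat.ble 324 c)
noncomputable def col7_s_327_329 (c : Nat) : Nat := @Bool.rec (fun _ => Nat) (col7_327) (col7_328) (Nat.ble 328 c)
noncomputable def col7_s_326_329 (c : Nat) : Nat := @Bool.rec (fun _ => Nat) (col7_326) (col7_s_327_329 c) (Nat.ble 327 c)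
noncomputable def col7_s_323_329 (c : Nat) : Nat := @Bool.rec (fun _ => Nat) (col7_s_323_326 c) (col7_s_326_329 c) (Nat.ble 326 c)
noncomputable def col7_s_317_329 (c : Nat) : Nat := @Bool.rec (fun _ => Nat) (col7_s_317_323 c) (col7_s_323_329 c) (Nat.ble 323 c)
noncomputable def col7_s_305_329 (c : Nat) : Nat := @Bool.rec (fun _ => Nat) (col7_s_305_317 c) (col7_s_317_329 c) (Nat.ble 317 c)
noncomputable def col7_s_282_329 (c : Nat) : Nat := @Bool.rec (fun _ => Nat) (col7_s_282_305 c) (col7_s_305_329 c) (Nat.ble 305 c)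
noncomputable def col7_s_329_331 (c : Nat) : Nat := @Bool.rec (fun _ => Nat) (col7_329) (col7_330) (Nat.ble 330 c)
noncomputable def col7_s_332_334 (c : Nat) : Nat := @Bool.rec (fun _ => Nat) (col7_332) (col7_333) (Nat.ble 333 c)
noncomputable def col7_s_331_334 (c : Nat) : Nat := @Bool.rec (fun _ => Nat) (col7_331) (col7_s_332_334 c) (Nat.ble 332 c)
noncomputable def col7_s_329_334 (c : Nat) : Nat := @Bool.rec (fun _ => Nat) (col7_s_329_331 c) (col7_s_331_334 c) (Nat.ble 331 c)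
noncomputable def col7_s_335_337 (c : Nat) : Nat := @Bool.rec (fun _ => Nat) (col7_335) (col7_336) (Nat.ble 336 c)
noncomputable def col7_s_334_337 (c : Nat) : Nat := @Bool.rec (fun _ => Nat) (col7_334) (col7_s_335_337 c) (Nat.ble 335 c)
noncomputable def col7_s_338_340 (c : Nat) : Nat := @Bool.rec (fun _ => Nat) (col7_338) (col7_339) (Nat.ble 339 c)
noncomputable def col7_s_337_340 (c : Nat) : Nat := @Bool.rec (fun _ => Nat) (col7_337) (col7_s_338_340 c) (Nat.ble 338 c)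
noncomputable def col7_s_334_340 (c : Nat) : Nat := @Bool.rec (fun _ => Nat) (col7_s_334_337 c) (col7_s_337_340 c) (Nat.ble 337 c)
noncomputable def col7_s_329_340 (c : Nat) : Nat := @Bool.rec (fun _ => Nat) (col7_s_329_334 c) (col7_s_334_340 c) (Nat.ble 334 c)
noncomputable def col7_s_341_343 (c : Nat) : Nat := @Bool.rec (fun _ => Nat) (col7_341) (col7_342) (Nat.ble 342 c)
noncomputable def col7_s_340_343 (c : Nat) : Nat := @Bool.rec (fun _ => Nat) (col7_340) (col7_s_341_343 c) (Nat.ble 341 c)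
noncomputable def col7_s_344_346 (c : Nat) : Nat := @Bool.rec (fun _ => Nat) (col7_344) (col7_345) (Nat.ble 345 c)
noncomputable def col7_s_343_346 (c : Nat) : Nat := @Bool.rec (fun _ => Nat) (col7_343) (col7_s_344_346 c) (Nat.ble 344 c)
noncomputable def col7_s_340_346 (c : Nat) : Nat := @Bool.rec (fun _ => Nat) (col7_s_340_343 c) (col7_s_343_346 c) (Nat.ble 343 c)
noncomputable def col7_s_347_349 (c : Nat) : Nat := @Bool.rec (fun _ => Nat) (col7_347) (col7_348) (Nat.ble 348 c)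
noncomputable def col7_s_346_349 (c : Nat) : Nat := @Bool.rec (fun _ => Nat) (col7_346) (col7_s_347_349 c) (Nat.ble 347 c)
noncomputable def col7_s_350_352 (c : Nat) : Nat := @Bool.rec (fun _ => Nat) (col7_350) (col7_351) (Nat.ble 351 c)
noncomputable def col7_s_349_352 (c : Nat) : Nat := @Bool.rec (fun _ => Nat) (col7_349) (col7_s_350_352 c) (Nat.ble 350 c)
noncomputable def col7_s_346_352 (c : Nat) : Nat := @Bool.rec (fun _ => Nat) (col7_s_346_349 c) (col7_s_349_352 c) (Nat.ble 349 c)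
noncomputable def col7_s_340_352 (c : Nat) : Nat := @Bool.rec (fun _ => Nat) (col7_s_340_346 c) (col7_s_346_352 c) (Nat.ble 346 c)
noncomputable def col7_s_329_352 (c : Nat) : Nat := @Bool.rec (fun _ => Nat) (col7_s_329_340 c) (col7_s_340_352 c) (Nat.ble 340 c)
noncomputable def col7_s_353_355 (c : Nat) : Nat := @Bool.rec (fun _ => Nat) (col7_353) (col7_354) (Nat.ble 354 c)
noncomputable def col7_s_352_355 (c : Nat) : Nat := @Bool.rec (fun _ => Nat) (col7_352) (col7_s_353_355 c) (Nat.ble 353 c)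
noncomputable def col7_s_356_358 (c : Nat) : Nat := @Bool.rec (fun _ => Nat) (col7_356) (col7_357) (Nat.ble 357 c)
noncomputable def col7_s_355_358 (c : Nat) : Nat := @Bool.rec (fun _ => Nat) (col7_355) (col7_s_356_358 c) (Nat.ble 356 c)
noncomputable def col7_s_352_358 (c : Nat) : Nat := @Bool.rec (fun _ => Nat) (col7_s_352_355 c) (col7_s_355_358 c) (Nat.ble 355 c)
noncomputable def col7_s_359_361 (c : Nat) : Nat := @Bool.rec (fun _ => Nat) (col7_359) (col7_360) (Nat.ble 360 c)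
noncomputable def col7_s_358_361 (c : Nat) : Nat := @Bool.rec (fun _ => Nat) (col7_358) (col7_s_359_361 c) (Nat.ble 359 c)
noncomputable def col7_s_362_364 (c : Nat) : Nat := @Bool.rec (fun _ => Nat) (col7_362) (col7_363) (Nat.ble 363 c)
noncomputable def col7_s_361_364 (c : Nat) : Nat := @Bool.rec (fun _ => Nat) (col7_361) (col7_s_362_364 c) (Nat.ble 362 c)
noncomputable def col7_s_358_364 (c : Nat) : Nat := @Bool.rec (fun _ => Nat) (col7_s_358_361 c) (col7_s_361_364 c) (Nat.ble 361 c)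
noncomputable def col7_s_352_364 (c : Nat) : Nat := @Bool.rec (fun _ => Nat) (col7_s_352_358 c) (col7_s_358_364 c) (Nat.ble 358 c)
noncomputable def col7_s_365_367 (c : Nat) : Nat := @Bool.rec (fun _ => Nat) (col7_365) (col7_366) (Nat.ble 366 c)
noncomputable def col7_s_364_367 (c : Nat) : Nat := @Bool.rec (fun _ => Nat) (col7_364) (col7_s_365_367 c) (Nat.ble 365 c)
noncomputable def col7_s_368_370 (c : Nat) : Nat := @Bool.rec (fun _ => Nat) (col7_368) (col7_369) (Nat.ble 369 c)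
noncomputable def col7_s_367_370 (c : Nat) : Nat := @Bool.rec (fun _ => Nat) (col7_367) (col7_s_368_370 c) (Nat.ble 368 c)
noncomputable def col7_s_364_370 (c : Nat) : Nat := @Bool.rec (fun _ => Nat) (col7_s_364_367 c) (col7_s_367_370 c) (Nat.ble 367 c)
noncomputable def col7_s_371_373 (c : Nat) : Nat := @Bool.rec (fun _ => Nat) (col7_371) (col7_372) (Nat.ble 372 c)
noncomputable def col7_s_370_373 (c : Nat) : Nat := @Bool.rec (fun _ => Nat) (col7_370) (col7_s_371_373 c) (Nat.ble 371 c)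
noncomputable def col7_s_374_376 (c : Nat) : Nat := @Bool.rec (fun _ => Nat) (col7_374) (col7_375) (Nat.ble 375 c)
noncomputable def col7_s_373_376 (c : Nat) : Nat := @Bool.rec (fun _ => Nat) (col7_373) (col7_s_374_376 c) (Nat.ble 374 c)
noncomputable def col7_s_370_376 (c : Nat) : Nat := @Bool.rec (fun _ => Nat) (col7_s_370_373 c) (col7_s_373_376 c) (Nat.ble 373 c)
noncomputable def col7_s_364_376 (c : Nat) : Nat := @Bool.rec (fun _ => Nat) (col7_s_364_370 c) (col7_s_370_376 c) (Nat.ble 370 c)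
noncomputable def col7_s_352_376 (c : Nat) : Nat := @Bool.rec (fun _ => Nat) (col7_s_352_364 c) (col7_s_364_376 c) (Nat.ble 364 c)
noncomputable def col7_s_329_376 (c : Nat) : Nat := @Bool.rec (fun _ => Nat) (col7_s_329_352 c) (col7_s_352_376 c) (Nat.ble 352 c)
noncomputable def col7_s_282_376 (c : Nat) : Nat := @Bool.rec (fun _ => Nat) (col7_s_282_329 c) (col7_s_329_376 c) (Nat.ble 329 c)
noncomputable def col7_s_188_376 (c : Nat) : Nat := @Bool.rec (fun _ => Nat) (col7_s_188_282 c) (col7_s_282_376 c) (Nat.ble 282 c)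
noncomputable def col7_s_0_376 (c : Nat) : Nat := @Bool.rec (fun _ => Nat) (col7_s_0_188 c) (col7_s_188_376 c) (Nat.ble 188 c)
noncomputable def col7 (i : Nat) : Nat := rdw 21 2097151 (col7_s_0_376 (Nat.shiftRight i 12)) (Nat.land i 4095)
noncomputable def finTab_s_0_2 (c : Nat) : Nat := @Bool.rec (fun _ => Nat) (finTab_0) (finTab_1) (Nat.ble 1 c)
noncomputable def finTab_s_3_5 (c : Nat) : Nat := @Bool.rec (fun _ => Nat) (finTab_3) (finTab_4) (Nat.ble 4 c)
noncomputable def finTab_s_2_5 (c : Nat) : Nat := @Bool.rec (fun _ => Nat) (finTab_2) (finTab_s_3_5 c) (Nat.ble 3 c)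
noncomputable def finTab_s_0_5 (c : Nat) : Nat := @Bool.rec (fun _ => Nat) (finTab_s_0_2 c) (finTab_s_2_5 c) (Nat.ble 2 c)
noncomputable def finTab_s_6_8 (c : Nat) : Nat := @Bool.rec (fun _ => Nat) (finTab_6) (finTab_7) (Nat.ble 7 c)
noncomputable def finTab_s_5_8 (c : Nat) : Nat := @Bool.rec (fun _ => Nat) (finTab_5) (finTab_s_6_8 c) (Nat.ble 6 c)
noncomputable def finTab_s_9_11 (c : Nat) : Nat := @Bool.rec (fun _ => Nat) (finTab_9) (finTab_10) (Nat.ble 10 c)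
noncomputable def finTab_s_8_11 (c : Nat) : Nat := @Bool.rec (fun _ => Nat) (finTab_8) (finTab_s_9_11 c) (Nat.ble 9 c)
noncomputable def finTab_s_5_11 (c : Nat) : Nat := @Bool.rec (fun _ => Nat) (finTab_s_5_8 c) (finTab_s_8_11 c) (Nat.ble 8 c)
noncomputable def finTab_s_0_11 (c : Nat) : Nat := @Bool.rec (fun _ => Nat) (finTab_s_0_5 c) (finTab_s_5_11 c) (Nat.ble 5 c)
noncomputable def finTab_s_12_14 (c : Nat) : Nat := @Bool.rec (fun _ => Nat) (finTab_12) (finTab_13) (Nat.ble 13 c)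
noncomputable def finTab_s_11_14 (c : Nat) : Nat := @Bool.rec (fun _ => Nat) (finTab_11) (finTab_s_12_14 c) (Nat.ble 12 c)
noncomputable def finTab_s_15_17 (c : Nat) : Nat := @Bool.rec (fun _ => Nat) (finTab_15) (finTab_16) (Nat.ble 16 c)
noncomputable def finTab_s_14_17 (c : Nat) : Nat := @Bool.rec (fun _ => Nat) (finTab_14) (finTab_s_15_17 c) (Nat.ble 15 c)
noncomputable def finTab_s_11_17 (c : Nat) : Nat := @Bool.rec (fun _ => Nat) (finTab_s_11_14 c) (finTab_s_14_17 c) (Nat.ble 14 c)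
noncomputable def finTab_s_18_20 (c : Nat) : Nat := @Bool.rec (fun _ => Nat) (finTab_18) (finTab_19) (Nat.ble 19 c)
noncomputable def finTab_s_17_20 (c : Nat) : Nat := @Bool.rec (fun _ => Nat) (finTab_17) (finTab_s_18_20 c) (Nat.ble 18 c)
noncomputable def finTab_s_21_23 (c : Nat) : Nat := @Bool.rec (fun _ => Nat) (finTab_21) (finTab_22) (Nat.ble 22 c)
noncomputable def finTab_s_20_23 (c : Nat) : Nat := @Bool.rec (fun _ => Nat) (finTab_20) (finTab_s_21_23 c) (Nat.ble 21 c)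
noncomputable def finTab_s_17_23 (c : Nat) : Nat := @Bool.rec (fun _ => Nat) (finTab_s_17_20 c) (finTab_s_20_23 c) (Nat.ble 20 c)
noncomputable def finTab_s_11_23 (c : Nat) : Nat := @Bool.rec (fun _ => Nat) (finTab_s_11_17 c) (finTab_s_17_23 c) (Nat.ble 17 c)
noncomputable def finTab_s_0_23 (c : Nat) : Nat := @Bool.rec (fun _ => Nat) (finTab_s_0_11 c) (finTab_s_11_23 c) (Nat.ble 11 c)
noncomputable def finTab_s_23_25 (c : Nat) : Nat := @Bool.rec (fun _ => Nat) (finTab_23) (finTab_24) (Nat.ble 24 c)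
noncomputable def finTab_s_26_28 (c : Nat) : Nat := @Bool.rec (fun _ => Nat) (finTab_26) (finTab_27) (Nat.ble 27 c)
noncomputable def finTab_s_25_28 (c : Nat) : Nat := @Bool.rec (fun _ => Nat) (finTab_25) (finTab_s_26_28 c) (Nat.ble 26 c)
noncomputable def finTab_s_23_28 (c : Nat) : Nat := @Bool.rec (fun _ => Nat) (finTab_s_23_25 c) (finTab_s_25_28 c) (Nat.ble 25 c)
noncomputable def finTab_s_29_31 (c : Nat) : Nat := @Bool.rec (fun _ => Nat) (finTab_29) (finTab_30) (Nat.ble 30 c)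
noncomputable def finTab_s_28_31 (c : Nat) : Nat := @Bool.rec (fun _ => Nat) (finTab_28) (finTab_s_29_31 c) (Nat.ble 29 c)
noncomputable def finTab_s_32_34 (c : Nat) : Nat := @Bool.rec (fun _ => Nat) (finTab_32) (finTab_33) (Nat.ble 33 c)
noncomputable def finTab_s_31_34 (c : Nat) : Nat := @Bool.rec (fun _ => Nat) (finTab_31) (finTab_s_32_34 c) (Nat.ble 32 c)
noncomputable def finTab_s_28_34 (c : Nat) : Nat := @Bool.rec (fun _ => Nat) (finTab_s_28_31 c) (finTab_s_31_34 c) (Nat.ble 31 c)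
noncomputable def finTab_s_23_34 (c : Nat) : Nat := @Bool.rec (fun _ => Nat) (finTab_s_23_28 c) (finTab_s_28_34 c) (Nat.ble 28 c)
noncomputable def finTab_s_35_37 (c : Nat) : Nat := @Bool.rec (fun _ => Nat) (finTab_35) (finTab_36) (Nat.ble 36 c)
noncomputable def finTab_s_34_37 (c : Nat) : Nat := @Bool.rec (fun _ => Nat) (finTab_34) (finTab_s_35_37 c) (Nat.ble 35 c)
noncomputable def finTab_s_38_40 (c : Nat) : Nat := @Bool.rec (fun _ => Nat) (finTab_38) (finTab_39) (Nat.ble 39 c)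
noncomputable def finTab_s_37_40 (c : Nat) : Nat := @Bool.rec (fun _ => Nat) (finTab_37) (finTab_s_38_40 c) (Nat.ble 38 c)
noncomputable def finTab_s_34_40 (c : Nat) : Nat := @Bool.rec (fun _ => Nat) (finTab_s_34_37 c) (finTab_s_37_40 c) (Nat.ble 37 c)
noncomputable def finTab_s_41_43 (c : Nat) : Nat := @Bool.rec (fun _ => Nat) (finTab_41) (finTab_42) (Nat.ble 42 c)
noncomputable def finTab_s_40_43 (c : Nat) : Nat := @Bool.rec (fun _ => Nat) (finTab_40) (finTab_s_41_43 c) (Nat.ble 41 c)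
noncomputable def finTab_s_44_46 (c : Nat) : Nat := @Bool.rec (fun _ => Nat) (finTab_44) (finTab_45) (Nat.ble 45 c)
noncomputable def finTab_s_43_46 (c : Nat) : Nat := @Bool.rec (fun _ => Nat) (finTab_43) (finTab_s_44_46 c) (Nat.ble 44 c)
noncomputable def finTab_s_40_46 (c : Nat) : Nat := @Bool.rec (fun _ => Nat) (finTab_s_40_43 c) (finTab_s_43_46 c) (Nat.ble 43 c)
noncomputable def finTab_s_34_46 (c : Nat) : Nat := @Bool.rec (fun _ => Nat) (finTab_s_34_40 c) (finTab_s_40_46 c) (Nat.ble 40 c)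
noncomputable def finTab_s_23_46 (c : Nat) : Nat := @Bool.rec (fun _ => Nat) (finTab_s_23_34 c) (finTab_s_34_46 c) (Nat.ble 34 c)
noncomputable def finTab_s_0_46 (c : Nat) : Nat := @Bool.rec (fun _ => Nat) (finTab_s_0_23 c) (finTab_s_23_46 c) (Nat.ble 23 c)
noncomputable def finTab_s_46_48 (c : Nat) : Nat := @Bool.rec (fun _ => Nat) (finTab_46) (finTab_47) (Nat.ble 47 c)
noncomputable def finTab_s_49_51 (c : Nat) : Nat := @Bool.rec (fun _ => Nat) (finTab_49) (finTab_50) (Nat.ble 50 c)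
noncomputable def finTab_s_48_51 (c : Nat) : Nat := @Bool.rec (fun _ => Nat) (finTab_48) (finTab_s_49_51 c) (Nat.ble 49 c)
noncomputable def finTab_s_46_51 (c : Nat) : Nat := @Bool.rec (fun _ => Nat) (finTab_s_46_48 c) (finTab_s_48_51 c) (Nat.ble 48 c)
noncomputable def finTab_s_52_54 (c : Nat) : Nat := @Bool.rec (fun _ => Nat) (finTab_52) (finTab_53) (Nat.ble 53 c)
noncomputable def finTab_s_51_54 (c : Nat) : Nat := @Bool.rec (fun _ => Nat) (finTab_51) (finTab_s_52_54 c) (Nat.ble 52 c)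
noncomputable def finTab_s_55_57 (c : Nat) : Nat := @Bool.rec (fun _ => Nat) (finTab_55) (finTab_56) (Nat.ble 56 c)
noncomputable def finTab_s_54_57 (c : Nat) : Nat := @Bool.rec (fun _ => Nat) (finTab_54) (finTab_s_55_57 c) (Nat.ble 55 c)
noncomputable def finTab_s_51_57 (c : Nat) : Nat := @Bool.rec (fun _ => Nat) (finTab_s_51_54 c) (finTab_s_54_57 c) (Nat.ble 54 c)
noncomputable def finTab_s_46_57 (c : Nat) : Nat := @Bool.rec (fun _ => Nat) (finTab_s_46_51 c) (finTab_s_51_57 c) (Nat.ble 51 c)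
noncomputable def finTab_s_58_60 (c : Nat) : Nat := @Bool.rec (fun _ => Nat) (finTab_58) (finTab_59) (Nat.ble 59 c)
noncomputable def finTab_s_57_60 (c : Nat) : Nat := @Bool.rec (fun _ => Nat) (finTab_57) (finTab_s_58_60 c) (Nat.ble 58 c)
noncomputable def finTab_s_61_63 (c : Nat) : Nat := @Bool.rec (fun _ => Nat) (finTab_61) (finTab_62) (Nat.ble 62 c)
noncomputable def finTab_s_60_63 (c : Nat) : Nat := @Bool.rec (fun _ => Nat) (finTab_60) (finTab_s_61_63 c) (Nat.ble 61 c)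
noncomputable def finTab_s_57_63 (c : Nat) : Nat := @Bool.rec (fun _ => Nat) (finTab_s_57_60 c) (finTab_s_60_63 c) (Nat.ble 60 c)
noncomputable def finTab_s_64_66 (c : Nat) : Nat := @Bool.rec (fun _ => Nat) (finTab_64) (finTab_65) (Nat.ble 65 c)
noncomputable def finTab_s_63_66 (c : Nat) : Nat := @Bool.rec (fun _ => Nat) (finTab_63) (finTab_s_64_66 c) (Nat.ble 64 c)
noncomputable def finTab_s_67_69 (c : Nat) : Nat := @Bool.rec (fun _ => Nat) (finTab_67) (finTab_68) (Nat.ble 68 c)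
noncomputable def finTab_s_66_69 (c : Nat) : Nat := @Bool.rec (fun _ => Nat) (finTab_66) (finTab_s_67_69 c) (Nat.ble 67 c)
noncomputable def finTab_s_63_69 (c : Nat) : Nat := @Bool.rec (fun _ => Nat) (finTab_s_63_66 c) (finTab_s_66_69 c) (Nat.ble 66 c)
noncomputable def finTab_s_57_69 (c : Nat) : Nat := @Bool.rec (fun _ => Nat) (finTab_s_57_63 c) (finTab_s_63_69 c) (Nat.ble 63 c)
noncomputable def finTab_s_46_69 (c : Nat) : Nat := @Bool.rec (fun _ => Nat) (finTab_s_46_57 c) (finTab_s_57_69 c) (Nat.ble 57 c)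
noncomputable def finTab_s_70_72 (c : Nat) : Nat := @Bool.rec (fun _ => Nat) (finTab_70) (finTab_71) (Nat.ble 71 c)
noncomputable def finTab_s_69_72 (c : Nat) : Nat := @Bool.rec (fun _ => Nat) (finTab_69) (finTab_s_70_72 c) (Nat.ble 70 c)
noncomputable def finTab_s_73_75 (c : Nat) : Nat := @Bool.rec (fun _ => Nat) (finTab_73) (finTab_74) (Nat.ble 74 c)
noncomputable def finTab_s_72_75 (c : Nat) : Nat := @Bool.rec (fun _ => Nat) (finTab_72) (finTab_s_73_75 c) (Nat.ble 73 c)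
noncomputable def finTab_s_69_75 (c : Nat) : Nat := @Bool.rec (fun _ => Nat) (finTab_s_69_72 c) (finTab_s_72_75 c) (Nat.ble 72 c)
noncomputable def finTab_s_76_78 (c : Nat) : Nat := @Bool.rec (fun _ => Nat) (finTab_76) (finTab_77) (Nat.ble 77 c)
noncomputable def finTab_s_75_78 (c : Nat) : Nat := @Bool.rec (fun _ => Nat) (finTab_75) (finTab_s_76_78 c) (Nat.ble 76 c)
noncomputable def finTab_s_79_81 (c : Nat) : Nat := @Bool.rec (fun _ => Nat) (finTab_79) (finTab_80) (Nat.ble 80 c)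
noncomputable def finTab_s_78_81 (c : Nat) : Nat := @Bool.rec (fun _ => Nat) (finTab_78) (finTab_s_79_81 c) (Nat.ble 79 c)
noncomputable def finTab_s_75_81 (c : Nat) : Nat := @Bool.rec (fun _ => Nat) (finTab_s_75_78 c) (finTab_s_78_81 c) (Nat.ble 78 c)
noncomputable def finTab_s_69_81 (c : Nat) : Nat := @Bool.rec (fun _ => Nat) (finTab_s_69_75 c) (finTab_s_75_81 c) (Nat.ble 75 c)
noncomputable def finTab_s_82_84 (c : Nat) : Nat := @Bool.rec (fun _ => Nat) (finTab_82) (finTab_83) (Nat.ble 83 c)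
noncomputable def finTab_s_81_84 (c : Nat) : Nat := @Bool.rec (fun _ => Nat) (finTab_81) (finTab_s_82_84 c) (Nat.ble 82 c)
noncomputable def finTab_s_85_87 (c : Nat) : Nat := @Bool.rec (fun _ => Nat) (finTab_85) (finTab_86) (Nat.ble 86 c)
noncomputable def finTab_s_84_87 (c : Nat) : Nat := @Bool.rec (fun _ => Nat) (finTab_84) (finTab_s_85_87 c) (Nat.ble 85 c)
noncomputable def finTab_s_81_87 (c : Nat) : Nat := @Bool.rec (fun _ => Nat) (finTab_s_81_84 c) (finTab_s_84_87 c) (Nat.ble 84 c)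
noncomputable def finTab_s_88_90 (c : Nat) : Nat := @Bool.rec (fun _ => Nat) (finTab_88) (finTab_89) (Nat.ble 89 c)
noncomputable def finTab_s_87_90 (c : Nat) : Nat := @Bool.rec (fun _ => Nat) (finTab_87) (finTab_s_88_90 c) (Nat.ble 88 c)
noncomputable def finTab_s_91_93 (c : Nat) : Nat := @Bool.rec (fun _ => Nat) (finTab_91) (finTab_92) (Nat.ble 92 c)
noncomputable def finTab_s_90_93 (c : Nat) : Nat := @Bool.rec (fun _ => Nat) (finTab_90) (finTab_s_91_93 c) (Nat.ble 91 c)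
noncomputable def finTab_s_87_93 (c : Nat) : Nat := @Bool.rec (fun _ => Nat) (finTab_s_87_90 c) (finTab_s_90_93 c) (Nat.ble 90 c)
noncomputable def finTab_s_81_93 (c : Nat) : Nat := @Bool.rec (fun _ => Nat) (finTab_s_81_87 c) (finTab_s_87_93 c) (Nat.ble 87 c)
noncomputable def finTab_s_69_93 (c : Nat) : Nat := @Bool.rec (fun _ => Nat) (finTab_s_69_81 c) (finTab_s_81_93 c) (Nat.ble 81 c)
noncomputable def finTab_s_46_93 (c : Nat) : Nat := @Bool.rec (fun _ => Nat) (finTab_s_46_69 c) (finTab_s_69_93 c) (Nat.ble 69 c)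
noncomputable def finTab_s_0_93 (c : Nat) : Nat := @Bool.rec (fun _ => Nat) (finTab_s_0_46 c) (finTab_s_46_93 c) (Nat.ble 46 c)
noncomputable def finTab_s_93_95 (c : Nat) : Nat := @Bool.rec (fun _ => Nat) (finTab_93) (finTab_94) (Nat.ble 94 c)
noncomputable def finTab_s_96_98 (c : Nat) : Nat := @Bool.rec (fun _ => Nat) (finTab_96) (finTab_97) (Nat.ble 97 c)
noncomputable def finTab_s_95_98 (c : Nat) : Nat := @Bool.rec (fun _ => Nat) (finTab_95) (finTab_s_96_98 c) (Nat.ble 96 c)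
noncomputable def finTab_s_93_98 (c : Nat) : Nat := @Bool.rec (fun _ => Nat) (finTab_s_93_95 c) (finTab_s_95_98 c) (Nat.ble 95 c)
noncomputable def finTab_s_99_101 (c : Nat) : Nat := @Bool.rec (fun _ => Nat) (finTab_99) (finTab_100) (Nat.ble 100 c)
noncomputable def finTab_s_98_101 (c : Nat) : Nat := @Bool.rec (fun _ => Nat) (finTab_98) (finTab_s_99_101 c) (Nat.ble 99 c)
noncomputable def finTab_s_102_104 (c : Nat) : Nat := @Bool.rec (fun _ => Nat) (finTab_102) (finTab_103) (Nat.ble 103 c)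
noncomputable def finTab_s_101_104 (c : Nat) : Nat := @Bool.rec (fun _ => Nat) (finTab_101) (finTab_s_102_104 c) (Nat.ble 102 c)
noncomputable def finTab_s_98_104 (c : Nat) : Nat := @Bool.rec (fun _ => Nat) (finTab_s_98_101 c) (finTab_s_101_104 c) (Nat.ble 101 c)
noncomputable def finTab_s_93_104 (c : Nat) : Nat := @Bool.rec (fun _ => Nat) (finTab_s_93_98 c) (finTab_s_98_104 c) (Nat.ble 98 c)
noncomputable def finTab_s_105_107 (c : Nat) : Nat := @Bool.rec (fun _ => Nat) (finTab_105) (finTab_106) (Nat.ble 106 c)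
noncomputable def finTab_s_104_107 (c : Nat) : Nat := @Bool.rec (fun _ => Nat) (finTab_104) (finTab_s_105_107 c) (Nat.ble 105 c)
noncomputable def finTab_s_108_110 (c : Nat) : Nat := @Bool.rec (fun _ => Nat) (finTab_108) (finTab_109) (Nat.ble 109 c)
noncomputable def finTab_s_107_110 (c : Nat) : Nat := @Bool.rec (fun _ => Nat) (finTab_107) (finTab_s_108_110 c) (Nat.ble 108 c)
noncomputable def finTab_s_104_110 (c : Nat) : Nat := @Bool.rec (fun _ => Nat) (finTab_s_104_107 c) (finTab_s_107_110 c) (Nat.ble 107 c)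
noncomputable def finTab_s_111_113 (c : Nat) : Nat := @Bool.rec (fun _ => Nat) (finTab_111) (finTab_112) (Nat.ble 112 c)
noncomputable def finTab_s_110_113 (c : Nat) : Nat := @Bool.rec (fun _ => Nat) (finTab_110) (finTab_s_111_113 c) (Nat.ble 111 c)
noncomputable def finTab_s_114_116 (c : Nat) : Nat := @Bool.rec (fun _ => Nat) (finTab_114) (finTab_115) (Nat.ble 115 c)
noncomputable def finTab_s_113_116 (c : Nat) : Nat := @Bool.rec (fun _ => Nat) (finTab_113) (finTab_s_114_116 c) (Nat.ble 114 c)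
noncomputable def finTab_s_110_116 (c : Nat) : Nat := @Bool.rec (fun _ => Nat) (finTab_s_110_113 c) (finTab_s_113_116 c) (Nat.ble 113 c)
noncomputable def finTab_s_104_116 (c : Nat) : Nat := @Bool.rec (fun _ => Nat) (finTab_s_104_110 c) (finTab_s_110_116 c) (Nat.ble 110 c)
noncomputable def finTab_s_93_116 (c : Nat) : Nat := @Bool.rec (fun _ => Nat) (finTab_s_93_104 c) (finTab_s_104_116 c) (Nat.ble 104 c)
noncomputable def finTab_s_117_119 (c : Nat) : Nat := @Bool.rec (fun _ => Nat) (finTab_117) (finTab_118) (Nat.ble 118 c)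
noncomputable def finTab_s_116_119 (c : Nat) : Nat := @Bool.rec (fun _ => Nat) (finTab_116) (finTab_s_117_119 c) (Nat.ble 117 c)
noncomputable def finTab_s_120_122 (c : Nat) : Nat := @Bool.rec (fun _ => Nat) (finTab_120) (finTab_121) (Nat.ble 121 c)
noncomputable def finTab_s_119_122 (c : Nat) : Nat := @Bool.rec (fun _ => Nat) (finTab_119) (finTab_s_120_122 c) (Nat.ble 120 c)
noncomputable def finTab_s_116_122 (c : Nat) : Nat := @Bool.rec (fun _ => Nat) (finTab_s_116_119 c) (finTab_s_119_122 c) (Nat.ble 119 c)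
noncomputable def finTab_s_123_125 (c : Nat) : Nat := @Bool.rec (fun _ => Nat) (finTab_123) (finTab_124) (Nat.ble 124 c)
noncomputable def finTab_s_122_125 (c : Nat) : Nat := @Bool.rec (fun _ => Nat) (finTab_122) (finTab_s_123_125 c) (Nat.ble 123 c)
noncomputable def finTab_s_126_128 (c : Nat) : Nat := @Bool.rec (fun _ => Nat) (finTab_126) (finTab_127) (Nat.ble 127 c)
noncomputable def finTab_s_125_128 (c : Nat) : Nat := @Bool.rec (fun _ => Nat) (finTab_125) (finTab_s_126_128 c) (Nat.ble 126 c)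
noncomputable def finTab_s_122_128 (c : Nat) : Nat := @Bool.rec (fun _ => Nat) (finTab_s_122_125 c) (finTab_s_125_128 c) (Nat.ble 125 c)
noncomputable def finTab_s_116_128 (c : Nat) : Nat := @Bool.rec (fun _ => Nat) (finTab_s_116_122 c) (finTab_s_122_128 c) (Nat.ble 122 c)
noncomputable def finTab_s_129_131 (c : Nat) : Nat := @Bool.rec (fun _ => Nat) (finTab_129) (finTab_130) (Nat.ble 130 c)
noncomputable def finTab_s_128_131 (c : Nat) : Nat := @Bool.rec (fun _ => Nat) (finTab_128) (finTab_s_129_131 c) (Nat.ble 129 c)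
noncomputable def finTab_s_132_134 (c : Nat) : Nat := @Bool.rec (fun _ => Nat) (finTab_132) (finTab_133) (Nat.ble 133 c)
noncomputable def finTab_s_131_134 (c : Nat) : Nat := @Bool.rec (fun _ => Nat) (finTab_131) (finTab_s_132_134 c) (Nat.ble 132 c)
noncomputable def finTab_s_128_134 (c : Nat) : Nat := @Bool.rec (fun _ => Nat) (finTab_s_128_131 c) (finTab_s_131_134 c) (Nat.ble 131 c)
noncomputable def finTab_s_135_137 (c : Nat) : Nat := @Bool.rec (fun _ => Nat) (finTab_135) (finTab_136) (Nat.ble 136 c)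
noncomputable def finTab_s_134_137 (c : Nat) : Nat := @Bool.rec (fun _ => Nat) (finTab_134) (finTab_s_135_137 c) (Nat.ble 135 c)
noncomputable def finTab_s_138_140 (c : Nat) : Nat := @Bool.rec (fun _ => Nat) (finTab_138) (finTab_139) (Nat.ble 139 c)
noncomputable def finTab_s_137_140 (c : Nat) : Nat := @Bool.rec (fun _ => Nat) (finTab_137) (finTab_s_138_140 c) (Nat.ble 138 c)
noncomputable def finTab_s_134_140 (c : Nat) : Nat := @Bool.rec (fun _ => Nat) (finTab_s_134_137 c) (finTab_s_137_140 c) (Nat.ble 137 c)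
noncomputable def finTab_s_128_140 (c : Nat) : Nat := @Bool.rec (fun _ => Nat) (finTab_s_128_134 c) (finTab_s_134_140 c) (Nat.ble 134 c)
noncomputable def finTab_s_116_140 (c : Nat) : Nat := @Bool.rec (fun _ => Nat) (finTab_s_116_128 c) (finTab_s_128_140 c) (Nat.ble 128 c)
noncomputable def finTab_s_93_140 (c : Nat) : Nat := @Bool.rec (fun _ => Nat) (finTab_s_93_116 c) (finTab_s_116_140 c) (Nat.ble 116 c)
noncomputable def finTab_s_140_142 (c : Nat) : Nat := @Bool.rec (fun _ => Nat) (finTab_140) (finTab_141) (Nat.ble 141 c)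
noncomputable def finTab_s_143_145 (c : Nat) : Nat := @Bool.rec (fun _ => Nat) (finTab_143) (finTab_144) (Nat.ble 144 c)
noncomputable def finTab_s_142_145 (c : Nat) : Nat := @Bool.rec (fun _ => Nat) (finTab_142) (finTab_s_143_145 c) (Nat.ble 143 c)
noncomputable def finTab_s_140_145 (c : Nat) : Nat := @Bool.rec (fun _ => Nat) (finTab_s_140_142 c) (finTab_s_142_145 c) (Nat.ble 142 c)
noncomputable def finTab_s_146_148 (c : Nat) : Nat := @Bool.rec (fun _ => Nat) (finTab_146) (finTab_147) (Nat.ble 147 c)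
noncomputable def finTab_s_145_148 (c : Nat) : Nat := @Bool.rec (fun _ => Nat) (finTab_145) (finTab_s_146_148 c) (Nat.ble 146 c)
noncomputable def finTab_s_149_151 (c : Nat) : Nat := @Bool.rec (fun _ => Nat) (finTab_149) (finTab_150) (Nat.ble 150 c)
noncomputable def finTab_s_148_151 (c : Nat) : Nat := @Bool.rec (fun _ => Nat) (finTab_148) (finTab_s_149_151 c) (Nat.ble 149 c)
noncomputable def finTab_s_145_151 (c : Nat) : Nat := @Bool.rec (fun _ => Nat) (finTab_s_145_148 c) (finTab_s_148_151 c) (Nat.ble 148 c)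
noncomputable def finTab_s_140_151 (c : Nat) : Nat := @Bool.rec (fun _ => Nat) (finTab_s_140_145 c) (finTab_s_145_151 c) (Nat.ble 145 c)
noncomputable def finTab_s_152_154 (c : Nat) : Nat := @Bool.rec (fun _ => Nat) (finTab_152) (finTab_153) (Nat.ble 153 c)
noncomputable def finTab_s_151_154 (c : Nat) : Nat := @Bool.rec (fun _ => Nat) (finTab_151) (finTab_s_152_154 c) (Nat.ble 152 c)
noncomputable def finTab_s_155_157 (c : Nat) : Nat := @Bool.rec (fun _ => Nat) (finTab_155) (finTab_156) (Nat.ble 156 c)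
noncomputable def finTab_s_154_157 (c : Nat) : Nat := @Bool.rec (fun _ => Nat) (finTab_154) (finTab_s_155_157 c) (Nat.ble 155 c)
noncomputable def finTab_s_151_157 (c : Nat) : Nat := @Bool.rec (fun _ => Nat) (finTab_s_151_154 c) (finTab_s_154_157 c) (Nat.ble 154 c)
noncomputable def finTab_s_158_160 (c : Nat) : Nat := @Bool.rec (fun _ => Nat) (finTab_158) (finTab_159) (Nat.ble 159 c)
noncomputable def finTab_s_157_160 (c : Nat) : Nat := @Bool.rec (fun _ => Nat) (finTab_157) (finTab_s_158_160 c) (Nat.ble 158 c)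
noncomputable def finTab_s_161_163 (c : Nat) : Nat := @Bool.rec (fun _ => Nat) (finTab_161) (finTab_162) (Nat.ble 162 c)
noncomputable def finTab_s_160_163 (c : Nat) : Nat := @Bool.rec (fun _ => Nat) (finTab_160) (finTab_s_161_163 c) (Nat.ble 161 c)
noncomputable def finTab_s_157_163 (c : Nat) : Nat := @Bool.rec (fun _ => Nat) (finTab_s_157_160 c) (finTab_s_160_163 c) (Nat.ble 160 c)
noncomputable def finTab_s_151_163 (c : Nat) : Nat := @Bool.rec (fun _ => Nat) (finTab_s_151_157 c) (finTab_s_157_163 c) (Nat.ble 157 c)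
noncomputable def finTab_s_140_163 (c : Nat) : Nat := @Bool.rec (fun _ => Nat) (finTab_s_140_151 c) (finTab_s_151_163 c) (Nat.ble 151 c)
noncomputable def finTab_s_164_166 (c : Nat) : Nat := @Bool.rec (fun _ => Nat) (finTab_164) (finTab_165) (Nat.ble 165 c)
noncomputable def finTab_s_163_166 (c : Nat) : Nat := @Bool.rec (fun _ => Nat) (finTab_163) (finTab_s_164_166 c) (Nat.ble 164 c)
noncomputable def finTab_s_167_169 (c : Nat) : Nat := @Bool.rec (fun _ => Nat) (finTab_167) (finTab_168) (Nat.ble 168 c)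
noncomputable def finTab_s_166_169 (c : Nat) : Nat := @Bool.rec (fun _ => Nat) (finTab_166) (finTab_s_167_169 c) (Nat.ble 167 c)
noncomputable def finTab_s_163_169 (c : Nat) : Nat := @Bool.rec (fun _ => Nat) (finTab_s_163_166 c) (finTab_s_166_169 c) (Nat.ble 166 c)
noncomputable def finTab_s_170_172 (c : Nat) : Nat := @Bool.rec (fun _ => Nat) (finTab_170) (finTab_171) (Nat.ble 171 c)
noncomputable def finTab_s_169_172 (c : Nat) : Nat := @Bool.rec (fun _ => Nat) (finTab_169) (finTab_s_170_172 c) (Nat.ble 170 c)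
noncomputable def finTab_s_173_175 (c : Nat) : Nat := @Bool.rec (fun _ => Nat) (finTab_173) (finTab_174) (Nat.ble 174 c)
noncomputable def finTab_s_172_175 (c : Nat) : Nat := @Bool.rec (fun _ => Nat) (finTab_172) (finTab_s_173_175 c) (Nat.ble 173 c)
noncomputable def finTab_s_169_175 (c : Nat) : Nat := @Bool.rec (fun _ => Nat) (finTab_s_169_172 c) (finTab_s_172_175 c) (Nat.ble 172 c)
noncomputable def finTab_s_163_175 (c : Nat) : Nat := @Bool.rec (fun _ => Nat) (finTab_s_163_169 c) (finTab_s_169_175 c) (Nat.ble 169 c)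
noncomputable def finTab_s_176_178 (c : Nat) : Nat := @Bool.rec (fun _ => Nat) (finTab_176) (finTab_177) (Nat.ble 177 c)
noncomputable def finTab_s_175_178 (c : Nat) : Nat := @Bool.rec (fun _ => Nat) (finTab_175) (finTab_s_176_178 c) (Nat.ble 176 c)
noncomputable def finTab_s_179_181 (c : Nat) : Nat := @Bool.rec (fun _ => Nat) (finTab_179) (finTab_180) (Nat.ble 180 c)
noncomputable def finTab_s_178_181 (c : Nat) : Nat := @Bool.rec (fun _ => Nat) (finTab_178) (finTab_s_179_181 c) (Nat.ble 179 c)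
noncomputable def finTab_s_175_181 (c : Nat) : Nat := @Bool.rec (fun _ => Nat) (finTab_s_175_178 c) (finTab_s_178_181 c) (Nat.ble 178 c)
noncomputable def finTab_s_182_184 (c : Nat) : Nat := @Bool.rec (fun _ => Nat) (finTab_182) (finTab_183) (Nat.ble 183 c)
noncomputable def finTab_s_181_184 (c : Nat) : Nat := @Bool.rec (fun _ => Nat) (finTab_181) (finTab_s_182_184 c) (Nat.ble 182 c)
noncomputable def finTab_s_185_187 (c : Nat) : Nat := @Bool.rec (fun _ => Nat) (finTab_185) (finTab_186) (Nat.ble 186 c)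
noncomputable def finTab_s_184_187 (c : Nat) : Nat := @Bool.rec (fun _ => Nat) (finTab_184) (finTab_s_185_187 c) (Nat.ble 185 c)
noncomputable def finTab_s_181_187 (c : Nat) : Nat := @Bool.rec (fun _ => Nat) (finTab_s_181_184 c) (finTab_s_184_187 c) (Nat.ble 184 c)
noncomputable def finTab_s_175_187 (c : Nat) : Nat := @Bool.rec (fun _ => Nat) (finTab_s_175_181 c) (finTab_s_181_187 c) (Nat.ble 181 c)
noncomputable def finTab_s_163_187 (c : Nat) : Nat := @Bool.rec (fun _ => Nat) (finTab_s_163_175 c) (finTab_s_175_187 c) (Nat.ble 175 c)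
noncomputable def finTab_s_140_187 (c : Nat) : Nat := @Bool.rec (fun _ => Nat) (finTab_s_140_163 c) (finTab_s_163_187 c) (Nat.ble 163 c)
noncomputable def finTab_s_93_187 (c : Nat) : Nat := @Bool.rec (fun _ => Nat) (finTab_s_93_140 c) (finTab_s_140_187 c) (Nat.ble 140 c)
noncomputable def finTab_s_0_187 (c : Nat) : Nat := @Bool.rec (fun _ => Nat) (finTab_s_0_93 c) (finTab_s_93_187 c) (Nat.ble 93 c)
noncomputable def finTab_s_187_189 (c : Nat) : Nat := @Bool.rec (fun _ => Nat) (finTab_187) (finTab_188) (Nat.ble 188 c)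
noncomputable def finTab_s_190_192 (c : Nat) : Nat := @Bool.rec (fun _ => Nat) (finTab_190) (finTab_191) (Nat.ble 191 c)
noncomputable def finTab_s_189_192 (c : Nat) : Nat := @Bool.rec (fun _ => Nat) (finTab_189) (finTab_s_190_192 c) (Nat.ble 190 c)
noncomputable def finTab_s_187_192 (c : Nat) : Nat := @Bool.rec (fun _ => Nat) (finTab_s_187_189 c) (finTab_s_189_192 c) (Nat.ble 189 c)
noncomputable def finTab_s_193_195 (c : Nat) : Nat := @Bool.rec (fun _ => Nat) (finTab_193) (finTab_194) (Nat.ble 194 c)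
noncomputable def finTab_s_192_195 (c : Nat) : Nat := @Bool.rec (fun _ => Nat) (finTab_192) (finTab_s_193_195 c) (Nat.ble 193 c)
noncomputable def finTab_s_196_198 (c : Nat) : Nat := @Bool.rec (fun _ => Nat) (finTab_196) (finTab_197) (Nat.ble 197 c)
noncomputable def finTab_s_195_198 (c : Nat) : Nat := @Bool.rec (fun _ => Nat) (finTab_195) (finTab_s_196_198 c) (Nat.ble 196 c)
noncomputable def finTab_s_192_198 (c : Nat) : Nat := @Bool.rec (fun _ => Nat) (finTab_s_192_195 c) (finTab_s_195_198 c) (Nat.ble 195 c)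
noncomputable def finTab_s_187_198 (c : Nat) : Nat := @Bool.rec (fun _ => Nat) (finTab_s_187_192 c) (finTab_s_192_198 c) (Nat.ble 192 c)
noncomputable def finTab_s_199_201 (c : Nat) : Nat := @Bool.rec (fun _ => Nat) (finTab_199) (finTab_200) (Nat.ble 200 c)
noncomputable def finTab_s_198_201 (c : Nat) : Nat := @Bool.rec (fun _ => Nat) (finTab_198) (finTab_s_199_201 c) (Nat.ble 199 c)
noncomputable def finTab_s_202_204 (c : Nat) : Nat := @Bool.rec (fun _ => Nat) (finTab_202) (finTab_203) (Nat.ble 203 c)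
noncomputable def finTab_s_201_204 (c : Nat) : Nat := @Bool.rec (fun _ => Nat) (finTab_201) (finTab_s_202_204 c) (Nat.ble 202 c)
noncomputable def finTab_s_198_204 (c : Nat) : Nat := @Bool.rec (fun _ => Nat) (finTab_s_198_201 c) (finTab_s_201_204 c) (Nat.ble 201 c)
noncomputable def finTab_s_205_207 (c : Nat) : Nat := @Bool.rec (fun _ => Nat) (finTab_205) (finTab_206) (Nat.ble 206 c)
noncomputable def finTab_s_204_207 (c : Nat) : Nat := @Bool.rec (fun _ => Nat) (finTab_204) (finTab_s_205_207 c) (Nat.ble 205 c)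
noncomputable def finTab_s_208_210 (c : Nat) : Nat := @Bool.rec (fun _ => Nat) (finTab_208) (finTab_209) (Nat.ble 209 c)
noncomputable def finTab_s_207_210 (c : Nat) : Nat := @Bool.rec (fun _ => Nat) (finTab_207) (finTab_s_208_210 c) (Nat.ble 208 c)
noncomputable def finTab_s_204_210 (c : Nat) : Nat := @Bool.rec (fun _ => Nat) (finTab_s_204_207 c) (finTab_s_207_210 c) (Nat.ble 207 c)
noncomputable def finTab_s_198_210 (c : Nat) : Nat := @Bool.rec (fun _ => Nat) (finTab_s_198_204 c) (finTab_s_204_210 c) (Nat.ble 204 c)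
noncomputable def finTab_s_187_210 (c : Nat) : Nat := @Bool.rec (fun _ => Nat) (finTab_s_187_198 c) (finTab_s_198_210 c) (Nat.ble 198 c)
noncomputable def finTab_s_211_213 (c : Nat) : Nat := @Bool.rec (fun _ => Nat) (finTab_211) (finTab_212) (Nat.ble 212 c)
noncomputable def finTab_s_210_213 (c : Nat) : Nat := @Bool.rec (fun _ => Nat) (finTab_210) (finTab_s_211_213 c) (Nat.ble 211 c)
noncomputable def finTab_s_214_216 (c : Nat) : Nat := @Bool.rec (fun _ => Nat) (finTab_214) (finTab_215) (Nat.ble 215 c)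
noncomputable def finTab_s_213_216 (c : Nat) : Nat := @Bool.rec (fun _ => Nat) (finTab_213) (finTab_s_214_216 c) (Nat.ble 214 c)
noncomputable def finTab_s_210_216 (c : Nat) : Nat := @Bool.rec (fun _ => Nat) (finTab_s_210_213 c) (finTab_s_213_216 c) (Nat.ble 213 c)
noncomputable def finTab_s_217_219 (c : Nat) : Nat := @Bool.rec (fun _ => Nat) (finTab_217) (finTab_218) (Nat.ble 218 c)
noncomputable def finTab_s_216_219 (c : Nat) : Nat := @Bool.rec (fun _ => Nat) (finTab_216) (finTab_s_217_219 c) (Nat.ble 217 c)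
noncomputable def finTab_s_220_222 (c : Nat) : Nat := @Bool.rec (fun _ => Nat) (finTab_220) (finTab_221) (Nat.ble 221 c)
noncomputable def finTab_s_219_222 (c : Nat) : Nat := @Bool.rec (fun _ => Nat) (finTab_219) (finTab_s_220_222 c) (Nat.ble 220 c)
noncomputable def finTab_s_216_222 (c : Nat) : Nat := @Bool.rec (fun _ => Nat) (finTab_s_216_219 c) (finTab_s_219_222 c) (Nat.ble 219 c)
noncomputable def finTab_s_210_222 (c : Nat) : Nat := @Bool.rec (fun _ => Nat) (finTab_s_210_216 c) (finTab_s_216_222 c) (Nat.ble 216 c)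
noncomputable def finTab_s_223_225 (c : Nat) : Nat := @Bool.rec (fun _ => Nat) (finTab_223) (finTab_224) (Nat.ble 224 c)
noncomputable def finTab_s_222_225 (c : Nat) : Nat := @Bool.rec (fun _ => Nat) (finTab_222) (finTab_s_223_225 c) (Nat.ble 223 c)
noncomputable def finTab_s_226_228 (c : Nat) : Nat := @Bool.rec (fun _ => Nat) (finTab_226) (finTab_227) (Nat.ble 227 c)
noncomputable def finTab_s_225_228 (c : Nat) : Nat := @Bool.rec (fun _ => Nat) (finTab_225) (finTab_s_226_228 c) (Nat.ble 226 c)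
noncomputable def finTab_s_222_228 (c : Nat) : Nat := @Bool.rec (fun _ => Nat) (finTab_s_222_225 c) (finTab_s_225_228 c) (Nat.ble 225 c)
noncomputable def finTab_s_229_231 (c : Nat) : Nat := @Bool.rec (fun _ => Nat) (finTab_229) (finTab_230) (Nat.ble 230 c)
noncomputable def finTab_s_228_231 (c : Nat) : Nat := @Bool.rec (fun _ => Nat) (finTab_228) (finTab_s_229_231 c) (Nat.ble 229 c)
noncomputable def finTab_s_232_234 (c : Nat) : Nat := @Bool.rec (fun _ => Nat) (finTab_232) (finTab_233) (Nat.ble 233 c)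
noncomputable def finTab_s_231_234 (c : Nat) : Nat := @Bool.rec (fun _ => Nat) (finTab_231) (finTab_s_232_234 c) (Nat.ble 232 c)
noncomputable def finTab_s_228_234 (c : Nat) : Nat := @Bool.rec (fun _ => Nat) (finTab_s_228_231 c) (finTab_s_231_234 c) (Nat.ble 231 c)
noncomputable def finTab_s_222_234 (c : Nat) : Nat := @Bool.rec (fun _ => Nat) (finTab_s_222_228 c) (finTab_s_228_234 c) (Nat.ble 228 c)
noncomputable def finTab_s_210_234 (c : Nat) : Nat := @Bool.rec (fun _ => Nat) (finTab_s_210_222 c) (finTab_s_222_234 c) (Nat.ble 222 c)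
noncomputable def finTab_s_187_234 (c : Nat) : Nat := @Bool.rec (fun _ => Nat) (finTab_s_187_210 c) (finTab_s_210_234 c) (Nat.ble 210 c)
noncomputable def finTab_s_234_236 (c : Nat) : Nat := @Bool.rec (fun _ => Nat) (finTab_234) (finTab_235) (Nat.ble 235 c)
noncomputable def finTab_s_237_239 (c : Nat) : Nat := @Bool.rec (fun _ => Nat) (finTab_237) (finTab_238) (Nat.ble 238 c)
noncomputable def finTab_s_236_239 (c : Nat) : Nat := @Bool.rec (fun _ => Nat) (finTab_236) (finTab_s_237_239 c) (Nat.ble 237 c)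
noncomputable def finTab_s_234_239 (c : Nat) : Nat := @Bool.rec (fun _ => Nat) (finTab_s_234_236 c) (finTab_s_236_239 c) (Nat.ble 236 c)
noncomputable def finTab_s_240_242 (c : Nat) : Nat := @Bool.rec (fun _ => Nat) (finTab_240) (finTab_241) (Nat.ble 241 c)
noncomputable def finTab_s_239_242 (c : Nat) : Nat := @Bool.rec (fun _ => Nat) (finTab_239) (finTab_s_240_242 c) (Nat.ble 240 c)
noncomputable def finTab_s_243_245 (c : Nat) : Nat := @Bool.rec (fun _ => Nat) (finTab_243) (finTab_244) (Nat.ble 244 c)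
noncomputable def finTab_s_242_245 (c : Nat) : Nat := @Bool.rec (fun _ => Nat) (finTab_242) (finTab_s_243_245 c) (Nat.ble 243 c)
noncomputable def finTab_s_239_245 (c : Nat) : Nat := @Bool.rec (fun _ => Nat) (finTab_s_239_242 c) (finTab_s_242_245 c) (Nat.ble 242 c)
noncomputable def finTab_s_234_245 (c : Nat) : Nat := @Bool.rec (fun _ => Nat) (finTab_s_234_239 c) (finTab_s_239_245 c) (Nat.ble 239 c)
noncomputable def finTab_s_246_248 (c : Nat) : Nat := @Bool.rec (fun _ => Nat) (finTab_246) (finTab_247) (Nat.ble 247 c)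
noncomputable def finTab_s_245_248 (c : Nat) : Nat := @Bool.rec (fun _ => Nat) (finTab_245) (finTab_s_246_248 c) (Nat.ble 246 c)
noncomputable def finTab_s_249_251 (c : Nat) : Nat := @Bool.rec (fun _ => Nat) (finTab_249) (finTab_250) (Nat.ble 250 c)
noncomputable def finTab_s_248_251 (c : Nat) : Nat := @Bool.rec (fun _ => Nat) (finTab_248) (finTab_s_249_251 c) (Nat.ble 249 c)
noncomputable def finTab_s_245_251 (c : Nat) : Nat := @Bool.rec (fun _ => Nat) (finTab_s_245_248 c) (finTab_s_248_251 c) (Nat.ble 248 c)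
noncomputable def finTab_s_252_254 (c : Nat) : Nat := @Bool.rec (fun _ => Nat) (finTab_252) (finTab_253) (Nat.ble 253 c)
noncomputable def finTab_s_251_254 (c : Nat) : Nat := @Bool.rec (fun _ => Nat) (finTab_251) (finTab_s_252_254 c) (Nat.ble 252 c)
noncomputable def finTab_s_255_257 (c : Nat) : Nat := @Bool.rec (fun _ => Nat) (finTab_255) (finTab_256) (Nat.ble 256 c)
noncomputable def finTab_s_254_257 (c : Nat) : Nat := @Bool.rec (fun _ => Nat) (finTab_254) (finTab_s_255_257 c) (Nat.ble 255 c)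
noncomputable def finTab_s_251_257 (c : Nat) : Nat := @Bool.rec (fun _ => Nat) (finTab_s_251_254 c) (finTab_s_254_257 c) (Nat.ble 254 c)
noncomputable def finTab_s_245_257 (c : Nat) : Nat := @Bool.rec (fun _ => Nat) (finTab_s_245_251 c) (finTab_s_251_257 c) (Nat.ble 251 c)
noncomputable def finTab_s_234_257 (c : Nat) : Nat := @Bool.rec (fun _ => Nat) (finTab_s_234_245 c) (finTab_s_245_257 c) (Nat.ble 245 c)
noncomputable def finTab_s_258_260 (c : Nat) : Nat := @Bool.rec (fun _ => Nat) (finTab_258) (finTab_259) (Nat.ble 259 c)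
noncomputable def finTab_s_257_260 (c : Nat) : Nat := @Bool.rec (fun _ => Nat) (finTab_257) (finTab_s_258_260 c) (Nat.ble 258 c)
noncomputable def finTab_s_261_263 (c : Nat) : Nat := @Bool.rec (fun _ => Nat) (finTab_261) (finTab_262) (Nat.ble 262 c)
noncomputable def finTab_s_260_263 (c : Nat) : Nat := @Bool.rec (fun _ => Nat) (finTab_260) (finTab_s_261_263 c) (Nat.ble 261 c)
noncomputable def finTab_s_257_263 (c : Nat) : Nat := @Bool.rec (fun _ => Nat) (finTab_s_257_260 c) (finTab_s_260_263 c) (Nat.ble 260 c)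
noncomputable def finTab_s_264_266 (c : Nat) : Nat := @Bool.rec (fun _ => Nat) (finTab_264) (finTab_265) (Nat.ble 265 c)
noncomputable def finTab_s_263_266 (c : Nat) : Nat := @Bool.rec (fun _ => Nat) (finTab_263) (finTab_s_264_266 c) (Nat.ble 264 c)
noncomputable def finTab_s_267_269 (c : Nat) : Nat := @Bool.rec (fun _ => Nat) (finTab_267) (finTab_268) (Nat.ble 268 c)
noncomputable def finTab_s_266_269 (c : Nat) : Nat := @Bool.rec (fun _ => Nat) (finTab_266) (finTab_s_267_269 c) (Nat.ble 267 c)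
noncomputable def finTab_s_263_269 (c : Nat) : Nat := @Bool.rec (fun _ => Nat) (finTab_s_263_266 c) (finTab_s_266_269 c) (Nat.ble 266 c)
noncomputable def finTab_s_257_269 (c : Nat) : Nat := @Bool.rec (fun _ => Nat) (finTab_s_257_263 c) (finTab_s_263_269 c) (Nat.ble 263 c)
noncomputable def finTab_s_270_272 (c : Nat) : Nat := @Bool.rec (fun _ => Nat) (finTab_270) (finTab_271) (Nat.ble 271 c)
noncomputable def finTab_s_269_272 (c : Nat) : Nat := @Bool.rec (fun _ => Nat) (finTab_269) (finTab_s_270_272 c) (Nat.ble 270 c)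
noncomputable def finTab_s_273_275 (c : Nat) : Nat := @Bool.rec (fun _ => Nat) (finTab_273) (finTab_274) (Nat.ble 274 c)
noncomputable def finTab_s_272_275 (c : Nat) : Nat := @Bool.rec (fun _ => Nat) (finTab_272) (finTab_s_273_275 c) (Nat.ble 273 c)
noncomputable def finTab_s_269_275 (c : Nat) : Nat := @Bool.rec (fun _ => Nat) (finTab_s_269_272 c) (finTab_s_272_275 c) (Nat.ble 272 c)
noncomputable def finTab_s_276_278 (c : Nat) : Nat := @Bool.rec (fun _ => Nat) (finTab_276) (finTab_277) (Nat.ble 277 c)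
noncomputable def finTab_s_275_278 (c : Nat) : Nat := @Bool.rec (fun _ => Nat) (finTab_275) (finTab_s_276_278 c) (Nat.ble 276 c)
noncomputable def finTab_s_279_281 (c : Nat) : Nat := @Bool.rec (fun _ => Nat) (finTab_279) (finTab_280) (Nat.ble 280 c)
noncomputable def finTab_s_278_281 (c : Nat) : Nat := @Bool.rec (fun _ => Nat) (finTab_278) (finTab_s_279_281 c) (Nat.ble 279 c)
noncomputable def finTab_s_275_281 (c : Nat) : Nat := @Bool.rec (fun _ => Nat) (finTab_s_275_278 c) (finTab_s_278_281 c) (Nat.ble 278 c)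
noncomputable def finTab_s_269_281 (c : Nat) : Nat := @Bool.rec (fun _ => Nat) (finTab_s_269_275 c) (finTab_s_275_281 c) (Nat.ble 275 c)
noncomputable def finTab_s_257_281 (c : Nat) : Nat := @Bool.rec (fun _ => Nat) (finTab_s_257_269 c) (finTab_s_269_281 c) (Nat.ble 269 c)
noncomputable def finTab_s_234_281 (c : Nat) : Nat := @Bool.rec (fun _ => Nat) (finTab_s_234_257 c) (finTab_s_257_281 c) (Nat.ble 257 c)
noncomputable def finTab_s_187_281 (c : Nat) : Nat := @Bool.rec (fun _ => Nat) (finTab_s_187_234 c) (finTab_s_234_281 c) (Nat.ble 234 c)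
noncomputable def finTab_s_281_283 (c : Nat) : Nat := @Bool.rec (fun _ => Nat) (finTab_281) (finTab_282) (Nat.ble 282 c)
noncomputable def finTab_s_284_286 (c : Nat) : Nat := @Bool.rec (fun _ => Nat) (finTab_284) (finTab_285) (Nat.ble 285 c)
noncomputable def finTab_s_283_286 (c : Nat) : Nat := @Bool.rec (fun _ => Nat) (finTab_283) (finTab_s_284_286 c) (Nat.ble 284 c)
noncomputable def finTab_s_281_286 (c : Nat) : Nat := @Bool.rec (fun _ => Nat) (finTab_s_281_283 c) (finTab_s_283_286 c) (Nat.ble 283 c)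
noncomputable def finTab_s_287_289 (c : Nat) : Nat := @Bool.rec (fun _ => Nat) (finTab_287) (finTab_288) (Nat.ble 288 c)
noncomputable def finTab_s_286_289 (c : Nat) : Nat := @Bool.rec (fun _ => Nat) (finTab_286) (finTab_s_287_289 c) (Nat.ble 287 c)
noncomputable def finTab_s_290_292 (c : Nat) : Nat := @Bool.rec (fun _ => Nat) (finTab_290) (finTab_291) (Nat.ble 291 c)
noncomputable def finTab_s_289_292 (c : Nat) : Nat := @Bool.rec (fun _ => Nat) (finTab_289) (finTab_s_290_292 c) (Nat.ble 290 c)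
noncomputable def finTab_s_286_292 (c : Nat) : Nat := @Bool.rec (fun _ => Nat) (finTab_s_286_289 c) (finTab_s_289_292 c) (Nat.ble 289 c)
noncomputable def finTab_s_281_292 (c : Nat) : Nat := @Bool.rec (fun _ => Nat) (finTab_s_281_286 c) (finTab_s_286_292 c) (Nat.ble 286 c)
noncomputable def finTab_s_293_295 (c : Nat) : Nat := @Bool.rec (fun _ => Nat) (finTab_293) (finTab_294) (Nat.ble 294 c)
noncomputable def finTab_s_292_295 (c : Nat) : Nat := @Bool.rec (fun _ => Nat) (finTab_292) (finTab_s_293_295 c) (Nat.ble 293 c)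
noncomputable def finTab_s_296_298 (c : Nat) : Nat := @Bool.rec (fun _ => Nat) (finTab_296) (finTab_297) (Nat.ble 297 c)
noncomputable def finTab_s_295_298 (c : Nat) : Nat := @Bool.rec (fun _ => Nat) (finTab_295) (finTab_s_296_298 c) (Nat.ble 296 c)
noncomputable def finTab_s_292_298 (c : Nat) : Nat := @Bool.rec (fun _ => Nat) (finTab_s_292_295 c) (finTab_s_295_298 c) (Nat.ble 295 c)
noncomputable def finTab_s_299_301 (c : Nat) : Nat := @Bool.rec (fun _ => Nat) (finTab_299) (finTab_300) (Nat.ble 300 c)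
noncomputable def finTab_s_298_301 (c : Nat) : Nat := @Bool.rec (fun _ => Nat) (finTab_298) (finTab_s_299_301 c) (Nat.ble 299 c)
noncomputable def finTab_s_302_304 (c : Nat) : Nat := @Bool.rec (fun _ => Nat) (finTab_302) (finTab_303) (Nat.ble 303 c)
noncomputable def finTab_s_301_304 (c : Nat) : Nat := @Bool.rec (fun _ => Nat) (finTab_301) (finTab_s_302_304 c) (Nat.ble 302 c)
noncomputable def finTab_s_298_304 (c : Nat) : Nat := @Bool.rec (fun _ => Nat) (finTab_s_298_301 c) (finTab_s_301_304 c) (Nat.ble 301 c)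
noncomputable def finTab_s_292_304 (c : Nat) : Nat := @Bool.rec (fun _ => Nat) (finTab_s_292_298 c) (finTab_s_298_304 c) (Nat.ble 298 c)
noncomputable def finTab_s_281_304 (c : Nat) : Nat := @Bool.rec (fun _ => Nat) (finTab_s_281_292 c) (finTab_s_292_304 c) (Nat.ble 292 c)
noncomputable def finTab_s_305_307 (c : Nat) : Nat := @Bool.rec (fun _ => Nat) (finTab_305) (finTab_306) (Nat.ble 306 c)
noncomputable def finTab_s_304_307 (c : Nat) : Nat := @Bool.rec (fun _ => Nat) (finTab_304) (finTab_s_305_307 c) (Nat.ble 305 c)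
noncomputable def finTab_s_308_310 (c : Nat) : Nat := @Bool.rec (fun _ => Nat) (finTab_308) (finTab_309) (Nat.ble 309 c)
noncomputable def finTab_s_307_310 (c : Nat) : Nat := @Bool.rec (fun _ => Nat) (finTab_307) (finTab_s_308_310 c) (Nat.ble 308 c)
noncomputable def finTab_s_304_310 (c : Nat) : Nat := @Bool.rec (fun _ => Nat) (finTab_s_304_307 c) (finTab_s_307_310 c) (Nat.ble 307 c)
noncomputable def finTab_s_311_313 (c : Nat) : Nat := @Bool.rec (fun _ => Nat) (finTab_311) (finTab_312) (Nat.ble 312 c)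
noncomputable def finTab_s_310_313 (c : Nat) : Nat := @Bool.rec (fun _ => Nat) (finTab_310) (finTab_s_311_313 c) (Nat.ble 311 c)
noncomputable def finTab_s_314_316 (c : Nat) : Nat := @Bool.rec (fun _ => Nat) (finTab_314) (finTab_315) (Nat.ble 315 c)
noncomputable def finTab_s_313_316 (c : Nat) : Nat := @Bool.rec (fun _ => Nat) (finTab_313) (finTab_s_314_316 c) (Nat.ble 314 c)
noncomputable def finTab_s_310_316 (c : Nat) : Nat := @Bool.rec (fun _ => Nat) (finTab_s_310_313 c) (finTab_s_313_316 c) (Nat.ble 313 c)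
noncomputable def finTab_s_304_316 (c : Nat) : Nat := @Bool.rec (fun _ => Nat) (finTab_s_304_310 c) (finTab_s_310_316 c) (Nat.ble 310 c)
noncomputable def finTab_s_317_319 (c : Nat) : Nat := @Bool.rec (fun _ => Nat) (finTab_317) (finTab_318) (Nat.ble 318 c)
noncomputable def finTab_s_316_319 (c : Nat) : Nat := @Bool.rec (fun _ => Nat) (finTab_316) (finTab_s_317_319 c) (Nat.ble 317 c)
noncomputable def finTab_s_320_322 (c : Nat) : Nat := @Bool.rec (fun _ => Nat) (finTab_320) (finTab_321) (Nat.ble 321 c)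
noncomputable def finTab_s_319_322 (c : Nat) : Nat := @Bool.rec (fun _ => Nat) (finTab_319) (finTab_s_320_322 c) (Nat.ble 320 c)
noncomputable def finTab_s_316_322 (c : Nat) : Nat := @Bool.rec (fun _ => Nat) (finTab_s_316_319 c) (finTab_s_319_322 c) (Nat.ble 319 c)
noncomputable def finTab_s_323_325 (c : Nat) : Nat := @Bool.rec (fun _ => Nat) (finTab_323) (finTab_324) (Nat.ble 324 c)
noncomputable def finTab_s_322_325 (c : Nat) : Nat := @Bool.rec (fun _ => Nat) (finTab_322) (finTab_s_323_325 c) (Nat.ble 323 c)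
noncomputable def finTab_s_326_328 (c : Nat) : Nat := @Bool.rec (fun _ => Nat) (finTab_326) (finTab_327) (Nat.ble 327 c)
noncomputable def finTab_s_325_328 (c : Nat) : Nat := @Bool.rec (fun _ => Nat) (finTab_325) (finTab_s_326_328 c) (Nat.ble 326 c)
noncomputable def finTab_s_322_328 (c : Nat) : Nat := @Bool.rec (fun _ => Nat) (finTab_s_322_325 c) (finTab_s_325_328 c) (Nat.ble 325 c)
noncomputable def finTab_s_316_328 (c : Nat) : Nat := @Bool.rec (fun _ => Nat) (finTab_s_316_322 c) (finTab_s_322_328 c) (Nat.ble 322 c)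
noncomputable def finTab_s_304_328 (c : Nat) : Nat := @Bool.rec (fun _ => Nat) (finTab_s_304_316 c) (finTab_s_316_328 c) (Nat.ble 316 c)
noncomputable def finTab_s_281_328 (c : Nat) : Nat := @Bool.rec (fun _ => Nat) (finTab_s_281_304 c) (finTab_s_304_328 c) (Nat.ble 304 c)
noncomputable def finTab_s_328_330 (c : Nat) : Nat := @Bool.rec (fun _ => Nat) (finTab_328) (finTab_329) (Nat.ble 329 c)
noncomputable def finTab_s_331_333 (c : Nat) : Nat := @Bool.rec (fun _ => Nat) (finTab_331) (finTab_332) (Nat.ble 332 c)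
noncomputable def finTab_s_330_333 (c : Nat) : Nat := @Bool.rec (fun _ => Nat) (finTab_330) (finTab_s_331_333 c) (Nat.ble 331 c)
noncomputable def finTab_s_328_333 (c : Nat) : Nat := @Bool.rec (fun _ => Nat) (finTab_s_328_330 c) (finTab_s_330_333 c) (Nat.ble 330 c)
noncomputable def finTab_s_334_336 (c : Nat) : Nat := @Bool.rec (fun _ => Nat) (finTab_334) (finTab_335) (Nat.ble 335 c)
noncomputable def finTab_s_333_336 (c : Nat) : Nat := @Bool.rec (fun _ => Nat) (finTab_333) (finTab_s_334_336 c) (Nat.ble 334 c)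
noncomputable def finTab_s_337_339 (c : Nat) : Nat := @Bool.rec (fun _ => Nat) (finTab_337) (finTab_338) (Nat.ble 338 c)
noncomputable def finTab_s_336_339 (c : Nat) : Nat := @Bool.rec (fun _ => Nat) (finTab_336) (finTab_s_337_339 c) (Nat.ble 337 c)
noncomputable def finTab_s_333_339 (c : Nat) : Nat := @Bool.rec (fun _ => Nat) (finTab_s_333_336 c) (finTab_s_336_339 c) (Nat.ble 336 c)
noncomputable def finTab_s_328_339 (c : Nat) : Nat := @Bool.rec (fun _ => Nat) (finTab_s_328_333 c) (finTab_s_333_339 c) (Nat.ble 333 c)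
noncomputable def finTab_s_340_342 (c : Nat) : Nat := @Bool.rec (fun _ => Nat) (finTab_340) (finTab_341) (Nat.ble 341 c)
noncomputable def finTab_s_339_342 (c : Nat) : Nat := @Bool.rec (fun _ => Nat) (finTab_339) (finTab_s_340_342 c) (Nat.ble 340 c)
noncomputable def finTab_s_343_345 (c : Nat) : Nat := @Bool.rec (fun _ => Nat) (finTab_343) (finTab_344) (Nat.ble 344 c)
noncomputable def finTab_s_342_345 (c : Nat) : Nat := @Bool.rec (fun _ => Nat) (finTab_342) (finTab_s_343_345 c) (Nat.ble 343 c)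
noncomputable def finTab_s_339_345 (c : Nat) : Nat := @Bool.rec (fun _ => Nat) (finTab_s_339_342 c) (finTab_s_342_345 c) (Nat.ble 342 c)
noncomputable def finTab_s_346_348 (c : Nat) : Nat := @Bool.rec (fun _ => Nat) (finTab_346) (finTab_347) (Nat.ble 347 c)
noncomputable def finTab_s_345_348 (c : Nat) : Nat := @Bool.rec (fun _ => Nat) (finTab_345) (finTab_s_346_348 c) (Nat.ble 346 c)
noncomputable def finTab_s_349_351 (c : Nat) : Nat := @Bool.rec (fun _ => Nat) (finTab_349) (finTab_350) (Nat.ble 350 c)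
noncomputable def finTab_s_348_351 (c : Nat) : Nat := @Bool.rec (fun _ => Nat) (finTab_348) (finTab_s_349_351 c) (Nat.ble 349 c)
noncomputable def finTab_s_345_351 (c : Nat) : Nat := @Bool.rec (fun _ => Nat) (finTab_s_345_348 c) (finTab_s_348_351 c) (Nat.ble 348 c)
noncomputable def finTab_s_339_351 (c : Nat) : Nat := @Bool.rec (fun _ => Nat) (finTab_s_339_345 c) (finTab_s_345_351 c) (Nat.ble 345 c)
noncomputable def finTab_s_328_351 (c : Nat) : Nat := @Bool.rec (fun _ => Nat) (finTab_s_328_339 c) (finTab_s_339_351 c) (Nat.ble 339 c)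
noncomputable def finTab_s_352_354 (c : Nat) : Nat := @Bool.rec (fun _ => Nat) (finTab_352) (finTab_353) (Nat.ble 353 c)
noncomputable def finTab_s_351_354 (c : Nat) : Nat := @Bool.rec (fun _ => Nat) (finTab_351) (finTab_s_352_354 c) (Nat.ble 352 c)
noncomputable def finTab_s_355_357 (c : Nat) : Nat := @Bool.rec (fun _ => Nat) (finTab_355) (finTab_356) (Nat.ble 356 c)
noncomputable def finTab_s_354_357 (c : Nat) : Nat := @Bool.rec (fun _ => Nat) (finTab_354) (finTab_s_355_357 c) (Nat.ble 355 c)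
noncomputable def finTab_s_351_357 (c : Nat) : Nat := @Bool.rec (fun _ => Nat) (finTab_s_351_354 c) (finTab_s_354_357 c) (Nat.ble 354 c)
noncomputable def finTab_s_358_360 (c : Nat) : Nat := @Bool.rec (fun _ => Nat) (finTab_358) (finTab_359) (Nat.ble 359 c)
noncomputable def finTab_s_357_360 (c : Nat) : Nat := @Bool.rec (fun _ => Nat) (finTab_357) (finTab_s_358_360 c) (Nat.ble 358 c)
noncomputable def finTab_s_361_363 (c : Nat) : Nat := @Bool.rec (fun _ => Nat) (finTab_361) (finTab_362) (Nat.ble 362 c)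
noncomputable def finTab_s_360_363 (c : Nat) : Nat := @Bool.rec (fun _ => Nat) (finTab_360) (finTab_s_361_363 c) (Nat.ble 361 c)
noncomputable def finTab_s_357_363 (c : Nat) : Nat := @Bool.rec (fun _ => Nat) (finTab_s_357_360 c) (finTab_s_360_363 c) (Nat.ble 360 c)
noncomputable def finTab_s_351_363 (c : Nat) : Nat := @Bool.rec (fun _ => Nat) (finTab_s_351_357 c) (finTab_s_357_363 c) (Nat.ble 357 c)
noncomputable def finTab_s_364_366 (c : Nat) : Nat := @Bool.rec (fun _ => Nat) (finTab_364) (finTab_365) (Nat.ble 365 c)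
noncomputable def finTab_s_363_366 (c : Nat) : Nat := @Bool.rec (fun _ => Nat) (finTab_363) (finTab_s_364_366 c) (Nat.ble 364 c)
noncomputable def finTab_s_367_369 (c : Nat) : Nat := @Bool.rec (fun _ => Nat) (finTab_367) (finTab_368) (Nat.ble 368 c)
noncomputable def finTab_s_366_369 (c : Nat) : Nat := @Bool.rec (fun _ => Nat) (finTab_366) (finTab_s_367_369 c) (Nat.ble 367 c)
noncomputable def finTab_s_363_369 (c : Nat) : Nat := @Bool.rec (fun _ => Nat) (finTab_s_363_366 c) (finTab_s_366_369 c) (Nat.ble 366 c)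
noncomputable def finTab_s_370_372 (c : Nat) : Nat := @Bool.rec (fun _ => Nat) (finTab_370) (finTab_371) (Nat.ble 371 c)
noncomputable def finTab_s_369_372 (c : Nat) : Nat := @Bool.rec (fun _ => Nat) (finTab_369) (finTab_s_370_372 c) (Nat.ble 370 c)
noncomputable def finTab_s_373_375 (c : Nat) : Nat := @Bool.rec (fun _ => Nat) (finTab_373) (finTab_374) (Nat.ble 374 c)
noncomputable def finTab_s_372_375 (c : Nat) : Nat := @Bool.rec (fun _ => Nat) (finTab_372) (finTab_s_373_375 c) (Nat.ble 373 c)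
noncomputable def finTab_s_369_375 (c : Nat) : Nat := @Bool.rec (fun _ => Nat) (finTab_s_369_372 c) (finTab_s_372_375 c) (Nat.ble 372 c)
noncomputable def finTab_s_363_375 (c : Nat) : Nat := @Bool.rec (fun _ => Nat) (finTab_s_363_369 c) (finTab_s_369_375 c) (Nat.ble 369 c)
noncomputable def finTab_s_351_375 (c : Nat) : Nat := @Bool.rec (fun _ => Nat) (finTab_s_351_363 c) (finTab_s_363_375 c) (Nat.ble 363 c)
noncomputable def finTab_s_328_375 (c : Nat) : Nat := @Bool.rec (fun _ => Nat) (finTab_s_328_351 c) (finTab_s_351_375 c) (Nat.ble 351 c)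
noncomputable def finTab_s_281_375 (c : Nat) : Nat := @Bool.rec (fun _ => Nat) (finTab_s_281_328 c) (finTab_s_328_375 c) (Nat.ble 328 c)
noncomputable def finTab_s_187_375 (c : Nat) : Nat := @Bool.rec (fun _ => Nat) (finTab_s_187_281 c) (finTab_s_281_375 c) (Nat.ble 281 c)
noncomputable def finTab_s_0_375 (c : Nat) : Nat := @Bool.rec (fun _ => Nat) (finTab_s_0_187 c) (finTab_s_187_375 c) (Nat.ble 187 c)
noncomputable def finTab_s_375_377 (c : Nat) : Nat := @Bool.rec (fun _ => Nat) (finTab_375) (finTab_376) (Nat.ble 376 c)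
noncomputable def finTab_s_378_380 (c : Nat) : Nat := @Bool.rec (fun _ => Nat) (finTab_378) (finTab_379) (Nat.ble 379 c)
noncomputable def finTab_s_377_380 (c : Nat) : Nat := @Bool.rec (fun _ => Nat) (finTab_377) (finTab_s_378_380 c) (Nat.ble 378 c)
noncomputable def finTab_s_375_380 (c : Nat) : Nat := @Bool.rec (fun _ => Nat) (finTab_s_375_377 c) (finTab_s_377_380 c) (Nat.ble 377 c)
noncomputable def finTab_s_381_383 (c : Nat) : Nat := @Bool.rec (fun _ => Nat) (finTab_381) (finTab_382) (Nat.ble 382 c)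
noncomputable def finTab_s_380_383 (c : Nat) : Nat := @Bool.rec (fun _ => Nat) (finTab_380) (finTab_s_381_383 c) (Nat.ble 381 c)
noncomputable def finTab_s_384_386 (c : Nat) : Nat := @Bool.rec (fun _ => Nat) (finTab_384) (finTab_385) (Nat.ble 385 c)
noncomputable def finTab_s_383_386 (c : Nat) : Nat := @Bool.rec (fun _ => Nat) (finTab_383) (finTab_s_384_386 c) (Nat.ble 384 c)
noncomputable def finTab_s_380_386 (c : Nat) : Nat := @Bool.rec (fun _ => Nat) (finTab_s_380_383 c) (finTab_s_383_386 c) (Nat.ble 383 c)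
noncomputable def finTab_s_375_386 (c : Nat) : Nat := @Bool.rec (fun _ => Nat) (finTab_s_375_380 c) (finTab_s_380_386 c) (Nat.ble 380 c)
noncomputable def finTab_s_387_389 (c : Nat) : Nat := @Bool.rec (fun _ => Nat) (finTab_387) (finTab_388) (Nat.ble 388 c)
noncomputable def finTab_s_386_389 (c : Nat) : Nat := @Bool.rec (fun _ => Nat) (finTab_386) (finTab_s_387_389 c) (Nat.ble 387 c)
noncomputable def finTab_s_390_392 (c : Nat) : Nat := @Bool.rec (fun _ => Nat) (finTab_390) (finTab_391) (Nat.ble 391 c)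
noncomputable def finTab_s_389_392 (c : Nat) : Nat := @Bool.rec (fun _ => Nat) (finTab_389) (finTab_s_390_392 c) (Nat.ble 390 c)
noncomputable def finTab_s_386_392 (c : Nat) : Nat := @Bool.rec (fun _ => Nat) (finTab_s_386_389 c) (finTab_s_389_392 c) (Nat.ble 389 c)
noncomputable def finTab_s_393_395 (c : Nat) : Nat := @Bool.rec (fun _ => Nat) (finTab_393) (finTab_394) (Nat.ble 394 c)
noncomputable def finTab_s_392_395 (c : Nat) : Nat := @Bool.rec (fun _ => Nat) (finTab_392) (finTab_s_393_395 c) (Nat.ble 393 c)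
noncomputable def finTab_s_396_398 (c : Nat) : Nat := @Bool.rec (fun _ => Nat) (finTab_396) (finTab_397) (Nat.ble 397 c)
noncomputable def finTab_s_395_398 (c : Nat) : Nat := @Bool.rec (fun _ => Nat) (finTab_395) (finTab_s_396_398 c) (Nat.ble 396 c)
noncomputable def finTab_s_392_398 (c : Nat) : Nat := @Bool.rec (fun _ => Nat) (finTab_s_392_395 c) (finTab_s_395_398 c) (Nat.ble 395 c)
noncomputable def finTab_s_386_398 (c : Nat) : Nat := @Bool.rec (fun _ => Nat) (finTab_s_386_392 c) (finTab_s_392_398 c) (Nat.ble 392 c)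
noncomputable def finTab_s_375_398 (c : Nat) : Nat := @Bool.rec (fun _ => Nat) (finTab_s_375_386 c) (finTab_s_386_398 c) (Nat.ble 386 c)
noncomputable def finTab_s_399_401 (c : Nat) : Nat := @Bool.rec (fun _ => Nat) (finTab_399) (finTab_400) (Nat.ble 400 c)
noncomputable def finTab_s_398_401 (c : Nat) : Nat := @Bool.rec (fun _ => Nat) (finTab_398) (finTab_s_399_401 c) (Nat.ble 399 c)
noncomputable def finTab_s_402_404 (c : Nat) : Nat := @Bool.rec (fun _ => Nat) (finTab_402) (finTab_403) (Nat.ble 403 c)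
noncomputable def finTab_s_401_404 (c : Nat) : Nat := @Bool.rec (fun _ => Nat) (finTab_401) (finTab_s_402_404 c) (Nat.ble 402 c)
noncomputable def finTab_s_398_404 (c : Nat) : Nat := @Bool.rec (fun _ => Nat) (finTab_s_398_401 c) (finTab_s_401_404 c) (Nat.ble 401 c)
noncomputable def finTab_s_405_407 (c : Nat) : Nat := @Bool.rec (fun _ => Nat) (finTab_405) (finTab_406) (Nat.ble 406 c)
noncomputable def finTab_s_404_407 (c : Nat) : Nat := @Bool.rec (fun _ => Nat) (finTab_404) (finTab_s_405_407 c) (Nat.ble 405 c)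
noncomputable def finTab_s_408_410 (c : Nat) : Nat := @Bool.rec (fun _ => Nat) (finTab_408) (finTab_409) (Nat.ble 409 c)
noncomputable def finTab_s_407_410 (c : Nat) : Nat := @Bool.rec (fun _ => Nat) (finTab_407) (finTab_s_408_410 c) (Nat.ble 408 c)
noncomputable def finTab_s_404_410 (c : Nat) : Nat := @Bool.rec (fun _ => Nat) (finTab_s_404_407 c) (finTab_s_407_410 c) (Nat.ble 407 c)
noncomputable def finTab_s_398_410 (c : Nat) : Nat := @Bool.rec (fun _ => Nat) (finTab_s_398_404 c) (finTab_s_404_410 c) (Nat.ble 404 c)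
noncomputable def finTab_s_411_413 (c : Nat) : Nat := @Bool.rec (fun _ => Nat) (finTab_411) (finTab_412) (Nat.ble 412 c)
noncomputable def finTab_s_410_413 (c : Nat) : Nat := @Bool.rec (fun _ => Nat) (finTab_410) (finTab_s_411_413 c) (Nat.ble 411 c)
noncomputable def finTab_s_414_416 (c : Nat) : Nat := @Bool.rec (fun _ => Nat) (finTab_414) (finTab_415) (Nat.ble 415 c)
noncomputable def finTab_s_413_416 (c : Nat) : Nat := @Bool.rec (fun _ => Nat) (finTab_413) (finTab_s_414_416 c) (Nat.ble 414 c)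
noncomputable def finTab_s_410_416 (c : Nat) : Nat := @Bool.rec (fun _ => Nat) (finTab_s_410_413 c) (finTab_s_413_416 c) (Nat.ble 413 c)
noncomputable def finTab_s_417_419 (c : Nat) : Nat := @Bool.rec (fun _ => Nat) (finTab_417) (finTab_418) (Nat.ble 418 c)
noncomputable def finTab_s_416_419 (c : Nat) : Nat := @Bool.rec (fun _ => Nat) (finTab_416) (finTab_s_417_419 c) (Nat.ble 417 c)
noncomputable def finTab_s_420_422 (c : Nat) : Nat := @Bool.rec (fun _ => Nat) (finTab_420) (finTab_421) (Nat.ble 421 c)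
noncomputable def finTab_s_419_422 (c : Nat) : Nat := @Bool.rec (fun _ => Nat) (finTab_419) (finTab_s_420_422 c) (Nat.ble 420 c)
noncomputable def finTab_s_416_422 (c : Nat) : Nat := @Bool.rec (fun _ => Nat) (finTab_s_416_419 c) (finTab_s_419_422 c) (Nat.ble 419 c)
noncomputable def finTab_s_410_422 (c : Nat) : Nat := @Bool.rec (fun _ => Nat) (finTab_s_410_416 c) (finTab_s_416_422 c) (Nat.ble 416 c)
noncomputable def finTab_s_398_422 (c : Nat) : Nat := @Bool.rec (fun _ => Nat) (finTab_s_398_410 c) (finTab_s_410_422 c) (Nat.ble 410 c)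
noncomputable def finTab_s_375_422 (c : Nat) : Nat := @Bool.rec (fun _ => Nat) (finTab_s_375_398 c) (finTab_s_398_422 c) (Nat.ble 398 c)
noncomputable def finTab_s_422_424 (c : Nat) : Nat := @Bool.rec (fun _ => Nat) (finTab_422) (finTab_423) (Nat.ble 423 c)
noncomputable def finTab_s_425_427 (c : Nat) : Nat := @Bool.rec (fun _ => Nat) (finTab_425) (finTab_426) (Nat.ble 426 c)
noncomputable def finTab_s_424_427 (c : Nat) : Nat := @Bool.rec (fun _ => Nat) (finTab_424) (finTab_s_425_427 c) (Nat.ble 425 c)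
noncomputable def finTab_s_422_427 (c : Nat) : Nat := @Bool.rec (fun _ => Nat) (finTab_s_422_424 c) (finTab_s_424_427 c) (Nat.ble 424 c)
noncomputable def finTab_s_428_430 (c : Nat) : Nat := @Bool.rec (fun _ => Nat) (finTab_428) (finTab_429) (Nat.ble 429 c)
noncomputable def finTab_s_427_430 (c : Nat) : Nat := @Bool.rec (fun _ => Nat) (finTab_427) (finTab_s_428_430 c) (Nat.ble 428 c)
noncomputable def finTab_s_431_433 (c : Nat) : Nat := @Bool.rec (fun _ => Nat) (finTab_431) (finTab_432) (Nat.ble 432 c)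
noncomputable def finTab_s_430_433 (c : Nat) : Nat := @Bool.rec (fun _ => Nat) (finTab_430) (finTab_s_431_433 c) (Nat.ble 431 c)
noncomputable def finTab_s_427_433 (c : Nat) : Nat := @Bool.rec (fun _ => Nat) (finTab_s_427_430 c) (finTab_s_430_433 c) (Nat.ble 430 c)
noncomputable def finTab_s_422_433 (c : Nat) : Nat := @Bool.rec (fun _ => Nat) (finTab_s_422_427 c) (finTab_s_427_433 c) (Nat.ble 427 c)
noncomputable def finTab_s_434_436 (c : Nat) : Nat := @Bool.rec (fun _ => Nat) (finTab_434) (finTab_435) (Nat.ble 435 c)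
noncomputable def finTab_s_433_436 (c : Nat) : Nat := @Bool.rec (fun _ => Nat) (finTab_433) (finTab_s_434_436 c) (Nat.ble 434 c)
noncomputable def finTab_s_437_439 (c : Nat) : Nat := @Bool.rec (fun _ => Nat) (finTab_437) (finTab_438) (Nat.ble 438 c)
noncomputable def finTab_s_436_439 (c : Nat) : Nat := @Bool.rec (fun _ => Nat) (finTab_436) (finTab_s_437_439 c) (Nat.ble 437 c)
noncomputable def finTab_s_433_439 (c : Nat) : Nat := @Bool.rec (fun _ => Nat) (finTab_s_433_436 c) (finTab_s_436_439 c) (Nat.ble 436 c)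
noncomputable def finTab_s_440_442 (c : Nat) : Nat := @Bool.rec (fun _ => Nat) (finTab_440) (finTab_441) (Nat.ble 441 c)
noncomputable def finTab_s_439_442 (c : Nat) : Nat := @Bool.rec (fun _ => Nat) (finTab_439) (finTab_s_440_442 c) (Nat.ble 440 c)
noncomputable def finTab_s_443_445 (c : Nat) : Nat := @Bool.rec (fun _ => Nat) (finTab_443) (finTab_444) (Nat.ble 444 c)
noncomputable def finTab_s_442_445 (c : Nat) : Nat := @Bool.rec (fun _ => Nat) (finTab_442) (finTab_s_443_445 c) (Nat.ble 443 c)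
noncomputable def finTab_s_439_445 (c : Nat) : Nat := @Bool.rec (fun _ => Nat) (finTab_s_439_442 c) (finTab_s_442_445 c) (Nat.ble 442 c)
noncomputable def finTab_s_433_445 (c : Nat) : Nat := @Bool.rec (fun _ => Nat) (finTab_s_433_439 c) (finTab_s_439_445 c) (Nat.ble 439 c)
noncomputable def finTab_s_422_445 (c : Nat) : Nat := @Bool.rec (fun _ => Nat) (finTab_s_422_433 c) (finTab_s_433_445 c) (Nat.ble 433 c)
noncomputable def finTab_s_446_448 (c : Nat) : Nat := @Bool.rec (fun _ => Nat) (finTab_446) (finTab_447) (Nat.ble 447 c)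
noncomputable def finTab_s_445_448 (c : Nat) : Nat := @Bool.rec (fun _ => Nat) (finTab_445) (finTab_s_446_448 c) (Nat.ble 446 c)
noncomputable def finTab_s_449_451 (c : Nat) : Nat := @Bool.rec (fun _ => Nat) (finTab_449) (finTab_450) (Nat.ble 450 c)
noncomputable def finTab_s_448_451 (c : Nat) : Nat := @Bool.rec (fun _ => Nat) (finTab_448) (finTab_s_449_451 c) (Nat.ble 449 c)
noncomputable def finTab_s_445_451 (c : Nat) : Nat := @Bool.rec (fun _ => Nat) (finTab_s_445_448 c) (finTab_s_448_451 c) (Nat.ble 448 c)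
noncomputable def finTab_s_452_454 (c : Nat) : Nat := @Bool.rec (fun _ => Nat) (finTab_452) (finTab_453) (Nat.ble 453 c)
noncomputable def finTab_s_451_454 (c : Nat) : Nat := @Bool.rec (fun _ => Nat) (finTab_451) (finTab_s_452_454 c) (Nat.ble 452 c)
noncomputable def finTab_s_455_457 (c : Nat) : Nat := @Bool.rec (fun _ => Nat) (finTab_455) (finTab_456) (Nat.ble 456 c)
noncomputable def finTab_s_454_457 (c : Nat) : Nat := @Bool.rec (fun _ => Nat) (finTab_454) (finTab_s_455_457 c) (Nat.ble 455 c)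
noncomputable def finTab_s_451_457 (c : Nat) : Nat := @Bool.rec (fun _ => Nat) (finTab_s_451_454 c) (finTab_s_454_457 c) (Nat.ble 454 c)
noncomputable def finTab_s_445_457 (c : Nat) : Nat := @Bool.rec (fun _ => Nat) (finTab_s_445_451 c) (finTab_s_451_457 c) (Nat.ble 451 c)
noncomputable def finTab_s_458_460 (c : Nat) : Nat := @Bool.rec (fun _ => Nat) (finTab_458) (finTab_459) (Nat.ble 459 c)
noncomputable def finTab_s_457_460 (c : Nat) : Nat := @Bool.rec (fun _ => Nat) (finTab_457) (finTab_s_458_460 c) (Nat.ble 458 c)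
noncomputable def finTab_s_461_463 (c : Nat) : Nat := @Bool.rec (fun _ => Nat) (finTab_461) (finTab_462) (Nat.ble 462 c)
noncomputable def finTab_s_460_463 (c : Nat) : Nat := @Bool.rec (fun _ => Nat) (finTab_460) (finTab_s_461_463 c) (Nat.ble 461 c)
noncomputable def finTab_s_457_463 (c : Nat) : Nat := @Bool.rec (fun _ => Nat) (finTab_s_457_460 c) (finTab_s_460_463 c) (Nat.ble 460 c)
noncomputable def finTab_s_464_466 (c : Nat) : Nat := @Bool.rec (fun _ => Nat) (finTab_464) (finTab_465) (Nat.ble 465 c)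
noncomputable def finTab_s_463_466 (c : Nat) : Nat := @Bool.rec (fun _ => Nat) (finTab_463) (finTab_s_464_466 c) (Nat.ble 464 c)
noncomputable def finTab_s_467_469 (c : Nat) : Nat := @Bool.rec (fun _ => Nat) (finTab_467) (finTab_468) (Nat.ble 468 c)
noncomputable def finTab_s_466_469 (c : Nat) : Nat := @Bool.rec (fun _ => Nat) (finTab_466) (finTab_s_467_469 c) (Nat.ble 467 c)
noncomputable def finTab_s_463_469 (c : Nat) : Nat := @Bool.rec (fun _ => Nat) (finTab_s_463_466 c) (finTab_s_466_469 c) (Nat.ble 466 c)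
noncomputable def finTab_s_457_469 (c : Nat) : Nat := @Bool.rec (fun _ => Nat) (finTab_s_457_463 c) (finTab_s_463_469 c) (Nat.ble 463 c)
noncomputable def finTab_s_445_469 (c : Nat) : Nat := @Bool.rec (fun _ => Nat) (finTab_s_445_457 c) (finTab_s_457_469 c) (Nat.ble 457 c)
noncomputable def finTab_s_422_469 (c : Nat) : Nat := @Bool.rec (fun _ => Nat) (finTab_s_422_445 c) (finTab_s_445_469 c) (Nat.ble 445 c)
noncomputable def finTab_s_375_469 (c : Nat) : Nat := @Bool.rec (fun _ => Nat) (finTab_s_375_422 c) (finTab_s_422_469 c) (Nat.ble 422 c)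
noncomputable def finTab_s_469_471 (c : Nat) : Nat := @Bool.rec (fun _ => Nat) (finTab_469) (finTab_470) (Nat.ble 470 c)
noncomputable def finTab_s_472_474 (c : Nat) : Nat := @Bool.rec (fun _ => Nat) (finTab_472) (finTab_473) (Nat.ble 473 c)
noncomputable def finTab_s_471_474 (c : Nat) : Nat := @Bool.rec (fun _ => Nat) (finTab_471) (finTab_s_472_474 c) (Nat.ble 472 c)
noncomputable def finTab_s_469_474 (c : Nat) : Nat := @Bool.rec (fun _ => Nat) (finTab_s_469_471 c) (finTab_s_471_474 c) (Nat.ble 471 c)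
noncomputable def finTab_s_475_477 (c : Nat) : Nat := @Bool.rec (fun _ => Nat) (finTab_475) (finTab_476) (Nat.ble 476 c)
noncomputable def finTab_s_474_477 (c : Nat) : Nat := @Bool.rec (fun _ => Nat) (finTab_474) (finTab_s_475_477 c) (Nat.ble 475 c)
noncomputable def finTab_s_478_480 (c : Nat) : Nat := @Bool.rec (fun _ => Nat) (finTab_478) (finTab_479) (Nat.ble 479 c)
noncomputable def finTab_s_477_480 (c : Nat) : Nat := @Bool.rec (fun _ => Nat) (finTab_477) (finTab_s_478_480 c) (Nat.ble 478 c)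
noncomputable def finTab_s_474_480 (c : Nat) : Nat := @Bool.rec (fun _ => Nat) (finTab_s_474_477 c) (finTab_s_477_480 c) (Nat.ble 477 c)
noncomputable def finTab_s_469_480 (c : Nat) : Nat := @Bool.rec (fun _ => Nat) (finTab_s_469_474 c) (finTab_s_474_480 c) (Nat.ble 474 c)
noncomputable def finTab_s_481_483 (c : Nat) : Nat := @Bool.rec (fun _ => Nat) (finTab_481) (finTab_482) (Nat.ble 482 c)
noncomputable def finTab_s_480_483 (c : Nat) : Nat := @Bool.rec (fun _ => Nat) (finTab_480) (finTab_s_481_483 c) (Nat.ble 481 c)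
noncomputable def finTab_s_484_486 (c : Nat) : Nat := @Bool.rec (fun _ => Nat) (finTab_484) (finTab_485) (Nat.ble 485 c)
noncomputable def finTab_s_483_486 (c : Nat) : Nat := @Bool.rec (fun _ => Nat) (finTab_483) (finTab_s_484_486 c) (Nat.ble 484 c)
noncomputable def finTab_s_480_486 (c : Nat) : Nat := @Bool.rec (fun _ => Nat) (finTab_s_480_483 c) (finTab_s_483_486 c) (Nat.ble 483 c)
noncomputable def finTab_s_487_489 (c : Nat) : Nat := @Bool.rec (fun _ => Nat) (finTab_487) (finTab_488) (Nat.ble 488 c)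
noncomputable def finTab_s_486_489 (c : Nat) : Nat := @Bool.rec (fun _ => Nat) (finTab_486) (finTab_s_487_489 c) (Nat.ble 487 c)
noncomputable def finTab_s_490_492 (c : Nat) : Nat := @Bool.rec (fun _ => Nat) (finTab_490) (finTab_491) (Nat.ble 491 c)
noncomputable def finTab_s_489_492 (c : Nat) : Nat := @Bool.rec (fun _ => Nat) (finTab_489) (finTab_s_490_492 c) (Nat.ble 490 c)
noncomputable def finTab_s_486_492 (c : Nat) : Nat := @Bool.rec (fun _ => Nat) (finTab_s_486_489 c) (finTab_s_489_492 c) (Nat.ble 489 c)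
noncomputable def finTab_s_480_492 (c : Nat) : Nat := @Bool.rec (fun _ => Nat) (finTab_s_480_486 c) (finTab_s_486_492 c) (Nat.ble 486 c)
noncomputable def finTab_s_469_492 (c : Nat) : Nat := @Bool.rec (fun _ => Nat) (finTab_s_469_480 c) (finTab_s_480_492 c) (Nat.ble 480 c)
noncomputable def finTab_s_493_495 (c : Nat) : Nat := @Bool.rec (fun _ => Nat) (finTab_493) (finTab_494) (Nat.ble 494 c)
noncomputable def finTab_s_492_495 (c : Nat) : Nat := @Bool.rec (fun _ => Nat) (finTab_492) (finTab_s_493_495 c) (Nat.ble 493 c)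
noncomputable def finTab_s_496_498 (c : Nat) : Nat := @Bool.rec (fun _ => Nat) (finTab_496) (finTab_497) (Nat.ble 497 c)
noncomputable def finTab_s_495_498 (c : Nat) : Nat := @Bool.rec (fun _ => Nat) (finTab_495) (finTab_s_496_498 c) (Nat.ble 496 c)
noncomputable def finTab_s_492_498 (c : Nat) : Nat := @Bool.rec (fun _ => Nat) (finTab_s_492_495 c) (finTab_s_495_498 c) (Nat.ble 495 c)
noncomputable def finTab_s_499_501 (c : Nat) : Nat := @Bool.rec (fun _ => Nat) (finTab_499) (finTab_500) (Nat.ble 500 c)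
noncomputable def finTab_s_498_501 (c : Nat) : Nat := @Bool.rec (fun _ => Nat) (finTab_498) (finTab_s_499_501 c) (Nat.ble 499 c)
noncomputable def finTab_s_502_504 (c : Nat) : Nat := @Bool.rec (fun _ => Nat) (finTab_502) (finTab_503) (Nat.ble 503 c)
noncomputable def finTab_s_501_504 (c : Nat) : Nat := @Bool.rec (fun _ => Nat) (finTab_501) (finTab_s_502_504 c) (Nat.ble 502 c)
noncomputable def finTab_s_498_504 (c : Nat) : Nat := @Bool.rec (fun _ => Nat) (finTab_s_498_501 c) (finTab_s_501_504 c) (Nat.ble 501 c)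
noncomputable def finTab_s_492_504 (c : Nat) : Nat := @Bool.rec (fun _ => Nat) (finTab_s_492_498 c) (finTab_s_498_504 c) (Nat.ble 498 c)
noncomputable def finTab_s_505_507 (c : Nat) : Nat := @Bool.rec (fun _ => Nat) (finTab_505) (finTab_506) (Nat.ble 506 c)
noncomputable def finTab_s_504_507 (c : Nat) : Nat := @Bool.rec (fun _ => Nat) (finTab_504) (finTab_s_505_507 c) (Nat.ble 505 c)
noncomputable def finTab_s_508_510 (c : Nat) : Nat := @Bool.rec (fun _ => Nat) (finTab_508) (finTab_509) (Nat.ble 509 c)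
noncomputable def finTab_s_507_510 (c : Nat) : Nat := @Bool.rec (fun _ => Nat) (finTab_507) (finTab_s_508_510 c) (Nat.ble 508 c)
noncomputable def finTab_s_504_510 (c : Nat) : Nat := @Bool.rec (fun _ => Nat) (finTab_s_504_507 c) (finTab_s_507_510 c) (Nat.ble 507 c)
noncomputable def finTab_s_511_513 (c : Nat) : Nat := @Bool.rec (fun _ => Nat) (finTab_511) (finTab_512) (Nat.ble 512 c)
noncomputable def finTab_s_510_513 (c : Nat) : Nat := @Bool.rec (fun _ => Nat) (finTab_510) (finTab_s_511_513 c) (Nat.ble 511 c)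
noncomputable def finTab_s_514_516 (c : Nat) : Nat := @Bool.rec (fun _ => Nat) (finTab_514) (finTab_515) (Nat.ble 515 c)
noncomputable def finTab_s_513_516 (c : Nat) : Nat := @Bool.rec (fun _ => Nat) (finTab_513) (finTab_s_514_516 c) (Nat.ble 514 c)
noncomputable def finTab_s_510_516 (c : Nat) : Nat := @Bool.rec (fun _ => Nat) (finTab_s_510_513 c) (finTab_s_513_516 c) (Nat.ble 513 c)
noncomputable def finTab_s_504_516 (c : Nat) : Nat := @Bool.rec (fun _ => Nat) (finTab_s_504_510 c) (finTab_s_510_516 c) (Nat.ble 510 c)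
noncomputable def finTab_s_492_516 (c : Nat) : Nat := @Bool.rec (fun _ => Nat) (finTab_s_492_504 c) (finTab_s_504_516 c) (Nat.ble 504 c)
noncomputable def finTab_s_469_516 (c : Nat) : Nat := @Bool.rec (fun _ => Nat) (finTab_s_469_492 c) (finTab_s_492_516 c) (Nat.ble 492 c)
noncomputable def finTab_s_516_518 (c : Nat) : Nat := @Bool.rec (fun _ => Nat) (finTab_516) (finTab_517) (Nat.ble 517 c)
noncomputable def finTab_s_519_521 (c : Nat) : Nat := @Bool.rec (fun _ => Nat) (finTab_519) (finTab_520) (Nat.ble 520 c)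
noncomputable def finTab_s_518_521 (c : Nat) : Nat := @Bool.rec (fun _ => Nat) (finTab_518) (finTab_s_519_521 c) (Nat.ble 519 c)
noncomputable def finTab_s_516_521 (c : Nat) : Nat := @Bool.rec (fun _ => Nat) (finTab_s_516_518 c) (finTab_s_518_521 c) (Nat.ble 518 c)
noncomputable def finTab_s_522_524 (c : Nat) : Nat := @Bool.rec (fun _ => Nat) (finTab_522) (finTab_523) (Nat.ble 523 c)
noncomputable def finTab_s_521_524 (c : Nat) : Nat := @Bool.rec (fun _ => Nat) (finTab_521) (finTab_s_522_524 c) (Nat.ble 522 c)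
noncomputable def finTab_s_525_527 (c : Nat) : Nat := @Bool.rec (fun _ => Nat) (finTab_525) (finTab_526) (Nat.ble 526 c)
noncomputable def finTab_s_524_527 (c : Nat) : Nat := @Bool.rec (fun _ => Nat) (finTab_524) (finTab_s_525_527 c) (Nat.ble 525 c)
noncomputable def finTab_s_521_527 (c : Nat) : Nat := @Bool.rec (fun _ => Nat) (finTab_s_521_524 c) (finTab_s_524_527 c) (Nat.ble 524 c)
noncomputable def finTab_s_516_527 (c : Nat) : Nat := @Bool.rec (fun _ => Nat) (finTab_s_516_521 c) (finTab_s_521_527 c) (Nat.ble 521 c)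
noncomputable def finTab_s_528_530 (c : Nat) : Nat := @Bool.rec (fun _ => Nat) (finTab_528) (finTab_529) (Nat.ble 529 c)
noncomputable def finTab_s_527_530 (c : Nat) : Nat := @Bool.rec (fun _ => Nat) (finTab_527) (finTab_s_528_530 c) (Nat.ble 528 c)
noncomputable def finTab_s_531_533 (c : Nat) : Nat := @Bool.rec (fun _ => Nat) (finTab_531) (finTab_532) (Nat.ble 532 c)
noncomputable def finTab_s_530_533 (c : Nat) : Nat := @Bool.rec (fun _ => Nat) (finTab_530) (finTab_s_531_533 c) (Nat.ble 531 c)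
noncomputable def finTab_s_527_533 (c : Nat) : Nat := @Bool.rec (fun _ => Nat) (finTab_s_527_530 c) (finTab_s_530_533 c) (Nat.ble 530 c)
noncomputable def finTab_s_534_536 (c : Nat) : Nat := @Bool.rec (fun _ => Nat) (finTab_534) (finTab_535) (Nat.ble 535 c)
noncomputable def finTab_s_533_536 (c : Nat) : Nat := @Bool.rec (fun _ => Nat) (finTab_533) (finTab_s_534_536 c) (Nat.ble 534 c)
noncomputable def finTab_s_537_539 (c : Nat) : Nat := @Bool.rec (fun _ => Nat) (finTab_537) (finTab_538) (Nat.ble 538 c)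
noncomputable def finTab_s_536_539 (c : Nat) : Nat := @Bool.rec (fun _ => Nat) (finTab_536) (finTab_s_537_539 c) (Nat.ble 537 c)
noncomputable def finTab_s_533_539 (c : Nat) : Nat := @Bool.rec (fun _ => Nat) (finTab_s_533_536 c) (finTab_s_536_539 c) (Nat.ble 536 c)
noncomputable def finTab_s_527_539 (c : Nat) : Nat := @Bool.rec (fun _ => Nat) (finTab_s_527_533 c) (finTab_s_533_539 c) (Nat.ble 533 c)
noncomputable def finTab_s_516_539 (c : Nat) : Nat := @Bool.rec (fun _ => Nat) (finTab_s_516_527 c) (finTab_s_527_539 c) (Nat.ble 527 c)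
noncomputable def finTab_s_540_542 (c : Nat) : Nat := @Bool.rec (fun _ => Nat) (finTab_540) (finTab_541) (Nat.ble 541 c)
noncomputable def finTab_s_539_542 (c : Nat) : Nat := @Bool.rec (fun _ => Nat) (finTab_539) (finTab_s_540_542 c) (Nat.ble 540 c)
noncomputable def finTab_s_543_545 (c : Nat) : Nat := @Bool.rec (fun _ => Nat) (finTab_543) (finTab_544) (Nat.ble 544 c)
noncomputable def finTab_s_542_545 (c : Nat) : Nat := @Bool.rec (fun _ => Nat) (finTab_542) (finTab_s_543_545 c) (Nat.ble 543 c)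
noncomputable def finTab_s_539_545 (c : Nat) : Nat := @Bool.rec (fun _ => Nat) (finTab_s_539_542 c) (finTab_s_542_545 c) (Nat.ble 542 c)
noncomputable def finTab_s_546_548 (c : Nat) : Nat := @Bool.rec (fun _ => Nat) (finTab_546) (finTab_547) (Nat.ble 547 c)
noncomputable def finTab_s_545_548 (c : Nat) : Nat := @Bool.rec (fun _ => Nat) (finTab_545) (finTab_s_546_548 c) (Nat.ble 546 c)
noncomputable def finTab_s_549_551 (c : Nat) : Nat := @Bool.rec (fun _ => Nat) (finTab_549) (finTab_550) (Nat.ble 550 c)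
noncomputable def finTab_s_548_551 (c : Nat) : Nat := @Bool.rec (fun _ => Nat) (finTab_548) (finTab_s_549_551 c) (Nat.ble 549 c)
noncomputable def finTab_s_545_551 (c : Nat) : Nat := @Bool.rec (fun _ => Nat) (finTab_s_545_548 c) (finTab_s_548_551 c) (Nat.ble 548 c)
noncomputable def finTab_s_539_551 (c : Nat) : Nat := @Bool.rec (fun _ => Nat) (finTab_s_539_545 c) (finTab_s_545_551 c) (Nat.ble 545 c)
noncomputable def finTab_s_552_554 (c : Nat) : Nat := @Bool.rec (fun _ => Nat) (finTab_552) (finTab_553) (Nat.ble 553 c)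
noncomputable def finTab_s_551_554 (c : Nat) : Nat := @Bool.rec (fun _ => Nat) (finTab_551) (finTab_s_552_554 c) (Nat.ble 552 c)
noncomputable def finTab_s_555_557 (c : Nat) : Nat := @Bool.rec (fun _ => Nat) (finTab_555) (finTab_556) (Nat.ble 556 c)
noncomputable def finTab_s_554_557 (c : Nat) : Nat := @Bool.rec (fun _ => Nat) (finTab_554) (finTab_s_555_557 c) (Nat.ble 555 c)
noncomputable def finTab_s_551_557 (c : Nat) : Nat := @Bool.rec (fun _ => Nat) (finTab_s_551_554 c) (finTab_s_554_557 c) (Nat.ble 554 c)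
noncomputable def finTab_s_558_560 (c : Nat) : Nat := @Bool.rec (fun _ => Nat) (finTab_558) (finTab_559) (Nat.ble 559 c)
noncomputable def finTab_s_557_560 (c : Nat) : Nat := @Bool.rec (fun _ => Nat) (finTab_557) (finTab_s_558_560 c) (Nat.ble 558 c)
noncomputable def finTab_s_561_563 (c : Nat) : Nat := @Bool.rec (fun _ => Nat) (finTab_561) (finTab_562) (Nat.ble 562 c)
noncomputable def finTab_s_560_563 (c : Nat) : Nat := @Bool.rec (fun _ => Nat) (finTab_560) (finTab_s_561_563 c) (Nat.ble 561 c)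
noncomputable def finTab_s_557_563 (c : Nat) : Nat := @Bool.rec (fun _ => Nat) (finTab_s_557_560 c) (finTab_s_560_563 c) (Nat.ble 560 c)
noncomputable def finTab_s_551_563 (c : Nat) : Nat := @Bool.rec (fun _ => Nat) (finTab_s_551_557 c) (finTab_s_557_563 c) (Nat.ble 557 c)
noncomputable def finTab_s_539_563 (c : Nat) : Nat := @Bool.rec (fun _ => Nat) (finTab_s_539_551 c) (finTab_s_551_563 c) (Nat.ble 551 c)
noncomputable def finTab_s_516_563 (c : Nat) : Nat := @Bool.rec (fun _ => Nat) (finTab_s_516_539 c) (finTab_s_539_563 c) (Nat.ble 539 c)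
noncomputable def finTab_s_469_563 (c : Nat) : Nat := @Bool.rec (fun _ => Nat) (finTab_s_469_516 c) (finTab_s_516_563 c) (Nat.ble 516 c)
noncomputable def finTab_s_375_563 (c : Nat) : Nat := @Bool.rec (fun _ => Nat) (finTab_s_375_469 c) (finTab_s_469_563 c) (Nat.ble 469 c)
noncomputable def finTab_s_563_565 (c : Nat) : Nat := @Bool.rec (fun _ => Nat) (finTab_563) (finTab_564) (Nat.ble 564 c)
noncomputable def finTab_s_566_568 (c : Nat) : Nat := @Bool.rec (fun _ => Nat) (finTab_566) (finTab_567) (Nat.ble 567 c)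
noncomputable def finTab_s_565_568 (c : Nat) : Nat := @Bool.rec (fun _ => Nat) (finTab_565) (finTab_s_566_568 c) (Nat.ble 566 c)
noncomputable def finTab_s_563_568 (c : Nat) : Nat := @Bool.rec (fun _ => Nat) (finTab_s_563_565 c) (finTab_s_565_568 c) (Nat.ble 565 c)
noncomputable def finTab_s_569_571 (c : Nat) : Nat := @Bool.rec (fun _ => Nat) (finTab_569) (finTab_570) (Nat.ble 570 c)
noncomputable def finTab_s_568_571 (c : Nat) : Nat := @Bool.rec (fun _ => Nat) (finTab_568) (finTab_s_569_571 c) (Nat.ble 569 c)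
noncomputable def finTab_s_572_574 (c : Nat) : Nat := @Bool.rec (fun _ => Nat) (finTab_572) (finTab_573) (Nat.ble 573 c)
noncomputable def finTab_s_571_574 (c : Nat) : Nat := @Bool.rec (fun _ => Nat) (finTab_571) (finTab_s_572_574 c) (Nat.ble 572 c)
noncomputable def finTab_s_568_574 (c : Nat) : Nat := @Bool.rec (fun _ => Nat) (finTab_s_568_571 c) (finTab_s_571_574 c) (Nat.ble 571 c)
noncomputable def finTab_s_563_574 (c : Nat) : Nat := @Bool.rec (fun _ => Nat) (finTab_s_563_568 c) (finTab_s_568_574 c) (Nat.ble 568 c)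
noncomputable def finTab_s_575_577 (c : Nat) : Nat := @Bool.rec (fun _ => Nat) (finTab_575) (finTab_576) (Nat.ble 576 c)
noncomputable def finTab_s_574_577 (c : Nat) : Nat := @Bool.rec (fun _ => Nat) (finTab_574) (finTab_s_575_577 c) (Nat.ble 575 c)
noncomputable def finTab_s_578_580 (c : Nat) : Nat := @Bool.rec (fun _ => Nat) (finTab_578) (finTab_579) (Nat.ble 579 c)
noncomputable def finTab_s_577_580 (c : Nat) : Nat := @Bool.rec (fun _ => Nat) (finTab_577) (finTab_s_578_580 c) (Nat.ble 578 c)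
noncomputable def finTab_s_574_580 (c : Nat) : Nat := @Bool.rec (fun _ => Nat) (finTab_s_574_577 c) (finTab_s_577_580 c) (Nat.ble 577 c)
noncomputable def finTab_s_581_583 (c : Nat) : Nat := @Bool.rec (fun _ => Nat) (finTab_581) (finTab_582) (Nat.ble 582 c)
noncomputable def finTab_s_580_583 (c : Nat) : Nat := @Bool.rec (fun _ => Nat) (finTab_580) (finTab_s_581_583 c) (Nat.ble 581 c)
noncomputable def finTab_s_584_586 (c : Nat) : Nat := @Bool.rec (fun _ => Nat) (finTab_584) (finTab_585) (Nat.ble 585 c)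
noncomputable def finTab_s_583_586 (c : Nat) : Nat := @Bool.rec (fun _ => Nat) (finTab_583) (finTab_s_584_586 c) (Nat.ble 584 c)
noncomputable def finTab_s_580_586 (c : Nat) : Nat := @Bool.rec (fun _ => Nat) (finTab_s_580_583 c) (finTab_s_583_586 c) (Nat.ble 583 c)
noncomputable def finTab_s_574_586 (c : Nat) : Nat := @Bool.rec (fun _ => Nat) (finTab_s_574_580 c) (finTab_s_580_586 c) (Nat.ble 580 c)
noncomputable def finTab_s_563_586 (c : Nat) : Nat := @Bool.rec (fun _ => Nat) (finTab_s_563_574 c) (finTab_s_574_586 c) (Nat.ble 574 c)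
noncomputable def finTab_s_587_589 (c : Nat) : Nat := @Bool.rec (fun _ => Nat) (finTab_587) (finTab_588) (Nat.ble 588 c)
noncomputable def finTab_s_586_589 (c : Nat) : Nat := @Bool.rec (fun _ => Nat) (finTab_586) (finTab_s_587_589 c) (Nat.ble 587 c)
noncomputable def finTab_s_590_592 (c : Nat) : Nat := @Bool.rec (fun _ => Nat) (finTab_590) (finTab_591) (Nat.ble 591 c)
noncomputable def finTab_s_589_592 (c : Nat) : Nat := @Bool.rec (fun _ => Nat) (finTab_589) (finTab_s_590_592 c) (Nat.ble 590 c)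
noncomputable def finTab_s_586_592 (c : Nat) : Nat := @Bool.rec (fun _ => Nat) (finTab_s_586_589 c) (finTab_s_589_592 c) (Nat.ble 589 c)
noncomputable def finTab_s_593_595 (c : Nat) : Nat := @Bool.rec (fun _ => Nat) (finTab_593) (finTab_594) (Nat.ble 594 c)
noncomputable def finTab_s_592_595 (c : Nat) : Nat := @Bool.rec (fun _ => Nat) (finTab_592) (finTab_s_593_595 c) (Nat.ble 593 c)
noncomputable def finTab_s_596_598 (c : Nat) : Nat := @Bool.rec (fun _ => Nat) (finTab_596) (finTab_597) (Nat.ble 597 c)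
noncomputable def finTab_s_595_598 (c : Nat) : Nat := @Bool.rec (fun _ => Nat) (finTab_595) (finTab_s_596_598 c) (Nat.ble 596 c)
noncomputable def finTab_s_592_598 (c : Nat) : Nat := @Bool.rec (fun _ => Nat) (finTab_s_592_595 c) (finTab_s_595_598 c) (Nat.ble 595 c)
noncomputable def finTab_s_586_598 (c : Nat) : Nat := @Bool.rec (fun _ => Nat) (finTab_s_586_592 c) (finTab_s_592_598 c) (Nat.ble 592 c)
noncomputable def finTab_s_599_601 (c : Nat) : Nat := @Bool.rec (fun _ => Nat) (finTab_599) (finTab_600) (Nat.ble 600 c)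
noncomputable def finTab_s_598_601 (c : Nat) : Nat := @Bool.rec (fun _ => Nat) (finTab_598) (finTab_s_599_601 c) (Nat.ble 599 c)
noncomputable def finTab_s_602_604 (c : Nat) : Nat := @Bool.rec (fun _ => Nat) (finTab_602) (finTab_603) (Nat.ble 603 c)
noncomputable def finTab_s_601_604 (c : Nat) : Nat := @Bool.rec (fun _ => Nat) (finTab_601) (finTab_s_602_604 c) (Nat.ble 602 c)
noncomputable def finTab_s_598_604 (c : Nat) : Nat := @Bool.rec (fun _ => Nat) (finTab_s_598_601 c) (finTab_s_601_604 c) (Nat.ble 601 c)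
noncomputable def finTab_s_605_607 (c : Nat) : Nat := @Bool.rec (fun _ => Nat) (finTab_605) (finTab_606) (Nat.ble 606 c)
noncomputable def finTab_s_604_607 (c : Nat) : Nat := @Bool.rec (fun _ => Nat) (finTab_604) (finTab_s_605_607 c) (Nat.ble 605 c)
noncomputable def finTab_s_608_610 (c : Nat) : Nat := @Bool.rec (fun _ => Nat) (finTab_608) (finTab_609) (Nat.ble 609 c)
noncomputable def finTab_s_607_610 (c : Nat) : Nat := @Bool.rec (fun _ => Nat) (finTab_607) (finTab_s_608_610 c) (Nat.ble 608 c)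
noncomputable def finTab_s_604_610 (c : Nat) : Nat := @Bool.rec (fun _ => Nat) (finTab_s_604_607 c) (finTab_s_607_610 c) (Nat.ble 607 c)
noncomputable def finTab_s_598_610 (c : Nat) : Nat := @Bool.rec (fun _ => Nat) (finTab_s_598_604 c) (finTab_s_604_610 c) (Nat.ble 604 c)
noncomputable def finTab_s_586_610 (c : Nat) : Nat := @Bool.rec (fun _ => Nat) (finTab_s_586_598 c) (finTab_s_598_610 c) (Nat.ble 598 c)
noncomputable def finTab_s_563_610 (c : Nat) : Nat := @Bool.rec (fun _ => Nat) (finTab_s_563_586 c) (finTab_s_586_610 c) (Nat.ble 586 c)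
noncomputable def finTab_s_610_612 (c : Nat) : Nat := @Bool.rec (fun _ => Nat) (finTab_610) (finTab_611) (Nat.ble 611 c)
noncomputable def finTab_s_613_615 (c : Nat) : Nat := @Bool.rec (fun _ => Nat) (finTab_613) (finTab_614) (Nat.ble 614 c)
noncomputable def finTab_s_612_615 (c : Nat) : Nat := @Bool.rec (fun _ => Nat) (finTab_612) (finTab_s_613_615 c) (Nat.ble 613 c)
noncomputable def finTab_s_610_615 (c : Nat) : Nat := @Bool.rec (fun _ => Nat) (finTab_s_610_612 c) (finTab_s_612_615 c) (Nat.ble 612 c)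
noncomputable def finTab_s_616_618 (c : Nat) : Nat := @Bool.rec (fun _ => Nat) (finTab_616) (finTab_617) (Nat.ble 617 c)
noncomputable def finTab_s_615_618 (c : Nat) : Nat := @Bool.rec (fun _ => Nat) (finTab_615) (finTab_s_616_618 c) (Nat.ble 616 c)
noncomputable def finTab_s_619_621 (c : Nat) : Nat := @Bool.rec (fun _ => Nat) (finTab_619) (finTab_620) (Nat.ble 620 c)
noncomputable def finTab_s_618_621 (c : Nat) : Nat := @Bool.rec (fun _ => Nat) (finTab_618) (finTab_s_619_621 c) (Nat.ble 619 c)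
noncomputable def finTab_s_615_621 (c : Nat) : Nat := @Bool.rec (fun _ => Nat) (finTab_s_615_618 c) (finTab_s_618_621 c) (Nat.ble 618 c)
noncomputable def finTab_s_610_621 (c : Nat) : Nat := @Bool.rec (fun _ => Nat) (finTab_s_610_615 c) (finTab_s_615_621 c) (Nat.ble 615 c)
noncomputable def finTab_s_622_624 (c : Nat) : Nat := @Bool.rec (fun _ => Nat) (finTab_622) (finTab_623) (Nat.ble 623 c)
noncomputable def finTab_s_621_624 (c : Nat) : Nat := @Bool.rec (fun _ => Nat) (finTab_621) (finTab_s_622_624 c) (Nat.ble 622 c)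
noncomputable def finTab_s_625_627 (c : Nat) : Nat := @Bool.rec (fun _ => Nat) (finTab_625) (finTab_626) (Nat.ble 626 c)
noncomputable def finTab_s_624_627 (c : Nat) : Nat := @Bool.rec (fun _ => Nat) (finTab_624) (finTab_s_625_627 c) (Nat.ble 625 c)
noncomputable def finTab_s_621_627 (c : Nat) : Nat := @Bool.rec (fun _ => Nat) (finTab_s_621_624 c) (finTab_s_624_627 c) (Nat.ble 624 c)
noncomputable def finTab_s_628_630 (c : Nat) : Nat := @Bool.rec (fun _ => Nat) (finTab_628) (finTab_629) (Nat.ble 629 c)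
noncomputable def finTab_s_627_630 (c : Nat) : Nat := @Bool.rec (fun _ => Nat) (finTab_627) (finTab_s_628_630 c) (Nat.ble 628 c)
noncomputable def finTab_s_631_633 (c : Nat) : Nat := @Bool.rec (fun _ => Nat) (finTab_631) (finTab_632) (Nat.ble 632 c)
noncomputable def finTab_s_630_633 (c : Nat) : Nat := @Bool.rec (fun _ => Nat) (finTab_630) (finTab_s_631_633 c) (Nat.ble 631 c)
noncomputable def finTab_s_627_633 (c : Nat) : Nat := @Bool.rec (fun _ => Nat) (finTab_s_627_630 c) (finTab_s_630_633 c) (Nat.ble 630 c)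
noncomputable def finTab_s_621_633 (c : Nat) : Nat := @Bool.rec (fun _ => Nat) (finTab_s_621_627 c) (finTab_s_627_633 c) (Nat.ble 627 c)
noncomputable def finTab_s_610_633 (c : Nat) : Nat := @Bool.rec (fun _ => Nat) (finTab_s_610_621 c) (finTab_s_621_633 c) (Nat.ble 621 c)
noncomputable def finTab_s_634_636 (c : Nat) : Nat := @Bool.rec (fun _ => Nat) (finTab_634) (finTab_635) (Nat.ble 635 c)
noncomputable def finTab_s_633_636 (c : Nat) : Nat := @Bool.rec (fun _ => Nat) (finTab_633) (finTab_s_634_636 c) (Nat.ble 634 c)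
noncomputable def finTab_s_637_639 (c : Nat) : Nat := @Bool.rec (fun _ => Nat) (finTab_637) (finTab_638) (Nat.ble 638 c)
noncomputable def finTab_s_636_639 (c : Nat) : Nat := @Bool.rec (fun _ => Nat) (finTab_636) (finTab_s_637_639 c) (Nat.ble 637 c)
noncomputable def finTab_s_633_639 (c : Nat) : Nat := @Bool.rec (fun _ => Nat) (finTab_s_633_636 c) (finTab_s_636_639 c) (Nat.ble 636 c)
noncomputable def finTab_s_640_642 (c : Nat) : Nat := @Bool.rec (fun _ => Nat) (finTab_640) (finTab_641) (Nat.ble 641 c)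
noncomputable def finTab_s_639_642 (c : Nat) : Nat := @Bool.rec (fun _ => Nat) (finTab_639) (finTab_s_640_642 c) (Nat.ble 640 c)
noncomputable def finTab_s_643_645 (c : Nat) : Nat := @Bool.rec (fun _ => Nat) (finTab_643) (finTab_644) (Nat.ble 644 c)
noncomputable def finTab_s_642_645 (c : Nat) : Nat := @Bool.rec (fun _ => Nat) (finTab_642) (finTab_s_643_645 c) (Nat.ble 643 c)
noncomputable def finTab_s_639_645 (c : Nat) : Nat := @Bool.rec (fun _ => Nat) (finTab_s_639_642 c) (finTab_s_642_645 c) (Nat.ble 642 c)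
noncomputable def finTab_s_633_645 (c : Nat) : Nat := @Bool.rec (fun _ => Nat) (finTab_s_633_639 c) (finTab_s_639_645 c) (Nat.ble 639 c)
noncomputable def finTab_s_646_648 (c : Nat) : Nat := @Bool.rec (fun _ => Nat) (finTab_646) (finTab_647) (Nat.ble 647 c)
noncomputable def finTab_s_645_648 (c : Nat) : Nat := @Bool.rec (fun _ => Nat) (finTab_645) (finTab_s_646_648 c) (Nat.ble 646 c)
noncomputable def finTab_s_649_651 (c : Nat) : Nat := @Bool.rec (fun _ => Nat) (finTab_649) (finTab_650) (Nat.ble 650 c)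
noncomputable def finTab_s_648_651 (c : Nat) : Nat := @Bool.rec (fun _ => Nat) (finTab_648) (finTab_s_649_651 c) (Nat.ble 649 c)
noncomputable def finTab_s_645_651 (c : Nat) : Nat := @Bool.rec (fun _ => Nat) (finTab_s_645_648 c) (finTab_s_648_651 c) (Nat.ble 648 c)
noncomputable def finTab_s_652_654 (c : Nat) : Nat := @Bool.rec (fun _ => Nat) (finTab_652) (finTab_653) (Nat.ble 653 c)
noncomputable def finTab_s_651_654 (c : Nat) : Nat := @Bool.rec (fun _ => Nat) (finTab_651) (finTab_s_652_654 c) (Nat.ble 652 c)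
noncomputable def finTab_s_655_657 (c : Nat) : Nat := @Bool.rec (fun _ => Nat) (finTab_655) (finTab_656) (Nat.ble 656 c)
noncomputable def finTab_s_654_657 (c : Nat) : Nat := @Bool.rec (fun _ => Nat) (finTab_654) (finTab_s_655_657 c) (Nat.ble 655 c)
noncomputable def finTab_s_651_657 (c : Nat) : Nat := @Bool.rec (fun _ => Nat) (finTab_s_651_654 c) (finTab_s_654_657 c) (Nat.ble 654 c)
noncomputable def finTab_s_645_657 (c : Nat) : Nat := @Bool.rec (fun _ => Nat) (finTab_s_645_651 c) (finTab_s_651_657 c) (Nat.ble 651 c)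
noncomputable def finTab_s_633_657 (c : Nat) : Nat := @Bool.rec (fun _ => Nat) (finTab_s_633_645 c) (finTab_s_645_657 c) (Nat.ble 645 c)
noncomputable def finTab_s_610_657 (c : Nat) : Nat := @Bool.rec (fun _ => Nat) (finTab_s_610_633 c) (finTab_s_633_657 c) (Nat.ble 633 c)
noncomputable def finTab_s_563_657 (c : Nat) : Nat := @Bool.rec (fun _ => Nat) (finTab_s_563_610 c) (finTab_s_610_657 c) (Nat.ble 610 c)
noncomputable def finTab_s_657_659 (c : Nat) : Nat := @Bool.rec (fun _ => Nat) (finTab_657) (finTab_658) (Nat.ble 658 c)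
noncomputable def finTab_s_660_662 (c : Nat) : Nat := @Bool.rec (fun _ => Nat) (finTab_660) (finTab_661) (Nat.ble 661 c)
noncomputable def finTab_s_659_662 (c : Nat) : Nat := @Bool.rec (fun _ => Nat) (finTab_659) (finTab_s_660_662 c) (Nat.ble 660 c)
noncomputable def finTab_s_657_662 (c : Nat) : Nat := @Bool.rec (fun _ => Nat) (finTab_s_657_659 c) (finTab_s_659_662 c) (Nat.ble 659 c)
noncomputable def finTab_s_663_665 (c : Nat) : Nat := @Bool.rec (fun _ => Nat) (finTab_663) (finTab_664) (Nat.ble 664 c)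
noncomputable def finTab_s_662_665 (c : Nat) : Nat := @Bool.rec (fun _ => Nat) (finTab_662) (finTab_s_663_665 c) (Nat.ble 663 c)
noncomputable def finTab_s_666_668 (c : Nat) : Nat := @Bool.rec (fun _ => Nat) (finTab_666) (finTab_667) (Nat.ble 667 c)
noncomputable def finTab_s_665_668 (c : Nat) : Nat := @Bool.rec (fun _ => Nat) (finTab_665) (finTab_s_666_668 c) (Nat.ble 666 c)
noncomputable def finTab_s_662_668 (c : Nat) : Nat := @Bool.rec (fun _ => Nat) (finTab_s_662_665 c) (finTab_s_665_668 c) (Nat.ble 665 c)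
noncomputable def finTab_s_657_668 (c : Nat) : Nat := @Bool.rec (fun _ => Nat) (finTab_s_657_662 c) (finTab_s_662_668 c) (Nat.ble 662 c)
noncomputable def finTab_s_669_671 (c : Nat) : Nat := @Bool.rec (fun _ => Nat) (finTab_669) (finTab_670) (Nat.ble 670 c)
noncomputable def finTab_s_668_671 (c : Nat) : Nat := @Bool.rec (fun _ => Nat) (finTab_668) (finTab_s_669_671 c) (Nat.ble 669 c)
noncomputable def finTab_s_672_674 (c : Nat) : Nat := @Bool.rec (fun _ => Nat) (finTab_672) (finTab_673) (Nat.ble 673 c)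
noncomputable def finTab_s_671_674 (c : Nat) : Nat := @Bool.rec (fun _ => Nat) (finTab_671) (finTab_s_672_674 c) (Nat.ble 672 c)
noncomputable def finTab_s_668_674 (c : Nat) : Nat := @Bool.rec (fun _ => Nat) (finTab_s_668_671 c) (finTab_s_671_674 c) (Nat.ble 671 c)
noncomputable def finTab_s_675_677 (c : Nat) : Nat := @Bool.rec (fun _ => Nat) (finTab_675) (finTab_676) (Nat.ble 676 c)
noncomputable def finTab_s_674_677 (c : Nat) : Nat := @Bool.rec (fun _ => Nat) (finTab_674) (finTab_s_675_677 c) (Nat.ble 675 c)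
noncomputable def finTab_s_678_680 (c : Nat) : Nat := @Bool.rec (fun _ => Nat) (finTab_678) (finTab_679) (Nat.ble 679 c)
noncomputable def finTab_s_677_680 (c : Nat) : Nat := @Bool.rec (fun _ => Nat) (finTab_677) (finTab_s_678_680 c) (Nat.ble 678 c)
noncomputable def finTab_s_674_680 (c : Nat) : Nat := @Bool.rec (fun _ => Nat) (finTab_s_674_677 c) (finTab_s_677_680 c) (Nat.ble 677 c)
noncomputable def finTab_s_668_680 (c : Nat) : Nat := @Bool.rec (fun _ => Nat) (finTab_s_668_674 c) (finTab_s_674_680 c) (Nat.ble 674 c)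
noncomputable def finTab_s_657_680 (c : Nat) : Nat := @Bool.rec (fun _ => Nat) (finTab_s_657_668 c) (finTab_s_668_680 c) (Nat.ble 668 c)
noncomputable def finTab_s_681_683 (c : Nat) : Nat := @Bool.rec (fun _ => Nat) (finTab_681) (finTab_682) (Nat.ble 682 c)
noncomputable def finTab_s_680_683 (c : Nat) : Nat := @Bool.rec (fun _ => Nat) (finTab_680) (finTab_s_681_683 c) (Nat.ble 681 c)
noncomputable def finTab_s_684_686 (c : Nat) : Nat := @Bool.rec (fun _ => Nat) (finTab_684) (finTab_685) (Nat.ble 685 c)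
noncomputable def finTab_s_683_686 (c : Nat) : Nat := @Bool.rec (fun _ => Nat) (finTab_683) (finTab_s_684_686 c) (Nat.ble 684 c)
noncomputable def finTab_s_680_686 (c : Nat) : Nat := @Bool.rec (fun _ => Nat) (finTab_s_680_683 c) (finTab_s_683_686 c) (Nat.ble 683 c)
noncomputable def finTab_s_687_689 (c : Nat) : Nat := @Bool.rec (fun _ => Nat) (finTab_687) (finTab_688) (Nat.ble 688 c)
noncomputable def finTab_s_686_689 (c : Nat) : Nat := @Bool.rec (fun _ => Nat) (finTab_686) (finTab_s_687_689 c) (Nat.ble 687 c)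
noncomputable def finTab_s_690_692 (c : Nat) : Nat := @Bool.rec (fun _ => Nat) (finTab_690) (finTab_691) (Nat.ble 691 c)
noncomputable def finTab_s_689_692 (c : Nat) : Nat := @Bool.rec (fun _ => Nat) (finTab_689) (finTab_s_690_692 c) (Nat.ble 690 c)
noncomputable def finTab_s_686_692 (c : Nat) : Nat := @Bool.rec (fun _ => Nat) (finTab_s_686_689 c) (finTab_s_689_692 c) (Nat.ble 689 c)
noncomputable def finTab_s_680_692 (c : Nat) : Nat := @Bool.rec (fun _ => Nat) (finTab_s_680_686 c) (finTab_s_686_692 c) (Nat.ble 686 c)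
noncomputable def finTab_s_693_695 (c : Nat) : Nat := @Bool.rec (fun _ => Nat) (finTab_693) (finTab_694) (Nat.ble 694 c)
noncomputable def finTab_s_692_695 (c : Nat) : Nat := @Bool.rec (fun _ => Nat) (finTab_692) (finTab_s_693_695 c) (Nat.ble 693 c)
noncomputable def finTab_s_696_698 (c : Nat) : Nat := @Bool.rec (fun _ => Nat) (finTab_696) (finTab_697) (Nat.ble 697 c)
noncomputable def finTab_s_695_698 (c : Nat) : Nat := @Bool.rec (fun _ => Nat) (finTab_695) (finTab_s_696_698 c) (Nat.ble 696 c)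
noncomputable def finTab_s_692_698 (c : Nat) : Nat := @Bool.rec (fun _ => Nat) (finTab_s_692_695 c) (finTab_s_695_698 c) (Nat.ble 695 c)
noncomputable def finTab_s_699_701 (c : Nat) : Nat := @Bool.rec (fun _ => Nat) (finTab_699) (finTab_700) (Nat.ble 700 c)
noncomputable def finTab_s_698_701 (c : Nat) : Nat := @Bool.rec (fun _ => Nat) (finTab_698) (finTab_s_699_701 c) (Nat.ble 699 c)
noncomputable def finTab_s_702_704 (c : Nat) : Nat := @Bool.rec (fun _ => Nat) (finTab_702) (finTab_703) (Nat.ble 703 c)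
noncomputable def finTab_s_701_704 (c : Nat) : Nat := @Bool.rec (fun _ => Nat) (finTab_701) (finTab_s_702_704 c) (Nat.ble 702 c)
noncomputable def finTab_s_698_704 (c : Nat) : Nat := @Bool.rec (fun _ => Nat) (finTab_s_698_701 c) (finTab_s_701_704 c) (Nat.ble 701 c)
noncomputable def finTab_s_692_704 (c : Nat) : Nat := @Bool.rec (fun _ => Nat) (finTab_s_692_698 c) (finTab_s_698_704 c) (Nat.ble 698 c)
noncomputable def finTab_s_680_704 (c : Nat) : Nat := @Bool.rec (fun _ => Nat) (finTab_s_680_692 c) (finTab_s_692_704 c) (Nat.ble 692 c)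
noncomputable def finTab_s_657_704 (c : Nat) : Nat := @Bool.rec (fun _ => Nat) (finTab_s_657_680 c) (finTab_s_680_704 c) (Nat.ble 680 c)
noncomputable def finTab_s_704_706 (c : Nat) : Nat := @Bool.rec (fun _ => Nat) (finTab_704) (finTab_705) (Nat.ble 705 c)
noncomputable def finTab_s_707_709 (c : Nat) : Nat := @Bool.rec (fun _ => Nat) (finTab_707) (finTab_708) (Nat.ble 708 c)
noncomputable def finTab_s_706_709 (c : Nat) : Nat := @Bool.rec (fun _ => Nat) (finTab_706) (finTab_s_707_709 c) (Nat.ble 707 c)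
noncomputable def finTab_s_704_709 (c : Nat) : Nat := @Bool.rec (fun _ => Nat) (finTab_s_704_706 c) (finTab_s_706_709 c) (Nat.ble 706 c)
noncomputable def finTab_s_710_712 (c : Nat) : Nat := @Bool.rec (fun _ => Nat) (finTab_710) (finTab_711) (Nat.ble 711 c)
noncomputable def finTab_s_709_712 (c : Nat) : Nat := @Bool.rec (fun _ => Nat) (finTab_709) (finTab_s_710_712 c) (Nat.ble 710 c)
noncomputable def finTab_s_713_715 (c : Nat) : Nat := @Bool.rec (fun _ => Nat) (finTab_713) (finTab_714) (Nat.ble 714 c)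
noncomputable def finTab_s_712_715 (c : Nat) : Nat := @Bool.rec (fun _ => Nat) (finTab_712) (finTab_s_713_715 c) (Nat.ble 713 c)
noncomputable def finTab_s_709_715 (c : Nat) : Nat := @Bool.rec (fun _ => Nat) (finTab_s_709_712 c) (finTab_s_712_715 c) (Nat.ble 712 c)
noncomputable def finTab_s_704_715 (c : Nat) : Nat := @Bool.rec (fun _ => Nat) (finTab_s_704_709 c) (finTab_s_709_715 c) (Nat.ble 709 c)
noncomputable def finTab_s_716_718 (c : Nat) : Nat := @Bool.rec (fun _ => Nat) (finTab_716) (finTab_717) (Nat.ble 717 c)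
noncomputable def finTab_s_715_718 (c : Nat) : Nat := @Bool.rec (fun _ => Nat) (finTab_715) (finTab_s_716_718 c) (Nat.ble 716 c)
noncomputable def finTab_s_719_721 (c : Nat) : Nat := @Bool.rec (fun _ => Nat) (finTab_719) (finTab_720) (Nat.ble 720 c)
noncomputable def finTab_s_718_721 (c : Nat) : Nat := @Bool.rec (fun _ => Nat) (finTab_718) (finTab_s_719_721 c) (Nat.ble 719 c)
noncomputable def finTab_s_715_721 (c : Nat) : Nat := @Bool.rec (fun _ => Nat) (finTab_s_715_718 c) (finTab_s_718_721 c) (Nat.ble 718 c)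
noncomputable def finTab_s_722_724 (c : Nat) : Nat := @Bool.rec (fun _ => Nat) (finTab_722) (finTab_723) (Nat.ble 723 c)
noncomputable def finTab_s_721_724 (c : Nat) : Nat := @Bool.rec (fun _ => Nat) (finTab_721) (finTab_s_722_724 c) (Nat.ble 722 c)
noncomputable def finTab_s_725_727 (c : Nat) : Nat := @Bool.rec (fun _ => Nat) (finTab_725) (finTab_726) (Nat.ble 726 c)
noncomputable def finTab_s_724_727 (c : Nat) : Nat := @Bool.rec (fun _ => Nat) (finTab_724) (finTab_s_725_727 c) (Nat.ble 725 c)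
noncomputable def finTab_s_721_727 (c : Nat) : Nat := @Bool.rec (fun _ => Nat) (finTab_s_721_724 c) (finTab_s_724_727 c) (Nat.ble 724 c)
noncomputable def finTab_s_715_727 (c : Nat) : Nat := @Bool.rec (fun _ => Nat) (finTab_s_715_721 c) (finTab_s_721_727 c) (Nat.ble 721 c)
noncomputable def finTab_s_704_727 (c : Nat) : Nat := @Bool.rec (fun _ => Nat) (finTab_s_704_715 c) (finTab_s_715_727 c) (Nat.ble 715 c)
noncomputable def finTab_s_728_730 (c : Nat) : Nat := @Bool.rec (fun _ => Nat) (finTab_728) (finTab_729) (Nat.ble 729 c)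
noncomputable def finTab_s_727_730 (c : Nat) : Nat := @Bool.rec (fun _ => Nat) (finTab_727) (finTab_s_728_730 c) (Nat.ble 728 c)
noncomputable def finTab_s_731_733 (c : Nat) : Nat := @Bool.rec (fun _ => Nat) (finTab_731) (finTab_732) (Nat.ble 732 c)
noncomputable def finTab_s_730_733 (c : Nat) : Nat := @Bool.rec (fun _ => Nat) (finTab_730) (finTab_s_731_733 c) (Nat.ble 731 c)
noncomputable def finTab_s_727_733 (c : Nat) : Nat := @Bool.rec (fun _ => Nat) (finTab_s_727_730 c) (finTab_s_730_733 c) (Nat.ble 730 c)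
noncomputable def finTab_s_734_736 (c : Nat) : Nat := @Bool.rec (fun _ => Nat) (finTab_734) (finTab_735) (Nat.ble 735 c)
noncomputable def finTab_s_733_736 (c : Nat) : Nat := @Bool.rec (fun _ => Nat) (finTab_733) (finTab_s_734_736 c) (Nat.ble 734 c)
noncomputable def finTab_s_737_739 (c : Nat) : Nat := @Bool.rec (fun _ => Nat) (finTab_737) (finTab_738) (Nat.ble 738 c)
noncomputable def finTab_s_736_739 (c : Nat) : Nat := @Bool.rec (fun _ => Nat) (finTab_736) (finTab_s_737_739 c) (Nat.ble 737 c)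
noncomputable def finTab_s_733_739 (c : Nat) : Nat := @Bool.rec (fun _ => Nat) (finTab_s_733_736 c) (finTab_s_736_739 c) (Nat.ble 736 c)
noncomputable def finTab_s_727_739 (c : Nat) : Nat := @Bool.rec (fun _ => Nat) (finTab_s_727_733 c) (finTab_s_733_739 c) (Nat.ble 733 c)
noncomputable def finTab_s_740_742 (c : Nat) : Nat := @Bool.rec (fun _ => Nat) (finTab_740) (finTab_741) (Nat.ble 741 c)
noncomputable def finTab_s_739_742 (c : Nat) : Nat := @Bool.rec (fun _ => Nat) (finTab_739) (finTab_s_740_742 c) (Nat.ble 740 c)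
noncomputable def finTab_s_743_745 (c : Nat) : Nat := @Bool.rec (fun _ => Nat) (finTab_743) (finTab_744) (Nat.ble 744 c)
noncomputable def finTab_s_742_745 (c : Nat) : Nat := @Bool.rec (fun _ => Nat) (finTab_742) (finTab_s_743_745 c) (Nat.ble 743 c)
noncomputable def finTab_s_739_745 (c : Nat) : Nat := @Bool.rec (fun _ => Nat) (finTab_s_739_742 c) (finTab_s_742_745 c) (Nat.ble 742 c)
noncomputable def finTab_s_746_748 (c : Nat) : Nat := @Bool.rec (fun _ => Nat) (finTab_746) (finTab_747) (Nat.ble 747 c)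
noncomputable def finTab_s_745_748 (c : Nat) : Nat := @Bool.rec (fun _ => Nat) (finTab_745) (finTab_s_746_748 c) (Nat.ble 746 c)
noncomputable def finTab_s_749_751 (c : Nat) : Nat := @Bool.rec (fun _ => Nat) (finTab_749) (finTab_750) (Nat.ble 750 c)
noncomputable def finTab_s_748_751 (c : Nat) : Nat := @Bool.rec (fun _ => Nat) (finTab_748) (finTab_s_749_751 c) (Nat.ble 749 c)
noncomputable def finTab_s_745_751 (c : Nat) : Nat := @Bool.rec (fun _ => Nat) (finTab_s_745_748 c) (finTab_s_748_751 c) (Nat.ble 748 c)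
noncomputable def finTab_s_739_751 (c : Nat) : Nat := @Bool.rec (fun _ => Nat) (finTab_s_739_745 c) (finTab_s_745_751 c) (Nat.ble 745 c)
noncomputable def finTab_s_727_751 (c : Nat) : Nat := @Bool.rec (fun _ => Nat) (finTab_s_727_739 c) (finTab_s_739_751 c) (Nat.ble 739 c)
noncomputable def finTab_s_704_751 (c : Nat) : Nat := @Bool.rec (fun _ => Nat) (finTab_s_704_727 c) (finTab_s_727_751 c) (Nat.ble 727 c)
noncomputable def finTab_s_657_751 (c : Nat) : Nat := @Bool.rec (fun _ => Nat) (finTab_s_657_704 c) (finTab_s_704_751 c) (Nat.ble 704 c)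
noncomputable def finTab_s_563_751 (c : Nat) : Nat := @Bool.rec (fun _ => Nat) (finTab_s_563_657 c) (finTab_s_657_751 c) (Nat.ble 657 c)
noncomputable def finTab_s_375_751 (c : Nat) : Nat := @Bool.rec (fun _ => Nat) (finTab_s_375_563 c) (finTab_s_563_751 c) (Nat.ble 563 c)
noncomputable def finTab_s_0_751 (c : Nat) : Nat := @Bool.rec (fun _ => Nat) (finTab_s_0_375 c) (finTab_s_375_751 c) (Nat.ble 375 c)
noncomputable def finTab_s_751_753 (c : Nat) : Nat := @Bool.rec (fun _ => Nat) (finTab_751) (finTab_752) (Nat.ble 752 c)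
noncomputable def finTab_s_754_756 (c : Nat) : Nat := @Bool.rec (fun _ => Nat) (finTab_754) (finTab_755) (Nat.ble 755 c)
noncomputable def finTab_s_753_756 (c : Nat) : Nat := @Bool.rec (fun _ => Nat) (finTab_753) (finTab_s_754_756 c) (Nat.ble 754 c)
noncomputable def finTab_s_751_756 (c : Nat) : Nat := @Bool.rec (fun _ => Nat) (finTab_s_751_753 c) (finTab_s_753_756 c) (Nat.ble 753 c)
noncomputable def finTab_s_757_759 (c : Nat) : Nat := @Bool.rec (fun _ => Nat) (finTab_757) (finTab_758) (Nat.ble 758 c)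
noncomputable def finTab_s_756_759 (c : Nat) : Nat := @Bool.rec (fun _ => Nat) (finTab_756) (finTab_s_757_759 c) (Nat.ble 757 c)
noncomputable def finTab_s_760_762 (c : Nat) : Nat := @Bool.rec (fun _ => Nat) (finTab_760) (finTab_761) (Nat.ble 761 c)
noncomputable def finTab_s_759_762 (c : Nat) : Nat := @Bool.rec (fun _ => Nat) (finTab_759) (finTab_s_760_762 c) (Nat.ble 760 c)
noncomputable def finTab_s_756_762 (c : Nat) : Nat := @Bool.rec (fun _ => Nat) (finTab_s_756_759 c) (finTab_s_759_762 c) (Nat.ble 759 c)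
noncomputable def finTab_s_751_762 (c : Nat) : Nat := @Bool.rec (fun _ => Nat) (finTab_s_751_756 c) (finTab_s_756_762 c) (Nat.ble 756 c)
noncomputable def finTab_s_763_765 (c : Nat) : Nat := @Bool.rec (fun _ => Nat) (finTab_763) (finTab_764) (Nat.ble 764 c)
noncomputable def finTab_s_762_765 (c : Nat) : Nat := @Bool.rec (fun _ => Nat) (finTab_762) (finTab_s_763_765 c) (Nat.ble 763 c)
noncomputable def finTab_s_766_768 (c : Nat) : Nat := @Bool.rec (fun _ => Nat) (finTab_766) (finTab_767) (Nat.ble 767 c)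
noncomputable def finTab_s_765_768 (c : Nat) : Nat := @Bool.rec (fun _ => Nat) (finTab_765) (finTab_s_766_768 c) (Nat.ble 766 c)
noncomputable def finTab_s_762_768 (c : Nat) : Nat := @Bool.rec (fun _ => Nat) (finTab_s_762_765 c) (finTab_s_765_768 c) (Nat.ble 765 c)
noncomputable def finTab_s_769_771 (c : Nat) : Nat := @Bool.rec (fun _ => Nat) (finTab_769) (finTab_770) (Nat.ble 770 c)
noncomputable def finTab_s_768_771 (c : Nat) : Nat := @Bool.rec (fun _ => Nat) (finTab_768) (finTab_s_769_771 c) (Nat.ble 769 c)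
noncomputable def finTab_s_772_774 (c : Nat) : Nat := @Bool.rec (fun _ => Nat) (finTab_772) (finTab_773) (Nat.ble 773 c)
noncomputable def finTab_s_771_774 (c : Nat) : Nat := @Bool.rec (fun _ => Nat) (finTab_771) (finTab_s_772_774 c) (Nat.ble 772 c)
noncomputable def finTab_s_768_774 (c : Nat) : Nat := @Bool.rec (fun _ => Nat) (finTab_s_768_771 c) (finTab_s_771_774 c) (Nat.ble 771 c)
noncomputable def finTab_s_762_774 (c : Nat) : Nat := @Bool.rec (fun _ => Nat) (finTab_s_762_768 c) (finTab_s_768_774 c) (Nat.ble 768 c)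
noncomputable def finTab_s_751_774 (c : Nat) : Nat := @Bool.rec (fun _ => Nat) (finTab_s_751_762 c) (finTab_s_762_774 c) (Nat.ble 762 c)
noncomputable def finTab_s_775_777 (c : Nat) : Nat := @Bool.rec (fun _ => Nat) (finTab_775) (finTab_776) (Nat.ble 776 c)
noncomputable def finTab_s_774_777 (c : Nat) : Nat := @Bool.rec (fun _ => Nat) (finTab_774) (finTab_s_775_777 c) (Nat.ble 775 c)
noncomputable def finTab_s_778_780 (c : Nat) : Nat := @Bool.rec (fun _ => Nat) (finTab_778) (finTab_779) (Nat.ble 779 c)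
noncomputable def finTab_s_777_780 (c : Nat) : Nat := @Bool.rec (fun _ => Nat) (finTab_777) (finTab_s_778_780 c) (Nat.ble 778 c)
noncomputable def finTab_s_774_780 (c : Nat) : Nat := @Bool.rec (fun _ => Nat) (finTab_s_774_777 c) (finTab_s_777_780 c) (Nat.ble 777 c)
noncomputable def finTab_s_781_783 (c : Nat) : Nat := @Bool.rec (fun _ => Nat) (finTab_781) (finTab_782) (Nat.ble 782 c)
noncomputable def finTab_s_780_783 (c : Nat) : Nat := @Bool.rec (fun _ => Nat) (finTab_780) (finTab_s_781_783 c) (Nat.ble 781 c)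
noncomputable def finTab_s_784_786 (c : Nat) : Nat := @Bool.rec (fun _ => Nat) (finTab_784) (finTab_785) (Nat.ble 785 c)
noncomputable def finTab_s_783_786 (c : Nat) : Nat := @Bool.rec (fun _ => Nat) (finTab_783) (finTab_s_784_786 c) (Nat.ble 784 c)
noncomputable def finTab_s_780_786 (c : Nat) : Nat := @Bool.rec (fun _ => Nat) (finTab_s_780_783 c) (finTab_s_783_786 c) (Nat.ble 783 c)
noncomputable def finTab_s_774_786 (c : Nat) : Nat := @Bool.rec (fun _ => Nat) (finTab_s_774_780 c) (finTab_s_780_786 c) (Nat.ble 780 c)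
noncomputable def finTab_s_787_789 (c : Nat) : Nat := @Bool.rec (fun _ => Nat) (finTab_787) (finTab_788) (Nat.ble 788 c)
noncomputable def finTab_s_786_789 (c : Nat) : Nat := @Bool.rec (fun _ => Nat) (finTab_786) (finTab_s_787_789 c) (Nat.ble 787 c)
noncomputable def finTab_s_790_792 (c : Nat) : Nat := @Bool.rec (fun _ => Nat) (finTab_790) (finTab_791) (Nat.ble 791 c)
noncomputable def finTab_s_789_792 (c : Nat) : Nat := @Bool.rec (fun _ => Nat) (finTab_789) (finTab_s_790_792 c) (Nat.ble 790 c)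
noncomputable def finTab_s_786_792 (c : Nat) : Nat := @Bool.rec (fun _ => Nat) (finTab_s_786_789 c) (finTab_s_789_792 c) (Nat.ble 789 c)
noncomputable def finTab_s_793_795 (c : Nat) : Nat := @Bool.rec (fun _ => Nat) (finTab_793) (finTab_794) (Nat.ble 794 c)
noncomputable def finTab_s_792_795 (c : Nat) : Nat := @Bool.rec (fun _ => Nat) (finTab_792) (finTab_s_793_795 c) (Nat.ble 793 c)
noncomputable def finTab_s_796_798 (c : Nat) : Nat := @Bool.rec (fun _ => Nat) (finTab_796) (finTab_797) (Nat.ble 797 c)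
noncomputable def finTab_s_795_798 (c : Nat) : Nat := @Bool.rec (fun _ => Nat) (finTab_795) (finTab_s_796_798 c) (Nat.ble 796 c)
noncomputable def finTab_s_792_798 (c : Nat) : Nat := @Bool.rec (fun _ => Nat) (finTab_s_792_795 c) (finTab_s_795_798 c) (Nat.ble 795 c)
noncomputable def finTab_s_786_798 (c : Nat) : Nat := @Bool.rec (fun _ => Nat) (finTab_s_786_792 c) (finTab_s_792_798 c) (Nat.ble 792 c)
noncomputable def finTab_s_774_798 (c : Nat) : Nat := @Bool.rec (fun _ => Nat) (finTab_s_774_786 c) (finTab_s_786_798 c) (Nat.ble 786 c)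
noncomputable def finTab_s_751_798 (c : Nat) : Nat := @Bool.rec (fun _ => Nat) (finTab_s_751_774 c) (finTab_s_774_798 c) (Nat.ble 774 c)
noncomputable def finTab_s_798_800 (c : Nat) : Nat := @Bool.rec (fun _ => Nat) (finTab_798) (finTab_799) (Nat.ble 799 c)
noncomputable def finTab_s_801_803 (c : Nat) : Nat := @Bool.rec (fun _ => Nat) (finTab_801) (finTab_802) (Nat.ble 802 c)
noncomputable def finTab_s_800_803 (c : Nat) : Nat := @Bool.rec (fun _ => Nat) (finTab_800) (finTab_s_801_803 c) (Nat.ble 801 c)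
noncomputable def finTab_s_798_803 (c : Nat) : Nat := @Bool.rec (fun _ => Nat) (finTab_s_798_800 c) (finTab_s_800_803 c) (Nat.ble 800 c)
noncomputable def finTab_s_804_806 (c : Nat) : Nat := @Bool.rec (fun _ => Nat) (finTab_804) (finTab_805) (Nat.ble 805 c)
noncomputable def finTab_s_803_806 (c : Nat) : Nat := @Bool.rec (fun _ => Nat) (finTab_803) (finTab_s_804_806 c) (Nat.ble 804 c)
noncomputable def finTab_s_807_809 (c : Nat) : Nat := @Bool.rec (fun _ => Nat) (finTab_807) (finTab_808) (Nat.ble 808 c)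
noncomputable def finTab_s_806_809 (c : Nat) : Nat := @Bool.rec (fun _ => Nat) (finTab_806) (finTab_s_807_809 c) (Nat.ble 807 c)
noncomputable def finTab_s_803_809 (c : Nat) : Nat := @Bool.rec (fun _ => Nat) (finTab_s_803_806 c) (finTab_s_806_809 c) (Nat.ble 806 c)
noncomputable def finTab_s_798_809 (c : Nat) : Nat := @Bool.rec (fun _ => Nat) (finTab_s_798_803 c) (finTab_s_803_809 c) (Nat.ble 803 c)
noncomputable def finTab_s_810_812 (c : Nat) : Nat := @Bool.rec (fun _ => Nat) (finTab_810) (finTab_811) (Nat.ble 811 c)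
noncomputable def finTab_s_809_812 (c : Nat) : Nat := @Bool.rec (fun _ => Nat) (finTab_809) (finTab_s_810_812 c) (Nat.ble 810 c)
noncomputable def finTab_s_813_815 (c : Nat) : Nat := @Bool.rec (fun _ => Nat) (finTab_813) (finTab_814) (Nat.ble 814 c)
noncomputable def finTab_s_812_815 (c : Nat) : Nat := @Bool.rec (fun _ => Nat) (finTab_812) (finTab_s_813_815 c) (Nat.ble 813 c)
noncomputable def finTab_s_809_815 (c : Nat) : Nat := @Bool.rec (fun _ => Nat) (finTab_s_809_812 c) (finTab_s_812_815 c) (Nat.ble 812 c)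
noncomputable def finTab_s_816_818 (c : Nat) : Nat := @Bool.rec (fun _ => Nat) (finTab_816) (finTab_817) (Nat.ble 817 c)
noncomputable def finTab_s_815_818 (c : Nat) : Nat := @Bool.rec (fun _ => Nat) (finTab_815) (finTab_s_816_818 c) (Nat.ble 816 c)
noncomputable def finTab_s_819_821 (c : Nat) : Nat := @Bool.rec (fun _ => Nat) (finTab_819) (finTab_820) (Nat.ble 820 c)
noncomputable def finTab_s_818_821 (c : Nat) : Nat := @Bool.rec (fun _ => Nat) (finTab_818) (finTab_s_819_821 c) (Nat.ble 819 c)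
noncomputable def finTab_s_815_821 (c : Nat) : Nat := @Bool.rec (fun _ => Nat) (finTab_s_815_818 c) (finTab_s_818_821 c) (Nat.ble 818 c)
noncomputable def finTab_s_809_821 (c : Nat) : Nat := @Bool.rec (fun _ => Nat) (finTab_s_809_815 c) (finTab_s_815_821 c) (Nat.ble 815 c)
noncomputable def finTab_s_798_821 (c : Nat) : Nat := @Bool.rec (fun _ => Nat) (finTab_s_798_809 c) (finTab_s_809_821 c) (Nat.ble 809 c)
noncomputable def finTab_s_822_824 (c : Nat) : Nat := @Bool.rec (fun _ => Nat) (finTab_822) (finTab_823) (Nat.ble 823 c)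
noncomputable def finTab_s_821_824 (c : Nat) : Nat := @Bool.rec (fun _ => Nat) (finTab_821) (finTab_s_822_824 c) (Nat.ble 822 c)
noncomputable def finTab_s_825_827 (c : Nat) : Nat := @Bool.rec (fun _ => Nat) (finTab_825) (finTab_826) (Nat.ble 826 c)
noncomputable def finTab_s_824_827 (c : Nat) : Nat := @Bool.rec (fun _ => Nat) (finTab_824) (finTab_s_825_827 c) (Nat.ble 825 c)
noncomputable def finTab_s_821_827 (c : Nat) : Nat := @Bool.rec (fun _ => Nat) (finTab_s_821_824 c) (finTab_s_824_827 c) (Nat.ble 824 c)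
noncomputable def finTab_s_828_830 (c : Nat) : Nat := @Bool.rec (fun _ => Nat) (finTab_828) (finTab_829) (Nat.ble 829 c)
noncomputable def finTab_s_827_830 (c : Nat) : Nat := @Bool.rec (fun _ => Nat) (finTab_827) (finTab_s_828_830 c) (Nat.ble 828 c)
noncomputable def finTab_s_831_833 (c : Nat) : Nat := @Bool.rec (fun _ => Nat) (finTab_831) (finTab_832) (Nat.ble 832 c)
noncomputable def finTab_s_830_833 (c : Nat) : Nat := @Bool.rec (fun _ => Nat) (finTab_830) (finTab_s_831_833 c) (Nat.ble 831 c)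
noncomputable def finTab_s_827_833 (c : Nat) : Nat := @Bool.rec (fun _ => Nat) (finTab_s_827_830 c) (finTab_s_830_833 c) (Nat.ble 830 c)
noncomputable def finTab_s_821_833 (c : Nat) : Nat := @Bool.rec (fun _ => Nat) (finTab_s_821_827 c) (finTab_s_827_833 c) (Nat.ble 827 c)
noncomputable def finTab_s_834_836 (c : Nat) : Nat := @Bool.rec (fun _ => Nat) (finTab_834) (finTab_835) (Nat.ble 835 c)
noncomputable def finTab_s_833_836 (c : Nat) : Nat := @Bool.rec (fun _ => Nat) (finTab_833) (finTab_s_834_836 c) (Nat.ble 834 c)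
noncomputable def finTab_s_837_839 (c : Nat) : Nat := @Bool.rec (fun _ => Nat) (finTab_837) (finTab_838) (Nat.ble 838 c)
noncomputable def finTab_s_836_839 (c : Nat) : Nat := @Bool.rec (fun _ => Nat) (finTab_836) (finTab_s_837_839 c) (Nat.ble 837 c)
noncomputable def finTab_s_833_839 (c : Nat) : Nat := @Bool.rec (fun _ => Nat) (finTab_s_833_836 c) (finTab_s_836_839 c) (Nat.ble 836 c)
noncomputable def finTab_s_840_842 (c : Nat) : Nat := @Bool.rec (fun _ => Nat) (finTab_840) (finTab_841) (Nat.ble 841 c)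
noncomputable def finTab_s_839_842 (c : Nat) : Nat := @Bool.rec (fun _ => Nat) (finTab_839) (finTab_s_840_842 c) (Nat.ble 840 c)
noncomputable def finTab_s_843_845 (c : Nat) : Nat := @Bool.rec (fun _ => Nat) (finTab_843) (finTab_844) (Nat.ble 844 c)
noncomputable def finTab_s_842_845 (c : Nat) : Nat := @Bool.rec (fun _ => Nat) (finTab_842) (finTab_s_843_845 c) (Nat.ble 843 c)
noncomputable def finTab_s_839_845 (c : Nat) : Nat := @Bool.rec (fun _ => Nat) (finTab_s_839_842 c) (finTab_s_842_845 c) (Nat.ble 842 c)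
noncomputable def finTab_s_833_845 (c : Nat) : Nat := @Bool.rec (fun _ => Nat) (finTab_s_833_839 c) (finTab_s_839_845 c) (Nat.ble 839 c)
noncomputable def finTab_s_821_845 (c : Nat) : Nat := @Bool.rec (fun _ => Nat) (finTab_s_821_833 c) (finTab_s_833_845 c) (Nat.ble 833 c)
noncomputable def finTab_s_798_845 (c : Nat) : Nat := @Bool.rec (fun _ => Nat) (finTab_s_798_821 c) (finTab_s_821_845 c) (Nat.ble 821 c)
noncomputable def finTab_s_751_845 (c : Nat) : Nat := @Bool.rec (fun _ => Nat) (finTab_s_751_798 c) (finTab_s_798_845 c) (Nat.ble 798 c)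
noncomputable def finTab_s_845_847 (c : Nat) : Nat := @Bool.rec (fun _ => Nat) (finTab_845) (finTab_846) (Nat.ble 846 c)
noncomputable def finTab_s_848_850 (c : Nat) : Nat := @Bool.rec (fun _ => Nat) (finTab_848) (finTab_849) (Nat.ble 849 c)
noncomputable def finTab_s_847_850 (c : Nat) : Nat := @Bool.rec (fun _ => Nat) (finTab_847) (finTab_s_848_850 c) (Nat.ble 848 c)
noncomputable def finTab_s_845_850 (c : Nat) : Nat := @Bool.rec (fun _ => Nat) (finTab_s_845_847 c) (finTab_s_847_850 c) (Nat.ble 847 c)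
noncomputable def finTab_s_851_853 (c : Nat) : Nat := @Bool.rec (fun _ => Nat) (finTab_851) (finTab_852) (Nat.ble 852 c)
noncomputable def finTab_s_850_853 (c : Nat) : Nat := @Bool.rec (fun _ => Nat) (finTab_850) (finTab_s_851_853 c) (Nat.ble 851 c)
noncomputable def finTab_s_854_856 (c : Nat) : Nat := @Bool.rec (fun _ => Nat) (finTab_854) (finTab_855) (Nat.ble 855 c)
noncomputable def finTab_s_853_856 (c : Nat) : Nat := @Bool.rec (fun _ => Nat) (finTab_853) (finTab_s_854_856 c) (Nat.ble 854 c)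
noncomputable def finTab_s_850_856 (c : Nat) : Nat := @Bool.rec (fun _ => Nat) (finTab_s_850_853 c) (finTab_s_853_856 c) (Nat.ble 853 c)
noncomputable def finTab_s_845_856 (c : Nat) : Nat := @Bool.rec (fun _ => Nat) (finTab_s_845_850 c) (finTab_s_850_856 c) (Nat.ble 850 c)
noncomputable def finTab_s_857_859 (c : Nat) : Nat := @Bool.rec (fun _ => Nat) (finTab_857) (finTab_858) (Nat.ble 858 c)
noncomputable def finTab_s_856_859 (c : Nat) : Nat := @Bool.rec (fun _ => Nat) (finTab_856) (finTab_s_857_859 c) (Nat.ble 857 c)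
noncomputable def finTab_s_860_862 (c : Nat) : Nat := @Bool.rec (fun _ => Nat) (finTab_860) (finTab_861) (Nat.ble 861 c)
noncomputable def finTab_s_859_862 (c : Nat) : Nat := @Bool.rec (fun _ => Nat) (finTab_859) (finTab_s_860_862 c) (Nat.ble 860 c)
noncomputable def finTab_s_856_862 (c : Nat) : Nat := @Bool.rec (fun _ => Nat) (finTab_s_856_859 c) (finTab_s_859_862 c) (Nat.ble 859 c)
noncomputable def finTab_s_863_865 (c : Nat) : Nat := @Bool.rec (fun _ => Nat) (finTab_863) (finTab_864) (Nat.ble 864 c)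
noncomputable def finTab_s_862_865 (c : Nat) : Nat := @Bool.rec (fun _ => Nat) (finTab_862) (finTab_s_863_865 c) (Nat.ble 863 c)
noncomputable def finTab_s_866_868 (c : Nat) : Nat := @Bool.rec (fun _ => Nat) (finTab_866) (finTab_867) (Nat.ble 867 c)
noncomputable def finTab_s_865_868 (c : Nat) : Nat := @Bool.rec (fun _ => Nat) (finTab_865) (finTab_s_866_868 c) (Nat.ble 866 c)
noncomputable def finTab_s_862_868 (c : Nat) : Nat := @Bool.rec (fun _ => Nat) (finTab_s_862_865 c) (finTab_s_865_868 c) (Nat.ble 865 c)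
noncomputable def finTab_s_856_868 (c : Nat) : Nat := @Bool.rec (fun _ => Nat) (finTab_s_856_862 c) (finTab_s_862_868 c) (Nat.ble 862 c)
noncomputable def finTab_s_845_868 (c : Nat) : Nat := @Bool.rec (fun _ => Nat) (finTab_s_845_856 c) (finTab_s_856_868 c) (Nat.ble 856 c)
noncomputable def finTab_s_869_871 (c : Nat) : Nat := @Bool.rec (fun _ => Nat) (finTab_869) (finTab_870) (Nat.ble 870 c)
noncomputable def finTab_s_868_871 (c : Nat) : Nat := @Bool.rec (fun _ => Nat) (finTab_868) (finTab_s_869_871 c) (Nat.ble 869 c)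
noncomputable def finTab_s_872_874 (c : Nat) : Nat := @Bool.rec (fun _ => Nat) (finTab_872) (finTab_873) (Nat.ble 873 c)
noncomputable def finTab_s_871_874 (c : Nat) : Nat := @Bool.rec (fun _ => Nat) (finTab_871) (finTab_s_872_874 c) (Nat.ble 872 c)
noncomputable def finTab_s_868_874 (c : Nat) : Nat := @Bool.rec (fun _ => Nat) (finTab_s_868_871 c) (finTab_s_871_874 c) (Nat.ble 871 c)
noncomputable def finTab_s_875_877 (c : Nat) : Nat := @Bool.rec (fun _ => Nat) (finTab_875) (finTab_876) (Nat.ble 876 c)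
noncomputable def finTab_s_874_877 (c : Nat) : Nat := @Bool.rec (fun _ => Nat) (finTab_874) (finTab_s_875_877 c) (Nat.ble 875 c)
noncomputable def finTab_s_878_880 (c : Nat) : Nat := @Bool.rec (fun _ => Nat) (finTab_878) (finTab_879) (Nat.ble 879 c)
noncomputable def finTab_s_877_880 (c : Nat) : Nat := @Bool.rec (fun _ => Nat) (finTab_877) (finTab_s_878_880 c) (Nat.ble 878 c)
noncomputable def finTab_s_874_880 (c : Nat) : Nat := @Bool.rec (fun _ => Nat) (finTab_s_874_877 c) (finTab_s_877_880 c) (Nat.ble 877 c)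
noncomputable def finTab_s_868_880 (c : Nat) : Nat := @Bool.rec (fun _ => Nat) (finTab_s_868_874 c) (finTab_s_874_880 c) (Nat.ble 874 c)
noncomputable def finTab_s_881_883 (c : Nat) : Nat := @Bool.rec (fun _ => Nat) (finTab_881) (finTab_882) (Nat.ble 882 c)
noncomputable def finTab_s_880_883 (c : Nat) : Nat := @Bool.rec (fun _ => Nat) (finTab_880) (finTab_s_881_883 c) (Nat.ble 881 c)
noncomputable def finTab_s_884_886 (c : Nat) : Nat := @Bool.rec (fun _ => Nat) (finTab_884) (finTab_885) (Nat.ble 885 c)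
noncomputable def finTab_s_883_886 (c : Nat) : Nat := @Bool.rec (fun _ => Nat) (finTab_883) (finTab_s_884_886 c) (Nat.ble 884 c)
noncomputable def finTab_s_880_886 (c : Nat) : Nat := @Bool.rec (fun _ => Nat) (finTab_s_880_883 c) (finTab_s_883_886 c) (Nat.ble 883 c)
noncomputable def finTab_s_887_889 (c : Nat) : Nat := @Bool.rec (fun _ => Nat) (finTab_887) (finTab_888) (Nat.ble 888 c)
noncomputable def finTab_s_886_889 (c : Nat) : Nat := @Bool.rec (fun _ => Nat) (finTab_886) (finTab_s_887_889 c) (Nat.ble 887 c)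
noncomputable def finTab_s_890_892 (c : Nat) : Nat := @Bool.rec (fun _ => Nat) (finTab_890) (finTab_891) (Nat.ble 891 c)
noncomputable def finTab_s_889_892 (c : Nat) : Nat := @Bool.rec (fun _ => Nat) (finTab_889) (finTab_s_890_892 c) (Nat.ble 890 c)
noncomputable def finTab_s_886_892 (c : Nat) : Nat := @Bool.rec (fun _ => Nat) (finTab_s_886_889 c) (finTab_s_889_892 c) (Nat.ble 889 c)
noncomputable def finTab_s_880_892 (c : Nat) : Nat := @Bool.rec (fun _ => Nat) (finTab_s_880_886 c) (finTab_s_886_892 c) (Nat.ble 886 c)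
noncomputable def finTab_s_868_892 (c : Nat) : Nat := @Bool.rec (fun _ => Nat) (finTab_s_868_880 c) (finTab_s_880_892 c) (Nat.ble 880 c)
noncomputable def finTab_s_845_892 (c : Nat) : Nat := @Bool.rec (fun _ => Nat) (finTab_s_845_868 c) (finTab_s_868_892 c) (Nat.ble 868 c)
noncomputable def finTab_s_892_894 (c : Nat) : Nat := @Bool.rec (fun _ => Nat) (finTab_892) (finTab_893) (Nat.ble 893 c)
noncomputable def finTab_s_895_897 (c : Nat) : Nat := @Bool.rec (fun _ => Nat) (finTab_895) (finTab_896) (Nat.ble 896 c)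
noncomputable def finTab_s_894_897 (c : Nat) : Nat := @Bool.rec (fun _ => Nat) (finTab_894) (finTab_s_895_897 c) (Nat.ble 895 c)
noncomputable def finTab_s_892_897 (c : Nat) : Nat := @Bool.rec (fun _ => Nat) (finTab_s_892_894 c) (finTab_s_894_897 c) (Nat.ble 894 c)
noncomputable def finTab_s_898_900 (c : Nat) : Nat := @Bool.rec (fun _ => Nat) (finTab_898) (finTab_899) (Nat.ble 899 c)
noncomputable def finTab_s_897_900 (c : Nat) : Nat := @Bool.rec (fun _ => Nat) (finTab_897) (finTab_s_898_900 c) (Nat.ble 898 c)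
noncomputable def finTab_s_901_903 (c : Nat) : Nat := @Bool.rec (fun _ => Nat) (finTab_901) (finTab_902) (Nat.ble 902 c)
noncomputable def finTab_s_900_903 (c : Nat) : Nat := @Bool.rec (fun _ => Nat) (finTab_900) (finTab_s_901_903 c) (Nat.ble 901 c)
noncomputable def finTab_s_897_903 (c : Nat) : Nat := @Bool.rec (fun _ => Nat) (finTab_s_897_900 c) (finTab_s_900_903 c) (Nat.ble 900 c)
noncomputable def finTab_s_892_903 (c : Nat) : Nat := @Bool.rec (fun _ => Nat) (finTab_s_892_897 c) (finTab_s_897_903 c) (Nat.ble 897 c)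
noncomputable def finTab_s_904_906 (c : Nat) : Nat := @Bool.rec (fun _ => Nat) (finTab_904) (finTab_905) (Nat.ble 905 c)
noncomputable def finTab_s_903_906 (c : Nat) : Nat := @Bool.rec (fun _ => Nat) (finTab_903) (finTab_s_904_906 c) (Nat.ble 904 c)
noncomputable def finTab_s_907_909 (c : Nat) : Nat := @Bool.rec (fun _ => Nat) (finTab_907) (finTab_908) (Nat.ble 908 c)
noncomputable def finTab_s_906_909 (c : Nat) : Nat := @Bool.rec (fun _ => Nat) (finTab_906) (finTab_s_907_909 c) (Nat.ble 907 c)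
noncomputable def finTab_s_903_909 (c : Nat) : Nat := @Bool.rec (fun _ => Nat) (finTab_s_903_906 c) (finTab_s_906_909 c) (Nat.ble 906 c)
noncomputable def finTab_s_910_912 (c : Nat) : Nat := @Bool.rec (fun _ => Nat) (finTab_910) (finTab_911) (Nat.ble 911 c)
noncomputable def finTab_s_909_912 (c : Nat) : Nat := @Bool.rec (fun _ => Nat) (finTab_909) (finTab_s_910_912 c) (Nat.ble 910 c)
noncomputable def finTab_s_913_915 (c : Nat) : Nat := @Bool.rec (fun _ => Nat) (finTab_913) (finTab_914) (Nat.ble 914 c)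
noncomputable def finTab_s_912_915 (c : Nat) : Nat := @Bool.rec (fun _ => Nat) (finTab_912) (finTab_s_913_915 c) (Nat.ble 913 c)
noncomputable def finTab_s_909_915 (c : Nat) : Nat := @Bool.rec (fun _ => Nat) (finTab_s_909_912 c) (finTab_s_912_915 c) (Nat.ble 912 c)
noncomputable def finTab_s_903_915 (c : Nat) : Nat := @Bool.rec (fun _ => Nat) (finTab_s_903_909 c) (finTab_s_909_915 c) (Nat.ble 909 c)
noncomputable def finTab_s_892_915 (c : Nat) : Nat := @Bool.rec (fun _ => Nat) (finTab_s_892_903 c) (finTab_s_903_915 c) (Nat.ble 903 c)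
noncomputable def finTab_s_916_918 (c : Nat) : Nat := @Bool.rec (fun _ => Nat) (finTab_916) (finTab_917) (Nat.ble 917 c)
noncomputable def finTab_s_915_918 (c : Nat) : Nat := @Bool.rec (fun _ => Nat) (finTab_915) (finTab_s_916_918 c) (Nat.ble 916 c)
noncomputable def finTab_s_919_921 (c : Nat) : Nat := @Bool.rec (fun _ => Nat) (finTab_919) (finTab_920) (Nat.ble 920 c)
noncomputable def finTab_s_918_921 (c : Nat) : Nat := @Bool.rec (fun _ => Nat) (finTab_918) (finTab_s_919_921 c) (Nat.ble 919 c)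
noncomputable def finTab_s_915_921 (c : Nat) : Nat := @Bool.rec (fun _ => Nat) (finTab_s_915_918 c) (finTab_s_918_921 c) (Nat.ble 918 c)
noncomputable def finTab_s_922_924 (c : Nat) : Nat := @Bool.rec (fun _ => Nat) (finTab_922) (finTab_923) (Nat.ble 923 c)
noncomputable def finTab_s_921_924 (c : Nat) : Nat := @Bool.rec (fun _ => Nat) (finTab_921) (finTab_s_922_924 c) (Nat.ble 922 c)
noncomputable def finTab_s_925_927 (c : Nat) : Nat := @Bool.rec (fun _ => Nat) (finTab_925) (finTab_926) (Nat.ble 926 c)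
noncomputable def finTab_s_924_927 (c : Nat) : Nat := @Bool.rec (fun _ => Nat) (finTab_924) (finTab_s_925_927 c) (Nat.ble 925 c)
noncomputable def finTab_s_921_927 (c : Nat) : Nat := @Bool.rec (fun _ => Nat) (finTab_s_921_924 c) (finTab_s_924_927 c) (Nat.ble 924 c)
noncomputable def finTab_s_915_927 (c : Nat) : Nat := @Bool.rec (fun _ => Nat) (finTab_s_915_921 c) (finTab_s_921_927 c) (Nat.ble 921 c)
noncomputable def finTab_s_928_930 (c : Nat) : Nat := @Bool.rec (fun _ => Nat) (finTab_928) (finTab_929) (Nat.ble 929 c)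
noncomputable def finTab_s_927_930 (c : Nat) : Nat := @Bool.rec (fun _ => Nat) (finTab_927) (finTab_s_928_930 c) (Nat.ble 928 c)
noncomputable def finTab_s_931_933 (c : Nat) : Nat := @Bool.rec (fun _ => Nat) (finTab_931) (finTab_932) (Nat.ble 932 c)
noncomputable def finTab_s_930_933 (c : Nat) : Nat := @Bool.rec (fun _ => Nat) (finTab_930) (finTab_s_931_933 c) (Nat.ble 931 c)
noncomputable def finTab_s_927_933 (c : Nat) : Nat := @Bool.rec (fun _ => Nat) (finTab_s_927_930 c) (finTab_s_930_933 c) (Nat.ble 930 c)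
noncomputable def finTab_s_934_936 (c : Nat) : Nat := @Bool.rec (fun _ => Nat) (finTab_934) (finTab_935) (Nat.ble 935 c)
noncomputable def finTab_s_933_936 (c : Nat) : Nat := @Bool.rec (fun _ => Nat) (finTab_933) (finTab_s_934_936 c) (Nat.ble 934 c)
noncomputable def finTab_s_937_939 (c : Nat) : Nat := @Bool.rec (fun _ => Nat) (finTab_937) (finTab_938) (Nat.ble 938 c)
noncomputable def finTab_s_936_939 (c : Nat) : Nat := @Bool.rec (fun _ => Nat) (finTab_936) (finTab_s_937_939 c) (Nat.ble 937 c)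
noncomputable def finTab_s_933_939 (c : Nat) : Nat := @Bool.rec (fun _ => Nat) (finTab_s_933_936 c) (finTab_s_936_939 c) (Nat.ble 936 c)
noncomputable def finTab_s_927_939 (c : Nat) : Nat := @Bool.rec (fun _ => Nat) (finTab_s_927_933 c) (finTab_s_933_939 c) (Nat.ble 933 c)
noncomputable def finTab_s_915_939 (c : Nat) : Nat := @Bool.rec (fun _ => Nat) (finTab_s_915_927 c) (finTab_s_927_939 c) (Nat.ble 927 c)
noncomputable def finTab_s_892_939 (c : Nat) : Nat := @Bool.rec (fun _ => Nat) (finTab_s_892_915 c) (finTab_s_915_939 c) (Nat.ble 915 c)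
noncomputable def finTab_s_845_939 (c : Nat) : Nat := @Bool.rec (fun _ => Nat) (finTab_s_845_892 c) (finTab_s_892_939 c) (Nat.ble 892 c)
noncomputable def finTab_s_751_939 (c : Nat) : Nat := @Bool.rec (fun _ => Nat) (finTab_s_751_845 c) (finTab_s_845_939 c) (Nat.ble 845 c)
noncomputable def finTab_s_939_941 (c : Nat) : Nat := @Bool.rec (fun _ => Nat) (finTab_939) (finTab_940) (Nat.ble 940 c)
noncomputable def finTab_s_942_944 (c : Nat) : Nat := @Bool.rec (fun _ => Nat) (finTab_942) (finTab_943) (Nat.ble 943 c)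
noncomputable def finTab_s_941_944 (c : Nat) : Nat := @Bool.rec (fun _ => Nat) (finTab_941) (finTab_s_942_944 c) (Nat.ble 942 c)
noncomputable def finTab_s_939_944 (c : Nat) : Nat := @Bool.rec (fun _ => Nat) (finTab_s_939_941 c) (finTab_s_941_944 c) (Nat.ble 941 c)
noncomputable def finTab_s_945_947 (c : Nat) : Nat := @Bool.rec (fun _ => Nat) (finTab_945) (finTab_946) (Nat.ble 946 c)
noncomputable def finTab_s_944_947 (c : Nat) : Nat := @Bool.rec (fun _ => Nat) (finTab_944) (finTab_s_945_947 c) (Nat.ble 945 c)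
noncomputable def finTab_s_948_950 (c : Nat) : Nat := @Bool.rec (fun _ => Nat) (finTab_948) (finTab_949) (Nat.ble 949 c)
noncomputable def finTab_s_947_950 (c : Nat) : Nat := @Bool.rec (fun _ => Nat) (finTab_947) (finTab_s_948_950 c) (Nat.ble 948 c)
noncomputable def finTab_s_944_950 (c : Nat) : Nat := @Bool.rec (fun _ => Nat) (finTab_s_944_947 c) (finTab_s_947_950 c) (Nat.ble 947 c)
noncomputable def finTab_s_939_950 (c : Nat) : Nat := @Bool.rec (fun _ => Nat) (finTab_s_939_944 c) (finTab_s_944_950 c) (Nat.ble 944 c)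
noncomputable def finTab_s_951_953 (c : Nat) : Nat := @Bool.rec (fun _ => Nat) (finTab_951) (finTab_952) (Nat.ble 952 c)
noncomputable def finTab_s_950_953 (c : Nat) : Nat := @Bool.rec (fun _ => Nat) (finTab_950) (finTab_s_951_953 c) (Nat.ble 951 c)
noncomputable def finTab_s_954_956 (c : Nat) : Nat := @Bool.rec (fun _ => Nat) (finTab_954) (finTab_955) (Nat.ble 955 c)
noncomputable def finTab_s_953_956 (c : Nat) : Nat := @Bool.rec (fun _ => Nat) (finTab_953) (finTab_s_954_956 c) (Nat.ble 954 c)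
noncomputable def finTab_s_950_956 (c : Nat) : Nat := @Bool.rec (fun _ => Nat) (finTab_s_950_953 c) (finTab_s_953_956 c) (Nat.ble 953 c)
noncomputable def finTab_s_957_959 (c : Nat) : Nat := @Bool.rec (fun _ => Nat) (finTab_957) (finTab_958) (Nat.ble 958 c)
noncomputable def finTab_s_956_959 (c : Nat) : Nat := @Bool.rec (fun _ => Nat) (finTab_956) (finTab_s_957_959 c) (Nat.ble 957 c)
noncomputable def finTab_s_960_962 (c : Nat) : Nat := @Bool.rec (fun _ => Nat) (finTab_960) (finTab_961) (Nat.ble 961 c)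
noncomputable def finTab_s_959_962 (c : Nat) : Nat := @Bool.rec (fun _ => Nat) (finTab_959) (finTab_s_960_962 c) (Nat.ble 960 c)
noncomputable def finTab_s_956_962 (c : Nat) : Nat := @Bool.rec (fun _ => Nat) (finTab_s_956_959 c) (finTab_s_959_962 c) (Nat.ble 959 c)
noncomputable def finTab_s_950_962 (c : Nat) : Nat := @Bool.rec (fun _ => Nat) (finTab_s_950_956 c) (finTab_s_956_962 c) (Nat.ble 956 c)
noncomputable def finTab_s_939_962 (c : Nat) : Nat := @Bool.rec (fun _ => Nat) (finTab_s_939_950 c) (finTab_s_950_962 c) (Nat.ble 950 c)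
noncomputable def finTab_s_963_965 (c : Nat) : Nat := @Bool.rec (fun _ => Nat) (finTab_963) (finTab_964) (Nat.ble 964 c)
noncomputable def finTab_s_962_965 (c : Nat) : Nat := @Bool.rec (fun _ => Nat) (finTab_962) (finTab_s_963_965 c) (Nat.ble 963 c)
noncomputable def finTab_s_966_968 (c : Nat) : Nat := @Bool.rec (fun _ => Nat) (finTab_966) (finTab_967) (Nat.ble 967 c)
noncomputable def finTab_s_965_968 (c : Nat) : Nat := @Bool.rec (fun _ => Nat) (finTab_965) (finTab_s_966_968 c) (Nat.ble 966 c)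
noncomputable def finTab_s_962_968 (c : Nat) : Nat := @Bool.rec (fun _ => Nat) (finTab_s_962_965 c) (finTab_s_965_968 c) (Nat.ble 965 c)
noncomputable def finTab_s_969_971 (c : Nat) : Nat := @Bool.rec (fun _ => Nat) (finTab_969) (finTab_970) (Nat.ble 970 c)
noncomputable def finTab_s_968_971 (c : Nat) : Nat := @Bool.rec (fun _ => Nat) (finTab_968) (finTab_s_969_971 c) (Nat.ble 969 c)
noncomputable def finTab_s_972_974 (c : Nat) : Nat := @Bool.rec (fun _ => Nat) (finTab_972) (finTab_973) (Nat.ble 973 c)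
noncomputable def finTab_s_971_974 (c : Nat) : Nat := @Bool.rec (fun _ => Nat) (finTab_971) (finTab_s_972_974 c) (Nat.ble 972 c)
noncomputable def finTab_s_968_974 (c : Nat) : Nat := @Bool.rec (fun _ => Nat) (finTab_s_968_971 c) (finTab_s_971_974 c) (Nat.ble 971 c)
noncomputable def finTab_s_962_974 (c : Nat) : Nat := @Bool.rec (fun _ => Nat) (finTab_s_962_968 c) (finTab_s_968_974 c) (Nat.ble 968 c)
noncomputable def finTab_s_975_977 (c : Nat) : Nat := @Bool.rec (fun _ => Nat) (finTab_975) (finTab_976) (Nat.ble 976 c)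
noncomputable def finTab_s_974_977 (c : Nat) : Nat := @Bool.rec (fun _ => Nat) (finTab_974) (finTab_s_975_977 c) (Nat.ble 975 c)
noncomputable def finTab_s_978_980 (c : Nat) : Nat := @Bool.rec (fun _ => Nat) (finTab_978) (finTab_979) (Nat.ble 979 c)
noncomputable def finTab_s_977_980 (c : Nat) : Nat := @Bool.rec (fun _ => Nat) (finTab_977) (finTab_s_978_980 c) (Nat.ble 978 c)
noncomputable def finTab_s_974_980 (c : Nat) : Nat := @Bool.rec (fun _ => Nat) (finTab_s_974_977 c) (finTab_s_977_980 c) (Nat.ble 977 c)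
noncomputable def finTab_s_981_983 (c : Nat) : Nat := @Bool.rec (fun _ => Nat) (finTab_981) (finTab_982) (Nat.ble 982 c)
noncomputable def finTab_s_980_983 (c : Nat) : Nat := @Bool.rec (fun _ => Nat) (finTab_980) (finTab_s_981_983 c) (Nat.ble 981 c)
noncomputable def finTab_s_984_986 (c : Nat) : Nat := @Bool.rec (fun _ => Nat) (finTab_984) (finTab_985) (Nat.ble 985 c)
noncomputable def finTab_s_983_986 (c : Nat) : Nat := @Bool.rec (fun _ => Nat) (finTab_983) (finTab_s_984_986 c) (Nat.ble 984 c)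
noncomputable def finTab_s_980_986 (c : Nat) : Nat := @Bool.rec (fun _ => Nat) (finTab_s_980_983 c) (finTab_s_983_986 c) (Nat.ble 983 c)
noncomputable def finTab_s_974_986 (c : Nat) : Nat := @Bool.rec (fun _ => Nat) (finTab_s_974_980 c) (finTab_s_980_986 c) (Nat.ble 980 c)
noncomputable def finTab_s_962_986 (c : Nat) : Nat := @Bool.rec (fun _ => Nat) (finTab_s_962_974 c) (finTab_s_974_986 c) (Nat.ble 974 c)
noncomputable def finTab_s_939_986 (c : Nat) : Nat := @Bool.rec (fun _ => Nat) (finTab_s_939_962 c) (finTab_s_962_986 c) (Nat.ble 962 c)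
noncomputable def finTab_s_986_988 (c : Nat) : Nat := @Bool.rec (fun _ => Nat) (finTab_986) (finTab_987) (Nat.ble 987 c)
noncomputable def finTab_s_989_991 (c : Nat) : Nat := @Bool.rec (fun _ => Nat) (finTab_989) (finTab_990) (Nat.ble 990 c)
noncomputable def finTab_s_988_991 (c : Nat) : Nat := @Bool.rec (fun _ => Nat) (finTab_988) (finTab_s_989_991 c) (Nat.ble 989 c)
noncomputable def finTab_s_986_991 (c : Nat) : Nat := @Bool.rec (fun _ => Nat) (finTab_s_986_988 c) (finTab_s_988_991 c) (Nat.ble 988 c)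
noncomputable def finTab_s_992_994 (c : Nat) : Nat := @Bool.rec (fun _ => Nat) (finTab_992) (finTab_993) (Nat.ble 993 c)
noncomputable def finTab_s_991_994 (c : Nat) : Nat := @Bool.rec (fun _ => Nat) (finTab_991) (finTab_s_992_994 c) (Nat.ble 992 c)
noncomputable def finTab_s_995_997 (c : Nat) : Nat := @Bool.rec (fun _ => Nat) (finTab_995) (finTab_996) (Nat.ble 996 c)
noncomputable def finTab_s_994_997 (c : Nat) : Nat := @Bool.rec (fun _ => Nat) (finTab_994) (finTab_s_995_997 c) (Nat.ble 995 c)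
noncomputable def finTab_s_991_997 (c : Nat) : Nat := @Bool.rec (fun _ => Nat) (finTab_s_991_994 c) (finTab_s_994_997 c) (Nat.ble 994 c)
noncomputable def finTab_s_986_997 (c : Nat) : Nat := @Bool.rec (fun _ => Nat) (finTab_s_986_991 c) (finTab_s_991_997 c) (Nat.ble 991 c)
noncomputable def finTab_s_998_1000 (c : Nat) : Nat := @Bool.rec (fun _ => Nat) (finTab_998) (finTab_999) (Nat.ble 999 c)
noncomputable def finTab_s_997_1000 (c : Nat) : Nat := @Bool.rec (fun _ => Nat) (finTab_997) (finTab_s_998_1000 c) (Nat.ble 998 c)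
noncomputable def finTab_s_1001_1003 (c : Nat) : Nat := @Bool.rec (fun _ => Nat) (finTab_1001) (finTab_1002) (Nat.ble 1002 c)
noncomputable def finTab_s_1000_1003 (c : Nat) : Nat := @Bool.rec (fun _ => Nat) (finTab_1000) (finTab_s_1001_1003 c) (Nat.ble 1001 c)
noncomputable def finTab_s_997_1003 (c : Nat) : Nat := @Bool.rec (fun _ => Nat) (finTab_s_997_1000 c) (finTab_s_1000_1003 c) (Nat.ble 1000 c)
noncomputable def finTab_s_1004_1006 (c : Nat) : Nat := @Bool.rec (fun _ => Nat) (finTab_1004) (finTab_1005) (Nat.ble 1005 c)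
noncomputable def finTab_s_1003_1006 (c : Nat) : Nat := @Bool.rec (fun _ => Nat) (finTab_1003) (finTab_s_1004_1006 c) (Nat.ble 1004 c)
noncomputable def finTab_s_1007_1009 (c : Nat) : Nat := @Bool.rec (fun _ => Nat) (finTab_1007) (finTab_1008) (Nat.ble 1008 c)
noncomputable def finTab_s_1006_1009 (c : Nat) : Nat := @Bool.rec (fun _ => Nat) (finTab_1006) (finTab_s_1007_1009 c) (Nat.ble 1007 c)
noncomputable def finTab_s_1003_1009 (c : Nat) : Nat := @Bool.rec (fun _ => Nat) (finTab_s_1003_1006 c) (finTab_s_1006_1009 c) (Nat.ble 1006 c)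
noncomputable def finTab_s_997_1009 (c : Nat) : Nat := @Bool.rec (fun _ => Nat) (finTab_s_997_1003 c) (finTab_s_1003_1009 c) (Nat.ble 1003 c)
noncomputable def finTab_s_986_1009 (c : Nat) : Nat := @Bool.rec (fun _ => Nat) (finTab_s_986_997 c) (finTab_s_997_1009 c) (Nat.ble 997 c)
noncomputable def finTab_s_1010_1012 (c : Nat) : Nat := @Bool.rec (fun _ => Nat) (finTab_1010) (finTab_1011) (Nat.ble 1011 c)
noncomputable def finTab_s_1009_1012 (c : Nat) : Nat := @Bool.rec (fun _ => Nat) (finTab_1009) (finTab_s_1010_1012 c) (Nat.ble 1010 c)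
noncomputable def finTab_s_1013_1015 (c : Nat) : Nat := @Bool.rec (fun _ => Nat) (finTab_1013) (finTab_1014) (Nat.ble 1014 c)
noncomputable def finTab_s_1012_1015 (c : Nat) : Nat := @Bool.rec (fun _ => Nat) (finTab_1012) (finTab_s_1013_1015 c) (Nat.ble 1013 c)
noncomputable def finTab_s_1009_1015 (c : Nat) : Nat := @Bool.rec (fun _ => Nat) (finTab_s_1009_1012 c) (finTab_s_1012_1015 c) (Nat.ble 1012 c)
noncomputable def finTab_s_1016_1018 (c : Nat) : Nat := @Bool.rec (fun _ => Nat) (finTab_1016) (finTab_1017) (Nat.ble 1017 c)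
noncomputable def finTab_s_1015_1018 (c : Nat) : Nat := @Bool.rec (fun _ => Nat) (finTab_1015) (finTab_s_1016_1018 c) (Nat.ble 1016 c)
noncomputable def finTab_s_1019_1021 (c : Nat) : Nat := @Bool.rec (fun _ => Nat) (finTab_1019) (finTab_1020) (Nat.ble 1020 c)
noncomputable def finTab_s_1018_1021 (c : Nat) : Nat := @Bool.rec (fun _ => Nat) (finTab_1018) (finTab_s_1019_1021 c) (Nat.ble 1019 c)
noncomputable def finTab_s_1015_1021 (c : Nat) : Nat := @Bool.rec (fun _ => Nat) (finTab_s_1015_1018 c) (finTab_s_1018_1021 c) (Nat.ble 1018 c)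
noncomputable def finTab_s_1009_1021 (c : Nat) : Nat := @Bool.rec (fun _ => Nat) (finTab_s_1009_1015 c) (finTab_s_1015_1021 c) (Nat.ble 1015 c)
noncomputable def finTab_s_1022_1024 (c : Nat) : Nat := @Bool.rec (fun _ => Nat) (finTab_1022) (finTab_1023) (Nat.ble 1023 c)
noncomputable def finTab_s_1021_1024 (c : Nat) : Nat := @Bool.rec (fun _ => Nat) (finTab_1021) (finTab_s_1022_1024 c) (Nat.ble 1022 c)
noncomputable def finTab_s_1025_1027 (c : Nat) : Nat := @Bool.rec (fun _ => Nat) (finTab_1025) (finTab_1026) (Nat.ble 1026 c)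
noncomputable def finTab_s_1024_1027 (c : Nat) : Nat := @Bool.rec (fun _ => Nat) (finTab_1024) (finTab_s_1025_1027 c) (Nat.ble 1025 c)
noncomputable def finTab_s_1021_1027 (c : Nat) : Nat := @Bool.rec (fun _ => Nat) (finTab_s_1021_1024 c) (finTab_s_1024_1027 c) (Nat.ble 1024 c)
noncomputable def finTab_s_1028_1030 (c : Nat) : Nat := @Bool.rec (fun _ => Nat) (finTab_1028) (finTab_1029) (Nat.ble 1029 c)
noncomputable def finTab_s_1027_1030 (c : Nat) : Nat := @Bool.rec (fun _ => Nat) (finTab_1027) (finTab_s_1028_1030 c) (Nat.ble 1028 c)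
noncomputable def finTab_s_1031_1033 (c : Nat) : Nat := @Bool.rec (fun _ => Nat) (finTab_1031) (finTab_1032) (Nat.ble 1032 c)
noncomputable def finTab_s_1030_1033 (c : Nat) : Nat := @Bool.rec (fun _ => Nat) (finTab_1030) (finTab_s_1031_1033 c) (Nat.ble 1031 c)
noncomputable def finTab_s_1027_1033 (c : Nat) : Nat := @Bool.rec (fun _ => Nat) (finTab_s_1027_1030 c) (finTab_s_1030_1033 c) (Nat.ble 1030 c)
noncomputable def finTab_s_1021_1033 (c : Nat) : Nat := @Bool.rec (fun _ => Nat) (finTab_s_1021_1027 c) (finTab_s_1027_1033 c) (Nat.ble 1027 c)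
noncomputable def finTab_s_1009_1033 (c : Nat) : Nat := @Bool.rec (fun _ => Nat) (finTab_s_1009_1021 c) (finTab_s_1021_1033 c) (Nat.ble 1021 c)
noncomputable def finTab_s_986_1033 (c : Nat) : Nat := @Bool.rec (fun _ => Nat) (finTab_s_986_1009 c) (finTab_s_1009_1033 c) (Nat.ble 1009 c)
noncomputable def finTab_s_939_1033 (c : Nat) : Nat := @Bool.rec (fun _ => Nat) (finTab_s_939_986 c) (finTab_s_986_1033 c) (Nat.ble 986 c)
noncomputable def finTab_s_1033_1035 (c : Nat) : Nat := @Bool.rec (fun _ => Nat) (finTab_1033) (finTab_1034) (Nat.ble 1034 c)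
noncomputable def finTab_s_1036_1038 (c : Nat) : Nat := @Bool.rec (fun _ => Nat) (finTab_1036) (finTab_1037) (Nat.ble 1037 c)
noncomputable def finTab_s_1035_1038 (c : Nat) : Nat := @Bool.rec (fun _ => Nat) (finTab_1035) (finTab_s_1036_1038 c) (Nat.ble 1036 c)
noncomputable def finTab_s_1033_1038 (c : Nat) : Nat := @Bool.rec (fun _ => Nat) (finTab_s_1033_1035 c) (finTab_s_1035_1038 c) (Nat.ble 1035 c)
noncomputable def finTab_s_1039_1041 (c : Nat) : Nat := @Bool.rec (fun _ => Nat) (finTab_1039) (finTab_1040) (Nat.ble 1040 c)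
noncomputable def finTab_s_1038_1041 (c : Nat) : Nat := @Bool.rec (fun _ => Nat) (finTab_1038) (finTab_s_1039_1041 c) (Nat.ble 1039 c)
noncomputable def finTab_s_1042_1044 (c : Nat) : Nat := @Bool.rec (fun _ => Nat) (finTab_1042) (finTab_1043) (Nat.ble 1043 c)
noncomputable def finTab_s_1041_1044 (c : Nat) : Nat := @Bool.rec (fun _ => Nat) (finTab_1041) (finTab_s_1042_1044 c) (Nat.ble 1042 c)
noncomputable def finTab_s_1038_1044 (c : Nat) : Nat := @Bool.rec (fun _ => Nat) (finTab_s_1038_1041 c) (finTab_s_1041_1044 c) (Nat.ble 1041 c)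
noncomputable def finTab_s_1033_1044 (c : Nat) : Nat := @Bool.rec (fun _ => Nat) (finTab_s_1033_1038 c) (finTab_s_1038_1044 c) (Nat.ble 1038 c)
noncomputable def finTab_s_1045_1047 (c : Nat) : Nat := @Bool.rec (fun _ => Nat) (finTab_1045) (finTab_1046) (Nat.ble 1046 c)
noncomputable def finTab_s_1044_1047 (c : Nat) : Nat := @Bool.rec (fun _ => Nat) (finTab_1044) (finTab_s_1045_1047 c) (Nat.ble 1045 c)
noncomputable def finTab_s_1048_1050 (c : Nat) : Nat := @Bool.rec (fun _ => Nat) (finTab_1048) (finTab_1049) (Nat.ble 1049 c)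
noncomputable def finTab_s_1047_1050 (c : Nat) : Nat := @Bool.rec (fun _ => Nat) (finTab_1047) (finTab_s_1048_1050 c) (Nat.ble 1048 c)
noncomputable def finTab_s_1044_1050 (c : Nat) : Nat := @Bool.rec (fun _ => Nat) (finTab_s_1044_1047 c) (finTab_s_1047_1050 c) (Nat.ble 1047 c)
noncomputable def finTab_s_1051_1053 (c : Nat) : Nat := @Bool.rec (fun _ => Nat) (finTab_1051) (finTab_1052) (Nat.ble 1052 c)
noncomputable def finTab_s_1050_1053 (c : Nat) : Nat := @Bool.rec (fun _ => Nat) (finTab_1050) (finTab_s_1051_1053 c) (Nat.ble 1051 c)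
noncomputable def finTab_s_1054_1056 (c : Nat) : Nat := @Bool.rec (fun _ => Nat) (finTab_1054) (finTab_1055) (Nat.ble 1055 c)
noncomputable def finTab_s_1053_1056 (c : Nat) : Nat := @Bool.rec (fun _ => Nat) (finTab_1053) (finTab_s_1054_1056 c) (Nat.ble 1054 c)
noncomputable def finTab_s_1050_1056 (c : Nat) : Nat := @Bool.rec (fun _ => Nat) (finTab_s_1050_1053 c) (finTab_s_1053_1056 c) (Nat.ble 1053 c)
noncomputable def finTab_s_1044_1056 (c : Nat) : Nat := @Bool.rec (fun _ => Nat) (finTab_s_1044_1050 c) (finTab_s_1050_1056 c) (Nat.ble 1050 c)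
noncomputable def finTab_s_1033_1056 (c : Nat) : Nat := @Bool.rec (fun _ => Nat) (finTab_s_1033_1044 c) (finTab_s_1044_1056 c) (Nat.ble 1044 c)
noncomputable def finTab_s_1057_1059 (c : Nat) : Nat := @Bool.rec (fun _ => Nat) (finTab_1057) (finTab_1058) (Nat.ble 1058 c)
noncomputable def finTab_s_1056_1059 (c : Nat) : Nat := @Bool.rec (fun _ => Nat) (finTab_1056) (finTab_s_1057_1059 c) (Nat.ble 1057 c)
noncomputable def finTab_s_1060_1062 (c : Nat) : Nat := @Bool.rec (fun _ => Nat) (finTab_1060) (finTab_1061) (Nat.ble 1061 c)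
noncomputable def finTab_s_1059_1062 (c : Nat) : Nat := @Bool.rec (fun _ => Nat) (finTab_1059) (finTab_s_1060_1062 c) (Nat.ble 1060 c)
noncomputable def finTab_s_1056_1062 (c : Nat) : Nat := @Bool.rec (fun _ => Nat) (finTab_s_1056_1059 c) (finTab_s_1059_1062 c) (Nat.ble 1059 c)
noncomputable def finTab_s_1063_1065 (c : Nat) : Nat := @Bool.rec (fun _ => Nat) (finTab_1063) (finTab_1064) (Nat.ble 1064 c)
noncomputable def finTab_s_1062_1065 (c : Nat) : Nat := @Bool.rec (fun _ => Nat) (finTab_1062) (finTab_s_1063_1065 c) (Nat.ble 1063 c)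
noncomputable def finTab_s_1066_1068 (c : Nat) : Nat := @Bool.rec (fun _ => Nat) (finTab_1066) (finTab_1067) (Nat.ble 1067 c)
noncomputable def finTab_s_1065_1068 (c : Nat) : Nat := @Bool.rec (fun _ => Nat) (finTab_1065) (finTab_s_1066_1068 c) (Nat.ble 1066 c)
noncomputable def finTab_s_1062_1068 (c : Nat) : Nat := @Bool.rec (fun _ => Nat) (finTab_s_1062_1065 c) (finTab_s_1065_1068 c) (Nat.ble 1065 c)
noncomputable def finTab_s_1056_1068 (c : Nat) : Nat := @Bool.rec (fun _ => Nat) (finTab_s_1056_1062 c) (finTab_s_1062_1068 c) (Nat.ble 1062 c)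
noncomputable def finTab_s_1069_1071 (c : Nat) : Nat := @Bool.rec (fun _ => Nat) (finTab_1069) (finTab_1070) (Nat.ble 1070 c)
noncomputable def finTab_s_1068_1071 (c : Nat) : Nat := @Bool.rec (fun _ => Nat) (finTab_1068) (finTab_s_1069_1071 c) (Nat.ble 1069 c)
noncomputable def finTab_s_1072_1074 (c : Nat) : Nat := @Bool.rec (fun _ => Nat) (finTab_1072) (finTab_1073) (Nat.ble 1073 c)
noncomputable def finTab_s_1071_1074 (c : Nat) : Nat := @Bool.rec (fun _ => Nat) (finTab_1071) (finTab_s_1072_1074 c) (Nat.ble 1072 c)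
noncomputable def finTab_s_1068_1074 (c : Nat) : Nat := @Bool.rec (fun _ => Nat) (finTab_s_1068_1071 c) (finTab_s_1071_1074 c) (Nat.ble 1071 c)
noncomputable def finTab_s_1075_1077 (c : Nat) : Nat := @Bool.rec (fun _ => Nat) (finTab_1075) (finTab_1076) (Nat.ble 1076 c)
noncomputable def finTab_s_1074_1077 (c : Nat) : Nat := @Bool.rec (fun _ => Nat) (finTab_1074) (finTab_s_1075_1077 c) (Nat.ble 1075 c)
noncomputable def finTab_s_1078_1080 (c : Nat) : Nat := @Bool.rec (fun _ => Nat) (finTab_1078) (finTab_1079) (Nat.ble 1079 c)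
noncomputable def finTab_s_1077_1080 (c : Nat) : Nat := @Bool.rec (fun _ => Nat) (finTab_1077) (finTab_s_1078_1080 c) (Nat.ble 1078 c)
noncomputable def finTab_s_1074_1080 (c : Nat) : Nat := @Bool.rec (fun _ => Nat) (finTab_s_1074_1077 c) (finTab_s_1077_1080 c) (Nat.ble 1077 c)
noncomputable def finTab_s_1068_1080 (c : Nat) : Nat := @Bool.rec (fun _ => Nat) (finTab_s_1068_1074 c) (finTab_s_1074_1080 c) (Nat.ble 1074 c)
noncomputable def finTab_s_1056_1080 (c : Nat) : Nat := @Bool.rec (fun _ => Nat) (finTab_s_1056_1068 c) (finTab_s_1068_1080 c) (Nat.ble 1068 c)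
noncomputable def finTab_s_1033_1080 (c : Nat) : Nat := @Bool.rec (fun _ => Nat) (finTab_s_1033_1056 c) (finTab_s_1056_1080 c) (Nat.ble 1056 c)
noncomputable def finTab_s_1080_1082 (c : Nat) : Nat := @Bool.rec (fun _ => Nat) (finTab_1080) (finTab_1081) (Nat.ble 1081 c)
noncomputable def finTab_s_1083_1085 (c : Nat) : Nat := @Bool.rec (fun _ => Nat) (finTab_1083) (finTab_1084) (Nat.ble 1084 c)
noncomputable def finTab_s_1082_1085 (c : Nat) : Nat := @Bool.rec (fun _ => Nat) (finTab_1082) (finTab_s_1083_1085 c) (Nat.ble 1083 c)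
noncomputable def finTab_s_1080_1085 (c : Nat) : Nat := @Bool.rec (fun _ => Nat) (finTab_s_1080_1082 c) (finTab_s_1082_1085 c) (Nat.ble 1082 c)
noncomputable def finTab_s_1086_1088 (c : Nat) : Nat := @Bool.rec (fun _ => Nat) (finTab_1086) (finTab_1087) (Nat.ble 1087 c)
noncomputable def finTab_s_1085_1088 (c : Nat) : Nat := @Bool.rec (fun _ => Nat) (finTab_1085) (finTab_s_1086_1088 c) (Nat.ble 1086 c)
noncomputable def finTab_s_1089_1091 (c : Nat) : Nat := @Bool.rec (fun _ => Nat) (finTab_1089) (finTab_1090) (Nat.ble 1090 c)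
noncomputable def finTab_s_1088_1091 (c : Nat) : Nat := @Bool.rec (fun _ => Nat) (finTab_1088) (finTab_s_1089_1091 c) (Nat.ble 1089 c)
noncomputable def finTab_s_1085_1091 (c : Nat) : Nat := @Bool.rec (fun _ => Nat) (finTab_s_1085_1088 c) (finTab_s_1088_1091 c) (Nat.ble 1088 c)
noncomputable def finTab_s_1080_1091 (c : Nat) : Nat := @Bool.rec (fun _ => Nat) (finTab_s_1080_1085 c) (finTab_s_1085_1091 c) (Nat.ble 1085 c)
noncomputable def finTab_s_1092_1094 (c : Nat) : Nat := @Bool.rec (fun _ => Nat) (finTab_1092) (finTab_1093) (Nat.ble 1093 c)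
noncomputable def finTab_s_1091_1094 (c : Nat) : Nat := @Bool.rec (fun _ => Nat) (finTab_1091) (finTab_s_1092_1094 c) (Nat.ble 1092 c)
noncomputable def finTab_s_1095_1097 (c : Nat) : Nat := @Bool.rec (fun _ => Nat) (finTab_1095) (finTab_1096) (Nat.ble 1096 c)
noncomputable def finTab_s_1094_1097 (c : Nat) : Nat := @Bool.rec (fun _ => Nat) (finTab_1094) (finTab_s_1095_1097 c) (Nat.ble 1095 c)
noncomputable def finTab_s_1091_1097 (c : Nat) : Nat := @Bool.rec (fun _ => Nat) (finTab_s_1091_1094 c) (finTab_s_1094_1097 c) (Nat.ble 1094 c)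
noncomputable def finTab_s_1098_1100 (c : Nat) : Nat := @Bool.rec (fun _ => Nat) (finTab_1098) (finTab_1099) (Nat.ble 1099 c)
noncomputable def finTab_s_1097_1100 (c : Nat) : Nat := @Bool.rec (fun _ => Nat) (finTab_1097) (finTab_s_1098_1100 c) (Nat.ble 1098 c)
noncomputable def finTab_s_1101_1103 (c : Nat) : Nat := @Bool.rec (fun _ => Nat) (finTab_1101) (finTab_1102) (Nat.ble 1102 c)
noncomputable def finTab_s_1100_1103 (c : Nat) : Nat := @Bool.rec (fun _ => Nat) (finTab_1100) (finTab_s_1101_1103 c) (Nat.ble 1101 c)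
noncomputable def finTab_s_1097_1103 (c : Nat) : Nat := @Bool.rec (fun _ => Nat) (finTab_s_1097_1100 c) (finTab_s_1100_1103 c) (Nat.ble 1100 c)
noncomputable def finTab_s_1091_1103 (c : Nat) : Nat := @Bool.rec (fun _ => Nat) (finTab_s_1091_1097 c) (finTab_s_1097_1103 c) (Nat.ble 1097 c)
noncomputable def finTab_s_1080_1103 (c : Nat) : Nat := @Bool.rec (fun _ => Nat) (finTab_s_1080_1091 c) (finTab_s_1091_1103 c) (Nat.ble 1091 c)
noncomputable def finTab_s_1104_1106 (c : Nat) : Nat := @Bool.rec (fun _ => Nat) (finTab_1104) (finTab_1105) (Nat.ble 1105 c)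
noncomputable def finTab_s_1103_1106 (c : Nat) : Nat := @Bool.rec (fun _ => Nat) (finTab_1103) (finTab_s_1104_1106 c) (Nat.ble 1104 c)
noncomputable def finTab_s_1107_1109 (c : Nat) : Nat := @Bool.rec (fun _ => Nat) (finTab_1107) (finTab_1108) (Nat.ble 1108 c)
noncomputable def finTab_s_1106_1109 (c : Nat) : Nat := @Bool.rec (fun _ => Nat) (finTab_1106) (finTab_s_1107_1109 c) (Nat.ble 1107 c)
noncomputable def finTab_s_1103_1109 (c : Nat) : Nat := @Bool.rec (fun _ => Nat) (finTab_s_1103_1106 c) (finTab_s_1106_1109 c) (Nat.ble 1106 c)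
noncomputable def finTab_s_1110_1112 (c : Nat) : Nat := @Bool.rec (fun _ => Nat) (finTab_1110) (finTab_1111) (Nat.ble 1111 c)
noncomputable def finTab_s_1109_1112 (c : Nat) : Nat := @Bool.rec (fun _ => Nat) (finTab_1109) (finTab_s_1110_1112 c) (Nat.ble 1110 c)
noncomputable def finTab_s_1113_1115 (c : Nat) : Nat := @Bool.rec (fun _ => Nat) (finTab_1113) (finTab_1114) (Nat.ble 1114 c)
noncomputable def finTab_s_1112_1115 (c : Nat) : Nat := @Bool.rec (fun _ => Nat) (finTab_1112) (finTab_s_1113_1115 c) (Nat.ble 1113 c)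
noncomputable def finTab_s_1109_1115 (c : Nat) : Nat := @Bool.rec (fun _ => Nat) (finTab_s_1109_1112 c) (finTab_s_1112_1115 c) (Nat.ble 1112 c)
noncomputable def finTab_s_1103_1115 (c : Nat) : Nat := @Bool.rec (fun _ => Nat) (finTab_s_1103_1109 c) (finTab_s_1109_1115 c) (Nat.ble 1109 c)
noncomputable def finTab_s_1116_1118 (c : Nat) : Nat := @Bool.rec (fun _ => Nat) (finTab_1116) (finTab_1117) (Nat.ble 1117 c)
noncomputable def finTab_s_1115_1118 (c : Nat) : Nat := @Bool.rec (fun _ => Nat) (finTab_1115) (finTab_s_1116_1118 c) (Nat.ble 1116 c)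
noncomputable def finTab_s_1119_1121 (c : Nat) : Nat := @Bool.rec (fun _ => Nat) (finTab_1119) (finTab_1120) (Nat.ble 1120 c)
noncomputable def finTab_s_1118_1121 (c : Nat) : Nat := @Bool.rec (fun _ => Nat) (finTab_1118) (finTab_s_1119_1121 c) (Nat.ble 1119 c)
noncomputable def finTab_s_1115_1121 (c : Nat) : Nat := @Bool.rec (fun _ => Nat) (finTab_s_1115_1118 c) (finTab_s_1118_1121 c) (Nat.ble 1118 c)
noncomputable def finTab_s_1122_1124 (c : Nat) : Nat := @Bool.rec (fun _ => Nat) (finTab_1122) (finTab_1123) (Nat.ble 1123 c)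
noncomputable def finTab_s_1121_1124 (c : Nat) : Nat := @Bool.rec (fun _ => Nat) (finTab_1121) (finTab_s_1122_1124 c) (Nat.ble 1122 c)
noncomputable def finTab_s_1125_1127 (c : Nat) : Nat := @Bool.rec (fun _ => Nat) (finTab_1125) (finTab_1126) (Nat.ble 1126 c)
noncomputable def finTab_s_1124_1127 (c : Nat) : Nat := @Bool.rec (fun _ => Nat) (finTab_1124) (finTab_s_1125_1127 c) (Nat.ble 1125 c)
noncomputable def finTab_s_1121_1127 (c : Nat) : Nat := @Bool.rec (fun _ => Nat) (finTab_s_1121_1124 c) (finTab_s_1124_1127 c) (Nat.ble 1124 c)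
noncomputable def finTab_s_1115_1127 (c : Nat) : Nat := @Bool.rec (fun _ => Nat) (finTab_s_1115_1121 c) (finTab_s_1121_1127 c) (Nat.ble 1121 c)
noncomputable def finTab_s_1103_1127 (c : Nat) : Nat := @Bool.rec (fun _ => Nat) (finTab_s_1103_1115 c) (finTab_s_1115_1127 c) (Nat.ble 1115 c)
noncomputable def finTab_s_1080_1127 (c : Nat) : Nat := @Bool.rec (fun _ => Nat) (finTab_s_1080_1103 c) (finTab_s_1103_1127 c) (Nat.ble 1103 c)
noncomputable def finTab_s_1033_1127 (c : Nat) : Nat := @Bool.rec (fun _ => Nat) (finTab_s_1033_1080 c) (finTab_s_1080_1127 c) (Nat.ble 1080 c)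
noncomputable def finTab_s_939_1127 (c : Nat) : Nat := @Bool.rec (fun _ => Nat) (finTab_s_939_1033 c) (finTab_s_1033_1127 c) (Nat.ble 1033 c)
noncomputable def finTab_s_751_1127 (c : Nat) : Nat := @Bool.rec (fun _ => Nat) (finTab_s_751_939 c) (finTab_s_939_1127 c) (Nat.ble 939 c)
noncomputable def finTab_s_1127_1129 (c : Nat) : Nat := @Bool.rec (fun _ => Nat) (finTab_1127) (finTab_1128) (Nat.ble 1128 c)
noncomputable def finTab_s_1130_1132 (c : Nat) : Nat := @Bool.rec (fun _ => Nat) (finTab_1130) (finTab_1131) (Nat.ble 1131 c)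
noncomputable def finTab_s_1129_1132 (c : Nat) : Nat := @Bool.rec (fun _ => Nat) (finTab_1129) (finTab_s_1130_1132 c) (Nat.ble 1130 c)
noncomputable def finTab_s_1127_1132 (c : Nat) : Nat := @Bool.rec (fun _ => Nat) (finTab_s_1127_1129 c) (finTab_s_1129_1132 c) (Nat.ble 1129 c)
noncomputable def finTab_s_1133_1135 (c : Nat) : Nat := @Bool.rec (fun _ => Nat) (finTab_1133) (finTab_1134) (Nat.ble 1134 c)
noncomputable def finTab_s_1132_1135 (c : Nat) : Nat := @Bool.rec (fun _ => Nat) (finTab_1132) (finTab_s_1133_1135 c) (Nat.ble 1133 c)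
noncomputable def finTab_s_1136_1138 (c : Nat) : Nat := @Bool.rec (fun _ => Nat) (finTab_1136) (finTab_1137) (Nat.ble 1137 c)
noncomputable def finTab_s_1135_1138 (c : Nat) : Nat := @Bool.rec (fun _ => Nat) (finTab_1135) (finTab_s_1136_1138 c) (Nat.ble 1136 c)
noncomputable def finTab_s_1132_1138 (c : Nat) : Nat := @Bool.rec (fun _ => Nat) (finTab_s_1132_1135 c) (finTab_s_1135_1138 c) (Nat.ble 1135 c)
noncomputable def finTab_s_1127_1138 (c : Nat) : Nat := @Bool.rec (fun _ => Nat) (finTab_s_1127_1132 c) (finTab_s_1132_1138 c) (Nat.ble 1132 c)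
noncomputable def finTab_s_1139_1141 (c : Nat) : Nat := @Bool.rec (fun _ => Nat) (finTab_1139) (finTab_1140) (Nat.ble 1140 c)
noncomputable def finTab_s_1138_1141 (c : Nat) : Nat := @Bool.rec (fun _ => Nat) (finTab_1138) (finTab_s_1139_1141 c) (Nat.ble 1139 c)
noncomputable def finTab_s_1142_1144 (c : Nat) : Nat := @Bool.rec (fun _ => Nat) (finTab_1142) (finTab_1143) (Nat.ble 1143 c)
noncomputable def finTab_s_1141_1144 (c : Nat) : Nat := @Bool.rec (fun _ => Nat) (finTab_1141) (finTab_s_1142_1144 c) (Nat.ble 1142 c)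
noncomputable def finTab_s_1138_1144 (c : Nat) : Nat := @Bool.rec (fun _ => Nat) (finTab_s_1138_1141 c) (finTab_s_1141_1144 c) (Nat.ble 1141 c)
noncomputable def finTab_s_1145_1147 (c : Nat) : Nat := @Bool.rec (fun _ => Nat) (finTab_1145) (finTab_1146) (Nat.ble 1146 c)
noncomputable def finTab_s_1144_1147 (c : Nat) : Nat := @Bool.rec (fun _ => Nat) (finTab_1144) (finTab_s_1145_1147 c) (Nat.ble 1145 c)
noncomputable def finTab_s_1148_1150 (c : Nat) : Nat := @Bool.rec (fun _ => Nat) (finTab_1148) (finTab_1149) (Nat.ble 1149 c)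
noncomputable def finTab_s_1147_1150 (c : Nat) : Nat := @Bool.rec (fun _ => Nat) (finTab_1147) (finTab_s_1148_1150 c) (Nat.ble 1148 c)
noncomputable def finTab_s_1144_1150 (c : Nat) : Nat := @Bool.rec (fun _ => Nat) (finTab_s_1144_1147 c) (finTab_s_1147_1150 c) (Nat.ble 1147 c)
noncomputable def finTab_s_1138_1150 (c : Nat) : Nat := @Bool.rec (fun _ => Nat) (finTab_s_1138_1144 c) (finTab_s_1144_1150 c) (Nat.ble 1144 c)
noncomputable def finTab_s_1127_1150 (c : Nat) : Nat := @Bool.rec (fun _ => Nat) (finTab_s_1127_1138 c) (finTab_s_1138_1150 c) (Nat.ble 1138 c)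
noncomputable def finTab_s_1151_1153 (c : Nat) : Nat := @Bool.rec (fun _ => Nat) (finTab_1151) (finTab_1152) (Nat.ble 1152 c)
noncomputable def finTab_s_1150_1153 (c : Nat) : Nat := @Bool.rec (fun _ => Nat) (finTab_1150) (finTab_s_1151_1153 c) (Nat.ble 1151 c)
noncomputable def finTab_s_1154_1156 (c : Nat) : Nat := @Bool.rec (fun _ => Nat) (finTab_1154) (finTab_1155) (Nat.ble 1155 c)
noncomputable def finTab_s_1153_1156 (c : Nat) : Nat := @Bool.rec (fun _ => Nat) (finTab_1153) (finTab_s_1154_1156 c) (Nat.ble 1154 c)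
noncomputable def finTab_s_1150_1156 (c : Nat) : Nat := @Bool.rec (fun _ => Nat) (finTab_s_1150_1153 c) (finTab_s_1153_1156 c) (Nat.ble 1153 c)
noncomputable def finTab_s_1157_1159 (c : Nat) : Nat := @Bool.rec (fun _ => Nat) (finTab_1157) (finTab_1158) (Nat.ble 1158 c)
noncomputable def finTab_s_1156_1159 (c : Nat) : Nat := @Bool.rec (fun _ => Nat) (finTab_1156) (finTab_s_1157_1159 c) (Nat.ble 1157 c)
noncomputable def finTab_s_1160_1162 (c : Nat) : Nat := @Bool.rec (fun _ => Nat) (finTab_1160) (finTab_1161) (Nat.ble 1161 c)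
noncomputable def finTab_s_1159_1162 (c : Nat) : Nat := @Bool.rec (fun _ => Nat) (finTab_1159) (finTab_s_1160_1162 c) (Nat.ble 1160 c)
noncomputable def finTab_s_1156_1162 (c : Nat) : Nat := @Bool.rec (fun _ => Nat) (finTab_s_1156_1159 c) (finTab_s_1159_1162 c) (Nat.ble 1159 c)
noncomputable def finTab_s_1150_1162 (c : Nat) : Nat := @Bool.rec (fun _ => Nat) (finTab_s_1150_1156 c) (finTab_s_1156_1162 c) (Nat.ble 1156 c)
noncomputable def finTab_s_1163_1165 (c : Nat) : Nat := @Bool.rec (fun _ => Nat) (finTab_1163) (finTab_1164) (Nat.ble 1164 c)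
noncomputable def finTab_s_1162_1165 (c : Nat) : Nat := @Bool.rec (fun _ => Nat) (finTab_1162) (finTab_s_1163_1165 c) (Nat.ble 1163 c)
noncomputable def finTab_s_1166_1168 (c : Nat) : Nat := @Bool.rec (fun _ => Nat) (finTab_1166) (finTab_1167) (Nat.ble 1167 c)
noncomputable def finTab_s_1165_1168 (c : Nat) : Nat := @Bool.rec (fun _ => Nat) (finTab_1165) (finTab_s_1166_1168 c) (Nat.ble 1166 c)
noncomputable def finTab_s_1162_1168 (c : Nat) : Nat := @Bool.rec (fun _ => Nat) (finTab_s_1162_1165 c) (finTab_s_1165_1168 c) (Nat.ble 1165 c)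
noncomputable def finTab_s_1169_1171 (c : Nat) : Nat := @Bool.rec (fun _ => Nat) (finTab_1169) (finTab_1170) (Nat.ble 1170 c)
noncomputable def finTab_s_1168_1171 (c : Nat) : Nat := @Bool.rec (fun _ => Nat) (finTab_1168) (finTab_s_1169_1171 c) (Nat.ble 1169 c)
noncomputable def finTab_s_1172_1174 (c : Nat) : Nat := @Bool.rec (fun _ => Nat) (finTab_1172) (finTab_1173) (Nat.ble 1173 c)
noncomputable def finTab_s_1171_1174 (c : Nat) : Nat := @Bool.rec (fun _ => Nat) (finTab_1171) (finTab_s_1172_1174 c) (Nat.ble 1172 c)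
noncomputable def finTab_s_1168_1174 (c : Nat) : Nat := @Bool.rec (fun _ => Nat) (finTab_s_1168_1171 c) (finTab_s_1171_1174 c) (Nat.ble 1171 c)
noncomputable def finTab_s_1162_1174 (c : Nat) : Nat := @Bool.rec (fun _ => Nat) (finTab_s_1162_1168 c) (finTab_s_1168_1174 c) (Nat.ble 1168 c)
noncomputable def finTab_s_1150_1174 (c : Nat) : Nat := @Bool.rec (fun _ => Nat) (finTab_s_1150_1162 c) (finTab_s_1162_1174 c) (Nat.ble 1162 c)
noncomputable def finTab_s_1127_1174 (c : Nat) : Nat := @Bool.rec (fun _ => Nat) (finTab_s_1127_1150 c) (finTab_s_1150_1174 c) (Nat.ble 1150 c)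
noncomputable def finTab_s_1174_1176 (c : Nat) : Nat := @Bool.rec (fun _ => Nat) (finTab_1174) (finTab_1175) (Nat.ble 1175 c)
noncomputable def finTab_s_1177_1179 (c : Nat) : Nat := @Bool.rec (fun _ => Nat) (finTab_1177) (finTab_1178) (Nat.ble 1178 c)
noncomputable def finTab_s_1176_1179 (c : Nat) : Nat := @Bool.rec (fun _ => Nat) (finTab_1176) (finTab_s_1177_1179 c) (Nat.ble 1177 c)
noncomputable def finTab_s_1174_1179 (c : Nat) : Nat := @Bool.rec (fun _ => Nat) (finTab_s_1174_1176 c) (finTab_s_1176_1179 c) (Nat.ble 1176 c)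
noncomputable def finTab_s_1180_1182 (c : Nat) : Nat := @Bool.rec (fun _ => Nat) (finTab_1180) (finTab_1181) (Nat.ble 1181 c)
noncomputable def finTab_s_1179_1182 (c : Nat) : Nat := @Bool.rec (fun _ => Nat) (finTab_1179) (finTab_s_1180_1182 c) (Nat.ble 1180 c)
noncomputable def finTab_s_1183_1185 (c : Nat) : Nat := @Bool.rec (fun _ => Nat) (finTab_1183) (finTab_1184) (Nat.ble 1184 c)
noncomputable def finTab_s_1182_1185 (c : Nat) : Nat := @Bool.rec (fun _ => Nat) (finTab_1182) (finTab_s_1183_1185 c) (Nat.ble 1183 c)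
noncomputable def finTab_s_1179_1185 (c : Nat) : Nat := @Bool.rec (fun _ => Nat) (finTab_s_1179_1182 c) (finTab_s_1182_1185 c) (Nat.ble 1182 c)
noncomputable def finTab_s_1174_1185 (c : Nat) : Nat := @Bool.rec (fun _ => Nat) (finTab_s_1174_1179 c) (finTab_s_1179_1185 c) (Nat.ble 1179 c)
noncomputable def finTab_s_1186_1188 (c : Nat) : Nat := @Bool.rec (fun _ => Nat) (finTab_1186) (finTab_1187) (Nat.ble 1187 c)
noncomputable def finTab_s_1185_1188 (c : Nat) : Nat := @Bool.rec (fun _ => Nat) (finTab_1185) (finTab_s_1186_1188 c) (Nat.ble 1186 c)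
noncomputable def finTab_s_1189_1191 (c : Nat) : Nat := @Bool.rec (fun _ => Nat) (finTab_1189) (finTab_1190) (Nat.ble 1190 c)
noncomputable def finTab_s_1188_1191 (c : Nat) : Nat := @Bool.rec (fun _ => Nat) (finTab_1188) (finTab_s_1189_1191 c) (Nat.ble 1189 c)
noncomputable def finTab_s_1185_1191 (c : Nat) : Nat := @Bool.rec (fun _ => Nat) (finTab_s_1185_1188 c) (finTab_s_1188_1191 c) (Nat.ble 1188 c)
noncomputable def finTab_s_1192_1194 (c : Nat) : Nat := @Bool.rec (fun _ => Nat) (finTab_1192) (finTab_1193) (Nat.ble 1193 c)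
noncomputable def finTab_s_1191_1194 (c : Nat) : Nat := @Bool.rec (fun _ => Nat) (finTab_1191) (finTab_s_1192_1194 c) (Nat.ble 1192 c)
noncomputable def finTab_s_1195_1197 (c : Nat) : Nat := @Bool.rec (fun _ => Nat) (finTab_1195) (finTab_1196) (Nat.ble 1196 c)
noncomputable def finTab_s_1194_1197 (c : Nat) : Nat := @Bool.rec (fun _ => Nat) (finTab_1194) (finTab_s_1195_1197 c) (Nat.ble 1195 c)
noncomputable def finTab_s_1191_1197 (c : Nat) : Nat := @Bool.rec (fun _ => Nat) (finTab_s_1191_1194 c) (finTab_s_1194_1197 c) (Nat.ble 1194 c)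
noncomputable def finTab_s_1185_1197 (c : Nat) : Nat := @Bool.rec (fun _ => Nat) (finTab_s_1185_1191 c) (finTab_s_1191_1197 c) (Nat.ble 1191 c)
noncomputable def finTab_s_1174_1197 (c : Nat) : Nat := @Bool.rec (fun _ => Nat) (finTab_s_1174_1185 c) (finTab_s_1185_1197 c) (Nat.ble 1185 c)
noncomputable def finTab_s_1198_1200 (c : Nat) : Nat := @Bool.rec (fun _ => Nat) (finTab_1198) (finTab_1199) (Nat.ble 1199 c)
noncomputable def finTab_s_1197_1200 (c : Nat) : Nat := @Bool.rec (fun _ => Nat) (finTab_1197) (finTab_s_1198_1200 c) (Nat.ble 1198 c)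
noncomputable def finTab_s_1201_1203 (c : Nat) : Nat := @Bool.rec (fun _ => Nat) (finTab_1201) (finTab_1202) (Nat.ble 1202 c)
noncomputable def finTab_s_1200_1203 (c : Nat) : Nat := @Bool.rec (fun _ => Nat) (finTab_1200) (finTab_s_1201_1203 c) (Nat.ble 1201 c)
noncomputable def finTab_s_1197_1203 (c : Nat) : Nat := @Bool.rec (fun _ => Nat) (finTab_s_1197_1200 c) (finTab_s_1200_1203 c) (Nat.ble 1200 c)
noncomputable def finTab_s_1204_1206 (c : Nat) : Nat := @Bool.rec (fun _ => Nat) (finTab_1204) (finTab_1205) (Nat.ble 1205 c)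
noncomputable def finTab_s_1203_1206 (c : Nat) : Nat := @Bool.rec (fun _ => Nat) (finTab_1203) (finTab_s_1204_1206 c) (Nat.ble 1204 c)
noncomputable def finTab_s_1207_1209 (c : Nat) : Nat := @Bool.rec (fun _ => Nat) (finTab_1207) (finTab_1208) (Nat.ble 1208 c)
noncomputable def finTab_s_1206_1209 (c : Nat) : Nat := @Bool.rec (fun _ => Nat) (finTab_1206) (finTab_s_1207_1209 c) (Nat.ble 1207 c)
noncomputable def finTab_s_1203_1209 (c : Nat) : Nat := @Bool.rec (fun _ => Nat) (finTab_s_1203_1206 c) (finTab_s_1206_1209 c) (Nat.ble 1206 c)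
noncomputable def finTab_s_1197_1209 (c : Nat) : Nat := @Bool.rec (fun _ => Nat) (finTab_s_1197_1203 c) (finTab_s_1203_1209 c) (Nat.ble 1203 c)
noncomputable def finTab_s_1210_1212 (c : Nat) : Nat := @Bool.rec (fun _ => Nat) (finTab_1210) (finTab_1211) (Nat.ble 1211 c)
noncomputable def finTab_s_1209_1212 (c : Nat) : Nat := @Bool.rec (fun _ => Nat) (finTab_1209) (finTab_s_1210_1212 c) (Nat.ble 1210 c)
noncomputable def finTab_s_1213_1215 (c : Nat) : Nat := @Bool.rec (fun _ => Nat) (finTab_1213) (finTab_1214) (Nat.ble 1214 c)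
noncomputable def finTab_s_1212_1215 (c : Nat) : Nat := @Bool.rec (fun _ => Nat) (finTab_1212) (finTab_s_1213_1215 c) (Nat.ble 1213 c)
noncomputable def finTab_s_1209_1215 (c : Nat) : Nat := @Bool.rec (fun _ => Nat) (finTab_s_1209_1212 c) (finTab_s_1212_1215 c) (Nat.ble 1212 c)
noncomputable def finTab_s_1216_1218 (c : Nat) : Nat := @Bool.rec (fun _ => Nat) (finTab_1216) (finTab_1217) (Nat.ble 1217 c)
noncomputable def finTab_s_1215_1218 (c : Nat) : Nat := @Bool.rec (fun _ => Nat) (finTab_1215) (finTab_s_1216_1218 c) (Nat.ble 1216 c)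
noncomputable def finTab_s_1219_1221 (c : Nat) : Nat := @Bool.rec (fun _ => Nat) (finTab_1219) (finTab_1220) (Nat.ble 1220 c)
noncomputable def finTab_s_1218_1221 (c : Nat) : Nat := @Bool.rec (fun _ => Nat) (finTab_1218) (finTab_s_1219_1221 c) (Nat.ble 1219 c)
noncomputable def finTab_s_1215_1221 (c : Nat) : Nat := @Bool.rec (fun _ => Nat) (finTab_s_1215_1218 c) (finTab_s_1218_1221 c) (Nat.ble 1218 c)
noncomputable def finTab_s_1209_1221 (c : Nat) : Nat := @Bool.rec (fun _ => Nat) (finTab_s_1209_1215 c) (finTab_s_1215_1221 c) (Nat.ble 1215 c)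
noncomputable def finTab_s_1197_1221 (c : Nat) : Nat := @Bool.rec (fun _ => Nat) (finTab_s_1197_1209 c) (finTab_s_1209_1221 c) (Nat.ble 1209 c)
noncomputable def finTab_s_1174_1221 (c : Nat) : Nat := @Bool.rec (fun _ => Nat) (finTab_s_1174_1197 c) (finTab_s_1197_1221 c) (Nat.ble 1197 c)
noncomputable def finTab_s_1127_1221 (c : Nat) : Nat := @Bool.rec (fun _ => Nat) (finTab_s_1127_1174 c) (finTab_s_1174_1221 c) (Nat.ble 1174 c)
noncomputable def finTab_s_1221_1223 (c : Nat) : Nat := @Bool.rec (fun _ => Nat) (finTab_1221) (finTab_1222) (Nat.ble 1222 c)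
noncomputable def finTab_s_1224_1226 (c : Nat) : Nat := @Bool.rec (fun _ => Nat) (finTab_1224) (finTab_1225) (Nat.ble 1225 c)
noncomputable def finTab_s_1223_1226 (c : Nat) : Nat := @Bool.rec (fun _ => Nat) (finTab_1223) (finTab_s_1224_1226 c) (Nat.ble 1224 c)
noncomputable def finTab_s_1221_1226 (c : Nat) : Nat := @Bool.rec (fun _ => Nat) (finTab_s_1221_1223 c) (finTab_s_1223_1226 c) (Nat.ble 1223 c)
noncomputable def finTab_s_1227_1229 (c : Nat) : Nat := @Bool.rec (fun _ => Nat) (finTab_1227) (finTab_1228) (Nat.ble 1228 c)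
noncomputable def finTab_s_1226_1229 (c : Nat) : Nat := @Bool.rec (fun _ => Nat) (finTab_1226) (finTab_s_1227_1229 c) (Nat.ble 1227 c)
noncomputable def finTab_s_1230_1232 (c : Nat) : Nat := @Bool.rec (fun _ => Nat) (finTab_1230) (finTab_1231) (Nat.ble 1231 c)
noncomputable def finTab_s_1229_1232 (c : Nat) : Nat := @Bool.rec (fun _ => Nat) (finTab_1229) (finTab_s_1230_1232 c) (Nat.ble 1230 c)
noncomputable def finTab_s_1226_1232 (c : Nat) : Nat := @Bool.rec (fun _ => Nat) (finTab_s_1226_1229 c) (finTab_s_1229_1232 c) (Nat.ble 1229 c)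
noncomputable def finTab_s_1221_1232 (c : Nat) : Nat := @Bool.rec (fun _ => Nat) (finTab_s_1221_1226 c) (finTab_s_1226_1232 c) (Nat.ble 1226 c)
noncomputable def finTab_s_1233_1235 (c : Nat) : Nat := @Bool.rec (fun _ => Nat) (finTab_1233) (finTab_1234) (Nat.ble 1234 c)
noncomputable def finTab_s_1232_1235 (c : Nat) : Nat := @Bool.rec (fun _ => Nat) (finTab_1232) (finTab_s_1233_1235 c) (Nat.ble 1233 c)
noncomputable def finTab_s_1236_1238 (c : Nat) : Nat := @Bool.rec (fun _ => Nat) (finTab_1236) (finTab_1237) (Nat.ble 1237 c)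
noncomputable def finTab_s_1235_1238 (c : Nat) : Nat := @Bool.rec (fun _ => Nat) (finTab_1235) (finTab_s_1236_1238 c) (Nat.ble 1236 c)
noncomputable def finTab_s_1232_1238 (c : Nat) : Nat := @Bool.rec (fun _ => Nat) (finTab_s_1232_1235 c) (finTab_s_1235_1238 c) (Nat.ble 1235 c)
noncomputable def finTab_s_1239_1241 (c : Nat) : Nat := @Bool.rec (fun _ => Nat) (finTab_1239) (finTab_1240) (Nat.ble 1240 c)
noncomputable def finTab_s_1238_1241 (c : Nat) : Nat := @Bool.rec (fun _ => Nat) (finTab_1238) (finTab_s_1239_1241 c) (Nat.ble 1239 c)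
noncomputable def finTab_s_1242_1244 (c : Nat) : Nat := @Bool.rec (fun _ => Nat) (finTab_1242) (finTab_1243) (Nat.ble 1243 c)
noncomputable def finTab_s_1241_1244 (c : Nat) : Nat := @Bool.rec (fun _ => Nat) (finTab_1241) (finTab_s_1242_1244 c) (Nat.ble 1242 c)
noncomputable def finTab_s_1238_1244 (c : Nat) : Nat := @Bool.rec (fun _ => Nat) (finTab_s_1238_1241 c) (finTab_s_1241_1244 c) (Nat.ble 1241 c)
noncomputable def finTab_s_1232_1244 (c : Nat) : Nat := @Bool.rec (fun _ => Nat) (finTab_s_1232_1238 c) (finTab_s_1238_1244 c) (Nat.ble 1238 c)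
noncomputable def finTab_s_1221_1244 (c : Nat) : Nat := @Bool.rec (fun _ => Nat) (finTab_s_1221_1232 c) (finTab_s_1232_1244 c) (Nat.ble 1232 c)
noncomputable def finTab_s_1245_1247 (c : Nat) : Nat := @Bool.rec (fun _ => Nat) (finTab_1245) (finTab_1246) (Nat.ble 1246 c)
noncomputable def finTab_s_1244_1247 (c : Nat) : Nat := @Bool.rec (fun _ => Nat) (finTab_1244) (finTab_s_1245_1247 c) (Nat.ble 1245 c)
noncomputable def finTab_s_1248_1250 (c : Nat) : Nat := @Bool.rec (fun _ => Nat) (finTab_1248) (finTab_1249) (Nat.ble 1249 c)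
noncomputable def finTab_s_1247_1250 (c : Nat) : Nat := @Bool.rec (fun _ => Nat) (finTab_1247) (finTab_s_1248_1250 c) (Nat.ble 1248 c)
noncomputable def finTab_s_1244_1250 (c : Nat) : Nat := @Bool.rec (fun _ => Nat) (finTab_s_1244_1247 c) (finTab_s_1247_1250 c) (Nat.ble 1247 c)
noncomputable def finTab_s_1251_1253 (c : Nat) : Nat := @Bool.rec (fun _ => Nat) (finTab_1251) (finTab_1252) (Nat.ble 1252 c)
noncomputable def finTab_s_1250_1253 (c : Nat) : Nat := @Bool.rec (fun _ => Nat) (finTab_1250) (finTab_s_1251_1253 c) (Nat.ble 1251 c)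
noncomputable def finTab_s_1254_1256 (c : Nat) : Nat := @Bool.rec (fun _ => Nat) (finTab_1254) (finTab_1255) (Nat.ble 1255 c)
noncomputable def finTab_s_1253_1256 (c : Nat) : Nat := @Bool.rec (fun _ => Nat) (finTab_1253) (finTab_s_1254_1256 c) (Nat.ble 1254 c)
noncomputable def finTab_s_1250_1256 (c : Nat) : Nat := @Bool.rec (fun _ => Nat) (finTab_s_1250_1253 c) (finTab_s_1253_1256 c) (Nat.ble 1253 c)
noncomputable def finTab_s_1244_1256 (c : Nat) : Nat := @Bool.rec (fun _ => Nat) (finTab_s_1244_1250 c) (finTab_s_1250_1256 c) (Nat.ble 1250 c)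
noncomputable def finTab_s_1257_1259 (c : Nat) : Nat := @Bool.rec (fun _ => Nat) (finTab_1257) (finTab_1258) (Nat.ble 1258 c)
noncomputable def finTab_s_1256_1259 (c : Nat) : Nat := @Bool.rec (fun _ => Nat) (finTab_1256) (finTab_s_1257_1259 c) (Nat.ble 1257 c)
noncomputable def finTab_s_1260_1262 (c : Nat) : Nat := @Bool.rec (fun _ => Nat) (finTab_1260) (finTab_1261) (Nat.ble 1261 c)
noncomputable def finTab_s_1259_1262 (c : Nat) : Nat := @Bool.rec (fun _ => Nat) (finTab_1259) (finTab_s_1260_1262 c) (Nat.ble 1260 c)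
noncomputable def finTab_s_1256_1262 (c : Nat) : Nat := @Bool.rec (fun _ => Nat) (finTab_s_1256_1259 c) (finTab_s_1259_1262 c) (Nat.ble 1259 c)
noncomputable def finTab_s_1263_1265 (c : Nat) : Nat := @Bool.rec (fun _ => Nat) (finTab_1263) (finTab_1264) (Nat.ble 1264 c)
noncomputable def finTab_s_1262_1265 (c : Nat) : Nat := @Bool.rec (fun _ => Nat) (finTab_1262) (finTab_s_1263_1265 c) (Nat.ble 1263 c)
noncomputable def finTab_s_1266_1268 (c : Nat) : Nat := @Bool.rec (fun _ => Nat) (finTab_1266) (finTab_1267) (Nat.ble 1267 c)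
noncomputable def finTab_s_1265_1268 (c : Nat) : Nat := @Bool.rec (fun _ => Nat) (finTab_1265) (finTab_s_1266_1268 c) (Nat.ble 1266 c)
noncomputable def finTab_s_1262_1268 (c : Nat) : Nat := @Bool.rec (fun _ => Nat) (finTab_s_1262_1265 c) (finTab_s_1265_1268 c) (Nat.ble 1265 c)
noncomputable def finTab_s_1256_1268 (c : Nat) : Nat := @Bool.rec (fun _ => Nat) (finTab_s_1256_1262 c) (finTab_s_1262_1268 c) (Nat.ble 1262 c)
noncomputable def finTab_s_1244_1268 (c : Nat) : Nat := @Bool.rec (fun _ => Nat) (finTab_s_1244_1256 c) (finTab_s_1256_1268 c) (Nat.ble 1256 c)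
noncomputable def finTab_s_1221_1268 (c : Nat) : Nat := @Bool.rec (fun _ => Nat) (finTab_s_1221_1244 c) (finTab_s_1244_1268 c) (Nat.ble 1244 c)
noncomputable def finTab_s_1268_1270 (c : Nat) : Nat := @Bool.rec (fun _ => Nat) (finTab_1268) (finTab_1269) (Nat.ble 1269 c)
noncomputable def finTab_s_1271_1273 (c : Nat) : Nat := @Bool.rec (fun _ => Nat) (finTab_1271) (finTab_1272) (Nat.ble 1272 c)
noncomputable def finTab_s_1270_1273 (c : Nat) : Nat := @Bool.rec (fun _ => Nat) (finTab_1270) (finTab_s_1271_1273 c) (Nat.ble 1271 c)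
noncomputable def finTab_s_1268_1273 (c : Nat) : Nat := @Bool.rec (fun _ => Nat) (finTab_s_1268_1270 c) (finTab_s_1270_1273 c) (Nat.ble 1270 c)
noncomputable def finTab_s_1274_1276 (c : Nat) : Nat := @Bool.rec (fun _ => Nat) (finTab_1274) (finTab_1275) (Nat.ble 1275 c)
noncomputable def finTab_s_1273_1276 (c : Nat) : Nat := @Bool.rec (fun _ => Nat) (finTab_1273) (finTab_s_1274_1276 c) (Nat.ble 1274 c)
noncomputable def finTab_s_1277_1279 (c : Nat) : Nat := @Bool.rec (fun _ => Nat) (finTab_1277) (finTab_1278) (Nat.ble 1278 c)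
noncomputable def finTab_s_1276_1279 (c : Nat) : Nat := @Bool.rec (fun _ => Nat) (finTab_1276) (finTab_s_1277_1279 c) (Nat.ble 1277 c)
noncomputable def finTab_s_1273_1279 (c : Nat) : Nat := @Bool.rec (fun _ => Nat) (finTab_s_1273_1276 c) (finTab_s_1276_1279 c) (Nat.ble 1276 c)
noncomputable def finTab_s_1268_1279 (c : Nat) : Nat := @Bool.rec (fun _ => Nat) (finTab_s_1268_1273 c) (finTab_s_1273_1279 c) (Nat.ble 1273 c)
noncomputable def finTab_s_1280_1282 (c : Nat) : Nat := @Bool.rec (fun _ => Nat) (finTab_1280) (finTab_1281) (Nat.ble 1281 c)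
noncomputable def finTab_s_1279_1282 (c : Nat) : Nat := @Bool.rec (fun _ => Nat) (finTab_1279) (finTab_s_1280_1282 c) (Nat.ble 1280 c)
noncomputable def finTab_s_1283_1285 (c : Nat) : Nat := @Bool.rec (fun _ => Nat) (finTab_1283) (finTab_1284) (Nat.ble 1284 c)
noncomputable def finTab_s_1282_1285 (c : Nat) : Nat := @Bool.rec (fun _ => Nat) (finTab_1282) (finTab_s_1283_1285 c) (Nat.ble 1283 c)
noncomputable def finTab_s_1279_1285 (c : Nat) : Nat := @Bool.rec (fun _ => Nat) (finTab_s_1279_1282 c) (finTab_s_1282_1285 c) (Nat.ble 1282 c)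
noncomputable def finTab_s_1286_1288 (c : Nat) : Nat := @Bool.rec (fun _ => Nat) (finTab_1286) (finTab_1287) (Nat.ble 1287 c)
noncomputable def finTab_s_1285_1288 (c : Nat) : Nat := @Bool.rec (fun _ => Nat) (finTab_1285) (finTab_s_1286_1288 c) (Nat.ble 1286 c)
noncomputable def finTab_s_1289_1291 (c : Nat) : Nat := @Bool.rec (fun _ => Nat) (finTab_1289) (finTab_1290) (Nat.ble 1290 c)
noncomputable def finTab_s_1288_1291 (c : Nat) : Nat := @Bool.rec (fun _ => Nat) (finTab_1288) (finTab_s_1289_1291 c) (Nat.ble 1289 c)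
noncomputable def finTab_s_1285_1291 (c : Nat) : Nat := @Bool.rec (fun _ => Nat) (finTab_s_1285_1288 c) (finTab_s_1288_1291 c) (Nat.ble 1288 c)
noncomputable def finTab_s_1279_1291 (c : Nat) : Nat := @Bool.rec (fun _ => Nat) (finTab_s_1279_1285 c) (finTab_s_1285_1291 c) (Nat.ble 1285 c)
noncomputable def finTab_s_1268_1291 (c : Nat) : Nat := @Bool.rec (fun _ => Nat) (finTab_s_1268_1279 c) (finTab_s_1279_1291 c) (Nat.ble 1279 c)
noncomputable def finTab_s_1292_1294 (c : Nat) : Nat := @Bool.rec (fun _ => Nat) (finTab_1292) (finTab_1293) (Nat.ble 1293 c)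
noncomputable def finTab_s_1291_1294 (c : Nat) : Nat := @Bool.rec (fun _ => Nat) (finTab_1291) (finTab_s_1292_1294 c) (Nat.ble 1292 c)
noncomputable def finTab_s_1295_1297 (c : Nat) : Nat := @Bool.rec (fun _ => Nat) (finTab_1295) (finTab_1296) (Nat.ble 1296 c)
noncomputable def finTab_s_1294_1297 (c : Nat) : Nat := @Bool.rec (fun _ => Nat) (finTab_1294) (finTab_s_1295_1297 c) (Nat.ble 1295 c)
noncomputable def finTab_s_1291_1297 (c : Nat) : Nat := @Bool.rec (fun _ => Nat) (finTab_s_1291_1294 c) (finTab_s_1294_1297 c) (Nat.ble 1294 c)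
noncomputable def finTab_s_1298_1300 (c : Nat) : Nat := @Bool.rec (fun _ => Nat) (finTab_1298) (finTab_1299) (Nat.ble 1299 c)
noncomputable def finTab_s_1297_1300 (c : Nat) : Nat := @Bool.rec (fun _ => Nat) (finTab_1297) (finTab_s_1298_1300 c) (Nat.ble 1298 c)
noncomputable def finTab_s_1301_1303 (c : Nat) : Nat := @Bool.rec (fun _ => Nat) (finTab_1301) (finTab_1302) (Nat.ble 1302 c)
noncomputable def finTab_s_1300_1303 (c : Nat) : Nat := @Bool.rec (fun _ => Nat) (finTab_1300) (finTab_s_1301_1303 c) (Nat.ble 1301 c)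
noncomputable def finTab_s_1297_1303 (c : Nat) : Nat := @Bool.rec (fun _ => Nat) (finTab_s_1297_1300 c) (finTab_s_1300_1303 c) (Nat.ble 1300 c)
noncomputable def finTab_s_1291_1303 (c : Nat) : Nat := @Bool.rec (fun _ => Nat) (finTab_s_1291_1297 c) (finTab_s_1297_1303 c) (Nat.ble 1297 c)
noncomputable def finTab_s_1304_1306 (c : Nat) : Nat := @Bool.rec (fun _ => Nat) (finTab_1304) (finTab_1305) (Nat.ble 1305 c)
noncomputable def finTab_s_1303_1306 (c : Nat) : Nat := @Bool.rec (fun _ => Nat) (finTab_1303) (finTab_s_1304_1306 c) (Nat.ble 1304 c)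
noncomputable def finTab_s_1307_1309 (c : Nat) : Nat := @Bool.rec (fun _ => Nat) (finTab_1307) (finTab_1308) (Nat.ble 1308 c)
noncomputable def finTab_s_1306_1309 (c : Nat) : Nat := @Bool.rec (fun _ => Nat) (finTab_1306) (finTab_s_1307_1309 c) (Nat.ble 1307 c)
noncomputable def finTab_s_1303_1309 (c : Nat) : Nat := @Bool.rec (fun _ => Nat) (finTab_s_1303_1306 c) (finTab_s_1306_1309 c) (Nat.ble 1306 c)
noncomputable def finTab_s_1310_1312 (c : Nat) : Nat := @Bool.rec (fun _ => Nat) (finTab_1310) (finTab_1311) (Nat.ble 1311 c)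
noncomputable def finTab_s_1309_1312 (c : Nat) : Nat := @Bool.rec (fun _ => Nat) (finTab_1309) (finTab_s_1310_1312 c) (Nat.ble 1310 c)
noncomputable def finTab_s_1313_1315 (c : Nat) : Nat := @Bool.rec (fun _ => Nat) (finTab_1313) (finTab_1314) (Nat.ble 1314 c)
noncomputable def finTab_s_1312_1315 (c : Nat) : Nat := @Bool.rec (fun _ => Nat) (finTab_1312) (finTab_s_1313_1315 c) (Nat.ble 1313 c)
noncomputable def finTab_s_1309_1315 (c : Nat) : Nat := @Bool.rec (fun _ => Nat) (finTab_s_1309_1312 c) (finTab_s_1312_1315 c) (Nat.ble 1312 c)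
noncomputable def finTab_s_1303_1315 (c : Nat) : Nat := @Bool.rec (fun _ => Nat) (finTab_s_1303_1309 c) (finTab_s_1309_1315 c) (Nat.ble 1309 c)
noncomputable def finTab_s_1291_1315 (c : Nat) : Nat := @Bool.rec (fun _ => Nat) (finTab_s_1291_1303 c) (finTab_s_1303_1315 c) (Nat.ble 1303 c)
noncomputable def finTab_s_1268_1315 (c : Nat) : Nat := @Bool.rec (fun _ => Nat) (finTab_s_1268_1291 c) (finTab_s_1291_1315 c) (Nat.ble 1291 c)
noncomputable def finTab_s_1221_1315 (c : Nat) : Nat := @Bool.rec (fun _ => Nat) (finTab_s_1221_1268 c) (finTab_s_1268_1315 c) (Nat.ble 1268 c)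
noncomputable def finTab_s_1127_1315 (c : Nat) : Nat := @Bool.rec (fun _ => Nat) (finTab_s_1127_1221 c) (finTab_s_1221_1315 c) (Nat.ble 1221 c)
noncomputable def finTab_s_1315_1317 (c : Nat) : Nat := @Bool.rec (fun _ => Nat) (finTab_1315) (finTab_1316) (Nat.ble 1316 c)
noncomputable def finTab_s_1318_1320 (c : Nat) : Nat := @Bool.rec (fun _ => Nat) (finTab_1318) (finTab_1319) (Nat.ble 1319 c)
noncomputable def finTab_s_1317_1320 (c : Nat) : Nat := @Bool.rec (fun _ => Nat) (finTab_1317) (finTab_s_1318_1320 c) (Nat.ble 1318 c)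
noncomputable def finTab_s_1315_1320 (c : Nat) : Nat := @Bool.rec (fun _ => Nat) (finTab_s_1315_1317 c) (finTab_s_1317_1320 c) (Nat.ble 1317 c)
noncomputable def finTab_s_1321_1323 (c : Nat) : Nat := @Bool.rec (fun _ => Nat) (finTab_1321) (finTab_1322) (Nat.ble 1322 c)
noncomputable def finTab_s_1320_1323 (c : Nat) : Nat := @Bool.rec (fun _ => Nat) (finTab_1320) (finTab_s_1321_1323 c) (Nat.ble 1321 c)
noncomputable def finTab_s_1324_1326 (c : Nat) : Nat := @Bool.rec (fun _ => Nat) (finTab_1324) (finTab_1325) (Nat.ble 1325 c)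
noncomputable def finTab_s_1323_1326 (c : Nat) : Nat := @Bool.rec (fun _ => Nat) (finTab_1323) (finTab_s_1324_1326 c) (Nat.ble 1324 c)
noncomputable def finTab_s_1320_1326 (c : Nat) : Nat := @Bool.rec (fun _ => Nat) (finTab_s_1320_1323 c) (finTab_s_1323_1326 c) (Nat.ble 1323 c)
noncomputable def finTab_s_1315_1326 (c : Nat) : Nat := @Bool.rec (fun _ => Nat) (finTab_s_1315_1320 c) (finTab_s_1320_1326 c) (Nat.ble 1320 c)
noncomputable def finTab_s_1327_1329 (c : Nat) : Nat := @Bool.rec (fun _ => Nat) (finTab_1327) (finTab_1328) (Nat.ble 1328 c)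
noncomputable def finTab_s_1326_1329 (c : Nat) : Nat := @Bool.rec (fun _ => Nat) (finTab_1326) (finTab_s_1327_1329 c) (Nat.ble 1327 c)
noncomputable def finTab_s_1330_1332 (c : Nat) : Nat := @Bool.rec (fun _ => Nat) (finTab_1330) (finTab_1331) (Nat.ble 1331 c)
noncomputable def finTab_s_1329_1332 (c : Nat) : Nat := @Bool.rec (fun _ => Nat) (finTab_1329) (finTab_s_1330_1332 c) (Nat.ble 1330 c)
noncomputable def finTab_s_1326_1332 (c : Nat) : Nat := @Bool.rec (fun _ => Nat) (finTab_s_1326_1329 c) (finTab_s_1329_1332 c) (Nat.ble 1329 c)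
noncomputable def finTab_s_1333_1335 (c : Nat) : Nat := @Bool.rec (fun _ => Nat) (finTab_1333) (finTab_1334) (Nat.ble 1334 c)
noncomputable def finTab_s_1332_1335 (c : Nat) : Nat := @Bool.rec (fun _ => Nat) (finTab_1332) (finTab_s_1333_1335 c) (Nat.ble 1333 c)
noncomputable def finTab_s_1336_1338 (c : Nat) : Nat := @Bool.rec (fun _ => Nat) (finTab_1336) (finTab_1337) (Nat.ble 1337 c)
noncomputable def finTab_s_1335_1338 (c : Nat) : Nat := @Bool.rec (fun _ => Nat) (finTab_1335) (finTab_s_1336_1338 c) (Nat.ble 1336 c)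
noncomputable def finTab_s_1332_1338 (c : Nat) : Nat := @Bool.rec (fun _ => Nat) (finTab_s_1332_1335 c) (finTab_s_1335_1338 c) (Nat.ble 1335 c)
noncomputable def finTab_s_1326_1338 (c : Nat) : Nat := @Bool.rec (fun _ => Nat) (finTab_s_1326_1332 c) (finTab_s_1332_1338 c) (Nat.ble 1332 c)
noncomputable def finTab_s_1315_1338 (c : Nat) : Nat := @Bool.rec (fun _ => Nat) (finTab_s_1315_1326 c) (finTab_s_1326_1338 c) (Nat.ble 1326 c)
noncomputable def finTab_s_1339_1341 (c : Nat) : Nat := @Bool.rec (fun _ => Nat) (finTab_1339) (finTab_1340) (Nat.ble 1340 c)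
noncomputable def finTab_s_1338_1341 (c : Nat) : Nat := @Bool.rec (fun _ => Nat) (finTab_1338) (finTab_s_1339_1341 c) (Nat.ble 1339 c)
noncomputable def finTab_s_1342_1344 (c : Nat) : Nat := @Bool.rec (fun _ => Nat) (finTab_1342) (finTab_1343) (Nat.ble 1343 c)
noncomputable def finTab_s_1341_1344 (c : Nat) : Nat := @Bool.rec (fun _ => Nat) (finTab_1341) (finTab_s_1342_1344 c) (Nat.ble 1342 c)
noncomputable def finTab_s_1338_1344 (c : Nat) : Nat := @Bool.rec (fun _ => Nat) (finTab_s_1338_1341 c) (finTab_s_1341_1344 c) (Nat.ble 1341 c)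
noncomputable def finTab_s_1345_1347 (c : Nat) : Nat := @Bool.rec (fun _ => Nat) (finTab_1345) (finTab_1346) (Nat.ble 1346 c)
noncomputable def finTab_s_1344_1347 (c : Nat) : Nat := @Bool.rec (fun _ => Nat) (finTab_1344) (finTab_s_1345_1347 c) (Nat.ble 1345 c)
noncomputable def finTab_s_1348_1350 (c : Nat) : Nat := @Bool.rec (fun _ => Nat) (finTab_1348) (finTab_1349) (Nat.ble 1349 c)
noncomputable def finTab_s_1347_1350 (c : Nat) : Nat := @Bool.rec (fun _ => Nat) (finTab_1347) (finTab_s_1348_1350 c) (Nat.ble 1348 c)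
noncomputable def finTab_s_1344_1350 (c : Nat) : Nat := @Bool.rec (fun _ => Nat) (finTab_s_1344_1347 c) (finTab_s_1347_1350 c) (Nat.ble 1347 c)
noncomputable def finTab_s_1338_1350 (c : Nat) : Nat := @Bool.rec (fun _ => Nat) (finTab_s_1338_1344 c) (finTab_s_1344_1350 c) (Nat.ble 1344 c)
noncomputable def finTab_s_1351_1353 (c : Nat) : Nat := @Bool.rec (fun _ => Nat) (finTab_1351) (finTab_1352) (Nat.ble 1352 c)
noncomputable def finTab_s_1350_1353 (c : Nat) : Nat := @Bool.rec (fun _ => Nat) (finTab_1350) (finTab_s_1351_1353 c) (Nat.ble 1351 c)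
noncomputable def finTab_s_1354_1356 (c : Nat) : Nat := @Bool.rec (fun _ => Nat) (finTab_1354) (finTab_1355) (Nat.ble 1355 c)
noncomputable def finTab_s_1353_1356 (c : Nat) : Nat := @Bool.rec (fun _ => Nat) (finTab_1353) (finTab_s_1354_1356 c) (Nat.ble 1354 c)
noncomputable def finTab_s_1350_1356 (c : Nat) : Nat := @Bool.rec (fun _ => Nat) (finTab_s_1350_1353 c) (finTab_s_1353_1356 c) (Nat.ble 1353 c)
noncomputable def finTab_s_1357_1359 (c : Nat) : Nat := @Bool.rec (fun _ => Nat) (finTab_1357) (finTab_1358) (Nat.ble 1358 c)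
noncomputable def finTab_s_1356_1359 (c : Nat) : Nat := @Bool.rec (fun _ => Nat) (finTab_1356) (finTab_s_1357_1359 c) (Nat.ble 1357 c)
noncomputable def finTab_s_1360_1362 (c : Nat) : Nat := @Bool.rec (fun _ => Nat) (finTab_1360) (finTab_1361) (Nat.ble 1361 c)
noncomputable def finTab_s_1359_1362 (c : Nat) : Nat := @Bool.rec (fun _ => Nat) (finTab_1359) (finTab_s_1360_1362 c) (Nat.ble 1360 c)
noncomputable def finTab_s_1356_1362 (c : Nat) : Nat := @Bool.rec (fun _ => Nat) (finTab_s_1356_1359 c) (finTab_s_1359_1362 c) (Nat.ble 1359 c)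
noncomputable def finTab_s_1350_1362 (c : Nat) : Nat := @Bool.rec (fun _ => Nat) (finTab_s_1350_1356 c) (finTab_s_1356_1362 c) (Nat.ble 1356 c)
noncomputable def finTab_s_1338_1362 (c : Nat) : Nat := @Bool.rec (fun _ => Nat) (finTab_s_1338_1350 c) (finTab_s_1350_1362 c) (Nat.ble 1350 c)
noncomputable def finTab_s_1315_1362 (c : Nat) : Nat := @Bool.rec (fun _ => Nat) (finTab_s_1315_1338 c) (finTab_s_1338_1362 c) (Nat.ble 1338 c)
noncomputable def finTab_s_1362_1364 (c : Nat) : Nat := @Bool.rec (fun _ => Nat) (finTab_1362) (finTab_1363) (Nat.ble 1363 c)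
noncomputable def finTab_s_1365_1367 (c : Nat) : Nat := @Bool.rec (fun _ => Nat) (finTab_1365) (finTab_1366) (Nat.ble 1366 c)
noncomputable def finTab_s_1364_1367 (c : Nat) : Nat := @Bool.rec (fun _ => Nat) (finTab_1364) (finTab_s_1365_1367 c) (Nat.ble 1365 c)
noncomputable def finTab_s_1362_1367 (c : Nat) : Nat := @Bool.rec (fun _ => Nat) (finTab_s_1362_1364 c) (finTab_s_1364_1367 c) (Nat.ble 1364 c)
noncomputable def finTab_s_1368_1370 (c : Nat) : Nat := @Bool.rec (fun _ => Nat) (finTab_1368) (finTab_1369) (Nat.ble 1369 c)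
noncomputable def finTab_s_1367_1370 (c : Nat) : Nat := @Bool.rec (fun _ => Nat) (finTab_1367) (finTab_s_1368_1370 c) (Nat.ble 1368 c)
noncomputable def finTab_s_1371_1373 (c : Nat) : Nat := @Bool.rec (fun _ => Nat) (finTab_1371) (finTab_1372) (Nat.ble 1372 c)
noncomputable def finTab_s_1370_1373 (c : Nat) : Nat := @Bool.rec (fun _ => Nat) (finTab_1370) (finTab_s_1371_1373 c) (Nat.ble 1371 c)
noncomputable def finTab_s_1367_1373 (c : Nat) : Nat := @Bool.rec (fun _ => Nat) (finTab_s_1367_1370 c) (finTab_s_1370_1373 c) (Nat.ble 1370 c)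
noncomputable def finTab_s_1362_1373 (c : Nat) : Nat := @Bool.rec (fun _ => Nat) (finTab_s_1362_1367 c) (finTab_s_1367_1373 c) (Nat.ble 1367 c)
noncomputable def finTab_s_1374_1376 (c : Nat) : Nat := @Bool.rec (fun _ => Nat) (finTab_1374) (finTab_1375) (Nat.ble 1375 c)
noncomputable def finTab_s_1373_1376 (c : Nat) : Nat := @Bool.rec (fun _ => Nat) (finTab_1373) (finTab_s_1374_1376 c) (Nat.ble 1374 c)
noncomputable def finTab_s_1377_1379 (c : Nat) : Nat := @Bool.rec (fun _ => Nat) (finTab_1377) (finTab_1378) (Nat.ble 1378 c)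
noncomputable def finTab_s_1376_1379 (c : Nat) : Nat := @Bool.rec (fun _ => Nat) (finTab_1376) (finTab_s_1377_1379 c) (Nat.ble 1377 c)
noncomputable def finTab_s_1373_1379 (c : Nat) : Nat := @Bool.rec (fun _ => Nat) (finTab_s_1373_1376 c) (finTab_s_1376_1379 c) (Nat.ble 1376 c)
noncomputable def finTab_s_1380_1382 (c : Nat) : Nat := @Bool.rec (fun _ => Nat) (finTab_1380) (finTab_1381) (Nat.ble 1381 c)
noncomputable def finTab_s_1379_1382 (c : Nat) : Nat := @Bool.rec (fun _ => Nat) (finTab_1379) (finTab_s_1380_1382 c) (Nat.ble 1380 c)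
noncomputable def finTab_s_1383_1385 (c : Nat) : Nat := @Bool.rec (fun _ => Nat) (finTab_1383) (finTab_1384) (Nat.ble 1384 c)
noncomputable def finTab_s_1382_1385 (c : Nat) : Nat := @Bool.rec (fun _ => Nat) (finTab_1382) (finTab_s_1383_1385 c) (Nat.ble 1383 c)
noncomputable def finTab_s_1379_1385 (c : Nat) : Nat := @Bool.rec (fun _ => Nat) (finTab_s_1379_1382 c) (finTab_s_1382_1385 c) (Nat.ble 1382 c)
noncomputable def finTab_s_1373_1385 (c : Nat) : Nat := @Bool.rec (fun _ => Nat) (finTab_s_1373_1379 c) (finTab_s_1379_1385 c) (Nat.ble 1379 c)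
noncomputable def finTab_s_1362_1385 (c : Nat) : Nat := @Bool.rec (fun _ => Nat) (finTab_s_1362_1373 c) (finTab_s_1373_1385 c) (Nat.ble 1373 c)
noncomputable def finTab_s_1386_1388 (c : Nat) : Nat := @Bool.rec (fun _ => Nat) (finTab_1386) (finTab_1387) (Nat.ble 1387 c)
noncomputable def finTab_s_1385_1388 (c : Nat) : Nat := @Bool.rec (fun _ => Nat) (finTab_1385) (finTab_s_1386_1388 c) (Nat.ble 1386 c)
noncomputable def finTab_s_1389_1391 (c : Nat) : Nat := @Bool.rec (fun _ => Nat) (finTab_1389) (finTab_1390) (Nat.ble 1390 c)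
noncomputable def finTab_s_1388_1391 (c : Nat) : Nat := @Bool.rec (fun _ => Nat) (finTab_1388) (finTab_s_1389_1391 c) (Nat.ble 1389 c)
noncomputable def finTab_s_1385_1391 (c : Nat) : Nat := @Bool.rec (fun _ => Nat) (finTab_s_1385_1388 c) (finTab_s_1388_1391 c) (Nat.ble 1388 c)
noncomputable def finTab_s_1392_1394 (c : Nat) : Nat := @Bool.rec (fun _ => Nat) (finTab_1392) (finTab_1393) (Nat.ble 1393 c)
noncomputable def finTab_s_1391_1394 (c : Nat) : Nat := @Bool.rec (fun _ => Nat) (finTab_1391) (finTab_s_1392_1394 c) (Nat.ble 1392 c)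
noncomputable def finTab_s_1395_1397 (c : Nat) : Nat := @Bool.rec (fun _ => Nat) (finTab_1395) (finTab_1396) (Nat.ble 1396 c)
noncomputable def finTab_s_1394_1397 (c : Nat) : Nat := @Bool.rec (fun _ => Nat) (finTab_1394) (finTab_s_1395_1397 c) (Nat.ble 1395 c)
noncomputable def finTab_s_1391_1397 (c : Nat) : Nat := @Bool.rec (fun _ => Nat) (finTab_s_1391_1394 c) (finTab_s_1394_1397 c) (Nat.ble 1394 c)
noncomputable def finTab_s_1385_1397 (c : Nat) : Nat := @Bool.rec (fun _ => Nat) (finTab_s_1385_1391 c) (finTab_s_1391_1397 c) (Nat.ble 1391 c)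
noncomputable def finTab_s_1398_1400 (c : Nat) : Nat := @Bool.rec (fun _ => Nat) (finTab_1398) (finTab_1399) (Nat.ble 1399 c)
noncomputable def finTab_s_1397_1400 (c : Nat) : Nat := @Bool.rec (fun _ => Nat) (finTab_1397) (finTab_s_1398_1400 c) (Nat.ble 1398 c)
noncomputable def finTab_s_1401_1403 (c : Nat) : Nat := @Bool.rec (fun _ => Nat) (finTab_1401) (finTab_1402) (Nat.ble 1402 c)
noncomputable def finTab_s_1400_1403 (c : Nat) : Nat := @Bool.rec (fun _ => Nat) (finTab_1400) (finTab_s_1401_1403 c) (Nat.ble 1401 c)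
noncomputable def finTab_s_1397_1403 (c : Nat) : Nat := @Bool.rec (fun _ => Nat) (finTab_s_1397_1400 c) (finTab_s_1400_1403 c) (Nat.ble 1400 c)
noncomputable def finTab_s_1404_1406 (c : Nat) : Nat := @Bool.rec (fun _ => Nat) (finTab_1404) (finTab_1405) (Nat.ble 1405 c)
noncomputable def finTab_s_1403_1406 (c : Nat) : Nat := @Bool.rec (fun _ => Nat) (finTab_1403) (finTab_s_1404_1406 c) (Nat.ble 1404 c)
noncomputable def finTab_s_1407_1409 (c : Nat) : Nat := @Bool.rec (fun _ => Nat) (finTab_1407) (finTab_1408) (Nat.ble 1408 c)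
noncomputable def finTab_s_1406_1409 (c : Nat) : Nat := @Bool.rec (fun _ => Nat) (finTab_1406) (finTab_s_1407_1409 c) (Nat.ble 1407 c)
noncomputable def finTab_s_1403_1409 (c : Nat) : Nat := @Bool.rec (fun _ => Nat) (finTab_s_1403_1406 c) (finTab_s_1406_1409 c) (Nat.ble 1406 c)
noncomputable def finTab_s_1397_1409 (c : Nat) : Nat := @Bool.rec (fun _ => Nat) (finTab_s_1397_1403 c) (finTab_s_1403_1409 c) (Nat.ble 1403 c)
noncomputable def finTab_s_1385_1409 (c : Nat) : Nat := @Bool.rec (fun _ => Nat) (finTab_s_1385_1397 c) (finTab_s_1397_1409 c) (Nat.ble 1397 c)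
noncomputable def finTab_s_1362_1409 (c : Nat) : Nat := @Bool.rec (fun _ => Nat) (finTab_s_1362_1385 c) (finTab_s_1385_1409 c) (Nat.ble 1385 c)
noncomputable def finTab_s_1315_1409 (c : Nat) : Nat := @Bool.rec (fun _ => Nat) (finTab_s_1315_1362 c) (finTab_s_1362_1409 c) (Nat.ble 1362 c)
noncomputable def finTab_s_1409_1411 (c : Nat) : Nat := @Bool.rec (fun _ => Nat) (finTab_1409) (finTab_1410) (Nat.ble 1410 c)
noncomputable def finTab_s_1412_1414 (c : Nat) : Nat := @Bool.rec (fun _ => Nat) (finTab_1412) (finTab_1413) (Nat.ble 1413 c)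
noncomputable def finTab_s_1411_1414 (c : Nat) : Nat := @Bool.rec (fun _ => Nat) (finTab_1411) (finTab_s_1412_1414 c) (Nat.ble 1412 c)
noncomputable def finTab_s_1409_1414 (c : Nat) : Nat := @Bool.rec (fun _ => Nat) (finTab_s_1409_1411 c) (finTab_s_1411_1414 c) (Nat.ble 1411 c)
noncomputable def finTab_s_1415_1417 (c : Nat) : Nat := @Bool.rec (fun _ => Nat) (finTab_1415) (finTab_1416) (Nat.ble 1416 c)
noncomputable def finTab_s_1414_1417 (c : Nat) : Nat := @Bool.rec (fun _ => Nat) (finTab_1414) (finTab_s_1415_1417 c) (Nat.ble 1415 c)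
noncomputable def finTab_s_1418_1420 (c : Nat) : Nat := @Bool.rec (fun _ => Nat) (finTab_1418) (finTab_1419) (Nat.ble 1419 c)
noncomputable def finTab_s_1417_1420 (c : Nat) : Nat := @Bool.rec (fun _ => Nat) (finTab_1417) (finTab_s_1418_1420 c) (Nat.ble 1418 c)
noncomputable def finTab_s_1414_1420 (c : Nat) : Nat := @Bool.rec (fun _ => Nat) (finTab_s_1414_1417 c) (finTab_s_1417_1420 c) (Nat.ble 1417 c)
noncomputable def finTab_s_1409_1420 (c : Nat) : Nat := @Bool.rec (fun _ => Nat) (finTab_s_1409_1414 c) (finTab_s_1414_1420 c) (Nat.ble 1414 c)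
noncomputable def finTab_s_1421_1423 (c : Nat) : Nat := @Bool.rec (fun _ => Nat) (finTab_1421) (finTab_1422) (Nat.ble 1422 c)
noncomputable def finTab_s_1420_1423 (c : Nat) : Nat := @Bool.rec (fun _ => Nat) (finTab_1420) (finTab_s_1421_1423 c) (Nat.ble 1421 c)
noncomputable def finTab_s_1424_1426 (c : Nat) : Nat := @Bool.rec (fun _ => Nat) (finTab_1424) (finTab_1425) (Nat.ble 1425 c)
noncomputable def finTab_s_1423_1426 (c : Nat) : Nat := @Bool.rec (fun _ => Nat) (finTab_1423) (finTab_s_1424_1426 c) (Nat.ble 1424 c)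
noncomputable def finTab_s_1420_1426 (c : Nat) : Nat := @Bool.rec (fun _ => Nat) (finTab_s_1420_1423 c) (finTab_s_1423_1426 c) (Nat.ble 1423 c)
noncomputable def finTab_s_1427_1429 (c : Nat) : Nat := @Bool.rec (fun _ => Nat) (finTab_1427) (finTab_1428) (Nat.ble 1428 c)
noncomputable def finTab_s_1426_1429 (c : Nat) : Nat := @Bool.rec (fun _ => Nat) (finTab_1426) (finTab_s_1427_1429 c) (Nat.ble 1427 c)
noncomputable def finTab_s_1430_1432 (c : Nat) : Nat := @Bool.rec (fun _ => Nat) (finTab_1430) (finTab_1431) (Nat.ble 1431 c)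
noncomputable def finTab_s_1429_1432 (c : Nat) : Nat := @Bool.rec (fun _ => Nat) (finTab_1429) (finTab_s_1430_1432 c) (Nat.ble 1430 c)
noncomputable def finTab_s_1426_1432 (c : Nat) : Nat := @Bool.rec (fun _ => Nat) (finTab_s_1426_1429 c) (finTab_s_1429_1432 c) (Nat.ble 1429 c)
noncomputable def finTab_s_1420_1432 (c : Nat) : Nat := @Bool.rec (fun _ => Nat) (finTab_s_1420_1426 c) (finTab_s_1426_1432 c) (Nat.ble 1426 c)
noncomputable def finTab_s_1409_1432 (c : Nat) : Nat := @Bool.rec (fun _ => Nat) (finTab_s_1409_1420 c) (finTab_s_1420_1432 c) (Nat.ble 1420 c)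
noncomputable def finTab_s_1433_1435 (c : Nat) : Nat := @Bool.rec (fun _ => Nat) (finTab_1433) (finTab_1434) (Nat.ble 1434 c)
noncomputable def finTab_s_1432_1435 (c : Nat) : Nat := @Bool.rec (fun _ => Nat) (finTab_1432) (finTab_s_1433_1435 c) (Nat.ble 1433 c)
noncomputable def finTab_s_1436_1438 (c : Nat) : Nat := @Bool.rec (fun _ => Nat) (finTab_1436) (finTab_1437) (Nat.ble 1437 c)
noncomputable def finTab_s_1435_1438 (c : Nat) : Nat := @Bool.rec (fun _ => Nat) (finTab_1435) (finTab_s_1436_1438 c) (Nat.ble 1436 c)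
noncomputable def finTab_s_1432_1438 (c : Nat) : Nat := @Bool.rec (fun _ => Nat) (finTab_s_1432_1435 c) (finTab_s_1435_1438 c) (Nat.ble 1435 c)
noncomputable def finTab_s_1439_1441 (c : Nat) : Nat := @Bool.rec (fun _ => Nat) (finTab_1439) (finTab_1440) (Nat.ble 1440 c)
noncomputable def finTab_s_1438_1441 (c : Nat) : Nat := @Bool.rec (fun _ => Nat) (finTab_1438) (finTab_s_1439_1441 c) (Nat.ble 1439 c)
noncomputable def finTab_s_1442_1444 (c : Nat) : Nat := @Bool.rec (fun _ => Nat) (finTab_1442) (finTab_1443) (Nat.ble 1443 c)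
noncomputable def finTab_s_1441_1444 (c : Nat) : Nat := @Bool.rec (fun _ => Nat) (finTab_1441) (finTab_s_1442_1444 c) (Nat.ble 1442 c)
noncomputable def finTab_s_1438_1444 (c : Nat) : Nat := @Bool.rec (fun _ => Nat) (finTab_s_1438_1441 c) (finTab_s_1441_1444 c) (Nat.ble 1441 c)
noncomputable def finTab_s_1432_1444 (c : Nat) : Nat := @Bool.rec (fun _ => Nat) (finTab_s_1432_1438 c) (finTab_s_1438_1444 c) (Nat.ble 1438 c)
noncomputable def finTab_s_1445_1447 (c : Nat) : Nat := @Bool.rec (fun _ => Nat) (finTab_1445) (finTab_1446) (Nat.ble 1446 c)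
noncomputable def finTab_s_1444_1447 (c : Nat) : Nat := @Bool.rec (fun _ => Nat) (finTab_1444) (finTab_s_1445_1447 c) (Nat.ble 1445 c)
noncomputable def finTab_s_1448_1450 (c : Nat) : Nat := @Bool.rec (fun _ => Nat) (finTab_1448) (finTab_1449) (Nat.ble 1449 c)
noncomputable def finTab_s_1447_1450 (c : Nat) : Nat := @Bool.rec (fun _ => Nat) (finTab_1447) (finTab_s_1448_1450 c) (Nat.ble 1448 c)
noncomputable def finTab_s_1444_1450 (c : Nat) : Nat := @Bool.rec (fun _ => Nat) (finTab_s_1444_1447 c) (finTab_s_1447_1450 c) (Nat.ble 1447 c)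
noncomputable def finTab_s_1451_1453 (c : Nat) : Nat := @Bool.rec (fun _ => Nat) (finTab_1451) (finTab_1452) (Nat.ble 1452 c)
noncomputable def finTab_s_1450_1453 (c : Nat) : Nat := @Bool.rec (fun _ => Nat) (finTab_1450) (finTab_s_1451_1453 c) (Nat.ble 1451 c)
noncomputable def finTab_s_1454_1456 (c : Nat) : Nat := @Bool.rec (fun _ => Nat) (finTab_1454) (finTab_1455) (Nat.ble 1455 c)
noncomputable def finTab_s_1453_1456 (c : Nat) : Nat := @Bool.rec (fun _ => Nat) (finTab_1453) (finTab_s_1454_1456 c) (Nat.ble 1454 c)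
noncomputable def finTab_s_1450_1456 (c : Nat) : Nat := @Bool.rec (fun _ => Nat) (finTab_s_1450_1453 c) (finTab_s_1453_1456 c) (Nat.ble 1453 c)
noncomputable def finTab_s_1444_1456 (c : Nat) : Nat := @Bool.rec (fun _ => Nat) (finTab_s_1444_1450 c) (finTab_s_1450_1456 c) (Nat.ble 1450 c)
noncomputable def finTab_s_1432_1456 (c : Nat) : Nat := @Bool.rec (fun _ => Nat) (finTab_s_1432_1444 c) (finTab_s_1444_1456 c) (Nat.ble 1444 c)
noncomputable def finTab_s_1409_1456 (c : Nat) : Nat := @Bool.rec (fun _ => Nat) (finTab_s_1409_1432 c) (finTab_s_1432_1456 c) (Nat.ble 1432 c)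
noncomputable def finTab_s_1456_1458 (c : Nat) : Nat := @Bool.rec (fun _ => Nat) (finTab_1456) (finTab_1457) (Nat.ble 1457 c)
noncomputable def finTab_s_1459_1461 (c : Nat) : Nat := @Bool.rec (fun _ => Nat) (finTab_1459) (finTab_1460) (Nat.ble 1460 c)
noncomputable def finTab_s_1458_1461 (c : Nat) : Nat := @Bool.rec (fun _ => Nat) (finTab_1458) (finTab_s_1459_1461 c) (Nat.ble 1459 c)
noncomputable def finTab_s_1456_1461 (c : Nat) : Nat := @Bool.rec (fun _ => Nat) (finTab_s_1456_1458 c) (finTab_s_1458_1461 c) (Nat.ble 1458 c)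
noncomputable def finTab_s_1462_1464 (c : Nat) : Nat := @Bool.rec (fun _ => Nat) (finTab_1462) (finTab_1463) (Nat.ble 1463 c)
noncomputable def finTab_s_1461_1464 (c : Nat) : Nat := @Bool.rec (fun _ => Nat) (finTab_1461) (finTab_s_1462_1464 c) (Nat.ble 1462 c)
noncomputable def finTab_s_1465_1467 (c : Nat) : Nat := @Bool.rec (fun _ => Nat) (finTab_1465) (finTab_1466) (Nat.ble 1466 c)
noncomputable def finTab_s_1464_1467 (c : Nat) : Nat := @Bool.rec (fun _ => Nat) (finTab_1464) (finTab_s_1465_1467 c) (Nat.ble 1465 c)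
noncomputable def finTab_s_1461_1467 (c : Nat) : Nat := @Bool.rec (fun _ => Nat) (finTab_s_1461_1464 c) (finTab_s_1464_1467 c) (Nat.ble 1464 c)
noncomputable def finTab_s_1456_1467 (c : Nat) : Nat := @Bool.rec (fun _ => Nat) (finTab_s_1456_1461 c) (finTab_s_1461_1467 c) (Nat.ble 1461 c)
noncomputable def finTab_s_1468_1470 (c : Nat) : Nat := @Bool.rec (fun _ => Nat) (finTab_1468) (finTab_1469) (Nat.ble 1469 c)
noncomputable def finTab_s_1467_1470 (c : Nat) : Nat := @Bool.rec (fun _ => Nat) (finTab_1467) (finTab_s_1468_1470 c) (Nat.ble 1468 c)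
noncomputable def finTab_s_1471_1473 (c : Nat) : Nat := @Bool.rec (fun _ => Nat) (finTab_1471) (finTab_1472) (Nat.ble 1472 c)
noncomputable def finTab_s_1470_1473 (c : Nat) : Nat := @Bool.rec (fun _ => Nat) (finTab_1470) (finTab_s_1471_1473 c) (Nat.ble 1471 c)
noncomputable def finTab_s_1467_1473 (c : Nat) : Nat := @Bool.rec (fun _ => Nat) (finTab_s_1467_1470 c) (finTab_s_1470_1473 c) (Nat.ble 1470 c)
noncomputable def finTab_s_1474_1476 (c : Nat) : Nat := @Bool.rec (fun _ => Nat) (finTab_1474) (finTab_1475) (Nat.ble 1475 c)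
noncomputable def finTab_s_1473_1476 (c : Nat) : Nat := @Bool.rec (fun _ => Nat) (finTab_1473) (finTab_s_1474_1476 c) (Nat.ble 1474 c)
noncomputable def finTab_s_1477_1479 (c : Nat) : Nat := @Bool.rec (fun _ => Nat) (finTab_1477) (finTab_1478) (Nat.ble 1478 c)
noncomputable def finTab_s_1476_1479 (c : Nat) : Nat := @Bool.rec (fun _ => Nat) (finTab_1476) (finTab_s_1477_1479 c) (Nat.ble 1477 c)
noncomputable def finTab_s_1473_1479 (c : Nat) : Nat := @Bool.rec (fun _ => Nat) (finTab_s_1473_1476 c) (finTab_s_1476_1479 c) (Nat.ble 1476 c)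
noncomputable def finTab_s_1467_1479 (c : Nat) : Nat := @Bool.rec (fun _ => Nat) (finTab_s_1467_1473 c) (finTab_s_1473_1479 c) (Nat.ble 1473 c)
noncomputable def finTab_s_1456_1479 (c : Nat) : Nat := @Bool.rec (fun _ => Nat) (finTab_s_1456_1467 c) (finTab_s_1467_1479 c) (Nat.ble 1467 c)
noncomputable def finTab_s_1480_1482 (c : Nat) : Nat := @Bool.rec (fun _ => Nat) (finTab_1480) (finTab_1481) (Nat.ble 1481 c)
noncomputable def finTab_s_1479_1482 (c : Nat) : Nat := @Bool.rec (fun _ => Nat) (finTab_1479) (finTab_s_1480_1482 c) (Nat.ble 1480 c)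
noncomputable def finTab_s_1483_1485 (c : Nat) : Nat := @Bool.rec (fun _ => Nat) (finTab_1483) (finTab_1484) (Nat.ble 1484 c)
noncomputable def finTab_s_1482_1485 (c : Nat) : Nat := @Bool.rec (fun _ => Nat) (finTab_1482) (finTab_s_1483_1485 c) (Nat.ble 1483 c)
noncomputable def finTab_s_1479_1485 (c : Nat) : Nat := @Bool.rec (fun _ => Nat) (finTab_s_1479_1482 c) (finTab_s_1482_1485 c) (Nat.ble 1482 c)
noncomputable def finTab_s_1486_1488 (c : Nat) : Nat := @Bool.rec (fun _ => Nat) (finTab_1486) (finTab_1487) (Nat.ble 1487 c)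
noncomputable def finTab_s_1485_1488 (c : Nat) : Nat := @Bool.rec (fun _ => Nat) (finTab_1485) (finTab_s_1486_1488 c) (Nat.ble 1486 c)
noncomputable def finTab_s_1489_1491 (c : Nat) : Nat := @Bool.rec (fun _ => Nat) (finTab_1489) (finTab_1490) (Nat.ble 1490 c)
noncomputable def finTab_s_1488_1491 (c : Nat) : Nat := @Bool.rec (fun _ => Nat) (finTab_1488) (finTab_s_1489_1491 c) (Nat.ble 1489 c)
noncomputable def finTab_s_1485_1491 (c : Nat) : Nat := @Bool.rec (fun _ => Nat) (finTab_s_1485_1488 c) (finTab_s_1488_1491 c) (Nat.ble 1488 c)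
noncomputable def finTab_s_1479_1491 (c : Nat) : Nat := @Bool.rec (fun _ => Nat) (finTab_s_1479_1485 c) (finTab_s_1485_1491 c) (Nat.ble 1485 c)
noncomputable def finTab_s_1492_1494 (c : Nat) : Nat := @Bool.rec (fun _ => Nat) (finTab_1492) (finTab_1493) (Nat.ble 1493 c)
noncomputable def finTab_s_1491_1494 (c : Nat) : Nat := @Bool.rec (fun _ => Nat) (finTab_1491) (finTab_s_1492_1494 c) (Nat.ble 1492 c)
noncomputable def finTab_s_1495_1497 (c : Nat) : Nat := @Bool.rec (fun _ => Nat) (finTab_1495) (finTab_1496) (Nat.ble 1496 c)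
noncomputable def finTab_s_1494_1497 (c : Nat) : Nat := @Bool.rec (fun _ => Nat) (finTab_1494) (finTab_s_1495_1497 c) (Nat.ble 1495 c)
noncomputable def finTab_s_1491_1497 (c : Nat) : Nat := @Bool.rec (fun _ => Nat) (finTab_s_1491_1494 c) (finTab_s_1494_1497 c) (Nat.ble 1494 c)
noncomputable def finTab_s_1498_1500 (c : Nat) : Nat := @Bool.rec (fun _ => Nat) (finTab_1498) (finTab_1499) (Nat.ble 1499 c)
noncomputable def finTab_s_1497_1500 (c : Nat) : Nat := @Bool.rec (fun _ => Nat) (finTab_1497) (finTab_s_1498_1500 c) (Nat.ble 1498 c)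
noncomputable def finTab_s_1501_1503 (c : Nat) : Nat := @Bool.rec (fun _ => Nat) (finTab_1501) (finTab_1502) (Nat.ble 1502 c)
noncomputable def finTab_s_1500_1503 (c : Nat) : Nat := @Bool.rec (fun _ => Nat) (finTab_1500) (finTab_s_1501_1503 c) (Nat.ble 1501 c)
noncomputable def finTab_s_1497_1503 (c : Nat) : Nat := @Bool.rec (fun _ => Nat) (finTab_s_1497_1500 c) (finTab_s_1500_1503 c) (Nat.ble 1500 c)
noncomputable def finTab_s_1491_1503 (c : Nat) : Nat := @Bool.rec (fun _ => Nat) (finTab_s_1491_1497 c) (finTab_s_1497_1503 c) (Nat.ble 1497 c)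
noncomputable def finTab_s_1479_1503 (c : Nat) : Nat := @Bool.rec (fun _ => Nat) (finTab_s_1479_1491 c) (finTab_s_1491_1503 c) (Nat.ble 1491 c)
noncomputable def finTab_s_1456_1503 (c : Nat) : Nat := @Bool.rec (fun _ => Nat) (finTab_s_1456_1479 c) (finTab_s_1479_1503 c) (Nat.ble 1479 c)
noncomputable def finTab_s_1409_1503 (c : Nat) : Nat := @Bool.rec (fun _ => Nat) (finTab_s_1409_1456 c) (finTab_s_1456_1503 c) (Nat.ble 1456 c)
noncomputable def finTab_s_1315_1503 (c : Nat) : Nat := @Bool.rec (fun _ => Nat) (finTab_s_1315_1409 c) (finTab_s_1409_1503 c) (Nat.ble 1409 c)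
noncomputable def finTab_s_1127_1503 (c : Nat) : Nat := @Bool.rec (fun _ => Nat) (finTab_s_1127_1315 c) (finTab_s_1315_1503 c) (Nat.ble 1315 c)
noncomputable def finTab_s_751_1503 (c : Nat) : Nat := @Bool.rec (fun _ => Nat) (finTab_s_751_1127 c) (finTab_s_1127_1503 c) (Nat.ble 1127 c)
noncomputable def finTab_s_0_1503 (c : Nat) : Nat := @Bool.rec (fun _ => Nat) (finTab_s_0_751 c) (finTab_s_751_1503 c) (Nat.ble 751 c)
noncomputable def finTab_s_1503_1505 (c : Nat) : Nat := @Bool.rec (fun _ => Nat) (finTab_1503) (finTab_1504) (Nat.ble 1504 c)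
noncomputable def finTab_s_1506_1508 (c : Nat) : Nat := @Bool.rec (fun _ => Nat) (finTab_1506) (finTab_1507) (Nat.ble 1507 c)
noncomputable def finTab_s_1505_1508 (c : Nat) : Nat := @Bool.rec (fun _ => Nat) (finTab_1505) (finTab_s_1506_1508 c) (Nat.ble 1506 c)
noncomputable def finTab_s_1503_1508 (c : Nat) : Nat := @Bool.rec (fun _ => Nat) (finTab_s_1503_1505 c) (finTab_s_1505_1508 c) (Nat.ble 1505 c)
noncomputable def finTab_s_1509_1511 (c : Nat) : Nat := @Bool.rec (fun _ => Nat) (finTab_1509) (finTab_1510) (Nat.ble 1510 c)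
noncomputable def finTab_s_1508_1511 (c : Nat) : Nat := @Bool.rec (fun _ => Nat) (finTab_1508) (finTab_s_1509_1511 c) (Nat.ble 1509 c)
noncomputable def finTab_s_1512_1514 (c : Nat) : Nat := @Bool.rec (fun _ => Nat) (finTab_1512) (finTab_1513) (Nat.ble 1513 c)
noncomputable def finTab_s_1511_1514 (c : Nat) : Nat := @Bool.rec (fun _ => Nat) (finTab_1511) (finTab_s_1512_1514 c) (Nat.ble 1512 c)
noncomputable def finTab_s_1508_1514 (c : Nat) : Nat := @Bool.rec (fun _ => Nat) (finTab_s_1508_1511 c) (finTab_s_1511_1514 c) (Nat.ble 1511 c)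
noncomputable def finTab_s_1503_1514 (c : Nat) : Nat := @Bool.rec (fun _ => Nat) (finTab_s_1503_1508 c) (finTab_s_1508_1514 c) (Nat.ble 1508 c)
noncomputable def finTab_s_1515_1517 (c : Nat) : Nat := @Bool.rec (fun _ => Nat) (finTab_1515) (finTab_1516) (Nat.ble 1516 c)
noncomputable def finTab_s_1514_1517 (c : Nat) : Nat := @Bool.rec (fun _ => Nat) (finTab_1514) (finTab_s_1515_1517 c) (Nat.ble 1515 c)
noncomputable def finTab_s_1518_1520 (c : Nat) : Nat := @Bool.rec (fun _ => Nat) (finTab_1518) (finTab_1519) (Nat.ble 1519 c)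
noncomputable def finTab_s_1517_1520 (c : Nat) : Nat := @Bool.rec (fun _ => Nat) (finTab_1517) (finTab_s_1518_1520 c) (Nat.ble 1518 c)
noncomputable def finTab_s_1514_1520 (c : Nat) : Nat := @Bool.rec (fun _ => Nat) (finTab_s_1514_1517 c) (finTab_s_1517_1520 c) (Nat.ble 1517 c)
noncomputable def finTab_s_1521_1523 (c : Nat) : Nat := @Bool.rec (fun _ => Nat) (finTab_1521) (finTab_1522) (Nat.ble 1522 c)
noncomputable def finTab_s_1520_1523 (c : Nat) : Nat := @Bool.rec (fun _ => Nat) (finTab_1520) (finTab_s_1521_1523 c) (Nat.ble 1521 c)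
noncomputable def finTab_s_1524_1526 (c : Nat) : Nat := @Bool.rec (fun _ => Nat) (finTab_1524) (finTab_1525) (Nat.ble 1525 c)
noncomputable def finTab_s_1523_1526 (c : Nat) : Nat := @Bool.rec (fun _ => Nat) (finTab_1523) (finTab_s_1524_1526 c) (Nat.ble 1524 c)
noncomputable def finTab_s_1520_1526 (c : Nat) : Nat := @Bool.rec (fun _ => Nat) (finTab_s_1520_1523 c) (finTab_s_1523_1526 c) (Nat.ble 1523 c)
noncomputable def finTab_s_1514_1526 (c : Nat) : Nat := @Bool.rec (fun _ => Nat) (finTab_s_1514_1520 c) (finTab_s_1520_1526 c) (Nat.ble 1520 c)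
noncomputable def finTab_s_1503_1526 (c : Nat) : Nat := @Bool.rec (fun _ => Nat) (finTab_s_1503_1514 c) (finTab_s_1514_1526 c) (Nat.ble 1514 c)
noncomputable def finTab_s_1526_1528 (c : Nat) : Nat := @Bool.rec (fun _ => Nat) (finTab_1526) (finTab_1527) (Nat.ble 1527 c)
noncomputable def finTab_s_1529_1531 (c : Nat) : Nat := @Bool.rec (fun _ => Nat) (finTab_1529) (finTab_1530) (Nat.ble 1530 c)
noncomputable def finTab_s_1528_1531 (c : Nat) : Nat := @Bool.rec (fun _ => Nat) (finTab_1528) (finTab_s_1529_1531 c) (Nat.ble 1529 c)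
noncomputable def finTab_s_1526_1531 (c : Nat) : Nat := @Bool.rec (fun _ => Nat) (finTab_s_1526_1528 c) (finTab_s_1528_1531 c) (Nat.ble 1528 c)
noncomputable def finTab_s_1532_1534 (c : Nat) : Nat := @Bool.rec (fun _ => Nat) (finTab_1532) (finTab_1533) (Nat.ble 1533 c)
noncomputable def finTab_s_1531_1534 (c : Nat) : Nat := @Bool.rec (fun _ => Nat) (finTab_1531) (finTab_s_1532_1534 c) (Nat.ble 1532 c)
noncomputable def finTab_s_1535_1537 (c : Nat) : Nat := @Bool.rec (fun _ => Nat) (finTab_1535) (finTab_1536) (Nat.ble 1536 c)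
noncomputable def finTab_s_1534_1537 (c : Nat) : Nat := @Bool.rec (fun _ => Nat) (finTab_1534) (finTab_s_1535_1537 c) (Nat.ble 1535 c)
noncomputable def finTab_s_1531_1537 (c : Nat) : Nat := @Bool.rec (fun _ => Nat) (finTab_s_1531_1534 c) (finTab_s_1534_1537 c) (Nat.ble 1534 c)
noncomputable def finTab_s_1526_1537 (c : Nat) : Nat := @Bool.rec (fun _ => Nat) (finTab_s_1526_1531 c) (finTab_s_1531_1537 c) (Nat.ble 1531 c)
noncomputable def finTab_s_1538_1540 (c : Nat) : Nat := @Bool.rec (fun _ => Nat) (finTab_1538) (finTab_1539) (Nat.ble 1539 c)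
noncomputable def finTab_s_1537_1540 (c : Nat) : Nat := @Bool.rec (fun _ => Nat) (finTab_1537) (finTab_s_1538_1540 c) (Nat.ble 1538 c)
noncomputable def finTab_s_1541_1543 (c : Nat) : Nat := @Bool.rec (fun _ => Nat) (finTab_1541) (finTab_1542) (Nat.ble 1542 c)
noncomputable def finTab_s_1540_1543 (c : Nat) : Nat := @Bool.rec (fun _ => Nat) (finTab_1540) (finTab_s_1541_1543 c) (Nat.ble 1541 c)
noncomputable def finTab_s_1537_1543 (c : Nat) : Nat := @Bool.rec (fun _ => Nat) (finTab_s_1537_1540 c) (finTab_s_1540_1543 c) (Nat.ble 1540 c)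
noncomputable def finTab_s_1544_1546 (c : Nat) : Nat := @Bool.rec (fun _ => Nat) (finTab_1544) (finTab_1545) (Nat.ble 1545 c)
noncomputable def finTab_s_1543_1546 (c : Nat) : Nat := @Bool.rec (fun _ => Nat) (finTab_1543) (finTab_s_1544_1546 c) (Nat.ble 1544 c)
noncomputable def finTab_s_1547_1549 (c : Nat) : Nat := @Bool.rec (fun _ => Nat) (finTab_1547) (finTab_1548) (Nat.ble 1548 c)
noncomputable def finTab_s_1546_1549 (c : Nat) : Nat := @Bool.rec (fun _ => Nat) (finTab_1546) (finTab_s_1547_1549 c) (Nat.ble 1547 c)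
noncomputable def finTab_s_1543_1549 (c : Nat) : Nat := @Bool.rec (fun _ => Nat) (finTab_s_1543_1546 c) (finTab_s_1546_1549 c) (Nat.ble 1546 c)
noncomputable def finTab_s_1537_1549 (c : Nat) : Nat := @Bool.rec (fun _ => Nat) (finTab_s_1537_1543 c) (finTab_s_1543_1549 c) (Nat.ble 1543 c)
noncomputable def finTab_s_1526_1549 (c : Nat) : Nat := @Bool.rec (fun _ => Nat) (finTab_s_1526_1537 c) (finTab_s_1537_1549 c) (Nat.ble 1537 c)
noncomputable def finTab_s_1503_1549 (c : Nat) : Nat := @Bool.rec (fun _ => Nat) (finTab_s_1503_1526 c) (finTab_s_1526_1549 c) (Nat.ble 1526 c)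
noncomputable def finTab_s_1549_1551 (c : Nat) : Nat := @Bool.rec (fun _ => Nat) (finTab_1549) (finTab_1550) (Nat.ble 1550 c)
noncomputable def finTab_s_1552_1554 (c : Nat) : Nat := @Bool.rec (fun _ => Nat) (finTab_1552) (finTab_1553) (Nat.ble 1553 c)
noncomputable def finTab_s_1551_1554 (c : Nat) : Nat := @Bool.rec (fun _ => Nat) (finTab_1551) (finTab_s_1552_1554 c) (Nat.ble 1552 c)
noncomputable def finTab_s_1549_1554 (c : Nat) : Nat := @Bool.rec (fun _ => Nat) (finTab_s_1549_1551 c) (finTab_s_1551_1554 c) (Nat.ble 1551 c)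
noncomputable def finTab_s_1555_1557 (c : Nat) : Nat := @Bool.rec (fun _ => Nat) (finTab_1555) (finTab_1556) (Nat.ble 1556 c)
noncomputable def finTab_s_1554_1557 (c : Nat) : Nat := @Bool.rec (fun _ => Nat) (finTab_1554) (finTab_s_1555_1557 c) (Nat.ble 1555 c)
noncomputable def finTab_s_1558_1560 (c : Nat) : Nat := @Bool.rec (fun _ => Nat) (finTab_1558) (finTab_1559) (Nat.ble 1559 c)
noncomputable def finTab_s_1557_1560 (c : Nat) : Nat := @Bool.rec (fun _ => Nat) (finTab_1557) (finTab_s_1558_1560 c) (Nat.ble 1558 c)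
noncomputable def finTab_s_1554_1560 (c : Nat) : Nat := @Bool.rec (fun _ => Nat) (finTab_s_1554_1557 c) (finTab_s_1557_1560 c) (Nat.ble 1557 c)
noncomputable def finTab_s_1549_1560 (c : Nat) : Nat := @Bool.rec (fun _ => Nat) (finTab_s_1549_1554 c) (finTab_s_1554_1560 c) (Nat.ble 1554 c)
noncomputable def finTab_s_1561_1563 (c : Nat) : Nat := @Bool.rec (fun _ => Nat) (finTab_1561) (finTab_1562) (Nat.ble 1562 c)
noncomputable def finTab_s_1560_1563 (c : Nat) : Nat := @Bool.rec (fun _ => Nat) (finTab_1560) (finTab_s_1561_1563 c) (Nat.ble 1561 c)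
noncomputable def finTab_s_1564_1566 (c : Nat) : Nat := @Bool.rec (fun _ => Nat) (finTab_1564) (finTab_1565) (Nat.ble 1565 c)
noncomputable def finTab_s_1563_1566 (c : Nat) : Nat := @Bool.rec (fun _ => Nat) (finTab_1563) (finTab_s_1564_1566 c) (Nat.ble 1564 c)
noncomputable def finTab_s_1560_1566 (c : Nat) : Nat := @Bool.rec (fun _ => Nat) (finTab_s_1560_1563 c) (finTab_s_1563_1566 c) (Nat.ble 1563 c)
noncomputable def finTab_s_1567_1569 (c : Nat) : Nat := @Bool.rec (fun _ => Nat) (finTab_1567) (finTab_1568) (Nat.ble 1568 c)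
noncomputable def finTab_s_1566_1569 (c : Nat) : Nat := @Bool.rec (fun _ => Nat) (finTab_1566) (finTab_s_1567_1569 c) (Nat.ble 1567 c)
noncomputable def finTab_s_1570_1572 (c : Nat) : Nat := @Bool.rec (fun _ => Nat) (finTab_1570) (finTab_1571) (Nat.ble 1571 c)
noncomputable def finTab_s_1569_1572 (c : Nat) : Nat := @Bool.rec (fun _ => Nat) (finTab_1569) (finTab_s_1570_1572 c) (Nat.ble 1570 c)
noncomputable def finTab_s_1566_1572 (c : Nat) : Nat := @Bool.rec (fun _ => Nat) (finTab_s_1566_1569 c) (finTab_s_1569_1572 c) (Nat.ble 1569 c)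
noncomputable def finTab_s_1560_1572 (c : Nat) : Nat := @Bool.rec (fun _ => Nat) (finTab_s_1560_1566 c) (finTab_s_1566_1572 c) (Nat.ble 1566 c)
noncomputable def finTab_s_1549_1572 (c : Nat) : Nat := @Bool.rec (fun _ => Nat) (finTab_s_1549_1560 c) (finTab_s_1560_1572 c) (Nat.ble 1560 c)
noncomputable def finTab_s_1573_1575 (c : Nat) : Nat := @Bool.rec (fun _ => Nat) (finTab_1573) (finTab_1574) (Nat.ble 1574 c)
noncomputable def finTab_s_1572_1575 (c : Nat) : Nat := @Bool.rec (fun _ => Nat) (finTab_1572) (finTab_s_1573_1575 c) (Nat.ble 1573 c)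
noncomputable def finTab_s_1576_1578 (c : Nat) : Nat := @Bool.rec (fun _ => Nat) (finTab_1576) (finTab_1577) (Nat.ble 1577 c)
noncomputable def finTab_s_1575_1578 (c : Nat) : Nat := @Bool.rec (fun _ => Nat) (finTab_1575) (finTab_s_1576_1578 c) (Nat.ble 1576 c)
noncomputable def finTab_s_1572_1578 (c : Nat) : Nat := @Bool.rec (fun _ => Nat) (finTab_s_1572_1575 c) (finTab_s_1575_1578 c) (Nat.ble 1575 c)
noncomputable def finTab_s_1579_1581 (c : Nat) : Nat := @Bool.rec (fun _ => Nat) (finTab_1579) (finTab_1580) (Nat.ble 1580 c)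
noncomputable def finTab_s_1578_1581 (c : Nat) : Nat := @Bool.rec (fun _ => Nat) (finTab_1578) (finTab_s_1579_1581 c) (Nat.ble 1579 c)
noncomputable def finTab_s_1582_1584 (c : Nat) : Nat := @Bool.rec (fun _ => Nat) (finTab_1582) (finTab_1583) (Nat.ble 1583 c)
noncomputable def finTab_s_1581_1584 (c : Nat) : Nat := @Bool.rec (fun _ => Nat) (finTab_1581) (finTab_s_1582_1584 c) (Nat.ble 1582 c)
noncomputable def finTab_s_1578_1584 (c : Nat) : Nat := @Bool.rec (fun _ => Nat) (finTab_s_1578_1581 c) (finTab_s_1581_1584 c) (Nat.ble 1581 c)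
noncomputable def finTab_s_1572_1584 (c : Nat) : Nat := @Bool.rec (fun _ => Nat) (finTab_s_1572_1578 c) (finTab_s_1578_1584 c) (Nat.ble 1578 c)
noncomputable def finTab_s_1585_1587 (c : Nat) : Nat := @Bool.rec (fun _ => Nat) (finTab_1585) (finTab_1586) (Nat.ble 1586 c)
noncomputable def finTab_s_1584_1587 (c : Nat) : Nat := @Bool.rec (fun _ => Nat) (finTab_1584) (finTab_s_1585_1587 c) (Nat.ble 1585 c)
noncomputable def finTab_s_1588_1590 (c : Nat) : Nat := @Bool.rec (fun _ => Nat) (finTab_1588) (finTab_1589) (Nat.ble 1589 c)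
noncomputable def finTab_s_1587_1590 (c : Nat) : Nat := @Bool.rec (fun _ => Nat) (finTab_1587) (finTab_s_1588_1590 c) (Nat.ble 1588 c)
noncomputable def finTab_s_1584_1590 (c : Nat) : Nat := @Bool.rec (fun _ => Nat) (finTab_s_1584_1587 c) (finTab_s_1587_1590 c) (Nat.ble 1587 c)
noncomputable def finTab_s_1591_1593 (c : Nat) : Nat := @Bool.rec (fun _ => Nat) (finTab_1591) (finTab_1592) (Nat.ble 1592 c)
noncomputable def finTab_s_1590_1593 (c : Nat) : Nat := @Bool.rec (fun _ => Nat) (finTab_1590) (finTab_s_1591_1593 c) (Nat.ble 1591 c)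
noncomputable def finTab_s_1594_1596 (c : Nat) : Nat := @Bool.rec (fun _ => Nat) (finTab_1594) (finTab_1595) (Nat.ble 1595 c)
noncomputable def finTab_s_1593_1596 (c : Nat) : Nat := @Bool.rec (fun _ => Nat) (finTab_1593) (finTab_s_1594_1596 c) (Nat.ble 1594 c)
noncomputable def finTab_s_1590_1596 (c : Nat) : Nat := @Bool.rec (fun _ => Nat) (finTab_s_1590_1593 c) (finTab_s_1593_1596 c) (Nat.ble 1593 c)
noncomputable def finTab_s_1584_1596 (c : Nat) : Nat := @Bool.rec (fun _ => Nat) (finTab_s_1584_1590 c) (finTab_s_1590_1596 c) (Nat.ble 1590 c)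
noncomputable def finTab_s_1572_1596 (c : Nat) : Nat := @Bool.rec (fun _ => Nat) (finTab_s_1572_1584 c) (finTab_s_1584_1596 c) (Nat.ble 1584 c)
noncomputable def finTab_s_1549_1596 (c : Nat) : Nat := @Bool.rec (fun _ => Nat) (finTab_s_1549_1572 c) (finTab_s_1572_1596 c) (Nat.ble 1572 c)
noncomputable def finTab_s_1503_1596 (c : Nat) : Nat := @Bool.rec (fun _ => Nat) (finTab_s_1503_1549 c) (finTab_s_1549_1596 c) (Nat.ble 1549 c)
noncomputable def finTab_s_1596_1598 (c : Nat) : Nat := @Bool.rec (fun _ => Nat) (finTab_1596) (finTab_1597) (Nat.ble 1597 c)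
noncomputable def finTab_s_1599_1601 (c : Nat) : Nat := @Bool.rec (fun _ => Nat) (finTab_1599) (finTab_1600) (Nat.ble 1600 c)
noncomputable def finTab_s_1598_1601 (c : Nat) : Nat := @Bool.rec (fun _ => Nat) (finTab_1598) (finTab_s_1599_1601 c) (Nat.ble 1599 c)
noncomputable def finTab_s_1596_1601 (c : Nat) : Nat := @Bool.rec (fun _ => Nat) (finTab_s_1596_1598 c) (finTab_s_1598_1601 c) (Nat.ble 1598 c)
noncomputable def finTab_s_1602_1604 (c : Nat) : Nat := @Bool.rec (fun _ => Nat) (finTab_1602) (finTab_1603) (Nat.ble 1603 c)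
noncomputable def finTab_s_1601_1604 (c : Nat) : Nat := @Bool.rec (fun _ => Nat) (finTab_1601) (finTab_s_1602_1604 c) (Nat.ble 1602 c)
noncomputable def finTab_s_1605_1607 (c : Nat) : Nat := @Bool.rec (fun _ => Nat) (finTab_1605) (finTab_1606) (Nat.ble 1606 c)
noncomputable def finTab_s_1604_1607 (c : Nat) : Nat := @Bool.rec (fun _ => Nat) (finTab_1604) (finTab_s_1605_1607 c) (Nat.ble 1605 c)
noncomputable def finTab_s_1601_1607 (c : Nat) : Nat := @Bool.rec (fun _ => Nat) (finTab_s_1601_1604 c) (finTab_s_1604_1607 c) (Nat.ble 1604 c)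
noncomputable def finTab_s_1596_1607 (c : Nat) : Nat := @Bool.rec (fun _ => Nat) (finTab_s_1596_1601 c) (finTab_s_1601_1607 c) (Nat.ble 1601 c)
noncomputable def finTab_s_1608_1610 (c : Nat) : Nat := @Bool.rec (fun _ => Nat) (finTab_1608) (finTab_1609) (Nat.ble 1609 c)
noncomputable def finTab_s_1607_1610 (c : Nat) : Nat := @Bool.rec (fun _ => Nat) (finTab_1607) (finTab_s_1608_1610 c) (Nat.ble 1608 c)
noncomputable def finTab_s_1611_1613 (c : Nat) : Nat := @Bool.rec (fun _ => Nat) (finTab_1611) (finTab_1612) (Nat.ble 1612 c)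
noncomputable def finTab_s_1610_1613 (c : Nat) : Nat := @Bool.rec (fun _ => Nat) (finTab_1610) (finTab_s_1611_1613 c) (Nat.ble 1611 c)
noncomputable def finTab_s_1607_1613 (c : Nat) : Nat := @Bool.rec (fun _ => Nat) (finTab_s_1607_1610 c) (finTab_s_1610_1613 c) (Nat.ble 1610 c)
noncomputable def finTab_s_1614_1616 (c : Nat) : Nat := @Bool.rec (fun _ => Nat) (finTab_1614) (finTab_1615) (Nat.ble 1615 c)
noncomputable def finTab_s_1613_1616 (c : Nat) : Nat := @Bool.rec (fun _ => Nat) (finTab_1613) (finTab_s_1614_1616 c) (Nat.ble 1614 c)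
noncomputable def finTab_s_1617_1619 (c : Nat) : Nat := @Bool.rec (fun _ => Nat) (finTab_1617) (finTab_1618) (Nat.ble 1618 c)
noncomputable def finTab_s_1616_1619 (c : Nat) : Nat := @Bool.rec (fun _ => Nat) (finTab_1616) (finTab_s_1617_1619 c) (Nat.ble 1617 c)
noncomputable def finTab_s_1613_1619 (c : Nat) : Nat := @Bool.rec (fun _ => Nat) (finTab_s_1613_1616 c) (finTab_s_1616_1619 c) (Nat.ble 1616 c)
noncomputable def finTab_s_1607_1619 (c : Nat) : Nat := @Bool.rec (fun _ => Nat) (finTab_s_1607_1613 c) (finTab_s_1613_1619 c) (Nat.ble 1613 c)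
noncomputable def finTab_s_1596_1619 (c : Nat) : Nat := @Bool.rec (fun _ => Nat) (finTab_s_1596_1607 c) (finTab_s_1607_1619 c) (Nat.ble 1607 c)
noncomputable def finTab_s_1620_1622 (c : Nat) : Nat := @Bool.rec (fun _ => Nat) (finTab_1620) (finTab_1621) (Nat.ble 1621 c)
noncomputable def finTab_s_1619_1622 (c : Nat) : Nat := @Bool.rec (fun _ => Nat) (finTab_1619) (finTab_s_1620_1622 c) (Nat.ble 1620 c)
noncomputable def finTab_s_1623_1625 (c : Nat) : Nat := @Bool.rec (fun _ => Nat) (finTab_1623) (finTab_1624) (Nat.ble 1624 c)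
noncomputable def finTab_s_1622_1625 (c : Nat) : Nat := @Bool.rec (fun _ => Nat) (finTab_1622) (finTab_s_1623_1625 c) (Nat.ble 1623 c)
noncomputable def finTab_s_1619_1625 (c : Nat) : Nat := @Bool.rec (fun _ => Nat) (finTab_s_1619_1622 c) (finTab_s_1622_1625 c) (Nat.ble 1622 c)
noncomputable def finTab_s_1626_1628 (c : Nat) : Nat := @Bool.rec (fun _ => Nat) (finTab_1626) (finTab_1627) (Nat.ble 1627 c)
noncomputable def finTab_s_1625_1628 (c : Nat) : Nat := @Bool.rec (fun _ => Nat) (finTab_1625) (finTab_s_1626_1628 c) (Nat.ble 1626 c)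
noncomputable def finTab_s_1629_1631 (c : Nat) : Nat := @Bool.rec (fun _ => Nat) (finTab_1629) (finTab_1630) (Nat.ble 1630 c)
noncomputable def finTab_s_1628_1631 (c : Nat) : Nat := @Bool.rec (fun _ => Nat) (finTab_1628) (finTab_s_1629_1631 c) (Nat.ble 1629 c)
noncomputable def finTab_s_1625_1631 (c : Nat) : Nat := @Bool.rec (fun _ => Nat) (finTab_s_1625_1628 c) (finTab_s_1628_1631 c) (Nat.ble 1628 c)
noncomputable def finTab_s_1619_1631 (c : Nat) : Nat := @Bool.rec (fun _ => Nat) (finTab_s_1619_1625 c) (finTab_s_1625_1631 c) (Nat.ble 1625 c)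
noncomputable def finTab_s_1632_1634 (c : Nat) : Nat := @Bool.rec (fun _ => Nat) (finTab_1632) (finTab_1633) (Nat.ble 1633 c)
noncomputable def finTab_s_1631_1634 (c : Nat) : Nat := @Bool.rec (fun _ => Nat) (finTab_1631) (finTab_s_1632_1634 c) (Nat.ble 1632 c)
noncomputable def finTab_s_1635_1637 (c : Nat) : Nat := @Bool.rec (fun _ => Nat) (finTab_1635) (finTab_1636) (Nat.ble 1636 c)
noncomputable def finTab_s_1634_1637 (c : Nat) : Nat := @Bool.rec (fun _ => Nat) (finTab_1634) (finTab_s_1635_1637 c) (Nat.ble 1635 c)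
noncomputable def finTab_s_1631_1637 (c : Nat) : Nat := @Bool.rec (fun _ => Nat) (finTab_s_1631_1634 c) (finTab_s_1634_1637 c) (Nat.ble 1634 c)
noncomputable def finTab_s_1638_1640 (c : Nat) : Nat := @Bool.rec (fun _ => Nat) (finTab_1638) (finTab_1639) (Nat.ble 1639 c)
noncomputable def finTab_s_1637_1640 (c : Nat) : Nat := @Bool.rec (fun _ => Nat) (finTab_1637) (finTab_s_1638_1640 c) (Nat.ble 1638 c)
noncomputable def finTab_s_1641_1643 (c : Nat) : Nat := @Bool.rec (fun _ => Nat) (finTab_1641) (finTab_1642) (Nat.ble 1642 c)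
noncomputable def finTab_s_1640_1643 (c : Nat) : Nat := @Bool.rec (fun _ => Nat) (finTab_1640) (finTab_s_1641_1643 c) (Nat.ble 1641 c)
noncomputable def finTab_s_1637_1643 (c : Nat) : Nat := @Bool.rec (fun _ => Nat) (finTab_s_1637_1640 c) (finTab_s_1640_1643 c) (Nat.ble 1640 c)
noncomputable def finTab_s_1631_1643 (c : Nat) : Nat := @Bool.rec (fun _ => Nat) (finTab_s_1631_1637 c) (finTab_s_1637_1643 c) (Nat.ble 1637 c)
noncomputable def finTab_s_1619_1643 (c : Nat) : Nat := @Bool.rec (fun _ => Nat) (finTab_s_1619_1631 c) (finTab_s_1631_1643 c) (Nat.ble 1631 c)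
noncomputable def finTab_s_1596_1643 (c : Nat) : Nat := @Bool.rec (fun _ => Nat) (finTab_s_1596_1619 c) (finTab_s_1619_1643 c) (Nat.ble 1619 c)
noncomputable def finTab_s_1643_1645 (c : Nat) : Nat := @Bool.rec (fun _ => Nat) (finTab_1643) (finTab_1644) (Nat.ble 1644 c)
noncomputable def finTab_s_1646_1648 (c : Nat) : Nat := @Bool.rec (fun _ => Nat) (finTab_1646) (finTab_1647) (Nat.ble 1647 c)
noncomputable def finTab_s_1645_1648 (c : Nat) : Nat := @Bool.rec (fun _ => Nat) (finTab_1645) (finTab_s_1646_1648 c) (Nat.ble 1646 c)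
noncomputable def finTab_s_1643_1648 (c : Nat) : Nat := @Bool.rec (fun _ => Nat) (finTab_s_1643_1645 c) (finTab_s_1645_1648 c) (Nat.ble 1645 c)
noncomputable def finTab_s_1649_1651 (c : Nat) : Nat := @Bool.rec (fun _ => Nat) (finTab_1649) (finTab_1650) (Nat.ble 1650 c)
noncomputable def finTab_s_1648_1651 (c : Nat) : Nat := @Bool.rec (fun _ => Nat) (finTab_1648) (finTab_s_1649_1651 c) (Nat.ble 1649 c)
noncomputable def finTab_s_1652_1654 (c : Nat) : Nat := @Bool.rec (fun _ => Nat) (finTab_1652) (finTab_1653) (Nat.ble 1653 c)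
noncomputable def finTab_s_1651_1654 (c : Nat) : Nat := @Bool.rec (fun _ => Nat) (finTab_1651) (finTab_s_1652_1654 c) (Nat.ble 1652 c)
noncomputable def finTab_s_1648_1654 (c : Nat) : Nat := @Bool.rec (fun _ => Nat) (finTab_s_1648_1651 c) (finTab_s_1651_1654 c) (Nat.ble 1651 c)
noncomputable def finTab_s_1643_1654 (c : Nat) : Nat := @Bool.rec (fun _ => Nat) (finTab_s_1643_1648 c) (finTab_s_1648_1654 c) (Nat.ble 1648 c)
noncomputable def finTab_s_1655_1657 (c : Nat) : Nat := @Bool.rec (fun _ => Nat) (finTab_1655) (finTab_1656) (Nat.ble 1656 c)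
noncomputable def finTab_s_1654_1657 (c : Nat) : Nat := @Bool.rec (fun _ => Nat) (finTab_1654) (finTab_s_1655_1657 c) (Nat.ble 1655 c)
noncomputable def finTab_s_1658_1660 (c : Nat) : Nat := @Bool.rec (fun _ => Nat) (finTab_1658) (finTab_1659) (Nat.ble 1659 c)
noncomputable def finTab_s_1657_1660 (c : Nat) : Nat := @Bool.rec (fun _ => Nat) (finTab_1657) (finTab_s_1658_1660 c) (Nat.ble 1658 c)
noncomputable def finTab_s_1654_1660 (c : Nat) : Nat := @Bool.rec (fun _ => Nat) (finTab_s_1654_1657 c) (finTab_s_1657_1660 c) (Nat.ble 1657 c)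
noncomputable def finTab_s_1661_1663 (c : Nat) : Nat := @Bool.rec (fun _ => Nat) (finTab_1661) (finTab_1662) (Nat.ble 1662 c)
noncomputable def finTab_s_1660_1663 (c : Nat) : Nat := @Bool.rec (fun _ => Nat) (finTab_1660) (finTab_s_1661_1663 c) (Nat.ble 1661 c)
noncomputable def finTab_s_1664_1666 (c : Nat) : Nat := @Bool.rec (fun _ => Nat) (finTab_1664) (finTab_1665) (Nat.ble 1665 c)
noncomputable def finTab_s_1663_1666 (c : Nat) : Nat := @Bool.rec (fun _ => Nat) (finTab_1663) (finTab_s_1664_1666 c) (Nat.ble 1664 c)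
noncomputable def finTab_s_1660_1666 (c : Nat) : Nat := @Bool.rec (fun _ => Nat) (finTab_s_1660_1663 c) (finTab_s_1663_1666 c) (Nat.ble 1663 c)
noncomputable def finTab_s_1654_1666 (c : Nat) : Nat := @Bool.rec (fun _ => Nat) (finTab_s_1654_1660 c) (finTab_s_1660_1666 c) (Nat.ble 1660 c)
noncomputable def finTab_s_1643_1666 (c : Nat) : Nat := @Bool.rec (fun _ => Nat) (finTab_s_1643_1654 c) (finTab_s_1654_1666 c) (Nat.ble 1654 c)
noncomputable def finTab_s_1667_1669 (c : Nat) : Nat := @Bool.rec (fun _ => Nat) (finTab_1667) (finTab_1668) (Nat.ble 1668 c)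
noncomputable def finTab_s_1666_1669 (c : Nat) : Nat := @Bool.rec (fun _ => Nat) (finTab_1666) (finTab_s_1667_1669 c) (Nat.ble 1667 c)
noncomputable def finTab_s_1670_1672 (c : Nat) : Nat := @Bool.rec (fun _ => Nat) (finTab_1670) (finTab_1671) (Nat.ble 1671 c)
noncomputable def finTab_s_1669_1672 (c : Nat) : Nat := @Bool.rec (fun _ => Nat) (finTab_1669) (finTab_s_1670_1672 c) (Nat.ble 1670 c)
noncomputable def finTab_s_1666_1672 (c : Nat) : Nat := @Bool.rec (fun _ => Nat) (finTab_s_1666_1669 c) (finTab_s_1669_1672 c) (Nat.ble 1669 c)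
noncomputable def finTab_s_1673_1675 (c : Nat) : Nat := @Bool.rec (fun _ => Nat) (finTab_1673) (finTab_1674) (Nat.ble 1674 c)
noncomputable def finTab_s_1672_1675 (c : Nat) : Nat := @Bool.rec (fun _ => Nat) (finTab_1672) (finTab_s_1673_1675 c) (Nat.ble 1673 c)
noncomputable def finTab_s_1676_1678 (c : Nat) : Nat := @Bool.rec (fun _ => Nat) (finTab_1676) (finTab_1677) (Nat.ble 1677 c)
noncomputable def finTab_s_1675_1678 (c : Nat) : Nat := @Bool.rec (fun _ => Nat) (finTab_1675) (finTab_s_1676_1678 c) (Nat.ble 1676 c)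
noncomputable def finTab_s_1672_1678 (c : Nat) : Nat := @Bool.rec (fun _ => Nat) (finTab_s_1672_1675 c) (finTab_s_1675_1678 c) (Nat.ble 1675 c)
noncomputable def finTab_s_1666_1678 (c : Nat) : Nat := @Bool.rec (fun _ => Nat) (finTab_s_1666_1672 c) (finTab_s_1672_1678 c) (Nat.ble 1672 c)
noncomputable def finTab_s_1679_1681 (c : Nat) : Nat := @Bool.rec (fun _ => Nat) (finTab_1679) (finTab_1680) (Nat.ble 1680 c)
noncomputable def finTab_s_1678_1681 (c : Nat) : Nat := @Bool.rec (fun _ => Nat) (finTab_1678) (finTab_s_1679_1681 c) (Nat.ble 1679 c)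
noncomputable def finTab_s_1682_1684 (c : Nat) : Nat := @Bool.rec (fun _ => Nat) (finTab_1682) (finTab_1683) (Nat.ble 1683 c)
noncomputable def finTab_s_1681_1684 (c : Nat) : Nat := @Bool.rec (fun _ => Nat) (finTab_1681) (finTab_s_1682_1684 c) (Nat.ble 1682 c)
noncomputable def finTab_s_1678_1684 (c : Nat) : Nat := @Bool.rec (fun _ => Nat) (finTab_s_1678_1681 c) (finTab_s_1681_1684 c) (Nat.ble 1681 c)
noncomputable def finTab_s_1685_1687 (c : Nat) : Nat := @Bool.rec (fun _ => Nat) (finTab_1685) (finTab_1686) (Nat.ble 1686 c)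
noncomputable def finTab_s_1684_1687 (c : Nat) : Nat := @Bool.rec (fun _ => Nat) (finTab_1684) (finTab_s_1685_1687 c) (Nat.ble 1685 c)
noncomputable def finTab_s_1688_1690 (c : Nat) : Nat := @Bool.rec (fun _ => Nat) (finTab_1688) (finTab_1689) (Nat.ble 1689 c)
noncomputable def finTab_s_1687_1690 (c : Nat) : Nat := @Bool.rec (fun _ => Nat) (finTab_1687) (finTab_s_1688_1690 c) (Nat.ble 1688 c)
noncomputable def finTab_s_1684_1690 (c : Nat) : Nat := @Bool.rec (fun _ => Nat) (finTab_s_1684_1687 c) (finTab_s_1687_1690 c) (Nat.ble 1687 c)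
noncomputable def finTab_s_1678_1690 (c : Nat) : Nat := @Bool.rec (fun _ => Nat) (finTab_s_1678_1684 c) (finTab_s_1684_1690 c) (Nat.ble 1684 c)
noncomputable def finTab_s_1666_1690 (c : Nat) : Nat := @Bool.rec (fun _ => Nat) (finTab_s_1666_1678 c) (finTab_s_1678_1690 c) (Nat.ble 1678 c)
noncomputable def finTab_s_1643_1690 (c : Nat) : Nat := @Bool.rec (fun _ => Nat) (finTab_s_1643_1666 c) (finTab_s_1666_1690 c) (Nat.ble 1666 c)
noncomputable def finTab_s_1596_1690 (c : Nat) : Nat := @Bool.rec (fun _ => Nat) (finTab_s_1596_1643 c) (finTab_s_1643_1690 c) (Nat.ble 1643 c)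
noncomputable def finTab_s_1503_1690 (c : Nat) : Nat := @Bool.rec (fun _ => Nat) (finTab_s_1503_1596 c) (finTab_s_1596_1690 c) (Nat.ble 1596 c)
noncomputable def finTab_s_1690_1692 (c : Nat) : Nat := @Bool.rec (fun _ => Nat) (finTab_1690) (finTab_1691) (Nat.ble 1691 c)
noncomputable def finTab_s_1693_1695 (c : Nat) : Nat := @Bool.rec (fun _ => Nat) (finTab_1693) (finTab_1694) (Nat.ble 1694 c)
noncomputable def finTab_s_1692_1695 (c : Nat) : Nat := @Bool.rec (fun _ => Nat) (finTab_1692) (finTab_s_1693_1695 c) (Nat.ble 1693 c)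
noncomputable def finTab_s_1690_1695 (c : Nat) : Nat := @Bool.rec (fun _ => Nat) (finTab_s_1690_1692 c) (finTab_s_1692_1695 c) (Nat.ble 1692 c)
noncomputable def finTab_s_1696_1698 (c : Nat) : Nat := @Bool.rec (fun _ => Nat) (finTab_1696) (finTab_1697) (Nat.ble 1697 c)
noncomputable def finTab_s_1695_1698 (c : Nat) : Nat := @Bool.rec (fun _ => Nat) (finTab_1695) (finTab_s_1696_1698 c) (Nat.ble 1696 c)
noncomputable def finTab_s_1699_1701 (c : Nat) : Nat := @Bool.rec (fun _ => Nat) (finTab_1699) (finTab_1700) (Nat.ble 1700 c)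
noncomputable def finTab_s_1698_1701 (c : Nat) : Nat := @Bool.rec (fun _ => Nat) (finTab_1698) (finTab_s_1699_1701 c) (Nat.ble 1699 c)
noncomputable def finTab_s_1695_1701 (c : Nat) : Nat := @Bool.rec (fun _ => Nat) (finTab_s_1695_1698 c) (finTab_s_1698_1701 c) (Nat.ble 1698 c)
noncomputable def finTab_s_1690_1701 (c : Nat) : Nat := @Bool.rec (fun _ => Nat) (finTab_s_1690_1695 c) (finTab_s_1695_1701 c) (Nat.ble 1695 c)
noncomputable def finTab_s_1702_1704 (c : Nat) : Nat := @Bool.rec (fun _ => Nat) (finTab_1702) (finTab_1703) (Nat.ble 1703 c)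
noncomputable def finTab_s_1701_1704 (c : Nat) : Nat := @Bool.rec (fun _ => Nat) (finTab_1701) (finTab_s_1702_1704 c) (Nat.ble 1702 c)
noncomputable def finTab_s_1705_1707 (c : Nat) : Nat := @Bool.rec (fun _ => Nat) (finTab_1705) (finTab_1706) (Nat.ble 1706 c)
noncomputable def finTab_s_1704_1707 (c : Nat) : Nat := @Bool.rec (fun _ => Nat) (finTab_1704) (finTab_s_1705_1707 c) (Nat.ble 1705 c)
noncomputable def finTab_s_1701_1707 (c : Nat) : Nat := @Bool.rec (fun _ => Nat) (finTab_s_1701_1704 c) (finTab_s_1704_1707 c) (Nat.ble 1704 c)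
noncomputable def finTab_s_1708_1710 (c : Nat) : Nat := @Bool.rec (fun _ => Nat) (finTab_1708) (finTab_1709) (Nat.ble 1709 c)
noncomputable def finTab_s_1707_1710 (c : Nat) : Nat := @Bool.rec (fun _ => Nat) (finTab_1707) (finTab_s_1708_1710 c) (Nat.ble 1708 c)
noncomputable def finTab_s_1711_1713 (c : Nat) : Nat := @Bool.rec (fun _ => Nat) (finTab_1711) (finTab_1712) (Nat.ble 1712 c)
noncomputable def finTab_s_1710_1713 (c : Nat) : Nat := @Bool.rec (fun _ => Nat) (finTab_1710) (finTab_s_1711_1713 c) (Nat.ble 1711 c)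
noncomputable def finTab_s_1707_1713 (c : Nat) : Nat := @Bool.rec (fun _ => Nat) (finTab_s_1707_1710 c) (finTab_s_1710_1713 c) (Nat.ble 1710 c)
noncomputable def finTab_s_1701_1713 (c : Nat) : Nat := @Bool.rec (fun _ => Nat) (finTab_s_1701_1707 c) (finTab_s_1707_1713 c) (Nat.ble 1707 c)
noncomputable def finTab_s_1690_1713 (c : Nat) : Nat := @Bool.rec (fun _ => Nat) (finTab_s_1690_1701 c) (finTab_s_1701_1713 c) (Nat.ble 1701 c)
noncomputable def finTab_s_1714_1716 (c : Nat) : Nat := @Bool.rec (fun _ => Nat) (finTab_1714) (finTab_1715) (Nat.ble 1715 c)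
noncomputable def finTab_s_1713_1716 (c : Nat) : Nat := @Bool.rec (fun _ => Nat) (finTab_1713) (finTab_s_1714_1716 c) (Nat.ble 1714 c)
noncomputable def finTab_s_1717_1719 (c : Nat) : Nat := @Bool.rec (fun _ => Nat) (finTab_1717) (finTab_1718) (Nat.ble 1718 c)
noncomputable def finTab_s_1716_1719 (c : Nat) : Nat := @Bool.rec (fun _ => Nat) (finTab_1716) (finTab_s_1717_1719 c) (Nat.ble 1717 c)
noncomputable def finTab_s_1713_1719 (c : Nat) : Nat := @Bool.rec (fun _ => Nat) (finTab_s_1713_1716 c) (finTab_s_1716_1719 c) (Nat.ble 1716 c)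
noncomputable def finTab_s_1720_1722 (c : Nat) : Nat := @Bool.rec (fun _ => Nat) (finTab_1720) (finTab_1721) (Nat.ble 1721 c)
noncomputable def finTab_s_1719_1722 (c : Nat) : Nat := @Bool.rec (fun _ => Nat) (finTab_1719) (finTab_s_1720_1722 c) (Nat.ble 1720 c)
noncomputable def finTab_s_1723_1725 (c : Nat) : Nat := @Bool.rec (fun _ => Nat) (finTab_1723) (finTab_1724) (Nat.ble 1724 c)
noncomputable def finTab_s_1722_1725 (c : Nat) : Nat := @Bool.rec (fun _ => Nat) (finTab_1722) (finTab_s_1723_1725 c) (Nat.ble 1723 c)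
noncomputable def finTab_s_1719_1725 (c : Nat) : Nat := @Bool.rec (fun _ => Nat) (finTab_s_1719_1722 c) (finTab_s_1722_1725 c) (Nat.ble 1722 c)
noncomputable def finTab_s_1713_1725 (c : Nat) : Nat := @Bool.rec (fun _ => Nat) (finTab_s_1713_1719 c) (finTab_s_1719_1725 c) (Nat.ble 1719 c)
noncomputable def finTab_s_1726_1728 (c : Nat) : Nat := @Bool.rec (fun _ => Nat) (finTab_1726) (finTab_1727) (Nat.ble 1727 c)
noncomputable def finTab_s_1725_1728 (c : Nat) : Nat := @Bool.rec (fun _ => Nat) (finTab_1725) (finTab_s_1726_1728 c) (Nat.ble 1726 c)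
noncomputable def finTab_s_1729_1731 (c : Nat) : Nat := @Bool.rec (fun _ => Nat) (finTab_1729) (finTab_1730) (Nat.ble 1730 c)
noncomputable def finTab_s_1728_1731 (c : Nat) : Nat := @Bool.rec (fun _ => Nat) (finTab_1728) (finTab_s_1729_1731 c) (Nat.ble 1729 c)
noncomputable def finTab_s_1725_1731 (c : Nat) : Nat := @Bool.rec (fun _ => Nat) (finTab_s_1725_1728 c) (finTab_s_1728_1731 c) (Nat.ble 1728 c)
noncomputable def finTab_s_1732_1734 (c : Nat) : Nat := @Bool.rec (fun _ => Nat) (finTab_1732) (finTab_1733) (Nat.ble 1733 c)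
noncomputable def finTab_s_1731_1734 (c : Nat) : Nat := @Bool.rec (fun _ => Nat) (finTab_1731) (finTab_s_1732_1734 c) (Nat.ble 1732 c)
noncomputable def finTab_s_1735_1737 (c : Nat) : Nat := @Bool.rec (fun _ => Nat) (finTab_1735) (finTab_1736) (Nat.ble 1736 c)
noncomputable def finTab_s_1734_1737 (c : Nat) : Nat := @Bool.rec (fun _ => Nat) (finTab_1734) (finTab_s_1735_1737 c) (Nat.ble 1735 c)
noncomputable def finTab_s_1731_1737 (c : Nat) : Nat := @Bool.rec (fun _ => Nat) (finTab_s_1731_1734 c) (finTab_s_1734_1737 c) (Nat.ble 1734 c)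
noncomputable def finTab_s_1725_1737 (c : Nat) : Nat := @Bool.rec (fun _ => Nat) (finTab_s_1725_1731 c) (finTab_s_1731_1737 c) (Nat.ble 1731 c)
noncomputable def finTab_s_1713_1737 (c : Nat) : Nat := @Bool.rec (fun _ => Nat) (finTab_s_1713_1725 c) (finTab_s_1725_1737 c) (Nat.ble 1725 c)
noncomputable def finTab_s_1690_1737 (c : Nat) : Nat := @Bool.rec (fun _ => Nat) (finTab_s_1690_1713 c) (finTab_s_1713_1737 c) (Nat.ble 1713 c)
noncomputable def finTab_s_1737_1739 (c : Nat) : Nat := @Bool.rec (fun _ => Nat) (finTab_1737) (finTab_1738) (Nat.ble 1738 c)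
noncomputable def finTab_s_1740_1742 (c : Nat) : Nat := @Bool.rec (fun _ => Nat) (finTab_1740) (finTab_1741) (Nat.ble 1741 c)
noncomputable def finTab_s_1739_1742 (c : Nat) : Nat := @Bool.rec (fun _ => Nat) (finTab_1739) (finTab_s_1740_1742 c) (Nat.ble 1740 c)
noncomputable def finTab_s_1737_1742 (c : Nat) : Nat := @Bool.rec (fun _ => Nat) (finTab_s_1737_1739 c) (finTab_s_1739_1742 c) (Nat.ble 1739 c)
noncomputable def finTab_s_1743_1745 (c : Nat) : Nat := @Bool.rec (fun _ => Nat) (finTab_1743) (finTab_1744) (Nat.ble 1744 c)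
noncomputable def finTab_s_1742_1745 (c : Nat) : Nat := @Bool.rec (fun _ => Nat) (finTab_1742) (finTab_s_1743_1745 c) (Nat.ble 1743 c)
noncomputable def finTab_s_1746_1748 (c : Nat) : Nat := @Bool.rec (fun _ => Nat) (finTab_1746) (finTab_1747) (Nat.ble 1747 c)
noncomputable def finTab_s_1745_1748 (c : Nat) : Nat := @Bool.rec (fun _ => Nat) (finTab_1745) (finTab_s_1746_1748 c) (Nat.ble 1746 c)
noncomputable def finTab_s_1742_1748 (c : Nat) : Nat := @Bool.rec (fun _ => Nat) (finTab_s_1742_1745 c) (finTab_s_1745_1748 c) (Nat.ble 1745 c)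
noncomputable def finTab_s_1737_1748 (c : Nat) : Nat := @Bool.rec (fun _ => Nat) (finTab_s_1737_1742 c) (finTab_s_1742_1748 c) (Nat.ble 1742 c)
noncomputable def finTab_s_1749_1751 (c : Nat) : Nat := @Bool.rec (fun _ => Nat) (finTab_1749) (finTab_1750) (Nat.ble 1750 c)
noncomputable def finTab_s_1748_1751 (c : Nat) : Nat := @Bool.rec (fun _ => Nat) (finTab_1748) (finTab_s_1749_1751 c) (Nat.ble 1749 c)
noncomputable def finTab_s_1752_1754 (c : Nat) : Nat := @Bool.rec (fun _ => Nat) (finTab_1752) (finTab_1753) (Nat.ble 1753 c)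
noncomputable def finTab_s_1751_1754 (c : Nat) : Nat := @Bool.rec (fun _ => Nat) (finTab_1751) (finTab_s_1752_1754 c) (Nat.ble 1752 c)
noncomputable def finTab_s_1748_1754 (c : Nat) : Nat := @Bool.rec (fun _ => Nat) (finTab_s_1748_1751 c) (finTab_s_1751_1754 c) (Nat.ble 1751 c)
noncomputable def finTab_s_1755_1757 (c : Nat) : Nat := @Bool.rec (fun _ => Nat) (finTab_1755) (finTab_1756) (Nat.ble 1756 c)
noncomputable def finTab_s_1754_1757 (c : Nat) : Nat := @Bool.rec (fun _ => Nat) (finTab_1754) (finTab_s_1755_1757 c) (Nat.ble 1755 c)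
noncomputable def finTab_s_1758_1760 (c : Nat) : Nat := @Bool.rec (fun _ => Nat) (finTab_1758) (finTab_1759) (Nat.ble 1759 c)
noncomputable def finTab_s_1757_1760 (c : Nat) : Nat := @Bool.rec (fun _ => Nat) (finTab_1757) (finTab_s_1758_1760 c) (Nat.ble 1758 c)
noncomputable def finTab_s_1754_1760 (c : Nat) : Nat := @Bool.rec (fun _ => Nat) (finTab_s_1754_1757 c) (finTab_s_1757_1760 c) (Nat.ble 1757 c)
noncomputable def finTab_s_1748_1760 (c : Nat) : Nat := @Bool.rec (fun _ => Nat) (finTab_s_1748_1754 c) (finTab_s_1754_1760 c) (Nat.ble 1754 c)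
noncomputable def finTab_s_1737_1760 (c : Nat) : Nat := @Bool.rec (fun _ => Nat) (finTab_s_1737_1748 c) (finTab_s_1748_1760 c) (Nat.ble 1748 c)
noncomputable def finTab_s_1761_1763 (c : Nat) : Nat := @Bool.rec (fun _ => Nat) (finTab_1761) (finTab_1762) (Nat.ble 1762 c)
noncomputable def finTab_s_1760_1763 (c : Nat) : Nat := @Bool.rec (fun _ => Nat) (finTab_1760) (finTab_s_1761_1763 c) (Nat.ble 1761 c)
noncomputable def finTab_s_1764_1766 (c : Nat) : Nat := @Bool.rec (fun _ => Nat) (finTab_1764) (finTab_1765) (Nat.ble 1765 c)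
noncomputable def finTab_s_1763_1766 (c : Nat) : Nat := @Bool.rec (fun _ => Nat) (finTab_1763) (finTab_s_1764_1766 c) (Nat.ble 1764 c)
noncomputable def finTab_s_1760_1766 (c : Nat) : Nat := @Bool.rec (fun _ => Nat) (finTab_s_1760_1763 c) (finTab_s_1763_1766 c) (Nat.ble 1763 c)
noncomputable def finTab_s_1767_1769 (c : Nat) : Nat := @Bool.rec (fun _ => Nat) (finTab_1767) (finTab_1768) (Nat.ble 1768 c)
noncomputable def finTab_s_1766_1769 (c : Nat) : Nat := @Bool.rec (fun _ => Nat) (finTab_1766) (finTab_s_1767_1769 c) (Nat.ble 1767 c)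
noncomputable def finTab_s_1770_1772 (c : Nat) : Nat := @Bool.rec (fun _ => Nat) (finTab_1770) (finTab_1771) (Nat.ble 1771 c)
noncomputable def finTab_s_1769_1772 (c : Nat) : Nat := @Bool.rec (fun _ => Nat) (finTab_1769) (finTab_s_1770_1772 c) (Nat.ble 1770 c)
noncomputable def finTab_s_1766_1772 (c : Nat) : Nat := @Bool.rec (fun _ => Nat) (finTab_s_1766_1769 c) (finTab_s_1769_1772 c) (Nat.ble 1769 c)
noncomputable def finTab_s_1760_1772 (c : Nat) : Nat := @Bool.rec (fun _ => Nat) (finTab_s_1760_1766 c) (finTab_s_1766_1772 c) (Nat.ble 1766 c)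
noncomputable def finTab_s_1773_1775 (c : Nat) : Nat := @Bool.rec (fun _ => Nat) (finTab_1773) (finTab_1774) (Nat.ble 1774 c)
noncomputable def finTab_s_1772_1775 (c : Nat) : Nat := @Bool.rec (fun _ => Nat) (finTab_1772) (finTab_s_1773_1775 c) (Nat.ble 1773 c)
noncomputable def finTab_s_1776_1778 (c : Nat) : Nat := @Bool.rec (fun _ => Nat) (finTab_1776) (finTab_1777) (Nat.ble 1777 c)
noncomputable def finTab_s_1775_1778 (c : Nat) : Nat := @Bool.rec (fun _ => Nat) (finTab_1775) (finTab_s_1776_1778 c) (Nat.ble 1776 c)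
noncomputable def finTab_s_1772_1778 (c : Nat) : Nat := @Bool.rec (fun _ => Nat) (finTab_s_1772_1775 c) (finTab_s_1775_1778 c) (Nat.ble 1775 c)
noncomputable def finTab_s_1779_1781 (c : Nat) : Nat := @Bool.rec (fun _ => Nat) (finTab_1779) (finTab_1780) (Nat.ble 1780 c)
noncomputable def finTab_s_1778_1781 (c : Nat) : Nat := @Bool.rec (fun _ => Nat) (finTab_1778) (finTab_s_1779_1781 c) (Nat.ble 1779 c)
noncomputable def finTab_s_1782_1784 (c : Nat) : Nat := @Bool.rec (fun _ => Nat) (finTab_1782) (finTab_1783) (Nat.ble 1783 c)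
noncomputable def finTab_s_1781_1784 (c : Nat) : Nat := @Bool.rec (fun _ => Nat) (finTab_1781) (finTab_s_1782_1784 c) (Nat.ble 1782 c)
noncomputable def finTab_s_1778_1784 (c : Nat) : Nat := @Bool.rec (fun _ => Nat) (finTab_s_1778_1781 c) (finTab_s_1781_1784 c) (Nat.ble 1781 c)
noncomputable def finTab_s_1772_1784 (c : Nat) : Nat := @Bool.rec (fun _ => Nat) (finTab_s_1772_1778 c) (finTab_s_1778_1784 c) (Nat.ble 1778 c)
noncomputable def finTab_s_1760_1784 (c : Nat) : Nat := @Bool.rec (fun _ => Nat) (finTab_s_1760_1772 c) (finTab_s_1772_1784 c) (Nat.ble 1772 c)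
noncomputable def finTab_s_1737_1784 (c : Nat) : Nat := @Bool.rec (fun _ => Nat) (finTab_s_1737_1760 c) (finTab_s_1760_1784 c) (Nat.ble 1760 c)
noncomputable def finTab_s_1690_1784 (c : Nat) : Nat := @Bool.rec (fun _ => Nat) (finTab_s_1690_1737 c) (finTab_s_1737_1784 c) (Nat.ble 1737 c)
noncomputable def finTab_s_1784_1786 (c : Nat) : Nat := @Bool.rec (fun _ => Nat) (finTab_1784) (finTab_1785) (Nat.ble 1785 c)
noncomputable def finTab_s_1787_1789 (c : Nat) : Nat := @Bool.rec (fun _ => Nat) (finTab_1787) (finTab_1788) (Nat.ble 1788 c)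
noncomputable def finTab_s_1786_1789 (c : Nat) : Nat := @Bool.rec (fun _ => Nat) (finTab_1786) (finTab_s_1787_1789 c) (Nat.ble 1787 c)
noncomputable def finTab_s_1784_1789 (c : Nat) : Nat := @Bool.rec (fun _ => Nat) (finTab_s_1784_1786 c) (finTab_s_1786_1789 c) (Nat.ble 1786 c)
noncomputable def finTab_s_1790_1792 (c : Nat) : Nat := @Bool.rec (fun _ => Nat) (finTab_1790) (finTab_1791) (Nat.ble 1791 c)
noncomputable def finTab_s_1789_1792 (c : Nat) : Nat := @Bool.rec (fun _ => Nat) (finTab_1789) (finTab_s_1790_1792 c) (Nat.ble 1790 c)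
noncomputable def finTab_s_1793_1795 (c : Nat) : Nat := @Bool.rec (fun _ => Nat) (finTab_1793) (finTab_1794) (Nat.ble 1794 c)
noncomputable def finTab_s_1792_1795 (c : Nat) : Nat := @Bool.rec (fun _ => Nat) (finTab_1792) (finTab_s_1793_1795 c) (Nat.ble 1793 c)
noncomputable def finTab_s_1789_1795 (c : Nat) : Nat := @Bool.rec (fun _ => Nat) (finTab_s_1789_1792 c) (finTab_s_1792_1795 c) (Nat.ble 1792 c)
noncomputable def finTab_s_1784_1795 (c : Nat) : Nat := @Bool.rec (fun _ => Nat) (finTab_s_1784_1789 c) (finTab_s_1789_1795 c) (Nat.ble 1789 c)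
noncomputable def finTab_s_1796_1798 (c : Nat) : Nat := @Bool.rec (fun _ => Nat) (finTab_1796) (finTab_1797) (Nat.ble 1797 c)
noncomputable def finTab_s_1795_1798 (c : Nat) : Nat := @Bool.rec (fun _ => Nat) (finTab_1795) (finTab_s_1796_1798 c) (Nat.ble 1796 c)
noncomputable def finTab_s_1799_1801 (c : Nat) : Nat := @Bool.rec (fun _ => Nat) (finTab_1799) (finTab_1800) (Nat.ble 1800 c)
noncomputable def finTab_s_1798_1801 (c : Nat) : Nat := @Bool.rec (fun _ => Nat) (finTab_1798) (finTab_s_1799_1801 c) (Nat.ble 1799 c)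
noncomputable def finTab_s_1795_1801 (c : Nat) : Nat := @Bool.rec (fun _ => Nat) (finTab_s_1795_1798 c) (finTab_s_1798_1801 c) (Nat.ble 1798 c)
noncomputable def finTab_s_1802_1804 (c : Nat) : Nat := @Bool.rec (fun _ => Nat) (finTab_1802) (finTab_1803) (Nat.ble 1803 c)
noncomputable def finTab_s_1801_1804 (c : Nat) : Nat := @Bool.rec (fun _ => Nat) (finTab_1801) (finTab_s_1802_1804 c) (Nat.ble 1802 c)
noncomputable def finTab_s_1805_1807 (c : Nat) : Nat := @Bool.rec (fun _ => Nat) (finTab_1805) (finTab_1806) (Nat.ble 1806 c)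
noncomputable def finTab_s_1804_1807 (c : Nat) : Nat := @Bool.rec (fun _ => Nat) (finTab_1804) (finTab_s_1805_1807 c) (Nat.ble 1805 c)
noncomputable def finTab_s_1801_1807 (c : Nat) : Nat := @Bool.rec (fun _ => Nat) (finTab_s_1801_1804 c) (finTab_s_1804_1807 c) (Nat.ble 1804 c)
noncomputable def finTab_s_1795_1807 (c : Nat) : Nat := @Bool.rec (fun _ => Nat) (finTab_s_1795_1801 c) (finTab_s_1801_1807 c) (Nat.ble 1801 c)
noncomputable def finTab_s_1784_1807 (c : Nat) : Nat := @Bool.rec (fun _ => Nat) (finTab_s_1784_1795 c) (finTab_s_1795_1807 c) (Nat.ble 1795 c)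
noncomputable def finTab_s_1808_1810 (c : Nat) : Nat := @Bool.rec (fun _ => Nat) (finTab_1808) (finTab_1809) (Nat.ble 1809 c)
noncomputable def finTab_s_1807_1810 (c : Nat) : Nat := @Bool.rec (fun _ => Nat) (finTab_1807) (finTab_s_1808_1810 c) (Nat.ble 1808 c)
noncomputable def finTab_s_1811_1813 (c : Nat) : Nat := @Bool.rec (fun _ => Nat) (finTab_1811) (finTab_1812) (Nat.ble 1812 c)
noncomputable def finTab_s_1810_1813 (c : Nat) : Nat := @Bool.rec (fun _ => Nat) (finTab_1810) (finTab_s_1811_1813 c) (Nat.ble 1811 c)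
noncomputable def finTab_s_1807_1813 (c : Nat) : Nat := @Bool.rec (fun _ => Nat) (finTab_s_1807_1810 c) (finTab_s_1810_1813 c) (Nat.ble 1810 c)
noncomputable def finTab_s_1814_1816 (c : Nat) : Nat := @Bool.rec (fun _ => Nat) (finTab_1814) (finTab_1815) (Nat.ble 1815 c)
noncomputable def finTab_s_1813_1816 (c : Nat) : Nat := @Bool.rec (fun _ => Nat) (finTab_1813) (finTab_s_1814_1816 c) (Nat.ble 1814 c)
noncomputable def finTab_s_1817_1819 (c : Nat) : Nat := @Bool.rec (fun _ => Nat) (finTab_1817) (finTab_1818) (Nat.ble 1818 c)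
noncomputable def finTab_s_1816_1819 (c : Nat) : Nat := @Bool.rec (fun _ => Nat) (finTab_1816) (finTab_s_1817_1819 c) (Nat.ble 1817 c)
noncomputable def finTab_s_1813_1819 (c : Nat) : Nat := @Bool.rec (fun _ => Nat) (finTab_s_1813_1816 c) (finTab_s_1816_1819 c) (Nat.ble 1816 c)
noncomputable def finTab_s_1807_1819 (c : Nat) : Nat := @Bool.rec (fun _ => Nat) (finTab_s_1807_1813 c) (finTab_s_1813_1819 c) (Nat.ble 1813 c)
noncomputable def finTab_s_1820_1822 (c : Nat) : Nat := @Bool.rec (fun _ => Nat) (finTab_1820) (finTab_1821) (Nat.ble 1821 c)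
noncomputable def finTab_s_1819_1822 (c : Nat) : Nat := @Bool.rec (fun _ => Nat) (finTab_1819) (finTab_s_1820_1822 c) (Nat.ble 1820 c)
noncomputable def finTab_s_1823_1825 (c : Nat) : Nat := @Bool.rec (fun _ => Nat) (finTab_1823) (finTab_1824) (Nat.ble 1824 c)
noncomputable def finTab_s_1822_1825 (c : Nat) : Nat := @Bool.rec (fun _ => Nat) (finTab_1822) (finTab_s_1823_1825 c) (Nat.ble 1823 c)
noncomputable def finTab_s_1819_1825 (c : Nat) : Nat := @Bool.rec (fun _ => Nat) (finTab_s_1819_1822 c) (finTab_s_1822_1825 c) (Nat.ble 1822 c)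
noncomputable def finTab_s_1826_1828 (c : Nat) : Nat := @Bool.rec (fun _ => Nat) (finTab_1826) (finTab_1827) (Nat.ble 1827 c)
noncomputable def finTab_s_1825_1828 (c : Nat) : Nat := @Bool.rec (fun _ => Nat) (finTab_1825) (finTab_s_1826_1828 c) (Nat.ble 1826 c)
noncomputable def finTab_s_1829_1831 (c : Nat) : Nat := @Bool.rec (fun _ => Nat) (finTab_1829) (finTab_1830) (Nat.ble 1830 c)
noncomputable def finTab_s_1828_1831 (c : Nat) : Nat := @Bool.rec (fun _ => Nat) (finTab_1828) (finTab_s_1829_1831 c) (Nat.ble 1829 c)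
noncomputable def finTab_s_1825_1831 (c : Nat) : Nat := @Bool.rec (fun _ => Nat) (finTab_s_1825_1828 c) (finTab_s_1828_1831 c) (Nat.ble 1828 c)
noncomputable def finTab_s_1819_1831 (c : Nat) : Nat := @Bool.rec (fun _ => Nat) (finTab_s_1819_1825 c) (finTab_s_1825_1831 c) (Nat.ble 1825 c)
noncomputable def finTab_s_1807_1831 (c : Nat) : Nat := @Bool.rec (fun _ => Nat) (finTab_s_1807_1819 c) (finTab_s_1819_1831 c) (Nat.ble 1819 c)
noncomputable def finTab_s_1784_1831 (c : Nat) : Nat := @Bool.rec (fun _ => Nat) (finTab_s_1784_1807 c) (finTab_s_1807_1831 c) (Nat.ble 1807 c)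
noncomputable def finTab_s_1831_1833 (c : Nat) : Nat := @Bool.rec (fun _ => Nat) (finTab_1831) (finTab_1832) (Nat.ble 1832 c)
noncomputable def finTab_s_1834_1836 (c : Nat) : Nat := @Bool.rec (fun _ => Nat) (finTab_1834) (finTab_1835) (Nat.ble 1835 c)
noncomputable def finTab_s_1833_1836 (c : Nat) : Nat := @Bool.rec (fun _ => Nat) (finTab_1833) (finTab_s_1834_1836 c) (Nat.ble 1834 c)
noncomputable def finTab_s_1831_1836 (c : Nat) : Nat := @Bool.rec (fun _ => Nat) (finTab_s_1831_1833 c) (finTab_s_1833_1836 c) (Nat.ble 1833 c)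
noncomputable def finTab_s_1837_1839 (c : Nat) : Nat := @Bool.rec (fun _ => Nat) (finTab_1837) (finTab_1838) (Nat.ble 1838 c)
noncomputable def finTab_s_1836_1839 (c : Nat) : Nat := @Bool.rec (fun _ => Nat) (finTab_1836) (finTab_s_1837_1839 c) (Nat.ble 1837 c)
noncomputable def finTab_s_1840_1842 (c : Nat) : Nat := @Bool.rec (fun _ => Nat) (finTab_1840) (finTab_1841) (Nat.ble 1841 c)
noncomputable def finTab_s_1839_1842 (c : Nat) : Nat := @Bool.rec (fun _ => Nat) (finTab_1839) (finTab_s_1840_1842 c) (Nat.ble 1840 c)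
noncomputable def finTab_s_1836_1842 (c : Nat) : Nat := @Bool.rec (fun _ => Nat) (finTab_s_1836_1839 c) (finTab_s_1839_1842 c) (Nat.ble 1839 c)
noncomputable def finTab_s_1831_1842 (c : Nat) : Nat := @Bool.rec (fun _ => Nat) (finTab_s_1831_1836 c) (finTab_s_1836_1842 c) (Nat.ble 1836 c)
noncomputable def finTab_s_1843_1845 (c : Nat) : Nat := @Bool.rec (fun _ => Nat) (finTab_1843) (finTab_1844) (Nat.ble 1844 c)
noncomputable def finTab_s_1842_1845 (c : Nat) : Nat := @Bool.rec (fun _ => Nat) (finTab_1842) (finTab_s_1843_1845 c) (Nat.ble 1843 c)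
noncomputable def finTab_s_1846_1848 (c : Nat) : Nat := @Bool.rec (fun _ => Nat) (finTab_1846) (finTab_1847) (Nat.ble 1847 c)
noncomputable def finTab_s_1845_1848 (c : Nat) : Nat := @Bool.rec (fun _ => Nat) (finTab_1845) (finTab_s_1846_1848 c) (Nat.ble 1846 c)
noncomputable def finTab_s_1842_1848 (c : Nat) : Nat := @Bool.rec (fun _ => Nat) (finTab_s_1842_1845 c) (finTab_s_1845_1848 c) (Nat.ble 1845 c)
noncomputable def finTab_s_1849_1851 (c : Nat) : Nat := @Bool.rec (fun _ => Nat) (finTab_1849) (finTab_1850) (Nat.ble 1850 c)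
noncomputable def finTab_s_1848_1851 (c : Nat) : Nat := @Bool.rec (fun _ => Nat) (finTab_1848) (finTab_s_1849_1851 c) (Nat.ble 1849 c)
noncomputable def finTab_s_1852_1854 (c : Nat) : Nat := @Bool.rec (fun _ => Nat) (finTab_1852) (finTab_1853) (Nat.ble 1853 c)
noncomputable def finTab_s_1851_1854 (c : Nat) : Nat := @Bool.rec (fun _ => Nat) (finTab_1851) (finTab_s_1852_1854 c) (Nat.ble 1852 c)
noncomputable def finTab_s_1848_1854 (c : Nat) : Nat := @Bool.rec (fun _ => Nat) (finTab_s_1848_1851 c) (finTab_s_1851_1854 c) (Nat.ble 1851 c)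
noncomputable def finTab_s_1842_1854 (c : Nat) : Nat := @Bool.rec (fun _ => Nat) (finTab_s_1842_1848 c) (finTab_s_1848_1854 c) (Nat.ble 1848 c)
noncomputable def finTab_s_1831_1854 (c : Nat) : Nat := @Bool.rec (fun _ => Nat) (finTab_s_1831_1842 c) (finTab_s_1842_1854 c) (Nat.ble 1842 c)
noncomputable def finTab_s_1855_1857 (c : Nat) : Nat := @Bool.rec (fun _ => Nat) (finTab_1855) (finTab_1856) (Nat.ble 1856 c)
noncomputable def finTab_s_1854_1857 (c : Nat) : Nat := @Bool.rec (fun _ => Nat) (finTab_1854) (finTab_s_1855_1857 c) (Nat.ble 1855 c)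
noncomputable def finTab_s_1858_1860 (c : Nat) : Nat := @Bool.rec (fun _ => Nat) (finTab_1858) (finTab_1859) (Nat.ble 1859 c)
noncomputable def finTab_s_1857_1860 (c : Nat) : Nat := @Bool.rec (fun _ => Nat) (finTab_1857) (finTab_s_1858_1860 c) (Nat.ble 1858 c)
noncomputable def finTab_s_1854_1860 (c : Nat) : Nat := @Bool.rec (fun _ => Nat) (finTab_s_1854_1857 c) (finTab_s_1857_1860 c) (Nat.ble 1857 c)
noncomputable def finTab_s_1861_1863 (c : Nat) : Nat := @Bool.rec (fun _ => Nat) (finTab_1861) (finTab_1862) (Nat.ble 1862 c)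
noncomputable def finTab_s_1860_1863 (c : Nat) : Nat := @Bool.rec (fun _ => Nat) (finTab_1860) (finTab_s_1861_1863 c) (Nat.ble 1861 c)
noncomputable def finTab_s_1864_1866 (c : Nat) : Nat := @Bool.rec (fun _ => Nat) (finTab_1864) (finTab_1865) (Nat.ble 1865 c)
noncomputable def finTab_s_1863_1866 (c : Nat) : Nat := @Bool.rec (fun _ => Nat) (finTab_1863) (finTab_s_1864_1866 c) (Nat.ble 1864 c)
noncomputable def finTab_s_1860_1866 (c : Nat) : Nat := @Bool.rec (fun _ => Nat) (finTab_s_1860_1863 c) (finTab_s_1863_1866 c) (Nat.ble 1863 c)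
noncomputable def finTab_s_1854_1866 (c : Nat) : Nat := @Bool.rec (fun _ => Nat) (finTab_s_1854_1860 c) (finTab_s_1860_1866 c) (Nat.ble 1860 c)
noncomputable def finTab_s_1867_1869 (c : Nat) : Nat := @Bool.rec (fun _ => Nat) (finTab_1867) (finTab_1868) (Nat.ble 1868 c)
noncomputable def finTab_s_1866_1869 (c : Nat) : Nat := @Bool.rec (fun _ => Nat) (finTab_1866) (finTab_s_1867_1869 c) (Nat.ble 1867 c)
noncomputable def finTab_s_1870_1872 (c : Nat) : Nat := @Bool.rec (fun _ => Nat) (finTab_1870) (finTab_1871) (Nat.ble 1871 c)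
noncomputable def finTab_s_1869_1872 (c : Nat) : Nat := @Bool.rec (fun _ => Nat) (finTab_1869) (finTab_s_1870_1872 c) (Nat.ble 1870 c)
noncomputable def finTab_s_1866_1872 (c : Nat) : Nat := @Bool.rec (fun _ => Nat) (finTab_s_1866_1869 c) (finTab_s_1869_1872 c) (Nat.ble 1869 c)
noncomputable def finTab_s_1873_1875 (c : Nat) : Nat := @Bool.rec (fun _ => Nat) (finTab_1873) (finTab_1874) (Nat.ble 1874 c)
noncomputable def finTab_s_1872_1875 (c : Nat) : Nat := @Bool.rec (fun _ => Nat) (finTab_1872) (finTab_s_1873_1875 c) (Nat.ble 1873 c)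
noncomputable def finTab_s_1876_1878 (c : Nat) : Nat := @Bool.rec (fun _ => Nat) (finTab_1876) (finTab_1877) (Nat.ble 1877 c)
noncomputable def finTab_s_1875_1878 (c : Nat) : Nat := @Bool.rec (fun _ => Nat) (finTab_1875) (finTab_s_1876_1878 c) (Nat.ble 1876 c)
noncomputable def finTab_s_1872_1878 (c : Nat) : Nat := @Bool.rec (fun _ => Nat) (finTab_s_1872_1875 c) (finTab_s_1875_1878 c) (Nat.ble 1875 c)
noncomputable def finTab_s_1866_1878 (c : Nat) : Nat := @Bool.rec (fun _ => Nat) (finTab_s_1866_1872 c) (finTab_s_1872_1878 c) (Nat.ble 1872 c)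
noncomputable def finTab_s_1854_1878 (c : Nat) : Nat := @Bool.rec (fun _ => Nat) (finTab_s_1854_1866 c) (finTab_s_1866_1878 c) (Nat.ble 1866 c)
noncomputable def finTab_s_1831_1878 (c : Nat) : Nat := @Bool.rec (fun _ => Nat) (finTab_s_1831_1854 c) (finTab_s_1854_1878 c) (Nat.ble 1854 c)
noncomputable def finTab_s_1784_1878 (c : Nat) : Nat := @Bool.rec (fun _ => Nat) (finTab_s_1784_1831 c) (finTab_s_1831_1878 c) (Nat.ble 1831 c)
noncomputable def finTab_s_1690_1878 (c : Nat) : Nat := @Bool.rec (fun _ => Nat) (finTab_s_1690_1784 c) (finTab_s_1784_1878 c) (Nat.ble 1784 c)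
noncomputable def finTab_s_1503_1878 (c : Nat) : Nat := @Bool.rec (fun _ => Nat) (finTab_s_1503_1690 c) (finTab_s_1690_1878 c) (Nat.ble 1690 c)
noncomputable def finTab_s_1878_1880 (c : Nat) : Nat := @Bool.rec (fun _ => Nat) (finTab_1878) (finTab_1879) (Nat.ble 1879 c)
noncomputable def finTab_s_1881_1883 (c : Nat) : Nat := @Bool.rec (fun _ => Nat) (finTab_1881) (finTab_1882) (Nat.ble 1882 c)
noncomputable def finTab_s_1880_1883 (c : Nat) : Nat := @Bool.rec (fun _ => Nat) (finTab_1880) (finTab_s_1881_1883 c) (Nat.ble 1881 c)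
noncomputable def finTab_s_1878_1883 (c : Nat) : Nat := @Bool.rec (fun _ => Nat) (finTab_s_1878_1880 c) (finTab_s_1880_1883 c) (Nat.ble 1880 c)
noncomputable def finTab_s_1884_1886 (c : Nat) : Nat := @Bool.rec (fun _ => Nat) (finTab_1884) (finTab_1885) (Nat.ble 1885 c)
noncomputable def finTab_s_1883_1886 (c : Nat) : Nat := @Bool.rec (fun _ => Nat) (finTab_1883) (finTab_s_1884_1886 c) (Nat.ble 1884 c)
noncomputable def finTab_s_1887_1889 (c : Nat) : Nat := @Bool.rec (fun _ => Nat) (finTab_1887) (finTab_1888) (Nat.ble 1888 c)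
noncomputable def finTab_s_1886_1889 (c : Nat) : Nat := @Bool.rec (fun _ => Nat) (finTab_1886) (finTab_s_1887_1889 c) (Nat.ble 1887 c)
noncomputable def finTab_s_1883_1889 (c : Nat) : Nat := @Bool.rec (fun _ => Nat) (finTab_s_1883_1886 c) (finTab_s_1886_1889 c) (Nat.ble 1886 c)
noncomputable def finTab_s_1878_1889 (c : Nat) : Nat := @Bool.rec (fun _ => Nat) (finTab_s_1878_1883 c) (finTab_s_1883_1889 c) (Nat.ble 1883 c)
noncomputable def finTab_s_1890_1892 (c : Nat) : Nat := @Bool.rec (fun _ => Nat) (finTab_1890) (finTab_1891) (Nat.ble 1891 c)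
noncomputable def finTab_s_1889_1892 (c : Nat) : Nat := @Bool.rec (fun _ => Nat) (finTab_1889) (finTab_s_1890_1892 c) (Nat.ble 1890 c)
noncomputable def finTab_s_1893_1895 (c : Nat) : Nat := @Bool.rec (fun _ => Nat) (finTab_1893) (finTab_1894) (Nat.ble 1894 c)
noncomputable def finTab_s_1892_1895 (c : Nat) : Nat := @Bool.rec (fun _ => Nat) (finTab_1892) (finTab_s_1893_1895 c) (Nat.ble 1893 c)
noncomputable def finTab_s_1889_1895 (c : Nat) : Nat := @Bool.rec (fun _ => Nat) (finTab_s_1889_1892 c) (finTab_s_1892_1895 c) (Nat.ble 1892 c)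
noncomputable def finTab_s_1896_1898 (c : Nat) : Nat := @Bool.rec (fun _ => Nat) (finTab_1896) (finTab_1897) (Nat.ble 1897 c)
noncomputable def finTab_s_1895_1898 (c : Nat) : Nat := @Bool.rec (fun _ => Nat) (finTab_1895) (finTab_s_1896_1898 c) (Nat.ble 1896 c)
noncomputable def finTab_s_1899_1901 (c : Nat) : Nat := @Bool.rec (fun _ => Nat) (finTab_1899) (finTab_1900) (Nat.ble 1900 c)
noncomputable def finTab_s_1898_1901 (c : Nat) : Nat := @Bool.rec (fun _ => Nat) (finTab_1898) (finTab_s_1899_1901 c) (Nat.ble 1899 c)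
noncomputable def finTab_s_1895_1901 (c : Nat) : Nat := @Bool.rec (fun _ => Nat) (finTab_s_1895_1898 c) (finTab_s_1898_1901 c) (Nat.ble 1898 c)
noncomputable def finTab_s_1889_1901 (c : Nat) : Nat := @Bool.rec (fun _ => Nat) (finTab_s_1889_1895 c) (finTab_s_1895_1901 c) (Nat.ble 1895 c)
noncomputable def finTab_s_1878_1901 (c : Nat) : Nat := @Bool.rec (fun _ => Nat) (finTab_s_1878_1889 c) (finTab_s_1889_1901 c) (Nat.ble 1889 c)
noncomputable def finTab_s_1902_1904 (c : Nat) : Nat := @Bool.rec (fun _ => Nat) (finTab_1902) (finTab_1903) (Nat.ble 1903 c)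
noncomputable def finTab_s_1901_1904 (c : Nat) : Nat := @Bool.rec (fun _ => Nat) (finTab_1901) (finTab_s_1902_1904 c) (Nat.ble 1902 c)
noncomputable def finTab_s_1905_1907 (c : Nat) : Nat := @Bool.rec (fun _ => Nat) (finTab_1905) (finTab_1906) (Nat.ble 1906 c)
noncomputable def finTab_s_1904_1907 (c : Nat) : Nat := @Bool.rec (fun _ => Nat) (finTab_1904) (finTab_s_1905_1907 c) (Nat.ble 1905 c)
noncomputable def finTab_s_1901_1907 (c : Nat) : Nat := @Bool.rec (fun _ => Nat) (finTab_s_1901_1904 c) (finTab_s_1904_1907 c) (Nat.ble 1904 c)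
noncomputable def finTab_s_1908_1910 (c : Nat) : Nat := @Bool.rec (fun _ => Nat) (finTab_1908) (finTab_1909) (Nat.ble 1909 c)
noncomputable def finTab_s_1907_1910 (c : Nat) : Nat := @Bool.rec (fun _ => Nat) (finTab_1907) (finTab_s_1908_1910 c) (Nat.ble 1908 c)
noncomputable def finTab_s_1911_1913 (c : Nat) : Nat := @Bool.rec (fun _ => Nat) (finTab_1911) (finTab_1912) (Nat.ble 1912 c)
noncomputable def finTab_s_1910_1913 (c : Nat) : Nat := @Bool.rec (fun _ => Nat) (finTab_1910) (finTab_s_1911_1913 c) (Nat.ble 1911 c)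
noncomputable def finTab_s_1907_1913 (c : Nat) : Nat := @Bool.rec (fun _ => Nat) (finTab_s_1907_1910 c) (finTab_s_1910_1913 c) (Nat.ble 1910 c)
noncomputable def finTab_s_1901_1913 (c : Nat) : Nat := @Bool.rec (fun _ => Nat) (finTab_s_1901_1907 c) (finTab_s_1907_1913 c) (Nat.ble 1907 c)
noncomputable def finTab_s_1914_1916 (c : Nat) : Nat := @Bool.rec (fun _ => Nat) (finTab_1914) (finTab_1915) (Nat.ble 1915 c)
noncomputable def finTab_s_1913_1916 (c : Nat) : Nat := @Bool.rec (fun _ => Nat) (finTab_1913) (finTab_s_1914_1916 c) (Nat.ble 1914 c)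
noncomputable def finTab_s_1917_1919 (c : Nat) : Nat := @Bool.rec (fun _ => Nat) (finTab_1917) (finTab_1918) (Nat.ble 1918 c)
noncomputable def finTab_s_1916_1919 (c : Nat) : Nat := @Bool.rec (fun _ => Nat) (finTab_1916) (finTab_s_1917_1919 c) (Nat.ble 1917 c)
noncomputable def finTab_s_1913_1919 (c : Nat) : Nat := @Bool.rec (fun _ => Nat) (finTab_s_1913_1916 c) (finTab_s_1916_1919 c) (Nat.ble 1916 c)
noncomputable def finTab_s_1920_1922 (c : Nat) : Nat := @Bool.rec (fun _ => Nat) (finTab_1920) (finTab_1921) (Nat.ble 1921 c)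
noncomputable def finTab_s_1919_1922 (c : Nat) : Nat := @Bool.rec (fun _ => Nat) (finTab_1919) (finTab_s_1920_1922 c) (Nat.ble 1920 c)
noncomputable def finTab_s_1923_1925 (c : Nat) : Nat := @Bool.rec (fun _ => Nat) (finTab_1923) (finTab_1924) (Nat.ble 1924 c)
noncomputable def finTab_s_1922_1925 (c : Nat) : Nat := @Bool.rec (fun _ => Nat) (finTab_1922) (finTab_s_1923_1925 c) (Nat.ble 1923 c)
noncomputable def finTab_s_1919_1925 (c : Nat) : Nat := @Bool.rec (fun _ => Nat) (finTab_s_1919_1922 c) (finTab_s_1922_1925 c) (Nat.ble 1922 c)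
noncomputable def finTab_s_1913_1925 (c : Nat) : Nat := @Bool.rec (fun _ => Nat) (finTab_s_1913_1919 c) (finTab_s_1919_1925 c) (Nat.ble 1919 c)
noncomputable def finTab_s_1901_1925 (c : Nat) : Nat := @Bool.rec (fun _ => Nat) (finTab_s_1901_1913 c) (finTab_s_1913_1925 c) (Nat.ble 1913 c)
noncomputable def finTab_s_1878_1925 (c : Nat) : Nat := @Bool.rec (fun _ => Nat) (finTab_s_1878_1901 c) (finTab_s_1901_1925 c) (Nat.ble 1901 c)
noncomputable def finTab_s_1925_1927 (c : Nat) : Nat := @Bool.rec (fun _ => Nat) (finTab_1925) (finTab_1926) (Nat.ble 1926 c)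
noncomputable def finTab_s_1928_1930 (c : Nat) : Nat := @Bool.rec (fun _ => Nat) (finTab_1928) (finTab_1929) (Nat.ble 1929 c)
noncomputable def finTab_s_1927_1930 (c : Nat) : Nat := @Bool.rec (fun _ => Nat) (finTab_1927) (finTab_s_1928_1930 c) (Nat.ble 1928 c)
noncomputable def finTab_s_1925_1930 (c : Nat) : Nat := @Bool.rec (fun _ => Nat) (finTab_s_1925_1927 c) (finTab_s_1927_1930 c) (Nat.ble 1927 c)
noncomputable def finTab_s_1931_1933 (c : Nat) : Nat := @Bool.rec (fun _ => Nat) (finTab_1931) (finTab_1932) (Nat.ble 1932 c)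
noncomputable def finTab_s_1930_1933 (c : Nat) : Nat := @Bool.rec (fun _ => Nat) (finTab_1930) (finTab_s_1931_1933 c) (Nat.ble 1931 c)
noncomputable def finTab_s_1934_1936 (c : Nat) : Nat := @Bool.rec (fun _ => Nat) (finTab_1934) (finTab_1935) (Nat.ble 1935 c)
noncomputable def finTab_s_1933_1936 (c : Nat) : Nat := @Bool.rec (fun _ => Nat) (finTab_1933) (finTab_s_1934_1936 c) (Nat.ble 1934 c)
noncomputable def finTab_s_1930_1936 (c : Nat) : Nat := @Bool.rec (fun _ => Nat) (finTab_s_1930_1933 c) (finTab_s_1933_1936 c) (Nat.ble 1933 c)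
noncomputable def finTab_s_1925_1936 (c : Nat) : Nat := @Bool.rec (fun _ => Nat) (finTab_s_1925_1930 c) (finTab_s_1930_1936 c) (Nat.ble 1930 c)
noncomputable def finTab_s_1937_1939 (c : Nat) : Nat := @Bool.rec (fun _ => Nat) (finTab_1937) (finTab_1938) (Nat.ble 1938 c)
noncomputable def finTab_s_1936_1939 (c : Nat) : Nat := @Bool.rec (fun _ => Nat) (finTab_1936) (finTab_s_1937_1939 c) (Nat.ble 1937 c)
noncomputable def finTab_s_1940_1942 (c : Nat) : Nat := @Bool.rec (fun _ => Nat) (finTab_1940) (finTab_1941) (Nat.ble 1941 c)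
noncomputable def finTab_s_1939_1942 (c : Nat) : Nat := @Bool.rec (fun _ => Nat) (finTab_1939) (finTab_s_1940_1942 c) (Nat.ble 1940 c)
noncomputable def finTab_s_1936_1942 (c : Nat) : Nat := @Bool.rec (fun _ => Nat) (finTab_s_1936_1939 c) (finTab_s_1939_1942 c) (Nat.ble 1939 c)
noncomputable def finTab_s_1943_1945 (c : Nat) : Nat := @Bool.rec (fun _ => Nat) (finTab_1943) (finTab_1944) (Nat.ble 1944 c)
noncomputable def finTab_s_1942_1945 (c : Nat) : Nat := @Bool.rec (fun _ => Nat) (finTab_1942) (finTab_s_1943_1945 c) (Nat.ble 1943 c)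
noncomputable def finTab_s_1946_1948 (c : Nat) : Nat := @Bool.rec (fun _ => Nat) (finTab_1946) (finTab_1947) (Nat.ble 1947 c)
noncomputable def finTab_s_1945_1948 (c : Nat) : Nat := @Bool.rec (fun _ => Nat) (finTab_1945) (finTab_s_1946_1948 c) (Nat.ble 1946 c)
noncomputable def finTab_s_1942_1948 (c : Nat) : Nat := @Bool.rec (fun _ => Nat) (finTab_s_1942_1945 c) (finTab_s_1945_1948 c) (Nat.ble 1945 c)
noncomputable def finTab_s_1936_1948 (c : Nat) : Nat := @Bool.rec (fun _ => Nat) (finTab_s_1936_1942 c) (finTab_s_1942_1948 c) (Nat.ble 1942 c)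
noncomputable def finTab_s_1925_1948 (c : Nat) : Nat := @Bool.rec (fun _ => Nat) (finTab_s_1925_1936 c) (finTab_s_1936_1948 c) (Nat.ble 1936 c)
noncomputable def finTab_s_1949_1951 (c : Nat) : Nat := @Bool.rec (fun _ => Nat) (finTab_1949) (finTab_1950) (Nat.ble 1950 c)
noncomputable def finTab_s_1948_1951 (c : Nat) : Nat := @Bool.rec (fun _ => Nat) (finTab_1948) (finTab_s_1949_1951 c) (Nat.ble 1949 c)
noncomputable def finTab_s_1952_1954 (c : Nat) : Nat := @Bool.rec (fun _ => Nat) (finTab_1952) (finTab_1953) (Nat.ble 1953 c)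
noncomputable def finTab_s_1951_1954 (c : Nat) : Nat := @Bool.rec (fun _ => Nat) (finTab_1951) (finTab_s_1952_1954 c) (Nat.ble 1952 c)
noncomputable def finTab_s_1948_1954 (c : Nat) : Nat := @Bool.rec (fun _ => Nat) (finTab_s_1948_1951 c) (finTab_s_1951_1954 c) (Nat.ble 1951 c)
noncomputable def finTab_s_1955_1957 (c : Nat) : Nat := @Bool.rec (fun _ => Nat) (finTab_1955) (finTab_1956) (Nat.ble 1956 c)
noncomputable def finTab_s_1954_1957 (c : Nat) : Nat := @Bool.rec (fun _ => Nat) (finTab_1954) (finTab_s_1955_1957 c) (Nat.ble 1955 c)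
noncomputable def finTab_s_1958_1960 (c : Nat) : Nat := @Bool.rec (fun _ => Nat) (finTab_1958) (finTab_1959) (Nat.ble 1959 c)
noncomputable def finTab_s_1957_1960 (c : Nat) : Nat := @Bool.rec (fun _ => Nat) (finTab_1957) (finTab_s_1958_1960 c) (Nat.ble 1958 c)
noncomputable def finTab_s_1954_1960 (c : Nat) : Nat := @Bool.rec (fun _ => Nat) (finTab_s_1954_1957 c) (finTab_s_1957_1960 c) (Nat.ble 1957 c)
noncomputable def finTab_s_1948_1960 (c : Nat) : Nat := @Bool.rec (fun _ => Nat) (finTab_s_1948_1954 c) (finTab_s_1954_1960 c) (Nat.ble 1954 c)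
noncomputable def finTab_s_1961_1963 (c : Nat) : Nat := @Bool.rec (fun _ => Nat) (finTab_1961) (finTab_1962) (Nat.ble 1962 c)
noncomputable def finTab_s_1960_1963 (c : Nat) : Nat := @Bool.rec (fun _ => Nat) (finTab_1960) (finTab_s_1961_1963 c) (Nat.ble 1961 c)
noncomputable def finTab_s_1964_1966 (c : Nat) : Nat := @Bool.rec (fun _ => Nat) (finTab_1964) (finTab_1965) (Nat.ble 1965 c)
noncomputable def finTab_s_1963_1966 (c : Nat) : Nat := @Bool.rec (fun _ => Nat) (finTab_1963) (finTab_s_1964_1966 c) (Nat.ble 1964 c)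
noncomputable def finTab_s_1960_1966 (c : Nat) : Nat := @Bool.rec (fun _ => Nat) (finTab_s_1960_1963 c) (finTab_s_1963_1966 c) (Nat.ble 1963 c)
noncomputable def finTab_s_1967_1969 (c : Nat) : Nat := @Bool.rec (fun _ => Nat) (finTab_1967) (finTab_1968) (Nat.ble 1968 c)
noncomputable def finTab_s_1966_1969 (c : Nat) : Nat := @Bool.rec (fun _ => Nat) (finTab_1966) (finTab_s_1967_1969 c) (Nat.ble 1967 c)
noncomputable def finTab_s_1970_1972 (c : Nat) : Nat := @Bool.rec (fun _ => Nat) (finTab_1970) (finTab_1971) (Nat.ble 1971 c)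
noncomputable def finTab_s_1969_1972 (c : Nat) : Nat := @Bool.rec (fun _ => Nat) (finTab_1969) (finTab_s_1970_1972 c) (Nat.ble 1970 c)
noncomputable def finTab_s_1966_1972 (c : Nat) : Nat := @Bool.rec (fun _ => Nat) (finTab_s_1966_1969 c) (finTab_s_1969_1972 c) (Nat.ble 1969 c)
noncomputable def finTab_s_1960_1972 (c : Nat) : Nat := @Bool.rec (fun _ => Nat) (finTab_s_1960_1966 c) (finTab_s_1966_1972 c) (Nat.ble 1966 c)
noncomputable def finTab_s_1948_1972 (c : Nat) : Nat := @Bool.rec (fun _ => Nat) (finTab_s_1948_1960 c) (finTab_s_1960_1972 c) (Nat.ble 1960 c)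
noncomputable def finTab_s_1925_1972 (c : Nat) : Nat := @Bool.rec (fun _ => Nat) (finTab_s_1925_1948 c) (finTab_s_1948_1972 c) (Nat.ble 1948 c)
noncomputable def finTab_s_1878_1972 (c : Nat) : Nat := @Bool.rec (fun _ => Nat) (finTab_s_1878_1925 c) (finTab_s_1925_1972 c) (Nat.ble 1925 c)
noncomputable def finTab_s_1972_1974 (c : Nat) : Nat := @Bool.rec (fun _ => Nat) (finTab_1972) (finTab_1973) (Nat.ble 1973 c)
noncomputable def finTab_s_1975_1977 (c : Nat) : Nat := @Bool.rec (fun _ => Nat) (finTab_1975) (finTab_1976) (Nat.ble 1976 c)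
noncomputable def finTab_s_1974_1977 (c : Nat) : Nat := @Bool.rec (fun _ => Nat) (finTab_1974) (finTab_s_1975_1977 c) (Nat.ble 1975 c)
noncomputable def finTab_s_1972_1977 (c : Nat) : Nat := @Bool.rec (fun _ => Nat) (finTab_s_1972_1974 c) (finTab_s_1974_1977 c) (Nat.ble 1974 c)
noncomputable def finTab_s_1978_1980 (c : Nat) : Nat := @Bool.rec (fun _ => Nat) (finTab_1978) (finTab_1979) (Nat.ble 1979 c)
noncomputable def finTab_s_1977_1980 (c : Nat) : Nat := @Bool.rec (fun _ => Nat) (finTab_1977) (finTab_s_1978_1980 c) (Nat.ble 1978 c)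
noncomputable def finTab_s_1981_1983 (c : Nat) : Nat := @Bool.rec (fun _ => Nat) (finTab_1981) (finTab_1982) (Nat.ble 1982 c)
noncomputable def finTab_s_1980_1983 (c : Nat) : Nat := @Bool.rec (fun _ => Nat) (finTab_1980) (finTab_s_1981_1983 c) (Nat.ble 1981 c)
noncomputable def finTab_s_1977_1983 (c : Nat) : Nat := @Bool.rec (fun _ => Nat) (finTab_s_1977_1980 c) (finTab_s_1980_1983 c) (Nat.ble 1980 c)
noncomputable def finTab_s_1972_1983 (c : Nat) : Nat := @Bool.rec (fun _ => Nat) (finTab_s_1972_1977 c) (finTab_s_1977_1983 c) (Nat.ble 1977 c)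
noncomputable def finTab_s_1984_1986 (c : Nat) : Nat := @Bool.rec (fun _ => Nat) (finTab_1984) (finTab_1985) (Nat.ble 1985 c)
noncomputable def finTab_s_1983_1986 (c : Nat) : Nat := @Bool.rec (fun _ => Nat) (finTab_1983) (finTab_s_1984_1986 c) (Nat.ble 1984 c)
noncomputable def finTab_s_1987_1989 (c : Nat) : Nat := @Bool.rec (fun _ => Nat) (finTab_1987) (finTab_1988) (Nat.ble 1988 c)
noncomputable def finTab_s_1986_1989 (c : Nat) : Nat := @Bool.rec (fun _ => Nat) (finTab_1986) (finTab_s_1987_1989 c) (Nat.ble 1987 c)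
noncomputable def finTab_s_1983_1989 (c : Nat) : Nat := @Bool.rec (fun _ => Nat) (finTab_s_1983_1986 c) (finTab_s_1986_1989 c) (Nat.ble 1986 c)
noncomputable def finTab_s_1990_1992 (c : Nat) : Nat := @Bool.rec (fun _ => Nat) (finTab_1990) (finTab_1991) (Nat.ble 1991 c)
noncomputable def finTab_s_1989_1992 (c : Nat) : Nat := @Bool.rec (fun _ => Nat) (finTab_1989) (finTab_s_1990_1992 c) (Nat.ble 1990 c)
noncomputable def finTab_s_1993_1995 (c : Nat) : Nat := @Bool.rec (fun _ => Nat) (finTab_1993) (finTab_1994) (Nat.ble 1994 c)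
noncomputable def finTab_s_1992_1995 (c : Nat) : Nat := @Bool.rec (fun _ => Nat) (finTab_1992) (finTab_s_1993_1995 c) (Nat.ble 1993 c)
noncomputable def finTab_s_1989_1995 (c : Nat) : Nat := @Bool.rec (fun _ => Nat) (finTab_s_1989_1992 c) (finTab_s_1992_1995 c) (Nat.ble 1992 c)
noncomputable def finTab_s_1983_1995 (c : Nat) : Nat := @Bool.rec (fun _ => Nat) (finTab_s_1983_1989 c) (finTab_s_1989_1995 c) (Nat.ble 1989 c)
noncomputable def finTab_s_1972_1995 (c : Nat) : Nat := @Bool.rec (fun _ => Nat) (finTab_s_1972_1983 c) (finTab_s_1983_1995 c) (Nat.ble 1983 c)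
noncomputable def finTab_s_1996_1998 (c : Nat) : Nat := @Bool.rec (fun _ => Nat) (finTab_1996) (finTab_1997) (Nat.ble 1997 c)
noncomputable def finTab_s_1995_1998 (c : Nat) : Nat := @Bool.rec (fun _ => Nat) (finTab_1995) (finTab_s_1996_1998 c) (Nat.ble 1996 c)
noncomputable def finTab_s_1999_2001 (c : Nat) : Nat := @Bool.rec (fun _ => Nat) (finTab_1999) (finTab_2000) (Nat.ble 2000 c)
noncomputable def finTab_s_1998_2001 (c : Nat) : Nat := @Bool.rec (fun _ => Nat) (finTab_1998) (finTab_s_1999_2001 c) (Nat.ble 1999 c)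
noncomputable def finTab_s_1995_2001 (c : Nat) : Nat := @Bool.rec (fun _ => Nat) (finTab_s_1995_1998 c) (finTab_s_1998_2001 c) (Nat.ble 1998 c)
noncomputable def finTab_s_2002_2004 (c : Nat) : Nat := @Bool.rec (fun _ => Nat) (finTab_2002) (finTab_2003) (Nat.ble 2003 c)
noncomputable def finTab_s_2001_2004 (c : Nat) : Nat := @Bool.rec (fun _ => Nat) (finTab_2001) (finTab_s_2002_2004 c) (Nat.ble 2002 c)
noncomputable def finTab_s_2005_2007 (c : Nat) : Nat := @Bool.rec (fun _ => Nat) (finTab_2005) (finTab_2006) (Nat.ble 2006 c)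
noncomputable def finTab_s_2004_2007 (c : Nat) : Nat := @Bool.rec (fun _ => Nat) (finTab_2004) (finTab_s_2005_2007 c) (Nat.ble 2005 c)
noncomputable def finTab_s_2001_2007 (c : Nat) : Nat := @Bool.rec (fun _ => Nat) (finTab_s_2001_2004 c) (finTab_s_2004_2007 c) (Nat.ble 2004 c)
noncomputable def finTab_s_1995_2007 (c : Nat) : Nat := @Bool.rec (fun _ => Nat) (finTab_s_1995_2001 c) (finTab_s_2001_2007 c) (Nat.ble 2001 c)
noncomputable def finTab_s_2008_2010 (c : Nat) : Nat := @Bool.rec (fun _ => Nat) (finTab_2008) (finTab_2009) (Nat.ble 2009 c)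
noncomputable def finTab_s_2007_2010 (c : Nat) : Nat := @Bool.rec (fun _ => Nat) (finTab_2007) (finTab_s_2008_2010 c) (Nat.ble 2008 c)
noncomputable def finTab_s_2011_2013 (c : Nat) : Nat := @Bool.rec (fun _ => Nat) (finTab_2011) (finTab_2012) (Nat.ble 2012 c)
noncomputable def finTab_s_2010_2013 (c : Nat) : Nat := @Bool.rec (fun _ => Nat) (finTab_2010) (finTab_s_2011_2013 c) (Nat.ble 2011 c)
noncomputable def finTab_s_2007_2013 (c : Nat) : Nat := @Bool.rec (fun _ => Nat) (finTab_s_2007_2010 c) (finTab_s_2010_2013 c) (Nat.ble 2010 c)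
noncomputable def finTab_s_2014_2016 (c : Nat) : Nat := @Bool.rec (fun _ => Nat) (finTab_2014) (finTab_2015) (Nat.ble 2015 c)
noncomputable def finTab_s_2013_2016 (c : Nat) : Nat := @Bool.rec (fun _ => Nat) (finTab_2013) (finTab_s_2014_2016 c) (Nat.ble 2014 c)
noncomputable def finTab_s_2017_2019 (c : Nat) : Nat := @Bool.rec (fun _ => Nat) (finTab_2017) (finTab_2018) (Nat.ble 2018 c)
noncomputable def finTab_s_2016_2019 (c : Nat) : Nat := @Bool.rec (fun _ => Nat) (finTab_2016) (finTab_s_2017_2019 c) (Nat.ble 2017 c)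
noncomputable def finTab_s_2013_2019 (c : Nat) : Nat := @Bool.rec (fun _ => Nat) (finTab_s_2013_2016 c) (finTab_s_2016_2019 c) (Nat.ble 2016 c)
noncomputable def finTab_s_2007_2019 (c : Nat) : Nat := @Bool.rec (fun _ => Nat) (finTab_s_2007_2013 c) (finTab_s_2013_2019 c) (Nat.ble 2013 c)
noncomputable def finTab_s_1995_2019 (c : Nat) : Nat := @Bool.rec (fun _ => Nat) (finTab_s_1995_2007 c) (finTab_s_2007_2019 c) (Nat.ble 2007 c)
noncomputable def finTab_s_1972_2019 (c : Nat) : Nat := @Bool.rec (fun _ => Nat) (finTab_s_1972_1995 c) (finTab_s_1995_2019 c) (Nat.ble 1995 c)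
noncomputable def finTab_s_2019_2021 (c : Nat) : Nat := @Bool.rec (fun _ => Nat) (finTab_2019) (finTab_2020) (Nat.ble 2020 c)
noncomputable def finTab_s_2022_2024 (c : Nat) : Nat := @Bool.rec (fun _ => Nat) (finTab_2022) (finTab_2023) (Nat.ble 2023 c)
noncomputable def finTab_s_2021_2024 (c : Nat) : Nat := @Bool.rec (fun _ => Nat) (finTab_2021) (finTab_s_2022_2024 c) (Nat.ble 2022 c)
noncomputable def finTab_s_2019_2024 (c : Nat) : Nat := @Bool.rec (fun _ => Nat) (finTab_s_2019_2021 c) (finTab_s_2021_2024 c) (Nat.ble 2021 c)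
noncomputable def finTab_s_2025_2027 (c : Nat) : Nat := @Bool.rec (fun _ => Nat) (finTab_2025) (finTab_2026) (Nat.ble 2026 c)
noncomputable def finTab_s_2024_2027 (c : Nat) : Nat := @Bool.rec (fun _ => Nat) (finTab_2024) (finTab_s_2025_2027 c) (Nat.ble 2025 c)
noncomputable def finTab_s_2028_2030 (c : Nat) : Nat := @Bool.rec (fun _ => Nat) (finTab_2028) (finTab_2029) (Nat.ble 2029 c)
noncomputable def finTab_s_2027_2030 (c : Nat) : Nat := @Bool.rec (fun _ => Nat) (finTab_2027) (finTab_s_2028_2030 c) (Nat.ble 2028 c)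
noncomputable def finTab_s_2024_2030 (c : Nat) : Nat := @Bool.rec (fun _ => Nat) (finTab_s_2024_2027 c) (finTab_s_2027_2030 c) (Nat.ble 2027 c)
noncomputable def finTab_s_2019_2030 (c : Nat) : Nat := @Bool.rec (fun _ => Nat) (finTab_s_2019_2024 c) (finTab_s_2024_2030 c) (Nat.ble 2024 c)
noncomputable def finTab_s_2031_2033 (c : Nat) : Nat := @Bool.rec (fun _ => Nat) (finTab_2031) (finTab_2032) (Nat.ble 2032 c)
noncomputable def finTab_s_2030_2033 (c : Nat) : Nat := @Bool.rec (fun _ => Nat) (finTab_2030) (finTab_s_2031_2033 c) (Nat.ble 2031 c)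
noncomputable def finTab_s_2034_2036 (c : Nat) : Nat := @Bool.rec (fun _ => Nat) (finTab_2034) (finTab_2035) (Nat.ble 2035 c)
noncomputable def finTab_s_2033_2036 (c : Nat) : Nat := @Bool.rec (fun _ => Nat) (finTab_2033) (finTab_s_2034_2036 c) (Nat.ble 2034 c)
noncomputable def finTab_s_2030_2036 (c : Nat) : Nat := @Bool.rec (fun _ => Nat) (finTab_s_2030_2033 c) (finTab_s_2033_2036 c) (Nat.ble 2033 c)
noncomputable def finTab_s_2037_2039 (c : Nat) : Nat := @Bool.rec (fun _ => Nat) (finTab_2037) (finTab_2038) (Nat.ble 2038 c)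
noncomputable def finTab_s_2036_2039 (c : Nat) : Nat := @Bool.rec (fun _ => Nat) (finTab_2036) (finTab_s_2037_2039 c) (Nat.ble 2037 c)
noncomputable def finTab_s_2040_2042 (c : Nat) : Nat := @Bool.rec (fun _ => Nat) (finTab_2040) (finTab_2041) (Nat.ble 2041 c)
noncomputable def finTab_s_2039_2042 (c : Nat) : Nat := @Bool.rec (fun _ => Nat) (finTab_2039) (finTab_s_2040_2042 c) (Nat.ble 2040 c)
noncomputable def finTab_s_2036_2042 (c : Nat) : Nat := @Bool.rec (fun _ => Nat) (finTab_s_2036_2039 c) (finTab_s_2039_2042 c) (Nat.ble 2039 c)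
noncomputable def finTab_s_2030_2042 (c : Nat) : Nat := @Bool.rec (fun _ => Nat) (finTab_s_2030_2036 c) (finTab_s_2036_2042 c) (Nat.ble 2036 c)
noncomputable def finTab_s_2019_2042 (c : Nat) : Nat := @Bool.rec (fun _ => Nat) (finTab_s_2019_2030 c) (finTab_s_2030_2042 c) (Nat.ble 2030 c)
noncomputable def finTab_s_2043_2045 (c : Nat) : Nat := @Bool.rec (fun _ => Nat) (finTab_2043) (finTab_2044) (Nat.ble 2044 c)
noncomputable def finTab_s_2042_2045 (c : Nat) : Nat := @Bool.rec (fun _ => Nat) (finTab_2042) (finTab_s_2043_2045 c) (Nat.ble 2043 c)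
noncomputable def finTab_s_2046_2048 (c : Nat) : Nat := @Bool.rec (fun _ => Nat) (finTab_2046) (finTab_2047) (Nat.ble 2047 c)
noncomputable def finTab_s_2045_2048 (c : Nat) : Nat := @Bool.rec (fun _ => Nat) (finTab_2045) (finTab_s_2046_2048 c) (Nat.ble 2046 c)
noncomputable def finTab_s_2042_2048 (c : Nat) : Nat := @Bool.rec (fun _ => Nat) (finTab_s_2042_2045 c) (finTab_s_2045_2048 c) (Nat.ble 2045 c)
noncomputable def finTab_s_2049_2051 (c : Nat) : Nat := @Bool.rec (fun _ => Nat) (finTab_2049) (finTab_2050) (Nat.ble 2050 c)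
noncomputable def finTab_s_2048_2051 (c : Nat) : Nat := @Bool.rec (fun _ => Nat) (finTab_2048) (finTab_s_2049_2051 c) (Nat.ble 2049 c)
noncomputable def finTab_s_2052_2054 (c : Nat) : Nat := @Bool.rec (fun _ => Nat) (finTab_2052) (finTab_2053) (Nat.ble 2053 c)
noncomputable def finTab_s_2051_2054 (c : Nat) : Nat := @Bool.rec (fun _ => Nat) (finTab_2051) (finTab_s_2052_2054 c) (Nat.ble 2052 c)
noncomputable def finTab_s_2048_2054 (c : Nat) : Nat := @Bool.rec (fun _ => Nat) (finTab_s_2048_2051 c) (finTab_s_2051_2054 c) (Nat.ble 2051 c)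
noncomputable def finTab_s_2042_2054 (c : Nat) : Nat := @Bool.rec (fun _ => Nat) (finTab_s_2042_2048 c) (finTab_s_2048_2054 c) (Nat.ble 2048 c)
noncomputable def finTab_s_2055_2057 (c : Nat) : Nat := @Bool.rec (fun _ => Nat) (finTab_2055) (finTab_2056) (Nat.ble 2056 c)
noncomputable def finTab_s_2054_2057 (c : Nat) : Nat := @Bool.rec (fun _ => Nat) (finTab_2054) (finTab_s_2055_2057 c) (Nat.ble 2055 c)
noncomputable def finTab_s_2058_2060 (c : Nat) : Nat := @Bool.rec (fun _ => Nat) (finTab_2058) (finTab_2059) (Nat.ble 2059 c)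
noncomputable def finTab_s_2057_2060 (c : Nat) : Nat := @Bool.rec (fun _ => Nat) (finTab_2057) (finTab_s_2058_2060 c) (Nat.ble 2058 c)
noncomputable def finTab_s_2054_2060 (c : Nat) : Nat := @Bool.rec (fun _ => Nat) (finTab_s_2054_2057 c) (finTab_s_2057_2060 c) (Nat.ble 2057 c)
noncomputable def finTab_s_2061_2063 (c : Nat) : Nat := @Bool.rec (fun _ => Nat) (finTab_2061) (finTab_2062) (Nat.ble 2062 c)
noncomputable def finTab_s_2060_2063 (c : Nat) : Nat := @Bool.rec (fun _ => Nat) (finTab_2060) (finTab_s_2061_2063 c) (Nat.ble 2061 c)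
noncomputable def finTab_s_2064_2066 (c : Nat) : Nat := @Bool.rec (fun _ => Nat) (finTab_2064) (finTab_2065) (Nat.ble 2065 c)
noncomputable def finTab_s_2063_2066 (c : Nat) : Nat := @Bool.rec (fun _ => Nat) (finTab_2063) (finTab_s_2064_2066 c) (Nat.ble 2064 c)
noncomputable def finTab_s_2060_2066 (c : Nat) : Nat := @Bool.rec (fun _ => Nat) (finTab_s_2060_2063 c) (finTab_s_2063_2066 c) (Nat.ble 2063 c)
noncomputable def finTab_s_2054_2066 (c : Nat) : Nat := @Bool.rec (fun _ => Nat) (finTab_s_2054_2060 c) (finTab_s_2060_2066 c) (Nat.ble 2060 c)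
noncomputable def finTab_s_2042_2066 (c : Nat) : Nat := @Bool.rec (fun _ => Nat) (finTab_s_2042_2054 c) (finTab_s_2054_2066 c) (Nat.ble 2054 c)
noncomputable def finTab_s_2019_2066 (c : Nat) : Nat := @Bool.rec (fun _ => Nat) (finTab_s_2019_2042 c) (finTab_s_2042_2066 c) (Nat.ble 2042 c)
noncomputable def finTab_s_1972_2066 (c : Nat) : Nat := @Bool.rec (fun _ => Nat) (finTab_s_1972_2019 c) (finTab_s_2019_2066 c) (Nat.ble 2019 c)
noncomputable def finTab_s_1878_2066 (c : Nat) : Nat := @Bool.rec (fun _ => Nat) (finTab_s_1878_1972 c) (finTab_s_1972_2066 c) (Nat.ble 1972 c)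
noncomputable def finTab_s_2066_2068 (c : Nat) : Nat := @Bool.rec (fun _ => Nat) (finTab_2066) (finTab_2067) (Nat.ble 2067 c)
noncomputable def finTab_s_2069_2071 (c : Nat) : Nat := @Bool.rec (fun _ => Nat) (finTab_2069) (finTab_2070) (Nat.ble 2070 c)
noncomputable def finTab_s_2068_2071 (c : Nat) : Nat := @Bool.rec (fun _ => Nat) (finTab_2068) (finTab_s_2069_2071 c) (Nat.ble 2069 c)
noncomputable def finTab_s_2066_2071 (c : Nat) : Nat := @Bool.rec (fun _ => Nat) (finTab_s_2066_2068 c) (finTab_s_2068_2071 c) (Nat.ble 2068 c)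
noncomputable def finTab_s_2072_2074 (c : Nat) : Nat := @Bool.rec (fun _ => Nat) (finTab_2072) (finTab_2073) (Nat.ble 2073 c)
noncomputable def finTab_s_2071_2074 (c : Nat) : Nat := @Bool.rec (fun _ => Nat) (finTab_2071) (finTab_s_2072_2074 c) (Nat.ble 2072 c)
noncomputable def finTab_s_2075_2077 (c : Nat) : Nat := @Bool.rec (fun _ => Nat) (finTab_2075) (finTab_2076) (Nat.ble 2076 c)
noncomputable def finTab_s_2074_2077 (c : Nat) : Nat := @Bool.rec (fun _ => Nat) (finTab_2074) (finTab_s_2075_2077 c) (Nat.ble 2075 c)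
noncomputable def finTab_s_2071_2077 (c : Nat) : Nat := @Bool.rec (fun _ => Nat) (finTab_s_2071_2074 c) (finTab_s_2074_2077 c) (Nat.ble 2074 c)
noncomputable def finTab_s_2066_2077 (c : Nat) : Nat := @Bool.rec (fun _ => Nat) (finTab_s_2066_2071 c) (finTab_s_2071_2077 c) (Nat.ble 2071 c)
noncomputable def finTab_s_2078_2080 (c : Nat) : Nat := @Bool.rec (fun _ => Nat) (finTab_2078) (finTab_2079) (Nat.ble 2079 c)
noncomputable def finTab_s_2077_2080 (c : Nat) : Nat := @Bool.rec (fun _ => Nat) (finTab_2077) (finTab_s_2078_2080 c) (Nat.ble 2078 c)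
noncomputable def finTab_s_2081_2083 (c : Nat) : Nat := @Bool.rec (fun _ => Nat) (finTab_2081) (finTab_2082) (Nat.ble 2082 c)
noncomputable def finTab_s_2080_2083 (c : Nat) : Nat := @Bool.rec (fun _ => Nat) (finTab_2080) (finTab_s_2081_2083 c) (Nat.ble 2081 c)
noncomputable def finTab_s_2077_2083 (c : Nat) : Nat := @Bool.rec (fun _ => Nat) (finTab_s_2077_2080 c) (finTab_s_2080_2083 c) (Nat.ble 2080 c)
noncomputable def finTab_s_2084_2086 (c : Nat) : Nat := @Bool.rec (fun _ => Nat) (finTab_2084) (finTab_2085) (Nat.ble 2085 c)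
noncomputable def finTab_s_2083_2086 (c : Nat) : Nat := @Bool.rec (fun _ => Nat) (finTab_2083) (finTab_s_2084_2086 c) (Nat.ble 2084 c)
noncomputable def finTab_s_2087_2089 (c : Nat) : Nat := @Bool.rec (fun _ => Nat) (finTab_2087) (finTab_2088) (Nat.ble 2088 c)
noncomputable def finTab_s_2086_2089 (c : Nat) : Nat := @Bool.rec (fun _ => Nat) (finTab_2086) (finTab_s_2087_2089 c) (Nat.ble 2087 c)
noncomputable def finTab_s_2083_2089 (c : Nat) : Nat := @Bool.rec (fun _ => Nat) (finTab_s_2083_2086 c) (finTab_s_2086_2089 c) (Nat.ble 2086 c)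
noncomputable def finTab_s_2077_2089 (c : Nat) : Nat := @Bool.rec (fun _ => Nat) (finTab_s_2077_2083 c) (finTab_s_2083_2089 c) (Nat.ble 2083 c)
noncomputable def finTab_s_2066_2089 (c : Nat) : Nat := @Bool.rec (fun _ => Nat) (finTab_s_2066_2077 c) (finTab_s_2077_2089 c) (Nat.ble 2077 c)
noncomputable def finTab_s_2090_2092 (c : Nat) : Nat := @Bool.rec (fun _ => Nat) (finTab_2090) (finTab_2091) (Nat.ble 2091 c)
noncomputable def finTab_s_2089_2092 (c : Nat) : Nat := @Bool.rec (fun _ => Nat) (finTab_2089) (finTab_s_2090_2092 c) (Nat.ble 2090 c)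
noncomputable def finTab_s_2093_2095 (c : Nat) : Nat := @Bool.rec (fun _ => Nat) (finTab_2093) (finTab_2094) (Nat.ble 2094 c)
noncomputable def finTab_s_2092_2095 (c : Nat) : Nat := @Bool.rec (fun _ => Nat) (finTab_2092) (finTab_s_2093_2095 c) (Nat.ble 2093 c)
noncomputable def finTab_s_2089_2095 (c : Nat) : Nat := @Bool.rec (fun _ => Nat) (finTab_s_2089_2092 c) (finTab_s_2092_2095 c) (Nat.ble 2092 c)
noncomputable def finTab_s_2096_2098 (c : Nat) : Nat := @Bool.rec (fun _ => Nat) (finTab_2096) (finTab_2097) (Nat.ble 2097 c)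
noncomputable def finTab_s_2095_2098 (c : Nat) : Nat := @Bool.rec (fun _ => Nat) (finTab_2095) (finTab_s_2096_2098 c) (Nat.ble 2096 c)
noncomputable def finTab_s_2099_2101 (c : Nat) : Nat := @Bool.rec (fun _ => Nat) (finTab_2099) (finTab_2100) (Nat.ble 2100 c)
noncomputable def finTab_s_2098_2101 (c : Nat) : Nat := @Bool.rec (fun _ => Nat) (finTab_2098) (finTab_s_2099_2101 c) (Nat.ble 2099 c)
noncomputable def finTab_s_2095_2101 (c : Nat) : Nat := @Bool.rec (fun _ => Nat) (finTab_s_2095_2098 c) (finTab_s_2098_2101 c) (Nat.ble 2098 c)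
noncomputable def finTab_s_2089_2101 (c : Nat) : Nat := @Bool.rec (fun _ => Nat) (finTab_s_2089_2095 c) (finTab_s_2095_2101 c) (Nat.ble 2095 c)
noncomputable def finTab_s_2102_2104 (c : Nat) : Nat := @Bool.rec (fun _ => Nat) (finTab_2102) (finTab_2103) (Nat.ble 2103 c)
noncomputable def finTab_s_2101_2104 (c : Nat) : Nat := @Bool.rec (fun _ => Nat) (finTab_2101) (finTab_s_2102_2104 c) (Nat.ble 2102 c)
noncomputable def finTab_s_2105_2107 (c : Nat) : Nat := @Bool.rec (fun _ => Nat) (finTab_2105) (finTab_2106) (Nat.ble 2106 c)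
noncomputable def finTab_s_2104_2107 (c : Nat) : Nat := @Bool.rec (fun _ => Nat) (finTab_2104) (finTab_s_2105_2107 c) (Nat.ble 2105 c)
noncomputable def finTab_s_2101_2107 (c : Nat) : Nat := @Bool.rec (fun _ => Nat) (finTab_s_2101_2104 c) (finTab_s_2104_2107 c) (Nat.ble 2104 c)
noncomputable def finTab_s_2108_2110 (c : Nat) : Nat := @Bool.rec (fun _ => Nat) (finTab_2108) (finTab_2109) (Nat.ble 2109 c)
noncomputable def finTab_s_2107_2110 (c : Nat) : Nat := @Bool.rec (fun _ => Nat) (finTab_2107) (finTab_s_2108_2110 c) (Nat.ble 2108 c)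
noncomputable def finTab_s_2111_2113 (c : Nat) : Nat := @Bool.rec (fun _ => Nat) (finTab_2111) (finTab_2112) (Nat.ble 2112 c)
noncomputable def finTab_s_2110_2113 (c : Nat) : Nat := @Bool.rec (fun _ => Nat) (finTab_2110) (finTab_s_2111_2113 c) (Nat.ble 2111 c)
noncomputable def finTab_s_2107_2113 (c : Nat) : Nat := @Bool.rec (fun _ => Nat) (finTab_s_2107_2110 c) (finTab_s_2110_2113 c) (Nat.ble 2110 c)
noncomputable def finTab_s_2101_2113 (c : Nat) : Nat := @Bool.rec (fun _ => Nat) (finTab_s_2101_2107 c) (finTab_s_2107_2113 c) (Nat.ble 2107 c)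
noncomputable def finTab_s_2089_2113 (c : Nat) : Nat := @Bool.rec (fun _ => Nat) (finTab_s_2089_2101 c) (finTab_s_2101_2113 c) (Nat.ble 2101 c)
noncomputable def finTab_s_2066_2113 (c : Nat) : Nat := @Bool.rec (fun _ => Nat) (finTab_s_2066_2089 c) (finTab_s_2089_2113 c) (Nat.ble 2089 c)
noncomputable def finTab_s_2113_2115 (c : Nat) : Nat := @Bool.rec (fun _ => Nat) (finTab_2113) (finTab_2114) (Nat.ble 2114 c)
noncomputable def finTab_s_2116_2118 (c : Nat) : Nat := @Bool.rec (fun _ => Nat) (finTab_2116) (finTab_2117) (Nat.ble 2117 c)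
noncomputable def finTab_s_2115_2118 (c : Nat) : Nat := @Bool.rec (fun _ => Nat) (finTab_2115) (finTab_s_2116_2118 c) (Nat.ble 2116 c)
noncomputable def finTab_s_2113_2118 (c : Nat) : Nat := @Bool.rec (fun _ => Nat) (finTab_s_2113_2115 c) (finTab_s_2115_2118 c) (Nat.ble 2115 c)
noncomputable def finTab_s_2119_2121 (c : Nat) : Nat := @Bool.rec (fun _ => Nat) (finTab_2119) (finTab_2120) (Nat.ble 2120 c)
noncomputable def finTab_s_2118_2121 (c : Nat) : Nat := @Bool.rec (fun _ => Nat) (finTab_2118) (finTab_s_2119_2121 c) (Nat.ble 2119 c)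
noncomputable def finTab_s_2122_2124 (c : Nat) : Nat := @Bool.rec (fun _ => Nat) (finTab_2122) (finTab_2123) (Nat.ble 2123 c)
noncomputable def finTab_s_2121_2124 (c : Nat) : Nat := @Bool.rec (fun _ => Nat) (finTab_2121) (finTab_s_2122_2124 c) (Nat.ble 2122 c)
noncomputable def finTab_s_2118_2124 (c : Nat) : Nat := @Bool.rec (fun _ => Nat) (finTab_s_2118_2121 c) (finTab_s_2121_2124 c) (Nat.ble 2121 c)
noncomputable def finTab_s_2113_2124 (c : Nat) : Nat := @Bool.rec (fun _ => Nat) (finTab_s_2113_2118 c) (finTab_s_2118_2124 c) (Nat.ble 2118 c)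
noncomputable def finTab_s_2125_2127 (c : Nat) : Nat := @Bool.rec (fun _ => Nat) (finTab_2125) (finTab_2126) (Nat.ble 2126 c)
noncomputable def finTab_s_2124_2127 (c : Nat) : Nat := @Bool.rec (fun _ => Nat) (finTab_2124) (finTab_s_2125_2127 c) (Nat.ble 2125 c)
noncomputable def finTab_s_2128_2130 (c : Nat) : Nat := @Bool.rec (fun _ => Nat) (finTab_2128) (finTab_2129) (Nat.ble 2129 c)
noncomputable def finTab_s_2127_2130 (c : Nat) : Nat := @Bool.rec (fun _ => Nat) (finTab_2127) (finTab_s_2128_2130 c) (Nat.ble 2128 c)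
noncomputable def finTab_s_2124_2130 (c : Nat) : Nat := @Bool.rec (fun _ => Nat) (finTab_s_2124_2127 c) (finTab_s_2127_2130 c) (Nat.ble 2127 c)
noncomputable def finTab_s_2131_2133 (c : Nat) : Nat := @Bool.rec (fun _ => Nat) (finTab_2131) (finTab_2132) (Nat.ble 2132 c)
noncomputable def finTab_s_2130_2133 (c : Nat) : Nat := @Bool.rec (fun _ => Nat) (finTab_2130) (finTab_s_2131_2133 c) (Nat.ble 2131 c)
noncomputable def finTab_s_2134_2136 (c : Nat) : Nat := @Bool.rec (fun _ => Nat) (finTab_2134) (finTab_2135) (Nat.ble 2135 c)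
noncomputable def finTab_s_2133_2136 (c : Nat) : Nat := @Bool.rec (fun _ => Nat) (finTab_2133) (finTab_s_2134_2136 c) (Nat.ble 2134 c)
noncomputable def finTab_s_2130_2136 (c : Nat) : Nat := @Bool.rec (fun _ => Nat) (finTab_s_2130_2133 c) (finTab_s_2133_2136 c) (Nat.ble 2133 c)
noncomputable def finTab_s_2124_2136 (c : Nat) : Nat := @Bool.rec (fun _ => Nat) (finTab_s_2124_2130 c) (finTab_s_2130_2136 c) (Nat.ble 2130 c)
noncomputable def finTab_s_2113_2136 (c : Nat) : Nat := @Bool.rec (fun _ => Nat) (finTab_s_2113_2124 c) (finTab_s_2124_2136 c) (Nat.ble 2124 c)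
noncomputable def finTab_s_2137_2139 (c : Nat) : Nat := @Bool.rec (fun _ => Nat) (finTab_2137) (finTab_2138) (Nat.ble 2138 c)
noncomputable def finTab_s_2136_2139 (c : Nat) : Nat := @Bool.rec (fun _ => Nat) (finTab_2136) (finTab_s_2137_2139 c) (Nat.ble 2137 c)
noncomputable def finTab_s_2140_2142 (c : Nat) : Nat := @Bool.rec (fun _ => Nat) (finTab_2140) (finTab_2141) (Nat.ble 2141 c)
noncomputable def finTab_s_2139_2142 (c : Nat) : Nat := @Bool.rec (fun _ => Nat) (finTab_2139) (finTab_s_2140_2142 c) (Nat.ble 2140 c)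
noncomputable def finTab_s_2136_2142 (c : Nat) : Nat := @Bool.rec (fun _ => Nat) (finTab_s_2136_2139 c) (finTab_s_2139_2142 c) (Nat.ble 2139 c)
noncomputable def finTab_s_2143_2145 (c : Nat) : Nat := @Bool.rec (fun _ => Nat) (finTab_2143) (finTab_2144) (Nat.ble 2144 c)
noncomputable def finTab_s_2142_2145 (c : Nat) : Nat := @Bool.rec (fun _ => Nat) (finTab_2142) (finTab_s_2143_2145 c) (Nat.ble 2143 c)
noncomputable def finTab_s_2146_2148 (c : Nat) : Nat := @Bool.rec (fun _ => Nat) (finTab_2146) (finTab_2147) (Nat.ble 2147 c)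
noncomputable def finTab_s_2145_2148 (c : Nat) : Nat := @Bool.rec (fun _ => Nat) (finTab_2145) (finTab_s_2146_2148 c) (Nat.ble 2146 c)
noncomputable def finTab_s_2142_2148 (c : Nat) : Nat := @Bool.rec (fun _ => Nat) (finTab_s_2142_2145 c) (finTab_s_2145_2148 c) (Nat.ble 2145 c)
noncomputable def finTab_s_2136_2148 (c : Nat) : Nat := @Bool.rec (fun _ => Nat) (finTab_s_2136_2142 c) (finTab_s_2142_2148 c) (Nat.ble 2142 c)
noncomputable def finTab_s_2149_2151 (c : Nat) : Nat := @Bool.rec (fun _ => Nat) (finTab_2149) (finTab_2150) (Nat.ble 2150 c)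
noncomputable def finTab_s_2148_2151 (c : Nat) : Nat := @Bool.rec (fun _ => Nat) (finTab_2148) (finTab_s_2149_2151 c) (Nat.ble 2149 c)
noncomputable def finTab_s_2152_2154 (c : Nat) : Nat := @Bool.rec (fun _ => Nat) (finTab_2152) (finTab_2153) (Nat.ble 2153 c)
noncomputable def finTab_s_2151_2154 (c : Nat) : Nat := @Bool.rec (fun _ => Nat) (finTab_2151) (finTab_s_2152_2154 c) (Nat.ble 2152 c)
noncomputable def finTab_s_2148_2154 (c : Nat) : Nat := @Bool.rec (fun _ => Nat) (finTab_s_2148_2151 c) (finTab_s_2151_2154 c) (Nat.ble 2151 c)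
noncomputable def finTab_s_2155_2157 (c : Nat) : Nat := @Bool.rec (fun _ => Nat) (finTab_2155) (finTab_2156) (Nat.ble 2156 c)
noncomputable def finTab_s_2154_2157 (c : Nat) : Nat := @Bool.rec (fun _ => Nat) (finTab_2154) (finTab_s_2155_2157 c) (Nat.ble 2155 c)
noncomputable def finTab_s_2158_2160 (c : Nat) : Nat := @Bool.rec (fun _ => Nat) (finTab_2158) (finTab_2159) (Nat.ble 2159 c)
noncomputable def finTab_s_2157_2160 (c : Nat) : Nat := @Bool.rec (fun _ => Nat) (finTab_2157) (finTab_s_2158_2160 c) (Nat.ble 2158 c)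
noncomputable def finTab_s_2154_2160 (c : Nat) : Nat := @Bool.rec (fun _ => Nat) (finTab_s_2154_2157 c) (finTab_s_2157_2160 c) (Nat.ble 2157 c)
noncomputable def finTab_s_2148_2160 (c : Nat) : Nat := @Bool.rec (fun _ => Nat) (finTab_s_2148_2154 c) (finTab_s_2154_2160 c) (Nat.ble 2154 c)
noncomputable def finTab_s_2136_2160 (c : Nat) : Nat := @Bool.rec (fun _ => Nat) (finTab_s_2136_2148 c) (finTab_s_2148_2160 c) (Nat.ble 2148 c)
noncomputable def finTab_s_2113_2160 (c : Nat) : Nat := @Bool.rec (fun _ => Nat) (finTab_s_2113_2136 c) (finTab_s_2136_2160 c) (Nat.ble 2136 c)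
noncomputable def finTab_s_2066_2160 (c : Nat) : Nat := @Bool.rec (fun _ => Nat) (finTab_s_2066_2113 c) (finTab_s_2113_2160 c) (Nat.ble 2113 c)
noncomputable def finTab_s_2160_2162 (c : Nat) : Nat := @Bool.rec (fun _ => Nat) (finTab_2160) (finTab_2161) (Nat.ble 2161 c)
noncomputable def finTab_s_2163_2165 (c : Nat) : Nat := @Bool.rec (fun _ => Nat) (finTab_2163) (finTab_2164) (Nat.ble 2164 c)
noncomputable def finTab_s_2162_2165 (c : Nat) : Nat := @Bool.rec (fun _ => Nat) (finTab_2162) (finTab_s_2163_2165 c) (Nat.ble 2163 c)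
noncomputable def finTab_s_2160_2165 (c : Nat) : Nat := @Bool.rec (fun _ => Nat) (finTab_s_2160_2162 c) (finTab_s_2162_2165 c) (Nat.ble 2162 c)
noncomputable def finTab_s_2166_2168 (c : Nat) : Nat := @Bool.rec (fun _ => Nat) (finTab_2166) (finTab_2167) (Nat.ble 2167 c)
noncomputable def finTab_s_2165_2168 (c : Nat) : Nat := @Bool.rec (fun _ => Nat) (finTab_2165) (finTab_s_2166_2168 c) (Nat.ble 2166 c)
noncomputable def finTab_s_2169_2171 (c : Nat) : Nat := @Bool.rec (fun _ => Nat) (finTab_2169) (finTab_2170) (Nat.ble 2170 c)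
noncomputable def finTab_s_2168_2171 (c : Nat) : Nat := @Bool.rec (fun _ => Nat) (finTab_2168) (finTab_s_2169_2171 c) (Nat.ble 2169 c)
noncomputable def finTab_s_2165_2171 (c : Nat) : Nat := @Bool.rec (fun _ => Nat) (finTab_s_2165_2168 c) (finTab_s_2168_2171 c) (Nat.ble 2168 c)
noncomputable def finTab_s_2160_2171 (c : Nat) : Nat := @Bool.rec (fun _ => Nat) (finTab_s_2160_2165 c) (finTab_s_2165_2171 c) (Nat.ble 2165 c)
noncomputable def finTab_s_2172_2174 (c : Nat) : Nat := @Bool.rec (fun _ => Nat) (finTab_2172) (finTab_2173) (Nat.ble 2173 c)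
noncomputable def finTab_s_2171_2174 (c : Nat) : Nat := @Bool.rec (fun _ => Nat) (finTab_2171) (finTab_s_2172_2174 c) (Nat.ble 2172 c)
noncomputable def finTab_s_2175_2177 (c : Nat) : Nat := @Bool.rec (fun _ => Nat) (finTab_2175) (finTab_2176) (Nat.ble 2176 c)
noncomputable def finTab_s_2174_2177 (c : Nat) : Nat := @Bool.rec (fun _ => Nat) (finTab_2174) (finTab_s_2175_2177 c) (Nat.ble 2175 c)
noncomputable def finTab_s_2171_2177 (c : Nat) : Nat := @Bool.rec (fun _ => Nat) (finTab_s_2171_2174 c) (finTab_s_2174_2177 c) (Nat.ble 2174 c)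
noncomputable def finTab_s_2178_2180 (c : Nat) : Nat := @Bool.rec (fun _ => Nat) (finTab_2178) (finTab_2179) (Nat.ble 2179 c)
noncomputable def finTab_s_2177_2180 (c : Nat) : Nat := @Bool.rec (fun _ => Nat) (finTab_2177) (finTab_s_2178_2180 c) (Nat.ble 2178 c)
noncomputable def finTab_s_2181_2183 (c : Nat) : Nat := @Bool.rec (fun _ => Nat) (finTab_2181) (finTab_2182) (Nat.ble 2182 c)
noncomputable def finTab_s_2180_2183 (c : Nat) : Nat := @Bool.rec (fun _ => Nat) (finTab_2180) (finTab_s_2181_2183 c) (Nat.ble 2181 c)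
noncomputable def finTab_s_2177_2183 (c : Nat) : Nat := @Bool.rec (fun _ => Nat) (finTab_s_2177_2180 c) (finTab_s_2180_2183 c) (Nat.ble 2180 c)
noncomputable def finTab_s_2171_2183 (c : Nat) : Nat := @Bool.rec (fun _ => Nat) (finTab_s_2171_2177 c) (finTab_s_2177_2183 c) (Nat.ble 2177 c)
noncomputable def finTab_s_2160_2183 (c : Nat) : Nat := @Bool.rec (fun _ => Nat) (finTab_s_2160_2171 c) (finTab_s_2171_2183 c) (Nat.ble 2171 c)
noncomputable def finTab_s_2184_2186 (c : Nat) : Nat := @Bool.rec (fun _ => Nat) (finTab_2184) (finTab_2185) (Nat.ble 2185 c)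
noncomputable def finTab_s_2183_2186 (c : Nat) : Nat := @Bool.rec (fun _ => Nat) (finTab_2183) (finTab_s_2184_2186 c) (Nat.ble 2184 c)
noncomputable def finTab_s_2187_2189 (c : Nat) : Nat := @Bool.rec (fun _ => Nat) (finTab_2187) (finTab_2188) (Nat.ble 2188 c)
noncomputable def finTab_s_2186_2189 (c : Nat) : Nat := @Bool.rec (fun _ => Nat) (finTab_2186) (finTab_s_2187_2189 c) (Nat.ble 2187 c)
noncomputable def finTab_s_2183_2189 (c : Nat) : Nat := @Bool.rec (fun _ => Nat) (finTab_s_2183_2186 c) (finTab_s_2186_2189 c) (Nat.ble 2186 c)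
noncomputable def finTab_s_2190_2192 (c : Nat) : Nat := @Bool.rec (fun _ => Nat) (finTab_2190) (finTab_2191) (Nat.ble 2191 c)
noncomputable def finTab_s_2189_2192 (c : Nat) : Nat := @Bool.rec (fun _ => Nat) (finTab_2189) (finTab_s_2190_2192 c) (Nat.ble 2190 c)
noncomputable def finTab_s_2193_2195 (c : Nat) : Nat := @Bool.rec (fun _ => Nat) (finTab_2193) (finTab_2194) (Nat.ble 2194 c)
noncomputable def finTab_s_2192_2195 (c : Nat) : Nat := @Bool.rec (fun _ => Nat) (finTab_2192) (finTab_s_2193_2195 c) (Nat.ble 2193 c)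
noncomputable def finTab_s_2189_2195 (c : Nat) : Nat := @Bool.rec (fun _ => Nat) (finTab_s_2189_2192 c) (finTab_s_2192_2195 c) (Nat.ble 2192 c)
noncomputable def finTab_s_2183_2195 (c : Nat) : Nat := @Bool.rec (fun _ => Nat) (finTab_s_2183_2189 c) (finTab_s_2189_2195 c) (Nat.ble 2189 c)
noncomputable def finTab_s_2196_2198 (c : Nat) : Nat := @Bool.rec (fun _ => Nat) (finTab_2196) (finTab_2197) (Nat.ble 2197 c)
noncomputable def finTab_s_2195_2198 (c : Nat) : Nat := @Bool.rec (fun _ => Nat) (finTab_2195) (finTab_s_2196_2198 c) (Nat.ble 2196 c)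
noncomputable def finTab_s_2199_2201 (c : Nat) : Nat := @Bool.rec (fun _ => Nat) (finTab_2199) (finTab_2200) (Nat.ble 2200 c)
noncomputable def finTab_s_2198_2201 (c : Nat) : Nat := @Bool.rec (fun _ => Nat) (finTab_2198) (finTab_s_2199_2201 c) (Nat.ble 2199 c)
noncomputable def finTab_s_2195_2201 (c : Nat) : Nat := @Bool.rec (fun _ => Nat) (finTab_s_2195_2198 c) (finTab_s_2198_2201 c) (Nat.ble 2198 c)
noncomputable def finTab_s_2202_2204 (c : Nat) : Nat := @Bool.rec (fun _ => Nat) (finTab_2202) (finTab_2203) (Nat.ble 2203 c)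
noncomputable def finTab_s_2201_2204 (c : Nat) : Nat := @Bool.rec (fun _ => Nat) (finTab_2201) (finTab_s_2202_2204 c) (Nat.ble 2202 c)
noncomputable def finTab_s_2205_2207 (c : Nat) : Nat := @Bool.rec (fun _ => Nat) (finTab_2205) (finTab_2206) (Nat.ble 2206 c)
noncomputable def finTab_s_2204_2207 (c : Nat) : Nat := @Bool.rec (fun _ => Nat) (finTab_2204) (finTab_s_2205_2207 c) (Nat.ble 2205 c)
noncomputable def finTab_s_2201_2207 (c : Nat) : Nat := @Bool.rec (fun _ => Nat) (finTab_s_2201_2204 c) (finTab_s_2204_2207 c) (Nat.ble 2204 c)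
noncomputable def finTab_s_2195_2207 (c : Nat) : Nat := @Bool.rec (fun _ => Nat) (finTab_s_2195_2201 c) (finTab_s_2201_2207 c) (Nat.ble 2201 c)
noncomputable def finTab_s_2183_2207 (c : Nat) : Nat := @Bool.rec (fun _ => Nat) (finTab_s_2183_2195 c) (finTab_s_2195_2207 c) (Nat.ble 2195 c)
noncomputable def finTab_s_2160_2207 (c : Nat) : Nat := @Bool.rec (fun _ => Nat) (finTab_s_2160_2183 c) (finTab_s_2183_2207 c) (Nat.ble 2183 c)
noncomputable def finTab_s_2207_2209 (c : Nat) : Nat := @Bool.rec (fun _ => Nat) (finTab_2207) (finTab_2208) (Nat.ble 2208 c)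
noncomputable def finTab_s_2210_2212 (c : Nat) : Nat := @Bool.rec (fun _ => Nat) (finTab_2210) (finTab_2211) (Nat.ble 2211 c)
noncomputable def finTab_s_2209_2212 (c : Nat) : Nat := @Bool.rec (fun _ => Nat) (finTab_2209) (finTab_s_2210_2212 c) (Nat.ble 2210 c)
noncomputable def finTab_s_2207_2212 (c : Nat) : Nat := @Bool.rec (fun _ => Nat) (finTab_s_2207_2209 c) (finTab_s_2209_2212 c) (Nat.ble 2209 c)
noncomputable def finTab_s_2213_2215 (c : Nat) : Nat := @Bool.rec (fun _ => Nat) (finTab_2213) (finTab_2214) (Nat.ble 2214 c)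
noncomputable def finTab_s_2212_2215 (c : Nat) : Nat := @Bool.rec (fun _ => Nat) (finTab_2212) (finTab_s_2213_2215 c) (Nat.ble 2213 c)
noncomputable def finTab_s_2216_2218 (c : Nat) : Nat := @Bool.rec (fun _ => Nat) (finTab_2216) (finTab_2217) (Nat.ble 2217 c)
noncomputable def finTab_s_2215_2218 (c : Nat) : Nat := @Bool.rec (fun _ => Nat) (finTab_2215) (finTab_s_2216_2218 c) (Nat.ble 2216 c)
noncomputable def finTab_s_2212_2218 (c : Nat) : Nat := @Bool.rec (fun _ => Nat) (finTab_s_2212_2215 c) (finTab_s_2215_2218 c) (Nat.ble 2215 c)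
noncomputable def finTab_s_2207_2218 (c : Nat) : Nat := @Bool.rec (fun _ => Nat) (finTab_s_2207_2212 c) (finTab_s_2212_2218 c) (Nat.ble 2212 c)
noncomputable def finTab_s_2219_2221 (c : Nat) : Nat := @Bool.rec (fun _ => Nat) (finTab_2219) (finTab_2220) (Nat.ble 2220 c)
noncomputable def finTab_s_2218_2221 (c : Nat) : Nat := @Bool.rec (fun _ => Nat) (finTab_2218) (finTab_s_2219_2221 c) (Nat.ble 2219 c)
noncomputable def finTab_s_2222_2224 (c : Nat) : Nat := @Bool.rec (fun _ => Nat) (finTab_2222) (finTab_2223) (Nat.ble 2223 c)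
noncomputable def finTab_s_2221_2224 (c : Nat) : Nat := @Bool.rec (fun _ => Nat) (finTab_2221) (finTab_s_2222_2224 c) (Nat.ble 2222 c)
noncomputable def finTab_s_2218_2224 (c : Nat) : Nat := @Bool.rec (fun _ => Nat) (finTab_s_2218_2221 c) (finTab_s_2221_2224 c) (Nat.ble 2221 c)
noncomputable def finTab_s_2225_2227 (c : Nat) : Nat := @Bool.rec (fun _ => Nat) (finTab_2225) (finTab_2226) (Nat.ble 2226 c)
noncomputable def finTab_s_2224_2227 (c : Nat) : Nat := @Bool.rec (fun _ => Nat) (finTab_2224) (finTab_s_2225_2227 c) (Nat.ble 2225 c)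
noncomputable def finTab_s_2228_2230 (c : Nat) : Nat := @Bool.rec (fun _ => Nat) (finTab_2228) (finTab_2229) (Nat.ble 2229 c)
noncomputable def finTab_s_2227_2230 (c : Nat) : Nat := @Bool.rec (fun _ => Nat) (finTab_2227) (finTab_s_2228_2230 c) (Nat.ble 2228 c)
noncomputable def finTab_s_2224_2230 (c : Nat) : Nat := @Bool.rec (fun _ => Nat) (finTab_s_2224_2227 c) (finTab_s_2227_2230 c) (Nat.ble 2227 c)
noncomputable def finTab_s_2218_2230 (c : Nat) : Nat := @Bool.rec (fun _ => Nat) (finTab_s_2218_2224 c) (finTab_s_2224_2230 c) (Nat.ble 2224 c)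
noncomputable def finTab_s_2207_2230 (c : Nat) : Nat := @Bool.rec (fun _ => Nat) (finTab_s_2207_2218 c) (finTab_s_2218_2230 c) (Nat.ble 2218 c)
noncomputable def finTab_s_2231_2233 (c : Nat) : Nat := @Bool.rec (fun _ => Nat) (finTab_2231) (finTab_2232) (Nat.ble 2232 c)
noncomputable def finTab_s_2230_2233 (c : Nat) : Nat := @Bool.rec (fun _ => Nat) (finTab_2230) (finTab_s_2231_2233 c) (Nat.ble 2231 c)
noncomputable def finTab_s_2234_2236 (c : Nat) : Nat := @Bool.rec (fun _ => Nat) (finTab_2234) (finTab_2235) (Nat.ble 2235 c)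
noncomputable def finTab_s_2233_2236 (c : Nat) : Nat := @Bool.rec (fun _ => Nat) (finTab_2233) (finTab_s_2234_2236 c) (Nat.ble 2234 c)
noncomputable def finTab_s_2230_2236 (c : Nat) : Nat := @Bool.rec (fun _ => Nat) (finTab_s_2230_2233 c) (finTab_s_2233_2236 c) (Nat.ble 2233 c)
noncomputable def finTab_s_2237_2239 (c : Nat) : Nat := @Bool.rec (fun _ => Nat) (finTab_2237) (finTab_2238) (Nat.ble 2238 c)
noncomputable def finTab_s_2236_2239 (c : Nat) : Nat := @Bool.rec (fun _ => Nat) (finTab_2236) (finTab_s_2237_2239 c) (Nat.ble 2237 c)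
noncomputable def finTab_s_2240_2242 (c : Nat) : Nat := @Bool.rec (fun _ => Nat) (finTab_2240) (finTab_2241) (Nat.ble 2241 c)
noncomputable def finTab_s_2239_2242 (c : Nat) : Nat := @Bool.rec (fun _ => Nat) (finTab_2239) (finTab_s_2240_2242 c) (Nat.ble 2240 c)
noncomputable def finTab_s_2236_2242 (c : Nat) : Nat := @Bool.rec (fun _ => Nat) (finTab_s_2236_2239 c) (finTab_s_2239_2242 c) (Nat.ble 2239 c)
noncomputable def finTab_s_2230_2242 (c : Nat) : Nat := @Bool.rec (fun _ => Nat) (finTab_s_2230_2236 c) (finTab_s_2236_2242 c) (Nat.ble 2236 c)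
noncomputable def finTab_s_2243_2245 (c : Nat) : Nat := @Bool.rec (fun _ => Nat) (finTab_2243) (finTab_2244) (Nat.ble 2244 c)
noncomputable def finTab_s_2242_2245 (c : Nat) : Nat := @Bool.rec (fun _ => Nat) (finTab_2242) (finTab_s_2243_2245 c) (Nat.ble 2243 c)
noncomputable def finTab_s_2246_2248 (c : Nat) : Nat := @Bool.rec (fun _ => Nat) (finTab_2246) (finTab_2247) (Nat.ble 2247 c)
noncomputable def finTab_s_2245_2248 (c : Nat) : Nat := @Bool.rec (fun _ => Nat) (finTab_2245) (finTab_s_2246_2248 c) (Nat.ble 2246 c)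
noncomputable def finTab_s_2242_2248 (c : Nat) : Nat := @Bool.rec (fun _ => Nat) (finTab_s_2242_2245 c) (finTab_s_2245_2248 c) (Nat.ble 2245 c)
noncomputable def finTab_s_2249_2251 (c : Nat) : Nat := @Bool.rec (fun _ => Nat) (finTab_2249) (finTab_2250) (Nat.ble 2250 c)
noncomputable def finTab_s_2248_2251 (c : Nat) : Nat := @Bool.rec (fun _ => Nat) (finTab_2248) (finTab_s_2249_2251 c) (Nat.ble 2249 c)
noncomputable def finTab_s_2252_2254 (c : Nat) : Nat := @Bool.rec (fun _ => Nat) (finTab_2252) (finTab_2253) (Nat.ble 2253 c)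
noncomputable def finTab_s_2251_2254 (c : Nat) : Nat := @Bool.rec (fun _ => Nat) (finTab_2251) (finTab_s_2252_2254 c) (Nat.ble 2252 c)
noncomputable def finTab_s_2248_2254 (c : Nat) : Nat := @Bool.rec (fun _ => Nat) (finTab_s_2248_2251 c) (finTab_s_2251_2254 c) (Nat.ble 2251 c)
noncomputable def finTab_s_2242_2254 (c : Nat) : Nat := @Bool.rec (fun _ => Nat) (finTab_s_2242_2248 c) (finTab_s_2248_2254 c) (Nat.ble 2248 c)
noncomputable def finTab_s_2230_2254 (c : Nat) : Nat := @Bool.rec (fun _ => Nat) (finTab_s_2230_2242 c) (finTab_s_2242_2254 c) (Nat.ble 2242 c)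
noncomputable def finTab_s_2207_2254 (c : Nat) : Nat := @Bool.rec (fun _ => Nat) (finTab_s_2207_2230 c) (finTab_s_2230_2254 c) (Nat.ble 2230 c)
noncomputable def finTab_s_2160_2254 (c : Nat) : Nat := @Bool.rec (fun _ => Nat) (finTab_s_2160_2207 c) (finTab_s_2207_2254 c) (Nat.ble 2207 c)
noncomputable def finTab_s_2066_2254 (c : Nat) : Nat := @Bool.rec (fun _ => Nat) (finTab_s_2066_2160 c) (finTab_s_2160_2254 c) (Nat.ble 2160 c)
noncomputable def finTab_s_1878_2254 (c : Nat) : Nat := @Bool.rec (fun _ => Nat) (finTab_s_1878_2066 c) (finTab_s_2066_2254 c) (Nat.ble 2066 c)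
noncomputable def finTab_s_1503_2254 (c : Nat) : Nat := @Bool.rec (fun _ => Nat) (finTab_s_1503_1878 c) (finTab_s_1878_2254 c) (Nat.ble 1878 c)
noncomputable def finTab_s_2254_2256 (c : Nat) : Nat := @Bool.rec (fun _ => Nat) (finTab_2254) (finTab_2255) (Nat.ble 2255 c)
noncomputable def finTab_s_2257_2259 (c : Nat) : Nat := @Bool.rec (fun _ => Nat) (finTab_2257) (finTab_2258) (Nat.ble 2258 c)
noncomputable def finTab_s_2256_2259 (c : Nat) : Nat := @Bool.rec (fun _ => Nat) (finTab_2256) (finTab_s_2257_2259 c) (Nat.ble 2257 c)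
noncomputable def finTab_s_2254_2259 (c : Nat) : Nat := @Bool.rec (fun _ => Nat) (finTab_s_2254_2256 c) (finTab_s_2256_2259 c) (Nat.ble 2256 c)
noncomputable def finTab_s_2260_2262 (c : Nat) : Nat := @Bool.rec (fun _ => Nat) (finTab_2260) (finTab_2261) (Nat.ble 2261 c)
noncomputable def finTab_s_2259_2262 (c : Nat) : Nat := @Bool.rec (fun _ => Nat) (finTab_2259) (finTab_s_2260_2262 c) (Nat.ble 2260 c)
noncomputable def finTab_s_2263_2265 (c : Nat) : Nat := @Bool.rec (fun _ => Nat) (finTab_2263) (finTab_2264) (Nat.ble 2264 c)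
noncomputable def finTab_s_2262_2265 (c : Nat) : Nat := @Bool.rec (fun _ => Nat) (finTab_2262) (finTab_s_2263_2265 c) (Nat.ble 2263 c)
noncomputable def finTab_s_2259_2265 (c : Nat) : Nat := @Bool.rec (fun _ => Nat) (finTab_s_2259_2262 c) (finTab_s_2262_2265 c) (Nat.ble 2262 c)
noncomputable def finTab_s_2254_2265 (c : Nat) : Nat := @Bool.rec (fun _ => Nat) (finTab_s_2254_2259 c) (finTab_s_2259_2265 c) (Nat.ble 2259 c)
noncomputable def finTab_s_2266_2268 (c : Nat) : Nat := @Bool.rec (fun _ => Nat) (finTab_2266) (finTab_2267) (Nat.ble 2267 c)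
noncomputable def finTab_s_2265_2268 (c : Nat) : Nat := @Bool.rec (fun _ => Nat) (finTab_2265) (finTab_s_2266_2268 c) (Nat.ble 2266 c)
noncomputable def finTab_s_2269_2271 (c : Nat) : Nat := @Bool.rec (fun _ => Nat) (finTab_2269) (finTab_2270) (Nat.ble 2270 c)
noncomputable def finTab_s_2268_2271 (c : Nat) : Nat := @Bool.rec (fun _ => Nat) (finTab_2268) (finTab_s_2269_2271 c) (Nat.ble 2269 c)
noncomputable def finTab_s_2265_2271 (c : Nat) : Nat := @Bool.rec (fun _ => Nat) (finTab_s_2265_2268 c) (finTab_s_2268_2271 c) (Nat.ble 2268 c)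
noncomputable def finTab_s_2272_2274 (c : Nat) : Nat := @Bool.rec (fun _ => Nat) (finTab_2272) (finTab_2273) (Nat.ble 2273 c)
noncomputable def finTab_s_2271_2274 (c : Nat) : Nat := @Bool.rec (fun _ => Nat) (finTab_2271) (finTab_s_2272_2274 c) (Nat.ble 2272 c)
noncomputable def finTab_s_2275_2277 (c : Nat) : Nat := @Bool.rec (fun _ => Nat) (finTab_2275) (finTab_2276) (Nat.ble 2276 c)
noncomputable def finTab_s_2274_2277 (c : Nat) : Nat := @Bool.rec (fun _ => Nat) (finTab_2274) (finTab_s_2275_2277 c) (Nat.ble 2275 c)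
noncomputable def finTab_s_2271_2277 (c : Nat) : Nat := @Bool.rec (fun _ => Nat) (finTab_s_2271_2274 c) (finTab_s_2274_2277 c) (Nat.ble 2274 c)
noncomputable def finTab_s_2265_2277 (c : Nat) : Nat := @Bool.rec (fun _ => Nat) (finTab_s_2265_2271 c) (finTab_s_2271_2277 c) (Nat.ble 2271 c)
noncomputable def finTab_s_2254_2277 (c : Nat) : Nat := @Bool.rec (fun _ => Nat) (finTab_s_2254_2265 c) (finTab_s_2265_2277 c) (Nat.ble 2265 c)
noncomputable def finTab_s_2278_2280 (c : Nat) : Nat := @Bool.rec (fun _ => Nat) (finTab_2278) (finTab_2279) (Nat.ble 2279 c)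
noncomputable def finTab_s_2277_2280 (c : Nat) : Nat := @Bool.rec (fun _ => Nat) (finTab_2277) (finTab_s_2278_2280 c) (Nat.ble 2278 c)
noncomputable def finTab_s_2281_2283 (c : Nat) : Nat := @Bool.rec (fun _ => Nat) (finTab_2281) (finTab_2282) (Nat.ble 2282 c)
noncomputable def finTab_s_2280_2283 (c : Nat) : Nat := @Bool.rec (fun _ => Nat) (finTab_2280) (finTab_s_2281_2283 c) (Nat.ble 2281 c)
noncomputable def finTab_s_2277_2283 (c : Nat) : Nat := @Bool.rec (fun _ => Nat) (finTab_s_2277_2280 c) (finTab_s_2280_2283 c) (Nat.ble 2280 c)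
noncomputable def finTab_s_2284_2286 (c : Nat) : Nat := @Bool.rec (fun _ => Nat) (finTab_2284) (finTab_2285) (Nat.ble 2285 c)
noncomputable def finTab_s_2283_2286 (c : Nat) : Nat := @Bool.rec (fun _ => Nat) (finTab_2283) (finTab_s_2284_2286 c) (Nat.ble 2284 c)
noncomputable def finTab_s_2287_2289 (c : Nat) : Nat := @Bool.rec (fun _ => Nat) (finTab_2287) (finTab_2288) (Nat.ble 2288 c)
noncomputable def finTab_s_2286_2289 (c : Nat) : Nat := @Bool.rec (fun _ => Nat) (finTab_2286) (finTab_s_2287_2289 c) (Nat.ble 2287 c)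
noncomputable def finTab_s_2283_2289 (c : Nat) : Nat := @Bool.rec (fun _ => Nat) (finTab_s_2283_2286 c) (finTab_s_2286_2289 c) (Nat.ble 2286 c)
noncomputable def finTab_s_2277_2289 (c : Nat) : Nat := @Bool.rec (fun _ => Nat) (finTab_s_2277_2283 c) (finTab_s_2283_2289 c) (Nat.ble 2283 c)
noncomputable def finTab_s_2290_2292 (c : Nat) : Nat := @Bool.rec (fun _ => Nat) (finTab_2290) (finTab_2291) (Nat.ble 2291 c)
noncomputable def finTab_s_2289_2292 (c : Nat) : Nat := @Bool.rec (fun _ => Nat) (finTab_2289) (finTab_s_2290_2292 c) (Nat.ble 2290 c)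
noncomputable def finTab_s_2293_2295 (c : Nat) : Nat := @Bool.rec (fun _ => Nat) (finTab_2293) (finTab_2294) (Nat.ble 2294 c)
noncomputable def finTab_s_2292_2295 (c : Nat) : Nat := @Bool.rec (fun _ => Nat) (finTab_2292) (finTab_s_2293_2295 c) (Nat.ble 2293 c)
noncomputable def finTab_s_2289_2295 (c : Nat) : Nat := @Bool.rec (fun _ => Nat) (finTab_s_2289_2292 c) (finTab_s_2292_2295 c) (Nat.ble 2292 c)
noncomputable def finTab_s_2296_2298 (c : Nat) : Nat := @Bool.rec (fun _ => Nat) (finTab_2296) (finTab_2297) (Nat.ble 2297 c)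
noncomputable def finTab_s_2295_2298 (c : Nat) : Nat := @Bool.rec (fun _ => Nat) (finTab_2295) (finTab_s_2296_2298 c) (Nat.ble 2296 c)
noncomputable def finTab_s_2299_2301 (c : Nat) : Nat := @Bool.rec (fun _ => Nat) (finTab_2299) (finTab_2300) (Nat.ble 2300 c)
noncomputable def finTab_s_2298_2301 (c : Nat) : Nat := @Bool.rec (fun _ => Nat) (finTab_2298) (finTab_s_2299_2301 c) (Nat.ble 2299 c)
noncomputable def finTab_s_2295_2301 (c : Nat) : Nat := @Bool.rec (fun _ => Nat) (finTab_s_2295_2298 c) (finTab_s_2298_2301 c) (Nat.ble 2298 c)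
noncomputable def finTab_s_2289_2301 (c : Nat) : Nat := @Bool.rec (fun _ => Nat) (finTab_s_2289_2295 c) (finTab_s_2295_2301 c) (Nat.ble 2295 c)
noncomputable def finTab_s_2277_2301 (c : Nat) : Nat := @Bool.rec (fun _ => Nat) (finTab_s_2277_2289 c) (finTab_s_2289_2301 c) (Nat.ble 2289 c)
noncomputable def finTab_s_2254_2301 (c : Nat) : Nat := @Bool.rec (fun _ => Nat) (finTab_s_2254_2277 c) (finTab_s_2277_2301 c) (Nat.ble 2277 c)
noncomputable def finTab_s_2301_2303 (c : Nat) : Nat := @Bool.rec (fun _ => Nat) (finTab_2301) (finTab_2302) (Nat.ble 2302 c)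
noncomputable def finTab_s_2304_2306 (c : Nat) : Nat := @Bool.rec (fun _ => Nat) (finTab_2304) (finTab_2305) (Nat.ble 2305 c)
noncomputable def finTab_s_2303_2306 (c : Nat) : Nat := @Bool.rec (fun _ => Nat) (finTab_2303) (finTab_s_2304_2306 c) (Nat.ble 2304 c)
noncomputable def finTab_s_2301_2306 (c : Nat) : Nat := @Bool.rec (fun _ => Nat) (finTab_s_2301_2303 c) (finTab_s_2303_2306 c) (Nat.ble 2303 c)
noncomputable def finTab_s_2307_2309 (c : Nat) : Nat := @Bool.rec (fun _ => Nat) (finTab_2307) (finTab_2308) (Nat.ble 2308 c)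
noncomputable def finTab_s_2306_2309 (c : Nat) : Nat := @Bool.rec (fun _ => Nat) (finTab_2306) (finTab_s_2307_2309 c) (Nat.ble 2307 c)
noncomputable def finTab_s_2310_2312 (c : Nat) : Nat := @Bool.rec (fun _ => Nat) (finTab_2310) (finTab_2311) (Nat.ble 2311 c)
noncomputable def finTab_s_2309_2312 (c : Nat) : Nat := @Bool.rec (fun _ => Nat) (finTab_2309) (finTab_s_2310_2312 c) (Nat.ble 2310 c)
noncomputable def finTab_s_2306_2312 (c : Nat) : Nat := @Bool.rec (fun _ => Nat) (finTab_s_2306_2309 c) (finTab_s_2309_2312 c) (Nat.ble 2309 c)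
noncomputable def finTab_s_2301_2312 (c : Nat) : Nat := @Bool.rec (fun _ => Nat) (finTab_s_2301_2306 c) (finTab_s_2306_2312 c) (Nat.ble 2306 c)
noncomputable def finTab_s_2313_2315 (c : Nat) : Nat := @Bool.rec (fun _ => Nat) (finTab_2313) (finTab_2314) (Nat.ble 2314 c)
noncomputable def finTab_s_2312_2315 (c : Nat) : Nat := @Bool.rec (fun _ => Nat) (finTab_2312) (finTab_s_2313_2315 c) (Nat.ble 2313 c)
noncomputable def finTab_s_2316_2318 (c : Nat) : Nat := @Bool.rec (fun _ => Nat) (finTab_2316) (finTab_2317) (Nat.ble 2317 c)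
noncomputable def finTab_s_2315_2318 (c : Nat) : Nat := @Bool.rec (fun _ => Nat) (finTab_2315) (finTab_s_2316_2318 c) (Nat.ble 2316 c)
noncomputable def finTab_s_2312_2318 (c : Nat) : Nat := @Bool.rec (fun _ => Nat) (finTab_s_2312_2315 c) (finTab_s_2315_2318 c) (Nat.ble 2315 c)
noncomputable def finTab_s_2319_2321 (c : Nat) : Nat := @Bool.rec (fun _ => Nat) (finTab_2319) (finTab_2320) (Nat.ble 2320 c)
noncomputable def finTab_s_2318_2321 (c : Nat) : Nat := @Bool.rec (fun _ => Nat) (finTab_2318) (finTab_s_2319_2321 c) (Nat.ble 2319 c)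
noncomputable def finTab_s_2322_2324 (c : Nat) : Nat := @Bool.rec (fun _ => Nat) (finTab_2322) (finTab_2323) (Nat.ble 2323 c)
noncomputable def finTab_s_2321_2324 (c : Nat) : Nat := @Bool.rec (fun _ => Nat) (finTab_2321) (finTab_s_2322_2324 c) (Nat.ble 2322 c)
noncomputable def finTab_s_2318_2324 (c : Nat) : Nat := @Bool.rec (fun _ => Nat) (finTab_s_2318_2321 c) (finTab_s_2321_2324 c) (Nat.ble 2321 c)
noncomputable def finTab_s_2312_2324 (c : Nat) : Nat := @Bool.rec (fun _ => Nat) (finTab_s_2312_2318 c) (finTab_s_2318_2324 c) (Nat.ble 2318 c)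
noncomputable def finTab_s_2301_2324 (c : Nat) : Nat := @Bool.rec (fun _ => Nat) (finTab_s_2301_2312 c) (finTab_s_2312_2324 c) (Nat.ble 2312 c)
noncomputable def finTab_s_2325_2327 (c : Nat) : Nat := @Bool.rec (fun _ => Nat) (finTab_2325) (finTab_2326) (Nat.ble 2326 c)
noncomputable def finTab_s_2324_2327 (c : Nat) : Nat := @Bool.rec (fun _ => Nat) (finTab_2324) (finTab_s_2325_2327 c) (Nat.ble 2325 c)
noncomputable def finTab_s_2328_2330 (c : Nat) : Nat := @Bool.rec (fun _ => Nat) (finTab_2328) (finTab_2329) (Nat.ble 2329 c)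
noncomputable def finTab_s_2327_2330 (c : Nat) : Nat := @Bool.rec (fun _ => Nat) (finTab_2327) (finTab_s_2328_2330 c) (Nat.ble 2328 c)
noncomputable def finTab_s_2324_2330 (c : Nat) : Nat := @Bool.rec (fun _ => Nat) (finTab_s_2324_2327 c) (finTab_s_2327_2330 c) (Nat.ble 2327 c)
noncomputable def finTab_s_2331_2333 (c : Nat) : Nat := @Bool.rec (fun _ => Nat) (finTab_2331) (finTab_2332) (Nat.ble 2332 c)
noncomputable def finTab_s_2330_2333 (c : Nat) : Nat := @Bool.rec (fun _ => Nat) (finTab_2330) (finTab_s_2331_2333 c) (Nat.ble 2331 c)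
noncomputable def finTab_s_2334_2336 (c : Nat) : Nat := @Bool.rec (fun _ => Nat) (finTab_2334) (finTab_2335) (Nat.ble 2335 c)
noncomputable def finTab_s_2333_2336 (c : Nat) : Nat := @Bool.rec (fun _ => Nat) (finTab_2333) (finTab_s_2334_2336 c) (Nat.ble 2334 c)
noncomputable def finTab_s_2330_2336 (c : Nat) : Nat := @Bool.rec (fun _ => Nat) (finTab_s_2330_2333 c) (finTab_s_2333_2336 c) (Nat.ble 2333 c)
noncomputable def finTab_s_2324_2336 (c : Nat) : Nat := @Bool.rec (fun _ => Nat) (finTab_s_2324_2330 c) (finTab_s_2330_2336 c) (Nat.ble 2330 c)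
noncomputable def finTab_s_2337_2339 (c : Nat) : Nat := @Bool.rec (fun _ => Nat) (finTab_2337) (finTab_2338) (Nat.ble 2338 c)
noncomputable def finTab_s_2336_2339 (c : Nat) : Nat := @Bool.rec (fun _ => Nat) (finTab_2336) (finTab_s_2337_2339 c) (Nat.ble 2337 c)
noncomputable def finTab_s_2340_2342 (c : Nat) : Nat := @Bool.rec (fun _ => Nat) (finTab_2340) (finTab_2341) (Nat.ble 2341 c)
noncomputable def finTab_s_2339_2342 (c : Nat) : Nat := @Bool.rec (fun _ => Nat) (finTab_2339) (finTab_s_2340_2342 c) (Nat.ble 2340 c)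
noncomputable def finTab_s_2336_2342 (c : Nat) : Nat := @Bool.rec (fun _ => Nat) (finTab_s_2336_2339 c) (finTab_s_2339_2342 c) (Nat.ble 2339 c)
noncomputable def finTab_s_2343_2345 (c : Nat) : Nat := @Bool.rec (fun _ => Nat) (finTab_2343) (finTab_2344) (Nat.ble 2344 c)
noncomputable def finTab_s_2342_2345 (c : Nat) : Nat := @Bool.rec (fun _ => Nat) (finTab_2342) (finTab_s_2343_2345 c) (Nat.ble 2343 c)
noncomputable def finTab_s_2346_2348 (c : Nat) : Nat := @Bool.rec (fun _ => Nat) (finTab_2346) (finTab_2347) (Nat.ble 2347 c)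
noncomputable def finTab_s_2345_2348 (c : Nat) : Nat := @Bool.rec (fun _ => Nat) (finTab_2345) (finTab_s_2346_2348 c) (Nat.ble 2346 c)
noncomputable def finTab_s_2342_2348 (c : Nat) : Nat := @Bool.rec (fun _ => Nat) (finTab_s_2342_2345 c) (finTab_s_2345_2348 c) (Nat.ble 2345 c)
noncomputable def finTab_s_2336_2348 (c : Nat) : Nat := @Bool.rec (fun _ => Nat) (finTab_s_2336_2342 c) (finTab_s_2342_2348 c) (Nat.ble 2342 c)
noncomputable def finTab_s_2324_2348 (c : Nat) : Nat := @Bool.rec (fun _ => Nat) (finTab_s_2324_2336 c) (finTab_s_2336_2348 c) (Nat.ble 2336 c)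
noncomputable def finTab_s_2301_2348 (c : Nat) : Nat := @Bool.rec (fun _ => Nat) (finTab_s_2301_2324 c) (finTab_s_2324_2348 c) (Nat.ble 2324 c)
noncomputable def finTab_s_2254_2348 (c : Nat) : Nat := @Bool.rec (fun _ => Nat) (finTab_s_2254_2301 c) (finTab_s_2301_2348 c) (Nat.ble 2301 c)
noncomputable def finTab_s_2348_2350 (c : Nat) : Nat := @Bool.rec (fun _ => Nat) (finTab_2348) (finTab_2349) (Nat.ble 2349 c)
noncomputable def finTab_s_2351_2353 (c : Nat) : Nat := @Bool.rec (fun _ => Nat) (finTab_2351) (finTab_2352) (Nat.ble 2352 c)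
noncomputable def finTab_s_2350_2353 (c : Nat) : Nat := @Bool.rec (fun _ => Nat) (finTab_2350) (finTab_s_2351_2353 c) (Nat.ble 2351 c)
noncomputable def finTab_s_2348_2353 (c : Nat) : Nat := @Bool.rec (fun _ => Nat) (finTab_s_2348_2350 c) (finTab_s_2350_2353 c) (Nat.ble 2350 c)
noncomputable def finTab_s_2354_2356 (c : Nat) : Nat := @Bool.rec (fun _ => Nat) (finTab_2354) (finTab_2355) (Nat.ble 2355 c)
noncomputable def finTab_s_2353_2356 (c : Nat) : Nat := @Bool.rec (fun _ => Nat) (finTab_2353) (finTab_s_2354_2356 c) (Nat.ble 2354 c)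
noncomputable def finTab_s_2357_2359 (c : Nat) : Nat := @Bool.rec (fun _ => Nat) (finTab_2357) (finTab_2358) (Nat.ble 2358 c)
noncomputable def finTab_s_2356_2359 (c : Nat) : Nat := @Bool.rec (fun _ => Nat) (finTab_2356) (finTab_s_2357_2359 c) (Nat.ble 2357 c)
noncomputable def finTab_s_2353_2359 (c : Nat) : Nat := @Bool.rec (fun _ => Nat) (finTab_s_2353_2356 c) (finTab_s_2356_2359 c) (Nat.ble 2356 c)
noncomputable def finTab_s_2348_2359 (c : Nat) : Nat := @Bool.rec (fun _ => Nat) (finTab_s_2348_2353 c) (finTab_s_2353_2359 c) (Nat.ble 2353 c)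
noncomputable def finTab_s_2360_2362 (c : Nat) : Nat := @Bool.rec (fun _ => Nat) (finTab_2360) (finTab_2361) (Nat.ble 2361 c)
noncomputable def finTab_s_2359_2362 (c : Nat) : Nat := @Bool.rec (fun _ => Nat) (finTab_2359) (finTab_s_2360_2362 c) (Nat.ble 2360 c)
noncomputable def finTab_s_2363_2365 (c : Nat) : Nat := @Bool.rec (fun _ => Nat) (finTab_2363) (finTab_2364) (Nat.ble 2364 c)
noncomputable def finTab_s_2362_2365 (c : Nat) : Nat := @Bool.rec (fun _ => Nat) (finTab_2362) (finTab_s_2363_2365 c) (Nat.ble 2363 c)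
noncomputable def finTab_s_2359_2365 (c : Nat) : Nat := @Bool.rec (fun _ => Nat) (finTab_s_2359_2362 c) (finTab_s_2362_2365 c) (Nat.ble 2362 c)
noncomputable def finTab_s_2366_2368 (c : Nat) : Nat := @Bool.rec (fun _ => Nat) (finTab_2366) (finTab_2367) (Nat.ble 2367 c)
noncomputable def finTab_s_2365_2368 (c : Nat) : Nat := @Bool.rec (fun _ => Nat) (finTab_2365) (finTab_s_2366_2368 c) (Nat.ble 2366 c)
noncomputable def finTab_s_2369_2371 (c : Nat) : Nat := @Bool.rec (fun _ => Nat) (finTab_2369) (finTab_2370) (Nat.ble 2370 c)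
noncomputable def finTab_s_2368_2371 (c : Nat) : Nat := @Bool.rec (fun _ => Nat) (finTab_2368) (finTab_s_2369_2371 c) (Nat.ble 2369 c)
noncomputable def finTab_s_2365_2371 (c : Nat) : Nat := @Bool.rec (fun _ => Nat) (finTab_s_2365_2368 c) (finTab_s_2368_2371 c) (Nat.ble 2368 c)
noncomputable def finTab_s_2359_2371 (c : Nat) : Nat := @Bool.rec (fun _ => Nat) (finTab_s_2359_2365 c) (finTab_s_2365_2371 c) (Nat.ble 2365 c)
noncomputable def finTab_s_2348_2371 (c : Nat) : Nat := @Bool.rec (fun _ => Nat) (finTab_s_2348_2359 c) (finTab_s_2359_2371 c) (Nat.ble 2359 c)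
noncomputable def finTab_s_2372_2374 (c : Nat) : Nat := @Bool.rec (fun _ => Nat) (finTab_2372) (finTab_2373) (Nat.ble 2373 c)
noncomputable def finTab_s_2371_2374 (c : Nat) : Nat := @Bool.rec (fun _ => Nat) (finTab_2371) (finTab_s_2372_2374 c) (Nat.ble 2372 c)
noncomputable def finTab_s_2375_2377 (c : Nat) : Nat := @Bool.rec (fun _ => Nat) (finTab_2375) (finTab_2376) (Nat.ble 2376 c)
noncomputable def finTab_s_2374_2377 (c : Nat) : Nat := @Bool.rec (fun _ => Nat) (finTab_2374) (finTab_s_2375_2377 c) (Nat.ble 2375 c)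
noncomputable def finTab_s_2371_2377 (c : Nat) : Nat := @Bool.rec (fun _ => Nat) (finTab_s_2371_2374 c) (finTab_s_2374_2377 c) (Nat.ble 2374 c)
noncomputable def finTab_s_2378_2380 (c : Nat) : Nat := @Bool.rec (fun _ => Nat) (finTab_2378) (finTab_2379) (Nat.ble 2379 c)
noncomputable def finTab_s_2377_2380 (c : Nat) : Nat := @Bool.rec (fun _ => Nat) (finTab_2377) (finTab_s_2378_2380 c) (Nat.ble 2378 c)
noncomputable def finTab_s_2381_2383 (c : Nat) : Nat := @Bool.rec (fun _ => Nat) (finTab_2381) (finTab_2382) (Nat.ble 2382 c)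
noncomputable def finTab_s_2380_2383 (c : Nat) : Nat := @Bool.rec (fun _ => Nat) (finTab_2380) (finTab_s_2381_2383 c) (Nat.ble 2381 c)
noncomputable def finTab_s_2377_2383 (c : Nat) : Nat := @Bool.rec (fun _ => Nat) (finTab_s_2377_2380 c) (finTab_s_2380_2383 c) (Nat.ble 2380 c)
noncomputable def finTab_s_2371_2383 (c : Nat) : Nat := @Bool.rec (fun _ => Nat) (finTab_s_2371_2377 c) (finTab_s_2377_2383 c) (Nat.ble 2377 c)
noncomputable def finTab_s_2384_2386 (c : Nat) : Nat := @Bool.rec (fun _ => Nat) (finTab_2384) (finTab_2385) (Nat.ble 2385 c)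
noncomputable def finTab_s_2383_2386 (c : Nat) : Nat := @Bool.rec (fun _ => Nat) (finTab_2383) (finTab_s_2384_2386 c) (Nat.ble 2384 c)
noncomputable def finTab_s_2387_2389 (c : Nat) : Nat := @Bool.rec (fun _ => Nat) (finTab_2387) (finTab_2388) (Nat.ble 2388 c)
noncomputable def finTab_s_2386_2389 (c : Nat) : Nat := @Bool.rec (fun _ => Nat) (finTab_2386) (finTab_s_2387_2389 c) (Nat.ble 2387 c)
noncomputable def finTab_s_2383_2389 (c : Nat) : Nat := @Bool.rec (fun _ => Nat) (finTab_s_2383_2386 c) (finTab_s_2386_2389 c) (Nat.ble 2386 c)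
noncomputable def finTab_s_2390_2392 (c : Nat) : Nat := @Bool.rec (fun _ => Nat) (finTab_2390) (finTab_2391) (Nat.ble 2391 c)
noncomputable def finTab_s_2389_2392 (c : Nat) : Nat := @Bool.rec (fun _ => Nat) (finTab_2389) (finTab_s_2390_2392 c) (Nat.ble 2390 c)
noncomputable def finTab_s_2393_2395 (c : Nat) : Nat := @Bool.rec (fun _ => Nat) (finTab_2393) (finTab_2394) (Nat.ble 2394 c)
noncomputable def finTab_s_2392_2395 (c : Nat) : Nat := @Bool.rec (fun _ => Nat) (finTab_2392) (finTab_s_2393_2395 c) (Nat.ble 2393 c)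
noncomputable def finTab_s_2389_2395 (c : Nat) : Nat := @Bool.rec (fun _ => Nat) (finTab_s_2389_2392 c) (finTab_s_2392_2395 c) (Nat.ble 2392 c)
noncomputable def finTab_s_2383_2395 (c : Nat) : Nat := @Bool.rec (fun _ => Nat) (finTab_s_2383_2389 c) (finTab_s_2389_2395 c) (Nat.ble 2389 c)
noncomputable def finTab_s_2371_2395 (c : Nat) : Nat := @Bool.rec (fun _ => Nat) (finTab_s_2371_2383 c) (finTab_s_2383_2395 c) (Nat.ble 2383 c)
noncomputable def finTab_s_2348_2395 (c : Nat) : Nat := @Bool.rec (fun _ => Nat) (finTab_s_2348_2371 c) (finTab_s_2371_2395 c) (Nat.ble 2371 c)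
noncomputable def finTab_s_2395_2397 (c : Nat) : Nat := @Bool.rec (fun _ => Nat) (finTab_2395) (finTab_2396) (Nat.ble 2396 c)
noncomputable def finTab_s_2398_2400 (c : Nat) : Nat := @Bool.rec (fun _ => Nat) (finTab_2398) (finTab_2399) (Nat.ble 2399 c)
noncomputable def finTab_s_2397_2400 (c : Nat) : Nat := @Bool.rec (fun _ => Nat) (finTab_2397) (finTab_s_2398_2400 c) (Nat.ble 2398 c)
noncomputable def finTab_s_2395_2400 (c : Nat) : Nat := @Bool.rec (fun _ => Nat) (finTab_s_2395_2397 c) (finTab_s_2397_2400 c) (Nat.ble 2397 c)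
noncomputable def finTab_s_2401_2403 (c : Nat) : Nat := @Bool.rec (fun _ => Nat) (finTab_2401) (finTab_2402) (Nat.ble 2402 c)
noncomputable def finTab_s_2400_2403 (c : Nat) : Nat := @Bool.rec (fun _ => Nat) (finTab_2400) (finTab_s_2401_2403 c) (Nat.ble 2401 c)
noncomputable def finTab_s_2404_2406 (c : Nat) : Nat := @Bool.rec (fun _ => Nat) (finTab_2404) (finTab_2405) (Nat.ble 2405 c)
noncomputable def finTab_s_2403_2406 (c : Nat) : Nat := @Bool.rec (fun _ => Nat) (finTab_2403) (finTab_s_2404_2406 c) (Nat.ble 2404 c)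
noncomputable def finTab_s_2400_2406 (c : Nat) : Nat := @Bool.rec (fun _ => Nat) (finTab_s_2400_2403 c) (finTab_s_2403_2406 c) (Nat.ble 2403 c)
noncomputable def finTab_s_2395_2406 (c : Nat) : Nat := @Bool.rec (fun _ => Nat) (finTab_s_2395_2400 c) (finTab_s_2400_2406 c) (Nat.ble 2400 c)
noncomputable def finTab_s_2407_2409 (c : Nat) : Nat := @Bool.rec (fun _ => Nat) (finTab_2407) (finTab_2408) (Nat.ble 2408 c)
noncomputable def finTab_s_2406_2409 (c : Nat) : Nat := @Bool.rec (fun _ => Nat) (finTab_2406) (finTab_s_2407_2409 c) (Nat.ble 2407 c)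
noncomputable def finTab_s_2410_2412 (c : Nat) : Nat := @Bool.rec (fun _ => Nat) (finTab_2410) (finTab_2411) (Nat.ble 2411 c)
noncomputable def finTab_s_2409_2412 (c : Nat) : Nat := @Bool.rec (fun _ => Nat) (finTab_2409) (finTab_s_2410_2412 c) (Nat.ble 2410 c)
noncomputable def finTab_s_2406_2412 (c : Nat) : Nat := @Bool.rec (fun _ => Nat) (finTab_s_2406_2409 c) (finTab_s_2409_2412 c) (Nat.ble 2409 c)
noncomputable def finTab_s_2413_2415 (c : Nat) : Nat := @Bool.rec (fun _ => Nat) (finTab_2413) (finTab_2414) (Nat.ble 2414 c)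
noncomputable def finTab_s_2412_2415 (c : Nat) : Nat := @Bool.rec (fun _ => Nat) (finTab_2412) (finTab_s_2413_2415 c) (Nat.ble 2413 c)
noncomputable def finTab_s_2416_2418 (c : Nat) : Nat := @Bool.rec (fun _ => Nat) (finTab_2416) (finTab_2417) (Nat.ble 2417 c)
noncomputable def finTab_s_2415_2418 (c : Nat) : Nat := @Bool.rec (fun _ => Nat) (finTab_2415) (finTab_s_2416_2418 c) (Nat.ble 2416 c)
noncomputable def finTab_s_2412_2418 (c : Nat) : Nat := @Bool.rec (fun _ => Nat) (finTab_s_2412_2415 c) (finTab_s_2415_2418 c) (Nat.ble 2415 c)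
noncomputable def finTab_s_2406_2418 (c : Nat) : Nat := @Bool.rec (fun _ => Nat) (finTab_s_2406_2412 c) (finTab_s_2412_2418 c) (Nat.ble 2412 c)
noncomputable def finTab_s_2395_2418 (c : Nat) : Nat := @Bool.rec (fun _ => Nat) (finTab_s_2395_2406 c) (finTab_s_2406_2418 c) (Nat.ble 2406 c)
noncomputable def finTab_s_2419_2421 (c : Nat) : Nat := @Bool.rec (fun _ => Nat) (finTab_2419) (finTab_2420) (Nat.ble 2420 c)
noncomputable def finTab_s_2418_2421 (c : Nat) : Nat := @Bool.rec (fun _ => Nat) (finTab_2418) (finTab_s_2419_2421 c) (Nat.ble 2419 c)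
noncomputable def finTab_s_2422_2424 (c : Nat) : Nat := @Bool.rec (fun _ => Nat) (finTab_2422) (finTab_2423) (Nat.ble 2423 c)
noncomputable def finTab_s_2421_2424 (c : Nat) : Nat := @Bool.rec (fun _ => Nat) (finTab_2421) (finTab_s_2422_2424 c) (Nat.ble 2422 c)
noncomputable def finTab_s_2418_2424 (c : Nat) : Nat := @Bool.rec (fun _ => Nat) (finTab_s_2418_2421 c) (finTab_s_2421_2424 c) (Nat.ble 2421 c)
noncomputable def finTab_s_2425_2427 (c : Nat) : Nat := @Bool.rec (fun _ => Nat) (finTab_2425) (finTab_2426) (Nat.ble 2426 c)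
noncomputable def finTab_s_2424_2427 (c : Nat) : Nat := @Bool.rec (fun _ => Nat) (finTab_2424) (finTab_s_2425_2427 c) (Nat.ble 2425 c)
noncomputable def finTab_s_2428_2430 (c : Nat) : Nat := @Bool.rec (fun _ => Nat) (finTab_2428) (finTab_2429) (Nat.ble 2429 c)
noncomputable def finTab_s_2427_2430 (c : Nat) : Nat := @Bool.rec (fun _ => Nat) (finTab_2427) (finTab_s_2428_2430 c) (Nat.ble 2428 c)
noncomputable def finTab_s_2424_2430 (c : Nat) : Nat := @Bool.rec (fun _ => Nat) (finTab_s_2424_2427 c) (finTab_s_2427_2430 c) (Nat.ble 2427 c)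
noncomputable def finTab_s_2418_2430 (c : Nat) : Nat := @Bool.rec (fun _ => Nat) (finTab_s_2418_2424 c) (finTab_s_2424_2430 c) (Nat.ble 2424 c)
noncomputable def finTab_s_2431_2433 (c : Nat) : Nat := @Bool.rec (fun _ => Nat) (finTab_2431) (finTab_2432) (Nat.ble 2432 c)
noncomputable def finTab_s_2430_2433 (c : Nat) : Nat := @Bool.rec (fun _ => Nat) (finTab_2430) (finTab_s_2431_2433 c) (Nat.ble 2431 c)
noncomputable def finTab_s_2434_2436 (c : Nat) : Nat := @Bool.rec (fun _ => Nat) (finTab_2434) (finTab_2435) (Nat.ble 2435 c)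
noncomputable def finTab_s_2433_2436 (c : Nat) : Nat := @Bool.rec (fun _ => Nat) (finTab_2433) (finTab_s_2434_2436 c) (Nat.ble 2434 c)
noncomputable def finTab_s_2430_2436 (c : Nat) : Nat := @Bool.rec (fun _ => Nat) (finTab_s_2430_2433 c) (finTab_s_2433_2436 c) (Nat.ble 2433 c)
noncomputable def finTab_s_2437_2439 (c : Nat) : Nat := @Bool.rec (fun _ => Nat) (finTab_2437) (finTab_2438) (Nat.ble 2438 c)
noncomputable def finTab_s_2436_2439 (c : Nat) : Nat := @Bool.rec (fun _ => Nat) (finTab_2436) (finTab_s_2437_2439 c) (Nat.ble 2437 c)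
noncomputable def finTab_s_2440_2442 (c : Nat) : Nat := @Bool.rec (fun _ => Nat) (finTab_2440) (finTab_2441) (Nat.ble 2441 c)
noncomputable def finTab_s_2439_2442 (c : Nat) : Nat := @Bool.rec (fun _ => Nat) (finTab_2439) (finTab_s_2440_2442 c) (Nat.ble 2440 c)
noncomputable def finTab_s_2436_2442 (c : Nat) : Nat := @Bool.rec (fun _ => Nat) (finTab_s_2436_2439 c) (finTab_s_2439_2442 c) (Nat.ble 2439 c)
noncomputable def finTab_s_2430_2442 (c : Nat) : Nat := @Bool.rec (fun _ => Nat) (finTab_s_2430_2436 c) (finTab_s_2436_2442 c) (Nat.ble 2436 c)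
noncomputable def finTab_s_2418_2442 (c : Nat) : Nat := @Bool.rec (fun _ => Nat) (finTab_s_2418_2430 c) (finTab_s_2430_2442 c) (Nat.ble 2430 c)
noncomputable def finTab_s_2395_2442 (c : Nat) : Nat := @Bool.rec (fun _ => Nat) (finTab_s_2395_2418 c) (finTab_s_2418_2442 c) (Nat.ble 2418 c)
noncomputable def finTab_s_2348_2442 (c : Nat) : Nat := @Bool.rec (fun _ => Nat) (finTab_s_2348_2395 c) (finTab_s_2395_2442 c) (Nat.ble 2395 c)
noncomputable def finTab_s_2254_2442 (c : Nat) : Nat := @Bool.rec (fun _ => Nat) (finTab_s_2254_2348 c) (finTab_s_2348_2442 c) (Nat.ble 2348 c)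
noncomputable def finTab_s_2442_2444 (c : Nat) : Nat := @Bool.rec (fun _ => Nat) (finTab_2442) (finTab_2443) (Nat.ble 2443 c)
noncomputable def finTab_s_2445_2447 (c : Nat) : Nat := @Bool.rec (fun _ => Nat) (finTab_2445) (finTab_2446) (Nat.ble 2446 c)
noncomputable def finTab_s_2444_2447 (c : Nat) : Nat := @Bool.rec (fun _ => Nat) (finTab_2444) (finTab_s_2445_2447 c) (Nat.ble 2445 c)
noncomputable def finTab_s_2442_2447 (c : Nat) : Nat := @Bool.rec (fun _ => Nat) (finTab_s_2442_2444 c) (finTab_s_2444_2447 c) (Nat.ble 2444 c)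
noncomputable def finTab_s_2448_2450 (c : Nat) : Nat := @Bool.rec (fun _ => Nat) (finTab_2448) (finTab_2449) (Nat.ble 2449 c)
noncomputable def finTab_s_2447_2450 (c : Nat) : Nat := @Bool.rec (fun _ => Nat) (finTab_2447) (finTab_s_2448_2450 c) (Nat.ble 2448 c)
noncomputable def finTab_s_2451_2453 (c : Nat) : Nat := @Bool.rec (fun _ => Nat) (finTab_2451) (finTab_2452) (Nat.ble 2452 c)
noncomputable def finTab_s_2450_2453 (c : Nat) : Nat := @Bool.rec (fun _ => Nat) (finTab_2450) (finTab_s_2451_2453 c) (Nat.ble 2451 c)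
noncomputable def finTab_s_2447_2453 (c : Nat) : Nat := @Bool.rec (fun _ => Nat) (finTab_s_2447_2450 c) (finTab_s_2450_2453 c) (Nat.ble 2450 c)
noncomputable def finTab_s_2442_2453 (c : Nat) : Nat := @Bool.rec (fun _ => Nat) (finTab_s_2442_2447 c) (finTab_s_2447_2453 c) (Nat.ble 2447 c)
noncomputable def finTab_s_2454_2456 (c : Nat) : Nat := @Bool.rec (fun _ => Nat) (finTab_2454) (finTab_2455) (Nat.ble 2455 c)
noncomputable def finTab_s_2453_2456 (c : Nat) : Nat := @Bool.rec (fun _ => Nat) (finTab_2453) (finTab_s_2454_2456 c) (Nat.ble 2454 c)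
noncomputable def finTab_s_2457_2459 (c : Nat) : Nat := @Bool.rec (fun _ => Nat) (finTab_2457) (finTab_2458) (Nat.ble 2458 c)
noncomputable def finTab_s_2456_2459 (c : Nat) : Nat := @Bool.rec (fun _ => Nat) (finTab_2456) (finTab_s_2457_2459 c) (Nat.ble 2457 c)
noncomputable def finTab_s_2453_2459 (c : Nat) : Nat := @Bool.rec (fun _ => Nat) (finTab_s_2453_2456 c) (finTab_s_2456_2459 c) (Nat.ble 2456 c)
noncomputable def finTab_s_2460_2462 (c : Nat) : Nat := @Bool.rec (fun _ => Nat) (finTab_2460) (finTab_2461) (Nat.ble 2461 c)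
noncomputable def finTab_s_2459_2462 (c : Nat) : Nat := @Bool.rec (fun _ => Nat) (finTab_2459) (finTab_s_2460_2462 c) (Nat.ble 2460 c)
noncomputable def finTab_s_2463_2465 (c : Nat) : Nat := @Bool.rec (fun _ => Nat) (finTab_2463) (finTab_2464) (Nat.ble 2464 c)
noncomputable def finTab_s_2462_2465 (c : Nat) : Nat := @Bool.rec (fun _ => Nat) (finTab_2462) (finTab_s_2463_2465 c) (Nat.ble 2463 c)
noncomputable def finTab_s_2459_2465 (c : Nat) : Nat := @Bool.rec (fun _ => Nat) (finTab_s_2459_2462 c) (finTab_s_2462_2465 c) (Nat.ble 2462 c)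
noncomputable def finTab_s_2453_2465 (c : Nat) : Nat := @Bool.rec (fun _ => Nat) (finTab_s_2453_2459 c) (finTab_s_2459_2465 c) (Nat.ble 2459 c)
noncomputable def finTab_s_2442_2465 (c : Nat) : Nat := @Bool.rec (fun _ => Nat) (finTab_s_2442_2453 c) (finTab_s_2453_2465 c) (Nat.ble 2453 c)
noncomputable def finTab_s_2466_2468 (c : Nat) : Nat := @Bool.rec (fun _ => Nat) (finTab_2466) (finTab_2467) (Nat.ble 2467 c)
noncomputable def finTab_s_2465_2468 (c : Nat) : Nat := @Bool.rec (fun _ => Nat) (finTab_2465) (finTab_s_2466_2468 c) (Nat.ble 2466 c)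
noncomputable def finTab_s_2469_2471 (c : Nat) : Nat := @Bool.rec (fun _ => Nat) (finTab_2469) (finTab_2470) (Nat.ble 2470 c)
noncomputable def finTab_s_2468_2471 (c : Nat) : Nat := @Bool.rec (fun _ => Nat) (finTab_2468) (finTab_s_2469_2471 c) (Nat.ble 2469 c)
noncomputable def finTab_s_2465_2471 (c : Nat) : Nat := @Bool.rec (fun _ => Nat) (finTab_s_2465_2468 c) (finTab_s_2468_2471 c) (Nat.ble 2468 c)
noncomputable def finTab_s_2472_2474 (c : Nat) : Nat := @Bool.rec (fun _ => Nat) (finTab_2472) (finTab_2473) (Nat.ble 2473 c)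
noncomputable def finTab_s_2471_2474 (c : Nat) : Nat := @Bool.rec (fun _ => Nat) (finTab_2471) (finTab_s_2472_2474 c) (Nat.ble 2472 c)
noncomputable def finTab_s_2475_2477 (c : Nat) : Nat := @Bool.rec (fun _ => Nat) (finTab_2475) (finTab_2476) (Nat.ble 2476 c)
noncomputable def finTab_s_2474_2477 (c : Nat) : Nat := @Bool.rec (fun _ => Nat) (finTab_2474) (finTab_s_2475_2477 c) (Nat.ble 2475 c)
noncomputable def finTab_s_2471_2477 (c : Nat) : Nat := @Bool.rec (fun _ => Nat) (finTab_s_2471_2474 c) (finTab_s_2474_2477 c) (Nat.ble 2474 c)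
noncomputable def finTab_s_2465_2477 (c : Nat) : Nat := @Bool.rec (fun _ => Nat) (finTab_s_2465_2471 c) (finTab_s_2471_2477 c) (Nat.ble 2471 c)
noncomputable def finTab_s_2478_2480 (c : Nat) : Nat := @Bool.rec (fun _ => Nat) (finTab_2478) (finTab_2479) (Nat.ble 2479 c)
noncomputable def finTab_s_2477_2480 (c : Nat) : Nat := @Bool.rec (fun _ => Nat) (finTab_2477) (finTab_s_2478_2480 c) (Nat.ble 2478 c)
noncomputable def finTab_s_2481_2483 (c : Nat) : Nat := @Bool.rec (fun _ => Nat) (finTab_2481) (finTab_2482) (Nat.ble 2482 c)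
noncomputable def finTab_s_2480_2483 (c : Nat) : Nat := @Bool.rec (fun _ => Nat) (finTab_2480) (finTab_s_2481_2483 c) (Nat.ble 2481 c)
noncomputable def finTab_s_2477_2483 (c : Nat) : Nat := @Bool.rec (fun _ => Nat) (finTab_s_2477_2480 c) (finTab_s_2480_2483 c) (Nat.ble 2480 c)
noncomputable def finTab_s_2484_2486 (c : Nat) : Nat := @Bool.rec (fun _ => Nat) (finTab_2484) (finTab_2485) (Nat.ble 2485 c)
noncomputable def finTab_s_2483_2486 (c : Nat) : Nat := @Bool.rec (fun _ => Nat) (finTab_2483) (finTab_s_2484_2486 c) (Nat.ble 2484 c)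
noncomputable def finTab_s_2487_2489 (c : Nat) : Nat := @Bool.rec (fun _ => Nat) (finTab_2487) (finTab_2488) (Nat.ble 2488 c)
noncomputable def finTab_s_2486_2489 (c : Nat) : Nat := @Bool.rec (fun _ => Nat) (finTab_2486) (finTab_s_2487_2489 c) (Nat.ble 2487 c)
noncomputable def finTab_s_2483_2489 (c : Nat) : Nat := @Bool.rec (fun _ => Nat) (finTab_s_2483_2486 c) (finTab_s_2486_2489 c) (Nat.ble 2486 c)
noncomputable def finTab_s_2477_2489 (c : Nat) : Nat := @Bool.rec (fun _ => Nat) (finTab_s_2477_2483 c) (finTab_s_2483_2489 c) (Nat.ble 2483 c)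
noncomputable def finTab_s_2465_2489 (c : Nat) : Nat := @Bool.rec (fun _ => Nat) (finTab_s_2465_2477 c) (finTab_s_2477_2489 c) (Nat.ble 2477 c)
noncomputable def finTab_s_2442_2489 (c : Nat) : Nat := @Bool.rec (fun _ => Nat) (finTab_s_2442_2465 c) (finTab_s_2465_2489 c) (Nat.ble 2465 c)
noncomputable def finTab_s_2489_2491 (c : Nat) : Nat := @Bool.rec (fun _ => Nat) (finTab_2489) (finTab_2490) (Nat.ble 2490 c)
noncomputable def finTab_s_2492_2494 (c : Nat) : Nat := @Bool.rec (fun _ => Nat) (finTab_2492) (finTab_2493) (Nat.ble 2493 c)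
noncomputable def finTab_s_2491_2494 (c : Nat) : Nat := @Bool.rec (fun _ => Nat) (finTab_2491) (finTab_s_2492_2494 c) (Nat.ble 2492 c)
noncomputable def finTab_s_2489_2494 (c : Nat) : Nat := @Bool.rec (fun _ => Nat) (finTab_s_2489_2491 c) (finTab_s_2491_2494 c) (Nat.ble 2491 c)
noncomputable def finTab_s_2495_2497 (c : Nat) : Nat := @Bool.rec (fun _ => Nat) (finTab_2495) (finTab_2496) (Nat.ble 2496 c)
noncomputable def finTab_s_2494_2497 (c : Nat) : Nat := @Bool.rec (fun _ => Nat) (finTab_2494) (finTab_s_2495_2497 c) (Nat.ble 2495 c)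
noncomputable def finTab_s_2498_2500 (c : Nat) : Nat := @Bool.rec (fun _ => Nat) (finTab_2498) (finTab_2499) (Nat.ble 2499 c)
noncomputable def finTab_s_2497_2500 (c : Nat) : Nat := @Bool.rec (fun _ => Nat) (finTab_2497) (finTab_s_2498_2500 c) (Nat.ble 2498 c)
noncomputable def finTab_s_2494_2500 (c : Nat) : Nat := @Bool.rec (fun _ => Nat) (finTab_s_2494_2497 c) (finTab_s_2497_2500 c) (Nat.ble 2497 c)
noncomputable def finTab_s_2489_2500 (c : Nat) : Nat := @Bool.rec (fun _ => Nat) (finTab_s_2489_2494 c) (finTab_s_2494_2500 c) (Nat.ble 2494 c)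
noncomputable def finTab_s_2501_2503 (c : Nat) : Nat := @Bool.rec (fun _ => Nat) (finTab_2501) (finTab_2502) (Nat.ble 2502 c)
noncomputable def finTab_s_2500_2503 (c : Nat) : Nat := @Bool.rec (fun _ => Nat) (finTab_2500) (finTab_s_2501_2503 c) (Nat.ble 2501 c)
noncomputable def finTab_s_2504_2506 (c : Nat) : Nat := @Bool.rec (fun _ => Nat) (finTab_2504) (finTab_2505) (Nat.ble 2505 c)
noncomputable def finTab_s_2503_2506 (c : Nat) : Nat := @Bool.rec (fun _ => Nat) (finTab_2503) (finTab_s_2504_2506 c) (Nat.ble 2504 c)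
noncomputable def finTab_s_2500_2506 (c : Nat) : Nat := @Bool.rec (fun _ => Nat) (finTab_s_2500_2503 c) (finTab_s_2503_2506 c) (Nat.ble 2503 c)
noncomputable def finTab_s_2507_2509 (c : Nat) : Nat := @Bool.rec (fun _ => Nat) (finTab_2507) (finTab_2508) (Nat.ble 2508 c)
noncomputable def finTab_s_2506_2509 (c : Nat) : Nat := @Bool.rec (fun _ => Nat) (finTab_2506) (finTab_s_2507_2509 c) (Nat.ble 2507 c)
noncomputable def finTab_s_2510_2512 (c : Nat) : Nat := @Bool.rec (fun _ => Nat) (finTab_2510) (finTab_2511) (Nat.ble 2511 c)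
noncomputable def finTab_s_2509_2512 (c : Nat) : Nat := @Bool.rec (fun _ => Nat) (finTab_2509) (finTab_s_2510_2512 c) (Nat.ble 2510 c)
noncomputable def finTab_s_2506_2512 (c : Nat) : Nat := @Bool.rec (fun _ => Nat) (finTab_s_2506_2509 c) (finTab_s_2509_2512 c) (Nat.ble 2509 c)
noncomputable def finTab_s_2500_2512 (c : Nat) : Nat := @Bool.rec (fun _ => Nat) (finTab_s_2500_2506 c) (finTab_s_2506_2512 c) (Nat.ble 2506 c)
noncomputable def finTab_s_2489_2512 (c : Nat) : Nat := @Bool.rec (fun _ => Nat) (finTab_s_2489_2500 c) (finTab_s_2500_2512 c) (Nat.ble 2500 c)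
noncomputable def finTab_s_2513_2515 (c : Nat) : Nat := @Bool.rec (fun _ => Nat) (finTab_2513) (finTab_2514) (Nat.ble 2514 c)
noncomputable def finTab_s_2512_2515 (c : Nat) : Nat := @Bool.rec (fun _ => Nat) (finTab_2512) (finTab_s_2513_2515 c) (Nat.ble 2513 c)
noncomputable def finTab_s_2516_2518 (c : Nat) : Nat := @Bool.rec (fun _ => Nat) (finTab_2516) (finTab_2517) (Nat.ble 2517 c)
noncomputable def finTab_s_2515_2518 (c : Nat) : Nat := @Bool.rec (fun _ => Nat) (finTab_2515) (finTab_s_2516_2518 c) (Nat.ble 2516 c)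
noncomputable def finTab_s_2512_2518 (c : Nat) : Nat := @Bool.rec (fun _ => Nat) (finTab_s_2512_2515 c) (finTab_s_2515_2518 c) (Nat.ble 2515 c)
noncomputable def finTab_s_2519_2521 (c : Nat) : Nat := @Bool.rec (fun _ => Nat) (finTab_2519) (finTab_2520) (Nat.ble 2520 c)
noncomputable def finTab_s_2518_2521 (c : Nat) : Nat := @Bool.rec (fun _ => Nat) (finTab_2518) (finTab_s_2519_2521 c) (Nat.ble 2519 c)
noncomputable def finTab_s_2522_2524 (c : Nat) : Nat := @Bool.rec (fun _ => Nat) (finTab_2522) (finTab_2523) (Nat.ble 2523 c)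
noncomputable def finTab_s_2521_2524 (c : Nat) : Nat := @Bool.rec (fun _ => Nat) (finTab_2521) (finTab_s_2522_2524 c) (Nat.ble 2522 c)
noncomputable def finTab_s_2518_2524 (c : Nat) : Nat := @Bool.rec (fun _ => Nat) (finTab_s_2518_2521 c) (finTab_s_2521_2524 c) (Nat.ble 2521 c)
noncomputable def finTab_s_2512_2524 (c : Nat) : Nat := @Bool.rec (fun _ => Nat) (finTab_s_2512_2518 c) (finTab_s_2518_2524 c) (Nat.ble 2518 c)
noncomputable def finTab_s_2525_2527 (c : Nat) : Nat := @Bool.rec (fun _ => Nat) (finTab_2525) (finTab_2526) (Nat.ble 2526 c)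
noncomputable def finTab_s_2524_2527 (c : Nat) : Nat := @Bool.rec (fun _ => Nat) (finTab_2524) (finTab_s_2525_2527 c) (Nat.ble 2525 c)
noncomputable def finTab_s_2528_2530 (c : Nat) : Nat := @Bool.rec (fun _ => Nat) (finTab_2528) (finTab_2529) (Nat.ble 2529 c)
noncomputable def finTab_s_2527_2530 (c : Nat) : Nat := @Bool.rec (fun _ => Nat) (finTab_2527) (finTab_s_2528_2530 c) (Nat.ble 2528 c)
noncomputable def finTab_s_2524_2530 (c : Nat) : Nat := @Bool.rec (fun _ => Nat) (finTab_s_2524_2527 c) (finTab_s_2527_2530 c) (Nat.ble 2527 c)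
noncomputable def finTab_s_2531_2533 (c : Nat) : Nat := @Bool.rec (fun _ => Nat) (finTab_2531) (finTab_2532) (Nat.ble 2532 c)
noncomputable def finTab_s_2530_2533 (c : Nat) : Nat := @Bool.rec (fun _ => Nat) (finTab_2530) (finTab_s_2531_2533 c) (Nat.ble 2531 c)
noncomputable def finTab_s_2534_2536 (c : Nat) : Nat := @Bool.rec (fun _ => Nat) (finTab_2534) (finTab_2535) (Nat.ble 2535 c)
noncomputable def finTab_s_2533_2536 (c : Nat) : Nat := @Bool.rec (fun _ => Nat) (finTab_2533) (finTab_s_2534_2536 c) (Nat.ble 2534 c)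
noncomputable def finTab_s_2530_2536 (c : Nat) : Nat := @Bool.rec (fun _ => Nat) (finTab_s_2530_2533 c) (finTab_s_2533_2536 c) (Nat.ble 2533 c)
noncomputable def finTab_s_2524_2536 (c : Nat) : Nat := @Bool.rec (fun _ => Nat) (finTab_s_2524_2530 c) (finTab_s_2530_2536 c) (Nat.ble 2530 c)
noncomputable def finTab_s_2512_2536 (c : Nat) : Nat := @Bool.rec (fun _ => Nat) (finTab_s_2512_2524 c) (finTab_s_2524_2536 c) (Nat.ble 2524 c)
noncomputable def finTab_s_2489_2536 (c : Nat) : Nat := @Bool.rec (fun _ => Nat) (finTab_s_2489_2512 c) (finTab_s_2512_2536 c) (Nat.ble 2512 c)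
noncomputable def finTab_s_2442_2536 (c : Nat) : Nat := @Bool.rec (fun _ => Nat) (finTab_s_2442_2489 c) (finTab_s_2489_2536 c) (Nat.ble 2489 c)
noncomputable def finTab_s_2536_2538 (c : Nat) : Nat := @Bool.rec (fun _ => Nat) (finTab_2536) (finTab_2537) (Nat.ble 2537 c)
noncomputable def finTab_s_2539_2541 (c : Nat) : Nat := @Bool.rec (fun _ => Nat) (finTab_2539) (finTab_2540) (Nat.ble 2540 c)
noncomputable def finTab_s_2538_2541 (c : Nat) : Nat := @Bool.rec (fun _ => Nat) (finTab_2538) (finTab_s_2539_2541 c) (Nat.ble 2539 c)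
noncomputable def finTab_s_2536_2541 (c : Nat) : Nat := @Bool.rec (fun _ => Nat) (finTab_s_2536_2538 c) (finTab_s_2538_2541 c) (Nat.ble 2538 c)
noncomputable def finTab_s_2542_2544 (c : Nat) : Nat := @Bool.rec (fun _ => Nat) (finTab_2542) (finTab_2543) (Nat.ble 2543 c)
noncomputable def finTab_s_2541_2544 (c : Nat) : Nat := @Bool.rec (fun _ => Nat) (finTab_2541) (finTab_s_2542_2544 c) (Nat.ble 2542 c)
noncomputable def finTab_s_2545_2547 (c : Nat) : Nat := @Bool.rec (fun _ => Nat) (finTab_2545) (finTab_2546) (Nat.ble 2546 c)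
noncomputable def finTab_s_2544_2547 (c : Nat) : Nat := @Bool.rec (fun _ => Nat) (finTab_2544) (finTab_s_2545_2547 c) (Nat.ble 2545 c)
noncomputable def finTab_s_2541_2547 (c : Nat) : Nat := @Bool.rec (fun _ => Nat) (finTab_s_2541_2544 c) (finTab_s_2544_2547 c) (Nat.ble 2544 c)
noncomputable def finTab_s_2536_2547 (c : Nat) : Nat := @Bool.rec (fun _ => Nat) (finTab_s_2536_2541 c) (finTab_s_2541_2547 c) (Nat.ble 2541 c)
noncomputable def finTab_s_2548_2550 (c : Nat) : Nat := @Bool.rec (fun _ => Nat) (finTab_2548) (finTab_2549) (Nat.ble 2549 c)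
noncomputable def finTab_s_2547_2550 (c : Nat) : Nat := @Bool.rec (fun _ => Nat) (finTab_2547) (finTab_s_2548_2550 c) (Nat.ble 2548 c)
noncomputable def finTab_s_2551_2553 (c : Nat) : Nat := @Bool.rec (fun _ => Nat) (finTab_2551) (finTab_2552) (Nat.ble 2552 c)
noncomputable def finTab_s_2550_2553 (c : Nat) : Nat := @Bool.rec (fun _ => Nat) (finTab_2550) (finTab_s_2551_2553 c) (Nat.ble 2551 c)
noncomputable def finTab_s_2547_2553 (c : Nat) : Nat := @Bool.rec (fun _ => Nat) (finTab_s_2547_2550 c) (finTab_s_2550_2553 c) (Nat.ble 2550 c)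
noncomputable def finTab_s_2554_2556 (c : Nat) : Nat := @Bool.rec (fun _ => Nat) (finTab_2554) (finTab_2555) (Nat.ble 2555 c)
noncomputable def finTab_s_2553_2556 (c : Nat) : Nat := @Bool.rec (fun _ => Nat) (finTab_2553) (finTab_s_2554_2556 c) (Nat.ble 2554 c)
noncomputable def finTab_s_2557_2559 (c : Nat) : Nat := @Bool.rec (fun _ => Nat) (finTab_2557) (finTab_2558) (Nat.ble 2558 c)
noncomputable def finTab_s_2556_2559 (c : Nat) : Nat := @Bool.rec (fun _ => Nat) (finTab_2556) (finTab_s_2557_2559 c) (Nat.ble 2557 c)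
noncomputable def finTab_s_2553_2559 (c : Nat) : Nat := @Bool.rec (fun _ => Nat) (finTab_s_2553_2556 c) (finTab_s_2556_2559 c) (Nat.ble 2556 c)
noncomputable def finTab_s_2547_2559 (c : Nat) : Nat := @Bool.rec (fun _ => Nat) (finTab_s_2547_2553 c) (finTab_s_2553_2559 c) (Nat.ble 2553 c)
noncomputable def finTab_s_2536_2559 (c : Nat) : Nat := @Bool.rec (fun _ => Nat) (finTab_s_2536_2547 c) (finTab_s_2547_2559 c) (Nat.ble 2547 c)
noncomputable def finTab_s_2560_2562 (c : Nat) : Nat := @Bool.rec (fun _ => Nat) (finTab_2560) (finTab_2561) (Nat.ble 2561 c)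
noncomputable def finTab_s_2559_2562 (c : Nat) : Nat := @Bool.rec (fun _ => Nat) (finTab_2559) (finTab_s_2560_2562 c) (Nat.ble 2560 c)
noncomputable def finTab_s_2563_2565 (c : Nat) : Nat := @Bool.rec (fun _ => Nat) (finTab_2563) (finTab_2564) (Nat.ble 2564 c)
noncomputable def finTab_s_2562_2565 (c : Nat) : Nat := @Bool.rec (fun _ => Nat) (finTab_2562) (finTab_s_2563_2565 c) (Nat.ble 2563 c)
noncomputable def finTab_s_2559_2565 (c : Nat) : Nat := @Bool.rec (fun _ => Nat) (finTab_s_2559_2562 c) (finTab_s_2562_2565 c) (Nat.ble 2562 c)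
noncomputable def finTab_s_2566_2568 (c : Nat) : Nat := @Bool.rec (fun _ => Nat) (finTab_2566) (finTab_2567) (Nat.ble 2567 c)
noncomputable def finTab_s_2565_2568 (c : Nat) : Nat := @Bool.rec (fun _ => Nat) (finTab_2565) (finTab_s_2566_2568 c) (Nat.ble 2566 c)
noncomputable def finTab_s_2569_2571 (c : Nat) : Nat := @Bool.rec (fun _ => Nat) (finTab_2569) (finTab_2570) (Nat.ble 2570 c)
noncomputable def finTab_s_2568_2571 (c : Nat) : Nat := @Bool.rec (fun _ => Nat) (finTab_2568) (finTab_s_2569_2571 c) (Nat.ble 2569 c)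
noncomputable def finTab_s_2565_2571 (c : Nat) : Nat := @Bool.rec (fun _ => Nat) (finTab_s_2565_2568 c) (finTab_s_2568_2571 c) (Nat.ble 2568 c)
noncomputable def finTab_s_2559_2571 (c : Nat) : Nat := @Bool.rec (fun _ => Nat) (finTab_s_2559_2565 c) (finTab_s_2565_2571 c) (Nat.ble 2565 c)
noncomputable def finTab_s_2572_2574 (c : Nat) : Nat := @Bool.rec (fun _ => Nat) (finTab_2572) (finTab_2573) (Nat.ble 2573 c)
noncomputable def finTab_s_2571_2574 (c : Nat) : Nat := @Bool.rec (fun _ => Nat) (finTab_2571) (finTab_s_2572_2574 c) (Nat.ble 2572 c)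
noncomputable def finTab_s_2575_2577 (c : Nat) : Nat := @Bool.rec (fun _ => Nat) (finTab_2575) (finTab_2576) (Nat.ble 2576 c)
noncomputable def finTab_s_2574_2577 (c : Nat) : Nat := @Bool.rec (fun _ => Nat) (finTab_2574) (finTab_s_2575_2577 c) (Nat.ble 2575 c)
noncomputable def finTab_s_2571_2577 (c : Nat) : Nat := @Bool.rec (fun _ => Nat) (finTab_s_2571_2574 c) (finTab_s_2574_2577 c) (Nat.ble 2574 c)
noncomputable def finTab_s_2578_2580 (c : Nat) : Nat := @Bool.rec (fun _ => Nat) (finTab_2578) (finTab_2579) (Nat.ble 2579 c)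
noncomputable def finTab_s_2577_2580 (c : Nat) : Nat := @Bool.rec (fun _ => Nat) (finTab_2577) (finTab_s_2578_2580 c) (Nat.ble 2578 c)
noncomputable def finTab_s_2581_2583 (c : Nat) : Nat := @Bool.rec (fun _ => Nat) (finTab_2581) (finTab_2582) (Nat.ble 2582 c)
noncomputable def finTab_s_2580_2583 (c : Nat) : Nat := @Bool.rec (fun _ => Nat) (finTab_2580) (finTab_s_2581_2583 c) (Nat.ble 2581 c)
noncomputable def finTab_s_2577_2583 (c : Nat) : Nat := @Bool.rec (fun _ => Nat) (finTab_s_2577_2580 c) (finTab_s_2580_2583 c) (Nat.ble 2580 c)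
noncomputable def finTab_s_2571_2583 (c : Nat) : Nat := @Bool.rec (fun _ => Nat) (finTab_s_2571_2577 c) (finTab_s_2577_2583 c) (Nat.ble 2577 c)
noncomputable def finTab_s_2559_2583 (c : Nat) : Nat := @Bool.rec (fun _ => Nat) (finTab_s_2559_2571 c) (finTab_s_2571_2583 c) (Nat.ble 2571 c)
noncomputable def finTab_s_2536_2583 (c : Nat) : Nat := @Bool.rec (fun _ => Nat) (finTab_s_2536_2559 c) (finTab_s_2559_2583 c) (Nat.ble 2559 c)
noncomputable def finTab_s_2583_2585 (c : Nat) : Nat := @Bool.rec (fun _ => Nat) (finTab_2583) (finTab_2584) (Nat.ble 2584 c)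
noncomputable def finTab_s_2586_2588 (c : Nat) : Nat := @Bool.rec (fun _ => Nat) (finTab_2586) (finTab_2587) (Nat.ble 2587 c)
noncomputable def finTab_s_2585_2588 (c : Nat) : Nat := @Bool.rec (fun _ => Nat) (finTab_2585) (finTab_s_2586_2588 c) (Nat.ble 2586 c)
noncomputable def finTab_s_2583_2588 (c : Nat) : Nat := @Bool.rec (fun _ => Nat) (finTab_s_2583_2585 c) (finTab_s_2585_2588 c) (Nat.ble 2585 c)
noncomputable def finTab_s_2589_2591 (c : Nat) : Nat := @Bool.rec (fun _ => Nat) (finTab_2589) (finTab_2590) (Nat.ble 2590 c)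
noncomputable def finTab_s_2588_2591 (c : Nat) : Nat := @Bool.rec (fun _ => Nat) (finTab_2588) (finTab_s_2589_2591 c) (Nat.ble 2589 c)
noncomputable def finTab_s_2592_2594 (c : Nat) : Nat := @Bool.rec (fun _ => Nat) (finTab_2592) (finTab_2593) (Nat.ble 2593 c)
noncomputable def finTab_s_2591_2594 (c : Nat) : Nat := @Bool.rec (fun _ => Nat) (finTab_2591) (finTab_s_2592_2594 c) (Nat.ble 2592 c)
noncomputable def finTab_s_2588_2594 (c : Nat) : Nat := @Bool.rec (fun _ => Nat) (finTab_s_2588_2591 c) (finTab_s_2591_2594 c) (Nat.ble 2591 c)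
noncomputable def finTab_s_2583_2594 (c : Nat) : Nat := @Bool.rec (fun _ => Nat) (finTab_s_2583_2588 c) (finTab_s_2588_2594 c) (Nat.ble 2588 c)
noncomputable def finTab_s_2595_2597 (c : Nat) : Nat := @Bool.rec (fun _ => Nat) (finTab_2595) (finTab_2596) (Nat.ble 2596 c)
noncomputable def finTab_s_2594_2597 (c : Nat) : Nat := @Bool.rec (fun _ => Nat) (finTab_2594) (finTab_s_2595_2597 c) (Nat.ble 2595 c)
noncomputable def finTab_s_2598_2600 (c : Nat) : Nat := @Bool.rec (fun _ => Nat) (finTab_2598) (finTab_2599) (Nat.ble 2599 c)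
noncomputable def finTab_s_2597_2600 (c : Nat) : Nat := @Bool.rec (fun _ => Nat) (finTab_2597) (finTab_s_2598_2600 c) (Nat.ble 2598 c)
noncomputable def finTab_s_2594_2600 (c : Nat) : Nat := @Bool.rec (fun _ => Nat) (finTab_s_2594_2597 c) (finTab_s_2597_2600 c) (Nat.ble 2597 c)
noncomputable def finTab_s_2601_2603 (c : Nat) : Nat := @Bool.rec (fun _ => Nat) (finTab_2601) (finTab_2602) (Nat.ble 2602 c)
noncomputable def finTab_s_2600_2603 (c : Nat) : Nat := @Bool.rec (fun _ => Nat) (finTab_2600) (finTab_s_2601_2603 c) (Nat.ble 2601 c)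
noncomputable def finTab_s_2604_2606 (c : Nat) : Nat := @Bool.rec (fun _ => Nat) (finTab_2604) (finTab_2605) (Nat.ble 2605 c)
noncomputable def finTab_s_2603_2606 (c : Nat) : Nat := @Bool.rec (fun _ => Nat) (finTab_2603) (finTab_s_2604_2606 c) (Nat.ble 2604 c)
noncomputable def finTab_s_2600_2606 (c : Nat) : Nat := @Bool.rec (fun _ => Nat) (finTab_s_2600_2603 c) (finTab_s_2603_2606 c) (Nat.ble 2603 c)
noncomputable def finTab_s_2594_2606 (c : Nat) : Nat := @Bool.rec (fun _ => Nat) (finTab_s_2594_2600 c) (finTab_s_2600_2606 c) (Nat.ble 2600 c)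
noncomputable def finTab_s_2583_2606 (c : Nat) : Nat := @Bool.rec (fun _ => Nat) (finTab_s_2583_2594 c) (finTab_s_2594_2606 c) (Nat.ble 2594 c)
noncomputable def finTab_s_2607_2609 (c : Nat) : Nat := @Bool.rec (fun _ => Nat) (finTab_2607) (finTab_2608) (Nat.ble 2608 c)
noncomputable def finTab_s_2606_2609 (c : Nat) : Nat := @Bool.rec (fun _ => Nat) (finTab_2606) (finTab_s_2607_2609 c) (Nat.ble 2607 c)
noncomputable def finTab_s_2610_2612 (c : Nat) : Nat := @Bool.rec (fun _ => Nat) (finTab_2610) (finTab_2611) (Nat.ble 2611 c)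
noncomputable def finTab_s_2609_2612 (c : Nat) : Nat := @Bool.rec (fun _ => Nat) (finTab_2609) (finTab_s_2610_2612 c) (Nat.ble 2610 c)
noncomputable def finTab_s_2606_2612 (c : Nat) : Nat := @Bool.rec (fun _ => Nat) (finTab_s_2606_2609 c) (finTab_s_2609_2612 c) (Nat.ble 2609 c)
noncomputable def finTab_s_2613_2615 (c : Nat) : Nat := @Bool.rec (fun _ => Nat) (finTab_2613) (finTab_2614) (Nat.ble 2614 c)
noncomputable def finTab_s_2612_2615 (c : Nat) : Nat := @Bool.rec (fun _ => Nat) (finTab_2612) (finTab_s_2613_2615 c) (Nat.ble 2613 c)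
noncomputable def finTab_s_2616_2618 (c : Nat) : Nat := @Bool.rec (fun _ => Nat) (finTab_2616) (finTab_2617) (Nat.ble 2617 c)
noncomputable def finTab_s_2615_2618 (c : Nat) : Nat := @Bool.rec (fun _ => Nat) (finTab_2615) (finTab_s_2616_2618 c) (Nat.ble 2616 c)
noncomputable def finTab_s_2612_2618 (c : Nat) : Nat := @Bool.rec (fun _ => Nat) (finTab_s_2612_2615 c) (finTab_s_2615_2618 c) (Nat.ble 2615 c)
noncomputable def finTab_s_2606_2618 (c : Nat) : Nat := @Bool.rec (fun _ => Nat) (finTab_s_2606_2612 c) (finTab_s_2612_2618 c) (Nat.ble 2612 c)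
noncomputable def finTab_s_2619_2621 (c : Nat) : Nat := @Bool.rec (fun _ => Nat) (finTab_2619) (finTab_2620) (Nat.ble 2620 c)
noncomputable def finTab_s_2618_2621 (c : Nat) : Nat := @Bool.rec (fun _ => Nat) (finTab_2618) (finTab_s_2619_2621 c) (Nat.ble 2619 c)
noncomputable def finTab_s_2622_2624 (c : Nat) : Nat := @Bool.rec (fun _ => Nat) (finTab_2622) (finTab_2623) (Nat.ble 2623 c)
noncomputable def finTab_s_2621_2624 (c : Nat) : Nat := @Bool.rec (fun _ => Nat) (finTab_2621) (finTab_s_2622_2624 c) (Nat.ble 2622 c)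
noncomputable def finTab_s_2618_2624 (c : Nat) : Nat := @Bool.rec (fun _ => Nat) (finTab_s_2618_2621 c) (finTab_s_2621_2624 c) (Nat.ble 2621 c)
noncomputable def finTab_s_2625_2627 (c : Nat) : Nat := @Bool.rec (fun _ => Nat) (finTab_2625) (finTab_2626) (Nat.ble 2626 c)
noncomputable def finTab_s_2624_2627 (c : Nat) : Nat := @Bool.rec (fun _ => Nat) (finTab_2624) (finTab_s_2625_2627 c) (Nat.ble 2625 c)
noncomputable def finTab_s_2628_2630 (c : Nat) : Nat := @Bool.rec (fun _ => Nat) (finTab_2628) (finTab_2629) (Nat.ble 2629 c)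
noncomputable def finTab_s_2627_2630 (c : Nat) : Nat := @Bool.rec (fun _ => Nat) (finTab_2627) (finTab_s_2628_2630 c) (Nat.ble 2628 c)
noncomputable def finTab_s_2624_2630 (c : Nat) : Nat := @Bool.rec (fun _ => Nat) (finTab_s_2624_2627 c) (finTab_s_2627_2630 c) (Nat.ble 2627 c)
noncomputable def finTab_s_2618_2630 (c : Nat) : Nat := @Bool.rec (fun _ => Nat) (finTab_s_2618_2624 c) (finTab_s_2624_2630 c) (Nat.ble 2624 c)
noncomputable def finTab_s_2606_2630 (c : Nat) : Nat := @Bool.rec (fun _ => Nat) (finTab_s_2606_2618 c) (finTab_s_2618_2630 c) (Nat.ble 2618 c)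
noncomputable def finTab_s_2583_2630 (c : Nat) : Nat := @Bool.rec (fun _ => Nat) (finTab_s_2583_2606 c) (finTab_s_2606_2630 c) (Nat.ble 2606 c)
noncomputable def finTab_s_2536_2630 (c : Nat) : Nat := @Bool.rec (fun _ => Nat) (finTab_s_2536_2583 c) (finTab_s_2583_2630 c) (Nat.ble 2583 c)
noncomputable def finTab_s_2442_2630 (c : Nat) : Nat := @Bool.rec (fun _ => Nat) (finTab_s_2442_2536 c) (finTab_s_2536_2630 c) (Nat.ble 2536 c)
noncomputable def finTab_s_2254_2630 (c : Nat) : Nat := @Bool.rec (fun _ => Nat) (finTab_s_2254_2442 c) (finTab_s_2442_2630 c) (Nat.ble 2442 c)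
noncomputable def finTab_s_2630_2632 (c : Nat) : Nat := @Bool.rec (fun _ => Nat) (finTab_2630) (finTab_2631) (Nat.ble 2631 c)
noncomputable def finTab_s_2633_2635 (c : Nat) : Nat := @Bool.rec (fun _ => Nat) (finTab_2633) (finTab_2634) (Nat.ble 2634 c)
noncomputable def finTab_s_2632_2635 (c : Nat) : Nat := @Bool.rec (fun _ => Nat) (finTab_2632) (finTab_s_2633_2635 c) (Nat.ble 2633 c)
noncomputable def finTab_s_2630_2635 (c : Nat) : Nat := @Bool.rec (fun _ => Nat) (finTab_s_2630_2632 c) (finTab_s_2632_2635 c) (Nat.ble 2632 c)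
noncomputable def finTab_s_2636_2638 (c : Nat) : Nat := @Bool.rec (fun _ => Nat) (finTab_2636) (finTab_2637) (Nat.ble 2637 c)
noncomputable def finTab_s_2635_2638 (c : Nat) : Nat := @Bool.rec (fun _ => Nat) (finTab_2635) (finTab_s_2636_2638 c) (Nat.ble 2636 c)
noncomputable def finTab_s_2639_2641 (c : Nat) : Nat := @Bool.rec (fun _ => Nat) (finTab_2639) (finTab_2640) (Nat.ble 2640 c)
noncomputable def finTab_s_2638_2641 (c : Nat) : Nat := @Bool.rec (fun _ => Nat) (finTab_2638) (finTab_s_2639_2641 c) (Nat.ble 2639 c)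
noncomputable def finTab_s_2635_2641 (c : Nat) : Nat := @Bool.rec (fun _ => Nat) (finTab_s_2635_2638 c) (finTab_s_2638_2641 c) (Nat.ble 2638 c)
noncomputable def finTab_s_2630_2641 (c : Nat) : Nat := @Bool.rec (fun _ => Nat) (finTab_s_2630_2635 c) (finTab_s_2635_2641 c) (Nat.ble 2635 c)
noncomputable def finTab_s_2642_2644 (c : Nat) : Nat := @Bool.rec (fun _ => Nat) (finTab_2642) (finTab_2643) (Nat.ble 2643 c)
noncomputable def finTab_s_2641_2644 (c : Nat) : Nat := @Bool.rec (fun _ => Nat) (finTab_2641) (finTab_s_2642_2644 c) (Nat.ble 2642 c)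
noncomputable def finTab_s_2645_2647 (c : Nat) : Nat := @Bool.rec (fun _ => Nat) (finTab_2645) (finTab_2646) (Nat.ble 2646 c)
noncomputable def finTab_s_2644_2647 (c : Nat) : Nat := @Bool.rec (fun _ => Nat) (finTab_2644) (finTab_s_2645_2647 c) (Nat.ble 2645 c)
noncomputable def finTab_s_2641_2647 (c : Nat) : Nat := @Bool.rec (fun _ => Nat) (finTab_s_2641_2644 c) (finTab_s_2644_2647 c) (Nat.ble 2644 c)
noncomputable def finTab_s_2648_2650 (c : Nat) : Nat := @Bool.rec (fun _ => Nat) (finTab_2648) (finTab_2649) (Nat.ble 2649 c)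
noncomputable def finTab_s_2647_2650 (c : Nat) : Nat := @Bool.rec (fun _ => Nat) (finTab_2647) (finTab_s_2648_2650 c) (Nat.ble 2648 c)
noncomputable def finTab_s_2651_2653 (c : Nat) : Nat := @Bool.rec (fun _ => Nat) (finTab_2651) (finTab_2652) (Nat.ble 2652 c)
noncomputable def finTab_s_2650_2653 (c : Nat) : Nat := @Bool.rec (fun _ => Nat) (finTab_2650) (finTab_s_2651_2653 c) (Nat.ble 2651 c)
noncomputable def finTab_s_2647_2653 (c : Nat) : Nat := @Bool.rec (fun _ => Nat) (finTab_s_2647_2650 c) (finTab_s_2650_2653 c) (Nat.ble 2650 c)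
noncomputable def finTab_s_2641_2653 (c : Nat) : Nat := @Bool.rec (fun _ => Nat) (finTab_s_2641_2647 c) (finTab_s_2647_2653 c) (Nat.ble 2647 c)
noncomputable def finTab_s_2630_2653 (c : Nat) : Nat := @Bool.rec (fun _ => Nat) (finTab_s_2630_2641 c) (finTab_s_2641_2653 c) (Nat.ble 2641 c)
noncomputable def finTab_s_2654_2656 (c : Nat) : Nat := @Bool.rec (fun _ => Nat) (finTab_2654) (finTab_2655) (Nat.ble 2655 c)
noncomputable def finTab_s_2653_2656 (c : Nat) : Nat := @Bool.rec (fun _ => Nat) (finTab_2653) (finTab_s_2654_2656 c) (Nat.ble 2654 c)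
noncomputable def finTab_s_2657_2659 (c : Nat) : Nat := @Bool.rec (fun _ => Nat) (finTab_2657) (finTab_2658) (Nat.ble 2658 c)
noncomputable def finTab_s_2656_2659 (c : Nat) : Nat := @Bool.rec (fun _ => Nat) (finTab_2656) (finTab_s_2657_2659 c) (Nat.ble 2657 c)
noncomputable def finTab_s_2653_2659 (c : Nat) : Nat := @Bool.rec (fun _ => Nat) (finTab_s_2653_2656 c) (finTab_s_2656_2659 c) (Nat.ble 2656 c)
noncomputable def finTab_s_2660_2662 (c : Nat) : Nat := @Bool.rec (fun _ => Nat) (finTab_2660) (finTab_2661) (Nat.ble 2661 c)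
noncomputable def finTab_s_2659_2662 (c : Nat) : Nat := @Bool.rec (fun _ => Nat) (finTab_2659) (finTab_s_2660_2662 c) (Nat.ble 2660 c)
noncomputable def finTab_s_2663_2665 (c : Nat) : Nat := @Bool.rec (fun _ => Nat) (finTab_2663) (finTab_2664) (Nat.ble 2664 c)
noncomputable def finTab_s_2662_2665 (c : Nat) : Nat := @Bool.rec (fun _ => Nat) (finTab_2662) (finTab_s_2663_2665 c) (Nat.ble 2663 c)
noncomputable def finTab_s_2659_2665 (c : Nat) : Nat := @Bool.rec (fun _ => Nat) (finTab_s_2659_2662 c) (finTab_s_2662_2665 c) (Nat.ble 2662 c)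
noncomputable def finTab_s_2653_2665 (c : Nat) : Nat := @Bool.rec (fun _ => Nat) (finTab_s_2653_2659 c) (finTab_s_2659_2665 c) (Nat.ble 2659 c)
noncomputable def finTab_s_2666_2668 (c : Nat) : Nat := @Bool.rec (fun _ => Nat) (finTab_2666) (finTab_2667) (Nat.ble 2667 c)
noncomputable def finTab_s_2665_2668 (c : Nat) : Nat := @Bool.rec (fun _ => Nat) (finTab_2665) (finTab_s_2666_2668 c) (Nat.ble 2666 c)
noncomputable def finTab_s_2669_2671 (c : Nat) : Nat := @Bool.rec (fun _ => Nat) (finTab_2669) (finTab_2670) (Nat.ble 2670 c)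
noncomputable def finTab_s_2668_2671 (c : Nat) : Nat := @Bool.rec (fun _ => Nat) (finTab_2668) (finTab_s_2669_2671 c) (Nat.ble 2669 c)
noncomputable def finTab_s_2665_2671 (c : Nat) : Nat := @Bool.rec (fun _ => Nat) (finTab_s_2665_2668 c) (finTab_s_2668_2671 c) (Nat.ble 2668 c)
noncomputable def finTab_s_2672_2674 (c : Nat) : Nat := @Bool.rec (fun _ => Nat) (finTab_2672) (finTab_2673) (Nat.ble 2673 c)
noncomputable def finTab_s_2671_2674 (c : Nat) : Nat := @Bool.rec (fun _ => Nat) (finTab_2671) (finTab_s_2672_2674 c) (Nat.ble 2672 c)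
noncomputable def finTab_s_2675_2677 (c : Nat) : Nat := @Bool.rec (fun _ => Nat) (finTab_2675) (finTab_2676) (Nat.ble 2676 c)
noncomputable def finTab_s_2674_2677 (c : Nat) : Nat := @Bool.rec (fun _ => Nat) (finTab_2674) (finTab_s_2675_2677 c) (Nat.ble 2675 c)
noncomputable def finTab_s_2671_2677 (c : Nat) : Nat := @Bool.rec (fun _ => Nat) (finTab_s_2671_2674 c) (finTab_s_2674_2677 c) (Nat.ble 2674 c)
noncomputable def finTab_s_2665_2677 (c : Nat) : Nat := @Bool.rec (fun _ => Nat) (finTab_s_2665_2671 c) (finTab_s_2671_2677 c) (Nat.ble 2671 c)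
noncomputable def finTab_s_2653_2677 (c : Nat) : Nat := @Bool.rec (fun _ => Nat) (finTab_s_2653_2665 c) (finTab_s_2665_2677 c) (Nat.ble 2665 c)
noncomputable def finTab_s_2630_2677 (c : Nat) : Nat := @Bool.rec (fun _ => Nat) (finTab_s_2630_2653 c) (finTab_s_2653_2677 c) (Nat.ble 2653 c)
noncomputable def finTab_s_2677_2679 (c : Nat) : Nat := @Bool.rec (fun _ => Nat) (finTab_2677) (finTab_2678) (Nat.ble 2678 c)
noncomputable def finTab_s_2680_2682 (c : Nat) : Nat := @Bool.rec (fun _ => Nat) (finTab_2680) (finTab_2681) (Nat.ble 2681 c)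
noncomputable def finTab_s_2679_2682 (c : Nat) : Nat := @Bool.rec (fun _ => Nat) (finTab_2679) (finTab_s_2680_2682 c) (Nat.ble 2680 c)
noncomputable def finTab_s_2677_2682 (c : Nat) : Nat := @Bool.rec (fun _ => Nat) (finTab_s_2677_2679 c) (finTab_s_2679_2682 c) (Nat.ble 2679 c)
noncomputable def finTab_s_2683_2685 (c : Nat) : Nat := @Bool.rec (fun _ => Nat) (finTab_2683) (finTab_2684) (Nat.ble 2684 c)
noncomputable def finTab_s_2682_2685 (c : Nat) : Nat := @Bool.rec (fun _ => Nat) (finTab_2682) (finTab_s_2683_2685 c) (Nat.ble 2683 c)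
noncomputable def finTab_s_2686_2688 (c : Nat) : Nat := @Bool.rec (fun _ => Nat) (finTab_2686) (finTab_2687) (Nat.ble 2687 c)
noncomputable def finTab_s_2685_2688 (c : Nat) : Nat := @Bool.rec (fun _ => Nat) (finTab_2685) (finTab_s_2686_2688 c) (Nat.ble 2686 c)
noncomputable def finTab_s_2682_2688 (c : Nat) : Nat := @Bool.rec (fun _ => Nat) (finTab_s_2682_2685 c) (finTab_s_2685_2688 c) (Nat.ble 2685 c)
noncomputable def finTab_s_2677_2688 (c : Nat) : Nat := @Bool.rec (fun _ => Nat) (finTab_s_2677_2682 c) (finTab_s_2682_2688 c) (Nat.ble 2682 c)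
noncomputable def finTab_s_2689_2691 (c : Nat) : Nat := @Bool.rec (fun _ => Nat) (finTab_2689) (finTab_2690) (Nat.ble 2690 c)
noncomputable def finTab_s_2688_2691 (c : Nat) : Nat := @Bool.rec (fun _ => Nat) (finTab_2688) (finTab_s_2689_2691 c) (Nat.ble 2689 c)
noncomputable def finTab_s_2692_2694 (c : Nat) : Nat := @Bool.rec (fun _ => Nat) (finTab_2692) (finTab_2693) (Nat.ble 2693 c)
noncomputable def finTab_s_2691_2694 (c : Nat) : Nat := @Bool.rec (fun _ => Nat) (finTab_2691) (finTab_s_2692_2694 c) (Nat.ble 2692 c)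
noncomputable def finTab_s_2688_2694 (c : Nat) : Nat := @Bool.rec (fun _ => Nat) (finTab_s_2688_2691 c) (finTab_s_2691_2694 c) (Nat.ble 2691 c)
noncomputable def finTab_s_2695_2697 (c : Nat) : Nat := @Bool.rec (fun _ => Nat) (finTab_2695) (finTab_2696) (Nat.ble 2696 c)
noncomputable def finTab_s_2694_2697 (c : Nat) : Nat := @Bool.rec (fun _ => Nat) (finTab_2694) (finTab_s_2695_2697 c) (Nat.ble 2695 c)
noncomputable def finTab_s_2698_2700 (c : Nat) : Nat := @Bool.rec (fun _ => Nat) (finTab_2698) (finTab_2699) (Nat.ble 2699 c)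
noncomputable def finTab_s_2697_2700 (c : Nat) : Nat := @Bool.rec (fun _ => Nat) (finTab_2697) (finTab_s_2698_2700 c) (Nat.ble 2698 c)
noncomputable def finTab_s_2694_2700 (c : Nat) : Nat := @Bool.rec (fun _ => Nat) (finTab_s_2694_2697 c) (finTab_s_2697_2700 c) (Nat.ble 2697 c)
noncomputable def finTab_s_2688_2700 (c : Nat) : Nat := @Bool.rec (fun _ => Nat) (finTab_s_2688_2694 c) (finTab_s_2694_2700 c) (Nat.ble 2694 c)
noncomputable def finTab_s_2677_2700 (c : Nat) : Nat := @Bool.rec (fun _ => Nat) (finTab_s_2677_2688 c) (finTab_s_2688_2700 c) (Nat.ble 2688 c)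
noncomputable def finTab_s_2701_2703 (c : Nat) : Nat := @Bool.rec (fun _ => Nat) (finTab_2701) (finTab_2702) (Nat.ble 2702 c)
noncomputable def finTab_s_2700_2703 (c : Nat) : Nat := @Bool.rec (fun _ => Nat) (finTab_2700) (finTab_s_2701_2703 c) (Nat.ble 2701 c)
noncomputable def finTab_s_2704_2706 (c : Nat) : Nat := @Bool.rec (fun _ => Nat) (finTab_2704) (finTab_2705) (Nat.ble 2705 c)
noncomputable def finTab_s_2703_2706 (c : Nat) : Nat := @Bool.rec (fun _ => Nat) (finTab_2703) (finTab_s_2704_2706 c) (Nat.ble 2704 c)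
noncomputable def finTab_s_2700_2706 (c : Nat) : Nat := @Bool.rec (fun _ => Nat) (finTab_s_2700_2703 c) (finTab_s_2703_2706 c) (Nat.ble 2703 c)
noncomputable def finTab_s_2707_2709 (c : Nat) : Nat := @Bool.rec (fun _ => Nat) (finTab_2707) (finTab_2708) (Nat.ble 2708 c)
noncomputable def finTab_s_2706_2709 (c : Nat) : Nat := @Bool.rec (fun _ => Nat) (finTab_2706) (finTab_s_2707_2709 c) (Nat.ble 2707 c)
noncomputable def finTab_s_2710_2712 (c : Nat) : Nat := @Bool.rec (fun _ => Nat) (finTab_2710) (finTab_2711) (Nat.ble 2711 c)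
noncomputable def finTab_s_2709_2712 (c : Nat) : Nat := @Bool.rec (fun _ => Nat) (finTab_2709) (finTab_s_2710_2712 c) (Nat.ble 2710 c)
noncomputable def finTab_s_2706_2712 (c : Nat) : Nat := @Bool.rec (fun _ => Nat) (finTab_s_2706_2709 c) (finTab_s_2709_2712 c) (Nat.ble 2709 c)
noncomputable def finTab_s_2700_2712 (c : Nat) : Nat := @Bool.rec (fun _ => Nat) (finTab_s_2700_2706 c) (finTab_s_2706_2712 c) (Nat.ble 2706 c)
noncomputable def finTab_s_2713_2715 (c : Nat) : Nat := @Bool.rec (fun _ => Nat) (finTab_2713) (finTab_2714) (Nat.ble 2714 c)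
noncomputable def finTab_s_2712_2715 (c : Nat) : Nat := @Bool.rec (fun _ => Nat) (finTab_2712) (finTab_s_2713_2715 c) (Nat.ble 2713 c)
noncomputable def finTab_s_2716_2718 (c : Nat) : Nat := @Bool.rec (fun _ => Nat) (finTab_2716) (finTab_2717) (Nat.ble 2717 c)
noncomputable def finTab_s_2715_2718 (c : Nat) : Nat := @Bool.rec (fun _ => Nat) (finTab_2715) (finTab_s_2716_2718 c) (Nat.ble 2716 c)
noncomputable def finTab_s_2712_2718 (c : Nat) : Nat := @Bool.rec (fun _ => Nat) (finTab_s_2712_2715 c) (finTab_s_2715_2718 c) (Nat.ble 2715 c)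
noncomputable def finTab_s_2719_2721 (c : Nat) : Nat := @Bool.rec (fun _ => Nat) (finTab_2719) (finTab_2720) (Nat.ble 2720 c)
noncomputable def finTab_s_2718_2721 (c : Nat) : Nat := @Bool.rec (fun _ => Nat) (finTab_2718) (finTab_s_2719_2721 c) (Nat.ble 2719 c)
noncomputable def finTab_s_2722_2724 (c : Nat) : Nat := @Bool.rec (fun _ => Nat) (finTab_2722) (finTab_2723) (Nat.ble 2723 c)
noncomputable def finTab_s_2721_2724 (c : Nat) : Nat := @Bool.rec (fun _ => Nat) (finTab_2721) (finTab_s_2722_2724 c) (Nat.ble 2722 c)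
noncomputable def finTab_s_2718_2724 (c : Nat) : Nat := @Bool.rec (fun _ => Nat) (finTab_s_2718_2721 c) (finTab_s_2721_2724 c) (Nat.ble 2721 c)
noncomputable def finTab_s_2712_2724 (c : Nat) : Nat := @Bool.rec (fun _ => Nat) (finTab_s_2712_2718 c) (finTab_s_2718_2724 c) (Nat.ble 2718 c)
noncomputable def finTab_s_2700_2724 (c : Nat) : Nat := @Bool.rec (fun _ => Nat) (finTab_s_2700_2712 c) (finTab_s_2712_2724 c) (Nat.ble 2712 c)
noncomputable def finTab_s_2677_2724 (c : Nat) : Nat := @Bool.rec (fun _ => Nat) (finTab_s_2677_2700 c) (finTab_s_2700_2724 c) (Nat.ble 2700 c)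
noncomputable def finTab_s_2630_2724 (c : Nat) : Nat := @Bool.rec (fun _ => Nat) (finTab_s_2630_2677 c) (finTab_s_2677_2724 c) (Nat.ble 2677 c)
noncomputable def finTab_s_2724_2726 (c : Nat) : Nat := @Bool.rec (fun _ => Nat) (finTab_2724) (finTab_2725) (Nat.ble 2725 c)
noncomputable def finTab_s_2727_2729 (c : Nat) : Nat := @Bool.rec (fun _ => Nat) (finTab_2727) (finTab_2728) (Nat.ble 2728 c)
noncomputable def finTab_s_2726_2729 (c : Nat) : Nat := @Bool.rec (fun _ => Nat) (finTab_2726) (finTab_s_2727_2729 c) (Nat.ble 2727 c)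
noncomputable def finTab_s_2724_2729 (c : Nat) : Nat := @Bool.rec (fun _ => Nat) (finTab_s_2724_2726 c) (finTab_s_2726_2729 c) (Nat.ble 2726 c)
noncomputable def finTab_s_2730_2732 (c : Nat) : Nat := @Bool.rec (fun _ => Nat) (finTab_2730) (finTab_2731) (Nat.ble 2731 c)
noncomputable def finTab_s_2729_2732 (c : Nat) : Nat := @Bool.rec (fun _ => Nat) (finTab_2729) (finTab_s_2730_2732 c) (Nat.ble 2730 c)
noncomputable def finTab_s_2733_2735 (c : Nat) : Nat := @Bool.rec (fun _ => Nat) (finTab_2733) (finTab_2734) (Nat.ble 2734 c)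
noncomputable def finTab_s_2732_2735 (c : Nat) : Nat := @Bool.rec (fun _ => Nat) (finTab_2732) (finTab_s_2733_2735 c) (Nat.ble 2733 c)
noncomputable def finTab_s_2729_2735 (c : Nat) : Nat := @Bool.rec (fun _ => Nat) (finTab_s_2729_2732 c) (finTab_s_2732_2735 c) (Nat.ble 2732 c)
noncomputable def finTab_s_2724_2735 (c : Nat) : Nat := @Bool.rec (fun _ => Nat) (finTab_s_2724_2729 c) (finTab_s_2729_2735 c) (Nat.ble 2729 c)
noncomputable def finTab_s_2736_2738 (c : Nat) : Nat := @Bool.rec (fun _ => Nat) (finTab_2736) (finTab_2737) (Nat.ble 2737 c)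
noncomputable def finTab_s_2735_2738 (c : Nat) : Nat := @Bool.rec (fun _ => Nat) (finTab_2735) (finTab_s_2736_2738 c) (Nat.ble 2736 c)
noncomputable def finTab_s_2739_2741 (c : Nat) : Nat := @Bool.rec (fun _ => Nat) (finTab_2739) (finTab_2740) (Nat.ble 2740 c)
noncomputable def finTab_s_2738_2741 (c : Nat) : Nat := @Bool.rec (fun _ => Nat) (finTab_2738) (finTab_s_2739_2741 c) (Nat.ble 2739 c)
noncomputable def finTab_s_2735_2741 (c : Nat) : Nat := @Bool.rec (fun _ => Nat) (finTab_s_2735_2738 c) (finTab_s_2738_2741 c) (Nat.ble 2738 c)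
noncomputable def finTab_s_2742_2744 (c : Nat) : Nat := @Bool.rec (fun _ => Nat) (finTab_2742) (finTab_2743) (Nat.ble 2743 c)
noncomputable def finTab_s_2741_2744 (c : Nat) : Nat := @Bool.rec (fun _ => Nat) (finTab_2741) (finTab_s_2742_2744 c) (Nat.ble 2742 c)
noncomputable def finTab_s_2745_2747 (c : Nat) : Nat := @Bool.rec (fun _ => Nat) (finTab_2745) (finTab_2746) (Nat.ble 2746 c)
noncomputable def finTab_s_2744_2747 (c : Nat) : Nat := @Bool.rec (fun _ => Nat) (finTab_2744) (finTab_s_2745_2747 c) (Nat.ble 2745 c)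
noncomputable def finTab_s_2741_2747 (c : Nat) : Nat := @Bool.rec (fun _ => Nat) (finTab_s_2741_2744 c) (finTab_s_2744_2747 c) (Nat.ble 2744 c)
noncomputable def finTab_s_2735_2747 (c : Nat) : Nat := @Bool.rec (fun _ => Nat) (finTab_s_2735_2741 c) (finTab_s_2741_2747 c) (Nat.ble 2741 c)
noncomputable def finTab_s_2724_2747 (c : Nat) : Nat := @Bool.rec (fun _ => Nat) (finTab_s_2724_2735 c) (finTab_s_2735_2747 c) (Nat.ble 2735 c)
noncomputable def finTab_s_2748_2750 (c : Nat) : Nat := @Bool.rec (fun _ => Nat) (finTab_2748) (finTab_2749) (Nat.ble 2749 c)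
noncomputable def finTab_s_2747_2750 (c : Nat) : Nat := @Bool.rec (fun _ => Nat) (finTab_2747) (finTab_s_2748_2750 c) (Nat.ble 2748 c)
noncomputable def finTab_s_2751_2753 (c : Nat) : Nat := @Bool.rec (fun _ => Nat) (finTab_2751) (finTab_2752) (Nat.ble 2752 c)
noncomputable def finTab_s_2750_2753 (c : Nat) : Nat := @Bool.rec (fun _ => Nat) (finTab_2750) (finTab_s_2751_2753 c) (Nat.ble 2751 c)
noncomputable def finTab_s_2747_2753 (c : Nat) : Nat := @Bool.rec (fun _ => Nat) (finTab_s_2747_2750 c) (finTab_s_2750_2753 c) (Nat.ble 2750 c)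
noncomputable def finTab_s_2754_2756 (c : Nat) : Nat := @Bool.rec (fun _ => Nat) (finTab_2754) (finTab_2755) (Nat.ble 2755 c)
noncomputable def finTab_s_2753_2756 (c : Nat) : Nat := @Bool.rec (fun _ => Nat) (finTab_2753) (finTab_s_2754_2756 c) (Nat.ble 2754 c)
noncomputable def finTab_s_2757_2759 (c : Nat) : Nat := @Bool.rec (fun _ => Nat) (finTab_2757) (finTab_2758) (Nat.ble 2758 c)
noncomputable def finTab_s_2756_2759 (c : Nat) : Nat := @Bool.rec (fun _ => Nat) (finTab_2756) (finTab_s_2757_2759 c) (Nat.ble 2757 c)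
noncomputable def finTab_s_2753_2759 (c : Nat) : Nat := @Bool.rec (fun _ => Nat) (finTab_s_2753_2756 c) (finTab_s_2756_2759 c) (Nat.ble 2756 c)
noncomputable def finTab_s_2747_2759 (c : Nat) : Nat := @Bool.rec (fun _ => Nat) (finTab_s_2747_2753 c) (finTab_s_2753_2759 c) (Nat.ble 2753 c)
noncomputable def finTab_s_2760_2762 (c : Nat) : Nat := @Bool.rec (fun _ => Nat) (finTab_2760) (finTab_2761) (Nat.ble 2761 c)
noncomputable def finTab_s_2759_2762 (c : Nat) : Nat := @Bool.rec (fun _ => Nat) (finTab_2759) (finTab_s_2760_2762 c) (Nat.ble 2760 c)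
noncomputable def finTab_s_2763_2765 (c : Nat) : Nat := @Bool.rec (fun _ => Nat) (finTab_2763) (finTab_2764) (Nat.ble 2764 c)
noncomputable def finTab_s_2762_2765 (c : Nat) : Nat := @Bool.rec (fun _ => Nat) (finTab_2762) (finTab_s_2763_2765 c) (Nat.ble 2763 c)
noncomputable def finTab_s_2759_2765 (c : Nat) : Nat := @Bool.rec (fun _ => Nat) (finTab_s_2759_2762 c) (finTab_s_2762_2765 c) (Nat.ble 2762 c)
noncomputable def finTab_s_2766_2768 (c : Nat) : Nat := @Bool.rec (fun _ => Nat) (finTab_2766) (finTab_2767) (Nat.ble 2767 c)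
noncomputable def finTab_s_2765_2768 (c : Nat) : Nat := @Bool.rec (fun _ => Nat) (finTab_2765) (finTab_s_2766_2768 c) (Nat.ble 2766 c)
noncomputable def finTab_s_2769_2771 (c : Nat) : Nat := @Bool.rec (fun _ => Nat) (finTab_2769) (finTab_2770) (Nat.ble 2770 c)
noncomputable def finTab_s_2768_2771 (c : Nat) : Nat := @Bool.rec (fun _ => Nat) (finTab_2768) (finTab_s_2769_2771 c) (Nat.ble 2769 c)
noncomputable def finTab_s_2765_2771 (c : Nat) : Nat := @Bool.rec (fun _ => Nat) (finTab_s_2765_2768 c) (finTab_s_2768_2771 c) (Nat.ble 2768 c)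
noncomputable def finTab_s_2759_2771 (c : Nat) : Nat := @Bool.rec (fun _ => Nat) (finTab_s_2759_2765 c) (finTab_s_2765_2771 c) (Nat.ble 2765 c)
noncomputable def finTab_s_2747_2771 (c : Nat) : Nat := @Bool.rec (fun _ => Nat) (finTab_s_2747_2759 c) (finTab_s_2759_2771 c) (Nat.ble 2759 c)
noncomputable def finTab_s_2724_2771 (c : Nat) : Nat := @Bool.rec (fun _ => Nat) (finTab_s_2724_2747 c) (finTab_s_2747_2771 c) (Nat.ble 2747 c)
noncomputable def finTab_s_2771_2773 (c : Nat) : Nat := @Bool.rec (fun _ => Nat) (finTab_2771) (finTab_2772) (Nat.ble 2772 c)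
noncomputable def finTab_s_2774_2776 (c : Nat) : Nat := @Bool.rec (fun _ => Nat) (finTab_2774) (finTab_2775) (Nat.ble 2775 c)
noncomputable def finTab_s_2773_2776 (c : Nat) : Nat := @Bool.rec (fun _ => Nat) (finTab_2773) (finTab_s_2774_2776 c) (Nat.ble 2774 c)
noncomputable def finTab_s_2771_2776 (c : Nat) : Nat := @Bool.rec (fun _ => Nat) (finTab_s_2771_2773 c) (finTab_s_2773_2776 c) (Nat.ble 2773 c)
noncomputable def finTab_s_2777_2779 (c : Nat) : Nat := @Bool.rec (fun _ => Nat) (finTab_2777) (finTab_2778) (Nat.ble 2778 c)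
noncomputable def finTab_s_2776_2779 (c : Nat) : Nat := @Bool.rec (fun _ => Nat) (finTab_2776) (finTab_s_2777_2779 c) (Nat.ble 2777 c)
noncomputable def finTab_s_2780_2782 (c : Nat) : Nat := @Bool.rec (fun _ => Nat) (finTab_2780) (finTab_2781) (Nat.ble 2781 c)
noncomputable def finTab_s_2779_2782 (c : Nat) : Nat := @Bool.rec (fun _ => Nat) (finTab_2779) (finTab_s_2780_2782 c) (Nat.ble 2780 c)
noncomputable def finTab_s_2776_2782 (c : Nat) : Nat := @Bool.rec (fun _ => Nat) (finTab_s_2776_2779 c) (finTab_s_2779_2782 c) (Nat.ble 2779 c)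
noncomputable def finTab_s_2771_2782 (c : Nat) : Nat := @Bool.rec (fun _ => Nat) (finTab_s_2771_2776 c) (finTab_s_2776_2782 c) (Nat.ble 2776 c)
noncomputable def finTab_s_2783_2785 (c : Nat) : Nat := @Bool.rec (fun _ => Nat) (finTab_2783) (finTab_2784) (Nat.ble 2784 c)
noncomputable def finTab_s_2782_2785 (c : Nat) : Nat := @Bool.rec (fun _ => Nat) (finTab_2782) (finTab_s_2783_2785 c) (Nat.ble 2783 c)
noncomputable def finTab_s_2786_2788 (c : Nat) : Nat := @Bool.rec (fun _ => Nat) (finTab_2786) (finTab_2787) (Nat.ble 2787 c)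
noncomputable def finTab_s_2785_2788 (c : Nat) : Nat := @Bool.rec (fun _ => Nat) (finTab_2785) (finTab_s_2786_2788 c) (Nat.ble 2786 c)
noncomputable def finTab_s_2782_2788 (c : Nat) : Nat := @Bool.rec (fun _ => Nat) (finTab_s_2782_2785 c) (finTab_s_2785_2788 c) (Nat.ble 2785 c)
noncomputable def finTab_s_2789_2791 (c : Nat) : Nat := @Bool.rec (fun _ => Nat) (finTab_2789) (finTab_2790) (Nat.ble 2790 c)
noncomputable def finTab_s_2788_2791 (c : Nat) : Nat := @Bool.rec (fun _ => Nat) (finTab_2788) (finTab_s_2789_2791 c) (Nat.ble 2789 c)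
noncomputable def finTab_s_2792_2794 (c : Nat) : Nat := @Bool.rec (fun _ => Nat) (finTab_2792) (finTab_2793) (Nat.ble 2793 c)
noncomputable def finTab_s_2791_2794 (c : Nat) : Nat := @Bool.rec (fun _ => Nat) (finTab_2791) (finTab_s_2792_2794 c) (Nat.ble 2792 c)
noncomputable def finTab_s_2788_2794 (c : Nat) : Nat := @Bool.rec (fun _ => Nat) (finTab_s_2788_2791 c) (finTab_s_2791_2794 c) (Nat.ble 2791 c)
noncomputable def finTab_s_2782_2794 (c : Nat) : Nat := @Bool.rec (fun _ => Nat) (finTab_s_2782_2788 c) (finTab_s_2788_2794 c) (Nat.ble 2788 c)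
noncomputable def finTab_s_2771_2794 (c : Nat) : Nat := @Bool.rec (fun _ => Nat) (finTab_s_2771_2782 c) (finTab_s_2782_2794 c) (Nat.ble 2782 c)
noncomputable def finTab_s_2795_2797 (c : Nat) : Nat := @Bool.rec (fun _ => Nat) (finTab_2795) (finTab_2796) (Nat.ble 2796 c)
noncomputable def finTab_s_2794_2797 (c : Nat) : Nat := @Bool.rec (fun _ => Nat) (finTab_2794) (finTab_s_2795_2797 c) (Nat.ble 2795 c)
noncomputable def finTab_s_2798_2800 (c : Nat) : Nat := @Bool.rec (fun _ => Nat) (finTab_2798) (finTab_2799) (Nat.ble 2799 c)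
noncomputable def finTab_s_2797_2800 (c : Nat) : Nat := @Bool.rec (fun _ => Nat) (finTab_2797) (finTab_s_2798_2800 c) (Nat.ble 2798 c)
noncomputable def finTab_s_2794_2800 (c : Nat) : Nat := @Bool.rec (fun _ => Nat) (finTab_s_2794_2797 c) (finTab_s_2797_2800 c) (Nat.ble 2797 c)
noncomputable def finTab_s_2801_2803 (c : Nat) : Nat := @Bool.rec (fun _ => Nat) (finTab_2801) (finTab_2802) (Nat.ble 2802 c)
noncomputable def finTab_s_2800_2803 (c : Nat) : Nat := @Bool.rec (fun _ => Nat) (finTab_2800) (finTab_s_2801_2803 c) (Nat.ble 2801 c)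
noncomputable def finTab_s_2804_2806 (c : Nat) : Nat := @Bool.rec (fun _ => Nat) (finTab_2804) (finTab_2805) (Nat.ble 2805 c)
noncomputable def finTab_s_2803_2806 (c : Nat) : Nat := @Bool.rec (fun _ => Nat) (finTab_2803) (finTab_s_2804_2806 c) (Nat.ble 2804 c)
noncomputable def finTab_s_2800_2806 (c : Nat) : Nat := @Bool.rec (fun _ => Nat) (finTab_s_2800_2803 c) (finTab_s_2803_2806 c) (Nat.ble 2803 c)
noncomputable def finTab_s_2794_2806 (c : Nat) : Nat := @Bool.rec (fun _ => Nat) (finTab_s_2794_2800 c) (finTab_s_2800_2806 c) (Nat.ble 2800 c)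
noncomputable def finTab_s_2807_2809 (c : Nat) : Nat := @Bool.rec (fun _ => Nat) (finTab_2807) (finTab_2808) (Nat.ble 2808 c)
noncomputable def finTab_s_2806_2809 (c : Nat) : Nat := @Bool.rec (fun _ => Nat) (finTab_2806) (finTab_s_2807_2809 c) (Nat.ble 2807 c)
noncomputable def finTab_s_2810_2812 (c : Nat) : Nat := @Bool.rec (fun _ => Nat) (finTab_2810) (finTab_2811) (Nat.ble 2811 c)
noncomputable def finTab_s_2809_2812 (c : Nat) : Nat := @Bool.rec (fun _ => Nat) (finTab_2809) (finTab_s_2810_2812 c) (Nat.ble 2810 c)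
noncomputable def finTab_s_2806_2812 (c : Nat) : Nat := @Bool.rec (fun _ => Nat) (finTab_s_2806_2809 c) (finTab_s_2809_2812 c) (Nat.ble 2809 c)
noncomputable def finTab_s_2813_2815 (c : Nat) : Nat := @Bool.rec (fun _ => Nat) (finTab_2813) (finTab_2814) (Nat.ble 2814 c)
noncomputable def finTab_s_2812_2815 (c : Nat) : Nat := @Bool.rec (fun _ => Nat) (finTab_2812) (finTab_s_2813_2815 c) (Nat.ble 2813 c)
noncomputable def finTab_s_2816_2818 (c : Nat) : Nat := @Bool.rec (fun _ => Nat) (finTab_2816) (finTab_2817) (Nat.ble 2817 c)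
noncomputable def finTab_s_2815_2818 (c : Nat) : Nat := @Bool.rec (fun _ => Nat) (finTab_2815) (finTab_s_2816_2818 c) (Nat.ble 2816 c)
noncomputable def finTab_s_2812_2818 (c : Nat) : Nat := @Bool.rec (fun _ => Nat) (finTab_s_2812_2815 c) (finTab_s_2815_2818 c) (Nat.ble 2815 c)
noncomputable def finTab_s_2806_2818 (c : Nat) : Nat := @Bool.rec (fun _ => Nat) (finTab_s_2806_2812 c) (finTab_s_2812_2818 c) (Nat.ble 2812 c)
noncomputable def finTab_s_2794_2818 (c : Nat) : Nat := @Bool.rec (fun _ => Nat) (finTab_s_2794_2806 c) (finTab_s_2806_2818 c) (Nat.ble 2806 c)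
noncomputable def finTab_s_2771_2818 (c : Nat) : Nat := @Bool.rec (fun _ => Nat) (finTab_s_2771_2794 c) (finTab_s_2794_2818 c) (Nat.ble 2794 c)
noncomputable def finTab_s_2724_2818 (c : Nat) : Nat := @Bool.rec (fun _ => Nat) (finTab_s_2724_2771 c) (finTab_s_2771_2818 c) (Nat.ble 2771 c)
noncomputable def finTab_s_2630_2818 (c : Nat) : Nat := @Bool.rec (fun _ => Nat) (finTab_s_2630_2724 c) (finTab_s_2724_2818 c) (Nat.ble 2724 c)
noncomputable def finTab_s_2818_2820 (c : Nat) : Nat := @Bool.rec (fun _ => Nat) (finTab_2818) (finTab_2819) (Nat.ble 2819 c)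
noncomputable def finTab_s_2821_2823 (c : Nat) : Nat := @Bool.rec (fun _ => Nat) (finTab_2821) (finTab_2822) (Nat.ble 2822 c)
noncomputable def finTab_s_2820_2823 (c : Nat) : Nat := @Bool.rec (fun _ => Nat) (finTab_2820) (finTab_s_2821_2823 c) (Nat.ble 2821 c)
noncomputable def finTab_s_2818_2823 (c : Nat) : Nat := @Bool.rec (fun _ => Nat) (finTab_s_2818_2820 c) (finTab_s_2820_2823 c) (Nat.ble 2820 c)
noncomputable def finTab_s_2824_2826 (c : Nat) : Nat := @Bool.rec (fun _ => Nat) (finTab_2824) (finTab_2825) (Nat.ble 2825 c)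
noncomputable def finTab_s_2823_2826 (c : Nat) : Nat := @Bool.rec (fun _ => Nat) (finTab_2823) (finTab_s_2824_2826 c) (Nat.ble 2824 c)
noncomputable def finTab_s_2827_2829 (c : Nat) : Nat := @Bool.rec (fun _ => Nat) (finTab_2827) (finTab_2828) (Nat.ble 2828 c)
noncomputable def finTab_s_2826_2829 (c : Nat) : Nat := @Bool.rec (fun _ => Nat) (finTab_2826) (finTab_s_2827_2829 c) (Nat.ble 2827 c)
noncomputable def finTab_s_2823_2829 (c : Nat) : Nat := @Bool.rec (fun _ => Nat) (finTab_s_2823_2826 c) (finTab_s_2826_2829 c) (Nat.ble 2826 c)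
noncomputable def finTab_s_2818_2829 (c : Nat) : Nat := @Bool.rec (fun _ => Nat) (finTab_s_2818_2823 c) (finTab_s_2823_2829 c) (Nat.ble 2823 c)
noncomputable def finTab_s_2830_2832 (c : Nat) : Nat := @Bool.rec (fun _ => Nat) (finTab_2830) (finTab_2831) (Nat.ble 2831 c)
noncomputable def finTab_s_2829_2832 (c : Nat) : Nat := @Bool.rec (fun _ => Nat) (finTab_2829) (finTab_s_2830_2832 c) (Nat.ble 2830 c)
noncomputable def finTab_s_2833_2835 (c : Nat) : Nat := @Bool.rec (fun _ => Nat) (finTab_2833) (finTab_2834) (Nat.ble 2834 c)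
noncomputable def finTab_s_2832_2835 (c : Nat) : Nat := @Bool.rec (fun _ => Nat) (finTab_2832) (finTab_s_2833_2835 c) (Nat.ble 2833 c)
noncomputable def finTab_s_2829_2835 (c : Nat) : Nat := @Bool.rec (fun _ => Nat) (finTab_s_2829_2832 c) (finTab_s_2832_2835 c) (Nat.ble 2832 c)
noncomputable def finTab_s_2836_2838 (c : Nat) : Nat := @Bool.rec (fun _ => Nat) (finTab_2836) (finTab_2837) (Nat.ble 2837 c)
noncomputable def finTab_s_2835_2838 (c : Nat) : Nat := @Bool.rec (fun _ => Nat) (finTab_2835) (finTab_s_2836_2838 c) (Nat.ble 2836 c)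
noncomputable def finTab_s_2839_2841 (c : Nat) : Nat := @Bool.rec (fun _ => Nat) (finTab_2839) (finTab_2840) (Nat.ble 2840 c)
noncomputable def finTab_s_2838_2841 (c : Nat) : Nat := @Bool.rec (fun _ => Nat) (finTab_2838) (finTab_s_2839_2841 c) (Nat.ble 2839 c)
noncomputable def finTab_s_2835_2841 (c : Nat) : Nat := @Bool.rec (fun _ => Nat) (finTab_s_2835_2838 c) (finTab_s_2838_2841 c) (Nat.ble 2838 c)
noncomputable def finTab_s_2829_2841 (c : Nat) : Nat := @Bool.rec (fun _ => Nat) (finTab_s_2829_2835 c) (finTab_s_2835_2841 c) (Nat.ble 2835 c)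
noncomputable def finTab_s_2818_2841 (c : Nat) : Nat := @Bool.rec (fun _ => Nat) (finTab_s_2818_2829 c) (finTab_s_2829_2841 c) (Nat.ble 2829 c)
noncomputable def finTab_s_2842_2844 (c : Nat) : Nat := @Bool.rec (fun _ => Nat) (finTab_2842) (finTab_2843) (Nat.ble 2843 c)
noncomputable def finTab_s_2841_2844 (c : Nat) : Nat := @Bool.rec (fun _ => Nat) (finTab_2841) (finTab_s_2842_2844 c) (Nat.ble 2842 c)
noncomputable def finTab_s_2845_2847 (c : Nat) : Nat := @Bool.rec (fun _ => Nat) (finTab_2845) (finTab_2846) (Nat.ble 2846 c)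
noncomputable def finTab_s_2844_2847 (c : Nat) : Nat := @Bool.rec (fun _ => Nat) (finTab_2844) (finTab_s_2845_2847 c) (Nat.ble 2845 c)
noncomputable def finTab_s_2841_2847 (c : Nat) : Nat := @Bool.rec (fun _ => Nat) (finTab_s_2841_2844 c) (finTab_s_2844_2847 c) (Nat.ble 2844 c)
noncomputable def finTab_s_2848_2850 (c : Nat) : Nat := @Bool.rec (fun _ => Nat) (finTab_2848) (finTab_2849) (Nat.ble 2849 c)
noncomputable def finTab_s_2847_2850 (c : Nat) : Nat := @Bool.rec (fun _ => Nat) (finTab_2847) (finTab_s_2848_2850 c) (Nat.ble 2848 c)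
noncomputable def finTab_s_2851_2853 (c : Nat) : Nat := @Bool.rec (fun _ => Nat) (finTab_2851) (finTab_2852) (Nat.ble 2852 c)
noncomputable def finTab_s_2850_2853 (c : Nat) : Nat := @Bool.rec (fun _ => Nat) (finTab_2850) (finTab_s_2851_2853 c) (Nat.ble 2851 c)
noncomputable def finTab_s_2847_2853 (c : Nat) : Nat := @Bool.rec (fun _ => Nat) (finTab_s_2847_2850 c) (finTab_s_2850_2853 c) (Nat.ble 2850 c)
noncomputable def finTab_s_2841_2853 (c : Nat) : Nat := @Bool.rec (fun _ => Nat) (finTab_s_2841_2847 c) (finTab_s_2847_2853 c) (Nat.ble 2847 c)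
noncomputable def finTab_s_2854_2856 (c : Nat) : Nat := @Bool.rec (fun _ => Nat) (finTab_2854) (finTab_2855) (Nat.ble 2855 c)
noncomputable def finTab_s_2853_2856 (c : Nat) : Nat := @Bool.rec (fun _ => Nat) (finTab_2853) (finTab_s_2854_2856 c) (Nat.ble 2854 c)
noncomputable def finTab_s_2857_2859 (c : Nat) : Nat := @Bool.rec (fun _ => Nat) (finTab_2857) (finTab_2858) (Nat.ble 2858 c)
noncomputable def finTab_s_2856_2859 (c : Nat) : Nat := @Bool.rec (fun _ => Nat) (finTab_2856) (finTab_s_2857_2859 c) (Nat.ble 2857 c)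
noncomputable def finTab_s_2853_2859 (c : Nat) : Nat := @Bool.rec (fun _ => Nat) (finTab_s_2853_2856 c) (finTab_s_2856_2859 c) (Nat.ble 2856 c)
noncomputable def finTab_s_2860_2862 (c : Nat) : Nat := @Bool.rec (fun _ => Nat) (finTab_2860) (finTab_2861) (Nat.ble 2861 c)
noncomputable def finTab_s_2859_2862 (c : Nat) : Nat := @Bool.rec (fun _ => Nat) (finTab_2859) (finTab_s_2860_2862 c) (Nat.ble 2860 c)
noncomputable def finTab_s_2863_2865 (c : Nat) : Nat := @Bool.rec (fun _ => Nat) (finTab_2863) (finTab_2864) (Nat.ble 2864 c)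
noncomputable def finTab_s_2862_2865 (c : Nat) : Nat := @Bool.rec (fun _ => Nat) (finTab_2862) (finTab_s_2863_2865 c) (Nat.ble 2863 c)
noncomputable def finTab_s_2859_2865 (c : Nat) : Nat := @Bool.rec (fun _ => Nat) (finTab_s_2859_2862 c) (finTab_s_2862_2865 c) (Nat.ble 2862 c)
noncomputable def finTab_s_2853_2865 (c : Nat) : Nat := @Bool.rec (fun _ => Nat) (finTab_s_2853_2859 c) (finTab_s_2859_2865 c) (Nat.ble 2859 c)
noncomputable def finTab_s_2841_2865 (c : Nat) : Nat := @Bool.rec (fun _ => Nat) (finTab_s_2841_2853 c) (finTab_s_2853_2865 c) (Nat.ble 2853 c)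
noncomputable def finTab_s_2818_2865 (c : Nat) : Nat := @Bool.rec (fun _ => Nat) (finTab_s_2818_2841 c) (finTab_s_2841_2865 c) (Nat.ble 2841 c)
noncomputable def finTab_s_2865_2867 (c : Nat) : Nat := @Bool.rec (fun _ => Nat) (finTab_2865) (finTab_2866) (Nat.ble 2866 c)
noncomputable def finTab_s_2868_2870 (c : Nat) : Nat := @Bool.rec (fun _ => Nat) (finTab_2868) (finTab_2869) (Nat.ble 2869 c)
noncomputable def finTab_s_2867_2870 (c : Nat) : Nat := @Bool.rec (fun _ => Nat) (finTab_2867) (finTab_s_2868_2870 c) (Nat.ble 2868 c)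
noncomputable def finTab_s_2865_2870 (c : Nat) : Nat := @Bool.rec (fun _ => Nat) (finTab_s_2865_2867 c) (finTab_s_2867_2870 c) (Nat.ble 2867 c)
noncomputable def finTab_s_2871_2873 (c : Nat) : Nat := @Bool.rec (fun _ => Nat) (finTab_2871) (finTab_2872) (Nat.ble 2872 c)
noncomputable def finTab_s_2870_2873 (c : Nat) : Nat := @Bool.rec (fun _ => Nat) (finTab_2870) (finTab_s_2871_2873 c) (Nat.ble 2871 c)
noncomputable def finTab_s_2874_2876 (c : Nat) : Nat := @Bool.rec (fun _ => Nat) (finTab_2874) (finTab_2875) (Nat.ble 2875 c)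
noncomputable def finTab_s_2873_2876 (c : Nat) : Nat := @Bool.rec (fun _ => Nat) (finTab_2873) (finTab_s_2874_2876 c) (Nat.ble 2874 c)
noncomputable def finTab_s_2870_2876 (c : Nat) : Nat := @Bool.rec (fun _ => Nat) (finTab_s_2870_2873 c) (finTab_s_2873_2876 c) (Nat.ble 2873 c)
noncomputable def finTab_s_2865_2876 (c : Nat) : Nat := @Bool.rec (fun _ => Nat) (finTab_s_2865_2870 c) (finTab_s_2870_2876 c) (Nat.ble 2870 c)
noncomputable def finTab_s_2877_2879 (c : Nat) : Nat := @Bool.rec (fun _ => Nat) (finTab_2877) (finTab_2878) (Nat.ble 2878 c)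
noncomputable def finTab_s_2876_2879 (c : Nat) : Nat := @Bool.rec (fun _ => Nat) (finTab_2876) (finTab_s_2877_2879 c) (Nat.ble 2877 c)
noncomputable def finTab_s_2880_2882 (c : Nat) : Nat := @Bool.rec (fun _ => Nat) (finTab_2880) (finTab_2881) (Nat.ble 2881 c)
noncomputable def finTab_s_2879_2882 (c : Nat) : Nat := @Bool.rec (fun _ => Nat) (finTab_2879) (finTab_s_2880_2882 c) (Nat.ble 2880 c)
noncomputable def finTab_s_2876_2882 (c : Nat) : Nat := @Bool.rec (fun _ => Nat) (finTab_s_2876_2879 c) (finTab_s_2879_2882 c) (Nat.ble 2879 c)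
noncomputable def finTab_s_2883_2885 (c : Nat) : Nat := @Bool.rec (fun _ => Nat) (finTab_2883) (finTab_2884) (Nat.ble 2884 c)
noncomputable def finTab_s_2882_2885 (c : Nat) : Nat := @Bool.rec (fun _ => Nat) (finTab_2882) (finTab_s_2883_2885 c) (Nat.ble 2883 c)
noncomputable def finTab_s_2886_2888 (c : Nat) : Nat := @Bool.rec (fun _ => Nat) (finTab_2886) (finTab_2887) (Nat.ble 2887 c)
noncomputable def finTab_s_2885_2888 (c : Nat) : Nat := @Bool.rec (fun _ => Nat) (finTab_2885) (finTab_s_2886_2888 c) (Nat.ble 2886 c)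
noncomputable def finTab_s_2882_2888 (c : Nat) : Nat := @Bool.rec (fun _ => Nat) (finTab_s_2882_2885 c) (finTab_s_2885_2888 c) (Nat.ble 2885 c)
noncomputable def finTab_s_2876_2888 (c : Nat) : Nat := @Bool.rec (fun _ => Nat) (finTab_s_2876_2882 c) (finTab_s_2882_2888 c) (Nat.ble 2882 c)
noncomputable def finTab_s_2865_2888 (c : Nat) : Nat := @Bool.rec (fun _ => Nat) (finTab_s_2865_2876 c) (finTab_s_2876_2888 c) (Nat.ble 2876 c)
noncomputable def finTab_s_2889_2891 (c : Nat) : Nat := @Bool.rec (fun _ => Nat) (finTab_2889) (finTab_2890) (Nat.ble 2890 c)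
noncomputable def finTab_s_2888_2891 (c : Nat) : Nat := @Bool.rec (fun _ => Nat) (finTab_2888) (finTab_s_2889_2891 c) (Nat.ble 2889 c)
noncomputable def finTab_s_2892_2894 (c : Nat) : Nat := @Bool.rec (fun _ => Nat) (finTab_2892) (finTab_2893) (Nat.ble 2893 c)
noncomputable def finTab_s_2891_2894 (c : Nat) : Nat := @Bool.rec (fun _ => Nat) (finTab_2891) (finTab_s_2892_2894 c) (Nat.ble 2892 c)
noncomputable def finTab_s_2888_2894 (c : Nat) : Nat := @Bool.rec (fun _ => Nat) (finTab_s_2888_2891 c) (finTab_s_2891_2894 c) (Nat.ble 2891 c)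
noncomputable def finTab_s_2895_2897 (c : Nat) : Nat := @Bool.rec (fun _ => Nat) (finTab_2895) (finTab_2896) (Nat.ble 2896 c)
noncomputable def finTab_s_2894_2897 (c : Nat) : Nat := @Bool.rec (fun _ => Nat) (finTab_2894) (finTab_s_2895_2897 c) (Nat.ble 2895 c)
noncomputable def finTab_s_2898_2900 (c : Nat) : Nat := @Bool.rec (fun _ => Nat) (finTab_2898) (finTab_2899) (Nat.ble 2899 c)
noncomputable def finTab_s_2897_2900 (c : Nat) : Nat := @Bool.rec (fun _ => Nat) (finTab_2897) (finTab_s_2898_2900 c) (Nat.ble 2898 c)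
noncomputable def finTab_s_2894_2900 (c : Nat) : Nat := @Bool.rec (fun _ => Nat) (finTab_s_2894_2897 c) (finTab_s_2897_2900 c) (Nat.ble 2897 c)
noncomputable def finTab_s_2888_2900 (c : Nat) : Nat := @Bool.rec (fun _ => Nat) (finTab_s_2888_2894 c) (finTab_s_2894_2900 c) (Nat.ble 2894 c)
noncomputable def finTab_s_2901_2903 (c : Nat) : Nat := @Bool.rec (fun _ => Nat) (finTab_2901) (finTab_2902) (Nat.ble 2902 c)
noncomputable def finTab_s_2900_2903 (c : Nat) : Nat := @Bool.rec (fun _ => Nat) (finTab_2900) (finTab_s_2901_2903 c) (Nat.ble 2901 c)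
noncomputable def finTab_s_2904_2906 (c : Nat) : Nat := @Bool.rec (fun _ => Nat) (finTab_2904) (finTab_2905) (Nat.ble 2905 c)
noncomputable def finTab_s_2903_2906 (c : Nat) : Nat := @Bool.rec (fun _ => Nat) (finTab_2903) (finTab_s_2904_2906 c) (Nat.ble 2904 c)
noncomputable def finTab_s_2900_2906 (c : Nat) : Nat := @Bool.rec (fun _ => Nat) (finTab_s_2900_2903 c) (finTab_s_2903_2906 c) (Nat.ble 2903 c)
noncomputable def finTab_s_2907_2909 (c : Nat) : Nat := @Bool.rec (fun _ => Nat) (finTab_2907) (finTab_2908) (Nat.ble 2908 c)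
noncomputable def finTab_s_2906_2909 (c : Nat) : Nat := @Bool.rec (fun _ => Nat) (finTab_2906) (finTab_s_2907_2909 c) (Nat.ble 2907 c)
noncomputable def finTab_s_2910_2912 (c : Nat) : Nat := @Bool.rec (fun _ => Nat) (finTab_2910) (finTab_2911) (Nat.ble 2911 c)
noncomputable def finTab_s_2909_2912 (c : Nat) : Nat := @Bool.rec (fun _ => Nat) (finTab_2909) (finTab_s_2910_2912 c) (Nat.ble 2910 c)
noncomputable def finTab_s_2906_2912 (c : Nat) : Nat := @Bool.rec (fun _ => Nat) (finTab_s_2906_2909 c) (finTab_s_2909_2912 c) (Nat.ble 2909 c)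
noncomputable def finTab_s_2900_2912 (c : Nat) : Nat := @Bool.rec (fun _ => Nat) (finTab_s_2900_2906 c) (finTab_s_2906_2912 c) (Nat.ble 2906 c)
noncomputable def finTab_s_2888_2912 (c : Nat) : Nat := @Bool.rec (fun _ => Nat) (finTab_s_2888_2900 c) (finTab_s_2900_2912 c) (Nat.ble 2900 c)
noncomputable def finTab_s_2865_2912 (c : Nat) : Nat := @Bool.rec (fun _ => Nat) (finTab_s_2865_2888 c) (finTab_s_2888_2912 c) (Nat.ble 2888 c)
noncomputable def finTab_s_2818_2912 (c : Nat) : Nat := @Bool.rec (fun _ => Nat) (finTab_s_2818_2865 c) (finTab_s_2865_2912 c) (Nat.ble 2865 c)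
noncomputable def finTab_s_2912_2914 (c : Nat) : Nat := @Bool.rec (fun _ => Nat) (finTab_2912) (finTab_2913) (Nat.ble 2913 c)
noncomputable def finTab_s_2915_2917 (c : Nat) : Nat := @Bool.rec (fun _ => Nat) (finTab_2915) (finTab_2916) (Nat.ble 2916 c)
noncomputable def finTab_s_2914_2917 (c : Nat) : Nat := @Bool.rec (fun _ => Nat) (finTab_2914) (finTab_s_2915_2917 c) (Nat.ble 2915 c)
noncomputable def finTab_s_2912_2917 (c : Nat) : Nat := @Bool.rec (fun _ => Nat) (finTab_s_2912_2914 c) (finTab_s_2914_2917 c) (Nat.ble 2914 c)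
noncomputable def finTab_s_2918_2920 (c : Nat) : Nat := @Bool.rec (fun _ => Nat) (finTab_2918) (finTab_2919) (Nat.ble 2919 c)
noncomputable def finTab_s_2917_2920 (c : Nat) : Nat := @Bool.rec (fun _ => Nat) (finTab_2917) (finTab_s_2918_2920 c) (Nat.ble 2918 c)
noncomputable def finTab_s_2921_2923 (c : Nat) : Nat := @Bool.rec (fun _ => Nat) (finTab_2921) (finTab_2922) (Nat.ble 2922 c)
noncomputable def finTab_s_2920_2923 (c : Nat) : Nat := @Bool.rec (fun _ => Nat) (finTab_2920) (finTab_s_2921_2923 c) (Nat.ble 2921 c)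
noncomputable def finTab_s_2917_2923 (c : Nat) : Nat := @Bool.rec (fun _ => Nat) (finTab_s_2917_2920 c) (finTab_s_2920_2923 c) (Nat.ble 2920 c)
noncomputable def finTab_s_2912_2923 (c : Nat) : Nat := @Bool.rec (fun _ => Nat) (finTab_s_2912_2917 c) (finTab_s_2917_2923 c) (Nat.ble 2917 c)
noncomputable def finTab_s_2924_2926 (c : Nat) : Nat := @Bool.rec (fun _ => Nat) (finTab_2924) (finTab_2925) (Nat.ble 2925 c)
noncomputable def finTab_s_2923_2926 (c : Nat) : Nat := @Bool.rec (fun _ => Nat) (finTab_2923) (finTab_s_2924_2926 c) (Nat.ble 2924 c)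
noncomputable def finTab_s_2927_2929 (c : Nat) : Nat := @Bool.rec (fun _ => Nat) (finTab_2927) (finTab_2928) (Nat.ble 2928 c)
noncomputable def finTab_s_2926_2929 (c : Nat) : Nat := @Bool.rec (fun _ => Nat) (finTab_2926) (finTab_s_2927_2929 c) (Nat.ble 2927 c)
noncomputable def finTab_s_2923_2929 (c : Nat) : Nat := @Bool.rec (fun _ => Nat) (finTab_s_2923_2926 c) (finTab_s_2926_2929 c) (Nat.ble 2926 c)
noncomputable def finTab_s_2930_2932 (c : Nat) : Nat := @Bool.rec (fun _ => Nat) (finTab_2930) (finTab_2931) (Nat.ble 2931 c)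
noncomputable def finTab_s_2929_2932 (c : Nat) : Nat := @Bool.rec (fun _ => Nat) (finTab_2929) (finTab_s_2930_2932 c) (Nat.ble 2930 c)
noncomputable def finTab_s_2933_2935 (c : Nat) : Nat := @Bool.rec (fun _ => Nat) (finTab_2933) (finTab_2934) (Nat.ble 2934 c)
noncomputable def finTab_s_2932_2935 (c : Nat) : Nat := @Bool.rec (fun _ => Nat) (finTab_2932) (finTab_s_2933_2935 c) (Nat.ble 2933 c)
noncomputable def finTab_s_2929_2935 (c : Nat) : Nat := @Bool.rec (fun _ => Nat) (finTab_s_2929_2932 c) (finTab_s_2932_2935 c) (Nat.ble 2932 c)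
noncomputable def finTab_s_2923_2935 (c : Nat) : Nat := @Bool.rec (fun _ => Nat) (finTab_s_2923_2929 c) (finTab_s_2929_2935 c) (Nat.ble 2929 c)
noncomputable def finTab_s_2912_2935 (c : Nat) : Nat := @Bool.rec (fun _ => Nat) (finTab_s_2912_2923 c) (finTab_s_2923_2935 c) (Nat.ble 2923 c)
noncomputable def finTab_s_2936_2938 (c : Nat) : Nat := @Bool.rec (fun _ => Nat) (finTab_2936) (finTab_2937) (Nat.ble 2937 c)
noncomputable def finTab_s_2935_2938 (c : Nat) : Nat := @Bool.rec (fun _ => Nat) (finTab_2935) (finTab_s_2936_2938 c) (Nat.ble 2936 c)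
noncomputable def finTab_s_2939_2941 (c : Nat) : Nat := @Bool.rec (fun _ => Nat) (finTab_2939) (finTab_2940) (Nat.ble 2940 c)
noncomputable def finTab_s_2938_2941 (c : Nat) : Nat := @Bool.rec (fun _ => Nat) (finTab_2938) (finTab_s_2939_2941 c) (Nat.ble 2939 c)
noncomputable def finTab_s_2935_2941 (c : Nat) : Nat := @Bool.rec (fun _ => Nat) (finTab_s_2935_2938 c) (finTab_s_2938_2941 c) (Nat.ble 2938 c)
noncomputable def finTab_s_2942_2944 (c : Nat) : Nat := @Bool.rec (fun _ => Nat) (finTab_2942) (finTab_2943) (Nat.ble 2943 c)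
noncomputable def finTab_s_2941_2944 (c : Nat) : Nat := @Bool.rec (fun _ => Nat) (finTab_2941) (finTab_s_2942_2944 c) (Nat.ble 2942 c)
noncomputable def finTab_s_2945_2947 (c : Nat) : Nat := @Bool.rec (fun _ => Nat) (finTab_2945) (finTab_2946) (Nat.ble 2946 c)
noncomputable def finTab_s_2944_2947 (c : Nat) : Nat := @Bool.rec (fun _ => Nat) (finTab_2944) (finTab_s_2945_2947 c) (Nat.ble 2945 c)
noncomputable def finTab_s_2941_2947 (c : Nat) : Nat := @Bool.rec (fun _ => Nat) (finTab_s_2941_2944 c) (finTab_s_2944_2947 c) (Nat.ble 2944 c)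
noncomputable def finTab_s_2935_2947 (c : Nat) : Nat := @Bool.rec (fun _ => Nat) (finTab_s_2935_2941 c) (finTab_s_2941_2947 c) (Nat.ble 2941 c)
noncomputable def finTab_s_2948_2950 (c : Nat) : Nat := @Bool.rec (fun _ => Nat) (finTab_2948) (finTab_2949) (Nat.ble 2949 c)
noncomputable def finTab_s_2947_2950 (c : Nat) : Nat := @Bool.rec (fun _ => Nat) (finTab_2947) (finTab_s_2948_2950 c) (Nat.ble 2948 c)
noncomputable def finTab_s_2951_2953 (c : Nat) : Nat := @Bool.rec (fun _ => Nat) (finTab_2951) (finTab_2952) (Nat.ble 2952 c)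
noncomputable def finTab_s_2950_2953 (c : Nat) : Nat := @Bool.rec (fun _ => Nat) (finTab_2950) (finTab_s_2951_2953 c) (Nat.ble 2951 c)
noncomputable def finTab_s_2947_2953 (c : Nat) : Nat := @Bool.rec (fun _ => Nat) (finTab_s_2947_2950 c) (finTab_s_2950_2953 c) (Nat.ble 2950 c)
noncomputable def finTab_s_2954_2956 (c : Nat) : Nat := @Bool.rec (fun _ => Nat) (finTab_2954) (finTab_2955) (Nat.ble 2955 c)
noncomputable def finTab_s_2953_2956 (c : Nat) : Nat := @Bool.rec (fun _ => Nat) (finTab_2953) (finTab_s_2954_2956 c) (Nat.ble 2954 c)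
noncomputable def finTab_s_2957_2959 (c : Nat) : Nat := @Bool.rec (fun _ => Nat) (finTab_2957) (finTab_2958) (Nat.ble 2958 c)
noncomputable def finTab_s_2956_2959 (c : Nat) : Nat := @Bool.rec (fun _ => Nat) (finTab_2956) (finTab_s_2957_2959 c) (Nat.ble 2957 c)
noncomputable def finTab_s_2953_2959 (c : Nat) : Nat := @Bool.rec (fun _ => Nat) (finTab_s_2953_2956 c) (finTab_s_2956_2959 c) (Nat.ble 2956 c)
noncomputable def finTab_s_2947_2959 (c : Nat) : Nat := @Bool.rec (fun _ => Nat) (finTab_s_2947_2953 c) (finTab_s_2953_2959 c) (Nat.ble 2953 c)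
noncomputable def finTab_s_2935_2959 (c : Nat) : Nat := @Bool.rec (fun _ => Nat) (finTab_s_2935_2947 c) (finTab_s_2947_2959 c) (Nat.ble 2947 c)
noncomputable def finTab_s_2912_2959 (c : Nat) : Nat := @Bool.rec (fun _ => Nat) (finTab_s_2912_2935 c) (finTab_s_2935_2959 c) (Nat.ble 2935 c)
noncomputable def finTab_s_2959_2961 (c : Nat) : Nat := @Bool.rec (fun _ => Nat) (finTab_2959) (finTab_2960) (Nat.ble 2960 c)
noncomputable def finTab_s_2962_2964 (c : Nat) : Nat := @Bool.rec (fun _ => Nat) (finTab_2962) (finTab_2963) (Nat.ble 2963 c)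
noncomputable def finTab_s_2961_2964 (c : Nat) : Nat := @Bool.rec (fun _ => Nat) (finTab_2961) (finTab_s_2962_2964 c) (Nat.ble 2962 c)
noncomputable def finTab_s_2959_2964 (c : Nat) : Nat := @Bool.rec (fun _ => Nat) (finTab_s_2959_2961 c) (finTab_s_2961_2964 c) (Nat.ble 2961 c)
noncomputable def finTab_s_2965_2967 (c : Nat) : Nat := @Bool.rec (fun _ => Nat) (finTab_2965) (finTab_2966) (Nat.ble 2966 c)
noncomputable def finTab_s_2964_2967 (c : Nat) : Nat := @Bool.rec (fun _ => Nat) (finTab_2964) (finTab_s_2965_2967 c) (Nat.ble 2965 c)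
noncomputable def finTab_s_2968_2970 (c : Nat) : Nat := @Bool.rec (fun _ => Nat) (finTab_2968) (finTab_2969) (Nat.ble 2969 c)
noncomputable def finTab_s_2967_2970 (c : Nat) : Nat := @Bool.rec (fun _ => Nat) (finTab_2967) (finTab_s_2968_2970 c) (Nat.ble 2968 c)
noncomputable def finTab_s_2964_2970 (c : Nat) : Nat := @Bool.rec (fun _ => Nat) (finTab_s_2964_2967 c) (finTab_s_2967_2970 c) (Nat.ble 2967 c)
noncomputable def finTab_s_2959_2970 (c : Nat) : Nat := @Bool.rec (fun _ => Nat) (finTab_s_2959_2964 c) (finTab_s_2964_2970 c) (Nat.ble 2964 c)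
noncomputable def finTab_s_2971_2973 (c : Nat) : Nat := @Bool.rec (fun _ => Nat) (finTab_2971) (finTab_2972) (Nat.ble 2972 c)
noncomputable def finTab_s_2970_2973 (c : Nat) : Nat := @Bool.rec (fun _ => Nat) (finTab_2970) (finTab_s_2971_2973 c) (Nat.ble 2971 c)
noncomputable def finTab_s_2974_2976 (c : Nat) : Nat := @Bool.rec (fun _ => Nat) (finTab_2974) (finTab_2975) (Nat.ble 2975 c)
noncomputable def finTab_s_2973_2976 (c : Nat) : Nat := @Bool.rec (fun _ => Nat) (finTab_2973) (finTab_s_2974_2976 c) (Nat.ble 2974 c)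
noncomputable def finTab_s_2970_2976 (c : Nat) : Nat := @Bool.rec (fun _ => Nat) (finTab_s_2970_2973 c) (finTab_s_2973_2976 c) (Nat.ble 2973 c)
noncomputable def finTab_s_2977_2979 (c : Nat) : Nat := @Bool.rec (fun _ => Nat) (finTab_2977) (finTab_2978) (Nat.ble 2978 c)
noncomputable def finTab_s_2976_2979 (c : Nat) : Nat := @Bool.rec (fun _ => Nat) (finTab_2976) (finTab_s_2977_2979 c) (Nat.ble 2977 c)
noncomputable def finTab_s_2980_2982 (c : Nat) : Nat := @Bool.rec (fun _ => Nat) (finTab_2980) (finTab_2981) (Nat.ble 2981 c)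
noncomputable def finTab_s_2979_2982 (c : Nat) : Nat := @Bool.rec (fun _ => Nat) (finTab_2979) (finTab_s_2980_2982 c) (Nat.ble 2980 c)
noncomputable def finTab_s_2976_2982 (c : Nat) : Nat := @Bool.rec (fun _ => Nat) (finTab_s_2976_2979 c) (finTab_s_2979_2982 c) (Nat.ble 2979 c)
noncomputable def finTab_s_2970_2982 (c : Nat) : Nat := @Bool.rec (fun _ => Nat) (finTab_s_2970_2976 c) (finTab_s_2976_2982 c) (Nat.ble 2976 c)
noncomputable def finTab_s_2959_2982 (c : Nat) : Nat := @Bool.rec (fun _ => Nat) (finTab_s_2959_2970 c) (finTab_s_2970_2982 c) (Nat.ble 2970 c)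
noncomputable def finTab_s_2983_2985 (c : Nat) : Nat := @Bool.rec (fun _ => Nat) (finTab_2983) (finTab_2984) (Nat.ble 2984 c)
noncomputable def finTab_s_2982_2985 (c : Nat) : Nat := @Bool.rec (fun _ => Nat) (finTab_2982) (finTab_s_2983_2985 c) (Nat.ble 2983 c)
noncomputable def finTab_s_2986_2988 (c : Nat) : Nat := @Bool.rec (fun _ => Nat) (finTab_2986) (finTab_2987) (Nat.ble 2987 c)
noncomputable def finTab_s_2985_2988 (c : Nat) : Nat := @Bool.rec (fun _ => Nat) (finTab_2985) (finTab_s_2986_2988 c) (Nat.ble 2986 c)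
noncomputable def finTab_s_2982_2988 (c : Nat) : Nat := @Bool.rec (fun _ => Nat) (finTab_s_2982_2985 c) (finTab_s_2985_2988 c) (Nat.ble 2985 c)
noncomputable def finTab_s_2989_2991 (c : Nat) : Nat := @Bool.rec (fun _ => Nat) (finTab_2989) (finTab_2990) (Nat.ble 2990 c)
noncomputable def finTab_s_2988_2991 (c : Nat) : Nat := @Bool.rec (fun _ => Nat) (finTab_2988) (finTab_s_2989_2991 c) (Nat.ble 2989 c)
noncomputable def finTab_s_2992_2994 (c : Nat) : Nat := @Bool.rec (fun _ => Nat) (finTab_2992) (finTab_2993) (Nat.ble 2993 c)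
noncomputable def finTab_s_2991_2994 (c : Nat) : Nat := @Bool.rec (fun _ => Nat) (finTab_2991) (finTab_s_2992_2994 c) (Nat.ble 2992 c)
noncomputable def finTab_s_2988_2994 (c : Nat) : Nat := @Bool.rec (fun _ => Nat) (finTab_s_2988_2991 c) (finTab_s_2991_2994 c) (Nat.ble 2991 c)
noncomputable def finTab_s_2982_2994 (c : Nat) : Nat := @Bool.rec (fun _ => Nat) (finTab_s_2982_2988 c) (finTab_s_2988_2994 c) (Nat.ble 2988 c)
noncomputable def finTab_s_2995_2997 (c : Nat) : Nat := @Bool.rec (fun _ => Nat) (finTab_2995) (finTab_2996) (Nat.ble 2996 c)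
noncomputable def finTab_s_2994_2997 (c : Nat) : Nat := @Bool.rec (fun _ => Nat) (finTab_2994) (finTab_s_2995_2997 c) (Nat.ble 2995 c)
noncomputable def finTab_s_2998_3000 (c : Nat) : Nat := @Bool.rec (fun _ => Nat) (finTab_2998) (finTab_2999) (Nat.ble 2999 c)
noncomputable def finTab_s_2997_3000 (c : Nat) : Nat := @Bool.rec (fun _ => Nat) (finTab_2997) (finTab_s_2998_3000 c) (Nat.ble 2998 c)
noncomputable def finTab_s_2994_3000 (c : Nat) : Nat := @Bool.rec (fun _ => Nat) (finTab_s_2994_2997 c) (finTab_s_2997_3000 c) (Nat.ble 2997 c)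
noncomputable def finTab_s_3001_3003 (c : Nat) : Nat := @Bool.rec (fun _ => Nat) (finTab_3001) (finTab_3002) (Nat.ble 3002 c)
noncomputable def finTab_s_3000_3003 (c : Nat) : Nat := @Bool.rec (fun _ => Nat) (finTab_3000) (finTab_s_3001_3003 c) (Nat.ble 3001 c)
noncomputable def finTab_s_3004_3006 (c : Nat) : Nat := @Bool.rec (fun _ => Nat) (finTab_3004) (finTab_3005) (Nat.ble 3005 c)
noncomputable def finTab_s_3003_3006 (c : Nat) : Nat := @Bool.rec (fun _ => Nat) (finTab_3003) (finTab_s_3004_3006 c) (Nat.ble 3004 c)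
noncomputable def finTab_s_3000_3006 (c : Nat) : Nat := @Bool.rec (fun _ => Nat) (finTab_s_3000_3003 c) (finTab_s_3003_3006 c) (Nat.ble 3003 c)
noncomputable def finTab_s_2994_3006 (c : Nat) : Nat := @Bool.rec (fun _ => Nat) (finTab_s_2994_3000 c) (finTab_s_3000_3006 c) (Nat.ble 3000 c)
noncomputable def finTab_s_2982_3006 (c : Nat) : Nat := @Bool.rec (fun _ => Nat) (finTab_s_2982_2994 c) (finTab_s_2994_3006 c) (Nat.ble 2994 c)
noncomputable def finTab_s_2959_3006 (c : Nat) : Nat := @Bool.rec (fun _ => Nat) (finTab_s_2959_2982 c) (finTab_s_2982_3006 c) (Nat.ble 2982 c)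
noncomputable def finTab_s_2912_3006 (c : Nat) : Nat := @Bool.rec (fun _ => Nat) (finTab_s_2912_2959 c) (finTab_s_2959_3006 c) (Nat.ble 2959 c)
noncomputable def finTab_s_2818_3006 (c : Nat) : Nat := @Bool.rec (fun _ => Nat) (finTab_s_2818_2912 c) (finTab_s_2912_3006 c) (Nat.ble 2912 c)
noncomputable def finTab_s_2630_3006 (c : Nat) : Nat := @Bool.rec (fun _ => Nat) (finTab_s_2630_2818 c) (finTab_s_2818_3006 c) (Nat.ble 2818 c)
noncomputable def finTab_s_2254_3006 (c : Nat) : Nat := @Bool.rec (fun _ => Nat) (finTab_s_2254_2630 c) (finTab_s_2630_3006 c) (Nat.ble 2630 c)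
noncomputable def finTab_s_1503_3006 (c : Nat) : Nat := @Bool.rec (fun _ => Nat) (finTab_s_1503_2254 c) (finTab_s_2254_3006 c) (Nat.ble 2254 c)
noncomputable def finTab_s_0_3006 (c : Nat) : Nat := @Bool.rec (fun _ => Nat) (finTab_s_0_1503 c) (finTab_s_1503_3006 c) (Nat.ble 1503 c)
noncomputable def finTab (i : Nat) : Nat := rdw 24 16777215 (finTab_s_0_3006 (Nat.shiftRight i 12)) (Nat.land i 4095)
noncomputable def clsTab_s_1_3 (c : Nat) : Nat := @Bool.rec (fun _ => Nat) (clsTab_1) (clsTab_2) (Nat.ble 2 c)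
noncomputable def clsTab_s_0_3 (c : Nat) : Nat := @Bool.rec (fun _ => Nat) (clsTab_0) (clsTab_s_1_3 c) (Nat.ble 1 c)
noncomputable def clsTab_s_4_6 (c : Nat) : Nat := @Bool.rec (fun _ => Nat) (clsTab_4) (clsTab_5) (Nat.ble 5 c)
noncomputable def clsTab_s_3_6 (c : Nat) : Nat := @Bool.rec (fun _ => Nat) (clsTab_3) (clsTab_s_4_6 c) (Nat.ble 4 c)
noncomputable def clsTab_s_0_6 (c : Nat) : Nat := @Bool.rec (fun _ => Nat) (clsTab_s_0_3 c) (clsTab_s_3_6 c) (Nat.ble 3 c)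
noncomputable def clsTab_s_7_9 (c : Nat) : Nat := @Bool.rec (fun _ => Nat) (clsTab_7) (clsTab_8) (Nat.ble 8 c)
noncomputable def clsTab_s_6_9 (c : Nat) : Nat := @Bool.rec (fun _ => Nat) (clsTab_6) (clsTab_s_7_9 c) (Nat.ble 7 c)
noncomputable def clsTab_s_10_12 (c : Nat) : Nat := @Bool.rec (fun _ => Nat) (clsTab_10) (clsTab_11) (Nat.ble 11 c)
noncomputable def clsTab_s_9_12 (c : Nat) : Nat := @Bool.rec (fun _ => Nat) (clsTab_9) (clsTab_s_10_12 c) (Nat.ble 10 c)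
noncomputable def clsTab_s_6_12 (c : Nat) : Nat := @Bool.rec (fun _ => Nat) (clsTab_s_6_9 c) (clsTab_s_9_12 c) (Nat.ble 9 c)
noncomputable def clsTab_s_0_12 (c : Nat) : Nat := @Bool.rec (fun _ => Nat) (clsTab_s_0_6 c) (clsTab_s_6_12 c) (Nat.ble 6 c)
noncomputable def clsTab_s_13_15 (c : Nat) : Nat := @Bool.rec (fun _ => Nat) (clsTab_13) (clsTab_14) (Nat.ble 14 c)
noncomputable def clsTab_s_12_15 (c : Nat) : Nat := @Bool.rec (fun _ => Nat) (clsTab_12) (clsTab_s_13_15 c) (Nat.ble 13 c)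
noncomputable def clsTab_s_16_18 (c : Nat) : Nat := @Bool.rec (fun _ => Nat) (clsTab_16) (clsTab_17) (Nat.ble 17 c)
noncomputable def clsTab_s_15_18 (c : Nat) : Nat := @Bool.rec (fun _ => Nat) (clsTab_15) (clsTab_s_16_18 c) (Nat.ble 16 c)
noncomputable def clsTab_s_12_18 (c : Nat) : Nat := @Bool.rec (fun _ => Nat) (clsTab_s_12_15 c) (clsTab_s_15_18 c) (Nat.ble 15 c)
noncomputable def clsTab_s_19_21 (c : Nat) : Nat := @Bool.rec (fun _ => Nat) (clsTab_19) (clsTab_20) (Nat.ble 20 c)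
noncomputable def clsTab_s_18_21 (c : Nat) : Nat := @Bool.rec (fun _ => Nat) (clsTab_18) (clsTab_s_19_21 c) (Nat.ble 19 c)
noncomputable def clsTab_s_22_24 (c : Nat) : Nat := @Bool.rec (fun _ => Nat) (clsTab_22) (clsTab_23) (Nat.ble 23 c)
noncomputable def clsTab_s_21_24 (c : Nat) : Nat := @Bool.rec (fun _ => Nat) (clsTab_21) (clsTab_s_22_24 c) (Nat.ble 22 c)
noncomputable def clsTab_s_18_24 (c : Nat) : Nat := @Bool.rec (fun _ => Nat) (clsTab_s_18_21 c) (clsTab_s_21_24 c) (Nat.ble 21 c)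
noncomputable def clsTab_s_12_24 (c : Nat) : Nat := @Bool.rec (fun _ => Nat) (clsTab_s_12_18 c) (clsTab_s_18_24 c) (Nat.ble 18 c)
noncomputable def clsTab_s_0_24 (c : Nat) : Nat := @Bool.rec (fun _ => Nat) (clsTab_s_0_12 c) (clsTab_s_12_24 c) (Nat.ble 12 c)
noncomputable def clsTab_s_25_27 (c : Nat) : Nat := @Bool.rec (fun _ => Nat) (clsTab_25) (clsTab_26) (Nat.ble 26 c)
noncomputable def clsTab_s_24_27 (c : Nat) : Nat := @Bool.rec (fun _ => Nat) (clsTab_24) (clsTab_s_25_27 c) (Nat.ble 25 c)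
noncomputable def clsTab_s_28_30 (c : Nat) : Nat := @Bool.rec (fun _ => Nat) (clsTab_28) (clsTab_29) (Nat.ble 29 c)
noncomputable def clsTab_s_27_30 (c : Nat) : Nat := @Bool.rec (fun _ => Nat) (clsTab_27) (clsTab_s_28_30 c) (Nat.ble 28 c)
noncomputable def clsTab_s_24_30 (c : Nat) : Nat := @Bool.rec (fun _ => Nat) (clsTab_s_24_27 c) (clsTab_s_27_30 c) (Nat.ble 27 c)
noncomputable def clsTab_s_31_33 (c : Nat) : Nat := @Bool.rec (fun _ => Nat) (clsTab_31) (clsTab_32) (Nat.ble 32 c)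
noncomputable def clsTab_s_30_33 (c : Nat) : Nat := @Bool.rec (fun _ => Nat) (clsTab_30) (clsTab_s_31_33 c) (Nat.ble 31 c)
noncomputable def clsTab_s_34_36 (c : Nat) : Nat := @Bool.rec (fun _ => Nat) (clsTab_34) (clsTab_35) (Nat.ble 35 c)
noncomputable def clsTab_s_33_36 (c : Nat) : Nat := @Bool.rec (fun _ => Nat) (clsTab_33) (clsTab_s_34_36 c) (Nat.ble 34 c)
noncomputable def clsTab_s_30_36 (c : Nat) : Nat := @Bool.rec (fun _ => Nat) (clsTab_s_30_33 c) (clsTab_s_33_36 c) (Nat.ble 33 c)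
noncomputable def clsTab_s_24_36 (c : Nat) : Nat := @Bool.rec (fun _ => Nat) (clsTab_s_24_30 c) (clsTab_s_30_36 c) (Nat.ble 30 c)
noncomputable def clsTab_s_37_39 (c : Nat) : Nat := @Bool.rec (fun _ => Nat) (clsTab_37) (clsTab_38) (Nat.ble 38 c)
noncomputable def clsTab_s_36_39 (c : Nat) : Nat := @Bool.rec (fun _ => Nat) (clsTab_36) (clsTab_s_37_39 c) (Nat.ble 37 c)
noncomputable def clsTab_s_40_42 (c : Nat) : Nat := @Bool.rec (fun _ => Nat) (clsTab_40) (clsTab_41) (Nat.ble 41 c)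
noncomputable def clsTab_s_39_42 (c : Nat) : Nat := @Bool.rec (fun _ => Nat) (clsTab_39) (clsTab_s_40_42 c) (Nat.ble 40 c)
noncomputable def clsTab_s_36_42 (c : Nat) : Nat := @Bool.rec (fun _ => Nat) (clsTab_s_36_39 c) (clsTab_s_39_42 c) (Nat.ble 39 c)
noncomputable def clsTab_s_43_45 (c : Nat) : Nat := @Bool.rec (fun _ => Nat) (clsTab_43) (clsTab_44) (Nat.ble 44 c)
noncomputable def clsTab_s_42_45 (c : Nat) : Nat := @Bool.rec (fun _ => Nat) (clsTab_42) (clsTab_s_43_45 c) (Nat.ble 43 c)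
noncomputable def clsTab_s_45_47 (c : Nat) : Nat := @Bool.rec (fun _ => Nat) (clsTab_45) (clsTab_46) (Nat.ble 46 c)
noncomputable def clsTab_s_47_49 (c : Nat) : Nat := @Bool.rec (fun _ => Nat) (clsTab_47) (clsTab_48) (Nat.ble 48 c)
noncomputable def clsTab_s_45_49 (c : Nat) : Nat := @Bool.rec (fun _ => Nat) (clsTab_s_45_47 c) (clsTab_s_47_49 c) (Nat.ble 47 c)
noncomputable def clsTab_s_42_49 (c : Nat) : Nat := @Bool.rec (fun _ => Nat) (clsTab_s_42_45 c) (clsTab_s_45_49 c) (Nat.ble 45 c)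
noncomputable def clsTab_s_36_49 (c : Nat) : Nat := @Bool.rec (fun _ => Nat) (clsTab_s_36_42 c) (clsTab_s_42_49 c) (Nat.ble 42 c)
noncomputable def clsTab_s_24_49 (c : Nat) : Nat := @Bool.rec (fun _ => Nat) (clsTab_s_24_36 c) (clsTab_s_36_49 c) (Nat.ble 36 c)
noncomputable def clsTab_s_0_49 (c : Nat) : Nat := @Bool.rec (fun _ => Nat) (clsTab_s_0_24 c) (clsTab_s_24_49 c) (Nat.ble 24 c)
noncomputable def clsTab_s_50_52 (c : Nat) : Nat := @Bool.rec (fun _ => Nat) (clsTab_50) (clsTab_51) (Nat.ble 51 c)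
noncomputable def clsTab_s_49_52 (c : Nat) : Nat := @Bool.rec (fun _ => Nat) (clsTab_49) (clsTab_s_50_52 c) (Nat.ble 50 c)
noncomputable def clsTab_s_53_55 (c : Nat) : Nat := @Bool.rec (fun _ => Nat) (clsTab_53) (clsTab_54) (Nat.ble 54 c)
noncomputable def clsTab_s_52_55 (c : Nat) : Nat := @Bool.rec (fun _ => Nat) (clsTab_52) (clsTab_s_53_55 c) (Nat.ble 53 c)
noncomputable def clsTab_s_49_55 (c : Nat) : Nat := @Bool.rec (fun _ => Nat) (clsTab_s_49_52 c) (clsTab_s_52_55 c) (Nat.ble 52 c)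
noncomputable def clsTab_s_56_58 (c : Nat) : Nat := @Bool.rec (fun _ => Nat) (clsTab_56) (clsTab_57) (Nat.ble 57 c)
noncomputable def clsTab_s_55_58 (c : Nat) : Nat := @Bool.rec (fun _ => Nat) (clsTab_55) (clsTab_s_56_58 c) (Nat.ble 56 c)
noncomputable def clsTab_s_59_61 (c : Nat) : Nat := @Bool.rec (fun _ => Nat) (clsTab_59) (clsTab_60) (Nat.ble 60 c)
noncomputable def clsTab_s_58_61 (c : Nat) : Nat := @Bool.rec (fun _ => Nat) (clsTab_58) (clsTab_s_59_61 c) (Nat.ble 59 c)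
noncomputable def clsTab_s_55_61 (c : Nat) : Nat := @Bool.rec (fun _ => Nat) (clsTab_s_55_58 c) (clsTab_s_58_61 c) (Nat.ble 58 c)
noncomputable def clsTab_s_49_61 (c : Nat) : Nat := @Bool.rec (fun _ => Nat) (clsTab_s_49_55 c) (clsTab_s_55_61 c) (Nat.ble 55 c)
noncomputable def clsTab_s_62_64 (c : Nat) : Nat := @Bool.rec (fun _ => Nat) (clsTab_62) (clsTab_63) (Nat.ble 63 c)
noncomputable def clsTab_s_61_64 (c : Nat) : Nat := @Bool.rec (fun _ => Nat) (clsTab_61) (clsTab_s_62_64 c) (Nat.ble 62 c)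
noncomputable def clsTab_s_65_67 (c : Nat) : Nat := @Bool.rec (fun _ => Nat) (clsTab_65) (clsTab_66) (Nat.ble 66 c)
noncomputable def clsTab_s_64_67 (c : Nat) : Nat := @Bool.rec (fun _ => Nat) (clsTab_64) (clsTab_s_65_67 c) (Nat.ble 65 c)
noncomputable def clsTab_s_61_67 (c : Nat) : Nat := @Bool.rec (fun _ => Nat) (clsTab_s_61_64 c) (clsTab_s_64_67 c) (Nat.ble 64 c)
noncomputable def clsTab_s_68_70 (c : Nat) : Nat := @Bool.rec (fun _ => Nat) (clsTab_68) (clsTab_69) (Nat.ble 69 c)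
noncomputable def clsTab_s_67_70 (c : Nat) : Nat := @Bool.rec (fun _ => Nat) (clsTab_67) (clsTab_s_68_70 c) (Nat.ble 68 c)
noncomputable def clsTab_s_70_72 (c : Nat) : Nat := @Bool.rec (fun _ => Nat) (clsTab_70) (clsTab_71) (Nat.ble 71 c)
noncomputable def clsTab_s_72_74 (c : Nat) : Nat := @Bool.rec (fun _ => Nat) (clsTab_72) (clsTab_73) (Nat.ble 73 c)
noncomputable def clsTab_s_70_74 (c : Nat) : Nat := @Bool.rec (fun _ => Nat) (clsTab_s_70_72 c) (clsTab_s_72_74 c) (Nat.ble 72 c)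
noncomputable def clsTab_s_67_74 (c : Nat) : Nat := @Bool.rec (fun _ => Nat) (clsTab_s_67_70 c) (clsTab_s_70_74 c) (Nat.ble 70 c)
noncomputable def clsTab_s_61_74 (c : Nat) : Nat := @Bool.rec (fun _ => Nat) (clsTab_s_61_67 c) (clsTab_s_67_74 c) (Nat.ble 67 c)
noncomputable def clsTab_s_49_74 (c : Nat) : Nat := @Bool.rec (fun _ => Nat) (clsTab_s_49_61 c) (clsTab_s_61_74 c) (Nat.ble 61 c)
noncomputable def clsTab_s_75_77 (c : Nat) : Nat := @Bool.rec (fun _ => Nat) (clsTab_75) (clsTab_76) (Nat.ble 76 c)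
noncomputable def clsTab_s_74_77 (c : Nat) : Nat := @Bool.rec (fun _ => Nat) (clsTab_74) (clsTab_s_75_77 c) (Nat.ble 75 c)
noncomputable def clsTab_s_78_80 (c : Nat) : Nat := @Bool.rec (fun _ => Nat) (clsTab_78) (clsTab_79) (Nat.ble 79 c)
noncomputable def clsTab_s_77_80 (c : Nat) : Nat := @Bool.rec (fun _ => Nat) (clsTab_77) (clsTab_s_78_80 c) (Nat.ble 78 c)
noncomputable def clsTab_s_74_80 (c : Nat) : Nat := @Bool.rec (fun _ => Nat) (clsTab_s_74_77 c) (clsTab_s_77_80 c) (Nat.ble 77 c)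
noncomputable def clsTab_s_81_83 (c : Nat) : Nat := @Bool.rec (fun _ => Nat) (clsTab_81) (clsTab_82) (Nat.ble 82 c)
noncomputable def clsTab_s_80_83 (c : Nat) : Nat := @Bool.rec (fun _ => Nat) (clsTab_80) (clsTab_s_81_83 c) (Nat.ble 81 c)
noncomputable def clsTab_s_84_86 (c : Nat) : Nat := @Bool.rec (fun _ => Nat) (clsTab_84) (clsTab_85) (Nat.ble 85 c)
noncomputable def clsTab_s_83_86 (c : Nat) : Nat := @Bool.rec (fun _ => Nat) (clsTab_83) (clsTab_s_84_86 c) (Nat.ble 84 c)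
noncomputable def clsTab_s_80_86 (c : Nat) : Nat := @Bool.rec (fun _ => Nat) (clsTab_s_80_83 c) (clsTab_s_83_86 c) (Nat.ble 83 c)
noncomputable def clsTab_s_74_86 (c : Nat) : Nat := @Bool.rec (fun _ => Nat) (clsTab_s_74_80 c) (clsTab_s_80_86 c) (Nat.ble 80 c)
noncomputable def clsTab_s_87_89 (c : Nat) : Nat := @Bool.rec (fun _ => Nat) (clsTab_87) (clsTab_88) (Nat.ble 88 c)
noncomputable def clsTab_s_86_89 (c : Nat) : Nat := @Bool.rec (fun _ => Nat) (clsTab_86) (clsTab_s_87_89 c) (Nat.ble 87 c)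
noncomputable def clsTab_s_90_92 (c : Nat) : Nat := @Bool.rec (fun _ => Nat) (clsTab_90) (clsTab_91) (Nat.ble 91 c)
noncomputable def clsTab_s_89_92 (c : Nat) : Nat := @Bool.rec (fun _ => Nat) (clsTab_89) (clsTab_s_90_92 c) (Nat.ble 90 c)
noncomputable def clsTab_s_86_92 (c : Nat) : Nat := @Bool.rec (fun _ => Nat) (clsTab_s_86_89 c) (clsTab_s_89_92 c) (Nat.ble 89 c)
noncomputable def clsTab_s_93_95 (c : Nat) : Nat := @Bool.rec (fun _ => Nat) (clsTab_93) (clsTab_94) (Nat.ble 94 c)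
noncomputable def clsTab_s_92_95 (c : Nat) : Nat := @Bool.rec (fun _ => Nat) (clsTab_92) (clsTab_s_93_95 c) (Nat.ble 93 c)
noncomputable def clsTab_s_95_97 (c : Nat) : Nat := @Bool.rec (fun _ => Nat) (clsTab_95) (clsTab_96) (Nat.ble 96 c)
noncomputable def clsTab_s_97_99 (c : Nat) : Nat := @Bool.rec (fun _ => Nat) (clsTab_97) (clsTab_98) (Nat.ble 98 c)
noncomputable def clsTab_s_95_99 (c : Nat) : Nat := @Bool.rec (fun _ => Nat) (clsTab_s_95_97 c) (clsTab_s_97_99 c) (Nat.ble 97 c)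
noncomputable def clsTab_s_92_99 (c : Nat) : Nat := @Bool.rec (fun _ => Nat) (clsTab_s_92_95 c) (clsTab_s_95_99 c) (Nat.ble 95 c)
noncomputable def clsTab_s_86_99 (c : Nat) : Nat := @Bool.rec (fun _ => Nat) (clsTab_s_86_92 c) (clsTab_s_92_99 c) (Nat.ble 92 c)
noncomputable def clsTab_s_74_99 (c : Nat) : Nat := @Bool.rec (fun _ => Nat) (clsTab_s_74_86 c) (clsTab_s_86_99 c) (Nat.ble 86 c)
noncomputable def clsTab_s_49_99 (c : Nat) : Nat := @Bool.rec (fun _ => Nat) (clsTab_s_49_74 c) (clsTab_s_74_99 c) (Nat.ble 74 c)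
noncomputable def clsTab_s_0_99 (c : Nat) : Nat := @Bool.rec (fun _ => Nat) (clsTab_s_0_49 c) (clsTab_s_49_99 c) (Nat.ble 49 c)
noncomputable def clsTab_s_100_102 (c : Nat) : Nat := @Bool.rec (fun _ => Nat) (clsTab_100) (clsTab_101) (Nat.ble 101 c)
noncomputable def clsTab_s_99_102 (c : Nat) : Nat := @Bool.rec (fun _ => Nat) (clsTab_99) (clsTab_s_100_102 c) (Nat.ble 100 c)
noncomputable def clsTab_s_103_105 (c : Nat) : Nat := @Bool.rec (fun _ => Nat) (clsTab_103) (clsTab_104) (Nat.ble 104 c)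
noncomputable def clsTab_s_102_105 (c : Nat) : Nat := @Bool.rec (fun _ => Nat) (clsTab_102) (clsTab_s_103_105 c) (Nat.ble 103 c)
noncomputable def clsTab_s_99_105 (c : Nat) : Nat := @Bool.rec (fun _ => Nat) (clsTab_s_99_102 c) (clsTab_s_102_105 c) (Nat.ble 102 c)
noncomputable def clsTab_s_106_108 (c : Nat) : Nat := @Bool.rec (fun _ => Nat) (clsTab_106) (clsTab_107) (Nat.ble 107 c)
noncomputable def clsTab_s_105_108 (c : Nat) : Nat := @Bool.rec (fun _ => Nat) (clsTab_105) (clsTab_s_106_108 c) (Nat.ble 106 c)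
noncomputable def clsTab_s_109_111 (c : Nat) : Nat := @Bool.rec (fun _ => Nat) (clsTab_109) (clsTab_110) (Nat.ble 110 c)
noncomputable def clsTab_s_108_111 (c : Nat) : Nat := @Bool.rec (fun _ => Nat) (clsTab_108) (clsTab_s_109_111 c) (Nat.ble 109 c)
noncomputable def clsTab_s_105_111 (c : Nat) : Nat := @Bool.rec (fun _ => Nat) (clsTab_s_105_108 c) (clsTab_s_108_111 c) (Nat.ble 108 c)
noncomputable def clsTab_s_99_111 (c : Nat) : Nat := @Bool.rec (fun _ => Nat) (clsTab_s_99_105 c) (clsTab_s_105_111 c) (Nat.ble 105 c)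
noncomputable def clsTab_s_112_114 (c : Nat) : Nat := @Bool.rec (fun _ => Nat) (clsTab_112) (clsTab_113) (Nat.ble 113 c)
noncomputable def clsTab_s_111_114 (c : Nat) : Nat := @Bool.rec (fun _ => Nat) (clsTab_111) (clsTab_s_112_114 c) (Nat.ble 112 c)
noncomputable def clsTab_s_115_117 (c : Nat) : Nat := @Bool.rec (fun _ => Nat) (clsTab_115) (clsTab_116) (Nat.ble 116 c)
noncomputable def clsTab_s_114_117 (c : Nat) : Nat := @Bool.rec (fun _ => Nat) (clsTab_114) (clsTab_s_115_117 c) (Nat.ble 115 c)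
noncomputable def clsTab_s_111_117 (c : Nat) : Nat := @Bool.rec (fun _ => Nat) (clsTab_s_111_114 c) (clsTab_s_114_117 c) (Nat.ble 114 c)
noncomputable def clsTab_s_118_120 (c : Nat) : Nat := @Bool.rec (fun _ => Nat) (clsTab_118) (clsTab_119) (Nat.ble 119 c)
noncomputable def clsTab_s_117_120 (c : Nat) : Nat := @Bool.rec (fun _ => Nat) (clsTab_117) (clsTab_s_118_120 c) (Nat.ble 118 c)
noncomputable def clsTab_s_121_123 (c : Nat) : Nat := @Bool.rec (fun _ => Nat) (clsTab_121) (clsTab_122) (Nat.ble 122 c)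
noncomputable def clsTab_s_120_123 (c : Nat) : Nat := @Bool.rec (fun _ => Nat) (clsTab_120) (clsTab_s_121_123 c) (Nat.ble 121 c)
noncomputable def clsTab_s_117_123 (c : Nat) : Nat := @Bool.rec (fun _ => Nat) (clsTab_s_117_120 c) (clsTab_s_120_123 c) (Nat.ble 120 c)
noncomputable def clsTab_s_111_123 (c : Nat) : Nat := @Bool.rec (fun _ => Nat) (clsTab_s_111_117 c) (clsTab_s_117_123 c) (Nat.ble 117 c)
noncomputable def clsTab_s_99_123 (c : Nat) : Nat := @Bool.rec (fun _ => Nat) (clsTab_s_99_111 c) (clsTab_s_111_123 c) (Nat.ble 111 c)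
noncomputable def clsTab_s_124_126 (c : Nat) : Nat := @Bool.rec (fun _ => Nat) (clsTab_124) (clsTab_125) (Nat.ble 125 c)
noncomputable def clsTab_s_123_126 (c : Nat) : Nat := @Bool.rec (fun _ => Nat) (clsTab_123) (clsTab_s_124_126 c) (Nat.ble 124 c)
noncomputable def clsTab_s_127_129 (c : Nat) : Nat := @Bool.rec (fun _ => Nat) (clsTab_127) (clsTab_128) (Nat.ble 128 c)
noncomputable def clsTab_s_126_129 (c : Nat) : Nat := @Bool.rec (fun _ => Nat) (clsTab_126) (clsTab_s_127_129 c) (Nat.ble 127 c)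
noncomputable def clsTab_s_123_129 (c : Nat) : Nat := @Bool.rec (fun _ => Nat) (clsTab_s_123_126 c) (clsTab_s_126_129 c) (Nat.ble 126 c)
noncomputable def clsTab_s_130_132 (c : Nat) : Nat := @Bool.rec (fun _ => Nat) (clsTab_130) (clsTab_131) (Nat.ble 131 c)
noncomputable def clsTab_s_129_132 (c : Nat) : Nat := @Bool.rec (fun _ => Nat) (clsTab_129) (clsTab_s_130_132 c) (Nat.ble 130 c)
noncomputable def clsTab_s_133_135 (c : Nat) : Nat := @Bool.rec (fun _ => Nat) (clsTab_133) (clsTab_134) (Nat.ble 134 c)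
noncomputable def clsTab_s_132_135 (c : Nat) : Nat := @Bool.rec (fun _ => Nat) (clsTab_132) (clsTab_s_133_135 c) (Nat.ble 133 c)
noncomputable def clsTab_s_129_135 (c : Nat) : Nat := @Bool.rec (fun _ => Nat) (clsTab_s_129_132 c) (clsTab_s_132_135 c) (Nat.ble 132 c)
noncomputable def clsTab_s_123_135 (c : Nat) : Nat := @Bool.rec (fun _ => Nat) (clsTab_s_123_129 c) (clsTab_s_129_135 c) (Nat.ble 129 c)
noncomputable def clsTab_s_136_138 (c : Nat) : Nat := @Bool.rec (fun _ => Nat) (clsTab_136) (clsTab_137) (Nat.ble 137 c)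
noncomputable def clsTab_s_135_138 (c : Nat) : Nat := @Bool.rec (fun _ => Nat) (clsTab_135) (clsTab_s_136_138 c) (Nat.ble 136 c)
noncomputable def clsTab_s_139_141 (c : Nat) : Nat := @Bool.rec (fun _ => Nat) (clsTab_139) (clsTab_140) (Nat.ble 140 c)
noncomputable def clsTab_s_138_141 (c : Nat) : Nat := @Bool.rec (fun _ => Nat) (clsTab_138) (clsTab_s_139_141 c) (Nat.ble 139 c)
noncomputable def clsTab_s_135_141 (c : Nat) : Nat := @Bool.rec (fun _ => Nat) (clsTab_s_135_138 c) (clsTab_s_138_141 c) (Nat.ble 138 c)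
noncomputable def clsTab_s_142_144 (c : Nat) : Nat := @Bool.rec (fun _ => Nat) (clsTab_142) (clsTab_143) (Nat.ble 143 c)
noncomputable def clsTab_s_141_144 (c : Nat) : Nat := @Bool.rec (fun _ => Nat) (clsTab_141) (clsTab_s_142_144 c) (Nat.ble 142 c)
noncomputable def clsTab_s_144_146 (c : Nat) : Nat := @Bool.rec (fun _ => Nat) (clsTab_144) (clsTab_145) (Nat.ble 145 c)
noncomputable def clsTab_s_146_148 (c : Nat) : Nat := @Bool.rec (fun _ => Nat) (clsTab_146) (clsTab_147) (Nat.ble 147 c)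
noncomputable def clsTab_s_144_148 (c : Nat) : Nat := @Bool.rec (fun _ => Nat) (clsTab_s_144_146 c) (clsTab_s_146_148 c) (Nat.ble 146 c)
noncomputable def clsTab_s_141_148 (c : Nat) : Nat := @Bool.rec (fun _ => Nat) (clsTab_s_141_144 c) (clsTab_s_144_148 c) (Nat.ble 144 c)
noncomputable def clsTab_s_135_148 (c : Nat) : Nat := @Bool.rec (fun _ => Nat) (clsTab_s_135_141 c) (clsTab_s_141_148 c) (Nat.ble 141 c)
noncomputable def clsTab_s_123_148 (c : Nat) : Nat := @Bool.rec (fun _ => Nat) (clsTab_s_123_135 c) (clsTab_s_135_148 c) (Nat.ble 135 c)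
noncomputable def clsTab_s_99_148 (c : Nat) : Nat := @Bool.rec (fun _ => Nat) (clsTab_s_99_123 c) (clsTab_s_123_148 c) (Nat.ble 123 c)
noncomputable def clsTab_s_149_151 (c : Nat) : Nat := @Bool.rec (fun _ => Nat) (clsTab_149) (clsTab_150) (Nat.ble 150 c)
noncomputable def clsTab_s_148_151 (c : Nat) : Nat := @Bool.rec (fun _ => Nat) (clsTab_148) (clsTab_s_149_151 c) (Nat.ble 149 c)
noncomputable def clsTab_s_152_154 (c : Nat) : Nat := @Bool.rec (fun _ => Nat) (clsTab_152) (clsTab_153) (Nat.ble 153 c)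
noncomputable def clsTab_s_151_154 (c : Nat) : Nat := @Bool.rec (fun _ => Nat) (clsTab_151) (clsTab_s_152_154 c) (Nat.ble 152 c)
noncomputable def clsTab_s_148_154 (c : Nat) : Nat := @Bool.rec (fun _ => Nat) (clsTab_s_148_151 c) (clsTab_s_151_154 c) (Nat.ble 151 c)
noncomputable def clsTab_s_155_157 (c : Nat) : Nat := @Bool.rec (fun _ => Nat) (clsTab_155) (clsTab_156) (Nat.ble 156 c)
noncomputable def clsTab_s_154_157 (c : Nat) : Nat := @Bool.rec (fun _ => Nat) (clsTab_154) (clsTab_s_155_157 c) (Nat.ble 155 c)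
noncomputable def clsTab_s_158_160 (c : Nat) : Nat := @Bool.rec (fun _ => Nat) (clsTab_158) (clsTab_159) (Nat.ble 159 c)
noncomputable def clsTab_s_157_160 (c : Nat) : Nat := @Bool.rec (fun _ => Nat) (clsTab_157) (clsTab_s_158_160 c) (Nat.ble 158 c)
noncomputable def clsTab_s_154_160 (c : Nat) : Nat := @Bool.rec (fun _ => Nat) (clsTab_s_154_157 c) (clsTab_s_157_160 c) (Nat.ble 157 c)
noncomputable def clsTab_s_148_160 (c : Nat) : Nat := @Bool.rec (fun _ => Nat) (clsTab_s_148_154 c) (clsTab_s_154_160 c) (Nat.ble 154 c)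
noncomputable def clsTab_s_161_163 (c : Nat) : Nat := @Bool.rec (fun _ => Nat) (clsTab_161) (clsTab_162) (Nat.ble 162 c)
noncomputable def clsTab_s_160_163 (c : Nat) : Nat := @Bool.rec (fun _ => Nat) (clsTab_160) (clsTab_s_161_163 c) (Nat.ble 161 c)
noncomputable def clsTab_s_164_166 (c : Nat) : Nat := @Bool.rec (fun _ => Nat) (clsTab_164) (clsTab_165) (Nat.ble 165 c)
noncomputable def clsTab_s_163_166 (c : Nat) : Nat := @Bool.rec (fun _ => Nat) (clsTab_163) (clsTab_s_164_166 c) (Nat.ble 164 c)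
noncomputable def clsTab_s_160_166 (c : Nat) : Nat := @Bool.rec (fun _ => Nat) (clsTab_s_160_163 c) (clsTab_s_163_166 c) (Nat.ble 163 c)
noncomputable def clsTab_s_167_169 (c : Nat) : Nat := @Bool.rec (fun _ => Nat) (clsTab_167) (clsTab_168) (Nat.ble 168 c)
noncomputable def clsTab_s_166_169 (c : Nat) : Nat := @Bool.rec (fun _ => Nat) (clsTab_166) (clsTab_s_167_169 c) (Nat.ble 167 c)
noncomputable def clsTab_s_169_171 (c : Nat) : Nat := @Bool.rec (fun _ => Nat) (clsTab_169) (clsTab_170) (Nat.ble 170 c)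
noncomputable def clsTab_s_171_173 (c : Nat) : Nat := @Bool.rec (fun _ => Nat) (clsTab_171) (clsTab_172) (Nat.ble 172 c)
noncomputable def clsTab_s_169_173 (c : Nat) : Nat := @Bool.rec (fun _ => Nat) (clsTab_s_169_171 c) (clsTab_s_171_173 c) (Nat.ble 171 c)
noncomputable def clsTab_s_166_173 (c : Nat) : Nat := @Bool.rec (fun _ => Nat) (clsTab_s_166_169 c) (clsTab_s_169_173 c) (Nat.ble 169 c)
noncomputable def clsTab_s_160_173 (c : Nat) : Nat := @Bool.rec (fun _ => Nat) (clsTab_s_160_166 c) (clsTab_s_166_173 c) (Nat.ble 166 c)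
noncomputable def clsTab_s_148_173 (c : Nat) : Nat := @Bool.rec (fun _ => Nat) (clsTab_s_148_160 c) (clsTab_s_160_173 c) (Nat.ble 160 c)
noncomputable def clsTab_s_174_176 (c : Nat) : Nat := @Bool.rec (fun _ => Nat) (clsTab_174) (clsTab_175) (Nat.ble 175 c)
noncomputable def clsTab_s_173_176 (c : Nat) : Nat := @Bool.rec (fun _ => Nat) (clsTab_173) (clsTab_s_174_176 c) (Nat.ble 174 c)
noncomputable def clsTab_s_177_179 (c : Nat) : Nat := @Bool.rec (fun _ => Nat) (clsTab_177) (clsTab_178) (Nat.ble 178 c)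
noncomputable def clsTab_s_176_179 (c : Nat) : Nat := @Bool.rec (fun _ => Nat) (clsTab_176) (clsTab_s_177_179 c) (Nat.ble 177 c)
noncomputable def clsTab_s_173_179 (c : Nat) : Nat := @Bool.rec (fun _ => Nat) (clsTab_s_173_176 c) (clsTab_s_176_179 c) (Nat.ble 176 c)
noncomputable def clsTab_s_180_182 (c : Nat) : Nat := @Bool.rec (fun _ => Nat) (clsTab_180) (clsTab_181) (Nat.ble 181 c)
noncomputable def clsTab_s_179_182 (c : Nat) : Nat := @Bool.rec (fun _ => Nat) (clsTab_179) (clsTab_s_180_182 c) (Nat.ble 180 c)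
noncomputable def clsTab_s_183_185 (c : Nat) : Nat := @Bool.rec (fun _ => Nat) (clsTab_183) (clsTab_184) (Nat.ble 184 c)
noncomputable def clsTab_s_182_185 (c : Nat) : Nat := @Bool.rec (fun _ => Nat) (clsTab_182) (clsTab_s_183_185 c) (Nat.ble 183 c)
noncomputable def clsTab_s_179_185 (c : Nat) : Nat := @Bool.rec (fun _ => Nat) (clsTab_s_179_182 c) (clsTab_s_182_185 c) (Nat.ble 182 c)
noncomputable def clsTab_s_173_185 (c : Nat) : Nat := @Bool.rec (fun _ => Nat) (clsTab_s_173_179 c) (clsTab_s_179_185 c) (Nat.ble 179 c)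
noncomputable def clsTab_s_186_188 (c : Nat) : Nat := @Bool.rec (fun _ => Nat) (clsTab_186) (clsTab_187) (Nat.ble 187 c)
noncomputable def clsTab_s_185_188 (c : Nat) : Nat := @Bool.rec (fun _ => Nat) (clsTab_185) (clsTab_s_186_188 c) (Nat.ble 186 c)
noncomputable def clsTab_s_189_191 (c : Nat) : Nat := @Bool.rec (fun _ => Nat) (clsTab_189) (clsTab_190) (Nat.ble 190 c)
noncomputable def clsTab_s_188_191 (c : Nat) : Nat := @Bool.rec (fun _ => Nat) (clsTab_188) (clsTab_s_189_191 c) (Nat.ble 189 c)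
noncomputable def clsTab_s_185_191 (c : Nat) : Nat := @Bool.rec (fun _ => Nat) (clsTab_s_185_188 c) (clsTab_s_188_191 c) (Nat.ble 188 c)
noncomputable def clsTab_s_192_194 (c : Nat) : Nat := @Bool.rec (fun _ => Nat) (clsTab_192) (clsTab_193) (Nat.ble 193 c)
noncomputable def clsTab_s_191_194 (c : Nat) : Nat := @Bool.rec (fun _ => Nat) (clsTab_191) (clsTab_s_192_194 c) (Nat.ble 192 c)
noncomputable def clsTab_s_194_196 (c : Nat) : Nat := @Bool.rec (fun _ => Nat) (clsTab_194) (clsTab_195) (Nat.ble 195 c)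
noncomputable def clsTab_s_196_198 (c : Nat) : Nat := @Bool.rec (fun _ => Nat) (clsTab_196) (clsTab_197) (Nat.ble 197 c)
noncomputable def clsTab_s_194_198 (c : Nat) : Nat := @Bool.rec (fun _ => Nat) (clsTab_s_194_196 c) (clsTab_s_196_198 c) (Nat.ble 196 c)
noncomputable def clsTab_s_191_198 (c : Nat) : Nat := @Bool.rec (fun _ => Nat) (clsTab_s_191_194 c) (clsTab_s_194_198 c) (Nat.ble 194 c)
noncomputable def clsTab_s_185_198 (c : Nat) : Nat := @Bool.rec (fun _ => Nat) (clsTab_s_185_191 c) (clsTab_s_191_198 c) (Nat.ble 191 c)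
noncomputable def clsTab_s_173_198 (c : Nat) : Nat := @Bool.rec (fun _ => Nat) (clsTab_s_173_185 c) (clsTab_s_185_198 c) (Nat.ble 185 c)
noncomputable def clsTab_s_148_198 (c : Nat) : Nat := @Bool.rec (fun _ => Nat) (clsTab_s_148_173 c) (clsTab_s_173_198 c) (Nat.ble 173 c)
noncomputable def clsTab_s_99_198 (c : Nat) : Nat := @Bool.rec (fun _ => Nat) (clsTab_s_99_148 c) (clsTab_s_148_198 c) (Nat.ble 148 c)
noncomputable def clsTab_s_0_198 (c : Nat) : Nat := @Bool.rec (fun _ => Nat) (clsTab_s_0_99 c) (clsTab_s_99_198 c) (Nat.ble 99 c)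
noncomputable def clsTab_s_199_201 (c : Nat) : Nat := @Bool.rec (fun _ => Nat) (clsTab_199) (clsTab_200) (Nat.ble 200 c)
noncomputable def clsTab_s_198_201 (c : Nat) : Nat := @Bool.rec (fun _ => Nat) (clsTab_198) (clsTab_s_199_201 c) (Nat.ble 199 c)
noncomputable def clsTab_s_202_204 (c : Nat) : Nat := @Bool.rec (fun _ => Nat) (clsTab_202) (clsTab_203) (Nat.ble 203 c)
noncomputable def clsTab_s_201_204 (c : Nat) : Nat := @Bool.rec (fun _ => Nat) (clsTab_201) (clsTab_s_202_204 c) (Nat.ble 202 c)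
noncomputable def clsTab_s_198_204 (c : Nat) : Nat := @Bool.rec (fun _ => Nat) (clsTab_s_198_201 c) (clsTab_s_201_204 c) (Nat.ble 201 c)
noncomputable def clsTab_s_205_207 (c : Nat) : Nat := @Bool.rec (fun _ => Nat) (clsTab_205) (clsTab_206) (Nat.ble 206 c)
noncomputable def clsTab_s_204_207 (c : Nat) : Nat := @Bool.rec (fun _ => Nat) (clsTab_204) (clsTab_s_205_207 c) (Nat.ble 205 c)
noncomputable def clsTab_s_208_210 (c : Nat) : Nat := @Bool.rec (fun _ => Nat) (clsTab_208) (clsTab_209) (Nat.ble 209 c)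
noncomputable def clsTab_s_207_210 (c : Nat) : Nat := @Bool.rec (fun _ => Nat) (clsTab_207) (clsTab_s_208_210 c) (Nat.ble 208 c)
noncomputable def clsTab_s_204_210 (c : Nat) : Nat := @Bool.rec (fun _ => Nat) (clsTab_s_204_207 c) (clsTab_s_207_210 c) (Nat.ble 207 c)
noncomputable def clsTab_s_198_210 (c : Nat) : Nat := @Bool.rec (fun _ => Nat) (clsTab_s_198_204 c) (clsTab_s_204_210 c) (Nat.ble 204 c)
noncomputable def clsTab_s_211_213 (c : Nat) : Nat := @Bool.rec (fun _ => Nat) (clsTab_211) (clsTab_212) (Nat.ble 212 c)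
noncomputable def clsTab_s_210_213 (c : Nat) : Nat := @Bool.rec (fun _ => Nat) (clsTab_210) (clsTab_s_211_213 c) (Nat.ble 211 c)
noncomputable def clsTab_s_214_216 (c : Nat) : Nat := @Bool.rec (fun _ => Nat) (clsTab_214) (clsTab_215) (Nat.ble 215 c)
noncomputable def clsTab_s_213_216 (c : Nat) : Nat := @Bool.rec (fun _ => Nat) (clsTab_213) (clsTab_s_214_216 c) (Nat.ble 214 c)
noncomputable def clsTab_s_210_216 (c : Nat) : Nat := @Bool.rec (fun _ => Nat) (clsTab_s_210_213 c) (clsTab_s_213_216 c) (Nat.ble 213 c)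
noncomputable def clsTab_s_217_219 (c : Nat) : Nat := @Bool.rec (fun _ => Nat) (clsTab_217) (clsTab_218) (Nat.ble 218 c)
noncomputable def clsTab_s_216_219 (c : Nat) : Nat := @Bool.rec (fun _ => Nat) (clsTab_216) (clsTab_s_217_219 c) (Nat.ble 217 c)
noncomputable def clsTab_s_220_222 (c : Nat) : Nat := @Bool.rec (fun _ => Nat) (clsTab_220) (clsTab_221) (Nat.ble 221 c)
noncomputable def clsTab_s_219_222 (c : Nat) : Nat := @Bool.rec (fun _ => Nat) (clsTab_219) (clsTab_s_220_222 c) (Nat.ble 220 c)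
noncomputable def clsTab_s_216_222 (c : Nat) : Nat := @Bool.rec (fun _ => Nat) (clsTab_s_216_219 c) (clsTab_s_219_222 c) (Nat.ble 219 c)
noncomputable def clsTab_s_210_222 (c : Nat) : Nat := @Bool.rec (fun _ => Nat) (clsTab_s_210_216 c) (clsTab_s_216_222 c) (Nat.ble 216 c)
noncomputable def clsTab_s_198_222 (c : Nat) : Nat := @Bool.rec (fun _ => Nat) (clsTab_s_198_210 c) (clsTab_s_210_222 c) (Nat.ble 210 c)
noncomputable def clsTab_s_223_225 (c : Nat) : Nat := @Bool.rec (fun _ => Nat) (clsTab_223) (clsTab_224) (Nat.ble 224 c)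
noncomputable def clsTab_s_222_225 (c : Nat) : Nat := @Bool.rec (fun _ => Nat) (clsTab_222) (clsTab_s_223_225 c) (Nat.ble 223 c)
noncomputable def clsTab_s_226_228 (c : Nat) : Nat := @Bool.rec (fun _ => Nat) (clsTab_226) (clsTab_227) (Nat.ble 227 c)
noncomputable def clsTab_s_225_228 (c : Nat) : Nat := @Bool.rec (fun _ => Nat) (clsTab_225) (clsTab_s_226_228 c) (Nat.ble 226 c)
noncomputable def clsTab_s_222_228 (c : Nat) : Nat := @Bool.rec (fun _ => Nat) (clsTab_s_222_225 c) (clsTab_s_225_228 c) (Nat.ble 225 c)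
noncomputable def clsTab_s_229_231 (c : Nat) : Nat := @Bool.rec (fun _ => Nat) (clsTab_229) (clsTab_230) (Nat.ble 230 c)
noncomputable def clsTab_s_228_231 (c : Nat) : Nat := @Bool.rec (fun _ => Nat) (clsTab_228) (clsTab_s_229_231 c) (Nat.ble 229 c)
noncomputable def clsTab_s_232_234 (c : Nat) : Nat := @Bool.rec (fun _ => Nat) (clsTab_232) (clsTab_233) (Nat.ble 233 c)
noncomputable def clsTab_s_231_234 (c : Nat) : Nat := @Bool.rec (fun _ => Nat) (clsTab_231) (clsTab_s_232_234 c) (Nat.ble 232 c)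
noncomputable def clsTab_s_228_234 (c : Nat) : Nat := @Bool.rec (fun _ => Nat) (clsTab_s_228_231 c) (clsTab_s_231_234 c) (Nat.ble 231 c)
noncomputable def clsTab_s_222_234 (c : Nat) : Nat := @Bool.rec (fun _ => Nat) (clsTab_s_222_228 c) (clsTab_s_228_234 c) (Nat.ble 228 c)
noncomputable def clsTab_s_235_237 (c : Nat) : Nat := @Bool.rec (fun _ => Nat) (clsTab_235) (clsTab_236) (Nat.ble 236 c)
noncomputable def clsTab_s_234_237 (c : Nat) : Nat := @Bool.rec (fun _ => Nat) (clsTab_234) (clsTab_s_235_237 c) (Nat.ble 235 c)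
noncomputable def clsTab_s_238_240 (c : Nat) : Nat := @Bool.rec (fun _ => Nat) (clsTab_238) (clsTab_239) (Nat.ble 239 c)
noncomputable def clsTab_s_237_240 (c : Nat) : Nat := @Bool.rec (fun _ => Nat) (clsTab_237) (clsTab_s_238_240 c) (Nat.ble 238 c)
noncomputable def clsTab_s_234_240 (c : Nat) : Nat := @Bool.rec (fun _ => Nat) (clsTab_s_234_237 c) (clsTab_s_237_240 c) (Nat.ble 237 c)
noncomputable def clsTab_s_241_243 (c : Nat) : Nat := @Bool.rec (fun _ => Nat) (clsTab_241) (clsTab_242) (Nat.ble 242 c)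
noncomputable def clsTab_s_240_243 (c : Nat) : Nat := @Bool.rec (fun _ => Nat) (clsTab_240) (clsTab_s_241_243 c) (Nat.ble 241 c)
noncomputable def clsTab_s_243_245 (c : Nat) : Nat := @Bool.rec (fun _ => Nat) (clsTab_243) (clsTab_244) (Nat.ble 244 c)
noncomputable def clsTab_s_245_247 (c : Nat) : Nat := @Bool.rec (fun _ => Nat) (clsTab_245) (clsTab_246) (Nat.ble 246 c)
noncomputable def clsTab_s_243_247 (c : Nat) : Nat := @Bool.rec (fun _ => Nat) (clsTab_s_243_245 c) (clsTab_s_245_247 c) (Nat.ble 245 c)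
noncomputable def clsTab_s_240_247 (c : Nat) : Nat := @Bool.rec (fun _ => Nat) (clsTab_s_240_243 c) (clsTab_s_243_247 c) (Nat.ble 243 c)
noncomputable def clsTab_s_234_247 (c : Nat) : Nat := @Bool.rec (fun _ => Nat) (clsTab_s_234_240 c) (clsTab_s_240_247 c) (Nat.ble 240 c)
noncomputable def clsTab_s_222_247 (c : Nat) : Nat := @Bool.rec (fun _ => Nat) (clsTab_s_222_234 c) (clsTab_s_234_247 c) (Nat.ble 234 c)
noncomputable def clsTab_s_198_247 (c : Nat) : Nat := @Bool.rec (fun _ => Nat) (clsTab_s_198_222 c) (clsTab_s_222_247 c) (Nat.ble 222 c)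
noncomputable def clsTab_s_248_250 (c : Nat) : Nat := @Bool.rec (fun _ => Nat) (clsTab_248) (clsTab_249) (Nat.ble 249 c)
noncomputable def clsTab_s_247_250 (c : Nat) : Nat := @Bool.rec (fun _ => Nat) (clsTab_247) (clsTab_s_248_250 c) (Nat.ble 248 c)
noncomputable def clsTab_s_251_253 (c : Nat) : Nat := @Bool.rec (fun _ => Nat) (clsTab_251) (clsTab_252) (Nat.ble 252 c)
noncomputable def clsTab_s_250_253 (c : Nat) : Nat := @Bool.rec (fun _ => Nat) (clsTab_250) (clsTab_s_251_253 c) (Nat.ble 251 c)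
noncomputable def clsTab_s_247_253 (c : Nat) : Nat := @Bool.rec (fun _ => Nat) (clsTab_s_247_250 c) (clsTab_s_250_253 c) (Nat.ble 250 c)
noncomputable def clsTab_s_254_256 (c : Nat) : Nat := @Bool.rec (fun _ => Nat) (clsTab_254) (clsTab_255) (Nat.ble 255 c)
noncomputable def clsTab_s_253_256 (c : Nat) : Nat := @Bool.rec (fun _ => Nat) (clsTab_253) (clsTab_s_254_256 c) (Nat.ble 254 c)
noncomputable def clsTab_s_257_259 (c : Nat) : Nat := @Bool.rec (fun _ => Nat) (clsTab_257) (clsTab_258) (Nat.ble 258 c)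
noncomputable def clsTab_s_256_259 (c : Nat) : Nat := @Bool.rec (fun _ => Nat) (clsTab_256) (clsTab_s_257_259 c) (Nat.ble 257 c)
noncomputable def clsTab_s_253_259 (c : Nat) : Nat := @Bool.rec (fun _ => Nat) (clsTab_s_253_256 c) (clsTab_s_256_259 c) (Nat.ble 256 c)
noncomputable def clsTab_s_247_259 (c : Nat) : Nat := @Bool.rec (fun _ => Nat) (clsTab_s_247_253 c) (clsTab_s_253_259 c) (Nat.ble 253 c)
noncomputable def clsTab_s_260_262 (c : Nat) : Nat := @Bool.rec (fun _ => Nat) (clsTab_260) (clsTab_261) (Nat.ble 261 c)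
noncomputable def clsTab_s_259_262 (c : Nat) : Nat := @Bool.rec (fun _ => Nat) (clsTab_259) (clsTab_s_260_262 c) (Nat.ble 260 c)
noncomputable def clsTab_s_263_265 (c : Nat) : Nat := @Bool.rec (fun _ => Nat) (clsTab_263) (clsTab_264) (Nat.ble 264 c)
noncomputable def clsTab_s_262_265 (c : Nat) : Nat := @Bool.rec (fun _ => Nat) (clsTab_262) (clsTab_s_263_265 c) (Nat.ble 263 c)
noncomputable def clsTab_s_259_265 (c : Nat) : Nat := @Bool.rec (fun _ => Nat) (clsTab_s_259_262 c) (clsTab_s_262_265 c) (Nat.ble 262 c)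
noncomputable def clsTab_s_266_268 (c : Nat) : Nat := @Bool.rec (fun _ => Nat) (clsTab_266) (clsTab_267) (Nat.ble 267 c)
noncomputable def clsTab_s_265_268 (c : Nat) : Nat := @Bool.rec (fun _ => Nat) (clsTab_265) (clsTab_s_266_268 c) (Nat.ble 266 c)
noncomputable def clsTab_s_268_270 (c : Nat) : Nat := @Bool.rec (fun _ => Nat) (clsTab_268) (clsTab_269) (Nat.ble 269 c)
noncomputable def clsTab_s_270_272 (c : Nat) : Nat := @Bool.rec (fun _ => Nat) (clsTab_270) (clsTab_271) (Nat.ble 271 c)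
noncomputable def clsTab_s_268_272 (c : Nat) : Nat := @Bool.rec (fun _ => Nat) (clsTab_s_268_270 c) (clsTab_s_270_272 c) (Nat.ble 270 c)
noncomputable def clsTab_s_265_272 (c : Nat) : Nat := @Bool.rec (fun _ => Nat) (clsTab_s_265_268 c) (clsTab_s_268_272 c) (Nat.ble 268 c)
noncomputable def clsTab_s_259_272 (c : Nat) : Nat := @Bool.rec (fun _ => Nat) (clsTab_s_259_265 c) (clsTab_s_265_272 c) (Nat.ble 265 c)
noncomputable def clsTab_s_247_272 (c : Nat) : Nat := @Bool.rec (fun _ => Nat) (clsTab_s_247_259 c) (clsTab_s_259_272 c) (Nat.ble 259 c)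
noncomputable def clsTab_s_273_275 (c : Nat) : Nat := @Bool.rec (fun _ => Nat) (clsTab_273) (clsTab_274) (Nat.ble 274 c)
noncomputable def clsTab_s_272_275 (c : Nat) : Nat := @Bool.rec (fun _ => Nat) (clsTab_272) (clsTab_s_273_275 c) (Nat.ble 273 c)
noncomputable def clsTab_s_276_278 (c : Nat) : Nat := @Bool.rec (fun _ => Nat) (clsTab_276) (clsTab_277) (Nat.ble 277 c)
noncomputable def clsTab_s_275_278 (c : Nat) : Nat := @Bool.rec (fun _ => Nat) (clsTab_275) (clsTab_s_276_278 c) (Nat.ble 276 c)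
noncomputable def clsTab_s_272_278 (c : Nat) : Nat := @Bool.rec (fun _ => Nat) (clsTab_s_272_275 c) (clsTab_s_275_278 c) (Nat.ble 275 c)
noncomputable def clsTab_s_279_281 (c : Nat) : Nat := @Bool.rec (fun _ => Nat) (clsTab_279) (clsTab_280) (Nat.ble 280 c)
noncomputable def clsTab_s_278_281 (c : Nat) : Nat := @Bool.rec (fun _ => Nat) (clsTab_278) (clsTab_s_279_281 c) (Nat.ble 279 c)
noncomputable def clsTab_s_282_284 (c : Nat) : Nat := @Bool.rec (fun _ => Nat) (clsTab_282) (clsTab_283) (Nat.ble 283 c)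
noncomputable def clsTab_s_281_284 (c : Nat) : Nat := @Bool.rec (fun _ => Nat) (clsTab_281) (clsTab_s_282_284 c) (Nat.ble 282 c)
noncomputable def clsTab_s_278_284 (c : Nat) : Nat := @Bool.rec (fun _ => Nat) (clsTab_s_278_281 c) (clsTab_s_281_284 c) (Nat.ble 281 c)
noncomputable def clsTab_s_272_284 (c : Nat) : Nat := @Bool.rec (fun _ => Nat) (clsTab_s_272_278 c) (clsTab_s_278_284 c) (Nat.ble 278 c)
noncomputable def clsTab_s_285_287 (c : Nat) : Nat := @Bool.rec (fun _ => Nat) (clsTab_285) (clsTab_286) (Nat.ble 286 c)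
noncomputable def clsTab_s_284_287 (c : Nat) : Nat := @Bool.rec (fun _ => Nat) (clsTab_284) (clsTab_s_285_287 c) (Nat.ble 285 c)
noncomputable def clsTab_s_288_290 (c : Nat) : Nat := @Bool.rec (fun _ => Nat) (clsTab_288) (clsTab_289) (Nat.ble 289 c)
noncomputable def clsTab_s_287_290 (c : Nat) : Nat := @Bool.rec (fun _ => Nat) (clsTab_287) (clsTab_s_288_290 c) (Nat.ble 288 c)
noncomputable def clsTab_s_284_290 (c : Nat) : Nat := @Bool.rec (fun _ => Nat) (clsTab_s_284_287 c) (clsTab_s_287_290 c) (Nat.ble 287 c)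
noncomputable def clsTab_s_291_293 (c : Nat) : Nat := @Bool.rec (fun _ => Nat) (clsTab_291) (clsTab_292) (Nat.ble 292 c)
noncomputable def clsTab_s_290_293 (c : Nat) : Nat := @Bool.rec (fun _ => Nat) (clsTab_290) (clsTab_s_291_293 c) (Nat.ble 291 c)
noncomputable def clsTab_s_293_295 (c : Nat) : Nat := @Bool.rec (fun _ => Nat) (clsTab_293) (clsTab_294) (Nat.ble 294 c)
noncomputable def clsTab_s_295_297 (c : Nat) : Nat := @Bool.rec (fun _ => Nat) (clsTab_295) (clsTab_296) (Nat.ble 296 c)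
noncomputable def clsTab_s_293_297 (c : Nat) : Nat := @Bool.rec (fun _ => Nat) (clsTab_s_293_295 c) (clsTab_s_295_297 c) (Nat.ble 295 c)
noncomputable def clsTab_s_290_297 (c : Nat) : Nat := @Bool.rec (fun _ => Nat) (clsTab_s_290_293 c) (clsTab_s_293_297 c) (Nat.ble 293 c)
noncomputable def clsTab_s_284_297 (c : Nat) : Nat := @Bool.rec (fun _ => Nat) (clsTab_s_284_290 c) (clsTab_s_290_297 c) (Nat.ble 290 c)
noncomputable def clsTab_s_272_297 (c : Nat) : Nat := @Bool.rec (fun _ => Nat) (clsTab_s_272_284 c) (clsTab_s_284_297 c) (Nat.ble 284 c)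
noncomputable def clsTab_s_247_297 (c : Nat) : Nat := @Bool.rec (fun _ => Nat) (clsTab_s_247_272 c) (clsTab_s_272_297 c) (Nat.ble 272 c)
noncomputable def clsTab_s_198_297 (c : Nat) : Nat := @Bool.rec (fun _ => Nat) (clsTab_s_198_247 c) (clsTab_s_247_297 c) (Nat.ble 247 c)
noncomputable def clsTab_s_298_300 (c : Nat) : Nat := @Bool.rec (fun _ => Nat) (clsTab_298) (clsTab_299) (Nat.ble 299 c)
noncomputable def clsTab_s_297_300 (c : Nat) : Nat := @Bool.rec (fun _ => Nat) (clsTab_297) (clsTab_s_298_300 c) (Nat.ble 298 c)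
noncomputable def clsTab_s_301_303 (c : Nat) : Nat := @Bool.rec (fun _ => Nat) (clsTab_301) (clsTab_302) (Nat.ble 302 c)
noncomputable def clsTab_s_300_303 (c : Nat) : Nat := @Bool.rec (fun _ => Nat) (clsTab_300) (clsTab_s_301_303 c) (Nat.ble 301 c)
noncomputable def clsTab_s_297_303 (c : Nat) : Nat := @Bool.rec (fun _ => Nat) (clsTab_s_297_300 c) (clsTab_s_300_303 c) (Nat.ble 300 c)
noncomputable def clsTab_s_304_306 (c : Nat) : Nat := @Bool.rec (fun _ => Nat) (clsTab_304) (clsTab_305) (Nat.ble 305 c)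
noncomputable def clsTab_s_303_306 (c : Nat) : Nat := @Bool.rec (fun _ => Nat) (clsTab_303) (clsTab_s_304_306 c) (Nat.ble 304 c)
noncomputable def clsTab_s_307_309 (c : Nat) : Nat := @Bool.rec (fun _ => Nat) (clsTab_307) (clsTab_308) (Nat.ble 308 c)
noncomputable def clsTab_s_306_309 (c : Nat) : Nat := @Bool.rec (fun _ => Nat) (clsTab_306) (clsTab_s_307_309 c) (Nat.ble 307 c)
noncomputable def clsTab_s_303_309 (c : Nat) : Nat := @Bool.rec (fun _ => Nat) (clsTab_s_303_306 c) (clsTab_s_306_309 c) (Nat.ble 306 c)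
noncomputable def clsTab_s_297_309 (c : Nat) : Nat := @Bool.rec (fun _ => Nat) (clsTab_s_297_303 c) (clsTab_s_303_309 c) (Nat.ble 303 c)
noncomputable def clsTab_s_310_312 (c : Nat) : Nat := @Bool.rec (fun _ => Nat) (clsTab_310) (clsTab_311) (Nat.ble 311 c)
noncomputable def clsTab_s_309_312 (c : Nat) : Nat := @Bool.rec (fun _ => Nat) (clsTab_309) (clsTab_s_310_312 c) (Nat.ble 310 c)
noncomputable def clsTab_s_313_315 (c : Nat) : Nat := @Bool.rec (fun _ => Nat) (clsTab_313) (clsTab_314) (Nat.ble 314 c)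
noncomputable def clsTab_s_312_315 (c : Nat) : Nat := @Bool.rec (fun _ => Nat) (clsTab_312) (clsTab_s_313_315 c) (Nat.ble 313 c)
noncomputable def clsTab_s_309_315 (c : Nat) : Nat := @Bool.rec (fun _ => Nat) (clsTab_s_309_312 c) (clsTab_s_312_315 c) (Nat.ble 312 c)
noncomputable def clsTab_s_316_318 (c : Nat) : Nat := @Bool.rec (fun _ => Nat) (clsTab_316) (clsTab_317) (Nat.ble 317 c)
noncomputable def clsTab_s_315_318 (c : Nat) : Nat := @Bool.rec (fun _ => Nat) (clsTab_315) (clsTab_s_316_318 c) (Nat.ble 316 c)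
noncomputable def clsTab_s_318_320 (c : Nat) : Nat := @Bool.rec (fun _ => Nat) (clsTab_318) (clsTab_319) (Nat.ble 319 c)
noncomputable def clsTab_s_320_322 (c : Nat) : Nat := @Bool.rec (fun _ => Nat) (clsTab_320) (clsTab_321) (Nat.ble 321 c)
noncomputable def clsTab_s_318_322 (c : Nat) : Nat := @Bool.rec (fun _ => Nat) (clsTab_s_318_320 c) (clsTab_s_320_322 c) (Nat.ble 320 c)
noncomputable def clsTab_s_315_322 (c : Nat) : Nat := @Bool.rec (fun _ => Nat) (clsTab_s_315_318 c) (clsTab_s_318_322 c) (Nat.ble 318 c)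
noncomputable def clsTab_s_309_322 (c : Nat) : Nat := @Bool.rec (fun _ => Nat) (clsTab_s_309_315 c) (clsTab_s_315_322 c) (Nat.ble 315 c)
noncomputable def clsTab_s_297_322 (c : Nat) : Nat := @Bool.rec (fun _ => Nat) (clsTab_s_297_309 c) (clsTab_s_309_322 c) (Nat.ble 309 c)
noncomputable def clsTab_s_323_325 (c : Nat) : Nat := @Bool.rec (fun _ => Nat) (clsTab_323) (clsTab_324) (Nat.ble 324 c)
noncomputable def clsTab_s_322_325 (c : Nat) : Nat := @Bool.rec (fun _ => Nat) (clsTab_322) (clsTab_s_323_325 c) (Nat.ble 323 c)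
noncomputable def clsTab_s_326_328 (c : Nat) : Nat := @Bool.rec (fun _ => Nat) (clsTab_326) (clsTab_327) (Nat.ble 327 c)
noncomputable def clsTab_s_325_328 (c : Nat) : Nat := @Bool.rec (fun _ => Nat) (clsTab_325) (clsTab_s_326_328 c) (Nat.ble 326 c)
noncomputable def clsTab_s_322_328 (c : Nat) : Nat := @Bool.rec (fun _ => Nat) (clsTab_s_322_325 c) (clsTab_s_325_328 c) (Nat.ble 325 c)
noncomputable def clsTab_s_329_331 (c : Nat) : Nat := @Bool.rec (fun _ => Nat) (clsTab_329) (clsTab_330) (Nat.ble 330 c)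
noncomputable def clsTab_s_328_331 (c : Nat) : Nat := @Bool.rec (fun _ => Nat) (clsTab_328) (clsTab_s_329_331 c) (Nat.ble 329 c)
noncomputable def clsTab_s_332_334 (c : Nat) : Nat := @Bool.rec (fun _ => Nat) (clsTab_332) (clsTab_333) (Nat.ble 333 c)
noncomputable def clsTab_s_331_334 (c : Nat) : Nat := @Bool.rec (fun _ => Nat) (clsTab_331) (clsTab_s_332_334 c) (Nat.ble 332 c)
noncomputable def clsTab_s_328_334 (c : Nat) : Nat := @Bool.rec (fun _ => Nat) (clsTab_s_328_331 c) (clsTab_s_331_334 c) (Nat.ble 331 c)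
noncomputable def clsTab_s_322_334 (c : Nat) : Nat := @Bool.rec (fun _ => Nat) (clsTab_s_322_328 c) (clsTab_s_328_334 c) (Nat.ble 328 c)
noncomputable def clsTab_s_335_337 (c : Nat) : Nat := @Bool.rec (fun _ => Nat) (clsTab_335) (clsTab_336) (Nat.ble 336 c)
noncomputable def clsTab_s_334_337 (c : Nat) : Nat := @Bool.rec (fun _ => Nat) (clsTab_334) (clsTab_s_335_337 c) (Nat.ble 335 c)
noncomputable def clsTab_s_338_340 (c : Nat) : Nat := @Bool.rec (fun _ => Nat) (clsTab_338) (clsTab_339) (Nat.ble 339 c)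
noncomputable def clsTab_s_337_340 (c : Nat) : Nat := @Bool.rec (fun _ => Nat) (clsTab_337) (clsTab_s_338_340 c) (Nat.ble 338 c)
noncomputable def clsTab_s_334_340 (c : Nat) : Nat := @Bool.rec (fun _ => Nat) (clsTab_s_334_337 c) (clsTab_s_337_340 c) (Nat.ble 337 c)
noncomputable def clsTab_s_341_343 (c : Nat) : Nat := @Bool.rec (fun _ => Nat) (clsTab_341) (clsTab_342) (Nat.ble 342 c)
noncomputable def clsTab_s_340_343 (c : Nat) : Nat := @Bool.rec (fun _ => Nat) (clsTab_340) (clsTab_s_341_343 c) (Nat.ble 341 c)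
noncomputable def clsTab_s_343_345 (c : Nat) : Nat := @Bool.rec (fun _ => Nat) (clsTab_343) (clsTab_344) (Nat.ble 344 c)
noncomputable def clsTab_s_345_347 (c : Nat) : Nat := @Bool.rec (fun _ => Nat) (clsTab_345) (clsTab_346) (Nat.ble 346 c)
noncomputable def clsTab_s_343_347 (c : Nat) : Nat := @Bool.rec (fun _ => Nat) (clsTab_s_343_345 c) (clsTab_s_345_347 c) (Nat.ble 345 c)
noncomputable def clsTab_s_340_347 (c : Nat) : Nat := @Bool.rec (fun _ => Nat) (clsTab_s_340_343 c) (clsTab_s_343_347 c) (Nat.ble 343 c)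
noncomputable def clsTab_s_334_347 (c : Nat) : Nat := @Bool.rec (fun _ => Nat) (clsTab_s_334_340 c) (clsTab_s_340_347 c) (Nat.ble 340 c)
noncomputable def clsTab_s_322_347 (c : Nat) : Nat := @Bool.rec (fun _ => Nat) (clsTab_s_322_334 c) (clsTab_s_334_347 c) (Nat.ble 334 c)
noncomputable def clsTab_s_297_347 (c : Nat) : Nat := @Bool.rec (fun _ => Nat) (clsTab_s_297_322 c) (clsTab_s_322_347 c) (Nat.ble 322 c)
noncomputable def clsTab_s_348_350 (c : Nat) : Nat := @Bool.rec (fun _ => Nat) (clsTab_348) (clsTab_349) (Nat.ble 349 c)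
noncomputable def clsTab_s_347_350 (c : Nat) : Nat := @Bool.rec (fun _ => Nat) (clsTab_347) (clsTab_s_348_350 c) (Nat.ble 348 c)
noncomputable def clsTab_s_351_353 (c : Nat) : Nat := @Bool.rec (fun _ => Nat) (clsTab_351) (clsTab_352) (Nat.ble 352 c)
noncomputable def clsTab_s_350_353 (c : Nat) : Nat := @Bool.rec (fun _ => Nat) (clsTab_350) (clsTab_s_351_353 c) (Nat.ble 351 c)
noncomputable def clsTab_s_347_353 (c : Nat) : Nat := @Bool.rec (fun _ => Nat) (clsTab_s_347_350 c) (clsTab_s_350_353 c) (Nat.ble 350 c)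
noncomputable def clsTab_s_354_356 (c : Nat) : Nat := @Bool.rec (fun _ => Nat) (clsTab_354) (clsTab_355) (Nat.ble 355 c)
noncomputable def clsTab_s_353_356 (c : Nat) : Nat := @Bool.rec (fun _ => Nat) (clsTab_353) (clsTab_s_354_356 c) (Nat.ble 354 c)
noncomputable def clsTab_s_357_359 (c : Nat) : Nat := @Bool.rec (fun _ => Nat) (clsTab_357) (clsTab_358) (Nat.ble 358 c)
noncomputable def clsTab_s_356_359 (c : Nat) : Nat := @Bool.rec (fun _ => Nat) (clsTab_356) (clsTab_s_357_359 c) (Nat.ble 357 c)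
noncomputable def clsTab_s_353_359 (c : Nat) : Nat := @Bool.rec (fun _ => Nat) (clsTab_s_353_356 c) (clsTab_s_356_359 c) (Nat.ble 356 c)
noncomputable def clsTab_s_347_359 (c : Nat) : Nat := @Bool.rec (fun _ => Nat) (clsTab_s_347_353 c) (clsTab_s_353_359 c) (Nat.ble 353 c)
noncomputable def clsTab_s_360_362 (c : Nat) : Nat := @Bool.rec (fun _ => Nat) (clsTab_360) (clsTab_361) (Nat.ble 361 c)
noncomputable def clsTab_s_359_362 (c : Nat) : Nat := @Bool.rec (fun _ => Nat) (clsTab_359) (clsTab_s_360_362 c) (Nat.ble 360 c)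
noncomputable def clsTab_s_363_365 (c : Nat) : Nat := @Bool.rec (fun _ => Nat) (clsTab_363) (clsTab_364) (Nat.ble 364 c)
noncomputable def clsTab_s_362_365 (c : Nat) : Nat := @Bool.rec (fun _ => Nat) (clsTab_362) (clsTab_s_363_365 c) (Nat.ble 363 c)
noncomputable def clsTab_s_359_365 (c : Nat) : Nat := @Bool.rec (fun _ => Nat) (clsTab_s_359_362 c) (clsTab_s_362_365 c) (Nat.ble 362 c)
noncomputable def clsTab_s_366_368 (c : Nat) : Nat := @Bool.rec (fun _ => Nat) (clsTab_366) (clsTab_367) (Nat.ble 367 c)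
noncomputable def clsTab_s_365_368 (c : Nat) : Nat := @Bool.rec (fun _ => Nat) (clsTab_365) (clsTab_s_366_368 c) (Nat.ble 366 c)
noncomputable def clsTab_s_368_370 (c : Nat) : Nat := @Bool.rec (fun _ => Nat) (clsTab_368) (clsTab_369) (Nat.ble 369 c)
noncomputable def clsTab_s_370_372 (c : Nat) : Nat := @Bool.rec (fun _ => Nat) (clsTab_370) (clsTab_371) (Nat.ble 371 c)
noncomputable def clsTab_s_368_372 (c : Nat) : Nat := @Bool.rec (fun _ => Nat) (clsTab_s_368_370 c) (clsTab_s_370_372 c) (Nat.ble 370 c)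
noncomputable def clsTab_s_365_372 (c : Nat) : Nat := @Bool.rec (fun _ => Nat) (clsTab_s_365_368 c) (clsTab_s_368_372 c) (Nat.ble 368 c)
noncomputable def clsTab_s_359_372 (c : Nat) : Nat := @Bool.rec (fun _ => Nat) (clsTab_s_359_365 c) (clsTab_s_365_372 c) (Nat.ble 365 c)
noncomputable def clsTab_s_347_372 (c : Nat) : Nat := @Bool.rec (fun _ => Nat) (clsTab_s_347_359 c) (clsTab_s_359_372 c) (Nat.ble 359 c)
noncomputable def clsTab_s_373_375 (c : Nat) : Nat := @Bool.rec (fun _ => Nat) (clsTab_373) (clsTab_374) (Nat.ble 374 c)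
noncomputable def clsTab_s_372_375 (c : Nat) : Nat := @Bool.rec (fun _ => Nat) (clsTab_372) (clsTab_s_373_375 c) (Nat.ble 373 c)
noncomputable def clsTab_s_376_378 (c : Nat) : Nat := @Bool.rec (fun _ => Nat) (clsTab_376) (clsTab_377) (Nat.ble 377 c)
noncomputable def clsTab_s_375_378 (c : Nat) : Nat := @Bool.rec (fun _ => Nat) (clsTab_375) (clsTab_s_376_378 c) (Nat.ble 376 c)
noncomputable def clsTab_s_372_378 (c : Nat) : Nat := @Bool.rec (fun _ => Nat) (clsTab_s_372_375 c) (clsTab_s_375_378 c) (Nat.ble 375 c)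
noncomputable def clsTab_s_379_381 (c : Nat) : Nat := @Bool.rec (fun _ => Nat) (clsTab_379) (clsTab_380) (Nat.ble 380 c)
noncomputable def clsTab_s_378_381 (c : Nat) : Nat := @Bool.rec (fun _ => Nat) (clsTab_378) (clsTab_s_379_381 c) (Nat.ble 379 c)
noncomputable def clsTab_s_382_384 (c : Nat) : Nat := @Bool.rec (fun _ => Nat) (clsTab_382) (clsTab_383) (Nat.ble 383 c)
noncomputable def clsTab_s_381_384 (c : Nat) : Nat := @Bool.rec (fun _ => Nat) (clsTab_381) (clsTab_s_382_384 c) (Nat.ble 382 c)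
noncomputable def clsTab_s_378_384 (c : Nat) : Nat := @Bool.rec (fun _ => Nat) (clsTab_s_378_381 c) (clsTab_s_381_384 c) (Nat.ble 381 c)
noncomputable def clsTab_s_372_384 (c : Nat) : Nat := @Bool.rec (fun _ => Nat) (clsTab_s_372_378 c) (clsTab_s_378_384 c) (Nat.ble 378 c)
noncomputable def clsTab_s_385_387 (c : Nat) : Nat := @Bool.rec (fun _ => Nat) (clsTab_385) (clsTab_386) (Nat.ble 386 c)
noncomputable def clsTab_s_384_387 (c : Nat) : Nat := @Bool.rec (fun _ => Nat) (clsTab_384) (clsTab_s_385_387 c) (Nat.ble 385 c)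
noncomputable def clsTab_s_388_390 (c : Nat) : Nat := @Bool.rec (fun _ => Nat) (clsTab_388) (clsTab_389) (Nat.ble 389 c)
noncomputable def clsTab_s_387_390 (c : Nat) : Nat := @Bool.rec (fun _ => Nat) (clsTab_387) (clsTab_s_388_390 c) (Nat.ble 388 c)
noncomputable def clsTab_s_384_390 (c : Nat) : Nat := @Bool.rec (fun _ => Nat) (clsTab_s_384_387 c) (clsTab_s_387_390 c) (Nat.ble 387 c)
noncomputable def clsTab_s_391_393 (c : Nat) : Nat := @Bool.rec (fun _ => Nat) (clsTab_391) (clsTab_392) (Nat.ble 392 c)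
noncomputable def clsTab_s_390_393 (c : Nat) : Nat := @Bool.rec (fun _ => Nat) (clsTab_390) (clsTab_s_391_393 c) (Nat.ble 391 c)
noncomputable def clsTab_s_393_395 (c : Nat) : Nat := @Bool.rec (fun _ => Nat) (clsTab_393) (clsTab_394) (Nat.ble 394 c)
noncomputable def clsTab_s_395_397 (c : Nat) : Nat := @Bool.rec (fun _ => Nat) (clsTab_395) (clsTab_396) (Nat.ble 396 c)
noncomputable def clsTab_s_393_397 (c : Nat) : Nat := @Bool.rec (fun _ => Nat) (clsTab_s_393_395 c) (clsTab_s_395_397 c) (Nat.ble 395 c)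
noncomputable def clsTab_s_390_397 (c : Nat) : Nat := @Bool.rec (fun _ => Nat) (clsTab_s_390_393 c) (clsTab_s_393_397 c) (Nat.ble 393 c)
noncomputable def clsTab_s_384_397 (c : Nat) : Nat := @Bool.rec (fun _ => Nat) (clsTab_s_384_390 c) (clsTab_s_390_397 c) (Nat.ble 390 c)
noncomputable def clsTab_s_372_397 (c : Nat) : Nat := @Bool.rec (fun _ => Nat) (clsTab_s_372_384 c) (clsTab_s_384_397 c) (Nat.ble 384 c)
noncomputable def clsTab_s_347_397 (c : Nat) : Nat := @Bool.rec (fun _ => Nat) (clsTab_s_347_372 c) (clsTab_s_372_397 c) (Nat.ble 372 c)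
noncomputable def clsTab_s_297_397 (c : Nat) : Nat := @Bool.rec (fun _ => Nat) (clsTab_s_297_347 c) (clsTab_s_347_397 c) (Nat.ble 347 c)
noncomputable def clsTab_s_198_397 (c : Nat) : Nat := @Bool.rec (fun _ => Nat) (clsTab_s_198_297 c) (clsTab_s_297_397 c) (Nat.ble 297 c)
noncomputable def clsTab_s_0_397 (c : Nat) : Nat := @Bool.rec (fun _ => Nat) (clsTab_s_0_198 c) (clsTab_s_198_397 c) (Nat.ble 198 c)
noncomputable def clsTab (i : Nat) : Nat := rdw 21 2097151 (clsTab_s_0_397 (Nat.shiftRight i 12)) (Nat.land i 4095)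
noncomputable def oparTab_s_0_2 (c : Nat) : Nat := @Bool.rec (fun _ => Nat) (oparTab_0) (oparTab_1) (Nat.ble 1 c)
noncomputable def oparTab_s_3_5 (c : Nat) : Nat := @Bool.rec (fun _ => Nat) (oparTab_3) (oparTab_4) (Nat.ble 4 c)
noncomputable def oparTab_s_2_5 (c : Nat) : Nat := @Bool.rec (fun _ => Nat) (oparTab_2) (oparTab_s_3_5 c) (Nat.ble 3 c)
noncomputable def oparTab_s_0_5 (c : Nat) : Nat := @Bool.rec (fun _ => Nat) (oparTab_s_0_2 c) (oparTab_s_2_5 c) (Nat.ble 2 c)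
noncomputable def oparTab_s_6_8 (c : Nat) : Nat := @Bool.rec (fun _ => Nat) (oparTab_6) (oparTab_7) (Nat.ble 7 c)
noncomputable def oparTab_s_5_8 (c : Nat) : Nat := @Bool.rec (fun _ => Nat) (oparTab_5) (oparTab_s_6_8 c) (Nat.ble 6 c)
noncomputable def oparTab_s_9_11 (c : Nat) : Nat := @Bool.rec (fun _ => Nat) (oparTab_9) (oparTab_10) (Nat.ble 10 c)
noncomputable def oparTab_s_8_11 (c : Nat) : Nat := @Bool.rec (fun _ => Nat) (oparTab_8) (oparTab_s_9_11 c) (Nat.ble 9 c)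
noncomputable def oparTab_s_5_11 (c : Nat) : Nat := @Bool.rec (fun _ => Nat) (oparTab_s_5_8 c) (oparTab_s_8_11 c) (Nat.ble 8 c)
noncomputable def oparTab_s_0_11 (c : Nat) : Nat := @Bool.rec (fun _ => Nat) (oparTab_s_0_5 c) (oparTab_s_5_11 c) (Nat.ble 5 c)
noncomputable def oparTab_s_12_14 (c : Nat) : Nat := @Bool.rec (fun _ => Nat) (oparTab_12) (oparTab_13) (Nat.ble 13 c)
noncomputable def oparTab_s_11_14 (c : Nat) : Nat := @Bool.rec (fun _ => Nat) (oparTab_11) (oparTab_s_12_14 c) (Nat.ble 12 c)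
noncomputable def oparTab_s_15_17 (c : Nat) : Nat := @Bool.rec (fun _ => Nat) (oparTab_15) (oparTab_16) (Nat.ble 16 c)
noncomputable def oparTab_s_14_17 (c : Nat) : Nat := @Bool.rec (fun _ => Nat) (oparTab_14) (oparTab_s_15_17 c) (Nat.ble 15 c)
noncomputable def oparTab_s_11_17 (c : Nat) : Nat := @Bool.rec (fun _ => Nat) (oparTab_s_11_14 c) (oparTab_s_14_17 c) (Nat.ble 14 c)
noncomputable def oparTab_s_18_20 (c : Nat) : Nat := @Bool.rec (fun _ => Nat) (oparTab_18) (oparTab_19) (Nat.ble 19 c)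
noncomputable def oparTab_s_17_20 (c : Nat) : Nat := @Bool.rec (fun _ => Nat) (oparTab_17) (oparTab_s_18_20 c) (Nat.ble 18 c)
noncomputable def oparTab_s_21_23 (c : Nat) : Nat := @Bool.rec (fun _ => Nat) (oparTab_21) (oparTab_22) (Nat.ble 22 c)
noncomputable def oparTab_s_20_23 (c : Nat) : Nat := @Bool.rec (fun _ => Nat) (oparTab_20) (oparTab_s_21_23 c) (Nat.ble 21 c)
noncomputable def oparTab_s_17_23 (c : Nat) : Nat := @Bool.rec (fun _ => Nat) (oparTab_s_17_20 c) (oparTab_s_20_23 c) (Nat.ble 20 c)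
noncomputable def oparTab_s_11_23 (c : Nat) : Nat := @Bool.rec (fun _ => Nat) (oparTab_s_11_17 c) (oparTab_s_17_23 c) (Nat.ble 17 c)
noncomputable def oparTab_s_0_23 (c : Nat) : Nat := @Bool.rec (fun _ => Nat) (oparTab_s_0_11 c) (oparTab_s_11_23 c) (Nat.ble 11 c)
noncomputable def oparTab_s_24_26 (c : Nat) : Nat := @Bool.rec (fun _ => Nat) (oparTab_24) (oparTab_25) (Nat.ble 25 c)
noncomputable def oparTab_s_23_26 (c : Nat) : Nat := @Bool.rec (fun _ => Nat) (oparTab_23) (oparTab_s_24_26 c) (Nat.ble 24 c)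
noncomputable def oparTab_s_27_29 (c : Nat) : Nat := @Bool.rec (fun _ => Nat) (oparTab_27) (oparTab_28) (Nat.ble 28 c)
noncomputable def oparTab_s_26_29 (c : Nat) : Nat := @Bool.rec (fun _ => Nat) (oparTab_26) (oparTab_s_27_29 c) (Nat.ble 27 c)
noncomputable def oparTab_s_23_29 (c : Nat) : Nat := @Bool.rec (fun _ => Nat) (oparTab_s_23_26 c) (oparTab_s_26_29 c) (Nat.ble 26 c)
noncomputable def oparTab_s_30_32 (c : Nat) : Nat := @Bool.rec (fun _ => Nat) (oparTab_30) (oparTab_31) (Nat.ble 31 c)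
noncomputable def oparTab_s_29_32 (c : Nat) : Nat := @Bool.rec (fun _ => Nat) (oparTab_29) (oparTab_s_30_32 c) (Nat.ble 30 c)
noncomputable def oparTab_s_33_35 (c : Nat) : Nat := @Bool.rec (fun _ => Nat) (oparTab_33) (oparTab_34) (Nat.ble 34 c)
noncomputable def oparTab_s_32_35 (c : Nat) : Nat := @Bool.rec (fun _ => Nat) (oparTab_32) (oparTab_s_33_35 c) (Nat.ble 33 c)
noncomputable def oparTab_s_29_35 (c : Nat) : Nat := @Bool.rec (fun _ => Nat) (oparTab_s_29_32 c) (oparTab_s_32_35 c) (Nat.ble 32 c)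
noncomputable def oparTab_s_23_35 (c : Nat) : Nat := @Bool.rec (fun _ => Nat) (oparTab_s_23_29 c) (oparTab_s_29_35 c) (Nat.ble 29 c)
noncomputable def oparTab_s_36_38 (c : Nat) : Nat := @Bool.rec (fun _ => Nat) (oparTab_36) (oparTab_37) (Nat.ble 37 c)
noncomputable def oparTab_s_35_38 (c : Nat) : Nat := @Bool.rec (fun _ => Nat) (oparTab_35) (oparTab_s_36_38 c) (Nat.ble 36 c)
noncomputable def oparTab_s_39_41 (c : Nat) : Nat := @Bool.rec (fun _ => Nat) (oparTab_39) (oparTab_40) (Nat.ble 40 c)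
noncomputable def oparTab_s_38_41 (c : Nat) : Nat := @Bool.rec (fun _ => Nat) (oparTab_38) (oparTab_s_39_41 c) (Nat.ble 39 c)
noncomputable def oparTab_s_35_41 (c : Nat) : Nat := @Bool.rec (fun _ => Nat) (oparTab_s_35_38 c) (oparTab_s_38_41 c) (Nat.ble 38 c)
noncomputable def oparTab_s_42_44 (c : Nat) : Nat := @Bool.rec (fun _ => Nat) (oparTab_42) (oparTab_43) (Nat.ble 43 c)
noncomputable def oparTab_s_41_44 (c : Nat) : Nat := @Bool.rec (fun _ => Nat) (oparTab_41) (oparTab_s_42_44 c) (Nat.ble 42 c)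
noncomputable def oparTab_s_45_47 (c : Nat) : Nat := @Bool.rec (fun _ => Nat) (oparTab_45) (oparTab_46) (Nat.ble 46 c)
noncomputable def oparTab_s_44_47 (c : Nat) : Nat := @Bool.rec (fun _ => Nat) (oparTab_44) (oparTab_s_45_47 c) (Nat.ble 45 c)
noncomputable def oparTab_s_41_47 (c : Nat) : Nat := @Bool.rec (fun _ => Nat) (oparTab_s_41_44 c) (oparTab_s_44_47 c) (Nat.ble 44 c)
noncomputable def oparTab_s_35_47 (c : Nat) : Nat := @Bool.rec (fun _ => Nat) (oparTab_s_35_41 c) (oparTab_s_41_47 c) (Nat.ble 41 c)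
noncomputable def oparTab_s_23_47 (c : Nat) : Nat := @Bool.rec (fun _ => Nat) (oparTab_s_23_35 c) (oparTab_s_35_47 c) (Nat.ble 35 c)
noncomputable def oparTab_s_0_47 (c : Nat) : Nat := @Bool.rec (fun _ => Nat) (oparTab_s_0_23 c) (oparTab_s_23_47 c) (Nat.ble 23 c)
noncomputable def oparTab_s_47_49 (c : Nat) : Nat := @Bool.rec (fun _ => Nat) (oparTab_47) (oparTab_48) (Nat.ble 48 c)
noncomputable def oparTab_s_50_52 (c : Nat) : Nat := @Bool.rec (fun _ => Nat) (oparTab_50) (oparTab_51) (Nat.ble 51 c)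
noncomputable def oparTab_s_49_52 (c : Nat) : Nat := @Bool.rec (fun _ => Nat) (oparTab_49) (oparTab_s_50_52 c) (Nat.ble 50 c)
noncomputable def oparTab_s_47_52 (c : Nat) : Nat := @Bool.rec (fun _ => Nat) (oparTab_s_47_49 c) (oparTab_s_49_52 c) (Nat.ble 49 c)
noncomputable def oparTab_s_53_55 (c : Nat) : Nat := @Bool.rec (fun _ => Nat) (oparTab_53) (oparTab_54) (Nat.ble 54 c)
noncomputable def oparTab_s_52_55 (c : Nat) : Nat := @Bool.rec (fun _ => Nat) (oparTab_52) (oparTab_s_53_55 c) (Nat.ble 53 c)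
noncomputable def oparTab_s_56_58 (c : Nat) : Nat := @Bool.rec (fun _ => Nat) (oparTab_56) (oparTab_57) (Nat.ble 57 c)
noncomputable def oparTab_s_55_58 (c : Nat) : Nat := @Bool.rec (fun _ => Nat) (oparTab_55) (oparTab_s_56_58 c) (Nat.ble 56 c)
noncomputable def oparTab_s_52_58 (c : Nat) : Nat := @Bool.rec (fun _ => Nat) (oparTab_s_52_55 c) (oparTab_s_55_58 c) (Nat.ble 55 c)
noncomputable def oparTab_s_47_58 (c : Nat) : Nat := @Bool.rec (fun _ => Nat) (oparTab_s_47_52 c) (oparTab_s_52_58 c) (Nat.ble 52 c)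
noncomputable def oparTab_s_59_61 (c : Nat) : Nat := @Bool.rec (fun _ => Nat) (oparTab_59) (oparTab_60) (Nat.ble 60 c)
noncomputable def oparTab_s_58_61 (c : Nat) : Nat := @Bool.rec (fun _ => Nat) (oparTab_58) (oparTab_s_59_61 c) (Nat.ble 59 c)
noncomputable def oparTab_s_62_64 (c : Nat) : Nat := @Bool.rec (fun _ => Nat) (oparTab_62) (oparTab_63) (Nat.ble 63 c)
noncomputable def oparTab_s_61_64 (c : Nat) : Nat := @Bool.rec (fun _ => Nat) (oparTab_61) (oparTab_s_62_64 c) (Nat.ble 62 c)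
noncomputable def oparTab_s_58_64 (c : Nat) : Nat := @Bool.rec (fun _ => Nat) (oparTab_s_58_61 c) (oparTab_s_61_64 c) (Nat.ble 61 c)
noncomputable def oparTab_s_65_67 (c : Nat) : Nat := @Bool.rec (fun _ => Nat) (oparTab_65) (oparTab_66) (Nat.ble 66 c)
noncomputable def oparTab_s_64_67 (c : Nat) : Nat := @Bool.rec (fun _ => Nat) (oparTab_64) (oparTab_s_65_67 c) (Nat.ble 65 c)
noncomputable def oparTab_s_68_70 (c : Nat) : Nat := @Bool.rec (fun _ => Nat) (oparTab_68) (oparTab_69) (Nat.ble 69 c)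
noncomputable def oparTab_s_67_70 (c : Nat) : Nat := @Bool.rec (fun _ => Nat) (oparTab_67) (oparTab_s_68_70 c) (Nat.ble 68 c)
noncomputable def oparTab_s_64_70 (c : Nat) : Nat := @Bool.rec (fun _ => Nat) (oparTab_s_64_67 c) (oparTab_s_67_70 c) (Nat.ble 67 c)
noncomputable def oparTab_s_58_70 (c : Nat) : Nat := @Bool.rec (fun _ => Nat) (oparTab_s_58_64 c) (oparTab_s_64_70 c) (Nat.ble 64 c)
noncomputable def oparTab_s_47_70 (c : Nat) : Nat := @Bool.rec (fun _ => Nat) (oparTab_s_47_58 c) (oparTab_s_58_70 c) (Nat.ble 58 c)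
noncomputable def oparTab_s_71_73 (c : Nat) : Nat := @Bool.rec (fun _ => Nat) (oparTab_71) (oparTab_72) (Nat.ble 72 c)
noncomputable def oparTab_s_70_73 (c : Nat) : Nat := @Bool.rec (fun _ => Nat) (oparTab_70) (oparTab_s_71_73 c) (Nat.ble 71 c)
noncomputable def oparTab_s_74_76 (c : Nat) : Nat := @Bool.rec (fun _ => Nat) (oparTab_74) (oparTab_75) (Nat.ble 75 c)
noncomputable def oparTab_s_73_76 (c : Nat) : Nat := @Bool.rec (fun _ => Nat) (oparTab_73) (oparTab_s_74_76 c) (Nat.ble 74 c)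
noncomputable def oparTab_s_70_76 (c : Nat) : Nat := @Bool.rec (fun _ => Nat) (oparTab_s_70_73 c) (oparTab_s_73_76 c) (Nat.ble 73 c)
noncomputable def oparTab_s_77_79 (c : Nat) : Nat := @Bool.rec (fun _ => Nat) (oparTab_77) (oparTab_78) (Nat.ble 78 c)
noncomputable def oparTab_s_76_79 (c : Nat) : Nat := @Bool.rec (fun _ => Nat) (oparTab_76) (oparTab_s_77_79 c) (Nat.ble 77 c)
noncomputable def oparTab_s_80_82 (c : Nat) : Nat := @Bool.rec (fun _ => Nat) (oparTab_80) (oparTab_81) (Nat.ble 81 c)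
noncomputable def oparTab_s_79_82 (c : Nat) : Nat := @Bool.rec (fun _ => Nat) (oparTab_79) (oparTab_s_80_82 c) (Nat.ble 80 c)
noncomputable def oparTab_s_76_82 (c : Nat) : Nat := @Bool.rec (fun _ => Nat) (oparTab_s_76_79 c) (oparTab_s_79_82 c) (Nat.ble 79 c)
noncomputable def oparTab_s_70_82 (c : Nat) : Nat := @Bool.rec (fun _ => Nat) (oparTab_s_70_76 c) (oparTab_s_76_82 c) (Nat.ble 76 c)
noncomputable def oparTab_s_83_85 (c : Nat) : Nat := @Bool.rec (fun _ => Nat) (oparTab_83) (oparTab_84) (Nat.ble 84 c)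
noncomputable def oparTab_s_82_85 (c : Nat) : Nat := @Bool.rec (fun _ => Nat) (oparTab_82) (oparTab_s_83_85 c) (Nat.ble 83 c)
noncomputable def oparTab_s_86_88 (c : Nat) : Nat := @Bool.rec (fun _ => Nat) (oparTab_86) (oparTab_87) (Nat.ble 87 c)
noncomputable def oparTab_s_85_88 (c : Nat) : Nat := @Bool.rec (fun _ => Nat) (oparTab_85) (oparTab_s_86_88 c) (Nat.ble 86 c)
noncomputable def oparTab_s_82_88 (c : Nat) : Nat := @Bool.rec (fun _ => Nat) (oparTab_s_82_85 c) (oparTab_s_85_88 c) (Nat.ble 85 c)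
noncomputable def oparTab_s_89_91 (c : Nat) : Nat := @Bool.rec (fun _ => Nat) (oparTab_89) (oparTab_90) (Nat.ble 90 c)
noncomputable def oparTab_s_88_91 (c : Nat) : Nat := @Bool.rec (fun _ => Nat) (oparTab_88) (oparTab_s_89_91 c) (Nat.ble 89 c)
noncomputable def oparTab_s_92_94 (c : Nat) : Nat := @Bool.rec (fun _ => Nat) (oparTab_92) (oparTab_93) (Nat.ble 93 c)
noncomputable def oparTab_s_91_94 (c : Nat) : Nat := @Bool.rec (fun _ => Nat) (oparTab_91) (oparTab_s_92_94 c) (Nat.ble 92 c)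
noncomputable def oparTab_s_88_94 (c : Nat) : Nat := @Bool.rec (fun _ => Nat) (oparTab_s_88_91 c) (oparTab_s_91_94 c) (Nat.ble 91 c)
noncomputable def oparTab_s_82_94 (c : Nat) : Nat := @Bool.rec (fun _ => Nat) (oparTab_s_82_88 c) (oparTab_s_88_94 c) (Nat.ble 88 c)
noncomputable def oparTab_s_70_94 (c : Nat) : Nat := @Bool.rec (fun _ => Nat) (oparTab_s_70_82 c) (oparTab_s_82_94 c) (Nat.ble 82 c)
noncomputable def oparTab_s_47_94 (c : Nat) : Nat := @Bool.rec (fun _ => Nat) (oparTab_s_47_70 c) (oparTab_s_70_94 c) (Nat.ble 70 c)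
noncomputable def oparTab_s_0_94 (c : Nat) : Nat := @Bool.rec (fun _ => Nat) (oparTab_s_0_47 c) (oparTab_s_47_94 c) (Nat.ble 47 c)
noncomputable def oparTab_s_94_96 (c : Nat) : Nat := @Bool.rec (fun _ => Nat) (oparTab_94) (oparTab_95) (Nat.ble 95 c)
noncomputable def oparTab_s_97_99 (c : Nat) : Nat := @Bool.rec (fun _ => Nat) (oparTab_97) (oparTab_98) (Nat.ble 98 c)
noncomputable def oparTab_s_96_99 (c : Nat) : Nat := @Bool.rec (fun _ => Nat) (oparTab_96) (oparTab_s_97_99 c) (Nat.ble 97 c)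
noncomputable def oparTab_s_94_99 (c : Nat) : Nat := @Bool.rec (fun _ => Nat) (oparTab_s_94_96 c) (oparTab_s_96_99 c) (Nat.ble 96 c)
noncomputable def oparTab_s_100_102 (c : Nat) : Nat := @Bool.rec (fun _ => Nat) (oparTab_100) (oparTab_101) (Nat.ble 101 c)
noncomputable def oparTab_s_99_102 (c : Nat) : Nat := @Bool.rec (fun _ => Nat) (oparTab_99) (oparTab_s_100_102 c) (Nat.ble 100 c)
noncomputable def oparTab_s_103_105 (c : Nat) : Nat := @Bool.rec (fun _ => Nat) (oparTab_103) (oparTab_104) (Nat.ble 104 c)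
noncomputable def oparTab_s_102_105 (c : Nat) : Nat := @Bool.rec (fun _ => Nat) (oparTab_102) (oparTab_s_103_105 c) (Nat.ble 103 c)
noncomputable def oparTab_s_99_105 (c : Nat) : Nat := @Bool.rec (fun _ => Nat) (oparTab_s_99_102 c) (oparTab_s_102_105 c) (Nat.ble 102 c)
noncomputable def oparTab_s_94_105 (c : Nat) : Nat := @Bool.rec (fun _ => Nat) (oparTab_s_94_99 c) (oparTab_s_99_105 c) (Nat.ble 99 c)
noncomputable def oparTab_s_106_108 (c : Nat) : Nat := @Bool.rec (fun _ => Nat) (oparTab_106) (oparTab_107) (Nat.ble 107 c)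
noncomputable def oparTab_s_105_108 (c : Nat) : Nat := @Bool.rec (fun _ => Nat) (oparTab_105) (oparTab_s_106_108 c) (Nat.ble 106 c)
noncomputable def oparTab_s_109_111 (c : Nat) : Nat := @Bool.rec (fun _ => Nat) (oparTab_109) (oparTab_110) (Nat.ble 110 c)
noncomputable def oparTab_s_108_111 (c : Nat) : Nat := @Bool.rec (fun _ => Nat) (oparTab_108) (oparTab_s_109_111 c) (Nat.ble 109 c)
noncomputable def oparTab_s_105_111 (c : Nat) : Nat := @Bool.rec (fun _ => Nat) (oparTab_s_105_108 c) (oparTab_s_108_111 c) (Nat.ble 108 c)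
noncomputable def oparTab_s_112_114 (c : Nat) : Nat := @Bool.rec (fun _ => Nat) (oparTab_112) (oparTab_113) (Nat.ble 113 c)
noncomputable def oparTab_s_111_114 (c : Nat) : Nat := @Bool.rec (fun _ => Nat) (oparTab_111) (oparTab_s_112_114 c) (Nat.ble 112 c)
noncomputable def oparTab_s_115_117 (c : Nat) : Nat := @Bool.rec (fun _ => Nat) (oparTab_115) (oparTab_116) (Nat.ble 116 c)
noncomputable def oparTab_s_114_117 (c : Nat) : Nat := @Bool.rec (fun _ => Nat) (oparTab_114) (oparTab_s_115_117 c) (Nat.ble 115 c)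
noncomputable def oparTab_s_111_117 (c : Nat) : Nat := @Bool.rec (fun _ => Nat) (oparTab_s_111_114 c) (oparTab_s_114_117 c) (Nat.ble 114 c)
noncomputable def oparTab_s_105_117 (c : Nat) : Nat := @Bool.rec (fun _ => Nat) (oparTab_s_105_111 c) (oparTab_s_111_117 c) (Nat.ble 111 c)
noncomputable def oparTab_s_94_117 (c : Nat) : Nat := @Bool.rec (fun _ => Nat) (oparTab_s_94_105 c) (oparTab_s_105_117 c) (Nat.ble 105 c)
noncomputable def oparTab_s_118_120 (c : Nat) : Nat := @Bool.rec (fun _ => Nat) (oparTab_118) (oparTab_119) (Nat.ble 119 c)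
noncomputable def oparTab_s_117_120 (c : Nat) : Nat := @Bool.rec (fun _ => Nat) (oparTab_117) (oparTab_s_118_120 c) (Nat.ble 118 c)
noncomputable def oparTab_s_121_123 (c : Nat) : Nat := @Bool.rec (fun _ => Nat) (oparTab_121) (oparTab_122) (Nat.ble 122 c)
noncomputable def oparTab_s_120_123 (c : Nat) : Nat := @Bool.rec (fun _ => Nat) (oparTab_120) (oparTab_s_121_123 c) (Nat.ble 121 c)
noncomputable def oparTab_s_117_123 (c : Nat) : Nat := @Bool.rec (fun _ => Nat) (oparTab_s_117_120 c) (oparTab_s_120_123 c) (Nat.ble 120 c)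
noncomputable def oparTab_s_124_126 (c : Nat) : Nat := @Bool.rec (fun _ => Nat) (oparTab_124) (oparTab_125) (Nat.ble 125 c)
noncomputable def oparTab_s_123_126 (c : Nat) : Nat := @Bool.rec (fun _ => Nat) (oparTab_123) (oparTab_s_124_126 c) (Nat.ble 124 c)
noncomputable def oparTab_s_127_129 (c : Nat) : Nat := @Bool.rec (fun _ => Nat) (oparTab_127) (oparTab_128) (Nat.ble 128 c)
noncomputable def oparTab_s_126_129 (c : Nat) : Nat := @Bool.rec (fun _ => Nat) (oparTab_126) (oparTab_s_127_129 c) (Nat.ble 127 c)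
noncomputable def oparTab_s_123_129 (c : Nat) : Nat := @Bool.rec (fun _ => Nat) (oparTab_s_123_126 c) (oparTab_s_126_129 c) (Nat.ble 126 c)
noncomputable def oparTab_s_117_129 (c : Nat) : Nat := @Bool.rec (fun _ => Nat) (oparTab_s_117_123 c) (oparTab_s_123_129 c) (Nat.ble 123 c)
noncomputable def oparTab_s_130_132 (c : Nat) : Nat := @Bool.rec (fun _ => Nat) (oparTab_130) (oparTab_131) (Nat.ble 131 c)
noncomputable def oparTab_s_129_132 (c : Nat) : Nat := @Bool.rec (fun _ => Nat) (oparTab_129) (oparTab_s_130_132 c) (Nat.ble 130 c)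
noncomputable def oparTab_s_133_135 (c : Nat) : Nat := @Bool.rec (fun _ => Nat) (oparTab_133) (oparTab_134) (Nat.ble 134 c)
noncomputable def oparTab_s_132_135 (c : Nat) : Nat := @Bool.rec (fun _ => Nat) (oparTab_132) (oparTab_s_133_135 c) (Nat.ble 133 c)
noncomputable def oparTab_s_129_135 (c : Nat) : Nat := @Bool.rec (fun _ => Nat) (oparTab_s_129_132 c) (oparTab_s_132_135 c) (Nat.ble 132 c)
noncomputable def oparTab_s_136_138 (c : Nat) : Nat := @Bool.rec (fun _ => Nat) (oparTab_136) (oparTab_137) (Nat.ble 137 c)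
noncomputable def oparTab_s_135_138 (c : Nat) : Nat := @Bool.rec (fun _ => Nat) (oparTab_135) (oparTab_s_136_138 c) (Nat.ble 136 c)
noncomputable def oparTab_s_139_141 (c : Nat) : Nat := @Bool.rec (fun _ => Nat) (oparTab_139) (oparTab_140) (Nat.ble 140 c)
noncomputable def oparTab_s_138_141 (c : Nat) : Nat := @Bool.rec (fun _ => Nat) (oparTab_138) (oparTab_s_139_141 c) (Nat.ble 139 c)
noncomputable def oparTab_s_135_141 (c : Nat) : Nat := @Bool.rec (fun _ => Nat) (oparTab_s_135_138 c) (oparTab_s_138_141 c) (Nat.ble 138 c)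
noncomputable def oparTab_s_129_141 (c : Nat) : Nat := @Bool.rec (fun _ => Nat) (oparTab_s_129_135 c) (oparTab_s_135_141 c) (Nat.ble 135 c)
noncomputable def oparTab_s_117_141 (c : Nat) : Nat := @Bool.rec (fun _ => Nat) (oparTab_s_117_129 c) (oparTab_s_129_141 c) (Nat.ble 129 c)
noncomputable def oparTab_s_94_141 (c : Nat) : Nat := @Bool.rec (fun _ => Nat) (oparTab_s_94_117 c) (oparTab_s_117_141 c) (Nat.ble 117 c)
noncomputable def oparTab_s_141_143 (c : Nat) : Nat := @Bool.rec (fun _ => Nat) (oparTab_141) (oparTab_142) (Nat.ble 142 c)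
noncomputable def oparTab_s_144_146 (c : Nat) : Nat := @Bool.rec (fun _ => Nat) (oparTab_144) (oparTab_145) (Nat.ble 145 c)
noncomputable def oparTab_s_143_146 (c : Nat) : Nat := @Bool.rec (fun _ => Nat) (oparTab_143) (oparTab_s_144_146 c) (Nat.ble 144 c)
noncomputable def oparTab_s_141_146 (c : Nat) : Nat := @Bool.rec (fun _ => Nat) (oparTab_s_141_143 c) (oparTab_s_143_146 c) (Nat.ble 143 c)
noncomputable def oparTab_s_147_149 (c : Nat) : Nat := @Bool.rec (fun _ => Nat) (oparTab_147) (oparTab_148) (Nat.ble 148 c)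
noncomputable def oparTab_s_146_149 (c : Nat) : Nat := @Bool.rec (fun _ => Nat) (oparTab_146) (oparTab_s_147_149 c) (Nat.ble 147 c)
noncomputable def oparTab_s_150_152 (c : Nat) : Nat := @Bool.rec (fun _ => Nat) (oparTab_150) (oparTab_151) (Nat.ble 151 c)
noncomputable def oparTab_s_149_152 (c : Nat) : Nat := @Bool.rec (fun _ => Nat) (oparTab_149) (oparTab_s_150_152 c) (Nat.ble 150 c)
noncomputable def oparTab_s_146_152 (c : Nat) : Nat := @Bool.rec (fun _ => Nat) (oparTab_s_146_149 c) (oparTab_s_149_152 c) (Nat.ble 149 c)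
noncomputable def oparTab_s_141_152 (c : Nat) : Nat := @Bool.rec (fun _ => Nat) (oparTab_s_141_146 c) (oparTab_s_146_152 c) (Nat.ble 146 c)
noncomputable def oparTab_s_153_155 (c : Nat) : Nat := @Bool.rec (fun _ => Nat) (oparTab_153) (oparTab_154) (Nat.ble 154 c)
noncomputable def oparTab_s_152_155 (c : Nat) : Nat := @Bool.rec (fun _ => Nat) (oparTab_152) (oparTab_s_153_155 c) (Nat.ble 153 c)
noncomputable def oparTab_s_156_158 (c : Nat) : Nat := @Bool.rec (fun _ => Nat) (oparTab_156) (oparTab_157) (Nat.ble 157 c)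
noncomputable def oparTab_s_155_158 (c : Nat) : Nat := @Bool.rec (fun _ => Nat) (oparTab_155) (oparTab_s_156_158 c) (Nat.ble 156 c)
noncomputable def oparTab_s_152_158 (c : Nat) : Nat := @Bool.rec (fun _ => Nat) (oparTab_s_152_155 c) (oparTab_s_155_158 c) (Nat.ble 155 c)
noncomputable def oparTab_s_159_161 (c : Nat) : Nat := @Bool.rec (fun _ => Nat) (oparTab_159) (oparTab_160) (Nat.ble 160 c)
noncomputable def oparTab_s_158_161 (c : Nat) : Nat := @Bool.rec (fun _ => Nat) (oparTab_158) (oparTab_s_159_161 c) (Nat.ble 159 c)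
noncomputable def oparTab_s_162_164 (c : Nat) : Nat := @Bool.rec (fun _ => Nat) (oparTab_162) (oparTab_163) (Nat.ble 163 c)
noncomputable def oparTab_s_161_164 (c : Nat) : Nat := @Bool.rec (fun _ => Nat) (oparTab_161) (oparTab_s_162_164 c) (Nat.ble 162 c)
noncomputable def oparTab_s_158_164 (c : Nat) : Nat := @Bool.rec (fun _ => Nat) (oparTab_s_158_161 c) (oparTab_s_161_164 c) (Nat.ble 161 c)
noncomputable def oparTab_s_152_164 (c : Nat) : Nat := @Bool.rec (fun _ => Nat) (oparTab_s_152_158 c) (oparTab_s_158_164 c) (Nat.ble 158 c)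
noncomputable def oparTab_s_141_164 (c : Nat) : Nat := @Bool.rec (fun _ => Nat) (oparTab_s_141_152 c) (oparTab_s_152_164 c) (Nat.ble 152 c)
noncomputable def oparTab_s_165_167 (c : Nat) : Nat := @Bool.rec (fun _ => Nat) (oparTab_165) (oparTab_166) (Nat.ble 166 c)
noncomputable def oparTab_s_164_167 (c : Nat) : Nat := @Bool.rec (fun _ => Nat) (oparTab_164) (oparTab_s_165_167 c) (Nat.ble 165 c)
noncomputable def oparTab_s_168_170 (c : Nat) : Nat := @Bool.rec (fun _ => Nat) (oparTab_168) (oparTab_169) (Nat.ble 169 c)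
noncomputable def oparTab_s_167_170 (c : Nat) : Nat := @Bool.rec (fun _ => Nat) (oparTab_167) (oparTab_s_168_170 c) (Nat.ble 168 c)
noncomputable def oparTab_s_164_170 (c : Nat) : Nat := @Bool.rec (fun _ => Nat) (oparTab_s_164_167 c) (oparTab_s_167_170 c) (Nat.ble 167 c)
noncomputable def oparTab_s_171_173 (c : Nat) : Nat := @Bool.rec (fun _ => Nat) (oparTab_171) (oparTab_172) (Nat.ble 172 c)
noncomputable def oparTab_s_170_173 (c : Nat) : Nat := @Bool.rec (fun _ => Nat) (oparTab_170) (oparTab_s_171_173 c) (Nat.ble 171 c)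
noncomputable def oparTab_s_174_176 (c : Nat) : Nat := @Bool.rec (fun _ => Nat) (oparTab_174) (oparTab_175) (Nat.ble 175 c)
noncomputable def oparTab_s_173_176 (c : Nat) : Nat := @Bool.rec (fun _ => Nat) (oparTab_173) (oparTab_s_174_176 c) (Nat.ble 174 c)
noncomputable def oparTab_s_170_176 (c : Nat) : Nat := @Bool.rec (fun _ => Nat) (oparTab_s_170_173 c) (oparTab_s_173_176 c) (Nat.ble 173 c)
noncomputable def oparTab_s_164_176 (c : Nat) : Nat := @Bool.rec (fun _ => Nat) (oparTab_s_164_170 c) (oparTab_s_170_176 c) (Nat.ble 170 c)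
noncomputable def oparTab_s_177_179 (c : Nat) : Nat := @Bool.rec (fun _ => Nat) (oparTab_177) (oparTab_178) (Nat.ble 178 c)
noncomputable def oparTab_s_176_179 (c : Nat) : Nat := @Bool.rec (fun _ => Nat) (oparTab_176) (oparTab_s_177_179 c) (Nat.ble 177 c)
noncomputable def oparTab_s_180_182 (c : Nat) : Nat := @Bool.rec (fun _ => Nat) (oparTab_180) (oparTab_181) (Nat.ble 181 c)
noncomputable def oparTab_s_179_182 (c : Nat) : Nat := @Bool.rec (fun _ => Nat) (oparTab_179) (oparTab_s_180_182 c) (Nat.ble 180 c)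
noncomputable def oparTab_s_176_182 (c : Nat) : Nat := @Bool.rec (fun _ => Nat) (oparTab_s_176_179 c) (oparTab_s_179_182 c) (Nat.ble 179 c)
noncomputable def oparTab_s_183_185 (c : Nat) : Nat := @Bool.rec (fun _ => Nat) (oparTab_183) (oparTab_184) (Nat.ble 184 c)
noncomputable def oparTab_s_182_185 (c : Nat) : Nat := @Bool.rec (fun _ => Nat) (oparTab_182) (oparTab_s_183_185 c) (Nat.ble 183 c)
noncomputable def oparTab_s_186_188 (c : Nat) : Nat := @Bool.rec (fun _ => Nat) (oparTab_186) (oparTab_187) (Nat.ble 187 c)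
noncomputable def oparTab_s_185_188 (c : Nat) : Nat := @Bool.rec (fun _ => Nat) (oparTab_185) (oparTab_s_186_188 c) (Nat.ble 186 c)
noncomputable def oparTab_s_182_188 (c : Nat) : Nat := @Bool.rec (fun _ => Nat) (oparTab_s_182_185 c) (oparTab_s_185_188 c) (Nat.ble 185 c)
noncomputable def oparTab_s_176_188 (c : Nat) : Nat := @Bool.rec (fun _ => Nat) (oparTab_s_176_182 c) (oparTab_s_182_188 c) (Nat.ble 182 c)
noncomputable def oparTab_s_164_188 (c : Nat) : Nat := @Bool.rec (fun _ => Nat) (oparTab_s_164_176 c) (oparTab_s_176_188 c) (Nat.ble 176 c)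
noncomputable def oparTab_s_141_188 (c : Nat) : Nat := @Bool.rec (fun _ => Nat) (oparTab_s_141_164 c) (oparTab_s_164_188 c) (Nat.ble 164 c)
noncomputable def oparTab_s_94_188 (c : Nat) : Nat := @Bool.rec (fun _ => Nat) (oparTab_s_94_141 c) (oparTab_s_141_188 c) (Nat.ble 141 c)
noncomputable def oparTab_s_0_188 (c : Nat) : Nat := @Bool.rec (fun _ => Nat) (oparTab_s_0_94 c) (oparTab_s_94_188 c) (Nat.ble 94 c)
noncomputable def oparTab_s_188_190 (c : Nat) : Nat := @Bool.rec (fun _ => Nat) (oparTab_188) (oparTab_189) (Nat.ble 189 c)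
noncomputable def oparTab_s_191_193 (c : Nat) : Nat := @Bool.rec (fun _ => Nat) (oparTab_191) (oparTab_192) (Nat.ble 192 c)
noncomputable def oparTab_s_190_193 (c : Nat) : Nat := @Bool.rec (fun _ => Nat) (oparTab_190) (oparTab_s_191_193 c) (Nat.ble 191 c)
noncomputable def oparTab_s_188_193 (c : Nat) : Nat := @Bool.rec (fun _ => Nat) (oparTab_s_188_190 c) (oparTab_s_190_193 c) (Nat.ble 190 c)
noncomputable def oparTab_s_194_196 (c : Nat) : Nat := @Bool.rec (fun _ => Nat) (oparTab_194) (oparTab_195) (Nat.ble 195 c)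
noncomputable def oparTab_s_193_196 (c : Nat) : Nat := @Bool.rec (fun _ => Nat) (oparTab_193) (oparTab_s_194_196 c) (Nat.ble 194 c)
noncomputable def oparTab_s_197_199 (c : Nat) : Nat := @Bool.rec (fun _ => Nat) (oparTab_197) (oparTab_198) (Nat.ble 198 c)
noncomputable def oparTab_s_196_199 (c : Nat) : Nat := @Bool.rec (fun _ => Nat) (oparTab_196) (oparTab_s_197_199 c) (Nat.ble 197 c)
noncomputable def oparTab_s_193_199 (c : Nat) : Nat := @Bool.rec (fun _ => Nat) (oparTab_s_193_196 c) (oparTab_s_196_199 c) (Nat.ble 196 c)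
noncomputable def oparTab_s_188_199 (c : Nat) : Nat := @Bool.rec (fun _ => Nat) (oparTab_s_188_193 c) (oparTab_s_193_199 c) (Nat.ble 193 c)
noncomputable def oparTab_s_200_202 (c : Nat) : Nat := @Bool.rec (fun _ => Nat) (oparTab_200) (oparTab_201) (Nat.ble 201 c)
noncomputable def oparTab_s_199_202 (c : Nat) : Nat := @Bool.rec (fun _ => Nat) (oparTab_199) (oparTab_s_200_202 c) (Nat.ble 200 c)
noncomputable def oparTab_s_203_205 (c : Nat) : Nat := @Bool.rec (fun _ => Nat) (oparTab_203) (oparTab_204) (Nat.ble 204 c)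
noncomputable def oparTab_s_202_205 (c : Nat) : Nat := @Bool.rec (fun _ => Nat) (oparTab_202) (oparTab_s_203_205 c) (Nat.ble 203 c)
noncomputable def oparTab_s_199_205 (c : Nat) : Nat := @Bool.rec (fun _ => Nat) (oparTab_s_199_202 c) (oparTab_s_202_205 c) (Nat.ble 202 c)
noncomputable def oparTab_s_206_208 (c : Nat) : Nat := @Bool.rec (fun _ => Nat) (oparTab_206) (oparTab_207) (Nat.ble 207 c)
noncomputable def oparTab_s_205_208 (c : Nat) : Nat := @Bool.rec (fun _ => Nat) (oparTab_205) (oparTab_s_206_208 c) (Nat.ble 206 c)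
noncomputable def oparTab_s_209_211 (c : Nat) : Nat := @Bool.rec (fun _ => Nat) (oparTab_209) (oparTab_210) (Nat.ble 210 c)
noncomputable def oparTab_s_208_211 (c : Nat) : Nat := @Bool.rec (fun _ => Nat) (oparTab_208) (oparTab_s_209_211 c) (Nat.ble 209 c)
noncomputable def oparTab_s_205_211 (c : Nat) : Nat := @Bool.rec (fun _ => Nat) (oparTab_s_205_208 c) (oparTab_s_208_211 c) (Nat.ble 208 c)
noncomputable def oparTab_s_199_211 (c : Nat) : Nat := @Bool.rec (fun _ => Nat) (oparTab_s_199_205 c) (oparTab_s_205_211 c) (Nat.ble 205 c)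
noncomputable def oparTab_s_188_211 (c : Nat) : Nat := @Bool.rec (fun _ => Nat) (oparTab_s_188_199 c) (oparTab_s_199_211 c) (Nat.ble 199 c)
noncomputable def oparTab_s_212_214 (c : Nat) : Nat := @Bool.rec (fun _ => Nat) (oparTab_212) (oparTab_213) (Nat.ble 213 c)
noncomputable def oparTab_s_211_214 (c : Nat) : Nat := @Bool.rec (fun _ => Nat) (oparTab_211) (oparTab_s_212_214 c) (Nat.ble 212 c)
noncomputable def oparTab_s_215_217 (c : Nat) : Nat := @Bool.rec (fun _ => Nat) (oparTab_215) (oparTab_216) (Nat.ble 216 c)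
noncomputable def oparTab_s_214_217 (c : Nat) : Nat := @Bool.rec (fun _ => Nat) (oparTab_214) (oparTab_s_215_217 c) (Nat.ble 215 c)
noncomputable def oparTab_s_211_217 (c : Nat) : Nat := @Bool.rec (fun _ => Nat) (oparTab_s_211_214 c) (oparTab_s_214_217 c) (Nat.ble 214 c)
noncomputable def oparTab_s_218_220 (c : Nat) : Nat := @Bool.rec (fun _ => Nat) (oparTab_218) (oparTab_219) (Nat.ble 219 c)
noncomputable def oparTab_s_217_220 (c : Nat) : Nat := @Bool.rec (fun _ => Nat) (oparTab_217) (oparTab_s_218_220 c) (Nat.ble 218 c)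
noncomputable def oparTab_s_221_223 (c : Nat) : Nat := @Bool.rec (fun _ => Nat) (oparTab_221) (oparTab_222) (Nat.ble 222 c)
noncomputable def oparTab_s_220_223 (c : Nat) : Nat := @Bool.rec (fun _ => Nat) (oparTab_220) (oparTab_s_221_223 c) (Nat.ble 221 c)
noncomputable def oparTab_s_217_223 (c : Nat) : Nat := @Bool.rec (fun _ => Nat) (oparTab_s_217_220 c) (oparTab_s_220_223 c) (Nat.ble 220 c)
noncomputable def oparTab_s_211_223 (c : Nat) : Nat := @Bool.rec (fun _ => Nat) (oparTab_s_211_217 c) (oparTab_s_217_223 c) (Nat.ble 217 c)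
noncomputable def oparTab_s_224_226 (c : Nat) : Nat := @Bool.rec (fun _ => Nat) (oparTab_224) (oparTab_225) (Nat.ble 225 c)
noncomputable def oparTab_s_223_226 (c : Nat) : Nat := @Bool.rec (fun _ => Nat) (oparTab_223) (oparTab_s_224_226 c) (Nat.ble 224 c)
noncomputable def oparTab_s_227_229 (c : Nat) : Nat := @Bool.rec (fun _ => Nat) (oparTab_227) (oparTab_228) (Nat.ble 228 c)
noncomputable def oparTab_s_226_229 (c : Nat) : Nat := @Bool.rec (fun _ => Nat) (oparTab_226) (oparTab_s_227_229 c) (Nat.ble 227 c)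
noncomputable def oparTab_s_223_229 (c : Nat) : Nat := @Bool.rec (fun _ => Nat) (oparTab_s_223_226 c) (oparTab_s_226_229 c) (Nat.ble 226 c)
noncomputable def oparTab_s_230_232 (c : Nat) : Nat := @Bool.rec (fun _ => Nat) (oparTab_230) (oparTab_231) (Nat.ble 231 c)
noncomputable def oparTab_s_229_232 (c : Nat) : Nat := @Bool.rec (fun _ => Nat) (oparTab_229) (oparTab_s_230_232 c) (Nat.ble 230 c)
noncomputable def oparTab_s_233_235 (c : Nat) : Nat := @Bool.rec (fun _ => Nat) (oparTab_233) (oparTab_234) (Nat.ble 234 c)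
noncomputable def oparTab_s_232_235 (c : Nat) : Nat := @Bool.rec (fun _ => Nat) (oparTab_232) (oparTab_s_233_235 c) (Nat.ble 233 c)
noncomputable def oparTab_s_229_235 (c : Nat) : Nat := @Bool.rec (fun _ => Nat) (oparTab_s_229_232 c) (oparTab_s_232_235 c) (Nat.ble 232 c)
noncomputable def oparTab_s_223_235 (c : Nat) : Nat := @Bool.rec (fun _ => Nat) (oparTab_s_223_229 c) (oparTab_s_229_235 c) (Nat.ble 229 c)
noncomputable def oparTab_s_211_235 (c : Nat) : Nat := @Bool.rec (fun _ => Nat) (oparTab_s_211_223 c) (oparTab_s_223_235 c) (Nat.ble 223 c)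
noncomputable def oparTab_s_188_235 (c : Nat) : Nat := @Bool.rec (fun _ => Nat) (oparTab_s_188_211 c) (oparTab_s_211_235 c) (Nat.ble 211 c)
noncomputable def oparTab_s_235_237 (c : Nat) : Nat := @Bool.rec (fun _ => Nat) (oparTab_235) (oparTab_236) (Nat.ble 236 c)
noncomputable def oparTab_s_238_240 (c : Nat) : Nat := @Bool.rec (fun _ => Nat) (oparTab_238) (oparTab_239) (Nat.ble 239 c)
noncomputable def oparTab_s_237_240 (c : Nat) : Nat := @Bool.rec (fun _ => Nat) (oparTab_237) (oparTab_s_238_240 c) (Nat.ble 238 c)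
noncomputable def oparTab_s_235_240 (c : Nat) : Nat := @Bool.rec (fun _ => Nat) (oparTab_s_235_237 c) (oparTab_s_237_240 c) (Nat.ble 237 c)
noncomputable def oparTab_s_241_243 (c : Nat) : Nat := @Bool.rec (fun _ => Nat) (oparTab_241) (oparTab_242) (Nat.ble 242 c)
noncomputable def oparTab_s_240_243 (c : Nat) : Nat := @Bool.rec (fun _ => Nat) (oparTab_240) (oparTab_s_241_243 c) (Nat.ble 241 c)
noncomputable def oparTab_s_244_246 (c : Nat) : Nat := @Bool.rec (fun _ => Nat) (oparTab_244) (oparTab_245) (Nat.ble 245 c)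
noncomputable def oparTab_s_243_246 (c : Nat) : Nat := @Bool.rec (fun _ => Nat) (oparTab_243) (oparTab_s_244_246 c) (Nat.ble 244 c)
noncomputable def oparTab_s_240_246 (c : Nat) : Nat := @Bool.rec (fun _ => Nat) (oparTab_s_240_243 c) (oparTab_s_243_246 c) (Nat.ble 243 c)
noncomputable def oparTab_s_235_246 (c : Nat) : Nat := @Bool.rec (fun _ => Nat) (oparTab_s_235_240 c) (oparTab_s_240_246 c) (Nat.ble 240 c)
noncomputable def oparTab_s_247_249 (c : Nat) : Nat := @Bool.rec (fun _ => Nat) (oparTab_247) (oparTab_248) (Nat.ble 248 c)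
noncomputable def oparTab_s_246_249 (c : Nat) : Nat := @Bool.rec (fun _ => Nat) (oparTab_246) (oparTab_s_247_249 c) (Nat.ble 247 c)
noncomputable def oparTab_s_250_252 (c : Nat) : Nat := @Bool.rec (fun _ => Nat) (oparTab_250) (oparTab_251) (Nat.ble 251 c)
noncomputable def oparTab_s_249_252 (c : Nat) : Nat := @Bool.rec (fun _ => Nat) (oparTab_249) (oparTab_s_250_252 c) (Nat.ble 250 c)
noncomputable def oparTab_s_246_252 (c : Nat) : Nat := @Bool.rec (fun _ => Nat) (oparTab_s_246_249 c) (oparTab_s_249_252 c) (Nat.ble 249 c)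
noncomputable def oparTab_s_253_255 (c : Nat) : Nat := @Bool.rec (fun _ => Nat) (oparTab_253) (oparTab_254) (Nat.ble 254 c)
noncomputable def oparTab_s_252_255 (c : Nat) : Nat := @Bool.rec (fun _ => Nat) (oparTab_252) (oparTab_s_253_255 c) (Nat.ble 253 c)
noncomputable def oparTab_s_256_258 (c : Nat) : Nat := @Bool.rec (fun _ => Nat) (oparTab_256) (oparTab_257) (Nat.ble 257 c)
noncomputable def oparTab_s_255_258 (c : Nat) : Nat := @Bool.rec (fun _ => Nat) (oparTab_255) (oparTab_s_256_258 c) (Nat.ble 256 c)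
noncomputable def oparTab_s_252_258 (c : Nat) : Nat := @Bool.rec (fun _ => Nat) (oparTab_s_252_255 c) (oparTab_s_255_258 c) (Nat.ble 255 c)
noncomputable def oparTab_s_246_258 (c : Nat) : Nat := @Bool.rec (fun _ => Nat) (oparTab_s_246_252 c) (oparTab_s_252_258 c) (Nat.ble 252 c)
noncomputable def oparTab_s_235_258 (c : Nat) : Nat := @Bool.rec (fun _ => Nat) (oparTab_s_235_246 c) (oparTab_s_246_258 c) (Nat.ble 246 c)
noncomputable def oparTab_s_259_261 (c : Nat) : Nat := @Bool.rec (fun _ => Nat) (oparTab_259) (oparTab_260) (Nat.ble 260 c)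
noncomputable def oparTab_s_258_261 (c : Nat) : Nat := @Bool.rec (fun _ => Nat) (oparTab_258) (oparTab_s_259_261 c) (Nat.ble 259 c)
noncomputable def oparTab_s_262_264 (c : Nat) : Nat := @Bool.rec (fun _ => Nat) (oparTab_262) (oparTab_263) (Nat.ble 263 c)
noncomputable def oparTab_s_261_264 (c : Nat) : Nat := @Bool.rec (fun _ => Nat) (oparTab_261) (oparTab_s_262_264 c) (Nat.ble 262 c)
noncomputable def oparTab_s_258_264 (c : Nat) : Nat := @Bool.rec (fun _ => Nat) (oparTab_s_258_261 c) (oparTab_s_261_264 c) (Nat.ble 261 c)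
noncomputable def oparTab_s_265_267 (c : Nat) : Nat := @Bool.rec (fun _ => Nat) (oparTab_265) (oparTab_266) (Nat.ble 266 c)
noncomputable def oparTab_s_264_267 (c : Nat) : Nat := @Bool.rec (fun _ => Nat) (oparTab_264) (oparTab_s_265_267 c) (Nat.ble 265 c)
noncomputable def oparTab_s_268_270 (c : Nat) : Nat := @Bool.rec (fun _ => Nat) (oparTab_268) (oparTab_269) (Nat.ble 269 c)
noncomputable def oparTab_s_267_270 (c : Nat) : Nat := @Bool.rec (fun _ => Nat) (oparTab_267) (oparTab_s_268_270 c) (Nat.ble 268 c)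
noncomputable def oparTab_s_264_270 (c : Nat) : Nat := @Bool.rec (fun _ => Nat) (oparTab_s_264_267 c) (oparTab_s_267_270 c) (Nat.ble 267 c)
noncomputable def oparTab_s_258_270 (c : Nat) : Nat := @Bool.rec (fun _ => Nat) (oparTab_s_258_264 c) (oparTab_s_264_270 c) (Nat.ble 264 c)
noncomputable def oparTab_s_271_273 (c : Nat) : Nat := @Bool.rec (fun _ => Nat) (oparTab_271) (oparTab_272) (Nat.ble 272 c)
noncomputable def oparTab_s_270_273 (c : Nat) : Nat := @Bool.rec (fun _ => Nat) (oparTab_270) (oparTab_s_271_273 c) (Nat.ble 271 c)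
noncomputable def oparTab_s_274_276 (c : Nat) : Nat := @Bool.rec (fun _ => Nat) (oparTab_274) (oparTab_275) (Nat.ble 275 c)
noncomputable def oparTab_s_273_276 (c : Nat) : Nat := @Bool.rec (fun _ => Nat) (oparTab_273) (oparTab_s_274_276 c) (Nat.ble 274 c)
noncomputable def oparTab_s_270_276 (c : Nat) : Nat := @Bool.rec (fun _ => Nat) (oparTab_s_270_273 c) (oparTab_s_273_276 c) (Nat.ble 273 c)
noncomputable def oparTab_s_277_279 (c : Nat) : Nat := @Bool.rec (fun _ => Nat) (oparTab_277) (oparTab_278) (Nat.ble 278 c)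
noncomputable def oparTab_s_276_279 (c : Nat) : Nat := @Bool.rec (fun _ => Nat) (oparTab_276) (oparTab_s_277_279 c) (Nat.ble 277 c)
noncomputable def oparTab_s_280_282 (c : Nat) : Nat := @Bool.rec (fun _ => Nat) (oparTab_280) (oparTab_281) (Nat.ble 281 c)
noncomputable def oparTab_s_279_282 (c : Nat) : Nat := @Bool.rec (fun _ => Nat) (oparTab_279) (oparTab_s_280_282 c) (Nat.ble 280 c)
noncomputable def oparTab_s_276_282 (c : Nat) : Nat := @Bool.rec (fun _ => Nat) (oparTab_s_276_279 c) (oparTab_s_279_282 c) (Nat.ble 279 c)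
noncomputable def oparTab_s_270_282 (c : Nat) : Nat := @Bool.rec (fun _ => Nat) (oparTab_s_270_276 c) (oparTab_s_276_282 c) (Nat.ble 276 c)
noncomputable def oparTab_s_258_282 (c : Nat) : Nat := @Bool.rec (fun _ => Nat) (oparTab_s_258_270 c) (oparTab_s_270_282 c) (Nat.ble 270 c)
noncomputable def oparTab_s_235_282 (c : Nat) : Nat := @Bool.rec (fun _ => Nat) (oparTab_s_235_258 c) (oparTab_s_258_282 c) (Nat.ble 258 c)
noncomputable def oparTab_s_188_282 (c : Nat) : Nat := @Bool.rec (fun _ => Nat) (oparTab_s_188_235 c) (oparTab_s_235_282 c) (Nat.ble 235 c)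
noncomputable def oparTab_s_282_284 (c : Nat) : Nat := @Bool.rec (fun _ => Nat) (oparTab_282) (oparTab_283) (Nat.ble 283 c)
noncomputable def oparTab_s_285_287 (c : Nat) : Nat := @Bool.rec (fun _ => Nat) (oparTab_285) (oparTab_286) (Nat.ble 286 c)
noncomputable def oparTab_s_284_287 (c : Nat) : Nat := @Bool.rec (fun _ => Nat) (oparTab_284) (oparTab_s_285_287 c) (Nat.ble 285 c)
noncomputable def oparTab_s_282_287 (c : Nat) : Nat := @Bool.rec (fun _ => Nat) (oparTab_s_282_284 c) (oparTab_s_284_287 c) (Nat.ble 284 c)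
noncomputable def oparTab_s_288_290 (c : Nat) : Nat := @Bool.rec (fun _ => Nat) (oparTab_288) (oparTab_289) (Nat.ble 289 c)
noncomputable def oparTab_s_287_290 (c : Nat) : Nat := @Bool.rec (fun _ => Nat) (oparTab_287) (oparTab_s_288_290 c) (Nat.ble 288 c)
noncomputable def oparTab_s_291_293 (c : Nat) : Nat := @Bool.rec (fun _ => Nat) (oparTab_291) (oparTab_292) (Nat.ble 292 c)
noncomputable def oparTab_s_290_293 (c : Nat) : Nat := @Bool.rec (fun _ => Nat) (oparTab_290) (oparTab_s_291_293 c) (Nat.ble 291 c)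
noncomputable def oparTab_s_287_293 (c : Nat) : Nat := @Bool.rec (fun _ => Nat) (oparTab_s_287_290 c) (oparTab_s_290_293 c) (Nat.ble 290 c)
noncomputable def oparTab_s_282_293 (c : Nat) : Nat := @Bool.rec (fun _ => Nat) (oparTab_s_282_287 c) (oparTab_s_287_293 c) (Nat.ble 287 c)
noncomputable def oparTab_s_294_296 (c : Nat) : Nat := @Bool.rec (fun _ => Nat) (oparTab_294) (oparTab_295) (Nat.ble 295 c)
noncomputable def oparTab_s_293_296 (c : Nat) : Nat := @Bool.rec (fun _ => Nat) (oparTab_293) (oparTab_s_294_296 c) (Nat.ble 294 c)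
noncomputable def oparTab_s_297_299 (c : Nat) : Nat := @Bool.rec (fun _ => Nat) (oparTab_297) (oparTab_298) (Nat.ble 298 c)
noncomputable def oparTab_s_296_299 (c : Nat) : Nat := @Bool.rec (fun _ => Nat) (oparTab_296) (oparTab_s_297_299 c) (Nat.ble 297 c)
noncomputable def oparTab_s_293_299 (c : Nat) : Nat := @Bool.rec (fun _ => Nat) (oparTab_s_293_296 c) (oparTab_s_296_299 c) (Nat.ble 296 c)
noncomputable def oparTab_s_300_302 (c : Nat) : Nat := @Bool.rec (fun _ => Nat) (oparTab_300) (oparTab_301) (Nat.ble 301 c)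
noncomputable def oparTab_s_299_302 (c : Nat) : Nat := @Bool.rec (fun _ => Nat) (oparTab_299) (oparTab_s_300_302 c) (Nat.ble 300 c)
noncomputable def oparTab_s_303_305 (c : Nat) : Nat := @Bool.rec (fun _ => Nat) (oparTab_303) (oparTab_304) (Nat.ble 304 c)
noncomputable def oparTab_s_302_305 (c : Nat) : Nat := @Bool.rec (fun _ => Nat) (oparTab_302) (oparTab_s_303_305 c) (Nat.ble 303 c)
noncomputable def oparTab_s_299_305 (c : Nat) : Nat := @Bool.rec (fun _ => Nat) (oparTab_s_299_302 c) (oparTab_s_302_305 c) (Nat.ble 302 c)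
noncomputable def oparTab_s_293_305 (c : Nat) : Nat := @Bool.rec (fun _ => Nat) (oparTab_s_293_299 c) (oparTab_s_299_305 c) (Nat.ble 299 c)
noncomputable def oparTab_s_282_305 (c : Nat) : Nat := @Bool.rec (fun _ => Nat) (oparTab_s_282_293 c) (oparTab_s_293_305 c) (Nat.ble 293 c)
noncomputable def oparTab_s_306_308 (c : Nat) : Nat := @Bool.rec (fun _ => Nat) (oparTab_306) (oparTab_307) (Nat.ble 307 c)
noncomputable def oparTab_s_305_308 (c : Nat) : Nat := @Bool.rec (fun _ => Nat) (oparTab_305) (oparTab_s_306_308 c) (Nat.ble 306 c)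
noncomputable def oparTab_s_309_311 (c : Nat) : Nat := @Bool.rec (fun _ => Nat) (oparTab_309) (oparTab_310) (Nat.ble 310 c)
noncomputable def oparTab_s_308_311 (c : Nat) : Nat := @Bool.rec (fun _ => Nat) (oparTab_308) (oparTab_s_309_311 c) (Nat.ble 309 c)
noncomputable def oparTab_s_305_311 (c : Nat) : Nat := @Bool.rec (fun _ => Nat) (oparTab_s_305_308 c) (oparTab_s_308_311 c) (Nat.ble 308 c)
noncomputable def oparTab_s_312_314 (c : Nat) : Nat := @Bool.rec (fun _ => Nat) (oparTab_312) (oparTab_313) (Nat.ble 313 c)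
noncomputable def oparTab_s_311_314 (c : Nat) : Nat := @Bool.rec (fun _ => Nat) (oparTab_311) (oparTab_s_312_314 c) (Nat.ble 312 c)
noncomputable def oparTab_s_315_317 (c : Nat) : Nat := @Bool.rec (fun _ => Nat) (oparTab_315) (oparTab_316) (Nat.ble 316 c)
noncomputable def oparTab_s_314_317 (c : Nat) : Nat := @Bool.rec (fun _ => Nat) (oparTab_314) (oparTab_s_315_317 c) (Nat.ble 315 c)
noncomputable def oparTab_s_311_317 (c : Nat) : Nat := @Bool.rec (fun _ => Nat) (oparTab_s_311_314 c) (oparTab_s_314_317 c) (Nat.ble 314 c)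
noncomputable def oparTab_s_305_317 (c : Nat) : Nat := @Bool.rec (fun _ => Nat) (oparTab_s_305_311 c) (oparTab_s_311_317 c) (Nat.ble 311 c)
noncomputable def oparTab_s_318_320 (c : Nat) : Nat := @Bool.rec (fun _ => Nat) (oparTab_318) (oparTab_319) (Nat.ble 319 c)
noncomputable def oparTab_s_317_320 (c : Nat) : Nat := @Bool.rec (fun _ => Nat) (oparTab_317) (oparTab_s_318_320 c) (Nat.ble 318 c)
noncomputable def oparTab_s_321_323 (c : Nat) : Nat := @Bool.rec (fun _ => Nat) (oparTab_321) (oparTab_322) (Nat.ble 322 c)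
noncomputable def oparTab_s_320_323 (c : Nat) : Nat := @Bool.rec (fun _ => Nat) (oparTab_320) (oparTab_s_321_323 c) (Nat.ble 321 c)
noncomputable def oparTab_s_317_323 (c : Nat) : Nat := @Bool.rec (fun _ => Nat) (oparTab_s_317_320 c) (oparTab_s_320_323 c) (Nat.ble 320 c)
noncomputable def oparTab_s_324_326 (c : Nat) : Nat := @Bool.rec (fun _ => Nat) (oparTab_324) (oparTab_325) (Nat.ble 325 c)
noncomputable def oparTab_s_323_326 (c : Nat) : Nat := @Bool.rec (fun _ => Nat) (oparTab_323) (oparTab_s_324_326 c) (Nat.ble 324 c)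
noncomputable def oparTab_s_327_329 (c : Nat) : Nat := @Bool.rec (fun _ => Nat) (oparTab_327) (oparTab_328) (Nat.ble 328 c)
noncomputable def oparTab_s_326_329 (c : Nat) : Nat := @Bool.rec (fun _ => Nat) (oparTab_326) (oparTab_s_327_329 c) (Nat.ble 327 c)
noncomputable def oparTab_s_323_329 (c : Nat) : Nat := @Bool.rec (fun _ => Nat) (oparTab_s_323_326 c) (oparTab_s_326_329 c) (Nat.ble 326 c)
noncomputable def oparTab_s_317_329 (c : Nat) : Nat := @Bool.rec (fun _ => Nat) (oparTab_s_317_323 c) (oparTab_s_323_329 c) (Nat.ble 323 c)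
noncomputable def oparTab_s_305_329 (c : Nat) : Nat := @Bool.rec (fun _ => Nat) (oparTab_s_305_317 c) (oparTab_s_317_329 c) (Nat.ble 317 c)
noncomputable def oparTab_s_282_329 (c : Nat) : Nat := @Bool.rec (fun _ => Nat) (oparTab_s_282_305 c) (oparTab_s_305_329 c) (Nat.ble 305 c)
noncomputable def oparTab_s_329_331 (c : Nat) : Nat := @Bool.rec (fun _ => Nat) (oparTab_329) (oparTab_330) (Nat.ble 330 c)
noncomputable def oparTab_s_332_334 (c : Nat) : Nat := @Bool.rec (fun _ => Nat) (oparTab_332) (oparTab_333) (Nat.ble 333 c)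
noncomputable def oparTab_s_331_334 (c : Nat) : Nat := @Bool.rec (fun _ => Nat) (oparTab_331) (oparTab_s_332_334 c) (Nat.ble 332 c)
noncomputable def oparTab_s_329_334 (c : Nat) : Nat := @Bool.rec (fun _ => Nat) (oparTab_s_329_331 c) (oparTab_s_331_334 c) (Nat.ble 331 c)
noncomputable def oparTab_s_335_337 (c : Nat) : Nat := @Bool.rec (fun _ => Nat) (oparTab_335) (oparTab_336) (Nat.ble 336 c)
noncomputable def oparTab_s_334_337 (c : Nat) : Nat := @Bool.rec (fun _ => Nat) (oparTab_334) (oparTab_s_335_337 c) (Nat.ble 335 c)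
noncomputable def oparTab_s_338_340 (c : Nat) : Nat := @Bool.rec (fun _ => Nat) (oparTab_338) (oparTab_339) (Nat.ble 339 c)
noncomputable def oparTab_s_337_340 (c : Nat) : Nat := @Bool.rec (fun _ => Nat) (oparTab_337) (oparTab_s_338_340 c) (Nat.ble 338 c)
noncomputable def oparTab_s_334_340 (c : Nat) : Nat := @Bool.rec (fun _ => Nat) (oparTab_s_334_337 c) (oparTab_s_337_340 c) (Nat.ble 337 c)
noncomputable def oparTab_s_329_340 (c : Nat) : Nat := @Bool.rec (fun _ => Nat) (oparTab_s_329_334 c) (oparTab_s_334_340 c) (Nat.ble 334 c)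
noncomputable def oparTab_s_341_343 (c : Nat) : Nat := @Bool.rec (fun _ => Nat) (oparTab_341) (oparTab_342) (Nat.ble 342 c)
noncomputable def oparTab_s_340_343 (c : Nat) : Nat := @Bool.rec (fun _ => Nat) (oparTab_340) (oparTab_s_341_343 c) (Nat.ble 341 c)
noncomputable def oparTab_s_344_346 (c : Nat) : Nat := @Bool.rec (fun _ => Nat) (oparTab_344) (oparTab_345) (Nat.ble 345 c)
noncomputable def oparTab_s_343_346 (c : Nat) : Nat := @Bool.rec (fun _ => Nat) (oparTab_343) (oparTab_s_344_346 c) (Nat.ble 344 c)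
noncomputable def oparTab_s_340_346 (c : Nat) : Nat := @Bool.rec (fun _ => Nat) (oparTab_s_340_343 c) (oparTab_s_343_346 c) (Nat.ble 343 c)
noncomputable def oparTab_s_347_349 (c : Nat) : Nat := @Bool.rec (fun _ => Nat) (oparTab_347) (oparTab_348) (Nat.ble 348 c)
noncomputable def oparTab_s_346_349 (c : Nat) : Nat := @Bool.rec (fun _ => Nat) (oparTab_346) (oparTab_s_347_349 c) (Nat.ble 347 c)
noncomputable def oparTab_s_350_352 (c : Nat) : Nat := @Bool.rec (fun _ => Nat) (oparTab_350) (oparTab_351) (Nat.ble 351 c)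
noncomputable def oparTab_s_349_352 (c : Nat) : Nat := @Bool.rec (fun _ => Nat) (oparTab_349) (oparTab_s_350_352 c) (Nat.ble 350 c)
noncomputable def oparTab_s_346_352 (c : Nat) : Nat := @Bool.rec (fun _ => Nat) (oparTab_s_346_349 c) (oparTab_s_349_352 c) (Nat.ble 349 c)
noncomputable def oparTab_s_340_352 (c : Nat) : Nat := @Bool.rec (fun _ => Nat) (oparTab_s_340_346 c) (oparTab_s_346_352 c) (Nat.ble 346 c)
noncomputable def oparTab_s_329_352 (c : Nat) : Nat := @Bool.rec (fun _ => Nat) (oparTab_s_329_340 c) (oparTab_s_340_352 c) (Nat.ble 340 c)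
noncomputable def oparTab_s_353_355 (c : Nat) : Nat := @Bool.rec (fun _ => Nat) (oparTab_353) (oparTab_354) (Nat.ble 354 c)
noncomputable def oparTab_s_352_355 (c : Nat) : Nat := @Bool.rec (fun _ => Nat) (oparTab_352) (oparTab_s_353_355 c) (Nat.ble 353 c)
noncomputable def oparTab_s_356_358 (c : Nat) : Nat := @Bool.rec (fun _ => Nat) (oparTab_356) (oparTab_357) (Nat.ble 357 c)
noncomputable def oparTab_s_355_358 (c : Nat) : Nat := @Bool.rec (fun _ => Nat) (oparTab_355) (oparTab_s_356_358 c) (Nat.ble 356 c)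
noncomputable def oparTab_s_352_358 (c : Nat) : Nat := @Bool.rec (fun _ => Nat) (oparTab_s_352_355 c) (oparTab_s_355_358 c) (Nat.ble 355 c)
noncomputable def oparTab_s_359_361 (c : Nat) : Nat := @Bool.rec (fun _ => Nat) (oparTab_359) (oparTab_360) (Nat.ble 360 c)
noncomputable def oparTab_s_358_361 (c : Nat) : Nat := @Bool.rec (fun _ => Nat) (oparTab_358) (oparTab_s_359_361 c) (Nat.ble 359 c)
noncomputable def oparTab_s_362_364 (c : Nat) : Nat := @Bool.rec (fun _ => Nat) (oparTab_362) (oparTab_363) (Nat.ble 363 c)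
noncomputable def oparTab_s_361_364 (c : Nat) : Nat := @Bool.rec (fun _ => Nat) (oparTab_361) (oparTab_s_362_364 c) (Nat.ble 362 c)
noncomputable def oparTab_s_358_364 (c : Nat) : Nat := @Bool.rec (fun _ => Nat) (oparTab_s_358_361 c) (oparTab_s_361_364 c) (Nat.ble 361 c)
noncomputable def oparTab_s_352_364 (c : Nat) : Nat := @Bool.rec (fun _ => Nat) (oparTab_s_352_358 c) (oparTab_s_358_364 c) (Nat.ble 358 c)
noncomputable def oparTab_s_365_367 (c : Nat) : Nat := @Bool.rec (fun _ => Nat) (oparTab_365) (oparTab_366) (Nat.ble 366 c)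
noncomputable def oparTab_s_364_367 (c : Nat) : Nat := @Bool.rec (fun _ => Nat) (oparTab_364) (oparTab_s_365_367 c) (Nat.ble 365 c)
noncomputable def oparTab_s_368_370 (c : Nat) : Nat := @Bool.rec (fun _ => Nat) (oparTab_368) (oparTab_369) (Nat.ble 369 c)
noncomputable def oparTab_s_367_370 (c : Nat) : Nat := @Bool.rec (fun _ => Nat) (oparTab_367) (oparTab_s_368_370 c) (Nat.ble 368 c)
noncomputable def oparTab_s_364_370 (c : Nat) : Nat := @Bool.rec (fun _ => Nat) (oparTab_s_364_367 c) (oparTab_s_367_370 c) (Nat.ble 367 c)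
noncomputable def oparTab_s_371_373 (c : Nat) : Nat := @Bool.rec (fun _ => Nat) (oparTab_371) (oparTab_372) (Nat.ble 372 c)
noncomputable def oparTab_s_370_373 (c : Nat) : Nat := @Bool.rec (fun _ => Nat) (oparTab_370) (oparTab_s_371_373 c) (Nat.ble 371 c)
noncomputable def oparTab_s_374_376 (c : Nat) : Nat := @Bool.rec (fun _ => Nat) (oparTab_374) (oparTab_375) (Nat.ble 375 c)
noncomputable def oparTab_s_373_376 (c : Nat) : Nat := @Bool.rec (fun _ => Nat) (oparTab_373) (oparTab_s_374_376 c) (Nat.ble 374 c)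
noncomputable def oparTab_s_370_376 (c : Nat) : Nat := @Bool.rec (fun _ => Nat) (oparTab_s_370_373 c) (oparTab_s_373_376 c) (Nat.ble 373 c)
noncomputable def oparTab_s_364_376 (c : Nat) : Nat := @Bool.rec (fun _ => Nat) (oparTab_s_364_370 c) (oparTab_s_370_376 c) (Nat.ble 370 c)
noncomputable def oparTab_s_352_376 (c : Nat) : Nat := @Bool.rec (fun _ => Nat) (oparTab_s_352_364 c) (oparTab_s_364_376 c) (Nat.ble 364 c)
noncomputable def oparTab_s_329_376 (c : Nat) : Nat := @Bool.rec (fun _ => Nat) (oparTab_s_329_352 c) (oparTab_s_352_376 c) (Nat.ble 352 c)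
noncomputable def oparTab_s_282_376 (c : Nat) : Nat := @Bool.rec (fun _ => Nat) (oparTab_s_282_329 c) (oparTab_s_329_376 c) (Nat.ble 329 c)
noncomputable def oparTab_s_188_376 (c : Nat) : Nat := @Bool.rec (fun _ => Nat) (oparTab_s_188_282 c) (oparTab_s_282_376 c) (Nat.ble 282 c)
noncomputable def oparTab_s_0_376 (c : Nat) : Nat := @Bool.rec (fun _ => Nat) (oparTab_s_0_188 c) (oparTab_s_188_376 c) (Nat.ble 188 c)
noncomputable def oparTab (i : Nat) : Nat := rdw 21 2097151 (oparTab_s_0_376 (Nat.shiftRight i 12)) (Nat.land i 4095)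
noncomputable def olabTab_s_0_2 (c : Nat) : Nat := @Bool.rec (fun _ => Nat) (olabTab_0) (olabTab_1) (Nat.ble 1 c)
noncomputable def olabTab_s_3_5 (c : Nat) : Nat := @Bool.rec (fun _ => Nat) (olabTab_3) (olabTab_4) (Nat.ble 4 c)
noncomputable def olabTab_s_2_5 (c : Nat) : Nat := @Bool.rec (fun _ => Nat) (olabTab_2) (olabTab_s_3_5 c) (Nat.ble 3 c)
noncomputable def olabTab_s_0_5 (c : Nat) : Nat := @Bool.rec (fun _ => Nat) (olabTab_s_0_2 c) (olabTab_s_2_5 c) (Nat.ble 2 c)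
noncomputable def olabTab_s_6_8 (c : Nat) : Nat := @Bool.rec (fun _ => Nat) (olabTab_6) (olabTab_7) (Nat.ble 7 c)
noncomputable def olabTab_s_5_8 (c : Nat) : Nat := @Bool.rec (fun _ => Nat) (olabTab_5) (olabTab_s_6_8 c) (Nat.ble 6 c)
noncomputable def olabTab_s_9_11 (c : Nat) : Nat := @Bool.rec (fun _ => Nat) (olabTab_9) (olabTab_10) (Nat.ble 10 c)
noncomputable def olabTab_s_8_11 (c : Nat) : Nat := @Bool.rec (fun _ => Nat) (olabTab_8) (olabTab_s_9_11 c) (Nat.ble 9 c)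
noncomputable def olabTab_s_5_11 (c : Nat) : Nat := @Bool.rec (fun _ => Nat) (olabTab_s_5_8 c) (olabTab_s_8_11 c) (Nat.ble 8 c)
noncomputable def olabTab_s_0_11 (c : Nat) : Nat := @Bool.rec (fun _ => Nat) (olabTab_s_0_5 c) (olabTab_s_5_11 c) (Nat.ble 5 c)
noncomputable def olabTab_s_12_14 (c : Nat) : Nat := @Bool.rec (fun _ => Nat) (olabTab_12) (olabTab_13) (Nat.ble 13 c)
noncomputable def olabTab_s_11_14 (c : Nat) : Nat := @Bool.rec (fun _ => Nat) (olabTab_11) (olabTab_s_12_14 c) (Nat.ble 12 c)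
noncomputable def olabTab_s_15_17 (c : Nat) : Nat := @Bool.rec (fun _ => Nat) (olabTab_15) (olabTab_16) (Nat.ble 16 c)
noncomputable def olabTab_s_14_17 (c : Nat) : Nat := @Bool.rec (fun _ => Nat) (olabTab_14) (olabTab_s_15_17 c) (Nat.ble 15 c)
noncomputable def olabTab_s_11_17 (c : Nat) : Nat := @Bool.rec (fun _ => Nat) (olabTab_s_11_14 c) (olabTab_s_14_17 c) (Nat.ble 14 c)
noncomputable def olabTab_s_18_20 (c : Nat) : Nat := @Bool.rec (fun _ => Nat) (olabTab_18) (olabTab_19) (Nat.ble 19 c)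
noncomputable def olabTab_s_17_20 (c : Nat) : Nat := @Bool.rec (fun _ => Nat) (olabTab_17) (olabTab_s_18_20 c) (Nat.ble 18 c)
noncomputable def olabTab_s_21_23 (c : Nat) : Nat := @Bool.rec (fun _ => Nat) (olabTab_21) (olabTab_22) (Nat.ble 22 c)
noncomputable def olabTab_s_20_23 (c : Nat) : Nat := @Bool.rec (fun _ => Nat) (olabTab_20) (olabTab_s_21_23 c) (Nat.ble 21 c)
noncomputable def olabTab_s_17_23 (c : Nat) : Nat := @Bool.rec (fun _ => Nat) (olabTab_s_17_20 c) (olabTab_s_20_23 c) (Nat.ble 20 c)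
noncomputable def olabTab_s_11_23 (c : Nat) : Nat := @Bool.rec (fun _ => Nat) (olabTab_s_11_17 c) (olabTab_s_17_23 c) (Nat.ble 17 c)
noncomputable def olabTab_s_0_23 (c : Nat) : Nat := @Bool.rec (fun _ => Nat) (olabTab_s_0_11 c) (olabTab_s_11_23 c) (Nat.ble 11 c)
noncomputable def olabTab_s_24_26 (c : Nat) : Nat := @Bool.rec (fun _ => Nat) (olabTab_24) (olabTab_25) (Nat.ble 25 c)
noncomputable def olabTab_s_23_26 (c : Nat) : Nat := @Bool.rec (fun _ => Nat) (olabTab_23) (olabTab_s_24_26 c) (Nat.ble 24 c)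
noncomputable def olabTab_s_27_29 (c : Nat) : Nat := @Bool.rec (fun _ => Nat) (olabTab_27) (olabTab_28) (Nat.ble 28 c)
noncomputable def olabTab_s_26_29 (c : Nat) : Nat := @Bool.rec (fun _ => Nat) (olabTab_26) (olabTab_s_27_29 c) (Nat.ble 27 c)
noncomputable def olabTab_s_23_29 (c : Nat) : Nat := @Bool.rec (fun _ => Nat) (olabTab_s_23_26 c) (olabTab_s_26_29 c) (Nat.ble 26 c)
noncomputable def olabTab_s_30_32 (c : Nat) : Nat := @Bool.rec (fun _ => Nat) (olabTab_30) (olabTab_31) (Nat.ble 31 c)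
noncomputable def olabTab_s_29_32 (c : Nat) : Nat := @Bool.rec (fun _ => Nat) (olabTab_29) (olabTab_s_30_32 c) (Nat.ble 30 c)
noncomputable def olabTab_s_33_35 (c : Nat) : Nat := @Bool.rec (fun _ => Nat) (olabTab_33) (olabTab_34) (Nat.ble 34 c)
noncomputable def olabTab_s_32_35 (c : Nat) : Nat := @Bool.rec (fun _ => Nat) (olabTab_32) (olabTab_s_33_35 c) (Nat.ble 33 c)
noncomputable def olabTab_s_29_35 (c : Nat) : Nat := @Bool.rec (fun _ => Nat) (olabTab_s_29_32 c) (olabTab_s_32_35 c) (Nat.ble 32 c)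
noncomputable def olabTab_s_23_35 (c : Nat) : Nat := @Bool.rec (fun _ => Nat) (olabTab_s_23_29 c) (olabTab_s_29_35 c) (Nat.ble 29 c)
noncomputable def olabTab_s_36_38 (c : Nat) : Nat := @Bool.rec (fun _ => Nat) (olabTab_36) (olabTab_37) (Nat.ble 37 c)
noncomputable def olabTab_s_35_38 (c : Nat) : Nat := @Bool.rec (fun _ => Nat) (olabTab_35) (olabTab_s_36_38 c) (Nat.ble 36 c)
noncomputable def olabTab_s_39_41 (c : Nat) : Nat := @Bool.rec (fun _ => Nat) (olabTab_39) (olabTab_40) (Nat.ble 40 c)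
noncomputable def olabTab_s_38_41 (c : Nat) : Nat := @Bool.rec (fun _ => Nat) (olabTab_38) (olabTab_s_39_41 c) (Nat.ble 39 c)
noncomputable def olabTab_s_35_41 (c : Nat) : Nat := @Bool.rec (fun _ => Nat) (olabTab_s_35_38 c) (olabTab_s_38_41 c) (Nat.ble 38 c)
noncomputable def olabTab_s_42_44 (c : Nat) : Nat := @Bool.rec (fun _ => Nat) (olabTab_42) (olabTab_43) (Nat.ble 43 c)
noncomputable def olabTab_s_41_44 (c : Nat) : Nat := @Bool.rec (fun _ => Nat) (olabTab_41) (olabTab_s_42_44 c) (Nat.ble 42 c)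
noncomputable def olabTab_s_45_47 (c : Nat) : Nat := @Bool.rec (fun _ => Nat) (olabTab_45) (olabTab_46) (Nat.ble 46 c)
noncomputable def olabTab_s_44_47 (c : Nat) : Nat := @Bool.rec (fun _ => Nat) (olabTab_44) (olabTab_s_45_47 c) (Nat.ble 45 c)
noncomputable def olabTab_s_41_47 (c : Nat) : Nat := @Bool.rec (fun _ => Nat) (olabTab_s_41_44 c) (olabTab_s_44_47 c) (Nat.ble 44 c)
noncomputable def olabTab_s_35_47 (c : Nat) : Nat := @Bool.rec (fun _ => Nat) (olabTab_s_35_41 c) (olabTab_s_41_47 c) (Nat.ble 41 c)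
noncomputable def olabTab_s_23_47 (c : Nat) : Nat := @Bool.rec (fun _ => Nat) (olabTab_s_23_35 c) (olabTab_s_35_47 c) (Nat.ble 35 c)
noncomputable def olabTab_s_0_47 (c : Nat) : Nat := @Bool.rec (fun _ => Nat) (olabTab_s_0_23 c) (olabTab_s_23_47 c) (Nat.ble 23 c)
noncomputable def olabTab (i : Nat) : Nat := rdw 2 3 (olabTab_s_0_47 (Nat.shiftRight i 15)) (Nat.land i 32767)
noncomputable def srcF (t : Nat) : Nat := Nat.land (Atab t) 2097151
noncomputable def tgtF (t : Nat) : Nat := Nat.land (Nat.shiftRight (Atab t) 21) 2097151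
noncomputable def ltF (t : Nat) : Nat := Nat.shiftRight (Atab t) 42
noncomputable def rhoF (t : Nat) : Nat := Nat.land (Btab (Nat.sub t 1622374)) 127
noncomputable def rotF (t : Nat) : Nat := Nat.land (Nat.shiftRight (Btab (Nat.sub t 1622374)) 7) 63
noncomputable def lenF (t : Nat) : Nat := Nat.land (Nat.shiftRight (Btab (Nat.sub t 1622374)) 13) 127
noncomputable def offF (t : Nat) : Nat := Nat.shiftRight (Btab (Nat.sub t 1622374)) 20
noncomputable def pfF (j : Nat) : Nat := Nat.shiftRight (Ptab j) 1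
noncomputable def pdF (j : Nat) : Nat := Nat.land (Ptab j) 1
noncomputable def tblF (i x : Nat) : Nat := @Bool.rec (fun _ => Nat) (@Bool.rec (fun _ => Nat) (@Bool.rec (fun _ => Nat) (col0 i) (col1 i) (Nat.ble 1 x)) (@Bool.rec (fun _ => Nat) (col2 i) (col3 i) (Nat.ble 3 x)) (Nat.ble 2 x)) (@Bool.rec (fun _ => Nat) (@Bool.rec (fun _ => Nat) (col4 i) (col5 i) (Nat.ble 5 x)) (@Bool.rec (fun _ => Nat) (col6 i) (col7 i) (Nat.ble 7 x)) (Nat.ble 6 x)) (Nat.ble 4 x)
noncomputable def finE (i x : Nat) : Nat := finTab (Nat.add (Nat.mul i 8) x)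
noncomputable def finFF (i x : Nat) : Nat := Nat.shiftRight (finE i x) 1
noncomputable def finDF (i x : Nat) : Nat := Nat.land (finE i x) 1

noncomputable def D : Log :=
  { k := 8, inv := invE 8 PHN.invR, nR := 72, rBase := rBtab, rLen := rLtab, RR := RRtab,
    M := 1622368, nB := 6, F := 6505891, src := srcF, lt := ltF, tgt := tgtF, rho := rhoF, rot := rotF,
    off := offF, len := lenF, pf := pfF, pd := pdF }

noncomputable def T : Tab :=
  { N := 1539000, nameOf := nameTab, tbl := tblF, finF := finFF, finD := finDF, cls := clsTab }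

def subs : List (List Nat) := [
  [0], [2], [4] ]

def extraL : List (List Nat) := [
  [0, 3, 4, 0, 3, 4, 0, 3, 4, 0, 3, 4, 0, 3, 4, 0, 3, 4],
  [0, 3, 4, 2, 0, 4, 0, 3, 4, 2, 0, 4, 0, 3, 4, 2, 0, 4],
  [2, 2, 4, 3, 3, 4, 2, 2, 4, 3, 3, 4, 2, 2, 4, 3, 3, 4],
  [0, 2, 1, 3, 4, 0, 2, 1, 3, 4, 0, 2, 1, 3, 4, 0, 2, 1, 3, 4],
  [0, 2, 2, 2, 4, 0, 2, 2, 2, 4, 0, 2, 2, 2, 4, 0, 2, 2, 2, 4],
  [0, 3, 3, 4, 0, 3, 4, 0, 3, 3, 4, 0, 3, 4, 0, 3, 3, 4, 0, 3, 4, 0, 3, 3, 4, 0, 3, 4],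
  [0, 3, 3, 4, 1, 2, 2, 0, 3, 3, 4, 1, 2, 2, 0, 3, 3, 4, 1, 2, 2, 0, 3, 3, 4, 1, 2, 2],
  [0, 3, 3, 4, 2, 2, 4, 0, 3, 3, 4, 2, 2, 4, 0, 3, 3, 4, 2, 2, 4, 0, 3, 3, 4, 2, 2, 4],
  [0, 3, 4, 0, 4, 2, 4, 0, 3, 4, 0, 4, 2, 4, 0, 3, 4, 0, 4, 2, 4, 0, 3, 4, 0, 4, 2, 4],
  [0, 3, 4, 1, 2, 0, 4, 0, 3, 4, 1, 2, 0, 4, 0, 3, 4, 1, 2, 0, 4, 0, 3, 4, 1, 2, 0, 4],
  [0, 2, 2, 1, 3, 0, 2, 2, 1, 3, 0, 2, 2, 1, 3, 0, 2, 2, 1, 3, 0, 2, 2, 1, 3, 0, 2, 2, 1, 3] ]

def rw0 : List Nat := [2, 2, 2, 2, 2, 2]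
def rw1 : List Nat := [0, 0, 2, 0, 0, 3]
def rw2 : List Nat := [1, 3, 0, 2, 1, 3, 0, 2, 1, 3, 0, 2]
def rw3 : List Nat := [1, 2, 2, 0, 2, 2, 2, 1, 2, 2, 0, 2, 2, 2, 1, 2, 2, 0, 2, 2, 2]
def rw4 : List Nat := [0, 2, 0, 2, 0, 2, 0, 2, 0, 2, 0, 2, 0, 2, 0, 2]
def rw5 : List Nat := [0, 2, 0, 2, 2, 2, 0, 2, 0, 2, 2, 2, 0, 2, 0, 2, 2, 2, 0, 2, 0, 2, 2, 2]
def rw6 : List Nat := [4, 4]
def rw7 : List Nat := [4, 0, 4, 0]
def rw8 : List Nat := [5, 2, 1, 3, 3, 1, 3, 1, 3, 4, 2, 0, 2, 0, 2, 2, 0, 3, 1, 1]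
def rw9 : List Nat := [4, 3, 1, 3, 1, 3, 3, 3, 4, 2, 2, 2, 0, 2, 0, 2, 0, 3, 1, 3, 1, 3, 3, 3, 4, 2, 2, 2, 0, 2, 0, 2, 0, 3, 1, 3, 1, 3, 3, 3, 4, 2, 2, 2, 0, 2, 0, 2, 0]
def rw10 : List Nat := [6, 6, 6, 6, 6]
def rw11 : List Nat := [1, 6, 0, 6, 6]
def rw12 : List Nat := [7, 3, 6, 2]
def rw13 : List Nat := [4, 6, 4, 6, 4, 6]
def realLit : List (List Nat) := [rw0, rw1, rw2, rw3, rw4, rw5, rw6, rw7, rw8, rw9, rw10, rw11, rw12, rw13]
noncomputable def actR0 (i : Nat) : Nat := col3 (col3 (col3 (col3 (col3 (col3 (i))))))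
theorem actR0_eq (i : Nat) : actR0 i = Tab.act T D rw0 i := rfl
noncomputable def actR1 (i : Nat) : Nat := col1 (col1 (col3 (col1 (col1 (col2 (i))))))
theorem actR1_eq (i : Nat) : actR1 i = Tab.act T D rw1 i := rfl
noncomputable def actR2 (i : Nat) : Nat := col0 (col2 (col1 (col3 (col0 (col2 (col1 (col3 (col0 (col2 (col1 (col3 (i))))))))))))
theorem actR2_eq (i : Nat) : actR2 i = Tab.act T D rw2 i := rfl
noncomputable def actR3 (i : Nat) : Nat := col0 (col3 (col3 (col1 (col3 (col3 (col3 (col0 (col3 (col3 (col1 (col3 (col3 (col3 (col0 (col3 (col3 (col1 (col3 (col3 (col3 (i)))))))))))))))))))))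
theorem actR3_eq (i : Nat) : actR3 i = Tab.act T D rw3 i := rfl
noncomputable def actR4 (i : Nat) : Nat := col1 (col3 (col1 (col3 (col1 (col3 (col1 (col3 (col1 (col3 (col1 (col3 (col1 (col3 (col1 (col3 (i))))))))))))))))
theorem actR4_eq (i : Nat) : actR4 i = Tab.act T D rw4 i := rfl
noncomputable def actR5 (i : Nat) : Nat := col1 (col3 (col1 (col3 (col3 (col3 (col1 (col3 (col1 (col3 (col3 (col3 (col1 (col3 (col1 (col3 (col3 (col3 (col1 (col3 (col1 (col3 (col3 (col3 (i))))))))))))))))))))))))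
theorem actR5_eq (i : Nat) : actR5 i = Tab.act T D rw5 i := rfl
noncomputable def actR6 (i : Nat) : Nat := col5 (col5 (i))
theorem actR6_eq (i : Nat) : actR6 i = Tab.act T D rw6 i := rfl
noncomputable def actR7 (i : Nat) : Nat := col5 (col1 (col5 (col1 (i))))
theorem actR7_eq (i : Nat) : actR7 i = Tab.act T D rw7 i := rfl
noncomputable def actR8 (i : Nat) : Nat := col4 (col3 (col0 (col2 (col2 (col0 (col2 (col0 (col2 (col5 (col3 (col1 (col3 (col1 (col3 (col3 (col1 (col2 (col0 (col0 (i))))))))))))))))))))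
theorem actR8_eq (i : Nat) : actR8 i = Tab.act T D rw8 i := rfl
noncomputable def actR9 (i : Nat) : Nat := col5 (col2 (col0 (col2 (col0 (col2 (col2 (col2 (col5 (col3 (col3 (col3 (col1 (col3 (col1 (col3 (col1 (col2 (col0 (col2 (col0 (col2 (col2 (col2 (col5 (col3 (col3 (col3 (col1 (col3 (col1 (col3 (col1 (col2 (col0 (col2 (col0 (col2 (col2 (col2 (col5 (col3 (col3 (col3 (col1 (col3 (col1 (col3 (col1 (i)))))))))))))))))))))))))))))))))))))))))))))))))
theorem actR9_eq (i : Nat) : actR9 i = Tab.act T D rw9 i := rfl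
noncomputable def actR10 (i : Nat) : Nat := col7 (col7 (col7 (col7 (col7 (i)))))
theorem actR10_eq (i : Nat) : actR10 i = Tab.act T D rw10 i := rfl
noncomputable def actR11 (i : Nat) : Nat := col0 (col7 (col1 (col7 (col7 (i)))))
theorem actR11_eq (i : Nat) : actR11 i = Tab.act T D rw11 i := rfl
noncomputable def actR12 (i : Nat) : Nat := col6 (col2 (col7 (col3 (i))))
theorem actR12_eq (i : Nat) : actR12 i = Tab.act T D rw12 i := rfl
noncomputable def actR13 (i : Nat) : Nat := col5 (col7 (col5 (col7 (col5 (col7 (i))))))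
theorem actR13_eq (i : Nat) : actR13 i = Tab.act T D rw13 i := rfl

end Cfsg.Agent.Lib.Helper4.TCD.HNm
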