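import Cfsg.Agent.Lib.Helper4.TCD_HNm_Acc

namespace Cfsg.Agent.Lib.Helper4.TCD.HNm

open Cfsg.Agent.Lib.Helper4.TC

set_option maxRecDepth 100000
set_option Elab.async false

theorem c_act7_96 : allRange (fun i => Nat.beq (actR7 i) i) 1440000 15000 = true := by decide +kernel
theorem c_act7_97 : allRange (fun i => Nat.beq (actR7 i) i) 1455000 15000 = true := by decide +kernel
theorem c_act7_98 : allRange (fun i => Nat.beq (actR7 i) i) 1470000 15000 = true := by decide +kernel
theorem c_act7_99 : allRange (fun i => Nat.beq (actR7 i) i) 1485000 15000 = true := by decide +kernel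
theorem c_act7_100 : allRange (fun i => Nat.beq (actR7 i) i) 1500000 15000 = true := by decide +kernel
theorem c_act7_101 : allRange (fun i => Nat.beq (actR7 i) i) 1515000 15000 = true := by decide +kernel
theorem c_act7_102 : allRange (fun i => Nat.beq (actR7 i) i) 1530000 9000 = true := by decide +kernel
theorem c_act8_0 : allRange (fun i => Nat.beq (actR8 i) i) 0 3000 = true := by decide +kernel
theorem c_act8_1 : allRange (fun i => Nat.beq (actR8 i) i) 3000 3000 = true := by decide +kernel
theorem c_act8_2 : allRange (fun i => Nat.beq (actR8 i) i) 6000 3000 = true := by decide +kernel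
theorem c_act8_3 : allRange (fun i => Nat.beq (actR8 i) i) 9000 3000 = true := by decide +kernel
theorem c_act8_4 : allRange (fun i => Nat.beq (actR8 i) i) 12000 3000 = true := by decide +kernel
theorem c_act8_5 : allRange (fun i => Nat.beq (actR8 i) i) 15000 3000 = true := by decide +kernel
theorem c_act8_6 : allRange (fun i => Nat.beq (actR8 i) i) 18000 3000 = true := by decide +kernel
theorem c_act8_7 : allRange (fun i => Nat.beq (actR8 i) i) 21000 3000 = true := by decide +kernel
theorem c_act8_8 : allRange (fun i => Nat.beq (actR8 i) i) 24000 3000 = true := by decide +kernel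
theorem c_act8_9 : allRange (fun i => Nat.beq (actR8 i) i) 27000 3000 = true := by decide +kernel
theorem c_act8_10 : allRange (fun i => Nat.beq (actR8 i) i) 30000 3000 = true := by decide +kernel
theorem c_act8_11 : allRange (fun i => Nat.beq (actR8 i) i) 33000 3000 = true := by decide +kernel
theorem c_act8_12 : allRange (fun i => Nat.beq (actR8 i) i) 36000 3000 = true := by decide +kernel
theorem c_act8_13 : allRange (fun i => Nat.beq (actR8 i) i) 39000 3000 = true := by decide +kernel
theorem c_act8_14 : allRange (fun i => Nat.beq (actR8 i) i) 42000 3000 = true := by decide +kernel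
theorem c_act8_15 : allRange (fun i => Nat.beq (actR8 i) i) 45000 3000 = true := by decide +kernel
theorem c_act8_16 : allRange (fun i => Nat.beq (actR8 i) i) 48000 3000 = true := by decide +kernel
theorem c_act8_17 : allRange (fun i => Nat.beq (actR8 i) i) 51000 3000 = true := by decide +kernel
theorem c_act8_18 : allRange (fun i => Nat.beq (actR8 i) i) 54000 3000 = true := by decide +kernel
theorem c_act8_19 : allRange (fun i => Nat.beq (actR8 i) i) 57000 3000 = true := by decide +kernel
theorem c_act8_20 : allRange (fun i => Nat.beq (actR8 i) i) 60000 3000 = true := by decide +kernel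
theorem c_act8_21 : allRange (fun i => Nat.beq (actR8 i) i) 63000 3000 = true := by decide +kernel
theorem c_act8_22 : allRange (fun i => Nat.beq (actR8 i) i) 66000 3000 = true := by decide +kernel
theorem c_act8_23 : allRange (fun i => Nat.beq (actR8 i) i) 69000 3000 = true := by decide +kernel
theorem c_act8_24 : allRange (fun i => Nat.beq (actR8 i) i) 72000 3000 = true := by decide +kernel
theorem c_act8_25 : allRange (fun i => Nat.beq (actR8 i) i) 75000 3000 = true := by decide +kernel
theorem c_act8_26 : allRange (fun i => Nat.beq (actR8 i) i) 78000 3000 = true := by decide +kernel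
theorem c_act8_27 : allRange (fun i => Nat.beq (actR8 i) i) 81000 3000 = true := by decide +kernel
theorem c_act8_28 : allRange (fun i => Nat.beq (actR8 i) i) 84000 3000 = true := by decide +kernel
theorem c_act8_29 : allRange (fun i => Nat.beq (actR8 i) i) 87000 3000 = true := by decide +kernel
theorem c_act8_30 : allRange (fun i => Nat.beq (actR8 i) i) 90000 3000 = true := by decide +kernel
theorem c_act8_31 : allRange (fun i => Nat.beq (actR8 i) i) 93000 3000 = true := by decide +kernel
theorem c_act8_32 : allRange (fun i => Nat.beq (actR8 i) i) 96000 3000 = true := by decide +kernel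
theorem c_act8_33 : allRange (fun i => Nat.beq (actR8 i) i) 99000 3000 = true := by decide +kernel
theorem c_act8_34 : allRange (fun i => Nat.beq (actR8 i) i) 102000 3000 = true := by decide +kernel
theorem c_act8_35 : allRange (fun i => Nat.beq (actR8 i) i) 105000 3000 = true := by decide +kernel
theorem c_act8_36 : allRange (fun i => Nat.beq (actR8 i) i) 108000 3000 = true := by decide +kernel
theorem c_act8_37 : allRange (fun i => Nat.beq (actR8 i) i) 111000 3000 = true := by decide +kernel
theorem c_act8_38 : allRange (fun i => Nat.beq (actR8 i) i) 114000 3000 = true := by decide +kernel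
theorem c_act8_39 : allRange (fun i => Nat.beq (actR8 i) i) 117000 3000 = true := by decide +kernel
theorem c_act8_40 : allRange (fun i => Nat.beq (actR8 i) i) 120000 3000 = true := by decide +kernel
theorem c_act8_41 : allRange (fun i => Nat.beq (actR8 i) i) 123000 3000 = true := by decide +kernel
theorem c_act8_42 : allRange (fun i => Nat.beq (actR8 i) i) 126000 3000 = true := by decide +kernel

end Cfsg.Agent.Lib.Helper4.TCD.HNm
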