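import Cfsg.Agent.Lib.Helper4.TCD_HNm_Acc

namespace Cfsg.Agent.Lib.Helper4.TCD.HNm

open Cfsg.Agent.Lib.Helper4.TC

set_option maxRecDepth 100000
set_option Elab.async false

theorem c_act9_230 : allRange (fun i => Nat.beq (actR9 i) i) 281520 1224 = true := by decide +kernel
theorem c_act9_231 : allRange (fun i => Nat.beq (actR9 i) i) 282744 1224 = true := by decide +kernel
theorem c_act9_232 : allRange (fun i => Nat.beq (actR9 i) i) 283968 1224 = true := by decide +kernel
theorem c_act9_233 : allRange (fun i => Nat.beq (actR9 i) i) 285192 1224 = true := by decide +kernel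
theorem c_act9_234 : allRange (fun i => Nat.beq (actR9 i) i) 286416 1224 = true := by decide +kernel
theorem c_act9_235 : allRange (fun i => Nat.beq (actR9 i) i) 287640 1224 = true := by decide +kernel
theorem c_act9_236 : allRange (fun i => Nat.beq (actR9 i) i) 288864 1224 = true := by decide +kernel
theorem c_act9_237 : allRange (fun i => Nat.beq (actR9 i) i) 290088 1224 = true := by decide +kernel
theorem c_act9_238 : allRange (fun i => Nat.beq (actR9 i) i) 291312 1224 = true := by decide +kernel
theorem c_act9_239 : allRange (fun i => Nat.beq (actR9 i) i) 292536 1224 = true := by decide +kernel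
theorem c_act9_240 : allRange (fun i => Nat.beq (actR9 i) i) 293760 1224 = true := by decide +kernel
theorem c_act9_241 : allRange (fun i => Nat.beq (actR9 i) i) 294984 1224 = true := by decide +kernel
theorem c_act9_242 : allRange (fun i => Nat.beq (actR9 i) i) 296208 1224 = true := by decide +kernel
theorem c_act9_243 : allRange (fun i => Nat.beq (actR9 i) i) 297432 1224 = true := by decide +kernel
theorem c_act9_244 : allRange (fun i => Nat.beq (actR9 i) i) 298656 1224 = true := by decide +kernel
theorem c_act9_245 : allRange (fun i => Nat.beq (actR9 i) i) 299880 1224 = true := by decide +kernel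
theorem c_act9_246 : allRange (fun i => Nat.beq (actR9 i) i) 301104 1224 = true := by decide +kernel
theorem c_act9_247 : allRange (fun i => Nat.beq (actR9 i) i) 302328 1224 = true := by decide +kernel
theorem c_act9_248 : allRange (fun i => Nat.beq (actR9 i) i) 303552 1224 = true := by decide +kernel
theorem c_act9_249 : allRange (fun i => Nat.beq (actR9 i) i) 304776 1224 = true := by decide +kernel
theorem c_act9_250 : allRange (fun i => Nat.beq (actR9 i) i) 306000 1224 = true := by decide +kernel
theorem c_act9_251 : allRange (fun i => Nat.beq (actR9 i) i) 307224 1224 = true := by decide +kernel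
theorem c_act9_252 : allRange (fun i => Nat.beq (actR9 i) i) 308448 1224 = true := by decide +kernel
theorem c_act9_253 : allRange (fun i => Nat.beq (actR9 i) i) 309672 1224 = true := by decide +kernel
theorem c_act9_254 : allRange (fun i => Nat.beq (actR9 i) i) 310896 1224 = true := by decide +kernel
theorem c_act9_255 : allRange (fun i => Nat.beq (actR9 i) i) 312120 1224 = true := by decide +kernel
theorem c_act9_256 : allRange (fun i => Nat.beq (actR9 i) i) 313344 1224 = true := by decide +kernel
theorem c_act9_257 : allRange (fun i => Nat.beq (actR9 i) i) 314568 1224 = true := by decide +kernel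
theorem c_act9_258 : allRange (fun i => Nat.beq (actR9 i) i) 315792 1224 = true := by decide +kernel
theorem c_act9_259 : allRange (fun i => Nat.beq (actR9 i) i) 317016 1224 = true := by decide +kernel
theorem c_act9_260 : allRange (fun i => Nat.beq (actR9 i) i) 318240 1224 = true := by decide +kernel
theorem c_act9_261 : allRange (fun i => Nat.beq (actR9 i) i) 319464 1224 = true := by decide +kernel
theorem c_act9_262 : allRange (fun i => Nat.beq (actR9 i) i) 320688 1224 = true := by decide +kernel
theorem c_act9_263 : allRange (fun i => Nat.beq (actR9 i) i) 321912 1224 = true := by decide +kernel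
theorem c_act9_264 : allRange (fun i => Nat.beq (actR9 i) i) 323136 1224 = true := by decide +kernel
theorem c_act9_265 : allRange (fun i => Nat.beq (actR9 i) i) 324360 1224 = true := by decide +kernel
theorem c_act9_266 : allRange (fun i => Nat.beq (actR9 i) i) 325584 1224 = true := by decide +kernel
theorem c_act9_267 : allRange (fun i => Nat.beq (actR9 i) i) 326808 1224 = true := by decide +kernel
theorem c_act9_268 : allRange (fun i => Nat.beq (actR9 i) i) 328032 1224 = true := by decide +kernel
theorem c_act9_269 : allRange (fun i => Nat.beq (actR9 i) i) 329256 1224 = true := by decide +kernel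
theorem c_act9_270 : allRange (fun i => Nat.beq (actR9 i) i) 330480 1224 = true := by decide +kernel
theorem c_act9_271 : allRange (fun i => Nat.beq (actR9 i) i) 331704 1224 = true := by decide +kernel
theorem c_act9_272 : allRange (fun i => Nat.beq (actR9 i) i) 332928 1224 = true := by decide +kernel
theorem c_act9_273 : allRange (fun i => Nat.beq (actR9 i) i) 334152 1224 = true := by decide +kernel
theorem c_act9_274 : allRange (fun i => Nat.beq (actR9 i) i) 335376 1224 = true := by decide +kernel
theorem c_act9_275 : allRange (fun i => Nat.beq (actR9 i) i) 336600 1224 = true := by decide +kernel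
theorem c_act9_276 : allRange (fun i => Nat.beq (actR9 i) i) 337824 1224 = true := by decide +kernel
theorem c_act9_277 : allRange (fun i => Nat.beq (actR9 i) i) 339048 1224 = true := by decide +kernel
theorem c_act9_278 : allRange (fun i => Nat.beq (actR9 i) i) 340272 1224 = true := by decide +kernel
theorem c_act9_279 : allRange (fun i => Nat.beq (actR9 i) i) 341496 1224 = true := by decide +kernel

end Cfsg.Agent.Lib.Helper4.TCD.HNm
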