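import Cfsg.Agent.Lib.Helper4.TCD_HNm_Acc

namespace Cfsg.Agent.Lib.Helper4.TCD.HNm

open Cfsg.Agent.Lib.Helper4.TC

set_option maxRecDepth 100000
set_option Elab.async false

theorem c_act9_980 : allRange (fun i => Nat.beq (actR9 i) i) 1199520 1224 = true := by decide +kernel
theorem c_act9_981 : allRange (fun i => Nat.beq (actR9 i) i) 1200744 1224 = true := by decide +kernel
theorem c_act9_982 : allRange (fun i => Nat.beq (actR9 i) i) 1201968 1224 = true := by decide +kernel
theorem c_act9_983 : allRange (fun i => Nat.beq (actR9 i) i) 1203192 1224 = true := by decide +kernel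
theorem c_act9_984 : allRange (fun i => Nat.beq (actR9 i) i) 1204416 1224 = true := by decide +kernel
theorem c_act9_985 : allRange (fun i => Nat.beq (actR9 i) i) 1205640 1224 = true := by decide +kernel
theorem c_act9_986 : allRange (fun i => Nat.beq (actR9 i) i) 1206864 1224 = true := by decide +kernel
theorem c_act9_987 : allRange (fun i => Nat.beq (actR9 i) i) 1208088 1224 = true := by decide +kernel
theorem c_act9_988 : allRange (fun i => Nat.beq (actR9 i) i) 1209312 1224 = true := by decide +kernel
theorem c_act9_989 : allRange (fun i => Nat.beq (actR9 i) i) 1210536 1224 = true := by decide +kernel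
theorem c_act9_990 : allRange (fun i => Nat.beq (actR9 i) i) 1211760 1224 = true := by decide +kernel
theorem c_act9_991 : allRange (fun i => Nat.beq (actR9 i) i) 1212984 1224 = true := by decide +kernel
theorem c_act9_992 : allRange (fun i => Nat.beq (actR9 i) i) 1214208 1224 = true := by decide +kernel
theorem c_act9_993 : allRange (fun i => Nat.beq (actR9 i) i) 1215432 1224 = true := by decide +kernel
theorem c_act9_994 : allRange (fun i => Nat.beq (actR9 i) i) 1216656 1224 = true := by decide +kernel
theorem c_act9_995 : allRange (fun i => Nat.beq (actR9 i) i) 1217880 1224 = true := by decide +kernel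
theorem c_act9_996 : allRange (fun i => Nat.beq (actR9 i) i) 1219104 1224 = true := by decide +kernel
theorem c_act9_997 : allRange (fun i => Nat.beq (actR9 i) i) 1220328 1224 = true := by decide +kernel
theorem c_act9_998 : allRange (fun i => Nat.beq (actR9 i) i) 1221552 1224 = true := by decide +kernel
theorem c_act9_999 : allRange (fun i => Nat.beq (actR9 i) i) 1222776 1224 = true := by decide +kernel
theorem c_act9_1000 : allRange (fun i => Nat.beq (actR9 i) i) 1224000 1224 = true := by decide +kernel
theorem c_act9_1001 : allRange (fun i => Nat.beq (actR9 i) i) 1225224 1224 = true := by decide +kernel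
theorem c_act9_1002 : allRange (fun i => Nat.beq (actR9 i) i) 1226448 1224 = true := by decide +kernel
theorem c_act9_1003 : allRange (fun i => Nat.beq (actR9 i) i) 1227672 1224 = true := by decide +kernel
theorem c_act9_1004 : allRange (fun i => Nat.beq (actR9 i) i) 1228896 1224 = true := by decide +kernel
theorem c_act9_1005 : allRange (fun i => Nat.beq (actR9 i) i) 1230120 1224 = true := by decide +kernel
theorem c_act9_1006 : allRange (fun i => Nat.beq (actR9 i) i) 1231344 1224 = true := by decide +kernel
theorem c_act9_1007 : allRange (fun i => Nat.beq (actR9 i) i) 1232568 1224 = true := by decide +kernel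
theorem c_act9_1008 : allRange (fun i => Nat.beq (actR9 i) i) 1233792 1224 = true := by decide +kernel
theorem c_act9_1009 : allRange (fun i => Nat.beq (actR9 i) i) 1235016 1224 = true := by decide +kernel
theorem c_act9_1010 : allRange (fun i => Nat.beq (actR9 i) i) 1236240 1224 = true := by decide +kernel
theorem c_act9_1011 : allRange (fun i => Nat.beq (actR9 i) i) 1237464 1224 = true := by decide +kernel
theorem c_act9_1012 : allRange (fun i => Nat.beq (actR9 i) i) 1238688 1224 = true := by decide +kernel
theorem c_act9_1013 : allRange (fun i => Nat.beq (actR9 i) i) 1239912 1224 = true := by decide +kernel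
theorem c_act9_1014 : allRange (fun i => Nat.beq (actR9 i) i) 1241136 1224 = true := by decide +kernel
theorem c_act9_1015 : allRange (fun i => Nat.beq (actR9 i) i) 1242360 1224 = true := by decide +kernel
theorem c_act9_1016 : allRange (fun i => Nat.beq (actR9 i) i) 1243584 1224 = true := by decide +kernel
theorem c_act9_1017 : allRange (fun i => Nat.beq (actR9 i) i) 1244808 1224 = true := by decide +kernel
theorem c_act9_1018 : allRange (fun i => Nat.beq (actR9 i) i) 1246032 1224 = true := by decide +kernel
theorem c_act9_1019 : allRange (fun i => Nat.beq (actR9 i) i) 1247256 1224 = true := by decide +kernel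
theorem c_act9_1020 : allRange (fun i => Nat.beq (actR9 i) i) 1248480 1224 = true := by decide +kernel
theorem c_act9_1021 : allRange (fun i => Nat.beq (actR9 i) i) 1249704 1224 = true := by decide +kernel
theorem c_act9_1022 : allRange (fun i => Nat.beq (actR9 i) i) 1250928 1224 = true := by decide +kernel
theorem c_act9_1023 : allRange (fun i => Nat.beq (actR9 i) i) 1252152 1224 = true := by decide +kernel
theorem c_act9_1024 : allRange (fun i => Nat.beq (actR9 i) i) 1253376 1224 = true := by decide +kernel
theorem c_act9_1025 : allRange (fun i => Nat.beq (actR9 i) i) 1254600 1224 = true := by decide +kernel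
theorem c_act9_1026 : allRange (fun i => Nat.beq (actR9 i) i) 1255824 1224 = true := by decide +kernel
theorem c_act9_1027 : allRange (fun i => Nat.beq (actR9 i) i) 1257048 1224 = true := by decide +kernel
theorem c_act9_1028 : allRange (fun i => Nat.beq (actR9 i) i) 1258272 1224 = true := by decide +kernel
theorem c_act9_1029 : allRange (fun i => Nat.beq (actR9 i) i) 1259496 1224 = true := by decide +kernel

end Cfsg.Agent.Lib.Helper4.TCD.HNm
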