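import Cfsg.Agent.Lib.Helper4.TCD_HNm_Acc

namespace Cfsg.Agent.Lib.Helper4.TCD.HNm

open Cfsg.Agent.Lib.Helper4.TC

set_option maxRecDepth 100000
set_option Elab.async false

theorem c_rel_1013 : allRange D.relOK 4103610 2017 = true := by decide +kernel
theorem c_rel_1014 : allRange D.relOK 4105627 2179 = true := by decide +kernel
theorem c_rel_1015 : allRange D.relOK 4107806 1863 = true := by decide +kernel
theorem c_rel_1016 : allRange D.relOK 4109669 1922 = true := by decide +kernel
theorem c_rel_1017 : allRange D.relOK 4111591 2082 = true := by decide +kernel
theorem c_rel_1018 : allRange D.relOK 4113673 2212 = true := by decide +kernel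
theorem c_rel_1019 : allRange D.relOK 4115885 2089 = true := by decide +kernel
theorem c_rel_1020 : allRange D.relOK 4117974 2041 = true := by decide +kernel
theorem c_rel_1021 : allRange D.relOK 4120015 2076 = true := by decide +kernel
theorem c_rel_1022 : allRange D.relOK 4122091 1990 = true := by decide +kernel
theorem c_rel_1023 : allRange D.relOK 4124081 2163 = true := by decide +kernel
theorem c_rel_1024 : allRange D.relOK 4126244 1621 = true := by decide +kernel
theorem c_rel_1025 : allRange D.relOK 4127865 2128 = true := by decide +kernel
theorem c_rel_1026 : allRange D.relOK 4129993 1847 = true := by decide +kernel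
theorem c_rel_1027 : allRange D.relOK 4131840 1767 = true := by decide +kernel
theorem c_rel_1028 : allRange D.relOK 4133607 2219 = true := by decide +kernel
theorem c_rel_1029 : allRange D.relOK 4135826 2207 = true := by decide +kernel
theorem c_rel_1030 : allRange D.relOK 4138033 2127 = true := by decide +kernel
theorem c_rel_1031 : allRange D.relOK 4140160 2092 = true := by decide +kernel
theorem c_rel_1032 : allRange D.relOK 4142252 1870 = true := by decide +kernel
theorem c_rel_1033 : allRange D.relOK 4144122 1785 = true := by decide +kernel
theorem c_rel_1034 : allRange D.relOK 4145907 1922 = true := by decide +kernel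
theorem c_rel_1035 : allRange D.relOK 4147829 2091 = true := by decide +kernel
theorem c_rel_1036 : allRange D.relOK 4149920 2183 = true := by decide +kernel
theorem c_rel_1037 : allRange D.relOK 4152103 1875 = true := by decide +kernel
theorem c_rel_1038 : allRange D.relOK 4153978 1873 = true := by decide +kernel
theorem c_rel_1039 : allRange D.relOK 4155851 1852 = true := by decide +kernel
theorem c_rel_1040 : allRange D.relOK 4157703 1913 = true := by decide +kernel
theorem c_rel_1041 : allRange D.relOK 4159616 1860 = true := by decide +kernel
theorem c_rel_1042 : allRange D.relOK 4161476 1817 = true := by decide +kernel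
theorem c_rel_1043 : allRange D.relOK 4163293 2054 = true := by decide +kernel
theorem c_rel_1044 : allRange D.relOK 4165347 1540 = true := by decide +kernel
theorem c_rel_1045 : allRange D.relOK 4166887 2045 = true := by decide +kernel
theorem c_rel_1046 : allRange D.relOK 4168932 1976 = true := by decide +kernel
theorem c_rel_1047 : allRange D.relOK 4170908 1703 = true := by decide +kernel
theorem c_rel_1048 : allRange D.relOK 4172611 2067 = true := by decide +kernel
theorem c_rel_1049 : allRange D.relOK 4174678 2081 = true := by decide +kernel
theorem c_rel_1050 : allRange D.relOK 4176759 1539 = true := by decide +kernel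
theorem c_rel_1051 : allRange D.relOK 4178298 1871 = true := by decide +kernel
theorem c_rel_1052 : allRange D.relOK 4180169 2149 = true := by decide +kernel
theorem c_rel_1053 : allRange D.relOK 4182318 1930 = true := by decide +kernel
theorem c_rel_1054 : allRange D.relOK 4184248 1764 = true := by decide +kernel
theorem c_rel_1055 : allRange D.relOK 4186012 1876 = true := by decide +kernel
theorem c_rel_1056 : allRange D.relOK 4187888 1894 = true := by decide +kernel
theorem c_rel_1057 : allRange D.relOK 4189782 2042 = true := by decide +kernel
theorem c_rel_1058 : allRange D.relOK 4191824 2039 = true := by decide +kernel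
theorem c_rel_1059 : allRange D.relOK 4193863 1998 = true := by decide +kernel
theorem c_rel_1060 : allRange D.relOK 4195861 1654 = true := by decide +kernel
theorem c_rel_1061 : allRange D.relOK 4197515 2111 = true := by decide +kernel
theorem c_rel_1062 : allRange D.relOK 4199626 2054 = true := by decide +kernel
theorem c_rel_1063 : allRange D.relOK 4201680 1943 = true := by decide +kernel
theorem c_rel_1064 : allRange D.relOK 4203623 1935 = true := by decide +kernel
theorem c_rel_1065 : allRange D.relOK 4205558 2043 = true := by decide +kernel
theorem c_rel_1066 : allRange D.relOK 4207601 1830 = true := by decide +kernel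
theorem c_rel_1067 : allRange D.relOK 4209431 1802 = true := by decide +kernel
theorem c_rel_1068 : allRange D.relOK 4211233 1898 = true := by decide +kernel
theorem c_rel_1069 : allRange D.relOK 4213131 2002 = true := by decide +kernel
theorem c_rel_1070 : allRange D.relOK 4215133 2048 = true := by decide +kernel
theorem c_rel_1071 : allRange D.relOK 4217181 1730 = true := by decide +kernel
theorem c_rel_1072 : allRange D.relOK 4218911 1956 = true := by decide +kernel
theorem c_rel_1073 : allRange D.relOK 4220867 1924 = true := by decide +kernel
theorem c_rel_1074 : allRange D.relOK 4222791 1870 = true := by decide +kernel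
theorem c_rel_1075 : allRange D.relOK 4224661 2026 = true := by decide +kernel
theorem c_rel_1076 : allRange D.relOK 4226687 2022 = true := by decide +kernel
theorem c_rel_1077 : allRange D.relOK 4228709 2035 = true := by decide +kernel
theorem c_rel_1078 : allRange D.relOK 4230744 1877 = true := by decide +kernel
theorem c_rel_1079 : allRange D.relOK 4232621 2069 = true := by decide +kernel
theorem c_rel_1080 : allRange D.relOK 4234690 1816 = true := by decide +kernel
theorem c_rel_1081 : allRange D.relOK 4236506 2067 = true := by decide +kernel
theorem c_rel_1082 : allRange D.relOK 4238573 1881 = true := by decide +kernel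
theorem c_rel_1083 : allRange D.relOK 4240454 2068 = true := by decide +kernel
theorem c_rel_1084 : allRange D.relOK 4242522 1856 = true := by decide +kernel
theorem c_rel_1085 : allRange D.relOK 4244378 1839 = true := by decide +kernel
theorem c_rel_1086 : allRange D.relOK 4246217 1832 = true := by decide +kernel
theorem c_rel_1087 : allRange D.relOK 4248049 1971 = true := by decide +kernel
theorem c_rel_1088 : allRange D.relOK 4250020 1592 = true := by decide +kernel
theorem c_rel_1089 : allRange D.relOK 4251612 2020 = true := by decide +kernel
theorem c_rel_1090 : allRange D.relOK 4253632 1768 = true := by decide +kernel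
theorem c_rel_1091 : allRange D.relOK 4255400 1591 = true := by decide +kernel
theorem c_rel_1092 : allRange D.relOK 4256991 1702 = true := by decide +kernel
theorem c_rel_1093 : allRange D.relOK 4258693 1729 = true := by decide +kernel
theorem c_rel_1094 : allRange D.relOK 4260422 1996 = true := by decide +kernel
theorem c_rel_1095 : allRange D.relOK 4262418 2036 = true := by decide +kernel
theorem c_rel_1096 : allRange D.relOK 4264454 2048 = true := by decide +kernel
theorem c_rel_1097 : allRange D.relOK 4266502 1829 = true := by decide +kernel
theorem c_rel_1098 : allRange D.relOK 4268331 1949 = true := by decide +kernel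
theorem c_rel_1099 : allRange D.relOK 4270280 1924 = true := by decide +kernel
theorem c_rel_1100 : allRange D.relOK 4272204 2129 = true := by decide +kernel
theorem c_rel_1101 : allRange D.relOK 4274333 1892 = true := by decide +kernel
theorem c_rel_1102 : allRange D.relOK 4276225 1938 = true := by decide +kernel
theorem c_rel_1103 : allRange D.relOK 4278163 1728 = true := by decide +kernel
theorem c_rel_1104 : allRange D.relOK 4279891 1958 = true := by decide +kernel
theorem c_rel_1105 : allRange D.relOK 4281849 2028 = true := by decide +kernel
theorem c_rel_1106 : allRange D.relOK 4283877 1828 = true := by decide +kernel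
theorem c_rel_1107 : allRange D.relOK 4285705 2149 = true := by decide +kernel
theorem c_rel_1108 : allRange D.relOK 4287854 1745 = true := by decide +kernel
theorem c_rel_1109 : allRange D.relOK 4289599 2061 = true := by decide +kernel
theorem c_rel_1110 : allRange D.relOK 4291660 2140 = true := by decide +kernel
theorem c_rel_1111 : allRange D.relOK 4293800 2137 = true := by decide +kernel

end Cfsg.Agent.Lib.Helper4.TCD.HNm
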