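import Cfsg.Agent.Lib.Helper4.TCD_HNm_Acc

namespace Cfsg.Agent.Lib.Helper4.TCD.HNm

open Cfsg.Agent.Lib.Helper4.TC

set_option maxRecDepth 100000
set_option Elab.async false

theorem c_act13_111 : allRange (fun i => Nat.beq (actR13 i) i) 1110000 10000 = true := by decide +kernel
theorem c_act13_112 : allRange (fun i => Nat.beq (actR13 i) i) 1120000 10000 = true := by decide +kernel
theorem c_act13_113 : allRange (fun i => Nat.beq (actR13 i) i) 1130000 10000 = true := by decide +kernel
theorem c_act13_114 : allRange (fun i => Nat.beq (actR13 i) i) 1140000 10000 = true := by decide +kernel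
theorem c_act13_115 : allRange (fun i => Nat.beq (actR13 i) i) 1150000 10000 = true := by decide +kernel
theorem c_act13_116 : allRange (fun i => Nat.beq (actR13 i) i) 1160000 10000 = true := by decide +kernel
theorem c_act13_117 : allRange (fun i => Nat.beq (actR13 i) i) 1170000 10000 = true := by decide +kernel
theorem c_act13_118 : allRange (fun i => Nat.beq (actR13 i) i) 1180000 10000 = true := by decide +kernel
theorem c_act13_119 : allRange (fun i => Nat.beq (actR13 i) i) 1190000 10000 = true := by decide +kernel
theorem c_act13_120 : allRange (fun i => Nat.beq (actR13 i) i) 1200000 10000 = true := by decide +kernel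
theorem c_act13_121 : allRange (fun i => Nat.beq (actR13 i) i) 1210000 10000 = true := by decide +kernel
theorem c_act13_122 : allRange (fun i => Nat.beq (actR13 i) i) 1220000 10000 = true := by decide +kernel
theorem c_act13_123 : allRange (fun i => Nat.beq (actR13 i) i) 1230000 10000 = true := by decide +kernel
theorem c_act13_124 : allRange (fun i => Nat.beq (actR13 i) i) 1240000 10000 = true := by decide +kernel
theorem c_act13_125 : allRange (fun i => Nat.beq (actR13 i) i) 1250000 10000 = true := by decide +kernel
theorem c_act13_126 : allRange (fun i => Nat.beq (actR13 i) i) 1260000 10000 = true := by decide +kernel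
theorem c_act13_127 : allRange (fun i => Nat.beq (actR13 i) i) 1270000 10000 = true := by decide +kernel
theorem c_act13_128 : allRange (fun i => Nat.beq (actR13 i) i) 1280000 10000 = true := by decide +kernel
theorem c_act13_129 : allRange (fun i => Nat.beq (actR13 i) i) 1290000 10000 = true := by decide +kernel
theorem c_act13_130 : allRange (fun i => Nat.beq (actR13 i) i) 1300000 10000 = true := by decide +kernel
theorem c_act13_131 : allRange (fun i => Nat.beq (actR13 i) i) 1310000 10000 = true := by decide +kernel
theorem c_act13_132 : allRange (fun i => Nat.beq (actR13 i) i) 1320000 10000 = true := by decide +kernel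
theorem c_act13_133 : allRange (fun i => Nat.beq (actR13 i) i) 1330000 10000 = true := by decide +kernel
theorem c_act13_134 : allRange (fun i => Nat.beq (actR13 i) i) 1340000 10000 = true := by decide +kernel
theorem c_act13_135 : allRange (fun i => Nat.beq (actR13 i) i) 1350000 10000 = true := by decide +kernel
theorem c_act13_136 : allRange (fun i => Nat.beq (actR13 i) i) 1360000 10000 = true := by decide +kernel
theorem c_act13_137 : allRange (fun i => Nat.beq (actR13 i) i) 1370000 10000 = true := by decide +kernel
theorem c_act13_138 : allRange (fun i => Nat.beq (actR13 i) i) 1380000 10000 = true := by decide +kernel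
theorem c_act13_139 : allRange (fun i => Nat.beq (actR13 i) i) 1390000 10000 = true := by decide +kernel
theorem c_act13_140 : allRange (fun i => Nat.beq (actR13 i) i) 1400000 10000 = true := by decide +kernel
theorem c_act13_141 : allRange (fun i => Nat.beq (actR13 i) i) 1410000 10000 = true := by decide +kernel
theorem c_act13_142 : allRange (fun i => Nat.beq (actR13 i) i) 1420000 10000 = true := by decide +kernel
theorem c_act13_143 : allRange (fun i => Nat.beq (actR13 i) i) 1430000 10000 = true := by decide +kernel
theorem c_act13_144 : allRange (fun i => Nat.beq (actR13 i) i) 1440000 10000 = true := by decide +kernel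
theorem c_act13_145 : allRange (fun i => Nat.beq (actR13 i) i) 1450000 10000 = true := by decide +kernel
theorem c_act13_146 : allRange (fun i => Nat.beq (actR13 i) i) 1460000 10000 = true := by decide +kernel
theorem c_act13_147 : allRange (fun i => Nat.beq (actR13 i) i) 1470000 10000 = true := by decide +kernel
theorem c_act13_148 : allRange (fun i => Nat.beq (actR13 i) i) 1480000 10000 = true := by decide +kernel
theorem c_act13_149 : allRange (fun i => Nat.beq (actR13 i) i) 1490000 10000 = true := by decide +kernel
theorem c_act13_150 : allRange (fun i => Nat.beq (actR13 i) i) 1500000 10000 = true := by decide +kernel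
theorem c_act13_151 : allRange (fun i => Nat.beq (actR13 i) i) 1510000 10000 = true := by decide +kernel
theorem c_act13_152 : allRange (fun i => Nat.beq (actR13 i) i) 1520000 10000 = true := by decide +kernel
theorem c_act13_153 : allRange (fun i => Nat.beq (actR13 i) i) 1530000 9000 = true := by decide +kernel
theorem c_oinv0_0 : allRange (Tab.orbInvOK T D subs 1 1409) 1 1408 = true := by decide +kernel
theorem c_otree0_0 : allRange (Tab.orbTreeOK T D subs oparTab olabTab 1) 2 1407 = true := by decide +kernel
theorem c_oinv1_0 : allRange (Tab.orbInvOK T D subs 1409 3609) 1409 2200 = true := by decide +kernel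
theorem c_otree1_0 : allRange (Tab.orbTreeOK T D subs oparTab olabTab 1409) 1410 2199 = true := by decide +kernel
theorem c_oinv2_0 : allRange (Tab.orbInvOK T D subs 3609 9384) 3609 5775 = true := by decide +kernel
theorem c_otree2_0 : allRange (Tab.orbTreeOK T D subs oparTab olabTab 3609) 3610 5774 = true := by decide +kernel
theorem c_oinv3_0 : allRange (Tab.orbInvOK T D subs 9384 44584) 9384 10000 = true := by decide +kernel
theorem c_oinv3_1 : allRange (Tab.orbInvOK T D subs 9384 44584) 19384 10000 = true := by decide +kernel
theorem c_oinv3_2 : allRange (Tab.orbInvOK T D subs 9384 44584) 29384 10000 = true := by decide +kernel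
theorem c_oinv3_3 : allRange (Tab.orbInvOK T D subs 9384 44584) 39384 5200 = true := by decide +kernel
theorem c_otree3_0 : allRange (Tab.orbTreeOK T D subs oparTab olabTab 9384) 9385 20000 = true := by decide +kernel
theorem c_otree3_1 : allRange (Tab.orbTreeOK T D subs oparTab olabTab 9384) 29385 15199 = true := by decide +kernel

end Cfsg.Agent.Lib.Helper4.TCD.HNm
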