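import Cfsg.Agent.Lib.Helper4.TCD_HNm_Acc

namespace Cfsg.Agent.Lib.Helper4.TCD.HNm

open Cfsg.Agent.Lib.Helper4.TC

set_option maxRecDepth 100000
set_option Elab.async false

theorem c_fin_17 : allGrid (T.finOK D) 25500 1500 8 = true := by decide +kernel
theorem c_fin_18 : allGrid (T.finOK D) 27000 1500 8 = true := by decide +kernel
theorem c_fin_19 : allGrid (T.finOK D) 28500 1500 8 = true := by decide +kernel
theorem c_fin_20 : allGrid (T.finOK D) 30000 1500 8 = true := by decide +kernel
theorem c_fin_21 : allGrid (T.finOK D) 31500 1500 8 = true := by decide +kernel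
theorem c_fin_22 : allGrid (T.finOK D) 33000 1500 8 = true := by decide +kernel
theorem c_fin_23 : allGrid (T.finOK D) 34500 1500 8 = true := by decide +kernel
theorem c_fin_24 : allGrid (T.finOK D) 36000 1500 8 = true := by decide +kernel
theorem c_fin_25 : allGrid (T.finOK D) 37500 1500 8 = true := by decide +kernel
theorem c_fin_26 : allGrid (T.finOK D) 39000 1500 8 = true := by decide +kernel
theorem c_fin_27 : allGrid (T.finOK D) 40500 1500 8 = true := by decide +kernel
theorem c_fin_28 : allGrid (T.finOK D) 42000 1500 8 = true := by decide +kernel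
theorem c_fin_29 : allGrid (T.finOK D) 43500 1500 8 = true := by decide +kernel
theorem c_fin_30 : allGrid (T.finOK D) 45000 1500 8 = true := by decide +kernel
theorem c_fin_31 : allGrid (T.finOK D) 46500 1500 8 = true := by decide +kernel
theorem c_fin_32 : allGrid (T.finOK D) 48000 1500 8 = true := by decide +kernel
theorem c_fin_33 : allGrid (T.finOK D) 49500 1500 8 = true := by decide +kernel
theorem c_fin_34 : allGrid (T.finOK D) 51000 1500 8 = true := by decide +kernel
theorem c_fin_35 : allGrid (T.finOK D) 52500 1500 8 = true := by decide +kernel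
theorem c_fin_36 : allGrid (T.finOK D) 54000 1500 8 = true := by decide +kernel
theorem c_fin_37 : allGrid (T.finOK D) 55500 1500 8 = true := by decide +kernel
theorem c_fin_38 : allGrid (T.finOK D) 57000 1500 8 = true := by decide +kernel
theorem c_fin_39 : allGrid (T.finOK D) 58500 1500 8 = true := by decide +kernel
theorem c_fin_40 : allGrid (T.finOK D) 60000 1500 8 = true := by decide +kernel
theorem c_fin_41 : allGrid (T.finOK D) 61500 1500 8 = true := by decide +kernel
theorem c_fin_42 : allGrid (T.finOK D) 63000 1500 8 = true := by decide +kernel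
theorem c_fin_43 : allGrid (T.finOK D) 64500 1500 8 = true := by decide +kernel
theorem c_fin_44 : allGrid (T.finOK D) 66000 1500 8 = true := by decide +kernel
theorem c_fin_45 : allGrid (T.finOK D) 67500 1500 8 = true := by decide +kernel
theorem c_fin_46 : allGrid (T.finOK D) 69000 1500 8 = true := by decide +kernel
theorem c_fin_47 : allGrid (T.finOK D) 70500 1500 8 = true := by decide +kernel
theorem c_fin_48 : allGrid (T.finOK D) 72000 1500 8 = true := by decide +kernel
theorem c_fin_49 : allGrid (T.finOK D) 73500 1500 8 = true := by decide +kernel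
theorem c_fin_50 : allGrid (T.finOK D) 75000 1500 8 = true := by decide +kernel
theorem c_fin_51 : allGrid (T.finOK D) 76500 1500 8 = true := by decide +kernel
theorem c_fin_52 : allGrid (T.finOK D) 78000 1500 8 = true := by decide +kernel
theorem c_fin_53 : allGrid (T.finOK D) 79500 1500 8 = true := by decide +kernel
theorem c_fin_54 : allGrid (T.finOK D) 81000 1500 8 = true := by decide +kernel
theorem c_fin_55 : allGrid (T.finOK D) 82500 1500 8 = true := by decide +kernel
theorem c_fin_56 : allGrid (T.finOK D) 84000 1500 8 = true := by decide +kernel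
theorem c_fin_57 : allGrid (T.finOK D) 85500 1500 8 = true := by decide +kernel
theorem c_fin_58 : allGrid (T.finOK D) 87000 1500 8 = true := by decide +kernel
theorem c_fin_59 : allGrid (T.finOK D) 88500 1500 8 = true := by decide +kernel
theorem c_fin_60 : allGrid (T.finOK D) 90000 1500 8 = true := by decide +kernel
theorem c_fin_61 : allGrid (T.finOK D) 91500 1500 8 = true := by decide +kernel
theorem c_fin_62 : allGrid (T.finOK D) 93000 1500 8 = true := by decide +kernel
theorem c_fin_63 : allGrid (T.finOK D) 94500 1500 8 = true := by decide +kernel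
theorem c_fin_64 : allGrid (T.finOK D) 96000 1500 8 = true := by decide +kernel
theorem c_fin_65 : allGrid (T.finOK D) 97500 1500 8 = true := by decide +kernel
theorem c_fin_66 : allGrid (T.finOK D) 99000 1500 8 = true := by decide +kernel

end Cfsg.Agent.Lib.Helper4.TCD.HNm
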