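import Cfsg.Agent.Lib.Helper4.TCD_HNm_Acc

namespace Cfsg.Agent.Lib.Helper4.TCD.HNm

open Cfsg.Agent.Lib.Helper4.TC

set_option maxRecDepth 100000
set_option Elab.async false

theorem c_fin_767 : allGrid (T.finOK D) 1150500 1500 8 = true := by decide +kernel
theorem c_fin_768 : allGrid (T.finOK D) 1152000 1500 8 = true := by decide +kernel
theorem c_fin_769 : allGrid (T.finOK D) 1153500 1500 8 = true := by decide +kernel
theorem c_fin_770 : allGrid (T.finOK D) 1155000 1500 8 = true := by decide +kernel
theorem c_fin_771 : allGrid (T.finOK D) 1156500 1500 8 = true := by decide +kernel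
theorem c_fin_772 : allGrid (T.finOK D) 1158000 1500 8 = true := by decide +kernel
theorem c_fin_773 : allGrid (T.finOK D) 1159500 1500 8 = true := by decide +kernel
theorem c_fin_774 : allGrid (T.finOK D) 1161000 1500 8 = true := by decide +kernel
theorem c_fin_775 : allGrid (T.finOK D) 1162500 1500 8 = true := by decide +kernel
theorem c_fin_776 : allGrid (T.finOK D) 1164000 1500 8 = true := by decide +kernel
theorem c_fin_777 : allGrid (T.finOK D) 1165500 1500 8 = true := by decide +kernel
theorem c_fin_778 : allGrid (T.finOK D) 1167000 1500 8 = true := by decide +kernel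
theorem c_fin_779 : allGrid (T.finOK D) 1168500 1500 8 = true := by decide +kernel
theorem c_fin_780 : allGrid (T.finOK D) 1170000 1500 8 = true := by decide +kernel
theorem c_fin_781 : allGrid (T.finOK D) 1171500 1500 8 = true := by decide +kernel
theorem c_fin_782 : allGrid (T.finOK D) 1173000 1500 8 = true := by decide +kernel
theorem c_fin_783 : allGrid (T.finOK D) 1174500 1500 8 = true := by decide +kernel
theorem c_fin_784 : allGrid (T.finOK D) 1176000 1500 8 = true := by decide +kernel
theorem c_fin_785 : allGrid (T.finOK D) 1177500 1500 8 = true := by decide +kernel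
theorem c_fin_786 : allGrid (T.finOK D) 1179000 1500 8 = true := by decide +kernel
theorem c_fin_787 : allGrid (T.finOK D) 1180500 1500 8 = true := by decide +kernel
theorem c_fin_788 : allGrid (T.finOK D) 1182000 1500 8 = true := by decide +kernel
theorem c_fin_789 : allGrid (T.finOK D) 1183500 1500 8 = true := by decide +kernel
theorem c_fin_790 : allGrid (T.finOK D) 1185000 1500 8 = true := by decide +kernel
theorem c_fin_791 : allGrid (T.finOK D) 1186500 1500 8 = true := by decide +kernel
theorem c_fin_792 : allGrid (T.finOK D) 1188000 1500 8 = true := by decide +kernel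
theorem c_fin_793 : allGrid (T.finOK D) 1189500 1500 8 = true := by decide +kernel
theorem c_fin_794 : allGrid (T.finOK D) 1191000 1500 8 = true := by decide +kernel
theorem c_fin_795 : allGrid (T.finOK D) 1192500 1500 8 = true := by decide +kernel
theorem c_fin_796 : allGrid (T.finOK D) 1194000 1500 8 = true := by decide +kernel
theorem c_fin_797 : allGrid (T.finOK D) 1195500 1500 8 = true := by decide +kernel
theorem c_fin_798 : allGrid (T.finOK D) 1197000 1500 8 = true := by decide +kernel
theorem c_fin_799 : allGrid (T.finOK D) 1198500 1500 8 = true := by decide +kernel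
theorem c_fin_800 : allGrid (T.finOK D) 1200000 1500 8 = true := by decide +kernel
theorem c_fin_801 : allGrid (T.finOK D) 1201500 1500 8 = true := by decide +kernel
theorem c_fin_802 : allGrid (T.finOK D) 1203000 1500 8 = true := by decide +kernel
theorem c_fin_803 : allGrid (T.finOK D) 1204500 1500 8 = true := by decide +kernel
theorem c_fin_804 : allGrid (T.finOK D) 1206000 1500 8 = true := by decide +kernel
theorem c_fin_805 : allGrid (T.finOK D) 1207500 1500 8 = true := by decide +kernel
theorem c_fin_806 : allGrid (T.finOK D) 1209000 1500 8 = true := by decide +kernel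
theorem c_fin_807 : allGrid (T.finOK D) 1210500 1500 8 = true := by decide +kernel
theorem c_fin_808 : allGrid (T.finOK D) 1212000 1500 8 = true := by decide +kernel
theorem c_fin_809 : allGrid (T.finOK D) 1213500 1500 8 = true := by decide +kernel
theorem c_fin_810 : allGrid (T.finOK D) 1215000 1500 8 = true := by decide +kernel
theorem c_fin_811 : allGrid (T.finOK D) 1216500 1500 8 = true := by decide +kernel
theorem c_fin_812 : allGrid (T.finOK D) 1218000 1500 8 = true := by decide +kernel
theorem c_fin_813 : allGrid (T.finOK D) 1219500 1500 8 = true := by decide +kernel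
theorem c_fin_814 : allGrid (T.finOK D) 1221000 1500 8 = true := by decide +kernel
theorem c_fin_815 : allGrid (T.finOK D) 1222500 1500 8 = true := by decide +kernel
theorem c_fin_816 : allGrid (T.finOK D) 1224000 1500 8 = true := by decide +kernel

end Cfsg.Agent.Lib.Helper4.TCD.HNm
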