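import Cfsg.Agent.Lib.Helper4.TCD_HNm_Acc

namespace Cfsg.Agent.Lib.Helper4.TCD.HNm

open Cfsg.Agent.Lib.Helper4.TC

set_option maxRecDepth 100000
set_option Elab.async false

theorem c_act3_214 : allRange (fun i => Nat.beq (actR3 i) i) 611398 2857 = true := by decide +kernel
theorem c_act3_215 : allRange (fun i => Nat.beq (actR3 i) i) 614255 2857 = true := by decide +kernel
theorem c_act3_216 : allRange (fun i => Nat.beq (actR3 i) i) 617112 2857 = true := by decide +kernel
theorem c_act3_217 : allRange (fun i => Nat.beq (actR3 i) i) 619969 2857 = true := by decide +kernel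
theorem c_act3_218 : allRange (fun i => Nat.beq (actR3 i) i) 622826 2857 = true := by decide +kernel
theorem c_act3_219 : allRange (fun i => Nat.beq (actR3 i) i) 625683 2857 = true := by decide +kernel
theorem c_act3_220 : allRange (fun i => Nat.beq (actR3 i) i) 628540 2857 = true := by decide +kernel
theorem c_act3_221 : allRange (fun i => Nat.beq (actR3 i) i) 631397 2857 = true := by decide +kernel
theorem c_act3_222 : allRange (fun i => Nat.beq (actR3 i) i) 634254 2857 = true := by decide +kernel
theorem c_act3_223 : allRange (fun i => Nat.beq (actR3 i) i) 637111 2857 = true := by decide +kernel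
theorem c_act3_224 : allRange (fun i => Nat.beq (actR3 i) i) 639968 2857 = true := by decide +kernel
theorem c_act3_225 : allRange (fun i => Nat.beq (actR3 i) i) 642825 2857 = true := by decide +kernel
theorem c_act3_226 : allRange (fun i => Nat.beq (actR3 i) i) 645682 2857 = true := by decide +kernel
theorem c_act3_227 : allRange (fun i => Nat.beq (actR3 i) i) 648539 2857 = true := by decide +kernel
theorem c_act3_228 : allRange (fun i => Nat.beq (actR3 i) i) 651396 2857 = true := by decide +kernel
theorem c_act3_229 : allRange (fun i => Nat.beq (actR3 i) i) 654253 2857 = true := by decide +kernel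
theorem c_act3_230 : allRange (fun i => Nat.beq (actR3 i) i) 657110 2857 = true := by decide +kernel
theorem c_act3_231 : allRange (fun i => Nat.beq (actR3 i) i) 659967 2857 = true := by decide +kernel
theorem c_act3_232 : allRange (fun i => Nat.beq (actR3 i) i) 662824 2857 = true := by decide +kernel
theorem c_act3_233 : allRange (fun i => Nat.beq (actR3 i) i) 665681 2857 = true := by decide +kernel
theorem c_act3_234 : allRange (fun i => Nat.beq (actR3 i) i) 668538 2857 = true := by decide +kernel
theorem c_act3_235 : allRange (fun i => Nat.beq (actR3 i) i) 671395 2857 = true := by decide +kernel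
theorem c_act3_236 : allRange (fun i => Nat.beq (actR3 i) i) 674252 2857 = true := by decide +kernel
theorem c_act3_237 : allRange (fun i => Nat.beq (actR3 i) i) 677109 2857 = true := by decide +kernel
theorem c_act3_238 : allRange (fun i => Nat.beq (actR3 i) i) 679966 2857 = true := by decide +kernel
theorem c_act3_239 : allRange (fun i => Nat.beq (actR3 i) i) 682823 2857 = true := by decide +kernel
theorem c_act3_240 : allRange (fun i => Nat.beq (actR3 i) i) 685680 2857 = true := by decide +kernel
theorem c_act3_241 : allRange (fun i => Nat.beq (actR3 i) i) 688537 2857 = true := by decide +kernel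
theorem c_act3_242 : allRange (fun i => Nat.beq (actR3 i) i) 691394 2857 = true := by decide +kernel
theorem c_act3_243 : allRange (fun i => Nat.beq (actR3 i) i) 694251 2857 = true := by decide +kernel
theorem c_act3_244 : allRange (fun i => Nat.beq (actR3 i) i) 697108 2857 = true := by decide +kernel
theorem c_act3_245 : allRange (fun i => Nat.beq (actR3 i) i) 699965 2857 = true := by decide +kernel
theorem c_act3_246 : allRange (fun i => Nat.beq (actR3 i) i) 702822 2857 = true := by decide +kernel
theorem c_act3_247 : allRange (fun i => Nat.beq (actR3 i) i) 705679 2857 = true := by decide +kernel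
theorem c_act3_248 : allRange (fun i => Nat.beq (actR3 i) i) 708536 2857 = true := by decide +kernel
theorem c_act3_249 : allRange (fun i => Nat.beq (actR3 i) i) 711393 2857 = true := by decide +kernel
theorem c_act3_250 : allRange (fun i => Nat.beq (actR3 i) i) 714250 2857 = true := by decide +kernel
theorem c_act3_251 : allRange (fun i => Nat.beq (actR3 i) i) 717107 2857 = true := by decide +kernel
theorem c_act3_252 : allRange (fun i => Nat.beq (actR3 i) i) 719964 2857 = true := by decide +kernel
theorem c_act3_253 : allRange (fun i => Nat.beq (actR3 i) i) 722821 2857 = true := by decide +kernel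
theorem c_act3_254 : allRange (fun i => Nat.beq (actR3 i) i) 725678 2857 = true := by decide +kernel
theorem c_act3_255 : allRange (fun i => Nat.beq (actR3 i) i) 728535 2857 = true := by decide +kernel
theorem c_act3_256 : allRange (fun i => Nat.beq (actR3 i) i) 731392 2857 = true := by decide +kernel
theorem c_act3_257 : allRange (fun i => Nat.beq (actR3 i) i) 734249 2857 = true := by decide +kernel
theorem c_act3_258 : allRange (fun i => Nat.beq (actR3 i) i) 737106 2857 = true := by decide +kernel
theorem c_act3_259 : allRange (fun i => Nat.beq (actR3 i) i) 739963 2857 = true := by decide +kernel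
theorem c_act3_260 : allRange (fun i => Nat.beq (actR3 i) i) 742820 2857 = true := by decide +kernel
theorem c_act3_261 : allRange (fun i => Nat.beq (actR3 i) i) 745677 2857 = true := by decide +kernel
theorem c_act3_262 : allRange (fun i => Nat.beq (actR3 i) i) 748534 2857 = true := by decide +kernel
theorem c_act3_263 : allRange (fun i => Nat.beq (actR3 i) i) 751391 2857 = true := by decide +kernel

end Cfsg.Agent.Lib.Helper4.TCD.HNm
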