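import Cfsg.Agent.Lib.Helper4.TCD_HNm_Acc

namespace Cfsg.Agent.Lib.Helper4.TCD.HNm

open Cfsg.Agent.Lib.Helper4.TC

set_option maxRecDepth 100000
set_option Elab.async false

theorem c_act5_14 : allRange (fun i => Nat.beq (actR5 i) i) 35000 2500 = true := by decide +kernel
theorem c_act5_15 : allRange (fun i => Nat.beq (actR5 i) i) 37500 2500 = true := by decide +kernel
theorem c_act5_16 : allRange (fun i => Nat.beq (actR5 i) i) 40000 2500 = true := by decide +kernel
theorem c_act5_17 : allRange (fun i => Nat.beq (actR5 i) i) 42500 2500 = true := by decide +kernel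
theorem c_act5_18 : allRange (fun i => Nat.beq (actR5 i) i) 45000 2500 = true := by decide +kernel
theorem c_act5_19 : allRange (fun i => Nat.beq (actR5 i) i) 47500 2500 = true := by decide +kernel
theorem c_act5_20 : allRange (fun i => Nat.beq (actR5 i) i) 50000 2500 = true := by decide +kernel
theorem c_act5_21 : allRange (fun i => Nat.beq (actR5 i) i) 52500 2500 = true := by decide +kernel
theorem c_act5_22 : allRange (fun i => Nat.beq (actR5 i) i) 55000 2500 = true := by decide +kernel
theorem c_act5_23 : allRange (fun i => Nat.beq (actR5 i) i) 57500 2500 = true := by decide +kernel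
theorem c_act5_24 : allRange (fun i => Nat.beq (actR5 i) i) 60000 2500 = true := by decide +kernel
theorem c_act5_25 : allRange (fun i => Nat.beq (actR5 i) i) 62500 2500 = true := by decide +kernel
theorem c_act5_26 : allRange (fun i => Nat.beq (actR5 i) i) 65000 2500 = true := by decide +kernel
theorem c_act5_27 : allRange (fun i => Nat.beq (actR5 i) i) 67500 2500 = true := by decide +kernel
theorem c_act5_28 : allRange (fun i => Nat.beq (actR5 i) i) 70000 2500 = true := by decide +kernel
theorem c_act5_29 : allRange (fun i => Nat.beq (actR5 i) i) 72500 2500 = true := by decide +kernel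
theorem c_act5_30 : allRange (fun i => Nat.beq (actR5 i) i) 75000 2500 = true := by decide +kernel
theorem c_act5_31 : allRange (fun i => Nat.beq (actR5 i) i) 77500 2500 = true := by decide +kernel
theorem c_act5_32 : allRange (fun i => Nat.beq (actR5 i) i) 80000 2500 = true := by decide +kernel
theorem c_act5_33 : allRange (fun i => Nat.beq (actR5 i) i) 82500 2500 = true := by decide +kernel
theorem c_act5_34 : allRange (fun i => Nat.beq (actR5 i) i) 85000 2500 = true := by decide +kernel
theorem c_act5_35 : allRange (fun i => Nat.beq (actR5 i) i) 87500 2500 = true := by decide +kernel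
theorem c_act5_36 : allRange (fun i => Nat.beq (actR5 i) i) 90000 2500 = true := by decide +kernel
theorem c_act5_37 : allRange (fun i => Nat.beq (actR5 i) i) 92500 2500 = true := by decide +kernel
theorem c_act5_38 : allRange (fun i => Nat.beq (actR5 i) i) 95000 2500 = true := by decide +kernel
theorem c_act5_39 : allRange (fun i => Nat.beq (actR5 i) i) 97500 2500 = true := by decide +kernel
theorem c_act5_40 : allRange (fun i => Nat.beq (actR5 i) i) 100000 2500 = true := by decide +kernel
theorem c_act5_41 : allRange (fun i => Nat.beq (actR5 i) i) 102500 2500 = true := by decide +kernel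
theorem c_act5_42 : allRange (fun i => Nat.beq (actR5 i) i) 105000 2500 = true := by decide +kernel
theorem c_act5_43 : allRange (fun i => Nat.beq (actR5 i) i) 107500 2500 = true := by decide +kernel
theorem c_act5_44 : allRange (fun i => Nat.beq (actR5 i) i) 110000 2500 = true := by decide +kernel
theorem c_act5_45 : allRange (fun i => Nat.beq (actR5 i) i) 112500 2500 = true := by decide +kernel
theorem c_act5_46 : allRange (fun i => Nat.beq (actR5 i) i) 115000 2500 = true := by decide +kernel
theorem c_act5_47 : allRange (fun i => Nat.beq (actR5 i) i) 117500 2500 = true := by decide +kernel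
theorem c_act5_48 : allRange (fun i => Nat.beq (actR5 i) i) 120000 2500 = true := by decide +kernel
theorem c_act5_49 : allRange (fun i => Nat.beq (actR5 i) i) 122500 2500 = true := by decide +kernel
theorem c_act5_50 : allRange (fun i => Nat.beq (actR5 i) i) 125000 2500 = true := by decide +kernel
theorem c_act5_51 : allRange (fun i => Nat.beq (actR5 i) i) 127500 2500 = true := by decide +kernel
theorem c_act5_52 : allRange (fun i => Nat.beq (actR5 i) i) 130000 2500 = true := by decide +kernel
theorem c_act5_53 : allRange (fun i => Nat.beq (actR5 i) i) 132500 2500 = true := by decide +kernel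
theorem c_act5_54 : allRange (fun i => Nat.beq (actR5 i) i) 135000 2500 = true := by decide +kernel
theorem c_act5_55 : allRange (fun i => Nat.beq (actR5 i) i) 137500 2500 = true := by decide +kernel
theorem c_act5_56 : allRange (fun i => Nat.beq (actR5 i) i) 140000 2500 = true := by decide +kernel
theorem c_act5_57 : allRange (fun i => Nat.beq (actR5 i) i) 142500 2500 = true := by decide +kernel
theorem c_act5_58 : allRange (fun i => Nat.beq (actR5 i) i) 145000 2500 = true := by decide +kernel
theorem c_act5_59 : allRange (fun i => Nat.beq (actR5 i) i) 147500 2500 = true := by decide +kernel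
theorem c_act5_60 : allRange (fun i => Nat.beq (actR5 i) i) 150000 2500 = true := by decide +kernel
theorem c_act5_61 : allRange (fun i => Nat.beq (actR5 i) i) 152500 2500 = true := by decide +kernel
theorem c_act5_62 : allRange (fun i => Nat.beq (actR5 i) i) 155000 2500 = true := by decide +kernel
theorem c_act5_63 : allRange (fun i => Nat.beq (actR5 i) i) 157500 2500 = true := by decide +kernel

end Cfsg.Agent.Lib.Helper4.TCD.HNm
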