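import Cfsg.Agent.Lib.Helper4.TC7
import Cfsg.Agent.Lib.Helper4.TCP_HSp
import Cfsg.Agent.Lib.Helper4.TCD_HSpA_D0
import Cfsg.Agent.Lib.Helper4.TCD_HSpA_D1
import Cfsg.Agent.Lib.Helper4.TCD_HSpA_D2

namespace Cfsg.Agent.Lib.Helper4.TCD.HSpA

open Cfsg.Agent.Lib.Helper4.TC

set_option maxRecDepth 100000

noncomputable def Atab_s_0_2 (c : Nat) : Nat := @Bool.rec (fun _ => Nat) (Atab_0) (Atab_1) (Nat.ble 1 c)
noncomputable def Atab_s_2_4 (c : Nat) : Nat := @Bool.rec (fun _ => Nat) (Atab_2) (Atab_3) (Nat.ble 3 c)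
noncomputable def Atab_s_0_4 (c : Nat) : Nat := @Bool.rec (fun _ => Nat) (Atab_s_0_2 c) (Atab_s_2_4 c) (Nat.ble 2 c)
noncomputable def Atab_s_4_6 (c : Nat) : Nat := @Bool.rec (fun _ => Nat) (Atab_4) (Atab_5) (Nat.ble 5 c)
noncomputable def Atab_s_6_8 (c : Nat) : Nat := @Bool.rec (fun _ => Nat) (Atab_6) (Atab_7) (Nat.ble 7 c)
noncomputable def Atab_s_4_8 (c : Nat) : Nat := @Bool.rec (fun _ => Nat) (Atab_s_4_6 c) (Atab_s_6_8 c) (Nat.ble 6 c)
noncomputable def Atab_s_0_8 (c : Nat) : Nat := @Bool.rec (fun _ => Nat) (Atab_s_0_4 c) (Atab_s_4_8 c) (Nat.ble 4 c)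
noncomputable def Atab_s_8_10 (c : Nat) : Nat := @Bool.rec (fun _ => Nat) (Atab_8) (Atab_9) (Nat.ble 9 c)
noncomputable def Atab_s_10_12 (c : Nat) : Nat := @Bool.rec (fun _ => Nat) (Atab_10) (Atab_11) (Nat.ble 11 c)
noncomputable def Atab_s_8_12 (c : Nat) : Nat := @Bool.rec (fun _ => Nat) (Atab_s_8_10 c) (Atab_s_10_12 c) (Nat.ble 10 c)
noncomputable def Atab_s_12_14 (c : Nat) : Nat := @Bool.rec (fun _ => Nat) (Atab_12) (Atab_13) (Nat.ble 13 c)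
noncomputable def Atab_s_15_17 (c : Nat) : Nat := @Bool.rec (fun _ => Nat) (Atab_15) (Atab_16) (Nat.ble 16 c)
noncomputable def Atab_s_14_17 (c : Nat) : Nat := @Bool.rec (fun _ => Nat) (Atab_14) (Atab_s_15_17 c) (Nat.ble 15 c)
noncomputable def Atab_s_12_17 (c : Nat) : Nat := @Bool.rec (fun _ => Nat) (Atab_s_12_14 c) (Atab_s_14_17 c) (Nat.ble 14 c)
noncomputable def Atab_s_8_17 (c : Nat) : Nat := @Bool.rec (fun _ => Nat) (Atab_s_8_12 c) (Atab_s_12_17 c) (Nat.ble 12 c)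
noncomputable def Atab_s_0_17 (c : Nat) : Nat := @Bool.rec (fun _ => Nat) (Atab_s_0_8 c) (Atab_s_8_17 c) (Nat.ble 8 c)
noncomputable def Atab_s_17_19 (c : Nat) : Nat := @Bool.rec (fun _ => Nat) (Atab_17) (Atab_18) (Nat.ble 18 c)
noncomputable def Atab_s_19_21 (c : Nat) : Nat := @Bool.rec (fun _ => Nat) (Atab_19) (Atab_20) (Nat.ble 20 c)
noncomputable def Atab_s_17_21 (c : Nat) : Nat := @Bool.rec (fun _ => Nat) (Atab_s_17_19 c) (Atab_s_19_21 c) (Nat.ble 19 c)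
noncomputable def Atab_s_21_23 (c : Nat) : Nat := @Bool.rec (fun _ => Nat) (Atab_21) (Atab_22) (Nat.ble 22 c)
noncomputable def Atab_s_23_25 (c : Nat) : Nat := @Bool.rec (fun _ => Nat) (Atab_23) (Atab_24) (Nat.ble 24 c)
noncomputable def Atab_s_21_25 (c : Nat) : Nat := @Bool.rec (fun _ => Nat) (Atab_s_21_23 c) (Atab_s_23_25 c) (Nat.ble 23 c)
noncomputable def Atab_s_17_25 (c : Nat) : Nat := @Bool.rec (fun _ => Nat) (Atab_s_17_21 c) (Atab_s_21_25 c) (Nat.ble 21 c)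
noncomputable def Atab_s_25_27 (c : Nat) : Nat := @Bool.rec (fun _ => Nat) (Atab_25) (Atab_26) (Nat.ble 26 c)
noncomputable def Atab_s_27_29 (c : Nat) : Nat := @Bool.rec (fun _ => Nat) (Atab_27) (Atab_28) (Nat.ble 28 c)
noncomputable def Atab_s_25_29 (c : Nat) : Nat := @Bool.rec (fun _ => Nat) (Atab_s_25_27 c) (Atab_s_27_29 c) (Nat.ble 27 c)
noncomputable def Atab_s_29_31 (c : Nat) : Nat := @Bool.rec (fun _ => Nat) (Atab_29) (Atab_30) (Nat.ble 30 c)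
noncomputable def Atab_s_32_34 (c : Nat) : Nat := @Bool.rec (fun _ => Nat) (Atab_32) (Atab_33) (Nat.ble 33 c)
noncomputable def Atab_s_31_34 (c : Nat) : Nat := @Bool.rec (fun _ => Nat) (Atab_31) (Atab_s_32_34 c) (Nat.ble 32 c)
noncomputable def Atab_s_29_34 (c : Nat) : Nat := @Bool.rec (fun _ => Nat) (Atab_s_29_31 c) (Atab_s_31_34 c) (Nat.ble 31 c)
noncomputable def Atab_s_25_34 (c : Nat) : Nat := @Bool.rec (fun _ => Nat) (Atab_s_25_29 c) (Atab_s_29_34 c) (Nat.ble 29 c)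
noncomputable def Atab_s_17_34 (c : Nat) : Nat := @Bool.rec (fun _ => Nat) (Atab_s_17_25 c) (Atab_s_25_34 c) (Nat.ble 25 c)
noncomputable def Atab_s_0_34 (c : Nat) : Nat := @Bool.rec (fun _ => Nat) (Atab_s_0_17 c) (Atab_s_17_34 c) (Nat.ble 17 c)
noncomputable def Atab_s_34_36 (c : Nat) : Nat := @Bool.rec (fun _ => Nat) (Atab_34) (Atab_35) (Nat.ble 35 c)
noncomputable def Atab_s_36_38 (c : Nat) : Nat := @Bool.rec (fun _ => Nat) (Atab_36) (Atab_37) (Nat.ble 37 c)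
noncomputable def Atab_s_34_38 (c : Nat) : Nat := @Bool.rec (fun _ => Nat) (Atab_s_34_36 c) (Atab_s_36_38 c) (Nat.ble 36 c)
noncomputable def Atab_s_38_40 (c : Nat) : Nat := @Bool.rec (fun _ => Nat) (Atab_38) (Atab_39) (Nat.ble 39 c)
noncomputable def Atab_s_40_42 (c : Nat) : Nat := @Bool.rec (fun _ => Nat) (Atab_40) (Atab_41) (Nat.ble 41 c)
noncomputable def Atab_s_38_42 (c : Nat) : Nat := @Bool.rec (fun _ => Nat) (Atab_s_38_40 c) (Atab_s_40_42 c) (Nat.ble 40 c)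
noncomputable def Atab_s_34_42 (c : Nat) : Nat := @Bool.rec (fun _ => Nat) (Atab_s_34_38 c) (Atab_s_38_42 c) (Nat.ble 38 c)
noncomputable def Atab_s_42_44 (c : Nat) : Nat := @Bool.rec (fun _ => Nat) (Atab_42) (Atab_43) (Nat.ble 43 c)
noncomputable def Atab_s_44_46 (c : Nat) : Nat := @Bool.rec (fun _ => Nat) (Atab_44) (Atab_45) (Nat.ble 45 c)
noncomputable def Atab_s_42_46 (c : Nat) : Nat := @Bool.rec (fun _ => Nat) (Atab_s_42_44 c) (Atab_s_44_46 c) (Nat.ble 44 c)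
noncomputable def Atab_s_46_48 (c : Nat) : Nat := @Bool.rec (fun _ => Nat) (Atab_46) (Atab_47) (Nat.ble 47 c)
noncomputable def Atab_s_49_51 (c : Nat) : Nat := @Bool.rec (fun _ => Nat) (Atab_49) (Atab_50) (Nat.ble 50 c)
noncomputable def Atab_s_48_51 (c : Nat) : Nat := @Bool.rec (fun _ => Nat) (Atab_48) (Atab_s_49_51 c) (Nat.ble 49 c)
noncomputable def Atab_s_46_51 (c : Nat) : Nat := @Bool.rec (fun _ => Nat) (Atab_s_46_48 c) (Atab_s_48_51 c) (Nat.ble 48 c)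
noncomputable def Atab_s_42_51 (c : Nat) : Nat := @Bool.rec (fun _ => Nat) (Atab_s_42_46 c) (Atab_s_46_51 c) (Nat.ble 46 c)
noncomputable def Atab_s_34_51 (c : Nat) : Nat := @Bool.rec (fun _ => Nat) (Atab_s_34_42 c) (Atab_s_42_51 c) (Nat.ble 42 c)
noncomputable def Atab_s_51_53 (c : Nat) : Nat := @Bool.rec (fun _ => Nat) (Atab_51) (Atab_52) (Nat.ble 52 c)
noncomputable def Atab_s_53_55 (c : Nat) : Nat := @Bool.rec (fun _ => Nat) (Atab_53) (Atab_54) (Nat.ble 54 c)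
noncomputable def Atab_s_51_55 (c : Nat) : Nat := @Bool.rec (fun _ => Nat) (Atab_s_51_53 c) (Atab_s_53_55 c) (Nat.ble 53 c)
noncomputable def Atab_s_55_57 (c : Nat) : Nat := @Bool.rec (fun _ => Nat) (Atab_55) (Atab_56) (Nat.ble 56 c)
noncomputable def Atab_s_58_60 (c : Nat) : Nat := @Bool.rec (fun _ => Nat) (Atab_58) (Atab_59) (Nat.ble 59 c)
noncomputable def Atab_s_57_60 (c : Nat) : Nat := @Bool.rec (fun _ => Nat) (Atab_57) (Atab_s_58_60 c) (Nat.ble 58 c)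
noncomputable def Atab_s_55_60 (c : Nat) : Nat := @Bool.rec (fun _ => Nat) (Atab_s_55_57 c) (Atab_s_57_60 c) (Nat.ble 57 c)
noncomputable def Atab_s_51_60 (c : Nat) : Nat := @Bool.rec (fun _ => Nat) (Atab_s_51_55 c) (Atab_s_55_60 c) (Nat.ble 55 c)
noncomputable def Atab_s_60_62 (c : Nat) : Nat := @Bool.rec (fun _ => Nat) (Atab_60) (Atab_61) (Nat.ble 61 c)
noncomputable def Atab_s_62_64 (c : Nat) : Nat := @Bool.rec (fun _ => Nat) (Atab_62) (Atab_63) (Nat.ble 63 c)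
noncomputable def Atab_s_60_64 (c : Nat) : Nat := @Bool.rec (fun _ => Nat) (Atab_s_60_62 c) (Atab_s_62_64 c) (Nat.ble 62 c)
noncomputable def Atab_s_64_66 (c : Nat) : Nat := @Bool.rec (fun _ => Nat) (Atab_64) (Atab_65) (Nat.ble 65 c)
noncomputable def Atab_s_67_69 (c : Nat) : Nat := @Bool.rec (fun _ => Nat) (Atab_67) (Atab_68) (Nat.ble 68 c)
noncomputable def Atab_s_66_69 (c : Nat) : Nat := @Bool.rec (fun _ => Nat) (Atab_66) (Atab_s_67_69 c) (Nat.ble 67 c)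
noncomputable def Atab_s_64_69 (c : Nat) : Nat := @Bool.rec (fun _ => Nat) (Atab_s_64_66 c) (Atab_s_66_69 c) (Nat.ble 66 c)
noncomputable def Atab_s_60_69 (c : Nat) : Nat := @Bool.rec (fun _ => Nat) (Atab_s_60_64 c) (Atab_s_64_69 c) (Nat.ble 64 c)
noncomputable def Atab_s_51_69 (c : Nat) : Nat := @Bool.rec (fun _ => Nat) (Atab_s_51_60 c) (Atab_s_60_69 c) (Nat.ble 60 c)
noncomputable def Atab_s_34_69 (c : Nat) : Nat := @Bool.rec (fun _ => Nat) (Atab_s_34_51 c) (Atab_s_51_69 c) (Nat.ble 51 c)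
noncomputable def Atab_s_0_69 (c : Nat) : Nat := @Bool.rec (fun _ => Nat) (Atab_s_0_34 c) (Atab_s_34_69 c) (Nat.ble 34 c)
noncomputable def Atab (i : Nat) : Nat := rdw 36 68719476735 (Atab_s_0_69 (Nat.shiftRight i 11)) (Nat.land i 2047)
noncomputable def Btab_s_0_2 (c : Nat) : Nat := @Bool.rec (fun _ => Nat) (Btab_0) (Btab_1) (Nat.ble 1 c)
noncomputable def Btab_s_3_5 (c : Nat) : Nat := @Bool.rec (fun _ => Nat) (Btab_3) (Btab_4) (Nat.ble 4 c)
noncomputable def Btab_s_2_5 (c : Nat) : Nat := @Bool.rec (fun _ => Nat) (Btab_2) (Btab_s_3_5 c) (Nat.ble 3 c)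
noncomputable def Btab_s_0_5 (c : Nat) : Nat := @Bool.rec (fun _ => Nat) (Btab_s_0_2 c) (Btab_s_2_5 c) (Nat.ble 2 c)
noncomputable def Btab_s_6_8 (c : Nat) : Nat := @Bool.rec (fun _ => Nat) (Btab_6) (Btab_7) (Nat.ble 7 c)
noncomputable def Btab_s_5_8 (c : Nat) : Nat := @Bool.rec (fun _ => Nat) (Btab_5) (Btab_s_6_8 c) (Nat.ble 6 c)
noncomputable def Btab_s_9_11 (c : Nat) : Nat := @Bool.rec (fun _ => Nat) (Btab_9) (Btab_10) (Nat.ble 10 c)
noncomputable def Btab_s_8_11 (c : Nat) : Nat := @Bool.rec (fun _ => Nat) (Btab_8) (Btab_s_9_11 c) (Nat.ble 9 c)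
noncomputable def Btab_s_5_11 (c : Nat) : Nat := @Bool.rec (fun _ => Nat) (Btab_s_5_8 c) (Btab_s_8_11 c) (Nat.ble 8 c)
noncomputable def Btab_s_0_11 (c : Nat) : Nat := @Bool.rec (fun _ => Nat) (Btab_s_0_5 c) (Btab_s_5_11 c) (Nat.ble 5 c)
noncomputable def Btab_s_11_13 (c : Nat) : Nat := @Bool.rec (fun _ => Nat) (Btab_11) (Btab_12) (Nat.ble 12 c)
noncomputable def Btab_s_14_16 (c : Nat) : Nat := @Bool.rec (fun _ => Nat) (Btab_14) (Btab_15) (Nat.ble 15 c)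
noncomputable def Btab_s_13_16 (c : Nat) : Nat := @Bool.rec (fun _ => Nat) (Btab_13) (Btab_s_14_16 c) (Nat.ble 14 c)
noncomputable def Btab_s_11_16 (c : Nat) : Nat := @Bool.rec (fun _ => Nat) (Btab_s_11_13 c) (Btab_s_13_16 c) (Nat.ble 13 c)
noncomputable def Btab_s_17_19 (c : Nat) : Nat := @Bool.rec (fun _ => Nat) (Btab_17) (Btab_18) (Nat.ble 18 c)
noncomputable def Btab_s_16_19 (c : Nat) : Nat := @Bool.rec (fun _ => Nat) (Btab_16) (Btab_s_17_19 c) (Nat.ble 17 c)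
noncomputable def Btab_s_20_22 (c : Nat) : Nat := @Bool.rec (fun _ => Nat) (Btab_20) (Btab_21) (Nat.ble 21 c)
noncomputable def Btab_s_19_22 (c : Nat) : Nat := @Bool.rec (fun _ => Nat) (Btab_19) (Btab_s_20_22 c) (Nat.ble 20 c)
noncomputable def Btab_s_16_22 (c : Nat) : Nat := @Bool.rec (fun _ => Nat) (Btab_s_16_19 c) (Btab_s_19_22 c) (Nat.ble 19 c)
noncomputable def Btab_s_11_22 (c : Nat) : Nat := @Bool.rec (fun _ => Nat) (Btab_s_11_16 c) (Btab_s_16_22 c) (Nat.ble 16 c)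
noncomputable def Btab_s_0_22 (c : Nat) : Nat := @Bool.rec (fun _ => Nat) (Btab_s_0_11 c) (Btab_s_11_22 c) (Nat.ble 11 c)
noncomputable def Btab_s_22_24 (c : Nat) : Nat := @Bool.rec (fun _ => Nat) (Btab_22) (Btab_23) (Nat.ble 23 c)
noncomputable def Btab_s_25_27 (c : Nat) : Nat := @Bool.rec (fun _ => Nat) (Btab_25) (Btab_26) (Nat.ble 26 c)
noncomputable def Btab_s_24_27 (c : Nat) : Nat := @Bool.rec (fun _ => Nat) (Btab_24) (Btab_s_25_27 c) (Nat.ble 25 c)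
noncomputable def Btab_s_22_27 (c : Nat) : Nat := @Bool.rec (fun _ => Nat) (Btab_s_22_24 c) (Btab_s_24_27 c) (Nat.ble 24 c)
noncomputable def Btab_s_28_30 (c : Nat) : Nat := @Bool.rec (fun _ => Nat) (Btab_28) (Btab_29) (Nat.ble 29 c)
noncomputable def Btab_s_27_30 (c : Nat) : Nat := @Bool.rec (fun _ => Nat) (Btab_27) (Btab_s_28_30 c) (Nat.ble 28 c)
noncomputable def Btab_s_31_33 (c : Nat) : Nat := @Bool.rec (fun _ => Nat) (Btab_31) (Btab_32) (Nat.ble 32 c)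
noncomputable def Btab_s_30_33 (c : Nat) : Nat := @Bool.rec (fun _ => Nat) (Btab_30) (Btab_s_31_33 c) (Nat.ble 31 c)
noncomputable def Btab_s_27_33 (c : Nat) : Nat := @Bool.rec (fun _ => Nat) (Btab_s_27_30 c) (Btab_s_30_33 c) (Nat.ble 30 c)
noncomputable def Btab_s_22_33 (c : Nat) : Nat := @Bool.rec (fun _ => Nat) (Btab_s_22_27 c) (Btab_s_27_33 c) (Nat.ble 27 c)
noncomputable def Btab_s_33_35 (c : Nat) : Nat := @Bool.rec (fun _ => Nat) (Btab_33) (Btab_34) (Nat.ble 34 c)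
noncomputable def Btab_s_36_38 (c : Nat) : Nat := @Bool.rec (fun _ => Nat) (Btab_36) (Btab_37) (Nat.ble 37 c)
noncomputable def Btab_s_35_38 (c : Nat) : Nat := @Bool.rec (fun _ => Nat) (Btab_35) (Btab_s_36_38 c) (Nat.ble 36 c)
noncomputable def Btab_s_33_38 (c : Nat) : Nat := @Bool.rec (fun _ => Nat) (Btab_s_33_35 c) (Btab_s_35_38 c) (Nat.ble 35 c)
noncomputable def Btab_s_39_41 (c : Nat) : Nat := @Bool.rec (fun _ => Nat) (Btab_39) (Btab_40) (Nat.ble 40 c)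
noncomputable def Btab_s_38_41 (c : Nat) : Nat := @Bool.rec (fun _ => Nat) (Btab_38) (Btab_s_39_41 c) (Nat.ble 39 c)
noncomputable def Btab_s_42_44 (c : Nat) : Nat := @Bool.rec (fun _ => Nat) (Btab_42) (Btab_43) (Nat.ble 43 c)
noncomputable def Btab_s_41_44 (c : Nat) : Nat := @Bool.rec (fun _ => Nat) (Btab_41) (Btab_s_42_44 c) (Nat.ble 42 c)
noncomputable def Btab_s_38_44 (c : Nat) : Nat := @Bool.rec (fun _ => Nat) (Btab_s_38_41 c) (Btab_s_41_44 c) (Nat.ble 41 c)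
noncomputable def Btab_s_33_44 (c : Nat) : Nat := @Bool.rec (fun _ => Nat) (Btab_s_33_38 c) (Btab_s_38_44 c) (Nat.ble 38 c)
noncomputable def Btab_s_22_44 (c : Nat) : Nat := @Bool.rec (fun _ => Nat) (Btab_s_22_33 c) (Btab_s_33_44 c) (Nat.ble 33 c)
noncomputable def Btab_s_0_44 (c : Nat) : Nat := @Bool.rec (fun _ => Nat) (Btab_s_0_22 c) (Btab_s_22_44 c) (Nat.ble 22 c)
noncomputable def Btab (i : Nat) : Nat := rdw 36 68719476735 (Btab_s_0_44 (Nat.shiftRight i 11)) (Nat.land i 2047)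
noncomputable def Ptab_s_0_2 (c : Nat) : Nat := @Bool.rec (fun _ => Nat) (Ptab_0) (Ptab_1) (Nat.ble 1 c)
noncomputable def Ptab_s_2_4 (c : Nat) : Nat := @Bool.rec (fun _ => Nat) (Ptab_2) (Ptab_3) (Nat.ble 3 c)
noncomputable def Ptab_s_0_4 (c : Nat) : Nat := @Bool.rec (fun _ => Nat) (Ptab_s_0_2 c) (Ptab_s_2_4 c) (Nat.ble 2 c)
noncomputable def Ptab_s_4_6 (c : Nat) : Nat := @Bool.rec (fun _ => Nat) (Ptab_4) (Ptab_5) (Nat.ble 5 c)
noncomputable def Ptab_s_7_9 (c : Nat) : Nat := @Bool.rec (fun _ => Nat) (Ptab_7) (Ptab_8) (Nat.ble 8 c)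
noncomputable def Ptab_s_6_9 (c : Nat) : Nat := @Bool.rec (fun _ => Nat) (Ptab_6) (Ptab_s_7_9 c) (Nat.ble 7 c)
noncomputable def Ptab_s_4_9 (c : Nat) : Nat := @Bool.rec (fun _ => Nat) (Ptab_s_4_6 c) (Ptab_s_6_9 c) (Nat.ble 6 c)
noncomputable def Ptab_s_0_9 (c : Nat) : Nat := @Bool.rec (fun _ => Nat) (Ptab_s_0_4 c) (Ptab_s_4_9 c) (Nat.ble 4 c)
noncomputable def Ptab_s_9_11 (c : Nat) : Nat := @Bool.rec (fun _ => Nat) (Ptab_9) (Ptab_10) (Nat.ble 10 c)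
noncomputable def Ptab_s_12_14 (c : Nat) : Nat := @Bool.rec (fun _ => Nat) (Ptab_12) (Ptab_13) (Nat.ble 13 c)
noncomputable def Ptab_s_11_14 (c : Nat) : Nat := @Bool.rec (fun _ => Nat) (Ptab_11) (Ptab_s_12_14 c) (Nat.ble 12 c)
noncomputable def Ptab_s_9_14 (c : Nat) : Nat := @Bool.rec (fun _ => Nat) (Ptab_s_9_11 c) (Ptab_s_11_14 c) (Nat.ble 11 c)
noncomputable def Ptab_s_14_16 (c : Nat) : Nat := @Bool.rec (fun _ => Nat) (Ptab_14) (Ptab_15) (Nat.ble 15 c)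
noncomputable def Ptab_s_17_19 (c : Nat) : Nat := @Bool.rec (fun _ => Nat) (Ptab_17) (Ptab_18) (Nat.ble 18 c)
noncomputable def Ptab_s_16_19 (c : Nat) : Nat := @Bool.rec (fun _ => Nat) (Ptab_16) (Ptab_s_17_19 c) (Nat.ble 17 c)
noncomputable def Ptab_s_14_19 (c : Nat) : Nat := @Bool.rec (fun _ => Nat) (Ptab_s_14_16 c) (Ptab_s_16_19 c) (Nat.ble 16 c)
noncomputable def Ptab_s_9_19 (c : Nat) : Nat := @Bool.rec (fun _ => Nat) (Ptab_s_9_14 c) (Ptab_s_14_19 c) (Nat.ble 14 c)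
noncomputable def Ptab_s_0_19 (c : Nat) : Nat := @Bool.rec (fun _ => Nat) (Ptab_s_0_9 c) (Ptab_s_9_19 c) (Nat.ble 9 c)
noncomputable def Ptab_s_19_21 (c : Nat) : Nat := @Bool.rec (fun _ => Nat) (Ptab_19) (Ptab_20) (Nat.ble 20 c)
noncomputable def Ptab_s_22_24 (c : Nat) : Nat := @Bool.rec (fun _ => Nat) (Ptab_22) (Ptab_23) (Nat.ble 23 c)
noncomputable def Ptab_s_21_24 (c : Nat) : Nat := @Bool.rec (fun _ => Nat) (Ptab_21) (Ptab_s_22_24 c) (Nat.ble 22 c)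
noncomputable def Ptab_s_19_24 (c : Nat) : Nat := @Bool.rec (fun _ => Nat) (Ptab_s_19_21 c) (Ptab_s_21_24 c) (Nat.ble 21 c)
noncomputable def Ptab_s_24_26 (c : Nat) : Nat := @Bool.rec (fun _ => Nat) (Ptab_24) (Ptab_25) (Nat.ble 25 c)
noncomputable def Ptab_s_27_29 (c : Nat) : Nat := @Bool.rec (fun _ => Nat) (Ptab_27) (Ptab_28) (Nat.ble 28 c)
noncomputable def Ptab_s_26_29 (c : Nat) : Nat := @Bool.rec (fun _ => Nat) (Ptab_26) (Ptab_s_27_29 c) (Nat.ble 27 c)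
noncomputable def Ptab_s_24_29 (c : Nat) : Nat := @Bool.rec (fun _ => Nat) (Ptab_s_24_26 c) (Ptab_s_26_29 c) (Nat.ble 26 c)
noncomputable def Ptab_s_19_29 (c : Nat) : Nat := @Bool.rec (fun _ => Nat) (Ptab_s_19_24 c) (Ptab_s_24_29 c) (Nat.ble 24 c)
noncomputable def Ptab_s_29_31 (c : Nat) : Nat := @Bool.rec (fun _ => Nat) (Ptab_29) (Ptab_30) (Nat.ble 30 c)
noncomputable def Ptab_s_32_34 (c : Nat) : Nat := @Bool.rec (fun _ => Nat) (Ptab_32) (Ptab_33) (Nat.ble 33 c)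
noncomputable def Ptab_s_31_34 (c : Nat) : Nat := @Bool.rec (fun _ => Nat) (Ptab_31) (Ptab_s_32_34 c) (Nat.ble 32 c)
noncomputable def Ptab_s_29_34 (c : Nat) : Nat := @Bool.rec (fun _ => Nat) (Ptab_s_29_31 c) (Ptab_s_31_34 c) (Nat.ble 31 c)
noncomputable def Ptab_s_34_36 (c : Nat) : Nat := @Bool.rec (fun _ => Nat) (Ptab_34) (Ptab_35) (Nat.ble 35 c)
noncomputable def Ptab_s_37_39 (c : Nat) : Nat := @Bool.rec (fun _ => Nat) (Ptab_37) (Ptab_38) (Nat.ble 38 c)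
noncomputable def Ptab_s_36_39 (c : Nat) : Nat := @Bool.rec (fun _ => Nat) (Ptab_36) (Ptab_s_37_39 c) (Nat.ble 37 c)
noncomputable def Ptab_s_34_39 (c : Nat) : Nat := @Bool.rec (fun _ => Nat) (Ptab_s_34_36 c) (Ptab_s_36_39 c) (Nat.ble 36 c)
noncomputable def Ptab_s_29_39 (c : Nat) : Nat := @Bool.rec (fun _ => Nat) (Ptab_s_29_34 c) (Ptab_s_34_39 c) (Nat.ble 34 c)
noncomputable def Ptab_s_19_39 (c : Nat) : Nat := @Bool.rec (fun _ => Nat) (Ptab_s_19_29 c) (Ptab_s_29_39 c) (Nat.ble 29 c)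
noncomputable def Ptab_s_0_39 (c : Nat) : Nat := @Bool.rec (fun _ => Nat) (Ptab_s_0_19 c) (Ptab_s_19_39 c) (Nat.ble 19 c)
noncomputable def Ptab_s_39_41 (c : Nat) : Nat := @Bool.rec (fun _ => Nat) (Ptab_39) (Ptab_40) (Nat.ble 40 c)
noncomputable def Ptab_s_41_43 (c : Nat) : Nat := @Bool.rec (fun _ => Nat) (Ptab_41) (Ptab_42) (Nat.ble 42 c)
noncomputable def Ptab_s_39_43 (c : Nat) : Nat := @Bool.rec (fun _ => Nat) (Ptab_s_39_41 c) (Ptab_s_41_43 c) (Nat.ble 41 c)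
noncomputable def Ptab_s_43_45 (c : Nat) : Nat := @Bool.rec (fun _ => Nat) (Ptab_43) (Ptab_44) (Nat.ble 44 c)
noncomputable def Ptab_s_46_48 (c : Nat) : Nat := @Bool.rec (fun _ => Nat) (Ptab_46) (Ptab_47) (Nat.ble 47 c)
noncomputable def Ptab_s_45_48 (c : Nat) : Nat := @Bool.rec (fun _ => Nat) (Ptab_45) (Ptab_s_46_48 c) (Nat.ble 46 c)
noncomputable def Ptab_s_43_48 (c : Nat) : Nat := @Bool.rec (fun _ => Nat) (Ptab_s_43_45 c) (Ptab_s_45_48 c) (Nat.ble 45 c)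
noncomputable def Ptab_s_39_48 (c : Nat) : Nat := @Bool.rec (fun _ => Nat) (Ptab_s_39_43 c) (Ptab_s_43_48 c) (Nat.ble 43 c)
noncomputable def Ptab_s_48_50 (c : Nat) : Nat := @Bool.rec (fun _ => Nat) (Ptab_48) (Ptab_49) (Nat.ble 49 c)
noncomputable def Ptab_s_51_53 (c : Nat) : Nat := @Bool.rec (fun _ => Nat) (Ptab_51) (Ptab_52) (Nat.ble 52 c)
noncomputable def Ptab_s_50_53 (c : Nat) : Nat := @Bool.rec (fun _ => Nat) (Ptab_50) (Ptab_s_51_53 c) (Nat.ble 51 c)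
noncomputable def Ptab_s_48_53 (c : Nat) : Nat := @Bool.rec (fun _ => Nat) (Ptab_s_48_50 c) (Ptab_s_50_53 c) (Nat.ble 50 c)
noncomputable def Ptab_s_53_55 (c : Nat) : Nat := @Bool.rec (fun _ => Nat) (Ptab_53) (Ptab_54) (Nat.ble 54 c)
noncomputable def Ptab_s_56_58 (c : Nat) : Nat := @Bool.rec (fun _ => Nat) (Ptab_56) (Ptab_57) (Nat.ble 57 c)
noncomputable def Ptab_s_55_58 (c : Nat) : Nat := @Bool.rec (fun _ => Nat) (Ptab_55) (Ptab_s_56_58 c) (Nat.ble 56 c)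
noncomputable def Ptab_s_53_58 (c : Nat) : Nat := @Bool.rec (fun _ => Nat) (Ptab_s_53_55 c) (Ptab_s_55_58 c) (Nat.ble 55 c)
noncomputable def Ptab_s_48_58 (c : Nat) : Nat := @Bool.rec (fun _ => Nat) (Ptab_s_48_53 c) (Ptab_s_53_58 c) (Nat.ble 53 c)
noncomputable def Ptab_s_39_58 (c : Nat) : Nat := @Bool.rec (fun _ => Nat) (Ptab_s_39_48 c) (Ptab_s_48_58 c) (Nat.ble 48 c)
noncomputable def Ptab_s_58_60 (c : Nat) : Nat := @Bool.rec (fun _ => Nat) (Ptab_58) (Ptab_59) (Nat.ble 59 c)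
noncomputable def Ptab_s_61_63 (c : Nat) : Nat := @Bool.rec (fun _ => Nat) (Ptab_61) (Ptab_62) (Nat.ble 62 c)
noncomputable def Ptab_s_60_63 (c : Nat) : Nat := @Bool.rec (fun _ => Nat) (Ptab_60) (Ptab_s_61_63 c) (Nat.ble 61 c)
noncomputable def Ptab_s_58_63 (c : Nat) : Nat := @Bool.rec (fun _ => Nat) (Ptab_s_58_60 c) (Ptab_s_60_63 c) (Nat.ble 60 c)
noncomputable def Ptab_s_63_65 (c : Nat) : Nat := @Bool.rec (fun _ => Nat) (Ptab_63) (Ptab_64) (Nat.ble 64 c)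
noncomputable def Ptab_s_66_68 (c : Nat) : Nat := @Bool.rec (fun _ => Nat) (Ptab_66) (Ptab_67) (Nat.ble 67 c)
noncomputable def Ptab_s_65_68 (c : Nat) : Nat := @Bool.rec (fun _ => Nat) (Ptab_65) (Ptab_s_66_68 c) (Nat.ble 66 c)
noncomputable def Ptab_s_63_68 (c : Nat) : Nat := @Bool.rec (fun _ => Nat) (Ptab_s_63_65 c) (Ptab_s_65_68 c) (Nat.ble 65 c)
noncomputable def Ptab_s_58_68 (c : Nat) : Nat := @Bool.rec (fun _ => Nat) (Ptab_s_58_63 c) (Ptab_s_63_68 c) (Nat.ble 63 c)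
noncomputable def Ptab_s_68_70 (c : Nat) : Nat := @Bool.rec (fun _ => Nat) (Ptab_68) (Ptab_69) (Nat.ble 69 c)
noncomputable def Ptab_s_71_73 (c : Nat) : Nat := @Bool.rec (fun _ => Nat) (Ptab_71) (Ptab_72) (Nat.ble 72 c)
noncomputable def Ptab_s_70_73 (c : Nat) : Nat := @Bool.rec (fun _ => Nat) (Ptab_70) (Ptab_s_71_73 c) (Nat.ble 71 c)
noncomputable def Ptab_s_68_73 (c : Nat) : Nat := @Bool.rec (fun _ => Nat) (Ptab_s_68_70 c) (Ptab_s_70_73 c) (Nat.ble 70 c)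
noncomputable def Ptab_s_73_75 (c : Nat) : Nat := @Bool.rec (fun _ => Nat) (Ptab_73) (Ptab_74) (Nat.ble 74 c)
noncomputable def Ptab_s_76_78 (c : Nat) : Nat := @Bool.rec (fun _ => Nat) (Ptab_76) (Ptab_77) (Nat.ble 77 c)
noncomputable def Ptab_s_75_78 (c : Nat) : Nat := @Bool.rec (fun _ => Nat) (Ptab_75) (Ptab_s_76_78 c) (Nat.ble 76 c)
noncomputable def Ptab_s_73_78 (c : Nat) : Nat := @Bool.rec (fun _ => Nat) (Ptab_s_73_75 c) (Ptab_s_75_78 c) (Nat.ble 75 c)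
noncomputable def Ptab_s_68_78 (c : Nat) : Nat := @Bool.rec (fun _ => Nat) (Ptab_s_68_73 c) (Ptab_s_73_78 c) (Nat.ble 73 c)
noncomputable def Ptab_s_58_78 (c : Nat) : Nat := @Bool.rec (fun _ => Nat) (Ptab_s_58_68 c) (Ptab_s_68_78 c) (Nat.ble 68 c)
noncomputable def Ptab_s_39_78 (c : Nat) : Nat := @Bool.rec (fun _ => Nat) (Ptab_s_39_58 c) (Ptab_s_58_78 c) (Nat.ble 58 c)
noncomputable def Ptab_s_0_78 (c : Nat) : Nat := @Bool.rec (fun _ => Nat) (Ptab_s_0_39 c) (Ptab_s_39_78 c) (Nat.ble 39 c)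
noncomputable def Ptab (i : Nat) : Nat := rdw 19 524287 (Ptab_s_0_78 (Nat.shiftRight i 12)) (Nat.land i 4095)
noncomputable def RRtab (i : Nat) : Nat := rdw 4 15 RRtab_0 i
noncomputable def rBtab (i : Nat) : Nat := rdw 10 1023 rBtab_0 i
noncomputable def rLtab (i : Nat) : Nat := rdw 5 31 rLtab_0 i
noncomputable def nameTab_s_0_2 (c : Nat) : Nat := @Bool.rec (fun _ => Nat) (nameTab_0) (nameTab_1) (Nat.ble 1 c)
noncomputable def nameTab (i : Nat) : Nat := rdw 16 65535 (nameTab_s_0_2 (Nat.shiftRight i 12)) (Nat.land i 4095)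
noncomputable def col0_s_0_2 (c : Nat) : Nat := @Bool.rec (fun _ => Nat) (col0_0) (col0_1) (Nat.ble 1 c)
noncomputable def col0 (i : Nat) : Nat := rdw 13 8191 (col0_s_0_2 (Nat.shiftRight i 12)) (Nat.land i 4095)
noncomputable def col1_s_0_2 (c : Nat) : Nat := @Bool.rec (fun _ => Nat) (col1_0) (col1_1) (Nat.ble 1 c)
noncomputable def col1 (i : Nat) : Nat := rdw 13 8191 (col1_s_0_2 (Nat.shiftRight i 12)) (Nat.land i 4095)
noncomputable def col2_s_0_2 (c : Nat) : Nat := @Bool.rec (fun _ => Nat) (col2_0) (col2_1) (Nat.ble 1 c)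
noncomputable def col2 (i : Nat) : Nat := rdw 13 8191 (col2_s_0_2 (Nat.shiftRight i 12)) (Nat.land i 4095)
noncomputable def col3_s_0_2 (c : Nat) : Nat := @Bool.rec (fun _ => Nat) (col3_0) (col3_1) (Nat.ble 1 c)
noncomputable def col3 (i : Nat) : Nat := rdw 13 8191 (col3_s_0_2 (Nat.shiftRight i 12)) (Nat.land i 4095)
noncomputable def col4_s_0_2 (c : Nat) : Nat := @Bool.rec (fun _ => Nat) (col4_0) (col4_1) (Nat.ble 1 c)
noncomputable def col4 (i : Nat) : Nat := rdw 13 8191 (col4_s_0_2 (Nat.shiftRight i 12)) (Nat.land i 4095)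
noncomputable def col5_s_0_2 (c : Nat) : Nat := @Bool.rec (fun _ => Nat) (col5_0) (col5_1) (Nat.ble 1 c)
noncomputable def col5 (i : Nat) : Nat := rdw 13 8191 (col5_s_0_2 (Nat.shiftRight i 12)) (Nat.land i 4095)
noncomputable def finTab_s_0_2 (c : Nat) : Nat := @Bool.rec (fun _ => Nat) (finTab_0) (finTab_1) (Nat.ble 1 c)
noncomputable def finTab_s_2_4 (c : Nat) : Nat := @Bool.rec (fun _ => Nat) (finTab_2) (finTab_3) (Nat.ble 3 c)
noncomputable def finTab_s_0_4 (c : Nat) : Nat := @Bool.rec (fun _ => Nat) (finTab_s_0_2 c) (finTab_s_2_4 c) (Nat.ble 2 c)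
noncomputable def finTab_s_4_6 (c : Nat) : Nat := @Bool.rec (fun _ => Nat) (finTab_4) (finTab_5) (Nat.ble 5 c)
noncomputable def finTab_s_7_9 (c : Nat) : Nat := @Bool.rec (fun _ => Nat) (finTab_7) (finTab_8) (Nat.ble 8 c)
noncomputable def finTab_s_6_9 (c : Nat) : Nat := @Bool.rec (fun _ => Nat) (finTab_6) (finTab_s_7_9 c) (Nat.ble 7 c)
noncomputable def finTab_s_4_9 (c : Nat) : Nat := @Bool.rec (fun _ => Nat) (finTab_s_4_6 c) (finTab_s_6_9 c) (Nat.ble 6 c)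
noncomputable def finTab_s_0_9 (c : Nat) : Nat := @Bool.rec (fun _ => Nat) (finTab_s_0_4 c) (finTab_s_4_9 c) (Nat.ble 4 c)
noncomputable def finTab (i : Nat) : Nat := rdw 19 524287 (finTab_s_0_9 (Nat.shiftRight i 12)) (Nat.land i 4095)
noncomputable def clsTab_s_1_3 (c : Nat) : Nat := @Bool.rec (fun _ => Nat) (clsTab_1) (clsTab_2) (Nat.ble 2 c)
noncomputable def clsTab_s_0_3 (c : Nat) : Nat := @Bool.rec (fun _ => Nat) (clsTab_0) (clsTab_s_1_3 c) (Nat.ble 1 c)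
noncomputable def clsTab_s_4_6 (c : Nat) : Nat := @Bool.rec (fun _ => Nat) (clsTab_4) (clsTab_5) (Nat.ble 5 c)
noncomputable def clsTab_s_3_6 (c : Nat) : Nat := @Bool.rec (fun _ => Nat) (clsTab_3) (clsTab_s_4_6 c) (Nat.ble 4 c)
noncomputable def clsTab_s_0_6 (c : Nat) : Nat := @Bool.rec (fun _ => Nat) (clsTab_s_0_3 c) (clsTab_s_3_6 c) (Nat.ble 3 c)
noncomputable def clsTab_s_7_9 (c : Nat) : Nat := @Bool.rec (fun _ => Nat) (clsTab_7) (clsTab_8) (Nat.ble 8 c)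
noncomputable def clsTab_s_6_9 (c : Nat) : Nat := @Bool.rec (fun _ => Nat) (clsTab_6) (clsTab_s_7_9 c) (Nat.ble 7 c)
noncomputable def clsTab_s_9_11 (c : Nat) : Nat := @Bool.rec (fun _ => Nat) (clsTab_9) (clsTab_10) (Nat.ble 10 c)
noncomputable def clsTab_s_11_13 (c : Nat) : Nat := @Bool.rec (fun _ => Nat) (clsTab_11) (clsTab_12) (Nat.ble 12 c)
noncomputable def clsTab_s_9_13 (c : Nat) : Nat := @Bool.rec (fun _ => Nat) (clsTab_s_9_11 c) (clsTab_s_11_13 c) (Nat.ble 11 c)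
noncomputable def clsTab_s_6_13 (c : Nat) : Nat := @Bool.rec (fun _ => Nat) (clsTab_s_6_9 c) (clsTab_s_9_13 c) (Nat.ble 9 c)
noncomputable def clsTab_s_0_13 (c : Nat) : Nat := @Bool.rec (fun _ => Nat) (clsTab_s_0_6 c) (clsTab_s_6_13 c) (Nat.ble 6 c)
noncomputable def clsTab (i : Nat) : Nat := rdw 13 8191 (clsTab_s_0_13 (Nat.shiftRight i 12)) (Nat.land i 4095)
noncomputable def oparTab_s_0_2 (c : Nat) : Nat := @Bool.rec (fun _ => Nat) (oparTab_0) (oparTab_1) (Nat.ble 1 c)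
noncomputable def oparTab (i : Nat) : Nat := rdw 13 8191 (oparTab_s_0_2 (Nat.shiftRight i 12)) (Nat.land i 4095)
noncomputable def olabTab (i : Nat) : Nat := rdw 2 3 olabTab_0 i
noncomputable def srcF (t : Nat) : Nat := Nat.land (Atab t) 65535
noncomputable def tgtF (t : Nat) : Nat := Nat.land (Nat.shiftRight (Atab t) 16) 65535
noncomputable def ltF (t : Nat) : Nat := Nat.shiftRight (Atab t) 32
noncomputable def rhoF (t : Nat) : Nat := Nat.land (Btab (Nat.sub t 50945)) 63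
noncomputable def rotF (t : Nat) : Nat := Nat.land (Nat.shiftRight (Btab (Nat.sub t 50945)) 6) 31
noncomputable def lenF (t : Nat) : Nat := Nat.land (Nat.shiftRight (Btab (Nat.sub t 50945)) 11) 63
noncomputable def offF (t : Nat) : Nat := Nat.shiftRight (Btab (Nat.sub t 50945)) 17
noncomputable def pfF (j : Nat) : Nat := Nat.shiftRight (Ptab j) 1
noncomputable def pdF (j : Nat) : Nat := Nat.land (Ptab j) 1
noncomputable def tblF (i x : Nat) : Nat := @Bool.rec (fun _ => Nat) (@Bool.rec (fun _ => Nat) (col0 i) (@Bool.rec (fun _ => Nat) (col1 i) (col2 i) (Nat.ble 2 x)) (Nat.ble 1 x)) (@Bool.rec (fun _ => Nat) (col3 i) (@Bool.rec (fun _ => Nat) (col4 i) (col5 i) (Nat.ble 5 x)) (Nat.ble 4 x)) (Nat.ble 3 x)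
noncomputable def finE (i x : Nat) : Nat := finTab (Nat.add (Nat.mul i 6) x)
noncomputable def finFF (i x : Nat) : Nat := Nat.shiftRight (finE i x) 1
noncomputable def finDF (i x : Nat) : Nat := Nat.land (finE i x) 1

noncomputable def D : Log :=
  { k := 6, inv := invE 6 PHSp.invR, nR := 42, rBase := rBtab, rLen := rLtab, RR := RRtab,
    M := 50941, nB := 4, F := 141027, src := srcF, lt := ltF, tgt := tgtF, rho := rhoF, rot := rotF,
    off := offF, len := lenF, pf := pfF, pd := pdF }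

noncomputable def T : Tab :=
  { N := 5600, nameOf := nameTab, tbl := tblF, finF := finFF, finD := finDF, cls := clsTab }

def subs : List (List Nat) := [
  [0],
  [2] ]

def rw0 : List Nat := [0, 0]
def rw1 : List Nat := [2, 2, 2, 2]
def rw2 : List Nat := [0, 2, 0, 2, 0, 2, 0, 2, 0, 2, 0, 2, 0, 2, 0, 2, 0, 2, 0, 2, 0, 2]
def rw3 : List Nat := [0, 2, 2, 0, 2, 2, 0, 2, 2, 0, 2, 2, 0, 2, 2, 0, 2, 2]
def rw4 : List Nat := [0, 2, 0, 2, 0, 3, 0, 2, 0, 2, 2, 0, 3, 0, 2, 0, 3, 0, 3]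
def rw5 : List Nat := [4, 4]
def rw6 : List Nat := [0, 2, 4, 3, 0, 2, 4, 3]
def rw7 : List Nat := [2, 2, 4, 2, 2, 4, 3, 3, 4]
def rw8 : List Nat := [0, 4, 0, 4, 0, 4, 0, 4, 0, 4]
def rw9 : List Nat := [0, 2, 0, 3, 4, 2, 0, 2, 0, 3, 4, 2]
def rw10 : List Nat := [2, 4, 2, 4, 2, 4, 2, 4, 2, 4, 2, 4]
def rw11 : List Nat := [0, 4, 3, 4, 2, 4, 0, 4, 3, 4, 2, 4, 0, 4, 3, 4, 2, 4]
def rw12 : List Nat := [0, 3, 4, 0, 4, 0, 3, 4, 0, 4, 0, 3, 4, 0, 4, 0, 3, 4, 0, 4]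
def realLit : List (List Nat) := [rw0, rw1, rw2, rw3, rw4, rw5, rw6, rw7, rw8, rw9, rw10, rw11, rw12]
noncomputable def actR0 (i : Nat) : Nat := col1 (col1 (i))
theorem actR0_eq (i : Nat) : actR0 i = Tab.act T D rw0 i := rfl
noncomputable def actR1 (i : Nat) : Nat := col3 (col3 (col3 (col3 (i))))
theorem actR1_eq (i : Nat) : actR1 i = Tab.act T D rw1 i := rfl
noncomputable def actR2 (i : Nat) : Nat := col1 (col3 (col1 (col3 (col1 (col3 (col1 (col3 (col1 (col3 (col1 (col3 (col1 (col3 (col1 (col3 (col1 (col3 (col1 (col3 (col1 (col3 (i))))))))))))))))))))))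
theorem actR2_eq (i : Nat) : actR2 i = Tab.act T D rw2 i := rfl
noncomputable def actR3 (i : Nat) : Nat := col1 (col3 (col3 (col1 (col3 (col3 (col1 (col3 (col3 (col1 (col3 (col3 (col1 (col3 (col3 (col1 (col3 (col3 (i))))))))))))))))))
theorem actR3_eq (i : Nat) : actR3 i = Tab.act T D rw3 i := rfl
noncomputable def actR4 (i : Nat) : Nat := col1 (col3 (col1 (col3 (col1 (col2 (col1 (col3 (col1 (col3 (col3 (col1 (col2 (col1 (col3 (col1 (col2 (col1 (col2 (i)))))))))))))))))))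
theorem actR4_eq (i : Nat) : actR4 i = Tab.act T D rw4 i := rfl
noncomputable def actR5 (i : Nat) : Nat := col5 (col5 (i))
theorem actR5_eq (i : Nat) : actR5 i = Tab.act T D rw5 i := rfl
noncomputable def actR6 (i : Nat) : Nat := col1 (col3 (col5 (col2 (col1 (col3 (col5 (col2 (i))))))))
theorem actR6_eq (i : Nat) : actR6 i = Tab.act T D rw6 i := rfl
noncomputable def actR7 (i : Nat) : Nat := col3 (col3 (col5 (col3 (col3 (col5 (col2 (col2 (col5 (i)))))))))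
theorem actR7_eq (i : Nat) : actR7 i = Tab.act T D rw7 i := rfl
noncomputable def actR8 (i : Nat) : Nat := col1 (col5 (col1 (col5 (col1 (col5 (col1 (col5 (col1 (col5 (i))))))))))
theorem actR8_eq (i : Nat) : actR8 i = Tab.act T D rw8 i := rfl
noncomputable def actR9 (i : Nat) : Nat := col1 (col3 (col1 (col2 (col5 (col3 (col1 (col3 (col1 (col2 (col5 (col3 (i))))))))))))
theorem actR9_eq (i : Nat) : actR9 i = Tab.act T D rw9 i := rfl
noncomputable def actR10 (i : Nat) : Nat := col3 (col5 (col3 (col5 (col3 (col5 (col3 (col5 (col3 (col5 (col3 (col5 (i))))))))))))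
theorem actR10_eq (i : Nat) : actR10 i = Tab.act T D rw10 i := rfl
noncomputable def actR11 (i : Nat) : Nat := col1 (col5 (col2 (col5 (col3 (col5 (col1 (col5 (col2 (col5 (col3 (col5 (col1 (col5 (col2 (col5 (col3 (col5 (i))))))))))))))))))
theorem actR11_eq (i : Nat) : actR11 i = Tab.act T D rw11 i := rfl
noncomputable def actR12 (i : Nat) : Nat := col1 (col2 (col5 (col1 (col5 (col1 (col2 (col5 (col1 (col5 (col1 (col2 (col5 (col1 (col5 (col1 (col2 (col5 (col1 (col5 (i))))))))))))))))))))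
theorem actR12_eq (i : Nat) : actR12 i = Tab.act T D rw12 i := rfl

end Cfsg.Agent.Lib.Helper4.TCD.HSpA
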