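import Cfsg.Agent.Lib.Helper4.TCD_HSpA_Acc

namespace Cfsg.Agent.Lib.Helper4.TCD.HSpA

open Cfsg.Agent.Lib.Helper4.TC

set_option maxRecDepth 100000
set_option Elab.async false

theorem c_zero : D.zeroOK = true := by decide +kernel
theorem c_base : allBelow D.baseOK 4 = true := by decide +kernel
theorem c_let : allBelow D.letOK 6 = true := by decide +kernel
theorem c_cls0 : T.cls 0 = 0 := by decide +kernel
theorem c_name0 : T.nameOf 0 = 0 := by decide +kernel
theorem c_tab : D.relTabOK 0 (baseRels 6 PHSp.invR PHSp.P.real subs ++ (baseRels 6 PHSp.invR PHSp.P.real subs).map (invWord D.inv)) = true := by decide +kernel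
theorem c_real : PHSp.P.real = realLit := by decide +kernel
theorem c_subfix : subs.all (fun u => Nat.beq (Tab.act T D u 0) 0) = true := by decide +kernel
theorem c_subs : subs.all (fun u => u.all (fun x => Nat.ble (Nat.succ x) 6)) = true := by decide +kernel
theorem c_names_0 : allRange D.nameOK 1 50940 = true := by decide +kernel
theorem c_cls_0 : allRange (T.clsOK D) 1 15000 = true := by decide +kernel
theorem c_cls_1 : allRange (T.clsOK D) 15001 15000 = true := by decide +kernel
theorem c_cls_2 : allRange (T.clsOK D) 30001 15000 = true := by decide +kernel
theorem c_cls_3 : allRange (T.clsOK D) 45001 5940 = true := by decide +kernel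
theorem c_rep_0 : allRange (T.repOK D) 0 5600 = true := by decide +kernel
theorem c_rel_0 : allRange D.relOK 50945 4084 = true := by decide +kernel
theorem c_rel_1 : allRange D.relOK 55029 3946 = true := by decide +kernel
theorem c_rel_2 : allRange D.relOK 58975 3761 = true := by decide +kernel
theorem c_rel_3 : allRange D.relOK 62736 3243 = true := by decide +kernel
theorem c_rel_4 : allRange D.relOK 65979 3201 = true := by decide +kernel
theorem c_rel_5 : allRange D.relOK 69180 3106 = true := by decide +kernel
theorem c_rel_6 : allRange D.relOK 72286 2989 = true := by decide +kernel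
theorem c_rel_7 : allRange D.relOK 75275 2793 = true := by decide +kernel
theorem c_rel_8 : allRange D.relOK 78068 2640 = true := by decide +kernel
theorem c_rel_9 : allRange D.relOK 80708 2463 = true := by decide +kernel
theorem c_rel_10 : allRange D.relOK 83171 2285 = true := by decide +kernel
theorem c_rel_11 : allRange D.relOK 85456 2582 = true := by decide +kernel
theorem c_rel_12 : allRange D.relOK 88038 3572 = true := by decide +kernel
theorem c_rel_13 : allRange D.relOK 91610 3521 = true := by decide +kernel
theorem c_rel_14 : allRange D.relOK 95131 3435 = true := by decide +kernel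
theorem c_rel_15 : allRange D.relOK 98566 3377 = true := by decide +kernel
theorem c_rel_16 : allRange D.relOK 101943 3317 = true := by decide +kernel
theorem c_rel_17 : allRange D.relOK 105260 3305 = true := by decide +kernel
theorem c_rel_18 : allRange D.relOK 108565 3277 = true := by decide +kernel
theorem c_rel_19 : allRange D.relOK 111842 3244 = true := by decide +kernel
theorem c_rel_20 : allRange D.relOK 115086 3241 = true := by decide +kernel
theorem c_rel_21 : allRange D.relOK 118327 3194 = true := by decide +kernel
theorem c_rel_22 : allRange D.relOK 121521 3154 = true := by decide +kernel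
theorem c_rel_23 : allRange D.relOK 124675 2014 = true := by decide +kernel
theorem c_rel_24 : allRange D.relOK 126689 3952 = true := by decide +kernel
theorem c_rel_25 : allRange D.relOK 130641 4407 = true := by decide +kernel
theorem c_rel_26 : allRange D.relOK 135048 4566 = true := by decide +kernel
theorem c_rel_27 : allRange D.relOK 139614 1413 = true := by decide +kernel
theorem c_fin_0 : allGrid (T.finOK D) 0 2000 6 = true := by decide +kernel
theorem c_fin_1 : allGrid (T.finOK D) 2000 2000 6 = true := by decide +kernel
theorem c_fin_2 : allGrid (T.finOK D) 4000 1600 6 = true := by decide +kernel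
theorem c_perm_0 : allGrid (T.permOK1 D) 0 5000 6 = true := by decide +kernel
theorem c_perm_1 : allGrid (T.permOK1 D) 5000 600 6 = true := by decide +kernel
theorem c_act0_0 : allRange (fun i => Nat.beq (actR0 i) i) 0 5600 = true := by decide +kernel
theorem c_act1_0 : allRange (fun i => Nat.beq (actR1 i) i) 0 5600 = true := by decide +kernel
theorem c_act2_0 : allRange (fun i => Nat.beq (actR2 i) i) 0 2727 = true := by decide +kernel
theorem c_act2_1 : allRange (fun i => Nat.beq (actR2 i) i) 2727 2727 = true := by decide +kernel
theorem c_act2_2 : allRange (fun i => Nat.beq (actR2 i) i) 5454 146 = true := by decide +kernel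
theorem c_act3_0 : allRange (fun i => Nat.beq (actR3 i) i) 0 3333 = true := by decide +kernel
theorem c_act3_1 : allRange (fun i => Nat.beq (actR3 i) i) 3333 2267 = true := by decide +kernel
theorem c_act4_0 : allRange (fun i => Nat.beq (actR4 i) i) 0 3157 = true := by decide +kernel
theorem c_act4_1 : allRange (fun i => Nat.beq (actR4 i) i) 3157 2443 = true := by decide +kernel
theorem c_act5_0 : allRange (fun i => Nat.beq (actR5 i) i) 0 5600 = true := by decide +kernel
theorem c_act6_0 : allRange (fun i => Nat.beq (actR6 i) i) 0 5600 = true := by decide +kernel
theorem c_act7_0 : allRange (fun i => Nat.beq (actR7 i) i) 0 5600 = true := by decide +kernel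
theorem c_act8_0 : allRange (fun i => Nat.beq (actR8 i) i) 0 5600 = true := by decide +kernel
theorem c_act9_0 : allRange (fun i => Nat.beq (actR9 i) i) 0 5000 = true := by decide +kernel
theorem c_act9_1 : allRange (fun i => Nat.beq (actR9 i) i) 5000 600 = true := by decide +kernel
theorem c_act10_0 : allRange (fun i => Nat.beq (actR10 i) i) 0 5000 = true := by decide +kernel
theorem c_act10_1 : allRange (fun i => Nat.beq (actR10 i) i) 5000 600 = true := by decide +kernel
theorem c_act11_0 : allRange (fun i => Nat.beq (actR11 i) i) 0 3333 = true := by decide +kernel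
theorem c_act11_1 : allRange (fun i => Nat.beq (actR11 i) i) 3333 2267 = true := by decide +kernel
theorem c_act12_0 : allRange (fun i => Nat.beq (actR12 i) i) 0 3000 = true := by decide +kernel
theorem c_act12_1 : allRange (fun i => Nat.beq (actR12 i) i) 3000 2600 = true := by decide +kernel

end Cfsg.Agent.Lib.Helper4.TCD.HSpA
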