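import Cfsg.Agent.Lib.Helper4.TC11
import Cfsg.Agent.Lib.Helper4.TCD_HSpA_Acc
import Cfsg.Agent.Lib.Helper4.TCD_HSpL_D0

namespace Cfsg.Agent.Lib.Helper4.TCD.HSpL

open Cfsg.Agent.Lib.Helper4.TC Cfsg.Agent.Lib.Helper4.TCD.HSpA

set_option maxRecDepth 100000

noncomputable def st6_s_0_2 (c : Nat) : Nat := @Bool.rec (fun _ => Nat) (st6_0) (st6_1) (Nat.ble 1 c)
noncomputable def st6 (i : Nat) : Nat := rdw 13 8191 (st6_s_0_2 (Nat.shiftRight i 12)) (Nat.land i 4095)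
noncomputable def st7_s_0_2 (c : Nat) : Nat := @Bool.rec (fun _ => Nat) (st7_0) (st7_1) (Nat.ble 1 c)
noncomputable def st7 (i : Nat) : Nat := rdw 13 8191 (st7_s_0_2 (Nat.shiftRight i 12)) (Nat.land i 4095)
noncomputable def st8_s_0_2 (c : Nat) : Nat := @Bool.rec (fun _ => Nat) (st8_0) (st8_1) (Nat.ble 1 c)
noncomputable def st8 (i : Nat) : Nat := rdw 13 8191 (st8_s_0_2 (Nat.shiftRight i 12)) (Nat.land i 4095)
noncomputable def st9_s_0_2 (c : Nat) : Nat := @Bool.rec (fun _ => Nat) (st9_0) (st9_1) (Nat.ble 1 c)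
noncomputable def st9 (i : Nat) : Nat := rdw 13 8191 (st9_s_0_2 (Nat.shiftRight i 12)) (Nat.land i 4095)
noncomputable def st10_s_0_2 (c : Nat) : Nat := @Bool.rec (fun _ => Nat) (st10_0) (st10_1) (Nat.ble 1 c)
noncomputable def st10 (i : Nat) : Nat := rdw 13 8191 (st10_s_0_2 (Nat.shiftRight i 12)) (Nat.land i 4095)
noncomputable def st11_s_0_2 (c : Nat) : Nat := @Bool.rec (fun _ => Nat) (st11_0) (st11_1) (Nat.ble 1 c)
noncomputable def st11 (i : Nat) : Nat := rdw 13 8191 (st11_s_0_2 (Nat.shiftRight i 12)) (Nat.land i 4095)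
noncomputable def levTab (i : Nat) : Nat := rdw 3 7 levTab_0 i
noncomputable def betaTab (i : Nat) : Nat := rdw 13 8191 betaTab_0 i
noncomputable def nodeTab_s_1_3 (c : Nat) : Nat := @Bool.rec (fun _ => Nat) (nodeTab_1) (nodeTab_2) (Nat.ble 2 c)
noncomputable def nodeTab_s_0_3 (c : Nat) : Nat := @Bool.rec (fun _ => Nat) (nodeTab_0) (nodeTab_s_1_3 c) (Nat.ble 1 c)
noncomputable def nodeTab (i : Nat) : Nat := rdw 34 17179869183 (nodeTab_s_0_3 (Nat.shiftRight i 11)) (Nat.land i 2047)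
noncomputable def offTab (i : Nat) : Nat := rdw 13 8191 offTab_0 i
noncomputable def nTab (i : Nat) : Nat := rdw 13 8191 nTab_0 i
noncomputable def rootTab (i : Nat) : Nat := rdw 13 8191 rootTab_0 i
noncomputable def tabF (i p : Nat) : Nat := @Bool.rec (fun _ => Nat) (@Bool.rec (fun _ => Nat) (@Bool.rec (fun _ => Nat) (col1 p) (@Bool.rec (fun _ => Nat) (col0 p) (col3 p) (Nat.ble 2 i)) (Nat.ble 1 i)) (@Bool.rec (fun _ => Nat) (col2 p) (@Bool.rec (fun _ => Nat) (col5 p) (col4 p) (Nat.ble 5 i)) (Nat.ble 4 i)) (Nat.ble 3 i)) (@Bool.rec (fun _ => Nat) (@Bool.rec (fun _ => Nat) (st6 p) (@Bool.rec (fun _ => Nat) (st7 p) (st8 p) (Nat.ble 8 i)) (Nat.ble 7 i)) (@Bool.rec (fun _ => Nat) (st9 p) (@Bool.rec (fun _ => Nat) (st10 p) (st11 p) (Nat.ble 11 i)) (Nat.ble 10 i)) (Nat.ble 9 i)) (Nat.ble 6 i)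
def wAF : Nat → List Nat
  | 6 => [4, 3, 4, 3, 0, 2, 0, 4]
  | 7 => [6]
  | 8 => [7, 7, 3, 6, 2]
  | 9 => [8]
  | 10 => []
  | 11 => [7, 7, 9, 0, 4, 6, 9, 6, 0, 8]
  | _ => []
def wBF : Nat → List Nat
  | 6 => [1, 4, 3, 0, 2, 2, 4, 0, 4]
  | 7 => []
  | 8 => [0, 6, 2, 0, 6]
  | 9 => []
  | 10 => [0]
  | 11 => [6, 0, 8, 7, 0, 4]
  | _ => []
noncomputable def ptF (j idx : Nat) : Nat := Nat.land (nodeTab (Nat.add (offTab j) idx)) 8191
noncomputable def parF (j idx : Nat) : Nat := Nat.land (Nat.shiftRight (nodeTab (Nat.add (offTab j) idx)) 13) 8191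
noncomputable def giF (j idx : Nat) : Nat := Nat.land (Nat.shiftRight (nodeTab (Nat.add (offTab j) idx)) 26) 15
noncomputable def depF (j idx : Nat) : Nat := Nat.shiftRight (nodeTab (Nat.add (offTab j) idx)) 30

noncomputable def S : Sgs :=
  { N := 5600, k := 6, m := 12, tab := tabF, wA := wAF, wB := wBF, lev := levTab, r := 4, beta := betaTab,
    n := nTab, root := rootTab, pt := ptF, par := parF, gi := giF, dep := depF }

noncomputable def chk6 (p : Nat) : Bool := band (Nat.ble (Nat.succ (st6 p)) 5600) (Nat.beq (col5 (col2 (col5 (col2 (col1 (col3 (col1 (col5 (st6 p))))))))) (col0 (col5 (col2 (col1 (col3 (col3 (col5 (col1 (col5 p))))))))))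
theorem chk6_eq (p : Nat) : chk6 p = Sgs.permOK S 6 p := rfl
noncomputable def chk7 (p : Nat) : Bool := band (Nat.ble (Nat.succ (st7 p)) 5600) (Nat.beq (st6 (st7 p)) p)
theorem chk7_eq (p : Nat) : chk7 p = Sgs.permOK S 7 p := rfl
noncomputable def chk8 (p : Nat) : Bool := band (Nat.ble (Nat.succ (st8 p)) 5600) (Nat.beq (st7 (st7 (col2 (st6 (col3 (st8 p)))))) (col1 (st6 (col3 (col1 (st6 p))))))
theorem chk8_eq (p : Nat) : chk8 p = Sgs.permOK S 8 p := rfl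
noncomputable def chk9 (p : Nat) : Bool := band (Nat.ble (Nat.succ (st9 p)) 5600) (Nat.beq (st8 (st9 p)) p)
theorem chk9_eq (p : Nat) : chk9 p = Sgs.permOK S 9 p := rfl
noncomputable def chk10 (p : Nat) : Bool := band (Nat.ble (Nat.succ (st10 p)) 5600) (Nat.beq (st10 p) (col1 p))
theorem chk10_eq (p : Nat) : chk10 p = Sgs.permOK S 10 p := rfl
noncomputable def chk11 (p : Nat) : Bool := band (Nat.ble (Nat.succ (st11 p)) 5600) (Nat.beq (st7 (st7 (st9 (col1 (col5 (st6 (st9 (st6 (col1 (st8 (st11 p))))))))))) (st6 (col1 (st8 (st7 (col1 (col5 p)))))))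
theorem chk11_eq (p : Nat) : chk11 p = Sgs.permOK S 11 p := rfl

end Cfsg.Agent.Lib.Helper4.TCD.HSpL
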