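import Mathlib
import Cfsg.Prelude.Def_Spor_He
import Cfsg.Agent.Lib.Helper4.TC7

/-! The letter encoding of the presentation of He (generated). -/

namespace Cfsg.Agent.Lib.Helper4.TC.PHe

set_option linter.unusedSimpArgs false
set_option linter.unusedTactic false
set_option linter.unreachableTactic false

open Cfsg.Spor Cfsg.Spor.He Cfsg.Agent.Lib.Helper4.TC Cfsg.Agent.Lib.Helper4.TC.Log

def enc : Gen → ℕ
  | .a => 0
  | .b => 1
  | .c => 2
  | .d => 3
  | .e => 4
  | .f => 5
  | .g => 6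

def dec : ℕ → FreeGroup Gen
  | 0 => FreeGroup.of Gen.a
  | 1 => FreeGroup.of Gen.b
  | 2 => FreeGroup.of Gen.c
  | 3 => FreeGroup.of Gen.d
  | 4 => FreeGroup.of Gen.e
  | 5 => FreeGroup.of Gen.f
  | 6 => FreeGroup.of Gen.g
  | _ => 1

def invR : ℕ → ℕ
  | l => l

def tri : List (ℕ × ℕ × ℕ) := [(0, 0, 1), (0, 1, 4), (0, 2, 2), (0, 3, 2), (0, 4, 2), (0, 5, 2), (0, 6, 2), (1, 1, 1), (1, 2, 3), (1, 3, 2), (1, 4, 2), (1, 5, 2), (1, 6, 2), (2, 2, 1), (2, 3, 10), (2, 4, 2), (2, 5, 2), (2, 6, 2), (3, 3, 1), (3, 4, 3), (3, 5, 3), (3, 6, 3), (4, 4, 1), (4, 5, 2), (4, 6, 2), (5, 5, 1), (5, 6, 4), (6, 6, 1)]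

def extraW : List (List ℕ) := [
  ([4] ++ (List.replicate 2 [6, 5]).flatten),
  ([4] ++ (List.replicate 3 [2, 1, 0]).flatten),
  ([0] ++ (List.replicate 5 [3, 2]).flatten),
  (List.replicate 4 [2, 3, 5, 6]).flatten ]

def P : CoxEnc Gen :=
  { edges := He.edges, extra := He.extra, k := 7, enc := enc, dec := dec, invR := invR, tri := tri,
    extraW := extraW }

theorem valid : P.Valid where
  hnode := by
    intro x hx
    cases x <;> first | exact ⟨rfl, by decide, rfl⟩ | exact absurd hx (by decide)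
  hsound := by decide +kernel
  hcomplete := by decide +kernel
  hlen := rfl
  hextraW := by decide +kernel
  hinvk := rfl
  hsurj := by
    intro x
    cases x
    · exact ⟨0, by decide, rfl⟩
    · exact ⟨1, by decide, rfl⟩
    · exact ⟨2, by decide, rfl⟩
    · exact ⟨3, by decide, rfl⟩
    · exact ⟨4, by decide, rfl⟩
    · exact ⟨5, by decide, rfl⟩
    · exact ⟨6, by decide, rfl⟩
  hdec := by
    intro l hl
    have hl : l < 7 := hl
    interval_cases l
    · exact Or.inl ⟨Gen.a, rfl, rfl⟩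
    · exact Or.inl ⟨Gen.b, rfl, rfl⟩
    · exact Or.inl ⟨Gen.c, rfl, rfl⟩
    · exact Or.inl ⟨Gen.d, rfl, rfl⟩
    · exact Or.inl ⟨Gen.e, rfl, rfl⟩
    · exact Or.inl ⟨Gen.f, rfl, rfl⟩
    · exact Or.inl ⟨Gen.g, rfl, rfl⟩
  hinvR := by
    intro l hl
    have hl : l < 7 := hl
    interval_cases l
    · exact ⟨by decide, Or.inr ⟨rfl, Gen.a, by decide, rfl⟩⟩
    · exact ⟨by decide, Or.inr ⟨rfl, Gen.b, by decide, rfl⟩⟩
    · exact ⟨by decide, Or.inr ⟨rfl, Gen.c, by decide, rfl⟩⟩
    · exact ⟨by decide, Or.inr ⟨rfl, Gen.d, by decide, rfl⟩⟩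
    · exact ⟨by decide, Or.inr ⟨rfl, Gen.e, by decide, rfl⟩⟩
    · exact ⟨by decide, Or.inr ⟨rfl, Gen.f, by decide, rfl⟩⟩
    · exact ⟨by decide, Or.inr ⟨rfl, Gen.g, by decide, rfl⟩⟩
  hextra := by
    intro Γ _ f hn i h h'
    have ha : (f Gen.a)⁻¹ = f Gen.a := inv_eq_of_mul_eq_one_right (hn _ (by decide))
    have hb : (f Gen.b)⁻¹ = f Gen.b := inv_eq_of_mul_eq_one_right (hn _ (by decide))
    have hc : (f Gen.c)⁻¹ = f Gen.c := inv_eq_of_mul_eq_one_right (hn _ (by decide))
    have hd : (f Gen.d)⁻¹ = f Gen.d := inv_eq_of_mul_eq_one_right (hn _ (by decide))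
    have he : (f Gen.e)⁻¹ = f Gen.e := inv_eq_of_mul_eq_one_right (hn _ (by decide))
    have hf : (f Gen.f)⁻¹ = f Gen.f := inv_eq_of_mul_eq_one_right (hn _ (by decide))
    have hg : (f Gen.g)⁻¹ = f Gen.g := inv_eq_of_mul_eq_one_right (hn _ (by decide))
    have hi : i < 4 := h
    interval_cases i
    · show FreeGroup.lift f (He.extra[0]) = wordP (fun l => FreeGroup.lift f (dec l)) (extraW[0])
      simp only [He.extra, extraW, List.getElem_cons_zero, List.getElem_cons_succ, wordP_replicate_flatten,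
        wordP_append, wordP_cons, wordP_nil, dec, map_mul, map_pow, map_inv, FreeGroup.lift_apply_of, mul_one,
        ← inv_pow, mul_inv_rev, inv_inv, mul_assoc, ha, hb, hc, hd, he, hf, hg]
    · show FreeGroup.lift f (He.extra[1]) = wordP (fun l => FreeGroup.lift f (dec l)) (extraW[1])
      simp only [He.extra, extraW, List.getElem_cons_zero, List.getElem_cons_succ, wordP_replicate_flatten,
        wordP_append, wordP_cons, wordP_nil, dec, map_mul, map_pow, map_inv, FreeGroup.lift_apply_of, mul_one,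
        ← inv_pow, mul_inv_rev, inv_inv, mul_assoc, ha, hb, hc, hd, he, hf, hg]
    · show FreeGroup.lift f (He.extra[2]) = wordP (fun l => FreeGroup.lift f (dec l)) (extraW[2])
      simp only [He.extra, extraW, List.getElem_cons_zero, List.getElem_cons_succ, wordP_replicate_flatten,
        wordP_append, wordP_cons, wordP_nil, dec, map_mul, map_pow, map_inv, FreeGroup.lift_apply_of, mul_one,
        ← inv_pow, mul_inv_rev, inv_inv, mul_assoc, ha, hb, hc, hd, he, hf, hg]
    · show FreeGroup.lift f (He.extra[3]) = wordP (fun l => FreeGroup.lift f (dec l)) (extraW[3])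
      simp only [He.extra, extraW, List.getElem_cons_zero, List.getElem_cons_succ, wordP_replicate_flatten,
        wordP_append, wordP_cons, wordP_nil, dec, map_mul, map_pow, map_inv, FreeGroup.lift_apply_of, mul_one,
        ← inv_pow, mul_inv_rev, inv_inv, mul_assoc, ha, hb, hc, hd, he, hf, hg]

end Cfsg.Agent.Lib.Helper4.TC.PHe
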