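import Cfsg.Agent.Lib.Helper4.TC11
import Cfsg.Agent.Lib.Helper4.TCD_He1_Acc
import Cfsg.Agent.Lib.Helper4.TCD_HeL_D0

namespace Cfsg.Agent.Lib.Helper4.TCD.HeL

open Cfsg.Agent.Lib.Helper4.TC Cfsg.Agent.Lib.Helper4.TCD.He1

set_option maxRecDepth 100000

noncomputable def st7 (i : Nat) : Nat := rdw 12 4095 st7_0 i
noncomputable def st8 (i : Nat) : Nat := rdw 12 4095 st8_0 i
noncomputable def st9 (i : Nat) : Nat := rdw 12 4095 st9_0 i
noncomputable def st10 (i : Nat) : Nat := rdw 12 4095 st10_0 i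
noncomputable def st11 (i : Nat) : Nat := rdw 12 4095 st11_0 i
noncomputable def st12 (i : Nat) : Nat := rdw 12 4095 st12_0 i
noncomputable def st13 (i : Nat) : Nat := rdw 12 4095 st13_0 i
noncomputable def st14 (i : Nat) : Nat := rdw 12 4095 st14_0 i
noncomputable def st15 (i : Nat) : Nat := rdw 12 4095 st15_0 i
noncomputable def st16 (i : Nat) : Nat := rdw 12 4095 st16_0 i
noncomputable def st17 (i : Nat) : Nat := rdw 12 4095 st17_0 i
noncomputable def st18 (i : Nat) : Nat := rdw 12 4095 st18_0 i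
noncomputable def levTab (i : Nat) : Nat := rdw 4 15 levTab_0 i
noncomputable def betaTab (i : Nat) : Nat := rdw 12 4095 betaTab_0 i
noncomputable def nodeTab_s_0_2 (c : Nat) : Nat := @Bool.rec (fun _ => Nat) (nodeTab_0) (nodeTab_1) (Nat.ble 1 c)
noncomputable def nodeTab (i : Nat) : Nat := rdw 32 4294967295 (nodeTab_s_0_2 (Nat.shiftRight i 11)) (Nat.land i 2047)
noncomputable def offTab (i : Nat) : Nat := rdw 12 4095 offTab_0 i
noncomputable def nTab (i : Nat) : Nat := rdw 12 4095 nTab_0 i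
noncomputable def rootTab (i : Nat) : Nat := rdw 12 4095 rootTab_0 i
noncomputable def tabF (i p : Nat) : Nat := @Bool.rec (fun _ => Nat) (@Bool.rec (fun _ => Nat) (@Bool.rec (fun _ => Nat) (@Bool.rec (fun _ => Nat) (col0 p) (col1 p) (Nat.ble 1 i)) (@Bool.rec (fun _ => Nat) (col2 p) (col3 p) (Nat.ble 3 i)) (Nat.ble 2 i)) (@Bool.rec (fun _ => Nat) (@Bool.rec (fun _ => Nat) (col4 p) (col5 p) (Nat.ble 5 i)) (@Bool.rec (fun _ => Nat) (col6 p) (@Bool.rec (fun _ => Nat) (st7 p) (st8 p) (Nat.ble 8 i)) (Nat.ble 7 i)) (Nat.ble 6 i)) (Nat.ble 4 i)) (@Bool.rec (fun _ => Nat) (@Bool.rec (fun _ => Nat) (@Bool.rec (fun _ => Nat) (st9 p) (st10 p) (Nat.ble 10 i)) (@Bool.rec (fun _ => Nat) (st11 p) (@Bool.rec (fun _ => Nat) (st12 p) (st13 p) (Nat.ble 13 i)) (Nat.ble 12 i)) (Nat.ble 11 i)) (@Bool.rec (fun _ => Nat) (@Bool.rec (fun _ => Nat) (st14 p) (st15 p) (Nat.ble 15 i)) (@Bool.rec (fun _ => Nat) (st16 p) (@Bool.rec (fun _ =>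 Nat) (st17 p) (st18 p) (Nat.ble 18 i)) (Nat.ble 17 i)) (Nat.ble 16 i)) (Nat.ble 14 i)) (Nat.ble 9 i)
def wAF : Nat → List Nat
  | 7 => [3, 6, 4, 3, 2, 3, 6, 1]
  | 8 => [7]
  | 9 => [2, 7, 1, 2, 7, 1]
  | 10 => [8, 3, 2, 7]
  | 11 => [10]
  | 12 => [0, 7, 9, 5, 9, 11, 9]
  | 13 => [12]
  | 14 => [12, 2, 7, 11, 3, 9, 13, 3, 12]
  | 15 => [7, 9, 12, 1, 10, 7, 5, 11, 3, 9, 13, 3]
  | 16 => [15]
  | 17 => [10, 4, 12, 12, 2, 3]
  | 18 => [2, 3, 15]
  | _ => []
def wBF : Nat → List Nat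
  | 7 => [6, 2, 3, 6, 4, 3, 2, 3, 2, 1]
  | 8 => []
  | 9 => [1, 6, 8, 1, 8, 1]
  | 10 => [0, 7, 3, 9, 5]
  | 11 => []
  | 12 => [10, 2, 0, 7]
  | 13 => []
  | 14 => [13, 13, 7]
  | 15 => [14, 13, 13, 8, 1]
  | 16 => []
  | 17 => [12, 4]
  | 18 => [14, 15, 3]
  | _ => []
noncomputable def ptF (j idx : Nat) : Nat := Nat.land (nodeTab (Nat.add (offTab j) idx)) 4095
noncomputable def parF (j idx : Nat) : Nat := Nat.land (Nat.shiftRight (nodeTab (Nat.add (offTab j) idx)) 12) 4095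
noncomputable def giF (j idx : Nat) : Nat := Nat.land (Nat.shiftRight (nodeTab (Nat.add (offTab j) idx)) 24) 31
noncomputable def depF (j idx : Nat) : Nat := Nat.shiftRight (nodeTab (Nat.add (offTab j) idx)) 29

noncomputable def S : Sgs :=
  { N := 2058, k := 7, m := 19, tab := tabF, wA := wAF, wB := wBF, lev := levTab, r := 8, beta := betaTab,
    n := nTab, root := rootTab, pt := ptF, par := parF, gi := giF, dep := depF }

noncomputable def chk7 (p : Nat) : Bool := band (Nat.ble (Nat.succ (st7 p)) 2058) (Nat.beq (col3 (col6 (col4 (col3 (col2 (col3 (col6 (col1 (st7 p))))))))) (col6 (col2 (col3 (col6 (col4 (col3 (col2 (col3 (col2 (col1 p)))))))))))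
theorem chk7_eq (p : Nat) : chk7 p = Sgs.permOK S 7 p := rfl
noncomputable def chk8 (p : Nat) : Bool := band (Nat.ble (Nat.succ (st8 p)) 2058) (Nat.beq (st7 (st8 p)) p)
theorem chk8_eq (p : Nat) : chk8 p = Sgs.permOK S 8 p := rfl
noncomputable def chk9 (p : Nat) : Bool := band (Nat.ble (Nat.succ (st9 p)) 2058) (Nat.beq (col2 (st7 (col1 (col2 (st7 (col1 (st9 p))))))) (col1 (col6 (st8 (col1 (st8 (col1 p)))))))
theorem chk9_eq (p : Nat) : chk9 p = Sgs.permOK S 9 p := rfl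
noncomputable def chk10 (p : Nat) : Bool := band (Nat.ble (Nat.succ (st10 p)) 2058) (Nat.beq (st8 (col3 (col2 (st7 (st10 p))))) (col0 (st7 (col3 (st9 (col5 p))))))
theorem chk10_eq (p : Nat) : chk10 p = Sgs.permOK S 10 p := rfl
noncomputable def chk11 (p : Nat) : Bool := band (Nat.ble (Nat.succ (st11 p)) 2058) (Nat.beq (st10 (st11 p)) p)
theorem chk11_eq (p : Nat) : chk11 p = Sgs.permOK S 11 p := rfl
noncomputable def chk12 (p : Nat) : Bool := band (Nat.ble (Nat.succ (st12 p)) 2058) (Nat.beq (col0 (st7 (st9 (col5 (st9 (st11 (st9 (st12 p)))))))) (st10 (col2 (col0 (st7 p)))))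
theorem chk12_eq (p : Nat) : chk12 p = Sgs.permOK S 12 p := rfl
noncomputable def chk13 (p : Nat) : Bool := band (Nat.ble (Nat.succ (st13 p)) 2058) (Nat.beq (st12 (st13 p)) p)
theorem chk13_eq (p : Nat) : chk13 p = Sgs.permOK S 13 p := rfl
noncomputable def chk14 (p : Nat) : Bool := band (Nat.ble (Nat.succ (st14 p)) 2058) (Nat.beq (st12 (col2 (st7 (st11 (col3 (st9 (st13 (col3 (st12 (st14 p)))))))))) (st13 (st13 (st7 p))))
theorem chk14_eq (p : Nat) : chk14 p = Sgs.permOK S 14 p := rfl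
noncomputable def chk15 (p : Nat) : Bool := band (Nat.ble (Nat.succ (st15 p)) 2058) (Nat.beq (st7 (st9 (st12 (col1 (st10 (st7 (col5 (st11 (col3 (st9 (st13 (col3 (st15 p))))))))))))) (st14 (st13 (st13 (st8 (col1 p))))))
theorem chk15_eq (p : Nat) : chk15 p = Sgs.permOK S 15 p := rfl
noncomputable def chk16 (p : Nat) : Bool := band (Nat.ble (Nat.succ (st16 p)) 2058) (Nat.beq (st15 (st16 p)) p)
theorem chk16_eq (p : Nat) : chk16 p = Sgs.permOK S 16 p := rfl
noncomputable def chk17 (p : Nat) : Bool := band (Nat.ble (Nat.succ (st17 p)) 2058) (Nat.beq (st10 (col4 (st12 (st12 (col2 (col3 (st17 p))))))) (st12 (col4 p)))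
theorem chk17_eq (p : Nat) : chk17 p = Sgs.permOK S 17 p := rfl
noncomputable def chk18 (p : Nat) : Bool := band (Nat.ble (Nat.succ (st18 p)) 2058) (Nat.beq (col2 (col3 (st15 (st18 p)))) (st14 (st15 (col3 p))))
theorem chk18_eq (p : Nat) : chk18 p = Sgs.permOK S 18 p := rfl

end Cfsg.Agent.Lib.Helper4.TCD.HeL
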