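import Cfsg.Agent.Lib.Helper4.TC7
import Cfsg.Agent.Lib.Helper4.TC8
import Cfsg.Agent.Lib.Helper4.TCP_He
import Cfsg.Agent.Lib.Helper4.TCD_HeU1_D0
import Cfsg.Agent.Lib.Helper4.TCD_HeU1_D1
import Cfsg.Agent.Lib.Helper4.TCD_HeU1_D2
import Cfsg.Agent.Lib.Helper4.TCD_HeU1_D3
import Cfsg.Agent.Lib.Helper4.TCD_HeU1_D4
import Cfsg.Agent.Lib.Helper4.TCD_HeU1_D5
import Cfsg.Agent.Lib.Helper4.TCD_HeU1_D6
import Cfsg.Agent.Lib.Helper4.TCD_HeU1_D7
import Cfsg.Agent.Lib.Helper4.TCD_HeU1_D8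
import Cfsg.Agent.Lib.Helper4.TCD_HeU1_D9
import Cfsg.Agent.Lib.Helper4.TCD_HeU1_D10
import Cfsg.Agent.Lib.Helper4.TCD_HeU1_D11
import Cfsg.Agent.Lib.Helper4.TCD_HeU1_D12
import Cfsg.Agent.Lib.Helper4.TCD_HeU1_D13
import Cfsg.Agent.Lib.Helper4.TCD_HeU1_D14
import Cfsg.Agent.Lib.Helper4.TCD_HeU1_D15
import Cfsg.Agent.Lib.Helper4.TCD_HeU1_D16
import Cfsg.Agent.Lib.Helper4.TCD_HeU1_D17
import Cfsg.Agent.Lib.Helper4.TCD_HeU1_D18
import Cfsg.Agent.Lib.Helper4.TCD_HeU1_D19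
import Cfsg.Agent.Lib.Helper4.TCD_HeU1_D20
import Cfsg.Agent.Lib.Helper4.TCD_HeU1_D21
import Cfsg.Agent.Lib.Helper4.TCD_HeU1_D22
import Cfsg.Agent.Lib.Helper4.TCD_HeU1_D23
import Cfsg.Agent.Lib.Helper4.TCD_HeU1_D24
import Cfsg.Agent.Lib.Helper4.TCD_HeU1_D25
import Cfsg.Agent.Lib.Helper4.TCD_HeU1_D26
import Cfsg.Agent.Lib.Helper4.TCD_HeU1_D27
import Cfsg.Agent.Lib.Helper4.TCD_HeU1_D28
import Cfsg.Agent.Lib.Helper4.TCD_HeU1_D29
import Cfsg.Agent.Lib.Helper4.TCD_HeU1_D30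
import Cfsg.Agent.Lib.Helper4.TCD_HeU1_D31
import Cfsg.Agent.Lib.Helper4.TCD_HeU1_D32
import Cfsg.Agent.Lib.Helper4.TCD_HeU1_D33
import Cfsg.Agent.Lib.Helper4.TCD_HeU1_D34
import Cfsg.Agent.Lib.Helper4.TCD_HeU1_D35

namespace Cfsg.Agent.Lib.Helper4.TCD.HeU1

open Cfsg.Agent.Lib.Helper4.TC

set_option maxRecDepth 100000

noncomputable def Atab_s_1_3 (c : Nat) : Nat := @Bool.rec (fun _ => Nat) (Atab_1) (Atab_2) (Nat.ble 2 c)
noncomputable def Atab_s_0_3 (c : Nat) : Nat := @Bool.rec (fun _ => Nat) (Atab_0) (Atab_s_1_3 c) (Nat.ble 1 c)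
noncomputable def Atab_s_3_5 (c : Nat) : Nat := @Bool.rec (fun _ => Nat) (Atab_3) (Atab_4) (Nat.ble 4 c)
noncomputable def Atab_s_5_7 (c : Nat) : Nat := @Bool.rec (fun _ => Nat) (Atab_5) (Atab_6) (Nat.ble 6 c)
noncomputable def Atab_s_3_7 (c : Nat) : Nat := @Bool.rec (fun _ => Nat) (Atab_s_3_5 c) (Atab_s_5_7 c) (Nat.ble 5 c)
noncomputable def Atab_s_0_7 (c : Nat) : Nat := @Bool.rec (fun _ => Nat) (Atab_s_0_3 c) (Atab_s_3_7 c) (Nat.ble 3 c)
noncomputable def Atab_s_8_10 (c : Nat) : Nat := @Bool.rec (fun _ => Nat) (Atab_8) (Atab_9) (Nat.ble 9 c)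
noncomputable def Atab_s_7_10 (c : Nat) : Nat := @Bool.rec (fun _ => Nat) (Atab_7) (Atab_s_8_10 c) (Nat.ble 8 c)
noncomputable def Atab_s_10_12 (c : Nat) : Nat := @Bool.rec (fun _ => Nat) (Atab_10) (Atab_11) (Nat.ble 11 c)
noncomputable def Atab_s_12_14 (c : Nat) : Nat := @Bool.rec (fun _ => Nat) (Atab_12) (Atab_13) (Nat.ble 13 c)
noncomputable def Atab_s_10_14 (c : Nat) : Nat := @Bool.rec (fun _ => Nat) (Atab_s_10_12 c) (Atab_s_12_14 c) (Nat.ble 12 c)
noncomputable def Atab_s_7_14 (c : Nat) : Nat := @Bool.rec (fun _ => Nat) (Atab_s_7_10 c) (Atab_s_10_14 c) (Nat.ble 10 c)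
noncomputable def Atab_s_0_14 (c : Nat) : Nat := @Bool.rec (fun _ => Nat) (Atab_s_0_7 c) (Atab_s_7_14 c) (Nat.ble 7 c)
noncomputable def Atab_s_15_17 (c : Nat) : Nat := @Bool.rec (fun _ => Nat) (Atab_15) (Atab_16) (Nat.ble 16 c)
noncomputable def Atab_s_14_17 (c : Nat) : Nat := @Bool.rec (fun _ => Nat) (Atab_14) (Atab_s_15_17 c) (Nat.ble 15 c)
noncomputable def Atab_s_17_19 (c : Nat) : Nat := @Bool.rec (fun _ => Nat) (Atab_17) (Atab_18) (Nat.ble 18 c)
noncomputable def Atab_s_19_21 (c : Nat) : Nat := @Bool.rec (fun _ => Nat) (Atab_19) (Atab_20) (Nat.ble 20 c)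
noncomputable def Atab_s_17_21 (c : Nat) : Nat := @Bool.rec (fun _ => Nat) (Atab_s_17_19 c) (Atab_s_19_21 c) (Nat.ble 19 c)
noncomputable def Atab_s_14_21 (c : Nat) : Nat := @Bool.rec (fun _ => Nat) (Atab_s_14_17 c) (Atab_s_17_21 c) (Nat.ble 17 c)
noncomputable def Atab_s_22_24 (c : Nat) : Nat := @Bool.rec (fun _ => Nat) (Atab_22) (Atab_23) (Nat.ble 23 c)
noncomputable def Atab_s_21_24 (c : Nat) : Nat := @Bool.rec (fun _ => Nat) (Atab_21) (Atab_s_22_24 c) (Nat.ble 22 c)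
noncomputable def Atab_s_24_26 (c : Nat) : Nat := @Bool.rec (fun _ => Nat) (Atab_24) (Atab_25) (Nat.ble 25 c)
noncomputable def Atab_s_26_28 (c : Nat) : Nat := @Bool.rec (fun _ => Nat) (Atab_26) (Atab_27) (Nat.ble 27 c)
noncomputable def Atab_s_24_28 (c : Nat) : Nat := @Bool.rec (fun _ => Nat) (Atab_s_24_26 c) (Atab_s_26_28 c) (Nat.ble 26 c)
noncomputable def Atab_s_21_28 (c : Nat) : Nat := @Bool.rec (fun _ => Nat) (Atab_s_21_24 c) (Atab_s_24_28 c) (Nat.ble 24 c)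
noncomputable def Atab_s_14_28 (c : Nat) : Nat := @Bool.rec (fun _ => Nat) (Atab_s_14_21 c) (Atab_s_21_28 c) (Nat.ble 21 c)
noncomputable def Atab_s_0_28 (c : Nat) : Nat := @Bool.rec (fun _ => Nat) (Atab_s_0_14 c) (Atab_s_14_28 c) (Nat.ble 14 c)
noncomputable def Atab_s_29_31 (c : Nat) : Nat := @Bool.rec (fun _ => Nat) (Atab_29) (Atab_30) (Nat.ble 30 c)
noncomputable def Atab_s_28_31 (c : Nat) : Nat := @Bool.rec (fun _ => Nat) (Atab_28) (Atab_s_29_31 c) (Nat.ble 29 c)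
noncomputable def Atab_s_31_33 (c : Nat) : Nat := @Bool.rec (fun _ => Nat) (Atab_31) (Atab_32) (Nat.ble 32 c)
noncomputable def Atab_s_33_35 (c : Nat) : Nat := @Bool.rec (fun _ => Nat) (Atab_33) (Atab_34) (Nat.ble 34 c)
noncomputable def Atab_s_31_35 (c : Nat) : Nat := @Bool.rec (fun _ => Nat) (Atab_s_31_33 c) (Atab_s_33_35 c) (Nat.ble 33 c)
noncomputable def Atab_s_28_35 (c : Nat) : Nat := @Bool.rec (fun _ => Nat) (Atab_s_28_31 c) (Atab_s_31_35 c) (Nat.ble 31 c)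
noncomputable def Atab_s_36_38 (c : Nat) : Nat := @Bool.rec (fun _ => Nat) (Atab_36) (Atab_37) (Nat.ble 37 c)
noncomputable def Atab_s_35_38 (c : Nat) : Nat := @Bool.rec (fun _ => Nat) (Atab_35) (Atab_s_36_38 c) (Nat.ble 36 c)
noncomputable def Atab_s_38_40 (c : Nat) : Nat := @Bool.rec (fun _ => Nat) (Atab_38) (Atab_39) (Nat.ble 39 c)
noncomputable def Atab_s_40_42 (c : Nat) : Nat := @Bool.rec (fun _ => Nat) (Atab_40) (Atab_41) (Nat.ble 41 c)
noncomputable def Atab_s_38_42 (c : Nat) : Nat := @Bool.rec (fun _ => Nat) (Atab_s_38_40 c) (Atab_s_40_42 c) (Nat.ble 40 c)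
noncomputable def Atab_s_35_42 (c : Nat) : Nat := @Bool.rec (fun _ => Nat) (Atab_s_35_38 c) (Atab_s_38_42 c) (Nat.ble 38 c)
noncomputable def Atab_s_28_42 (c : Nat) : Nat := @Bool.rec (fun _ => Nat) (Atab_s_28_35 c) (Atab_s_35_42 c) (Nat.ble 35 c)
noncomputable def Atab_s_43_45 (c : Nat) : Nat := @Bool.rec (fun _ => Nat) (Atab_43) (Atab_44) (Nat.ble 44 c)
noncomputable def Atab_s_42_45 (c : Nat) : Nat := @Bool.rec (fun _ => Nat) (Atab_42) (Atab_s_43_45 c) (Nat.ble 43 c)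
noncomputable def Atab_s_45_47 (c : Nat) : Nat := @Bool.rec (fun _ => Nat) (Atab_45) (Atab_46) (Nat.ble 46 c)
noncomputable def Atab_s_47_49 (c : Nat) : Nat := @Bool.rec (fun _ => Nat) (Atab_47) (Atab_48) (Nat.ble 48 c)
noncomputable def Atab_s_45_49 (c : Nat) : Nat := @Bool.rec (fun _ => Nat) (Atab_s_45_47 c) (Atab_s_47_49 c) (Nat.ble 47 c)
noncomputable def Atab_s_42_49 (c : Nat) : Nat := @Bool.rec (fun _ => Nat) (Atab_s_42_45 c) (Atab_s_45_49 c) (Nat.ble 45 c)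
noncomputable def Atab_s_49_51 (c : Nat) : Nat := @Bool.rec (fun _ => Nat) (Atab_49) (Atab_50) (Nat.ble 50 c)
noncomputable def Atab_s_51_53 (c : Nat) : Nat := @Bool.rec (fun _ => Nat) (Atab_51) (Atab_52) (Nat.ble 52 c)
noncomputable def Atab_s_49_53 (c : Nat) : Nat := @Bool.rec (fun _ => Nat) (Atab_s_49_51 c) (Atab_s_51_53 c) (Nat.ble 51 c)
noncomputable def Atab_s_53_55 (c : Nat) : Nat := @Bool.rec (fun _ => Nat) (Atab_53) (Atab_54) (Nat.ble 54 c)
noncomputable def Atab_s_55_57 (c : Nat) : Nat := @Bool.rec (fun _ => Nat) (Atab_55) (Atab_56) (Nat.ble 56 c)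
noncomputable def Atab_s_53_57 (c : Nat) : Nat := @Bool.rec (fun _ => Nat) (Atab_s_53_55 c) (Atab_s_55_57 c) (Nat.ble 55 c)
noncomputable def Atab_s_49_57 (c : Nat) : Nat := @Bool.rec (fun _ => Nat) (Atab_s_49_53 c) (Atab_s_53_57 c) (Nat.ble 53 c)
noncomputable def Atab_s_42_57 (c : Nat) : Nat := @Bool.rec (fun _ => Nat) (Atab_s_42_49 c) (Atab_s_49_57 c) (Nat.ble 49 c)
noncomputable def Atab_s_28_57 (c : Nat) : Nat := @Bool.rec (fun _ => Nat) (Atab_s_28_42 c) (Atab_s_42_57 c) (Nat.ble 42 c)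
noncomputable def Atab_s_0_57 (c : Nat) : Nat := @Bool.rec (fun _ => Nat) (Atab_s_0_28 c) (Atab_s_28_57 c) (Nat.ble 28 c)
noncomputable def Atab_s_58_60 (c : Nat) : Nat := @Bool.rec (fun _ => Nat) (Atab_58) (Atab_59) (Nat.ble 59 c)
noncomputable def Atab_s_57_60 (c : Nat) : Nat := @Bool.rec (fun _ => Nat) (Atab_57) (Atab_s_58_60 c) (Nat.ble 58 c)
noncomputable def Atab_s_60_62 (c : Nat) : Nat := @Bool.rec (fun _ => Nat) (Atab_60) (Atab_61) (Nat.ble 61 c)
noncomputable def Atab_s_62_64 (c : Nat) : Nat := @Bool.rec (fun _ => Nat) (Atab_62) (Atab_63) (Nat.ble 63 c)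
noncomputable def Atab_s_60_64 (c : Nat) : Nat := @Bool.rec (fun _ => Nat) (Atab_s_60_62 c) (Atab_s_62_64 c) (Nat.ble 62 c)
noncomputable def Atab_s_57_64 (c : Nat) : Nat := @Bool.rec (fun _ => Nat) (Atab_s_57_60 c) (Atab_s_60_64 c) (Nat.ble 60 c)
noncomputable def Atab_s_65_67 (c : Nat) : Nat := @Bool.rec (fun _ => Nat) (Atab_65) (Atab_66) (Nat.ble 66 c)
noncomputable def Atab_s_64_67 (c : Nat) : Nat := @Bool.rec (fun _ => Nat) (Atab_64) (Atab_s_65_67 c) (Nat.ble 65 c)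
noncomputable def Atab_s_67_69 (c : Nat) : Nat := @Bool.rec (fun _ => Nat) (Atab_67) (Atab_68) (Nat.ble 68 c)
noncomputable def Atab_s_69_71 (c : Nat) : Nat := @Bool.rec (fun _ => Nat) (Atab_69) (Atab_70) (Nat.ble 70 c)
noncomputable def Atab_s_67_71 (c : Nat) : Nat := @Bool.rec (fun _ => Nat) (Atab_s_67_69 c) (Atab_s_69_71 c) (Nat.ble 69 c)
noncomputable def Atab_s_64_71 (c : Nat) : Nat := @Bool.rec (fun _ => Nat) (Atab_s_64_67 c) (Atab_s_67_71 c) (Nat.ble 67 c)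
noncomputable def Atab_s_57_71 (c : Nat) : Nat := @Bool.rec (fun _ => Nat) (Atab_s_57_64 c) (Atab_s_64_71 c) (Nat.ble 64 c)
noncomputable def Atab_s_72_74 (c : Nat) : Nat := @Bool.rec (fun _ => Nat) (Atab_72) (Atab_73) (Nat.ble 73 c)
noncomputable def Atab_s_71_74 (c : Nat) : Nat := @Bool.rec (fun _ => Nat) (Atab_71) (Atab_s_72_74 c) (Nat.ble 72 c)
noncomputable def Atab_s_74_76 (c : Nat) : Nat := @Bool.rec (fun _ => Nat) (Atab_74) (Atab_75) (Nat.ble 75 c)
noncomputable def Atab_s_76_78 (c : Nat) : Nat := @Bool.rec (fun _ => Nat) (Atab_76) (Atab_77) (Nat.ble 77 c)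
noncomputable def Atab_s_74_78 (c : Nat) : Nat := @Bool.rec (fun _ => Nat) (Atab_s_74_76 c) (Atab_s_76_78 c) (Nat.ble 76 c)
noncomputable def Atab_s_71_78 (c : Nat) : Nat := @Bool.rec (fun _ => Nat) (Atab_s_71_74 c) (Atab_s_74_78 c) (Nat.ble 74 c)
noncomputable def Atab_s_78_80 (c : Nat) : Nat := @Bool.rec (fun _ => Nat) (Atab_78) (Atab_79) (Nat.ble 79 c)
noncomputable def Atab_s_80_82 (c : Nat) : Nat := @Bool.rec (fun _ => Nat) (Atab_80) (Atab_81) (Nat.ble 81 c)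
noncomputable def Atab_s_78_82 (c : Nat) : Nat := @Bool.rec (fun _ => Nat) (Atab_s_78_80 c) (Atab_s_80_82 c) (Nat.ble 80 c)
noncomputable def Atab_s_82_84 (c : Nat) : Nat := @Bool.rec (fun _ => Nat) (Atab_82) (Atab_83) (Nat.ble 83 c)
noncomputable def Atab_s_84_86 (c : Nat) : Nat := @Bool.rec (fun _ => Nat) (Atab_84) (Atab_85) (Nat.ble 85 c)
noncomputable def Atab_s_82_86 (c : Nat) : Nat := @Bool.rec (fun _ => Nat) (Atab_s_82_84 c) (Atab_s_84_86 c) (Nat.ble 84 c)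
noncomputable def Atab_s_78_86 (c : Nat) : Nat := @Bool.rec (fun _ => Nat) (Atab_s_78_82 c) (Atab_s_82_86 c) (Nat.ble 82 c)
noncomputable def Atab_s_71_86 (c : Nat) : Nat := @Bool.rec (fun _ => Nat) (Atab_s_71_78 c) (Atab_s_78_86 c) (Nat.ble 78 c)
noncomputable def Atab_s_57_86 (c : Nat) : Nat := @Bool.rec (fun _ => Nat) (Atab_s_57_71 c) (Atab_s_71_86 c) (Nat.ble 71 c)
noncomputable def Atab_s_87_89 (c : Nat) : Nat := @Bool.rec (fun _ => Nat) (Atab_87) (Atab_88) (Nat.ble 88 c)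
noncomputable def Atab_s_86_89 (c : Nat) : Nat := @Bool.rec (fun _ => Nat) (Atab_86) (Atab_s_87_89 c) (Nat.ble 87 c)
noncomputable def Atab_s_89_91 (c : Nat) : Nat := @Bool.rec (fun _ => Nat) (Atab_89) (Atab_90) (Nat.ble 90 c)
noncomputable def Atab_s_91_93 (c : Nat) : Nat := @Bool.rec (fun _ => Nat) (Atab_91) (Atab_92) (Nat.ble 92 c)
noncomputable def Atab_s_89_93 (c : Nat) : Nat := @Bool.rec (fun _ => Nat) (Atab_s_89_91 c) (Atab_s_91_93 c) (Nat.ble 91 c)
noncomputable def Atab_s_86_93 (c : Nat) : Nat := @Bool.rec (fun _ => Nat) (Atab_s_86_89 c) (Atab_s_89_93 c) (Nat.ble 89 c)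
noncomputable def Atab_s_94_96 (c : Nat) : Nat := @Bool.rec (fun _ => Nat) (Atab_94) (Atab_95) (Nat.ble 95 c)
noncomputable def Atab_s_93_96 (c : Nat) : Nat := @Bool.rec (fun _ => Nat) (Atab_93) (Atab_s_94_96 c) (Nat.ble 94 c)
noncomputable def Atab_s_96_98 (c : Nat) : Nat := @Bool.rec (fun _ => Nat) (Atab_96) (Atab_97) (Nat.ble 97 c)
noncomputable def Atab_s_98_100 (c : Nat) : Nat := @Bool.rec (fun _ => Nat) (Atab_98) (Atab_99) (Nat.ble 99 c)
noncomputable def Atab_s_96_100 (c : Nat) : Nat := @Bool.rec (fun _ => Nat) (Atab_s_96_98 c) (Atab_s_98_100 c) (Nat.ble 98 c)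
noncomputable def Atab_s_93_100 (c : Nat) : Nat := @Bool.rec (fun _ => Nat) (Atab_s_93_96 c) (Atab_s_96_100 c) (Nat.ble 96 c)
noncomputable def Atab_s_86_100 (c : Nat) : Nat := @Bool.rec (fun _ => Nat) (Atab_s_86_93 c) (Atab_s_93_100 c) (Nat.ble 93 c)
noncomputable def Atab_s_101_103 (c : Nat) : Nat := @Bool.rec (fun _ => Nat) (Atab_101) (Atab_102) (Nat.ble 102 c)
noncomputable def Atab_s_100_103 (c : Nat) : Nat := @Bool.rec (fun _ => Nat) (Atab_100) (Atab_s_101_103 c) (Nat.ble 101 c)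
noncomputable def Atab_s_103_105 (c : Nat) : Nat := @Bool.rec (fun _ => Nat) (Atab_103) (Atab_104) (Nat.ble 104 c)
noncomputable def Atab_s_105_107 (c : Nat) : Nat := @Bool.rec (fun _ => Nat) (Atab_105) (Atab_106) (Nat.ble 106 c)
noncomputable def Atab_s_103_107 (c : Nat) : Nat := @Bool.rec (fun _ => Nat) (Atab_s_103_105 c) (Atab_s_105_107 c) (Nat.ble 105 c)
noncomputable def Atab_s_100_107 (c : Nat) : Nat := @Bool.rec (fun _ => Nat) (Atab_s_100_103 c) (Atab_s_103_107 c) (Nat.ble 103 c)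
noncomputable def Atab_s_107_109 (c : Nat) : Nat := @Bool.rec (fun _ => Nat) (Atab_107) (Atab_108) (Nat.ble 108 c)
noncomputable def Atab_s_109_111 (c : Nat) : Nat := @Bool.rec (fun _ => Nat) (Atab_109) (Atab_110) (Nat.ble 110 c)
noncomputable def Atab_s_107_111 (c : Nat) : Nat := @Bool.rec (fun _ => Nat) (Atab_s_107_109 c) (Atab_s_109_111 c) (Nat.ble 109 c)
noncomputable def Atab_s_111_113 (c : Nat) : Nat := @Bool.rec (fun _ => Nat) (Atab_111) (Atab_112) (Nat.ble 112 c)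
noncomputable def Atab_s_113_115 (c : Nat) : Nat := @Bool.rec (fun _ => Nat) (Atab_113) (Atab_114) (Nat.ble 114 c)
noncomputable def Atab_s_111_115 (c : Nat) : Nat := @Bool.rec (fun _ => Nat) (Atab_s_111_113 c) (Atab_s_113_115 c) (Nat.ble 113 c)
noncomputable def Atab_s_107_115 (c : Nat) : Nat := @Bool.rec (fun _ => Nat) (Atab_s_107_111 c) (Atab_s_111_115 c) (Nat.ble 111 c)
noncomputable def Atab_s_100_115 (c : Nat) : Nat := @Bool.rec (fun _ => Nat) (Atab_s_100_107 c) (Atab_s_107_115 c) (Nat.ble 107 c)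
noncomputable def Atab_s_86_115 (c : Nat) : Nat := @Bool.rec (fun _ => Nat) (Atab_s_86_100 c) (Atab_s_100_115 c) (Nat.ble 100 c)
noncomputable def Atab_s_57_115 (c : Nat) : Nat := @Bool.rec (fun _ => Nat) (Atab_s_57_86 c) (Atab_s_86_115 c) (Nat.ble 86 c)
noncomputable def Atab_s_0_115 (c : Nat) : Nat := @Bool.rec (fun _ => Nat) (Atab_s_0_57 c) (Atab_s_57_115 c) (Nat.ble 57 c)
noncomputable def Atab_s_116_118 (c : Nat) : Nat := @Bool.rec (fun _ => Nat) (Atab_116) (Atab_117) (Nat.ble 117 c)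
noncomputable def Atab_s_115_118 (c : Nat) : Nat := @Bool.rec (fun _ => Nat) (Atab_115) (Atab_s_116_118 c) (Nat.ble 116 c)
noncomputable def Atab_s_118_120 (c : Nat) : Nat := @Bool.rec (fun _ => Nat) (Atab_118) (Atab_119) (Nat.ble 119 c)
noncomputable def Atab_s_120_122 (c : Nat) : Nat := @Bool.rec (fun _ => Nat) (Atab_120) (Atab_121) (Nat.ble 121 c)
noncomputable def Atab_s_118_122 (c : Nat) : Nat := @Bool.rec (fun _ => Nat) (Atab_s_118_120 c) (Atab_s_120_122 c) (Nat.ble 120 c)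
noncomputable def Atab_s_115_122 (c : Nat) : Nat := @Bool.rec (fun _ => Nat) (Atab_s_115_118 c) (Atab_s_118_122 c) (Nat.ble 118 c)
noncomputable def Atab_s_123_125 (c : Nat) : Nat := @Bool.rec (fun _ => Nat) (Atab_123) (Atab_124) (Nat.ble 124 c)
noncomputable def Atab_s_122_125 (c : Nat) : Nat := @Bool.rec (fun _ => Nat) (Atab_122) (Atab_s_123_125 c) (Nat.ble 123 c)
noncomputable def Atab_s_125_127 (c : Nat) : Nat := @Bool.rec (fun _ => Nat) (Atab_125) (Atab_126) (Nat.ble 126 c)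
noncomputable def Atab_s_127_129 (c : Nat) : Nat := @Bool.rec (fun _ => Nat) (Atab_127) (Atab_128) (Nat.ble 128 c)
noncomputable def Atab_s_125_129 (c : Nat) : Nat := @Bool.rec (fun _ => Nat) (Atab_s_125_127 c) (Atab_s_127_129 c) (Nat.ble 127 c)
noncomputable def Atab_s_122_129 (c : Nat) : Nat := @Bool.rec (fun _ => Nat) (Atab_s_122_125 c) (Atab_s_125_129 c) (Nat.ble 125 c)
noncomputable def Atab_s_115_129 (c : Nat) : Nat := @Bool.rec (fun _ => Nat) (Atab_s_115_122 c) (Atab_s_122_129 c) (Nat.ble 122 c)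
noncomputable def Atab_s_130_132 (c : Nat) : Nat := @Bool.rec (fun _ => Nat) (Atab_130) (Atab_131) (Nat.ble 131 c)
noncomputable def Atab_s_129_132 (c : Nat) : Nat := @Bool.rec (fun _ => Nat) (Atab_129) (Atab_s_130_132 c) (Nat.ble 130 c)
noncomputable def Atab_s_132_134 (c : Nat) : Nat := @Bool.rec (fun _ => Nat) (Atab_132) (Atab_133) (Nat.ble 133 c)
noncomputable def Atab_s_134_136 (c : Nat) : Nat := @Bool.rec (fun _ => Nat) (Atab_134) (Atab_135) (Nat.ble 135 c)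
noncomputable def Atab_s_132_136 (c : Nat) : Nat := @Bool.rec (fun _ => Nat) (Atab_s_132_134 c) (Atab_s_134_136 c) (Nat.ble 134 c)
noncomputable def Atab_s_129_136 (c : Nat) : Nat := @Bool.rec (fun _ => Nat) (Atab_s_129_132 c) (Atab_s_132_136 c) (Nat.ble 132 c)
noncomputable def Atab_s_136_138 (c : Nat) : Nat := @Bool.rec (fun _ => Nat) (Atab_136) (Atab_137) (Nat.ble 137 c)
noncomputable def Atab_s_138_140 (c : Nat) : Nat := @Bool.rec (fun _ => Nat) (Atab_138) (Atab_139) (Nat.ble 139 c)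
noncomputable def Atab_s_136_140 (c : Nat) : Nat := @Bool.rec (fun _ => Nat) (Atab_s_136_138 c) (Atab_s_138_140 c) (Nat.ble 138 c)
noncomputable def Atab_s_140_142 (c : Nat) : Nat := @Bool.rec (fun _ => Nat) (Atab_140) (Atab_141) (Nat.ble 141 c)
noncomputable def Atab_s_142_144 (c : Nat) : Nat := @Bool.rec (fun _ => Nat) (Atab_142) (Atab_143) (Nat.ble 143 c)
noncomputable def Atab_s_140_144 (c : Nat) : Nat := @Bool.rec (fun _ => Nat) (Atab_s_140_142 c) (Atab_s_142_144 c) (Nat.ble 142 c)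
noncomputable def Atab_s_136_144 (c : Nat) : Nat := @Bool.rec (fun _ => Nat) (Atab_s_136_140 c) (Atab_s_140_144 c) (Nat.ble 140 c)
noncomputable def Atab_s_129_144 (c : Nat) : Nat := @Bool.rec (fun _ => Nat) (Atab_s_129_136 c) (Atab_s_136_144 c) (Nat.ble 136 c)
noncomputable def Atab_s_115_144 (c : Nat) : Nat := @Bool.rec (fun _ => Nat) (Atab_s_115_129 c) (Atab_s_129_144 c) (Nat.ble 129 c)
noncomputable def Atab_s_145_147 (c : Nat) : Nat := @Bool.rec (fun _ => Nat) (Atab_145) (Atab_146) (Nat.ble 146 c)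
noncomputable def Atab_s_144_147 (c : Nat) : Nat := @Bool.rec (fun _ => Nat) (Atab_144) (Atab_s_145_147 c) (Nat.ble 145 c)
noncomputable def Atab_s_147_149 (c : Nat) : Nat := @Bool.rec (fun _ => Nat) (Atab_147) (Atab_148) (Nat.ble 148 c)
noncomputable def Atab_s_149_151 (c : Nat) : Nat := @Bool.rec (fun _ => Nat) (Atab_149) (Atab_150) (Nat.ble 150 c)
noncomputable def Atab_s_147_151 (c : Nat) : Nat := @Bool.rec (fun _ => Nat) (Atab_s_147_149 c) (Atab_s_149_151 c) (Nat.ble 149 c)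
noncomputable def Atab_s_144_151 (c : Nat) : Nat := @Bool.rec (fun _ => Nat) (Atab_s_144_147 c) (Atab_s_147_151 c) (Nat.ble 147 c)
noncomputable def Atab_s_152_154 (c : Nat) : Nat := @Bool.rec (fun _ => Nat) (Atab_152) (Atab_153) (Nat.ble 153 c)
noncomputable def Atab_s_151_154 (c : Nat) : Nat := @Bool.rec (fun _ => Nat) (Atab_151) (Atab_s_152_154 c) (Nat.ble 152 c)
noncomputable def Atab_s_154_156 (c : Nat) : Nat := @Bool.rec (fun _ => Nat) (Atab_154) (Atab_155) (Nat.ble 155 c)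
noncomputable def Atab_s_156_158 (c : Nat) : Nat := @Bool.rec (fun _ => Nat) (Atab_156) (Atab_157) (Nat.ble 157 c)
noncomputable def Atab_s_154_158 (c : Nat) : Nat := @Bool.rec (fun _ => Nat) (Atab_s_154_156 c) (Atab_s_156_158 c) (Nat.ble 156 c)
noncomputable def Atab_s_151_158 (c : Nat) : Nat := @Bool.rec (fun _ => Nat) (Atab_s_151_154 c) (Atab_s_154_158 c) (Nat.ble 154 c)
noncomputable def Atab_s_144_158 (c : Nat) : Nat := @Bool.rec (fun _ => Nat) (Atab_s_144_151 c) (Atab_s_151_158 c) (Nat.ble 151 c)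
noncomputable def Atab_s_159_161 (c : Nat) : Nat := @Bool.rec (fun _ => Nat) (Atab_159) (Atab_160) (Nat.ble 160 c)
noncomputable def Atab_s_158_161 (c : Nat) : Nat := @Bool.rec (fun _ => Nat) (Atab_158) (Atab_s_159_161 c) (Nat.ble 159 c)
noncomputable def Atab_s_161_163 (c : Nat) : Nat := @Bool.rec (fun _ => Nat) (Atab_161) (Atab_162) (Nat.ble 162 c)
noncomputable def Atab_s_163_165 (c : Nat) : Nat := @Bool.rec (fun _ => Nat) (Atab_163) (Atab_164) (Nat.ble 164 c)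
noncomputable def Atab_s_161_165 (c : Nat) : Nat := @Bool.rec (fun _ => Nat) (Atab_s_161_163 c) (Atab_s_163_165 c) (Nat.ble 163 c)
noncomputable def Atab_s_158_165 (c : Nat) : Nat := @Bool.rec (fun _ => Nat) (Atab_s_158_161 c) (Atab_s_161_165 c) (Nat.ble 161 c)
noncomputable def Atab_s_165_167 (c : Nat) : Nat := @Bool.rec (fun _ => Nat) (Atab_165) (Atab_166) (Nat.ble 166 c)
noncomputable def Atab_s_167_169 (c : Nat) : Nat := @Bool.rec (fun _ => Nat) (Atab_167) (Atab_168) (Nat.ble 168 c)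
noncomputable def Atab_s_165_169 (c : Nat) : Nat := @Bool.rec (fun _ => Nat) (Atab_s_165_167 c) (Atab_s_167_169 c) (Nat.ble 167 c)
noncomputable def Atab_s_169_171 (c : Nat) : Nat := @Bool.rec (fun _ => Nat) (Atab_169) (Atab_170) (Nat.ble 170 c)
noncomputable def Atab_s_171_173 (c : Nat) : Nat := @Bool.rec (fun _ => Nat) (Atab_171) (Atab_172) (Nat.ble 172 c)
noncomputable def Atab_s_169_173 (c : Nat) : Nat := @Bool.rec (fun _ => Nat) (Atab_s_169_171 c) (Atab_s_171_173 c) (Nat.ble 171 c)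
noncomputable def Atab_s_165_173 (c : Nat) : Nat := @Bool.rec (fun _ => Nat) (Atab_s_165_169 c) (Atab_s_169_173 c) (Nat.ble 169 c)
noncomputable def Atab_s_158_173 (c : Nat) : Nat := @Bool.rec (fun _ => Nat) (Atab_s_158_165 c) (Atab_s_165_173 c) (Nat.ble 165 c)
noncomputable def Atab_s_144_173 (c : Nat) : Nat := @Bool.rec (fun _ => Nat) (Atab_s_144_158 c) (Atab_s_158_173 c) (Nat.ble 158 c)
noncomputable def Atab_s_115_173 (c : Nat) : Nat := @Bool.rec (fun _ => Nat) (Atab_s_115_144 c) (Atab_s_144_173 c) (Nat.ble 144 c)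
noncomputable def Atab_s_174_176 (c : Nat) : Nat := @Bool.rec (fun _ => Nat) (Atab_174) (Atab_175) (Nat.ble 175 c)
noncomputable def Atab_s_173_176 (c : Nat) : Nat := @Bool.rec (fun _ => Nat) (Atab_173) (Atab_s_174_176 c) (Nat.ble 174 c)
noncomputable def Atab_s_176_178 (c : Nat) : Nat := @Bool.rec (fun _ => Nat) (Atab_176) (Atab_177) (Nat.ble 177 c)
noncomputable def Atab_s_178_180 (c : Nat) : Nat := @Bool.rec (fun _ => Nat) (Atab_178) (Atab_179) (Nat.ble 179 c)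
noncomputable def Atab_s_176_180 (c : Nat) : Nat := @Bool.rec (fun _ => Nat) (Atab_s_176_178 c) (Atab_s_178_180 c) (Nat.ble 178 c)
noncomputable def Atab_s_173_180 (c : Nat) : Nat := @Bool.rec (fun _ => Nat) (Atab_s_173_176 c) (Atab_s_176_180 c) (Nat.ble 176 c)
noncomputable def Atab_s_181_183 (c : Nat) : Nat := @Bool.rec (fun _ => Nat) (Atab_181) (Atab_182) (Nat.ble 182 c)
noncomputable def Atab_s_180_183 (c : Nat) : Nat := @Bool.rec (fun _ => Nat) (Atab_180) (Atab_s_181_183 c) (Nat.ble 181 c)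
noncomputable def Atab_s_183_185 (c : Nat) : Nat := @Bool.rec (fun _ => Nat) (Atab_183) (Atab_184) (Nat.ble 184 c)
noncomputable def Atab_s_185_187 (c : Nat) : Nat := @Bool.rec (fun _ => Nat) (Atab_185) (Atab_186) (Nat.ble 186 c)
noncomputable def Atab_s_183_187 (c : Nat) : Nat := @Bool.rec (fun _ => Nat) (Atab_s_183_185 c) (Atab_s_185_187 c) (Nat.ble 185 c)
noncomputable def Atab_s_180_187 (c : Nat) : Nat := @Bool.rec (fun _ => Nat) (Atab_s_180_183 c) (Atab_s_183_187 c) (Nat.ble 183 c)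
noncomputable def Atab_s_173_187 (c : Nat) : Nat := @Bool.rec (fun _ => Nat) (Atab_s_173_180 c) (Atab_s_180_187 c) (Nat.ble 180 c)
noncomputable def Atab_s_188_190 (c : Nat) : Nat := @Bool.rec (fun _ => Nat) (Atab_188) (Atab_189) (Nat.ble 189 c)
noncomputable def Atab_s_187_190 (c : Nat) : Nat := @Bool.rec (fun _ => Nat) (Atab_187) (Atab_s_188_190 c) (Nat.ble 188 c)
noncomputable def Atab_s_190_192 (c : Nat) : Nat := @Bool.rec (fun _ => Nat) (Atab_190) (Atab_191) (Nat.ble 191 c)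
noncomputable def Atab_s_192_194 (c : Nat) : Nat := @Bool.rec (fun _ => Nat) (Atab_192) (Atab_193) (Nat.ble 193 c)
noncomputable def Atab_s_190_194 (c : Nat) : Nat := @Bool.rec (fun _ => Nat) (Atab_s_190_192 c) (Atab_s_192_194 c) (Nat.ble 192 c)
noncomputable def Atab_s_187_194 (c : Nat) : Nat := @Bool.rec (fun _ => Nat) (Atab_s_187_190 c) (Atab_s_190_194 c) (Nat.ble 190 c)
noncomputable def Atab_s_194_196 (c : Nat) : Nat := @Bool.rec (fun _ => Nat) (Atab_194) (Atab_195) (Nat.ble 195 c)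
noncomputable def Atab_s_196_198 (c : Nat) : Nat := @Bool.rec (fun _ => Nat) (Atab_196) (Atab_197) (Nat.ble 197 c)
noncomputable def Atab_s_194_198 (c : Nat) : Nat := @Bool.rec (fun _ => Nat) (Atab_s_194_196 c) (Atab_s_196_198 c) (Nat.ble 196 c)
noncomputable def Atab_s_198_200 (c : Nat) : Nat := @Bool.rec (fun _ => Nat) (Atab_198) (Atab_199) (Nat.ble 199 c)
noncomputable def Atab_s_200_202 (c : Nat) : Nat := @Bool.rec (fun _ => Nat) (Atab_200) (Atab_201) (Nat.ble 201 c)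
noncomputable def Atab_s_198_202 (c : Nat) : Nat := @Bool.rec (fun _ => Nat) (Atab_s_198_200 c) (Atab_s_200_202 c) (Nat.ble 200 c)
noncomputable def Atab_s_194_202 (c : Nat) : Nat := @Bool.rec (fun _ => Nat) (Atab_s_194_198 c) (Atab_s_198_202 c) (Nat.ble 198 c)
noncomputable def Atab_s_187_202 (c : Nat) : Nat := @Bool.rec (fun _ => Nat) (Atab_s_187_194 c) (Atab_s_194_202 c) (Nat.ble 194 c)
noncomputable def Atab_s_173_202 (c : Nat) : Nat := @Bool.rec (fun _ => Nat) (Atab_s_173_187 c) (Atab_s_187_202 c) (Nat.ble 187 c)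
noncomputable def Atab_s_203_205 (c : Nat) : Nat := @Bool.rec (fun _ => Nat) (Atab_203) (Atab_204) (Nat.ble 204 c)
noncomputable def Atab_s_202_205 (c : Nat) : Nat := @Bool.rec (fun _ => Nat) (Atab_202) (Atab_s_203_205 c) (Nat.ble 203 c)
noncomputable def Atab_s_205_207 (c : Nat) : Nat := @Bool.rec (fun _ => Nat) (Atab_205) (Atab_206) (Nat.ble 206 c)
noncomputable def Atab_s_207_209 (c : Nat) : Nat := @Bool.rec (fun _ => Nat) (Atab_207) (Atab_208) (Nat.ble 208 c)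
noncomputable def Atab_s_205_209 (c : Nat) : Nat := @Bool.rec (fun _ => Nat) (Atab_s_205_207 c) (Atab_s_207_209 c) (Nat.ble 207 c)
noncomputable def Atab_s_202_209 (c : Nat) : Nat := @Bool.rec (fun _ => Nat) (Atab_s_202_205 c) (Atab_s_205_209 c) (Nat.ble 205 c)
noncomputable def Atab_s_210_212 (c : Nat) : Nat := @Bool.rec (fun _ => Nat) (Atab_210) (Atab_211) (Nat.ble 211 c)
noncomputable def Atab_s_209_212 (c : Nat) : Nat := @Bool.rec (fun _ => Nat) (Atab_209) (Atab_s_210_212 c) (Nat.ble 210 c)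
noncomputable def Atab_s_212_214 (c : Nat) : Nat := @Bool.rec (fun _ => Nat) (Atab_212) (Atab_213) (Nat.ble 213 c)
noncomputable def Atab_s_214_216 (c : Nat) : Nat := @Bool.rec (fun _ => Nat) (Atab_214) (Atab_215) (Nat.ble 215 c)
noncomputable def Atab_s_212_216 (c : Nat) : Nat := @Bool.rec (fun _ => Nat) (Atab_s_212_214 c) (Atab_s_214_216 c) (Nat.ble 214 c)
noncomputable def Atab_s_209_216 (c : Nat) : Nat := @Bool.rec (fun _ => Nat) (Atab_s_209_212 c) (Atab_s_212_216 c) (Nat.ble 212 c)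
noncomputable def Atab_s_202_216 (c : Nat) : Nat := @Bool.rec (fun _ => Nat) (Atab_s_202_209 c) (Atab_s_209_216 c) (Nat.ble 209 c)
noncomputable def Atab_s_217_219 (c : Nat) : Nat := @Bool.rec (fun _ => Nat) (Atab_217) (Atab_218) (Nat.ble 218 c)
noncomputable def Atab_s_216_219 (c : Nat) : Nat := @Bool.rec (fun _ => Nat) (Atab_216) (Atab_s_217_219 c) (Nat.ble 217 c)
noncomputable def Atab_s_219_221 (c : Nat) : Nat := @Bool.rec (fun _ => Nat) (Atab_219) (Atab_220) (Nat.ble 220 c)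
noncomputable def Atab_s_221_223 (c : Nat) : Nat := @Bool.rec (fun _ => Nat) (Atab_221) (Atab_222) (Nat.ble 222 c)
noncomputable def Atab_s_219_223 (c : Nat) : Nat := @Bool.rec (fun _ => Nat) (Atab_s_219_221 c) (Atab_s_221_223 c) (Nat.ble 221 c)
noncomputable def Atab_s_216_223 (c : Nat) : Nat := @Bool.rec (fun _ => Nat) (Atab_s_216_219 c) (Atab_s_219_223 c) (Nat.ble 219 c)
noncomputable def Atab_s_223_225 (c : Nat) : Nat := @Bool.rec (fun _ => Nat) (Atab_223) (Atab_224) (Nat.ble 224 c)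
noncomputable def Atab_s_225_227 (c : Nat) : Nat := @Bool.rec (fun _ => Nat) (Atab_225) (Atab_226) (Nat.ble 226 c)
noncomputable def Atab_s_223_227 (c : Nat) : Nat := @Bool.rec (fun _ => Nat) (Atab_s_223_225 c) (Atab_s_225_227 c) (Nat.ble 225 c)
noncomputable def Atab_s_227_229 (c : Nat) : Nat := @Bool.rec (fun _ => Nat) (Atab_227) (Atab_228) (Nat.ble 228 c)
noncomputable def Atab_s_229_231 (c : Nat) : Nat := @Bool.rec (fun _ => Nat) (Atab_229) (Atab_230) (Nat.ble 230 c)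
noncomputable def Atab_s_227_231 (c : Nat) : Nat := @Bool.rec (fun _ => Nat) (Atab_s_227_229 c) (Atab_s_229_231 c) (Nat.ble 229 c)
noncomputable def Atab_s_223_231 (c : Nat) : Nat := @Bool.rec (fun _ => Nat) (Atab_s_223_227 c) (Atab_s_227_231 c) (Nat.ble 227 c)
noncomputable def Atab_s_216_231 (c : Nat) : Nat := @Bool.rec (fun _ => Nat) (Atab_s_216_223 c) (Atab_s_223_231 c) (Nat.ble 223 c)
noncomputable def Atab_s_202_231 (c : Nat) : Nat := @Bool.rec (fun _ => Nat) (Atab_s_202_216 c) (Atab_s_216_231 c) (Nat.ble 216 c)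
noncomputable def Atab_s_173_231 (c : Nat) : Nat := @Bool.rec (fun _ => Nat) (Atab_s_173_202 c) (Atab_s_202_231 c) (Nat.ble 202 c)
noncomputable def Atab_s_115_231 (c : Nat) : Nat := @Bool.rec (fun _ => Nat) (Atab_s_115_173 c) (Atab_s_173_231 c) (Nat.ble 173 c)
noncomputable def Atab_s_0_231 (c : Nat) : Nat := @Bool.rec (fun _ => Nat) (Atab_s_0_115 c) (Atab_s_115_231 c) (Nat.ble 115 c)
noncomputable def Atab_s_232_234 (c : Nat) : Nat := @Bool.rec (fun _ => Nat) (Atab_232) (Atab_233) (Nat.ble 233 c)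
noncomputable def Atab_s_231_234 (c : Nat) : Nat := @Bool.rec (fun _ => Nat) (Atab_231) (Atab_s_232_234 c) (Nat.ble 232 c)
noncomputable def Atab_s_234_236 (c : Nat) : Nat := @Bool.rec (fun _ => Nat) (Atab_234) (Atab_235) (Nat.ble 235 c)
noncomputable def Atab_s_236_238 (c : Nat) : Nat := @Bool.rec (fun _ => Nat) (Atab_236) (Atab_237) (Nat.ble 237 c)
noncomputable def Atab_s_234_238 (c : Nat) : Nat := @Bool.rec (fun _ => Nat) (Atab_s_234_236 c) (Atab_s_236_238 c) (Nat.ble 236 c)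
noncomputable def Atab_s_231_238 (c : Nat) : Nat := @Bool.rec (fun _ => Nat) (Atab_s_231_234 c) (Atab_s_234_238 c) (Nat.ble 234 c)
noncomputable def Atab_s_239_241 (c : Nat) : Nat := @Bool.rec (fun _ => Nat) (Atab_239) (Atab_240) (Nat.ble 240 c)
noncomputable def Atab_s_238_241 (c : Nat) : Nat := @Bool.rec (fun _ => Nat) (Atab_238) (Atab_s_239_241 c) (Nat.ble 239 c)
noncomputable def Atab_s_241_243 (c : Nat) : Nat := @Bool.rec (fun _ => Nat) (Atab_241) (Atab_242) (Nat.ble 242 c)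
noncomputable def Atab_s_243_245 (c : Nat) : Nat := @Bool.rec (fun _ => Nat) (Atab_243) (Atab_244) (Nat.ble 244 c)
noncomputable def Atab_s_241_245 (c : Nat) : Nat := @Bool.rec (fun _ => Nat) (Atab_s_241_243 c) (Atab_s_243_245 c) (Nat.ble 243 c)
noncomputable def Atab_s_238_245 (c : Nat) : Nat := @Bool.rec (fun _ => Nat) (Atab_s_238_241 c) (Atab_s_241_245 c) (Nat.ble 241 c)
noncomputable def Atab_s_231_245 (c : Nat) : Nat := @Bool.rec (fun _ => Nat) (Atab_s_231_238 c) (Atab_s_238_245 c) (Nat.ble 238 c)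
noncomputable def Atab_s_246_248 (c : Nat) : Nat := @Bool.rec (fun _ => Nat) (Atab_246) (Atab_247) (Nat.ble 247 c)
noncomputable def Atab_s_245_248 (c : Nat) : Nat := @Bool.rec (fun _ => Nat) (Atab_245) (Atab_s_246_248 c) (Nat.ble 246 c)
noncomputable def Atab_s_248_250 (c : Nat) : Nat := @Bool.rec (fun _ => Nat) (Atab_248) (Atab_249) (Nat.ble 249 c)
noncomputable def Atab_s_250_252 (c : Nat) : Nat := @Bool.rec (fun _ => Nat) (Atab_250) (Atab_251) (Nat.ble 251 c)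
noncomputable def Atab_s_248_252 (c : Nat) : Nat := @Bool.rec (fun _ => Nat) (Atab_s_248_250 c) (Atab_s_250_252 c) (Nat.ble 250 c)
noncomputable def Atab_s_245_252 (c : Nat) : Nat := @Bool.rec (fun _ => Nat) (Atab_s_245_248 c) (Atab_s_248_252 c) (Nat.ble 248 c)
noncomputable def Atab_s_252_254 (c : Nat) : Nat := @Bool.rec (fun _ => Nat) (Atab_252) (Atab_253) (Nat.ble 253 c)
noncomputable def Atab_s_254_256 (c : Nat) : Nat := @Bool.rec (fun _ => Nat) (Atab_254) (Atab_255) (Nat.ble 255 c)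
noncomputable def Atab_s_252_256 (c : Nat) : Nat := @Bool.rec (fun _ => Nat) (Atab_s_252_254 c) (Atab_s_254_256 c) (Nat.ble 254 c)
noncomputable def Atab_s_256_258 (c : Nat) : Nat := @Bool.rec (fun _ => Nat) (Atab_256) (Atab_257) (Nat.ble 257 c)
noncomputable def Atab_s_258_260 (c : Nat) : Nat := @Bool.rec (fun _ => Nat) (Atab_258) (Atab_259) (Nat.ble 259 c)
noncomputable def Atab_s_256_260 (c : Nat) : Nat := @Bool.rec (fun _ => Nat) (Atab_s_256_258 c) (Atab_s_258_260 c) (Nat.ble 258 c)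
noncomputable def Atab_s_252_260 (c : Nat) : Nat := @Bool.rec (fun _ => Nat) (Atab_s_252_256 c) (Atab_s_256_260 c) (Nat.ble 256 c)
noncomputable def Atab_s_245_260 (c : Nat) : Nat := @Bool.rec (fun _ => Nat) (Atab_s_245_252 c) (Atab_s_252_260 c) (Nat.ble 252 c)
noncomputable def Atab_s_231_260 (c : Nat) : Nat := @Bool.rec (fun _ => Nat) (Atab_s_231_245 c) (Atab_s_245_260 c) (Nat.ble 245 c)
noncomputable def Atab_s_261_263 (c : Nat) : Nat := @Bool.rec (fun _ => Nat) (Atab_261) (Atab_262) (Nat.ble 262 c)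
noncomputable def Atab_s_260_263 (c : Nat) : Nat := @Bool.rec (fun _ => Nat) (Atab_260) (Atab_s_261_263 c) (Nat.ble 261 c)
noncomputable def Atab_s_263_265 (c : Nat) : Nat := @Bool.rec (fun _ => Nat) (Atab_263) (Atab_264) (Nat.ble 264 c)
noncomputable def Atab_s_265_267 (c : Nat) : Nat := @Bool.rec (fun _ => Nat) (Atab_265) (Atab_266) (Nat.ble 266 c)
noncomputable def Atab_s_263_267 (c : Nat) : Nat := @Bool.rec (fun _ => Nat) (Atab_s_263_265 c) (Atab_s_265_267 c) (Nat.ble 265 c)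
noncomputable def Atab_s_260_267 (c : Nat) : Nat := @Bool.rec (fun _ => Nat) (Atab_s_260_263 c) (Atab_s_263_267 c) (Nat.ble 263 c)
noncomputable def Atab_s_268_270 (c : Nat) : Nat := @Bool.rec (fun _ => Nat) (Atab_268) (Atab_269) (Nat.ble 269 c)
noncomputable def Atab_s_267_270 (c : Nat) : Nat := @Bool.rec (fun _ => Nat) (Atab_267) (Atab_s_268_270 c) (Nat.ble 268 c)
noncomputable def Atab_s_270_272 (c : Nat) : Nat := @Bool.rec (fun _ => Nat) (Atab_270) (Atab_271) (Nat.ble 271 c)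
noncomputable def Atab_s_272_274 (c : Nat) : Nat := @Bool.rec (fun _ => Nat) (Atab_272) (Atab_273) (Nat.ble 273 c)
noncomputable def Atab_s_270_274 (c : Nat) : Nat := @Bool.rec (fun _ => Nat) (Atab_s_270_272 c) (Atab_s_272_274 c) (Nat.ble 272 c)
noncomputable def Atab_s_267_274 (c : Nat) : Nat := @Bool.rec (fun _ => Nat) (Atab_s_267_270 c) (Atab_s_270_274 c) (Nat.ble 270 c)
noncomputable def Atab_s_260_274 (c : Nat) : Nat := @Bool.rec (fun _ => Nat) (Atab_s_260_267 c) (Atab_s_267_274 c) (Nat.ble 267 c)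
noncomputable def Atab_s_275_277 (c : Nat) : Nat := @Bool.rec (fun _ => Nat) (Atab_275) (Atab_276) (Nat.ble 276 c)
noncomputable def Atab_s_274_277 (c : Nat) : Nat := @Bool.rec (fun _ => Nat) (Atab_274) (Atab_s_275_277 c) (Nat.ble 275 c)
noncomputable def Atab_s_277_279 (c : Nat) : Nat := @Bool.rec (fun _ => Nat) (Atab_277) (Atab_278) (Nat.ble 278 c)
noncomputable def Atab_s_279_281 (c : Nat) : Nat := @Bool.rec (fun _ => Nat) (Atab_279) (Atab_280) (Nat.ble 280 c)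
noncomputable def Atab_s_277_281 (c : Nat) : Nat := @Bool.rec (fun _ => Nat) (Atab_s_277_279 c) (Atab_s_279_281 c) (Nat.ble 279 c)
noncomputable def Atab_s_274_281 (c : Nat) : Nat := @Bool.rec (fun _ => Nat) (Atab_s_274_277 c) (Atab_s_277_281 c) (Nat.ble 277 c)
noncomputable def Atab_s_281_283 (c : Nat) : Nat := @Bool.rec (fun _ => Nat) (Atab_281) (Atab_282) (Nat.ble 282 c)
noncomputable def Atab_s_283_285 (c : Nat) : Nat := @Bool.rec (fun _ => Nat) (Atab_283) (Atab_284) (Nat.ble 284 c)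
noncomputable def Atab_s_281_285 (c : Nat) : Nat := @Bool.rec (fun _ => Nat) (Atab_s_281_283 c) (Atab_s_283_285 c) (Nat.ble 283 c)
noncomputable def Atab_s_285_287 (c : Nat) : Nat := @Bool.rec (fun _ => Nat) (Atab_285) (Atab_286) (Nat.ble 286 c)
noncomputable def Atab_s_287_289 (c : Nat) : Nat := @Bool.rec (fun _ => Nat) (Atab_287) (Atab_288) (Nat.ble 288 c)
noncomputable def Atab_s_285_289 (c : Nat) : Nat := @Bool.rec (fun _ => Nat) (Atab_s_285_287 c) (Atab_s_287_289 c) (Nat.ble 287 c)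
noncomputable def Atab_s_281_289 (c : Nat) : Nat := @Bool.rec (fun _ => Nat) (Atab_s_281_285 c) (Atab_s_285_289 c) (Nat.ble 285 c)
noncomputable def Atab_s_274_289 (c : Nat) : Nat := @Bool.rec (fun _ => Nat) (Atab_s_274_281 c) (Atab_s_281_289 c) (Nat.ble 281 c)
noncomputable def Atab_s_260_289 (c : Nat) : Nat := @Bool.rec (fun _ => Nat) (Atab_s_260_274 c) (Atab_s_274_289 c) (Nat.ble 274 c)
noncomputable def Atab_s_231_289 (c : Nat) : Nat := @Bool.rec (fun _ => Nat) (Atab_s_231_260 c) (Atab_s_260_289 c) (Nat.ble 260 c)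
noncomputable def Atab_s_290_292 (c : Nat) : Nat := @Bool.rec (fun _ => Nat) (Atab_290) (Atab_291) (Nat.ble 291 c)
noncomputable def Atab_s_289_292 (c : Nat) : Nat := @Bool.rec (fun _ => Nat) (Atab_289) (Atab_s_290_292 c) (Nat.ble 290 c)
noncomputable def Atab_s_292_294 (c : Nat) : Nat := @Bool.rec (fun _ => Nat) (Atab_292) (Atab_293) (Nat.ble 293 c)
noncomputable def Atab_s_294_296 (c : Nat) : Nat := @Bool.rec (fun _ => Nat) (Atab_294) (Atab_295) (Nat.ble 295 c)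
noncomputable def Atab_s_292_296 (c : Nat) : Nat := @Bool.rec (fun _ => Nat) (Atab_s_292_294 c) (Atab_s_294_296 c) (Nat.ble 294 c)
noncomputable def Atab_s_289_296 (c : Nat) : Nat := @Bool.rec (fun _ => Nat) (Atab_s_289_292 c) (Atab_s_292_296 c) (Nat.ble 292 c)
noncomputable def Atab_s_297_299 (c : Nat) : Nat := @Bool.rec (fun _ => Nat) (Atab_297) (Atab_298) (Nat.ble 298 c)
noncomputable def Atab_s_296_299 (c : Nat) : Nat := @Bool.rec (fun _ => Nat) (Atab_296) (Atab_s_297_299 c) (Nat.ble 297 c)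
noncomputable def Atab_s_299_301 (c : Nat) : Nat := @Bool.rec (fun _ => Nat) (Atab_299) (Atab_300) (Nat.ble 300 c)
noncomputable def Atab_s_301_303 (c : Nat) : Nat := @Bool.rec (fun _ => Nat) (Atab_301) (Atab_302) (Nat.ble 302 c)
noncomputable def Atab_s_299_303 (c : Nat) : Nat := @Bool.rec (fun _ => Nat) (Atab_s_299_301 c) (Atab_s_301_303 c) (Nat.ble 301 c)
noncomputable def Atab_s_296_303 (c : Nat) : Nat := @Bool.rec (fun _ => Nat) (Atab_s_296_299 c) (Atab_s_299_303 c) (Nat.ble 299 c)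
noncomputable def Atab_s_289_303 (c : Nat) : Nat := @Bool.rec (fun _ => Nat) (Atab_s_289_296 c) (Atab_s_296_303 c) (Nat.ble 296 c)
noncomputable def Atab_s_304_306 (c : Nat) : Nat := @Bool.rec (fun _ => Nat) (Atab_304) (Atab_305) (Nat.ble 305 c)
noncomputable def Atab_s_303_306 (c : Nat) : Nat := @Bool.rec (fun _ => Nat) (Atab_303) (Atab_s_304_306 c) (Nat.ble 304 c)
noncomputable def Atab_s_306_308 (c : Nat) : Nat := @Bool.rec (fun _ => Nat) (Atab_306) (Atab_307) (Nat.ble 307 c)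
noncomputable def Atab_s_308_310 (c : Nat) : Nat := @Bool.rec (fun _ => Nat) (Atab_308) (Atab_309) (Nat.ble 309 c)
noncomputable def Atab_s_306_310 (c : Nat) : Nat := @Bool.rec (fun _ => Nat) (Atab_s_306_308 c) (Atab_s_308_310 c) (Nat.ble 308 c)
noncomputable def Atab_s_303_310 (c : Nat) : Nat := @Bool.rec (fun _ => Nat) (Atab_s_303_306 c) (Atab_s_306_310 c) (Nat.ble 306 c)
noncomputable def Atab_s_310_312 (c : Nat) : Nat := @Bool.rec (fun _ => Nat) (Atab_310) (Atab_311) (Nat.ble 311 c)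
noncomputable def Atab_s_312_314 (c : Nat) : Nat := @Bool.rec (fun _ => Nat) (Atab_312) (Atab_313) (Nat.ble 313 c)
noncomputable def Atab_s_310_314 (c : Nat) : Nat := @Bool.rec (fun _ => Nat) (Atab_s_310_312 c) (Atab_s_312_314 c) (Nat.ble 312 c)
noncomputable def Atab_s_314_316 (c : Nat) : Nat := @Bool.rec (fun _ => Nat) (Atab_314) (Atab_315) (Nat.ble 315 c)
noncomputable def Atab_s_316_318 (c : Nat) : Nat := @Bool.rec (fun _ => Nat) (Atab_316) (Atab_317) (Nat.ble 317 c)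
noncomputable def Atab_s_314_318 (c : Nat) : Nat := @Bool.rec (fun _ => Nat) (Atab_s_314_316 c) (Atab_s_316_318 c) (Nat.ble 316 c)
noncomputable def Atab_s_310_318 (c : Nat) : Nat := @Bool.rec (fun _ => Nat) (Atab_s_310_314 c) (Atab_s_314_318 c) (Nat.ble 314 c)
noncomputable def Atab_s_303_318 (c : Nat) : Nat := @Bool.rec (fun _ => Nat) (Atab_s_303_310 c) (Atab_s_310_318 c) (Nat.ble 310 c)
noncomputable def Atab_s_289_318 (c : Nat) : Nat := @Bool.rec (fun _ => Nat) (Atab_s_289_303 c) (Atab_s_303_318 c) (Nat.ble 303 c)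
noncomputable def Atab_s_319_321 (c : Nat) : Nat := @Bool.rec (fun _ => Nat) (Atab_319) (Atab_320) (Nat.ble 320 c)
noncomputable def Atab_s_318_321 (c : Nat) : Nat := @Bool.rec (fun _ => Nat) (Atab_318) (Atab_s_319_321 c) (Nat.ble 319 c)
noncomputable def Atab_s_321_323 (c : Nat) : Nat := @Bool.rec (fun _ => Nat) (Atab_321) (Atab_322) (Nat.ble 322 c)
noncomputable def Atab_s_323_325 (c : Nat) : Nat := @Bool.rec (fun _ => Nat) (Atab_323) (Atab_324) (Nat.ble 324 c)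
noncomputable def Atab_s_321_325 (c : Nat) : Nat := @Bool.rec (fun _ => Nat) (Atab_s_321_323 c) (Atab_s_323_325 c) (Nat.ble 323 c)
noncomputable def Atab_s_318_325 (c : Nat) : Nat := @Bool.rec (fun _ => Nat) (Atab_s_318_321 c) (Atab_s_321_325 c) (Nat.ble 321 c)
noncomputable def Atab_s_326_328 (c : Nat) : Nat := @Bool.rec (fun _ => Nat) (Atab_326) (Atab_327) (Nat.ble 327 c)
noncomputable def Atab_s_325_328 (c : Nat) : Nat := @Bool.rec (fun _ => Nat) (Atab_325) (Atab_s_326_328 c) (Nat.ble 326 c)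
noncomputable def Atab_s_328_330 (c : Nat) : Nat := @Bool.rec (fun _ => Nat) (Atab_328) (Atab_329) (Nat.ble 329 c)
noncomputable def Atab_s_330_332 (c : Nat) : Nat := @Bool.rec (fun _ => Nat) (Atab_330) (Atab_331) (Nat.ble 331 c)
noncomputable def Atab_s_328_332 (c : Nat) : Nat := @Bool.rec (fun _ => Nat) (Atab_s_328_330 c) (Atab_s_330_332 c) (Nat.ble 330 c)
noncomputable def Atab_s_325_332 (c : Nat) : Nat := @Bool.rec (fun _ => Nat) (Atab_s_325_328 c) (Atab_s_328_332 c) (Nat.ble 328 c)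
noncomputable def Atab_s_318_332 (c : Nat) : Nat := @Bool.rec (fun _ => Nat) (Atab_s_318_325 c) (Atab_s_325_332 c) (Nat.ble 325 c)
noncomputable def Atab_s_333_335 (c : Nat) : Nat := @Bool.rec (fun _ => Nat) (Atab_333) (Atab_334) (Nat.ble 334 c)
noncomputable def Atab_s_332_335 (c : Nat) : Nat := @Bool.rec (fun _ => Nat) (Atab_332) (Atab_s_333_335 c) (Nat.ble 333 c)
noncomputable def Atab_s_335_337 (c : Nat) : Nat := @Bool.rec (fun _ => Nat) (Atab_335) (Atab_336) (Nat.ble 336 c)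
noncomputable def Atab_s_337_339 (c : Nat) : Nat := @Bool.rec (fun _ => Nat) (Atab_337) (Atab_338) (Nat.ble 338 c)
noncomputable def Atab_s_335_339 (c : Nat) : Nat := @Bool.rec (fun _ => Nat) (Atab_s_335_337 c) (Atab_s_337_339 c) (Nat.ble 337 c)
noncomputable def Atab_s_332_339 (c : Nat) : Nat := @Bool.rec (fun _ => Nat) (Atab_s_332_335 c) (Atab_s_335_339 c) (Nat.ble 335 c)
noncomputable def Atab_s_339_341 (c : Nat) : Nat := @Bool.rec (fun _ => Nat) (Atab_339) (Atab_340) (Nat.ble 340 c)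
noncomputable def Atab_s_341_343 (c : Nat) : Nat := @Bool.rec (fun _ => Nat) (Atab_341) (Atab_342) (Nat.ble 342 c)
noncomputable def Atab_s_339_343 (c : Nat) : Nat := @Bool.rec (fun _ => Nat) (Atab_s_339_341 c) (Atab_s_341_343 c) (Nat.ble 341 c)
noncomputable def Atab_s_343_345 (c : Nat) : Nat := @Bool.rec (fun _ => Nat) (Atab_343) (Atab_344) (Nat.ble 344 c)
noncomputable def Atab_s_345_347 (c : Nat) : Nat := @Bool.rec (fun _ => Nat) (Atab_345) (Atab_346) (Nat.ble 346 c)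
noncomputable def Atab_s_343_347 (c : Nat) : Nat := @Bool.rec (fun _ => Nat) (Atab_s_343_345 c) (Atab_s_345_347 c) (Nat.ble 345 c)
noncomputable def Atab_s_339_347 (c : Nat) : Nat := @Bool.rec (fun _ => Nat) (Atab_s_339_343 c) (Atab_s_343_347 c) (Nat.ble 343 c)
noncomputable def Atab_s_332_347 (c : Nat) : Nat := @Bool.rec (fun _ => Nat) (Atab_s_332_339 c) (Atab_s_339_347 c) (Nat.ble 339 c)
noncomputable def Atab_s_318_347 (c : Nat) : Nat := @Bool.rec (fun _ => Nat) (Atab_s_318_332 c) (Atab_s_332_347 c) (Nat.ble 332 c)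
noncomputable def Atab_s_289_347 (c : Nat) : Nat := @Bool.rec (fun _ => Nat) (Atab_s_289_318 c) (Atab_s_318_347 c) (Nat.ble 318 c)
noncomputable def Atab_s_231_347 (c : Nat) : Nat := @Bool.rec (fun _ => Nat) (Atab_s_231_289 c) (Atab_s_289_347 c) (Nat.ble 289 c)
noncomputable def Atab_s_348_350 (c : Nat) : Nat := @Bool.rec (fun _ => Nat) (Atab_348) (Atab_349) (Nat.ble 349 c)
noncomputable def Atab_s_347_350 (c : Nat) : Nat := @Bool.rec (fun _ => Nat) (Atab_347) (Atab_s_348_350 c) (Nat.ble 348 c)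
noncomputable def Atab_s_350_352 (c : Nat) : Nat := @Bool.rec (fun _ => Nat) (Atab_350) (Atab_351) (Nat.ble 351 c)
noncomputable def Atab_s_352_354 (c : Nat) : Nat := @Bool.rec (fun _ => Nat) (Atab_352) (Atab_353) (Nat.ble 353 c)
noncomputable def Atab_s_350_354 (c : Nat) : Nat := @Bool.rec (fun _ => Nat) (Atab_s_350_352 c) (Atab_s_352_354 c) (Nat.ble 352 c)
noncomputable def Atab_s_347_354 (c : Nat) : Nat := @Bool.rec (fun _ => Nat) (Atab_s_347_350 c) (Atab_s_350_354 c) (Nat.ble 350 c)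
noncomputable def Atab_s_355_357 (c : Nat) : Nat := @Bool.rec (fun _ => Nat) (Atab_355) (Atab_356) (Nat.ble 356 c)
noncomputable def Atab_s_354_357 (c : Nat) : Nat := @Bool.rec (fun _ => Nat) (Atab_354) (Atab_s_355_357 c) (Nat.ble 355 c)
noncomputable def Atab_s_357_359 (c : Nat) : Nat := @Bool.rec (fun _ => Nat) (Atab_357) (Atab_358) (Nat.ble 358 c)
noncomputable def Atab_s_359_361 (c : Nat) : Nat := @Bool.rec (fun _ => Nat) (Atab_359) (Atab_360) (Nat.ble 360 c)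
noncomputable def Atab_s_357_361 (c : Nat) : Nat := @Bool.rec (fun _ => Nat) (Atab_s_357_359 c) (Atab_s_359_361 c) (Nat.ble 359 c)
noncomputable def Atab_s_354_361 (c : Nat) : Nat := @Bool.rec (fun _ => Nat) (Atab_s_354_357 c) (Atab_s_357_361 c) (Nat.ble 357 c)
noncomputable def Atab_s_347_361 (c : Nat) : Nat := @Bool.rec (fun _ => Nat) (Atab_s_347_354 c) (Atab_s_354_361 c) (Nat.ble 354 c)
noncomputable def Atab_s_362_364 (c : Nat) : Nat := @Bool.rec (fun _ => Nat) (Atab_362) (Atab_363) (Nat.ble 363 c)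
noncomputable def Atab_s_361_364 (c : Nat) : Nat := @Bool.rec (fun _ => Nat) (Atab_361) (Atab_s_362_364 c) (Nat.ble 362 c)
noncomputable def Atab_s_364_366 (c : Nat) : Nat := @Bool.rec (fun _ => Nat) (Atab_364) (Atab_365) (Nat.ble 365 c)
noncomputable def Atab_s_366_368 (c : Nat) : Nat := @Bool.rec (fun _ => Nat) (Atab_366) (Atab_367) (Nat.ble 367 c)
noncomputable def Atab_s_364_368 (c : Nat) : Nat := @Bool.rec (fun _ => Nat) (Atab_s_364_366 c) (Atab_s_366_368 c) (Nat.ble 366 c)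
noncomputable def Atab_s_361_368 (c : Nat) : Nat := @Bool.rec (fun _ => Nat) (Atab_s_361_364 c) (Atab_s_364_368 c) (Nat.ble 364 c)
noncomputable def Atab_s_368_370 (c : Nat) : Nat := @Bool.rec (fun _ => Nat) (Atab_368) (Atab_369) (Nat.ble 369 c)
noncomputable def Atab_s_370_372 (c : Nat) : Nat := @Bool.rec (fun _ => Nat) (Atab_370) (Atab_371) (Nat.ble 371 c)
noncomputable def Atab_s_368_372 (c : Nat) : Nat := @Bool.rec (fun _ => Nat) (Atab_s_368_370 c) (Atab_s_370_372 c) (Nat.ble 370 c)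
noncomputable def Atab_s_372_374 (c : Nat) : Nat := @Bool.rec (fun _ => Nat) (Atab_372) (Atab_373) (Nat.ble 373 c)
noncomputable def Atab_s_374_376 (c : Nat) : Nat := @Bool.rec (fun _ => Nat) (Atab_374) (Atab_375) (Nat.ble 375 c)
noncomputable def Atab_s_372_376 (c : Nat) : Nat := @Bool.rec (fun _ => Nat) (Atab_s_372_374 c) (Atab_s_374_376 c) (Nat.ble 374 c)
noncomputable def Atab_s_368_376 (c : Nat) : Nat := @Bool.rec (fun _ => Nat) (Atab_s_368_372 c) (Atab_s_372_376 c) (Nat.ble 372 c)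
noncomputable def Atab_s_361_376 (c : Nat) : Nat := @Bool.rec (fun _ => Nat) (Atab_s_361_368 c) (Atab_s_368_376 c) (Nat.ble 368 c)
noncomputable def Atab_s_347_376 (c : Nat) : Nat := @Bool.rec (fun _ => Nat) (Atab_s_347_361 c) (Atab_s_361_376 c) (Nat.ble 361 c)
noncomputable def Atab_s_377_379 (c : Nat) : Nat := @Bool.rec (fun _ => Nat) (Atab_377) (Atab_378) (Nat.ble 378 c)
noncomputable def Atab_s_376_379 (c : Nat) : Nat := @Bool.rec (fun _ => Nat) (Atab_376) (Atab_s_377_379 c) (Nat.ble 377 c)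
noncomputable def Atab_s_379_381 (c : Nat) : Nat := @Bool.rec (fun _ => Nat) (Atab_379) (Atab_380) (Nat.ble 380 c)
noncomputable def Atab_s_381_383 (c : Nat) : Nat := @Bool.rec (fun _ => Nat) (Atab_381) (Atab_382) (Nat.ble 382 c)
noncomputable def Atab_s_379_383 (c : Nat) : Nat := @Bool.rec (fun _ => Nat) (Atab_s_379_381 c) (Atab_s_381_383 c) (Nat.ble 381 c)
noncomputable def Atab_s_376_383 (c : Nat) : Nat := @Bool.rec (fun _ => Nat) (Atab_s_376_379 c) (Atab_s_379_383 c) (Nat.ble 379 c)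
noncomputable def Atab_s_384_386 (c : Nat) : Nat := @Bool.rec (fun _ => Nat) (Atab_384) (Atab_385) (Nat.ble 385 c)
noncomputable def Atab_s_383_386 (c : Nat) : Nat := @Bool.rec (fun _ => Nat) (Atab_383) (Atab_s_384_386 c) (Nat.ble 384 c)
noncomputable def Atab_s_386_388 (c : Nat) : Nat := @Bool.rec (fun _ => Nat) (Atab_386) (Atab_387) (Nat.ble 387 c)
noncomputable def Atab_s_388_390 (c : Nat) : Nat := @Bool.rec (fun _ => Nat) (Atab_388) (Atab_389) (Nat.ble 389 c)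
noncomputable def Atab_s_386_390 (c : Nat) : Nat := @Bool.rec (fun _ => Nat) (Atab_s_386_388 c) (Atab_s_388_390 c) (Nat.ble 388 c)
noncomputable def Atab_s_383_390 (c : Nat) : Nat := @Bool.rec (fun _ => Nat) (Atab_s_383_386 c) (Atab_s_386_390 c) (Nat.ble 386 c)
noncomputable def Atab_s_376_390 (c : Nat) : Nat := @Bool.rec (fun _ => Nat) (Atab_s_376_383 c) (Atab_s_383_390 c) (Nat.ble 383 c)
noncomputable def Atab_s_391_393 (c : Nat) : Nat := @Bool.rec (fun _ => Nat) (Atab_391) (Atab_392) (Nat.ble 392 c)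
noncomputable def Atab_s_390_393 (c : Nat) : Nat := @Bool.rec (fun _ => Nat) (Atab_390) (Atab_s_391_393 c) (Nat.ble 391 c)
noncomputable def Atab_s_393_395 (c : Nat) : Nat := @Bool.rec (fun _ => Nat) (Atab_393) (Atab_394) (Nat.ble 394 c)
noncomputable def Atab_s_395_397 (c : Nat) : Nat := @Bool.rec (fun _ => Nat) (Atab_395) (Atab_396) (Nat.ble 396 c)
noncomputable def Atab_s_393_397 (c : Nat) : Nat := @Bool.rec (fun _ => Nat) (Atab_s_393_395 c) (Atab_s_395_397 c) (Nat.ble 395 c)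
noncomputable def Atab_s_390_397 (c : Nat) : Nat := @Bool.rec (fun _ => Nat) (Atab_s_390_393 c) (Atab_s_393_397 c) (Nat.ble 393 c)
noncomputable def Atab_s_397_399 (c : Nat) : Nat := @Bool.rec (fun _ => Nat) (Atab_397) (Atab_398) (Nat.ble 398 c)
noncomputable def Atab_s_399_401 (c : Nat) : Nat := @Bool.rec (fun _ => Nat) (Atab_399) (Atab_400) (Nat.ble 400 c)
noncomputable def Atab_s_397_401 (c : Nat) : Nat := @Bool.rec (fun _ => Nat) (Atab_s_397_399 c) (Atab_s_399_401 c) (Nat.ble 399 c)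
noncomputable def Atab_s_401_403 (c : Nat) : Nat := @Bool.rec (fun _ => Nat) (Atab_401) (Atab_402) (Nat.ble 402 c)
noncomputable def Atab_s_403_405 (c : Nat) : Nat := @Bool.rec (fun _ => Nat) (Atab_403) (Atab_404) (Nat.ble 404 c)
noncomputable def Atab_s_401_405 (c : Nat) : Nat := @Bool.rec (fun _ => Nat) (Atab_s_401_403 c) (Atab_s_403_405 c) (Nat.ble 403 c)
noncomputable def Atab_s_397_405 (c : Nat) : Nat := @Bool.rec (fun _ => Nat) (Atab_s_397_401 c) (Atab_s_401_405 c) (Nat.ble 401 c)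
noncomputable def Atab_s_390_405 (c : Nat) : Nat := @Bool.rec (fun _ => Nat) (Atab_s_390_397 c) (Atab_s_397_405 c) (Nat.ble 397 c)
noncomputable def Atab_s_376_405 (c : Nat) : Nat := @Bool.rec (fun _ => Nat) (Atab_s_376_390 c) (Atab_s_390_405 c) (Nat.ble 390 c)
noncomputable def Atab_s_347_405 (c : Nat) : Nat := @Bool.rec (fun _ => Nat) (Atab_s_347_376 c) (Atab_s_376_405 c) (Nat.ble 376 c)
noncomputable def Atab_s_406_408 (c : Nat) : Nat := @Bool.rec (fun _ => Nat) (Atab_406) (Atab_407) (Nat.ble 407 c)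
noncomputable def Atab_s_405_408 (c : Nat) : Nat := @Bool.rec (fun _ => Nat) (Atab_405) (Atab_s_406_408 c) (Nat.ble 406 c)
noncomputable def Atab_s_408_410 (c : Nat) : Nat := @Bool.rec (fun _ => Nat) (Atab_408) (Atab_409) (Nat.ble 409 c)
noncomputable def Atab_s_410_412 (c : Nat) : Nat := @Bool.rec (fun _ => Nat) (Atab_410) (Atab_411) (Nat.ble 411 c)
noncomputable def Atab_s_408_412 (c : Nat) : Nat := @Bool.rec (fun _ => Nat) (Atab_s_408_410 c) (Atab_s_410_412 c) (Nat.ble 410 c)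
noncomputable def Atab_s_405_412 (c : Nat) : Nat := @Bool.rec (fun _ => Nat) (Atab_s_405_408 c) (Atab_s_408_412 c) (Nat.ble 408 c)
noncomputable def Atab_s_413_415 (c : Nat) : Nat := @Bool.rec (fun _ => Nat) (Atab_413) (Atab_414) (Nat.ble 414 c)
noncomputable def Atab_s_412_415 (c : Nat) : Nat := @Bool.rec (fun _ => Nat) (Atab_412) (Atab_s_413_415 c) (Nat.ble 413 c)
noncomputable def Atab_s_415_417 (c : Nat) : Nat := @Bool.rec (fun _ => Nat) (Atab_415) (Atab_416) (Nat.ble 416 c)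
noncomputable def Atab_s_417_419 (c : Nat) : Nat := @Bool.rec (fun _ => Nat) (Atab_417) (Atab_418) (Nat.ble 418 c)
noncomputable def Atab_s_415_419 (c : Nat) : Nat := @Bool.rec (fun _ => Nat) (Atab_s_415_417 c) (Atab_s_417_419 c) (Nat.ble 417 c)
noncomputable def Atab_s_412_419 (c : Nat) : Nat := @Bool.rec (fun _ => Nat) (Atab_s_412_415 c) (Atab_s_415_419 c) (Nat.ble 415 c)
noncomputable def Atab_s_405_419 (c : Nat) : Nat := @Bool.rec (fun _ => Nat) (Atab_s_405_412 c) (Atab_s_412_419 c) (Nat.ble 412 c)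
noncomputable def Atab_s_420_422 (c : Nat) : Nat := @Bool.rec (fun _ => Nat) (Atab_420) (Atab_421) (Nat.ble 421 c)
noncomputable def Atab_s_419_422 (c : Nat) : Nat := @Bool.rec (fun _ => Nat) (Atab_419) (Atab_s_420_422 c) (Nat.ble 420 c)
noncomputable def Atab_s_422_424 (c : Nat) : Nat := @Bool.rec (fun _ => Nat) (Atab_422) (Atab_423) (Nat.ble 423 c)
noncomputable def Atab_s_424_426 (c : Nat) : Nat := @Bool.rec (fun _ => Nat) (Atab_424) (Atab_425) (Nat.ble 425 c)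
noncomputable def Atab_s_422_426 (c : Nat) : Nat := @Bool.rec (fun _ => Nat) (Atab_s_422_424 c) (Atab_s_424_426 c) (Nat.ble 424 c)
noncomputable def Atab_s_419_426 (c : Nat) : Nat := @Bool.rec (fun _ => Nat) (Atab_s_419_422 c) (Atab_s_422_426 c) (Nat.ble 422 c)
noncomputable def Atab_s_426_428 (c : Nat) : Nat := @Bool.rec (fun _ => Nat) (Atab_426) (Atab_427) (Nat.ble 427 c)
noncomputable def Atab_s_428_430 (c : Nat) : Nat := @Bool.rec (fun _ => Nat) (Atab_428) (Atab_429) (Nat.ble 429 c)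
noncomputable def Atab_s_426_430 (c : Nat) : Nat := @Bool.rec (fun _ => Nat) (Atab_s_426_428 c) (Atab_s_428_430 c) (Nat.ble 428 c)
noncomputable def Atab_s_430_432 (c : Nat) : Nat := @Bool.rec (fun _ => Nat) (Atab_430) (Atab_431) (Nat.ble 431 c)
noncomputable def Atab_s_432_434 (c : Nat) : Nat := @Bool.rec (fun _ => Nat) (Atab_432) (Atab_433) (Nat.ble 433 c)
noncomputable def Atab_s_430_434 (c : Nat) : Nat := @Bool.rec (fun _ => Nat) (Atab_s_430_432 c) (Atab_s_432_434 c) (Nat.ble 432 c)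
noncomputable def Atab_s_426_434 (c : Nat) : Nat := @Bool.rec (fun _ => Nat) (Atab_s_426_430 c) (Atab_s_430_434 c) (Nat.ble 430 c)
noncomputable def Atab_s_419_434 (c : Nat) : Nat := @Bool.rec (fun _ => Nat) (Atab_s_419_426 c) (Atab_s_426_434 c) (Nat.ble 426 c)
noncomputable def Atab_s_405_434 (c : Nat) : Nat := @Bool.rec (fun _ => Nat) (Atab_s_405_419 c) (Atab_s_419_434 c) (Nat.ble 419 c)
noncomputable def Atab_s_435_437 (c : Nat) : Nat := @Bool.rec (fun _ => Nat) (Atab_435) (Atab_436) (Nat.ble 436 c)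
noncomputable def Atab_s_434_437 (c : Nat) : Nat := @Bool.rec (fun _ => Nat) (Atab_434) (Atab_s_435_437 c) (Nat.ble 435 c)
noncomputable def Atab_s_437_439 (c : Nat) : Nat := @Bool.rec (fun _ => Nat) (Atab_437) (Atab_438) (Nat.ble 438 c)
noncomputable def Atab_s_439_441 (c : Nat) : Nat := @Bool.rec (fun _ => Nat) (Atab_439) (Atab_440) (Nat.ble 440 c)
noncomputable def Atab_s_437_441 (c : Nat) : Nat := @Bool.rec (fun _ => Nat) (Atab_s_437_439 c) (Atab_s_439_441 c) (Nat.ble 439 c)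
noncomputable def Atab_s_434_441 (c : Nat) : Nat := @Bool.rec (fun _ => Nat) (Atab_s_434_437 c) (Atab_s_437_441 c) (Nat.ble 437 c)
noncomputable def Atab_s_442_444 (c : Nat) : Nat := @Bool.rec (fun _ => Nat) (Atab_442) (Atab_443) (Nat.ble 443 c)
noncomputable def Atab_s_441_444 (c : Nat) : Nat := @Bool.rec (fun _ => Nat) (Atab_441) (Atab_s_442_444 c) (Nat.ble 442 c)
noncomputable def Atab_s_444_446 (c : Nat) : Nat := @Bool.rec (fun _ => Nat) (Atab_444) (Atab_445) (Nat.ble 445 c)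
noncomputable def Atab_s_446_448 (c : Nat) : Nat := @Bool.rec (fun _ => Nat) (Atab_446) (Atab_447) (Nat.ble 447 c)
noncomputable def Atab_s_444_448 (c : Nat) : Nat := @Bool.rec (fun _ => Nat) (Atab_s_444_446 c) (Atab_s_446_448 c) (Nat.ble 446 c)
noncomputable def Atab_s_441_448 (c : Nat) : Nat := @Bool.rec (fun _ => Nat) (Atab_s_441_444 c) (Atab_s_444_448 c) (Nat.ble 444 c)
noncomputable def Atab_s_434_448 (c : Nat) : Nat := @Bool.rec (fun _ => Nat) (Atab_s_434_441 c) (Atab_s_441_448 c) (Nat.ble 441 c)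
noncomputable def Atab_s_449_451 (c : Nat) : Nat := @Bool.rec (fun _ => Nat) (Atab_449) (Atab_450) (Nat.ble 450 c)
noncomputable def Atab_s_448_451 (c : Nat) : Nat := @Bool.rec (fun _ => Nat) (Atab_448) (Atab_s_449_451 c) (Nat.ble 449 c)
noncomputable def Atab_s_451_453 (c : Nat) : Nat := @Bool.rec (fun _ => Nat) (Atab_451) (Atab_452) (Nat.ble 452 c)
noncomputable def Atab_s_453_455 (c : Nat) : Nat := @Bool.rec (fun _ => Nat) (Atab_453) (Atab_454) (Nat.ble 454 c)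
noncomputable def Atab_s_451_455 (c : Nat) : Nat := @Bool.rec (fun _ => Nat) (Atab_s_451_453 c) (Atab_s_453_455 c) (Nat.ble 453 c)
noncomputable def Atab_s_448_455 (c : Nat) : Nat := @Bool.rec (fun _ => Nat) (Atab_s_448_451 c) (Atab_s_451_455 c) (Nat.ble 451 c)
noncomputable def Atab_s_455_457 (c : Nat) : Nat := @Bool.rec (fun _ => Nat) (Atab_455) (Atab_456) (Nat.ble 456 c)
noncomputable def Atab_s_457_459 (c : Nat) : Nat := @Bool.rec (fun _ => Nat) (Atab_457) (Atab_458) (Nat.ble 458 c)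
noncomputable def Atab_s_455_459 (c : Nat) : Nat := @Bool.rec (fun _ => Nat) (Atab_s_455_457 c) (Atab_s_457_459 c) (Nat.ble 457 c)
noncomputable def Atab_s_459_461 (c : Nat) : Nat := @Bool.rec (fun _ => Nat) (Atab_459) (Atab_460) (Nat.ble 460 c)
noncomputable def Atab_s_461_463 (c : Nat) : Nat := @Bool.rec (fun _ => Nat) (Atab_461) (Atab_462) (Nat.ble 462 c)
noncomputable def Atab_s_459_463 (c : Nat) : Nat := @Bool.rec (fun _ => Nat) (Atab_s_459_461 c) (Atab_s_461_463 c) (Nat.ble 461 c)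
noncomputable def Atab_s_455_463 (c : Nat) : Nat := @Bool.rec (fun _ => Nat) (Atab_s_455_459 c) (Atab_s_459_463 c) (Nat.ble 459 c)
noncomputable def Atab_s_448_463 (c : Nat) : Nat := @Bool.rec (fun _ => Nat) (Atab_s_448_455 c) (Atab_s_455_463 c) (Nat.ble 455 c)
noncomputable def Atab_s_434_463 (c : Nat) : Nat := @Bool.rec (fun _ => Nat) (Atab_s_434_448 c) (Atab_s_448_463 c) (Nat.ble 448 c)
noncomputable def Atab_s_405_463 (c : Nat) : Nat := @Bool.rec (fun _ => Nat) (Atab_s_405_434 c) (Atab_s_434_463 c) (Nat.ble 434 c)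
noncomputable def Atab_s_347_463 (c : Nat) : Nat := @Bool.rec (fun _ => Nat) (Atab_s_347_405 c) (Atab_s_405_463 c) (Nat.ble 405 c)
noncomputable def Atab_s_231_463 (c : Nat) : Nat := @Bool.rec (fun _ => Nat) (Atab_s_231_347 c) (Atab_s_347_463 c) (Nat.ble 347 c)
noncomputable def Atab_s_0_463 (c : Nat) : Nat := @Bool.rec (fun _ => Nat) (Atab_s_0_231 c) (Atab_s_231_463 c) (Nat.ble 231 c)
noncomputable def Atab (i : Nat) : Nat := rdw 43 8796093022207 (Atab_s_0_463 (Nat.shiftRight i 11)) (Nat.land i 2047)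
noncomputable def Btab_s_0_2 (c : Nat) : Nat := @Bool.rec (fun _ => Nat) (Btab_0) (Btab_1) (Nat.ble 1 c)
noncomputable def Btab_s_3_5 (c : Nat) : Nat := @Bool.rec (fun _ => Nat) (Btab_3) (Btab_4) (Nat.ble 4 c)
noncomputable def Btab_s_2_5 (c : Nat) : Nat := @Bool.rec (fun _ => Nat) (Btab_2) (Btab_s_3_5 c) (Nat.ble 3 c)
noncomputable def Btab_s_0_5 (c : Nat) : Nat := @Bool.rec (fun _ => Nat) (Btab_s_0_2 c) (Btab_s_2_5 c) (Nat.ble 2 c)
noncomputable def Btab_s_5_7 (c : Nat) : Nat := @Bool.rec (fun _ => Nat) (Btab_5) (Btab_6) (Nat.ble 6 c)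
noncomputable def Btab_s_8_10 (c : Nat) : Nat := @Bool.rec (fun _ => Nat) (Btab_8) (Btab_9) (Nat.ble 9 c)
noncomputable def Btab_s_7_10 (c : Nat) : Nat := @Bool.rec (fun _ => Nat) (Btab_7) (Btab_s_8_10 c) (Nat.ble 8 c)
noncomputable def Btab_s_5_10 (c : Nat) : Nat := @Bool.rec (fun _ => Nat) (Btab_s_5_7 c) (Btab_s_7_10 c) (Nat.ble 7 c)
noncomputable def Btab_s_0_10 (c : Nat) : Nat := @Bool.rec (fun _ => Nat) (Btab_s_0_5 c) (Btab_s_5_10 c) (Nat.ble 5 c)
noncomputable def Btab_s_10_12 (c : Nat) : Nat := @Bool.rec (fun _ => Nat) (Btab_10) (Btab_11) (Nat.ble 11 c)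
noncomputable def Btab_s_13_15 (c : Nat) : Nat := @Bool.rec (fun _ => Nat) (Btab_13) (Btab_14) (Nat.ble 14 c)
noncomputable def Btab_s_12_15 (c : Nat) : Nat := @Bool.rec (fun _ => Nat) (Btab_12) (Btab_s_13_15 c) (Nat.ble 13 c)
noncomputable def Btab_s_10_15 (c : Nat) : Nat := @Bool.rec (fun _ => Nat) (Btab_s_10_12 c) (Btab_s_12_15 c) (Nat.ble 12 c)
noncomputable def Btab_s_15_17 (c : Nat) : Nat := @Bool.rec (fun _ => Nat) (Btab_15) (Btab_16) (Nat.ble 16 c)
noncomputable def Btab_s_18_20 (c : Nat) : Nat := @Bool.rec (fun _ => Nat) (Btab_18) (Btab_19) (Nat.ble 19 c)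
noncomputable def Btab_s_17_20 (c : Nat) : Nat := @Bool.rec (fun _ => Nat) (Btab_17) (Btab_s_18_20 c) (Nat.ble 18 c)
noncomputable def Btab_s_15_20 (c : Nat) : Nat := @Bool.rec (fun _ => Nat) (Btab_s_15_17 c) (Btab_s_17_20 c) (Nat.ble 17 c)
noncomputable def Btab_s_10_20 (c : Nat) : Nat := @Bool.rec (fun _ => Nat) (Btab_s_10_15 c) (Btab_s_15_20 c) (Nat.ble 15 c)
noncomputable def Btab_s_0_20 (c : Nat) : Nat := @Bool.rec (fun _ => Nat) (Btab_s_0_10 c) (Btab_s_10_20 c) (Nat.ble 10 c)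
noncomputable def Btab_s_20_22 (c : Nat) : Nat := @Bool.rec (fun _ => Nat) (Btab_20) (Btab_21) (Nat.ble 21 c)
noncomputable def Btab_s_23_25 (c : Nat) : Nat := @Bool.rec (fun _ => Nat) (Btab_23) (Btab_24) (Nat.ble 24 c)
noncomputable def Btab_s_22_25 (c : Nat) : Nat := @Bool.rec (fun _ => Nat) (Btab_22) (Btab_s_23_25 c) (Nat.ble 23 c)
noncomputable def Btab_s_20_25 (c : Nat) : Nat := @Bool.rec (fun _ => Nat) (Btab_s_20_22 c) (Btab_s_22_25 c) (Nat.ble 22 c)
noncomputable def Btab_s_25_27 (c : Nat) : Nat := @Bool.rec (fun _ => Nat) (Btab_25) (Btab_26) (Nat.ble 26 c)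
noncomputable def Btab_s_28_30 (c : Nat) : Nat := @Bool.rec (fun _ => Nat) (Btab_28) (Btab_29) (Nat.ble 29 c)
noncomputable def Btab_s_27_30 (c : Nat) : Nat := @Bool.rec (fun _ => Nat) (Btab_27) (Btab_s_28_30 c) (Nat.ble 28 c)
noncomputable def Btab_s_25_30 (c : Nat) : Nat := @Bool.rec (fun _ => Nat) (Btab_s_25_27 c) (Btab_s_27_30 c) (Nat.ble 27 c)
noncomputable def Btab_s_20_30 (c : Nat) : Nat := @Bool.rec (fun _ => Nat) (Btab_s_20_25 c) (Btab_s_25_30 c) (Nat.ble 25 c)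
noncomputable def Btab_s_30_32 (c : Nat) : Nat := @Bool.rec (fun _ => Nat) (Btab_30) (Btab_31) (Nat.ble 31 c)
noncomputable def Btab_s_33_35 (c : Nat) : Nat := @Bool.rec (fun _ => Nat) (Btab_33) (Btab_34) (Nat.ble 34 c)
noncomputable def Btab_s_32_35 (c : Nat) : Nat := @Bool.rec (fun _ => Nat) (Btab_32) (Btab_s_33_35 c) (Nat.ble 33 c)
noncomputable def Btab_s_30_35 (c : Nat) : Nat := @Bool.rec (fun _ => Nat) (Btab_s_30_32 c) (Btab_s_32_35 c) (Nat.ble 32 c)
noncomputable def Btab_s_36_38 (c : Nat) : Nat := @Bool.rec (fun _ => Nat) (Btab_36) (Btab_37) (Nat.ble 37 c)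
noncomputable def Btab_s_35_38 (c : Nat) : Nat := @Bool.rec (fun _ => Nat) (Btab_35) (Btab_s_36_38 c) (Nat.ble 36 c)
noncomputable def Btab_s_39_41 (c : Nat) : Nat := @Bool.rec (fun _ => Nat) (Btab_39) (Btab_40) (Nat.ble 40 c)
noncomputable def Btab_s_38_41 (c : Nat) : Nat := @Bool.rec (fun _ => Nat) (Btab_38) (Btab_s_39_41 c) (Nat.ble 39 c)
noncomputable def Btab_s_35_41 (c : Nat) : Nat := @Bool.rec (fun _ => Nat) (Btab_s_35_38 c) (Btab_s_38_41 c) (Nat.ble 38 c)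
noncomputable def Btab_s_30_41 (c : Nat) : Nat := @Bool.rec (fun _ => Nat) (Btab_s_30_35 c) (Btab_s_35_41 c) (Nat.ble 35 c)
noncomputable def Btab_s_20_41 (c : Nat) : Nat := @Bool.rec (fun _ => Nat) (Btab_s_20_30 c) (Btab_s_30_41 c) (Nat.ble 30 c)
noncomputable def Btab_s_0_41 (c : Nat) : Nat := @Bool.rec (fun _ => Nat) (Btab_s_0_20 c) (Btab_s_20_41 c) (Nat.ble 20 c)
noncomputable def Btab_s_41_43 (c : Nat) : Nat := @Bool.rec (fun _ => Nat) (Btab_41) (Btab_42) (Nat.ble 42 c)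
noncomputable def Btab_s_44_46 (c : Nat) : Nat := @Bool.rec (fun _ => Nat) (Btab_44) (Btab_45) (Nat.ble 45 c)
noncomputable def Btab_s_43_46 (c : Nat) : Nat := @Bool.rec (fun _ => Nat) (Btab_43) (Btab_s_44_46 c) (Nat.ble 44 c)
noncomputable def Btab_s_41_46 (c : Nat) : Nat := @Bool.rec (fun _ => Nat) (Btab_s_41_43 c) (Btab_s_43_46 c) (Nat.ble 43 c)
noncomputable def Btab_s_46_48 (c : Nat) : Nat := @Bool.rec (fun _ => Nat) (Btab_46) (Btab_47) (Nat.ble 47 c)
noncomputable def Btab_s_49_51 (c : Nat) : Nat := @Bool.rec (fun _ => Nat) (Btab_49) (Btab_50) (Nat.ble 50 c)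
noncomputable def Btab_s_48_51 (c : Nat) : Nat := @Bool.rec (fun _ => Nat) (Btab_48) (Btab_s_49_51 c) (Nat.ble 49 c)
noncomputable def Btab_s_46_51 (c : Nat) : Nat := @Bool.rec (fun _ => Nat) (Btab_s_46_48 c) (Btab_s_48_51 c) (Nat.ble 48 c)
noncomputable def Btab_s_41_51 (c : Nat) : Nat := @Bool.rec (fun _ => Nat) (Btab_s_41_46 c) (Btab_s_46_51 c) (Nat.ble 46 c)
noncomputable def Btab_s_51_53 (c : Nat) : Nat := @Bool.rec (fun _ => Nat) (Btab_51) (Btab_52) (Nat.ble 52 c)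
noncomputable def Btab_s_54_56 (c : Nat) : Nat := @Bool.rec (fun _ => Nat) (Btab_54) (Btab_55) (Nat.ble 55 c)
noncomputable def Btab_s_53_56 (c : Nat) : Nat := @Bool.rec (fun _ => Nat) (Btab_53) (Btab_s_54_56 c) (Nat.ble 54 c)
noncomputable def Btab_s_51_56 (c : Nat) : Nat := @Bool.rec (fun _ => Nat) (Btab_s_51_53 c) (Btab_s_53_56 c) (Nat.ble 53 c)
noncomputable def Btab_s_57_59 (c : Nat) : Nat := @Bool.rec (fun _ => Nat) (Btab_57) (Btab_58) (Nat.ble 58 c)
noncomputable def Btab_s_56_59 (c : Nat) : Nat := @Bool.rec (fun _ => Nat) (Btab_56) (Btab_s_57_59 c) (Nat.ble 57 c)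
noncomputable def Btab_s_60_62 (c : Nat) : Nat := @Bool.rec (fun _ => Nat) (Btab_60) (Btab_61) (Nat.ble 61 c)
noncomputable def Btab_s_59_62 (c : Nat) : Nat := @Bool.rec (fun _ => Nat) (Btab_59) (Btab_s_60_62 c) (Nat.ble 60 c)
noncomputable def Btab_s_56_62 (c : Nat) : Nat := @Bool.rec (fun _ => Nat) (Btab_s_56_59 c) (Btab_s_59_62 c) (Nat.ble 59 c)
noncomputable def Btab_s_51_62 (c : Nat) : Nat := @Bool.rec (fun _ => Nat) (Btab_s_51_56 c) (Btab_s_56_62 c) (Nat.ble 56 c)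
noncomputable def Btab_s_41_62 (c : Nat) : Nat := @Bool.rec (fun _ => Nat) (Btab_s_41_51 c) (Btab_s_51_62 c) (Nat.ble 51 c)
noncomputable def Btab_s_62_64 (c : Nat) : Nat := @Bool.rec (fun _ => Nat) (Btab_62) (Btab_63) (Nat.ble 63 c)
noncomputable def Btab_s_65_67 (c : Nat) : Nat := @Bool.rec (fun _ => Nat) (Btab_65) (Btab_66) (Nat.ble 66 c)
noncomputable def Btab_s_64_67 (c : Nat) : Nat := @Bool.rec (fun _ => Nat) (Btab_64) (Btab_s_65_67 c) (Nat.ble 65 c)
noncomputable def Btab_s_62_67 (c : Nat) : Nat := @Bool.rec (fun _ => Nat) (Btab_s_62_64 c) (Btab_s_64_67 c) (Nat.ble 64 c)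
noncomputable def Btab_s_67_69 (c : Nat) : Nat := @Bool.rec (fun _ => Nat) (Btab_67) (Btab_68) (Nat.ble 68 c)
noncomputable def Btab_s_70_72 (c : Nat) : Nat := @Bool.rec (fun _ => Nat) (Btab_70) (Btab_71) (Nat.ble 71 c)
noncomputable def Btab_s_69_72 (c : Nat) : Nat := @Bool.rec (fun _ => Nat) (Btab_69) (Btab_s_70_72 c) (Nat.ble 70 c)
noncomputable def Btab_s_67_72 (c : Nat) : Nat := @Bool.rec (fun _ => Nat) (Btab_s_67_69 c) (Btab_s_69_72 c) (Nat.ble 69 c)
noncomputable def Btab_s_62_72 (c : Nat) : Nat := @Bool.rec (fun _ => Nat) (Btab_s_62_67 c) (Btab_s_67_72 c) (Nat.ble 67 c)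
noncomputable def Btab_s_72_74 (c : Nat) : Nat := @Bool.rec (fun _ => Nat) (Btab_72) (Btab_73) (Nat.ble 73 c)
noncomputable def Btab_s_75_77 (c : Nat) : Nat := @Bool.rec (fun _ => Nat) (Btab_75) (Btab_76) (Nat.ble 76 c)
noncomputable def Btab_s_74_77 (c : Nat) : Nat := @Bool.rec (fun _ => Nat) (Btab_74) (Btab_s_75_77 c) (Nat.ble 75 c)
noncomputable def Btab_s_72_77 (c : Nat) : Nat := @Bool.rec (fun _ => Nat) (Btab_s_72_74 c) (Btab_s_74_77 c) (Nat.ble 74 c)
noncomputable def Btab_s_78_80 (c : Nat) : Nat := @Bool.rec (fun _ => Nat) (Btab_78) (Btab_79) (Nat.ble 79 c)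
noncomputable def Btab_s_77_80 (c : Nat) : Nat := @Bool.rec (fun _ => Nat) (Btab_77) (Btab_s_78_80 c) (Nat.ble 78 c)
noncomputable def Btab_s_81_83 (c : Nat) : Nat := @Bool.rec (fun _ => Nat) (Btab_81) (Btab_82) (Nat.ble 82 c)
noncomputable def Btab_s_80_83 (c : Nat) : Nat := @Bool.rec (fun _ => Nat) (Btab_80) (Btab_s_81_83 c) (Nat.ble 81 c)
noncomputable def Btab_s_77_83 (c : Nat) : Nat := @Bool.rec (fun _ => Nat) (Btab_s_77_80 c) (Btab_s_80_83 c) (Nat.ble 80 c)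
noncomputable def Btab_s_72_83 (c : Nat) : Nat := @Bool.rec (fun _ => Nat) (Btab_s_72_77 c) (Btab_s_77_83 c) (Nat.ble 77 c)
noncomputable def Btab_s_62_83 (c : Nat) : Nat := @Bool.rec (fun _ => Nat) (Btab_s_62_72 c) (Btab_s_72_83 c) (Nat.ble 72 c)
noncomputable def Btab_s_41_83 (c : Nat) : Nat := @Bool.rec (fun _ => Nat) (Btab_s_41_62 c) (Btab_s_62_83 c) (Nat.ble 62 c)
noncomputable def Btab_s_0_83 (c : Nat) : Nat := @Bool.rec (fun _ => Nat) (Btab_s_0_41 c) (Btab_s_41_83 c) (Nat.ble 41 c)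
noncomputable def Btab_s_83_85 (c : Nat) : Nat := @Bool.rec (fun _ => Nat) (Btab_83) (Btab_84) (Nat.ble 84 c)
noncomputable def Btab_s_86_88 (c : Nat) : Nat := @Bool.rec (fun _ => Nat) (Btab_86) (Btab_87) (Nat.ble 87 c)
noncomputable def Btab_s_85_88 (c : Nat) : Nat := @Bool.rec (fun _ => Nat) (Btab_85) (Btab_s_86_88 c) (Nat.ble 86 c)
noncomputable def Btab_s_83_88 (c : Nat) : Nat := @Bool.rec (fun _ => Nat) (Btab_s_83_85 c) (Btab_s_85_88 c) (Nat.ble 85 c)
noncomputable def Btab_s_88_90 (c : Nat) : Nat := @Bool.rec (fun _ => Nat) (Btab_88) (Btab_89) (Nat.ble 89 c)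
noncomputable def Btab_s_91_93 (c : Nat) : Nat := @Bool.rec (fun _ => Nat) (Btab_91) (Btab_92) (Nat.ble 92 c)
noncomputable def Btab_s_90_93 (c : Nat) : Nat := @Bool.rec (fun _ => Nat) (Btab_90) (Btab_s_91_93 c) (Nat.ble 91 c)
noncomputable def Btab_s_88_93 (c : Nat) : Nat := @Bool.rec (fun _ => Nat) (Btab_s_88_90 c) (Btab_s_90_93 c) (Nat.ble 90 c)
noncomputable def Btab_s_83_93 (c : Nat) : Nat := @Bool.rec (fun _ => Nat) (Btab_s_83_88 c) (Btab_s_88_93 c) (Nat.ble 88 c)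
noncomputable def Btab_s_93_95 (c : Nat) : Nat := @Bool.rec (fun _ => Nat) (Btab_93) (Btab_94) (Nat.ble 94 c)
noncomputable def Btab_s_96_98 (c : Nat) : Nat := @Bool.rec (fun _ => Nat) (Btab_96) (Btab_97) (Nat.ble 97 c)
noncomputable def Btab_s_95_98 (c : Nat) : Nat := @Bool.rec (fun _ => Nat) (Btab_95) (Btab_s_96_98 c) (Nat.ble 96 c)
noncomputable def Btab_s_93_98 (c : Nat) : Nat := @Bool.rec (fun _ => Nat) (Btab_s_93_95 c) (Btab_s_95_98 c) (Nat.ble 95 c)
noncomputable def Btab_s_98_100 (c : Nat) : Nat := @Bool.rec (fun _ => Nat) (Btab_98) (Btab_99) (Nat.ble 99 c)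
noncomputable def Btab_s_101_103 (c : Nat) : Nat := @Bool.rec (fun _ => Nat) (Btab_101) (Btab_102) (Nat.ble 102 c)
noncomputable def Btab_s_100_103 (c : Nat) : Nat := @Bool.rec (fun _ => Nat) (Btab_100) (Btab_s_101_103 c) (Nat.ble 101 c)
noncomputable def Btab_s_98_103 (c : Nat) : Nat := @Bool.rec (fun _ => Nat) (Btab_s_98_100 c) (Btab_s_100_103 c) (Nat.ble 100 c)
noncomputable def Btab_s_93_103 (c : Nat) : Nat := @Bool.rec (fun _ => Nat) (Btab_s_93_98 c) (Btab_s_98_103 c) (Nat.ble 98 c)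
noncomputable def Btab_s_83_103 (c : Nat) : Nat := @Bool.rec (fun _ => Nat) (Btab_s_83_93 c) (Btab_s_93_103 c) (Nat.ble 93 c)
noncomputable def Btab_s_103_105 (c : Nat) : Nat := @Bool.rec (fun _ => Nat) (Btab_103) (Btab_104) (Nat.ble 104 c)
noncomputable def Btab_s_106_108 (c : Nat) : Nat := @Bool.rec (fun _ => Nat) (Btab_106) (Btab_107) (Nat.ble 107 c)
noncomputable def Btab_s_105_108 (c : Nat) : Nat := @Bool.rec (fun _ => Nat) (Btab_105) (Btab_s_106_108 c) (Nat.ble 106 c)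
noncomputable def Btab_s_103_108 (c : Nat) : Nat := @Bool.rec (fun _ => Nat) (Btab_s_103_105 c) (Btab_s_105_108 c) (Nat.ble 105 c)
noncomputable def Btab_s_108_110 (c : Nat) : Nat := @Bool.rec (fun _ => Nat) (Btab_108) (Btab_109) (Nat.ble 109 c)
noncomputable def Btab_s_111_113 (c : Nat) : Nat := @Bool.rec (fun _ => Nat) (Btab_111) (Btab_112) (Nat.ble 112 c)
noncomputable def Btab_s_110_113 (c : Nat) : Nat := @Bool.rec (fun _ => Nat) (Btab_110) (Btab_s_111_113 c) (Nat.ble 111 c)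
noncomputable def Btab_s_108_113 (c : Nat) : Nat := @Bool.rec (fun _ => Nat) (Btab_s_108_110 c) (Btab_s_110_113 c) (Nat.ble 110 c)
noncomputable def Btab_s_103_113 (c : Nat) : Nat := @Bool.rec (fun _ => Nat) (Btab_s_103_108 c) (Btab_s_108_113 c) (Nat.ble 108 c)
noncomputable def Btab_s_113_115 (c : Nat) : Nat := @Bool.rec (fun _ => Nat) (Btab_113) (Btab_114) (Nat.ble 114 c)
noncomputable def Btab_s_116_118 (c : Nat) : Nat := @Bool.rec (fun _ => Nat) (Btab_116) (Btab_117) (Nat.ble 117 c)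
noncomputable def Btab_s_115_118 (c : Nat) : Nat := @Bool.rec (fun _ => Nat) (Btab_115) (Btab_s_116_118 c) (Nat.ble 116 c)
noncomputable def Btab_s_113_118 (c : Nat) : Nat := @Bool.rec (fun _ => Nat) (Btab_s_113_115 c) (Btab_s_115_118 c) (Nat.ble 115 c)
noncomputable def Btab_s_119_121 (c : Nat) : Nat := @Bool.rec (fun _ => Nat) (Btab_119) (Btab_120) (Nat.ble 120 c)
noncomputable def Btab_s_118_121 (c : Nat) : Nat := @Bool.rec (fun _ => Nat) (Btab_118) (Btab_s_119_121 c) (Nat.ble 119 c)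
noncomputable def Btab_s_122_124 (c : Nat) : Nat := @Bool.rec (fun _ => Nat) (Btab_122) (Btab_123) (Nat.ble 123 c)
noncomputable def Btab_s_121_124 (c : Nat) : Nat := @Bool.rec (fun _ => Nat) (Btab_121) (Btab_s_122_124 c) (Nat.ble 122 c)
noncomputable def Btab_s_118_124 (c : Nat) : Nat := @Bool.rec (fun _ => Nat) (Btab_s_118_121 c) (Btab_s_121_124 c) (Nat.ble 121 c)
noncomputable def Btab_s_113_124 (c : Nat) : Nat := @Bool.rec (fun _ => Nat) (Btab_s_113_118 c) (Btab_s_118_124 c) (Nat.ble 118 c)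
noncomputable def Btab_s_103_124 (c : Nat) : Nat := @Bool.rec (fun _ => Nat) (Btab_s_103_113 c) (Btab_s_113_124 c) (Nat.ble 113 c)
noncomputable def Btab_s_83_124 (c : Nat) : Nat := @Bool.rec (fun _ => Nat) (Btab_s_83_103 c) (Btab_s_103_124 c) (Nat.ble 103 c)
noncomputable def Btab_s_124_126 (c : Nat) : Nat := @Bool.rec (fun _ => Nat) (Btab_124) (Btab_125) (Nat.ble 125 c)
noncomputable def Btab_s_127_129 (c : Nat) : Nat := @Bool.rec (fun _ => Nat) (Btab_127) (Btab_128) (Nat.ble 128 c)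
noncomputable def Btab_s_126_129 (c : Nat) : Nat := @Bool.rec (fun _ => Nat) (Btab_126) (Btab_s_127_129 c) (Nat.ble 127 c)
noncomputable def Btab_s_124_129 (c : Nat) : Nat := @Bool.rec (fun _ => Nat) (Btab_s_124_126 c) (Btab_s_126_129 c) (Nat.ble 126 c)
noncomputable def Btab_s_129_131 (c : Nat) : Nat := @Bool.rec (fun _ => Nat) (Btab_129) (Btab_130) (Nat.ble 130 c)
noncomputable def Btab_s_132_134 (c : Nat) : Nat := @Bool.rec (fun _ => Nat) (Btab_132) (Btab_133) (Nat.ble 133 c)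
noncomputable def Btab_s_131_134 (c : Nat) : Nat := @Bool.rec (fun _ => Nat) (Btab_131) (Btab_s_132_134 c) (Nat.ble 132 c)
noncomputable def Btab_s_129_134 (c : Nat) : Nat := @Bool.rec (fun _ => Nat) (Btab_s_129_131 c) (Btab_s_131_134 c) (Nat.ble 131 c)
noncomputable def Btab_s_124_134 (c : Nat) : Nat := @Bool.rec (fun _ => Nat) (Btab_s_124_129 c) (Btab_s_129_134 c) (Nat.ble 129 c)
noncomputable def Btab_s_134_136 (c : Nat) : Nat := @Bool.rec (fun _ => Nat) (Btab_134) (Btab_135) (Nat.ble 135 c)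
noncomputable def Btab_s_137_139 (c : Nat) : Nat := @Bool.rec (fun _ => Nat) (Btab_137) (Btab_138) (Nat.ble 138 c)
noncomputable def Btab_s_136_139 (c : Nat) : Nat := @Bool.rec (fun _ => Nat) (Btab_136) (Btab_s_137_139 c) (Nat.ble 137 c)
noncomputable def Btab_s_134_139 (c : Nat) : Nat := @Bool.rec (fun _ => Nat) (Btab_s_134_136 c) (Btab_s_136_139 c) (Nat.ble 136 c)
noncomputable def Btab_s_140_142 (c : Nat) : Nat := @Bool.rec (fun _ => Nat) (Btab_140) (Btab_141) (Nat.ble 141 c)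
noncomputable def Btab_s_139_142 (c : Nat) : Nat := @Bool.rec (fun _ => Nat) (Btab_139) (Btab_s_140_142 c) (Nat.ble 140 c)
noncomputable def Btab_s_143_145 (c : Nat) : Nat := @Bool.rec (fun _ => Nat) (Btab_143) (Btab_144) (Nat.ble 144 c)
noncomputable def Btab_s_142_145 (c : Nat) : Nat := @Bool.rec (fun _ => Nat) (Btab_142) (Btab_s_143_145 c) (Nat.ble 143 c)
noncomputable def Btab_s_139_145 (c : Nat) : Nat := @Bool.rec (fun _ => Nat) (Btab_s_139_142 c) (Btab_s_142_145 c) (Nat.ble 142 c)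
noncomputable def Btab_s_134_145 (c : Nat) : Nat := @Bool.rec (fun _ => Nat) (Btab_s_134_139 c) (Btab_s_139_145 c) (Nat.ble 139 c)
noncomputable def Btab_s_124_145 (c : Nat) : Nat := @Bool.rec (fun _ => Nat) (Btab_s_124_134 c) (Btab_s_134_145 c) (Nat.ble 134 c)
noncomputable def Btab_s_145_147 (c : Nat) : Nat := @Bool.rec (fun _ => Nat) (Btab_145) (Btab_146) (Nat.ble 146 c)
noncomputable def Btab_s_148_150 (c : Nat) : Nat := @Bool.rec (fun _ => Nat) (Btab_148) (Btab_149) (Nat.ble 149 c)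
noncomputable def Btab_s_147_150 (c : Nat) : Nat := @Bool.rec (fun _ => Nat) (Btab_147) (Btab_s_148_150 c) (Nat.ble 148 c)
noncomputable def Btab_s_145_150 (c : Nat) : Nat := @Bool.rec (fun _ => Nat) (Btab_s_145_147 c) (Btab_s_147_150 c) (Nat.ble 147 c)
noncomputable def Btab_s_150_152 (c : Nat) : Nat := @Bool.rec (fun _ => Nat) (Btab_150) (Btab_151) (Nat.ble 151 c)
noncomputable def Btab_s_153_155 (c : Nat) : Nat := @Bool.rec (fun _ => Nat) (Btab_153) (Btab_154) (Nat.ble 154 c)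
noncomputable def Btab_s_152_155 (c : Nat) : Nat := @Bool.rec (fun _ => Nat) (Btab_152) (Btab_s_153_155 c) (Nat.ble 153 c)
noncomputable def Btab_s_150_155 (c : Nat) : Nat := @Bool.rec (fun _ => Nat) (Btab_s_150_152 c) (Btab_s_152_155 c) (Nat.ble 152 c)
noncomputable def Btab_s_145_155 (c : Nat) : Nat := @Bool.rec (fun _ => Nat) (Btab_s_145_150 c) (Btab_s_150_155 c) (Nat.ble 150 c)
noncomputable def Btab_s_155_157 (c : Nat) : Nat := @Bool.rec (fun _ => Nat) (Btab_155) (Btab_156) (Nat.ble 156 c)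
noncomputable def Btab_s_158_160 (c : Nat) : Nat := @Bool.rec (fun _ => Nat) (Btab_158) (Btab_159) (Nat.ble 159 c)
noncomputable def Btab_s_157_160 (c : Nat) : Nat := @Bool.rec (fun _ => Nat) (Btab_157) (Btab_s_158_160 c) (Nat.ble 158 c)
noncomputable def Btab_s_155_160 (c : Nat) : Nat := @Bool.rec (fun _ => Nat) (Btab_s_155_157 c) (Btab_s_157_160 c) (Nat.ble 157 c)
noncomputable def Btab_s_161_163 (c : Nat) : Nat := @Bool.rec (fun _ => Nat) (Btab_161) (Btab_162) (Nat.ble 162 c)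
noncomputable def Btab_s_160_163 (c : Nat) : Nat := @Bool.rec (fun _ => Nat) (Btab_160) (Btab_s_161_163 c) (Nat.ble 161 c)
noncomputable def Btab_s_164_166 (c : Nat) : Nat := @Bool.rec (fun _ => Nat) (Btab_164) (Btab_165) (Nat.ble 165 c)
noncomputable def Btab_s_163_166 (c : Nat) : Nat := @Bool.rec (fun _ => Nat) (Btab_163) (Btab_s_164_166 c) (Nat.ble 164 c)
noncomputable def Btab_s_160_166 (c : Nat) : Nat := @Bool.rec (fun _ => Nat) (Btab_s_160_163 c) (Btab_s_163_166 c) (Nat.ble 163 c)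
noncomputable def Btab_s_155_166 (c : Nat) : Nat := @Bool.rec (fun _ => Nat) (Btab_s_155_160 c) (Btab_s_160_166 c) (Nat.ble 160 c)
noncomputable def Btab_s_145_166 (c : Nat) : Nat := @Bool.rec (fun _ => Nat) (Btab_s_145_155 c) (Btab_s_155_166 c) (Nat.ble 155 c)
noncomputable def Btab_s_124_166 (c : Nat) : Nat := @Bool.rec (fun _ => Nat) (Btab_s_124_145 c) (Btab_s_145_166 c) (Nat.ble 145 c)
noncomputable def Btab_s_83_166 (c : Nat) : Nat := @Bool.rec (fun _ => Nat) (Btab_s_83_124 c) (Btab_s_124_166 c) (Nat.ble 124 c)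
noncomputable def Btab_s_0_166 (c : Nat) : Nat := @Bool.rec (fun _ => Nat) (Btab_s_0_83 c) (Btab_s_83_166 c) (Nat.ble 83 c)
noncomputable def Btab_s_166_168 (c : Nat) : Nat := @Bool.rec (fun _ => Nat) (Btab_166) (Btab_167) (Nat.ble 167 c)
noncomputable def Btab_s_169_171 (c : Nat) : Nat := @Bool.rec (fun _ => Nat) (Btab_169) (Btab_170) (Nat.ble 170 c)
noncomputable def Btab_s_168_171 (c : Nat) : Nat := @Bool.rec (fun _ => Nat) (Btab_168) (Btab_s_169_171 c) (Nat.ble 169 c)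
noncomputable def Btab_s_166_171 (c : Nat) : Nat := @Bool.rec (fun _ => Nat) (Btab_s_166_168 c) (Btab_s_168_171 c) (Nat.ble 168 c)
noncomputable def Btab_s_171_173 (c : Nat) : Nat := @Bool.rec (fun _ => Nat) (Btab_171) (Btab_172) (Nat.ble 172 c)
noncomputable def Btab_s_174_176 (c : Nat) : Nat := @Bool.rec (fun _ => Nat) (Btab_174) (Btab_175) (Nat.ble 175 c)
noncomputable def Btab_s_173_176 (c : Nat) : Nat := @Bool.rec (fun _ => Nat) (Btab_173) (Btab_s_174_176 c) (Nat.ble 174 c)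
noncomputable def Btab_s_171_176 (c : Nat) : Nat := @Bool.rec (fun _ => Nat) (Btab_s_171_173 c) (Btab_s_173_176 c) (Nat.ble 173 c)
noncomputable def Btab_s_166_176 (c : Nat) : Nat := @Bool.rec (fun _ => Nat) (Btab_s_166_171 c) (Btab_s_171_176 c) (Nat.ble 171 c)
noncomputable def Btab_s_176_178 (c : Nat) : Nat := @Bool.rec (fun _ => Nat) (Btab_176) (Btab_177) (Nat.ble 177 c)
noncomputable def Btab_s_179_181 (c : Nat) : Nat := @Bool.rec (fun _ => Nat) (Btab_179) (Btab_180) (Nat.ble 180 c)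
noncomputable def Btab_s_178_181 (c : Nat) : Nat := @Bool.rec (fun _ => Nat) (Btab_178) (Btab_s_179_181 c) (Nat.ble 179 c)
noncomputable def Btab_s_176_181 (c : Nat) : Nat := @Bool.rec (fun _ => Nat) (Btab_s_176_178 c) (Btab_s_178_181 c) (Nat.ble 178 c)
noncomputable def Btab_s_181_183 (c : Nat) : Nat := @Bool.rec (fun _ => Nat) (Btab_181) (Btab_182) (Nat.ble 182 c)
noncomputable def Btab_s_184_186 (c : Nat) : Nat := @Bool.rec (fun _ => Nat) (Btab_184) (Btab_185) (Nat.ble 185 c)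
noncomputable def Btab_s_183_186 (c : Nat) : Nat := @Bool.rec (fun _ => Nat) (Btab_183) (Btab_s_184_186 c) (Nat.ble 184 c)
noncomputable def Btab_s_181_186 (c : Nat) : Nat := @Bool.rec (fun _ => Nat) (Btab_s_181_183 c) (Btab_s_183_186 c) (Nat.ble 183 c)
noncomputable def Btab_s_176_186 (c : Nat) : Nat := @Bool.rec (fun _ => Nat) (Btab_s_176_181 c) (Btab_s_181_186 c) (Nat.ble 181 c)
noncomputable def Btab_s_166_186 (c : Nat) : Nat := @Bool.rec (fun _ => Nat) (Btab_s_166_176 c) (Btab_s_176_186 c) (Nat.ble 176 c)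
noncomputable def Btab_s_186_188 (c : Nat) : Nat := @Bool.rec (fun _ => Nat) (Btab_186) (Btab_187) (Nat.ble 187 c)
noncomputable def Btab_s_189_191 (c : Nat) : Nat := @Bool.rec (fun _ => Nat) (Btab_189) (Btab_190) (Nat.ble 190 c)
noncomputable def Btab_s_188_191 (c : Nat) : Nat := @Bool.rec (fun _ => Nat) (Btab_188) (Btab_s_189_191 c) (Nat.ble 189 c)
noncomputable def Btab_s_186_191 (c : Nat) : Nat := @Bool.rec (fun _ => Nat) (Btab_s_186_188 c) (Btab_s_188_191 c) (Nat.ble 188 c)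
noncomputable def Btab_s_191_193 (c : Nat) : Nat := @Bool.rec (fun _ => Nat) (Btab_191) (Btab_192) (Nat.ble 192 c)
noncomputable def Btab_s_194_196 (c : Nat) : Nat := @Bool.rec (fun _ => Nat) (Btab_194) (Btab_195) (Nat.ble 195 c)
noncomputable def Btab_s_193_196 (c : Nat) : Nat := @Bool.rec (fun _ => Nat) (Btab_193) (Btab_s_194_196 c) (Nat.ble 194 c)
noncomputable def Btab_s_191_196 (c : Nat) : Nat := @Bool.rec (fun _ => Nat) (Btab_s_191_193 c) (Btab_s_193_196 c) (Nat.ble 193 c)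
noncomputable def Btab_s_186_196 (c : Nat) : Nat := @Bool.rec (fun _ => Nat) (Btab_s_186_191 c) (Btab_s_191_196 c) (Nat.ble 191 c)
noncomputable def Btab_s_196_198 (c : Nat) : Nat := @Bool.rec (fun _ => Nat) (Btab_196) (Btab_197) (Nat.ble 197 c)
noncomputable def Btab_s_199_201 (c : Nat) : Nat := @Bool.rec (fun _ => Nat) (Btab_199) (Btab_200) (Nat.ble 200 c)
noncomputable def Btab_s_198_201 (c : Nat) : Nat := @Bool.rec (fun _ => Nat) (Btab_198) (Btab_s_199_201 c) (Nat.ble 199 c)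
noncomputable def Btab_s_196_201 (c : Nat) : Nat := @Bool.rec (fun _ => Nat) (Btab_s_196_198 c) (Btab_s_198_201 c) (Nat.ble 198 c)
noncomputable def Btab_s_202_204 (c : Nat) : Nat := @Bool.rec (fun _ => Nat) (Btab_202) (Btab_203) (Nat.ble 203 c)
noncomputable def Btab_s_201_204 (c : Nat) : Nat := @Bool.rec (fun _ => Nat) (Btab_201) (Btab_s_202_204 c) (Nat.ble 202 c)
noncomputable def Btab_s_205_207 (c : Nat) : Nat := @Bool.rec (fun _ => Nat) (Btab_205) (Btab_206) (Nat.ble 206 c)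
noncomputable def Btab_s_204_207 (c : Nat) : Nat := @Bool.rec (fun _ => Nat) (Btab_204) (Btab_s_205_207 c) (Nat.ble 205 c)
noncomputable def Btab_s_201_207 (c : Nat) : Nat := @Bool.rec (fun _ => Nat) (Btab_s_201_204 c) (Btab_s_204_207 c) (Nat.ble 204 c)
noncomputable def Btab_s_196_207 (c : Nat) : Nat := @Bool.rec (fun _ => Nat) (Btab_s_196_201 c) (Btab_s_201_207 c) (Nat.ble 201 c)
noncomputable def Btab_s_186_207 (c : Nat) : Nat := @Bool.rec (fun _ => Nat) (Btab_s_186_196 c) (Btab_s_196_207 c) (Nat.ble 196 c)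
noncomputable def Btab_s_166_207 (c : Nat) : Nat := @Bool.rec (fun _ => Nat) (Btab_s_166_186 c) (Btab_s_186_207 c) (Nat.ble 186 c)
noncomputable def Btab_s_207_209 (c : Nat) : Nat := @Bool.rec (fun _ => Nat) (Btab_207) (Btab_208) (Nat.ble 208 c)
noncomputable def Btab_s_210_212 (c : Nat) : Nat := @Bool.rec (fun _ => Nat) (Btab_210) (Btab_211) (Nat.ble 211 c)
noncomputable def Btab_s_209_212 (c : Nat) : Nat := @Bool.rec (fun _ => Nat) (Btab_209) (Btab_s_210_212 c) (Nat.ble 210 c)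
noncomputable def Btab_s_207_212 (c : Nat) : Nat := @Bool.rec (fun _ => Nat) (Btab_s_207_209 c) (Btab_s_209_212 c) (Nat.ble 209 c)
noncomputable def Btab_s_212_214 (c : Nat) : Nat := @Bool.rec (fun _ => Nat) (Btab_212) (Btab_213) (Nat.ble 213 c)
noncomputable def Btab_s_215_217 (c : Nat) : Nat := @Bool.rec (fun _ => Nat) (Btab_215) (Btab_216) (Nat.ble 216 c)
noncomputable def Btab_s_214_217 (c : Nat) : Nat := @Bool.rec (fun _ => Nat) (Btab_214) (Btab_s_215_217 c) (Nat.ble 215 c)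
noncomputable def Btab_s_212_217 (c : Nat) : Nat := @Bool.rec (fun _ => Nat) (Btab_s_212_214 c) (Btab_s_214_217 c) (Nat.ble 214 c)
noncomputable def Btab_s_207_217 (c : Nat) : Nat := @Bool.rec (fun _ => Nat) (Btab_s_207_212 c) (Btab_s_212_217 c) (Nat.ble 212 c)
noncomputable def Btab_s_217_219 (c : Nat) : Nat := @Bool.rec (fun _ => Nat) (Btab_217) (Btab_218) (Nat.ble 218 c)
noncomputable def Btab_s_220_222 (c : Nat) : Nat := @Bool.rec (fun _ => Nat) (Btab_220) (Btab_221) (Nat.ble 221 c)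
noncomputable def Btab_s_219_222 (c : Nat) : Nat := @Bool.rec (fun _ => Nat) (Btab_219) (Btab_s_220_222 c) (Nat.ble 220 c)
noncomputable def Btab_s_217_222 (c : Nat) : Nat := @Bool.rec (fun _ => Nat) (Btab_s_217_219 c) (Btab_s_219_222 c) (Nat.ble 219 c)
noncomputable def Btab_s_223_225 (c : Nat) : Nat := @Bool.rec (fun _ => Nat) (Btab_223) (Btab_224) (Nat.ble 224 c)
noncomputable def Btab_s_222_225 (c : Nat) : Nat := @Bool.rec (fun _ => Nat) (Btab_222) (Btab_s_223_225 c) (Nat.ble 223 c)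
noncomputable def Btab_s_226_228 (c : Nat) : Nat := @Bool.rec (fun _ => Nat) (Btab_226) (Btab_227) (Nat.ble 227 c)
noncomputable def Btab_s_225_228 (c : Nat) : Nat := @Bool.rec (fun _ => Nat) (Btab_225) (Btab_s_226_228 c) (Nat.ble 226 c)
noncomputable def Btab_s_222_228 (c : Nat) : Nat := @Bool.rec (fun _ => Nat) (Btab_s_222_225 c) (Btab_s_225_228 c) (Nat.ble 225 c)
noncomputable def Btab_s_217_228 (c : Nat) : Nat := @Bool.rec (fun _ => Nat) (Btab_s_217_222 c) (Btab_s_222_228 c) (Nat.ble 222 c)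
noncomputable def Btab_s_207_228 (c : Nat) : Nat := @Bool.rec (fun _ => Nat) (Btab_s_207_217 c) (Btab_s_217_228 c) (Nat.ble 217 c)
noncomputable def Btab_s_228_230 (c : Nat) : Nat := @Bool.rec (fun _ => Nat) (Btab_228) (Btab_229) (Nat.ble 229 c)
noncomputable def Btab_s_231_233 (c : Nat) : Nat := @Bool.rec (fun _ => Nat) (Btab_231) (Btab_232) (Nat.ble 232 c)
noncomputable def Btab_s_230_233 (c : Nat) : Nat := @Bool.rec (fun _ => Nat) (Btab_230) (Btab_s_231_233 c) (Nat.ble 231 c)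
noncomputable def Btab_s_228_233 (c : Nat) : Nat := @Bool.rec (fun _ => Nat) (Btab_s_228_230 c) (Btab_s_230_233 c) (Nat.ble 230 c)
noncomputable def Btab_s_233_235 (c : Nat) : Nat := @Bool.rec (fun _ => Nat) (Btab_233) (Btab_234) (Nat.ble 234 c)
noncomputable def Btab_s_236_238 (c : Nat) : Nat := @Bool.rec (fun _ => Nat) (Btab_236) (Btab_237) (Nat.ble 237 c)
noncomputable def Btab_s_235_238 (c : Nat) : Nat := @Bool.rec (fun _ => Nat) (Btab_235) (Btab_s_236_238 c) (Nat.ble 236 c)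
noncomputable def Btab_s_233_238 (c : Nat) : Nat := @Bool.rec (fun _ => Nat) (Btab_s_233_235 c) (Btab_s_235_238 c) (Nat.ble 235 c)
noncomputable def Btab_s_228_238 (c : Nat) : Nat := @Bool.rec (fun _ => Nat) (Btab_s_228_233 c) (Btab_s_233_238 c) (Nat.ble 233 c)
noncomputable def Btab_s_238_240 (c : Nat) : Nat := @Bool.rec (fun _ => Nat) (Btab_238) (Btab_239) (Nat.ble 239 c)
noncomputable def Btab_s_241_243 (c : Nat) : Nat := @Bool.rec (fun _ => Nat) (Btab_241) (Btab_242) (Nat.ble 242 c)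
noncomputable def Btab_s_240_243 (c : Nat) : Nat := @Bool.rec (fun _ => Nat) (Btab_240) (Btab_s_241_243 c) (Nat.ble 241 c)
noncomputable def Btab_s_238_243 (c : Nat) : Nat := @Bool.rec (fun _ => Nat) (Btab_s_238_240 c) (Btab_s_240_243 c) (Nat.ble 240 c)
noncomputable def Btab_s_244_246 (c : Nat) : Nat := @Bool.rec (fun _ => Nat) (Btab_244) (Btab_245) (Nat.ble 245 c)
noncomputable def Btab_s_243_246 (c : Nat) : Nat := @Bool.rec (fun _ => Nat) (Btab_243) (Btab_s_244_246 c) (Nat.ble 244 c)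
noncomputable def Btab_s_247_249 (c : Nat) : Nat := @Bool.rec (fun _ => Nat) (Btab_247) (Btab_248) (Nat.ble 248 c)
noncomputable def Btab_s_246_249 (c : Nat) : Nat := @Bool.rec (fun _ => Nat) (Btab_246) (Btab_s_247_249 c) (Nat.ble 247 c)
noncomputable def Btab_s_243_249 (c : Nat) : Nat := @Bool.rec (fun _ => Nat) (Btab_s_243_246 c) (Btab_s_246_249 c) (Nat.ble 246 c)
noncomputable def Btab_s_238_249 (c : Nat) : Nat := @Bool.rec (fun _ => Nat) (Btab_s_238_243 c) (Btab_s_243_249 c) (Nat.ble 243 c)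
noncomputable def Btab_s_228_249 (c : Nat) : Nat := @Bool.rec (fun _ => Nat) (Btab_s_228_238 c) (Btab_s_238_249 c) (Nat.ble 238 c)
noncomputable def Btab_s_207_249 (c : Nat) : Nat := @Bool.rec (fun _ => Nat) (Btab_s_207_228 c) (Btab_s_228_249 c) (Nat.ble 228 c)
noncomputable def Btab_s_166_249 (c : Nat) : Nat := @Bool.rec (fun _ => Nat) (Btab_s_166_207 c) (Btab_s_207_249 c) (Nat.ble 207 c)
noncomputable def Btab_s_249_251 (c : Nat) : Nat := @Bool.rec (fun _ => Nat) (Btab_249) (Btab_250) (Nat.ble 250 c)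
noncomputable def Btab_s_252_254 (c : Nat) : Nat := @Bool.rec (fun _ => Nat) (Btab_252) (Btab_253) (Nat.ble 253 c)
noncomputable def Btab_s_251_254 (c : Nat) : Nat := @Bool.rec (fun _ => Nat) (Btab_251) (Btab_s_252_254 c) (Nat.ble 252 c)
noncomputable def Btab_s_249_254 (c : Nat) : Nat := @Bool.rec (fun _ => Nat) (Btab_s_249_251 c) (Btab_s_251_254 c) (Nat.ble 251 c)
noncomputable def Btab_s_254_256 (c : Nat) : Nat := @Bool.rec (fun _ => Nat) (Btab_254) (Btab_255) (Nat.ble 255 c)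
noncomputable def Btab_s_257_259 (c : Nat) : Nat := @Bool.rec (fun _ => Nat) (Btab_257) (Btab_258) (Nat.ble 258 c)
noncomputable def Btab_s_256_259 (c : Nat) : Nat := @Bool.rec (fun _ => Nat) (Btab_256) (Btab_s_257_259 c) (Nat.ble 257 c)
noncomputable def Btab_s_254_259 (c : Nat) : Nat := @Bool.rec (fun _ => Nat) (Btab_s_254_256 c) (Btab_s_256_259 c) (Nat.ble 256 c)
noncomputable def Btab_s_249_259 (c : Nat) : Nat := @Bool.rec (fun _ => Nat) (Btab_s_249_254 c) (Btab_s_254_259 c) (Nat.ble 254 c)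
noncomputable def Btab_s_259_261 (c : Nat) : Nat := @Bool.rec (fun _ => Nat) (Btab_259) (Btab_260) (Nat.ble 260 c)
noncomputable def Btab_s_262_264 (c : Nat) : Nat := @Bool.rec (fun _ => Nat) (Btab_262) (Btab_263) (Nat.ble 263 c)
noncomputable def Btab_s_261_264 (c : Nat) : Nat := @Bool.rec (fun _ => Nat) (Btab_261) (Btab_s_262_264 c) (Nat.ble 262 c)
noncomputable def Btab_s_259_264 (c : Nat) : Nat := @Bool.rec (fun _ => Nat) (Btab_s_259_261 c) (Btab_s_261_264 c) (Nat.ble 261 c)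
noncomputable def Btab_s_264_266 (c : Nat) : Nat := @Bool.rec (fun _ => Nat) (Btab_264) (Btab_265) (Nat.ble 265 c)
noncomputable def Btab_s_267_269 (c : Nat) : Nat := @Bool.rec (fun _ => Nat) (Btab_267) (Btab_268) (Nat.ble 268 c)
noncomputable def Btab_s_266_269 (c : Nat) : Nat := @Bool.rec (fun _ => Nat) (Btab_266) (Btab_s_267_269 c) (Nat.ble 267 c)
noncomputable def Btab_s_264_269 (c : Nat) : Nat := @Bool.rec (fun _ => Nat) (Btab_s_264_266 c) (Btab_s_266_269 c) (Nat.ble 266 c)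
noncomputable def Btab_s_259_269 (c : Nat) : Nat := @Bool.rec (fun _ => Nat) (Btab_s_259_264 c) (Btab_s_264_269 c) (Nat.ble 264 c)
noncomputable def Btab_s_249_269 (c : Nat) : Nat := @Bool.rec (fun _ => Nat) (Btab_s_249_259 c) (Btab_s_259_269 c) (Nat.ble 259 c)
noncomputable def Btab_s_269_271 (c : Nat) : Nat := @Bool.rec (fun _ => Nat) (Btab_269) (Btab_270) (Nat.ble 270 c)
noncomputable def Btab_s_272_274 (c : Nat) : Nat := @Bool.rec (fun _ => Nat) (Btab_272) (Btab_273) (Nat.ble 273 c)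
noncomputable def Btab_s_271_274 (c : Nat) : Nat := @Bool.rec (fun _ => Nat) (Btab_271) (Btab_s_272_274 c) (Nat.ble 272 c)
noncomputable def Btab_s_269_274 (c : Nat) : Nat := @Bool.rec (fun _ => Nat) (Btab_s_269_271 c) (Btab_s_271_274 c) (Nat.ble 271 c)
noncomputable def Btab_s_274_276 (c : Nat) : Nat := @Bool.rec (fun _ => Nat) (Btab_274) (Btab_275) (Nat.ble 275 c)
noncomputable def Btab_s_277_279 (c : Nat) : Nat := @Bool.rec (fun _ => Nat) (Btab_277) (Btab_278) (Nat.ble 278 c)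
noncomputable def Btab_s_276_279 (c : Nat) : Nat := @Bool.rec (fun _ => Nat) (Btab_276) (Btab_s_277_279 c) (Nat.ble 277 c)
noncomputable def Btab_s_274_279 (c : Nat) : Nat := @Bool.rec (fun _ => Nat) (Btab_s_274_276 c) (Btab_s_276_279 c) (Nat.ble 276 c)
noncomputable def Btab_s_269_279 (c : Nat) : Nat := @Bool.rec (fun _ => Nat) (Btab_s_269_274 c) (Btab_s_274_279 c) (Nat.ble 274 c)
noncomputable def Btab_s_279_281 (c : Nat) : Nat := @Bool.rec (fun _ => Nat) (Btab_279) (Btab_280) (Nat.ble 280 c)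
noncomputable def Btab_s_282_284 (c : Nat) : Nat := @Bool.rec (fun _ => Nat) (Btab_282) (Btab_283) (Nat.ble 283 c)
noncomputable def Btab_s_281_284 (c : Nat) : Nat := @Bool.rec (fun _ => Nat) (Btab_281) (Btab_s_282_284 c) (Nat.ble 282 c)
noncomputable def Btab_s_279_284 (c : Nat) : Nat := @Bool.rec (fun _ => Nat) (Btab_s_279_281 c) (Btab_s_281_284 c) (Nat.ble 281 c)
noncomputable def Btab_s_285_287 (c : Nat) : Nat := @Bool.rec (fun _ => Nat) (Btab_285) (Btab_286) (Nat.ble 286 c)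
noncomputable def Btab_s_284_287 (c : Nat) : Nat := @Bool.rec (fun _ => Nat) (Btab_284) (Btab_s_285_287 c) (Nat.ble 285 c)
noncomputable def Btab_s_288_290 (c : Nat) : Nat := @Bool.rec (fun _ => Nat) (Btab_288) (Btab_289) (Nat.ble 289 c)
noncomputable def Btab_s_287_290 (c : Nat) : Nat := @Bool.rec (fun _ => Nat) (Btab_287) (Btab_s_288_290 c) (Nat.ble 288 c)
noncomputable def Btab_s_284_290 (c : Nat) : Nat := @Bool.rec (fun _ => Nat) (Btab_s_284_287 c) (Btab_s_287_290 c) (Nat.ble 287 c)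
noncomputable def Btab_s_279_290 (c : Nat) : Nat := @Bool.rec (fun _ => Nat) (Btab_s_279_284 c) (Btab_s_284_290 c) (Nat.ble 284 c)
noncomputable def Btab_s_269_290 (c : Nat) : Nat := @Bool.rec (fun _ => Nat) (Btab_s_269_279 c) (Btab_s_279_290 c) (Nat.ble 279 c)
noncomputable def Btab_s_249_290 (c : Nat) : Nat := @Bool.rec (fun _ => Nat) (Btab_s_249_269 c) (Btab_s_269_290 c) (Nat.ble 269 c)
noncomputable def Btab_s_290_292 (c : Nat) : Nat := @Bool.rec (fun _ => Nat) (Btab_290) (Btab_291) (Nat.ble 291 c)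
noncomputable def Btab_s_293_295 (c : Nat) : Nat := @Bool.rec (fun _ => Nat) (Btab_293) (Btab_294) (Nat.ble 294 c)
noncomputable def Btab_s_292_295 (c : Nat) : Nat := @Bool.rec (fun _ => Nat) (Btab_292) (Btab_s_293_295 c) (Nat.ble 293 c)
noncomputable def Btab_s_290_295 (c : Nat) : Nat := @Bool.rec (fun _ => Nat) (Btab_s_290_292 c) (Btab_s_292_295 c) (Nat.ble 292 c)
noncomputable def Btab_s_295_297 (c : Nat) : Nat := @Bool.rec (fun _ => Nat) (Btab_295) (Btab_296) (Nat.ble 296 c)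
noncomputable def Btab_s_298_300 (c : Nat) : Nat := @Bool.rec (fun _ => Nat) (Btab_298) (Btab_299) (Nat.ble 299 c)
noncomputable def Btab_s_297_300 (c : Nat) : Nat := @Bool.rec (fun _ => Nat) (Btab_297) (Btab_s_298_300 c) (Nat.ble 298 c)
noncomputable def Btab_s_295_300 (c : Nat) : Nat := @Bool.rec (fun _ => Nat) (Btab_s_295_297 c) (Btab_s_297_300 c) (Nat.ble 297 c)
noncomputable def Btab_s_290_300 (c : Nat) : Nat := @Bool.rec (fun _ => Nat) (Btab_s_290_295 c) (Btab_s_295_300 c) (Nat.ble 295 c)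
noncomputable def Btab_s_300_302 (c : Nat) : Nat := @Bool.rec (fun _ => Nat) (Btab_300) (Btab_301) (Nat.ble 301 c)
noncomputable def Btab_s_303_305 (c : Nat) : Nat := @Bool.rec (fun _ => Nat) (Btab_303) (Btab_304) (Nat.ble 304 c)
noncomputable def Btab_s_302_305 (c : Nat) : Nat := @Bool.rec (fun _ => Nat) (Btab_302) (Btab_s_303_305 c) (Nat.ble 303 c)
noncomputable def Btab_s_300_305 (c : Nat) : Nat := @Bool.rec (fun _ => Nat) (Btab_s_300_302 c) (Btab_s_302_305 c) (Nat.ble 302 c)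
noncomputable def Btab_s_306_308 (c : Nat) : Nat := @Bool.rec (fun _ => Nat) (Btab_306) (Btab_307) (Nat.ble 307 c)
noncomputable def Btab_s_305_308 (c : Nat) : Nat := @Bool.rec (fun _ => Nat) (Btab_305) (Btab_s_306_308 c) (Nat.ble 306 c)
noncomputable def Btab_s_309_311 (c : Nat) : Nat := @Bool.rec (fun _ => Nat) (Btab_309) (Btab_310) (Nat.ble 310 c)
noncomputable def Btab_s_308_311 (c : Nat) : Nat := @Bool.rec (fun _ => Nat) (Btab_308) (Btab_s_309_311 c) (Nat.ble 309 c)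
noncomputable def Btab_s_305_311 (c : Nat) : Nat := @Bool.rec (fun _ => Nat) (Btab_s_305_308 c) (Btab_s_308_311 c) (Nat.ble 308 c)
noncomputable def Btab_s_300_311 (c : Nat) : Nat := @Bool.rec (fun _ => Nat) (Btab_s_300_305 c) (Btab_s_305_311 c) (Nat.ble 305 c)
noncomputable def Btab_s_290_311 (c : Nat) : Nat := @Bool.rec (fun _ => Nat) (Btab_s_290_300 c) (Btab_s_300_311 c) (Nat.ble 300 c)
noncomputable def Btab_s_311_313 (c : Nat) : Nat := @Bool.rec (fun _ => Nat) (Btab_311) (Btab_312) (Nat.ble 312 c)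
noncomputable def Btab_s_314_316 (c : Nat) : Nat := @Bool.rec (fun _ => Nat) (Btab_314) (Btab_315) (Nat.ble 315 c)
noncomputable def Btab_s_313_316 (c : Nat) : Nat := @Bool.rec (fun _ => Nat) (Btab_313) (Btab_s_314_316 c) (Nat.ble 314 c)
noncomputable def Btab_s_311_316 (c : Nat) : Nat := @Bool.rec (fun _ => Nat) (Btab_s_311_313 c) (Btab_s_313_316 c) (Nat.ble 313 c)
noncomputable def Btab_s_316_318 (c : Nat) : Nat := @Bool.rec (fun _ => Nat) (Btab_316) (Btab_317) (Nat.ble 317 c)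
noncomputable def Btab_s_319_321 (c : Nat) : Nat := @Bool.rec (fun _ => Nat) (Btab_319) (Btab_320) (Nat.ble 320 c)
noncomputable def Btab_s_318_321 (c : Nat) : Nat := @Bool.rec (fun _ => Nat) (Btab_318) (Btab_s_319_321 c) (Nat.ble 319 c)
noncomputable def Btab_s_316_321 (c : Nat) : Nat := @Bool.rec (fun _ => Nat) (Btab_s_316_318 c) (Btab_s_318_321 c) (Nat.ble 318 c)
noncomputable def Btab_s_311_321 (c : Nat) : Nat := @Bool.rec (fun _ => Nat) (Btab_s_311_316 c) (Btab_s_316_321 c) (Nat.ble 316 c)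
noncomputable def Btab_s_321_323 (c : Nat) : Nat := @Bool.rec (fun _ => Nat) (Btab_321) (Btab_322) (Nat.ble 322 c)
noncomputable def Btab_s_324_326 (c : Nat) : Nat := @Bool.rec (fun _ => Nat) (Btab_324) (Btab_325) (Nat.ble 325 c)
noncomputable def Btab_s_323_326 (c : Nat) : Nat := @Bool.rec (fun _ => Nat) (Btab_323) (Btab_s_324_326 c) (Nat.ble 324 c)
noncomputable def Btab_s_321_326 (c : Nat) : Nat := @Bool.rec (fun _ => Nat) (Btab_s_321_323 c) (Btab_s_323_326 c) (Nat.ble 323 c)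
noncomputable def Btab_s_327_329 (c : Nat) : Nat := @Bool.rec (fun _ => Nat) (Btab_327) (Btab_328) (Nat.ble 328 c)
noncomputable def Btab_s_326_329 (c : Nat) : Nat := @Bool.rec (fun _ => Nat) (Btab_326) (Btab_s_327_329 c) (Nat.ble 327 c)
noncomputable def Btab_s_330_332 (c : Nat) : Nat := @Bool.rec (fun _ => Nat) (Btab_330) (Btab_331) (Nat.ble 331 c)
noncomputable def Btab_s_329_332 (c : Nat) : Nat := @Bool.rec (fun _ => Nat) (Btab_329) (Btab_s_330_332 c) (Nat.ble 330 c)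
noncomputable def Btab_s_326_332 (c : Nat) : Nat := @Bool.rec (fun _ => Nat) (Btab_s_326_329 c) (Btab_s_329_332 c) (Nat.ble 329 c)
noncomputable def Btab_s_321_332 (c : Nat) : Nat := @Bool.rec (fun _ => Nat) (Btab_s_321_326 c) (Btab_s_326_332 c) (Nat.ble 326 c)
noncomputable def Btab_s_311_332 (c : Nat) : Nat := @Bool.rec (fun _ => Nat) (Btab_s_311_321 c) (Btab_s_321_332 c) (Nat.ble 321 c)
noncomputable def Btab_s_290_332 (c : Nat) : Nat := @Bool.rec (fun _ => Nat) (Btab_s_290_311 c) (Btab_s_311_332 c) (Nat.ble 311 c)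
noncomputable def Btab_s_249_332 (c : Nat) : Nat := @Bool.rec (fun _ => Nat) (Btab_s_249_290 c) (Btab_s_290_332 c) (Nat.ble 290 c)
noncomputable def Btab_s_166_332 (c : Nat) : Nat := @Bool.rec (fun _ => Nat) (Btab_s_166_249 c) (Btab_s_249_332 c) (Nat.ble 249 c)
noncomputable def Btab_s_0_332 (c : Nat) : Nat := @Bool.rec (fun _ => Nat) (Btab_s_0_166 c) (Btab_s_166_332 c) (Nat.ble 166 c)
noncomputable def Btab (i : Nat) : Nat := rdw 39 549755813887 (Btab_s_0_332 (Nat.shiftRight i 11)) (Nat.land i 2047)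
noncomputable def Ptab_s_0_2 (c : Nat) : Nat := @Bool.rec (fun _ => Nat) (Ptab_0) (Ptab_1) (Nat.ble 1 c)
noncomputable def Ptab_s_3_5 (c : Nat) : Nat := @Bool.rec (fun _ => Nat) (Ptab_3) (Ptab_4) (Nat.ble 4 c)
noncomputable def Ptab_s_2_5 (c : Nat) : Nat := @Bool.rec (fun _ => Nat) (Ptab_2) (Ptab_s_3_5 c) (Nat.ble 3 c)
noncomputable def Ptab_s_0_5 (c : Nat) : Nat := @Bool.rec (fun _ => Nat) (Ptab_s_0_2 c) (Ptab_s_2_5 c) (Nat.ble 2 c)
noncomputable def Ptab_s_5_7 (c : Nat) : Nat := @Bool.rec (fun _ => Nat) (Ptab_5) (Ptab_6) (Nat.ble 6 c)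
noncomputable def Ptab_s_8_10 (c : Nat) : Nat := @Bool.rec (fun _ => Nat) (Ptab_8) (Ptab_9) (Nat.ble 9 c)
noncomputable def Ptab_s_7_10 (c : Nat) : Nat := @Bool.rec (fun _ => Nat) (Ptab_7) (Ptab_s_8_10 c) (Nat.ble 8 c)
noncomputable def Ptab_s_5_10 (c : Nat) : Nat := @Bool.rec (fun _ => Nat) (Ptab_s_5_7 c) (Ptab_s_7_10 c) (Nat.ble 7 c)
noncomputable def Ptab_s_0_10 (c : Nat) : Nat := @Bool.rec (fun _ => Nat) (Ptab_s_0_5 c) (Ptab_s_5_10 c) (Nat.ble 5 c)
noncomputable def Ptab_s_10_12 (c : Nat) : Nat := @Bool.rec (fun _ => Nat) (Ptab_10) (Ptab_11) (Nat.ble 11 c)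
noncomputable def Ptab_s_13_15 (c : Nat) : Nat := @Bool.rec (fun _ => Nat) (Ptab_13) (Ptab_14) (Nat.ble 14 c)
noncomputable def Ptab_s_12_15 (c : Nat) : Nat := @Bool.rec (fun _ => Nat) (Ptab_12) (Ptab_s_13_15 c) (Nat.ble 13 c)
noncomputable def Ptab_s_10_15 (c : Nat) : Nat := @Bool.rec (fun _ => Nat) (Ptab_s_10_12 c) (Ptab_s_12_15 c) (Nat.ble 12 c)
noncomputable def Ptab_s_16_18 (c : Nat) : Nat := @Bool.rec (fun _ => Nat) (Ptab_16) (Ptab_17) (Nat.ble 17 c)
noncomputable def Ptab_s_15_18 (c : Nat) : Nat := @Bool.rec (fun _ => Nat) (Ptab_15) (Ptab_s_16_18 c) (Nat.ble 16 c)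
noncomputable def Ptab_s_19_21 (c : Nat) : Nat := @Bool.rec (fun _ => Nat) (Ptab_19) (Ptab_20) (Nat.ble 20 c)
noncomputable def Ptab_s_18_21 (c : Nat) : Nat := @Bool.rec (fun _ => Nat) (Ptab_18) (Ptab_s_19_21 c) (Nat.ble 19 c)
noncomputable def Ptab_s_15_21 (c : Nat) : Nat := @Bool.rec (fun _ => Nat) (Ptab_s_15_18 c) (Ptab_s_18_21 c) (Nat.ble 18 c)
noncomputable def Ptab_s_10_21 (c : Nat) : Nat := @Bool.rec (fun _ => Nat) (Ptab_s_10_15 c) (Ptab_s_15_21 c) (Nat.ble 15 c)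
noncomputable def Ptab_s_0_21 (c : Nat) : Nat := @Bool.rec (fun _ => Nat) (Ptab_s_0_10 c) (Ptab_s_10_21 c) (Nat.ble 10 c)
noncomputable def Ptab_s_21_23 (c : Nat) : Nat := @Bool.rec (fun _ => Nat) (Ptab_21) (Ptab_22) (Nat.ble 22 c)
noncomputable def Ptab_s_24_26 (c : Nat) : Nat := @Bool.rec (fun _ => Nat) (Ptab_24) (Ptab_25) (Nat.ble 25 c)
noncomputable def Ptab_s_23_26 (c : Nat) : Nat := @Bool.rec (fun _ => Nat) (Ptab_23) (Ptab_s_24_26 c) (Nat.ble 24 c)
noncomputable def Ptab_s_21_26 (c : Nat) : Nat := @Bool.rec (fun _ => Nat) (Ptab_s_21_23 c) (Ptab_s_23_26 c) (Nat.ble 23 c)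
noncomputable def Ptab_s_26_28 (c : Nat) : Nat := @Bool.rec (fun _ => Nat) (Ptab_26) (Ptab_27) (Nat.ble 27 c)
noncomputable def Ptab_s_29_31 (c : Nat) : Nat := @Bool.rec (fun _ => Nat) (Ptab_29) (Ptab_30) (Nat.ble 30 c)
noncomputable def Ptab_s_28_31 (c : Nat) : Nat := @Bool.rec (fun _ => Nat) (Ptab_28) (Ptab_s_29_31 c) (Nat.ble 29 c)
noncomputable def Ptab_s_26_31 (c : Nat) : Nat := @Bool.rec (fun _ => Nat) (Ptab_s_26_28 c) (Ptab_s_28_31 c) (Nat.ble 28 c)
noncomputable def Ptab_s_21_31 (c : Nat) : Nat := @Bool.rec (fun _ => Nat) (Ptab_s_21_26 c) (Ptab_s_26_31 c) (Nat.ble 26 c)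
noncomputable def Ptab_s_31_33 (c : Nat) : Nat := @Bool.rec (fun _ => Nat) (Ptab_31) (Ptab_32) (Nat.ble 32 c)
noncomputable def Ptab_s_34_36 (c : Nat) : Nat := @Bool.rec (fun _ => Nat) (Ptab_34) (Ptab_35) (Nat.ble 35 c)
noncomputable def Ptab_s_33_36 (c : Nat) : Nat := @Bool.rec (fun _ => Nat) (Ptab_33) (Ptab_s_34_36 c) (Nat.ble 34 c)
noncomputable def Ptab_s_31_36 (c : Nat) : Nat := @Bool.rec (fun _ => Nat) (Ptab_s_31_33 c) (Ptab_s_33_36 c) (Nat.ble 33 c)
noncomputable def Ptab_s_37_39 (c : Nat) : Nat := @Bool.rec (fun _ => Nat) (Ptab_37) (Ptab_38) (Nat.ble 38 c)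
noncomputable def Ptab_s_36_39 (c : Nat) : Nat := @Bool.rec (fun _ => Nat) (Ptab_36) (Ptab_s_37_39 c) (Nat.ble 37 c)
noncomputable def Ptab_s_40_42 (c : Nat) : Nat := @Bool.rec (fun _ => Nat) (Ptab_40) (Ptab_41) (Nat.ble 41 c)
noncomputable def Ptab_s_39_42 (c : Nat) : Nat := @Bool.rec (fun _ => Nat) (Ptab_39) (Ptab_s_40_42 c) (Nat.ble 40 c)
noncomputable def Ptab_s_36_42 (c : Nat) : Nat := @Bool.rec (fun _ => Nat) (Ptab_s_36_39 c) (Ptab_s_39_42 c) (Nat.ble 39 c)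
noncomputable def Ptab_s_31_42 (c : Nat) : Nat := @Bool.rec (fun _ => Nat) (Ptab_s_31_36 c) (Ptab_s_36_42 c) (Nat.ble 36 c)
noncomputable def Ptab_s_21_42 (c : Nat) : Nat := @Bool.rec (fun _ => Nat) (Ptab_s_21_31 c) (Ptab_s_31_42 c) (Nat.ble 31 c)
noncomputable def Ptab_s_0_42 (c : Nat) : Nat := @Bool.rec (fun _ => Nat) (Ptab_s_0_21 c) (Ptab_s_21_42 c) (Nat.ble 21 c)
noncomputable def Ptab_s_42_44 (c : Nat) : Nat := @Bool.rec (fun _ => Nat) (Ptab_42) (Ptab_43) (Nat.ble 43 c)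
noncomputable def Ptab_s_45_47 (c : Nat) : Nat := @Bool.rec (fun _ => Nat) (Ptab_45) (Ptab_46) (Nat.ble 46 c)
noncomputable def Ptab_s_44_47 (c : Nat) : Nat := @Bool.rec (fun _ => Nat) (Ptab_44) (Ptab_s_45_47 c) (Nat.ble 45 c)
noncomputable def Ptab_s_42_47 (c : Nat) : Nat := @Bool.rec (fun _ => Nat) (Ptab_s_42_44 c) (Ptab_s_44_47 c) (Nat.ble 44 c)
noncomputable def Ptab_s_47_49 (c : Nat) : Nat := @Bool.rec (fun _ => Nat) (Ptab_47) (Ptab_48) (Nat.ble 48 c)
noncomputable def Ptab_s_50_52 (c : Nat) : Nat := @Bool.rec (fun _ => Nat) (Ptab_50) (Ptab_51) (Nat.ble 51 c)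
noncomputable def Ptab_s_49_52 (c : Nat) : Nat := @Bool.rec (fun _ => Nat) (Ptab_49) (Ptab_s_50_52 c) (Nat.ble 50 c)
noncomputable def Ptab_s_47_52 (c : Nat) : Nat := @Bool.rec (fun _ => Nat) (Ptab_s_47_49 c) (Ptab_s_49_52 c) (Nat.ble 49 c)
noncomputable def Ptab_s_42_52 (c : Nat) : Nat := @Bool.rec (fun _ => Nat) (Ptab_s_42_47 c) (Ptab_s_47_52 c) (Nat.ble 47 c)
noncomputable def Ptab_s_52_54 (c : Nat) : Nat := @Bool.rec (fun _ => Nat) (Ptab_52) (Ptab_53) (Nat.ble 53 c)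
noncomputable def Ptab_s_55_57 (c : Nat) : Nat := @Bool.rec (fun _ => Nat) (Ptab_55) (Ptab_56) (Nat.ble 56 c)
noncomputable def Ptab_s_54_57 (c : Nat) : Nat := @Bool.rec (fun _ => Nat) (Ptab_54) (Ptab_s_55_57 c) (Nat.ble 55 c)
noncomputable def Ptab_s_52_57 (c : Nat) : Nat := @Bool.rec (fun _ => Nat) (Ptab_s_52_54 c) (Ptab_s_54_57 c) (Nat.ble 54 c)
noncomputable def Ptab_s_58_60 (c : Nat) : Nat := @Bool.rec (fun _ => Nat) (Ptab_58) (Ptab_59) (Nat.ble 59 c)
noncomputable def Ptab_s_57_60 (c : Nat) : Nat := @Bool.rec (fun _ => Nat) (Ptab_57) (Ptab_s_58_60 c) (Nat.ble 58 c)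
noncomputable def Ptab_s_61_63 (c : Nat) : Nat := @Bool.rec (fun _ => Nat) (Ptab_61) (Ptab_62) (Nat.ble 62 c)
noncomputable def Ptab_s_60_63 (c : Nat) : Nat := @Bool.rec (fun _ => Nat) (Ptab_60) (Ptab_s_61_63 c) (Nat.ble 61 c)
noncomputable def Ptab_s_57_63 (c : Nat) : Nat := @Bool.rec (fun _ => Nat) (Ptab_s_57_60 c) (Ptab_s_60_63 c) (Nat.ble 60 c)
noncomputable def Ptab_s_52_63 (c : Nat) : Nat := @Bool.rec (fun _ => Nat) (Ptab_s_52_57 c) (Ptab_s_57_63 c) (Nat.ble 57 c)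
noncomputable def Ptab_s_42_63 (c : Nat) : Nat := @Bool.rec (fun _ => Nat) (Ptab_s_42_52 c) (Ptab_s_52_63 c) (Nat.ble 52 c)
noncomputable def Ptab_s_63_65 (c : Nat) : Nat := @Bool.rec (fun _ => Nat) (Ptab_63) (Ptab_64) (Nat.ble 64 c)
noncomputable def Ptab_s_66_68 (c : Nat) : Nat := @Bool.rec (fun _ => Nat) (Ptab_66) (Ptab_67) (Nat.ble 67 c)
noncomputable def Ptab_s_65_68 (c : Nat) : Nat := @Bool.rec (fun _ => Nat) (Ptab_65) (Ptab_s_66_68 c) (Nat.ble 66 c)
noncomputable def Ptab_s_63_68 (c : Nat) : Nat := @Bool.rec (fun _ => Nat) (Ptab_s_63_65 c) (Ptab_s_65_68 c) (Nat.ble 65 c)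
noncomputable def Ptab_s_69_71 (c : Nat) : Nat := @Bool.rec (fun _ => Nat) (Ptab_69) (Ptab_70) (Nat.ble 70 c)
noncomputable def Ptab_s_68_71 (c : Nat) : Nat := @Bool.rec (fun _ => Nat) (Ptab_68) (Ptab_s_69_71 c) (Nat.ble 69 c)
noncomputable def Ptab_s_72_74 (c : Nat) : Nat := @Bool.rec (fun _ => Nat) (Ptab_72) (Ptab_73) (Nat.ble 73 c)
noncomputable def Ptab_s_71_74 (c : Nat) : Nat := @Bool.rec (fun _ => Nat) (Ptab_71) (Ptab_s_72_74 c) (Nat.ble 72 c)
noncomputable def Ptab_s_68_74 (c : Nat) : Nat := @Bool.rec (fun _ => Nat) (Ptab_s_68_71 c) (Ptab_s_71_74 c) (Nat.ble 71 c)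
noncomputable def Ptab_s_63_74 (c : Nat) : Nat := @Bool.rec (fun _ => Nat) (Ptab_s_63_68 c) (Ptab_s_68_74 c) (Nat.ble 68 c)
noncomputable def Ptab_s_74_76 (c : Nat) : Nat := @Bool.rec (fun _ => Nat) (Ptab_74) (Ptab_75) (Nat.ble 75 c)
noncomputable def Ptab_s_77_79 (c : Nat) : Nat := @Bool.rec (fun _ => Nat) (Ptab_77) (Ptab_78) (Nat.ble 78 c)
noncomputable def Ptab_s_76_79 (c : Nat) : Nat := @Bool.rec (fun _ => Nat) (Ptab_76) (Ptab_s_77_79 c) (Nat.ble 77 c)
noncomputable def Ptab_s_74_79 (c : Nat) : Nat := @Bool.rec (fun _ => Nat) (Ptab_s_74_76 c) (Ptab_s_76_79 c) (Nat.ble 76 c)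
noncomputable def Ptab_s_80_82 (c : Nat) : Nat := @Bool.rec (fun _ => Nat) (Ptab_80) (Ptab_81) (Nat.ble 81 c)
noncomputable def Ptab_s_79_82 (c : Nat) : Nat := @Bool.rec (fun _ => Nat) (Ptab_79) (Ptab_s_80_82 c) (Nat.ble 80 c)
noncomputable def Ptab_s_83_85 (c : Nat) : Nat := @Bool.rec (fun _ => Nat) (Ptab_83) (Ptab_84) (Nat.ble 84 c)
noncomputable def Ptab_s_82_85 (c : Nat) : Nat := @Bool.rec (fun _ => Nat) (Ptab_82) (Ptab_s_83_85 c) (Nat.ble 83 c)
noncomputable def Ptab_s_79_85 (c : Nat) : Nat := @Bool.rec (fun _ => Nat) (Ptab_s_79_82 c) (Ptab_s_82_85 c) (Nat.ble 82 c)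
noncomputable def Ptab_s_74_85 (c : Nat) : Nat := @Bool.rec (fun _ => Nat) (Ptab_s_74_79 c) (Ptab_s_79_85 c) (Nat.ble 79 c)
noncomputable def Ptab_s_63_85 (c : Nat) : Nat := @Bool.rec (fun _ => Nat) (Ptab_s_63_74 c) (Ptab_s_74_85 c) (Nat.ble 74 c)
noncomputable def Ptab_s_42_85 (c : Nat) : Nat := @Bool.rec (fun _ => Nat) (Ptab_s_42_63 c) (Ptab_s_63_85 c) (Nat.ble 63 c)
noncomputable def Ptab_s_0_85 (c : Nat) : Nat := @Bool.rec (fun _ => Nat) (Ptab_s_0_42 c) (Ptab_s_42_85 c) (Nat.ble 42 c)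
noncomputable def Ptab_s_85_87 (c : Nat) : Nat := @Bool.rec (fun _ => Nat) (Ptab_85) (Ptab_86) (Nat.ble 86 c)
noncomputable def Ptab_s_88_90 (c : Nat) : Nat := @Bool.rec (fun _ => Nat) (Ptab_88) (Ptab_89) (Nat.ble 89 c)
noncomputable def Ptab_s_87_90 (c : Nat) : Nat := @Bool.rec (fun _ => Nat) (Ptab_87) (Ptab_s_88_90 c) (Nat.ble 88 c)
noncomputable def Ptab_s_85_90 (c : Nat) : Nat := @Bool.rec (fun _ => Nat) (Ptab_s_85_87 c) (Ptab_s_87_90 c) (Nat.ble 87 c)
noncomputable def Ptab_s_90_92 (c : Nat) : Nat := @Bool.rec (fun _ => Nat) (Ptab_90) (Ptab_91) (Nat.ble 91 c)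
noncomputable def Ptab_s_93_95 (c : Nat) : Nat := @Bool.rec (fun _ => Nat) (Ptab_93) (Ptab_94) (Nat.ble 94 c)
noncomputable def Ptab_s_92_95 (c : Nat) : Nat := @Bool.rec (fun _ => Nat) (Ptab_92) (Ptab_s_93_95 c) (Nat.ble 93 c)
noncomputable def Ptab_s_90_95 (c : Nat) : Nat := @Bool.rec (fun _ => Nat) (Ptab_s_90_92 c) (Ptab_s_92_95 c) (Nat.ble 92 c)
noncomputable def Ptab_s_85_95 (c : Nat) : Nat := @Bool.rec (fun _ => Nat) (Ptab_s_85_90 c) (Ptab_s_90_95 c) (Nat.ble 90 c)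
noncomputable def Ptab_s_95_97 (c : Nat) : Nat := @Bool.rec (fun _ => Nat) (Ptab_95) (Ptab_96) (Nat.ble 96 c)
noncomputable def Ptab_s_98_100 (c : Nat) : Nat := @Bool.rec (fun _ => Nat) (Ptab_98) (Ptab_99) (Nat.ble 99 c)
noncomputable def Ptab_s_97_100 (c : Nat) : Nat := @Bool.rec (fun _ => Nat) (Ptab_97) (Ptab_s_98_100 c) (Nat.ble 98 c)
noncomputable def Ptab_s_95_100 (c : Nat) : Nat := @Bool.rec (fun _ => Nat) (Ptab_s_95_97 c) (Ptab_s_97_100 c) (Nat.ble 97 c)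
noncomputable def Ptab_s_101_103 (c : Nat) : Nat := @Bool.rec (fun _ => Nat) (Ptab_101) (Ptab_102) (Nat.ble 102 c)
noncomputable def Ptab_s_100_103 (c : Nat) : Nat := @Bool.rec (fun _ => Nat) (Ptab_100) (Ptab_s_101_103 c) (Nat.ble 101 c)
noncomputable def Ptab_s_104_106 (c : Nat) : Nat := @Bool.rec (fun _ => Nat) (Ptab_104) (Ptab_105) (Nat.ble 105 c)
noncomputable def Ptab_s_103_106 (c : Nat) : Nat := @Bool.rec (fun _ => Nat) (Ptab_103) (Ptab_s_104_106 c) (Nat.ble 104 c)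
noncomputable def Ptab_s_100_106 (c : Nat) : Nat := @Bool.rec (fun _ => Nat) (Ptab_s_100_103 c) (Ptab_s_103_106 c) (Nat.ble 103 c)
noncomputable def Ptab_s_95_106 (c : Nat) : Nat := @Bool.rec (fun _ => Nat) (Ptab_s_95_100 c) (Ptab_s_100_106 c) (Nat.ble 100 c)
noncomputable def Ptab_s_85_106 (c : Nat) : Nat := @Bool.rec (fun _ => Nat) (Ptab_s_85_95 c) (Ptab_s_95_106 c) (Nat.ble 95 c)
noncomputable def Ptab_s_106_108 (c : Nat) : Nat := @Bool.rec (fun _ => Nat) (Ptab_106) (Ptab_107) (Nat.ble 107 c)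
noncomputable def Ptab_s_109_111 (c : Nat) : Nat := @Bool.rec (fun _ => Nat) (Ptab_109) (Ptab_110) (Nat.ble 110 c)
noncomputable def Ptab_s_108_111 (c : Nat) : Nat := @Bool.rec (fun _ => Nat) (Ptab_108) (Ptab_s_109_111 c) (Nat.ble 109 c)
noncomputable def Ptab_s_106_111 (c : Nat) : Nat := @Bool.rec (fun _ => Nat) (Ptab_s_106_108 c) (Ptab_s_108_111 c) (Nat.ble 108 c)
noncomputable def Ptab_s_111_113 (c : Nat) : Nat := @Bool.rec (fun _ => Nat) (Ptab_111) (Ptab_112) (Nat.ble 112 c)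
noncomputable def Ptab_s_114_116 (c : Nat) : Nat := @Bool.rec (fun _ => Nat) (Ptab_114) (Ptab_115) (Nat.ble 115 c)
noncomputable def Ptab_s_113_116 (c : Nat) : Nat := @Bool.rec (fun _ => Nat) (Ptab_113) (Ptab_s_114_116 c) (Nat.ble 114 c)
noncomputable def Ptab_s_111_116 (c : Nat) : Nat := @Bool.rec (fun _ => Nat) (Ptab_s_111_113 c) (Ptab_s_113_116 c) (Nat.ble 113 c)
noncomputable def Ptab_s_106_116 (c : Nat) : Nat := @Bool.rec (fun _ => Nat) (Ptab_s_106_111 c) (Ptab_s_111_116 c) (Nat.ble 111 c)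
noncomputable def Ptab_s_116_118 (c : Nat) : Nat := @Bool.rec (fun _ => Nat) (Ptab_116) (Ptab_117) (Nat.ble 117 c)
noncomputable def Ptab_s_119_121 (c : Nat) : Nat := @Bool.rec (fun _ => Nat) (Ptab_119) (Ptab_120) (Nat.ble 120 c)
noncomputable def Ptab_s_118_121 (c : Nat) : Nat := @Bool.rec (fun _ => Nat) (Ptab_118) (Ptab_s_119_121 c) (Nat.ble 119 c)
noncomputable def Ptab_s_116_121 (c : Nat) : Nat := @Bool.rec (fun _ => Nat) (Ptab_s_116_118 c) (Ptab_s_118_121 c) (Nat.ble 118 c)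
noncomputable def Ptab_s_122_124 (c : Nat) : Nat := @Bool.rec (fun _ => Nat) (Ptab_122) (Ptab_123) (Nat.ble 123 c)
noncomputable def Ptab_s_121_124 (c : Nat) : Nat := @Bool.rec (fun _ => Nat) (Ptab_121) (Ptab_s_122_124 c) (Nat.ble 122 c)
noncomputable def Ptab_s_125_127 (c : Nat) : Nat := @Bool.rec (fun _ => Nat) (Ptab_125) (Ptab_126) (Nat.ble 126 c)
noncomputable def Ptab_s_124_127 (c : Nat) : Nat := @Bool.rec (fun _ => Nat) (Ptab_124) (Ptab_s_125_127 c) (Nat.ble 125 c)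
noncomputable def Ptab_s_121_127 (c : Nat) : Nat := @Bool.rec (fun _ => Nat) (Ptab_s_121_124 c) (Ptab_s_124_127 c) (Nat.ble 124 c)
noncomputable def Ptab_s_116_127 (c : Nat) : Nat := @Bool.rec (fun _ => Nat) (Ptab_s_116_121 c) (Ptab_s_121_127 c) (Nat.ble 121 c)
noncomputable def Ptab_s_106_127 (c : Nat) : Nat := @Bool.rec (fun _ => Nat) (Ptab_s_106_116 c) (Ptab_s_116_127 c) (Nat.ble 116 c)
noncomputable def Ptab_s_85_127 (c : Nat) : Nat := @Bool.rec (fun _ => Nat) (Ptab_s_85_106 c) (Ptab_s_106_127 c) (Nat.ble 106 c)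
noncomputable def Ptab_s_127_129 (c : Nat) : Nat := @Bool.rec (fun _ => Nat) (Ptab_127) (Ptab_128) (Nat.ble 128 c)
noncomputable def Ptab_s_130_132 (c : Nat) : Nat := @Bool.rec (fun _ => Nat) (Ptab_130) (Ptab_131) (Nat.ble 131 c)
noncomputable def Ptab_s_129_132 (c : Nat) : Nat := @Bool.rec (fun _ => Nat) (Ptab_129) (Ptab_s_130_132 c) (Nat.ble 130 c)
noncomputable def Ptab_s_127_132 (c : Nat) : Nat := @Bool.rec (fun _ => Nat) (Ptab_s_127_129 c) (Ptab_s_129_132 c) (Nat.ble 129 c)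
noncomputable def Ptab_s_132_134 (c : Nat) : Nat := @Bool.rec (fun _ => Nat) (Ptab_132) (Ptab_133) (Nat.ble 133 c)
noncomputable def Ptab_s_135_137 (c : Nat) : Nat := @Bool.rec (fun _ => Nat) (Ptab_135) (Ptab_136) (Nat.ble 136 c)
noncomputable def Ptab_s_134_137 (c : Nat) : Nat := @Bool.rec (fun _ => Nat) (Ptab_134) (Ptab_s_135_137 c) (Nat.ble 135 c)
noncomputable def Ptab_s_132_137 (c : Nat) : Nat := @Bool.rec (fun _ => Nat) (Ptab_s_132_134 c) (Ptab_s_134_137 c) (Nat.ble 134 c)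
noncomputable def Ptab_s_127_137 (c : Nat) : Nat := @Bool.rec (fun _ => Nat) (Ptab_s_127_132 c) (Ptab_s_132_137 c) (Nat.ble 132 c)
noncomputable def Ptab_s_137_139 (c : Nat) : Nat := @Bool.rec (fun _ => Nat) (Ptab_137) (Ptab_138) (Nat.ble 138 c)
noncomputable def Ptab_s_140_142 (c : Nat) : Nat := @Bool.rec (fun _ => Nat) (Ptab_140) (Ptab_141) (Nat.ble 141 c)
noncomputable def Ptab_s_139_142 (c : Nat) : Nat := @Bool.rec (fun _ => Nat) (Ptab_139) (Ptab_s_140_142 c) (Nat.ble 140 c)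
noncomputable def Ptab_s_137_142 (c : Nat) : Nat := @Bool.rec (fun _ => Nat) (Ptab_s_137_139 c) (Ptab_s_139_142 c) (Nat.ble 139 c)
noncomputable def Ptab_s_143_145 (c : Nat) : Nat := @Bool.rec (fun _ => Nat) (Ptab_143) (Ptab_144) (Nat.ble 144 c)
noncomputable def Ptab_s_142_145 (c : Nat) : Nat := @Bool.rec (fun _ => Nat) (Ptab_142) (Ptab_s_143_145 c) (Nat.ble 143 c)
noncomputable def Ptab_s_146_148 (c : Nat) : Nat := @Bool.rec (fun _ => Nat) (Ptab_146) (Ptab_147) (Nat.ble 147 c)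
noncomputable def Ptab_s_145_148 (c : Nat) : Nat := @Bool.rec (fun _ => Nat) (Ptab_145) (Ptab_s_146_148 c) (Nat.ble 146 c)
noncomputable def Ptab_s_142_148 (c : Nat) : Nat := @Bool.rec (fun _ => Nat) (Ptab_s_142_145 c) (Ptab_s_145_148 c) (Nat.ble 145 c)
noncomputable def Ptab_s_137_148 (c : Nat) : Nat := @Bool.rec (fun _ => Nat) (Ptab_s_137_142 c) (Ptab_s_142_148 c) (Nat.ble 142 c)
noncomputable def Ptab_s_127_148 (c : Nat) : Nat := @Bool.rec (fun _ => Nat) (Ptab_s_127_137 c) (Ptab_s_137_148 c) (Nat.ble 137 c)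
noncomputable def Ptab_s_148_150 (c : Nat) : Nat := @Bool.rec (fun _ => Nat) (Ptab_148) (Ptab_149) (Nat.ble 149 c)
noncomputable def Ptab_s_151_153 (c : Nat) : Nat := @Bool.rec (fun _ => Nat) (Ptab_151) (Ptab_152) (Nat.ble 152 c)
noncomputable def Ptab_s_150_153 (c : Nat) : Nat := @Bool.rec (fun _ => Nat) (Ptab_150) (Ptab_s_151_153 c) (Nat.ble 151 c)
noncomputable def Ptab_s_148_153 (c : Nat) : Nat := @Bool.rec (fun _ => Nat) (Ptab_s_148_150 c) (Ptab_s_150_153 c) (Nat.ble 150 c)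
noncomputable def Ptab_s_154_156 (c : Nat) : Nat := @Bool.rec (fun _ => Nat) (Ptab_154) (Ptab_155) (Nat.ble 155 c)
noncomputable def Ptab_s_153_156 (c : Nat) : Nat := @Bool.rec (fun _ => Nat) (Ptab_153) (Ptab_s_154_156 c) (Nat.ble 154 c)
noncomputable def Ptab_s_157_159 (c : Nat) : Nat := @Bool.rec (fun _ => Nat) (Ptab_157) (Ptab_158) (Nat.ble 158 c)
noncomputable def Ptab_s_156_159 (c : Nat) : Nat := @Bool.rec (fun _ => Nat) (Ptab_156) (Ptab_s_157_159 c) (Nat.ble 157 c)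
noncomputable def Ptab_s_153_159 (c : Nat) : Nat := @Bool.rec (fun _ => Nat) (Ptab_s_153_156 c) (Ptab_s_156_159 c) (Nat.ble 156 c)
noncomputable def Ptab_s_148_159 (c : Nat) : Nat := @Bool.rec (fun _ => Nat) (Ptab_s_148_153 c) (Ptab_s_153_159 c) (Nat.ble 153 c)
noncomputable def Ptab_s_159_161 (c : Nat) : Nat := @Bool.rec (fun _ => Nat) (Ptab_159) (Ptab_160) (Nat.ble 160 c)
noncomputable def Ptab_s_162_164 (c : Nat) : Nat := @Bool.rec (fun _ => Nat) (Ptab_162) (Ptab_163) (Nat.ble 163 c)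
noncomputable def Ptab_s_161_164 (c : Nat) : Nat := @Bool.rec (fun _ => Nat) (Ptab_161) (Ptab_s_162_164 c) (Nat.ble 162 c)
noncomputable def Ptab_s_159_164 (c : Nat) : Nat := @Bool.rec (fun _ => Nat) (Ptab_s_159_161 c) (Ptab_s_161_164 c) (Nat.ble 161 c)
noncomputable def Ptab_s_165_167 (c : Nat) : Nat := @Bool.rec (fun _ => Nat) (Ptab_165) (Ptab_166) (Nat.ble 166 c)
noncomputable def Ptab_s_164_167 (c : Nat) : Nat := @Bool.rec (fun _ => Nat) (Ptab_164) (Ptab_s_165_167 c) (Nat.ble 165 c)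
noncomputable def Ptab_s_168_170 (c : Nat) : Nat := @Bool.rec (fun _ => Nat) (Ptab_168) (Ptab_169) (Nat.ble 169 c)
noncomputable def Ptab_s_167_170 (c : Nat) : Nat := @Bool.rec (fun _ => Nat) (Ptab_167) (Ptab_s_168_170 c) (Nat.ble 168 c)
noncomputable def Ptab_s_164_170 (c : Nat) : Nat := @Bool.rec (fun _ => Nat) (Ptab_s_164_167 c) (Ptab_s_167_170 c) (Nat.ble 167 c)
noncomputable def Ptab_s_159_170 (c : Nat) : Nat := @Bool.rec (fun _ => Nat) (Ptab_s_159_164 c) (Ptab_s_164_170 c) (Nat.ble 164 c)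
noncomputable def Ptab_s_148_170 (c : Nat) : Nat := @Bool.rec (fun _ => Nat) (Ptab_s_148_159 c) (Ptab_s_159_170 c) (Nat.ble 159 c)
noncomputable def Ptab_s_127_170 (c : Nat) : Nat := @Bool.rec (fun _ => Nat) (Ptab_s_127_148 c) (Ptab_s_148_170 c) (Nat.ble 148 c)
noncomputable def Ptab_s_85_170 (c : Nat) : Nat := @Bool.rec (fun _ => Nat) (Ptab_s_85_127 c) (Ptab_s_127_170 c) (Nat.ble 127 c)
noncomputable def Ptab_s_0_170 (c : Nat) : Nat := @Bool.rec (fun _ => Nat) (Ptab_s_0_85 c) (Ptab_s_85_170 c) (Nat.ble 85 c)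
noncomputable def Ptab_s_170_172 (c : Nat) : Nat := @Bool.rec (fun _ => Nat) (Ptab_170) (Ptab_171) (Nat.ble 171 c)
noncomputable def Ptab_s_173_175 (c : Nat) : Nat := @Bool.rec (fun _ => Nat) (Ptab_173) (Ptab_174) (Nat.ble 174 c)
noncomputable def Ptab_s_172_175 (c : Nat) : Nat := @Bool.rec (fun _ => Nat) (Ptab_172) (Ptab_s_173_175 c) (Nat.ble 173 c)
noncomputable def Ptab_s_170_175 (c : Nat) : Nat := @Bool.rec (fun _ => Nat) (Ptab_s_170_172 c) (Ptab_s_172_175 c) (Nat.ble 172 c)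
noncomputable def Ptab_s_175_177 (c : Nat) : Nat := @Bool.rec (fun _ => Nat) (Ptab_175) (Ptab_176) (Nat.ble 176 c)
noncomputable def Ptab_s_178_180 (c : Nat) : Nat := @Bool.rec (fun _ => Nat) (Ptab_178) (Ptab_179) (Nat.ble 179 c)
noncomputable def Ptab_s_177_180 (c : Nat) : Nat := @Bool.rec (fun _ => Nat) (Ptab_177) (Ptab_s_178_180 c) (Nat.ble 178 c)
noncomputable def Ptab_s_175_180 (c : Nat) : Nat := @Bool.rec (fun _ => Nat) (Ptab_s_175_177 c) (Ptab_s_177_180 c) (Nat.ble 177 c)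
noncomputable def Ptab_s_170_180 (c : Nat) : Nat := @Bool.rec (fun _ => Nat) (Ptab_s_170_175 c) (Ptab_s_175_180 c) (Nat.ble 175 c)
noncomputable def Ptab_s_180_182 (c : Nat) : Nat := @Bool.rec (fun _ => Nat) (Ptab_180) (Ptab_181) (Nat.ble 181 c)
noncomputable def Ptab_s_183_185 (c : Nat) : Nat := @Bool.rec (fun _ => Nat) (Ptab_183) (Ptab_184) (Nat.ble 184 c)
noncomputable def Ptab_s_182_185 (c : Nat) : Nat := @Bool.rec (fun _ => Nat) (Ptab_182) (Ptab_s_183_185 c) (Nat.ble 183 c)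
noncomputable def Ptab_s_180_185 (c : Nat) : Nat := @Bool.rec (fun _ => Nat) (Ptab_s_180_182 c) (Ptab_s_182_185 c) (Nat.ble 182 c)
noncomputable def Ptab_s_186_188 (c : Nat) : Nat := @Bool.rec (fun _ => Nat) (Ptab_186) (Ptab_187) (Nat.ble 187 c)
noncomputable def Ptab_s_185_188 (c : Nat) : Nat := @Bool.rec (fun _ => Nat) (Ptab_185) (Ptab_s_186_188 c) (Nat.ble 186 c)
noncomputable def Ptab_s_189_191 (c : Nat) : Nat := @Bool.rec (fun _ => Nat) (Ptab_189) (Ptab_190) (Nat.ble 190 c)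
noncomputable def Ptab_s_188_191 (c : Nat) : Nat := @Bool.rec (fun _ => Nat) (Ptab_188) (Ptab_s_189_191 c) (Nat.ble 189 c)
noncomputable def Ptab_s_185_191 (c : Nat) : Nat := @Bool.rec (fun _ => Nat) (Ptab_s_185_188 c) (Ptab_s_188_191 c) (Nat.ble 188 c)
noncomputable def Ptab_s_180_191 (c : Nat) : Nat := @Bool.rec (fun _ => Nat) (Ptab_s_180_185 c) (Ptab_s_185_191 c) (Nat.ble 185 c)
noncomputable def Ptab_s_170_191 (c : Nat) : Nat := @Bool.rec (fun _ => Nat) (Ptab_s_170_180 c) (Ptab_s_180_191 c) (Nat.ble 180 c)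
noncomputable def Ptab_s_191_193 (c : Nat) : Nat := @Bool.rec (fun _ => Nat) (Ptab_191) (Ptab_192) (Nat.ble 192 c)
noncomputable def Ptab_s_194_196 (c : Nat) : Nat := @Bool.rec (fun _ => Nat) (Ptab_194) (Ptab_195) (Nat.ble 195 c)
noncomputable def Ptab_s_193_196 (c : Nat) : Nat := @Bool.rec (fun _ => Nat) (Ptab_193) (Ptab_s_194_196 c) (Nat.ble 194 c)
noncomputable def Ptab_s_191_196 (c : Nat) : Nat := @Bool.rec (fun _ => Nat) (Ptab_s_191_193 c) (Ptab_s_193_196 c) (Nat.ble 193 c)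
noncomputable def Ptab_s_196_198 (c : Nat) : Nat := @Bool.rec (fun _ => Nat) (Ptab_196) (Ptab_197) (Nat.ble 197 c)
noncomputable def Ptab_s_199_201 (c : Nat) : Nat := @Bool.rec (fun _ => Nat) (Ptab_199) (Ptab_200) (Nat.ble 200 c)
noncomputable def Ptab_s_198_201 (c : Nat) : Nat := @Bool.rec (fun _ => Nat) (Ptab_198) (Ptab_s_199_201 c) (Nat.ble 199 c)
noncomputable def Ptab_s_196_201 (c : Nat) : Nat := @Bool.rec (fun _ => Nat) (Ptab_s_196_198 c) (Ptab_s_198_201 c) (Nat.ble 198 c)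
noncomputable def Ptab_s_191_201 (c : Nat) : Nat := @Bool.rec (fun _ => Nat) (Ptab_s_191_196 c) (Ptab_s_196_201 c) (Nat.ble 196 c)
noncomputable def Ptab_s_201_203 (c : Nat) : Nat := @Bool.rec (fun _ => Nat) (Ptab_201) (Ptab_202) (Nat.ble 202 c)
noncomputable def Ptab_s_204_206 (c : Nat) : Nat := @Bool.rec (fun _ => Nat) (Ptab_204) (Ptab_205) (Nat.ble 205 c)
noncomputable def Ptab_s_203_206 (c : Nat) : Nat := @Bool.rec (fun _ => Nat) (Ptab_203) (Ptab_s_204_206 c) (Nat.ble 204 c)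
noncomputable def Ptab_s_201_206 (c : Nat) : Nat := @Bool.rec (fun _ => Nat) (Ptab_s_201_203 c) (Ptab_s_203_206 c) (Nat.ble 203 c)
noncomputable def Ptab_s_207_209 (c : Nat) : Nat := @Bool.rec (fun _ => Nat) (Ptab_207) (Ptab_208) (Nat.ble 208 c)
noncomputable def Ptab_s_206_209 (c : Nat) : Nat := @Bool.rec (fun _ => Nat) (Ptab_206) (Ptab_s_207_209 c) (Nat.ble 207 c)
noncomputable def Ptab_s_210_212 (c : Nat) : Nat := @Bool.rec (fun _ => Nat) (Ptab_210) (Ptab_211) (Nat.ble 211 c)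
noncomputable def Ptab_s_209_212 (c : Nat) : Nat := @Bool.rec (fun _ => Nat) (Ptab_209) (Ptab_s_210_212 c) (Nat.ble 210 c)
noncomputable def Ptab_s_206_212 (c : Nat) : Nat := @Bool.rec (fun _ => Nat) (Ptab_s_206_209 c) (Ptab_s_209_212 c) (Nat.ble 209 c)
noncomputable def Ptab_s_201_212 (c : Nat) : Nat := @Bool.rec (fun _ => Nat) (Ptab_s_201_206 c) (Ptab_s_206_212 c) (Nat.ble 206 c)
noncomputable def Ptab_s_191_212 (c : Nat) : Nat := @Bool.rec (fun _ => Nat) (Ptab_s_191_201 c) (Ptab_s_201_212 c) (Nat.ble 201 c)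
noncomputable def Ptab_s_170_212 (c : Nat) : Nat := @Bool.rec (fun _ => Nat) (Ptab_s_170_191 c) (Ptab_s_191_212 c) (Nat.ble 191 c)
noncomputable def Ptab_s_212_214 (c : Nat) : Nat := @Bool.rec (fun _ => Nat) (Ptab_212) (Ptab_213) (Nat.ble 213 c)
noncomputable def Ptab_s_215_217 (c : Nat) : Nat := @Bool.rec (fun _ => Nat) (Ptab_215) (Ptab_216) (Nat.ble 216 c)
noncomputable def Ptab_s_214_217 (c : Nat) : Nat := @Bool.rec (fun _ => Nat) (Ptab_214) (Ptab_s_215_217 c) (Nat.ble 215 c)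
noncomputable def Ptab_s_212_217 (c : Nat) : Nat := @Bool.rec (fun _ => Nat) (Ptab_s_212_214 c) (Ptab_s_214_217 c) (Nat.ble 214 c)
noncomputable def Ptab_s_217_219 (c : Nat) : Nat := @Bool.rec (fun _ => Nat) (Ptab_217) (Ptab_218) (Nat.ble 218 c)
noncomputable def Ptab_s_220_222 (c : Nat) : Nat := @Bool.rec (fun _ => Nat) (Ptab_220) (Ptab_221) (Nat.ble 221 c)
noncomputable def Ptab_s_219_222 (c : Nat) : Nat := @Bool.rec (fun _ => Nat) (Ptab_219) (Ptab_s_220_222 c) (Nat.ble 220 c)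
noncomputable def Ptab_s_217_222 (c : Nat) : Nat := @Bool.rec (fun _ => Nat) (Ptab_s_217_219 c) (Ptab_s_219_222 c) (Nat.ble 219 c)
noncomputable def Ptab_s_212_222 (c : Nat) : Nat := @Bool.rec (fun _ => Nat) (Ptab_s_212_217 c) (Ptab_s_217_222 c) (Nat.ble 217 c)
noncomputable def Ptab_s_222_224 (c : Nat) : Nat := @Bool.rec (fun _ => Nat) (Ptab_222) (Ptab_223) (Nat.ble 223 c)
noncomputable def Ptab_s_225_227 (c : Nat) : Nat := @Bool.rec (fun _ => Nat) (Ptab_225) (Ptab_226) (Nat.ble 226 c)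
noncomputable def Ptab_s_224_227 (c : Nat) : Nat := @Bool.rec (fun _ => Nat) (Ptab_224) (Ptab_s_225_227 c) (Nat.ble 225 c)
noncomputable def Ptab_s_222_227 (c : Nat) : Nat := @Bool.rec (fun _ => Nat) (Ptab_s_222_224 c) (Ptab_s_224_227 c) (Nat.ble 224 c)
noncomputable def Ptab_s_228_230 (c : Nat) : Nat := @Bool.rec (fun _ => Nat) (Ptab_228) (Ptab_229) (Nat.ble 229 c)
noncomputable def Ptab_s_227_230 (c : Nat) : Nat := @Bool.rec (fun _ => Nat) (Ptab_227) (Ptab_s_228_230 c) (Nat.ble 228 c)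
noncomputable def Ptab_s_231_233 (c : Nat) : Nat := @Bool.rec (fun _ => Nat) (Ptab_231) (Ptab_232) (Nat.ble 232 c)
noncomputable def Ptab_s_230_233 (c : Nat) : Nat := @Bool.rec (fun _ => Nat) (Ptab_230) (Ptab_s_231_233 c) (Nat.ble 231 c)
noncomputable def Ptab_s_227_233 (c : Nat) : Nat := @Bool.rec (fun _ => Nat) (Ptab_s_227_230 c) (Ptab_s_230_233 c) (Nat.ble 230 c)
noncomputable def Ptab_s_222_233 (c : Nat) : Nat := @Bool.rec (fun _ => Nat) (Ptab_s_222_227 c) (Ptab_s_227_233 c) (Nat.ble 227 c)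
noncomputable def Ptab_s_212_233 (c : Nat) : Nat := @Bool.rec (fun _ => Nat) (Ptab_s_212_222 c) (Ptab_s_222_233 c) (Nat.ble 222 c)
noncomputable def Ptab_s_233_235 (c : Nat) : Nat := @Bool.rec (fun _ => Nat) (Ptab_233) (Ptab_234) (Nat.ble 234 c)
noncomputable def Ptab_s_236_238 (c : Nat) : Nat := @Bool.rec (fun _ => Nat) (Ptab_236) (Ptab_237) (Nat.ble 237 c)
noncomputable def Ptab_s_235_238 (c : Nat) : Nat := @Bool.rec (fun _ => Nat) (Ptab_235) (Ptab_s_236_238 c) (Nat.ble 236 c)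
noncomputable def Ptab_s_233_238 (c : Nat) : Nat := @Bool.rec (fun _ => Nat) (Ptab_s_233_235 c) (Ptab_s_235_238 c) (Nat.ble 235 c)
noncomputable def Ptab_s_239_241 (c : Nat) : Nat := @Bool.rec (fun _ => Nat) (Ptab_239) (Ptab_240) (Nat.ble 240 c)
noncomputable def Ptab_s_238_241 (c : Nat) : Nat := @Bool.rec (fun _ => Nat) (Ptab_238) (Ptab_s_239_241 c) (Nat.ble 239 c)
noncomputable def Ptab_s_242_244 (c : Nat) : Nat := @Bool.rec (fun _ => Nat) (Ptab_242) (Ptab_243) (Nat.ble 243 c)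
noncomputable def Ptab_s_241_244 (c : Nat) : Nat := @Bool.rec (fun _ => Nat) (Ptab_241) (Ptab_s_242_244 c) (Nat.ble 242 c)
noncomputable def Ptab_s_238_244 (c : Nat) : Nat := @Bool.rec (fun _ => Nat) (Ptab_s_238_241 c) (Ptab_s_241_244 c) (Nat.ble 241 c)
noncomputable def Ptab_s_233_244 (c : Nat) : Nat := @Bool.rec (fun _ => Nat) (Ptab_s_233_238 c) (Ptab_s_238_244 c) (Nat.ble 238 c)
noncomputable def Ptab_s_244_246 (c : Nat) : Nat := @Bool.rec (fun _ => Nat) (Ptab_244) (Ptab_245) (Nat.ble 245 c)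
noncomputable def Ptab_s_247_249 (c : Nat) : Nat := @Bool.rec (fun _ => Nat) (Ptab_247) (Ptab_248) (Nat.ble 248 c)
noncomputable def Ptab_s_246_249 (c : Nat) : Nat := @Bool.rec (fun _ => Nat) (Ptab_246) (Ptab_s_247_249 c) (Nat.ble 247 c)
noncomputable def Ptab_s_244_249 (c : Nat) : Nat := @Bool.rec (fun _ => Nat) (Ptab_s_244_246 c) (Ptab_s_246_249 c) (Nat.ble 246 c)
noncomputable def Ptab_s_250_252 (c : Nat) : Nat := @Bool.rec (fun _ => Nat) (Ptab_250) (Ptab_251) (Nat.ble 251 c)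
noncomputable def Ptab_s_249_252 (c : Nat) : Nat := @Bool.rec (fun _ => Nat) (Ptab_249) (Ptab_s_250_252 c) (Nat.ble 250 c)
noncomputable def Ptab_s_253_255 (c : Nat) : Nat := @Bool.rec (fun _ => Nat) (Ptab_253) (Ptab_254) (Nat.ble 254 c)
noncomputable def Ptab_s_252_255 (c : Nat) : Nat := @Bool.rec (fun _ => Nat) (Ptab_252) (Ptab_s_253_255 c) (Nat.ble 253 c)
noncomputable def Ptab_s_249_255 (c : Nat) : Nat := @Bool.rec (fun _ => Nat) (Ptab_s_249_252 c) (Ptab_s_252_255 c) (Nat.ble 252 c)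
noncomputable def Ptab_s_244_255 (c : Nat) : Nat := @Bool.rec (fun _ => Nat) (Ptab_s_244_249 c) (Ptab_s_249_255 c) (Nat.ble 249 c)
noncomputable def Ptab_s_233_255 (c : Nat) : Nat := @Bool.rec (fun _ => Nat) (Ptab_s_233_244 c) (Ptab_s_244_255 c) (Nat.ble 244 c)
noncomputable def Ptab_s_212_255 (c : Nat) : Nat := @Bool.rec (fun _ => Nat) (Ptab_s_212_233 c) (Ptab_s_233_255 c) (Nat.ble 233 c)
noncomputable def Ptab_s_170_255 (c : Nat) : Nat := @Bool.rec (fun _ => Nat) (Ptab_s_170_212 c) (Ptab_s_212_255 c) (Nat.ble 212 c)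
noncomputable def Ptab_s_255_257 (c : Nat) : Nat := @Bool.rec (fun _ => Nat) (Ptab_255) (Ptab_256) (Nat.ble 256 c)
noncomputable def Ptab_s_258_260 (c : Nat) : Nat := @Bool.rec (fun _ => Nat) (Ptab_258) (Ptab_259) (Nat.ble 259 c)
noncomputable def Ptab_s_257_260 (c : Nat) : Nat := @Bool.rec (fun _ => Nat) (Ptab_257) (Ptab_s_258_260 c) (Nat.ble 258 c)
noncomputable def Ptab_s_255_260 (c : Nat) : Nat := @Bool.rec (fun _ => Nat) (Ptab_s_255_257 c) (Ptab_s_257_260 c) (Nat.ble 257 c)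
noncomputable def Ptab_s_260_262 (c : Nat) : Nat := @Bool.rec (fun _ => Nat) (Ptab_260) (Ptab_261) (Nat.ble 261 c)
noncomputable def Ptab_s_263_265 (c : Nat) : Nat := @Bool.rec (fun _ => Nat) (Ptab_263) (Ptab_264) (Nat.ble 264 c)
noncomputable def Ptab_s_262_265 (c : Nat) : Nat := @Bool.rec (fun _ => Nat) (Ptab_262) (Ptab_s_263_265 c) (Nat.ble 263 c)
noncomputable def Ptab_s_260_265 (c : Nat) : Nat := @Bool.rec (fun _ => Nat) (Ptab_s_260_262 c) (Ptab_s_262_265 c) (Nat.ble 262 c)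
noncomputable def Ptab_s_255_265 (c : Nat) : Nat := @Bool.rec (fun _ => Nat) (Ptab_s_255_260 c) (Ptab_s_260_265 c) (Nat.ble 260 c)
noncomputable def Ptab_s_265_267 (c : Nat) : Nat := @Bool.rec (fun _ => Nat) (Ptab_265) (Ptab_266) (Nat.ble 266 c)
noncomputable def Ptab_s_268_270 (c : Nat) : Nat := @Bool.rec (fun _ => Nat) (Ptab_268) (Ptab_269) (Nat.ble 269 c)
noncomputable def Ptab_s_267_270 (c : Nat) : Nat := @Bool.rec (fun _ => Nat) (Ptab_267) (Ptab_s_268_270 c) (Nat.ble 268 c)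
noncomputable def Ptab_s_265_270 (c : Nat) : Nat := @Bool.rec (fun _ => Nat) (Ptab_s_265_267 c) (Ptab_s_267_270 c) (Nat.ble 267 c)
noncomputable def Ptab_s_271_273 (c : Nat) : Nat := @Bool.rec (fun _ => Nat) (Ptab_271) (Ptab_272) (Nat.ble 272 c)
noncomputable def Ptab_s_270_273 (c : Nat) : Nat := @Bool.rec (fun _ => Nat) (Ptab_270) (Ptab_s_271_273 c) (Nat.ble 271 c)
noncomputable def Ptab_s_274_276 (c : Nat) : Nat := @Bool.rec (fun _ => Nat) (Ptab_274) (Ptab_275) (Nat.ble 275 c)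
noncomputable def Ptab_s_273_276 (c : Nat) : Nat := @Bool.rec (fun _ => Nat) (Ptab_273) (Ptab_s_274_276 c) (Nat.ble 274 c)
noncomputable def Ptab_s_270_276 (c : Nat) : Nat := @Bool.rec (fun _ => Nat) (Ptab_s_270_273 c) (Ptab_s_273_276 c) (Nat.ble 273 c)
noncomputable def Ptab_s_265_276 (c : Nat) : Nat := @Bool.rec (fun _ => Nat) (Ptab_s_265_270 c) (Ptab_s_270_276 c) (Nat.ble 270 c)
noncomputable def Ptab_s_255_276 (c : Nat) : Nat := @Bool.rec (fun _ => Nat) (Ptab_s_255_265 c) (Ptab_s_265_276 c) (Nat.ble 265 c)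
noncomputable def Ptab_s_276_278 (c : Nat) : Nat := @Bool.rec (fun _ => Nat) (Ptab_276) (Ptab_277) (Nat.ble 277 c)
noncomputable def Ptab_s_279_281 (c : Nat) : Nat := @Bool.rec (fun _ => Nat) (Ptab_279) (Ptab_280) (Nat.ble 280 c)
noncomputable def Ptab_s_278_281 (c : Nat) : Nat := @Bool.rec (fun _ => Nat) (Ptab_278) (Ptab_s_279_281 c) (Nat.ble 279 c)
noncomputable def Ptab_s_276_281 (c : Nat) : Nat := @Bool.rec (fun _ => Nat) (Ptab_s_276_278 c) (Ptab_s_278_281 c) (Nat.ble 278 c)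
noncomputable def Ptab_s_281_283 (c : Nat) : Nat := @Bool.rec (fun _ => Nat) (Ptab_281) (Ptab_282) (Nat.ble 282 c)
noncomputable def Ptab_s_284_286 (c : Nat) : Nat := @Bool.rec (fun _ => Nat) (Ptab_284) (Ptab_285) (Nat.ble 285 c)
noncomputable def Ptab_s_283_286 (c : Nat) : Nat := @Bool.rec (fun _ => Nat) (Ptab_283) (Ptab_s_284_286 c) (Nat.ble 284 c)
noncomputable def Ptab_s_281_286 (c : Nat) : Nat := @Bool.rec (fun _ => Nat) (Ptab_s_281_283 c) (Ptab_s_283_286 c) (Nat.ble 283 c)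
noncomputable def Ptab_s_276_286 (c : Nat) : Nat := @Bool.rec (fun _ => Nat) (Ptab_s_276_281 c) (Ptab_s_281_286 c) (Nat.ble 281 c)
noncomputable def Ptab_s_286_288 (c : Nat) : Nat := @Bool.rec (fun _ => Nat) (Ptab_286) (Ptab_287) (Nat.ble 287 c)
noncomputable def Ptab_s_289_291 (c : Nat) : Nat := @Bool.rec (fun _ => Nat) (Ptab_289) (Ptab_290) (Nat.ble 290 c)
noncomputable def Ptab_s_288_291 (c : Nat) : Nat := @Bool.rec (fun _ => Nat) (Ptab_288) (Ptab_s_289_291 c) (Nat.ble 289 c)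
noncomputable def Ptab_s_286_291 (c : Nat) : Nat := @Bool.rec (fun _ => Nat) (Ptab_s_286_288 c) (Ptab_s_288_291 c) (Nat.ble 288 c)
noncomputable def Ptab_s_292_294 (c : Nat) : Nat := @Bool.rec (fun _ => Nat) (Ptab_292) (Ptab_293) (Nat.ble 293 c)
noncomputable def Ptab_s_291_294 (c : Nat) : Nat := @Bool.rec (fun _ => Nat) (Ptab_291) (Ptab_s_292_294 c) (Nat.ble 292 c)
noncomputable def Ptab_s_295_297 (c : Nat) : Nat := @Bool.rec (fun _ => Nat) (Ptab_295) (Ptab_296) (Nat.ble 296 c)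
noncomputable def Ptab_s_294_297 (c : Nat) : Nat := @Bool.rec (fun _ => Nat) (Ptab_294) (Ptab_s_295_297 c) (Nat.ble 295 c)
noncomputable def Ptab_s_291_297 (c : Nat) : Nat := @Bool.rec (fun _ => Nat) (Ptab_s_291_294 c) (Ptab_s_294_297 c) (Nat.ble 294 c)
noncomputable def Ptab_s_286_297 (c : Nat) : Nat := @Bool.rec (fun _ => Nat) (Ptab_s_286_291 c) (Ptab_s_291_297 c) (Nat.ble 291 c)
noncomputable def Ptab_s_276_297 (c : Nat) : Nat := @Bool.rec (fun _ => Nat) (Ptab_s_276_286 c) (Ptab_s_286_297 c) (Nat.ble 286 c)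
noncomputable def Ptab_s_255_297 (c : Nat) : Nat := @Bool.rec (fun _ => Nat) (Ptab_s_255_276 c) (Ptab_s_276_297 c) (Nat.ble 276 c)
noncomputable def Ptab_s_297_299 (c : Nat) : Nat := @Bool.rec (fun _ => Nat) (Ptab_297) (Ptab_298) (Nat.ble 298 c)
noncomputable def Ptab_s_300_302 (c : Nat) : Nat := @Bool.rec (fun _ => Nat) (Ptab_300) (Ptab_301) (Nat.ble 301 c)
noncomputable def Ptab_s_299_302 (c : Nat) : Nat := @Bool.rec (fun _ => Nat) (Ptab_299) (Ptab_s_300_302 c) (Nat.ble 300 c)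
noncomputable def Ptab_s_297_302 (c : Nat) : Nat := @Bool.rec (fun _ => Nat) (Ptab_s_297_299 c) (Ptab_s_299_302 c) (Nat.ble 299 c)
noncomputable def Ptab_s_302_304 (c : Nat) : Nat := @Bool.rec (fun _ => Nat) (Ptab_302) (Ptab_303) (Nat.ble 303 c)
noncomputable def Ptab_s_305_307 (c : Nat) : Nat := @Bool.rec (fun _ => Nat) (Ptab_305) (Ptab_306) (Nat.ble 306 c)
noncomputable def Ptab_s_304_307 (c : Nat) : Nat := @Bool.rec (fun _ => Nat) (Ptab_304) (Ptab_s_305_307 c) (Nat.ble 305 c)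
noncomputable def Ptab_s_302_307 (c : Nat) : Nat := @Bool.rec (fun _ => Nat) (Ptab_s_302_304 c) (Ptab_s_304_307 c) (Nat.ble 304 c)
noncomputable def Ptab_s_297_307 (c : Nat) : Nat := @Bool.rec (fun _ => Nat) (Ptab_s_297_302 c) (Ptab_s_302_307 c) (Nat.ble 302 c)
noncomputable def Ptab_s_307_309 (c : Nat) : Nat := @Bool.rec (fun _ => Nat) (Ptab_307) (Ptab_308) (Nat.ble 308 c)
noncomputable def Ptab_s_310_312 (c : Nat) : Nat := @Bool.rec (fun _ => Nat) (Ptab_310) (Ptab_311) (Nat.ble 311 c)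
noncomputable def Ptab_s_309_312 (c : Nat) : Nat := @Bool.rec (fun _ => Nat) (Ptab_309) (Ptab_s_310_312 c) (Nat.ble 310 c)
noncomputable def Ptab_s_307_312 (c : Nat) : Nat := @Bool.rec (fun _ => Nat) (Ptab_s_307_309 c) (Ptab_s_309_312 c) (Nat.ble 309 c)
noncomputable def Ptab_s_313_315 (c : Nat) : Nat := @Bool.rec (fun _ => Nat) (Ptab_313) (Ptab_314) (Nat.ble 314 c)
noncomputable def Ptab_s_312_315 (c : Nat) : Nat := @Bool.rec (fun _ => Nat) (Ptab_312) (Ptab_s_313_315 c) (Nat.ble 313 c)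
noncomputable def Ptab_s_316_318 (c : Nat) : Nat := @Bool.rec (fun _ => Nat) (Ptab_316) (Ptab_317) (Nat.ble 317 c)
noncomputable def Ptab_s_315_318 (c : Nat) : Nat := @Bool.rec (fun _ => Nat) (Ptab_315) (Ptab_s_316_318 c) (Nat.ble 316 c)
noncomputable def Ptab_s_312_318 (c : Nat) : Nat := @Bool.rec (fun _ => Nat) (Ptab_s_312_315 c) (Ptab_s_315_318 c) (Nat.ble 315 c)
noncomputable def Ptab_s_307_318 (c : Nat) : Nat := @Bool.rec (fun _ => Nat) (Ptab_s_307_312 c) (Ptab_s_312_318 c) (Nat.ble 312 c)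
noncomputable def Ptab_s_297_318 (c : Nat) : Nat := @Bool.rec (fun _ => Nat) (Ptab_s_297_307 c) (Ptab_s_307_318 c) (Nat.ble 307 c)
noncomputable def Ptab_s_318_320 (c : Nat) : Nat := @Bool.rec (fun _ => Nat) (Ptab_318) (Ptab_319) (Nat.ble 319 c)
noncomputable def Ptab_s_321_323 (c : Nat) : Nat := @Bool.rec (fun _ => Nat) (Ptab_321) (Ptab_322) (Nat.ble 322 c)
noncomputable def Ptab_s_320_323 (c : Nat) : Nat := @Bool.rec (fun _ => Nat) (Ptab_320) (Ptab_s_321_323 c) (Nat.ble 321 c)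
noncomputable def Ptab_s_318_323 (c : Nat) : Nat := @Bool.rec (fun _ => Nat) (Ptab_s_318_320 c) (Ptab_s_320_323 c) (Nat.ble 320 c)
noncomputable def Ptab_s_324_326 (c : Nat) : Nat := @Bool.rec (fun _ => Nat) (Ptab_324) (Ptab_325) (Nat.ble 325 c)
noncomputable def Ptab_s_323_326 (c : Nat) : Nat := @Bool.rec (fun _ => Nat) (Ptab_323) (Ptab_s_324_326 c) (Nat.ble 324 c)
noncomputable def Ptab_s_327_329 (c : Nat) : Nat := @Bool.rec (fun _ => Nat) (Ptab_327) (Ptab_328) (Nat.ble 328 c)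
noncomputable def Ptab_s_326_329 (c : Nat) : Nat := @Bool.rec (fun _ => Nat) (Ptab_326) (Ptab_s_327_329 c) (Nat.ble 327 c)
noncomputable def Ptab_s_323_329 (c : Nat) : Nat := @Bool.rec (fun _ => Nat) (Ptab_s_323_326 c) (Ptab_s_326_329 c) (Nat.ble 326 c)
noncomputable def Ptab_s_318_329 (c : Nat) : Nat := @Bool.rec (fun _ => Nat) (Ptab_s_318_323 c) (Ptab_s_323_329 c) (Nat.ble 323 c)
noncomputable def Ptab_s_329_331 (c : Nat) : Nat := @Bool.rec (fun _ => Nat) (Ptab_329) (Ptab_330) (Nat.ble 330 c)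
noncomputable def Ptab_s_332_334 (c : Nat) : Nat := @Bool.rec (fun _ => Nat) (Ptab_332) (Ptab_333) (Nat.ble 333 c)
noncomputable def Ptab_s_331_334 (c : Nat) : Nat := @Bool.rec (fun _ => Nat) (Ptab_331) (Ptab_s_332_334 c) (Nat.ble 332 c)
noncomputable def Ptab_s_329_334 (c : Nat) : Nat := @Bool.rec (fun _ => Nat) (Ptab_s_329_331 c) (Ptab_s_331_334 c) (Nat.ble 331 c)
noncomputable def Ptab_s_335_337 (c : Nat) : Nat := @Bool.rec (fun _ => Nat) (Ptab_335) (Ptab_336) (Nat.ble 336 c)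
noncomputable def Ptab_s_334_337 (c : Nat) : Nat := @Bool.rec (fun _ => Nat) (Ptab_334) (Ptab_s_335_337 c) (Nat.ble 335 c)
noncomputable def Ptab_s_338_340 (c : Nat) : Nat := @Bool.rec (fun _ => Nat) (Ptab_338) (Ptab_339) (Nat.ble 339 c)
noncomputable def Ptab_s_337_340 (c : Nat) : Nat := @Bool.rec (fun _ => Nat) (Ptab_337) (Ptab_s_338_340 c) (Nat.ble 338 c)
noncomputable def Ptab_s_334_340 (c : Nat) : Nat := @Bool.rec (fun _ => Nat) (Ptab_s_334_337 c) (Ptab_s_337_340 c) (Nat.ble 337 c)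
noncomputable def Ptab_s_329_340 (c : Nat) : Nat := @Bool.rec (fun _ => Nat) (Ptab_s_329_334 c) (Ptab_s_334_340 c) (Nat.ble 334 c)
noncomputable def Ptab_s_318_340 (c : Nat) : Nat := @Bool.rec (fun _ => Nat) (Ptab_s_318_329 c) (Ptab_s_329_340 c) (Nat.ble 329 c)
noncomputable def Ptab_s_297_340 (c : Nat) : Nat := @Bool.rec (fun _ => Nat) (Ptab_s_297_318 c) (Ptab_s_318_340 c) (Nat.ble 318 c)
noncomputable def Ptab_s_255_340 (c : Nat) : Nat := @Bool.rec (fun _ => Nat) (Ptab_s_255_297 c) (Ptab_s_297_340 c) (Nat.ble 297 c)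
noncomputable def Ptab_s_170_340 (c : Nat) : Nat := @Bool.rec (fun _ => Nat) (Ptab_s_170_255 c) (Ptab_s_255_340 c) (Nat.ble 255 c)
noncomputable def Ptab_s_0_340 (c : Nat) : Nat := @Bool.rec (fun _ => Nat) (Ptab_s_0_170 c) (Ptab_s_170_340 c) (Nat.ble 170 c)
noncomputable def Ptab_s_340_342 (c : Nat) : Nat := @Bool.rec (fun _ => Nat) (Ptab_340) (Ptab_341) (Nat.ble 341 c)
noncomputable def Ptab_s_343_345 (c : Nat) : Nat := @Bool.rec (fun _ => Nat) (Ptab_343) (Ptab_344) (Nat.ble 344 c)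
noncomputable def Ptab_s_342_345 (c : Nat) : Nat := @Bool.rec (fun _ => Nat) (Ptab_342) (Ptab_s_343_345 c) (Nat.ble 343 c)
noncomputable def Ptab_s_340_345 (c : Nat) : Nat := @Bool.rec (fun _ => Nat) (Ptab_s_340_342 c) (Ptab_s_342_345 c) (Nat.ble 342 c)
noncomputable def Ptab_s_345_347 (c : Nat) : Nat := @Bool.rec (fun _ => Nat) (Ptab_345) (Ptab_346) (Nat.ble 346 c)
noncomputable def Ptab_s_348_350 (c : Nat) : Nat := @Bool.rec (fun _ => Nat) (Ptab_348) (Ptab_349) (Nat.ble 349 c)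
noncomputable def Ptab_s_347_350 (c : Nat) : Nat := @Bool.rec (fun _ => Nat) (Ptab_347) (Ptab_s_348_350 c) (Nat.ble 348 c)
noncomputable def Ptab_s_345_350 (c : Nat) : Nat := @Bool.rec (fun _ => Nat) (Ptab_s_345_347 c) (Ptab_s_347_350 c) (Nat.ble 347 c)
noncomputable def Ptab_s_340_350 (c : Nat) : Nat := @Bool.rec (fun _ => Nat) (Ptab_s_340_345 c) (Ptab_s_345_350 c) (Nat.ble 345 c)
noncomputable def Ptab_s_350_352 (c : Nat) : Nat := @Bool.rec (fun _ => Nat) (Ptab_350) (Ptab_351) (Nat.ble 351 c)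
noncomputable def Ptab_s_353_355 (c : Nat) : Nat := @Bool.rec (fun _ => Nat) (Ptab_353) (Ptab_354) (Nat.ble 354 c)
noncomputable def Ptab_s_352_355 (c : Nat) : Nat := @Bool.rec (fun _ => Nat) (Ptab_352) (Ptab_s_353_355 c) (Nat.ble 353 c)
noncomputable def Ptab_s_350_355 (c : Nat) : Nat := @Bool.rec (fun _ => Nat) (Ptab_s_350_352 c) (Ptab_s_352_355 c) (Nat.ble 352 c)
noncomputable def Ptab_s_356_358 (c : Nat) : Nat := @Bool.rec (fun _ => Nat) (Ptab_356) (Ptab_357) (Nat.ble 357 c)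
noncomputable def Ptab_s_355_358 (c : Nat) : Nat := @Bool.rec (fun _ => Nat) (Ptab_355) (Ptab_s_356_358 c) (Nat.ble 356 c)
noncomputable def Ptab_s_359_361 (c : Nat) : Nat := @Bool.rec (fun _ => Nat) (Ptab_359) (Ptab_360) (Nat.ble 360 c)
noncomputable def Ptab_s_358_361 (c : Nat) : Nat := @Bool.rec (fun _ => Nat) (Ptab_358) (Ptab_s_359_361 c) (Nat.ble 359 c)
noncomputable def Ptab_s_355_361 (c : Nat) : Nat := @Bool.rec (fun _ => Nat) (Ptab_s_355_358 c) (Ptab_s_358_361 c) (Nat.ble 358 c)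
noncomputable def Ptab_s_350_361 (c : Nat) : Nat := @Bool.rec (fun _ => Nat) (Ptab_s_350_355 c) (Ptab_s_355_361 c) (Nat.ble 355 c)
noncomputable def Ptab_s_340_361 (c : Nat) : Nat := @Bool.rec (fun _ => Nat) (Ptab_s_340_350 c) (Ptab_s_350_361 c) (Nat.ble 350 c)
noncomputable def Ptab_s_361_363 (c : Nat) : Nat := @Bool.rec (fun _ => Nat) (Ptab_361) (Ptab_362) (Nat.ble 362 c)
noncomputable def Ptab_s_364_366 (c : Nat) : Nat := @Bool.rec (fun _ => Nat) (Ptab_364) (Ptab_365) (Nat.ble 365 c)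
noncomputable def Ptab_s_363_366 (c : Nat) : Nat := @Bool.rec (fun _ => Nat) (Ptab_363) (Ptab_s_364_366 c) (Nat.ble 364 c)
noncomputable def Ptab_s_361_366 (c : Nat) : Nat := @Bool.rec (fun _ => Nat) (Ptab_s_361_363 c) (Ptab_s_363_366 c) (Nat.ble 363 c)
noncomputable def Ptab_s_366_368 (c : Nat) : Nat := @Bool.rec (fun _ => Nat) (Ptab_366) (Ptab_367) (Nat.ble 367 c)
noncomputable def Ptab_s_369_371 (c : Nat) : Nat := @Bool.rec (fun _ => Nat) (Ptab_369) (Ptab_370) (Nat.ble 370 c)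
noncomputable def Ptab_s_368_371 (c : Nat) : Nat := @Bool.rec (fun _ => Nat) (Ptab_368) (Ptab_s_369_371 c) (Nat.ble 369 c)
noncomputable def Ptab_s_366_371 (c : Nat) : Nat := @Bool.rec (fun _ => Nat) (Ptab_s_366_368 c) (Ptab_s_368_371 c) (Nat.ble 368 c)
noncomputable def Ptab_s_361_371 (c : Nat) : Nat := @Bool.rec (fun _ => Nat) (Ptab_s_361_366 c) (Ptab_s_366_371 c) (Nat.ble 366 c)
noncomputable def Ptab_s_371_373 (c : Nat) : Nat := @Bool.rec (fun _ => Nat) (Ptab_371) (Ptab_372) (Nat.ble 372 c)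
noncomputable def Ptab_s_374_376 (c : Nat) : Nat := @Bool.rec (fun _ => Nat) (Ptab_374) (Ptab_375) (Nat.ble 375 c)
noncomputable def Ptab_s_373_376 (c : Nat) : Nat := @Bool.rec (fun _ => Nat) (Ptab_373) (Ptab_s_374_376 c) (Nat.ble 374 c)
noncomputable def Ptab_s_371_376 (c : Nat) : Nat := @Bool.rec (fun _ => Nat) (Ptab_s_371_373 c) (Ptab_s_373_376 c) (Nat.ble 373 c)
noncomputable def Ptab_s_377_379 (c : Nat) : Nat := @Bool.rec (fun _ => Nat) (Ptab_377) (Ptab_378) (Nat.ble 378 c)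
noncomputable def Ptab_s_376_379 (c : Nat) : Nat := @Bool.rec (fun _ => Nat) (Ptab_376) (Ptab_s_377_379 c) (Nat.ble 377 c)
noncomputable def Ptab_s_380_382 (c : Nat) : Nat := @Bool.rec (fun _ => Nat) (Ptab_380) (Ptab_381) (Nat.ble 381 c)
noncomputable def Ptab_s_379_382 (c : Nat) : Nat := @Bool.rec (fun _ => Nat) (Ptab_379) (Ptab_s_380_382 c) (Nat.ble 380 c)
noncomputable def Ptab_s_376_382 (c : Nat) : Nat := @Bool.rec (fun _ => Nat) (Ptab_s_376_379 c) (Ptab_s_379_382 c) (Nat.ble 379 c)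
noncomputable def Ptab_s_371_382 (c : Nat) : Nat := @Bool.rec (fun _ => Nat) (Ptab_s_371_376 c) (Ptab_s_376_382 c) (Nat.ble 376 c)
noncomputable def Ptab_s_361_382 (c : Nat) : Nat := @Bool.rec (fun _ => Nat) (Ptab_s_361_371 c) (Ptab_s_371_382 c) (Nat.ble 371 c)
noncomputable def Ptab_s_340_382 (c : Nat) : Nat := @Bool.rec (fun _ => Nat) (Ptab_s_340_361 c) (Ptab_s_361_382 c) (Nat.ble 361 c)
noncomputable def Ptab_s_382_384 (c : Nat) : Nat := @Bool.rec (fun _ => Nat) (Ptab_382) (Ptab_383) (Nat.ble 383 c)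
noncomputable def Ptab_s_385_387 (c : Nat) : Nat := @Bool.rec (fun _ => Nat) (Ptab_385) (Ptab_386) (Nat.ble 386 c)
noncomputable def Ptab_s_384_387 (c : Nat) : Nat := @Bool.rec (fun _ => Nat) (Ptab_384) (Ptab_s_385_387 c) (Nat.ble 385 c)
noncomputable def Ptab_s_382_387 (c : Nat) : Nat := @Bool.rec (fun _ => Nat) (Ptab_s_382_384 c) (Ptab_s_384_387 c) (Nat.ble 384 c)
noncomputable def Ptab_s_387_389 (c : Nat) : Nat := @Bool.rec (fun _ => Nat) (Ptab_387) (Ptab_388) (Nat.ble 388 c)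
noncomputable def Ptab_s_390_392 (c : Nat) : Nat := @Bool.rec (fun _ => Nat) (Ptab_390) (Ptab_391) (Nat.ble 391 c)
noncomputable def Ptab_s_389_392 (c : Nat) : Nat := @Bool.rec (fun _ => Nat) (Ptab_389) (Ptab_s_390_392 c) (Nat.ble 390 c)
noncomputable def Ptab_s_387_392 (c : Nat) : Nat := @Bool.rec (fun _ => Nat) (Ptab_s_387_389 c) (Ptab_s_389_392 c) (Nat.ble 389 c)
noncomputable def Ptab_s_382_392 (c : Nat) : Nat := @Bool.rec (fun _ => Nat) (Ptab_s_382_387 c) (Ptab_s_387_392 c) (Nat.ble 387 c)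
noncomputable def Ptab_s_392_394 (c : Nat) : Nat := @Bool.rec (fun _ => Nat) (Ptab_392) (Ptab_393) (Nat.ble 393 c)
noncomputable def Ptab_s_395_397 (c : Nat) : Nat := @Bool.rec (fun _ => Nat) (Ptab_395) (Ptab_396) (Nat.ble 396 c)
noncomputable def Ptab_s_394_397 (c : Nat) : Nat := @Bool.rec (fun _ => Nat) (Ptab_394) (Ptab_s_395_397 c) (Nat.ble 395 c)
noncomputable def Ptab_s_392_397 (c : Nat) : Nat := @Bool.rec (fun _ => Nat) (Ptab_s_392_394 c) (Ptab_s_394_397 c) (Nat.ble 394 c)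
noncomputable def Ptab_s_398_400 (c : Nat) : Nat := @Bool.rec (fun _ => Nat) (Ptab_398) (Ptab_399) (Nat.ble 399 c)
noncomputable def Ptab_s_397_400 (c : Nat) : Nat := @Bool.rec (fun _ => Nat) (Ptab_397) (Ptab_s_398_400 c) (Nat.ble 398 c)
noncomputable def Ptab_s_401_403 (c : Nat) : Nat := @Bool.rec (fun _ => Nat) (Ptab_401) (Ptab_402) (Nat.ble 402 c)
noncomputable def Ptab_s_400_403 (c : Nat) : Nat := @Bool.rec (fun _ => Nat) (Ptab_400) (Ptab_s_401_403 c) (Nat.ble 401 c)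
noncomputable def Ptab_s_397_403 (c : Nat) : Nat := @Bool.rec (fun _ => Nat) (Ptab_s_397_400 c) (Ptab_s_400_403 c) (Nat.ble 400 c)
noncomputable def Ptab_s_392_403 (c : Nat) : Nat := @Bool.rec (fun _ => Nat) (Ptab_s_392_397 c) (Ptab_s_397_403 c) (Nat.ble 397 c)
noncomputable def Ptab_s_382_403 (c : Nat) : Nat := @Bool.rec (fun _ => Nat) (Ptab_s_382_392 c) (Ptab_s_392_403 c) (Nat.ble 392 c)
noncomputable def Ptab_s_403_405 (c : Nat) : Nat := @Bool.rec (fun _ => Nat) (Ptab_403) (Ptab_404) (Nat.ble 404 c)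
noncomputable def Ptab_s_406_408 (c : Nat) : Nat := @Bool.rec (fun _ => Nat) (Ptab_406) (Ptab_407) (Nat.ble 407 c)
noncomputable def Ptab_s_405_408 (c : Nat) : Nat := @Bool.rec (fun _ => Nat) (Ptab_405) (Ptab_s_406_408 c) (Nat.ble 406 c)
noncomputable def Ptab_s_403_408 (c : Nat) : Nat := @Bool.rec (fun _ => Nat) (Ptab_s_403_405 c) (Ptab_s_405_408 c) (Nat.ble 405 c)
noncomputable def Ptab_s_409_411 (c : Nat) : Nat := @Bool.rec (fun _ => Nat) (Ptab_409) (Ptab_410) (Nat.ble 410 c)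
noncomputable def Ptab_s_408_411 (c : Nat) : Nat := @Bool.rec (fun _ => Nat) (Ptab_408) (Ptab_s_409_411 c) (Nat.ble 409 c)
noncomputable def Ptab_s_412_414 (c : Nat) : Nat := @Bool.rec (fun _ => Nat) (Ptab_412) (Ptab_413) (Nat.ble 413 c)
noncomputable def Ptab_s_411_414 (c : Nat) : Nat := @Bool.rec (fun _ => Nat) (Ptab_411) (Ptab_s_412_414 c) (Nat.ble 412 c)
noncomputable def Ptab_s_408_414 (c : Nat) : Nat := @Bool.rec (fun _ => Nat) (Ptab_s_408_411 c) (Ptab_s_411_414 c) (Nat.ble 411 c)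
noncomputable def Ptab_s_403_414 (c : Nat) : Nat := @Bool.rec (fun _ => Nat) (Ptab_s_403_408 c) (Ptab_s_408_414 c) (Nat.ble 408 c)
noncomputable def Ptab_s_414_416 (c : Nat) : Nat := @Bool.rec (fun _ => Nat) (Ptab_414) (Ptab_415) (Nat.ble 415 c)
noncomputable def Ptab_s_417_419 (c : Nat) : Nat := @Bool.rec (fun _ => Nat) (Ptab_417) (Ptab_418) (Nat.ble 418 c)
noncomputable def Ptab_s_416_419 (c : Nat) : Nat := @Bool.rec (fun _ => Nat) (Ptab_416) (Ptab_s_417_419 c) (Nat.ble 417 c)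
noncomputable def Ptab_s_414_419 (c : Nat) : Nat := @Bool.rec (fun _ => Nat) (Ptab_s_414_416 c) (Ptab_s_416_419 c) (Nat.ble 416 c)
noncomputable def Ptab_s_420_422 (c : Nat) : Nat := @Bool.rec (fun _ => Nat) (Ptab_420) (Ptab_421) (Nat.ble 421 c)
noncomputable def Ptab_s_419_422 (c : Nat) : Nat := @Bool.rec (fun _ => Nat) (Ptab_419) (Ptab_s_420_422 c) (Nat.ble 420 c)
noncomputable def Ptab_s_423_425 (c : Nat) : Nat := @Bool.rec (fun _ => Nat) (Ptab_423) (Ptab_424) (Nat.ble 424 c)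
noncomputable def Ptab_s_422_425 (c : Nat) : Nat := @Bool.rec (fun _ => Nat) (Ptab_422) (Ptab_s_423_425 c) (Nat.ble 423 c)
noncomputable def Ptab_s_419_425 (c : Nat) : Nat := @Bool.rec (fun _ => Nat) (Ptab_s_419_422 c) (Ptab_s_422_425 c) (Nat.ble 422 c)
noncomputable def Ptab_s_414_425 (c : Nat) : Nat := @Bool.rec (fun _ => Nat) (Ptab_s_414_419 c) (Ptab_s_419_425 c) (Nat.ble 419 c)
noncomputable def Ptab_s_403_425 (c : Nat) : Nat := @Bool.rec (fun _ => Nat) (Ptab_s_403_414 c) (Ptab_s_414_425 c) (Nat.ble 414 c)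
noncomputable def Ptab_s_382_425 (c : Nat) : Nat := @Bool.rec (fun _ => Nat) (Ptab_s_382_403 c) (Ptab_s_403_425 c) (Nat.ble 403 c)
noncomputable def Ptab_s_340_425 (c : Nat) : Nat := @Bool.rec (fun _ => Nat) (Ptab_s_340_382 c) (Ptab_s_382_425 c) (Nat.ble 382 c)
noncomputable def Ptab_s_425_427 (c : Nat) : Nat := @Bool.rec (fun _ => Nat) (Ptab_425) (Ptab_426) (Nat.ble 426 c)
noncomputable def Ptab_s_428_430 (c : Nat) : Nat := @Bool.rec (fun _ => Nat) (Ptab_428) (Ptab_429) (Nat.ble 429 c)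
noncomputable def Ptab_s_427_430 (c : Nat) : Nat := @Bool.rec (fun _ => Nat) (Ptab_427) (Ptab_s_428_430 c) (Nat.ble 428 c)
noncomputable def Ptab_s_425_430 (c : Nat) : Nat := @Bool.rec (fun _ => Nat) (Ptab_s_425_427 c) (Ptab_s_427_430 c) (Nat.ble 427 c)
noncomputable def Ptab_s_430_432 (c : Nat) : Nat := @Bool.rec (fun _ => Nat) (Ptab_430) (Ptab_431) (Nat.ble 431 c)
noncomputable def Ptab_s_433_435 (c : Nat) : Nat := @Bool.rec (fun _ => Nat) (Ptab_433) (Ptab_434) (Nat.ble 434 c)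
noncomputable def Ptab_s_432_435 (c : Nat) : Nat := @Bool.rec (fun _ => Nat) (Ptab_432) (Ptab_s_433_435 c) (Nat.ble 433 c)
noncomputable def Ptab_s_430_435 (c : Nat) : Nat := @Bool.rec (fun _ => Nat) (Ptab_s_430_432 c) (Ptab_s_432_435 c) (Nat.ble 432 c)
noncomputable def Ptab_s_425_435 (c : Nat) : Nat := @Bool.rec (fun _ => Nat) (Ptab_s_425_430 c) (Ptab_s_430_435 c) (Nat.ble 430 c)
noncomputable def Ptab_s_435_437 (c : Nat) : Nat := @Bool.rec (fun _ => Nat) (Ptab_435) (Ptab_436) (Nat.ble 436 c)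
noncomputable def Ptab_s_438_440 (c : Nat) : Nat := @Bool.rec (fun _ => Nat) (Ptab_438) (Ptab_439) (Nat.ble 439 c)
noncomputable def Ptab_s_437_440 (c : Nat) : Nat := @Bool.rec (fun _ => Nat) (Ptab_437) (Ptab_s_438_440 c) (Nat.ble 438 c)
noncomputable def Ptab_s_435_440 (c : Nat) : Nat := @Bool.rec (fun _ => Nat) (Ptab_s_435_437 c) (Ptab_s_437_440 c) (Nat.ble 437 c)
noncomputable def Ptab_s_441_443 (c : Nat) : Nat := @Bool.rec (fun _ => Nat) (Ptab_441) (Ptab_442) (Nat.ble 442 c)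
noncomputable def Ptab_s_440_443 (c : Nat) : Nat := @Bool.rec (fun _ => Nat) (Ptab_440) (Ptab_s_441_443 c) (Nat.ble 441 c)
noncomputable def Ptab_s_444_446 (c : Nat) : Nat := @Bool.rec (fun _ => Nat) (Ptab_444) (Ptab_445) (Nat.ble 445 c)
noncomputable def Ptab_s_443_446 (c : Nat) : Nat := @Bool.rec (fun _ => Nat) (Ptab_443) (Ptab_s_444_446 c) (Nat.ble 444 c)
noncomputable def Ptab_s_440_446 (c : Nat) : Nat := @Bool.rec (fun _ => Nat) (Ptab_s_440_443 c) (Ptab_s_443_446 c) (Nat.ble 443 c)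
noncomputable def Ptab_s_435_446 (c : Nat) : Nat := @Bool.rec (fun _ => Nat) (Ptab_s_435_440 c) (Ptab_s_440_446 c) (Nat.ble 440 c)
noncomputable def Ptab_s_425_446 (c : Nat) : Nat := @Bool.rec (fun _ => Nat) (Ptab_s_425_435 c) (Ptab_s_435_446 c) (Nat.ble 435 c)
noncomputable def Ptab_s_446_448 (c : Nat) : Nat := @Bool.rec (fun _ => Nat) (Ptab_446) (Ptab_447) (Nat.ble 447 c)
noncomputable def Ptab_s_449_451 (c : Nat) : Nat := @Bool.rec (fun _ => Nat) (Ptab_449) (Ptab_450) (Nat.ble 450 c)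
noncomputable def Ptab_s_448_451 (c : Nat) : Nat := @Bool.rec (fun _ => Nat) (Ptab_448) (Ptab_s_449_451 c) (Nat.ble 449 c)
noncomputable def Ptab_s_446_451 (c : Nat) : Nat := @Bool.rec (fun _ => Nat) (Ptab_s_446_448 c) (Ptab_s_448_451 c) (Nat.ble 448 c)
noncomputable def Ptab_s_451_453 (c : Nat) : Nat := @Bool.rec (fun _ => Nat) (Ptab_451) (Ptab_452) (Nat.ble 452 c)
noncomputable def Ptab_s_454_456 (c : Nat) : Nat := @Bool.rec (fun _ => Nat) (Ptab_454) (Ptab_455) (Nat.ble 455 c)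
noncomputable def Ptab_s_453_456 (c : Nat) : Nat := @Bool.rec (fun _ => Nat) (Ptab_453) (Ptab_s_454_456 c) (Nat.ble 454 c)
noncomputable def Ptab_s_451_456 (c : Nat) : Nat := @Bool.rec (fun _ => Nat) (Ptab_s_451_453 c) (Ptab_s_453_456 c) (Nat.ble 453 c)
noncomputable def Ptab_s_446_456 (c : Nat) : Nat := @Bool.rec (fun _ => Nat) (Ptab_s_446_451 c) (Ptab_s_451_456 c) (Nat.ble 451 c)
noncomputable def Ptab_s_456_458 (c : Nat) : Nat := @Bool.rec (fun _ => Nat) (Ptab_456) (Ptab_457) (Nat.ble 457 c)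
noncomputable def Ptab_s_459_461 (c : Nat) : Nat := @Bool.rec (fun _ => Nat) (Ptab_459) (Ptab_460) (Nat.ble 460 c)
noncomputable def Ptab_s_458_461 (c : Nat) : Nat := @Bool.rec (fun _ => Nat) (Ptab_458) (Ptab_s_459_461 c) (Nat.ble 459 c)
noncomputable def Ptab_s_456_461 (c : Nat) : Nat := @Bool.rec (fun _ => Nat) (Ptab_s_456_458 c) (Ptab_s_458_461 c) (Nat.ble 458 c)
noncomputable def Ptab_s_462_464 (c : Nat) : Nat := @Bool.rec (fun _ => Nat) (Ptab_462) (Ptab_463) (Nat.ble 463 c)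
noncomputable def Ptab_s_461_464 (c : Nat) : Nat := @Bool.rec (fun _ => Nat) (Ptab_461) (Ptab_s_462_464 c) (Nat.ble 462 c)
noncomputable def Ptab_s_465_467 (c : Nat) : Nat := @Bool.rec (fun _ => Nat) (Ptab_465) (Ptab_466) (Nat.ble 466 c)
noncomputable def Ptab_s_464_467 (c : Nat) : Nat := @Bool.rec (fun _ => Nat) (Ptab_464) (Ptab_s_465_467 c) (Nat.ble 465 c)
noncomputable def Ptab_s_461_467 (c : Nat) : Nat := @Bool.rec (fun _ => Nat) (Ptab_s_461_464 c) (Ptab_s_464_467 c) (Nat.ble 464 c)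
noncomputable def Ptab_s_456_467 (c : Nat) : Nat := @Bool.rec (fun _ => Nat) (Ptab_s_456_461 c) (Ptab_s_461_467 c) (Nat.ble 461 c)
noncomputable def Ptab_s_446_467 (c : Nat) : Nat := @Bool.rec (fun _ => Nat) (Ptab_s_446_456 c) (Ptab_s_456_467 c) (Nat.ble 456 c)
noncomputable def Ptab_s_425_467 (c : Nat) : Nat := @Bool.rec (fun _ => Nat) (Ptab_s_425_446 c) (Ptab_s_446_467 c) (Nat.ble 446 c)
noncomputable def Ptab_s_467_469 (c : Nat) : Nat := @Bool.rec (fun _ => Nat) (Ptab_467) (Ptab_468) (Nat.ble 468 c)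
noncomputable def Ptab_s_470_472 (c : Nat) : Nat := @Bool.rec (fun _ => Nat) (Ptab_470) (Ptab_471) (Nat.ble 471 c)
noncomputable def Ptab_s_469_472 (c : Nat) : Nat := @Bool.rec (fun _ => Nat) (Ptab_469) (Ptab_s_470_472 c) (Nat.ble 470 c)
noncomputable def Ptab_s_467_472 (c : Nat) : Nat := @Bool.rec (fun _ => Nat) (Ptab_s_467_469 c) (Ptab_s_469_472 c) (Nat.ble 469 c)
noncomputable def Ptab_s_472_474 (c : Nat) : Nat := @Bool.rec (fun _ => Nat) (Ptab_472) (Ptab_473) (Nat.ble 473 c)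
noncomputable def Ptab_s_475_477 (c : Nat) : Nat := @Bool.rec (fun _ => Nat) (Ptab_475) (Ptab_476) (Nat.ble 476 c)
noncomputable def Ptab_s_474_477 (c : Nat) : Nat := @Bool.rec (fun _ => Nat) (Ptab_474) (Ptab_s_475_477 c) (Nat.ble 475 c)
noncomputable def Ptab_s_472_477 (c : Nat) : Nat := @Bool.rec (fun _ => Nat) (Ptab_s_472_474 c) (Ptab_s_474_477 c) (Nat.ble 474 c)
noncomputable def Ptab_s_467_477 (c : Nat) : Nat := @Bool.rec (fun _ => Nat) (Ptab_s_467_472 c) (Ptab_s_472_477 c) (Nat.ble 472 c)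
noncomputable def Ptab_s_477_479 (c : Nat) : Nat := @Bool.rec (fun _ => Nat) (Ptab_477) (Ptab_478) (Nat.ble 478 c)
noncomputable def Ptab_s_480_482 (c : Nat) : Nat := @Bool.rec (fun _ => Nat) (Ptab_480) (Ptab_481) (Nat.ble 481 c)
noncomputable def Ptab_s_479_482 (c : Nat) : Nat := @Bool.rec (fun _ => Nat) (Ptab_479) (Ptab_s_480_482 c) (Nat.ble 480 c)
noncomputable def Ptab_s_477_482 (c : Nat) : Nat := @Bool.rec (fun _ => Nat) (Ptab_s_477_479 c) (Ptab_s_479_482 c) (Nat.ble 479 c)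
noncomputable def Ptab_s_483_485 (c : Nat) : Nat := @Bool.rec (fun _ => Nat) (Ptab_483) (Ptab_484) (Nat.ble 484 c)
noncomputable def Ptab_s_482_485 (c : Nat) : Nat := @Bool.rec (fun _ => Nat) (Ptab_482) (Ptab_s_483_485 c) (Nat.ble 483 c)
noncomputable def Ptab_s_486_488 (c : Nat) : Nat := @Bool.rec (fun _ => Nat) (Ptab_486) (Ptab_487) (Nat.ble 487 c)
noncomputable def Ptab_s_485_488 (c : Nat) : Nat := @Bool.rec (fun _ => Nat) (Ptab_485) (Ptab_s_486_488 c) (Nat.ble 486 c)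
noncomputable def Ptab_s_482_488 (c : Nat) : Nat := @Bool.rec (fun _ => Nat) (Ptab_s_482_485 c) (Ptab_s_485_488 c) (Nat.ble 485 c)
noncomputable def Ptab_s_477_488 (c : Nat) : Nat := @Bool.rec (fun _ => Nat) (Ptab_s_477_482 c) (Ptab_s_482_488 c) (Nat.ble 482 c)
noncomputable def Ptab_s_467_488 (c : Nat) : Nat := @Bool.rec (fun _ => Nat) (Ptab_s_467_477 c) (Ptab_s_477_488 c) (Nat.ble 477 c)
noncomputable def Ptab_s_488_490 (c : Nat) : Nat := @Bool.rec (fun _ => Nat) (Ptab_488) (Ptab_489) (Nat.ble 489 c)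
noncomputable def Ptab_s_491_493 (c : Nat) : Nat := @Bool.rec (fun _ => Nat) (Ptab_491) (Ptab_492) (Nat.ble 492 c)
noncomputable def Ptab_s_490_493 (c : Nat) : Nat := @Bool.rec (fun _ => Nat) (Ptab_490) (Ptab_s_491_493 c) (Nat.ble 491 c)
noncomputable def Ptab_s_488_493 (c : Nat) : Nat := @Bool.rec (fun _ => Nat) (Ptab_s_488_490 c) (Ptab_s_490_493 c) (Nat.ble 490 c)
noncomputable def Ptab_s_494_496 (c : Nat) : Nat := @Bool.rec (fun _ => Nat) (Ptab_494) (Ptab_495) (Nat.ble 495 c)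
noncomputable def Ptab_s_493_496 (c : Nat) : Nat := @Bool.rec (fun _ => Nat) (Ptab_493) (Ptab_s_494_496 c) (Nat.ble 494 c)
noncomputable def Ptab_s_497_499 (c : Nat) : Nat := @Bool.rec (fun _ => Nat) (Ptab_497) (Ptab_498) (Nat.ble 498 c)
noncomputable def Ptab_s_496_499 (c : Nat) : Nat := @Bool.rec (fun _ => Nat) (Ptab_496) (Ptab_s_497_499 c) (Nat.ble 497 c)
noncomputable def Ptab_s_493_499 (c : Nat) : Nat := @Bool.rec (fun _ => Nat) (Ptab_s_493_496 c) (Ptab_s_496_499 c) (Nat.ble 496 c)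
noncomputable def Ptab_s_488_499 (c : Nat) : Nat := @Bool.rec (fun _ => Nat) (Ptab_s_488_493 c) (Ptab_s_493_499 c) (Nat.ble 493 c)
noncomputable def Ptab_s_499_501 (c : Nat) : Nat := @Bool.rec (fun _ => Nat) (Ptab_499) (Ptab_500) (Nat.ble 500 c)
noncomputable def Ptab_s_502_504 (c : Nat) : Nat := @Bool.rec (fun _ => Nat) (Ptab_502) (Ptab_503) (Nat.ble 503 c)
noncomputable def Ptab_s_501_504 (c : Nat) : Nat := @Bool.rec (fun _ => Nat) (Ptab_501) (Ptab_s_502_504 c) (Nat.ble 502 c)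
noncomputable def Ptab_s_499_504 (c : Nat) : Nat := @Bool.rec (fun _ => Nat) (Ptab_s_499_501 c) (Ptab_s_501_504 c) (Nat.ble 501 c)
noncomputable def Ptab_s_505_507 (c : Nat) : Nat := @Bool.rec (fun _ => Nat) (Ptab_505) (Ptab_506) (Nat.ble 506 c)
noncomputable def Ptab_s_504_507 (c : Nat) : Nat := @Bool.rec (fun _ => Nat) (Ptab_504) (Ptab_s_505_507 c) (Nat.ble 505 c)
noncomputable def Ptab_s_508_510 (c : Nat) : Nat := @Bool.rec (fun _ => Nat) (Ptab_508) (Ptab_509) (Nat.ble 509 c)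
noncomputable def Ptab_s_507_510 (c : Nat) : Nat := @Bool.rec (fun _ => Nat) (Ptab_507) (Ptab_s_508_510 c) (Nat.ble 508 c)
noncomputable def Ptab_s_504_510 (c : Nat) : Nat := @Bool.rec (fun _ => Nat) (Ptab_s_504_507 c) (Ptab_s_507_510 c) (Nat.ble 507 c)
noncomputable def Ptab_s_499_510 (c : Nat) : Nat := @Bool.rec (fun _ => Nat) (Ptab_s_499_504 c) (Ptab_s_504_510 c) (Nat.ble 504 c)
noncomputable def Ptab_s_488_510 (c : Nat) : Nat := @Bool.rec (fun _ => Nat) (Ptab_s_488_499 c) (Ptab_s_499_510 c) (Nat.ble 499 c)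
noncomputable def Ptab_s_467_510 (c : Nat) : Nat := @Bool.rec (fun _ => Nat) (Ptab_s_467_488 c) (Ptab_s_488_510 c) (Nat.ble 488 c)
noncomputable def Ptab_s_425_510 (c : Nat) : Nat := @Bool.rec (fun _ => Nat) (Ptab_s_425_467 c) (Ptab_s_467_510 c) (Nat.ble 467 c)
noncomputable def Ptab_s_340_510 (c : Nat) : Nat := @Bool.rec (fun _ => Nat) (Ptab_s_340_425 c) (Ptab_s_425_510 c) (Nat.ble 425 c)
noncomputable def Ptab_s_510_512 (c : Nat) : Nat := @Bool.rec (fun _ => Nat) (Ptab_510) (Ptab_511) (Nat.ble 511 c)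
noncomputable def Ptab_s_513_515 (c : Nat) : Nat := @Bool.rec (fun _ => Nat) (Ptab_513) (Ptab_514) (Nat.ble 514 c)
noncomputable def Ptab_s_512_515 (c : Nat) : Nat := @Bool.rec (fun _ => Nat) (Ptab_512) (Ptab_s_513_515 c) (Nat.ble 513 c)
noncomputable def Ptab_s_510_515 (c : Nat) : Nat := @Bool.rec (fun _ => Nat) (Ptab_s_510_512 c) (Ptab_s_512_515 c) (Nat.ble 512 c)
noncomputable def Ptab_s_515_517 (c : Nat) : Nat := @Bool.rec (fun _ => Nat) (Ptab_515) (Ptab_516) (Nat.ble 516 c)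
noncomputable def Ptab_s_518_520 (c : Nat) : Nat := @Bool.rec (fun _ => Nat) (Ptab_518) (Ptab_519) (Nat.ble 519 c)
noncomputable def Ptab_s_517_520 (c : Nat) : Nat := @Bool.rec (fun _ => Nat) (Ptab_517) (Ptab_s_518_520 c) (Nat.ble 518 c)
noncomputable def Ptab_s_515_520 (c : Nat) : Nat := @Bool.rec (fun _ => Nat) (Ptab_s_515_517 c) (Ptab_s_517_520 c) (Nat.ble 517 c)
noncomputable def Ptab_s_510_520 (c : Nat) : Nat := @Bool.rec (fun _ => Nat) (Ptab_s_510_515 c) (Ptab_s_515_520 c) (Nat.ble 515 c)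
noncomputable def Ptab_s_520_522 (c : Nat) : Nat := @Bool.rec (fun _ => Nat) (Ptab_520) (Ptab_521) (Nat.ble 521 c)
noncomputable def Ptab_s_523_525 (c : Nat) : Nat := @Bool.rec (fun _ => Nat) (Ptab_523) (Ptab_524) (Nat.ble 524 c)
noncomputable def Ptab_s_522_525 (c : Nat) : Nat := @Bool.rec (fun _ => Nat) (Ptab_522) (Ptab_s_523_525 c) (Nat.ble 523 c)
noncomputable def Ptab_s_520_525 (c : Nat) : Nat := @Bool.rec (fun _ => Nat) (Ptab_s_520_522 c) (Ptab_s_522_525 c) (Nat.ble 522 c)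
noncomputable def Ptab_s_526_528 (c : Nat) : Nat := @Bool.rec (fun _ => Nat) (Ptab_526) (Ptab_527) (Nat.ble 527 c)
noncomputable def Ptab_s_525_528 (c : Nat) : Nat := @Bool.rec (fun _ => Nat) (Ptab_525) (Ptab_s_526_528 c) (Nat.ble 526 c)
noncomputable def Ptab_s_529_531 (c : Nat) : Nat := @Bool.rec (fun _ => Nat) (Ptab_529) (Ptab_530) (Nat.ble 530 c)
noncomputable def Ptab_s_528_531 (c : Nat) : Nat := @Bool.rec (fun _ => Nat) (Ptab_528) (Ptab_s_529_531 c) (Nat.ble 529 c)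
noncomputable def Ptab_s_525_531 (c : Nat) : Nat := @Bool.rec (fun _ => Nat) (Ptab_s_525_528 c) (Ptab_s_528_531 c) (Nat.ble 528 c)
noncomputable def Ptab_s_520_531 (c : Nat) : Nat := @Bool.rec (fun _ => Nat) (Ptab_s_520_525 c) (Ptab_s_525_531 c) (Nat.ble 525 c)
noncomputable def Ptab_s_510_531 (c : Nat) : Nat := @Bool.rec (fun _ => Nat) (Ptab_s_510_520 c) (Ptab_s_520_531 c) (Nat.ble 520 c)
noncomputable def Ptab_s_531_533 (c : Nat) : Nat := @Bool.rec (fun _ => Nat) (Ptab_531) (Ptab_532) (Nat.ble 532 c)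
noncomputable def Ptab_s_534_536 (c : Nat) : Nat := @Bool.rec (fun _ => Nat) (Ptab_534) (Ptab_535) (Nat.ble 535 c)
noncomputable def Ptab_s_533_536 (c : Nat) : Nat := @Bool.rec (fun _ => Nat) (Ptab_533) (Ptab_s_534_536 c) (Nat.ble 534 c)
noncomputable def Ptab_s_531_536 (c : Nat) : Nat := @Bool.rec (fun _ => Nat) (Ptab_s_531_533 c) (Ptab_s_533_536 c) (Nat.ble 533 c)
noncomputable def Ptab_s_536_538 (c : Nat) : Nat := @Bool.rec (fun _ => Nat) (Ptab_536) (Ptab_537) (Nat.ble 537 c)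
noncomputable def Ptab_s_539_541 (c : Nat) : Nat := @Bool.rec (fun _ => Nat) (Ptab_539) (Ptab_540) (Nat.ble 540 c)
noncomputable def Ptab_s_538_541 (c : Nat) : Nat := @Bool.rec (fun _ => Nat) (Ptab_538) (Ptab_s_539_541 c) (Nat.ble 539 c)
noncomputable def Ptab_s_536_541 (c : Nat) : Nat := @Bool.rec (fun _ => Nat) (Ptab_s_536_538 c) (Ptab_s_538_541 c) (Nat.ble 538 c)
noncomputable def Ptab_s_531_541 (c : Nat) : Nat := @Bool.rec (fun _ => Nat) (Ptab_s_531_536 c) (Ptab_s_536_541 c) (Nat.ble 536 c)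
noncomputable def Ptab_s_541_543 (c : Nat) : Nat := @Bool.rec (fun _ => Nat) (Ptab_541) (Ptab_542) (Nat.ble 542 c)
noncomputable def Ptab_s_544_546 (c : Nat) : Nat := @Bool.rec (fun _ => Nat) (Ptab_544) (Ptab_545) (Nat.ble 545 c)
noncomputable def Ptab_s_543_546 (c : Nat) : Nat := @Bool.rec (fun _ => Nat) (Ptab_543) (Ptab_s_544_546 c) (Nat.ble 544 c)
noncomputable def Ptab_s_541_546 (c : Nat) : Nat := @Bool.rec (fun _ => Nat) (Ptab_s_541_543 c) (Ptab_s_543_546 c) (Nat.ble 543 c)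
noncomputable def Ptab_s_547_549 (c : Nat) : Nat := @Bool.rec (fun _ => Nat) (Ptab_547) (Ptab_548) (Nat.ble 548 c)
noncomputable def Ptab_s_546_549 (c : Nat) : Nat := @Bool.rec (fun _ => Nat) (Ptab_546) (Ptab_s_547_549 c) (Nat.ble 547 c)
noncomputable def Ptab_s_550_552 (c : Nat) : Nat := @Bool.rec (fun _ => Nat) (Ptab_550) (Ptab_551) (Nat.ble 551 c)
noncomputable def Ptab_s_549_552 (c : Nat) : Nat := @Bool.rec (fun _ => Nat) (Ptab_549) (Ptab_s_550_552 c) (Nat.ble 550 c)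
noncomputable def Ptab_s_546_552 (c : Nat) : Nat := @Bool.rec (fun _ => Nat) (Ptab_s_546_549 c) (Ptab_s_549_552 c) (Nat.ble 549 c)
noncomputable def Ptab_s_541_552 (c : Nat) : Nat := @Bool.rec (fun _ => Nat) (Ptab_s_541_546 c) (Ptab_s_546_552 c) (Nat.ble 546 c)
noncomputable def Ptab_s_531_552 (c : Nat) : Nat := @Bool.rec (fun _ => Nat) (Ptab_s_531_541 c) (Ptab_s_541_552 c) (Nat.ble 541 c)
noncomputable def Ptab_s_510_552 (c : Nat) : Nat := @Bool.rec (fun _ => Nat) (Ptab_s_510_531 c) (Ptab_s_531_552 c) (Nat.ble 531 c)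
noncomputable def Ptab_s_552_554 (c : Nat) : Nat := @Bool.rec (fun _ => Nat) (Ptab_552) (Ptab_553) (Nat.ble 553 c)
noncomputable def Ptab_s_555_557 (c : Nat) : Nat := @Bool.rec (fun _ => Nat) (Ptab_555) (Ptab_556) (Nat.ble 556 c)
noncomputable def Ptab_s_554_557 (c : Nat) : Nat := @Bool.rec (fun _ => Nat) (Ptab_554) (Ptab_s_555_557 c) (Nat.ble 555 c)
noncomputable def Ptab_s_552_557 (c : Nat) : Nat := @Bool.rec (fun _ => Nat) (Ptab_s_552_554 c) (Ptab_s_554_557 c) (Nat.ble 554 c)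
noncomputable def Ptab_s_557_559 (c : Nat) : Nat := @Bool.rec (fun _ => Nat) (Ptab_557) (Ptab_558) (Nat.ble 558 c)
noncomputable def Ptab_s_560_562 (c : Nat) : Nat := @Bool.rec (fun _ => Nat) (Ptab_560) (Ptab_561) (Nat.ble 561 c)
noncomputable def Ptab_s_559_562 (c : Nat) : Nat := @Bool.rec (fun _ => Nat) (Ptab_559) (Ptab_s_560_562 c) (Nat.ble 560 c)
noncomputable def Ptab_s_557_562 (c : Nat) : Nat := @Bool.rec (fun _ => Nat) (Ptab_s_557_559 c) (Ptab_s_559_562 c) (Nat.ble 559 c)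
noncomputable def Ptab_s_552_562 (c : Nat) : Nat := @Bool.rec (fun _ => Nat) (Ptab_s_552_557 c) (Ptab_s_557_562 c) (Nat.ble 557 c)
noncomputable def Ptab_s_562_564 (c : Nat) : Nat := @Bool.rec (fun _ => Nat) (Ptab_562) (Ptab_563) (Nat.ble 563 c)
noncomputable def Ptab_s_565_567 (c : Nat) : Nat := @Bool.rec (fun _ => Nat) (Ptab_565) (Ptab_566) (Nat.ble 566 c)
noncomputable def Ptab_s_564_567 (c : Nat) : Nat := @Bool.rec (fun _ => Nat) (Ptab_564) (Ptab_s_565_567 c) (Nat.ble 565 c)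
noncomputable def Ptab_s_562_567 (c : Nat) : Nat := @Bool.rec (fun _ => Nat) (Ptab_s_562_564 c) (Ptab_s_564_567 c) (Nat.ble 564 c)
noncomputable def Ptab_s_568_570 (c : Nat) : Nat := @Bool.rec (fun _ => Nat) (Ptab_568) (Ptab_569) (Nat.ble 569 c)
noncomputable def Ptab_s_567_570 (c : Nat) : Nat := @Bool.rec (fun _ => Nat) (Ptab_567) (Ptab_s_568_570 c) (Nat.ble 568 c)
noncomputable def Ptab_s_571_573 (c : Nat) : Nat := @Bool.rec (fun _ => Nat) (Ptab_571) (Ptab_572) (Nat.ble 572 c)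
noncomputable def Ptab_s_570_573 (c : Nat) : Nat := @Bool.rec (fun _ => Nat) (Ptab_570) (Ptab_s_571_573 c) (Nat.ble 571 c)
noncomputable def Ptab_s_567_573 (c : Nat) : Nat := @Bool.rec (fun _ => Nat) (Ptab_s_567_570 c) (Ptab_s_570_573 c) (Nat.ble 570 c)
noncomputable def Ptab_s_562_573 (c : Nat) : Nat := @Bool.rec (fun _ => Nat) (Ptab_s_562_567 c) (Ptab_s_567_573 c) (Nat.ble 567 c)
noncomputable def Ptab_s_552_573 (c : Nat) : Nat := @Bool.rec (fun _ => Nat) (Ptab_s_552_562 c) (Ptab_s_562_573 c) (Nat.ble 562 c)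
noncomputable def Ptab_s_573_575 (c : Nat) : Nat := @Bool.rec (fun _ => Nat) (Ptab_573) (Ptab_574) (Nat.ble 574 c)
noncomputable def Ptab_s_576_578 (c : Nat) : Nat := @Bool.rec (fun _ => Nat) (Ptab_576) (Ptab_577) (Nat.ble 577 c)
noncomputable def Ptab_s_575_578 (c : Nat) : Nat := @Bool.rec (fun _ => Nat) (Ptab_575) (Ptab_s_576_578 c) (Nat.ble 576 c)
noncomputable def Ptab_s_573_578 (c : Nat) : Nat := @Bool.rec (fun _ => Nat) (Ptab_s_573_575 c) (Ptab_s_575_578 c) (Nat.ble 575 c)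
noncomputable def Ptab_s_579_581 (c : Nat) : Nat := @Bool.rec (fun _ => Nat) (Ptab_579) (Ptab_580) (Nat.ble 580 c)
noncomputable def Ptab_s_578_581 (c : Nat) : Nat := @Bool.rec (fun _ => Nat) (Ptab_578) (Ptab_s_579_581 c) (Nat.ble 579 c)
noncomputable def Ptab_s_582_584 (c : Nat) : Nat := @Bool.rec (fun _ => Nat) (Ptab_582) (Ptab_583) (Nat.ble 583 c)
noncomputable def Ptab_s_581_584 (c : Nat) : Nat := @Bool.rec (fun _ => Nat) (Ptab_581) (Ptab_s_582_584 c) (Nat.ble 582 c)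
noncomputable def Ptab_s_578_584 (c : Nat) : Nat := @Bool.rec (fun _ => Nat) (Ptab_s_578_581 c) (Ptab_s_581_584 c) (Nat.ble 581 c)
noncomputable def Ptab_s_573_584 (c : Nat) : Nat := @Bool.rec (fun _ => Nat) (Ptab_s_573_578 c) (Ptab_s_578_584 c) (Nat.ble 578 c)
noncomputable def Ptab_s_584_586 (c : Nat) : Nat := @Bool.rec (fun _ => Nat) (Ptab_584) (Ptab_585) (Nat.ble 585 c)
noncomputable def Ptab_s_587_589 (c : Nat) : Nat := @Bool.rec (fun _ => Nat) (Ptab_587) (Ptab_588) (Nat.ble 588 c)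
noncomputable def Ptab_s_586_589 (c : Nat) : Nat := @Bool.rec (fun _ => Nat) (Ptab_586) (Ptab_s_587_589 c) (Nat.ble 587 c)
noncomputable def Ptab_s_584_589 (c : Nat) : Nat := @Bool.rec (fun _ => Nat) (Ptab_s_584_586 c) (Ptab_s_586_589 c) (Nat.ble 586 c)
noncomputable def Ptab_s_590_592 (c : Nat) : Nat := @Bool.rec (fun _ => Nat) (Ptab_590) (Ptab_591) (Nat.ble 591 c)
noncomputable def Ptab_s_589_592 (c : Nat) : Nat := @Bool.rec (fun _ => Nat) (Ptab_589) (Ptab_s_590_592 c) (Nat.ble 590 c)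
noncomputable def Ptab_s_593_595 (c : Nat) : Nat := @Bool.rec (fun _ => Nat) (Ptab_593) (Ptab_594) (Nat.ble 594 c)
noncomputable def Ptab_s_592_595 (c : Nat) : Nat := @Bool.rec (fun _ => Nat) (Ptab_592) (Ptab_s_593_595 c) (Nat.ble 593 c)
noncomputable def Ptab_s_589_595 (c : Nat) : Nat := @Bool.rec (fun _ => Nat) (Ptab_s_589_592 c) (Ptab_s_592_595 c) (Nat.ble 592 c)
noncomputable def Ptab_s_584_595 (c : Nat) : Nat := @Bool.rec (fun _ => Nat) (Ptab_s_584_589 c) (Ptab_s_589_595 c) (Nat.ble 589 c)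
noncomputable def Ptab_s_573_595 (c : Nat) : Nat := @Bool.rec (fun _ => Nat) (Ptab_s_573_584 c) (Ptab_s_584_595 c) (Nat.ble 584 c)
noncomputable def Ptab_s_552_595 (c : Nat) : Nat := @Bool.rec (fun _ => Nat) (Ptab_s_552_573 c) (Ptab_s_573_595 c) (Nat.ble 573 c)
noncomputable def Ptab_s_510_595 (c : Nat) : Nat := @Bool.rec (fun _ => Nat) (Ptab_s_510_552 c) (Ptab_s_552_595 c) (Nat.ble 552 c)
noncomputable def Ptab_s_595_597 (c : Nat) : Nat := @Bool.rec (fun _ => Nat) (Ptab_595) (Ptab_596) (Nat.ble 596 c)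
noncomputable def Ptab_s_598_600 (c : Nat) : Nat := @Bool.rec (fun _ => Nat) (Ptab_598) (Ptab_599) (Nat.ble 599 c)
noncomputable def Ptab_s_597_600 (c : Nat) : Nat := @Bool.rec (fun _ => Nat) (Ptab_597) (Ptab_s_598_600 c) (Nat.ble 598 c)
noncomputable def Ptab_s_595_600 (c : Nat) : Nat := @Bool.rec (fun _ => Nat) (Ptab_s_595_597 c) (Ptab_s_597_600 c) (Nat.ble 597 c)
noncomputable def Ptab_s_600_602 (c : Nat) : Nat := @Bool.rec (fun _ => Nat) (Ptab_600) (Ptab_601) (Nat.ble 601 c)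
noncomputable def Ptab_s_603_605 (c : Nat) : Nat := @Bool.rec (fun _ => Nat) (Ptab_603) (Ptab_604) (Nat.ble 604 c)
noncomputable def Ptab_s_602_605 (c : Nat) : Nat := @Bool.rec (fun _ => Nat) (Ptab_602) (Ptab_s_603_605 c) (Nat.ble 603 c)
noncomputable def Ptab_s_600_605 (c : Nat) : Nat := @Bool.rec (fun _ => Nat) (Ptab_s_600_602 c) (Ptab_s_602_605 c) (Nat.ble 602 c)
noncomputable def Ptab_s_595_605 (c : Nat) : Nat := @Bool.rec (fun _ => Nat) (Ptab_s_595_600 c) (Ptab_s_600_605 c) (Nat.ble 600 c)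
noncomputable def Ptab_s_605_607 (c : Nat) : Nat := @Bool.rec (fun _ => Nat) (Ptab_605) (Ptab_606) (Nat.ble 606 c)
noncomputable def Ptab_s_608_610 (c : Nat) : Nat := @Bool.rec (fun _ => Nat) (Ptab_608) (Ptab_609) (Nat.ble 609 c)
noncomputable def Ptab_s_607_610 (c : Nat) : Nat := @Bool.rec (fun _ => Nat) (Ptab_607) (Ptab_s_608_610 c) (Nat.ble 608 c)
noncomputable def Ptab_s_605_610 (c : Nat) : Nat := @Bool.rec (fun _ => Nat) (Ptab_s_605_607 c) (Ptab_s_607_610 c) (Nat.ble 607 c)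
noncomputable def Ptab_s_611_613 (c : Nat) : Nat := @Bool.rec (fun _ => Nat) (Ptab_611) (Ptab_612) (Nat.ble 612 c)
noncomputable def Ptab_s_610_613 (c : Nat) : Nat := @Bool.rec (fun _ => Nat) (Ptab_610) (Ptab_s_611_613 c) (Nat.ble 611 c)
noncomputable def Ptab_s_614_616 (c : Nat) : Nat := @Bool.rec (fun _ => Nat) (Ptab_614) (Ptab_615) (Nat.ble 615 c)
noncomputable def Ptab_s_613_616 (c : Nat) : Nat := @Bool.rec (fun _ => Nat) (Ptab_613) (Ptab_s_614_616 c) (Nat.ble 614 c)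
noncomputable def Ptab_s_610_616 (c : Nat) : Nat := @Bool.rec (fun _ => Nat) (Ptab_s_610_613 c) (Ptab_s_613_616 c) (Nat.ble 613 c)
noncomputable def Ptab_s_605_616 (c : Nat) : Nat := @Bool.rec (fun _ => Nat) (Ptab_s_605_610 c) (Ptab_s_610_616 c) (Nat.ble 610 c)
noncomputable def Ptab_s_595_616 (c : Nat) : Nat := @Bool.rec (fun _ => Nat) (Ptab_s_595_605 c) (Ptab_s_605_616 c) (Nat.ble 605 c)
noncomputable def Ptab_s_616_618 (c : Nat) : Nat := @Bool.rec (fun _ => Nat) (Ptab_616) (Ptab_617) (Nat.ble 617 c)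
noncomputable def Ptab_s_619_621 (c : Nat) : Nat := @Bool.rec (fun _ => Nat) (Ptab_619) (Ptab_620) (Nat.ble 620 c)
noncomputable def Ptab_s_618_621 (c : Nat) : Nat := @Bool.rec (fun _ => Nat) (Ptab_618) (Ptab_s_619_621 c) (Nat.ble 619 c)
noncomputable def Ptab_s_616_621 (c : Nat) : Nat := @Bool.rec (fun _ => Nat) (Ptab_s_616_618 c) (Ptab_s_618_621 c) (Nat.ble 618 c)
noncomputable def Ptab_s_622_624 (c : Nat) : Nat := @Bool.rec (fun _ => Nat) (Ptab_622) (Ptab_623) (Nat.ble 623 c)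
noncomputable def Ptab_s_621_624 (c : Nat) : Nat := @Bool.rec (fun _ => Nat) (Ptab_621) (Ptab_s_622_624 c) (Nat.ble 622 c)
noncomputable def Ptab_s_625_627 (c : Nat) : Nat := @Bool.rec (fun _ => Nat) (Ptab_625) (Ptab_626) (Nat.ble 626 c)
noncomputable def Ptab_s_624_627 (c : Nat) : Nat := @Bool.rec (fun _ => Nat) (Ptab_624) (Ptab_s_625_627 c) (Nat.ble 625 c)
noncomputable def Ptab_s_621_627 (c : Nat) : Nat := @Bool.rec (fun _ => Nat) (Ptab_s_621_624 c) (Ptab_s_624_627 c) (Nat.ble 624 c)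
noncomputable def Ptab_s_616_627 (c : Nat) : Nat := @Bool.rec (fun _ => Nat) (Ptab_s_616_621 c) (Ptab_s_621_627 c) (Nat.ble 621 c)
noncomputable def Ptab_s_627_629 (c : Nat) : Nat := @Bool.rec (fun _ => Nat) (Ptab_627) (Ptab_628) (Nat.ble 628 c)
noncomputable def Ptab_s_630_632 (c : Nat) : Nat := @Bool.rec (fun _ => Nat) (Ptab_630) (Ptab_631) (Nat.ble 631 c)
noncomputable def Ptab_s_629_632 (c : Nat) : Nat := @Bool.rec (fun _ => Nat) (Ptab_629) (Ptab_s_630_632 c) (Nat.ble 630 c)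
noncomputable def Ptab_s_627_632 (c : Nat) : Nat := @Bool.rec (fun _ => Nat) (Ptab_s_627_629 c) (Ptab_s_629_632 c) (Nat.ble 629 c)
noncomputable def Ptab_s_633_635 (c : Nat) : Nat := @Bool.rec (fun _ => Nat) (Ptab_633) (Ptab_634) (Nat.ble 634 c)
noncomputable def Ptab_s_632_635 (c : Nat) : Nat := @Bool.rec (fun _ => Nat) (Ptab_632) (Ptab_s_633_635 c) (Nat.ble 633 c)
noncomputable def Ptab_s_636_638 (c : Nat) : Nat := @Bool.rec (fun _ => Nat) (Ptab_636) (Ptab_637) (Nat.ble 637 c)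
noncomputable def Ptab_s_635_638 (c : Nat) : Nat := @Bool.rec (fun _ => Nat) (Ptab_635) (Ptab_s_636_638 c) (Nat.ble 636 c)
noncomputable def Ptab_s_632_638 (c : Nat) : Nat := @Bool.rec (fun _ => Nat) (Ptab_s_632_635 c) (Ptab_s_635_638 c) (Nat.ble 635 c)
noncomputable def Ptab_s_627_638 (c : Nat) : Nat := @Bool.rec (fun _ => Nat) (Ptab_s_627_632 c) (Ptab_s_632_638 c) (Nat.ble 632 c)
noncomputable def Ptab_s_616_638 (c : Nat) : Nat := @Bool.rec (fun _ => Nat) (Ptab_s_616_627 c) (Ptab_s_627_638 c) (Nat.ble 627 c)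
noncomputable def Ptab_s_595_638 (c : Nat) : Nat := @Bool.rec (fun _ => Nat) (Ptab_s_595_616 c) (Ptab_s_616_638 c) (Nat.ble 616 c)
noncomputable def Ptab_s_638_640 (c : Nat) : Nat := @Bool.rec (fun _ => Nat) (Ptab_638) (Ptab_639) (Nat.ble 639 c)
noncomputable def Ptab_s_641_643 (c : Nat) : Nat := @Bool.rec (fun _ => Nat) (Ptab_641) (Ptab_642) (Nat.ble 642 c)
noncomputable def Ptab_s_640_643 (c : Nat) : Nat := @Bool.rec (fun _ => Nat) (Ptab_640) (Ptab_s_641_643 c) (Nat.ble 641 c)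
noncomputable def Ptab_s_638_643 (c : Nat) : Nat := @Bool.rec (fun _ => Nat) (Ptab_s_638_640 c) (Ptab_s_640_643 c) (Nat.ble 640 c)
noncomputable def Ptab_s_643_645 (c : Nat) : Nat := @Bool.rec (fun _ => Nat) (Ptab_643) (Ptab_644) (Nat.ble 644 c)
noncomputable def Ptab_s_646_648 (c : Nat) : Nat := @Bool.rec (fun _ => Nat) (Ptab_646) (Ptab_647) (Nat.ble 647 c)
noncomputable def Ptab_s_645_648 (c : Nat) : Nat := @Bool.rec (fun _ => Nat) (Ptab_645) (Ptab_s_646_648 c) (Nat.ble 646 c)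
noncomputable def Ptab_s_643_648 (c : Nat) : Nat := @Bool.rec (fun _ => Nat) (Ptab_s_643_645 c) (Ptab_s_645_648 c) (Nat.ble 645 c)
noncomputable def Ptab_s_638_648 (c : Nat) : Nat := @Bool.rec (fun _ => Nat) (Ptab_s_638_643 c) (Ptab_s_643_648 c) (Nat.ble 643 c)
noncomputable def Ptab_s_648_650 (c : Nat) : Nat := @Bool.rec (fun _ => Nat) (Ptab_648) (Ptab_649) (Nat.ble 649 c)
noncomputable def Ptab_s_651_653 (c : Nat) : Nat := @Bool.rec (fun _ => Nat) (Ptab_651) (Ptab_652) (Nat.ble 652 c)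
noncomputable def Ptab_s_650_653 (c : Nat) : Nat := @Bool.rec (fun _ => Nat) (Ptab_650) (Ptab_s_651_653 c) (Nat.ble 651 c)
noncomputable def Ptab_s_648_653 (c : Nat) : Nat := @Bool.rec (fun _ => Nat) (Ptab_s_648_650 c) (Ptab_s_650_653 c) (Nat.ble 650 c)
noncomputable def Ptab_s_654_656 (c : Nat) : Nat := @Bool.rec (fun _ => Nat) (Ptab_654) (Ptab_655) (Nat.ble 655 c)
noncomputable def Ptab_s_653_656 (c : Nat) : Nat := @Bool.rec (fun _ => Nat) (Ptab_653) (Ptab_s_654_656 c) (Nat.ble 654 c)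
noncomputable def Ptab_s_657_659 (c : Nat) : Nat := @Bool.rec (fun _ => Nat) (Ptab_657) (Ptab_658) (Nat.ble 658 c)
noncomputable def Ptab_s_656_659 (c : Nat) : Nat := @Bool.rec (fun _ => Nat) (Ptab_656) (Ptab_s_657_659 c) (Nat.ble 657 c)
noncomputable def Ptab_s_653_659 (c : Nat) : Nat := @Bool.rec (fun _ => Nat) (Ptab_s_653_656 c) (Ptab_s_656_659 c) (Nat.ble 656 c)
noncomputable def Ptab_s_648_659 (c : Nat) : Nat := @Bool.rec (fun _ => Nat) (Ptab_s_648_653 c) (Ptab_s_653_659 c) (Nat.ble 653 c)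
noncomputable def Ptab_s_638_659 (c : Nat) : Nat := @Bool.rec (fun _ => Nat) (Ptab_s_638_648 c) (Ptab_s_648_659 c) (Nat.ble 648 c)
noncomputable def Ptab_s_659_661 (c : Nat) : Nat := @Bool.rec (fun _ => Nat) (Ptab_659) (Ptab_660) (Nat.ble 660 c)
noncomputable def Ptab_s_662_664 (c : Nat) : Nat := @Bool.rec (fun _ => Nat) (Ptab_662) (Ptab_663) (Nat.ble 663 c)
noncomputable def Ptab_s_661_664 (c : Nat) : Nat := @Bool.rec (fun _ => Nat) (Ptab_661) (Ptab_s_662_664 c) (Nat.ble 662 c)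
noncomputable def Ptab_s_659_664 (c : Nat) : Nat := @Bool.rec (fun _ => Nat) (Ptab_s_659_661 c) (Ptab_s_661_664 c) (Nat.ble 661 c)
noncomputable def Ptab_s_665_667 (c : Nat) : Nat := @Bool.rec (fun _ => Nat) (Ptab_665) (Ptab_666) (Nat.ble 666 c)
noncomputable def Ptab_s_664_667 (c : Nat) : Nat := @Bool.rec (fun _ => Nat) (Ptab_664) (Ptab_s_665_667 c) (Nat.ble 665 c)
noncomputable def Ptab_s_668_670 (c : Nat) : Nat := @Bool.rec (fun _ => Nat) (Ptab_668) (Ptab_669) (Nat.ble 669 c)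
noncomputable def Ptab_s_667_670 (c : Nat) : Nat := @Bool.rec (fun _ => Nat) (Ptab_667) (Ptab_s_668_670 c) (Nat.ble 668 c)
noncomputable def Ptab_s_664_670 (c : Nat) : Nat := @Bool.rec (fun _ => Nat) (Ptab_s_664_667 c) (Ptab_s_667_670 c) (Nat.ble 667 c)
noncomputable def Ptab_s_659_670 (c : Nat) : Nat := @Bool.rec (fun _ => Nat) (Ptab_s_659_664 c) (Ptab_s_664_670 c) (Nat.ble 664 c)
noncomputable def Ptab_s_670_672 (c : Nat) : Nat := @Bool.rec (fun _ => Nat) (Ptab_670) (Ptab_671) (Nat.ble 671 c)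
noncomputable def Ptab_s_673_675 (c : Nat) : Nat := @Bool.rec (fun _ => Nat) (Ptab_673) (Ptab_674) (Nat.ble 674 c)
noncomputable def Ptab_s_672_675 (c : Nat) : Nat := @Bool.rec (fun _ => Nat) (Ptab_672) (Ptab_s_673_675 c) (Nat.ble 673 c)
noncomputable def Ptab_s_670_675 (c : Nat) : Nat := @Bool.rec (fun _ => Nat) (Ptab_s_670_672 c) (Ptab_s_672_675 c) (Nat.ble 672 c)
noncomputable def Ptab_s_676_678 (c : Nat) : Nat := @Bool.rec (fun _ => Nat) (Ptab_676) (Ptab_677) (Nat.ble 677 c)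
noncomputable def Ptab_s_675_678 (c : Nat) : Nat := @Bool.rec (fun _ => Nat) (Ptab_675) (Ptab_s_676_678 c) (Nat.ble 676 c)
noncomputable def Ptab_s_679_681 (c : Nat) : Nat := @Bool.rec (fun _ => Nat) (Ptab_679) (Ptab_680) (Nat.ble 680 c)
noncomputable def Ptab_s_678_681 (c : Nat) : Nat := @Bool.rec (fun _ => Nat) (Ptab_678) (Ptab_s_679_681 c) (Nat.ble 679 c)
noncomputable def Ptab_s_675_681 (c : Nat) : Nat := @Bool.rec (fun _ => Nat) (Ptab_s_675_678 c) (Ptab_s_678_681 c) (Nat.ble 678 c)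
noncomputable def Ptab_s_670_681 (c : Nat) : Nat := @Bool.rec (fun _ => Nat) (Ptab_s_670_675 c) (Ptab_s_675_681 c) (Nat.ble 675 c)
noncomputable def Ptab_s_659_681 (c : Nat) : Nat := @Bool.rec (fun _ => Nat) (Ptab_s_659_670 c) (Ptab_s_670_681 c) (Nat.ble 670 c)
noncomputable def Ptab_s_638_681 (c : Nat) : Nat := @Bool.rec (fun _ => Nat) (Ptab_s_638_659 c) (Ptab_s_659_681 c) (Nat.ble 659 c)
noncomputable def Ptab_s_595_681 (c : Nat) : Nat := @Bool.rec (fun _ => Nat) (Ptab_s_595_638 c) (Ptab_s_638_681 c) (Nat.ble 638 c)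
noncomputable def Ptab_s_510_681 (c : Nat) : Nat := @Bool.rec (fun _ => Nat) (Ptab_s_510_595 c) (Ptab_s_595_681 c) (Nat.ble 595 c)
noncomputable def Ptab_s_340_681 (c : Nat) : Nat := @Bool.rec (fun _ => Nat) (Ptab_s_340_510 c) (Ptab_s_510_681 c) (Nat.ble 510 c)
noncomputable def Ptab_s_0_681 (c : Nat) : Nat := @Bool.rec (fun _ => Nat) (Ptab_s_0_340 c) (Ptab_s_340_681 c) (Nat.ble 340 c)
noncomputable def Ptab (i : Nat) : Nat := rdw 21 2097151 (Ptab_s_0_681 (Nat.shiftRight i 12)) (Nat.land i 4095)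
noncomputable def RRtab (i : Nat) : Nat := rdw 5 31 RRtab_0 i
noncomputable def rBtab (i : Nat) : Nat := rdw 10 1023 rBtab_0 i
noncomputable def rLtab (i : Nat) : Nat := rdw 5 31 rLtab_0 i
noncomputable def nameTab_s_0_2 (c : Nat) : Nat := @Bool.rec (fun _ => Nat) (nameTab_0) (nameTab_1) (Nat.ble 1 c)
noncomputable def nameTab_s_2_4 (c : Nat) : Nat := @Bool.rec (fun _ => Nat) (nameTab_2) (nameTab_3) (Nat.ble 3 c)
noncomputable def nameTab_s_0_4 (c : Nat) : Nat := @Bool.rec (fun _ => Nat) (nameTab_s_0_2 c) (nameTab_s_2_4 c) (Nat.ble 2 c)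
noncomputable def nameTab_s_4_6 (c : Nat) : Nat := @Bool.rec (fun _ => Nat) (nameTab_4) (nameTab_5) (Nat.ble 5 c)
noncomputable def nameTab_s_6_8 (c : Nat) : Nat := @Bool.rec (fun _ => Nat) (nameTab_6) (nameTab_7) (Nat.ble 7 c)
noncomputable def nameTab_s_4_8 (c : Nat) : Nat := @Bool.rec (fun _ => Nat) (nameTab_s_4_6 c) (nameTab_s_6_8 c) (Nat.ble 6 c)
noncomputable def nameTab_s_0_8 (c : Nat) : Nat := @Bool.rec (fun _ => Nat) (nameTab_s_0_4 c) (nameTab_s_4_8 c) (Nat.ble 4 c)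
noncomputable def nameTab_s_8_10 (c : Nat) : Nat := @Bool.rec (fun _ => Nat) (nameTab_8) (nameTab_9) (Nat.ble 9 c)
noncomputable def nameTab_s_10_12 (c : Nat) : Nat := @Bool.rec (fun _ => Nat) (nameTab_10) (nameTab_11) (Nat.ble 11 c)
noncomputable def nameTab_s_8_12 (c : Nat) : Nat := @Bool.rec (fun _ => Nat) (nameTab_s_8_10 c) (nameTab_s_10_12 c) (Nat.ble 10 c)
noncomputable def nameTab_s_12_14 (c : Nat) : Nat := @Bool.rec (fun _ => Nat) (nameTab_12) (nameTab_13) (Nat.ble 13 c)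
noncomputable def nameTab_s_14_16 (c : Nat) : Nat := @Bool.rec (fun _ => Nat) (nameTab_14) (nameTab_15) (Nat.ble 15 c)
noncomputable def nameTab_s_12_16 (c : Nat) : Nat := @Bool.rec (fun _ => Nat) (nameTab_s_12_14 c) (nameTab_s_14_16 c) (Nat.ble 14 c)
noncomputable def nameTab_s_8_16 (c : Nat) : Nat := @Bool.rec (fun _ => Nat) (nameTab_s_8_12 c) (nameTab_s_12_16 c) (Nat.ble 12 c)
noncomputable def nameTab_s_0_16 (c : Nat) : Nat := @Bool.rec (fun _ => Nat) (nameTab_s_0_8 c) (nameTab_s_8_16 c) (Nat.ble 8 c)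
noncomputable def nameTab_s_16_18 (c : Nat) : Nat := @Bool.rec (fun _ => Nat) (nameTab_16) (nameTab_17) (Nat.ble 17 c)
noncomputable def nameTab_s_18_20 (c : Nat) : Nat := @Bool.rec (fun _ => Nat) (nameTab_18) (nameTab_19) (Nat.ble 19 c)
noncomputable def nameTab_s_16_20 (c : Nat) : Nat := @Bool.rec (fun _ => Nat) (nameTab_s_16_18 c) (nameTab_s_18_20 c) (Nat.ble 18 c)
noncomputable def nameTab_s_20_22 (c : Nat) : Nat := @Bool.rec (fun _ => Nat) (nameTab_20) (nameTab_21) (Nat.ble 21 c)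
noncomputable def nameTab_s_22_24 (c : Nat) : Nat := @Bool.rec (fun _ => Nat) (nameTab_22) (nameTab_23) (Nat.ble 23 c)
noncomputable def nameTab_s_20_24 (c : Nat) : Nat := @Bool.rec (fun _ => Nat) (nameTab_s_20_22 c) (nameTab_s_22_24 c) (Nat.ble 22 c)
noncomputable def nameTab_s_16_24 (c : Nat) : Nat := @Bool.rec (fun _ => Nat) (nameTab_s_16_20 c) (nameTab_s_20_24 c) (Nat.ble 20 c)
noncomputable def nameTab_s_24_26 (c : Nat) : Nat := @Bool.rec (fun _ => Nat) (nameTab_24) (nameTab_25) (Nat.ble 25 c)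
noncomputable def nameTab_s_26_28 (c : Nat) : Nat := @Bool.rec (fun _ => Nat) (nameTab_26) (nameTab_27) (Nat.ble 27 c)
noncomputable def nameTab_s_24_28 (c : Nat) : Nat := @Bool.rec (fun _ => Nat) (nameTab_s_24_26 c) (nameTab_s_26_28 c) (Nat.ble 26 c)
noncomputable def nameTab_s_28_30 (c : Nat) : Nat := @Bool.rec (fun _ => Nat) (nameTab_28) (nameTab_29) (Nat.ble 29 c)
noncomputable def nameTab_s_31_33 (c : Nat) : Nat := @Bool.rec (fun _ => Nat) (nameTab_31) (nameTab_32) (Nat.ble 32 c)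
noncomputable def nameTab_s_30_33 (c : Nat) : Nat := @Bool.rec (fun _ => Nat) (nameTab_30) (nameTab_s_31_33 c) (Nat.ble 31 c)
noncomputable def nameTab_s_28_33 (c : Nat) : Nat := @Bool.rec (fun _ => Nat) (nameTab_s_28_30 c) (nameTab_s_30_33 c) (Nat.ble 30 c)
noncomputable def nameTab_s_24_33 (c : Nat) : Nat := @Bool.rec (fun _ => Nat) (nameTab_s_24_28 c) (nameTab_s_28_33 c) (Nat.ble 28 c)
noncomputable def nameTab_s_16_33 (c : Nat) : Nat := @Bool.rec (fun _ => Nat) (nameTab_s_16_24 c) (nameTab_s_24_33 c) (Nat.ble 24 c)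
noncomputable def nameTab_s_0_33 (c : Nat) : Nat := @Bool.rec (fun _ => Nat) (nameTab_s_0_16 c) (nameTab_s_16_33 c) (Nat.ble 16 c)
noncomputable def nameTab_s_33_35 (c : Nat) : Nat := @Bool.rec (fun _ => Nat) (nameTab_33) (nameTab_34) (Nat.ble 34 c)
noncomputable def nameTab_s_35_37 (c : Nat) : Nat := @Bool.rec (fun _ => Nat) (nameTab_35) (nameTab_36) (Nat.ble 36 c)
noncomputable def nameTab_s_33_37 (c : Nat) : Nat := @Bool.rec (fun _ => Nat) (nameTab_s_33_35 c) (nameTab_s_35_37 c) (Nat.ble 35 c)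
noncomputable def nameTab_s_37_39 (c : Nat) : Nat := @Bool.rec (fun _ => Nat) (nameTab_37) (nameTab_38) (Nat.ble 38 c)
noncomputable def nameTab_s_39_41 (c : Nat) : Nat := @Bool.rec (fun _ => Nat) (nameTab_39) (nameTab_40) (Nat.ble 40 c)
noncomputable def nameTab_s_37_41 (c : Nat) : Nat := @Bool.rec (fun _ => Nat) (nameTab_s_37_39 c) (nameTab_s_39_41 c) (Nat.ble 39 c)
noncomputable def nameTab_s_33_41 (c : Nat) : Nat := @Bool.rec (fun _ => Nat) (nameTab_s_33_37 c) (nameTab_s_37_41 c) (Nat.ble 37 c)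
noncomputable def nameTab_s_41_43 (c : Nat) : Nat := @Bool.rec (fun _ => Nat) (nameTab_41) (nameTab_42) (Nat.ble 42 c)
noncomputable def nameTab_s_43_45 (c : Nat) : Nat := @Bool.rec (fun _ => Nat) (nameTab_43) (nameTab_44) (Nat.ble 44 c)
noncomputable def nameTab_s_41_45 (c : Nat) : Nat := @Bool.rec (fun _ => Nat) (nameTab_s_41_43 c) (nameTab_s_43_45 c) (Nat.ble 43 c)
noncomputable def nameTab_s_45_47 (c : Nat) : Nat := @Bool.rec (fun _ => Nat) (nameTab_45) (nameTab_46) (Nat.ble 46 c)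
noncomputable def nameTab_s_47_49 (c : Nat) : Nat := @Bool.rec (fun _ => Nat) (nameTab_47) (nameTab_48) (Nat.ble 48 c)
noncomputable def nameTab_s_45_49 (c : Nat) : Nat := @Bool.rec (fun _ => Nat) (nameTab_s_45_47 c) (nameTab_s_47_49 c) (Nat.ble 47 c)
noncomputable def nameTab_s_41_49 (c : Nat) : Nat := @Bool.rec (fun _ => Nat) (nameTab_s_41_45 c) (nameTab_s_45_49 c) (Nat.ble 45 c)
noncomputable def nameTab_s_33_49 (c : Nat) : Nat := @Bool.rec (fun _ => Nat) (nameTab_s_33_41 c) (nameTab_s_41_49 c) (Nat.ble 41 c)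
noncomputable def nameTab_s_49_51 (c : Nat) : Nat := @Bool.rec (fun _ => Nat) (nameTab_49) (nameTab_50) (Nat.ble 50 c)
noncomputable def nameTab_s_51_53 (c : Nat) : Nat := @Bool.rec (fun _ => Nat) (nameTab_51) (nameTab_52) (Nat.ble 52 c)
noncomputable def nameTab_s_49_53 (c : Nat) : Nat := @Bool.rec (fun _ => Nat) (nameTab_s_49_51 c) (nameTab_s_51_53 c) (Nat.ble 51 c)
noncomputable def nameTab_s_53_55 (c : Nat) : Nat := @Bool.rec (fun _ => Nat) (nameTab_53) (nameTab_54) (Nat.ble 54 c)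
noncomputable def nameTab_s_55_57 (c : Nat) : Nat := @Bool.rec (fun _ => Nat) (nameTab_55) (nameTab_56) (Nat.ble 56 c)
noncomputable def nameTab_s_53_57 (c : Nat) : Nat := @Bool.rec (fun _ => Nat) (nameTab_s_53_55 c) (nameTab_s_55_57 c) (Nat.ble 55 c)
noncomputable def nameTab_s_49_57 (c : Nat) : Nat := @Bool.rec (fun _ => Nat) (nameTab_s_49_53 c) (nameTab_s_53_57 c) (Nat.ble 53 c)
noncomputable def nameTab_s_57_59 (c : Nat) : Nat := @Bool.rec (fun _ => Nat) (nameTab_57) (nameTab_58) (Nat.ble 58 c)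
noncomputable def nameTab_s_59_61 (c : Nat) : Nat := @Bool.rec (fun _ => Nat) (nameTab_59) (nameTab_60) (Nat.ble 60 c)
noncomputable def nameTab_s_57_61 (c : Nat) : Nat := @Bool.rec (fun _ => Nat) (nameTab_s_57_59 c) (nameTab_s_59_61 c) (Nat.ble 59 c)
noncomputable def nameTab_s_61_63 (c : Nat) : Nat := @Bool.rec (fun _ => Nat) (nameTab_61) (nameTab_62) (Nat.ble 62 c)
noncomputable def nameTab_s_64_66 (c : Nat) : Nat := @Bool.rec (fun _ => Nat) (nameTab_64) (nameTab_65) (Nat.ble 65 c)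
noncomputable def nameTab_s_63_66 (c : Nat) : Nat := @Bool.rec (fun _ => Nat) (nameTab_63) (nameTab_s_64_66 c) (Nat.ble 64 c)
noncomputable def nameTab_s_61_66 (c : Nat) : Nat := @Bool.rec (fun _ => Nat) (nameTab_s_61_63 c) (nameTab_s_63_66 c) (Nat.ble 63 c)
noncomputable def nameTab_s_57_66 (c : Nat) : Nat := @Bool.rec (fun _ => Nat) (nameTab_s_57_61 c) (nameTab_s_61_66 c) (Nat.ble 61 c)
noncomputable def nameTab_s_49_66 (c : Nat) : Nat := @Bool.rec (fun _ => Nat) (nameTab_s_49_57 c) (nameTab_s_57_66 c) (Nat.ble 57 c)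
noncomputable def nameTab_s_33_66 (c : Nat) : Nat := @Bool.rec (fun _ => Nat) (nameTab_s_33_49 c) (nameTab_s_49_66 c) (Nat.ble 49 c)
noncomputable def nameTab_s_0_66 (c : Nat) : Nat := @Bool.rec (fun _ => Nat) (nameTab_s_0_33 c) (nameTab_s_33_66 c) (Nat.ble 33 c)
noncomputable def nameTab (i : Nat) : Nat := rdw 19 524287 (nameTab_s_0_66 (Nat.shiftRight i 12)) (Nat.land i 4095)
noncomputable def col0_s_0_2 (c : Nat) : Nat := @Bool.rec (fun _ => Nat) (col0_0) (col0_1) (Nat.ble 1 c)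
noncomputable def col0_s_2_4 (c : Nat) : Nat := @Bool.rec (fun _ => Nat) (col0_2) (col0_3) (Nat.ble 3 c)
noncomputable def col0_s_0_4 (c : Nat) : Nat := @Bool.rec (fun _ => Nat) (col0_s_0_2 c) (col0_s_2_4 c) (Nat.ble 2 c)
noncomputable def col0_s_4_6 (c : Nat) : Nat := @Bool.rec (fun _ => Nat) (col0_4) (col0_5) (Nat.ble 5 c)
noncomputable def col0_s_6_8 (c : Nat) : Nat := @Bool.rec (fun _ => Nat) (col0_6) (col0_7) (Nat.ble 7 c)
noncomputable def col0_s_4_8 (c : Nat) : Nat := @Bool.rec (fun _ => Nat) (col0_s_4_6 c) (col0_s_6_8 c) (Nat.ble 6 c)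
noncomputable def col0_s_0_8 (c : Nat) : Nat := @Bool.rec (fun _ => Nat) (col0_s_0_4 c) (col0_s_4_8 c) (Nat.ble 4 c)
noncomputable def col0_s_8_10 (c : Nat) : Nat := @Bool.rec (fun _ => Nat) (col0_8) (col0_9) (Nat.ble 9 c)
noncomputable def col0_s_10_12 (c : Nat) : Nat := @Bool.rec (fun _ => Nat) (col0_10) (col0_11) (Nat.ble 11 c)
noncomputable def col0_s_8_12 (c : Nat) : Nat := @Bool.rec (fun _ => Nat) (col0_s_8_10 c) (col0_s_10_12 c) (Nat.ble 10 c)
noncomputable def col0_s_12_14 (c : Nat) : Nat := @Bool.rec (fun _ => Nat) (col0_12) (col0_13) (Nat.ble 13 c)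
noncomputable def col0_s_14_16 (c : Nat) : Nat := @Bool.rec (fun _ => Nat) (col0_14) (col0_15) (Nat.ble 15 c)
noncomputable def col0_s_12_16 (c : Nat) : Nat := @Bool.rec (fun _ => Nat) (col0_s_12_14 c) (col0_s_14_16 c) (Nat.ble 14 c)
noncomputable def col0_s_8_16 (c : Nat) : Nat := @Bool.rec (fun _ => Nat) (col0_s_8_12 c) (col0_s_12_16 c) (Nat.ble 12 c)
noncomputable def col0_s_0_16 (c : Nat) : Nat := @Bool.rec (fun _ => Nat) (col0_s_0_8 c) (col0_s_8_16 c) (Nat.ble 8 c)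
noncomputable def col0_s_16_18 (c : Nat) : Nat := @Bool.rec (fun _ => Nat) (col0_16) (col0_17) (Nat.ble 17 c)
noncomputable def col0_s_18_20 (c : Nat) : Nat := @Bool.rec (fun _ => Nat) (col0_18) (col0_19) (Nat.ble 19 c)
noncomputable def col0_s_16_20 (c : Nat) : Nat := @Bool.rec (fun _ => Nat) (col0_s_16_18 c) (col0_s_18_20 c) (Nat.ble 18 c)
noncomputable def col0_s_20_22 (c : Nat) : Nat := @Bool.rec (fun _ => Nat) (col0_20) (col0_21) (Nat.ble 21 c)
noncomputable def col0_s_22_24 (c : Nat) : Nat := @Bool.rec (fun _ => Nat) (col0_22) (col0_23) (Nat.ble 23 c)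
noncomputable def col0_s_20_24 (c : Nat) : Nat := @Bool.rec (fun _ => Nat) (col0_s_20_22 c) (col0_s_22_24 c) (Nat.ble 22 c)
noncomputable def col0_s_16_24 (c : Nat) : Nat := @Bool.rec (fun _ => Nat) (col0_s_16_20 c) (col0_s_20_24 c) (Nat.ble 20 c)
noncomputable def col0_s_24_26 (c : Nat) : Nat := @Bool.rec (fun _ => Nat) (col0_24) (col0_25) (Nat.ble 25 c)
noncomputable def col0_s_26_28 (c : Nat) : Nat := @Bool.rec (fun _ => Nat) (col0_26) (col0_27) (Nat.ble 27 c)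
noncomputable def col0_s_24_28 (c : Nat) : Nat := @Bool.rec (fun _ => Nat) (col0_s_24_26 c) (col0_s_26_28 c) (Nat.ble 26 c)
noncomputable def col0_s_28_30 (c : Nat) : Nat := @Bool.rec (fun _ => Nat) (col0_28) (col0_29) (Nat.ble 29 c)
noncomputable def col0_s_31_33 (c : Nat) : Nat := @Bool.rec (fun _ => Nat) (col0_31) (col0_32) (Nat.ble 32 c)
noncomputable def col0_s_30_33 (c : Nat) : Nat := @Bool.rec (fun _ => Nat) (col0_30) (col0_s_31_33 c) (Nat.ble 31 c)
noncomputable def col0_s_28_33 (c : Nat) : Nat := @Bool.rec (fun _ => Nat) (col0_s_28_30 c) (col0_s_30_33 c) (Nat.ble 30 c)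
noncomputable def col0_s_24_33 (c : Nat) : Nat := @Bool.rec (fun _ => Nat) (col0_s_24_28 c) (col0_s_28_33 c) (Nat.ble 28 c)
noncomputable def col0_s_16_33 (c : Nat) : Nat := @Bool.rec (fun _ => Nat) (col0_s_16_24 c) (col0_s_24_33 c) (Nat.ble 24 c)
noncomputable def col0_s_0_33 (c : Nat) : Nat := @Bool.rec (fun _ => Nat) (col0_s_0_16 c) (col0_s_16_33 c) (Nat.ble 16 c)
noncomputable def col0_s_33_35 (c : Nat) : Nat := @Bool.rec (fun _ => Nat) (col0_33) (col0_34) (Nat.ble 34 c)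
noncomputable def col0_s_35_37 (c : Nat) : Nat := @Bool.rec (fun _ => Nat) (col0_35) (col0_36) (Nat.ble 36 c)
noncomputable def col0_s_33_37 (c : Nat) : Nat := @Bool.rec (fun _ => Nat) (col0_s_33_35 c) (col0_s_35_37 c) (Nat.ble 35 c)
noncomputable def col0_s_37_39 (c : Nat) : Nat := @Bool.rec (fun _ => Nat) (col0_37) (col0_38) (Nat.ble 38 c)
noncomputable def col0_s_39_41 (c : Nat) : Nat := @Bool.rec (fun _ => Nat) (col0_39) (col0_40) (Nat.ble 40 c)
noncomputable def col0_s_37_41 (c : Nat) : Nat := @Bool.rec (fun _ => Nat) (col0_s_37_39 c) (col0_s_39_41 c) (Nat.ble 39 c)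
noncomputable def col0_s_33_41 (c : Nat) : Nat := @Bool.rec (fun _ => Nat) (col0_s_33_37 c) (col0_s_37_41 c) (Nat.ble 37 c)
noncomputable def col0_s_41_43 (c : Nat) : Nat := @Bool.rec (fun _ => Nat) (col0_41) (col0_42) (Nat.ble 42 c)
noncomputable def col0_s_43_45 (c : Nat) : Nat := @Bool.rec (fun _ => Nat) (col0_43) (col0_44) (Nat.ble 44 c)
noncomputable def col0_s_41_45 (c : Nat) : Nat := @Bool.rec (fun _ => Nat) (col0_s_41_43 c) (col0_s_43_45 c) (Nat.ble 43 c)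
noncomputable def col0_s_45_47 (c : Nat) : Nat := @Bool.rec (fun _ => Nat) (col0_45) (col0_46) (Nat.ble 46 c)
noncomputable def col0_s_47_49 (c : Nat) : Nat := @Bool.rec (fun _ => Nat) (col0_47) (col0_48) (Nat.ble 48 c)
noncomputable def col0_s_45_49 (c : Nat) : Nat := @Bool.rec (fun _ => Nat) (col0_s_45_47 c) (col0_s_47_49 c) (Nat.ble 47 c)
noncomputable def col0_s_41_49 (c : Nat) : Nat := @Bool.rec (fun _ => Nat) (col0_s_41_45 c) (col0_s_45_49 c) (Nat.ble 45 c)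
noncomputable def col0_s_33_49 (c : Nat) : Nat := @Bool.rec (fun _ => Nat) (col0_s_33_41 c) (col0_s_41_49 c) (Nat.ble 41 c)
noncomputable def col0_s_49_51 (c : Nat) : Nat := @Bool.rec (fun _ => Nat) (col0_49) (col0_50) (Nat.ble 50 c)
noncomputable def col0_s_51_53 (c : Nat) : Nat := @Bool.rec (fun _ => Nat) (col0_51) (col0_52) (Nat.ble 52 c)
noncomputable def col0_s_49_53 (c : Nat) : Nat := @Bool.rec (fun _ => Nat) (col0_s_49_51 c) (col0_s_51_53 c) (Nat.ble 51 c)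
noncomputable def col0_s_53_55 (c : Nat) : Nat := @Bool.rec (fun _ => Nat) (col0_53) (col0_54) (Nat.ble 54 c)
noncomputable def col0_s_55_57 (c : Nat) : Nat := @Bool.rec (fun _ => Nat) (col0_55) (col0_56) (Nat.ble 56 c)
noncomputable def col0_s_53_57 (c : Nat) : Nat := @Bool.rec (fun _ => Nat) (col0_s_53_55 c) (col0_s_55_57 c) (Nat.ble 55 c)
noncomputable def col0_s_49_57 (c : Nat) : Nat := @Bool.rec (fun _ => Nat) (col0_s_49_53 c) (col0_s_53_57 c) (Nat.ble 53 c)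
noncomputable def col0_s_57_59 (c : Nat) : Nat := @Bool.rec (fun _ => Nat) (col0_57) (col0_58) (Nat.ble 58 c)
noncomputable def col0_s_59_61 (c : Nat) : Nat := @Bool.rec (fun _ => Nat) (col0_59) (col0_60) (Nat.ble 60 c)
noncomputable def col0_s_57_61 (c : Nat) : Nat := @Bool.rec (fun _ => Nat) (col0_s_57_59 c) (col0_s_59_61 c) (Nat.ble 59 c)
noncomputable def col0_s_61_63 (c : Nat) : Nat := @Bool.rec (fun _ => Nat) (col0_61) (col0_62) (Nat.ble 62 c)
noncomputable def col0_s_64_66 (c : Nat) : Nat := @Bool.rec (fun _ => Nat) (col0_64) (col0_65) (Nat.ble 65 c)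
noncomputable def col0_s_63_66 (c : Nat) : Nat := @Bool.rec (fun _ => Nat) (col0_63) (col0_s_64_66 c) (Nat.ble 64 c)
noncomputable def col0_s_61_66 (c : Nat) : Nat := @Bool.rec (fun _ => Nat) (col0_s_61_63 c) (col0_s_63_66 c) (Nat.ble 63 c)
noncomputable def col0_s_57_66 (c : Nat) : Nat := @Bool.rec (fun _ => Nat) (col0_s_57_61 c) (col0_s_61_66 c) (Nat.ble 61 c)
noncomputable def col0_s_49_66 (c : Nat) : Nat := @Bool.rec (fun _ => Nat) (col0_s_49_57 c) (col0_s_57_66 c) (Nat.ble 57 c)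
noncomputable def col0_s_33_66 (c : Nat) : Nat := @Bool.rec (fun _ => Nat) (col0_s_33_49 c) (col0_s_49_66 c) (Nat.ble 49 c)
noncomputable def col0_s_0_66 (c : Nat) : Nat := @Bool.rec (fun _ => Nat) (col0_s_0_33 c) (col0_s_33_66 c) (Nat.ble 33 c)
noncomputable def col0 (i : Nat) : Nat := rdw 19 524287 (col0_s_0_66 (Nat.shiftRight i 12)) (Nat.land i 4095)
noncomputable def col1_s_0_2 (c : Nat) : Nat := @Bool.rec (fun _ => Nat) (col1_0) (col1_1) (Nat.ble 1 c)
noncomputable def col1_s_2_4 (c : Nat) : Nat := @Bool.rec (fun _ => Nat) (col1_2) (col1_3) (Nat.ble 3 c)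
noncomputable def col1_s_0_4 (c : Nat) : Nat := @Bool.rec (fun _ => Nat) (col1_s_0_2 c) (col1_s_2_4 c) (Nat.ble 2 c)
noncomputable def col1_s_4_6 (c : Nat) : Nat := @Bool.rec (fun _ => Nat) (col1_4) (col1_5) (Nat.ble 5 c)
noncomputable def col1_s_6_8 (c : Nat) : Nat := @Bool.rec (fun _ => Nat) (col1_6) (col1_7) (Nat.ble 7 c)
noncomputable def col1_s_4_8 (c : Nat) : Nat := @Bool.rec (fun _ => Nat) (col1_s_4_6 c) (col1_s_6_8 c) (Nat.ble 6 c)
noncomputable def col1_s_0_8 (c : Nat) : Nat := @Bool.rec (fun _ => Nat) (col1_s_0_4 c) (col1_s_4_8 c) (Nat.ble 4 c)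
noncomputable def col1_s_8_10 (c : Nat) : Nat := @Bool.rec (fun _ => Nat) (col1_8) (col1_9) (Nat.ble 9 c)
noncomputable def col1_s_10_12 (c : Nat) : Nat := @Bool.rec (fun _ => Nat) (col1_10) (col1_11) (Nat.ble 11 c)
noncomputable def col1_s_8_12 (c : Nat) : Nat := @Bool.rec (fun _ => Nat) (col1_s_8_10 c) (col1_s_10_12 c) (Nat.ble 10 c)
noncomputable def col1_s_12_14 (c : Nat) : Nat := @Bool.rec (fun _ => Nat) (col1_12) (col1_13) (Nat.ble 13 c)
noncomputable def col1_s_14_16 (c : Nat) : Nat := @Bool.rec (fun _ => Nat) (col1_14) (col1_15) (Nat.ble 15 c)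
noncomputable def col1_s_12_16 (c : Nat) : Nat := @Bool.rec (fun _ => Nat) (col1_s_12_14 c) (col1_s_14_16 c) (Nat.ble 14 c)
noncomputable def col1_s_8_16 (c : Nat) : Nat := @Bool.rec (fun _ => Nat) (col1_s_8_12 c) (col1_s_12_16 c) (Nat.ble 12 c)
noncomputable def col1_s_0_16 (c : Nat) : Nat := @Bool.rec (fun _ => Nat) (col1_s_0_8 c) (col1_s_8_16 c) (Nat.ble 8 c)
noncomputable def col1_s_16_18 (c : Nat) : Nat := @Bool.rec (fun _ => Nat) (col1_16) (col1_17) (Nat.ble 17 c)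
noncomputable def col1_s_18_20 (c : Nat) : Nat := @Bool.rec (fun _ => Nat) (col1_18) (col1_19) (Nat.ble 19 c)
noncomputable def col1_s_16_20 (c : Nat) : Nat := @Bool.rec (fun _ => Nat) (col1_s_16_18 c) (col1_s_18_20 c) (Nat.ble 18 c)
noncomputable def col1_s_20_22 (c : Nat) : Nat := @Bool.rec (fun _ => Nat) (col1_20) (col1_21) (Nat.ble 21 c)
noncomputable def col1_s_22_24 (c : Nat) : Nat := @Bool.rec (fun _ => Nat) (col1_22) (col1_23) (Nat.ble 23 c)
noncomputable def col1_s_20_24 (c : Nat) : Nat := @Bool.rec (fun _ => Nat) (col1_s_20_22 c) (col1_s_22_24 c) (Nat.ble 22 c)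
noncomputable def col1_s_16_24 (c : Nat) : Nat := @Bool.rec (fun _ => Nat) (col1_s_16_20 c) (col1_s_20_24 c) (Nat.ble 20 c)
noncomputable def col1_s_24_26 (c : Nat) : Nat := @Bool.rec (fun _ => Nat) (col1_24) (col1_25) (Nat.ble 25 c)
noncomputable def col1_s_26_28 (c : Nat) : Nat := @Bool.rec (fun _ => Nat) (col1_26) (col1_27) (Nat.ble 27 c)
noncomputable def col1_s_24_28 (c : Nat) : Nat := @Bool.rec (fun _ => Nat) (col1_s_24_26 c) (col1_s_26_28 c) (Nat.ble 26 c)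
noncomputable def col1_s_28_30 (c : Nat) : Nat := @Bool.rec (fun _ => Nat) (col1_28) (col1_29) (Nat.ble 29 c)
noncomputable def col1_s_31_33 (c : Nat) : Nat := @Bool.rec (fun _ => Nat) (col1_31) (col1_32) (Nat.ble 32 c)
noncomputable def col1_s_30_33 (c : Nat) : Nat := @Bool.rec (fun _ => Nat) (col1_30) (col1_s_31_33 c) (Nat.ble 31 c)
noncomputable def col1_s_28_33 (c : Nat) : Nat := @Bool.rec (fun _ => Nat) (col1_s_28_30 c) (col1_s_30_33 c) (Nat.ble 30 c)
noncomputable def col1_s_24_33 (c : Nat) : Nat := @Bool.rec (fun _ => Nat) (col1_s_24_28 c) (col1_s_28_33 c) (Nat.ble 28 c)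
noncomputable def col1_s_16_33 (c : Nat) : Nat := @Bool.rec (fun _ => Nat) (col1_s_16_24 c) (col1_s_24_33 c) (Nat.ble 24 c)
noncomputable def col1_s_0_33 (c : Nat) : Nat := @Bool.rec (fun _ => Nat) (col1_s_0_16 c) (col1_s_16_33 c) (Nat.ble 16 c)
noncomputable def col1_s_33_35 (c : Nat) : Nat := @Bool.rec (fun _ => Nat) (col1_33) (col1_34) (Nat.ble 34 c)
noncomputable def col1_s_35_37 (c : Nat) : Nat := @Bool.rec (fun _ => Nat) (col1_35) (col1_36) (Nat.ble 36 c)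
noncomputable def col1_s_33_37 (c : Nat) : Nat := @Bool.rec (fun _ => Nat) (col1_s_33_35 c) (col1_s_35_37 c) (Nat.ble 35 c)
noncomputable def col1_s_37_39 (c : Nat) : Nat := @Bool.rec (fun _ => Nat) (col1_37) (col1_38) (Nat.ble 38 c)
noncomputable def col1_s_39_41 (c : Nat) : Nat := @Bool.rec (fun _ => Nat) (col1_39) (col1_40) (Nat.ble 40 c)
noncomputable def col1_s_37_41 (c : Nat) : Nat := @Bool.rec (fun _ => Nat) (col1_s_37_39 c) (col1_s_39_41 c) (Nat.ble 39 c)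
noncomputable def col1_s_33_41 (c : Nat) : Nat := @Bool.rec (fun _ => Nat) (col1_s_33_37 c) (col1_s_37_41 c) (Nat.ble 37 c)
noncomputable def col1_s_41_43 (c : Nat) : Nat := @Bool.rec (fun _ => Nat) (col1_41) (col1_42) (Nat.ble 42 c)
noncomputable def col1_s_43_45 (c : Nat) : Nat := @Bool.rec (fun _ => Nat) (col1_43) (col1_44) (Nat.ble 44 c)
noncomputable def col1_s_41_45 (c : Nat) : Nat := @Bool.rec (fun _ => Nat) (col1_s_41_43 c) (col1_s_43_45 c) (Nat.ble 43 c)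
noncomputable def col1_s_45_47 (c : Nat) : Nat := @Bool.rec (fun _ => Nat) (col1_45) (col1_46) (Nat.ble 46 c)
noncomputable def col1_s_47_49 (c : Nat) : Nat := @Bool.rec (fun _ => Nat) (col1_47) (col1_48) (Nat.ble 48 c)
noncomputable def col1_s_45_49 (c : Nat) : Nat := @Bool.rec (fun _ => Nat) (col1_s_45_47 c) (col1_s_47_49 c) (Nat.ble 47 c)
noncomputable def col1_s_41_49 (c : Nat) : Nat := @Bool.rec (fun _ => Nat) (col1_s_41_45 c) (col1_s_45_49 c) (Nat.ble 45 c)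
noncomputable def col1_s_33_49 (c : Nat) : Nat := @Bool.rec (fun _ => Nat) (col1_s_33_41 c) (col1_s_41_49 c) (Nat.ble 41 c)
noncomputable def col1_s_49_51 (c : Nat) : Nat := @Bool.rec (fun _ => Nat) (col1_49) (col1_50) (Nat.ble 50 c)
noncomputable def col1_s_51_53 (c : Nat) : Nat := @Bool.rec (fun _ => Nat) (col1_51) (col1_52) (Nat.ble 52 c)
noncomputable def col1_s_49_53 (c : Nat) : Nat := @Bool.rec (fun _ => Nat) (col1_s_49_51 c) (col1_s_51_53 c) (Nat.ble 51 c)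
noncomputable def col1_s_53_55 (c : Nat) : Nat := @Bool.rec (fun _ => Nat) (col1_53) (col1_54) (Nat.ble 54 c)
noncomputable def col1_s_55_57 (c : Nat) : Nat := @Bool.rec (fun _ => Nat) (col1_55) (col1_56) (Nat.ble 56 c)
noncomputable def col1_s_53_57 (c : Nat) : Nat := @Bool.rec (fun _ => Nat) (col1_s_53_55 c) (col1_s_55_57 c) (Nat.ble 55 c)
noncomputable def col1_s_49_57 (c : Nat) : Nat := @Bool.rec (fun _ => Nat) (col1_s_49_53 c) (col1_s_53_57 c) (Nat.ble 53 c)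
noncomputable def col1_s_57_59 (c : Nat) : Nat := @Bool.rec (fun _ => Nat) (col1_57) (col1_58) (Nat.ble 58 c)
noncomputable def col1_s_59_61 (c : Nat) : Nat := @Bool.rec (fun _ => Nat) (col1_59) (col1_60) (Nat.ble 60 c)
noncomputable def col1_s_57_61 (c : Nat) : Nat := @Bool.rec (fun _ => Nat) (col1_s_57_59 c) (col1_s_59_61 c) (Nat.ble 59 c)
noncomputable def col1_s_61_63 (c : Nat) : Nat := @Bool.rec (fun _ => Nat) (col1_61) (col1_62) (Nat.ble 62 c)
noncomputable def col1_s_64_66 (c : Nat) : Nat := @Bool.rec (fun _ => Nat) (col1_64) (col1_65) (Nat.ble 65 c)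
noncomputable def col1_s_63_66 (c : Nat) : Nat := @Bool.rec (fun _ => Nat) (col1_63) (col1_s_64_66 c) (Nat.ble 64 c)
noncomputable def col1_s_61_66 (c : Nat) : Nat := @Bool.rec (fun _ => Nat) (col1_s_61_63 c) (col1_s_63_66 c) (Nat.ble 63 c)
noncomputable def col1_s_57_66 (c : Nat) : Nat := @Bool.rec (fun _ => Nat) (col1_s_57_61 c) (col1_s_61_66 c) (Nat.ble 61 c)
noncomputable def col1_s_49_66 (c : Nat) : Nat := @Bool.rec (fun _ => Nat) (col1_s_49_57 c) (col1_s_57_66 c) (Nat.ble 57 c)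
noncomputable def col1_s_33_66 (c : Nat) : Nat := @Bool.rec (fun _ => Nat) (col1_s_33_49 c) (col1_s_49_66 c) (Nat.ble 49 c)
noncomputable def col1_s_0_66 (c : Nat) : Nat := @Bool.rec (fun _ => Nat) (col1_s_0_33 c) (col1_s_33_66 c) (Nat.ble 33 c)
noncomputable def col1 (i : Nat) : Nat := rdw 19 524287 (col1_s_0_66 (Nat.shiftRight i 12)) (Nat.land i 4095)
noncomputable def col2_s_0_2 (c : Nat) : Nat := @Bool.rec (fun _ => Nat) (col2_0) (col2_1) (Nat.ble 1 c)
noncomputable def col2_s_2_4 (c : Nat) : Nat := @Bool.rec (fun _ => Nat) (col2_2) (col2_3) (Nat.ble 3 c)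
noncomputable def col2_s_0_4 (c : Nat) : Nat := @Bool.rec (fun _ => Nat) (col2_s_0_2 c) (col2_s_2_4 c) (Nat.ble 2 c)
noncomputable def col2_s_4_6 (c : Nat) : Nat := @Bool.rec (fun _ => Nat) (col2_4) (col2_5) (Nat.ble 5 c)
noncomputable def col2_s_6_8 (c : Nat) : Nat := @Bool.rec (fun _ => Nat) (col2_6) (col2_7) (Nat.ble 7 c)
noncomputable def col2_s_4_8 (c : Nat) : Nat := @Bool.rec (fun _ => Nat) (col2_s_4_6 c) (col2_s_6_8 c) (Nat.ble 6 c)
noncomputable def col2_s_0_8 (c : Nat) : Nat := @Bool.rec (fun _ => Nat) (col2_s_0_4 c) (col2_s_4_8 c) (Nat.ble 4 c)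
noncomputable def col2_s_8_10 (c : Nat) : Nat := @Bool.rec (fun _ => Nat) (col2_8) (col2_9) (Nat.ble 9 c)
noncomputable def col2_s_10_12 (c : Nat) : Nat := @Bool.rec (fun _ => Nat) (col2_10) (col2_11) (Nat.ble 11 c)
noncomputable def col2_s_8_12 (c : Nat) : Nat := @Bool.rec (fun _ => Nat) (col2_s_8_10 c) (col2_s_10_12 c) (Nat.ble 10 c)
noncomputable def col2_s_12_14 (c : Nat) : Nat := @Bool.rec (fun _ => Nat) (col2_12) (col2_13) (Nat.ble 13 c)
noncomputable def col2_s_14_16 (c : Nat) : Nat := @Bool.rec (fun _ => Nat) (col2_14) (col2_15) (Nat.ble 15 c)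
noncomputable def col2_s_12_16 (c : Nat) : Nat := @Bool.rec (fun _ => Nat) (col2_s_12_14 c) (col2_s_14_16 c) (Nat.ble 14 c)
noncomputable def col2_s_8_16 (c : Nat) : Nat := @Bool.rec (fun _ => Nat) (col2_s_8_12 c) (col2_s_12_16 c) (Nat.ble 12 c)
noncomputable def col2_s_0_16 (c : Nat) : Nat := @Bool.rec (fun _ => Nat) (col2_s_0_8 c) (col2_s_8_16 c) (Nat.ble 8 c)
noncomputable def col2_s_16_18 (c : Nat) : Nat := @Bool.rec (fun _ => Nat) (col2_16) (col2_17) (Nat.ble 17 c)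
noncomputable def col2_s_18_20 (c : Nat) : Nat := @Bool.rec (fun _ => Nat) (col2_18) (col2_19) (Nat.ble 19 c)
noncomputable def col2_s_16_20 (c : Nat) : Nat := @Bool.rec (fun _ => Nat) (col2_s_16_18 c) (col2_s_18_20 c) (Nat.ble 18 c)
noncomputable def col2_s_20_22 (c : Nat) : Nat := @Bool.rec (fun _ => Nat) (col2_20) (col2_21) (Nat.ble 21 c)
noncomputable def col2_s_22_24 (c : Nat) : Nat := @Bool.rec (fun _ => Nat) (col2_22) (col2_23) (Nat.ble 23 c)
noncomputable def col2_s_20_24 (c : Nat) : Nat := @Bool.rec (fun _ => Nat) (col2_s_20_22 c) (col2_s_22_24 c) (Nat.ble 22 c)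
noncomputable def col2_s_16_24 (c : Nat) : Nat := @Bool.rec (fun _ => Nat) (col2_s_16_20 c) (col2_s_20_24 c) (Nat.ble 20 c)
noncomputable def col2_s_24_26 (c : Nat) : Nat := @Bool.rec (fun _ => Nat) (col2_24) (col2_25) (Nat.ble 25 c)
noncomputable def col2_s_26_28 (c : Nat) : Nat := @Bool.rec (fun _ => Nat) (col2_26) (col2_27) (Nat.ble 27 c)
noncomputable def col2_s_24_28 (c : Nat) : Nat := @Bool.rec (fun _ => Nat) (col2_s_24_26 c) (col2_s_26_28 c) (Nat.ble 26 c)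
noncomputable def col2_s_28_30 (c : Nat) : Nat := @Bool.rec (fun _ => Nat) (col2_28) (col2_29) (Nat.ble 29 c)
noncomputable def col2_s_31_33 (c : Nat) : Nat := @Bool.rec (fun _ => Nat) (col2_31) (col2_32) (Nat.ble 32 c)
noncomputable def col2_s_30_33 (c : Nat) : Nat := @Bool.rec (fun _ => Nat) (col2_30) (col2_s_31_33 c) (Nat.ble 31 c)
noncomputable def col2_s_28_33 (c : Nat) : Nat := @Bool.rec (fun _ => Nat) (col2_s_28_30 c) (col2_s_30_33 c) (Nat.ble 30 c)
noncomputable def col2_s_24_33 (c : Nat) : Nat := @Bool.rec (fun _ => Nat) (col2_s_24_28 c) (col2_s_28_33 c) (Nat.ble 28 c)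
noncomputable def col2_s_16_33 (c : Nat) : Nat := @Bool.rec (fun _ => Nat) (col2_s_16_24 c) (col2_s_24_33 c) (Nat.ble 24 c)
noncomputable def col2_s_0_33 (c : Nat) : Nat := @Bool.rec (fun _ => Nat) (col2_s_0_16 c) (col2_s_16_33 c) (Nat.ble 16 c)
noncomputable def col2_s_33_35 (c : Nat) : Nat := @Bool.rec (fun _ => Nat) (col2_33) (col2_34) (Nat.ble 34 c)
noncomputable def col2_s_35_37 (c : Nat) : Nat := @Bool.rec (fun _ => Nat) (col2_35) (col2_36) (Nat.ble 36 c)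
noncomputable def col2_s_33_37 (c : Nat) : Nat := @Bool.rec (fun _ => Nat) (col2_s_33_35 c) (col2_s_35_37 c) (Nat.ble 35 c)
noncomputable def col2_s_37_39 (c : Nat) : Nat := @Bool.rec (fun _ => Nat) (col2_37) (col2_38) (Nat.ble 38 c)
noncomputable def col2_s_39_41 (c : Nat) : Nat := @Bool.rec (fun _ => Nat) (col2_39) (col2_40) (Nat.ble 40 c)
noncomputable def col2_s_37_41 (c : Nat) : Nat := @Bool.rec (fun _ => Nat) (col2_s_37_39 c) (col2_s_39_41 c) (Nat.ble 39 c)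
noncomputable def col2_s_33_41 (c : Nat) : Nat := @Bool.rec (fun _ => Nat) (col2_s_33_37 c) (col2_s_37_41 c) (Nat.ble 37 c)
noncomputable def col2_s_41_43 (c : Nat) : Nat := @Bool.rec (fun _ => Nat) (col2_41) (col2_42) (Nat.ble 42 c)
noncomputable def col2_s_43_45 (c : Nat) : Nat := @Bool.rec (fun _ => Nat) (col2_43) (col2_44) (Nat.ble 44 c)
noncomputable def col2_s_41_45 (c : Nat) : Nat := @Bool.rec (fun _ => Nat) (col2_s_41_43 c) (col2_s_43_45 c) (Nat.ble 43 c)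
noncomputable def col2_s_45_47 (c : Nat) : Nat := @Bool.rec (fun _ => Nat) (col2_45) (col2_46) (Nat.ble 46 c)
noncomputable def col2_s_47_49 (c : Nat) : Nat := @Bool.rec (fun _ => Nat) (col2_47) (col2_48) (Nat.ble 48 c)
noncomputable def col2_s_45_49 (c : Nat) : Nat := @Bool.rec (fun _ => Nat) (col2_s_45_47 c) (col2_s_47_49 c) (Nat.ble 47 c)
noncomputable def col2_s_41_49 (c : Nat) : Nat := @Bool.rec (fun _ => Nat) (col2_s_41_45 c) (col2_s_45_49 c) (Nat.ble 45 c)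
noncomputable def col2_s_33_49 (c : Nat) : Nat := @Bool.rec (fun _ => Nat) (col2_s_33_41 c) (col2_s_41_49 c) (Nat.ble 41 c)
noncomputable def col2_s_49_51 (c : Nat) : Nat := @Bool.rec (fun _ => Nat) (col2_49) (col2_50) (Nat.ble 50 c)
noncomputable def col2_s_51_53 (c : Nat) : Nat := @Bool.rec (fun _ => Nat) (col2_51) (col2_52) (Nat.ble 52 c)
noncomputable def col2_s_49_53 (c : Nat) : Nat := @Bool.rec (fun _ => Nat) (col2_s_49_51 c) (col2_s_51_53 c) (Nat.ble 51 c)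
noncomputable def col2_s_53_55 (c : Nat) : Nat := @Bool.rec (fun _ => Nat) (col2_53) (col2_54) (Nat.ble 54 c)
noncomputable def col2_s_55_57 (c : Nat) : Nat := @Bool.rec (fun _ => Nat) (col2_55) (col2_56) (Nat.ble 56 c)
noncomputable def col2_s_53_57 (c : Nat) : Nat := @Bool.rec (fun _ => Nat) (col2_s_53_55 c) (col2_s_55_57 c) (Nat.ble 55 c)
noncomputable def col2_s_49_57 (c : Nat) : Nat := @Bool.rec (fun _ => Nat) (col2_s_49_53 c) (col2_s_53_57 c) (Nat.ble 53 c)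
noncomputable def col2_s_57_59 (c : Nat) : Nat := @Bool.rec (fun _ => Nat) (col2_57) (col2_58) (Nat.ble 58 c)
noncomputable def col2_s_59_61 (c : Nat) : Nat := @Bool.rec (fun _ => Nat) (col2_59) (col2_60) (Nat.ble 60 c)
noncomputable def col2_s_57_61 (c : Nat) : Nat := @Bool.rec (fun _ => Nat) (col2_s_57_59 c) (col2_s_59_61 c) (Nat.ble 59 c)
noncomputable def col2_s_61_63 (c : Nat) : Nat := @Bool.rec (fun _ => Nat) (col2_61) (col2_62) (Nat.ble 62 c)
noncomputable def col2_s_64_66 (c : Nat) : Nat := @Bool.rec (fun _ => Nat) (col2_64) (col2_65) (Nat.ble 65 c)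
noncomputable def col2_s_63_66 (c : Nat) : Nat := @Bool.rec (fun _ => Nat) (col2_63) (col2_s_64_66 c) (Nat.ble 64 c)
noncomputable def col2_s_61_66 (c : Nat) : Nat := @Bool.rec (fun _ => Nat) (col2_s_61_63 c) (col2_s_63_66 c) (Nat.ble 63 c)
noncomputable def col2_s_57_66 (c : Nat) : Nat := @Bool.rec (fun _ => Nat) (col2_s_57_61 c) (col2_s_61_66 c) (Nat.ble 61 c)
noncomputable def col2_s_49_66 (c : Nat) : Nat := @Bool.rec (fun _ => Nat) (col2_s_49_57 c) (col2_s_57_66 c) (Nat.ble 57 c)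
noncomputable def col2_s_33_66 (c : Nat) : Nat := @Bool.rec (fun _ => Nat) (col2_s_33_49 c) (col2_s_49_66 c) (Nat.ble 49 c)
noncomputable def col2_s_0_66 (c : Nat) : Nat := @Bool.rec (fun _ => Nat) (col2_s_0_33 c) (col2_s_33_66 c) (Nat.ble 33 c)
noncomputable def col2 (i : Nat) : Nat := rdw 19 524287 (col2_s_0_66 (Nat.shiftRight i 12)) (Nat.land i 4095)
noncomputable def col3_s_0_2 (c : Nat) : Nat := @Bool.rec (fun _ => Nat) (col3_0) (col3_1) (Nat.ble 1 c)
noncomputable def col3_s_2_4 (c : Nat) : Nat := @Bool.rec (fun _ => Nat) (col3_2) (col3_3) (Nat.ble 3 c)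
noncomputable def col3_s_0_4 (c : Nat) : Nat := @Bool.rec (fun _ => Nat) (col3_s_0_2 c) (col3_s_2_4 c) (Nat.ble 2 c)
noncomputable def col3_s_4_6 (c : Nat) : Nat := @Bool.rec (fun _ => Nat) (col3_4) (col3_5) (Nat.ble 5 c)
noncomputable def col3_s_6_8 (c : Nat) : Nat := @Bool.rec (fun _ => Nat) (col3_6) (col3_7) (Nat.ble 7 c)
noncomputable def col3_s_4_8 (c : Nat) : Nat := @Bool.rec (fun _ => Nat) (col3_s_4_6 c) (col3_s_6_8 c) (Nat.ble 6 c)
noncomputable def col3_s_0_8 (c : Nat) : Nat := @Bool.rec (fun _ => Nat) (col3_s_0_4 c) (col3_s_4_8 c) (Nat.ble 4 c)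
noncomputable def col3_s_8_10 (c : Nat) : Nat := @Bool.rec (fun _ => Nat) (col3_8) (col3_9) (Nat.ble 9 c)
noncomputable def col3_s_10_12 (c : Nat) : Nat := @Bool.rec (fun _ => Nat) (col3_10) (col3_11) (Nat.ble 11 c)
noncomputable def col3_s_8_12 (c : Nat) : Nat := @Bool.rec (fun _ => Nat) (col3_s_8_10 c) (col3_s_10_12 c) (Nat.ble 10 c)
noncomputable def col3_s_12_14 (c : Nat) : Nat := @Bool.rec (fun _ => Nat) (col3_12) (col3_13) (Nat.ble 13 c)
noncomputable def col3_s_14_16 (c : Nat) : Nat := @Bool.rec (fun _ => Nat) (col3_14) (col3_15) (Nat.ble 15 c)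
noncomputable def col3_s_12_16 (c : Nat) : Nat := @Bool.rec (fun _ => Nat) (col3_s_12_14 c) (col3_s_14_16 c) (Nat.ble 14 c)
noncomputable def col3_s_8_16 (c : Nat) : Nat := @Bool.rec (fun _ => Nat) (col3_s_8_12 c) (col3_s_12_16 c) (Nat.ble 12 c)
noncomputable def col3_s_0_16 (c : Nat) : Nat := @Bool.rec (fun _ => Nat) (col3_s_0_8 c) (col3_s_8_16 c) (Nat.ble 8 c)
noncomputable def col3_s_16_18 (c : Nat) : Nat := @Bool.rec (fun _ => Nat) (col3_16) (col3_17) (Nat.ble 17 c)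
noncomputable def col3_s_18_20 (c : Nat) : Nat := @Bool.rec (fun _ => Nat) (col3_18) (col3_19) (Nat.ble 19 c)
noncomputable def col3_s_16_20 (c : Nat) : Nat := @Bool.rec (fun _ => Nat) (col3_s_16_18 c) (col3_s_18_20 c) (Nat.ble 18 c)
noncomputable def col3_s_20_22 (c : Nat) : Nat := @Bool.rec (fun _ => Nat) (col3_20) (col3_21) (Nat.ble 21 c)
noncomputable def col3_s_22_24 (c : Nat) : Nat := @Bool.rec (fun _ => Nat) (col3_22) (col3_23) (Nat.ble 23 c)
noncomputable def col3_s_20_24 (c : Nat) : Nat := @Bool.rec (fun _ => Nat) (col3_s_20_22 c) (col3_s_22_24 c) (Nat.ble 22 c)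
noncomputable def col3_s_16_24 (c : Nat) : Nat := @Bool.rec (fun _ => Nat) (col3_s_16_20 c) (col3_s_20_24 c) (Nat.ble 20 c)
noncomputable def col3_s_24_26 (c : Nat) : Nat := @Bool.rec (fun _ => Nat) (col3_24) (col3_25) (Nat.ble 25 c)
noncomputable def col3_s_26_28 (c : Nat) : Nat := @Bool.rec (fun _ => Nat) (col3_26) (col3_27) (Nat.ble 27 c)
noncomputable def col3_s_24_28 (c : Nat) : Nat := @Bool.rec (fun _ => Nat) (col3_s_24_26 c) (col3_s_26_28 c) (Nat.ble 26 c)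
noncomputable def col3_s_28_30 (c : Nat) : Nat := @Bool.rec (fun _ => Nat) (col3_28) (col3_29) (Nat.ble 29 c)
noncomputable def col3_s_31_33 (c : Nat) : Nat := @Bool.rec (fun _ => Nat) (col3_31) (col3_32) (Nat.ble 32 c)
noncomputable def col3_s_30_33 (c : Nat) : Nat := @Bool.rec (fun _ => Nat) (col3_30) (col3_s_31_33 c) (Nat.ble 31 c)
noncomputable def col3_s_28_33 (c : Nat) : Nat := @Bool.rec (fun _ => Nat) (col3_s_28_30 c) (col3_s_30_33 c) (Nat.ble 30 c)
noncomputable def col3_s_24_33 (c : Nat) : Nat := @Bool.rec (fun _ => Nat) (col3_s_24_28 c) (col3_s_28_33 c) (Nat.ble 28 c)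
noncomputable def col3_s_16_33 (c : Nat) : Nat := @Bool.rec (fun _ => Nat) (col3_s_16_24 c) (col3_s_24_33 c) (Nat.ble 24 c)
noncomputable def col3_s_0_33 (c : Nat) : Nat := @Bool.rec (fun _ => Nat) (col3_s_0_16 c) (col3_s_16_33 c) (Nat.ble 16 c)
noncomputable def col3_s_33_35 (c : Nat) : Nat := @Bool.rec (fun _ => Nat) (col3_33) (col3_34) (Nat.ble 34 c)
noncomputable def col3_s_35_37 (c : Nat) : Nat := @Bool.rec (fun _ => Nat) (col3_35) (col3_36) (Nat.ble 36 c)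
noncomputable def col3_s_33_37 (c : Nat) : Nat := @Bool.rec (fun _ => Nat) (col3_s_33_35 c) (col3_s_35_37 c) (Nat.ble 35 c)
noncomputable def col3_s_37_39 (c : Nat) : Nat := @Bool.rec (fun _ => Nat) (col3_37) (col3_38) (Nat.ble 38 c)
noncomputable def col3_s_39_41 (c : Nat) : Nat := @Bool.rec (fun _ => Nat) (col3_39) (col3_40) (Nat.ble 40 c)
noncomputable def col3_s_37_41 (c : Nat) : Nat := @Bool.rec (fun _ => Nat) (col3_s_37_39 c) (col3_s_39_41 c) (Nat.ble 39 c)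
noncomputable def col3_s_33_41 (c : Nat) : Nat := @Bool.rec (fun _ => Nat) (col3_s_33_37 c) (col3_s_37_41 c) (Nat.ble 37 c)
noncomputable def col3_s_41_43 (c : Nat) : Nat := @Bool.rec (fun _ => Nat) (col3_41) (col3_42) (Nat.ble 42 c)
noncomputable def col3_s_43_45 (c : Nat) : Nat := @Bool.rec (fun _ => Nat) (col3_43) (col3_44) (Nat.ble 44 c)
noncomputable def col3_s_41_45 (c : Nat) : Nat := @Bool.rec (fun _ => Nat) (col3_s_41_43 c) (col3_s_43_45 c) (Nat.ble 43 c)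
noncomputable def col3_s_45_47 (c : Nat) : Nat := @Bool.rec (fun _ => Nat) (col3_45) (col3_46) (Nat.ble 46 c)
noncomputable def col3_s_47_49 (c : Nat) : Nat := @Bool.rec (fun _ => Nat) (col3_47) (col3_48) (Nat.ble 48 c)
noncomputable def col3_s_45_49 (c : Nat) : Nat := @Bool.rec (fun _ => Nat) (col3_s_45_47 c) (col3_s_47_49 c) (Nat.ble 47 c)
noncomputable def col3_s_41_49 (c : Nat) : Nat := @Bool.rec (fun _ => Nat) (col3_s_41_45 c) (col3_s_45_49 c) (Nat.ble 45 c)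
noncomputable def col3_s_33_49 (c : Nat) : Nat := @Bool.rec (fun _ => Nat) (col3_s_33_41 c) (col3_s_41_49 c) (Nat.ble 41 c)
noncomputable def col3_s_49_51 (c : Nat) : Nat := @Bool.rec (fun _ => Nat) (col3_49) (col3_50) (Nat.ble 50 c)
noncomputable def col3_s_51_53 (c : Nat) : Nat := @Bool.rec (fun _ => Nat) (col3_51) (col3_52) (Nat.ble 52 c)
noncomputable def col3_s_49_53 (c : Nat) : Nat := @Bool.rec (fun _ => Nat) (col3_s_49_51 c) (col3_s_51_53 c) (Nat.ble 51 c)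
noncomputable def col3_s_53_55 (c : Nat) : Nat := @Bool.rec (fun _ => Nat) (col3_53) (col3_54) (Nat.ble 54 c)
noncomputable def col3_s_55_57 (c : Nat) : Nat := @Bool.rec (fun _ => Nat) (col3_55) (col3_56) (Nat.ble 56 c)
noncomputable def col3_s_53_57 (c : Nat) : Nat := @Bool.rec (fun _ => Nat) (col3_s_53_55 c) (col3_s_55_57 c) (Nat.ble 55 c)
noncomputable def col3_s_49_57 (c : Nat) : Nat := @Bool.rec (fun _ => Nat) (col3_s_49_53 c) (col3_s_53_57 c) (Nat.ble 53 c)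
noncomputable def col3_s_57_59 (c : Nat) : Nat := @Bool.rec (fun _ => Nat) (col3_57) (col3_58) (Nat.ble 58 c)
noncomputable def col3_s_59_61 (c : Nat) : Nat := @Bool.rec (fun _ => Nat) (col3_59) (col3_60) (Nat.ble 60 c)
noncomputable def col3_s_57_61 (c : Nat) : Nat := @Bool.rec (fun _ => Nat) (col3_s_57_59 c) (col3_s_59_61 c) (Nat.ble 59 c)
noncomputable def col3_s_61_63 (c : Nat) : Nat := @Bool.rec (fun _ => Nat) (col3_61) (col3_62) (Nat.ble 62 c)
noncomputable def col3_s_64_66 (c : Nat) : Nat := @Bool.rec (fun _ => Nat) (col3_64) (col3_65) (Nat.ble 65 c)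
noncomputable def col3_s_63_66 (c : Nat) : Nat := @Bool.rec (fun _ => Nat) (col3_63) (col3_s_64_66 c) (Nat.ble 64 c)
noncomputable def col3_s_61_66 (c : Nat) : Nat := @Bool.rec (fun _ => Nat) (col3_s_61_63 c) (col3_s_63_66 c) (Nat.ble 63 c)
noncomputable def col3_s_57_66 (c : Nat) : Nat := @Bool.rec (fun _ => Nat) (col3_s_57_61 c) (col3_s_61_66 c) (Nat.ble 61 c)
noncomputable def col3_s_49_66 (c : Nat) : Nat := @Bool.rec (fun _ => Nat) (col3_s_49_57 c) (col3_s_57_66 c) (Nat.ble 57 c)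
noncomputable def col3_s_33_66 (c : Nat) : Nat := @Bool.rec (fun _ => Nat) (col3_s_33_49 c) (col3_s_49_66 c) (Nat.ble 49 c)
noncomputable def col3_s_0_66 (c : Nat) : Nat := @Bool.rec (fun _ => Nat) (col3_s_0_33 c) (col3_s_33_66 c) (Nat.ble 33 c)
noncomputable def col3 (i : Nat) : Nat := rdw 19 524287 (col3_s_0_66 (Nat.shiftRight i 12)) (Nat.land i 4095)
noncomputable def col4_s_0_2 (c : Nat) : Nat := @Bool.rec (fun _ => Nat) (col4_0) (col4_1) (Nat.ble 1 c)
noncomputable def col4_s_2_4 (c : Nat) : Nat := @Bool.rec (fun _ => Nat) (col4_2) (col4_3) (Nat.ble 3 c)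
noncomputable def col4_s_0_4 (c : Nat) : Nat := @Bool.rec (fun _ => Nat) (col4_s_0_2 c) (col4_s_2_4 c) (Nat.ble 2 c)
noncomputable def col4_s_4_6 (c : Nat) : Nat := @Bool.rec (fun _ => Nat) (col4_4) (col4_5) (Nat.ble 5 c)
noncomputable def col4_s_6_8 (c : Nat) : Nat := @Bool.rec (fun _ => Nat) (col4_6) (col4_7) (Nat.ble 7 c)
noncomputable def col4_s_4_8 (c : Nat) : Nat := @Bool.rec (fun _ => Nat) (col4_s_4_6 c) (col4_s_6_8 c) (Nat.ble 6 c)
noncomputable def col4_s_0_8 (c : Nat) : Nat := @Bool.rec (fun _ => Nat) (col4_s_0_4 c) (col4_s_4_8 c) (Nat.ble 4 c)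
noncomputable def col4_s_8_10 (c : Nat) : Nat := @Bool.rec (fun _ => Nat) (col4_8) (col4_9) (Nat.ble 9 c)
noncomputable def col4_s_10_12 (c : Nat) : Nat := @Bool.rec (fun _ => Nat) (col4_10) (col4_11) (Nat.ble 11 c)
noncomputable def col4_s_8_12 (c : Nat) : Nat := @Bool.rec (fun _ => Nat) (col4_s_8_10 c) (col4_s_10_12 c) (Nat.ble 10 c)
noncomputable def col4_s_12_14 (c : Nat) : Nat := @Bool.rec (fun _ => Nat) (col4_12) (col4_13) (Nat.ble 13 c)
noncomputable def col4_s_14_16 (c : Nat) : Nat := @Bool.rec (fun _ => Nat) (col4_14) (col4_15) (Nat.ble 15 c)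
noncomputable def col4_s_12_16 (c : Nat) : Nat := @Bool.rec (fun _ => Nat) (col4_s_12_14 c) (col4_s_14_16 c) (Nat.ble 14 c)
noncomputable def col4_s_8_16 (c : Nat) : Nat := @Bool.rec (fun _ => Nat) (col4_s_8_12 c) (col4_s_12_16 c) (Nat.ble 12 c)
noncomputable def col4_s_0_16 (c : Nat) : Nat := @Bool.rec (fun _ => Nat) (col4_s_0_8 c) (col4_s_8_16 c) (Nat.ble 8 c)
noncomputable def col4_s_16_18 (c : Nat) : Nat := @Bool.rec (fun _ => Nat) (col4_16) (col4_17) (Nat.ble 17 c)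
noncomputable def col4_s_18_20 (c : Nat) : Nat := @Bool.rec (fun _ => Nat) (col4_18) (col4_19) (Nat.ble 19 c)
noncomputable def col4_s_16_20 (c : Nat) : Nat := @Bool.rec (fun _ => Nat) (col4_s_16_18 c) (col4_s_18_20 c) (Nat.ble 18 c)
noncomputable def col4_s_20_22 (c : Nat) : Nat := @Bool.rec (fun _ => Nat) (col4_20) (col4_21) (Nat.ble 21 c)
noncomputable def col4_s_22_24 (c : Nat) : Nat := @Bool.rec (fun _ => Nat) (col4_22) (col4_23) (Nat.ble 23 c)
noncomputable def col4_s_20_24 (c : Nat) : Nat := @Bool.rec (fun _ => Nat) (col4_s_20_22 c) (col4_s_22_24 c) (Nat.ble 22 c)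
noncomputable def col4_s_16_24 (c : Nat) : Nat := @Bool.rec (fun _ => Nat) (col4_s_16_20 c) (col4_s_20_24 c) (Nat.ble 20 c)
noncomputable def col4_s_24_26 (c : Nat) : Nat := @Bool.rec (fun _ => Nat) (col4_24) (col4_25) (Nat.ble 25 c)
noncomputable def col4_s_26_28 (c : Nat) : Nat := @Bool.rec (fun _ => Nat) (col4_26) (col4_27) (Nat.ble 27 c)
noncomputable def col4_s_24_28 (c : Nat) : Nat := @Bool.rec (fun _ => Nat) (col4_s_24_26 c) (col4_s_26_28 c) (Nat.ble 26 c)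
noncomputable def col4_s_28_30 (c : Nat) : Nat := @Bool.rec (fun _ => Nat) (col4_28) (col4_29) (Nat.ble 29 c)
noncomputable def col4_s_31_33 (c : Nat) : Nat := @Bool.rec (fun _ => Nat) (col4_31) (col4_32) (Nat.ble 32 c)
noncomputable def col4_s_30_33 (c : Nat) : Nat := @Bool.rec (fun _ => Nat) (col4_30) (col4_s_31_33 c) (Nat.ble 31 c)
noncomputable def col4_s_28_33 (c : Nat) : Nat := @Bool.rec (fun _ => Nat) (col4_s_28_30 c) (col4_s_30_33 c) (Nat.ble 30 c)
noncomputable def col4_s_24_33 (c : Nat) : Nat := @Bool.rec (fun _ => Nat) (col4_s_24_28 c) (col4_s_28_33 c) (Nat.ble 28 c)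
noncomputable def col4_s_16_33 (c : Nat) : Nat := @Bool.rec (fun _ => Nat) (col4_s_16_24 c) (col4_s_24_33 c) (Nat.ble 24 c)
noncomputable def col4_s_0_33 (c : Nat) : Nat := @Bool.rec (fun _ => Nat) (col4_s_0_16 c) (col4_s_16_33 c) (Nat.ble 16 c)
noncomputable def col4_s_33_35 (c : Nat) : Nat := @Bool.rec (fun _ => Nat) (col4_33) (col4_34) (Nat.ble 34 c)
noncomputable def col4_s_35_37 (c : Nat) : Nat := @Bool.rec (fun _ => Nat) (col4_35) (col4_36) (Nat.ble 36 c)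
noncomputable def col4_s_33_37 (c : Nat) : Nat := @Bool.rec (fun _ => Nat) (col4_s_33_35 c) (col4_s_35_37 c) (Nat.ble 35 c)
noncomputable def col4_s_37_39 (c : Nat) : Nat := @Bool.rec (fun _ => Nat) (col4_37) (col4_38) (Nat.ble 38 c)
noncomputable def col4_s_39_41 (c : Nat) : Nat := @Bool.rec (fun _ => Nat) (col4_39) (col4_40) (Nat.ble 40 c)
noncomputable def col4_s_37_41 (c : Nat) : Nat := @Bool.rec (fun _ => Nat) (col4_s_37_39 c) (col4_s_39_41 c) (Nat.ble 39 c)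
noncomputable def col4_s_33_41 (c : Nat) : Nat := @Bool.rec (fun _ => Nat) (col4_s_33_37 c) (col4_s_37_41 c) (Nat.ble 37 c)
noncomputable def col4_s_41_43 (c : Nat) : Nat := @Bool.rec (fun _ => Nat) (col4_41) (col4_42) (Nat.ble 42 c)
noncomputable def col4_s_43_45 (c : Nat) : Nat := @Bool.rec (fun _ => Nat) (col4_43) (col4_44) (Nat.ble 44 c)
noncomputable def col4_s_41_45 (c : Nat) : Nat := @Bool.rec (fun _ => Nat) (col4_s_41_43 c) (col4_s_43_45 c) (Nat.ble 43 c)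
noncomputable def col4_s_45_47 (c : Nat) : Nat := @Bool.rec (fun _ => Nat) (col4_45) (col4_46) (Nat.ble 46 c)
noncomputable def col4_s_47_49 (c : Nat) : Nat := @Bool.rec (fun _ => Nat) (col4_47) (col4_48) (Nat.ble 48 c)
noncomputable def col4_s_45_49 (c : Nat) : Nat := @Bool.rec (fun _ => Nat) (col4_s_45_47 c) (col4_s_47_49 c) (Nat.ble 47 c)
noncomputable def col4_s_41_49 (c : Nat) : Nat := @Bool.rec (fun _ => Nat) (col4_s_41_45 c) (col4_s_45_49 c) (Nat.ble 45 c)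
noncomputable def col4_s_33_49 (c : Nat) : Nat := @Bool.rec (fun _ => Nat) (col4_s_33_41 c) (col4_s_41_49 c) (Nat.ble 41 c)
noncomputable def col4_s_49_51 (c : Nat) : Nat := @Bool.rec (fun _ => Nat) (col4_49) (col4_50) (Nat.ble 50 c)
noncomputable def col4_s_51_53 (c : Nat) : Nat := @Bool.rec (fun _ => Nat) (col4_51) (col4_52) (Nat.ble 52 c)
noncomputable def col4_s_49_53 (c : Nat) : Nat := @Bool.rec (fun _ => Nat) (col4_s_49_51 c) (col4_s_51_53 c) (Nat.ble 51 c)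
noncomputable def col4_s_53_55 (c : Nat) : Nat := @Bool.rec (fun _ => Nat) (col4_53) (col4_54) (Nat.ble 54 c)
noncomputable def col4_s_55_57 (c : Nat) : Nat := @Bool.rec (fun _ => Nat) (col4_55) (col4_56) (Nat.ble 56 c)
noncomputable def col4_s_53_57 (c : Nat) : Nat := @Bool.rec (fun _ => Nat) (col4_s_53_55 c) (col4_s_55_57 c) (Nat.ble 55 c)
noncomputable def col4_s_49_57 (c : Nat) : Nat := @Bool.rec (fun _ => Nat) (col4_s_49_53 c) (col4_s_53_57 c) (Nat.ble 53 c)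
noncomputable def col4_s_57_59 (c : Nat) : Nat := @Bool.rec (fun _ => Nat) (col4_57) (col4_58) (Nat.ble 58 c)
noncomputable def col4_s_59_61 (c : Nat) : Nat := @Bool.rec (fun _ => Nat) (col4_59) (col4_60) (Nat.ble 60 c)
noncomputable def col4_s_57_61 (c : Nat) : Nat := @Bool.rec (fun _ => Nat) (col4_s_57_59 c) (col4_s_59_61 c) (Nat.ble 59 c)
noncomputable def col4_s_61_63 (c : Nat) : Nat := @Bool.rec (fun _ => Nat) (col4_61) (col4_62) (Nat.ble 62 c)
noncomputable def col4_s_64_66 (c : Nat) : Nat := @Bool.rec (fun _ => Nat) (col4_64) (col4_65) (Nat.ble 65 c)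
noncomputable def col4_s_63_66 (c : Nat) : Nat := @Bool.rec (fun _ => Nat) (col4_63) (col4_s_64_66 c) (Nat.ble 64 c)
noncomputable def col4_s_61_66 (c : Nat) : Nat := @Bool.rec (fun _ => Nat) (col4_s_61_63 c) (col4_s_63_66 c) (Nat.ble 63 c)
noncomputable def col4_s_57_66 (c : Nat) : Nat := @Bool.rec (fun _ => Nat) (col4_s_57_61 c) (col4_s_61_66 c) (Nat.ble 61 c)
noncomputable def col4_s_49_66 (c : Nat) : Nat := @Bool.rec (fun _ => Nat) (col4_s_49_57 c) (col4_s_57_66 c) (Nat.ble 57 c)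
noncomputable def col4_s_33_66 (c : Nat) : Nat := @Bool.rec (fun _ => Nat) (col4_s_33_49 c) (col4_s_49_66 c) (Nat.ble 49 c)
noncomputable def col4_s_0_66 (c : Nat) : Nat := @Bool.rec (fun _ => Nat) (col4_s_0_33 c) (col4_s_33_66 c) (Nat.ble 33 c)
noncomputable def col4 (i : Nat) : Nat := rdw 19 524287 (col4_s_0_66 (Nat.shiftRight i 12)) (Nat.land i 4095)
noncomputable def col5_s_0_2 (c : Nat) : Nat := @Bool.rec (fun _ => Nat) (col5_0) (col5_1) (Nat.ble 1 c)
noncomputable def col5_s_2_4 (c : Nat) : Nat := @Bool.rec (fun _ => Nat) (col5_2) (col5_3) (Nat.ble 3 c)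
noncomputable def col5_s_0_4 (c : Nat) : Nat := @Bool.rec (fun _ => Nat) (col5_s_0_2 c) (col5_s_2_4 c) (Nat.ble 2 c)
noncomputable def col5_s_4_6 (c : Nat) : Nat := @Bool.rec (fun _ => Nat) (col5_4) (col5_5) (Nat.ble 5 c)
noncomputable def col5_s_6_8 (c : Nat) : Nat := @Bool.rec (fun _ => Nat) (col5_6) (col5_7) (Nat.ble 7 c)
noncomputable def col5_s_4_8 (c : Nat) : Nat := @Bool.rec (fun _ => Nat) (col5_s_4_6 c) (col5_s_6_8 c) (Nat.ble 6 c)
noncomputable def col5_s_0_8 (c : Nat) : Nat := @Bool.rec (fun _ => Nat) (col5_s_0_4 c) (col5_s_4_8 c) (Nat.ble 4 c)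
noncomputable def col5_s_8_10 (c : Nat) : Nat := @Bool.rec (fun _ => Nat) (col5_8) (col5_9) (Nat.ble 9 c)
noncomputable def col5_s_10_12 (c : Nat) : Nat := @Bool.rec (fun _ => Nat) (col5_10) (col5_11) (Nat.ble 11 c)
noncomputable def col5_s_8_12 (c : Nat) : Nat := @Bool.rec (fun _ => Nat) (col5_s_8_10 c) (col5_s_10_12 c) (Nat.ble 10 c)
noncomputable def col5_s_12_14 (c : Nat) : Nat := @Bool.rec (fun _ => Nat) (col5_12) (col5_13) (Nat.ble 13 c)
noncomputable def col5_s_14_16 (c : Nat) : Nat := @Bool.rec (fun _ => Nat) (col5_14) (col5_15) (Nat.ble 15 c)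
noncomputable def col5_s_12_16 (c : Nat) : Nat := @Bool.rec (fun _ => Nat) (col5_s_12_14 c) (col5_s_14_16 c) (Nat.ble 14 c)
noncomputable def col5_s_8_16 (c : Nat) : Nat := @Bool.rec (fun _ => Nat) (col5_s_8_12 c) (col5_s_12_16 c) (Nat.ble 12 c)
noncomputable def col5_s_0_16 (c : Nat) : Nat := @Bool.rec (fun _ => Nat) (col5_s_0_8 c) (col5_s_8_16 c) (Nat.ble 8 c)
noncomputable def col5_s_16_18 (c : Nat) : Nat := @Bool.rec (fun _ => Nat) (col5_16) (col5_17) (Nat.ble 17 c)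
noncomputable def col5_s_18_20 (c : Nat) : Nat := @Bool.rec (fun _ => Nat) (col5_18) (col5_19) (Nat.ble 19 c)
noncomputable def col5_s_16_20 (c : Nat) : Nat := @Bool.rec (fun _ => Nat) (col5_s_16_18 c) (col5_s_18_20 c) (Nat.ble 18 c)
noncomputable def col5_s_20_22 (c : Nat) : Nat := @Bool.rec (fun _ => Nat) (col5_20) (col5_21) (Nat.ble 21 c)
noncomputable def col5_s_22_24 (c : Nat) : Nat := @Bool.rec (fun _ => Nat) (col5_22) (col5_23) (Nat.ble 23 c)
noncomputable def col5_s_20_24 (c : Nat) : Nat := @Bool.rec (fun _ => Nat) (col5_s_20_22 c) (col5_s_22_24 c) (Nat.ble 22 c)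
noncomputable def col5_s_16_24 (c : Nat) : Nat := @Bool.rec (fun _ => Nat) (col5_s_16_20 c) (col5_s_20_24 c) (Nat.ble 20 c)
noncomputable def col5_s_24_26 (c : Nat) : Nat := @Bool.rec (fun _ => Nat) (col5_24) (col5_25) (Nat.ble 25 c)
noncomputable def col5_s_26_28 (c : Nat) : Nat := @Bool.rec (fun _ => Nat) (col5_26) (col5_27) (Nat.ble 27 c)
noncomputable def col5_s_24_28 (c : Nat) : Nat := @Bool.rec (fun _ => Nat) (col5_s_24_26 c) (col5_s_26_28 c) (Nat.ble 26 c)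
noncomputable def col5_s_28_30 (c : Nat) : Nat := @Bool.rec (fun _ => Nat) (col5_28) (col5_29) (Nat.ble 29 c)
noncomputable def col5_s_31_33 (c : Nat) : Nat := @Bool.rec (fun _ => Nat) (col5_31) (col5_32) (Nat.ble 32 c)
noncomputable def col5_s_30_33 (c : Nat) : Nat := @Bool.rec (fun _ => Nat) (col5_30) (col5_s_31_33 c) (Nat.ble 31 c)
noncomputable def col5_s_28_33 (c : Nat) : Nat := @Bool.rec (fun _ => Nat) (col5_s_28_30 c) (col5_s_30_33 c) (Nat.ble 30 c)
noncomputable def col5_s_24_33 (c : Nat) : Nat := @Bool.rec (fun _ => Nat) (col5_s_24_28 c) (col5_s_28_33 c) (Nat.ble 28 c)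
noncomputable def col5_s_16_33 (c : Nat) : Nat := @Bool.rec (fun _ => Nat) (col5_s_16_24 c) (col5_s_24_33 c) (Nat.ble 24 c)
noncomputable def col5_s_0_33 (c : Nat) : Nat := @Bool.rec (fun _ => Nat) (col5_s_0_16 c) (col5_s_16_33 c) (Nat.ble 16 c)
noncomputable def col5_s_33_35 (c : Nat) : Nat := @Bool.rec (fun _ => Nat) (col5_33) (col5_34) (Nat.ble 34 c)
noncomputable def col5_s_35_37 (c : Nat) : Nat := @Bool.rec (fun _ => Nat) (col5_35) (col5_36) (Nat.ble 36 c)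
noncomputable def col5_s_33_37 (c : Nat) : Nat := @Bool.rec (fun _ => Nat) (col5_s_33_35 c) (col5_s_35_37 c) (Nat.ble 35 c)
noncomputable def col5_s_37_39 (c : Nat) : Nat := @Bool.rec (fun _ => Nat) (col5_37) (col5_38) (Nat.ble 38 c)
noncomputable def col5_s_39_41 (c : Nat) : Nat := @Bool.rec (fun _ => Nat) (col5_39) (col5_40) (Nat.ble 40 c)
noncomputable def col5_s_37_41 (c : Nat) : Nat := @Bool.rec (fun _ => Nat) (col5_s_37_39 c) (col5_s_39_41 c) (Nat.ble 39 c)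
noncomputable def col5_s_33_41 (c : Nat) : Nat := @Bool.rec (fun _ => Nat) (col5_s_33_37 c) (col5_s_37_41 c) (Nat.ble 37 c)
noncomputable def col5_s_41_43 (c : Nat) : Nat := @Bool.rec (fun _ => Nat) (col5_41) (col5_42) (Nat.ble 42 c)
noncomputable def col5_s_43_45 (c : Nat) : Nat := @Bool.rec (fun _ => Nat) (col5_43) (col5_44) (Nat.ble 44 c)
noncomputable def col5_s_41_45 (c : Nat) : Nat := @Bool.rec (fun _ => Nat) (col5_s_41_43 c) (col5_s_43_45 c) (Nat.ble 43 c)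
noncomputable def col5_s_45_47 (c : Nat) : Nat := @Bool.rec (fun _ => Nat) (col5_45) (col5_46) (Nat.ble 46 c)
noncomputable def col5_s_47_49 (c : Nat) : Nat := @Bool.rec (fun _ => Nat) (col5_47) (col5_48) (Nat.ble 48 c)
noncomputable def col5_s_45_49 (c : Nat) : Nat := @Bool.rec (fun _ => Nat) (col5_s_45_47 c) (col5_s_47_49 c) (Nat.ble 47 c)
noncomputable def col5_s_41_49 (c : Nat) : Nat := @Bool.rec (fun _ => Nat) (col5_s_41_45 c) (col5_s_45_49 c) (Nat.ble 45 c)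
noncomputable def col5_s_33_49 (c : Nat) : Nat := @Bool.rec (fun _ => Nat) (col5_s_33_41 c) (col5_s_41_49 c) (Nat.ble 41 c)
noncomputable def col5_s_49_51 (c : Nat) : Nat := @Bool.rec (fun _ => Nat) (col5_49) (col5_50) (Nat.ble 50 c)
noncomputable def col5_s_51_53 (c : Nat) : Nat := @Bool.rec (fun _ => Nat) (col5_51) (col5_52) (Nat.ble 52 c)
noncomputable def col5_s_49_53 (c : Nat) : Nat := @Bool.rec (fun _ => Nat) (col5_s_49_51 c) (col5_s_51_53 c) (Nat.ble 51 c)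
noncomputable def col5_s_53_55 (c : Nat) : Nat := @Bool.rec (fun _ => Nat) (col5_53) (col5_54) (Nat.ble 54 c)
noncomputable def col5_s_55_57 (c : Nat) : Nat := @Bool.rec (fun _ => Nat) (col5_55) (col5_56) (Nat.ble 56 c)
noncomputable def col5_s_53_57 (c : Nat) : Nat := @Bool.rec (fun _ => Nat) (col5_s_53_55 c) (col5_s_55_57 c) (Nat.ble 55 c)
noncomputable def col5_s_49_57 (c : Nat) : Nat := @Bool.rec (fun _ => Nat) (col5_s_49_53 c) (col5_s_53_57 c) (Nat.ble 53 c)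
noncomputable def col5_s_57_59 (c : Nat) : Nat := @Bool.rec (fun _ => Nat) (col5_57) (col5_58) (Nat.ble 58 c)
noncomputable def col5_s_59_61 (c : Nat) : Nat := @Bool.rec (fun _ => Nat) (col5_59) (col5_60) (Nat.ble 60 c)
noncomputable def col5_s_57_61 (c : Nat) : Nat := @Bool.rec (fun _ => Nat) (col5_s_57_59 c) (col5_s_59_61 c) (Nat.ble 59 c)
noncomputable def col5_s_61_63 (c : Nat) : Nat := @Bool.rec (fun _ => Nat) (col5_61) (col5_62) (Nat.ble 62 c)
noncomputable def col5_s_64_66 (c : Nat) : Nat := @Bool.rec (fun _ => Nat) (col5_64) (col5_65) (Nat.ble 65 c)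
noncomputable def col5_s_63_66 (c : Nat) : Nat := @Bool.rec (fun _ => Nat) (col5_63) (col5_s_64_66 c) (Nat.ble 64 c)
noncomputable def col5_s_61_66 (c : Nat) : Nat := @Bool.rec (fun _ => Nat) (col5_s_61_63 c) (col5_s_63_66 c) (Nat.ble 63 c)
noncomputable def col5_s_57_66 (c : Nat) : Nat := @Bool.rec (fun _ => Nat) (col5_s_57_61 c) (col5_s_61_66 c) (Nat.ble 61 c)
noncomputable def col5_s_49_66 (c : Nat) : Nat := @Bool.rec (fun _ => Nat) (col5_s_49_57 c) (col5_s_57_66 c) (Nat.ble 57 c)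
noncomputable def col5_s_33_66 (c : Nat) : Nat := @Bool.rec (fun _ => Nat) (col5_s_33_49 c) (col5_s_49_66 c) (Nat.ble 49 c)
noncomputable def col5_s_0_66 (c : Nat) : Nat := @Bool.rec (fun _ => Nat) (col5_s_0_33 c) (col5_s_33_66 c) (Nat.ble 33 c)
noncomputable def col5 (i : Nat) : Nat := rdw 19 524287 (col5_s_0_66 (Nat.shiftRight i 12)) (Nat.land i 4095)
noncomputable def col6_s_0_2 (c : Nat) : Nat := @Bool.rec (fun _ => Nat) (col6_0) (col6_1) (Nat.ble 1 c)
noncomputable def col6_s_2_4 (c : Nat) : Nat := @Bool.rec (fun _ => Nat) (col6_2) (col6_3) (Nat.ble 3 c)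
noncomputable def col6_s_0_4 (c : Nat) : Nat := @Bool.rec (fun _ => Nat) (col6_s_0_2 c) (col6_s_2_4 c) (Nat.ble 2 c)
noncomputable def col6_s_4_6 (c : Nat) : Nat := @Bool.rec (fun _ => Nat) (col6_4) (col6_5) (Nat.ble 5 c)
noncomputable def col6_s_6_8 (c : Nat) : Nat := @Bool.rec (fun _ => Nat) (col6_6) (col6_7) (Nat.ble 7 c)
noncomputable def col6_s_4_8 (c : Nat) : Nat := @Bool.rec (fun _ => Nat) (col6_s_4_6 c) (col6_s_6_8 c) (Nat.ble 6 c)
noncomputable def col6_s_0_8 (c : Nat) : Nat := @Bool.rec (fun _ => Nat) (col6_s_0_4 c) (col6_s_4_8 c) (Nat.ble 4 c)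
noncomputable def col6_s_8_10 (c : Nat) : Nat := @Bool.rec (fun _ => Nat) (col6_8) (col6_9) (Nat.ble 9 c)
noncomputable def col6_s_10_12 (c : Nat) : Nat := @Bool.rec (fun _ => Nat) (col6_10) (col6_11) (Nat.ble 11 c)
noncomputable def col6_s_8_12 (c : Nat) : Nat := @Bool.rec (fun _ => Nat) (col6_s_8_10 c) (col6_s_10_12 c) (Nat.ble 10 c)
noncomputable def col6_s_12_14 (c : Nat) : Nat := @Bool.rec (fun _ => Nat) (col6_12) (col6_13) (Nat.ble 13 c)
noncomputable def col6_s_14_16 (c : Nat) : Nat := @Bool.rec (fun _ => Nat) (col6_14) (col6_15) (Nat.ble 15 c)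
noncomputable def col6_s_12_16 (c : Nat) : Nat := @Bool.rec (fun _ => Nat) (col6_s_12_14 c) (col6_s_14_16 c) (Nat.ble 14 c)
noncomputable def col6_s_8_16 (c : Nat) : Nat := @Bool.rec (fun _ => Nat) (col6_s_8_12 c) (col6_s_12_16 c) (Nat.ble 12 c)
noncomputable def col6_s_0_16 (c : Nat) : Nat := @Bool.rec (fun _ => Nat) (col6_s_0_8 c) (col6_s_8_16 c) (Nat.ble 8 c)
noncomputable def col6_s_16_18 (c : Nat) : Nat := @Bool.rec (fun _ => Nat) (col6_16) (col6_17) (Nat.ble 17 c)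
noncomputable def col6_s_18_20 (c : Nat) : Nat := @Bool.rec (fun _ => Nat) (col6_18) (col6_19) (Nat.ble 19 c)
noncomputable def col6_s_16_20 (c : Nat) : Nat := @Bool.rec (fun _ => Nat) (col6_s_16_18 c) (col6_s_18_20 c) (Nat.ble 18 c)
noncomputable def col6_s_20_22 (c : Nat) : Nat := @Bool.rec (fun _ => Nat) (col6_20) (col6_21) (Nat.ble 21 c)
noncomputable def col6_s_22_24 (c : Nat) : Nat := @Bool.rec (fun _ => Nat) (col6_22) (col6_23) (Nat.ble 23 c)
noncomputable def col6_s_20_24 (c : Nat) : Nat := @Bool.rec (fun _ => Nat) (col6_s_20_22 c) (col6_s_22_24 c) (Nat.ble 22 c)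
noncomputable def col6_s_16_24 (c : Nat) : Nat := @Bool.rec (fun _ => Nat) (col6_s_16_20 c) (col6_s_20_24 c) (Nat.ble 20 c)
noncomputable def col6_s_24_26 (c : Nat) : Nat := @Bool.rec (fun _ => Nat) (col6_24) (col6_25) (Nat.ble 25 c)
noncomputable def col6_s_26_28 (c : Nat) : Nat := @Bool.rec (fun _ => Nat) (col6_26) (col6_27) (Nat.ble 27 c)
noncomputable def col6_s_24_28 (c : Nat) : Nat := @Bool.rec (fun _ => Nat) (col6_s_24_26 c) (col6_s_26_28 c) (Nat.ble 26 c)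
noncomputable def col6_s_28_30 (c : Nat) : Nat := @Bool.rec (fun _ => Nat) (col6_28) (col6_29) (Nat.ble 29 c)
noncomputable def col6_s_31_33 (c : Nat) : Nat := @Bool.rec (fun _ => Nat) (col6_31) (col6_32) (Nat.ble 32 c)
noncomputable def col6_s_30_33 (c : Nat) : Nat := @Bool.rec (fun _ => Nat) (col6_30) (col6_s_31_33 c) (Nat.ble 31 c)
noncomputable def col6_s_28_33 (c : Nat) : Nat := @Bool.rec (fun _ => Nat) (col6_s_28_30 c) (col6_s_30_33 c) (Nat.ble 30 c)
noncomputable def col6_s_24_33 (c : Nat) : Nat := @Bool.rec (fun _ => Nat) (col6_s_24_28 c) (col6_s_28_33 c) (Nat.ble 28 c)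
noncomputable def col6_s_16_33 (c : Nat) : Nat := @Bool.rec (fun _ => Nat) (col6_s_16_24 c) (col6_s_24_33 c) (Nat.ble 24 c)
noncomputable def col6_s_0_33 (c : Nat) : Nat := @Bool.rec (fun _ => Nat) (col6_s_0_16 c) (col6_s_16_33 c) (Nat.ble 16 c)
noncomputable def col6_s_33_35 (c : Nat) : Nat := @Bool.rec (fun _ => Nat) (col6_33) (col6_34) (Nat.ble 34 c)
noncomputable def col6_s_35_37 (c : Nat) : Nat := @Bool.rec (fun _ => Nat) (col6_35) (col6_36) (Nat.ble 36 c)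
noncomputable def col6_s_33_37 (c : Nat) : Nat := @Bool.rec (fun _ => Nat) (col6_s_33_35 c) (col6_s_35_37 c) (Nat.ble 35 c)
noncomputable def col6_s_37_39 (c : Nat) : Nat := @Bool.rec (fun _ => Nat) (col6_37) (col6_38) (Nat.ble 38 c)
noncomputable def col6_s_39_41 (c : Nat) : Nat := @Bool.rec (fun _ => Nat) (col6_39) (col6_40) (Nat.ble 40 c)
noncomputable def col6_s_37_41 (c : Nat) : Nat := @Bool.rec (fun _ => Nat) (col6_s_37_39 c) (col6_s_39_41 c) (Nat.ble 39 c)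
noncomputable def col6_s_33_41 (c : Nat) : Nat := @Bool.rec (fun _ => Nat) (col6_s_33_37 c) (col6_s_37_41 c) (Nat.ble 37 c)
noncomputable def col6_s_41_43 (c : Nat) : Nat := @Bool.rec (fun _ => Nat) (col6_41) (col6_42) (Nat.ble 42 c)
noncomputable def col6_s_43_45 (c : Nat) : Nat := @Bool.rec (fun _ => Nat) (col6_43) (col6_44) (Nat.ble 44 c)
noncomputable def col6_s_41_45 (c : Nat) : Nat := @Bool.rec (fun _ => Nat) (col6_s_41_43 c) (col6_s_43_45 c) (Nat.ble 43 c)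
noncomputable def col6_s_45_47 (c : Nat) : Nat := @Bool.rec (fun _ => Nat) (col6_45) (col6_46) (Nat.ble 46 c)
noncomputable def col6_s_47_49 (c : Nat) : Nat := @Bool.rec (fun _ => Nat) (col6_47) (col6_48) (Nat.ble 48 c)
noncomputable def col6_s_45_49 (c : Nat) : Nat := @Bool.rec (fun _ => Nat) (col6_s_45_47 c) (col6_s_47_49 c) (Nat.ble 47 c)
noncomputable def col6_s_41_49 (c : Nat) : Nat := @Bool.rec (fun _ => Nat) (col6_s_41_45 c) (col6_s_45_49 c) (Nat.ble 45 c)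
noncomputable def col6_s_33_49 (c : Nat) : Nat := @Bool.rec (fun _ => Nat) (col6_s_33_41 c) (col6_s_41_49 c) (Nat.ble 41 c)
noncomputable def col6_s_49_51 (c : Nat) : Nat := @Bool.rec (fun _ => Nat) (col6_49) (col6_50) (Nat.ble 50 c)
noncomputable def col6_s_51_53 (c : Nat) : Nat := @Bool.rec (fun _ => Nat) (col6_51) (col6_52) (Nat.ble 52 c)
noncomputable def col6_s_49_53 (c : Nat) : Nat := @Bool.rec (fun _ => Nat) (col6_s_49_51 c) (col6_s_51_53 c) (Nat.ble 51 c)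
noncomputable def col6_s_53_55 (c : Nat) : Nat := @Bool.rec (fun _ => Nat) (col6_53) (col6_54) (Nat.ble 54 c)
noncomputable def col6_s_55_57 (c : Nat) : Nat := @Bool.rec (fun _ => Nat) (col6_55) (col6_56) (Nat.ble 56 c)
noncomputable def col6_s_53_57 (c : Nat) : Nat := @Bool.rec (fun _ => Nat) (col6_s_53_55 c) (col6_s_55_57 c) (Nat.ble 55 c)
noncomputable def col6_s_49_57 (c : Nat) : Nat := @Bool.rec (fun _ => Nat) (col6_s_49_53 c) (col6_s_53_57 c) (Nat.ble 53 c)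
noncomputable def col6_s_57_59 (c : Nat) : Nat := @Bool.rec (fun _ => Nat) (col6_57) (col6_58) (Nat.ble 58 c)
noncomputable def col6_s_59_61 (c : Nat) : Nat := @Bool.rec (fun _ => Nat) (col6_59) (col6_60) (Nat.ble 60 c)
noncomputable def col6_s_57_61 (c : Nat) : Nat := @Bool.rec (fun _ => Nat) (col6_s_57_59 c) (col6_s_59_61 c) (Nat.ble 59 c)
noncomputable def col6_s_61_63 (c : Nat) : Nat := @Bool.rec (fun _ => Nat) (col6_61) (col6_62) (Nat.ble 62 c)
noncomputable def col6_s_64_66 (c : Nat) : Nat := @Bool.rec (fun _ => Nat) (col6_64) (col6_65) (Nat.ble 65 c)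
noncomputable def col6_s_63_66 (c : Nat) : Nat := @Bool.rec (fun _ => Nat) (col6_63) (col6_s_64_66 c) (Nat.ble 64 c)
noncomputable def col6_s_61_66 (c : Nat) : Nat := @Bool.rec (fun _ => Nat) (col6_s_61_63 c) (col6_s_63_66 c) (Nat.ble 63 c)
noncomputable def col6_s_57_66 (c : Nat) : Nat := @Bool.rec (fun _ => Nat) (col6_s_57_61 c) (col6_s_61_66 c) (Nat.ble 61 c)
noncomputable def col6_s_49_66 (c : Nat) : Nat := @Bool.rec (fun _ => Nat) (col6_s_49_57 c) (col6_s_57_66 c) (Nat.ble 57 c)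
noncomputable def col6_s_33_66 (c : Nat) : Nat := @Bool.rec (fun _ => Nat) (col6_s_33_49 c) (col6_s_49_66 c) (Nat.ble 49 c)
noncomputable def col6_s_0_66 (c : Nat) : Nat := @Bool.rec (fun _ => Nat) (col6_s_0_33 c) (col6_s_33_66 c) (Nat.ble 33 c)
noncomputable def col6 (i : Nat) : Nat := rdw 19 524287 (col6_s_0_66 (Nat.shiftRight i 12)) (Nat.land i 4095)
noncomputable def finTab_s_1_3 (c : Nat) : Nat := @Bool.rec (fun _ => Nat) (finTab_1) (finTab_2) (Nat.ble 2 c)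
noncomputable def finTab_s_0_3 (c : Nat) : Nat := @Bool.rec (fun _ => Nat) (finTab_0) (finTab_s_1_3 c) (Nat.ble 1 c)
noncomputable def finTab_s_3_5 (c : Nat) : Nat := @Bool.rec (fun _ => Nat) (finTab_3) (finTab_4) (Nat.ble 4 c)
noncomputable def finTab_s_5_7 (c : Nat) : Nat := @Bool.rec (fun _ => Nat) (finTab_5) (finTab_6) (Nat.ble 6 c)
noncomputable def finTab_s_3_7 (c : Nat) : Nat := @Bool.rec (fun _ => Nat) (finTab_s_3_5 c) (finTab_s_5_7 c) (Nat.ble 5 c)
noncomputable def finTab_s_0_7 (c : Nat) : Nat := @Bool.rec (fun _ => Nat) (finTab_s_0_3 c) (finTab_s_3_7 c) (Nat.ble 3 c)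
noncomputable def finTab_s_8_10 (c : Nat) : Nat := @Bool.rec (fun _ => Nat) (finTab_8) (finTab_9) (Nat.ble 9 c)
noncomputable def finTab_s_7_10 (c : Nat) : Nat := @Bool.rec (fun _ => Nat) (finTab_7) (finTab_s_8_10 c) (Nat.ble 8 c)
noncomputable def finTab_s_10_12 (c : Nat) : Nat := @Bool.rec (fun _ => Nat) (finTab_10) (finTab_11) (Nat.ble 11 c)
noncomputable def finTab_s_12_14 (c : Nat) : Nat := @Bool.rec (fun _ => Nat) (finTab_12) (finTab_13) (Nat.ble 13 c)
noncomputable def finTab_s_10_14 (c : Nat) : Nat := @Bool.rec (fun _ => Nat) (finTab_s_10_12 c) (finTab_s_12_14 c) (Nat.ble 12 c)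
noncomputable def finTab_s_7_14 (c : Nat) : Nat := @Bool.rec (fun _ => Nat) (finTab_s_7_10 c) (finTab_s_10_14 c) (Nat.ble 10 c)
noncomputable def finTab_s_0_14 (c : Nat) : Nat := @Bool.rec (fun _ => Nat) (finTab_s_0_7 c) (finTab_s_7_14 c) (Nat.ble 7 c)
noncomputable def finTab_s_15_17 (c : Nat) : Nat := @Bool.rec (fun _ => Nat) (finTab_15) (finTab_16) (Nat.ble 16 c)
noncomputable def finTab_s_14_17 (c : Nat) : Nat := @Bool.rec (fun _ => Nat) (finTab_14) (finTab_s_15_17 c) (Nat.ble 15 c)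
noncomputable def finTab_s_17_19 (c : Nat) : Nat := @Bool.rec (fun _ => Nat) (finTab_17) (finTab_18) (Nat.ble 18 c)
noncomputable def finTab_s_19_21 (c : Nat) : Nat := @Bool.rec (fun _ => Nat) (finTab_19) (finTab_20) (Nat.ble 20 c)
noncomputable def finTab_s_17_21 (c : Nat) : Nat := @Bool.rec (fun _ => Nat) (finTab_s_17_19 c) (finTab_s_19_21 c) (Nat.ble 19 c)
noncomputable def finTab_s_14_21 (c : Nat) : Nat := @Bool.rec (fun _ => Nat) (finTab_s_14_17 c) (finTab_s_17_21 c) (Nat.ble 17 c)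
noncomputable def finTab_s_22_24 (c : Nat) : Nat := @Bool.rec (fun _ => Nat) (finTab_22) (finTab_23) (Nat.ble 23 c)
noncomputable def finTab_s_21_24 (c : Nat) : Nat := @Bool.rec (fun _ => Nat) (finTab_21) (finTab_s_22_24 c) (Nat.ble 22 c)
noncomputable def finTab_s_24_26 (c : Nat) : Nat := @Bool.rec (fun _ => Nat) (finTab_24) (finTab_25) (Nat.ble 25 c)
noncomputable def finTab_s_26_28 (c : Nat) : Nat := @Bool.rec (fun _ => Nat) (finTab_26) (finTab_27) (Nat.ble 27 c)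
noncomputable def finTab_s_24_28 (c : Nat) : Nat := @Bool.rec (fun _ => Nat) (finTab_s_24_26 c) (finTab_s_26_28 c) (Nat.ble 26 c)
noncomputable def finTab_s_21_28 (c : Nat) : Nat := @Bool.rec (fun _ => Nat) (finTab_s_21_24 c) (finTab_s_24_28 c) (Nat.ble 24 c)
noncomputable def finTab_s_14_28 (c : Nat) : Nat := @Bool.rec (fun _ => Nat) (finTab_s_14_21 c) (finTab_s_21_28 c) (Nat.ble 21 c)
noncomputable def finTab_s_0_28 (c : Nat) : Nat := @Bool.rec (fun _ => Nat) (finTab_s_0_14 c) (finTab_s_14_28 c) (Nat.ble 14 c)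
noncomputable def finTab_s_29_31 (c : Nat) : Nat := @Bool.rec (fun _ => Nat) (finTab_29) (finTab_30) (Nat.ble 30 c)
noncomputable def finTab_s_28_31 (c : Nat) : Nat := @Bool.rec (fun _ => Nat) (finTab_28) (finTab_s_29_31 c) (Nat.ble 29 c)
noncomputable def finTab_s_31_33 (c : Nat) : Nat := @Bool.rec (fun _ => Nat) (finTab_31) (finTab_32) (Nat.ble 32 c)
noncomputable def finTab_s_33_35 (c : Nat) : Nat := @Bool.rec (fun _ => Nat) (finTab_33) (finTab_34) (Nat.ble 34 c)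
noncomputable def finTab_s_31_35 (c : Nat) : Nat := @Bool.rec (fun _ => Nat) (finTab_s_31_33 c) (finTab_s_33_35 c) (Nat.ble 33 c)
noncomputable def finTab_s_28_35 (c : Nat) : Nat := @Bool.rec (fun _ => Nat) (finTab_s_28_31 c) (finTab_s_31_35 c) (Nat.ble 31 c)
noncomputable def finTab_s_36_38 (c : Nat) : Nat := @Bool.rec (fun _ => Nat) (finTab_36) (finTab_37) (Nat.ble 37 c)
noncomputable def finTab_s_35_38 (c : Nat) : Nat := @Bool.rec (fun _ => Nat) (finTab_35) (finTab_s_36_38 c) (Nat.ble 36 c)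
noncomputable def finTab_s_38_40 (c : Nat) : Nat := @Bool.rec (fun _ => Nat) (finTab_38) (finTab_39) (Nat.ble 39 c)
noncomputable def finTab_s_40_42 (c : Nat) : Nat := @Bool.rec (fun _ => Nat) (finTab_40) (finTab_41) (Nat.ble 41 c)
noncomputable def finTab_s_38_42 (c : Nat) : Nat := @Bool.rec (fun _ => Nat) (finTab_s_38_40 c) (finTab_s_40_42 c) (Nat.ble 40 c)
noncomputable def finTab_s_35_42 (c : Nat) : Nat := @Bool.rec (fun _ => Nat) (finTab_s_35_38 c) (finTab_s_38_42 c) (Nat.ble 38 c)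
noncomputable def finTab_s_28_42 (c : Nat) : Nat := @Bool.rec (fun _ => Nat) (finTab_s_28_35 c) (finTab_s_35_42 c) (Nat.ble 35 c)
noncomputable def finTab_s_43_45 (c : Nat) : Nat := @Bool.rec (fun _ => Nat) (finTab_43) (finTab_44) (Nat.ble 44 c)
noncomputable def finTab_s_42_45 (c : Nat) : Nat := @Bool.rec (fun _ => Nat) (finTab_42) (finTab_s_43_45 c) (Nat.ble 43 c)
noncomputable def finTab_s_45_47 (c : Nat) : Nat := @Bool.rec (fun _ => Nat) (finTab_45) (finTab_46) (Nat.ble 46 c)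
noncomputable def finTab_s_47_49 (c : Nat) : Nat := @Bool.rec (fun _ => Nat) (finTab_47) (finTab_48) (Nat.ble 48 c)
noncomputable def finTab_s_45_49 (c : Nat) : Nat := @Bool.rec (fun _ => Nat) (finTab_s_45_47 c) (finTab_s_47_49 c) (Nat.ble 47 c)
noncomputable def finTab_s_42_49 (c : Nat) : Nat := @Bool.rec (fun _ => Nat) (finTab_s_42_45 c) (finTab_s_45_49 c) (Nat.ble 45 c)
noncomputable def finTab_s_49_51 (c : Nat) : Nat := @Bool.rec (fun _ => Nat) (finTab_49) (finTab_50) (Nat.ble 50 c)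
noncomputable def finTab_s_51_53 (c : Nat) : Nat := @Bool.rec (fun _ => Nat) (finTab_51) (finTab_52) (Nat.ble 52 c)
noncomputable def finTab_s_49_53 (c : Nat) : Nat := @Bool.rec (fun _ => Nat) (finTab_s_49_51 c) (finTab_s_51_53 c) (Nat.ble 51 c)
noncomputable def finTab_s_53_55 (c : Nat) : Nat := @Bool.rec (fun _ => Nat) (finTab_53) (finTab_54) (Nat.ble 54 c)
noncomputable def finTab_s_55_57 (c : Nat) : Nat := @Bool.rec (fun _ => Nat) (finTab_55) (finTab_56) (Nat.ble 56 c)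
noncomputable def finTab_s_53_57 (c : Nat) : Nat := @Bool.rec (fun _ => Nat) (finTab_s_53_55 c) (finTab_s_55_57 c) (Nat.ble 55 c)
noncomputable def finTab_s_49_57 (c : Nat) : Nat := @Bool.rec (fun _ => Nat) (finTab_s_49_53 c) (finTab_s_53_57 c) (Nat.ble 53 c)
noncomputable def finTab_s_42_57 (c : Nat) : Nat := @Bool.rec (fun _ => Nat) (finTab_s_42_49 c) (finTab_s_49_57 c) (Nat.ble 49 c)
noncomputable def finTab_s_28_57 (c : Nat) : Nat := @Bool.rec (fun _ => Nat) (finTab_s_28_42 c) (finTab_s_42_57 c) (Nat.ble 42 c)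
noncomputable def finTab_s_0_57 (c : Nat) : Nat := @Bool.rec (fun _ => Nat) (finTab_s_0_28 c) (finTab_s_28_57 c) (Nat.ble 28 c)
noncomputable def finTab_s_58_60 (c : Nat) : Nat := @Bool.rec (fun _ => Nat) (finTab_58) (finTab_59) (Nat.ble 59 c)
noncomputable def finTab_s_57_60 (c : Nat) : Nat := @Bool.rec (fun _ => Nat) (finTab_57) (finTab_s_58_60 c) (Nat.ble 58 c)
noncomputable def finTab_s_60_62 (c : Nat) : Nat := @Bool.rec (fun _ => Nat) (finTab_60) (finTab_61) (Nat.ble 61 c)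
noncomputable def finTab_s_62_64 (c : Nat) : Nat := @Bool.rec (fun _ => Nat) (finTab_62) (finTab_63) (Nat.ble 63 c)
noncomputable def finTab_s_60_64 (c : Nat) : Nat := @Bool.rec (fun _ => Nat) (finTab_s_60_62 c) (finTab_s_62_64 c) (Nat.ble 62 c)
noncomputable def finTab_s_57_64 (c : Nat) : Nat := @Bool.rec (fun _ => Nat) (finTab_s_57_60 c) (finTab_s_60_64 c) (Nat.ble 60 c)
noncomputable def finTab_s_65_67 (c : Nat) : Nat := @Bool.rec (fun _ => Nat) (finTab_65) (finTab_66) (Nat.ble 66 c)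
noncomputable def finTab_s_64_67 (c : Nat) : Nat := @Bool.rec (fun _ => Nat) (finTab_64) (finTab_s_65_67 c) (Nat.ble 65 c)
noncomputable def finTab_s_67_69 (c : Nat) : Nat := @Bool.rec (fun _ => Nat) (finTab_67) (finTab_68) (Nat.ble 68 c)
noncomputable def finTab_s_69_71 (c : Nat) : Nat := @Bool.rec (fun _ => Nat) (finTab_69) (finTab_70) (Nat.ble 70 c)
noncomputable def finTab_s_67_71 (c : Nat) : Nat := @Bool.rec (fun _ => Nat) (finTab_s_67_69 c) (finTab_s_69_71 c) (Nat.ble 69 c)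
noncomputable def finTab_s_64_71 (c : Nat) : Nat := @Bool.rec (fun _ => Nat) (finTab_s_64_67 c) (finTab_s_67_71 c) (Nat.ble 67 c)
noncomputable def finTab_s_57_71 (c : Nat) : Nat := @Bool.rec (fun _ => Nat) (finTab_s_57_64 c) (finTab_s_64_71 c) (Nat.ble 64 c)
noncomputable def finTab_s_72_74 (c : Nat) : Nat := @Bool.rec (fun _ => Nat) (finTab_72) (finTab_73) (Nat.ble 73 c)
noncomputable def finTab_s_71_74 (c : Nat) : Nat := @Bool.rec (fun _ => Nat) (finTab_71) (finTab_s_72_74 c) (Nat.ble 72 c)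
noncomputable def finTab_s_74_76 (c : Nat) : Nat := @Bool.rec (fun _ => Nat) (finTab_74) (finTab_75) (Nat.ble 75 c)
noncomputable def finTab_s_76_78 (c : Nat) : Nat := @Bool.rec (fun _ => Nat) (finTab_76) (finTab_77) (Nat.ble 77 c)
noncomputable def finTab_s_74_78 (c : Nat) : Nat := @Bool.rec (fun _ => Nat) (finTab_s_74_76 c) (finTab_s_76_78 c) (Nat.ble 76 c)
noncomputable def finTab_s_71_78 (c : Nat) : Nat := @Bool.rec (fun _ => Nat) (finTab_s_71_74 c) (finTab_s_74_78 c) (Nat.ble 74 c)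
noncomputable def finTab_s_79_81 (c : Nat) : Nat := @Bool.rec (fun _ => Nat) (finTab_79) (finTab_80) (Nat.ble 80 c)
noncomputable def finTab_s_78_81 (c : Nat) : Nat := @Bool.rec (fun _ => Nat) (finTab_78) (finTab_s_79_81 c) (Nat.ble 79 c)
noncomputable def finTab_s_81_83 (c : Nat) : Nat := @Bool.rec (fun _ => Nat) (finTab_81) (finTab_82) (Nat.ble 82 c)
noncomputable def finTab_s_83_85 (c : Nat) : Nat := @Bool.rec (fun _ => Nat) (finTab_83) (finTab_84) (Nat.ble 84 c)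
noncomputable def finTab_s_81_85 (c : Nat) : Nat := @Bool.rec (fun _ => Nat) (finTab_s_81_83 c) (finTab_s_83_85 c) (Nat.ble 83 c)
noncomputable def finTab_s_78_85 (c : Nat) : Nat := @Bool.rec (fun _ => Nat) (finTab_s_78_81 c) (finTab_s_81_85 c) (Nat.ble 81 c)
noncomputable def finTab_s_71_85 (c : Nat) : Nat := @Bool.rec (fun _ => Nat) (finTab_s_71_78 c) (finTab_s_78_85 c) (Nat.ble 78 c)
noncomputable def finTab_s_57_85 (c : Nat) : Nat := @Bool.rec (fun _ => Nat) (finTab_s_57_71 c) (finTab_s_71_85 c) (Nat.ble 71 c)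
noncomputable def finTab_s_86_88 (c : Nat) : Nat := @Bool.rec (fun _ => Nat) (finTab_86) (finTab_87) (Nat.ble 87 c)
noncomputable def finTab_s_85_88 (c : Nat) : Nat := @Bool.rec (fun _ => Nat) (finTab_85) (finTab_s_86_88 c) (Nat.ble 86 c)
noncomputable def finTab_s_88_90 (c : Nat) : Nat := @Bool.rec (fun _ => Nat) (finTab_88) (finTab_89) (Nat.ble 89 c)
noncomputable def finTab_s_90_92 (c : Nat) : Nat := @Bool.rec (fun _ => Nat) (finTab_90) (finTab_91) (Nat.ble 91 c)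
noncomputable def finTab_s_88_92 (c : Nat) : Nat := @Bool.rec (fun _ => Nat) (finTab_s_88_90 c) (finTab_s_90_92 c) (Nat.ble 90 c)
noncomputable def finTab_s_85_92 (c : Nat) : Nat := @Bool.rec (fun _ => Nat) (finTab_s_85_88 c) (finTab_s_88_92 c) (Nat.ble 88 c)
noncomputable def finTab_s_93_95 (c : Nat) : Nat := @Bool.rec (fun _ => Nat) (finTab_93) (finTab_94) (Nat.ble 94 c)
noncomputable def finTab_s_92_95 (c : Nat) : Nat := @Bool.rec (fun _ => Nat) (finTab_92) (finTab_s_93_95 c) (Nat.ble 93 c)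
noncomputable def finTab_s_95_97 (c : Nat) : Nat := @Bool.rec (fun _ => Nat) (finTab_95) (finTab_96) (Nat.ble 96 c)
noncomputable def finTab_s_97_99 (c : Nat) : Nat := @Bool.rec (fun _ => Nat) (finTab_97) (finTab_98) (Nat.ble 98 c)
noncomputable def finTab_s_95_99 (c : Nat) : Nat := @Bool.rec (fun _ => Nat) (finTab_s_95_97 c) (finTab_s_97_99 c) (Nat.ble 97 c)
noncomputable def finTab_s_92_99 (c : Nat) : Nat := @Bool.rec (fun _ => Nat) (finTab_s_92_95 c) (finTab_s_95_99 c) (Nat.ble 95 c)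
noncomputable def finTab_s_85_99 (c : Nat) : Nat := @Bool.rec (fun _ => Nat) (finTab_s_85_92 c) (finTab_s_92_99 c) (Nat.ble 92 c)
noncomputable def finTab_s_100_102 (c : Nat) : Nat := @Bool.rec (fun _ => Nat) (finTab_100) (finTab_101) (Nat.ble 101 c)
noncomputable def finTab_s_99_102 (c : Nat) : Nat := @Bool.rec (fun _ => Nat) (finTab_99) (finTab_s_100_102 c) (Nat.ble 100 c)
noncomputable def finTab_s_102_104 (c : Nat) : Nat := @Bool.rec (fun _ => Nat) (finTab_102) (finTab_103) (Nat.ble 103 c)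
noncomputable def finTab_s_104_106 (c : Nat) : Nat := @Bool.rec (fun _ => Nat) (finTab_104) (finTab_105) (Nat.ble 105 c)
noncomputable def finTab_s_102_106 (c : Nat) : Nat := @Bool.rec (fun _ => Nat) (finTab_s_102_104 c) (finTab_s_104_106 c) (Nat.ble 104 c)
noncomputable def finTab_s_99_106 (c : Nat) : Nat := @Bool.rec (fun _ => Nat) (finTab_s_99_102 c) (finTab_s_102_106 c) (Nat.ble 102 c)
noncomputable def finTab_s_106_108 (c : Nat) : Nat := @Bool.rec (fun _ => Nat) (finTab_106) (finTab_107) (Nat.ble 107 c)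
noncomputable def finTab_s_108_110 (c : Nat) : Nat := @Bool.rec (fun _ => Nat) (finTab_108) (finTab_109) (Nat.ble 109 c)
noncomputable def finTab_s_106_110 (c : Nat) : Nat := @Bool.rec (fun _ => Nat) (finTab_s_106_108 c) (finTab_s_108_110 c) (Nat.ble 108 c)
noncomputable def finTab_s_110_112 (c : Nat) : Nat := @Bool.rec (fun _ => Nat) (finTab_110) (finTab_111) (Nat.ble 111 c)
noncomputable def finTab_s_112_114 (c : Nat) : Nat := @Bool.rec (fun _ => Nat) (finTab_112) (finTab_113) (Nat.ble 113 c)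
noncomputable def finTab_s_110_114 (c : Nat) : Nat := @Bool.rec (fun _ => Nat) (finTab_s_110_112 c) (finTab_s_112_114 c) (Nat.ble 112 c)
noncomputable def finTab_s_106_114 (c : Nat) : Nat := @Bool.rec (fun _ => Nat) (finTab_s_106_110 c) (finTab_s_110_114 c) (Nat.ble 110 c)
noncomputable def finTab_s_99_114 (c : Nat) : Nat := @Bool.rec (fun _ => Nat) (finTab_s_99_106 c) (finTab_s_106_114 c) (Nat.ble 106 c)
noncomputable def finTab_s_85_114 (c : Nat) : Nat := @Bool.rec (fun _ => Nat) (finTab_s_85_99 c) (finTab_s_99_114 c) (Nat.ble 99 c)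
noncomputable def finTab_s_57_114 (c : Nat) : Nat := @Bool.rec (fun _ => Nat) (finTab_s_57_85 c) (finTab_s_85_114 c) (Nat.ble 85 c)
noncomputable def finTab_s_0_114 (c : Nat) : Nat := @Bool.rec (fun _ => Nat) (finTab_s_0_57 c) (finTab_s_57_114 c) (Nat.ble 57 c)
noncomputable def finTab_s_115_117 (c : Nat) : Nat := @Bool.rec (fun _ => Nat) (finTab_115) (finTab_116) (Nat.ble 116 c)
noncomputable def finTab_s_114_117 (c : Nat) : Nat := @Bool.rec (fun _ => Nat) (finTab_114) (finTab_s_115_117 c) (Nat.ble 115 c)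
noncomputable def finTab_s_117_119 (c : Nat) : Nat := @Bool.rec (fun _ => Nat) (finTab_117) (finTab_118) (Nat.ble 118 c)
noncomputable def finTab_s_119_121 (c : Nat) : Nat := @Bool.rec (fun _ => Nat) (finTab_119) (finTab_120) (Nat.ble 120 c)
noncomputable def finTab_s_117_121 (c : Nat) : Nat := @Bool.rec (fun _ => Nat) (finTab_s_117_119 c) (finTab_s_119_121 c) (Nat.ble 119 c)
noncomputable def finTab_s_114_121 (c : Nat) : Nat := @Bool.rec (fun _ => Nat) (finTab_s_114_117 c) (finTab_s_117_121 c) (Nat.ble 117 c)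
noncomputable def finTab_s_122_124 (c : Nat) : Nat := @Bool.rec (fun _ => Nat) (finTab_122) (finTab_123) (Nat.ble 123 c)
noncomputable def finTab_s_121_124 (c : Nat) : Nat := @Bool.rec (fun _ => Nat) (finTab_121) (finTab_s_122_124 c) (Nat.ble 122 c)
noncomputable def finTab_s_124_126 (c : Nat) : Nat := @Bool.rec (fun _ => Nat) (finTab_124) (finTab_125) (Nat.ble 125 c)
noncomputable def finTab_s_126_128 (c : Nat) : Nat := @Bool.rec (fun _ => Nat) (finTab_126) (finTab_127) (Nat.ble 127 c)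
noncomputable def finTab_s_124_128 (c : Nat) : Nat := @Bool.rec (fun _ => Nat) (finTab_s_124_126 c) (finTab_s_126_128 c) (Nat.ble 126 c)
noncomputable def finTab_s_121_128 (c : Nat) : Nat := @Bool.rec (fun _ => Nat) (finTab_s_121_124 c) (finTab_s_124_128 c) (Nat.ble 124 c)
noncomputable def finTab_s_114_128 (c : Nat) : Nat := @Bool.rec (fun _ => Nat) (finTab_s_114_121 c) (finTab_s_121_128 c) (Nat.ble 121 c)
noncomputable def finTab_s_129_131 (c : Nat) : Nat := @Bool.rec (fun _ => Nat) (finTab_129) (finTab_130) (Nat.ble 130 c)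
noncomputable def finTab_s_128_131 (c : Nat) : Nat := @Bool.rec (fun _ => Nat) (finTab_128) (finTab_s_129_131 c) (Nat.ble 129 c)
noncomputable def finTab_s_131_133 (c : Nat) : Nat := @Bool.rec (fun _ => Nat) (finTab_131) (finTab_132) (Nat.ble 132 c)
noncomputable def finTab_s_133_135 (c : Nat) : Nat := @Bool.rec (fun _ => Nat) (finTab_133) (finTab_134) (Nat.ble 134 c)
noncomputable def finTab_s_131_135 (c : Nat) : Nat := @Bool.rec (fun _ => Nat) (finTab_s_131_133 c) (finTab_s_133_135 c) (Nat.ble 133 c)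
noncomputable def finTab_s_128_135 (c : Nat) : Nat := @Bool.rec (fun _ => Nat) (finTab_s_128_131 c) (finTab_s_131_135 c) (Nat.ble 131 c)
noncomputable def finTab_s_136_138 (c : Nat) : Nat := @Bool.rec (fun _ => Nat) (finTab_136) (finTab_137) (Nat.ble 137 c)
noncomputable def finTab_s_135_138 (c : Nat) : Nat := @Bool.rec (fun _ => Nat) (finTab_135) (finTab_s_136_138 c) (Nat.ble 136 c)
noncomputable def finTab_s_138_140 (c : Nat) : Nat := @Bool.rec (fun _ => Nat) (finTab_138) (finTab_139) (Nat.ble 139 c)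
noncomputable def finTab_s_140_142 (c : Nat) : Nat := @Bool.rec (fun _ => Nat) (finTab_140) (finTab_141) (Nat.ble 141 c)
noncomputable def finTab_s_138_142 (c : Nat) : Nat := @Bool.rec (fun _ => Nat) (finTab_s_138_140 c) (finTab_s_140_142 c) (Nat.ble 140 c)
noncomputable def finTab_s_135_142 (c : Nat) : Nat := @Bool.rec (fun _ => Nat) (finTab_s_135_138 c) (finTab_s_138_142 c) (Nat.ble 138 c)
noncomputable def finTab_s_128_142 (c : Nat) : Nat := @Bool.rec (fun _ => Nat) (finTab_s_128_135 c) (finTab_s_135_142 c) (Nat.ble 135 c)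
noncomputable def finTab_s_114_142 (c : Nat) : Nat := @Bool.rec (fun _ => Nat) (finTab_s_114_128 c) (finTab_s_128_142 c) (Nat.ble 128 c)
noncomputable def finTab_s_143_145 (c : Nat) : Nat := @Bool.rec (fun _ => Nat) (finTab_143) (finTab_144) (Nat.ble 144 c)
noncomputable def finTab_s_142_145 (c : Nat) : Nat := @Bool.rec (fun _ => Nat) (finTab_142) (finTab_s_143_145 c) (Nat.ble 143 c)
noncomputable def finTab_s_145_147 (c : Nat) : Nat := @Bool.rec (fun _ => Nat) (finTab_145) (finTab_146) (Nat.ble 146 c)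
noncomputable def finTab_s_147_149 (c : Nat) : Nat := @Bool.rec (fun _ => Nat) (finTab_147) (finTab_148) (Nat.ble 148 c)
noncomputable def finTab_s_145_149 (c : Nat) : Nat := @Bool.rec (fun _ => Nat) (finTab_s_145_147 c) (finTab_s_147_149 c) (Nat.ble 147 c)
noncomputable def finTab_s_142_149 (c : Nat) : Nat := @Bool.rec (fun _ => Nat) (finTab_s_142_145 c) (finTab_s_145_149 c) (Nat.ble 145 c)
noncomputable def finTab_s_150_152 (c : Nat) : Nat := @Bool.rec (fun _ => Nat) (finTab_150) (finTab_151) (Nat.ble 151 c)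
noncomputable def finTab_s_149_152 (c : Nat) : Nat := @Bool.rec (fun _ => Nat) (finTab_149) (finTab_s_150_152 c) (Nat.ble 150 c)
noncomputable def finTab_s_152_154 (c : Nat) : Nat := @Bool.rec (fun _ => Nat) (finTab_152) (finTab_153) (Nat.ble 153 c)
noncomputable def finTab_s_154_156 (c : Nat) : Nat := @Bool.rec (fun _ => Nat) (finTab_154) (finTab_155) (Nat.ble 155 c)
noncomputable def finTab_s_152_156 (c : Nat) : Nat := @Bool.rec (fun _ => Nat) (finTab_s_152_154 c) (finTab_s_154_156 c) (Nat.ble 154 c)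
noncomputable def finTab_s_149_156 (c : Nat) : Nat := @Bool.rec (fun _ => Nat) (finTab_s_149_152 c) (finTab_s_152_156 c) (Nat.ble 152 c)
noncomputable def finTab_s_142_156 (c : Nat) : Nat := @Bool.rec (fun _ => Nat) (finTab_s_142_149 c) (finTab_s_149_156 c) (Nat.ble 149 c)
noncomputable def finTab_s_157_159 (c : Nat) : Nat := @Bool.rec (fun _ => Nat) (finTab_157) (finTab_158) (Nat.ble 158 c)
noncomputable def finTab_s_156_159 (c : Nat) : Nat := @Bool.rec (fun _ => Nat) (finTab_156) (finTab_s_157_159 c) (Nat.ble 157 c)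
noncomputable def finTab_s_159_161 (c : Nat) : Nat := @Bool.rec (fun _ => Nat) (finTab_159) (finTab_160) (Nat.ble 160 c)
noncomputable def finTab_s_161_163 (c : Nat) : Nat := @Bool.rec (fun _ => Nat) (finTab_161) (finTab_162) (Nat.ble 162 c)
noncomputable def finTab_s_159_163 (c : Nat) : Nat := @Bool.rec (fun _ => Nat) (finTab_s_159_161 c) (finTab_s_161_163 c) (Nat.ble 161 c)
noncomputable def finTab_s_156_163 (c : Nat) : Nat := @Bool.rec (fun _ => Nat) (finTab_s_156_159 c) (finTab_s_159_163 c) (Nat.ble 159 c)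
noncomputable def finTab_s_163_165 (c : Nat) : Nat := @Bool.rec (fun _ => Nat) (finTab_163) (finTab_164) (Nat.ble 164 c)
noncomputable def finTab_s_165_167 (c : Nat) : Nat := @Bool.rec (fun _ => Nat) (finTab_165) (finTab_166) (Nat.ble 166 c)
noncomputable def finTab_s_163_167 (c : Nat) : Nat := @Bool.rec (fun _ => Nat) (finTab_s_163_165 c) (finTab_s_165_167 c) (Nat.ble 165 c)
noncomputable def finTab_s_167_169 (c : Nat) : Nat := @Bool.rec (fun _ => Nat) (finTab_167) (finTab_168) (Nat.ble 168 c)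
noncomputable def finTab_s_169_171 (c : Nat) : Nat := @Bool.rec (fun _ => Nat) (finTab_169) (finTab_170) (Nat.ble 170 c)
noncomputable def finTab_s_167_171 (c : Nat) : Nat := @Bool.rec (fun _ => Nat) (finTab_s_167_169 c) (finTab_s_169_171 c) (Nat.ble 169 c)
noncomputable def finTab_s_163_171 (c : Nat) : Nat := @Bool.rec (fun _ => Nat) (finTab_s_163_167 c) (finTab_s_167_171 c) (Nat.ble 167 c)
noncomputable def finTab_s_156_171 (c : Nat) : Nat := @Bool.rec (fun _ => Nat) (finTab_s_156_163 c) (finTab_s_163_171 c) (Nat.ble 163 c)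
noncomputable def finTab_s_142_171 (c : Nat) : Nat := @Bool.rec (fun _ => Nat) (finTab_s_142_156 c) (finTab_s_156_171 c) (Nat.ble 156 c)
noncomputable def finTab_s_114_171 (c : Nat) : Nat := @Bool.rec (fun _ => Nat) (finTab_s_114_142 c) (finTab_s_142_171 c) (Nat.ble 142 c)
noncomputable def finTab_s_172_174 (c : Nat) : Nat := @Bool.rec (fun _ => Nat) (finTab_172) (finTab_173) (Nat.ble 173 c)
noncomputable def finTab_s_171_174 (c : Nat) : Nat := @Bool.rec (fun _ => Nat) (finTab_171) (finTab_s_172_174 c) (Nat.ble 172 c)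
noncomputable def finTab_s_174_176 (c : Nat) : Nat := @Bool.rec (fun _ => Nat) (finTab_174) (finTab_175) (Nat.ble 175 c)
noncomputable def finTab_s_176_178 (c : Nat) : Nat := @Bool.rec (fun _ => Nat) (finTab_176) (finTab_177) (Nat.ble 177 c)
noncomputable def finTab_s_174_178 (c : Nat) : Nat := @Bool.rec (fun _ => Nat) (finTab_s_174_176 c) (finTab_s_176_178 c) (Nat.ble 176 c)
noncomputable def finTab_s_171_178 (c : Nat) : Nat := @Bool.rec (fun _ => Nat) (finTab_s_171_174 c) (finTab_s_174_178 c) (Nat.ble 174 c)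
noncomputable def finTab_s_179_181 (c : Nat) : Nat := @Bool.rec (fun _ => Nat) (finTab_179) (finTab_180) (Nat.ble 180 c)
noncomputable def finTab_s_178_181 (c : Nat) : Nat := @Bool.rec (fun _ => Nat) (finTab_178) (finTab_s_179_181 c) (Nat.ble 179 c)
noncomputable def finTab_s_181_183 (c : Nat) : Nat := @Bool.rec (fun _ => Nat) (finTab_181) (finTab_182) (Nat.ble 182 c)
noncomputable def finTab_s_183_185 (c : Nat) : Nat := @Bool.rec (fun _ => Nat) (finTab_183) (finTab_184) (Nat.ble 184 c)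
noncomputable def finTab_s_181_185 (c : Nat) : Nat := @Bool.rec (fun _ => Nat) (finTab_s_181_183 c) (finTab_s_183_185 c) (Nat.ble 183 c)
noncomputable def finTab_s_178_185 (c : Nat) : Nat := @Bool.rec (fun _ => Nat) (finTab_s_178_181 c) (finTab_s_181_185 c) (Nat.ble 181 c)
noncomputable def finTab_s_171_185 (c : Nat) : Nat := @Bool.rec (fun _ => Nat) (finTab_s_171_178 c) (finTab_s_178_185 c) (Nat.ble 178 c)
noncomputable def finTab_s_186_188 (c : Nat) : Nat := @Bool.rec (fun _ => Nat) (finTab_186) (finTab_187) (Nat.ble 187 c)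
noncomputable def finTab_s_185_188 (c : Nat) : Nat := @Bool.rec (fun _ => Nat) (finTab_185) (finTab_s_186_188 c) (Nat.ble 186 c)
noncomputable def finTab_s_188_190 (c : Nat) : Nat := @Bool.rec (fun _ => Nat) (finTab_188) (finTab_189) (Nat.ble 189 c)
noncomputable def finTab_s_190_192 (c : Nat) : Nat := @Bool.rec (fun _ => Nat) (finTab_190) (finTab_191) (Nat.ble 191 c)
noncomputable def finTab_s_188_192 (c : Nat) : Nat := @Bool.rec (fun _ => Nat) (finTab_s_188_190 c) (finTab_s_190_192 c) (Nat.ble 190 c)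
noncomputable def finTab_s_185_192 (c : Nat) : Nat := @Bool.rec (fun _ => Nat) (finTab_s_185_188 c) (finTab_s_188_192 c) (Nat.ble 188 c)
noncomputable def finTab_s_193_195 (c : Nat) : Nat := @Bool.rec (fun _ => Nat) (finTab_193) (finTab_194) (Nat.ble 194 c)
noncomputable def finTab_s_192_195 (c : Nat) : Nat := @Bool.rec (fun _ => Nat) (finTab_192) (finTab_s_193_195 c) (Nat.ble 193 c)
noncomputable def finTab_s_195_197 (c : Nat) : Nat := @Bool.rec (fun _ => Nat) (finTab_195) (finTab_196) (Nat.ble 196 c)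
noncomputable def finTab_s_197_199 (c : Nat) : Nat := @Bool.rec (fun _ => Nat) (finTab_197) (finTab_198) (Nat.ble 198 c)
noncomputable def finTab_s_195_199 (c : Nat) : Nat := @Bool.rec (fun _ => Nat) (finTab_s_195_197 c) (finTab_s_197_199 c) (Nat.ble 197 c)
noncomputable def finTab_s_192_199 (c : Nat) : Nat := @Bool.rec (fun _ => Nat) (finTab_s_192_195 c) (finTab_s_195_199 c) (Nat.ble 195 c)
noncomputable def finTab_s_185_199 (c : Nat) : Nat := @Bool.rec (fun _ => Nat) (finTab_s_185_192 c) (finTab_s_192_199 c) (Nat.ble 192 c)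
noncomputable def finTab_s_171_199 (c : Nat) : Nat := @Bool.rec (fun _ => Nat) (finTab_s_171_185 c) (finTab_s_185_199 c) (Nat.ble 185 c)
noncomputable def finTab_s_200_202 (c : Nat) : Nat := @Bool.rec (fun _ => Nat) (finTab_200) (finTab_201) (Nat.ble 201 c)
noncomputable def finTab_s_199_202 (c : Nat) : Nat := @Bool.rec (fun _ => Nat) (finTab_199) (finTab_s_200_202 c) (Nat.ble 200 c)
noncomputable def finTab_s_202_204 (c : Nat) : Nat := @Bool.rec (fun _ => Nat) (finTab_202) (finTab_203) (Nat.ble 203 c)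
noncomputable def finTab_s_204_206 (c : Nat) : Nat := @Bool.rec (fun _ => Nat) (finTab_204) (finTab_205) (Nat.ble 205 c)
noncomputable def finTab_s_202_206 (c : Nat) : Nat := @Bool.rec (fun _ => Nat) (finTab_s_202_204 c) (finTab_s_204_206 c) (Nat.ble 204 c)
noncomputable def finTab_s_199_206 (c : Nat) : Nat := @Bool.rec (fun _ => Nat) (finTab_s_199_202 c) (finTab_s_202_206 c) (Nat.ble 202 c)
noncomputable def finTab_s_207_209 (c : Nat) : Nat := @Bool.rec (fun _ => Nat) (finTab_207) (finTab_208) (Nat.ble 208 c)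
noncomputable def finTab_s_206_209 (c : Nat) : Nat := @Bool.rec (fun _ => Nat) (finTab_206) (finTab_s_207_209 c) (Nat.ble 207 c)
noncomputable def finTab_s_209_211 (c : Nat) : Nat := @Bool.rec (fun _ => Nat) (finTab_209) (finTab_210) (Nat.ble 210 c)
noncomputable def finTab_s_211_213 (c : Nat) : Nat := @Bool.rec (fun _ => Nat) (finTab_211) (finTab_212) (Nat.ble 212 c)
noncomputable def finTab_s_209_213 (c : Nat) : Nat := @Bool.rec (fun _ => Nat) (finTab_s_209_211 c) (finTab_s_211_213 c) (Nat.ble 211 c)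
noncomputable def finTab_s_206_213 (c : Nat) : Nat := @Bool.rec (fun _ => Nat) (finTab_s_206_209 c) (finTab_s_209_213 c) (Nat.ble 209 c)
noncomputable def finTab_s_199_213 (c : Nat) : Nat := @Bool.rec (fun _ => Nat) (finTab_s_199_206 c) (finTab_s_206_213 c) (Nat.ble 206 c)
noncomputable def finTab_s_214_216 (c : Nat) : Nat := @Bool.rec (fun _ => Nat) (finTab_214) (finTab_215) (Nat.ble 215 c)
noncomputable def finTab_s_213_216 (c : Nat) : Nat := @Bool.rec (fun _ => Nat) (finTab_213) (finTab_s_214_216 c) (Nat.ble 214 c)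
noncomputable def finTab_s_216_218 (c : Nat) : Nat := @Bool.rec (fun _ => Nat) (finTab_216) (finTab_217) (Nat.ble 217 c)
noncomputable def finTab_s_218_220 (c : Nat) : Nat := @Bool.rec (fun _ => Nat) (finTab_218) (finTab_219) (Nat.ble 219 c)
noncomputable def finTab_s_216_220 (c : Nat) : Nat := @Bool.rec (fun _ => Nat) (finTab_s_216_218 c) (finTab_s_218_220 c) (Nat.ble 218 c)
noncomputable def finTab_s_213_220 (c : Nat) : Nat := @Bool.rec (fun _ => Nat) (finTab_s_213_216 c) (finTab_s_216_220 c) (Nat.ble 216 c)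
noncomputable def finTab_s_220_222 (c : Nat) : Nat := @Bool.rec (fun _ => Nat) (finTab_220) (finTab_221) (Nat.ble 221 c)
noncomputable def finTab_s_222_224 (c : Nat) : Nat := @Bool.rec (fun _ => Nat) (finTab_222) (finTab_223) (Nat.ble 223 c)
noncomputable def finTab_s_220_224 (c : Nat) : Nat := @Bool.rec (fun _ => Nat) (finTab_s_220_222 c) (finTab_s_222_224 c) (Nat.ble 222 c)
noncomputable def finTab_s_224_226 (c : Nat) : Nat := @Bool.rec (fun _ => Nat) (finTab_224) (finTab_225) (Nat.ble 225 c)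
noncomputable def finTab_s_226_228 (c : Nat) : Nat := @Bool.rec (fun _ => Nat) (finTab_226) (finTab_227) (Nat.ble 227 c)
noncomputable def finTab_s_224_228 (c : Nat) : Nat := @Bool.rec (fun _ => Nat) (finTab_s_224_226 c) (finTab_s_226_228 c) (Nat.ble 226 c)
noncomputable def finTab_s_220_228 (c : Nat) : Nat := @Bool.rec (fun _ => Nat) (finTab_s_220_224 c) (finTab_s_224_228 c) (Nat.ble 224 c)
noncomputable def finTab_s_213_228 (c : Nat) : Nat := @Bool.rec (fun _ => Nat) (finTab_s_213_220 c) (finTab_s_220_228 c) (Nat.ble 220 c)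
noncomputable def finTab_s_199_228 (c : Nat) : Nat := @Bool.rec (fun _ => Nat) (finTab_s_199_213 c) (finTab_s_213_228 c) (Nat.ble 213 c)
noncomputable def finTab_s_171_228 (c : Nat) : Nat := @Bool.rec (fun _ => Nat) (finTab_s_171_199 c) (finTab_s_199_228 c) (Nat.ble 199 c)
noncomputable def finTab_s_114_228 (c : Nat) : Nat := @Bool.rec (fun _ => Nat) (finTab_s_114_171 c) (finTab_s_171_228 c) (Nat.ble 171 c)
noncomputable def finTab_s_0_228 (c : Nat) : Nat := @Bool.rec (fun _ => Nat) (finTab_s_0_114 c) (finTab_s_114_228 c) (Nat.ble 114 c)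
noncomputable def finTab_s_229_231 (c : Nat) : Nat := @Bool.rec (fun _ => Nat) (finTab_229) (finTab_230) (Nat.ble 230 c)
noncomputable def finTab_s_228_231 (c : Nat) : Nat := @Bool.rec (fun _ => Nat) (finTab_228) (finTab_s_229_231 c) (Nat.ble 229 c)
noncomputable def finTab_s_231_233 (c : Nat) : Nat := @Bool.rec (fun _ => Nat) (finTab_231) (finTab_232) (Nat.ble 232 c)
noncomputable def finTab_s_233_235 (c : Nat) : Nat := @Bool.rec (fun _ => Nat) (finTab_233) (finTab_234) (Nat.ble 234 c)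
noncomputable def finTab_s_231_235 (c : Nat) : Nat := @Bool.rec (fun _ => Nat) (finTab_s_231_233 c) (finTab_s_233_235 c) (Nat.ble 233 c)
noncomputable def finTab_s_228_235 (c : Nat) : Nat := @Bool.rec (fun _ => Nat) (finTab_s_228_231 c) (finTab_s_231_235 c) (Nat.ble 231 c)
noncomputable def finTab_s_236_238 (c : Nat) : Nat := @Bool.rec (fun _ => Nat) (finTab_236) (finTab_237) (Nat.ble 237 c)
noncomputable def finTab_s_235_238 (c : Nat) : Nat := @Bool.rec (fun _ => Nat) (finTab_235) (finTab_s_236_238 c) (Nat.ble 236 c)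
noncomputable def finTab_s_238_240 (c : Nat) : Nat := @Bool.rec (fun _ => Nat) (finTab_238) (finTab_239) (Nat.ble 239 c)
noncomputable def finTab_s_240_242 (c : Nat) : Nat := @Bool.rec (fun _ => Nat) (finTab_240) (finTab_241) (Nat.ble 241 c)
noncomputable def finTab_s_238_242 (c : Nat) : Nat := @Bool.rec (fun _ => Nat) (finTab_s_238_240 c) (finTab_s_240_242 c) (Nat.ble 240 c)
noncomputable def finTab_s_235_242 (c : Nat) : Nat := @Bool.rec (fun _ => Nat) (finTab_s_235_238 c) (finTab_s_238_242 c) (Nat.ble 238 c)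
noncomputable def finTab_s_228_242 (c : Nat) : Nat := @Bool.rec (fun _ => Nat) (finTab_s_228_235 c) (finTab_s_235_242 c) (Nat.ble 235 c)
noncomputable def finTab_s_243_245 (c : Nat) : Nat := @Bool.rec (fun _ => Nat) (finTab_243) (finTab_244) (Nat.ble 244 c)
noncomputable def finTab_s_242_245 (c : Nat) : Nat := @Bool.rec (fun _ => Nat) (finTab_242) (finTab_s_243_245 c) (Nat.ble 243 c)
noncomputable def finTab_s_245_247 (c : Nat) : Nat := @Bool.rec (fun _ => Nat) (finTab_245) (finTab_246) (Nat.ble 246 c)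
noncomputable def finTab_s_247_249 (c : Nat) : Nat := @Bool.rec (fun _ => Nat) (finTab_247) (finTab_248) (Nat.ble 248 c)
noncomputable def finTab_s_245_249 (c : Nat) : Nat := @Bool.rec (fun _ => Nat) (finTab_s_245_247 c) (finTab_s_247_249 c) (Nat.ble 247 c)
noncomputable def finTab_s_242_249 (c : Nat) : Nat := @Bool.rec (fun _ => Nat) (finTab_s_242_245 c) (finTab_s_245_249 c) (Nat.ble 245 c)
noncomputable def finTab_s_250_252 (c : Nat) : Nat := @Bool.rec (fun _ => Nat) (finTab_250) (finTab_251) (Nat.ble 251 c)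
noncomputable def finTab_s_249_252 (c : Nat) : Nat := @Bool.rec (fun _ => Nat) (finTab_249) (finTab_s_250_252 c) (Nat.ble 250 c)
noncomputable def finTab_s_252_254 (c : Nat) : Nat := @Bool.rec (fun _ => Nat) (finTab_252) (finTab_253) (Nat.ble 253 c)
noncomputable def finTab_s_254_256 (c : Nat) : Nat := @Bool.rec (fun _ => Nat) (finTab_254) (finTab_255) (Nat.ble 255 c)
noncomputable def finTab_s_252_256 (c : Nat) : Nat := @Bool.rec (fun _ => Nat) (finTab_s_252_254 c) (finTab_s_254_256 c) (Nat.ble 254 c)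
noncomputable def finTab_s_249_256 (c : Nat) : Nat := @Bool.rec (fun _ => Nat) (finTab_s_249_252 c) (finTab_s_252_256 c) (Nat.ble 252 c)
noncomputable def finTab_s_242_256 (c : Nat) : Nat := @Bool.rec (fun _ => Nat) (finTab_s_242_249 c) (finTab_s_249_256 c) (Nat.ble 249 c)
noncomputable def finTab_s_228_256 (c : Nat) : Nat := @Bool.rec (fun _ => Nat) (finTab_s_228_242 c) (finTab_s_242_256 c) (Nat.ble 242 c)
noncomputable def finTab_s_257_259 (c : Nat) : Nat := @Bool.rec (fun _ => Nat) (finTab_257) (finTab_258) (Nat.ble 258 c)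
noncomputable def finTab_s_256_259 (c : Nat) : Nat := @Bool.rec (fun _ => Nat) (finTab_256) (finTab_s_257_259 c) (Nat.ble 257 c)
noncomputable def finTab_s_259_261 (c : Nat) : Nat := @Bool.rec (fun _ => Nat) (finTab_259) (finTab_260) (Nat.ble 260 c)
noncomputable def finTab_s_261_263 (c : Nat) : Nat := @Bool.rec (fun _ => Nat) (finTab_261) (finTab_262) (Nat.ble 262 c)
noncomputable def finTab_s_259_263 (c : Nat) : Nat := @Bool.rec (fun _ => Nat) (finTab_s_259_261 c) (finTab_s_261_263 c) (Nat.ble 261 c)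
noncomputable def finTab_s_256_263 (c : Nat) : Nat := @Bool.rec (fun _ => Nat) (finTab_s_256_259 c) (finTab_s_259_263 c) (Nat.ble 259 c)
noncomputable def finTab_s_264_266 (c : Nat) : Nat := @Bool.rec (fun _ => Nat) (finTab_264) (finTab_265) (Nat.ble 265 c)
noncomputable def finTab_s_263_266 (c : Nat) : Nat := @Bool.rec (fun _ => Nat) (finTab_263) (finTab_s_264_266 c) (Nat.ble 264 c)
noncomputable def finTab_s_266_268 (c : Nat) : Nat := @Bool.rec (fun _ => Nat) (finTab_266) (finTab_267) (Nat.ble 267 c)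
noncomputable def finTab_s_268_270 (c : Nat) : Nat := @Bool.rec (fun _ => Nat) (finTab_268) (finTab_269) (Nat.ble 269 c)
noncomputable def finTab_s_266_270 (c : Nat) : Nat := @Bool.rec (fun _ => Nat) (finTab_s_266_268 c) (finTab_s_268_270 c) (Nat.ble 268 c)
noncomputable def finTab_s_263_270 (c : Nat) : Nat := @Bool.rec (fun _ => Nat) (finTab_s_263_266 c) (finTab_s_266_270 c) (Nat.ble 266 c)
noncomputable def finTab_s_256_270 (c : Nat) : Nat := @Bool.rec (fun _ => Nat) (finTab_s_256_263 c) (finTab_s_263_270 c) (Nat.ble 263 c)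
noncomputable def finTab_s_271_273 (c : Nat) : Nat := @Bool.rec (fun _ => Nat) (finTab_271) (finTab_272) (Nat.ble 272 c)
noncomputable def finTab_s_270_273 (c : Nat) : Nat := @Bool.rec (fun _ => Nat) (finTab_270) (finTab_s_271_273 c) (Nat.ble 271 c)
noncomputable def finTab_s_273_275 (c : Nat) : Nat := @Bool.rec (fun _ => Nat) (finTab_273) (finTab_274) (Nat.ble 274 c)
noncomputable def finTab_s_275_277 (c : Nat) : Nat := @Bool.rec (fun _ => Nat) (finTab_275) (finTab_276) (Nat.ble 276 c)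
noncomputable def finTab_s_273_277 (c : Nat) : Nat := @Bool.rec (fun _ => Nat) (finTab_s_273_275 c) (finTab_s_275_277 c) (Nat.ble 275 c)
noncomputable def finTab_s_270_277 (c : Nat) : Nat := @Bool.rec (fun _ => Nat) (finTab_s_270_273 c) (finTab_s_273_277 c) (Nat.ble 273 c)
noncomputable def finTab_s_277_279 (c : Nat) : Nat := @Bool.rec (fun _ => Nat) (finTab_277) (finTab_278) (Nat.ble 278 c)
noncomputable def finTab_s_279_281 (c : Nat) : Nat := @Bool.rec (fun _ => Nat) (finTab_279) (finTab_280) (Nat.ble 280 c)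
noncomputable def finTab_s_277_281 (c : Nat) : Nat := @Bool.rec (fun _ => Nat) (finTab_s_277_279 c) (finTab_s_279_281 c) (Nat.ble 279 c)
noncomputable def finTab_s_281_283 (c : Nat) : Nat := @Bool.rec (fun _ => Nat) (finTab_281) (finTab_282) (Nat.ble 282 c)
noncomputable def finTab_s_283_285 (c : Nat) : Nat := @Bool.rec (fun _ => Nat) (finTab_283) (finTab_284) (Nat.ble 284 c)
noncomputable def finTab_s_281_285 (c : Nat) : Nat := @Bool.rec (fun _ => Nat) (finTab_s_281_283 c) (finTab_s_283_285 c) (Nat.ble 283 c)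
noncomputable def finTab_s_277_285 (c : Nat) : Nat := @Bool.rec (fun _ => Nat) (finTab_s_277_281 c) (finTab_s_281_285 c) (Nat.ble 281 c)
noncomputable def finTab_s_270_285 (c : Nat) : Nat := @Bool.rec (fun _ => Nat) (finTab_s_270_277 c) (finTab_s_277_285 c) (Nat.ble 277 c)
noncomputable def finTab_s_256_285 (c : Nat) : Nat := @Bool.rec (fun _ => Nat) (finTab_s_256_270 c) (finTab_s_270_285 c) (Nat.ble 270 c)
noncomputable def finTab_s_228_285 (c : Nat) : Nat := @Bool.rec (fun _ => Nat) (finTab_s_228_256 c) (finTab_s_256_285 c) (Nat.ble 256 c)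
noncomputable def finTab_s_286_288 (c : Nat) : Nat := @Bool.rec (fun _ => Nat) (finTab_286) (finTab_287) (Nat.ble 287 c)
noncomputable def finTab_s_285_288 (c : Nat) : Nat := @Bool.rec (fun _ => Nat) (finTab_285) (finTab_s_286_288 c) (Nat.ble 286 c)
noncomputable def finTab_s_288_290 (c : Nat) : Nat := @Bool.rec (fun _ => Nat) (finTab_288) (finTab_289) (Nat.ble 289 c)
noncomputable def finTab_s_290_292 (c : Nat) : Nat := @Bool.rec (fun _ => Nat) (finTab_290) (finTab_291) (Nat.ble 291 c)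
noncomputable def finTab_s_288_292 (c : Nat) : Nat := @Bool.rec (fun _ => Nat) (finTab_s_288_290 c) (finTab_s_290_292 c) (Nat.ble 290 c)
noncomputable def finTab_s_285_292 (c : Nat) : Nat := @Bool.rec (fun _ => Nat) (finTab_s_285_288 c) (finTab_s_288_292 c) (Nat.ble 288 c)
noncomputable def finTab_s_293_295 (c : Nat) : Nat := @Bool.rec (fun _ => Nat) (finTab_293) (finTab_294) (Nat.ble 294 c)
noncomputable def finTab_s_292_295 (c : Nat) : Nat := @Bool.rec (fun _ => Nat) (finTab_292) (finTab_s_293_295 c) (Nat.ble 293 c)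
noncomputable def finTab_s_295_297 (c : Nat) : Nat := @Bool.rec (fun _ => Nat) (finTab_295) (finTab_296) (Nat.ble 296 c)
noncomputable def finTab_s_297_299 (c : Nat) : Nat := @Bool.rec (fun _ => Nat) (finTab_297) (finTab_298) (Nat.ble 298 c)
noncomputable def finTab_s_295_299 (c : Nat) : Nat := @Bool.rec (fun _ => Nat) (finTab_s_295_297 c) (finTab_s_297_299 c) (Nat.ble 297 c)
noncomputable def finTab_s_292_299 (c : Nat) : Nat := @Bool.rec (fun _ => Nat) (finTab_s_292_295 c) (finTab_s_295_299 c) (Nat.ble 295 c)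
noncomputable def finTab_s_285_299 (c : Nat) : Nat := @Bool.rec (fun _ => Nat) (finTab_s_285_292 c) (finTab_s_292_299 c) (Nat.ble 292 c)
noncomputable def finTab_s_300_302 (c : Nat) : Nat := @Bool.rec (fun _ => Nat) (finTab_300) (finTab_301) (Nat.ble 301 c)
noncomputable def finTab_s_299_302 (c : Nat) : Nat := @Bool.rec (fun _ => Nat) (finTab_299) (finTab_s_300_302 c) (Nat.ble 300 c)
noncomputable def finTab_s_302_304 (c : Nat) : Nat := @Bool.rec (fun _ => Nat) (finTab_302) (finTab_303) (Nat.ble 303 c)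
noncomputable def finTab_s_304_306 (c : Nat) : Nat := @Bool.rec (fun _ => Nat) (finTab_304) (finTab_305) (Nat.ble 305 c)
noncomputable def finTab_s_302_306 (c : Nat) : Nat := @Bool.rec (fun _ => Nat) (finTab_s_302_304 c) (finTab_s_304_306 c) (Nat.ble 304 c)
noncomputable def finTab_s_299_306 (c : Nat) : Nat := @Bool.rec (fun _ => Nat) (finTab_s_299_302 c) (finTab_s_302_306 c) (Nat.ble 302 c)
noncomputable def finTab_s_307_309 (c : Nat) : Nat := @Bool.rec (fun _ => Nat) (finTab_307) (finTab_308) (Nat.ble 308 c)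
noncomputable def finTab_s_306_309 (c : Nat) : Nat := @Bool.rec (fun _ => Nat) (finTab_306) (finTab_s_307_309 c) (Nat.ble 307 c)
noncomputable def finTab_s_309_311 (c : Nat) : Nat := @Bool.rec (fun _ => Nat) (finTab_309) (finTab_310) (Nat.ble 310 c)
noncomputable def finTab_s_311_313 (c : Nat) : Nat := @Bool.rec (fun _ => Nat) (finTab_311) (finTab_312) (Nat.ble 312 c)
noncomputable def finTab_s_309_313 (c : Nat) : Nat := @Bool.rec (fun _ => Nat) (finTab_s_309_311 c) (finTab_s_311_313 c) (Nat.ble 311 c)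
noncomputable def finTab_s_306_313 (c : Nat) : Nat := @Bool.rec (fun _ => Nat) (finTab_s_306_309 c) (finTab_s_309_313 c) (Nat.ble 309 c)
noncomputable def finTab_s_299_313 (c : Nat) : Nat := @Bool.rec (fun _ => Nat) (finTab_s_299_306 c) (finTab_s_306_313 c) (Nat.ble 306 c)
noncomputable def finTab_s_285_313 (c : Nat) : Nat := @Bool.rec (fun _ => Nat) (finTab_s_285_299 c) (finTab_s_299_313 c) (Nat.ble 299 c)
noncomputable def finTab_s_314_316 (c : Nat) : Nat := @Bool.rec (fun _ => Nat) (finTab_314) (finTab_315) (Nat.ble 315 c)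
noncomputable def finTab_s_313_316 (c : Nat) : Nat := @Bool.rec (fun _ => Nat) (finTab_313) (finTab_s_314_316 c) (Nat.ble 314 c)
noncomputable def finTab_s_316_318 (c : Nat) : Nat := @Bool.rec (fun _ => Nat) (finTab_316) (finTab_317) (Nat.ble 317 c)
noncomputable def finTab_s_318_320 (c : Nat) : Nat := @Bool.rec (fun _ => Nat) (finTab_318) (finTab_319) (Nat.ble 319 c)
noncomputable def finTab_s_316_320 (c : Nat) : Nat := @Bool.rec (fun _ => Nat) (finTab_s_316_318 c) (finTab_s_318_320 c) (Nat.ble 318 c)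
noncomputable def finTab_s_313_320 (c : Nat) : Nat := @Bool.rec (fun _ => Nat) (finTab_s_313_316 c) (finTab_s_316_320 c) (Nat.ble 316 c)
noncomputable def finTab_s_321_323 (c : Nat) : Nat := @Bool.rec (fun _ => Nat) (finTab_321) (finTab_322) (Nat.ble 322 c)
noncomputable def finTab_s_320_323 (c : Nat) : Nat := @Bool.rec (fun _ => Nat) (finTab_320) (finTab_s_321_323 c) (Nat.ble 321 c)
noncomputable def finTab_s_323_325 (c : Nat) : Nat := @Bool.rec (fun _ => Nat) (finTab_323) (finTab_324) (Nat.ble 324 c)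
noncomputable def finTab_s_325_327 (c : Nat) : Nat := @Bool.rec (fun _ => Nat) (finTab_325) (finTab_326) (Nat.ble 326 c)
noncomputable def finTab_s_323_327 (c : Nat) : Nat := @Bool.rec (fun _ => Nat) (finTab_s_323_325 c) (finTab_s_325_327 c) (Nat.ble 325 c)
noncomputable def finTab_s_320_327 (c : Nat) : Nat := @Bool.rec (fun _ => Nat) (finTab_s_320_323 c) (finTab_s_323_327 c) (Nat.ble 323 c)
noncomputable def finTab_s_313_327 (c : Nat) : Nat := @Bool.rec (fun _ => Nat) (finTab_s_313_320 c) (finTab_s_320_327 c) (Nat.ble 320 c)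
noncomputable def finTab_s_328_330 (c : Nat) : Nat := @Bool.rec (fun _ => Nat) (finTab_328) (finTab_329) (Nat.ble 329 c)
noncomputable def finTab_s_327_330 (c : Nat) : Nat := @Bool.rec (fun _ => Nat) (finTab_327) (finTab_s_328_330 c) (Nat.ble 328 c)
noncomputable def finTab_s_330_332 (c : Nat) : Nat := @Bool.rec (fun _ => Nat) (finTab_330) (finTab_331) (Nat.ble 331 c)
noncomputable def finTab_s_332_334 (c : Nat) : Nat := @Bool.rec (fun _ => Nat) (finTab_332) (finTab_333) (Nat.ble 333 c)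
noncomputable def finTab_s_330_334 (c : Nat) : Nat := @Bool.rec (fun _ => Nat) (finTab_s_330_332 c) (finTab_s_332_334 c) (Nat.ble 332 c)
noncomputable def finTab_s_327_334 (c : Nat) : Nat := @Bool.rec (fun _ => Nat) (finTab_s_327_330 c) (finTab_s_330_334 c) (Nat.ble 330 c)
noncomputable def finTab_s_334_336 (c : Nat) : Nat := @Bool.rec (fun _ => Nat) (finTab_334) (finTab_335) (Nat.ble 335 c)
noncomputable def finTab_s_336_338 (c : Nat) : Nat := @Bool.rec (fun _ => Nat) (finTab_336) (finTab_337) (Nat.ble 337 c)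
noncomputable def finTab_s_334_338 (c : Nat) : Nat := @Bool.rec (fun _ => Nat) (finTab_s_334_336 c) (finTab_s_336_338 c) (Nat.ble 336 c)
noncomputable def finTab_s_338_340 (c : Nat) : Nat := @Bool.rec (fun _ => Nat) (finTab_338) (finTab_339) (Nat.ble 339 c)
noncomputable def finTab_s_340_342 (c : Nat) : Nat := @Bool.rec (fun _ => Nat) (finTab_340) (finTab_341) (Nat.ble 341 c)
noncomputable def finTab_s_338_342 (c : Nat) : Nat := @Bool.rec (fun _ => Nat) (finTab_s_338_340 c) (finTab_s_340_342 c) (Nat.ble 340 c)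
noncomputable def finTab_s_334_342 (c : Nat) : Nat := @Bool.rec (fun _ => Nat) (finTab_s_334_338 c) (finTab_s_338_342 c) (Nat.ble 338 c)
noncomputable def finTab_s_327_342 (c : Nat) : Nat := @Bool.rec (fun _ => Nat) (finTab_s_327_334 c) (finTab_s_334_342 c) (Nat.ble 334 c)
noncomputable def finTab_s_313_342 (c : Nat) : Nat := @Bool.rec (fun _ => Nat) (finTab_s_313_327 c) (finTab_s_327_342 c) (Nat.ble 327 c)
noncomputable def finTab_s_285_342 (c : Nat) : Nat := @Bool.rec (fun _ => Nat) (finTab_s_285_313 c) (finTab_s_313_342 c) (Nat.ble 313 c)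
noncomputable def finTab_s_228_342 (c : Nat) : Nat := @Bool.rec (fun _ => Nat) (finTab_s_228_285 c) (finTab_s_285_342 c) (Nat.ble 285 c)
noncomputable def finTab_s_343_345 (c : Nat) : Nat := @Bool.rec (fun _ => Nat) (finTab_343) (finTab_344) (Nat.ble 344 c)
noncomputable def finTab_s_342_345 (c : Nat) : Nat := @Bool.rec (fun _ => Nat) (finTab_342) (finTab_s_343_345 c) (Nat.ble 343 c)
noncomputable def finTab_s_345_347 (c : Nat) : Nat := @Bool.rec (fun _ => Nat) (finTab_345) (finTab_346) (Nat.ble 346 c)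
noncomputable def finTab_s_347_349 (c : Nat) : Nat := @Bool.rec (fun _ => Nat) (finTab_347) (finTab_348) (Nat.ble 348 c)
noncomputable def finTab_s_345_349 (c : Nat) : Nat := @Bool.rec (fun _ => Nat) (finTab_s_345_347 c) (finTab_s_347_349 c) (Nat.ble 347 c)
noncomputable def finTab_s_342_349 (c : Nat) : Nat := @Bool.rec (fun _ => Nat) (finTab_s_342_345 c) (finTab_s_345_349 c) (Nat.ble 345 c)
noncomputable def finTab_s_350_352 (c : Nat) : Nat := @Bool.rec (fun _ => Nat) (finTab_350) (finTab_351) (Nat.ble 351 c)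
noncomputable def finTab_s_349_352 (c : Nat) : Nat := @Bool.rec (fun _ => Nat) (finTab_349) (finTab_s_350_352 c) (Nat.ble 350 c)
noncomputable def finTab_s_352_354 (c : Nat) : Nat := @Bool.rec (fun _ => Nat) (finTab_352) (finTab_353) (Nat.ble 353 c)
noncomputable def finTab_s_354_356 (c : Nat) : Nat := @Bool.rec (fun _ => Nat) (finTab_354) (finTab_355) (Nat.ble 355 c)
noncomputable def finTab_s_352_356 (c : Nat) : Nat := @Bool.rec (fun _ => Nat) (finTab_s_352_354 c) (finTab_s_354_356 c) (Nat.ble 354 c)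
noncomputable def finTab_s_349_356 (c : Nat) : Nat := @Bool.rec (fun _ => Nat) (finTab_s_349_352 c) (finTab_s_352_356 c) (Nat.ble 352 c)
noncomputable def finTab_s_342_356 (c : Nat) : Nat := @Bool.rec (fun _ => Nat) (finTab_s_342_349 c) (finTab_s_349_356 c) (Nat.ble 349 c)
noncomputable def finTab_s_357_359 (c : Nat) : Nat := @Bool.rec (fun _ => Nat) (finTab_357) (finTab_358) (Nat.ble 358 c)
noncomputable def finTab_s_356_359 (c : Nat) : Nat := @Bool.rec (fun _ => Nat) (finTab_356) (finTab_s_357_359 c) (Nat.ble 357 c)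
noncomputable def finTab_s_359_361 (c : Nat) : Nat := @Bool.rec (fun _ => Nat) (finTab_359) (finTab_360) (Nat.ble 360 c)
noncomputable def finTab_s_361_363 (c : Nat) : Nat := @Bool.rec (fun _ => Nat) (finTab_361) (finTab_362) (Nat.ble 362 c)
noncomputable def finTab_s_359_363 (c : Nat) : Nat := @Bool.rec (fun _ => Nat) (finTab_s_359_361 c) (finTab_s_361_363 c) (Nat.ble 361 c)
noncomputable def finTab_s_356_363 (c : Nat) : Nat := @Bool.rec (fun _ => Nat) (finTab_s_356_359 c) (finTab_s_359_363 c) (Nat.ble 359 c)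
noncomputable def finTab_s_364_366 (c : Nat) : Nat := @Bool.rec (fun _ => Nat) (finTab_364) (finTab_365) (Nat.ble 365 c)
noncomputable def finTab_s_363_366 (c : Nat) : Nat := @Bool.rec (fun _ => Nat) (finTab_363) (finTab_s_364_366 c) (Nat.ble 364 c)
noncomputable def finTab_s_366_368 (c : Nat) : Nat := @Bool.rec (fun _ => Nat) (finTab_366) (finTab_367) (Nat.ble 367 c)
noncomputable def finTab_s_368_370 (c : Nat) : Nat := @Bool.rec (fun _ => Nat) (finTab_368) (finTab_369) (Nat.ble 369 c)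
noncomputable def finTab_s_366_370 (c : Nat) : Nat := @Bool.rec (fun _ => Nat) (finTab_s_366_368 c) (finTab_s_368_370 c) (Nat.ble 368 c)
noncomputable def finTab_s_363_370 (c : Nat) : Nat := @Bool.rec (fun _ => Nat) (finTab_s_363_366 c) (finTab_s_366_370 c) (Nat.ble 366 c)
noncomputable def finTab_s_356_370 (c : Nat) : Nat := @Bool.rec (fun _ => Nat) (finTab_s_356_363 c) (finTab_s_363_370 c) (Nat.ble 363 c)
noncomputable def finTab_s_342_370 (c : Nat) : Nat := @Bool.rec (fun _ => Nat) (finTab_s_342_356 c) (finTab_s_356_370 c) (Nat.ble 356 c)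
noncomputable def finTab_s_371_373 (c : Nat) : Nat := @Bool.rec (fun _ => Nat) (finTab_371) (finTab_372) (Nat.ble 372 c)
noncomputable def finTab_s_370_373 (c : Nat) : Nat := @Bool.rec (fun _ => Nat) (finTab_370) (finTab_s_371_373 c) (Nat.ble 371 c)
noncomputable def finTab_s_373_375 (c : Nat) : Nat := @Bool.rec (fun _ => Nat) (finTab_373) (finTab_374) (Nat.ble 374 c)
noncomputable def finTab_s_375_377 (c : Nat) : Nat := @Bool.rec (fun _ => Nat) (finTab_375) (finTab_376) (Nat.ble 376 c)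
noncomputable def finTab_s_373_377 (c : Nat) : Nat := @Bool.rec (fun _ => Nat) (finTab_s_373_375 c) (finTab_s_375_377 c) (Nat.ble 375 c)
noncomputable def finTab_s_370_377 (c : Nat) : Nat := @Bool.rec (fun _ => Nat) (finTab_s_370_373 c) (finTab_s_373_377 c) (Nat.ble 373 c)
noncomputable def finTab_s_378_380 (c : Nat) : Nat := @Bool.rec (fun _ => Nat) (finTab_378) (finTab_379) (Nat.ble 379 c)
noncomputable def finTab_s_377_380 (c : Nat) : Nat := @Bool.rec (fun _ => Nat) (finTab_377) (finTab_s_378_380 c) (Nat.ble 378 c)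
noncomputable def finTab_s_380_382 (c : Nat) : Nat := @Bool.rec (fun _ => Nat) (finTab_380) (finTab_381) (Nat.ble 381 c)
noncomputable def finTab_s_382_384 (c : Nat) : Nat := @Bool.rec (fun _ => Nat) (finTab_382) (finTab_383) (Nat.ble 383 c)
noncomputable def finTab_s_380_384 (c : Nat) : Nat := @Bool.rec (fun _ => Nat) (finTab_s_380_382 c) (finTab_s_382_384 c) (Nat.ble 382 c)
noncomputable def finTab_s_377_384 (c : Nat) : Nat := @Bool.rec (fun _ => Nat) (finTab_s_377_380 c) (finTab_s_380_384 c) (Nat.ble 380 c)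
noncomputable def finTab_s_370_384 (c : Nat) : Nat := @Bool.rec (fun _ => Nat) (finTab_s_370_377 c) (finTab_s_377_384 c) (Nat.ble 377 c)
noncomputable def finTab_s_385_387 (c : Nat) : Nat := @Bool.rec (fun _ => Nat) (finTab_385) (finTab_386) (Nat.ble 386 c)
noncomputable def finTab_s_384_387 (c : Nat) : Nat := @Bool.rec (fun _ => Nat) (finTab_384) (finTab_s_385_387 c) (Nat.ble 385 c)
noncomputable def finTab_s_387_389 (c : Nat) : Nat := @Bool.rec (fun _ => Nat) (finTab_387) (finTab_388) (Nat.ble 388 c)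
noncomputable def finTab_s_389_391 (c : Nat) : Nat := @Bool.rec (fun _ => Nat) (finTab_389) (finTab_390) (Nat.ble 390 c)
noncomputable def finTab_s_387_391 (c : Nat) : Nat := @Bool.rec (fun _ => Nat) (finTab_s_387_389 c) (finTab_s_389_391 c) (Nat.ble 389 c)
noncomputable def finTab_s_384_391 (c : Nat) : Nat := @Bool.rec (fun _ => Nat) (finTab_s_384_387 c) (finTab_s_387_391 c) (Nat.ble 387 c)
noncomputable def finTab_s_391_393 (c : Nat) : Nat := @Bool.rec (fun _ => Nat) (finTab_391) (finTab_392) (Nat.ble 392 c)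
noncomputable def finTab_s_393_395 (c : Nat) : Nat := @Bool.rec (fun _ => Nat) (finTab_393) (finTab_394) (Nat.ble 394 c)
noncomputable def finTab_s_391_395 (c : Nat) : Nat := @Bool.rec (fun _ => Nat) (finTab_s_391_393 c) (finTab_s_393_395 c) (Nat.ble 393 c)
noncomputable def finTab_s_395_397 (c : Nat) : Nat := @Bool.rec (fun _ => Nat) (finTab_395) (finTab_396) (Nat.ble 396 c)
noncomputable def finTab_s_397_399 (c : Nat) : Nat := @Bool.rec (fun _ => Nat) (finTab_397) (finTab_398) (Nat.ble 398 c)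
noncomputable def finTab_s_395_399 (c : Nat) : Nat := @Bool.rec (fun _ => Nat) (finTab_s_395_397 c) (finTab_s_397_399 c) (Nat.ble 397 c)
noncomputable def finTab_s_391_399 (c : Nat) : Nat := @Bool.rec (fun _ => Nat) (finTab_s_391_395 c) (finTab_s_395_399 c) (Nat.ble 395 c)
noncomputable def finTab_s_384_399 (c : Nat) : Nat := @Bool.rec (fun _ => Nat) (finTab_s_384_391 c) (finTab_s_391_399 c) (Nat.ble 391 c)
noncomputable def finTab_s_370_399 (c : Nat) : Nat := @Bool.rec (fun _ => Nat) (finTab_s_370_384 c) (finTab_s_384_399 c) (Nat.ble 384 c)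
noncomputable def finTab_s_342_399 (c : Nat) : Nat := @Bool.rec (fun _ => Nat) (finTab_s_342_370 c) (finTab_s_370_399 c) (Nat.ble 370 c)
noncomputable def finTab_s_400_402 (c : Nat) : Nat := @Bool.rec (fun _ => Nat) (finTab_400) (finTab_401) (Nat.ble 401 c)
noncomputable def finTab_s_399_402 (c : Nat) : Nat := @Bool.rec (fun _ => Nat) (finTab_399) (finTab_s_400_402 c) (Nat.ble 400 c)
noncomputable def finTab_s_402_404 (c : Nat) : Nat := @Bool.rec (fun _ => Nat) (finTab_402) (finTab_403) (Nat.ble 403 c)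
noncomputable def finTab_s_404_406 (c : Nat) : Nat := @Bool.rec (fun _ => Nat) (finTab_404) (finTab_405) (Nat.ble 405 c)
noncomputable def finTab_s_402_406 (c : Nat) : Nat := @Bool.rec (fun _ => Nat) (finTab_s_402_404 c) (finTab_s_404_406 c) (Nat.ble 404 c)
noncomputable def finTab_s_399_406 (c : Nat) : Nat := @Bool.rec (fun _ => Nat) (finTab_s_399_402 c) (finTab_s_402_406 c) (Nat.ble 402 c)
noncomputable def finTab_s_407_409 (c : Nat) : Nat := @Bool.rec (fun _ => Nat) (finTab_407) (finTab_408) (Nat.ble 408 c)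
noncomputable def finTab_s_406_409 (c : Nat) : Nat := @Bool.rec (fun _ => Nat) (finTab_406) (finTab_s_407_409 c) (Nat.ble 407 c)
noncomputable def finTab_s_409_411 (c : Nat) : Nat := @Bool.rec (fun _ => Nat) (finTab_409) (finTab_410) (Nat.ble 410 c)
noncomputable def finTab_s_411_413 (c : Nat) : Nat := @Bool.rec (fun _ => Nat) (finTab_411) (finTab_412) (Nat.ble 412 c)
noncomputable def finTab_s_409_413 (c : Nat) : Nat := @Bool.rec (fun _ => Nat) (finTab_s_409_411 c) (finTab_s_411_413 c) (Nat.ble 411 c)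
noncomputable def finTab_s_406_413 (c : Nat) : Nat := @Bool.rec (fun _ => Nat) (finTab_s_406_409 c) (finTab_s_409_413 c) (Nat.ble 409 c)
noncomputable def finTab_s_399_413 (c : Nat) : Nat := @Bool.rec (fun _ => Nat) (finTab_s_399_406 c) (finTab_s_406_413 c) (Nat.ble 406 c)
noncomputable def finTab_s_414_416 (c : Nat) : Nat := @Bool.rec (fun _ => Nat) (finTab_414) (finTab_415) (Nat.ble 415 c)
noncomputable def finTab_s_413_416 (c : Nat) : Nat := @Bool.rec (fun _ => Nat) (finTab_413) (finTab_s_414_416 c) (Nat.ble 414 c)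
noncomputable def finTab_s_416_418 (c : Nat) : Nat := @Bool.rec (fun _ => Nat) (finTab_416) (finTab_417) (Nat.ble 417 c)
noncomputable def finTab_s_418_420 (c : Nat) : Nat := @Bool.rec (fun _ => Nat) (finTab_418) (finTab_419) (Nat.ble 419 c)
noncomputable def finTab_s_416_420 (c : Nat) : Nat := @Bool.rec (fun _ => Nat) (finTab_s_416_418 c) (finTab_s_418_420 c) (Nat.ble 418 c)
noncomputable def finTab_s_413_420 (c : Nat) : Nat := @Bool.rec (fun _ => Nat) (finTab_s_413_416 c) (finTab_s_416_420 c) (Nat.ble 416 c)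
noncomputable def finTab_s_421_423 (c : Nat) : Nat := @Bool.rec (fun _ => Nat) (finTab_421) (finTab_422) (Nat.ble 422 c)
noncomputable def finTab_s_420_423 (c : Nat) : Nat := @Bool.rec (fun _ => Nat) (finTab_420) (finTab_s_421_423 c) (Nat.ble 421 c)
noncomputable def finTab_s_423_425 (c : Nat) : Nat := @Bool.rec (fun _ => Nat) (finTab_423) (finTab_424) (Nat.ble 424 c)
noncomputable def finTab_s_425_427 (c : Nat) : Nat := @Bool.rec (fun _ => Nat) (finTab_425) (finTab_426) (Nat.ble 426 c)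
noncomputable def finTab_s_423_427 (c : Nat) : Nat := @Bool.rec (fun _ => Nat) (finTab_s_423_425 c) (finTab_s_425_427 c) (Nat.ble 425 c)
noncomputable def finTab_s_420_427 (c : Nat) : Nat := @Bool.rec (fun _ => Nat) (finTab_s_420_423 c) (finTab_s_423_427 c) (Nat.ble 423 c)
noncomputable def finTab_s_413_427 (c : Nat) : Nat := @Bool.rec (fun _ => Nat) (finTab_s_413_420 c) (finTab_s_420_427 c) (Nat.ble 420 c)
noncomputable def finTab_s_399_427 (c : Nat) : Nat := @Bool.rec (fun _ => Nat) (finTab_s_399_413 c) (finTab_s_413_427 c) (Nat.ble 413 c)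
noncomputable def finTab_s_428_430 (c : Nat) : Nat := @Bool.rec (fun _ => Nat) (finTab_428) (finTab_429) (Nat.ble 429 c)
noncomputable def finTab_s_427_430 (c : Nat) : Nat := @Bool.rec (fun _ => Nat) (finTab_427) (finTab_s_428_430 c) (Nat.ble 428 c)
noncomputable def finTab_s_430_432 (c : Nat) : Nat := @Bool.rec (fun _ => Nat) (finTab_430) (finTab_431) (Nat.ble 431 c)
noncomputable def finTab_s_432_434 (c : Nat) : Nat := @Bool.rec (fun _ => Nat) (finTab_432) (finTab_433) (Nat.ble 433 c)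
noncomputable def finTab_s_430_434 (c : Nat) : Nat := @Bool.rec (fun _ => Nat) (finTab_s_430_432 c) (finTab_s_432_434 c) (Nat.ble 432 c)
noncomputable def finTab_s_427_434 (c : Nat) : Nat := @Bool.rec (fun _ => Nat) (finTab_s_427_430 c) (finTab_s_430_434 c) (Nat.ble 430 c)
noncomputable def finTab_s_435_437 (c : Nat) : Nat := @Bool.rec (fun _ => Nat) (finTab_435) (finTab_436) (Nat.ble 436 c)
noncomputable def finTab_s_434_437 (c : Nat) : Nat := @Bool.rec (fun _ => Nat) (finTab_434) (finTab_s_435_437 c) (Nat.ble 435 c)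
noncomputable def finTab_s_437_439 (c : Nat) : Nat := @Bool.rec (fun _ => Nat) (finTab_437) (finTab_438) (Nat.ble 438 c)
noncomputable def finTab_s_439_441 (c : Nat) : Nat := @Bool.rec (fun _ => Nat) (finTab_439) (finTab_440) (Nat.ble 440 c)
noncomputable def finTab_s_437_441 (c : Nat) : Nat := @Bool.rec (fun _ => Nat) (finTab_s_437_439 c) (finTab_s_439_441 c) (Nat.ble 439 c)
noncomputable def finTab_s_434_441 (c : Nat) : Nat := @Bool.rec (fun _ => Nat) (finTab_s_434_437 c) (finTab_s_437_441 c) (Nat.ble 437 c)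
noncomputable def finTab_s_427_441 (c : Nat) : Nat := @Bool.rec (fun _ => Nat) (finTab_s_427_434 c) (finTab_s_434_441 c) (Nat.ble 434 c)
noncomputable def finTab_s_442_444 (c : Nat) : Nat := @Bool.rec (fun _ => Nat) (finTab_442) (finTab_443) (Nat.ble 443 c)
noncomputable def finTab_s_441_444 (c : Nat) : Nat := @Bool.rec (fun _ => Nat) (finTab_441) (finTab_s_442_444 c) (Nat.ble 442 c)
noncomputable def finTab_s_444_446 (c : Nat) : Nat := @Bool.rec (fun _ => Nat) (finTab_444) (finTab_445) (Nat.ble 445 c)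
noncomputable def finTab_s_446_448 (c : Nat) : Nat := @Bool.rec (fun _ => Nat) (finTab_446) (finTab_447) (Nat.ble 447 c)
noncomputable def finTab_s_444_448 (c : Nat) : Nat := @Bool.rec (fun _ => Nat) (finTab_s_444_446 c) (finTab_s_446_448 c) (Nat.ble 446 c)
noncomputable def finTab_s_441_448 (c : Nat) : Nat := @Bool.rec (fun _ => Nat) (finTab_s_441_444 c) (finTab_s_444_448 c) (Nat.ble 444 c)
noncomputable def finTab_s_448_450 (c : Nat) : Nat := @Bool.rec (fun _ => Nat) (finTab_448) (finTab_449) (Nat.ble 449 c)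
noncomputable def finTab_s_450_452 (c : Nat) : Nat := @Bool.rec (fun _ => Nat) (finTab_450) (finTab_451) (Nat.ble 451 c)
noncomputable def finTab_s_448_452 (c : Nat) : Nat := @Bool.rec (fun _ => Nat) (finTab_s_448_450 c) (finTab_s_450_452 c) (Nat.ble 450 c)
noncomputable def finTab_s_452_454 (c : Nat) : Nat := @Bool.rec (fun _ => Nat) (finTab_452) (finTab_453) (Nat.ble 453 c)
noncomputable def finTab_s_454_456 (c : Nat) : Nat := @Bool.rec (fun _ => Nat) (finTab_454) (finTab_455) (Nat.ble 455 c)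
noncomputable def finTab_s_452_456 (c : Nat) : Nat := @Bool.rec (fun _ => Nat) (finTab_s_452_454 c) (finTab_s_454_456 c) (Nat.ble 454 c)
noncomputable def finTab_s_448_456 (c : Nat) : Nat := @Bool.rec (fun _ => Nat) (finTab_s_448_452 c) (finTab_s_452_456 c) (Nat.ble 452 c)
noncomputable def finTab_s_441_456 (c : Nat) : Nat := @Bool.rec (fun _ => Nat) (finTab_s_441_448 c) (finTab_s_448_456 c) (Nat.ble 448 c)
noncomputable def finTab_s_427_456 (c : Nat) : Nat := @Bool.rec (fun _ => Nat) (finTab_s_427_441 c) (finTab_s_441_456 c) (Nat.ble 441 c)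
noncomputable def finTab_s_399_456 (c : Nat) : Nat := @Bool.rec (fun _ => Nat) (finTab_s_399_427 c) (finTab_s_427_456 c) (Nat.ble 427 c)
noncomputable def finTab_s_342_456 (c : Nat) : Nat := @Bool.rec (fun _ => Nat) (finTab_s_342_399 c) (finTab_s_399_456 c) (Nat.ble 399 c)
noncomputable def finTab_s_228_456 (c : Nat) : Nat := @Bool.rec (fun _ => Nat) (finTab_s_228_342 c) (finTab_s_342_456 c) (Nat.ble 342 c)
noncomputable def finTab_s_0_456 (c : Nat) : Nat := @Bool.rec (fun _ => Nat) (finTab_s_0_228 c) (finTab_s_228_456 c) (Nat.ble 228 c)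
noncomputable def finTab (i : Nat) : Nat := rdw 21 2097151 (finTab_s_0_456 (Nat.shiftRight i 12)) (Nat.land i 4095)
noncomputable def clsTab_s_0_2 (c : Nat) : Nat := @Bool.rec (fun _ => Nat) (clsTab_0) (clsTab_1) (Nat.ble 1 c)
noncomputable def clsTab_s_2_4 (c : Nat) : Nat := @Bool.rec (fun _ => Nat) (clsTab_2) (clsTab_3) (Nat.ble 3 c)
noncomputable def clsTab_s_0_4 (c : Nat) : Nat := @Bool.rec (fun _ => Nat) (clsTab_s_0_2 c) (clsTab_s_2_4 c) (Nat.ble 2 c)
noncomputable def clsTab_s_4_6 (c : Nat) : Nat := @Bool.rec (fun _ => Nat) (clsTab_4) (clsTab_5) (Nat.ble 5 c)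
noncomputable def clsTab_s_6_8 (c : Nat) : Nat := @Bool.rec (fun _ => Nat) (clsTab_6) (clsTab_7) (Nat.ble 7 c)
noncomputable def clsTab_s_4_8 (c : Nat) : Nat := @Bool.rec (fun _ => Nat) (clsTab_s_4_6 c) (clsTab_s_6_8 c) (Nat.ble 6 c)
noncomputable def clsTab_s_0_8 (c : Nat) : Nat := @Bool.rec (fun _ => Nat) (clsTab_s_0_4 c) (clsTab_s_4_8 c) (Nat.ble 4 c)
noncomputable def clsTab_s_8_10 (c : Nat) : Nat := @Bool.rec (fun _ => Nat) (clsTab_8) (clsTab_9) (Nat.ble 9 c)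
noncomputable def clsTab_s_10_12 (c : Nat) : Nat := @Bool.rec (fun _ => Nat) (clsTab_10) (clsTab_11) (Nat.ble 11 c)
noncomputable def clsTab_s_8_12 (c : Nat) : Nat := @Bool.rec (fun _ => Nat) (clsTab_s_8_10 c) (clsTab_s_10_12 c) (Nat.ble 10 c)
noncomputable def clsTab_s_12_14 (c : Nat) : Nat := @Bool.rec (fun _ => Nat) (clsTab_12) (clsTab_13) (Nat.ble 13 c)
noncomputable def clsTab_s_14_16 (c : Nat) : Nat := @Bool.rec (fun _ => Nat) (clsTab_14) (clsTab_15) (Nat.ble 15 c)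
noncomputable def clsTab_s_12_16 (c : Nat) : Nat := @Bool.rec (fun _ => Nat) (clsTab_s_12_14 c) (clsTab_s_14_16 c) (Nat.ble 14 c)
noncomputable def clsTab_s_8_16 (c : Nat) : Nat := @Bool.rec (fun _ => Nat) (clsTab_s_8_12 c) (clsTab_s_12_16 c) (Nat.ble 12 c)
noncomputable def clsTab_s_0_16 (c : Nat) : Nat := @Bool.rec (fun _ => Nat) (clsTab_s_0_8 c) (clsTab_s_8_16 c) (Nat.ble 8 c)
noncomputable def clsTab_s_16_18 (c : Nat) : Nat := @Bool.rec (fun _ => Nat) (clsTab_16) (clsTab_17) (Nat.ble 17 c)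
noncomputable def clsTab_s_18_20 (c : Nat) : Nat := @Bool.rec (fun _ => Nat) (clsTab_18) (clsTab_19) (Nat.ble 19 c)
noncomputable def clsTab_s_16_20 (c : Nat) : Nat := @Bool.rec (fun _ => Nat) (clsTab_s_16_18 c) (clsTab_s_18_20 c) (Nat.ble 18 c)
noncomputable def clsTab_s_20_22 (c : Nat) : Nat := @Bool.rec (fun _ => Nat) (clsTab_20) (clsTab_21) (Nat.ble 21 c)
noncomputable def clsTab_s_22_24 (c : Nat) : Nat := @Bool.rec (fun _ => Nat) (clsTab_22) (clsTab_23) (Nat.ble 23 c)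
noncomputable def clsTab_s_20_24 (c : Nat) : Nat := @Bool.rec (fun _ => Nat) (clsTab_s_20_22 c) (clsTab_s_22_24 c) (Nat.ble 22 c)
noncomputable def clsTab_s_16_24 (c : Nat) : Nat := @Bool.rec (fun _ => Nat) (clsTab_s_16_20 c) (clsTab_s_20_24 c) (Nat.ble 20 c)
noncomputable def clsTab_s_24_26 (c : Nat) : Nat := @Bool.rec (fun _ => Nat) (clsTab_24) (clsTab_25) (Nat.ble 25 c)
noncomputable def clsTab_s_26_28 (c : Nat) : Nat := @Bool.rec (fun _ => Nat) (clsTab_26) (clsTab_27) (Nat.ble 27 c)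
noncomputable def clsTab_s_24_28 (c : Nat) : Nat := @Bool.rec (fun _ => Nat) (clsTab_s_24_26 c) (clsTab_s_26_28 c) (Nat.ble 26 c)
noncomputable def clsTab_s_28_30 (c : Nat) : Nat := @Bool.rec (fun _ => Nat) (clsTab_28) (clsTab_29) (Nat.ble 29 c)
noncomputable def clsTab_s_31_33 (c : Nat) : Nat := @Bool.rec (fun _ => Nat) (clsTab_31) (clsTab_32) (Nat.ble 32 c)
noncomputable def clsTab_s_30_33 (c : Nat) : Nat := @Bool.rec (fun _ => Nat) (clsTab_30) (clsTab_s_31_33 c) (Nat.ble 31 c)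
noncomputable def clsTab_s_28_33 (c : Nat) : Nat := @Bool.rec (fun _ => Nat) (clsTab_s_28_30 c) (clsTab_s_30_33 c) (Nat.ble 30 c)
noncomputable def clsTab_s_24_33 (c : Nat) : Nat := @Bool.rec (fun _ => Nat) (clsTab_s_24_28 c) (clsTab_s_28_33 c) (Nat.ble 28 c)
noncomputable def clsTab_s_16_33 (c : Nat) : Nat := @Bool.rec (fun _ => Nat) (clsTab_s_16_24 c) (clsTab_s_24_33 c) (Nat.ble 24 c)
noncomputable def clsTab_s_0_33 (c : Nat) : Nat := @Bool.rec (fun _ => Nat) (clsTab_s_0_16 c) (clsTab_s_16_33 c) (Nat.ble 16 c)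
noncomputable def clsTab_s_33_35 (c : Nat) : Nat := @Bool.rec (fun _ => Nat) (clsTab_33) (clsTab_34) (Nat.ble 34 c)
noncomputable def clsTab_s_35_37 (c : Nat) : Nat := @Bool.rec (fun _ => Nat) (clsTab_35) (clsTab_36) (Nat.ble 36 c)
noncomputable def clsTab_s_33_37 (c : Nat) : Nat := @Bool.rec (fun _ => Nat) (clsTab_s_33_35 c) (clsTab_s_35_37 c) (Nat.ble 35 c)
noncomputable def clsTab_s_37_39 (c : Nat) : Nat := @Bool.rec (fun _ => Nat) (clsTab_37) (clsTab_38) (Nat.ble 38 c)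
noncomputable def clsTab_s_39_41 (c : Nat) : Nat := @Bool.rec (fun _ => Nat) (clsTab_39) (clsTab_40) (Nat.ble 40 c)
noncomputable def clsTab_s_37_41 (c : Nat) : Nat := @Bool.rec (fun _ => Nat) (clsTab_s_37_39 c) (clsTab_s_39_41 c) (Nat.ble 39 c)
noncomputable def clsTab_s_33_41 (c : Nat) : Nat := @Bool.rec (fun _ => Nat) (clsTab_s_33_37 c) (clsTab_s_37_41 c) (Nat.ble 37 c)
noncomputable def clsTab_s_41_43 (c : Nat) : Nat := @Bool.rec (fun _ => Nat) (clsTab_41) (clsTab_42) (Nat.ble 42 c)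
noncomputable def clsTab_s_43_45 (c : Nat) : Nat := @Bool.rec (fun _ => Nat) (clsTab_43) (clsTab_44) (Nat.ble 44 c)
noncomputable def clsTab_s_41_45 (c : Nat) : Nat := @Bool.rec (fun _ => Nat) (clsTab_s_41_43 c) (clsTab_s_43_45 c) (Nat.ble 43 c)
noncomputable def clsTab_s_45_47 (c : Nat) : Nat := @Bool.rec (fun _ => Nat) (clsTab_45) (clsTab_46) (Nat.ble 46 c)
noncomputable def clsTab_s_47_49 (c : Nat) : Nat := @Bool.rec (fun _ => Nat) (clsTab_47) (clsTab_48) (Nat.ble 48 c)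
noncomputable def clsTab_s_45_49 (c : Nat) : Nat := @Bool.rec (fun _ => Nat) (clsTab_s_45_47 c) (clsTab_s_47_49 c) (Nat.ble 47 c)
noncomputable def clsTab_s_41_49 (c : Nat) : Nat := @Bool.rec (fun _ => Nat) (clsTab_s_41_45 c) (clsTab_s_45_49 c) (Nat.ble 45 c)
noncomputable def clsTab_s_33_49 (c : Nat) : Nat := @Bool.rec (fun _ => Nat) (clsTab_s_33_41 c) (clsTab_s_41_49 c) (Nat.ble 41 c)
noncomputable def clsTab_s_49_51 (c : Nat) : Nat := @Bool.rec (fun _ => Nat) (clsTab_49) (clsTab_50) (Nat.ble 50 c)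
noncomputable def clsTab_s_51_53 (c : Nat) : Nat := @Bool.rec (fun _ => Nat) (clsTab_51) (clsTab_52) (Nat.ble 52 c)
noncomputable def clsTab_s_49_53 (c : Nat) : Nat := @Bool.rec (fun _ => Nat) (clsTab_s_49_51 c) (clsTab_s_51_53 c) (Nat.ble 51 c)
noncomputable def clsTab_s_53_55 (c : Nat) : Nat := @Bool.rec (fun _ => Nat) (clsTab_53) (clsTab_54) (Nat.ble 54 c)
noncomputable def clsTab_s_55_57 (c : Nat) : Nat := @Bool.rec (fun _ => Nat) (clsTab_55) (clsTab_56) (Nat.ble 56 c)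
noncomputable def clsTab_s_53_57 (c : Nat) : Nat := @Bool.rec (fun _ => Nat) (clsTab_s_53_55 c) (clsTab_s_55_57 c) (Nat.ble 55 c)
noncomputable def clsTab_s_49_57 (c : Nat) : Nat := @Bool.rec (fun _ => Nat) (clsTab_s_49_53 c) (clsTab_s_53_57 c) (Nat.ble 53 c)
noncomputable def clsTab_s_57_59 (c : Nat) : Nat := @Bool.rec (fun _ => Nat) (clsTab_57) (clsTab_58) (Nat.ble 58 c)
noncomputable def clsTab_s_59_61 (c : Nat) : Nat := @Bool.rec (fun _ => Nat) (clsTab_59) (clsTab_60) (Nat.ble 60 c)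
noncomputable def clsTab_s_57_61 (c : Nat) : Nat := @Bool.rec (fun _ => Nat) (clsTab_s_57_59 c) (clsTab_s_59_61 c) (Nat.ble 59 c)
noncomputable def clsTab_s_61_63 (c : Nat) : Nat := @Bool.rec (fun _ => Nat) (clsTab_61) (clsTab_62) (Nat.ble 62 c)
noncomputable def clsTab_s_64_66 (c : Nat) : Nat := @Bool.rec (fun _ => Nat) (clsTab_64) (clsTab_65) (Nat.ble 65 c)
noncomputable def clsTab_s_63_66 (c : Nat) : Nat := @Bool.rec (fun _ => Nat) (clsTab_63) (clsTab_s_64_66 c) (Nat.ble 64 c)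
noncomputable def clsTab_s_61_66 (c : Nat) : Nat := @Bool.rec (fun _ => Nat) (clsTab_s_61_63 c) (clsTab_s_63_66 c) (Nat.ble 63 c)
noncomputable def clsTab_s_57_66 (c : Nat) : Nat := @Bool.rec (fun _ => Nat) (clsTab_s_57_61 c) (clsTab_s_61_66 c) (Nat.ble 61 c)
noncomputable def clsTab_s_49_66 (c : Nat) : Nat := @Bool.rec (fun _ => Nat) (clsTab_s_49_57 c) (clsTab_s_57_66 c) (Nat.ble 57 c)
noncomputable def clsTab_s_33_66 (c : Nat) : Nat := @Bool.rec (fun _ => Nat) (clsTab_s_33_49 c) (clsTab_s_49_66 c) (Nat.ble 49 c)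
noncomputable def clsTab_s_0_66 (c : Nat) : Nat := @Bool.rec (fun _ => Nat) (clsTab_s_0_33 c) (clsTab_s_33_66 c) (Nat.ble 33 c)
noncomputable def clsTab (i : Nat) : Nat := rdw 19 524287 (clsTab_s_0_66 (Nat.shiftRight i 12)) (Nat.land i 4095)
noncomputable def srcF (t : Nat) : Nat := Nat.land (Atab t) 524287
noncomputable def tgtF (t : Nat) : Nat := Nat.land (Nat.shiftRight (Atab t) 19) 524287
noncomputable def ltF (t : Nat) : Nat := Nat.shiftRight (Atab t) 38
noncomputable def rhoF (t : Nat) : Nat := Nat.land (Btab (Nat.sub t 268986)) 127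
noncomputable def rotF (t : Nat) : Nat := Nat.land (Nat.shiftRight (Btab (Nat.sub t 268986)) 7) 31
noncomputable def lenF (t : Nat) : Nat := Nat.land (Nat.shiftRight (Btab (Nat.sub t 268986)) 12) 31
noncomputable def offF (t : Nat) : Nat := Nat.shiftRight (Btab (Nat.sub t 268986)) 17
noncomputable def pfF (j : Nat) : Nat := Nat.shiftRight (Ptab j) 1
noncomputable def pdF (j : Nat) : Nat := Nat.land (Ptab j) 1
noncomputable def tblF (i x : Nat) : Nat := @Bool.rec (fun _ => Nat) (@Bool.rec (fun _ => Nat) (col0 i) (@Bool.rec (fun _ => Nat) (col1 i) (col2 i) (Nat.ble 2 x)) (Nat.ble 1 x)) (@Bool.rec (fun _ => Nat) (@Bool.rec (fun _ => Nat) (col3 i) (col4 i) (Nat.ble 4 x)) (@Bool.rec (fun _ => Nat) (col5 i) (col6 i) (Nat.ble 6 x)) (Nat.ble 5 x)) (Nat.ble 3 x)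
noncomputable def finE (i x : Nat) : Nat := finTab (Nat.add (Nat.mul i 7) x)
noncomputable def finFF (i x : Nat) : Nat := Nat.shiftRight (finE i x) 1
noncomputable def finDF (i x : Nat) : Nat := Nat.land (finE i x) 1

def invLoc : ℕ → ℕ
  | l => l
def emb : List Nat := [0, 1, 2, 3, 4, 5, 6]
noncomputable def D : Log :=
  { k := 7, inv := invE 7 invLoc, nR := 88, rBase := rBtab, rLen := rLtab, RR := RRtab,
    M := 268976, nB := 10, F := 947798, src := srcF, lt := ltF, tgt := tgtF, rho := rhoF, rot := rotF,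
    off := offF, len := lenF, pf := pfF, pd := pdF }

noncomputable def T : Tab :=
  { N := 266560, nameOf := nameTab, tbl := tblF, finF := finFF, finD := finDF, cls := clsTab }

def subs : List (List Nat) := [
[0], [1], [2], [3], [4] ]

def realLoc : List (List Nat) := [
  [0, 0],
  [0, 1, 0, 1, 0, 1, 0, 1],
  [0, 2, 0, 2],
  [0, 3, 0, 3],
  [0, 4, 0, 4],
  [0, 5, 0, 5],
  [0, 6, 0, 6],
  [1, 1],
  [1, 2, 1, 2, 1, 2],
  [1, 3, 1, 3],
  [1, 4, 1, 4],
  [1, 5, 1, 5],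
  [1, 6, 1, 6],
  [2, 2],
  [2, 3, 2, 3, 2, 3, 2, 3, 2, 3, 2, 3, 2, 3, 2, 3, 2, 3, 2, 3],
  [2, 4, 2, 4],
  [2, 5, 2, 5],
  [2, 6, 2, 6],
  [3, 3],
  [3, 4, 3, 4, 3, 4],
  [3, 5, 3, 5, 3, 5],
  [3, 6, 3, 6, 3, 6],
  [4, 4],
  [4, 5, 4, 5],
  [4, 6, 4, 6],
  [5, 5],
  [5, 6, 5, 6, 5, 6, 5, 6],
  [6, 6],
  [4, 6, 5, 6, 5],
  [4, 2, 1, 0, 2, 1, 0, 2, 1, 0],
  [0, 3, 2, 3, 2, 3, 2, 3, 2, 3, 2],
  [2, 3, 5, 6, 2, 3, 5, 6, 2, 3, 5, 6, 2, 3, 5, 6] ]

end Cfsg.Agent.Lib.Helper4.TCD.HeU1
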