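import Cfsg.Agent.Lib.Helper4.TCD_HeU1_Acc

namespace Cfsg.Agent.Lib.Helper4.TCD.HeU1

open Cfsg.Agent.Lib.Helper4.TC

set_option maxRecDepth 100000
set_option Elab.async false

theorem c_zero : D.zeroOK = true := by decide +kernel
theorem c_base : allBelow D.baseOK 10 = true := by decide +kernel
theorem c_let : allBelow D.letOK 7 = true := by decide +kernel
theorem c_cls0 : T.cls 0 = 0 := by decide +kernel
theorem c_name0 : T.nameOf 0 = 0 := by decide +kernel
theorem c_tab : D.relTabOK 0 (baseRels 7 invLoc realLoc subs ++ (baseRels 7 invLoc realLoc subs).map (invWord D.inv)) = true := by decide +kernel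
theorem c_subs : subs.all (fun u => u.all (fun x => Nat.ble (Nat.succ x) 7)) = true := by decide +kernel
theorem c_names_0 : allRange D.nameOK 1 60000 = true := by decide +kernel
theorem c_names_1 : allRange D.nameOK 60001 60000 = true := by decide +kernel
theorem c_names_2 : allRange D.nameOK 120001 60000 = true := by decide +kernel
theorem c_names_3 : allRange D.nameOK 180001 60000 = true := by decide +kernel
theorem c_names_4 : allRange D.nameOK 240001 28975 = true := by decide +kernel
theorem c_cls_0 : allRange (T.clsOK D) 1 15000 = true := by decide +kernel
theorem c_cls_1 : allRange (T.clsOK D) 15001 15000 = true := by decide +kernel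
theorem c_cls_2 : allRange (T.clsOK D) 30001 15000 = true := by decide +kernel
theorem c_cls_3 : allRange (T.clsOK D) 45001 15000 = true := by decide +kernel
theorem c_cls_4 : allRange (T.clsOK D) 60001 15000 = true := by decide +kernel
theorem c_cls_5 : allRange (T.clsOK D) 75001 15000 = true := by decide +kernel
theorem c_cls_6 : allRange (T.clsOK D) 90001 15000 = true := by decide +kernel
theorem c_cls_7 : allRange (T.clsOK D) 105001 15000 = true := by decide +kernel
theorem c_cls_8 : allRange (T.clsOK D) 120001 15000 = true := by decide +kernel
theorem c_cls_9 : allRange (T.clsOK D) 135001 15000 = true := by decide +kernel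
theorem c_cls_10 : allRange (T.clsOK D) 150001 15000 = true := by decide +kernel
theorem c_cls_11 : allRange (T.clsOK D) 165001 15000 = true := by decide +kernel
theorem c_cls_12 : allRange (T.clsOK D) 180001 15000 = true := by decide +kernel
theorem c_cls_13 : allRange (T.clsOK D) 195001 15000 = true := by decide +kernel
theorem c_cls_14 : allRange (T.clsOK D) 210001 15000 = true := by decide +kernel
theorem c_cls_15 : allRange (T.clsOK D) 225001 15000 = true := by decide +kernel
theorem c_cls_16 : allRange (T.clsOK D) 240001 15000 = true := by decide +kernel
theorem c_cls_17 : allRange (T.clsOK D) 255001 13975 = true := by decide +kernel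
theorem c_rep_0 : allRange (T.repOK D) 0 30000 = true := by decide +kernel
theorem c_rep_1 : allRange (T.repOK D) 30000 30000 = true := by decide +kernel
theorem c_rep_2 : allRange (T.repOK D) 60000 30000 = true := by decide +kernel
theorem c_rep_3 : allRange (T.repOK D) 90000 30000 = true := by decide +kernel
theorem c_rep_4 : allRange (T.repOK D) 120000 30000 = true := by decide +kernel
theorem c_rep_5 : allRange (T.repOK D) 150000 30000 = true := by decide +kernel
theorem c_rep_6 : allRange (T.repOK D) 180000 30000 = true := by decide +kernel
theorem c_rep_7 : allRange (T.repOK D) 210000 30000 = true := by decide +kernel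
theorem c_rep_8 : allRange (T.repOK D) 240000 26560 = true := by decide +kernel
theorem c_rel_0 : allRange D.relOK 268986 3154 = true := by decide +kernel
theorem c_rel_1 : allRange D.relOK 272140 3160 = true := by decide +kernel
theorem c_rel_2 : allRange D.relOK 275300 3183 = true := by decide +kernel
theorem c_rel_3 : allRange D.relOK 278483 3182 = true := by decide +kernel
theorem c_rel_4 : allRange D.relOK 281665 3115 = true := by decide +kernel
theorem c_rel_5 : allRange D.relOK 284780 3175 = true := by decide +kernel
theorem c_rel_6 : allRange D.relOK 287955 3187 = true := by decide +kernel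
theorem c_rel_7 : allRange D.relOK 291142 3095 = true := by decide +kernel
theorem c_rel_8 : allRange D.relOK 294237 3112 = true := by decide +kernel
theorem c_rel_9 : allRange D.relOK 297349 3108 = true := by decide +kernel
theorem c_rel_10 : allRange D.relOK 300457 3093 = true := by decide +kernel
theorem c_rel_11 : allRange D.relOK 303550 3037 = true := by decide +kernel
theorem c_rel_12 : allRange D.relOK 306587 3199 = true := by decide +kernel
theorem c_rel_13 : allRange D.relOK 309786 3062 = true := by decide +kernel
theorem c_rel_14 : allRange D.relOK 312848 3085 = true := by decide +kernel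
theorem c_rel_15 : allRange D.relOK 315933 3041 = true := by decide +kernel
theorem c_rel_16 : allRange D.relOK 318974 3101 = true := by decide +kernel
theorem c_rel_17 : allRange D.relOK 322075 3032 = true := by decide +kernel
theorem c_rel_18 : allRange D.relOK 325107 3012 = true := by decide +kernel
theorem c_rel_19 : allRange D.relOK 328119 3187 = true := by decide +kernel
theorem c_rel_20 : allRange D.relOK 331306 3025 = true := by decide +kernel
theorem c_rel_21 : allRange D.relOK 334331 3058 = true := by decide +kernel
theorem c_rel_22 : allRange D.relOK 337389 3107 = true := by decide +kernel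
theorem c_rel_23 : allRange D.relOK 340496 3076 = true := by decide +kernel
theorem c_rel_24 : allRange D.relOK 343572 3078 = true := by decide +kernel
theorem c_rel_25 : allRange D.relOK 346650 3027 = true := by decide +kernel
theorem c_rel_26 : allRange D.relOK 349677 2999 = true := by decide +kernel
theorem c_rel_27 : allRange D.relOK 352676 2970 = true := by decide +kernel
theorem c_rel_28 : allRange D.relOK 355646 2993 = true := by decide +kernel
theorem c_rel_29 : allRange D.relOK 358639 2967 = true := by decide +kernel
theorem c_rel_30 : allRange D.relOK 361606 3009 = true := by decide +kernel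
theorem c_rel_31 : allRange D.relOK 364615 3045 = true := by decide +kernel
theorem c_rel_32 : allRange D.relOK 367660 3030 = true := by decide +kernel
theorem c_rel_33 : allRange D.relOK 370690 3075 = true := by decide +kernel
theorem c_rel_34 : allRange D.relOK 373765 3034 = true := by decide +kernel
theorem c_rel_35 : allRange D.relOK 376799 2984 = true := by decide +kernel
theorem c_rel_36 : allRange D.relOK 379783 3032 = true := by decide +kernel

end Cfsg.Agent.Lib.Helper4.TCD.HeU1
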