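namespace Cfsg.Agent.Lib.Helper4.TCD.HeU3

noncomputable def Atab_0 : Nat := nat_lit 0x1b6f175e6bb85368aac135663a445428672fcc1e953b207e34cc095702eda4da0a308f591690291062088380e680c557d8aea95b41b2755ca6a915311a2113c0a678cae891c51b6626842c98184fae5e583aa97142da61a48b28a6102b9e1638aa6a50c09965229224940907904e1d1a31306258a8a101221203438406090a09101418042000203000
noncomputable def Btab_0 : Nat := nat_lit 0x6aa44cec858a912fb2158e41aac85429124f20c662283488eb905bb11346425f448aa8911f20a06223ac8469888ad121264217c821a8901b2100642
noncomputable def Ptab_0 : Nat := nat_lit 0x5e5881515b5e895d5c547b4b575a8353584e406f394955567d4d5244713747504232692535454e77434c3c6d2f3f4a3a2a631d2d3d48753b46733f40302023333828181b2b36261661111f2f346b273067292c651f2414080b1722121520120802050d191c0e0407111a0c0f0a0207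
noncomputable def RRtab_0 : Nat := nat_lit 0x49224900049228a28a28a249082082041041041041000492249000492451451451249410410208208208208000
noncomputable def rBtab_0 : Nat := nat_lit 0x3a70d9a2e58a101e3868c16203850200
noncomputable def rLtab_0 : Nat := nat_lit 0x222262482222262482
noncomputable def nameTab_0 : Nat := nat_lit 0xbeeb6caeaa689e69648e28607de75c6da6585d65544d24503ce34c2ca2481c61440c2040
noncomputable def col0_0 : Nat := nat_lit 0xbafa6a9acb6282b79c7e86678e55645d28546ce7582da28c2161d04d110f3420c9146001
noncomputable def col1_0 : Nat := nat_lit 0xb6bbe7ba48e1b1f76aa5aa189969544e24603de35c6ca6495c754615240338c2c1200102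
noncomputable def col2_0 : Nat := nat_lit 0xb2aa2f96e8ad85eadd6e99d95e69158d38107cf70c68b25858819448444e08d04a007143
noncomputable def finTab_0 : Nat := nat_lit 0x5f908e5d8c8f5b918a5e5988578d865c558953848b5a518280584f4d7e87564b7c7a544947857852458381504376414e3f7f794c3d7d7b4a3b74394846377270443577334231406e3e2f736c3c2d752b3a29386f7136276a25342332683021666d2e1f641d2c1b2a622819676b172615246922201365111e0f1c631a180d0b16601409120710610e050c0a0803060402
noncomputable def clsTab_0 : Nat := nat_lit 0xbeeb6caeaa689e69648e28607de75c6da6585d65544d24503ce34c2ca2481c61440c2040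

end Cfsg.Agent.Lib.Helper4.TCD.HeU3
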