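namespace Cfsg.Agent.Lib.Helper4.TCD.HeX

noncomputable def Atab_0 : Nat := nat_lit 0x60050040030020010000070171808828870271979a3aa6aa5aa4883887133335334115115223223116336226117044447055447477063676462a2092181670560450340230120010700
noncomputable def Btab_0 : Nat := nat_lit 0xaf301cad201aab2017a92013a6300ea42008a220019e408193b41e89a01f8181897e308171d4c666b5476420806130925e30915b308b58308a4bd54749208045419141401d3f21003d210039418a3541843051922b518d2651871f72bc1872451080450d30280a3093046096022080002000
noncomputable def Ptab_0 : Nat := nat_lit 0x79d4a34d8b4225287774c2cb074e84ea20a6cf20e83032335fcf2131e4c7931e4c7931e90741a5040eec893920a314080dd060a4e314080dac528bcac528bcac5284e14128a4a946254835224169172184a50ee43094a1dc8606a9b0634303b24cc93ac4eb94844820282482018648707070890e0e0a0921c1c0d18816844a3107070d363ce9f143ce9e383869b38384993624c0e1258c0e1c34609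
noncomputable def RRtab_0 : Nat := nat_lit 0x666655554444333322221111000023562356235623562356235623562356032323232320323232323242102102104210210210465654656566665656565656565656555546464646454545454444363636363636353535353535343434343434333326262626252525252424242423232323232323232323232323232323232323232222161616161515151514141414131313131212121212121111060606060505050504040404030303030202020201010101010101010000635635666655554444333322221111000065326532653265326532653265326532232323232302323232323001201201240120120124565645656466666565656565656565555564646464545454544444636363636363535353535353434343434343333362626262525252524242424232323232323232323232323232323232323232322222616161615151515141414141313131312121212121211111606060605050505040404040303030302020202010101010101010100000536536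
noncomputable def rBtab_0 : Nat := nat_lit 0xbc2ecba2e4b82dcb62b8a8a8ea12809c26c9925c9624c902348c228882187c1ec791dc751cc701bc6d1ac6919c651846017a5d9725b96a599625793e4a114429063d8f23a8e2378d2318ba2d8ae2989e1d8721a86216852118420e8320a8220680a01800
noncomputable def rLtab_0 : Nat := nat_lit 0x10842108505a8a240884118c611084a0884210c2210842204310842108505a8a240884118c611084a0884210c22108422043
noncomputable def nameTab_0 : Nat := nat_lit 0x0
noncomputable def col0_0 : Nat := nat_lit 0x0
noncomputable def col1_0 : Nat := nat_lit 0x0
noncomputable def col2_0 : Nat := nat_lit 0x0
noncomputable def col3_0 : Nat := nat_lit 0x0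
noncomputable def col4_0 : Nat := nat_lit 0x0
noncomputable def col5_0 : Nat := nat_lit 0x0
noncomputable def col6_0 : Nat := nat_lit 0x0
noncomputable def finTab_0 : Nat := nat_lit 0x182f5cb562b54
noncomputable def clsTab_0 : Nat := nat_lit 0x0

end Cfsg.Agent.Lib.Helper4.TCD.HeX
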