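import Cfsg.Agent.Lib.Helper4.TCD_J1pA_Acc

namespace Cfsg.Agent.Lib.Helper4.TCD.J1pA

open Cfsg.Agent.Lib.Helper4.TC

set_option maxRecDepth 100000
set_option Elab.async false

theorem c_zero : D.zeroOK = true := by decide +kernel
theorem c_base : allBelow D.baseOK 6 = true := by decide +kernel
theorem c_let : allBelow D.letOK 4 = true := by decide +kernel
theorem c_cls0 : T.cls 0 = 0 := by decide +kernel
theorem c_name0 : T.nameOf 0 = 0 := by decide +kernel
theorem c_tab : D.relTabOK 0 (baseRels 4 PJ1p.invR PJ1p.P.real subs ++ (baseRels 4 PJ1p.invR PJ1p.P.real subs).map (invWord D.inv)) = true := by decide +kernel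
theorem c_real : PJ1p.P.real = realLit := by decide +kernel
theorem c_subfix : subs.all (fun u => Nat.beq (Tab.act T D u 0) 0) = true := by decide +kernel
theorem c_subs : subs.all (fun u => u.all (fun x => Nat.ble (Nat.succ x) 4)) = true := by decide +kernel
theorem c_names_0 : allRange D.nameOK 1 1548 = true := by decide +kernel
theorem c_cls_0 : allRange (T.clsOK D) 1 1548 = true := by decide +kernel
theorem c_rep_0 : allRange (T.repOK D) 0 1540 = true := by decide +kernel
theorem c_rel_0 : allRange D.relOK 1555 1560 = true := by decide +kernel
theorem c_fin_0 : allGrid (T.finOK D) 0 1540 4 = true := by decide +kernel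
theorem c_perm_0 : allGrid (T.permOK1 D) 0 1540 4 = true := by decide +kernel
theorem c_act0_0 : allRange (fun i => Nat.beq (actR0 i) i) 0 1540 = true := by decide +kernel
theorem c_act1_0 : allRange (fun i => Nat.beq (actR1 i) i) 0 1540 = true := by decide +kernel
theorem c_act2_0 : allRange (fun i => Nat.beq (actR2 i) i) 0 1540 = true := by decide +kernel
theorem c_act3_0 : allRange (fun i => Nat.beq (actR3 i) i) 0 857 = true := by decide +kernel
theorem c_act3_1 : allRange (fun i => Nat.beq (actR3 i) i) 857 683 = true := by decide +kernel
theorem c_act4_0 : allRange (fun i => Nat.beq (actR4 i) i) 0 882 = true := by decide +kernel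
theorem c_act4_1 : allRange (fun i => Nat.beq (actR4 i) i) 882 658 = true := by decide +kernel
theorem c_oinv0_0 : allRange (Tab.orbInvOK T D subs 1 58) 1 57 = true := by decide +kernel
theorem c_otree0_0 : allRange (Tab.orbTreeOK T D subs oparTab olabTab 1) 2 56 = true := by decide +kernel
theorem c_oinv1_0 : allRange (Tab.orbInvOK T D subs 58 115) 58 57 = true := by decide +kernel
theorem c_otree1_0 : allRange (Tab.orbTreeOK T D subs oparTab olabTab 58) 59 56 = true := by decide +kernel
theorem c_oinv2_0 : allRange (Tab.orbInvOK T D subs 115 229) 115 114 = true := by decide +kernel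
theorem c_otree2_0 : allRange (Tab.orbTreeOK T D subs oparTab olabTab 115) 116 113 = true := by decide +kernel
theorem c_oinv3_0 : allRange (Tab.orbInvOK T D subs 229 248) 229 19 = true := by decide +kernel
theorem c_otree3_0 : allRange (Tab.orbTreeOK T D subs oparTab olabTab 229) 230 18 = true := by decide +kernel
theorem c_oinv4_0 : allRange (Tab.orbInvOK T D subs 248 362) 248 114 = true := by decide +kernel
theorem c_otree4_0 : allRange (Tab.orbTreeOK T D subs oparTab olabTab 248) 249 113 = true := by decide +kernel
theorem c_oinv5_0 : allRange (Tab.orbInvOK T D subs 362 476) 362 114 = true := by decide +kernel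
theorem c_otree5_0 : allRange (Tab.orbTreeOK T D subs oparTab olabTab 362) 363 113 = true := by decide +kernel
theorem c_oinv6_0 : allRange (Tab.orbInvOK T D subs 476 533) 476 57 = true := by decide +kernel
theorem c_otree6_0 : allRange (Tab.orbTreeOK T D subs oparTab olabTab 476) 477 56 = true := by decide +kernel
theorem c_oinv7_0 : allRange (Tab.orbInvOK T D subs 533 571) 533 38 = true := by decide +kernel
theorem c_otree7_0 : allRange (Tab.orbTreeOK T D subs oparTab olabTab 533) 534 37 = true := by decide +kernel
theorem c_oinv8_0 : allRange (Tab.orbInvOK T D subs 571 609) 571 38 = true := by decide +kernel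
theorem c_otree8_0 : allRange (Tab.orbTreeOK T D subs oparTab olabTab 571) 572 37 = true := by decide +kernel
theorem c_oinv9_0 : allRange (Tab.orbInvOK T D subs 609 723) 609 114 = true := by decide +kernel
theorem c_otree9_0 : allRange (Tab.orbTreeOK T D subs oparTab olabTab 609) 610 113 = true := by decide +kernel
theorem c_oinv10_0 : allRange (Tab.orbInvOK T D subs 723 761) 723 38 = true := by decide +kernel
theorem c_otree10_0 : allRange (Tab.orbTreeOK T D subs oparTab olabTab 723) 724 37 = true := by decide +kernel
theorem c_oinv11_0 : allRange (Tab.orbInvOK T D subs 761 875) 761 114 = true := by decide +kernel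
theorem c_otree11_0 : allRange (Tab.orbTreeOK T D subs oparTab olabTab 761) 762 113 = true := by decide +kernel
theorem c_oinv12_0 : allRange (Tab.orbInvOK T D subs 875 989) 875 114 = true := by decide +kernel
theorem c_otree12_0 : allRange (Tab.orbTreeOK T D subs oparTab olabTab 875) 876 113 = true := by decide +kernel
theorem c_oinv13_0 : allRange (Tab.orbInvOK T D subs 989 1103) 989 114 = true := by decide +kernel
theorem c_otree13_0 : allRange (Tab.orbTreeOK T D subs oparTab olabTab 989) 990 113 = true := by decide +kernel
theorem c_oinv14_0 : allRange (Tab.orbInvOK T D subs 1103 1217) 1103 114 = true := by decide +kernel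
theorem c_otree14_0 : allRange (Tab.orbTreeOK T D subs oparTab olabTab 1103) 1104 113 = true := by decide +kernel
theorem c_oinv15_0 : allRange (Tab.orbInvOK T D subs 1217 1274) 1217 57 = true := by decide +kernel
theorem c_otree15_0 : allRange (Tab.orbTreeOK T D subs oparTab olabTab 1217) 1218 56 = true := by decide +kernel
theorem c_oinv16_0 : allRange (Tab.orbInvOK T D subs 1274 1312) 1274 38 = true := by decide +kernel
theorem c_otree16_0 : allRange (Tab.orbTreeOK T D subs oparTab olabTab 1274) 1275 37 = true := by decide +kernel
theorem c_oinv17_0 : allRange (Tab.orbInvOK T D subs 1312 1426) 1312 114 = true := by decide +kernel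
theorem c_otree17_0 : allRange (Tab.orbTreeOK T D subs oparTab olabTab 1312) 1313 113 = true := by decide +kernel
theorem c_oinv18_0 : allRange (Tab.orbInvOK T D subs 1426 1483) 1426 57 = true := by decide +kernel
theorem c_otree18_0 : allRange (Tab.orbTreeOK T D subs oparTab olabTab 1426) 1427 56 = true := by decide +kernel
theorem c_oinv19_0 : allRange (Tab.orbInvOK T D subs 1483 1540) 1483 57 = true := by decide +kernel
theorem c_otree19_0 : allRange (Tab.orbTreeOK T D subs oparTab olabTab 1483) 1484 56 = true := by decide +kernel

end Cfsg.Agent.Lib.Helper4.TCD.J1pA
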