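import Cfsg.Agent.Lib.Helper4.TC11
import Cfsg.Agent.Lib.Helper4.TCD_J1pA_Acc
import Cfsg.Agent.Lib.Helper4.TCD_J1pL_D0

namespace Cfsg.Agent.Lib.Helper4.TCD.J1pL

open Cfsg.Agent.Lib.Helper4.TC Cfsg.Agent.Lib.Helper4.TCD.J1pA

set_option maxRecDepth 100000

noncomputable def st4 (i : Nat) : Nat := rdw 11 2047 st4_0 i
noncomputable def st5 (i : Nat) : Nat := rdw 11 2047 st5_0 i
noncomputable def st6 (i : Nat) : Nat := rdw 11 2047 st6_0 i
noncomputable def levTab (i : Nat) : Nat := rdw 2 3 levTab_0 i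
noncomputable def betaTab (i : Nat) : Nat := rdw 11 2047 betaTab_0 i
noncomputable def nodeTab (i : Nat) : Nat := rdw 29 536870911 nodeTab_0 i
noncomputable def offTab (i : Nat) : Nat := rdw 11 2047 offTab_0 i
noncomputable def nTab (i : Nat) : Nat := rdw 11 2047 nTab_0 i
noncomputable def rootTab (i : Nat) : Nat := rdw 11 2047 rootTab_0 i
noncomputable def tabF (i p : Nat) : Nat := @Bool.rec (fun _ => Nat) (@Bool.rec (fun _ => Nat) (col1 p) (@Bool.rec (fun _ => Nat) (col0 p) (col3 p) (Nat.ble 2 i)) (Nat.ble 1 i)) (@Bool.rec (fun _ => Nat) (@Bool.rec (fun _ => Nat) (col2 p) (st4 p) (Nat.ble 4 i)) (@Bool.rec (fun _ => Nat) (st5 p) (st6 p) (Nat.ble 6 i)) (Nat.ble 5 i)) (Nat.ble 3 i)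
def wAF : Nat → List Nat
  | 4 => [2, 0, 3, 0, 2, 0, 3, 0, 2, 0, 3, 0, 2, 0, 2, 0, 3, 0, 2, 0, 2]
  | 5 => [4]
  | 6 => [0, 4, 2, 5, 2, 4, 0, 5, 5, 0, 4, 4]
  | _ => []
def wBF : Nat → List Nat
  | 4 => [1, 3, 0, 2, 0, 2, 0, 3, 0, 3, 0, 2, 0, 2, 0, 3, 0, 3, 0, 2, 0, 2]
  | 5 => []
  | 6 => [3, 0, 4, 2, 5, 2]
  | _ => []
noncomputable def ptF (j idx : Nat) : Nat := Nat.land (nodeTab (Nat.add (offTab j) idx)) 2047
noncomputable def parF (j idx : Nat) : Nat := Nat.land (Nat.shiftRight (nodeTab (Nat.add (offTab j) idx)) 11) 2047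
noncomputable def giF (j idx : Nat) : Nat := Nat.land (Nat.shiftRight (nodeTab (Nat.add (offTab j) idx)) 22) 7
noncomputable def depF (j idx : Nat) : Nat := Nat.shiftRight (nodeTab (Nat.add (offTab j) idx)) 25

noncomputable def S : Sgs :=
  { N := 1540, k := 4, m := 7, tab := tabF, wA := wAF, wB := wBF, lev := levTab, r := 3, beta := betaTab,
    n := nTab, root := rootTab, pt := ptF, par := parF, gi := giF, dep := depF }

noncomputable def chk4 (p : Nat) : Bool := band (Nat.ble (Nat.succ (st4 p)) 1540) (Nat.beq (col3 (col1 (col2 (col1 (col3 (col1 (col2 (col1 (col3 (col1 (col2 (col1 (col3 (col1 (col3 (col1 (col2 (col1 (col3 (col1 (col3 (st4 p)))))))))))))))))))))) (col0 (col2 (col1 (col3 (col1 (col3 (col1 (col2 (col1 (col2 (col1 (col3 (col1 (col3 (col1 (col2 (col1 (col2 (col1 (col3 (col1 (col3 p)))))))))))))))))))))))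
theorem chk4_eq (p : Nat) : chk4 p = Sgs.permOK S 4 p := rfl
noncomputable def chk5 (p : Nat) : Bool := band (Nat.ble (Nat.succ (st5 p)) 1540) (Nat.beq (st4 (st5 p)) p)
theorem chk5_eq (p : Nat) : chk5 p = Sgs.permOK S 5 p := rfl
noncomputable def chk6 (p : Nat) : Bool := band (Nat.ble (Nat.succ (st6 p)) 1540) (Nat.beq (col1 (st4 (col3 (st5 (col3 (st4 (col1 (st5 (st5 (col1 (st4 (st4 (st6 p))))))))))))) (col2 (col1 (st4 (col3 (st5 (col3 p)))))))
theorem chk6_eq (p : Nat) : chk6 p = Sgs.permOK S 6 p := rfl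

end Cfsg.Agent.Lib.Helper4.TCD.J1pL
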