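import Cfsg.Agent.Lib.Helper4.TC7
import Cfsg.Agent.Lib.Helper4.TC8
import Cfsg.Agent.Lib.Helper4.TCP_J1p
import Cfsg.Agent.Lib.Helper4.TCD_J1pU1_D0
import Cfsg.Agent.Lib.Helper4.TCD_J1pU1_D1
import Cfsg.Agent.Lib.Helper4.TCD_J1pU1_D2
import Cfsg.Agent.Lib.Helper4.TCD_J1pU1_D3
import Cfsg.Agent.Lib.Helper4.TCD_J1pU1_D4
import Cfsg.Agent.Lib.Helper4.TCD_J1pU1_D5
import Cfsg.Agent.Lib.Helper4.TCD_J1pU1_D6

namespace Cfsg.Agent.Lib.Helper4.TCD.J1pU1

open Cfsg.Agent.Lib.Helper4.TC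

set_option maxRecDepth 100000

noncomputable def Atab_s_0_2 (c : Nat) : Nat := @Bool.rec (fun _ => Nat) (Atab_0) (Atab_1) (Nat.ble 1 c)
noncomputable def Atab_s_3_5 (c : Nat) : Nat := @Bool.rec (fun _ => Nat) (Atab_3) (Atab_4) (Nat.ble 4 c)
noncomputable def Atab_s_2_5 (c : Nat) : Nat := @Bool.rec (fun _ => Nat) (Atab_2) (Atab_s_3_5 c) (Nat.ble 3 c)
noncomputable def Atab_s_0_5 (c : Nat) : Nat := @Bool.rec (fun _ => Nat) (Atab_s_0_2 c) (Atab_s_2_5 c) (Nat.ble 2 c)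
noncomputable def Atab_s_6_8 (c : Nat) : Nat := @Bool.rec (fun _ => Nat) (Atab_6) (Atab_7) (Nat.ble 7 c)
noncomputable def Atab_s_5_8 (c : Nat) : Nat := @Bool.rec (fun _ => Nat) (Atab_5) (Atab_s_6_8 c) (Nat.ble 6 c)
noncomputable def Atab_s_9_11 (c : Nat) : Nat := @Bool.rec (fun _ => Nat) (Atab_9) (Atab_10) (Nat.ble 10 c)
noncomputable def Atab_s_8_11 (c : Nat) : Nat := @Bool.rec (fun _ => Nat) (Atab_8) (Atab_s_9_11 c) (Nat.ble 9 c)
noncomputable def Atab_s_5_11 (c : Nat) : Nat := @Bool.rec (fun _ => Nat) (Atab_s_5_8 c) (Atab_s_8_11 c) (Nat.ble 8 c)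
noncomputable def Atab_s_0_11 (c : Nat) : Nat := @Bool.rec (fun _ => Nat) (Atab_s_0_5 c) (Atab_s_5_11 c) (Nat.ble 5 c)
noncomputable def Atab_s_11_13 (c : Nat) : Nat := @Bool.rec (fun _ => Nat) (Atab_11) (Atab_12) (Nat.ble 12 c)
noncomputable def Atab_s_14_16 (c : Nat) : Nat := @Bool.rec (fun _ => Nat) (Atab_14) (Atab_15) (Nat.ble 15 c)
noncomputable def Atab_s_13_16 (c : Nat) : Nat := @Bool.rec (fun _ => Nat) (Atab_13) (Atab_s_14_16 c) (Nat.ble 14 c)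
noncomputable def Atab_s_11_16 (c : Nat) : Nat := @Bool.rec (fun _ => Nat) (Atab_s_11_13 c) (Atab_s_13_16 c) (Nat.ble 13 c)
noncomputable def Atab_s_17_19 (c : Nat) : Nat := @Bool.rec (fun _ => Nat) (Atab_17) (Atab_18) (Nat.ble 18 c)
noncomputable def Atab_s_16_19 (c : Nat) : Nat := @Bool.rec (fun _ => Nat) (Atab_16) (Atab_s_17_19 c) (Nat.ble 17 c)
noncomputable def Atab_s_20_22 (c : Nat) : Nat := @Bool.rec (fun _ => Nat) (Atab_20) (Atab_21) (Nat.ble 21 c)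
noncomputable def Atab_s_19_22 (c : Nat) : Nat := @Bool.rec (fun _ => Nat) (Atab_19) (Atab_s_20_22 c) (Nat.ble 20 c)
noncomputable def Atab_s_16_22 (c : Nat) : Nat := @Bool.rec (fun _ => Nat) (Atab_s_16_19 c) (Atab_s_19_22 c) (Nat.ble 19 c)
noncomputable def Atab_s_11_22 (c : Nat) : Nat := @Bool.rec (fun _ => Nat) (Atab_s_11_16 c) (Atab_s_16_22 c) (Nat.ble 16 c)
noncomputable def Atab_s_0_22 (c : Nat) : Nat := @Bool.rec (fun _ => Nat) (Atab_s_0_11 c) (Atab_s_11_22 c) (Nat.ble 11 c)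
noncomputable def Atab_s_22_24 (c : Nat) : Nat := @Bool.rec (fun _ => Nat) (Atab_22) (Atab_23) (Nat.ble 23 c)
noncomputable def Atab_s_25_27 (c : Nat) : Nat := @Bool.rec (fun _ => Nat) (Atab_25) (Atab_26) (Nat.ble 26 c)
noncomputable def Atab_s_24_27 (c : Nat) : Nat := @Bool.rec (fun _ => Nat) (Atab_24) (Atab_s_25_27 c) (Nat.ble 25 c)
noncomputable def Atab_s_22_27 (c : Nat) : Nat := @Bool.rec (fun _ => Nat) (Atab_s_22_24 c) (Atab_s_24_27 c) (Nat.ble 24 c)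
noncomputable def Atab_s_28_30 (c : Nat) : Nat := @Bool.rec (fun _ => Nat) (Atab_28) (Atab_29) (Nat.ble 29 c)
noncomputable def Atab_s_27_30 (c : Nat) : Nat := @Bool.rec (fun _ => Nat) (Atab_27) (Atab_s_28_30 c) (Nat.ble 28 c)
noncomputable def Atab_s_31_33 (c : Nat) : Nat := @Bool.rec (fun _ => Nat) (Atab_31) (Atab_32) (Nat.ble 32 c)
noncomputable def Atab_s_30_33 (c : Nat) : Nat := @Bool.rec (fun _ => Nat) (Atab_30) (Atab_s_31_33 c) (Nat.ble 31 c)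
noncomputable def Atab_s_27_33 (c : Nat) : Nat := @Bool.rec (fun _ => Nat) (Atab_s_27_30 c) (Atab_s_30_33 c) (Nat.ble 30 c)
noncomputable def Atab_s_22_33 (c : Nat) : Nat := @Bool.rec (fun _ => Nat) (Atab_s_22_27 c) (Atab_s_27_33 c) (Nat.ble 27 c)
noncomputable def Atab_s_34_36 (c : Nat) : Nat := @Bool.rec (fun _ => Nat) (Atab_34) (Atab_35) (Nat.ble 35 c)
noncomputable def Atab_s_33_36 (c : Nat) : Nat := @Bool.rec (fun _ => Nat) (Atab_33) (Atab_s_34_36 c) (Nat.ble 34 c)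
noncomputable def Atab_s_37_39 (c : Nat) : Nat := @Bool.rec (fun _ => Nat) (Atab_37) (Atab_38) (Nat.ble 38 c)
noncomputable def Atab_s_36_39 (c : Nat) : Nat := @Bool.rec (fun _ => Nat) (Atab_36) (Atab_s_37_39 c) (Nat.ble 37 c)
noncomputable def Atab_s_33_39 (c : Nat) : Nat := @Bool.rec (fun _ => Nat) (Atab_s_33_36 c) (Atab_s_36_39 c) (Nat.ble 36 c)
noncomputable def Atab_s_40_42 (c : Nat) : Nat := @Bool.rec (fun _ => Nat) (Atab_40) (Atab_41) (Nat.ble 41 c)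
noncomputable def Atab_s_39_42 (c : Nat) : Nat := @Bool.rec (fun _ => Nat) (Atab_39) (Atab_s_40_42 c) (Nat.ble 40 c)
noncomputable def Atab_s_43_45 (c : Nat) : Nat := @Bool.rec (fun _ => Nat) (Atab_43) (Atab_44) (Nat.ble 44 c)
noncomputable def Atab_s_42_45 (c : Nat) : Nat := @Bool.rec (fun _ => Nat) (Atab_42) (Atab_s_43_45 c) (Nat.ble 43 c)
noncomputable def Atab_s_39_45 (c : Nat) : Nat := @Bool.rec (fun _ => Nat) (Atab_s_39_42 c) (Atab_s_42_45 c) (Nat.ble 42 c)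
noncomputable def Atab_s_33_45 (c : Nat) : Nat := @Bool.rec (fun _ => Nat) (Atab_s_33_39 c) (Atab_s_39_45 c) (Nat.ble 39 c)
noncomputable def Atab_s_22_45 (c : Nat) : Nat := @Bool.rec (fun _ => Nat) (Atab_s_22_33 c) (Atab_s_33_45 c) (Nat.ble 33 c)
noncomputable def Atab_s_0_45 (c : Nat) : Nat := @Bool.rec (fun _ => Nat) (Atab_s_0_22 c) (Atab_s_22_45 c) (Nat.ble 22 c)
noncomputable def Atab_s_45_47 (c : Nat) : Nat := @Bool.rec (fun _ => Nat) (Atab_45) (Atab_46) (Nat.ble 46 c)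
noncomputable def Atab_s_48_50 (c : Nat) : Nat := @Bool.rec (fun _ => Nat) (Atab_48) (Atab_49) (Nat.ble 49 c)
noncomputable def Atab_s_47_50 (c : Nat) : Nat := @Bool.rec (fun _ => Nat) (Atab_47) (Atab_s_48_50 c) (Nat.ble 48 c)
noncomputable def Atab_s_45_50 (c : Nat) : Nat := @Bool.rec (fun _ => Nat) (Atab_s_45_47 c) (Atab_s_47_50 c) (Nat.ble 47 c)
noncomputable def Atab_s_51_53 (c : Nat) : Nat := @Bool.rec (fun _ => Nat) (Atab_51) (Atab_52) (Nat.ble 52 c)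
noncomputable def Atab_s_50_53 (c : Nat) : Nat := @Bool.rec (fun _ => Nat) (Atab_50) (Atab_s_51_53 c) (Nat.ble 51 c)
noncomputable def Atab_s_54_56 (c : Nat) : Nat := @Bool.rec (fun _ => Nat) (Atab_54) (Atab_55) (Nat.ble 55 c)
noncomputable def Atab_s_53_56 (c : Nat) : Nat := @Bool.rec (fun _ => Nat) (Atab_53) (Atab_s_54_56 c) (Nat.ble 54 c)
noncomputable def Atab_s_50_56 (c : Nat) : Nat := @Bool.rec (fun _ => Nat) (Atab_s_50_53 c) (Atab_s_53_56 c) (Nat.ble 53 c)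
noncomputable def Atab_s_45_56 (c : Nat) : Nat := @Bool.rec (fun _ => Nat) (Atab_s_45_50 c) (Atab_s_50_56 c) (Nat.ble 50 c)
noncomputable def Atab_s_57_59 (c : Nat) : Nat := @Bool.rec (fun _ => Nat) (Atab_57) (Atab_58) (Nat.ble 58 c)
noncomputable def Atab_s_56_59 (c : Nat) : Nat := @Bool.rec (fun _ => Nat) (Atab_56) (Atab_s_57_59 c) (Nat.ble 57 c)
noncomputable def Atab_s_60_62 (c : Nat) : Nat := @Bool.rec (fun _ => Nat) (Atab_60) (Atab_61) (Nat.ble 61 c)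
noncomputable def Atab_s_59_62 (c : Nat) : Nat := @Bool.rec (fun _ => Nat) (Atab_59) (Atab_s_60_62 c) (Nat.ble 60 c)
noncomputable def Atab_s_56_62 (c : Nat) : Nat := @Bool.rec (fun _ => Nat) (Atab_s_56_59 c) (Atab_s_59_62 c) (Nat.ble 59 c)
noncomputable def Atab_s_63_65 (c : Nat) : Nat := @Bool.rec (fun _ => Nat) (Atab_63) (Atab_64) (Nat.ble 64 c)
noncomputable def Atab_s_62_65 (c : Nat) : Nat := @Bool.rec (fun _ => Nat) (Atab_62) (Atab_s_63_65 c) (Nat.ble 63 c)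
noncomputable def Atab_s_66_68 (c : Nat) : Nat := @Bool.rec (fun _ => Nat) (Atab_66) (Atab_67) (Nat.ble 67 c)
noncomputable def Atab_s_65_68 (c : Nat) : Nat := @Bool.rec (fun _ => Nat) (Atab_65) (Atab_s_66_68 c) (Nat.ble 66 c)
noncomputable def Atab_s_62_68 (c : Nat) : Nat := @Bool.rec (fun _ => Nat) (Atab_s_62_65 c) (Atab_s_65_68 c) (Nat.ble 65 c)
noncomputable def Atab_s_56_68 (c : Nat) : Nat := @Bool.rec (fun _ => Nat) (Atab_s_56_62 c) (Atab_s_62_68 c) (Nat.ble 62 c)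
noncomputable def Atab_s_45_68 (c : Nat) : Nat := @Bool.rec (fun _ => Nat) (Atab_s_45_56 c) (Atab_s_56_68 c) (Nat.ble 56 c)
noncomputable def Atab_s_68_70 (c : Nat) : Nat := @Bool.rec (fun _ => Nat) (Atab_68) (Atab_69) (Nat.ble 69 c)
noncomputable def Atab_s_71_73 (c : Nat) : Nat := @Bool.rec (fun _ => Nat) (Atab_71) (Atab_72) (Nat.ble 72 c)
noncomputable def Atab_s_70_73 (c : Nat) : Nat := @Bool.rec (fun _ => Nat) (Atab_70) (Atab_s_71_73 c) (Nat.ble 71 c)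
noncomputable def Atab_s_68_73 (c : Nat) : Nat := @Bool.rec (fun _ => Nat) (Atab_s_68_70 c) (Atab_s_70_73 c) (Nat.ble 70 c)
noncomputable def Atab_s_74_76 (c : Nat) : Nat := @Bool.rec (fun _ => Nat) (Atab_74) (Atab_75) (Nat.ble 75 c)
noncomputable def Atab_s_73_76 (c : Nat) : Nat := @Bool.rec (fun _ => Nat) (Atab_73) (Atab_s_74_76 c) (Nat.ble 74 c)
noncomputable def Atab_s_77_79 (c : Nat) : Nat := @Bool.rec (fun _ => Nat) (Atab_77) (Atab_78) (Nat.ble 78 c)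
noncomputable def Atab_s_76_79 (c : Nat) : Nat := @Bool.rec (fun _ => Nat) (Atab_76) (Atab_s_77_79 c) (Nat.ble 77 c)
noncomputable def Atab_s_73_79 (c : Nat) : Nat := @Bool.rec (fun _ => Nat) (Atab_s_73_76 c) (Atab_s_76_79 c) (Nat.ble 76 c)
noncomputable def Atab_s_68_79 (c : Nat) : Nat := @Bool.rec (fun _ => Nat) (Atab_s_68_73 c) (Atab_s_73_79 c) (Nat.ble 73 c)
noncomputable def Atab_s_80_82 (c : Nat) : Nat := @Bool.rec (fun _ => Nat) (Atab_80) (Atab_81) (Nat.ble 81 c)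
noncomputable def Atab_s_79_82 (c : Nat) : Nat := @Bool.rec (fun _ => Nat) (Atab_79) (Atab_s_80_82 c) (Nat.ble 80 c)
noncomputable def Atab_s_83_85 (c : Nat) : Nat := @Bool.rec (fun _ => Nat) (Atab_83) (Atab_84) (Nat.ble 84 c)
noncomputable def Atab_s_82_85 (c : Nat) : Nat := @Bool.rec (fun _ => Nat) (Atab_82) (Atab_s_83_85 c) (Nat.ble 83 c)
noncomputable def Atab_s_79_85 (c : Nat) : Nat := @Bool.rec (fun _ => Nat) (Atab_s_79_82 c) (Atab_s_82_85 c) (Nat.ble 82 c)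
noncomputable def Atab_s_86_88 (c : Nat) : Nat := @Bool.rec (fun _ => Nat) (Atab_86) (Atab_87) (Nat.ble 87 c)
noncomputable def Atab_s_85_88 (c : Nat) : Nat := @Bool.rec (fun _ => Nat) (Atab_85) (Atab_s_86_88 c) (Nat.ble 86 c)
noncomputable def Atab_s_89_91 (c : Nat) : Nat := @Bool.rec (fun _ => Nat) (Atab_89) (Atab_90) (Nat.ble 90 c)
noncomputable def Atab_s_88_91 (c : Nat) : Nat := @Bool.rec (fun _ => Nat) (Atab_88) (Atab_s_89_91 c) (Nat.ble 89 c)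
noncomputable def Atab_s_85_91 (c : Nat) : Nat := @Bool.rec (fun _ => Nat) (Atab_s_85_88 c) (Atab_s_88_91 c) (Nat.ble 88 c)
noncomputable def Atab_s_79_91 (c : Nat) : Nat := @Bool.rec (fun _ => Nat) (Atab_s_79_85 c) (Atab_s_85_91 c) (Nat.ble 85 c)
noncomputable def Atab_s_68_91 (c : Nat) : Nat := @Bool.rec (fun _ => Nat) (Atab_s_68_79 c) (Atab_s_79_91 c) (Nat.ble 79 c)
noncomputable def Atab_s_45_91 (c : Nat) : Nat := @Bool.rec (fun _ => Nat) (Atab_s_45_68 c) (Atab_s_68_91 c) (Nat.ble 68 c)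
noncomputable def Atab_s_0_91 (c : Nat) : Nat := @Bool.rec (fun _ => Nat) (Atab_s_0_45 c) (Atab_s_45_91 c) (Nat.ble 45 c)
noncomputable def Atab (i : Nat) : Nat := rdw 37 137438953471 (Atab_s_0_91 (Nat.shiftRight i 11)) (Nat.land i 2047)
noncomputable def Btab_s_0_2 (c : Nat) : Nat := @Bool.rec (fun _ => Nat) (Btab_0) (Btab_1) (Nat.ble 1 c)
noncomputable def Btab_s_3_5 (c : Nat) : Nat := @Bool.rec (fun _ => Nat) (Btab_3) (Btab_4) (Nat.ble 4 c)
noncomputable def Btab_s_2_5 (c : Nat) : Nat := @Bool.rec (fun _ => Nat) (Btab_2) (Btab_s_3_5 c) (Nat.ble 3 c)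
noncomputable def Btab_s_0_5 (c : Nat) : Nat := @Bool.rec (fun _ => Nat) (Btab_s_0_2 c) (Btab_s_2_5 c) (Nat.ble 2 c)
noncomputable def Btab_s_6_8 (c : Nat) : Nat := @Bool.rec (fun _ => Nat) (Btab_6) (Btab_7) (Nat.ble 7 c)
noncomputable def Btab_s_5_8 (c : Nat) : Nat := @Bool.rec (fun _ => Nat) (Btab_5) (Btab_s_6_8 c) (Nat.ble 6 c)
noncomputable def Btab_s_9_11 (c : Nat) : Nat := @Bool.rec (fun _ => Nat) (Btab_9) (Btab_10) (Nat.ble 10 c)
noncomputable def Btab_s_8_11 (c : Nat) : Nat := @Bool.rec (fun _ => Nat) (Btab_8) (Btab_s_9_11 c) (Nat.ble 9 c)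
noncomputable def Btab_s_5_11 (c : Nat) : Nat := @Bool.rec (fun _ => Nat) (Btab_s_5_8 c) (Btab_s_8_11 c) (Nat.ble 8 c)
noncomputable def Btab_s_0_11 (c : Nat) : Nat := @Bool.rec (fun _ => Nat) (Btab_s_0_5 c) (Btab_s_5_11 c) (Nat.ble 5 c)
noncomputable def Btab_s_12_14 (c : Nat) : Nat := @Bool.rec (fun _ => Nat) (Btab_12) (Btab_13) (Nat.ble 13 c)
noncomputable def Btab_s_11_14 (c : Nat) : Nat := @Bool.rec (fun _ => Nat) (Btab_11) (Btab_s_12_14 c) (Nat.ble 12 c)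
noncomputable def Btab_s_15_17 (c : Nat) : Nat := @Bool.rec (fun _ => Nat) (Btab_15) (Btab_16) (Nat.ble 16 c)
noncomputable def Btab_s_14_17 (c : Nat) : Nat := @Bool.rec (fun _ => Nat) (Btab_14) (Btab_s_15_17 c) (Nat.ble 15 c)
noncomputable def Btab_s_11_17 (c : Nat) : Nat := @Bool.rec (fun _ => Nat) (Btab_s_11_14 c) (Btab_s_14_17 c) (Nat.ble 14 c)
noncomputable def Btab_s_18_20 (c : Nat) : Nat := @Bool.rec (fun _ => Nat) (Btab_18) (Btab_19) (Nat.ble 19 c)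
noncomputable def Btab_s_17_20 (c : Nat) : Nat := @Bool.rec (fun _ => Nat) (Btab_17) (Btab_s_18_20 c) (Nat.ble 18 c)
noncomputable def Btab_s_21_23 (c : Nat) : Nat := @Bool.rec (fun _ => Nat) (Btab_21) (Btab_22) (Nat.ble 22 c)
noncomputable def Btab_s_20_23 (c : Nat) : Nat := @Bool.rec (fun _ => Nat) (Btab_20) (Btab_s_21_23 c) (Nat.ble 21 c)
noncomputable def Btab_s_17_23 (c : Nat) : Nat := @Bool.rec (fun _ => Nat) (Btab_s_17_20 c) (Btab_s_20_23 c) (Nat.ble 20 c)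
noncomputable def Btab_s_11_23 (c : Nat) : Nat := @Bool.rec (fun _ => Nat) (Btab_s_11_17 c) (Btab_s_17_23 c) (Nat.ble 17 c)
noncomputable def Btab_s_0_23 (c : Nat) : Nat := @Bool.rec (fun _ => Nat) (Btab_s_0_11 c) (Btab_s_11_23 c) (Nat.ble 11 c)
noncomputable def Btab_s_24_26 (c : Nat) : Nat := @Bool.rec (fun _ => Nat) (Btab_24) (Btab_25) (Nat.ble 25 c)
noncomputable def Btab_s_23_26 (c : Nat) : Nat := @Bool.rec (fun _ => Nat) (Btab_23) (Btab_s_24_26 c) (Nat.ble 24 c)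
noncomputable def Btab_s_27_29 (c : Nat) : Nat := @Bool.rec (fun _ => Nat) (Btab_27) (Btab_28) (Nat.ble 28 c)
noncomputable def Btab_s_26_29 (c : Nat) : Nat := @Bool.rec (fun _ => Nat) (Btab_26) (Btab_s_27_29 c) (Nat.ble 27 c)
noncomputable def Btab_s_23_29 (c : Nat) : Nat := @Bool.rec (fun _ => Nat) (Btab_s_23_26 c) (Btab_s_26_29 c) (Nat.ble 26 c)
noncomputable def Btab_s_30_32 (c : Nat) : Nat := @Bool.rec (fun _ => Nat) (Btab_30) (Btab_31) (Nat.ble 31 c)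
noncomputable def Btab_s_29_32 (c : Nat) : Nat := @Bool.rec (fun _ => Nat) (Btab_29) (Btab_s_30_32 c) (Nat.ble 30 c)
noncomputable def Btab_s_33_35 (c : Nat) : Nat := @Bool.rec (fun _ => Nat) (Btab_33) (Btab_34) (Nat.ble 34 c)
noncomputable def Btab_s_32_35 (c : Nat) : Nat := @Bool.rec (fun _ => Nat) (Btab_32) (Btab_s_33_35 c) (Nat.ble 33 c)
noncomputable def Btab_s_29_35 (c : Nat) : Nat := @Bool.rec (fun _ => Nat) (Btab_s_29_32 c) (Btab_s_32_35 c) (Nat.ble 32 c)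
noncomputable def Btab_s_23_35 (c : Nat) : Nat := @Bool.rec (fun _ => Nat) (Btab_s_23_29 c) (Btab_s_29_35 c) (Nat.ble 29 c)
noncomputable def Btab_s_36_38 (c : Nat) : Nat := @Bool.rec (fun _ => Nat) (Btab_36) (Btab_37) (Nat.ble 37 c)
noncomputable def Btab_s_35_38 (c : Nat) : Nat := @Bool.rec (fun _ => Nat) (Btab_35) (Btab_s_36_38 c) (Nat.ble 36 c)
noncomputable def Btab_s_39_41 (c : Nat) : Nat := @Bool.rec (fun _ => Nat) (Btab_39) (Btab_40) (Nat.ble 40 c)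
noncomputable def Btab_s_38_41 (c : Nat) : Nat := @Bool.rec (fun _ => Nat) (Btab_38) (Btab_s_39_41 c) (Nat.ble 39 c)
noncomputable def Btab_s_35_41 (c : Nat) : Nat := @Bool.rec (fun _ => Nat) (Btab_s_35_38 c) (Btab_s_38_41 c) (Nat.ble 38 c)
noncomputable def Btab_s_42_44 (c : Nat) : Nat := @Bool.rec (fun _ => Nat) (Btab_42) (Btab_43) (Nat.ble 43 c)
noncomputable def Btab_s_41_44 (c : Nat) : Nat := @Bool.rec (fun _ => Nat) (Btab_41) (Btab_s_42_44 c) (Nat.ble 42 c)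
noncomputable def Btab_s_45_47 (c : Nat) : Nat := @Bool.rec (fun _ => Nat) (Btab_45) (Btab_46) (Nat.ble 46 c)
noncomputable def Btab_s_44_47 (c : Nat) : Nat := @Bool.rec (fun _ => Nat) (Btab_44) (Btab_s_45_47 c) (Nat.ble 45 c)
noncomputable def Btab_s_41_47 (c : Nat) : Nat := @Bool.rec (fun _ => Nat) (Btab_s_41_44 c) (Btab_s_44_47 c) (Nat.ble 44 c)
noncomputable def Btab_s_35_47 (c : Nat) : Nat := @Bool.rec (fun _ => Nat) (Btab_s_35_41 c) (Btab_s_41_47 c) (Nat.ble 41 c)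
noncomputable def Btab_s_23_47 (c : Nat) : Nat := @Bool.rec (fun _ => Nat) (Btab_s_23_35 c) (Btab_s_35_47 c) (Nat.ble 35 c)
noncomputable def Btab_s_0_47 (c : Nat) : Nat := @Bool.rec (fun _ => Nat) (Btab_s_0_23 c) (Btab_s_23_47 c) (Nat.ble 23 c)
noncomputable def Btab (i : Nat) : Nat := rdw 39 549755813887 (Btab_s_0_47 (Nat.shiftRight i 11)) (Nat.land i 2047)
noncomputable def Ptab_s_0_2 (c : Nat) : Nat := @Bool.rec (fun _ => Nat) (Ptab_0) (Ptab_1) (Nat.ble 1 c)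
noncomputable def Ptab_s_3_5 (c : Nat) : Nat := @Bool.rec (fun _ => Nat) (Ptab_3) (Ptab_4) (Nat.ble 4 c)
noncomputable def Ptab_s_2_5 (c : Nat) : Nat := @Bool.rec (fun _ => Nat) (Ptab_2) (Ptab_s_3_5 c) (Nat.ble 3 c)
noncomputable def Ptab_s_0_5 (c : Nat) : Nat := @Bool.rec (fun _ => Nat) (Ptab_s_0_2 c) (Ptab_s_2_5 c) (Nat.ble 2 c)
noncomputable def Ptab_s_6_8 (c : Nat) : Nat := @Bool.rec (fun _ => Nat) (Ptab_6) (Ptab_7) (Nat.ble 7 c)
noncomputable def Ptab_s_5_8 (c : Nat) : Nat := @Bool.rec (fun _ => Nat) (Ptab_5) (Ptab_s_6_8 c) (Nat.ble 6 c)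
noncomputable def Ptab_s_9_11 (c : Nat) : Nat := @Bool.rec (fun _ => Nat) (Ptab_9) (Ptab_10) (Nat.ble 10 c)
noncomputable def Ptab_s_8_11 (c : Nat) : Nat := @Bool.rec (fun _ => Nat) (Ptab_8) (Ptab_s_9_11 c) (Nat.ble 9 c)
noncomputable def Ptab_s_5_11 (c : Nat) : Nat := @Bool.rec (fun _ => Nat) (Ptab_s_5_8 c) (Ptab_s_8_11 c) (Nat.ble 8 c)
noncomputable def Ptab_s_0_11 (c : Nat) : Nat := @Bool.rec (fun _ => Nat) (Ptab_s_0_5 c) (Ptab_s_5_11 c) (Nat.ble 5 c)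
noncomputable def Ptab_s_11_13 (c : Nat) : Nat := @Bool.rec (fun _ => Nat) (Ptab_11) (Ptab_12) (Nat.ble 12 c)
noncomputable def Ptab_s_14_16 (c : Nat) : Nat := @Bool.rec (fun _ => Nat) (Ptab_14) (Ptab_15) (Nat.ble 15 c)
noncomputable def Ptab_s_13_16 (c : Nat) : Nat := @Bool.rec (fun _ => Nat) (Ptab_13) (Ptab_s_14_16 c) (Nat.ble 14 c)
noncomputable def Ptab_s_11_16 (c : Nat) : Nat := @Bool.rec (fun _ => Nat) (Ptab_s_11_13 c) (Ptab_s_13_16 c) (Nat.ble 13 c)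
noncomputable def Ptab_s_17_19 (c : Nat) : Nat := @Bool.rec (fun _ => Nat) (Ptab_17) (Ptab_18) (Nat.ble 18 c)
noncomputable def Ptab_s_16_19 (c : Nat) : Nat := @Bool.rec (fun _ => Nat) (Ptab_16) (Ptab_s_17_19 c) (Nat.ble 17 c)
noncomputable def Ptab_s_20_22 (c : Nat) : Nat := @Bool.rec (fun _ => Nat) (Ptab_20) (Ptab_21) (Nat.ble 21 c)
noncomputable def Ptab_s_19_22 (c : Nat) : Nat := @Bool.rec (fun _ => Nat) (Ptab_19) (Ptab_s_20_22 c) (Nat.ble 20 c)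
noncomputable def Ptab_s_16_22 (c : Nat) : Nat := @Bool.rec (fun _ => Nat) (Ptab_s_16_19 c) (Ptab_s_19_22 c) (Nat.ble 19 c)
noncomputable def Ptab_s_11_22 (c : Nat) : Nat := @Bool.rec (fun _ => Nat) (Ptab_s_11_16 c) (Ptab_s_16_22 c) (Nat.ble 16 c)
noncomputable def Ptab_s_0_22 (c : Nat) : Nat := @Bool.rec (fun _ => Nat) (Ptab_s_0_11 c) (Ptab_s_11_22 c) (Nat.ble 11 c)
noncomputable def Ptab_s_22_24 (c : Nat) : Nat := @Bool.rec (fun _ => Nat) (Ptab_22) (Ptab_23) (Nat.ble 23 c)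
noncomputable def Ptab_s_25_27 (c : Nat) : Nat := @Bool.rec (fun _ => Nat) (Ptab_25) (Ptab_26) (Nat.ble 26 c)
noncomputable def Ptab_s_24_27 (c : Nat) : Nat := @Bool.rec (fun _ => Nat) (Ptab_24) (Ptab_s_25_27 c) (Nat.ble 25 c)
noncomputable def Ptab_s_22_27 (c : Nat) : Nat := @Bool.rec (fun _ => Nat) (Ptab_s_22_24 c) (Ptab_s_24_27 c) (Nat.ble 24 c)
noncomputable def Ptab_s_28_30 (c : Nat) : Nat := @Bool.rec (fun _ => Nat) (Ptab_28) (Ptab_29) (Nat.ble 29 c)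
noncomputable def Ptab_s_27_30 (c : Nat) : Nat := @Bool.rec (fun _ => Nat) (Ptab_27) (Ptab_s_28_30 c) (Nat.ble 28 c)
noncomputable def Ptab_s_31_33 (c : Nat) : Nat := @Bool.rec (fun _ => Nat) (Ptab_31) (Ptab_32) (Nat.ble 32 c)
noncomputable def Ptab_s_30_33 (c : Nat) : Nat := @Bool.rec (fun _ => Nat) (Ptab_30) (Ptab_s_31_33 c) (Nat.ble 31 c)
noncomputable def Ptab_s_27_33 (c : Nat) : Nat := @Bool.rec (fun _ => Nat) (Ptab_s_27_30 c) (Ptab_s_30_33 c) (Nat.ble 30 c)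
noncomputable def Ptab_s_22_33 (c : Nat) : Nat := @Bool.rec (fun _ => Nat) (Ptab_s_22_27 c) (Ptab_s_27_33 c) (Nat.ble 27 c)
noncomputable def Ptab_s_33_35 (c : Nat) : Nat := @Bool.rec (fun _ => Nat) (Ptab_33) (Ptab_34) (Nat.ble 34 c)
noncomputable def Ptab_s_36_38 (c : Nat) : Nat := @Bool.rec (fun _ => Nat) (Ptab_36) (Ptab_37) (Nat.ble 37 c)
noncomputable def Ptab_s_35_38 (c : Nat) : Nat := @Bool.rec (fun _ => Nat) (Ptab_35) (Ptab_s_36_38 c) (Nat.ble 36 c)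
noncomputable def Ptab_s_33_38 (c : Nat) : Nat := @Bool.rec (fun _ => Nat) (Ptab_s_33_35 c) (Ptab_s_35_38 c) (Nat.ble 35 c)
noncomputable def Ptab_s_39_41 (c : Nat) : Nat := @Bool.rec (fun _ => Nat) (Ptab_39) (Ptab_40) (Nat.ble 40 c)
noncomputable def Ptab_s_38_41 (c : Nat) : Nat := @Bool.rec (fun _ => Nat) (Ptab_38) (Ptab_s_39_41 c) (Nat.ble 39 c)
noncomputable def Ptab_s_42_44 (c : Nat) : Nat := @Bool.rec (fun _ => Nat) (Ptab_42) (Ptab_43) (Nat.ble 43 c)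
noncomputable def Ptab_s_41_44 (c : Nat) : Nat := @Bool.rec (fun _ => Nat) (Ptab_41) (Ptab_s_42_44 c) (Nat.ble 42 c)
noncomputable def Ptab_s_38_44 (c : Nat) : Nat := @Bool.rec (fun _ => Nat) (Ptab_s_38_41 c) (Ptab_s_41_44 c) (Nat.ble 41 c)
noncomputable def Ptab_s_33_44 (c : Nat) : Nat := @Bool.rec (fun _ => Nat) (Ptab_s_33_38 c) (Ptab_s_38_44 c) (Nat.ble 38 c)
noncomputable def Ptab_s_22_44 (c : Nat) : Nat := @Bool.rec (fun _ => Nat) (Ptab_s_22_33 c) (Ptab_s_33_44 c) (Nat.ble 33 c)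
noncomputable def Ptab_s_0_44 (c : Nat) : Nat := @Bool.rec (fun _ => Nat) (Ptab_s_0_22 c) (Ptab_s_22_44 c) (Nat.ble 22 c)
noncomputable def Ptab_s_44_46 (c : Nat) : Nat := @Bool.rec (fun _ => Nat) (Ptab_44) (Ptab_45) (Nat.ble 45 c)
noncomputable def Ptab_s_47_49 (c : Nat) : Nat := @Bool.rec (fun _ => Nat) (Ptab_47) (Ptab_48) (Nat.ble 48 c)
noncomputable def Ptab_s_46_49 (c : Nat) : Nat := @Bool.rec (fun _ => Nat) (Ptab_46) (Ptab_s_47_49 c) (Nat.ble 47 c)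
noncomputable def Ptab_s_44_49 (c : Nat) : Nat := @Bool.rec (fun _ => Nat) (Ptab_s_44_46 c) (Ptab_s_46_49 c) (Nat.ble 46 c)
noncomputable def Ptab_s_50_52 (c : Nat) : Nat := @Bool.rec (fun _ => Nat) (Ptab_50) (Ptab_51) (Nat.ble 51 c)
noncomputable def Ptab_s_49_52 (c : Nat) : Nat := @Bool.rec (fun _ => Nat) (Ptab_49) (Ptab_s_50_52 c) (Nat.ble 50 c)
noncomputable def Ptab_s_53_55 (c : Nat) : Nat := @Bool.rec (fun _ => Nat) (Ptab_53) (Ptab_54) (Nat.ble 54 c)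
noncomputable def Ptab_s_52_55 (c : Nat) : Nat := @Bool.rec (fun _ => Nat) (Ptab_52) (Ptab_s_53_55 c) (Nat.ble 53 c)
noncomputable def Ptab_s_49_55 (c : Nat) : Nat := @Bool.rec (fun _ => Nat) (Ptab_s_49_52 c) (Ptab_s_52_55 c) (Nat.ble 52 c)
noncomputable def Ptab_s_44_55 (c : Nat) : Nat := @Bool.rec (fun _ => Nat) (Ptab_s_44_49 c) (Ptab_s_49_55 c) (Nat.ble 49 c)
noncomputable def Ptab_s_55_57 (c : Nat) : Nat := @Bool.rec (fun _ => Nat) (Ptab_55) (Ptab_56) (Nat.ble 56 c)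
noncomputable def Ptab_s_58_60 (c : Nat) : Nat := @Bool.rec (fun _ => Nat) (Ptab_58) (Ptab_59) (Nat.ble 59 c)
noncomputable def Ptab_s_57_60 (c : Nat) : Nat := @Bool.rec (fun _ => Nat) (Ptab_57) (Ptab_s_58_60 c) (Nat.ble 58 c)
noncomputable def Ptab_s_55_60 (c : Nat) : Nat := @Bool.rec (fun _ => Nat) (Ptab_s_55_57 c) (Ptab_s_57_60 c) (Nat.ble 57 c)
noncomputable def Ptab_s_61_63 (c : Nat) : Nat := @Bool.rec (fun _ => Nat) (Ptab_61) (Ptab_62) (Nat.ble 62 c)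
noncomputable def Ptab_s_60_63 (c : Nat) : Nat := @Bool.rec (fun _ => Nat) (Ptab_60) (Ptab_s_61_63 c) (Nat.ble 61 c)
noncomputable def Ptab_s_64_66 (c : Nat) : Nat := @Bool.rec (fun _ => Nat) (Ptab_64) (Ptab_65) (Nat.ble 65 c)
noncomputable def Ptab_s_63_66 (c : Nat) : Nat := @Bool.rec (fun _ => Nat) (Ptab_63) (Ptab_s_64_66 c) (Nat.ble 64 c)
noncomputable def Ptab_s_60_66 (c : Nat) : Nat := @Bool.rec (fun _ => Nat) (Ptab_s_60_63 c) (Ptab_s_63_66 c) (Nat.ble 63 c)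
noncomputable def Ptab_s_55_66 (c : Nat) : Nat := @Bool.rec (fun _ => Nat) (Ptab_s_55_60 c) (Ptab_s_60_66 c) (Nat.ble 60 c)
noncomputable def Ptab_s_44_66 (c : Nat) : Nat := @Bool.rec (fun _ => Nat) (Ptab_s_44_55 c) (Ptab_s_55_66 c) (Nat.ble 55 c)
noncomputable def Ptab_s_66_68 (c : Nat) : Nat := @Bool.rec (fun _ => Nat) (Ptab_66) (Ptab_67) (Nat.ble 67 c)
noncomputable def Ptab_s_69_71 (c : Nat) : Nat := @Bool.rec (fun _ => Nat) (Ptab_69) (Ptab_70) (Nat.ble 70 c)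
noncomputable def Ptab_s_68_71 (c : Nat) : Nat := @Bool.rec (fun _ => Nat) (Ptab_68) (Ptab_s_69_71 c) (Nat.ble 69 c)
noncomputable def Ptab_s_66_71 (c : Nat) : Nat := @Bool.rec (fun _ => Nat) (Ptab_s_66_68 c) (Ptab_s_68_71 c) (Nat.ble 68 c)
noncomputable def Ptab_s_72_74 (c : Nat) : Nat := @Bool.rec (fun _ => Nat) (Ptab_72) (Ptab_73) (Nat.ble 73 c)
noncomputable def Ptab_s_71_74 (c : Nat) : Nat := @Bool.rec (fun _ => Nat) (Ptab_71) (Ptab_s_72_74 c) (Nat.ble 72 c)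
noncomputable def Ptab_s_75_77 (c : Nat) : Nat := @Bool.rec (fun _ => Nat) (Ptab_75) (Ptab_76) (Nat.ble 76 c)
noncomputable def Ptab_s_74_77 (c : Nat) : Nat := @Bool.rec (fun _ => Nat) (Ptab_74) (Ptab_s_75_77 c) (Nat.ble 75 c)
noncomputable def Ptab_s_71_77 (c : Nat) : Nat := @Bool.rec (fun _ => Nat) (Ptab_s_71_74 c) (Ptab_s_74_77 c) (Nat.ble 74 c)
noncomputable def Ptab_s_66_77 (c : Nat) : Nat := @Bool.rec (fun _ => Nat) (Ptab_s_66_71 c) (Ptab_s_71_77 c) (Nat.ble 71 c)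
noncomputable def Ptab_s_77_79 (c : Nat) : Nat := @Bool.rec (fun _ => Nat) (Ptab_77) (Ptab_78) (Nat.ble 78 c)
noncomputable def Ptab_s_80_82 (c : Nat) : Nat := @Bool.rec (fun _ => Nat) (Ptab_80) (Ptab_81) (Nat.ble 81 c)
noncomputable def Ptab_s_79_82 (c : Nat) : Nat := @Bool.rec (fun _ => Nat) (Ptab_79) (Ptab_s_80_82 c) (Nat.ble 80 c)
noncomputable def Ptab_s_77_82 (c : Nat) : Nat := @Bool.rec (fun _ => Nat) (Ptab_s_77_79 c) (Ptab_s_79_82 c) (Nat.ble 79 c)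
noncomputable def Ptab_s_83_85 (c : Nat) : Nat := @Bool.rec (fun _ => Nat) (Ptab_83) (Ptab_84) (Nat.ble 84 c)
noncomputable def Ptab_s_82_85 (c : Nat) : Nat := @Bool.rec (fun _ => Nat) (Ptab_82) (Ptab_s_83_85 c) (Nat.ble 83 c)
noncomputable def Ptab_s_86_88 (c : Nat) : Nat := @Bool.rec (fun _ => Nat) (Ptab_86) (Ptab_87) (Nat.ble 87 c)
noncomputable def Ptab_s_85_88 (c : Nat) : Nat := @Bool.rec (fun _ => Nat) (Ptab_85) (Ptab_s_86_88 c) (Nat.ble 86 c)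
noncomputable def Ptab_s_82_88 (c : Nat) : Nat := @Bool.rec (fun _ => Nat) (Ptab_s_82_85 c) (Ptab_s_85_88 c) (Nat.ble 85 c)
noncomputable def Ptab_s_77_88 (c : Nat) : Nat := @Bool.rec (fun _ => Nat) (Ptab_s_77_82 c) (Ptab_s_82_88 c) (Nat.ble 82 c)
noncomputable def Ptab_s_66_88 (c : Nat) : Nat := @Bool.rec (fun _ => Nat) (Ptab_s_66_77 c) (Ptab_s_77_88 c) (Nat.ble 77 c)
noncomputable def Ptab_s_44_88 (c : Nat) : Nat := @Bool.rec (fun _ => Nat) (Ptab_s_44_66 c) (Ptab_s_66_88 c) (Nat.ble 66 c)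
noncomputable def Ptab_s_0_88 (c : Nat) : Nat := @Bool.rec (fun _ => Nat) (Ptab_s_0_44 c) (Ptab_s_44_88 c) (Nat.ble 44 c)
noncomputable def Ptab_s_88_90 (c : Nat) : Nat := @Bool.rec (fun _ => Nat) (Ptab_88) (Ptab_89) (Nat.ble 89 c)
noncomputable def Ptab_s_91_93 (c : Nat) : Nat := @Bool.rec (fun _ => Nat) (Ptab_91) (Ptab_92) (Nat.ble 92 c)
noncomputable def Ptab_s_90_93 (c : Nat) : Nat := @Bool.rec (fun _ => Nat) (Ptab_90) (Ptab_s_91_93 c) (Nat.ble 91 c)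
noncomputable def Ptab_s_88_93 (c : Nat) : Nat := @Bool.rec (fun _ => Nat) (Ptab_s_88_90 c) (Ptab_s_90_93 c) (Nat.ble 90 c)
noncomputable def Ptab_s_94_96 (c : Nat) : Nat := @Bool.rec (fun _ => Nat) (Ptab_94) (Ptab_95) (Nat.ble 95 c)
noncomputable def Ptab_s_93_96 (c : Nat) : Nat := @Bool.rec (fun _ => Nat) (Ptab_93) (Ptab_s_94_96 c) (Nat.ble 94 c)
noncomputable def Ptab_s_97_99 (c : Nat) : Nat := @Bool.rec (fun _ => Nat) (Ptab_97) (Ptab_98) (Nat.ble 98 c)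
noncomputable def Ptab_s_96_99 (c : Nat) : Nat := @Bool.rec (fun _ => Nat) (Ptab_96) (Ptab_s_97_99 c) (Nat.ble 97 c)
noncomputable def Ptab_s_93_99 (c : Nat) : Nat := @Bool.rec (fun _ => Nat) (Ptab_s_93_96 c) (Ptab_s_96_99 c) (Nat.ble 96 c)
noncomputable def Ptab_s_88_99 (c : Nat) : Nat := @Bool.rec (fun _ => Nat) (Ptab_s_88_93 c) (Ptab_s_93_99 c) (Nat.ble 93 c)
noncomputable def Ptab_s_99_101 (c : Nat) : Nat := @Bool.rec (fun _ => Nat) (Ptab_99) (Ptab_100) (Nat.ble 100 c)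
noncomputable def Ptab_s_102_104 (c : Nat) : Nat := @Bool.rec (fun _ => Nat) (Ptab_102) (Ptab_103) (Nat.ble 103 c)
noncomputable def Ptab_s_101_104 (c : Nat) : Nat := @Bool.rec (fun _ => Nat) (Ptab_101) (Ptab_s_102_104 c) (Nat.ble 102 c)
noncomputable def Ptab_s_99_104 (c : Nat) : Nat := @Bool.rec (fun _ => Nat) (Ptab_s_99_101 c) (Ptab_s_101_104 c) (Nat.ble 101 c)
noncomputable def Ptab_s_105_107 (c : Nat) : Nat := @Bool.rec (fun _ => Nat) (Ptab_105) (Ptab_106) (Nat.ble 106 c)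
noncomputable def Ptab_s_104_107 (c : Nat) : Nat := @Bool.rec (fun _ => Nat) (Ptab_104) (Ptab_s_105_107 c) (Nat.ble 105 c)
noncomputable def Ptab_s_108_110 (c : Nat) : Nat := @Bool.rec (fun _ => Nat) (Ptab_108) (Ptab_109) (Nat.ble 109 c)
noncomputable def Ptab_s_107_110 (c : Nat) : Nat := @Bool.rec (fun _ => Nat) (Ptab_107) (Ptab_s_108_110 c) (Nat.ble 108 c)
noncomputable def Ptab_s_104_110 (c : Nat) : Nat := @Bool.rec (fun _ => Nat) (Ptab_s_104_107 c) (Ptab_s_107_110 c) (Nat.ble 107 c)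
noncomputable def Ptab_s_99_110 (c : Nat) : Nat := @Bool.rec (fun _ => Nat) (Ptab_s_99_104 c) (Ptab_s_104_110 c) (Nat.ble 104 c)
noncomputable def Ptab_s_88_110 (c : Nat) : Nat := @Bool.rec (fun _ => Nat) (Ptab_s_88_99 c) (Ptab_s_99_110 c) (Nat.ble 99 c)
noncomputable def Ptab_s_110_112 (c : Nat) : Nat := @Bool.rec (fun _ => Nat) (Ptab_110) (Ptab_111) (Nat.ble 111 c)
noncomputable def Ptab_s_113_115 (c : Nat) : Nat := @Bool.rec (fun _ => Nat) (Ptab_113) (Ptab_114) (Nat.ble 114 c)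
noncomputable def Ptab_s_112_115 (c : Nat) : Nat := @Bool.rec (fun _ => Nat) (Ptab_112) (Ptab_s_113_115 c) (Nat.ble 113 c)
noncomputable def Ptab_s_110_115 (c : Nat) : Nat := @Bool.rec (fun _ => Nat) (Ptab_s_110_112 c) (Ptab_s_112_115 c) (Nat.ble 112 c)
noncomputable def Ptab_s_116_118 (c : Nat) : Nat := @Bool.rec (fun _ => Nat) (Ptab_116) (Ptab_117) (Nat.ble 117 c)
noncomputable def Ptab_s_115_118 (c : Nat) : Nat := @Bool.rec (fun _ => Nat) (Ptab_115) (Ptab_s_116_118 c) (Nat.ble 116 c)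
noncomputable def Ptab_s_119_121 (c : Nat) : Nat := @Bool.rec (fun _ => Nat) (Ptab_119) (Ptab_120) (Nat.ble 120 c)
noncomputable def Ptab_s_118_121 (c : Nat) : Nat := @Bool.rec (fun _ => Nat) (Ptab_118) (Ptab_s_119_121 c) (Nat.ble 119 c)
noncomputable def Ptab_s_115_121 (c : Nat) : Nat := @Bool.rec (fun _ => Nat) (Ptab_s_115_118 c) (Ptab_s_118_121 c) (Nat.ble 118 c)
noncomputable def Ptab_s_110_121 (c : Nat) : Nat := @Bool.rec (fun _ => Nat) (Ptab_s_110_115 c) (Ptab_s_115_121 c) (Nat.ble 115 c)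
noncomputable def Ptab_s_121_123 (c : Nat) : Nat := @Bool.rec (fun _ => Nat) (Ptab_121) (Ptab_122) (Nat.ble 122 c)
noncomputable def Ptab_s_124_126 (c : Nat) : Nat := @Bool.rec (fun _ => Nat) (Ptab_124) (Ptab_125) (Nat.ble 125 c)
noncomputable def Ptab_s_123_126 (c : Nat) : Nat := @Bool.rec (fun _ => Nat) (Ptab_123) (Ptab_s_124_126 c) (Nat.ble 124 c)
noncomputable def Ptab_s_121_126 (c : Nat) : Nat := @Bool.rec (fun _ => Nat) (Ptab_s_121_123 c) (Ptab_s_123_126 c) (Nat.ble 123 c)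
noncomputable def Ptab_s_127_129 (c : Nat) : Nat := @Bool.rec (fun _ => Nat) (Ptab_127) (Ptab_128) (Nat.ble 128 c)
noncomputable def Ptab_s_126_129 (c : Nat) : Nat := @Bool.rec (fun _ => Nat) (Ptab_126) (Ptab_s_127_129 c) (Nat.ble 127 c)
noncomputable def Ptab_s_130_132 (c : Nat) : Nat := @Bool.rec (fun _ => Nat) (Ptab_130) (Ptab_131) (Nat.ble 131 c)
noncomputable def Ptab_s_129_132 (c : Nat) : Nat := @Bool.rec (fun _ => Nat) (Ptab_129) (Ptab_s_130_132 c) (Nat.ble 130 c)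
noncomputable def Ptab_s_126_132 (c : Nat) : Nat := @Bool.rec (fun _ => Nat) (Ptab_s_126_129 c) (Ptab_s_129_132 c) (Nat.ble 129 c)
noncomputable def Ptab_s_121_132 (c : Nat) : Nat := @Bool.rec (fun _ => Nat) (Ptab_s_121_126 c) (Ptab_s_126_132 c) (Nat.ble 126 c)
noncomputable def Ptab_s_110_132 (c : Nat) : Nat := @Bool.rec (fun _ => Nat) (Ptab_s_110_121 c) (Ptab_s_121_132 c) (Nat.ble 121 c)
noncomputable def Ptab_s_88_132 (c : Nat) : Nat := @Bool.rec (fun _ => Nat) (Ptab_s_88_110 c) (Ptab_s_110_132 c) (Nat.ble 110 c)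
noncomputable def Ptab_s_132_134 (c : Nat) : Nat := @Bool.rec (fun _ => Nat) (Ptab_132) (Ptab_133) (Nat.ble 133 c)
noncomputable def Ptab_s_135_137 (c : Nat) : Nat := @Bool.rec (fun _ => Nat) (Ptab_135) (Ptab_136) (Nat.ble 136 c)
noncomputable def Ptab_s_134_137 (c : Nat) : Nat := @Bool.rec (fun _ => Nat) (Ptab_134) (Ptab_s_135_137 c) (Nat.ble 135 c)
noncomputable def Ptab_s_132_137 (c : Nat) : Nat := @Bool.rec (fun _ => Nat) (Ptab_s_132_134 c) (Ptab_s_134_137 c) (Nat.ble 134 c)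
noncomputable def Ptab_s_138_140 (c : Nat) : Nat := @Bool.rec (fun _ => Nat) (Ptab_138) (Ptab_139) (Nat.ble 139 c)
noncomputable def Ptab_s_137_140 (c : Nat) : Nat := @Bool.rec (fun _ => Nat) (Ptab_137) (Ptab_s_138_140 c) (Nat.ble 138 c)
noncomputable def Ptab_s_141_143 (c : Nat) : Nat := @Bool.rec (fun _ => Nat) (Ptab_141) (Ptab_142) (Nat.ble 142 c)
noncomputable def Ptab_s_140_143 (c : Nat) : Nat := @Bool.rec (fun _ => Nat) (Ptab_140) (Ptab_s_141_143 c) (Nat.ble 141 c)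
noncomputable def Ptab_s_137_143 (c : Nat) : Nat := @Bool.rec (fun _ => Nat) (Ptab_s_137_140 c) (Ptab_s_140_143 c) (Nat.ble 140 c)
noncomputable def Ptab_s_132_143 (c : Nat) : Nat := @Bool.rec (fun _ => Nat) (Ptab_s_132_137 c) (Ptab_s_137_143 c) (Nat.ble 137 c)
noncomputable def Ptab_s_143_145 (c : Nat) : Nat := @Bool.rec (fun _ => Nat) (Ptab_143) (Ptab_144) (Nat.ble 144 c)
noncomputable def Ptab_s_146_148 (c : Nat) : Nat := @Bool.rec (fun _ => Nat) (Ptab_146) (Ptab_147) (Nat.ble 147 c)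
noncomputable def Ptab_s_145_148 (c : Nat) : Nat := @Bool.rec (fun _ => Nat) (Ptab_145) (Ptab_s_146_148 c) (Nat.ble 146 c)
noncomputable def Ptab_s_143_148 (c : Nat) : Nat := @Bool.rec (fun _ => Nat) (Ptab_s_143_145 c) (Ptab_s_145_148 c) (Nat.ble 145 c)
noncomputable def Ptab_s_149_151 (c : Nat) : Nat := @Bool.rec (fun _ => Nat) (Ptab_149) (Ptab_150) (Nat.ble 150 c)
noncomputable def Ptab_s_148_151 (c : Nat) : Nat := @Bool.rec (fun _ => Nat) (Ptab_148) (Ptab_s_149_151 c) (Nat.ble 149 c)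
noncomputable def Ptab_s_152_154 (c : Nat) : Nat := @Bool.rec (fun _ => Nat) (Ptab_152) (Ptab_153) (Nat.ble 153 c)
noncomputable def Ptab_s_151_154 (c : Nat) : Nat := @Bool.rec (fun _ => Nat) (Ptab_151) (Ptab_s_152_154 c) (Nat.ble 152 c)
noncomputable def Ptab_s_148_154 (c : Nat) : Nat := @Bool.rec (fun _ => Nat) (Ptab_s_148_151 c) (Ptab_s_151_154 c) (Nat.ble 151 c)
noncomputable def Ptab_s_143_154 (c : Nat) : Nat := @Bool.rec (fun _ => Nat) (Ptab_s_143_148 c) (Ptab_s_148_154 c) (Nat.ble 148 c)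
noncomputable def Ptab_s_132_154 (c : Nat) : Nat := @Bool.rec (fun _ => Nat) (Ptab_s_132_143 c) (Ptab_s_143_154 c) (Nat.ble 143 c)
noncomputable def Ptab_s_154_156 (c : Nat) : Nat := @Bool.rec (fun _ => Nat) (Ptab_154) (Ptab_155) (Nat.ble 155 c)
noncomputable def Ptab_s_157_159 (c : Nat) : Nat := @Bool.rec (fun _ => Nat) (Ptab_157) (Ptab_158) (Nat.ble 158 c)
noncomputable def Ptab_s_156_159 (c : Nat) : Nat := @Bool.rec (fun _ => Nat) (Ptab_156) (Ptab_s_157_159 c) (Nat.ble 157 c)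
noncomputable def Ptab_s_154_159 (c : Nat) : Nat := @Bool.rec (fun _ => Nat) (Ptab_s_154_156 c) (Ptab_s_156_159 c) (Nat.ble 156 c)
noncomputable def Ptab_s_160_162 (c : Nat) : Nat := @Bool.rec (fun _ => Nat) (Ptab_160) (Ptab_161) (Nat.ble 161 c)
noncomputable def Ptab_s_159_162 (c : Nat) : Nat := @Bool.rec (fun _ => Nat) (Ptab_159) (Ptab_s_160_162 c) (Nat.ble 160 c)
noncomputable def Ptab_s_163_165 (c : Nat) : Nat := @Bool.rec (fun _ => Nat) (Ptab_163) (Ptab_164) (Nat.ble 164 c)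
noncomputable def Ptab_s_162_165 (c : Nat) : Nat := @Bool.rec (fun _ => Nat) (Ptab_162) (Ptab_s_163_165 c) (Nat.ble 163 c)
noncomputable def Ptab_s_159_165 (c : Nat) : Nat := @Bool.rec (fun _ => Nat) (Ptab_s_159_162 c) (Ptab_s_162_165 c) (Nat.ble 162 c)
noncomputable def Ptab_s_154_165 (c : Nat) : Nat := @Bool.rec (fun _ => Nat) (Ptab_s_154_159 c) (Ptab_s_159_165 c) (Nat.ble 159 c)
noncomputable def Ptab_s_165_167 (c : Nat) : Nat := @Bool.rec (fun _ => Nat) (Ptab_165) (Ptab_166) (Nat.ble 166 c)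
noncomputable def Ptab_s_168_170 (c : Nat) : Nat := @Bool.rec (fun _ => Nat) (Ptab_168) (Ptab_169) (Nat.ble 169 c)
noncomputable def Ptab_s_167_170 (c : Nat) : Nat := @Bool.rec (fun _ => Nat) (Ptab_167) (Ptab_s_168_170 c) (Nat.ble 168 c)
noncomputable def Ptab_s_165_170 (c : Nat) : Nat := @Bool.rec (fun _ => Nat) (Ptab_s_165_167 c) (Ptab_s_167_170 c) (Nat.ble 167 c)
noncomputable def Ptab_s_171_173 (c : Nat) : Nat := @Bool.rec (fun _ => Nat) (Ptab_171) (Ptab_172) (Nat.ble 172 c)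
noncomputable def Ptab_s_170_173 (c : Nat) : Nat := @Bool.rec (fun _ => Nat) (Ptab_170) (Ptab_s_171_173 c) (Nat.ble 171 c)
noncomputable def Ptab_s_174_176 (c : Nat) : Nat := @Bool.rec (fun _ => Nat) (Ptab_174) (Ptab_175) (Nat.ble 175 c)
noncomputable def Ptab_s_173_176 (c : Nat) : Nat := @Bool.rec (fun _ => Nat) (Ptab_173) (Ptab_s_174_176 c) (Nat.ble 174 c)
noncomputable def Ptab_s_170_176 (c : Nat) : Nat := @Bool.rec (fun _ => Nat) (Ptab_s_170_173 c) (Ptab_s_173_176 c) (Nat.ble 173 c)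
noncomputable def Ptab_s_165_176 (c : Nat) : Nat := @Bool.rec (fun _ => Nat) (Ptab_s_165_170 c) (Ptab_s_170_176 c) (Nat.ble 170 c)
noncomputable def Ptab_s_154_176 (c : Nat) : Nat := @Bool.rec (fun _ => Nat) (Ptab_s_154_165 c) (Ptab_s_165_176 c) (Nat.ble 165 c)
noncomputable def Ptab_s_132_176 (c : Nat) : Nat := @Bool.rec (fun _ => Nat) (Ptab_s_132_154 c) (Ptab_s_154_176 c) (Nat.ble 154 c)
noncomputable def Ptab_s_88_176 (c : Nat) : Nat := @Bool.rec (fun _ => Nat) (Ptab_s_88_132 c) (Ptab_s_132_176 c) (Nat.ble 132 c)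
noncomputable def Ptab_s_0_176 (c : Nat) : Nat := @Bool.rec (fun _ => Nat) (Ptab_s_0_88 c) (Ptab_s_88_176 c) (Nat.ble 88 c)
noncomputable def Ptab (i : Nat) : Nat := rdw 19 524287 (Ptab_s_0_176 (Nat.shiftRight i 12)) (Nat.land i 4095)
noncomputable def RRtab (i : Nat) : Nat := rdw 3 7 RRtab_0 i
noncomputable def rBtab (i : Nat) : Nat := rdw 10 1023 rBtab_0 i
noncomputable def rLtab (i : Nat) : Nat := rdw 7 127 rLtab_0 i
noncomputable def nameTab_s_0_2 (c : Nat) : Nat := @Bool.rec (fun _ => Nat) (nameTab_0) (nameTab_1) (Nat.ble 1 c)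
noncomputable def nameTab_s_3_5 (c : Nat) : Nat := @Bool.rec (fun _ => Nat) (nameTab_3) (nameTab_4) (Nat.ble 4 c)
noncomputable def nameTab_s_2_5 (c : Nat) : Nat := @Bool.rec (fun _ => Nat) (nameTab_2) (nameTab_s_3_5 c) (Nat.ble 3 c)
noncomputable def nameTab_s_0_5 (c : Nat) : Nat := @Bool.rec (fun _ => Nat) (nameTab_s_0_2 c) (nameTab_s_2_5 c) (Nat.ble 2 c)
noncomputable def nameTab_s_6_8 (c : Nat) : Nat := @Bool.rec (fun _ => Nat) (nameTab_6) (nameTab_7) (Nat.ble 7 c)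
noncomputable def nameTab_s_5_8 (c : Nat) : Nat := @Bool.rec (fun _ => Nat) (nameTab_5) (nameTab_s_6_8 c) (Nat.ble 6 c)
noncomputable def nameTab_s_9_11 (c : Nat) : Nat := @Bool.rec (fun _ => Nat) (nameTab_9) (nameTab_10) (Nat.ble 10 c)
noncomputable def nameTab_s_8_11 (c : Nat) : Nat := @Bool.rec (fun _ => Nat) (nameTab_8) (nameTab_s_9_11 c) (Nat.ble 9 c)
noncomputable def nameTab_s_5_11 (c : Nat) : Nat := @Bool.rec (fun _ => Nat) (nameTab_s_5_8 c) (nameTab_s_8_11 c) (Nat.ble 8 c)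
noncomputable def nameTab_s_0_11 (c : Nat) : Nat := @Bool.rec (fun _ => Nat) (nameTab_s_0_5 c) (nameTab_s_5_11 c) (Nat.ble 5 c)
noncomputable def nameTab_s_11_13 (c : Nat) : Nat := @Bool.rec (fun _ => Nat) (nameTab_11) (nameTab_12) (Nat.ble 12 c)
noncomputable def nameTab_s_14_16 (c : Nat) : Nat := @Bool.rec (fun _ => Nat) (nameTab_14) (nameTab_15) (Nat.ble 15 c)
noncomputable def nameTab_s_13_16 (c : Nat) : Nat := @Bool.rec (fun _ => Nat) (nameTab_13) (nameTab_s_14_16 c) (Nat.ble 14 c)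
noncomputable def nameTab_s_11_16 (c : Nat) : Nat := @Bool.rec (fun _ => Nat) (nameTab_s_11_13 c) (nameTab_s_13_16 c) (Nat.ble 13 c)
noncomputable def nameTab_s_17_19 (c : Nat) : Nat := @Bool.rec (fun _ => Nat) (nameTab_17) (nameTab_18) (Nat.ble 18 c)
noncomputable def nameTab_s_16_19 (c : Nat) : Nat := @Bool.rec (fun _ => Nat) (nameTab_16) (nameTab_s_17_19 c) (Nat.ble 17 c)
noncomputable def nameTab_s_20_22 (c : Nat) : Nat := @Bool.rec (fun _ => Nat) (nameTab_20) (nameTab_21) (Nat.ble 21 c)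
noncomputable def nameTab_s_19_22 (c : Nat) : Nat := @Bool.rec (fun _ => Nat) (nameTab_19) (nameTab_s_20_22 c) (Nat.ble 20 c)
noncomputable def nameTab_s_16_22 (c : Nat) : Nat := @Bool.rec (fun _ => Nat) (nameTab_s_16_19 c) (nameTab_s_19_22 c) (Nat.ble 19 c)
noncomputable def nameTab_s_11_22 (c : Nat) : Nat := @Bool.rec (fun _ => Nat) (nameTab_s_11_16 c) (nameTab_s_16_22 c) (Nat.ble 16 c)
noncomputable def nameTab_s_0_22 (c : Nat) : Nat := @Bool.rec (fun _ => Nat) (nameTab_s_0_11 c) (nameTab_s_11_22 c) (Nat.ble 11 c)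
noncomputable def nameTab (i : Nat) : Nat := rdw 17 131071 (nameTab_s_0_22 (Nat.shiftRight i 12)) (Nat.land i 4095)
noncomputable def col0_s_0_2 (c : Nat) : Nat := @Bool.rec (fun _ => Nat) (col0_0) (col0_1) (Nat.ble 1 c)
noncomputable def col0_s_3_5 (c : Nat) : Nat := @Bool.rec (fun _ => Nat) (col0_3) (col0_4) (Nat.ble 4 c)
noncomputable def col0_s_2_5 (c : Nat) : Nat := @Bool.rec (fun _ => Nat) (col0_2) (col0_s_3_5 c) (Nat.ble 3 c)
noncomputable def col0_s_0_5 (c : Nat) : Nat := @Bool.rec (fun _ => Nat) (col0_s_0_2 c) (col0_s_2_5 c) (Nat.ble 2 c)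
noncomputable def col0_s_6_8 (c : Nat) : Nat := @Bool.rec (fun _ => Nat) (col0_6) (col0_7) (Nat.ble 7 c)
noncomputable def col0_s_5_8 (c : Nat) : Nat := @Bool.rec (fun _ => Nat) (col0_5) (col0_s_6_8 c) (Nat.ble 6 c)
noncomputable def col0_s_9_11 (c : Nat) : Nat := @Bool.rec (fun _ => Nat) (col0_9) (col0_10) (Nat.ble 10 c)
noncomputable def col0_s_8_11 (c : Nat) : Nat := @Bool.rec (fun _ => Nat) (col0_8) (col0_s_9_11 c) (Nat.ble 9 c)
noncomputable def col0_s_5_11 (c : Nat) : Nat := @Bool.rec (fun _ => Nat) (col0_s_5_8 c) (col0_s_8_11 c) (Nat.ble 8 c)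
noncomputable def col0_s_0_11 (c : Nat) : Nat := @Bool.rec (fun _ => Nat) (col0_s_0_5 c) (col0_s_5_11 c) (Nat.ble 5 c)
noncomputable def col0_s_11_13 (c : Nat) : Nat := @Bool.rec (fun _ => Nat) (col0_11) (col0_12) (Nat.ble 12 c)
noncomputable def col0_s_14_16 (c : Nat) : Nat := @Bool.rec (fun _ => Nat) (col0_14) (col0_15) (Nat.ble 15 c)
noncomputable def col0_s_13_16 (c : Nat) : Nat := @Bool.rec (fun _ => Nat) (col0_13) (col0_s_14_16 c) (Nat.ble 14 c)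
noncomputable def col0_s_11_16 (c : Nat) : Nat := @Bool.rec (fun _ => Nat) (col0_s_11_13 c) (col0_s_13_16 c) (Nat.ble 13 c)
noncomputable def col0_s_17_19 (c : Nat) : Nat := @Bool.rec (fun _ => Nat) (col0_17) (col0_18) (Nat.ble 18 c)
noncomputable def col0_s_16_19 (c : Nat) : Nat := @Bool.rec (fun _ => Nat) (col0_16) (col0_s_17_19 c) (Nat.ble 17 c)
noncomputable def col0_s_20_22 (c : Nat) : Nat := @Bool.rec (fun _ => Nat) (col0_20) (col0_21) (Nat.ble 21 c)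
noncomputable def col0_s_19_22 (c : Nat) : Nat := @Bool.rec (fun _ => Nat) (col0_19) (col0_s_20_22 c) (Nat.ble 20 c)
noncomputable def col0_s_16_22 (c : Nat) : Nat := @Bool.rec (fun _ => Nat) (col0_s_16_19 c) (col0_s_19_22 c) (Nat.ble 19 c)
noncomputable def col0_s_11_22 (c : Nat) : Nat := @Bool.rec (fun _ => Nat) (col0_s_11_16 c) (col0_s_16_22 c) (Nat.ble 16 c)
noncomputable def col0_s_0_22 (c : Nat) : Nat := @Bool.rec (fun _ => Nat) (col0_s_0_11 c) (col0_s_11_22 c) (Nat.ble 11 c)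
noncomputable def col0 (i : Nat) : Nat := rdw 17 131071 (col0_s_0_22 (Nat.shiftRight i 12)) (Nat.land i 4095)
noncomputable def col1_s_0_2 (c : Nat) : Nat := @Bool.rec (fun _ => Nat) (col1_0) (col1_1) (Nat.ble 1 c)
noncomputable def col1_s_3_5 (c : Nat) : Nat := @Bool.rec (fun _ => Nat) (col1_3) (col1_4) (Nat.ble 4 c)
noncomputable def col1_s_2_5 (c : Nat) : Nat := @Bool.rec (fun _ => Nat) (col1_2) (col1_s_3_5 c) (Nat.ble 3 c)
noncomputable def col1_s_0_5 (c : Nat) : Nat := @Bool.rec (fun _ => Nat) (col1_s_0_2 c) (col1_s_2_5 c) (Nat.ble 2 c)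
noncomputable def col1_s_6_8 (c : Nat) : Nat := @Bool.rec (fun _ => Nat) (col1_6) (col1_7) (Nat.ble 7 c)
noncomputable def col1_s_5_8 (c : Nat) : Nat := @Bool.rec (fun _ => Nat) (col1_5) (col1_s_6_8 c) (Nat.ble 6 c)
noncomputable def col1_s_9_11 (c : Nat) : Nat := @Bool.rec (fun _ => Nat) (col1_9) (col1_10) (Nat.ble 10 c)
noncomputable def col1_s_8_11 (c : Nat) : Nat := @Bool.rec (fun _ => Nat) (col1_8) (col1_s_9_11 c) (Nat.ble 9 c)
noncomputable def col1_s_5_11 (c : Nat) : Nat := @Bool.rec (fun _ => Nat) (col1_s_5_8 c) (col1_s_8_11 c) (Nat.ble 8 c)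
noncomputable def col1_s_0_11 (c : Nat) : Nat := @Bool.rec (fun _ => Nat) (col1_s_0_5 c) (col1_s_5_11 c) (Nat.ble 5 c)
noncomputable def col1_s_11_13 (c : Nat) : Nat := @Bool.rec (fun _ => Nat) (col1_11) (col1_12) (Nat.ble 12 c)
noncomputable def col1_s_14_16 (c : Nat) : Nat := @Bool.rec (fun _ => Nat) (col1_14) (col1_15) (Nat.ble 15 c)
noncomputable def col1_s_13_16 (c : Nat) : Nat := @Bool.rec (fun _ => Nat) (col1_13) (col1_s_14_16 c) (Nat.ble 14 c)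
noncomputable def col1_s_11_16 (c : Nat) : Nat := @Bool.rec (fun _ => Nat) (col1_s_11_13 c) (col1_s_13_16 c) (Nat.ble 13 c)
noncomputable def col1_s_17_19 (c : Nat) : Nat := @Bool.rec (fun _ => Nat) (col1_17) (col1_18) (Nat.ble 18 c)
noncomputable def col1_s_16_19 (c : Nat) : Nat := @Bool.rec (fun _ => Nat) (col1_16) (col1_s_17_19 c) (Nat.ble 17 c)
noncomputable def col1_s_20_22 (c : Nat) : Nat := @Bool.rec (fun _ => Nat) (col1_20) (col1_21) (Nat.ble 21 c)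
noncomputable def col1_s_19_22 (c : Nat) : Nat := @Bool.rec (fun _ => Nat) (col1_19) (col1_s_20_22 c) (Nat.ble 20 c)
noncomputable def col1_s_16_22 (c : Nat) : Nat := @Bool.rec (fun _ => Nat) (col1_s_16_19 c) (col1_s_19_22 c) (Nat.ble 19 c)
noncomputable def col1_s_11_22 (c : Nat) : Nat := @Bool.rec (fun _ => Nat) (col1_s_11_16 c) (col1_s_16_22 c) (Nat.ble 16 c)
noncomputable def col1_s_0_22 (c : Nat) : Nat := @Bool.rec (fun _ => Nat) (col1_s_0_11 c) (col1_s_11_22 c) (Nat.ble 11 c)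
noncomputable def col1 (i : Nat) : Nat := rdw 17 131071 (col1_s_0_22 (Nat.shiftRight i 12)) (Nat.land i 4095)
noncomputable def col2_s_0_2 (c : Nat) : Nat := @Bool.rec (fun _ => Nat) (col2_0) (col2_1) (Nat.ble 1 c)
noncomputable def col2_s_3_5 (c : Nat) : Nat := @Bool.rec (fun _ => Nat) (col2_3) (col2_4) (Nat.ble 4 c)
noncomputable def col2_s_2_5 (c : Nat) : Nat := @Bool.rec (fun _ => Nat) (col2_2) (col2_s_3_5 c) (Nat.ble 3 c)
noncomputable def col2_s_0_5 (c : Nat) : Nat := @Bool.rec (fun _ => Nat) (col2_s_0_2 c) (col2_s_2_5 c) (Nat.ble 2 c)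
noncomputable def col2_s_6_8 (c : Nat) : Nat := @Bool.rec (fun _ => Nat) (col2_6) (col2_7) (Nat.ble 7 c)
noncomputable def col2_s_5_8 (c : Nat) : Nat := @Bool.rec (fun _ => Nat) (col2_5) (col2_s_6_8 c) (Nat.ble 6 c)
noncomputable def col2_s_9_11 (c : Nat) : Nat := @Bool.rec (fun _ => Nat) (col2_9) (col2_10) (Nat.ble 10 c)
noncomputable def col2_s_8_11 (c : Nat) : Nat := @Bool.rec (fun _ => Nat) (col2_8) (col2_s_9_11 c) (Nat.ble 9 c)
noncomputable def col2_s_5_11 (c : Nat) : Nat := @Bool.rec (fun _ => Nat) (col2_s_5_8 c) (col2_s_8_11 c) (Nat.ble 8 c)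
noncomputable def col2_s_0_11 (c : Nat) : Nat := @Bool.rec (fun _ => Nat) (col2_s_0_5 c) (col2_s_5_11 c) (Nat.ble 5 c)
noncomputable def col2_s_11_13 (c : Nat) : Nat := @Bool.rec (fun _ => Nat) (col2_11) (col2_12) (Nat.ble 12 c)
noncomputable def col2_s_14_16 (c : Nat) : Nat := @Bool.rec (fun _ => Nat) (col2_14) (col2_15) (Nat.ble 15 c)
noncomputable def col2_s_13_16 (c : Nat) : Nat := @Bool.rec (fun _ => Nat) (col2_13) (col2_s_14_16 c) (Nat.ble 14 c)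
noncomputable def col2_s_11_16 (c : Nat) : Nat := @Bool.rec (fun _ => Nat) (col2_s_11_13 c) (col2_s_13_16 c) (Nat.ble 13 c)
noncomputable def col2_s_17_19 (c : Nat) : Nat := @Bool.rec (fun _ => Nat) (col2_17) (col2_18) (Nat.ble 18 c)
noncomputable def col2_s_16_19 (c : Nat) : Nat := @Bool.rec (fun _ => Nat) (col2_16) (col2_s_17_19 c) (Nat.ble 17 c)
noncomputable def col2_s_20_22 (c : Nat) : Nat := @Bool.rec (fun _ => Nat) (col2_20) (col2_21) (Nat.ble 21 c)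
noncomputable def col2_s_19_22 (c : Nat) : Nat := @Bool.rec (fun _ => Nat) (col2_19) (col2_s_20_22 c) (Nat.ble 20 c)
noncomputable def col2_s_16_22 (c : Nat) : Nat := @Bool.rec (fun _ => Nat) (col2_s_16_19 c) (col2_s_19_22 c) (Nat.ble 19 c)
noncomputable def col2_s_11_22 (c : Nat) : Nat := @Bool.rec (fun _ => Nat) (col2_s_11_16 c) (col2_s_16_22 c) (Nat.ble 16 c)
noncomputable def col2_s_0_22 (c : Nat) : Nat := @Bool.rec (fun _ => Nat) (col2_s_0_11 c) (col2_s_11_22 c) (Nat.ble 11 c)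
noncomputable def col2 (i : Nat) : Nat := rdw 17 131071 (col2_s_0_22 (Nat.shiftRight i 12)) (Nat.land i 4095)
noncomputable def col3_s_0_2 (c : Nat) : Nat := @Bool.rec (fun _ => Nat) (col3_0) (col3_1) (Nat.ble 1 c)
noncomputable def col3_s_3_5 (c : Nat) : Nat := @Bool.rec (fun _ => Nat) (col3_3) (col3_4) (Nat.ble 4 c)
noncomputable def col3_s_2_5 (c : Nat) : Nat := @Bool.rec (fun _ => Nat) (col3_2) (col3_s_3_5 c) (Nat.ble 3 c)
noncomputable def col3_s_0_5 (c : Nat) : Nat := @Bool.rec (fun _ => Nat) (col3_s_0_2 c) (col3_s_2_5 c) (Nat.ble 2 c)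
noncomputable def col3_s_6_8 (c : Nat) : Nat := @Bool.rec (fun _ => Nat) (col3_6) (col3_7) (Nat.ble 7 c)
noncomputable def col3_s_5_8 (c : Nat) : Nat := @Bool.rec (fun _ => Nat) (col3_5) (col3_s_6_8 c) (Nat.ble 6 c)
noncomputable def col3_s_9_11 (c : Nat) : Nat := @Bool.rec (fun _ => Nat) (col3_9) (col3_10) (Nat.ble 10 c)
noncomputable def col3_s_8_11 (c : Nat) : Nat := @Bool.rec (fun _ => Nat) (col3_8) (col3_s_9_11 c) (Nat.ble 9 c)
noncomputable def col3_s_5_11 (c : Nat) : Nat := @Bool.rec (fun _ => Nat) (col3_s_5_8 c) (col3_s_8_11 c) (Nat.ble 8 c)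
noncomputable def col3_s_0_11 (c : Nat) : Nat := @Bool.rec (fun _ => Nat) (col3_s_0_5 c) (col3_s_5_11 c) (Nat.ble 5 c)
noncomputable def col3_s_11_13 (c : Nat) : Nat := @Bool.rec (fun _ => Nat) (col3_11) (col3_12) (Nat.ble 12 c)
noncomputable def col3_s_14_16 (c : Nat) : Nat := @Bool.rec (fun _ => Nat) (col3_14) (col3_15) (Nat.ble 15 c)
noncomputable def col3_s_13_16 (c : Nat) : Nat := @Bool.rec (fun _ => Nat) (col3_13) (col3_s_14_16 c) (Nat.ble 14 c)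
noncomputable def col3_s_11_16 (c : Nat) : Nat := @Bool.rec (fun _ => Nat) (col3_s_11_13 c) (col3_s_13_16 c) (Nat.ble 13 c)
noncomputable def col3_s_17_19 (c : Nat) : Nat := @Bool.rec (fun _ => Nat) (col3_17) (col3_18) (Nat.ble 18 c)
noncomputable def col3_s_16_19 (c : Nat) : Nat := @Bool.rec (fun _ => Nat) (col3_16) (col3_s_17_19 c) (Nat.ble 17 c)
noncomputable def col3_s_20_22 (c : Nat) : Nat := @Bool.rec (fun _ => Nat) (col3_20) (col3_21) (Nat.ble 21 c)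
noncomputable def col3_s_19_22 (c : Nat) : Nat := @Bool.rec (fun _ => Nat) (col3_19) (col3_s_20_22 c) (Nat.ble 20 c)
noncomputable def col3_s_16_22 (c : Nat) : Nat := @Bool.rec (fun _ => Nat) (col3_s_16_19 c) (col3_s_19_22 c) (Nat.ble 19 c)
noncomputable def col3_s_11_22 (c : Nat) : Nat := @Bool.rec (fun _ => Nat) (col3_s_11_16 c) (col3_s_16_22 c) (Nat.ble 16 c)
noncomputable def col3_s_0_22 (c : Nat) : Nat := @Bool.rec (fun _ => Nat) (col3_s_0_11 c) (col3_s_11_22 c) (Nat.ble 11 c)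
noncomputable def col3 (i : Nat) : Nat := rdw 17 131071 (col3_s_0_22 (Nat.shiftRight i 12)) (Nat.land i 4095)
noncomputable def finTab_s_0_2 (c : Nat) : Nat := @Bool.rec (fun _ => Nat) (finTab_0) (finTab_1) (Nat.ble 1 c)
noncomputable def finTab_s_3_5 (c : Nat) : Nat := @Bool.rec (fun _ => Nat) (finTab_3) (finTab_4) (Nat.ble 4 c)
noncomputable def finTab_s_2_5 (c : Nat) : Nat := @Bool.rec (fun _ => Nat) (finTab_2) (finTab_s_3_5 c) (Nat.ble 3 c)
noncomputable def finTab_s_0_5 (c : Nat) : Nat := @Bool.rec (fun _ => Nat) (finTab_s_0_2 c) (finTab_s_2_5 c) (Nat.ble 2 c)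
noncomputable def finTab_s_5_7 (c : Nat) : Nat := @Bool.rec (fun _ => Nat) (finTab_5) (finTab_6) (Nat.ble 6 c)
noncomputable def finTab_s_8_10 (c : Nat) : Nat := @Bool.rec (fun _ => Nat) (finTab_8) (finTab_9) (Nat.ble 9 c)
noncomputable def finTab_s_7_10 (c : Nat) : Nat := @Bool.rec (fun _ => Nat) (finTab_7) (finTab_s_8_10 c) (Nat.ble 8 c)
noncomputable def finTab_s_5_10 (c : Nat) : Nat := @Bool.rec (fun _ => Nat) (finTab_s_5_7 c) (finTab_s_7_10 c) (Nat.ble 7 c)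
noncomputable def finTab_s_0_10 (c : Nat) : Nat := @Bool.rec (fun _ => Nat) (finTab_s_0_5 c) (finTab_s_5_10 c) (Nat.ble 5 c)
noncomputable def finTab_s_10_12 (c : Nat) : Nat := @Bool.rec (fun _ => Nat) (finTab_10) (finTab_11) (Nat.ble 11 c)
noncomputable def finTab_s_13_15 (c : Nat) : Nat := @Bool.rec (fun _ => Nat) (finTab_13) (finTab_14) (Nat.ble 14 c)
noncomputable def finTab_s_12_15 (c : Nat) : Nat := @Bool.rec (fun _ => Nat) (finTab_12) (finTab_s_13_15 c) (Nat.ble 13 c)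
noncomputable def finTab_s_10_15 (c : Nat) : Nat := @Bool.rec (fun _ => Nat) (finTab_s_10_12 c) (finTab_s_12_15 c) (Nat.ble 12 c)
noncomputable def finTab_s_16_18 (c : Nat) : Nat := @Bool.rec (fun _ => Nat) (finTab_16) (finTab_17) (Nat.ble 17 c)
noncomputable def finTab_s_15_18 (c : Nat) : Nat := @Bool.rec (fun _ => Nat) (finTab_15) (finTab_s_16_18 c) (Nat.ble 16 c)
noncomputable def finTab_s_19_21 (c : Nat) : Nat := @Bool.rec (fun _ => Nat) (finTab_19) (finTab_20) (Nat.ble 20 c)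
noncomputable def finTab_s_18_21 (c : Nat) : Nat := @Bool.rec (fun _ => Nat) (finTab_18) (finTab_s_19_21 c) (Nat.ble 19 c)
noncomputable def finTab_s_15_21 (c : Nat) : Nat := @Bool.rec (fun _ => Nat) (finTab_s_15_18 c) (finTab_s_18_21 c) (Nat.ble 18 c)
noncomputable def finTab_s_10_21 (c : Nat) : Nat := @Bool.rec (fun _ => Nat) (finTab_s_10_15 c) (finTab_s_15_21 c) (Nat.ble 15 c)
noncomputable def finTab_s_0_21 (c : Nat) : Nat := @Bool.rec (fun _ => Nat) (finTab_s_0_10 c) (finTab_s_10_21 c) (Nat.ble 10 c)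
noncomputable def finTab_s_21_23 (c : Nat) : Nat := @Bool.rec (fun _ => Nat) (finTab_21) (finTab_22) (Nat.ble 22 c)
noncomputable def finTab_s_24_26 (c : Nat) : Nat := @Bool.rec (fun _ => Nat) (finTab_24) (finTab_25) (Nat.ble 25 c)
noncomputable def finTab_s_23_26 (c : Nat) : Nat := @Bool.rec (fun _ => Nat) (finTab_23) (finTab_s_24_26 c) (Nat.ble 24 c)
noncomputable def finTab_s_21_26 (c : Nat) : Nat := @Bool.rec (fun _ => Nat) (finTab_s_21_23 c) (finTab_s_23_26 c) (Nat.ble 23 c)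
noncomputable def finTab_s_27_29 (c : Nat) : Nat := @Bool.rec (fun _ => Nat) (finTab_27) (finTab_28) (Nat.ble 28 c)
noncomputable def finTab_s_26_29 (c : Nat) : Nat := @Bool.rec (fun _ => Nat) (finTab_26) (finTab_s_27_29 c) (Nat.ble 27 c)
noncomputable def finTab_s_30_32 (c : Nat) : Nat := @Bool.rec (fun _ => Nat) (finTab_30) (finTab_31) (Nat.ble 31 c)
noncomputable def finTab_s_29_32 (c : Nat) : Nat := @Bool.rec (fun _ => Nat) (finTab_29) (finTab_s_30_32 c) (Nat.ble 30 c)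
noncomputable def finTab_s_26_32 (c : Nat) : Nat := @Bool.rec (fun _ => Nat) (finTab_s_26_29 c) (finTab_s_29_32 c) (Nat.ble 29 c)
noncomputable def finTab_s_21_32 (c : Nat) : Nat := @Bool.rec (fun _ => Nat) (finTab_s_21_26 c) (finTab_s_26_32 c) (Nat.ble 26 c)
noncomputable def finTab_s_32_34 (c : Nat) : Nat := @Bool.rec (fun _ => Nat) (finTab_32) (finTab_33) (Nat.ble 33 c)
noncomputable def finTab_s_35_37 (c : Nat) : Nat := @Bool.rec (fun _ => Nat) (finTab_35) (finTab_36) (Nat.ble 36 c)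
noncomputable def finTab_s_34_37 (c : Nat) : Nat := @Bool.rec (fun _ => Nat) (finTab_34) (finTab_s_35_37 c) (Nat.ble 35 c)
noncomputable def finTab_s_32_37 (c : Nat) : Nat := @Bool.rec (fun _ => Nat) (finTab_s_32_34 c) (finTab_s_34_37 c) (Nat.ble 34 c)
noncomputable def finTab_s_38_40 (c : Nat) : Nat := @Bool.rec (fun _ => Nat) (finTab_38) (finTab_39) (Nat.ble 39 c)
noncomputable def finTab_s_37_40 (c : Nat) : Nat := @Bool.rec (fun _ => Nat) (finTab_37) (finTab_s_38_40 c) (Nat.ble 38 c)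
noncomputable def finTab_s_41_43 (c : Nat) : Nat := @Bool.rec (fun _ => Nat) (finTab_41) (finTab_42) (Nat.ble 42 c)
noncomputable def finTab_s_40_43 (c : Nat) : Nat := @Bool.rec (fun _ => Nat) (finTab_40) (finTab_s_41_43 c) (Nat.ble 41 c)
noncomputable def finTab_s_37_43 (c : Nat) : Nat := @Bool.rec (fun _ => Nat) (finTab_s_37_40 c) (finTab_s_40_43 c) (Nat.ble 40 c)
noncomputable def finTab_s_32_43 (c : Nat) : Nat := @Bool.rec (fun _ => Nat) (finTab_s_32_37 c) (finTab_s_37_43 c) (Nat.ble 37 c)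
noncomputable def finTab_s_21_43 (c : Nat) : Nat := @Bool.rec (fun _ => Nat) (finTab_s_21_32 c) (finTab_s_32_43 c) (Nat.ble 32 c)
noncomputable def finTab_s_0_43 (c : Nat) : Nat := @Bool.rec (fun _ => Nat) (finTab_s_0_21 c) (finTab_s_21_43 c) (Nat.ble 21 c)
noncomputable def finTab_s_43_45 (c : Nat) : Nat := @Bool.rec (fun _ => Nat) (finTab_43) (finTab_44) (Nat.ble 44 c)
noncomputable def finTab_s_46_48 (c : Nat) : Nat := @Bool.rec (fun _ => Nat) (finTab_46) (finTab_47) (Nat.ble 47 c)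
noncomputable def finTab_s_45_48 (c : Nat) : Nat := @Bool.rec (fun _ => Nat) (finTab_45) (finTab_s_46_48 c) (Nat.ble 46 c)
noncomputable def finTab_s_43_48 (c : Nat) : Nat := @Bool.rec (fun _ => Nat) (finTab_s_43_45 c) (finTab_s_45_48 c) (Nat.ble 45 c)
noncomputable def finTab_s_48_50 (c : Nat) : Nat := @Bool.rec (fun _ => Nat) (finTab_48) (finTab_49) (Nat.ble 49 c)
noncomputable def finTab_s_51_53 (c : Nat) : Nat := @Bool.rec (fun _ => Nat) (finTab_51) (finTab_52) (Nat.ble 52 c)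
noncomputable def finTab_s_50_53 (c : Nat) : Nat := @Bool.rec (fun _ => Nat) (finTab_50) (finTab_s_51_53 c) (Nat.ble 51 c)
noncomputable def finTab_s_48_53 (c : Nat) : Nat := @Bool.rec (fun _ => Nat) (finTab_s_48_50 c) (finTab_s_50_53 c) (Nat.ble 50 c)
noncomputable def finTab_s_43_53 (c : Nat) : Nat := @Bool.rec (fun _ => Nat) (finTab_s_43_48 c) (finTab_s_48_53 c) (Nat.ble 48 c)
noncomputable def finTab_s_53_55 (c : Nat) : Nat := @Bool.rec (fun _ => Nat) (finTab_53) (finTab_54) (Nat.ble 54 c)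
noncomputable def finTab_s_56_58 (c : Nat) : Nat := @Bool.rec (fun _ => Nat) (finTab_56) (finTab_57) (Nat.ble 57 c)
noncomputable def finTab_s_55_58 (c : Nat) : Nat := @Bool.rec (fun _ => Nat) (finTab_55) (finTab_s_56_58 c) (Nat.ble 56 c)
noncomputable def finTab_s_53_58 (c : Nat) : Nat := @Bool.rec (fun _ => Nat) (finTab_s_53_55 c) (finTab_s_55_58 c) (Nat.ble 55 c)
noncomputable def finTab_s_59_61 (c : Nat) : Nat := @Bool.rec (fun _ => Nat) (finTab_59) (finTab_60) (Nat.ble 60 c)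
noncomputable def finTab_s_58_61 (c : Nat) : Nat := @Bool.rec (fun _ => Nat) (finTab_58) (finTab_s_59_61 c) (Nat.ble 59 c)
noncomputable def finTab_s_62_64 (c : Nat) : Nat := @Bool.rec (fun _ => Nat) (finTab_62) (finTab_63) (Nat.ble 63 c)
noncomputable def finTab_s_61_64 (c : Nat) : Nat := @Bool.rec (fun _ => Nat) (finTab_61) (finTab_s_62_64 c) (Nat.ble 62 c)
noncomputable def finTab_s_58_64 (c : Nat) : Nat := @Bool.rec (fun _ => Nat) (finTab_s_58_61 c) (finTab_s_61_64 c) (Nat.ble 61 c)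
noncomputable def finTab_s_53_64 (c : Nat) : Nat := @Bool.rec (fun _ => Nat) (finTab_s_53_58 c) (finTab_s_58_64 c) (Nat.ble 58 c)
noncomputable def finTab_s_43_64 (c : Nat) : Nat := @Bool.rec (fun _ => Nat) (finTab_s_43_53 c) (finTab_s_53_64 c) (Nat.ble 53 c)
noncomputable def finTab_s_64_66 (c : Nat) : Nat := @Bool.rec (fun _ => Nat) (finTab_64) (finTab_65) (Nat.ble 65 c)
noncomputable def finTab_s_67_69 (c : Nat) : Nat := @Bool.rec (fun _ => Nat) (finTab_67) (finTab_68) (Nat.ble 68 c)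
noncomputable def finTab_s_66_69 (c : Nat) : Nat := @Bool.rec (fun _ => Nat) (finTab_66) (finTab_s_67_69 c) (Nat.ble 67 c)
noncomputable def finTab_s_64_69 (c : Nat) : Nat := @Bool.rec (fun _ => Nat) (finTab_s_64_66 c) (finTab_s_66_69 c) (Nat.ble 66 c)
noncomputable def finTab_s_70_72 (c : Nat) : Nat := @Bool.rec (fun _ => Nat) (finTab_70) (finTab_71) (Nat.ble 71 c)
noncomputable def finTab_s_69_72 (c : Nat) : Nat := @Bool.rec (fun _ => Nat) (finTab_69) (finTab_s_70_72 c) (Nat.ble 70 c)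
noncomputable def finTab_s_73_75 (c : Nat) : Nat := @Bool.rec (fun _ => Nat) (finTab_73) (finTab_74) (Nat.ble 74 c)
noncomputable def finTab_s_72_75 (c : Nat) : Nat := @Bool.rec (fun _ => Nat) (finTab_72) (finTab_s_73_75 c) (Nat.ble 73 c)
noncomputable def finTab_s_69_75 (c : Nat) : Nat := @Bool.rec (fun _ => Nat) (finTab_s_69_72 c) (finTab_s_72_75 c) (Nat.ble 72 c)
noncomputable def finTab_s_64_75 (c : Nat) : Nat := @Bool.rec (fun _ => Nat) (finTab_s_64_69 c) (finTab_s_69_75 c) (Nat.ble 69 c)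
noncomputable def finTab_s_75_77 (c : Nat) : Nat := @Bool.rec (fun _ => Nat) (finTab_75) (finTab_76) (Nat.ble 76 c)
noncomputable def finTab_s_78_80 (c : Nat) : Nat := @Bool.rec (fun _ => Nat) (finTab_78) (finTab_79) (Nat.ble 79 c)
noncomputable def finTab_s_77_80 (c : Nat) : Nat := @Bool.rec (fun _ => Nat) (finTab_77) (finTab_s_78_80 c) (Nat.ble 78 c)
noncomputable def finTab_s_75_80 (c : Nat) : Nat := @Bool.rec (fun _ => Nat) (finTab_s_75_77 c) (finTab_s_77_80 c) (Nat.ble 77 c)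
noncomputable def finTab_s_81_83 (c : Nat) : Nat := @Bool.rec (fun _ => Nat) (finTab_81) (finTab_82) (Nat.ble 82 c)
noncomputable def finTab_s_80_83 (c : Nat) : Nat := @Bool.rec (fun _ => Nat) (finTab_80) (finTab_s_81_83 c) (Nat.ble 81 c)
noncomputable def finTab_s_84_86 (c : Nat) : Nat := @Bool.rec (fun _ => Nat) (finTab_84) (finTab_85) (Nat.ble 85 c)
noncomputable def finTab_s_83_86 (c : Nat) : Nat := @Bool.rec (fun _ => Nat) (finTab_83) (finTab_s_84_86 c) (Nat.ble 84 c)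
noncomputable def finTab_s_80_86 (c : Nat) : Nat := @Bool.rec (fun _ => Nat) (finTab_s_80_83 c) (finTab_s_83_86 c) (Nat.ble 83 c)
noncomputable def finTab_s_75_86 (c : Nat) : Nat := @Bool.rec (fun _ => Nat) (finTab_s_75_80 c) (finTab_s_80_86 c) (Nat.ble 80 c)
noncomputable def finTab_s_64_86 (c : Nat) : Nat := @Bool.rec (fun _ => Nat) (finTab_s_64_75 c) (finTab_s_75_86 c) (Nat.ble 75 c)
noncomputable def finTab_s_43_86 (c : Nat) : Nat := @Bool.rec (fun _ => Nat) (finTab_s_43_64 c) (finTab_s_64_86 c) (Nat.ble 64 c)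
noncomputable def finTab_s_0_86 (c : Nat) : Nat := @Bool.rec (fun _ => Nat) (finTab_s_0_43 c) (finTab_s_43_86 c) (Nat.ble 43 c)
noncomputable def finTab (i : Nat) : Nat := rdw 19 524287 (finTab_s_0_86 (Nat.shiftRight i 12)) (Nat.land i 4095)
noncomputable def clsTab_s_0_2 (c : Nat) : Nat := @Bool.rec (fun _ => Nat) (clsTab_0) (clsTab_1) (Nat.ble 1 c)
noncomputable def clsTab_s_3_5 (c : Nat) : Nat := @Bool.rec (fun _ => Nat) (clsTab_3) (clsTab_4) (Nat.ble 4 c)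
noncomputable def clsTab_s_2_5 (c : Nat) : Nat := @Bool.rec (fun _ => Nat) (clsTab_2) (clsTab_s_3_5 c) (Nat.ble 3 c)
noncomputable def clsTab_s_0_5 (c : Nat) : Nat := @Bool.rec (fun _ => Nat) (clsTab_s_0_2 c) (clsTab_s_2_5 c) (Nat.ble 2 c)
noncomputable def clsTab_s_6_8 (c : Nat) : Nat := @Bool.rec (fun _ => Nat) (clsTab_6) (clsTab_7) (Nat.ble 7 c)
noncomputable def clsTab_s_5_8 (c : Nat) : Nat := @Bool.rec (fun _ => Nat) (clsTab_5) (clsTab_s_6_8 c) (Nat.ble 6 c)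
noncomputable def clsTab_s_9_11 (c : Nat) : Nat := @Bool.rec (fun _ => Nat) (clsTab_9) (clsTab_10) (Nat.ble 10 c)
noncomputable def clsTab_s_8_11 (c : Nat) : Nat := @Bool.rec (fun _ => Nat) (clsTab_8) (clsTab_s_9_11 c) (Nat.ble 9 c)
noncomputable def clsTab_s_5_11 (c : Nat) : Nat := @Bool.rec (fun _ => Nat) (clsTab_s_5_8 c) (clsTab_s_8_11 c) (Nat.ble 8 c)
noncomputable def clsTab_s_0_11 (c : Nat) : Nat := @Bool.rec (fun _ => Nat) (clsTab_s_0_5 c) (clsTab_s_5_11 c) (Nat.ble 5 c)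
noncomputable def clsTab_s_12_14 (c : Nat) : Nat := @Bool.rec (fun _ => Nat) (clsTab_12) (clsTab_13) (Nat.ble 13 c)
noncomputable def clsTab_s_11_14 (c : Nat) : Nat := @Bool.rec (fun _ => Nat) (clsTab_11) (clsTab_s_12_14 c) (Nat.ble 12 c)
noncomputable def clsTab_s_15_17 (c : Nat) : Nat := @Bool.rec (fun _ => Nat) (clsTab_15) (clsTab_16) (Nat.ble 16 c)
noncomputable def clsTab_s_14_17 (c : Nat) : Nat := @Bool.rec (fun _ => Nat) (clsTab_14) (clsTab_s_15_17 c) (Nat.ble 15 c)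
noncomputable def clsTab_s_11_17 (c : Nat) : Nat := @Bool.rec (fun _ => Nat) (clsTab_s_11_14 c) (clsTab_s_14_17 c) (Nat.ble 14 c)
noncomputable def clsTab_s_18_20 (c : Nat) : Nat := @Bool.rec (fun _ => Nat) (clsTab_18) (clsTab_19) (Nat.ble 19 c)
noncomputable def clsTab_s_17_20 (c : Nat) : Nat := @Bool.rec (fun _ => Nat) (clsTab_17) (clsTab_s_18_20 c) (Nat.ble 18 c)
noncomputable def clsTab_s_21_23 (c : Nat) : Nat := @Bool.rec (fun _ => Nat) (clsTab_21) (clsTab_22) (Nat.ble 22 c)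
noncomputable def clsTab_s_20_23 (c : Nat) : Nat := @Bool.rec (fun _ => Nat) (clsTab_20) (clsTab_s_21_23 c) (Nat.ble 21 c)
noncomputable def clsTab_s_17_23 (c : Nat) : Nat := @Bool.rec (fun _ => Nat) (clsTab_s_17_20 c) (clsTab_s_20_23 c) (Nat.ble 20 c)
noncomputable def clsTab_s_11_23 (c : Nat) : Nat := @Bool.rec (fun _ => Nat) (clsTab_s_11_17 c) (clsTab_s_17_23 c) (Nat.ble 17 c)
noncomputable def clsTab_s_0_23 (c : Nat) : Nat := @Bool.rec (fun _ => Nat) (clsTab_s_0_11 c) (clsTab_s_11_23 c) (Nat.ble 11 c)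
noncomputable def clsTab (i : Nat) : Nat := rdw 17 131071 (clsTab_s_0_23 (Nat.shiftRight i 12)) (Nat.land i 4095)
noncomputable def srcF (t : Nat) : Nat := Nat.land (Atab t) 131071
noncomputable def tgtF (t : Nat) : Nat := Nat.land (Nat.shiftRight (Atab t) 17) 131071
noncomputable def ltF (t : Nat) : Nat := Nat.shiftRight (Atab t) 34
noncomputable def rhoF (t : Nat) : Nat := Nat.land (Btab (Nat.sub t 90640)) 31
noncomputable def rotF (t : Nat) : Nat := Nat.land (Nat.shiftRight (Btab (Nat.sub t 90640)) 5) 127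
noncomputable def lenF (t : Nat) : Nat := Nat.land (Nat.shiftRight (Btab (Nat.sub t 90640)) 12) 127
noncomputable def offF (t : Nat) : Nat := Nat.shiftRight (Btab (Nat.sub t 90640)) 19
noncomputable def pfF (j : Nat) : Nat := Nat.shiftRight (Ptab j) 1
noncomputable def pdF (j : Nat) : Nat := Nat.land (Ptab j) 1
noncomputable def tblF (i x : Nat) : Nat := @Bool.rec (fun _ => Nat) (@Bool.rec (fun _ => Nat) (col0 i) (col1 i) (Nat.ble 1 x)) (@Bool.rec (fun _ => Nat) (col2 i) (col3 i) (Nat.ble 3 x)) (Nat.ble 2 x)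
noncomputable def finE (i x : Nat) : Nat := finTab (Nat.add (Nat.mul i 4) x)
noncomputable def finFF (i x : Nat) : Nat := Nat.shiftRight (finE i x) 1
noncomputable def finDF (i x : Nat) : Nat := Nat.land (finE i x) 1

def invLoc : ℕ → ℕ
  | 0 => 1
  | 1 => 0
  | 2 => 3
  | 3 => 2
  | l => l
def emb : List Nat := [0, 1, 2, 3]
noncomputable def D : Log :=
  { k := 4, inv := invE 4 invLoc, nR := 20, rBase := rBtab, rLen := rLtab, RR := RRtab,
    M := 90638, nB := 2, F := 186165, src := srcF, lt := ltF, tgt := tgtF, rho := rhoF, rot := rotF,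
    off := offF, len := lenF, pf := pfF, pd := pdF }

noncomputable def T : Tab :=
  { N := 87780, nameOf := nameTab, tbl := tblF, finF := finFF, finD := finDF, cls := clsTab }

def subs : List (List Nat) := [
[0] ]

def realLoc : List (List Nat) := [
  [0, 0],
  [2, 2, 2],
  [0, 2, 0, 2, 0, 2, 0, 2, 0, 2, 0, 2, 0, 2],
  [0, 2, 0, 2, 0, 3, 0, 2, 0, 3, 0, 2, 0, 3, 0, 2, 0, 2, 0, 3, 0, 2, 0, 3, 0, 2, 0, 3, 0, 2, 0, 2, 0, 3, 0, 2, 0, 3, 0, 2, 0, 3, 0, 2, 0, 2, 0, 3, 0, 2, 0, 3, 0, 2, 0, 3, 0, 2, 0, 2, 0, 3, 0, 2, 0, 3, 0, 2, 0, 3],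
  [0, 2, 0, 2, 0, 3, 0, 2, 0, 3, 0, 2, 0, 3, 0, 2, 0, 3, 0, 2, 0, 3, 0, 2, 0, 3, 0, 2, 0, 2, 0, 3, 0, 3, 0, 2, 0, 2, 0, 3, 0, 2, 0, 3, 0, 2, 0, 3, 0, 2, 0, 3, 0, 2, 0, 3, 0, 2, 0, 3, 0, 2, 0, 2, 0, 3, 0, 3] ]

end Cfsg.Agent.Lib.Helper4.TCD.J1pU1
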