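import Cfsg.Agent.Lib.Helper4.TCD_J1pU1_Acc

namespace Cfsg.Agent.Lib.Helper4.TCD.J1pU1

open Cfsg.Agent.Lib.Helper4.TC

set_option maxRecDepth 100000
set_option Elab.async false

theorem c_zero : D.zeroOK = true := by decide +kernel
theorem c_base : allBelow D.baseOK 2 = true := by decide +kernel
theorem c_let : allBelow D.letOK 4 = true := by decide +kernel
theorem c_cls0 : T.cls 0 = 0 := by decide +kernel
theorem c_name0 : T.nameOf 0 = 0 := by decide +kernel
theorem c_tab : D.relTabOK 0 (baseRels 4 invLoc realLoc subs ++ (baseRels 4 invLoc realLoc subs).map (invWord D.inv)) = true := by decide +kernel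
theorem c_subs : subs.all (fun u => u.all (fun x => Nat.ble (Nat.succ x) 4)) = true := by decide +kernel
theorem c_names_0 : allRange D.nameOK 1 60000 = true := by decide +kernel
theorem c_names_1 : allRange D.nameOK 60001 30637 = true := by decide +kernel
theorem c_cls_0 : allRange (T.clsOK D) 1 15000 = true := by decide +kernel
theorem c_cls_1 : allRange (T.clsOK D) 15001 15000 = true := by decide +kernel
theorem c_cls_2 : allRange (T.clsOK D) 30001 15000 = true := by decide +kernel
theorem c_cls_3 : allRange (T.clsOK D) 45001 15000 = true := by decide +kernel
theorem c_cls_4 : allRange (T.clsOK D) 60001 15000 = true := by decide +kernel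
theorem c_cls_5 : allRange (T.clsOK D) 75001 15000 = true := by decide +kernel
theorem c_cls_6 : allRange (T.clsOK D) 90001 637 = true := by decide +kernel
theorem c_rep_0 : allRange (T.repOK D) 0 30000 = true := by decide +kernel
theorem c_rep_1 : allRange (T.repOK D) 30000 30000 = true := by decide +kernel
theorem c_rep_2 : allRange (T.repOK D) 60000 27780 = true := by decide +kernel
theorem c_rel_0 : allRange D.relOK 90640 4446 = true := by decide +kernel
theorem c_rel_1 : allRange D.relOK 95086 4476 = true := by decide +kernel
theorem c_rel_2 : allRange D.relOK 99562 4554 = true := by decide +kernel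
theorem c_rel_3 : allRange D.relOK 104116 3397 = true := by decide +kernel
theorem c_rel_4 : allRange D.relOK 107513 3757 = true := by decide +kernel
theorem c_rel_5 : allRange D.relOK 111270 2908 = true := by decide +kernel
theorem c_rel_6 : allRange D.relOK 114178 4151 = true := by decide +kernel
theorem c_rel_7 : allRange D.relOK 118329 3315 = true := by decide +kernel
theorem c_rel_8 : allRange D.relOK 121644 2830 = true := by decide +kernel
theorem c_rel_9 : allRange D.relOK 124474 2150 = true := by decide +kernel
theorem c_rel_10 : allRange D.relOK 126624 4595 = true := by decide +kernel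
theorem c_rel_11 : allRange D.relOK 131219 3671 = true := by decide +kernel
theorem c_rel_12 : allRange D.relOK 134890 2516 = true := by decide +kernel
theorem c_rel_13 : allRange D.relOK 137406 850 = true := by decide +kernel
theorem c_rel_14 : allRange D.relOK 138256 730 = true := by decide +kernel
theorem c_rel_15 : allRange D.relOK 138986 672 = true := by decide +kernel
theorem c_rel_16 : allRange D.relOK 139658 1103 = true := by decide +kernel
theorem c_rel_17 : allRange D.relOK 140761 1682 = true := by decide +kernel
theorem c_rel_18 : allRange D.relOK 142443 1371 = true := by decide +kernel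
theorem c_rel_19 : allRange D.relOK 143814 1259 = true := by decide +kernel
theorem c_rel_20 : allRange D.relOK 145073 3068 = true := by decide +kernel
theorem c_rel_21 : allRange D.relOK 148141 1904 = true := by decide +kernel
theorem c_rel_22 : allRange D.relOK 150045 1468 = true := by decide +kernel
theorem c_rel_23 : allRange D.relOK 151513 1864 = true := by decide +kernel
theorem c_rel_24 : allRange D.relOK 153377 1370 = true := by decide +kernel
theorem c_rel_25 : allRange D.relOK 154747 1177 = true := by decide +kernel
theorem c_rel_26 : allRange D.relOK 155924 966 = true := by decide +kernel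
theorem c_rel_27 : allRange D.relOK 156890 962 = true := by decide +kernel
theorem c_rel_28 : allRange D.relOK 157852 775 = true := by decide +kernel
theorem c_rel_29 : allRange D.relOK 158627 888 = true := by decide +kernel
theorem c_rel_30 : allRange D.relOK 159515 1627 = true := by decide +kernel
theorem c_rel_31 : allRange D.relOK 161142 1667 = true := by decide +kernel
theorem c_rel_32 : allRange D.relOK 162809 1223 = true := by decide +kernel
theorem c_rel_33 : allRange D.relOK 164032 1057 = true := by decide +kernel
theorem c_rel_34 : allRange D.relOK 165089 884 = true := by decide +kernel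
theorem c_rel_35 : allRange D.relOK 165973 1305 = true := by decide +kernel
theorem c_rel_36 : allRange D.relOK 167278 1180 = true := by decide +kernel
theorem c_rel_37 : allRange D.relOK 168458 991 = true := by decide +kernel
theorem c_rel_38 : allRange D.relOK 169449 755 = true := by decide +kernel
theorem c_rel_39 : allRange D.relOK 170204 746 = true := by decide +kernel
theorem c_rel_40 : allRange D.relOK 170950 611 = true := by decide +kernel
theorem c_rel_41 : allRange D.relOK 171561 631 = true := by decide +kernel
theorem c_rel_42 : allRange D.relOK 172192 1662 = true := by decide +kernel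
theorem c_rel_43 : allRange D.relOK 173854 1000 = true := by decide +kernel
theorem c_rel_44 : allRange D.relOK 174854 825 = true := by decide +kernel
theorem c_rel_45 : allRange D.relOK 175679 952 = true := by decide +kernel
theorem c_rel_46 : allRange D.relOK 176631 772 = true := by decide +kernel
theorem c_rel_47 : allRange D.relOK 177403 590 = true := by decide +kernel
theorem c_rel_48 : allRange D.relOK 177993 552 = true := by decide +kernel
theorem c_rel_49 : allRange D.relOK 178545 494 = true := by decide +kernel
theorem c_rel_50 : allRange D.relOK 179039 761 = true := by decide +kernel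
theorem c_rel_51 : allRange D.relOK 179800 727 = true := by decide +kernel
theorem c_rel_52 : allRange D.relOK 180527 563 = true := by decide +kernel
theorem c_rel_53 : allRange D.relOK 181090 3584 = true := by decide +kernel
theorem c_rel_54 : allRange D.relOK 184674 1491 = true := by decide +kernel
theorem c_fin_0 : allGrid (T.finOK D) 0 3000 4 = true := by decide +kernel
theorem c_fin_1 : allGrid (T.finOK D) 3000 3000 4 = true := by decide +kernel
theorem c_fin_2 : allGrid (T.finOK D) 6000 3000 4 = true := by decide +kernel
theorem c_fin_3 : allGrid (T.finOK D) 9000 3000 4 = true := by decide +kernel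
theorem c_fin_4 : allGrid (T.finOK D) 12000 3000 4 = true := by decide +kernel
theorem c_fin_5 : allGrid (T.finOK D) 15000 3000 4 = true := by decide +kernel
theorem c_fin_6 : allGrid (T.finOK D) 18000 3000 4 = true := by decide +kernel
theorem c_fin_7 : allGrid (T.finOK D) 21000 3000 4 = true := by decide +kernel
theorem c_fin_8 : allGrid (T.finOK D) 24000 3000 4 = true := by decide +kernel
theorem c_fin_9 : allGrid (T.finOK D) 27000 3000 4 = true := by decide +kernel
theorem c_fin_10 : allGrid (T.finOK D) 30000 3000 4 = true := by decide +kernel
theorem c_fin_11 : allGrid (T.finOK D) 33000 3000 4 = true := by decide +kernel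

end Cfsg.Agent.Lib.Helper4.TCD.J1pU1
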