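namespace Cfsg.Agent.Lib.Helper4.TCD.J1pX5

noncomputable def Atab_0 : Nat := nat_lit 0x3001000400000400a007045800c01216f09184440b60710ac80ac1c20ad0dd16ec1a614f31c845c8ee21f1b48c9c86967ab7c15e0a6c4f425977c3ad9ce81900b78539b1a0a9044019c08cc85621800476c3951ba0d4c664f11578bb41560e8f537a93845a20c0f58729b509886b3b51824a10407183099428816302100041000
noncomputable def Btab_0 : Nat := nat_lit 0xa22009a020089e20079c20069750299340298e50288950268540268230297f30287c30297930287540267140266e30296b302868302659f1205810215530265230284f30294c302649302646302943302840302632e12025d0e018d02317102116102115102114102112202c10202c0e202c0d10210c10210b102109202c08102107102106102105102103202c01202c001021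
noncomputable def Ptab_0 : Nat := nat_lit 0x940405958e02038f900a8f0793068c088f8a2e898d05028c86478d8822853d56830b3183091981414b810a70387f03507d7449547b042d7b3e7679433a555e7130224b502d766332241c143a127245176f40616d314e6b4736692327671853674a5a655134261e160e3f42154c2558623a2c3a2c20181008020542154c2558382a20181008020744174e295c38363432302f2c2b2827201e1c1a1912100e0c0a09060502
noncomputable def RRtab_0 : Nat := nat_lit 0x4d369a0412082cb28b28b28b28b28b28b2ca28b2ca2ca2ca2ca2ca2ca2cb28a2cb28b28b28b28b28b28b2ca28b2ca2ca2ca2ca2ca2ca2cb28a2cb28b28b28b2ca2ca2ca2cb28b28b28b2ca2ca2ca2cb28b28b28b2ca2ca2ca2cb28b28b28b2ca2ca2ca2cb28b28b28b2ca2ca2ca2cb2cb2cb2cb2cb2cb2cb6db6c924b2ca2ca2ca2cb28b28b2934da681048218610418418418418418418410618410610610610610610610418610418418418418418418410618410610610610610610610418418418410610610610418418418410610610610418418418410610610610418418418410610610610418418418410610610610410410410410410410410412492000610610610418418418410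
noncomputable def rBtab_0 : Nat := nat_lit 0xb22c4b02bc8d1a863186609665895e56956338420982007000
noncomputable def rLtab_0 : Nat := nat_lit 0x40810289187030438102040a2461c0c10e
noncomputable def nameTab_0 : Nat := nat_lit 0x0
noncomputable def col0_0 : Nat := nat_lit 0x0
noncomputable def col1_0 : Nat := nat_lit 0x0
noncomputable def col2_0 : Nat := nat_lit 0x0
noncomputable def col3_0 : Nat := nat_lit 0x0
noncomputable def finTab_0 : Nat := nat_lit 0x9c9a9896
noncomputable def clsTab_0 : Nat := nat_lit 0x0

end Cfsg.Agent.Lib.Helper4.TCD.J1pX5
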