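namespace Cfsg.Agent.Lib.Helper4.TCD.J1pX7

noncomputable def Atab_0 : Nat := nat_lit 0x1882022a0a450
noncomputable def Btab_0 : Nat := nat_lit 0xc8026a0088801da0063c0089020140841020
noncomputable def Ptab_0 : Nat := nat_lit 0x1484ad421ad0441842
noncomputable def RRtab_0 : Nat := nat_lit 0x4d369a0412082cb28b28b28b28b28b28b2ca28b2ca2ca2ca2ca2ca2ca2cb28a2cb28b28b28b28b28b28b2ca28b2ca2ca2ca2ca2ca2ca2cb28a2cb28b28b28b2ca2ca2ca2cb28b28b28b2ca2ca2ca2cb28b28b28b2ca2ca2ca2cb28b28b28b2ca2ca2ca2cb28b28b28b2ca2ca2ca2cb2cb2cb2cb2cb2cb2cb6db6c924b2d34da681048218610418418418418418418410618410610610610610610610418610418418418418418418410618410610610610610610610418418418410610610610418418418410610610610418418418410610610610418418418410610610610418418418410610610610410410410410410410410412492000410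
noncomputable def rBtab_0 : Nat := nat_lit 0xa6294a428c81178571565494e529465093e2d82a0380801000
noncomputable def rLtab_0 : Nat := nat_lit 0x40810289187030408102040a2461c0c102
noncomputable def nameTab_0 : Nat := nat_lit 0x0
noncomputable def col0_0 : Nat := nat_lit 0x0
noncomputable def col1_0 : Nat := nat_lit 0x0
noncomputable def col2_0 : Nat := nat_lit 0x0
noncomputable def col3_0 : Nat := nat_lit 0x0
noncomputable def finTab_0 : Nat := nat_lit 0x941cc
noncomputable def clsTab_0 : Nat := nat_lit 0x0

end Cfsg.Agent.Lib.Helper4.TCD.J1pX7
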