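import Cfsg.Agent.Lib.Helper4.TCD_J2pB_Acc

namespace Cfsg.Agent.Lib.Helper4.TCD.J2pB

open Cfsg.Agent.Lib.Helper4.TC

set_option maxRecDepth 100000
set_option Elab.async false

theorem c_zero : D.zeroOK = true := by decide +kernel
theorem c_base : allBelow D.baseOK 16 = true := by decide +kernel
theorem c_let : allBelow D.letOK 6 = true := by decide +kernel
theorem c_cls0 : T.cls 0 = 0 := by decide +kernel
theorem c_name0 : T.nameOf 0 = 0 := by decide +kernel
theorem c_tab : D.relTabOK 0 (baseRels 6 PJ2p.invR PJ2p.P.real subs ++ (baseRels 6 PJ2p.invR PJ2p.P.real subs).map (invWord D.inv)) = true := by decide +kernel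
theorem c_real : PJ2p.P.real = realLit := by decide +kernel
theorem c_subfix : subs.all (fun u => Nat.beq (Tab.act T D u 0) 0) = true := by decide +kernel
theorem c_subs : subs.all (fun u => u.all (fun x => Nat.ble (Nat.succ x) 6)) = true := by decide +kernel
theorem c_names_0 : allRange D.nameOK 1 439 = true := by decide +kernel
theorem c_cls_0 : allRange (T.clsOK D) 1 439 = true := by decide +kernel
theorem c_rep_0 : allRange (T.repOK D) 0 315 = true := by decide +kernel
theorem c_rel_0 : allRange D.relOK 456 1011 = true := by decide +kernel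
theorem c_fin_0 : allGrid (T.finOK D) 0 315 6 = true := by decide +kernel
theorem c_perm_0 : allGrid (T.permOK1 D) 0 315 6 = true := by decide +kernel
theorem c_act0_0 : allRange (fun i => Nat.beq (actR0 i) i) 0 315 = true := by decide +kernel
theorem c_act1_0 : allRange (fun i => Nat.beq (actR1 i) i) 0 315 = true := by decide +kernel
theorem c_act2_0 : allRange (fun i => Nat.beq (actR2 i) i) 0 315 = true := by decide +kernel
theorem c_act3_0 : allRange (fun i => Nat.beq (actR3 i) i) 0 315 = true := by decide +kernel
theorem c_act4_0 : allRange (fun i => Nat.beq (actR4 i) i) 0 315 = true := by decide +kernel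
theorem c_act5_0 : allRange (fun i => Nat.beq (actR5 i) i) 0 315 = true := by decide +kernel
theorem c_act6_0 : allRange (fun i => Nat.beq (actR6 i) i) 0 315 = true := by decide +kernel
theorem c_oinv0_0 : allRange (Tab.orbInvOK T D subs 1 11) 1 10 = true := by decide +kernel
theorem c_otree0_0 : allRange (Tab.orbTreeOK T D subs oparTab olabTab 1) 2 9 = true := by decide +kernel
theorem c_oinv1_0 : allRange (Tab.orbInvOK T D subs 11 43) 11 32 = true := by decide +kernel
theorem c_otree1_0 : allRange (Tab.orbTreeOK T D subs oparTab olabTab 11) 12 31 = true := by decide +kernel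
theorem c_oinv2_0 : allRange (Tab.orbInvOK T D subs 43 75) 43 32 = true := by decide +kernel
theorem c_otree2_0 : allRange (Tab.orbTreeOK T D subs oparTab olabTab 43) 44 31 = true := by decide +kernel
theorem c_oinv3_0 : allRange (Tab.orbInvOK T D subs 75 155) 75 80 = true := by decide +kernel
theorem c_otree3_0 : allRange (Tab.orbTreeOK T D subs oparTab olabTab 75) 76 79 = true := by decide +kernel
theorem c_oinv4_0 : allRange (Tab.orbInvOK T D subs 155 315) 155 160 = true := by decide +kernel
theorem c_otree4_0 : allRange (Tab.orbTreeOK T D subs oparTab olabTab 155) 156 159 = true := by decide +kernel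

end Cfsg.Agent.Lib.Helper4.TCD.J2pB
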