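namespace Cfsg.Agent.Lib.Helper4.TCD.J2pL

noncomputable def st6_0 : Nat := nat_lit 0xc549e3dbf5175d68c96abb0fa7af80d5be09b068e3b34e54e70eed5560cf0de8ea93bf8d71d4863254d784e54436d152a6ad6d6449732804186841620280a0424c124365479c12145943e74c193c5c3911c4818d0c8d100
noncomputable def st7_0 : Nat := nat_lit 0x998e0d0bf02e3a55165d768ae25e958a6a5ab227a64f25b387eed72860ce753795b0618ce5947a2be95b8569bc3a976ca9b0f9ab17ab16980404d9c1e2c7142e8860d1480b10341841f2a1c22322789a1120c9240a64e80
noncomputable def st8_0 : Nat := nat_lit 0x4abdb634ca22b0acc53bf5741dd7bd7e3dbaae9e4dbaaa0d191865e2b50172d6939c4c9ef9ab3b9196587b2a1b78926139a8cacd3534b00634606a118281a336703902a485941c248a23a110082e14b1f0208f131e90c80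
noncomputable def st9_0 : Nat := nat_lit 0xc112325a54e5b7a10d4b4a96e7ab509a45676fa63c8ac9747a2daeaf62b64c2b0e99cdab3963d6185cbf70aad5cc506035af293deb37f182384100d101479a368c0a21624b940858898064d09f2a7890c329050e3a18380
noncomputable def st10_0 : Nat := nat_lit 0x7b230c6a2eeaa5855ec32636f12b711ea4c970d4ae4d2955db8b22a888feca7ad3d9d0a782d5e5eddb2d6105ce36af1a3abf026ce92fa90b38390213028b9e2450a990458f9a1834888083c493488cd86201c2a23a0c080
noncomputable def st11_0 : Nat := nat_lit 0x61570ba56e2447ace60d9b4feed17696fbc7ca14d09f293e2a5822c39d6d92a849b1aebcb18d36cd57ad7b62bb36f31a46a9266c4812ee0b14110212a701a31250c1f3a58c9a186c8871c8891348786900c2028f045c080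
noncomputable def st12_0 : Nat := nat_lit 0xa2d62be7b5dbdcb6ee4a7bd09b30734b1cc750d4d0592acaf4a9b0a89d595327f82faeb53e9b1bb571345701c5490f16cb67066c4b11a3a43c390a00c8ce9c2450808065839a186c899088849316286982a7c28f2e08080
noncomputable def levTab_0 : Nat := nat_lit 0x46d2240252
noncomputable def betaTab_0 : Nat := nat_lit 0x30404880
noncomputable def nodeTab_0 : Nat := nat_lit 0x1c005c00006a809d3600b9a000c00004a00a44041121207d40a3a600195640c2b025d5102ae01935840811003d58a1cc020c42145b00620c800ea4086400422a020c800040000154292331e8dc0f449c3a172810280e7d30a3cc4f1d7674e31406d90f34f0799581cc28145d9832ca45156c3ca38064db052400011401c83b063dc831cd818d521c616202d10a14c81892440420141d5070c8c505421c2310a0d88304e030192971c4478acb6c3212e0b8f6fd9517aa1bbb2d2dcaed2dc16b6ac29b3454d8a52abd9a15a862ab5d7d4b0a29c76b4a943a3192d0a5067d41b3aa1c9b4ed4cb8b25c40d2abca931084898963d86d1abda8b5044488921d26d0a1358341a40a129fd268fa0357b6973c8295dd158ea4b5735e438882dbc426d9a196b10c34a10d9d994caba8635a1b088557c36aba3a55b21aaca0a15d894aa21f531052884953c04a99a074ae01246c091a6028a18642d01a06c3cfc80a793813b0519c8c5cdb3446940132c41987608bc30859b8f2ad111462749c70a4a38b22e511042047bb1e3a3041adcc8c621c5b30429b87130020852043b904199020ac010444041a00208a000200000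
noncomputable def offTab_0 : Nat := nat_lit 0xa19d886400
noncomputable def nTab_0 : Nat := nat_lit 0x20855264
noncomputable def rootTab_0 : Nat := nat_lit 0x800

end Cfsg.Agent.Lib.Helper4.TCD.J2pL
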