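namespace Cfsg.Agent.Lib.Helper4.TCD.L216pA

noncomputable def Atab_0 : Nat := nat_lit 0x3451245113d1044f328e228e128e124d02cd134b338a238a038a0349445b43934298461c435444e1439242d54297415d43da445943504256411f465e4760085825e1259f245b23982293330b32cc03cc220f218d2109020720c720852040200180007000600050002857181727d617960755171326d11691064f260e15ce158d054d150b24ca048a1449040923c813872346030612c502852244120421c301832142110200c1108000404000
noncomputable def Btab_0 : Nat := nat_lit 0xee100fd8201ba8402f40804e6100fc8201b88402f00805de1009b8201768403ec0806d61009a820130e2b65f1424ac939952309698612d18c26a018493a30966481243c90c84184b004095f46123d0c2666a306a92229120661abcc2340842661084c82109884213008425e10ac81e2607c4830e08421a108430210829c6904084206108408210800828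
noncomputable def Ptab_0 : Nat := nat_lit 0x8e36378f357b7a348c268c638224762086282987628d278d258321776722570804034d050b15278d1c5510132339898b25838838631451044f070d19602987591960161538846c28802a427f27247e2e3b7d17416f7d156e402e1c53064d034d03070d1b762057080b347832703c752320742c6873133e3d71325c180c521d2f416f3a2a1a0c060205093c2c2b3b6e402e1c5510080403070d195d3340436c651c530d195d5b54530d1b2b3b301c0e0602055017615d1e541d2f6a423e3630265e5d5b1008044f024f070f5510080b17180c06024c02050911540e06020509115a1e1a120e06024b0509110e0a4c0247
noncomputable def RRtab_0 : Nat := nat_lit 0x113111181131111813613623233232010110101111131111131111131111131111131111131113031311130313111303131113031333331111111111111111111111111111111111700002007000020052052023233232010110102000002000002000002000002000002000002021200020212000202120002021200022220000000000000000000000000000000000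
noncomputable def rBtab_0 : Nat := nat_lit 0x8842a0d027f3e9acb659241007a3b1c8dc6a230984400
noncomputable def rLtab_0 : Nat := nat_lit 0x40c4210a50145031084294051
noncomputable def nameTab_0 : Nat := nat_lit 0x710a3cc14344838d24b182040
noncomputable def col0_0 : Nat := nat_lit 0x811d2d70caf810cb60141
noncomputable def col1_0 : Nat := nat_lit 0x742d83205b07152653c02
noncomputable def col2_0 : Nat := nat_lit 0xa29d041412d70dec32c01
noncomputable def col3_0 : Nat := nat_lit 0xa29d041412d70dec32c01
noncomputable def finTab_0 : Nat := nat_lit 0xf521c5457121009969415921f5a5da45e61195c0b501614530e070caaa8a6235b1e5511a2a09e1d1b589c9a13562290605f9817591a0d18510a08054f4c03064d4e0402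
noncomputable def clsTab_0 : Nat := nat_lit 0xeb7a56e4b52e7148639d2669ccc238a880d6f50820
noncomputable def oparTab_0 : Nat := nat_lit 0xd5a528398a520c6208400
noncomputable def olabTab_0 : Nat := nat_lit 0x10045040

end Cfsg.Agent.Lib.Helper4.TCD.L216pA
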