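namespace Cfsg.Agent.Lib.Helper4.TCD.L216pL

noncomputable def st4_0 : Nat := nat_lit 0xb681e38092509106628ee
noncomputable def st5_0 : Nat := nat_lit 0x3838aa3a12c110207ada6
noncomputable def st6_0 : Nat := nat_lit 0xf1b8281312a581a681ca4
noncomputable def st7_0 : Nat := nat_lit 0x14116d641277b86611540
noncomputable def st8_0 : Nat := nat_lit 0xa3998b6852f4104e28e00
noncomputable def st9_0 : Nat := nat_lit 0x5704e8789243418a6ac60
noncomputable def st10_0 : Nat := nat_lit 0x65bc651112c69e080a9c0
noncomputable def levTab_0 : Nat := nat_lit 0x2a9550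
noncomputable def betaTab_0 : Nat := nat_lit 0x409
noncomputable def nodeTab_0 : Nat := nat_lit 0x6010a98f680ea44de48ce42b5c0ae868e8a7a9c6a5c5a9046403a5020001a030a9af500e942d888cd8eb9c2aa8889027540698255804a423d4e248010000a8b091afe5ee412d81ac9dabd58a000989a8a5a784a64525c984a9a3a0a299a1c020
noncomputable def offTab_0 : Nat := nat_lit 0x21440
noncomputable def nTab_0 : Nat := nat_lit 0x3e11
noncomputable def rootTab_0 : Nat := nat_lit 0x9

end Cfsg.Agent.Lib.Helper4.TCD.L216pL
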