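namespace Cfsg.Agent.Lib.Helper4.TCD.L216pU2

noncomputable def Atab_0 : Nat := nat_lit 0x5f060e1ed5cc1ab58a1695481275060e54c40a3482061440020800
noncomputable def Btab_0 : Nat := nat_lit 0x100b
noncomputable def Ptab_0 : Nat := nat_lit 0x81c61440c2040c72cf4d76df
noncomputable def RRtab_0 : Nat := nat_lit 0x114455555555555555555114400000000000000000
noncomputable def rBtab_0 : Nat := nat_lit 0x284c5499100
noncomputable def rLtab_0 : Nat := nat_lit 0x4288851
noncomputable def nameTab_0 : Nat := nat_lit 0x107b9ac5a928398a418820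
noncomputable def col0_0 : Nat := nat_lit 0xe831ea6a166490e228061
noncomputable def col1_0 : Nat := nat_lit 0xf6c16e4b0ea2a06609002
noncomputable def finTab_0 : Nat := nat_lit 0x8a17e381d6de7195da6154d65113d240d2ce3091ca2050c6102
noncomputable def clsTab_0 : Nat := nat_lit 0x107b9ac5a928398a418820

end Cfsg.Agent.Lib.Helper4.TCD.L216pU2
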