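namespace Cfsg.Agent.Lib.Helper4.TCD.L216pX17

noncomputable def Atab_0 : Nat := nat_lit 0x6080800852d1411ca0240
noncomputable def Btab_0 : Nat := nat_lit 0xa820228080798201a408050e10342040004108800400
noncomputable def Ptab_0 : Nat := nat_lit 0x710af408693b4ed3b4ed3b56348d2348d23494ed3b4ed3b4ed59882
noncomputable def RRtab_0 : Nat := nat_lit 0x4d369a0412082492c924b2492c924b2492c924b24b0cb24b0cb24b0cb24b0cb6db2492492492492492492492492494d369a041208400010000400010000400010000411400411400411400411400492000000000000000000000000000
noncomputable def rBtab_0 : Nat := nat_lit 0xf4f0ece8c4a4a07e7c7874706c4828240200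
noncomputable def rLtab_0 : Nat := nat_lit 0x4210a50144221085280a21
noncomputable def nameTab_0 : Nat := nat_lit 0x0
noncomputable def col0_0 : Nat := nat_lit 0x0
noncomputable def col1_0 : Nat := nat_lit 0x0
noncomputable def col2_0 : Nat := nat_lit 0x0
noncomputable def col3_0 : Nat := nat_lit 0x0
noncomputable def finTab_0 : Nat := nat_lit 0xb5250
noncomputable def clsTab_0 : Nat := nat_lit 0x0

end Cfsg.Agent.Lib.Helper4.TCD.L216pX17
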