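namespace Cfsg.Agent.Lib.Helper4.TCD.L225pA

noncomputable def Atab_0 : Nat := nat_lit 0x3c302c3038e53723296328dc169a069a2454351124113450138e038e4416445545174c31471f496948e446ec46a244ed47ef4a6e48e846ea44e043d8439242594161412b2c700a7109703b2d092c1aa81a2a3a2909a7392506e30661062005df055d051c369b36193597351503d30392035102d0338f330d028c030a328b01492208010800c7008631053083000180007000600050000c690c253be32ba33b622b223ae13aa03a5f2a1f39de399d395c291c08db089a0859081807d707960755071436d326933652261235d125913550251004cf048e044d040b33c923893347230732c622860245020401c301823141210130c0208000404000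
noncomputable def Btab_0 : Nat := nat_lit 0x2901007a30401a861807a00601e7a18069d0601a7010059b04012681006990401e601006970401e58100595040124e1827920609a4218248f060923420278b0809a261824880609e1a182675464b5ce18277206099c218246f0609db618246c0609daa182669060919e18265ab47b12cf9234a8208128082049040ace6f98339020a8a6f8ad28840ac64f90318040ac5e082017020805a08201602080560820150208050102b13040ac48102b11040ac42082010020803e08200f0208038102b0d040ac320820090e1a420102b078208010386803820800c0820028208006102b00840ac000820
noncomputable def Ptab_0 : Nat := nat_lit 0xd6b4b5d7d2c65c5fc9d55dc7d3d4c85ecc4445cd8edbda8f2ddddc2cbc2425bd90d9288fd82e9ad59762d361c85ed048c65cd0a2accf47aecb375bcb35afada261b5b3c65ca1954559ada261b5b3c65ca1368d1e7b7111787770131d25bd84275ec4505cc4a6abc34754c13740bf2792bb1f33bb1d9eb91357b770569f328b8427354559ada261b5b3529b2e891a75060309117977604a3828207d80180e066c097678100802057217862b984da44e3c909a53b262605a59584434261e1271767810080205721580180e6f721580180e6f721786299649a8549d308b1c7b0a6d050d157f1875060309117877086d050d157f82232f3f5152514e3c2c22837e140c6e74197e140c046c0976781008020774197e7c862b984d4a494642403e3a38363532312e2d2a29262422201e1d1a197e140c046b077419161512100802676c0976100e0c0a09060502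
noncomputable def RRtab_0 : Nat := nat_lit 0x313121383131213813131216131312162323323201011010131313121313121213131312131312121313131213131212131313121313121213131313131313131313131313131313131313131313131313133333331111720302027203020250302020503020202323323201011010303020203020202030302020302020203030202030202020303020203020202020202020202020202020202020202020202020202020202020202222220000
noncomputable def rBtab_0 : Nat := nat_lit 0xa64f27134984b1d8b8592b93c8e45219047e1f0280800
noncomputable def rLtab_0 : Nat := nat_lit 0x20808208281a0c220808208281a0c2
noncomputable def nameTab_0 : Nat := nat_lit 0x6c895a14b26370e5301904cf28244730310d040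
noncomputable def col0_0 : Nat := nat_lit 0x24375a6cae5f08dd1452cad11126c1c01
noncomputable def col1_0 : Nat := nat_lit 0x24375a6cae5f08dd1452cad11126c1c01
noncomputable def col2_0 : Nat := nat_lit 0x1788e42d85e4a3b92fb4e8461440a9868
noncomputable def col3_0 : Nat := nat_lit 0x2d892c69546f363a87cc1a0788c8096a4
noncomputable def finTab_0 : Nat := nat_lit 0x9437a14679781176f44bb1603595ecea700b7b127c1787201e1c137af2f047a04aee39961d85e0de29e89738f8f661b016140d72e22821863634278c841f8d26157d817e056f730ce6e423881a180f7419837f806e07750e09717710821b89220a08036c06046d02
noncomputable def clsTab_0 : Nat := nat_lit 0x1ce8dd791e6f2496f295aab8d051cda6a7b0ef5c0ec54045a2678336a322020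
noncomputable def oparTab_0 : Nat := nat_lit 0x315a45ec62d4a4a507314a418c4208400
noncomputable def olabTab_0 : Nat := nat_lit 0x4151440114440

end Cfsg.Agent.Lib.Helper4.TCD.L225pA
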