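namespace Cfsg.Agent.Lib.Helper4.TCD.L225pL

noncomputable def st4_0 : Nat := nat_lit 0x1788e42d85e4a3b92fb4e8461440a9868
noncomputable def st5_0 : Nat := nat_lit 0x2d892c69546f363a87cc1a0788c8096a4
noncomputable def st6_0 : Nat := nat_lit 0xccadaf18029313978690e14e46a2bd12
noncomputable def st7_0 : Nat := nat_lit 0xc154e595bf03abae9b3485450ec14220
noncomputable def st8_0 : Nat := nat_lit 0x2916ade6b5422939449dd872e50980f00
noncomputable def st9_0 : Nat := nat_lit 0x1f31c4d2c52cdcba070890965485ba960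
noncomputable def st10_0 : Nat := nat_lit 0x2793c8367c684c38b7aa1421ae0d624c0
noncomputable def st11_0 : Nat := nat_lit 0x30f65171cda459b8833244ab85b03a2a0
noncomputable def levTab_0 : Nat := nat_lit 0xaa9550
noncomputable def betaTab_0 : Nat := nat_lit 0x40e
noncomputable def nodeTab_0 : Nat := nat_lit 0xa9596018a4966c15a894a553ac925c11ad4f640b68060001e5d9d9988e37ae36a235a634cd5358128a31ac909e2fa88d9c8cd9ab988aa0894c08a107c8a6a4854804ed83a90299010000c259de3841d7ee569af5e654c2b38af28ef1c950de4f000ea2edaeeceeab9eeaed49e948aae7e6a6e9a5d944a6e3e542e221da40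
noncomputable def offTab_0 : Nat := nat_lit 0x33680
noncomputable def nTab_0 : Nat := nat_lit 0x333a
noncomputable def rootTab_0 : Nat := nat_lit 0xe

end Cfsg.Agent.Lib.Helper4.TCD.L225pL
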