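namespace Cfsg.Agent.Lib.Helper4.TCD.L225pU2

noncomputable def Atab_0 : Nat := nat_lit 0x128
noncomputable def Btab_0 : Nat := nat_lit 0x28
noncomputable def Ptab_0 : Nat := nat_lit 0x2
noncomputable def RRtab_0 : Nat := nat_lit 0x114455114400
noncomputable def rBtab_0 : Nat := nat_lit 0x29062080
noncomputable def rLtab_0 : Nat := nat_lit 0xaaa
noncomputable def nameTab_0 : Nat := nat_lit 0x2
noncomputable def col0_0 : Nat := nat_lit 0x1
noncomputable def col1_0 : Nat := nat_lit 0x1
noncomputable def finTab_0 : Nat := nat_lit 0x72a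
noncomputable def clsTab_0 : Nat := nat_lit 0x2

end Cfsg.Agent.Lib.Helper4.TCD.L225pU2
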