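namespace Cfsg.Agent.Lib.Helper4.TCD.L225pX13

noncomputable def Atab_0 : Nat := nat_lit 0x1882022a0a450
noncomputable def Btab_0 : Nat := nat_lit 0xc8045401e200cd0053c011208050420820
noncomputable def Ptab_0 : Nat := nat_lit 0x1484ad421ad0441842
noncomputable def RRtab_0 : Nat := nat_lit 0x4d369a0412082cb2ca2cb28a2cb2ca2cb28a2cb2ca2cb28a2cb2ca2cb28a2cb2cb2cb2cb2cb2cb2cb2cb2cb2cb2cb2cb2cb6db6c924b2d34da681048218610418410418610418410418610418410418610418410410410410410410410410410410410410410410412492000410
noncomputable def rBtab_0 : Nat := nat_lit 0x2411c8c451a8a04d259248e452190442070200800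
noncomputable def rLtab_0 : Nat := nat_lit 0x8208281a0c20820820a0683082
noncomputable def nameTab_0 : Nat := nat_lit 0x0
noncomputable def col0_0 : Nat := nat_lit 0x0
noncomputable def col1_0 : Nat := nat_lit 0x0
noncomputable def col2_0 : Nat := nat_lit 0x0
noncomputable def col3_0 : Nat := nat_lit 0x0
noncomputable def finTab_0 : Nat := nat_lit 0x941cc
noncomputable def clsTab_0 : Nat := nat_lit 0x0

end Cfsg.Agent.Lib.Helper4.TCD.L225pX13
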