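namespace Cfsg.Agent.Lib.Helper4.TCD.L28pA

noncomputable def Atab_0 : Nat := nat_lit 0xb7b0b6c75a3ce87190bdc3193be0ab63ac823508501f30748e11373c14d04b0568142cd4b34240a70218c85008c04230880008001c0060014000dd8f542cd0f132bccad20ac429009bc24e38b4a0d37b09cc06a8189359c947349890603940c4328c8830184c402081000
noncomputable def Btab_0 : Nat := nat_lit 0x4cb42298084116d0b224415b76c2d53db068cd10910415a1082127d9464c1080942101204202308404220ac7c4158f04201d08403810a83da1606882b0b10561410802421003882b0608400630a404415800408
noncomputable def Ptab_0 : Nat := nat_lit 0x1b2c4870c4fab46c23c9a3b36698ee2bcd7ed275fbf570e4d19b2c7715e6be72b929720797a8425c81e54da3579afda4ec756c64a101aa14c80c101a14409002c487184ca2758fe05ec94203450749944eb1fc0c582f599d21c313ea961c28302801620480162438c26511ab46c23c8a9426488909e3a68c522d345478514241061c48d2258a92223860a121823f0a101bb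
noncomputable def RRtab_0 : Nat := nat_lit 0x2138213816162323323201011010131312131312121313121313121213131213131212131312131312121313131313131313131313131313333333111172037203505023233232010110103030202030202030302020302020303020203020203030202030202020202020202020202020202020202222220000
noncomputable def rBtab_0 : Nat := nat_lit 0xece8e4e0dcd8a0847e7a726e6a66625e260a0400
noncomputable def rLtab_0 : Nat := nat_lit 0x2084210b8e1888210842e3862
noncomputable def nameTab_0 : Nat := nat_lit 0xc6635dead37d2f062d283944433a4d50c20
noncomputable def col0_0 : Nat := nat_lit 0xd6f19adaf3a42326b1ee52d27414c320440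
noncomputable def col1_0 : Nat := nat_lit 0xd6f19adaf3a42326b1ee52d27414c320440
noncomputable def col2_0 : Nat := nat_lit 0xa5885bcb117eb7932ced1880a64eb072121
noncomputable def col3_0 : Nat := nat_lit 0x8ca15be8bb35a8498d87720226bf195a809
noncomputable def finTab_0 : Nat := nat_lit 0xd4c76f167cf86cb88f2aad39d5e4f3e1bf6e4d7a755ba3bb660b93e0b47f0a668c94e25faf7ee43771a83c70cd6a05e9559c4eb98233ea532c507cc902e68e84162c4132658c24406ca3b6efa4ccb12de4480dd82b46c9a14203c6070e386080a0c0
noncomputable def clsTab_0 : Nat := nat_lit 0xbdb5b8d712a17309988f70dac59d4812420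
noncomputable def oparTab_0 : Nat := nat_lit 0xd6717ad273041ee6b16a501073148310400
noncomputable def olabTab_0 : Nat := nat_lit 0x11140505044440

end Cfsg.Agent.Lib.Helper4.TCD.L28pA
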