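namespace Cfsg.Agent.Lib.Helper4.TCD.L28pL

noncomputable def st4_0 : Nat := nat_lit 0xd6f19adaf3a42326b1ee52d27414c320440
noncomputable def st5_0 : Nat := nat_lit 0xde757c5276ac9ee8c16a6b10931c8510c20
noncomputable def levTab_0 : Nat := nat_lit 0x905
noncomputable def betaTab_0 : Nat := nat_lit 0x820
noncomputable def nodeTab_0 : Nat := nat_lit 0xd00c000514e970643529d410c946530221508c40040001771db5ce95132c8b87b8bbda59996ac2745669b0849abe2ac9050d7a31b911da8cec40a59b428501255283083a5399418a80643a219008858020000
noncomputable def offTab_0 : Nat := nat_lit 0x25700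
noncomputable def nTab_0 : Nat := nat_lit 0x93c
noncomputable def rootTab_0 : Nat := nat_lit 0x0

end Cfsg.Agent.Lib.Helper4.TCD.L28pL
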