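import Cfsg.Agent.Lib.Helper4.TCD_L28pX7_Acc

namespace Cfsg.Agent.Lib.Helper4.TCD.L28pX7

open Cfsg.Agent.Lib.Helper4.TC

set_option maxRecDepth 100000
set_option Elab.async false

theorem c_zero : D.zeroOK = true := by decide +kernel
theorem c_base : allBelow D.baseOK 0 = true := by decide +kernel
theorem c_let : allBelow D.letOK 4 = true := by decide +kernel
theorem c_cls0 : T.cls 0 = 0 := by decide +kernel
theorem c_name0 : T.nameOf 0 = 0 := by decide +kernel
theorem c_tab : D.relTabOK 0 (baseRels 4 PL28p.invR (xw :: PL28p.P.real) subs ++ (baseRels 4 PL28p.invR (xw :: PL28p.P.real) subs).map (invWord D.inv)) = true := by decide +kernel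
theorem c_subs : subs.all (fun u => u.all (fun x => Nat.ble (Nat.succ x) 4)) = true := by decide +kernel
theorem c_names_0 : allRange D.nameOK 1 1 = true := by decide +kernel
theorem c_cls_0 : allRange (T.clsOK D) 1 1 = true := by decide +kernel
theorem c_rep_0 : allRange (T.repOK D) 0 1 = true := by decide +kernel
theorem c_rel_0 : allRange D.relOK 2 8 = true := by decide +kernel
theorem c_fin_0 : allGrid (T.finOK D) 0 1 4 = true := by decide +kernel
theorem c_perm_0 : allGrid (T.permOK1 D) 0 1 4 = true := by decide +kernel

end Cfsg.Agent.Lib.Helper4.TCD.L28pX7
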