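namespace Cfsg.Agent.Lib.Helper4.TCD.L33pA

noncomputable def Atab_0 : Nat := nat_lit 0x149204921451045112cb02cb114501454497414743544189428f420c42d042d5429b4362466045e342ce449c4456429343583823461d459f446544a145da451e43e4286507e507a4072306e206a10660371d365a04d804970456041503d4345233d002ce028d024c328b01880147314600c430830082000120008000700060005000095f091e08dc089b085a081927d827973756271636d536942654061305d205910550050f34ce348d244d340c23cc038b034a030932c822882247020601c531842144010330c1208100404000
noncomputable def Btab_0 : Nat := nat_lit 0x268100599040126010059704012581005950401250100593040124420278f8609e3818248c860922c1827898609a1e2024860609a1218247052f35b820276c86091ac1826690809d9c202665860913d6bc342341310218273f06090f618273c06090ea1827390609099340d13cae8c4c08201282080480820118208044082010820803e102b0e840ac3808200d820803408200c820803008200b040ac28102b098208024082008820801e102b07020801a082005840ac14082004040ac0430490082080000808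
noncomputable def Ptab_0 : Nat := nat_lit 0xbc2e2fbda02c2da1a41c1da5ba0e0fbb9034b92513b75f28b51b66b3636cb16521b11672af1da537ad6482ab69833673206712615e11151b232da1226914635f0f13191f293341a932711e6712615e11151b232da1229aa7907b46a32f279f647c999d253b999d23789d69987d849b407a912e241a646a2778987d849b407a912e6f743b9930261c65682576907b7e9a467c9930261c6568857c9979266b16630c5d0657550305595a090b0f13191f2933413a963e88952d8b936f429177348e3c868d29873c772469641d27313f4b8b8134711e6712610a5d0657550305590457540307090b0f13191f4a3e30261c16100c085b5804025456055804025456055804025456075c0b6013661f7035804a48464442403a393433302e2c2a282423201f1c1a181615100e0c0b080605040253555605024f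
noncomputable def RRtab_0 : Nat := nat_lit 0x13121281312128363623233232010110101313131213131213131312121213131312121213131312131312131313121212131313121212131313131313131313131313131313131313131313131313131333333311117303020730302052522323323201011010303030202020303030202020302020302020203030302020203030302020203020203020202020202020202020202020202020202020202020202020202020202222220000
noncomputable def rBtab_0 : Nat := nat_lit 0xa551a853e9d4d9d4b6582b13c9a4b2491c8a1f0280800
noncomputable def rLtab_0 : Nat := nat_lit 0x1c208208299a0c21c208208299a0c2
noncomputable def nameTab_0 : Nat := nat_lit 0xd45214628b102203040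
noncomputable def col0_0 : Nat := nat_lit 0x7ba93c6248501
noncomputable def col1_0 : Nat := nat_lit 0x7ba93c6248501
noncomputable def col2_0 : Nat := nat_lit 0xbac8563927140
noncomputable def col3_0 : Nat := nat_lit 0xacb5937816420
noncomputable def finTab_0 : Nat := nat_lit 0x24221b68236fc8c66e25ccca0b5fc0be5e0d63101565691a6417c4c20c0a095c055b5958161411625a075d080604035655545702
noncomputable def clsTab_0 : Nat := nat_lit 0xb7acabbcca7abcab6c7ab676c3678398952410
noncomputable def oparTab_0 : Nat := nat_lit 0xaa97533221100
noncomputable def olabTab_0 : Nat := nat_lit 0x1144440

end Cfsg.Agent.Lib.Helper4.TCD.L33pA
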