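namespace Cfsg.Agent.Lib.Helper4.TCD.L33pL

noncomputable def st4_0 : Nat := nat_lit 0xbac8563927140
noncomputable def st5_0 : Nat := nat_lit 0xacb5937816420
noncomputable def st6_0 : Nat := nat_lit 0xcb86a79134250
noncomputable def st7_0 : Nat := nat_lit 0x5ba4326c98710
noncomputable def st8_0 : Nat := nat_lit 0x5b6347ac89210
noncomputable def st9_0 : Nat := nat_lit 0x39ab78624c510
noncomputable def st10_0 : Nat := nat_lit 0x47695ba8c3210
noncomputable def levTab_0 : Nat := nat_lit 0x113449240
noncomputable def betaTab_0 : Nat := nat_lit 0x43210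
noncomputable def nodeTab_0 : Nat := nat_lit 0xd0600043012000d39e2a4b72f2a520b83990570a8dd4c0012a3c74d6d9e939ca8384e2ecd98b0293044c664808000ba4c94f71a29ba4b8486e4f0dd930aa3146c8688488008000
noncomputable def offTab_0 : Nat := nat_lit 0x24899340
noncomputable def nTab_0 : Nat := nat_lit 0x229cd
noncomputable def rootTab_0 : Nat := nat_lit 0x0

end Cfsg.Agent.Lib.Helper4.TCD.L33pL
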