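namespace Cfsg.Agent.Lib.Helper4.TCD.L33pX13

noncomputable def Atab_0 : Nat := nat_lit 0x1882022a0a450
noncomputable def Btab_0 : Nat := nat_lit 0xc8045401e200cd0053c011208050420820
noncomputable def Ptab_0 : Nat := nat_lit 0x1484ad421ad0441842
noncomputable def RRtab_0 : Nat := nat_lit 0x4d369a0412082cb2ca2cb28b2cb28a28b2cb28a28b2cb28b2ca2cb2ca28a2cb2ca28a2cb2cb2cb2cb2cb2cb2cb2cb2cb2cb2cb2cb2cb6db6c924b2d34da681048218618410418618410418410610410618610410618610410610418410410410410410410410410410410410410410410412492000410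
noncomputable def rBtab_0 : Nat := nat_lit 0x27134984b1c0ac532893c9a4b2491c42070200800
noncomputable def rLtab_0 : Nat := nat_lit 0x8208299a0c20820820a6683082
noncomputable def nameTab_0 : Nat := nat_lit 0x0
noncomputable def col0_0 : Nat := nat_lit 0x0
noncomputable def col1_0 : Nat := nat_lit 0x0
noncomputable def col2_0 : Nat := nat_lit 0x0
noncomputable def col3_0 : Nat := nat_lit 0x0
noncomputable def finTab_0 : Nat := nat_lit 0x941cc
noncomputable def clsTab_0 : Nat := nat_lit 0x0

end Cfsg.Agent.Lib.Helper4.TCD.L33pX13
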