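namespace Cfsg.Agent.Lib.Helper4.TCD.L34pL

noncomputable def st4_0 : Nat := nat_lit 0x1498c095b5c17a20a390a690991
noncomputable def st5_0 : Nat := nat_lit 0xf190a7a396c6a90981a3298801
noncomputable def st6_0 : Nat := nat_lit 0xd248f42aa0e0317141823989e9
noncomputable def st7_0 : Nat := nat_lit 0x101c90d0b28a4b807899f3208ab
noncomputable def st8_0 : Nat := nat_lit 0x671e0f88092a24ad62d4818833
noncomputable def st9_0 : Nat := nat_lit 0xb031f184d07315449512d1882e
noncomputable def st10_0 : Nat := nat_lit 0xf8ac24430ea0393419a0568a72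
noncomputable def st11_0 : Nat := nat_lit 0x808265a286e9312f6989038a2b
noncomputable def st12_0 : Nat := nat_lit 0x117a4816b26a9396581874408e0
noncomputable def st13_0 : Nat := nat_lit 0x46ae879a9ee4b2430991128a00
noncomputable def levTab_0 : Nat := nat_lit 0x1b489491012
noncomputable def betaTab_0 : Nat := nat_lit 0x80c2
noncomputable def nodeTab_0 : Nat := nat_lit 0x741070070001c154a8336812ac31b430982f810d5c0b580980e8b0279c2581a4f0834001000064b49c738072b471ac70914fe24ea46de62c60abd0ea9d49a068e2270006a86550a49863ee419940da14c073a4f29cf180f0e20f9d4eaceda0ecea4b4c4aa14998e84847c826a545ea0488e30002b4e1d220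
noncomputable def offTab_0 : Nat := nat_lit 0xe69540
noncomputable def nTab_0 : Nat := nat_lit 0x1c295
noncomputable def rootTab_0 : Nat := nat_lit 0xa2

end Cfsg.Agent.Lib.Helper4.TCD.L34pL
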