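import Cfsg.Agent.Lib.Helper4.TC7
import Cfsg.Agent.Lib.Helper4.TC8
import Cfsg.Agent.Lib.Helper4.TCP_L34p
import Cfsg.Agent.Lib.Helper4.TCD_L34pU1_D0
import Cfsg.Agent.Lib.Helper4.TCD_L34pU1_D1
import Cfsg.Agent.Lib.Helper4.TCD_L34pU1_D2
import Cfsg.Agent.Lib.Helper4.TCD_L34pU1_D3
import Cfsg.Agent.Lib.Helper4.TCD_L34pU1_D4
import Cfsg.Agent.Lib.Helper4.TCD_L34pU1_D5
import Cfsg.Agent.Lib.Helper4.TCD_L34pU1_D6
import Cfsg.Agent.Lib.Helper4.TCD_L34pU1_D7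
import Cfsg.Agent.Lib.Helper4.TCD_L34pU1_D8
import Cfsg.Agent.Lib.Helper4.TCD_L34pU1_D9
import Cfsg.Agent.Lib.Helper4.TCD_L34pU1_D10
import Cfsg.Agent.Lib.Helper4.TCD_L34pU1_D11

namespace Cfsg.Agent.Lib.Helper4.TCD.L34pU1

open Cfsg.Agent.Lib.Helper4.TC

set_option maxRecDepth 100000

noncomputable def Atab_s_0_2 (c : Nat) : Nat := @Bool.rec (fun _ => Nat) (Atab_0) (Atab_1) (Nat.ble 1 c)
noncomputable def Atab_s_2_4 (c : Nat) : Nat := @Bool.rec (fun _ => Nat) (Atab_2) (Atab_3) (Nat.ble 3 c)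
noncomputable def Atab_s_0_4 (c : Nat) : Nat := @Bool.rec (fun _ => Nat) (Atab_s_0_2 c) (Atab_s_2_4 c) (Nat.ble 2 c)
noncomputable def Atab_s_4_6 (c : Nat) : Nat := @Bool.rec (fun _ => Nat) (Atab_4) (Atab_5) (Nat.ble 5 c)
noncomputable def Atab_s_7_9 (c : Nat) : Nat := @Bool.rec (fun _ => Nat) (Atab_7) (Atab_8) (Nat.ble 8 c)
noncomputable def Atab_s_6_9 (c : Nat) : Nat := @Bool.rec (fun _ => Nat) (Atab_6) (Atab_s_7_9 c) (Nat.ble 7 c)
noncomputable def Atab_s_4_9 (c : Nat) : Nat := @Bool.rec (fun _ => Nat) (Atab_s_4_6 c) (Atab_s_6_9 c) (Nat.ble 6 c)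
noncomputable def Atab_s_0_9 (c : Nat) : Nat := @Bool.rec (fun _ => Nat) (Atab_s_0_4 c) (Atab_s_4_9 c) (Nat.ble 4 c)
noncomputable def Atab_s_9_11 (c : Nat) : Nat := @Bool.rec (fun _ => Nat) (Atab_9) (Atab_10) (Nat.ble 10 c)
noncomputable def Atab_s_11_13 (c : Nat) : Nat := @Bool.rec (fun _ => Nat) (Atab_11) (Atab_12) (Nat.ble 12 c)
noncomputable def Atab_s_9_13 (c : Nat) : Nat := @Bool.rec (fun _ => Nat) (Atab_s_9_11 c) (Atab_s_11_13 c) (Nat.ble 11 c)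
noncomputable def Atab_s_13_15 (c : Nat) : Nat := @Bool.rec (fun _ => Nat) (Atab_13) (Atab_14) (Nat.ble 14 c)
noncomputable def Atab_s_16_18 (c : Nat) : Nat := @Bool.rec (fun _ => Nat) (Atab_16) (Atab_17) (Nat.ble 17 c)
noncomputable def Atab_s_15_18 (c : Nat) : Nat := @Bool.rec (fun _ => Nat) (Atab_15) (Atab_s_16_18 c) (Nat.ble 16 c)
noncomputable def Atab_s_13_18 (c : Nat) : Nat := @Bool.rec (fun _ => Nat) (Atab_s_13_15 c) (Atab_s_15_18 c) (Nat.ble 15 c)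
noncomputable def Atab_s_9_18 (c : Nat) : Nat := @Bool.rec (fun _ => Nat) (Atab_s_9_13 c) (Atab_s_13_18 c) (Nat.ble 13 c)
noncomputable def Atab_s_0_18 (c : Nat) : Nat := @Bool.rec (fun _ => Nat) (Atab_s_0_9 c) (Atab_s_9_18 c) (Nat.ble 9 c)
noncomputable def Atab_s_18_20 (c : Nat) : Nat := @Bool.rec (fun _ => Nat) (Atab_18) (Atab_19) (Nat.ble 19 c)
noncomputable def Atab_s_20_22 (c : Nat) : Nat := @Bool.rec (fun _ => Nat) (Atab_20) (Atab_21) (Nat.ble 21 c)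
noncomputable def Atab_s_18_22 (c : Nat) : Nat := @Bool.rec (fun _ => Nat) (Atab_s_18_20 c) (Atab_s_20_22 c) (Nat.ble 20 c)
noncomputable def Atab_s_22_24 (c : Nat) : Nat := @Bool.rec (fun _ => Nat) (Atab_22) (Atab_23) (Nat.ble 23 c)
noncomputable def Atab_s_25_27 (c : Nat) : Nat := @Bool.rec (fun _ => Nat) (Atab_25) (Atab_26) (Nat.ble 26 c)
noncomputable def Atab_s_24_27 (c : Nat) : Nat := @Bool.rec (fun _ => Nat) (Atab_24) (Atab_s_25_27 c) (Nat.ble 25 c)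
noncomputable def Atab_s_22_27 (c : Nat) : Nat := @Bool.rec (fun _ => Nat) (Atab_s_22_24 c) (Atab_s_24_27 c) (Nat.ble 24 c)
noncomputable def Atab_s_18_27 (c : Nat) : Nat := @Bool.rec (fun _ => Nat) (Atab_s_18_22 c) (Atab_s_22_27 c) (Nat.ble 22 c)
noncomputable def Atab_s_27_29 (c : Nat) : Nat := @Bool.rec (fun _ => Nat) (Atab_27) (Atab_28) (Nat.ble 28 c)
noncomputable def Atab_s_30_32 (c : Nat) : Nat := @Bool.rec (fun _ => Nat) (Atab_30) (Atab_31) (Nat.ble 31 c)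
noncomputable def Atab_s_29_32 (c : Nat) : Nat := @Bool.rec (fun _ => Nat) (Atab_29) (Atab_s_30_32 c) (Nat.ble 30 c)
noncomputable def Atab_s_27_32 (c : Nat) : Nat := @Bool.rec (fun _ => Nat) (Atab_s_27_29 c) (Atab_s_29_32 c) (Nat.ble 29 c)
noncomputable def Atab_s_32_34 (c : Nat) : Nat := @Bool.rec (fun _ => Nat) (Atab_32) (Atab_33) (Nat.ble 33 c)
noncomputable def Atab_s_35_37 (c : Nat) : Nat := @Bool.rec (fun _ => Nat) (Atab_35) (Atab_36) (Nat.ble 36 c)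
noncomputable def Atab_s_34_37 (c : Nat) : Nat := @Bool.rec (fun _ => Nat) (Atab_34) (Atab_s_35_37 c) (Nat.ble 35 c)
noncomputable def Atab_s_32_37 (c : Nat) : Nat := @Bool.rec (fun _ => Nat) (Atab_s_32_34 c) (Atab_s_34_37 c) (Nat.ble 34 c)
noncomputable def Atab_s_27_37 (c : Nat) : Nat := @Bool.rec (fun _ => Nat) (Atab_s_27_32 c) (Atab_s_32_37 c) (Nat.ble 32 c)
noncomputable def Atab_s_18_37 (c : Nat) : Nat := @Bool.rec (fun _ => Nat) (Atab_s_18_27 c) (Atab_s_27_37 c) (Nat.ble 27 c)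
noncomputable def Atab_s_0_37 (c : Nat) : Nat := @Bool.rec (fun _ => Nat) (Atab_s_0_18 c) (Atab_s_18_37 c) (Nat.ble 18 c)
noncomputable def Atab_s_37_39 (c : Nat) : Nat := @Bool.rec (fun _ => Nat) (Atab_37) (Atab_38) (Nat.ble 38 c)
noncomputable def Atab_s_39_41 (c : Nat) : Nat := @Bool.rec (fun _ => Nat) (Atab_39) (Atab_40) (Nat.ble 40 c)
noncomputable def Atab_s_37_41 (c : Nat) : Nat := @Bool.rec (fun _ => Nat) (Atab_s_37_39 c) (Atab_s_39_41 c) (Nat.ble 39 c)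
noncomputable def Atab_s_41_43 (c : Nat) : Nat := @Bool.rec (fun _ => Nat) (Atab_41) (Atab_42) (Nat.ble 42 c)
noncomputable def Atab_s_44_46 (c : Nat) : Nat := @Bool.rec (fun _ => Nat) (Atab_44) (Atab_45) (Nat.ble 45 c)
noncomputable def Atab_s_43_46 (c : Nat) : Nat := @Bool.rec (fun _ => Nat) (Atab_43) (Atab_s_44_46 c) (Nat.ble 44 c)
noncomputable def Atab_s_41_46 (c : Nat) : Nat := @Bool.rec (fun _ => Nat) (Atab_s_41_43 c) (Atab_s_43_46 c) (Nat.ble 43 c)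
noncomputable def Atab_s_37_46 (c : Nat) : Nat := @Bool.rec (fun _ => Nat) (Atab_s_37_41 c) (Atab_s_41_46 c) (Nat.ble 41 c)
noncomputable def Atab_s_46_48 (c : Nat) : Nat := @Bool.rec (fun _ => Nat) (Atab_46) (Atab_47) (Nat.ble 47 c)
noncomputable def Atab_s_48_50 (c : Nat) : Nat := @Bool.rec (fun _ => Nat) (Atab_48) (Atab_49) (Nat.ble 49 c)
noncomputable def Atab_s_46_50 (c : Nat) : Nat := @Bool.rec (fun _ => Nat) (Atab_s_46_48 c) (Atab_s_48_50 c) (Nat.ble 48 c)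
noncomputable def Atab_s_50_52 (c : Nat) : Nat := @Bool.rec (fun _ => Nat) (Atab_50) (Atab_51) (Nat.ble 51 c)
noncomputable def Atab_s_53_55 (c : Nat) : Nat := @Bool.rec (fun _ => Nat) (Atab_53) (Atab_54) (Nat.ble 54 c)
noncomputable def Atab_s_52_55 (c : Nat) : Nat := @Bool.rec (fun _ => Nat) (Atab_52) (Atab_s_53_55 c) (Nat.ble 53 c)
noncomputable def Atab_s_50_55 (c : Nat) : Nat := @Bool.rec (fun _ => Nat) (Atab_s_50_52 c) (Atab_s_52_55 c) (Nat.ble 52 c)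
noncomputable def Atab_s_46_55 (c : Nat) : Nat := @Bool.rec (fun _ => Nat) (Atab_s_46_50 c) (Atab_s_50_55 c) (Nat.ble 50 c)
noncomputable def Atab_s_37_55 (c : Nat) : Nat := @Bool.rec (fun _ => Nat) (Atab_s_37_46 c) (Atab_s_46_55 c) (Nat.ble 46 c)
noncomputable def Atab_s_55_57 (c : Nat) : Nat := @Bool.rec (fun _ => Nat) (Atab_55) (Atab_56) (Nat.ble 56 c)
noncomputable def Atab_s_57_59 (c : Nat) : Nat := @Bool.rec (fun _ => Nat) (Atab_57) (Atab_58) (Nat.ble 58 c)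
noncomputable def Atab_s_55_59 (c : Nat) : Nat := @Bool.rec (fun _ => Nat) (Atab_s_55_57 c) (Atab_s_57_59 c) (Nat.ble 57 c)
noncomputable def Atab_s_59_61 (c : Nat) : Nat := @Bool.rec (fun _ => Nat) (Atab_59) (Atab_60) (Nat.ble 60 c)
noncomputable def Atab_s_62_64 (c : Nat) : Nat := @Bool.rec (fun _ => Nat) (Atab_62) (Atab_63) (Nat.ble 63 c)
noncomputable def Atab_s_61_64 (c : Nat) : Nat := @Bool.rec (fun _ => Nat) (Atab_61) (Atab_s_62_64 c) (Nat.ble 62 c)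
noncomputable def Atab_s_59_64 (c : Nat) : Nat := @Bool.rec (fun _ => Nat) (Atab_s_59_61 c) (Atab_s_61_64 c) (Nat.ble 61 c)
noncomputable def Atab_s_55_64 (c : Nat) : Nat := @Bool.rec (fun _ => Nat) (Atab_s_55_59 c) (Atab_s_59_64 c) (Nat.ble 59 c)
noncomputable def Atab_s_64_66 (c : Nat) : Nat := @Bool.rec (fun _ => Nat) (Atab_64) (Atab_65) (Nat.ble 65 c)
noncomputable def Atab_s_67_69 (c : Nat) : Nat := @Bool.rec (fun _ => Nat) (Atab_67) (Atab_68) (Nat.ble 68 c)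
noncomputable def Atab_s_66_69 (c : Nat) : Nat := @Bool.rec (fun _ => Nat) (Atab_66) (Atab_s_67_69 c) (Nat.ble 67 c)
noncomputable def Atab_s_64_69 (c : Nat) : Nat := @Bool.rec (fun _ => Nat) (Atab_s_64_66 c) (Atab_s_66_69 c) (Nat.ble 66 c)
noncomputable def Atab_s_69_71 (c : Nat) : Nat := @Bool.rec (fun _ => Nat) (Atab_69) (Atab_70) (Nat.ble 70 c)
noncomputable def Atab_s_72_74 (c : Nat) : Nat := @Bool.rec (fun _ => Nat) (Atab_72) (Atab_73) (Nat.ble 73 c)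
noncomputable def Atab_s_71_74 (c : Nat) : Nat := @Bool.rec (fun _ => Nat) (Atab_71) (Atab_s_72_74 c) (Nat.ble 72 c)
noncomputable def Atab_s_69_74 (c : Nat) : Nat := @Bool.rec (fun _ => Nat) (Atab_s_69_71 c) (Atab_s_71_74 c) (Nat.ble 71 c)
noncomputable def Atab_s_64_74 (c : Nat) : Nat := @Bool.rec (fun _ => Nat) (Atab_s_64_69 c) (Atab_s_69_74 c) (Nat.ble 69 c)
noncomputable def Atab_s_55_74 (c : Nat) : Nat := @Bool.rec (fun _ => Nat) (Atab_s_55_64 c) (Atab_s_64_74 c) (Nat.ble 64 c)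
noncomputable def Atab_s_37_74 (c : Nat) : Nat := @Bool.rec (fun _ => Nat) (Atab_s_37_55 c) (Atab_s_55_74 c) (Nat.ble 55 c)
noncomputable def Atab_s_0_74 (c : Nat) : Nat := @Bool.rec (fun _ => Nat) (Atab_s_0_37 c) (Atab_s_37_74 c) (Nat.ble 37 c)
noncomputable def Atab_s_74_76 (c : Nat) : Nat := @Bool.rec (fun _ => Nat) (Atab_74) (Atab_75) (Nat.ble 75 c)
noncomputable def Atab_s_76_78 (c : Nat) : Nat := @Bool.rec (fun _ => Nat) (Atab_76) (Atab_77) (Nat.ble 77 c)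
noncomputable def Atab_s_74_78 (c : Nat) : Nat := @Bool.rec (fun _ => Nat) (Atab_s_74_76 c) (Atab_s_76_78 c) (Nat.ble 76 c)
noncomputable def Atab_s_78_80 (c : Nat) : Nat := @Bool.rec (fun _ => Nat) (Atab_78) (Atab_79) (Nat.ble 79 c)
noncomputable def Atab_s_81_83 (c : Nat) : Nat := @Bool.rec (fun _ => Nat) (Atab_81) (Atab_82) (Nat.ble 82 c)
noncomputable def Atab_s_80_83 (c : Nat) : Nat := @Bool.rec (fun _ => Nat) (Atab_80) (Atab_s_81_83 c) (Nat.ble 81 c)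
noncomputable def Atab_s_78_83 (c : Nat) : Nat := @Bool.rec (fun _ => Nat) (Atab_s_78_80 c) (Atab_s_80_83 c) (Nat.ble 80 c)
noncomputable def Atab_s_74_83 (c : Nat) : Nat := @Bool.rec (fun _ => Nat) (Atab_s_74_78 c) (Atab_s_78_83 c) (Nat.ble 78 c)
noncomputable def Atab_s_83_85 (c : Nat) : Nat := @Bool.rec (fun _ => Nat) (Atab_83) (Atab_84) (Nat.ble 84 c)
noncomputable def Atab_s_85_87 (c : Nat) : Nat := @Bool.rec (fun _ => Nat) (Atab_85) (Atab_86) (Nat.ble 86 c)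
noncomputable def Atab_s_83_87 (c : Nat) : Nat := @Bool.rec (fun _ => Nat) (Atab_s_83_85 c) (Atab_s_85_87 c) (Nat.ble 85 c)
noncomputable def Atab_s_87_89 (c : Nat) : Nat := @Bool.rec (fun _ => Nat) (Atab_87) (Atab_88) (Nat.ble 88 c)
noncomputable def Atab_s_90_92 (c : Nat) : Nat := @Bool.rec (fun _ => Nat) (Atab_90) (Atab_91) (Nat.ble 91 c)
noncomputable def Atab_s_89_92 (c : Nat) : Nat := @Bool.rec (fun _ => Nat) (Atab_89) (Atab_s_90_92 c) (Nat.ble 90 c)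
noncomputable def Atab_s_87_92 (c : Nat) : Nat := @Bool.rec (fun _ => Nat) (Atab_s_87_89 c) (Atab_s_89_92 c) (Nat.ble 89 c)
noncomputable def Atab_s_83_92 (c : Nat) : Nat := @Bool.rec (fun _ => Nat) (Atab_s_83_87 c) (Atab_s_87_92 c) (Nat.ble 87 c)
noncomputable def Atab_s_74_92 (c : Nat) : Nat := @Bool.rec (fun _ => Nat) (Atab_s_74_83 c) (Atab_s_83_92 c) (Nat.ble 83 c)
noncomputable def Atab_s_92_94 (c : Nat) : Nat := @Bool.rec (fun _ => Nat) (Atab_92) (Atab_93) (Nat.ble 93 c)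
noncomputable def Atab_s_94_96 (c : Nat) : Nat := @Bool.rec (fun _ => Nat) (Atab_94) (Atab_95) (Nat.ble 95 c)
noncomputable def Atab_s_92_96 (c : Nat) : Nat := @Bool.rec (fun _ => Nat) (Atab_s_92_94 c) (Atab_s_94_96 c) (Nat.ble 94 c)
noncomputable def Atab_s_96_98 (c : Nat) : Nat := @Bool.rec (fun _ => Nat) (Atab_96) (Atab_97) (Nat.ble 97 c)
noncomputable def Atab_s_99_101 (c : Nat) : Nat := @Bool.rec (fun _ => Nat) (Atab_99) (Atab_100) (Nat.ble 100 c)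
noncomputable def Atab_s_98_101 (c : Nat) : Nat := @Bool.rec (fun _ => Nat) (Atab_98) (Atab_s_99_101 c) (Nat.ble 99 c)
noncomputable def Atab_s_96_101 (c : Nat) : Nat := @Bool.rec (fun _ => Nat) (Atab_s_96_98 c) (Atab_s_98_101 c) (Nat.ble 98 c)
noncomputable def Atab_s_92_101 (c : Nat) : Nat := @Bool.rec (fun _ => Nat) (Atab_s_92_96 c) (Atab_s_96_101 c) (Nat.ble 96 c)
noncomputable def Atab_s_101_103 (c : Nat) : Nat := @Bool.rec (fun _ => Nat) (Atab_101) (Atab_102) (Nat.ble 102 c)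
noncomputable def Atab_s_104_106 (c : Nat) : Nat := @Bool.rec (fun _ => Nat) (Atab_104) (Atab_105) (Nat.ble 105 c)
noncomputable def Atab_s_103_106 (c : Nat) : Nat := @Bool.rec (fun _ => Nat) (Atab_103) (Atab_s_104_106 c) (Nat.ble 104 c)
noncomputable def Atab_s_101_106 (c : Nat) : Nat := @Bool.rec (fun _ => Nat) (Atab_s_101_103 c) (Atab_s_103_106 c) (Nat.ble 103 c)
noncomputable def Atab_s_106_108 (c : Nat) : Nat := @Bool.rec (fun _ => Nat) (Atab_106) (Atab_107) (Nat.ble 107 c)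
noncomputable def Atab_s_109_111 (c : Nat) : Nat := @Bool.rec (fun _ => Nat) (Atab_109) (Atab_110) (Nat.ble 110 c)
noncomputable def Atab_s_108_111 (c : Nat) : Nat := @Bool.rec (fun _ => Nat) (Atab_108) (Atab_s_109_111 c) (Nat.ble 109 c)
noncomputable def Atab_s_106_111 (c : Nat) : Nat := @Bool.rec (fun _ => Nat) (Atab_s_106_108 c) (Atab_s_108_111 c) (Nat.ble 108 c)
noncomputable def Atab_s_101_111 (c : Nat) : Nat := @Bool.rec (fun _ => Nat) (Atab_s_101_106 c) (Atab_s_106_111 c) (Nat.ble 106 c)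
noncomputable def Atab_s_92_111 (c : Nat) : Nat := @Bool.rec (fun _ => Nat) (Atab_s_92_101 c) (Atab_s_101_111 c) (Nat.ble 101 c)
noncomputable def Atab_s_74_111 (c : Nat) : Nat := @Bool.rec (fun _ => Nat) (Atab_s_74_92 c) (Atab_s_92_111 c) (Nat.ble 92 c)
noncomputable def Atab_s_111_113 (c : Nat) : Nat := @Bool.rec (fun _ => Nat) (Atab_111) (Atab_112) (Nat.ble 112 c)
noncomputable def Atab_s_113_115 (c : Nat) : Nat := @Bool.rec (fun _ => Nat) (Atab_113) (Atab_114) (Nat.ble 114 c)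
noncomputable def Atab_s_111_115 (c : Nat) : Nat := @Bool.rec (fun _ => Nat) (Atab_s_111_113 c) (Atab_s_113_115 c) (Nat.ble 113 c)
noncomputable def Atab_s_115_117 (c : Nat) : Nat := @Bool.rec (fun _ => Nat) (Atab_115) (Atab_116) (Nat.ble 116 c)
noncomputable def Atab_s_118_120 (c : Nat) : Nat := @Bool.rec (fun _ => Nat) (Atab_118) (Atab_119) (Nat.ble 119 c)
noncomputable def Atab_s_117_120 (c : Nat) : Nat := @Bool.rec (fun _ => Nat) (Atab_117) (Atab_s_118_120 c) (Nat.ble 118 c)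
noncomputable def Atab_s_115_120 (c : Nat) : Nat := @Bool.rec (fun _ => Nat) (Atab_s_115_117 c) (Atab_s_117_120 c) (Nat.ble 117 c)
noncomputable def Atab_s_111_120 (c : Nat) : Nat := @Bool.rec (fun _ => Nat) (Atab_s_111_115 c) (Atab_s_115_120 c) (Nat.ble 115 c)
noncomputable def Atab_s_120_122 (c : Nat) : Nat := @Bool.rec (fun _ => Nat) (Atab_120) (Atab_121) (Nat.ble 121 c)
noncomputable def Atab_s_122_124 (c : Nat) : Nat := @Bool.rec (fun _ => Nat) (Atab_122) (Atab_123) (Nat.ble 123 c)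
noncomputable def Atab_s_120_124 (c : Nat) : Nat := @Bool.rec (fun _ => Nat) (Atab_s_120_122 c) (Atab_s_122_124 c) (Nat.ble 122 c)
noncomputable def Atab_s_124_126 (c : Nat) : Nat := @Bool.rec (fun _ => Nat) (Atab_124) (Atab_125) (Nat.ble 125 c)
noncomputable def Atab_s_127_129 (c : Nat) : Nat := @Bool.rec (fun _ => Nat) (Atab_127) (Atab_128) (Nat.ble 128 c)
noncomputable def Atab_s_126_129 (c : Nat) : Nat := @Bool.rec (fun _ => Nat) (Atab_126) (Atab_s_127_129 c) (Nat.ble 127 c)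
noncomputable def Atab_s_124_129 (c : Nat) : Nat := @Bool.rec (fun _ => Nat) (Atab_s_124_126 c) (Atab_s_126_129 c) (Nat.ble 126 c)
noncomputable def Atab_s_120_129 (c : Nat) : Nat := @Bool.rec (fun _ => Nat) (Atab_s_120_124 c) (Atab_s_124_129 c) (Nat.ble 124 c)
noncomputable def Atab_s_111_129 (c : Nat) : Nat := @Bool.rec (fun _ => Nat) (Atab_s_111_120 c) (Atab_s_120_129 c) (Nat.ble 120 c)
noncomputable def Atab_s_129_131 (c : Nat) : Nat := @Bool.rec (fun _ => Nat) (Atab_129) (Atab_130) (Nat.ble 130 c)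
noncomputable def Atab_s_131_133 (c : Nat) : Nat := @Bool.rec (fun _ => Nat) (Atab_131) (Atab_132) (Nat.ble 132 c)
noncomputable def Atab_s_129_133 (c : Nat) : Nat := @Bool.rec (fun _ => Nat) (Atab_s_129_131 c) (Atab_s_131_133 c) (Nat.ble 131 c)
noncomputable def Atab_s_133_135 (c : Nat) : Nat := @Bool.rec (fun _ => Nat) (Atab_133) (Atab_134) (Nat.ble 134 c)
noncomputable def Atab_s_136_138 (c : Nat) : Nat := @Bool.rec (fun _ => Nat) (Atab_136) (Atab_137) (Nat.ble 137 c)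
noncomputable def Atab_s_135_138 (c : Nat) : Nat := @Bool.rec (fun _ => Nat) (Atab_135) (Atab_s_136_138 c) (Nat.ble 136 c)
noncomputable def Atab_s_133_138 (c : Nat) : Nat := @Bool.rec (fun _ => Nat) (Atab_s_133_135 c) (Atab_s_135_138 c) (Nat.ble 135 c)
noncomputable def Atab_s_129_138 (c : Nat) : Nat := @Bool.rec (fun _ => Nat) (Atab_s_129_133 c) (Atab_s_133_138 c) (Nat.ble 133 c)
noncomputable def Atab_s_138_140 (c : Nat) : Nat := @Bool.rec (fun _ => Nat) (Atab_138) (Atab_139) (Nat.ble 139 c)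
noncomputable def Atab_s_141_143 (c : Nat) : Nat := @Bool.rec (fun _ => Nat) (Atab_141) (Atab_142) (Nat.ble 142 c)
noncomputable def Atab_s_140_143 (c : Nat) : Nat := @Bool.rec (fun _ => Nat) (Atab_140) (Atab_s_141_143 c) (Nat.ble 141 c)
noncomputable def Atab_s_138_143 (c : Nat) : Nat := @Bool.rec (fun _ => Nat) (Atab_s_138_140 c) (Atab_s_140_143 c) (Nat.ble 140 c)
noncomputable def Atab_s_143_145 (c : Nat) : Nat := @Bool.rec (fun _ => Nat) (Atab_143) (Atab_144) (Nat.ble 144 c)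
noncomputable def Atab_s_146_148 (c : Nat) : Nat := @Bool.rec (fun _ => Nat) (Atab_146) (Atab_147) (Nat.ble 147 c)
noncomputable def Atab_s_145_148 (c : Nat) : Nat := @Bool.rec (fun _ => Nat) (Atab_145) (Atab_s_146_148 c) (Nat.ble 146 c)
noncomputable def Atab_s_143_148 (c : Nat) : Nat := @Bool.rec (fun _ => Nat) (Atab_s_143_145 c) (Atab_s_145_148 c) (Nat.ble 145 c)
noncomputable def Atab_s_138_148 (c : Nat) : Nat := @Bool.rec (fun _ => Nat) (Atab_s_138_143 c) (Atab_s_143_148 c) (Nat.ble 143 c)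
noncomputable def Atab_s_129_148 (c : Nat) : Nat := @Bool.rec (fun _ => Nat) (Atab_s_129_138 c) (Atab_s_138_148 c) (Nat.ble 138 c)
noncomputable def Atab_s_111_148 (c : Nat) : Nat := @Bool.rec (fun _ => Nat) (Atab_s_111_129 c) (Atab_s_129_148 c) (Nat.ble 129 c)
noncomputable def Atab_s_74_148 (c : Nat) : Nat := @Bool.rec (fun _ => Nat) (Atab_s_74_111 c) (Atab_s_111_148 c) (Nat.ble 111 c)
noncomputable def Atab_s_0_148 (c : Nat) : Nat := @Bool.rec (fun _ => Nat) (Atab_s_0_74 c) (Atab_s_74_148 c) (Nat.ble 74 c)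
noncomputable def Atab_s_148_150 (c : Nat) : Nat := @Bool.rec (fun _ => Nat) (Atab_148) (Atab_149) (Nat.ble 149 c)
noncomputable def Atab_s_150_152 (c : Nat) : Nat := @Bool.rec (fun _ => Nat) (Atab_150) (Atab_151) (Nat.ble 151 c)
noncomputable def Atab_s_148_152 (c : Nat) : Nat := @Bool.rec (fun _ => Nat) (Atab_s_148_150 c) (Atab_s_150_152 c) (Nat.ble 150 c)
noncomputable def Atab_s_152_154 (c : Nat) : Nat := @Bool.rec (fun _ => Nat) (Atab_152) (Atab_153) (Nat.ble 153 c)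
noncomputable def Atab_s_155_157 (c : Nat) : Nat := @Bool.rec (fun _ => Nat) (Atab_155) (Atab_156) (Nat.ble 156 c)
noncomputable def Atab_s_154_157 (c : Nat) : Nat := @Bool.rec (fun _ => Nat) (Atab_154) (Atab_s_155_157 c) (Nat.ble 155 c)
noncomputable def Atab_s_152_157 (c : Nat) : Nat := @Bool.rec (fun _ => Nat) (Atab_s_152_154 c) (Atab_s_154_157 c) (Nat.ble 154 c)
noncomputable def Atab_s_148_157 (c : Nat) : Nat := @Bool.rec (fun _ => Nat) (Atab_s_148_152 c) (Atab_s_152_157 c) (Nat.ble 152 c)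
noncomputable def Atab_s_157_159 (c : Nat) : Nat := @Bool.rec (fun _ => Nat) (Atab_157) (Atab_158) (Nat.ble 158 c)
noncomputable def Atab_s_159_161 (c : Nat) : Nat := @Bool.rec (fun _ => Nat) (Atab_159) (Atab_160) (Nat.ble 160 c)
noncomputable def Atab_s_157_161 (c : Nat) : Nat := @Bool.rec (fun _ => Nat) (Atab_s_157_159 c) (Atab_s_159_161 c) (Nat.ble 159 c)
noncomputable def Atab_s_161_163 (c : Nat) : Nat := @Bool.rec (fun _ => Nat) (Atab_161) (Atab_162) (Nat.ble 162 c)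
noncomputable def Atab_s_164_166 (c : Nat) : Nat := @Bool.rec (fun _ => Nat) (Atab_164) (Atab_165) (Nat.ble 165 c)
noncomputable def Atab_s_163_166 (c : Nat) : Nat := @Bool.rec (fun _ => Nat) (Atab_163) (Atab_s_164_166 c) (Nat.ble 164 c)
noncomputable def Atab_s_161_166 (c : Nat) : Nat := @Bool.rec (fun _ => Nat) (Atab_s_161_163 c) (Atab_s_163_166 c) (Nat.ble 163 c)
noncomputable def Atab_s_157_166 (c : Nat) : Nat := @Bool.rec (fun _ => Nat) (Atab_s_157_161 c) (Atab_s_161_166 c) (Nat.ble 161 c)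
noncomputable def Atab_s_148_166 (c : Nat) : Nat := @Bool.rec (fun _ => Nat) (Atab_s_148_157 c) (Atab_s_157_166 c) (Nat.ble 157 c)
noncomputable def Atab_s_166_168 (c : Nat) : Nat := @Bool.rec (fun _ => Nat) (Atab_166) (Atab_167) (Nat.ble 167 c)
noncomputable def Atab_s_168_170 (c : Nat) : Nat := @Bool.rec (fun _ => Nat) (Atab_168) (Atab_169) (Nat.ble 169 c)
noncomputable def Atab_s_166_170 (c : Nat) : Nat := @Bool.rec (fun _ => Nat) (Atab_s_166_168 c) (Atab_s_168_170 c) (Nat.ble 168 c)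
noncomputable def Atab_s_170_172 (c : Nat) : Nat := @Bool.rec (fun _ => Nat) (Atab_170) (Atab_171) (Nat.ble 171 c)
noncomputable def Atab_s_173_175 (c : Nat) : Nat := @Bool.rec (fun _ => Nat) (Atab_173) (Atab_174) (Nat.ble 174 c)
noncomputable def Atab_s_172_175 (c : Nat) : Nat := @Bool.rec (fun _ => Nat) (Atab_172) (Atab_s_173_175 c) (Nat.ble 173 c)
noncomputable def Atab_s_170_175 (c : Nat) : Nat := @Bool.rec (fun _ => Nat) (Atab_s_170_172 c) (Atab_s_172_175 c) (Nat.ble 172 c)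
noncomputable def Atab_s_166_175 (c : Nat) : Nat := @Bool.rec (fun _ => Nat) (Atab_s_166_170 c) (Atab_s_170_175 c) (Nat.ble 170 c)
noncomputable def Atab_s_175_177 (c : Nat) : Nat := @Bool.rec (fun _ => Nat) (Atab_175) (Atab_176) (Nat.ble 176 c)
noncomputable def Atab_s_178_180 (c : Nat) : Nat := @Bool.rec (fun _ => Nat) (Atab_178) (Atab_179) (Nat.ble 179 c)
noncomputable def Atab_s_177_180 (c : Nat) : Nat := @Bool.rec (fun _ => Nat) (Atab_177) (Atab_s_178_180 c) (Nat.ble 178 c)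
noncomputable def Atab_s_175_180 (c : Nat) : Nat := @Bool.rec (fun _ => Nat) (Atab_s_175_177 c) (Atab_s_177_180 c) (Nat.ble 177 c)
noncomputable def Atab_s_180_182 (c : Nat) : Nat := @Bool.rec (fun _ => Nat) (Atab_180) (Atab_181) (Nat.ble 181 c)
noncomputable def Atab_s_183_185 (c : Nat) : Nat := @Bool.rec (fun _ => Nat) (Atab_183) (Atab_184) (Nat.ble 184 c)
noncomputable def Atab_s_182_185 (c : Nat) : Nat := @Bool.rec (fun _ => Nat) (Atab_182) (Atab_s_183_185 c) (Nat.ble 183 c)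
noncomputable def Atab_s_180_185 (c : Nat) : Nat := @Bool.rec (fun _ => Nat) (Atab_s_180_182 c) (Atab_s_182_185 c) (Nat.ble 182 c)
noncomputable def Atab_s_175_185 (c : Nat) : Nat := @Bool.rec (fun _ => Nat) (Atab_s_175_180 c) (Atab_s_180_185 c) (Nat.ble 180 c)
noncomputable def Atab_s_166_185 (c : Nat) : Nat := @Bool.rec (fun _ => Nat) (Atab_s_166_175 c) (Atab_s_175_185 c) (Nat.ble 175 c)
noncomputable def Atab_s_148_185 (c : Nat) : Nat := @Bool.rec (fun _ => Nat) (Atab_s_148_166 c) (Atab_s_166_185 c) (Nat.ble 166 c)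
noncomputable def Atab_s_185_187 (c : Nat) : Nat := @Bool.rec (fun _ => Nat) (Atab_185) (Atab_186) (Nat.ble 186 c)
noncomputable def Atab_s_187_189 (c : Nat) : Nat := @Bool.rec (fun _ => Nat) (Atab_187) (Atab_188) (Nat.ble 188 c)
noncomputable def Atab_s_185_189 (c : Nat) : Nat := @Bool.rec (fun _ => Nat) (Atab_s_185_187 c) (Atab_s_187_189 c) (Nat.ble 187 c)
noncomputable def Atab_s_189_191 (c : Nat) : Nat := @Bool.rec (fun _ => Nat) (Atab_189) (Atab_190) (Nat.ble 190 c)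
noncomputable def Atab_s_192_194 (c : Nat) : Nat := @Bool.rec (fun _ => Nat) (Atab_192) (Atab_193) (Nat.ble 193 c)
noncomputable def Atab_s_191_194 (c : Nat) : Nat := @Bool.rec (fun _ => Nat) (Atab_191) (Atab_s_192_194 c) (Nat.ble 192 c)
noncomputable def Atab_s_189_194 (c : Nat) : Nat := @Bool.rec (fun _ => Nat) (Atab_s_189_191 c) (Atab_s_191_194 c) (Nat.ble 191 c)
noncomputable def Atab_s_185_194 (c : Nat) : Nat := @Bool.rec (fun _ => Nat) (Atab_s_185_189 c) (Atab_s_189_194 c) (Nat.ble 189 c)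
noncomputable def Atab_s_194_196 (c : Nat) : Nat := @Bool.rec (fun _ => Nat) (Atab_194) (Atab_195) (Nat.ble 195 c)
noncomputable def Atab_s_196_198 (c : Nat) : Nat := @Bool.rec (fun _ => Nat) (Atab_196) (Atab_197) (Nat.ble 197 c)
noncomputable def Atab_s_194_198 (c : Nat) : Nat := @Bool.rec (fun _ => Nat) (Atab_s_194_196 c) (Atab_s_196_198 c) (Nat.ble 196 c)
noncomputable def Atab_s_198_200 (c : Nat) : Nat := @Bool.rec (fun _ => Nat) (Atab_198) (Atab_199) (Nat.ble 199 c)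
noncomputable def Atab_s_201_203 (c : Nat) : Nat := @Bool.rec (fun _ => Nat) (Atab_201) (Atab_202) (Nat.ble 202 c)
noncomputable def Atab_s_200_203 (c : Nat) : Nat := @Bool.rec (fun _ => Nat) (Atab_200) (Atab_s_201_203 c) (Nat.ble 201 c)
noncomputable def Atab_s_198_203 (c : Nat) : Nat := @Bool.rec (fun _ => Nat) (Atab_s_198_200 c) (Atab_s_200_203 c) (Nat.ble 200 c)
noncomputable def Atab_s_194_203 (c : Nat) : Nat := @Bool.rec (fun _ => Nat) (Atab_s_194_198 c) (Atab_s_198_203 c) (Nat.ble 198 c)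
noncomputable def Atab_s_185_203 (c : Nat) : Nat := @Bool.rec (fun _ => Nat) (Atab_s_185_194 c) (Atab_s_194_203 c) (Nat.ble 194 c)
noncomputable def Atab_s_203_205 (c : Nat) : Nat := @Bool.rec (fun _ => Nat) (Atab_203) (Atab_204) (Nat.ble 204 c)
noncomputable def Atab_s_205_207 (c : Nat) : Nat := @Bool.rec (fun _ => Nat) (Atab_205) (Atab_206) (Nat.ble 206 c)
noncomputable def Atab_s_203_207 (c : Nat) : Nat := @Bool.rec (fun _ => Nat) (Atab_s_203_205 c) (Atab_s_205_207 c) (Nat.ble 205 c)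
noncomputable def Atab_s_207_209 (c : Nat) : Nat := @Bool.rec (fun _ => Nat) (Atab_207) (Atab_208) (Nat.ble 208 c)
noncomputable def Atab_s_210_212 (c : Nat) : Nat := @Bool.rec (fun _ => Nat) (Atab_210) (Atab_211) (Nat.ble 211 c)
noncomputable def Atab_s_209_212 (c : Nat) : Nat := @Bool.rec (fun _ => Nat) (Atab_209) (Atab_s_210_212 c) (Nat.ble 210 c)
noncomputable def Atab_s_207_212 (c : Nat) : Nat := @Bool.rec (fun _ => Nat) (Atab_s_207_209 c) (Atab_s_209_212 c) (Nat.ble 209 c)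
noncomputable def Atab_s_203_212 (c : Nat) : Nat := @Bool.rec (fun _ => Nat) (Atab_s_203_207 c) (Atab_s_207_212 c) (Nat.ble 207 c)
noncomputable def Atab_s_212_214 (c : Nat) : Nat := @Bool.rec (fun _ => Nat) (Atab_212) (Atab_213) (Nat.ble 213 c)
noncomputable def Atab_s_215_217 (c : Nat) : Nat := @Bool.rec (fun _ => Nat) (Atab_215) (Atab_216) (Nat.ble 216 c)
noncomputable def Atab_s_214_217 (c : Nat) : Nat := @Bool.rec (fun _ => Nat) (Atab_214) (Atab_s_215_217 c) (Nat.ble 215 c)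
noncomputable def Atab_s_212_217 (c : Nat) : Nat := @Bool.rec (fun _ => Nat) (Atab_s_212_214 c) (Atab_s_214_217 c) (Nat.ble 214 c)
noncomputable def Atab_s_217_219 (c : Nat) : Nat := @Bool.rec (fun _ => Nat) (Atab_217) (Atab_218) (Nat.ble 218 c)
noncomputable def Atab_s_220_222 (c : Nat) : Nat := @Bool.rec (fun _ => Nat) (Atab_220) (Atab_221) (Nat.ble 221 c)
noncomputable def Atab_s_219_222 (c : Nat) : Nat := @Bool.rec (fun _ => Nat) (Atab_219) (Atab_s_220_222 c) (Nat.ble 220 c)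
noncomputable def Atab_s_217_222 (c : Nat) : Nat := @Bool.rec (fun _ => Nat) (Atab_s_217_219 c) (Atab_s_219_222 c) (Nat.ble 219 c)
noncomputable def Atab_s_212_222 (c : Nat) : Nat := @Bool.rec (fun _ => Nat) (Atab_s_212_217 c) (Atab_s_217_222 c) (Nat.ble 217 c)
noncomputable def Atab_s_203_222 (c : Nat) : Nat := @Bool.rec (fun _ => Nat) (Atab_s_203_212 c) (Atab_s_212_222 c) (Nat.ble 212 c)
noncomputable def Atab_s_185_222 (c : Nat) : Nat := @Bool.rec (fun _ => Nat) (Atab_s_185_203 c) (Atab_s_203_222 c) (Nat.ble 203 c)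
noncomputable def Atab_s_148_222 (c : Nat) : Nat := @Bool.rec (fun _ => Nat) (Atab_s_148_185 c) (Atab_s_185_222 c) (Nat.ble 185 c)
noncomputable def Atab_s_222_224 (c : Nat) : Nat := @Bool.rec (fun _ => Nat) (Atab_222) (Atab_223) (Nat.ble 223 c)
noncomputable def Atab_s_224_226 (c : Nat) : Nat := @Bool.rec (fun _ => Nat) (Atab_224) (Atab_225) (Nat.ble 225 c)
noncomputable def Atab_s_222_226 (c : Nat) : Nat := @Bool.rec (fun _ => Nat) (Atab_s_222_224 c) (Atab_s_224_226 c) (Nat.ble 224 c)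
noncomputable def Atab_s_226_228 (c : Nat) : Nat := @Bool.rec (fun _ => Nat) (Atab_226) (Atab_227) (Nat.ble 227 c)
noncomputable def Atab_s_229_231 (c : Nat) : Nat := @Bool.rec (fun _ => Nat) (Atab_229) (Atab_230) (Nat.ble 230 c)
noncomputable def Atab_s_228_231 (c : Nat) : Nat := @Bool.rec (fun _ => Nat) (Atab_228) (Atab_s_229_231 c) (Nat.ble 229 c)
noncomputable def Atab_s_226_231 (c : Nat) : Nat := @Bool.rec (fun _ => Nat) (Atab_s_226_228 c) (Atab_s_228_231 c) (Nat.ble 228 c)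
noncomputable def Atab_s_222_231 (c : Nat) : Nat := @Bool.rec (fun _ => Nat) (Atab_s_222_226 c) (Atab_s_226_231 c) (Nat.ble 226 c)
noncomputable def Atab_s_231_233 (c : Nat) : Nat := @Bool.rec (fun _ => Nat) (Atab_231) (Atab_232) (Nat.ble 232 c)
noncomputable def Atab_s_233_235 (c : Nat) : Nat := @Bool.rec (fun _ => Nat) (Atab_233) (Atab_234) (Nat.ble 234 c)
noncomputable def Atab_s_231_235 (c : Nat) : Nat := @Bool.rec (fun _ => Nat) (Atab_s_231_233 c) (Atab_s_233_235 c) (Nat.ble 233 c)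
noncomputable def Atab_s_235_237 (c : Nat) : Nat := @Bool.rec (fun _ => Nat) (Atab_235) (Atab_236) (Nat.ble 236 c)
noncomputable def Atab_s_238_240 (c : Nat) : Nat := @Bool.rec (fun _ => Nat) (Atab_238) (Atab_239) (Nat.ble 239 c)
noncomputable def Atab_s_237_240 (c : Nat) : Nat := @Bool.rec (fun _ => Nat) (Atab_237) (Atab_s_238_240 c) (Nat.ble 238 c)
noncomputable def Atab_s_235_240 (c : Nat) : Nat := @Bool.rec (fun _ => Nat) (Atab_s_235_237 c) (Atab_s_237_240 c) (Nat.ble 237 c)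
noncomputable def Atab_s_231_240 (c : Nat) : Nat := @Bool.rec (fun _ => Nat) (Atab_s_231_235 c) (Atab_s_235_240 c) (Nat.ble 235 c)
noncomputable def Atab_s_222_240 (c : Nat) : Nat := @Bool.rec (fun _ => Nat) (Atab_s_222_231 c) (Atab_s_231_240 c) (Nat.ble 231 c)
noncomputable def Atab_s_240_242 (c : Nat) : Nat := @Bool.rec (fun _ => Nat) (Atab_240) (Atab_241) (Nat.ble 241 c)
noncomputable def Atab_s_242_244 (c : Nat) : Nat := @Bool.rec (fun _ => Nat) (Atab_242) (Atab_243) (Nat.ble 243 c)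
noncomputable def Atab_s_240_244 (c : Nat) : Nat := @Bool.rec (fun _ => Nat) (Atab_s_240_242 c) (Atab_s_242_244 c) (Nat.ble 242 c)
noncomputable def Atab_s_244_246 (c : Nat) : Nat := @Bool.rec (fun _ => Nat) (Atab_244) (Atab_245) (Nat.ble 245 c)
noncomputable def Atab_s_247_249 (c : Nat) : Nat := @Bool.rec (fun _ => Nat) (Atab_247) (Atab_248) (Nat.ble 248 c)
noncomputable def Atab_s_246_249 (c : Nat) : Nat := @Bool.rec (fun _ => Nat) (Atab_246) (Atab_s_247_249 c) (Nat.ble 247 c)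
noncomputable def Atab_s_244_249 (c : Nat) : Nat := @Bool.rec (fun _ => Nat) (Atab_s_244_246 c) (Atab_s_246_249 c) (Nat.ble 246 c)
noncomputable def Atab_s_240_249 (c : Nat) : Nat := @Bool.rec (fun _ => Nat) (Atab_s_240_244 c) (Atab_s_244_249 c) (Nat.ble 244 c)
noncomputable def Atab_s_249_251 (c : Nat) : Nat := @Bool.rec (fun _ => Nat) (Atab_249) (Atab_250) (Nat.ble 250 c)
noncomputable def Atab_s_252_254 (c : Nat) : Nat := @Bool.rec (fun _ => Nat) (Atab_252) (Atab_253) (Nat.ble 253 c)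
noncomputable def Atab_s_251_254 (c : Nat) : Nat := @Bool.rec (fun _ => Nat) (Atab_251) (Atab_s_252_254 c) (Nat.ble 252 c)
noncomputable def Atab_s_249_254 (c : Nat) : Nat := @Bool.rec (fun _ => Nat) (Atab_s_249_251 c) (Atab_s_251_254 c) (Nat.ble 251 c)
noncomputable def Atab_s_254_256 (c : Nat) : Nat := @Bool.rec (fun _ => Nat) (Atab_254) (Atab_255) (Nat.ble 255 c)
noncomputable def Atab_s_257_259 (c : Nat) : Nat := @Bool.rec (fun _ => Nat) (Atab_257) (Atab_258) (Nat.ble 258 c)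
noncomputable def Atab_s_256_259 (c : Nat) : Nat := @Bool.rec (fun _ => Nat) (Atab_256) (Atab_s_257_259 c) (Nat.ble 257 c)
noncomputable def Atab_s_254_259 (c : Nat) : Nat := @Bool.rec (fun _ => Nat) (Atab_s_254_256 c) (Atab_s_256_259 c) (Nat.ble 256 c)
noncomputable def Atab_s_249_259 (c : Nat) : Nat := @Bool.rec (fun _ => Nat) (Atab_s_249_254 c) (Atab_s_254_259 c) (Nat.ble 254 c)
noncomputable def Atab_s_240_259 (c : Nat) : Nat := @Bool.rec (fun _ => Nat) (Atab_s_240_249 c) (Atab_s_249_259 c) (Nat.ble 249 c)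
noncomputable def Atab_s_222_259 (c : Nat) : Nat := @Bool.rec (fun _ => Nat) (Atab_s_222_240 c) (Atab_s_240_259 c) (Nat.ble 240 c)
noncomputable def Atab_s_259_261 (c : Nat) : Nat := @Bool.rec (fun _ => Nat) (Atab_259) (Atab_260) (Nat.ble 260 c)
noncomputable def Atab_s_261_263 (c : Nat) : Nat := @Bool.rec (fun _ => Nat) (Atab_261) (Atab_262) (Nat.ble 262 c)
noncomputable def Atab_s_259_263 (c : Nat) : Nat := @Bool.rec (fun _ => Nat) (Atab_s_259_261 c) (Atab_s_261_263 c) (Nat.ble 261 c)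
noncomputable def Atab_s_263_265 (c : Nat) : Nat := @Bool.rec (fun _ => Nat) (Atab_263) (Atab_264) (Nat.ble 264 c)
noncomputable def Atab_s_266_268 (c : Nat) : Nat := @Bool.rec (fun _ => Nat) (Atab_266) (Atab_267) (Nat.ble 267 c)
noncomputable def Atab_s_265_268 (c : Nat) : Nat := @Bool.rec (fun _ => Nat) (Atab_265) (Atab_s_266_268 c) (Nat.ble 266 c)
noncomputable def Atab_s_263_268 (c : Nat) : Nat := @Bool.rec (fun _ => Nat) (Atab_s_263_265 c) (Atab_s_265_268 c) (Nat.ble 265 c)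
noncomputable def Atab_s_259_268 (c : Nat) : Nat := @Bool.rec (fun _ => Nat) (Atab_s_259_263 c) (Atab_s_263_268 c) (Nat.ble 263 c)
noncomputable def Atab_s_268_270 (c : Nat) : Nat := @Bool.rec (fun _ => Nat) (Atab_268) (Atab_269) (Nat.ble 269 c)
noncomputable def Atab_s_270_272 (c : Nat) : Nat := @Bool.rec (fun _ => Nat) (Atab_270) (Atab_271) (Nat.ble 271 c)
noncomputable def Atab_s_268_272 (c : Nat) : Nat := @Bool.rec (fun _ => Nat) (Atab_s_268_270 c) (Atab_s_270_272 c) (Nat.ble 270 c)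
noncomputable def Atab_s_272_274 (c : Nat) : Nat := @Bool.rec (fun _ => Nat) (Atab_272) (Atab_273) (Nat.ble 273 c)
noncomputable def Atab_s_275_277 (c : Nat) : Nat := @Bool.rec (fun _ => Nat) (Atab_275) (Atab_276) (Nat.ble 276 c)
noncomputable def Atab_s_274_277 (c : Nat) : Nat := @Bool.rec (fun _ => Nat) (Atab_274) (Atab_s_275_277 c) (Nat.ble 275 c)
noncomputable def Atab_s_272_277 (c : Nat) : Nat := @Bool.rec (fun _ => Nat) (Atab_s_272_274 c) (Atab_s_274_277 c) (Nat.ble 274 c)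
noncomputable def Atab_s_268_277 (c : Nat) : Nat := @Bool.rec (fun _ => Nat) (Atab_s_268_272 c) (Atab_s_272_277 c) (Nat.ble 272 c)
noncomputable def Atab_s_259_277 (c : Nat) : Nat := @Bool.rec (fun _ => Nat) (Atab_s_259_268 c) (Atab_s_268_277 c) (Nat.ble 268 c)
noncomputable def Atab_s_277_279 (c : Nat) : Nat := @Bool.rec (fun _ => Nat) (Atab_277) (Atab_278) (Nat.ble 278 c)
noncomputable def Atab_s_279_281 (c : Nat) : Nat := @Bool.rec (fun _ => Nat) (Atab_279) (Atab_280) (Nat.ble 280 c)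
noncomputable def Atab_s_277_281 (c : Nat) : Nat := @Bool.rec (fun _ => Nat) (Atab_s_277_279 c) (Atab_s_279_281 c) (Nat.ble 279 c)
noncomputable def Atab_s_281_283 (c : Nat) : Nat := @Bool.rec (fun _ => Nat) (Atab_281) (Atab_282) (Nat.ble 282 c)
noncomputable def Atab_s_284_286 (c : Nat) : Nat := @Bool.rec (fun _ => Nat) (Atab_284) (Atab_285) (Nat.ble 285 c)
noncomputable def Atab_s_283_286 (c : Nat) : Nat := @Bool.rec (fun _ => Nat) (Atab_283) (Atab_s_284_286 c) (Nat.ble 284 c)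
noncomputable def Atab_s_281_286 (c : Nat) : Nat := @Bool.rec (fun _ => Nat) (Atab_s_281_283 c) (Atab_s_283_286 c) (Nat.ble 283 c)
noncomputable def Atab_s_277_286 (c : Nat) : Nat := @Bool.rec (fun _ => Nat) (Atab_s_277_281 c) (Atab_s_281_286 c) (Nat.ble 281 c)
noncomputable def Atab_s_286_288 (c : Nat) : Nat := @Bool.rec (fun _ => Nat) (Atab_286) (Atab_287) (Nat.ble 287 c)
noncomputable def Atab_s_289_291 (c : Nat) : Nat := @Bool.rec (fun _ => Nat) (Atab_289) (Atab_290) (Nat.ble 290 c)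
noncomputable def Atab_s_288_291 (c : Nat) : Nat := @Bool.rec (fun _ => Nat) (Atab_288) (Atab_s_289_291 c) (Nat.ble 289 c)
noncomputable def Atab_s_286_291 (c : Nat) : Nat := @Bool.rec (fun _ => Nat) (Atab_s_286_288 c) (Atab_s_288_291 c) (Nat.ble 288 c)
noncomputable def Atab_s_291_293 (c : Nat) : Nat := @Bool.rec (fun _ => Nat) (Atab_291) (Atab_292) (Nat.ble 292 c)
noncomputable def Atab_s_294_296 (c : Nat) : Nat := @Bool.rec (fun _ => Nat) (Atab_294) (Atab_295) (Nat.ble 295 c)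
noncomputable def Atab_s_293_296 (c : Nat) : Nat := @Bool.rec (fun _ => Nat) (Atab_293) (Atab_s_294_296 c) (Nat.ble 294 c)
noncomputable def Atab_s_291_296 (c : Nat) : Nat := @Bool.rec (fun _ => Nat) (Atab_s_291_293 c) (Atab_s_293_296 c) (Nat.ble 293 c)
noncomputable def Atab_s_286_296 (c : Nat) : Nat := @Bool.rec (fun _ => Nat) (Atab_s_286_291 c) (Atab_s_291_296 c) (Nat.ble 291 c)
noncomputable def Atab_s_277_296 (c : Nat) : Nat := @Bool.rec (fun _ => Nat) (Atab_s_277_286 c) (Atab_s_286_296 c) (Nat.ble 286 c)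
noncomputable def Atab_s_259_296 (c : Nat) : Nat := @Bool.rec (fun _ => Nat) (Atab_s_259_277 c) (Atab_s_277_296 c) (Nat.ble 277 c)
noncomputable def Atab_s_222_296 (c : Nat) : Nat := @Bool.rec (fun _ => Nat) (Atab_s_222_259 c) (Atab_s_259_296 c) (Nat.ble 259 c)
noncomputable def Atab_s_148_296 (c : Nat) : Nat := @Bool.rec (fun _ => Nat) (Atab_s_148_222 c) (Atab_s_222_296 c) (Nat.ble 222 c)
noncomputable def Atab_s_0_296 (c : Nat) : Nat := @Bool.rec (fun _ => Nat) (Atab_s_0_148 c) (Atab_s_148_296 c) (Nat.ble 148 c)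
noncomputable def Atab (i : Nat) : Nat := rdw 41 2199023255551 (Atab_s_0_296 (Nat.shiftRight i 11)) (Nat.land i 2047)
noncomputable def Btab_s_0_2 (c : Nat) : Nat := @Bool.rec (fun _ => Nat) (Btab_0) (Btab_1) (Nat.ble 1 c)
noncomputable def Btab_s_3_5 (c : Nat) : Nat := @Bool.rec (fun _ => Nat) (Btab_3) (Btab_4) (Nat.ble 4 c)
noncomputable def Btab_s_2_5 (c : Nat) : Nat := @Bool.rec (fun _ => Nat) (Btab_2) (Btab_s_3_5 c) (Nat.ble 3 c)
noncomputable def Btab_s_0_5 (c : Nat) : Nat := @Bool.rec (fun _ => Nat) (Btab_s_0_2 c) (Btab_s_2_5 c) (Nat.ble 2 c)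
noncomputable def Btab_s_5_7 (c : Nat) : Nat := @Bool.rec (fun _ => Nat) (Btab_5) (Btab_6) (Nat.ble 6 c)
noncomputable def Btab_s_8_10 (c : Nat) : Nat := @Bool.rec (fun _ => Nat) (Btab_8) (Btab_9) (Nat.ble 9 c)
noncomputable def Btab_s_7_10 (c : Nat) : Nat := @Bool.rec (fun _ => Nat) (Btab_7) (Btab_s_8_10 c) (Nat.ble 8 c)
noncomputable def Btab_s_5_10 (c : Nat) : Nat := @Bool.rec (fun _ => Nat) (Btab_s_5_7 c) (Btab_s_7_10 c) (Nat.ble 7 c)
noncomputable def Btab_s_0_10 (c : Nat) : Nat := @Bool.rec (fun _ => Nat) (Btab_s_0_5 c) (Btab_s_5_10 c) (Nat.ble 5 c)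
noncomputable def Btab_s_10_12 (c : Nat) : Nat := @Bool.rec (fun _ => Nat) (Btab_10) (Btab_11) (Nat.ble 11 c)
noncomputable def Btab_s_13_15 (c : Nat) : Nat := @Bool.rec (fun _ => Nat) (Btab_13) (Btab_14) (Nat.ble 14 c)
noncomputable def Btab_s_12_15 (c : Nat) : Nat := @Bool.rec (fun _ => Nat) (Btab_12) (Btab_s_13_15 c) (Nat.ble 13 c)
noncomputable def Btab_s_10_15 (c : Nat) : Nat := @Bool.rec (fun _ => Nat) (Btab_s_10_12 c) (Btab_s_12_15 c) (Nat.ble 12 c)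
noncomputable def Btab_s_15_17 (c : Nat) : Nat := @Bool.rec (fun _ => Nat) (Btab_15) (Btab_16) (Nat.ble 16 c)
noncomputable def Btab_s_18_20 (c : Nat) : Nat := @Bool.rec (fun _ => Nat) (Btab_18) (Btab_19) (Nat.ble 19 c)
noncomputable def Btab_s_17_20 (c : Nat) : Nat := @Bool.rec (fun _ => Nat) (Btab_17) (Btab_s_18_20 c) (Nat.ble 18 c)
noncomputable def Btab_s_15_20 (c : Nat) : Nat := @Bool.rec (fun _ => Nat) (Btab_s_15_17 c) (Btab_s_17_20 c) (Nat.ble 17 c)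
noncomputable def Btab_s_10_20 (c : Nat) : Nat := @Bool.rec (fun _ => Nat) (Btab_s_10_15 c) (Btab_s_15_20 c) (Nat.ble 15 c)
noncomputable def Btab_s_0_20 (c : Nat) : Nat := @Bool.rec (fun _ => Nat) (Btab_s_0_10 c) (Btab_s_10_20 c) (Nat.ble 10 c)
noncomputable def Btab_s_20_22 (c : Nat) : Nat := @Bool.rec (fun _ => Nat) (Btab_20) (Btab_21) (Nat.ble 21 c)
noncomputable def Btab_s_23_25 (c : Nat) : Nat := @Bool.rec (fun _ => Nat) (Btab_23) (Btab_24) (Nat.ble 24 c)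
noncomputable def Btab_s_22_25 (c : Nat) : Nat := @Bool.rec (fun _ => Nat) (Btab_22) (Btab_s_23_25 c) (Nat.ble 23 c)
noncomputable def Btab_s_20_25 (c : Nat) : Nat := @Bool.rec (fun _ => Nat) (Btab_s_20_22 c) (Btab_s_22_25 c) (Nat.ble 22 c)
noncomputable def Btab_s_25_27 (c : Nat) : Nat := @Bool.rec (fun _ => Nat) (Btab_25) (Btab_26) (Nat.ble 26 c)
noncomputable def Btab_s_28_30 (c : Nat) : Nat := @Bool.rec (fun _ => Nat) (Btab_28) (Btab_29) (Nat.ble 29 c)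
noncomputable def Btab_s_27_30 (c : Nat) : Nat := @Bool.rec (fun _ => Nat) (Btab_27) (Btab_s_28_30 c) (Nat.ble 28 c)
noncomputable def Btab_s_25_30 (c : Nat) : Nat := @Bool.rec (fun _ => Nat) (Btab_s_25_27 c) (Btab_s_27_30 c) (Nat.ble 27 c)
noncomputable def Btab_s_20_30 (c : Nat) : Nat := @Bool.rec (fun _ => Nat) (Btab_s_20_25 c) (Btab_s_25_30 c) (Nat.ble 25 c)
noncomputable def Btab_s_30_32 (c : Nat) : Nat := @Bool.rec (fun _ => Nat) (Btab_30) (Btab_31) (Nat.ble 31 c)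
noncomputable def Btab_s_33_35 (c : Nat) : Nat := @Bool.rec (fun _ => Nat) (Btab_33) (Btab_34) (Nat.ble 34 c)
noncomputable def Btab_s_32_35 (c : Nat) : Nat := @Bool.rec (fun _ => Nat) (Btab_32) (Btab_s_33_35 c) (Nat.ble 33 c)
noncomputable def Btab_s_30_35 (c : Nat) : Nat := @Bool.rec (fun _ => Nat) (Btab_s_30_32 c) (Btab_s_32_35 c) (Nat.ble 32 c)
noncomputable def Btab_s_36_38 (c : Nat) : Nat := @Bool.rec (fun _ => Nat) (Btab_36) (Btab_37) (Nat.ble 37 c)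
noncomputable def Btab_s_35_38 (c : Nat) : Nat := @Bool.rec (fun _ => Nat) (Btab_35) (Btab_s_36_38 c) (Nat.ble 36 c)
noncomputable def Btab_s_39_41 (c : Nat) : Nat := @Bool.rec (fun _ => Nat) (Btab_39) (Btab_40) (Nat.ble 40 c)
noncomputable def Btab_s_38_41 (c : Nat) : Nat := @Bool.rec (fun _ => Nat) (Btab_38) (Btab_s_39_41 c) (Nat.ble 39 c)
noncomputable def Btab_s_35_41 (c : Nat) : Nat := @Bool.rec (fun _ => Nat) (Btab_s_35_38 c) (Btab_s_38_41 c) (Nat.ble 38 c)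
noncomputable def Btab_s_30_41 (c : Nat) : Nat := @Bool.rec (fun _ => Nat) (Btab_s_30_35 c) (Btab_s_35_41 c) (Nat.ble 35 c)
noncomputable def Btab_s_20_41 (c : Nat) : Nat := @Bool.rec (fun _ => Nat) (Btab_s_20_30 c) (Btab_s_30_41 c) (Nat.ble 30 c)
noncomputable def Btab_s_0_41 (c : Nat) : Nat := @Bool.rec (fun _ => Nat) (Btab_s_0_20 c) (Btab_s_20_41 c) (Nat.ble 20 c)
noncomputable def Btab_s_41_43 (c : Nat) : Nat := @Bool.rec (fun _ => Nat) (Btab_41) (Btab_42) (Nat.ble 42 c)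
noncomputable def Btab_s_44_46 (c : Nat) : Nat := @Bool.rec (fun _ => Nat) (Btab_44) (Btab_45) (Nat.ble 45 c)
noncomputable def Btab_s_43_46 (c : Nat) : Nat := @Bool.rec (fun _ => Nat) (Btab_43) (Btab_s_44_46 c) (Nat.ble 44 c)
noncomputable def Btab_s_41_46 (c : Nat) : Nat := @Bool.rec (fun _ => Nat) (Btab_s_41_43 c) (Btab_s_43_46 c) (Nat.ble 43 c)
noncomputable def Btab_s_46_48 (c : Nat) : Nat := @Bool.rec (fun _ => Nat) (Btab_46) (Btab_47) (Nat.ble 47 c)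
noncomputable def Btab_s_49_51 (c : Nat) : Nat := @Bool.rec (fun _ => Nat) (Btab_49) (Btab_50) (Nat.ble 50 c)
noncomputable def Btab_s_48_51 (c : Nat) : Nat := @Bool.rec (fun _ => Nat) (Btab_48) (Btab_s_49_51 c) (Nat.ble 49 c)
noncomputable def Btab_s_46_51 (c : Nat) : Nat := @Bool.rec (fun _ => Nat) (Btab_s_46_48 c) (Btab_s_48_51 c) (Nat.ble 48 c)
noncomputable def Btab_s_41_51 (c : Nat) : Nat := @Bool.rec (fun _ => Nat) (Btab_s_41_46 c) (Btab_s_46_51 c) (Nat.ble 46 c)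
noncomputable def Btab_s_51_53 (c : Nat) : Nat := @Bool.rec (fun _ => Nat) (Btab_51) (Btab_52) (Nat.ble 52 c)
noncomputable def Btab_s_54_56 (c : Nat) : Nat := @Bool.rec (fun _ => Nat) (Btab_54) (Btab_55) (Nat.ble 55 c)
noncomputable def Btab_s_53_56 (c : Nat) : Nat := @Bool.rec (fun _ => Nat) (Btab_53) (Btab_s_54_56 c) (Nat.ble 54 c)
noncomputable def Btab_s_51_56 (c : Nat) : Nat := @Bool.rec (fun _ => Nat) (Btab_s_51_53 c) (Btab_s_53_56 c) (Nat.ble 53 c)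
noncomputable def Btab_s_56_58 (c : Nat) : Nat := @Bool.rec (fun _ => Nat) (Btab_56) (Btab_57) (Nat.ble 57 c)
noncomputable def Btab_s_59_61 (c : Nat) : Nat := @Bool.rec (fun _ => Nat) (Btab_59) (Btab_60) (Nat.ble 60 c)
noncomputable def Btab_s_58_61 (c : Nat) : Nat := @Bool.rec (fun _ => Nat) (Btab_58) (Btab_s_59_61 c) (Nat.ble 59 c)
noncomputable def Btab_s_56_61 (c : Nat) : Nat := @Bool.rec (fun _ => Nat) (Btab_s_56_58 c) (Btab_s_58_61 c) (Nat.ble 58 c)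
noncomputable def Btab_s_51_61 (c : Nat) : Nat := @Bool.rec (fun _ => Nat) (Btab_s_51_56 c) (Btab_s_56_61 c) (Nat.ble 56 c)
noncomputable def Btab_s_41_61 (c : Nat) : Nat := @Bool.rec (fun _ => Nat) (Btab_s_41_51 c) (Btab_s_51_61 c) (Nat.ble 51 c)
noncomputable def Btab_s_61_63 (c : Nat) : Nat := @Bool.rec (fun _ => Nat) (Btab_61) (Btab_62) (Nat.ble 62 c)
noncomputable def Btab_s_64_66 (c : Nat) : Nat := @Bool.rec (fun _ => Nat) (Btab_64) (Btab_65) (Nat.ble 65 c)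
noncomputable def Btab_s_63_66 (c : Nat) : Nat := @Bool.rec (fun _ => Nat) (Btab_63) (Btab_s_64_66 c) (Nat.ble 64 c)
noncomputable def Btab_s_61_66 (c : Nat) : Nat := @Bool.rec (fun _ => Nat) (Btab_s_61_63 c) (Btab_s_63_66 c) (Nat.ble 63 c)
noncomputable def Btab_s_66_68 (c : Nat) : Nat := @Bool.rec (fun _ => Nat) (Btab_66) (Btab_67) (Nat.ble 67 c)
noncomputable def Btab_s_69_71 (c : Nat) : Nat := @Bool.rec (fun _ => Nat) (Btab_69) (Btab_70) (Nat.ble 70 c)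
noncomputable def Btab_s_68_71 (c : Nat) : Nat := @Bool.rec (fun _ => Nat) (Btab_68) (Btab_s_69_71 c) (Nat.ble 69 c)
noncomputable def Btab_s_66_71 (c : Nat) : Nat := @Bool.rec (fun _ => Nat) (Btab_s_66_68 c) (Btab_s_68_71 c) (Nat.ble 68 c)
noncomputable def Btab_s_61_71 (c : Nat) : Nat := @Bool.rec (fun _ => Nat) (Btab_s_61_66 c) (Btab_s_66_71 c) (Nat.ble 66 c)
noncomputable def Btab_s_71_73 (c : Nat) : Nat := @Bool.rec (fun _ => Nat) (Btab_71) (Btab_72) (Nat.ble 72 c)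
noncomputable def Btab_s_74_76 (c : Nat) : Nat := @Bool.rec (fun _ => Nat) (Btab_74) (Btab_75) (Nat.ble 75 c)
noncomputable def Btab_s_73_76 (c : Nat) : Nat := @Bool.rec (fun _ => Nat) (Btab_73) (Btab_s_74_76 c) (Nat.ble 74 c)
noncomputable def Btab_s_71_76 (c : Nat) : Nat := @Bool.rec (fun _ => Nat) (Btab_s_71_73 c) (Btab_s_73_76 c) (Nat.ble 73 c)
noncomputable def Btab_s_77_79 (c : Nat) : Nat := @Bool.rec (fun _ => Nat) (Btab_77) (Btab_78) (Nat.ble 78 c)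
noncomputable def Btab_s_76_79 (c : Nat) : Nat := @Bool.rec (fun _ => Nat) (Btab_76) (Btab_s_77_79 c) (Nat.ble 77 c)
noncomputable def Btab_s_80_82 (c : Nat) : Nat := @Bool.rec (fun _ => Nat) (Btab_80) (Btab_81) (Nat.ble 81 c)
noncomputable def Btab_s_79_82 (c : Nat) : Nat := @Bool.rec (fun _ => Nat) (Btab_79) (Btab_s_80_82 c) (Nat.ble 80 c)
noncomputable def Btab_s_76_82 (c : Nat) : Nat := @Bool.rec (fun _ => Nat) (Btab_s_76_79 c) (Btab_s_79_82 c) (Nat.ble 79 c)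
noncomputable def Btab_s_71_82 (c : Nat) : Nat := @Bool.rec (fun _ => Nat) (Btab_s_71_76 c) (Btab_s_76_82 c) (Nat.ble 76 c)
noncomputable def Btab_s_61_82 (c : Nat) : Nat := @Bool.rec (fun _ => Nat) (Btab_s_61_71 c) (Btab_s_71_82 c) (Nat.ble 71 c)
noncomputable def Btab_s_41_82 (c : Nat) : Nat := @Bool.rec (fun _ => Nat) (Btab_s_41_61 c) (Btab_s_61_82 c) (Nat.ble 61 c)
noncomputable def Btab_s_0_82 (c : Nat) : Nat := @Bool.rec (fun _ => Nat) (Btab_s_0_41 c) (Btab_s_41_82 c) (Nat.ble 41 c)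
noncomputable def Btab_s_82_84 (c : Nat) : Nat := @Bool.rec (fun _ => Nat) (Btab_82) (Btab_83) (Nat.ble 83 c)
noncomputable def Btab_s_85_87 (c : Nat) : Nat := @Bool.rec (fun _ => Nat) (Btab_85) (Btab_86) (Nat.ble 86 c)
noncomputable def Btab_s_84_87 (c : Nat) : Nat := @Bool.rec (fun _ => Nat) (Btab_84) (Btab_s_85_87 c) (Nat.ble 85 c)
noncomputable def Btab_s_82_87 (c : Nat) : Nat := @Bool.rec (fun _ => Nat) (Btab_s_82_84 c) (Btab_s_84_87 c) (Nat.ble 84 c)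
noncomputable def Btab_s_87_89 (c : Nat) : Nat := @Bool.rec (fun _ => Nat) (Btab_87) (Btab_88) (Nat.ble 88 c)
noncomputable def Btab_s_90_92 (c : Nat) : Nat := @Bool.rec (fun _ => Nat) (Btab_90) (Btab_91) (Nat.ble 91 c)
noncomputable def Btab_s_89_92 (c : Nat) : Nat := @Bool.rec (fun _ => Nat) (Btab_89) (Btab_s_90_92 c) (Nat.ble 90 c)
noncomputable def Btab_s_87_92 (c : Nat) : Nat := @Bool.rec (fun _ => Nat) (Btab_s_87_89 c) (Btab_s_89_92 c) (Nat.ble 89 c)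
noncomputable def Btab_s_82_92 (c : Nat) : Nat := @Bool.rec (fun _ => Nat) (Btab_s_82_87 c) (Btab_s_87_92 c) (Nat.ble 87 c)
noncomputable def Btab_s_92_94 (c : Nat) : Nat := @Bool.rec (fun _ => Nat) (Btab_92) (Btab_93) (Nat.ble 93 c)
noncomputable def Btab_s_95_97 (c : Nat) : Nat := @Bool.rec (fun _ => Nat) (Btab_95) (Btab_96) (Nat.ble 96 c)
noncomputable def Btab_s_94_97 (c : Nat) : Nat := @Bool.rec (fun _ => Nat) (Btab_94) (Btab_s_95_97 c) (Nat.ble 95 c)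
noncomputable def Btab_s_92_97 (c : Nat) : Nat := @Bool.rec (fun _ => Nat) (Btab_s_92_94 c) (Btab_s_94_97 c) (Nat.ble 94 c)
noncomputable def Btab_s_97_99 (c : Nat) : Nat := @Bool.rec (fun _ => Nat) (Btab_97) (Btab_98) (Nat.ble 98 c)
noncomputable def Btab_s_100_102 (c : Nat) : Nat := @Bool.rec (fun _ => Nat) (Btab_100) (Btab_101) (Nat.ble 101 c)
noncomputable def Btab_s_99_102 (c : Nat) : Nat := @Bool.rec (fun _ => Nat) (Btab_99) (Btab_s_100_102 c) (Nat.ble 100 c)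
noncomputable def Btab_s_97_102 (c : Nat) : Nat := @Bool.rec (fun _ => Nat) (Btab_s_97_99 c) (Btab_s_99_102 c) (Nat.ble 99 c)
noncomputable def Btab_s_92_102 (c : Nat) : Nat := @Bool.rec (fun _ => Nat) (Btab_s_92_97 c) (Btab_s_97_102 c) (Nat.ble 97 c)
noncomputable def Btab_s_82_102 (c : Nat) : Nat := @Bool.rec (fun _ => Nat) (Btab_s_82_92 c) (Btab_s_92_102 c) (Nat.ble 92 c)
noncomputable def Btab_s_102_104 (c : Nat) : Nat := @Bool.rec (fun _ => Nat) (Btab_102) (Btab_103) (Nat.ble 103 c)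
noncomputable def Btab_s_105_107 (c : Nat) : Nat := @Bool.rec (fun _ => Nat) (Btab_105) (Btab_106) (Nat.ble 106 c)
noncomputable def Btab_s_104_107 (c : Nat) : Nat := @Bool.rec (fun _ => Nat) (Btab_104) (Btab_s_105_107 c) (Nat.ble 105 c)
noncomputable def Btab_s_102_107 (c : Nat) : Nat := @Bool.rec (fun _ => Nat) (Btab_s_102_104 c) (Btab_s_104_107 c) (Nat.ble 104 c)
noncomputable def Btab_s_107_109 (c : Nat) : Nat := @Bool.rec (fun _ => Nat) (Btab_107) (Btab_108) (Nat.ble 108 c)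
noncomputable def Btab_s_110_112 (c : Nat) : Nat := @Bool.rec (fun _ => Nat) (Btab_110) (Btab_111) (Nat.ble 111 c)
noncomputable def Btab_s_109_112 (c : Nat) : Nat := @Bool.rec (fun _ => Nat) (Btab_109) (Btab_s_110_112 c) (Nat.ble 110 c)
noncomputable def Btab_s_107_112 (c : Nat) : Nat := @Bool.rec (fun _ => Nat) (Btab_s_107_109 c) (Btab_s_109_112 c) (Nat.ble 109 c)
noncomputable def Btab_s_102_112 (c : Nat) : Nat := @Bool.rec (fun _ => Nat) (Btab_s_102_107 c) (Btab_s_107_112 c) (Nat.ble 107 c)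
noncomputable def Btab_s_112_114 (c : Nat) : Nat := @Bool.rec (fun _ => Nat) (Btab_112) (Btab_113) (Nat.ble 113 c)
noncomputable def Btab_s_115_117 (c : Nat) : Nat := @Bool.rec (fun _ => Nat) (Btab_115) (Btab_116) (Nat.ble 116 c)
noncomputable def Btab_s_114_117 (c : Nat) : Nat := @Bool.rec (fun _ => Nat) (Btab_114) (Btab_s_115_117 c) (Nat.ble 115 c)
noncomputable def Btab_s_112_117 (c : Nat) : Nat := @Bool.rec (fun _ => Nat) (Btab_s_112_114 c) (Btab_s_114_117 c) (Nat.ble 114 c)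
noncomputable def Btab_s_118_120 (c : Nat) : Nat := @Bool.rec (fun _ => Nat) (Btab_118) (Btab_119) (Nat.ble 119 c)
noncomputable def Btab_s_117_120 (c : Nat) : Nat := @Bool.rec (fun _ => Nat) (Btab_117) (Btab_s_118_120 c) (Nat.ble 118 c)
noncomputable def Btab_s_121_123 (c : Nat) : Nat := @Bool.rec (fun _ => Nat) (Btab_121) (Btab_122) (Nat.ble 122 c)
noncomputable def Btab_s_120_123 (c : Nat) : Nat := @Bool.rec (fun _ => Nat) (Btab_120) (Btab_s_121_123 c) (Nat.ble 121 c)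
noncomputable def Btab_s_117_123 (c : Nat) : Nat := @Bool.rec (fun _ => Nat) (Btab_s_117_120 c) (Btab_s_120_123 c) (Nat.ble 120 c)
noncomputable def Btab_s_112_123 (c : Nat) : Nat := @Bool.rec (fun _ => Nat) (Btab_s_112_117 c) (Btab_s_117_123 c) (Nat.ble 117 c)
noncomputable def Btab_s_102_123 (c : Nat) : Nat := @Bool.rec (fun _ => Nat) (Btab_s_102_112 c) (Btab_s_112_123 c) (Nat.ble 112 c)
noncomputable def Btab_s_82_123 (c : Nat) : Nat := @Bool.rec (fun _ => Nat) (Btab_s_82_102 c) (Btab_s_102_123 c) (Nat.ble 102 c)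
noncomputable def Btab_s_123_125 (c : Nat) : Nat := @Bool.rec (fun _ => Nat) (Btab_123) (Btab_124) (Nat.ble 124 c)
noncomputable def Btab_s_126_128 (c : Nat) : Nat := @Bool.rec (fun _ => Nat) (Btab_126) (Btab_127) (Nat.ble 127 c)
noncomputable def Btab_s_125_128 (c : Nat) : Nat := @Bool.rec (fun _ => Nat) (Btab_125) (Btab_s_126_128 c) (Nat.ble 126 c)
noncomputable def Btab_s_123_128 (c : Nat) : Nat := @Bool.rec (fun _ => Nat) (Btab_s_123_125 c) (Btab_s_125_128 c) (Nat.ble 125 c)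
noncomputable def Btab_s_128_130 (c : Nat) : Nat := @Bool.rec (fun _ => Nat) (Btab_128) (Btab_129) (Nat.ble 129 c)
noncomputable def Btab_s_131_133 (c : Nat) : Nat := @Bool.rec (fun _ => Nat) (Btab_131) (Btab_132) (Nat.ble 132 c)
noncomputable def Btab_s_130_133 (c : Nat) : Nat := @Bool.rec (fun _ => Nat) (Btab_130) (Btab_s_131_133 c) (Nat.ble 131 c)
noncomputable def Btab_s_128_133 (c : Nat) : Nat := @Bool.rec (fun _ => Nat) (Btab_s_128_130 c) (Btab_s_130_133 c) (Nat.ble 130 c)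
noncomputable def Btab_s_123_133 (c : Nat) : Nat := @Bool.rec (fun _ => Nat) (Btab_s_123_128 c) (Btab_s_128_133 c) (Nat.ble 128 c)
noncomputable def Btab_s_133_135 (c : Nat) : Nat := @Bool.rec (fun _ => Nat) (Btab_133) (Btab_134) (Nat.ble 134 c)
noncomputable def Btab_s_136_138 (c : Nat) : Nat := @Bool.rec (fun _ => Nat) (Btab_136) (Btab_137) (Nat.ble 137 c)
noncomputable def Btab_s_135_138 (c : Nat) : Nat := @Bool.rec (fun _ => Nat) (Btab_135) (Btab_s_136_138 c) (Nat.ble 136 c)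
noncomputable def Btab_s_133_138 (c : Nat) : Nat := @Bool.rec (fun _ => Nat) (Btab_s_133_135 c) (Btab_s_135_138 c) (Nat.ble 135 c)
noncomputable def Btab_s_139_141 (c : Nat) : Nat := @Bool.rec (fun _ => Nat) (Btab_139) (Btab_140) (Nat.ble 140 c)
noncomputable def Btab_s_138_141 (c : Nat) : Nat := @Bool.rec (fun _ => Nat) (Btab_138) (Btab_s_139_141 c) (Nat.ble 139 c)
noncomputable def Btab_s_142_144 (c : Nat) : Nat := @Bool.rec (fun _ => Nat) (Btab_142) (Btab_143) (Nat.ble 143 c)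
noncomputable def Btab_s_141_144 (c : Nat) : Nat := @Bool.rec (fun _ => Nat) (Btab_141) (Btab_s_142_144 c) (Nat.ble 142 c)
noncomputable def Btab_s_138_144 (c : Nat) : Nat := @Bool.rec (fun _ => Nat) (Btab_s_138_141 c) (Btab_s_141_144 c) (Nat.ble 141 c)
noncomputable def Btab_s_133_144 (c : Nat) : Nat := @Bool.rec (fun _ => Nat) (Btab_s_133_138 c) (Btab_s_138_144 c) (Nat.ble 138 c)
noncomputable def Btab_s_123_144 (c : Nat) : Nat := @Bool.rec (fun _ => Nat) (Btab_s_123_133 c) (Btab_s_133_144 c) (Nat.ble 133 c)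
noncomputable def Btab_s_144_146 (c : Nat) : Nat := @Bool.rec (fun _ => Nat) (Btab_144) (Btab_145) (Nat.ble 145 c)
noncomputable def Btab_s_147_149 (c : Nat) : Nat := @Bool.rec (fun _ => Nat) (Btab_147) (Btab_148) (Nat.ble 148 c)
noncomputable def Btab_s_146_149 (c : Nat) : Nat := @Bool.rec (fun _ => Nat) (Btab_146) (Btab_s_147_149 c) (Nat.ble 147 c)
noncomputable def Btab_s_144_149 (c : Nat) : Nat := @Bool.rec (fun _ => Nat) (Btab_s_144_146 c) (Btab_s_146_149 c) (Nat.ble 146 c)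
noncomputable def Btab_s_149_151 (c : Nat) : Nat := @Bool.rec (fun _ => Nat) (Btab_149) (Btab_150) (Nat.ble 150 c)
noncomputable def Btab_s_152_154 (c : Nat) : Nat := @Bool.rec (fun _ => Nat) (Btab_152) (Btab_153) (Nat.ble 153 c)
noncomputable def Btab_s_151_154 (c : Nat) : Nat := @Bool.rec (fun _ => Nat) (Btab_151) (Btab_s_152_154 c) (Nat.ble 152 c)
noncomputable def Btab_s_149_154 (c : Nat) : Nat := @Bool.rec (fun _ => Nat) (Btab_s_149_151 c) (Btab_s_151_154 c) (Nat.ble 151 c)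
noncomputable def Btab_s_144_154 (c : Nat) : Nat := @Bool.rec (fun _ => Nat) (Btab_s_144_149 c) (Btab_s_149_154 c) (Nat.ble 149 c)
noncomputable def Btab_s_154_156 (c : Nat) : Nat := @Bool.rec (fun _ => Nat) (Btab_154) (Btab_155) (Nat.ble 155 c)
noncomputable def Btab_s_157_159 (c : Nat) : Nat := @Bool.rec (fun _ => Nat) (Btab_157) (Btab_158) (Nat.ble 158 c)
noncomputable def Btab_s_156_159 (c : Nat) : Nat := @Bool.rec (fun _ => Nat) (Btab_156) (Btab_s_157_159 c) (Nat.ble 157 c)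
noncomputable def Btab_s_154_159 (c : Nat) : Nat := @Bool.rec (fun _ => Nat) (Btab_s_154_156 c) (Btab_s_156_159 c) (Nat.ble 156 c)
noncomputable def Btab_s_160_162 (c : Nat) : Nat := @Bool.rec (fun _ => Nat) (Btab_160) (Btab_161) (Nat.ble 161 c)
noncomputable def Btab_s_159_162 (c : Nat) : Nat := @Bool.rec (fun _ => Nat) (Btab_159) (Btab_s_160_162 c) (Nat.ble 160 c)
noncomputable def Btab_s_163_165 (c : Nat) : Nat := @Bool.rec (fun _ => Nat) (Btab_163) (Btab_164) (Nat.ble 164 c)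
noncomputable def Btab_s_162_165 (c : Nat) : Nat := @Bool.rec (fun _ => Nat) (Btab_162) (Btab_s_163_165 c) (Nat.ble 163 c)
noncomputable def Btab_s_159_165 (c : Nat) : Nat := @Bool.rec (fun _ => Nat) (Btab_s_159_162 c) (Btab_s_162_165 c) (Nat.ble 162 c)
noncomputable def Btab_s_154_165 (c : Nat) : Nat := @Bool.rec (fun _ => Nat) (Btab_s_154_159 c) (Btab_s_159_165 c) (Nat.ble 159 c)
noncomputable def Btab_s_144_165 (c : Nat) : Nat := @Bool.rec (fun _ => Nat) (Btab_s_144_154 c) (Btab_s_154_165 c) (Nat.ble 154 c)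
noncomputable def Btab_s_123_165 (c : Nat) : Nat := @Bool.rec (fun _ => Nat) (Btab_s_123_144 c) (Btab_s_144_165 c) (Nat.ble 144 c)
noncomputable def Btab_s_82_165 (c : Nat) : Nat := @Bool.rec (fun _ => Nat) (Btab_s_82_123 c) (Btab_s_123_165 c) (Nat.ble 123 c)
noncomputable def Btab_s_0_165 (c : Nat) : Nat := @Bool.rec (fun _ => Nat) (Btab_s_0_82 c) (Btab_s_82_165 c) (Nat.ble 82 c)
noncomputable def Btab (i : Nat) : Nat := rdw 38 274877906943 (Btab_s_0_165 (Nat.shiftRight i 11)) (Nat.land i 2047)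
noncomputable def Ptab_s_0_2 (c : Nat) : Nat := @Bool.rec (fun _ => Nat) (Ptab_0) (Ptab_1) (Nat.ble 1 c)
noncomputable def Ptab_s_2_4 (c : Nat) : Nat := @Bool.rec (fun _ => Nat) (Ptab_2) (Ptab_3) (Nat.ble 3 c)
noncomputable def Ptab_s_0_4 (c : Nat) : Nat := @Bool.rec (fun _ => Nat) (Ptab_s_0_2 c) (Ptab_s_2_4 c) (Nat.ble 2 c)
noncomputable def Ptab_s_4_6 (c : Nat) : Nat := @Bool.rec (fun _ => Nat) (Ptab_4) (Ptab_5) (Nat.ble 5 c)
noncomputable def Ptab_s_7_9 (c : Nat) : Nat := @Bool.rec (fun _ => Nat) (Ptab_7) (Ptab_8) (Nat.ble 8 c)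
noncomputable def Ptab_s_6_9 (c : Nat) : Nat := @Bool.rec (fun _ => Nat) (Ptab_6) (Ptab_s_7_9 c) (Nat.ble 7 c)
noncomputable def Ptab_s_4_9 (c : Nat) : Nat := @Bool.rec (fun _ => Nat) (Ptab_s_4_6 c) (Ptab_s_6_9 c) (Nat.ble 6 c)
noncomputable def Ptab_s_0_9 (c : Nat) : Nat := @Bool.rec (fun _ => Nat) (Ptab_s_0_4 c) (Ptab_s_4_9 c) (Nat.ble 4 c)
noncomputable def Ptab_s_9_11 (c : Nat) : Nat := @Bool.rec (fun _ => Nat) (Ptab_9) (Ptab_10) (Nat.ble 10 c)
noncomputable def Ptab_s_12_14 (c : Nat) : Nat := @Bool.rec (fun _ => Nat) (Ptab_12) (Ptab_13) (Nat.ble 13 c)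
noncomputable def Ptab_s_11_14 (c : Nat) : Nat := @Bool.rec (fun _ => Nat) (Ptab_11) (Ptab_s_12_14 c) (Nat.ble 12 c)
noncomputable def Ptab_s_9_14 (c : Nat) : Nat := @Bool.rec (fun _ => Nat) (Ptab_s_9_11 c) (Ptab_s_11_14 c) (Nat.ble 11 c)
noncomputable def Ptab_s_14_16 (c : Nat) : Nat := @Bool.rec (fun _ => Nat) (Ptab_14) (Ptab_15) (Nat.ble 15 c)
noncomputable def Ptab_s_17_19 (c : Nat) : Nat := @Bool.rec (fun _ => Nat) (Ptab_17) (Ptab_18) (Nat.ble 18 c)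
noncomputable def Ptab_s_16_19 (c : Nat) : Nat := @Bool.rec (fun _ => Nat) (Ptab_16) (Ptab_s_17_19 c) (Nat.ble 17 c)
noncomputable def Ptab_s_14_19 (c : Nat) : Nat := @Bool.rec (fun _ => Nat) (Ptab_s_14_16 c) (Ptab_s_16_19 c) (Nat.ble 16 c)
noncomputable def Ptab_s_9_19 (c : Nat) : Nat := @Bool.rec (fun _ => Nat) (Ptab_s_9_14 c) (Ptab_s_14_19 c) (Nat.ble 14 c)
noncomputable def Ptab_s_0_19 (c : Nat) : Nat := @Bool.rec (fun _ => Nat) (Ptab_s_0_9 c) (Ptab_s_9_19 c) (Nat.ble 9 c)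
noncomputable def Ptab_s_19_21 (c : Nat) : Nat := @Bool.rec (fun _ => Nat) (Ptab_19) (Ptab_20) (Nat.ble 20 c)
noncomputable def Ptab_s_22_24 (c : Nat) : Nat := @Bool.rec (fun _ => Nat) (Ptab_22) (Ptab_23) (Nat.ble 23 c)
noncomputable def Ptab_s_21_24 (c : Nat) : Nat := @Bool.rec (fun _ => Nat) (Ptab_21) (Ptab_s_22_24 c) (Nat.ble 22 c)
noncomputable def Ptab_s_19_24 (c : Nat) : Nat := @Bool.rec (fun _ => Nat) (Ptab_s_19_21 c) (Ptab_s_21_24 c) (Nat.ble 21 c)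
noncomputable def Ptab_s_24_26 (c : Nat) : Nat := @Bool.rec (fun _ => Nat) (Ptab_24) (Ptab_25) (Nat.ble 25 c)
noncomputable def Ptab_s_27_29 (c : Nat) : Nat := @Bool.rec (fun _ => Nat) (Ptab_27) (Ptab_28) (Nat.ble 28 c)
noncomputable def Ptab_s_26_29 (c : Nat) : Nat := @Bool.rec (fun _ => Nat) (Ptab_26) (Ptab_s_27_29 c) (Nat.ble 27 c)
noncomputable def Ptab_s_24_29 (c : Nat) : Nat := @Bool.rec (fun _ => Nat) (Ptab_s_24_26 c) (Ptab_s_26_29 c) (Nat.ble 26 c)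
noncomputable def Ptab_s_19_29 (c : Nat) : Nat := @Bool.rec (fun _ => Nat) (Ptab_s_19_24 c) (Ptab_s_24_29 c) (Nat.ble 24 c)
noncomputable def Ptab_s_29_31 (c : Nat) : Nat := @Bool.rec (fun _ => Nat) (Ptab_29) (Ptab_30) (Nat.ble 30 c)
noncomputable def Ptab_s_32_34 (c : Nat) : Nat := @Bool.rec (fun _ => Nat) (Ptab_32) (Ptab_33) (Nat.ble 33 c)
noncomputable def Ptab_s_31_34 (c : Nat) : Nat := @Bool.rec (fun _ => Nat) (Ptab_31) (Ptab_s_32_34 c) (Nat.ble 32 c)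
noncomputable def Ptab_s_29_34 (c : Nat) : Nat := @Bool.rec (fun _ => Nat) (Ptab_s_29_31 c) (Ptab_s_31_34 c) (Nat.ble 31 c)
noncomputable def Ptab_s_34_36 (c : Nat) : Nat := @Bool.rec (fun _ => Nat) (Ptab_34) (Ptab_35) (Nat.ble 35 c)
noncomputable def Ptab_s_37_39 (c : Nat) : Nat := @Bool.rec (fun _ => Nat) (Ptab_37) (Ptab_38) (Nat.ble 38 c)
noncomputable def Ptab_s_36_39 (c : Nat) : Nat := @Bool.rec (fun _ => Nat) (Ptab_36) (Ptab_s_37_39 c) (Nat.ble 37 c)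
noncomputable def Ptab_s_34_39 (c : Nat) : Nat := @Bool.rec (fun _ => Nat) (Ptab_s_34_36 c) (Ptab_s_36_39 c) (Nat.ble 36 c)
noncomputable def Ptab_s_29_39 (c : Nat) : Nat := @Bool.rec (fun _ => Nat) (Ptab_s_29_34 c) (Ptab_s_34_39 c) (Nat.ble 34 c)
noncomputable def Ptab_s_19_39 (c : Nat) : Nat := @Bool.rec (fun _ => Nat) (Ptab_s_19_29 c) (Ptab_s_29_39 c) (Nat.ble 29 c)
noncomputable def Ptab_s_0_39 (c : Nat) : Nat := @Bool.rec (fun _ => Nat) (Ptab_s_0_19 c) (Ptab_s_19_39 c) (Nat.ble 19 c)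
noncomputable def Ptab_s_39_41 (c : Nat) : Nat := @Bool.rec (fun _ => Nat) (Ptab_39) (Ptab_40) (Nat.ble 40 c)
noncomputable def Ptab_s_41_43 (c : Nat) : Nat := @Bool.rec (fun _ => Nat) (Ptab_41) (Ptab_42) (Nat.ble 42 c)
noncomputable def Ptab_s_39_43 (c : Nat) : Nat := @Bool.rec (fun _ => Nat) (Ptab_s_39_41 c) (Ptab_s_41_43 c) (Nat.ble 41 c)
noncomputable def Ptab_s_43_45 (c : Nat) : Nat := @Bool.rec (fun _ => Nat) (Ptab_43) (Ptab_44) (Nat.ble 44 c)
noncomputable def Ptab_s_46_48 (c : Nat) : Nat := @Bool.rec (fun _ => Nat) (Ptab_46) (Ptab_47) (Nat.ble 47 c)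
noncomputable def Ptab_s_45_48 (c : Nat) : Nat := @Bool.rec (fun _ => Nat) (Ptab_45) (Ptab_s_46_48 c) (Nat.ble 46 c)
noncomputable def Ptab_s_43_48 (c : Nat) : Nat := @Bool.rec (fun _ => Nat) (Ptab_s_43_45 c) (Ptab_s_45_48 c) (Nat.ble 45 c)
noncomputable def Ptab_s_39_48 (c : Nat) : Nat := @Bool.rec (fun _ => Nat) (Ptab_s_39_43 c) (Ptab_s_43_48 c) (Nat.ble 43 c)
noncomputable def Ptab_s_48_50 (c : Nat) : Nat := @Bool.rec (fun _ => Nat) (Ptab_48) (Ptab_49) (Nat.ble 49 c)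
noncomputable def Ptab_s_51_53 (c : Nat) : Nat := @Bool.rec (fun _ => Nat) (Ptab_51) (Ptab_52) (Nat.ble 52 c)
noncomputable def Ptab_s_50_53 (c : Nat) : Nat := @Bool.rec (fun _ => Nat) (Ptab_50) (Ptab_s_51_53 c) (Nat.ble 51 c)
noncomputable def Ptab_s_48_53 (c : Nat) : Nat := @Bool.rec (fun _ => Nat) (Ptab_s_48_50 c) (Ptab_s_50_53 c) (Nat.ble 50 c)
noncomputable def Ptab_s_53_55 (c : Nat) : Nat := @Bool.rec (fun _ => Nat) (Ptab_53) (Ptab_54) (Nat.ble 54 c)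
noncomputable def Ptab_s_56_58 (c : Nat) : Nat := @Bool.rec (fun _ => Nat) (Ptab_56) (Ptab_57) (Nat.ble 57 c)
noncomputable def Ptab_s_55_58 (c : Nat) : Nat := @Bool.rec (fun _ => Nat) (Ptab_55) (Ptab_s_56_58 c) (Nat.ble 56 c)
noncomputable def Ptab_s_53_58 (c : Nat) : Nat := @Bool.rec (fun _ => Nat) (Ptab_s_53_55 c) (Ptab_s_55_58 c) (Nat.ble 55 c)
noncomputable def Ptab_s_48_58 (c : Nat) : Nat := @Bool.rec (fun _ => Nat) (Ptab_s_48_53 c) (Ptab_s_53_58 c) (Nat.ble 53 c)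
noncomputable def Ptab_s_39_58 (c : Nat) : Nat := @Bool.rec (fun _ => Nat) (Ptab_s_39_48 c) (Ptab_s_48_58 c) (Nat.ble 48 c)
noncomputable def Ptab_s_58_60 (c : Nat) : Nat := @Bool.rec (fun _ => Nat) (Ptab_58) (Ptab_59) (Nat.ble 59 c)
noncomputable def Ptab_s_61_63 (c : Nat) : Nat := @Bool.rec (fun _ => Nat) (Ptab_61) (Ptab_62) (Nat.ble 62 c)
noncomputable def Ptab_s_60_63 (c : Nat) : Nat := @Bool.rec (fun _ => Nat) (Ptab_60) (Ptab_s_61_63 c) (Nat.ble 61 c)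
noncomputable def Ptab_s_58_63 (c : Nat) : Nat := @Bool.rec (fun _ => Nat) (Ptab_s_58_60 c) (Ptab_s_60_63 c) (Nat.ble 60 c)
noncomputable def Ptab_s_63_65 (c : Nat) : Nat := @Bool.rec (fun _ => Nat) (Ptab_63) (Ptab_64) (Nat.ble 64 c)
noncomputable def Ptab_s_66_68 (c : Nat) : Nat := @Bool.rec (fun _ => Nat) (Ptab_66) (Ptab_67) (Nat.ble 67 c)
noncomputable def Ptab_s_65_68 (c : Nat) : Nat := @Bool.rec (fun _ => Nat) (Ptab_65) (Ptab_s_66_68 c) (Nat.ble 66 c)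
noncomputable def Ptab_s_63_68 (c : Nat) : Nat := @Bool.rec (fun _ => Nat) (Ptab_s_63_65 c) (Ptab_s_65_68 c) (Nat.ble 65 c)
noncomputable def Ptab_s_58_68 (c : Nat) : Nat := @Bool.rec (fun _ => Nat) (Ptab_s_58_63 c) (Ptab_s_63_68 c) (Nat.ble 63 c)
noncomputable def Ptab_s_68_70 (c : Nat) : Nat := @Bool.rec (fun _ => Nat) (Ptab_68) (Ptab_69) (Nat.ble 69 c)
noncomputable def Ptab_s_71_73 (c : Nat) : Nat := @Bool.rec (fun _ => Nat) (Ptab_71) (Ptab_72) (Nat.ble 72 c)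
noncomputable def Ptab_s_70_73 (c : Nat) : Nat := @Bool.rec (fun _ => Nat) (Ptab_70) (Ptab_s_71_73 c) (Nat.ble 71 c)
noncomputable def Ptab_s_68_73 (c : Nat) : Nat := @Bool.rec (fun _ => Nat) (Ptab_s_68_70 c) (Ptab_s_70_73 c) (Nat.ble 70 c)
noncomputable def Ptab_s_73_75 (c : Nat) : Nat := @Bool.rec (fun _ => Nat) (Ptab_73) (Ptab_74) (Nat.ble 74 c)
noncomputable def Ptab_s_76_78 (c : Nat) : Nat := @Bool.rec (fun _ => Nat) (Ptab_76) (Ptab_77) (Nat.ble 77 c)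
noncomputable def Ptab_s_75_78 (c : Nat) : Nat := @Bool.rec (fun _ => Nat) (Ptab_75) (Ptab_s_76_78 c) (Nat.ble 76 c)
noncomputable def Ptab_s_73_78 (c : Nat) : Nat := @Bool.rec (fun _ => Nat) (Ptab_s_73_75 c) (Ptab_s_75_78 c) (Nat.ble 75 c)
noncomputable def Ptab_s_68_78 (c : Nat) : Nat := @Bool.rec (fun _ => Nat) (Ptab_s_68_73 c) (Ptab_s_73_78 c) (Nat.ble 73 c)
noncomputable def Ptab_s_58_78 (c : Nat) : Nat := @Bool.rec (fun _ => Nat) (Ptab_s_58_68 c) (Ptab_s_68_78 c) (Nat.ble 68 c)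
noncomputable def Ptab_s_39_78 (c : Nat) : Nat := @Bool.rec (fun _ => Nat) (Ptab_s_39_58 c) (Ptab_s_58_78 c) (Nat.ble 58 c)
noncomputable def Ptab_s_0_78 (c : Nat) : Nat := @Bool.rec (fun _ => Nat) (Ptab_s_0_39 c) (Ptab_s_39_78 c) (Nat.ble 39 c)
noncomputable def Ptab_s_78_80 (c : Nat) : Nat := @Bool.rec (fun _ => Nat) (Ptab_78) (Ptab_79) (Nat.ble 79 c)
noncomputable def Ptab_s_80_82 (c : Nat) : Nat := @Bool.rec (fun _ => Nat) (Ptab_80) (Ptab_81) (Nat.ble 81 c)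
noncomputable def Ptab_s_78_82 (c : Nat) : Nat := @Bool.rec (fun _ => Nat) (Ptab_s_78_80 c) (Ptab_s_80_82 c) (Nat.ble 80 c)
noncomputable def Ptab_s_82_84 (c : Nat) : Nat := @Bool.rec (fun _ => Nat) (Ptab_82) (Ptab_83) (Nat.ble 83 c)
noncomputable def Ptab_s_85_87 (c : Nat) : Nat := @Bool.rec (fun _ => Nat) (Ptab_85) (Ptab_86) (Nat.ble 86 c)
noncomputable def Ptab_s_84_87 (c : Nat) : Nat := @Bool.rec (fun _ => Nat) (Ptab_84) (Ptab_s_85_87 c) (Nat.ble 85 c)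
noncomputable def Ptab_s_82_87 (c : Nat) : Nat := @Bool.rec (fun _ => Nat) (Ptab_s_82_84 c) (Ptab_s_84_87 c) (Nat.ble 84 c)
noncomputable def Ptab_s_78_87 (c : Nat) : Nat := @Bool.rec (fun _ => Nat) (Ptab_s_78_82 c) (Ptab_s_82_87 c) (Nat.ble 82 c)
noncomputable def Ptab_s_87_89 (c : Nat) : Nat := @Bool.rec (fun _ => Nat) (Ptab_87) (Ptab_88) (Nat.ble 88 c)
noncomputable def Ptab_s_90_92 (c : Nat) : Nat := @Bool.rec (fun _ => Nat) (Ptab_90) (Ptab_91) (Nat.ble 91 c)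
noncomputable def Ptab_s_89_92 (c : Nat) : Nat := @Bool.rec (fun _ => Nat) (Ptab_89) (Ptab_s_90_92 c) (Nat.ble 90 c)
noncomputable def Ptab_s_87_92 (c : Nat) : Nat := @Bool.rec (fun _ => Nat) (Ptab_s_87_89 c) (Ptab_s_89_92 c) (Nat.ble 89 c)
noncomputable def Ptab_s_92_94 (c : Nat) : Nat := @Bool.rec (fun _ => Nat) (Ptab_92) (Ptab_93) (Nat.ble 93 c)
noncomputable def Ptab_s_95_97 (c : Nat) : Nat := @Bool.rec (fun _ => Nat) (Ptab_95) (Ptab_96) (Nat.ble 96 c)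
noncomputable def Ptab_s_94_97 (c : Nat) : Nat := @Bool.rec (fun _ => Nat) (Ptab_94) (Ptab_s_95_97 c) (Nat.ble 95 c)
noncomputable def Ptab_s_92_97 (c : Nat) : Nat := @Bool.rec (fun _ => Nat) (Ptab_s_92_94 c) (Ptab_s_94_97 c) (Nat.ble 94 c)
noncomputable def Ptab_s_87_97 (c : Nat) : Nat := @Bool.rec (fun _ => Nat) (Ptab_s_87_92 c) (Ptab_s_92_97 c) (Nat.ble 92 c)
noncomputable def Ptab_s_78_97 (c : Nat) : Nat := @Bool.rec (fun _ => Nat) (Ptab_s_78_87 c) (Ptab_s_87_97 c) (Nat.ble 87 c)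
noncomputable def Ptab_s_97_99 (c : Nat) : Nat := @Bool.rec (fun _ => Nat) (Ptab_97) (Ptab_98) (Nat.ble 98 c)
noncomputable def Ptab_s_100_102 (c : Nat) : Nat := @Bool.rec (fun _ => Nat) (Ptab_100) (Ptab_101) (Nat.ble 101 c)
noncomputable def Ptab_s_99_102 (c : Nat) : Nat := @Bool.rec (fun _ => Nat) (Ptab_99) (Ptab_s_100_102 c) (Nat.ble 100 c)
noncomputable def Ptab_s_97_102 (c : Nat) : Nat := @Bool.rec (fun _ => Nat) (Ptab_s_97_99 c) (Ptab_s_99_102 c) (Nat.ble 99 c)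
noncomputable def Ptab_s_102_104 (c : Nat) : Nat := @Bool.rec (fun _ => Nat) (Ptab_102) (Ptab_103) (Nat.ble 103 c)
noncomputable def Ptab_s_105_107 (c : Nat) : Nat := @Bool.rec (fun _ => Nat) (Ptab_105) (Ptab_106) (Nat.ble 106 c)
noncomputable def Ptab_s_104_107 (c : Nat) : Nat := @Bool.rec (fun _ => Nat) (Ptab_104) (Ptab_s_105_107 c) (Nat.ble 105 c)
noncomputable def Ptab_s_102_107 (c : Nat) : Nat := @Bool.rec (fun _ => Nat) (Ptab_s_102_104 c) (Ptab_s_104_107 c) (Nat.ble 104 c)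
noncomputable def Ptab_s_97_107 (c : Nat) : Nat := @Bool.rec (fun _ => Nat) (Ptab_s_97_102 c) (Ptab_s_102_107 c) (Nat.ble 102 c)
noncomputable def Ptab_s_107_109 (c : Nat) : Nat := @Bool.rec (fun _ => Nat) (Ptab_107) (Ptab_108) (Nat.ble 108 c)
noncomputable def Ptab_s_110_112 (c : Nat) : Nat := @Bool.rec (fun _ => Nat) (Ptab_110) (Ptab_111) (Nat.ble 111 c)
noncomputable def Ptab_s_109_112 (c : Nat) : Nat := @Bool.rec (fun _ => Nat) (Ptab_109) (Ptab_s_110_112 c) (Nat.ble 110 c)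
noncomputable def Ptab_s_107_112 (c : Nat) : Nat := @Bool.rec (fun _ => Nat) (Ptab_s_107_109 c) (Ptab_s_109_112 c) (Nat.ble 109 c)
noncomputable def Ptab_s_112_114 (c : Nat) : Nat := @Bool.rec (fun _ => Nat) (Ptab_112) (Ptab_113) (Nat.ble 113 c)
noncomputable def Ptab_s_115_117 (c : Nat) : Nat := @Bool.rec (fun _ => Nat) (Ptab_115) (Ptab_116) (Nat.ble 116 c)
noncomputable def Ptab_s_114_117 (c : Nat) : Nat := @Bool.rec (fun _ => Nat) (Ptab_114) (Ptab_s_115_117 c) (Nat.ble 115 c)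
noncomputable def Ptab_s_112_117 (c : Nat) : Nat := @Bool.rec (fun _ => Nat) (Ptab_s_112_114 c) (Ptab_s_114_117 c) (Nat.ble 114 c)
noncomputable def Ptab_s_107_117 (c : Nat) : Nat := @Bool.rec (fun _ => Nat) (Ptab_s_107_112 c) (Ptab_s_112_117 c) (Nat.ble 112 c)
noncomputable def Ptab_s_97_117 (c : Nat) : Nat := @Bool.rec (fun _ => Nat) (Ptab_s_97_107 c) (Ptab_s_107_117 c) (Nat.ble 107 c)
noncomputable def Ptab_s_78_117 (c : Nat) : Nat := @Bool.rec (fun _ => Nat) (Ptab_s_78_97 c) (Ptab_s_97_117 c) (Nat.ble 97 c)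
noncomputable def Ptab_s_117_119 (c : Nat) : Nat := @Bool.rec (fun _ => Nat) (Ptab_117) (Ptab_118) (Nat.ble 118 c)
noncomputable def Ptab_s_120_122 (c : Nat) : Nat := @Bool.rec (fun _ => Nat) (Ptab_120) (Ptab_121) (Nat.ble 121 c)
noncomputable def Ptab_s_119_122 (c : Nat) : Nat := @Bool.rec (fun _ => Nat) (Ptab_119) (Ptab_s_120_122 c) (Nat.ble 120 c)
noncomputable def Ptab_s_117_122 (c : Nat) : Nat := @Bool.rec (fun _ => Nat) (Ptab_s_117_119 c) (Ptab_s_119_122 c) (Nat.ble 119 c)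
noncomputable def Ptab_s_122_124 (c : Nat) : Nat := @Bool.rec (fun _ => Nat) (Ptab_122) (Ptab_123) (Nat.ble 123 c)
noncomputable def Ptab_s_125_127 (c : Nat) : Nat := @Bool.rec (fun _ => Nat) (Ptab_125) (Ptab_126) (Nat.ble 126 c)
noncomputable def Ptab_s_124_127 (c : Nat) : Nat := @Bool.rec (fun _ => Nat) (Ptab_124) (Ptab_s_125_127 c) (Nat.ble 125 c)
noncomputable def Ptab_s_122_127 (c : Nat) : Nat := @Bool.rec (fun _ => Nat) (Ptab_s_122_124 c) (Ptab_s_124_127 c) (Nat.ble 124 c)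
noncomputable def Ptab_s_117_127 (c : Nat) : Nat := @Bool.rec (fun _ => Nat) (Ptab_s_117_122 c) (Ptab_s_122_127 c) (Nat.ble 122 c)
noncomputable def Ptab_s_127_129 (c : Nat) : Nat := @Bool.rec (fun _ => Nat) (Ptab_127) (Ptab_128) (Nat.ble 128 c)
noncomputable def Ptab_s_130_132 (c : Nat) : Nat := @Bool.rec (fun _ => Nat) (Ptab_130) (Ptab_131) (Nat.ble 131 c)
noncomputable def Ptab_s_129_132 (c : Nat) : Nat := @Bool.rec (fun _ => Nat) (Ptab_129) (Ptab_s_130_132 c) (Nat.ble 130 c)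
noncomputable def Ptab_s_127_132 (c : Nat) : Nat := @Bool.rec (fun _ => Nat) (Ptab_s_127_129 c) (Ptab_s_129_132 c) (Nat.ble 129 c)
noncomputable def Ptab_s_132_134 (c : Nat) : Nat := @Bool.rec (fun _ => Nat) (Ptab_132) (Ptab_133) (Nat.ble 133 c)
noncomputable def Ptab_s_135_137 (c : Nat) : Nat := @Bool.rec (fun _ => Nat) (Ptab_135) (Ptab_136) (Nat.ble 136 c)
noncomputable def Ptab_s_134_137 (c : Nat) : Nat := @Bool.rec (fun _ => Nat) (Ptab_134) (Ptab_s_135_137 c) (Nat.ble 135 c)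
noncomputable def Ptab_s_132_137 (c : Nat) : Nat := @Bool.rec (fun _ => Nat) (Ptab_s_132_134 c) (Ptab_s_134_137 c) (Nat.ble 134 c)
noncomputable def Ptab_s_127_137 (c : Nat) : Nat := @Bool.rec (fun _ => Nat) (Ptab_s_127_132 c) (Ptab_s_132_137 c) (Nat.ble 132 c)
noncomputable def Ptab_s_117_137 (c : Nat) : Nat := @Bool.rec (fun _ => Nat) (Ptab_s_117_127 c) (Ptab_s_127_137 c) (Nat.ble 127 c)
noncomputable def Ptab_s_137_139 (c : Nat) : Nat := @Bool.rec (fun _ => Nat) (Ptab_137) (Ptab_138) (Nat.ble 138 c)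
noncomputable def Ptab_s_140_142 (c : Nat) : Nat := @Bool.rec (fun _ => Nat) (Ptab_140) (Ptab_141) (Nat.ble 141 c)
noncomputable def Ptab_s_139_142 (c : Nat) : Nat := @Bool.rec (fun _ => Nat) (Ptab_139) (Ptab_s_140_142 c) (Nat.ble 140 c)
noncomputable def Ptab_s_137_142 (c : Nat) : Nat := @Bool.rec (fun _ => Nat) (Ptab_s_137_139 c) (Ptab_s_139_142 c) (Nat.ble 139 c)
noncomputable def Ptab_s_142_144 (c : Nat) : Nat := @Bool.rec (fun _ => Nat) (Ptab_142) (Ptab_143) (Nat.ble 143 c)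
noncomputable def Ptab_s_145_147 (c : Nat) : Nat := @Bool.rec (fun _ => Nat) (Ptab_145) (Ptab_146) (Nat.ble 146 c)
noncomputable def Ptab_s_144_147 (c : Nat) : Nat := @Bool.rec (fun _ => Nat) (Ptab_144) (Ptab_s_145_147 c) (Nat.ble 145 c)
noncomputable def Ptab_s_142_147 (c : Nat) : Nat := @Bool.rec (fun _ => Nat) (Ptab_s_142_144 c) (Ptab_s_144_147 c) (Nat.ble 144 c)
noncomputable def Ptab_s_137_147 (c : Nat) : Nat := @Bool.rec (fun _ => Nat) (Ptab_s_137_142 c) (Ptab_s_142_147 c) (Nat.ble 142 c)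
noncomputable def Ptab_s_147_149 (c : Nat) : Nat := @Bool.rec (fun _ => Nat) (Ptab_147) (Ptab_148) (Nat.ble 148 c)
noncomputable def Ptab_s_150_152 (c : Nat) : Nat := @Bool.rec (fun _ => Nat) (Ptab_150) (Ptab_151) (Nat.ble 151 c)
noncomputable def Ptab_s_149_152 (c : Nat) : Nat := @Bool.rec (fun _ => Nat) (Ptab_149) (Ptab_s_150_152 c) (Nat.ble 150 c)
noncomputable def Ptab_s_147_152 (c : Nat) : Nat := @Bool.rec (fun _ => Nat) (Ptab_s_147_149 c) (Ptab_s_149_152 c) (Nat.ble 149 c)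
noncomputable def Ptab_s_152_154 (c : Nat) : Nat := @Bool.rec (fun _ => Nat) (Ptab_152) (Ptab_153) (Nat.ble 153 c)
noncomputable def Ptab_s_155_157 (c : Nat) : Nat := @Bool.rec (fun _ => Nat) (Ptab_155) (Ptab_156) (Nat.ble 156 c)
noncomputable def Ptab_s_154_157 (c : Nat) : Nat := @Bool.rec (fun _ => Nat) (Ptab_154) (Ptab_s_155_157 c) (Nat.ble 155 c)
noncomputable def Ptab_s_152_157 (c : Nat) : Nat := @Bool.rec (fun _ => Nat) (Ptab_s_152_154 c) (Ptab_s_154_157 c) (Nat.ble 154 c)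
noncomputable def Ptab_s_147_157 (c : Nat) : Nat := @Bool.rec (fun _ => Nat) (Ptab_s_147_152 c) (Ptab_s_152_157 c) (Nat.ble 152 c)
noncomputable def Ptab_s_137_157 (c : Nat) : Nat := @Bool.rec (fun _ => Nat) (Ptab_s_137_147 c) (Ptab_s_147_157 c) (Nat.ble 147 c)
noncomputable def Ptab_s_117_157 (c : Nat) : Nat := @Bool.rec (fun _ => Nat) (Ptab_s_117_137 c) (Ptab_s_137_157 c) (Nat.ble 137 c)
noncomputable def Ptab_s_78_157 (c : Nat) : Nat := @Bool.rec (fun _ => Nat) (Ptab_s_78_117 c) (Ptab_s_117_157 c) (Nat.ble 117 c)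
noncomputable def Ptab_s_0_157 (c : Nat) : Nat := @Bool.rec (fun _ => Nat) (Ptab_s_0_78 c) (Ptab_s_78_157 c) (Nat.ble 78 c)
noncomputable def Ptab_s_157_159 (c : Nat) : Nat := @Bool.rec (fun _ => Nat) (Ptab_157) (Ptab_158) (Nat.ble 158 c)
noncomputable def Ptab_s_159_161 (c : Nat) : Nat := @Bool.rec (fun _ => Nat) (Ptab_159) (Ptab_160) (Nat.ble 160 c)
noncomputable def Ptab_s_157_161 (c : Nat) : Nat := @Bool.rec (fun _ => Nat) (Ptab_s_157_159 c) (Ptab_s_159_161 c) (Nat.ble 159 c)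
noncomputable def Ptab_s_161_163 (c : Nat) : Nat := @Bool.rec (fun _ => Nat) (Ptab_161) (Ptab_162) (Nat.ble 162 c)
noncomputable def Ptab_s_164_166 (c : Nat) : Nat := @Bool.rec (fun _ => Nat) (Ptab_164) (Ptab_165) (Nat.ble 165 c)
noncomputable def Ptab_s_163_166 (c : Nat) : Nat := @Bool.rec (fun _ => Nat) (Ptab_163) (Ptab_s_164_166 c) (Nat.ble 164 c)
noncomputable def Ptab_s_161_166 (c : Nat) : Nat := @Bool.rec (fun _ => Nat) (Ptab_s_161_163 c) (Ptab_s_163_166 c) (Nat.ble 163 c)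
noncomputable def Ptab_s_157_166 (c : Nat) : Nat := @Bool.rec (fun _ => Nat) (Ptab_s_157_161 c) (Ptab_s_161_166 c) (Nat.ble 161 c)
noncomputable def Ptab_s_166_168 (c : Nat) : Nat := @Bool.rec (fun _ => Nat) (Ptab_166) (Ptab_167) (Nat.ble 167 c)
noncomputable def Ptab_s_169_171 (c : Nat) : Nat := @Bool.rec (fun _ => Nat) (Ptab_169) (Ptab_170) (Nat.ble 170 c)
noncomputable def Ptab_s_168_171 (c : Nat) : Nat := @Bool.rec (fun _ => Nat) (Ptab_168) (Ptab_s_169_171 c) (Nat.ble 169 c)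
noncomputable def Ptab_s_166_171 (c : Nat) : Nat := @Bool.rec (fun _ => Nat) (Ptab_s_166_168 c) (Ptab_s_168_171 c) (Nat.ble 168 c)
noncomputable def Ptab_s_171_173 (c : Nat) : Nat := @Bool.rec (fun _ => Nat) (Ptab_171) (Ptab_172) (Nat.ble 172 c)
noncomputable def Ptab_s_174_176 (c : Nat) : Nat := @Bool.rec (fun _ => Nat) (Ptab_174) (Ptab_175) (Nat.ble 175 c)
noncomputable def Ptab_s_173_176 (c : Nat) : Nat := @Bool.rec (fun _ => Nat) (Ptab_173) (Ptab_s_174_176 c) (Nat.ble 174 c)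
noncomputable def Ptab_s_171_176 (c : Nat) : Nat := @Bool.rec (fun _ => Nat) (Ptab_s_171_173 c) (Ptab_s_173_176 c) (Nat.ble 173 c)
noncomputable def Ptab_s_166_176 (c : Nat) : Nat := @Bool.rec (fun _ => Nat) (Ptab_s_166_171 c) (Ptab_s_171_176 c) (Nat.ble 171 c)
noncomputable def Ptab_s_157_176 (c : Nat) : Nat := @Bool.rec (fun _ => Nat) (Ptab_s_157_166 c) (Ptab_s_166_176 c) (Nat.ble 166 c)
noncomputable def Ptab_s_176_178 (c : Nat) : Nat := @Bool.rec (fun _ => Nat) (Ptab_176) (Ptab_177) (Nat.ble 177 c)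
noncomputable def Ptab_s_179_181 (c : Nat) : Nat := @Bool.rec (fun _ => Nat) (Ptab_179) (Ptab_180) (Nat.ble 180 c)
noncomputable def Ptab_s_178_181 (c : Nat) : Nat := @Bool.rec (fun _ => Nat) (Ptab_178) (Ptab_s_179_181 c) (Nat.ble 179 c)
noncomputable def Ptab_s_176_181 (c : Nat) : Nat := @Bool.rec (fun _ => Nat) (Ptab_s_176_178 c) (Ptab_s_178_181 c) (Nat.ble 178 c)
noncomputable def Ptab_s_181_183 (c : Nat) : Nat := @Bool.rec (fun _ => Nat) (Ptab_181) (Ptab_182) (Nat.ble 182 c)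
noncomputable def Ptab_s_184_186 (c : Nat) : Nat := @Bool.rec (fun _ => Nat) (Ptab_184) (Ptab_185) (Nat.ble 185 c)
noncomputable def Ptab_s_183_186 (c : Nat) : Nat := @Bool.rec (fun _ => Nat) (Ptab_183) (Ptab_s_184_186 c) (Nat.ble 184 c)
noncomputable def Ptab_s_181_186 (c : Nat) : Nat := @Bool.rec (fun _ => Nat) (Ptab_s_181_183 c) (Ptab_s_183_186 c) (Nat.ble 183 c)
noncomputable def Ptab_s_176_186 (c : Nat) : Nat := @Bool.rec (fun _ => Nat) (Ptab_s_176_181 c) (Ptab_s_181_186 c) (Nat.ble 181 c)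
noncomputable def Ptab_s_186_188 (c : Nat) : Nat := @Bool.rec (fun _ => Nat) (Ptab_186) (Ptab_187) (Nat.ble 187 c)
noncomputable def Ptab_s_189_191 (c : Nat) : Nat := @Bool.rec (fun _ => Nat) (Ptab_189) (Ptab_190) (Nat.ble 190 c)
noncomputable def Ptab_s_188_191 (c : Nat) : Nat := @Bool.rec (fun _ => Nat) (Ptab_188) (Ptab_s_189_191 c) (Nat.ble 189 c)
noncomputable def Ptab_s_186_191 (c : Nat) : Nat := @Bool.rec (fun _ => Nat) (Ptab_s_186_188 c) (Ptab_s_188_191 c) (Nat.ble 188 c)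
noncomputable def Ptab_s_191_193 (c : Nat) : Nat := @Bool.rec (fun _ => Nat) (Ptab_191) (Ptab_192) (Nat.ble 192 c)
noncomputable def Ptab_s_194_196 (c : Nat) : Nat := @Bool.rec (fun _ => Nat) (Ptab_194) (Ptab_195) (Nat.ble 195 c)
noncomputable def Ptab_s_193_196 (c : Nat) : Nat := @Bool.rec (fun _ => Nat) (Ptab_193) (Ptab_s_194_196 c) (Nat.ble 194 c)
noncomputable def Ptab_s_191_196 (c : Nat) : Nat := @Bool.rec (fun _ => Nat) (Ptab_s_191_193 c) (Ptab_s_193_196 c) (Nat.ble 193 c)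
noncomputable def Ptab_s_186_196 (c : Nat) : Nat := @Bool.rec (fun _ => Nat) (Ptab_s_186_191 c) (Ptab_s_191_196 c) (Nat.ble 191 c)
noncomputable def Ptab_s_176_196 (c : Nat) : Nat := @Bool.rec (fun _ => Nat) (Ptab_s_176_186 c) (Ptab_s_186_196 c) (Nat.ble 186 c)
noncomputable def Ptab_s_157_196 (c : Nat) : Nat := @Bool.rec (fun _ => Nat) (Ptab_s_157_176 c) (Ptab_s_176_196 c) (Nat.ble 176 c)
noncomputable def Ptab_s_196_198 (c : Nat) : Nat := @Bool.rec (fun _ => Nat) (Ptab_196) (Ptab_197) (Nat.ble 197 c)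
noncomputable def Ptab_s_199_201 (c : Nat) : Nat := @Bool.rec (fun _ => Nat) (Ptab_199) (Ptab_200) (Nat.ble 200 c)
noncomputable def Ptab_s_198_201 (c : Nat) : Nat := @Bool.rec (fun _ => Nat) (Ptab_198) (Ptab_s_199_201 c) (Nat.ble 199 c)
noncomputable def Ptab_s_196_201 (c : Nat) : Nat := @Bool.rec (fun _ => Nat) (Ptab_s_196_198 c) (Ptab_s_198_201 c) (Nat.ble 198 c)
noncomputable def Ptab_s_201_203 (c : Nat) : Nat := @Bool.rec (fun _ => Nat) (Ptab_201) (Ptab_202) (Nat.ble 202 c)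
noncomputable def Ptab_s_204_206 (c : Nat) : Nat := @Bool.rec (fun _ => Nat) (Ptab_204) (Ptab_205) (Nat.ble 205 c)
noncomputable def Ptab_s_203_206 (c : Nat) : Nat := @Bool.rec (fun _ => Nat) (Ptab_203) (Ptab_s_204_206 c) (Nat.ble 204 c)
noncomputable def Ptab_s_201_206 (c : Nat) : Nat := @Bool.rec (fun _ => Nat) (Ptab_s_201_203 c) (Ptab_s_203_206 c) (Nat.ble 203 c)
noncomputable def Ptab_s_196_206 (c : Nat) : Nat := @Bool.rec (fun _ => Nat) (Ptab_s_196_201 c) (Ptab_s_201_206 c) (Nat.ble 201 c)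
noncomputable def Ptab_s_206_208 (c : Nat) : Nat := @Bool.rec (fun _ => Nat) (Ptab_206) (Ptab_207) (Nat.ble 207 c)
noncomputable def Ptab_s_209_211 (c : Nat) : Nat := @Bool.rec (fun _ => Nat) (Ptab_209) (Ptab_210) (Nat.ble 210 c)
noncomputable def Ptab_s_208_211 (c : Nat) : Nat := @Bool.rec (fun _ => Nat) (Ptab_208) (Ptab_s_209_211 c) (Nat.ble 209 c)
noncomputable def Ptab_s_206_211 (c : Nat) : Nat := @Bool.rec (fun _ => Nat) (Ptab_s_206_208 c) (Ptab_s_208_211 c) (Nat.ble 208 c)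
noncomputable def Ptab_s_211_213 (c : Nat) : Nat := @Bool.rec (fun _ => Nat) (Ptab_211) (Ptab_212) (Nat.ble 212 c)
noncomputable def Ptab_s_214_216 (c : Nat) : Nat := @Bool.rec (fun _ => Nat) (Ptab_214) (Ptab_215) (Nat.ble 215 c)
noncomputable def Ptab_s_213_216 (c : Nat) : Nat := @Bool.rec (fun _ => Nat) (Ptab_213) (Ptab_s_214_216 c) (Nat.ble 214 c)
noncomputable def Ptab_s_211_216 (c : Nat) : Nat := @Bool.rec (fun _ => Nat) (Ptab_s_211_213 c) (Ptab_s_213_216 c) (Nat.ble 213 c)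
noncomputable def Ptab_s_206_216 (c : Nat) : Nat := @Bool.rec (fun _ => Nat) (Ptab_s_206_211 c) (Ptab_s_211_216 c) (Nat.ble 211 c)
noncomputable def Ptab_s_196_216 (c : Nat) : Nat := @Bool.rec (fun _ => Nat) (Ptab_s_196_206 c) (Ptab_s_206_216 c) (Nat.ble 206 c)
noncomputable def Ptab_s_216_218 (c : Nat) : Nat := @Bool.rec (fun _ => Nat) (Ptab_216) (Ptab_217) (Nat.ble 217 c)
noncomputable def Ptab_s_219_221 (c : Nat) : Nat := @Bool.rec (fun _ => Nat) (Ptab_219) (Ptab_220) (Nat.ble 220 c)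
noncomputable def Ptab_s_218_221 (c : Nat) : Nat := @Bool.rec (fun _ => Nat) (Ptab_218) (Ptab_s_219_221 c) (Nat.ble 219 c)
noncomputable def Ptab_s_216_221 (c : Nat) : Nat := @Bool.rec (fun _ => Nat) (Ptab_s_216_218 c) (Ptab_s_218_221 c) (Nat.ble 218 c)
noncomputable def Ptab_s_221_223 (c : Nat) : Nat := @Bool.rec (fun _ => Nat) (Ptab_221) (Ptab_222) (Nat.ble 222 c)
noncomputable def Ptab_s_224_226 (c : Nat) : Nat := @Bool.rec (fun _ => Nat) (Ptab_224) (Ptab_225) (Nat.ble 225 c)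
noncomputable def Ptab_s_223_226 (c : Nat) : Nat := @Bool.rec (fun _ => Nat) (Ptab_223) (Ptab_s_224_226 c) (Nat.ble 224 c)
noncomputable def Ptab_s_221_226 (c : Nat) : Nat := @Bool.rec (fun _ => Nat) (Ptab_s_221_223 c) (Ptab_s_223_226 c) (Nat.ble 223 c)
noncomputable def Ptab_s_216_226 (c : Nat) : Nat := @Bool.rec (fun _ => Nat) (Ptab_s_216_221 c) (Ptab_s_221_226 c) (Nat.ble 221 c)
noncomputable def Ptab_s_226_228 (c : Nat) : Nat := @Bool.rec (fun _ => Nat) (Ptab_226) (Ptab_227) (Nat.ble 227 c)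
noncomputable def Ptab_s_229_231 (c : Nat) : Nat := @Bool.rec (fun _ => Nat) (Ptab_229) (Ptab_230) (Nat.ble 230 c)
noncomputable def Ptab_s_228_231 (c : Nat) : Nat := @Bool.rec (fun _ => Nat) (Ptab_228) (Ptab_s_229_231 c) (Nat.ble 229 c)
noncomputable def Ptab_s_226_231 (c : Nat) : Nat := @Bool.rec (fun _ => Nat) (Ptab_s_226_228 c) (Ptab_s_228_231 c) (Nat.ble 228 c)
noncomputable def Ptab_s_231_233 (c : Nat) : Nat := @Bool.rec (fun _ => Nat) (Ptab_231) (Ptab_232) (Nat.ble 232 c)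
noncomputable def Ptab_s_234_236 (c : Nat) : Nat := @Bool.rec (fun _ => Nat) (Ptab_234) (Ptab_235) (Nat.ble 235 c)
noncomputable def Ptab_s_233_236 (c : Nat) : Nat := @Bool.rec (fun _ => Nat) (Ptab_233) (Ptab_s_234_236 c) (Nat.ble 234 c)
noncomputable def Ptab_s_231_236 (c : Nat) : Nat := @Bool.rec (fun _ => Nat) (Ptab_s_231_233 c) (Ptab_s_233_236 c) (Nat.ble 233 c)
noncomputable def Ptab_s_226_236 (c : Nat) : Nat := @Bool.rec (fun _ => Nat) (Ptab_s_226_231 c) (Ptab_s_231_236 c) (Nat.ble 231 c)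
noncomputable def Ptab_s_216_236 (c : Nat) : Nat := @Bool.rec (fun _ => Nat) (Ptab_s_216_226 c) (Ptab_s_226_236 c) (Nat.ble 226 c)
noncomputable def Ptab_s_196_236 (c : Nat) : Nat := @Bool.rec (fun _ => Nat) (Ptab_s_196_216 c) (Ptab_s_216_236 c) (Nat.ble 216 c)
noncomputable def Ptab_s_157_236 (c : Nat) : Nat := @Bool.rec (fun _ => Nat) (Ptab_s_157_196 c) (Ptab_s_196_236 c) (Nat.ble 196 c)
noncomputable def Ptab_s_236_238 (c : Nat) : Nat := @Bool.rec (fun _ => Nat) (Ptab_236) (Ptab_237) (Nat.ble 237 c)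
noncomputable def Ptab_s_238_240 (c : Nat) : Nat := @Bool.rec (fun _ => Nat) (Ptab_238) (Ptab_239) (Nat.ble 239 c)
noncomputable def Ptab_s_236_240 (c : Nat) : Nat := @Bool.rec (fun _ => Nat) (Ptab_s_236_238 c) (Ptab_s_238_240 c) (Nat.ble 238 c)
noncomputable def Ptab_s_240_242 (c : Nat) : Nat := @Bool.rec (fun _ => Nat) (Ptab_240) (Ptab_241) (Nat.ble 241 c)
noncomputable def Ptab_s_243_245 (c : Nat) : Nat := @Bool.rec (fun _ => Nat) (Ptab_243) (Ptab_244) (Nat.ble 244 c)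
noncomputable def Ptab_s_242_245 (c : Nat) : Nat := @Bool.rec (fun _ => Nat) (Ptab_242) (Ptab_s_243_245 c) (Nat.ble 243 c)
noncomputable def Ptab_s_240_245 (c : Nat) : Nat := @Bool.rec (fun _ => Nat) (Ptab_s_240_242 c) (Ptab_s_242_245 c) (Nat.ble 242 c)
noncomputable def Ptab_s_236_245 (c : Nat) : Nat := @Bool.rec (fun _ => Nat) (Ptab_s_236_240 c) (Ptab_s_240_245 c) (Nat.ble 240 c)
noncomputable def Ptab_s_245_247 (c : Nat) : Nat := @Bool.rec (fun _ => Nat) (Ptab_245) (Ptab_246) (Nat.ble 246 c)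
noncomputable def Ptab_s_248_250 (c : Nat) : Nat := @Bool.rec (fun _ => Nat) (Ptab_248) (Ptab_249) (Nat.ble 249 c)
noncomputable def Ptab_s_247_250 (c : Nat) : Nat := @Bool.rec (fun _ => Nat) (Ptab_247) (Ptab_s_248_250 c) (Nat.ble 248 c)
noncomputable def Ptab_s_245_250 (c : Nat) : Nat := @Bool.rec (fun _ => Nat) (Ptab_s_245_247 c) (Ptab_s_247_250 c) (Nat.ble 247 c)
noncomputable def Ptab_s_250_252 (c : Nat) : Nat := @Bool.rec (fun _ => Nat) (Ptab_250) (Ptab_251) (Nat.ble 251 c)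
noncomputable def Ptab_s_253_255 (c : Nat) : Nat := @Bool.rec (fun _ => Nat) (Ptab_253) (Ptab_254) (Nat.ble 254 c)
noncomputable def Ptab_s_252_255 (c : Nat) : Nat := @Bool.rec (fun _ => Nat) (Ptab_252) (Ptab_s_253_255 c) (Nat.ble 253 c)
noncomputable def Ptab_s_250_255 (c : Nat) : Nat := @Bool.rec (fun _ => Nat) (Ptab_s_250_252 c) (Ptab_s_252_255 c) (Nat.ble 252 c)
noncomputable def Ptab_s_245_255 (c : Nat) : Nat := @Bool.rec (fun _ => Nat) (Ptab_s_245_250 c) (Ptab_s_250_255 c) (Nat.ble 250 c)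
noncomputable def Ptab_s_236_255 (c : Nat) : Nat := @Bool.rec (fun _ => Nat) (Ptab_s_236_245 c) (Ptab_s_245_255 c) (Nat.ble 245 c)
noncomputable def Ptab_s_255_257 (c : Nat) : Nat := @Bool.rec (fun _ => Nat) (Ptab_255) (Ptab_256) (Nat.ble 256 c)
noncomputable def Ptab_s_258_260 (c : Nat) : Nat := @Bool.rec (fun _ => Nat) (Ptab_258) (Ptab_259) (Nat.ble 259 c)
noncomputable def Ptab_s_257_260 (c : Nat) : Nat := @Bool.rec (fun _ => Nat) (Ptab_257) (Ptab_s_258_260 c) (Nat.ble 258 c)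
noncomputable def Ptab_s_255_260 (c : Nat) : Nat := @Bool.rec (fun _ => Nat) (Ptab_s_255_257 c) (Ptab_s_257_260 c) (Nat.ble 257 c)
noncomputable def Ptab_s_260_262 (c : Nat) : Nat := @Bool.rec (fun _ => Nat) (Ptab_260) (Ptab_261) (Nat.ble 261 c)
noncomputable def Ptab_s_263_265 (c : Nat) : Nat := @Bool.rec (fun _ => Nat) (Ptab_263) (Ptab_264) (Nat.ble 264 c)
noncomputable def Ptab_s_262_265 (c : Nat) : Nat := @Bool.rec (fun _ => Nat) (Ptab_262) (Ptab_s_263_265 c) (Nat.ble 263 c)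
noncomputable def Ptab_s_260_265 (c : Nat) : Nat := @Bool.rec (fun _ => Nat) (Ptab_s_260_262 c) (Ptab_s_262_265 c) (Nat.ble 262 c)
noncomputable def Ptab_s_255_265 (c : Nat) : Nat := @Bool.rec (fun _ => Nat) (Ptab_s_255_260 c) (Ptab_s_260_265 c) (Nat.ble 260 c)
noncomputable def Ptab_s_265_267 (c : Nat) : Nat := @Bool.rec (fun _ => Nat) (Ptab_265) (Ptab_266) (Nat.ble 266 c)
noncomputable def Ptab_s_268_270 (c : Nat) : Nat := @Bool.rec (fun _ => Nat) (Ptab_268) (Ptab_269) (Nat.ble 269 c)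
noncomputable def Ptab_s_267_270 (c : Nat) : Nat := @Bool.rec (fun _ => Nat) (Ptab_267) (Ptab_s_268_270 c) (Nat.ble 268 c)
noncomputable def Ptab_s_265_270 (c : Nat) : Nat := @Bool.rec (fun _ => Nat) (Ptab_s_265_267 c) (Ptab_s_267_270 c) (Nat.ble 267 c)
noncomputable def Ptab_s_270_272 (c : Nat) : Nat := @Bool.rec (fun _ => Nat) (Ptab_270) (Ptab_271) (Nat.ble 271 c)
noncomputable def Ptab_s_273_275 (c : Nat) : Nat := @Bool.rec (fun _ => Nat) (Ptab_273) (Ptab_274) (Nat.ble 274 c)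
noncomputable def Ptab_s_272_275 (c : Nat) : Nat := @Bool.rec (fun _ => Nat) (Ptab_272) (Ptab_s_273_275 c) (Nat.ble 273 c)
noncomputable def Ptab_s_270_275 (c : Nat) : Nat := @Bool.rec (fun _ => Nat) (Ptab_s_270_272 c) (Ptab_s_272_275 c) (Nat.ble 272 c)
noncomputable def Ptab_s_265_275 (c : Nat) : Nat := @Bool.rec (fun _ => Nat) (Ptab_s_265_270 c) (Ptab_s_270_275 c) (Nat.ble 270 c)
noncomputable def Ptab_s_255_275 (c : Nat) : Nat := @Bool.rec (fun _ => Nat) (Ptab_s_255_265 c) (Ptab_s_265_275 c) (Nat.ble 265 c)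
noncomputable def Ptab_s_236_275 (c : Nat) : Nat := @Bool.rec (fun _ => Nat) (Ptab_s_236_255 c) (Ptab_s_255_275 c) (Nat.ble 255 c)
noncomputable def Ptab_s_275_277 (c : Nat) : Nat := @Bool.rec (fun _ => Nat) (Ptab_275) (Ptab_276) (Nat.ble 276 c)
noncomputable def Ptab_s_278_280 (c : Nat) : Nat := @Bool.rec (fun _ => Nat) (Ptab_278) (Ptab_279) (Nat.ble 279 c)
noncomputable def Ptab_s_277_280 (c : Nat) : Nat := @Bool.rec (fun _ => Nat) (Ptab_277) (Ptab_s_278_280 c) (Nat.ble 278 c)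
noncomputable def Ptab_s_275_280 (c : Nat) : Nat := @Bool.rec (fun _ => Nat) (Ptab_s_275_277 c) (Ptab_s_277_280 c) (Nat.ble 277 c)
noncomputable def Ptab_s_280_282 (c : Nat) : Nat := @Bool.rec (fun _ => Nat) (Ptab_280) (Ptab_281) (Nat.ble 281 c)
noncomputable def Ptab_s_283_285 (c : Nat) : Nat := @Bool.rec (fun _ => Nat) (Ptab_283) (Ptab_284) (Nat.ble 284 c)
noncomputable def Ptab_s_282_285 (c : Nat) : Nat := @Bool.rec (fun _ => Nat) (Ptab_282) (Ptab_s_283_285 c) (Nat.ble 283 c)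
noncomputable def Ptab_s_280_285 (c : Nat) : Nat := @Bool.rec (fun _ => Nat) (Ptab_s_280_282 c) (Ptab_s_282_285 c) (Nat.ble 282 c)
noncomputable def Ptab_s_275_285 (c : Nat) : Nat := @Bool.rec (fun _ => Nat) (Ptab_s_275_280 c) (Ptab_s_280_285 c) (Nat.ble 280 c)
noncomputable def Ptab_s_285_287 (c : Nat) : Nat := @Bool.rec (fun _ => Nat) (Ptab_285) (Ptab_286) (Nat.ble 286 c)
noncomputable def Ptab_s_288_290 (c : Nat) : Nat := @Bool.rec (fun _ => Nat) (Ptab_288) (Ptab_289) (Nat.ble 289 c)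
noncomputable def Ptab_s_287_290 (c : Nat) : Nat := @Bool.rec (fun _ => Nat) (Ptab_287) (Ptab_s_288_290 c) (Nat.ble 288 c)
noncomputable def Ptab_s_285_290 (c : Nat) : Nat := @Bool.rec (fun _ => Nat) (Ptab_s_285_287 c) (Ptab_s_287_290 c) (Nat.ble 287 c)
noncomputable def Ptab_s_290_292 (c : Nat) : Nat := @Bool.rec (fun _ => Nat) (Ptab_290) (Ptab_291) (Nat.ble 291 c)
noncomputable def Ptab_s_293_295 (c : Nat) : Nat := @Bool.rec (fun _ => Nat) (Ptab_293) (Ptab_294) (Nat.ble 294 c)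
noncomputable def Ptab_s_292_295 (c : Nat) : Nat := @Bool.rec (fun _ => Nat) (Ptab_292) (Ptab_s_293_295 c) (Nat.ble 293 c)
noncomputable def Ptab_s_290_295 (c : Nat) : Nat := @Bool.rec (fun _ => Nat) (Ptab_s_290_292 c) (Ptab_s_292_295 c) (Nat.ble 292 c)
noncomputable def Ptab_s_285_295 (c : Nat) : Nat := @Bool.rec (fun _ => Nat) (Ptab_s_285_290 c) (Ptab_s_290_295 c) (Nat.ble 290 c)
noncomputable def Ptab_s_275_295 (c : Nat) : Nat := @Bool.rec (fun _ => Nat) (Ptab_s_275_285 c) (Ptab_s_285_295 c) (Nat.ble 285 c)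
noncomputable def Ptab_s_295_297 (c : Nat) : Nat := @Bool.rec (fun _ => Nat) (Ptab_295) (Ptab_296) (Nat.ble 296 c)
noncomputable def Ptab_s_298_300 (c : Nat) : Nat := @Bool.rec (fun _ => Nat) (Ptab_298) (Ptab_299) (Nat.ble 299 c)
noncomputable def Ptab_s_297_300 (c : Nat) : Nat := @Bool.rec (fun _ => Nat) (Ptab_297) (Ptab_s_298_300 c) (Nat.ble 298 c)
noncomputable def Ptab_s_295_300 (c : Nat) : Nat := @Bool.rec (fun _ => Nat) (Ptab_s_295_297 c) (Ptab_s_297_300 c) (Nat.ble 297 c)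
noncomputable def Ptab_s_300_302 (c : Nat) : Nat := @Bool.rec (fun _ => Nat) (Ptab_300) (Ptab_301) (Nat.ble 301 c)
noncomputable def Ptab_s_303_305 (c : Nat) : Nat := @Bool.rec (fun _ => Nat) (Ptab_303) (Ptab_304) (Nat.ble 304 c)
noncomputable def Ptab_s_302_305 (c : Nat) : Nat := @Bool.rec (fun _ => Nat) (Ptab_302) (Ptab_s_303_305 c) (Nat.ble 303 c)
noncomputable def Ptab_s_300_305 (c : Nat) : Nat := @Bool.rec (fun _ => Nat) (Ptab_s_300_302 c) (Ptab_s_302_305 c) (Nat.ble 302 c)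
noncomputable def Ptab_s_295_305 (c : Nat) : Nat := @Bool.rec (fun _ => Nat) (Ptab_s_295_300 c) (Ptab_s_300_305 c) (Nat.ble 300 c)
noncomputable def Ptab_s_305_307 (c : Nat) : Nat := @Bool.rec (fun _ => Nat) (Ptab_305) (Ptab_306) (Nat.ble 306 c)
noncomputable def Ptab_s_308_310 (c : Nat) : Nat := @Bool.rec (fun _ => Nat) (Ptab_308) (Ptab_309) (Nat.ble 309 c)
noncomputable def Ptab_s_307_310 (c : Nat) : Nat := @Bool.rec (fun _ => Nat) (Ptab_307) (Ptab_s_308_310 c) (Nat.ble 308 c)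
noncomputable def Ptab_s_305_310 (c : Nat) : Nat := @Bool.rec (fun _ => Nat) (Ptab_s_305_307 c) (Ptab_s_307_310 c) (Nat.ble 307 c)
noncomputable def Ptab_s_310_312 (c : Nat) : Nat := @Bool.rec (fun _ => Nat) (Ptab_310) (Ptab_311) (Nat.ble 311 c)
noncomputable def Ptab_s_313_315 (c : Nat) : Nat := @Bool.rec (fun _ => Nat) (Ptab_313) (Ptab_314) (Nat.ble 314 c)
noncomputable def Ptab_s_312_315 (c : Nat) : Nat := @Bool.rec (fun _ => Nat) (Ptab_312) (Ptab_s_313_315 c) (Nat.ble 313 c)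
noncomputable def Ptab_s_310_315 (c : Nat) : Nat := @Bool.rec (fun _ => Nat) (Ptab_s_310_312 c) (Ptab_s_312_315 c) (Nat.ble 312 c)
noncomputable def Ptab_s_305_315 (c : Nat) : Nat := @Bool.rec (fun _ => Nat) (Ptab_s_305_310 c) (Ptab_s_310_315 c) (Nat.ble 310 c)
noncomputable def Ptab_s_295_315 (c : Nat) : Nat := @Bool.rec (fun _ => Nat) (Ptab_s_295_305 c) (Ptab_s_305_315 c) (Nat.ble 305 c)
noncomputable def Ptab_s_275_315 (c : Nat) : Nat := @Bool.rec (fun _ => Nat) (Ptab_s_275_295 c) (Ptab_s_295_315 c) (Nat.ble 295 c)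
noncomputable def Ptab_s_236_315 (c : Nat) : Nat := @Bool.rec (fun _ => Nat) (Ptab_s_236_275 c) (Ptab_s_275_315 c) (Nat.ble 275 c)
noncomputable def Ptab_s_157_315 (c : Nat) : Nat := @Bool.rec (fun _ => Nat) (Ptab_s_157_236 c) (Ptab_s_236_315 c) (Nat.ble 236 c)
noncomputable def Ptab_s_0_315 (c : Nat) : Nat := @Bool.rec (fun _ => Nat) (Ptab_s_0_157 c) (Ptab_s_157_315 c) (Nat.ble 157 c)
noncomputable def Ptab (i : Nat) : Nat := rdw 21 2097151 (Ptab_s_0_315 (Nat.shiftRight i 12)) (Nat.land i 4095)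
noncomputable def RRtab (i : Nat) : Nat := rdw 3 7 RRtab_0 i
noncomputable def rBtab (i : Nat) : Nat := rdw 9 511 rBtab_0 i
noncomputable def rLtab (i : Nat) : Nat := rdw 6 63 rLtab_0 i
noncomputable def nameTab_s_1_3 (c : Nat) : Nat := @Bool.rec (fun _ => Nat) (nameTab_1) (nameTab_2) (Nat.ble 2 c)
noncomputable def nameTab_s_0_3 (c : Nat) : Nat := @Bool.rec (fun _ => Nat) (nameTab_0) (nameTab_s_1_3 c) (Nat.ble 1 c)
noncomputable def nameTab (i : Nat) : Nat := rdw 19 524287 (nameTab_s_0_3 (Nat.shiftRight i 12)) (Nat.land i 4095)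
noncomputable def col0_s_1_3 (c : Nat) : Nat := @Bool.rec (fun _ => Nat) (col0_1) (col0_2) (Nat.ble 2 c)
noncomputable def col0_s_0_3 (c : Nat) : Nat := @Bool.rec (fun _ => Nat) (col0_0) (col0_s_1_3 c) (Nat.ble 1 c)
noncomputable def col0 (i : Nat) : Nat := rdw 14 16383 (col0_s_0_3 (Nat.shiftRight i 12)) (Nat.land i 4095)
noncomputable def col1_s_1_3 (c : Nat) : Nat := @Bool.rec (fun _ => Nat) (col1_1) (col1_2) (Nat.ble 2 c)
noncomputable def col1_s_0_3 (c : Nat) : Nat := @Bool.rec (fun _ => Nat) (col1_0) (col1_s_1_3 c) (Nat.ble 1 c)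
noncomputable def col1 (i : Nat) : Nat := rdw 14 16383 (col1_s_0_3 (Nat.shiftRight i 12)) (Nat.land i 4095)
noncomputable def col2_s_1_3 (c : Nat) : Nat := @Bool.rec (fun _ => Nat) (col2_1) (col2_2) (Nat.ble 2 c)
noncomputable def col2_s_0_3 (c : Nat) : Nat := @Bool.rec (fun _ => Nat) (col2_0) (col2_s_1_3 c) (Nat.ble 1 c)
noncomputable def col2 (i : Nat) : Nat := rdw 14 16383 (col2_s_0_3 (Nat.shiftRight i 12)) (Nat.land i 4095)
noncomputable def col3_s_1_3 (c : Nat) : Nat := @Bool.rec (fun _ => Nat) (col3_1) (col3_2) (Nat.ble 2 c)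
noncomputable def col3_s_0_3 (c : Nat) : Nat := @Bool.rec (fun _ => Nat) (col3_0) (col3_s_1_3 c) (Nat.ble 1 c)
noncomputable def col3 (i : Nat) : Nat := rdw 14 16383 (col3_s_0_3 (Nat.shiftRight i 12)) (Nat.land i 4095)
noncomputable def finTab_s_0_2 (c : Nat) : Nat := @Bool.rec (fun _ => Nat) (finTab_0) (finTab_1) (Nat.ble 1 c)
noncomputable def finTab_s_3_5 (c : Nat) : Nat := @Bool.rec (fun _ => Nat) (finTab_3) (finTab_4) (Nat.ble 4 c)
noncomputable def finTab_s_2_5 (c : Nat) : Nat := @Bool.rec (fun _ => Nat) (finTab_2) (finTab_s_3_5 c) (Nat.ble 3 c)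
noncomputable def finTab_s_0_5 (c : Nat) : Nat := @Bool.rec (fun _ => Nat) (finTab_s_0_2 c) (finTab_s_2_5 c) (Nat.ble 2 c)
noncomputable def finTab_s_5_7 (c : Nat) : Nat := @Bool.rec (fun _ => Nat) (finTab_5) (finTab_6) (Nat.ble 6 c)
noncomputable def finTab_s_8_10 (c : Nat) : Nat := @Bool.rec (fun _ => Nat) (finTab_8) (finTab_9) (Nat.ble 9 c)
noncomputable def finTab_s_7_10 (c : Nat) : Nat := @Bool.rec (fun _ => Nat) (finTab_7) (finTab_s_8_10 c) (Nat.ble 8 c)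
noncomputable def finTab_s_5_10 (c : Nat) : Nat := @Bool.rec (fun _ => Nat) (finTab_s_5_7 c) (finTab_s_7_10 c) (Nat.ble 7 c)
noncomputable def finTab_s_0_10 (c : Nat) : Nat := @Bool.rec (fun _ => Nat) (finTab_s_0_5 c) (finTab_s_5_10 c) (Nat.ble 5 c)
noncomputable def finTab (i : Nat) : Nat := rdw 21 2097151 (finTab_s_0_10 (Nat.shiftRight i 12)) (Nat.land i 4095)
noncomputable def clsTab_s_0_2 (c : Nat) : Nat := @Bool.rec (fun _ => Nat) (clsTab_0) (clsTab_1) (Nat.ble 1 c)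
noncomputable def clsTab_s_2_4 (c : Nat) : Nat := @Bool.rec (fun _ => Nat) (clsTab_2) (clsTab_3) (Nat.ble 3 c)
noncomputable def clsTab_s_0_4 (c : Nat) : Nat := @Bool.rec (fun _ => Nat) (clsTab_s_0_2 c) (clsTab_s_2_4 c) (Nat.ble 2 c)
noncomputable def clsTab_s_4_6 (c : Nat) : Nat := @Bool.rec (fun _ => Nat) (clsTab_4) (clsTab_5) (Nat.ble 5 c)
noncomputable def clsTab_s_6_8 (c : Nat) : Nat := @Bool.rec (fun _ => Nat) (clsTab_6) (clsTab_7) (Nat.ble 7 c)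
noncomputable def clsTab_s_4_8 (c : Nat) : Nat := @Bool.rec (fun _ => Nat) (clsTab_s_4_6 c) (clsTab_s_6_8 c) (Nat.ble 6 c)
noncomputable def clsTab_s_0_8 (c : Nat) : Nat := @Bool.rec (fun _ => Nat) (clsTab_s_0_4 c) (clsTab_s_4_8 c) (Nat.ble 4 c)
noncomputable def clsTab_s_8_10 (c : Nat) : Nat := @Bool.rec (fun _ => Nat) (clsTab_8) (clsTab_9) (Nat.ble 9 c)
noncomputable def clsTab_s_10_12 (c : Nat) : Nat := @Bool.rec (fun _ => Nat) (clsTab_10) (clsTab_11) (Nat.ble 11 c)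
noncomputable def clsTab_s_8_12 (c : Nat) : Nat := @Bool.rec (fun _ => Nat) (clsTab_s_8_10 c) (clsTab_s_10_12 c) (Nat.ble 10 c)
noncomputable def clsTab_s_12_14 (c : Nat) : Nat := @Bool.rec (fun _ => Nat) (clsTab_12) (clsTab_13) (Nat.ble 13 c)
noncomputable def clsTab_s_14_16 (c : Nat) : Nat := @Bool.rec (fun _ => Nat) (clsTab_14) (clsTab_15) (Nat.ble 15 c)
noncomputable def clsTab_s_12_16 (c : Nat) : Nat := @Bool.rec (fun _ => Nat) (clsTab_s_12_14 c) (clsTab_s_14_16 c) (Nat.ble 14 c)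
noncomputable def clsTab_s_8_16 (c : Nat) : Nat := @Bool.rec (fun _ => Nat) (clsTab_s_8_12 c) (clsTab_s_12_16 c) (Nat.ble 12 c)
noncomputable def clsTab_s_0_16 (c : Nat) : Nat := @Bool.rec (fun _ => Nat) (clsTab_s_0_8 c) (clsTab_s_8_16 c) (Nat.ble 8 c)
noncomputable def clsTab_s_16_18 (c : Nat) : Nat := @Bool.rec (fun _ => Nat) (clsTab_16) (clsTab_17) (Nat.ble 17 c)
noncomputable def clsTab_s_18_20 (c : Nat) : Nat := @Bool.rec (fun _ => Nat) (clsTab_18) (clsTab_19) (Nat.ble 19 c)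
noncomputable def clsTab_s_16_20 (c : Nat) : Nat := @Bool.rec (fun _ => Nat) (clsTab_s_16_18 c) (clsTab_s_18_20 c) (Nat.ble 18 c)
noncomputable def clsTab_s_20_22 (c : Nat) : Nat := @Bool.rec (fun _ => Nat) (clsTab_20) (clsTab_21) (Nat.ble 21 c)
noncomputable def clsTab_s_22_24 (c : Nat) : Nat := @Bool.rec (fun _ => Nat) (clsTab_22) (clsTab_23) (Nat.ble 23 c)
noncomputable def clsTab_s_20_24 (c : Nat) : Nat := @Bool.rec (fun _ => Nat) (clsTab_s_20_22 c) (clsTab_s_22_24 c) (Nat.ble 22 c)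
noncomputable def clsTab_s_16_24 (c : Nat) : Nat := @Bool.rec (fun _ => Nat) (clsTab_s_16_20 c) (clsTab_s_20_24 c) (Nat.ble 20 c)
noncomputable def clsTab_s_24_26 (c : Nat) : Nat := @Bool.rec (fun _ => Nat) (clsTab_24) (clsTab_25) (Nat.ble 25 c)
noncomputable def clsTab_s_26_28 (c : Nat) : Nat := @Bool.rec (fun _ => Nat) (clsTab_26) (clsTab_27) (Nat.ble 27 c)
noncomputable def clsTab_s_24_28 (c : Nat) : Nat := @Bool.rec (fun _ => Nat) (clsTab_s_24_26 c) (clsTab_s_26_28 c) (Nat.ble 26 c)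
noncomputable def clsTab_s_28_30 (c : Nat) : Nat := @Bool.rec (fun _ => Nat) (clsTab_28) (clsTab_29) (Nat.ble 29 c)
noncomputable def clsTab_s_31_33 (c : Nat) : Nat := @Bool.rec (fun _ => Nat) (clsTab_31) (clsTab_32) (Nat.ble 32 c)
noncomputable def clsTab_s_30_33 (c : Nat) : Nat := @Bool.rec (fun _ => Nat) (clsTab_30) (clsTab_s_31_33 c) (Nat.ble 31 c)
noncomputable def clsTab_s_28_33 (c : Nat) : Nat := @Bool.rec (fun _ => Nat) (clsTab_s_28_30 c) (clsTab_s_30_33 c) (Nat.ble 30 c)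
noncomputable def clsTab_s_24_33 (c : Nat) : Nat := @Bool.rec (fun _ => Nat) (clsTab_s_24_28 c) (clsTab_s_28_33 c) (Nat.ble 28 c)
noncomputable def clsTab_s_16_33 (c : Nat) : Nat := @Bool.rec (fun _ => Nat) (clsTab_s_16_24 c) (clsTab_s_24_33 c) (Nat.ble 24 c)
noncomputable def clsTab_s_0_33 (c : Nat) : Nat := @Bool.rec (fun _ => Nat) (clsTab_s_0_16 c) (clsTab_s_16_33 c) (Nat.ble 16 c)
noncomputable def clsTab_s_33_35 (c : Nat) : Nat := @Bool.rec (fun _ => Nat) (clsTab_33) (clsTab_34) (Nat.ble 34 c)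
noncomputable def clsTab_s_35_37 (c : Nat) : Nat := @Bool.rec (fun _ => Nat) (clsTab_35) (clsTab_36) (Nat.ble 36 c)
noncomputable def clsTab_s_33_37 (c : Nat) : Nat := @Bool.rec (fun _ => Nat) (clsTab_s_33_35 c) (clsTab_s_35_37 c) (Nat.ble 35 c)
noncomputable def clsTab_s_37_39 (c : Nat) : Nat := @Bool.rec (fun _ => Nat) (clsTab_37) (clsTab_38) (Nat.ble 38 c)
noncomputable def clsTab_s_39_41 (c : Nat) : Nat := @Bool.rec (fun _ => Nat) (clsTab_39) (clsTab_40) (Nat.ble 40 c)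
noncomputable def clsTab_s_37_41 (c : Nat) : Nat := @Bool.rec (fun _ => Nat) (clsTab_s_37_39 c) (clsTab_s_39_41 c) (Nat.ble 39 c)
noncomputable def clsTab_s_33_41 (c : Nat) : Nat := @Bool.rec (fun _ => Nat) (clsTab_s_33_37 c) (clsTab_s_37_41 c) (Nat.ble 37 c)
noncomputable def clsTab_s_41_43 (c : Nat) : Nat := @Bool.rec (fun _ => Nat) (clsTab_41) (clsTab_42) (Nat.ble 42 c)
noncomputable def clsTab_s_43_45 (c : Nat) : Nat := @Bool.rec (fun _ => Nat) (clsTab_43) (clsTab_44) (Nat.ble 44 c)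
noncomputable def clsTab_s_41_45 (c : Nat) : Nat := @Bool.rec (fun _ => Nat) (clsTab_s_41_43 c) (clsTab_s_43_45 c) (Nat.ble 43 c)
noncomputable def clsTab_s_45_47 (c : Nat) : Nat := @Bool.rec (fun _ => Nat) (clsTab_45) (clsTab_46) (Nat.ble 46 c)
noncomputable def clsTab_s_47_49 (c : Nat) : Nat := @Bool.rec (fun _ => Nat) (clsTab_47) (clsTab_48) (Nat.ble 48 c)
noncomputable def clsTab_s_45_49 (c : Nat) : Nat := @Bool.rec (fun _ => Nat) (clsTab_s_45_47 c) (clsTab_s_47_49 c) (Nat.ble 47 c)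
noncomputable def clsTab_s_41_49 (c : Nat) : Nat := @Bool.rec (fun _ => Nat) (clsTab_s_41_45 c) (clsTab_s_45_49 c) (Nat.ble 45 c)
noncomputable def clsTab_s_33_49 (c : Nat) : Nat := @Bool.rec (fun _ => Nat) (clsTab_s_33_41 c) (clsTab_s_41_49 c) (Nat.ble 41 c)
noncomputable def clsTab_s_49_51 (c : Nat) : Nat := @Bool.rec (fun _ => Nat) (clsTab_49) (clsTab_50) (Nat.ble 50 c)
noncomputable def clsTab_s_51_53 (c : Nat) : Nat := @Bool.rec (fun _ => Nat) (clsTab_51) (clsTab_52) (Nat.ble 52 c)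
noncomputable def clsTab_s_49_53 (c : Nat) : Nat := @Bool.rec (fun _ => Nat) (clsTab_s_49_51 c) (clsTab_s_51_53 c) (Nat.ble 51 c)
noncomputable def clsTab_s_53_55 (c : Nat) : Nat := @Bool.rec (fun _ => Nat) (clsTab_53) (clsTab_54) (Nat.ble 54 c)
noncomputable def clsTab_s_55_57 (c : Nat) : Nat := @Bool.rec (fun _ => Nat) (clsTab_55) (clsTab_56) (Nat.ble 56 c)
noncomputable def clsTab_s_53_57 (c : Nat) : Nat := @Bool.rec (fun _ => Nat) (clsTab_s_53_55 c) (clsTab_s_55_57 c) (Nat.ble 55 c)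
noncomputable def clsTab_s_49_57 (c : Nat) : Nat := @Bool.rec (fun _ => Nat) (clsTab_s_49_53 c) (clsTab_s_53_57 c) (Nat.ble 53 c)
noncomputable def clsTab_s_57_59 (c : Nat) : Nat := @Bool.rec (fun _ => Nat) (clsTab_57) (clsTab_58) (Nat.ble 58 c)
noncomputable def clsTab_s_59_61 (c : Nat) : Nat := @Bool.rec (fun _ => Nat) (clsTab_59) (clsTab_60) (Nat.ble 60 c)
noncomputable def clsTab_s_57_61 (c : Nat) : Nat := @Bool.rec (fun _ => Nat) (clsTab_s_57_59 c) (clsTab_s_59_61 c) (Nat.ble 59 c)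
noncomputable def clsTab_s_61_63 (c : Nat) : Nat := @Bool.rec (fun _ => Nat) (clsTab_61) (clsTab_62) (Nat.ble 62 c)
noncomputable def clsTab_s_64_66 (c : Nat) : Nat := @Bool.rec (fun _ => Nat) (clsTab_64) (clsTab_65) (Nat.ble 65 c)
noncomputable def clsTab_s_63_66 (c : Nat) : Nat := @Bool.rec (fun _ => Nat) (clsTab_63) (clsTab_s_64_66 c) (Nat.ble 64 c)
noncomputable def clsTab_s_61_66 (c : Nat) : Nat := @Bool.rec (fun _ => Nat) (clsTab_s_61_63 c) (clsTab_s_63_66 c) (Nat.ble 63 c)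
noncomputable def clsTab_s_57_66 (c : Nat) : Nat := @Bool.rec (fun _ => Nat) (clsTab_s_57_61 c) (clsTab_s_61_66 c) (Nat.ble 61 c)
noncomputable def clsTab_s_49_66 (c : Nat) : Nat := @Bool.rec (fun _ => Nat) (clsTab_s_49_57 c) (clsTab_s_57_66 c) (Nat.ble 57 c)
noncomputable def clsTab_s_33_66 (c : Nat) : Nat := @Bool.rec (fun _ => Nat) (clsTab_s_33_49 c) (clsTab_s_49_66 c) (Nat.ble 49 c)
noncomputable def clsTab_s_0_66 (c : Nat) : Nat := @Bool.rec (fun _ => Nat) (clsTab_s_0_33 c) (clsTab_s_33_66 c) (Nat.ble 33 c)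
noncomputable def clsTab (i : Nat) : Nat := rdw 14 16383 (clsTab_s_0_66 (Nat.shiftRight i 12)) (Nat.land i 4095)
noncomputable def srcF (t : Nat) : Nat := Nat.land (Atab t) 524287
noncomputable def tgtF (t : Nat) : Nat := Nat.land (Nat.shiftRight (Atab t) 19) 524287
noncomputable def ltF (t : Nat) : Nat := Nat.shiftRight (Atab t) 38
noncomputable def rhoF (t : Nat) : Nat := Nat.land (Btab (Nat.sub t 269272)) 31
noncomputable def rotF (t : Nat) : Nat := Nat.land (Nat.shiftRight (Btab (Nat.sub t 269272)) 5) 63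
noncomputable def lenF (t : Nat) : Nat := Nat.land (Nat.shiftRight (Btab (Nat.sub t 269272)) 11) 63
noncomputable def offF (t : Nat) : Nat := Nat.shiftRight (Btab (Nat.sub t 269272)) 17
noncomputable def pfF (j : Nat) : Nat := Nat.shiftRight (Ptab j) 1
noncomputable def pdF (j : Nat) : Nat := Nat.land (Ptab j) 1
noncomputable def tblF (i x : Nat) : Nat := @Bool.rec (fun _ => Nat) (@Bool.rec (fun _ => Nat) (col0 i) (col1 i) (Nat.ble 1 x)) (@Bool.rec (fun _ => Nat) (col2 i) (col3 i) (Nat.ble 3 x)) (Nat.ble 2 x)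
noncomputable def finE (i x : Nat) : Nat := finTab (Nat.add (Nat.mul i 4) x)
noncomputable def finFF (i x : Nat) : Nat := Nat.shiftRight (finE i x) 1
noncomputable def finDF (i x : Nat) : Nat := Nat.land (finE i x) 1

def invLoc : ℕ → ℕ
  | 0 => 1
  | 1 => 0
  | 2 => 3
  | 3 => 2
  | l => l
def emb : List Nat := [0, 1, 2, 3]
noncomputable def D : Log :=
  { k := 4, inv := invE 4 invLoc, nR := 22, rBase := rBtab, rLen := rLtab, RR := RRtab,
    M := 269270, nB := 2, F := 605675, src := srcF, lt := ltF, tgt := tgtF, rho := rhoF, rot := rotF,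
    off := offF, len := lenF, pf := pfF, pd := pdF }

noncomputable def T : Tab :=
  { N := 10080, nameOf := nameTab, tbl := tblF, finF := finFF, finD := finDF, cls := clsTab }

def subs : List (List Nat) := [
[0] ]

def realLoc : List (List Nat) := [
  [0, 0],
  [2, 2, 2, 2],
  [0, 2, 0, 2, 0, 2, 0, 2, 0, 2, 0, 2, 0, 2],
  [0, 2, 2, 0, 2, 2, 0, 2, 2, 0, 2, 2, 0, 2, 2],
  [0, 2, 0, 2, 2, 0, 2, 0, 2, 2, 0, 2, 0, 2, 2, 0, 2, 0, 2, 2, 0, 2, 0, 2, 2, 0, 2, 0, 2, 2, 0, 2, 0, 2, 2],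
  [0, 2, 0, 2, 0, 2, 2, 0, 3, 0, 2, 0, 2, 0, 2, 2, 0, 3, 0, 2, 0, 2, 0, 2, 2, 0, 3, 0, 2, 0, 2, 0, 2, 2, 0, 3, 0, 2, 0, 2, 0, 2, 2, 0, 3] ]

end Cfsg.Agent.Lib.Helper4.TCD.L34pU1
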