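import Cfsg.Agent.Lib.Helper4.TCD_L34pU1_Acc

namespace Cfsg.Agent.Lib.Helper4.TCD.L34pU1

open Cfsg.Agent.Lib.Helper4.TC

set_option maxRecDepth 100000
set_option Elab.async false

theorem c_zero : D.zeroOK = true := by decide +kernel
theorem c_base : allBelow D.baseOK 2 = true := by decide +kernel
theorem c_let : allBelow D.letOK 4 = true := by decide +kernel
theorem c_cls0 : T.cls 0 = 0 := by decide +kernel
theorem c_name0 : T.nameOf 0 = 0 := by decide +kernel
theorem c_tab : D.relTabOK 0 (baseRels 4 invLoc realLoc subs ++ (baseRels 4 invLoc realLoc subs).map (invWord D.inv)) = true := by decide +kernel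
theorem c_subs : subs.all (fun u => u.all (fun x => Nat.ble (Nat.succ x) 4)) = true := by decide +kernel
theorem c_names_0 : allRange D.nameOK 1 60000 = true := by decide +kernel
theorem c_names_1 : allRange D.nameOK 60001 60000 = true := by decide +kernel
theorem c_names_2 : allRange D.nameOK 120001 60000 = true := by decide +kernel
theorem c_names_3 : allRange D.nameOK 180001 60000 = true := by decide +kernel
theorem c_names_4 : allRange D.nameOK 240001 29269 = true := by decide +kernel
theorem c_cls_0 : allRange (T.clsOK D) 1 15000 = true := by decide +kernel
theorem c_cls_1 : allRange (T.clsOK D) 15001 15000 = true := by decide +kernel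
theorem c_cls_2 : allRange (T.clsOK D) 30001 15000 = true := by decide +kernel
theorem c_cls_3 : allRange (T.clsOK D) 45001 15000 = true := by decide +kernel
theorem c_cls_4 : allRange (T.clsOK D) 60001 15000 = true := by decide +kernel
theorem c_cls_5 : allRange (T.clsOK D) 75001 15000 = true := by decide +kernel
theorem c_cls_6 : allRange (T.clsOK D) 90001 15000 = true := by decide +kernel
theorem c_cls_7 : allRange (T.clsOK D) 105001 15000 = true := by decide +kernel
theorem c_cls_8 : allRange (T.clsOK D) 120001 15000 = true := by decide +kernel
theorem c_cls_9 : allRange (T.clsOK D) 135001 15000 = true := by decide +kernel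
theorem c_cls_10 : allRange (T.clsOK D) 150001 15000 = true := by decide +kernel
theorem c_cls_11 : allRange (T.clsOK D) 165001 15000 = true := by decide +kernel
theorem c_cls_12 : allRange (T.clsOK D) 180001 15000 = true := by decide +kernel
theorem c_cls_13 : allRange (T.clsOK D) 195001 15000 = true := by decide +kernel
theorem c_cls_14 : allRange (T.clsOK D) 210001 15000 = true := by decide +kernel
theorem c_cls_15 : allRange (T.clsOK D) 225001 15000 = true := by decide +kernel
theorem c_cls_16 : allRange (T.clsOK D) 240001 15000 = true := by decide +kernel
theorem c_cls_17 : allRange (T.clsOK D) 255001 14269 = true := by decide +kernel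
theorem c_rep_0 : allRange (T.repOK D) 0 10080 = true := by decide +kernel
theorem c_rel_0 : allRange D.relOK 269272 4201 = true := by decide +kernel
theorem c_rel_1 : allRange D.relOK 273473 4046 = true := by decide +kernel
theorem c_rel_2 : allRange D.relOK 277519 3916 = true := by decide +kernel
theorem c_rel_3 : allRange D.relOK 281435 3826 = true := by decide +kernel
theorem c_rel_4 : allRange D.relOK 285261 3762 = true := by decide +kernel
theorem c_rel_5 : allRange D.relOK 289023 3743 = true := by decide +kernel
theorem c_rel_6 : allRange D.relOK 292766 3635 = true := by decide +kernel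
theorem c_rel_7 : allRange D.relOK 296401 3499 = true := by decide +kernel
theorem c_rel_8 : allRange D.relOK 299900 3571 = true := by decide +kernel
theorem c_rel_9 : allRange D.relOK 303471 3563 = true := by decide +kernel
theorem c_rel_10 : allRange D.relOK 307034 3474 = true := by decide +kernel
theorem c_rel_11 : allRange D.relOK 310508 3267 = true := by decide +kernel
theorem c_rel_12 : allRange D.relOK 313775 3372 = true := by decide +kernel
theorem c_rel_13 : allRange D.relOK 317147 3277 = true := by decide +kernel
theorem c_rel_14 : allRange D.relOK 320424 3296 = true := by decide +kernel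
theorem c_rel_15 : allRange D.relOK 323720 3141 = true := by decide +kernel
theorem c_rel_16 : allRange D.relOK 326861 3145 = true := by decide +kernel
theorem c_rel_17 : allRange D.relOK 330006 3165 = true := by decide +kernel
theorem c_rel_18 : allRange D.relOK 333171 3113 = true := by decide +kernel
theorem c_rel_19 : allRange D.relOK 336284 2921 = true := by decide +kernel
theorem c_rel_20 : allRange D.relOK 339205 3110 = true := by decide +kernel
theorem c_rel_21 : allRange D.relOK 342315 2979 = true := by decide +kernel
theorem c_rel_22 : allRange D.relOK 345294 2997 = true := by decide +kernel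
theorem c_rel_23 : allRange D.relOK 348291 2866 = true := by decide +kernel
theorem c_rel_24 : allRange D.relOK 351157 2788 = true := by decide +kernel
theorem c_rel_25 : allRange D.relOK 353945 2705 = true := by decide +kernel
theorem c_rel_26 : allRange D.relOK 356650 2727 = true := by decide +kernel
theorem c_rel_27 : allRange D.relOK 359377 2730 = true := by decide +kernel
theorem c_rel_28 : allRange D.relOK 362107 2632 = true := by decide +kernel
theorem c_rel_29 : allRange D.relOK 364739 2607 = true := by decide +kernel
theorem c_rel_30 : allRange D.relOK 367346 2534 = true := by decide +kernel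
theorem c_rel_31 : allRange D.relOK 369880 2451 = true := by decide +kernel
theorem c_rel_32 : allRange D.relOK 372331 2480 = true := by decide +kernel
theorem c_rel_33 : allRange D.relOK 374811 2442 = true := by decide +kernel
theorem c_rel_34 : allRange D.relOK 377253 2369 = true := by decide +kernel
theorem c_rel_35 : allRange D.relOK 379622 2239 = true := by decide +kernel
theorem c_rel_36 : allRange D.relOK 381861 2300 = true := by decide +kernel
theorem c_rel_37 : allRange D.relOK 384161 2285 = true := by decide +kernel
theorem c_rel_38 : allRange D.relOK 386446 2173 = true := by decide +kernel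
theorem c_rel_39 : allRange D.relOK 388619 2269 = true := by decide +kernel
theorem c_rel_40 : allRange D.relOK 390888 2138 = true := by decide +kernel
theorem c_rel_41 : allRange D.relOK 393026 1946 = true := by decide +kernel
theorem c_rel_42 : allRange D.relOK 394972 1949 = true := by decide +kernel
theorem c_rel_43 : allRange D.relOK 396921 1920 = true := by decide +kernel
theorem c_rel_44 : allRange D.relOK 398841 1861 = true := by decide +kernel
theorem c_rel_45 : allRange D.relOK 400702 1889 = true := by decide +kernel
theorem c_rel_46 : allRange D.relOK 402591 1554 = true := by decide +kernel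
theorem c_rel_47 : allRange D.relOK 404145 1623 = true := by decide +kernel
theorem c_rel_48 : allRange D.relOK 405768 1570 = true := by decide +kernel
theorem c_rel_49 : allRange D.relOK 407338 1548 = true := by decide +kernel
theorem c_rel_50 : allRange D.relOK 408886 1527 = true := by decide +kernel
theorem c_rel_51 : allRange D.relOK 410413 2474 = true := by decide +kernel
theorem c_rel_52 : allRange D.relOK 412887 2467 = true := by decide +kernel
theorem c_rel_53 : allRange D.relOK 415354 2286 = true := by decide +kernel

end Cfsg.Agent.Lib.Helper4.TCD.L34pU1
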