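namespace Cfsg.Agent.Lib.Helper4.TCD.L34pX7

noncomputable def Atab_0 : Nat := nat_lit 0x1882022a0a450
noncomputable def Btab_0 : Nat := nat_lit 0xc100ab1009a1008910071f80f108200882100820
noncomputable def Ptab_0 : Nat := nat_lit 0x1484ad421ace928ca93a4a32a4e929842
noncomputable def RRtab_0 : Nat := nat_lit 0x4d369a0412082cb2d945965b28b2cb6516596ca2cb2d945965b28b2cb6516596ca2cb2d945965b28b2d965b2cb6596cb2d965b2cb6596cb2d965b2cb6596cb2d965b2d96cb65b2d96cb65b2d96cb2cb2cb2cb2cb2cb2cb2db6db6c924b2d34da6810482184820830904106120820c24104184820830904106120820c2410418482083090410482090412082410482090412082410482090412082410482090412090482412090482412090410410410410410410410492492000410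
noncomputable def rBtab_0 : Nat := nat_lit 0x3e1ecf479315449342a04fe7d3d9e4ee75240942c080200800
noncomputable def rLtab_0 : Nat := nat_lit 0x82082b633ce1020820820ad8cf384082
noncomputable def nameTab_0 : Nat := nat_lit 0x0
noncomputable def col0_0 : Nat := nat_lit 0x0
noncomputable def col1_0 : Nat := nat_lit 0x0
noncomputable def col2_0 : Nat := nat_lit 0x0
noncomputable def col3_0 : Nat := nat_lit 0x0
noncomputable def finTab_0 : Nat := nat_lit 0x941cc
noncomputable def clsTab_0 : Nat := nat_lit 0x0

end Cfsg.Agent.Lib.Helper4.TCD.L34pX7
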