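namespace Cfsg.Agent.Lib.Helper4.TCD.M11pA

noncomputable def Atab_0 : Nat := nat_lit 0x3861286114d304d310c300c310820082304120414044404540c84086400b40d5408f40d041dd41d74364435f44ec44dc486844e746e3486948f04a6b4af24b3143d649ee45de47e549ad3cef3bf30ab32a720c290a7029f009af0b2e2aeb08eb28ea2a21082807a5076406e1266005df255d04dc24db269a049a0659241703d605550311028e01cd2248220c014b214a3246010900c820c70086000180007000600050000cea2ca80c672c260be63ba52b653b240ae32aa23a610a2039df299f095e091d38dc289c085b281807d727962754071326d206923651261125cf058f354e250e34cd248d044c340b23cb038a0347230602c522840244020321c201823141210130c0208000404000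
noncomputable def Btab_0 : Nat := nat_lit 0xb88808b78807b68806b58805b48806b38805b28806b18805b08808af8807ae0c27ac8c25aa9025a81425a68c27a50c27a38c28a20c27a08c259f0c259d8c279c0c27999425980c27968c279490279290059090278f0c258d8c2781e0ad800c257e8c287d0c287b8c257a0c2870cc6f68442e5f4a445e84205d0c215c8420544463528c215204204948c44048243f84203e0c2133d6a2330420328420320420318420300c212f84202e0c212d84202c0c2123486422842019c8c4180c211784200ec8c40e04200d84200d04200b8c21089869080420068c2103984a030420028420010c21008420000420
noncomputable def Ptab_0 : Nat := nat_lit 0x36950a96db7070396ebc8201179bc0180d78bd810097b821e80a3f3bc06107622dda0c750b596eb10ba40c9a739d45ee507239ca755138d0a9c70a14b2df1313db22666189b2396e91dae9754350a4b469b5d2ed25bb5484d057344a4b8682b55cce5daed72b531b34b0a34da2c54873e85c3e2d658bc7e4d2faf97aab2b98990b11eb1c5c5c6293d48c54e96d864c2d294788d178fc9a5f60af5565757abd5aaa33b0166be5eaac8c99130946a954aa4c6e971c914aa67332ad58ae2b11870961b24928341ba80a6b6302c8cc645414d6c60260f85c1e0b1f028784120110334f2995053301309e5e2e128782c0f0581402029c8f6120aa18569a51164ac461c098340e3906510334f29950424ba608eac2b1508847210d924941a090340e391ec24080101cec80440cd209e5314094482110060331f0e8502b1c0d848271a09034753b20c240801014e47b41040e88412a48683211060180438024f07a06010e0093c2090088198b83c21160a838143c208200638024f08208018e00b3e21856220e06900183d86018043581c22160a0201673021bc060909848200e0201c1802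
noncomputable def RRtab_0 : Nat := nat_lit 0x302020830202083133036313303623233232010110101313121313312131212131312131331213121213313313313313313313313313313313313313131313131313131313131313131313131313131313333333331111713131271313125212202521220223233232010110103030203022020302020303020302202030202022022022022022022022022022022022022020202020202020202020202020202020202020202020222222220000
noncomputable def rBtab_0 : Nat := nat_lit 0x29d409e4e269308539974b257281248e45219045c1c0300800
noncomputable def rLtab_0 : Nat := nat_lit 0xe7108429cac411ce21085395882
noncomputable def nameTab_0 : Nat := nat_lit 0x1b0da08d847493040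
noncomputable def col0_0 : Nat := nat_lit 0x59374a68201
noncomputable def col1_0 : Nat := nat_lit 0x59374a68201
noncomputable def col2_0 : Nat := nat_lit 0x2084359a617
noncomputable def col3_0 : Nat := nat_lit 0x34802576a19
noncomputable def finTab_0 : Nat := nat_lit 0x1ba5942423a81e05004aa506a9202839fcfc1309036848542086a0079d10a1a128d926344b89e0d047d3e0067003010e202
noncomputable def clsTab_0 : Nat := nat_lit 0x852a823253552366a65a6442a823479723697064010947119710
noncomputable def oparTab_0 : Nat := nat_lit 0x87654322100
noncomputable def olabTab_0 : Nat := nat_lit 0x1500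

end Cfsg.Agent.Lib.Helper4.TCD.M11pA
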