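namespace Cfsg.Agent.Lib.Helper4.TCD.M11pL

noncomputable def st4_0 : Nat := nat_lit 0x28906345a17
noncomputable def st5_0 : Nat := nat_lit 0x34802576a19
noncomputable def st6_0 : Nat := nat_lit 0x2084359a617
noncomputable def st7_0 : Nat := nat_lit 0x872635a9410
noncomputable def st8_0 : Nat := nat_lit 0x43a97526810
noncomputable def st9_0 : Nat := nat_lit 0x386a4592710
noncomputable def st10_0 : Nat := nat_lit 0x7492856a310
noncomputable def levTab_0 : Nat := nat_lit 0xdb691480
noncomputable def betaTab_0 : Nat := nat_lit 0x2051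
noncomputable def nodeTab_0 : Nat := nat_lit 0x139529293010641d5131704340600094ad120952f04c1d3ab227450e6a948000232a4e52e961c2ba226000ae550a21a9226700e5e9104b498460eddda21ab2947126e9c80009010
noncomputable def offTab_0 : Nat := nat_lit 0x7952c0
noncomputable def nTab_0 : Nat := nat_lit 0x89ab
noncomputable def rootTab_0 : Nat := nat_lit 0x41

end Cfsg.Agent.Lib.Helper4.TCD.M11pL
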