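namespace Cfsg.Agent.Lib.Helper4.TCD.M11pX11

noncomputable def Atab_0 : Nat := nat_lit 0x1882022a0a450
noncomputable def Btab_0 : Nat := nat_lit 0xe0809d0808c0807b08061cc0f104200842100420
noncomputable def Ptab_0 : Nat := nat_lit 0x1484ad421ace93a4e43a4e928d0328d0341842
noncomputable def RRtab_0 : Nat := nat_lit 0x4d369a0412082cb28b2d94594516594596ca2ca28b65b2d96cb65b2d96cb65b2d96cb2cb2cb2cb2cb2cb2cb2cb2cb2cb2cb2db6db6c924b2d34da6810482186106120830820c3083090418410482412090482412090482412090410410410410410410410410410410410492492000410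
noncomputable def rBtab_0 : Nat := nat_lit 0x94492411c7b3494c9e4d259248e45218c03c080200800
noncomputable def rLtab_0 : Nat := nat_lit 0x108429cac41084210a72b1042
noncomputable def nameTab_0 : Nat := nat_lit 0x0
noncomputable def col0_0 : Nat := nat_lit 0x0
noncomputable def col1_0 : Nat := nat_lit 0x0
noncomputable def col2_0 : Nat := nat_lit 0x0
noncomputable def col3_0 : Nat := nat_lit 0x0
noncomputable def finTab_0 : Nat := nat_lit 0x941cc
noncomputable def clsTab_0 : Nat := nat_lit 0x0

end Cfsg.Agent.Lib.Helper4.TCD.M11pX11
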