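namespace Cfsg.Agent.Lib.Helper4.TCD.M12pL

noncomputable def st6_0 : Nat := nat_lit 0x4197865b23a0
noncomputable def st7_0 : Nat := nat_lit 0x25a384b69710
noncomputable def st8_0 : Nat := nat_lit 0x593724a68b10
noncomputable def st9_0 : Nat := nat_lit 0xa382b6947510
noncomputable def st10_0 : Nat := nat_lit 0x7b593624a810
noncomputable def st11_0 : Nat := nat_lit 0x23698754ba10
noncomputable def st12_0 : Nat := nat_lit 0x32876954ab10
noncomputable def st13_0 : Nat := nat_lit 0x862a3b549710
noncomputable def st14_0 : Nat := nat_lit 0x683b2a547910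
noncomputable def levTab_0 : Nat := nat_lit 0x1248da440264
noncomputable def betaTab_0 : Nat := nat_lit 0x25410
noncomputable def nodeTab_0 : Nat := nat_lit 0x702db0a7826e68741ed66400c002b02eb0a64a6968819eb660016e63688ad4bb92ac498122b475c9ba750013763e58a81b582ae19a8627174c1a915885201348080019d6e85aa567678895e45650173648d4ea525404000
noncomputable def offTab_0 : Nat := nat_lit 0x2a857300
noncomputable def nTab_0 : Nat := nat_lit 0x89abc
noncomputable def rootTab_0 : Nat := nat_lit 0x2200

end Cfsg.Agent.Lib.Helper4.TCD.M12pL
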