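import Cfsg.Agent.Lib.Helper4.TC11
import Cfsg.Agent.Lib.Helper4.TCD_M12pA_Acc
import Cfsg.Agent.Lib.Helper4.TCD_M12pL_D0

namespace Cfsg.Agent.Lib.Helper4.TCD.M12pL

open Cfsg.Agent.Lib.Helper4.TC Cfsg.Agent.Lib.Helper4.TCD.M12pA

set_option maxRecDepth 100000

noncomputable def st6 (i : Nat) : Nat := rdw 4 15 st6_0 i
noncomputable def st7 (i : Nat) : Nat := rdw 4 15 st7_0 i
noncomputable def st8 (i : Nat) : Nat := rdw 4 15 st8_0 i
noncomputable def st9 (i : Nat) : Nat := rdw 4 15 st9_0 i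
noncomputable def st10 (i : Nat) : Nat := rdw 4 15 st10_0 i
noncomputable def st11 (i : Nat) : Nat := rdw 4 15 st11_0 i
noncomputable def st12 (i : Nat) : Nat := rdw 4 15 st12_0 i
noncomputable def st13 (i : Nat) : Nat := rdw 4 15 st13_0 i
noncomputable def st14 (i : Nat) : Nat := rdw 4 15 st14_0 i
noncomputable def levTab (i : Nat) : Nat := rdw 3 7 levTab_0 i
noncomputable def betaTab (i : Nat) : Nat := rdw 4 15 betaTab_0 i
noncomputable def nodeTab (i : Nat) : Nat := rdw 14 16383 nodeTab_0 i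
noncomputable def offTab (i : Nat) : Nat := rdw 6 63 offTab_0 i
noncomputable def nTab (i : Nat) : Nat := rdw 4 15 nTab_0 i
noncomputable def rootTab (i : Nat) : Nat := rdw 4 15 rootTab_0 i
noncomputable def tabF (i p : Nat) : Nat := @Bool.rec (fun _ => Nat) (@Bool.rec (fun _ => Nat) (@Bool.rec (fun _ => Nat) (col1 p) (@Bool.rec (fun _ => Nat) (col0 p) (col3 p) (Nat.ble 2 i)) (Nat.ble 1 i)) (@Bool.rec (fun _ => Nat) (@Bool.rec (fun _ => Nat) (col2 p) (col5 p) (Nat.ble 4 i)) (@Bool.rec (fun _ => Nat) (col4 p) (st6 p) (Nat.ble 6 i)) (Nat.ble 5 i)) (Nat.ble 3 i)) (@Bool.rec (fun _ => Nat) (@Bool.rec (fun _ => Nat) (@Bool.rec (fun _ => Nat) (st7 p) (st8 p) (Nat.ble 8 i)) (@Bool.rec (fun _ => Nat) (st9 p) (st10 p) (Nat.ble 10 i)) (Nat.ble 9 i)) (@Bool.rec (fun _ => Nat) (@Bool.rec (fun _ => Nat) (st11 p) (st12 p) (Nat.ble 12 i)) (@Bool.rec (fun _ => Nat) (st13 p) (st14 p) (Nat.ble 14 i)) (Nat.ble 13 i)) (Nat.ble 11 i)) (Nat.ble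 7 i)
def wAF : Nat → List Nat
  | 6 => [5]
  | 7 => [6, 2, 4, 6]
  | 8 => [7]
  | 9 => [7]
  | 10 => [9]
  | 11 => [9, 2, 10, 0, 7]
  | 12 => [11]
  | 13 => [0, 10]
  | 14 => [13]
  | _ => []
def wBF : Nat → List Nat
  | 6 => [0, 5]
  | 7 => [0, 4, 4]
  | 8 => []
  | 9 => [8]
  | 10 => []
  | 11 => [0, 9, 2]
  | 12 => []
  | 13 => [10, 0, 9]
  | 14 => []
  | _ => []
noncomputable def ptF (j idx : Nat) : Nat := Nat.land (nodeTab (Nat.add (offTab j) idx)) 15
noncomputable def parF (j idx : Nat) : Nat := Nat.land (Nat.shiftRight (nodeTab (Nat.add (offTab j) idx)) 4) 15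
noncomputable def giF (j idx : Nat) : Nat := Nat.land (Nat.shiftRight (nodeTab (Nat.add (offTab j) idx)) 8) 15
noncomputable def depF (j idx : Nat) : Nat := Nat.shiftRight (nodeTab (Nat.add (offTab j) idx)) 12

noncomputable def S : Sgs :=
  { N := 12, k := 6, m := 15, tab := tabF, wA := wAF, wB := wBF, lev := levTab, r := 5, beta := betaTab,
    n := nTab, root := rootTab, pt := ptF, par := parF, gi := giF, dep := depF }

noncomputable def chk6 (p : Nat) : Bool := band (Nat.ble (Nat.succ (st6 p)) 12) (Nat.beq (col4 (st6 p)) (col1 (col4 p)))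
theorem chk6_eq (p : Nat) : chk6 p = Sgs.permOK S 6 p := rfl
noncomputable def chk7 (p : Nat) : Bool := band (Nat.ble (Nat.succ (st7 p)) 12) (Nat.beq (st6 (col3 (col5 (st6 (st7 p))))) (col1 (col5 (col5 p))))
theorem chk7_eq (p : Nat) : chk7 p = Sgs.permOK S 7 p := rfl
noncomputable def chk8 (p : Nat) : Bool := band (Nat.ble (Nat.succ (st8 p)) 12) (Nat.beq (st7 (st8 p)) p)
theorem chk8_eq (p : Nat) : chk8 p = Sgs.permOK S 8 p := rfl
noncomputable def chk9 (p : Nat) : Bool := band (Nat.ble (Nat.succ (st9 p)) 12) (Nat.beq (st7 (st9 p)) (st8 p))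
theorem chk9_eq (p : Nat) : chk9 p = Sgs.permOK S 9 p := rfl
noncomputable def chk10 (p : Nat) : Bool := band (Nat.ble (Nat.succ (st10 p)) 12) (Nat.beq (st9 (st10 p)) p)
theorem chk10_eq (p : Nat) : chk10 p = Sgs.permOK S 10 p := rfl
noncomputable def chk11 (p : Nat) : Bool := band (Nat.ble (Nat.succ (st11 p)) 12) (Nat.beq (st9 (col3 (st10 (col1 (st7 (st11 p)))))) (col1 (st9 (col3 p))))
theorem chk11_eq (p : Nat) : chk11 p = Sgs.permOK S 11 p := rfl
noncomputable def chk12 (p : Nat) : Bool := band (Nat.ble (Nat.succ (st12 p)) 12) (Nat.beq (st11 (st12 p)) p)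
theorem chk12_eq (p : Nat) : chk12 p = Sgs.permOK S 12 p := rfl
noncomputable def chk13 (p : Nat) : Bool := band (Nat.ble (Nat.succ (st13 p)) 12) (Nat.beq (col1 (st10 (st13 p))) (st10 (col1 (st9 p))))
theorem chk13_eq (p : Nat) : chk13 p = Sgs.permOK S 13 p := rfl
noncomputable def chk14 (p : Nat) : Bool := band (Nat.ble (Nat.succ (st14 p)) 12) (Nat.beq (st13 (st14 p)) p)
theorem chk14_eq (p : Nat) : chk14 p = Sgs.permOK S 14 p := rfl

end Cfsg.Agent.Lib.Helper4.TCD.M12pL
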