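import Cfsg.Agent.Lib.Helper4.TCD_M12pL_Acc

namespace Cfsg.Agent.Lib.Helper4.TCD.M12pL

open Cfsg.Agent.Lib.Helper4.TC Cfsg.Agent.Lib.Helper4.TCD.M12pA

set_option maxRecDepth 100000
set_option Elab.async false

theorem c_words : allRange S.wordsOK 6 9 = true := by decide +kernel
theorem c_fix : allGrid S.fixOK 0 15 5 = true := by decide +kernel
theorem c_root : allBelow (fun j => Nat.ble (Nat.succ (S.root j)) (S.n j)) 5 = true := by decide +kernel
theorem c_n0 : S.n 0 = 12 := by decide +kernel
theorem c_n1 : S.n 1 = 11 := by decide +kernel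
theorem c_n2 : S.n 2 = 10 := by decide +kernel
theorem c_n3 : S.n 3 = 9 := by decide +kernel
theorem c_n4 : S.n 4 = 8 := by decide +kernel
theorem c_p6_0 : allRange chk6 0 12 = true := by decide +kernel
theorem c_p7_0 : allRange chk7 0 12 = true := by decide +kernel
theorem c_p8_0 : allRange chk8 0 12 = true := by decide +kernel
theorem c_p9_0 : allRange chk9 0 12 = true := by decide +kernel
theorem c_p10_0 : allRange chk10 0 12 = true := by decide +kernel
theorem c_p11_0 : allRange chk11 0 12 = true := by decide +kernel
theorem c_p12_0 : allRange chk12 0 12 = true := by decide +kernel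
theorem c_p13_0 : allRange chk13 0 12 = true := by decide +kernel
theorem c_p14_0 : allRange chk14 0 12 = true := by decide +kernel
theorem c_nd0_0 : allRange (S.nodeOK 0) 0 12 = true := by decide +kernel
theorem c_nd1_0 : allRange (S.nodeOK 1) 0 11 = true := by decide +kernel
theorem c_nd2_0 : allRange (S.nodeOK 2) 0 10 = true := by decide +kernel
theorem c_nd3_0 : allRange (S.nodeOK 3) 0 9 = true := by decide +kernel
theorem c_nd4_0 : allRange (S.nodeOK 4) 0 8 = true := by decide +kernel

end Cfsg.Agent.Lib.Helper4.TCD.M12pL
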