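namespace Cfsg.Agent.Lib.Helper4.TCD.M22pX11

noncomputable def Atab_0 : Nat := nat_lit 0xa001000180020002000000300a6001c00f87430f0e415cad1819b0216099c0b1958b432611bcac1947f0056412c019873b083604dc6a3a0973f56023c73b83d74b3e32bd55f986b157692dc527825b0e4e557d7e9a8a76392c74d1e6f3d457a89741950efc8d38e6b0cc5827a8b748765aebb8d79a6b438e67231147067930da515822f0245104c00a4109eae8d1d59b8f26ce2dcc1a57b46e69daccb1875b0aa61d2bba1553aae651ca9291231a2e241428180e0f9d1e35ba6a70d6d989a30b25060a2b92d61caa38507498c1219a22040487868e0c9a183038584ca091214201638286060a03100418042000206000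
noncomputable def Btab_0 : Nat := nat_lit 0x2c8407d8880eaf201b5a4032b0405d5880aa5d89947412a84a26cf544c9bb01932512a5aa26ca144d9130991f312e3862545d44d8a18991131361c625c2cc4a83a09904312a02625bf504d7ca098f54129e46263bcc4b752894e64135c6626380c4b6e2094d93135ac62634cc4a627830b5f15564626abcc4d561894a931314c626a8cc4b4dc3088fc12101e2c9f105238d98a6f2104c1e2c9710522d10a2591000b0200145d042538a84372106f8cb8d84001920a42b711c4e829081c470f88001d2144238cb84040007880003c65c04200000851
noncomputable def Ptab_0 : Nat := nat_lit 0xdc0a059bde44d72bc5e0e4263cde00201bc49ae578bb9d8e873141d2ed77b88dae202039bc575cb3c8add7490dd6da58169c2e307b99488b6c884a0d6622e89c4c6a308a8df0ab4d9cb82b37c64d3028c1a6032234096c56b921a2431b33c1240668ac7ccd14ab84ccb0409196213c324047e63b241e0c6431844c623b04067f5f0e912bf20ad94c685f8fd3c9c5e818d6bd0ea6d7218462d94c992b2d0685e5a954bab318970bea64c9284827579dc286d0689d5e772d0c95c26061b1582c071b02aae1309492825685458aa090bd522a29a94a0a15125524a24b190c6a0340e8f237319a10c6b4ea7c8c7f40870323731a7136564716060760a0100e7a0f074fc47350e87267350e8f23732a58a04f46150ae6844140540e39040040b3781c323548180be94320d86a5f31228c0582a0c0286d078ac9e521704808070c8dc9424060080e1b1d8e9083c420f1083c420f1083c1d8f0580e0689cfc7d3e9f4fa7d3f88810070e888e070381c0e0230f06832143a058e8163a058e8163a0582a1608020dc0a37028dc0a37028dc0a048280803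
noncomputable def RRtab_0 : Nat := nat_lit 0x965b2c4d369a0412082e0acb8d865c15971b0cb2c38c370b2c38c371572491572492db6db6db6db6db6d2916ca45b2916ca45b28b28b28b28b2cb2cb2cb2cb2cb2cb2cb6db6db6c9249b6596cb134da6810482114aa0a1a82295414350a91551410a91551410b6daa3b6daa39249249249249249120d84836120d8483610610610610610410410410410410410412492492000024
noncomputable def rBtab_0 : Nat := nat_lit 0xc4613017cbc5d2b5429947208f46c33990c6612f974b6592b9287c361587c2e090200400
noncomputable def rLtab_0 : Nat := nat_lit 0x222222dc8bc8e531222222dc8bc8e531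
noncomputable def nameTab_0 : Nat := nat_lit 0x0
noncomputable def col0_0 : Nat := nat_lit 0x0
noncomputable def col1_0 : Nat := nat_lit 0x0
noncomputable def col2_0 : Nat := nat_lit 0x0
noncomputable def col3_0 : Nat := nat_lit 0x0
noncomputable def col4_0 : Nat := nat_lit 0x0
noncomputable def col5_0 : Nat := nat_lit 0x0
noncomputable def finTab_0 : Nat := nat_lit 0x1fcfc7d3e1ecf4
noncomputable def clsTab_0 : Nat := nat_lit 0x0

end Cfsg.Agent.Lib.Helper4.TCD.M22pX11
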