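import Cfsg.Agent.Lib.Helper4.TCD_M23pA_Acc

namespace Cfsg.Agent.Lib.Helper4.TCD.M23pA

open Cfsg.Agent.Lib.Helper4.TC

set_option maxRecDepth 100000
set_option Elab.async false

theorem c_zero : D.zeroOK = true := by decide +kernel
theorem c_base : allBelow D.baseOK 4 = true := by decide +kernel
theorem c_let : allBelow D.letOK 6 = true := by decide +kernel
theorem c_cls0 : T.cls 0 = 0 := by decide +kernel
theorem c_name0 : T.nameOf 0 = 0 := by decide +kernel
theorem c_tab : D.relTabOK 0 (baseRels 6 PM23p.invR PM23p.P.real subs ++ (baseRels 6 PM23p.invR PM23p.P.real subs).map (invWord D.inv)) = true := by decide +kernel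
theorem c_real : PM23p.P.real = realLit := by decide +kernel
theorem c_subfix : subs.all (fun u => Nat.beq (Tab.act T D u 0) 0) = true := by decide +kernel
theorem c_subs : subs.all (fun u => u.all (fun x => Nat.ble (Nat.succ x) 6)) = true := by decide +kernel
theorem c_names_0 : allRange D.nameOK 1 13119 = true := by decide +kernel
theorem c_cls_0 : allRange (T.clsOK D) 1 13119 = true := by decide +kernel
theorem c_rep_0 : allRange (T.repOK D) 0 1288 = true := by decide +kernel
theorem c_rel_0 : allRange D.relOK 13124 3113 = true := by decide +kernel
theorem c_rel_1 : allRange D.relOK 16237 2412 = true := by decide +kernel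
theorem c_rel_2 : allRange D.relOK 18649 2445 = true := by decide +kernel
theorem c_rel_3 : allRange D.relOK 21094 3384 = true := by decide +kernel
theorem c_rel_4 : allRange D.relOK 24478 3169 = true := by decide +kernel
theorem c_rel_5 : allRange D.relOK 27647 2989 = true := by decide +kernel
theorem c_rel_6 : allRange D.relOK 30636 4232 = true := by decide +kernel
theorem c_fin_0 : allGrid (T.finOK D) 0 1288 6 = true := by decide +kernel
theorem c_perm_0 : allGrid (T.permOK1 D) 0 1288 6 = true := by decide +kernel
theorem c_act0_0 : allRange (fun i => Nat.beq (actR0 i) i) 0 1288 = true := by decide +kernel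
theorem c_act1_0 : allRange (fun i => Nat.beq (actR1 i) i) 0 1288 = true := by decide +kernel
theorem c_act2_0 : allRange (fun i => Nat.beq (actR2 i) i) 0 1288 = true := by decide +kernel
theorem c_act3_0 : allRange (fun i => Nat.beq (actR3 i) i) 0 1288 = true := by decide +kernel
theorem c_act4_0 : allRange (fun i => Nat.beq (actR4 i) i) 0 1288 = true := by decide +kernel
theorem c_act5_0 : allRange (fun i => Nat.beq (actR5 i) i) 0 1288 = true := by decide +kernel
theorem c_act6_0 : allRange (fun i => Nat.beq (actR6 i) i) 0 1288 = true := by decide +kernel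
theorem c_act7_0 : allRange (fun i => Nat.beq (actR7 i) i) 0 1288 = true := by decide +kernel
theorem c_act8_0 : allRange (fun i => Nat.beq (actR8 i) i) 0 1288 = true := by decide +kernel
theorem c_act9_0 : allRange (fun i => Nat.beq (actR9 i) i) 0 1288 = true := by decide +kernel
theorem c_act10_0 : allRange (fun i => Nat.beq (actR10 i) i) 0 1288 = true := by decide +kernel
theorem c_act11_0 : allRange (fun i => Nat.beq (actR11 i) i) 0 1288 = true := by decide +kernel
theorem c_oinv0_0 : allRange (Tab.orbInvOK T D subs 1 793) 1 792 = true := by decide +kernel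
theorem c_otree0_0 : allRange (Tab.orbTreeOK T D subs oparTab olabTab 1) 2 791 = true := by decide +kernel
theorem c_oinv1_0 : allRange (Tab.orbInvOK T D subs 793 1123) 793 330 = true := by decide +kernel
theorem c_otree1_0 : allRange (Tab.orbTreeOK T D subs oparTab olabTab 793) 794 329 = true := by decide +kernel
theorem c_oinv2_0 : allRange (Tab.orbInvOK T D subs 1123 1288) 1123 165 = true := by decide +kernel
theorem c_otree2_0 : allRange (Tab.orbTreeOK T D subs oparTab olabTab 1123) 1124 164 = true := by decide +kernel

end Cfsg.Agent.Lib.Helper4.TCD.M23pA
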