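import Cfsg.Agent.Lib.Helper4.TC11
import Cfsg.Agent.Lib.Helper4.TCD_M23pA_Acc
import Cfsg.Agent.Lib.Helper4.TCD_M23pL_D0

namespace Cfsg.Agent.Lib.Helper4.TCD.M23pL

open Cfsg.Agent.Lib.Helper4.TC Cfsg.Agent.Lib.Helper4.TCD.M23pA

set_option maxRecDepth 100000

noncomputable def st6 (i : Nat) : Nat := rdw 11 2047 st6_0 i
noncomputable def st7 (i : Nat) : Nat := rdw 11 2047 st7_0 i
noncomputable def st8 (i : Nat) : Nat := rdw 11 2047 st8_0 i
noncomputable def st9 (i : Nat) : Nat := rdw 11 2047 st9_0 i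
noncomputable def levTab (i : Nat) : Nat := rdw 3 7 levTab_0 i
noncomputable def betaTab (i : Nat) : Nat := rdw 11 2047 betaTab_0 i
noncomputable def nodeTab_s_0_2 (c : Nat) : Nat := @Bool.rec (fun _ => Nat) (nodeTab_0) (nodeTab_1) (Nat.ble 1 c)
noncomputable def nodeTab (i : Nat) : Nat := rdw 29 536870911 (nodeTab_s_0_2 (Nat.shiftRight i 11)) (Nat.land i 2047)
noncomputable def offTab (i : Nat) : Nat := rdw 12 4095 offTab_0 i
noncomputable def nTab (i : Nat) : Nat := rdw 11 2047 nTab_0 i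
noncomputable def rootTab (i : Nat) : Nat := rdw 11 2047 rootTab_0 i
noncomputable def tabF (i p : Nat) : Nat := @Bool.rec (fun _ => Nat) (@Bool.rec (fun _ => Nat) (@Bool.rec (fun _ => Nat) (col1 p) (col0 p) (Nat.ble 1 i)) (@Bool.rec (fun _ => Nat) (col3 p) (@Bool.rec (fun _ => Nat) (col2 p) (col5 p) (Nat.ble 4 i)) (Nat.ble 3 i)) (Nat.ble 2 i)) (@Bool.rec (fun _ => Nat) (@Bool.rec (fun _ => Nat) (col4 p) (st6 p) (Nat.ble 6 i)) (@Bool.rec (fun _ => Nat) (st7 p) (@Bool.rec (fun _ => Nat) (st8 p) (st9 p) (Nat.ble 9 i)) (Nat.ble 8 i)) (Nat.ble 7 i)) (Nat.ble 5 i)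
def wAF : Nat → List Nat
  | 6 => [2, 4, 2, 2, 0, 4]
  | 7 => [6]
  | 8 => [0, 7, 2, 4, 2, 7, 7, 2, 7, 2]
  | 9 => []
  | _ => []
def wBF : Nat → List Nat
  | 6 => [3, 4, 4, 4, 2, 0, 4]
  | 7 => []
  | 8 => [7, 2, 7, 7, 4]
  | 9 => [0]
  | _ => []
noncomputable def ptF (j idx : Nat) : Nat := Nat.land (nodeTab (Nat.add (offTab j) idx)) 2047
noncomputable def parF (j idx : Nat) : Nat := Nat.land (Nat.shiftRight (nodeTab (Nat.add (offTab j) idx)) 11) 2047
noncomputable def giF (j idx : Nat) : Nat := Nat.land (Nat.shiftRight (nodeTab (Nat.add (offTab j) idx)) 22) 15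
noncomputable def depF (j idx : Nat) : Nat := Nat.shiftRight (nodeTab (Nat.add (offTab j) idx)) 26

noncomputable def S : Sgs :=
  { N := 1288, k := 6, m := 10, tab := tabF, wA := wAF, wB := wBF, lev := levTab, r := 4, beta := betaTab,
    n := nTab, root := rootTab, pt := ptF, par := parF, gi := giF, dep := depF }

noncomputable def chk6 (p : Nat) : Bool := band (Nat.ble (Nat.succ (st6 p)) 1288) (Nat.beq (col3 (col5 (col3 (col3 (col1 (col5 (st6 p))))))) (col2 (col5 (col5 (col5 (col3 (col1 (col5 p))))))))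
theorem chk6_eq (p : Nat) : chk6 p = Sgs.permOK S 6 p := rfl
noncomputable def chk7 (p : Nat) : Bool := band (Nat.ble (Nat.succ (st7 p)) 1288) (Nat.beq (st6 (st7 p)) p)
theorem chk7_eq (p : Nat) : chk7 p = Sgs.permOK S 7 p := rfl
noncomputable def chk8 (p : Nat) : Bool := band (Nat.ble (Nat.succ (st8 p)) 1288) (Nat.beq (col1 (st7 (col3 (col5 (col3 (st7 (st7 (col3 (st7 (col3 (st8 p))))))))))) (st7 (col3 (st7 (st7 (col5 p))))))
theorem chk8_eq (p : Nat) : chk8 p = Sgs.permOK S 8 p := rfl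
noncomputable def chk9 (p : Nat) : Bool := band (Nat.ble (Nat.succ (st9 p)) 1288) (Nat.beq (st9 p) (col1 p))
theorem chk9_eq (p : Nat) : chk9 p = Sgs.permOK S 9 p := rfl

end Cfsg.Agent.Lib.Helper4.TCD.M23pL
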