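namespace Cfsg.Agent.Lib.Helper4.TCD.M23pX23

noncomputable def Atab_0 : Nat := nat_lit 0x14020030040040000602c0388f1ae26c7120c14522c2f810008828e2d8528c4066088008600
noncomputable def Btab_0 : Nat := nat_lit 0x27420253610119908084b8403e54201d26100d60cc0b2e0813d09a63a5ca21b1c49440d8200030f29016084103208d0102000041000000841
noncomputable def Ptab_0 : Nat := nat_lit 0x14209568105a660839d17e580c9c39c545f9603270e71517e580c9c39c545f9603270e71517e580c9c39c545f96032736190675f75f1833d73d72e379c88a58e2e31832e379b28f5d32552551de71e71e6d845f75f31639638250815969f79c79061870650849638225525515965a40449639639314e202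
noncomputable def RRtab_0 : Nat := nat_lit 0x965b2c4d369a0412082a0aaa50d55150555286aa8b86b90415b85c35c820adc2cdacdae28d966d66d7146cd30d30510d30d30510d35536a90d35536a90ba8485d424b6db6db6db6db6db6db6db6db6db6db6db4b2ca2cb65165145965165b28b28a2d96cb65b2d96cb65b2d96cb65b2cb2cb2cb2cb2cb2cb2cb2cb2cb2cb2cb6db6db249b6596cb134da68104821c7056e386b0e382b71c358a9434daa0a854a1a6d505412aea902902095754814810a61a20a20a61a20a20b5c823820b5c823820b4b885a5c4249249249249249249249249249249249246184184820c20830c20c2410610412090482412090482412090482410410410410410410410410410410410412492480024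
noncomputable def rBtab_0 : Nat := nat_lit 0xb02bcae2b4ac2aca3a7094a3a88a14799c0671705a1645895e569565494e5292c438f0360c02c8841783a0380600800
noncomputable def rLtab_0 : Nat := nat_lit 0x42108427bdec61ef395882088421084f7bd8c3de72b1041
noncomputable def nameTab_0 : Nat := nat_lit 0x0
noncomputable def col0_0 : Nat := nat_lit 0x0
noncomputable def col1_0 : Nat := nat_lit 0x0
noncomputable def col2_0 : Nat := nat_lit 0x0
noncomputable def col3_0 : Nat := nat_lit 0x0
noncomputable def col4_0 : Nat := nat_lit 0x0
noncomputable def col5_0 : Nat := nat_lit 0x0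
noncomputable def finTab_0 : Nat := nat_lit 0xd32c2eb2a
noncomputable def clsTab_0 : Nat := nat_lit 0x0

end Cfsg.Agent.Lib.Helper4.TCD.M23pX23
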