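namespace Cfsg.Agent.Lib.Helper4.TCD.M24pL

noncomputable def st8_0 : Nat := nat_lit 0x8bac74894d990b5bd21260ccb43c20
noncomputable def st9_0 : Nat := nat_lit 0x5d58a7a2e915a0724663a15ae34820
noncomputable def st10_0 : Nat := nat_lit 0xb56e4651c78be490b56284d451a0c0
noncomputable def st11_0 : Nat := nat_lit 0xaded2335e77455349582804941a160
noncomputable def st12_0 : Nat := nat_lit 0xa20e2b2af8aa92bb6c459a69188e0
noncomputable def st13_0 : Nat := nat_lit 0x5a62d2b1f5851523b89609a6818ae0
noncomputable def st14_0 : Nat := nat_lit 0x85a4a49ded44ee5589d1a988c1d020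
noncomputable def st15_0 : Nat := nat_lit 0x6d8e2755178a6045d26f919851a820
noncomputable def st16_0 : Nat := nat_lit 0x4b6765a2ee7968caca2a21a0219c20
noncomputable def st17_0 : Nat := nat_lit 0x8d16daa9257c2cc9a2f2119c719020
noncomputable def st18_0 : Nat := nat_lit 0x3ceb2b51012b84c4a971b99e41b600
noncomputable def st19_0 : Nat := nat_lit 0xad10f14889b2dac0c15789a67195c0
noncomputable def st20_0 : Nat := nat_lit 0x43ef62c8eaa05ac72615218511cd60
noncomputable def st21_0 : Nat := nat_lit 0x5583459c827a5ac9ddc5919111c2a0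
noncomputable def st22_0 : Nat := nat_lit 0x3d8b422969789ac8ca01b9ab31b900
noncomputable def st23_0 : Nat := nat_lit 0xadaf4821d37c5ac10492298e91ad40
noncomputable def levTab_0 : Nat := nat_lit 0xdb5b246db489009276
noncomputable def betaTab_0 : Nat := nat_lit 0x5ed61860
noncomputable def nodeTab_0 : Nat := nat_lit 0x15dd735055dd53572c9dd31550c1582e570acdc0a76524d8087719d59c597310800200004cc1634050000f607dcc536717d4c1345294d4a126074554305383d582e000355c2b71729dc497072140275309544243248900217075db4b64f7d549f44c1ccb132407c54070521bd446e6c3b4000c7672d45ea401a541e84e79cb9252f49150626d2050237528d946356d650a8936c549c6b1578c1c86f4f8b9bead4a8b1422b570293a29560213007000193225568914e222b20534174d3d954156e0d128b3483c938f15204110ef45039c82d623312c0b57029bda92812130072411924a545390000340008884145b5c981649b5546d442b4d823243b45483054b3d12ce50b35aa6c4b0ad5c2a4db2532c84c09d28266c9951c244208d0022270040000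
noncomputable def offTab_0 : Nat := nat_lit 0x716e5a452f1800
noncomputable def nTab_0 : Nat := nat_lit 0x4074adaf8
noncomputable def rootTab_0 : Nat := nat_lit 0x949040

end Cfsg.Agent.Lib.Helper4.TCD.M24pL
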