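import Cfsg.Agent.Lib.Helper4.TC11
import Cfsg.Agent.Lib.Helper4.TCD_M24pA_Acc
import Cfsg.Agent.Lib.Helper4.TCD_M24pL_D0

namespace Cfsg.Agent.Lib.Helper4.TCD.M24pL

open Cfsg.Agent.Lib.Helper4.TC Cfsg.Agent.Lib.Helper4.TCD.M24pA

set_option maxRecDepth 100000

noncomputable def st8 (i : Nat) : Nat := rdw 5 31 st8_0 i
noncomputable def st9 (i : Nat) : Nat := rdw 5 31 st9_0 i
noncomputable def st10 (i : Nat) : Nat := rdw 5 31 st10_0 i
noncomputable def st11 (i : Nat) : Nat := rdw 5 31 st11_0 i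
noncomputable def st12 (i : Nat) : Nat := rdw 5 31 st12_0 i
noncomputable def st13 (i : Nat) : Nat := rdw 5 31 st13_0 i
noncomputable def st14 (i : Nat) : Nat := rdw 5 31 st14_0 i
noncomputable def st15 (i : Nat) : Nat := rdw 5 31 st15_0 i
noncomputable def st16 (i : Nat) : Nat := rdw 5 31 st16_0 i
noncomputable def st17 (i : Nat) : Nat := rdw 5 31 st17_0 i
noncomputable def st18 (i : Nat) : Nat := rdw 5 31 st18_0 i
noncomputable def st19 (i : Nat) : Nat := rdw 5 31 st19_0 i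
noncomputable def st20 (i : Nat) : Nat := rdw 5 31 st20_0 i
noncomputable def st21 (i : Nat) : Nat := rdw 5 31 st21_0 i
noncomputable def st22 (i : Nat) : Nat := rdw 5 31 st22_0 i
noncomputable def st23 (i : Nat) : Nat := rdw 5 31 st23_0 i
noncomputable def levTab (i : Nat) : Nat := rdw 3 7 levTab_0 i
noncomputable def betaTab (i : Nat) : Nat := rdw 5 31 betaTab_0 i
noncomputable def nodeTab (i : Nat) : Nat := rdw 18 262143 nodeTab_0 i
noncomputable def offTab (i : Nat) : Nat := rdw 8 255 offTab_0 i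
noncomputable def nTab (i : Nat) : Nat := rdw 5 31 nTab_0 i
noncomputable def rootTab (i : Nat) : Nat := rdw 5 31 rootTab_0 i
noncomputable def tabF (i p : Nat) : Nat := @Bool.rec (fun _ => Nat) (@Bool.rec (fun _ => Nat) (@Bool.rec (fun _ => Nat) (@Bool.rec (fun _ => Nat) (col1 p) (@Bool.rec (fun _ => Nat) (col0 p) (col3 p) (Nat.ble 2 i)) (Nat.ble 1 i)) (@Bool.rec (fun _ => Nat) (col2 p) (@Bool.rec (fun _ => Nat) (col5 p) (col4 p) (Nat.ble 5 i)) (Nat.ble 4 i)) (Nat.ble 3 i)) (@Bool.rec (fun _ => Nat) (@Bool.rec (fun _ => Nat) (col7 p) (@Bool.rec (fun _ => Nat) (col6 p) (st8 p) (Nat.ble 8 i)) (Nat.ble 7 i)) (@Bool.rec (fun _ => Nat) (st9 p) (@Bool.rec (fun _ => Nat) (st10 p) (st11 p) (Nat.ble 11 i)) (Nat.ble 10 i)) (Nat.ble 9 i)) (Nat.ble 6 i)) (@Bool.rec (fun _ => Nat) (@Bool.rec (fun _ => Nat) (@Bool.rec (fun _ => Nat) (st12 p) (@Bool.rec (fun _ => Nat) (st13 p) (st14 p) (Nat.ble 14 i)) (Nat.ble 13 i)) (@Bool.rec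 (fun _ => Nat) (st15 p) (@Bool.rec (fun _ => Nat) (st16 p) (st17 p) (Nat.ble 17 i)) (Nat.ble 16 i)) (Nat.ble 15 i)) (@Bool.rec (fun _ => Nat) (@Bool.rec (fun _ => Nat) (st18 p) (@Bool.rec (fun _ => Nat) (st19 p) (st20 p) (Nat.ble 20 i)) (Nat.ble 19 i)) (@Bool.rec (fun _ => Nat) (st21 p) (@Bool.rec (fun _ => Nat) (st22 p) (st23 p) (Nat.ble 23 i)) (Nat.ble 22 i)) (Nat.ble 21 i)) (Nat.ble 18 i)) (Nat.ble 12 i)
def wAF : Nat → List Nat
  | 8 => [5, 6]
  | 9 => [8]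
  | 10 => [5, 8]
  | 11 => [10]
  | 12 => [9, 2, 6, 5, 2, 0, 11, 0, 10]
  | 13 => [12]
  | 14 => [7, 7, 13, 5, 2, 12, 11]
  | 15 => [14]
  | 16 => [5, 2, 0, 15, 10, 13, 14, 12]
  | 17 => [16]
  | 18 => [2, 0, 11, 17, 12]
  | 19 => [16, 0, 12, 0, 18]
  | 20 => [19]
  | 21 => [12, 2, 6, 18, 2, 18, 12, 10, 16, 0, 12, 18, 0, 18, 20]
  | 22 => [4, 15, 10, 18, 16, 19]
  | 23 => [12, 16, 18, 17]
  | _ => []
def wBF : Nat → List Nat
  | 8 => [1, 2, 6]
  | 9 => []
  | 10 => [3, 0, 2]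
  | 11 => []
  | 12 => [6, 0, 7]
  | 13 => []
  | 14 => [4, 3, 6]
  | 15 => []
  | 16 => [1, 8]
  | 17 => []
  | 18 => [9, 2]
  | 19 => [0, 12, 14]
  | 20 => []
  | 21 => [16, 4, 6]
  | 22 => [0, 4]
  | 23 => [21, 14, 12]
  | _ => []
noncomputable def ptF (j idx : Nat) : Nat := Nat.land (nodeTab (Nat.add (offTab j) idx)) 31
noncomputable def parF (j idx : Nat) : Nat := Nat.land (Nat.shiftRight (nodeTab (Nat.add (offTab j) idx)) 5) 31
noncomputable def giF (j idx : Nat) : Nat := Nat.land (Nat.shiftRight (nodeTab (Nat.add (offTab j) idx)) 10) 31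
noncomputable def depF (j idx : Nat) : Nat := Nat.shiftRight (nodeTab (Nat.add (offTab j) idx)) 15

noncomputable def S : Sgs :=
  { N := 24, k := 8, m := 24, tab := tabF, wA := wAF, wB := wBF, lev := levTab, r := 7, beta := betaTab,
    n := nTab, root := rootTab, pt := ptF, par := parF, gi := giF, dep := depF }

noncomputable def chk8 (p : Nat) : Bool := band (Nat.ble (Nat.succ (st8 p)) 24) (Nat.beq (col4 (col7 (st8 p))) (col0 (col3 (col7 p))))
theorem chk8_eq (p : Nat) : chk8 p = Sgs.permOK S 8 p := rfl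
noncomputable def chk9 (p : Nat) : Bool := band (Nat.ble (Nat.succ (st9 p)) 24) (Nat.beq (st8 (st9 p)) p)
theorem chk9_eq (p : Nat) : chk9 p = Sgs.permOK S 9 p := rfl
noncomputable def chk10 (p : Nat) : Bool := band (Nat.ble (Nat.succ (st10 p)) 24) (Nat.beq (col4 (st8 (st10 p))) (col2 (col1 (col3 p))))
theorem chk10_eq (p : Nat) : chk10 p = Sgs.permOK S 10 p := rfl
noncomputable def chk11 (p : Nat) : Bool := band (Nat.ble (Nat.succ (st11 p)) 24) (Nat.beq (st10 (st11 p)) p)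
theorem chk11_eq (p : Nat) : chk11 p = Sgs.permOK S 11 p := rfl
noncomputable def chk12 (p : Nat) : Bool := band (Nat.ble (Nat.succ (st12 p)) 24) (Nat.beq (st9 (col3 (col7 (col4 (col3 (col1 (st11 (col1 (st10 (st12 p)))))))))) (col7 (col1 (col6 p))))
theorem chk12_eq (p : Nat) : chk12 p = Sgs.permOK S 12 p := rfl
noncomputable def chk13 (p : Nat) : Bool := band (Nat.ble (Nat.succ (st13 p)) 24) (Nat.beq (st12 (st13 p)) p)
theorem chk13_eq (p : Nat) : chk13 p = Sgs.permOK S 13 p := rfl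
noncomputable def chk14 (p : Nat) : Bool := band (Nat.ble (Nat.succ (st14 p)) 24) (Nat.beq (col6 (col6 (st13 (col4 (col3 (st12 (st11 (st14 p)))))))) (col5 (col2 (col7 p))))
theorem chk14_eq (p : Nat) : chk14 p = Sgs.permOK S 14 p := rfl
noncomputable def chk15 (p : Nat) : Bool := band (Nat.ble (Nat.succ (st15 p)) 24) (Nat.beq (st14 (st15 p)) p)
theorem chk15_eq (p : Nat) : chk15 p = Sgs.permOK S 15 p := rfl
noncomputable def chk16 (p : Nat) : Bool := band (Nat.ble (Nat.succ (st16 p)) 24) (Nat.beq (col4 (col3 (col1 (st15 (st10 (st13 (st14 (st12 (st16 p))))))))) (col0 (st8 p)))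
theorem chk16_eq (p : Nat) : chk16 p = Sgs.permOK S 16 p := rfl
noncomputable def chk17 (p : Nat) : Bool := band (Nat.ble (Nat.succ (st17 p)) 24) (Nat.beq (st16 (st17 p)) p)
theorem chk17_eq (p : Nat) : chk17 p = Sgs.permOK S 17 p := rfl
noncomputable def chk18 (p : Nat) : Bool := band (Nat.ble (Nat.succ (st18 p)) 24) (Nat.beq (col3 (col1 (st11 (st17 (st12 (st18 p)))))) (st9 (col3 p)))
theorem chk18_eq (p : Nat) : chk18 p = Sgs.permOK S 18 p := rfl
noncomputable def chk19 (p : Nat) : Bool := band (Nat.ble (Nat.succ (st19 p)) 24) (Nat.beq (st16 (col1 (st12 (col1 (st18 (st19 p)))))) (col1 (st12 (st14 p))))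
theorem chk19_eq (p : Nat) : chk19 p = Sgs.permOK S 19 p := rfl
noncomputable def chk20 (p : Nat) : Bool := band (Nat.ble (Nat.succ (st20 p)) 24) (Nat.beq (st19 (st20 p)) p)
theorem chk20_eq (p : Nat) : chk20 p = Sgs.permOK S 20 p := rfl
noncomputable def chk21 (p : Nat) : Bool := band (Nat.ble (Nat.succ (st21 p)) 24) (Nat.beq (st12 (col3 (col7 (st18 (col3 (st18 (st12 (st10 (st16 (col1 (st12 (st18 (col1 (st18 (st20 (st21 p)))))))))))))))) (st16 (col5 (col7 p))))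
theorem chk21_eq (p : Nat) : chk21 p = Sgs.permOK S 21 p := rfl
noncomputable def chk22 (p : Nat) : Bool := band (Nat.ble (Nat.succ (st22 p)) 24) (Nat.beq (col5 (st15 (st10 (st18 (st16 (st19 (st22 p))))))) (col1 (col5 p)))
theorem chk22_eq (p : Nat) : chk22 p = Sgs.permOK S 22 p := rfl
noncomputable def chk23 (p : Nat) : Bool := band (Nat.ble (Nat.succ (st23 p)) 24) (Nat.beq (st12 (st16 (st18 (st17 (st23 p))))) (st21 (st14 (st12 p))))
theorem chk23_eq (p : Nat) : chk23 p = Sgs.permOK S 23 p := rfl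

end Cfsg.Agent.Lib.Helper4.TCD.M24pL
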