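import Cfsg.Agent.Lib.Helper4.TC7
import Cfsg.Agent.Lib.Helper4.TCP_McLp
import Cfsg.Agent.Lib.Helper4.TCD_McLpA_D0
import Cfsg.Agent.Lib.Helper4.TCD_McLpA_D1
import Cfsg.Agent.Lib.Helper4.TCD_McLpA_D2
import Cfsg.Agent.Lib.Helper4.TCD_McLpA_D3
import Cfsg.Agent.Lib.Helper4.TCD_McLpA_D4

namespace Cfsg.Agent.Lib.Helper4.TCD.McLpA

open Cfsg.Agent.Lib.Helper4.TC

set_option maxRecDepth 100000

noncomputable def Atab_s_1_3 (c : Nat) : Nat := @Bool.rec (fun _ => Nat) (Atab_1) (Atab_2) (Nat.ble 2 c)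
noncomputable def Atab_s_0_3 (c : Nat) : Nat := @Bool.rec (fun _ => Nat) (Atab_0) (Atab_s_1_3 c) (Nat.ble 1 c)
noncomputable def Atab_s_4_6 (c : Nat) : Nat := @Bool.rec (fun _ => Nat) (Atab_4) (Atab_5) (Nat.ble 5 c)
noncomputable def Atab_s_3_6 (c : Nat) : Nat := @Bool.rec (fun _ => Nat) (Atab_3) (Atab_s_4_6 c) (Nat.ble 4 c)
noncomputable def Atab_s_0_6 (c : Nat) : Nat := @Bool.rec (fun _ => Nat) (Atab_s_0_3 c) (Atab_s_3_6 c) (Nat.ble 3 c)
noncomputable def Atab_s_7_9 (c : Nat) : Nat := @Bool.rec (fun _ => Nat) (Atab_7) (Atab_8) (Nat.ble 8 c)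
noncomputable def Atab_s_6_9 (c : Nat) : Nat := @Bool.rec (fun _ => Nat) (Atab_6) (Atab_s_7_9 c) (Nat.ble 7 c)
noncomputable def Atab_s_9_11 (c : Nat) : Nat := @Bool.rec (fun _ => Nat) (Atab_9) (Atab_10) (Nat.ble 10 c)
noncomputable def Atab_s_11_13 (c : Nat) : Nat := @Bool.rec (fun _ => Nat) (Atab_11) (Atab_12) (Nat.ble 12 c)
noncomputable def Atab_s_9_13 (c : Nat) : Nat := @Bool.rec (fun _ => Nat) (Atab_s_9_11 c) (Atab_s_11_13 c) (Nat.ble 11 c)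
noncomputable def Atab_s_6_13 (c : Nat) : Nat := @Bool.rec (fun _ => Nat) (Atab_s_6_9 c) (Atab_s_9_13 c) (Nat.ble 9 c)
noncomputable def Atab_s_0_13 (c : Nat) : Nat := @Bool.rec (fun _ => Nat) (Atab_s_0_6 c) (Atab_s_6_13 c) (Nat.ble 6 c)
noncomputable def Atab_s_14_16 (c : Nat) : Nat := @Bool.rec (fun _ => Nat) (Atab_14) (Atab_15) (Nat.ble 15 c)
noncomputable def Atab_s_13_16 (c : Nat) : Nat := @Bool.rec (fun _ => Nat) (Atab_13) (Atab_s_14_16 c) (Nat.ble 14 c)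
noncomputable def Atab_s_17_19 (c : Nat) : Nat := @Bool.rec (fun _ => Nat) (Atab_17) (Atab_18) (Nat.ble 18 c)
noncomputable def Atab_s_16_19 (c : Nat) : Nat := @Bool.rec (fun _ => Nat) (Atab_16) (Atab_s_17_19 c) (Nat.ble 17 c)
noncomputable def Atab_s_13_19 (c : Nat) : Nat := @Bool.rec (fun _ => Nat) (Atab_s_13_16 c) (Atab_s_16_19 c) (Nat.ble 16 c)
noncomputable def Atab_s_20_22 (c : Nat) : Nat := @Bool.rec (fun _ => Nat) (Atab_20) (Atab_21) (Nat.ble 21 c)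
noncomputable def Atab_s_19_22 (c : Nat) : Nat := @Bool.rec (fun _ => Nat) (Atab_19) (Atab_s_20_22 c) (Nat.ble 20 c)
noncomputable def Atab_s_22_24 (c : Nat) : Nat := @Bool.rec (fun _ => Nat) (Atab_22) (Atab_23) (Nat.ble 23 c)
noncomputable def Atab_s_24_26 (c : Nat) : Nat := @Bool.rec (fun _ => Nat) (Atab_24) (Atab_25) (Nat.ble 25 c)
noncomputable def Atab_s_22_26 (c : Nat) : Nat := @Bool.rec (fun _ => Nat) (Atab_s_22_24 c) (Atab_s_24_26 c) (Nat.ble 24 c)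
noncomputable def Atab_s_19_26 (c : Nat) : Nat := @Bool.rec (fun _ => Nat) (Atab_s_19_22 c) (Atab_s_22_26 c) (Nat.ble 22 c)
noncomputable def Atab_s_13_26 (c : Nat) : Nat := @Bool.rec (fun _ => Nat) (Atab_s_13_19 c) (Atab_s_19_26 c) (Nat.ble 19 c)
noncomputable def Atab_s_0_26 (c : Nat) : Nat := @Bool.rec (fun _ => Nat) (Atab_s_0_13 c) (Atab_s_13_26 c) (Nat.ble 13 c)
noncomputable def Atab_s_27_29 (c : Nat) : Nat := @Bool.rec (fun _ => Nat) (Atab_27) (Atab_28) (Nat.ble 28 c)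
noncomputable def Atab_s_26_29 (c : Nat) : Nat := @Bool.rec (fun _ => Nat) (Atab_26) (Atab_s_27_29 c) (Nat.ble 27 c)
noncomputable def Atab_s_30_32 (c : Nat) : Nat := @Bool.rec (fun _ => Nat) (Atab_30) (Atab_31) (Nat.ble 31 c)
noncomputable def Atab_s_29_32 (c : Nat) : Nat := @Bool.rec (fun _ => Nat) (Atab_29) (Atab_s_30_32 c) (Nat.ble 30 c)
noncomputable def Atab_s_26_32 (c : Nat) : Nat := @Bool.rec (fun _ => Nat) (Atab_s_26_29 c) (Atab_s_29_32 c) (Nat.ble 29 c)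
noncomputable def Atab_s_33_35 (c : Nat) : Nat := @Bool.rec (fun _ => Nat) (Atab_33) (Atab_34) (Nat.ble 34 c)
noncomputable def Atab_s_32_35 (c : Nat) : Nat := @Bool.rec (fun _ => Nat) (Atab_32) (Atab_s_33_35 c) (Nat.ble 33 c)
noncomputable def Atab_s_35_37 (c : Nat) : Nat := @Bool.rec (fun _ => Nat) (Atab_35) (Atab_36) (Nat.ble 36 c)
noncomputable def Atab_s_37_39 (c : Nat) : Nat := @Bool.rec (fun _ => Nat) (Atab_37) (Atab_38) (Nat.ble 38 c)
noncomputable def Atab_s_35_39 (c : Nat) : Nat := @Bool.rec (fun _ => Nat) (Atab_s_35_37 c) (Atab_s_37_39 c) (Nat.ble 37 c)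
noncomputable def Atab_s_32_39 (c : Nat) : Nat := @Bool.rec (fun _ => Nat) (Atab_s_32_35 c) (Atab_s_35_39 c) (Nat.ble 35 c)
noncomputable def Atab_s_26_39 (c : Nat) : Nat := @Bool.rec (fun _ => Nat) (Atab_s_26_32 c) (Atab_s_32_39 c) (Nat.ble 32 c)
noncomputable def Atab_s_40_42 (c : Nat) : Nat := @Bool.rec (fun _ => Nat) (Atab_40) (Atab_41) (Nat.ble 41 c)
noncomputable def Atab_s_39_42 (c : Nat) : Nat := @Bool.rec (fun _ => Nat) (Atab_39) (Atab_s_40_42 c) (Nat.ble 40 c)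
noncomputable def Atab_s_43_45 (c : Nat) : Nat := @Bool.rec (fun _ => Nat) (Atab_43) (Atab_44) (Nat.ble 44 c)
noncomputable def Atab_s_42_45 (c : Nat) : Nat := @Bool.rec (fun _ => Nat) (Atab_42) (Atab_s_43_45 c) (Nat.ble 43 c)
noncomputable def Atab_s_39_45 (c : Nat) : Nat := @Bool.rec (fun _ => Nat) (Atab_s_39_42 c) (Atab_s_42_45 c) (Nat.ble 42 c)
noncomputable def Atab_s_46_48 (c : Nat) : Nat := @Bool.rec (fun _ => Nat) (Atab_46) (Atab_47) (Nat.ble 47 c)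
noncomputable def Atab_s_45_48 (c : Nat) : Nat := @Bool.rec (fun _ => Nat) (Atab_45) (Atab_s_46_48 c) (Nat.ble 46 c)
noncomputable def Atab_s_48_50 (c : Nat) : Nat := @Bool.rec (fun _ => Nat) (Atab_48) (Atab_49) (Nat.ble 49 c)
noncomputable def Atab_s_50_52 (c : Nat) : Nat := @Bool.rec (fun _ => Nat) (Atab_50) (Atab_51) (Nat.ble 51 c)
noncomputable def Atab_s_48_52 (c : Nat) : Nat := @Bool.rec (fun _ => Nat) (Atab_s_48_50 c) (Atab_s_50_52 c) (Nat.ble 50 c)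
noncomputable def Atab_s_45_52 (c : Nat) : Nat := @Bool.rec (fun _ => Nat) (Atab_s_45_48 c) (Atab_s_48_52 c) (Nat.ble 48 c)
noncomputable def Atab_s_39_52 (c : Nat) : Nat := @Bool.rec (fun _ => Nat) (Atab_s_39_45 c) (Atab_s_45_52 c) (Nat.ble 45 c)
noncomputable def Atab_s_26_52 (c : Nat) : Nat := @Bool.rec (fun _ => Nat) (Atab_s_26_39 c) (Atab_s_39_52 c) (Nat.ble 39 c)
noncomputable def Atab_s_0_52 (c : Nat) : Nat := @Bool.rec (fun _ => Nat) (Atab_s_0_26 c) (Atab_s_26_52 c) (Nat.ble 26 c)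
noncomputable def Atab (i : Nat) : Nat := rdw 34 17179869183 (Atab_s_0_52 (Nat.shiftRight i 11)) (Nat.land i 2047)
noncomputable def Btab_s_0_2 (c : Nat) : Nat := @Bool.rec (fun _ => Nat) (Btab_0) (Btab_1) (Nat.ble 1 c)
noncomputable def Btab_s_2_4 (c : Nat) : Nat := @Bool.rec (fun _ => Nat) (Btab_2) (Btab_3) (Nat.ble 3 c)
noncomputable def Btab_s_0_4 (c : Nat) : Nat := @Bool.rec (fun _ => Nat) (Btab_s_0_2 c) (Btab_s_2_4 c) (Nat.ble 2 c)
noncomputable def Btab_s_4_6 (c : Nat) : Nat := @Bool.rec (fun _ => Nat) (Btab_4) (Btab_5) (Nat.ble 5 c)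
noncomputable def Btab_s_7_9 (c : Nat) : Nat := @Bool.rec (fun _ => Nat) (Btab_7) (Btab_8) (Nat.ble 8 c)
noncomputable def Btab_s_6_9 (c : Nat) : Nat := @Bool.rec (fun _ => Nat) (Btab_6) (Btab_s_7_9 c) (Nat.ble 7 c)
noncomputable def Btab_s_4_9 (c : Nat) : Nat := @Bool.rec (fun _ => Nat) (Btab_s_4_6 c) (Btab_s_6_9 c) (Nat.ble 6 c)
noncomputable def Btab_s_0_9 (c : Nat) : Nat := @Bool.rec (fun _ => Nat) (Btab_s_0_4 c) (Btab_s_4_9 c) (Nat.ble 4 c)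
noncomputable def Btab_s_9_11 (c : Nat) : Nat := @Bool.rec (fun _ => Nat) (Btab_9) (Btab_10) (Nat.ble 10 c)
noncomputable def Btab_s_11_13 (c : Nat) : Nat := @Bool.rec (fun _ => Nat) (Btab_11) (Btab_12) (Nat.ble 12 c)
noncomputable def Btab_s_9_13 (c : Nat) : Nat := @Bool.rec (fun _ => Nat) (Btab_s_9_11 c) (Btab_s_11_13 c) (Nat.ble 11 c)
noncomputable def Btab_s_13_15 (c : Nat) : Nat := @Bool.rec (fun _ => Nat) (Btab_13) (Btab_14) (Nat.ble 14 c)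
noncomputable def Btab_s_16_18 (c : Nat) : Nat := @Bool.rec (fun _ => Nat) (Btab_16) (Btab_17) (Nat.ble 17 c)
noncomputable def Btab_s_15_18 (c : Nat) : Nat := @Bool.rec (fun _ => Nat) (Btab_15) (Btab_s_16_18 c) (Nat.ble 16 c)
noncomputable def Btab_s_13_18 (c : Nat) : Nat := @Bool.rec (fun _ => Nat) (Btab_s_13_15 c) (Btab_s_15_18 c) (Nat.ble 15 c)
noncomputable def Btab_s_9_18 (c : Nat) : Nat := @Bool.rec (fun _ => Nat) (Btab_s_9_13 c) (Btab_s_13_18 c) (Nat.ble 13 c)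
noncomputable def Btab_s_0_18 (c : Nat) : Nat := @Bool.rec (fun _ => Nat) (Btab_s_0_9 c) (Btab_s_9_18 c) (Nat.ble 9 c)
noncomputable def Btab_s_18_20 (c : Nat) : Nat := @Bool.rec (fun _ => Nat) (Btab_18) (Btab_19) (Nat.ble 19 c)
noncomputable def Btab_s_20_22 (c : Nat) : Nat := @Bool.rec (fun _ => Nat) (Btab_20) (Btab_21) (Nat.ble 21 c)
noncomputable def Btab_s_18_22 (c : Nat) : Nat := @Bool.rec (fun _ => Nat) (Btab_s_18_20 c) (Btab_s_20_22 c) (Nat.ble 20 c)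
noncomputable def Btab_s_22_24 (c : Nat) : Nat := @Bool.rec (fun _ => Nat) (Btab_22) (Btab_23) (Nat.ble 23 c)
noncomputable def Btab_s_25_27 (c : Nat) : Nat := @Bool.rec (fun _ => Nat) (Btab_25) (Btab_26) (Nat.ble 26 c)
noncomputable def Btab_s_24_27 (c : Nat) : Nat := @Bool.rec (fun _ => Nat) (Btab_24) (Btab_s_25_27 c) (Nat.ble 25 c)
noncomputable def Btab_s_22_27 (c : Nat) : Nat := @Bool.rec (fun _ => Nat) (Btab_s_22_24 c) (Btab_s_24_27 c) (Nat.ble 24 c)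
noncomputable def Btab_s_18_27 (c : Nat) : Nat := @Bool.rec (fun _ => Nat) (Btab_s_18_22 c) (Btab_s_22_27 c) (Nat.ble 22 c)
noncomputable def Btab_s_27_29 (c : Nat) : Nat := @Bool.rec (fun _ => Nat) (Btab_27) (Btab_28) (Nat.ble 28 c)
noncomputable def Btab_s_29_31 (c : Nat) : Nat := @Bool.rec (fun _ => Nat) (Btab_29) (Btab_30) (Nat.ble 30 c)
noncomputable def Btab_s_27_31 (c : Nat) : Nat := @Bool.rec (fun _ => Nat) (Btab_s_27_29 c) (Btab_s_29_31 c) (Nat.ble 29 c)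
noncomputable def Btab_s_31_33 (c : Nat) : Nat := @Bool.rec (fun _ => Nat) (Btab_31) (Btab_32) (Nat.ble 32 c)
noncomputable def Btab_s_34_36 (c : Nat) : Nat := @Bool.rec (fun _ => Nat) (Btab_34) (Btab_35) (Nat.ble 35 c)
noncomputable def Btab_s_33_36 (c : Nat) : Nat := @Bool.rec (fun _ => Nat) (Btab_33) (Btab_s_34_36 c) (Nat.ble 34 c)
noncomputable def Btab_s_31_36 (c : Nat) : Nat := @Bool.rec (fun _ => Nat) (Btab_s_31_33 c) (Btab_s_33_36 c) (Nat.ble 33 c)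
noncomputable def Btab_s_27_36 (c : Nat) : Nat := @Bool.rec (fun _ => Nat) (Btab_s_27_31 c) (Btab_s_31_36 c) (Nat.ble 31 c)
noncomputable def Btab_s_18_36 (c : Nat) : Nat := @Bool.rec (fun _ => Nat) (Btab_s_18_27 c) (Btab_s_27_36 c) (Nat.ble 27 c)
noncomputable def Btab_s_0_36 (c : Nat) : Nat := @Bool.rec (fun _ => Nat) (Btab_s_0_18 c) (Btab_s_18_36 c) (Nat.ble 18 c)
noncomputable def Btab (i : Nat) : Nat := rdw 37 137438953471 (Btab_s_0_36 (Nat.shiftRight i 11)) (Nat.land i 2047)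
noncomputable def Ptab_s_0_2 (c : Nat) : Nat := @Bool.rec (fun _ => Nat) (Ptab_0) (Ptab_1) (Nat.ble 1 c)
noncomputable def Ptab_s_3_5 (c : Nat) : Nat := @Bool.rec (fun _ => Nat) (Ptab_3) (Ptab_4) (Nat.ble 4 c)
noncomputable def Ptab_s_2_5 (c : Nat) : Nat := @Bool.rec (fun _ => Nat) (Ptab_2) (Ptab_s_3_5 c) (Nat.ble 3 c)
noncomputable def Ptab_s_0_5 (c : Nat) : Nat := @Bool.rec (fun _ => Nat) (Ptab_s_0_2 c) (Ptab_s_2_5 c) (Nat.ble 2 c)
noncomputable def Ptab_s_6_8 (c : Nat) : Nat := @Bool.rec (fun _ => Nat) (Ptab_6) (Ptab_7) (Nat.ble 7 c)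
noncomputable def Ptab_s_5_8 (c : Nat) : Nat := @Bool.rec (fun _ => Nat) (Ptab_5) (Ptab_s_6_8 c) (Nat.ble 6 c)
noncomputable def Ptab_s_9_11 (c : Nat) : Nat := @Bool.rec (fun _ => Nat) (Ptab_9) (Ptab_10) (Nat.ble 10 c)
noncomputable def Ptab_s_8_11 (c : Nat) : Nat := @Bool.rec (fun _ => Nat) (Ptab_8) (Ptab_s_9_11 c) (Nat.ble 9 c)
noncomputable def Ptab_s_5_11 (c : Nat) : Nat := @Bool.rec (fun _ => Nat) (Ptab_s_5_8 c) (Ptab_s_8_11 c) (Nat.ble 8 c)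
noncomputable def Ptab_s_0_11 (c : Nat) : Nat := @Bool.rec (fun _ => Nat) (Ptab_s_0_5 c) (Ptab_s_5_11 c) (Nat.ble 5 c)
noncomputable def Ptab_s_12_14 (c : Nat) : Nat := @Bool.rec (fun _ => Nat) (Ptab_12) (Ptab_13) (Nat.ble 13 c)
noncomputable def Ptab_s_11_14 (c : Nat) : Nat := @Bool.rec (fun _ => Nat) (Ptab_11) (Ptab_s_12_14 c) (Nat.ble 12 c)
noncomputable def Ptab_s_15_17 (c : Nat) : Nat := @Bool.rec (fun _ => Nat) (Ptab_15) (Ptab_16) (Nat.ble 16 c)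
noncomputable def Ptab_s_14_17 (c : Nat) : Nat := @Bool.rec (fun _ => Nat) (Ptab_14) (Ptab_s_15_17 c) (Nat.ble 15 c)
noncomputable def Ptab_s_11_17 (c : Nat) : Nat := @Bool.rec (fun _ => Nat) (Ptab_s_11_14 c) (Ptab_s_14_17 c) (Nat.ble 14 c)
noncomputable def Ptab_s_18_20 (c : Nat) : Nat := @Bool.rec (fun _ => Nat) (Ptab_18) (Ptab_19) (Nat.ble 19 c)
noncomputable def Ptab_s_17_20 (c : Nat) : Nat := @Bool.rec (fun _ => Nat) (Ptab_17) (Ptab_s_18_20 c) (Nat.ble 18 c)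
noncomputable def Ptab_s_21_23 (c : Nat) : Nat := @Bool.rec (fun _ => Nat) (Ptab_21) (Ptab_22) (Nat.ble 22 c)
noncomputable def Ptab_s_20_23 (c : Nat) : Nat := @Bool.rec (fun _ => Nat) (Ptab_20) (Ptab_s_21_23 c) (Nat.ble 21 c)
noncomputable def Ptab_s_17_23 (c : Nat) : Nat := @Bool.rec (fun _ => Nat) (Ptab_s_17_20 c) (Ptab_s_20_23 c) (Nat.ble 20 c)
noncomputable def Ptab_s_11_23 (c : Nat) : Nat := @Bool.rec (fun _ => Nat) (Ptab_s_11_17 c) (Ptab_s_17_23 c) (Nat.ble 17 c)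
noncomputable def Ptab_s_0_23 (c : Nat) : Nat := @Bool.rec (fun _ => Nat) (Ptab_s_0_11 c) (Ptab_s_11_23 c) (Nat.ble 11 c)
noncomputable def Ptab_s_23_25 (c : Nat) : Nat := @Bool.rec (fun _ => Nat) (Ptab_23) (Ptab_24) (Nat.ble 24 c)
noncomputable def Ptab_s_26_28 (c : Nat) : Nat := @Bool.rec (fun _ => Nat) (Ptab_26) (Ptab_27) (Nat.ble 27 c)
noncomputable def Ptab_s_25_28 (c : Nat) : Nat := @Bool.rec (fun _ => Nat) (Ptab_25) (Ptab_s_26_28 c) (Nat.ble 26 c)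
noncomputable def Ptab_s_23_28 (c : Nat) : Nat := @Bool.rec (fun _ => Nat) (Ptab_s_23_25 c) (Ptab_s_25_28 c) (Nat.ble 25 c)
noncomputable def Ptab_s_29_31 (c : Nat) : Nat := @Bool.rec (fun _ => Nat) (Ptab_29) (Ptab_30) (Nat.ble 30 c)
noncomputable def Ptab_s_28_31 (c : Nat) : Nat := @Bool.rec (fun _ => Nat) (Ptab_28) (Ptab_s_29_31 c) (Nat.ble 29 c)
noncomputable def Ptab_s_32_34 (c : Nat) : Nat := @Bool.rec (fun _ => Nat) (Ptab_32) (Ptab_33) (Nat.ble 33 c)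
noncomputable def Ptab_s_31_34 (c : Nat) : Nat := @Bool.rec (fun _ => Nat) (Ptab_31) (Ptab_s_32_34 c) (Nat.ble 32 c)
noncomputable def Ptab_s_28_34 (c : Nat) : Nat := @Bool.rec (fun _ => Nat) (Ptab_s_28_31 c) (Ptab_s_31_34 c) (Nat.ble 31 c)
noncomputable def Ptab_s_23_34 (c : Nat) : Nat := @Bool.rec (fun _ => Nat) (Ptab_s_23_28 c) (Ptab_s_28_34 c) (Nat.ble 28 c)
noncomputable def Ptab_s_35_37 (c : Nat) : Nat := @Bool.rec (fun _ => Nat) (Ptab_35) (Ptab_36) (Nat.ble 36 c)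
noncomputable def Ptab_s_34_37 (c : Nat) : Nat := @Bool.rec (fun _ => Nat) (Ptab_34) (Ptab_s_35_37 c) (Nat.ble 35 c)
noncomputable def Ptab_s_38_40 (c : Nat) : Nat := @Bool.rec (fun _ => Nat) (Ptab_38) (Ptab_39) (Nat.ble 39 c)
noncomputable def Ptab_s_37_40 (c : Nat) : Nat := @Bool.rec (fun _ => Nat) (Ptab_37) (Ptab_s_38_40 c) (Nat.ble 38 c)
noncomputable def Ptab_s_34_40 (c : Nat) : Nat := @Bool.rec (fun _ => Nat) (Ptab_s_34_37 c) (Ptab_s_37_40 c) (Nat.ble 37 c)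
noncomputable def Ptab_s_41_43 (c : Nat) : Nat := @Bool.rec (fun _ => Nat) (Ptab_41) (Ptab_42) (Nat.ble 42 c)
noncomputable def Ptab_s_40_43 (c : Nat) : Nat := @Bool.rec (fun _ => Nat) (Ptab_40) (Ptab_s_41_43 c) (Nat.ble 41 c)
noncomputable def Ptab_s_44_46 (c : Nat) : Nat := @Bool.rec (fun _ => Nat) (Ptab_44) (Ptab_45) (Nat.ble 45 c)
noncomputable def Ptab_s_43_46 (c : Nat) : Nat := @Bool.rec (fun _ => Nat) (Ptab_43) (Ptab_s_44_46 c) (Nat.ble 44 c)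
noncomputable def Ptab_s_40_46 (c : Nat) : Nat := @Bool.rec (fun _ => Nat) (Ptab_s_40_43 c) (Ptab_s_43_46 c) (Nat.ble 43 c)
noncomputable def Ptab_s_34_46 (c : Nat) : Nat := @Bool.rec (fun _ => Nat) (Ptab_s_34_40 c) (Ptab_s_40_46 c) (Nat.ble 40 c)
noncomputable def Ptab_s_23_46 (c : Nat) : Nat := @Bool.rec (fun _ => Nat) (Ptab_s_23_34 c) (Ptab_s_34_46 c) (Nat.ble 34 c)
noncomputable def Ptab_s_0_46 (c : Nat) : Nat := @Bool.rec (fun _ => Nat) (Ptab_s_0_23 c) (Ptab_s_23_46 c) (Nat.ble 23 c)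
noncomputable def Ptab_s_46_48 (c : Nat) : Nat := @Bool.rec (fun _ => Nat) (Ptab_46) (Ptab_47) (Nat.ble 47 c)
noncomputable def Ptab_s_49_51 (c : Nat) : Nat := @Bool.rec (fun _ => Nat) (Ptab_49) (Ptab_50) (Nat.ble 50 c)
noncomputable def Ptab_s_48_51 (c : Nat) : Nat := @Bool.rec (fun _ => Nat) (Ptab_48) (Ptab_s_49_51 c) (Nat.ble 49 c)
noncomputable def Ptab_s_46_51 (c : Nat) : Nat := @Bool.rec (fun _ => Nat) (Ptab_s_46_48 c) (Ptab_s_48_51 c) (Nat.ble 48 c)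
noncomputable def Ptab_s_52_54 (c : Nat) : Nat := @Bool.rec (fun _ => Nat) (Ptab_52) (Ptab_53) (Nat.ble 53 c)
noncomputable def Ptab_s_51_54 (c : Nat) : Nat := @Bool.rec (fun _ => Nat) (Ptab_51) (Ptab_s_52_54 c) (Nat.ble 52 c)
noncomputable def Ptab_s_55_57 (c : Nat) : Nat := @Bool.rec (fun _ => Nat) (Ptab_55) (Ptab_56) (Nat.ble 56 c)
noncomputable def Ptab_s_54_57 (c : Nat) : Nat := @Bool.rec (fun _ => Nat) (Ptab_54) (Ptab_s_55_57 c) (Nat.ble 55 c)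
noncomputable def Ptab_s_51_57 (c : Nat) : Nat := @Bool.rec (fun _ => Nat) (Ptab_s_51_54 c) (Ptab_s_54_57 c) (Nat.ble 54 c)
noncomputable def Ptab_s_46_57 (c : Nat) : Nat := @Bool.rec (fun _ => Nat) (Ptab_s_46_51 c) (Ptab_s_51_57 c) (Nat.ble 51 c)
noncomputable def Ptab_s_58_60 (c : Nat) : Nat := @Bool.rec (fun _ => Nat) (Ptab_58) (Ptab_59) (Nat.ble 59 c)
noncomputable def Ptab_s_57_60 (c : Nat) : Nat := @Bool.rec (fun _ => Nat) (Ptab_57) (Ptab_s_58_60 c) (Nat.ble 58 c)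
noncomputable def Ptab_s_61_63 (c : Nat) : Nat := @Bool.rec (fun _ => Nat) (Ptab_61) (Ptab_62) (Nat.ble 62 c)
noncomputable def Ptab_s_60_63 (c : Nat) : Nat := @Bool.rec (fun _ => Nat) (Ptab_60) (Ptab_s_61_63 c) (Nat.ble 61 c)
noncomputable def Ptab_s_57_63 (c : Nat) : Nat := @Bool.rec (fun _ => Nat) (Ptab_s_57_60 c) (Ptab_s_60_63 c) (Nat.ble 60 c)
noncomputable def Ptab_s_64_66 (c : Nat) : Nat := @Bool.rec (fun _ => Nat) (Ptab_64) (Ptab_65) (Nat.ble 65 c)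
noncomputable def Ptab_s_63_66 (c : Nat) : Nat := @Bool.rec (fun _ => Nat) (Ptab_63) (Ptab_s_64_66 c) (Nat.ble 64 c)
noncomputable def Ptab_s_67_69 (c : Nat) : Nat := @Bool.rec (fun _ => Nat) (Ptab_67) (Ptab_68) (Nat.ble 68 c)
noncomputable def Ptab_s_66_69 (c : Nat) : Nat := @Bool.rec (fun _ => Nat) (Ptab_66) (Ptab_s_67_69 c) (Nat.ble 67 c)
noncomputable def Ptab_s_63_69 (c : Nat) : Nat := @Bool.rec (fun _ => Nat) (Ptab_s_63_66 c) (Ptab_s_66_69 c) (Nat.ble 66 c)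
noncomputable def Ptab_s_57_69 (c : Nat) : Nat := @Bool.rec (fun _ => Nat) (Ptab_s_57_63 c) (Ptab_s_63_69 c) (Nat.ble 63 c)
noncomputable def Ptab_s_46_69 (c : Nat) : Nat := @Bool.rec (fun _ => Nat) (Ptab_s_46_57 c) (Ptab_s_57_69 c) (Nat.ble 57 c)
noncomputable def Ptab_s_69_71 (c : Nat) : Nat := @Bool.rec (fun _ => Nat) (Ptab_69) (Ptab_70) (Nat.ble 70 c)
noncomputable def Ptab_s_72_74 (c : Nat) : Nat := @Bool.rec (fun _ => Nat) (Ptab_72) (Ptab_73) (Nat.ble 73 c)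
noncomputable def Ptab_s_71_74 (c : Nat) : Nat := @Bool.rec (fun _ => Nat) (Ptab_71) (Ptab_s_72_74 c) (Nat.ble 72 c)
noncomputable def Ptab_s_69_74 (c : Nat) : Nat := @Bool.rec (fun _ => Nat) (Ptab_s_69_71 c) (Ptab_s_71_74 c) (Nat.ble 71 c)
noncomputable def Ptab_s_75_77 (c : Nat) : Nat := @Bool.rec (fun _ => Nat) (Ptab_75) (Ptab_76) (Nat.ble 76 c)
noncomputable def Ptab_s_74_77 (c : Nat) : Nat := @Bool.rec (fun _ => Nat) (Ptab_74) (Ptab_s_75_77 c) (Nat.ble 75 c)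
noncomputable def Ptab_s_78_80 (c : Nat) : Nat := @Bool.rec (fun _ => Nat) (Ptab_78) (Ptab_79) (Nat.ble 79 c)
noncomputable def Ptab_s_77_80 (c : Nat) : Nat := @Bool.rec (fun _ => Nat) (Ptab_77) (Ptab_s_78_80 c) (Nat.ble 78 c)
noncomputable def Ptab_s_74_80 (c : Nat) : Nat := @Bool.rec (fun _ => Nat) (Ptab_s_74_77 c) (Ptab_s_77_80 c) (Nat.ble 77 c)
noncomputable def Ptab_s_69_80 (c : Nat) : Nat := @Bool.rec (fun _ => Nat) (Ptab_s_69_74 c) (Ptab_s_74_80 c) (Nat.ble 74 c)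
noncomputable def Ptab_s_81_83 (c : Nat) : Nat := @Bool.rec (fun _ => Nat) (Ptab_81) (Ptab_82) (Nat.ble 82 c)
noncomputable def Ptab_s_80_83 (c : Nat) : Nat := @Bool.rec (fun _ => Nat) (Ptab_80) (Ptab_s_81_83 c) (Nat.ble 81 c)
noncomputable def Ptab_s_84_86 (c : Nat) : Nat := @Bool.rec (fun _ => Nat) (Ptab_84) (Ptab_85) (Nat.ble 85 c)
noncomputable def Ptab_s_83_86 (c : Nat) : Nat := @Bool.rec (fun _ => Nat) (Ptab_83) (Ptab_s_84_86 c) (Nat.ble 84 c)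
noncomputable def Ptab_s_80_86 (c : Nat) : Nat := @Bool.rec (fun _ => Nat) (Ptab_s_80_83 c) (Ptab_s_83_86 c) (Nat.ble 83 c)
noncomputable def Ptab_s_87_89 (c : Nat) : Nat := @Bool.rec (fun _ => Nat) (Ptab_87) (Ptab_88) (Nat.ble 88 c)
noncomputable def Ptab_s_86_89 (c : Nat) : Nat := @Bool.rec (fun _ => Nat) (Ptab_86) (Ptab_s_87_89 c) (Nat.ble 87 c)
noncomputable def Ptab_s_90_92 (c : Nat) : Nat := @Bool.rec (fun _ => Nat) (Ptab_90) (Ptab_91) (Nat.ble 91 c)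
noncomputable def Ptab_s_89_92 (c : Nat) : Nat := @Bool.rec (fun _ => Nat) (Ptab_89) (Ptab_s_90_92 c) (Nat.ble 90 c)
noncomputable def Ptab_s_86_92 (c : Nat) : Nat := @Bool.rec (fun _ => Nat) (Ptab_s_86_89 c) (Ptab_s_89_92 c) (Nat.ble 89 c)
noncomputable def Ptab_s_80_92 (c : Nat) : Nat := @Bool.rec (fun _ => Nat) (Ptab_s_80_86 c) (Ptab_s_86_92 c) (Nat.ble 86 c)
noncomputable def Ptab_s_69_92 (c : Nat) : Nat := @Bool.rec (fun _ => Nat) (Ptab_s_69_80 c) (Ptab_s_80_92 c) (Nat.ble 80 c)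
noncomputable def Ptab_s_46_92 (c : Nat) : Nat := @Bool.rec (fun _ => Nat) (Ptab_s_46_69 c) (Ptab_s_69_92 c) (Nat.ble 69 c)
noncomputable def Ptab_s_0_92 (c : Nat) : Nat := @Bool.rec (fun _ => Nat) (Ptab_s_0_46 c) (Ptab_s_46_92 c) (Nat.ble 46 c)
noncomputable def Ptab_s_92_94 (c : Nat) : Nat := @Bool.rec (fun _ => Nat) (Ptab_92) (Ptab_93) (Nat.ble 93 c)
noncomputable def Ptab_s_95_97 (c : Nat) : Nat := @Bool.rec (fun _ => Nat) (Ptab_95) (Ptab_96) (Nat.ble 96 c)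
noncomputable def Ptab_s_94_97 (c : Nat) : Nat := @Bool.rec (fun _ => Nat) (Ptab_94) (Ptab_s_95_97 c) (Nat.ble 95 c)
noncomputable def Ptab_s_92_97 (c : Nat) : Nat := @Bool.rec (fun _ => Nat) (Ptab_s_92_94 c) (Ptab_s_94_97 c) (Nat.ble 94 c)
noncomputable def Ptab_s_98_100 (c : Nat) : Nat := @Bool.rec (fun _ => Nat) (Ptab_98) (Ptab_99) (Nat.ble 99 c)
noncomputable def Ptab_s_97_100 (c : Nat) : Nat := @Bool.rec (fun _ => Nat) (Ptab_97) (Ptab_s_98_100 c) (Nat.ble 98 c)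
noncomputable def Ptab_s_101_103 (c : Nat) : Nat := @Bool.rec (fun _ => Nat) (Ptab_101) (Ptab_102) (Nat.ble 102 c)
noncomputable def Ptab_s_100_103 (c : Nat) : Nat := @Bool.rec (fun _ => Nat) (Ptab_100) (Ptab_s_101_103 c) (Nat.ble 101 c)
noncomputable def Ptab_s_97_103 (c : Nat) : Nat := @Bool.rec (fun _ => Nat) (Ptab_s_97_100 c) (Ptab_s_100_103 c) (Nat.ble 100 c)
noncomputable def Ptab_s_92_103 (c : Nat) : Nat := @Bool.rec (fun _ => Nat) (Ptab_s_92_97 c) (Ptab_s_97_103 c) (Nat.ble 97 c)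
noncomputable def Ptab_s_104_106 (c : Nat) : Nat := @Bool.rec (fun _ => Nat) (Ptab_104) (Ptab_105) (Nat.ble 105 c)
noncomputable def Ptab_s_103_106 (c : Nat) : Nat := @Bool.rec (fun _ => Nat) (Ptab_103) (Ptab_s_104_106 c) (Nat.ble 104 c)
noncomputable def Ptab_s_107_109 (c : Nat) : Nat := @Bool.rec (fun _ => Nat) (Ptab_107) (Ptab_108) (Nat.ble 108 c)
noncomputable def Ptab_s_106_109 (c : Nat) : Nat := @Bool.rec (fun _ => Nat) (Ptab_106) (Ptab_s_107_109 c) (Nat.ble 107 c)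
noncomputable def Ptab_s_103_109 (c : Nat) : Nat := @Bool.rec (fun _ => Nat) (Ptab_s_103_106 c) (Ptab_s_106_109 c) (Nat.ble 106 c)
noncomputable def Ptab_s_110_112 (c : Nat) : Nat := @Bool.rec (fun _ => Nat) (Ptab_110) (Ptab_111) (Nat.ble 111 c)
noncomputable def Ptab_s_109_112 (c : Nat) : Nat := @Bool.rec (fun _ => Nat) (Ptab_109) (Ptab_s_110_112 c) (Nat.ble 110 c)
noncomputable def Ptab_s_113_115 (c : Nat) : Nat := @Bool.rec (fun _ => Nat) (Ptab_113) (Ptab_114) (Nat.ble 114 c)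
noncomputable def Ptab_s_112_115 (c : Nat) : Nat := @Bool.rec (fun _ => Nat) (Ptab_112) (Ptab_s_113_115 c) (Nat.ble 113 c)
noncomputable def Ptab_s_109_115 (c : Nat) : Nat := @Bool.rec (fun _ => Nat) (Ptab_s_109_112 c) (Ptab_s_112_115 c) (Nat.ble 112 c)
noncomputable def Ptab_s_103_115 (c : Nat) : Nat := @Bool.rec (fun _ => Nat) (Ptab_s_103_109 c) (Ptab_s_109_115 c) (Nat.ble 109 c)
noncomputable def Ptab_s_92_115 (c : Nat) : Nat := @Bool.rec (fun _ => Nat) (Ptab_s_92_103 c) (Ptab_s_103_115 c) (Nat.ble 103 c)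
noncomputable def Ptab_s_115_117 (c : Nat) : Nat := @Bool.rec (fun _ => Nat) (Ptab_115) (Ptab_116) (Nat.ble 116 c)
noncomputable def Ptab_s_118_120 (c : Nat) : Nat := @Bool.rec (fun _ => Nat) (Ptab_118) (Ptab_119) (Nat.ble 119 c)
noncomputable def Ptab_s_117_120 (c : Nat) : Nat := @Bool.rec (fun _ => Nat) (Ptab_117) (Ptab_s_118_120 c) (Nat.ble 118 c)
noncomputable def Ptab_s_115_120 (c : Nat) : Nat := @Bool.rec (fun _ => Nat) (Ptab_s_115_117 c) (Ptab_s_117_120 c) (Nat.ble 117 c)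
noncomputable def Ptab_s_121_123 (c : Nat) : Nat := @Bool.rec (fun _ => Nat) (Ptab_121) (Ptab_122) (Nat.ble 122 c)
noncomputable def Ptab_s_120_123 (c : Nat) : Nat := @Bool.rec (fun _ => Nat) (Ptab_120) (Ptab_s_121_123 c) (Nat.ble 121 c)
noncomputable def Ptab_s_124_126 (c : Nat) : Nat := @Bool.rec (fun _ => Nat) (Ptab_124) (Ptab_125) (Nat.ble 125 c)
noncomputable def Ptab_s_123_126 (c : Nat) : Nat := @Bool.rec (fun _ => Nat) (Ptab_123) (Ptab_s_124_126 c) (Nat.ble 124 c)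
noncomputable def Ptab_s_120_126 (c : Nat) : Nat := @Bool.rec (fun _ => Nat) (Ptab_s_120_123 c) (Ptab_s_123_126 c) (Nat.ble 123 c)
noncomputable def Ptab_s_115_126 (c : Nat) : Nat := @Bool.rec (fun _ => Nat) (Ptab_s_115_120 c) (Ptab_s_120_126 c) (Nat.ble 120 c)
noncomputable def Ptab_s_127_129 (c : Nat) : Nat := @Bool.rec (fun _ => Nat) (Ptab_127) (Ptab_128) (Nat.ble 128 c)
noncomputable def Ptab_s_126_129 (c : Nat) : Nat := @Bool.rec (fun _ => Nat) (Ptab_126) (Ptab_s_127_129 c) (Nat.ble 127 c)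
noncomputable def Ptab_s_130_132 (c : Nat) : Nat := @Bool.rec (fun _ => Nat) (Ptab_130) (Ptab_131) (Nat.ble 131 c)
noncomputable def Ptab_s_129_132 (c : Nat) : Nat := @Bool.rec (fun _ => Nat) (Ptab_129) (Ptab_s_130_132 c) (Nat.ble 130 c)
noncomputable def Ptab_s_126_132 (c : Nat) : Nat := @Bool.rec (fun _ => Nat) (Ptab_s_126_129 c) (Ptab_s_129_132 c) (Nat.ble 129 c)
noncomputable def Ptab_s_133_135 (c : Nat) : Nat := @Bool.rec (fun _ => Nat) (Ptab_133) (Ptab_134) (Nat.ble 134 c)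
noncomputable def Ptab_s_132_135 (c : Nat) : Nat := @Bool.rec (fun _ => Nat) (Ptab_132) (Ptab_s_133_135 c) (Nat.ble 133 c)
noncomputable def Ptab_s_136_138 (c : Nat) : Nat := @Bool.rec (fun _ => Nat) (Ptab_136) (Ptab_137) (Nat.ble 137 c)
noncomputable def Ptab_s_135_138 (c : Nat) : Nat := @Bool.rec (fun _ => Nat) (Ptab_135) (Ptab_s_136_138 c) (Nat.ble 136 c)
noncomputable def Ptab_s_132_138 (c : Nat) : Nat := @Bool.rec (fun _ => Nat) (Ptab_s_132_135 c) (Ptab_s_135_138 c) (Nat.ble 135 c)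
noncomputable def Ptab_s_126_138 (c : Nat) : Nat := @Bool.rec (fun _ => Nat) (Ptab_s_126_132 c) (Ptab_s_132_138 c) (Nat.ble 132 c)
noncomputable def Ptab_s_115_138 (c : Nat) : Nat := @Bool.rec (fun _ => Nat) (Ptab_s_115_126 c) (Ptab_s_126_138 c) (Nat.ble 126 c)
noncomputable def Ptab_s_92_138 (c : Nat) : Nat := @Bool.rec (fun _ => Nat) (Ptab_s_92_115 c) (Ptab_s_115_138 c) (Nat.ble 115 c)
noncomputable def Ptab_s_138_140 (c : Nat) : Nat := @Bool.rec (fun _ => Nat) (Ptab_138) (Ptab_139) (Nat.ble 139 c)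
noncomputable def Ptab_s_141_143 (c : Nat) : Nat := @Bool.rec (fun _ => Nat) (Ptab_141) (Ptab_142) (Nat.ble 142 c)
noncomputable def Ptab_s_140_143 (c : Nat) : Nat := @Bool.rec (fun _ => Nat) (Ptab_140) (Ptab_s_141_143 c) (Nat.ble 141 c)
noncomputable def Ptab_s_138_143 (c : Nat) : Nat := @Bool.rec (fun _ => Nat) (Ptab_s_138_140 c) (Ptab_s_140_143 c) (Nat.ble 140 c)
noncomputable def Ptab_s_144_146 (c : Nat) : Nat := @Bool.rec (fun _ => Nat) (Ptab_144) (Ptab_145) (Nat.ble 145 c)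
noncomputable def Ptab_s_143_146 (c : Nat) : Nat := @Bool.rec (fun _ => Nat) (Ptab_143) (Ptab_s_144_146 c) (Nat.ble 144 c)
noncomputable def Ptab_s_147_149 (c : Nat) : Nat := @Bool.rec (fun _ => Nat) (Ptab_147) (Ptab_148) (Nat.ble 148 c)
noncomputable def Ptab_s_146_149 (c : Nat) : Nat := @Bool.rec (fun _ => Nat) (Ptab_146) (Ptab_s_147_149 c) (Nat.ble 147 c)
noncomputable def Ptab_s_143_149 (c : Nat) : Nat := @Bool.rec (fun _ => Nat) (Ptab_s_143_146 c) (Ptab_s_146_149 c) (Nat.ble 146 c)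
noncomputable def Ptab_s_138_149 (c : Nat) : Nat := @Bool.rec (fun _ => Nat) (Ptab_s_138_143 c) (Ptab_s_143_149 c) (Nat.ble 143 c)
noncomputable def Ptab_s_150_152 (c : Nat) : Nat := @Bool.rec (fun _ => Nat) (Ptab_150) (Ptab_151) (Nat.ble 151 c)
noncomputable def Ptab_s_149_152 (c : Nat) : Nat := @Bool.rec (fun _ => Nat) (Ptab_149) (Ptab_s_150_152 c) (Nat.ble 150 c)
noncomputable def Ptab_s_153_155 (c : Nat) : Nat := @Bool.rec (fun _ => Nat) (Ptab_153) (Ptab_154) (Nat.ble 154 c)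
noncomputable def Ptab_s_152_155 (c : Nat) : Nat := @Bool.rec (fun _ => Nat) (Ptab_152) (Ptab_s_153_155 c) (Nat.ble 153 c)
noncomputable def Ptab_s_149_155 (c : Nat) : Nat := @Bool.rec (fun _ => Nat) (Ptab_s_149_152 c) (Ptab_s_152_155 c) (Nat.ble 152 c)
noncomputable def Ptab_s_156_158 (c : Nat) : Nat := @Bool.rec (fun _ => Nat) (Ptab_156) (Ptab_157) (Nat.ble 157 c)
noncomputable def Ptab_s_155_158 (c : Nat) : Nat := @Bool.rec (fun _ => Nat) (Ptab_155) (Ptab_s_156_158 c) (Nat.ble 156 c)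
noncomputable def Ptab_s_159_161 (c : Nat) : Nat := @Bool.rec (fun _ => Nat) (Ptab_159) (Ptab_160) (Nat.ble 160 c)
noncomputable def Ptab_s_158_161 (c : Nat) : Nat := @Bool.rec (fun _ => Nat) (Ptab_158) (Ptab_s_159_161 c) (Nat.ble 159 c)
noncomputable def Ptab_s_155_161 (c : Nat) : Nat := @Bool.rec (fun _ => Nat) (Ptab_s_155_158 c) (Ptab_s_158_161 c) (Nat.ble 158 c)
noncomputable def Ptab_s_149_161 (c : Nat) : Nat := @Bool.rec (fun _ => Nat) (Ptab_s_149_155 c) (Ptab_s_155_161 c) (Nat.ble 155 c)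
noncomputable def Ptab_s_138_161 (c : Nat) : Nat := @Bool.rec (fun _ => Nat) (Ptab_s_138_149 c) (Ptab_s_149_161 c) (Nat.ble 149 c)
noncomputable def Ptab_s_162_164 (c : Nat) : Nat := @Bool.rec (fun _ => Nat) (Ptab_162) (Ptab_163) (Nat.ble 163 c)
noncomputable def Ptab_s_161_164 (c : Nat) : Nat := @Bool.rec (fun _ => Nat) (Ptab_161) (Ptab_s_162_164 c) (Nat.ble 162 c)
noncomputable def Ptab_s_165_167 (c : Nat) : Nat := @Bool.rec (fun _ => Nat) (Ptab_165) (Ptab_166) (Nat.ble 166 c)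
noncomputable def Ptab_s_164_167 (c : Nat) : Nat := @Bool.rec (fun _ => Nat) (Ptab_164) (Ptab_s_165_167 c) (Nat.ble 165 c)
noncomputable def Ptab_s_161_167 (c : Nat) : Nat := @Bool.rec (fun _ => Nat) (Ptab_s_161_164 c) (Ptab_s_164_167 c) (Nat.ble 164 c)
noncomputable def Ptab_s_168_170 (c : Nat) : Nat := @Bool.rec (fun _ => Nat) (Ptab_168) (Ptab_169) (Nat.ble 169 c)
noncomputable def Ptab_s_167_170 (c : Nat) : Nat := @Bool.rec (fun _ => Nat) (Ptab_167) (Ptab_s_168_170 c) (Nat.ble 168 c)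
noncomputable def Ptab_s_171_173 (c : Nat) : Nat := @Bool.rec (fun _ => Nat) (Ptab_171) (Ptab_172) (Nat.ble 172 c)
noncomputable def Ptab_s_170_173 (c : Nat) : Nat := @Bool.rec (fun _ => Nat) (Ptab_170) (Ptab_s_171_173 c) (Nat.ble 171 c)
noncomputable def Ptab_s_167_173 (c : Nat) : Nat := @Bool.rec (fun _ => Nat) (Ptab_s_167_170 c) (Ptab_s_170_173 c) (Nat.ble 170 c)
noncomputable def Ptab_s_161_173 (c : Nat) : Nat := @Bool.rec (fun _ => Nat) (Ptab_s_161_167 c) (Ptab_s_167_173 c) (Nat.ble 167 c)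
noncomputable def Ptab_s_174_176 (c : Nat) : Nat := @Bool.rec (fun _ => Nat) (Ptab_174) (Ptab_175) (Nat.ble 175 c)
noncomputable def Ptab_s_173_176 (c : Nat) : Nat := @Bool.rec (fun _ => Nat) (Ptab_173) (Ptab_s_174_176 c) (Nat.ble 174 c)
noncomputable def Ptab_s_177_179 (c : Nat) : Nat := @Bool.rec (fun _ => Nat) (Ptab_177) (Ptab_178) (Nat.ble 178 c)
noncomputable def Ptab_s_176_179 (c : Nat) : Nat := @Bool.rec (fun _ => Nat) (Ptab_176) (Ptab_s_177_179 c) (Nat.ble 177 c)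
noncomputable def Ptab_s_173_179 (c : Nat) : Nat := @Bool.rec (fun _ => Nat) (Ptab_s_173_176 c) (Ptab_s_176_179 c) (Nat.ble 176 c)
noncomputable def Ptab_s_180_182 (c : Nat) : Nat := @Bool.rec (fun _ => Nat) (Ptab_180) (Ptab_181) (Nat.ble 181 c)
noncomputable def Ptab_s_179_182 (c : Nat) : Nat := @Bool.rec (fun _ => Nat) (Ptab_179) (Ptab_s_180_182 c) (Nat.ble 180 c)
noncomputable def Ptab_s_183_185 (c : Nat) : Nat := @Bool.rec (fun _ => Nat) (Ptab_183) (Ptab_184) (Nat.ble 184 c)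
noncomputable def Ptab_s_182_185 (c : Nat) : Nat := @Bool.rec (fun _ => Nat) (Ptab_182) (Ptab_s_183_185 c) (Nat.ble 183 c)
noncomputable def Ptab_s_179_185 (c : Nat) : Nat := @Bool.rec (fun _ => Nat) (Ptab_s_179_182 c) (Ptab_s_182_185 c) (Nat.ble 182 c)
noncomputable def Ptab_s_173_185 (c : Nat) : Nat := @Bool.rec (fun _ => Nat) (Ptab_s_173_179 c) (Ptab_s_179_185 c) (Nat.ble 179 c)
noncomputable def Ptab_s_161_185 (c : Nat) : Nat := @Bool.rec (fun _ => Nat) (Ptab_s_161_173 c) (Ptab_s_173_185 c) (Nat.ble 173 c)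
noncomputable def Ptab_s_138_185 (c : Nat) : Nat := @Bool.rec (fun _ => Nat) (Ptab_s_138_161 c) (Ptab_s_161_185 c) (Nat.ble 161 c)
noncomputable def Ptab_s_92_185 (c : Nat) : Nat := @Bool.rec (fun _ => Nat) (Ptab_s_92_138 c) (Ptab_s_138_185 c) (Nat.ble 138 c)
noncomputable def Ptab_s_0_185 (c : Nat) : Nat := @Bool.rec (fun _ => Nat) (Ptab_s_0_92 c) (Ptab_s_92_185 c) (Nat.ble 92 c)
noncomputable def Ptab (i : Nat) : Nat := rdw 18 262143 (Ptab_s_0_185 (Nat.shiftRight i 12)) (Nat.land i 4095)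
noncomputable def RRtab (i : Nat) : Nat := rdw 4 15 RRtab_0 i
noncomputable def rBtab (i : Nat) : Nat := rdw 10 1023 rBtab_0 i
noncomputable def rLtab (i : Nat) : Nat := rdw 5 31 rLtab_0 i
noncomputable def nameTab_s_1_3 (c : Nat) : Nat := @Bool.rec (fun _ => Nat) (nameTab_1) (nameTab_2) (Nat.ble 2 c)
noncomputable def nameTab_s_0_3 (c : Nat) : Nat := @Bool.rec (fun _ => Nat) (nameTab_0) (nameTab_s_1_3 c) (Nat.ble 1 c)
noncomputable def nameTab_s_4_6 (c : Nat) : Nat := @Bool.rec (fun _ => Nat) (nameTab_4) (nameTab_5) (Nat.ble 5 c)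
noncomputable def nameTab_s_3_6 (c : Nat) : Nat := @Bool.rec (fun _ => Nat) (nameTab_3) (nameTab_s_4_6 c) (Nat.ble 4 c)
noncomputable def nameTab_s_0_6 (c : Nat) : Nat := @Bool.rec (fun _ => Nat) (nameTab_s_0_3 c) (nameTab_s_3_6 c) (Nat.ble 3 c)
noncomputable def nameTab (i : Nat) : Nat := rdw 15 32767 (nameTab_s_0_6 (Nat.shiftRight i 12)) (Nat.land i 4095)
noncomputable def col0_s_1_3 (c : Nat) : Nat := @Bool.rec (fun _ => Nat) (col0_1) (col0_2) (Nat.ble 2 c)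
noncomputable def col0_s_0_3 (c : Nat) : Nat := @Bool.rec (fun _ => Nat) (col0_0) (col0_s_1_3 c) (Nat.ble 1 c)
noncomputable def col0_s_4_6 (c : Nat) : Nat := @Bool.rec (fun _ => Nat) (col0_4) (col0_5) (Nat.ble 5 c)
noncomputable def col0_s_3_6 (c : Nat) : Nat := @Bool.rec (fun _ => Nat) (col0_3) (col0_s_4_6 c) (Nat.ble 4 c)
noncomputable def col0_s_0_6 (c : Nat) : Nat := @Bool.rec (fun _ => Nat) (col0_s_0_3 c) (col0_s_3_6 c) (Nat.ble 3 c)
noncomputable def col0 (i : Nat) : Nat := rdw 15 32767 (col0_s_0_6 (Nat.shiftRight i 12)) (Nat.land i 4095)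
noncomputable def col1_s_1_3 (c : Nat) : Nat := @Bool.rec (fun _ => Nat) (col1_1) (col1_2) (Nat.ble 2 c)
noncomputable def col1_s_0_3 (c : Nat) : Nat := @Bool.rec (fun _ => Nat) (col1_0) (col1_s_1_3 c) (Nat.ble 1 c)
noncomputable def col1_s_4_6 (c : Nat) : Nat := @Bool.rec (fun _ => Nat) (col1_4) (col1_5) (Nat.ble 5 c)
noncomputable def col1_s_3_6 (c : Nat) : Nat := @Bool.rec (fun _ => Nat) (col1_3) (col1_s_4_6 c) (Nat.ble 4 c)
noncomputable def col1_s_0_6 (c : Nat) : Nat := @Bool.rec (fun _ => Nat) (col1_s_0_3 c) (col1_s_3_6 c) (Nat.ble 3 c)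
noncomputable def col1 (i : Nat) : Nat := rdw 15 32767 (col1_s_0_6 (Nat.shiftRight i 12)) (Nat.land i 4095)
noncomputable def col2_s_1_3 (c : Nat) : Nat := @Bool.rec (fun _ => Nat) (col2_1) (col2_2) (Nat.ble 2 c)
noncomputable def col2_s_0_3 (c : Nat) : Nat := @Bool.rec (fun _ => Nat) (col2_0) (col2_s_1_3 c) (Nat.ble 1 c)
noncomputable def col2_s_4_6 (c : Nat) : Nat := @Bool.rec (fun _ => Nat) (col2_4) (col2_5) (Nat.ble 5 c)
noncomputable def col2_s_3_6 (c : Nat) : Nat := @Bool.rec (fun _ => Nat) (col2_3) (col2_s_4_6 c) (Nat.ble 4 c)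
noncomputable def col2_s_0_6 (c : Nat) : Nat := @Bool.rec (fun _ => Nat) (col2_s_0_3 c) (col2_s_3_6 c) (Nat.ble 3 c)
noncomputable def col2 (i : Nat) : Nat := rdw 15 32767 (col2_s_0_6 (Nat.shiftRight i 12)) (Nat.land i 4095)
noncomputable def col3_s_1_3 (c : Nat) : Nat := @Bool.rec (fun _ => Nat) (col3_1) (col3_2) (Nat.ble 2 c)
noncomputable def col3_s_0_3 (c : Nat) : Nat := @Bool.rec (fun _ => Nat) (col3_0) (col3_s_1_3 c) (Nat.ble 1 c)
noncomputable def col3_s_4_6 (c : Nat) : Nat := @Bool.rec (fun _ => Nat) (col3_4) (col3_5) (Nat.ble 5 c)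
noncomputable def col3_s_3_6 (c : Nat) : Nat := @Bool.rec (fun _ => Nat) (col3_3) (col3_s_4_6 c) (Nat.ble 4 c)
noncomputable def col3_s_0_6 (c : Nat) : Nat := @Bool.rec (fun _ => Nat) (col3_s_0_3 c) (col3_s_3_6 c) (Nat.ble 3 c)
noncomputable def col3 (i : Nat) : Nat := rdw 15 32767 (col3_s_0_6 (Nat.shiftRight i 12)) (Nat.land i 4095)
noncomputable def col4_s_1_3 (c : Nat) : Nat := @Bool.rec (fun _ => Nat) (col4_1) (col4_2) (Nat.ble 2 c)
noncomputable def col4_s_0_3 (c : Nat) : Nat := @Bool.rec (fun _ => Nat) (col4_0) (col4_s_1_3 c) (Nat.ble 1 c)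
noncomputable def col4_s_4_6 (c : Nat) : Nat := @Bool.rec (fun _ => Nat) (col4_4) (col4_5) (Nat.ble 5 c)
noncomputable def col4_s_3_6 (c : Nat) : Nat := @Bool.rec (fun _ => Nat) (col4_3) (col4_s_4_6 c) (Nat.ble 4 c)
noncomputable def col4_s_0_6 (c : Nat) : Nat := @Bool.rec (fun _ => Nat) (col4_s_0_3 c) (col4_s_3_6 c) (Nat.ble 3 c)
noncomputable def col4 (i : Nat) : Nat := rdw 15 32767 (col4_s_0_6 (Nat.shiftRight i 12)) (Nat.land i 4095)
noncomputable def col5_s_1_3 (c : Nat) : Nat := @Bool.rec (fun _ => Nat) (col5_1) (col5_2) (Nat.ble 2 c)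
noncomputable def col5_s_0_3 (c : Nat) : Nat := @Bool.rec (fun _ => Nat) (col5_0) (col5_s_1_3 c) (Nat.ble 1 c)
noncomputable def col5_s_4_6 (c : Nat) : Nat := @Bool.rec (fun _ => Nat) (col5_4) (col5_5) (Nat.ble 5 c)
noncomputable def col5_s_3_6 (c : Nat) : Nat := @Bool.rec (fun _ => Nat) (col5_3) (col5_s_4_6 c) (Nat.ble 4 c)
noncomputable def col5_s_0_6 (c : Nat) : Nat := @Bool.rec (fun _ => Nat) (col5_s_0_3 c) (col5_s_3_6 c) (Nat.ble 3 c)
noncomputable def col5 (i : Nat) : Nat := rdw 15 32767 (col5_s_0_6 (Nat.shiftRight i 12)) (Nat.land i 4095)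
noncomputable def finTab_s_0_2 (c : Nat) : Nat := @Bool.rec (fun _ => Nat) (finTab_0) (finTab_1) (Nat.ble 1 c)
noncomputable def finTab_s_2_4 (c : Nat) : Nat := @Bool.rec (fun _ => Nat) (finTab_2) (finTab_3) (Nat.ble 3 c)
noncomputable def finTab_s_0_4 (c : Nat) : Nat := @Bool.rec (fun _ => Nat) (finTab_s_0_2 c) (finTab_s_2_4 c) (Nat.ble 2 c)
noncomputable def finTab_s_4_6 (c : Nat) : Nat := @Bool.rec (fun _ => Nat) (finTab_4) (finTab_5) (Nat.ble 5 c)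
noncomputable def finTab_s_6_8 (c : Nat) : Nat := @Bool.rec (fun _ => Nat) (finTab_6) (finTab_7) (Nat.ble 7 c)
noncomputable def finTab_s_4_8 (c : Nat) : Nat := @Bool.rec (fun _ => Nat) (finTab_s_4_6 c) (finTab_s_6_8 c) (Nat.ble 6 c)
noncomputable def finTab_s_0_8 (c : Nat) : Nat := @Bool.rec (fun _ => Nat) (finTab_s_0_4 c) (finTab_s_4_8 c) (Nat.ble 4 c)
noncomputable def finTab_s_8_10 (c : Nat) : Nat := @Bool.rec (fun _ => Nat) (finTab_8) (finTab_9) (Nat.ble 9 c)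
noncomputable def finTab_s_10_12 (c : Nat) : Nat := @Bool.rec (fun _ => Nat) (finTab_10) (finTab_11) (Nat.ble 11 c)
noncomputable def finTab_s_8_12 (c : Nat) : Nat := @Bool.rec (fun _ => Nat) (finTab_s_8_10 c) (finTab_s_10_12 c) (Nat.ble 10 c)
noncomputable def finTab_s_12_14 (c : Nat) : Nat := @Bool.rec (fun _ => Nat) (finTab_12) (finTab_13) (Nat.ble 13 c)
noncomputable def finTab_s_14_16 (c : Nat) : Nat := @Bool.rec (fun _ => Nat) (finTab_14) (finTab_15) (Nat.ble 15 c)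
noncomputable def finTab_s_12_16 (c : Nat) : Nat := @Bool.rec (fun _ => Nat) (finTab_s_12_14 c) (finTab_s_14_16 c) (Nat.ble 14 c)
noncomputable def finTab_s_8_16 (c : Nat) : Nat := @Bool.rec (fun _ => Nat) (finTab_s_8_12 c) (finTab_s_12_16 c) (Nat.ble 12 c)
noncomputable def finTab_s_0_16 (c : Nat) : Nat := @Bool.rec (fun _ => Nat) (finTab_s_0_8 c) (finTab_s_8_16 c) (Nat.ble 8 c)
noncomputable def finTab_s_16_18 (c : Nat) : Nat := @Bool.rec (fun _ => Nat) (finTab_16) (finTab_17) (Nat.ble 17 c)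
noncomputable def finTab_s_18_20 (c : Nat) : Nat := @Bool.rec (fun _ => Nat) (finTab_18) (finTab_19) (Nat.ble 19 c)
noncomputable def finTab_s_16_20 (c : Nat) : Nat := @Bool.rec (fun _ => Nat) (finTab_s_16_18 c) (finTab_s_18_20 c) (Nat.ble 18 c)
noncomputable def finTab_s_20_22 (c : Nat) : Nat := @Bool.rec (fun _ => Nat) (finTab_20) (finTab_21) (Nat.ble 21 c)
noncomputable def finTab_s_22_24 (c : Nat) : Nat := @Bool.rec (fun _ => Nat) (finTab_22) (finTab_23) (Nat.ble 23 c)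
noncomputable def finTab_s_20_24 (c : Nat) : Nat := @Bool.rec (fun _ => Nat) (finTab_s_20_22 c) (finTab_s_22_24 c) (Nat.ble 22 c)
noncomputable def finTab_s_16_24 (c : Nat) : Nat := @Bool.rec (fun _ => Nat) (finTab_s_16_20 c) (finTab_s_20_24 c) (Nat.ble 20 c)
noncomputable def finTab_s_24_26 (c : Nat) : Nat := @Bool.rec (fun _ => Nat) (finTab_24) (finTab_25) (Nat.ble 25 c)
noncomputable def finTab_s_26_28 (c : Nat) : Nat := @Bool.rec (fun _ => Nat) (finTab_26) (finTab_27) (Nat.ble 27 c)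
noncomputable def finTab_s_24_28 (c : Nat) : Nat := @Bool.rec (fun _ => Nat) (finTab_s_24_26 c) (finTab_s_26_28 c) (Nat.ble 26 c)
noncomputable def finTab_s_28_30 (c : Nat) : Nat := @Bool.rec (fun _ => Nat) (finTab_28) (finTab_29) (Nat.ble 29 c)
noncomputable def finTab_s_31_33 (c : Nat) : Nat := @Bool.rec (fun _ => Nat) (finTab_31) (finTab_32) (Nat.ble 32 c)
noncomputable def finTab_s_30_33 (c : Nat) : Nat := @Bool.rec (fun _ => Nat) (finTab_30) (finTab_s_31_33 c) (Nat.ble 31 c)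
noncomputable def finTab_s_28_33 (c : Nat) : Nat := @Bool.rec (fun _ => Nat) (finTab_s_28_30 c) (finTab_s_30_33 c) (Nat.ble 30 c)
noncomputable def finTab_s_24_33 (c : Nat) : Nat := @Bool.rec (fun _ => Nat) (finTab_s_24_28 c) (finTab_s_28_33 c) (Nat.ble 28 c)
noncomputable def finTab_s_16_33 (c : Nat) : Nat := @Bool.rec (fun _ => Nat) (finTab_s_16_24 c) (finTab_s_24_33 c) (Nat.ble 24 c)
noncomputable def finTab_s_0_33 (c : Nat) : Nat := @Bool.rec (fun _ => Nat) (finTab_s_0_16 c) (finTab_s_16_33 c) (Nat.ble 16 c)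
noncomputable def finTab (i : Nat) : Nat := rdw 18 262143 (finTab_s_0_33 (Nat.shiftRight i 12)) (Nat.land i 4095)
noncomputable def clsTab_s_0_2 (c : Nat) : Nat := @Bool.rec (fun _ => Nat) (clsTab_0) (clsTab_1) (Nat.ble 1 c)
noncomputable def clsTab_s_2_4 (c : Nat) : Nat := @Bool.rec (fun _ => Nat) (clsTab_2) (clsTab_3) (Nat.ble 3 c)
noncomputable def clsTab_s_0_4 (c : Nat) : Nat := @Bool.rec (fun _ => Nat) (clsTab_s_0_2 c) (clsTab_s_2_4 c) (Nat.ble 2 c)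
noncomputable def clsTab_s_4_6 (c : Nat) : Nat := @Bool.rec (fun _ => Nat) (clsTab_4) (clsTab_5) (Nat.ble 5 c)
noncomputable def clsTab_s_6_8 (c : Nat) : Nat := @Bool.rec (fun _ => Nat) (clsTab_6) (clsTab_7) (Nat.ble 7 c)
noncomputable def clsTab_s_4_8 (c : Nat) : Nat := @Bool.rec (fun _ => Nat) (clsTab_s_4_6 c) (clsTab_s_6_8 c) (Nat.ble 6 c)
noncomputable def clsTab_s_0_8 (c : Nat) : Nat := @Bool.rec (fun _ => Nat) (clsTab_s_0_4 c) (clsTab_s_4_8 c) (Nat.ble 4 c)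
noncomputable def clsTab (i : Nat) : Nat := rdw 15 32767 (clsTab_s_0_8 (Nat.shiftRight i 12)) (Nat.land i 4095)
noncomputable def oparTab_s_1_3 (c : Nat) : Nat := @Bool.rec (fun _ => Nat) (oparTab_1) (oparTab_2) (Nat.ble 2 c)
noncomputable def oparTab_s_0_3 (c : Nat) : Nat := @Bool.rec (fun _ => Nat) (oparTab_0) (oparTab_s_1_3 c) (Nat.ble 1 c)
noncomputable def oparTab_s_4_6 (c : Nat) : Nat := @Bool.rec (fun _ => Nat) (oparTab_4) (oparTab_5) (Nat.ble 5 c)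
noncomputable def oparTab_s_3_6 (c : Nat) : Nat := @Bool.rec (fun _ => Nat) (oparTab_3) (oparTab_s_4_6 c) (Nat.ble 4 c)
noncomputable def oparTab_s_0_6 (c : Nat) : Nat := @Bool.rec (fun _ => Nat) (oparTab_s_0_3 c) (oparTab_s_3_6 c) (Nat.ble 3 c)
noncomputable def oparTab (i : Nat) : Nat := rdw 15 32767 (oparTab_s_0_6 (Nat.shiftRight i 12)) (Nat.land i 4095)
noncomputable def olabTab (i : Nat) : Nat := rdw 2 3 olabTab_0 i
noncomputable def srcF (t : Nat) : Nat := Nat.land (Atab t) 32767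
noncomputable def tgtF (t : Nat) : Nat := Nat.land (Nat.shiftRight (Atab t) 15) 32767
noncomputable def ltF (t : Nat) : Nat := Nat.shiftRight (Atab t) 30
noncomputable def rhoF (t : Nat) : Nat := Nat.land (Btab (Nat.sub t 32233)) 63
noncomputable def rotF (t : Nat) : Nat := Nat.land (Nat.shiftRight (Btab (Nat.sub t 32233)) 6) 31
noncomputable def lenF (t : Nat) : Nat := Nat.land (Nat.shiftRight (Btab (Nat.sub t 32233)) 11) 63
noncomputable def offF (t : Nat) : Nat := Nat.shiftRight (Btab (Nat.sub t 32233)) 17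
noncomputable def pfF (j : Nat) : Nat := Nat.shiftRight (Ptab j) 1
noncomputable def pdF (j : Nat) : Nat := Nat.land (Ptab j) 1
noncomputable def tblF (i x : Nat) : Nat := @Bool.rec (fun _ => Nat) (@Bool.rec (fun _ => Nat) (col0 i) (@Bool.rec (fun _ => Nat) (col1 i) (col2 i) (Nat.ble 2 x)) (Nat.ble 1 x)) (@Bool.rec (fun _ => Nat) (col3 i) (@Bool.rec (fun _ => Nat) (col4 i) (col5 i) (Nat.ble 5 x)) (Nat.ble 4 x)) (Nat.ble 3 x)
noncomputable def finE (i x : Nat) : Nat := finTab (Nat.add (Nat.mul i 6) x)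
noncomputable def finFF (i x : Nat) : Nat := Nat.shiftRight (finE i x) 1
noncomputable def finDF (i x : Nat) : Nat := Nat.land (finE i x) 1

noncomputable def D : Log :=
  { k := 6, inv := invE 6 PMcLp.invR, nR := 46, rBase := rBtab, rLen := rLtab, RR := RRtab,
    M := 32229, nB := 4, F := 104502, src := srcF, lt := ltF, tgt := tgtF, rho := rhoF, rot := rotF,
    off := offF, len := lenF, pf := pfF, pd := pdF }

noncomputable def T : Tab :=
  { N := 22275, nameOf := nameTab, tbl := tblF, finF := finFF, finD := finDF, cls := clsTab }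

def subs : List (List Nat) := [
  [0],
  [2] ]

def rw0 : List Nat := [0, 0, 0, 0, 0, 0, 0]
def rw1 : List Nat := [2, 2, 2, 2, 2, 2, 2]
def rw2 : List Nat := [0, 0, 2, 0, 2, 2, 2, 1, 2, 2, 1, 2]
def rw3 : List Nat := [0, 2, 0, 3, 1, 3, 3, 1, 2, 0, 2, 2]
def rw4 : List Nat := [4, 4, 4]
def rw5 : List Nat := [0, 0, 3, 0, 2, 2, 5, 0, 2, 1, 3, 1, 5, 2, 0, 3]
def rw6 : List Nat := [0, 0, 0, 3, 4, 1, 1, 3, 0, 3, 0, 5, 3, 3, 0, 2]
def rw7 : List Nat := [0, 0, 2, 1, 3, 0, 2, 0, 5, 2, 2, 0, 2, 0, 5, 3]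
def rw8 : List Nat := [0, 0, 0, 3, 1, 1, 3, 1, 1, 3, 1, 5, 2, 1, 1, 2, 5]
def rw9 : List Nat := [0, 0, 2, 0, 3, 5, 0, 2, 0, 0, 4, 1, 4, 0, 0, 3, 3]
def rw10 : List Nat := [0, 0, 3, 1, 2, 1, 4, 2, 0, 2, 1, 1, 2, 1, 5, 3]
def rw11 : List Nat := [0, 0, 4, 1, 2, 5, 3, 1, 4, 0, 5, 1, 3, 3, 0, 3]
def rw12 : List Nat := [0, 0, 0, 2, 1, 1, 3, 5, 1, 3, 3, 1, 1, 1, 2, 1, 4]
def rw13 : List Nat := [0, 0, 0, 0, 3, 1, 5, 2, 1, 1, 1, 2, 2, 1, 5, 0, 5]
def rw14 : List Nat := [0, 0, 2, 0, 2, 0, 3, 0, 0, 3, 4, 1, 3, 3, 1, 1, 4, 3]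
def realLit : List (List Nat) := [rw0, rw1, rw2, rw3, rw4, rw5, rw6, rw7, rw8, rw9, rw10, rw11, rw12, rw13, rw14]
noncomputable def actR0 (i : Nat) : Nat := col1 (col1 (col1 (col1 (col1 (col1 (col1 (i)))))))
theorem actR0_eq (i : Nat) : actR0 i = Tab.act T D rw0 i := rfl
noncomputable def actR1 (i : Nat) : Nat := col3 (col3 (col3 (col3 (col3 (col3 (col3 (i)))))))
theorem actR1_eq (i : Nat) : actR1 i = Tab.act T D rw1 i := rfl
noncomputable def actR2 (i : Nat) : Nat := col1 (col1 (col3 (col1 (col3 (col3 (col3 (col0 (col3 (col3 (col0 (col3 (i))))))))))))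
theorem actR2_eq (i : Nat) : actR2 i = Tab.act T D rw2 i := rfl
noncomputable def actR3 (i : Nat) : Nat := col1 (col3 (col1 (col2 (col0 (col2 (col2 (col0 (col3 (col1 (col3 (col3 (i))))))))))))
theorem actR3_eq (i : Nat) : actR3 i = Tab.act T D rw3 i := rfl
noncomputable def actR4 (i : Nat) : Nat := col5 (col5 (col5 (i)))
theorem actR4_eq (i : Nat) : actR4 i = Tab.act T D rw4 i := rfl
noncomputable def actR5 (i : Nat) : Nat := col1 (col1 (col2 (col1 (col3 (col3 (col4 (col1 (col3 (col0 (col2 (col0 (col4 (col3 (col1 (col2 (i))))))))))))))))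
theorem actR5_eq (i : Nat) : actR5 i = Tab.act T D rw5 i := rfl
noncomputable def actR6 (i : Nat) : Nat := col1 (col1 (col1 (col2 (col5 (col0 (col0 (col2 (col1 (col2 (col1 (col4 (col2 (col2 (col1 (col3 (i))))))))))))))))
theorem actR6_eq (i : Nat) : actR6 i = Tab.act T D rw6 i := rfl
noncomputable def actR7 (i : Nat) : Nat := col1 (col1 (col3 (col0 (col2 (col1 (col3 (col1 (col4 (col3 (col3 (col1 (col3 (col1 (col4 (col2 (i))))))))))))))))
theorem actR7_eq (i : Nat) : actR7 i = Tab.act T D rw7 i := rfl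
noncomputable def actR8 (i : Nat) : Nat := col1 (col1 (col1 (col2 (col0 (col0 (col2 (col0 (col0 (col2 (col0 (col4 (col3 (col0 (col0 (col3 (col4 (i)))))))))))))))))
theorem actR8_eq (i : Nat) : actR8 i = Tab.act T D rw8 i := rfl
noncomputable def actR9 (i : Nat) : Nat := col1 (col1 (col3 (col1 (col2 (col4 (col1 (col3 (col1 (col1 (col5 (col0 (col5 (col1 (col1 (col2 (col2 (i)))))))))))))))))
theorem actR9_eq (i : Nat) : actR9 i = Tab.act T D rw9 i := rfl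
noncomputable def actR10 (i : Nat) : Nat := col1 (col1 (col2 (col0 (col3 (col0 (col5 (col3 (col1 (col3 (col0 (col0 (col3 (col0 (col4 (col2 (i))))))))))))))))
theorem actR10_eq (i : Nat) : actR10 i = Tab.act T D rw10 i := rfl
noncomputable def actR11 (i : Nat) : Nat := col1 (col1 (col5 (col0 (col3 (col4 (col2 (col0 (col5 (col1 (col4 (col0 (col2 (col2 (col1 (col2 (i))))))))))))))))
theorem actR11_eq (i : Nat) : actR11 i = Tab.act T D rw11 i := rfl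
noncomputable def actR12 (i : Nat) : Nat := col1 (col1 (col1 (col3 (col0 (col0 (col2 (col4 (col0 (col2 (col2 (col0 (col0 (col0 (col3 (col0 (col5 (i)))))))))))))))))
theorem actR12_eq (i : Nat) : actR12 i = Tab.act T D rw12 i := rfl
noncomputable def actR13 (i : Nat) : Nat := col1 (col1 (col1 (col1 (col2 (col0 (col4 (col3 (col0 (col0 (col0 (col3 (col3 (col0 (col4 (col1 (col4 (i)))))))))))))))))
theorem actR13_eq (i : Nat) : actR13 i = Tab.act T D rw13 i := rfl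
noncomputable def actR14 (i : Nat) : Nat := col1 (col1 (col3 (col1 (col3 (col1 (col2 (col1 (col1 (col2 (col5 (col0 (col2 (col2 (col0 (col0 (col5 (col2 (i))))))))))))))))))
theorem actR14_eq (i : Nat) : actR14 i = Tab.act T D rw14 i := rfl

end Cfsg.Agent.Lib.Helper4.TCD.McLpA
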