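import Cfsg.Agent.Lib.Helper4.TCD_McLpA_Acc

namespace Cfsg.Agent.Lib.Helper4.TCD.McLpA

open Cfsg.Agent.Lib.Helper4.TC

set_option maxRecDepth 100000
set_option Elab.async false

theorem c_zero : D.zeroOK = true := by decide +kernel
theorem c_base : allBelow D.baseOK 4 = true := by decide +kernel
theorem c_let : allBelow D.letOK 6 = true := by decide +kernel
theorem c_cls0 : T.cls 0 = 0 := by decide +kernel
theorem c_name0 : T.nameOf 0 = 0 := by decide +kernel
theorem c_tab : D.relTabOK 0 (baseRels 6 PMcLp.invR PMcLp.P.real subs ++ (baseRels 6 PMcLp.invR PMcLp.P.real subs).map (invWord D.inv)) = true := by decide +kernel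
theorem c_real : PMcLp.P.real = realLit := by decide +kernel
theorem c_subfix : subs.all (fun u => Nat.beq (Tab.act T D u 0) 0) = true := by decide +kernel
theorem c_subs : subs.all (fun u => u.all (fun x => Nat.ble (Nat.succ x) 6)) = true := by decide +kernel
theorem c_names_0 : allRange D.nameOK 1 32228 = true := by decide +kernel
theorem c_cls_0 : allRange (T.clsOK D) 1 15000 = true := by decide +kernel
theorem c_cls_1 : allRange (T.clsOK D) 15001 15000 = true := by decide +kernel
theorem c_cls_2 : allRange (T.clsOK D) 30001 2228 = true := by decide +kernel
theorem c_rep_0 : allRange (T.repOK D) 0 22275 = true := by decide +kernel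
theorem c_rel_0 : allRange D.relOK 32233 1167 = true := by decide +kernel
theorem c_rel_1 : allRange D.relOK 33400 914 = true := by decide +kernel
theorem c_rel_2 : allRange D.relOK 34314 993 = true := by decide +kernel
theorem c_rel_3 : allRange D.relOK 35307 1134 = true := by decide +kernel
theorem c_rel_4 : allRange D.relOK 36441 1181 = true := by decide +kernel
theorem c_rel_5 : allRange D.relOK 37622 1218 = true := by decide +kernel
theorem c_rel_6 : allRange D.relOK 38840 1310 = true := by decide +kernel
theorem c_rel_7 : allRange D.relOK 40150 1390 = true := by decide +kernel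
theorem c_rel_8 : allRange D.relOK 41540 1237 = true := by decide +kernel
theorem c_rel_9 : allRange D.relOK 42777 1090 = true := by decide +kernel
theorem c_rel_10 : allRange D.relOK 43867 1015 = true := by decide +kernel
theorem c_rel_11 : allRange D.relOK 44882 993 = true := by decide +kernel
theorem c_rel_12 : allRange D.relOK 45875 928 = true := by decide +kernel
theorem c_rel_13 : allRange D.relOK 46803 1053 = true := by decide +kernel
theorem c_rel_14 : allRange D.relOK 47856 982 = true := by decide +kernel
theorem c_rel_15 : allRange D.relOK 48838 1131 = true := by decide +kernel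
theorem c_rel_16 : allRange D.relOK 49969 1105 = true := by decide +kernel
theorem c_rel_17 : allRange D.relOK 51074 1095 = true := by decide +kernel
theorem c_rel_18 : allRange D.relOK 52169 1037 = true := by decide +kernel
theorem c_rel_19 : allRange D.relOK 53206 1033 = true := by decide +kernel
theorem c_rel_20 : allRange D.relOK 54239 983 = true := by decide +kernel
theorem c_rel_21 : allRange D.relOK 55222 1021 = true := by decide +kernel
theorem c_rel_22 : allRange D.relOK 56243 1004 = true := by decide +kernel
theorem c_rel_23 : allRange D.relOK 57247 1004 = true := by decide +kernel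
theorem c_rel_24 : allRange D.relOK 58251 1000 = true := by decide +kernel
theorem c_rel_25 : allRange D.relOK 59251 955 = true := by decide +kernel
theorem c_rel_26 : allRange D.relOK 60206 965 = true := by decide +kernel
theorem c_rel_27 : allRange D.relOK 61171 944 = true := by decide +kernel
theorem c_rel_28 : allRange D.relOK 62115 967 = true := by decide +kernel
theorem c_rel_29 : allRange D.relOK 63082 925 = true := by decide +kernel
theorem c_rel_30 : allRange D.relOK 64007 935 = true := by decide +kernel
theorem c_rel_31 : allRange D.relOK 64942 947 = true := by decide +kernel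
theorem c_rel_32 : allRange D.relOK 65889 945 = true := by decide +kernel
theorem c_rel_33 : allRange D.relOK 66834 925 = true := by decide +kernel
theorem c_rel_34 : allRange D.relOK 67759 924 = true := by decide +kernel
theorem c_rel_35 : allRange D.relOK 68683 947 = true := by decide +kernel
theorem c_rel_36 : allRange D.relOK 69630 935 = true := by decide +kernel
theorem c_rel_37 : allRange D.relOK 70565 909 = true := by decide +kernel
theorem c_rel_38 : allRange D.relOK 71474 920 = true := by decide +kernel
theorem c_rel_39 : allRange D.relOK 72394 912 = true := by decide +kernel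
theorem c_rel_40 : allRange D.relOK 73306 910 = true := by decide +kernel
theorem c_rel_41 : allRange D.relOK 74216 921 = true := by decide +kernel
theorem c_rel_42 : allRange D.relOK 75137 928 = true := by decide +kernel
theorem c_rel_43 : allRange D.relOK 76065 926 = true := by decide +kernel
theorem c_rel_44 : allRange D.relOK 76991 936 = true := by decide +kernel
theorem c_rel_45 : allRange D.relOK 77927 935 = true := by decide +kernel
theorem c_rel_46 : allRange D.relOK 78862 943 = true := by decide +kernel
theorem c_rel_47 : allRange D.relOK 79805 944 = true := by decide +kernel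
theorem c_rel_48 : allRange D.relOK 80749 948 = true := by decide +kernel
theorem c_rel_49 : allRange D.relOK 81697 960 = true := by decide +kernel
theorem c_rel_50 : allRange D.relOK 82657 2095 = true := by decide +kernel
theorem c_rel_51 : allRange D.relOK 84752 4708 = true := by decide +kernel
theorem c_rel_52 : allRange D.relOK 89460 4717 = true := by decide +kernel
theorem c_rel_53 : allRange D.relOK 94177 4743 = true := by decide +kernel
theorem c_rel_54 : allRange D.relOK 98920 4761 = true := by decide +kernel
theorem c_rel_55 : allRange D.relOK 103681 821 = true := by decide +kernel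
theorem c_fin_0 : allGrid (T.finOK D) 0 2000 6 = true := by decide +kernel
theorem c_fin_1 : allGrid (T.finOK D) 2000 2000 6 = true := by decide +kernel
theorem c_fin_2 : allGrid (T.finOK D) 4000 2000 6 = true := by decide +kernel
theorem c_fin_3 : allGrid (T.finOK D) 6000 2000 6 = true := by decide +kernel
theorem c_fin_4 : allGrid (T.finOK D) 8000 2000 6 = true := by decide +kernel
theorem c_fin_5 : allGrid (T.finOK D) 10000 2000 6 = true := by decide +kernel
theorem c_fin_6 : allGrid (T.finOK D) 12000 2000 6 = true := by decide +kernel
theorem c_fin_7 : allGrid (T.finOK D) 14000 2000 6 = true := by decide +kernel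
theorem c_fin_8 : allGrid (T.finOK D) 16000 2000 6 = true := by decide +kernel
theorem c_fin_9 : allGrid (T.finOK D) 18000 2000 6 = true := by decide +kernel
theorem c_fin_10 : allGrid (T.finOK D) 20000 2000 6 = true := by decide +kernel
theorem c_fin_11 : allGrid (T.finOK D) 22000 275 6 = true := by decide +kernel
theorem c_perm_0 : allGrid (T.permOK1 D) 0 5000 6 = true := by decide +kernel
theorem c_perm_1 : allGrid (T.permOK1 D) 5000 5000 6 = true := by decide +kernel
theorem c_perm_2 : allGrid (T.permOK1 D) 10000 5000 6 = true := by decide +kernel
theorem c_perm_3 : allGrid (T.permOK1 D) 15000 5000 6 = true := by decide +kernel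
theorem c_perm_4 : allGrid (T.permOK1 D) 20000 2275 6 = true := by decide +kernel
theorem c_act0_0 : allRange (fun i => Nat.beq (actR0 i) i) 0 8571 = true := by decide +kernel
theorem c_act0_1 : allRange (fun i => Nat.beq (actR0 i) i) 8571 8571 = true := by decide +kernel
theorem c_act0_2 : allRange (fun i => Nat.beq (actR0 i) i) 17142 5133 = true := by decide +kernel

end Cfsg.Agent.Lib.Helper4.TCD.McLpA
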