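import Cfsg.Agent.Lib.Helper4.TC11
import Cfsg.Agent.Lib.Helper4.TCD_McLpA_Acc
import Cfsg.Agent.Lib.Helper4.TCD_McLpL_D0

namespace Cfsg.Agent.Lib.Helper4.TCD.McLpL

open Cfsg.Agent.Lib.Helper4.TC Cfsg.Agent.Lib.Helper4.TCD.McLpA

set_option maxRecDepth 100000

noncomputable def st6_s_1_3 (c : Nat) : Nat := @Bool.rec (fun _ => Nat) (st6_1) (st6_2) (Nat.ble 2 c)
noncomputable def st6_s_0_3 (c : Nat) : Nat := @Bool.rec (fun _ => Nat) (st6_0) (st6_s_1_3 c) (Nat.ble 1 c)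
noncomputable def st6_s_4_6 (c : Nat) : Nat := @Bool.rec (fun _ => Nat) (st6_4) (st6_5) (Nat.ble 5 c)
noncomputable def st6_s_3_6 (c : Nat) : Nat := @Bool.rec (fun _ => Nat) (st6_3) (st6_s_4_6 c) (Nat.ble 4 c)
noncomputable def st6_s_0_6 (c : Nat) : Nat := @Bool.rec (fun _ => Nat) (st6_s_0_3 c) (st6_s_3_6 c) (Nat.ble 3 c)
noncomputable def st6 (i : Nat) : Nat := rdw 15 32767 (st6_s_0_6 (Nat.shiftRight i 12)) (Nat.land i 4095)
noncomputable def st7_s_1_3 (c : Nat) : Nat := @Bool.rec (fun _ => Nat) (st7_1) (st7_2) (Nat.ble 2 c)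
noncomputable def st7_s_0_3 (c : Nat) : Nat := @Bool.rec (fun _ => Nat) (st7_0) (st7_s_1_3 c) (Nat.ble 1 c)
noncomputable def st7_s_4_6 (c : Nat) : Nat := @Bool.rec (fun _ => Nat) (st7_4) (st7_5) (Nat.ble 5 c)
noncomputable def st7_s_3_6 (c : Nat) : Nat := @Bool.rec (fun _ => Nat) (st7_3) (st7_s_4_6 c) (Nat.ble 4 c)
noncomputable def st7_s_0_6 (c : Nat) : Nat := @Bool.rec (fun _ => Nat) (st7_s_0_3 c) (st7_s_3_6 c) (Nat.ble 3 c)
noncomputable def st7 (i : Nat) : Nat := rdw 15 32767 (st7_s_0_6 (Nat.shiftRight i 12)) (Nat.land i 4095)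
noncomputable def st8_s_1_3 (c : Nat) : Nat := @Bool.rec (fun _ => Nat) (st8_1) (st8_2) (Nat.ble 2 c)
noncomputable def st8_s_0_3 (c : Nat) : Nat := @Bool.rec (fun _ => Nat) (st8_0) (st8_s_1_3 c) (Nat.ble 1 c)
noncomputable def st8_s_4_6 (c : Nat) : Nat := @Bool.rec (fun _ => Nat) (st8_4) (st8_5) (Nat.ble 5 c)
noncomputable def st8_s_3_6 (c : Nat) : Nat := @Bool.rec (fun _ => Nat) (st8_3) (st8_s_4_6 c) (Nat.ble 4 c)
noncomputable def st8_s_0_6 (c : Nat) : Nat := @Bool.rec (fun _ => Nat) (st8_s_0_3 c) (st8_s_3_6 c) (Nat.ble 3 c)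
noncomputable def st8 (i : Nat) : Nat := rdw 15 32767 (st8_s_0_6 (Nat.shiftRight i 12)) (Nat.land i 4095)
noncomputable def st9_s_1_3 (c : Nat) : Nat := @Bool.rec (fun _ => Nat) (st9_1) (st9_2) (Nat.ble 2 c)
noncomputable def st9_s_0_3 (c : Nat) : Nat := @Bool.rec (fun _ => Nat) (st9_0) (st9_s_1_3 c) (Nat.ble 1 c)
noncomputable def st9_s_4_6 (c : Nat) : Nat := @Bool.rec (fun _ => Nat) (st9_4) (st9_5) (Nat.ble 5 c)
noncomputable def st9_s_3_6 (c : Nat) : Nat := @Bool.rec (fun _ => Nat) (st9_3) (st9_s_4_6 c) (Nat.ble 4 c)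
noncomputable def st9_s_0_6 (c : Nat) : Nat := @Bool.rec (fun _ => Nat) (st9_s_0_3 c) (st9_s_3_6 c) (Nat.ble 3 c)
noncomputable def st9 (i : Nat) : Nat := rdw 15 32767 (st9_s_0_6 (Nat.shiftRight i 12)) (Nat.land i 4095)
noncomputable def st10_s_1_3 (c : Nat) : Nat := @Bool.rec (fun _ => Nat) (st10_1) (st10_2) (Nat.ble 2 c)
noncomputable def st10_s_0_3 (c : Nat) : Nat := @Bool.rec (fun _ => Nat) (st10_0) (st10_s_1_3 c) (Nat.ble 1 c)
noncomputable def st10_s_4_6 (c : Nat) : Nat := @Bool.rec (fun _ => Nat) (st10_4) (st10_5) (Nat.ble 5 c)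
noncomputable def st10_s_3_6 (c : Nat) : Nat := @Bool.rec (fun _ => Nat) (st10_3) (st10_s_4_6 c) (Nat.ble 4 c)
noncomputable def st10_s_0_6 (c : Nat) : Nat := @Bool.rec (fun _ => Nat) (st10_s_0_3 c) (st10_s_3_6 c) (Nat.ble 3 c)
noncomputable def st10 (i : Nat) : Nat := rdw 15 32767 (st10_s_0_6 (Nat.shiftRight i 12)) (Nat.land i 4095)
noncomputable def st11_s_1_3 (c : Nat) : Nat := @Bool.rec (fun _ => Nat) (st11_1) (st11_2) (Nat.ble 2 c)
noncomputable def st11_s_0_3 (c : Nat) : Nat := @Bool.rec (fun _ => Nat) (st11_0) (st11_s_1_3 c) (Nat.ble 1 c)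
noncomputable def st11_s_4_6 (c : Nat) : Nat := @Bool.rec (fun _ => Nat) (st11_4) (st11_5) (Nat.ble 5 c)
noncomputable def st11_s_3_6 (c : Nat) : Nat := @Bool.rec (fun _ => Nat) (st11_3) (st11_s_4_6 c) (Nat.ble 4 c)
noncomputable def st11_s_0_6 (c : Nat) : Nat := @Bool.rec (fun _ => Nat) (st11_s_0_3 c) (st11_s_3_6 c) (Nat.ble 3 c)
noncomputable def st11 (i : Nat) : Nat := rdw 15 32767 (st11_s_0_6 (Nat.shiftRight i 12)) (Nat.land i 4095)
noncomputable def st12_s_1_3 (c : Nat) : Nat := @Bool.rec (fun _ => Nat) (st12_1) (st12_2) (Nat.ble 2 c)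
noncomputable def st12_s_0_3 (c : Nat) : Nat := @Bool.rec (fun _ => Nat) (st12_0) (st12_s_1_3 c) (Nat.ble 1 c)
noncomputable def st12_s_4_6 (c : Nat) : Nat := @Bool.rec (fun _ => Nat) (st12_4) (st12_5) (Nat.ble 5 c)
noncomputable def st12_s_3_6 (c : Nat) : Nat := @Bool.rec (fun _ => Nat) (st12_3) (st12_s_4_6 c) (Nat.ble 4 c)
noncomputable def st12_s_0_6 (c : Nat) : Nat := @Bool.rec (fun _ => Nat) (st12_s_0_3 c) (st12_s_3_6 c) (Nat.ble 3 c)
noncomputable def st12 (i : Nat) : Nat := rdw 15 32767 (st12_s_0_6 (Nat.shiftRight i 12)) (Nat.land i 4095)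
noncomputable def st13_s_1_3 (c : Nat) : Nat := @Bool.rec (fun _ => Nat) (st13_1) (st13_2) (Nat.ble 2 c)
noncomputable def st13_s_0_3 (c : Nat) : Nat := @Bool.rec (fun _ => Nat) (st13_0) (st13_s_1_3 c) (Nat.ble 1 c)
noncomputable def st13_s_4_6 (c : Nat) : Nat := @Bool.rec (fun _ => Nat) (st13_4) (st13_5) (Nat.ble 5 c)
noncomputable def st13_s_3_6 (c : Nat) : Nat := @Bool.rec (fun _ => Nat) (st13_3) (st13_s_4_6 c) (Nat.ble 4 c)
noncomputable def st13_s_0_6 (c : Nat) : Nat := @Bool.rec (fun _ => Nat) (st13_s_0_3 c) (st13_s_3_6 c) (Nat.ble 3 c)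
noncomputable def st13 (i : Nat) : Nat := rdw 15 32767 (st13_s_0_6 (Nat.shiftRight i 12)) (Nat.land i 4095)
noncomputable def st14_s_1_3 (c : Nat) : Nat := @Bool.rec (fun _ => Nat) (st14_1) (st14_2) (Nat.ble 2 c)
noncomputable def st14_s_0_3 (c : Nat) : Nat := @Bool.rec (fun _ => Nat) (st14_0) (st14_s_1_3 c) (Nat.ble 1 c)
noncomputable def st14_s_4_6 (c : Nat) : Nat := @Bool.rec (fun _ => Nat) (st14_4) (st14_5) (Nat.ble 5 c)
noncomputable def st14_s_3_6 (c : Nat) : Nat := @Bool.rec (fun _ => Nat) (st14_3) (st14_s_4_6 c) (Nat.ble 4 c)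
noncomputable def st14_s_0_6 (c : Nat) : Nat := @Bool.rec (fun _ => Nat) (st14_s_0_3 c) (st14_s_3_6 c) (Nat.ble 3 c)
noncomputable def st14 (i : Nat) : Nat := rdw 15 32767 (st14_s_0_6 (Nat.shiftRight i 12)) (Nat.land i 4095)
noncomputable def levTab (i : Nat) : Nat := rdw 3 7 levTab_0 i
noncomputable def betaTab (i : Nat) : Nat := rdw 15 32767 betaTab_0 i
noncomputable def nodeTab_s_1_3 (c : Nat) : Nat := @Bool.rec (fun _ => Nat) (nodeTab_1) (nodeTab_2) (Nat.ble 2 c)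
noncomputable def nodeTab_s_0_3 (c : Nat) : Nat := @Bool.rec (fun _ => Nat) (nodeTab_0) (nodeTab_s_1_3 c) (Nat.ble 1 c)
noncomputable def nodeTab_s_4_6 (c : Nat) : Nat := @Bool.rec (fun _ => Nat) (nodeTab_4) (nodeTab_5) (Nat.ble 5 c)
noncomputable def nodeTab_s_3_6 (c : Nat) : Nat := @Bool.rec (fun _ => Nat) (nodeTab_3) (nodeTab_s_4_6 c) (Nat.ble 4 c)
noncomputable def nodeTab_s_0_6 (c : Nat) : Nat := @Bool.rec (fun _ => Nat) (nodeTab_s_0_3 c) (nodeTab_s_3_6 c) (Nat.ble 3 c)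
noncomputable def nodeTab_s_7_9 (c : Nat) : Nat := @Bool.rec (fun _ => Nat) (nodeTab_7) (nodeTab_8) (Nat.ble 8 c)
noncomputable def nodeTab_s_6_9 (c : Nat) : Nat := @Bool.rec (fun _ => Nat) (nodeTab_6) (nodeTab_s_7_9 c) (Nat.ble 7 c)
noncomputable def nodeTab_s_10_12 (c : Nat) : Nat := @Bool.rec (fun _ => Nat) (nodeTab_10) (nodeTab_11) (Nat.ble 11 c)
noncomputable def nodeTab_s_9_12 (c : Nat) : Nat := @Bool.rec (fun _ => Nat) (nodeTab_9) (nodeTab_s_10_12 c) (Nat.ble 10 c)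
noncomputable def nodeTab_s_6_12 (c : Nat) : Nat := @Bool.rec (fun _ => Nat) (nodeTab_s_6_9 c) (nodeTab_s_9_12 c) (Nat.ble 9 c)
noncomputable def nodeTab_s_0_12 (c : Nat) : Nat := @Bool.rec (fun _ => Nat) (nodeTab_s_0_6 c) (nodeTab_s_6_12 c) (Nat.ble 6 c)
noncomputable def nodeTab (i : Nat) : Nat := rdw 38 274877906943 (nodeTab_s_0_12 (Nat.shiftRight i 11)) (Nat.land i 2047)
noncomputable def offTab (i : Nat) : Nat := rdw 15 32767 offTab_0 i
noncomputable def nTab (i : Nat) : Nat := rdw 15 32767 nTab_0 i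
noncomputable def rootTab (i : Nat) : Nat := rdw 15 32767 rootTab_0 i
noncomputable def tabF (i p : Nat) : Nat := @Bool.rec (fun _ => Nat) (@Bool.rec (fun _ => Nat) (@Bool.rec (fun _ => Nat) (col1 p) (@Bool.rec (fun _ => Nat) (col0 p) (col3 p) (Nat.ble 2 i)) (Nat.ble 1 i)) (@Bool.rec (fun _ => Nat) (@Bool.rec (fun _ => Nat) (col2 p) (col5 p) (Nat.ble 4 i)) (@Bool.rec (fun _ => Nat) (col4 p) (st6 p) (Nat.ble 6 i)) (Nat.ble 5 i)) (Nat.ble 3 i)) (@Bool.rec (fun _ => Nat) (@Bool.rec (fun _ => Nat) (@Bool.rec (fun _ => Nat) (st7 p) (st8 p) (Nat.ble 8 i)) (@Bool.rec (fun _ => Nat) (st9 p) (st10 p) (Nat.ble 10 i)) (Nat.ble 9 i)) (@Bool.rec (fun _ => Nat) (@Bool.rec (fun _ => Nat) (st11 p) (st12 p) (Nat.ble 12 i)) (@Bool.rec (fun _ => Nat) (st13 p) (st14 p) (Nat.ble 14 i)) (Nat.ble 13 i)) (Nat.ble 11 i)) (Nat.ble 7 i)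
def wAF : Nat → List Nat
  | 6 => [5, 0, 5, 3, 4, 0, 4]
  | 7 => [6]
  | 8 => [4, 7, 4, 6, 5, 2, 0, 0, 2]
  | 9 => [6, 6, 0]
  | 10 => [9]
  | 11 => [10, 6, 5, 1, 4, 0, 10, 2, 0]
  | 12 => [11]
  | 13 => [8, 10, 3, 9, 11, 9]
  | 14 => [12, 8]
  | _ => []
def wBF : Nat → List Nat
  | 6 => [0, 2, 0, 3, 4, 0, 5]
  | 7 => []
  | 8 => [7, 7, 4, 7, 7, 5]
  | 9 => [8, 0, 3]
  | 10 => []
  | 11 => [7, 0, 9, 5, 2, 0, 4]
  | 12 => []
  | 13 => [10, 0, 7]
  | 14 => [13, 12]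
  | _ => []
noncomputable def ptF (j idx : Nat) : Nat := Nat.land (nodeTab (Nat.add (offTab j) idx)) 32767
noncomputable def parF (j idx : Nat) : Nat := Nat.land (Nat.shiftRight (nodeTab (Nat.add (offTab j) idx)) 15) 32767
noncomputable def giF (j idx : Nat) : Nat := Nat.land (Nat.shiftRight (nodeTab (Nat.add (offTab j) idx)) 30) 15
noncomputable def depF (j idx : Nat) : Nat := Nat.shiftRight (nodeTab (Nat.add (offTab j) idx)) 34

noncomputable def S : Sgs :=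
  { N := 22275, k := 6, m := 15, tab := tabF, wA := wAF, wB := wBF, lev := levTab, r := 5, beta := betaTab,
    n := nTab, root := rootTab, pt := ptF, par := parF, gi := giF, dep := depF }

noncomputable def chk6 (p : Nat) : Bool := band (Nat.ble (Nat.succ (st6 p)) 22275) (Nat.beq (col4 (col1 (col4 (col2 (col5 (col1 (col5 (st6 p)))))))) (col1 (col3 (col1 (col2 (col5 (col1 (col4 p))))))))
theorem chk6_eq (p : Nat) : chk6 p = Sgs.permOK S 6 p := rfl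
noncomputable def chk7 (p : Nat) : Bool := band (Nat.ble (Nat.succ (st7 p)) 22275) (Nat.beq (st6 (st7 p)) p)
theorem chk7_eq (p : Nat) : chk7 p = Sgs.permOK S 7 p := rfl
noncomputable def chk8 (p : Nat) : Bool := band (Nat.ble (Nat.succ (st8 p)) 22275) (Nat.beq (col5 (st7 (col5 (st6 (col4 (col3 (col1 (col1 (col3 (st8 p)))))))))) (st7 (st7 (col5 (st7 (st7 (col4 p)))))))
theorem chk8_eq (p : Nat) : chk8 p = Sgs.permOK S 8 p := rfl
noncomputable def chk9 (p : Nat) : Bool := band (Nat.ble (Nat.succ (st9 p)) 22275) (Nat.beq (st6 (st6 (col1 (st9 p)))) (st8 (col1 (col2 p))))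
theorem chk9_eq (p : Nat) : chk9 p = Sgs.permOK S 9 p := rfl
noncomputable def chk10 (p : Nat) : Bool := band (Nat.ble (Nat.succ (st10 p)) 22275) (Nat.beq (st9 (st10 p)) p)
theorem chk10_eq (p : Nat) : chk10 p = Sgs.permOK S 10 p := rfl
noncomputable def chk11 (p : Nat) : Bool := band (Nat.ble (Nat.succ (st11 p)) 22275) (Nat.beq (st10 (st6 (col4 (col0 (col5 (col1 (st10 (col3 (col1 (st11 p)))))))))) (st7 (col1 (st9 (col4 (col3 (col1 (col5 p))))))))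
theorem chk11_eq (p : Nat) : chk11 p = Sgs.permOK S 11 p := rfl
noncomputable def chk12 (p : Nat) : Bool := band (Nat.ble (Nat.succ (st12 p)) 22275) (Nat.beq (st11 (st12 p)) p)
theorem chk12_eq (p : Nat) : chk12 p = Sgs.permOK S 12 p := rfl
noncomputable def chk13 (p : Nat) : Bool := band (Nat.ble (Nat.succ (st13 p)) 22275) (Nat.beq (st8 (st10 (col2 (st9 (st11 (st9 (st13 p))))))) (st10 (col1 (st7 p))))
theorem chk13_eq (p : Nat) : chk13 p = Sgs.permOK S 13 p := rfl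
noncomputable def chk14 (p : Nat) : Bool := band (Nat.ble (Nat.succ (st14 p)) 22275) (Nat.beq (st12 (st8 (st14 p))) (st13 (st12 p)))
theorem chk14_eq (p : Nat) : chk14 p = Sgs.permOK S 14 p := rfl

end Cfsg.Agent.Lib.Helper4.TCD.McLpL
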