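import Cfsg.Agent.Lib.Helper4.TCD_McLpL_Acc

namespace Cfsg.Agent.Lib.Helper4.TCD.McLpL

open Cfsg.Agent.Lib.Helper4.TC Cfsg.Agent.Lib.Helper4.TCD.McLpA

set_option maxRecDepth 100000
set_option Elab.async false

theorem c_words : allRange S.wordsOK 6 9 = true := by decide +kernel
theorem c_fix : allGrid S.fixOK 0 15 5 = true := by decide +kernel
theorem c_root : allBelow (fun j => Nat.ble (Nat.succ (S.root j)) (S.n j)) 5 = true := by decide +kernel
theorem c_n0 : S.n 0 = 22275 := by decide +kernel
theorem c_n1 : S.n 1 = 210 := by decide +kernel
theorem c_n2 : S.n 2 = 48 := by decide +kernel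
theorem c_n3 : S.n 3 = 2 := by decide +kernel
theorem c_n4 : S.n 4 = 2 := by decide +kernel
theorem c_p6_0 : allRange chk6 0 3529 = true := by decide +kernel
theorem c_p6_1 : allRange chk6 3529 3529 = true := by decide +kernel
theorem c_p6_2 : allRange chk6 7058 3529 = true := by decide +kernel
theorem c_p6_3 : allRange chk6 10587 3529 = true := by decide +kernel
theorem c_p6_4 : allRange chk6 14116 3529 = true := by decide +kernel
theorem c_p6_5 : allRange chk6 17645 3529 = true := by decide +kernel
theorem c_p6_6 : allRange chk6 21174 1101 = true := by decide +kernel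
theorem c_p7_0 : allRange chk7 0 15000 = true := by decide +kernel
theorem c_p7_1 : allRange chk7 15000 7275 = true := by decide +kernel
theorem c_p8_0 : allRange chk8 0 3333 = true := by decide +kernel
theorem c_p8_1 : allRange chk8 3333 3333 = true := by decide +kernel
theorem c_p8_2 : allRange chk8 6666 3333 = true := by decide +kernel
theorem c_p8_3 : allRange chk8 9999 3333 = true := by decide +kernel
theorem c_p8_4 : allRange chk8 13332 3333 = true := by decide +kernel
theorem c_p8_5 : allRange chk8 16665 3333 = true := by decide +kernel
theorem c_p8_6 : allRange chk8 19998 2277 = true := by decide +kernel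
theorem c_p9_0 : allRange chk9 0 6666 = true := by decide +kernel
theorem c_p9_1 : allRange chk9 6666 6666 = true := by decide +kernel
theorem c_p9_2 : allRange chk9 13332 6666 = true := by decide +kernel
theorem c_p9_3 : allRange chk9 19998 2277 = true := by decide +kernel
theorem c_p10_0 : allRange chk10 0 15000 = true := by decide +kernel
theorem c_p10_1 : allRange chk10 15000 7275 = true := by decide +kernel
theorem c_p11_0 : allRange chk11 0 3157 = true := by decide +kernel
theorem c_p11_1 : allRange chk11 3157 3157 = true := by decide +kernel
theorem c_p11_2 : allRange chk11 6314 3157 = true := by decide +kernel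
theorem c_p11_3 : allRange chk11 9471 3157 = true := by decide +kernel
theorem c_p11_4 : allRange chk11 12628 3157 = true := by decide +kernel
theorem c_p11_5 : allRange chk11 15785 3157 = true := by decide +kernel
theorem c_p11_6 : allRange chk11 18942 3157 = true := by decide +kernel
theorem c_p11_7 : allRange chk11 22099 176 = true := by decide +kernel
theorem c_p12_0 : allRange chk12 0 15000 = true := by decide +kernel
theorem c_p12_1 : allRange chk12 15000 7275 = true := by decide +kernel
theorem c_p13_0 : allRange chk13 0 5000 = true := by decide +kernel
theorem c_p13_1 : allRange chk13 5000 5000 = true := by decide +kernel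
theorem c_p13_2 : allRange chk13 10000 5000 = true := by decide +kernel
theorem c_p13_3 : allRange chk13 15000 5000 = true := by decide +kernel
theorem c_p13_4 : allRange chk13 20000 2275 = true := by decide +kernel
theorem c_p14_0 : allRange chk14 0 8571 = true := by decide +kernel
theorem c_p14_1 : allRange chk14 8571 8571 = true := by decide +kernel
theorem c_p14_2 : allRange chk14 17142 5133 = true := by decide +kernel
theorem c_nd0_0 : allRange (S.nodeOK 0) 0 5000 = true := by decide +kernel
theorem c_nd0_1 : allRange (S.nodeOK 0) 5000 5000 = true := by decide +kernel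
theorem c_nd0_2 : allRange (S.nodeOK 0) 10000 5000 = true := by decide +kernel
theorem c_nd0_3 : allRange (S.nodeOK 0) 15000 5000 = true := by decide +kernel
theorem c_nd0_4 : allRange (S.nodeOK 0) 20000 2275 = true := by decide +kernel
theorem c_nd1_0 : allRange (S.nodeOK 1) 0 210 = true := by decide +kernel
theorem c_nd2_0 : allRange (S.nodeOK 2) 0 48 = true := by decide +kernel
theorem c_nd3_0 : allRange (S.nodeOK 3) 0 2 = true := by decide +kernel
theorem c_nd4_0 : allRange (S.nodeOK 4) 0 2 = true := by decide +kernel

end Cfsg.Agent.Lib.Helper4.TCD.McLpL
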