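import Cfsg.Agent.Lib.Helper4.TCD_ON1_Acc

namespace Cfsg.Agent.Lib.Helper4.TCD.ON1O

open Cfsg.Agent.Lib.Helper4.TC Cfsg.Agent.Lib.Helper4.TCD.ON1

set_option maxRecDepth 100000
set_option Elab.async false

theorem c_oinv0_0 : allRange (Tab.orbInvOK T D subs 1 58654) 1 5000 = true := by decide +kernel
theorem c_oinv0_1 : allRange (Tab.orbInvOK T D subs 1 58654) 5001 5000 = true := by decide +kernel
theorem c_oinv0_2 : allRange (Tab.orbInvOK T D subs 1 58654) 10001 5000 = true := by decide +kernel
theorem c_oinv0_3 : allRange (Tab.orbInvOK T D subs 1 58654) 15001 5000 = true := by decide +kernel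
theorem c_oinv0_4 : allRange (Tab.orbInvOK T D subs 1 58654) 20001 5000 = true := by decide +kernel
theorem c_oinv0_5 : allRange (Tab.orbInvOK T D subs 1 58654) 25001 5000 = true := by decide +kernel
theorem c_oinv0_6 : allRange (Tab.orbInvOK T D subs 1 58654) 30001 5000 = true := by decide +kernel
theorem c_oinv0_7 : allRange (Tab.orbInvOK T D subs 1 58654) 35001 5000 = true := by decide +kernel
theorem c_oinv0_8 : allRange (Tab.orbInvOK T D subs 1 58654) 40001 5000 = true := by decide +kernel
theorem c_oinv0_9 : allRange (Tab.orbInvOK T D subs 1 58654) 45001 5000 = true := by decide +kernel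
theorem c_oinv0_10 : allRange (Tab.orbInvOK T D subs 1 58654) 50001 5000 = true := by decide +kernel
theorem c_oinv0_11 : allRange (Tab.orbInvOK T D subs 1 58654) 55001 3653 = true := by decide +kernel
theorem c_otree0_0 : allRange (Tab.orbTreeOK T D subs oparTab olabTab 1) 2 20000 = true := by decide +kernel
theorem c_otree0_1 : allRange (Tab.orbTreeOK T D subs oparTab olabTab 1) 20002 20000 = true := by decide +kernel
theorem c_otree0_2 : allRange (Tab.orbTreeOK T D subs oparTab olabTab 1) 40002 18652 = true := by decide +kernel
theorem c_oinv1_0 : allRange (Tab.orbInvOK T D subs 58654 110790) 58654 5000 = true := by decide +kernel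
theorem c_oinv1_1 : allRange (Tab.orbInvOK T D subs 58654 110790) 63654 5000 = true := by decide +kernel
theorem c_oinv1_2 : allRange (Tab.orbInvOK T D subs 58654 110790) 68654 5000 = true := by decide +kernel
theorem c_oinv1_3 : allRange (Tab.orbInvOK T D subs 58654 110790) 73654 5000 = true := by decide +kernel
theorem c_oinv1_4 : allRange (Tab.orbInvOK T D subs 58654 110790) 78654 5000 = true := by decide +kernel
theorem c_oinv1_5 : allRange (Tab.orbInvOK T D subs 58654 110790) 83654 5000 = true := by decide +kernel
theorem c_oinv1_6 : allRange (Tab.orbInvOK T D subs 58654 110790) 88654 5000 = true := by decide +kernel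
theorem c_oinv1_7 : allRange (Tab.orbInvOK T D subs 58654 110790) 93654 5000 = true := by decide +kernel
theorem c_oinv1_8 : allRange (Tab.orbInvOK T D subs 58654 110790) 98654 5000 = true := by decide +kernel
theorem c_oinv1_9 : allRange (Tab.orbInvOK T D subs 58654 110790) 103654 5000 = true := by decide +kernel
theorem c_oinv1_10 : allRange (Tab.orbInvOK T D subs 58654 110790) 108654 2136 = true := by decide +kernel
theorem c_otree1_0 : allRange (Tab.orbTreeOK T D subs oparTab olabTab 58654) 58655 20000 = true := by decide +kernel
theorem c_otree1_1 : allRange (Tab.orbTreeOK T D subs oparTab olabTab 58654) 78655 20000 = true := by decide +kernel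
theorem c_otree1_2 : allRange (Tab.orbTreeOK T D subs oparTab olabTab 58654) 98655 12135 = true := by decide +kernel
theorem c_oinv2_0 : allRange (Tab.orbInvOK T D subs 110790 116376) 110790 5000 = true := by decide +kernel
theorem c_oinv2_1 : allRange (Tab.orbInvOK T D subs 110790 116376) 115790 586 = true := by decide +kernel
theorem c_otree2_0 : allRange (Tab.orbTreeOK T D subs oparTab olabTab 110790) 110791 5585 = true := by decide +kernel
theorem c_oinv3_0 : allRange (Tab.orbInvOK T D subs 116376 122760) 116376 5000 = true := by decide +kernel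
theorem c_oinv3_1 : allRange (Tab.orbInvOK T D subs 116376 122760) 121376 1384 = true := by decide +kernel
theorem c_otree3_0 : allRange (Tab.orbTreeOK T D subs oparTab olabTab 116376) 116377 6383 = true := by decide +kernel

end Cfsg.Agent.Lib.Helper4.TCD.ON1O
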