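import Cfsg.Agent.Lib.Helper4.TC7
import Cfsg.Agent.Lib.Helper4.TCP_ON
import Cfsg.Agent.Lib.Helper4.TCD_ON1_D0
import Cfsg.Agent.Lib.Helper4.TCD_ON1_D1
import Cfsg.Agent.Lib.Helper4.TCD_ON1_D2
import Cfsg.Agent.Lib.Helper4.TCD_ON1_D3
import Cfsg.Agent.Lib.Helper4.TCD_ON1_D4
import Cfsg.Agent.Lib.Helper4.TCD_ON1_D5
import Cfsg.Agent.Lib.Helper4.TCD_ON1_D6
import Cfsg.Agent.Lib.Helper4.TCD_ON1_D7
import Cfsg.Agent.Lib.Helper4.TCD_ON1_D8
import Cfsg.Agent.Lib.Helper4.TCD_ON1_D9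
import Cfsg.Agent.Lib.Helper4.TCD_ON1_D10
import Cfsg.Agent.Lib.Helper4.TCD_ON1_D11
import Cfsg.Agent.Lib.Helper4.TCD_ON1_D12
import Cfsg.Agent.Lib.Helper4.TCD_ON1_D13
import Cfsg.Agent.Lib.Helper4.TCD_ON1_D14
import Cfsg.Agent.Lib.Helper4.TCD_ON1_D15
import Cfsg.Agent.Lib.Helper4.TCD_ON1_D16
import Cfsg.Agent.Lib.Helper4.TCD_ON1_D17
import Cfsg.Agent.Lib.Helper4.TCD_ON1_D18
import Cfsg.Agent.Lib.Helper4.TCD_ON1_D19
import Cfsg.Agent.Lib.Helper4.TCD_ON1_D20
import Cfsg.Agent.Lib.Helper4.TCD_ON1_D21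
import Cfsg.Agent.Lib.Helper4.TCD_ON1_D22
import Cfsg.Agent.Lib.Helper4.TCD_ON1_D23
import Cfsg.Agent.Lib.Helper4.TCD_ON1_D24
import Cfsg.Agent.Lib.Helper4.TCD_ON1_D25
import Cfsg.Agent.Lib.Helper4.TCD_ON1_D26

namespace Cfsg.Agent.Lib.Helper4.TCD.ON1

open Cfsg.Agent.Lib.Helper4.TC

set_option maxRecDepth 100000

noncomputable def Atab_s_0_2 (c : Nat) : Nat := @Bool.rec (fun _ => Nat) (Atab_0) (Atab_1) (Nat.ble 1 c)
noncomputable def Atab_s_3_5 (c : Nat) : Nat := @Bool.rec (fun _ => Nat) (Atab_3) (Atab_4) (Nat.ble 4 c)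
noncomputable def Atab_s_2_5 (c : Nat) : Nat := @Bool.rec (fun _ => Nat) (Atab_2) (Atab_s_3_5 c) (Nat.ble 3 c)
noncomputable def Atab_s_0_5 (c : Nat) : Nat := @Bool.rec (fun _ => Nat) (Atab_s_0_2 c) (Atab_s_2_5 c) (Nat.ble 2 c)
noncomputable def Atab_s_6_8 (c : Nat) : Nat := @Bool.rec (fun _ => Nat) (Atab_6) (Atab_7) (Nat.ble 7 c)
noncomputable def Atab_s_5_8 (c : Nat) : Nat := @Bool.rec (fun _ => Nat) (Atab_5) (Atab_s_6_8 c) (Nat.ble 6 c)
noncomputable def Atab_s_9_11 (c : Nat) : Nat := @Bool.rec (fun _ => Nat) (Atab_9) (Atab_10) (Nat.ble 10 c)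
noncomputable def Atab_s_8_11 (c : Nat) : Nat := @Bool.rec (fun _ => Nat) (Atab_8) (Atab_s_9_11 c) (Nat.ble 9 c)
noncomputable def Atab_s_5_11 (c : Nat) : Nat := @Bool.rec (fun _ => Nat) (Atab_s_5_8 c) (Atab_s_8_11 c) (Nat.ble 8 c)
noncomputable def Atab_s_0_11 (c : Nat) : Nat := @Bool.rec (fun _ => Nat) (Atab_s_0_5 c) (Atab_s_5_11 c) (Nat.ble 5 c)
noncomputable def Atab_s_12_14 (c : Nat) : Nat := @Bool.rec (fun _ => Nat) (Atab_12) (Atab_13) (Nat.ble 13 c)
noncomputable def Atab_s_11_14 (c : Nat) : Nat := @Bool.rec (fun _ => Nat) (Atab_11) (Atab_s_12_14 c) (Nat.ble 12 c)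
noncomputable def Atab_s_15_17 (c : Nat) : Nat := @Bool.rec (fun _ => Nat) (Atab_15) (Atab_16) (Nat.ble 16 c)
noncomputable def Atab_s_14_17 (c : Nat) : Nat := @Bool.rec (fun _ => Nat) (Atab_14) (Atab_s_15_17 c) (Nat.ble 15 c)
noncomputable def Atab_s_11_17 (c : Nat) : Nat := @Bool.rec (fun _ => Nat) (Atab_s_11_14 c) (Atab_s_14_17 c) (Nat.ble 14 c)
noncomputable def Atab_s_18_20 (c : Nat) : Nat := @Bool.rec (fun _ => Nat) (Atab_18) (Atab_19) (Nat.ble 19 c)
noncomputable def Atab_s_17_20 (c : Nat) : Nat := @Bool.rec (fun _ => Nat) (Atab_17) (Atab_s_18_20 c) (Nat.ble 18 c)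
noncomputable def Atab_s_21_23 (c : Nat) : Nat := @Bool.rec (fun _ => Nat) (Atab_21) (Atab_22) (Nat.ble 22 c)
noncomputable def Atab_s_20_23 (c : Nat) : Nat := @Bool.rec (fun _ => Nat) (Atab_20) (Atab_s_21_23 c) (Nat.ble 21 c)
noncomputable def Atab_s_17_23 (c : Nat) : Nat := @Bool.rec (fun _ => Nat) (Atab_s_17_20 c) (Atab_s_20_23 c) (Nat.ble 20 c)
noncomputable def Atab_s_11_23 (c : Nat) : Nat := @Bool.rec (fun _ => Nat) (Atab_s_11_17 c) (Atab_s_17_23 c) (Nat.ble 17 c)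
noncomputable def Atab_s_0_23 (c : Nat) : Nat := @Bool.rec (fun _ => Nat) (Atab_s_0_11 c) (Atab_s_11_23 c) (Nat.ble 11 c)
noncomputable def Atab_s_24_26 (c : Nat) : Nat := @Bool.rec (fun _ => Nat) (Atab_24) (Atab_25) (Nat.ble 25 c)
noncomputable def Atab_s_23_26 (c : Nat) : Nat := @Bool.rec (fun _ => Nat) (Atab_23) (Atab_s_24_26 c) (Nat.ble 24 c)
noncomputable def Atab_s_27_29 (c : Nat) : Nat := @Bool.rec (fun _ => Nat) (Atab_27) (Atab_28) (Nat.ble 28 c)
noncomputable def Atab_s_26_29 (c : Nat) : Nat := @Bool.rec (fun _ => Nat) (Atab_26) (Atab_s_27_29 c) (Nat.ble 27 c)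
noncomputable def Atab_s_23_29 (c : Nat) : Nat := @Bool.rec (fun _ => Nat) (Atab_s_23_26 c) (Atab_s_26_29 c) (Nat.ble 26 c)
noncomputable def Atab_s_30_32 (c : Nat) : Nat := @Bool.rec (fun _ => Nat) (Atab_30) (Atab_31) (Nat.ble 31 c)
noncomputable def Atab_s_29_32 (c : Nat) : Nat := @Bool.rec (fun _ => Nat) (Atab_29) (Atab_s_30_32 c) (Nat.ble 30 c)
noncomputable def Atab_s_33_35 (c : Nat) : Nat := @Bool.rec (fun _ => Nat) (Atab_33) (Atab_34) (Nat.ble 34 c)
noncomputable def Atab_s_32_35 (c : Nat) : Nat := @Bool.rec (fun _ => Nat) (Atab_32) (Atab_s_33_35 c) (Nat.ble 33 c)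
noncomputable def Atab_s_29_35 (c : Nat) : Nat := @Bool.rec (fun _ => Nat) (Atab_s_29_32 c) (Atab_s_32_35 c) (Nat.ble 32 c)
noncomputable def Atab_s_23_35 (c : Nat) : Nat := @Bool.rec (fun _ => Nat) (Atab_s_23_29 c) (Atab_s_29_35 c) (Nat.ble 29 c)
noncomputable def Atab_s_36_38 (c : Nat) : Nat := @Bool.rec (fun _ => Nat) (Atab_36) (Atab_37) (Nat.ble 37 c)
noncomputable def Atab_s_35_38 (c : Nat) : Nat := @Bool.rec (fun _ => Nat) (Atab_35) (Atab_s_36_38 c) (Nat.ble 36 c)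
noncomputable def Atab_s_39_41 (c : Nat) : Nat := @Bool.rec (fun _ => Nat) (Atab_39) (Atab_40) (Nat.ble 40 c)
noncomputable def Atab_s_38_41 (c : Nat) : Nat := @Bool.rec (fun _ => Nat) (Atab_38) (Atab_s_39_41 c) (Nat.ble 39 c)
noncomputable def Atab_s_35_41 (c : Nat) : Nat := @Bool.rec (fun _ => Nat) (Atab_s_35_38 c) (Atab_s_38_41 c) (Nat.ble 38 c)
noncomputable def Atab_s_42_44 (c : Nat) : Nat := @Bool.rec (fun _ => Nat) (Atab_42) (Atab_43) (Nat.ble 43 c)
noncomputable def Atab_s_41_44 (c : Nat) : Nat := @Bool.rec (fun _ => Nat) (Atab_41) (Atab_s_42_44 c) (Nat.ble 42 c)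
noncomputable def Atab_s_45_47 (c : Nat) : Nat := @Bool.rec (fun _ => Nat) (Atab_45) (Atab_46) (Nat.ble 46 c)
noncomputable def Atab_s_44_47 (c : Nat) : Nat := @Bool.rec (fun _ => Nat) (Atab_44) (Atab_s_45_47 c) (Nat.ble 45 c)
noncomputable def Atab_s_41_47 (c : Nat) : Nat := @Bool.rec (fun _ => Nat) (Atab_s_41_44 c) (Atab_s_44_47 c) (Nat.ble 44 c)
noncomputable def Atab_s_35_47 (c : Nat) : Nat := @Bool.rec (fun _ => Nat) (Atab_s_35_41 c) (Atab_s_41_47 c) (Nat.ble 41 c)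
noncomputable def Atab_s_23_47 (c : Nat) : Nat := @Bool.rec (fun _ => Nat) (Atab_s_23_35 c) (Atab_s_35_47 c) (Nat.ble 35 c)
noncomputable def Atab_s_0_47 (c : Nat) : Nat := @Bool.rec (fun _ => Nat) (Atab_s_0_23 c) (Atab_s_23_47 c) (Nat.ble 23 c)
noncomputable def Atab_s_48_50 (c : Nat) : Nat := @Bool.rec (fun _ => Nat) (Atab_48) (Atab_49) (Nat.ble 49 c)
noncomputable def Atab_s_47_50 (c : Nat) : Nat := @Bool.rec (fun _ => Nat) (Atab_47) (Atab_s_48_50 c) (Nat.ble 48 c)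
noncomputable def Atab_s_51_53 (c : Nat) : Nat := @Bool.rec (fun _ => Nat) (Atab_51) (Atab_52) (Nat.ble 52 c)
noncomputable def Atab_s_50_53 (c : Nat) : Nat := @Bool.rec (fun _ => Nat) (Atab_50) (Atab_s_51_53 c) (Nat.ble 51 c)
noncomputable def Atab_s_47_53 (c : Nat) : Nat := @Bool.rec (fun _ => Nat) (Atab_s_47_50 c) (Atab_s_50_53 c) (Nat.ble 50 c)
noncomputable def Atab_s_54_56 (c : Nat) : Nat := @Bool.rec (fun _ => Nat) (Atab_54) (Atab_55) (Nat.ble 55 c)
noncomputable def Atab_s_53_56 (c : Nat) : Nat := @Bool.rec (fun _ => Nat) (Atab_53) (Atab_s_54_56 c) (Nat.ble 54 c)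
noncomputable def Atab_s_57_59 (c : Nat) : Nat := @Bool.rec (fun _ => Nat) (Atab_57) (Atab_58) (Nat.ble 58 c)
noncomputable def Atab_s_56_59 (c : Nat) : Nat := @Bool.rec (fun _ => Nat) (Atab_56) (Atab_s_57_59 c) (Nat.ble 57 c)
noncomputable def Atab_s_53_59 (c : Nat) : Nat := @Bool.rec (fun _ => Nat) (Atab_s_53_56 c) (Atab_s_56_59 c) (Nat.ble 56 c)
noncomputable def Atab_s_47_59 (c : Nat) : Nat := @Bool.rec (fun _ => Nat) (Atab_s_47_53 c) (Atab_s_53_59 c) (Nat.ble 53 c)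
noncomputable def Atab_s_60_62 (c : Nat) : Nat := @Bool.rec (fun _ => Nat) (Atab_60) (Atab_61) (Nat.ble 61 c)
noncomputable def Atab_s_59_62 (c : Nat) : Nat := @Bool.rec (fun _ => Nat) (Atab_59) (Atab_s_60_62 c) (Nat.ble 60 c)
noncomputable def Atab_s_63_65 (c : Nat) : Nat := @Bool.rec (fun _ => Nat) (Atab_63) (Atab_64) (Nat.ble 64 c)
noncomputable def Atab_s_62_65 (c : Nat) : Nat := @Bool.rec (fun _ => Nat) (Atab_62) (Atab_s_63_65 c) (Nat.ble 63 c)
noncomputable def Atab_s_59_65 (c : Nat) : Nat := @Bool.rec (fun _ => Nat) (Atab_s_59_62 c) (Atab_s_62_65 c) (Nat.ble 62 c)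
noncomputable def Atab_s_66_68 (c : Nat) : Nat := @Bool.rec (fun _ => Nat) (Atab_66) (Atab_67) (Nat.ble 67 c)
noncomputable def Atab_s_65_68 (c : Nat) : Nat := @Bool.rec (fun _ => Nat) (Atab_65) (Atab_s_66_68 c) (Nat.ble 66 c)
noncomputable def Atab_s_69_71 (c : Nat) : Nat := @Bool.rec (fun _ => Nat) (Atab_69) (Atab_70) (Nat.ble 70 c)
noncomputable def Atab_s_68_71 (c : Nat) : Nat := @Bool.rec (fun _ => Nat) (Atab_68) (Atab_s_69_71 c) (Nat.ble 69 c)
noncomputable def Atab_s_65_71 (c : Nat) : Nat := @Bool.rec (fun _ => Nat) (Atab_s_65_68 c) (Atab_s_68_71 c) (Nat.ble 68 c)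
noncomputable def Atab_s_59_71 (c : Nat) : Nat := @Bool.rec (fun _ => Nat) (Atab_s_59_65 c) (Atab_s_65_71 c) (Nat.ble 65 c)
noncomputable def Atab_s_47_71 (c : Nat) : Nat := @Bool.rec (fun _ => Nat) (Atab_s_47_59 c) (Atab_s_59_71 c) (Nat.ble 59 c)
noncomputable def Atab_s_72_74 (c : Nat) : Nat := @Bool.rec (fun _ => Nat) (Atab_72) (Atab_73) (Nat.ble 73 c)
noncomputable def Atab_s_71_74 (c : Nat) : Nat := @Bool.rec (fun _ => Nat) (Atab_71) (Atab_s_72_74 c) (Nat.ble 72 c)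
noncomputable def Atab_s_75_77 (c : Nat) : Nat := @Bool.rec (fun _ => Nat) (Atab_75) (Atab_76) (Nat.ble 76 c)
noncomputable def Atab_s_74_77 (c : Nat) : Nat := @Bool.rec (fun _ => Nat) (Atab_74) (Atab_s_75_77 c) (Nat.ble 75 c)
noncomputable def Atab_s_71_77 (c : Nat) : Nat := @Bool.rec (fun _ => Nat) (Atab_s_71_74 c) (Atab_s_74_77 c) (Nat.ble 74 c)
noncomputable def Atab_s_78_80 (c : Nat) : Nat := @Bool.rec (fun _ => Nat) (Atab_78) (Atab_79) (Nat.ble 79 c)
noncomputable def Atab_s_77_80 (c : Nat) : Nat := @Bool.rec (fun _ => Nat) (Atab_77) (Atab_s_78_80 c) (Nat.ble 78 c)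
noncomputable def Atab_s_81_83 (c : Nat) : Nat := @Bool.rec (fun _ => Nat) (Atab_81) (Atab_82) (Nat.ble 82 c)
noncomputable def Atab_s_80_83 (c : Nat) : Nat := @Bool.rec (fun _ => Nat) (Atab_80) (Atab_s_81_83 c) (Nat.ble 81 c)
noncomputable def Atab_s_77_83 (c : Nat) : Nat := @Bool.rec (fun _ => Nat) (Atab_s_77_80 c) (Atab_s_80_83 c) (Nat.ble 80 c)
noncomputable def Atab_s_71_83 (c : Nat) : Nat := @Bool.rec (fun _ => Nat) (Atab_s_71_77 c) (Atab_s_77_83 c) (Nat.ble 77 c)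
noncomputable def Atab_s_84_86 (c : Nat) : Nat := @Bool.rec (fun _ => Nat) (Atab_84) (Atab_85) (Nat.ble 85 c)
noncomputable def Atab_s_83_86 (c : Nat) : Nat := @Bool.rec (fun _ => Nat) (Atab_83) (Atab_s_84_86 c) (Nat.ble 84 c)
noncomputable def Atab_s_87_89 (c : Nat) : Nat := @Bool.rec (fun _ => Nat) (Atab_87) (Atab_88) (Nat.ble 88 c)
noncomputable def Atab_s_86_89 (c : Nat) : Nat := @Bool.rec (fun _ => Nat) (Atab_86) (Atab_s_87_89 c) (Nat.ble 87 c)
noncomputable def Atab_s_83_89 (c : Nat) : Nat := @Bool.rec (fun _ => Nat) (Atab_s_83_86 c) (Atab_s_86_89 c) (Nat.ble 86 c)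
noncomputable def Atab_s_90_92 (c : Nat) : Nat := @Bool.rec (fun _ => Nat) (Atab_90) (Atab_91) (Nat.ble 91 c)
noncomputable def Atab_s_89_92 (c : Nat) : Nat := @Bool.rec (fun _ => Nat) (Atab_89) (Atab_s_90_92 c) (Nat.ble 90 c)
noncomputable def Atab_s_93_95 (c : Nat) : Nat := @Bool.rec (fun _ => Nat) (Atab_93) (Atab_94) (Nat.ble 94 c)
noncomputable def Atab_s_92_95 (c : Nat) : Nat := @Bool.rec (fun _ => Nat) (Atab_92) (Atab_s_93_95 c) (Nat.ble 93 c)
noncomputable def Atab_s_89_95 (c : Nat) : Nat := @Bool.rec (fun _ => Nat) (Atab_s_89_92 c) (Atab_s_92_95 c) (Nat.ble 92 c)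
noncomputable def Atab_s_83_95 (c : Nat) : Nat := @Bool.rec (fun _ => Nat) (Atab_s_83_89 c) (Atab_s_89_95 c) (Nat.ble 89 c)
noncomputable def Atab_s_71_95 (c : Nat) : Nat := @Bool.rec (fun _ => Nat) (Atab_s_71_83 c) (Atab_s_83_95 c) (Nat.ble 83 c)
noncomputable def Atab_s_47_95 (c : Nat) : Nat := @Bool.rec (fun _ => Nat) (Atab_s_47_71 c) (Atab_s_71_95 c) (Nat.ble 71 c)
noncomputable def Atab_s_0_95 (c : Nat) : Nat := @Bool.rec (fun _ => Nat) (Atab_s_0_47 c) (Atab_s_47_95 c) (Nat.ble 47 c)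
noncomputable def Atab_s_96_98 (c : Nat) : Nat := @Bool.rec (fun _ => Nat) (Atab_96) (Atab_97) (Nat.ble 97 c)
noncomputable def Atab_s_95_98 (c : Nat) : Nat := @Bool.rec (fun _ => Nat) (Atab_95) (Atab_s_96_98 c) (Nat.ble 96 c)
noncomputable def Atab_s_99_101 (c : Nat) : Nat := @Bool.rec (fun _ => Nat) (Atab_99) (Atab_100) (Nat.ble 100 c)
noncomputable def Atab_s_98_101 (c : Nat) : Nat := @Bool.rec (fun _ => Nat) (Atab_98) (Atab_s_99_101 c) (Nat.ble 99 c)
noncomputable def Atab_s_95_101 (c : Nat) : Nat := @Bool.rec (fun _ => Nat) (Atab_s_95_98 c) (Atab_s_98_101 c) (Nat.ble 98 c)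
noncomputable def Atab_s_102_104 (c : Nat) : Nat := @Bool.rec (fun _ => Nat) (Atab_102) (Atab_103) (Nat.ble 103 c)
noncomputable def Atab_s_101_104 (c : Nat) : Nat := @Bool.rec (fun _ => Nat) (Atab_101) (Atab_s_102_104 c) (Nat.ble 102 c)
noncomputable def Atab_s_105_107 (c : Nat) : Nat := @Bool.rec (fun _ => Nat) (Atab_105) (Atab_106) (Nat.ble 106 c)
noncomputable def Atab_s_104_107 (c : Nat) : Nat := @Bool.rec (fun _ => Nat) (Atab_104) (Atab_s_105_107 c) (Nat.ble 105 c)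
noncomputable def Atab_s_101_107 (c : Nat) : Nat := @Bool.rec (fun _ => Nat) (Atab_s_101_104 c) (Atab_s_104_107 c) (Nat.ble 104 c)
noncomputable def Atab_s_95_107 (c : Nat) : Nat := @Bool.rec (fun _ => Nat) (Atab_s_95_101 c) (Atab_s_101_107 c) (Nat.ble 101 c)
noncomputable def Atab_s_108_110 (c : Nat) : Nat := @Bool.rec (fun _ => Nat) (Atab_108) (Atab_109) (Nat.ble 109 c)
noncomputable def Atab_s_107_110 (c : Nat) : Nat := @Bool.rec (fun _ => Nat) (Atab_107) (Atab_s_108_110 c) (Nat.ble 108 c)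
noncomputable def Atab_s_111_113 (c : Nat) : Nat := @Bool.rec (fun _ => Nat) (Atab_111) (Atab_112) (Nat.ble 112 c)
noncomputable def Atab_s_110_113 (c : Nat) : Nat := @Bool.rec (fun _ => Nat) (Atab_110) (Atab_s_111_113 c) (Nat.ble 111 c)
noncomputable def Atab_s_107_113 (c : Nat) : Nat := @Bool.rec (fun _ => Nat) (Atab_s_107_110 c) (Atab_s_110_113 c) (Nat.ble 110 c)
noncomputable def Atab_s_114_116 (c : Nat) : Nat := @Bool.rec (fun _ => Nat) (Atab_114) (Atab_115) (Nat.ble 115 c)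
noncomputable def Atab_s_113_116 (c : Nat) : Nat := @Bool.rec (fun _ => Nat) (Atab_113) (Atab_s_114_116 c) (Nat.ble 114 c)
noncomputable def Atab_s_117_119 (c : Nat) : Nat := @Bool.rec (fun _ => Nat) (Atab_117) (Atab_118) (Nat.ble 118 c)
noncomputable def Atab_s_116_119 (c : Nat) : Nat := @Bool.rec (fun _ => Nat) (Atab_116) (Atab_s_117_119 c) (Nat.ble 117 c)
noncomputable def Atab_s_113_119 (c : Nat) : Nat := @Bool.rec (fun _ => Nat) (Atab_s_113_116 c) (Atab_s_116_119 c) (Nat.ble 116 c)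
noncomputable def Atab_s_107_119 (c : Nat) : Nat := @Bool.rec (fun _ => Nat) (Atab_s_107_113 c) (Atab_s_113_119 c) (Nat.ble 113 c)
noncomputable def Atab_s_95_119 (c : Nat) : Nat := @Bool.rec (fun _ => Nat) (Atab_s_95_107 c) (Atab_s_107_119 c) (Nat.ble 107 c)
noncomputable def Atab_s_120_122 (c : Nat) : Nat := @Bool.rec (fun _ => Nat) (Atab_120) (Atab_121) (Nat.ble 121 c)
noncomputable def Atab_s_119_122 (c : Nat) : Nat := @Bool.rec (fun _ => Nat) (Atab_119) (Atab_s_120_122 c) (Nat.ble 120 c)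
noncomputable def Atab_s_123_125 (c : Nat) : Nat := @Bool.rec (fun _ => Nat) (Atab_123) (Atab_124) (Nat.ble 124 c)
noncomputable def Atab_s_122_125 (c : Nat) : Nat := @Bool.rec (fun _ => Nat) (Atab_122) (Atab_s_123_125 c) (Nat.ble 123 c)
noncomputable def Atab_s_119_125 (c : Nat) : Nat := @Bool.rec (fun _ => Nat) (Atab_s_119_122 c) (Atab_s_122_125 c) (Nat.ble 122 c)
noncomputable def Atab_s_126_128 (c : Nat) : Nat := @Bool.rec (fun _ => Nat) (Atab_126) (Atab_127) (Nat.ble 127 c)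
noncomputable def Atab_s_125_128 (c : Nat) : Nat := @Bool.rec (fun _ => Nat) (Atab_125) (Atab_s_126_128 c) (Nat.ble 126 c)
noncomputable def Atab_s_129_131 (c : Nat) : Nat := @Bool.rec (fun _ => Nat) (Atab_129) (Atab_130) (Nat.ble 130 c)
noncomputable def Atab_s_128_131 (c : Nat) : Nat := @Bool.rec (fun _ => Nat) (Atab_128) (Atab_s_129_131 c) (Nat.ble 129 c)
noncomputable def Atab_s_125_131 (c : Nat) : Nat := @Bool.rec (fun _ => Nat) (Atab_s_125_128 c) (Atab_s_128_131 c) (Nat.ble 128 c)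
noncomputable def Atab_s_119_131 (c : Nat) : Nat := @Bool.rec (fun _ => Nat) (Atab_s_119_125 c) (Atab_s_125_131 c) (Nat.ble 125 c)
noncomputable def Atab_s_132_134 (c : Nat) : Nat := @Bool.rec (fun _ => Nat) (Atab_132) (Atab_133) (Nat.ble 133 c)
noncomputable def Atab_s_131_134 (c : Nat) : Nat := @Bool.rec (fun _ => Nat) (Atab_131) (Atab_s_132_134 c) (Nat.ble 132 c)
noncomputable def Atab_s_135_137 (c : Nat) : Nat := @Bool.rec (fun _ => Nat) (Atab_135) (Atab_136) (Nat.ble 136 c)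
noncomputable def Atab_s_134_137 (c : Nat) : Nat := @Bool.rec (fun _ => Nat) (Atab_134) (Atab_s_135_137 c) (Nat.ble 135 c)
noncomputable def Atab_s_131_137 (c : Nat) : Nat := @Bool.rec (fun _ => Nat) (Atab_s_131_134 c) (Atab_s_134_137 c) (Nat.ble 134 c)
noncomputable def Atab_s_138_140 (c : Nat) : Nat := @Bool.rec (fun _ => Nat) (Atab_138) (Atab_139) (Nat.ble 139 c)
noncomputable def Atab_s_137_140 (c : Nat) : Nat := @Bool.rec (fun _ => Nat) (Atab_137) (Atab_s_138_140 c) (Nat.ble 138 c)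
noncomputable def Atab_s_141_143 (c : Nat) : Nat := @Bool.rec (fun _ => Nat) (Atab_141) (Atab_142) (Nat.ble 142 c)
noncomputable def Atab_s_140_143 (c : Nat) : Nat := @Bool.rec (fun _ => Nat) (Atab_140) (Atab_s_141_143 c) (Nat.ble 141 c)
noncomputable def Atab_s_137_143 (c : Nat) : Nat := @Bool.rec (fun _ => Nat) (Atab_s_137_140 c) (Atab_s_140_143 c) (Nat.ble 140 c)
noncomputable def Atab_s_131_143 (c : Nat) : Nat := @Bool.rec (fun _ => Nat) (Atab_s_131_137 c) (Atab_s_137_143 c) (Nat.ble 137 c)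
noncomputable def Atab_s_119_143 (c : Nat) : Nat := @Bool.rec (fun _ => Nat) (Atab_s_119_131 c) (Atab_s_131_143 c) (Nat.ble 131 c)
noncomputable def Atab_s_95_143 (c : Nat) : Nat := @Bool.rec (fun _ => Nat) (Atab_s_95_119 c) (Atab_s_119_143 c) (Nat.ble 119 c)
noncomputable def Atab_s_144_146 (c : Nat) : Nat := @Bool.rec (fun _ => Nat) (Atab_144) (Atab_145) (Nat.ble 145 c)
noncomputable def Atab_s_143_146 (c : Nat) : Nat := @Bool.rec (fun _ => Nat) (Atab_143) (Atab_s_144_146 c) (Nat.ble 144 c)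
noncomputable def Atab_s_147_149 (c : Nat) : Nat := @Bool.rec (fun _ => Nat) (Atab_147) (Atab_148) (Nat.ble 148 c)
noncomputable def Atab_s_146_149 (c : Nat) : Nat := @Bool.rec (fun _ => Nat) (Atab_146) (Atab_s_147_149 c) (Nat.ble 147 c)
noncomputable def Atab_s_143_149 (c : Nat) : Nat := @Bool.rec (fun _ => Nat) (Atab_s_143_146 c) (Atab_s_146_149 c) (Nat.ble 146 c)
noncomputable def Atab_s_150_152 (c : Nat) : Nat := @Bool.rec (fun _ => Nat) (Atab_150) (Atab_151) (Nat.ble 151 c)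
noncomputable def Atab_s_149_152 (c : Nat) : Nat := @Bool.rec (fun _ => Nat) (Atab_149) (Atab_s_150_152 c) (Nat.ble 150 c)
noncomputable def Atab_s_153_155 (c : Nat) : Nat := @Bool.rec (fun _ => Nat) (Atab_153) (Atab_154) (Nat.ble 154 c)
noncomputable def Atab_s_152_155 (c : Nat) : Nat := @Bool.rec (fun _ => Nat) (Atab_152) (Atab_s_153_155 c) (Nat.ble 153 c)
noncomputable def Atab_s_149_155 (c : Nat) : Nat := @Bool.rec (fun _ => Nat) (Atab_s_149_152 c) (Atab_s_152_155 c) (Nat.ble 152 c)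
noncomputable def Atab_s_143_155 (c : Nat) : Nat := @Bool.rec (fun _ => Nat) (Atab_s_143_149 c) (Atab_s_149_155 c) (Nat.ble 149 c)
noncomputable def Atab_s_156_158 (c : Nat) : Nat := @Bool.rec (fun _ => Nat) (Atab_156) (Atab_157) (Nat.ble 157 c)
noncomputable def Atab_s_155_158 (c : Nat) : Nat := @Bool.rec (fun _ => Nat) (Atab_155) (Atab_s_156_158 c) (Nat.ble 156 c)
noncomputable def Atab_s_159_161 (c : Nat) : Nat := @Bool.rec (fun _ => Nat) (Atab_159) (Atab_160) (Nat.ble 160 c)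
noncomputable def Atab_s_158_161 (c : Nat) : Nat := @Bool.rec (fun _ => Nat) (Atab_158) (Atab_s_159_161 c) (Nat.ble 159 c)
noncomputable def Atab_s_155_161 (c : Nat) : Nat := @Bool.rec (fun _ => Nat) (Atab_s_155_158 c) (Atab_s_158_161 c) (Nat.ble 158 c)
noncomputable def Atab_s_162_164 (c : Nat) : Nat := @Bool.rec (fun _ => Nat) (Atab_162) (Atab_163) (Nat.ble 163 c)
noncomputable def Atab_s_161_164 (c : Nat) : Nat := @Bool.rec (fun _ => Nat) (Atab_161) (Atab_s_162_164 c) (Nat.ble 162 c)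
noncomputable def Atab_s_165_167 (c : Nat) : Nat := @Bool.rec (fun _ => Nat) (Atab_165) (Atab_166) (Nat.ble 166 c)
noncomputable def Atab_s_164_167 (c : Nat) : Nat := @Bool.rec (fun _ => Nat) (Atab_164) (Atab_s_165_167 c) (Nat.ble 165 c)
noncomputable def Atab_s_161_167 (c : Nat) : Nat := @Bool.rec (fun _ => Nat) (Atab_s_161_164 c) (Atab_s_164_167 c) (Nat.ble 164 c)
noncomputable def Atab_s_155_167 (c : Nat) : Nat := @Bool.rec (fun _ => Nat) (Atab_s_155_161 c) (Atab_s_161_167 c) (Nat.ble 161 c)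
noncomputable def Atab_s_143_167 (c : Nat) : Nat := @Bool.rec (fun _ => Nat) (Atab_s_143_155 c) (Atab_s_155_167 c) (Nat.ble 155 c)
noncomputable def Atab_s_168_170 (c : Nat) : Nat := @Bool.rec (fun _ => Nat) (Atab_168) (Atab_169) (Nat.ble 169 c)
noncomputable def Atab_s_167_170 (c : Nat) : Nat := @Bool.rec (fun _ => Nat) (Atab_167) (Atab_s_168_170 c) (Nat.ble 168 c)
noncomputable def Atab_s_171_173 (c : Nat) : Nat := @Bool.rec (fun _ => Nat) (Atab_171) (Atab_172) (Nat.ble 172 c)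
noncomputable def Atab_s_170_173 (c : Nat) : Nat := @Bool.rec (fun _ => Nat) (Atab_170) (Atab_s_171_173 c) (Nat.ble 171 c)
noncomputable def Atab_s_167_173 (c : Nat) : Nat := @Bool.rec (fun _ => Nat) (Atab_s_167_170 c) (Atab_s_170_173 c) (Nat.ble 170 c)
noncomputable def Atab_s_174_176 (c : Nat) : Nat := @Bool.rec (fun _ => Nat) (Atab_174) (Atab_175) (Nat.ble 175 c)
noncomputable def Atab_s_173_176 (c : Nat) : Nat := @Bool.rec (fun _ => Nat) (Atab_173) (Atab_s_174_176 c) (Nat.ble 174 c)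
noncomputable def Atab_s_177_179 (c : Nat) : Nat := @Bool.rec (fun _ => Nat) (Atab_177) (Atab_178) (Nat.ble 178 c)
noncomputable def Atab_s_176_179 (c : Nat) : Nat := @Bool.rec (fun _ => Nat) (Atab_176) (Atab_s_177_179 c) (Nat.ble 177 c)
noncomputable def Atab_s_173_179 (c : Nat) : Nat := @Bool.rec (fun _ => Nat) (Atab_s_173_176 c) (Atab_s_176_179 c) (Nat.ble 176 c)
noncomputable def Atab_s_167_179 (c : Nat) : Nat := @Bool.rec (fun _ => Nat) (Atab_s_167_173 c) (Atab_s_173_179 c) (Nat.ble 173 c)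
noncomputable def Atab_s_180_182 (c : Nat) : Nat := @Bool.rec (fun _ => Nat) (Atab_180) (Atab_181) (Nat.ble 181 c)
noncomputable def Atab_s_179_182 (c : Nat) : Nat := @Bool.rec (fun _ => Nat) (Atab_179) (Atab_s_180_182 c) (Nat.ble 180 c)
noncomputable def Atab_s_183_185 (c : Nat) : Nat := @Bool.rec (fun _ => Nat) (Atab_183) (Atab_184) (Nat.ble 184 c)
noncomputable def Atab_s_182_185 (c : Nat) : Nat := @Bool.rec (fun _ => Nat) (Atab_182) (Atab_s_183_185 c) (Nat.ble 183 c)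
noncomputable def Atab_s_179_185 (c : Nat) : Nat := @Bool.rec (fun _ => Nat) (Atab_s_179_182 c) (Atab_s_182_185 c) (Nat.ble 182 c)
noncomputable def Atab_s_186_188 (c : Nat) : Nat := @Bool.rec (fun _ => Nat) (Atab_186) (Atab_187) (Nat.ble 187 c)
noncomputable def Atab_s_185_188 (c : Nat) : Nat := @Bool.rec (fun _ => Nat) (Atab_185) (Atab_s_186_188 c) (Nat.ble 186 c)
noncomputable def Atab_s_189_191 (c : Nat) : Nat := @Bool.rec (fun _ => Nat) (Atab_189) (Atab_190) (Nat.ble 190 c)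
noncomputable def Atab_s_188_191 (c : Nat) : Nat := @Bool.rec (fun _ => Nat) (Atab_188) (Atab_s_189_191 c) (Nat.ble 189 c)
noncomputable def Atab_s_185_191 (c : Nat) : Nat := @Bool.rec (fun _ => Nat) (Atab_s_185_188 c) (Atab_s_188_191 c) (Nat.ble 188 c)
noncomputable def Atab_s_179_191 (c : Nat) : Nat := @Bool.rec (fun _ => Nat) (Atab_s_179_185 c) (Atab_s_185_191 c) (Nat.ble 185 c)
noncomputable def Atab_s_167_191 (c : Nat) : Nat := @Bool.rec (fun _ => Nat) (Atab_s_167_179 c) (Atab_s_179_191 c) (Nat.ble 179 c)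
noncomputable def Atab_s_143_191 (c : Nat) : Nat := @Bool.rec (fun _ => Nat) (Atab_s_143_167 c) (Atab_s_167_191 c) (Nat.ble 167 c)
noncomputable def Atab_s_95_191 (c : Nat) : Nat := @Bool.rec (fun _ => Nat) (Atab_s_95_143 c) (Atab_s_143_191 c) (Nat.ble 143 c)
noncomputable def Atab_s_0_191 (c : Nat) : Nat := @Bool.rec (fun _ => Nat) (Atab_s_0_95 c) (Atab_s_95_191 c) (Nat.ble 95 c)
noncomputable def Atab_s_192_194 (c : Nat) : Nat := @Bool.rec (fun _ => Nat) (Atab_192) (Atab_193) (Nat.ble 193 c)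
noncomputable def Atab_s_191_194 (c : Nat) : Nat := @Bool.rec (fun _ => Nat) (Atab_191) (Atab_s_192_194 c) (Nat.ble 192 c)
noncomputable def Atab_s_195_197 (c : Nat) : Nat := @Bool.rec (fun _ => Nat) (Atab_195) (Atab_196) (Nat.ble 196 c)
noncomputable def Atab_s_194_197 (c : Nat) : Nat := @Bool.rec (fun _ => Nat) (Atab_194) (Atab_s_195_197 c) (Nat.ble 195 c)
noncomputable def Atab_s_191_197 (c : Nat) : Nat := @Bool.rec (fun _ => Nat) (Atab_s_191_194 c) (Atab_s_194_197 c) (Nat.ble 194 c)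
noncomputable def Atab_s_198_200 (c : Nat) : Nat := @Bool.rec (fun _ => Nat) (Atab_198) (Atab_199) (Nat.ble 199 c)
noncomputable def Atab_s_197_200 (c : Nat) : Nat := @Bool.rec (fun _ => Nat) (Atab_197) (Atab_s_198_200 c) (Nat.ble 198 c)
noncomputable def Atab_s_201_203 (c : Nat) : Nat := @Bool.rec (fun _ => Nat) (Atab_201) (Atab_202) (Nat.ble 202 c)
noncomputable def Atab_s_200_203 (c : Nat) : Nat := @Bool.rec (fun _ => Nat) (Atab_200) (Atab_s_201_203 c) (Nat.ble 201 c)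
noncomputable def Atab_s_197_203 (c : Nat) : Nat := @Bool.rec (fun _ => Nat) (Atab_s_197_200 c) (Atab_s_200_203 c) (Nat.ble 200 c)
noncomputable def Atab_s_191_203 (c : Nat) : Nat := @Bool.rec (fun _ => Nat) (Atab_s_191_197 c) (Atab_s_197_203 c) (Nat.ble 197 c)
noncomputable def Atab_s_204_206 (c : Nat) : Nat := @Bool.rec (fun _ => Nat) (Atab_204) (Atab_205) (Nat.ble 205 c)
noncomputable def Atab_s_203_206 (c : Nat) : Nat := @Bool.rec (fun _ => Nat) (Atab_203) (Atab_s_204_206 c) (Nat.ble 204 c)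
noncomputable def Atab_s_207_209 (c : Nat) : Nat := @Bool.rec (fun _ => Nat) (Atab_207) (Atab_208) (Nat.ble 208 c)
noncomputable def Atab_s_206_209 (c : Nat) : Nat := @Bool.rec (fun _ => Nat) (Atab_206) (Atab_s_207_209 c) (Nat.ble 207 c)
noncomputable def Atab_s_203_209 (c : Nat) : Nat := @Bool.rec (fun _ => Nat) (Atab_s_203_206 c) (Atab_s_206_209 c) (Nat.ble 206 c)
noncomputable def Atab_s_210_212 (c : Nat) : Nat := @Bool.rec (fun _ => Nat) (Atab_210) (Atab_211) (Nat.ble 211 c)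
noncomputable def Atab_s_209_212 (c : Nat) : Nat := @Bool.rec (fun _ => Nat) (Atab_209) (Atab_s_210_212 c) (Nat.ble 210 c)
noncomputable def Atab_s_213_215 (c : Nat) : Nat := @Bool.rec (fun _ => Nat) (Atab_213) (Atab_214) (Nat.ble 214 c)
noncomputable def Atab_s_212_215 (c : Nat) : Nat := @Bool.rec (fun _ => Nat) (Atab_212) (Atab_s_213_215 c) (Nat.ble 213 c)
noncomputable def Atab_s_209_215 (c : Nat) : Nat := @Bool.rec (fun _ => Nat) (Atab_s_209_212 c) (Atab_s_212_215 c) (Nat.ble 212 c)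
noncomputable def Atab_s_203_215 (c : Nat) : Nat := @Bool.rec (fun _ => Nat) (Atab_s_203_209 c) (Atab_s_209_215 c) (Nat.ble 209 c)
noncomputable def Atab_s_191_215 (c : Nat) : Nat := @Bool.rec (fun _ => Nat) (Atab_s_191_203 c) (Atab_s_203_215 c) (Nat.ble 203 c)
noncomputable def Atab_s_216_218 (c : Nat) : Nat := @Bool.rec (fun _ => Nat) (Atab_216) (Atab_217) (Nat.ble 217 c)
noncomputable def Atab_s_215_218 (c : Nat) : Nat := @Bool.rec (fun _ => Nat) (Atab_215) (Atab_s_216_218 c) (Nat.ble 216 c)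
noncomputable def Atab_s_219_221 (c : Nat) : Nat := @Bool.rec (fun _ => Nat) (Atab_219) (Atab_220) (Nat.ble 220 c)
noncomputable def Atab_s_218_221 (c : Nat) : Nat := @Bool.rec (fun _ => Nat) (Atab_218) (Atab_s_219_221 c) (Nat.ble 219 c)
noncomputable def Atab_s_215_221 (c : Nat) : Nat := @Bool.rec (fun _ => Nat) (Atab_s_215_218 c) (Atab_s_218_221 c) (Nat.ble 218 c)
noncomputable def Atab_s_222_224 (c : Nat) : Nat := @Bool.rec (fun _ => Nat) (Atab_222) (Atab_223) (Nat.ble 223 c)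
noncomputable def Atab_s_221_224 (c : Nat) : Nat := @Bool.rec (fun _ => Nat) (Atab_221) (Atab_s_222_224 c) (Nat.ble 222 c)
noncomputable def Atab_s_225_227 (c : Nat) : Nat := @Bool.rec (fun _ => Nat) (Atab_225) (Atab_226) (Nat.ble 226 c)
noncomputable def Atab_s_224_227 (c : Nat) : Nat := @Bool.rec (fun _ => Nat) (Atab_224) (Atab_s_225_227 c) (Nat.ble 225 c)
noncomputable def Atab_s_221_227 (c : Nat) : Nat := @Bool.rec (fun _ => Nat) (Atab_s_221_224 c) (Atab_s_224_227 c) (Nat.ble 224 c)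
noncomputable def Atab_s_215_227 (c : Nat) : Nat := @Bool.rec (fun _ => Nat) (Atab_s_215_221 c) (Atab_s_221_227 c) (Nat.ble 221 c)
noncomputable def Atab_s_228_230 (c : Nat) : Nat := @Bool.rec (fun _ => Nat) (Atab_228) (Atab_229) (Nat.ble 229 c)
noncomputable def Atab_s_227_230 (c : Nat) : Nat := @Bool.rec (fun _ => Nat) (Atab_227) (Atab_s_228_230 c) (Nat.ble 228 c)
noncomputable def Atab_s_231_233 (c : Nat) : Nat := @Bool.rec (fun _ => Nat) (Atab_231) (Atab_232) (Nat.ble 232 c)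
noncomputable def Atab_s_230_233 (c : Nat) : Nat := @Bool.rec (fun _ => Nat) (Atab_230) (Atab_s_231_233 c) (Nat.ble 231 c)
noncomputable def Atab_s_227_233 (c : Nat) : Nat := @Bool.rec (fun _ => Nat) (Atab_s_227_230 c) (Atab_s_230_233 c) (Nat.ble 230 c)
noncomputable def Atab_s_234_236 (c : Nat) : Nat := @Bool.rec (fun _ => Nat) (Atab_234) (Atab_235) (Nat.ble 235 c)
noncomputable def Atab_s_233_236 (c : Nat) : Nat := @Bool.rec (fun _ => Nat) (Atab_233) (Atab_s_234_236 c) (Nat.ble 234 c)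
noncomputable def Atab_s_237_239 (c : Nat) : Nat := @Bool.rec (fun _ => Nat) (Atab_237) (Atab_238) (Nat.ble 238 c)
noncomputable def Atab_s_236_239 (c : Nat) : Nat := @Bool.rec (fun _ => Nat) (Atab_236) (Atab_s_237_239 c) (Nat.ble 237 c)
noncomputable def Atab_s_233_239 (c : Nat) : Nat := @Bool.rec (fun _ => Nat) (Atab_s_233_236 c) (Atab_s_236_239 c) (Nat.ble 236 c)
noncomputable def Atab_s_227_239 (c : Nat) : Nat := @Bool.rec (fun _ => Nat) (Atab_s_227_233 c) (Atab_s_233_239 c) (Nat.ble 233 c)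
noncomputable def Atab_s_215_239 (c : Nat) : Nat := @Bool.rec (fun _ => Nat) (Atab_s_215_227 c) (Atab_s_227_239 c) (Nat.ble 227 c)
noncomputable def Atab_s_191_239 (c : Nat) : Nat := @Bool.rec (fun _ => Nat) (Atab_s_191_215 c) (Atab_s_215_239 c) (Nat.ble 215 c)
noncomputable def Atab_s_240_242 (c : Nat) : Nat := @Bool.rec (fun _ => Nat) (Atab_240) (Atab_241) (Nat.ble 241 c)
noncomputable def Atab_s_239_242 (c : Nat) : Nat := @Bool.rec (fun _ => Nat) (Atab_239) (Atab_s_240_242 c) (Nat.ble 240 c)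
noncomputable def Atab_s_243_245 (c : Nat) : Nat := @Bool.rec (fun _ => Nat) (Atab_243) (Atab_244) (Nat.ble 244 c)
noncomputable def Atab_s_242_245 (c : Nat) : Nat := @Bool.rec (fun _ => Nat) (Atab_242) (Atab_s_243_245 c) (Nat.ble 243 c)
noncomputable def Atab_s_239_245 (c : Nat) : Nat := @Bool.rec (fun _ => Nat) (Atab_s_239_242 c) (Atab_s_242_245 c) (Nat.ble 242 c)
noncomputable def Atab_s_246_248 (c : Nat) : Nat := @Bool.rec (fun _ => Nat) (Atab_246) (Atab_247) (Nat.ble 247 c)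
noncomputable def Atab_s_245_248 (c : Nat) : Nat := @Bool.rec (fun _ => Nat) (Atab_245) (Atab_s_246_248 c) (Nat.ble 246 c)
noncomputable def Atab_s_249_251 (c : Nat) : Nat := @Bool.rec (fun _ => Nat) (Atab_249) (Atab_250) (Nat.ble 250 c)
noncomputable def Atab_s_248_251 (c : Nat) : Nat := @Bool.rec (fun _ => Nat) (Atab_248) (Atab_s_249_251 c) (Nat.ble 249 c)
noncomputable def Atab_s_245_251 (c : Nat) : Nat := @Bool.rec (fun _ => Nat) (Atab_s_245_248 c) (Atab_s_248_251 c) (Nat.ble 248 c)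
noncomputable def Atab_s_239_251 (c : Nat) : Nat := @Bool.rec (fun _ => Nat) (Atab_s_239_245 c) (Atab_s_245_251 c) (Nat.ble 245 c)
noncomputable def Atab_s_252_254 (c : Nat) : Nat := @Bool.rec (fun _ => Nat) (Atab_252) (Atab_253) (Nat.ble 253 c)
noncomputable def Atab_s_251_254 (c : Nat) : Nat := @Bool.rec (fun _ => Nat) (Atab_251) (Atab_s_252_254 c) (Nat.ble 252 c)
noncomputable def Atab_s_255_257 (c : Nat) : Nat := @Bool.rec (fun _ => Nat) (Atab_255) (Atab_256) (Nat.ble 256 c)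
noncomputable def Atab_s_254_257 (c : Nat) : Nat := @Bool.rec (fun _ => Nat) (Atab_254) (Atab_s_255_257 c) (Nat.ble 255 c)
noncomputable def Atab_s_251_257 (c : Nat) : Nat := @Bool.rec (fun _ => Nat) (Atab_s_251_254 c) (Atab_s_254_257 c) (Nat.ble 254 c)
noncomputable def Atab_s_258_260 (c : Nat) : Nat := @Bool.rec (fun _ => Nat) (Atab_258) (Atab_259) (Nat.ble 259 c)
noncomputable def Atab_s_257_260 (c : Nat) : Nat := @Bool.rec (fun _ => Nat) (Atab_257) (Atab_s_258_260 c) (Nat.ble 258 c)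
noncomputable def Atab_s_261_263 (c : Nat) : Nat := @Bool.rec (fun _ => Nat) (Atab_261) (Atab_262) (Nat.ble 262 c)
noncomputable def Atab_s_260_263 (c : Nat) : Nat := @Bool.rec (fun _ => Nat) (Atab_260) (Atab_s_261_263 c) (Nat.ble 261 c)
noncomputable def Atab_s_257_263 (c : Nat) : Nat := @Bool.rec (fun _ => Nat) (Atab_s_257_260 c) (Atab_s_260_263 c) (Nat.ble 260 c)
noncomputable def Atab_s_251_263 (c : Nat) : Nat := @Bool.rec (fun _ => Nat) (Atab_s_251_257 c) (Atab_s_257_263 c) (Nat.ble 257 c)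
noncomputable def Atab_s_239_263 (c : Nat) : Nat := @Bool.rec (fun _ => Nat) (Atab_s_239_251 c) (Atab_s_251_263 c) (Nat.ble 251 c)
noncomputable def Atab_s_264_266 (c : Nat) : Nat := @Bool.rec (fun _ => Nat) (Atab_264) (Atab_265) (Nat.ble 265 c)
noncomputable def Atab_s_263_266 (c : Nat) : Nat := @Bool.rec (fun _ => Nat) (Atab_263) (Atab_s_264_266 c) (Nat.ble 264 c)
noncomputable def Atab_s_267_269 (c : Nat) : Nat := @Bool.rec (fun _ => Nat) (Atab_267) (Atab_268) (Nat.ble 268 c)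
noncomputable def Atab_s_266_269 (c : Nat) : Nat := @Bool.rec (fun _ => Nat) (Atab_266) (Atab_s_267_269 c) (Nat.ble 267 c)
noncomputable def Atab_s_263_269 (c : Nat) : Nat := @Bool.rec (fun _ => Nat) (Atab_s_263_266 c) (Atab_s_266_269 c) (Nat.ble 266 c)
noncomputable def Atab_s_270_272 (c : Nat) : Nat := @Bool.rec (fun _ => Nat) (Atab_270) (Atab_271) (Nat.ble 271 c)
noncomputable def Atab_s_269_272 (c : Nat) : Nat := @Bool.rec (fun _ => Nat) (Atab_269) (Atab_s_270_272 c) (Nat.ble 270 c)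
noncomputable def Atab_s_273_275 (c : Nat) : Nat := @Bool.rec (fun _ => Nat) (Atab_273) (Atab_274) (Nat.ble 274 c)
noncomputable def Atab_s_272_275 (c : Nat) : Nat := @Bool.rec (fun _ => Nat) (Atab_272) (Atab_s_273_275 c) (Nat.ble 273 c)
noncomputable def Atab_s_269_275 (c : Nat) : Nat := @Bool.rec (fun _ => Nat) (Atab_s_269_272 c) (Atab_s_272_275 c) (Nat.ble 272 c)
noncomputable def Atab_s_263_275 (c : Nat) : Nat := @Bool.rec (fun _ => Nat) (Atab_s_263_269 c) (Atab_s_269_275 c) (Nat.ble 269 c)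
noncomputable def Atab_s_276_278 (c : Nat) : Nat := @Bool.rec (fun _ => Nat) (Atab_276) (Atab_277) (Nat.ble 277 c)
noncomputable def Atab_s_275_278 (c : Nat) : Nat := @Bool.rec (fun _ => Nat) (Atab_275) (Atab_s_276_278 c) (Nat.ble 276 c)
noncomputable def Atab_s_279_281 (c : Nat) : Nat := @Bool.rec (fun _ => Nat) (Atab_279) (Atab_280) (Nat.ble 280 c)
noncomputable def Atab_s_278_281 (c : Nat) : Nat := @Bool.rec (fun _ => Nat) (Atab_278) (Atab_s_279_281 c) (Nat.ble 279 c)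
noncomputable def Atab_s_275_281 (c : Nat) : Nat := @Bool.rec (fun _ => Nat) (Atab_s_275_278 c) (Atab_s_278_281 c) (Nat.ble 278 c)
noncomputable def Atab_s_282_284 (c : Nat) : Nat := @Bool.rec (fun _ => Nat) (Atab_282) (Atab_283) (Nat.ble 283 c)
noncomputable def Atab_s_281_284 (c : Nat) : Nat := @Bool.rec (fun _ => Nat) (Atab_281) (Atab_s_282_284 c) (Nat.ble 282 c)
noncomputable def Atab_s_285_287 (c : Nat) : Nat := @Bool.rec (fun _ => Nat) (Atab_285) (Atab_286) (Nat.ble 286 c)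
noncomputable def Atab_s_284_287 (c : Nat) : Nat := @Bool.rec (fun _ => Nat) (Atab_284) (Atab_s_285_287 c) (Nat.ble 285 c)
noncomputable def Atab_s_281_287 (c : Nat) : Nat := @Bool.rec (fun _ => Nat) (Atab_s_281_284 c) (Atab_s_284_287 c) (Nat.ble 284 c)
noncomputable def Atab_s_275_287 (c : Nat) : Nat := @Bool.rec (fun _ => Nat) (Atab_s_275_281 c) (Atab_s_281_287 c) (Nat.ble 281 c)
noncomputable def Atab_s_263_287 (c : Nat) : Nat := @Bool.rec (fun _ => Nat) (Atab_s_263_275 c) (Atab_s_275_287 c) (Nat.ble 275 c)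
noncomputable def Atab_s_239_287 (c : Nat) : Nat := @Bool.rec (fun _ => Nat) (Atab_s_239_263 c) (Atab_s_263_287 c) (Nat.ble 263 c)
noncomputable def Atab_s_191_287 (c : Nat) : Nat := @Bool.rec (fun _ => Nat) (Atab_s_191_239 c) (Atab_s_239_287 c) (Nat.ble 239 c)
noncomputable def Atab_s_288_290 (c : Nat) : Nat := @Bool.rec (fun _ => Nat) (Atab_288) (Atab_289) (Nat.ble 289 c)
noncomputable def Atab_s_287_290 (c : Nat) : Nat := @Bool.rec (fun _ => Nat) (Atab_287) (Atab_s_288_290 c) (Nat.ble 288 c)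
noncomputable def Atab_s_291_293 (c : Nat) : Nat := @Bool.rec (fun _ => Nat) (Atab_291) (Atab_292) (Nat.ble 292 c)
noncomputable def Atab_s_290_293 (c : Nat) : Nat := @Bool.rec (fun _ => Nat) (Atab_290) (Atab_s_291_293 c) (Nat.ble 291 c)
noncomputable def Atab_s_287_293 (c : Nat) : Nat := @Bool.rec (fun _ => Nat) (Atab_s_287_290 c) (Atab_s_290_293 c) (Nat.ble 290 c)
noncomputable def Atab_s_294_296 (c : Nat) : Nat := @Bool.rec (fun _ => Nat) (Atab_294) (Atab_295) (Nat.ble 295 c)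
noncomputable def Atab_s_293_296 (c : Nat) : Nat := @Bool.rec (fun _ => Nat) (Atab_293) (Atab_s_294_296 c) (Nat.ble 294 c)
noncomputable def Atab_s_297_299 (c : Nat) : Nat := @Bool.rec (fun _ => Nat) (Atab_297) (Atab_298) (Nat.ble 298 c)
noncomputable def Atab_s_296_299 (c : Nat) : Nat := @Bool.rec (fun _ => Nat) (Atab_296) (Atab_s_297_299 c) (Nat.ble 297 c)
noncomputable def Atab_s_293_299 (c : Nat) : Nat := @Bool.rec (fun _ => Nat) (Atab_s_293_296 c) (Atab_s_296_299 c) (Nat.ble 296 c)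
noncomputable def Atab_s_287_299 (c : Nat) : Nat := @Bool.rec (fun _ => Nat) (Atab_s_287_293 c) (Atab_s_293_299 c) (Nat.ble 293 c)
noncomputable def Atab_s_300_302 (c : Nat) : Nat := @Bool.rec (fun _ => Nat) (Atab_300) (Atab_301) (Nat.ble 301 c)
noncomputable def Atab_s_299_302 (c : Nat) : Nat := @Bool.rec (fun _ => Nat) (Atab_299) (Atab_s_300_302 c) (Nat.ble 300 c)
noncomputable def Atab_s_303_305 (c : Nat) : Nat := @Bool.rec (fun _ => Nat) (Atab_303) (Atab_304) (Nat.ble 304 c)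
noncomputable def Atab_s_302_305 (c : Nat) : Nat := @Bool.rec (fun _ => Nat) (Atab_302) (Atab_s_303_305 c) (Nat.ble 303 c)
noncomputable def Atab_s_299_305 (c : Nat) : Nat := @Bool.rec (fun _ => Nat) (Atab_s_299_302 c) (Atab_s_302_305 c) (Nat.ble 302 c)
noncomputable def Atab_s_306_308 (c : Nat) : Nat := @Bool.rec (fun _ => Nat) (Atab_306) (Atab_307) (Nat.ble 307 c)
noncomputable def Atab_s_305_308 (c : Nat) : Nat := @Bool.rec (fun _ => Nat) (Atab_305) (Atab_s_306_308 c) (Nat.ble 306 c)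
noncomputable def Atab_s_309_311 (c : Nat) : Nat := @Bool.rec (fun _ => Nat) (Atab_309) (Atab_310) (Nat.ble 310 c)
noncomputable def Atab_s_308_311 (c : Nat) : Nat := @Bool.rec (fun _ => Nat) (Atab_308) (Atab_s_309_311 c) (Nat.ble 309 c)
noncomputable def Atab_s_305_311 (c : Nat) : Nat := @Bool.rec (fun _ => Nat) (Atab_s_305_308 c) (Atab_s_308_311 c) (Nat.ble 308 c)
noncomputable def Atab_s_299_311 (c : Nat) : Nat := @Bool.rec (fun _ => Nat) (Atab_s_299_305 c) (Atab_s_305_311 c) (Nat.ble 305 c)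
noncomputable def Atab_s_287_311 (c : Nat) : Nat := @Bool.rec (fun _ => Nat) (Atab_s_287_299 c) (Atab_s_299_311 c) (Nat.ble 299 c)
noncomputable def Atab_s_312_314 (c : Nat) : Nat := @Bool.rec (fun _ => Nat) (Atab_312) (Atab_313) (Nat.ble 313 c)
noncomputable def Atab_s_311_314 (c : Nat) : Nat := @Bool.rec (fun _ => Nat) (Atab_311) (Atab_s_312_314 c) (Nat.ble 312 c)
noncomputable def Atab_s_315_317 (c : Nat) : Nat := @Bool.rec (fun _ => Nat) (Atab_315) (Atab_316) (Nat.ble 316 c)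
noncomputable def Atab_s_314_317 (c : Nat) : Nat := @Bool.rec (fun _ => Nat) (Atab_314) (Atab_s_315_317 c) (Nat.ble 315 c)
noncomputable def Atab_s_311_317 (c : Nat) : Nat := @Bool.rec (fun _ => Nat) (Atab_s_311_314 c) (Atab_s_314_317 c) (Nat.ble 314 c)
noncomputable def Atab_s_318_320 (c : Nat) : Nat := @Bool.rec (fun _ => Nat) (Atab_318) (Atab_319) (Nat.ble 319 c)
noncomputable def Atab_s_317_320 (c : Nat) : Nat := @Bool.rec (fun _ => Nat) (Atab_317) (Atab_s_318_320 c) (Nat.ble 318 c)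
noncomputable def Atab_s_321_323 (c : Nat) : Nat := @Bool.rec (fun _ => Nat) (Atab_321) (Atab_322) (Nat.ble 322 c)
noncomputable def Atab_s_320_323 (c : Nat) : Nat := @Bool.rec (fun _ => Nat) (Atab_320) (Atab_s_321_323 c) (Nat.ble 321 c)
noncomputable def Atab_s_317_323 (c : Nat) : Nat := @Bool.rec (fun _ => Nat) (Atab_s_317_320 c) (Atab_s_320_323 c) (Nat.ble 320 c)
noncomputable def Atab_s_311_323 (c : Nat) : Nat := @Bool.rec (fun _ => Nat) (Atab_s_311_317 c) (Atab_s_317_323 c) (Nat.ble 317 c)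
noncomputable def Atab_s_324_326 (c : Nat) : Nat := @Bool.rec (fun _ => Nat) (Atab_324) (Atab_325) (Nat.ble 325 c)
noncomputable def Atab_s_323_326 (c : Nat) : Nat := @Bool.rec (fun _ => Nat) (Atab_323) (Atab_s_324_326 c) (Nat.ble 324 c)
noncomputable def Atab_s_327_329 (c : Nat) : Nat := @Bool.rec (fun _ => Nat) (Atab_327) (Atab_328) (Nat.ble 328 c)
noncomputable def Atab_s_326_329 (c : Nat) : Nat := @Bool.rec (fun _ => Nat) (Atab_326) (Atab_s_327_329 c) (Nat.ble 327 c)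
noncomputable def Atab_s_323_329 (c : Nat) : Nat := @Bool.rec (fun _ => Nat) (Atab_s_323_326 c) (Atab_s_326_329 c) (Nat.ble 326 c)
noncomputable def Atab_s_330_332 (c : Nat) : Nat := @Bool.rec (fun _ => Nat) (Atab_330) (Atab_331) (Nat.ble 331 c)
noncomputable def Atab_s_329_332 (c : Nat) : Nat := @Bool.rec (fun _ => Nat) (Atab_329) (Atab_s_330_332 c) (Nat.ble 330 c)
noncomputable def Atab_s_333_335 (c : Nat) : Nat := @Bool.rec (fun _ => Nat) (Atab_333) (Atab_334) (Nat.ble 334 c)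
noncomputable def Atab_s_332_335 (c : Nat) : Nat := @Bool.rec (fun _ => Nat) (Atab_332) (Atab_s_333_335 c) (Nat.ble 333 c)
noncomputable def Atab_s_329_335 (c : Nat) : Nat := @Bool.rec (fun _ => Nat) (Atab_s_329_332 c) (Atab_s_332_335 c) (Nat.ble 332 c)
noncomputable def Atab_s_323_335 (c : Nat) : Nat := @Bool.rec (fun _ => Nat) (Atab_s_323_329 c) (Atab_s_329_335 c) (Nat.ble 329 c)
noncomputable def Atab_s_311_335 (c : Nat) : Nat := @Bool.rec (fun _ => Nat) (Atab_s_311_323 c) (Atab_s_323_335 c) (Nat.ble 323 c)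
noncomputable def Atab_s_287_335 (c : Nat) : Nat := @Bool.rec (fun _ => Nat) (Atab_s_287_311 c) (Atab_s_311_335 c) (Nat.ble 311 c)
noncomputable def Atab_s_336_338 (c : Nat) : Nat := @Bool.rec (fun _ => Nat) (Atab_336) (Atab_337) (Nat.ble 337 c)
noncomputable def Atab_s_335_338 (c : Nat) : Nat := @Bool.rec (fun _ => Nat) (Atab_335) (Atab_s_336_338 c) (Nat.ble 336 c)
noncomputable def Atab_s_339_341 (c : Nat) : Nat := @Bool.rec (fun _ => Nat) (Atab_339) (Atab_340) (Nat.ble 340 c)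
noncomputable def Atab_s_338_341 (c : Nat) : Nat := @Bool.rec (fun _ => Nat) (Atab_338) (Atab_s_339_341 c) (Nat.ble 339 c)
noncomputable def Atab_s_335_341 (c : Nat) : Nat := @Bool.rec (fun _ => Nat) (Atab_s_335_338 c) (Atab_s_338_341 c) (Nat.ble 338 c)
noncomputable def Atab_s_342_344 (c : Nat) : Nat := @Bool.rec (fun _ => Nat) (Atab_342) (Atab_343) (Nat.ble 343 c)
noncomputable def Atab_s_341_344 (c : Nat) : Nat := @Bool.rec (fun _ => Nat) (Atab_341) (Atab_s_342_344 c) (Nat.ble 342 c)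
noncomputable def Atab_s_345_347 (c : Nat) : Nat := @Bool.rec (fun _ => Nat) (Atab_345) (Atab_346) (Nat.ble 346 c)
noncomputable def Atab_s_344_347 (c : Nat) : Nat := @Bool.rec (fun _ => Nat) (Atab_344) (Atab_s_345_347 c) (Nat.ble 345 c)
noncomputable def Atab_s_341_347 (c : Nat) : Nat := @Bool.rec (fun _ => Nat) (Atab_s_341_344 c) (Atab_s_344_347 c) (Nat.ble 344 c)
noncomputable def Atab_s_335_347 (c : Nat) : Nat := @Bool.rec (fun _ => Nat) (Atab_s_335_341 c) (Atab_s_341_347 c) (Nat.ble 341 c)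
noncomputable def Atab_s_348_350 (c : Nat) : Nat := @Bool.rec (fun _ => Nat) (Atab_348) (Atab_349) (Nat.ble 349 c)
noncomputable def Atab_s_347_350 (c : Nat) : Nat := @Bool.rec (fun _ => Nat) (Atab_347) (Atab_s_348_350 c) (Nat.ble 348 c)
noncomputable def Atab_s_351_353 (c : Nat) : Nat := @Bool.rec (fun _ => Nat) (Atab_351) (Atab_352) (Nat.ble 352 c)
noncomputable def Atab_s_350_353 (c : Nat) : Nat := @Bool.rec (fun _ => Nat) (Atab_350) (Atab_s_351_353 c) (Nat.ble 351 c)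
noncomputable def Atab_s_347_353 (c : Nat) : Nat := @Bool.rec (fun _ => Nat) (Atab_s_347_350 c) (Atab_s_350_353 c) (Nat.ble 350 c)
noncomputable def Atab_s_354_356 (c : Nat) : Nat := @Bool.rec (fun _ => Nat) (Atab_354) (Atab_355) (Nat.ble 355 c)
noncomputable def Atab_s_353_356 (c : Nat) : Nat := @Bool.rec (fun _ => Nat) (Atab_353) (Atab_s_354_356 c) (Nat.ble 354 c)
noncomputable def Atab_s_357_359 (c : Nat) : Nat := @Bool.rec (fun _ => Nat) (Atab_357) (Atab_358) (Nat.ble 358 c)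
noncomputable def Atab_s_356_359 (c : Nat) : Nat := @Bool.rec (fun _ => Nat) (Atab_356) (Atab_s_357_359 c) (Nat.ble 357 c)
noncomputable def Atab_s_353_359 (c : Nat) : Nat := @Bool.rec (fun _ => Nat) (Atab_s_353_356 c) (Atab_s_356_359 c) (Nat.ble 356 c)
noncomputable def Atab_s_347_359 (c : Nat) : Nat := @Bool.rec (fun _ => Nat) (Atab_s_347_353 c) (Atab_s_353_359 c) (Nat.ble 353 c)
noncomputable def Atab_s_335_359 (c : Nat) : Nat := @Bool.rec (fun _ => Nat) (Atab_s_335_347 c) (Atab_s_347_359 c) (Nat.ble 347 c)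
noncomputable def Atab_s_360_362 (c : Nat) : Nat := @Bool.rec (fun _ => Nat) (Atab_360) (Atab_361) (Nat.ble 361 c)
noncomputable def Atab_s_359_362 (c : Nat) : Nat := @Bool.rec (fun _ => Nat) (Atab_359) (Atab_s_360_362 c) (Nat.ble 360 c)
noncomputable def Atab_s_363_365 (c : Nat) : Nat := @Bool.rec (fun _ => Nat) (Atab_363) (Atab_364) (Nat.ble 364 c)
noncomputable def Atab_s_362_365 (c : Nat) : Nat := @Bool.rec (fun _ => Nat) (Atab_362) (Atab_s_363_365 c) (Nat.ble 363 c)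
noncomputable def Atab_s_359_365 (c : Nat) : Nat := @Bool.rec (fun _ => Nat) (Atab_s_359_362 c) (Atab_s_362_365 c) (Nat.ble 362 c)
noncomputable def Atab_s_366_368 (c : Nat) : Nat := @Bool.rec (fun _ => Nat) (Atab_366) (Atab_367) (Nat.ble 367 c)
noncomputable def Atab_s_365_368 (c : Nat) : Nat := @Bool.rec (fun _ => Nat) (Atab_365) (Atab_s_366_368 c) (Nat.ble 366 c)
noncomputable def Atab_s_369_371 (c : Nat) : Nat := @Bool.rec (fun _ => Nat) (Atab_369) (Atab_370) (Nat.ble 370 c)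
noncomputable def Atab_s_368_371 (c : Nat) : Nat := @Bool.rec (fun _ => Nat) (Atab_368) (Atab_s_369_371 c) (Nat.ble 369 c)
noncomputable def Atab_s_365_371 (c : Nat) : Nat := @Bool.rec (fun _ => Nat) (Atab_s_365_368 c) (Atab_s_368_371 c) (Nat.ble 368 c)
noncomputable def Atab_s_359_371 (c : Nat) : Nat := @Bool.rec (fun _ => Nat) (Atab_s_359_365 c) (Atab_s_365_371 c) (Nat.ble 365 c)
noncomputable def Atab_s_372_374 (c : Nat) : Nat := @Bool.rec (fun _ => Nat) (Atab_372) (Atab_373) (Nat.ble 373 c)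
noncomputable def Atab_s_371_374 (c : Nat) : Nat := @Bool.rec (fun _ => Nat) (Atab_371) (Atab_s_372_374 c) (Nat.ble 372 c)
noncomputable def Atab_s_375_377 (c : Nat) : Nat := @Bool.rec (fun _ => Nat) (Atab_375) (Atab_376) (Nat.ble 376 c)
noncomputable def Atab_s_374_377 (c : Nat) : Nat := @Bool.rec (fun _ => Nat) (Atab_374) (Atab_s_375_377 c) (Nat.ble 375 c)
noncomputable def Atab_s_371_377 (c : Nat) : Nat := @Bool.rec (fun _ => Nat) (Atab_s_371_374 c) (Atab_s_374_377 c) (Nat.ble 374 c)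
noncomputable def Atab_s_378_380 (c : Nat) : Nat := @Bool.rec (fun _ => Nat) (Atab_378) (Atab_379) (Nat.ble 379 c)
noncomputable def Atab_s_377_380 (c : Nat) : Nat := @Bool.rec (fun _ => Nat) (Atab_377) (Atab_s_378_380 c) (Nat.ble 378 c)
noncomputable def Atab_s_381_383 (c : Nat) : Nat := @Bool.rec (fun _ => Nat) (Atab_381) (Atab_382) (Nat.ble 382 c)
noncomputable def Atab_s_380_383 (c : Nat) : Nat := @Bool.rec (fun _ => Nat) (Atab_380) (Atab_s_381_383 c) (Nat.ble 381 c)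
noncomputable def Atab_s_377_383 (c : Nat) : Nat := @Bool.rec (fun _ => Nat) (Atab_s_377_380 c) (Atab_s_380_383 c) (Nat.ble 380 c)
noncomputable def Atab_s_371_383 (c : Nat) : Nat := @Bool.rec (fun _ => Nat) (Atab_s_371_377 c) (Atab_s_377_383 c) (Nat.ble 377 c)
noncomputable def Atab_s_359_383 (c : Nat) : Nat := @Bool.rec (fun _ => Nat) (Atab_s_359_371 c) (Atab_s_371_383 c) (Nat.ble 371 c)
noncomputable def Atab_s_335_383 (c : Nat) : Nat := @Bool.rec (fun _ => Nat) (Atab_s_335_359 c) (Atab_s_359_383 c) (Nat.ble 359 c)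
noncomputable def Atab_s_287_383 (c : Nat) : Nat := @Bool.rec (fun _ => Nat) (Atab_s_287_335 c) (Atab_s_335_383 c) (Nat.ble 335 c)
noncomputable def Atab_s_191_383 (c : Nat) : Nat := @Bool.rec (fun _ => Nat) (Atab_s_191_287 c) (Atab_s_287_383 c) (Nat.ble 287 c)
noncomputable def Atab_s_0_383 (c : Nat) : Nat := @Bool.rec (fun _ => Nat) (Atab_s_0_191 c) (Atab_s_191_383 c) (Nat.ble 191 c)
noncomputable def Atab (i : Nat) : Nat := rdw 41 2199023255551 (Atab_s_0_383 (Nat.shiftRight i 11)) (Nat.land i 2047)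
noncomputable def Btab_s_0_2 (c : Nat) : Nat := @Bool.rec (fun _ => Nat) (Btab_0) (Btab_1) (Nat.ble 1 c)
noncomputable def Btab_s_2_4 (c : Nat) : Nat := @Bool.rec (fun _ => Nat) (Btab_2) (Btab_3) (Nat.ble 3 c)
noncomputable def Btab_s_0_4 (c : Nat) : Nat := @Bool.rec (fun _ => Nat) (Btab_s_0_2 c) (Btab_s_2_4 c) (Nat.ble 2 c)
noncomputable def Btab_s_4_6 (c : Nat) : Nat := @Bool.rec (fun _ => Nat) (Btab_4) (Btab_5) (Nat.ble 5 c)
noncomputable def Btab_s_7_9 (c : Nat) : Nat := @Bool.rec (fun _ => Nat) (Btab_7) (Btab_8) (Nat.ble 8 c)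
noncomputable def Btab_s_6_9 (c : Nat) : Nat := @Bool.rec (fun _ => Nat) (Btab_6) (Btab_s_7_9 c) (Nat.ble 7 c)
noncomputable def Btab_s_4_9 (c : Nat) : Nat := @Bool.rec (fun _ => Nat) (Btab_s_4_6 c) (Btab_s_6_9 c) (Nat.ble 6 c)
noncomputable def Btab_s_0_9 (c : Nat) : Nat := @Bool.rec (fun _ => Nat) (Btab_s_0_4 c) (Btab_s_4_9 c) (Nat.ble 4 c)
noncomputable def Btab_s_9_11 (c : Nat) : Nat := @Bool.rec (fun _ => Nat) (Btab_9) (Btab_10) (Nat.ble 10 c)
noncomputable def Btab_s_11_13 (c : Nat) : Nat := @Bool.rec (fun _ => Nat) (Btab_11) (Btab_12) (Nat.ble 12 c)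
noncomputable def Btab_s_9_13 (c : Nat) : Nat := @Bool.rec (fun _ => Nat) (Btab_s_9_11 c) (Btab_s_11_13 c) (Nat.ble 11 c)
noncomputable def Btab_s_13_15 (c : Nat) : Nat := @Bool.rec (fun _ => Nat) (Btab_13) (Btab_14) (Nat.ble 14 c)
noncomputable def Btab_s_16_18 (c : Nat) : Nat := @Bool.rec (fun _ => Nat) (Btab_16) (Btab_17) (Nat.ble 17 c)
noncomputable def Btab_s_15_18 (c : Nat) : Nat := @Bool.rec (fun _ => Nat) (Btab_15) (Btab_s_16_18 c) (Nat.ble 16 c)
noncomputable def Btab_s_13_18 (c : Nat) : Nat := @Bool.rec (fun _ => Nat) (Btab_s_13_15 c) (Btab_s_15_18 c) (Nat.ble 15 c)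
noncomputable def Btab_s_9_18 (c : Nat) : Nat := @Bool.rec (fun _ => Nat) (Btab_s_9_13 c) (Btab_s_13_18 c) (Nat.ble 13 c)
noncomputable def Btab_s_0_18 (c : Nat) : Nat := @Bool.rec (fun _ => Nat) (Btab_s_0_9 c) (Btab_s_9_18 c) (Nat.ble 9 c)
noncomputable def Btab_s_18_20 (c : Nat) : Nat := @Bool.rec (fun _ => Nat) (Btab_18) (Btab_19) (Nat.ble 19 c)
noncomputable def Btab_s_20_22 (c : Nat) : Nat := @Bool.rec (fun _ => Nat) (Btab_20) (Btab_21) (Nat.ble 21 c)
noncomputable def Btab_s_18_22 (c : Nat) : Nat := @Bool.rec (fun _ => Nat) (Btab_s_18_20 c) (Btab_s_20_22 c) (Nat.ble 20 c)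
noncomputable def Btab_s_22_24 (c : Nat) : Nat := @Bool.rec (fun _ => Nat) (Btab_22) (Btab_23) (Nat.ble 23 c)
noncomputable def Btab_s_25_27 (c : Nat) : Nat := @Bool.rec (fun _ => Nat) (Btab_25) (Btab_26) (Nat.ble 26 c)
noncomputable def Btab_s_24_27 (c : Nat) : Nat := @Bool.rec (fun _ => Nat) (Btab_24) (Btab_s_25_27 c) (Nat.ble 25 c)
noncomputable def Btab_s_22_27 (c : Nat) : Nat := @Bool.rec (fun _ => Nat) (Btab_s_22_24 c) (Btab_s_24_27 c) (Nat.ble 24 c)
noncomputable def Btab_s_18_27 (c : Nat) : Nat := @Bool.rec (fun _ => Nat) (Btab_s_18_22 c) (Btab_s_22_27 c) (Nat.ble 22 c)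
noncomputable def Btab_s_27_29 (c : Nat) : Nat := @Bool.rec (fun _ => Nat) (Btab_27) (Btab_28) (Nat.ble 28 c)
noncomputable def Btab_s_29_31 (c : Nat) : Nat := @Bool.rec (fun _ => Nat) (Btab_29) (Btab_30) (Nat.ble 30 c)
noncomputable def Btab_s_27_31 (c : Nat) : Nat := @Bool.rec (fun _ => Nat) (Btab_s_27_29 c) (Btab_s_29_31 c) (Nat.ble 29 c)
noncomputable def Btab_s_31_33 (c : Nat) : Nat := @Bool.rec (fun _ => Nat) (Btab_31) (Btab_32) (Nat.ble 32 c)
noncomputable def Btab_s_34_36 (c : Nat) : Nat := @Bool.rec (fun _ => Nat) (Btab_34) (Btab_35) (Nat.ble 35 c)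
noncomputable def Btab_s_33_36 (c : Nat) : Nat := @Bool.rec (fun _ => Nat) (Btab_33) (Btab_s_34_36 c) (Nat.ble 34 c)
noncomputable def Btab_s_31_36 (c : Nat) : Nat := @Bool.rec (fun _ => Nat) (Btab_s_31_33 c) (Btab_s_33_36 c) (Nat.ble 33 c)
noncomputable def Btab_s_27_36 (c : Nat) : Nat := @Bool.rec (fun _ => Nat) (Btab_s_27_31 c) (Btab_s_31_36 c) (Nat.ble 31 c)
noncomputable def Btab_s_18_36 (c : Nat) : Nat := @Bool.rec (fun _ => Nat) (Btab_s_18_27 c) (Btab_s_27_36 c) (Nat.ble 27 c)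
noncomputable def Btab_s_0_36 (c : Nat) : Nat := @Bool.rec (fun _ => Nat) (Btab_s_0_18 c) (Btab_s_18_36 c) (Nat.ble 18 c)
noncomputable def Btab_s_36_38 (c : Nat) : Nat := @Bool.rec (fun _ => Nat) (Btab_36) (Btab_37) (Nat.ble 37 c)
noncomputable def Btab_s_38_40 (c : Nat) : Nat := @Bool.rec (fun _ => Nat) (Btab_38) (Btab_39) (Nat.ble 39 c)
noncomputable def Btab_s_36_40 (c : Nat) : Nat := @Bool.rec (fun _ => Nat) (Btab_s_36_38 c) (Btab_s_38_40 c) (Nat.ble 38 c)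
noncomputable def Btab_s_40_42 (c : Nat) : Nat := @Bool.rec (fun _ => Nat) (Btab_40) (Btab_41) (Nat.ble 41 c)
noncomputable def Btab_s_43_45 (c : Nat) : Nat := @Bool.rec (fun _ => Nat) (Btab_43) (Btab_44) (Nat.ble 44 c)
noncomputable def Btab_s_42_45 (c : Nat) : Nat := @Bool.rec (fun _ => Nat) (Btab_42) (Btab_s_43_45 c) (Nat.ble 43 c)
noncomputable def Btab_s_40_45 (c : Nat) : Nat := @Bool.rec (fun _ => Nat) (Btab_s_40_42 c) (Btab_s_42_45 c) (Nat.ble 42 c)
noncomputable def Btab_s_36_45 (c : Nat) : Nat := @Bool.rec (fun _ => Nat) (Btab_s_36_40 c) (Btab_s_40_45 c) (Nat.ble 40 c)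
noncomputable def Btab_s_45_47 (c : Nat) : Nat := @Bool.rec (fun _ => Nat) (Btab_45) (Btab_46) (Nat.ble 46 c)
noncomputable def Btab_s_47_49 (c : Nat) : Nat := @Bool.rec (fun _ => Nat) (Btab_47) (Btab_48) (Nat.ble 48 c)
noncomputable def Btab_s_45_49 (c : Nat) : Nat := @Bool.rec (fun _ => Nat) (Btab_s_45_47 c) (Btab_s_47_49 c) (Nat.ble 47 c)
noncomputable def Btab_s_49_51 (c : Nat) : Nat := @Bool.rec (fun _ => Nat) (Btab_49) (Btab_50) (Nat.ble 50 c)
noncomputable def Btab_s_52_54 (c : Nat) : Nat := @Bool.rec (fun _ => Nat) (Btab_52) (Btab_53) (Nat.ble 53 c)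
noncomputable def Btab_s_51_54 (c : Nat) : Nat := @Bool.rec (fun _ => Nat) (Btab_51) (Btab_s_52_54 c) (Nat.ble 52 c)
noncomputable def Btab_s_49_54 (c : Nat) : Nat := @Bool.rec (fun _ => Nat) (Btab_s_49_51 c) (Btab_s_51_54 c) (Nat.ble 51 c)
noncomputable def Btab_s_45_54 (c : Nat) : Nat := @Bool.rec (fun _ => Nat) (Btab_s_45_49 c) (Btab_s_49_54 c) (Nat.ble 49 c)
noncomputable def Btab_s_36_54 (c : Nat) : Nat := @Bool.rec (fun _ => Nat) (Btab_s_36_45 c) (Btab_s_45_54 c) (Nat.ble 45 c)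
noncomputable def Btab_s_54_56 (c : Nat) : Nat := @Bool.rec (fun _ => Nat) (Btab_54) (Btab_55) (Nat.ble 55 c)
noncomputable def Btab_s_56_58 (c : Nat) : Nat := @Bool.rec (fun _ => Nat) (Btab_56) (Btab_57) (Nat.ble 57 c)
noncomputable def Btab_s_54_58 (c : Nat) : Nat := @Bool.rec (fun _ => Nat) (Btab_s_54_56 c) (Btab_s_56_58 c) (Nat.ble 56 c)
noncomputable def Btab_s_58_60 (c : Nat) : Nat := @Bool.rec (fun _ => Nat) (Btab_58) (Btab_59) (Nat.ble 59 c)
noncomputable def Btab_s_61_63 (c : Nat) : Nat := @Bool.rec (fun _ => Nat) (Btab_61) (Btab_62) (Nat.ble 62 c)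
noncomputable def Btab_s_60_63 (c : Nat) : Nat := @Bool.rec (fun _ => Nat) (Btab_60) (Btab_s_61_63 c) (Nat.ble 61 c)
noncomputable def Btab_s_58_63 (c : Nat) : Nat := @Bool.rec (fun _ => Nat) (Btab_s_58_60 c) (Btab_s_60_63 c) (Nat.ble 60 c)
noncomputable def Btab_s_54_63 (c : Nat) : Nat := @Bool.rec (fun _ => Nat) (Btab_s_54_58 c) (Btab_s_58_63 c) (Nat.ble 58 c)
noncomputable def Btab_s_63_65 (c : Nat) : Nat := @Bool.rec (fun _ => Nat) (Btab_63) (Btab_64) (Nat.ble 64 c)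
noncomputable def Btab_s_65_67 (c : Nat) : Nat := @Bool.rec (fun _ => Nat) (Btab_65) (Btab_66) (Nat.ble 66 c)
noncomputable def Btab_s_63_67 (c : Nat) : Nat := @Bool.rec (fun _ => Nat) (Btab_s_63_65 c) (Btab_s_65_67 c) (Nat.ble 65 c)
noncomputable def Btab_s_67_69 (c : Nat) : Nat := @Bool.rec (fun _ => Nat) (Btab_67) (Btab_68) (Nat.ble 68 c)
noncomputable def Btab_s_70_72 (c : Nat) : Nat := @Bool.rec (fun _ => Nat) (Btab_70) (Btab_71) (Nat.ble 71 c)
noncomputable def Btab_s_69_72 (c : Nat) : Nat := @Bool.rec (fun _ => Nat) (Btab_69) (Btab_s_70_72 c) (Nat.ble 70 c)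
noncomputable def Btab_s_67_72 (c : Nat) : Nat := @Bool.rec (fun _ => Nat) (Btab_s_67_69 c) (Btab_s_69_72 c) (Nat.ble 69 c)
noncomputable def Btab_s_63_72 (c : Nat) : Nat := @Bool.rec (fun _ => Nat) (Btab_s_63_67 c) (Btab_s_67_72 c) (Nat.ble 67 c)
noncomputable def Btab_s_54_72 (c : Nat) : Nat := @Bool.rec (fun _ => Nat) (Btab_s_54_63 c) (Btab_s_63_72 c) (Nat.ble 63 c)
noncomputable def Btab_s_36_72 (c : Nat) : Nat := @Bool.rec (fun _ => Nat) (Btab_s_36_54 c) (Btab_s_54_72 c) (Nat.ble 54 c)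
noncomputable def Btab_s_0_72 (c : Nat) : Nat := @Bool.rec (fun _ => Nat) (Btab_s_0_36 c) (Btab_s_36_72 c) (Nat.ble 36 c)
noncomputable def Btab_s_72_74 (c : Nat) : Nat := @Bool.rec (fun _ => Nat) (Btab_72) (Btab_73) (Nat.ble 73 c)
noncomputable def Btab_s_74_76 (c : Nat) : Nat := @Bool.rec (fun _ => Nat) (Btab_74) (Btab_75) (Nat.ble 75 c)
noncomputable def Btab_s_72_76 (c : Nat) : Nat := @Bool.rec (fun _ => Nat) (Btab_s_72_74 c) (Btab_s_74_76 c) (Nat.ble 74 c)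
noncomputable def Btab_s_76_78 (c : Nat) : Nat := @Bool.rec (fun _ => Nat) (Btab_76) (Btab_77) (Nat.ble 77 c)
noncomputable def Btab_s_79_81 (c : Nat) : Nat := @Bool.rec (fun _ => Nat) (Btab_79) (Btab_80) (Nat.ble 80 c)
noncomputable def Btab_s_78_81 (c : Nat) : Nat := @Bool.rec (fun _ => Nat) (Btab_78) (Btab_s_79_81 c) (Nat.ble 79 c)
noncomputable def Btab_s_76_81 (c : Nat) : Nat := @Bool.rec (fun _ => Nat) (Btab_s_76_78 c) (Btab_s_78_81 c) (Nat.ble 78 c)
noncomputable def Btab_s_72_81 (c : Nat) : Nat := @Bool.rec (fun _ => Nat) (Btab_s_72_76 c) (Btab_s_76_81 c) (Nat.ble 76 c)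
noncomputable def Btab_s_81_83 (c : Nat) : Nat := @Bool.rec (fun _ => Nat) (Btab_81) (Btab_82) (Nat.ble 82 c)
noncomputable def Btab_s_83_85 (c : Nat) : Nat := @Bool.rec (fun _ => Nat) (Btab_83) (Btab_84) (Nat.ble 84 c)
noncomputable def Btab_s_81_85 (c : Nat) : Nat := @Bool.rec (fun _ => Nat) (Btab_s_81_83 c) (Btab_s_83_85 c) (Nat.ble 83 c)
noncomputable def Btab_s_85_87 (c : Nat) : Nat := @Bool.rec (fun _ => Nat) (Btab_85) (Btab_86) (Nat.ble 86 c)
noncomputable def Btab_s_88_90 (c : Nat) : Nat := @Bool.rec (fun _ => Nat) (Btab_88) (Btab_89) (Nat.ble 89 c)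
noncomputable def Btab_s_87_90 (c : Nat) : Nat := @Bool.rec (fun _ => Nat) (Btab_87) (Btab_s_88_90 c) (Nat.ble 88 c)
noncomputable def Btab_s_85_90 (c : Nat) : Nat := @Bool.rec (fun _ => Nat) (Btab_s_85_87 c) (Btab_s_87_90 c) (Nat.ble 87 c)
noncomputable def Btab_s_81_90 (c : Nat) : Nat := @Bool.rec (fun _ => Nat) (Btab_s_81_85 c) (Btab_s_85_90 c) (Nat.ble 85 c)
noncomputable def Btab_s_72_90 (c : Nat) : Nat := @Bool.rec (fun _ => Nat) (Btab_s_72_81 c) (Btab_s_81_90 c) (Nat.ble 81 c)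
noncomputable def Btab_s_90_92 (c : Nat) : Nat := @Bool.rec (fun _ => Nat) (Btab_90) (Btab_91) (Nat.ble 91 c)
noncomputable def Btab_s_92_94 (c : Nat) : Nat := @Bool.rec (fun _ => Nat) (Btab_92) (Btab_93) (Nat.ble 93 c)
noncomputable def Btab_s_90_94 (c : Nat) : Nat := @Bool.rec (fun _ => Nat) (Btab_s_90_92 c) (Btab_s_92_94 c) (Nat.ble 92 c)
noncomputable def Btab_s_94_96 (c : Nat) : Nat := @Bool.rec (fun _ => Nat) (Btab_94) (Btab_95) (Nat.ble 95 c)
noncomputable def Btab_s_97_99 (c : Nat) : Nat := @Bool.rec (fun _ => Nat) (Btab_97) (Btab_98) (Nat.ble 98 c)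
noncomputable def Btab_s_96_99 (c : Nat) : Nat := @Bool.rec (fun _ => Nat) (Btab_96) (Btab_s_97_99 c) (Nat.ble 97 c)
noncomputable def Btab_s_94_99 (c : Nat) : Nat := @Bool.rec (fun _ => Nat) (Btab_s_94_96 c) (Btab_s_96_99 c) (Nat.ble 96 c)
noncomputable def Btab_s_90_99 (c : Nat) : Nat := @Bool.rec (fun _ => Nat) (Btab_s_90_94 c) (Btab_s_94_99 c) (Nat.ble 94 c)
noncomputable def Btab_s_99_101 (c : Nat) : Nat := @Bool.rec (fun _ => Nat) (Btab_99) (Btab_100) (Nat.ble 100 c)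
noncomputable def Btab_s_101_103 (c : Nat) : Nat := @Bool.rec (fun _ => Nat) (Btab_101) (Btab_102) (Nat.ble 102 c)
noncomputable def Btab_s_99_103 (c : Nat) : Nat := @Bool.rec (fun _ => Nat) (Btab_s_99_101 c) (Btab_s_101_103 c) (Nat.ble 101 c)
noncomputable def Btab_s_103_105 (c : Nat) : Nat := @Bool.rec (fun _ => Nat) (Btab_103) (Btab_104) (Nat.ble 104 c)
noncomputable def Btab_s_106_108 (c : Nat) : Nat := @Bool.rec (fun _ => Nat) (Btab_106) (Btab_107) (Nat.ble 107 c)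
noncomputable def Btab_s_105_108 (c : Nat) : Nat := @Bool.rec (fun _ => Nat) (Btab_105) (Btab_s_106_108 c) (Nat.ble 106 c)
noncomputable def Btab_s_103_108 (c : Nat) : Nat := @Bool.rec (fun _ => Nat) (Btab_s_103_105 c) (Btab_s_105_108 c) (Nat.ble 105 c)
noncomputable def Btab_s_99_108 (c : Nat) : Nat := @Bool.rec (fun _ => Nat) (Btab_s_99_103 c) (Btab_s_103_108 c) (Nat.ble 103 c)
noncomputable def Btab_s_90_108 (c : Nat) : Nat := @Bool.rec (fun _ => Nat) (Btab_s_90_99 c) (Btab_s_99_108 c) (Nat.ble 99 c)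
noncomputable def Btab_s_72_108 (c : Nat) : Nat := @Bool.rec (fun _ => Nat) (Btab_s_72_90 c) (Btab_s_90_108 c) (Nat.ble 90 c)
noncomputable def Btab_s_108_110 (c : Nat) : Nat := @Bool.rec (fun _ => Nat) (Btab_108) (Btab_109) (Nat.ble 109 c)
noncomputable def Btab_s_110_112 (c : Nat) : Nat := @Bool.rec (fun _ => Nat) (Btab_110) (Btab_111) (Nat.ble 111 c)
noncomputable def Btab_s_108_112 (c : Nat) : Nat := @Bool.rec (fun _ => Nat) (Btab_s_108_110 c) (Btab_s_110_112 c) (Nat.ble 110 c)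
noncomputable def Btab_s_112_114 (c : Nat) : Nat := @Bool.rec (fun _ => Nat) (Btab_112) (Btab_113) (Nat.ble 113 c)
noncomputable def Btab_s_115_117 (c : Nat) : Nat := @Bool.rec (fun _ => Nat) (Btab_115) (Btab_116) (Nat.ble 116 c)
noncomputable def Btab_s_114_117 (c : Nat) : Nat := @Bool.rec (fun _ => Nat) (Btab_114) (Btab_s_115_117 c) (Nat.ble 115 c)
noncomputable def Btab_s_112_117 (c : Nat) : Nat := @Bool.rec (fun _ => Nat) (Btab_s_112_114 c) (Btab_s_114_117 c) (Nat.ble 114 c)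
noncomputable def Btab_s_108_117 (c : Nat) : Nat := @Bool.rec (fun _ => Nat) (Btab_s_108_112 c) (Btab_s_112_117 c) (Nat.ble 112 c)
noncomputable def Btab_s_117_119 (c : Nat) : Nat := @Bool.rec (fun _ => Nat) (Btab_117) (Btab_118) (Nat.ble 118 c)
noncomputable def Btab_s_119_121 (c : Nat) : Nat := @Bool.rec (fun _ => Nat) (Btab_119) (Btab_120) (Nat.ble 120 c)
noncomputable def Btab_s_117_121 (c : Nat) : Nat := @Bool.rec (fun _ => Nat) (Btab_s_117_119 c) (Btab_s_119_121 c) (Nat.ble 119 c)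
noncomputable def Btab_s_121_123 (c : Nat) : Nat := @Bool.rec (fun _ => Nat) (Btab_121) (Btab_122) (Nat.ble 122 c)
noncomputable def Btab_s_124_126 (c : Nat) : Nat := @Bool.rec (fun _ => Nat) (Btab_124) (Btab_125) (Nat.ble 125 c)
noncomputable def Btab_s_123_126 (c : Nat) : Nat := @Bool.rec (fun _ => Nat) (Btab_123) (Btab_s_124_126 c) (Nat.ble 124 c)
noncomputable def Btab_s_121_126 (c : Nat) : Nat := @Bool.rec (fun _ => Nat) (Btab_s_121_123 c) (Btab_s_123_126 c) (Nat.ble 123 c)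
noncomputable def Btab_s_117_126 (c : Nat) : Nat := @Bool.rec (fun _ => Nat) (Btab_s_117_121 c) (Btab_s_121_126 c) (Nat.ble 121 c)
noncomputable def Btab_s_108_126 (c : Nat) : Nat := @Bool.rec (fun _ => Nat) (Btab_s_108_117 c) (Btab_s_117_126 c) (Nat.ble 117 c)
noncomputable def Btab_s_126_128 (c : Nat) : Nat := @Bool.rec (fun _ => Nat) (Btab_126) (Btab_127) (Nat.ble 127 c)
noncomputable def Btab_s_128_130 (c : Nat) : Nat := @Bool.rec (fun _ => Nat) (Btab_128) (Btab_129) (Nat.ble 129 c)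
noncomputable def Btab_s_126_130 (c : Nat) : Nat := @Bool.rec (fun _ => Nat) (Btab_s_126_128 c) (Btab_s_128_130 c) (Nat.ble 128 c)
noncomputable def Btab_s_130_132 (c : Nat) : Nat := @Bool.rec (fun _ => Nat) (Btab_130) (Btab_131) (Nat.ble 131 c)
noncomputable def Btab_s_133_135 (c : Nat) : Nat := @Bool.rec (fun _ => Nat) (Btab_133) (Btab_134) (Nat.ble 134 c)
noncomputable def Btab_s_132_135 (c : Nat) : Nat := @Bool.rec (fun _ => Nat) (Btab_132) (Btab_s_133_135 c) (Nat.ble 133 c)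
noncomputable def Btab_s_130_135 (c : Nat) : Nat := @Bool.rec (fun _ => Nat) (Btab_s_130_132 c) (Btab_s_132_135 c) (Nat.ble 132 c)
noncomputable def Btab_s_126_135 (c : Nat) : Nat := @Bool.rec (fun _ => Nat) (Btab_s_126_130 c) (Btab_s_130_135 c) (Nat.ble 130 c)
noncomputable def Btab_s_135_137 (c : Nat) : Nat := @Bool.rec (fun _ => Nat) (Btab_135) (Btab_136) (Nat.ble 136 c)
noncomputable def Btab_s_137_139 (c : Nat) : Nat := @Bool.rec (fun _ => Nat) (Btab_137) (Btab_138) (Nat.ble 138 c)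
noncomputable def Btab_s_135_139 (c : Nat) : Nat := @Bool.rec (fun _ => Nat) (Btab_s_135_137 c) (Btab_s_137_139 c) (Nat.ble 137 c)
noncomputable def Btab_s_139_141 (c : Nat) : Nat := @Bool.rec (fun _ => Nat) (Btab_139) (Btab_140) (Nat.ble 140 c)
noncomputable def Btab_s_142_144 (c : Nat) : Nat := @Bool.rec (fun _ => Nat) (Btab_142) (Btab_143) (Nat.ble 143 c)
noncomputable def Btab_s_141_144 (c : Nat) : Nat := @Bool.rec (fun _ => Nat) (Btab_141) (Btab_s_142_144 c) (Nat.ble 142 c)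
noncomputable def Btab_s_139_144 (c : Nat) : Nat := @Bool.rec (fun _ => Nat) (Btab_s_139_141 c) (Btab_s_141_144 c) (Nat.ble 141 c)
noncomputable def Btab_s_135_144 (c : Nat) : Nat := @Bool.rec (fun _ => Nat) (Btab_s_135_139 c) (Btab_s_139_144 c) (Nat.ble 139 c)
noncomputable def Btab_s_126_144 (c : Nat) : Nat := @Bool.rec (fun _ => Nat) (Btab_s_126_135 c) (Btab_s_135_144 c) (Nat.ble 135 c)
noncomputable def Btab_s_108_144 (c : Nat) : Nat := @Bool.rec (fun _ => Nat) (Btab_s_108_126 c) (Btab_s_126_144 c) (Nat.ble 126 c)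
noncomputable def Btab_s_72_144 (c : Nat) : Nat := @Bool.rec (fun _ => Nat) (Btab_s_72_108 c) (Btab_s_108_144 c) (Nat.ble 108 c)
noncomputable def Btab_s_0_144 (c : Nat) : Nat := @Bool.rec (fun _ => Nat) (Btab_s_0_72 c) (Btab_s_72_144 c) (Nat.ble 72 c)
noncomputable def Btab_s_144_146 (c : Nat) : Nat := @Bool.rec (fun _ => Nat) (Btab_144) (Btab_145) (Nat.ble 145 c)
noncomputable def Btab_s_146_148 (c : Nat) : Nat := @Bool.rec (fun _ => Nat) (Btab_146) (Btab_147) (Nat.ble 147 c)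
noncomputable def Btab_s_144_148 (c : Nat) : Nat := @Bool.rec (fun _ => Nat) (Btab_s_144_146 c) (Btab_s_146_148 c) (Nat.ble 146 c)
noncomputable def Btab_s_148_150 (c : Nat) : Nat := @Bool.rec (fun _ => Nat) (Btab_148) (Btab_149) (Nat.ble 149 c)
noncomputable def Btab_s_151_153 (c : Nat) : Nat := @Bool.rec (fun _ => Nat) (Btab_151) (Btab_152) (Nat.ble 152 c)
noncomputable def Btab_s_150_153 (c : Nat) : Nat := @Bool.rec (fun _ => Nat) (Btab_150) (Btab_s_151_153 c) (Nat.ble 151 c)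
noncomputable def Btab_s_148_153 (c : Nat) : Nat := @Bool.rec (fun _ => Nat) (Btab_s_148_150 c) (Btab_s_150_153 c) (Nat.ble 150 c)
noncomputable def Btab_s_144_153 (c : Nat) : Nat := @Bool.rec (fun _ => Nat) (Btab_s_144_148 c) (Btab_s_148_153 c) (Nat.ble 148 c)
noncomputable def Btab_s_153_155 (c : Nat) : Nat := @Bool.rec (fun _ => Nat) (Btab_153) (Btab_154) (Nat.ble 154 c)
noncomputable def Btab_s_155_157 (c : Nat) : Nat := @Bool.rec (fun _ => Nat) (Btab_155) (Btab_156) (Nat.ble 156 c)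
noncomputable def Btab_s_153_157 (c : Nat) : Nat := @Bool.rec (fun _ => Nat) (Btab_s_153_155 c) (Btab_s_155_157 c) (Nat.ble 155 c)
noncomputable def Btab_s_157_159 (c : Nat) : Nat := @Bool.rec (fun _ => Nat) (Btab_157) (Btab_158) (Nat.ble 158 c)
noncomputable def Btab_s_160_162 (c : Nat) : Nat := @Bool.rec (fun _ => Nat) (Btab_160) (Btab_161) (Nat.ble 161 c)
noncomputable def Btab_s_159_162 (c : Nat) : Nat := @Bool.rec (fun _ => Nat) (Btab_159) (Btab_s_160_162 c) (Nat.ble 160 c)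
noncomputable def Btab_s_157_162 (c : Nat) : Nat := @Bool.rec (fun _ => Nat) (Btab_s_157_159 c) (Btab_s_159_162 c) (Nat.ble 159 c)
noncomputable def Btab_s_153_162 (c : Nat) : Nat := @Bool.rec (fun _ => Nat) (Btab_s_153_157 c) (Btab_s_157_162 c) (Nat.ble 157 c)
noncomputable def Btab_s_144_162 (c : Nat) : Nat := @Bool.rec (fun _ => Nat) (Btab_s_144_153 c) (Btab_s_153_162 c) (Nat.ble 153 c)
noncomputable def Btab_s_162_164 (c : Nat) : Nat := @Bool.rec (fun _ => Nat) (Btab_162) (Btab_163) (Nat.ble 163 c)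
noncomputable def Btab_s_164_166 (c : Nat) : Nat := @Bool.rec (fun _ => Nat) (Btab_164) (Btab_165) (Nat.ble 165 c)
noncomputable def Btab_s_162_166 (c : Nat) : Nat := @Bool.rec (fun _ => Nat) (Btab_s_162_164 c) (Btab_s_164_166 c) (Nat.ble 164 c)
noncomputable def Btab_s_166_168 (c : Nat) : Nat := @Bool.rec (fun _ => Nat) (Btab_166) (Btab_167) (Nat.ble 167 c)
noncomputable def Btab_s_169_171 (c : Nat) : Nat := @Bool.rec (fun _ => Nat) (Btab_169) (Btab_170) (Nat.ble 170 c)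
noncomputable def Btab_s_168_171 (c : Nat) : Nat := @Bool.rec (fun _ => Nat) (Btab_168) (Btab_s_169_171 c) (Nat.ble 169 c)
noncomputable def Btab_s_166_171 (c : Nat) : Nat := @Bool.rec (fun _ => Nat) (Btab_s_166_168 c) (Btab_s_168_171 c) (Nat.ble 168 c)
noncomputable def Btab_s_162_171 (c : Nat) : Nat := @Bool.rec (fun _ => Nat) (Btab_s_162_166 c) (Btab_s_166_171 c) (Nat.ble 166 c)
noncomputable def Btab_s_171_173 (c : Nat) : Nat := @Bool.rec (fun _ => Nat) (Btab_171) (Btab_172) (Nat.ble 172 c)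
noncomputable def Btab_s_173_175 (c : Nat) : Nat := @Bool.rec (fun _ => Nat) (Btab_173) (Btab_174) (Nat.ble 174 c)
noncomputable def Btab_s_171_175 (c : Nat) : Nat := @Bool.rec (fun _ => Nat) (Btab_s_171_173 c) (Btab_s_173_175 c) (Nat.ble 173 c)
noncomputable def Btab_s_175_177 (c : Nat) : Nat := @Bool.rec (fun _ => Nat) (Btab_175) (Btab_176) (Nat.ble 176 c)
noncomputable def Btab_s_178_180 (c : Nat) : Nat := @Bool.rec (fun _ => Nat) (Btab_178) (Btab_179) (Nat.ble 179 c)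
noncomputable def Btab_s_177_180 (c : Nat) : Nat := @Bool.rec (fun _ => Nat) (Btab_177) (Btab_s_178_180 c) (Nat.ble 178 c)
noncomputable def Btab_s_175_180 (c : Nat) : Nat := @Bool.rec (fun _ => Nat) (Btab_s_175_177 c) (Btab_s_177_180 c) (Nat.ble 177 c)
noncomputable def Btab_s_171_180 (c : Nat) : Nat := @Bool.rec (fun _ => Nat) (Btab_s_171_175 c) (Btab_s_175_180 c) (Nat.ble 175 c)
noncomputable def Btab_s_162_180 (c : Nat) : Nat := @Bool.rec (fun _ => Nat) (Btab_s_162_171 c) (Btab_s_171_180 c) (Nat.ble 171 c)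
noncomputable def Btab_s_144_180 (c : Nat) : Nat := @Bool.rec (fun _ => Nat) (Btab_s_144_162 c) (Btab_s_162_180 c) (Nat.ble 162 c)
noncomputable def Btab_s_180_182 (c : Nat) : Nat := @Bool.rec (fun _ => Nat) (Btab_180) (Btab_181) (Nat.ble 181 c)
noncomputable def Btab_s_182_184 (c : Nat) : Nat := @Bool.rec (fun _ => Nat) (Btab_182) (Btab_183) (Nat.ble 183 c)
noncomputable def Btab_s_180_184 (c : Nat) : Nat := @Bool.rec (fun _ => Nat) (Btab_s_180_182 c) (Btab_s_182_184 c) (Nat.ble 182 c)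
noncomputable def Btab_s_184_186 (c : Nat) : Nat := @Bool.rec (fun _ => Nat) (Btab_184) (Btab_185) (Nat.ble 185 c)
noncomputable def Btab_s_187_189 (c : Nat) : Nat := @Bool.rec (fun _ => Nat) (Btab_187) (Btab_188) (Nat.ble 188 c)
noncomputable def Btab_s_186_189 (c : Nat) : Nat := @Bool.rec (fun _ => Nat) (Btab_186) (Btab_s_187_189 c) (Nat.ble 187 c)
noncomputable def Btab_s_184_189 (c : Nat) : Nat := @Bool.rec (fun _ => Nat) (Btab_s_184_186 c) (Btab_s_186_189 c) (Nat.ble 186 c)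
noncomputable def Btab_s_180_189 (c : Nat) : Nat := @Bool.rec (fun _ => Nat) (Btab_s_180_184 c) (Btab_s_184_189 c) (Nat.ble 184 c)
noncomputable def Btab_s_189_191 (c : Nat) : Nat := @Bool.rec (fun _ => Nat) (Btab_189) (Btab_190) (Nat.ble 190 c)
noncomputable def Btab_s_191_193 (c : Nat) : Nat := @Bool.rec (fun _ => Nat) (Btab_191) (Btab_192) (Nat.ble 192 c)
noncomputable def Btab_s_189_193 (c : Nat) : Nat := @Bool.rec (fun _ => Nat) (Btab_s_189_191 c) (Btab_s_191_193 c) (Nat.ble 191 c)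
noncomputable def Btab_s_193_195 (c : Nat) : Nat := @Bool.rec (fun _ => Nat) (Btab_193) (Btab_194) (Nat.ble 194 c)
noncomputable def Btab_s_196_198 (c : Nat) : Nat := @Bool.rec (fun _ => Nat) (Btab_196) (Btab_197) (Nat.ble 197 c)
noncomputable def Btab_s_195_198 (c : Nat) : Nat := @Bool.rec (fun _ => Nat) (Btab_195) (Btab_s_196_198 c) (Nat.ble 196 c)
noncomputable def Btab_s_193_198 (c : Nat) : Nat := @Bool.rec (fun _ => Nat) (Btab_s_193_195 c) (Btab_s_195_198 c) (Nat.ble 195 c)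
noncomputable def Btab_s_189_198 (c : Nat) : Nat := @Bool.rec (fun _ => Nat) (Btab_s_189_193 c) (Btab_s_193_198 c) (Nat.ble 193 c)
noncomputable def Btab_s_180_198 (c : Nat) : Nat := @Bool.rec (fun _ => Nat) (Btab_s_180_189 c) (Btab_s_189_198 c) (Nat.ble 189 c)
noncomputable def Btab_s_198_200 (c : Nat) : Nat := @Bool.rec (fun _ => Nat) (Btab_198) (Btab_199) (Nat.ble 199 c)
noncomputable def Btab_s_200_202 (c : Nat) : Nat := @Bool.rec (fun _ => Nat) (Btab_200) (Btab_201) (Nat.ble 201 c)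
noncomputable def Btab_s_198_202 (c : Nat) : Nat := @Bool.rec (fun _ => Nat) (Btab_s_198_200 c) (Btab_s_200_202 c) (Nat.ble 200 c)
noncomputable def Btab_s_202_204 (c : Nat) : Nat := @Bool.rec (fun _ => Nat) (Btab_202) (Btab_203) (Nat.ble 203 c)
noncomputable def Btab_s_205_207 (c : Nat) : Nat := @Bool.rec (fun _ => Nat) (Btab_205) (Btab_206) (Nat.ble 206 c)
noncomputable def Btab_s_204_207 (c : Nat) : Nat := @Bool.rec (fun _ => Nat) (Btab_204) (Btab_s_205_207 c) (Nat.ble 205 c)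
noncomputable def Btab_s_202_207 (c : Nat) : Nat := @Bool.rec (fun _ => Nat) (Btab_s_202_204 c) (Btab_s_204_207 c) (Nat.ble 204 c)
noncomputable def Btab_s_198_207 (c : Nat) : Nat := @Bool.rec (fun _ => Nat) (Btab_s_198_202 c) (Btab_s_202_207 c) (Nat.ble 202 c)
noncomputable def Btab_s_207_209 (c : Nat) : Nat := @Bool.rec (fun _ => Nat) (Btab_207) (Btab_208) (Nat.ble 208 c)
noncomputable def Btab_s_209_211 (c : Nat) : Nat := @Bool.rec (fun _ => Nat) (Btab_209) (Btab_210) (Nat.ble 210 c)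
noncomputable def Btab_s_207_211 (c : Nat) : Nat := @Bool.rec (fun _ => Nat) (Btab_s_207_209 c) (Btab_s_209_211 c) (Nat.ble 209 c)
noncomputable def Btab_s_211_213 (c : Nat) : Nat := @Bool.rec (fun _ => Nat) (Btab_211) (Btab_212) (Nat.ble 212 c)
noncomputable def Btab_s_214_216 (c : Nat) : Nat := @Bool.rec (fun _ => Nat) (Btab_214) (Btab_215) (Nat.ble 215 c)
noncomputable def Btab_s_213_216 (c : Nat) : Nat := @Bool.rec (fun _ => Nat) (Btab_213) (Btab_s_214_216 c) (Nat.ble 214 c)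
noncomputable def Btab_s_211_216 (c : Nat) : Nat := @Bool.rec (fun _ => Nat) (Btab_s_211_213 c) (Btab_s_213_216 c) (Nat.ble 213 c)
noncomputable def Btab_s_207_216 (c : Nat) : Nat := @Bool.rec (fun _ => Nat) (Btab_s_207_211 c) (Btab_s_211_216 c) (Nat.ble 211 c)
noncomputable def Btab_s_198_216 (c : Nat) : Nat := @Bool.rec (fun _ => Nat) (Btab_s_198_207 c) (Btab_s_207_216 c) (Nat.ble 207 c)
noncomputable def Btab_s_180_216 (c : Nat) : Nat := @Bool.rec (fun _ => Nat) (Btab_s_180_198 c) (Btab_s_198_216 c) (Nat.ble 198 c)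
noncomputable def Btab_s_144_216 (c : Nat) : Nat := @Bool.rec (fun _ => Nat) (Btab_s_144_180 c) (Btab_s_180_216 c) (Nat.ble 180 c)
noncomputable def Btab_s_216_218 (c : Nat) : Nat := @Bool.rec (fun _ => Nat) (Btab_216) (Btab_217) (Nat.ble 217 c)
noncomputable def Btab_s_218_220 (c : Nat) : Nat := @Bool.rec (fun _ => Nat) (Btab_218) (Btab_219) (Nat.ble 219 c)
noncomputable def Btab_s_216_220 (c : Nat) : Nat := @Bool.rec (fun _ => Nat) (Btab_s_216_218 c) (Btab_s_218_220 c) (Nat.ble 218 c)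
noncomputable def Btab_s_220_222 (c : Nat) : Nat := @Bool.rec (fun _ => Nat) (Btab_220) (Btab_221) (Nat.ble 221 c)
noncomputable def Btab_s_223_225 (c : Nat) : Nat := @Bool.rec (fun _ => Nat) (Btab_223) (Btab_224) (Nat.ble 224 c)
noncomputable def Btab_s_222_225 (c : Nat) : Nat := @Bool.rec (fun _ => Nat) (Btab_222) (Btab_s_223_225 c) (Nat.ble 223 c)
noncomputable def Btab_s_220_225 (c : Nat) : Nat := @Bool.rec (fun _ => Nat) (Btab_s_220_222 c) (Btab_s_222_225 c) (Nat.ble 222 c)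
noncomputable def Btab_s_216_225 (c : Nat) : Nat := @Bool.rec (fun _ => Nat) (Btab_s_216_220 c) (Btab_s_220_225 c) (Nat.ble 220 c)
noncomputable def Btab_s_225_227 (c : Nat) : Nat := @Bool.rec (fun _ => Nat) (Btab_225) (Btab_226) (Nat.ble 226 c)
noncomputable def Btab_s_227_229 (c : Nat) : Nat := @Bool.rec (fun _ => Nat) (Btab_227) (Btab_228) (Nat.ble 228 c)
noncomputable def Btab_s_225_229 (c : Nat) : Nat := @Bool.rec (fun _ => Nat) (Btab_s_225_227 c) (Btab_s_227_229 c) (Nat.ble 227 c)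
noncomputable def Btab_s_229_231 (c : Nat) : Nat := @Bool.rec (fun _ => Nat) (Btab_229) (Btab_230) (Nat.ble 230 c)
noncomputable def Btab_s_232_234 (c : Nat) : Nat := @Bool.rec (fun _ => Nat) (Btab_232) (Btab_233) (Nat.ble 233 c)
noncomputable def Btab_s_231_234 (c : Nat) : Nat := @Bool.rec (fun _ => Nat) (Btab_231) (Btab_s_232_234 c) (Nat.ble 232 c)
noncomputable def Btab_s_229_234 (c : Nat) : Nat := @Bool.rec (fun _ => Nat) (Btab_s_229_231 c) (Btab_s_231_234 c) (Nat.ble 231 c)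
noncomputable def Btab_s_225_234 (c : Nat) : Nat := @Bool.rec (fun _ => Nat) (Btab_s_225_229 c) (Btab_s_229_234 c) (Nat.ble 229 c)
noncomputable def Btab_s_216_234 (c : Nat) : Nat := @Bool.rec (fun _ => Nat) (Btab_s_216_225 c) (Btab_s_225_234 c) (Nat.ble 225 c)
noncomputable def Btab_s_234_236 (c : Nat) : Nat := @Bool.rec (fun _ => Nat) (Btab_234) (Btab_235) (Nat.ble 235 c)
noncomputable def Btab_s_236_238 (c : Nat) : Nat := @Bool.rec (fun _ => Nat) (Btab_236) (Btab_237) (Nat.ble 237 c)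
noncomputable def Btab_s_234_238 (c : Nat) : Nat := @Bool.rec (fun _ => Nat) (Btab_s_234_236 c) (Btab_s_236_238 c) (Nat.ble 236 c)
noncomputable def Btab_s_238_240 (c : Nat) : Nat := @Bool.rec (fun _ => Nat) (Btab_238) (Btab_239) (Nat.ble 239 c)
noncomputable def Btab_s_241_243 (c : Nat) : Nat := @Bool.rec (fun _ => Nat) (Btab_241) (Btab_242) (Nat.ble 242 c)
noncomputable def Btab_s_240_243 (c : Nat) : Nat := @Bool.rec (fun _ => Nat) (Btab_240) (Btab_s_241_243 c) (Nat.ble 241 c)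
noncomputable def Btab_s_238_243 (c : Nat) : Nat := @Bool.rec (fun _ => Nat) (Btab_s_238_240 c) (Btab_s_240_243 c) (Nat.ble 240 c)
noncomputable def Btab_s_234_243 (c : Nat) : Nat := @Bool.rec (fun _ => Nat) (Btab_s_234_238 c) (Btab_s_238_243 c) (Nat.ble 238 c)
noncomputable def Btab_s_243_245 (c : Nat) : Nat := @Bool.rec (fun _ => Nat) (Btab_243) (Btab_244) (Nat.ble 244 c)
noncomputable def Btab_s_245_247 (c : Nat) : Nat := @Bool.rec (fun _ => Nat) (Btab_245) (Btab_246) (Nat.ble 246 c)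
noncomputable def Btab_s_243_247 (c : Nat) : Nat := @Bool.rec (fun _ => Nat) (Btab_s_243_245 c) (Btab_s_245_247 c) (Nat.ble 245 c)
noncomputable def Btab_s_247_249 (c : Nat) : Nat := @Bool.rec (fun _ => Nat) (Btab_247) (Btab_248) (Nat.ble 248 c)
noncomputable def Btab_s_250_252 (c : Nat) : Nat := @Bool.rec (fun _ => Nat) (Btab_250) (Btab_251) (Nat.ble 251 c)
noncomputable def Btab_s_249_252 (c : Nat) : Nat := @Bool.rec (fun _ => Nat) (Btab_249) (Btab_s_250_252 c) (Nat.ble 250 c)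
noncomputable def Btab_s_247_252 (c : Nat) : Nat := @Bool.rec (fun _ => Nat) (Btab_s_247_249 c) (Btab_s_249_252 c) (Nat.ble 249 c)
noncomputable def Btab_s_243_252 (c : Nat) : Nat := @Bool.rec (fun _ => Nat) (Btab_s_243_247 c) (Btab_s_247_252 c) (Nat.ble 247 c)
noncomputable def Btab_s_234_252 (c : Nat) : Nat := @Bool.rec (fun _ => Nat) (Btab_s_234_243 c) (Btab_s_243_252 c) (Nat.ble 243 c)
noncomputable def Btab_s_216_252 (c : Nat) : Nat := @Bool.rec (fun _ => Nat) (Btab_s_216_234 c) (Btab_s_234_252 c) (Nat.ble 234 c)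
noncomputable def Btab_s_252_254 (c : Nat) : Nat := @Bool.rec (fun _ => Nat) (Btab_252) (Btab_253) (Nat.ble 253 c)
noncomputable def Btab_s_254_256 (c : Nat) : Nat := @Bool.rec (fun _ => Nat) (Btab_254) (Btab_255) (Nat.ble 255 c)
noncomputable def Btab_s_252_256 (c : Nat) : Nat := @Bool.rec (fun _ => Nat) (Btab_s_252_254 c) (Btab_s_254_256 c) (Nat.ble 254 c)
noncomputable def Btab_s_256_258 (c : Nat) : Nat := @Bool.rec (fun _ => Nat) (Btab_256) (Btab_257) (Nat.ble 257 c)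
noncomputable def Btab_s_259_261 (c : Nat) : Nat := @Bool.rec (fun _ => Nat) (Btab_259) (Btab_260) (Nat.ble 260 c)
noncomputable def Btab_s_258_261 (c : Nat) : Nat := @Bool.rec (fun _ => Nat) (Btab_258) (Btab_s_259_261 c) (Nat.ble 259 c)
noncomputable def Btab_s_256_261 (c : Nat) : Nat := @Bool.rec (fun _ => Nat) (Btab_s_256_258 c) (Btab_s_258_261 c) (Nat.ble 258 c)
noncomputable def Btab_s_252_261 (c : Nat) : Nat := @Bool.rec (fun _ => Nat) (Btab_s_252_256 c) (Btab_s_256_261 c) (Nat.ble 256 c)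
noncomputable def Btab_s_261_263 (c : Nat) : Nat := @Bool.rec (fun _ => Nat) (Btab_261) (Btab_262) (Nat.ble 262 c)
noncomputable def Btab_s_263_265 (c : Nat) : Nat := @Bool.rec (fun _ => Nat) (Btab_263) (Btab_264) (Nat.ble 264 c)
noncomputable def Btab_s_261_265 (c : Nat) : Nat := @Bool.rec (fun _ => Nat) (Btab_s_261_263 c) (Btab_s_263_265 c) (Nat.ble 263 c)
noncomputable def Btab_s_265_267 (c : Nat) : Nat := @Bool.rec (fun _ => Nat) (Btab_265) (Btab_266) (Nat.ble 266 c)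
noncomputable def Btab_s_268_270 (c : Nat) : Nat := @Bool.rec (fun _ => Nat) (Btab_268) (Btab_269) (Nat.ble 269 c)
noncomputable def Btab_s_267_270 (c : Nat) : Nat := @Bool.rec (fun _ => Nat) (Btab_267) (Btab_s_268_270 c) (Nat.ble 268 c)
noncomputable def Btab_s_265_270 (c : Nat) : Nat := @Bool.rec (fun _ => Nat) (Btab_s_265_267 c) (Btab_s_267_270 c) (Nat.ble 267 c)
noncomputable def Btab_s_261_270 (c : Nat) : Nat := @Bool.rec (fun _ => Nat) (Btab_s_261_265 c) (Btab_s_265_270 c) (Nat.ble 265 c)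
noncomputable def Btab_s_252_270 (c : Nat) : Nat := @Bool.rec (fun _ => Nat) (Btab_s_252_261 c) (Btab_s_261_270 c) (Nat.ble 261 c)
noncomputable def Btab_s_270_272 (c : Nat) : Nat := @Bool.rec (fun _ => Nat) (Btab_270) (Btab_271) (Nat.ble 271 c)
noncomputable def Btab_s_272_274 (c : Nat) : Nat := @Bool.rec (fun _ => Nat) (Btab_272) (Btab_273) (Nat.ble 273 c)
noncomputable def Btab_s_270_274 (c : Nat) : Nat := @Bool.rec (fun _ => Nat) (Btab_s_270_272 c) (Btab_s_272_274 c) (Nat.ble 272 c)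
noncomputable def Btab_s_274_276 (c : Nat) : Nat := @Bool.rec (fun _ => Nat) (Btab_274) (Btab_275) (Nat.ble 275 c)
noncomputable def Btab_s_277_279 (c : Nat) : Nat := @Bool.rec (fun _ => Nat) (Btab_277) (Btab_278) (Nat.ble 278 c)
noncomputable def Btab_s_276_279 (c : Nat) : Nat := @Bool.rec (fun _ => Nat) (Btab_276) (Btab_s_277_279 c) (Nat.ble 277 c)
noncomputable def Btab_s_274_279 (c : Nat) : Nat := @Bool.rec (fun _ => Nat) (Btab_s_274_276 c) (Btab_s_276_279 c) (Nat.ble 276 c)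
noncomputable def Btab_s_270_279 (c : Nat) : Nat := @Bool.rec (fun _ => Nat) (Btab_s_270_274 c) (Btab_s_274_279 c) (Nat.ble 274 c)
noncomputable def Btab_s_279_281 (c : Nat) : Nat := @Bool.rec (fun _ => Nat) (Btab_279) (Btab_280) (Nat.ble 280 c)
noncomputable def Btab_s_282_284 (c : Nat) : Nat := @Bool.rec (fun _ => Nat) (Btab_282) (Btab_283) (Nat.ble 283 c)
noncomputable def Btab_s_281_284 (c : Nat) : Nat := @Bool.rec (fun _ => Nat) (Btab_281) (Btab_s_282_284 c) (Nat.ble 282 c)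
noncomputable def Btab_s_279_284 (c : Nat) : Nat := @Bool.rec (fun _ => Nat) (Btab_s_279_281 c) (Btab_s_281_284 c) (Nat.ble 281 c)
noncomputable def Btab_s_284_286 (c : Nat) : Nat := @Bool.rec (fun _ => Nat) (Btab_284) (Btab_285) (Nat.ble 285 c)
noncomputable def Btab_s_287_289 (c : Nat) : Nat := @Bool.rec (fun _ => Nat) (Btab_287) (Btab_288) (Nat.ble 288 c)
noncomputable def Btab_s_286_289 (c : Nat) : Nat := @Bool.rec (fun _ => Nat) (Btab_286) (Btab_s_287_289 c) (Nat.ble 287 c)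
noncomputable def Btab_s_284_289 (c : Nat) : Nat := @Bool.rec (fun _ => Nat) (Btab_s_284_286 c) (Btab_s_286_289 c) (Nat.ble 286 c)
noncomputable def Btab_s_279_289 (c : Nat) : Nat := @Bool.rec (fun _ => Nat) (Btab_s_279_284 c) (Btab_s_284_289 c) (Nat.ble 284 c)
noncomputable def Btab_s_270_289 (c : Nat) : Nat := @Bool.rec (fun _ => Nat) (Btab_s_270_279 c) (Btab_s_279_289 c) (Nat.ble 279 c)
noncomputable def Btab_s_252_289 (c : Nat) : Nat := @Bool.rec (fun _ => Nat) (Btab_s_252_270 c) (Btab_s_270_289 c) (Nat.ble 270 c)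
noncomputable def Btab_s_216_289 (c : Nat) : Nat := @Bool.rec (fun _ => Nat) (Btab_s_216_252 c) (Btab_s_252_289 c) (Nat.ble 252 c)
noncomputable def Btab_s_144_289 (c : Nat) : Nat := @Bool.rec (fun _ => Nat) (Btab_s_144_216 c) (Btab_s_216_289 c) (Nat.ble 216 c)
noncomputable def Btab_s_0_289 (c : Nat) : Nat := @Bool.rec (fun _ => Nat) (Btab_s_0_144 c) (Btab_s_144_289 c) (Nat.ble 144 c)
noncomputable def Btab (i : Nat) : Nat := rdw 40 1099511627775 (Btab_s_0_289 (Nat.shiftRight i 11)) (Nat.land i 2047)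
noncomputable def Ptab_s_0_2 (c : Nat) : Nat := @Bool.rec (fun _ => Nat) (Ptab_0) (Ptab_1) (Nat.ble 1 c)
noncomputable def Ptab_s_3_5 (c : Nat) : Nat := @Bool.rec (fun _ => Nat) (Ptab_3) (Ptab_4) (Nat.ble 4 c)
noncomputable def Ptab_s_2_5 (c : Nat) : Nat := @Bool.rec (fun _ => Nat) (Ptab_2) (Ptab_s_3_5 c) (Nat.ble 3 c)
noncomputable def Ptab_s_0_5 (c : Nat) : Nat := @Bool.rec (fun _ => Nat) (Ptab_s_0_2 c) (Ptab_s_2_5 c) (Nat.ble 2 c)
noncomputable def Ptab_s_5_7 (c : Nat) : Nat := @Bool.rec (fun _ => Nat) (Ptab_5) (Ptab_6) (Nat.ble 6 c)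
noncomputable def Ptab_s_8_10 (c : Nat) : Nat := @Bool.rec (fun _ => Nat) (Ptab_8) (Ptab_9) (Nat.ble 9 c)
noncomputable def Ptab_s_7_10 (c : Nat) : Nat := @Bool.rec (fun _ => Nat) (Ptab_7) (Ptab_s_8_10 c) (Nat.ble 8 c)
noncomputable def Ptab_s_5_10 (c : Nat) : Nat := @Bool.rec (fun _ => Nat) (Ptab_s_5_7 c) (Ptab_s_7_10 c) (Nat.ble 7 c)
noncomputable def Ptab_s_0_10 (c : Nat) : Nat := @Bool.rec (fun _ => Nat) (Ptab_s_0_5 c) (Ptab_s_5_10 c) (Nat.ble 5 c)
noncomputable def Ptab_s_10_12 (c : Nat) : Nat := @Bool.rec (fun _ => Nat) (Ptab_10) (Ptab_11) (Nat.ble 11 c)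
noncomputable def Ptab_s_13_15 (c : Nat) : Nat := @Bool.rec (fun _ => Nat) (Ptab_13) (Ptab_14) (Nat.ble 14 c)
noncomputable def Ptab_s_12_15 (c : Nat) : Nat := @Bool.rec (fun _ => Nat) (Ptab_12) (Ptab_s_13_15 c) (Nat.ble 13 c)
noncomputable def Ptab_s_10_15 (c : Nat) : Nat := @Bool.rec (fun _ => Nat) (Ptab_s_10_12 c) (Ptab_s_12_15 c) (Nat.ble 12 c)
noncomputable def Ptab_s_15_17 (c : Nat) : Nat := @Bool.rec (fun _ => Nat) (Ptab_15) (Ptab_16) (Nat.ble 16 c)
noncomputable def Ptab_s_18_20 (c : Nat) : Nat := @Bool.rec (fun _ => Nat) (Ptab_18) (Ptab_19) (Nat.ble 19 c)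
noncomputable def Ptab_s_17_20 (c : Nat) : Nat := @Bool.rec (fun _ => Nat) (Ptab_17) (Ptab_s_18_20 c) (Nat.ble 18 c)
noncomputable def Ptab_s_15_20 (c : Nat) : Nat := @Bool.rec (fun _ => Nat) (Ptab_s_15_17 c) (Ptab_s_17_20 c) (Nat.ble 17 c)
noncomputable def Ptab_s_10_20 (c : Nat) : Nat := @Bool.rec (fun _ => Nat) (Ptab_s_10_15 c) (Ptab_s_15_20 c) (Nat.ble 15 c)
noncomputable def Ptab_s_0_20 (c : Nat) : Nat := @Bool.rec (fun _ => Nat) (Ptab_s_0_10 c) (Ptab_s_10_20 c) (Nat.ble 10 c)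
noncomputable def Ptab_s_20_22 (c : Nat) : Nat := @Bool.rec (fun _ => Nat) (Ptab_20) (Ptab_21) (Nat.ble 21 c)
noncomputable def Ptab_s_23_25 (c : Nat) : Nat := @Bool.rec (fun _ => Nat) (Ptab_23) (Ptab_24) (Nat.ble 24 c)
noncomputable def Ptab_s_22_25 (c : Nat) : Nat := @Bool.rec (fun _ => Nat) (Ptab_22) (Ptab_s_23_25 c) (Nat.ble 23 c)
noncomputable def Ptab_s_20_25 (c : Nat) : Nat := @Bool.rec (fun _ => Nat) (Ptab_s_20_22 c) (Ptab_s_22_25 c) (Nat.ble 22 c)
noncomputable def Ptab_s_25_27 (c : Nat) : Nat := @Bool.rec (fun _ => Nat) (Ptab_25) (Ptab_26) (Nat.ble 26 c)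
noncomputable def Ptab_s_28_30 (c : Nat) : Nat := @Bool.rec (fun _ => Nat) (Ptab_28) (Ptab_29) (Nat.ble 29 c)
noncomputable def Ptab_s_27_30 (c : Nat) : Nat := @Bool.rec (fun _ => Nat) (Ptab_27) (Ptab_s_28_30 c) (Nat.ble 28 c)
noncomputable def Ptab_s_25_30 (c : Nat) : Nat := @Bool.rec (fun _ => Nat) (Ptab_s_25_27 c) (Ptab_s_27_30 c) (Nat.ble 27 c)
noncomputable def Ptab_s_20_30 (c : Nat) : Nat := @Bool.rec (fun _ => Nat) (Ptab_s_20_25 c) (Ptab_s_25_30 c) (Nat.ble 25 c)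
noncomputable def Ptab_s_30_32 (c : Nat) : Nat := @Bool.rec (fun _ => Nat) (Ptab_30) (Ptab_31) (Nat.ble 31 c)
noncomputable def Ptab_s_33_35 (c : Nat) : Nat := @Bool.rec (fun _ => Nat) (Ptab_33) (Ptab_34) (Nat.ble 34 c)
noncomputable def Ptab_s_32_35 (c : Nat) : Nat := @Bool.rec (fun _ => Nat) (Ptab_32) (Ptab_s_33_35 c) (Nat.ble 33 c)
noncomputable def Ptab_s_30_35 (c : Nat) : Nat := @Bool.rec (fun _ => Nat) (Ptab_s_30_32 c) (Ptab_s_32_35 c) (Nat.ble 32 c)
noncomputable def Ptab_s_36_38 (c : Nat) : Nat := @Bool.rec (fun _ => Nat) (Ptab_36) (Ptab_37) (Nat.ble 37 c)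
noncomputable def Ptab_s_35_38 (c : Nat) : Nat := @Bool.rec (fun _ => Nat) (Ptab_35) (Ptab_s_36_38 c) (Nat.ble 36 c)
noncomputable def Ptab_s_39_41 (c : Nat) : Nat := @Bool.rec (fun _ => Nat) (Ptab_39) (Ptab_40) (Nat.ble 40 c)
noncomputable def Ptab_s_38_41 (c : Nat) : Nat := @Bool.rec (fun _ => Nat) (Ptab_38) (Ptab_s_39_41 c) (Nat.ble 39 c)
noncomputable def Ptab_s_35_41 (c : Nat) : Nat := @Bool.rec (fun _ => Nat) (Ptab_s_35_38 c) (Ptab_s_38_41 c) (Nat.ble 38 c)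
noncomputable def Ptab_s_30_41 (c : Nat) : Nat := @Bool.rec (fun _ => Nat) (Ptab_s_30_35 c) (Ptab_s_35_41 c) (Nat.ble 35 c)
noncomputable def Ptab_s_20_41 (c : Nat) : Nat := @Bool.rec (fun _ => Nat) (Ptab_s_20_30 c) (Ptab_s_30_41 c) (Nat.ble 30 c)
noncomputable def Ptab_s_0_41 (c : Nat) : Nat := @Bool.rec (fun _ => Nat) (Ptab_s_0_20 c) (Ptab_s_20_41 c) (Nat.ble 20 c)
noncomputable def Ptab_s_41_43 (c : Nat) : Nat := @Bool.rec (fun _ => Nat) (Ptab_41) (Ptab_42) (Nat.ble 42 c)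
noncomputable def Ptab_s_44_46 (c : Nat) : Nat := @Bool.rec (fun _ => Nat) (Ptab_44) (Ptab_45) (Nat.ble 45 c)
noncomputable def Ptab_s_43_46 (c : Nat) : Nat := @Bool.rec (fun _ => Nat) (Ptab_43) (Ptab_s_44_46 c) (Nat.ble 44 c)
noncomputable def Ptab_s_41_46 (c : Nat) : Nat := @Bool.rec (fun _ => Nat) (Ptab_s_41_43 c) (Ptab_s_43_46 c) (Nat.ble 43 c)
noncomputable def Ptab_s_46_48 (c : Nat) : Nat := @Bool.rec (fun _ => Nat) (Ptab_46) (Ptab_47) (Nat.ble 47 c)
noncomputable def Ptab_s_49_51 (c : Nat) : Nat := @Bool.rec (fun _ => Nat) (Ptab_49) (Ptab_50) (Nat.ble 50 c)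
noncomputable def Ptab_s_48_51 (c : Nat) : Nat := @Bool.rec (fun _ => Nat) (Ptab_48) (Ptab_s_49_51 c) (Nat.ble 49 c)
noncomputable def Ptab_s_46_51 (c : Nat) : Nat := @Bool.rec (fun _ => Nat) (Ptab_s_46_48 c) (Ptab_s_48_51 c) (Nat.ble 48 c)
noncomputable def Ptab_s_41_51 (c : Nat) : Nat := @Bool.rec (fun _ => Nat) (Ptab_s_41_46 c) (Ptab_s_46_51 c) (Nat.ble 46 c)
noncomputable def Ptab_s_51_53 (c : Nat) : Nat := @Bool.rec (fun _ => Nat) (Ptab_51) (Ptab_52) (Nat.ble 52 c)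
noncomputable def Ptab_s_54_56 (c : Nat) : Nat := @Bool.rec (fun _ => Nat) (Ptab_54) (Ptab_55) (Nat.ble 55 c)
noncomputable def Ptab_s_53_56 (c : Nat) : Nat := @Bool.rec (fun _ => Nat) (Ptab_53) (Ptab_s_54_56 c) (Nat.ble 54 c)
noncomputable def Ptab_s_51_56 (c : Nat) : Nat := @Bool.rec (fun _ => Nat) (Ptab_s_51_53 c) (Ptab_s_53_56 c) (Nat.ble 53 c)
noncomputable def Ptab_s_56_58 (c : Nat) : Nat := @Bool.rec (fun _ => Nat) (Ptab_56) (Ptab_57) (Nat.ble 57 c)
noncomputable def Ptab_s_59_61 (c : Nat) : Nat := @Bool.rec (fun _ => Nat) (Ptab_59) (Ptab_60) (Nat.ble 60 c)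
noncomputable def Ptab_s_58_61 (c : Nat) : Nat := @Bool.rec (fun _ => Nat) (Ptab_58) (Ptab_s_59_61 c) (Nat.ble 59 c)
noncomputable def Ptab_s_56_61 (c : Nat) : Nat := @Bool.rec (fun _ => Nat) (Ptab_s_56_58 c) (Ptab_s_58_61 c) (Nat.ble 58 c)
noncomputable def Ptab_s_51_61 (c : Nat) : Nat := @Bool.rec (fun _ => Nat) (Ptab_s_51_56 c) (Ptab_s_56_61 c) (Nat.ble 56 c)
noncomputable def Ptab_s_41_61 (c : Nat) : Nat := @Bool.rec (fun _ => Nat) (Ptab_s_41_51 c) (Ptab_s_51_61 c) (Nat.ble 51 c)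
noncomputable def Ptab_s_61_63 (c : Nat) : Nat := @Bool.rec (fun _ => Nat) (Ptab_61) (Ptab_62) (Nat.ble 62 c)
noncomputable def Ptab_s_64_66 (c : Nat) : Nat := @Bool.rec (fun _ => Nat) (Ptab_64) (Ptab_65) (Nat.ble 65 c)
noncomputable def Ptab_s_63_66 (c : Nat) : Nat := @Bool.rec (fun _ => Nat) (Ptab_63) (Ptab_s_64_66 c) (Nat.ble 64 c)
noncomputable def Ptab_s_61_66 (c : Nat) : Nat := @Bool.rec (fun _ => Nat) (Ptab_s_61_63 c) (Ptab_s_63_66 c) (Nat.ble 63 c)
noncomputable def Ptab_s_66_68 (c : Nat) : Nat := @Bool.rec (fun _ => Nat) (Ptab_66) (Ptab_67) (Nat.ble 67 c)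
noncomputable def Ptab_s_69_71 (c : Nat) : Nat := @Bool.rec (fun _ => Nat) (Ptab_69) (Ptab_70) (Nat.ble 70 c)
noncomputable def Ptab_s_68_71 (c : Nat) : Nat := @Bool.rec (fun _ => Nat) (Ptab_68) (Ptab_s_69_71 c) (Nat.ble 69 c)
noncomputable def Ptab_s_66_71 (c : Nat) : Nat := @Bool.rec (fun _ => Nat) (Ptab_s_66_68 c) (Ptab_s_68_71 c) (Nat.ble 68 c)
noncomputable def Ptab_s_61_71 (c : Nat) : Nat := @Bool.rec (fun _ => Nat) (Ptab_s_61_66 c) (Ptab_s_66_71 c) (Nat.ble 66 c)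
noncomputable def Ptab_s_71_73 (c : Nat) : Nat := @Bool.rec (fun _ => Nat) (Ptab_71) (Ptab_72) (Nat.ble 72 c)
noncomputable def Ptab_s_74_76 (c : Nat) : Nat := @Bool.rec (fun _ => Nat) (Ptab_74) (Ptab_75) (Nat.ble 75 c)
noncomputable def Ptab_s_73_76 (c : Nat) : Nat := @Bool.rec (fun _ => Nat) (Ptab_73) (Ptab_s_74_76 c) (Nat.ble 74 c)
noncomputable def Ptab_s_71_76 (c : Nat) : Nat := @Bool.rec (fun _ => Nat) (Ptab_s_71_73 c) (Ptab_s_73_76 c) (Nat.ble 73 c)
noncomputable def Ptab_s_77_79 (c : Nat) : Nat := @Bool.rec (fun _ => Nat) (Ptab_77) (Ptab_78) (Nat.ble 78 c)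
noncomputable def Ptab_s_76_79 (c : Nat) : Nat := @Bool.rec (fun _ => Nat) (Ptab_76) (Ptab_s_77_79 c) (Nat.ble 77 c)
noncomputable def Ptab_s_80_82 (c : Nat) : Nat := @Bool.rec (fun _ => Nat) (Ptab_80) (Ptab_81) (Nat.ble 81 c)
noncomputable def Ptab_s_79_82 (c : Nat) : Nat := @Bool.rec (fun _ => Nat) (Ptab_79) (Ptab_s_80_82 c) (Nat.ble 80 c)
noncomputable def Ptab_s_76_82 (c : Nat) : Nat := @Bool.rec (fun _ => Nat) (Ptab_s_76_79 c) (Ptab_s_79_82 c) (Nat.ble 79 c)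
noncomputable def Ptab_s_71_82 (c : Nat) : Nat := @Bool.rec (fun _ => Nat) (Ptab_s_71_76 c) (Ptab_s_76_82 c) (Nat.ble 76 c)
noncomputable def Ptab_s_61_82 (c : Nat) : Nat := @Bool.rec (fun _ => Nat) (Ptab_s_61_71 c) (Ptab_s_71_82 c) (Nat.ble 71 c)
noncomputable def Ptab_s_41_82 (c : Nat) : Nat := @Bool.rec (fun _ => Nat) (Ptab_s_41_61 c) (Ptab_s_61_82 c) (Nat.ble 61 c)
noncomputable def Ptab_s_0_82 (c : Nat) : Nat := @Bool.rec (fun _ => Nat) (Ptab_s_0_41 c) (Ptab_s_41_82 c) (Nat.ble 41 c)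
noncomputable def Ptab_s_82_84 (c : Nat) : Nat := @Bool.rec (fun _ => Nat) (Ptab_82) (Ptab_83) (Nat.ble 83 c)
noncomputable def Ptab_s_85_87 (c : Nat) : Nat := @Bool.rec (fun _ => Nat) (Ptab_85) (Ptab_86) (Nat.ble 86 c)
noncomputable def Ptab_s_84_87 (c : Nat) : Nat := @Bool.rec (fun _ => Nat) (Ptab_84) (Ptab_s_85_87 c) (Nat.ble 85 c)
noncomputable def Ptab_s_82_87 (c : Nat) : Nat := @Bool.rec (fun _ => Nat) (Ptab_s_82_84 c) (Ptab_s_84_87 c) (Nat.ble 84 c)
noncomputable def Ptab_s_87_89 (c : Nat) : Nat := @Bool.rec (fun _ => Nat) (Ptab_87) (Ptab_88) (Nat.ble 88 c)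
noncomputable def Ptab_s_90_92 (c : Nat) : Nat := @Bool.rec (fun _ => Nat) (Ptab_90) (Ptab_91) (Nat.ble 91 c)
noncomputable def Ptab_s_89_92 (c : Nat) : Nat := @Bool.rec (fun _ => Nat) (Ptab_89) (Ptab_s_90_92 c) (Nat.ble 90 c)
noncomputable def Ptab_s_87_92 (c : Nat) : Nat := @Bool.rec (fun _ => Nat) (Ptab_s_87_89 c) (Ptab_s_89_92 c) (Nat.ble 89 c)
noncomputable def Ptab_s_82_92 (c : Nat) : Nat := @Bool.rec (fun _ => Nat) (Ptab_s_82_87 c) (Ptab_s_87_92 c) (Nat.ble 87 c)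
noncomputable def Ptab_s_92_94 (c : Nat) : Nat := @Bool.rec (fun _ => Nat) (Ptab_92) (Ptab_93) (Nat.ble 93 c)
noncomputable def Ptab_s_95_97 (c : Nat) : Nat := @Bool.rec (fun _ => Nat) (Ptab_95) (Ptab_96) (Nat.ble 96 c)
noncomputable def Ptab_s_94_97 (c : Nat) : Nat := @Bool.rec (fun _ => Nat) (Ptab_94) (Ptab_s_95_97 c) (Nat.ble 95 c)
noncomputable def Ptab_s_92_97 (c : Nat) : Nat := @Bool.rec (fun _ => Nat) (Ptab_s_92_94 c) (Ptab_s_94_97 c) (Nat.ble 94 c)
noncomputable def Ptab_s_97_99 (c : Nat) : Nat := @Bool.rec (fun _ => Nat) (Ptab_97) (Ptab_98) (Nat.ble 98 c)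
noncomputable def Ptab_s_100_102 (c : Nat) : Nat := @Bool.rec (fun _ => Nat) (Ptab_100) (Ptab_101) (Nat.ble 101 c)
noncomputable def Ptab_s_99_102 (c : Nat) : Nat := @Bool.rec (fun _ => Nat) (Ptab_99) (Ptab_s_100_102 c) (Nat.ble 100 c)
noncomputable def Ptab_s_97_102 (c : Nat) : Nat := @Bool.rec (fun _ => Nat) (Ptab_s_97_99 c) (Ptab_s_99_102 c) (Nat.ble 99 c)
noncomputable def Ptab_s_92_102 (c : Nat) : Nat := @Bool.rec (fun _ => Nat) (Ptab_s_92_97 c) (Ptab_s_97_102 c) (Nat.ble 97 c)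
noncomputable def Ptab_s_82_102 (c : Nat) : Nat := @Bool.rec (fun _ => Nat) (Ptab_s_82_92 c) (Ptab_s_92_102 c) (Nat.ble 92 c)
noncomputable def Ptab_s_102_104 (c : Nat) : Nat := @Bool.rec (fun _ => Nat) (Ptab_102) (Ptab_103) (Nat.ble 103 c)
noncomputable def Ptab_s_105_107 (c : Nat) : Nat := @Bool.rec (fun _ => Nat) (Ptab_105) (Ptab_106) (Nat.ble 106 c)
noncomputable def Ptab_s_104_107 (c : Nat) : Nat := @Bool.rec (fun _ => Nat) (Ptab_104) (Ptab_s_105_107 c) (Nat.ble 105 c)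
noncomputable def Ptab_s_102_107 (c : Nat) : Nat := @Bool.rec (fun _ => Nat) (Ptab_s_102_104 c) (Ptab_s_104_107 c) (Nat.ble 104 c)
noncomputable def Ptab_s_107_109 (c : Nat) : Nat := @Bool.rec (fun _ => Nat) (Ptab_107) (Ptab_108) (Nat.ble 108 c)
noncomputable def Ptab_s_110_112 (c : Nat) : Nat := @Bool.rec (fun _ => Nat) (Ptab_110) (Ptab_111) (Nat.ble 111 c)
noncomputable def Ptab_s_109_112 (c : Nat) : Nat := @Bool.rec (fun _ => Nat) (Ptab_109) (Ptab_s_110_112 c) (Nat.ble 110 c)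
noncomputable def Ptab_s_107_112 (c : Nat) : Nat := @Bool.rec (fun _ => Nat) (Ptab_s_107_109 c) (Ptab_s_109_112 c) (Nat.ble 109 c)
noncomputable def Ptab_s_102_112 (c : Nat) : Nat := @Bool.rec (fun _ => Nat) (Ptab_s_102_107 c) (Ptab_s_107_112 c) (Nat.ble 107 c)
noncomputable def Ptab_s_112_114 (c : Nat) : Nat := @Bool.rec (fun _ => Nat) (Ptab_112) (Ptab_113) (Nat.ble 113 c)
noncomputable def Ptab_s_115_117 (c : Nat) : Nat := @Bool.rec (fun _ => Nat) (Ptab_115) (Ptab_116) (Nat.ble 116 c)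
noncomputable def Ptab_s_114_117 (c : Nat) : Nat := @Bool.rec (fun _ => Nat) (Ptab_114) (Ptab_s_115_117 c) (Nat.ble 115 c)
noncomputable def Ptab_s_112_117 (c : Nat) : Nat := @Bool.rec (fun _ => Nat) (Ptab_s_112_114 c) (Ptab_s_114_117 c) (Nat.ble 114 c)
noncomputable def Ptab_s_118_120 (c : Nat) : Nat := @Bool.rec (fun _ => Nat) (Ptab_118) (Ptab_119) (Nat.ble 119 c)
noncomputable def Ptab_s_117_120 (c : Nat) : Nat := @Bool.rec (fun _ => Nat) (Ptab_117) (Ptab_s_118_120 c) (Nat.ble 118 c)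
noncomputable def Ptab_s_121_123 (c : Nat) : Nat := @Bool.rec (fun _ => Nat) (Ptab_121) (Ptab_122) (Nat.ble 122 c)
noncomputable def Ptab_s_120_123 (c : Nat) : Nat := @Bool.rec (fun _ => Nat) (Ptab_120) (Ptab_s_121_123 c) (Nat.ble 121 c)
noncomputable def Ptab_s_117_123 (c : Nat) : Nat := @Bool.rec (fun _ => Nat) (Ptab_s_117_120 c) (Ptab_s_120_123 c) (Nat.ble 120 c)
noncomputable def Ptab_s_112_123 (c : Nat) : Nat := @Bool.rec (fun _ => Nat) (Ptab_s_112_117 c) (Ptab_s_117_123 c) (Nat.ble 117 c)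
noncomputable def Ptab_s_102_123 (c : Nat) : Nat := @Bool.rec (fun _ => Nat) (Ptab_s_102_112 c) (Ptab_s_112_123 c) (Nat.ble 112 c)
noncomputable def Ptab_s_82_123 (c : Nat) : Nat := @Bool.rec (fun _ => Nat) (Ptab_s_82_102 c) (Ptab_s_102_123 c) (Nat.ble 102 c)
noncomputable def Ptab_s_123_125 (c : Nat) : Nat := @Bool.rec (fun _ => Nat) (Ptab_123) (Ptab_124) (Nat.ble 124 c)
noncomputable def Ptab_s_126_128 (c : Nat) : Nat := @Bool.rec (fun _ => Nat) (Ptab_126) (Ptab_127) (Nat.ble 127 c)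
noncomputable def Ptab_s_125_128 (c : Nat) : Nat := @Bool.rec (fun _ => Nat) (Ptab_125) (Ptab_s_126_128 c) (Nat.ble 126 c)
noncomputable def Ptab_s_123_128 (c : Nat) : Nat := @Bool.rec (fun _ => Nat) (Ptab_s_123_125 c) (Ptab_s_125_128 c) (Nat.ble 125 c)
noncomputable def Ptab_s_128_130 (c : Nat) : Nat := @Bool.rec (fun _ => Nat) (Ptab_128) (Ptab_129) (Nat.ble 129 c)
noncomputable def Ptab_s_131_133 (c : Nat) : Nat := @Bool.rec (fun _ => Nat) (Ptab_131) (Ptab_132) (Nat.ble 132 c)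
noncomputable def Ptab_s_130_133 (c : Nat) : Nat := @Bool.rec (fun _ => Nat) (Ptab_130) (Ptab_s_131_133 c) (Nat.ble 131 c)
noncomputable def Ptab_s_128_133 (c : Nat) : Nat := @Bool.rec (fun _ => Nat) (Ptab_s_128_130 c) (Ptab_s_130_133 c) (Nat.ble 130 c)
noncomputable def Ptab_s_123_133 (c : Nat) : Nat := @Bool.rec (fun _ => Nat) (Ptab_s_123_128 c) (Ptab_s_128_133 c) (Nat.ble 128 c)
noncomputable def Ptab_s_133_135 (c : Nat) : Nat := @Bool.rec (fun _ => Nat) (Ptab_133) (Ptab_134) (Nat.ble 134 c)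
noncomputable def Ptab_s_136_138 (c : Nat) : Nat := @Bool.rec (fun _ => Nat) (Ptab_136) (Ptab_137) (Nat.ble 137 c)
noncomputable def Ptab_s_135_138 (c : Nat) : Nat := @Bool.rec (fun _ => Nat) (Ptab_135) (Ptab_s_136_138 c) (Nat.ble 136 c)
noncomputable def Ptab_s_133_138 (c : Nat) : Nat := @Bool.rec (fun _ => Nat) (Ptab_s_133_135 c) (Ptab_s_135_138 c) (Nat.ble 135 c)
noncomputable def Ptab_s_139_141 (c : Nat) : Nat := @Bool.rec (fun _ => Nat) (Ptab_139) (Ptab_140) (Nat.ble 140 c)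
noncomputable def Ptab_s_138_141 (c : Nat) : Nat := @Bool.rec (fun _ => Nat) (Ptab_138) (Ptab_s_139_141 c) (Nat.ble 139 c)
noncomputable def Ptab_s_142_144 (c : Nat) : Nat := @Bool.rec (fun _ => Nat) (Ptab_142) (Ptab_143) (Nat.ble 143 c)
noncomputable def Ptab_s_141_144 (c : Nat) : Nat := @Bool.rec (fun _ => Nat) (Ptab_141) (Ptab_s_142_144 c) (Nat.ble 142 c)
noncomputable def Ptab_s_138_144 (c : Nat) : Nat := @Bool.rec (fun _ => Nat) (Ptab_s_138_141 c) (Ptab_s_141_144 c) (Nat.ble 141 c)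
noncomputable def Ptab_s_133_144 (c : Nat) : Nat := @Bool.rec (fun _ => Nat) (Ptab_s_133_138 c) (Ptab_s_138_144 c) (Nat.ble 138 c)
noncomputable def Ptab_s_123_144 (c : Nat) : Nat := @Bool.rec (fun _ => Nat) (Ptab_s_123_133 c) (Ptab_s_133_144 c) (Nat.ble 133 c)
noncomputable def Ptab_s_144_146 (c : Nat) : Nat := @Bool.rec (fun _ => Nat) (Ptab_144) (Ptab_145) (Nat.ble 145 c)
noncomputable def Ptab_s_147_149 (c : Nat) : Nat := @Bool.rec (fun _ => Nat) (Ptab_147) (Ptab_148) (Nat.ble 148 c)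
noncomputable def Ptab_s_146_149 (c : Nat) : Nat := @Bool.rec (fun _ => Nat) (Ptab_146) (Ptab_s_147_149 c) (Nat.ble 147 c)
noncomputable def Ptab_s_144_149 (c : Nat) : Nat := @Bool.rec (fun _ => Nat) (Ptab_s_144_146 c) (Ptab_s_146_149 c) (Nat.ble 146 c)
noncomputable def Ptab_s_149_151 (c : Nat) : Nat := @Bool.rec (fun _ => Nat) (Ptab_149) (Ptab_150) (Nat.ble 150 c)
noncomputable def Ptab_s_152_154 (c : Nat) : Nat := @Bool.rec (fun _ => Nat) (Ptab_152) (Ptab_153) (Nat.ble 153 c)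
noncomputable def Ptab_s_151_154 (c : Nat) : Nat := @Bool.rec (fun _ => Nat) (Ptab_151) (Ptab_s_152_154 c) (Nat.ble 152 c)
noncomputable def Ptab_s_149_154 (c : Nat) : Nat := @Bool.rec (fun _ => Nat) (Ptab_s_149_151 c) (Ptab_s_151_154 c) (Nat.ble 151 c)
noncomputable def Ptab_s_144_154 (c : Nat) : Nat := @Bool.rec (fun _ => Nat) (Ptab_s_144_149 c) (Ptab_s_149_154 c) (Nat.ble 149 c)
noncomputable def Ptab_s_154_156 (c : Nat) : Nat := @Bool.rec (fun _ => Nat) (Ptab_154) (Ptab_155) (Nat.ble 155 c)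
noncomputable def Ptab_s_157_159 (c : Nat) : Nat := @Bool.rec (fun _ => Nat) (Ptab_157) (Ptab_158) (Nat.ble 158 c)
noncomputable def Ptab_s_156_159 (c : Nat) : Nat := @Bool.rec (fun _ => Nat) (Ptab_156) (Ptab_s_157_159 c) (Nat.ble 157 c)
noncomputable def Ptab_s_154_159 (c : Nat) : Nat := @Bool.rec (fun _ => Nat) (Ptab_s_154_156 c) (Ptab_s_156_159 c) (Nat.ble 156 c)
noncomputable def Ptab_s_160_162 (c : Nat) : Nat := @Bool.rec (fun _ => Nat) (Ptab_160) (Ptab_161) (Nat.ble 161 c)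
noncomputable def Ptab_s_159_162 (c : Nat) : Nat := @Bool.rec (fun _ => Nat) (Ptab_159) (Ptab_s_160_162 c) (Nat.ble 160 c)
noncomputable def Ptab_s_163_165 (c : Nat) : Nat := @Bool.rec (fun _ => Nat) (Ptab_163) (Ptab_164) (Nat.ble 164 c)
noncomputable def Ptab_s_162_165 (c : Nat) : Nat := @Bool.rec (fun _ => Nat) (Ptab_162) (Ptab_s_163_165 c) (Nat.ble 163 c)
noncomputable def Ptab_s_159_165 (c : Nat) : Nat := @Bool.rec (fun _ => Nat) (Ptab_s_159_162 c) (Ptab_s_162_165 c) (Nat.ble 162 c)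
noncomputable def Ptab_s_154_165 (c : Nat) : Nat := @Bool.rec (fun _ => Nat) (Ptab_s_154_159 c) (Ptab_s_159_165 c) (Nat.ble 159 c)
noncomputable def Ptab_s_144_165 (c : Nat) : Nat := @Bool.rec (fun _ => Nat) (Ptab_s_144_154 c) (Ptab_s_154_165 c) (Nat.ble 154 c)
noncomputable def Ptab_s_123_165 (c : Nat) : Nat := @Bool.rec (fun _ => Nat) (Ptab_s_123_144 c) (Ptab_s_144_165 c) (Nat.ble 144 c)
noncomputable def Ptab_s_82_165 (c : Nat) : Nat := @Bool.rec (fun _ => Nat) (Ptab_s_82_123 c) (Ptab_s_123_165 c) (Nat.ble 123 c)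
noncomputable def Ptab_s_0_165 (c : Nat) : Nat := @Bool.rec (fun _ => Nat) (Ptab_s_0_82 c) (Ptab_s_82_165 c) (Nat.ble 82 c)
noncomputable def Ptab_s_165_167 (c : Nat) : Nat := @Bool.rec (fun _ => Nat) (Ptab_165) (Ptab_166) (Nat.ble 166 c)
noncomputable def Ptab_s_168_170 (c : Nat) : Nat := @Bool.rec (fun _ => Nat) (Ptab_168) (Ptab_169) (Nat.ble 169 c)
noncomputable def Ptab_s_167_170 (c : Nat) : Nat := @Bool.rec (fun _ => Nat) (Ptab_167) (Ptab_s_168_170 c) (Nat.ble 168 c)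
noncomputable def Ptab_s_165_170 (c : Nat) : Nat := @Bool.rec (fun _ => Nat) (Ptab_s_165_167 c) (Ptab_s_167_170 c) (Nat.ble 167 c)
noncomputable def Ptab_s_170_172 (c : Nat) : Nat := @Bool.rec (fun _ => Nat) (Ptab_170) (Ptab_171) (Nat.ble 171 c)
noncomputable def Ptab_s_173_175 (c : Nat) : Nat := @Bool.rec (fun _ => Nat) (Ptab_173) (Ptab_174) (Nat.ble 174 c)
noncomputable def Ptab_s_172_175 (c : Nat) : Nat := @Bool.rec (fun _ => Nat) (Ptab_172) (Ptab_s_173_175 c) (Nat.ble 173 c)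
noncomputable def Ptab_s_170_175 (c : Nat) : Nat := @Bool.rec (fun _ => Nat) (Ptab_s_170_172 c) (Ptab_s_172_175 c) (Nat.ble 172 c)
noncomputable def Ptab_s_165_175 (c : Nat) : Nat := @Bool.rec (fun _ => Nat) (Ptab_s_165_170 c) (Ptab_s_170_175 c) (Nat.ble 170 c)
noncomputable def Ptab_s_175_177 (c : Nat) : Nat := @Bool.rec (fun _ => Nat) (Ptab_175) (Ptab_176) (Nat.ble 176 c)
noncomputable def Ptab_s_178_180 (c : Nat) : Nat := @Bool.rec (fun _ => Nat) (Ptab_178) (Ptab_179) (Nat.ble 179 c)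
noncomputable def Ptab_s_177_180 (c : Nat) : Nat := @Bool.rec (fun _ => Nat) (Ptab_177) (Ptab_s_178_180 c) (Nat.ble 178 c)
noncomputable def Ptab_s_175_180 (c : Nat) : Nat := @Bool.rec (fun _ => Nat) (Ptab_s_175_177 c) (Ptab_s_177_180 c) (Nat.ble 177 c)
noncomputable def Ptab_s_180_182 (c : Nat) : Nat := @Bool.rec (fun _ => Nat) (Ptab_180) (Ptab_181) (Nat.ble 181 c)
noncomputable def Ptab_s_183_185 (c : Nat) : Nat := @Bool.rec (fun _ => Nat) (Ptab_183) (Ptab_184) (Nat.ble 184 c)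
noncomputable def Ptab_s_182_185 (c : Nat) : Nat := @Bool.rec (fun _ => Nat) (Ptab_182) (Ptab_s_183_185 c) (Nat.ble 183 c)
noncomputable def Ptab_s_180_185 (c : Nat) : Nat := @Bool.rec (fun _ => Nat) (Ptab_s_180_182 c) (Ptab_s_182_185 c) (Nat.ble 182 c)
noncomputable def Ptab_s_175_185 (c : Nat) : Nat := @Bool.rec (fun _ => Nat) (Ptab_s_175_180 c) (Ptab_s_180_185 c) (Nat.ble 180 c)
noncomputable def Ptab_s_165_185 (c : Nat) : Nat := @Bool.rec (fun _ => Nat) (Ptab_s_165_175 c) (Ptab_s_175_185 c) (Nat.ble 175 c)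
noncomputable def Ptab_s_185_187 (c : Nat) : Nat := @Bool.rec (fun _ => Nat) (Ptab_185) (Ptab_186) (Nat.ble 186 c)
noncomputable def Ptab_s_188_190 (c : Nat) : Nat := @Bool.rec (fun _ => Nat) (Ptab_188) (Ptab_189) (Nat.ble 189 c)
noncomputable def Ptab_s_187_190 (c : Nat) : Nat := @Bool.rec (fun _ => Nat) (Ptab_187) (Ptab_s_188_190 c) (Nat.ble 188 c)
noncomputable def Ptab_s_185_190 (c : Nat) : Nat := @Bool.rec (fun _ => Nat) (Ptab_s_185_187 c) (Ptab_s_187_190 c) (Nat.ble 187 c)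
noncomputable def Ptab_s_190_192 (c : Nat) : Nat := @Bool.rec (fun _ => Nat) (Ptab_190) (Ptab_191) (Nat.ble 191 c)
noncomputable def Ptab_s_193_195 (c : Nat) : Nat := @Bool.rec (fun _ => Nat) (Ptab_193) (Ptab_194) (Nat.ble 194 c)
noncomputable def Ptab_s_192_195 (c : Nat) : Nat := @Bool.rec (fun _ => Nat) (Ptab_192) (Ptab_s_193_195 c) (Nat.ble 193 c)
noncomputable def Ptab_s_190_195 (c : Nat) : Nat := @Bool.rec (fun _ => Nat) (Ptab_s_190_192 c) (Ptab_s_192_195 c) (Nat.ble 192 c)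
noncomputable def Ptab_s_185_195 (c : Nat) : Nat := @Bool.rec (fun _ => Nat) (Ptab_s_185_190 c) (Ptab_s_190_195 c) (Nat.ble 190 c)
noncomputable def Ptab_s_195_197 (c : Nat) : Nat := @Bool.rec (fun _ => Nat) (Ptab_195) (Ptab_196) (Nat.ble 196 c)
noncomputable def Ptab_s_198_200 (c : Nat) : Nat := @Bool.rec (fun _ => Nat) (Ptab_198) (Ptab_199) (Nat.ble 199 c)
noncomputable def Ptab_s_197_200 (c : Nat) : Nat := @Bool.rec (fun _ => Nat) (Ptab_197) (Ptab_s_198_200 c) (Nat.ble 198 c)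
noncomputable def Ptab_s_195_200 (c : Nat) : Nat := @Bool.rec (fun _ => Nat) (Ptab_s_195_197 c) (Ptab_s_197_200 c) (Nat.ble 197 c)
noncomputable def Ptab_s_201_203 (c : Nat) : Nat := @Bool.rec (fun _ => Nat) (Ptab_201) (Ptab_202) (Nat.ble 202 c)
noncomputable def Ptab_s_200_203 (c : Nat) : Nat := @Bool.rec (fun _ => Nat) (Ptab_200) (Ptab_s_201_203 c) (Nat.ble 201 c)
noncomputable def Ptab_s_204_206 (c : Nat) : Nat := @Bool.rec (fun _ => Nat) (Ptab_204) (Ptab_205) (Nat.ble 205 c)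
noncomputable def Ptab_s_203_206 (c : Nat) : Nat := @Bool.rec (fun _ => Nat) (Ptab_203) (Ptab_s_204_206 c) (Nat.ble 204 c)
noncomputable def Ptab_s_200_206 (c : Nat) : Nat := @Bool.rec (fun _ => Nat) (Ptab_s_200_203 c) (Ptab_s_203_206 c) (Nat.ble 203 c)
noncomputable def Ptab_s_195_206 (c : Nat) : Nat := @Bool.rec (fun _ => Nat) (Ptab_s_195_200 c) (Ptab_s_200_206 c) (Nat.ble 200 c)
noncomputable def Ptab_s_185_206 (c : Nat) : Nat := @Bool.rec (fun _ => Nat) (Ptab_s_185_195 c) (Ptab_s_195_206 c) (Nat.ble 195 c)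
noncomputable def Ptab_s_165_206 (c : Nat) : Nat := @Bool.rec (fun _ => Nat) (Ptab_s_165_185 c) (Ptab_s_185_206 c) (Nat.ble 185 c)
noncomputable def Ptab_s_206_208 (c : Nat) : Nat := @Bool.rec (fun _ => Nat) (Ptab_206) (Ptab_207) (Nat.ble 207 c)
noncomputable def Ptab_s_209_211 (c : Nat) : Nat := @Bool.rec (fun _ => Nat) (Ptab_209) (Ptab_210) (Nat.ble 210 c)
noncomputable def Ptab_s_208_211 (c : Nat) : Nat := @Bool.rec (fun _ => Nat) (Ptab_208) (Ptab_s_209_211 c) (Nat.ble 209 c)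
noncomputable def Ptab_s_206_211 (c : Nat) : Nat := @Bool.rec (fun _ => Nat) (Ptab_s_206_208 c) (Ptab_s_208_211 c) (Nat.ble 208 c)
noncomputable def Ptab_s_211_213 (c : Nat) : Nat := @Bool.rec (fun _ => Nat) (Ptab_211) (Ptab_212) (Nat.ble 212 c)
noncomputable def Ptab_s_214_216 (c : Nat) : Nat := @Bool.rec (fun _ => Nat) (Ptab_214) (Ptab_215) (Nat.ble 215 c)
noncomputable def Ptab_s_213_216 (c : Nat) : Nat := @Bool.rec (fun _ => Nat) (Ptab_213) (Ptab_s_214_216 c) (Nat.ble 214 c)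
noncomputable def Ptab_s_211_216 (c : Nat) : Nat := @Bool.rec (fun _ => Nat) (Ptab_s_211_213 c) (Ptab_s_213_216 c) (Nat.ble 213 c)
noncomputable def Ptab_s_206_216 (c : Nat) : Nat := @Bool.rec (fun _ => Nat) (Ptab_s_206_211 c) (Ptab_s_211_216 c) (Nat.ble 211 c)
noncomputable def Ptab_s_216_218 (c : Nat) : Nat := @Bool.rec (fun _ => Nat) (Ptab_216) (Ptab_217) (Nat.ble 217 c)
noncomputable def Ptab_s_219_221 (c : Nat) : Nat := @Bool.rec (fun _ => Nat) (Ptab_219) (Ptab_220) (Nat.ble 220 c)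
noncomputable def Ptab_s_218_221 (c : Nat) : Nat := @Bool.rec (fun _ => Nat) (Ptab_218) (Ptab_s_219_221 c) (Nat.ble 219 c)
noncomputable def Ptab_s_216_221 (c : Nat) : Nat := @Bool.rec (fun _ => Nat) (Ptab_s_216_218 c) (Ptab_s_218_221 c) (Nat.ble 218 c)
noncomputable def Ptab_s_222_224 (c : Nat) : Nat := @Bool.rec (fun _ => Nat) (Ptab_222) (Ptab_223) (Nat.ble 223 c)
noncomputable def Ptab_s_221_224 (c : Nat) : Nat := @Bool.rec (fun _ => Nat) (Ptab_221) (Ptab_s_222_224 c) (Nat.ble 222 c)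
noncomputable def Ptab_s_225_227 (c : Nat) : Nat := @Bool.rec (fun _ => Nat) (Ptab_225) (Ptab_226) (Nat.ble 226 c)
noncomputable def Ptab_s_224_227 (c : Nat) : Nat := @Bool.rec (fun _ => Nat) (Ptab_224) (Ptab_s_225_227 c) (Nat.ble 225 c)
noncomputable def Ptab_s_221_227 (c : Nat) : Nat := @Bool.rec (fun _ => Nat) (Ptab_s_221_224 c) (Ptab_s_224_227 c) (Nat.ble 224 c)
noncomputable def Ptab_s_216_227 (c : Nat) : Nat := @Bool.rec (fun _ => Nat) (Ptab_s_216_221 c) (Ptab_s_221_227 c) (Nat.ble 221 c)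
noncomputable def Ptab_s_206_227 (c : Nat) : Nat := @Bool.rec (fun _ => Nat) (Ptab_s_206_216 c) (Ptab_s_216_227 c) (Nat.ble 216 c)
noncomputable def Ptab_s_227_229 (c : Nat) : Nat := @Bool.rec (fun _ => Nat) (Ptab_227) (Ptab_228) (Nat.ble 228 c)
noncomputable def Ptab_s_230_232 (c : Nat) : Nat := @Bool.rec (fun _ => Nat) (Ptab_230) (Ptab_231) (Nat.ble 231 c)
noncomputable def Ptab_s_229_232 (c : Nat) : Nat := @Bool.rec (fun _ => Nat) (Ptab_229) (Ptab_s_230_232 c) (Nat.ble 230 c)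
noncomputable def Ptab_s_227_232 (c : Nat) : Nat := @Bool.rec (fun _ => Nat) (Ptab_s_227_229 c) (Ptab_s_229_232 c) (Nat.ble 229 c)
noncomputable def Ptab_s_232_234 (c : Nat) : Nat := @Bool.rec (fun _ => Nat) (Ptab_232) (Ptab_233) (Nat.ble 233 c)
noncomputable def Ptab_s_235_237 (c : Nat) : Nat := @Bool.rec (fun _ => Nat) (Ptab_235) (Ptab_236) (Nat.ble 236 c)
noncomputable def Ptab_s_234_237 (c : Nat) : Nat := @Bool.rec (fun _ => Nat) (Ptab_234) (Ptab_s_235_237 c) (Nat.ble 235 c)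
noncomputable def Ptab_s_232_237 (c : Nat) : Nat := @Bool.rec (fun _ => Nat) (Ptab_s_232_234 c) (Ptab_s_234_237 c) (Nat.ble 234 c)
noncomputable def Ptab_s_227_237 (c : Nat) : Nat := @Bool.rec (fun _ => Nat) (Ptab_s_227_232 c) (Ptab_s_232_237 c) (Nat.ble 232 c)
noncomputable def Ptab_s_237_239 (c : Nat) : Nat := @Bool.rec (fun _ => Nat) (Ptab_237) (Ptab_238) (Nat.ble 238 c)
noncomputable def Ptab_s_240_242 (c : Nat) : Nat := @Bool.rec (fun _ => Nat) (Ptab_240) (Ptab_241) (Nat.ble 241 c)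
noncomputable def Ptab_s_239_242 (c : Nat) : Nat := @Bool.rec (fun _ => Nat) (Ptab_239) (Ptab_s_240_242 c) (Nat.ble 240 c)
noncomputable def Ptab_s_237_242 (c : Nat) : Nat := @Bool.rec (fun _ => Nat) (Ptab_s_237_239 c) (Ptab_s_239_242 c) (Nat.ble 239 c)
noncomputable def Ptab_s_243_245 (c : Nat) : Nat := @Bool.rec (fun _ => Nat) (Ptab_243) (Ptab_244) (Nat.ble 244 c)
noncomputable def Ptab_s_242_245 (c : Nat) : Nat := @Bool.rec (fun _ => Nat) (Ptab_242) (Ptab_s_243_245 c) (Nat.ble 243 c)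
noncomputable def Ptab_s_246_248 (c : Nat) : Nat := @Bool.rec (fun _ => Nat) (Ptab_246) (Ptab_247) (Nat.ble 247 c)
noncomputable def Ptab_s_245_248 (c : Nat) : Nat := @Bool.rec (fun _ => Nat) (Ptab_245) (Ptab_s_246_248 c) (Nat.ble 246 c)
noncomputable def Ptab_s_242_248 (c : Nat) : Nat := @Bool.rec (fun _ => Nat) (Ptab_s_242_245 c) (Ptab_s_245_248 c) (Nat.ble 245 c)
noncomputable def Ptab_s_237_248 (c : Nat) : Nat := @Bool.rec (fun _ => Nat) (Ptab_s_237_242 c) (Ptab_s_242_248 c) (Nat.ble 242 c)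
noncomputable def Ptab_s_227_248 (c : Nat) : Nat := @Bool.rec (fun _ => Nat) (Ptab_s_227_237 c) (Ptab_s_237_248 c) (Nat.ble 237 c)
noncomputable def Ptab_s_206_248 (c : Nat) : Nat := @Bool.rec (fun _ => Nat) (Ptab_s_206_227 c) (Ptab_s_227_248 c) (Nat.ble 227 c)
noncomputable def Ptab_s_165_248 (c : Nat) : Nat := @Bool.rec (fun _ => Nat) (Ptab_s_165_206 c) (Ptab_s_206_248 c) (Nat.ble 206 c)
noncomputable def Ptab_s_248_250 (c : Nat) : Nat := @Bool.rec (fun _ => Nat) (Ptab_248) (Ptab_249) (Nat.ble 249 c)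
noncomputable def Ptab_s_251_253 (c : Nat) : Nat := @Bool.rec (fun _ => Nat) (Ptab_251) (Ptab_252) (Nat.ble 252 c)
noncomputable def Ptab_s_250_253 (c : Nat) : Nat := @Bool.rec (fun _ => Nat) (Ptab_250) (Ptab_s_251_253 c) (Nat.ble 251 c)
noncomputable def Ptab_s_248_253 (c : Nat) : Nat := @Bool.rec (fun _ => Nat) (Ptab_s_248_250 c) (Ptab_s_250_253 c) (Nat.ble 250 c)
noncomputable def Ptab_s_253_255 (c : Nat) : Nat := @Bool.rec (fun _ => Nat) (Ptab_253) (Ptab_254) (Nat.ble 254 c)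
noncomputable def Ptab_s_256_258 (c : Nat) : Nat := @Bool.rec (fun _ => Nat) (Ptab_256) (Ptab_257) (Nat.ble 257 c)
noncomputable def Ptab_s_255_258 (c : Nat) : Nat := @Bool.rec (fun _ => Nat) (Ptab_255) (Ptab_s_256_258 c) (Nat.ble 256 c)
noncomputable def Ptab_s_253_258 (c : Nat) : Nat := @Bool.rec (fun _ => Nat) (Ptab_s_253_255 c) (Ptab_s_255_258 c) (Nat.ble 255 c)
noncomputable def Ptab_s_248_258 (c : Nat) : Nat := @Bool.rec (fun _ => Nat) (Ptab_s_248_253 c) (Ptab_s_253_258 c) (Nat.ble 253 c)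
noncomputable def Ptab_s_258_260 (c : Nat) : Nat := @Bool.rec (fun _ => Nat) (Ptab_258) (Ptab_259) (Nat.ble 259 c)
noncomputable def Ptab_s_261_263 (c : Nat) : Nat := @Bool.rec (fun _ => Nat) (Ptab_261) (Ptab_262) (Nat.ble 262 c)
noncomputable def Ptab_s_260_263 (c : Nat) : Nat := @Bool.rec (fun _ => Nat) (Ptab_260) (Ptab_s_261_263 c) (Nat.ble 261 c)
noncomputable def Ptab_s_258_263 (c : Nat) : Nat := @Bool.rec (fun _ => Nat) (Ptab_s_258_260 c) (Ptab_s_260_263 c) (Nat.ble 260 c)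
noncomputable def Ptab_s_263_265 (c : Nat) : Nat := @Bool.rec (fun _ => Nat) (Ptab_263) (Ptab_264) (Nat.ble 264 c)
noncomputable def Ptab_s_266_268 (c : Nat) : Nat := @Bool.rec (fun _ => Nat) (Ptab_266) (Ptab_267) (Nat.ble 267 c)
noncomputable def Ptab_s_265_268 (c : Nat) : Nat := @Bool.rec (fun _ => Nat) (Ptab_265) (Ptab_s_266_268 c) (Nat.ble 266 c)
noncomputable def Ptab_s_263_268 (c : Nat) : Nat := @Bool.rec (fun _ => Nat) (Ptab_s_263_265 c) (Ptab_s_265_268 c) (Nat.ble 265 c)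
noncomputable def Ptab_s_258_268 (c : Nat) : Nat := @Bool.rec (fun _ => Nat) (Ptab_s_258_263 c) (Ptab_s_263_268 c) (Nat.ble 263 c)
noncomputable def Ptab_s_248_268 (c : Nat) : Nat := @Bool.rec (fun _ => Nat) (Ptab_s_248_258 c) (Ptab_s_258_268 c) (Nat.ble 258 c)
noncomputable def Ptab_s_268_270 (c : Nat) : Nat := @Bool.rec (fun _ => Nat) (Ptab_268) (Ptab_269) (Nat.ble 269 c)
noncomputable def Ptab_s_271_273 (c : Nat) : Nat := @Bool.rec (fun _ => Nat) (Ptab_271) (Ptab_272) (Nat.ble 272 c)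
noncomputable def Ptab_s_270_273 (c : Nat) : Nat := @Bool.rec (fun _ => Nat) (Ptab_270) (Ptab_s_271_273 c) (Nat.ble 271 c)
noncomputable def Ptab_s_268_273 (c : Nat) : Nat := @Bool.rec (fun _ => Nat) (Ptab_s_268_270 c) (Ptab_s_270_273 c) (Nat.ble 270 c)
noncomputable def Ptab_s_273_275 (c : Nat) : Nat := @Bool.rec (fun _ => Nat) (Ptab_273) (Ptab_274) (Nat.ble 274 c)
noncomputable def Ptab_s_276_278 (c : Nat) : Nat := @Bool.rec (fun _ => Nat) (Ptab_276) (Ptab_277) (Nat.ble 277 c)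
noncomputable def Ptab_s_275_278 (c : Nat) : Nat := @Bool.rec (fun _ => Nat) (Ptab_275) (Ptab_s_276_278 c) (Nat.ble 276 c)
noncomputable def Ptab_s_273_278 (c : Nat) : Nat := @Bool.rec (fun _ => Nat) (Ptab_s_273_275 c) (Ptab_s_275_278 c) (Nat.ble 275 c)
noncomputable def Ptab_s_268_278 (c : Nat) : Nat := @Bool.rec (fun _ => Nat) (Ptab_s_268_273 c) (Ptab_s_273_278 c) (Nat.ble 273 c)
noncomputable def Ptab_s_278_280 (c : Nat) : Nat := @Bool.rec (fun _ => Nat) (Ptab_278) (Ptab_279) (Nat.ble 279 c)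
noncomputable def Ptab_s_281_283 (c : Nat) : Nat := @Bool.rec (fun _ => Nat) (Ptab_281) (Ptab_282) (Nat.ble 282 c)
noncomputable def Ptab_s_280_283 (c : Nat) : Nat := @Bool.rec (fun _ => Nat) (Ptab_280) (Ptab_s_281_283 c) (Nat.ble 281 c)
noncomputable def Ptab_s_278_283 (c : Nat) : Nat := @Bool.rec (fun _ => Nat) (Ptab_s_278_280 c) (Ptab_s_280_283 c) (Nat.ble 280 c)
noncomputable def Ptab_s_284_286 (c : Nat) : Nat := @Bool.rec (fun _ => Nat) (Ptab_284) (Ptab_285) (Nat.ble 285 c)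
noncomputable def Ptab_s_283_286 (c : Nat) : Nat := @Bool.rec (fun _ => Nat) (Ptab_283) (Ptab_s_284_286 c) (Nat.ble 284 c)
noncomputable def Ptab_s_287_289 (c : Nat) : Nat := @Bool.rec (fun _ => Nat) (Ptab_287) (Ptab_288) (Nat.ble 288 c)
noncomputable def Ptab_s_286_289 (c : Nat) : Nat := @Bool.rec (fun _ => Nat) (Ptab_286) (Ptab_s_287_289 c) (Nat.ble 287 c)
noncomputable def Ptab_s_283_289 (c : Nat) : Nat := @Bool.rec (fun _ => Nat) (Ptab_s_283_286 c) (Ptab_s_286_289 c) (Nat.ble 286 c)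
noncomputable def Ptab_s_278_289 (c : Nat) : Nat := @Bool.rec (fun _ => Nat) (Ptab_s_278_283 c) (Ptab_s_283_289 c) (Nat.ble 283 c)
noncomputable def Ptab_s_268_289 (c : Nat) : Nat := @Bool.rec (fun _ => Nat) (Ptab_s_268_278 c) (Ptab_s_278_289 c) (Nat.ble 278 c)
noncomputable def Ptab_s_248_289 (c : Nat) : Nat := @Bool.rec (fun _ => Nat) (Ptab_s_248_268 c) (Ptab_s_268_289 c) (Nat.ble 268 c)
noncomputable def Ptab_s_289_291 (c : Nat) : Nat := @Bool.rec (fun _ => Nat) (Ptab_289) (Ptab_290) (Nat.ble 290 c)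
noncomputable def Ptab_s_292_294 (c : Nat) : Nat := @Bool.rec (fun _ => Nat) (Ptab_292) (Ptab_293) (Nat.ble 293 c)
noncomputable def Ptab_s_291_294 (c : Nat) : Nat := @Bool.rec (fun _ => Nat) (Ptab_291) (Ptab_s_292_294 c) (Nat.ble 292 c)
noncomputable def Ptab_s_289_294 (c : Nat) : Nat := @Bool.rec (fun _ => Nat) (Ptab_s_289_291 c) (Ptab_s_291_294 c) (Nat.ble 291 c)
noncomputable def Ptab_s_294_296 (c : Nat) : Nat := @Bool.rec (fun _ => Nat) (Ptab_294) (Ptab_295) (Nat.ble 295 c)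
noncomputable def Ptab_s_297_299 (c : Nat) : Nat := @Bool.rec (fun _ => Nat) (Ptab_297) (Ptab_298) (Nat.ble 298 c)
noncomputable def Ptab_s_296_299 (c : Nat) : Nat := @Bool.rec (fun _ => Nat) (Ptab_296) (Ptab_s_297_299 c) (Nat.ble 297 c)
noncomputable def Ptab_s_294_299 (c : Nat) : Nat := @Bool.rec (fun _ => Nat) (Ptab_s_294_296 c) (Ptab_s_296_299 c) (Nat.ble 296 c)
noncomputable def Ptab_s_289_299 (c : Nat) : Nat := @Bool.rec (fun _ => Nat) (Ptab_s_289_294 c) (Ptab_s_294_299 c) (Nat.ble 294 c)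
noncomputable def Ptab_s_299_301 (c : Nat) : Nat := @Bool.rec (fun _ => Nat) (Ptab_299) (Ptab_300) (Nat.ble 300 c)
noncomputable def Ptab_s_302_304 (c : Nat) : Nat := @Bool.rec (fun _ => Nat) (Ptab_302) (Ptab_303) (Nat.ble 303 c)
noncomputable def Ptab_s_301_304 (c : Nat) : Nat := @Bool.rec (fun _ => Nat) (Ptab_301) (Ptab_s_302_304 c) (Nat.ble 302 c)
noncomputable def Ptab_s_299_304 (c : Nat) : Nat := @Bool.rec (fun _ => Nat) (Ptab_s_299_301 c) (Ptab_s_301_304 c) (Nat.ble 301 c)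
noncomputable def Ptab_s_305_307 (c : Nat) : Nat := @Bool.rec (fun _ => Nat) (Ptab_305) (Ptab_306) (Nat.ble 306 c)
noncomputable def Ptab_s_304_307 (c : Nat) : Nat := @Bool.rec (fun _ => Nat) (Ptab_304) (Ptab_s_305_307 c) (Nat.ble 305 c)
noncomputable def Ptab_s_308_310 (c : Nat) : Nat := @Bool.rec (fun _ => Nat) (Ptab_308) (Ptab_309) (Nat.ble 309 c)
noncomputable def Ptab_s_307_310 (c : Nat) : Nat := @Bool.rec (fun _ => Nat) (Ptab_307) (Ptab_s_308_310 c) (Nat.ble 308 c)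
noncomputable def Ptab_s_304_310 (c : Nat) : Nat := @Bool.rec (fun _ => Nat) (Ptab_s_304_307 c) (Ptab_s_307_310 c) (Nat.ble 307 c)
noncomputable def Ptab_s_299_310 (c : Nat) : Nat := @Bool.rec (fun _ => Nat) (Ptab_s_299_304 c) (Ptab_s_304_310 c) (Nat.ble 304 c)
noncomputable def Ptab_s_289_310 (c : Nat) : Nat := @Bool.rec (fun _ => Nat) (Ptab_s_289_299 c) (Ptab_s_299_310 c) (Nat.ble 299 c)
noncomputable def Ptab_s_310_312 (c : Nat) : Nat := @Bool.rec (fun _ => Nat) (Ptab_310) (Ptab_311) (Nat.ble 311 c)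
noncomputable def Ptab_s_313_315 (c : Nat) : Nat := @Bool.rec (fun _ => Nat) (Ptab_313) (Ptab_314) (Nat.ble 314 c)
noncomputable def Ptab_s_312_315 (c : Nat) : Nat := @Bool.rec (fun _ => Nat) (Ptab_312) (Ptab_s_313_315 c) (Nat.ble 313 c)
noncomputable def Ptab_s_310_315 (c : Nat) : Nat := @Bool.rec (fun _ => Nat) (Ptab_s_310_312 c) (Ptab_s_312_315 c) (Nat.ble 312 c)
noncomputable def Ptab_s_315_317 (c : Nat) : Nat := @Bool.rec (fun _ => Nat) (Ptab_315) (Ptab_316) (Nat.ble 316 c)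
noncomputable def Ptab_s_318_320 (c : Nat) : Nat := @Bool.rec (fun _ => Nat) (Ptab_318) (Ptab_319) (Nat.ble 319 c)
noncomputable def Ptab_s_317_320 (c : Nat) : Nat := @Bool.rec (fun _ => Nat) (Ptab_317) (Ptab_s_318_320 c) (Nat.ble 318 c)
noncomputable def Ptab_s_315_320 (c : Nat) : Nat := @Bool.rec (fun _ => Nat) (Ptab_s_315_317 c) (Ptab_s_317_320 c) (Nat.ble 317 c)
noncomputable def Ptab_s_310_320 (c : Nat) : Nat := @Bool.rec (fun _ => Nat) (Ptab_s_310_315 c) (Ptab_s_315_320 c) (Nat.ble 315 c)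
noncomputable def Ptab_s_320_322 (c : Nat) : Nat := @Bool.rec (fun _ => Nat) (Ptab_320) (Ptab_321) (Nat.ble 321 c)
noncomputable def Ptab_s_323_325 (c : Nat) : Nat := @Bool.rec (fun _ => Nat) (Ptab_323) (Ptab_324) (Nat.ble 324 c)
noncomputable def Ptab_s_322_325 (c : Nat) : Nat := @Bool.rec (fun _ => Nat) (Ptab_322) (Ptab_s_323_325 c) (Nat.ble 323 c)
noncomputable def Ptab_s_320_325 (c : Nat) : Nat := @Bool.rec (fun _ => Nat) (Ptab_s_320_322 c) (Ptab_s_322_325 c) (Nat.ble 322 c)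
noncomputable def Ptab_s_326_328 (c : Nat) : Nat := @Bool.rec (fun _ => Nat) (Ptab_326) (Ptab_327) (Nat.ble 327 c)
noncomputable def Ptab_s_325_328 (c : Nat) : Nat := @Bool.rec (fun _ => Nat) (Ptab_325) (Ptab_s_326_328 c) (Nat.ble 326 c)
noncomputable def Ptab_s_329_331 (c : Nat) : Nat := @Bool.rec (fun _ => Nat) (Ptab_329) (Ptab_330) (Nat.ble 330 c)
noncomputable def Ptab_s_328_331 (c : Nat) : Nat := @Bool.rec (fun _ => Nat) (Ptab_328) (Ptab_s_329_331 c) (Nat.ble 329 c)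
noncomputable def Ptab_s_325_331 (c : Nat) : Nat := @Bool.rec (fun _ => Nat) (Ptab_s_325_328 c) (Ptab_s_328_331 c) (Nat.ble 328 c)
noncomputable def Ptab_s_320_331 (c : Nat) : Nat := @Bool.rec (fun _ => Nat) (Ptab_s_320_325 c) (Ptab_s_325_331 c) (Nat.ble 325 c)
noncomputable def Ptab_s_310_331 (c : Nat) : Nat := @Bool.rec (fun _ => Nat) (Ptab_s_310_320 c) (Ptab_s_320_331 c) (Nat.ble 320 c)
noncomputable def Ptab_s_289_331 (c : Nat) : Nat := @Bool.rec (fun _ => Nat) (Ptab_s_289_310 c) (Ptab_s_310_331 c) (Nat.ble 310 c)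
noncomputable def Ptab_s_248_331 (c : Nat) : Nat := @Bool.rec (fun _ => Nat) (Ptab_s_248_289 c) (Ptab_s_289_331 c) (Nat.ble 289 c)
noncomputable def Ptab_s_165_331 (c : Nat) : Nat := @Bool.rec (fun _ => Nat) (Ptab_s_165_248 c) (Ptab_s_248_331 c) (Nat.ble 248 c)
noncomputable def Ptab_s_0_331 (c : Nat) : Nat := @Bool.rec (fun _ => Nat) (Ptab_s_0_165 c) (Ptab_s_165_331 c) (Nat.ble 165 c)
noncomputable def Ptab_s_331_333 (c : Nat) : Nat := @Bool.rec (fun _ => Nat) (Ptab_331) (Ptab_332) (Nat.ble 332 c)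
noncomputable def Ptab_s_334_336 (c : Nat) : Nat := @Bool.rec (fun _ => Nat) (Ptab_334) (Ptab_335) (Nat.ble 335 c)
noncomputable def Ptab_s_333_336 (c : Nat) : Nat := @Bool.rec (fun _ => Nat) (Ptab_333) (Ptab_s_334_336 c) (Nat.ble 334 c)
noncomputable def Ptab_s_331_336 (c : Nat) : Nat := @Bool.rec (fun _ => Nat) (Ptab_s_331_333 c) (Ptab_s_333_336 c) (Nat.ble 333 c)
noncomputable def Ptab_s_336_338 (c : Nat) : Nat := @Bool.rec (fun _ => Nat) (Ptab_336) (Ptab_337) (Nat.ble 337 c)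
noncomputable def Ptab_s_339_341 (c : Nat) : Nat := @Bool.rec (fun _ => Nat) (Ptab_339) (Ptab_340) (Nat.ble 340 c)
noncomputable def Ptab_s_338_341 (c : Nat) : Nat := @Bool.rec (fun _ => Nat) (Ptab_338) (Ptab_s_339_341 c) (Nat.ble 339 c)
noncomputable def Ptab_s_336_341 (c : Nat) : Nat := @Bool.rec (fun _ => Nat) (Ptab_s_336_338 c) (Ptab_s_338_341 c) (Nat.ble 338 c)
noncomputable def Ptab_s_331_341 (c : Nat) : Nat := @Bool.rec (fun _ => Nat) (Ptab_s_331_336 c) (Ptab_s_336_341 c) (Nat.ble 336 c)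
noncomputable def Ptab_s_341_343 (c : Nat) : Nat := @Bool.rec (fun _ => Nat) (Ptab_341) (Ptab_342) (Nat.ble 342 c)
noncomputable def Ptab_s_344_346 (c : Nat) : Nat := @Bool.rec (fun _ => Nat) (Ptab_344) (Ptab_345) (Nat.ble 345 c)
noncomputable def Ptab_s_343_346 (c : Nat) : Nat := @Bool.rec (fun _ => Nat) (Ptab_343) (Ptab_s_344_346 c) (Nat.ble 344 c)
noncomputable def Ptab_s_341_346 (c : Nat) : Nat := @Bool.rec (fun _ => Nat) (Ptab_s_341_343 c) (Ptab_s_343_346 c) (Nat.ble 343 c)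
noncomputable def Ptab_s_346_348 (c : Nat) : Nat := @Bool.rec (fun _ => Nat) (Ptab_346) (Ptab_347) (Nat.ble 347 c)
noncomputable def Ptab_s_349_351 (c : Nat) : Nat := @Bool.rec (fun _ => Nat) (Ptab_349) (Ptab_350) (Nat.ble 350 c)
noncomputable def Ptab_s_348_351 (c : Nat) : Nat := @Bool.rec (fun _ => Nat) (Ptab_348) (Ptab_s_349_351 c) (Nat.ble 349 c)
noncomputable def Ptab_s_346_351 (c : Nat) : Nat := @Bool.rec (fun _ => Nat) (Ptab_s_346_348 c) (Ptab_s_348_351 c) (Nat.ble 348 c)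
noncomputable def Ptab_s_341_351 (c : Nat) : Nat := @Bool.rec (fun _ => Nat) (Ptab_s_341_346 c) (Ptab_s_346_351 c) (Nat.ble 346 c)
noncomputable def Ptab_s_331_351 (c : Nat) : Nat := @Bool.rec (fun _ => Nat) (Ptab_s_331_341 c) (Ptab_s_341_351 c) (Nat.ble 341 c)
noncomputable def Ptab_s_351_353 (c : Nat) : Nat := @Bool.rec (fun _ => Nat) (Ptab_351) (Ptab_352) (Nat.ble 352 c)
noncomputable def Ptab_s_354_356 (c : Nat) : Nat := @Bool.rec (fun _ => Nat) (Ptab_354) (Ptab_355) (Nat.ble 355 c)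
noncomputable def Ptab_s_353_356 (c : Nat) : Nat := @Bool.rec (fun _ => Nat) (Ptab_353) (Ptab_s_354_356 c) (Nat.ble 354 c)
noncomputable def Ptab_s_351_356 (c : Nat) : Nat := @Bool.rec (fun _ => Nat) (Ptab_s_351_353 c) (Ptab_s_353_356 c) (Nat.ble 353 c)
noncomputable def Ptab_s_356_358 (c : Nat) : Nat := @Bool.rec (fun _ => Nat) (Ptab_356) (Ptab_357) (Nat.ble 357 c)
noncomputable def Ptab_s_359_361 (c : Nat) : Nat := @Bool.rec (fun _ => Nat) (Ptab_359) (Ptab_360) (Nat.ble 360 c)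
noncomputable def Ptab_s_358_361 (c : Nat) : Nat := @Bool.rec (fun _ => Nat) (Ptab_358) (Ptab_s_359_361 c) (Nat.ble 359 c)
noncomputable def Ptab_s_356_361 (c : Nat) : Nat := @Bool.rec (fun _ => Nat) (Ptab_s_356_358 c) (Ptab_s_358_361 c) (Nat.ble 358 c)
noncomputable def Ptab_s_351_361 (c : Nat) : Nat := @Bool.rec (fun _ => Nat) (Ptab_s_351_356 c) (Ptab_s_356_361 c) (Nat.ble 356 c)
noncomputable def Ptab_s_361_363 (c : Nat) : Nat := @Bool.rec (fun _ => Nat) (Ptab_361) (Ptab_362) (Nat.ble 362 c)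
noncomputable def Ptab_s_364_366 (c : Nat) : Nat := @Bool.rec (fun _ => Nat) (Ptab_364) (Ptab_365) (Nat.ble 365 c)
noncomputable def Ptab_s_363_366 (c : Nat) : Nat := @Bool.rec (fun _ => Nat) (Ptab_363) (Ptab_s_364_366 c) (Nat.ble 364 c)
noncomputable def Ptab_s_361_366 (c : Nat) : Nat := @Bool.rec (fun _ => Nat) (Ptab_s_361_363 c) (Ptab_s_363_366 c) (Nat.ble 363 c)
noncomputable def Ptab_s_367_369 (c : Nat) : Nat := @Bool.rec (fun _ => Nat) (Ptab_367) (Ptab_368) (Nat.ble 368 c)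
noncomputable def Ptab_s_366_369 (c : Nat) : Nat := @Bool.rec (fun _ => Nat) (Ptab_366) (Ptab_s_367_369 c) (Nat.ble 367 c)
noncomputable def Ptab_s_370_372 (c : Nat) : Nat := @Bool.rec (fun _ => Nat) (Ptab_370) (Ptab_371) (Nat.ble 371 c)
noncomputable def Ptab_s_369_372 (c : Nat) : Nat := @Bool.rec (fun _ => Nat) (Ptab_369) (Ptab_s_370_372 c) (Nat.ble 370 c)
noncomputable def Ptab_s_366_372 (c : Nat) : Nat := @Bool.rec (fun _ => Nat) (Ptab_s_366_369 c) (Ptab_s_369_372 c) (Nat.ble 369 c)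
noncomputable def Ptab_s_361_372 (c : Nat) : Nat := @Bool.rec (fun _ => Nat) (Ptab_s_361_366 c) (Ptab_s_366_372 c) (Nat.ble 366 c)
noncomputable def Ptab_s_351_372 (c : Nat) : Nat := @Bool.rec (fun _ => Nat) (Ptab_s_351_361 c) (Ptab_s_361_372 c) (Nat.ble 361 c)
noncomputable def Ptab_s_331_372 (c : Nat) : Nat := @Bool.rec (fun _ => Nat) (Ptab_s_331_351 c) (Ptab_s_351_372 c) (Nat.ble 351 c)
noncomputable def Ptab_s_372_374 (c : Nat) : Nat := @Bool.rec (fun _ => Nat) (Ptab_372) (Ptab_373) (Nat.ble 373 c)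
noncomputable def Ptab_s_375_377 (c : Nat) : Nat := @Bool.rec (fun _ => Nat) (Ptab_375) (Ptab_376) (Nat.ble 376 c)
noncomputable def Ptab_s_374_377 (c : Nat) : Nat := @Bool.rec (fun _ => Nat) (Ptab_374) (Ptab_s_375_377 c) (Nat.ble 375 c)
noncomputable def Ptab_s_372_377 (c : Nat) : Nat := @Bool.rec (fun _ => Nat) (Ptab_s_372_374 c) (Ptab_s_374_377 c) (Nat.ble 374 c)
noncomputable def Ptab_s_377_379 (c : Nat) : Nat := @Bool.rec (fun _ => Nat) (Ptab_377) (Ptab_378) (Nat.ble 378 c)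
noncomputable def Ptab_s_380_382 (c : Nat) : Nat := @Bool.rec (fun _ => Nat) (Ptab_380) (Ptab_381) (Nat.ble 381 c)
noncomputable def Ptab_s_379_382 (c : Nat) : Nat := @Bool.rec (fun _ => Nat) (Ptab_379) (Ptab_s_380_382 c) (Nat.ble 380 c)
noncomputable def Ptab_s_377_382 (c : Nat) : Nat := @Bool.rec (fun _ => Nat) (Ptab_s_377_379 c) (Ptab_s_379_382 c) (Nat.ble 379 c)
noncomputable def Ptab_s_372_382 (c : Nat) : Nat := @Bool.rec (fun _ => Nat) (Ptab_s_372_377 c) (Ptab_s_377_382 c) (Nat.ble 377 c)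
noncomputable def Ptab_s_382_384 (c : Nat) : Nat := @Bool.rec (fun _ => Nat) (Ptab_382) (Ptab_383) (Nat.ble 383 c)
noncomputable def Ptab_s_385_387 (c : Nat) : Nat := @Bool.rec (fun _ => Nat) (Ptab_385) (Ptab_386) (Nat.ble 386 c)
noncomputable def Ptab_s_384_387 (c : Nat) : Nat := @Bool.rec (fun _ => Nat) (Ptab_384) (Ptab_s_385_387 c) (Nat.ble 385 c)
noncomputable def Ptab_s_382_387 (c : Nat) : Nat := @Bool.rec (fun _ => Nat) (Ptab_s_382_384 c) (Ptab_s_384_387 c) (Nat.ble 384 c)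
noncomputable def Ptab_s_387_389 (c : Nat) : Nat := @Bool.rec (fun _ => Nat) (Ptab_387) (Ptab_388) (Nat.ble 388 c)
noncomputable def Ptab_s_390_392 (c : Nat) : Nat := @Bool.rec (fun _ => Nat) (Ptab_390) (Ptab_391) (Nat.ble 391 c)
noncomputable def Ptab_s_389_392 (c : Nat) : Nat := @Bool.rec (fun _ => Nat) (Ptab_389) (Ptab_s_390_392 c) (Nat.ble 390 c)
noncomputable def Ptab_s_387_392 (c : Nat) : Nat := @Bool.rec (fun _ => Nat) (Ptab_s_387_389 c) (Ptab_s_389_392 c) (Nat.ble 389 c)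
noncomputable def Ptab_s_382_392 (c : Nat) : Nat := @Bool.rec (fun _ => Nat) (Ptab_s_382_387 c) (Ptab_s_387_392 c) (Nat.ble 387 c)
noncomputable def Ptab_s_372_392 (c : Nat) : Nat := @Bool.rec (fun _ => Nat) (Ptab_s_372_382 c) (Ptab_s_382_392 c) (Nat.ble 382 c)
noncomputable def Ptab_s_392_394 (c : Nat) : Nat := @Bool.rec (fun _ => Nat) (Ptab_392) (Ptab_393) (Nat.ble 393 c)
noncomputable def Ptab_s_395_397 (c : Nat) : Nat := @Bool.rec (fun _ => Nat) (Ptab_395) (Ptab_396) (Nat.ble 396 c)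
noncomputable def Ptab_s_394_397 (c : Nat) : Nat := @Bool.rec (fun _ => Nat) (Ptab_394) (Ptab_s_395_397 c) (Nat.ble 395 c)
noncomputable def Ptab_s_392_397 (c : Nat) : Nat := @Bool.rec (fun _ => Nat) (Ptab_s_392_394 c) (Ptab_s_394_397 c) (Nat.ble 394 c)
noncomputable def Ptab_s_397_399 (c : Nat) : Nat := @Bool.rec (fun _ => Nat) (Ptab_397) (Ptab_398) (Nat.ble 398 c)
noncomputable def Ptab_s_400_402 (c : Nat) : Nat := @Bool.rec (fun _ => Nat) (Ptab_400) (Ptab_401) (Nat.ble 401 c)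
noncomputable def Ptab_s_399_402 (c : Nat) : Nat := @Bool.rec (fun _ => Nat) (Ptab_399) (Ptab_s_400_402 c) (Nat.ble 400 c)
noncomputable def Ptab_s_397_402 (c : Nat) : Nat := @Bool.rec (fun _ => Nat) (Ptab_s_397_399 c) (Ptab_s_399_402 c) (Nat.ble 399 c)
noncomputable def Ptab_s_392_402 (c : Nat) : Nat := @Bool.rec (fun _ => Nat) (Ptab_s_392_397 c) (Ptab_s_397_402 c) (Nat.ble 397 c)
noncomputable def Ptab_s_402_404 (c : Nat) : Nat := @Bool.rec (fun _ => Nat) (Ptab_402) (Ptab_403) (Nat.ble 403 c)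
noncomputable def Ptab_s_405_407 (c : Nat) : Nat := @Bool.rec (fun _ => Nat) (Ptab_405) (Ptab_406) (Nat.ble 406 c)
noncomputable def Ptab_s_404_407 (c : Nat) : Nat := @Bool.rec (fun _ => Nat) (Ptab_404) (Ptab_s_405_407 c) (Nat.ble 405 c)
noncomputable def Ptab_s_402_407 (c : Nat) : Nat := @Bool.rec (fun _ => Nat) (Ptab_s_402_404 c) (Ptab_s_404_407 c) (Nat.ble 404 c)
noncomputable def Ptab_s_408_410 (c : Nat) : Nat := @Bool.rec (fun _ => Nat) (Ptab_408) (Ptab_409) (Nat.ble 409 c)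
noncomputable def Ptab_s_407_410 (c : Nat) : Nat := @Bool.rec (fun _ => Nat) (Ptab_407) (Ptab_s_408_410 c) (Nat.ble 408 c)
noncomputable def Ptab_s_411_413 (c : Nat) : Nat := @Bool.rec (fun _ => Nat) (Ptab_411) (Ptab_412) (Nat.ble 412 c)
noncomputable def Ptab_s_410_413 (c : Nat) : Nat := @Bool.rec (fun _ => Nat) (Ptab_410) (Ptab_s_411_413 c) (Nat.ble 411 c)
noncomputable def Ptab_s_407_413 (c : Nat) : Nat := @Bool.rec (fun _ => Nat) (Ptab_s_407_410 c) (Ptab_s_410_413 c) (Nat.ble 410 c)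
noncomputable def Ptab_s_402_413 (c : Nat) : Nat := @Bool.rec (fun _ => Nat) (Ptab_s_402_407 c) (Ptab_s_407_413 c) (Nat.ble 407 c)
noncomputable def Ptab_s_392_413 (c : Nat) : Nat := @Bool.rec (fun _ => Nat) (Ptab_s_392_402 c) (Ptab_s_402_413 c) (Nat.ble 402 c)
noncomputable def Ptab_s_372_413 (c : Nat) : Nat := @Bool.rec (fun _ => Nat) (Ptab_s_372_392 c) (Ptab_s_392_413 c) (Nat.ble 392 c)
noncomputable def Ptab_s_331_413 (c : Nat) : Nat := @Bool.rec (fun _ => Nat) (Ptab_s_331_372 c) (Ptab_s_372_413 c) (Nat.ble 372 c)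
noncomputable def Ptab_s_413_415 (c : Nat) : Nat := @Bool.rec (fun _ => Nat) (Ptab_413) (Ptab_414) (Nat.ble 414 c)
noncomputable def Ptab_s_416_418 (c : Nat) : Nat := @Bool.rec (fun _ => Nat) (Ptab_416) (Ptab_417) (Nat.ble 417 c)
noncomputable def Ptab_s_415_418 (c : Nat) : Nat := @Bool.rec (fun _ => Nat) (Ptab_415) (Ptab_s_416_418 c) (Nat.ble 416 c)
noncomputable def Ptab_s_413_418 (c : Nat) : Nat := @Bool.rec (fun _ => Nat) (Ptab_s_413_415 c) (Ptab_s_415_418 c) (Nat.ble 415 c)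
noncomputable def Ptab_s_418_420 (c : Nat) : Nat := @Bool.rec (fun _ => Nat) (Ptab_418) (Ptab_419) (Nat.ble 419 c)
noncomputable def Ptab_s_421_423 (c : Nat) : Nat := @Bool.rec (fun _ => Nat) (Ptab_421) (Ptab_422) (Nat.ble 422 c)
noncomputable def Ptab_s_420_423 (c : Nat) : Nat := @Bool.rec (fun _ => Nat) (Ptab_420) (Ptab_s_421_423 c) (Nat.ble 421 c)
noncomputable def Ptab_s_418_423 (c : Nat) : Nat := @Bool.rec (fun _ => Nat) (Ptab_s_418_420 c) (Ptab_s_420_423 c) (Nat.ble 420 c)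
noncomputable def Ptab_s_413_423 (c : Nat) : Nat := @Bool.rec (fun _ => Nat) (Ptab_s_413_418 c) (Ptab_s_418_423 c) (Nat.ble 418 c)
noncomputable def Ptab_s_423_425 (c : Nat) : Nat := @Bool.rec (fun _ => Nat) (Ptab_423) (Ptab_424) (Nat.ble 424 c)
noncomputable def Ptab_s_426_428 (c : Nat) : Nat := @Bool.rec (fun _ => Nat) (Ptab_426) (Ptab_427) (Nat.ble 427 c)
noncomputable def Ptab_s_425_428 (c : Nat) : Nat := @Bool.rec (fun _ => Nat) (Ptab_425) (Ptab_s_426_428 c) (Nat.ble 426 c)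
noncomputable def Ptab_s_423_428 (c : Nat) : Nat := @Bool.rec (fun _ => Nat) (Ptab_s_423_425 c) (Ptab_s_425_428 c) (Nat.ble 425 c)
noncomputable def Ptab_s_428_430 (c : Nat) : Nat := @Bool.rec (fun _ => Nat) (Ptab_428) (Ptab_429) (Nat.ble 429 c)
noncomputable def Ptab_s_431_433 (c : Nat) : Nat := @Bool.rec (fun _ => Nat) (Ptab_431) (Ptab_432) (Nat.ble 432 c)
noncomputable def Ptab_s_430_433 (c : Nat) : Nat := @Bool.rec (fun _ => Nat) (Ptab_430) (Ptab_s_431_433 c) (Nat.ble 431 c)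
noncomputable def Ptab_s_428_433 (c : Nat) : Nat := @Bool.rec (fun _ => Nat) (Ptab_s_428_430 c) (Ptab_s_430_433 c) (Nat.ble 430 c)
noncomputable def Ptab_s_423_433 (c : Nat) : Nat := @Bool.rec (fun _ => Nat) (Ptab_s_423_428 c) (Ptab_s_428_433 c) (Nat.ble 428 c)
noncomputable def Ptab_s_413_433 (c : Nat) : Nat := @Bool.rec (fun _ => Nat) (Ptab_s_413_423 c) (Ptab_s_423_433 c) (Nat.ble 423 c)
noncomputable def Ptab_s_433_435 (c : Nat) : Nat := @Bool.rec (fun _ => Nat) (Ptab_433) (Ptab_434) (Nat.ble 434 c)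
noncomputable def Ptab_s_436_438 (c : Nat) : Nat := @Bool.rec (fun _ => Nat) (Ptab_436) (Ptab_437) (Nat.ble 437 c)
noncomputable def Ptab_s_435_438 (c : Nat) : Nat := @Bool.rec (fun _ => Nat) (Ptab_435) (Ptab_s_436_438 c) (Nat.ble 436 c)
noncomputable def Ptab_s_433_438 (c : Nat) : Nat := @Bool.rec (fun _ => Nat) (Ptab_s_433_435 c) (Ptab_s_435_438 c) (Nat.ble 435 c)
noncomputable def Ptab_s_438_440 (c : Nat) : Nat := @Bool.rec (fun _ => Nat) (Ptab_438) (Ptab_439) (Nat.ble 439 c)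
noncomputable def Ptab_s_441_443 (c : Nat) : Nat := @Bool.rec (fun _ => Nat) (Ptab_441) (Ptab_442) (Nat.ble 442 c)
noncomputable def Ptab_s_440_443 (c : Nat) : Nat := @Bool.rec (fun _ => Nat) (Ptab_440) (Ptab_s_441_443 c) (Nat.ble 441 c)
noncomputable def Ptab_s_438_443 (c : Nat) : Nat := @Bool.rec (fun _ => Nat) (Ptab_s_438_440 c) (Ptab_s_440_443 c) (Nat.ble 440 c)
noncomputable def Ptab_s_433_443 (c : Nat) : Nat := @Bool.rec (fun _ => Nat) (Ptab_s_433_438 c) (Ptab_s_438_443 c) (Nat.ble 438 c)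
noncomputable def Ptab_s_443_445 (c : Nat) : Nat := @Bool.rec (fun _ => Nat) (Ptab_443) (Ptab_444) (Nat.ble 444 c)
noncomputable def Ptab_s_446_448 (c : Nat) : Nat := @Bool.rec (fun _ => Nat) (Ptab_446) (Ptab_447) (Nat.ble 447 c)
noncomputable def Ptab_s_445_448 (c : Nat) : Nat := @Bool.rec (fun _ => Nat) (Ptab_445) (Ptab_s_446_448 c) (Nat.ble 446 c)
noncomputable def Ptab_s_443_448 (c : Nat) : Nat := @Bool.rec (fun _ => Nat) (Ptab_s_443_445 c) (Ptab_s_445_448 c) (Nat.ble 445 c)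
noncomputable def Ptab_s_449_451 (c : Nat) : Nat := @Bool.rec (fun _ => Nat) (Ptab_449) (Ptab_450) (Nat.ble 450 c)
noncomputable def Ptab_s_448_451 (c : Nat) : Nat := @Bool.rec (fun _ => Nat) (Ptab_448) (Ptab_s_449_451 c) (Nat.ble 449 c)
noncomputable def Ptab_s_452_454 (c : Nat) : Nat := @Bool.rec (fun _ => Nat) (Ptab_452) (Ptab_453) (Nat.ble 453 c)
noncomputable def Ptab_s_451_454 (c : Nat) : Nat := @Bool.rec (fun _ => Nat) (Ptab_451) (Ptab_s_452_454 c) (Nat.ble 452 c)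
noncomputable def Ptab_s_448_454 (c : Nat) : Nat := @Bool.rec (fun _ => Nat) (Ptab_s_448_451 c) (Ptab_s_451_454 c) (Nat.ble 451 c)
noncomputable def Ptab_s_443_454 (c : Nat) : Nat := @Bool.rec (fun _ => Nat) (Ptab_s_443_448 c) (Ptab_s_448_454 c) (Nat.ble 448 c)
noncomputable def Ptab_s_433_454 (c : Nat) : Nat := @Bool.rec (fun _ => Nat) (Ptab_s_433_443 c) (Ptab_s_443_454 c) (Nat.ble 443 c)
noncomputable def Ptab_s_413_454 (c : Nat) : Nat := @Bool.rec (fun _ => Nat) (Ptab_s_413_433 c) (Ptab_s_433_454 c) (Nat.ble 433 c)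
noncomputable def Ptab_s_454_456 (c : Nat) : Nat := @Bool.rec (fun _ => Nat) (Ptab_454) (Ptab_455) (Nat.ble 455 c)
noncomputable def Ptab_s_457_459 (c : Nat) : Nat := @Bool.rec (fun _ => Nat) (Ptab_457) (Ptab_458) (Nat.ble 458 c)
noncomputable def Ptab_s_456_459 (c : Nat) : Nat := @Bool.rec (fun _ => Nat) (Ptab_456) (Ptab_s_457_459 c) (Nat.ble 457 c)
noncomputable def Ptab_s_454_459 (c : Nat) : Nat := @Bool.rec (fun _ => Nat) (Ptab_s_454_456 c) (Ptab_s_456_459 c) (Nat.ble 456 c)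
noncomputable def Ptab_s_459_461 (c : Nat) : Nat := @Bool.rec (fun _ => Nat) (Ptab_459) (Ptab_460) (Nat.ble 460 c)
noncomputable def Ptab_s_462_464 (c : Nat) : Nat := @Bool.rec (fun _ => Nat) (Ptab_462) (Ptab_463) (Nat.ble 463 c)
noncomputable def Ptab_s_461_464 (c : Nat) : Nat := @Bool.rec (fun _ => Nat) (Ptab_461) (Ptab_s_462_464 c) (Nat.ble 462 c)
noncomputable def Ptab_s_459_464 (c : Nat) : Nat := @Bool.rec (fun _ => Nat) (Ptab_s_459_461 c) (Ptab_s_461_464 c) (Nat.ble 461 c)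
noncomputable def Ptab_s_454_464 (c : Nat) : Nat := @Bool.rec (fun _ => Nat) (Ptab_s_454_459 c) (Ptab_s_459_464 c) (Nat.ble 459 c)
noncomputable def Ptab_s_464_466 (c : Nat) : Nat := @Bool.rec (fun _ => Nat) (Ptab_464) (Ptab_465) (Nat.ble 465 c)
noncomputable def Ptab_s_467_469 (c : Nat) : Nat := @Bool.rec (fun _ => Nat) (Ptab_467) (Ptab_468) (Nat.ble 468 c)
noncomputable def Ptab_s_466_469 (c : Nat) : Nat := @Bool.rec (fun _ => Nat) (Ptab_466) (Ptab_s_467_469 c) (Nat.ble 467 c)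
noncomputable def Ptab_s_464_469 (c : Nat) : Nat := @Bool.rec (fun _ => Nat) (Ptab_s_464_466 c) (Ptab_s_466_469 c) (Nat.ble 466 c)
noncomputable def Ptab_s_470_472 (c : Nat) : Nat := @Bool.rec (fun _ => Nat) (Ptab_470) (Ptab_471) (Nat.ble 471 c)
noncomputable def Ptab_s_469_472 (c : Nat) : Nat := @Bool.rec (fun _ => Nat) (Ptab_469) (Ptab_s_470_472 c) (Nat.ble 470 c)
noncomputable def Ptab_s_473_475 (c : Nat) : Nat := @Bool.rec (fun _ => Nat) (Ptab_473) (Ptab_474) (Nat.ble 474 c)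
noncomputable def Ptab_s_472_475 (c : Nat) : Nat := @Bool.rec (fun _ => Nat) (Ptab_472) (Ptab_s_473_475 c) (Nat.ble 473 c)
noncomputable def Ptab_s_469_475 (c : Nat) : Nat := @Bool.rec (fun _ => Nat) (Ptab_s_469_472 c) (Ptab_s_472_475 c) (Nat.ble 472 c)
noncomputable def Ptab_s_464_475 (c : Nat) : Nat := @Bool.rec (fun _ => Nat) (Ptab_s_464_469 c) (Ptab_s_469_475 c) (Nat.ble 469 c)
noncomputable def Ptab_s_454_475 (c : Nat) : Nat := @Bool.rec (fun _ => Nat) (Ptab_s_454_464 c) (Ptab_s_464_475 c) (Nat.ble 464 c)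
noncomputable def Ptab_s_475_477 (c : Nat) : Nat := @Bool.rec (fun _ => Nat) (Ptab_475) (Ptab_476) (Nat.ble 476 c)
noncomputable def Ptab_s_478_480 (c : Nat) : Nat := @Bool.rec (fun _ => Nat) (Ptab_478) (Ptab_479) (Nat.ble 479 c)
noncomputable def Ptab_s_477_480 (c : Nat) : Nat := @Bool.rec (fun _ => Nat) (Ptab_477) (Ptab_s_478_480 c) (Nat.ble 478 c)
noncomputable def Ptab_s_475_480 (c : Nat) : Nat := @Bool.rec (fun _ => Nat) (Ptab_s_475_477 c) (Ptab_s_477_480 c) (Nat.ble 477 c)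
noncomputable def Ptab_s_480_482 (c : Nat) : Nat := @Bool.rec (fun _ => Nat) (Ptab_480) (Ptab_481) (Nat.ble 481 c)
noncomputable def Ptab_s_483_485 (c : Nat) : Nat := @Bool.rec (fun _ => Nat) (Ptab_483) (Ptab_484) (Nat.ble 484 c)
noncomputable def Ptab_s_482_485 (c : Nat) : Nat := @Bool.rec (fun _ => Nat) (Ptab_482) (Ptab_s_483_485 c) (Nat.ble 483 c)
noncomputable def Ptab_s_480_485 (c : Nat) : Nat := @Bool.rec (fun _ => Nat) (Ptab_s_480_482 c) (Ptab_s_482_485 c) (Nat.ble 482 c)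
noncomputable def Ptab_s_475_485 (c : Nat) : Nat := @Bool.rec (fun _ => Nat) (Ptab_s_475_480 c) (Ptab_s_480_485 c) (Nat.ble 480 c)
noncomputable def Ptab_s_485_487 (c : Nat) : Nat := @Bool.rec (fun _ => Nat) (Ptab_485) (Ptab_486) (Nat.ble 486 c)
noncomputable def Ptab_s_488_490 (c : Nat) : Nat := @Bool.rec (fun _ => Nat) (Ptab_488) (Ptab_489) (Nat.ble 489 c)
noncomputable def Ptab_s_487_490 (c : Nat) : Nat := @Bool.rec (fun _ => Nat) (Ptab_487) (Ptab_s_488_490 c) (Nat.ble 488 c)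
noncomputable def Ptab_s_485_490 (c : Nat) : Nat := @Bool.rec (fun _ => Nat) (Ptab_s_485_487 c) (Ptab_s_487_490 c) (Nat.ble 487 c)
noncomputable def Ptab_s_491_493 (c : Nat) : Nat := @Bool.rec (fun _ => Nat) (Ptab_491) (Ptab_492) (Nat.ble 492 c)
noncomputable def Ptab_s_490_493 (c : Nat) : Nat := @Bool.rec (fun _ => Nat) (Ptab_490) (Ptab_s_491_493 c) (Nat.ble 491 c)
noncomputable def Ptab_s_494_496 (c : Nat) : Nat := @Bool.rec (fun _ => Nat) (Ptab_494) (Ptab_495) (Nat.ble 495 c)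
noncomputable def Ptab_s_493_496 (c : Nat) : Nat := @Bool.rec (fun _ => Nat) (Ptab_493) (Ptab_s_494_496 c) (Nat.ble 494 c)
noncomputable def Ptab_s_490_496 (c : Nat) : Nat := @Bool.rec (fun _ => Nat) (Ptab_s_490_493 c) (Ptab_s_493_496 c) (Nat.ble 493 c)
noncomputable def Ptab_s_485_496 (c : Nat) : Nat := @Bool.rec (fun _ => Nat) (Ptab_s_485_490 c) (Ptab_s_490_496 c) (Nat.ble 490 c)
noncomputable def Ptab_s_475_496 (c : Nat) : Nat := @Bool.rec (fun _ => Nat) (Ptab_s_475_485 c) (Ptab_s_485_496 c) (Nat.ble 485 c)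
noncomputable def Ptab_s_454_496 (c : Nat) : Nat := @Bool.rec (fun _ => Nat) (Ptab_s_454_475 c) (Ptab_s_475_496 c) (Nat.ble 475 c)
noncomputable def Ptab_s_413_496 (c : Nat) : Nat := @Bool.rec (fun _ => Nat) (Ptab_s_413_454 c) (Ptab_s_454_496 c) (Nat.ble 454 c)
noncomputable def Ptab_s_331_496 (c : Nat) : Nat := @Bool.rec (fun _ => Nat) (Ptab_s_331_413 c) (Ptab_s_413_496 c) (Nat.ble 413 c)
noncomputable def Ptab_s_496_498 (c : Nat) : Nat := @Bool.rec (fun _ => Nat) (Ptab_496) (Ptab_497) (Nat.ble 497 c)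
noncomputable def Ptab_s_499_501 (c : Nat) : Nat := @Bool.rec (fun _ => Nat) (Ptab_499) (Ptab_500) (Nat.ble 500 c)
noncomputable def Ptab_s_498_501 (c : Nat) : Nat := @Bool.rec (fun _ => Nat) (Ptab_498) (Ptab_s_499_501 c) (Nat.ble 499 c)
noncomputable def Ptab_s_496_501 (c : Nat) : Nat := @Bool.rec (fun _ => Nat) (Ptab_s_496_498 c) (Ptab_s_498_501 c) (Nat.ble 498 c)
noncomputable def Ptab_s_501_503 (c : Nat) : Nat := @Bool.rec (fun _ => Nat) (Ptab_501) (Ptab_502) (Nat.ble 502 c)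
noncomputable def Ptab_s_504_506 (c : Nat) : Nat := @Bool.rec (fun _ => Nat) (Ptab_504) (Ptab_505) (Nat.ble 505 c)
noncomputable def Ptab_s_503_506 (c : Nat) : Nat := @Bool.rec (fun _ => Nat) (Ptab_503) (Ptab_s_504_506 c) (Nat.ble 504 c)
noncomputable def Ptab_s_501_506 (c : Nat) : Nat := @Bool.rec (fun _ => Nat) (Ptab_s_501_503 c) (Ptab_s_503_506 c) (Nat.ble 503 c)
noncomputable def Ptab_s_496_506 (c : Nat) : Nat := @Bool.rec (fun _ => Nat) (Ptab_s_496_501 c) (Ptab_s_501_506 c) (Nat.ble 501 c)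
noncomputable def Ptab_s_506_508 (c : Nat) : Nat := @Bool.rec (fun _ => Nat) (Ptab_506) (Ptab_507) (Nat.ble 507 c)
noncomputable def Ptab_s_509_511 (c : Nat) : Nat := @Bool.rec (fun _ => Nat) (Ptab_509) (Ptab_510) (Nat.ble 510 c)
noncomputable def Ptab_s_508_511 (c : Nat) : Nat := @Bool.rec (fun _ => Nat) (Ptab_508) (Ptab_s_509_511 c) (Nat.ble 509 c)
noncomputable def Ptab_s_506_511 (c : Nat) : Nat := @Bool.rec (fun _ => Nat) (Ptab_s_506_508 c) (Ptab_s_508_511 c) (Nat.ble 508 c)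
noncomputable def Ptab_s_511_513 (c : Nat) : Nat := @Bool.rec (fun _ => Nat) (Ptab_511) (Ptab_512) (Nat.ble 512 c)
noncomputable def Ptab_s_514_516 (c : Nat) : Nat := @Bool.rec (fun _ => Nat) (Ptab_514) (Ptab_515) (Nat.ble 515 c)
noncomputable def Ptab_s_513_516 (c : Nat) : Nat := @Bool.rec (fun _ => Nat) (Ptab_513) (Ptab_s_514_516 c) (Nat.ble 514 c)
noncomputable def Ptab_s_511_516 (c : Nat) : Nat := @Bool.rec (fun _ => Nat) (Ptab_s_511_513 c) (Ptab_s_513_516 c) (Nat.ble 513 c)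
noncomputable def Ptab_s_506_516 (c : Nat) : Nat := @Bool.rec (fun _ => Nat) (Ptab_s_506_511 c) (Ptab_s_511_516 c) (Nat.ble 511 c)
noncomputable def Ptab_s_496_516 (c : Nat) : Nat := @Bool.rec (fun _ => Nat) (Ptab_s_496_506 c) (Ptab_s_506_516 c) (Nat.ble 506 c)
noncomputable def Ptab_s_516_518 (c : Nat) : Nat := @Bool.rec (fun _ => Nat) (Ptab_516) (Ptab_517) (Nat.ble 517 c)
noncomputable def Ptab_s_519_521 (c : Nat) : Nat := @Bool.rec (fun _ => Nat) (Ptab_519) (Ptab_520) (Nat.ble 520 c)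
noncomputable def Ptab_s_518_521 (c : Nat) : Nat := @Bool.rec (fun _ => Nat) (Ptab_518) (Ptab_s_519_521 c) (Nat.ble 519 c)
noncomputable def Ptab_s_516_521 (c : Nat) : Nat := @Bool.rec (fun _ => Nat) (Ptab_s_516_518 c) (Ptab_s_518_521 c) (Nat.ble 518 c)
noncomputable def Ptab_s_521_523 (c : Nat) : Nat := @Bool.rec (fun _ => Nat) (Ptab_521) (Ptab_522) (Nat.ble 522 c)
noncomputable def Ptab_s_524_526 (c : Nat) : Nat := @Bool.rec (fun _ => Nat) (Ptab_524) (Ptab_525) (Nat.ble 525 c)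
noncomputable def Ptab_s_523_526 (c : Nat) : Nat := @Bool.rec (fun _ => Nat) (Ptab_523) (Ptab_s_524_526 c) (Nat.ble 524 c)
noncomputable def Ptab_s_521_526 (c : Nat) : Nat := @Bool.rec (fun _ => Nat) (Ptab_s_521_523 c) (Ptab_s_523_526 c) (Nat.ble 523 c)
noncomputable def Ptab_s_516_526 (c : Nat) : Nat := @Bool.rec (fun _ => Nat) (Ptab_s_516_521 c) (Ptab_s_521_526 c) (Nat.ble 521 c)
noncomputable def Ptab_s_526_528 (c : Nat) : Nat := @Bool.rec (fun _ => Nat) (Ptab_526) (Ptab_527) (Nat.ble 527 c)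
noncomputable def Ptab_s_529_531 (c : Nat) : Nat := @Bool.rec (fun _ => Nat) (Ptab_529) (Ptab_530) (Nat.ble 530 c)
noncomputable def Ptab_s_528_531 (c : Nat) : Nat := @Bool.rec (fun _ => Nat) (Ptab_528) (Ptab_s_529_531 c) (Nat.ble 529 c)
noncomputable def Ptab_s_526_531 (c : Nat) : Nat := @Bool.rec (fun _ => Nat) (Ptab_s_526_528 c) (Ptab_s_528_531 c) (Nat.ble 528 c)
noncomputable def Ptab_s_532_534 (c : Nat) : Nat := @Bool.rec (fun _ => Nat) (Ptab_532) (Ptab_533) (Nat.ble 533 c)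
noncomputable def Ptab_s_531_534 (c : Nat) : Nat := @Bool.rec (fun _ => Nat) (Ptab_531) (Ptab_s_532_534 c) (Nat.ble 532 c)
noncomputable def Ptab_s_535_537 (c : Nat) : Nat := @Bool.rec (fun _ => Nat) (Ptab_535) (Ptab_536) (Nat.ble 536 c)
noncomputable def Ptab_s_534_537 (c : Nat) : Nat := @Bool.rec (fun _ => Nat) (Ptab_534) (Ptab_s_535_537 c) (Nat.ble 535 c)
noncomputable def Ptab_s_531_537 (c : Nat) : Nat := @Bool.rec (fun _ => Nat) (Ptab_s_531_534 c) (Ptab_s_534_537 c) (Nat.ble 534 c)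
noncomputable def Ptab_s_526_537 (c : Nat) : Nat := @Bool.rec (fun _ => Nat) (Ptab_s_526_531 c) (Ptab_s_531_537 c) (Nat.ble 531 c)
noncomputable def Ptab_s_516_537 (c : Nat) : Nat := @Bool.rec (fun _ => Nat) (Ptab_s_516_526 c) (Ptab_s_526_537 c) (Nat.ble 526 c)
noncomputable def Ptab_s_496_537 (c : Nat) : Nat := @Bool.rec (fun _ => Nat) (Ptab_s_496_516 c) (Ptab_s_516_537 c) (Nat.ble 516 c)
noncomputable def Ptab_s_537_539 (c : Nat) : Nat := @Bool.rec (fun _ => Nat) (Ptab_537) (Ptab_538) (Nat.ble 538 c)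
noncomputable def Ptab_s_540_542 (c : Nat) : Nat := @Bool.rec (fun _ => Nat) (Ptab_540) (Ptab_541) (Nat.ble 541 c)
noncomputable def Ptab_s_539_542 (c : Nat) : Nat := @Bool.rec (fun _ => Nat) (Ptab_539) (Ptab_s_540_542 c) (Nat.ble 540 c)
noncomputable def Ptab_s_537_542 (c : Nat) : Nat := @Bool.rec (fun _ => Nat) (Ptab_s_537_539 c) (Ptab_s_539_542 c) (Nat.ble 539 c)
noncomputable def Ptab_s_542_544 (c : Nat) : Nat := @Bool.rec (fun _ => Nat) (Ptab_542) (Ptab_543) (Nat.ble 543 c)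
noncomputable def Ptab_s_545_547 (c : Nat) : Nat := @Bool.rec (fun _ => Nat) (Ptab_545) (Ptab_546) (Nat.ble 546 c)
noncomputable def Ptab_s_544_547 (c : Nat) : Nat := @Bool.rec (fun _ => Nat) (Ptab_544) (Ptab_s_545_547 c) (Nat.ble 545 c)
noncomputable def Ptab_s_542_547 (c : Nat) : Nat := @Bool.rec (fun _ => Nat) (Ptab_s_542_544 c) (Ptab_s_544_547 c) (Nat.ble 544 c)
noncomputable def Ptab_s_537_547 (c : Nat) : Nat := @Bool.rec (fun _ => Nat) (Ptab_s_537_542 c) (Ptab_s_542_547 c) (Nat.ble 542 c)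
noncomputable def Ptab_s_547_549 (c : Nat) : Nat := @Bool.rec (fun _ => Nat) (Ptab_547) (Ptab_548) (Nat.ble 548 c)
noncomputable def Ptab_s_550_552 (c : Nat) : Nat := @Bool.rec (fun _ => Nat) (Ptab_550) (Ptab_551) (Nat.ble 551 c)
noncomputable def Ptab_s_549_552 (c : Nat) : Nat := @Bool.rec (fun _ => Nat) (Ptab_549) (Ptab_s_550_552 c) (Nat.ble 550 c)
noncomputable def Ptab_s_547_552 (c : Nat) : Nat := @Bool.rec (fun _ => Nat) (Ptab_s_547_549 c) (Ptab_s_549_552 c) (Nat.ble 549 c)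
noncomputable def Ptab_s_553_555 (c : Nat) : Nat := @Bool.rec (fun _ => Nat) (Ptab_553) (Ptab_554) (Nat.ble 554 c)
noncomputable def Ptab_s_552_555 (c : Nat) : Nat := @Bool.rec (fun _ => Nat) (Ptab_552) (Ptab_s_553_555 c) (Nat.ble 553 c)
noncomputable def Ptab_s_556_558 (c : Nat) : Nat := @Bool.rec (fun _ => Nat) (Ptab_556) (Ptab_557) (Nat.ble 557 c)
noncomputable def Ptab_s_555_558 (c : Nat) : Nat := @Bool.rec (fun _ => Nat) (Ptab_555) (Ptab_s_556_558 c) (Nat.ble 556 c)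
noncomputable def Ptab_s_552_558 (c : Nat) : Nat := @Bool.rec (fun _ => Nat) (Ptab_s_552_555 c) (Ptab_s_555_558 c) (Nat.ble 555 c)
noncomputable def Ptab_s_547_558 (c : Nat) : Nat := @Bool.rec (fun _ => Nat) (Ptab_s_547_552 c) (Ptab_s_552_558 c) (Nat.ble 552 c)
noncomputable def Ptab_s_537_558 (c : Nat) : Nat := @Bool.rec (fun _ => Nat) (Ptab_s_537_547 c) (Ptab_s_547_558 c) (Nat.ble 547 c)
noncomputable def Ptab_s_558_560 (c : Nat) : Nat := @Bool.rec (fun _ => Nat) (Ptab_558) (Ptab_559) (Nat.ble 559 c)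
noncomputable def Ptab_s_561_563 (c : Nat) : Nat := @Bool.rec (fun _ => Nat) (Ptab_561) (Ptab_562) (Nat.ble 562 c)
noncomputable def Ptab_s_560_563 (c : Nat) : Nat := @Bool.rec (fun _ => Nat) (Ptab_560) (Ptab_s_561_563 c) (Nat.ble 561 c)
noncomputable def Ptab_s_558_563 (c : Nat) : Nat := @Bool.rec (fun _ => Nat) (Ptab_s_558_560 c) (Ptab_s_560_563 c) (Nat.ble 560 c)
noncomputable def Ptab_s_563_565 (c : Nat) : Nat := @Bool.rec (fun _ => Nat) (Ptab_563) (Ptab_564) (Nat.ble 564 c)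
noncomputable def Ptab_s_566_568 (c : Nat) : Nat := @Bool.rec (fun _ => Nat) (Ptab_566) (Ptab_567) (Nat.ble 567 c)
noncomputable def Ptab_s_565_568 (c : Nat) : Nat := @Bool.rec (fun _ => Nat) (Ptab_565) (Ptab_s_566_568 c) (Nat.ble 566 c)
noncomputable def Ptab_s_563_568 (c : Nat) : Nat := @Bool.rec (fun _ => Nat) (Ptab_s_563_565 c) (Ptab_s_565_568 c) (Nat.ble 565 c)
noncomputable def Ptab_s_558_568 (c : Nat) : Nat := @Bool.rec (fun _ => Nat) (Ptab_s_558_563 c) (Ptab_s_563_568 c) (Nat.ble 563 c)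
noncomputable def Ptab_s_568_570 (c : Nat) : Nat := @Bool.rec (fun _ => Nat) (Ptab_568) (Ptab_569) (Nat.ble 569 c)
noncomputable def Ptab_s_571_573 (c : Nat) : Nat := @Bool.rec (fun _ => Nat) (Ptab_571) (Ptab_572) (Nat.ble 572 c)
noncomputable def Ptab_s_570_573 (c : Nat) : Nat := @Bool.rec (fun _ => Nat) (Ptab_570) (Ptab_s_571_573 c) (Nat.ble 571 c)
noncomputable def Ptab_s_568_573 (c : Nat) : Nat := @Bool.rec (fun _ => Nat) (Ptab_s_568_570 c) (Ptab_s_570_573 c) (Nat.ble 570 c)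
noncomputable def Ptab_s_574_576 (c : Nat) : Nat := @Bool.rec (fun _ => Nat) (Ptab_574) (Ptab_575) (Nat.ble 575 c)
noncomputable def Ptab_s_573_576 (c : Nat) : Nat := @Bool.rec (fun _ => Nat) (Ptab_573) (Ptab_s_574_576 c) (Nat.ble 574 c)
noncomputable def Ptab_s_577_579 (c : Nat) : Nat := @Bool.rec (fun _ => Nat) (Ptab_577) (Ptab_578) (Nat.ble 578 c)
noncomputable def Ptab_s_576_579 (c : Nat) : Nat := @Bool.rec (fun _ => Nat) (Ptab_576) (Ptab_s_577_579 c) (Nat.ble 577 c)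
noncomputable def Ptab_s_573_579 (c : Nat) : Nat := @Bool.rec (fun _ => Nat) (Ptab_s_573_576 c) (Ptab_s_576_579 c) (Nat.ble 576 c)
noncomputable def Ptab_s_568_579 (c : Nat) : Nat := @Bool.rec (fun _ => Nat) (Ptab_s_568_573 c) (Ptab_s_573_579 c) (Nat.ble 573 c)
noncomputable def Ptab_s_558_579 (c : Nat) : Nat := @Bool.rec (fun _ => Nat) (Ptab_s_558_568 c) (Ptab_s_568_579 c) (Nat.ble 568 c)
noncomputable def Ptab_s_537_579 (c : Nat) : Nat := @Bool.rec (fun _ => Nat) (Ptab_s_537_558 c) (Ptab_s_558_579 c) (Nat.ble 558 c)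
noncomputable def Ptab_s_496_579 (c : Nat) : Nat := @Bool.rec (fun _ => Nat) (Ptab_s_496_537 c) (Ptab_s_537_579 c) (Nat.ble 537 c)
noncomputable def Ptab_s_579_581 (c : Nat) : Nat := @Bool.rec (fun _ => Nat) (Ptab_579) (Ptab_580) (Nat.ble 580 c)
noncomputable def Ptab_s_582_584 (c : Nat) : Nat := @Bool.rec (fun _ => Nat) (Ptab_582) (Ptab_583) (Nat.ble 583 c)
noncomputable def Ptab_s_581_584 (c : Nat) : Nat := @Bool.rec (fun _ => Nat) (Ptab_581) (Ptab_s_582_584 c) (Nat.ble 582 c)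
noncomputable def Ptab_s_579_584 (c : Nat) : Nat := @Bool.rec (fun _ => Nat) (Ptab_s_579_581 c) (Ptab_s_581_584 c) (Nat.ble 581 c)
noncomputable def Ptab_s_584_586 (c : Nat) : Nat := @Bool.rec (fun _ => Nat) (Ptab_584) (Ptab_585) (Nat.ble 585 c)
noncomputable def Ptab_s_587_589 (c : Nat) : Nat := @Bool.rec (fun _ => Nat) (Ptab_587) (Ptab_588) (Nat.ble 588 c)
noncomputable def Ptab_s_586_589 (c : Nat) : Nat := @Bool.rec (fun _ => Nat) (Ptab_586) (Ptab_s_587_589 c) (Nat.ble 587 c)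
noncomputable def Ptab_s_584_589 (c : Nat) : Nat := @Bool.rec (fun _ => Nat) (Ptab_s_584_586 c) (Ptab_s_586_589 c) (Nat.ble 586 c)
noncomputable def Ptab_s_579_589 (c : Nat) : Nat := @Bool.rec (fun _ => Nat) (Ptab_s_579_584 c) (Ptab_s_584_589 c) (Nat.ble 584 c)
noncomputable def Ptab_s_589_591 (c : Nat) : Nat := @Bool.rec (fun _ => Nat) (Ptab_589) (Ptab_590) (Nat.ble 590 c)
noncomputable def Ptab_s_592_594 (c : Nat) : Nat := @Bool.rec (fun _ => Nat) (Ptab_592) (Ptab_593) (Nat.ble 593 c)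
noncomputable def Ptab_s_591_594 (c : Nat) : Nat := @Bool.rec (fun _ => Nat) (Ptab_591) (Ptab_s_592_594 c) (Nat.ble 592 c)
noncomputable def Ptab_s_589_594 (c : Nat) : Nat := @Bool.rec (fun _ => Nat) (Ptab_s_589_591 c) (Ptab_s_591_594 c) (Nat.ble 591 c)
noncomputable def Ptab_s_594_596 (c : Nat) : Nat := @Bool.rec (fun _ => Nat) (Ptab_594) (Ptab_595) (Nat.ble 595 c)
noncomputable def Ptab_s_597_599 (c : Nat) : Nat := @Bool.rec (fun _ => Nat) (Ptab_597) (Ptab_598) (Nat.ble 598 c)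
noncomputable def Ptab_s_596_599 (c : Nat) : Nat := @Bool.rec (fun _ => Nat) (Ptab_596) (Ptab_s_597_599 c) (Nat.ble 597 c)
noncomputable def Ptab_s_594_599 (c : Nat) : Nat := @Bool.rec (fun _ => Nat) (Ptab_s_594_596 c) (Ptab_s_596_599 c) (Nat.ble 596 c)
noncomputable def Ptab_s_589_599 (c : Nat) : Nat := @Bool.rec (fun _ => Nat) (Ptab_s_589_594 c) (Ptab_s_594_599 c) (Nat.ble 594 c)
noncomputable def Ptab_s_579_599 (c : Nat) : Nat := @Bool.rec (fun _ => Nat) (Ptab_s_579_589 c) (Ptab_s_589_599 c) (Nat.ble 589 c)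
noncomputable def Ptab_s_599_601 (c : Nat) : Nat := @Bool.rec (fun _ => Nat) (Ptab_599) (Ptab_600) (Nat.ble 600 c)
noncomputable def Ptab_s_602_604 (c : Nat) : Nat := @Bool.rec (fun _ => Nat) (Ptab_602) (Ptab_603) (Nat.ble 603 c)
noncomputable def Ptab_s_601_604 (c : Nat) : Nat := @Bool.rec (fun _ => Nat) (Ptab_601) (Ptab_s_602_604 c) (Nat.ble 602 c)
noncomputable def Ptab_s_599_604 (c : Nat) : Nat := @Bool.rec (fun _ => Nat) (Ptab_s_599_601 c) (Ptab_s_601_604 c) (Nat.ble 601 c)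
noncomputable def Ptab_s_604_606 (c : Nat) : Nat := @Bool.rec (fun _ => Nat) (Ptab_604) (Ptab_605) (Nat.ble 605 c)
noncomputable def Ptab_s_607_609 (c : Nat) : Nat := @Bool.rec (fun _ => Nat) (Ptab_607) (Ptab_608) (Nat.ble 608 c)
noncomputable def Ptab_s_606_609 (c : Nat) : Nat := @Bool.rec (fun _ => Nat) (Ptab_606) (Ptab_s_607_609 c) (Nat.ble 607 c)
noncomputable def Ptab_s_604_609 (c : Nat) : Nat := @Bool.rec (fun _ => Nat) (Ptab_s_604_606 c) (Ptab_s_606_609 c) (Nat.ble 606 c)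
noncomputable def Ptab_s_599_609 (c : Nat) : Nat := @Bool.rec (fun _ => Nat) (Ptab_s_599_604 c) (Ptab_s_604_609 c) (Nat.ble 604 c)
noncomputable def Ptab_s_609_611 (c : Nat) : Nat := @Bool.rec (fun _ => Nat) (Ptab_609) (Ptab_610) (Nat.ble 610 c)
noncomputable def Ptab_s_612_614 (c : Nat) : Nat := @Bool.rec (fun _ => Nat) (Ptab_612) (Ptab_613) (Nat.ble 613 c)
noncomputable def Ptab_s_611_614 (c : Nat) : Nat := @Bool.rec (fun _ => Nat) (Ptab_611) (Ptab_s_612_614 c) (Nat.ble 612 c)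
noncomputable def Ptab_s_609_614 (c : Nat) : Nat := @Bool.rec (fun _ => Nat) (Ptab_s_609_611 c) (Ptab_s_611_614 c) (Nat.ble 611 c)
noncomputable def Ptab_s_615_617 (c : Nat) : Nat := @Bool.rec (fun _ => Nat) (Ptab_615) (Ptab_616) (Nat.ble 616 c)
noncomputable def Ptab_s_614_617 (c : Nat) : Nat := @Bool.rec (fun _ => Nat) (Ptab_614) (Ptab_s_615_617 c) (Nat.ble 615 c)
noncomputable def Ptab_s_618_620 (c : Nat) : Nat := @Bool.rec (fun _ => Nat) (Ptab_618) (Ptab_619) (Nat.ble 619 c)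
noncomputable def Ptab_s_617_620 (c : Nat) : Nat := @Bool.rec (fun _ => Nat) (Ptab_617) (Ptab_s_618_620 c) (Nat.ble 618 c)
noncomputable def Ptab_s_614_620 (c : Nat) : Nat := @Bool.rec (fun _ => Nat) (Ptab_s_614_617 c) (Ptab_s_617_620 c) (Nat.ble 617 c)
noncomputable def Ptab_s_609_620 (c : Nat) : Nat := @Bool.rec (fun _ => Nat) (Ptab_s_609_614 c) (Ptab_s_614_620 c) (Nat.ble 614 c)
noncomputable def Ptab_s_599_620 (c : Nat) : Nat := @Bool.rec (fun _ => Nat) (Ptab_s_599_609 c) (Ptab_s_609_620 c) (Nat.ble 609 c)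
noncomputable def Ptab_s_579_620 (c : Nat) : Nat := @Bool.rec (fun _ => Nat) (Ptab_s_579_599 c) (Ptab_s_599_620 c) (Nat.ble 599 c)
noncomputable def Ptab_s_620_622 (c : Nat) : Nat := @Bool.rec (fun _ => Nat) (Ptab_620) (Ptab_621) (Nat.ble 621 c)
noncomputable def Ptab_s_623_625 (c : Nat) : Nat := @Bool.rec (fun _ => Nat) (Ptab_623) (Ptab_624) (Nat.ble 624 c)
noncomputable def Ptab_s_622_625 (c : Nat) : Nat := @Bool.rec (fun _ => Nat) (Ptab_622) (Ptab_s_623_625 c) (Nat.ble 623 c)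
noncomputable def Ptab_s_620_625 (c : Nat) : Nat := @Bool.rec (fun _ => Nat) (Ptab_s_620_622 c) (Ptab_s_622_625 c) (Nat.ble 622 c)
noncomputable def Ptab_s_625_627 (c : Nat) : Nat := @Bool.rec (fun _ => Nat) (Ptab_625) (Ptab_626) (Nat.ble 626 c)
noncomputable def Ptab_s_628_630 (c : Nat) : Nat := @Bool.rec (fun _ => Nat) (Ptab_628) (Ptab_629) (Nat.ble 629 c)
noncomputable def Ptab_s_627_630 (c : Nat) : Nat := @Bool.rec (fun _ => Nat) (Ptab_627) (Ptab_s_628_630 c) (Nat.ble 628 c)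
noncomputable def Ptab_s_625_630 (c : Nat) : Nat := @Bool.rec (fun _ => Nat) (Ptab_s_625_627 c) (Ptab_s_627_630 c) (Nat.ble 627 c)
noncomputable def Ptab_s_620_630 (c : Nat) : Nat := @Bool.rec (fun _ => Nat) (Ptab_s_620_625 c) (Ptab_s_625_630 c) (Nat.ble 625 c)
noncomputable def Ptab_s_630_632 (c : Nat) : Nat := @Bool.rec (fun _ => Nat) (Ptab_630) (Ptab_631) (Nat.ble 631 c)
noncomputable def Ptab_s_633_635 (c : Nat) : Nat := @Bool.rec (fun _ => Nat) (Ptab_633) (Ptab_634) (Nat.ble 634 c)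
noncomputable def Ptab_s_632_635 (c : Nat) : Nat := @Bool.rec (fun _ => Nat) (Ptab_632) (Ptab_s_633_635 c) (Nat.ble 633 c)
noncomputable def Ptab_s_630_635 (c : Nat) : Nat := @Bool.rec (fun _ => Nat) (Ptab_s_630_632 c) (Ptab_s_632_635 c) (Nat.ble 632 c)
noncomputable def Ptab_s_636_638 (c : Nat) : Nat := @Bool.rec (fun _ => Nat) (Ptab_636) (Ptab_637) (Nat.ble 637 c)
noncomputable def Ptab_s_635_638 (c : Nat) : Nat := @Bool.rec (fun _ => Nat) (Ptab_635) (Ptab_s_636_638 c) (Nat.ble 636 c)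
noncomputable def Ptab_s_639_641 (c : Nat) : Nat := @Bool.rec (fun _ => Nat) (Ptab_639) (Ptab_640) (Nat.ble 640 c)
noncomputable def Ptab_s_638_641 (c : Nat) : Nat := @Bool.rec (fun _ => Nat) (Ptab_638) (Ptab_s_639_641 c) (Nat.ble 639 c)
noncomputable def Ptab_s_635_641 (c : Nat) : Nat := @Bool.rec (fun _ => Nat) (Ptab_s_635_638 c) (Ptab_s_638_641 c) (Nat.ble 638 c)
noncomputable def Ptab_s_630_641 (c : Nat) : Nat := @Bool.rec (fun _ => Nat) (Ptab_s_630_635 c) (Ptab_s_635_641 c) (Nat.ble 635 c)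
noncomputable def Ptab_s_620_641 (c : Nat) : Nat := @Bool.rec (fun _ => Nat) (Ptab_s_620_630 c) (Ptab_s_630_641 c) (Nat.ble 630 c)
noncomputable def Ptab_s_641_643 (c : Nat) : Nat := @Bool.rec (fun _ => Nat) (Ptab_641) (Ptab_642) (Nat.ble 642 c)
noncomputable def Ptab_s_644_646 (c : Nat) : Nat := @Bool.rec (fun _ => Nat) (Ptab_644) (Ptab_645) (Nat.ble 645 c)
noncomputable def Ptab_s_643_646 (c : Nat) : Nat := @Bool.rec (fun _ => Nat) (Ptab_643) (Ptab_s_644_646 c) (Nat.ble 644 c)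
noncomputable def Ptab_s_641_646 (c : Nat) : Nat := @Bool.rec (fun _ => Nat) (Ptab_s_641_643 c) (Ptab_s_643_646 c) (Nat.ble 643 c)
noncomputable def Ptab_s_646_648 (c : Nat) : Nat := @Bool.rec (fun _ => Nat) (Ptab_646) (Ptab_647) (Nat.ble 647 c)
noncomputable def Ptab_s_649_651 (c : Nat) : Nat := @Bool.rec (fun _ => Nat) (Ptab_649) (Ptab_650) (Nat.ble 650 c)
noncomputable def Ptab_s_648_651 (c : Nat) : Nat := @Bool.rec (fun _ => Nat) (Ptab_648) (Ptab_s_649_651 c) (Nat.ble 649 c)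
noncomputable def Ptab_s_646_651 (c : Nat) : Nat := @Bool.rec (fun _ => Nat) (Ptab_s_646_648 c) (Ptab_s_648_651 c) (Nat.ble 648 c)
noncomputable def Ptab_s_641_651 (c : Nat) : Nat := @Bool.rec (fun _ => Nat) (Ptab_s_641_646 c) (Ptab_s_646_651 c) (Nat.ble 646 c)
noncomputable def Ptab_s_651_653 (c : Nat) : Nat := @Bool.rec (fun _ => Nat) (Ptab_651) (Ptab_652) (Nat.ble 652 c)
noncomputable def Ptab_s_654_656 (c : Nat) : Nat := @Bool.rec (fun _ => Nat) (Ptab_654) (Ptab_655) (Nat.ble 655 c)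
noncomputable def Ptab_s_653_656 (c : Nat) : Nat := @Bool.rec (fun _ => Nat) (Ptab_653) (Ptab_s_654_656 c) (Nat.ble 654 c)
noncomputable def Ptab_s_651_656 (c : Nat) : Nat := @Bool.rec (fun _ => Nat) (Ptab_s_651_653 c) (Ptab_s_653_656 c) (Nat.ble 653 c)
noncomputable def Ptab_s_657_659 (c : Nat) : Nat := @Bool.rec (fun _ => Nat) (Ptab_657) (Ptab_658) (Nat.ble 658 c)
noncomputable def Ptab_s_656_659 (c : Nat) : Nat := @Bool.rec (fun _ => Nat) (Ptab_656) (Ptab_s_657_659 c) (Nat.ble 657 c)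
noncomputable def Ptab_s_660_662 (c : Nat) : Nat := @Bool.rec (fun _ => Nat) (Ptab_660) (Ptab_661) (Nat.ble 661 c)
noncomputable def Ptab_s_659_662 (c : Nat) : Nat := @Bool.rec (fun _ => Nat) (Ptab_659) (Ptab_s_660_662 c) (Nat.ble 660 c)
noncomputable def Ptab_s_656_662 (c : Nat) : Nat := @Bool.rec (fun _ => Nat) (Ptab_s_656_659 c) (Ptab_s_659_662 c) (Nat.ble 659 c)
noncomputable def Ptab_s_651_662 (c : Nat) : Nat := @Bool.rec (fun _ => Nat) (Ptab_s_651_656 c) (Ptab_s_656_662 c) (Nat.ble 656 c)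
noncomputable def Ptab_s_641_662 (c : Nat) : Nat := @Bool.rec (fun _ => Nat) (Ptab_s_641_651 c) (Ptab_s_651_662 c) (Nat.ble 651 c)
noncomputable def Ptab_s_620_662 (c : Nat) : Nat := @Bool.rec (fun _ => Nat) (Ptab_s_620_641 c) (Ptab_s_641_662 c) (Nat.ble 641 c)
noncomputable def Ptab_s_579_662 (c : Nat) : Nat := @Bool.rec (fun _ => Nat) (Ptab_s_579_620 c) (Ptab_s_620_662 c) (Nat.ble 620 c)
noncomputable def Ptab_s_496_662 (c : Nat) : Nat := @Bool.rec (fun _ => Nat) (Ptab_s_496_579 c) (Ptab_s_579_662 c) (Nat.ble 579 c)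
noncomputable def Ptab_s_331_662 (c : Nat) : Nat := @Bool.rec (fun _ => Nat) (Ptab_s_331_496 c) (Ptab_s_496_662 c) (Nat.ble 496 c)
noncomputable def Ptab_s_0_662 (c : Nat) : Nat := @Bool.rec (fun _ => Nat) (Ptab_s_0_331 c) (Ptab_s_331_662 c) (Nat.ble 331 c)
noncomputable def Ptab (i : Nat) : Nat := rdw 21 2097151 (Ptab_s_0_662 (Nat.shiftRight i 12)) (Nat.land i 4095)
noncomputable def RRtab (i : Nat) : Nat := rdw 5 31 RRtab_0 i
noncomputable def rBtab (i : Nat) : Nat := rdw 10 1023 rBtab_0 i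
noncomputable def rLtab (i : Nat) : Nat := rdw 5 31 rLtab_0 i
noncomputable def nameTab_s_1_3 (c : Nat) : Nat := @Bool.rec (fun _ => Nat) (nameTab_1) (nameTab_2) (Nat.ble 2 c)
noncomputable def nameTab_s_0_3 (c : Nat) : Nat := @Bool.rec (fun _ => Nat) (nameTab_0) (nameTab_s_1_3 c) (Nat.ble 1 c)
noncomputable def nameTab_s_3_5 (c : Nat) : Nat := @Bool.rec (fun _ => Nat) (nameTab_3) (nameTab_4) (Nat.ble 4 c)
noncomputable def nameTab_s_5_7 (c : Nat) : Nat := @Bool.rec (fun _ => Nat) (nameTab_5) (nameTab_6) (Nat.ble 6 c)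
noncomputable def nameTab_s_3_7 (c : Nat) : Nat := @Bool.rec (fun _ => Nat) (nameTab_s_3_5 c) (nameTab_s_5_7 c) (Nat.ble 5 c)
noncomputable def nameTab_s_0_7 (c : Nat) : Nat := @Bool.rec (fun _ => Nat) (nameTab_s_0_3 c) (nameTab_s_3_7 c) (Nat.ble 3 c)
noncomputable def nameTab_s_7_9 (c : Nat) : Nat := @Bool.rec (fun _ => Nat) (nameTab_7) (nameTab_8) (Nat.ble 8 c)
noncomputable def nameTab_s_9_11 (c : Nat) : Nat := @Bool.rec (fun _ => Nat) (nameTab_9) (nameTab_10) (Nat.ble 10 c)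
noncomputable def nameTab_s_7_11 (c : Nat) : Nat := @Bool.rec (fun _ => Nat) (nameTab_s_7_9 c) (nameTab_s_9_11 c) (Nat.ble 9 c)
noncomputable def nameTab_s_11_13 (c : Nat) : Nat := @Bool.rec (fun _ => Nat) (nameTab_11) (nameTab_12) (Nat.ble 12 c)
noncomputable def nameTab_s_13_15 (c : Nat) : Nat := @Bool.rec (fun _ => Nat) (nameTab_13) (nameTab_14) (Nat.ble 14 c)
noncomputable def nameTab_s_11_15 (c : Nat) : Nat := @Bool.rec (fun _ => Nat) (nameTab_s_11_13 c) (nameTab_s_13_15 c) (Nat.ble 13 c)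
noncomputable def nameTab_s_7_15 (c : Nat) : Nat := @Bool.rec (fun _ => Nat) (nameTab_s_7_11 c) (nameTab_s_11_15 c) (Nat.ble 11 c)
noncomputable def nameTab_s_0_15 (c : Nat) : Nat := @Bool.rec (fun _ => Nat) (nameTab_s_0_7 c) (nameTab_s_7_15 c) (Nat.ble 7 c)
noncomputable def nameTab_s_16_18 (c : Nat) : Nat := @Bool.rec (fun _ => Nat) (nameTab_16) (nameTab_17) (Nat.ble 17 c)
noncomputable def nameTab_s_15_18 (c : Nat) : Nat := @Bool.rec (fun _ => Nat) (nameTab_15) (nameTab_s_16_18 c) (Nat.ble 16 c)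
noncomputable def nameTab_s_18_20 (c : Nat) : Nat := @Bool.rec (fun _ => Nat) (nameTab_18) (nameTab_19) (Nat.ble 19 c)
noncomputable def nameTab_s_20_22 (c : Nat) : Nat := @Bool.rec (fun _ => Nat) (nameTab_20) (nameTab_21) (Nat.ble 21 c)
noncomputable def nameTab_s_18_22 (c : Nat) : Nat := @Bool.rec (fun _ => Nat) (nameTab_s_18_20 c) (nameTab_s_20_22 c) (Nat.ble 20 c)
noncomputable def nameTab_s_15_22 (c : Nat) : Nat := @Bool.rec (fun _ => Nat) (nameTab_s_15_18 c) (nameTab_s_18_22 c) (Nat.ble 18 c)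
noncomputable def nameTab_s_22_24 (c : Nat) : Nat := @Bool.rec (fun _ => Nat) (nameTab_22) (nameTab_23) (Nat.ble 23 c)
noncomputable def nameTab_s_24_26 (c : Nat) : Nat := @Bool.rec (fun _ => Nat) (nameTab_24) (nameTab_25) (Nat.ble 25 c)
noncomputable def nameTab_s_22_26 (c : Nat) : Nat := @Bool.rec (fun _ => Nat) (nameTab_s_22_24 c) (nameTab_s_24_26 c) (Nat.ble 24 c)
noncomputable def nameTab_s_26_28 (c : Nat) : Nat := @Bool.rec (fun _ => Nat) (nameTab_26) (nameTab_27) (Nat.ble 27 c)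
noncomputable def nameTab_s_28_30 (c : Nat) : Nat := @Bool.rec (fun _ => Nat) (nameTab_28) (nameTab_29) (Nat.ble 29 c)
noncomputable def nameTab_s_26_30 (c : Nat) : Nat := @Bool.rec (fun _ => Nat) (nameTab_s_26_28 c) (nameTab_s_28_30 c) (Nat.ble 28 c)
noncomputable def nameTab_s_22_30 (c : Nat) : Nat := @Bool.rec (fun _ => Nat) (nameTab_s_22_26 c) (nameTab_s_26_30 c) (Nat.ble 26 c)
noncomputable def nameTab_s_15_30 (c : Nat) : Nat := @Bool.rec (fun _ => Nat) (nameTab_s_15_22 c) (nameTab_s_22_30 c) (Nat.ble 22 c)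
noncomputable def nameTab_s_0_30 (c : Nat) : Nat := @Bool.rec (fun _ => Nat) (nameTab_s_0_15 c) (nameTab_s_15_30 c) (Nat.ble 15 c)
noncomputable def nameTab (i : Nat) : Nat := rdw 18 262143 (nameTab_s_0_30 (Nat.shiftRight i 12)) (Nat.land i 4095)
noncomputable def col0_s_1_3 (c : Nat) : Nat := @Bool.rec (fun _ => Nat) (col0_1) (col0_2) (Nat.ble 2 c)
noncomputable def col0_s_0_3 (c : Nat) : Nat := @Bool.rec (fun _ => Nat) (col0_0) (col0_s_1_3 c) (Nat.ble 1 c)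
noncomputable def col0_s_3_5 (c : Nat) : Nat := @Bool.rec (fun _ => Nat) (col0_3) (col0_4) (Nat.ble 4 c)
noncomputable def col0_s_5_7 (c : Nat) : Nat := @Bool.rec (fun _ => Nat) (col0_5) (col0_6) (Nat.ble 6 c)
noncomputable def col0_s_3_7 (c : Nat) : Nat := @Bool.rec (fun _ => Nat) (col0_s_3_5 c) (col0_s_5_7 c) (Nat.ble 5 c)
noncomputable def col0_s_0_7 (c : Nat) : Nat := @Bool.rec (fun _ => Nat) (col0_s_0_3 c) (col0_s_3_7 c) (Nat.ble 3 c)
noncomputable def col0_s_7_9 (c : Nat) : Nat := @Bool.rec (fun _ => Nat) (col0_7) (col0_8) (Nat.ble 8 c)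
noncomputable def col0_s_9_11 (c : Nat) : Nat := @Bool.rec (fun _ => Nat) (col0_9) (col0_10) (Nat.ble 10 c)
noncomputable def col0_s_7_11 (c : Nat) : Nat := @Bool.rec (fun _ => Nat) (col0_s_7_9 c) (col0_s_9_11 c) (Nat.ble 9 c)
noncomputable def col0_s_11_13 (c : Nat) : Nat := @Bool.rec (fun _ => Nat) (col0_11) (col0_12) (Nat.ble 12 c)
noncomputable def col0_s_13_15 (c : Nat) : Nat := @Bool.rec (fun _ => Nat) (col0_13) (col0_14) (Nat.ble 14 c)
noncomputable def col0_s_11_15 (c : Nat) : Nat := @Bool.rec (fun _ => Nat) (col0_s_11_13 c) (col0_s_13_15 c) (Nat.ble 13 c)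
noncomputable def col0_s_7_15 (c : Nat) : Nat := @Bool.rec (fun _ => Nat) (col0_s_7_11 c) (col0_s_11_15 c) (Nat.ble 11 c)
noncomputable def col0_s_0_15 (c : Nat) : Nat := @Bool.rec (fun _ => Nat) (col0_s_0_7 c) (col0_s_7_15 c) (Nat.ble 7 c)
noncomputable def col0_s_16_18 (c : Nat) : Nat := @Bool.rec (fun _ => Nat) (col0_16) (col0_17) (Nat.ble 17 c)
noncomputable def col0_s_15_18 (c : Nat) : Nat := @Bool.rec (fun _ => Nat) (col0_15) (col0_s_16_18 c) (Nat.ble 16 c)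
noncomputable def col0_s_18_20 (c : Nat) : Nat := @Bool.rec (fun _ => Nat) (col0_18) (col0_19) (Nat.ble 19 c)
noncomputable def col0_s_20_22 (c : Nat) : Nat := @Bool.rec (fun _ => Nat) (col0_20) (col0_21) (Nat.ble 21 c)
noncomputable def col0_s_18_22 (c : Nat) : Nat := @Bool.rec (fun _ => Nat) (col0_s_18_20 c) (col0_s_20_22 c) (Nat.ble 20 c)
noncomputable def col0_s_15_22 (c : Nat) : Nat := @Bool.rec (fun _ => Nat) (col0_s_15_18 c) (col0_s_18_22 c) (Nat.ble 18 c)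
noncomputable def col0_s_22_24 (c : Nat) : Nat := @Bool.rec (fun _ => Nat) (col0_22) (col0_23) (Nat.ble 23 c)
noncomputable def col0_s_24_26 (c : Nat) : Nat := @Bool.rec (fun _ => Nat) (col0_24) (col0_25) (Nat.ble 25 c)
noncomputable def col0_s_22_26 (c : Nat) : Nat := @Bool.rec (fun _ => Nat) (col0_s_22_24 c) (col0_s_24_26 c) (Nat.ble 24 c)
noncomputable def col0_s_26_28 (c : Nat) : Nat := @Bool.rec (fun _ => Nat) (col0_26) (col0_27) (Nat.ble 27 c)
noncomputable def col0_s_28_30 (c : Nat) : Nat := @Bool.rec (fun _ => Nat) (col0_28) (col0_29) (Nat.ble 29 c)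
noncomputable def col0_s_26_30 (c : Nat) : Nat := @Bool.rec (fun _ => Nat) (col0_s_26_28 c) (col0_s_28_30 c) (Nat.ble 28 c)
noncomputable def col0_s_22_30 (c : Nat) : Nat := @Bool.rec (fun _ => Nat) (col0_s_22_26 c) (col0_s_26_30 c) (Nat.ble 26 c)
noncomputable def col0_s_15_30 (c : Nat) : Nat := @Bool.rec (fun _ => Nat) (col0_s_15_22 c) (col0_s_22_30 c) (Nat.ble 22 c)
noncomputable def col0_s_0_30 (c : Nat) : Nat := @Bool.rec (fun _ => Nat) (col0_s_0_15 c) (col0_s_15_30 c) (Nat.ble 15 c)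
noncomputable def col0 (i : Nat) : Nat := rdw 17 131071 (col0_s_0_30 (Nat.shiftRight i 12)) (Nat.land i 4095)
noncomputable def col1_s_1_3 (c : Nat) : Nat := @Bool.rec (fun _ => Nat) (col1_1) (col1_2) (Nat.ble 2 c)
noncomputable def col1_s_0_3 (c : Nat) : Nat := @Bool.rec (fun _ => Nat) (col1_0) (col1_s_1_3 c) (Nat.ble 1 c)
noncomputable def col1_s_3_5 (c : Nat) : Nat := @Bool.rec (fun _ => Nat) (col1_3) (col1_4) (Nat.ble 4 c)
noncomputable def col1_s_5_7 (c : Nat) : Nat := @Bool.rec (fun _ => Nat) (col1_5) (col1_6) (Nat.ble 6 c)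
noncomputable def col1_s_3_7 (c : Nat) : Nat := @Bool.rec (fun _ => Nat) (col1_s_3_5 c) (col1_s_5_7 c) (Nat.ble 5 c)
noncomputable def col1_s_0_7 (c : Nat) : Nat := @Bool.rec (fun _ => Nat) (col1_s_0_3 c) (col1_s_3_7 c) (Nat.ble 3 c)
noncomputable def col1_s_7_9 (c : Nat) : Nat := @Bool.rec (fun _ => Nat) (col1_7) (col1_8) (Nat.ble 8 c)
noncomputable def col1_s_9_11 (c : Nat) : Nat := @Bool.rec (fun _ => Nat) (col1_9) (col1_10) (Nat.ble 10 c)
noncomputable def col1_s_7_11 (c : Nat) : Nat := @Bool.rec (fun _ => Nat) (col1_s_7_9 c) (col1_s_9_11 c) (Nat.ble 9 c)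
noncomputable def col1_s_11_13 (c : Nat) : Nat := @Bool.rec (fun _ => Nat) (col1_11) (col1_12) (Nat.ble 12 c)
noncomputable def col1_s_13_15 (c : Nat) : Nat := @Bool.rec (fun _ => Nat) (col1_13) (col1_14) (Nat.ble 14 c)
noncomputable def col1_s_11_15 (c : Nat) : Nat := @Bool.rec (fun _ => Nat) (col1_s_11_13 c) (col1_s_13_15 c) (Nat.ble 13 c)
noncomputable def col1_s_7_15 (c : Nat) : Nat := @Bool.rec (fun _ => Nat) (col1_s_7_11 c) (col1_s_11_15 c) (Nat.ble 11 c)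
noncomputable def col1_s_0_15 (c : Nat) : Nat := @Bool.rec (fun _ => Nat) (col1_s_0_7 c) (col1_s_7_15 c) (Nat.ble 7 c)
noncomputable def col1_s_16_18 (c : Nat) : Nat := @Bool.rec (fun _ => Nat) (col1_16) (col1_17) (Nat.ble 17 c)
noncomputable def col1_s_15_18 (c : Nat) : Nat := @Bool.rec (fun _ => Nat) (col1_15) (col1_s_16_18 c) (Nat.ble 16 c)
noncomputable def col1_s_18_20 (c : Nat) : Nat := @Bool.rec (fun _ => Nat) (col1_18) (col1_19) (Nat.ble 19 c)
noncomputable def col1_s_20_22 (c : Nat) : Nat := @Bool.rec (fun _ => Nat) (col1_20) (col1_21) (Nat.ble 21 c)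
noncomputable def col1_s_18_22 (c : Nat) : Nat := @Bool.rec (fun _ => Nat) (col1_s_18_20 c) (col1_s_20_22 c) (Nat.ble 20 c)
noncomputable def col1_s_15_22 (c : Nat) : Nat := @Bool.rec (fun _ => Nat) (col1_s_15_18 c) (col1_s_18_22 c) (Nat.ble 18 c)
noncomputable def col1_s_22_24 (c : Nat) : Nat := @Bool.rec (fun _ => Nat) (col1_22) (col1_23) (Nat.ble 23 c)
noncomputable def col1_s_24_26 (c : Nat) : Nat := @Bool.rec (fun _ => Nat) (col1_24) (col1_25) (Nat.ble 25 c)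
noncomputable def col1_s_22_26 (c : Nat) : Nat := @Bool.rec (fun _ => Nat) (col1_s_22_24 c) (col1_s_24_26 c) (Nat.ble 24 c)
noncomputable def col1_s_26_28 (c : Nat) : Nat := @Bool.rec (fun _ => Nat) (col1_26) (col1_27) (Nat.ble 27 c)
noncomputable def col1_s_28_30 (c : Nat) : Nat := @Bool.rec (fun _ => Nat) (col1_28) (col1_29) (Nat.ble 29 c)
noncomputable def col1_s_26_30 (c : Nat) : Nat := @Bool.rec (fun _ => Nat) (col1_s_26_28 c) (col1_s_28_30 c) (Nat.ble 28 c)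
noncomputable def col1_s_22_30 (c : Nat) : Nat := @Bool.rec (fun _ => Nat) (col1_s_22_26 c) (col1_s_26_30 c) (Nat.ble 26 c)
noncomputable def col1_s_15_30 (c : Nat) : Nat := @Bool.rec (fun _ => Nat) (col1_s_15_22 c) (col1_s_22_30 c) (Nat.ble 22 c)
noncomputable def col1_s_0_30 (c : Nat) : Nat := @Bool.rec (fun _ => Nat) (col1_s_0_15 c) (col1_s_15_30 c) (Nat.ble 15 c)
noncomputable def col1 (i : Nat) : Nat := rdw 17 131071 (col1_s_0_30 (Nat.shiftRight i 12)) (Nat.land i 4095)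
noncomputable def col2_s_1_3 (c : Nat) : Nat := @Bool.rec (fun _ => Nat) (col2_1) (col2_2) (Nat.ble 2 c)
noncomputable def col2_s_0_3 (c : Nat) : Nat := @Bool.rec (fun _ => Nat) (col2_0) (col2_s_1_3 c) (Nat.ble 1 c)
noncomputable def col2_s_3_5 (c : Nat) : Nat := @Bool.rec (fun _ => Nat) (col2_3) (col2_4) (Nat.ble 4 c)
noncomputable def col2_s_5_7 (c : Nat) : Nat := @Bool.rec (fun _ => Nat) (col2_5) (col2_6) (Nat.ble 6 c)
noncomputable def col2_s_3_7 (c : Nat) : Nat := @Bool.rec (fun _ => Nat) (col2_s_3_5 c) (col2_s_5_7 c) (Nat.ble 5 c)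
noncomputable def col2_s_0_7 (c : Nat) : Nat := @Bool.rec (fun _ => Nat) (col2_s_0_3 c) (col2_s_3_7 c) (Nat.ble 3 c)
noncomputable def col2_s_7_9 (c : Nat) : Nat := @Bool.rec (fun _ => Nat) (col2_7) (col2_8) (Nat.ble 8 c)
noncomputable def col2_s_9_11 (c : Nat) : Nat := @Bool.rec (fun _ => Nat) (col2_9) (col2_10) (Nat.ble 10 c)
noncomputable def col2_s_7_11 (c : Nat) : Nat := @Bool.rec (fun _ => Nat) (col2_s_7_9 c) (col2_s_9_11 c) (Nat.ble 9 c)
noncomputable def col2_s_11_13 (c : Nat) : Nat := @Bool.rec (fun _ => Nat) (col2_11) (col2_12) (Nat.ble 12 c)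
noncomputable def col2_s_13_15 (c : Nat) : Nat := @Bool.rec (fun _ => Nat) (col2_13) (col2_14) (Nat.ble 14 c)
noncomputable def col2_s_11_15 (c : Nat) : Nat := @Bool.rec (fun _ => Nat) (col2_s_11_13 c) (col2_s_13_15 c) (Nat.ble 13 c)
noncomputable def col2_s_7_15 (c : Nat) : Nat := @Bool.rec (fun _ => Nat) (col2_s_7_11 c) (col2_s_11_15 c) (Nat.ble 11 c)
noncomputable def col2_s_0_15 (c : Nat) : Nat := @Bool.rec (fun _ => Nat) (col2_s_0_7 c) (col2_s_7_15 c) (Nat.ble 7 c)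
noncomputable def col2_s_16_18 (c : Nat) : Nat := @Bool.rec (fun _ => Nat) (col2_16) (col2_17) (Nat.ble 17 c)
noncomputable def col2_s_15_18 (c : Nat) : Nat := @Bool.rec (fun _ => Nat) (col2_15) (col2_s_16_18 c) (Nat.ble 16 c)
noncomputable def col2_s_18_20 (c : Nat) : Nat := @Bool.rec (fun _ => Nat) (col2_18) (col2_19) (Nat.ble 19 c)
noncomputable def col2_s_20_22 (c : Nat) : Nat := @Bool.rec (fun _ => Nat) (col2_20) (col2_21) (Nat.ble 21 c)
noncomputable def col2_s_18_22 (c : Nat) : Nat := @Bool.rec (fun _ => Nat) (col2_s_18_20 c) (col2_s_20_22 c) (Nat.ble 20 c)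
noncomputable def col2_s_15_22 (c : Nat) : Nat := @Bool.rec (fun _ => Nat) (col2_s_15_18 c) (col2_s_18_22 c) (Nat.ble 18 c)
noncomputable def col2_s_22_24 (c : Nat) : Nat := @Bool.rec (fun _ => Nat) (col2_22) (col2_23) (Nat.ble 23 c)
noncomputable def col2_s_24_26 (c : Nat) : Nat := @Bool.rec (fun _ => Nat) (col2_24) (col2_25) (Nat.ble 25 c)
noncomputable def col2_s_22_26 (c : Nat) : Nat := @Bool.rec (fun _ => Nat) (col2_s_22_24 c) (col2_s_24_26 c) (Nat.ble 24 c)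
noncomputable def col2_s_26_28 (c : Nat) : Nat := @Bool.rec (fun _ => Nat) (col2_26) (col2_27) (Nat.ble 27 c)
noncomputable def col2_s_28_30 (c : Nat) : Nat := @Bool.rec (fun _ => Nat) (col2_28) (col2_29) (Nat.ble 29 c)
noncomputable def col2_s_26_30 (c : Nat) : Nat := @Bool.rec (fun _ => Nat) (col2_s_26_28 c) (col2_s_28_30 c) (Nat.ble 28 c)
noncomputable def col2_s_22_30 (c : Nat) : Nat := @Bool.rec (fun _ => Nat) (col2_s_22_26 c) (col2_s_26_30 c) (Nat.ble 26 c)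
noncomputable def col2_s_15_30 (c : Nat) : Nat := @Bool.rec (fun _ => Nat) (col2_s_15_22 c) (col2_s_22_30 c) (Nat.ble 22 c)
noncomputable def col2_s_0_30 (c : Nat) : Nat := @Bool.rec (fun _ => Nat) (col2_s_0_15 c) (col2_s_15_30 c) (Nat.ble 15 c)
noncomputable def col2 (i : Nat) : Nat := rdw 17 131071 (col2_s_0_30 (Nat.shiftRight i 12)) (Nat.land i 4095)
noncomputable def col3_s_1_3 (c : Nat) : Nat := @Bool.rec (fun _ => Nat) (col3_1) (col3_2) (Nat.ble 2 c)
noncomputable def col3_s_0_3 (c : Nat) : Nat := @Bool.rec (fun _ => Nat) (col3_0) (col3_s_1_3 c) (Nat.ble 1 c)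
noncomputable def col3_s_3_5 (c : Nat) : Nat := @Bool.rec (fun _ => Nat) (col3_3) (col3_4) (Nat.ble 4 c)
noncomputable def col3_s_5_7 (c : Nat) : Nat := @Bool.rec (fun _ => Nat) (col3_5) (col3_6) (Nat.ble 6 c)
noncomputable def col3_s_3_7 (c : Nat) : Nat := @Bool.rec (fun _ => Nat) (col3_s_3_5 c) (col3_s_5_7 c) (Nat.ble 5 c)
noncomputable def col3_s_0_7 (c : Nat) : Nat := @Bool.rec (fun _ => Nat) (col3_s_0_3 c) (col3_s_3_7 c) (Nat.ble 3 c)
noncomputable def col3_s_7_9 (c : Nat) : Nat := @Bool.rec (fun _ => Nat) (col3_7) (col3_8) (Nat.ble 8 c)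
noncomputable def col3_s_9_11 (c : Nat) : Nat := @Bool.rec (fun _ => Nat) (col3_9) (col3_10) (Nat.ble 10 c)
noncomputable def col3_s_7_11 (c : Nat) : Nat := @Bool.rec (fun _ => Nat) (col3_s_7_9 c) (col3_s_9_11 c) (Nat.ble 9 c)
noncomputable def col3_s_11_13 (c : Nat) : Nat := @Bool.rec (fun _ => Nat) (col3_11) (col3_12) (Nat.ble 12 c)
noncomputable def col3_s_13_15 (c : Nat) : Nat := @Bool.rec (fun _ => Nat) (col3_13) (col3_14) (Nat.ble 14 c)
noncomputable def col3_s_11_15 (c : Nat) : Nat := @Bool.rec (fun _ => Nat) (col3_s_11_13 c) (col3_s_13_15 c) (Nat.ble 13 c)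
noncomputable def col3_s_7_15 (c : Nat) : Nat := @Bool.rec (fun _ => Nat) (col3_s_7_11 c) (col3_s_11_15 c) (Nat.ble 11 c)
noncomputable def col3_s_0_15 (c : Nat) : Nat := @Bool.rec (fun _ => Nat) (col3_s_0_7 c) (col3_s_7_15 c) (Nat.ble 7 c)
noncomputable def col3_s_16_18 (c : Nat) : Nat := @Bool.rec (fun _ => Nat) (col3_16) (col3_17) (Nat.ble 17 c)
noncomputable def col3_s_15_18 (c : Nat) : Nat := @Bool.rec (fun _ => Nat) (col3_15) (col3_s_16_18 c) (Nat.ble 16 c)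
noncomputable def col3_s_18_20 (c : Nat) : Nat := @Bool.rec (fun _ => Nat) (col3_18) (col3_19) (Nat.ble 19 c)
noncomputable def col3_s_20_22 (c : Nat) : Nat := @Bool.rec (fun _ => Nat) (col3_20) (col3_21) (Nat.ble 21 c)
noncomputable def col3_s_18_22 (c : Nat) : Nat := @Bool.rec (fun _ => Nat) (col3_s_18_20 c) (col3_s_20_22 c) (Nat.ble 20 c)
noncomputable def col3_s_15_22 (c : Nat) : Nat := @Bool.rec (fun _ => Nat) (col3_s_15_18 c) (col3_s_18_22 c) (Nat.ble 18 c)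
noncomputable def col3_s_22_24 (c : Nat) : Nat := @Bool.rec (fun _ => Nat) (col3_22) (col3_23) (Nat.ble 23 c)
noncomputable def col3_s_24_26 (c : Nat) : Nat := @Bool.rec (fun _ => Nat) (col3_24) (col3_25) (Nat.ble 25 c)
noncomputable def col3_s_22_26 (c : Nat) : Nat := @Bool.rec (fun _ => Nat) (col3_s_22_24 c) (col3_s_24_26 c) (Nat.ble 24 c)
noncomputable def col3_s_26_28 (c : Nat) : Nat := @Bool.rec (fun _ => Nat) (col3_26) (col3_27) (Nat.ble 27 c)
noncomputable def col3_s_28_30 (c : Nat) : Nat := @Bool.rec (fun _ => Nat) (col3_28) (col3_29) (Nat.ble 29 c)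
noncomputable def col3_s_26_30 (c : Nat) : Nat := @Bool.rec (fun _ => Nat) (col3_s_26_28 c) (col3_s_28_30 c) (Nat.ble 28 c)
noncomputable def col3_s_22_30 (c : Nat) : Nat := @Bool.rec (fun _ => Nat) (col3_s_22_26 c) (col3_s_26_30 c) (Nat.ble 26 c)
noncomputable def col3_s_15_30 (c : Nat) : Nat := @Bool.rec (fun _ => Nat) (col3_s_15_22 c) (col3_s_22_30 c) (Nat.ble 22 c)
noncomputable def col3_s_0_30 (c : Nat) : Nat := @Bool.rec (fun _ => Nat) (col3_s_0_15 c) (col3_s_15_30 c) (Nat.ble 15 c)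
noncomputable def col3 (i : Nat) : Nat := rdw 17 131071 (col3_s_0_30 (Nat.shiftRight i 12)) (Nat.land i 4095)
noncomputable def col4_s_1_3 (c : Nat) : Nat := @Bool.rec (fun _ => Nat) (col4_1) (col4_2) (Nat.ble 2 c)
noncomputable def col4_s_0_3 (c : Nat) : Nat := @Bool.rec (fun _ => Nat) (col4_0) (col4_s_1_3 c) (Nat.ble 1 c)
noncomputable def col4_s_3_5 (c : Nat) : Nat := @Bool.rec (fun _ => Nat) (col4_3) (col4_4) (Nat.ble 4 c)
noncomputable def col4_s_5_7 (c : Nat) : Nat := @Bool.rec (fun _ => Nat) (col4_5) (col4_6) (Nat.ble 6 c)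
noncomputable def col4_s_3_7 (c : Nat) : Nat := @Bool.rec (fun _ => Nat) (col4_s_3_5 c) (col4_s_5_7 c) (Nat.ble 5 c)
noncomputable def col4_s_0_7 (c : Nat) : Nat := @Bool.rec (fun _ => Nat) (col4_s_0_3 c) (col4_s_3_7 c) (Nat.ble 3 c)
noncomputable def col4_s_7_9 (c : Nat) : Nat := @Bool.rec (fun _ => Nat) (col4_7) (col4_8) (Nat.ble 8 c)
noncomputable def col4_s_9_11 (c : Nat) : Nat := @Bool.rec (fun _ => Nat) (col4_9) (col4_10) (Nat.ble 10 c)
noncomputable def col4_s_7_11 (c : Nat) : Nat := @Bool.rec (fun _ => Nat) (col4_s_7_9 c) (col4_s_9_11 c) (Nat.ble 9 c)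
noncomputable def col4_s_11_13 (c : Nat) : Nat := @Bool.rec (fun _ => Nat) (col4_11) (col4_12) (Nat.ble 12 c)
noncomputable def col4_s_13_15 (c : Nat) : Nat := @Bool.rec (fun _ => Nat) (col4_13) (col4_14) (Nat.ble 14 c)
noncomputable def col4_s_11_15 (c : Nat) : Nat := @Bool.rec (fun _ => Nat) (col4_s_11_13 c) (col4_s_13_15 c) (Nat.ble 13 c)
noncomputable def col4_s_7_15 (c : Nat) : Nat := @Bool.rec (fun _ => Nat) (col4_s_7_11 c) (col4_s_11_15 c) (Nat.ble 11 c)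
noncomputable def col4_s_0_15 (c : Nat) : Nat := @Bool.rec (fun _ => Nat) (col4_s_0_7 c) (col4_s_7_15 c) (Nat.ble 7 c)
noncomputable def col4_s_16_18 (c : Nat) : Nat := @Bool.rec (fun _ => Nat) (col4_16) (col4_17) (Nat.ble 17 c)
noncomputable def col4_s_15_18 (c : Nat) : Nat := @Bool.rec (fun _ => Nat) (col4_15) (col4_s_16_18 c) (Nat.ble 16 c)
noncomputable def col4_s_18_20 (c : Nat) : Nat := @Bool.rec (fun _ => Nat) (col4_18) (col4_19) (Nat.ble 19 c)
noncomputable def col4_s_20_22 (c : Nat) : Nat := @Bool.rec (fun _ => Nat) (col4_20) (col4_21) (Nat.ble 21 c)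
noncomputable def col4_s_18_22 (c : Nat) : Nat := @Bool.rec (fun _ => Nat) (col4_s_18_20 c) (col4_s_20_22 c) (Nat.ble 20 c)
noncomputable def col4_s_15_22 (c : Nat) : Nat := @Bool.rec (fun _ => Nat) (col4_s_15_18 c) (col4_s_18_22 c) (Nat.ble 18 c)
noncomputable def col4_s_22_24 (c : Nat) : Nat := @Bool.rec (fun _ => Nat) (col4_22) (col4_23) (Nat.ble 23 c)
noncomputable def col4_s_24_26 (c : Nat) : Nat := @Bool.rec (fun _ => Nat) (col4_24) (col4_25) (Nat.ble 25 c)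
noncomputable def col4_s_22_26 (c : Nat) : Nat := @Bool.rec (fun _ => Nat) (col4_s_22_24 c) (col4_s_24_26 c) (Nat.ble 24 c)
noncomputable def col4_s_26_28 (c : Nat) : Nat := @Bool.rec (fun _ => Nat) (col4_26) (col4_27) (Nat.ble 27 c)
noncomputable def col4_s_28_30 (c : Nat) : Nat := @Bool.rec (fun _ => Nat) (col4_28) (col4_29) (Nat.ble 29 c)
noncomputable def col4_s_26_30 (c : Nat) : Nat := @Bool.rec (fun _ => Nat) (col4_s_26_28 c) (col4_s_28_30 c) (Nat.ble 28 c)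
noncomputable def col4_s_22_30 (c : Nat) : Nat := @Bool.rec (fun _ => Nat) (col4_s_22_26 c) (col4_s_26_30 c) (Nat.ble 26 c)
noncomputable def col4_s_15_30 (c : Nat) : Nat := @Bool.rec (fun _ => Nat) (col4_s_15_22 c) (col4_s_22_30 c) (Nat.ble 22 c)
noncomputable def col4_s_0_30 (c : Nat) : Nat := @Bool.rec (fun _ => Nat) (col4_s_0_15 c) (col4_s_15_30 c) (Nat.ble 15 c)
noncomputable def col4 (i : Nat) : Nat := rdw 17 131071 (col4_s_0_30 (Nat.shiftRight i 12)) (Nat.land i 4095)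
noncomputable def col5_s_1_3 (c : Nat) : Nat := @Bool.rec (fun _ => Nat) (col5_1) (col5_2) (Nat.ble 2 c)
noncomputable def col5_s_0_3 (c : Nat) : Nat := @Bool.rec (fun _ => Nat) (col5_0) (col5_s_1_3 c) (Nat.ble 1 c)
noncomputable def col5_s_3_5 (c : Nat) : Nat := @Bool.rec (fun _ => Nat) (col5_3) (col5_4) (Nat.ble 4 c)
noncomputable def col5_s_5_7 (c : Nat) : Nat := @Bool.rec (fun _ => Nat) (col5_5) (col5_6) (Nat.ble 6 c)
noncomputable def col5_s_3_7 (c : Nat) : Nat := @Bool.rec (fun _ => Nat) (col5_s_3_5 c) (col5_s_5_7 c) (Nat.ble 5 c)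
noncomputable def col5_s_0_7 (c : Nat) : Nat := @Bool.rec (fun _ => Nat) (col5_s_0_3 c) (col5_s_3_7 c) (Nat.ble 3 c)
noncomputable def col5_s_7_9 (c : Nat) : Nat := @Bool.rec (fun _ => Nat) (col5_7) (col5_8) (Nat.ble 8 c)
noncomputable def col5_s_9_11 (c : Nat) : Nat := @Bool.rec (fun _ => Nat) (col5_9) (col5_10) (Nat.ble 10 c)
noncomputable def col5_s_7_11 (c : Nat) : Nat := @Bool.rec (fun _ => Nat) (col5_s_7_9 c) (col5_s_9_11 c) (Nat.ble 9 c)
noncomputable def col5_s_11_13 (c : Nat) : Nat := @Bool.rec (fun _ => Nat) (col5_11) (col5_12) (Nat.ble 12 c)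
noncomputable def col5_s_13_15 (c : Nat) : Nat := @Bool.rec (fun _ => Nat) (col5_13) (col5_14) (Nat.ble 14 c)
noncomputable def col5_s_11_15 (c : Nat) : Nat := @Bool.rec (fun _ => Nat) (col5_s_11_13 c) (col5_s_13_15 c) (Nat.ble 13 c)
noncomputable def col5_s_7_15 (c : Nat) : Nat := @Bool.rec (fun _ => Nat) (col5_s_7_11 c) (col5_s_11_15 c) (Nat.ble 11 c)
noncomputable def col5_s_0_15 (c : Nat) : Nat := @Bool.rec (fun _ => Nat) (col5_s_0_7 c) (col5_s_7_15 c) (Nat.ble 7 c)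
noncomputable def col5_s_16_18 (c : Nat) : Nat := @Bool.rec (fun _ => Nat) (col5_16) (col5_17) (Nat.ble 17 c)
noncomputable def col5_s_15_18 (c : Nat) : Nat := @Bool.rec (fun _ => Nat) (col5_15) (col5_s_16_18 c) (Nat.ble 16 c)
noncomputable def col5_s_18_20 (c : Nat) : Nat := @Bool.rec (fun _ => Nat) (col5_18) (col5_19) (Nat.ble 19 c)
noncomputable def col5_s_20_22 (c : Nat) : Nat := @Bool.rec (fun _ => Nat) (col5_20) (col5_21) (Nat.ble 21 c)
noncomputable def col5_s_18_22 (c : Nat) : Nat := @Bool.rec (fun _ => Nat) (col5_s_18_20 c) (col5_s_20_22 c) (Nat.ble 20 c)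
noncomputable def col5_s_15_22 (c : Nat) : Nat := @Bool.rec (fun _ => Nat) (col5_s_15_18 c) (col5_s_18_22 c) (Nat.ble 18 c)
noncomputable def col5_s_22_24 (c : Nat) : Nat := @Bool.rec (fun _ => Nat) (col5_22) (col5_23) (Nat.ble 23 c)
noncomputable def col5_s_24_26 (c : Nat) : Nat := @Bool.rec (fun _ => Nat) (col5_24) (col5_25) (Nat.ble 25 c)
noncomputable def col5_s_22_26 (c : Nat) : Nat := @Bool.rec (fun _ => Nat) (col5_s_22_24 c) (col5_s_24_26 c) (Nat.ble 24 c)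
noncomputable def col5_s_26_28 (c : Nat) : Nat := @Bool.rec (fun _ => Nat) (col5_26) (col5_27) (Nat.ble 27 c)
noncomputable def col5_s_28_30 (c : Nat) : Nat := @Bool.rec (fun _ => Nat) (col5_28) (col5_29) (Nat.ble 29 c)
noncomputable def col5_s_26_30 (c : Nat) : Nat := @Bool.rec (fun _ => Nat) (col5_s_26_28 c) (col5_s_28_30 c) (Nat.ble 28 c)
noncomputable def col5_s_22_30 (c : Nat) : Nat := @Bool.rec (fun _ => Nat) (col5_s_22_26 c) (col5_s_26_30 c) (Nat.ble 26 c)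
noncomputable def col5_s_15_30 (c : Nat) : Nat := @Bool.rec (fun _ => Nat) (col5_s_15_22 c) (col5_s_22_30 c) (Nat.ble 22 c)
noncomputable def col5_s_0_30 (c : Nat) : Nat := @Bool.rec (fun _ => Nat) (col5_s_0_15 c) (col5_s_15_30 c) (Nat.ble 15 c)
noncomputable def col5 (i : Nat) : Nat := rdw 17 131071 (col5_s_0_30 (Nat.shiftRight i 12)) (Nat.land i 4095)
noncomputable def col6_s_1_3 (c : Nat) : Nat := @Bool.rec (fun _ => Nat) (col6_1) (col6_2) (Nat.ble 2 c)
noncomputable def col6_s_0_3 (c : Nat) : Nat := @Bool.rec (fun _ => Nat) (col6_0) (col6_s_1_3 c) (Nat.ble 1 c)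
noncomputable def col6_s_3_5 (c : Nat) : Nat := @Bool.rec (fun _ => Nat) (col6_3) (col6_4) (Nat.ble 4 c)
noncomputable def col6_s_5_7 (c : Nat) : Nat := @Bool.rec (fun _ => Nat) (col6_5) (col6_6) (Nat.ble 6 c)
noncomputable def col6_s_3_7 (c : Nat) : Nat := @Bool.rec (fun _ => Nat) (col6_s_3_5 c) (col6_s_5_7 c) (Nat.ble 5 c)
noncomputable def col6_s_0_7 (c : Nat) : Nat := @Bool.rec (fun _ => Nat) (col6_s_0_3 c) (col6_s_3_7 c) (Nat.ble 3 c)
noncomputable def col6_s_7_9 (c : Nat) : Nat := @Bool.rec (fun _ => Nat) (col6_7) (col6_8) (Nat.ble 8 c)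
noncomputable def col6_s_9_11 (c : Nat) : Nat := @Bool.rec (fun _ => Nat) (col6_9) (col6_10) (Nat.ble 10 c)
noncomputable def col6_s_7_11 (c : Nat) : Nat := @Bool.rec (fun _ => Nat) (col6_s_7_9 c) (col6_s_9_11 c) (Nat.ble 9 c)
noncomputable def col6_s_11_13 (c : Nat) : Nat := @Bool.rec (fun _ => Nat) (col6_11) (col6_12) (Nat.ble 12 c)
noncomputable def col6_s_13_15 (c : Nat) : Nat := @Bool.rec (fun _ => Nat) (col6_13) (col6_14) (Nat.ble 14 c)
noncomputable def col6_s_11_15 (c : Nat) : Nat := @Bool.rec (fun _ => Nat) (col6_s_11_13 c) (col6_s_13_15 c) (Nat.ble 13 c)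
noncomputable def col6_s_7_15 (c : Nat) : Nat := @Bool.rec (fun _ => Nat) (col6_s_7_11 c) (col6_s_11_15 c) (Nat.ble 11 c)
noncomputable def col6_s_0_15 (c : Nat) : Nat := @Bool.rec (fun _ => Nat) (col6_s_0_7 c) (col6_s_7_15 c) (Nat.ble 7 c)
noncomputable def col6_s_16_18 (c : Nat) : Nat := @Bool.rec (fun _ => Nat) (col6_16) (col6_17) (Nat.ble 17 c)
noncomputable def col6_s_15_18 (c : Nat) : Nat := @Bool.rec (fun _ => Nat) (col6_15) (col6_s_16_18 c) (Nat.ble 16 c)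
noncomputable def col6_s_18_20 (c : Nat) : Nat := @Bool.rec (fun _ => Nat) (col6_18) (col6_19) (Nat.ble 19 c)
noncomputable def col6_s_20_22 (c : Nat) : Nat := @Bool.rec (fun _ => Nat) (col6_20) (col6_21) (Nat.ble 21 c)
noncomputable def col6_s_18_22 (c : Nat) : Nat := @Bool.rec (fun _ => Nat) (col6_s_18_20 c) (col6_s_20_22 c) (Nat.ble 20 c)
noncomputable def col6_s_15_22 (c : Nat) : Nat := @Bool.rec (fun _ => Nat) (col6_s_15_18 c) (col6_s_18_22 c) (Nat.ble 18 c)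
noncomputable def col6_s_22_24 (c : Nat) : Nat := @Bool.rec (fun _ => Nat) (col6_22) (col6_23) (Nat.ble 23 c)
noncomputable def col6_s_24_26 (c : Nat) : Nat := @Bool.rec (fun _ => Nat) (col6_24) (col6_25) (Nat.ble 25 c)
noncomputable def col6_s_22_26 (c : Nat) : Nat := @Bool.rec (fun _ => Nat) (col6_s_22_24 c) (col6_s_24_26 c) (Nat.ble 24 c)
noncomputable def col6_s_26_28 (c : Nat) : Nat := @Bool.rec (fun _ => Nat) (col6_26) (col6_27) (Nat.ble 27 c)
noncomputable def col6_s_28_30 (c : Nat) : Nat := @Bool.rec (fun _ => Nat) (col6_28) (col6_29) (Nat.ble 29 c)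
noncomputable def col6_s_26_30 (c : Nat) : Nat := @Bool.rec (fun _ => Nat) (col6_s_26_28 c) (col6_s_28_30 c) (Nat.ble 28 c)
noncomputable def col6_s_22_30 (c : Nat) : Nat := @Bool.rec (fun _ => Nat) (col6_s_22_26 c) (col6_s_26_30 c) (Nat.ble 26 c)
noncomputable def col6_s_15_30 (c : Nat) : Nat := @Bool.rec (fun _ => Nat) (col6_s_15_22 c) (col6_s_22_30 c) (Nat.ble 22 c)
noncomputable def col6_s_0_30 (c : Nat) : Nat := @Bool.rec (fun _ => Nat) (col6_s_0_15 c) (col6_s_15_30 c) (Nat.ble 15 c)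
noncomputable def col6 (i : Nat) : Nat := rdw 17 131071 (col6_s_0_30 (Nat.shiftRight i 12)) (Nat.land i 4095)
noncomputable def col7_s_1_3 (c : Nat) : Nat := @Bool.rec (fun _ => Nat) (col7_1) (col7_2) (Nat.ble 2 c)
noncomputable def col7_s_0_3 (c : Nat) : Nat := @Bool.rec (fun _ => Nat) (col7_0) (col7_s_1_3 c) (Nat.ble 1 c)
noncomputable def col7_s_3_5 (c : Nat) : Nat := @Bool.rec (fun _ => Nat) (col7_3) (col7_4) (Nat.ble 4 c)
noncomputable def col7_s_5_7 (c : Nat) : Nat := @Bool.rec (fun _ => Nat) (col7_5) (col7_6) (Nat.ble 6 c)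
noncomputable def col7_s_3_7 (c : Nat) : Nat := @Bool.rec (fun _ => Nat) (col7_s_3_5 c) (col7_s_5_7 c) (Nat.ble 5 c)
noncomputable def col7_s_0_7 (c : Nat) : Nat := @Bool.rec (fun _ => Nat) (col7_s_0_3 c) (col7_s_3_7 c) (Nat.ble 3 c)
noncomputable def col7_s_7_9 (c : Nat) : Nat := @Bool.rec (fun _ => Nat) (col7_7) (col7_8) (Nat.ble 8 c)
noncomputable def col7_s_9_11 (c : Nat) : Nat := @Bool.rec (fun _ => Nat) (col7_9) (col7_10) (Nat.ble 10 c)
noncomputable def col7_s_7_11 (c : Nat) : Nat := @Bool.rec (fun _ => Nat) (col7_s_7_9 c) (col7_s_9_11 c) (Nat.ble 9 c)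
noncomputable def col7_s_11_13 (c : Nat) : Nat := @Bool.rec (fun _ => Nat) (col7_11) (col7_12) (Nat.ble 12 c)
noncomputable def col7_s_13_15 (c : Nat) : Nat := @Bool.rec (fun _ => Nat) (col7_13) (col7_14) (Nat.ble 14 c)
noncomputable def col7_s_11_15 (c : Nat) : Nat := @Bool.rec (fun _ => Nat) (col7_s_11_13 c) (col7_s_13_15 c) (Nat.ble 13 c)
noncomputable def col7_s_7_15 (c : Nat) : Nat := @Bool.rec (fun _ => Nat) (col7_s_7_11 c) (col7_s_11_15 c) (Nat.ble 11 c)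
noncomputable def col7_s_0_15 (c : Nat) : Nat := @Bool.rec (fun _ => Nat) (col7_s_0_7 c) (col7_s_7_15 c) (Nat.ble 7 c)
noncomputable def col7_s_16_18 (c : Nat) : Nat := @Bool.rec (fun _ => Nat) (col7_16) (col7_17) (Nat.ble 17 c)
noncomputable def col7_s_15_18 (c : Nat) : Nat := @Bool.rec (fun _ => Nat) (col7_15) (col7_s_16_18 c) (Nat.ble 16 c)
noncomputable def col7_s_18_20 (c : Nat) : Nat := @Bool.rec (fun _ => Nat) (col7_18) (col7_19) (Nat.ble 19 c)
noncomputable def col7_s_20_22 (c : Nat) : Nat := @Bool.rec (fun _ => Nat) (col7_20) (col7_21) (Nat.ble 21 c)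
noncomputable def col7_s_18_22 (c : Nat) : Nat := @Bool.rec (fun _ => Nat) (col7_s_18_20 c) (col7_s_20_22 c) (Nat.ble 20 c)
noncomputable def col7_s_15_22 (c : Nat) : Nat := @Bool.rec (fun _ => Nat) (col7_s_15_18 c) (col7_s_18_22 c) (Nat.ble 18 c)
noncomputable def col7_s_22_24 (c : Nat) : Nat := @Bool.rec (fun _ => Nat) (col7_22) (col7_23) (Nat.ble 23 c)
noncomputable def col7_s_24_26 (c : Nat) : Nat := @Bool.rec (fun _ => Nat) (col7_24) (col7_25) (Nat.ble 25 c)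
noncomputable def col7_s_22_26 (c : Nat) : Nat := @Bool.rec (fun _ => Nat) (col7_s_22_24 c) (col7_s_24_26 c) (Nat.ble 24 c)
noncomputable def col7_s_26_28 (c : Nat) : Nat := @Bool.rec (fun _ => Nat) (col7_26) (col7_27) (Nat.ble 27 c)
noncomputable def col7_s_28_30 (c : Nat) : Nat := @Bool.rec (fun _ => Nat) (col7_28) (col7_29) (Nat.ble 29 c)
noncomputable def col7_s_26_30 (c : Nat) : Nat := @Bool.rec (fun _ => Nat) (col7_s_26_28 c) (col7_s_28_30 c) (Nat.ble 28 c)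
noncomputable def col7_s_22_30 (c : Nat) : Nat := @Bool.rec (fun _ => Nat) (col7_s_22_26 c) (col7_s_26_30 c) (Nat.ble 26 c)
noncomputable def col7_s_15_30 (c : Nat) : Nat := @Bool.rec (fun _ => Nat) (col7_s_15_22 c) (col7_s_22_30 c) (Nat.ble 22 c)
noncomputable def col7_s_0_30 (c : Nat) : Nat := @Bool.rec (fun _ => Nat) (col7_s_0_15 c) (col7_s_15_30 c) (Nat.ble 15 c)
noncomputable def col7 (i : Nat) : Nat := rdw 17 131071 (col7_s_0_30 (Nat.shiftRight i 12)) (Nat.land i 4095)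
noncomputable def finTab_s_1_3 (c : Nat) : Nat := @Bool.rec (fun _ => Nat) (finTab_1) (finTab_2) (Nat.ble 2 c)
noncomputable def finTab_s_0_3 (c : Nat) : Nat := @Bool.rec (fun _ => Nat) (finTab_0) (finTab_s_1_3 c) (Nat.ble 1 c)
noncomputable def finTab_s_3_5 (c : Nat) : Nat := @Bool.rec (fun _ => Nat) (finTab_3) (finTab_4) (Nat.ble 4 c)
noncomputable def finTab_s_5_7 (c : Nat) : Nat := @Bool.rec (fun _ => Nat) (finTab_5) (finTab_6) (Nat.ble 6 c)
noncomputable def finTab_s_3_7 (c : Nat) : Nat := @Bool.rec (fun _ => Nat) (finTab_s_3_5 c) (finTab_s_5_7 c) (Nat.ble 5 c)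
noncomputable def finTab_s_0_7 (c : Nat) : Nat := @Bool.rec (fun _ => Nat) (finTab_s_0_3 c) (finTab_s_3_7 c) (Nat.ble 3 c)
noncomputable def finTab_s_7_9 (c : Nat) : Nat := @Bool.rec (fun _ => Nat) (finTab_7) (finTab_8) (Nat.ble 8 c)
noncomputable def finTab_s_9_11 (c : Nat) : Nat := @Bool.rec (fun _ => Nat) (finTab_9) (finTab_10) (Nat.ble 10 c)
noncomputable def finTab_s_7_11 (c : Nat) : Nat := @Bool.rec (fun _ => Nat) (finTab_s_7_9 c) (finTab_s_9_11 c) (Nat.ble 9 c)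
noncomputable def finTab_s_11_13 (c : Nat) : Nat := @Bool.rec (fun _ => Nat) (finTab_11) (finTab_12) (Nat.ble 12 c)
noncomputable def finTab_s_13_15 (c : Nat) : Nat := @Bool.rec (fun _ => Nat) (finTab_13) (finTab_14) (Nat.ble 14 c)
noncomputable def finTab_s_11_15 (c : Nat) : Nat := @Bool.rec (fun _ => Nat) (finTab_s_11_13 c) (finTab_s_13_15 c) (Nat.ble 13 c)
noncomputable def finTab_s_7_15 (c : Nat) : Nat := @Bool.rec (fun _ => Nat) (finTab_s_7_11 c) (finTab_s_11_15 c) (Nat.ble 11 c)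
noncomputable def finTab_s_0_15 (c : Nat) : Nat := @Bool.rec (fun _ => Nat) (finTab_s_0_7 c) (finTab_s_7_15 c) (Nat.ble 7 c)
noncomputable def finTab_s_16_18 (c : Nat) : Nat := @Bool.rec (fun _ => Nat) (finTab_16) (finTab_17) (Nat.ble 17 c)
noncomputable def finTab_s_15_18 (c : Nat) : Nat := @Bool.rec (fun _ => Nat) (finTab_15) (finTab_s_16_18 c) (Nat.ble 16 c)
noncomputable def finTab_s_18_20 (c : Nat) : Nat := @Bool.rec (fun _ => Nat) (finTab_18) (finTab_19) (Nat.ble 19 c)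
noncomputable def finTab_s_20_22 (c : Nat) : Nat := @Bool.rec (fun _ => Nat) (finTab_20) (finTab_21) (Nat.ble 21 c)
noncomputable def finTab_s_18_22 (c : Nat) : Nat := @Bool.rec (fun _ => Nat) (finTab_s_18_20 c) (finTab_s_20_22 c) (Nat.ble 20 c)
noncomputable def finTab_s_15_22 (c : Nat) : Nat := @Bool.rec (fun _ => Nat) (finTab_s_15_18 c) (finTab_s_18_22 c) (Nat.ble 18 c)
noncomputable def finTab_s_22_24 (c : Nat) : Nat := @Bool.rec (fun _ => Nat) (finTab_22) (finTab_23) (Nat.ble 23 c)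
noncomputable def finTab_s_24_26 (c : Nat) : Nat := @Bool.rec (fun _ => Nat) (finTab_24) (finTab_25) (Nat.ble 25 c)
noncomputable def finTab_s_22_26 (c : Nat) : Nat := @Bool.rec (fun _ => Nat) (finTab_s_22_24 c) (finTab_s_24_26 c) (Nat.ble 24 c)
noncomputable def finTab_s_26_28 (c : Nat) : Nat := @Bool.rec (fun _ => Nat) (finTab_26) (finTab_27) (Nat.ble 27 c)
noncomputable def finTab_s_28_30 (c : Nat) : Nat := @Bool.rec (fun _ => Nat) (finTab_28) (finTab_29) (Nat.ble 29 c)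
noncomputable def finTab_s_26_30 (c : Nat) : Nat := @Bool.rec (fun _ => Nat) (finTab_s_26_28 c) (finTab_s_28_30 c) (Nat.ble 28 c)
noncomputable def finTab_s_22_30 (c : Nat) : Nat := @Bool.rec (fun _ => Nat) (finTab_s_22_26 c) (finTab_s_26_30 c) (Nat.ble 26 c)
noncomputable def finTab_s_15_30 (c : Nat) : Nat := @Bool.rec (fun _ => Nat) (finTab_s_15_22 c) (finTab_s_22_30 c) (Nat.ble 22 c)
noncomputable def finTab_s_0_30 (c : Nat) : Nat := @Bool.rec (fun _ => Nat) (finTab_s_0_15 c) (finTab_s_15_30 c) (Nat.ble 15 c)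
noncomputable def finTab_s_31_33 (c : Nat) : Nat := @Bool.rec (fun _ => Nat) (finTab_31) (finTab_32) (Nat.ble 32 c)
noncomputable def finTab_s_30_33 (c : Nat) : Nat := @Bool.rec (fun _ => Nat) (finTab_30) (finTab_s_31_33 c) (Nat.ble 31 c)
noncomputable def finTab_s_33_35 (c : Nat) : Nat := @Bool.rec (fun _ => Nat) (finTab_33) (finTab_34) (Nat.ble 34 c)
noncomputable def finTab_s_35_37 (c : Nat) : Nat := @Bool.rec (fun _ => Nat) (finTab_35) (finTab_36) (Nat.ble 36 c)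
noncomputable def finTab_s_33_37 (c : Nat) : Nat := @Bool.rec (fun _ => Nat) (finTab_s_33_35 c) (finTab_s_35_37 c) (Nat.ble 35 c)
noncomputable def finTab_s_30_37 (c : Nat) : Nat := @Bool.rec (fun _ => Nat) (finTab_s_30_33 c) (finTab_s_33_37 c) (Nat.ble 33 c)
noncomputable def finTab_s_37_39 (c : Nat) : Nat := @Bool.rec (fun _ => Nat) (finTab_37) (finTab_38) (Nat.ble 38 c)
noncomputable def finTab_s_39_41 (c : Nat) : Nat := @Bool.rec (fun _ => Nat) (finTab_39) (finTab_40) (Nat.ble 40 c)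
noncomputable def finTab_s_37_41 (c : Nat) : Nat := @Bool.rec (fun _ => Nat) (finTab_s_37_39 c) (finTab_s_39_41 c) (Nat.ble 39 c)
noncomputable def finTab_s_41_43 (c : Nat) : Nat := @Bool.rec (fun _ => Nat) (finTab_41) (finTab_42) (Nat.ble 42 c)
noncomputable def finTab_s_43_45 (c : Nat) : Nat := @Bool.rec (fun _ => Nat) (finTab_43) (finTab_44) (Nat.ble 44 c)
noncomputable def finTab_s_41_45 (c : Nat) : Nat := @Bool.rec (fun _ => Nat) (finTab_s_41_43 c) (finTab_s_43_45 c) (Nat.ble 43 c)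
noncomputable def finTab_s_37_45 (c : Nat) : Nat := @Bool.rec (fun _ => Nat) (finTab_s_37_41 c) (finTab_s_41_45 c) (Nat.ble 41 c)
noncomputable def finTab_s_30_45 (c : Nat) : Nat := @Bool.rec (fun _ => Nat) (finTab_s_30_37 c) (finTab_s_37_45 c) (Nat.ble 37 c)
noncomputable def finTab_s_46_48 (c : Nat) : Nat := @Bool.rec (fun _ => Nat) (finTab_46) (finTab_47) (Nat.ble 47 c)
noncomputable def finTab_s_45_48 (c : Nat) : Nat := @Bool.rec (fun _ => Nat) (finTab_45) (finTab_s_46_48 c) (Nat.ble 46 c)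
noncomputable def finTab_s_48_50 (c : Nat) : Nat := @Bool.rec (fun _ => Nat) (finTab_48) (finTab_49) (Nat.ble 49 c)
noncomputable def finTab_s_50_52 (c : Nat) : Nat := @Bool.rec (fun _ => Nat) (finTab_50) (finTab_51) (Nat.ble 51 c)
noncomputable def finTab_s_48_52 (c : Nat) : Nat := @Bool.rec (fun _ => Nat) (finTab_s_48_50 c) (finTab_s_50_52 c) (Nat.ble 50 c)
noncomputable def finTab_s_45_52 (c : Nat) : Nat := @Bool.rec (fun _ => Nat) (finTab_s_45_48 c) (finTab_s_48_52 c) (Nat.ble 48 c)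
noncomputable def finTab_s_52_54 (c : Nat) : Nat := @Bool.rec (fun _ => Nat) (finTab_52) (finTab_53) (Nat.ble 53 c)
noncomputable def finTab_s_54_56 (c : Nat) : Nat := @Bool.rec (fun _ => Nat) (finTab_54) (finTab_55) (Nat.ble 55 c)
noncomputable def finTab_s_52_56 (c : Nat) : Nat := @Bool.rec (fun _ => Nat) (finTab_s_52_54 c) (finTab_s_54_56 c) (Nat.ble 54 c)
noncomputable def finTab_s_56_58 (c : Nat) : Nat := @Bool.rec (fun _ => Nat) (finTab_56) (finTab_57) (Nat.ble 57 c)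
noncomputable def finTab_s_58_60 (c : Nat) : Nat := @Bool.rec (fun _ => Nat) (finTab_58) (finTab_59) (Nat.ble 59 c)
noncomputable def finTab_s_56_60 (c : Nat) : Nat := @Bool.rec (fun _ => Nat) (finTab_s_56_58 c) (finTab_s_58_60 c) (Nat.ble 58 c)
noncomputable def finTab_s_52_60 (c : Nat) : Nat := @Bool.rec (fun _ => Nat) (finTab_s_52_56 c) (finTab_s_56_60 c) (Nat.ble 56 c)
noncomputable def finTab_s_45_60 (c : Nat) : Nat := @Bool.rec (fun _ => Nat) (finTab_s_45_52 c) (finTab_s_52_60 c) (Nat.ble 52 c)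
noncomputable def finTab_s_30_60 (c : Nat) : Nat := @Bool.rec (fun _ => Nat) (finTab_s_30_45 c) (finTab_s_45_60 c) (Nat.ble 45 c)
noncomputable def finTab_s_0_60 (c : Nat) : Nat := @Bool.rec (fun _ => Nat) (finTab_s_0_30 c) (finTab_s_30_60 c) (Nat.ble 30 c)
noncomputable def finTab_s_61_63 (c : Nat) : Nat := @Bool.rec (fun _ => Nat) (finTab_61) (finTab_62) (Nat.ble 62 c)
noncomputable def finTab_s_60_63 (c : Nat) : Nat := @Bool.rec (fun _ => Nat) (finTab_60) (finTab_s_61_63 c) (Nat.ble 61 c)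
noncomputable def finTab_s_63_65 (c : Nat) : Nat := @Bool.rec (fun _ => Nat) (finTab_63) (finTab_64) (Nat.ble 64 c)
noncomputable def finTab_s_65_67 (c : Nat) : Nat := @Bool.rec (fun _ => Nat) (finTab_65) (finTab_66) (Nat.ble 66 c)
noncomputable def finTab_s_63_67 (c : Nat) : Nat := @Bool.rec (fun _ => Nat) (finTab_s_63_65 c) (finTab_s_65_67 c) (Nat.ble 65 c)
noncomputable def finTab_s_60_67 (c : Nat) : Nat := @Bool.rec (fun _ => Nat) (finTab_s_60_63 c) (finTab_s_63_67 c) (Nat.ble 63 c)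
noncomputable def finTab_s_67_69 (c : Nat) : Nat := @Bool.rec (fun _ => Nat) (finTab_67) (finTab_68) (Nat.ble 68 c)
noncomputable def finTab_s_69_71 (c : Nat) : Nat := @Bool.rec (fun _ => Nat) (finTab_69) (finTab_70) (Nat.ble 70 c)
noncomputable def finTab_s_67_71 (c : Nat) : Nat := @Bool.rec (fun _ => Nat) (finTab_s_67_69 c) (finTab_s_69_71 c) (Nat.ble 69 c)
noncomputable def finTab_s_71_73 (c : Nat) : Nat := @Bool.rec (fun _ => Nat) (finTab_71) (finTab_72) (Nat.ble 72 c)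
noncomputable def finTab_s_73_75 (c : Nat) : Nat := @Bool.rec (fun _ => Nat) (finTab_73) (finTab_74) (Nat.ble 74 c)
noncomputable def finTab_s_71_75 (c : Nat) : Nat := @Bool.rec (fun _ => Nat) (finTab_s_71_73 c) (finTab_s_73_75 c) (Nat.ble 73 c)
noncomputable def finTab_s_67_75 (c : Nat) : Nat := @Bool.rec (fun _ => Nat) (finTab_s_67_71 c) (finTab_s_71_75 c) (Nat.ble 71 c)
noncomputable def finTab_s_60_75 (c : Nat) : Nat := @Bool.rec (fun _ => Nat) (finTab_s_60_67 c) (finTab_s_67_75 c) (Nat.ble 67 c)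
noncomputable def finTab_s_76_78 (c : Nat) : Nat := @Bool.rec (fun _ => Nat) (finTab_76) (finTab_77) (Nat.ble 77 c)
noncomputable def finTab_s_75_78 (c : Nat) : Nat := @Bool.rec (fun _ => Nat) (finTab_75) (finTab_s_76_78 c) (Nat.ble 76 c)
noncomputable def finTab_s_78_80 (c : Nat) : Nat := @Bool.rec (fun _ => Nat) (finTab_78) (finTab_79) (Nat.ble 79 c)
noncomputable def finTab_s_80_82 (c : Nat) : Nat := @Bool.rec (fun _ => Nat) (finTab_80) (finTab_81) (Nat.ble 81 c)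
noncomputable def finTab_s_78_82 (c : Nat) : Nat := @Bool.rec (fun _ => Nat) (finTab_s_78_80 c) (finTab_s_80_82 c) (Nat.ble 80 c)
noncomputable def finTab_s_75_82 (c : Nat) : Nat := @Bool.rec (fun _ => Nat) (finTab_s_75_78 c) (finTab_s_78_82 c) (Nat.ble 78 c)
noncomputable def finTab_s_82_84 (c : Nat) : Nat := @Bool.rec (fun _ => Nat) (finTab_82) (finTab_83) (Nat.ble 83 c)
noncomputable def finTab_s_84_86 (c : Nat) : Nat := @Bool.rec (fun _ => Nat) (finTab_84) (finTab_85) (Nat.ble 85 c)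
noncomputable def finTab_s_82_86 (c : Nat) : Nat := @Bool.rec (fun _ => Nat) (finTab_s_82_84 c) (finTab_s_84_86 c) (Nat.ble 84 c)
noncomputable def finTab_s_86_88 (c : Nat) : Nat := @Bool.rec (fun _ => Nat) (finTab_86) (finTab_87) (Nat.ble 87 c)
noncomputable def finTab_s_88_90 (c : Nat) : Nat := @Bool.rec (fun _ => Nat) (finTab_88) (finTab_89) (Nat.ble 89 c)
noncomputable def finTab_s_86_90 (c : Nat) : Nat := @Bool.rec (fun _ => Nat) (finTab_s_86_88 c) (finTab_s_88_90 c) (Nat.ble 88 c)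
noncomputable def finTab_s_82_90 (c : Nat) : Nat := @Bool.rec (fun _ => Nat) (finTab_s_82_86 c) (finTab_s_86_90 c) (Nat.ble 86 c)
noncomputable def finTab_s_75_90 (c : Nat) : Nat := @Bool.rec (fun _ => Nat) (finTab_s_75_82 c) (finTab_s_82_90 c) (Nat.ble 82 c)
noncomputable def finTab_s_60_90 (c : Nat) : Nat := @Bool.rec (fun _ => Nat) (finTab_s_60_75 c) (finTab_s_75_90 c) (Nat.ble 75 c)
noncomputable def finTab_s_91_93 (c : Nat) : Nat := @Bool.rec (fun _ => Nat) (finTab_91) (finTab_92) (Nat.ble 92 c)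
noncomputable def finTab_s_90_93 (c : Nat) : Nat := @Bool.rec (fun _ => Nat) (finTab_90) (finTab_s_91_93 c) (Nat.ble 91 c)
noncomputable def finTab_s_93_95 (c : Nat) : Nat := @Bool.rec (fun _ => Nat) (finTab_93) (finTab_94) (Nat.ble 94 c)
noncomputable def finTab_s_95_97 (c : Nat) : Nat := @Bool.rec (fun _ => Nat) (finTab_95) (finTab_96) (Nat.ble 96 c)
noncomputable def finTab_s_93_97 (c : Nat) : Nat := @Bool.rec (fun _ => Nat) (finTab_s_93_95 c) (finTab_s_95_97 c) (Nat.ble 95 c)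
noncomputable def finTab_s_90_97 (c : Nat) : Nat := @Bool.rec (fun _ => Nat) (finTab_s_90_93 c) (finTab_s_93_97 c) (Nat.ble 93 c)
noncomputable def finTab_s_97_99 (c : Nat) : Nat := @Bool.rec (fun _ => Nat) (finTab_97) (finTab_98) (Nat.ble 98 c)
noncomputable def finTab_s_99_101 (c : Nat) : Nat := @Bool.rec (fun _ => Nat) (finTab_99) (finTab_100) (Nat.ble 100 c)
noncomputable def finTab_s_97_101 (c : Nat) : Nat := @Bool.rec (fun _ => Nat) (finTab_s_97_99 c) (finTab_s_99_101 c) (Nat.ble 99 c)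
noncomputable def finTab_s_101_103 (c : Nat) : Nat := @Bool.rec (fun _ => Nat) (finTab_101) (finTab_102) (Nat.ble 102 c)
noncomputable def finTab_s_103_105 (c : Nat) : Nat := @Bool.rec (fun _ => Nat) (finTab_103) (finTab_104) (Nat.ble 104 c)
noncomputable def finTab_s_101_105 (c : Nat) : Nat := @Bool.rec (fun _ => Nat) (finTab_s_101_103 c) (finTab_s_103_105 c) (Nat.ble 103 c)
noncomputable def finTab_s_97_105 (c : Nat) : Nat := @Bool.rec (fun _ => Nat) (finTab_s_97_101 c) (finTab_s_101_105 c) (Nat.ble 101 c)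
noncomputable def finTab_s_90_105 (c : Nat) : Nat := @Bool.rec (fun _ => Nat) (finTab_s_90_97 c) (finTab_s_97_105 c) (Nat.ble 97 c)
noncomputable def finTab_s_106_108 (c : Nat) : Nat := @Bool.rec (fun _ => Nat) (finTab_106) (finTab_107) (Nat.ble 107 c)
noncomputable def finTab_s_105_108 (c : Nat) : Nat := @Bool.rec (fun _ => Nat) (finTab_105) (finTab_s_106_108 c) (Nat.ble 106 c)
noncomputable def finTab_s_108_110 (c : Nat) : Nat := @Bool.rec (fun _ => Nat) (finTab_108) (finTab_109) (Nat.ble 109 c)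
noncomputable def finTab_s_110_112 (c : Nat) : Nat := @Bool.rec (fun _ => Nat) (finTab_110) (finTab_111) (Nat.ble 111 c)
noncomputable def finTab_s_108_112 (c : Nat) : Nat := @Bool.rec (fun _ => Nat) (finTab_s_108_110 c) (finTab_s_110_112 c) (Nat.ble 110 c)
noncomputable def finTab_s_105_112 (c : Nat) : Nat := @Bool.rec (fun _ => Nat) (finTab_s_105_108 c) (finTab_s_108_112 c) (Nat.ble 108 c)
noncomputable def finTab_s_112_114 (c : Nat) : Nat := @Bool.rec (fun _ => Nat) (finTab_112) (finTab_113) (Nat.ble 113 c)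
noncomputable def finTab_s_114_116 (c : Nat) : Nat := @Bool.rec (fun _ => Nat) (finTab_114) (finTab_115) (Nat.ble 115 c)
noncomputable def finTab_s_112_116 (c : Nat) : Nat := @Bool.rec (fun _ => Nat) (finTab_s_112_114 c) (finTab_s_114_116 c) (Nat.ble 114 c)
noncomputable def finTab_s_116_118 (c : Nat) : Nat := @Bool.rec (fun _ => Nat) (finTab_116) (finTab_117) (Nat.ble 117 c)
noncomputable def finTab_s_118_120 (c : Nat) : Nat := @Bool.rec (fun _ => Nat) (finTab_118) (finTab_119) (Nat.ble 119 c)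
noncomputable def finTab_s_116_120 (c : Nat) : Nat := @Bool.rec (fun _ => Nat) (finTab_s_116_118 c) (finTab_s_118_120 c) (Nat.ble 118 c)
noncomputable def finTab_s_112_120 (c : Nat) : Nat := @Bool.rec (fun _ => Nat) (finTab_s_112_116 c) (finTab_s_116_120 c) (Nat.ble 116 c)
noncomputable def finTab_s_105_120 (c : Nat) : Nat := @Bool.rec (fun _ => Nat) (finTab_s_105_112 c) (finTab_s_112_120 c) (Nat.ble 112 c)
noncomputable def finTab_s_90_120 (c : Nat) : Nat := @Bool.rec (fun _ => Nat) (finTab_s_90_105 c) (finTab_s_105_120 c) (Nat.ble 105 c)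
noncomputable def finTab_s_60_120 (c : Nat) : Nat := @Bool.rec (fun _ => Nat) (finTab_s_60_90 c) (finTab_s_90_120 c) (Nat.ble 90 c)
noncomputable def finTab_s_0_120 (c : Nat) : Nat := @Bool.rec (fun _ => Nat) (finTab_s_0_60 c) (finTab_s_60_120 c) (Nat.ble 60 c)
noncomputable def finTab_s_121_123 (c : Nat) : Nat := @Bool.rec (fun _ => Nat) (finTab_121) (finTab_122) (Nat.ble 122 c)
noncomputable def finTab_s_120_123 (c : Nat) : Nat := @Bool.rec (fun _ => Nat) (finTab_120) (finTab_s_121_123 c) (Nat.ble 121 c)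
noncomputable def finTab_s_123_125 (c : Nat) : Nat := @Bool.rec (fun _ => Nat) (finTab_123) (finTab_124) (Nat.ble 124 c)
noncomputable def finTab_s_125_127 (c : Nat) : Nat := @Bool.rec (fun _ => Nat) (finTab_125) (finTab_126) (Nat.ble 126 c)
noncomputable def finTab_s_123_127 (c : Nat) : Nat := @Bool.rec (fun _ => Nat) (finTab_s_123_125 c) (finTab_s_125_127 c) (Nat.ble 125 c)
noncomputable def finTab_s_120_127 (c : Nat) : Nat := @Bool.rec (fun _ => Nat) (finTab_s_120_123 c) (finTab_s_123_127 c) (Nat.ble 123 c)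
noncomputable def finTab_s_127_129 (c : Nat) : Nat := @Bool.rec (fun _ => Nat) (finTab_127) (finTab_128) (Nat.ble 128 c)
noncomputable def finTab_s_129_131 (c : Nat) : Nat := @Bool.rec (fun _ => Nat) (finTab_129) (finTab_130) (Nat.ble 130 c)
noncomputable def finTab_s_127_131 (c : Nat) : Nat := @Bool.rec (fun _ => Nat) (finTab_s_127_129 c) (finTab_s_129_131 c) (Nat.ble 129 c)
noncomputable def finTab_s_131_133 (c : Nat) : Nat := @Bool.rec (fun _ => Nat) (finTab_131) (finTab_132) (Nat.ble 132 c)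
noncomputable def finTab_s_133_135 (c : Nat) : Nat := @Bool.rec (fun _ => Nat) (finTab_133) (finTab_134) (Nat.ble 134 c)
noncomputable def finTab_s_131_135 (c : Nat) : Nat := @Bool.rec (fun _ => Nat) (finTab_s_131_133 c) (finTab_s_133_135 c) (Nat.ble 133 c)
noncomputable def finTab_s_127_135 (c : Nat) : Nat := @Bool.rec (fun _ => Nat) (finTab_s_127_131 c) (finTab_s_131_135 c) (Nat.ble 131 c)
noncomputable def finTab_s_120_135 (c : Nat) : Nat := @Bool.rec (fun _ => Nat) (finTab_s_120_127 c) (finTab_s_127_135 c) (Nat.ble 127 c)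
noncomputable def finTab_s_136_138 (c : Nat) : Nat := @Bool.rec (fun _ => Nat) (finTab_136) (finTab_137) (Nat.ble 137 c)
noncomputable def finTab_s_135_138 (c : Nat) : Nat := @Bool.rec (fun _ => Nat) (finTab_135) (finTab_s_136_138 c) (Nat.ble 136 c)
noncomputable def finTab_s_138_140 (c : Nat) : Nat := @Bool.rec (fun _ => Nat) (finTab_138) (finTab_139) (Nat.ble 139 c)
noncomputable def finTab_s_140_142 (c : Nat) : Nat := @Bool.rec (fun _ => Nat) (finTab_140) (finTab_141) (Nat.ble 141 c)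
noncomputable def finTab_s_138_142 (c : Nat) : Nat := @Bool.rec (fun _ => Nat) (finTab_s_138_140 c) (finTab_s_140_142 c) (Nat.ble 140 c)
noncomputable def finTab_s_135_142 (c : Nat) : Nat := @Bool.rec (fun _ => Nat) (finTab_s_135_138 c) (finTab_s_138_142 c) (Nat.ble 138 c)
noncomputable def finTab_s_142_144 (c : Nat) : Nat := @Bool.rec (fun _ => Nat) (finTab_142) (finTab_143) (Nat.ble 143 c)
noncomputable def finTab_s_144_146 (c : Nat) : Nat := @Bool.rec (fun _ => Nat) (finTab_144) (finTab_145) (Nat.ble 145 c)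
noncomputable def finTab_s_142_146 (c : Nat) : Nat := @Bool.rec (fun _ => Nat) (finTab_s_142_144 c) (finTab_s_144_146 c) (Nat.ble 144 c)
noncomputable def finTab_s_146_148 (c : Nat) : Nat := @Bool.rec (fun _ => Nat) (finTab_146) (finTab_147) (Nat.ble 147 c)
noncomputable def finTab_s_148_150 (c : Nat) : Nat := @Bool.rec (fun _ => Nat) (finTab_148) (finTab_149) (Nat.ble 149 c)
noncomputable def finTab_s_146_150 (c : Nat) : Nat := @Bool.rec (fun _ => Nat) (finTab_s_146_148 c) (finTab_s_148_150 c) (Nat.ble 148 c)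
noncomputable def finTab_s_142_150 (c : Nat) : Nat := @Bool.rec (fun _ => Nat) (finTab_s_142_146 c) (finTab_s_146_150 c) (Nat.ble 146 c)
noncomputable def finTab_s_135_150 (c : Nat) : Nat := @Bool.rec (fun _ => Nat) (finTab_s_135_142 c) (finTab_s_142_150 c) (Nat.ble 142 c)
noncomputable def finTab_s_120_150 (c : Nat) : Nat := @Bool.rec (fun _ => Nat) (finTab_s_120_135 c) (finTab_s_135_150 c) (Nat.ble 135 c)
noncomputable def finTab_s_151_153 (c : Nat) : Nat := @Bool.rec (fun _ => Nat) (finTab_151) (finTab_152) (Nat.ble 152 c)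
noncomputable def finTab_s_150_153 (c : Nat) : Nat := @Bool.rec (fun _ => Nat) (finTab_150) (finTab_s_151_153 c) (Nat.ble 151 c)
noncomputable def finTab_s_153_155 (c : Nat) : Nat := @Bool.rec (fun _ => Nat) (finTab_153) (finTab_154) (Nat.ble 154 c)
noncomputable def finTab_s_155_157 (c : Nat) : Nat := @Bool.rec (fun _ => Nat) (finTab_155) (finTab_156) (Nat.ble 156 c)
noncomputable def finTab_s_153_157 (c : Nat) : Nat := @Bool.rec (fun _ => Nat) (finTab_s_153_155 c) (finTab_s_155_157 c) (Nat.ble 155 c)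
noncomputable def finTab_s_150_157 (c : Nat) : Nat := @Bool.rec (fun _ => Nat) (finTab_s_150_153 c) (finTab_s_153_157 c) (Nat.ble 153 c)
noncomputable def finTab_s_157_159 (c : Nat) : Nat := @Bool.rec (fun _ => Nat) (finTab_157) (finTab_158) (Nat.ble 158 c)
noncomputable def finTab_s_159_161 (c : Nat) : Nat := @Bool.rec (fun _ => Nat) (finTab_159) (finTab_160) (Nat.ble 160 c)
noncomputable def finTab_s_157_161 (c : Nat) : Nat := @Bool.rec (fun _ => Nat) (finTab_s_157_159 c) (finTab_s_159_161 c) (Nat.ble 159 c)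
noncomputable def finTab_s_161_163 (c : Nat) : Nat := @Bool.rec (fun _ => Nat) (finTab_161) (finTab_162) (Nat.ble 162 c)
noncomputable def finTab_s_163_165 (c : Nat) : Nat := @Bool.rec (fun _ => Nat) (finTab_163) (finTab_164) (Nat.ble 164 c)
noncomputable def finTab_s_161_165 (c : Nat) : Nat := @Bool.rec (fun _ => Nat) (finTab_s_161_163 c) (finTab_s_163_165 c) (Nat.ble 163 c)
noncomputable def finTab_s_157_165 (c : Nat) : Nat := @Bool.rec (fun _ => Nat) (finTab_s_157_161 c) (finTab_s_161_165 c) (Nat.ble 161 c)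
noncomputable def finTab_s_150_165 (c : Nat) : Nat := @Bool.rec (fun _ => Nat) (finTab_s_150_157 c) (finTab_s_157_165 c) (Nat.ble 157 c)
noncomputable def finTab_s_166_168 (c : Nat) : Nat := @Bool.rec (fun _ => Nat) (finTab_166) (finTab_167) (Nat.ble 167 c)
noncomputable def finTab_s_165_168 (c : Nat) : Nat := @Bool.rec (fun _ => Nat) (finTab_165) (finTab_s_166_168 c) (Nat.ble 166 c)
noncomputable def finTab_s_168_170 (c : Nat) : Nat := @Bool.rec (fun _ => Nat) (finTab_168) (finTab_169) (Nat.ble 169 c)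
noncomputable def finTab_s_170_172 (c : Nat) : Nat := @Bool.rec (fun _ => Nat) (finTab_170) (finTab_171) (Nat.ble 171 c)
noncomputable def finTab_s_168_172 (c : Nat) : Nat := @Bool.rec (fun _ => Nat) (finTab_s_168_170 c) (finTab_s_170_172 c) (Nat.ble 170 c)
noncomputable def finTab_s_165_172 (c : Nat) : Nat := @Bool.rec (fun _ => Nat) (finTab_s_165_168 c) (finTab_s_168_172 c) (Nat.ble 168 c)
noncomputable def finTab_s_172_174 (c : Nat) : Nat := @Bool.rec (fun _ => Nat) (finTab_172) (finTab_173) (Nat.ble 173 c)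
noncomputable def finTab_s_174_176 (c : Nat) : Nat := @Bool.rec (fun _ => Nat) (finTab_174) (finTab_175) (Nat.ble 175 c)
noncomputable def finTab_s_172_176 (c : Nat) : Nat := @Bool.rec (fun _ => Nat) (finTab_s_172_174 c) (finTab_s_174_176 c) (Nat.ble 174 c)
noncomputable def finTab_s_176_178 (c : Nat) : Nat := @Bool.rec (fun _ => Nat) (finTab_176) (finTab_177) (Nat.ble 177 c)
noncomputable def finTab_s_178_180 (c : Nat) : Nat := @Bool.rec (fun _ => Nat) (finTab_178) (finTab_179) (Nat.ble 179 c)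
noncomputable def finTab_s_176_180 (c : Nat) : Nat := @Bool.rec (fun _ => Nat) (finTab_s_176_178 c) (finTab_s_178_180 c) (Nat.ble 178 c)
noncomputable def finTab_s_172_180 (c : Nat) : Nat := @Bool.rec (fun _ => Nat) (finTab_s_172_176 c) (finTab_s_176_180 c) (Nat.ble 176 c)
noncomputable def finTab_s_165_180 (c : Nat) : Nat := @Bool.rec (fun _ => Nat) (finTab_s_165_172 c) (finTab_s_172_180 c) (Nat.ble 172 c)
noncomputable def finTab_s_150_180 (c : Nat) : Nat := @Bool.rec (fun _ => Nat) (finTab_s_150_165 c) (finTab_s_165_180 c) (Nat.ble 165 c)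
noncomputable def finTab_s_120_180 (c : Nat) : Nat := @Bool.rec (fun _ => Nat) (finTab_s_120_150 c) (finTab_s_150_180 c) (Nat.ble 150 c)
noncomputable def finTab_s_181_183 (c : Nat) : Nat := @Bool.rec (fun _ => Nat) (finTab_181) (finTab_182) (Nat.ble 182 c)
noncomputable def finTab_s_180_183 (c : Nat) : Nat := @Bool.rec (fun _ => Nat) (finTab_180) (finTab_s_181_183 c) (Nat.ble 181 c)
noncomputable def finTab_s_183_185 (c : Nat) : Nat := @Bool.rec (fun _ => Nat) (finTab_183) (finTab_184) (Nat.ble 184 c)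
noncomputable def finTab_s_185_187 (c : Nat) : Nat := @Bool.rec (fun _ => Nat) (finTab_185) (finTab_186) (Nat.ble 186 c)
noncomputable def finTab_s_183_187 (c : Nat) : Nat := @Bool.rec (fun _ => Nat) (finTab_s_183_185 c) (finTab_s_185_187 c) (Nat.ble 185 c)
noncomputable def finTab_s_180_187 (c : Nat) : Nat := @Bool.rec (fun _ => Nat) (finTab_s_180_183 c) (finTab_s_183_187 c) (Nat.ble 183 c)
noncomputable def finTab_s_187_189 (c : Nat) : Nat := @Bool.rec (fun _ => Nat) (finTab_187) (finTab_188) (Nat.ble 188 c)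
noncomputable def finTab_s_189_191 (c : Nat) : Nat := @Bool.rec (fun _ => Nat) (finTab_189) (finTab_190) (Nat.ble 190 c)
noncomputable def finTab_s_187_191 (c : Nat) : Nat := @Bool.rec (fun _ => Nat) (finTab_s_187_189 c) (finTab_s_189_191 c) (Nat.ble 189 c)
noncomputable def finTab_s_191_193 (c : Nat) : Nat := @Bool.rec (fun _ => Nat) (finTab_191) (finTab_192) (Nat.ble 192 c)
noncomputable def finTab_s_193_195 (c : Nat) : Nat := @Bool.rec (fun _ => Nat) (finTab_193) (finTab_194) (Nat.ble 194 c)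
noncomputable def finTab_s_191_195 (c : Nat) : Nat := @Bool.rec (fun _ => Nat) (finTab_s_191_193 c) (finTab_s_193_195 c) (Nat.ble 193 c)
noncomputable def finTab_s_187_195 (c : Nat) : Nat := @Bool.rec (fun _ => Nat) (finTab_s_187_191 c) (finTab_s_191_195 c) (Nat.ble 191 c)
noncomputable def finTab_s_180_195 (c : Nat) : Nat := @Bool.rec (fun _ => Nat) (finTab_s_180_187 c) (finTab_s_187_195 c) (Nat.ble 187 c)
noncomputable def finTab_s_196_198 (c : Nat) : Nat := @Bool.rec (fun _ => Nat) (finTab_196) (finTab_197) (Nat.ble 197 c)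
noncomputable def finTab_s_195_198 (c : Nat) : Nat := @Bool.rec (fun _ => Nat) (finTab_195) (finTab_s_196_198 c) (Nat.ble 196 c)
noncomputable def finTab_s_198_200 (c : Nat) : Nat := @Bool.rec (fun _ => Nat) (finTab_198) (finTab_199) (Nat.ble 199 c)
noncomputable def finTab_s_200_202 (c : Nat) : Nat := @Bool.rec (fun _ => Nat) (finTab_200) (finTab_201) (Nat.ble 201 c)
noncomputable def finTab_s_198_202 (c : Nat) : Nat := @Bool.rec (fun _ => Nat) (finTab_s_198_200 c) (finTab_s_200_202 c) (Nat.ble 200 c)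
noncomputable def finTab_s_195_202 (c : Nat) : Nat := @Bool.rec (fun _ => Nat) (finTab_s_195_198 c) (finTab_s_198_202 c) (Nat.ble 198 c)
noncomputable def finTab_s_202_204 (c : Nat) : Nat := @Bool.rec (fun _ => Nat) (finTab_202) (finTab_203) (Nat.ble 203 c)
noncomputable def finTab_s_204_206 (c : Nat) : Nat := @Bool.rec (fun _ => Nat) (finTab_204) (finTab_205) (Nat.ble 205 c)
noncomputable def finTab_s_202_206 (c : Nat) : Nat := @Bool.rec (fun _ => Nat) (finTab_s_202_204 c) (finTab_s_204_206 c) (Nat.ble 204 c)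
noncomputable def finTab_s_206_208 (c : Nat) : Nat := @Bool.rec (fun _ => Nat) (finTab_206) (finTab_207) (Nat.ble 207 c)
noncomputable def finTab_s_208_210 (c : Nat) : Nat := @Bool.rec (fun _ => Nat) (finTab_208) (finTab_209) (Nat.ble 209 c)
noncomputable def finTab_s_206_210 (c : Nat) : Nat := @Bool.rec (fun _ => Nat) (finTab_s_206_208 c) (finTab_s_208_210 c) (Nat.ble 208 c)
noncomputable def finTab_s_202_210 (c : Nat) : Nat := @Bool.rec (fun _ => Nat) (finTab_s_202_206 c) (finTab_s_206_210 c) (Nat.ble 206 c)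
noncomputable def finTab_s_195_210 (c : Nat) : Nat := @Bool.rec (fun _ => Nat) (finTab_s_195_202 c) (finTab_s_202_210 c) (Nat.ble 202 c)
noncomputable def finTab_s_180_210 (c : Nat) : Nat := @Bool.rec (fun _ => Nat) (finTab_s_180_195 c) (finTab_s_195_210 c) (Nat.ble 195 c)
noncomputable def finTab_s_211_213 (c : Nat) : Nat := @Bool.rec (fun _ => Nat) (finTab_211) (finTab_212) (Nat.ble 212 c)
noncomputable def finTab_s_210_213 (c : Nat) : Nat := @Bool.rec (fun _ => Nat) (finTab_210) (finTab_s_211_213 c) (Nat.ble 211 c)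
noncomputable def finTab_s_213_215 (c : Nat) : Nat := @Bool.rec (fun _ => Nat) (finTab_213) (finTab_214) (Nat.ble 214 c)
noncomputable def finTab_s_215_217 (c : Nat) : Nat := @Bool.rec (fun _ => Nat) (finTab_215) (finTab_216) (Nat.ble 216 c)
noncomputable def finTab_s_213_217 (c : Nat) : Nat := @Bool.rec (fun _ => Nat) (finTab_s_213_215 c) (finTab_s_215_217 c) (Nat.ble 215 c)
noncomputable def finTab_s_210_217 (c : Nat) : Nat := @Bool.rec (fun _ => Nat) (finTab_s_210_213 c) (finTab_s_213_217 c) (Nat.ble 213 c)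
noncomputable def finTab_s_217_219 (c : Nat) : Nat := @Bool.rec (fun _ => Nat) (finTab_217) (finTab_218) (Nat.ble 218 c)
noncomputable def finTab_s_219_221 (c : Nat) : Nat := @Bool.rec (fun _ => Nat) (finTab_219) (finTab_220) (Nat.ble 220 c)
noncomputable def finTab_s_217_221 (c : Nat) : Nat := @Bool.rec (fun _ => Nat) (finTab_s_217_219 c) (finTab_s_219_221 c) (Nat.ble 219 c)
noncomputable def finTab_s_221_223 (c : Nat) : Nat := @Bool.rec (fun _ => Nat) (finTab_221) (finTab_222) (Nat.ble 222 c)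
noncomputable def finTab_s_223_225 (c : Nat) : Nat := @Bool.rec (fun _ => Nat) (finTab_223) (finTab_224) (Nat.ble 224 c)
noncomputable def finTab_s_221_225 (c : Nat) : Nat := @Bool.rec (fun _ => Nat) (finTab_s_221_223 c) (finTab_s_223_225 c) (Nat.ble 223 c)
noncomputable def finTab_s_217_225 (c : Nat) : Nat := @Bool.rec (fun _ => Nat) (finTab_s_217_221 c) (finTab_s_221_225 c) (Nat.ble 221 c)
noncomputable def finTab_s_210_225 (c : Nat) : Nat := @Bool.rec (fun _ => Nat) (finTab_s_210_217 c) (finTab_s_217_225 c) (Nat.ble 217 c)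
noncomputable def finTab_s_226_228 (c : Nat) : Nat := @Bool.rec (fun _ => Nat) (finTab_226) (finTab_227) (Nat.ble 227 c)
noncomputable def finTab_s_225_228 (c : Nat) : Nat := @Bool.rec (fun _ => Nat) (finTab_225) (finTab_s_226_228 c) (Nat.ble 226 c)
noncomputable def finTab_s_228_230 (c : Nat) : Nat := @Bool.rec (fun _ => Nat) (finTab_228) (finTab_229) (Nat.ble 229 c)
noncomputable def finTab_s_230_232 (c : Nat) : Nat := @Bool.rec (fun _ => Nat) (finTab_230) (finTab_231) (Nat.ble 231 c)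
noncomputable def finTab_s_228_232 (c : Nat) : Nat := @Bool.rec (fun _ => Nat) (finTab_s_228_230 c) (finTab_s_230_232 c) (Nat.ble 230 c)
noncomputable def finTab_s_225_232 (c : Nat) : Nat := @Bool.rec (fun _ => Nat) (finTab_s_225_228 c) (finTab_s_228_232 c) (Nat.ble 228 c)
noncomputable def finTab_s_232_234 (c : Nat) : Nat := @Bool.rec (fun _ => Nat) (finTab_232) (finTab_233) (Nat.ble 233 c)
noncomputable def finTab_s_234_236 (c : Nat) : Nat := @Bool.rec (fun _ => Nat) (finTab_234) (finTab_235) (Nat.ble 235 c)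
noncomputable def finTab_s_232_236 (c : Nat) : Nat := @Bool.rec (fun _ => Nat) (finTab_s_232_234 c) (finTab_s_234_236 c) (Nat.ble 234 c)
noncomputable def finTab_s_236_238 (c : Nat) : Nat := @Bool.rec (fun _ => Nat) (finTab_236) (finTab_237) (Nat.ble 237 c)
noncomputable def finTab_s_238_240 (c : Nat) : Nat := @Bool.rec (fun _ => Nat) (finTab_238) (finTab_239) (Nat.ble 239 c)
noncomputable def finTab_s_236_240 (c : Nat) : Nat := @Bool.rec (fun _ => Nat) (finTab_s_236_238 c) (finTab_s_238_240 c) (Nat.ble 238 c)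
noncomputable def finTab_s_232_240 (c : Nat) : Nat := @Bool.rec (fun _ => Nat) (finTab_s_232_236 c) (finTab_s_236_240 c) (Nat.ble 236 c)
noncomputable def finTab_s_225_240 (c : Nat) : Nat := @Bool.rec (fun _ => Nat) (finTab_s_225_232 c) (finTab_s_232_240 c) (Nat.ble 232 c)
noncomputable def finTab_s_210_240 (c : Nat) : Nat := @Bool.rec (fun _ => Nat) (finTab_s_210_225 c) (finTab_s_225_240 c) (Nat.ble 225 c)
noncomputable def finTab_s_180_240 (c : Nat) : Nat := @Bool.rec (fun _ => Nat) (finTab_s_180_210 c) (finTab_s_210_240 c) (Nat.ble 210 c)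
noncomputable def finTab_s_120_240 (c : Nat) : Nat := @Bool.rec (fun _ => Nat) (finTab_s_120_180 c) (finTab_s_180_240 c) (Nat.ble 180 c)
noncomputable def finTab_s_0_240 (c : Nat) : Nat := @Bool.rec (fun _ => Nat) (finTab_s_0_120 c) (finTab_s_120_240 c) (Nat.ble 120 c)
noncomputable def finTab (i : Nat) : Nat := rdw 21 2097151 (finTab_s_0_240 (Nat.shiftRight i 12)) (Nat.land i 4095)
noncomputable def clsTab_s_0_2 (c : Nat) : Nat := @Bool.rec (fun _ => Nat) (clsTab_0) (clsTab_1) (Nat.ble 1 c)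
noncomputable def clsTab_s_3_5 (c : Nat) : Nat := @Bool.rec (fun _ => Nat) (clsTab_3) (clsTab_4) (Nat.ble 4 c)
noncomputable def clsTab_s_2_5 (c : Nat) : Nat := @Bool.rec (fun _ => Nat) (clsTab_2) (clsTab_s_3_5 c) (Nat.ble 3 c)
noncomputable def clsTab_s_0_5 (c : Nat) : Nat := @Bool.rec (fun _ => Nat) (clsTab_s_0_2 c) (clsTab_s_2_5 c) (Nat.ble 2 c)
noncomputable def clsTab_s_6_8 (c : Nat) : Nat := @Bool.rec (fun _ => Nat) (clsTab_6) (clsTab_7) (Nat.ble 7 c)
noncomputable def clsTab_s_5_8 (c : Nat) : Nat := @Bool.rec (fun _ => Nat) (clsTab_5) (clsTab_s_6_8 c) (Nat.ble 6 c)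
noncomputable def clsTab_s_9_11 (c : Nat) : Nat := @Bool.rec (fun _ => Nat) (clsTab_9) (clsTab_10) (Nat.ble 10 c)
noncomputable def clsTab_s_8_11 (c : Nat) : Nat := @Bool.rec (fun _ => Nat) (clsTab_8) (clsTab_s_9_11 c) (Nat.ble 9 c)
noncomputable def clsTab_s_5_11 (c : Nat) : Nat := @Bool.rec (fun _ => Nat) (clsTab_s_5_8 c) (clsTab_s_8_11 c) (Nat.ble 8 c)
noncomputable def clsTab_s_0_11 (c : Nat) : Nat := @Bool.rec (fun _ => Nat) (clsTab_s_0_5 c) (clsTab_s_5_11 c) (Nat.ble 5 c)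
noncomputable def clsTab_s_12_14 (c : Nat) : Nat := @Bool.rec (fun _ => Nat) (clsTab_12) (clsTab_13) (Nat.ble 13 c)
noncomputable def clsTab_s_11_14 (c : Nat) : Nat := @Bool.rec (fun _ => Nat) (clsTab_11) (clsTab_s_12_14 c) (Nat.ble 12 c)
noncomputable def clsTab_s_15_17 (c : Nat) : Nat := @Bool.rec (fun _ => Nat) (clsTab_15) (clsTab_16) (Nat.ble 16 c)
noncomputable def clsTab_s_14_17 (c : Nat) : Nat := @Bool.rec (fun _ => Nat) (clsTab_14) (clsTab_s_15_17 c) (Nat.ble 15 c)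
noncomputable def clsTab_s_11_17 (c : Nat) : Nat := @Bool.rec (fun _ => Nat) (clsTab_s_11_14 c) (clsTab_s_14_17 c) (Nat.ble 14 c)
noncomputable def clsTab_s_18_20 (c : Nat) : Nat := @Bool.rec (fun _ => Nat) (clsTab_18) (clsTab_19) (Nat.ble 19 c)
noncomputable def clsTab_s_17_20 (c : Nat) : Nat := @Bool.rec (fun _ => Nat) (clsTab_17) (clsTab_s_18_20 c) (Nat.ble 18 c)
noncomputable def clsTab_s_21_23 (c : Nat) : Nat := @Bool.rec (fun _ => Nat) (clsTab_21) (clsTab_22) (Nat.ble 22 c)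
noncomputable def clsTab_s_20_23 (c : Nat) : Nat := @Bool.rec (fun _ => Nat) (clsTab_20) (clsTab_s_21_23 c) (Nat.ble 21 c)
noncomputable def clsTab_s_17_23 (c : Nat) : Nat := @Bool.rec (fun _ => Nat) (clsTab_s_17_20 c) (clsTab_s_20_23 c) (Nat.ble 20 c)
noncomputable def clsTab_s_11_23 (c : Nat) : Nat := @Bool.rec (fun _ => Nat) (clsTab_s_11_17 c) (clsTab_s_17_23 c) (Nat.ble 17 c)
noncomputable def clsTab_s_0_23 (c : Nat) : Nat := @Bool.rec (fun _ => Nat) (clsTab_s_0_11 c) (clsTab_s_11_23 c) (Nat.ble 11 c)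
noncomputable def clsTab_s_24_26 (c : Nat) : Nat := @Bool.rec (fun _ => Nat) (clsTab_24) (clsTab_25) (Nat.ble 25 c)
noncomputable def clsTab_s_23_26 (c : Nat) : Nat := @Bool.rec (fun _ => Nat) (clsTab_23) (clsTab_s_24_26 c) (Nat.ble 24 c)
noncomputable def clsTab_s_27_29 (c : Nat) : Nat := @Bool.rec (fun _ => Nat) (clsTab_27) (clsTab_28) (Nat.ble 28 c)
noncomputable def clsTab_s_26_29 (c : Nat) : Nat := @Bool.rec (fun _ => Nat) (clsTab_26) (clsTab_s_27_29 c) (Nat.ble 27 c)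
noncomputable def clsTab_s_23_29 (c : Nat) : Nat := @Bool.rec (fun _ => Nat) (clsTab_s_23_26 c) (clsTab_s_26_29 c) (Nat.ble 26 c)
noncomputable def clsTab_s_30_32 (c : Nat) : Nat := @Bool.rec (fun _ => Nat) (clsTab_30) (clsTab_31) (Nat.ble 31 c)
noncomputable def clsTab_s_29_32 (c : Nat) : Nat := @Bool.rec (fun _ => Nat) (clsTab_29) (clsTab_s_30_32 c) (Nat.ble 30 c)
noncomputable def clsTab_s_33_35 (c : Nat) : Nat := @Bool.rec (fun _ => Nat) (clsTab_33) (clsTab_34) (Nat.ble 34 c)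
noncomputable def clsTab_s_32_35 (c : Nat) : Nat := @Bool.rec (fun _ => Nat) (clsTab_32) (clsTab_s_33_35 c) (Nat.ble 33 c)
noncomputable def clsTab_s_29_35 (c : Nat) : Nat := @Bool.rec (fun _ => Nat) (clsTab_s_29_32 c) (clsTab_s_32_35 c) (Nat.ble 32 c)
noncomputable def clsTab_s_23_35 (c : Nat) : Nat := @Bool.rec (fun _ => Nat) (clsTab_s_23_29 c) (clsTab_s_29_35 c) (Nat.ble 29 c)
noncomputable def clsTab_s_36_38 (c : Nat) : Nat := @Bool.rec (fun _ => Nat) (clsTab_36) (clsTab_37) (Nat.ble 37 c)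
noncomputable def clsTab_s_35_38 (c : Nat) : Nat := @Bool.rec (fun _ => Nat) (clsTab_35) (clsTab_s_36_38 c) (Nat.ble 36 c)
noncomputable def clsTab_s_39_41 (c : Nat) : Nat := @Bool.rec (fun _ => Nat) (clsTab_39) (clsTab_40) (Nat.ble 40 c)
noncomputable def clsTab_s_38_41 (c : Nat) : Nat := @Bool.rec (fun _ => Nat) (clsTab_38) (clsTab_s_39_41 c) (Nat.ble 39 c)
noncomputable def clsTab_s_35_41 (c : Nat) : Nat := @Bool.rec (fun _ => Nat) (clsTab_s_35_38 c) (clsTab_s_38_41 c) (Nat.ble 38 c)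
noncomputable def clsTab_s_42_44 (c : Nat) : Nat := @Bool.rec (fun _ => Nat) (clsTab_42) (clsTab_43) (Nat.ble 43 c)
noncomputable def clsTab_s_41_44 (c : Nat) : Nat := @Bool.rec (fun _ => Nat) (clsTab_41) (clsTab_s_42_44 c) (Nat.ble 42 c)
noncomputable def clsTab_s_45_47 (c : Nat) : Nat := @Bool.rec (fun _ => Nat) (clsTab_45) (clsTab_46) (Nat.ble 46 c)
noncomputable def clsTab_s_44_47 (c : Nat) : Nat := @Bool.rec (fun _ => Nat) (clsTab_44) (clsTab_s_45_47 c) (Nat.ble 45 c)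
noncomputable def clsTab_s_41_47 (c : Nat) : Nat := @Bool.rec (fun _ => Nat) (clsTab_s_41_44 c) (clsTab_s_44_47 c) (Nat.ble 44 c)
noncomputable def clsTab_s_35_47 (c : Nat) : Nat := @Bool.rec (fun _ => Nat) (clsTab_s_35_41 c) (clsTab_s_41_47 c) (Nat.ble 41 c)
noncomputable def clsTab_s_23_47 (c : Nat) : Nat := @Bool.rec (fun _ => Nat) (clsTab_s_23_35 c) (clsTab_s_35_47 c) (Nat.ble 35 c)
noncomputable def clsTab_s_0_47 (c : Nat) : Nat := @Bool.rec (fun _ => Nat) (clsTab_s_0_23 c) (clsTab_s_23_47 c) (Nat.ble 23 c)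
noncomputable def clsTab (i : Nat) : Nat := rdw 17 131071 (clsTab_s_0_47 (Nat.shiftRight i 12)) (Nat.land i 4095)
noncomputable def oparTab_s_1_3 (c : Nat) : Nat := @Bool.rec (fun _ => Nat) (oparTab_1) (oparTab_2) (Nat.ble 2 c)
noncomputable def oparTab_s_0_3 (c : Nat) : Nat := @Bool.rec (fun _ => Nat) (oparTab_0) (oparTab_s_1_3 c) (Nat.ble 1 c)
noncomputable def oparTab_s_3_5 (c : Nat) : Nat := @Bool.rec (fun _ => Nat) (oparTab_3) (oparTab_4) (Nat.ble 4 c)
noncomputable def oparTab_s_5_7 (c : Nat) : Nat := @Bool.rec (fun _ => Nat) (oparTab_5) (oparTab_6) (Nat.ble 6 c)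
noncomputable def oparTab_s_3_7 (c : Nat) : Nat := @Bool.rec (fun _ => Nat) (oparTab_s_3_5 c) (oparTab_s_5_7 c) (Nat.ble 5 c)
noncomputable def oparTab_s_0_7 (c : Nat) : Nat := @Bool.rec (fun _ => Nat) (oparTab_s_0_3 c) (oparTab_s_3_7 c) (Nat.ble 3 c)
noncomputable def oparTab_s_7_9 (c : Nat) : Nat := @Bool.rec (fun _ => Nat) (oparTab_7) (oparTab_8) (Nat.ble 8 c)
noncomputable def oparTab_s_9_11 (c : Nat) : Nat := @Bool.rec (fun _ => Nat) (oparTab_9) (oparTab_10) (Nat.ble 10 c)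
noncomputable def oparTab_s_7_11 (c : Nat) : Nat := @Bool.rec (fun _ => Nat) (oparTab_s_7_9 c) (oparTab_s_9_11 c) (Nat.ble 9 c)
noncomputable def oparTab_s_11_13 (c : Nat) : Nat := @Bool.rec (fun _ => Nat) (oparTab_11) (oparTab_12) (Nat.ble 12 c)
noncomputable def oparTab_s_13_15 (c : Nat) : Nat := @Bool.rec (fun _ => Nat) (oparTab_13) (oparTab_14) (Nat.ble 14 c)
noncomputable def oparTab_s_11_15 (c : Nat) : Nat := @Bool.rec (fun _ => Nat) (oparTab_s_11_13 c) (oparTab_s_13_15 c) (Nat.ble 13 c)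
noncomputable def oparTab_s_7_15 (c : Nat) : Nat := @Bool.rec (fun _ => Nat) (oparTab_s_7_11 c) (oparTab_s_11_15 c) (Nat.ble 11 c)
noncomputable def oparTab_s_0_15 (c : Nat) : Nat := @Bool.rec (fun _ => Nat) (oparTab_s_0_7 c) (oparTab_s_7_15 c) (Nat.ble 7 c)
noncomputable def oparTab_s_16_18 (c : Nat) : Nat := @Bool.rec (fun _ => Nat) (oparTab_16) (oparTab_17) (Nat.ble 17 c)
noncomputable def oparTab_s_15_18 (c : Nat) : Nat := @Bool.rec (fun _ => Nat) (oparTab_15) (oparTab_s_16_18 c) (Nat.ble 16 c)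
noncomputable def oparTab_s_18_20 (c : Nat) : Nat := @Bool.rec (fun _ => Nat) (oparTab_18) (oparTab_19) (Nat.ble 19 c)
noncomputable def oparTab_s_20_22 (c : Nat) : Nat := @Bool.rec (fun _ => Nat) (oparTab_20) (oparTab_21) (Nat.ble 21 c)
noncomputable def oparTab_s_18_22 (c : Nat) : Nat := @Bool.rec (fun _ => Nat) (oparTab_s_18_20 c) (oparTab_s_20_22 c) (Nat.ble 20 c)
noncomputable def oparTab_s_15_22 (c : Nat) : Nat := @Bool.rec (fun _ => Nat) (oparTab_s_15_18 c) (oparTab_s_18_22 c) (Nat.ble 18 c)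
noncomputable def oparTab_s_22_24 (c : Nat) : Nat := @Bool.rec (fun _ => Nat) (oparTab_22) (oparTab_23) (Nat.ble 23 c)
noncomputable def oparTab_s_24_26 (c : Nat) : Nat := @Bool.rec (fun _ => Nat) (oparTab_24) (oparTab_25) (Nat.ble 25 c)
noncomputable def oparTab_s_22_26 (c : Nat) : Nat := @Bool.rec (fun _ => Nat) (oparTab_s_22_24 c) (oparTab_s_24_26 c) (Nat.ble 24 c)
noncomputable def oparTab_s_26_28 (c : Nat) : Nat := @Bool.rec (fun _ => Nat) (oparTab_26) (oparTab_27) (Nat.ble 27 c)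
noncomputable def oparTab_s_28_30 (c : Nat) : Nat := @Bool.rec (fun _ => Nat) (oparTab_28) (oparTab_29) (Nat.ble 29 c)
noncomputable def oparTab_s_26_30 (c : Nat) : Nat := @Bool.rec (fun _ => Nat) (oparTab_s_26_28 c) (oparTab_s_28_30 c) (Nat.ble 28 c)
noncomputable def oparTab_s_22_30 (c : Nat) : Nat := @Bool.rec (fun _ => Nat) (oparTab_s_22_26 c) (oparTab_s_26_30 c) (Nat.ble 26 c)
noncomputable def oparTab_s_15_30 (c : Nat) : Nat := @Bool.rec (fun _ => Nat) (oparTab_s_15_22 c) (oparTab_s_22_30 c) (Nat.ble 22 c)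
noncomputable def oparTab_s_0_30 (c : Nat) : Nat := @Bool.rec (fun _ => Nat) (oparTab_s_0_15 c) (oparTab_s_15_30 c) (Nat.ble 15 c)
noncomputable def oparTab (i : Nat) : Nat := rdw 17 131071 (oparTab_s_0_30 (Nat.shiftRight i 12)) (Nat.land i 4095)
noncomputable def olabTab_s_0_2 (c : Nat) : Nat := @Bool.rec (fun _ => Nat) (olabTab_0) (olabTab_1) (Nat.ble 1 c)
noncomputable def olabTab_s_2_4 (c : Nat) : Nat := @Bool.rec (fun _ => Nat) (olabTab_2) (olabTab_3) (Nat.ble 3 c)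
noncomputable def olabTab_s_0_4 (c : Nat) : Nat := @Bool.rec (fun _ => Nat) (olabTab_s_0_2 c) (olabTab_s_2_4 c) (Nat.ble 2 c)
noncomputable def olabTab (i : Nat) : Nat := rdw 3 7 (olabTab_s_0_4 (Nat.shiftRight i 15)) (Nat.land i 32767)
noncomputable def srcF (t : Nat) : Nat := Nat.land (Atab t) 262143
noncomputable def tgtF (t : Nat) : Nat := Nat.land (Nat.shiftRight (Atab t) 18) 262143
noncomputable def ltF (t : Nat) : Nat := Nat.shiftRight (Atab t) 36
noncomputable def rhoF (t : Nat) : Nat := Nat.land (Btab (Nat.sub t 191814)) 127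
noncomputable def rotF (t : Nat) : Nat := Nat.land (Nat.shiftRight (Btab (Nat.sub t 191814)) 7) 31
noncomputable def lenF (t : Nat) : Nat := Nat.land (Nat.shiftRight (Btab (Nat.sub t 191814)) 12) 63
noncomputable def offF (t : Nat) : Nat := Nat.shiftRight (Btab (Nat.sub t 191814)) 18
noncomputable def pfF (j : Nat) : Nat := Nat.shiftRight (Ptab j) 1
noncomputable def pdF (j : Nat) : Nat := Nat.land (Ptab j) 1
noncomputable def tblF (i x : Nat) : Nat := @Bool.rec (fun _ => Nat) (@Bool.rec (fun _ => Nat) (@Bool.rec (fun _ => Nat) (col0 i) (col1 i) (Nat.ble 1 x)) (@Bool.rec (fun _ => Nat) (col2 i) (col3 i) (Nat.ble 3 x)) (Nat.ble 2 x)) (@Bool.rec (fun _ => Nat) (@Bool.rec (fun _ => Nat) (col4 i) (col5 i) (Nat.ble 5 x)) (@Bool.rec (fun _ => Nat) (col6 i) (col7 i) (Nat.ble 7 x)) (Nat.ble 6 x)) (Nat.ble 4 x)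
noncomputable def finE (i x : Nat) : Nat := finTab (Nat.add (Nat.mul i 8) x)
noncomputable def finFF (i x : Nat) : Nat := Nat.shiftRight (finE i x) 1
noncomputable def finDF (i x : Nat) : Nat := Nat.land (finE i x) 1

noncomputable def D : Log :=
  { k := 8, inv := invE 8 PON.invR, nR := 84, rBase := rBtab, rLen := rLtab, RR := RRtab,
    M := 191802, nB := 12, F := 782394, src := srcF, lt := ltF, tgt := tgtF, rho := rhoF, rot := rotF,
    off := offF, len := lenF, pf := pfF, pd := pdF }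

noncomputable def T : Tab :=
  { N := 122760, nameOf := nameTab, tbl := tblF, finF := finFF, finD := finDF, cls := clsTab }

def subs : List (List Nat) := [
  [2],
  [3],
  [4],
  [5],
  [6],
  [7] ]

def rw0 : List Nat := [2, 2]
def rw1 : List Nat := [2, 3, 2, 3, 2, 3]
def rw2 : List Nat := [2, 4, 2, 4]
def rw3 : List Nat := [2, 5, 2, 5]
def rw4 : List Nat := [2, 6, 2, 6]
def rw5 : List Nat := [2, 7, 2, 7]
def rw6 : List Nat := [3, 3]
def rw7 : List Nat := [3, 4, 3, 4, 3, 4]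
def rw8 : List Nat := [3, 5, 3, 5]
def rw9 : List Nat := [3, 6, 3, 6]
def rw10 : List Nat := [3, 7, 3, 7]
def rw11 : List Nat := [4, 4]
def rw12 : List Nat := [4, 5, 4, 5, 4, 5, 4, 5, 4, 5, 4, 5, 4, 5, 4, 5]
def rw13 : List Nat := [4, 6, 4, 6]
def rw14 : List Nat := [4, 7, 4, 7]
def rw15 : List Nat := [5, 5]
def rw16 : List Nat := [5, 6, 5, 6, 5, 6]
def rw17 : List Nat := [5, 7, 5, 7]
def rw18 : List Nat := [6, 6]
def rw19 : List Nat := [6, 7, 6, 7, 6, 7]
def rw20 : List Nat := [7, 7]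
def rw21 : List Nat := [2, 7, 1, 1]
def rw22 : List Nat := [2, 7, 5, 4, 5, 4, 5, 4, 5, 4]
def rw23 : List Nat := [4, 1, 5, 1, 5, 4, 5, 0, 5, 0]
def rw24 : List Nat := [5, 1, 4, 1, 4, 5, 4, 0, 4, 0]
def rw25 : List Nat := [3, 4, 5, 0, 3, 4, 5, 0, 3, 4, 5, 0, 3, 4, 5, 0, 3, 4, 5, 0]
def rw26 : List Nat := [0, 3, 4, 0, 4, 3, 0, 3, 4, 0, 4]
def rw27 : List Nat := [0, 6, 5, 0, 5, 6, 0, 6, 5, 0, 5]
def realLit : List (List Nat) := [rw0, rw1, rw2, rw3, rw4, rw5, rw6, rw7, rw8, rw9, rw10, rw11, rw12, rw13, rw14, rw15, rw16, rw17, rw18, rw19, rw20, rw21, rw22, rw23, rw24, rw25, rw26, rw27]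
noncomputable def actR0 (i : Nat) : Nat := col2 (col2 (i))
theorem actR0_eq (i : Nat) : actR0 i = Tab.act T D rw0 i := rfl
noncomputable def actR1 (i : Nat) : Nat := col2 (col3 (col2 (col3 (col2 (col3 (i))))))
theorem actR1_eq (i : Nat) : actR1 i = Tab.act T D rw1 i := rfl
noncomputable def actR2 (i : Nat) : Nat := col2 (col4 (col2 (col4 (i))))
theorem actR2_eq (i : Nat) : actR2 i = Tab.act T D rw2 i := rfl
noncomputable def actR3 (i : Nat) : Nat := col2 (col5 (col2 (col5 (i))))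
theorem actR3_eq (i : Nat) : actR3 i = Tab.act T D rw3 i := rfl
noncomputable def actR4 (i : Nat) : Nat := col2 (col6 (col2 (col6 (i))))
theorem actR4_eq (i : Nat) : actR4 i = Tab.act T D rw4 i := rfl
noncomputable def actR5 (i : Nat) : Nat := col2 (col7 (col2 (col7 (i))))
theorem actR5_eq (i : Nat) : actR5 i = Tab.act T D rw5 i := rfl
noncomputable def actR6 (i : Nat) : Nat := col3 (col3 (i))
theorem actR6_eq (i : Nat) : actR6 i = Tab.act T D rw6 i := rfl
noncomputable def actR7 (i : Nat) : Nat := col3 (col4 (col3 (col4 (col3 (col4 (i))))))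
theorem actR7_eq (i : Nat) : actR7 i = Tab.act T D rw7 i := rfl
noncomputable def actR8 (i : Nat) : Nat := col3 (col5 (col3 (col5 (i))))
theorem actR8_eq (i : Nat) : actR8 i = Tab.act T D rw8 i := rfl
noncomputable def actR9 (i : Nat) : Nat := col3 (col6 (col3 (col6 (i))))
theorem actR9_eq (i : Nat) : actR9 i = Tab.act T D rw9 i := rfl
noncomputable def actR10 (i : Nat) : Nat := col3 (col7 (col3 (col7 (i))))
theorem actR10_eq (i : Nat) : actR10 i = Tab.act T D rw10 i := rfl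
noncomputable def actR11 (i : Nat) : Nat := col4 (col4 (i))
theorem actR11_eq (i : Nat) : actR11 i = Tab.act T D rw11 i := rfl
noncomputable def actR12 (i : Nat) : Nat := col4 (col5 (col4 (col5 (col4 (col5 (col4 (col5 (col4 (col5 (col4 (col5 (col4 (col5 (col4 (col5 (i))))))))))))))))
theorem actR12_eq (i : Nat) : actR12 i = Tab.act T D rw12 i := rfl
noncomputable def actR13 (i : Nat) : Nat := col4 (col6 (col4 (col6 (i))))
theorem actR13_eq (i : Nat) : actR13 i = Tab.act T D rw13 i := rfl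
noncomputable def actR14 (i : Nat) : Nat := col4 (col7 (col4 (col7 (i))))
theorem actR14_eq (i : Nat) : actR14 i = Tab.act T D rw14 i := rfl
noncomputable def actR15 (i : Nat) : Nat := col5 (col5 (i))
theorem actR15_eq (i : Nat) : actR15 i = Tab.act T D rw15 i := rfl
noncomputable def actR16 (i : Nat) : Nat := col5 (col6 (col5 (col6 (col5 (col6 (i))))))
theorem actR16_eq (i : Nat) : actR16 i = Tab.act T D rw16 i := rfl
noncomputable def actR17 (i : Nat) : Nat := col5 (col7 (col5 (col7 (i))))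
theorem actR17_eq (i : Nat) : actR17 i = Tab.act T D rw17 i := rfl
noncomputable def actR18 (i : Nat) : Nat := col6 (col6 (i))
theorem actR18_eq (i : Nat) : actR18 i = Tab.act T D rw18 i := rfl
noncomputable def actR19 (i : Nat) : Nat := col6 (col7 (col6 (col7 (col6 (col7 (i))))))
theorem actR19_eq (i : Nat) : actR19 i = Tab.act T D rw19 i := rfl
noncomputable def actR20 (i : Nat) : Nat := col7 (col7 (i))
theorem actR20_eq (i : Nat) : actR20 i = Tab.act T D rw20 i := rfl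
noncomputable def actR21 (i : Nat) : Nat := col2 (col7 (col0 (col0 (i))))
theorem actR21_eq (i : Nat) : actR21 i = Tab.act T D rw21 i := rfl
noncomputable def actR22 (i : Nat) : Nat := col2 (col7 (col5 (col4 (col5 (col4 (col5 (col4 (col5 (col4 (i))))))))))
theorem actR22_eq (i : Nat) : actR22 i = Tab.act T D rw22 i := rfl
noncomputable def actR23 (i : Nat) : Nat := col4 (col0 (col5 (col0 (col5 (col4 (col5 (col1 (col5 (col1 (i))))))))))
theorem actR23_eq (i : Nat) : actR23 i = Tab.act T D rw23 i := rfl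
noncomputable def actR24 (i : Nat) : Nat := col5 (col0 (col4 (col0 (col4 (col5 (col4 (col1 (col4 (col1 (i))))))))))
theorem actR24_eq (i : Nat) : actR24 i = Tab.act T D rw24 i := rfl
noncomputable def actR25 (i : Nat) : Nat := col3 (col4 (col5 (col1 (col3 (col4 (col5 (col1 (col3 (col4 (col5 (col1 (col3 (col4 (col5 (col1 (col3 (col4 (col5 (col1 (i))))))))))))))))))))
theorem actR25_eq (i : Nat) : actR25 i = Tab.act T D rw25 i := rfl
noncomputable def actR26 (i : Nat) : Nat := col1 (col3 (col4 (col1 (col4 (col3 (col1 (col3 (col4 (col1 (col4 (i)))))))))))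
theorem actR26_eq (i : Nat) : actR26 i = Tab.act T D rw26 i := rfl
noncomputable def actR27 (i : Nat) : Nat := col1 (col6 (col5 (col1 (col5 (col6 (col1 (col6 (col5 (col1 (col5 (i)))))))))))
theorem actR27_eq (i : Nat) : actR27 i = Tab.act T D rw27 i := rfl

end Cfsg.Agent.Lib.Helper4.TCD.ON1
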