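import Cfsg.Agent.Lib.Helper4.TCD_ON1_Acc

namespace Cfsg.Agent.Lib.Helper4.TCD.ON1

open Cfsg.Agent.Lib.Helper4.TC

set_option maxRecDepth 100000
set_option Elab.async false

theorem c_zero : D.zeroOK = true := by decide +kernel
theorem c_base : allBelow D.baseOK 12 = true := by decide +kernel
theorem c_let : allBelow D.letOK 8 = true := by decide +kernel
theorem c_cls0 : T.cls 0 = 0 := by decide +kernel
theorem c_name0 : T.nameOf 0 = 0 := by decide +kernel
theorem c_tab : D.relTabOK 0 (baseRels 8 PON.invR PON.P.real subs ++ (baseRels 8 PON.invR PON.P.real subs).map (invWord D.inv)) = true := by decide +kernel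
theorem c_real : PON.P.real = realLit := by decide +kernel
theorem c_subfix : subs.all (fun u => Nat.beq (Tab.act T D u 0) 0) = true := by decide +kernel
theorem c_subs : subs.all (fun u => u.all (fun x => Nat.ble (Nat.succ x) 8)) = true := by decide +kernel
theorem c_names_0 : allRange D.nameOK 1 60000 = true := by decide +kernel
theorem c_names_1 : allRange D.nameOK 60001 60000 = true := by decide +kernel
theorem c_names_2 : allRange D.nameOK 120001 60000 = true := by decide +kernel
theorem c_names_3 : allRange D.nameOK 180001 11801 = true := by decide +kernel
theorem c_cls_0 : allRange (T.clsOK D) 1 15000 = true := by decide +kernel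
theorem c_cls_1 : allRange (T.clsOK D) 15001 15000 = true := by decide +kernel
theorem c_cls_2 : allRange (T.clsOK D) 30001 15000 = true := by decide +kernel
theorem c_cls_3 : allRange (T.clsOK D) 45001 15000 = true := by decide +kernel
theorem c_cls_4 : allRange (T.clsOK D) 60001 15000 = true := by decide +kernel
theorem c_cls_5 : allRange (T.clsOK D) 75001 15000 = true := by decide +kernel
theorem c_cls_6 : allRange (T.clsOK D) 90001 15000 = true := by decide +kernel
theorem c_cls_7 : allRange (T.clsOK D) 105001 15000 = true := by decide +kernel
theorem c_cls_8 : allRange (T.clsOK D) 120001 15000 = true := by decide +kernel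
theorem c_cls_9 : allRange (T.clsOK D) 135001 15000 = true := by decide +kernel
theorem c_cls_10 : allRange (T.clsOK D) 150001 15000 = true := by decide +kernel
theorem c_cls_11 : allRange (T.clsOK D) 165001 15000 = true := by decide +kernel
theorem c_cls_12 : allRange (T.clsOK D) 180001 11801 = true := by decide +kernel
theorem c_rep_0 : allRange (T.repOK D) 0 30000 = true := by decide +kernel
theorem c_rep_1 : allRange (T.repOK D) 30000 30000 = true := by decide +kernel
theorem c_rep_2 : allRange (T.repOK D) 60000 30000 = true := by decide +kernel
theorem c_rep_3 : allRange (T.repOK D) 90000 30000 = true := by decide +kernel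
theorem c_rep_4 : allRange (T.repOK D) 120000 2760 = true := by decide +kernel
theorem c_rel_0 : allRange D.relOK 191814 2709 = true := by decide +kernel
theorem c_rel_1 : allRange D.relOK 194523 2784 = true := by decide +kernel
theorem c_rel_2 : allRange D.relOK 197307 2671 = true := by decide +kernel
theorem c_rel_3 : allRange D.relOK 199978 2698 = true := by decide +kernel
theorem c_rel_4 : allRange D.relOK 202676 2598 = true := by decide +kernel
theorem c_rel_5 : allRange D.relOK 205274 2687 = true := by decide +kernel
theorem c_rel_6 : allRange D.relOK 207961 2606 = true := by decide +kernel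
theorem c_rel_7 : allRange D.relOK 210567 2605 = true := by decide +kernel
theorem c_rel_8 : allRange D.relOK 213172 2653 = true := by decide +kernel
theorem c_rel_9 : allRange D.relOK 215825 2565 = true := by decide +kernel
theorem c_rel_10 : allRange D.relOK 218390 2568 = true := by decide +kernel
theorem c_rel_11 : allRange D.relOK 220958 2759 = true := by decide +kernel
theorem c_rel_12 : allRange D.relOK 223717 2708 = true := by decide +kernel
theorem c_rel_13 : allRange D.relOK 226425 2637 = true := by decide +kernel
theorem c_rel_14 : allRange D.relOK 229062 2679 = true := by decide +kernel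
theorem c_rel_15 : allRange D.relOK 231741 2601 = true := by decide +kernel
theorem c_rel_16 : allRange D.relOK 234342 2593 = true := by decide +kernel
theorem c_rel_17 : allRange D.relOK 236935 2565 = true := by decide +kernel
theorem c_rel_18 : allRange D.relOK 239500 2496 = true := by decide +kernel
theorem c_rel_19 : allRange D.relOK 241996 2490 = true := by decide +kernel
theorem c_rel_20 : allRange D.relOK 244486 2736 = true := by decide +kernel
theorem c_rel_21 : allRange D.relOK 247222 2692 = true := by decide +kernel
theorem c_rel_22 : allRange D.relOK 249914 2536 = true := by decide +kernel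
theorem c_rel_23 : allRange D.relOK 252450 2511 = true := by decide +kernel
theorem c_rel_24 : allRange D.relOK 254961 2552 = true := by decide +kernel
theorem c_rel_25 : allRange D.relOK 257513 2576 = true := by decide +kernel
theorem c_rel_26 : allRange D.relOK 260089 2557 = true := by decide +kernel
theorem c_rel_27 : allRange D.relOK 262646 2556 = true := by decide +kernel
theorem c_rel_28 : allRange D.relOK 265202 2568 = true := by decide +kernel
theorem c_rel_29 : allRange D.relOK 267770 2782 = true := by decide +kernel
theorem c_rel_30 : allRange D.relOK 270552 2785 = true := by decide +kernel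
theorem c_rel_31 : allRange D.relOK 273337 2638 = true := by decide +kernel
theorem c_rel_32 : allRange D.relOK 275975 2464 = true := by decide +kernel
theorem c_rel_33 : allRange D.relOK 278439 2657 = true := by decide +kernel
theorem c_rel_34 : allRange D.relOK 281096 2767 = true := by decide +kernel
theorem c_rel_35 : allRange D.relOK 283863 2618 = true := by decide +kernel
theorem c_rel_36 : allRange D.relOK 286481 2594 = true := by decide +kernel
theorem c_rel_37 : allRange D.relOK 289075 2647 = true := by decide +kernel
theorem c_rel_38 : allRange D.relOK 291722 2546 = true := by decide +kernel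
theorem c_rel_39 : allRange D.relOK 294268 2627 = true := by decide +kernel
theorem c_rel_40 : allRange D.relOK 296895 2600 = true := by decide +kernel
theorem c_rel_41 : allRange D.relOK 299495 2527 = true := by decide +kernel
theorem c_rel_42 : allRange D.relOK 302022 2422 = true := by decide +kernel
theorem c_rel_43 : allRange D.relOK 304444 2556 = true := by decide +kernel
theorem c_rel_44 : allRange D.relOK 307000 2574 = true := by decide +kernel
theorem c_rel_45 : allRange D.relOK 309574 2528 = true := by decide +kernel
theorem c_rel_46 : allRange D.relOK 312102 2501 = true := by decide +kernel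
theorem c_rel_47 : allRange D.relOK 314603 2555 = true := by decide +kernel
theorem c_rel_48 : allRange D.relOK 317158 2553 = true := by decide +kernel
theorem c_rel_49 : allRange D.relOK 319711 2655 = true := by decide +kernel
theorem c_rel_50 : allRange D.relOK 322366 2708 = true := by decide +kernel
theorem c_rel_51 : allRange D.relOK 325074 2628 = true := by decide +kernel
theorem c_rel_52 : allRange D.relOK 327702 2620 = true := by decide +kernel
theorem c_rel_53 : allRange D.relOK 330322 2488 = true := by decide +kernel
theorem c_rel_54 : allRange D.relOK 332810 2506 = true := by decide +kernel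
theorem c_rel_55 : allRange D.relOK 335316 2640 = true := by decide +kernel
theorem c_rel_56 : allRange D.relOK 337956 2621 = true := by decide +kernel
theorem c_rel_57 : allRange D.relOK 340577 2592 = true := by decide +kernel
theorem c_rel_58 : allRange D.relOK 343169 2696 = true := by decide +kernel

end Cfsg.Agent.Lib.Helper4.TCD.ON1
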