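import Cfsg.Agent.Lib.Helper4.TCD_ONJ1_Acc
import Cfsg.Agent.Lib.Helper4.TCD_ON1_Acc

namespace Cfsg.Agent.Lib.Helper4.TCD.ONJ1K

open Cfsg.Agent.Lib.Helper4.TC

set_option maxRecDepth 100000
set_option Elab.async false

def w0 : List Nat := [2]
noncomputable def actW0 (i : Nat) : Nat := Cfsg.Agent.Lib.Helper4.TCD.ON1.col2 (i)
theorem actW0_eq (i : Nat) : actW0 i = Tab.act Cfsg.Agent.Lib.Helper4.TCD.ON1.T Cfsg.Agent.Lib.Helper4.TCD.ON1.D w0 i := rfl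
def w1 : List Nat := [2]
noncomputable def actW1 (i : Nat) : Nat := Cfsg.Agent.Lib.Helper4.TCD.ON1.col2 (i)
theorem actW1_eq (i : Nat) : actW1 i = Tab.act Cfsg.Agent.Lib.Helper4.TCD.ON1.T Cfsg.Agent.Lib.Helper4.TCD.ON1.D w1 i := rfl
def w2 : List Nat := [2, 6, 5, 4, 5, 7, 6, 5, 4, 5, 3, 4, 5, 4, 3, 6, 5, 4, 3, 7, 6, 5, 1, 3, 4, 5, 4, 6, 5, 0, 4, 3, 6, 1, 4, 5, 0]
noncomputable def actW2 (i : Nat) : Nat := Cfsg.Agent.Lib.Helper4.TCD.ON1.col2 (Cfsg.Agent.Lib.Helper4.TCD.ON1.col6 (Cfsg.Agent.Lib.Helper4.TCD.ON1.col5 (Cfsg.Agent.Lib.Helper4.TCD.ON1.col4 (Cfsg.Agent.Lib.Helper4.TCD.ON1.col5 (Cfsg.Agent.Lib.Helper4.TCD.ON1.col7 (Cfsg.Agent.Lib.Helper4.TCD.ON1.col6 (Cfsg.Agent.Lib.Helper4.TCD.ON1.col5 (Cfsg.Agent.Lib.Helper4.TCD.ON1.col4 (Cfsg.Agent.Lib.Helper4.TCD.ON1.col5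 (Cfsg.Agent.Lib.Helper4.TCD.ON1.col3 (Cfsg.Agent.Lib.Helper4.TCD.ON1.col4 (Cfsg.Agent.Lib.Helper4.TCD.ON1.col5 (Cfsg.Agent.Lib.Helper4.TCD.ON1.col4 (Cfsg.Agent.Lib.Helper4.TCD.ON1.col3 (Cfsg.Agent.Lib.Helper4.TCD.ON1.col6 (Cfsg.Agent.Lib.Helper4.TCD.ON1.col5 (Cfsg.Agent.Lib.Helper4.TCD.ON1.col4 (Cfsg.Agent.Lib.Helper4.TCD.ON1.col3 (Cfsg.Agent.Lib.Helper4.TCD.ON1.col7 (Cfsg.Agent.Lib.Helper4.TCD.ON1.col6 (Cfsg.Agent.Lib.Helper4.TCD.ON1.col5 (Cfsg.Agent.Lib.Helper4.TCD.ON1.col0 (Cfsg.Agent.Lib.Helper4.TCD.ON1.col3 (Cfsg.Agent.Lib.Helper4.TCD.ON1.col4 (Cfsg.Agent.Lib.Helper4.TCD.ON1.col5 (Cfsg.Agent.Lib.Helper4.TCD.ON1.col4 (Cfsg.Agent.Lib.Helper4.TCD.ON1.col6 (Cfsg.Agent.Lib.Helper4.TCD.ON1.col5 (Cfsg.Agent.Lib.Helper4.TCD.ON1.col1 (Cfsg.Agent.Lib.Helper4.TCD.ON1.col4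 (Cfsg.Agent.Lib.Helper4.TCD.ON1.col3 (Cfsg.Agent.Lib.Helper4.TCD.ON1.col6 (Cfsg.Agent.Lib.Helper4.TCD.ON1.col0 (Cfsg.Agent.Lib.Helper4.TCD.ON1.col4 (Cfsg.Agent.Lib.Helper4.TCD.ON1.col5 (Cfsg.Agent.Lib.Helper4.TCD.ON1.col1 (i)))))))))))))))))))))))))))))))))))))
theorem actW2_eq (i : Nat) : actW2 i = Tab.act Cfsg.Agent.Lib.Helper4.TCD.ON1.T Cfsg.Agent.Lib.Helper4.TCD.ON1.D w2 i := rfl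
def w3 : List Nat := [1, 5, 4, 0, 6, 3, 4, 1, 5, 6, 4, 5, 4, 3, 0, 5, 6, 7, 3, 4, 5, 6, 3, 4, 5, 4, 3, 5, 4, 5, 6, 7, 5, 4, 5, 6, 2]
noncomputable def actW3 (i : Nat) : Nat := Cfsg.Agent.Lib.Helper4.TCD.ON1.col0 (Cfsg.Agent.Lib.Helper4.TCD.ON1.col5 (Cfsg.Agent.Lib.Helper4.TCD.ON1.col4 (Cfsg.Agent.Lib.Helper4.TCD.ON1.col1 (Cfsg.Agent.Lib.Helper4.TCD.ON1.col6 (Cfsg.Agent.Lib.Helper4.TCD.ON1.col3 (Cfsg.Agent.Lib.Helper4.TCD.ON1.col4 (Cfsg.Agent.Lib.Helper4.TCD.ON1.col0 (Cfsg.Agent.Lib.Helper4.TCD.ON1.col5 (Cfsg.Agent.Lib.Helper4.TCD.ON1.col6 (Cfsg.Agent.Lib.Helper4.TCD.ON1.col4 (Cfsg.Agent.Lib.Helper4.TCD.ON1.col5 (Cfsg.Agent.Lib.Helper4.TCD.ON1.col4 (Cfsg.Agent.Lib.Helper4.TCD.ON1.col3 (Cfsg.Agent.Lib.Helper4.TCD.ON1.col1 (Cfsg.Agent.Lib.Helper4.TCD.ON1.col5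 (Cfsg.Agent.Lib.Helper4.TCD.ON1.col6 (Cfsg.Agent.Lib.Helper4.TCD.ON1.col7 (Cfsg.Agent.Lib.Helper4.TCD.ON1.col3 (Cfsg.Agent.Lib.Helper4.TCD.ON1.col4 (Cfsg.Agent.Lib.Helper4.TCD.ON1.col5 (Cfsg.Agent.Lib.Helper4.TCD.ON1.col6 (Cfsg.Agent.Lib.Helper4.TCD.ON1.col3 (Cfsg.Agent.Lib.Helper4.TCD.ON1.col4 (Cfsg.Agent.Lib.Helper4.TCD.ON1.col5 (Cfsg.Agent.Lib.Helper4.TCD.ON1.col4 (Cfsg.Agent.Lib.Helper4.TCD.ON1.col3 (Cfsg.Agent.Lib.Helper4.TCD.ON1.col5 (Cfsg.Agent.Lib.Helper4.TCD.ON1.col4 (Cfsg.Agent.Lib.Helper4.TCD.ON1.col5 (Cfsg.Agent.Lib.Helper4.TCD.ON1.col6 (Cfsg.Agent.Lib.Helper4.TCD.ON1.col7 (Cfsg.Agent.Lib.Helper4.TCD.ON1.col5 (Cfsg.Agent.Lib.Helper4.TCD.ON1.col4 (Cfsg.Agent.Lib.Helper4.TCD.ON1.col5 (Cfsg.Agent.Lib.Helper4.TCD.ON1.col6 (Cfsg.Agent.Lib.Helper4.TCD.ON1.col2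 (i)))))))))))))))))))))))))))))))))))))
theorem actW3_eq (i : Nat) : actW3 i = Tab.act Cfsg.Agent.Lib.Helper4.TCD.ON1.T Cfsg.Agent.Lib.Helper4.TCD.ON1.D w3 i := rfl

end Cfsg.Agent.Lib.Helper4.TCD.ONJ1K
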