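import Cfsg.Agent.Lib.Helper4.TCD_ONJ1K_Acc

namespace Cfsg.Agent.Lib.Helper4.TCD.ONJ1K

open Cfsg.Agent.Lib.Helper4.TC

set_option maxRecDepth 100000
set_option Elab.async false

theorem c_k0_0 : allRange (fun i => Nat.beq (Cfsg.Agent.Lib.Helper4.TCD.ONJ1.col0 i) (actW0 i)) 0 20000 = true := by decide +kernel
theorem c_k0_1 : allRange (fun i => Nat.beq (Cfsg.Agent.Lib.Helper4.TCD.ONJ1.col0 i) (actW0 i)) 20000 20000 = true := by decide +kernel
theorem c_k0_2 : allRange (fun i => Nat.beq (Cfsg.Agent.Lib.Helper4.TCD.ONJ1.col0 i) (actW0 i)) 40000 20000 = true := by decide +kernel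
theorem c_k0_3 : allRange (fun i => Nat.beq (Cfsg.Agent.Lib.Helper4.TCD.ONJ1.col0 i) (actW0 i)) 60000 20000 = true := by decide +kernel
theorem c_k0_4 : allRange (fun i => Nat.beq (Cfsg.Agent.Lib.Helper4.TCD.ONJ1.col0 i) (actW0 i)) 80000 20000 = true := by decide +kernel
theorem c_k0_5 : allRange (fun i => Nat.beq (Cfsg.Agent.Lib.Helper4.TCD.ONJ1.col0 i) (actW0 i)) 100000 20000 = true := by decide +kernel
theorem c_k0_6 : allRange (fun i => Nat.beq (Cfsg.Agent.Lib.Helper4.TCD.ONJ1.col0 i) (actW0 i)) 120000 2760 = true := by decide +kernel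
theorem c_k1_0 : allRange (fun i => Nat.beq (Cfsg.Agent.Lib.Helper4.TCD.ONJ1.col1 i) (actW1 i)) 0 20000 = true := by decide +kernel
theorem c_k1_1 : allRange (fun i => Nat.beq (Cfsg.Agent.Lib.Helper4.TCD.ONJ1.col1 i) (actW1 i)) 20000 20000 = true := by decide +kernel
theorem c_k1_2 : allRange (fun i => Nat.beq (Cfsg.Agent.Lib.Helper4.TCD.ONJ1.col1 i) (actW1 i)) 40000 20000 = true := by decide +kernel
theorem c_k1_3 : allRange (fun i => Nat.beq (Cfsg.Agent.Lib.Helper4.TCD.ONJ1.col1 i) (actW1 i)) 60000 20000 = true := by decide +kernel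
theorem c_k1_4 : allRange (fun i => Nat.beq (Cfsg.Agent.Lib.Helper4.TCD.ONJ1.col1 i) (actW1 i)) 80000 20000 = true := by decide +kernel
theorem c_k1_5 : allRange (fun i => Nat.beq (Cfsg.Agent.Lib.Helper4.TCD.ONJ1.col1 i) (actW1 i)) 100000 20000 = true := by decide +kernel
theorem c_k1_6 : allRange (fun i => Nat.beq (Cfsg.Agent.Lib.Helper4.TCD.ONJ1.col1 i) (actW1 i)) 120000 2760 = true := by decide +kernel
theorem c_k2_0 : allRange (fun i => Nat.beq (Cfsg.Agent.Lib.Helper4.TCD.ONJ1.col2 i) (actW2 i)) 0 1538 = true := by decide +kernel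
theorem c_k2_1 : allRange (fun i => Nat.beq (Cfsg.Agent.Lib.Helper4.TCD.ONJ1.col2 i) (actW2 i)) 1538 1538 = true := by decide +kernel
theorem c_k2_2 : allRange (fun i => Nat.beq (Cfsg.Agent.Lib.Helper4.TCD.ONJ1.col2 i) (actW2 i)) 3076 1538 = true := by decide +kernel
theorem c_k2_3 : allRange (fun i => Nat.beq (Cfsg.Agent.Lib.Helper4.TCD.ONJ1.col2 i) (actW2 i)) 4614 1538 = true := by decide +kernel
theorem c_k2_4 : allRange (fun i => Nat.beq (Cfsg.Agent.Lib.Helper4.TCD.ONJ1.col2 i) (actW2 i)) 6152 1538 = true := by decide +kernel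
theorem c_k2_5 : allRange (fun i => Nat.beq (Cfsg.Agent.Lib.Helper4.TCD.ONJ1.col2 i) (actW2 i)) 7690 1538 = true := by decide +kernel
theorem c_k2_6 : allRange (fun i => Nat.beq (Cfsg.Agent.Lib.Helper4.TCD.ONJ1.col2 i) (actW2 i)) 9228 1538 = true := by decide +kernel
theorem c_k2_7 : allRange (fun i => Nat.beq (Cfsg.Agent.Lib.Helper4.TCD.ONJ1.col2 i) (actW2 i)) 10766 1538 = true := by decide +kernel
theorem c_k2_8 : allRange (fun i => Nat.beq (Cfsg.Agent.Lib.Helper4.TCD.ONJ1.col2 i) (actW2 i)) 12304 1538 = true := by decide +kernel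
theorem c_k2_9 : allRange (fun i => Nat.beq (Cfsg.Agent.Lib.Helper4.TCD.ONJ1.col2 i) (actW2 i)) 13842 1538 = true := by decide +kernel
theorem c_k2_10 : allRange (fun i => Nat.beq (Cfsg.Agent.Lib.Helper4.TCD.ONJ1.col2 i) (actW2 i)) 15380 1538 = true := by decide +kernel
theorem c_k2_11 : allRange (fun i => Nat.beq (Cfsg.Agent.Lib.Helper4.TCD.ONJ1.col2 i) (actW2 i)) 16918 1538 = true := by decide +kernel
theorem c_k2_12 : allRange (fun i => Nat.beq (Cfsg.Agent.Lib.Helper4.TCD.ONJ1.col2 i) (actW2 i)) 18456 1538 = true := by decide +kernel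
theorem c_k2_13 : allRange (fun i => Nat.beq (Cfsg.Agent.Lib.Helper4.TCD.ONJ1.col2 i) (actW2 i)) 19994 1538 = true := by decide +kernel
theorem c_k2_14 : allRange (fun i => Nat.beq (Cfsg.Agent.Lib.Helper4.TCD.ONJ1.col2 i) (actW2 i)) 21532 1538 = true := by decide +kernel
theorem c_k2_15 : allRange (fun i => Nat.beq (Cfsg.Agent.Lib.Helper4.TCD.ONJ1.col2 i) (actW2 i)) 23070 1538 = true := by decide +kernel
theorem c_k2_16 : allRange (fun i => Nat.beq (Cfsg.Agent.Lib.Helper4.TCD.ONJ1.col2 i) (actW2 i)) 24608 1538 = true := by decide +kernel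
theorem c_k2_17 : allRange (fun i => Nat.beq (Cfsg.Agent.Lib.Helper4.TCD.ONJ1.col2 i) (actW2 i)) 26146 1538 = true := by decide +kernel
theorem c_k2_18 : allRange (fun i => Nat.beq (Cfsg.Agent.Lib.Helper4.TCD.ONJ1.col2 i) (actW2 i)) 27684 1538 = true := by decide +kernel
theorem c_k2_19 : allRange (fun i => Nat.beq (Cfsg.Agent.Lib.Helper4.TCD.ONJ1.col2 i) (actW2 i)) 29222 1538 = true := by decide +kernel
theorem c_k2_20 : allRange (fun i => Nat.beq (Cfsg.Agent.Lib.Helper4.TCD.ONJ1.col2 i) (actW2 i)) 30760 1538 = true := by decide +kernel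
theorem c_k2_21 : allRange (fun i => Nat.beq (Cfsg.Agent.Lib.Helper4.TCD.ONJ1.col2 i) (actW2 i)) 32298 1538 = true := by decide +kernel
theorem c_k2_22 : allRange (fun i => Nat.beq (Cfsg.Agent.Lib.Helper4.TCD.ONJ1.col2 i) (actW2 i)) 33836 1538 = true := by decide +kernel
theorem c_k2_23 : allRange (fun i => Nat.beq (Cfsg.Agent.Lib.Helper4.TCD.ONJ1.col2 i) (actW2 i)) 35374 1538 = true := by decide +kernel
theorem c_k2_24 : allRange (fun i => Nat.beq (Cfsg.Agent.Lib.Helper4.TCD.ONJ1.col2 i) (actW2 i)) 36912 1538 = true := by decide +kernel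
theorem c_k2_25 : allRange (fun i => Nat.beq (Cfsg.Agent.Lib.Helper4.TCD.ONJ1.col2 i) (actW2 i)) 38450 1538 = true := by decide +kernel
theorem c_k2_26 : allRange (fun i => Nat.beq (Cfsg.Agent.Lib.Helper4.TCD.ONJ1.col2 i) (actW2 i)) 39988 1538 = true := by decide +kernel
theorem c_k2_27 : allRange (fun i => Nat.beq (Cfsg.Agent.Lib.Helper4.TCD.ONJ1.col2 i) (actW2 i)) 41526 1538 = true := by decide +kernel
theorem c_k2_28 : allRange (fun i => Nat.beq (Cfsg.Agent.Lib.Helper4.TCD.ONJ1.col2 i) (actW2 i)) 43064 1538 = true := by decide +kernel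
theorem c_k2_29 : allRange (fun i => Nat.beq (Cfsg.Agent.Lib.Helper4.TCD.ONJ1.col2 i) (actW2 i)) 44602 1538 = true := by decide +kernel
theorem c_k2_30 : allRange (fun i => Nat.beq (Cfsg.Agent.Lib.Helper4.TCD.ONJ1.col2 i) (actW2 i)) 46140 1538 = true := by decide +kernel
theorem c_k2_31 : allRange (fun i => Nat.beq (Cfsg.Agent.Lib.Helper4.TCD.ONJ1.col2 i) (actW2 i)) 47678 1538 = true := by decide +kernel
theorem c_k2_32 : allRange (fun i => Nat.beq (Cfsg.Agent.Lib.Helper4.TCD.ONJ1.col2 i) (actW2 i)) 49216 1538 = true := by decide +kernel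
theorem c_k2_33 : allRange (fun i => Nat.beq (Cfsg.Agent.Lib.Helper4.TCD.ONJ1.col2 i) (actW2 i)) 50754 1538 = true := by decide +kernel
theorem c_k2_34 : allRange (fun i => Nat.beq (Cfsg.Agent.Lib.Helper4.TCD.ONJ1.col2 i) (actW2 i)) 52292 1538 = true := by decide +kernel
theorem c_k2_35 : allRange (fun i => Nat.beq (Cfsg.Agent.Lib.Helper4.TCD.ONJ1.col2 i) (actW2 i)) 53830 1538 = true := by decide +kernel
theorem c_k2_36 : allRange (fun i => Nat.beq (Cfsg.Agent.Lib.Helper4.TCD.ONJ1.col2 i) (actW2 i)) 55368 1538 = true := by decide +kernel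

end Cfsg.Agent.Lib.Helper4.TCD.ONJ1K
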