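import Cfsg.Agent.Lib.Helper4.TC14
import Cfsg.Agent.Lib.Helper4.TCP_J1p
import Cfsg.Agent.Lib.Helper4.TCD_ONJ1_D0
import Cfsg.Agent.Lib.Helper4.TCD_ONJ1_D1

namespace Cfsg.Agent.Lib.Helper4.TCD.ONJ1

open Cfsg.Agent.Lib.Helper4.TC

set_option maxRecDepth 100000

noncomputable def col0_s_1_3 (c : Nat) : Nat := @Bool.rec (fun _ => Nat) (col0_1) (col0_2) (Nat.ble 2 c)
noncomputable def col0_s_0_3 (c : Nat) : Nat := @Bool.rec (fun _ => Nat) (col0_0) (col0_s_1_3 c) (Nat.ble 1 c)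
noncomputable def col0_s_3_5 (c : Nat) : Nat := @Bool.rec (fun _ => Nat) (col0_3) (col0_4) (Nat.ble 4 c)
noncomputable def col0_s_5_7 (c : Nat) : Nat := @Bool.rec (fun _ => Nat) (col0_5) (col0_6) (Nat.ble 6 c)
noncomputable def col0_s_3_7 (c : Nat) : Nat := @Bool.rec (fun _ => Nat) (col0_s_3_5 c) (col0_s_5_7 c) (Nat.ble 5 c)
noncomputable def col0_s_0_7 (c : Nat) : Nat := @Bool.rec (fun _ => Nat) (col0_s_0_3 c) (col0_s_3_7 c) (Nat.ble 3 c)
noncomputable def col0_s_7_9 (c : Nat) : Nat := @Bool.rec (fun _ => Nat) (col0_7) (col0_8) (Nat.ble 8 c)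
noncomputable def col0_s_9_11 (c : Nat) : Nat := @Bool.rec (fun _ => Nat) (col0_9) (col0_10) (Nat.ble 10 c)
noncomputable def col0_s_7_11 (c : Nat) : Nat := @Bool.rec (fun _ => Nat) (col0_s_7_9 c) (col0_s_9_11 c) (Nat.ble 9 c)
noncomputable def col0_s_11_13 (c : Nat) : Nat := @Bool.rec (fun _ => Nat) (col0_11) (col0_12) (Nat.ble 12 c)
noncomputable def col0_s_13_15 (c : Nat) : Nat := @Bool.rec (fun _ => Nat) (col0_13) (col0_14) (Nat.ble 14 c)
noncomputable def col0_s_11_15 (c : Nat) : Nat := @Bool.rec (fun _ => Nat) (col0_s_11_13 c) (col0_s_13_15 c) (Nat.ble 13 c)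
noncomputable def col0_s_7_15 (c : Nat) : Nat := @Bool.rec (fun _ => Nat) (col0_s_7_11 c) (col0_s_11_15 c) (Nat.ble 11 c)
noncomputable def col0_s_0_15 (c : Nat) : Nat := @Bool.rec (fun _ => Nat) (col0_s_0_7 c) (col0_s_7_15 c) (Nat.ble 7 c)
noncomputable def col0_s_16_18 (c : Nat) : Nat := @Bool.rec (fun _ => Nat) (col0_16) (col0_17) (Nat.ble 17 c)
noncomputable def col0_s_15_18 (c : Nat) : Nat := @Bool.rec (fun _ => Nat) (col0_15) (col0_s_16_18 c) (Nat.ble 16 c)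
noncomputable def col0_s_18_20 (c : Nat) : Nat := @Bool.rec (fun _ => Nat) (col0_18) (col0_19) (Nat.ble 19 c)
noncomputable def col0_s_20_22 (c : Nat) : Nat := @Bool.rec (fun _ => Nat) (col0_20) (col0_21) (Nat.ble 21 c)
noncomputable def col0_s_18_22 (c : Nat) : Nat := @Bool.rec (fun _ => Nat) (col0_s_18_20 c) (col0_s_20_22 c) (Nat.ble 20 c)
noncomputable def col0_s_15_22 (c : Nat) : Nat := @Bool.rec (fun _ => Nat) (col0_s_15_18 c) (col0_s_18_22 c) (Nat.ble 18 c)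
noncomputable def col0_s_22_24 (c : Nat) : Nat := @Bool.rec (fun _ => Nat) (col0_22) (col0_23) (Nat.ble 23 c)
noncomputable def col0_s_24_26 (c : Nat) : Nat := @Bool.rec (fun _ => Nat) (col0_24) (col0_25) (Nat.ble 25 c)
noncomputable def col0_s_22_26 (c : Nat) : Nat := @Bool.rec (fun _ => Nat) (col0_s_22_24 c) (col0_s_24_26 c) (Nat.ble 24 c)
noncomputable def col0_s_26_28 (c : Nat) : Nat := @Bool.rec (fun _ => Nat) (col0_26) (col0_27) (Nat.ble 27 c)
noncomputable def col0_s_28_30 (c : Nat) : Nat := @Bool.rec (fun _ => Nat) (col0_28) (col0_29) (Nat.ble 29 c)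
noncomputable def col0_s_26_30 (c : Nat) : Nat := @Bool.rec (fun _ => Nat) (col0_s_26_28 c) (col0_s_28_30 c) (Nat.ble 28 c)
noncomputable def col0_s_22_30 (c : Nat) : Nat := @Bool.rec (fun _ => Nat) (col0_s_22_26 c) (col0_s_26_30 c) (Nat.ble 26 c)
noncomputable def col0_s_15_30 (c : Nat) : Nat := @Bool.rec (fun _ => Nat) (col0_s_15_22 c) (col0_s_22_30 c) (Nat.ble 22 c)
noncomputable def col0_s_0_30 (c : Nat) : Nat := @Bool.rec (fun _ => Nat) (col0_s_0_15 c) (col0_s_15_30 c) (Nat.ble 15 c)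
noncomputable def col0 (i : Nat) : Nat := rdw 17 131071 (col0_s_0_30 (Nat.shiftRight i 12)) (Nat.land i 4095)
noncomputable def col1_s_1_3 (c : Nat) : Nat := @Bool.rec (fun _ => Nat) (col1_1) (col1_2) (Nat.ble 2 c)
noncomputable def col1_s_0_3 (c : Nat) : Nat := @Bool.rec (fun _ => Nat) (col1_0) (col1_s_1_3 c) (Nat.ble 1 c)
noncomputable def col1_s_3_5 (c : Nat) : Nat := @Bool.rec (fun _ => Nat) (col1_3) (col1_4) (Nat.ble 4 c)
noncomputable def col1_s_5_7 (c : Nat) : Nat := @Bool.rec (fun _ => Nat) (col1_5) (col1_6) (Nat.ble 6 c)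
noncomputable def col1_s_3_7 (c : Nat) : Nat := @Bool.rec (fun _ => Nat) (col1_s_3_5 c) (col1_s_5_7 c) (Nat.ble 5 c)
noncomputable def col1_s_0_7 (c : Nat) : Nat := @Bool.rec (fun _ => Nat) (col1_s_0_3 c) (col1_s_3_7 c) (Nat.ble 3 c)
noncomputable def col1_s_7_9 (c : Nat) : Nat := @Bool.rec (fun _ => Nat) (col1_7) (col1_8) (Nat.ble 8 c)
noncomputable def col1_s_9_11 (c : Nat) : Nat := @Bool.rec (fun _ => Nat) (col1_9) (col1_10) (Nat.ble 10 c)
noncomputable def col1_s_7_11 (c : Nat) : Nat := @Bool.rec (fun _ => Nat) (col1_s_7_9 c) (col1_s_9_11 c) (Nat.ble 9 c)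
noncomputable def col1_s_11_13 (c : Nat) : Nat := @Bool.rec (fun _ => Nat) (col1_11) (col1_12) (Nat.ble 12 c)
noncomputable def col1_s_13_15 (c : Nat) : Nat := @Bool.rec (fun _ => Nat) (col1_13) (col1_14) (Nat.ble 14 c)
noncomputable def col1_s_11_15 (c : Nat) : Nat := @Bool.rec (fun _ => Nat) (col1_s_11_13 c) (col1_s_13_15 c) (Nat.ble 13 c)
noncomputable def col1_s_7_15 (c : Nat) : Nat := @Bool.rec (fun _ => Nat) (col1_s_7_11 c) (col1_s_11_15 c) (Nat.ble 11 c)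
noncomputable def col1_s_0_15 (c : Nat) : Nat := @Bool.rec (fun _ => Nat) (col1_s_0_7 c) (col1_s_7_15 c) (Nat.ble 7 c)
noncomputable def col1_s_16_18 (c : Nat) : Nat := @Bool.rec (fun _ => Nat) (col1_16) (col1_17) (Nat.ble 17 c)
noncomputable def col1_s_15_18 (c : Nat) : Nat := @Bool.rec (fun _ => Nat) (col1_15) (col1_s_16_18 c) (Nat.ble 16 c)
noncomputable def col1_s_18_20 (c : Nat) : Nat := @Bool.rec (fun _ => Nat) (col1_18) (col1_19) (Nat.ble 19 c)
noncomputable def col1_s_20_22 (c : Nat) : Nat := @Bool.rec (fun _ => Nat) (col1_20) (col1_21) (Nat.ble 21 c)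
noncomputable def col1_s_18_22 (c : Nat) : Nat := @Bool.rec (fun _ => Nat) (col1_s_18_20 c) (col1_s_20_22 c) (Nat.ble 20 c)
noncomputable def col1_s_15_22 (c : Nat) : Nat := @Bool.rec (fun _ => Nat) (col1_s_15_18 c) (col1_s_18_22 c) (Nat.ble 18 c)
noncomputable def col1_s_22_24 (c : Nat) : Nat := @Bool.rec (fun _ => Nat) (col1_22) (col1_23) (Nat.ble 23 c)
noncomputable def col1_s_24_26 (c : Nat) : Nat := @Bool.rec (fun _ => Nat) (col1_24) (col1_25) (Nat.ble 25 c)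
noncomputable def col1_s_22_26 (c : Nat) : Nat := @Bool.rec (fun _ => Nat) (col1_s_22_24 c) (col1_s_24_26 c) (Nat.ble 24 c)
noncomputable def col1_s_26_28 (c : Nat) : Nat := @Bool.rec (fun _ => Nat) (col1_26) (col1_27) (Nat.ble 27 c)
noncomputable def col1_s_28_30 (c : Nat) : Nat := @Bool.rec (fun _ => Nat) (col1_28) (col1_29) (Nat.ble 29 c)
noncomputable def col1_s_26_30 (c : Nat) : Nat := @Bool.rec (fun _ => Nat) (col1_s_26_28 c) (col1_s_28_30 c) (Nat.ble 28 c)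
noncomputable def col1_s_22_30 (c : Nat) : Nat := @Bool.rec (fun _ => Nat) (col1_s_22_26 c) (col1_s_26_30 c) (Nat.ble 26 c)
noncomputable def col1_s_15_30 (c : Nat) : Nat := @Bool.rec (fun _ => Nat) (col1_s_15_22 c) (col1_s_22_30 c) (Nat.ble 22 c)
noncomputable def col1_s_0_30 (c : Nat) : Nat := @Bool.rec (fun _ => Nat) (col1_s_0_15 c) (col1_s_15_30 c) (Nat.ble 15 c)
noncomputable def col1 (i : Nat) : Nat := rdw 17 131071 (col1_s_0_30 (Nat.shiftRight i 12)) (Nat.land i 4095)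
noncomputable def col2_s_1_3 (c : Nat) : Nat := @Bool.rec (fun _ => Nat) (col2_1) (col2_2) (Nat.ble 2 c)
noncomputable def col2_s_0_3 (c : Nat) : Nat := @Bool.rec (fun _ => Nat) (col2_0) (col2_s_1_3 c) (Nat.ble 1 c)
noncomputable def col2_s_3_5 (c : Nat) : Nat := @Bool.rec (fun _ => Nat) (col2_3) (col2_4) (Nat.ble 4 c)
noncomputable def col2_s_5_7 (c : Nat) : Nat := @Bool.rec (fun _ => Nat) (col2_5) (col2_6) (Nat.ble 6 c)
noncomputable def col2_s_3_7 (c : Nat) : Nat := @Bool.rec (fun _ => Nat) (col2_s_3_5 c) (col2_s_5_7 c) (Nat.ble 5 c)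
noncomputable def col2_s_0_7 (c : Nat) : Nat := @Bool.rec (fun _ => Nat) (col2_s_0_3 c) (col2_s_3_7 c) (Nat.ble 3 c)
noncomputable def col2_s_7_9 (c : Nat) : Nat := @Bool.rec (fun _ => Nat) (col2_7) (col2_8) (Nat.ble 8 c)
noncomputable def col2_s_9_11 (c : Nat) : Nat := @Bool.rec (fun _ => Nat) (col2_9) (col2_10) (Nat.ble 10 c)
noncomputable def col2_s_7_11 (c : Nat) : Nat := @Bool.rec (fun _ => Nat) (col2_s_7_9 c) (col2_s_9_11 c) (Nat.ble 9 c)
noncomputable def col2_s_11_13 (c : Nat) : Nat := @Bool.rec (fun _ => Nat) (col2_11) (col2_12) (Nat.ble 12 c)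
noncomputable def col2_s_13_15 (c : Nat) : Nat := @Bool.rec (fun _ => Nat) (col2_13) (col2_14) (Nat.ble 14 c)
noncomputable def col2_s_11_15 (c : Nat) : Nat := @Bool.rec (fun _ => Nat) (col2_s_11_13 c) (col2_s_13_15 c) (Nat.ble 13 c)
noncomputable def col2_s_7_15 (c : Nat) : Nat := @Bool.rec (fun _ => Nat) (col2_s_7_11 c) (col2_s_11_15 c) (Nat.ble 11 c)
noncomputable def col2_s_0_15 (c : Nat) : Nat := @Bool.rec (fun _ => Nat) (col2_s_0_7 c) (col2_s_7_15 c) (Nat.ble 7 c)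
noncomputable def col2_s_16_18 (c : Nat) : Nat := @Bool.rec (fun _ => Nat) (col2_16) (col2_17) (Nat.ble 17 c)
noncomputable def col2_s_15_18 (c : Nat) : Nat := @Bool.rec (fun _ => Nat) (col2_15) (col2_s_16_18 c) (Nat.ble 16 c)
noncomputable def col2_s_18_20 (c : Nat) : Nat := @Bool.rec (fun _ => Nat) (col2_18) (col2_19) (Nat.ble 19 c)
noncomputable def col2_s_20_22 (c : Nat) : Nat := @Bool.rec (fun _ => Nat) (col2_20) (col2_21) (Nat.ble 21 c)
noncomputable def col2_s_18_22 (c : Nat) : Nat := @Bool.rec (fun _ => Nat) (col2_s_18_20 c) (col2_s_20_22 c) (Nat.ble 20 c)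
noncomputable def col2_s_15_22 (c : Nat) : Nat := @Bool.rec (fun _ => Nat) (col2_s_15_18 c) (col2_s_18_22 c) (Nat.ble 18 c)
noncomputable def col2_s_22_24 (c : Nat) : Nat := @Bool.rec (fun _ => Nat) (col2_22) (col2_23) (Nat.ble 23 c)
noncomputable def col2_s_24_26 (c : Nat) : Nat := @Bool.rec (fun _ => Nat) (col2_24) (col2_25) (Nat.ble 25 c)
noncomputable def col2_s_22_26 (c : Nat) : Nat := @Bool.rec (fun _ => Nat) (col2_s_22_24 c) (col2_s_24_26 c) (Nat.ble 24 c)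
noncomputable def col2_s_26_28 (c : Nat) : Nat := @Bool.rec (fun _ => Nat) (col2_26) (col2_27) (Nat.ble 27 c)
noncomputable def col2_s_28_30 (c : Nat) : Nat := @Bool.rec (fun _ => Nat) (col2_28) (col2_29) (Nat.ble 29 c)
noncomputable def col2_s_26_30 (c : Nat) : Nat := @Bool.rec (fun _ => Nat) (col2_s_26_28 c) (col2_s_28_30 c) (Nat.ble 28 c)
noncomputable def col2_s_22_30 (c : Nat) : Nat := @Bool.rec (fun _ => Nat) (col2_s_22_26 c) (col2_s_26_30 c) (Nat.ble 26 c)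
noncomputable def col2_s_15_30 (c : Nat) : Nat := @Bool.rec (fun _ => Nat) (col2_s_15_22 c) (col2_s_22_30 c) (Nat.ble 22 c)
noncomputable def col2_s_0_30 (c : Nat) : Nat := @Bool.rec (fun _ => Nat) (col2_s_0_15 c) (col2_s_15_30 c) (Nat.ble 15 c)
noncomputable def col2 (i : Nat) : Nat := rdw 17 131071 (col2_s_0_30 (Nat.shiftRight i 12)) (Nat.land i 4095)
noncomputable def col3_s_1_3 (c : Nat) : Nat := @Bool.rec (fun _ => Nat) (col3_1) (col3_2) (Nat.ble 2 c)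
noncomputable def col3_s_0_3 (c : Nat) : Nat := @Bool.rec (fun _ => Nat) (col3_0) (col3_s_1_3 c) (Nat.ble 1 c)
noncomputable def col3_s_3_5 (c : Nat) : Nat := @Bool.rec (fun _ => Nat) (col3_3) (col3_4) (Nat.ble 4 c)
noncomputable def col3_s_5_7 (c : Nat) : Nat := @Bool.rec (fun _ => Nat) (col3_5) (col3_6) (Nat.ble 6 c)
noncomputable def col3_s_3_7 (c : Nat) : Nat := @Bool.rec (fun _ => Nat) (col3_s_3_5 c) (col3_s_5_7 c) (Nat.ble 5 c)
noncomputable def col3_s_0_7 (c : Nat) : Nat := @Bool.rec (fun _ => Nat) (col3_s_0_3 c) (col3_s_3_7 c) (Nat.ble 3 c)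
noncomputable def col3_s_7_9 (c : Nat) : Nat := @Bool.rec (fun _ => Nat) (col3_7) (col3_8) (Nat.ble 8 c)
noncomputable def col3_s_9_11 (c : Nat) : Nat := @Bool.rec (fun _ => Nat) (col3_9) (col3_10) (Nat.ble 10 c)
noncomputable def col3_s_7_11 (c : Nat) : Nat := @Bool.rec (fun _ => Nat) (col3_s_7_9 c) (col3_s_9_11 c) (Nat.ble 9 c)
noncomputable def col3_s_11_13 (c : Nat) : Nat := @Bool.rec (fun _ => Nat) (col3_11) (col3_12) (Nat.ble 12 c)
noncomputable def col3_s_13_15 (c : Nat) : Nat := @Bool.rec (fun _ => Nat) (col3_13) (col3_14) (Nat.ble 14 c)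
noncomputable def col3_s_11_15 (c : Nat) : Nat := @Bool.rec (fun _ => Nat) (col3_s_11_13 c) (col3_s_13_15 c) (Nat.ble 13 c)
noncomputable def col3_s_7_15 (c : Nat) : Nat := @Bool.rec (fun _ => Nat) (col3_s_7_11 c) (col3_s_11_15 c) (Nat.ble 11 c)
noncomputable def col3_s_0_15 (c : Nat) : Nat := @Bool.rec (fun _ => Nat) (col3_s_0_7 c) (col3_s_7_15 c) (Nat.ble 7 c)
noncomputable def col3_s_16_18 (c : Nat) : Nat := @Bool.rec (fun _ => Nat) (col3_16) (col3_17) (Nat.ble 17 c)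
noncomputable def col3_s_15_18 (c : Nat) : Nat := @Bool.rec (fun _ => Nat) (col3_15) (col3_s_16_18 c) (Nat.ble 16 c)
noncomputable def col3_s_18_20 (c : Nat) : Nat := @Bool.rec (fun _ => Nat) (col3_18) (col3_19) (Nat.ble 19 c)
noncomputable def col3_s_20_22 (c : Nat) : Nat := @Bool.rec (fun _ => Nat) (col3_20) (col3_21) (Nat.ble 21 c)
noncomputable def col3_s_18_22 (c : Nat) : Nat := @Bool.rec (fun _ => Nat) (col3_s_18_20 c) (col3_s_20_22 c) (Nat.ble 20 c)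
noncomputable def col3_s_15_22 (c : Nat) : Nat := @Bool.rec (fun _ => Nat) (col3_s_15_18 c) (col3_s_18_22 c) (Nat.ble 18 c)
noncomputable def col3_s_22_24 (c : Nat) : Nat := @Bool.rec (fun _ => Nat) (col3_22) (col3_23) (Nat.ble 23 c)
noncomputable def col3_s_24_26 (c : Nat) : Nat := @Bool.rec (fun _ => Nat) (col3_24) (col3_25) (Nat.ble 25 c)
noncomputable def col3_s_22_26 (c : Nat) : Nat := @Bool.rec (fun _ => Nat) (col3_s_22_24 c) (col3_s_24_26 c) (Nat.ble 24 c)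
noncomputable def col3_s_26_28 (c : Nat) : Nat := @Bool.rec (fun _ => Nat) (col3_26) (col3_27) (Nat.ble 27 c)
noncomputable def col3_s_28_30 (c : Nat) : Nat := @Bool.rec (fun _ => Nat) (col3_28) (col3_29) (Nat.ble 29 c)
noncomputable def col3_s_26_30 (c : Nat) : Nat := @Bool.rec (fun _ => Nat) (col3_s_26_28 c) (col3_s_28_30 c) (Nat.ble 28 c)
noncomputable def col3_s_22_30 (c : Nat) : Nat := @Bool.rec (fun _ => Nat) (col3_s_22_26 c) (col3_s_26_30 c) (Nat.ble 26 c)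
noncomputable def col3_s_15_30 (c : Nat) : Nat := @Bool.rec (fun _ => Nat) (col3_s_15_22 c) (col3_s_22_30 c) (Nat.ble 22 c)
noncomputable def col3_s_0_30 (c : Nat) : Nat := @Bool.rec (fun _ => Nat) (col3_s_0_15 c) (col3_s_15_30 c) (Nat.ble 15 c)
noncomputable def col3 (i : Nat) : Nat := rdw 17 131071 (col3_s_0_30 (Nat.shiftRight i 12)) (Nat.land i 4095)
noncomputable def tblF (i x : Nat) : Nat := @Bool.rec (fun _ => Nat) (@Bool.rec (fun _ => Nat) (col0 i) (col1 i) (Nat.ble 1 x)) (@Bool.rec (fun _ => Nat) (col2 i) (col3 i) (Nat.ble 3 x)) (Nat.ble 2 x)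

noncomputable def D : Log :=
  { k := 4, inv := PJ1p.invR, nR := 0, rBase := fun _ => 0, rLen := fun _ => 0, RR := fun _ => 0,
    M := 0, nB := 0, F := 0, src := fun _ => 0, lt := fun _ => 0, tgt := fun _ => 0, rho := fun _ => 0, rot := fun _ => 0,
    off := fun _ => 0, len := fun _ => 0, pf := fun _ => 0, pd := fun _ => 0 }

noncomputable def T : Tab :=
  { N := 122760, nameOf := fun _ => 0, tbl := tblF, finF := fun _ _ => 0, finD := fun _ _ => 0, cls := fun _ => 0 }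

def rw0 : List Nat := [0, 0]
def rw1 : List Nat := [2, 2, 2]
def rw2 : List Nat := [0, 2, 0, 2, 0, 2, 0, 2, 0, 2, 0, 2, 0, 2]
def rw3 : List Nat := [0, 2, 0, 2, 0, 3, 0, 2, 0, 3, 0, 2, 0, 3, 0, 2, 0, 2, 0, 3, 0, 2, 0, 3, 0, 2, 0, 3, 0, 2, 0, 2, 0, 3, 0, 2, 0, 3, 0, 2, 0, 3, 0, 2, 0, 2, 0, 3, 0, 2, 0, 3, 0, 2, 0, 3, 0, 2, 0, 2, 0, 3, 0, 2, 0, 3, 0, 2, 0, 3]
def rw4 : List Nat := [0, 2, 0, 2, 0, 3, 0, 2, 0, 3, 0, 2, 0, 3, 0, 2, 0, 3, 0, 2, 0, 3, 0, 2, 0, 3, 0, 2, 0, 2, 0, 3, 0, 3, 0, 2, 0, 2, 0, 3, 0, 2, 0, 3, 0, 2, 0, 3, 0, 2, 0, 3, 0, 2, 0, 3, 0, 2, 0, 3, 0, 2, 0, 2, 0, 3, 0, 3]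
def realLit : List (List Nat) := [rw0, rw1, rw2, rw3, rw4]
noncomputable def actR0 (i : Nat) : Nat := col1 (col1 (i))
theorem actR0_eq (i : Nat) : actR0 i = Tab.act T D rw0 i := rfl
noncomputable def actR1 (i : Nat) : Nat := col3 (col3 (col3 (i)))
theorem actR1_eq (i : Nat) : actR1 i = Tab.act T D rw1 i := rfl
noncomputable def actR2 (i : Nat) : Nat := col1 (col3 (col1 (col3 (col1 (col3 (col1 (col3 (col1 (col3 (col1 (col3 (col1 (col3 (i))))))))))))))
theorem actR2_eq (i : Nat) : actR2 i = Tab.act T D rw2 i := rfl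
noncomputable def actR3 (i : Nat) : Nat := col1 (col3 (col1 (col3 (col1 (col2 (col1 (col3 (col1 (col2 (col1 (col3 (col1 (col2 (col1 (col3 (col1 (col3 (col1 (col2 (col1 (col3 (col1 (col2 (col1 (col3 (col1 (col2 (col1 (col3 (col1 (col3 (col1 (col2 (col1 (col3 (col1 (col2 (col1 (col3 (col1 (col2 (col1 (col3 (col1 (col3 (col1 (col2 (col1 (col3 (col1 (col2 (col1 (col3 (col1 (col2 (col1 (col3 (col1 (col3 (col1 (col2 (col1 (col3 (col1 (col2 (col1 (col3 (col1 (col2 (i))))))))))))))))))))))))))))))))))))))))))))))))))))))))))))))))))))))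
theorem actR3_eq (i : Nat) : actR3 i = Tab.act T D rw3 i := rfl
noncomputable def actR4 (i : Nat) : Nat := col1 (col3 (col1 (col3 (col1 (col2 (col1 (col3 (col1 (col2 (col1 (col3 (col1 (col2 (col1 (col3 (col1 (col2 (col1 (col3 (col1 (col2 (col1 (col3 (col1 (col2 (col1 (col3 (col1 (col3 (col1 (col2 (col1 (col2 (col1 (col3 (col1 (col3 (col1 (col2 (col1 (col3 (col1 (col2 (col1 (col3 (col1 (col2 (col1 (col3 (col1 (col2 (col1 (col3 (col1 (col2 (col1 (col3 (col1 (col2 (col1 (col3 (col1 (col3 (col1 (col2 (col1 (col2 (i))))))))))))))))))))))))))))))))))))))))))))))))))))))))))))))))))))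
theorem actR4_eq (i : Nat) : actR4 i = Tab.act T D rw4 i := rfl

end Cfsg.Agent.Lib.Helper4.TCD.ONJ1
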