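import Cfsg.Agent.Lib.Helper4.TCD_ONJ1_Acc

namespace Cfsg.Agent.Lib.Helper4.TCD.ONJ1

open Cfsg.Agent.Lib.Helper4.TC

set_option maxRecDepth 100000
set_option Elab.async false

theorem c_let : allBelow D.letOK 4 = true := by decide +kernel
theorem c_real : PJ1p.P.real = realLit := by decide +kernel
theorem c_perm_0 : allGrid (T.permOK1 D) 0 7500 4 = true := by decide +kernel
theorem c_perm_1 : allGrid (T.permOK1 D) 7500 7500 4 = true := by decide +kernel
theorem c_perm_2 : allGrid (T.permOK1 D) 15000 7500 4 = true := by decide +kernel
theorem c_perm_3 : allGrid (T.permOK1 D) 22500 7500 4 = true := by decide +kernel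
theorem c_perm_4 : allGrid (T.permOK1 D) 30000 7500 4 = true := by decide +kernel
theorem c_perm_5 : allGrid (T.permOK1 D) 37500 7500 4 = true := by decide +kernel
theorem c_perm_6 : allGrid (T.permOK1 D) 45000 7500 4 = true := by decide +kernel
theorem c_perm_7 : allGrid (T.permOK1 D) 52500 7500 4 = true := by decide +kernel
theorem c_perm_8 : allGrid (T.permOK1 D) 60000 7500 4 = true := by decide +kernel
theorem c_perm_9 : allGrid (T.permOK1 D) 67500 7500 4 = true := by decide +kernel
theorem c_perm_10 : allGrid (T.permOK1 D) 75000 7500 4 = true := by decide +kernel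
theorem c_perm_11 : allGrid (T.permOK1 D) 82500 7500 4 = true := by decide +kernel
theorem c_perm_12 : allGrid (T.permOK1 D) 90000 7500 4 = true := by decide +kernel
theorem c_perm_13 : allGrid (T.permOK1 D) 97500 7500 4 = true := by decide +kernel
theorem c_perm_14 : allGrid (T.permOK1 D) 105000 7500 4 = true := by decide +kernel
theorem c_perm_15 : allGrid (T.permOK1 D) 112500 7500 4 = true := by decide +kernel
theorem c_perm_16 : allGrid (T.permOK1 D) 120000 2760 4 = true := by decide +kernel
theorem c_act0_0 : allRange (fun i => Nat.beq (actR0 i) i) 0 30000 = true := by decide +kernel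
theorem c_act0_1 : allRange (fun i => Nat.beq (actR0 i) i) 30000 30000 = true := by decide +kernel
theorem c_act0_2 : allRange (fun i => Nat.beq (actR0 i) i) 60000 30000 = true := by decide +kernel
theorem c_act0_3 : allRange (fun i => Nat.beq (actR0 i) i) 90000 30000 = true := by decide +kernel
theorem c_act0_4 : allRange (fun i => Nat.beq (actR0 i) i) 120000 2760 = true := by decide +kernel
theorem c_act1_0 : allRange (fun i => Nat.beq (actR1 i) i) 0 20000 = true := by decide +kernel
theorem c_act1_1 : allRange (fun i => Nat.beq (actR1 i) i) 20000 20000 = true := by decide +kernel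
theorem c_act1_2 : allRange (fun i => Nat.beq (actR1 i) i) 40000 20000 = true := by decide +kernel
theorem c_act1_3 : allRange (fun i => Nat.beq (actR1 i) i) 60000 20000 = true := by decide +kernel
theorem c_act1_4 : allRange (fun i => Nat.beq (actR1 i) i) 80000 20000 = true := by decide +kernel
theorem c_act1_5 : allRange (fun i => Nat.beq (actR1 i) i) 100000 20000 = true := by decide +kernel
theorem c_act1_6 : allRange (fun i => Nat.beq (actR1 i) i) 120000 2760 = true := by decide +kernel
theorem c_act2_0 : allRange (fun i => Nat.beq (actR2 i) i) 0 4285 = true := by decide +kernel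
theorem c_act2_1 : allRange (fun i => Nat.beq (actR2 i) i) 4285 4285 = true := by decide +kernel
theorem c_act2_2 : allRange (fun i => Nat.beq (actR2 i) i) 8570 4285 = true := by decide +kernel
theorem c_act2_3 : allRange (fun i => Nat.beq (actR2 i) i) 12855 4285 = true := by decide +kernel
theorem c_act2_4 : allRange (fun i => Nat.beq (actR2 i) i) 17140 4285 = true := by decide +kernel
theorem c_act2_5 : allRange (fun i => Nat.beq (actR2 i) i) 21425 4285 = true := by decide +kernel
theorem c_act2_6 : allRange (fun i => Nat.beq (actR2 i) i) 25710 4285 = true := by decide +kernel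
theorem c_act2_7 : allRange (fun i => Nat.beq (actR2 i) i) 29995 4285 = true := by decide +kernel
theorem c_act2_8 : allRange (fun i => Nat.beq (actR2 i) i) 34280 4285 = true := by decide +kernel
theorem c_act2_9 : allRange (fun i => Nat.beq (actR2 i) i) 38565 4285 = true := by decide +kernel
theorem c_act2_10 : allRange (fun i => Nat.beq (actR2 i) i) 42850 4285 = true := by decide +kernel
theorem c_act2_11 : allRange (fun i => Nat.beq (actR2 i) i) 47135 4285 = true := by decide +kernel
theorem c_act2_12 : allRange (fun i => Nat.beq (actR2 i) i) 51420 4285 = true := by decide +kernel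
theorem c_act2_13 : allRange (fun i => Nat.beq (actR2 i) i) 55705 4285 = true := by decide +kernel
theorem c_act2_14 : allRange (fun i => Nat.beq (actR2 i) i) 59990 4285 = true := by decide +kernel
theorem c_act2_15 : allRange (fun i => Nat.beq (actR2 i) i) 64275 4285 = true := by decide +kernel
theorem c_act2_16 : allRange (fun i => Nat.beq (actR2 i) i) 68560 4285 = true := by decide +kernel
theorem c_act2_17 : allRange (fun i => Nat.beq (actR2 i) i) 72845 4285 = true := by decide +kernel
theorem c_act2_18 : allRange (fun i => Nat.beq (actR2 i) i) 77130 4285 = true := by decide +kernel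
theorem c_act2_19 : allRange (fun i => Nat.beq (actR2 i) i) 81415 4285 = true := by decide +kernel
theorem c_act2_20 : allRange (fun i => Nat.beq (actR2 i) i) 85700 4285 = true := by decide +kernel
theorem c_act2_21 : allRange (fun i => Nat.beq (actR2 i) i) 89985 4285 = true := by decide +kernel
theorem c_act2_22 : allRange (fun i => Nat.beq (actR2 i) i) 94270 4285 = true := by decide +kernel

end Cfsg.Agent.Lib.Helper4.TCD.ONJ1
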