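import Cfsg.Agent.Lib.Helper4.TC11
import Cfsg.Agent.Lib.Helper4.TCD_ON1_Acc
import Cfsg.Agent.Lib.Helper4.TCD_ONL_D0

namespace Cfsg.Agent.Lib.Helper4.TCD.ONL

open Cfsg.Agent.Lib.Helper4.TC Cfsg.Agent.Lib.Helper4.TCD.ON1

set_option maxRecDepth 100000

noncomputable def levTab (i : Nat) : Nat := rdw 2 3 levTab_0 i
noncomputable def betaTab (i : Nat) : Nat := rdw 17 131071 betaTab_0 i
noncomputable def nodeTab_s_1_3 (c : Nat) : Nat := @Bool.rec (fun _ => Nat) (nodeTab_1) (nodeTab_2) (Nat.ble 2 c)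
noncomputable def nodeTab_s_0_3 (c : Nat) : Nat := @Bool.rec (fun _ => Nat) (nodeTab_0) (nodeTab_s_1_3 c) (Nat.ble 1 c)
noncomputable def nodeTab_s_3_5 (c : Nat) : Nat := @Bool.rec (fun _ => Nat) (nodeTab_3) (nodeTab_4) (Nat.ble 4 c)
noncomputable def nodeTab_s_5_7 (c : Nat) : Nat := @Bool.rec (fun _ => Nat) (nodeTab_5) (nodeTab_6) (Nat.ble 6 c)
noncomputable def nodeTab_s_3_7 (c : Nat) : Nat := @Bool.rec (fun _ => Nat) (nodeTab_s_3_5 c) (nodeTab_s_5_7 c) (Nat.ble 5 c)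
noncomputable def nodeTab_s_0_7 (c : Nat) : Nat := @Bool.rec (fun _ => Nat) (nodeTab_s_0_3 c) (nodeTab_s_3_7 c) (Nat.ble 3 c)
noncomputable def nodeTab_s_7_9 (c : Nat) : Nat := @Bool.rec (fun _ => Nat) (nodeTab_7) (nodeTab_8) (Nat.ble 8 c)
noncomputable def nodeTab_s_9_11 (c : Nat) : Nat := @Bool.rec (fun _ => Nat) (nodeTab_9) (nodeTab_10) (Nat.ble 10 c)
noncomputable def nodeTab_s_7_11 (c : Nat) : Nat := @Bool.rec (fun _ => Nat) (nodeTab_s_7_9 c) (nodeTab_s_9_11 c) (Nat.ble 9 c)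
noncomputable def nodeTab_s_11_13 (c : Nat) : Nat := @Bool.rec (fun _ => Nat) (nodeTab_11) (nodeTab_12) (Nat.ble 12 c)
noncomputable def nodeTab_s_13_15 (c : Nat) : Nat := @Bool.rec (fun _ => Nat) (nodeTab_13) (nodeTab_14) (Nat.ble 14 c)
noncomputable def nodeTab_s_11_15 (c : Nat) : Nat := @Bool.rec (fun _ => Nat) (nodeTab_s_11_13 c) (nodeTab_s_13_15 c) (Nat.ble 13 c)
noncomputable def nodeTab_s_7_15 (c : Nat) : Nat := @Bool.rec (fun _ => Nat) (nodeTab_s_7_11 c) (nodeTab_s_11_15 c) (Nat.ble 11 c)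
noncomputable def nodeTab_s_0_15 (c : Nat) : Nat := @Bool.rec (fun _ => Nat) (nodeTab_s_0_7 c) (nodeTab_s_7_15 c) (Nat.ble 7 c)
noncomputable def nodeTab_s_15_17 (c : Nat) : Nat := @Bool.rec (fun _ => Nat) (nodeTab_15) (nodeTab_16) (Nat.ble 16 c)
noncomputable def nodeTab_s_17_19 (c : Nat) : Nat := @Bool.rec (fun _ => Nat) (nodeTab_17) (nodeTab_18) (Nat.ble 18 c)
noncomputable def nodeTab_s_15_19 (c : Nat) : Nat := @Bool.rec (fun _ => Nat) (nodeTab_s_15_17 c) (nodeTab_s_17_19 c) (Nat.ble 17 c)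
noncomputable def nodeTab_s_19_21 (c : Nat) : Nat := @Bool.rec (fun _ => Nat) (nodeTab_19) (nodeTab_20) (Nat.ble 20 c)
noncomputable def nodeTab_s_21_23 (c : Nat) : Nat := @Bool.rec (fun _ => Nat) (nodeTab_21) (nodeTab_22) (Nat.ble 22 c)
noncomputable def nodeTab_s_19_23 (c : Nat) : Nat := @Bool.rec (fun _ => Nat) (nodeTab_s_19_21 c) (nodeTab_s_21_23 c) (Nat.ble 21 c)
noncomputable def nodeTab_s_15_23 (c : Nat) : Nat := @Bool.rec (fun _ => Nat) (nodeTab_s_15_19 c) (nodeTab_s_19_23 c) (Nat.ble 19 c)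
noncomputable def nodeTab_s_23_25 (c : Nat) : Nat := @Bool.rec (fun _ => Nat) (nodeTab_23) (nodeTab_24) (Nat.ble 24 c)
noncomputable def nodeTab_s_25_27 (c : Nat) : Nat := @Bool.rec (fun _ => Nat) (nodeTab_25) (nodeTab_26) (Nat.ble 26 c)
noncomputable def nodeTab_s_23_27 (c : Nat) : Nat := @Bool.rec (fun _ => Nat) (nodeTab_s_23_25 c) (nodeTab_s_25_27 c) (Nat.ble 25 c)
noncomputable def nodeTab_s_27_29 (c : Nat) : Nat := @Bool.rec (fun _ => Nat) (nodeTab_27) (nodeTab_28) (Nat.ble 28 c)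
noncomputable def nodeTab_s_29_31 (c : Nat) : Nat := @Bool.rec (fun _ => Nat) (nodeTab_29) (nodeTab_30) (Nat.ble 30 c)
noncomputable def nodeTab_s_27_31 (c : Nat) : Nat := @Bool.rec (fun _ => Nat) (nodeTab_s_27_29 c) (nodeTab_s_29_31 c) (Nat.ble 29 c)
noncomputable def nodeTab_s_23_31 (c : Nat) : Nat := @Bool.rec (fun _ => Nat) (nodeTab_s_23_27 c) (nodeTab_s_27_31 c) (Nat.ble 27 c)
noncomputable def nodeTab_s_15_31 (c : Nat) : Nat := @Bool.rec (fun _ => Nat) (nodeTab_s_15_23 c) (nodeTab_s_23_31 c) (Nat.ble 23 c)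
noncomputable def nodeTab_s_0_31 (c : Nat) : Nat := @Bool.rec (fun _ => Nat) (nodeTab_s_0_15 c) (nodeTab_s_15_31 c) (Nat.ble 15 c)
noncomputable def nodeTab_s_31_33 (c : Nat) : Nat := @Bool.rec (fun _ => Nat) (nodeTab_31) (nodeTab_32) (Nat.ble 32 c)
noncomputable def nodeTab_s_33_35 (c : Nat) : Nat := @Bool.rec (fun _ => Nat) (nodeTab_33) (nodeTab_34) (Nat.ble 34 c)
noncomputable def nodeTab_s_31_35 (c : Nat) : Nat := @Bool.rec (fun _ => Nat) (nodeTab_s_31_33 c) (nodeTab_s_33_35 c) (Nat.ble 33 c)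
noncomputable def nodeTab_s_35_37 (c : Nat) : Nat := @Bool.rec (fun _ => Nat) (nodeTab_35) (nodeTab_36) (Nat.ble 36 c)
noncomputable def nodeTab_s_37_39 (c : Nat) : Nat := @Bool.rec (fun _ => Nat) (nodeTab_37) (nodeTab_38) (Nat.ble 38 c)
noncomputable def nodeTab_s_35_39 (c : Nat) : Nat := @Bool.rec (fun _ => Nat) (nodeTab_s_35_37 c) (nodeTab_s_37_39 c) (Nat.ble 37 c)
noncomputable def nodeTab_s_31_39 (c : Nat) : Nat := @Bool.rec (fun _ => Nat) (nodeTab_s_31_35 c) (nodeTab_s_35_39 c) (Nat.ble 35 c)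
noncomputable def nodeTab_s_39_41 (c : Nat) : Nat := @Bool.rec (fun _ => Nat) (nodeTab_39) (nodeTab_40) (Nat.ble 40 c)
noncomputable def nodeTab_s_41_43 (c : Nat) : Nat := @Bool.rec (fun _ => Nat) (nodeTab_41) (nodeTab_42) (Nat.ble 42 c)
noncomputable def nodeTab_s_39_43 (c : Nat) : Nat := @Bool.rec (fun _ => Nat) (nodeTab_s_39_41 c) (nodeTab_s_41_43 c) (Nat.ble 41 c)
noncomputable def nodeTab_s_43_45 (c : Nat) : Nat := @Bool.rec (fun _ => Nat) (nodeTab_43) (nodeTab_44) (Nat.ble 44 c)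
noncomputable def nodeTab_s_45_47 (c : Nat) : Nat := @Bool.rec (fun _ => Nat) (nodeTab_45) (nodeTab_46) (Nat.ble 46 c)
noncomputable def nodeTab_s_43_47 (c : Nat) : Nat := @Bool.rec (fun _ => Nat) (nodeTab_s_43_45 c) (nodeTab_s_45_47 c) (Nat.ble 45 c)
noncomputable def nodeTab_s_39_47 (c : Nat) : Nat := @Bool.rec (fun _ => Nat) (nodeTab_s_39_43 c) (nodeTab_s_43_47 c) (Nat.ble 43 c)
noncomputable def nodeTab_s_31_47 (c : Nat) : Nat := @Bool.rec (fun _ => Nat) (nodeTab_s_31_39 c) (nodeTab_s_39_47 c) (Nat.ble 39 c)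
noncomputable def nodeTab_s_47_49 (c : Nat) : Nat := @Bool.rec (fun _ => Nat) (nodeTab_47) (nodeTab_48) (Nat.ble 48 c)
noncomputable def nodeTab_s_49_51 (c : Nat) : Nat := @Bool.rec (fun _ => Nat) (nodeTab_49) (nodeTab_50) (Nat.ble 50 c)
noncomputable def nodeTab_s_47_51 (c : Nat) : Nat := @Bool.rec (fun _ => Nat) (nodeTab_s_47_49 c) (nodeTab_s_49_51 c) (Nat.ble 49 c)
noncomputable def nodeTab_s_51_53 (c : Nat) : Nat := @Bool.rec (fun _ => Nat) (nodeTab_51) (nodeTab_52) (Nat.ble 52 c)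
noncomputable def nodeTab_s_53_55 (c : Nat) : Nat := @Bool.rec (fun _ => Nat) (nodeTab_53) (nodeTab_54) (Nat.ble 54 c)
noncomputable def nodeTab_s_51_55 (c : Nat) : Nat := @Bool.rec (fun _ => Nat) (nodeTab_s_51_53 c) (nodeTab_s_53_55 c) (Nat.ble 53 c)
noncomputable def nodeTab_s_47_55 (c : Nat) : Nat := @Bool.rec (fun _ => Nat) (nodeTab_s_47_51 c) (nodeTab_s_51_55 c) (Nat.ble 51 c)
noncomputable def nodeTab_s_55_57 (c : Nat) : Nat := @Bool.rec (fun _ => Nat) (nodeTab_55) (nodeTab_56) (Nat.ble 56 c)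
noncomputable def nodeTab_s_57_59 (c : Nat) : Nat := @Bool.rec (fun _ => Nat) (nodeTab_57) (nodeTab_58) (Nat.ble 58 c)
noncomputable def nodeTab_s_55_59 (c : Nat) : Nat := @Bool.rec (fun _ => Nat) (nodeTab_s_55_57 c) (nodeTab_s_57_59 c) (Nat.ble 57 c)
noncomputable def nodeTab_s_59_61 (c : Nat) : Nat := @Bool.rec (fun _ => Nat) (nodeTab_59) (nodeTab_60) (Nat.ble 60 c)
noncomputable def nodeTab_s_61_63 (c : Nat) : Nat := @Bool.rec (fun _ => Nat) (nodeTab_61) (nodeTab_62) (Nat.ble 62 c)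
noncomputable def nodeTab_s_59_63 (c : Nat) : Nat := @Bool.rec (fun _ => Nat) (nodeTab_s_59_61 c) (nodeTab_s_61_63 c) (Nat.ble 61 c)
noncomputable def nodeTab_s_55_63 (c : Nat) : Nat := @Bool.rec (fun _ => Nat) (nodeTab_s_55_59 c) (nodeTab_s_59_63 c) (Nat.ble 59 c)
noncomputable def nodeTab_s_47_63 (c : Nat) : Nat := @Bool.rec (fun _ => Nat) (nodeTab_s_47_55 c) (nodeTab_s_55_63 c) (Nat.ble 55 c)
noncomputable def nodeTab_s_31_63 (c : Nat) : Nat := @Bool.rec (fun _ => Nat) (nodeTab_s_31_47 c) (nodeTab_s_47_63 c) (Nat.ble 47 c)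
noncomputable def nodeTab_s_0_63 (c : Nat) : Nat := @Bool.rec (fun _ => Nat) (nodeTab_s_0_31 c) (nodeTab_s_31_63 c) (Nat.ble 31 c)
noncomputable def nodeTab (i : Nat) : Nat := rdw 44 17592186044415 (nodeTab_s_0_63 (Nat.shiftRight i 11)) (Nat.land i 2047)
noncomputable def offTab (i : Nat) : Nat := rdw 17 131071 offTab_0 i
noncomputable def nTab (i : Nat) : Nat := rdw 17 131071 nTab_0 i
noncomputable def rootTab (i : Nat) : Nat := rdw 17 131071 rootTab_0 i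
noncomputable def tabF (i p : Nat) : Nat := @Bool.rec (fun _ => Nat) (@Bool.rec (fun _ => Nat) (@Bool.rec (fun _ => Nat) (col1 p) (col0 p) (Nat.ble 1 i)) (@Bool.rec (fun _ => Nat) (col2 p) (col3 p) (Nat.ble 3 i)) (Nat.ble 2 i)) (@Bool.rec (fun _ => Nat) (@Bool.rec (fun _ => Nat) (col4 p) (col5 p) (Nat.ble 5 i)) (@Bool.rec (fun _ => Nat) (col6 p) (col7 p) (Nat.ble 7 i)) (Nat.ble 6 i)) (Nat.ble 4 i)
def wAF : Nat → List Nat
  | _ => []
def wBF : Nat → List Nat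
  | _ => []
noncomputable def ptF (j idx : Nat) : Nat := Nat.land (nodeTab (Nat.add (offTab j) idx)) 131071
noncomputable def parF (j idx : Nat) : Nat := Nat.land (Nat.shiftRight (nodeTab (Nat.add (offTab j) idx)) 17) 131071
noncomputable def giF (j idx : Nat) : Nat := Nat.land (Nat.shiftRight (nodeTab (Nat.add (offTab j) idx)) 34) 15
noncomputable def depF (j idx : Nat) : Nat := Nat.shiftRight (nodeTab (Nat.add (offTab j) idx)) 38

noncomputable def S : Sgs :=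
  { N := 122760, k := 8, m := 8, tab := tabF, wA := wAF, wB := wBF, lev := levTab, r := 3, beta := betaTab,
    n := nTab, root := rootTab, pt := ptF, par := parF, gi := giF, dep := depF }


end Cfsg.Agent.Lib.Helper4.TCD.ONL
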