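import Cfsg.Agent.Lib.Helper4.TCD_ONL_Acc

namespace Cfsg.Agent.Lib.Helper4.TCD.ONL

open Cfsg.Agent.Lib.Helper4.TC Cfsg.Agent.Lib.Helper4.TCD.ON1

set_option maxRecDepth 100000
set_option Elab.async false

theorem c_words : allRange S.wordsOK 8 0 = true := by decide +kernel
theorem c_fix : allGrid S.fixOK 0 8 3 = true := by decide +kernel
theorem c_root : allBelow (fun j => Nat.ble (Nat.succ (S.root j)) (S.n j)) 3 = true := by decide +kernel
theorem c_n0 : S.n 0 = 122760 := by decide +kernel
theorem c_n1 : S.n 1 = 5586 := by decide +kernel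
theorem c_n2 : S.n 2 = 672 := by decide +kernel
theorem c_nd0_0 : allRange (S.nodeOK 0) 0 5000 = true := by decide +kernel
theorem c_nd0_1 : allRange (S.nodeOK 0) 5000 5000 = true := by decide +kernel
theorem c_nd0_2 : allRange (S.nodeOK 0) 10000 5000 = true := by decide +kernel
theorem c_nd0_3 : allRange (S.nodeOK 0) 15000 5000 = true := by decide +kernel
theorem c_nd0_4 : allRange (S.nodeOK 0) 20000 5000 = true := by decide +kernel
theorem c_nd0_5 : allRange (S.nodeOK 0) 25000 5000 = true := by decide +kernel
theorem c_nd0_6 : allRange (S.nodeOK 0) 30000 5000 = true := by decide +kernel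
theorem c_nd0_7 : allRange (S.nodeOK 0) 35000 5000 = true := by decide +kernel
theorem c_nd0_8 : allRange (S.nodeOK 0) 40000 5000 = true := by decide +kernel
theorem c_nd0_9 : allRange (S.nodeOK 0) 45000 5000 = true := by decide +kernel
theorem c_nd0_10 : allRange (S.nodeOK 0) 50000 5000 = true := by decide +kernel
theorem c_nd0_11 : allRange (S.nodeOK 0) 55000 5000 = true := by decide +kernel
theorem c_nd0_12 : allRange (S.nodeOK 0) 60000 5000 = true := by decide +kernel
theorem c_nd0_13 : allRange (S.nodeOK 0) 65000 5000 = true := by decide +kernel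
theorem c_nd0_14 : allRange (S.nodeOK 0) 70000 5000 = true := by decide +kernel
theorem c_nd0_15 : allRange (S.nodeOK 0) 75000 5000 = true := by decide +kernel
theorem c_nd0_16 : allRange (S.nodeOK 0) 80000 5000 = true := by decide +kernel
theorem c_nd0_17 : allRange (S.nodeOK 0) 85000 5000 = true := by decide +kernel
theorem c_nd0_18 : allRange (S.nodeOK 0) 90000 5000 = true := by decide +kernel
theorem c_nd0_19 : allRange (S.nodeOK 0) 95000 5000 = true := by decide +kernel
theorem c_nd0_20 : allRange (S.nodeOK 0) 100000 5000 = true := by decide +kernel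
theorem c_nd0_21 : allRange (S.nodeOK 0) 105000 5000 = true := by decide +kernel
theorem c_nd0_22 : allRange (S.nodeOK 0) 110000 5000 = true := by decide +kernel
theorem c_nd0_23 : allRange (S.nodeOK 0) 115000 5000 = true := by decide +kernel
theorem c_nd0_24 : allRange (S.nodeOK 0) 120000 2760 = true := by decide +kernel
theorem c_nd1_0 : allRange (S.nodeOK 1) 0 5000 = true := by decide +kernel
theorem c_nd1_1 : allRange (S.nodeOK 1) 5000 586 = true := by decide +kernel
theorem c_nd2_0 : allRange (S.nodeOK 2) 0 672 = true := by decide +kernel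

end Cfsg.Agent.Lib.Helper4.TCD.ONL
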