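import Cfsg.Agent.Lib.Helper4.TCD_ONL_Acc

namespace Cfsg.Agent.Lib.Helper4.TCD.ONL

open Cfsg.Agent.Lib.Helper4.TC Cfsg.Agent.Lib.Helper4.TCD.ON1

set_option maxRecDepth 100000
set_option Elab.async false

theorem c_p8_50 : allRange chk8 115350 2307 = true := by decide +kernel
theorem c_p8_51 : allRange chk8 117657 2307 = true := by decide +kernel
theorem c_p8_52 : allRange chk8 119964 2307 = true := by decide +kernel
theorem c_p8_53 : allRange chk8 122271 489 = true := by decide +kernel
theorem c_p9_0 : allRange chk9 0 15000 = true := by decide +kernel
theorem c_p9_1 : allRange chk9 15000 15000 = true := by decide +kernel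
theorem c_p9_2 : allRange chk9 30000 15000 = true := by decide +kernel
theorem c_p9_3 : allRange chk9 45000 15000 = true := by decide +kernel
theorem c_p9_4 : allRange chk9 60000 15000 = true := by decide +kernel
theorem c_p9_5 : allRange chk9 75000 15000 = true := by decide +kernel
theorem c_p9_6 : allRange chk9 90000 15000 = true := by decide +kernel
theorem c_p9_7 : allRange chk9 105000 15000 = true := by decide +kernel
theorem c_p9_8 : allRange chk9 120000 2760 = true := by decide +kernel
theorem c_p10_0 : allRange chk10 0 1818 = true := by decide +kernel
theorem c_p10_1 : allRange chk10 1818 1818 = true := by decide +kernel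
theorem c_p10_2 : allRange chk10 3636 1818 = true := by decide +kernel
theorem c_p10_3 : allRange chk10 5454 1818 = true := by decide +kernel
theorem c_p10_4 : allRange chk10 7272 1818 = true := by decide +kernel
theorem c_p10_5 : allRange chk10 9090 1818 = true := by decide +kernel
theorem c_p10_6 : allRange chk10 10908 1818 = true := by decide +kernel
theorem c_p10_7 : allRange chk10 12726 1818 = true := by decide +kernel
theorem c_p10_8 : allRange chk10 14544 1818 = true := by decide +kernel
theorem c_p10_9 : allRange chk10 16362 1818 = true := by decide +kernel
theorem c_p10_10 : allRange chk10 18180 1818 = true := by decide +kernel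
theorem c_p10_11 : allRange chk10 19998 1818 = true := by decide +kernel
theorem c_p10_12 : allRange chk10 21816 1818 = true := by decide +kernel
theorem c_p10_13 : allRange chk10 23634 1818 = true := by decide +kernel
theorem c_p10_14 : allRange chk10 25452 1818 = true := by decide +kernel
theorem c_p10_15 : allRange chk10 27270 1818 = true := by decide +kernel
theorem c_p10_16 : allRange chk10 29088 1818 = true := by decide +kernel
theorem c_p10_17 : allRange chk10 30906 1818 = true := by decide +kernel
theorem c_p10_18 : allRange chk10 32724 1818 = true := by decide +kernel
theorem c_p10_19 : allRange chk10 34542 1818 = true := by decide +kernel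
theorem c_p10_20 : allRange chk10 36360 1818 = true := by decide +kernel
theorem c_p10_21 : allRange chk10 38178 1818 = true := by decide +kernel
theorem c_p10_22 : allRange chk10 39996 1818 = true := by decide +kernel
theorem c_p10_23 : allRange chk10 41814 1818 = true := by decide +kernel
theorem c_p10_24 : allRange chk10 43632 1818 = true := by decide +kernel
theorem c_p10_25 : allRange chk10 45450 1818 = true := by decide +kernel
theorem c_p10_26 : allRange chk10 47268 1818 = true := by decide +kernel
theorem c_p10_27 : allRange chk10 49086 1818 = true := by decide +kernel
theorem c_p10_28 : allRange chk10 50904 1818 = true := by decide +kernel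
theorem c_p10_29 : allRange chk10 52722 1818 = true := by decide +kernel
theorem c_p10_30 : allRange chk10 54540 1818 = true := by decide +kernel
theorem c_p10_31 : allRange chk10 56358 1818 = true := by decide +kernel
theorem c_p10_32 : allRange chk10 58176 1818 = true := by decide +kernel
theorem c_p10_33 : allRange chk10 59994 1818 = true := by decide +kernel
theorem c_p10_34 : allRange chk10 61812 1818 = true := by decide +kernel
theorem c_p10_35 : allRange chk10 63630 1818 = true := by decide +kernel
theorem c_p10_36 : allRange chk10 65448 1818 = true := by decide +kernel
theorem c_p10_37 : allRange chk10 67266 1818 = true := by decide +kernel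

end Cfsg.Agent.Lib.Helper4.TCD.ONL
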