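import Cfsg.Agent.Lib.Helper4.TCD_ONL_Acc

namespace Cfsg.Agent.Lib.Helper4.TCD.ONL

open Cfsg.Agent.Lib.Helper4.TC Cfsg.Agent.Lib.Helper4.TCD.ON1

set_option maxRecDepth 100000
set_option Elab.async false

theorem c_p10_38 : allRange chk10 69084 1818 = true := by decide +kernel
theorem c_p10_39 : allRange chk10 70902 1818 = true := by decide +kernel
theorem c_p10_40 : allRange chk10 72720 1818 = true := by decide +kernel
theorem c_p10_41 : allRange chk10 74538 1818 = true := by decide +kernel
theorem c_p10_42 : allRange chk10 76356 1818 = true := by decide +kernel
theorem c_p10_43 : allRange chk10 78174 1818 = true := by decide +kernel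
theorem c_p10_44 : allRange chk10 79992 1818 = true := by decide +kernel
theorem c_p10_45 : allRange chk10 81810 1818 = true := by decide +kernel
theorem c_p10_46 : allRange chk10 83628 1818 = true := by decide +kernel
theorem c_p10_47 : allRange chk10 85446 1818 = true := by decide +kernel
theorem c_p10_48 : allRange chk10 87264 1818 = true := by decide +kernel
theorem c_p10_49 : allRange chk10 89082 1818 = true := by decide +kernel
theorem c_p10_50 : allRange chk10 90900 1818 = true := by decide +kernel
theorem c_p10_51 : allRange chk10 92718 1818 = true := by decide +kernel
theorem c_p10_52 : allRange chk10 94536 1818 = true := by decide +kernel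
theorem c_p10_53 : allRange chk10 96354 1818 = true := by decide +kernel
theorem c_p10_54 : allRange chk10 98172 1818 = true := by decide +kernel
theorem c_p10_55 : allRange chk10 99990 1818 = true := by decide +kernel
theorem c_p10_56 : allRange chk10 101808 1818 = true := by decide +kernel
theorem c_p10_57 : allRange chk10 103626 1818 = true := by decide +kernel
theorem c_p10_58 : allRange chk10 105444 1818 = true := by decide +kernel
theorem c_p10_59 : allRange chk10 107262 1818 = true := by decide +kernel
theorem c_p10_60 : allRange chk10 109080 1818 = true := by decide +kernel
theorem c_p10_61 : allRange chk10 110898 1818 = true := by decide +kernel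
theorem c_p10_62 : allRange chk10 112716 1818 = true := by decide +kernel
theorem c_p10_63 : allRange chk10 114534 1818 = true := by decide +kernel
theorem c_p10_64 : allRange chk10 116352 1818 = true := by decide +kernel
theorem c_p10_65 : allRange chk10 118170 1818 = true := by decide +kernel
theorem c_p10_66 : allRange chk10 119988 1818 = true := by decide +kernel
theorem c_p10_67 : allRange chk10 121806 954 = true := by decide +kernel
theorem c_p11_0 : allRange chk11 0 15000 = true := by decide +kernel
theorem c_p11_1 : allRange chk11 15000 15000 = true := by decide +kernel
theorem c_p11_2 : allRange chk11 30000 15000 = true := by decide +kernel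
theorem c_p11_3 : allRange chk11 45000 15000 = true := by decide +kernel
theorem c_p11_4 : allRange chk11 60000 15000 = true := by decide +kernel
theorem c_p11_5 : allRange chk11 75000 15000 = true := by decide +kernel
theorem c_p11_6 : allRange chk11 90000 15000 = true := by decide +kernel
theorem c_p11_7 : allRange chk11 105000 15000 = true := by decide +kernel
theorem c_p11_8 : allRange chk11 120000 2760 = true := by decide +kernel
theorem c_nd0_0 : allRange (S.nodeOK 0) 0 5000 = true := by decide +kernel
theorem c_nd0_1 : allRange (S.nodeOK 0) 5000 5000 = true := by decide +kernel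
theorem c_nd0_2 : allRange (S.nodeOK 0) 10000 5000 = true := by decide +kernel
theorem c_nd0_3 : allRange (S.nodeOK 0) 15000 5000 = true := by decide +kernel
theorem c_nd0_4 : allRange (S.nodeOK 0) 20000 5000 = true := by decide +kernel
theorem c_nd0_5 : allRange (S.nodeOK 0) 25000 5000 = true := by decide +kernel
theorem c_nd0_6 : allRange (S.nodeOK 0) 30000 5000 = true := by decide +kernel
theorem c_nd0_7 : allRange (S.nodeOK 0) 35000 5000 = true := by decide +kernel
theorem c_nd0_8 : allRange (S.nodeOK 0) 40000 5000 = true := by decide +kernel
theorem c_nd0_9 : allRange (S.nodeOK 0) 45000 5000 = true := by decide +kernel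
theorem c_nd0_10 : allRange (S.nodeOK 0) 50000 5000 = true := by decide +kernel
theorem c_nd0_11 : allRange (S.nodeOK 0) 55000 5000 = true := by decide +kernel

end Cfsg.Agent.Lib.Helper4.TCD.ONL
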