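import Cfsg.Agent.Lib.Helper4.TCD_ONL_Acc

namespace Cfsg.Agent.Lib.Helper4.TCD.ONL

open Cfsg.Agent.Lib.Helper4.TC Cfsg.Agent.Lib.Helper4.TCD.ON1

set_option maxRecDepth 100000
set_option Elab.async false

theorem c_p14_21 : allRange chk14 89985 4285 = true := by decide +kernel
theorem c_p14_22 : allRange chk14 94270 4285 = true := by decide +kernel
theorem c_p14_23 : allRange chk14 98555 4285 = true := by decide +kernel
theorem c_p14_24 : allRange chk14 102840 4285 = true := by decide +kernel
theorem c_p14_25 : allRange chk14 107125 4285 = true := by decide +kernel
theorem c_p14_26 : allRange chk14 111410 4285 = true := by decide +kernel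
theorem c_p14_27 : allRange chk14 115695 4285 = true := by decide +kernel
theorem c_p14_28 : allRange chk14 119980 2780 = true := by decide +kernel
theorem c_p15_0 : allRange chk15 0 4000 = true := by decide +kernel
theorem c_p15_1 : allRange chk15 4000 4000 = true := by decide +kernel
theorem c_p15_2 : allRange chk15 8000 4000 = true := by decide +kernel
theorem c_p15_3 : allRange chk15 12000 4000 = true := by decide +kernel
theorem c_p15_4 : allRange chk15 16000 4000 = true := by decide +kernel
theorem c_p15_5 : allRange chk15 20000 4000 = true := by decide +kernel
theorem c_p15_6 : allRange chk15 24000 4000 = true := by decide +kernel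
theorem c_p15_7 : allRange chk15 28000 4000 = true := by decide +kernel
theorem c_p15_8 : allRange chk15 32000 4000 = true := by decide +kernel
theorem c_p15_9 : allRange chk15 36000 4000 = true := by decide +kernel
theorem c_p15_10 : allRange chk15 40000 4000 = true := by decide +kernel
theorem c_p15_11 : allRange chk15 44000 4000 = true := by decide +kernel
theorem c_p15_12 : allRange chk15 48000 4000 = true := by decide +kernel
theorem c_p15_13 : allRange chk15 52000 4000 = true := by decide +kernel
theorem c_p15_14 : allRange chk15 56000 4000 = true := by decide +kernel
theorem c_p15_15 : allRange chk15 60000 4000 = true := by decide +kernel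
theorem c_p15_16 : allRange chk15 64000 4000 = true := by decide +kernel
theorem c_p15_17 : allRange chk15 68000 4000 = true := by decide +kernel
theorem c_p15_18 : allRange chk15 72000 4000 = true := by decide +kernel
theorem c_p15_19 : allRange chk15 76000 4000 = true := by decide +kernel
theorem c_p15_20 : allRange chk15 80000 4000 = true := by decide +kernel
theorem c_p15_21 : allRange chk15 84000 4000 = true := by decide +kernel
theorem c_p15_22 : allRange chk15 88000 4000 = true := by decide +kernel
theorem c_p15_23 : allRange chk15 92000 4000 = true := by decide +kernel
theorem c_p15_24 : allRange chk15 96000 4000 = true := by decide +kernel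
theorem c_p15_25 : allRange chk15 100000 4000 = true := by decide +kernel
theorem c_p15_26 : allRange chk15 104000 4000 = true := by decide +kernel
theorem c_p15_27 : allRange chk15 108000 4000 = true := by decide +kernel
theorem c_p15_28 : allRange chk15 112000 4000 = true := by decide +kernel
theorem c_p15_29 : allRange chk15 116000 4000 = true := by decide +kernel
theorem c_p15_30 : allRange chk15 120000 2760 = true := by decide +kernel
theorem c_nd0_0 : allRange (S.nodeOK 0) 0 5000 = true := by decide +kernel
theorem c_nd0_1 : allRange (S.nodeOK 0) 5000 5000 = true := by decide +kernel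
theorem c_nd0_2 : allRange (S.nodeOK 0) 10000 5000 = true := by decide +kernel
theorem c_nd0_3 : allRange (S.nodeOK 0) 15000 5000 = true := by decide +kernel
theorem c_nd0_4 : allRange (S.nodeOK 0) 20000 5000 = true := by decide +kernel
theorem c_nd0_5 : allRange (S.nodeOK 0) 25000 5000 = true := by decide +kernel
theorem c_nd0_6 : allRange (S.nodeOK 0) 30000 5000 = true := by decide +kernel
theorem c_nd0_7 : allRange (S.nodeOK 0) 35000 5000 = true := by decide +kernel
theorem c_nd0_8 : allRange (S.nodeOK 0) 40000 5000 = true := by decide +kernel
theorem c_nd0_9 : allRange (S.nodeOK 0) 45000 5000 = true := by decide +kernel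
theorem c_nd0_10 : allRange (S.nodeOK 0) 50000 5000 = true := by decide +kernel

end Cfsg.Agent.Lib.Helper4.TCD.ONL
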