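import Cfsg.Agent.Lib.Helper4.TCD_ONL_Acc

namespace Cfsg.Agent.Lib.Helper4.TCD.ONL

open Cfsg.Agent.Lib.Helper4.TC Cfsg.Agent.Lib.Helper4.TCD.ON1

set_option maxRecDepth 100000
set_option Elab.async false

theorem c_nd0_11 : allRange (S.nodeOK 0) 55000 5000 = true := by decide +kernel
theorem c_nd0_12 : allRange (S.nodeOK 0) 60000 5000 = true := by decide +kernel
theorem c_nd0_13 : allRange (S.nodeOK 0) 65000 5000 = true := by decide +kernel
theorem c_nd0_14 : allRange (S.nodeOK 0) 70000 5000 = true := by decide +kernel
theorem c_nd0_15 : allRange (S.nodeOK 0) 75000 5000 = true := by decide +kernel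
theorem c_nd0_16 : allRange (S.nodeOK 0) 80000 5000 = true := by decide +kernel
theorem c_nd0_17 : allRange (S.nodeOK 0) 85000 5000 = true := by decide +kernel
theorem c_nd0_18 : allRange (S.nodeOK 0) 90000 5000 = true := by decide +kernel
theorem c_nd0_19 : allRange (S.nodeOK 0) 95000 5000 = true := by decide +kernel
theorem c_nd0_20 : allRange (S.nodeOK 0) 100000 5000 = true := by decide +kernel
theorem c_nd0_21 : allRange (S.nodeOK 0) 105000 5000 = true := by decide +kernel
theorem c_nd0_22 : allRange (S.nodeOK 0) 110000 5000 = true := by decide +kernel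
theorem c_nd0_23 : allRange (S.nodeOK 0) 115000 5000 = true := by decide +kernel
theorem c_nd0_24 : allRange (S.nodeOK 0) 120000 2760 = true := by decide +kernel
theorem c_nd1_0 : allRange (S.nodeOK 1) 0 5000 = true := by decide +kernel
theorem c_nd1_1 : allRange (S.nodeOK 1) 5000 5000 = true := by decide +kernel
theorem c_nd1_2 : allRange (S.nodeOK 1) 10000 5000 = true := by decide +kernel
theorem c_nd1_3 : allRange (S.nodeOK 1) 15000 5000 = true := by decide +kernel
theorem c_nd1_4 : allRange (S.nodeOK 1) 20000 5000 = true := by decide +kernel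
theorem c_nd1_5 : allRange (S.nodeOK 1) 25000 5000 = true := by decide +kernel
theorem c_nd1_6 : allRange (S.nodeOK 1) 30000 5000 = true := by decide +kernel
theorem c_nd1_7 : allRange (S.nodeOK 1) 35000 5000 = true := by decide +kernel
theorem c_nd1_8 : allRange (S.nodeOK 1) 40000 5000 = true := by decide +kernel
theorem c_nd1_9 : allRange (S.nodeOK 1) 45000 5000 = true := by decide +kernel
theorem c_nd1_10 : allRange (S.nodeOK 1) 50000 5000 = true := by decide +kernel
theorem c_nd1_11 : allRange (S.nodeOK 1) 55000 3653 = true := by decide +kernel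
theorem c_nd2_0 : allRange (S.nodeOK 2) 0 32 = true := by decide +kernel
theorem c_nd3_0 : allRange (S.nodeOK 3) 0 2 = true := by decide +kernel

end Cfsg.Agent.Lib.Helper4.TCD.ONL
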