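import Cfsg.Agent.Lib.Helper4.TCD_ONM11K_Acc

namespace Cfsg.Agent.Lib.Helper4.TCD.ONM11K

open Cfsg.Agent.Lib.Helper4.TC

set_option maxRecDepth 100000
set_option Elab.async false

theorem c_k0_0 : allRange (fun i => Nat.beq (Cfsg.Agent.Lib.Helper4.TCD.ONM11.col0 i) (actW0 i)) 0 20000 = true := by decide +kernel
theorem c_k0_1 : allRange (fun i => Nat.beq (Cfsg.Agent.Lib.Helper4.TCD.ONM11.col0 i) (actW0 i)) 20000 20000 = true := by decide +kernel
theorem c_k0_2 : allRange (fun i => Nat.beq (Cfsg.Agent.Lib.Helper4.TCD.ONM11.col0 i) (actW0 i)) 40000 20000 = true := by decide +kernel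
theorem c_k0_3 : allRange (fun i => Nat.beq (Cfsg.Agent.Lib.Helper4.TCD.ONM11.col0 i) (actW0 i)) 60000 20000 = true := by decide +kernel
theorem c_k0_4 : allRange (fun i => Nat.beq (Cfsg.Agent.Lib.Helper4.TCD.ONM11.col0 i) (actW0 i)) 80000 20000 = true := by decide +kernel
theorem c_k0_5 : allRange (fun i => Nat.beq (Cfsg.Agent.Lib.Helper4.TCD.ONM11.col0 i) (actW0 i)) 100000 20000 = true := by decide +kernel
theorem c_k0_6 : allRange (fun i => Nat.beq (Cfsg.Agent.Lib.Helper4.TCD.ONM11.col0 i) (actW0 i)) 120000 2760 = true := by decide +kernel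
theorem c_k1_0 : allRange (fun i => Nat.beq (Cfsg.Agent.Lib.Helper4.TCD.ONM11.col1 i) (actW1 i)) 0 20000 = true := by decide +kernel
theorem c_k1_1 : allRange (fun i => Nat.beq (Cfsg.Agent.Lib.Helper4.TCD.ONM11.col1 i) (actW1 i)) 20000 20000 = true := by decide +kernel
theorem c_k1_2 : allRange (fun i => Nat.beq (Cfsg.Agent.Lib.Helper4.TCD.ONM11.col1 i) (actW1 i)) 40000 20000 = true := by decide +kernel
theorem c_k1_3 : allRange (fun i => Nat.beq (Cfsg.Agent.Lib.Helper4.TCD.ONM11.col1 i) (actW1 i)) 60000 20000 = true := by decide +kernel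
theorem c_k1_4 : allRange (fun i => Nat.beq (Cfsg.Agent.Lib.Helper4.TCD.ONM11.col1 i) (actW1 i)) 80000 20000 = true := by decide +kernel
theorem c_k1_5 : allRange (fun i => Nat.beq (Cfsg.Agent.Lib.Helper4.TCD.ONM11.col1 i) (actW1 i)) 100000 20000 = true := by decide +kernel
theorem c_k1_6 : allRange (fun i => Nat.beq (Cfsg.Agent.Lib.Helper4.TCD.ONM11.col1 i) (actW1 i)) 120000 2760 = true := by decide +kernel
theorem c_k2_0 : allRange (fun i => Nat.beq (Cfsg.Agent.Lib.Helper4.TCD.ONM11.col2 i) (actW2 i)) 0 1363 = true := by decide +kernel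
theorem c_k2_1 : allRange (fun i => Nat.beq (Cfsg.Agent.Lib.Helper4.TCD.ONM11.col2 i) (actW2 i)) 1363 1363 = true := by decide +kernel
theorem c_k2_2 : allRange (fun i => Nat.beq (Cfsg.Agent.Lib.Helper4.TCD.ONM11.col2 i) (actW2 i)) 2726 1363 = true := by decide +kernel
theorem c_k2_3 : allRange (fun i => Nat.beq (Cfsg.Agent.Lib.Helper4.TCD.ONM11.col2 i) (actW2 i)) 4089 1363 = true := by decide +kernel
theorem c_k2_4 : allRange (fun i => Nat.beq (Cfsg.Agent.Lib.Helper4.TCD.ONM11.col2 i) (actW2 i)) 5452 1363 = true := by decide +kernel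
theorem c_k2_5 : allRange (fun i => Nat.beq (Cfsg.Agent.Lib.Helper4.TCD.ONM11.col2 i) (actW2 i)) 6815 1363 = true := by decide +kernel
theorem c_k2_6 : allRange (fun i => Nat.beq (Cfsg.Agent.Lib.Helper4.TCD.ONM11.col2 i) (actW2 i)) 8178 1363 = true := by decide +kernel
theorem c_k2_7 : allRange (fun i => Nat.beq (Cfsg.Agent.Lib.Helper4.TCD.ONM11.col2 i) (actW2 i)) 9541 1363 = true := by decide +kernel
theorem c_k2_8 : allRange (fun i => Nat.beq (Cfsg.Agent.Lib.Helper4.TCD.ONM11.col2 i) (actW2 i)) 10904 1363 = true := by decide +kernel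
theorem c_k2_9 : allRange (fun i => Nat.beq (Cfsg.Agent.Lib.Helper4.TCD.ONM11.col2 i) (actW2 i)) 12267 1363 = true := by decide +kernel
theorem c_k2_10 : allRange (fun i => Nat.beq (Cfsg.Agent.Lib.Helper4.TCD.ONM11.col2 i) (actW2 i)) 13630 1363 = true := by decide +kernel
theorem c_k2_11 : allRange (fun i => Nat.beq (Cfsg.Agent.Lib.Helper4.TCD.ONM11.col2 i) (actW2 i)) 14993 1363 = true := by decide +kernel
theorem c_k2_12 : allRange (fun i => Nat.beq (Cfsg.Agent.Lib.Helper4.TCD.ONM11.col2 i) (actW2 i)) 16356 1363 = true := by decide +kernel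
theorem c_k2_13 : allRange (fun i => Nat.beq (Cfsg.Agent.Lib.Helper4.TCD.ONM11.col2 i) (actW2 i)) 17719 1363 = true := by decide +kernel
theorem c_k2_14 : allRange (fun i => Nat.beq (Cfsg.Agent.Lib.Helper4.TCD.ONM11.col2 i) (actW2 i)) 19082 1363 = true := by decide +kernel
theorem c_k2_15 : allRange (fun i => Nat.beq (Cfsg.Agent.Lib.Helper4.TCD.ONM11.col2 i) (actW2 i)) 20445 1363 = true := by decide +kernel
theorem c_k2_16 : allRange (fun i => Nat.beq (Cfsg.Agent.Lib.Helper4.TCD.ONM11.col2 i) (actW2 i)) 21808 1363 = true := by decide +kernel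
theorem c_k2_17 : allRange (fun i => Nat.beq (Cfsg.Agent.Lib.Helper4.TCD.ONM11.col2 i) (actW2 i)) 23171 1363 = true := by decide +kernel
theorem c_k2_18 : allRange (fun i => Nat.beq (Cfsg.Agent.Lib.Helper4.TCD.ONM11.col2 i) (actW2 i)) 24534 1363 = true := by decide +kernel
theorem c_k2_19 : allRange (fun i => Nat.beq (Cfsg.Agent.Lib.Helper4.TCD.ONM11.col2 i) (actW2 i)) 25897 1363 = true := by decide +kernel
theorem c_k2_20 : allRange (fun i => Nat.beq (Cfsg.Agent.Lib.Helper4.TCD.ONM11.col2 i) (actW2 i)) 27260 1363 = true := by decide +kernel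
theorem c_k2_21 : allRange (fun i => Nat.beq (Cfsg.Agent.Lib.Helper4.TCD.ONM11.col2 i) (actW2 i)) 28623 1363 = true := by decide +kernel
theorem c_k2_22 : allRange (fun i => Nat.beq (Cfsg.Agent.Lib.Helper4.TCD.ONM11.col2 i) (actW2 i)) 29986 1363 = true := by decide +kernel
theorem c_k2_23 : allRange (fun i => Nat.beq (Cfsg.Agent.Lib.Helper4.TCD.ONM11.col2 i) (actW2 i)) 31349 1363 = true := by decide +kernel
theorem c_k2_24 : allRange (fun i => Nat.beq (Cfsg.Agent.Lib.Helper4.TCD.ONM11.col2 i) (actW2 i)) 32712 1363 = true := by decide +kernel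
theorem c_k2_25 : allRange (fun i => Nat.beq (Cfsg.Agent.Lib.Helper4.TCD.ONM11.col2 i) (actW2 i)) 34075 1363 = true := by decide +kernel
theorem c_k2_26 : allRange (fun i => Nat.beq (Cfsg.Agent.Lib.Helper4.TCD.ONM11.col2 i) (actW2 i)) 35438 1363 = true := by decide +kernel
theorem c_k2_27 : allRange (fun i => Nat.beq (Cfsg.Agent.Lib.Helper4.TCD.ONM11.col2 i) (actW2 i)) 36801 1363 = true := by decide +kernel
theorem c_k2_28 : allRange (fun i => Nat.beq (Cfsg.Agent.Lib.Helper4.TCD.ONM11.col2 i) (actW2 i)) 38164 1363 = true := by decide +kernel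
theorem c_k2_29 : allRange (fun i => Nat.beq (Cfsg.Agent.Lib.Helper4.TCD.ONM11.col2 i) (actW2 i)) 39527 1363 = true := by decide +kernel
theorem c_k2_30 : allRange (fun i => Nat.beq (Cfsg.Agent.Lib.Helper4.TCD.ONM11.col2 i) (actW2 i)) 40890 1363 = true := by decide +kernel
theorem c_k2_31 : allRange (fun i => Nat.beq (Cfsg.Agent.Lib.Helper4.TCD.ONM11.col2 i) (actW2 i)) 42253 1363 = true := by decide +kernel
theorem c_k2_32 : allRange (fun i => Nat.beq (Cfsg.Agent.Lib.Helper4.TCD.ONM11.col2 i) (actW2 i)) 43616 1363 = true := by decide +kernel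
theorem c_k2_33 : allRange (fun i => Nat.beq (Cfsg.Agent.Lib.Helper4.TCD.ONM11.col2 i) (actW2 i)) 44979 1363 = true := by decide +kernel
theorem c_k2_34 : allRange (fun i => Nat.beq (Cfsg.Agent.Lib.Helper4.TCD.ONM11.col2 i) (actW2 i)) 46342 1363 = true := by decide +kernel
theorem c_k2_35 : allRange (fun i => Nat.beq (Cfsg.Agent.Lib.Helper4.TCD.ONM11.col2 i) (actW2 i)) 47705 1363 = true := by decide +kernel
theorem c_k2_36 : allRange (fun i => Nat.beq (Cfsg.Agent.Lib.Helper4.TCD.ONM11.col2 i) (actW2 i)) 49068 1363 = true := by decide +kernel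

end Cfsg.Agent.Lib.Helper4.TCD.ONM11K
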