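import Cfsg.Agent.Lib.Helper4.TC14
import Cfsg.Agent.Lib.Helper4.TCP_M11p
import Cfsg.Agent.Lib.Helper4.TCD_ONM11_D0
import Cfsg.Agent.Lib.Helper4.TCD_ONM11_D1

namespace Cfsg.Agent.Lib.Helper4.TCD.ONM11

open Cfsg.Agent.Lib.Helper4.TC

set_option maxRecDepth 100000

noncomputable def col0_s_1_3 (c : Nat) : Nat := @Bool.rec (fun _ => Nat) (col0_1) (col0_2) (Nat.ble 2 c)
noncomputable def col0_s_0_3 (c : Nat) : Nat := @Bool.rec (fun _ => Nat) (col0_0) (col0_s_1_3 c) (Nat.ble 1 c)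
noncomputable def col0_s_3_5 (c : Nat) : Nat := @Bool.rec (fun _ => Nat) (col0_3) (col0_4) (Nat.ble 4 c)
noncomputable def col0_s_5_7 (c : Nat) : Nat := @Bool.rec (fun _ => Nat) (col0_5) (col0_6) (Nat.ble 6 c)
noncomputable def col0_s_3_7 (c : Nat) : Nat := @Bool.rec (fun _ => Nat) (col0_s_3_5 c) (col0_s_5_7 c) (Nat.ble 5 c)
noncomputable def col0_s_0_7 (c : Nat) : Nat := @Bool.rec (fun _ => Nat) (col0_s_0_3 c) (col0_s_3_7 c) (Nat.ble 3 c)
noncomputable def col0_s_7_9 (c : Nat) : Nat := @Bool.rec (fun _ => Nat) (col0_7) (col0_8) (Nat.ble 8 c)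
noncomputable def col0_s_9_11 (c : Nat) : Nat := @Bool.rec (fun _ => Nat) (col0_9) (col0_10) (Nat.ble 10 c)
noncomputable def col0_s_7_11 (c : Nat) : Nat := @Bool.rec (fun _ => Nat) (col0_s_7_9 c) (col0_s_9_11 c) (Nat.ble 9 c)
noncomputable def col0_s_11_13 (c : Nat) : Nat := @Bool.rec (fun _ => Nat) (col0_11) (col0_12) (Nat.ble 12 c)
noncomputable def col0_s_13_15 (c : Nat) : Nat := @Bool.rec (fun _ => Nat) (col0_13) (col0_14) (Nat.ble 14 c)
noncomputable def col0_s_11_15 (c : Nat) : Nat := @Bool.rec (fun _ => Nat) (col0_s_11_13 c) (col0_s_13_15 c) (Nat.ble 13 c)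
noncomputable def col0_s_7_15 (c : Nat) : Nat := @Bool.rec (fun _ => Nat) (col0_s_7_11 c) (col0_s_11_15 c) (Nat.ble 11 c)
noncomputable def col0_s_0_15 (c : Nat) : Nat := @Bool.rec (fun _ => Nat) (col0_s_0_7 c) (col0_s_7_15 c) (Nat.ble 7 c)
noncomputable def col0_s_16_18 (c : Nat) : Nat := @Bool.rec (fun _ => Nat) (col0_16) (col0_17) (Nat.ble 17 c)
noncomputable def col0_s_15_18 (c : Nat) : Nat := @Bool.rec (fun _ => Nat) (col0_15) (col0_s_16_18 c) (Nat.ble 16 c)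
noncomputable def col0_s_18_20 (c : Nat) : Nat := @Bool.rec (fun _ => Nat) (col0_18) (col0_19) (Nat.ble 19 c)
noncomputable def col0_s_20_22 (c : Nat) : Nat := @Bool.rec (fun _ => Nat) (col0_20) (col0_21) (Nat.ble 21 c)
noncomputable def col0_s_18_22 (c : Nat) : Nat := @Bool.rec (fun _ => Nat) (col0_s_18_20 c) (col0_s_20_22 c) (Nat.ble 20 c)
noncomputable def col0_s_15_22 (c : Nat) : Nat := @Bool.rec (fun _ => Nat) (col0_s_15_18 c) (col0_s_18_22 c) (Nat.ble 18 c)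
noncomputable def col0_s_22_24 (c : Nat) : Nat := @Bool.rec (fun _ => Nat) (col0_22) (col0_23) (Nat.ble 23 c)
noncomputable def col0_s_24_26 (c : Nat) : Nat := @Bool.rec (fun _ => Nat) (col0_24) (col0_25) (Nat.ble 25 c)
noncomputable def col0_s_22_26 (c : Nat) : Nat := @Bool.rec (fun _ => Nat) (col0_s_22_24 c) (col0_s_24_26 c) (Nat.ble 24 c)
noncomputable def col0_s_26_28 (c : Nat) : Nat := @Bool.rec (fun _ => Nat) (col0_26) (col0_27) (Nat.ble 27 c)
noncomputable def col0_s_28_30 (c : Nat) : Nat := @Bool.rec (fun _ => Nat) (col0_28) (col0_29) (Nat.ble 29 c)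
noncomputable def col0_s_26_30 (c : Nat) : Nat := @Bool.rec (fun _ => Nat) (col0_s_26_28 c) (col0_s_28_30 c) (Nat.ble 28 c)
noncomputable def col0_s_22_30 (c : Nat) : Nat := @Bool.rec (fun _ => Nat) (col0_s_22_26 c) (col0_s_26_30 c) (Nat.ble 26 c)
noncomputable def col0_s_15_30 (c : Nat) : Nat := @Bool.rec (fun _ => Nat) (col0_s_15_22 c) (col0_s_22_30 c) (Nat.ble 22 c)
noncomputable def col0_s_0_30 (c : Nat) : Nat := @Bool.rec (fun _ => Nat) (col0_s_0_15 c) (col0_s_15_30 c) (Nat.ble 15 c)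
noncomputable def col0 (i : Nat) : Nat := rdw 17 131071 (col0_s_0_30 (Nat.shiftRight i 12)) (Nat.land i 4095)
noncomputable def col1_s_1_3 (c : Nat) : Nat := @Bool.rec (fun _ => Nat) (col1_1) (col1_2) (Nat.ble 2 c)
noncomputable def col1_s_0_3 (c : Nat) : Nat := @Bool.rec (fun _ => Nat) (col1_0) (col1_s_1_3 c) (Nat.ble 1 c)
noncomputable def col1_s_3_5 (c : Nat) : Nat := @Bool.rec (fun _ => Nat) (col1_3) (col1_4) (Nat.ble 4 c)
noncomputable def col1_s_5_7 (c : Nat) : Nat := @Bool.rec (fun _ => Nat) (col1_5) (col1_6) (Nat.ble 6 c)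
noncomputable def col1_s_3_7 (c : Nat) : Nat := @Bool.rec (fun _ => Nat) (col1_s_3_5 c) (col1_s_5_7 c) (Nat.ble 5 c)
noncomputable def col1_s_0_7 (c : Nat) : Nat := @Bool.rec (fun _ => Nat) (col1_s_0_3 c) (col1_s_3_7 c) (Nat.ble 3 c)
noncomputable def col1_s_7_9 (c : Nat) : Nat := @Bool.rec (fun _ => Nat) (col1_7) (col1_8) (Nat.ble 8 c)
noncomputable def col1_s_9_11 (c : Nat) : Nat := @Bool.rec (fun _ => Nat) (col1_9) (col1_10) (Nat.ble 10 c)
noncomputable def col1_s_7_11 (c : Nat) : Nat := @Bool.rec (fun _ => Nat) (col1_s_7_9 c) (col1_s_9_11 c) (Nat.ble 9 c)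
noncomputable def col1_s_11_13 (c : Nat) : Nat := @Bool.rec (fun _ => Nat) (col1_11) (col1_12) (Nat.ble 12 c)
noncomputable def col1_s_13_15 (c : Nat) : Nat := @Bool.rec (fun _ => Nat) (col1_13) (col1_14) (Nat.ble 14 c)
noncomputable def col1_s_11_15 (c : Nat) : Nat := @Bool.rec (fun _ => Nat) (col1_s_11_13 c) (col1_s_13_15 c) (Nat.ble 13 c)
noncomputable def col1_s_7_15 (c : Nat) : Nat := @Bool.rec (fun _ => Nat) (col1_s_7_11 c) (col1_s_11_15 c) (Nat.ble 11 c)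
noncomputable def col1_s_0_15 (c : Nat) : Nat := @Bool.rec (fun _ => Nat) (col1_s_0_7 c) (col1_s_7_15 c) (Nat.ble 7 c)
noncomputable def col1_s_16_18 (c : Nat) : Nat := @Bool.rec (fun _ => Nat) (col1_16) (col1_17) (Nat.ble 17 c)
noncomputable def col1_s_15_18 (c : Nat) : Nat := @Bool.rec (fun _ => Nat) (col1_15) (col1_s_16_18 c) (Nat.ble 16 c)
noncomputable def col1_s_18_20 (c : Nat) : Nat := @Bool.rec (fun _ => Nat) (col1_18) (col1_19) (Nat.ble 19 c)
noncomputable def col1_s_20_22 (c : Nat) : Nat := @Bool.rec (fun _ => Nat) (col1_20) (col1_21) (Nat.ble 21 c)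
noncomputable def col1_s_18_22 (c : Nat) : Nat := @Bool.rec (fun _ => Nat) (col1_s_18_20 c) (col1_s_20_22 c) (Nat.ble 20 c)
noncomputable def col1_s_15_22 (c : Nat) : Nat := @Bool.rec (fun _ => Nat) (col1_s_15_18 c) (col1_s_18_22 c) (Nat.ble 18 c)
noncomputable def col1_s_22_24 (c : Nat) : Nat := @Bool.rec (fun _ => Nat) (col1_22) (col1_23) (Nat.ble 23 c)
noncomputable def col1_s_24_26 (c : Nat) : Nat := @Bool.rec (fun _ => Nat) (col1_24) (col1_25) (Nat.ble 25 c)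
noncomputable def col1_s_22_26 (c : Nat) : Nat := @Bool.rec (fun _ => Nat) (col1_s_22_24 c) (col1_s_24_26 c) (Nat.ble 24 c)
noncomputable def col1_s_26_28 (c : Nat) : Nat := @Bool.rec (fun _ => Nat) (col1_26) (col1_27) (Nat.ble 27 c)
noncomputable def col1_s_28_30 (c : Nat) : Nat := @Bool.rec (fun _ => Nat) (col1_28) (col1_29) (Nat.ble 29 c)
noncomputable def col1_s_26_30 (c : Nat) : Nat := @Bool.rec (fun _ => Nat) (col1_s_26_28 c) (col1_s_28_30 c) (Nat.ble 28 c)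
noncomputable def col1_s_22_30 (c : Nat) : Nat := @Bool.rec (fun _ => Nat) (col1_s_22_26 c) (col1_s_26_30 c) (Nat.ble 26 c)
noncomputable def col1_s_15_30 (c : Nat) : Nat := @Bool.rec (fun _ => Nat) (col1_s_15_22 c) (col1_s_22_30 c) (Nat.ble 22 c)
noncomputable def col1_s_0_30 (c : Nat) : Nat := @Bool.rec (fun _ => Nat) (col1_s_0_15 c) (col1_s_15_30 c) (Nat.ble 15 c)
noncomputable def col1 (i : Nat) : Nat := rdw 17 131071 (col1_s_0_30 (Nat.shiftRight i 12)) (Nat.land i 4095)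
noncomputable def col2_s_1_3 (c : Nat) : Nat := @Bool.rec (fun _ => Nat) (col2_1) (col2_2) (Nat.ble 2 c)
noncomputable def col2_s_0_3 (c : Nat) : Nat := @Bool.rec (fun _ => Nat) (col2_0) (col2_s_1_3 c) (Nat.ble 1 c)
noncomputable def col2_s_3_5 (c : Nat) : Nat := @Bool.rec (fun _ => Nat) (col2_3) (col2_4) (Nat.ble 4 c)
noncomputable def col2_s_5_7 (c : Nat) : Nat := @Bool.rec (fun _ => Nat) (col2_5) (col2_6) (Nat.ble 6 c)
noncomputable def col2_s_3_7 (c : Nat) : Nat := @Bool.rec (fun _ => Nat) (col2_s_3_5 c) (col2_s_5_7 c) (Nat.ble 5 c)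
noncomputable def col2_s_0_7 (c : Nat) : Nat := @Bool.rec (fun _ => Nat) (col2_s_0_3 c) (col2_s_3_7 c) (Nat.ble 3 c)
noncomputable def col2_s_7_9 (c : Nat) : Nat := @Bool.rec (fun _ => Nat) (col2_7) (col2_8) (Nat.ble 8 c)
noncomputable def col2_s_9_11 (c : Nat) : Nat := @Bool.rec (fun _ => Nat) (col2_9) (col2_10) (Nat.ble 10 c)
noncomputable def col2_s_7_11 (c : Nat) : Nat := @Bool.rec (fun _ => Nat) (col2_s_7_9 c) (col2_s_9_11 c) (Nat.ble 9 c)
noncomputable def col2_s_11_13 (c : Nat) : Nat := @Bool.rec (fun _ => Nat) (col2_11) (col2_12) (Nat.ble 12 c)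
noncomputable def col2_s_13_15 (c : Nat) : Nat := @Bool.rec (fun _ => Nat) (col2_13) (col2_14) (Nat.ble 14 c)
noncomputable def col2_s_11_15 (c : Nat) : Nat := @Bool.rec (fun _ => Nat) (col2_s_11_13 c) (col2_s_13_15 c) (Nat.ble 13 c)
noncomputable def col2_s_7_15 (c : Nat) : Nat := @Bool.rec (fun _ => Nat) (col2_s_7_11 c) (col2_s_11_15 c) (Nat.ble 11 c)
noncomputable def col2_s_0_15 (c : Nat) : Nat := @Bool.rec (fun _ => Nat) (col2_s_0_7 c) (col2_s_7_15 c) (Nat.ble 7 c)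
noncomputable def col2_s_16_18 (c : Nat) : Nat := @Bool.rec (fun _ => Nat) (col2_16) (col2_17) (Nat.ble 17 c)
noncomputable def col2_s_15_18 (c : Nat) : Nat := @Bool.rec (fun _ => Nat) (col2_15) (col2_s_16_18 c) (Nat.ble 16 c)
noncomputable def col2_s_18_20 (c : Nat) : Nat := @Bool.rec (fun _ => Nat) (col2_18) (col2_19) (Nat.ble 19 c)
noncomputable def col2_s_20_22 (c : Nat) : Nat := @Bool.rec (fun _ => Nat) (col2_20) (col2_21) (Nat.ble 21 c)
noncomputable def col2_s_18_22 (c : Nat) : Nat := @Bool.rec (fun _ => Nat) (col2_s_18_20 c) (col2_s_20_22 c) (Nat.ble 20 c)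
noncomputable def col2_s_15_22 (c : Nat) : Nat := @Bool.rec (fun _ => Nat) (col2_s_15_18 c) (col2_s_18_22 c) (Nat.ble 18 c)
noncomputable def col2_s_22_24 (c : Nat) : Nat := @Bool.rec (fun _ => Nat) (col2_22) (col2_23) (Nat.ble 23 c)
noncomputable def col2_s_24_26 (c : Nat) : Nat := @Bool.rec (fun _ => Nat) (col2_24) (col2_25) (Nat.ble 25 c)
noncomputable def col2_s_22_26 (c : Nat) : Nat := @Bool.rec (fun _ => Nat) (col2_s_22_24 c) (col2_s_24_26 c) (Nat.ble 24 c)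
noncomputable def col2_s_26_28 (c : Nat) : Nat := @Bool.rec (fun _ => Nat) (col2_26) (col2_27) (Nat.ble 27 c)
noncomputable def col2_s_28_30 (c : Nat) : Nat := @Bool.rec (fun _ => Nat) (col2_28) (col2_29) (Nat.ble 29 c)
noncomputable def col2_s_26_30 (c : Nat) : Nat := @Bool.rec (fun _ => Nat) (col2_s_26_28 c) (col2_s_28_30 c) (Nat.ble 28 c)
noncomputable def col2_s_22_30 (c : Nat) : Nat := @Bool.rec (fun _ => Nat) (col2_s_22_26 c) (col2_s_26_30 c) (Nat.ble 26 c)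
noncomputable def col2_s_15_30 (c : Nat) : Nat := @Bool.rec (fun _ => Nat) (col2_s_15_22 c) (col2_s_22_30 c) (Nat.ble 22 c)
noncomputable def col2_s_0_30 (c : Nat) : Nat := @Bool.rec (fun _ => Nat) (col2_s_0_15 c) (col2_s_15_30 c) (Nat.ble 15 c)
noncomputable def col2 (i : Nat) : Nat := rdw 17 131071 (col2_s_0_30 (Nat.shiftRight i 12)) (Nat.land i 4095)
noncomputable def col3_s_1_3 (c : Nat) : Nat := @Bool.rec (fun _ => Nat) (col3_1) (col3_2) (Nat.ble 2 c)
noncomputable def col3_s_0_3 (c : Nat) : Nat := @Bool.rec (fun _ => Nat) (col3_0) (col3_s_1_3 c) (Nat.ble 1 c)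
noncomputable def col3_s_3_5 (c : Nat) : Nat := @Bool.rec (fun _ => Nat) (col3_3) (col3_4) (Nat.ble 4 c)
noncomputable def col3_s_5_7 (c : Nat) : Nat := @Bool.rec (fun _ => Nat) (col3_5) (col3_6) (Nat.ble 6 c)
noncomputable def col3_s_3_7 (c : Nat) : Nat := @Bool.rec (fun _ => Nat) (col3_s_3_5 c) (col3_s_5_7 c) (Nat.ble 5 c)
noncomputable def col3_s_0_7 (c : Nat) : Nat := @Bool.rec (fun _ => Nat) (col3_s_0_3 c) (col3_s_3_7 c) (Nat.ble 3 c)
noncomputable def col3_s_7_9 (c : Nat) : Nat := @Bool.rec (fun _ => Nat) (col3_7) (col3_8) (Nat.ble 8 c)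
noncomputable def col3_s_9_11 (c : Nat) : Nat := @Bool.rec (fun _ => Nat) (col3_9) (col3_10) (Nat.ble 10 c)
noncomputable def col3_s_7_11 (c : Nat) : Nat := @Bool.rec (fun _ => Nat) (col3_s_7_9 c) (col3_s_9_11 c) (Nat.ble 9 c)
noncomputable def col3_s_11_13 (c : Nat) : Nat := @Bool.rec (fun _ => Nat) (col3_11) (col3_12) (Nat.ble 12 c)
noncomputable def col3_s_13_15 (c : Nat) : Nat := @Bool.rec (fun _ => Nat) (col3_13) (col3_14) (Nat.ble 14 c)
noncomputable def col3_s_11_15 (c : Nat) : Nat := @Bool.rec (fun _ => Nat) (col3_s_11_13 c) (col3_s_13_15 c) (Nat.ble 13 c)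
noncomputable def col3_s_7_15 (c : Nat) : Nat := @Bool.rec (fun _ => Nat) (col3_s_7_11 c) (col3_s_11_15 c) (Nat.ble 11 c)
noncomputable def col3_s_0_15 (c : Nat) : Nat := @Bool.rec (fun _ => Nat) (col3_s_0_7 c) (col3_s_7_15 c) (Nat.ble 7 c)
noncomputable def col3_s_16_18 (c : Nat) : Nat := @Bool.rec (fun _ => Nat) (col3_16) (col3_17) (Nat.ble 17 c)
noncomputable def col3_s_15_18 (c : Nat) : Nat := @Bool.rec (fun _ => Nat) (col3_15) (col3_s_16_18 c) (Nat.ble 16 c)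
noncomputable def col3_s_18_20 (c : Nat) : Nat := @Bool.rec (fun _ => Nat) (col3_18) (col3_19) (Nat.ble 19 c)
noncomputable def col3_s_20_22 (c : Nat) : Nat := @Bool.rec (fun _ => Nat) (col3_20) (col3_21) (Nat.ble 21 c)
noncomputable def col3_s_18_22 (c : Nat) : Nat := @Bool.rec (fun _ => Nat) (col3_s_18_20 c) (col3_s_20_22 c) (Nat.ble 20 c)
noncomputable def col3_s_15_22 (c : Nat) : Nat := @Bool.rec (fun _ => Nat) (col3_s_15_18 c) (col3_s_18_22 c) (Nat.ble 18 c)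
noncomputable def col3_s_22_24 (c : Nat) : Nat := @Bool.rec (fun _ => Nat) (col3_22) (col3_23) (Nat.ble 23 c)
noncomputable def col3_s_24_26 (c : Nat) : Nat := @Bool.rec (fun _ => Nat) (col3_24) (col3_25) (Nat.ble 25 c)
noncomputable def col3_s_22_26 (c : Nat) : Nat := @Bool.rec (fun _ => Nat) (col3_s_22_24 c) (col3_s_24_26 c) (Nat.ble 24 c)
noncomputable def col3_s_26_28 (c : Nat) : Nat := @Bool.rec (fun _ => Nat) (col3_26) (col3_27) (Nat.ble 27 c)
noncomputable def col3_s_28_30 (c : Nat) : Nat := @Bool.rec (fun _ => Nat) (col3_28) (col3_29) (Nat.ble 29 c)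
noncomputable def col3_s_26_30 (c : Nat) : Nat := @Bool.rec (fun _ => Nat) (col3_s_26_28 c) (col3_s_28_30 c) (Nat.ble 28 c)
noncomputable def col3_s_22_30 (c : Nat) : Nat := @Bool.rec (fun _ => Nat) (col3_s_22_26 c) (col3_s_26_30 c) (Nat.ble 26 c)
noncomputable def col3_s_15_30 (c : Nat) : Nat := @Bool.rec (fun _ => Nat) (col3_s_15_22 c) (col3_s_22_30 c) (Nat.ble 22 c)
noncomputable def col3_s_0_30 (c : Nat) : Nat := @Bool.rec (fun _ => Nat) (col3_s_0_15 c) (col3_s_15_30 c) (Nat.ble 15 c)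
noncomputable def col3 (i : Nat) : Nat := rdw 17 131071 (col3_s_0_30 (Nat.shiftRight i 12)) (Nat.land i 4095)
noncomputable def tblF (i x : Nat) : Nat := @Bool.rec (fun _ => Nat) (@Bool.rec (fun _ => Nat) (col0 i) (col1 i) (Nat.ble 1 x)) (@Bool.rec (fun _ => Nat) (col2 i) (col3 i) (Nat.ble 3 x)) (Nat.ble 2 x)

noncomputable def D : Log :=
  { k := 4, inv := PM11p.invR, nR := 0, rBase := fun _ => 0, rLen := fun _ => 0, RR := fun _ => 0,
    M := 0, nB := 0, F := 0, src := fun _ => 0, lt := fun _ => 0, tgt := fun _ => 0, rho := fun _ => 0, rot := fun _ => 0,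
    off := fun _ => 0, len := fun _ => 0, pf := fun _ => 0, pd := fun _ => 0 }

noncomputable def T : Tab :=
  { N := 122760, nameOf := fun _ => 0, tbl := tblF, finF := fun _ _ => 0, finD := fun _ _ => 0, cls := fun _ => 0 }

def rw0 : List Nat := [0, 0]
def rw1 : List Nat := [2, 2, 2, 2]
def rw2 : List Nat := [0, 2, 0, 2, 0, 2, 0, 2, 0, 2, 0, 2, 0, 2, 0, 2, 0, 2, 0, 2, 0, 2]
def rw3 : List Nat := [0, 2, 2, 0, 2, 2, 0, 2, 2, 0, 2, 2, 0, 2, 2, 0, 2, 2]
def rw4 : List Nat := [0, 2, 0, 2, 0, 3, 0, 2, 0, 2, 2, 0, 3, 0, 2, 0, 3, 0, 3]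
def realLit : List (List Nat) := [rw0, rw1, rw2, rw3, rw4]
noncomputable def actR0 (i : Nat) : Nat := col1 (col1 (i))
theorem actR0_eq (i : Nat) : actR0 i = Tab.act T D rw0 i := rfl
noncomputable def actR1 (i : Nat) : Nat := col3 (col3 (col3 (col3 (i))))
theorem actR1_eq (i : Nat) : actR1 i = Tab.act T D rw1 i := rfl
noncomputable def actR2 (i : Nat) : Nat := col1 (col3 (col1 (col3 (col1 (col3 (col1 (col3 (col1 (col3 (col1 (col3 (col1 (col3 (col1 (col3 (col1 (col3 (col1 (col3 (col1 (col3 (i))))))))))))))))))))))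
theorem actR2_eq (i : Nat) : actR2 i = Tab.act T D rw2 i := rfl
noncomputable def actR3 (i : Nat) : Nat := col1 (col3 (col3 (col1 (col3 (col3 (col1 (col3 (col3 (col1 (col3 (col3 (col1 (col3 (col3 (col1 (col3 (col3 (i))))))))))))))))))
theorem actR3_eq (i : Nat) : actR3 i = Tab.act T D rw3 i := rfl
noncomputable def actR4 (i : Nat) : Nat := col1 (col3 (col1 (col3 (col1 (col2 (col1 (col3 (col1 (col3 (col3 (col1 (col2 (col1 (col3 (col1 (col2 (col1 (col2 (i)))))))))))))))))))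
theorem actR4_eq (i : Nat) : actR4 i = Tab.act T D rw4 i := rfl

end Cfsg.Agent.Lib.Helper4.TCD.ONM11
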