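import Cfsg.Agent.Lib.Helper4.TCD_ONM11_Acc

namespace Cfsg.Agent.Lib.Helper4.TCD.ONM11

open Cfsg.Agent.Lib.Helper4.TC

set_option maxRecDepth 100000
set_option Elab.async false

theorem c_let : allBelow D.letOK 4 = true := by decide +kernel
theorem c_real : PM11p.P.real = realLit := by decide +kernel
theorem c_perm_0 : allGrid (T.permOK1 D) 0 7500 4 = true := by decide +kernel
theorem c_perm_1 : allGrid (T.permOK1 D) 7500 7500 4 = true := by decide +kernel
theorem c_perm_2 : allGrid (T.permOK1 D) 15000 7500 4 = true := by decide +kernel
theorem c_perm_3 : allGrid (T.permOK1 D) 22500 7500 4 = true := by decide +kernel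
theorem c_perm_4 : allGrid (T.permOK1 D) 30000 7500 4 = true := by decide +kernel
theorem c_perm_5 : allGrid (T.permOK1 D) 37500 7500 4 = true := by decide +kernel
theorem c_perm_6 : allGrid (T.permOK1 D) 45000 7500 4 = true := by decide +kernel
theorem c_perm_7 : allGrid (T.permOK1 D) 52500 7500 4 = true := by decide +kernel
theorem c_perm_8 : allGrid (T.permOK1 D) 60000 7500 4 = true := by decide +kernel
theorem c_perm_9 : allGrid (T.permOK1 D) 67500 7500 4 = true := by decide +kernel
theorem c_perm_10 : allGrid (T.permOK1 D) 75000 7500 4 = true := by decide +kernel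
theorem c_perm_11 : allGrid (T.permOK1 D) 82500 7500 4 = true := by decide +kernel
theorem c_perm_12 : allGrid (T.permOK1 D) 90000 7500 4 = true := by decide +kernel
theorem c_perm_13 : allGrid (T.permOK1 D) 97500 7500 4 = true := by decide +kernel
theorem c_perm_14 : allGrid (T.permOK1 D) 105000 7500 4 = true := by decide +kernel
theorem c_perm_15 : allGrid (T.permOK1 D) 112500 7500 4 = true := by decide +kernel
theorem c_perm_16 : allGrid (T.permOK1 D) 120000 2760 4 = true := by decide +kernel
theorem c_act0_0 : allRange (fun i => Nat.beq (actR0 i) i) 0 30000 = true := by decide +kernel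
theorem c_act0_1 : allRange (fun i => Nat.beq (actR0 i) i) 30000 30000 = true := by decide +kernel
theorem c_act0_2 : allRange (fun i => Nat.beq (actR0 i) i) 60000 30000 = true := by decide +kernel
theorem c_act0_3 : allRange (fun i => Nat.beq (actR0 i) i) 90000 30000 = true := by decide +kernel
theorem c_act0_4 : allRange (fun i => Nat.beq (actR0 i) i) 120000 2760 = true := by decide +kernel
theorem c_act1_0 : allRange (fun i => Nat.beq (actR1 i) i) 0 15000 = true := by decide +kernel
theorem c_act1_1 : allRange (fun i => Nat.beq (actR1 i) i) 15000 15000 = true := by decide +kernel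
theorem c_act1_2 : allRange (fun i => Nat.beq (actR1 i) i) 30000 15000 = true := by decide +kernel
theorem c_act1_3 : allRange (fun i => Nat.beq (actR1 i) i) 45000 15000 = true := by decide +kernel
theorem c_act1_4 : allRange (fun i => Nat.beq (actR1 i) i) 60000 15000 = true := by decide +kernel
theorem c_act1_5 : allRange (fun i => Nat.beq (actR1 i) i) 75000 15000 = true := by decide +kernel
theorem c_act1_6 : allRange (fun i => Nat.beq (actR1 i) i) 90000 15000 = true := by decide +kernel
theorem c_act1_7 : allRange (fun i => Nat.beq (actR1 i) i) 105000 15000 = true := by decide +kernel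
theorem c_act1_8 : allRange (fun i => Nat.beq (actR1 i) i) 120000 2760 = true := by decide +kernel
theorem c_act2_0 : allRange (fun i => Nat.beq (actR2 i) i) 0 2727 = true := by decide +kernel
theorem c_act2_1 : allRange (fun i => Nat.beq (actR2 i) i) 2727 2727 = true := by decide +kernel
theorem c_act2_2 : allRange (fun i => Nat.beq (actR2 i) i) 5454 2727 = true := by decide +kernel
theorem c_act2_3 : allRange (fun i => Nat.beq (actR2 i) i) 8181 2727 = true := by decide +kernel
theorem c_act2_4 : allRange (fun i => Nat.beq (actR2 i) i) 10908 2727 = true := by decide +kernel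
theorem c_act2_5 : allRange (fun i => Nat.beq (actR2 i) i) 13635 2727 = true := by decide +kernel
theorem c_act2_6 : allRange (fun i => Nat.beq (actR2 i) i) 16362 2727 = true := by decide +kernel
theorem c_act2_7 : allRange (fun i => Nat.beq (actR2 i) i) 19089 2727 = true := by decide +kernel
theorem c_act2_8 : allRange (fun i => Nat.beq (actR2 i) i) 21816 2727 = true := by decide +kernel
theorem c_act2_9 : allRange (fun i => Nat.beq (actR2 i) i) 24543 2727 = true := by decide +kernel
theorem c_act2_10 : allRange (fun i => Nat.beq (actR2 i) i) 27270 2727 = true := by decide +kernel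
theorem c_act2_11 : allRange (fun i => Nat.beq (actR2 i) i) 29997 2727 = true := by decide +kernel
theorem c_act2_12 : allRange (fun i => Nat.beq (actR2 i) i) 32724 2727 = true := by decide +kernel
theorem c_act2_13 : allRange (fun i => Nat.beq (actR2 i) i) 35451 2727 = true := by decide +kernel
theorem c_act2_14 : allRange (fun i => Nat.beq (actR2 i) i) 38178 2727 = true := by decide +kernel
theorem c_act2_15 : allRange (fun i => Nat.beq (actR2 i) i) 40905 2727 = true := by decide +kernel
theorem c_act2_16 : allRange (fun i => Nat.beq (actR2 i) i) 43632 2727 = true := by decide +kernel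
theorem c_act2_17 : allRange (fun i => Nat.beq (actR2 i) i) 46359 2727 = true := by decide +kernel
theorem c_act2_18 : allRange (fun i => Nat.beq (actR2 i) i) 49086 2727 = true := by decide +kernel
theorem c_act2_19 : allRange (fun i => Nat.beq (actR2 i) i) 51813 2727 = true := by decide +kernel
theorem c_act2_20 : allRange (fun i => Nat.beq (actR2 i) i) 54540 2727 = true := by decide +kernel

end Cfsg.Agent.Lib.Helper4.TCD.ONM11
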