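namespace Cfsg.Agent.Lib.Helper4.TCD.ONX

noncomputable def Atab_0 : Nat := nat_lit 0x70006000500040003000200010000000800180198044804b36598042865a800381154655811c855b85678045800c800780c6808a8189802981de829280d0816184a8814d8096819d804e82af84a0834f80ae8291476f23af55af682e236e65a8656743e9831780ea81ad8025825882a283e481c880ec829383d4822b8966696b5b65742d232d13ec03eb29aa532a1a6167a975e928e91a1e0a1d54a875a827e8522301e2421f619d31dc319b21d8219721561214021351d0208f514e708a0089224870c96bca5b8a4b4a1b0a0aca6a895a494a0939c969887947090778c648861846080677c517850745670456c446841644660355c345833543150304c364825442440273c163815341430132c122810241720061c051804140310020c0108000408000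
noncomputable def Btab_0 : Nat := nat_lit 0xc10c057002013be10042f2300cbb0c01ee82001b90807ae0201db61021ed2309eafa80229d131b9f40a6e72509d9b0c23266308793b02464450808f8c21e3830878c1021e28409d879424214509e8218275fc60907c94231ea408c7814279d84095748c231cc309e7110275be30906d90241ae408c6a0c2058ce31c618c24d8030815e8c2416e609159904396031055610001504025528c41142418e4e9062932410f4b0c205263093480c231184093448c2050a409e4090274f280393b0c274e6309e380c274da30933490210cc3180318c048c0308f2e8c40cb431962b8c2eca83105288c0009c3196258c094903092228c4108431961f8c2ec7831a51c8c23c6c3103198c448603100168c43c543180138c428483109108c4143c31040d8c40c3031960a8c2ec2431a5078c418183000048c2580c303b018c01800313b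
noncomputable def Ptab_0 : Nat := nat_lit 0xb8253d41ef57b2f85d0505be62710854440f058900807138605a1c081943c043583c2a0c340402df30c0b059f00a02c25f00a048ce0c3419c18680802c260c3419c18680802c25f00a02c25f00a048cde05957c140634814045703043f06cfe1c0ddfafa61bf06cfe1c3f06cfe1c0ccf6f5049e5e62b273bde62b1ebadea035f0b9cc6d7aba878e44abb486e57035138af74221c6e92eb4ca2e37496d76c16ab84143c7035164487121dbe661037858426e0e914dd20b5c34da34b29b25d69b39b25b5db31b2142f175a66429a4d1a896b100180f402d590d3129ada4c72e340442212a218aca2f178b6bb3e178281d2f1655e2d2e16d76412e05036502aaf45a4e2aaf456915f8603e755d27ca8b6181696844522a5620e3bac0c681581b95a48581c156a8529281c1154294949d550a0dea82b1c5509b52a9898984ba7944562da88946c50168ce212d0503258339a8ac140f950c44d2a048324223a38a45146148c22f29189043c1fa10747243140ca25281845a50311f88c0c08910180f1f028223a050347008078d8100d180181e2e030345806058a0c0621301822200203c3c1533870040b0a04cca62080142007300480407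
noncomputable def RRtab_0 : Nat := nat_lit 0x77776666555544443333222201011010165156165151651561651513414313414134143134143451345134513451345134513451345134513451504045414150404541414050545151405054515127545454542754545454270027007777676767676767666657575757565656565656555547474747464646464545454545454545454545454545454544443737373736363636353535353434343434343333272727272626262625252525242424242323232323232222541654167777666655554444333322220101101050560650560505606505604043034043040430340430054305430543054305430543054305430543054304045414150404541415050545151405054515144545454572454545457211721172777776767676767666667575757565656565656555557474747464646464545454545454545454545454545454544444737373736363636353535353434343434343333372727272626262625252525242424242323232323232222260456045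
noncomputable def rBtab_0 : Nat := nat_lit 0xbb2e8b92e0b72d8b52d0aeaa49f268952408e2348a22487210832047f1dc761d0721c06d1b06a1a066190611805e1745c16c5a1645815c561424b1043c0dc320c02f0b02b0a4260942308419060160501203c0e0300a0200600c02000
noncomputable def rLtab_0 : Nat := nat_lit 0x42108421096ba294a208c22184424044210c22108430882108421084b5d14a51046110c221202210861108421844
noncomputable def nameTab_0 : Nat := nat_lit 0x0
noncomputable def col0_0 : Nat := nat_lit 0x0
noncomputable def col1_0 : Nat := nat_lit 0x0
noncomputable def col2_0 : Nat := nat_lit 0x0
noncomputable def col3_0 : Nat := nat_lit 0x0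
noncomputable def col4_0 : Nat := nat_lit 0x0
noncomputable def col5_0 : Nat := nat_lit 0x0
noncomputable def col6_0 : Nat := nat_lit 0x0
noncomputable def col7_0 : Nat := nat_lit 0x0
noncomputable def finTab_0 : Nat := nat_lit 0x914823d1c8d4622d14
noncomputable def clsTab_0 : Nat := nat_lit 0x0

end Cfsg.Agent.Lib.Helper4.TCD.ONX
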