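import Cfsg.Agent.Lib.Helper4.TCD_S44pA_Acc

namespace Cfsg.Agent.Lib.Helper4.TCD.S44pA

open Cfsg.Agent.Lib.Helper4.TC

set_option maxRecDepth 100000
set_option Elab.async false

theorem c_zero : D.zeroOK = true := by decide +kernel
theorem c_base : allBelow D.baseOK 6 = true := by decide +kernel
theorem c_let : allBelow D.letOK 6 = true := by decide +kernel
theorem c_cls0 : T.cls 0 = 0 := by decide +kernel
theorem c_name0 : T.nameOf 0 = 0 := by decide +kernel
theorem c_tab : D.relTabOK 0 (baseRels 6 PS44p.invR PS44p.P.real subs ++ (baseRels 6 PS44p.invR PS44p.P.real subs).map (invWord D.inv)) = true := by decide +kernel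
theorem c_real : PS44p.P.real = realLit := by decide +kernel
theorem c_subfix : subs.all (fun u => Nat.beq (Tab.act T D u 0) 0) = true := by decide +kernel
theorem c_subs : subs.all (fun u => u.all (fun x => Nat.ble (Nat.succ x) 6)) = true := by decide +kernel
theorem c_names_0 : allRange D.nameOK 1 29016 = true := by decide +kernel
theorem c_cls_0 : allRange (T.clsOK D) 1 15000 = true := by decide +kernel
theorem c_cls_1 : allRange (T.clsOK D) 15001 14016 = true := by decide +kernel
theorem c_rep_0 : allRange (T.repOK D) 0 85 = true := by decide +kernel
theorem c_rel_0 : allRange D.relOK 29023 5127 = true := by decide +kernel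
theorem c_rel_1 : allRange D.relOK 34150 3868 = true := by decide +kernel
theorem c_rel_2 : allRange D.relOK 38018 2826 = true := by decide +kernel
theorem c_rel_3 : allRange D.relOK 40844 2808 = true := by decide +kernel
theorem c_rel_4 : allRange D.relOK 43652 2243 = true := by decide +kernel
theorem c_rel_5 : allRange D.relOK 45895 2196 = true := by decide +kernel
theorem c_rel_6 : allRange D.relOK 48091 2176 = true := by decide +kernel
theorem c_rel_7 : allRange D.relOK 50267 2067 = true := by decide +kernel
theorem c_rel_8 : allRange D.relOK 52334 3015 = true := by decide +kernel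
theorem c_rel_9 : allRange D.relOK 55349 3317 = true := by decide +kernel
theorem c_rel_10 : allRange D.relOK 58666 2998 = true := by decide +kernel
theorem c_rel_11 : allRange D.relOK 61664 2755 = true := by decide +kernel
theorem c_rel_12 : allRange D.relOK 64419 2667 = true := by decide +kernel
theorem c_rel_13 : allRange D.relOK 67086 2553 = true := by decide +kernel
theorem c_rel_14 : allRange D.relOK 69639 75 = true := by decide +kernel
theorem c_fin_0 : allGrid (T.finOK D) 0 85 6 = true := by decide +kernel
theorem c_perm_0 : allGrid (T.permOK1 D) 0 85 6 = true := by decide +kernel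
theorem c_act0_0 : allRange (fun i => Nat.beq (actR0 i) i) 0 85 = true := by decide +kernel
theorem c_act1_0 : allRange (fun i => Nat.beq (actR1 i) i) 0 85 = true := by decide +kernel
theorem c_act2_0 : allRange (fun i => Nat.beq (actR2 i) i) 0 85 = true := by decide +kernel
theorem c_act3_0 : allRange (fun i => Nat.beq (actR3 i) i) 0 85 = true := by decide +kernel
theorem c_act4_0 : allRange (fun i => Nat.beq (actR4 i) i) 0 85 = true := by decide +kernel
theorem c_act5_0 : allRange (fun i => Nat.beq (actR5 i) i) 0 85 = true := by decide +kernel
theorem c_act6_0 : allRange (fun i => Nat.beq (actR6 i) i) 0 85 = true := by decide +kernel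
theorem c_act7_0 : allRange (fun i => Nat.beq (actR7 i) i) 0 85 = true := by decide +kernel
theorem c_act8_0 : allRange (fun i => Nat.beq (actR8 i) i) 0 85 = true := by decide +kernel
theorem c_oinv0_0 : allRange (Tab.orbInvOK T D subs 1 21) 1 20 = true := by decide +kernel
theorem c_otree0_0 : allRange (Tab.orbTreeOK T D subs oparTab olabTab 1) 2 19 = true := by decide +kernel
theorem c_oinv1_0 : allRange (Tab.orbInvOK T D subs 21 85) 21 64 = true := by decide +kernel
theorem c_otree1_0 : allRange (Tab.orbTreeOK T D subs oparTab olabTab 21) 22 63 = true := by decide +kernel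

end Cfsg.Agent.Lib.Helper4.TCD.S44pA
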