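namespace Cfsg.Agent.Lib.Helper4.TCD.S44pL

noncomputable def st6_0 : Nat := nat_lit 0x2a912d74262e10c4a8a1e252b24dcf347e84a3a5d3a32d38c20994e95138663b65ad57c69aedd377b0563f60ce2a6530df3244e55a43cd20090c14a0d143c208021c910062c88c1c4c100
noncomputable def st7_0 : Nat := nat_lit 0x4b6cd5a4188e95b7a50235362b10cc3d4131548753c954a4d4e50c171644727a35b457a53350fca7a82418786e6b8845dfb38b0d9397cee39104242881c0c8040c3ca0c144c90d0e04580
noncomputable def st8_0 : Nat := nat_lit 0x1c86990cd3acda309c69fca725d1498144dd38879ecf8a652547c6195096acaa85f496b16a5954c4eba3476cee14174dde384120fa34aa561320440941c2830b043c6850e242080630900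
noncomputable def st9_0 : Nat := nat_lit 0x3880ba134792e828672221a4895dbfa68504392dde9d447e39c3c8d5cd9cd564c5e9969564a4b304f48bb9311689b32fa7d48329d368ca98902804913143c48218383040e34405062c880
noncomputable def st10_0 : Nat := nat_lit 0x4f9732544a901ed2a745a4790c5cd05eed74e5aca6b784aa2b578a1c494efa3258705fa342e9036667d81d58715a94c692223078b9b3254b142634790222490a0c307050e2c4030804100
noncomputable def st11_0 : Nat := nat_lit 0x549b4a8c39efe9cc7b299c663222afa0e9c2d9cfa5b65509cc150f172792ca3ab88d602260ed23768790a938b129d3499023367cc982e58a9426449101a20786142c28e0e304820210180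
noncomputable def st12_0 : Nat := nat_lit 0x15692a6402d113d1934a5b18d1cc4e5aa9ad05e659a874ecdae6cde0d37a5e42c7ee21b0450933c9aa519e4aace1f4090d217275f45653ea142620710124428304107920e0468a182c300
noncomputable def st13_0 : Nat := nat_lit 0x329c59cd08b25a527afa9ba6ec4da7970552f80621b68ea0cc676b9aad885dc247ef26ab3909148667929d406931f468582c9ea68caa930a942608090084418b143068f0e189081214700
noncomputable def st14_0 : Nat := nat_lit 0x179330cd0374d696866272876e27b37aaa13f5f2a5ae6f228b18ef1acd4f5231d80d9a1c5904d3a88852b03ea4f23409922b8a89cbe6548a942614710100448a182c1840e1810f1a48880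
noncomputable def levTab_0 : Nat := nat_lit 0x1238d22646c0
noncomputable def betaTab_0 : Nat := nat_lit 0x12a40380
noncomputable def nodeTab_0 : Nat := nat_lit 0x482891e0045a071e7400e5c086ad042520810d03057c14214000de8b04000013802a2e0349e0ba2b00cf5a0663c1d29e8c8ac833e8425cad1ec9f0c36c81199824c2e1e5c9002c000153000a19004c00020dc4148c049b80049c8022dc6104e247a604397021ab010c48245970c2968212e018800003bc0019c830a881042c181b406092020240054652e9b7974a739a2f205045527b8973a0399af4b4c4f525b68129e4b92c55484e563bd7119ecf8ade7c47d2e1bc5509f2a8298ac07d01fb264f9a4b7ae67bc68a9db254e982a72a6a387b1dbc10cd984f6ad8b34732d9ada8c949562f16307b017bc70b9a405aa0aac7c715a6a8a9caa52c4b289b113b08099c174ae63a4632d1b23889e1c42d9c2092e8fb62e79c4f3aa2a1c7d3cdcc3a69b3232c18985d50ba22a588802b059948c089b02e4989c2300610625c7b0643a4861ae458c41505b4162a40613186088c283b216198b20b1010468041b016090950200000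
noncomputable def offTab_0 : Nat := nat_lit 0x7c6c695500
noncomputable def nTab_0 : Nat := nat_lit 0xc200ca55
noncomputable def rootTab_0 : Nat := nat_lit 0x300

end Cfsg.Agent.Lib.Helper4.TCD.S44pL
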