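import Cfsg.Agent.Lib.Helper4.TC7
import Cfsg.Agent.Lib.Helper4.TC8
import Cfsg.Agent.Lib.Helper4.TCP_S44p
import Cfsg.Agent.Lib.Helper4.TCD_S44pU1_D0
import Cfsg.Agent.Lib.Helper4.TCD_S44pU1_D1
import Cfsg.Agent.Lib.Helper4.TCD_S44pU1_D2
import Cfsg.Agent.Lib.Helper4.TCD_S44pU1_D3
import Cfsg.Agent.Lib.Helper4.TCD_S44pU1_D4
import Cfsg.Agent.Lib.Helper4.TCD_S44pU1_D5
import Cfsg.Agent.Lib.Helper4.TCD_S44pU1_D6
import Cfsg.Agent.Lib.Helper4.TCD_S44pU1_D7
import Cfsg.Agent.Lib.Helper4.TCD_S44pU1_D8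
import Cfsg.Agent.Lib.Helper4.TCD_S44pU1_D9
import Cfsg.Agent.Lib.Helper4.TCD_S44pU1_D10
import Cfsg.Agent.Lib.Helper4.TCD_S44pU1_D11
import Cfsg.Agent.Lib.Helper4.TCD_S44pU1_D12
import Cfsg.Agent.Lib.Helper4.TCD_S44pU1_D13
import Cfsg.Agent.Lib.Helper4.TCD_S44pU1_D14
import Cfsg.Agent.Lib.Helper4.TCD_S44pU1_D15
import Cfsg.Agent.Lib.Helper4.TCD_S44pU1_D16
import Cfsg.Agent.Lib.Helper4.TCD_S44pU1_D17
import Cfsg.Agent.Lib.Helper4.TCD_S44pU1_D18
import Cfsg.Agent.Lib.Helper4.TCD_S44pU1_D19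
import Cfsg.Agent.Lib.Helper4.TCD_S44pU1_D20
import Cfsg.Agent.Lib.Helper4.TCD_S44pU1_D21
import Cfsg.Agent.Lib.Helper4.TCD_S44pU1_D22

namespace Cfsg.Agent.Lib.Helper4.TCD.S44pU1

open Cfsg.Agent.Lib.Helper4.TC

set_option maxRecDepth 100000

noncomputable def Atab_s_1_3 (c : Nat) : Nat := @Bool.rec (fun _ => Nat) (Atab_1) (Atab_2) (Nat.ble 2 c)
noncomputable def Atab_s_0_3 (c : Nat) : Nat := @Bool.rec (fun _ => Nat) (Atab_0) (Atab_s_1_3 c) (Nat.ble 1 c)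
noncomputable def Atab_s_3_5 (c : Nat) : Nat := @Bool.rec (fun _ => Nat) (Atab_3) (Atab_4) (Nat.ble 4 c)
noncomputable def Atab_s_5_7 (c : Nat) : Nat := @Bool.rec (fun _ => Nat) (Atab_5) (Atab_6) (Nat.ble 6 c)
noncomputable def Atab_s_3_7 (c : Nat) : Nat := @Bool.rec (fun _ => Nat) (Atab_s_3_5 c) (Atab_s_5_7 c) (Nat.ble 5 c)
noncomputable def Atab_s_0_7 (c : Nat) : Nat := @Bool.rec (fun _ => Nat) (Atab_s_0_3 c) (Atab_s_3_7 c) (Nat.ble 3 c)
noncomputable def Atab_s_7_9 (c : Nat) : Nat := @Bool.rec (fun _ => Nat) (Atab_7) (Atab_8) (Nat.ble 8 c)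
noncomputable def Atab_s_9_11 (c : Nat) : Nat := @Bool.rec (fun _ => Nat) (Atab_9) (Atab_10) (Nat.ble 10 c)
noncomputable def Atab_s_7_11 (c : Nat) : Nat := @Bool.rec (fun _ => Nat) (Atab_s_7_9 c) (Atab_s_9_11 c) (Nat.ble 9 c)
noncomputable def Atab_s_11_13 (c : Nat) : Nat := @Bool.rec (fun _ => Nat) (Atab_11) (Atab_12) (Nat.ble 12 c)
noncomputable def Atab_s_13_15 (c : Nat) : Nat := @Bool.rec (fun _ => Nat) (Atab_13) (Atab_14) (Nat.ble 14 c)
noncomputable def Atab_s_11_15 (c : Nat) : Nat := @Bool.rec (fun _ => Nat) (Atab_s_11_13 c) (Atab_s_13_15 c) (Nat.ble 13 c)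
noncomputable def Atab_s_7_15 (c : Nat) : Nat := @Bool.rec (fun _ => Nat) (Atab_s_7_11 c) (Atab_s_11_15 c) (Nat.ble 11 c)
noncomputable def Atab_s_0_15 (c : Nat) : Nat := @Bool.rec (fun _ => Nat) (Atab_s_0_7 c) (Atab_s_7_15 c) (Nat.ble 7 c)
noncomputable def Atab_s_16_18 (c : Nat) : Nat := @Bool.rec (fun _ => Nat) (Atab_16) (Atab_17) (Nat.ble 17 c)
noncomputable def Atab_s_15_18 (c : Nat) : Nat := @Bool.rec (fun _ => Nat) (Atab_15) (Atab_s_16_18 c) (Nat.ble 16 c)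
noncomputable def Atab_s_18_20 (c : Nat) : Nat := @Bool.rec (fun _ => Nat) (Atab_18) (Atab_19) (Nat.ble 19 c)
noncomputable def Atab_s_20_22 (c : Nat) : Nat := @Bool.rec (fun _ => Nat) (Atab_20) (Atab_21) (Nat.ble 21 c)
noncomputable def Atab_s_18_22 (c : Nat) : Nat := @Bool.rec (fun _ => Nat) (Atab_s_18_20 c) (Atab_s_20_22 c) (Nat.ble 20 c)
noncomputable def Atab_s_15_22 (c : Nat) : Nat := @Bool.rec (fun _ => Nat) (Atab_s_15_18 c) (Atab_s_18_22 c) (Nat.ble 18 c)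
noncomputable def Atab_s_22_24 (c : Nat) : Nat := @Bool.rec (fun _ => Nat) (Atab_22) (Atab_23) (Nat.ble 23 c)
noncomputable def Atab_s_24_26 (c : Nat) : Nat := @Bool.rec (fun _ => Nat) (Atab_24) (Atab_25) (Nat.ble 25 c)
noncomputable def Atab_s_22_26 (c : Nat) : Nat := @Bool.rec (fun _ => Nat) (Atab_s_22_24 c) (Atab_s_24_26 c) (Nat.ble 24 c)
noncomputable def Atab_s_26_28 (c : Nat) : Nat := @Bool.rec (fun _ => Nat) (Atab_26) (Atab_27) (Nat.ble 27 c)
noncomputable def Atab_s_28_30 (c : Nat) : Nat := @Bool.rec (fun _ => Nat) (Atab_28) (Atab_29) (Nat.ble 29 c)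
noncomputable def Atab_s_26_30 (c : Nat) : Nat := @Bool.rec (fun _ => Nat) (Atab_s_26_28 c) (Atab_s_28_30 c) (Nat.ble 28 c)
noncomputable def Atab_s_22_30 (c : Nat) : Nat := @Bool.rec (fun _ => Nat) (Atab_s_22_26 c) (Atab_s_26_30 c) (Nat.ble 26 c)
noncomputable def Atab_s_15_30 (c : Nat) : Nat := @Bool.rec (fun _ => Nat) (Atab_s_15_22 c) (Atab_s_22_30 c) (Nat.ble 22 c)
noncomputable def Atab_s_0_30 (c : Nat) : Nat := @Bool.rec (fun _ => Nat) (Atab_s_0_15 c) (Atab_s_15_30 c) (Nat.ble 15 c)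
noncomputable def Atab_s_31_33 (c : Nat) : Nat := @Bool.rec (fun _ => Nat) (Atab_31) (Atab_32) (Nat.ble 32 c)
noncomputable def Atab_s_30_33 (c : Nat) : Nat := @Bool.rec (fun _ => Nat) (Atab_30) (Atab_s_31_33 c) (Nat.ble 31 c)
noncomputable def Atab_s_33_35 (c : Nat) : Nat := @Bool.rec (fun _ => Nat) (Atab_33) (Atab_34) (Nat.ble 34 c)
noncomputable def Atab_s_35_37 (c : Nat) : Nat := @Bool.rec (fun _ => Nat) (Atab_35) (Atab_36) (Nat.ble 36 c)
noncomputable def Atab_s_33_37 (c : Nat) : Nat := @Bool.rec (fun _ => Nat) (Atab_s_33_35 c) (Atab_s_35_37 c) (Nat.ble 35 c)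
noncomputable def Atab_s_30_37 (c : Nat) : Nat := @Bool.rec (fun _ => Nat) (Atab_s_30_33 c) (Atab_s_33_37 c) (Nat.ble 33 c)
noncomputable def Atab_s_37_39 (c : Nat) : Nat := @Bool.rec (fun _ => Nat) (Atab_37) (Atab_38) (Nat.ble 38 c)
noncomputable def Atab_s_39_41 (c : Nat) : Nat := @Bool.rec (fun _ => Nat) (Atab_39) (Atab_40) (Nat.ble 40 c)
noncomputable def Atab_s_37_41 (c : Nat) : Nat := @Bool.rec (fun _ => Nat) (Atab_s_37_39 c) (Atab_s_39_41 c) (Nat.ble 39 c)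
noncomputable def Atab_s_41_43 (c : Nat) : Nat := @Bool.rec (fun _ => Nat) (Atab_41) (Atab_42) (Nat.ble 42 c)
noncomputable def Atab_s_43_45 (c : Nat) : Nat := @Bool.rec (fun _ => Nat) (Atab_43) (Atab_44) (Nat.ble 44 c)
noncomputable def Atab_s_41_45 (c : Nat) : Nat := @Bool.rec (fun _ => Nat) (Atab_s_41_43 c) (Atab_s_43_45 c) (Nat.ble 43 c)
noncomputable def Atab_s_37_45 (c : Nat) : Nat := @Bool.rec (fun _ => Nat) (Atab_s_37_41 c) (Atab_s_41_45 c) (Nat.ble 41 c)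
noncomputable def Atab_s_30_45 (c : Nat) : Nat := @Bool.rec (fun _ => Nat) (Atab_s_30_37 c) (Atab_s_37_45 c) (Nat.ble 37 c)
noncomputable def Atab_s_45_47 (c : Nat) : Nat := @Bool.rec (fun _ => Nat) (Atab_45) (Atab_46) (Nat.ble 46 c)
noncomputable def Atab_s_47_49 (c : Nat) : Nat := @Bool.rec (fun _ => Nat) (Atab_47) (Atab_48) (Nat.ble 48 c)
noncomputable def Atab_s_45_49 (c : Nat) : Nat := @Bool.rec (fun _ => Nat) (Atab_s_45_47 c) (Atab_s_47_49 c) (Nat.ble 47 c)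
noncomputable def Atab_s_49_51 (c : Nat) : Nat := @Bool.rec (fun _ => Nat) (Atab_49) (Atab_50) (Nat.ble 50 c)
noncomputable def Atab_s_51_53 (c : Nat) : Nat := @Bool.rec (fun _ => Nat) (Atab_51) (Atab_52) (Nat.ble 52 c)
noncomputable def Atab_s_49_53 (c : Nat) : Nat := @Bool.rec (fun _ => Nat) (Atab_s_49_51 c) (Atab_s_51_53 c) (Nat.ble 51 c)
noncomputable def Atab_s_45_53 (c : Nat) : Nat := @Bool.rec (fun _ => Nat) (Atab_s_45_49 c) (Atab_s_49_53 c) (Nat.ble 49 c)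
noncomputable def Atab_s_53_55 (c : Nat) : Nat := @Bool.rec (fun _ => Nat) (Atab_53) (Atab_54) (Nat.ble 54 c)
noncomputable def Atab_s_55_57 (c : Nat) : Nat := @Bool.rec (fun _ => Nat) (Atab_55) (Atab_56) (Nat.ble 56 c)
noncomputable def Atab_s_53_57 (c : Nat) : Nat := @Bool.rec (fun _ => Nat) (Atab_s_53_55 c) (Atab_s_55_57 c) (Nat.ble 55 c)
noncomputable def Atab_s_57_59 (c : Nat) : Nat := @Bool.rec (fun _ => Nat) (Atab_57) (Atab_58) (Nat.ble 58 c)
noncomputable def Atab_s_59_61 (c : Nat) : Nat := @Bool.rec (fun _ => Nat) (Atab_59) (Atab_60) (Nat.ble 60 c)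
noncomputable def Atab_s_57_61 (c : Nat) : Nat := @Bool.rec (fun _ => Nat) (Atab_s_57_59 c) (Atab_s_59_61 c) (Nat.ble 59 c)
noncomputable def Atab_s_53_61 (c : Nat) : Nat := @Bool.rec (fun _ => Nat) (Atab_s_53_57 c) (Atab_s_57_61 c) (Nat.ble 57 c)
noncomputable def Atab_s_45_61 (c : Nat) : Nat := @Bool.rec (fun _ => Nat) (Atab_s_45_53 c) (Atab_s_53_61 c) (Nat.ble 53 c)
noncomputable def Atab_s_30_61 (c : Nat) : Nat := @Bool.rec (fun _ => Nat) (Atab_s_30_45 c) (Atab_s_45_61 c) (Nat.ble 45 c)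
noncomputable def Atab_s_0_61 (c : Nat) : Nat := @Bool.rec (fun _ => Nat) (Atab_s_0_30 c) (Atab_s_30_61 c) (Nat.ble 30 c)
noncomputable def Atab_s_62_64 (c : Nat) : Nat := @Bool.rec (fun _ => Nat) (Atab_62) (Atab_63) (Nat.ble 63 c)
noncomputable def Atab_s_61_64 (c : Nat) : Nat := @Bool.rec (fun _ => Nat) (Atab_61) (Atab_s_62_64 c) (Nat.ble 62 c)
noncomputable def Atab_s_64_66 (c : Nat) : Nat := @Bool.rec (fun _ => Nat) (Atab_64) (Atab_65) (Nat.ble 65 c)
noncomputable def Atab_s_66_68 (c : Nat) : Nat := @Bool.rec (fun _ => Nat) (Atab_66) (Atab_67) (Nat.ble 67 c)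
noncomputable def Atab_s_64_68 (c : Nat) : Nat := @Bool.rec (fun _ => Nat) (Atab_s_64_66 c) (Atab_s_66_68 c) (Nat.ble 66 c)
noncomputable def Atab_s_61_68 (c : Nat) : Nat := @Bool.rec (fun _ => Nat) (Atab_s_61_64 c) (Atab_s_64_68 c) (Nat.ble 64 c)
noncomputable def Atab_s_68_70 (c : Nat) : Nat := @Bool.rec (fun _ => Nat) (Atab_68) (Atab_69) (Nat.ble 69 c)
noncomputable def Atab_s_70_72 (c : Nat) : Nat := @Bool.rec (fun _ => Nat) (Atab_70) (Atab_71) (Nat.ble 71 c)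
noncomputable def Atab_s_68_72 (c : Nat) : Nat := @Bool.rec (fun _ => Nat) (Atab_s_68_70 c) (Atab_s_70_72 c) (Nat.ble 70 c)
noncomputable def Atab_s_72_74 (c : Nat) : Nat := @Bool.rec (fun _ => Nat) (Atab_72) (Atab_73) (Nat.ble 73 c)
noncomputable def Atab_s_74_76 (c : Nat) : Nat := @Bool.rec (fun _ => Nat) (Atab_74) (Atab_75) (Nat.ble 75 c)
noncomputable def Atab_s_72_76 (c : Nat) : Nat := @Bool.rec (fun _ => Nat) (Atab_s_72_74 c) (Atab_s_74_76 c) (Nat.ble 74 c)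
noncomputable def Atab_s_68_76 (c : Nat) : Nat := @Bool.rec (fun _ => Nat) (Atab_s_68_72 c) (Atab_s_72_76 c) (Nat.ble 72 c)
noncomputable def Atab_s_61_76 (c : Nat) : Nat := @Bool.rec (fun _ => Nat) (Atab_s_61_68 c) (Atab_s_68_76 c) (Nat.ble 68 c)
noncomputable def Atab_s_76_78 (c : Nat) : Nat := @Bool.rec (fun _ => Nat) (Atab_76) (Atab_77) (Nat.ble 77 c)
noncomputable def Atab_s_78_80 (c : Nat) : Nat := @Bool.rec (fun _ => Nat) (Atab_78) (Atab_79) (Nat.ble 79 c)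
noncomputable def Atab_s_76_80 (c : Nat) : Nat := @Bool.rec (fun _ => Nat) (Atab_s_76_78 c) (Atab_s_78_80 c) (Nat.ble 78 c)
noncomputable def Atab_s_80_82 (c : Nat) : Nat := @Bool.rec (fun _ => Nat) (Atab_80) (Atab_81) (Nat.ble 81 c)
noncomputable def Atab_s_82_84 (c : Nat) : Nat := @Bool.rec (fun _ => Nat) (Atab_82) (Atab_83) (Nat.ble 83 c)
noncomputable def Atab_s_80_84 (c : Nat) : Nat := @Bool.rec (fun _ => Nat) (Atab_s_80_82 c) (Atab_s_82_84 c) (Nat.ble 82 c)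
noncomputable def Atab_s_76_84 (c : Nat) : Nat := @Bool.rec (fun _ => Nat) (Atab_s_76_80 c) (Atab_s_80_84 c) (Nat.ble 80 c)
noncomputable def Atab_s_84_86 (c : Nat) : Nat := @Bool.rec (fun _ => Nat) (Atab_84) (Atab_85) (Nat.ble 85 c)
noncomputable def Atab_s_86_88 (c : Nat) : Nat := @Bool.rec (fun _ => Nat) (Atab_86) (Atab_87) (Nat.ble 87 c)
noncomputable def Atab_s_84_88 (c : Nat) : Nat := @Bool.rec (fun _ => Nat) (Atab_s_84_86 c) (Atab_s_86_88 c) (Nat.ble 86 c)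
noncomputable def Atab_s_88_90 (c : Nat) : Nat := @Bool.rec (fun _ => Nat) (Atab_88) (Atab_89) (Nat.ble 89 c)
noncomputable def Atab_s_90_92 (c : Nat) : Nat := @Bool.rec (fun _ => Nat) (Atab_90) (Atab_91) (Nat.ble 91 c)
noncomputable def Atab_s_88_92 (c : Nat) : Nat := @Bool.rec (fun _ => Nat) (Atab_s_88_90 c) (Atab_s_90_92 c) (Nat.ble 90 c)
noncomputable def Atab_s_84_92 (c : Nat) : Nat := @Bool.rec (fun _ => Nat) (Atab_s_84_88 c) (Atab_s_88_92 c) (Nat.ble 88 c)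
noncomputable def Atab_s_76_92 (c : Nat) : Nat := @Bool.rec (fun _ => Nat) (Atab_s_76_84 c) (Atab_s_84_92 c) (Nat.ble 84 c)
noncomputable def Atab_s_61_92 (c : Nat) : Nat := @Bool.rec (fun _ => Nat) (Atab_s_61_76 c) (Atab_s_76_92 c) (Nat.ble 76 c)
noncomputable def Atab_s_93_95 (c : Nat) : Nat := @Bool.rec (fun _ => Nat) (Atab_93) (Atab_94) (Nat.ble 94 c)
noncomputable def Atab_s_92_95 (c : Nat) : Nat := @Bool.rec (fun _ => Nat) (Atab_92) (Atab_s_93_95 c) (Nat.ble 93 c)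
noncomputable def Atab_s_95_97 (c : Nat) : Nat := @Bool.rec (fun _ => Nat) (Atab_95) (Atab_96) (Nat.ble 96 c)
noncomputable def Atab_s_97_99 (c : Nat) : Nat := @Bool.rec (fun _ => Nat) (Atab_97) (Atab_98) (Nat.ble 98 c)
noncomputable def Atab_s_95_99 (c : Nat) : Nat := @Bool.rec (fun _ => Nat) (Atab_s_95_97 c) (Atab_s_97_99 c) (Nat.ble 97 c)
noncomputable def Atab_s_92_99 (c : Nat) : Nat := @Bool.rec (fun _ => Nat) (Atab_s_92_95 c) (Atab_s_95_99 c) (Nat.ble 95 c)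
noncomputable def Atab_s_99_101 (c : Nat) : Nat := @Bool.rec (fun _ => Nat) (Atab_99) (Atab_100) (Nat.ble 100 c)
noncomputable def Atab_s_101_103 (c : Nat) : Nat := @Bool.rec (fun _ => Nat) (Atab_101) (Atab_102) (Nat.ble 102 c)
noncomputable def Atab_s_99_103 (c : Nat) : Nat := @Bool.rec (fun _ => Nat) (Atab_s_99_101 c) (Atab_s_101_103 c) (Nat.ble 101 c)
noncomputable def Atab_s_103_105 (c : Nat) : Nat := @Bool.rec (fun _ => Nat) (Atab_103) (Atab_104) (Nat.ble 104 c)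
noncomputable def Atab_s_105_107 (c : Nat) : Nat := @Bool.rec (fun _ => Nat) (Atab_105) (Atab_106) (Nat.ble 106 c)
noncomputable def Atab_s_103_107 (c : Nat) : Nat := @Bool.rec (fun _ => Nat) (Atab_s_103_105 c) (Atab_s_105_107 c) (Nat.ble 105 c)
noncomputable def Atab_s_99_107 (c : Nat) : Nat := @Bool.rec (fun _ => Nat) (Atab_s_99_103 c) (Atab_s_103_107 c) (Nat.ble 103 c)
noncomputable def Atab_s_92_107 (c : Nat) : Nat := @Bool.rec (fun _ => Nat) (Atab_s_92_99 c) (Atab_s_99_107 c) (Nat.ble 99 c)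
noncomputable def Atab_s_107_109 (c : Nat) : Nat := @Bool.rec (fun _ => Nat) (Atab_107) (Atab_108) (Nat.ble 108 c)
noncomputable def Atab_s_109_111 (c : Nat) : Nat := @Bool.rec (fun _ => Nat) (Atab_109) (Atab_110) (Nat.ble 110 c)
noncomputable def Atab_s_107_111 (c : Nat) : Nat := @Bool.rec (fun _ => Nat) (Atab_s_107_109 c) (Atab_s_109_111 c) (Nat.ble 109 c)
noncomputable def Atab_s_111_113 (c : Nat) : Nat := @Bool.rec (fun _ => Nat) (Atab_111) (Atab_112) (Nat.ble 112 c)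
noncomputable def Atab_s_113_115 (c : Nat) : Nat := @Bool.rec (fun _ => Nat) (Atab_113) (Atab_114) (Nat.ble 114 c)
noncomputable def Atab_s_111_115 (c : Nat) : Nat := @Bool.rec (fun _ => Nat) (Atab_s_111_113 c) (Atab_s_113_115 c) (Nat.ble 113 c)
noncomputable def Atab_s_107_115 (c : Nat) : Nat := @Bool.rec (fun _ => Nat) (Atab_s_107_111 c) (Atab_s_111_115 c) (Nat.ble 111 c)
noncomputable def Atab_s_115_117 (c : Nat) : Nat := @Bool.rec (fun _ => Nat) (Atab_115) (Atab_116) (Nat.ble 116 c)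
noncomputable def Atab_s_117_119 (c : Nat) : Nat := @Bool.rec (fun _ => Nat) (Atab_117) (Atab_118) (Nat.ble 118 c)
noncomputable def Atab_s_115_119 (c : Nat) : Nat := @Bool.rec (fun _ => Nat) (Atab_s_115_117 c) (Atab_s_117_119 c) (Nat.ble 117 c)
noncomputable def Atab_s_119_121 (c : Nat) : Nat := @Bool.rec (fun _ => Nat) (Atab_119) (Atab_120) (Nat.ble 120 c)
noncomputable def Atab_s_121_123 (c : Nat) : Nat := @Bool.rec (fun _ => Nat) (Atab_121) (Atab_122) (Nat.ble 122 c)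
noncomputable def Atab_s_119_123 (c : Nat) : Nat := @Bool.rec (fun _ => Nat) (Atab_s_119_121 c) (Atab_s_121_123 c) (Nat.ble 121 c)
noncomputable def Atab_s_115_123 (c : Nat) : Nat := @Bool.rec (fun _ => Nat) (Atab_s_115_119 c) (Atab_s_119_123 c) (Nat.ble 119 c)
noncomputable def Atab_s_107_123 (c : Nat) : Nat := @Bool.rec (fun _ => Nat) (Atab_s_107_115 c) (Atab_s_115_123 c) (Nat.ble 115 c)
noncomputable def Atab_s_92_123 (c : Nat) : Nat := @Bool.rec (fun _ => Nat) (Atab_s_92_107 c) (Atab_s_107_123 c) (Nat.ble 107 c)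
noncomputable def Atab_s_61_123 (c : Nat) : Nat := @Bool.rec (fun _ => Nat) (Atab_s_61_92 c) (Atab_s_92_123 c) (Nat.ble 92 c)
noncomputable def Atab_s_0_123 (c : Nat) : Nat := @Bool.rec (fun _ => Nat) (Atab_s_0_61 c) (Atab_s_61_123 c) (Nat.ble 61 c)
noncomputable def Atab_s_124_126 (c : Nat) : Nat := @Bool.rec (fun _ => Nat) (Atab_124) (Atab_125) (Nat.ble 125 c)
noncomputable def Atab_s_123_126 (c : Nat) : Nat := @Bool.rec (fun _ => Nat) (Atab_123) (Atab_s_124_126 c) (Nat.ble 124 c)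
noncomputable def Atab_s_126_128 (c : Nat) : Nat := @Bool.rec (fun _ => Nat) (Atab_126) (Atab_127) (Nat.ble 127 c)
noncomputable def Atab_s_128_130 (c : Nat) : Nat := @Bool.rec (fun _ => Nat) (Atab_128) (Atab_129) (Nat.ble 129 c)
noncomputable def Atab_s_126_130 (c : Nat) : Nat := @Bool.rec (fun _ => Nat) (Atab_s_126_128 c) (Atab_s_128_130 c) (Nat.ble 128 c)
noncomputable def Atab_s_123_130 (c : Nat) : Nat := @Bool.rec (fun _ => Nat) (Atab_s_123_126 c) (Atab_s_126_130 c) (Nat.ble 126 c)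
noncomputable def Atab_s_130_132 (c : Nat) : Nat := @Bool.rec (fun _ => Nat) (Atab_130) (Atab_131) (Nat.ble 131 c)
noncomputable def Atab_s_132_134 (c : Nat) : Nat := @Bool.rec (fun _ => Nat) (Atab_132) (Atab_133) (Nat.ble 133 c)
noncomputable def Atab_s_130_134 (c : Nat) : Nat := @Bool.rec (fun _ => Nat) (Atab_s_130_132 c) (Atab_s_132_134 c) (Nat.ble 132 c)
noncomputable def Atab_s_134_136 (c : Nat) : Nat := @Bool.rec (fun _ => Nat) (Atab_134) (Atab_135) (Nat.ble 135 c)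
noncomputable def Atab_s_136_138 (c : Nat) : Nat := @Bool.rec (fun _ => Nat) (Atab_136) (Atab_137) (Nat.ble 137 c)
noncomputable def Atab_s_134_138 (c : Nat) : Nat := @Bool.rec (fun _ => Nat) (Atab_s_134_136 c) (Atab_s_136_138 c) (Nat.ble 136 c)
noncomputable def Atab_s_130_138 (c : Nat) : Nat := @Bool.rec (fun _ => Nat) (Atab_s_130_134 c) (Atab_s_134_138 c) (Nat.ble 134 c)
noncomputable def Atab_s_123_138 (c : Nat) : Nat := @Bool.rec (fun _ => Nat) (Atab_s_123_130 c) (Atab_s_130_138 c) (Nat.ble 130 c)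
noncomputable def Atab_s_139_141 (c : Nat) : Nat := @Bool.rec (fun _ => Nat) (Atab_139) (Atab_140) (Nat.ble 140 c)
noncomputable def Atab_s_138_141 (c : Nat) : Nat := @Bool.rec (fun _ => Nat) (Atab_138) (Atab_s_139_141 c) (Nat.ble 139 c)
noncomputable def Atab_s_141_143 (c : Nat) : Nat := @Bool.rec (fun _ => Nat) (Atab_141) (Atab_142) (Nat.ble 142 c)
noncomputable def Atab_s_143_145 (c : Nat) : Nat := @Bool.rec (fun _ => Nat) (Atab_143) (Atab_144) (Nat.ble 144 c)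
noncomputable def Atab_s_141_145 (c : Nat) : Nat := @Bool.rec (fun _ => Nat) (Atab_s_141_143 c) (Atab_s_143_145 c) (Nat.ble 143 c)
noncomputable def Atab_s_138_145 (c : Nat) : Nat := @Bool.rec (fun _ => Nat) (Atab_s_138_141 c) (Atab_s_141_145 c) (Nat.ble 141 c)
noncomputable def Atab_s_145_147 (c : Nat) : Nat := @Bool.rec (fun _ => Nat) (Atab_145) (Atab_146) (Nat.ble 146 c)
noncomputable def Atab_s_147_149 (c : Nat) : Nat := @Bool.rec (fun _ => Nat) (Atab_147) (Atab_148) (Nat.ble 148 c)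
noncomputable def Atab_s_145_149 (c : Nat) : Nat := @Bool.rec (fun _ => Nat) (Atab_s_145_147 c) (Atab_s_147_149 c) (Nat.ble 147 c)
noncomputable def Atab_s_149_151 (c : Nat) : Nat := @Bool.rec (fun _ => Nat) (Atab_149) (Atab_150) (Nat.ble 150 c)
noncomputable def Atab_s_151_153 (c : Nat) : Nat := @Bool.rec (fun _ => Nat) (Atab_151) (Atab_152) (Nat.ble 152 c)
noncomputable def Atab_s_149_153 (c : Nat) : Nat := @Bool.rec (fun _ => Nat) (Atab_s_149_151 c) (Atab_s_151_153 c) (Nat.ble 151 c)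
noncomputable def Atab_s_145_153 (c : Nat) : Nat := @Bool.rec (fun _ => Nat) (Atab_s_145_149 c) (Atab_s_149_153 c) (Nat.ble 149 c)
noncomputable def Atab_s_138_153 (c : Nat) : Nat := @Bool.rec (fun _ => Nat) (Atab_s_138_145 c) (Atab_s_145_153 c) (Nat.ble 145 c)
noncomputable def Atab_s_123_153 (c : Nat) : Nat := @Bool.rec (fun _ => Nat) (Atab_s_123_138 c) (Atab_s_138_153 c) (Nat.ble 138 c)
noncomputable def Atab_s_154_156 (c : Nat) : Nat := @Bool.rec (fun _ => Nat) (Atab_154) (Atab_155) (Nat.ble 155 c)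
noncomputable def Atab_s_153_156 (c : Nat) : Nat := @Bool.rec (fun _ => Nat) (Atab_153) (Atab_s_154_156 c) (Nat.ble 154 c)
noncomputable def Atab_s_156_158 (c : Nat) : Nat := @Bool.rec (fun _ => Nat) (Atab_156) (Atab_157) (Nat.ble 157 c)
noncomputable def Atab_s_158_160 (c : Nat) : Nat := @Bool.rec (fun _ => Nat) (Atab_158) (Atab_159) (Nat.ble 159 c)
noncomputable def Atab_s_156_160 (c : Nat) : Nat := @Bool.rec (fun _ => Nat) (Atab_s_156_158 c) (Atab_s_158_160 c) (Nat.ble 158 c)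
noncomputable def Atab_s_153_160 (c : Nat) : Nat := @Bool.rec (fun _ => Nat) (Atab_s_153_156 c) (Atab_s_156_160 c) (Nat.ble 156 c)
noncomputable def Atab_s_160_162 (c : Nat) : Nat := @Bool.rec (fun _ => Nat) (Atab_160) (Atab_161) (Nat.ble 161 c)
noncomputable def Atab_s_162_164 (c : Nat) : Nat := @Bool.rec (fun _ => Nat) (Atab_162) (Atab_163) (Nat.ble 163 c)
noncomputable def Atab_s_160_164 (c : Nat) : Nat := @Bool.rec (fun _ => Nat) (Atab_s_160_162 c) (Atab_s_162_164 c) (Nat.ble 162 c)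
noncomputable def Atab_s_164_166 (c : Nat) : Nat := @Bool.rec (fun _ => Nat) (Atab_164) (Atab_165) (Nat.ble 165 c)
noncomputable def Atab_s_166_168 (c : Nat) : Nat := @Bool.rec (fun _ => Nat) (Atab_166) (Atab_167) (Nat.ble 167 c)
noncomputable def Atab_s_164_168 (c : Nat) : Nat := @Bool.rec (fun _ => Nat) (Atab_s_164_166 c) (Atab_s_166_168 c) (Nat.ble 166 c)
noncomputable def Atab_s_160_168 (c : Nat) : Nat := @Bool.rec (fun _ => Nat) (Atab_s_160_164 c) (Atab_s_164_168 c) (Nat.ble 164 c)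
noncomputable def Atab_s_153_168 (c : Nat) : Nat := @Bool.rec (fun _ => Nat) (Atab_s_153_160 c) (Atab_s_160_168 c) (Nat.ble 160 c)
noncomputable def Atab_s_168_170 (c : Nat) : Nat := @Bool.rec (fun _ => Nat) (Atab_168) (Atab_169) (Nat.ble 169 c)
noncomputable def Atab_s_170_172 (c : Nat) : Nat := @Bool.rec (fun _ => Nat) (Atab_170) (Atab_171) (Nat.ble 171 c)
noncomputable def Atab_s_168_172 (c : Nat) : Nat := @Bool.rec (fun _ => Nat) (Atab_s_168_170 c) (Atab_s_170_172 c) (Nat.ble 170 c)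
noncomputable def Atab_s_172_174 (c : Nat) : Nat := @Bool.rec (fun _ => Nat) (Atab_172) (Atab_173) (Nat.ble 173 c)
noncomputable def Atab_s_174_176 (c : Nat) : Nat := @Bool.rec (fun _ => Nat) (Atab_174) (Atab_175) (Nat.ble 175 c)
noncomputable def Atab_s_172_176 (c : Nat) : Nat := @Bool.rec (fun _ => Nat) (Atab_s_172_174 c) (Atab_s_174_176 c) (Nat.ble 174 c)
noncomputable def Atab_s_168_176 (c : Nat) : Nat := @Bool.rec (fun _ => Nat) (Atab_s_168_172 c) (Atab_s_172_176 c) (Nat.ble 172 c)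
noncomputable def Atab_s_176_178 (c : Nat) : Nat := @Bool.rec (fun _ => Nat) (Atab_176) (Atab_177) (Nat.ble 177 c)
noncomputable def Atab_s_178_180 (c : Nat) : Nat := @Bool.rec (fun _ => Nat) (Atab_178) (Atab_179) (Nat.ble 179 c)
noncomputable def Atab_s_176_180 (c : Nat) : Nat := @Bool.rec (fun _ => Nat) (Atab_s_176_178 c) (Atab_s_178_180 c) (Nat.ble 178 c)
noncomputable def Atab_s_180_182 (c : Nat) : Nat := @Bool.rec (fun _ => Nat) (Atab_180) (Atab_181) (Nat.ble 181 c)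
noncomputable def Atab_s_182_184 (c : Nat) : Nat := @Bool.rec (fun _ => Nat) (Atab_182) (Atab_183) (Nat.ble 183 c)
noncomputable def Atab_s_180_184 (c : Nat) : Nat := @Bool.rec (fun _ => Nat) (Atab_s_180_182 c) (Atab_s_182_184 c) (Nat.ble 182 c)
noncomputable def Atab_s_176_184 (c : Nat) : Nat := @Bool.rec (fun _ => Nat) (Atab_s_176_180 c) (Atab_s_180_184 c) (Nat.ble 180 c)
noncomputable def Atab_s_168_184 (c : Nat) : Nat := @Bool.rec (fun _ => Nat) (Atab_s_168_176 c) (Atab_s_176_184 c) (Nat.ble 176 c)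
noncomputable def Atab_s_153_184 (c : Nat) : Nat := @Bool.rec (fun _ => Nat) (Atab_s_153_168 c) (Atab_s_168_184 c) (Nat.ble 168 c)
noncomputable def Atab_s_123_184 (c : Nat) : Nat := @Bool.rec (fun _ => Nat) (Atab_s_123_153 c) (Atab_s_153_184 c) (Nat.ble 153 c)
noncomputable def Atab_s_185_187 (c : Nat) : Nat := @Bool.rec (fun _ => Nat) (Atab_185) (Atab_186) (Nat.ble 186 c)
noncomputable def Atab_s_184_187 (c : Nat) : Nat := @Bool.rec (fun _ => Nat) (Atab_184) (Atab_s_185_187 c) (Nat.ble 185 c)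
noncomputable def Atab_s_187_189 (c : Nat) : Nat := @Bool.rec (fun _ => Nat) (Atab_187) (Atab_188) (Nat.ble 188 c)
noncomputable def Atab_s_189_191 (c : Nat) : Nat := @Bool.rec (fun _ => Nat) (Atab_189) (Atab_190) (Nat.ble 190 c)
noncomputable def Atab_s_187_191 (c : Nat) : Nat := @Bool.rec (fun _ => Nat) (Atab_s_187_189 c) (Atab_s_189_191 c) (Nat.ble 189 c)
noncomputable def Atab_s_184_191 (c : Nat) : Nat := @Bool.rec (fun _ => Nat) (Atab_s_184_187 c) (Atab_s_187_191 c) (Nat.ble 187 c)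
noncomputable def Atab_s_191_193 (c : Nat) : Nat := @Bool.rec (fun _ => Nat) (Atab_191) (Atab_192) (Nat.ble 192 c)
noncomputable def Atab_s_193_195 (c : Nat) : Nat := @Bool.rec (fun _ => Nat) (Atab_193) (Atab_194) (Nat.ble 194 c)
noncomputable def Atab_s_191_195 (c : Nat) : Nat := @Bool.rec (fun _ => Nat) (Atab_s_191_193 c) (Atab_s_193_195 c) (Nat.ble 193 c)
noncomputable def Atab_s_195_197 (c : Nat) : Nat := @Bool.rec (fun _ => Nat) (Atab_195) (Atab_196) (Nat.ble 196 c)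
noncomputable def Atab_s_197_199 (c : Nat) : Nat := @Bool.rec (fun _ => Nat) (Atab_197) (Atab_198) (Nat.ble 198 c)
noncomputable def Atab_s_195_199 (c : Nat) : Nat := @Bool.rec (fun _ => Nat) (Atab_s_195_197 c) (Atab_s_197_199 c) (Nat.ble 197 c)
noncomputable def Atab_s_191_199 (c : Nat) : Nat := @Bool.rec (fun _ => Nat) (Atab_s_191_195 c) (Atab_s_195_199 c) (Nat.ble 195 c)
noncomputable def Atab_s_184_199 (c : Nat) : Nat := @Bool.rec (fun _ => Nat) (Atab_s_184_191 c) (Atab_s_191_199 c) (Nat.ble 191 c)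
noncomputable def Atab_s_199_201 (c : Nat) : Nat := @Bool.rec (fun _ => Nat) (Atab_199) (Atab_200) (Nat.ble 200 c)
noncomputable def Atab_s_201_203 (c : Nat) : Nat := @Bool.rec (fun _ => Nat) (Atab_201) (Atab_202) (Nat.ble 202 c)
noncomputable def Atab_s_199_203 (c : Nat) : Nat := @Bool.rec (fun _ => Nat) (Atab_s_199_201 c) (Atab_s_201_203 c) (Nat.ble 201 c)
noncomputable def Atab_s_203_205 (c : Nat) : Nat := @Bool.rec (fun _ => Nat) (Atab_203) (Atab_204) (Nat.ble 204 c)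
noncomputable def Atab_s_205_207 (c : Nat) : Nat := @Bool.rec (fun _ => Nat) (Atab_205) (Atab_206) (Nat.ble 206 c)
noncomputable def Atab_s_203_207 (c : Nat) : Nat := @Bool.rec (fun _ => Nat) (Atab_s_203_205 c) (Atab_s_205_207 c) (Nat.ble 205 c)
noncomputable def Atab_s_199_207 (c : Nat) : Nat := @Bool.rec (fun _ => Nat) (Atab_s_199_203 c) (Atab_s_203_207 c) (Nat.ble 203 c)
noncomputable def Atab_s_207_209 (c : Nat) : Nat := @Bool.rec (fun _ => Nat) (Atab_207) (Atab_208) (Nat.ble 208 c)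
noncomputable def Atab_s_209_211 (c : Nat) : Nat := @Bool.rec (fun _ => Nat) (Atab_209) (Atab_210) (Nat.ble 210 c)
noncomputable def Atab_s_207_211 (c : Nat) : Nat := @Bool.rec (fun _ => Nat) (Atab_s_207_209 c) (Atab_s_209_211 c) (Nat.ble 209 c)
noncomputable def Atab_s_211_213 (c : Nat) : Nat := @Bool.rec (fun _ => Nat) (Atab_211) (Atab_212) (Nat.ble 212 c)
noncomputable def Atab_s_213_215 (c : Nat) : Nat := @Bool.rec (fun _ => Nat) (Atab_213) (Atab_214) (Nat.ble 214 c)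
noncomputable def Atab_s_211_215 (c : Nat) : Nat := @Bool.rec (fun _ => Nat) (Atab_s_211_213 c) (Atab_s_213_215 c) (Nat.ble 213 c)
noncomputable def Atab_s_207_215 (c : Nat) : Nat := @Bool.rec (fun _ => Nat) (Atab_s_207_211 c) (Atab_s_211_215 c) (Nat.ble 211 c)
noncomputable def Atab_s_199_215 (c : Nat) : Nat := @Bool.rec (fun _ => Nat) (Atab_s_199_207 c) (Atab_s_207_215 c) (Nat.ble 207 c)
noncomputable def Atab_s_184_215 (c : Nat) : Nat := @Bool.rec (fun _ => Nat) (Atab_s_184_199 c) (Atab_s_199_215 c) (Nat.ble 199 c)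
noncomputable def Atab_s_216_218 (c : Nat) : Nat := @Bool.rec (fun _ => Nat) (Atab_216) (Atab_217) (Nat.ble 217 c)
noncomputable def Atab_s_215_218 (c : Nat) : Nat := @Bool.rec (fun _ => Nat) (Atab_215) (Atab_s_216_218 c) (Nat.ble 216 c)
noncomputable def Atab_s_218_220 (c : Nat) : Nat := @Bool.rec (fun _ => Nat) (Atab_218) (Atab_219) (Nat.ble 219 c)
noncomputable def Atab_s_220_222 (c : Nat) : Nat := @Bool.rec (fun _ => Nat) (Atab_220) (Atab_221) (Nat.ble 221 c)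
noncomputable def Atab_s_218_222 (c : Nat) : Nat := @Bool.rec (fun _ => Nat) (Atab_s_218_220 c) (Atab_s_220_222 c) (Nat.ble 220 c)
noncomputable def Atab_s_215_222 (c : Nat) : Nat := @Bool.rec (fun _ => Nat) (Atab_s_215_218 c) (Atab_s_218_222 c) (Nat.ble 218 c)
noncomputable def Atab_s_222_224 (c : Nat) : Nat := @Bool.rec (fun _ => Nat) (Atab_222) (Atab_223) (Nat.ble 223 c)
noncomputable def Atab_s_224_226 (c : Nat) : Nat := @Bool.rec (fun _ => Nat) (Atab_224) (Atab_225) (Nat.ble 225 c)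
noncomputable def Atab_s_222_226 (c : Nat) : Nat := @Bool.rec (fun _ => Nat) (Atab_s_222_224 c) (Atab_s_224_226 c) (Nat.ble 224 c)
noncomputable def Atab_s_226_228 (c : Nat) : Nat := @Bool.rec (fun _ => Nat) (Atab_226) (Atab_227) (Nat.ble 227 c)
noncomputable def Atab_s_228_230 (c : Nat) : Nat := @Bool.rec (fun _ => Nat) (Atab_228) (Atab_229) (Nat.ble 229 c)
noncomputable def Atab_s_226_230 (c : Nat) : Nat := @Bool.rec (fun _ => Nat) (Atab_s_226_228 c) (Atab_s_228_230 c) (Nat.ble 228 c)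
noncomputable def Atab_s_222_230 (c : Nat) : Nat := @Bool.rec (fun _ => Nat) (Atab_s_222_226 c) (Atab_s_226_230 c) (Nat.ble 226 c)
noncomputable def Atab_s_215_230 (c : Nat) : Nat := @Bool.rec (fun _ => Nat) (Atab_s_215_222 c) (Atab_s_222_230 c) (Nat.ble 222 c)
noncomputable def Atab_s_230_232 (c : Nat) : Nat := @Bool.rec (fun _ => Nat) (Atab_230) (Atab_231) (Nat.ble 231 c)
noncomputable def Atab_s_232_234 (c : Nat) : Nat := @Bool.rec (fun _ => Nat) (Atab_232) (Atab_233) (Nat.ble 233 c)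
noncomputable def Atab_s_230_234 (c : Nat) : Nat := @Bool.rec (fun _ => Nat) (Atab_s_230_232 c) (Atab_s_232_234 c) (Nat.ble 232 c)
noncomputable def Atab_s_234_236 (c : Nat) : Nat := @Bool.rec (fun _ => Nat) (Atab_234) (Atab_235) (Nat.ble 235 c)
noncomputable def Atab_s_236_238 (c : Nat) : Nat := @Bool.rec (fun _ => Nat) (Atab_236) (Atab_237) (Nat.ble 237 c)
noncomputable def Atab_s_234_238 (c : Nat) : Nat := @Bool.rec (fun _ => Nat) (Atab_s_234_236 c) (Atab_s_236_238 c) (Nat.ble 236 c)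
noncomputable def Atab_s_230_238 (c : Nat) : Nat := @Bool.rec (fun _ => Nat) (Atab_s_230_234 c) (Atab_s_234_238 c) (Nat.ble 234 c)
noncomputable def Atab_s_238_240 (c : Nat) : Nat := @Bool.rec (fun _ => Nat) (Atab_238) (Atab_239) (Nat.ble 239 c)
noncomputable def Atab_s_240_242 (c : Nat) : Nat := @Bool.rec (fun _ => Nat) (Atab_240) (Atab_241) (Nat.ble 241 c)
noncomputable def Atab_s_238_242 (c : Nat) : Nat := @Bool.rec (fun _ => Nat) (Atab_s_238_240 c) (Atab_s_240_242 c) (Nat.ble 240 c)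
noncomputable def Atab_s_242_244 (c : Nat) : Nat := @Bool.rec (fun _ => Nat) (Atab_242) (Atab_243) (Nat.ble 243 c)
noncomputable def Atab_s_244_246 (c : Nat) : Nat := @Bool.rec (fun _ => Nat) (Atab_244) (Atab_245) (Nat.ble 245 c)
noncomputable def Atab_s_242_246 (c : Nat) : Nat := @Bool.rec (fun _ => Nat) (Atab_s_242_244 c) (Atab_s_244_246 c) (Nat.ble 244 c)
noncomputable def Atab_s_238_246 (c : Nat) : Nat := @Bool.rec (fun _ => Nat) (Atab_s_238_242 c) (Atab_s_242_246 c) (Nat.ble 242 c)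
noncomputable def Atab_s_230_246 (c : Nat) : Nat := @Bool.rec (fun _ => Nat) (Atab_s_230_238 c) (Atab_s_238_246 c) (Nat.ble 238 c)
noncomputable def Atab_s_215_246 (c : Nat) : Nat := @Bool.rec (fun _ => Nat) (Atab_s_215_230 c) (Atab_s_230_246 c) (Nat.ble 230 c)
noncomputable def Atab_s_184_246 (c : Nat) : Nat := @Bool.rec (fun _ => Nat) (Atab_s_184_215 c) (Atab_s_215_246 c) (Nat.ble 215 c)
noncomputable def Atab_s_123_246 (c : Nat) : Nat := @Bool.rec (fun _ => Nat) (Atab_s_123_184 c) (Atab_s_184_246 c) (Nat.ble 184 c)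
noncomputable def Atab_s_0_246 (c : Nat) : Nat := @Bool.rec (fun _ => Nat) (Atab_s_0_123 c) (Atab_s_123_246 c) (Nat.ble 123 c)
noncomputable def Atab_s_247_249 (c : Nat) : Nat := @Bool.rec (fun _ => Nat) (Atab_247) (Atab_248) (Nat.ble 248 c)
noncomputable def Atab_s_246_249 (c : Nat) : Nat := @Bool.rec (fun _ => Nat) (Atab_246) (Atab_s_247_249 c) (Nat.ble 247 c)
noncomputable def Atab_s_249_251 (c : Nat) : Nat := @Bool.rec (fun _ => Nat) (Atab_249) (Atab_250) (Nat.ble 250 c)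
noncomputable def Atab_s_251_253 (c : Nat) : Nat := @Bool.rec (fun _ => Nat) (Atab_251) (Atab_252) (Nat.ble 252 c)
noncomputable def Atab_s_249_253 (c : Nat) : Nat := @Bool.rec (fun _ => Nat) (Atab_s_249_251 c) (Atab_s_251_253 c) (Nat.ble 251 c)
noncomputable def Atab_s_246_253 (c : Nat) : Nat := @Bool.rec (fun _ => Nat) (Atab_s_246_249 c) (Atab_s_249_253 c) (Nat.ble 249 c)
noncomputable def Atab_s_253_255 (c : Nat) : Nat := @Bool.rec (fun _ => Nat) (Atab_253) (Atab_254) (Nat.ble 254 c)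
noncomputable def Atab_s_255_257 (c : Nat) : Nat := @Bool.rec (fun _ => Nat) (Atab_255) (Atab_256) (Nat.ble 256 c)
noncomputable def Atab_s_253_257 (c : Nat) : Nat := @Bool.rec (fun _ => Nat) (Atab_s_253_255 c) (Atab_s_255_257 c) (Nat.ble 255 c)
noncomputable def Atab_s_257_259 (c : Nat) : Nat := @Bool.rec (fun _ => Nat) (Atab_257) (Atab_258) (Nat.ble 258 c)
noncomputable def Atab_s_259_261 (c : Nat) : Nat := @Bool.rec (fun _ => Nat) (Atab_259) (Atab_260) (Nat.ble 260 c)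
noncomputable def Atab_s_257_261 (c : Nat) : Nat := @Bool.rec (fun _ => Nat) (Atab_s_257_259 c) (Atab_s_259_261 c) (Nat.ble 259 c)
noncomputable def Atab_s_253_261 (c : Nat) : Nat := @Bool.rec (fun _ => Nat) (Atab_s_253_257 c) (Atab_s_257_261 c) (Nat.ble 257 c)
noncomputable def Atab_s_246_261 (c : Nat) : Nat := @Bool.rec (fun _ => Nat) (Atab_s_246_253 c) (Atab_s_253_261 c) (Nat.ble 253 c)
noncomputable def Atab_s_262_264 (c : Nat) : Nat := @Bool.rec (fun _ => Nat) (Atab_262) (Atab_263) (Nat.ble 263 c)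
noncomputable def Atab_s_261_264 (c : Nat) : Nat := @Bool.rec (fun _ => Nat) (Atab_261) (Atab_s_262_264 c) (Nat.ble 262 c)
noncomputable def Atab_s_264_266 (c : Nat) : Nat := @Bool.rec (fun _ => Nat) (Atab_264) (Atab_265) (Nat.ble 265 c)
noncomputable def Atab_s_266_268 (c : Nat) : Nat := @Bool.rec (fun _ => Nat) (Atab_266) (Atab_267) (Nat.ble 267 c)
noncomputable def Atab_s_264_268 (c : Nat) : Nat := @Bool.rec (fun _ => Nat) (Atab_s_264_266 c) (Atab_s_266_268 c) (Nat.ble 266 c)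
noncomputable def Atab_s_261_268 (c : Nat) : Nat := @Bool.rec (fun _ => Nat) (Atab_s_261_264 c) (Atab_s_264_268 c) (Nat.ble 264 c)
noncomputable def Atab_s_268_270 (c : Nat) : Nat := @Bool.rec (fun _ => Nat) (Atab_268) (Atab_269) (Nat.ble 269 c)
noncomputable def Atab_s_270_272 (c : Nat) : Nat := @Bool.rec (fun _ => Nat) (Atab_270) (Atab_271) (Nat.ble 271 c)
noncomputable def Atab_s_268_272 (c : Nat) : Nat := @Bool.rec (fun _ => Nat) (Atab_s_268_270 c) (Atab_s_270_272 c) (Nat.ble 270 c)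
noncomputable def Atab_s_272_274 (c : Nat) : Nat := @Bool.rec (fun _ => Nat) (Atab_272) (Atab_273) (Nat.ble 273 c)
noncomputable def Atab_s_274_276 (c : Nat) : Nat := @Bool.rec (fun _ => Nat) (Atab_274) (Atab_275) (Nat.ble 275 c)
noncomputable def Atab_s_272_276 (c : Nat) : Nat := @Bool.rec (fun _ => Nat) (Atab_s_272_274 c) (Atab_s_274_276 c) (Nat.ble 274 c)
noncomputable def Atab_s_268_276 (c : Nat) : Nat := @Bool.rec (fun _ => Nat) (Atab_s_268_272 c) (Atab_s_272_276 c) (Nat.ble 272 c)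
noncomputable def Atab_s_261_276 (c : Nat) : Nat := @Bool.rec (fun _ => Nat) (Atab_s_261_268 c) (Atab_s_268_276 c) (Nat.ble 268 c)
noncomputable def Atab_s_246_276 (c : Nat) : Nat := @Bool.rec (fun _ => Nat) (Atab_s_246_261 c) (Atab_s_261_276 c) (Nat.ble 261 c)
noncomputable def Atab_s_277_279 (c : Nat) : Nat := @Bool.rec (fun _ => Nat) (Atab_277) (Atab_278) (Nat.ble 278 c)
noncomputable def Atab_s_276_279 (c : Nat) : Nat := @Bool.rec (fun _ => Nat) (Atab_276) (Atab_s_277_279 c) (Nat.ble 277 c)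
noncomputable def Atab_s_279_281 (c : Nat) : Nat := @Bool.rec (fun _ => Nat) (Atab_279) (Atab_280) (Nat.ble 280 c)
noncomputable def Atab_s_281_283 (c : Nat) : Nat := @Bool.rec (fun _ => Nat) (Atab_281) (Atab_282) (Nat.ble 282 c)
noncomputable def Atab_s_279_283 (c : Nat) : Nat := @Bool.rec (fun _ => Nat) (Atab_s_279_281 c) (Atab_s_281_283 c) (Nat.ble 281 c)
noncomputable def Atab_s_276_283 (c : Nat) : Nat := @Bool.rec (fun _ => Nat) (Atab_s_276_279 c) (Atab_s_279_283 c) (Nat.ble 279 c)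
noncomputable def Atab_s_283_285 (c : Nat) : Nat := @Bool.rec (fun _ => Nat) (Atab_283) (Atab_284) (Nat.ble 284 c)
noncomputable def Atab_s_285_287 (c : Nat) : Nat := @Bool.rec (fun _ => Nat) (Atab_285) (Atab_286) (Nat.ble 286 c)
noncomputable def Atab_s_283_287 (c : Nat) : Nat := @Bool.rec (fun _ => Nat) (Atab_s_283_285 c) (Atab_s_285_287 c) (Nat.ble 285 c)
noncomputable def Atab_s_287_289 (c : Nat) : Nat := @Bool.rec (fun _ => Nat) (Atab_287) (Atab_288) (Nat.ble 288 c)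
noncomputable def Atab_s_289_291 (c : Nat) : Nat := @Bool.rec (fun _ => Nat) (Atab_289) (Atab_290) (Nat.ble 290 c)
noncomputable def Atab_s_287_291 (c : Nat) : Nat := @Bool.rec (fun _ => Nat) (Atab_s_287_289 c) (Atab_s_289_291 c) (Nat.ble 289 c)
noncomputable def Atab_s_283_291 (c : Nat) : Nat := @Bool.rec (fun _ => Nat) (Atab_s_283_287 c) (Atab_s_287_291 c) (Nat.ble 287 c)
noncomputable def Atab_s_276_291 (c : Nat) : Nat := @Bool.rec (fun _ => Nat) (Atab_s_276_283 c) (Atab_s_283_291 c) (Nat.ble 283 c)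
noncomputable def Atab_s_291_293 (c : Nat) : Nat := @Bool.rec (fun _ => Nat) (Atab_291) (Atab_292) (Nat.ble 292 c)
noncomputable def Atab_s_293_295 (c : Nat) : Nat := @Bool.rec (fun _ => Nat) (Atab_293) (Atab_294) (Nat.ble 294 c)
noncomputable def Atab_s_291_295 (c : Nat) : Nat := @Bool.rec (fun _ => Nat) (Atab_s_291_293 c) (Atab_s_293_295 c) (Nat.ble 293 c)
noncomputable def Atab_s_295_297 (c : Nat) : Nat := @Bool.rec (fun _ => Nat) (Atab_295) (Atab_296) (Nat.ble 296 c)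
noncomputable def Atab_s_297_299 (c : Nat) : Nat := @Bool.rec (fun _ => Nat) (Atab_297) (Atab_298) (Nat.ble 298 c)
noncomputable def Atab_s_295_299 (c : Nat) : Nat := @Bool.rec (fun _ => Nat) (Atab_s_295_297 c) (Atab_s_297_299 c) (Nat.ble 297 c)
noncomputable def Atab_s_291_299 (c : Nat) : Nat := @Bool.rec (fun _ => Nat) (Atab_s_291_295 c) (Atab_s_295_299 c) (Nat.ble 295 c)
noncomputable def Atab_s_299_301 (c : Nat) : Nat := @Bool.rec (fun _ => Nat) (Atab_299) (Atab_300) (Nat.ble 300 c)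
noncomputable def Atab_s_301_303 (c : Nat) : Nat := @Bool.rec (fun _ => Nat) (Atab_301) (Atab_302) (Nat.ble 302 c)
noncomputable def Atab_s_299_303 (c : Nat) : Nat := @Bool.rec (fun _ => Nat) (Atab_s_299_301 c) (Atab_s_301_303 c) (Nat.ble 301 c)
noncomputable def Atab_s_303_305 (c : Nat) : Nat := @Bool.rec (fun _ => Nat) (Atab_303) (Atab_304) (Nat.ble 304 c)
noncomputable def Atab_s_305_307 (c : Nat) : Nat := @Bool.rec (fun _ => Nat) (Atab_305) (Atab_306) (Nat.ble 306 c)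
noncomputable def Atab_s_303_307 (c : Nat) : Nat := @Bool.rec (fun _ => Nat) (Atab_s_303_305 c) (Atab_s_305_307 c) (Nat.ble 305 c)
noncomputable def Atab_s_299_307 (c : Nat) : Nat := @Bool.rec (fun _ => Nat) (Atab_s_299_303 c) (Atab_s_303_307 c) (Nat.ble 303 c)
noncomputable def Atab_s_291_307 (c : Nat) : Nat := @Bool.rec (fun _ => Nat) (Atab_s_291_299 c) (Atab_s_299_307 c) (Nat.ble 299 c)
noncomputable def Atab_s_276_307 (c : Nat) : Nat := @Bool.rec (fun _ => Nat) (Atab_s_276_291 c) (Atab_s_291_307 c) (Nat.ble 291 c)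
noncomputable def Atab_s_246_307 (c : Nat) : Nat := @Bool.rec (fun _ => Nat) (Atab_s_246_276 c) (Atab_s_276_307 c) (Nat.ble 276 c)
noncomputable def Atab_s_308_310 (c : Nat) : Nat := @Bool.rec (fun _ => Nat) (Atab_308) (Atab_309) (Nat.ble 309 c)
noncomputable def Atab_s_307_310 (c : Nat) : Nat := @Bool.rec (fun _ => Nat) (Atab_307) (Atab_s_308_310 c) (Nat.ble 308 c)
noncomputable def Atab_s_310_312 (c : Nat) : Nat := @Bool.rec (fun _ => Nat) (Atab_310) (Atab_311) (Nat.ble 311 c)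
noncomputable def Atab_s_312_314 (c : Nat) : Nat := @Bool.rec (fun _ => Nat) (Atab_312) (Atab_313) (Nat.ble 313 c)
noncomputable def Atab_s_310_314 (c : Nat) : Nat := @Bool.rec (fun _ => Nat) (Atab_s_310_312 c) (Atab_s_312_314 c) (Nat.ble 312 c)
noncomputable def Atab_s_307_314 (c : Nat) : Nat := @Bool.rec (fun _ => Nat) (Atab_s_307_310 c) (Atab_s_310_314 c) (Nat.ble 310 c)
noncomputable def Atab_s_314_316 (c : Nat) : Nat := @Bool.rec (fun _ => Nat) (Atab_314) (Atab_315) (Nat.ble 315 c)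
noncomputable def Atab_s_316_318 (c : Nat) : Nat := @Bool.rec (fun _ => Nat) (Atab_316) (Atab_317) (Nat.ble 317 c)
noncomputable def Atab_s_314_318 (c : Nat) : Nat := @Bool.rec (fun _ => Nat) (Atab_s_314_316 c) (Atab_s_316_318 c) (Nat.ble 316 c)
noncomputable def Atab_s_318_320 (c : Nat) : Nat := @Bool.rec (fun _ => Nat) (Atab_318) (Atab_319) (Nat.ble 319 c)
noncomputable def Atab_s_320_322 (c : Nat) : Nat := @Bool.rec (fun _ => Nat) (Atab_320) (Atab_321) (Nat.ble 321 c)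
noncomputable def Atab_s_318_322 (c : Nat) : Nat := @Bool.rec (fun _ => Nat) (Atab_s_318_320 c) (Atab_s_320_322 c) (Nat.ble 320 c)
noncomputable def Atab_s_314_322 (c : Nat) : Nat := @Bool.rec (fun _ => Nat) (Atab_s_314_318 c) (Atab_s_318_322 c) (Nat.ble 318 c)
noncomputable def Atab_s_307_322 (c : Nat) : Nat := @Bool.rec (fun _ => Nat) (Atab_s_307_314 c) (Atab_s_314_322 c) (Nat.ble 314 c)
noncomputable def Atab_s_322_324 (c : Nat) : Nat := @Bool.rec (fun _ => Nat) (Atab_322) (Atab_323) (Nat.ble 323 c)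
noncomputable def Atab_s_324_326 (c : Nat) : Nat := @Bool.rec (fun _ => Nat) (Atab_324) (Atab_325) (Nat.ble 325 c)
noncomputable def Atab_s_322_326 (c : Nat) : Nat := @Bool.rec (fun _ => Nat) (Atab_s_322_324 c) (Atab_s_324_326 c) (Nat.ble 324 c)
noncomputable def Atab_s_326_328 (c : Nat) : Nat := @Bool.rec (fun _ => Nat) (Atab_326) (Atab_327) (Nat.ble 327 c)
noncomputable def Atab_s_328_330 (c : Nat) : Nat := @Bool.rec (fun _ => Nat) (Atab_328) (Atab_329) (Nat.ble 329 c)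
noncomputable def Atab_s_326_330 (c : Nat) : Nat := @Bool.rec (fun _ => Nat) (Atab_s_326_328 c) (Atab_s_328_330 c) (Nat.ble 328 c)
noncomputable def Atab_s_322_330 (c : Nat) : Nat := @Bool.rec (fun _ => Nat) (Atab_s_322_326 c) (Atab_s_326_330 c) (Nat.ble 326 c)
noncomputable def Atab_s_330_332 (c : Nat) : Nat := @Bool.rec (fun _ => Nat) (Atab_330) (Atab_331) (Nat.ble 331 c)
noncomputable def Atab_s_332_334 (c : Nat) : Nat := @Bool.rec (fun _ => Nat) (Atab_332) (Atab_333) (Nat.ble 333 c)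
noncomputable def Atab_s_330_334 (c : Nat) : Nat := @Bool.rec (fun _ => Nat) (Atab_s_330_332 c) (Atab_s_332_334 c) (Nat.ble 332 c)
noncomputable def Atab_s_334_336 (c : Nat) : Nat := @Bool.rec (fun _ => Nat) (Atab_334) (Atab_335) (Nat.ble 335 c)
noncomputable def Atab_s_336_338 (c : Nat) : Nat := @Bool.rec (fun _ => Nat) (Atab_336) (Atab_337) (Nat.ble 337 c)
noncomputable def Atab_s_334_338 (c : Nat) : Nat := @Bool.rec (fun _ => Nat) (Atab_s_334_336 c) (Atab_s_336_338 c) (Nat.ble 336 c)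
noncomputable def Atab_s_330_338 (c : Nat) : Nat := @Bool.rec (fun _ => Nat) (Atab_s_330_334 c) (Atab_s_334_338 c) (Nat.ble 334 c)
noncomputable def Atab_s_322_338 (c : Nat) : Nat := @Bool.rec (fun _ => Nat) (Atab_s_322_330 c) (Atab_s_330_338 c) (Nat.ble 330 c)
noncomputable def Atab_s_307_338 (c : Nat) : Nat := @Bool.rec (fun _ => Nat) (Atab_s_307_322 c) (Atab_s_322_338 c) (Nat.ble 322 c)
noncomputable def Atab_s_339_341 (c : Nat) : Nat := @Bool.rec (fun _ => Nat) (Atab_339) (Atab_340) (Nat.ble 340 c)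
noncomputable def Atab_s_338_341 (c : Nat) : Nat := @Bool.rec (fun _ => Nat) (Atab_338) (Atab_s_339_341 c) (Nat.ble 339 c)
noncomputable def Atab_s_341_343 (c : Nat) : Nat := @Bool.rec (fun _ => Nat) (Atab_341) (Atab_342) (Nat.ble 342 c)
noncomputable def Atab_s_343_345 (c : Nat) : Nat := @Bool.rec (fun _ => Nat) (Atab_343) (Atab_344) (Nat.ble 344 c)
noncomputable def Atab_s_341_345 (c : Nat) : Nat := @Bool.rec (fun _ => Nat) (Atab_s_341_343 c) (Atab_s_343_345 c) (Nat.ble 343 c)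
noncomputable def Atab_s_338_345 (c : Nat) : Nat := @Bool.rec (fun _ => Nat) (Atab_s_338_341 c) (Atab_s_341_345 c) (Nat.ble 341 c)
noncomputable def Atab_s_345_347 (c : Nat) : Nat := @Bool.rec (fun _ => Nat) (Atab_345) (Atab_346) (Nat.ble 346 c)
noncomputable def Atab_s_347_349 (c : Nat) : Nat := @Bool.rec (fun _ => Nat) (Atab_347) (Atab_348) (Nat.ble 348 c)
noncomputable def Atab_s_345_349 (c : Nat) : Nat := @Bool.rec (fun _ => Nat) (Atab_s_345_347 c) (Atab_s_347_349 c) (Nat.ble 347 c)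
noncomputable def Atab_s_349_351 (c : Nat) : Nat := @Bool.rec (fun _ => Nat) (Atab_349) (Atab_350) (Nat.ble 350 c)
noncomputable def Atab_s_351_353 (c : Nat) : Nat := @Bool.rec (fun _ => Nat) (Atab_351) (Atab_352) (Nat.ble 352 c)
noncomputable def Atab_s_349_353 (c : Nat) : Nat := @Bool.rec (fun _ => Nat) (Atab_s_349_351 c) (Atab_s_351_353 c) (Nat.ble 351 c)
noncomputable def Atab_s_345_353 (c : Nat) : Nat := @Bool.rec (fun _ => Nat) (Atab_s_345_349 c) (Atab_s_349_353 c) (Nat.ble 349 c)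
noncomputable def Atab_s_338_353 (c : Nat) : Nat := @Bool.rec (fun _ => Nat) (Atab_s_338_345 c) (Atab_s_345_353 c) (Nat.ble 345 c)
noncomputable def Atab_s_353_355 (c : Nat) : Nat := @Bool.rec (fun _ => Nat) (Atab_353) (Atab_354) (Nat.ble 354 c)
noncomputable def Atab_s_355_357 (c : Nat) : Nat := @Bool.rec (fun _ => Nat) (Atab_355) (Atab_356) (Nat.ble 356 c)
noncomputable def Atab_s_353_357 (c : Nat) : Nat := @Bool.rec (fun _ => Nat) (Atab_s_353_355 c) (Atab_s_355_357 c) (Nat.ble 355 c)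
noncomputable def Atab_s_357_359 (c : Nat) : Nat := @Bool.rec (fun _ => Nat) (Atab_357) (Atab_358) (Nat.ble 358 c)
noncomputable def Atab_s_359_361 (c : Nat) : Nat := @Bool.rec (fun _ => Nat) (Atab_359) (Atab_360) (Nat.ble 360 c)
noncomputable def Atab_s_357_361 (c : Nat) : Nat := @Bool.rec (fun _ => Nat) (Atab_s_357_359 c) (Atab_s_359_361 c) (Nat.ble 359 c)
noncomputable def Atab_s_353_361 (c : Nat) : Nat := @Bool.rec (fun _ => Nat) (Atab_s_353_357 c) (Atab_s_357_361 c) (Nat.ble 357 c)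
noncomputable def Atab_s_361_363 (c : Nat) : Nat := @Bool.rec (fun _ => Nat) (Atab_361) (Atab_362) (Nat.ble 362 c)
noncomputable def Atab_s_363_365 (c : Nat) : Nat := @Bool.rec (fun _ => Nat) (Atab_363) (Atab_364) (Nat.ble 364 c)
noncomputable def Atab_s_361_365 (c : Nat) : Nat := @Bool.rec (fun _ => Nat) (Atab_s_361_363 c) (Atab_s_363_365 c) (Nat.ble 363 c)
noncomputable def Atab_s_365_367 (c : Nat) : Nat := @Bool.rec (fun _ => Nat) (Atab_365) (Atab_366) (Nat.ble 366 c)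
noncomputable def Atab_s_367_369 (c : Nat) : Nat := @Bool.rec (fun _ => Nat) (Atab_367) (Atab_368) (Nat.ble 368 c)
noncomputable def Atab_s_365_369 (c : Nat) : Nat := @Bool.rec (fun _ => Nat) (Atab_s_365_367 c) (Atab_s_367_369 c) (Nat.ble 367 c)
noncomputable def Atab_s_361_369 (c : Nat) : Nat := @Bool.rec (fun _ => Nat) (Atab_s_361_365 c) (Atab_s_365_369 c) (Nat.ble 365 c)
noncomputable def Atab_s_353_369 (c : Nat) : Nat := @Bool.rec (fun _ => Nat) (Atab_s_353_361 c) (Atab_s_361_369 c) (Nat.ble 361 c)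
noncomputable def Atab_s_338_369 (c : Nat) : Nat := @Bool.rec (fun _ => Nat) (Atab_s_338_353 c) (Atab_s_353_369 c) (Nat.ble 353 c)
noncomputable def Atab_s_307_369 (c : Nat) : Nat := @Bool.rec (fun _ => Nat) (Atab_s_307_338 c) (Atab_s_338_369 c) (Nat.ble 338 c)
noncomputable def Atab_s_246_369 (c : Nat) : Nat := @Bool.rec (fun _ => Nat) (Atab_s_246_307 c) (Atab_s_307_369 c) (Nat.ble 307 c)
noncomputable def Atab_s_370_372 (c : Nat) : Nat := @Bool.rec (fun _ => Nat) (Atab_370) (Atab_371) (Nat.ble 371 c)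
noncomputable def Atab_s_369_372 (c : Nat) : Nat := @Bool.rec (fun _ => Nat) (Atab_369) (Atab_s_370_372 c) (Nat.ble 370 c)
noncomputable def Atab_s_372_374 (c : Nat) : Nat := @Bool.rec (fun _ => Nat) (Atab_372) (Atab_373) (Nat.ble 373 c)
noncomputable def Atab_s_374_376 (c : Nat) : Nat := @Bool.rec (fun _ => Nat) (Atab_374) (Atab_375) (Nat.ble 375 c)
noncomputable def Atab_s_372_376 (c : Nat) : Nat := @Bool.rec (fun _ => Nat) (Atab_s_372_374 c) (Atab_s_374_376 c) (Nat.ble 374 c)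
noncomputable def Atab_s_369_376 (c : Nat) : Nat := @Bool.rec (fun _ => Nat) (Atab_s_369_372 c) (Atab_s_372_376 c) (Nat.ble 372 c)
noncomputable def Atab_s_376_378 (c : Nat) : Nat := @Bool.rec (fun _ => Nat) (Atab_376) (Atab_377) (Nat.ble 377 c)
noncomputable def Atab_s_378_380 (c : Nat) : Nat := @Bool.rec (fun _ => Nat) (Atab_378) (Atab_379) (Nat.ble 379 c)
noncomputable def Atab_s_376_380 (c : Nat) : Nat := @Bool.rec (fun _ => Nat) (Atab_s_376_378 c) (Atab_s_378_380 c) (Nat.ble 378 c)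
noncomputable def Atab_s_380_382 (c : Nat) : Nat := @Bool.rec (fun _ => Nat) (Atab_380) (Atab_381) (Nat.ble 381 c)
noncomputable def Atab_s_382_384 (c : Nat) : Nat := @Bool.rec (fun _ => Nat) (Atab_382) (Atab_383) (Nat.ble 383 c)
noncomputable def Atab_s_380_384 (c : Nat) : Nat := @Bool.rec (fun _ => Nat) (Atab_s_380_382 c) (Atab_s_382_384 c) (Nat.ble 382 c)
noncomputable def Atab_s_376_384 (c : Nat) : Nat := @Bool.rec (fun _ => Nat) (Atab_s_376_380 c) (Atab_s_380_384 c) (Nat.ble 380 c)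
noncomputable def Atab_s_369_384 (c : Nat) : Nat := @Bool.rec (fun _ => Nat) (Atab_s_369_376 c) (Atab_s_376_384 c) (Nat.ble 376 c)
noncomputable def Atab_s_385_387 (c : Nat) : Nat := @Bool.rec (fun _ => Nat) (Atab_385) (Atab_386) (Nat.ble 386 c)
noncomputable def Atab_s_384_387 (c : Nat) : Nat := @Bool.rec (fun _ => Nat) (Atab_384) (Atab_s_385_387 c) (Nat.ble 385 c)
noncomputable def Atab_s_387_389 (c : Nat) : Nat := @Bool.rec (fun _ => Nat) (Atab_387) (Atab_388) (Nat.ble 388 c)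
noncomputable def Atab_s_389_391 (c : Nat) : Nat := @Bool.rec (fun _ => Nat) (Atab_389) (Atab_390) (Nat.ble 390 c)
noncomputable def Atab_s_387_391 (c : Nat) : Nat := @Bool.rec (fun _ => Nat) (Atab_s_387_389 c) (Atab_s_389_391 c) (Nat.ble 389 c)
noncomputable def Atab_s_384_391 (c : Nat) : Nat := @Bool.rec (fun _ => Nat) (Atab_s_384_387 c) (Atab_s_387_391 c) (Nat.ble 387 c)
noncomputable def Atab_s_391_393 (c : Nat) : Nat := @Bool.rec (fun _ => Nat) (Atab_391) (Atab_392) (Nat.ble 392 c)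
noncomputable def Atab_s_393_395 (c : Nat) : Nat := @Bool.rec (fun _ => Nat) (Atab_393) (Atab_394) (Nat.ble 394 c)
noncomputable def Atab_s_391_395 (c : Nat) : Nat := @Bool.rec (fun _ => Nat) (Atab_s_391_393 c) (Atab_s_393_395 c) (Nat.ble 393 c)
noncomputable def Atab_s_395_397 (c : Nat) : Nat := @Bool.rec (fun _ => Nat) (Atab_395) (Atab_396) (Nat.ble 396 c)
noncomputable def Atab_s_397_399 (c : Nat) : Nat := @Bool.rec (fun _ => Nat) (Atab_397) (Atab_398) (Nat.ble 398 c)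
noncomputable def Atab_s_395_399 (c : Nat) : Nat := @Bool.rec (fun _ => Nat) (Atab_s_395_397 c) (Atab_s_397_399 c) (Nat.ble 397 c)
noncomputable def Atab_s_391_399 (c : Nat) : Nat := @Bool.rec (fun _ => Nat) (Atab_s_391_395 c) (Atab_s_395_399 c) (Nat.ble 395 c)
noncomputable def Atab_s_384_399 (c : Nat) : Nat := @Bool.rec (fun _ => Nat) (Atab_s_384_391 c) (Atab_s_391_399 c) (Nat.ble 391 c)
noncomputable def Atab_s_369_399 (c : Nat) : Nat := @Bool.rec (fun _ => Nat) (Atab_s_369_384 c) (Atab_s_384_399 c) (Nat.ble 384 c)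
noncomputable def Atab_s_400_402 (c : Nat) : Nat := @Bool.rec (fun _ => Nat) (Atab_400) (Atab_401) (Nat.ble 401 c)
noncomputable def Atab_s_399_402 (c : Nat) : Nat := @Bool.rec (fun _ => Nat) (Atab_399) (Atab_s_400_402 c) (Nat.ble 400 c)
noncomputable def Atab_s_402_404 (c : Nat) : Nat := @Bool.rec (fun _ => Nat) (Atab_402) (Atab_403) (Nat.ble 403 c)
noncomputable def Atab_s_404_406 (c : Nat) : Nat := @Bool.rec (fun _ => Nat) (Atab_404) (Atab_405) (Nat.ble 405 c)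
noncomputable def Atab_s_402_406 (c : Nat) : Nat := @Bool.rec (fun _ => Nat) (Atab_s_402_404 c) (Atab_s_404_406 c) (Nat.ble 404 c)
noncomputable def Atab_s_399_406 (c : Nat) : Nat := @Bool.rec (fun _ => Nat) (Atab_s_399_402 c) (Atab_s_402_406 c) (Nat.ble 402 c)
noncomputable def Atab_s_406_408 (c : Nat) : Nat := @Bool.rec (fun _ => Nat) (Atab_406) (Atab_407) (Nat.ble 407 c)
noncomputable def Atab_s_408_410 (c : Nat) : Nat := @Bool.rec (fun _ => Nat) (Atab_408) (Atab_409) (Nat.ble 409 c)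
noncomputable def Atab_s_406_410 (c : Nat) : Nat := @Bool.rec (fun _ => Nat) (Atab_s_406_408 c) (Atab_s_408_410 c) (Nat.ble 408 c)
noncomputable def Atab_s_410_412 (c : Nat) : Nat := @Bool.rec (fun _ => Nat) (Atab_410) (Atab_411) (Nat.ble 411 c)
noncomputable def Atab_s_412_414 (c : Nat) : Nat := @Bool.rec (fun _ => Nat) (Atab_412) (Atab_413) (Nat.ble 413 c)
noncomputable def Atab_s_410_414 (c : Nat) : Nat := @Bool.rec (fun _ => Nat) (Atab_s_410_412 c) (Atab_s_412_414 c) (Nat.ble 412 c)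
noncomputable def Atab_s_406_414 (c : Nat) : Nat := @Bool.rec (fun _ => Nat) (Atab_s_406_410 c) (Atab_s_410_414 c) (Nat.ble 410 c)
noncomputable def Atab_s_399_414 (c : Nat) : Nat := @Bool.rec (fun _ => Nat) (Atab_s_399_406 c) (Atab_s_406_414 c) (Nat.ble 406 c)
noncomputable def Atab_s_414_416 (c : Nat) : Nat := @Bool.rec (fun _ => Nat) (Atab_414) (Atab_415) (Nat.ble 415 c)
noncomputable def Atab_s_416_418 (c : Nat) : Nat := @Bool.rec (fun _ => Nat) (Atab_416) (Atab_417) (Nat.ble 417 c)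
noncomputable def Atab_s_414_418 (c : Nat) : Nat := @Bool.rec (fun _ => Nat) (Atab_s_414_416 c) (Atab_s_416_418 c) (Nat.ble 416 c)
noncomputable def Atab_s_418_420 (c : Nat) : Nat := @Bool.rec (fun _ => Nat) (Atab_418) (Atab_419) (Nat.ble 419 c)
noncomputable def Atab_s_420_422 (c : Nat) : Nat := @Bool.rec (fun _ => Nat) (Atab_420) (Atab_421) (Nat.ble 421 c)
noncomputable def Atab_s_418_422 (c : Nat) : Nat := @Bool.rec (fun _ => Nat) (Atab_s_418_420 c) (Atab_s_420_422 c) (Nat.ble 420 c)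
noncomputable def Atab_s_414_422 (c : Nat) : Nat := @Bool.rec (fun _ => Nat) (Atab_s_414_418 c) (Atab_s_418_422 c) (Nat.ble 418 c)
noncomputable def Atab_s_422_424 (c : Nat) : Nat := @Bool.rec (fun _ => Nat) (Atab_422) (Atab_423) (Nat.ble 423 c)
noncomputable def Atab_s_424_426 (c : Nat) : Nat := @Bool.rec (fun _ => Nat) (Atab_424) (Atab_425) (Nat.ble 425 c)
noncomputable def Atab_s_422_426 (c : Nat) : Nat := @Bool.rec (fun _ => Nat) (Atab_s_422_424 c) (Atab_s_424_426 c) (Nat.ble 424 c)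
noncomputable def Atab_s_426_428 (c : Nat) : Nat := @Bool.rec (fun _ => Nat) (Atab_426) (Atab_427) (Nat.ble 427 c)
noncomputable def Atab_s_428_430 (c : Nat) : Nat := @Bool.rec (fun _ => Nat) (Atab_428) (Atab_429) (Nat.ble 429 c)
noncomputable def Atab_s_426_430 (c : Nat) : Nat := @Bool.rec (fun _ => Nat) (Atab_s_426_428 c) (Atab_s_428_430 c) (Nat.ble 428 c)
noncomputable def Atab_s_422_430 (c : Nat) : Nat := @Bool.rec (fun _ => Nat) (Atab_s_422_426 c) (Atab_s_426_430 c) (Nat.ble 426 c)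
noncomputable def Atab_s_414_430 (c : Nat) : Nat := @Bool.rec (fun _ => Nat) (Atab_s_414_422 c) (Atab_s_422_430 c) (Nat.ble 422 c)
noncomputable def Atab_s_399_430 (c : Nat) : Nat := @Bool.rec (fun _ => Nat) (Atab_s_399_414 c) (Atab_s_414_430 c) (Nat.ble 414 c)
noncomputable def Atab_s_369_430 (c : Nat) : Nat := @Bool.rec (fun _ => Nat) (Atab_s_369_399 c) (Atab_s_399_430 c) (Nat.ble 399 c)
noncomputable def Atab_s_431_433 (c : Nat) : Nat := @Bool.rec (fun _ => Nat) (Atab_431) (Atab_432) (Nat.ble 432 c)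
noncomputable def Atab_s_430_433 (c : Nat) : Nat := @Bool.rec (fun _ => Nat) (Atab_430) (Atab_s_431_433 c) (Nat.ble 431 c)
noncomputable def Atab_s_433_435 (c : Nat) : Nat := @Bool.rec (fun _ => Nat) (Atab_433) (Atab_434) (Nat.ble 434 c)
noncomputable def Atab_s_435_437 (c : Nat) : Nat := @Bool.rec (fun _ => Nat) (Atab_435) (Atab_436) (Nat.ble 436 c)
noncomputable def Atab_s_433_437 (c : Nat) : Nat := @Bool.rec (fun _ => Nat) (Atab_s_433_435 c) (Atab_s_435_437 c) (Nat.ble 435 c)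
noncomputable def Atab_s_430_437 (c : Nat) : Nat := @Bool.rec (fun _ => Nat) (Atab_s_430_433 c) (Atab_s_433_437 c) (Nat.ble 433 c)
noncomputable def Atab_s_437_439 (c : Nat) : Nat := @Bool.rec (fun _ => Nat) (Atab_437) (Atab_438) (Nat.ble 438 c)
noncomputable def Atab_s_439_441 (c : Nat) : Nat := @Bool.rec (fun _ => Nat) (Atab_439) (Atab_440) (Nat.ble 440 c)
noncomputable def Atab_s_437_441 (c : Nat) : Nat := @Bool.rec (fun _ => Nat) (Atab_s_437_439 c) (Atab_s_439_441 c) (Nat.ble 439 c)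
noncomputable def Atab_s_441_443 (c : Nat) : Nat := @Bool.rec (fun _ => Nat) (Atab_441) (Atab_442) (Nat.ble 442 c)
noncomputable def Atab_s_443_445 (c : Nat) : Nat := @Bool.rec (fun _ => Nat) (Atab_443) (Atab_444) (Nat.ble 444 c)
noncomputable def Atab_s_441_445 (c : Nat) : Nat := @Bool.rec (fun _ => Nat) (Atab_s_441_443 c) (Atab_s_443_445 c) (Nat.ble 443 c)
noncomputable def Atab_s_437_445 (c : Nat) : Nat := @Bool.rec (fun _ => Nat) (Atab_s_437_441 c) (Atab_s_441_445 c) (Nat.ble 441 c)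
noncomputable def Atab_s_430_445 (c : Nat) : Nat := @Bool.rec (fun _ => Nat) (Atab_s_430_437 c) (Atab_s_437_445 c) (Nat.ble 437 c)
noncomputable def Atab_s_445_447 (c : Nat) : Nat := @Bool.rec (fun _ => Nat) (Atab_445) (Atab_446) (Nat.ble 446 c)
noncomputable def Atab_s_447_449 (c : Nat) : Nat := @Bool.rec (fun _ => Nat) (Atab_447) (Atab_448) (Nat.ble 448 c)
noncomputable def Atab_s_445_449 (c : Nat) : Nat := @Bool.rec (fun _ => Nat) (Atab_s_445_447 c) (Atab_s_447_449 c) (Nat.ble 447 c)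
noncomputable def Atab_s_449_451 (c : Nat) : Nat := @Bool.rec (fun _ => Nat) (Atab_449) (Atab_450) (Nat.ble 450 c)
noncomputable def Atab_s_451_453 (c : Nat) : Nat := @Bool.rec (fun _ => Nat) (Atab_451) (Atab_452) (Nat.ble 452 c)
noncomputable def Atab_s_449_453 (c : Nat) : Nat := @Bool.rec (fun _ => Nat) (Atab_s_449_451 c) (Atab_s_451_453 c) (Nat.ble 451 c)
noncomputable def Atab_s_445_453 (c : Nat) : Nat := @Bool.rec (fun _ => Nat) (Atab_s_445_449 c) (Atab_s_449_453 c) (Nat.ble 449 c)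
noncomputable def Atab_s_453_455 (c : Nat) : Nat := @Bool.rec (fun _ => Nat) (Atab_453) (Atab_454) (Nat.ble 454 c)
noncomputable def Atab_s_455_457 (c : Nat) : Nat := @Bool.rec (fun _ => Nat) (Atab_455) (Atab_456) (Nat.ble 456 c)
noncomputable def Atab_s_453_457 (c : Nat) : Nat := @Bool.rec (fun _ => Nat) (Atab_s_453_455 c) (Atab_s_455_457 c) (Nat.ble 455 c)
noncomputable def Atab_s_457_459 (c : Nat) : Nat := @Bool.rec (fun _ => Nat) (Atab_457) (Atab_458) (Nat.ble 458 c)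
noncomputable def Atab_s_459_461 (c : Nat) : Nat := @Bool.rec (fun _ => Nat) (Atab_459) (Atab_460) (Nat.ble 460 c)
noncomputable def Atab_s_457_461 (c : Nat) : Nat := @Bool.rec (fun _ => Nat) (Atab_s_457_459 c) (Atab_s_459_461 c) (Nat.ble 459 c)
noncomputable def Atab_s_453_461 (c : Nat) : Nat := @Bool.rec (fun _ => Nat) (Atab_s_453_457 c) (Atab_s_457_461 c) (Nat.ble 457 c)
noncomputable def Atab_s_445_461 (c : Nat) : Nat := @Bool.rec (fun _ => Nat) (Atab_s_445_453 c) (Atab_s_453_461 c) (Nat.ble 453 c)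
noncomputable def Atab_s_430_461 (c : Nat) : Nat := @Bool.rec (fun _ => Nat) (Atab_s_430_445 c) (Atab_s_445_461 c) (Nat.ble 445 c)
noncomputable def Atab_s_462_464 (c : Nat) : Nat := @Bool.rec (fun _ => Nat) (Atab_462) (Atab_463) (Nat.ble 463 c)
noncomputable def Atab_s_461_464 (c : Nat) : Nat := @Bool.rec (fun _ => Nat) (Atab_461) (Atab_s_462_464 c) (Nat.ble 462 c)
noncomputable def Atab_s_464_466 (c : Nat) : Nat := @Bool.rec (fun _ => Nat) (Atab_464) (Atab_465) (Nat.ble 465 c)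
noncomputable def Atab_s_466_468 (c : Nat) : Nat := @Bool.rec (fun _ => Nat) (Atab_466) (Atab_467) (Nat.ble 467 c)
noncomputable def Atab_s_464_468 (c : Nat) : Nat := @Bool.rec (fun _ => Nat) (Atab_s_464_466 c) (Atab_s_466_468 c) (Nat.ble 466 c)
noncomputable def Atab_s_461_468 (c : Nat) : Nat := @Bool.rec (fun _ => Nat) (Atab_s_461_464 c) (Atab_s_464_468 c) (Nat.ble 464 c)
noncomputable def Atab_s_468_470 (c : Nat) : Nat := @Bool.rec (fun _ => Nat) (Atab_468) (Atab_469) (Nat.ble 469 c)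
noncomputable def Atab_s_470_472 (c : Nat) : Nat := @Bool.rec (fun _ => Nat) (Atab_470) (Atab_471) (Nat.ble 471 c)
noncomputable def Atab_s_468_472 (c : Nat) : Nat := @Bool.rec (fun _ => Nat) (Atab_s_468_470 c) (Atab_s_470_472 c) (Nat.ble 470 c)
noncomputable def Atab_s_472_474 (c : Nat) : Nat := @Bool.rec (fun _ => Nat) (Atab_472) (Atab_473) (Nat.ble 473 c)
noncomputable def Atab_s_474_476 (c : Nat) : Nat := @Bool.rec (fun _ => Nat) (Atab_474) (Atab_475) (Nat.ble 475 c)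
noncomputable def Atab_s_472_476 (c : Nat) : Nat := @Bool.rec (fun _ => Nat) (Atab_s_472_474 c) (Atab_s_474_476 c) (Nat.ble 474 c)
noncomputable def Atab_s_468_476 (c : Nat) : Nat := @Bool.rec (fun _ => Nat) (Atab_s_468_472 c) (Atab_s_472_476 c) (Nat.ble 472 c)
noncomputable def Atab_s_461_476 (c : Nat) : Nat := @Bool.rec (fun _ => Nat) (Atab_s_461_468 c) (Atab_s_468_476 c) (Nat.ble 468 c)
noncomputable def Atab_s_476_478 (c : Nat) : Nat := @Bool.rec (fun _ => Nat) (Atab_476) (Atab_477) (Nat.ble 477 c)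
noncomputable def Atab_s_478_480 (c : Nat) : Nat := @Bool.rec (fun _ => Nat) (Atab_478) (Atab_479) (Nat.ble 479 c)
noncomputable def Atab_s_476_480 (c : Nat) : Nat := @Bool.rec (fun _ => Nat) (Atab_s_476_478 c) (Atab_s_478_480 c) (Nat.ble 478 c)
noncomputable def Atab_s_480_482 (c : Nat) : Nat := @Bool.rec (fun _ => Nat) (Atab_480) (Atab_481) (Nat.ble 481 c)
noncomputable def Atab_s_482_484 (c : Nat) : Nat := @Bool.rec (fun _ => Nat) (Atab_482) (Atab_483) (Nat.ble 483 c)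
noncomputable def Atab_s_480_484 (c : Nat) : Nat := @Bool.rec (fun _ => Nat) (Atab_s_480_482 c) (Atab_s_482_484 c) (Nat.ble 482 c)
noncomputable def Atab_s_476_484 (c : Nat) : Nat := @Bool.rec (fun _ => Nat) (Atab_s_476_480 c) (Atab_s_480_484 c) (Nat.ble 480 c)
noncomputable def Atab_s_484_486 (c : Nat) : Nat := @Bool.rec (fun _ => Nat) (Atab_484) (Atab_485) (Nat.ble 485 c)
noncomputable def Atab_s_486_488 (c : Nat) : Nat := @Bool.rec (fun _ => Nat) (Atab_486) (Atab_487) (Nat.ble 487 c)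
noncomputable def Atab_s_484_488 (c : Nat) : Nat := @Bool.rec (fun _ => Nat) (Atab_s_484_486 c) (Atab_s_486_488 c) (Nat.ble 486 c)
noncomputable def Atab_s_488_490 (c : Nat) : Nat := @Bool.rec (fun _ => Nat) (Atab_488) (Atab_489) (Nat.ble 489 c)
noncomputable def Atab_s_490_492 (c : Nat) : Nat := @Bool.rec (fun _ => Nat) (Atab_490) (Atab_491) (Nat.ble 491 c)
noncomputable def Atab_s_488_492 (c : Nat) : Nat := @Bool.rec (fun _ => Nat) (Atab_s_488_490 c) (Atab_s_490_492 c) (Nat.ble 490 c)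
noncomputable def Atab_s_484_492 (c : Nat) : Nat := @Bool.rec (fun _ => Nat) (Atab_s_484_488 c) (Atab_s_488_492 c) (Nat.ble 488 c)
noncomputable def Atab_s_476_492 (c : Nat) : Nat := @Bool.rec (fun _ => Nat) (Atab_s_476_484 c) (Atab_s_484_492 c) (Nat.ble 484 c)
noncomputable def Atab_s_461_492 (c : Nat) : Nat := @Bool.rec (fun _ => Nat) (Atab_s_461_476 c) (Atab_s_476_492 c) (Nat.ble 476 c)
noncomputable def Atab_s_430_492 (c : Nat) : Nat := @Bool.rec (fun _ => Nat) (Atab_s_430_461 c) (Atab_s_461_492 c) (Nat.ble 461 c)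
noncomputable def Atab_s_369_492 (c : Nat) : Nat := @Bool.rec (fun _ => Nat) (Atab_s_369_430 c) (Atab_s_430_492 c) (Nat.ble 430 c)
noncomputable def Atab_s_246_492 (c : Nat) : Nat := @Bool.rec (fun _ => Nat) (Atab_s_246_369 c) (Atab_s_369_492 c) (Nat.ble 369 c)
noncomputable def Atab_s_0_492 (c : Nat) : Nat := @Bool.rec (fun _ => Nat) (Atab_s_0_246 c) (Atab_s_246_492 c) (Nat.ble 246 c)
noncomputable def Atab (i : Nat) : Nat := rdw 42 4398046511103 (Atab_s_0_492 (Nat.shiftRight i 11)) (Nat.land i 2047)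
noncomputable def Btab_s_0_2 (c : Nat) : Nat := @Bool.rec (fun _ => Nat) (Btab_0) (Btab_1) (Nat.ble 1 c)
noncomputable def Btab_s_3_5 (c : Nat) : Nat := @Bool.rec (fun _ => Nat) (Btab_3) (Btab_4) (Nat.ble 4 c)
noncomputable def Btab_s_2_5 (c : Nat) : Nat := @Bool.rec (fun _ => Nat) (Btab_2) (Btab_s_3_5 c) (Nat.ble 3 c)
noncomputable def Btab_s_0_5 (c : Nat) : Nat := @Bool.rec (fun _ => Nat) (Btab_s_0_2 c) (Btab_s_2_5 c) (Nat.ble 2 c)
noncomputable def Btab_s_5_7 (c : Nat) : Nat := @Bool.rec (fun _ => Nat) (Btab_5) (Btab_6) (Nat.ble 6 c)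
noncomputable def Btab_s_8_10 (c : Nat) : Nat := @Bool.rec (fun _ => Nat) (Btab_8) (Btab_9) (Nat.ble 9 c)
noncomputable def Btab_s_7_10 (c : Nat) : Nat := @Bool.rec (fun _ => Nat) (Btab_7) (Btab_s_8_10 c) (Nat.ble 8 c)
noncomputable def Btab_s_5_10 (c : Nat) : Nat := @Bool.rec (fun _ => Nat) (Btab_s_5_7 c) (Btab_s_7_10 c) (Nat.ble 7 c)
noncomputable def Btab_s_0_10 (c : Nat) : Nat := @Bool.rec (fun _ => Nat) (Btab_s_0_5 c) (Btab_s_5_10 c) (Nat.ble 5 c)
noncomputable def Btab_s_10_12 (c : Nat) : Nat := @Bool.rec (fun _ => Nat) (Btab_10) (Btab_11) (Nat.ble 11 c)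
noncomputable def Btab_s_13_15 (c : Nat) : Nat := @Bool.rec (fun _ => Nat) (Btab_13) (Btab_14) (Nat.ble 14 c)
noncomputable def Btab_s_12_15 (c : Nat) : Nat := @Bool.rec (fun _ => Nat) (Btab_12) (Btab_s_13_15 c) (Nat.ble 13 c)
noncomputable def Btab_s_10_15 (c : Nat) : Nat := @Bool.rec (fun _ => Nat) (Btab_s_10_12 c) (Btab_s_12_15 c) (Nat.ble 12 c)
noncomputable def Btab_s_15_17 (c : Nat) : Nat := @Bool.rec (fun _ => Nat) (Btab_15) (Btab_16) (Nat.ble 16 c)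
noncomputable def Btab_s_18_20 (c : Nat) : Nat := @Bool.rec (fun _ => Nat) (Btab_18) (Btab_19) (Nat.ble 19 c)
noncomputable def Btab_s_17_20 (c : Nat) : Nat := @Bool.rec (fun _ => Nat) (Btab_17) (Btab_s_18_20 c) (Nat.ble 18 c)
noncomputable def Btab_s_15_20 (c : Nat) : Nat := @Bool.rec (fun _ => Nat) (Btab_s_15_17 c) (Btab_s_17_20 c) (Nat.ble 17 c)
noncomputable def Btab_s_10_20 (c : Nat) : Nat := @Bool.rec (fun _ => Nat) (Btab_s_10_15 c) (Btab_s_15_20 c) (Nat.ble 15 c)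
noncomputable def Btab_s_0_20 (c : Nat) : Nat := @Bool.rec (fun _ => Nat) (Btab_s_0_10 c) (Btab_s_10_20 c) (Nat.ble 10 c)
noncomputable def Btab_s_20_22 (c : Nat) : Nat := @Bool.rec (fun _ => Nat) (Btab_20) (Btab_21) (Nat.ble 21 c)
noncomputable def Btab_s_23_25 (c : Nat) : Nat := @Bool.rec (fun _ => Nat) (Btab_23) (Btab_24) (Nat.ble 24 c)
noncomputable def Btab_s_22_25 (c : Nat) : Nat := @Bool.rec (fun _ => Nat) (Btab_22) (Btab_s_23_25 c) (Nat.ble 23 c)
noncomputable def Btab_s_20_25 (c : Nat) : Nat := @Bool.rec (fun _ => Nat) (Btab_s_20_22 c) (Btab_s_22_25 c) (Nat.ble 22 c)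
noncomputable def Btab_s_25_27 (c : Nat) : Nat := @Bool.rec (fun _ => Nat) (Btab_25) (Btab_26) (Nat.ble 26 c)
noncomputable def Btab_s_28_30 (c : Nat) : Nat := @Bool.rec (fun _ => Nat) (Btab_28) (Btab_29) (Nat.ble 29 c)
noncomputable def Btab_s_27_30 (c : Nat) : Nat := @Bool.rec (fun _ => Nat) (Btab_27) (Btab_s_28_30 c) (Nat.ble 28 c)
noncomputable def Btab_s_25_30 (c : Nat) : Nat := @Bool.rec (fun _ => Nat) (Btab_s_25_27 c) (Btab_s_27_30 c) (Nat.ble 27 c)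
noncomputable def Btab_s_20_30 (c : Nat) : Nat := @Bool.rec (fun _ => Nat) (Btab_s_20_25 c) (Btab_s_25_30 c) (Nat.ble 25 c)
noncomputable def Btab_s_30_32 (c : Nat) : Nat := @Bool.rec (fun _ => Nat) (Btab_30) (Btab_31) (Nat.ble 31 c)
noncomputable def Btab_s_33_35 (c : Nat) : Nat := @Bool.rec (fun _ => Nat) (Btab_33) (Btab_34) (Nat.ble 34 c)
noncomputable def Btab_s_32_35 (c : Nat) : Nat := @Bool.rec (fun _ => Nat) (Btab_32) (Btab_s_33_35 c) (Nat.ble 33 c)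
noncomputable def Btab_s_30_35 (c : Nat) : Nat := @Bool.rec (fun _ => Nat) (Btab_s_30_32 c) (Btab_s_32_35 c) (Nat.ble 32 c)
noncomputable def Btab_s_35_37 (c : Nat) : Nat := @Bool.rec (fun _ => Nat) (Btab_35) (Btab_36) (Nat.ble 36 c)
noncomputable def Btab_s_38_40 (c : Nat) : Nat := @Bool.rec (fun _ => Nat) (Btab_38) (Btab_39) (Nat.ble 39 c)
noncomputable def Btab_s_37_40 (c : Nat) : Nat := @Bool.rec (fun _ => Nat) (Btab_37) (Btab_s_38_40 c) (Nat.ble 38 c)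
noncomputable def Btab_s_35_40 (c : Nat) : Nat := @Bool.rec (fun _ => Nat) (Btab_s_35_37 c) (Btab_s_37_40 c) (Nat.ble 37 c)
noncomputable def Btab_s_30_40 (c : Nat) : Nat := @Bool.rec (fun _ => Nat) (Btab_s_30_35 c) (Btab_s_35_40 c) (Nat.ble 35 c)
noncomputable def Btab_s_20_40 (c : Nat) : Nat := @Bool.rec (fun _ => Nat) (Btab_s_20_30 c) (Btab_s_30_40 c) (Nat.ble 30 c)
noncomputable def Btab_s_0_40 (c : Nat) : Nat := @Bool.rec (fun _ => Nat) (Btab_s_0_20 c) (Btab_s_20_40 c) (Nat.ble 20 c)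
noncomputable def Btab_s_40_42 (c : Nat) : Nat := @Bool.rec (fun _ => Nat) (Btab_40) (Btab_41) (Nat.ble 41 c)
noncomputable def Btab_s_43_45 (c : Nat) : Nat := @Bool.rec (fun _ => Nat) (Btab_43) (Btab_44) (Nat.ble 44 c)
noncomputable def Btab_s_42_45 (c : Nat) : Nat := @Bool.rec (fun _ => Nat) (Btab_42) (Btab_s_43_45 c) (Nat.ble 43 c)
noncomputable def Btab_s_40_45 (c : Nat) : Nat := @Bool.rec (fun _ => Nat) (Btab_s_40_42 c) (Btab_s_42_45 c) (Nat.ble 42 c)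
noncomputable def Btab_s_45_47 (c : Nat) : Nat := @Bool.rec (fun _ => Nat) (Btab_45) (Btab_46) (Nat.ble 46 c)
noncomputable def Btab_s_48_50 (c : Nat) : Nat := @Bool.rec (fun _ => Nat) (Btab_48) (Btab_49) (Nat.ble 49 c)
noncomputable def Btab_s_47_50 (c : Nat) : Nat := @Bool.rec (fun _ => Nat) (Btab_47) (Btab_s_48_50 c) (Nat.ble 48 c)
noncomputable def Btab_s_45_50 (c : Nat) : Nat := @Bool.rec (fun _ => Nat) (Btab_s_45_47 c) (Btab_s_47_50 c) (Nat.ble 47 c)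
noncomputable def Btab_s_40_50 (c : Nat) : Nat := @Bool.rec (fun _ => Nat) (Btab_s_40_45 c) (Btab_s_45_50 c) (Nat.ble 45 c)
noncomputable def Btab_s_50_52 (c : Nat) : Nat := @Bool.rec (fun _ => Nat) (Btab_50) (Btab_51) (Nat.ble 51 c)
noncomputable def Btab_s_53_55 (c : Nat) : Nat := @Bool.rec (fun _ => Nat) (Btab_53) (Btab_54) (Nat.ble 54 c)
noncomputable def Btab_s_52_55 (c : Nat) : Nat := @Bool.rec (fun _ => Nat) (Btab_52) (Btab_s_53_55 c) (Nat.ble 53 c)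
noncomputable def Btab_s_50_55 (c : Nat) : Nat := @Bool.rec (fun _ => Nat) (Btab_s_50_52 c) (Btab_s_52_55 c) (Nat.ble 52 c)
noncomputable def Btab_s_55_57 (c : Nat) : Nat := @Bool.rec (fun _ => Nat) (Btab_55) (Btab_56) (Nat.ble 56 c)
noncomputable def Btab_s_58_60 (c : Nat) : Nat := @Bool.rec (fun _ => Nat) (Btab_58) (Btab_59) (Nat.ble 59 c)
noncomputable def Btab_s_57_60 (c : Nat) : Nat := @Bool.rec (fun _ => Nat) (Btab_57) (Btab_s_58_60 c) (Nat.ble 58 c)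
noncomputable def Btab_s_55_60 (c : Nat) : Nat := @Bool.rec (fun _ => Nat) (Btab_s_55_57 c) (Btab_s_57_60 c) (Nat.ble 57 c)
noncomputable def Btab_s_50_60 (c : Nat) : Nat := @Bool.rec (fun _ => Nat) (Btab_s_50_55 c) (Btab_s_55_60 c) (Nat.ble 55 c)
noncomputable def Btab_s_40_60 (c : Nat) : Nat := @Bool.rec (fun _ => Nat) (Btab_s_40_50 c) (Btab_s_50_60 c) (Nat.ble 50 c)
noncomputable def Btab_s_60_62 (c : Nat) : Nat := @Bool.rec (fun _ => Nat) (Btab_60) (Btab_61) (Nat.ble 61 c)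
noncomputable def Btab_s_63_65 (c : Nat) : Nat := @Bool.rec (fun _ => Nat) (Btab_63) (Btab_64) (Nat.ble 64 c)
noncomputable def Btab_s_62_65 (c : Nat) : Nat := @Bool.rec (fun _ => Nat) (Btab_62) (Btab_s_63_65 c) (Nat.ble 63 c)
noncomputable def Btab_s_60_65 (c : Nat) : Nat := @Bool.rec (fun _ => Nat) (Btab_s_60_62 c) (Btab_s_62_65 c) (Nat.ble 62 c)
noncomputable def Btab_s_65_67 (c : Nat) : Nat := @Bool.rec (fun _ => Nat) (Btab_65) (Btab_66) (Nat.ble 66 c)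
noncomputable def Btab_s_68_70 (c : Nat) : Nat := @Bool.rec (fun _ => Nat) (Btab_68) (Btab_69) (Nat.ble 69 c)
noncomputable def Btab_s_67_70 (c : Nat) : Nat := @Bool.rec (fun _ => Nat) (Btab_67) (Btab_s_68_70 c) (Nat.ble 68 c)
noncomputable def Btab_s_65_70 (c : Nat) : Nat := @Bool.rec (fun _ => Nat) (Btab_s_65_67 c) (Btab_s_67_70 c) (Nat.ble 67 c)
noncomputable def Btab_s_60_70 (c : Nat) : Nat := @Bool.rec (fun _ => Nat) (Btab_s_60_65 c) (Btab_s_65_70 c) (Nat.ble 65 c)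
noncomputable def Btab_s_70_72 (c : Nat) : Nat := @Bool.rec (fun _ => Nat) (Btab_70) (Btab_71) (Nat.ble 71 c)
noncomputable def Btab_s_73_75 (c : Nat) : Nat := @Bool.rec (fun _ => Nat) (Btab_73) (Btab_74) (Nat.ble 74 c)
noncomputable def Btab_s_72_75 (c : Nat) : Nat := @Bool.rec (fun _ => Nat) (Btab_72) (Btab_s_73_75 c) (Nat.ble 73 c)
noncomputable def Btab_s_70_75 (c : Nat) : Nat := @Bool.rec (fun _ => Nat) (Btab_s_70_72 c) (Btab_s_72_75 c) (Nat.ble 72 c)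
noncomputable def Btab_s_75_77 (c : Nat) : Nat := @Bool.rec (fun _ => Nat) (Btab_75) (Btab_76) (Nat.ble 76 c)
noncomputable def Btab_s_78_80 (c : Nat) : Nat := @Bool.rec (fun _ => Nat) (Btab_78) (Btab_79) (Nat.ble 79 c)
noncomputable def Btab_s_77_80 (c : Nat) : Nat := @Bool.rec (fun _ => Nat) (Btab_77) (Btab_s_78_80 c) (Nat.ble 78 c)
noncomputable def Btab_s_75_80 (c : Nat) : Nat := @Bool.rec (fun _ => Nat) (Btab_s_75_77 c) (Btab_s_77_80 c) (Nat.ble 77 c)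
noncomputable def Btab_s_70_80 (c : Nat) : Nat := @Bool.rec (fun _ => Nat) (Btab_s_70_75 c) (Btab_s_75_80 c) (Nat.ble 75 c)
noncomputable def Btab_s_60_80 (c : Nat) : Nat := @Bool.rec (fun _ => Nat) (Btab_s_60_70 c) (Btab_s_70_80 c) (Nat.ble 70 c)
noncomputable def Btab_s_40_80 (c : Nat) : Nat := @Bool.rec (fun _ => Nat) (Btab_s_40_60 c) (Btab_s_60_80 c) (Nat.ble 60 c)
noncomputable def Btab_s_0_80 (c : Nat) : Nat := @Bool.rec (fun _ => Nat) (Btab_s_0_40 c) (Btab_s_40_80 c) (Nat.ble 40 c)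
noncomputable def Btab_s_80_82 (c : Nat) : Nat := @Bool.rec (fun _ => Nat) (Btab_80) (Btab_81) (Nat.ble 81 c)
noncomputable def Btab_s_83_85 (c : Nat) : Nat := @Bool.rec (fun _ => Nat) (Btab_83) (Btab_84) (Nat.ble 84 c)
noncomputable def Btab_s_82_85 (c : Nat) : Nat := @Bool.rec (fun _ => Nat) (Btab_82) (Btab_s_83_85 c) (Nat.ble 83 c)
noncomputable def Btab_s_80_85 (c : Nat) : Nat := @Bool.rec (fun _ => Nat) (Btab_s_80_82 c) (Btab_s_82_85 c) (Nat.ble 82 c)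
noncomputable def Btab_s_85_87 (c : Nat) : Nat := @Bool.rec (fun _ => Nat) (Btab_85) (Btab_86) (Nat.ble 86 c)
noncomputable def Btab_s_88_90 (c : Nat) : Nat := @Bool.rec (fun _ => Nat) (Btab_88) (Btab_89) (Nat.ble 89 c)
noncomputable def Btab_s_87_90 (c : Nat) : Nat := @Bool.rec (fun _ => Nat) (Btab_87) (Btab_s_88_90 c) (Nat.ble 88 c)
noncomputable def Btab_s_85_90 (c : Nat) : Nat := @Bool.rec (fun _ => Nat) (Btab_s_85_87 c) (Btab_s_87_90 c) (Nat.ble 87 c)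
noncomputable def Btab_s_80_90 (c : Nat) : Nat := @Bool.rec (fun _ => Nat) (Btab_s_80_85 c) (Btab_s_85_90 c) (Nat.ble 85 c)
noncomputable def Btab_s_90_92 (c : Nat) : Nat := @Bool.rec (fun _ => Nat) (Btab_90) (Btab_91) (Nat.ble 91 c)
noncomputable def Btab_s_93_95 (c : Nat) : Nat := @Bool.rec (fun _ => Nat) (Btab_93) (Btab_94) (Nat.ble 94 c)
noncomputable def Btab_s_92_95 (c : Nat) : Nat := @Bool.rec (fun _ => Nat) (Btab_92) (Btab_s_93_95 c) (Nat.ble 93 c)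
noncomputable def Btab_s_90_95 (c : Nat) : Nat := @Bool.rec (fun _ => Nat) (Btab_s_90_92 c) (Btab_s_92_95 c) (Nat.ble 92 c)
noncomputable def Btab_s_95_97 (c : Nat) : Nat := @Bool.rec (fun _ => Nat) (Btab_95) (Btab_96) (Nat.ble 96 c)
noncomputable def Btab_s_98_100 (c : Nat) : Nat := @Bool.rec (fun _ => Nat) (Btab_98) (Btab_99) (Nat.ble 99 c)
noncomputable def Btab_s_97_100 (c : Nat) : Nat := @Bool.rec (fun _ => Nat) (Btab_97) (Btab_s_98_100 c) (Nat.ble 98 c)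
noncomputable def Btab_s_95_100 (c : Nat) : Nat := @Bool.rec (fun _ => Nat) (Btab_s_95_97 c) (Btab_s_97_100 c) (Nat.ble 97 c)
noncomputable def Btab_s_90_100 (c : Nat) : Nat := @Bool.rec (fun _ => Nat) (Btab_s_90_95 c) (Btab_s_95_100 c) (Nat.ble 95 c)
noncomputable def Btab_s_80_100 (c : Nat) : Nat := @Bool.rec (fun _ => Nat) (Btab_s_80_90 c) (Btab_s_90_100 c) (Nat.ble 90 c)
noncomputable def Btab_s_100_102 (c : Nat) : Nat := @Bool.rec (fun _ => Nat) (Btab_100) (Btab_101) (Nat.ble 101 c)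
noncomputable def Btab_s_103_105 (c : Nat) : Nat := @Bool.rec (fun _ => Nat) (Btab_103) (Btab_104) (Nat.ble 104 c)
noncomputable def Btab_s_102_105 (c : Nat) : Nat := @Bool.rec (fun _ => Nat) (Btab_102) (Btab_s_103_105 c) (Nat.ble 103 c)
noncomputable def Btab_s_100_105 (c : Nat) : Nat := @Bool.rec (fun _ => Nat) (Btab_s_100_102 c) (Btab_s_102_105 c) (Nat.ble 102 c)
noncomputable def Btab_s_105_107 (c : Nat) : Nat := @Bool.rec (fun _ => Nat) (Btab_105) (Btab_106) (Nat.ble 106 c)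
noncomputable def Btab_s_108_110 (c : Nat) : Nat := @Bool.rec (fun _ => Nat) (Btab_108) (Btab_109) (Nat.ble 109 c)
noncomputable def Btab_s_107_110 (c : Nat) : Nat := @Bool.rec (fun _ => Nat) (Btab_107) (Btab_s_108_110 c) (Nat.ble 108 c)
noncomputable def Btab_s_105_110 (c : Nat) : Nat := @Bool.rec (fun _ => Nat) (Btab_s_105_107 c) (Btab_s_107_110 c) (Nat.ble 107 c)
noncomputable def Btab_s_100_110 (c : Nat) : Nat := @Bool.rec (fun _ => Nat) (Btab_s_100_105 c) (Btab_s_105_110 c) (Nat.ble 105 c)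
noncomputable def Btab_s_110_112 (c : Nat) : Nat := @Bool.rec (fun _ => Nat) (Btab_110) (Btab_111) (Nat.ble 111 c)
noncomputable def Btab_s_113_115 (c : Nat) : Nat := @Bool.rec (fun _ => Nat) (Btab_113) (Btab_114) (Nat.ble 114 c)
noncomputable def Btab_s_112_115 (c : Nat) : Nat := @Bool.rec (fun _ => Nat) (Btab_112) (Btab_s_113_115 c) (Nat.ble 113 c)
noncomputable def Btab_s_110_115 (c : Nat) : Nat := @Bool.rec (fun _ => Nat) (Btab_s_110_112 c) (Btab_s_112_115 c) (Nat.ble 112 c)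
noncomputable def Btab_s_115_117 (c : Nat) : Nat := @Bool.rec (fun _ => Nat) (Btab_115) (Btab_116) (Nat.ble 116 c)
noncomputable def Btab_s_118_120 (c : Nat) : Nat := @Bool.rec (fun _ => Nat) (Btab_118) (Btab_119) (Nat.ble 119 c)
noncomputable def Btab_s_117_120 (c : Nat) : Nat := @Bool.rec (fun _ => Nat) (Btab_117) (Btab_s_118_120 c) (Nat.ble 118 c)
noncomputable def Btab_s_115_120 (c : Nat) : Nat := @Bool.rec (fun _ => Nat) (Btab_s_115_117 c) (Btab_s_117_120 c) (Nat.ble 117 c)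
noncomputable def Btab_s_110_120 (c : Nat) : Nat := @Bool.rec (fun _ => Nat) (Btab_s_110_115 c) (Btab_s_115_120 c) (Nat.ble 115 c)
noncomputable def Btab_s_100_120 (c : Nat) : Nat := @Bool.rec (fun _ => Nat) (Btab_s_100_110 c) (Btab_s_110_120 c) (Nat.ble 110 c)
noncomputable def Btab_s_80_120 (c : Nat) : Nat := @Bool.rec (fun _ => Nat) (Btab_s_80_100 c) (Btab_s_100_120 c) (Nat.ble 100 c)
noncomputable def Btab_s_120_122 (c : Nat) : Nat := @Bool.rec (fun _ => Nat) (Btab_120) (Btab_121) (Nat.ble 121 c)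
noncomputable def Btab_s_123_125 (c : Nat) : Nat := @Bool.rec (fun _ => Nat) (Btab_123) (Btab_124) (Nat.ble 124 c)
noncomputable def Btab_s_122_125 (c : Nat) : Nat := @Bool.rec (fun _ => Nat) (Btab_122) (Btab_s_123_125 c) (Nat.ble 123 c)
noncomputable def Btab_s_120_125 (c : Nat) : Nat := @Bool.rec (fun _ => Nat) (Btab_s_120_122 c) (Btab_s_122_125 c) (Nat.ble 122 c)
noncomputable def Btab_s_125_127 (c : Nat) : Nat := @Bool.rec (fun _ => Nat) (Btab_125) (Btab_126) (Nat.ble 126 c)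
noncomputable def Btab_s_128_130 (c : Nat) : Nat := @Bool.rec (fun _ => Nat) (Btab_128) (Btab_129) (Nat.ble 129 c)
noncomputable def Btab_s_127_130 (c : Nat) : Nat := @Bool.rec (fun _ => Nat) (Btab_127) (Btab_s_128_130 c) (Nat.ble 128 c)
noncomputable def Btab_s_125_130 (c : Nat) : Nat := @Bool.rec (fun _ => Nat) (Btab_s_125_127 c) (Btab_s_127_130 c) (Nat.ble 127 c)
noncomputable def Btab_s_120_130 (c : Nat) : Nat := @Bool.rec (fun _ => Nat) (Btab_s_120_125 c) (Btab_s_125_130 c) (Nat.ble 125 c)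
noncomputable def Btab_s_130_132 (c : Nat) : Nat := @Bool.rec (fun _ => Nat) (Btab_130) (Btab_131) (Nat.ble 131 c)
noncomputable def Btab_s_133_135 (c : Nat) : Nat := @Bool.rec (fun _ => Nat) (Btab_133) (Btab_134) (Nat.ble 134 c)
noncomputable def Btab_s_132_135 (c : Nat) : Nat := @Bool.rec (fun _ => Nat) (Btab_132) (Btab_s_133_135 c) (Nat.ble 133 c)
noncomputable def Btab_s_130_135 (c : Nat) : Nat := @Bool.rec (fun _ => Nat) (Btab_s_130_132 c) (Btab_s_132_135 c) (Nat.ble 132 c)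
noncomputable def Btab_s_135_137 (c : Nat) : Nat := @Bool.rec (fun _ => Nat) (Btab_135) (Btab_136) (Nat.ble 136 c)
noncomputable def Btab_s_138_140 (c : Nat) : Nat := @Bool.rec (fun _ => Nat) (Btab_138) (Btab_139) (Nat.ble 139 c)
noncomputable def Btab_s_137_140 (c : Nat) : Nat := @Bool.rec (fun _ => Nat) (Btab_137) (Btab_s_138_140 c) (Nat.ble 138 c)
noncomputable def Btab_s_135_140 (c : Nat) : Nat := @Bool.rec (fun _ => Nat) (Btab_s_135_137 c) (Btab_s_137_140 c) (Nat.ble 137 c)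
noncomputable def Btab_s_130_140 (c : Nat) : Nat := @Bool.rec (fun _ => Nat) (Btab_s_130_135 c) (Btab_s_135_140 c) (Nat.ble 135 c)
noncomputable def Btab_s_120_140 (c : Nat) : Nat := @Bool.rec (fun _ => Nat) (Btab_s_120_130 c) (Btab_s_130_140 c) (Nat.ble 130 c)
noncomputable def Btab_s_140_142 (c : Nat) : Nat := @Bool.rec (fun _ => Nat) (Btab_140) (Btab_141) (Nat.ble 141 c)
noncomputable def Btab_s_143_145 (c : Nat) : Nat := @Bool.rec (fun _ => Nat) (Btab_143) (Btab_144) (Nat.ble 144 c)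
noncomputable def Btab_s_142_145 (c : Nat) : Nat := @Bool.rec (fun _ => Nat) (Btab_142) (Btab_s_143_145 c) (Nat.ble 143 c)
noncomputable def Btab_s_140_145 (c : Nat) : Nat := @Bool.rec (fun _ => Nat) (Btab_s_140_142 c) (Btab_s_142_145 c) (Nat.ble 142 c)
noncomputable def Btab_s_145_147 (c : Nat) : Nat := @Bool.rec (fun _ => Nat) (Btab_145) (Btab_146) (Nat.ble 146 c)
noncomputable def Btab_s_148_150 (c : Nat) : Nat := @Bool.rec (fun _ => Nat) (Btab_148) (Btab_149) (Nat.ble 149 c)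
noncomputable def Btab_s_147_150 (c : Nat) : Nat := @Bool.rec (fun _ => Nat) (Btab_147) (Btab_s_148_150 c) (Nat.ble 148 c)
noncomputable def Btab_s_145_150 (c : Nat) : Nat := @Bool.rec (fun _ => Nat) (Btab_s_145_147 c) (Btab_s_147_150 c) (Nat.ble 147 c)
noncomputable def Btab_s_140_150 (c : Nat) : Nat := @Bool.rec (fun _ => Nat) (Btab_s_140_145 c) (Btab_s_145_150 c) (Nat.ble 145 c)
noncomputable def Btab_s_150_152 (c : Nat) : Nat := @Bool.rec (fun _ => Nat) (Btab_150) (Btab_151) (Nat.ble 151 c)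
noncomputable def Btab_s_153_155 (c : Nat) : Nat := @Bool.rec (fun _ => Nat) (Btab_153) (Btab_154) (Nat.ble 154 c)
noncomputable def Btab_s_152_155 (c : Nat) : Nat := @Bool.rec (fun _ => Nat) (Btab_152) (Btab_s_153_155 c) (Nat.ble 153 c)
noncomputable def Btab_s_150_155 (c : Nat) : Nat := @Bool.rec (fun _ => Nat) (Btab_s_150_152 c) (Btab_s_152_155 c) (Nat.ble 152 c)
noncomputable def Btab_s_155_157 (c : Nat) : Nat := @Bool.rec (fun _ => Nat) (Btab_155) (Btab_156) (Nat.ble 156 c)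
noncomputable def Btab_s_158_160 (c : Nat) : Nat := @Bool.rec (fun _ => Nat) (Btab_158) (Btab_159) (Nat.ble 159 c)
noncomputable def Btab_s_157_160 (c : Nat) : Nat := @Bool.rec (fun _ => Nat) (Btab_157) (Btab_s_158_160 c) (Nat.ble 158 c)
noncomputable def Btab_s_155_160 (c : Nat) : Nat := @Bool.rec (fun _ => Nat) (Btab_s_155_157 c) (Btab_s_157_160 c) (Nat.ble 157 c)
noncomputable def Btab_s_150_160 (c : Nat) : Nat := @Bool.rec (fun _ => Nat) (Btab_s_150_155 c) (Btab_s_155_160 c) (Nat.ble 155 c)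
noncomputable def Btab_s_140_160 (c : Nat) : Nat := @Bool.rec (fun _ => Nat) (Btab_s_140_150 c) (Btab_s_150_160 c) (Nat.ble 150 c)
noncomputable def Btab_s_120_160 (c : Nat) : Nat := @Bool.rec (fun _ => Nat) (Btab_s_120_140 c) (Btab_s_140_160 c) (Nat.ble 140 c)
noncomputable def Btab_s_80_160 (c : Nat) : Nat := @Bool.rec (fun _ => Nat) (Btab_s_80_120 c) (Btab_s_120_160 c) (Nat.ble 120 c)
noncomputable def Btab_s_0_160 (c : Nat) : Nat := @Bool.rec (fun _ => Nat) (Btab_s_0_80 c) (Btab_s_80_160 c) (Nat.ble 80 c)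
noncomputable def Btab_s_160_162 (c : Nat) : Nat := @Bool.rec (fun _ => Nat) (Btab_160) (Btab_161) (Nat.ble 161 c)
noncomputable def Btab_s_163_165 (c : Nat) : Nat := @Bool.rec (fun _ => Nat) (Btab_163) (Btab_164) (Nat.ble 164 c)
noncomputable def Btab_s_162_165 (c : Nat) : Nat := @Bool.rec (fun _ => Nat) (Btab_162) (Btab_s_163_165 c) (Nat.ble 163 c)
noncomputable def Btab_s_160_165 (c : Nat) : Nat := @Bool.rec (fun _ => Nat) (Btab_s_160_162 c) (Btab_s_162_165 c) (Nat.ble 162 c)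
noncomputable def Btab_s_165_167 (c : Nat) : Nat := @Bool.rec (fun _ => Nat) (Btab_165) (Btab_166) (Nat.ble 166 c)
noncomputable def Btab_s_168_170 (c : Nat) : Nat := @Bool.rec (fun _ => Nat) (Btab_168) (Btab_169) (Nat.ble 169 c)
noncomputable def Btab_s_167_170 (c : Nat) : Nat := @Bool.rec (fun _ => Nat) (Btab_167) (Btab_s_168_170 c) (Nat.ble 168 c)
noncomputable def Btab_s_165_170 (c : Nat) : Nat := @Bool.rec (fun _ => Nat) (Btab_s_165_167 c) (Btab_s_167_170 c) (Nat.ble 167 c)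
noncomputable def Btab_s_160_170 (c : Nat) : Nat := @Bool.rec (fun _ => Nat) (Btab_s_160_165 c) (Btab_s_165_170 c) (Nat.ble 165 c)
noncomputable def Btab_s_170_172 (c : Nat) : Nat := @Bool.rec (fun _ => Nat) (Btab_170) (Btab_171) (Nat.ble 171 c)
noncomputable def Btab_s_173_175 (c : Nat) : Nat := @Bool.rec (fun _ => Nat) (Btab_173) (Btab_174) (Nat.ble 174 c)
noncomputable def Btab_s_172_175 (c : Nat) : Nat := @Bool.rec (fun _ => Nat) (Btab_172) (Btab_s_173_175 c) (Nat.ble 173 c)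
noncomputable def Btab_s_170_175 (c : Nat) : Nat := @Bool.rec (fun _ => Nat) (Btab_s_170_172 c) (Btab_s_172_175 c) (Nat.ble 172 c)
noncomputable def Btab_s_175_177 (c : Nat) : Nat := @Bool.rec (fun _ => Nat) (Btab_175) (Btab_176) (Nat.ble 176 c)
noncomputable def Btab_s_178_180 (c : Nat) : Nat := @Bool.rec (fun _ => Nat) (Btab_178) (Btab_179) (Nat.ble 179 c)
noncomputable def Btab_s_177_180 (c : Nat) : Nat := @Bool.rec (fun _ => Nat) (Btab_177) (Btab_s_178_180 c) (Nat.ble 178 c)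
noncomputable def Btab_s_175_180 (c : Nat) : Nat := @Bool.rec (fun _ => Nat) (Btab_s_175_177 c) (Btab_s_177_180 c) (Nat.ble 177 c)
noncomputable def Btab_s_170_180 (c : Nat) : Nat := @Bool.rec (fun _ => Nat) (Btab_s_170_175 c) (Btab_s_175_180 c) (Nat.ble 175 c)
noncomputable def Btab_s_160_180 (c : Nat) : Nat := @Bool.rec (fun _ => Nat) (Btab_s_160_170 c) (Btab_s_170_180 c) (Nat.ble 170 c)
noncomputable def Btab_s_180_182 (c : Nat) : Nat := @Bool.rec (fun _ => Nat) (Btab_180) (Btab_181) (Nat.ble 181 c)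
noncomputable def Btab_s_183_185 (c : Nat) : Nat := @Bool.rec (fun _ => Nat) (Btab_183) (Btab_184) (Nat.ble 184 c)
noncomputable def Btab_s_182_185 (c : Nat) : Nat := @Bool.rec (fun _ => Nat) (Btab_182) (Btab_s_183_185 c) (Nat.ble 183 c)
noncomputable def Btab_s_180_185 (c : Nat) : Nat := @Bool.rec (fun _ => Nat) (Btab_s_180_182 c) (Btab_s_182_185 c) (Nat.ble 182 c)
noncomputable def Btab_s_185_187 (c : Nat) : Nat := @Bool.rec (fun _ => Nat) (Btab_185) (Btab_186) (Nat.ble 186 c)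
noncomputable def Btab_s_188_190 (c : Nat) : Nat := @Bool.rec (fun _ => Nat) (Btab_188) (Btab_189) (Nat.ble 189 c)
noncomputable def Btab_s_187_190 (c : Nat) : Nat := @Bool.rec (fun _ => Nat) (Btab_187) (Btab_s_188_190 c) (Nat.ble 188 c)
noncomputable def Btab_s_185_190 (c : Nat) : Nat := @Bool.rec (fun _ => Nat) (Btab_s_185_187 c) (Btab_s_187_190 c) (Nat.ble 187 c)
noncomputable def Btab_s_180_190 (c : Nat) : Nat := @Bool.rec (fun _ => Nat) (Btab_s_180_185 c) (Btab_s_185_190 c) (Nat.ble 185 c)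
noncomputable def Btab_s_190_192 (c : Nat) : Nat := @Bool.rec (fun _ => Nat) (Btab_190) (Btab_191) (Nat.ble 191 c)
noncomputable def Btab_s_193_195 (c : Nat) : Nat := @Bool.rec (fun _ => Nat) (Btab_193) (Btab_194) (Nat.ble 194 c)
noncomputable def Btab_s_192_195 (c : Nat) : Nat := @Bool.rec (fun _ => Nat) (Btab_192) (Btab_s_193_195 c) (Nat.ble 193 c)
noncomputable def Btab_s_190_195 (c : Nat) : Nat := @Bool.rec (fun _ => Nat) (Btab_s_190_192 c) (Btab_s_192_195 c) (Nat.ble 192 c)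
noncomputable def Btab_s_195_197 (c : Nat) : Nat := @Bool.rec (fun _ => Nat) (Btab_195) (Btab_196) (Nat.ble 196 c)
noncomputable def Btab_s_198_200 (c : Nat) : Nat := @Bool.rec (fun _ => Nat) (Btab_198) (Btab_199) (Nat.ble 199 c)
noncomputable def Btab_s_197_200 (c : Nat) : Nat := @Bool.rec (fun _ => Nat) (Btab_197) (Btab_s_198_200 c) (Nat.ble 198 c)
noncomputable def Btab_s_195_200 (c : Nat) : Nat := @Bool.rec (fun _ => Nat) (Btab_s_195_197 c) (Btab_s_197_200 c) (Nat.ble 197 c)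
noncomputable def Btab_s_190_200 (c : Nat) : Nat := @Bool.rec (fun _ => Nat) (Btab_s_190_195 c) (Btab_s_195_200 c) (Nat.ble 195 c)
noncomputable def Btab_s_180_200 (c : Nat) : Nat := @Bool.rec (fun _ => Nat) (Btab_s_180_190 c) (Btab_s_190_200 c) (Nat.ble 190 c)
noncomputable def Btab_s_160_200 (c : Nat) : Nat := @Bool.rec (fun _ => Nat) (Btab_s_160_180 c) (Btab_s_180_200 c) (Nat.ble 180 c)
noncomputable def Btab_s_200_202 (c : Nat) : Nat := @Bool.rec (fun _ => Nat) (Btab_200) (Btab_201) (Nat.ble 201 c)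
noncomputable def Btab_s_203_205 (c : Nat) : Nat := @Bool.rec (fun _ => Nat) (Btab_203) (Btab_204) (Nat.ble 204 c)
noncomputable def Btab_s_202_205 (c : Nat) : Nat := @Bool.rec (fun _ => Nat) (Btab_202) (Btab_s_203_205 c) (Nat.ble 203 c)
noncomputable def Btab_s_200_205 (c : Nat) : Nat := @Bool.rec (fun _ => Nat) (Btab_s_200_202 c) (Btab_s_202_205 c) (Nat.ble 202 c)
noncomputable def Btab_s_205_207 (c : Nat) : Nat := @Bool.rec (fun _ => Nat) (Btab_205) (Btab_206) (Nat.ble 206 c)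
noncomputable def Btab_s_208_210 (c : Nat) : Nat := @Bool.rec (fun _ => Nat) (Btab_208) (Btab_209) (Nat.ble 209 c)
noncomputable def Btab_s_207_210 (c : Nat) : Nat := @Bool.rec (fun _ => Nat) (Btab_207) (Btab_s_208_210 c) (Nat.ble 208 c)
noncomputable def Btab_s_205_210 (c : Nat) : Nat := @Bool.rec (fun _ => Nat) (Btab_s_205_207 c) (Btab_s_207_210 c) (Nat.ble 207 c)
noncomputable def Btab_s_200_210 (c : Nat) : Nat := @Bool.rec (fun _ => Nat) (Btab_s_200_205 c) (Btab_s_205_210 c) (Nat.ble 205 c)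
noncomputable def Btab_s_210_212 (c : Nat) : Nat := @Bool.rec (fun _ => Nat) (Btab_210) (Btab_211) (Nat.ble 211 c)
noncomputable def Btab_s_213_215 (c : Nat) : Nat := @Bool.rec (fun _ => Nat) (Btab_213) (Btab_214) (Nat.ble 214 c)
noncomputable def Btab_s_212_215 (c : Nat) : Nat := @Bool.rec (fun _ => Nat) (Btab_212) (Btab_s_213_215 c) (Nat.ble 213 c)
noncomputable def Btab_s_210_215 (c : Nat) : Nat := @Bool.rec (fun _ => Nat) (Btab_s_210_212 c) (Btab_s_212_215 c) (Nat.ble 212 c)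
noncomputable def Btab_s_215_217 (c : Nat) : Nat := @Bool.rec (fun _ => Nat) (Btab_215) (Btab_216) (Nat.ble 216 c)
noncomputable def Btab_s_218_220 (c : Nat) : Nat := @Bool.rec (fun _ => Nat) (Btab_218) (Btab_219) (Nat.ble 219 c)
noncomputable def Btab_s_217_220 (c : Nat) : Nat := @Bool.rec (fun _ => Nat) (Btab_217) (Btab_s_218_220 c) (Nat.ble 218 c)
noncomputable def Btab_s_215_220 (c : Nat) : Nat := @Bool.rec (fun _ => Nat) (Btab_s_215_217 c) (Btab_s_217_220 c) (Nat.ble 217 c)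
noncomputable def Btab_s_210_220 (c : Nat) : Nat := @Bool.rec (fun _ => Nat) (Btab_s_210_215 c) (Btab_s_215_220 c) (Nat.ble 215 c)
noncomputable def Btab_s_200_220 (c : Nat) : Nat := @Bool.rec (fun _ => Nat) (Btab_s_200_210 c) (Btab_s_210_220 c) (Nat.ble 210 c)
noncomputable def Btab_s_220_222 (c : Nat) : Nat := @Bool.rec (fun _ => Nat) (Btab_220) (Btab_221) (Nat.ble 221 c)
noncomputable def Btab_s_223_225 (c : Nat) : Nat := @Bool.rec (fun _ => Nat) (Btab_223) (Btab_224) (Nat.ble 224 c)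
noncomputable def Btab_s_222_225 (c : Nat) : Nat := @Bool.rec (fun _ => Nat) (Btab_222) (Btab_s_223_225 c) (Nat.ble 223 c)
noncomputable def Btab_s_220_225 (c : Nat) : Nat := @Bool.rec (fun _ => Nat) (Btab_s_220_222 c) (Btab_s_222_225 c) (Nat.ble 222 c)
noncomputable def Btab_s_225_227 (c : Nat) : Nat := @Bool.rec (fun _ => Nat) (Btab_225) (Btab_226) (Nat.ble 226 c)
noncomputable def Btab_s_228_230 (c : Nat) : Nat := @Bool.rec (fun _ => Nat) (Btab_228) (Btab_229) (Nat.ble 229 c)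
noncomputable def Btab_s_227_230 (c : Nat) : Nat := @Bool.rec (fun _ => Nat) (Btab_227) (Btab_s_228_230 c) (Nat.ble 228 c)
noncomputable def Btab_s_225_230 (c : Nat) : Nat := @Bool.rec (fun _ => Nat) (Btab_s_225_227 c) (Btab_s_227_230 c) (Nat.ble 227 c)
noncomputable def Btab_s_220_230 (c : Nat) : Nat := @Bool.rec (fun _ => Nat) (Btab_s_220_225 c) (Btab_s_225_230 c) (Nat.ble 225 c)
noncomputable def Btab_s_230_232 (c : Nat) : Nat := @Bool.rec (fun _ => Nat) (Btab_230) (Btab_231) (Nat.ble 231 c)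
noncomputable def Btab_s_233_235 (c : Nat) : Nat := @Bool.rec (fun _ => Nat) (Btab_233) (Btab_234) (Nat.ble 234 c)
noncomputable def Btab_s_232_235 (c : Nat) : Nat := @Bool.rec (fun _ => Nat) (Btab_232) (Btab_s_233_235 c) (Nat.ble 233 c)
noncomputable def Btab_s_230_235 (c : Nat) : Nat := @Bool.rec (fun _ => Nat) (Btab_s_230_232 c) (Btab_s_232_235 c) (Nat.ble 232 c)
noncomputable def Btab_s_235_237 (c : Nat) : Nat := @Bool.rec (fun _ => Nat) (Btab_235) (Btab_236) (Nat.ble 236 c)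
noncomputable def Btab_s_238_240 (c : Nat) : Nat := @Bool.rec (fun _ => Nat) (Btab_238) (Btab_239) (Nat.ble 239 c)
noncomputable def Btab_s_237_240 (c : Nat) : Nat := @Bool.rec (fun _ => Nat) (Btab_237) (Btab_s_238_240 c) (Nat.ble 238 c)
noncomputable def Btab_s_235_240 (c : Nat) : Nat := @Bool.rec (fun _ => Nat) (Btab_s_235_237 c) (Btab_s_237_240 c) (Nat.ble 237 c)
noncomputable def Btab_s_230_240 (c : Nat) : Nat := @Bool.rec (fun _ => Nat) (Btab_s_230_235 c) (Btab_s_235_240 c) (Nat.ble 235 c)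
noncomputable def Btab_s_220_240 (c : Nat) : Nat := @Bool.rec (fun _ => Nat) (Btab_s_220_230 c) (Btab_s_230_240 c) (Nat.ble 230 c)
noncomputable def Btab_s_200_240 (c : Nat) : Nat := @Bool.rec (fun _ => Nat) (Btab_s_200_220 c) (Btab_s_220_240 c) (Nat.ble 220 c)
noncomputable def Btab_s_160_240 (c : Nat) : Nat := @Bool.rec (fun _ => Nat) (Btab_s_160_200 c) (Btab_s_200_240 c) (Nat.ble 200 c)
noncomputable def Btab_s_240_242 (c : Nat) : Nat := @Bool.rec (fun _ => Nat) (Btab_240) (Btab_241) (Nat.ble 241 c)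
noncomputable def Btab_s_243_245 (c : Nat) : Nat := @Bool.rec (fun _ => Nat) (Btab_243) (Btab_244) (Nat.ble 244 c)
noncomputable def Btab_s_242_245 (c : Nat) : Nat := @Bool.rec (fun _ => Nat) (Btab_242) (Btab_s_243_245 c) (Nat.ble 243 c)
noncomputable def Btab_s_240_245 (c : Nat) : Nat := @Bool.rec (fun _ => Nat) (Btab_s_240_242 c) (Btab_s_242_245 c) (Nat.ble 242 c)
noncomputable def Btab_s_245_247 (c : Nat) : Nat := @Bool.rec (fun _ => Nat) (Btab_245) (Btab_246) (Nat.ble 246 c)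
noncomputable def Btab_s_248_250 (c : Nat) : Nat := @Bool.rec (fun _ => Nat) (Btab_248) (Btab_249) (Nat.ble 249 c)
noncomputable def Btab_s_247_250 (c : Nat) : Nat := @Bool.rec (fun _ => Nat) (Btab_247) (Btab_s_248_250 c) (Nat.ble 248 c)
noncomputable def Btab_s_245_250 (c : Nat) : Nat := @Bool.rec (fun _ => Nat) (Btab_s_245_247 c) (Btab_s_247_250 c) (Nat.ble 247 c)
noncomputable def Btab_s_240_250 (c : Nat) : Nat := @Bool.rec (fun _ => Nat) (Btab_s_240_245 c) (Btab_s_245_250 c) (Nat.ble 245 c)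
noncomputable def Btab_s_250_252 (c : Nat) : Nat := @Bool.rec (fun _ => Nat) (Btab_250) (Btab_251) (Nat.ble 251 c)
noncomputable def Btab_s_253_255 (c : Nat) : Nat := @Bool.rec (fun _ => Nat) (Btab_253) (Btab_254) (Nat.ble 254 c)
noncomputable def Btab_s_252_255 (c : Nat) : Nat := @Bool.rec (fun _ => Nat) (Btab_252) (Btab_s_253_255 c) (Nat.ble 253 c)
noncomputable def Btab_s_250_255 (c : Nat) : Nat := @Bool.rec (fun _ => Nat) (Btab_s_250_252 c) (Btab_s_252_255 c) (Nat.ble 252 c)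
noncomputable def Btab_s_255_257 (c : Nat) : Nat := @Bool.rec (fun _ => Nat) (Btab_255) (Btab_256) (Nat.ble 256 c)
noncomputable def Btab_s_258_260 (c : Nat) : Nat := @Bool.rec (fun _ => Nat) (Btab_258) (Btab_259) (Nat.ble 259 c)
noncomputable def Btab_s_257_260 (c : Nat) : Nat := @Bool.rec (fun _ => Nat) (Btab_257) (Btab_s_258_260 c) (Nat.ble 258 c)
noncomputable def Btab_s_255_260 (c : Nat) : Nat := @Bool.rec (fun _ => Nat) (Btab_s_255_257 c) (Btab_s_257_260 c) (Nat.ble 257 c)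
noncomputable def Btab_s_250_260 (c : Nat) : Nat := @Bool.rec (fun _ => Nat) (Btab_s_250_255 c) (Btab_s_255_260 c) (Nat.ble 255 c)
noncomputable def Btab_s_240_260 (c : Nat) : Nat := @Bool.rec (fun _ => Nat) (Btab_s_240_250 c) (Btab_s_250_260 c) (Nat.ble 250 c)
noncomputable def Btab_s_260_262 (c : Nat) : Nat := @Bool.rec (fun _ => Nat) (Btab_260) (Btab_261) (Nat.ble 261 c)
noncomputable def Btab_s_263_265 (c : Nat) : Nat := @Bool.rec (fun _ => Nat) (Btab_263) (Btab_264) (Nat.ble 264 c)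
noncomputable def Btab_s_262_265 (c : Nat) : Nat := @Bool.rec (fun _ => Nat) (Btab_262) (Btab_s_263_265 c) (Nat.ble 263 c)
noncomputable def Btab_s_260_265 (c : Nat) : Nat := @Bool.rec (fun _ => Nat) (Btab_s_260_262 c) (Btab_s_262_265 c) (Nat.ble 262 c)
noncomputable def Btab_s_265_267 (c : Nat) : Nat := @Bool.rec (fun _ => Nat) (Btab_265) (Btab_266) (Nat.ble 266 c)
noncomputable def Btab_s_268_270 (c : Nat) : Nat := @Bool.rec (fun _ => Nat) (Btab_268) (Btab_269) (Nat.ble 269 c)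
noncomputable def Btab_s_267_270 (c : Nat) : Nat := @Bool.rec (fun _ => Nat) (Btab_267) (Btab_s_268_270 c) (Nat.ble 268 c)
noncomputable def Btab_s_265_270 (c : Nat) : Nat := @Bool.rec (fun _ => Nat) (Btab_s_265_267 c) (Btab_s_267_270 c) (Nat.ble 267 c)
noncomputable def Btab_s_260_270 (c : Nat) : Nat := @Bool.rec (fun _ => Nat) (Btab_s_260_265 c) (Btab_s_265_270 c) (Nat.ble 265 c)
noncomputable def Btab_s_270_272 (c : Nat) : Nat := @Bool.rec (fun _ => Nat) (Btab_270) (Btab_271) (Nat.ble 271 c)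
noncomputable def Btab_s_273_275 (c : Nat) : Nat := @Bool.rec (fun _ => Nat) (Btab_273) (Btab_274) (Nat.ble 274 c)
noncomputable def Btab_s_272_275 (c : Nat) : Nat := @Bool.rec (fun _ => Nat) (Btab_272) (Btab_s_273_275 c) (Nat.ble 273 c)
noncomputable def Btab_s_270_275 (c : Nat) : Nat := @Bool.rec (fun _ => Nat) (Btab_s_270_272 c) (Btab_s_272_275 c) (Nat.ble 272 c)
noncomputable def Btab_s_275_277 (c : Nat) : Nat := @Bool.rec (fun _ => Nat) (Btab_275) (Btab_276) (Nat.ble 276 c)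
noncomputable def Btab_s_278_280 (c : Nat) : Nat := @Bool.rec (fun _ => Nat) (Btab_278) (Btab_279) (Nat.ble 279 c)
noncomputable def Btab_s_277_280 (c : Nat) : Nat := @Bool.rec (fun _ => Nat) (Btab_277) (Btab_s_278_280 c) (Nat.ble 278 c)
noncomputable def Btab_s_275_280 (c : Nat) : Nat := @Bool.rec (fun _ => Nat) (Btab_s_275_277 c) (Btab_s_277_280 c) (Nat.ble 277 c)
noncomputable def Btab_s_270_280 (c : Nat) : Nat := @Bool.rec (fun _ => Nat) (Btab_s_270_275 c) (Btab_s_275_280 c) (Nat.ble 275 c)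
noncomputable def Btab_s_260_280 (c : Nat) : Nat := @Bool.rec (fun _ => Nat) (Btab_s_260_270 c) (Btab_s_270_280 c) (Nat.ble 270 c)
noncomputable def Btab_s_240_280 (c : Nat) : Nat := @Bool.rec (fun _ => Nat) (Btab_s_240_260 c) (Btab_s_260_280 c) (Nat.ble 260 c)
noncomputable def Btab_s_280_282 (c : Nat) : Nat := @Bool.rec (fun _ => Nat) (Btab_280) (Btab_281) (Nat.ble 281 c)
noncomputable def Btab_s_283_285 (c : Nat) : Nat := @Bool.rec (fun _ => Nat) (Btab_283) (Btab_284) (Nat.ble 284 c)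
noncomputable def Btab_s_282_285 (c : Nat) : Nat := @Bool.rec (fun _ => Nat) (Btab_282) (Btab_s_283_285 c) (Nat.ble 283 c)
noncomputable def Btab_s_280_285 (c : Nat) : Nat := @Bool.rec (fun _ => Nat) (Btab_s_280_282 c) (Btab_s_282_285 c) (Nat.ble 282 c)
noncomputable def Btab_s_285_287 (c : Nat) : Nat := @Bool.rec (fun _ => Nat) (Btab_285) (Btab_286) (Nat.ble 286 c)
noncomputable def Btab_s_288_290 (c : Nat) : Nat := @Bool.rec (fun _ => Nat) (Btab_288) (Btab_289) (Nat.ble 289 c)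
noncomputable def Btab_s_287_290 (c : Nat) : Nat := @Bool.rec (fun _ => Nat) (Btab_287) (Btab_s_288_290 c) (Nat.ble 288 c)
noncomputable def Btab_s_285_290 (c : Nat) : Nat := @Bool.rec (fun _ => Nat) (Btab_s_285_287 c) (Btab_s_287_290 c) (Nat.ble 287 c)
noncomputable def Btab_s_280_290 (c : Nat) : Nat := @Bool.rec (fun _ => Nat) (Btab_s_280_285 c) (Btab_s_285_290 c) (Nat.ble 285 c)
noncomputable def Btab_s_290_292 (c : Nat) : Nat := @Bool.rec (fun _ => Nat) (Btab_290) (Btab_291) (Nat.ble 291 c)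
noncomputable def Btab_s_293_295 (c : Nat) : Nat := @Bool.rec (fun _ => Nat) (Btab_293) (Btab_294) (Nat.ble 294 c)
noncomputable def Btab_s_292_295 (c : Nat) : Nat := @Bool.rec (fun _ => Nat) (Btab_292) (Btab_s_293_295 c) (Nat.ble 293 c)
noncomputable def Btab_s_290_295 (c : Nat) : Nat := @Bool.rec (fun _ => Nat) (Btab_s_290_292 c) (Btab_s_292_295 c) (Nat.ble 292 c)
noncomputable def Btab_s_295_297 (c : Nat) : Nat := @Bool.rec (fun _ => Nat) (Btab_295) (Btab_296) (Nat.ble 296 c)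
noncomputable def Btab_s_298_300 (c : Nat) : Nat := @Bool.rec (fun _ => Nat) (Btab_298) (Btab_299) (Nat.ble 299 c)
noncomputable def Btab_s_297_300 (c : Nat) : Nat := @Bool.rec (fun _ => Nat) (Btab_297) (Btab_s_298_300 c) (Nat.ble 298 c)
noncomputable def Btab_s_295_300 (c : Nat) : Nat := @Bool.rec (fun _ => Nat) (Btab_s_295_297 c) (Btab_s_297_300 c) (Nat.ble 297 c)
noncomputable def Btab_s_290_300 (c : Nat) : Nat := @Bool.rec (fun _ => Nat) (Btab_s_290_295 c) (Btab_s_295_300 c) (Nat.ble 295 c)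
noncomputable def Btab_s_280_300 (c : Nat) : Nat := @Bool.rec (fun _ => Nat) (Btab_s_280_290 c) (Btab_s_290_300 c) (Nat.ble 290 c)
noncomputable def Btab_s_300_302 (c : Nat) : Nat := @Bool.rec (fun _ => Nat) (Btab_300) (Btab_301) (Nat.ble 301 c)
noncomputable def Btab_s_303_305 (c : Nat) : Nat := @Bool.rec (fun _ => Nat) (Btab_303) (Btab_304) (Nat.ble 304 c)
noncomputable def Btab_s_302_305 (c : Nat) : Nat := @Bool.rec (fun _ => Nat) (Btab_302) (Btab_s_303_305 c) (Nat.ble 303 c)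
noncomputable def Btab_s_300_305 (c : Nat) : Nat := @Bool.rec (fun _ => Nat) (Btab_s_300_302 c) (Btab_s_302_305 c) (Nat.ble 302 c)
noncomputable def Btab_s_305_307 (c : Nat) : Nat := @Bool.rec (fun _ => Nat) (Btab_305) (Btab_306) (Nat.ble 306 c)
noncomputable def Btab_s_308_310 (c : Nat) : Nat := @Bool.rec (fun _ => Nat) (Btab_308) (Btab_309) (Nat.ble 309 c)
noncomputable def Btab_s_307_310 (c : Nat) : Nat := @Bool.rec (fun _ => Nat) (Btab_307) (Btab_s_308_310 c) (Nat.ble 308 c)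
noncomputable def Btab_s_305_310 (c : Nat) : Nat := @Bool.rec (fun _ => Nat) (Btab_s_305_307 c) (Btab_s_307_310 c) (Nat.ble 307 c)
noncomputable def Btab_s_300_310 (c : Nat) : Nat := @Bool.rec (fun _ => Nat) (Btab_s_300_305 c) (Btab_s_305_310 c) (Nat.ble 305 c)
noncomputable def Btab_s_310_312 (c : Nat) : Nat := @Bool.rec (fun _ => Nat) (Btab_310) (Btab_311) (Nat.ble 311 c)
noncomputable def Btab_s_313_315 (c : Nat) : Nat := @Bool.rec (fun _ => Nat) (Btab_313) (Btab_314) (Nat.ble 314 c)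
noncomputable def Btab_s_312_315 (c : Nat) : Nat := @Bool.rec (fun _ => Nat) (Btab_312) (Btab_s_313_315 c) (Nat.ble 313 c)
noncomputable def Btab_s_310_315 (c : Nat) : Nat := @Bool.rec (fun _ => Nat) (Btab_s_310_312 c) (Btab_s_312_315 c) (Nat.ble 312 c)
noncomputable def Btab_s_316_318 (c : Nat) : Nat := @Bool.rec (fun _ => Nat) (Btab_316) (Btab_317) (Nat.ble 317 c)
noncomputable def Btab_s_315_318 (c : Nat) : Nat := @Bool.rec (fun _ => Nat) (Btab_315) (Btab_s_316_318 c) (Nat.ble 316 c)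
noncomputable def Btab_s_319_321 (c : Nat) : Nat := @Bool.rec (fun _ => Nat) (Btab_319) (Btab_320) (Nat.ble 320 c)
noncomputable def Btab_s_318_321 (c : Nat) : Nat := @Bool.rec (fun _ => Nat) (Btab_318) (Btab_s_319_321 c) (Nat.ble 319 c)
noncomputable def Btab_s_315_321 (c : Nat) : Nat := @Bool.rec (fun _ => Nat) (Btab_s_315_318 c) (Btab_s_318_321 c) (Nat.ble 318 c)
noncomputable def Btab_s_310_321 (c : Nat) : Nat := @Bool.rec (fun _ => Nat) (Btab_s_310_315 c) (Btab_s_315_321 c) (Nat.ble 315 c)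
noncomputable def Btab_s_300_321 (c : Nat) : Nat := @Bool.rec (fun _ => Nat) (Btab_s_300_310 c) (Btab_s_310_321 c) (Nat.ble 310 c)
noncomputable def Btab_s_280_321 (c : Nat) : Nat := @Bool.rec (fun _ => Nat) (Btab_s_280_300 c) (Btab_s_300_321 c) (Nat.ble 300 c)
noncomputable def Btab_s_240_321 (c : Nat) : Nat := @Bool.rec (fun _ => Nat) (Btab_s_240_280 c) (Btab_s_280_321 c) (Nat.ble 280 c)
noncomputable def Btab_s_160_321 (c : Nat) : Nat := @Bool.rec (fun _ => Nat) (Btab_s_160_240 c) (Btab_s_240_321 c) (Nat.ble 240 c)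
noncomputable def Btab_s_0_321 (c : Nat) : Nat := @Bool.rec (fun _ => Nat) (Btab_s_0_160 c) (Btab_s_160_321 c) (Nat.ble 160 c)
noncomputable def Btab (i : Nat) : Nat := rdw 39 549755813887 (Btab_s_0_321 (Nat.shiftRight i 11)) (Nat.land i 2047)
noncomputable def Ptab_s_0_2 (c : Nat) : Nat := @Bool.rec (fun _ => Nat) (Ptab_0) (Ptab_1) (Nat.ble 1 c)
noncomputable def Ptab_s_2_4 (c : Nat) : Nat := @Bool.rec (fun _ => Nat) (Ptab_2) (Ptab_3) (Nat.ble 3 c)
noncomputable def Ptab_s_0_4 (c : Nat) : Nat := @Bool.rec (fun _ => Nat) (Ptab_s_0_2 c) (Ptab_s_2_4 c) (Nat.ble 2 c)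
noncomputable def Ptab_s_4_6 (c : Nat) : Nat := @Bool.rec (fun _ => Nat) (Ptab_4) (Ptab_5) (Nat.ble 5 c)
noncomputable def Ptab_s_6_8 (c : Nat) : Nat := @Bool.rec (fun _ => Nat) (Ptab_6) (Ptab_7) (Nat.ble 7 c)
noncomputable def Ptab_s_4_8 (c : Nat) : Nat := @Bool.rec (fun _ => Nat) (Ptab_s_4_6 c) (Ptab_s_6_8 c) (Nat.ble 6 c)
noncomputable def Ptab_s_0_8 (c : Nat) : Nat := @Bool.rec (fun _ => Nat) (Ptab_s_0_4 c) (Ptab_s_4_8 c) (Nat.ble 4 c)
noncomputable def Ptab_s_8_10 (c : Nat) : Nat := @Bool.rec (fun _ => Nat) (Ptab_8) (Ptab_9) (Nat.ble 9 c)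
noncomputable def Ptab_s_10_12 (c : Nat) : Nat := @Bool.rec (fun _ => Nat) (Ptab_10) (Ptab_11) (Nat.ble 11 c)
noncomputable def Ptab_s_8_12 (c : Nat) : Nat := @Bool.rec (fun _ => Nat) (Ptab_s_8_10 c) (Ptab_s_10_12 c) (Nat.ble 10 c)
noncomputable def Ptab_s_12_14 (c : Nat) : Nat := @Bool.rec (fun _ => Nat) (Ptab_12) (Ptab_13) (Nat.ble 13 c)
noncomputable def Ptab_s_15_17 (c : Nat) : Nat := @Bool.rec (fun _ => Nat) (Ptab_15) (Ptab_16) (Nat.ble 16 c)
noncomputable def Ptab_s_14_17 (c : Nat) : Nat := @Bool.rec (fun _ => Nat) (Ptab_14) (Ptab_s_15_17 c) (Nat.ble 15 c)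
noncomputable def Ptab_s_12_17 (c : Nat) : Nat := @Bool.rec (fun _ => Nat) (Ptab_s_12_14 c) (Ptab_s_14_17 c) (Nat.ble 14 c)
noncomputable def Ptab_s_8_17 (c : Nat) : Nat := @Bool.rec (fun _ => Nat) (Ptab_s_8_12 c) (Ptab_s_12_17 c) (Nat.ble 12 c)
noncomputable def Ptab_s_0_17 (c : Nat) : Nat := @Bool.rec (fun _ => Nat) (Ptab_s_0_8 c) (Ptab_s_8_17 c) (Nat.ble 8 c)
noncomputable def Ptab_s_17_19 (c : Nat) : Nat := @Bool.rec (fun _ => Nat) (Ptab_17) (Ptab_18) (Nat.ble 18 c)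
noncomputable def Ptab_s_19_21 (c : Nat) : Nat := @Bool.rec (fun _ => Nat) (Ptab_19) (Ptab_20) (Nat.ble 20 c)
noncomputable def Ptab_s_17_21 (c : Nat) : Nat := @Bool.rec (fun _ => Nat) (Ptab_s_17_19 c) (Ptab_s_19_21 c) (Nat.ble 19 c)
noncomputable def Ptab_s_21_23 (c : Nat) : Nat := @Bool.rec (fun _ => Nat) (Ptab_21) (Ptab_22) (Nat.ble 22 c)
noncomputable def Ptab_s_24_26 (c : Nat) : Nat := @Bool.rec (fun _ => Nat) (Ptab_24) (Ptab_25) (Nat.ble 25 c)
noncomputable def Ptab_s_23_26 (c : Nat) : Nat := @Bool.rec (fun _ => Nat) (Ptab_23) (Ptab_s_24_26 c) (Nat.ble 24 c)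
noncomputable def Ptab_s_21_26 (c : Nat) : Nat := @Bool.rec (fun _ => Nat) (Ptab_s_21_23 c) (Ptab_s_23_26 c) (Nat.ble 23 c)
noncomputable def Ptab_s_17_26 (c : Nat) : Nat := @Bool.rec (fun _ => Nat) (Ptab_s_17_21 c) (Ptab_s_21_26 c) (Nat.ble 21 c)
noncomputable def Ptab_s_26_28 (c : Nat) : Nat := @Bool.rec (fun _ => Nat) (Ptab_26) (Ptab_27) (Nat.ble 27 c)
noncomputable def Ptab_s_28_30 (c : Nat) : Nat := @Bool.rec (fun _ => Nat) (Ptab_28) (Ptab_29) (Nat.ble 29 c)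
noncomputable def Ptab_s_26_30 (c : Nat) : Nat := @Bool.rec (fun _ => Nat) (Ptab_s_26_28 c) (Ptab_s_28_30 c) (Nat.ble 28 c)
noncomputable def Ptab_s_30_32 (c : Nat) : Nat := @Bool.rec (fun _ => Nat) (Ptab_30) (Ptab_31) (Nat.ble 31 c)
noncomputable def Ptab_s_33_35 (c : Nat) : Nat := @Bool.rec (fun _ => Nat) (Ptab_33) (Ptab_34) (Nat.ble 34 c)
noncomputable def Ptab_s_32_35 (c : Nat) : Nat := @Bool.rec (fun _ => Nat) (Ptab_32) (Ptab_s_33_35 c) (Nat.ble 33 c)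
noncomputable def Ptab_s_30_35 (c : Nat) : Nat := @Bool.rec (fun _ => Nat) (Ptab_s_30_32 c) (Ptab_s_32_35 c) (Nat.ble 32 c)
noncomputable def Ptab_s_26_35 (c : Nat) : Nat := @Bool.rec (fun _ => Nat) (Ptab_s_26_30 c) (Ptab_s_30_35 c) (Nat.ble 30 c)
noncomputable def Ptab_s_17_35 (c : Nat) : Nat := @Bool.rec (fun _ => Nat) (Ptab_s_17_26 c) (Ptab_s_26_35 c) (Nat.ble 26 c)
noncomputable def Ptab_s_0_35 (c : Nat) : Nat := @Bool.rec (fun _ => Nat) (Ptab_s_0_17 c) (Ptab_s_17_35 c) (Nat.ble 17 c)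
noncomputable def Ptab_s_35_37 (c : Nat) : Nat := @Bool.rec (fun _ => Nat) (Ptab_35) (Ptab_36) (Nat.ble 36 c)
noncomputable def Ptab_s_37_39 (c : Nat) : Nat := @Bool.rec (fun _ => Nat) (Ptab_37) (Ptab_38) (Nat.ble 38 c)
noncomputable def Ptab_s_35_39 (c : Nat) : Nat := @Bool.rec (fun _ => Nat) (Ptab_s_35_37 c) (Ptab_s_37_39 c) (Nat.ble 37 c)
noncomputable def Ptab_s_39_41 (c : Nat) : Nat := @Bool.rec (fun _ => Nat) (Ptab_39) (Ptab_40) (Nat.ble 40 c)
noncomputable def Ptab_s_42_44 (c : Nat) : Nat := @Bool.rec (fun _ => Nat) (Ptab_42) (Ptab_43) (Nat.ble 43 c)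
noncomputable def Ptab_s_41_44 (c : Nat) : Nat := @Bool.rec (fun _ => Nat) (Ptab_41) (Ptab_s_42_44 c) (Nat.ble 42 c)
noncomputable def Ptab_s_39_44 (c : Nat) : Nat := @Bool.rec (fun _ => Nat) (Ptab_s_39_41 c) (Ptab_s_41_44 c) (Nat.ble 41 c)
noncomputable def Ptab_s_35_44 (c : Nat) : Nat := @Bool.rec (fun _ => Nat) (Ptab_s_35_39 c) (Ptab_s_39_44 c) (Nat.ble 39 c)
noncomputable def Ptab_s_44_46 (c : Nat) : Nat := @Bool.rec (fun _ => Nat) (Ptab_44) (Ptab_45) (Nat.ble 45 c)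
noncomputable def Ptab_s_46_48 (c : Nat) : Nat := @Bool.rec (fun _ => Nat) (Ptab_46) (Ptab_47) (Nat.ble 47 c)
noncomputable def Ptab_s_44_48 (c : Nat) : Nat := @Bool.rec (fun _ => Nat) (Ptab_s_44_46 c) (Ptab_s_46_48 c) (Nat.ble 46 c)
noncomputable def Ptab_s_48_50 (c : Nat) : Nat := @Bool.rec (fun _ => Nat) (Ptab_48) (Ptab_49) (Nat.ble 49 c)
noncomputable def Ptab_s_51_53 (c : Nat) : Nat := @Bool.rec (fun _ => Nat) (Ptab_51) (Ptab_52) (Nat.ble 52 c)
noncomputable def Ptab_s_50_53 (c : Nat) : Nat := @Bool.rec (fun _ => Nat) (Ptab_50) (Ptab_s_51_53 c) (Nat.ble 51 c)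
noncomputable def Ptab_s_48_53 (c : Nat) : Nat := @Bool.rec (fun _ => Nat) (Ptab_s_48_50 c) (Ptab_s_50_53 c) (Nat.ble 50 c)
noncomputable def Ptab_s_44_53 (c : Nat) : Nat := @Bool.rec (fun _ => Nat) (Ptab_s_44_48 c) (Ptab_s_48_53 c) (Nat.ble 48 c)
noncomputable def Ptab_s_35_53 (c : Nat) : Nat := @Bool.rec (fun _ => Nat) (Ptab_s_35_44 c) (Ptab_s_44_53 c) (Nat.ble 44 c)
noncomputable def Ptab_s_53_55 (c : Nat) : Nat := @Bool.rec (fun _ => Nat) (Ptab_53) (Ptab_54) (Nat.ble 54 c)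
noncomputable def Ptab_s_55_57 (c : Nat) : Nat := @Bool.rec (fun _ => Nat) (Ptab_55) (Ptab_56) (Nat.ble 56 c)
noncomputable def Ptab_s_53_57 (c : Nat) : Nat := @Bool.rec (fun _ => Nat) (Ptab_s_53_55 c) (Ptab_s_55_57 c) (Nat.ble 55 c)
noncomputable def Ptab_s_57_59 (c : Nat) : Nat := @Bool.rec (fun _ => Nat) (Ptab_57) (Ptab_58) (Nat.ble 58 c)
noncomputable def Ptab_s_60_62 (c : Nat) : Nat := @Bool.rec (fun _ => Nat) (Ptab_60) (Ptab_61) (Nat.ble 61 c)
noncomputable def Ptab_s_59_62 (c : Nat) : Nat := @Bool.rec (fun _ => Nat) (Ptab_59) (Ptab_s_60_62 c) (Nat.ble 60 c)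
noncomputable def Ptab_s_57_62 (c : Nat) : Nat := @Bool.rec (fun _ => Nat) (Ptab_s_57_59 c) (Ptab_s_59_62 c) (Nat.ble 59 c)
noncomputable def Ptab_s_53_62 (c : Nat) : Nat := @Bool.rec (fun _ => Nat) (Ptab_s_53_57 c) (Ptab_s_57_62 c) (Nat.ble 57 c)
noncomputable def Ptab_s_62_64 (c : Nat) : Nat := @Bool.rec (fun _ => Nat) (Ptab_62) (Ptab_63) (Nat.ble 63 c)
noncomputable def Ptab_s_64_66 (c : Nat) : Nat := @Bool.rec (fun _ => Nat) (Ptab_64) (Ptab_65) (Nat.ble 65 c)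
noncomputable def Ptab_s_62_66 (c : Nat) : Nat := @Bool.rec (fun _ => Nat) (Ptab_s_62_64 c) (Ptab_s_64_66 c) (Nat.ble 64 c)
noncomputable def Ptab_s_66_68 (c : Nat) : Nat := @Bool.rec (fun _ => Nat) (Ptab_66) (Ptab_67) (Nat.ble 67 c)
noncomputable def Ptab_s_69_71 (c : Nat) : Nat := @Bool.rec (fun _ => Nat) (Ptab_69) (Ptab_70) (Nat.ble 70 c)
noncomputable def Ptab_s_68_71 (c : Nat) : Nat := @Bool.rec (fun _ => Nat) (Ptab_68) (Ptab_s_69_71 c) (Nat.ble 69 c)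
noncomputable def Ptab_s_66_71 (c : Nat) : Nat := @Bool.rec (fun _ => Nat) (Ptab_s_66_68 c) (Ptab_s_68_71 c) (Nat.ble 68 c)
noncomputable def Ptab_s_62_71 (c : Nat) : Nat := @Bool.rec (fun _ => Nat) (Ptab_s_62_66 c) (Ptab_s_66_71 c) (Nat.ble 66 c)
noncomputable def Ptab_s_53_71 (c : Nat) : Nat := @Bool.rec (fun _ => Nat) (Ptab_s_53_62 c) (Ptab_s_62_71 c) (Nat.ble 62 c)
noncomputable def Ptab_s_35_71 (c : Nat) : Nat := @Bool.rec (fun _ => Nat) (Ptab_s_35_53 c) (Ptab_s_53_71 c) (Nat.ble 53 c)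
noncomputable def Ptab_s_0_71 (c : Nat) : Nat := @Bool.rec (fun _ => Nat) (Ptab_s_0_35 c) (Ptab_s_35_71 c) (Nat.ble 35 c)
noncomputable def Ptab_s_71_73 (c : Nat) : Nat := @Bool.rec (fun _ => Nat) (Ptab_71) (Ptab_72) (Nat.ble 72 c)
noncomputable def Ptab_s_73_75 (c : Nat) : Nat := @Bool.rec (fun _ => Nat) (Ptab_73) (Ptab_74) (Nat.ble 74 c)
noncomputable def Ptab_s_71_75 (c : Nat) : Nat := @Bool.rec (fun _ => Nat) (Ptab_s_71_73 c) (Ptab_s_73_75 c) (Nat.ble 73 c)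
noncomputable def Ptab_s_75_77 (c : Nat) : Nat := @Bool.rec (fun _ => Nat) (Ptab_75) (Ptab_76) (Nat.ble 76 c)
noncomputable def Ptab_s_78_80 (c : Nat) : Nat := @Bool.rec (fun _ => Nat) (Ptab_78) (Ptab_79) (Nat.ble 79 c)
noncomputable def Ptab_s_77_80 (c : Nat) : Nat := @Bool.rec (fun _ => Nat) (Ptab_77) (Ptab_s_78_80 c) (Nat.ble 78 c)
noncomputable def Ptab_s_75_80 (c : Nat) : Nat := @Bool.rec (fun _ => Nat) (Ptab_s_75_77 c) (Ptab_s_77_80 c) (Nat.ble 77 c)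
noncomputable def Ptab_s_71_80 (c : Nat) : Nat := @Bool.rec (fun _ => Nat) (Ptab_s_71_75 c) (Ptab_s_75_80 c) (Nat.ble 75 c)
noncomputable def Ptab_s_80_82 (c : Nat) : Nat := @Bool.rec (fun _ => Nat) (Ptab_80) (Ptab_81) (Nat.ble 81 c)
noncomputable def Ptab_s_82_84 (c : Nat) : Nat := @Bool.rec (fun _ => Nat) (Ptab_82) (Ptab_83) (Nat.ble 83 c)
noncomputable def Ptab_s_80_84 (c : Nat) : Nat := @Bool.rec (fun _ => Nat) (Ptab_s_80_82 c) (Ptab_s_82_84 c) (Nat.ble 82 c)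
noncomputable def Ptab_s_84_86 (c : Nat) : Nat := @Bool.rec (fun _ => Nat) (Ptab_84) (Ptab_85) (Nat.ble 85 c)
noncomputable def Ptab_s_87_89 (c : Nat) : Nat := @Bool.rec (fun _ => Nat) (Ptab_87) (Ptab_88) (Nat.ble 88 c)
noncomputable def Ptab_s_86_89 (c : Nat) : Nat := @Bool.rec (fun _ => Nat) (Ptab_86) (Ptab_s_87_89 c) (Nat.ble 87 c)
noncomputable def Ptab_s_84_89 (c : Nat) : Nat := @Bool.rec (fun _ => Nat) (Ptab_s_84_86 c) (Ptab_s_86_89 c) (Nat.ble 86 c)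
noncomputable def Ptab_s_80_89 (c : Nat) : Nat := @Bool.rec (fun _ => Nat) (Ptab_s_80_84 c) (Ptab_s_84_89 c) (Nat.ble 84 c)
noncomputable def Ptab_s_71_89 (c : Nat) : Nat := @Bool.rec (fun _ => Nat) (Ptab_s_71_80 c) (Ptab_s_80_89 c) (Nat.ble 80 c)
noncomputable def Ptab_s_89_91 (c : Nat) : Nat := @Bool.rec (fun _ => Nat) (Ptab_89) (Ptab_90) (Nat.ble 90 c)
noncomputable def Ptab_s_91_93 (c : Nat) : Nat := @Bool.rec (fun _ => Nat) (Ptab_91) (Ptab_92) (Nat.ble 92 c)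
noncomputable def Ptab_s_89_93 (c : Nat) : Nat := @Bool.rec (fun _ => Nat) (Ptab_s_89_91 c) (Ptab_s_91_93 c) (Nat.ble 91 c)
noncomputable def Ptab_s_93_95 (c : Nat) : Nat := @Bool.rec (fun _ => Nat) (Ptab_93) (Ptab_94) (Nat.ble 94 c)
noncomputable def Ptab_s_96_98 (c : Nat) : Nat := @Bool.rec (fun _ => Nat) (Ptab_96) (Ptab_97) (Nat.ble 97 c)
noncomputable def Ptab_s_95_98 (c : Nat) : Nat := @Bool.rec (fun _ => Nat) (Ptab_95) (Ptab_s_96_98 c) (Nat.ble 96 c)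
noncomputable def Ptab_s_93_98 (c : Nat) : Nat := @Bool.rec (fun _ => Nat) (Ptab_s_93_95 c) (Ptab_s_95_98 c) (Nat.ble 95 c)
noncomputable def Ptab_s_89_98 (c : Nat) : Nat := @Bool.rec (fun _ => Nat) (Ptab_s_89_93 c) (Ptab_s_93_98 c) (Nat.ble 93 c)
noncomputable def Ptab_s_98_100 (c : Nat) : Nat := @Bool.rec (fun _ => Nat) (Ptab_98) (Ptab_99) (Nat.ble 99 c)
noncomputable def Ptab_s_100_102 (c : Nat) : Nat := @Bool.rec (fun _ => Nat) (Ptab_100) (Ptab_101) (Nat.ble 101 c)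
noncomputable def Ptab_s_98_102 (c : Nat) : Nat := @Bool.rec (fun _ => Nat) (Ptab_s_98_100 c) (Ptab_s_100_102 c) (Nat.ble 100 c)
noncomputable def Ptab_s_102_104 (c : Nat) : Nat := @Bool.rec (fun _ => Nat) (Ptab_102) (Ptab_103) (Nat.ble 103 c)
noncomputable def Ptab_s_105_107 (c : Nat) : Nat := @Bool.rec (fun _ => Nat) (Ptab_105) (Ptab_106) (Nat.ble 106 c)
noncomputable def Ptab_s_104_107 (c : Nat) : Nat := @Bool.rec (fun _ => Nat) (Ptab_104) (Ptab_s_105_107 c) (Nat.ble 105 c)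
noncomputable def Ptab_s_102_107 (c : Nat) : Nat := @Bool.rec (fun _ => Nat) (Ptab_s_102_104 c) (Ptab_s_104_107 c) (Nat.ble 104 c)
noncomputable def Ptab_s_98_107 (c : Nat) : Nat := @Bool.rec (fun _ => Nat) (Ptab_s_98_102 c) (Ptab_s_102_107 c) (Nat.ble 102 c)
noncomputable def Ptab_s_89_107 (c : Nat) : Nat := @Bool.rec (fun _ => Nat) (Ptab_s_89_98 c) (Ptab_s_98_107 c) (Nat.ble 98 c)
noncomputable def Ptab_s_71_107 (c : Nat) : Nat := @Bool.rec (fun _ => Nat) (Ptab_s_71_89 c) (Ptab_s_89_107 c) (Nat.ble 89 c)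
noncomputable def Ptab_s_107_109 (c : Nat) : Nat := @Bool.rec (fun _ => Nat) (Ptab_107) (Ptab_108) (Nat.ble 108 c)
noncomputable def Ptab_s_109_111 (c : Nat) : Nat := @Bool.rec (fun _ => Nat) (Ptab_109) (Ptab_110) (Nat.ble 110 c)
noncomputable def Ptab_s_107_111 (c : Nat) : Nat := @Bool.rec (fun _ => Nat) (Ptab_s_107_109 c) (Ptab_s_109_111 c) (Nat.ble 109 c)
noncomputable def Ptab_s_111_113 (c : Nat) : Nat := @Bool.rec (fun _ => Nat) (Ptab_111) (Ptab_112) (Nat.ble 112 c)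
noncomputable def Ptab_s_114_116 (c : Nat) : Nat := @Bool.rec (fun _ => Nat) (Ptab_114) (Ptab_115) (Nat.ble 115 c)
noncomputable def Ptab_s_113_116 (c : Nat) : Nat := @Bool.rec (fun _ => Nat) (Ptab_113) (Ptab_s_114_116 c) (Nat.ble 114 c)
noncomputable def Ptab_s_111_116 (c : Nat) : Nat := @Bool.rec (fun _ => Nat) (Ptab_s_111_113 c) (Ptab_s_113_116 c) (Nat.ble 113 c)
noncomputable def Ptab_s_107_116 (c : Nat) : Nat := @Bool.rec (fun _ => Nat) (Ptab_s_107_111 c) (Ptab_s_111_116 c) (Nat.ble 111 c)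
noncomputable def Ptab_s_116_118 (c : Nat) : Nat := @Bool.rec (fun _ => Nat) (Ptab_116) (Ptab_117) (Nat.ble 117 c)
noncomputable def Ptab_s_118_120 (c : Nat) : Nat := @Bool.rec (fun _ => Nat) (Ptab_118) (Ptab_119) (Nat.ble 119 c)
noncomputable def Ptab_s_116_120 (c : Nat) : Nat := @Bool.rec (fun _ => Nat) (Ptab_s_116_118 c) (Ptab_s_118_120 c) (Nat.ble 118 c)
noncomputable def Ptab_s_120_122 (c : Nat) : Nat := @Bool.rec (fun _ => Nat) (Ptab_120) (Ptab_121) (Nat.ble 121 c)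
noncomputable def Ptab_s_123_125 (c : Nat) : Nat := @Bool.rec (fun _ => Nat) (Ptab_123) (Ptab_124) (Nat.ble 124 c)
noncomputable def Ptab_s_122_125 (c : Nat) : Nat := @Bool.rec (fun _ => Nat) (Ptab_122) (Ptab_s_123_125 c) (Nat.ble 123 c)
noncomputable def Ptab_s_120_125 (c : Nat) : Nat := @Bool.rec (fun _ => Nat) (Ptab_s_120_122 c) (Ptab_s_122_125 c) (Nat.ble 122 c)
noncomputable def Ptab_s_116_125 (c : Nat) : Nat := @Bool.rec (fun _ => Nat) (Ptab_s_116_120 c) (Ptab_s_120_125 c) (Nat.ble 120 c)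
noncomputable def Ptab_s_107_125 (c : Nat) : Nat := @Bool.rec (fun _ => Nat) (Ptab_s_107_116 c) (Ptab_s_116_125 c) (Nat.ble 116 c)
noncomputable def Ptab_s_125_127 (c : Nat) : Nat := @Bool.rec (fun _ => Nat) (Ptab_125) (Ptab_126) (Nat.ble 126 c)
noncomputable def Ptab_s_127_129 (c : Nat) : Nat := @Bool.rec (fun _ => Nat) (Ptab_127) (Ptab_128) (Nat.ble 128 c)
noncomputable def Ptab_s_125_129 (c : Nat) : Nat := @Bool.rec (fun _ => Nat) (Ptab_s_125_127 c) (Ptab_s_127_129 c) (Nat.ble 127 c)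
noncomputable def Ptab_s_129_131 (c : Nat) : Nat := @Bool.rec (fun _ => Nat) (Ptab_129) (Ptab_130) (Nat.ble 130 c)
noncomputable def Ptab_s_132_134 (c : Nat) : Nat := @Bool.rec (fun _ => Nat) (Ptab_132) (Ptab_133) (Nat.ble 133 c)
noncomputable def Ptab_s_131_134 (c : Nat) : Nat := @Bool.rec (fun _ => Nat) (Ptab_131) (Ptab_s_132_134 c) (Nat.ble 132 c)
noncomputable def Ptab_s_129_134 (c : Nat) : Nat := @Bool.rec (fun _ => Nat) (Ptab_s_129_131 c) (Ptab_s_131_134 c) (Nat.ble 131 c)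
noncomputable def Ptab_s_125_134 (c : Nat) : Nat := @Bool.rec (fun _ => Nat) (Ptab_s_125_129 c) (Ptab_s_129_134 c) (Nat.ble 129 c)
noncomputable def Ptab_s_134_136 (c : Nat) : Nat := @Bool.rec (fun _ => Nat) (Ptab_134) (Ptab_135) (Nat.ble 135 c)
noncomputable def Ptab_s_136_138 (c : Nat) : Nat := @Bool.rec (fun _ => Nat) (Ptab_136) (Ptab_137) (Nat.ble 137 c)
noncomputable def Ptab_s_134_138 (c : Nat) : Nat := @Bool.rec (fun _ => Nat) (Ptab_s_134_136 c) (Ptab_s_136_138 c) (Nat.ble 136 c)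
noncomputable def Ptab_s_138_140 (c : Nat) : Nat := @Bool.rec (fun _ => Nat) (Ptab_138) (Ptab_139) (Nat.ble 139 c)
noncomputable def Ptab_s_141_143 (c : Nat) : Nat := @Bool.rec (fun _ => Nat) (Ptab_141) (Ptab_142) (Nat.ble 142 c)
noncomputable def Ptab_s_140_143 (c : Nat) : Nat := @Bool.rec (fun _ => Nat) (Ptab_140) (Ptab_s_141_143 c) (Nat.ble 141 c)
noncomputable def Ptab_s_138_143 (c : Nat) : Nat := @Bool.rec (fun _ => Nat) (Ptab_s_138_140 c) (Ptab_s_140_143 c) (Nat.ble 140 c)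
noncomputable def Ptab_s_134_143 (c : Nat) : Nat := @Bool.rec (fun _ => Nat) (Ptab_s_134_138 c) (Ptab_s_138_143 c) (Nat.ble 138 c)
noncomputable def Ptab_s_125_143 (c : Nat) : Nat := @Bool.rec (fun _ => Nat) (Ptab_s_125_134 c) (Ptab_s_134_143 c) (Nat.ble 134 c)
noncomputable def Ptab_s_107_143 (c : Nat) : Nat := @Bool.rec (fun _ => Nat) (Ptab_s_107_125 c) (Ptab_s_125_143 c) (Nat.ble 125 c)
noncomputable def Ptab_s_71_143 (c : Nat) : Nat := @Bool.rec (fun _ => Nat) (Ptab_s_71_107 c) (Ptab_s_107_143 c) (Nat.ble 107 c)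
noncomputable def Ptab_s_0_143 (c : Nat) : Nat := @Bool.rec (fun _ => Nat) (Ptab_s_0_71 c) (Ptab_s_71_143 c) (Nat.ble 71 c)
noncomputable def Ptab_s_143_145 (c : Nat) : Nat := @Bool.rec (fun _ => Nat) (Ptab_143) (Ptab_144) (Nat.ble 144 c)
noncomputable def Ptab_s_145_147 (c : Nat) : Nat := @Bool.rec (fun _ => Nat) (Ptab_145) (Ptab_146) (Nat.ble 146 c)
noncomputable def Ptab_s_143_147 (c : Nat) : Nat := @Bool.rec (fun _ => Nat) (Ptab_s_143_145 c) (Ptab_s_145_147 c) (Nat.ble 145 c)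
noncomputable def Ptab_s_147_149 (c : Nat) : Nat := @Bool.rec (fun _ => Nat) (Ptab_147) (Ptab_148) (Nat.ble 148 c)
noncomputable def Ptab_s_149_151 (c : Nat) : Nat := @Bool.rec (fun _ => Nat) (Ptab_149) (Ptab_150) (Nat.ble 150 c)
noncomputable def Ptab_s_147_151 (c : Nat) : Nat := @Bool.rec (fun _ => Nat) (Ptab_s_147_149 c) (Ptab_s_149_151 c) (Nat.ble 149 c)
noncomputable def Ptab_s_143_151 (c : Nat) : Nat := @Bool.rec (fun _ => Nat) (Ptab_s_143_147 c) (Ptab_s_147_151 c) (Nat.ble 147 c)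
noncomputable def Ptab_s_151_153 (c : Nat) : Nat := @Bool.rec (fun _ => Nat) (Ptab_151) (Ptab_152) (Nat.ble 152 c)
noncomputable def Ptab_s_153_155 (c : Nat) : Nat := @Bool.rec (fun _ => Nat) (Ptab_153) (Ptab_154) (Nat.ble 154 c)
noncomputable def Ptab_s_151_155 (c : Nat) : Nat := @Bool.rec (fun _ => Nat) (Ptab_s_151_153 c) (Ptab_s_153_155 c) (Nat.ble 153 c)
noncomputable def Ptab_s_155_157 (c : Nat) : Nat := @Bool.rec (fun _ => Nat) (Ptab_155) (Ptab_156) (Nat.ble 156 c)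
noncomputable def Ptab_s_158_160 (c : Nat) : Nat := @Bool.rec (fun _ => Nat) (Ptab_158) (Ptab_159) (Nat.ble 159 c)
noncomputable def Ptab_s_157_160 (c : Nat) : Nat := @Bool.rec (fun _ => Nat) (Ptab_157) (Ptab_s_158_160 c) (Nat.ble 158 c)
noncomputable def Ptab_s_155_160 (c : Nat) : Nat := @Bool.rec (fun _ => Nat) (Ptab_s_155_157 c) (Ptab_s_157_160 c) (Nat.ble 157 c)
noncomputable def Ptab_s_151_160 (c : Nat) : Nat := @Bool.rec (fun _ => Nat) (Ptab_s_151_155 c) (Ptab_s_155_160 c) (Nat.ble 155 c)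
noncomputable def Ptab_s_143_160 (c : Nat) : Nat := @Bool.rec (fun _ => Nat) (Ptab_s_143_151 c) (Ptab_s_151_160 c) (Nat.ble 151 c)
noncomputable def Ptab_s_160_162 (c : Nat) : Nat := @Bool.rec (fun _ => Nat) (Ptab_160) (Ptab_161) (Nat.ble 161 c)
noncomputable def Ptab_s_162_164 (c : Nat) : Nat := @Bool.rec (fun _ => Nat) (Ptab_162) (Ptab_163) (Nat.ble 163 c)
noncomputable def Ptab_s_160_164 (c : Nat) : Nat := @Bool.rec (fun _ => Nat) (Ptab_s_160_162 c) (Ptab_s_162_164 c) (Nat.ble 162 c)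
noncomputable def Ptab_s_164_166 (c : Nat) : Nat := @Bool.rec (fun _ => Nat) (Ptab_164) (Ptab_165) (Nat.ble 165 c)
noncomputable def Ptab_s_167_169 (c : Nat) : Nat := @Bool.rec (fun _ => Nat) (Ptab_167) (Ptab_168) (Nat.ble 168 c)
noncomputable def Ptab_s_166_169 (c : Nat) : Nat := @Bool.rec (fun _ => Nat) (Ptab_166) (Ptab_s_167_169 c) (Nat.ble 167 c)
noncomputable def Ptab_s_164_169 (c : Nat) : Nat := @Bool.rec (fun _ => Nat) (Ptab_s_164_166 c) (Ptab_s_166_169 c) (Nat.ble 166 c)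
noncomputable def Ptab_s_160_169 (c : Nat) : Nat := @Bool.rec (fun _ => Nat) (Ptab_s_160_164 c) (Ptab_s_164_169 c) (Nat.ble 164 c)
noncomputable def Ptab_s_169_171 (c : Nat) : Nat := @Bool.rec (fun _ => Nat) (Ptab_169) (Ptab_170) (Nat.ble 170 c)
noncomputable def Ptab_s_171_173 (c : Nat) : Nat := @Bool.rec (fun _ => Nat) (Ptab_171) (Ptab_172) (Nat.ble 172 c)
noncomputable def Ptab_s_169_173 (c : Nat) : Nat := @Bool.rec (fun _ => Nat) (Ptab_s_169_171 c) (Ptab_s_171_173 c) (Nat.ble 171 c)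
noncomputable def Ptab_s_173_175 (c : Nat) : Nat := @Bool.rec (fun _ => Nat) (Ptab_173) (Ptab_174) (Nat.ble 174 c)
noncomputable def Ptab_s_176_178 (c : Nat) : Nat := @Bool.rec (fun _ => Nat) (Ptab_176) (Ptab_177) (Nat.ble 177 c)
noncomputable def Ptab_s_175_178 (c : Nat) : Nat := @Bool.rec (fun _ => Nat) (Ptab_175) (Ptab_s_176_178 c) (Nat.ble 176 c)
noncomputable def Ptab_s_173_178 (c : Nat) : Nat := @Bool.rec (fun _ => Nat) (Ptab_s_173_175 c) (Ptab_s_175_178 c) (Nat.ble 175 c)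
noncomputable def Ptab_s_169_178 (c : Nat) : Nat := @Bool.rec (fun _ => Nat) (Ptab_s_169_173 c) (Ptab_s_173_178 c) (Nat.ble 173 c)
noncomputable def Ptab_s_160_178 (c : Nat) : Nat := @Bool.rec (fun _ => Nat) (Ptab_s_160_169 c) (Ptab_s_169_178 c) (Nat.ble 169 c)
noncomputable def Ptab_s_143_178 (c : Nat) : Nat := @Bool.rec (fun _ => Nat) (Ptab_s_143_160 c) (Ptab_s_160_178 c) (Nat.ble 160 c)
noncomputable def Ptab_s_178_180 (c : Nat) : Nat := @Bool.rec (fun _ => Nat) (Ptab_178) (Ptab_179) (Nat.ble 179 c)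
noncomputable def Ptab_s_180_182 (c : Nat) : Nat := @Bool.rec (fun _ => Nat) (Ptab_180) (Ptab_181) (Nat.ble 181 c)
noncomputable def Ptab_s_178_182 (c : Nat) : Nat := @Bool.rec (fun _ => Nat) (Ptab_s_178_180 c) (Ptab_s_180_182 c) (Nat.ble 180 c)
noncomputable def Ptab_s_182_184 (c : Nat) : Nat := @Bool.rec (fun _ => Nat) (Ptab_182) (Ptab_183) (Nat.ble 183 c)
noncomputable def Ptab_s_185_187 (c : Nat) : Nat := @Bool.rec (fun _ => Nat) (Ptab_185) (Ptab_186) (Nat.ble 186 c)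
noncomputable def Ptab_s_184_187 (c : Nat) : Nat := @Bool.rec (fun _ => Nat) (Ptab_184) (Ptab_s_185_187 c) (Nat.ble 185 c)
noncomputable def Ptab_s_182_187 (c : Nat) : Nat := @Bool.rec (fun _ => Nat) (Ptab_s_182_184 c) (Ptab_s_184_187 c) (Nat.ble 184 c)
noncomputable def Ptab_s_178_187 (c : Nat) : Nat := @Bool.rec (fun _ => Nat) (Ptab_s_178_182 c) (Ptab_s_182_187 c) (Nat.ble 182 c)
noncomputable def Ptab_s_187_189 (c : Nat) : Nat := @Bool.rec (fun _ => Nat) (Ptab_187) (Ptab_188) (Nat.ble 188 c)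
noncomputable def Ptab_s_189_191 (c : Nat) : Nat := @Bool.rec (fun _ => Nat) (Ptab_189) (Ptab_190) (Nat.ble 190 c)
noncomputable def Ptab_s_187_191 (c : Nat) : Nat := @Bool.rec (fun _ => Nat) (Ptab_s_187_189 c) (Ptab_s_189_191 c) (Nat.ble 189 c)
noncomputable def Ptab_s_191_193 (c : Nat) : Nat := @Bool.rec (fun _ => Nat) (Ptab_191) (Ptab_192) (Nat.ble 192 c)
noncomputable def Ptab_s_194_196 (c : Nat) : Nat := @Bool.rec (fun _ => Nat) (Ptab_194) (Ptab_195) (Nat.ble 195 c)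
noncomputable def Ptab_s_193_196 (c : Nat) : Nat := @Bool.rec (fun _ => Nat) (Ptab_193) (Ptab_s_194_196 c) (Nat.ble 194 c)
noncomputable def Ptab_s_191_196 (c : Nat) : Nat := @Bool.rec (fun _ => Nat) (Ptab_s_191_193 c) (Ptab_s_193_196 c) (Nat.ble 193 c)
noncomputable def Ptab_s_187_196 (c : Nat) : Nat := @Bool.rec (fun _ => Nat) (Ptab_s_187_191 c) (Ptab_s_191_196 c) (Nat.ble 191 c)
noncomputable def Ptab_s_178_196 (c : Nat) : Nat := @Bool.rec (fun _ => Nat) (Ptab_s_178_187 c) (Ptab_s_187_196 c) (Nat.ble 187 c)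
noncomputable def Ptab_s_196_198 (c : Nat) : Nat := @Bool.rec (fun _ => Nat) (Ptab_196) (Ptab_197) (Nat.ble 197 c)
noncomputable def Ptab_s_198_200 (c : Nat) : Nat := @Bool.rec (fun _ => Nat) (Ptab_198) (Ptab_199) (Nat.ble 199 c)
noncomputable def Ptab_s_196_200 (c : Nat) : Nat := @Bool.rec (fun _ => Nat) (Ptab_s_196_198 c) (Ptab_s_198_200 c) (Nat.ble 198 c)
noncomputable def Ptab_s_200_202 (c : Nat) : Nat := @Bool.rec (fun _ => Nat) (Ptab_200) (Ptab_201) (Nat.ble 201 c)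
noncomputable def Ptab_s_203_205 (c : Nat) : Nat := @Bool.rec (fun _ => Nat) (Ptab_203) (Ptab_204) (Nat.ble 204 c)
noncomputable def Ptab_s_202_205 (c : Nat) : Nat := @Bool.rec (fun _ => Nat) (Ptab_202) (Ptab_s_203_205 c) (Nat.ble 203 c)
noncomputable def Ptab_s_200_205 (c : Nat) : Nat := @Bool.rec (fun _ => Nat) (Ptab_s_200_202 c) (Ptab_s_202_205 c) (Nat.ble 202 c)
noncomputable def Ptab_s_196_205 (c : Nat) : Nat := @Bool.rec (fun _ => Nat) (Ptab_s_196_200 c) (Ptab_s_200_205 c) (Nat.ble 200 c)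
noncomputable def Ptab_s_205_207 (c : Nat) : Nat := @Bool.rec (fun _ => Nat) (Ptab_205) (Ptab_206) (Nat.ble 206 c)
noncomputable def Ptab_s_207_209 (c : Nat) : Nat := @Bool.rec (fun _ => Nat) (Ptab_207) (Ptab_208) (Nat.ble 208 c)
noncomputable def Ptab_s_205_209 (c : Nat) : Nat := @Bool.rec (fun _ => Nat) (Ptab_s_205_207 c) (Ptab_s_207_209 c) (Nat.ble 207 c)
noncomputable def Ptab_s_209_211 (c : Nat) : Nat := @Bool.rec (fun _ => Nat) (Ptab_209) (Ptab_210) (Nat.ble 210 c)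
noncomputable def Ptab_s_212_214 (c : Nat) : Nat := @Bool.rec (fun _ => Nat) (Ptab_212) (Ptab_213) (Nat.ble 213 c)
noncomputable def Ptab_s_211_214 (c : Nat) : Nat := @Bool.rec (fun _ => Nat) (Ptab_211) (Ptab_s_212_214 c) (Nat.ble 212 c)
noncomputable def Ptab_s_209_214 (c : Nat) : Nat := @Bool.rec (fun _ => Nat) (Ptab_s_209_211 c) (Ptab_s_211_214 c) (Nat.ble 211 c)
noncomputable def Ptab_s_205_214 (c : Nat) : Nat := @Bool.rec (fun _ => Nat) (Ptab_s_205_209 c) (Ptab_s_209_214 c) (Nat.ble 209 c)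
noncomputable def Ptab_s_196_214 (c : Nat) : Nat := @Bool.rec (fun _ => Nat) (Ptab_s_196_205 c) (Ptab_s_205_214 c) (Nat.ble 205 c)
noncomputable def Ptab_s_178_214 (c : Nat) : Nat := @Bool.rec (fun _ => Nat) (Ptab_s_178_196 c) (Ptab_s_196_214 c) (Nat.ble 196 c)
noncomputable def Ptab_s_143_214 (c : Nat) : Nat := @Bool.rec (fun _ => Nat) (Ptab_s_143_178 c) (Ptab_s_178_214 c) (Nat.ble 178 c)
noncomputable def Ptab_s_214_216 (c : Nat) : Nat := @Bool.rec (fun _ => Nat) (Ptab_214) (Ptab_215) (Nat.ble 215 c)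
noncomputable def Ptab_s_216_218 (c : Nat) : Nat := @Bool.rec (fun _ => Nat) (Ptab_216) (Ptab_217) (Nat.ble 217 c)
noncomputable def Ptab_s_214_218 (c : Nat) : Nat := @Bool.rec (fun _ => Nat) (Ptab_s_214_216 c) (Ptab_s_216_218 c) (Nat.ble 216 c)
noncomputable def Ptab_s_218_220 (c : Nat) : Nat := @Bool.rec (fun _ => Nat) (Ptab_218) (Ptab_219) (Nat.ble 219 c)
noncomputable def Ptab_s_221_223 (c : Nat) : Nat := @Bool.rec (fun _ => Nat) (Ptab_221) (Ptab_222) (Nat.ble 222 c)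
noncomputable def Ptab_s_220_223 (c : Nat) : Nat := @Bool.rec (fun _ => Nat) (Ptab_220) (Ptab_s_221_223 c) (Nat.ble 221 c)
noncomputable def Ptab_s_218_223 (c : Nat) : Nat := @Bool.rec (fun _ => Nat) (Ptab_s_218_220 c) (Ptab_s_220_223 c) (Nat.ble 220 c)
noncomputable def Ptab_s_214_223 (c : Nat) : Nat := @Bool.rec (fun _ => Nat) (Ptab_s_214_218 c) (Ptab_s_218_223 c) (Nat.ble 218 c)
noncomputable def Ptab_s_223_225 (c : Nat) : Nat := @Bool.rec (fun _ => Nat) (Ptab_223) (Ptab_224) (Nat.ble 224 c)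
noncomputable def Ptab_s_225_227 (c : Nat) : Nat := @Bool.rec (fun _ => Nat) (Ptab_225) (Ptab_226) (Nat.ble 226 c)
noncomputable def Ptab_s_223_227 (c : Nat) : Nat := @Bool.rec (fun _ => Nat) (Ptab_s_223_225 c) (Ptab_s_225_227 c) (Nat.ble 225 c)
noncomputable def Ptab_s_227_229 (c : Nat) : Nat := @Bool.rec (fun _ => Nat) (Ptab_227) (Ptab_228) (Nat.ble 228 c)
noncomputable def Ptab_s_230_232 (c : Nat) : Nat := @Bool.rec (fun _ => Nat) (Ptab_230) (Ptab_231) (Nat.ble 231 c)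
noncomputable def Ptab_s_229_232 (c : Nat) : Nat := @Bool.rec (fun _ => Nat) (Ptab_229) (Ptab_s_230_232 c) (Nat.ble 230 c)
noncomputable def Ptab_s_227_232 (c : Nat) : Nat := @Bool.rec (fun _ => Nat) (Ptab_s_227_229 c) (Ptab_s_229_232 c) (Nat.ble 229 c)
noncomputable def Ptab_s_223_232 (c : Nat) : Nat := @Bool.rec (fun _ => Nat) (Ptab_s_223_227 c) (Ptab_s_227_232 c) (Nat.ble 227 c)
noncomputable def Ptab_s_214_232 (c : Nat) : Nat := @Bool.rec (fun _ => Nat) (Ptab_s_214_223 c) (Ptab_s_223_232 c) (Nat.ble 223 c)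
noncomputable def Ptab_s_232_234 (c : Nat) : Nat := @Bool.rec (fun _ => Nat) (Ptab_232) (Ptab_233) (Nat.ble 233 c)
noncomputable def Ptab_s_234_236 (c : Nat) : Nat := @Bool.rec (fun _ => Nat) (Ptab_234) (Ptab_235) (Nat.ble 235 c)
noncomputable def Ptab_s_232_236 (c : Nat) : Nat := @Bool.rec (fun _ => Nat) (Ptab_s_232_234 c) (Ptab_s_234_236 c) (Nat.ble 234 c)
noncomputable def Ptab_s_236_238 (c : Nat) : Nat := @Bool.rec (fun _ => Nat) (Ptab_236) (Ptab_237) (Nat.ble 237 c)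
noncomputable def Ptab_s_239_241 (c : Nat) : Nat := @Bool.rec (fun _ => Nat) (Ptab_239) (Ptab_240) (Nat.ble 240 c)
noncomputable def Ptab_s_238_241 (c : Nat) : Nat := @Bool.rec (fun _ => Nat) (Ptab_238) (Ptab_s_239_241 c) (Nat.ble 239 c)
noncomputable def Ptab_s_236_241 (c : Nat) : Nat := @Bool.rec (fun _ => Nat) (Ptab_s_236_238 c) (Ptab_s_238_241 c) (Nat.ble 238 c)
noncomputable def Ptab_s_232_241 (c : Nat) : Nat := @Bool.rec (fun _ => Nat) (Ptab_s_232_236 c) (Ptab_s_236_241 c) (Nat.ble 236 c)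
noncomputable def Ptab_s_241_243 (c : Nat) : Nat := @Bool.rec (fun _ => Nat) (Ptab_241) (Ptab_242) (Nat.ble 242 c)
noncomputable def Ptab_s_243_245 (c : Nat) : Nat := @Bool.rec (fun _ => Nat) (Ptab_243) (Ptab_244) (Nat.ble 244 c)
noncomputable def Ptab_s_241_245 (c : Nat) : Nat := @Bool.rec (fun _ => Nat) (Ptab_s_241_243 c) (Ptab_s_243_245 c) (Nat.ble 243 c)
noncomputable def Ptab_s_245_247 (c : Nat) : Nat := @Bool.rec (fun _ => Nat) (Ptab_245) (Ptab_246) (Nat.ble 246 c)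
noncomputable def Ptab_s_248_250 (c : Nat) : Nat := @Bool.rec (fun _ => Nat) (Ptab_248) (Ptab_249) (Nat.ble 249 c)
noncomputable def Ptab_s_247_250 (c : Nat) : Nat := @Bool.rec (fun _ => Nat) (Ptab_247) (Ptab_s_248_250 c) (Nat.ble 248 c)
noncomputable def Ptab_s_245_250 (c : Nat) : Nat := @Bool.rec (fun _ => Nat) (Ptab_s_245_247 c) (Ptab_s_247_250 c) (Nat.ble 247 c)
noncomputable def Ptab_s_241_250 (c : Nat) : Nat := @Bool.rec (fun _ => Nat) (Ptab_s_241_245 c) (Ptab_s_245_250 c) (Nat.ble 245 c)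
noncomputable def Ptab_s_232_250 (c : Nat) : Nat := @Bool.rec (fun _ => Nat) (Ptab_s_232_241 c) (Ptab_s_241_250 c) (Nat.ble 241 c)
noncomputable def Ptab_s_214_250 (c : Nat) : Nat := @Bool.rec (fun _ => Nat) (Ptab_s_214_232 c) (Ptab_s_232_250 c) (Nat.ble 232 c)
noncomputable def Ptab_s_250_252 (c : Nat) : Nat := @Bool.rec (fun _ => Nat) (Ptab_250) (Ptab_251) (Nat.ble 251 c)
noncomputable def Ptab_s_252_254 (c : Nat) : Nat := @Bool.rec (fun _ => Nat) (Ptab_252) (Ptab_253) (Nat.ble 253 c)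
noncomputable def Ptab_s_250_254 (c : Nat) : Nat := @Bool.rec (fun _ => Nat) (Ptab_s_250_252 c) (Ptab_s_252_254 c) (Nat.ble 252 c)
noncomputable def Ptab_s_254_256 (c : Nat) : Nat := @Bool.rec (fun _ => Nat) (Ptab_254) (Ptab_255) (Nat.ble 255 c)
noncomputable def Ptab_s_257_259 (c : Nat) : Nat := @Bool.rec (fun _ => Nat) (Ptab_257) (Ptab_258) (Nat.ble 258 c)
noncomputable def Ptab_s_256_259 (c : Nat) : Nat := @Bool.rec (fun _ => Nat) (Ptab_256) (Ptab_s_257_259 c) (Nat.ble 257 c)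
noncomputable def Ptab_s_254_259 (c : Nat) : Nat := @Bool.rec (fun _ => Nat) (Ptab_s_254_256 c) (Ptab_s_256_259 c) (Nat.ble 256 c)
noncomputable def Ptab_s_250_259 (c : Nat) : Nat := @Bool.rec (fun _ => Nat) (Ptab_s_250_254 c) (Ptab_s_254_259 c) (Nat.ble 254 c)
noncomputable def Ptab_s_259_261 (c : Nat) : Nat := @Bool.rec (fun _ => Nat) (Ptab_259) (Ptab_260) (Nat.ble 260 c)
noncomputable def Ptab_s_261_263 (c : Nat) : Nat := @Bool.rec (fun _ => Nat) (Ptab_261) (Ptab_262) (Nat.ble 262 c)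
noncomputable def Ptab_s_259_263 (c : Nat) : Nat := @Bool.rec (fun _ => Nat) (Ptab_s_259_261 c) (Ptab_s_261_263 c) (Nat.ble 261 c)
noncomputable def Ptab_s_263_265 (c : Nat) : Nat := @Bool.rec (fun _ => Nat) (Ptab_263) (Ptab_264) (Nat.ble 264 c)
noncomputable def Ptab_s_266_268 (c : Nat) : Nat := @Bool.rec (fun _ => Nat) (Ptab_266) (Ptab_267) (Nat.ble 267 c)
noncomputable def Ptab_s_265_268 (c : Nat) : Nat := @Bool.rec (fun _ => Nat) (Ptab_265) (Ptab_s_266_268 c) (Nat.ble 266 c)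
noncomputable def Ptab_s_263_268 (c : Nat) : Nat := @Bool.rec (fun _ => Nat) (Ptab_s_263_265 c) (Ptab_s_265_268 c) (Nat.ble 265 c)
noncomputable def Ptab_s_259_268 (c : Nat) : Nat := @Bool.rec (fun _ => Nat) (Ptab_s_259_263 c) (Ptab_s_263_268 c) (Nat.ble 263 c)
noncomputable def Ptab_s_250_268 (c : Nat) : Nat := @Bool.rec (fun _ => Nat) (Ptab_s_250_259 c) (Ptab_s_259_268 c) (Nat.ble 259 c)
noncomputable def Ptab_s_268_270 (c : Nat) : Nat := @Bool.rec (fun _ => Nat) (Ptab_268) (Ptab_269) (Nat.ble 269 c)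
noncomputable def Ptab_s_270_272 (c : Nat) : Nat := @Bool.rec (fun _ => Nat) (Ptab_270) (Ptab_271) (Nat.ble 271 c)
noncomputable def Ptab_s_268_272 (c : Nat) : Nat := @Bool.rec (fun _ => Nat) (Ptab_s_268_270 c) (Ptab_s_270_272 c) (Nat.ble 270 c)
noncomputable def Ptab_s_272_274 (c : Nat) : Nat := @Bool.rec (fun _ => Nat) (Ptab_272) (Ptab_273) (Nat.ble 273 c)
noncomputable def Ptab_s_275_277 (c : Nat) : Nat := @Bool.rec (fun _ => Nat) (Ptab_275) (Ptab_276) (Nat.ble 276 c)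
noncomputable def Ptab_s_274_277 (c : Nat) : Nat := @Bool.rec (fun _ => Nat) (Ptab_274) (Ptab_s_275_277 c) (Nat.ble 275 c)
noncomputable def Ptab_s_272_277 (c : Nat) : Nat := @Bool.rec (fun _ => Nat) (Ptab_s_272_274 c) (Ptab_s_274_277 c) (Nat.ble 274 c)
noncomputable def Ptab_s_268_277 (c : Nat) : Nat := @Bool.rec (fun _ => Nat) (Ptab_s_268_272 c) (Ptab_s_272_277 c) (Nat.ble 272 c)
noncomputable def Ptab_s_277_279 (c : Nat) : Nat := @Bool.rec (fun _ => Nat) (Ptab_277) (Ptab_278) (Nat.ble 278 c)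
noncomputable def Ptab_s_279_281 (c : Nat) : Nat := @Bool.rec (fun _ => Nat) (Ptab_279) (Ptab_280) (Nat.ble 280 c)
noncomputable def Ptab_s_277_281 (c : Nat) : Nat := @Bool.rec (fun _ => Nat) (Ptab_s_277_279 c) (Ptab_s_279_281 c) (Nat.ble 279 c)
noncomputable def Ptab_s_281_283 (c : Nat) : Nat := @Bool.rec (fun _ => Nat) (Ptab_281) (Ptab_282) (Nat.ble 282 c)
noncomputable def Ptab_s_284_286 (c : Nat) : Nat := @Bool.rec (fun _ => Nat) (Ptab_284) (Ptab_285) (Nat.ble 285 c)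
noncomputable def Ptab_s_283_286 (c : Nat) : Nat := @Bool.rec (fun _ => Nat) (Ptab_283) (Ptab_s_284_286 c) (Nat.ble 284 c)
noncomputable def Ptab_s_281_286 (c : Nat) : Nat := @Bool.rec (fun _ => Nat) (Ptab_s_281_283 c) (Ptab_s_283_286 c) (Nat.ble 283 c)
noncomputable def Ptab_s_277_286 (c : Nat) : Nat := @Bool.rec (fun _ => Nat) (Ptab_s_277_281 c) (Ptab_s_281_286 c) (Nat.ble 281 c)
noncomputable def Ptab_s_268_286 (c : Nat) : Nat := @Bool.rec (fun _ => Nat) (Ptab_s_268_277 c) (Ptab_s_277_286 c) (Nat.ble 277 c)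
noncomputable def Ptab_s_250_286 (c : Nat) : Nat := @Bool.rec (fun _ => Nat) (Ptab_s_250_268 c) (Ptab_s_268_286 c) (Nat.ble 268 c)
noncomputable def Ptab_s_214_286 (c : Nat) : Nat := @Bool.rec (fun _ => Nat) (Ptab_s_214_250 c) (Ptab_s_250_286 c) (Nat.ble 250 c)
noncomputable def Ptab_s_143_286 (c : Nat) : Nat := @Bool.rec (fun _ => Nat) (Ptab_s_143_214 c) (Ptab_s_214_286 c) (Nat.ble 214 c)
noncomputable def Ptab_s_0_286 (c : Nat) : Nat := @Bool.rec (fun _ => Nat) (Ptab_s_0_143 c) (Ptab_s_143_286 c) (Nat.ble 143 c)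
noncomputable def Ptab_s_286_288 (c : Nat) : Nat := @Bool.rec (fun _ => Nat) (Ptab_286) (Ptab_287) (Nat.ble 287 c)
noncomputable def Ptab_s_288_290 (c : Nat) : Nat := @Bool.rec (fun _ => Nat) (Ptab_288) (Ptab_289) (Nat.ble 289 c)
noncomputable def Ptab_s_286_290 (c : Nat) : Nat := @Bool.rec (fun _ => Nat) (Ptab_s_286_288 c) (Ptab_s_288_290 c) (Nat.ble 288 c)
noncomputable def Ptab_s_290_292 (c : Nat) : Nat := @Bool.rec (fun _ => Nat) (Ptab_290) (Ptab_291) (Nat.ble 291 c)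
noncomputable def Ptab_s_292_294 (c : Nat) : Nat := @Bool.rec (fun _ => Nat) (Ptab_292) (Ptab_293) (Nat.ble 293 c)
noncomputable def Ptab_s_290_294 (c : Nat) : Nat := @Bool.rec (fun _ => Nat) (Ptab_s_290_292 c) (Ptab_s_292_294 c) (Nat.ble 292 c)
noncomputable def Ptab_s_286_294 (c : Nat) : Nat := @Bool.rec (fun _ => Nat) (Ptab_s_286_290 c) (Ptab_s_290_294 c) (Nat.ble 290 c)
noncomputable def Ptab_s_294_296 (c : Nat) : Nat := @Bool.rec (fun _ => Nat) (Ptab_294) (Ptab_295) (Nat.ble 295 c)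
noncomputable def Ptab_s_296_298 (c : Nat) : Nat := @Bool.rec (fun _ => Nat) (Ptab_296) (Ptab_297) (Nat.ble 297 c)
noncomputable def Ptab_s_294_298 (c : Nat) : Nat := @Bool.rec (fun _ => Nat) (Ptab_s_294_296 c) (Ptab_s_296_298 c) (Nat.ble 296 c)
noncomputable def Ptab_s_298_300 (c : Nat) : Nat := @Bool.rec (fun _ => Nat) (Ptab_298) (Ptab_299) (Nat.ble 299 c)
noncomputable def Ptab_s_301_303 (c : Nat) : Nat := @Bool.rec (fun _ => Nat) (Ptab_301) (Ptab_302) (Nat.ble 302 c)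
noncomputable def Ptab_s_300_303 (c : Nat) : Nat := @Bool.rec (fun _ => Nat) (Ptab_300) (Ptab_s_301_303 c) (Nat.ble 301 c)
noncomputable def Ptab_s_298_303 (c : Nat) : Nat := @Bool.rec (fun _ => Nat) (Ptab_s_298_300 c) (Ptab_s_300_303 c) (Nat.ble 300 c)
noncomputable def Ptab_s_294_303 (c : Nat) : Nat := @Bool.rec (fun _ => Nat) (Ptab_s_294_298 c) (Ptab_s_298_303 c) (Nat.ble 298 c)
noncomputable def Ptab_s_286_303 (c : Nat) : Nat := @Bool.rec (fun _ => Nat) (Ptab_s_286_294 c) (Ptab_s_294_303 c) (Nat.ble 294 c)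
noncomputable def Ptab_s_303_305 (c : Nat) : Nat := @Bool.rec (fun _ => Nat) (Ptab_303) (Ptab_304) (Nat.ble 304 c)
noncomputable def Ptab_s_305_307 (c : Nat) : Nat := @Bool.rec (fun _ => Nat) (Ptab_305) (Ptab_306) (Nat.ble 306 c)
noncomputable def Ptab_s_303_307 (c : Nat) : Nat := @Bool.rec (fun _ => Nat) (Ptab_s_303_305 c) (Ptab_s_305_307 c) (Nat.ble 305 c)
noncomputable def Ptab_s_307_309 (c : Nat) : Nat := @Bool.rec (fun _ => Nat) (Ptab_307) (Ptab_308) (Nat.ble 308 c)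
noncomputable def Ptab_s_310_312 (c : Nat) : Nat := @Bool.rec (fun _ => Nat) (Ptab_310) (Ptab_311) (Nat.ble 311 c)
noncomputable def Ptab_s_309_312 (c : Nat) : Nat := @Bool.rec (fun _ => Nat) (Ptab_309) (Ptab_s_310_312 c) (Nat.ble 310 c)
noncomputable def Ptab_s_307_312 (c : Nat) : Nat := @Bool.rec (fun _ => Nat) (Ptab_s_307_309 c) (Ptab_s_309_312 c) (Nat.ble 309 c)
noncomputable def Ptab_s_303_312 (c : Nat) : Nat := @Bool.rec (fun _ => Nat) (Ptab_s_303_307 c) (Ptab_s_307_312 c) (Nat.ble 307 c)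
noncomputable def Ptab_s_312_314 (c : Nat) : Nat := @Bool.rec (fun _ => Nat) (Ptab_312) (Ptab_313) (Nat.ble 313 c)
noncomputable def Ptab_s_314_316 (c : Nat) : Nat := @Bool.rec (fun _ => Nat) (Ptab_314) (Ptab_315) (Nat.ble 315 c)
noncomputable def Ptab_s_312_316 (c : Nat) : Nat := @Bool.rec (fun _ => Nat) (Ptab_s_312_314 c) (Ptab_s_314_316 c) (Nat.ble 314 c)
noncomputable def Ptab_s_316_318 (c : Nat) : Nat := @Bool.rec (fun _ => Nat) (Ptab_316) (Ptab_317) (Nat.ble 317 c)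
noncomputable def Ptab_s_319_321 (c : Nat) : Nat := @Bool.rec (fun _ => Nat) (Ptab_319) (Ptab_320) (Nat.ble 320 c)
noncomputable def Ptab_s_318_321 (c : Nat) : Nat := @Bool.rec (fun _ => Nat) (Ptab_318) (Ptab_s_319_321 c) (Nat.ble 319 c)
noncomputable def Ptab_s_316_321 (c : Nat) : Nat := @Bool.rec (fun _ => Nat) (Ptab_s_316_318 c) (Ptab_s_318_321 c) (Nat.ble 318 c)
noncomputable def Ptab_s_312_321 (c : Nat) : Nat := @Bool.rec (fun _ => Nat) (Ptab_s_312_316 c) (Ptab_s_316_321 c) (Nat.ble 316 c)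
noncomputable def Ptab_s_303_321 (c : Nat) : Nat := @Bool.rec (fun _ => Nat) (Ptab_s_303_312 c) (Ptab_s_312_321 c) (Nat.ble 312 c)
noncomputable def Ptab_s_286_321 (c : Nat) : Nat := @Bool.rec (fun _ => Nat) (Ptab_s_286_303 c) (Ptab_s_303_321 c) (Nat.ble 303 c)
noncomputable def Ptab_s_321_323 (c : Nat) : Nat := @Bool.rec (fun _ => Nat) (Ptab_321) (Ptab_322) (Nat.ble 322 c)
noncomputable def Ptab_s_323_325 (c : Nat) : Nat := @Bool.rec (fun _ => Nat) (Ptab_323) (Ptab_324) (Nat.ble 324 c)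
noncomputable def Ptab_s_321_325 (c : Nat) : Nat := @Bool.rec (fun _ => Nat) (Ptab_s_321_323 c) (Ptab_s_323_325 c) (Nat.ble 323 c)
noncomputable def Ptab_s_325_327 (c : Nat) : Nat := @Bool.rec (fun _ => Nat) (Ptab_325) (Ptab_326) (Nat.ble 326 c)
noncomputable def Ptab_s_328_330 (c : Nat) : Nat := @Bool.rec (fun _ => Nat) (Ptab_328) (Ptab_329) (Nat.ble 329 c)
noncomputable def Ptab_s_327_330 (c : Nat) : Nat := @Bool.rec (fun _ => Nat) (Ptab_327) (Ptab_s_328_330 c) (Nat.ble 328 c)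
noncomputable def Ptab_s_325_330 (c : Nat) : Nat := @Bool.rec (fun _ => Nat) (Ptab_s_325_327 c) (Ptab_s_327_330 c) (Nat.ble 327 c)
noncomputable def Ptab_s_321_330 (c : Nat) : Nat := @Bool.rec (fun _ => Nat) (Ptab_s_321_325 c) (Ptab_s_325_330 c) (Nat.ble 325 c)
noncomputable def Ptab_s_330_332 (c : Nat) : Nat := @Bool.rec (fun _ => Nat) (Ptab_330) (Ptab_331) (Nat.ble 331 c)
noncomputable def Ptab_s_332_334 (c : Nat) : Nat := @Bool.rec (fun _ => Nat) (Ptab_332) (Ptab_333) (Nat.ble 333 c)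
noncomputable def Ptab_s_330_334 (c : Nat) : Nat := @Bool.rec (fun _ => Nat) (Ptab_s_330_332 c) (Ptab_s_332_334 c) (Nat.ble 332 c)
noncomputable def Ptab_s_334_336 (c : Nat) : Nat := @Bool.rec (fun _ => Nat) (Ptab_334) (Ptab_335) (Nat.ble 335 c)
noncomputable def Ptab_s_337_339 (c : Nat) : Nat := @Bool.rec (fun _ => Nat) (Ptab_337) (Ptab_338) (Nat.ble 338 c)
noncomputable def Ptab_s_336_339 (c : Nat) : Nat := @Bool.rec (fun _ => Nat) (Ptab_336) (Ptab_s_337_339 c) (Nat.ble 337 c)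
noncomputable def Ptab_s_334_339 (c : Nat) : Nat := @Bool.rec (fun _ => Nat) (Ptab_s_334_336 c) (Ptab_s_336_339 c) (Nat.ble 336 c)
noncomputable def Ptab_s_330_339 (c : Nat) : Nat := @Bool.rec (fun _ => Nat) (Ptab_s_330_334 c) (Ptab_s_334_339 c) (Nat.ble 334 c)
noncomputable def Ptab_s_321_339 (c : Nat) : Nat := @Bool.rec (fun _ => Nat) (Ptab_s_321_330 c) (Ptab_s_330_339 c) (Nat.ble 330 c)
noncomputable def Ptab_s_339_341 (c : Nat) : Nat := @Bool.rec (fun _ => Nat) (Ptab_339) (Ptab_340) (Nat.ble 340 c)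
noncomputable def Ptab_s_341_343 (c : Nat) : Nat := @Bool.rec (fun _ => Nat) (Ptab_341) (Ptab_342) (Nat.ble 342 c)
noncomputable def Ptab_s_339_343 (c : Nat) : Nat := @Bool.rec (fun _ => Nat) (Ptab_s_339_341 c) (Ptab_s_341_343 c) (Nat.ble 341 c)
noncomputable def Ptab_s_343_345 (c : Nat) : Nat := @Bool.rec (fun _ => Nat) (Ptab_343) (Ptab_344) (Nat.ble 344 c)
noncomputable def Ptab_s_346_348 (c : Nat) : Nat := @Bool.rec (fun _ => Nat) (Ptab_346) (Ptab_347) (Nat.ble 347 c)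
noncomputable def Ptab_s_345_348 (c : Nat) : Nat := @Bool.rec (fun _ => Nat) (Ptab_345) (Ptab_s_346_348 c) (Nat.ble 346 c)
noncomputable def Ptab_s_343_348 (c : Nat) : Nat := @Bool.rec (fun _ => Nat) (Ptab_s_343_345 c) (Ptab_s_345_348 c) (Nat.ble 345 c)
noncomputable def Ptab_s_339_348 (c : Nat) : Nat := @Bool.rec (fun _ => Nat) (Ptab_s_339_343 c) (Ptab_s_343_348 c) (Nat.ble 343 c)
noncomputable def Ptab_s_348_350 (c : Nat) : Nat := @Bool.rec (fun _ => Nat) (Ptab_348) (Ptab_349) (Nat.ble 349 c)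
noncomputable def Ptab_s_350_352 (c : Nat) : Nat := @Bool.rec (fun _ => Nat) (Ptab_350) (Ptab_351) (Nat.ble 351 c)
noncomputable def Ptab_s_348_352 (c : Nat) : Nat := @Bool.rec (fun _ => Nat) (Ptab_s_348_350 c) (Ptab_s_350_352 c) (Nat.ble 350 c)
noncomputable def Ptab_s_352_354 (c : Nat) : Nat := @Bool.rec (fun _ => Nat) (Ptab_352) (Ptab_353) (Nat.ble 353 c)
noncomputable def Ptab_s_355_357 (c : Nat) : Nat := @Bool.rec (fun _ => Nat) (Ptab_355) (Ptab_356) (Nat.ble 356 c)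
noncomputable def Ptab_s_354_357 (c : Nat) : Nat := @Bool.rec (fun _ => Nat) (Ptab_354) (Ptab_s_355_357 c) (Nat.ble 355 c)
noncomputable def Ptab_s_352_357 (c : Nat) : Nat := @Bool.rec (fun _ => Nat) (Ptab_s_352_354 c) (Ptab_s_354_357 c) (Nat.ble 354 c)
noncomputable def Ptab_s_348_357 (c : Nat) : Nat := @Bool.rec (fun _ => Nat) (Ptab_s_348_352 c) (Ptab_s_352_357 c) (Nat.ble 352 c)
noncomputable def Ptab_s_339_357 (c : Nat) : Nat := @Bool.rec (fun _ => Nat) (Ptab_s_339_348 c) (Ptab_s_348_357 c) (Nat.ble 348 c)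
noncomputable def Ptab_s_321_357 (c : Nat) : Nat := @Bool.rec (fun _ => Nat) (Ptab_s_321_339 c) (Ptab_s_339_357 c) (Nat.ble 339 c)
noncomputable def Ptab_s_286_357 (c : Nat) : Nat := @Bool.rec (fun _ => Nat) (Ptab_s_286_321 c) (Ptab_s_321_357 c) (Nat.ble 321 c)
noncomputable def Ptab_s_357_359 (c : Nat) : Nat := @Bool.rec (fun _ => Nat) (Ptab_357) (Ptab_358) (Nat.ble 358 c)
noncomputable def Ptab_s_359_361 (c : Nat) : Nat := @Bool.rec (fun _ => Nat) (Ptab_359) (Ptab_360) (Nat.ble 360 c)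
noncomputable def Ptab_s_357_361 (c : Nat) : Nat := @Bool.rec (fun _ => Nat) (Ptab_s_357_359 c) (Ptab_s_359_361 c) (Nat.ble 359 c)
noncomputable def Ptab_s_361_363 (c : Nat) : Nat := @Bool.rec (fun _ => Nat) (Ptab_361) (Ptab_362) (Nat.ble 362 c)
noncomputable def Ptab_s_364_366 (c : Nat) : Nat := @Bool.rec (fun _ => Nat) (Ptab_364) (Ptab_365) (Nat.ble 365 c)
noncomputable def Ptab_s_363_366 (c : Nat) : Nat := @Bool.rec (fun _ => Nat) (Ptab_363) (Ptab_s_364_366 c) (Nat.ble 364 c)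
noncomputable def Ptab_s_361_366 (c : Nat) : Nat := @Bool.rec (fun _ => Nat) (Ptab_s_361_363 c) (Ptab_s_363_366 c) (Nat.ble 363 c)
noncomputable def Ptab_s_357_366 (c : Nat) : Nat := @Bool.rec (fun _ => Nat) (Ptab_s_357_361 c) (Ptab_s_361_366 c) (Nat.ble 361 c)
noncomputable def Ptab_s_366_368 (c : Nat) : Nat := @Bool.rec (fun _ => Nat) (Ptab_366) (Ptab_367) (Nat.ble 367 c)
noncomputable def Ptab_s_368_370 (c : Nat) : Nat := @Bool.rec (fun _ => Nat) (Ptab_368) (Ptab_369) (Nat.ble 369 c)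
noncomputable def Ptab_s_366_370 (c : Nat) : Nat := @Bool.rec (fun _ => Nat) (Ptab_s_366_368 c) (Ptab_s_368_370 c) (Nat.ble 368 c)
noncomputable def Ptab_s_370_372 (c : Nat) : Nat := @Bool.rec (fun _ => Nat) (Ptab_370) (Ptab_371) (Nat.ble 371 c)
noncomputable def Ptab_s_373_375 (c : Nat) : Nat := @Bool.rec (fun _ => Nat) (Ptab_373) (Ptab_374) (Nat.ble 374 c)
noncomputable def Ptab_s_372_375 (c : Nat) : Nat := @Bool.rec (fun _ => Nat) (Ptab_372) (Ptab_s_373_375 c) (Nat.ble 373 c)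
noncomputable def Ptab_s_370_375 (c : Nat) : Nat := @Bool.rec (fun _ => Nat) (Ptab_s_370_372 c) (Ptab_s_372_375 c) (Nat.ble 372 c)
noncomputable def Ptab_s_366_375 (c : Nat) : Nat := @Bool.rec (fun _ => Nat) (Ptab_s_366_370 c) (Ptab_s_370_375 c) (Nat.ble 370 c)
noncomputable def Ptab_s_357_375 (c : Nat) : Nat := @Bool.rec (fun _ => Nat) (Ptab_s_357_366 c) (Ptab_s_366_375 c) (Nat.ble 366 c)
noncomputable def Ptab_s_375_377 (c : Nat) : Nat := @Bool.rec (fun _ => Nat) (Ptab_375) (Ptab_376) (Nat.ble 376 c)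
noncomputable def Ptab_s_377_379 (c : Nat) : Nat := @Bool.rec (fun _ => Nat) (Ptab_377) (Ptab_378) (Nat.ble 378 c)
noncomputable def Ptab_s_375_379 (c : Nat) : Nat := @Bool.rec (fun _ => Nat) (Ptab_s_375_377 c) (Ptab_s_377_379 c) (Nat.ble 377 c)
noncomputable def Ptab_s_379_381 (c : Nat) : Nat := @Bool.rec (fun _ => Nat) (Ptab_379) (Ptab_380) (Nat.ble 380 c)
noncomputable def Ptab_s_382_384 (c : Nat) : Nat := @Bool.rec (fun _ => Nat) (Ptab_382) (Ptab_383) (Nat.ble 383 c)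
noncomputable def Ptab_s_381_384 (c : Nat) : Nat := @Bool.rec (fun _ => Nat) (Ptab_381) (Ptab_s_382_384 c) (Nat.ble 382 c)
noncomputable def Ptab_s_379_384 (c : Nat) : Nat := @Bool.rec (fun _ => Nat) (Ptab_s_379_381 c) (Ptab_s_381_384 c) (Nat.ble 381 c)
noncomputable def Ptab_s_375_384 (c : Nat) : Nat := @Bool.rec (fun _ => Nat) (Ptab_s_375_379 c) (Ptab_s_379_384 c) (Nat.ble 379 c)
noncomputable def Ptab_s_384_386 (c : Nat) : Nat := @Bool.rec (fun _ => Nat) (Ptab_384) (Ptab_385) (Nat.ble 385 c)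
noncomputable def Ptab_s_386_388 (c : Nat) : Nat := @Bool.rec (fun _ => Nat) (Ptab_386) (Ptab_387) (Nat.ble 387 c)
noncomputable def Ptab_s_384_388 (c : Nat) : Nat := @Bool.rec (fun _ => Nat) (Ptab_s_384_386 c) (Ptab_s_386_388 c) (Nat.ble 386 c)
noncomputable def Ptab_s_388_390 (c : Nat) : Nat := @Bool.rec (fun _ => Nat) (Ptab_388) (Ptab_389) (Nat.ble 389 c)
noncomputable def Ptab_s_391_393 (c : Nat) : Nat := @Bool.rec (fun _ => Nat) (Ptab_391) (Ptab_392) (Nat.ble 392 c)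
noncomputable def Ptab_s_390_393 (c : Nat) : Nat := @Bool.rec (fun _ => Nat) (Ptab_390) (Ptab_s_391_393 c) (Nat.ble 391 c)
noncomputable def Ptab_s_388_393 (c : Nat) : Nat := @Bool.rec (fun _ => Nat) (Ptab_s_388_390 c) (Ptab_s_390_393 c) (Nat.ble 390 c)
noncomputable def Ptab_s_384_393 (c : Nat) : Nat := @Bool.rec (fun _ => Nat) (Ptab_s_384_388 c) (Ptab_s_388_393 c) (Nat.ble 388 c)
noncomputable def Ptab_s_375_393 (c : Nat) : Nat := @Bool.rec (fun _ => Nat) (Ptab_s_375_384 c) (Ptab_s_384_393 c) (Nat.ble 384 c)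
noncomputable def Ptab_s_357_393 (c : Nat) : Nat := @Bool.rec (fun _ => Nat) (Ptab_s_357_375 c) (Ptab_s_375_393 c) (Nat.ble 375 c)
noncomputable def Ptab_s_393_395 (c : Nat) : Nat := @Bool.rec (fun _ => Nat) (Ptab_393) (Ptab_394) (Nat.ble 394 c)
noncomputable def Ptab_s_395_397 (c : Nat) : Nat := @Bool.rec (fun _ => Nat) (Ptab_395) (Ptab_396) (Nat.ble 396 c)
noncomputable def Ptab_s_393_397 (c : Nat) : Nat := @Bool.rec (fun _ => Nat) (Ptab_s_393_395 c) (Ptab_s_395_397 c) (Nat.ble 395 c)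
noncomputable def Ptab_s_397_399 (c : Nat) : Nat := @Bool.rec (fun _ => Nat) (Ptab_397) (Ptab_398) (Nat.ble 398 c)
noncomputable def Ptab_s_400_402 (c : Nat) : Nat := @Bool.rec (fun _ => Nat) (Ptab_400) (Ptab_401) (Nat.ble 401 c)
noncomputable def Ptab_s_399_402 (c : Nat) : Nat := @Bool.rec (fun _ => Nat) (Ptab_399) (Ptab_s_400_402 c) (Nat.ble 400 c)
noncomputable def Ptab_s_397_402 (c : Nat) : Nat := @Bool.rec (fun _ => Nat) (Ptab_s_397_399 c) (Ptab_s_399_402 c) (Nat.ble 399 c)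
noncomputable def Ptab_s_393_402 (c : Nat) : Nat := @Bool.rec (fun _ => Nat) (Ptab_s_393_397 c) (Ptab_s_397_402 c) (Nat.ble 397 c)
noncomputable def Ptab_s_402_404 (c : Nat) : Nat := @Bool.rec (fun _ => Nat) (Ptab_402) (Ptab_403) (Nat.ble 403 c)
noncomputable def Ptab_s_404_406 (c : Nat) : Nat := @Bool.rec (fun _ => Nat) (Ptab_404) (Ptab_405) (Nat.ble 405 c)
noncomputable def Ptab_s_402_406 (c : Nat) : Nat := @Bool.rec (fun _ => Nat) (Ptab_s_402_404 c) (Ptab_s_404_406 c) (Nat.ble 404 c)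
noncomputable def Ptab_s_406_408 (c : Nat) : Nat := @Bool.rec (fun _ => Nat) (Ptab_406) (Ptab_407) (Nat.ble 407 c)
noncomputable def Ptab_s_409_411 (c : Nat) : Nat := @Bool.rec (fun _ => Nat) (Ptab_409) (Ptab_410) (Nat.ble 410 c)
noncomputable def Ptab_s_408_411 (c : Nat) : Nat := @Bool.rec (fun _ => Nat) (Ptab_408) (Ptab_s_409_411 c) (Nat.ble 409 c)
noncomputable def Ptab_s_406_411 (c : Nat) : Nat := @Bool.rec (fun _ => Nat) (Ptab_s_406_408 c) (Ptab_s_408_411 c) (Nat.ble 408 c)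
noncomputable def Ptab_s_402_411 (c : Nat) : Nat := @Bool.rec (fun _ => Nat) (Ptab_s_402_406 c) (Ptab_s_406_411 c) (Nat.ble 406 c)
noncomputable def Ptab_s_393_411 (c : Nat) : Nat := @Bool.rec (fun _ => Nat) (Ptab_s_393_402 c) (Ptab_s_402_411 c) (Nat.ble 402 c)
noncomputable def Ptab_s_411_413 (c : Nat) : Nat := @Bool.rec (fun _ => Nat) (Ptab_411) (Ptab_412) (Nat.ble 412 c)
noncomputable def Ptab_s_413_415 (c : Nat) : Nat := @Bool.rec (fun _ => Nat) (Ptab_413) (Ptab_414) (Nat.ble 414 c)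
noncomputable def Ptab_s_411_415 (c : Nat) : Nat := @Bool.rec (fun _ => Nat) (Ptab_s_411_413 c) (Ptab_s_413_415 c) (Nat.ble 413 c)
noncomputable def Ptab_s_415_417 (c : Nat) : Nat := @Bool.rec (fun _ => Nat) (Ptab_415) (Ptab_416) (Nat.ble 416 c)
noncomputable def Ptab_s_418_420 (c : Nat) : Nat := @Bool.rec (fun _ => Nat) (Ptab_418) (Ptab_419) (Nat.ble 419 c)
noncomputable def Ptab_s_417_420 (c : Nat) : Nat := @Bool.rec (fun _ => Nat) (Ptab_417) (Ptab_s_418_420 c) (Nat.ble 418 c)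
noncomputable def Ptab_s_415_420 (c : Nat) : Nat := @Bool.rec (fun _ => Nat) (Ptab_s_415_417 c) (Ptab_s_417_420 c) (Nat.ble 417 c)
noncomputable def Ptab_s_411_420 (c : Nat) : Nat := @Bool.rec (fun _ => Nat) (Ptab_s_411_415 c) (Ptab_s_415_420 c) (Nat.ble 415 c)
noncomputable def Ptab_s_420_422 (c : Nat) : Nat := @Bool.rec (fun _ => Nat) (Ptab_420) (Ptab_421) (Nat.ble 421 c)
noncomputable def Ptab_s_422_424 (c : Nat) : Nat := @Bool.rec (fun _ => Nat) (Ptab_422) (Ptab_423) (Nat.ble 423 c)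
noncomputable def Ptab_s_420_424 (c : Nat) : Nat := @Bool.rec (fun _ => Nat) (Ptab_s_420_422 c) (Ptab_s_422_424 c) (Nat.ble 422 c)
noncomputable def Ptab_s_424_426 (c : Nat) : Nat := @Bool.rec (fun _ => Nat) (Ptab_424) (Ptab_425) (Nat.ble 425 c)
noncomputable def Ptab_s_427_429 (c : Nat) : Nat := @Bool.rec (fun _ => Nat) (Ptab_427) (Ptab_428) (Nat.ble 428 c)
noncomputable def Ptab_s_426_429 (c : Nat) : Nat := @Bool.rec (fun _ => Nat) (Ptab_426) (Ptab_s_427_429 c) (Nat.ble 427 c)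
noncomputable def Ptab_s_424_429 (c : Nat) : Nat := @Bool.rec (fun _ => Nat) (Ptab_s_424_426 c) (Ptab_s_426_429 c) (Nat.ble 426 c)
noncomputable def Ptab_s_420_429 (c : Nat) : Nat := @Bool.rec (fun _ => Nat) (Ptab_s_420_424 c) (Ptab_s_424_429 c) (Nat.ble 424 c)
noncomputable def Ptab_s_411_429 (c : Nat) : Nat := @Bool.rec (fun _ => Nat) (Ptab_s_411_420 c) (Ptab_s_420_429 c) (Nat.ble 420 c)
noncomputable def Ptab_s_393_429 (c : Nat) : Nat := @Bool.rec (fun _ => Nat) (Ptab_s_393_411 c) (Ptab_s_411_429 c) (Nat.ble 411 c)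
noncomputable def Ptab_s_357_429 (c : Nat) : Nat := @Bool.rec (fun _ => Nat) (Ptab_s_357_393 c) (Ptab_s_393_429 c) (Nat.ble 393 c)
noncomputable def Ptab_s_286_429 (c : Nat) : Nat := @Bool.rec (fun _ => Nat) (Ptab_s_286_357 c) (Ptab_s_357_429 c) (Nat.ble 357 c)
noncomputable def Ptab_s_429_431 (c : Nat) : Nat := @Bool.rec (fun _ => Nat) (Ptab_429) (Ptab_430) (Nat.ble 430 c)
noncomputable def Ptab_s_431_433 (c : Nat) : Nat := @Bool.rec (fun _ => Nat) (Ptab_431) (Ptab_432) (Nat.ble 432 c)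
noncomputable def Ptab_s_429_433 (c : Nat) : Nat := @Bool.rec (fun _ => Nat) (Ptab_s_429_431 c) (Ptab_s_431_433 c) (Nat.ble 431 c)
noncomputable def Ptab_s_433_435 (c : Nat) : Nat := @Bool.rec (fun _ => Nat) (Ptab_433) (Ptab_434) (Nat.ble 434 c)
noncomputable def Ptab_s_435_437 (c : Nat) : Nat := @Bool.rec (fun _ => Nat) (Ptab_435) (Ptab_436) (Nat.ble 436 c)
noncomputable def Ptab_s_433_437 (c : Nat) : Nat := @Bool.rec (fun _ => Nat) (Ptab_s_433_435 c) (Ptab_s_435_437 c) (Nat.ble 435 c)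
noncomputable def Ptab_s_429_437 (c : Nat) : Nat := @Bool.rec (fun _ => Nat) (Ptab_s_429_433 c) (Ptab_s_433_437 c) (Nat.ble 433 c)
noncomputable def Ptab_s_437_439 (c : Nat) : Nat := @Bool.rec (fun _ => Nat) (Ptab_437) (Ptab_438) (Nat.ble 438 c)
noncomputable def Ptab_s_439_441 (c : Nat) : Nat := @Bool.rec (fun _ => Nat) (Ptab_439) (Ptab_440) (Nat.ble 440 c)
noncomputable def Ptab_s_437_441 (c : Nat) : Nat := @Bool.rec (fun _ => Nat) (Ptab_s_437_439 c) (Ptab_s_439_441 c) (Nat.ble 439 c)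
noncomputable def Ptab_s_441_443 (c : Nat) : Nat := @Bool.rec (fun _ => Nat) (Ptab_441) (Ptab_442) (Nat.ble 442 c)
noncomputable def Ptab_s_444_446 (c : Nat) : Nat := @Bool.rec (fun _ => Nat) (Ptab_444) (Ptab_445) (Nat.ble 445 c)
noncomputable def Ptab_s_443_446 (c : Nat) : Nat := @Bool.rec (fun _ => Nat) (Ptab_443) (Ptab_s_444_446 c) (Nat.ble 444 c)
noncomputable def Ptab_s_441_446 (c : Nat) : Nat := @Bool.rec (fun _ => Nat) (Ptab_s_441_443 c) (Ptab_s_443_446 c) (Nat.ble 443 c)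
noncomputable def Ptab_s_437_446 (c : Nat) : Nat := @Bool.rec (fun _ => Nat) (Ptab_s_437_441 c) (Ptab_s_441_446 c) (Nat.ble 441 c)
noncomputable def Ptab_s_429_446 (c : Nat) : Nat := @Bool.rec (fun _ => Nat) (Ptab_s_429_437 c) (Ptab_s_437_446 c) (Nat.ble 437 c)
noncomputable def Ptab_s_446_448 (c : Nat) : Nat := @Bool.rec (fun _ => Nat) (Ptab_446) (Ptab_447) (Nat.ble 447 c)
noncomputable def Ptab_s_448_450 (c : Nat) : Nat := @Bool.rec (fun _ => Nat) (Ptab_448) (Ptab_449) (Nat.ble 449 c)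
noncomputable def Ptab_s_446_450 (c : Nat) : Nat := @Bool.rec (fun _ => Nat) (Ptab_s_446_448 c) (Ptab_s_448_450 c) (Nat.ble 448 c)
noncomputable def Ptab_s_450_452 (c : Nat) : Nat := @Bool.rec (fun _ => Nat) (Ptab_450) (Ptab_451) (Nat.ble 451 c)
noncomputable def Ptab_s_453_455 (c : Nat) : Nat := @Bool.rec (fun _ => Nat) (Ptab_453) (Ptab_454) (Nat.ble 454 c)
noncomputable def Ptab_s_452_455 (c : Nat) : Nat := @Bool.rec (fun _ => Nat) (Ptab_452) (Ptab_s_453_455 c) (Nat.ble 453 c)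
noncomputable def Ptab_s_450_455 (c : Nat) : Nat := @Bool.rec (fun _ => Nat) (Ptab_s_450_452 c) (Ptab_s_452_455 c) (Nat.ble 452 c)
noncomputable def Ptab_s_446_455 (c : Nat) : Nat := @Bool.rec (fun _ => Nat) (Ptab_s_446_450 c) (Ptab_s_450_455 c) (Nat.ble 450 c)
noncomputable def Ptab_s_455_457 (c : Nat) : Nat := @Bool.rec (fun _ => Nat) (Ptab_455) (Ptab_456) (Nat.ble 456 c)
noncomputable def Ptab_s_457_459 (c : Nat) : Nat := @Bool.rec (fun _ => Nat) (Ptab_457) (Ptab_458) (Nat.ble 458 c)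
noncomputable def Ptab_s_455_459 (c : Nat) : Nat := @Bool.rec (fun _ => Nat) (Ptab_s_455_457 c) (Ptab_s_457_459 c) (Nat.ble 457 c)
noncomputable def Ptab_s_459_461 (c : Nat) : Nat := @Bool.rec (fun _ => Nat) (Ptab_459) (Ptab_460) (Nat.ble 460 c)
noncomputable def Ptab_s_462_464 (c : Nat) : Nat := @Bool.rec (fun _ => Nat) (Ptab_462) (Ptab_463) (Nat.ble 463 c)
noncomputable def Ptab_s_461_464 (c : Nat) : Nat := @Bool.rec (fun _ => Nat) (Ptab_461) (Ptab_s_462_464 c) (Nat.ble 462 c)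
noncomputable def Ptab_s_459_464 (c : Nat) : Nat := @Bool.rec (fun _ => Nat) (Ptab_s_459_461 c) (Ptab_s_461_464 c) (Nat.ble 461 c)
noncomputable def Ptab_s_455_464 (c : Nat) : Nat := @Bool.rec (fun _ => Nat) (Ptab_s_455_459 c) (Ptab_s_459_464 c) (Nat.ble 459 c)
noncomputable def Ptab_s_446_464 (c : Nat) : Nat := @Bool.rec (fun _ => Nat) (Ptab_s_446_455 c) (Ptab_s_455_464 c) (Nat.ble 455 c)
noncomputable def Ptab_s_429_464 (c : Nat) : Nat := @Bool.rec (fun _ => Nat) (Ptab_s_429_446 c) (Ptab_s_446_464 c) (Nat.ble 446 c)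
noncomputable def Ptab_s_464_466 (c : Nat) : Nat := @Bool.rec (fun _ => Nat) (Ptab_464) (Ptab_465) (Nat.ble 465 c)
noncomputable def Ptab_s_466_468 (c : Nat) : Nat := @Bool.rec (fun _ => Nat) (Ptab_466) (Ptab_467) (Nat.ble 467 c)
noncomputable def Ptab_s_464_468 (c : Nat) : Nat := @Bool.rec (fun _ => Nat) (Ptab_s_464_466 c) (Ptab_s_466_468 c) (Nat.ble 466 c)
noncomputable def Ptab_s_468_470 (c : Nat) : Nat := @Bool.rec (fun _ => Nat) (Ptab_468) (Ptab_469) (Nat.ble 469 c)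
noncomputable def Ptab_s_471_473 (c : Nat) : Nat := @Bool.rec (fun _ => Nat) (Ptab_471) (Ptab_472) (Nat.ble 472 c)
noncomputable def Ptab_s_470_473 (c : Nat) : Nat := @Bool.rec (fun _ => Nat) (Ptab_470) (Ptab_s_471_473 c) (Nat.ble 471 c)
noncomputable def Ptab_s_468_473 (c : Nat) : Nat := @Bool.rec (fun _ => Nat) (Ptab_s_468_470 c) (Ptab_s_470_473 c) (Nat.ble 470 c)
noncomputable def Ptab_s_464_473 (c : Nat) : Nat := @Bool.rec (fun _ => Nat) (Ptab_s_464_468 c) (Ptab_s_468_473 c) (Nat.ble 468 c)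
noncomputable def Ptab_s_473_475 (c : Nat) : Nat := @Bool.rec (fun _ => Nat) (Ptab_473) (Ptab_474) (Nat.ble 474 c)
noncomputable def Ptab_s_475_477 (c : Nat) : Nat := @Bool.rec (fun _ => Nat) (Ptab_475) (Ptab_476) (Nat.ble 476 c)
noncomputable def Ptab_s_473_477 (c : Nat) : Nat := @Bool.rec (fun _ => Nat) (Ptab_s_473_475 c) (Ptab_s_475_477 c) (Nat.ble 475 c)
noncomputable def Ptab_s_477_479 (c : Nat) : Nat := @Bool.rec (fun _ => Nat) (Ptab_477) (Ptab_478) (Nat.ble 478 c)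
noncomputable def Ptab_s_480_482 (c : Nat) : Nat := @Bool.rec (fun _ => Nat) (Ptab_480) (Ptab_481) (Nat.ble 481 c)
noncomputable def Ptab_s_479_482 (c : Nat) : Nat := @Bool.rec (fun _ => Nat) (Ptab_479) (Ptab_s_480_482 c) (Nat.ble 480 c)
noncomputable def Ptab_s_477_482 (c : Nat) : Nat := @Bool.rec (fun _ => Nat) (Ptab_s_477_479 c) (Ptab_s_479_482 c) (Nat.ble 479 c)
noncomputable def Ptab_s_473_482 (c : Nat) : Nat := @Bool.rec (fun _ => Nat) (Ptab_s_473_477 c) (Ptab_s_477_482 c) (Nat.ble 477 c)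
noncomputable def Ptab_s_464_482 (c : Nat) : Nat := @Bool.rec (fun _ => Nat) (Ptab_s_464_473 c) (Ptab_s_473_482 c) (Nat.ble 473 c)
noncomputable def Ptab_s_482_484 (c : Nat) : Nat := @Bool.rec (fun _ => Nat) (Ptab_482) (Ptab_483) (Nat.ble 483 c)
noncomputable def Ptab_s_484_486 (c : Nat) : Nat := @Bool.rec (fun _ => Nat) (Ptab_484) (Ptab_485) (Nat.ble 485 c)
noncomputable def Ptab_s_482_486 (c : Nat) : Nat := @Bool.rec (fun _ => Nat) (Ptab_s_482_484 c) (Ptab_s_484_486 c) (Nat.ble 484 c)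
noncomputable def Ptab_s_486_488 (c : Nat) : Nat := @Bool.rec (fun _ => Nat) (Ptab_486) (Ptab_487) (Nat.ble 487 c)
noncomputable def Ptab_s_489_491 (c : Nat) : Nat := @Bool.rec (fun _ => Nat) (Ptab_489) (Ptab_490) (Nat.ble 490 c)
noncomputable def Ptab_s_488_491 (c : Nat) : Nat := @Bool.rec (fun _ => Nat) (Ptab_488) (Ptab_s_489_491 c) (Nat.ble 489 c)
noncomputable def Ptab_s_486_491 (c : Nat) : Nat := @Bool.rec (fun _ => Nat) (Ptab_s_486_488 c) (Ptab_s_488_491 c) (Nat.ble 488 c)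
noncomputable def Ptab_s_482_491 (c : Nat) : Nat := @Bool.rec (fun _ => Nat) (Ptab_s_482_486 c) (Ptab_s_486_491 c) (Nat.ble 486 c)
noncomputable def Ptab_s_491_493 (c : Nat) : Nat := @Bool.rec (fun _ => Nat) (Ptab_491) (Ptab_492) (Nat.ble 492 c)
noncomputable def Ptab_s_493_495 (c : Nat) : Nat := @Bool.rec (fun _ => Nat) (Ptab_493) (Ptab_494) (Nat.ble 494 c)
noncomputable def Ptab_s_491_495 (c : Nat) : Nat := @Bool.rec (fun _ => Nat) (Ptab_s_491_493 c) (Ptab_s_493_495 c) (Nat.ble 493 c)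
noncomputable def Ptab_s_495_497 (c : Nat) : Nat := @Bool.rec (fun _ => Nat) (Ptab_495) (Ptab_496) (Nat.ble 496 c)
noncomputable def Ptab_s_498_500 (c : Nat) : Nat := @Bool.rec (fun _ => Nat) (Ptab_498) (Ptab_499) (Nat.ble 499 c)
noncomputable def Ptab_s_497_500 (c : Nat) : Nat := @Bool.rec (fun _ => Nat) (Ptab_497) (Ptab_s_498_500 c) (Nat.ble 498 c)
noncomputable def Ptab_s_495_500 (c : Nat) : Nat := @Bool.rec (fun _ => Nat) (Ptab_s_495_497 c) (Ptab_s_497_500 c) (Nat.ble 497 c)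
noncomputable def Ptab_s_491_500 (c : Nat) : Nat := @Bool.rec (fun _ => Nat) (Ptab_s_491_495 c) (Ptab_s_495_500 c) (Nat.ble 495 c)
noncomputable def Ptab_s_482_500 (c : Nat) : Nat := @Bool.rec (fun _ => Nat) (Ptab_s_482_491 c) (Ptab_s_491_500 c) (Nat.ble 491 c)
noncomputable def Ptab_s_464_500 (c : Nat) : Nat := @Bool.rec (fun _ => Nat) (Ptab_s_464_482 c) (Ptab_s_482_500 c) (Nat.ble 482 c)
noncomputable def Ptab_s_429_500 (c : Nat) : Nat := @Bool.rec (fun _ => Nat) (Ptab_s_429_464 c) (Ptab_s_464_500 c) (Nat.ble 464 c)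
noncomputable def Ptab_s_500_502 (c : Nat) : Nat := @Bool.rec (fun _ => Nat) (Ptab_500) (Ptab_501) (Nat.ble 501 c)
noncomputable def Ptab_s_502_504 (c : Nat) : Nat := @Bool.rec (fun _ => Nat) (Ptab_502) (Ptab_503) (Nat.ble 503 c)
noncomputable def Ptab_s_500_504 (c : Nat) : Nat := @Bool.rec (fun _ => Nat) (Ptab_s_500_502 c) (Ptab_s_502_504 c) (Nat.ble 502 c)
noncomputable def Ptab_s_504_506 (c : Nat) : Nat := @Bool.rec (fun _ => Nat) (Ptab_504) (Ptab_505) (Nat.ble 505 c)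
noncomputable def Ptab_s_507_509 (c : Nat) : Nat := @Bool.rec (fun _ => Nat) (Ptab_507) (Ptab_508) (Nat.ble 508 c)
noncomputable def Ptab_s_506_509 (c : Nat) : Nat := @Bool.rec (fun _ => Nat) (Ptab_506) (Ptab_s_507_509 c) (Nat.ble 507 c)
noncomputable def Ptab_s_504_509 (c : Nat) : Nat := @Bool.rec (fun _ => Nat) (Ptab_s_504_506 c) (Ptab_s_506_509 c) (Nat.ble 506 c)
noncomputable def Ptab_s_500_509 (c : Nat) : Nat := @Bool.rec (fun _ => Nat) (Ptab_s_500_504 c) (Ptab_s_504_509 c) (Nat.ble 504 c)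
noncomputable def Ptab_s_509_511 (c : Nat) : Nat := @Bool.rec (fun _ => Nat) (Ptab_509) (Ptab_510) (Nat.ble 510 c)
noncomputable def Ptab_s_511_513 (c : Nat) : Nat := @Bool.rec (fun _ => Nat) (Ptab_511) (Ptab_512) (Nat.ble 512 c)
noncomputable def Ptab_s_509_513 (c : Nat) : Nat := @Bool.rec (fun _ => Nat) (Ptab_s_509_511 c) (Ptab_s_511_513 c) (Nat.ble 511 c)
noncomputable def Ptab_s_513_515 (c : Nat) : Nat := @Bool.rec (fun _ => Nat) (Ptab_513) (Ptab_514) (Nat.ble 514 c)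
noncomputable def Ptab_s_516_518 (c : Nat) : Nat := @Bool.rec (fun _ => Nat) (Ptab_516) (Ptab_517) (Nat.ble 517 c)
noncomputable def Ptab_s_515_518 (c : Nat) : Nat := @Bool.rec (fun _ => Nat) (Ptab_515) (Ptab_s_516_518 c) (Nat.ble 516 c)
noncomputable def Ptab_s_513_518 (c : Nat) : Nat := @Bool.rec (fun _ => Nat) (Ptab_s_513_515 c) (Ptab_s_515_518 c) (Nat.ble 515 c)
noncomputable def Ptab_s_509_518 (c : Nat) : Nat := @Bool.rec (fun _ => Nat) (Ptab_s_509_513 c) (Ptab_s_513_518 c) (Nat.ble 513 c)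
noncomputable def Ptab_s_500_518 (c : Nat) : Nat := @Bool.rec (fun _ => Nat) (Ptab_s_500_509 c) (Ptab_s_509_518 c) (Nat.ble 509 c)
noncomputable def Ptab_s_518_520 (c : Nat) : Nat := @Bool.rec (fun _ => Nat) (Ptab_518) (Ptab_519) (Nat.ble 519 c)
noncomputable def Ptab_s_520_522 (c : Nat) : Nat := @Bool.rec (fun _ => Nat) (Ptab_520) (Ptab_521) (Nat.ble 521 c)
noncomputable def Ptab_s_518_522 (c : Nat) : Nat := @Bool.rec (fun _ => Nat) (Ptab_s_518_520 c) (Ptab_s_520_522 c) (Nat.ble 520 c)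
noncomputable def Ptab_s_522_524 (c : Nat) : Nat := @Bool.rec (fun _ => Nat) (Ptab_522) (Ptab_523) (Nat.ble 523 c)
noncomputable def Ptab_s_525_527 (c : Nat) : Nat := @Bool.rec (fun _ => Nat) (Ptab_525) (Ptab_526) (Nat.ble 526 c)
noncomputable def Ptab_s_524_527 (c : Nat) : Nat := @Bool.rec (fun _ => Nat) (Ptab_524) (Ptab_s_525_527 c) (Nat.ble 525 c)
noncomputable def Ptab_s_522_527 (c : Nat) : Nat := @Bool.rec (fun _ => Nat) (Ptab_s_522_524 c) (Ptab_s_524_527 c) (Nat.ble 524 c)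
noncomputable def Ptab_s_518_527 (c : Nat) : Nat := @Bool.rec (fun _ => Nat) (Ptab_s_518_522 c) (Ptab_s_522_527 c) (Nat.ble 522 c)
noncomputable def Ptab_s_527_529 (c : Nat) : Nat := @Bool.rec (fun _ => Nat) (Ptab_527) (Ptab_528) (Nat.ble 528 c)
noncomputable def Ptab_s_529_531 (c : Nat) : Nat := @Bool.rec (fun _ => Nat) (Ptab_529) (Ptab_530) (Nat.ble 530 c)
noncomputable def Ptab_s_527_531 (c : Nat) : Nat := @Bool.rec (fun _ => Nat) (Ptab_s_527_529 c) (Ptab_s_529_531 c) (Nat.ble 529 c)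
noncomputable def Ptab_s_531_533 (c : Nat) : Nat := @Bool.rec (fun _ => Nat) (Ptab_531) (Ptab_532) (Nat.ble 532 c)
noncomputable def Ptab_s_534_536 (c : Nat) : Nat := @Bool.rec (fun _ => Nat) (Ptab_534) (Ptab_535) (Nat.ble 535 c)
noncomputable def Ptab_s_533_536 (c : Nat) : Nat := @Bool.rec (fun _ => Nat) (Ptab_533) (Ptab_s_534_536 c) (Nat.ble 534 c)
noncomputable def Ptab_s_531_536 (c : Nat) : Nat := @Bool.rec (fun _ => Nat) (Ptab_s_531_533 c) (Ptab_s_533_536 c) (Nat.ble 533 c)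
noncomputable def Ptab_s_527_536 (c : Nat) : Nat := @Bool.rec (fun _ => Nat) (Ptab_s_527_531 c) (Ptab_s_531_536 c) (Nat.ble 531 c)
noncomputable def Ptab_s_518_536 (c : Nat) : Nat := @Bool.rec (fun _ => Nat) (Ptab_s_518_527 c) (Ptab_s_527_536 c) (Nat.ble 527 c)
noncomputable def Ptab_s_500_536 (c : Nat) : Nat := @Bool.rec (fun _ => Nat) (Ptab_s_500_518 c) (Ptab_s_518_536 c) (Nat.ble 518 c)
noncomputable def Ptab_s_536_538 (c : Nat) : Nat := @Bool.rec (fun _ => Nat) (Ptab_536) (Ptab_537) (Nat.ble 537 c)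
noncomputable def Ptab_s_538_540 (c : Nat) : Nat := @Bool.rec (fun _ => Nat) (Ptab_538) (Ptab_539) (Nat.ble 539 c)
noncomputable def Ptab_s_536_540 (c : Nat) : Nat := @Bool.rec (fun _ => Nat) (Ptab_s_536_538 c) (Ptab_s_538_540 c) (Nat.ble 538 c)
noncomputable def Ptab_s_540_542 (c : Nat) : Nat := @Bool.rec (fun _ => Nat) (Ptab_540) (Ptab_541) (Nat.ble 541 c)
noncomputable def Ptab_s_543_545 (c : Nat) : Nat := @Bool.rec (fun _ => Nat) (Ptab_543) (Ptab_544) (Nat.ble 544 c)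
noncomputable def Ptab_s_542_545 (c : Nat) : Nat := @Bool.rec (fun _ => Nat) (Ptab_542) (Ptab_s_543_545 c) (Nat.ble 543 c)
noncomputable def Ptab_s_540_545 (c : Nat) : Nat := @Bool.rec (fun _ => Nat) (Ptab_s_540_542 c) (Ptab_s_542_545 c) (Nat.ble 542 c)
noncomputable def Ptab_s_536_545 (c : Nat) : Nat := @Bool.rec (fun _ => Nat) (Ptab_s_536_540 c) (Ptab_s_540_545 c) (Nat.ble 540 c)
noncomputable def Ptab_s_545_547 (c : Nat) : Nat := @Bool.rec (fun _ => Nat) (Ptab_545) (Ptab_546) (Nat.ble 546 c)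
noncomputable def Ptab_s_547_549 (c : Nat) : Nat := @Bool.rec (fun _ => Nat) (Ptab_547) (Ptab_548) (Nat.ble 548 c)
noncomputable def Ptab_s_545_549 (c : Nat) : Nat := @Bool.rec (fun _ => Nat) (Ptab_s_545_547 c) (Ptab_s_547_549 c) (Nat.ble 547 c)
noncomputable def Ptab_s_549_551 (c : Nat) : Nat := @Bool.rec (fun _ => Nat) (Ptab_549) (Ptab_550) (Nat.ble 550 c)
noncomputable def Ptab_s_552_554 (c : Nat) : Nat := @Bool.rec (fun _ => Nat) (Ptab_552) (Ptab_553) (Nat.ble 553 c)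
noncomputable def Ptab_s_551_554 (c : Nat) : Nat := @Bool.rec (fun _ => Nat) (Ptab_551) (Ptab_s_552_554 c) (Nat.ble 552 c)
noncomputable def Ptab_s_549_554 (c : Nat) : Nat := @Bool.rec (fun _ => Nat) (Ptab_s_549_551 c) (Ptab_s_551_554 c) (Nat.ble 551 c)
noncomputable def Ptab_s_545_554 (c : Nat) : Nat := @Bool.rec (fun _ => Nat) (Ptab_s_545_549 c) (Ptab_s_549_554 c) (Nat.ble 549 c)
noncomputable def Ptab_s_536_554 (c : Nat) : Nat := @Bool.rec (fun _ => Nat) (Ptab_s_536_545 c) (Ptab_s_545_554 c) (Nat.ble 545 c)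
noncomputable def Ptab_s_554_556 (c : Nat) : Nat := @Bool.rec (fun _ => Nat) (Ptab_554) (Ptab_555) (Nat.ble 555 c)
noncomputable def Ptab_s_556_558 (c : Nat) : Nat := @Bool.rec (fun _ => Nat) (Ptab_556) (Ptab_557) (Nat.ble 557 c)
noncomputable def Ptab_s_554_558 (c : Nat) : Nat := @Bool.rec (fun _ => Nat) (Ptab_s_554_556 c) (Ptab_s_556_558 c) (Nat.ble 556 c)
noncomputable def Ptab_s_558_560 (c : Nat) : Nat := @Bool.rec (fun _ => Nat) (Ptab_558) (Ptab_559) (Nat.ble 559 c)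
noncomputable def Ptab_s_561_563 (c : Nat) : Nat := @Bool.rec (fun _ => Nat) (Ptab_561) (Ptab_562) (Nat.ble 562 c)
noncomputable def Ptab_s_560_563 (c : Nat) : Nat := @Bool.rec (fun _ => Nat) (Ptab_560) (Ptab_s_561_563 c) (Nat.ble 561 c)
noncomputable def Ptab_s_558_563 (c : Nat) : Nat := @Bool.rec (fun _ => Nat) (Ptab_s_558_560 c) (Ptab_s_560_563 c) (Nat.ble 560 c)
noncomputable def Ptab_s_554_563 (c : Nat) : Nat := @Bool.rec (fun _ => Nat) (Ptab_s_554_558 c) (Ptab_s_558_563 c) (Nat.ble 558 c)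
noncomputable def Ptab_s_563_565 (c : Nat) : Nat := @Bool.rec (fun _ => Nat) (Ptab_563) (Ptab_564) (Nat.ble 564 c)
noncomputable def Ptab_s_565_567 (c : Nat) : Nat := @Bool.rec (fun _ => Nat) (Ptab_565) (Ptab_566) (Nat.ble 566 c)
noncomputable def Ptab_s_563_567 (c : Nat) : Nat := @Bool.rec (fun _ => Nat) (Ptab_s_563_565 c) (Ptab_s_565_567 c) (Nat.ble 565 c)
noncomputable def Ptab_s_567_569 (c : Nat) : Nat := @Bool.rec (fun _ => Nat) (Ptab_567) (Ptab_568) (Nat.ble 568 c)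
noncomputable def Ptab_s_570_572 (c : Nat) : Nat := @Bool.rec (fun _ => Nat) (Ptab_570) (Ptab_571) (Nat.ble 571 c)
noncomputable def Ptab_s_569_572 (c : Nat) : Nat := @Bool.rec (fun _ => Nat) (Ptab_569) (Ptab_s_570_572 c) (Nat.ble 570 c)
noncomputable def Ptab_s_567_572 (c : Nat) : Nat := @Bool.rec (fun _ => Nat) (Ptab_s_567_569 c) (Ptab_s_569_572 c) (Nat.ble 569 c)
noncomputable def Ptab_s_563_572 (c : Nat) : Nat := @Bool.rec (fun _ => Nat) (Ptab_s_563_567 c) (Ptab_s_567_572 c) (Nat.ble 567 c)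
noncomputable def Ptab_s_554_572 (c : Nat) : Nat := @Bool.rec (fun _ => Nat) (Ptab_s_554_563 c) (Ptab_s_563_572 c) (Nat.ble 563 c)
noncomputable def Ptab_s_536_572 (c : Nat) : Nat := @Bool.rec (fun _ => Nat) (Ptab_s_536_554 c) (Ptab_s_554_572 c) (Nat.ble 554 c)
noncomputable def Ptab_s_500_572 (c : Nat) : Nat := @Bool.rec (fun _ => Nat) (Ptab_s_500_536 c) (Ptab_s_536_572 c) (Nat.ble 536 c)
noncomputable def Ptab_s_429_572 (c : Nat) : Nat := @Bool.rec (fun _ => Nat) (Ptab_s_429_500 c) (Ptab_s_500_572 c) (Nat.ble 500 c)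
noncomputable def Ptab_s_286_572 (c : Nat) : Nat := @Bool.rec (fun _ => Nat) (Ptab_s_286_429 c) (Ptab_s_429_572 c) (Nat.ble 429 c)
noncomputable def Ptab_s_0_572 (c : Nat) : Nat := @Bool.rec (fun _ => Nat) (Ptab_s_0_286 c) (Ptab_s_286_572 c) (Nat.ble 286 c)
noncomputable def Ptab (i : Nat) : Nat := rdw 21 2097151 (Ptab_s_0_572 (Nat.shiftRight i 12)) (Nat.land i 4095)
noncomputable def RRtab (i : Nat) : Nat := rdw 4 15 RRtab_0 i
noncomputable def rBtab (i : Nat) : Nat := rdw 9 511 rBtab_0 i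
noncomputable def rLtab (i : Nat) : Nat := rdw 5 31 rLtab_0 i
noncomputable def nameTab_s_1_3 (c : Nat) : Nat := @Bool.rec (fun _ => Nat) (nameTab_1) (nameTab_2) (Nat.ble 2 c)
noncomputable def nameTab_s_0_3 (c : Nat) : Nat := @Bool.rec (fun _ => Nat) (nameTab_0) (nameTab_s_1_3 c) (Nat.ble 1 c)
noncomputable def nameTab_s_3_5 (c : Nat) : Nat := @Bool.rec (fun _ => Nat) (nameTab_3) (nameTab_4) (Nat.ble 4 c)
noncomputable def nameTab_s_5_7 (c : Nat) : Nat := @Bool.rec (fun _ => Nat) (nameTab_5) (nameTab_6) (Nat.ble 6 c)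
noncomputable def nameTab_s_3_7 (c : Nat) : Nat := @Bool.rec (fun _ => Nat) (nameTab_s_3_5 c) (nameTab_s_5_7 c) (Nat.ble 5 c)
noncomputable def nameTab_s_0_7 (c : Nat) : Nat := @Bool.rec (fun _ => Nat) (nameTab_s_0_3 c) (nameTab_s_3_7 c) (Nat.ble 3 c)
noncomputable def nameTab_s_7_9 (c : Nat) : Nat := @Bool.rec (fun _ => Nat) (nameTab_7) (nameTab_8) (Nat.ble 8 c)
noncomputable def nameTab_s_9_11 (c : Nat) : Nat := @Bool.rec (fun _ => Nat) (nameTab_9) (nameTab_10) (Nat.ble 10 c)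
noncomputable def nameTab_s_7_11 (c : Nat) : Nat := @Bool.rec (fun _ => Nat) (nameTab_s_7_9 c) (nameTab_s_9_11 c) (Nat.ble 9 c)
noncomputable def nameTab_s_11_13 (c : Nat) : Nat := @Bool.rec (fun _ => Nat) (nameTab_11) (nameTab_12) (Nat.ble 12 c)
noncomputable def nameTab_s_13_15 (c : Nat) : Nat := @Bool.rec (fun _ => Nat) (nameTab_13) (nameTab_14) (Nat.ble 14 c)
noncomputable def nameTab_s_11_15 (c : Nat) : Nat := @Bool.rec (fun _ => Nat) (nameTab_s_11_13 c) (nameTab_s_13_15 c) (Nat.ble 13 c)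
noncomputable def nameTab_s_7_15 (c : Nat) : Nat := @Bool.rec (fun _ => Nat) (nameTab_s_7_11 c) (nameTab_s_11_15 c) (Nat.ble 11 c)
noncomputable def nameTab_s_0_15 (c : Nat) : Nat := @Bool.rec (fun _ => Nat) (nameTab_s_0_7 c) (nameTab_s_7_15 c) (Nat.ble 7 c)
noncomputable def nameTab (i : Nat) : Nat := rdw 19 524287 (nameTab_s_0_15 (Nat.shiftRight i 12)) (Nat.land i 4095)
noncomputable def col0_s_1_3 (c : Nat) : Nat := @Bool.rec (fun _ => Nat) (col0_1) (col0_2) (Nat.ble 2 c)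
noncomputable def col0_s_0_3 (c : Nat) : Nat := @Bool.rec (fun _ => Nat) (col0_0) (col0_s_1_3 c) (Nat.ble 1 c)
noncomputable def col0_s_3_5 (c : Nat) : Nat := @Bool.rec (fun _ => Nat) (col0_3) (col0_4) (Nat.ble 4 c)
noncomputable def col0_s_5_7 (c : Nat) : Nat := @Bool.rec (fun _ => Nat) (col0_5) (col0_6) (Nat.ble 6 c)
noncomputable def col0_s_3_7 (c : Nat) : Nat := @Bool.rec (fun _ => Nat) (col0_s_3_5 c) (col0_s_5_7 c) (Nat.ble 5 c)
noncomputable def col0_s_0_7 (c : Nat) : Nat := @Bool.rec (fun _ => Nat) (col0_s_0_3 c) (col0_s_3_7 c) (Nat.ble 3 c)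
noncomputable def col0_s_7_9 (c : Nat) : Nat := @Bool.rec (fun _ => Nat) (col0_7) (col0_8) (Nat.ble 8 c)
noncomputable def col0_s_9_11 (c : Nat) : Nat := @Bool.rec (fun _ => Nat) (col0_9) (col0_10) (Nat.ble 10 c)
noncomputable def col0_s_7_11 (c : Nat) : Nat := @Bool.rec (fun _ => Nat) (col0_s_7_9 c) (col0_s_9_11 c) (Nat.ble 9 c)
noncomputable def col0_s_11_13 (c : Nat) : Nat := @Bool.rec (fun _ => Nat) (col0_11) (col0_12) (Nat.ble 12 c)
noncomputable def col0_s_13_15 (c : Nat) : Nat := @Bool.rec (fun _ => Nat) (col0_13) (col0_14) (Nat.ble 14 c)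
noncomputable def col0_s_11_15 (c : Nat) : Nat := @Bool.rec (fun _ => Nat) (col0_s_11_13 c) (col0_s_13_15 c) (Nat.ble 13 c)
noncomputable def col0_s_7_15 (c : Nat) : Nat := @Bool.rec (fun _ => Nat) (col0_s_7_11 c) (col0_s_11_15 c) (Nat.ble 11 c)
noncomputable def col0_s_0_15 (c : Nat) : Nat := @Bool.rec (fun _ => Nat) (col0_s_0_7 c) (col0_s_7_15 c) (Nat.ble 7 c)
noncomputable def col0 (i : Nat) : Nat := rdw 16 65535 (col0_s_0_15 (Nat.shiftRight i 12)) (Nat.land i 4095)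
noncomputable def col1_s_1_3 (c : Nat) : Nat := @Bool.rec (fun _ => Nat) (col1_1) (col1_2) (Nat.ble 2 c)
noncomputable def col1_s_0_3 (c : Nat) : Nat := @Bool.rec (fun _ => Nat) (col1_0) (col1_s_1_3 c) (Nat.ble 1 c)
noncomputable def col1_s_3_5 (c : Nat) : Nat := @Bool.rec (fun _ => Nat) (col1_3) (col1_4) (Nat.ble 4 c)
noncomputable def col1_s_5_7 (c : Nat) : Nat := @Bool.rec (fun _ => Nat) (col1_5) (col1_6) (Nat.ble 6 c)
noncomputable def col1_s_3_7 (c : Nat) : Nat := @Bool.rec (fun _ => Nat) (col1_s_3_5 c) (col1_s_5_7 c) (Nat.ble 5 c)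
noncomputable def col1_s_0_7 (c : Nat) : Nat := @Bool.rec (fun _ => Nat) (col1_s_0_3 c) (col1_s_3_7 c) (Nat.ble 3 c)
noncomputable def col1_s_7_9 (c : Nat) : Nat := @Bool.rec (fun _ => Nat) (col1_7) (col1_8) (Nat.ble 8 c)
noncomputable def col1_s_9_11 (c : Nat) : Nat := @Bool.rec (fun _ => Nat) (col1_9) (col1_10) (Nat.ble 10 c)
noncomputable def col1_s_7_11 (c : Nat) : Nat := @Bool.rec (fun _ => Nat) (col1_s_7_9 c) (col1_s_9_11 c) (Nat.ble 9 c)
noncomputable def col1_s_11_13 (c : Nat) : Nat := @Bool.rec (fun _ => Nat) (col1_11) (col1_12) (Nat.ble 12 c)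
noncomputable def col1_s_13_15 (c : Nat) : Nat := @Bool.rec (fun _ => Nat) (col1_13) (col1_14) (Nat.ble 14 c)
noncomputable def col1_s_11_15 (c : Nat) : Nat := @Bool.rec (fun _ => Nat) (col1_s_11_13 c) (col1_s_13_15 c) (Nat.ble 13 c)
noncomputable def col1_s_7_15 (c : Nat) : Nat := @Bool.rec (fun _ => Nat) (col1_s_7_11 c) (col1_s_11_15 c) (Nat.ble 11 c)
noncomputable def col1_s_0_15 (c : Nat) : Nat := @Bool.rec (fun _ => Nat) (col1_s_0_7 c) (col1_s_7_15 c) (Nat.ble 7 c)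
noncomputable def col1 (i : Nat) : Nat := rdw 16 65535 (col1_s_0_15 (Nat.shiftRight i 12)) (Nat.land i 4095)
noncomputable def col2_s_1_3 (c : Nat) : Nat := @Bool.rec (fun _ => Nat) (col2_1) (col2_2) (Nat.ble 2 c)
noncomputable def col2_s_0_3 (c : Nat) : Nat := @Bool.rec (fun _ => Nat) (col2_0) (col2_s_1_3 c) (Nat.ble 1 c)
noncomputable def col2_s_3_5 (c : Nat) : Nat := @Bool.rec (fun _ => Nat) (col2_3) (col2_4) (Nat.ble 4 c)
noncomputable def col2_s_5_7 (c : Nat) : Nat := @Bool.rec (fun _ => Nat) (col2_5) (col2_6) (Nat.ble 6 c)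
noncomputable def col2_s_3_7 (c : Nat) : Nat := @Bool.rec (fun _ => Nat) (col2_s_3_5 c) (col2_s_5_7 c) (Nat.ble 5 c)
noncomputable def col2_s_0_7 (c : Nat) : Nat := @Bool.rec (fun _ => Nat) (col2_s_0_3 c) (col2_s_3_7 c) (Nat.ble 3 c)
noncomputable def col2_s_7_9 (c : Nat) : Nat := @Bool.rec (fun _ => Nat) (col2_7) (col2_8) (Nat.ble 8 c)
noncomputable def col2_s_9_11 (c : Nat) : Nat := @Bool.rec (fun _ => Nat) (col2_9) (col2_10) (Nat.ble 10 c)
noncomputable def col2_s_7_11 (c : Nat) : Nat := @Bool.rec (fun _ => Nat) (col2_s_7_9 c) (col2_s_9_11 c) (Nat.ble 9 c)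
noncomputable def col2_s_11_13 (c : Nat) : Nat := @Bool.rec (fun _ => Nat) (col2_11) (col2_12) (Nat.ble 12 c)
noncomputable def col2_s_13_15 (c : Nat) : Nat := @Bool.rec (fun _ => Nat) (col2_13) (col2_14) (Nat.ble 14 c)
noncomputable def col2_s_11_15 (c : Nat) : Nat := @Bool.rec (fun _ => Nat) (col2_s_11_13 c) (col2_s_13_15 c) (Nat.ble 13 c)
noncomputable def col2_s_7_15 (c : Nat) : Nat := @Bool.rec (fun _ => Nat) (col2_s_7_11 c) (col2_s_11_15 c) (Nat.ble 11 c)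
noncomputable def col2_s_0_15 (c : Nat) : Nat := @Bool.rec (fun _ => Nat) (col2_s_0_7 c) (col2_s_7_15 c) (Nat.ble 7 c)
noncomputable def col2 (i : Nat) : Nat := rdw 16 65535 (col2_s_0_15 (Nat.shiftRight i 12)) (Nat.land i 4095)
noncomputable def col3_s_1_3 (c : Nat) : Nat := @Bool.rec (fun _ => Nat) (col3_1) (col3_2) (Nat.ble 2 c)
noncomputable def col3_s_0_3 (c : Nat) : Nat := @Bool.rec (fun _ => Nat) (col3_0) (col3_s_1_3 c) (Nat.ble 1 c)
noncomputable def col3_s_3_5 (c : Nat) : Nat := @Bool.rec (fun _ => Nat) (col3_3) (col3_4) (Nat.ble 4 c)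
noncomputable def col3_s_5_7 (c : Nat) : Nat := @Bool.rec (fun _ => Nat) (col3_5) (col3_6) (Nat.ble 6 c)
noncomputable def col3_s_3_7 (c : Nat) : Nat := @Bool.rec (fun _ => Nat) (col3_s_3_5 c) (col3_s_5_7 c) (Nat.ble 5 c)
noncomputable def col3_s_0_7 (c : Nat) : Nat := @Bool.rec (fun _ => Nat) (col3_s_0_3 c) (col3_s_3_7 c) (Nat.ble 3 c)
noncomputable def col3_s_7_9 (c : Nat) : Nat := @Bool.rec (fun _ => Nat) (col3_7) (col3_8) (Nat.ble 8 c)
noncomputable def col3_s_9_11 (c : Nat) : Nat := @Bool.rec (fun _ => Nat) (col3_9) (col3_10) (Nat.ble 10 c)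
noncomputable def col3_s_7_11 (c : Nat) : Nat := @Bool.rec (fun _ => Nat) (col3_s_7_9 c) (col3_s_9_11 c) (Nat.ble 9 c)
noncomputable def col3_s_11_13 (c : Nat) : Nat := @Bool.rec (fun _ => Nat) (col3_11) (col3_12) (Nat.ble 12 c)
noncomputable def col3_s_13_15 (c : Nat) : Nat := @Bool.rec (fun _ => Nat) (col3_13) (col3_14) (Nat.ble 14 c)
noncomputable def col3_s_11_15 (c : Nat) : Nat := @Bool.rec (fun _ => Nat) (col3_s_11_13 c) (col3_s_13_15 c) (Nat.ble 13 c)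
noncomputable def col3_s_7_15 (c : Nat) : Nat := @Bool.rec (fun _ => Nat) (col3_s_7_11 c) (col3_s_11_15 c) (Nat.ble 11 c)
noncomputable def col3_s_0_15 (c : Nat) : Nat := @Bool.rec (fun _ => Nat) (col3_s_0_7 c) (col3_s_7_15 c) (Nat.ble 7 c)
noncomputable def col3 (i : Nat) : Nat := rdw 16 65535 (col3_s_0_15 (Nat.shiftRight i 12)) (Nat.land i 4095)
noncomputable def col4_s_1_3 (c : Nat) : Nat := @Bool.rec (fun _ => Nat) (col4_1) (col4_2) (Nat.ble 2 c)
noncomputable def col4_s_0_3 (c : Nat) : Nat := @Bool.rec (fun _ => Nat) (col4_0) (col4_s_1_3 c) (Nat.ble 1 c)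
noncomputable def col4_s_3_5 (c : Nat) : Nat := @Bool.rec (fun _ => Nat) (col4_3) (col4_4) (Nat.ble 4 c)
noncomputable def col4_s_5_7 (c : Nat) : Nat := @Bool.rec (fun _ => Nat) (col4_5) (col4_6) (Nat.ble 6 c)
noncomputable def col4_s_3_7 (c : Nat) : Nat := @Bool.rec (fun _ => Nat) (col4_s_3_5 c) (col4_s_5_7 c) (Nat.ble 5 c)
noncomputable def col4_s_0_7 (c : Nat) : Nat := @Bool.rec (fun _ => Nat) (col4_s_0_3 c) (col4_s_3_7 c) (Nat.ble 3 c)
noncomputable def col4_s_7_9 (c : Nat) : Nat := @Bool.rec (fun _ => Nat) (col4_7) (col4_8) (Nat.ble 8 c)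
noncomputable def col4_s_9_11 (c : Nat) : Nat := @Bool.rec (fun _ => Nat) (col4_9) (col4_10) (Nat.ble 10 c)
noncomputable def col4_s_7_11 (c : Nat) : Nat := @Bool.rec (fun _ => Nat) (col4_s_7_9 c) (col4_s_9_11 c) (Nat.ble 9 c)
noncomputable def col4_s_11_13 (c : Nat) : Nat := @Bool.rec (fun _ => Nat) (col4_11) (col4_12) (Nat.ble 12 c)
noncomputable def col4_s_13_15 (c : Nat) : Nat := @Bool.rec (fun _ => Nat) (col4_13) (col4_14) (Nat.ble 14 c)
noncomputable def col4_s_11_15 (c : Nat) : Nat := @Bool.rec (fun _ => Nat) (col4_s_11_13 c) (col4_s_13_15 c) (Nat.ble 13 c)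
noncomputable def col4_s_7_15 (c : Nat) : Nat := @Bool.rec (fun _ => Nat) (col4_s_7_11 c) (col4_s_11_15 c) (Nat.ble 11 c)
noncomputable def col4_s_0_15 (c : Nat) : Nat := @Bool.rec (fun _ => Nat) (col4_s_0_7 c) (col4_s_7_15 c) (Nat.ble 7 c)
noncomputable def col4 (i : Nat) : Nat := rdw 16 65535 (col4_s_0_15 (Nat.shiftRight i 12)) (Nat.land i 4095)
noncomputable def col5_s_1_3 (c : Nat) : Nat := @Bool.rec (fun _ => Nat) (col5_1) (col5_2) (Nat.ble 2 c)
noncomputable def col5_s_0_3 (c : Nat) : Nat := @Bool.rec (fun _ => Nat) (col5_0) (col5_s_1_3 c) (Nat.ble 1 c)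
noncomputable def col5_s_3_5 (c : Nat) : Nat := @Bool.rec (fun _ => Nat) (col5_3) (col5_4) (Nat.ble 4 c)
noncomputable def col5_s_5_7 (c : Nat) : Nat := @Bool.rec (fun _ => Nat) (col5_5) (col5_6) (Nat.ble 6 c)
noncomputable def col5_s_3_7 (c : Nat) : Nat := @Bool.rec (fun _ => Nat) (col5_s_3_5 c) (col5_s_5_7 c) (Nat.ble 5 c)
noncomputable def col5_s_0_7 (c : Nat) : Nat := @Bool.rec (fun _ => Nat) (col5_s_0_3 c) (col5_s_3_7 c) (Nat.ble 3 c)
noncomputable def col5_s_7_9 (c : Nat) : Nat := @Bool.rec (fun _ => Nat) (col5_7) (col5_8) (Nat.ble 8 c)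
noncomputable def col5_s_9_11 (c : Nat) : Nat := @Bool.rec (fun _ => Nat) (col5_9) (col5_10) (Nat.ble 10 c)
noncomputable def col5_s_7_11 (c : Nat) : Nat := @Bool.rec (fun _ => Nat) (col5_s_7_9 c) (col5_s_9_11 c) (Nat.ble 9 c)
noncomputable def col5_s_11_13 (c : Nat) : Nat := @Bool.rec (fun _ => Nat) (col5_11) (col5_12) (Nat.ble 12 c)
noncomputable def col5_s_13_15 (c : Nat) : Nat := @Bool.rec (fun _ => Nat) (col5_13) (col5_14) (Nat.ble 14 c)
noncomputable def col5_s_11_15 (c : Nat) : Nat := @Bool.rec (fun _ => Nat) (col5_s_11_13 c) (col5_s_13_15 c) (Nat.ble 13 c)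
noncomputable def col5_s_7_15 (c : Nat) : Nat := @Bool.rec (fun _ => Nat) (col5_s_7_11 c) (col5_s_11_15 c) (Nat.ble 11 c)
noncomputable def col5_s_0_15 (c : Nat) : Nat := @Bool.rec (fun _ => Nat) (col5_s_0_7 c) (col5_s_7_15 c) (Nat.ble 7 c)
noncomputable def col5 (i : Nat) : Nat := rdw 16 65535 (col5_s_0_15 (Nat.shiftRight i 12)) (Nat.land i 4095)
noncomputable def finTab_s_0_2 (c : Nat) : Nat := @Bool.rec (fun _ => Nat) (finTab_0) (finTab_1) (Nat.ble 1 c)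
noncomputable def finTab_s_3_5 (c : Nat) : Nat := @Bool.rec (fun _ => Nat) (finTab_3) (finTab_4) (Nat.ble 4 c)
noncomputable def finTab_s_2_5 (c : Nat) : Nat := @Bool.rec (fun _ => Nat) (finTab_2) (finTab_s_3_5 c) (Nat.ble 3 c)
noncomputable def finTab_s_0_5 (c : Nat) : Nat := @Bool.rec (fun _ => Nat) (finTab_s_0_2 c) (finTab_s_2_5 c) (Nat.ble 2 c)
noncomputable def finTab_s_5_7 (c : Nat) : Nat := @Bool.rec (fun _ => Nat) (finTab_5) (finTab_6) (Nat.ble 6 c)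
noncomputable def finTab_s_8_10 (c : Nat) : Nat := @Bool.rec (fun _ => Nat) (finTab_8) (finTab_9) (Nat.ble 9 c)
noncomputable def finTab_s_7_10 (c : Nat) : Nat := @Bool.rec (fun _ => Nat) (finTab_7) (finTab_s_8_10 c) (Nat.ble 8 c)
noncomputable def finTab_s_5_10 (c : Nat) : Nat := @Bool.rec (fun _ => Nat) (finTab_s_5_7 c) (finTab_s_7_10 c) (Nat.ble 7 c)
noncomputable def finTab_s_0_10 (c : Nat) : Nat := @Bool.rec (fun _ => Nat) (finTab_s_0_5 c) (finTab_s_5_10 c) (Nat.ble 5 c)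
noncomputable def finTab_s_10_12 (c : Nat) : Nat := @Bool.rec (fun _ => Nat) (finTab_10) (finTab_11) (Nat.ble 11 c)
noncomputable def finTab_s_13_15 (c : Nat) : Nat := @Bool.rec (fun _ => Nat) (finTab_13) (finTab_14) (Nat.ble 14 c)
noncomputable def finTab_s_12_15 (c : Nat) : Nat := @Bool.rec (fun _ => Nat) (finTab_12) (finTab_s_13_15 c) (Nat.ble 13 c)
noncomputable def finTab_s_10_15 (c : Nat) : Nat := @Bool.rec (fun _ => Nat) (finTab_s_10_12 c) (finTab_s_12_15 c) (Nat.ble 12 c)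
noncomputable def finTab_s_16_18 (c : Nat) : Nat := @Bool.rec (fun _ => Nat) (finTab_16) (finTab_17) (Nat.ble 17 c)
noncomputable def finTab_s_15_18 (c : Nat) : Nat := @Bool.rec (fun _ => Nat) (finTab_15) (finTab_s_16_18 c) (Nat.ble 16 c)
noncomputable def finTab_s_19_21 (c : Nat) : Nat := @Bool.rec (fun _ => Nat) (finTab_19) (finTab_20) (Nat.ble 20 c)
noncomputable def finTab_s_18_21 (c : Nat) : Nat := @Bool.rec (fun _ => Nat) (finTab_18) (finTab_s_19_21 c) (Nat.ble 19 c)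
noncomputable def finTab_s_15_21 (c : Nat) : Nat := @Bool.rec (fun _ => Nat) (finTab_s_15_18 c) (finTab_s_18_21 c) (Nat.ble 18 c)
noncomputable def finTab_s_10_21 (c : Nat) : Nat := @Bool.rec (fun _ => Nat) (finTab_s_10_15 c) (finTab_s_15_21 c) (Nat.ble 15 c)
noncomputable def finTab_s_0_21 (c : Nat) : Nat := @Bool.rec (fun _ => Nat) (finTab_s_0_10 c) (finTab_s_10_21 c) (Nat.ble 10 c)
noncomputable def finTab_s_21_23 (c : Nat) : Nat := @Bool.rec (fun _ => Nat) (finTab_21) (finTab_22) (Nat.ble 22 c)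
noncomputable def finTab_s_24_26 (c : Nat) : Nat := @Bool.rec (fun _ => Nat) (finTab_24) (finTab_25) (Nat.ble 25 c)
noncomputable def finTab_s_23_26 (c : Nat) : Nat := @Bool.rec (fun _ => Nat) (finTab_23) (finTab_s_24_26 c) (Nat.ble 24 c)
noncomputable def finTab_s_21_26 (c : Nat) : Nat := @Bool.rec (fun _ => Nat) (finTab_s_21_23 c) (finTab_s_23_26 c) (Nat.ble 23 c)
noncomputable def finTab_s_26_28 (c : Nat) : Nat := @Bool.rec (fun _ => Nat) (finTab_26) (finTab_27) (Nat.ble 27 c)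
noncomputable def finTab_s_29_31 (c : Nat) : Nat := @Bool.rec (fun _ => Nat) (finTab_29) (finTab_30) (Nat.ble 30 c)
noncomputable def finTab_s_28_31 (c : Nat) : Nat := @Bool.rec (fun _ => Nat) (finTab_28) (finTab_s_29_31 c) (Nat.ble 29 c)
noncomputable def finTab_s_26_31 (c : Nat) : Nat := @Bool.rec (fun _ => Nat) (finTab_s_26_28 c) (finTab_s_28_31 c) (Nat.ble 28 c)
noncomputable def finTab_s_21_31 (c : Nat) : Nat := @Bool.rec (fun _ => Nat) (finTab_s_21_26 c) (finTab_s_26_31 c) (Nat.ble 26 c)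
noncomputable def finTab_s_31_33 (c : Nat) : Nat := @Bool.rec (fun _ => Nat) (finTab_31) (finTab_32) (Nat.ble 32 c)
noncomputable def finTab_s_34_36 (c : Nat) : Nat := @Bool.rec (fun _ => Nat) (finTab_34) (finTab_35) (Nat.ble 35 c)
noncomputable def finTab_s_33_36 (c : Nat) : Nat := @Bool.rec (fun _ => Nat) (finTab_33) (finTab_s_34_36 c) (Nat.ble 34 c)
noncomputable def finTab_s_31_36 (c : Nat) : Nat := @Bool.rec (fun _ => Nat) (finTab_s_31_33 c) (finTab_s_33_36 c) (Nat.ble 33 c)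
noncomputable def finTab_s_37_39 (c : Nat) : Nat := @Bool.rec (fun _ => Nat) (finTab_37) (finTab_38) (Nat.ble 38 c)
noncomputable def finTab_s_36_39 (c : Nat) : Nat := @Bool.rec (fun _ => Nat) (finTab_36) (finTab_s_37_39 c) (Nat.ble 37 c)
noncomputable def finTab_s_40_42 (c : Nat) : Nat := @Bool.rec (fun _ => Nat) (finTab_40) (finTab_41) (Nat.ble 41 c)
noncomputable def finTab_s_39_42 (c : Nat) : Nat := @Bool.rec (fun _ => Nat) (finTab_39) (finTab_s_40_42 c) (Nat.ble 40 c)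
noncomputable def finTab_s_36_42 (c : Nat) : Nat := @Bool.rec (fun _ => Nat) (finTab_s_36_39 c) (finTab_s_39_42 c) (Nat.ble 39 c)
noncomputable def finTab_s_31_42 (c : Nat) : Nat := @Bool.rec (fun _ => Nat) (finTab_s_31_36 c) (finTab_s_36_42 c) (Nat.ble 36 c)
noncomputable def finTab_s_21_42 (c : Nat) : Nat := @Bool.rec (fun _ => Nat) (finTab_s_21_31 c) (finTab_s_31_42 c) (Nat.ble 31 c)
noncomputable def finTab_s_0_42 (c : Nat) : Nat := @Bool.rec (fun _ => Nat) (finTab_s_0_21 c) (finTab_s_21_42 c) (Nat.ble 21 c)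
noncomputable def finTab_s_42_44 (c : Nat) : Nat := @Bool.rec (fun _ => Nat) (finTab_42) (finTab_43) (Nat.ble 43 c)
noncomputable def finTab_s_45_47 (c : Nat) : Nat := @Bool.rec (fun _ => Nat) (finTab_45) (finTab_46) (Nat.ble 46 c)
noncomputable def finTab_s_44_47 (c : Nat) : Nat := @Bool.rec (fun _ => Nat) (finTab_44) (finTab_s_45_47 c) (Nat.ble 45 c)
noncomputable def finTab_s_42_47 (c : Nat) : Nat := @Bool.rec (fun _ => Nat) (finTab_s_42_44 c) (finTab_s_44_47 c) (Nat.ble 44 c)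
noncomputable def finTab_s_47_49 (c : Nat) : Nat := @Bool.rec (fun _ => Nat) (finTab_47) (finTab_48) (Nat.ble 48 c)
noncomputable def finTab_s_50_52 (c : Nat) : Nat := @Bool.rec (fun _ => Nat) (finTab_50) (finTab_51) (Nat.ble 51 c)
noncomputable def finTab_s_49_52 (c : Nat) : Nat := @Bool.rec (fun _ => Nat) (finTab_49) (finTab_s_50_52 c) (Nat.ble 50 c)
noncomputable def finTab_s_47_52 (c : Nat) : Nat := @Bool.rec (fun _ => Nat) (finTab_s_47_49 c) (finTab_s_49_52 c) (Nat.ble 49 c)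
noncomputable def finTab_s_42_52 (c : Nat) : Nat := @Bool.rec (fun _ => Nat) (finTab_s_42_47 c) (finTab_s_47_52 c) (Nat.ble 47 c)
noncomputable def finTab_s_52_54 (c : Nat) : Nat := @Bool.rec (fun _ => Nat) (finTab_52) (finTab_53) (Nat.ble 53 c)
noncomputable def finTab_s_55_57 (c : Nat) : Nat := @Bool.rec (fun _ => Nat) (finTab_55) (finTab_56) (Nat.ble 56 c)
noncomputable def finTab_s_54_57 (c : Nat) : Nat := @Bool.rec (fun _ => Nat) (finTab_54) (finTab_s_55_57 c) (Nat.ble 55 c)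
noncomputable def finTab_s_52_57 (c : Nat) : Nat := @Bool.rec (fun _ => Nat) (finTab_s_52_54 c) (finTab_s_54_57 c) (Nat.ble 54 c)
noncomputable def finTab_s_58_60 (c : Nat) : Nat := @Bool.rec (fun _ => Nat) (finTab_58) (finTab_59) (Nat.ble 59 c)
noncomputable def finTab_s_57_60 (c : Nat) : Nat := @Bool.rec (fun _ => Nat) (finTab_57) (finTab_s_58_60 c) (Nat.ble 58 c)
noncomputable def finTab_s_61_63 (c : Nat) : Nat := @Bool.rec (fun _ => Nat) (finTab_61) (finTab_62) (Nat.ble 62 c)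
noncomputable def finTab_s_60_63 (c : Nat) : Nat := @Bool.rec (fun _ => Nat) (finTab_60) (finTab_s_61_63 c) (Nat.ble 61 c)
noncomputable def finTab_s_57_63 (c : Nat) : Nat := @Bool.rec (fun _ => Nat) (finTab_s_57_60 c) (finTab_s_60_63 c) (Nat.ble 60 c)
noncomputable def finTab_s_52_63 (c : Nat) : Nat := @Bool.rec (fun _ => Nat) (finTab_s_52_57 c) (finTab_s_57_63 c) (Nat.ble 57 c)
noncomputable def finTab_s_42_63 (c : Nat) : Nat := @Bool.rec (fun _ => Nat) (finTab_s_42_52 c) (finTab_s_52_63 c) (Nat.ble 52 c)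
noncomputable def finTab_s_63_65 (c : Nat) : Nat := @Bool.rec (fun _ => Nat) (finTab_63) (finTab_64) (Nat.ble 64 c)
noncomputable def finTab_s_66_68 (c : Nat) : Nat := @Bool.rec (fun _ => Nat) (finTab_66) (finTab_67) (Nat.ble 67 c)
noncomputable def finTab_s_65_68 (c : Nat) : Nat := @Bool.rec (fun _ => Nat) (finTab_65) (finTab_s_66_68 c) (Nat.ble 66 c)
noncomputable def finTab_s_63_68 (c : Nat) : Nat := @Bool.rec (fun _ => Nat) (finTab_s_63_65 c) (finTab_s_65_68 c) (Nat.ble 65 c)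
noncomputable def finTab_s_69_71 (c : Nat) : Nat := @Bool.rec (fun _ => Nat) (finTab_69) (finTab_70) (Nat.ble 70 c)
noncomputable def finTab_s_68_71 (c : Nat) : Nat := @Bool.rec (fun _ => Nat) (finTab_68) (finTab_s_69_71 c) (Nat.ble 69 c)
noncomputable def finTab_s_72_74 (c : Nat) : Nat := @Bool.rec (fun _ => Nat) (finTab_72) (finTab_73) (Nat.ble 73 c)
noncomputable def finTab_s_71_74 (c : Nat) : Nat := @Bool.rec (fun _ => Nat) (finTab_71) (finTab_s_72_74 c) (Nat.ble 72 c)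
noncomputable def finTab_s_68_74 (c : Nat) : Nat := @Bool.rec (fun _ => Nat) (finTab_s_68_71 c) (finTab_s_71_74 c) (Nat.ble 71 c)
noncomputable def finTab_s_63_74 (c : Nat) : Nat := @Bool.rec (fun _ => Nat) (finTab_s_63_68 c) (finTab_s_68_74 c) (Nat.ble 68 c)
noncomputable def finTab_s_74_76 (c : Nat) : Nat := @Bool.rec (fun _ => Nat) (finTab_74) (finTab_75) (Nat.ble 75 c)
noncomputable def finTab_s_77_79 (c : Nat) : Nat := @Bool.rec (fun _ => Nat) (finTab_77) (finTab_78) (Nat.ble 78 c)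
noncomputable def finTab_s_76_79 (c : Nat) : Nat := @Bool.rec (fun _ => Nat) (finTab_76) (finTab_s_77_79 c) (Nat.ble 77 c)
noncomputable def finTab_s_74_79 (c : Nat) : Nat := @Bool.rec (fun _ => Nat) (finTab_s_74_76 c) (finTab_s_76_79 c) (Nat.ble 76 c)
noncomputable def finTab_s_80_82 (c : Nat) : Nat := @Bool.rec (fun _ => Nat) (finTab_80) (finTab_81) (Nat.ble 81 c)
noncomputable def finTab_s_79_82 (c : Nat) : Nat := @Bool.rec (fun _ => Nat) (finTab_79) (finTab_s_80_82 c) (Nat.ble 80 c)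
noncomputable def finTab_s_83_85 (c : Nat) : Nat := @Bool.rec (fun _ => Nat) (finTab_83) (finTab_84) (Nat.ble 84 c)
noncomputable def finTab_s_82_85 (c : Nat) : Nat := @Bool.rec (fun _ => Nat) (finTab_82) (finTab_s_83_85 c) (Nat.ble 83 c)
noncomputable def finTab_s_79_85 (c : Nat) : Nat := @Bool.rec (fun _ => Nat) (finTab_s_79_82 c) (finTab_s_82_85 c) (Nat.ble 82 c)
noncomputable def finTab_s_74_85 (c : Nat) : Nat := @Bool.rec (fun _ => Nat) (finTab_s_74_79 c) (finTab_s_79_85 c) (Nat.ble 79 c)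
noncomputable def finTab_s_63_85 (c : Nat) : Nat := @Bool.rec (fun _ => Nat) (finTab_s_63_74 c) (finTab_s_74_85 c) (Nat.ble 74 c)
noncomputable def finTab_s_42_85 (c : Nat) : Nat := @Bool.rec (fun _ => Nat) (finTab_s_42_63 c) (finTab_s_63_85 c) (Nat.ble 63 c)
noncomputable def finTab_s_0_85 (c : Nat) : Nat := @Bool.rec (fun _ => Nat) (finTab_s_0_42 c) (finTab_s_42_85 c) (Nat.ble 42 c)
noncomputable def finTab (i : Nat) : Nat := rdw 21 2097151 (finTab_s_0_85 (Nat.shiftRight i 12)) (Nat.land i 4095)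
noncomputable def clsTab_s_0_2 (c : Nat) : Nat := @Bool.rec (fun _ => Nat) (clsTab_0) (clsTab_1) (Nat.ble 1 c)
noncomputable def clsTab_s_3_5 (c : Nat) : Nat := @Bool.rec (fun _ => Nat) (clsTab_3) (clsTab_4) (Nat.ble 4 c)
noncomputable def clsTab_s_2_5 (c : Nat) : Nat := @Bool.rec (fun _ => Nat) (clsTab_2) (clsTab_s_3_5 c) (Nat.ble 3 c)
noncomputable def clsTab_s_0_5 (c : Nat) : Nat := @Bool.rec (fun _ => Nat) (clsTab_s_0_2 c) (clsTab_s_2_5 c) (Nat.ble 2 c)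
noncomputable def clsTab_s_5_7 (c : Nat) : Nat := @Bool.rec (fun _ => Nat) (clsTab_5) (clsTab_6) (Nat.ble 6 c)
noncomputable def clsTab_s_8_10 (c : Nat) : Nat := @Bool.rec (fun _ => Nat) (clsTab_8) (clsTab_9) (Nat.ble 9 c)
noncomputable def clsTab_s_7_10 (c : Nat) : Nat := @Bool.rec (fun _ => Nat) (clsTab_7) (clsTab_s_8_10 c) (Nat.ble 8 c)
noncomputable def clsTab_s_5_10 (c : Nat) : Nat := @Bool.rec (fun _ => Nat) (clsTab_s_5_7 c) (clsTab_s_7_10 c) (Nat.ble 7 c)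
noncomputable def clsTab_s_0_10 (c : Nat) : Nat := @Bool.rec (fun _ => Nat) (clsTab_s_0_5 c) (clsTab_s_5_10 c) (Nat.ble 5 c)
noncomputable def clsTab_s_10_12 (c : Nat) : Nat := @Bool.rec (fun _ => Nat) (clsTab_10) (clsTab_11) (Nat.ble 11 c)
noncomputable def clsTab_s_13_15 (c : Nat) : Nat := @Bool.rec (fun _ => Nat) (clsTab_13) (clsTab_14) (Nat.ble 14 c)
noncomputable def clsTab_s_12_15 (c : Nat) : Nat := @Bool.rec (fun _ => Nat) (clsTab_12) (clsTab_s_13_15 c) (Nat.ble 13 c)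
noncomputable def clsTab_s_10_15 (c : Nat) : Nat := @Bool.rec (fun _ => Nat) (clsTab_s_10_12 c) (clsTab_s_12_15 c) (Nat.ble 12 c)
noncomputable def clsTab_s_16_18 (c : Nat) : Nat := @Bool.rec (fun _ => Nat) (clsTab_16) (clsTab_17) (Nat.ble 17 c)
noncomputable def clsTab_s_15_18 (c : Nat) : Nat := @Bool.rec (fun _ => Nat) (clsTab_15) (clsTab_s_16_18 c) (Nat.ble 16 c)
noncomputable def clsTab_s_19_21 (c : Nat) : Nat := @Bool.rec (fun _ => Nat) (clsTab_19) (clsTab_20) (Nat.ble 20 c)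
noncomputable def clsTab_s_18_21 (c : Nat) : Nat := @Bool.rec (fun _ => Nat) (clsTab_18) (clsTab_s_19_21 c) (Nat.ble 19 c)
noncomputable def clsTab_s_15_21 (c : Nat) : Nat := @Bool.rec (fun _ => Nat) (clsTab_s_15_18 c) (clsTab_s_18_21 c) (Nat.ble 18 c)
noncomputable def clsTab_s_10_21 (c : Nat) : Nat := @Bool.rec (fun _ => Nat) (clsTab_s_10_15 c) (clsTab_s_15_21 c) (Nat.ble 15 c)
noncomputable def clsTab_s_0_21 (c : Nat) : Nat := @Bool.rec (fun _ => Nat) (clsTab_s_0_10 c) (clsTab_s_10_21 c) (Nat.ble 10 c)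
noncomputable def clsTab_s_21_23 (c : Nat) : Nat := @Bool.rec (fun _ => Nat) (clsTab_21) (clsTab_22) (Nat.ble 22 c)
noncomputable def clsTab_s_24_26 (c : Nat) : Nat := @Bool.rec (fun _ => Nat) (clsTab_24) (clsTab_25) (Nat.ble 25 c)
noncomputable def clsTab_s_23_26 (c : Nat) : Nat := @Bool.rec (fun _ => Nat) (clsTab_23) (clsTab_s_24_26 c) (Nat.ble 24 c)
noncomputable def clsTab_s_21_26 (c : Nat) : Nat := @Bool.rec (fun _ => Nat) (clsTab_s_21_23 c) (clsTab_s_23_26 c) (Nat.ble 23 c)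
noncomputable def clsTab_s_27_29 (c : Nat) : Nat := @Bool.rec (fun _ => Nat) (clsTab_27) (clsTab_28) (Nat.ble 28 c)
noncomputable def clsTab_s_26_29 (c : Nat) : Nat := @Bool.rec (fun _ => Nat) (clsTab_26) (clsTab_s_27_29 c) (Nat.ble 27 c)
noncomputable def clsTab_s_30_32 (c : Nat) : Nat := @Bool.rec (fun _ => Nat) (clsTab_30) (clsTab_31) (Nat.ble 31 c)
noncomputable def clsTab_s_29_32 (c : Nat) : Nat := @Bool.rec (fun _ => Nat) (clsTab_29) (clsTab_s_30_32 c) (Nat.ble 30 c)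
noncomputable def clsTab_s_26_32 (c : Nat) : Nat := @Bool.rec (fun _ => Nat) (clsTab_s_26_29 c) (clsTab_s_29_32 c) (Nat.ble 29 c)
noncomputable def clsTab_s_21_32 (c : Nat) : Nat := @Bool.rec (fun _ => Nat) (clsTab_s_21_26 c) (clsTab_s_26_32 c) (Nat.ble 26 c)
noncomputable def clsTab_s_32_34 (c : Nat) : Nat := @Bool.rec (fun _ => Nat) (clsTab_32) (clsTab_33) (Nat.ble 33 c)
noncomputable def clsTab_s_35_37 (c : Nat) : Nat := @Bool.rec (fun _ => Nat) (clsTab_35) (clsTab_36) (Nat.ble 36 c)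
noncomputable def clsTab_s_34_37 (c : Nat) : Nat := @Bool.rec (fun _ => Nat) (clsTab_34) (clsTab_s_35_37 c) (Nat.ble 35 c)
noncomputable def clsTab_s_32_37 (c : Nat) : Nat := @Bool.rec (fun _ => Nat) (clsTab_s_32_34 c) (clsTab_s_34_37 c) (Nat.ble 34 c)
noncomputable def clsTab_s_38_40 (c : Nat) : Nat := @Bool.rec (fun _ => Nat) (clsTab_38) (clsTab_39) (Nat.ble 39 c)
noncomputable def clsTab_s_37_40 (c : Nat) : Nat := @Bool.rec (fun _ => Nat) (clsTab_37) (clsTab_s_38_40 c) (Nat.ble 38 c)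
noncomputable def clsTab_s_41_43 (c : Nat) : Nat := @Bool.rec (fun _ => Nat) (clsTab_41) (clsTab_42) (Nat.ble 42 c)
noncomputable def clsTab_s_40_43 (c : Nat) : Nat := @Bool.rec (fun _ => Nat) (clsTab_40) (clsTab_s_41_43 c) (Nat.ble 41 c)
noncomputable def clsTab_s_37_43 (c : Nat) : Nat := @Bool.rec (fun _ => Nat) (clsTab_s_37_40 c) (clsTab_s_40_43 c) (Nat.ble 40 c)
noncomputable def clsTab_s_32_43 (c : Nat) : Nat := @Bool.rec (fun _ => Nat) (clsTab_s_32_37 c) (clsTab_s_37_43 c) (Nat.ble 37 c)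
noncomputable def clsTab_s_21_43 (c : Nat) : Nat := @Bool.rec (fun _ => Nat) (clsTab_s_21_32 c) (clsTab_s_32_43 c) (Nat.ble 32 c)
noncomputable def clsTab_s_0_43 (c : Nat) : Nat := @Bool.rec (fun _ => Nat) (clsTab_s_0_21 c) (clsTab_s_21_43 c) (Nat.ble 21 c)
noncomputable def clsTab_s_43_45 (c : Nat) : Nat := @Bool.rec (fun _ => Nat) (clsTab_43) (clsTab_44) (Nat.ble 44 c)
noncomputable def clsTab_s_46_48 (c : Nat) : Nat := @Bool.rec (fun _ => Nat) (clsTab_46) (clsTab_47) (Nat.ble 47 c)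
noncomputable def clsTab_s_45_48 (c : Nat) : Nat := @Bool.rec (fun _ => Nat) (clsTab_45) (clsTab_s_46_48 c) (Nat.ble 46 c)
noncomputable def clsTab_s_43_48 (c : Nat) : Nat := @Bool.rec (fun _ => Nat) (clsTab_s_43_45 c) (clsTab_s_45_48 c) (Nat.ble 45 c)
noncomputable def clsTab_s_48_50 (c : Nat) : Nat := @Bool.rec (fun _ => Nat) (clsTab_48) (clsTab_49) (Nat.ble 49 c)
noncomputable def clsTab_s_51_53 (c : Nat) : Nat := @Bool.rec (fun _ => Nat) (clsTab_51) (clsTab_52) (Nat.ble 52 c)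
noncomputable def clsTab_s_50_53 (c : Nat) : Nat := @Bool.rec (fun _ => Nat) (clsTab_50) (clsTab_s_51_53 c) (Nat.ble 51 c)
noncomputable def clsTab_s_48_53 (c : Nat) : Nat := @Bool.rec (fun _ => Nat) (clsTab_s_48_50 c) (clsTab_s_50_53 c) (Nat.ble 50 c)
noncomputable def clsTab_s_43_53 (c : Nat) : Nat := @Bool.rec (fun _ => Nat) (clsTab_s_43_48 c) (clsTab_s_48_53 c) (Nat.ble 48 c)
noncomputable def clsTab_s_53_55 (c : Nat) : Nat := @Bool.rec (fun _ => Nat) (clsTab_53) (clsTab_54) (Nat.ble 54 c)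
noncomputable def clsTab_s_56_58 (c : Nat) : Nat := @Bool.rec (fun _ => Nat) (clsTab_56) (clsTab_57) (Nat.ble 57 c)
noncomputable def clsTab_s_55_58 (c : Nat) : Nat := @Bool.rec (fun _ => Nat) (clsTab_55) (clsTab_s_56_58 c) (Nat.ble 56 c)
noncomputable def clsTab_s_53_58 (c : Nat) : Nat := @Bool.rec (fun _ => Nat) (clsTab_s_53_55 c) (clsTab_s_55_58 c) (Nat.ble 55 c)
noncomputable def clsTab_s_59_61 (c : Nat) : Nat := @Bool.rec (fun _ => Nat) (clsTab_59) (clsTab_60) (Nat.ble 60 c)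
noncomputable def clsTab_s_58_61 (c : Nat) : Nat := @Bool.rec (fun _ => Nat) (clsTab_58) (clsTab_s_59_61 c) (Nat.ble 59 c)
noncomputable def clsTab_s_62_64 (c : Nat) : Nat := @Bool.rec (fun _ => Nat) (clsTab_62) (clsTab_63) (Nat.ble 63 c)
noncomputable def clsTab_s_61_64 (c : Nat) : Nat := @Bool.rec (fun _ => Nat) (clsTab_61) (clsTab_s_62_64 c) (Nat.ble 62 c)
noncomputable def clsTab_s_58_64 (c : Nat) : Nat := @Bool.rec (fun _ => Nat) (clsTab_s_58_61 c) (clsTab_s_61_64 c) (Nat.ble 61 c)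
noncomputable def clsTab_s_53_64 (c : Nat) : Nat := @Bool.rec (fun _ => Nat) (clsTab_s_53_58 c) (clsTab_s_58_64 c) (Nat.ble 58 c)
noncomputable def clsTab_s_43_64 (c : Nat) : Nat := @Bool.rec (fun _ => Nat) (clsTab_s_43_53 c) (clsTab_s_53_64 c) (Nat.ble 53 c)
noncomputable def clsTab_s_64_66 (c : Nat) : Nat := @Bool.rec (fun _ => Nat) (clsTab_64) (clsTab_65) (Nat.ble 65 c)
noncomputable def clsTab_s_67_69 (c : Nat) : Nat := @Bool.rec (fun _ => Nat) (clsTab_67) (clsTab_68) (Nat.ble 68 c)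
noncomputable def clsTab_s_66_69 (c : Nat) : Nat := @Bool.rec (fun _ => Nat) (clsTab_66) (clsTab_s_67_69 c) (Nat.ble 67 c)
noncomputable def clsTab_s_64_69 (c : Nat) : Nat := @Bool.rec (fun _ => Nat) (clsTab_s_64_66 c) (clsTab_s_66_69 c) (Nat.ble 66 c)
noncomputable def clsTab_s_70_72 (c : Nat) : Nat := @Bool.rec (fun _ => Nat) (clsTab_70) (clsTab_71) (Nat.ble 71 c)
noncomputable def clsTab_s_69_72 (c : Nat) : Nat := @Bool.rec (fun _ => Nat) (clsTab_69) (clsTab_s_70_72 c) (Nat.ble 70 c)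
noncomputable def clsTab_s_73_75 (c : Nat) : Nat := @Bool.rec (fun _ => Nat) (clsTab_73) (clsTab_74) (Nat.ble 74 c)
noncomputable def clsTab_s_72_75 (c : Nat) : Nat := @Bool.rec (fun _ => Nat) (clsTab_72) (clsTab_s_73_75 c) (Nat.ble 73 c)
noncomputable def clsTab_s_69_75 (c : Nat) : Nat := @Bool.rec (fun _ => Nat) (clsTab_s_69_72 c) (clsTab_s_72_75 c) (Nat.ble 72 c)
noncomputable def clsTab_s_64_75 (c : Nat) : Nat := @Bool.rec (fun _ => Nat) (clsTab_s_64_69 c) (clsTab_s_69_75 c) (Nat.ble 69 c)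
noncomputable def clsTab_s_75_77 (c : Nat) : Nat := @Bool.rec (fun _ => Nat) (clsTab_75) (clsTab_76) (Nat.ble 76 c)
noncomputable def clsTab_s_78_80 (c : Nat) : Nat := @Bool.rec (fun _ => Nat) (clsTab_78) (clsTab_79) (Nat.ble 79 c)
noncomputable def clsTab_s_77_80 (c : Nat) : Nat := @Bool.rec (fun _ => Nat) (clsTab_77) (clsTab_s_78_80 c) (Nat.ble 78 c)
noncomputable def clsTab_s_75_80 (c : Nat) : Nat := @Bool.rec (fun _ => Nat) (clsTab_s_75_77 c) (clsTab_s_77_80 c) (Nat.ble 77 c)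
noncomputable def clsTab_s_81_83 (c : Nat) : Nat := @Bool.rec (fun _ => Nat) (clsTab_81) (clsTab_82) (Nat.ble 82 c)
noncomputable def clsTab_s_80_83 (c : Nat) : Nat := @Bool.rec (fun _ => Nat) (clsTab_80) (clsTab_s_81_83 c) (Nat.ble 81 c)
noncomputable def clsTab_s_84_86 (c : Nat) : Nat := @Bool.rec (fun _ => Nat) (clsTab_84) (clsTab_85) (Nat.ble 85 c)
noncomputable def clsTab_s_83_86 (c : Nat) : Nat := @Bool.rec (fun _ => Nat) (clsTab_83) (clsTab_s_84_86 c) (Nat.ble 84 c)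
noncomputable def clsTab_s_80_86 (c : Nat) : Nat := @Bool.rec (fun _ => Nat) (clsTab_s_80_83 c) (clsTab_s_83_86 c) (Nat.ble 83 c)
noncomputable def clsTab_s_75_86 (c : Nat) : Nat := @Bool.rec (fun _ => Nat) (clsTab_s_75_80 c) (clsTab_s_80_86 c) (Nat.ble 80 c)
noncomputable def clsTab_s_64_86 (c : Nat) : Nat := @Bool.rec (fun _ => Nat) (clsTab_s_64_75 c) (clsTab_s_75_86 c) (Nat.ble 75 c)
noncomputable def clsTab_s_43_86 (c : Nat) : Nat := @Bool.rec (fun _ => Nat) (clsTab_s_43_64 c) (clsTab_s_64_86 c) (Nat.ble 64 c)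
noncomputable def clsTab_s_0_86 (c : Nat) : Nat := @Bool.rec (fun _ => Nat) (clsTab_s_0_43 c) (clsTab_s_43_86 c) (Nat.ble 43 c)
noncomputable def clsTab (i : Nat) : Nat := rdw 16 65535 (clsTab_s_0_86 (Nat.shiftRight i 12)) (Nat.land i 4095)
noncomputable def srcF (t : Nat) : Nat := Nat.land (Atab t) 524287
noncomputable def tgtF (t : Nat) : Nat := Nat.land (Nat.shiftRight (Atab t) 19) 524287
noncomputable def ltF (t : Nat) : Nat := Nat.shiftRight (Atab t) 38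
noncomputable def rhoF (t : Nat) : Nat := Nat.land (Btab (Nat.sub t 349075)) 63
noncomputable def rotF (t : Nat) : Nat := Nat.land (Nat.shiftRight (Btab (Nat.sub t 349075)) 6) 31
noncomputable def lenF (t : Nat) : Nat := Nat.land (Nat.shiftRight (Btab (Nat.sub t 349075)) 11) 63
noncomputable def offF (t : Nat) : Nat := Nat.shiftRight (Btab (Nat.sub t 349075)) 17
noncomputable def pfF (j : Nat) : Nat := Nat.shiftRight (Ptab j) 1
noncomputable def pdF (j : Nat) : Nat := Nat.land (Ptab j) 1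
noncomputable def tblF (i x : Nat) : Nat := @Bool.rec (fun _ => Nat) (@Bool.rec (fun _ => Nat) (col0 i) (@Bool.rec (fun _ => Nat) (col1 i) (col2 i) (Nat.ble 2 x)) (Nat.ble 1 x)) (@Bool.rec (fun _ => Nat) (col3 i) (@Bool.rec (fun _ => Nat) (col4 i) (col5 i) (Nat.ble 5 x)) (Nat.ble 4 x)) (Nat.ble 3 x)
noncomputable def finE (i x : Nat) : Nat := finTab (Nat.add (Nat.mul i 6) x)
noncomputable def finFF (i x : Nat) : Nat := Nat.shiftRight (finE i x) 1
noncomputable def finDF (i x : Nat) : Nat := Nat.land (finE i x) 1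

def invLoc : ℕ → ℕ
  | 0 => 1
  | 1 => 0
  | 2 => 3
  | 3 => 2
  | 4 => 5
  | 5 => 4
  | l => l
def emb : List Nat := [0, 1, 2, 3, 4, 5]
noncomputable def D : Log :=
  { k := 6, inv := invE 6 invLoc, nR := 32, rBase := rBtab, rLen := rLtab, RR := RRtab,
    M := 349073, nB := 2, F := 1005674, src := srcF, lt := ltF, tgt := tgtF, rho := rhoF, rot := rotF,
    off := offF, len := lenF, pf := pfF, pd := pdF }

noncomputable def T : Tab :=
  { N := 57600, nameOf := nameTab, tbl := tblF, finF := finFF, finD := finDF, cls := clsTab }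

def subs : List (List Nat) := [
[0] ]

def realLoc : List (List Nat) := [
  [0, 0, 0, 0, 0, 0, 0, 0, 0, 0, 0, 0, 0, 0, 0, 0, 0],
  [2, 2],
  [0, 0, 0, 2, 1, 2, 0, 2, 0, 0, 0, 2, 1, 2, 0, 2],
  [0, 0, 0, 0, 0, 2, 0, 0, 0, 0, 0, 2, 0, 0, 0, 0, 0, 2],
  [4, 4],
  [2, 4, 2, 4],
  [0, 4, 0, 4, 0, 4, 0, 4, 0, 4],
  [0, 2, 1, 2, 4, 1, 2, 0, 4, 0, 4, 2, 0, 4, 2, 0, 4],
  [0, 0, 2, 0, 4, 0, 4, 1, 1, 2, 1, 4, 0, 4, 0, 2, 0, 2] ]

end Cfsg.Agent.Lib.Helper4.TCD.S44pU1
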