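import Cfsg.Agent.Lib.Helper4.TCD_S44pU1_Acc

namespace Cfsg.Agent.Lib.Helper4.TCD.S44pU1

open Cfsg.Agent.Lib.Helper4.TC

set_option maxRecDepth 100000
set_option Elab.async false

theorem c_zero : D.zeroOK = true := by decide +kernel
theorem c_base : allBelow D.baseOK 2 = true := by decide +kernel
theorem c_let : allBelow D.letOK 6 = true := by decide +kernel
theorem c_cls0 : T.cls 0 = 0 := by decide +kernel
theorem c_name0 : T.nameOf 0 = 0 := by decide +kernel
theorem c_tab : D.relTabOK 0 (baseRels 6 invLoc realLoc subs ++ (baseRels 6 invLoc realLoc subs).map (invWord D.inv)) = true := by decide +kernel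
theorem c_subs : subs.all (fun u => u.all (fun x => Nat.ble (Nat.succ x) 6)) = true := by decide +kernel
theorem c_names_0 : allRange D.nameOK 1 60000 = true := by decide +kernel
theorem c_names_1 : allRange D.nameOK 60001 60000 = true := by decide +kernel
theorem c_names_2 : allRange D.nameOK 120001 60000 = true := by decide +kernel
theorem c_names_3 : allRange D.nameOK 180001 60000 = true := by decide +kernel
theorem c_names_4 : allRange D.nameOK 240001 60000 = true := by decide +kernel
theorem c_names_5 : allRange D.nameOK 300001 49072 = true := by decide +kernel
theorem c_cls_0 : allRange (T.clsOK D) 1 15000 = true := by decide +kernel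
theorem c_cls_1 : allRange (T.clsOK D) 15001 15000 = true := by decide +kernel
theorem c_cls_2 : allRange (T.clsOK D) 30001 15000 = true := by decide +kernel
theorem c_cls_3 : allRange (T.clsOK D) 45001 15000 = true := by decide +kernel
theorem c_cls_4 : allRange (T.clsOK D) 60001 15000 = true := by decide +kernel
theorem c_cls_5 : allRange (T.clsOK D) 75001 15000 = true := by decide +kernel
theorem c_cls_6 : allRange (T.clsOK D) 90001 15000 = true := by decide +kernel
theorem c_cls_7 : allRange (T.clsOK D) 105001 15000 = true := by decide +kernel
theorem c_cls_8 : allRange (T.clsOK D) 120001 15000 = true := by decide +kernel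
theorem c_cls_9 : allRange (T.clsOK D) 135001 15000 = true := by decide +kernel
theorem c_cls_10 : allRange (T.clsOK D) 150001 15000 = true := by decide +kernel
theorem c_cls_11 : allRange (T.clsOK D) 165001 15000 = true := by decide +kernel
theorem c_cls_12 : allRange (T.clsOK D) 180001 15000 = true := by decide +kernel
theorem c_cls_13 : allRange (T.clsOK D) 195001 15000 = true := by decide +kernel
theorem c_cls_14 : allRange (T.clsOK D) 210001 15000 = true := by decide +kernel
theorem c_cls_15 : allRange (T.clsOK D) 225001 15000 = true := by decide +kernel
theorem c_cls_16 : allRange (T.clsOK D) 240001 15000 = true := by decide +kernel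
theorem c_cls_17 : allRange (T.clsOK D) 255001 15000 = true := by decide +kernel
theorem c_cls_18 : allRange (T.clsOK D) 270001 15000 = true := by decide +kernel
theorem c_cls_19 : allRange (T.clsOK D) 285001 15000 = true := by decide +kernel
theorem c_cls_20 : allRange (T.clsOK D) 300001 15000 = true := by decide +kernel
theorem c_cls_21 : allRange (T.clsOK D) 315001 15000 = true := by decide +kernel
theorem c_cls_22 : allRange (T.clsOK D) 330001 15000 = true := by decide +kernel
theorem c_cls_23 : allRange (T.clsOK D) 345001 4072 = true := by decide +kernel
theorem c_rep_0 : allRange (T.repOK D) 0 30000 = true := by decide +kernel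
theorem c_rep_1 : allRange (T.repOK D) 30000 27600 = true := by decide +kernel
theorem c_rel_0 : allRange D.relOK 349075 5305 = true := by decide +kernel
theorem c_rel_1 : allRange D.relOK 354380 5545 = true := by decide +kernel
theorem c_rel_2 : allRange D.relOK 359925 5113 = true := by decide +kernel
theorem c_rel_3 : allRange D.relOK 365038 5489 = true := by decide +kernel
theorem c_rel_4 : allRange D.relOK 370527 5446 = true := by decide +kernel
theorem c_rel_5 : allRange D.relOK 375973 5579 = true := by decide +kernel
theorem c_rel_6 : allRange D.relOK 381552 5022 = true := by decide +kernel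
theorem c_rel_7 : allRange D.relOK 386574 5205 = true := by decide +kernel
theorem c_rel_8 : allRange D.relOK 391779 4483 = true := by decide +kernel
theorem c_rel_9 : allRange D.relOK 396262 5227 = true := by decide +kernel
theorem c_rel_10 : allRange D.relOK 401489 5110 = true := by decide +kernel
theorem c_rel_11 : allRange D.relOK 406599 4665 = true := by decide +kernel
theorem c_rel_12 : allRange D.relOK 411264 5293 = true := by decide +kernel
theorem c_rel_13 : allRange D.relOK 416557 4183 = true := by decide +kernel
theorem c_rel_14 : allRange D.relOK 420740 4553 = true := by decide +kernel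
theorem c_rel_15 : allRange D.relOK 425293 3735 = true := by decide +kernel
theorem c_rel_16 : allRange D.relOK 429028 3319 = true := by decide +kernel
theorem c_rel_17 : allRange D.relOK 432347 4211 = true := by decide +kernel
theorem c_rel_18 : allRange D.relOK 436558 4171 = true := by decide +kernel
theorem c_rel_19 : allRange D.relOK 440729 4612 = true := by decide +kernel
theorem c_rel_20 : allRange D.relOK 445341 4926 = true := by decide +kernel
theorem c_rel_21 : allRange D.relOK 450267 4336 = true := by decide +kernel
theorem c_rel_22 : allRange D.relOK 454603 4589 = true := by decide +kernel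
theorem c_rel_23 : allRange D.relOK 459192 4130 = true := by decide +kernel
theorem c_rel_24 : allRange D.relOK 463322 4477 = true := by decide +kernel
theorem c_rel_25 : allRange D.relOK 467799 4444 = true := by decide +kernel
theorem c_rel_26 : allRange D.relOK 472243 3901 = true := by decide +kernel
theorem c_rel_27 : allRange D.relOK 476144 3957 = true := by decide +kernel
theorem c_rel_28 : allRange D.relOK 480101 2825 = true := by decide +kernel
theorem c_rel_29 : allRange D.relOK 482926 3252 = true := by decide +kernel
theorem c_rel_30 : allRange D.relOK 486178 2543 = true := by decide +kernel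
theorem c_rel_31 : allRange D.relOK 488721 3580 = true := by decide +kernel
theorem c_rel_32 : allRange D.relOK 492301 3839 = true := by decide +kernel
theorem c_rel_33 : allRange D.relOK 496140 3245 = true := by decide +kernel
theorem c_rel_34 : allRange D.relOK 499385 3062 = true := by decide +kernel
theorem c_rel_35 : allRange D.relOK 502447 3504 = true := by decide +kernel
theorem c_rel_36 : allRange D.relOK 505951 3361 = true := by decide +kernel

end Cfsg.Agent.Lib.Helper4.TCD.S44pU1
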