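namespace Cfsg.Agent.Lib.Helper4.TCD.S44pX17

noncomputable def Atab_0 : Nat := nat_lit 0x50200c0401000183cee0b29034160456228c2401180
noncomputable def Btab_0 : Nat := nat_lit 0x7e100f7a100e76100d72100c6e100b6a100a4c78174a0800090814060800040845020842000800
noncomputable def Ptab_0 : Nat := nat_lit 0x1818765410554c08334b5d10cd1cb5d10cd1cb5d12894c94c94c94c94cf0cd0cd0cd0cd0cd1494c94c94c94c94cf206102
noncomputable def RRtab_0 : Nat := nat_lit 0x965b2c4d369a041208259a680c534b2c9669a0314d2cb2c3a19a6b359a5874334d66b34d34d34d34d34d35d75d76db4924b2492c924b2492c924b2492c92c32c92c32c92c32c92c32db6c924924924924924924924924926596cb134da68104821042085130408041082144c1020205028204622840a050408c4508208208208208208a28a2924400010000400010000400010000411400411400411400411400492000000000000000000000000000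
noncomputable def rBtab_0 : Nat := nat_lit 0xe873391c4e06f33176b156aad3289439d8ea73389bcda6b3495c8c3c1c0d848140900400
noncomputable def rLtab_0 : Nat := nat_lit 0x1084210a515105280a211084210a515105280a21
noncomputable def nameTab_0 : Nat := nat_lit 0x0
noncomputable def col0_0 : Nat := nat_lit 0x0
noncomputable def col1_0 : Nat := nat_lit 0x0
noncomputable def col2_0 : Nat := nat_lit 0x0
noncomputable def col3_0 : Nat := nat_lit 0x0
noncomputable def col4_0 : Nat := nat_lit 0x0
noncomputable def col5_0 : Nat := nat_lit 0x0
noncomputable def finTab_0 : Nat := nat_lit 0x92281e71a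
noncomputable def clsTab_0 : Nat := nat_lit 0x0

end Cfsg.Agent.Lib.Helper4.TCD.S44pX17
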