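import Cfsg.Agent.Lib.Helper4.TC7
import Cfsg.Agent.Lib.Helper4.TCP_SC2A8p2
import Cfsg.Agent.Lib.Helper4.TCD_SC2A8p2A_D0
import Cfsg.Agent.Lib.Helper4.TCD_SC2A8p2A_D1
import Cfsg.Agent.Lib.Helper4.TCD_SC2A8p2A_D2

namespace Cfsg.Agent.Lib.Helper4.TCD.SC2A8p2A

open Cfsg.Agent.Lib.Helper4.TC

set_option maxRecDepth 100000

noncomputable def Atab_s_1_3 (c : Nat) : Nat := @Bool.rec (fun _ => Nat) (Atab_1) (Atab_2) (Nat.ble 2 c)
noncomputable def Atab_s_0_3 (c : Nat) : Nat := @Bool.rec (fun _ => Nat) (Atab_0) (Atab_s_1_3 c) (Nat.ble 1 c)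
noncomputable def Atab_s_4_6 (c : Nat) : Nat := @Bool.rec (fun _ => Nat) (Atab_4) (Atab_5) (Nat.ble 5 c)
noncomputable def Atab_s_3_6 (c : Nat) : Nat := @Bool.rec (fun _ => Nat) (Atab_3) (Atab_s_4_6 c) (Nat.ble 4 c)
noncomputable def Atab_s_0_6 (c : Nat) : Nat := @Bool.rec (fun _ => Nat) (Atab_s_0_3 c) (Atab_s_3_6 c) (Nat.ble 3 c)
noncomputable def Atab_s_7_9 (c : Nat) : Nat := @Bool.rec (fun _ => Nat) (Atab_7) (Atab_8) (Nat.ble 8 c)
noncomputable def Atab_s_6_9 (c : Nat) : Nat := @Bool.rec (fun _ => Nat) (Atab_6) (Atab_s_7_9 c) (Nat.ble 7 c)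
noncomputable def Atab_s_10_12 (c : Nat) : Nat := @Bool.rec (fun _ => Nat) (Atab_10) (Atab_11) (Nat.ble 11 c)
noncomputable def Atab_s_9_12 (c : Nat) : Nat := @Bool.rec (fun _ => Nat) (Atab_9) (Atab_s_10_12 c) (Nat.ble 10 c)
noncomputable def Atab_s_6_12 (c : Nat) : Nat := @Bool.rec (fun _ => Nat) (Atab_s_6_9 c) (Atab_s_9_12 c) (Nat.ble 9 c)
noncomputable def Atab_s_0_12 (c : Nat) : Nat := @Bool.rec (fun _ => Nat) (Atab_s_0_6 c) (Atab_s_6_12 c) (Nat.ble 6 c)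
noncomputable def Atab_s_13_15 (c : Nat) : Nat := @Bool.rec (fun _ => Nat) (Atab_13) (Atab_14) (Nat.ble 14 c)
noncomputable def Atab_s_12_15 (c : Nat) : Nat := @Bool.rec (fun _ => Nat) (Atab_12) (Atab_s_13_15 c) (Nat.ble 13 c)
noncomputable def Atab_s_16_18 (c : Nat) : Nat := @Bool.rec (fun _ => Nat) (Atab_16) (Atab_17) (Nat.ble 17 c)
noncomputable def Atab_s_15_18 (c : Nat) : Nat := @Bool.rec (fun _ => Nat) (Atab_15) (Atab_s_16_18 c) (Nat.ble 16 c)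
noncomputable def Atab_s_12_18 (c : Nat) : Nat := @Bool.rec (fun _ => Nat) (Atab_s_12_15 c) (Atab_s_15_18 c) (Nat.ble 15 c)
noncomputable def Atab_s_19_21 (c : Nat) : Nat := @Bool.rec (fun _ => Nat) (Atab_19) (Atab_20) (Nat.ble 20 c)
noncomputable def Atab_s_18_21 (c : Nat) : Nat := @Bool.rec (fun _ => Nat) (Atab_18) (Atab_s_19_21 c) (Nat.ble 19 c)
noncomputable def Atab_s_22_24 (c : Nat) : Nat := @Bool.rec (fun _ => Nat) (Atab_22) (Atab_23) (Nat.ble 23 c)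
noncomputable def Atab_s_21_24 (c : Nat) : Nat := @Bool.rec (fun _ => Nat) (Atab_21) (Atab_s_22_24 c) (Nat.ble 22 c)
noncomputable def Atab_s_18_24 (c : Nat) : Nat := @Bool.rec (fun _ => Nat) (Atab_s_18_21 c) (Atab_s_21_24 c) (Nat.ble 21 c)
noncomputable def Atab_s_12_24 (c : Nat) : Nat := @Bool.rec (fun _ => Nat) (Atab_s_12_18 c) (Atab_s_18_24 c) (Nat.ble 18 c)
noncomputable def Atab_s_0_24 (c : Nat) : Nat := @Bool.rec (fun _ => Nat) (Atab_s_0_12 c) (Atab_s_12_24 c) (Nat.ble 12 c)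
noncomputable def Atab_s_25_27 (c : Nat) : Nat := @Bool.rec (fun _ => Nat) (Atab_25) (Atab_26) (Nat.ble 26 c)
noncomputable def Atab_s_24_27 (c : Nat) : Nat := @Bool.rec (fun _ => Nat) (Atab_24) (Atab_s_25_27 c) (Nat.ble 25 c)
noncomputable def Atab_s_28_30 (c : Nat) : Nat := @Bool.rec (fun _ => Nat) (Atab_28) (Atab_29) (Nat.ble 29 c)
noncomputable def Atab_s_27_30 (c : Nat) : Nat := @Bool.rec (fun _ => Nat) (Atab_27) (Atab_s_28_30 c) (Nat.ble 28 c)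
noncomputable def Atab_s_24_30 (c : Nat) : Nat := @Bool.rec (fun _ => Nat) (Atab_s_24_27 c) (Atab_s_27_30 c) (Nat.ble 27 c)
noncomputable def Atab_s_31_33 (c : Nat) : Nat := @Bool.rec (fun _ => Nat) (Atab_31) (Atab_32) (Nat.ble 32 c)
noncomputable def Atab_s_30_33 (c : Nat) : Nat := @Bool.rec (fun _ => Nat) (Atab_30) (Atab_s_31_33 c) (Nat.ble 31 c)
noncomputable def Atab_s_34_36 (c : Nat) : Nat := @Bool.rec (fun _ => Nat) (Atab_34) (Atab_35) (Nat.ble 35 c)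
noncomputable def Atab_s_33_36 (c : Nat) : Nat := @Bool.rec (fun _ => Nat) (Atab_33) (Atab_s_34_36 c) (Nat.ble 34 c)
noncomputable def Atab_s_30_36 (c : Nat) : Nat := @Bool.rec (fun _ => Nat) (Atab_s_30_33 c) (Atab_s_33_36 c) (Nat.ble 33 c)
noncomputable def Atab_s_24_36 (c : Nat) : Nat := @Bool.rec (fun _ => Nat) (Atab_s_24_30 c) (Atab_s_30_36 c) (Nat.ble 30 c)
noncomputable def Atab_s_37_39 (c : Nat) : Nat := @Bool.rec (fun _ => Nat) (Atab_37) (Atab_38) (Nat.ble 38 c)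
noncomputable def Atab_s_36_39 (c : Nat) : Nat := @Bool.rec (fun _ => Nat) (Atab_36) (Atab_s_37_39 c) (Nat.ble 37 c)
noncomputable def Atab_s_40_42 (c : Nat) : Nat := @Bool.rec (fun _ => Nat) (Atab_40) (Atab_41) (Nat.ble 41 c)
noncomputable def Atab_s_39_42 (c : Nat) : Nat := @Bool.rec (fun _ => Nat) (Atab_39) (Atab_s_40_42 c) (Nat.ble 40 c)
noncomputable def Atab_s_36_42 (c : Nat) : Nat := @Bool.rec (fun _ => Nat) (Atab_s_36_39 c) (Atab_s_39_42 c) (Nat.ble 39 c)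
noncomputable def Atab_s_43_45 (c : Nat) : Nat := @Bool.rec (fun _ => Nat) (Atab_43) (Atab_44) (Nat.ble 44 c)
noncomputable def Atab_s_42_45 (c : Nat) : Nat := @Bool.rec (fun _ => Nat) (Atab_42) (Atab_s_43_45 c) (Nat.ble 43 c)
noncomputable def Atab_s_45_47 (c : Nat) : Nat := @Bool.rec (fun _ => Nat) (Atab_45) (Atab_46) (Nat.ble 46 c)
noncomputable def Atab_s_47_49 (c : Nat) : Nat := @Bool.rec (fun _ => Nat) (Atab_47) (Atab_48) (Nat.ble 48 c)
noncomputable def Atab_s_45_49 (c : Nat) : Nat := @Bool.rec (fun _ => Nat) (Atab_s_45_47 c) (Atab_s_47_49 c) (Nat.ble 47 c)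
noncomputable def Atab_s_42_49 (c : Nat) : Nat := @Bool.rec (fun _ => Nat) (Atab_s_42_45 c) (Atab_s_45_49 c) (Nat.ble 45 c)
noncomputable def Atab_s_36_49 (c : Nat) : Nat := @Bool.rec (fun _ => Nat) (Atab_s_36_42 c) (Atab_s_42_49 c) (Nat.ble 42 c)
noncomputable def Atab_s_24_49 (c : Nat) : Nat := @Bool.rec (fun _ => Nat) (Atab_s_24_36 c) (Atab_s_36_49 c) (Nat.ble 36 c)
noncomputable def Atab_s_0_49 (c : Nat) : Nat := @Bool.rec (fun _ => Nat) (Atab_s_0_24 c) (Atab_s_24_49 c) (Nat.ble 24 c)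
noncomputable def Atab (i : Nat) : Nat := rdw 34 17179869183 (Atab_s_0_49 (Nat.shiftRight i 11)) (Nat.land i 2047)
noncomputable def Btab_s_0_2 (c : Nat) : Nat := @Bool.rec (fun _ => Nat) (Btab_0) (Btab_1) (Nat.ble 1 c)
noncomputable def Btab_s_2_4 (c : Nat) : Nat := @Bool.rec (fun _ => Nat) (Btab_2) (Btab_3) (Nat.ble 3 c)
noncomputable def Btab_s_0_4 (c : Nat) : Nat := @Bool.rec (fun _ => Nat) (Btab_s_0_2 c) (Btab_s_2_4 c) (Nat.ble 2 c)
noncomputable def Btab_s_4_6 (c : Nat) : Nat := @Bool.rec (fun _ => Nat) (Btab_4) (Btab_5) (Nat.ble 5 c)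
noncomputable def Btab_s_6_8 (c : Nat) : Nat := @Bool.rec (fun _ => Nat) (Btab_6) (Btab_7) (Nat.ble 7 c)
noncomputable def Btab_s_4_8 (c : Nat) : Nat := @Bool.rec (fun _ => Nat) (Btab_s_4_6 c) (Btab_s_6_8 c) (Nat.ble 6 c)
noncomputable def Btab_s_0_8 (c : Nat) : Nat := @Bool.rec (fun _ => Nat) (Btab_s_0_4 c) (Btab_s_4_8 c) (Nat.ble 4 c)
noncomputable def Btab_s_8_10 (c : Nat) : Nat := @Bool.rec (fun _ => Nat) (Btab_8) (Btab_9) (Nat.ble 9 c)
noncomputable def Btab_s_10_12 (c : Nat) : Nat := @Bool.rec (fun _ => Nat) (Btab_10) (Btab_11) (Nat.ble 11 c)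
noncomputable def Btab_s_8_12 (c : Nat) : Nat := @Bool.rec (fun _ => Nat) (Btab_s_8_10 c) (Btab_s_10_12 c) (Nat.ble 10 c)
noncomputable def Btab_s_12_14 (c : Nat) : Nat := @Bool.rec (fun _ => Nat) (Btab_12) (Btab_13) (Nat.ble 13 c)
noncomputable def Btab_s_15_17 (c : Nat) : Nat := @Bool.rec (fun _ => Nat) (Btab_15) (Btab_16) (Nat.ble 16 c)
noncomputable def Btab_s_14_17 (c : Nat) : Nat := @Bool.rec (fun _ => Nat) (Btab_14) (Btab_s_15_17 c) (Nat.ble 15 c)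
noncomputable def Btab_s_12_17 (c : Nat) : Nat := @Bool.rec (fun _ => Nat) (Btab_s_12_14 c) (Btab_s_14_17 c) (Nat.ble 14 c)
noncomputable def Btab_s_8_17 (c : Nat) : Nat := @Bool.rec (fun _ => Nat) (Btab_s_8_12 c) (Btab_s_12_17 c) (Nat.ble 12 c)
noncomputable def Btab_s_0_17 (c : Nat) : Nat := @Bool.rec (fun _ => Nat) (Btab_s_0_8 c) (Btab_s_8_17 c) (Nat.ble 8 c)
noncomputable def Btab_s_17_19 (c : Nat) : Nat := @Bool.rec (fun _ => Nat) (Btab_17) (Btab_18) (Nat.ble 18 c)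
noncomputable def Btab_s_19_21 (c : Nat) : Nat := @Bool.rec (fun _ => Nat) (Btab_19) (Btab_20) (Nat.ble 20 c)
noncomputable def Btab_s_17_21 (c : Nat) : Nat := @Bool.rec (fun _ => Nat) (Btab_s_17_19 c) (Btab_s_19_21 c) (Nat.ble 19 c)
noncomputable def Btab_s_21_23 (c : Nat) : Nat := @Bool.rec (fun _ => Nat) (Btab_21) (Btab_22) (Nat.ble 22 c)
noncomputable def Btab_s_23_25 (c : Nat) : Nat := @Bool.rec (fun _ => Nat) (Btab_23) (Btab_24) (Nat.ble 24 c)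
noncomputable def Btab_s_21_25 (c : Nat) : Nat := @Bool.rec (fun _ => Nat) (Btab_s_21_23 c) (Btab_s_23_25 c) (Nat.ble 23 c)
noncomputable def Btab_s_17_25 (c : Nat) : Nat := @Bool.rec (fun _ => Nat) (Btab_s_17_21 c) (Btab_s_21_25 c) (Nat.ble 21 c)
noncomputable def Btab_s_25_27 (c : Nat) : Nat := @Bool.rec (fun _ => Nat) (Btab_25) (Btab_26) (Nat.ble 26 c)
noncomputable def Btab_s_27_29 (c : Nat) : Nat := @Bool.rec (fun _ => Nat) (Btab_27) (Btab_28) (Nat.ble 28 c)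
noncomputable def Btab_s_25_29 (c : Nat) : Nat := @Bool.rec (fun _ => Nat) (Btab_s_25_27 c) (Btab_s_27_29 c) (Nat.ble 27 c)
noncomputable def Btab_s_29_31 (c : Nat) : Nat := @Bool.rec (fun _ => Nat) (Btab_29) (Btab_30) (Nat.ble 30 c)
noncomputable def Btab_s_32_34 (c : Nat) : Nat := @Bool.rec (fun _ => Nat) (Btab_32) (Btab_33) (Nat.ble 33 c)
noncomputable def Btab_s_31_34 (c : Nat) : Nat := @Bool.rec (fun _ => Nat) (Btab_31) (Btab_s_32_34 c) (Nat.ble 32 c)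
noncomputable def Btab_s_29_34 (c : Nat) : Nat := @Bool.rec (fun _ => Nat) (Btab_s_29_31 c) (Btab_s_31_34 c) (Nat.ble 31 c)
noncomputable def Btab_s_25_34 (c : Nat) : Nat := @Bool.rec (fun _ => Nat) (Btab_s_25_29 c) (Btab_s_29_34 c) (Nat.ble 29 c)
noncomputable def Btab_s_17_34 (c : Nat) : Nat := @Bool.rec (fun _ => Nat) (Btab_s_17_25 c) (Btab_s_25_34 c) (Nat.ble 25 c)
noncomputable def Btab_s_0_34 (c : Nat) : Nat := @Bool.rec (fun _ => Nat) (Btab_s_0_17 c) (Btab_s_17_34 c) (Nat.ble 17 c)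
noncomputable def Btab (i : Nat) : Nat := rdw 33 8589934591 (Btab_s_0_34 (Nat.shiftRight i 11)) (Nat.land i 2047)
noncomputable def Ptab_s_0_2 (c : Nat) : Nat := @Bool.rec (fun _ => Nat) (Ptab_0) (Ptab_1) (Nat.ble 1 c)
noncomputable def Ptab_s_2_4 (c : Nat) : Nat := @Bool.rec (fun _ => Nat) (Ptab_2) (Ptab_3) (Nat.ble 3 c)
noncomputable def Ptab_s_0_4 (c : Nat) : Nat := @Bool.rec (fun _ => Nat) (Ptab_s_0_2 c) (Ptab_s_2_4 c) (Nat.ble 2 c)
noncomputable def Ptab_s_4_6 (c : Nat) : Nat := @Bool.rec (fun _ => Nat) (Ptab_4) (Ptab_5) (Nat.ble 5 c)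
noncomputable def Ptab_s_6_8 (c : Nat) : Nat := @Bool.rec (fun _ => Nat) (Ptab_6) (Ptab_7) (Nat.ble 7 c)
noncomputable def Ptab_s_4_8 (c : Nat) : Nat := @Bool.rec (fun _ => Nat) (Ptab_s_4_6 c) (Ptab_s_6_8 c) (Nat.ble 6 c)
noncomputable def Ptab_s_0_8 (c : Nat) : Nat := @Bool.rec (fun _ => Nat) (Ptab_s_0_4 c) (Ptab_s_4_8 c) (Nat.ble 4 c)
noncomputable def Ptab_s_8_10 (c : Nat) : Nat := @Bool.rec (fun _ => Nat) (Ptab_8) (Ptab_9) (Nat.ble 9 c)
noncomputable def Ptab_s_10_12 (c : Nat) : Nat := @Bool.rec (fun _ => Nat) (Ptab_10) (Ptab_11) (Nat.ble 11 c)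
noncomputable def Ptab_s_8_12 (c : Nat) : Nat := @Bool.rec (fun _ => Nat) (Ptab_s_8_10 c) (Ptab_s_10_12 c) (Nat.ble 10 c)
noncomputable def Ptab_s_12_14 (c : Nat) : Nat := @Bool.rec (fun _ => Nat) (Ptab_12) (Ptab_13) (Nat.ble 13 c)
noncomputable def Ptab_s_14_16 (c : Nat) : Nat := @Bool.rec (fun _ => Nat) (Ptab_14) (Ptab_15) (Nat.ble 15 c)
noncomputable def Ptab_s_12_16 (c : Nat) : Nat := @Bool.rec (fun _ => Nat) (Ptab_s_12_14 c) (Ptab_s_14_16 c) (Nat.ble 14 c)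
noncomputable def Ptab_s_8_16 (c : Nat) : Nat := @Bool.rec (fun _ => Nat) (Ptab_s_8_12 c) (Ptab_s_12_16 c) (Nat.ble 12 c)
noncomputable def Ptab_s_0_16 (c : Nat) : Nat := @Bool.rec (fun _ => Nat) (Ptab_s_0_8 c) (Ptab_s_8_16 c) (Nat.ble 8 c)
noncomputable def Ptab_s_16_18 (c : Nat) : Nat := @Bool.rec (fun _ => Nat) (Ptab_16) (Ptab_17) (Nat.ble 17 c)
noncomputable def Ptab_s_18_20 (c : Nat) : Nat := @Bool.rec (fun _ => Nat) (Ptab_18) (Ptab_19) (Nat.ble 19 c)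
noncomputable def Ptab_s_16_20 (c : Nat) : Nat := @Bool.rec (fun _ => Nat) (Ptab_s_16_18 c) (Ptab_s_18_20 c) (Nat.ble 18 c)
noncomputable def Ptab_s_20_22 (c : Nat) : Nat := @Bool.rec (fun _ => Nat) (Ptab_20) (Ptab_21) (Nat.ble 21 c)
noncomputable def Ptab_s_22_24 (c : Nat) : Nat := @Bool.rec (fun _ => Nat) (Ptab_22) (Ptab_23) (Nat.ble 23 c)
noncomputable def Ptab_s_20_24 (c : Nat) : Nat := @Bool.rec (fun _ => Nat) (Ptab_s_20_22 c) (Ptab_s_22_24 c) (Nat.ble 22 c)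
noncomputable def Ptab_s_16_24 (c : Nat) : Nat := @Bool.rec (fun _ => Nat) (Ptab_s_16_20 c) (Ptab_s_20_24 c) (Nat.ble 20 c)
noncomputable def Ptab_s_24_26 (c : Nat) : Nat := @Bool.rec (fun _ => Nat) (Ptab_24) (Ptab_25) (Nat.ble 25 c)
noncomputable def Ptab_s_26_28 (c : Nat) : Nat := @Bool.rec (fun _ => Nat) (Ptab_26) (Ptab_27) (Nat.ble 27 c)
noncomputable def Ptab_s_24_28 (c : Nat) : Nat := @Bool.rec (fun _ => Nat) (Ptab_s_24_26 c) (Ptab_s_26_28 c) (Nat.ble 26 c)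
noncomputable def Ptab_s_28_30 (c : Nat) : Nat := @Bool.rec (fun _ => Nat) (Ptab_28) (Ptab_29) (Nat.ble 29 c)
noncomputable def Ptab_s_30_32 (c : Nat) : Nat := @Bool.rec (fun _ => Nat) (Ptab_30) (Ptab_31) (Nat.ble 31 c)
noncomputable def Ptab_s_28_32 (c : Nat) : Nat := @Bool.rec (fun _ => Nat) (Ptab_s_28_30 c) (Ptab_s_30_32 c) (Nat.ble 30 c)
noncomputable def Ptab_s_24_32 (c : Nat) : Nat := @Bool.rec (fun _ => Nat) (Ptab_s_24_28 c) (Ptab_s_28_32 c) (Nat.ble 28 c)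
noncomputable def Ptab_s_16_32 (c : Nat) : Nat := @Bool.rec (fun _ => Nat) (Ptab_s_16_24 c) (Ptab_s_24_32 c) (Nat.ble 24 c)
noncomputable def Ptab_s_0_32 (c : Nat) : Nat := @Bool.rec (fun _ => Nat) (Ptab_s_0_16 c) (Ptab_s_16_32 c) (Nat.ble 16 c)
noncomputable def Ptab_s_32_34 (c : Nat) : Nat := @Bool.rec (fun _ => Nat) (Ptab_32) (Ptab_33) (Nat.ble 33 c)
noncomputable def Ptab_s_34_36 (c : Nat) : Nat := @Bool.rec (fun _ => Nat) (Ptab_34) (Ptab_35) (Nat.ble 35 c)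
noncomputable def Ptab_s_32_36 (c : Nat) : Nat := @Bool.rec (fun _ => Nat) (Ptab_s_32_34 c) (Ptab_s_34_36 c) (Nat.ble 34 c)
noncomputable def Ptab_s_36_38 (c : Nat) : Nat := @Bool.rec (fun _ => Nat) (Ptab_36) (Ptab_37) (Nat.ble 37 c)
noncomputable def Ptab_s_38_40 (c : Nat) : Nat := @Bool.rec (fun _ => Nat) (Ptab_38) (Ptab_39) (Nat.ble 39 c)
noncomputable def Ptab_s_36_40 (c : Nat) : Nat := @Bool.rec (fun _ => Nat) (Ptab_s_36_38 c) (Ptab_s_38_40 c) (Nat.ble 38 c)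
noncomputable def Ptab_s_32_40 (c : Nat) : Nat := @Bool.rec (fun _ => Nat) (Ptab_s_32_36 c) (Ptab_s_36_40 c) (Nat.ble 36 c)
noncomputable def Ptab_s_40_42 (c : Nat) : Nat := @Bool.rec (fun _ => Nat) (Ptab_40) (Ptab_41) (Nat.ble 41 c)
noncomputable def Ptab_s_42_44 (c : Nat) : Nat := @Bool.rec (fun _ => Nat) (Ptab_42) (Ptab_43) (Nat.ble 43 c)
noncomputable def Ptab_s_40_44 (c : Nat) : Nat := @Bool.rec (fun _ => Nat) (Ptab_s_40_42 c) (Ptab_s_42_44 c) (Nat.ble 42 c)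
noncomputable def Ptab_s_44_46 (c : Nat) : Nat := @Bool.rec (fun _ => Nat) (Ptab_44) (Ptab_45) (Nat.ble 45 c)
noncomputable def Ptab_s_46_48 (c : Nat) : Nat := @Bool.rec (fun _ => Nat) (Ptab_46) (Ptab_47) (Nat.ble 47 c)
noncomputable def Ptab_s_44_48 (c : Nat) : Nat := @Bool.rec (fun _ => Nat) (Ptab_s_44_46 c) (Ptab_s_46_48 c) (Nat.ble 46 c)
noncomputable def Ptab_s_40_48 (c : Nat) : Nat := @Bool.rec (fun _ => Nat) (Ptab_s_40_44 c) (Ptab_s_44_48 c) (Nat.ble 44 c)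
noncomputable def Ptab_s_32_48 (c : Nat) : Nat := @Bool.rec (fun _ => Nat) (Ptab_s_32_40 c) (Ptab_s_40_48 c) (Nat.ble 40 c)
noncomputable def Ptab_s_48_50 (c : Nat) : Nat := @Bool.rec (fun _ => Nat) (Ptab_48) (Ptab_49) (Nat.ble 49 c)
noncomputable def Ptab_s_50_52 (c : Nat) : Nat := @Bool.rec (fun _ => Nat) (Ptab_50) (Ptab_51) (Nat.ble 51 c)
noncomputable def Ptab_s_48_52 (c : Nat) : Nat := @Bool.rec (fun _ => Nat) (Ptab_s_48_50 c) (Ptab_s_50_52 c) (Nat.ble 50 c)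
noncomputable def Ptab_s_52_54 (c : Nat) : Nat := @Bool.rec (fun _ => Nat) (Ptab_52) (Ptab_53) (Nat.ble 53 c)
noncomputable def Ptab_s_54_56 (c : Nat) : Nat := @Bool.rec (fun _ => Nat) (Ptab_54) (Ptab_55) (Nat.ble 55 c)
noncomputable def Ptab_s_52_56 (c : Nat) : Nat := @Bool.rec (fun _ => Nat) (Ptab_s_52_54 c) (Ptab_s_54_56 c) (Nat.ble 54 c)
noncomputable def Ptab_s_48_56 (c : Nat) : Nat := @Bool.rec (fun _ => Nat) (Ptab_s_48_52 c) (Ptab_s_52_56 c) (Nat.ble 52 c)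
noncomputable def Ptab_s_56_58 (c : Nat) : Nat := @Bool.rec (fun _ => Nat) (Ptab_56) (Ptab_57) (Nat.ble 57 c)
noncomputable def Ptab_s_58_60 (c : Nat) : Nat := @Bool.rec (fun _ => Nat) (Ptab_58) (Ptab_59) (Nat.ble 59 c)
noncomputable def Ptab_s_56_60 (c : Nat) : Nat := @Bool.rec (fun _ => Nat) (Ptab_s_56_58 c) (Ptab_s_58_60 c) (Nat.ble 58 c)
noncomputable def Ptab_s_60_62 (c : Nat) : Nat := @Bool.rec (fun _ => Nat) (Ptab_60) (Ptab_61) (Nat.ble 61 c)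
noncomputable def Ptab_s_62_64 (c : Nat) : Nat := @Bool.rec (fun _ => Nat) (Ptab_62) (Ptab_63) (Nat.ble 63 c)
noncomputable def Ptab_s_60_64 (c : Nat) : Nat := @Bool.rec (fun _ => Nat) (Ptab_s_60_62 c) (Ptab_s_62_64 c) (Nat.ble 62 c)
noncomputable def Ptab_s_56_64 (c : Nat) : Nat := @Bool.rec (fun _ => Nat) (Ptab_s_56_60 c) (Ptab_s_60_64 c) (Nat.ble 60 c)
noncomputable def Ptab_s_48_64 (c : Nat) : Nat := @Bool.rec (fun _ => Nat) (Ptab_s_48_56 c) (Ptab_s_56_64 c) (Nat.ble 56 c)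
noncomputable def Ptab_s_32_64 (c : Nat) : Nat := @Bool.rec (fun _ => Nat) (Ptab_s_32_48 c) (Ptab_s_48_64 c) (Nat.ble 48 c)
noncomputable def Ptab_s_0_64 (c : Nat) : Nat := @Bool.rec (fun _ => Nat) (Ptab_s_0_32 c) (Ptab_s_32_64 c) (Nat.ble 32 c)
noncomputable def Ptab (i : Nat) : Nat := rdw 18 262143 (Ptab_s_0_64 (Nat.shiftRight i 12)) (Nat.land i 4095)
noncomputable def RRtab (i : Nat) : Nat := rdw 4 15 RRtab_0 i
noncomputable def rBtab (i : Nat) : Nat := rdw 9 511 rBtab_0 i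
noncomputable def rLtab (i : Nat) : Nat := rdw 4 15 rLtab_0 i
noncomputable def nameTab_s_0_2 (c : Nat) : Nat := @Bool.rec (fun _ => Nat) (nameTab_0) (nameTab_1) (Nat.ble 1 c)
noncomputable def nameTab (i : Nat) : Nat := rdw 15 32767 (nameTab_s_0_2 (Nat.shiftRight i 12)) (Nat.land i 4095)
noncomputable def col0_s_0_2 (c : Nat) : Nat := @Bool.rec (fun _ => Nat) (col0_0) (col0_1) (Nat.ble 1 c)
noncomputable def col0 (i : Nat) : Nat := rdw 13 8191 (col0_s_0_2 (Nat.shiftRight i 12)) (Nat.land i 4095)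
noncomputable def col1_s_0_2 (c : Nat) : Nat := @Bool.rec (fun _ => Nat) (col1_0) (col1_1) (Nat.ble 1 c)
noncomputable def col1 (i : Nat) : Nat := rdw 13 8191 (col1_s_0_2 (Nat.shiftRight i 12)) (Nat.land i 4095)
noncomputable def col2_s_0_2 (c : Nat) : Nat := @Bool.rec (fun _ => Nat) (col2_0) (col2_1) (Nat.ble 1 c)
noncomputable def col2 (i : Nat) : Nat := rdw 13 8191 (col2_s_0_2 (Nat.shiftRight i 12)) (Nat.land i 4095)
noncomputable def col3_s_0_2 (c : Nat) : Nat := @Bool.rec (fun _ => Nat) (col3_0) (col3_1) (Nat.ble 1 c)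
noncomputable def col3 (i : Nat) : Nat := rdw 13 8191 (col3_s_0_2 (Nat.shiftRight i 12)) (Nat.land i 4095)
noncomputable def col4_s_0_2 (c : Nat) : Nat := @Bool.rec (fun _ => Nat) (col4_0) (col4_1) (Nat.ble 1 c)
noncomputable def col4 (i : Nat) : Nat := rdw 13 8191 (col4_s_0_2 (Nat.shiftRight i 12)) (Nat.land i 4095)
noncomputable def col5_s_0_2 (c : Nat) : Nat := @Bool.rec (fun _ => Nat) (col5_0) (col5_1) (Nat.ble 1 c)
noncomputable def col5 (i : Nat) : Nat := rdw 13 8191 (col5_s_0_2 (Nat.shiftRight i 12)) (Nat.land i 4095)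
noncomputable def col6_s_0_2 (c : Nat) : Nat := @Bool.rec (fun _ => Nat) (col6_0) (col6_1) (Nat.ble 1 c)
noncomputable def col6 (i : Nat) : Nat := rdw 13 8191 (col6_s_0_2 (Nat.shiftRight i 12)) (Nat.land i 4095)
noncomputable def col7_s_0_2 (c : Nat) : Nat := @Bool.rec (fun _ => Nat) (col7_0) (col7_1) (Nat.ble 1 c)
noncomputable def col7 (i : Nat) : Nat := rdw 13 8191 (col7_s_0_2 (Nat.shiftRight i 12)) (Nat.land i 4095)
noncomputable def finTab_s_1_3 (c : Nat) : Nat := @Bool.rec (fun _ => Nat) (finTab_1) (finTab_2) (Nat.ble 2 c)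
noncomputable def finTab_s_0_3 (c : Nat) : Nat := @Bool.rec (fun _ => Nat) (finTab_0) (finTab_s_1_3 c) (Nat.ble 1 c)
noncomputable def finTab_s_4_6 (c : Nat) : Nat := @Bool.rec (fun _ => Nat) (finTab_4) (finTab_5) (Nat.ble 5 c)
noncomputable def finTab_s_3_6 (c : Nat) : Nat := @Bool.rec (fun _ => Nat) (finTab_3) (finTab_s_4_6 c) (Nat.ble 4 c)
noncomputable def finTab_s_0_6 (c : Nat) : Nat := @Bool.rec (fun _ => Nat) (finTab_s_0_3 c) (finTab_s_3_6 c) (Nat.ble 3 c)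
noncomputable def finTab_s_7_9 (c : Nat) : Nat := @Bool.rec (fun _ => Nat) (finTab_7) (finTab_8) (Nat.ble 8 c)
noncomputable def finTab_s_6_9 (c : Nat) : Nat := @Bool.rec (fun _ => Nat) (finTab_6) (finTab_s_7_9 c) (Nat.ble 7 c)
noncomputable def finTab_s_10_12 (c : Nat) : Nat := @Bool.rec (fun _ => Nat) (finTab_10) (finTab_11) (Nat.ble 11 c)
noncomputable def finTab_s_9_12 (c : Nat) : Nat := @Bool.rec (fun _ => Nat) (finTab_9) (finTab_s_10_12 c) (Nat.ble 10 c)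
noncomputable def finTab_s_6_12 (c : Nat) : Nat := @Bool.rec (fun _ => Nat) (finTab_s_6_9 c) (finTab_s_9_12 c) (Nat.ble 9 c)
noncomputable def finTab_s_0_12 (c : Nat) : Nat := @Bool.rec (fun _ => Nat) (finTab_s_0_6 c) (finTab_s_6_12 c) (Nat.ble 6 c)
noncomputable def finTab (i : Nat) : Nat := rdw 18 262143 (finTab_s_0_12 (Nat.shiftRight i 12)) (Nat.land i 4095)
noncomputable def clsTab_s_0_2 (c : Nat) : Nat := @Bool.rec (fun _ => Nat) (clsTab_0) (clsTab_1) (Nat.ble 1 c)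
noncomputable def clsTab_s_2_4 (c : Nat) : Nat := @Bool.rec (fun _ => Nat) (clsTab_2) (clsTab_3) (Nat.ble 3 c)
noncomputable def clsTab_s_0_4 (c : Nat) : Nat := @Bool.rec (fun _ => Nat) (clsTab_s_0_2 c) (clsTab_s_2_4 c) (Nat.ble 2 c)
noncomputable def clsTab_s_4_6 (c : Nat) : Nat := @Bool.rec (fun _ => Nat) (clsTab_4) (clsTab_5) (Nat.ble 5 c)
noncomputable def clsTab_s_6_8 (c : Nat) : Nat := @Bool.rec (fun _ => Nat) (clsTab_6) (clsTab_7) (Nat.ble 7 c)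
noncomputable def clsTab_s_4_8 (c : Nat) : Nat := @Bool.rec (fun _ => Nat) (clsTab_s_4_6 c) (clsTab_s_6_8 c) (Nat.ble 6 c)
noncomputable def clsTab_s_0_8 (c : Nat) : Nat := @Bool.rec (fun _ => Nat) (clsTab_s_0_4 c) (clsTab_s_4_8 c) (Nat.ble 4 c)
noncomputable def clsTab (i : Nat) : Nat := rdw 13 8191 (clsTab_s_0_8 (Nat.shiftRight i 12)) (Nat.land i 4095)
noncomputable def oparTab_s_0_2 (c : Nat) : Nat := @Bool.rec (fun _ => Nat) (oparTab_0) (oparTab_1) (Nat.ble 1 c)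
noncomputable def oparTab (i : Nat) : Nat := rdw 13 8191 (oparTab_s_0_2 (Nat.shiftRight i 12)) (Nat.land i 4095)
noncomputable def olabTab (i : Nat) : Nat := rdw 1 1 olabTab_0 i
noncomputable def srcF (t : Nat) : Nat := Nat.land (Atab t) 32767
noncomputable def tgtF (t : Nat) : Nat := Nat.land (Nat.shiftRight (Atab t) 15) 32767
noncomputable def ltF (t : Nat) : Nat := Nat.shiftRight (Atab t) 30
noncomputable def rhoF (t : Nat) : Nat := Nat.land (Btab (Nat.sub t 31338)) 63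
noncomputable def rotF (t : Nat) : Nat := Nat.land (Nat.shiftRight (Btab (Nat.sub t 31338)) 6) 15
noncomputable def lenF (t : Nat) : Nat := Nat.land (Nat.shiftRight (Btab (Nat.sub t 31338)) 10) 31
noncomputable def offF (t : Nat) : Nat := Nat.shiftRight (Btab (Nat.sub t 31338)) 15
noncomputable def pfF (j : Nat) : Nat := Nat.shiftRight (Ptab j) 1
noncomputable def pdF (j : Nat) : Nat := Nat.land (Ptab j) 1
noncomputable def tblF (i x : Nat) : Nat := @Bool.rec (fun _ => Nat) (@Bool.rec (fun _ => Nat) (@Bool.rec (fun _ => Nat) (col0 i) (col1 i) (Nat.ble 1 x)) (@Bool.rec (fun _ => Nat) (col2 i) (col3 i) (Nat.ble 3 x)) (Nat.ble 2 x)) (@Bool.rec (fun _ => Nat) (@Bool.rec (fun _ => Nat) (col4 i) (col5 i) (Nat.ble 5 x)) (@Bool.rec (fun _ => Nat) (col6 i) (col7 i) (Nat.ble 7 x)) (Nat.ble 6 x)) (Nat.ble 4 x)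
noncomputable def finE (i x : Nat) : Nat := finTab (Nat.add (Nat.mul i 8) x)
noncomputable def finFF (i x : Nat) : Nat := Nat.shiftRight (finE i x) 1
noncomputable def finDF (i x : Nat) : Nat := Nat.land (finE i x) 1

noncomputable def D : Log :=
  { k := 8, inv := invE 8 PSC2A8p2.invR, nR := 38, rBase := rBtab, rLen := rLtab, RR := RRtab,
    M := 31336, nB := 2, F := 100216, src := srcF, lt := ltF, tgt := tgtF, rho := rhoF, rot := rotF,
    off := offF, len := lenF, pf := pfF, pd := pdF }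

noncomputable def T : Tab :=
  { N := 5760, nameOf := nameTab, tbl := tblF, finF := finFF, finD := finDF, cls := clsTab }

def subs : List (List Nat) := [
  [0] ]

def rw0 : List Nat := [0, 0, 0, 0, 0, 0, 0]
def rw1 : List Nat := [2, 2, 2, 2, 2, 2, 2]
def rw2 : List Nat := [5, 0, 0, 2, 0, 2, 2, 2, 1, 2, 2, 1, 2]
def rw3 : List Nat := [7, 0, 2, 0, 3, 1, 3, 3, 1, 2, 0, 2, 2]
def rw4 : List Nat := [4, 4]
def rw5 : List Nat := [6, 6]
def rw6 : List Nat := [4, 0, 5, 1]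
def rw7 : List Nat := [4, 2, 5, 3]
def rw8 : List Nat := [6, 0, 7, 1]
def rw9 : List Nat := [6, 2, 7, 3]
def realLit : List (List Nat) := [rw0, rw1, rw2, rw3, rw4, rw5, rw6, rw7, rw8, rw9]
noncomputable def actR0 (i : Nat) : Nat := col1 (col1 (col1 (col1 (col1 (col1 (col1 (i)))))))
theorem actR0_eq (i : Nat) : actR0 i = Tab.act T D rw0 i := rfl
noncomputable def actR1 (i : Nat) : Nat := col3 (col3 (col3 (col3 (col3 (col3 (col3 (i)))))))
theorem actR1_eq (i : Nat) : actR1 i = Tab.act T D rw1 i := rfl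
noncomputable def actR2 (i : Nat) : Nat := col4 (col1 (col1 (col3 (col1 (col3 (col3 (col3 (col0 (col3 (col3 (col0 (col3 (i)))))))))))))
theorem actR2_eq (i : Nat) : actR2 i = Tab.act T D rw2 i := rfl
noncomputable def actR3 (i : Nat) : Nat := col6 (col1 (col3 (col1 (col2 (col0 (col2 (col2 (col0 (col3 (col1 (col3 (col3 (i)))))))))))))
theorem actR3_eq (i : Nat) : actR3 i = Tab.act T D rw3 i := rfl
noncomputable def actR4 (i : Nat) : Nat := col5 (col5 (i))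
theorem actR4_eq (i : Nat) : actR4 i = Tab.act T D rw4 i := rfl
noncomputable def actR5 (i : Nat) : Nat := col7 (col7 (i))
theorem actR5_eq (i : Nat) : actR5 i = Tab.act T D rw5 i := rfl
noncomputable def actR6 (i : Nat) : Nat := col5 (col1 (col4 (col0 (i))))
theorem actR6_eq (i : Nat) : actR6 i = Tab.act T D rw6 i := rfl
noncomputable def actR7 (i : Nat) : Nat := col5 (col3 (col4 (col2 (i))))
theorem actR7_eq (i : Nat) : actR7 i = Tab.act T D rw7 i := rfl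
noncomputable def actR8 (i : Nat) : Nat := col7 (col1 (col6 (col0 (i))))
theorem actR8_eq (i : Nat) : actR8 i = Tab.act T D rw8 i := rfl
noncomputable def actR9 (i : Nat) : Nat := col7 (col3 (col6 (col2 (i))))
theorem actR9_eq (i : Nat) : actR9 i = Tab.act T D rw9 i := rfl

end Cfsg.Agent.Lib.Helper4.TCD.SC2A8p2A
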