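import Cfsg.Agent.Lib.Helper4.TCD_SC2A8p3A_Acc

namespace Cfsg.Agent.Lib.Helper4.TCD.SC2A8p3A

open Cfsg.Agent.Lib.Helper4.TC

set_option maxRecDepth 100000
set_option Elab.async false

theorem c_zero : D.zeroOK = true := by decide +kernel
theorem c_base : allBelow D.baseOK 2 = true := by decide +kernel
theorem c_let : allBelow D.letOK 8 = true := by decide +kernel
theorem c_cls0 : T.cls 0 = 0 := by decide +kernel
theorem c_name0 : T.nameOf 0 = 0 := by decide +kernel
theorem c_tab : D.relTabOK 0 (baseRels 8 PSC2A8p3.invR PSC2A8p3.P.real subs ++ (baseRels 8 PSC2A8p3.invR PSC2A8p3.P.real subs).map (invWord D.inv)) = true := by decide +kernel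
theorem c_real : PSC2A8p3.P.real = realLit := by decide +kernel
theorem c_subfix : subs.all (fun u => Nat.beq (Tab.act T D u 0) 0) = true := by decide +kernel
theorem c_subs : subs.all (fun u => u.all (fun x => Nat.ble (Nat.succ x) 8)) = true := by decide +kernel
theorem c_names_0 : allRange D.nameOK 1 35326 = true := by decide +kernel
theorem c_cls_0 : allRange (T.clsOK D) 1 15000 = true := by decide +kernel
theorem c_cls_1 : allRange (T.clsOK D) 15001 15000 = true := by decide +kernel
theorem c_cls_2 : allRange (T.clsOK D) 30001 5326 = true := by decide +kernel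
theorem c_rep_0 : allRange (T.repOK D) 0 5760 = true := by decide +kernel
theorem c_rel_0 : allRange D.relOK 35329 3541 = true := by decide +kernel
theorem c_rel_1 : allRange D.relOK 38870 3575 = true := by decide +kernel
theorem c_rel_2 : allRange D.relOK 42445 3471 = true := by decide +kernel
theorem c_rel_3 : allRange D.relOK 45916 3375 = true := by decide +kernel
theorem c_rel_4 : allRange D.relOK 49291 3246 = true := by decide +kernel
theorem c_rel_5 : allRange D.relOK 52537 3038 = true := by decide +kernel
theorem c_rel_6 : allRange D.relOK 55575 2689 = true := by decide +kernel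
theorem c_rel_7 : allRange D.relOK 58264 2539 = true := by decide +kernel
theorem c_rel_8 : allRange D.relOK 60803 3382 = true := by decide +kernel
theorem c_rel_9 : allRange D.relOK 64185 3517 = true := by decide +kernel
theorem c_rel_10 : allRange D.relOK 67702 3530 = true := by decide +kernel
theorem c_rel_11 : allRange D.relOK 71232 3325 = true := by decide +kernel
theorem c_rel_12 : allRange D.relOK 74557 3441 = true := by decide +kernel
theorem c_rel_13 : allRange D.relOK 77998 2522 = true := by decide +kernel
theorem c_rel_14 : allRange D.relOK 80520 2064 = true := by decide +kernel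
theorem c_rel_15 : allRange D.relOK 82584 2004 = true := by decide +kernel
theorem c_rel_16 : allRange D.relOK 84588 1786 = true := by decide +kernel
theorem c_rel_17 : allRange D.relOK 86374 1648 = true := by decide +kernel
theorem c_rel_18 : allRange D.relOK 88022 1343 = true := by decide +kernel
theorem c_rel_19 : allRange D.relOK 89365 3847 = true := by decide +kernel
theorem c_rel_20 : allRange D.relOK 93212 4923 = true := by decide +kernel
theorem c_rel_21 : allRange D.relOK 98135 4902 = true := by decide +kernel
theorem c_rel_22 : allRange D.relOK 103037 4902 = true := by decide +kernel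
theorem c_rel_23 : allRange D.relOK 107939 3104 = true := by decide +kernel
theorem c_fin_0 : allGrid (T.finOK D) 0 1500 8 = true := by decide +kernel
theorem c_fin_1 : allGrid (T.finOK D) 1500 1500 8 = true := by decide +kernel
theorem c_fin_2 : allGrid (T.finOK D) 3000 1500 8 = true := by decide +kernel
theorem c_fin_3 : allGrid (T.finOK D) 4500 1260 8 = true := by decide +kernel
theorem c_perm_0 : allGrid (T.permOK1 D) 0 3750 8 = true := by decide +kernel
theorem c_perm_1 : allGrid (T.permOK1 D) 3750 2010 8 = true := by decide +kernel
theorem c_act0_0 : allRange (fun i => Nat.beq (actR0 i) i) 0 5760 = true := by decide +kernel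
theorem c_act1_0 : allRange (fun i => Nat.beq (actR1 i) i) 0 5760 = true := by decide +kernel
theorem c_act2_0 : allRange (fun i => Nat.beq (actR2 i) i) 0 4615 = true := by decide +kernel
theorem c_act2_1 : allRange (fun i => Nat.beq (actR2 i) i) 4615 1145 = true := by decide +kernel
theorem c_act3_0 : allRange (fun i => Nat.beq (actR3 i) i) 0 4615 = true := by decide +kernel
theorem c_act3_1 : allRange (fun i => Nat.beq (actR3 i) i) 4615 1145 = true := by decide +kernel
theorem c_act4_0 : allRange (fun i => Nat.beq (actR4 i) i) 0 5760 = true := by decide +kernel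
theorem c_act5_0 : allRange (fun i => Nat.beq (actR5 i) i) 0 5760 = true := by decide +kernel
theorem c_act6_0 : allRange (fun i => Nat.beq (actR6 i) i) 0 5760 = true := by decide +kernel
theorem c_act7_0 : allRange (fun i => Nat.beq (actR7 i) i) 0 5760 = true := by decide +kernel
theorem c_act8_0 : allRange (fun i => Nat.beq (actR8 i) i) 0 5760 = true := by decide +kernel
theorem c_act9_0 : allRange (fun i => Nat.beq (actR9 i) i) 0 5760 = true := by decide +kernel

end Cfsg.Agent.Lib.Helper4.TCD.SC2A8p3A
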