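import Cfsg.Agent.Lib.Helper4.TCD_SC2Fi22xp2A_Acc

namespace Cfsg.Agent.Lib.Helper4.TCD.SC2Fi22xp2A

open Cfsg.Agent.Lib.Helper4.TC

set_option maxRecDepth 100000
set_option Elab.async false

theorem c_zero : D.zeroOK = true := by decide +kernel
theorem c_base : allBelow D.baseOK 20 = true := by decide +kernel
theorem c_let : allBelow D.letOK 48 = true := by decide +kernel
theorem c_cls0 : T.cls 0 = 0 := by decide +kernel
theorem c_name0 : T.nameOf 0 = 0 := by decide +kernel
theorem c_tab : D.relTabOK 0 (baseRels 48 PSC2Fi22xp2.invR PSC2Fi22xp2.P.real subs ++ (baseRels 48 PSC2Fi22xp2.invR PSC2Fi22xp2.P.real subs).map (invWord D.inv)) = true := by decide +kernel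
theorem c_real : PSC2Fi22xp2.P.real = realLit := by decide +kernel
theorem c_subfix : subs.all (fun u => Nat.beq (Tab.act T D u 0) 0) = true := by decide +kernel
theorem c_subs : subs.all (fun u => u.all (fun x => Nat.ble (Nat.succ x) 48)) = true := by decide +kernel
theorem c_names_0 : allRange D.nameOK 1 6491 = true := by decide +kernel
theorem c_cls_0 : allRange (T.clsOK D) 1 6491 = true := by decide +kernel
theorem c_rep_0 : allRange (T.repOK D) 0 3510 = true := by decide +kernel
theorem c_rel_0 : allRange D.relOK 6512 3573 = true := by decide +kernel
theorem c_rel_1 : allRange D.relOK 10085 3329 = true := by decide +kernel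
theorem c_rel_2 : allRange D.relOK 13414 3208 = true := by decide +kernel
theorem c_rel_3 : allRange D.relOK 16622 3186 = true := by decide +kernel
theorem c_rel_4 : allRange D.relOK 19808 3563 = true := by decide +kernel
theorem c_rel_5 : allRange D.relOK 23371 3552 = true := by decide +kernel
theorem c_rel_6 : allRange D.relOK 26923 3306 = true := by decide +kernel
theorem c_rel_7 : allRange D.relOK 30229 3486 = true := by decide +kernel
theorem c_rel_8 : allRange D.relOK 33715 3560 = true := by decide +kernel
theorem c_rel_9 : allRange D.relOK 37275 3687 = true := by decide +kernel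
theorem c_rel_10 : allRange D.relOK 40962 3595 = true := by decide +kernel
theorem c_rel_11 : allRange D.relOK 44557 3751 = true := by decide +kernel
theorem c_rel_12 : allRange D.relOK 48308 3726 = true := by decide +kernel
theorem c_rel_13 : allRange D.relOK 52034 3627 = true := by decide +kernel
theorem c_rel_14 : allRange D.relOK 55661 3529 = true := by decide +kernel
theorem c_rel_15 : allRange D.relOK 59190 3238 = true := by decide +kernel
theorem c_rel_16 : allRange D.relOK 62428 3393 = true := by decide +kernel
theorem c_rel_17 : allRange D.relOK 65821 3621 = true := by decide +kernel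
theorem c_rel_18 : allRange D.relOK 69442 3539 = true := by decide +kernel
theorem c_rel_19 : allRange D.relOK 72981 3658 = true := by decide +kernel
theorem c_rel_20 : allRange D.relOK 76639 3456 = true := by decide +kernel
theorem c_rel_21 : allRange D.relOK 80095 3269 = true := by decide +kernel
theorem c_rel_22 : allRange D.relOK 83364 3385 = true := by decide +kernel
theorem c_rel_23 : allRange D.relOK 86749 3326 = true := by decide +kernel
theorem c_rel_24 : allRange D.relOK 90075 3393 = true := by decide +kernel
theorem c_rel_25 : allRange D.relOK 93468 3207 = true := by decide +kernel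
theorem c_rel_26 : allRange D.relOK 96675 3107 = true := by decide +kernel
theorem c_rel_27 : allRange D.relOK 99782 3038 = true := by decide +kernel
theorem c_rel_28 : allRange D.relOK 102820 3234 = true := by decide +kernel
theorem c_rel_29 : allRange D.relOK 106054 3413 = true := by decide +kernel
theorem c_rel_30 : allRange D.relOK 109467 3369 = true := by decide +kernel
theorem c_rel_31 : allRange D.relOK 112836 3458 = true := by decide +kernel
theorem c_rel_32 : allRange D.relOK 116294 3165 = true := by decide +kernel
theorem c_rel_33 : allRange D.relOK 119459 2747 = true := by decide +kernel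
theorem c_rel_34 : allRange D.relOK 122206 3092 = true := by decide +kernel
theorem c_rel_35 : allRange D.relOK 125298 4692 = true := by decide +kernel
theorem c_rel_36 : allRange D.relOK 129990 4692 = true := by decide +kernel
theorem c_rel_37 : allRange D.relOK 134682 4384 = true := by decide +kernel
theorem c_fin_0 : allGrid (T.finOK D) 0 250 48 = true := by decide +kernel
theorem c_fin_1 : allGrid (T.finOK D) 250 250 48 = true := by decide +kernel
theorem c_fin_2 : allGrid (T.finOK D) 500 250 48 = true := by decide +kernel
theorem c_fin_3 : allGrid (T.finOK D) 750 250 48 = true := by decide +kernel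
theorem c_fin_4 : allGrid (T.finOK D) 1000 250 48 = true := by decide +kernel
theorem c_fin_5 : allGrid (T.finOK D) 1250 250 48 = true := by decide +kernel
theorem c_fin_6 : allGrid (T.finOK D) 1500 250 48 = true := by decide +kernel
theorem c_fin_7 : allGrid (T.finOK D) 1750 250 48 = true := by decide +kernel
theorem c_fin_8 : allGrid (T.finOK D) 2000 250 48 = true := by decide +kernel
theorem c_fin_9 : allGrid (T.finOK D) 2250 250 48 = true := by decide +kernel
theorem c_fin_10 : allGrid (T.finOK D) 2500 250 48 = true := by decide +kernel
theorem c_fin_11 : allGrid (T.finOK D) 2750 250 48 = true := by decide +kernel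
theorem c_fin_12 : allGrid (T.finOK D) 3000 250 48 = true := by decide +kernel
theorem c_fin_13 : allGrid (T.finOK D) 3250 250 48 = true := by decide +kernel
theorem c_fin_14 : allGrid (T.finOK D) 3500 10 48 = true := by decide +kernel
theorem c_perm_0 : allGrid (T.permOK1 D) 0 625 48 = true := by decide +kernel
theorem c_perm_1 : allGrid (T.permOK1 D) 625 625 48 = true := by decide +kernel
theorem c_perm_2 : allGrid (T.permOK1 D) 1250 625 48 = true := by decide +kernel
theorem c_perm_3 : allGrid (T.permOK1 D) 1875 625 48 = true := by decide +kernel
theorem c_perm_4 : allGrid (T.permOK1 D) 2500 625 48 = true := by decide +kernel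
theorem c_perm_5 : allGrid (T.permOK1 D) 3125 385 48 = true := by decide +kernel
theorem c_act0_0 : allRange (fun i => Nat.beq (actR0 i) i) 0 3510 = true := by decide +kernel
theorem c_act1_0 : allRange (fun i => Nat.beq (actR1 i) i) 0 3510 = true := by decide +kernel
theorem c_act2_0 : allRange (fun i => Nat.beq (actR2 i) i) 0 3510 = true := by decide +kernel
theorem c_act3_0 : allRange (fun i => Nat.beq (actR3 i) i) 0 3510 = true := by decide +kernel
theorem c_act4_0 : allRange (fun i => Nat.beq (actR4 i) i) 0 3510 = true := by decide +kernel
theorem c_act5_0 : allRange (fun i => Nat.beq (actR5 i) i) 0 3510 = true := by decide +kernel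
theorem c_act6_0 : allRange (fun i => Nat.beq (actR6 i) i) 0 3510 = true := by decide +kernel
theorem c_act7_0 : allRange (fun i => Nat.beq (actR7 i) i) 0 3510 = true := by decide +kernel
theorem c_act8_0 : allRange (fun i => Nat.beq (actR8 i) i) 0 3510 = true := by decide +kernel
theorem c_act9_0 : allRange (fun i => Nat.beq (actR9 i) i) 0 3510 = true := by decide +kernel
theorem c_act10_0 : allRange (fun i => Nat.beq (actR10 i) i) 0 3510 = true := by decide +kernel
theorem c_act11_0 : allRange (fun i => Nat.beq (actR11 i) i) 0 3510 = true := by decide +kernel
theorem c_act12_0 : allRange (fun i => Nat.beq (actR12 i) i) 0 3510 = true := by decide +kernel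
theorem c_act13_0 : allRange (fun i => Nat.beq (actR13 i) i) 0 3510 = true := by decide +kernel
theorem c_act14_0 : allRange (fun i => Nat.beq (actR14 i) i) 0 3510 = true := by decide +kernel
theorem c_act15_0 : allRange (fun i => Nat.beq (actR15 i) i) 0 3510 = true := by decide +kernel
theorem c_act16_0 : allRange (fun i => Nat.beq (actR16 i) i) 0 3510 = true := by decide +kernel
theorem c_act17_0 : allRange (fun i => Nat.beq (actR17 i) i) 0 3510 = true := by decide +kernel
theorem c_act18_0 : allRange (fun i => Nat.beq (actR18 i) i) 0 3510 = true := by decide +kernel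
theorem c_act19_0 : allRange (fun i => Nat.beq (actR19 i) i) 0 3510 = true := by decide +kernel
theorem c_act20_0 : allRange (fun i => Nat.beq (actR20 i) i) 0 659 = true := by decide +kernel
theorem c_act20_1 : allRange (fun i => Nat.beq (actR20 i) i) 659 659 = true := by decide +kernel
theorem c_act20_2 : allRange (fun i => Nat.beq (actR20 i) i) 1318 659 = true := by decide +kernel
theorem c_act20_3 : allRange (fun i => Nat.beq (actR20 i) i) 1977 659 = true := by decide +kernel
theorem c_act20_4 : allRange (fun i => Nat.beq (actR20 i) i) 2636 659 = true := by decide +kernel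
theorem c_act20_5 : allRange (fun i => Nat.beq (actR20 i) i) 3295 215 = true := by decide +kernel
theorem c_act21_0 : allRange (fun i => Nat.beq (actR21 i) i) 0 923 = true := by decide +kernel

end Cfsg.Agent.Lib.Helper4.TCD.SC2Fi22xp2A
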