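import Cfsg.Agent.Lib.Helper4.TCD_C2Fi22xR_Acc
import Cfsg.Agent.Lib.Helper4.TC13

namespace Cfsg.Agent.Lib.Helper4.TCD.SC2Fi22xp2W

open Cfsg.Agent.Lib.Helper4.TC Cfsg.Agent.Lib.Helper4.TCD.C2Fi22xR

set_option maxRecDepth 100000
set_option Elab.async false

def chk0 : List Nat := [0, 0]
noncomputable def act0 (i : Nat) : Nat := col1 (col1 (i))
theorem act0_eq (i : Nat) : act0 i = Tab.act T D chk0 i := rfl
theorem c0_0 : allRange (fun i => Nat.beq (act0 i) i) 0 15000 = true := by decide +kernel
theorem c0_1 : allRange (fun i => Nat.beq (act0 i) i) 15000 13160 = true := by decide +kernel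
theorem h0 : ∀ i, i < T.N → Tab.relActOK T D chk0 i = true := by
  intro i hi
  rw [Tab.relActOK, ← act0_eq]
  exact (range_glue (range_of_allRange c0_0) (range_of_allRange c0_1)) i (Nat.zero_le _) hi

def chk1 : List Nat := [4, 4]
noncomputable def act1 (i : Nat) : Nat := col5 (col5 (i))
theorem act1_eq (i : Nat) : act1 i = Tab.act T D chk1 i := rfl
theorem c1_0 : allRange (fun i => Nat.beq (act1 i) i) 0 15000 = true := by decide +kernel
theorem c1_1 : allRange (fun i => Nat.beq (act1 i) i) 15000 13160 = true := by decide +kernel
theorem h1 : ∀ i, i < T.N → Tab.relActOK T D chk1 i = true := by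
  intro i hi
  rw [Tab.relActOK, ← act1_eq]
  exact (range_glue (range_of_allRange c1_0) (range_of_allRange c1_1)) i (Nat.zero_le _) hi

def chk4 : List Nat := [10, 10]
noncomputable def act4 (i : Nat) : Nat := col11 (col11 (i))
theorem act4_eq (i : Nat) : act4 i = Tab.act T D chk4 i := rfl
theorem c4_0 : allRange (fun i => Nat.beq (act4 i) i) 0 15000 = true := by decide +kernel
theorem c4_1 : allRange (fun i => Nat.beq (act4 i) i) 15000 13160 = true := by decide +kernel
theorem h4 : ∀ i, i < T.N → Tab.relActOK T D chk4 i = true := by
  intro i hi
  rw [Tab.relActOK, ← act4_eq]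
  exact (range_glue (range_of_allRange c4_0) (range_of_allRange c4_1)) i (Nat.zero_le _) hi

def chk7 : List Nat := [16, 16]
noncomputable def act7 (i : Nat) : Nat := col17 (col17 (i))
theorem act7_eq (i : Nat) : act7 i = Tab.act T D chk7 i := rfl
theorem c7_0 : allRange (fun i => Nat.beq (act7 i) i) 0 15000 = true := by decide +kernel
theorem c7_1 : allRange (fun i => Nat.beq (act7 i) i) 15000 13160 = true := by decide +kernel
theorem h7 : ∀ i, i < T.N → Tab.relActOK T D chk7 i = true := by
  intro i hi
  rw [Tab.relActOK, ← act7_eq]
  exact (range_glue (range_of_allRange c7_0) (range_of_allRange c7_1)) i (Nat.zero_le _) hi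

def chk10 : List Nat := [0, 2, 0, 2, 0, 2]
noncomputable def act10 (i : Nat) : Nat := col1 (col3 (col1 (col3 (col1 (col3 (i))))))
theorem act10_eq (i : Nat) : act10 i = Tab.act T D chk10 i := rfl
theorem c10_0 : allRange (fun i => Nat.beq (act10 i) i) 0 7500 = true := by decide +kernel
theorem c10_1 : allRange (fun i => Nat.beq (act10 i) i) 7500 7500 = true := by decide +kernel
theorem c10_2 : allRange (fun i => Nat.beq (act10 i) i) 15000 7500 = true := by decide +kernel
theorem c10_3 : allRange (fun i => Nat.beq (act10 i) i) 22500 5660 = true := by decide +kernel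
theorem h10 : ∀ i, i < T.N → Tab.relActOK T D chk10 i = true := by
  intro i hi
  rw [Tab.relActOK, ← act10_eq]
  exact (range_glue (range_of_allRange c10_0) (range_glue (range_of_allRange c10_1) (range_glue (range_of_allRange c10_2) (range_of_allRange c10_3)))) i (Nat.zero_le _) hi

def chk13 : List Nat := [2, 4, 2, 4, 2, 4]
noncomputable def act13 (i : Nat) : Nat := col3 (col5 (col3 (col5 (col3 (col5 (i))))))
theorem act13_eq (i : Nat) : act13 i = Tab.act T D chk13 i := rfl
theorem c13_0 : allRange (fun i => Nat.beq (act13 i) i) 0 7500 = true := by decide +kernel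
theorem c13_1 : allRange (fun i => Nat.beq (act13 i) i) 7500 7500 = true := by decide +kernel
theorem c13_2 : allRange (fun i => Nat.beq (act13 i) i) 15000 7500 = true := by decide +kernel
theorem c13_3 : allRange (fun i => Nat.beq (act13 i) i) 22500 5660 = true := by decide +kernel
theorem h13 : ∀ i, i < T.N → Tab.relActOK T D chk13 i = true := by
  intro i hi
  rw [Tab.relActOK, ← act13_eq]
  exact (range_glue (range_of_allRange c13_0) (range_glue (range_of_allRange c13_1) (range_glue (range_of_allRange c13_2) (range_of_allRange c13_3)))) i (Nat.zero_le _) hi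

def chk14 : List Nat := [2, 6, 2, 6]
noncomputable def act14 (i : Nat) : Nat := col3 (col7 (col3 (col7 (i))))
theorem act14_eq (i : Nat) : act14 i = Tab.act T D chk14 i := rfl
theorem c14_0 : allRange (fun i => Nat.beq (act14 i) i) 0 10000 = true := by decide +kernel
theorem c14_1 : allRange (fun i => Nat.beq (act14 i) i) 10000 10000 = true := by decide +kernel
theorem c14_2 : allRange (fun i => Nat.beq (act14 i) i) 20000 8160 = true := by decide +kernel
theorem h14 : ∀ i, i < T.N → Tab.relActOK T D chk14 i = true := by
  intro i hi
  rw [Tab.relActOK, ← act14_eq]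
  exact (range_glue (range_of_allRange c14_0) (range_glue (range_of_allRange c14_1) (range_of_allRange c14_2))) i (Nat.zero_le _) hi

def chk17 : List Nat := [2, 12, 2, 12]
noncomputable def act17 (i : Nat) : Nat := col3 (col13 (col3 (col13 (i))))
theorem act17_eq (i : Nat) : act17 i = Tab.act T D chk17 i := rfl
theorem c17_0 : allRange (fun i => Nat.beq (act17 i) i) 0 10000 = true := by decide +kernel
theorem c17_1 : allRange (fun i => Nat.beq (act17 i) i) 10000 10000 = true := by decide +kernel
theorem c17_2 : allRange (fun i => Nat.beq (act17 i) i) 20000 8160 = true := by decide +kernel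
theorem h17 : ∀ i, i < T.N → Tab.relActOK T D chk17 i = true := by
  intro i hi
  rw [Tab.relActOK, ← act17_eq]
  exact (range_glue (range_of_allRange c17_0) (range_glue (range_of_allRange c17_1) (range_of_allRange c17_2))) i (Nat.zero_le _) hi

def chk22 : List Nat := [2, 4, 6, 8, 10, 12, 14, 2, 4, 6, 8, 10, 12, 14, 2, 4, 6, 8, 10, 12, 14, 2, 4, 6, 8, 10, 12, 14, 2, 4, 6, 8, 10, 12, 14, 2, 4, 6, 8, 10, 12, 14, 2, 4, 6, 8, 10, 12, 14, 2, 4, 6, 8, 10, 12, 14, 2, 4, 6, 8, 10, 12, 14]
noncomputable def act22 (i : Nat) : Nat := col3 (col5 (col7 (col9 (col11 (col13 (col15 (col3 (col5 (col7 (col9 (col11 (col13 (col15 (col3 (col5 (col7 (col9 (col11 (col13 (col15 (col3 (col5 (col7 (col9 (col11 (col13 (col15 (col3 (col5 (col7 (col9 (col11 (col13 (col15 (col3 (col5 (col7 (col9 (col11 (col13 (col15 (col3 (col5 (col7 (col9 (col11 (col13 (col15 (col3 (col5 (col7 (col9 (col11 (col13 (col15 (col3 (col5 (col7 (col9 (col11 (col13 (col15 (i)))))))))))))))))))))))))))))))))))))))))))))))))))))))))))))))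
theorem act22_eq (i : Nat) : act22 i = Tab.act T D chk22 i := rfl
theorem c22_0 : allRange (fun i => Nat.beq (act22 i) i) 0 923 = true := by decide +kernel
theorem c22_1 : allRange (fun i => Nat.beq (act22 i) i) 923 923 = true := by decide +kernel
theorem c22_2 : allRange (fun i => Nat.beq (act22 i) i) 1846 923 = true := by decide +kernel
theorem c22_3 : allRange (fun i => Nat.beq (act22 i) i) 2769 923 = true := by decide +kernel
theorem c22_4 : allRange (fun i => Nat.beq (act22 i) i) 3692 923 = true := by decide +kernel
theorem c22_5 : allRange (fun i => Nat.beq (act22 i) i) 4615 923 = true := by decide +kernel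
theorem c22_6 : allRange (fun i => Nat.beq (act22 i) i) 5538 923 = true := by decide +kernel
theorem c22_7 : allRange (fun i => Nat.beq (act22 i) i) 6461 923 = true := by decide +kernel
theorem c22_8 : allRange (fun i => Nat.beq (act22 i) i) 7384 923 = true := by decide +kernel
theorem c22_9 : allRange (fun i => Nat.beq (act22 i) i) 8307 923 = true := by decide +kernel
theorem c22_10 : allRange (fun i => Nat.beq (act22 i) i) 9230 923 = true := by decide +kernel
theorem c22_11 : allRange (fun i => Nat.beq (act22 i) i) 10153 923 = true := by decide +kernel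
theorem c22_12 : allRange (fun i => Nat.beq (act22 i) i) 11076 923 = true := by decide +kernel
theorem c22_13 : allRange (fun i => Nat.beq (act22 i) i) 11999 923 = true := by decide +kernel
theorem c22_14 : allRange (fun i => Nat.beq (act22 i) i) 12922 923 = true := by decide +kernel
theorem c22_15 : allRange (fun i => Nat.beq (act22 i) i) 13845 923 = true := by decide +kernel
theorem c22_16 : allRange (fun i => Nat.beq (act22 i) i) 14768 923 = true := by decide +kernel
theorem c22_17 : allRange (fun i => Nat.beq (act22 i) i) 15691 923 = true := by decide +kernel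
theorem c22_18 : allRange (fun i => Nat.beq (act22 i) i) 16614 923 = true := by decide +kernel
theorem c22_19 : allRange (fun i => Nat.beq (act22 i) i) 17537 923 = true := by decide +kernel
theorem c22_20 : allRange (fun i => Nat.beq (act22 i) i) 18460 923 = true := by decide +kernel
theorem c22_21 : allRange (fun i => Nat.beq (act22 i) i) 19383 923 = true := by decide +kernel
theorem c22_22 : allRange (fun i => Nat.beq (act22 i) i) 20306 923 = true := by decide +kernel
theorem c22_23 : allRange (fun i => Nat.beq (act22 i) i) 21229 923 = true := by decide +kernel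
theorem c22_24 : allRange (fun i => Nat.beq (act22 i) i) 22152 923 = true := by decide +kernel
theorem c22_25 : allRange (fun i => Nat.beq (act22 i) i) 23075 923 = true := by decide +kernel
theorem c22_26 : allRange (fun i => Nat.beq (act22 i) i) 23998 923 = true := by decide +kernel
theorem c22_27 : allRange (fun i => Nat.beq (act22 i) i) 24921 923 = true := by decide +kernel
theorem c22_28 : allRange (fun i => Nat.beq (act22 i) i) 25844 923 = true := by decide +kernel
theorem c22_29 : allRange (fun i => Nat.beq (act22 i) i) 26767 923 = true := by decide +kernel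
theorem c22_30 : allRange (fun i => Nat.beq (act22 i) i) 27690 470 = true := by decide +kernel
theorem h22 : ∀ i, i < T.N → Tab.relActOK T D chk22 i = true := by
  intro i hi
  rw [Tab.relActOK, ← act22_eq]
  exact (range_glue (range_of_allRange c22_0) (range_glue (range_of_allRange c22_1) (range_glue (range_of_allRange c22_2) (range_glue (range_of_allRange c22_3) (range_glue (range_of_allRange c22_4) (range_glue (range_of_allRange c22_5) (range_glue (range_of_allRange c22_6) (range_glue (range_of_allRange c22_7) (range_glue (range_of_allRange c22_8) (range_glue (range_of_allRange c22_9) (range_glue (range_of_allRange c22_10) (range_glue (range_of_allRange c22_11) (range_glue (range_of_allRange c22_12) (range_glue (range_of_allRange c22_13) (range_glue (range_of_allRange c22_14) (range_glue (range_of_allRange c22_15) (range_glue (range_of_allRange c22_16) (range_glue (range_of_allRange c22_17) (range_glue (range_of_allRange c22_18) (range_glue (range_of_allRange c22_19) (range_glue (range_of_allRange c22_20) (range_glue (range_of_allRange c22_21) (range_glue (range_of_allRange c22_22) (range_glue (range_of_allRange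 c22_23) (range_glue (range_of_allRange c22_24) (range_glue (range_of_allRange c22_25) (range_glue (range_of_allRange c22_26) (range_glue (range_of_allRange c22_27) (range_glue (range_of_allRange c22_28) (range_glue (range_of_allRange c22_29) (range_of_allRange c22_30))))))))))))))))))))))))))))))) i (Nat.zero_le _) hi

def chk24 : List Nat := [0, 0]
noncomputable def act24 (i : Nat) : Nat := col1 (col1 (i))
theorem act24_eq (i : Nat) : act24 i = Tab.act T D chk24 i := rfl
theorem c24_0 : allRange (fun i => Nat.beq (act24 i) i) 0 15000 = true := by decide +kernel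
theorem c24_1 : allRange (fun i => Nat.beq (act24 i) i) 15000 13160 = true := by decide +kernel
theorem h24 : ∀ i, i < T.N → Tab.relActOK T D chk24 i = true := by
  intro i hi
  rw [Tab.relActOK, ← act24_eq]
  exact (range_glue (range_of_allRange c24_0) (range_of_allRange c24_1)) i (Nat.zero_le _) hi

def chk25 : List Nat := [0, 4, 0, 4]
noncomputable def act25 (i : Nat) : Nat := col1 (col5 (col1 (col5 (i))))
theorem act25_eq (i : Nat) : act25 i = Tab.act T D chk25 i := rfl
theorem c25_0 : allRange (fun i => Nat.beq (act25 i) i) 0 10000 = true := by decide +kernel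
theorem c25_1 : allRange (fun i => Nat.beq (act25 i) i) 10000 10000 = true := by decide +kernel
theorem c25_2 : allRange (fun i => Nat.beq (act25 i) i) 20000 8160 = true := by decide +kernel
theorem h25 : ∀ i, i < T.N → Tab.relActOK T D chk25 i = true := by
  intro i hi
  rw [Tab.relActOK, ← act25_eq]
  exact (range_glue (range_of_allRange c25_0) (range_glue (range_of_allRange c25_1) (range_of_allRange c25_2))) i (Nat.zero_le _) hi

def chk28 : List Nat := [0, 14, 0, 14]
noncomputable def act28 (i : Nat) : Nat := col1 (col15 (col1 (col15 (i))))
theorem act28_eq (i : Nat) : act28 i = Tab.act T D chk28 i := rfl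
theorem c28_0 : allRange (fun i => Nat.beq (act28 i) i) 0 10000 = true := by decide +kernel
theorem c28_1 : allRange (fun i => Nat.beq (act28 i) i) 10000 10000 = true := by decide +kernel
theorem c28_2 : allRange (fun i => Nat.beq (act28 i) i) 20000 8160 = true := by decide +kernel
theorem h28 : ∀ i, i < T.N → Tab.relActOK T D chk28 i = true := by
  intro i hi
  rw [Tab.relActOK, ← act28_eq]
  exact (range_glue (range_of_allRange c28_0) (range_glue (range_of_allRange c28_1) (range_of_allRange c28_2))) i (Nat.zero_le _) hi

def chk31 : List Nat := [0, 16, 0, 16]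
noncomputable def act31 (i : Nat) : Nat := col1 (col17 (col1 (col17 (i))))
theorem act31_eq (i : Nat) : act31 i = Tab.act T D chk31 i := rfl
theorem c31_0 : allRange (fun i => Nat.beq (act31 i) i) 0 10000 = true := by decide +kernel
theorem c31_1 : allRange (fun i => Nat.beq (act31 i) i) 10000 10000 = true := by decide +kernel
theorem c31_2 : allRange (fun i => Nat.beq (act31 i) i) 20000 8160 = true := by decide +kernel
theorem h31 : ∀ i, i < T.N → Tab.relActOK T D chk31 i = true := by
  intro i hi
  rw [Tab.relActOK, ← act31_eq]
  exact (range_glue (range_of_allRange c31_0) (range_glue (range_of_allRange c31_1) (range_of_allRange c31_2))) i (Nat.zero_le _) hi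

def chk33 : List Nat := [4, 6, 4, 6, 4, 6]
noncomputable def act33 (i : Nat) : Nat := col5 (col7 (col5 (col7 (col5 (col7 (i))))))
theorem act33_eq (i : Nat) : act33 i = Tab.act T D chk33 i := rfl
theorem c33_0 : allRange (fun i => Nat.beq (act33 i) i) 0 7500 = true := by decide +kernel
theorem c33_1 : allRange (fun i => Nat.beq (act33 i) i) 7500 7500 = true := by decide +kernel
theorem c33_2 : allRange (fun i => Nat.beq (act33 i) i) 15000 7500 = true := by decide +kernel
theorem c33_3 : allRange (fun i => Nat.beq (act33 i) i) 22500 5660 = true := by decide +kernel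
theorem h33 : ∀ i, i < T.N → Tab.relActOK T D chk33 i = true := by
  intro i hi
  rw [Tab.relActOK, ← act33_eq]
  exact (range_glue (range_of_allRange c33_0) (range_glue (range_of_allRange c33_1) (range_glue (range_of_allRange c33_2) (range_of_allRange c33_3)))) i (Nat.zero_le _) hi

def chk36 : List Nat := [4, 10, 4, 10]
noncomputable def act36 (i : Nat) : Nat := col5 (col11 (col5 (col11 (i))))
theorem act36_eq (i : Nat) : act36 i = Tab.act T D chk36 i := rfl
theorem c36_0 : allRange (fun i => Nat.beq (act36 i) i) 0 10000 = true := by decide +kernel
theorem c36_1 : allRange (fun i => Nat.beq (act36 i) i) 10000 10000 = true := by decide +kernel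
theorem c36_2 : allRange (fun i => Nat.beq (act36 i) i) 20000 8160 = true := by decide +kernel
theorem h36 : ∀ i, i < T.N → Tab.relActOK T D chk36 i = true := by
  intro i hi
  rw [Tab.relActOK, ← act36_eq]
  exact (range_glue (range_of_allRange c36_0) (range_glue (range_of_allRange c36_1) (range_of_allRange c36_2))) i (Nat.zero_le _) hi

def chk40 : List Nat := [6, 8, 6, 8, 6, 8]
noncomputable def act40 (i : Nat) : Nat := col7 (col9 (col7 (col9 (col7 (col9 (i))))))
theorem act40_eq (i : Nat) : act40 i = Tab.act T D chk40 i := rfl
theorem c40_0 : allRange (fun i => Nat.beq (act40 i) i) 0 7500 = true := by decide +kernel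
theorem c40_1 : allRange (fun i => Nat.beq (act40 i) i) 7500 7500 = true := by decide +kernel
theorem c40_2 : allRange (fun i => Nat.beq (act40 i) i) 15000 7500 = true := by decide +kernel
theorem c40_3 : allRange (fun i => Nat.beq (act40 i) i) 22500 5660 = true := by decide +kernel
theorem h40 : ∀ i, i < T.N → Tab.relActOK T D chk40 i = true := by
  intro i hi
  rw [Tab.relActOK, ← act40_eq]
  exact (range_glue (range_of_allRange c40_0) (range_glue (range_of_allRange c40_1) (range_glue (range_of_allRange c40_2) (range_of_allRange c40_3)))) i (Nat.zero_le _) hi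

def chk41 : List Nat := [6, 14, 6, 14, 6, 14]
noncomputable def act41 (i : Nat) : Nat := col7 (col15 (col7 (col15 (col7 (col15 (i))))))
theorem act41_eq (i : Nat) : act41 i = Tab.act T D chk41 i := rfl
theorem c41_0 : allRange (fun i => Nat.beq (act41 i) i) 0 7500 = true := by decide +kernel
theorem c41_1 : allRange (fun i => Nat.beq (act41 i) i) 7500 7500 = true := by decide +kernel
theorem c41_2 : allRange (fun i => Nat.beq (act41 i) i) 15000 7500 = true := by decide +kernel
theorem c41_3 : allRange (fun i => Nat.beq (act41 i) i) 22500 5660 = true := by decide +kernel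
theorem h41 : ∀ i, i < T.N → Tab.relActOK T D chk41 i = true := by
  intro i hi
  rw [Tab.relActOK, ← act41_eq]
  exact (range_glue (range_of_allRange c41_0) (range_glue (range_of_allRange c41_1) (range_glue (range_of_allRange c41_2) (range_of_allRange c41_3)))) i (Nat.zero_le _) hi

def chk42 : List Nat := [6, 10, 6, 10]
noncomputable def act42 (i : Nat) : Nat := col7 (col11 (col7 (col11 (i))))
theorem act42_eq (i : Nat) : act42 i = Tab.act T D chk42 i := rfl
theorem c42_0 : allRange (fun i => Nat.beq (act42 i) i) 0 10000 = true := by decide +kernel
theorem c42_1 : allRange (fun i => Nat.beq (act42 i) i) 10000 10000 = true := by decide +kernel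
theorem c42_2 : allRange (fun i => Nat.beq (act42 i) i) 20000 8160 = true := by decide +kernel
theorem h42 : ∀ i, i < T.N → Tab.relActOK T D chk42 i = true := by
  intro i hi
  rw [Tab.relActOK, ← act42_eq]
  exact (range_glue (range_of_allRange c42_0) (range_glue (range_of_allRange c42_1) (range_of_allRange c42_2))) i (Nat.zero_le _) hi

def chk45 : List Nat := [8, 8]
noncomputable def act45 (i : Nat) : Nat := col9 (col9 (i))
theorem act45_eq (i : Nat) : act45 i = Tab.act T D chk45 i := rfl
theorem c45_0 : allRange (fun i => Nat.beq (act45 i) i) 0 15000 = true := by decide +kernel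
theorem c45_1 : allRange (fun i => Nat.beq (act45 i) i) 15000 13160 = true := by decide +kernel
theorem h45 : ∀ i, i < T.N → Tab.relActOK T D chk45 i = true := by
  intro i hi
  rw [Tab.relActOK, ← act45_eq]
  exact (range_glue (range_of_allRange c45_0) (range_of_allRange c45_1)) i (Nat.zero_le _) hi

def chk46 : List Nat := [8, 14, 8, 14]
noncomputable def act46 (i : Nat) : Nat := col9 (col15 (col9 (col15 (i))))
theorem act46_eq (i : Nat) : act46 i = Tab.act T D chk46 i := rfl
theorem c46_0 : allRange (fun i => Nat.beq (act46 i) i) 0 10000 = true := by decide +kernel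
theorem c46_1 : allRange (fun i => Nat.beq (act46 i) i) 10000 10000 = true := by decide +kernel
theorem c46_2 : allRange (fun i => Nat.beq (act46 i) i) 20000 8160 = true := by decide +kernel
theorem h46 : ∀ i, i < T.N → Tab.relActOK T D chk46 i = true := by
  intro i hi
  rw [Tab.relActOK, ← act46_eq]
  exact (range_glue (range_of_allRange c46_0) (range_glue (range_of_allRange c46_1) (range_of_allRange c46_2))) i (Nat.zero_le _) hi

def chk47 : List Nat := [8, 10, 8, 10, 8, 10]
noncomputable def act47 (i : Nat) : Nat := col9 (col11 (col9 (col11 (col9 (col11 (i))))))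
theorem act47_eq (i : Nat) : act47 i = Tab.act T D chk47 i := rfl
theorem c47_0 : allRange (fun i => Nat.beq (act47 i) i) 0 7500 = true := by decide +kernel
theorem c47_1 : allRange (fun i => Nat.beq (act47 i) i) 7500 7500 = true := by decide +kernel
theorem c47_2 : allRange (fun i => Nat.beq (act47 i) i) 15000 7500 = true := by decide +kernel
theorem c47_3 : allRange (fun i => Nat.beq (act47 i) i) 22500 5660 = true := by decide +kernel
theorem h47 : ∀ i, i < T.N → Tab.relActOK T D chk47 i = true := by
  intro i hi
  rw [Tab.relActOK, ← act47_eq]
  exact (range_glue (range_of_allRange c47_0) (range_glue (range_of_allRange c47_1) (range_glue (range_of_allRange c47_2) (range_of_allRange c47_3)))) i (Nat.zero_le _) hi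

def chk51 : List Nat := [14, 10, 14, 10]
noncomputable def act51 (i : Nat) : Nat := col15 (col11 (col15 (col11 (i))))
theorem act51_eq (i : Nat) : act51 i = Tab.act T D chk51 i := rfl
theorem c51_0 : allRange (fun i => Nat.beq (act51 i) i) 0 10000 = true := by decide +kernel
theorem c51_1 : allRange (fun i => Nat.beq (act51 i) i) 10000 10000 = true := by decide +kernel
theorem c51_2 : allRange (fun i => Nat.beq (act51 i) i) 20000 8160 = true := by decide +kernel
theorem h51 : ∀ i, i < T.N → Tab.relActOK T D chk51 i = true := by
  intro i hi
  rw [Tab.relActOK, ← act51_eq]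
  exact (range_glue (range_of_allRange c51_0) (range_glue (range_of_allRange c51_1) (range_of_allRange c51_2))) i (Nat.zero_le _) hi

def chk53 : List Nat := [14, 16, 14, 16, 14, 16]
noncomputable def act53 (i : Nat) : Nat := col15 (col17 (col15 (col17 (col15 (col17 (i))))))
theorem act53_eq (i : Nat) : act53 i = Tab.act T D chk53 i := rfl
theorem c53_0 : allRange (fun i => Nat.beq (act53 i) i) 0 7500 = true := by decide +kernel
theorem c53_1 : allRange (fun i => Nat.beq (act53 i) i) 7500 7500 = true := by decide +kernel
theorem c53_2 : allRange (fun i => Nat.beq (act53 i) i) 15000 7500 = true := by decide +kernel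
theorem c53_3 : allRange (fun i => Nat.beq (act53 i) i) 22500 5660 = true := by decide +kernel
theorem h53 : ∀ i, i < T.N → Tab.relActOK T D chk53 i = true := by
  intro i hi
  rw [Tab.relActOK, ← act53_eq]
  exact (range_glue (range_of_allRange c53_0) (range_glue (range_of_allRange c53_1) (range_glue (range_of_allRange c53_2) (range_of_allRange c53_3)))) i (Nat.zero_le _) hi

def chk57 : List Nat := [12, 12]
noncomputable def act57 (i : Nat) : Nat := col13 (col13 (i))
theorem act57_eq (i : Nat) : act57 i = Tab.act T D chk57 i := rfl
theorem c57_0 : allRange (fun i => Nat.beq (act57 i) i) 0 15000 = true := by decide +kernel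
theorem c57_1 : allRange (fun i => Nat.beq (act57 i) i) 15000 13160 = true := by decide +kernel
theorem h57 : ∀ i, i < T.N → Tab.relActOK T D chk57 i = true := by
  intro i hi
  rw [Tab.relActOK, ← act57_eq]
  exact (range_glue (range_of_allRange c57_0) (range_of_allRange c57_1)) i (Nat.zero_le _) hi

def chk58 : List Nat := [12, 16, 12, 16]
noncomputable def act58 (i : Nat) : Nat := col13 (col17 (col13 (col17 (i))))
theorem act58_eq (i : Nat) : act58 i = Tab.act T D chk58 i := rfl
theorem c58_0 : allRange (fun i => Nat.beq (act58 i) i) 0 10000 = true := by decide +kernel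
theorem c58_1 : allRange (fun i => Nat.beq (act58 i) i) 10000 10000 = true := by decide +kernel
theorem c58_2 : allRange (fun i => Nat.beq (act58 i) i) 20000 8160 = true := by decide +kernel
theorem h58 : ∀ i, i < T.N → Tab.relActOK T D chk58 i = true := by
  intro i hi
  rw [Tab.relActOK, ← act58_eq]
  exact (range_glue (range_of_allRange c58_0) (range_glue (range_of_allRange c58_1) (range_of_allRange c58_2))) i (Nat.zero_le _) hi

def chk62 : List Nat := [31, 7, 30, 6]
noncomputable def act62 (i : Nat) : Nat := col30 (col6 (col31 (col7 (i))))
theorem act62_eq (i : Nat) : act62 i = Tab.act T D chk62 i := rfl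
theorem c62_0 : allRange (fun i => Nat.beq (act62 i) i) 0 10000 = true := by decide +kernel
theorem c62_1 : allRange (fun i => Nat.beq (act62 i) i) 10000 10000 = true := by decide +kernel
theorem c62_2 : allRange (fun i => Nat.beq (act62 i) i) 20000 8160 = true := by decide +kernel
theorem h62 : ∀ i, i < T.N → Tab.relActOK T D chk62 i = true := by
  intro i hi
  rw [Tab.relActOK, ← act62_eq]
  exact (range_glue (range_of_allRange c62_0) (range_glue (range_of_allRange c62_1) (range_of_allRange c62_2))) i (Nat.zero_le _) hi

def chk65 : List Nat := [31, 13, 30, 12]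
noncomputable def act65 (i : Nat) : Nat := col30 (col12 (col31 (col13 (i))))
theorem act65_eq (i : Nat) : act65 i = Tab.act T D chk65 i := rfl
theorem c65_0 : allRange (fun i => Nat.beq (act65 i) i) 0 10000 = true := by decide +kernel
theorem c65_1 : allRange (fun i => Nat.beq (act65 i) i) 10000 10000 = true := by decide +kernel
theorem c65_2 : allRange (fun i => Nat.beq (act65 i) i) 20000 8160 = true := by decide +kernel
theorem h65 : ∀ i, i < T.N → Tab.relActOK T D chk65 i = true := by
  intro i hi
  rw [Tab.relActOK, ← act65_eq]
  exact (range_glue (range_of_allRange c65_0) (range_glue (range_of_allRange c65_1) (range_of_allRange c65_2))) i (Nat.zero_le _) hi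

def chk71 : List Nat := [0, 2, 4, 6, 8, 14, 0, 2, 4, 6, 8, 14, 0, 2, 4, 6, 8, 14, 0, 2, 4, 6, 8, 14, 0, 2, 4, 6, 8, 14, 6, 0, 2, 4, 6, 8, 14, 0, 2, 4, 6, 8, 14, 0, 2, 4, 6, 8, 14, 0, 2, 4, 6, 8, 14, 0, 2, 4, 6, 8, 14, 6]
noncomputable def act71 (i : Nat) : Nat := col1 (col3 (col5 (col7 (col9 (col15 (col1 (col3 (col5 (col7 (col9 (col15 (col1 (col3 (col5 (col7 (col9 (col15 (col1 (col3 (col5 (col7 (col9 (col15 (col1 (col3 (col5 (col7 (col9 (col15 (col7 (col1 (col3 (col5 (col7 (col9 (col15 (col1 (col3 (col5 (col7 (col9 (col15 (col1 (col3 (col5 (col7 (col9 (col15 (col1 (col3 (col5 (col7 (col9 (col15 (col1 (col3 (col5 (col7 (col9 (col15 (col7 (i))))))))))))))))))))))))))))))))))))))))))))))))))))))))))))))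
theorem act71_eq (i : Nat) : act71 i = Tab.act T D chk71 i := rfl
theorem c71_0 : allRange (fun i => Nat.beq (act71 i) i) 0 937 = true := by decide +kernel
theorem c71_1 : allRange (fun i => Nat.beq (act71 i) i) 937 937 = true := by decide +kernel
theorem c71_2 : allRange (fun i => Nat.beq (act71 i) i) 1874 937 = true := by decide +kernel
theorem c71_3 : allRange (fun i => Nat.beq (act71 i) i) 2811 937 = true := by decide +kernel
theorem c71_4 : allRange (fun i => Nat.beq (act71 i) i) 3748 937 = true := by decide +kernel
theorem c71_5 : allRange (fun i => Nat.beq (act71 i) i) 4685 937 = true := by decide +kernel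
theorem c71_6 : allRange (fun i => Nat.beq (act71 i) i) 5622 937 = true := by decide +kernel
theorem c71_7 : allRange (fun i => Nat.beq (act71 i) i) 6559 937 = true := by decide +kernel
theorem c71_8 : allRange (fun i => Nat.beq (act71 i) i) 7496 937 = true := by decide +kernel
theorem c71_9 : allRange (fun i => Nat.beq (act71 i) i) 8433 937 = true := by decide +kernel
theorem c71_10 : allRange (fun i => Nat.beq (act71 i) i) 9370 937 = true := by decide +kernel
theorem c71_11 : allRange (fun i => Nat.beq (act71 i) i) 10307 937 = true := by decide +kernel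
theorem c71_12 : allRange (fun i => Nat.beq (act71 i) i) 11244 937 = true := by decide +kernel
theorem c71_13 : allRange (fun i => Nat.beq (act71 i) i) 12181 937 = true := by decide +kernel
theorem c71_14 : allRange (fun i => Nat.beq (act71 i) i) 13118 937 = true := by decide +kernel
theorem c71_15 : allRange (fun i => Nat.beq (act71 i) i) 14055 937 = true := by decide +kernel
theorem c71_16 : allRange (fun i => Nat.beq (act71 i) i) 14992 937 = true := by decide +kernel
theorem c71_17 : allRange (fun i => Nat.beq (act71 i) i) 15929 937 = true := by decide +kernel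
theorem c71_18 : allRange (fun i => Nat.beq (act71 i) i) 16866 937 = true := by decide +kernel
theorem c71_19 : allRange (fun i => Nat.beq (act71 i) i) 17803 937 = true := by decide +kernel
theorem c71_20 : allRange (fun i => Nat.beq (act71 i) i) 18740 937 = true := by decide +kernel
theorem c71_21 : allRange (fun i => Nat.beq (act71 i) i) 19677 937 = true := by decide +kernel
theorem c71_22 : allRange (fun i => Nat.beq (act71 i) i) 20614 937 = true := by decide +kernel
theorem c71_23 : allRange (fun i => Nat.beq (act71 i) i) 21551 937 = true := by decide +kernel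
theorem c71_24 : allRange (fun i => Nat.beq (act71 i) i) 22488 937 = true := by decide +kernel
theorem c71_25 : allRange (fun i => Nat.beq (act71 i) i) 23425 937 = true := by decide +kernel
theorem c71_26 : allRange (fun i => Nat.beq (act71 i) i) 24362 937 = true := by decide +kernel
theorem c71_27 : allRange (fun i => Nat.beq (act71 i) i) 25299 937 = true := by decide +kernel
theorem c71_28 : allRange (fun i => Nat.beq (act71 i) i) 26236 937 = true := by decide +kernel
theorem c71_29 : allRange (fun i => Nat.beq (act71 i) i) 27173 937 = true := by decide +kernel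
theorem c71_30 : allRange (fun i => Nat.beq (act71 i) i) 28110 50 = true := by decide +kernel
theorem h71 : ∀ i, i < T.N → Tab.relActOK T D chk71 i = true := by
  intro i hi
  rw [Tab.relActOK, ← act71_eq]
  exact (range_glue (range_of_allRange c71_0) (range_glue (range_of_allRange c71_1) (range_glue (range_of_allRange c71_2) (range_glue (range_of_allRange c71_3) (range_glue (range_of_allRange c71_4) (range_glue (range_of_allRange c71_5) (range_glue (range_of_allRange c71_6) (range_glue (range_of_allRange c71_7) (range_glue (range_of_allRange c71_8) (range_glue (range_of_allRange c71_9) (range_glue (range_of_allRange c71_10) (range_glue (range_of_allRange c71_11) (range_glue (range_of_allRange c71_12) (range_glue (range_of_allRange c71_13) (range_glue (range_of_allRange c71_14) (range_glue (range_of_allRange c71_15) (range_glue (range_of_allRange c71_16) (range_glue (range_of_allRange c71_17) (range_glue (range_of_allRange c71_18) (range_glue (range_of_allRange c71_19) (range_glue (range_of_allRange c71_20) (range_glue (range_of_allRange c71_21) (range_glue (range_of_allRange c71_22) (range_glue (range_of_allRange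 c71_23) (range_glue (range_of_allRange c71_24) (range_glue (range_of_allRange c71_25) (range_glue (range_of_allRange c71_26) (range_glue (range_of_allRange c71_27) (range_glue (range_of_allRange c71_28) (range_glue (range_of_allRange c71_29) (range_of_allRange c71_30))))))))))))))))))))))))))))))) i (Nat.zero_le _) hi

def chk74 : List Nat := [0, 2, 4, 6, 8, 14, 0, 2, 4, 6, 8, 14, 0, 2, 4, 6, 8, 14, 0, 2, 4, 6, 8, 14, 0, 2, 4, 6, 8, 14, 14, 0, 2, 4, 6, 8, 14, 0, 2, 4, 6, 8, 14, 0, 2, 4, 6, 8, 14, 0, 2, 4, 6, 8, 14, 0, 2, 4, 6, 8, 14, 14]
noncomputable def act74 (i : Nat) : Nat := col1 (col3 (col5 (col7 (col9 (col15 (col1 (col3 (col5 (col7 (col9 (col15 (col1 (col3 (col5 (col7 (col9 (col15 (col1 (col3 (col5 (col7 (col9 (col15 (col1 (col3 (col5 (col7 (col9 (col15 (col15 (col1 (col3 (col5 (col7 (col9 (col15 (col1 (col3 (col5 (col7 (col9 (col15 (col1 (col3 (col5 (col7 (col9 (col15 (col1 (col3 (col5 (col7 (col9 (col15 (col1 (col3 (col5 (col7 (col9 (col15 (col15 (i))))))))))))))))))))))))))))))))))))))))))))))))))))))))))))))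
theorem act74_eq (i : Nat) : act74 i = Tab.act T D chk74 i := rfl
theorem c74_0 : allRange (fun i => Nat.beq (act74 i) i) 0 937 = true := by decide +kernel
theorem c74_1 : allRange (fun i => Nat.beq (act74 i) i) 937 937 = true := by decide +kernel
theorem c74_2 : allRange (fun i => Nat.beq (act74 i) i) 1874 937 = true := by decide +kernel
theorem c74_3 : allRange (fun i => Nat.beq (act74 i) i) 2811 937 = true := by decide +kernel
theorem c74_4 : allRange (fun i => Nat.beq (act74 i) i) 3748 937 = true := by decide +kernel
theorem c74_5 : allRange (fun i => Nat.beq (act74 i) i) 4685 937 = true := by decide +kernel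
theorem c74_6 : allRange (fun i => Nat.beq (act74 i) i) 5622 937 = true := by decide +kernel
theorem c74_7 : allRange (fun i => Nat.beq (act74 i) i) 6559 937 = true := by decide +kernel
theorem c74_8 : allRange (fun i => Nat.beq (act74 i) i) 7496 937 = true := by decide +kernel
theorem c74_9 : allRange (fun i => Nat.beq (act74 i) i) 8433 937 = true := by decide +kernel
theorem c74_10 : allRange (fun i => Nat.beq (act74 i) i) 9370 937 = true := by decide +kernel
theorem c74_11 : allRange (fun i => Nat.beq (act74 i) i) 10307 937 = true := by decide +kernel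
theorem c74_12 : allRange (fun i => Nat.beq (act74 i) i) 11244 937 = true := by decide +kernel
theorem c74_13 : allRange (fun i => Nat.beq (act74 i) i) 12181 937 = true := by decide +kernel
theorem c74_14 : allRange (fun i => Nat.beq (act74 i) i) 13118 937 = true := by decide +kernel
theorem c74_15 : allRange (fun i => Nat.beq (act74 i) i) 14055 937 = true := by decide +kernel
theorem c74_16 : allRange (fun i => Nat.beq (act74 i) i) 14992 937 = true := by decide +kernel
theorem c74_17 : allRange (fun i => Nat.beq (act74 i) i) 15929 937 = true := by decide +kernel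
theorem c74_18 : allRange (fun i => Nat.beq (act74 i) i) 16866 937 = true := by decide +kernel
theorem c74_19 : allRange (fun i => Nat.beq (act74 i) i) 17803 937 = true := by decide +kernel
theorem c74_20 : allRange (fun i => Nat.beq (act74 i) i) 18740 937 = true := by decide +kernel
theorem c74_21 : allRange (fun i => Nat.beq (act74 i) i) 19677 937 = true := by decide +kernel
theorem c74_22 : allRange (fun i => Nat.beq (act74 i) i) 20614 937 = true := by decide +kernel
theorem c74_23 : allRange (fun i => Nat.beq (act74 i) i) 21551 937 = true := by decide +kernel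
theorem c74_24 : allRange (fun i => Nat.beq (act74 i) i) 22488 937 = true := by decide +kernel
theorem c74_25 : allRange (fun i => Nat.beq (act74 i) i) 23425 937 = true := by decide +kernel
theorem c74_26 : allRange (fun i => Nat.beq (act74 i) i) 24362 937 = true := by decide +kernel
theorem c74_27 : allRange (fun i => Nat.beq (act74 i) i) 25299 937 = true := by decide +kernel
theorem c74_28 : allRange (fun i => Nat.beq (act74 i) i) 26236 937 = true := by decide +kernel
theorem c74_29 : allRange (fun i => Nat.beq (act74 i) i) 27173 937 = true := by decide +kernel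
theorem c74_30 : allRange (fun i => Nat.beq (act74 i) i) 28110 50 = true := by decide +kernel
theorem h74 : ∀ i, i < T.N → Tab.relActOK T D chk74 i = true := by
  intro i hi
  rw [Tab.relActOK, ← act74_eq]
  exact (range_glue (range_of_allRange c74_0) (range_glue (range_of_allRange c74_1) (range_glue (range_of_allRange c74_2) (range_glue (range_of_allRange c74_3) (range_glue (range_of_allRange c74_4) (range_glue (range_of_allRange c74_5) (range_glue (range_of_allRange c74_6) (range_glue (range_of_allRange c74_7) (range_glue (range_of_allRange c74_8) (range_glue (range_of_allRange c74_9) (range_glue (range_of_allRange c74_10) (range_glue (range_of_allRange c74_11) (range_glue (range_of_allRange c74_12) (range_glue (range_of_allRange c74_13) (range_glue (range_of_allRange c74_14) (range_glue (range_of_allRange c74_15) (range_glue (range_of_allRange c74_16) (range_glue (range_of_allRange c74_17) (range_glue (range_of_allRange c74_18) (range_glue (range_of_allRange c74_19) (range_glue (range_of_allRange c74_20) (range_glue (range_of_allRange c74_21) (range_glue (range_of_allRange c74_22) (range_glue (range_of_allRange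 c74_23) (range_glue (range_of_allRange c74_24) (range_glue (range_of_allRange c74_25) (range_glue (range_of_allRange c74_26) (range_glue (range_of_allRange c74_27) (range_glue (range_of_allRange c74_28) (range_glue (range_of_allRange c74_29) (range_of_allRange c74_30))))))))))))))))))))))))))))))) i (Nat.zero_le _) hi

def chk75 : List Nat := [0, 2, 4, 6, 8, 14, 0, 2, 4, 6, 8, 14, 0, 2, 4, 6, 8, 14, 0, 2, 4, 6, 8, 14, 0, 2, 4, 6, 8, 14, 10, 0, 2, 4, 6, 8, 14, 0, 2, 4, 6, 8, 14, 0, 2, 4, 6, 8, 14, 0, 2, 4, 6, 8, 14, 0, 2, 4, 6, 8, 14, 10, 0, 2, 4, 6, 8, 14, 0, 2, 4, 6, 8, 14, 0, 2, 4, 6, 8, 14, 0, 2, 4, 6, 8, 14, 0, 2, 4, 6, 8, 14, 10, 31]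
noncomputable def act75 (i : Nat) : Nat := col1 (col3 (col5 (col7 (col9 (col15 (col1 (col3 (col5 (col7 (col9 (col15 (col1 (col3 (col5 (col7 (col9 (col15 (col1 (col3 (col5 (col7 (col9 (col15 (col1 (col3 (col5 (col7 (col9 (col15 (col11 (col1 (col3 (col5 (col7 (col9 (col15 (col1 (col3 (col5 (col7 (col9 (col15 (col1 (col3 (col5 (col7 (col9 (col15 (col1 (col3 (col5 (col7 (col9 (col15 (col1 (col3 (col5 (col7 (col9 (col15 (col11 (col1 (col3 (col5 (col7 (col9 (col15 (col1 (col3 (col5 (col7 (col9 (col15 (col1 (col3 (col5 (col7 (col9 (col15 (col1 (col3 (col5 (col7 (col9 (col15 (col1 (col3 (col5 (col7 (col9 (col15 (col11 (col30 (i))))))))))))))))))))))))))))))))))))))))))))))))))))))))))))))))))))))))))))))))))))))))))))))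
theorem act75_eq (i : Nat) : act75 i = Tab.act T D chk75 i := rfl
theorem c75_0 : allRange (fun i => Nat.beq (act75 i) i) 0 625 = true := by decide +kernel
theorem c75_1 : allRange (fun i => Nat.beq (act75 i) i) 625 625 = true := by decide +kernel
theorem c75_2 : allRange (fun i => Nat.beq (act75 i) i) 1250 625 = true := by decide +kernel
theorem c75_3 : allRange (fun i => Nat.beq (act75 i) i) 1875 625 = true := by decide +kernel
theorem c75_4 : allRange (fun i => Nat.beq (act75 i) i) 2500 625 = true := by decide +kernel
theorem c75_5 : allRange (fun i => Nat.beq (act75 i) i) 3125 625 = true := by decide +kernel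
theorem c75_6 : allRange (fun i => Nat.beq (act75 i) i) 3750 625 = true := by decide +kernel
theorem c75_7 : allRange (fun i => Nat.beq (act75 i) i) 4375 625 = true := by decide +kernel
theorem c75_8 : allRange (fun i => Nat.beq (act75 i) i) 5000 625 = true := by decide +kernel
theorem c75_9 : allRange (fun i => Nat.beq (act75 i) i) 5625 625 = true := by decide +kernel
theorem c75_10 : allRange (fun i => Nat.beq (act75 i) i) 6250 625 = true := by decide +kernel
theorem c75_11 : allRange (fun i => Nat.beq (act75 i) i) 6875 625 = true := by decide +kernel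
theorem c75_12 : allRange (fun i => Nat.beq (act75 i) i) 7500 625 = true := by decide +kernel
theorem c75_13 : allRange (fun i => Nat.beq (act75 i) i) 8125 625 = true := by decide +kernel
theorem c75_14 : allRange (fun i => Nat.beq (act75 i) i) 8750 625 = true := by decide +kernel
theorem c75_15 : allRange (fun i => Nat.beq (act75 i) i) 9375 625 = true := by decide +kernel
theorem c75_16 : allRange (fun i => Nat.beq (act75 i) i) 10000 625 = true := by decide +kernel
theorem c75_17 : allRange (fun i => Nat.beq (act75 i) i) 10625 625 = true := by decide +kernel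
theorem c75_18 : allRange (fun i => Nat.beq (act75 i) i) 11250 625 = true := by decide +kernel
theorem c75_19 : allRange (fun i => Nat.beq (act75 i) i) 11875 625 = true := by decide +kernel
theorem c75_20 : allRange (fun i => Nat.beq (act75 i) i) 12500 625 = true := by decide +kernel
theorem c75_21 : allRange (fun i => Nat.beq (act75 i) i) 13125 625 = true := by decide +kernel
theorem c75_22 : allRange (fun i => Nat.beq (act75 i) i) 13750 625 = true := by decide +kernel
theorem c75_23 : allRange (fun i => Nat.beq (act75 i) i) 14375 625 = true := by decide +kernel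
theorem c75_24 : allRange (fun i => Nat.beq (act75 i) i) 15000 625 = true := by decide +kernel
theorem c75_25 : allRange (fun i => Nat.beq (act75 i) i) 15625 625 = true := by decide +kernel
theorem c75_26 : allRange (fun i => Nat.beq (act75 i) i) 16250 625 = true := by decide +kernel
theorem c75_27 : allRange (fun i => Nat.beq (act75 i) i) 16875 625 = true := by decide +kernel
theorem c75_28 : allRange (fun i => Nat.beq (act75 i) i) 17500 625 = true := by decide +kernel
theorem c75_29 : allRange (fun i => Nat.beq (act75 i) i) 18125 625 = true := by decide +kernel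
theorem c75_30 : allRange (fun i => Nat.beq (act75 i) i) 18750 625 = true := by decide +kernel
theorem c75_31 : allRange (fun i => Nat.beq (act75 i) i) 19375 625 = true := by decide +kernel
theorem c75_32 : allRange (fun i => Nat.beq (act75 i) i) 20000 625 = true := by decide +kernel
theorem c75_33 : allRange (fun i => Nat.beq (act75 i) i) 20625 625 = true := by decide +kernel
theorem c75_34 : allRange (fun i => Nat.beq (act75 i) i) 21250 625 = true := by decide +kernel
theorem c75_35 : allRange (fun i => Nat.beq (act75 i) i) 21875 625 = true := by decide +kernel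
theorem c75_36 : allRange (fun i => Nat.beq (act75 i) i) 22500 625 = true := by decide +kernel
theorem c75_37 : allRange (fun i => Nat.beq (act75 i) i) 23125 625 = true := by decide +kernel
theorem c75_38 : allRange (fun i => Nat.beq (act75 i) i) 23750 625 = true := by decide +kernel
theorem c75_39 : allRange (fun i => Nat.beq (act75 i) i) 24375 625 = true := by decide +kernel
theorem c75_40 : allRange (fun i => Nat.beq (act75 i) i) 25000 625 = true := by decide +kernel
theorem c75_41 : allRange (fun i => Nat.beq (act75 i) i) 25625 625 = true := by decide +kernel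
theorem c75_42 : allRange (fun i => Nat.beq (act75 i) i) 26250 625 = true := by decide +kernel
theorem c75_43 : allRange (fun i => Nat.beq (act75 i) i) 26875 625 = true := by decide +kernel
theorem c75_44 : allRange (fun i => Nat.beq (act75 i) i) 27500 625 = true := by decide +kernel
theorem c75_45 : allRange (fun i => Nat.beq (act75 i) i) 28125 35 = true := by decide +kernel
theorem h75 : ∀ i, i < T.N → Tab.relActOK T D chk75 i = true := by
  intro i hi
  rw [Tab.relActOK, ← act75_eq]
  exact (range_glue (range_of_allRange c75_0) (range_glue (range_of_allRange c75_1) (range_glue (range_of_allRange c75_2) (range_glue (range_of_allRange c75_3) (range_glue (range_of_allRange c75_4) (range_glue (range_of_allRange c75_5) (range_glue (range_of_allRange c75_6) (range_glue (range_of_allRange c75_7) (range_glue (range_of_allRange c75_8) (range_glue (range_of_allRange c75_9) (range_glue (range_of_allRange c75_10) (range_glue (range_of_allRange c75_11) (range_glue (range_of_allRange c75_12) (range_glue (range_of_allRange c75_13) (range_glue (range_of_allRange c75_14) (range_glue (range_of_allRange c75_15) (range_glue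 (range_of_allRange c75_16) (range_glue (range_of_allRange c75_17) (range_glue (range_of_allRange c75_18) (range_glue (range_of_allRange c75_19) (range_glue (range_of_allRange c75_20) (range_glue (range_of_allRange c75_21) (range_glue (range_of_allRange c75_22) (range_glue (range_of_allRange c75_23) (range_glue (range_of_allRange c75_24) (range_glue (range_of_allRange c75_25) (range_glue (range_of_allRange c75_26) (range_glue (range_of_allRange c75_27) (range_glue (range_of_allRange c75_28) (range_glue (range_of_allRange c75_29) (range_glue (range_of_allRange c75_30) (range_glue (range_of_allRange c75_31) (range_glue (range_of_allRange c75_32) (range_glue (range_of_allRange c75_33) (range_glue (range_of_allRange c75_34) (range_glue (range_of_allRange c75_35) (range_glue (range_of_allRange c75_36) (range_glue (range_of_allRange c75_37) (range_glue (range_of_allRange c75_38) (range_glue (range_of_allRange c75_39) (range_glue (range_of_allRange c75_40) (range_glue (range_of_allRange c75_41) (range_glue (range_of_allRange c75_42) (range_glue (range_of_allRange c75_43) (range_glue (range_of_allRange c75_44)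 (range_of_allRange c75_45)))))))))))))))))))))))))))))))))))))))))))))) i (Nat.zero_le _) hi

end Cfsg.Agent.Lib.Helper4.TCD.SC2Fi22xp2W
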