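import Cfsg.Agent.Lib.Helper4.TC7
import Cfsg.Agent.Lib.Helper4.TCP_SC2HSp2
import Cfsg.Agent.Lib.Helper4.TCD_SC2HSp2A_D0
import Cfsg.Agent.Lib.Helper4.TCD_SC2HSp2A_D1
import Cfsg.Agent.Lib.Helper4.TCD_SC2HSp2A_D2
import Cfsg.Agent.Lib.Helper4.TCD_SC2HSp2A_D3
import Cfsg.Agent.Lib.Helper4.TCD_SC2HSp2A_D4
import Cfsg.Agent.Lib.Helper4.TCD_SC2HSp2A_D5
import Cfsg.Agent.Lib.Helper4.TCD_SC2HSp2A_D6
import Cfsg.Agent.Lib.Helper4.TCD_SC2HSp2A_D7
import Cfsg.Agent.Lib.Helper4.TCD_SC2HSp2A_D8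
import Cfsg.Agent.Lib.Helper4.TCD_SC2HSp2A_D9

namespace Cfsg.Agent.Lib.Helper4.TCD.SC2HSp2A

open Cfsg.Agent.Lib.Helper4.TC

set_option maxRecDepth 100000

noncomputable def Atab_s_0_2 (c : Nat) : Nat := @Bool.rec (fun _ => Nat) (Atab_0) (Atab_1) (Nat.ble 1 c)
noncomputable def Atab_s_3_5 (c : Nat) : Nat := @Bool.rec (fun _ => Nat) (Atab_3) (Atab_4) (Nat.ble 4 c)
noncomputable def Atab_s_2_5 (c : Nat) : Nat := @Bool.rec (fun _ => Nat) (Atab_2) (Atab_s_3_5 c) (Nat.ble 3 c)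
noncomputable def Atab_s_0_5 (c : Nat) : Nat := @Bool.rec (fun _ => Nat) (Atab_s_0_2 c) (Atab_s_2_5 c) (Nat.ble 2 c)
noncomputable def Atab_s_5_7 (c : Nat) : Nat := @Bool.rec (fun _ => Nat) (Atab_5) (Atab_6) (Nat.ble 6 c)
noncomputable def Atab_s_8_10 (c : Nat) : Nat := @Bool.rec (fun _ => Nat) (Atab_8) (Atab_9) (Nat.ble 9 c)
noncomputable def Atab_s_7_10 (c : Nat) : Nat := @Bool.rec (fun _ => Nat) (Atab_7) (Atab_s_8_10 c) (Nat.ble 8 c)
noncomputable def Atab_s_5_10 (c : Nat) : Nat := @Bool.rec (fun _ => Nat) (Atab_s_5_7 c) (Atab_s_7_10 c) (Nat.ble 7 c)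
noncomputable def Atab_s_0_10 (c : Nat) : Nat := @Bool.rec (fun _ => Nat) (Atab_s_0_5 c) (Atab_s_5_10 c) (Nat.ble 5 c)
noncomputable def Atab_s_10_12 (c : Nat) : Nat := @Bool.rec (fun _ => Nat) (Atab_10) (Atab_11) (Nat.ble 11 c)
noncomputable def Atab_s_13_15 (c : Nat) : Nat := @Bool.rec (fun _ => Nat) (Atab_13) (Atab_14) (Nat.ble 14 c)
noncomputable def Atab_s_12_15 (c : Nat) : Nat := @Bool.rec (fun _ => Nat) (Atab_12) (Atab_s_13_15 c) (Nat.ble 13 c)
noncomputable def Atab_s_10_15 (c : Nat) : Nat := @Bool.rec (fun _ => Nat) (Atab_s_10_12 c) (Atab_s_12_15 c) (Nat.ble 12 c)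
noncomputable def Atab_s_15_17 (c : Nat) : Nat := @Bool.rec (fun _ => Nat) (Atab_15) (Atab_16) (Nat.ble 16 c)
noncomputable def Atab_s_18_20 (c : Nat) : Nat := @Bool.rec (fun _ => Nat) (Atab_18) (Atab_19) (Nat.ble 19 c)
noncomputable def Atab_s_17_20 (c : Nat) : Nat := @Bool.rec (fun _ => Nat) (Atab_17) (Atab_s_18_20 c) (Nat.ble 18 c)
noncomputable def Atab_s_15_20 (c : Nat) : Nat := @Bool.rec (fun _ => Nat) (Atab_s_15_17 c) (Atab_s_17_20 c) (Nat.ble 17 c)
noncomputable def Atab_s_10_20 (c : Nat) : Nat := @Bool.rec (fun _ => Nat) (Atab_s_10_15 c) (Atab_s_15_20 c) (Nat.ble 15 c)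
noncomputable def Atab_s_0_20 (c : Nat) : Nat := @Bool.rec (fun _ => Nat) (Atab_s_0_10 c) (Atab_s_10_20 c) (Nat.ble 10 c)
noncomputable def Atab_s_20_22 (c : Nat) : Nat := @Bool.rec (fun _ => Nat) (Atab_20) (Atab_21) (Nat.ble 21 c)
noncomputable def Atab_s_23_25 (c : Nat) : Nat := @Bool.rec (fun _ => Nat) (Atab_23) (Atab_24) (Nat.ble 24 c)
noncomputable def Atab_s_22_25 (c : Nat) : Nat := @Bool.rec (fun _ => Nat) (Atab_22) (Atab_s_23_25 c) (Nat.ble 23 c)
noncomputable def Atab_s_20_25 (c : Nat) : Nat := @Bool.rec (fun _ => Nat) (Atab_s_20_22 c) (Atab_s_22_25 c) (Nat.ble 22 c)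
noncomputable def Atab_s_25_27 (c : Nat) : Nat := @Bool.rec (fun _ => Nat) (Atab_25) (Atab_26) (Nat.ble 26 c)
noncomputable def Atab_s_28_30 (c : Nat) : Nat := @Bool.rec (fun _ => Nat) (Atab_28) (Atab_29) (Nat.ble 29 c)
noncomputable def Atab_s_27_30 (c : Nat) : Nat := @Bool.rec (fun _ => Nat) (Atab_27) (Atab_s_28_30 c) (Nat.ble 28 c)
noncomputable def Atab_s_25_30 (c : Nat) : Nat := @Bool.rec (fun _ => Nat) (Atab_s_25_27 c) (Atab_s_27_30 c) (Nat.ble 27 c)
noncomputable def Atab_s_20_30 (c : Nat) : Nat := @Bool.rec (fun _ => Nat) (Atab_s_20_25 c) (Atab_s_25_30 c) (Nat.ble 25 c)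
noncomputable def Atab_s_30_32 (c : Nat) : Nat := @Bool.rec (fun _ => Nat) (Atab_30) (Atab_31) (Nat.ble 31 c)
noncomputable def Atab_s_33_35 (c : Nat) : Nat := @Bool.rec (fun _ => Nat) (Atab_33) (Atab_34) (Nat.ble 34 c)
noncomputable def Atab_s_32_35 (c : Nat) : Nat := @Bool.rec (fun _ => Nat) (Atab_32) (Atab_s_33_35 c) (Nat.ble 33 c)
noncomputable def Atab_s_30_35 (c : Nat) : Nat := @Bool.rec (fun _ => Nat) (Atab_s_30_32 c) (Atab_s_32_35 c) (Nat.ble 32 c)
noncomputable def Atab_s_36_38 (c : Nat) : Nat := @Bool.rec (fun _ => Nat) (Atab_36) (Atab_37) (Nat.ble 37 c)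
noncomputable def Atab_s_35_38 (c : Nat) : Nat := @Bool.rec (fun _ => Nat) (Atab_35) (Atab_s_36_38 c) (Nat.ble 36 c)
noncomputable def Atab_s_39_41 (c : Nat) : Nat := @Bool.rec (fun _ => Nat) (Atab_39) (Atab_40) (Nat.ble 40 c)
noncomputable def Atab_s_38_41 (c : Nat) : Nat := @Bool.rec (fun _ => Nat) (Atab_38) (Atab_s_39_41 c) (Nat.ble 39 c)
noncomputable def Atab_s_35_41 (c : Nat) : Nat := @Bool.rec (fun _ => Nat) (Atab_s_35_38 c) (Atab_s_38_41 c) (Nat.ble 38 c)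
noncomputable def Atab_s_30_41 (c : Nat) : Nat := @Bool.rec (fun _ => Nat) (Atab_s_30_35 c) (Atab_s_35_41 c) (Nat.ble 35 c)
noncomputable def Atab_s_20_41 (c : Nat) : Nat := @Bool.rec (fun _ => Nat) (Atab_s_20_30 c) (Atab_s_30_41 c) (Nat.ble 30 c)
noncomputable def Atab_s_0_41 (c : Nat) : Nat := @Bool.rec (fun _ => Nat) (Atab_s_0_20 c) (Atab_s_20_41 c) (Nat.ble 20 c)
noncomputable def Atab_s_41_43 (c : Nat) : Nat := @Bool.rec (fun _ => Nat) (Atab_41) (Atab_42) (Nat.ble 42 c)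
noncomputable def Atab_s_44_46 (c : Nat) : Nat := @Bool.rec (fun _ => Nat) (Atab_44) (Atab_45) (Nat.ble 45 c)
noncomputable def Atab_s_43_46 (c : Nat) : Nat := @Bool.rec (fun _ => Nat) (Atab_43) (Atab_s_44_46 c) (Nat.ble 44 c)
noncomputable def Atab_s_41_46 (c : Nat) : Nat := @Bool.rec (fun _ => Nat) (Atab_s_41_43 c) (Atab_s_43_46 c) (Nat.ble 43 c)
noncomputable def Atab_s_46_48 (c : Nat) : Nat := @Bool.rec (fun _ => Nat) (Atab_46) (Atab_47) (Nat.ble 47 c)
noncomputable def Atab_s_49_51 (c : Nat) : Nat := @Bool.rec (fun _ => Nat) (Atab_49) (Atab_50) (Nat.ble 50 c)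
noncomputable def Atab_s_48_51 (c : Nat) : Nat := @Bool.rec (fun _ => Nat) (Atab_48) (Atab_s_49_51 c) (Nat.ble 49 c)
noncomputable def Atab_s_46_51 (c : Nat) : Nat := @Bool.rec (fun _ => Nat) (Atab_s_46_48 c) (Atab_s_48_51 c) (Nat.ble 48 c)
noncomputable def Atab_s_41_51 (c : Nat) : Nat := @Bool.rec (fun _ => Nat) (Atab_s_41_46 c) (Atab_s_46_51 c) (Nat.ble 46 c)
noncomputable def Atab_s_51_53 (c : Nat) : Nat := @Bool.rec (fun _ => Nat) (Atab_51) (Atab_52) (Nat.ble 52 c)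
noncomputable def Atab_s_54_56 (c : Nat) : Nat := @Bool.rec (fun _ => Nat) (Atab_54) (Atab_55) (Nat.ble 55 c)
noncomputable def Atab_s_53_56 (c : Nat) : Nat := @Bool.rec (fun _ => Nat) (Atab_53) (Atab_s_54_56 c) (Nat.ble 54 c)
noncomputable def Atab_s_51_56 (c : Nat) : Nat := @Bool.rec (fun _ => Nat) (Atab_s_51_53 c) (Atab_s_53_56 c) (Nat.ble 53 c)
noncomputable def Atab_s_56_58 (c : Nat) : Nat := @Bool.rec (fun _ => Nat) (Atab_56) (Atab_57) (Nat.ble 57 c)
noncomputable def Atab_s_59_61 (c : Nat) : Nat := @Bool.rec (fun _ => Nat) (Atab_59) (Atab_60) (Nat.ble 60 c)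
noncomputable def Atab_s_58_61 (c : Nat) : Nat := @Bool.rec (fun _ => Nat) (Atab_58) (Atab_s_59_61 c) (Nat.ble 59 c)
noncomputable def Atab_s_56_61 (c : Nat) : Nat := @Bool.rec (fun _ => Nat) (Atab_s_56_58 c) (Atab_s_58_61 c) (Nat.ble 58 c)
noncomputable def Atab_s_51_61 (c : Nat) : Nat := @Bool.rec (fun _ => Nat) (Atab_s_51_56 c) (Atab_s_56_61 c) (Nat.ble 56 c)
noncomputable def Atab_s_41_61 (c : Nat) : Nat := @Bool.rec (fun _ => Nat) (Atab_s_41_51 c) (Atab_s_51_61 c) (Nat.ble 51 c)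
noncomputable def Atab_s_61_63 (c : Nat) : Nat := @Bool.rec (fun _ => Nat) (Atab_61) (Atab_62) (Nat.ble 62 c)
noncomputable def Atab_s_64_66 (c : Nat) : Nat := @Bool.rec (fun _ => Nat) (Atab_64) (Atab_65) (Nat.ble 65 c)
noncomputable def Atab_s_63_66 (c : Nat) : Nat := @Bool.rec (fun _ => Nat) (Atab_63) (Atab_s_64_66 c) (Nat.ble 64 c)
noncomputable def Atab_s_61_66 (c : Nat) : Nat := @Bool.rec (fun _ => Nat) (Atab_s_61_63 c) (Atab_s_63_66 c) (Nat.ble 63 c)
noncomputable def Atab_s_66_68 (c : Nat) : Nat := @Bool.rec (fun _ => Nat) (Atab_66) (Atab_67) (Nat.ble 67 c)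
noncomputable def Atab_s_69_71 (c : Nat) : Nat := @Bool.rec (fun _ => Nat) (Atab_69) (Atab_70) (Nat.ble 70 c)
noncomputable def Atab_s_68_71 (c : Nat) : Nat := @Bool.rec (fun _ => Nat) (Atab_68) (Atab_s_69_71 c) (Nat.ble 69 c)
noncomputable def Atab_s_66_71 (c : Nat) : Nat := @Bool.rec (fun _ => Nat) (Atab_s_66_68 c) (Atab_s_68_71 c) (Nat.ble 68 c)
noncomputable def Atab_s_61_71 (c : Nat) : Nat := @Bool.rec (fun _ => Nat) (Atab_s_61_66 c) (Atab_s_66_71 c) (Nat.ble 66 c)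
noncomputable def Atab_s_71_73 (c : Nat) : Nat := @Bool.rec (fun _ => Nat) (Atab_71) (Atab_72) (Nat.ble 72 c)
noncomputable def Atab_s_74_76 (c : Nat) : Nat := @Bool.rec (fun _ => Nat) (Atab_74) (Atab_75) (Nat.ble 75 c)
noncomputable def Atab_s_73_76 (c : Nat) : Nat := @Bool.rec (fun _ => Nat) (Atab_73) (Atab_s_74_76 c) (Nat.ble 74 c)
noncomputable def Atab_s_71_76 (c : Nat) : Nat := @Bool.rec (fun _ => Nat) (Atab_s_71_73 c) (Atab_s_73_76 c) (Nat.ble 73 c)
noncomputable def Atab_s_77_79 (c : Nat) : Nat := @Bool.rec (fun _ => Nat) (Atab_77) (Atab_78) (Nat.ble 78 c)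
noncomputable def Atab_s_76_79 (c : Nat) : Nat := @Bool.rec (fun _ => Nat) (Atab_76) (Atab_s_77_79 c) (Nat.ble 77 c)
noncomputable def Atab_s_80_82 (c : Nat) : Nat := @Bool.rec (fun _ => Nat) (Atab_80) (Atab_81) (Nat.ble 81 c)
noncomputable def Atab_s_79_82 (c : Nat) : Nat := @Bool.rec (fun _ => Nat) (Atab_79) (Atab_s_80_82 c) (Nat.ble 80 c)
noncomputable def Atab_s_76_82 (c : Nat) : Nat := @Bool.rec (fun _ => Nat) (Atab_s_76_79 c) (Atab_s_79_82 c) (Nat.ble 79 c)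
noncomputable def Atab_s_71_82 (c : Nat) : Nat := @Bool.rec (fun _ => Nat) (Atab_s_71_76 c) (Atab_s_76_82 c) (Nat.ble 76 c)
noncomputable def Atab_s_61_82 (c : Nat) : Nat := @Bool.rec (fun _ => Nat) (Atab_s_61_71 c) (Atab_s_71_82 c) (Nat.ble 71 c)
noncomputable def Atab_s_41_82 (c : Nat) : Nat := @Bool.rec (fun _ => Nat) (Atab_s_41_61 c) (Atab_s_61_82 c) (Nat.ble 61 c)
noncomputable def Atab_s_0_82 (c : Nat) : Nat := @Bool.rec (fun _ => Nat) (Atab_s_0_41 c) (Atab_s_41_82 c) (Nat.ble 41 c)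
noncomputable def Atab_s_82_84 (c : Nat) : Nat := @Bool.rec (fun _ => Nat) (Atab_82) (Atab_83) (Nat.ble 83 c)
noncomputable def Atab_s_85_87 (c : Nat) : Nat := @Bool.rec (fun _ => Nat) (Atab_85) (Atab_86) (Nat.ble 86 c)
noncomputable def Atab_s_84_87 (c : Nat) : Nat := @Bool.rec (fun _ => Nat) (Atab_84) (Atab_s_85_87 c) (Nat.ble 85 c)
noncomputable def Atab_s_82_87 (c : Nat) : Nat := @Bool.rec (fun _ => Nat) (Atab_s_82_84 c) (Atab_s_84_87 c) (Nat.ble 84 c)
noncomputable def Atab_s_87_89 (c : Nat) : Nat := @Bool.rec (fun _ => Nat) (Atab_87) (Atab_88) (Nat.ble 88 c)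
noncomputable def Atab_s_90_92 (c : Nat) : Nat := @Bool.rec (fun _ => Nat) (Atab_90) (Atab_91) (Nat.ble 91 c)
noncomputable def Atab_s_89_92 (c : Nat) : Nat := @Bool.rec (fun _ => Nat) (Atab_89) (Atab_s_90_92 c) (Nat.ble 90 c)
noncomputable def Atab_s_87_92 (c : Nat) : Nat := @Bool.rec (fun _ => Nat) (Atab_s_87_89 c) (Atab_s_89_92 c) (Nat.ble 89 c)
noncomputable def Atab_s_82_92 (c : Nat) : Nat := @Bool.rec (fun _ => Nat) (Atab_s_82_87 c) (Atab_s_87_92 c) (Nat.ble 87 c)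
noncomputable def Atab_s_92_94 (c : Nat) : Nat := @Bool.rec (fun _ => Nat) (Atab_92) (Atab_93) (Nat.ble 93 c)
noncomputable def Atab_s_95_97 (c : Nat) : Nat := @Bool.rec (fun _ => Nat) (Atab_95) (Atab_96) (Nat.ble 96 c)
noncomputable def Atab_s_94_97 (c : Nat) : Nat := @Bool.rec (fun _ => Nat) (Atab_94) (Atab_s_95_97 c) (Nat.ble 95 c)
noncomputable def Atab_s_92_97 (c : Nat) : Nat := @Bool.rec (fun _ => Nat) (Atab_s_92_94 c) (Atab_s_94_97 c) (Nat.ble 94 c)
noncomputable def Atab_s_97_99 (c : Nat) : Nat := @Bool.rec (fun _ => Nat) (Atab_97) (Atab_98) (Nat.ble 98 c)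
noncomputable def Atab_s_100_102 (c : Nat) : Nat := @Bool.rec (fun _ => Nat) (Atab_100) (Atab_101) (Nat.ble 101 c)
noncomputable def Atab_s_99_102 (c : Nat) : Nat := @Bool.rec (fun _ => Nat) (Atab_99) (Atab_s_100_102 c) (Nat.ble 100 c)
noncomputable def Atab_s_97_102 (c : Nat) : Nat := @Bool.rec (fun _ => Nat) (Atab_s_97_99 c) (Atab_s_99_102 c) (Nat.ble 99 c)
noncomputable def Atab_s_92_102 (c : Nat) : Nat := @Bool.rec (fun _ => Nat) (Atab_s_92_97 c) (Atab_s_97_102 c) (Nat.ble 97 c)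
noncomputable def Atab_s_82_102 (c : Nat) : Nat := @Bool.rec (fun _ => Nat) (Atab_s_82_92 c) (Atab_s_92_102 c) (Nat.ble 92 c)
noncomputable def Atab_s_102_104 (c : Nat) : Nat := @Bool.rec (fun _ => Nat) (Atab_102) (Atab_103) (Nat.ble 103 c)
noncomputable def Atab_s_105_107 (c : Nat) : Nat := @Bool.rec (fun _ => Nat) (Atab_105) (Atab_106) (Nat.ble 106 c)
noncomputable def Atab_s_104_107 (c : Nat) : Nat := @Bool.rec (fun _ => Nat) (Atab_104) (Atab_s_105_107 c) (Nat.ble 105 c)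
noncomputable def Atab_s_102_107 (c : Nat) : Nat := @Bool.rec (fun _ => Nat) (Atab_s_102_104 c) (Atab_s_104_107 c) (Nat.ble 104 c)
noncomputable def Atab_s_107_109 (c : Nat) : Nat := @Bool.rec (fun _ => Nat) (Atab_107) (Atab_108) (Nat.ble 108 c)
noncomputable def Atab_s_110_112 (c : Nat) : Nat := @Bool.rec (fun _ => Nat) (Atab_110) (Atab_111) (Nat.ble 111 c)
noncomputable def Atab_s_109_112 (c : Nat) : Nat := @Bool.rec (fun _ => Nat) (Atab_109) (Atab_s_110_112 c) (Nat.ble 110 c)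
noncomputable def Atab_s_107_112 (c : Nat) : Nat := @Bool.rec (fun _ => Nat) (Atab_s_107_109 c) (Atab_s_109_112 c) (Nat.ble 109 c)
noncomputable def Atab_s_102_112 (c : Nat) : Nat := @Bool.rec (fun _ => Nat) (Atab_s_102_107 c) (Atab_s_107_112 c) (Nat.ble 107 c)
noncomputable def Atab_s_112_114 (c : Nat) : Nat := @Bool.rec (fun _ => Nat) (Atab_112) (Atab_113) (Nat.ble 113 c)
noncomputable def Atab_s_115_117 (c : Nat) : Nat := @Bool.rec (fun _ => Nat) (Atab_115) (Atab_116) (Nat.ble 116 c)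
noncomputable def Atab_s_114_117 (c : Nat) : Nat := @Bool.rec (fun _ => Nat) (Atab_114) (Atab_s_115_117 c) (Nat.ble 115 c)
noncomputable def Atab_s_112_117 (c : Nat) : Nat := @Bool.rec (fun _ => Nat) (Atab_s_112_114 c) (Atab_s_114_117 c) (Nat.ble 114 c)
noncomputable def Atab_s_118_120 (c : Nat) : Nat := @Bool.rec (fun _ => Nat) (Atab_118) (Atab_119) (Nat.ble 119 c)
noncomputable def Atab_s_117_120 (c : Nat) : Nat := @Bool.rec (fun _ => Nat) (Atab_117) (Atab_s_118_120 c) (Nat.ble 118 c)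
noncomputable def Atab_s_121_123 (c : Nat) : Nat := @Bool.rec (fun _ => Nat) (Atab_121) (Atab_122) (Nat.ble 122 c)
noncomputable def Atab_s_120_123 (c : Nat) : Nat := @Bool.rec (fun _ => Nat) (Atab_120) (Atab_s_121_123 c) (Nat.ble 121 c)
noncomputable def Atab_s_117_123 (c : Nat) : Nat := @Bool.rec (fun _ => Nat) (Atab_s_117_120 c) (Atab_s_120_123 c) (Nat.ble 120 c)
noncomputable def Atab_s_112_123 (c : Nat) : Nat := @Bool.rec (fun _ => Nat) (Atab_s_112_117 c) (Atab_s_117_123 c) (Nat.ble 117 c)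
noncomputable def Atab_s_102_123 (c : Nat) : Nat := @Bool.rec (fun _ => Nat) (Atab_s_102_112 c) (Atab_s_112_123 c) (Nat.ble 112 c)
noncomputable def Atab_s_82_123 (c : Nat) : Nat := @Bool.rec (fun _ => Nat) (Atab_s_82_102 c) (Atab_s_102_123 c) (Nat.ble 102 c)
noncomputable def Atab_s_123_125 (c : Nat) : Nat := @Bool.rec (fun _ => Nat) (Atab_123) (Atab_124) (Nat.ble 124 c)
noncomputable def Atab_s_126_128 (c : Nat) : Nat := @Bool.rec (fun _ => Nat) (Atab_126) (Atab_127) (Nat.ble 127 c)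
noncomputable def Atab_s_125_128 (c : Nat) : Nat := @Bool.rec (fun _ => Nat) (Atab_125) (Atab_s_126_128 c) (Nat.ble 126 c)
noncomputable def Atab_s_123_128 (c : Nat) : Nat := @Bool.rec (fun _ => Nat) (Atab_s_123_125 c) (Atab_s_125_128 c) (Nat.ble 125 c)
noncomputable def Atab_s_128_130 (c : Nat) : Nat := @Bool.rec (fun _ => Nat) (Atab_128) (Atab_129) (Nat.ble 129 c)
noncomputable def Atab_s_131_133 (c : Nat) : Nat := @Bool.rec (fun _ => Nat) (Atab_131) (Atab_132) (Nat.ble 132 c)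
noncomputable def Atab_s_130_133 (c : Nat) : Nat := @Bool.rec (fun _ => Nat) (Atab_130) (Atab_s_131_133 c) (Nat.ble 131 c)
noncomputable def Atab_s_128_133 (c : Nat) : Nat := @Bool.rec (fun _ => Nat) (Atab_s_128_130 c) (Atab_s_130_133 c) (Nat.ble 130 c)
noncomputable def Atab_s_123_133 (c : Nat) : Nat := @Bool.rec (fun _ => Nat) (Atab_s_123_128 c) (Atab_s_128_133 c) (Nat.ble 128 c)
noncomputable def Atab_s_133_135 (c : Nat) : Nat := @Bool.rec (fun _ => Nat) (Atab_133) (Atab_134) (Nat.ble 134 c)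
noncomputable def Atab_s_136_138 (c : Nat) : Nat := @Bool.rec (fun _ => Nat) (Atab_136) (Atab_137) (Nat.ble 137 c)
noncomputable def Atab_s_135_138 (c : Nat) : Nat := @Bool.rec (fun _ => Nat) (Atab_135) (Atab_s_136_138 c) (Nat.ble 136 c)
noncomputable def Atab_s_133_138 (c : Nat) : Nat := @Bool.rec (fun _ => Nat) (Atab_s_133_135 c) (Atab_s_135_138 c) (Nat.ble 135 c)
noncomputable def Atab_s_139_141 (c : Nat) : Nat := @Bool.rec (fun _ => Nat) (Atab_139) (Atab_140) (Nat.ble 140 c)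
noncomputable def Atab_s_138_141 (c : Nat) : Nat := @Bool.rec (fun _ => Nat) (Atab_138) (Atab_s_139_141 c) (Nat.ble 139 c)
noncomputable def Atab_s_142_144 (c : Nat) : Nat := @Bool.rec (fun _ => Nat) (Atab_142) (Atab_143) (Nat.ble 143 c)
noncomputable def Atab_s_141_144 (c : Nat) : Nat := @Bool.rec (fun _ => Nat) (Atab_141) (Atab_s_142_144 c) (Nat.ble 142 c)
noncomputable def Atab_s_138_144 (c : Nat) : Nat := @Bool.rec (fun _ => Nat) (Atab_s_138_141 c) (Atab_s_141_144 c) (Nat.ble 141 c)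
noncomputable def Atab_s_133_144 (c : Nat) : Nat := @Bool.rec (fun _ => Nat) (Atab_s_133_138 c) (Atab_s_138_144 c) (Nat.ble 138 c)
noncomputable def Atab_s_123_144 (c : Nat) : Nat := @Bool.rec (fun _ => Nat) (Atab_s_123_133 c) (Atab_s_133_144 c) (Nat.ble 133 c)
noncomputable def Atab_s_144_146 (c : Nat) : Nat := @Bool.rec (fun _ => Nat) (Atab_144) (Atab_145) (Nat.ble 145 c)
noncomputable def Atab_s_147_149 (c : Nat) : Nat := @Bool.rec (fun _ => Nat) (Atab_147) (Atab_148) (Nat.ble 148 c)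
noncomputable def Atab_s_146_149 (c : Nat) : Nat := @Bool.rec (fun _ => Nat) (Atab_146) (Atab_s_147_149 c) (Nat.ble 147 c)
noncomputable def Atab_s_144_149 (c : Nat) : Nat := @Bool.rec (fun _ => Nat) (Atab_s_144_146 c) (Atab_s_146_149 c) (Nat.ble 146 c)
noncomputable def Atab_s_149_151 (c : Nat) : Nat := @Bool.rec (fun _ => Nat) (Atab_149) (Atab_150) (Nat.ble 150 c)
noncomputable def Atab_s_152_154 (c : Nat) : Nat := @Bool.rec (fun _ => Nat) (Atab_152) (Atab_153) (Nat.ble 153 c)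
noncomputable def Atab_s_151_154 (c : Nat) : Nat := @Bool.rec (fun _ => Nat) (Atab_151) (Atab_s_152_154 c) (Nat.ble 152 c)
noncomputable def Atab_s_149_154 (c : Nat) : Nat := @Bool.rec (fun _ => Nat) (Atab_s_149_151 c) (Atab_s_151_154 c) (Nat.ble 151 c)
noncomputable def Atab_s_144_154 (c : Nat) : Nat := @Bool.rec (fun _ => Nat) (Atab_s_144_149 c) (Atab_s_149_154 c) (Nat.ble 149 c)
noncomputable def Atab_s_154_156 (c : Nat) : Nat := @Bool.rec (fun _ => Nat) (Atab_154) (Atab_155) (Nat.ble 155 c)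
noncomputable def Atab_s_157_159 (c : Nat) : Nat := @Bool.rec (fun _ => Nat) (Atab_157) (Atab_158) (Nat.ble 158 c)
noncomputable def Atab_s_156_159 (c : Nat) : Nat := @Bool.rec (fun _ => Nat) (Atab_156) (Atab_s_157_159 c) (Nat.ble 157 c)
noncomputable def Atab_s_154_159 (c : Nat) : Nat := @Bool.rec (fun _ => Nat) (Atab_s_154_156 c) (Atab_s_156_159 c) (Nat.ble 156 c)
noncomputable def Atab_s_160_162 (c : Nat) : Nat := @Bool.rec (fun _ => Nat) (Atab_160) (Atab_161) (Nat.ble 161 c)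
noncomputable def Atab_s_159_162 (c : Nat) : Nat := @Bool.rec (fun _ => Nat) (Atab_159) (Atab_s_160_162 c) (Nat.ble 160 c)
noncomputable def Atab_s_163_165 (c : Nat) : Nat := @Bool.rec (fun _ => Nat) (Atab_163) (Atab_164) (Nat.ble 164 c)
noncomputable def Atab_s_162_165 (c : Nat) : Nat := @Bool.rec (fun _ => Nat) (Atab_162) (Atab_s_163_165 c) (Nat.ble 163 c)
noncomputable def Atab_s_159_165 (c : Nat) : Nat := @Bool.rec (fun _ => Nat) (Atab_s_159_162 c) (Atab_s_162_165 c) (Nat.ble 162 c)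
noncomputable def Atab_s_154_165 (c : Nat) : Nat := @Bool.rec (fun _ => Nat) (Atab_s_154_159 c) (Atab_s_159_165 c) (Nat.ble 159 c)
noncomputable def Atab_s_144_165 (c : Nat) : Nat := @Bool.rec (fun _ => Nat) (Atab_s_144_154 c) (Atab_s_154_165 c) (Nat.ble 154 c)
noncomputable def Atab_s_123_165 (c : Nat) : Nat := @Bool.rec (fun _ => Nat) (Atab_s_123_144 c) (Atab_s_144_165 c) (Nat.ble 144 c)
noncomputable def Atab_s_82_165 (c : Nat) : Nat := @Bool.rec (fun _ => Nat) (Atab_s_82_123 c) (Atab_s_123_165 c) (Nat.ble 123 c)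
noncomputable def Atab_s_0_165 (c : Nat) : Nat := @Bool.rec (fun _ => Nat) (Atab_s_0_82 c) (Atab_s_82_165 c) (Nat.ble 82 c)
noncomputable def Atab (i : Nat) : Nat := rdw 38 274877906943 (Atab_s_0_165 (Nat.shiftRight i 11)) (Nat.land i 2047)
noncomputable def Btab_s_0_2 (c : Nat) : Nat := @Bool.rec (fun _ => Nat) (Btab_0) (Btab_1) (Nat.ble 1 c)
noncomputable def Btab_s_2_4 (c : Nat) : Nat := @Bool.rec (fun _ => Nat) (Btab_2) (Btab_3) (Nat.ble 3 c)
noncomputable def Btab_s_0_4 (c : Nat) : Nat := @Bool.rec (fun _ => Nat) (Btab_s_0_2 c) (Btab_s_2_4 c) (Nat.ble 2 c)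
noncomputable def Btab_s_4_6 (c : Nat) : Nat := @Bool.rec (fun _ => Nat) (Btab_4) (Btab_5) (Nat.ble 5 c)
noncomputable def Btab_s_7_9 (c : Nat) : Nat := @Bool.rec (fun _ => Nat) (Btab_7) (Btab_8) (Nat.ble 8 c)
noncomputable def Btab_s_6_9 (c : Nat) : Nat := @Bool.rec (fun _ => Nat) (Btab_6) (Btab_s_7_9 c) (Nat.ble 7 c)
noncomputable def Btab_s_4_9 (c : Nat) : Nat := @Bool.rec (fun _ => Nat) (Btab_s_4_6 c) (Btab_s_6_9 c) (Nat.ble 6 c)
noncomputable def Btab_s_0_9 (c : Nat) : Nat := @Bool.rec (fun _ => Nat) (Btab_s_0_4 c) (Btab_s_4_9 c) (Nat.ble 4 c)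
noncomputable def Btab_s_9_11 (c : Nat) : Nat := @Bool.rec (fun _ => Nat) (Btab_9) (Btab_10) (Nat.ble 10 c)
noncomputable def Btab_s_11_13 (c : Nat) : Nat := @Bool.rec (fun _ => Nat) (Btab_11) (Btab_12) (Nat.ble 12 c)
noncomputable def Btab_s_9_13 (c : Nat) : Nat := @Bool.rec (fun _ => Nat) (Btab_s_9_11 c) (Btab_s_11_13 c) (Nat.ble 11 c)
noncomputable def Btab_s_13_15 (c : Nat) : Nat := @Bool.rec (fun _ => Nat) (Btab_13) (Btab_14) (Nat.ble 14 c)
noncomputable def Btab_s_16_18 (c : Nat) : Nat := @Bool.rec (fun _ => Nat) (Btab_16) (Btab_17) (Nat.ble 17 c)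
noncomputable def Btab_s_15_18 (c : Nat) : Nat := @Bool.rec (fun _ => Nat) (Btab_15) (Btab_s_16_18 c) (Nat.ble 16 c)
noncomputable def Btab_s_13_18 (c : Nat) : Nat := @Bool.rec (fun _ => Nat) (Btab_s_13_15 c) (Btab_s_15_18 c) (Nat.ble 15 c)
noncomputable def Btab_s_9_18 (c : Nat) : Nat := @Bool.rec (fun _ => Nat) (Btab_s_9_13 c) (Btab_s_13_18 c) (Nat.ble 13 c)
noncomputable def Btab_s_0_18 (c : Nat) : Nat := @Bool.rec (fun _ => Nat) (Btab_s_0_9 c) (Btab_s_9_18 c) (Nat.ble 9 c)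
noncomputable def Btab_s_18_20 (c : Nat) : Nat := @Bool.rec (fun _ => Nat) (Btab_18) (Btab_19) (Nat.ble 19 c)
noncomputable def Btab_s_20_22 (c : Nat) : Nat := @Bool.rec (fun _ => Nat) (Btab_20) (Btab_21) (Nat.ble 21 c)
noncomputable def Btab_s_18_22 (c : Nat) : Nat := @Bool.rec (fun _ => Nat) (Btab_s_18_20 c) (Btab_s_20_22 c) (Nat.ble 20 c)
noncomputable def Btab_s_22_24 (c : Nat) : Nat := @Bool.rec (fun _ => Nat) (Btab_22) (Btab_23) (Nat.ble 23 c)
noncomputable def Btab_s_25_27 (c : Nat) : Nat := @Bool.rec (fun _ => Nat) (Btab_25) (Btab_26) (Nat.ble 26 c)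
noncomputable def Btab_s_24_27 (c : Nat) : Nat := @Bool.rec (fun _ => Nat) (Btab_24) (Btab_s_25_27 c) (Nat.ble 25 c)
noncomputable def Btab_s_22_27 (c : Nat) : Nat := @Bool.rec (fun _ => Nat) (Btab_s_22_24 c) (Btab_s_24_27 c) (Nat.ble 24 c)
noncomputable def Btab_s_18_27 (c : Nat) : Nat := @Bool.rec (fun _ => Nat) (Btab_s_18_22 c) (Btab_s_22_27 c) (Nat.ble 22 c)
noncomputable def Btab_s_27_29 (c : Nat) : Nat := @Bool.rec (fun _ => Nat) (Btab_27) (Btab_28) (Nat.ble 28 c)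
noncomputable def Btab_s_29_31 (c : Nat) : Nat := @Bool.rec (fun _ => Nat) (Btab_29) (Btab_30) (Nat.ble 30 c)
noncomputable def Btab_s_27_31 (c : Nat) : Nat := @Bool.rec (fun _ => Nat) (Btab_s_27_29 c) (Btab_s_29_31 c) (Nat.ble 29 c)
noncomputable def Btab_s_31_33 (c : Nat) : Nat := @Bool.rec (fun _ => Nat) (Btab_31) (Btab_32) (Nat.ble 32 c)
noncomputable def Btab_s_34_36 (c : Nat) : Nat := @Bool.rec (fun _ => Nat) (Btab_34) (Btab_35) (Nat.ble 35 c)
noncomputable def Btab_s_33_36 (c : Nat) : Nat := @Bool.rec (fun _ => Nat) (Btab_33) (Btab_s_34_36 c) (Nat.ble 34 c)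
noncomputable def Btab_s_31_36 (c : Nat) : Nat := @Bool.rec (fun _ => Nat) (Btab_s_31_33 c) (Btab_s_33_36 c) (Nat.ble 33 c)
noncomputable def Btab_s_27_36 (c : Nat) : Nat := @Bool.rec (fun _ => Nat) (Btab_s_27_31 c) (Btab_s_31_36 c) (Nat.ble 31 c)
noncomputable def Btab_s_18_36 (c : Nat) : Nat := @Bool.rec (fun _ => Nat) (Btab_s_18_27 c) (Btab_s_27_36 c) (Nat.ble 27 c)
noncomputable def Btab_s_0_36 (c : Nat) : Nat := @Bool.rec (fun _ => Nat) (Btab_s_0_18 c) (Btab_s_18_36 c) (Nat.ble 18 c)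
noncomputable def Btab_s_36_38 (c : Nat) : Nat := @Bool.rec (fun _ => Nat) (Btab_36) (Btab_37) (Nat.ble 37 c)
noncomputable def Btab_s_38_40 (c : Nat) : Nat := @Bool.rec (fun _ => Nat) (Btab_38) (Btab_39) (Nat.ble 39 c)
noncomputable def Btab_s_36_40 (c : Nat) : Nat := @Bool.rec (fun _ => Nat) (Btab_s_36_38 c) (Btab_s_38_40 c) (Nat.ble 38 c)
noncomputable def Btab_s_40_42 (c : Nat) : Nat := @Bool.rec (fun _ => Nat) (Btab_40) (Btab_41) (Nat.ble 41 c)
noncomputable def Btab_s_43_45 (c : Nat) : Nat := @Bool.rec (fun _ => Nat) (Btab_43) (Btab_44) (Nat.ble 44 c)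
noncomputable def Btab_s_42_45 (c : Nat) : Nat := @Bool.rec (fun _ => Nat) (Btab_42) (Btab_s_43_45 c) (Nat.ble 43 c)
noncomputable def Btab_s_40_45 (c : Nat) : Nat := @Bool.rec (fun _ => Nat) (Btab_s_40_42 c) (Btab_s_42_45 c) (Nat.ble 42 c)
noncomputable def Btab_s_36_45 (c : Nat) : Nat := @Bool.rec (fun _ => Nat) (Btab_s_36_40 c) (Btab_s_40_45 c) (Nat.ble 40 c)
noncomputable def Btab_s_45_47 (c : Nat) : Nat := @Bool.rec (fun _ => Nat) (Btab_45) (Btab_46) (Nat.ble 46 c)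
noncomputable def Btab_s_47_49 (c : Nat) : Nat := @Bool.rec (fun _ => Nat) (Btab_47) (Btab_48) (Nat.ble 48 c)
noncomputable def Btab_s_45_49 (c : Nat) : Nat := @Bool.rec (fun _ => Nat) (Btab_s_45_47 c) (Btab_s_47_49 c) (Nat.ble 47 c)
noncomputable def Btab_s_49_51 (c : Nat) : Nat := @Bool.rec (fun _ => Nat) (Btab_49) (Btab_50) (Nat.ble 50 c)
noncomputable def Btab_s_52_54 (c : Nat) : Nat := @Bool.rec (fun _ => Nat) (Btab_52) (Btab_53) (Nat.ble 53 c)
noncomputable def Btab_s_51_54 (c : Nat) : Nat := @Bool.rec (fun _ => Nat) (Btab_51) (Btab_s_52_54 c) (Nat.ble 52 c)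
noncomputable def Btab_s_49_54 (c : Nat) : Nat := @Bool.rec (fun _ => Nat) (Btab_s_49_51 c) (Btab_s_51_54 c) (Nat.ble 51 c)
noncomputable def Btab_s_45_54 (c : Nat) : Nat := @Bool.rec (fun _ => Nat) (Btab_s_45_49 c) (Btab_s_49_54 c) (Nat.ble 49 c)
noncomputable def Btab_s_36_54 (c : Nat) : Nat := @Bool.rec (fun _ => Nat) (Btab_s_36_45 c) (Btab_s_45_54 c) (Nat.ble 45 c)
noncomputable def Btab_s_54_56 (c : Nat) : Nat := @Bool.rec (fun _ => Nat) (Btab_54) (Btab_55) (Nat.ble 55 c)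
noncomputable def Btab_s_56_58 (c : Nat) : Nat := @Bool.rec (fun _ => Nat) (Btab_56) (Btab_57) (Nat.ble 57 c)
noncomputable def Btab_s_54_58 (c : Nat) : Nat := @Bool.rec (fun _ => Nat) (Btab_s_54_56 c) (Btab_s_56_58 c) (Nat.ble 56 c)
noncomputable def Btab_s_58_60 (c : Nat) : Nat := @Bool.rec (fun _ => Nat) (Btab_58) (Btab_59) (Nat.ble 59 c)
noncomputable def Btab_s_61_63 (c : Nat) : Nat := @Bool.rec (fun _ => Nat) (Btab_61) (Btab_62) (Nat.ble 62 c)
noncomputable def Btab_s_60_63 (c : Nat) : Nat := @Bool.rec (fun _ => Nat) (Btab_60) (Btab_s_61_63 c) (Nat.ble 61 c)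
noncomputable def Btab_s_58_63 (c : Nat) : Nat := @Bool.rec (fun _ => Nat) (Btab_s_58_60 c) (Btab_s_60_63 c) (Nat.ble 60 c)
noncomputable def Btab_s_54_63 (c : Nat) : Nat := @Bool.rec (fun _ => Nat) (Btab_s_54_58 c) (Btab_s_58_63 c) (Nat.ble 58 c)
noncomputable def Btab_s_63_65 (c : Nat) : Nat := @Bool.rec (fun _ => Nat) (Btab_63) (Btab_64) (Nat.ble 64 c)
noncomputable def Btab_s_66_68 (c : Nat) : Nat := @Bool.rec (fun _ => Nat) (Btab_66) (Btab_67) (Nat.ble 67 c)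
noncomputable def Btab_s_65_68 (c : Nat) : Nat := @Bool.rec (fun _ => Nat) (Btab_65) (Btab_s_66_68 c) (Nat.ble 66 c)
noncomputable def Btab_s_63_68 (c : Nat) : Nat := @Bool.rec (fun _ => Nat) (Btab_s_63_65 c) (Btab_s_65_68 c) (Nat.ble 65 c)
noncomputable def Btab_s_68_70 (c : Nat) : Nat := @Bool.rec (fun _ => Nat) (Btab_68) (Btab_69) (Nat.ble 69 c)
noncomputable def Btab_s_71_73 (c : Nat) : Nat := @Bool.rec (fun _ => Nat) (Btab_71) (Btab_72) (Nat.ble 72 c)
noncomputable def Btab_s_70_73 (c : Nat) : Nat := @Bool.rec (fun _ => Nat) (Btab_70) (Btab_s_71_73 c) (Nat.ble 71 c)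
noncomputable def Btab_s_68_73 (c : Nat) : Nat := @Bool.rec (fun _ => Nat) (Btab_s_68_70 c) (Btab_s_70_73 c) (Nat.ble 70 c)
noncomputable def Btab_s_63_73 (c : Nat) : Nat := @Bool.rec (fun _ => Nat) (Btab_s_63_68 c) (Btab_s_68_73 c) (Nat.ble 68 c)
noncomputable def Btab_s_54_73 (c : Nat) : Nat := @Bool.rec (fun _ => Nat) (Btab_s_54_63 c) (Btab_s_63_73 c) (Nat.ble 63 c)
noncomputable def Btab_s_36_73 (c : Nat) : Nat := @Bool.rec (fun _ => Nat) (Btab_s_36_54 c) (Btab_s_54_73 c) (Nat.ble 54 c)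
noncomputable def Btab_s_0_73 (c : Nat) : Nat := @Bool.rec (fun _ => Nat) (Btab_s_0_36 c) (Btab_s_36_73 c) (Nat.ble 36 c)
noncomputable def Btab_s_73_75 (c : Nat) : Nat := @Bool.rec (fun _ => Nat) (Btab_73) (Btab_74) (Nat.ble 74 c)
noncomputable def Btab_s_75_77 (c : Nat) : Nat := @Bool.rec (fun _ => Nat) (Btab_75) (Btab_76) (Nat.ble 76 c)
noncomputable def Btab_s_73_77 (c : Nat) : Nat := @Bool.rec (fun _ => Nat) (Btab_s_73_75 c) (Btab_s_75_77 c) (Nat.ble 75 c)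
noncomputable def Btab_s_77_79 (c : Nat) : Nat := @Bool.rec (fun _ => Nat) (Btab_77) (Btab_78) (Nat.ble 78 c)
noncomputable def Btab_s_80_82 (c : Nat) : Nat := @Bool.rec (fun _ => Nat) (Btab_80) (Btab_81) (Nat.ble 81 c)
noncomputable def Btab_s_79_82 (c : Nat) : Nat := @Bool.rec (fun _ => Nat) (Btab_79) (Btab_s_80_82 c) (Nat.ble 80 c)
noncomputable def Btab_s_77_82 (c : Nat) : Nat := @Bool.rec (fun _ => Nat) (Btab_s_77_79 c) (Btab_s_79_82 c) (Nat.ble 79 c)
noncomputable def Btab_s_73_82 (c : Nat) : Nat := @Bool.rec (fun _ => Nat) (Btab_s_73_77 c) (Btab_s_77_82 c) (Nat.ble 77 c)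
noncomputable def Btab_s_82_84 (c : Nat) : Nat := @Bool.rec (fun _ => Nat) (Btab_82) (Btab_83) (Nat.ble 83 c)
noncomputable def Btab_s_84_86 (c : Nat) : Nat := @Bool.rec (fun _ => Nat) (Btab_84) (Btab_85) (Nat.ble 85 c)
noncomputable def Btab_s_82_86 (c : Nat) : Nat := @Bool.rec (fun _ => Nat) (Btab_s_82_84 c) (Btab_s_84_86 c) (Nat.ble 84 c)
noncomputable def Btab_s_86_88 (c : Nat) : Nat := @Bool.rec (fun _ => Nat) (Btab_86) (Btab_87) (Nat.ble 87 c)
noncomputable def Btab_s_89_91 (c : Nat) : Nat := @Bool.rec (fun _ => Nat) (Btab_89) (Btab_90) (Nat.ble 90 c)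
noncomputable def Btab_s_88_91 (c : Nat) : Nat := @Bool.rec (fun _ => Nat) (Btab_88) (Btab_s_89_91 c) (Nat.ble 89 c)
noncomputable def Btab_s_86_91 (c : Nat) : Nat := @Bool.rec (fun _ => Nat) (Btab_s_86_88 c) (Btab_s_88_91 c) (Nat.ble 88 c)
noncomputable def Btab_s_82_91 (c : Nat) : Nat := @Bool.rec (fun _ => Nat) (Btab_s_82_86 c) (Btab_s_86_91 c) (Nat.ble 86 c)
noncomputable def Btab_s_73_91 (c : Nat) : Nat := @Bool.rec (fun _ => Nat) (Btab_s_73_82 c) (Btab_s_82_91 c) (Nat.ble 82 c)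
noncomputable def Btab_s_91_93 (c : Nat) : Nat := @Bool.rec (fun _ => Nat) (Btab_91) (Btab_92) (Nat.ble 92 c)
noncomputable def Btab_s_93_95 (c : Nat) : Nat := @Bool.rec (fun _ => Nat) (Btab_93) (Btab_94) (Nat.ble 94 c)
noncomputable def Btab_s_91_95 (c : Nat) : Nat := @Bool.rec (fun _ => Nat) (Btab_s_91_93 c) (Btab_s_93_95 c) (Nat.ble 93 c)
noncomputable def Btab_s_95_97 (c : Nat) : Nat := @Bool.rec (fun _ => Nat) (Btab_95) (Btab_96) (Nat.ble 96 c)
noncomputable def Btab_s_98_100 (c : Nat) : Nat := @Bool.rec (fun _ => Nat) (Btab_98) (Btab_99) (Nat.ble 99 c)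
noncomputable def Btab_s_97_100 (c : Nat) : Nat := @Bool.rec (fun _ => Nat) (Btab_97) (Btab_s_98_100 c) (Nat.ble 98 c)
noncomputable def Btab_s_95_100 (c : Nat) : Nat := @Bool.rec (fun _ => Nat) (Btab_s_95_97 c) (Btab_s_97_100 c) (Nat.ble 97 c)
noncomputable def Btab_s_91_100 (c : Nat) : Nat := @Bool.rec (fun _ => Nat) (Btab_s_91_95 c) (Btab_s_95_100 c) (Nat.ble 95 c)
noncomputable def Btab_s_100_102 (c : Nat) : Nat := @Bool.rec (fun _ => Nat) (Btab_100) (Btab_101) (Nat.ble 101 c)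
noncomputable def Btab_s_103_105 (c : Nat) : Nat := @Bool.rec (fun _ => Nat) (Btab_103) (Btab_104) (Nat.ble 104 c)
noncomputable def Btab_s_102_105 (c : Nat) : Nat := @Bool.rec (fun _ => Nat) (Btab_102) (Btab_s_103_105 c) (Nat.ble 103 c)
noncomputable def Btab_s_100_105 (c : Nat) : Nat := @Bool.rec (fun _ => Nat) (Btab_s_100_102 c) (Btab_s_102_105 c) (Nat.ble 102 c)
noncomputable def Btab_s_105_107 (c : Nat) : Nat := @Bool.rec (fun _ => Nat) (Btab_105) (Btab_106) (Nat.ble 106 c)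
noncomputable def Btab_s_108_110 (c : Nat) : Nat := @Bool.rec (fun _ => Nat) (Btab_108) (Btab_109) (Nat.ble 109 c)
noncomputable def Btab_s_107_110 (c : Nat) : Nat := @Bool.rec (fun _ => Nat) (Btab_107) (Btab_s_108_110 c) (Nat.ble 108 c)
noncomputable def Btab_s_105_110 (c : Nat) : Nat := @Bool.rec (fun _ => Nat) (Btab_s_105_107 c) (Btab_s_107_110 c) (Nat.ble 107 c)
noncomputable def Btab_s_100_110 (c : Nat) : Nat := @Bool.rec (fun _ => Nat) (Btab_s_100_105 c) (Btab_s_105_110 c) (Nat.ble 105 c)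
noncomputable def Btab_s_91_110 (c : Nat) : Nat := @Bool.rec (fun _ => Nat) (Btab_s_91_100 c) (Btab_s_100_110 c) (Nat.ble 100 c)
noncomputable def Btab_s_73_110 (c : Nat) : Nat := @Bool.rec (fun _ => Nat) (Btab_s_73_91 c) (Btab_s_91_110 c) (Nat.ble 91 c)
noncomputable def Btab_s_110_112 (c : Nat) : Nat := @Bool.rec (fun _ => Nat) (Btab_110) (Btab_111) (Nat.ble 111 c)
noncomputable def Btab_s_112_114 (c : Nat) : Nat := @Bool.rec (fun _ => Nat) (Btab_112) (Btab_113) (Nat.ble 113 c)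
noncomputable def Btab_s_110_114 (c : Nat) : Nat := @Bool.rec (fun _ => Nat) (Btab_s_110_112 c) (Btab_s_112_114 c) (Nat.ble 112 c)
noncomputable def Btab_s_114_116 (c : Nat) : Nat := @Bool.rec (fun _ => Nat) (Btab_114) (Btab_115) (Nat.ble 115 c)
noncomputable def Btab_s_117_119 (c : Nat) : Nat := @Bool.rec (fun _ => Nat) (Btab_117) (Btab_118) (Nat.ble 118 c)
noncomputable def Btab_s_116_119 (c : Nat) : Nat := @Bool.rec (fun _ => Nat) (Btab_116) (Btab_s_117_119 c) (Nat.ble 117 c)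
noncomputable def Btab_s_114_119 (c : Nat) : Nat := @Bool.rec (fun _ => Nat) (Btab_s_114_116 c) (Btab_s_116_119 c) (Nat.ble 116 c)
noncomputable def Btab_s_110_119 (c : Nat) : Nat := @Bool.rec (fun _ => Nat) (Btab_s_110_114 c) (Btab_s_114_119 c) (Nat.ble 114 c)
noncomputable def Btab_s_119_121 (c : Nat) : Nat := @Bool.rec (fun _ => Nat) (Btab_119) (Btab_120) (Nat.ble 120 c)
noncomputable def Btab_s_121_123 (c : Nat) : Nat := @Bool.rec (fun _ => Nat) (Btab_121) (Btab_122) (Nat.ble 122 c)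
noncomputable def Btab_s_119_123 (c : Nat) : Nat := @Bool.rec (fun _ => Nat) (Btab_s_119_121 c) (Btab_s_121_123 c) (Nat.ble 121 c)
noncomputable def Btab_s_123_125 (c : Nat) : Nat := @Bool.rec (fun _ => Nat) (Btab_123) (Btab_124) (Nat.ble 124 c)
noncomputable def Btab_s_126_128 (c : Nat) : Nat := @Bool.rec (fun _ => Nat) (Btab_126) (Btab_127) (Nat.ble 127 c)
noncomputable def Btab_s_125_128 (c : Nat) : Nat := @Bool.rec (fun _ => Nat) (Btab_125) (Btab_s_126_128 c) (Nat.ble 126 c)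
noncomputable def Btab_s_123_128 (c : Nat) : Nat := @Bool.rec (fun _ => Nat) (Btab_s_123_125 c) (Btab_s_125_128 c) (Nat.ble 125 c)
noncomputable def Btab_s_119_128 (c : Nat) : Nat := @Bool.rec (fun _ => Nat) (Btab_s_119_123 c) (Btab_s_123_128 c) (Nat.ble 123 c)
noncomputable def Btab_s_110_128 (c : Nat) : Nat := @Bool.rec (fun _ => Nat) (Btab_s_110_119 c) (Btab_s_119_128 c) (Nat.ble 119 c)
noncomputable def Btab_s_128_130 (c : Nat) : Nat := @Bool.rec (fun _ => Nat) (Btab_128) (Btab_129) (Nat.ble 129 c)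
noncomputable def Btab_s_130_132 (c : Nat) : Nat := @Bool.rec (fun _ => Nat) (Btab_130) (Btab_131) (Nat.ble 131 c)
noncomputable def Btab_s_128_132 (c : Nat) : Nat := @Bool.rec (fun _ => Nat) (Btab_s_128_130 c) (Btab_s_130_132 c) (Nat.ble 130 c)
noncomputable def Btab_s_132_134 (c : Nat) : Nat := @Bool.rec (fun _ => Nat) (Btab_132) (Btab_133) (Nat.ble 133 c)
noncomputable def Btab_s_135_137 (c : Nat) : Nat := @Bool.rec (fun _ => Nat) (Btab_135) (Btab_136) (Nat.ble 136 c)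
noncomputable def Btab_s_134_137 (c : Nat) : Nat := @Bool.rec (fun _ => Nat) (Btab_134) (Btab_s_135_137 c) (Nat.ble 135 c)
noncomputable def Btab_s_132_137 (c : Nat) : Nat := @Bool.rec (fun _ => Nat) (Btab_s_132_134 c) (Btab_s_134_137 c) (Nat.ble 134 c)
noncomputable def Btab_s_128_137 (c : Nat) : Nat := @Bool.rec (fun _ => Nat) (Btab_s_128_132 c) (Btab_s_132_137 c) (Nat.ble 132 c)
noncomputable def Btab_s_137_139 (c : Nat) : Nat := @Bool.rec (fun _ => Nat) (Btab_137) (Btab_138) (Nat.ble 138 c)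
noncomputable def Btab_s_140_142 (c : Nat) : Nat := @Bool.rec (fun _ => Nat) (Btab_140) (Btab_141) (Nat.ble 141 c)
noncomputable def Btab_s_139_142 (c : Nat) : Nat := @Bool.rec (fun _ => Nat) (Btab_139) (Btab_s_140_142 c) (Nat.ble 140 c)
noncomputable def Btab_s_137_142 (c : Nat) : Nat := @Bool.rec (fun _ => Nat) (Btab_s_137_139 c) (Btab_s_139_142 c) (Nat.ble 139 c)
noncomputable def Btab_s_142_144 (c : Nat) : Nat := @Bool.rec (fun _ => Nat) (Btab_142) (Btab_143) (Nat.ble 143 c)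
noncomputable def Btab_s_145_147 (c : Nat) : Nat := @Bool.rec (fun _ => Nat) (Btab_145) (Btab_146) (Nat.ble 146 c)
noncomputable def Btab_s_144_147 (c : Nat) : Nat := @Bool.rec (fun _ => Nat) (Btab_144) (Btab_s_145_147 c) (Nat.ble 145 c)
noncomputable def Btab_s_142_147 (c : Nat) : Nat := @Bool.rec (fun _ => Nat) (Btab_s_142_144 c) (Btab_s_144_147 c) (Nat.ble 144 c)
noncomputable def Btab_s_137_147 (c : Nat) : Nat := @Bool.rec (fun _ => Nat) (Btab_s_137_142 c) (Btab_s_142_147 c) (Nat.ble 142 c)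
noncomputable def Btab_s_128_147 (c : Nat) : Nat := @Bool.rec (fun _ => Nat) (Btab_s_128_137 c) (Btab_s_137_147 c) (Nat.ble 137 c)
noncomputable def Btab_s_110_147 (c : Nat) : Nat := @Bool.rec (fun _ => Nat) (Btab_s_110_128 c) (Btab_s_128_147 c) (Nat.ble 128 c)
noncomputable def Btab_s_73_147 (c : Nat) : Nat := @Bool.rec (fun _ => Nat) (Btab_s_73_110 c) (Btab_s_110_147 c) (Nat.ble 110 c)
noncomputable def Btab_s_0_147 (c : Nat) : Nat := @Bool.rec (fun _ => Nat) (Btab_s_0_73 c) (Btab_s_73_147 c) (Nat.ble 73 c)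
noncomputable def Btab (i : Nat) : Nat := rdw 41 2199023255551 (Btab_s_0_147 (Nat.shiftRight i 11)) (Nat.land i 2047)
noncomputable def Ptab_s_1_3 (c : Nat) : Nat := @Bool.rec (fun _ => Nat) (Ptab_1) (Ptab_2) (Nat.ble 2 c)
noncomputable def Ptab_s_0_3 (c : Nat) : Nat := @Bool.rec (fun _ => Nat) (Ptab_0) (Ptab_s_1_3 c) (Nat.ble 1 c)
noncomputable def Ptab_s_3_5 (c : Nat) : Nat := @Bool.rec (fun _ => Nat) (Ptab_3) (Ptab_4) (Nat.ble 4 c)
noncomputable def Ptab_s_5_7 (c : Nat) : Nat := @Bool.rec (fun _ => Nat) (Ptab_5) (Ptab_6) (Nat.ble 6 c)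
noncomputable def Ptab_s_3_7 (c : Nat) : Nat := @Bool.rec (fun _ => Nat) (Ptab_s_3_5 c) (Ptab_s_5_7 c) (Nat.ble 5 c)
noncomputable def Ptab_s_0_7 (c : Nat) : Nat := @Bool.rec (fun _ => Nat) (Ptab_s_0_3 c) (Ptab_s_3_7 c) (Nat.ble 3 c)
noncomputable def Ptab_s_7_9 (c : Nat) : Nat := @Bool.rec (fun _ => Nat) (Ptab_7) (Ptab_8) (Nat.ble 8 c)
noncomputable def Ptab_s_9_11 (c : Nat) : Nat := @Bool.rec (fun _ => Nat) (Ptab_9) (Ptab_10) (Nat.ble 10 c)
noncomputable def Ptab_s_7_11 (c : Nat) : Nat := @Bool.rec (fun _ => Nat) (Ptab_s_7_9 c) (Ptab_s_9_11 c) (Nat.ble 9 c)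
noncomputable def Ptab_s_11_13 (c : Nat) : Nat := @Bool.rec (fun _ => Nat) (Ptab_11) (Ptab_12) (Nat.ble 12 c)
noncomputable def Ptab_s_13_15 (c : Nat) : Nat := @Bool.rec (fun _ => Nat) (Ptab_13) (Ptab_14) (Nat.ble 14 c)
noncomputable def Ptab_s_11_15 (c : Nat) : Nat := @Bool.rec (fun _ => Nat) (Ptab_s_11_13 c) (Ptab_s_13_15 c) (Nat.ble 13 c)
noncomputable def Ptab_s_7_15 (c : Nat) : Nat := @Bool.rec (fun _ => Nat) (Ptab_s_7_11 c) (Ptab_s_11_15 c) (Nat.ble 11 c)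
noncomputable def Ptab_s_0_15 (c : Nat) : Nat := @Bool.rec (fun _ => Nat) (Ptab_s_0_7 c) (Ptab_s_7_15 c) (Nat.ble 7 c)
noncomputable def Ptab_s_15_17 (c : Nat) : Nat := @Bool.rec (fun _ => Nat) (Ptab_15) (Ptab_16) (Nat.ble 16 c)
noncomputable def Ptab_s_17_19 (c : Nat) : Nat := @Bool.rec (fun _ => Nat) (Ptab_17) (Ptab_18) (Nat.ble 18 c)
noncomputable def Ptab_s_15_19 (c : Nat) : Nat := @Bool.rec (fun _ => Nat) (Ptab_s_15_17 c) (Ptab_s_17_19 c) (Nat.ble 17 c)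
noncomputable def Ptab_s_19_21 (c : Nat) : Nat := @Bool.rec (fun _ => Nat) (Ptab_19) (Ptab_20) (Nat.ble 20 c)
noncomputable def Ptab_s_21_23 (c : Nat) : Nat := @Bool.rec (fun _ => Nat) (Ptab_21) (Ptab_22) (Nat.ble 22 c)
noncomputable def Ptab_s_19_23 (c : Nat) : Nat := @Bool.rec (fun _ => Nat) (Ptab_s_19_21 c) (Ptab_s_21_23 c) (Nat.ble 21 c)
noncomputable def Ptab_s_15_23 (c : Nat) : Nat := @Bool.rec (fun _ => Nat) (Ptab_s_15_19 c) (Ptab_s_19_23 c) (Nat.ble 19 c)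
noncomputable def Ptab_s_23_25 (c : Nat) : Nat := @Bool.rec (fun _ => Nat) (Ptab_23) (Ptab_24) (Nat.ble 24 c)
noncomputable def Ptab_s_25_27 (c : Nat) : Nat := @Bool.rec (fun _ => Nat) (Ptab_25) (Ptab_26) (Nat.ble 26 c)
noncomputable def Ptab_s_23_27 (c : Nat) : Nat := @Bool.rec (fun _ => Nat) (Ptab_s_23_25 c) (Ptab_s_25_27 c) (Nat.ble 25 c)
noncomputable def Ptab_s_27_29 (c : Nat) : Nat := @Bool.rec (fun _ => Nat) (Ptab_27) (Ptab_28) (Nat.ble 28 c)
noncomputable def Ptab_s_29_31 (c : Nat) : Nat := @Bool.rec (fun _ => Nat) (Ptab_29) (Ptab_30) (Nat.ble 30 c)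
noncomputable def Ptab_s_27_31 (c : Nat) : Nat := @Bool.rec (fun _ => Nat) (Ptab_s_27_29 c) (Ptab_s_29_31 c) (Nat.ble 29 c)
noncomputable def Ptab_s_23_31 (c : Nat) : Nat := @Bool.rec (fun _ => Nat) (Ptab_s_23_27 c) (Ptab_s_27_31 c) (Nat.ble 27 c)
noncomputable def Ptab_s_15_31 (c : Nat) : Nat := @Bool.rec (fun _ => Nat) (Ptab_s_15_23 c) (Ptab_s_23_31 c) (Nat.ble 23 c)
noncomputable def Ptab_s_0_31 (c : Nat) : Nat := @Bool.rec (fun _ => Nat) (Ptab_s_0_15 c) (Ptab_s_15_31 c) (Nat.ble 15 c)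
noncomputable def Ptab_s_32_34 (c : Nat) : Nat := @Bool.rec (fun _ => Nat) (Ptab_32) (Ptab_33) (Nat.ble 33 c)
noncomputable def Ptab_s_31_34 (c : Nat) : Nat := @Bool.rec (fun _ => Nat) (Ptab_31) (Ptab_s_32_34 c) (Nat.ble 32 c)
noncomputable def Ptab_s_34_36 (c : Nat) : Nat := @Bool.rec (fun _ => Nat) (Ptab_34) (Ptab_35) (Nat.ble 35 c)
noncomputable def Ptab_s_36_38 (c : Nat) : Nat := @Bool.rec (fun _ => Nat) (Ptab_36) (Ptab_37) (Nat.ble 37 c)
noncomputable def Ptab_s_34_38 (c : Nat) : Nat := @Bool.rec (fun _ => Nat) (Ptab_s_34_36 c) (Ptab_s_36_38 c) (Nat.ble 36 c)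
noncomputable def Ptab_s_31_38 (c : Nat) : Nat := @Bool.rec (fun _ => Nat) (Ptab_s_31_34 c) (Ptab_s_34_38 c) (Nat.ble 34 c)
noncomputable def Ptab_s_38_40 (c : Nat) : Nat := @Bool.rec (fun _ => Nat) (Ptab_38) (Ptab_39) (Nat.ble 39 c)
noncomputable def Ptab_s_40_42 (c : Nat) : Nat := @Bool.rec (fun _ => Nat) (Ptab_40) (Ptab_41) (Nat.ble 41 c)
noncomputable def Ptab_s_38_42 (c : Nat) : Nat := @Bool.rec (fun _ => Nat) (Ptab_s_38_40 c) (Ptab_s_40_42 c) (Nat.ble 40 c)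
noncomputable def Ptab_s_42_44 (c : Nat) : Nat := @Bool.rec (fun _ => Nat) (Ptab_42) (Ptab_43) (Nat.ble 43 c)
noncomputable def Ptab_s_44_46 (c : Nat) : Nat := @Bool.rec (fun _ => Nat) (Ptab_44) (Ptab_45) (Nat.ble 45 c)
noncomputable def Ptab_s_42_46 (c : Nat) : Nat := @Bool.rec (fun _ => Nat) (Ptab_s_42_44 c) (Ptab_s_44_46 c) (Nat.ble 44 c)
noncomputable def Ptab_s_38_46 (c : Nat) : Nat := @Bool.rec (fun _ => Nat) (Ptab_s_38_42 c) (Ptab_s_42_46 c) (Nat.ble 42 c)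
noncomputable def Ptab_s_31_46 (c : Nat) : Nat := @Bool.rec (fun _ => Nat) (Ptab_s_31_38 c) (Ptab_s_38_46 c) (Nat.ble 38 c)
noncomputable def Ptab_s_46_48 (c : Nat) : Nat := @Bool.rec (fun _ => Nat) (Ptab_46) (Ptab_47) (Nat.ble 47 c)
noncomputable def Ptab_s_48_50 (c : Nat) : Nat := @Bool.rec (fun _ => Nat) (Ptab_48) (Ptab_49) (Nat.ble 49 c)
noncomputable def Ptab_s_46_50 (c : Nat) : Nat := @Bool.rec (fun _ => Nat) (Ptab_s_46_48 c) (Ptab_s_48_50 c) (Nat.ble 48 c)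
noncomputable def Ptab_s_50_52 (c : Nat) : Nat := @Bool.rec (fun _ => Nat) (Ptab_50) (Ptab_51) (Nat.ble 51 c)
noncomputable def Ptab_s_52_54 (c : Nat) : Nat := @Bool.rec (fun _ => Nat) (Ptab_52) (Ptab_53) (Nat.ble 53 c)
noncomputable def Ptab_s_50_54 (c : Nat) : Nat := @Bool.rec (fun _ => Nat) (Ptab_s_50_52 c) (Ptab_s_52_54 c) (Nat.ble 52 c)
noncomputable def Ptab_s_46_54 (c : Nat) : Nat := @Bool.rec (fun _ => Nat) (Ptab_s_46_50 c) (Ptab_s_50_54 c) (Nat.ble 50 c)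
noncomputable def Ptab_s_54_56 (c : Nat) : Nat := @Bool.rec (fun _ => Nat) (Ptab_54) (Ptab_55) (Nat.ble 55 c)
noncomputable def Ptab_s_56_58 (c : Nat) : Nat := @Bool.rec (fun _ => Nat) (Ptab_56) (Ptab_57) (Nat.ble 57 c)
noncomputable def Ptab_s_54_58 (c : Nat) : Nat := @Bool.rec (fun _ => Nat) (Ptab_s_54_56 c) (Ptab_s_56_58 c) (Nat.ble 56 c)
noncomputable def Ptab_s_58_60 (c : Nat) : Nat := @Bool.rec (fun _ => Nat) (Ptab_58) (Ptab_59) (Nat.ble 59 c)
noncomputable def Ptab_s_60_62 (c : Nat) : Nat := @Bool.rec (fun _ => Nat) (Ptab_60) (Ptab_61) (Nat.ble 61 c)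
noncomputable def Ptab_s_58_62 (c : Nat) : Nat := @Bool.rec (fun _ => Nat) (Ptab_s_58_60 c) (Ptab_s_60_62 c) (Nat.ble 60 c)
noncomputable def Ptab_s_54_62 (c : Nat) : Nat := @Bool.rec (fun _ => Nat) (Ptab_s_54_58 c) (Ptab_s_58_62 c) (Nat.ble 58 c)
noncomputable def Ptab_s_46_62 (c : Nat) : Nat := @Bool.rec (fun _ => Nat) (Ptab_s_46_54 c) (Ptab_s_54_62 c) (Nat.ble 54 c)
noncomputable def Ptab_s_31_62 (c : Nat) : Nat := @Bool.rec (fun _ => Nat) (Ptab_s_31_46 c) (Ptab_s_46_62 c) (Nat.ble 46 c)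
noncomputable def Ptab_s_0_62 (c : Nat) : Nat := @Bool.rec (fun _ => Nat) (Ptab_s_0_31 c) (Ptab_s_31_62 c) (Nat.ble 31 c)
noncomputable def Ptab_s_63_65 (c : Nat) : Nat := @Bool.rec (fun _ => Nat) (Ptab_63) (Ptab_64) (Nat.ble 64 c)
noncomputable def Ptab_s_62_65 (c : Nat) : Nat := @Bool.rec (fun _ => Nat) (Ptab_62) (Ptab_s_63_65 c) (Nat.ble 63 c)
noncomputable def Ptab_s_65_67 (c : Nat) : Nat := @Bool.rec (fun _ => Nat) (Ptab_65) (Ptab_66) (Nat.ble 66 c)
noncomputable def Ptab_s_67_69 (c : Nat) : Nat := @Bool.rec (fun _ => Nat) (Ptab_67) (Ptab_68) (Nat.ble 68 c)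
noncomputable def Ptab_s_65_69 (c : Nat) : Nat := @Bool.rec (fun _ => Nat) (Ptab_s_65_67 c) (Ptab_s_67_69 c) (Nat.ble 67 c)
noncomputable def Ptab_s_62_69 (c : Nat) : Nat := @Bool.rec (fun _ => Nat) (Ptab_s_62_65 c) (Ptab_s_65_69 c) (Nat.ble 65 c)
noncomputable def Ptab_s_69_71 (c : Nat) : Nat := @Bool.rec (fun _ => Nat) (Ptab_69) (Ptab_70) (Nat.ble 70 c)
noncomputable def Ptab_s_71_73 (c : Nat) : Nat := @Bool.rec (fun _ => Nat) (Ptab_71) (Ptab_72) (Nat.ble 72 c)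
noncomputable def Ptab_s_69_73 (c : Nat) : Nat := @Bool.rec (fun _ => Nat) (Ptab_s_69_71 c) (Ptab_s_71_73 c) (Nat.ble 71 c)
noncomputable def Ptab_s_73_75 (c : Nat) : Nat := @Bool.rec (fun _ => Nat) (Ptab_73) (Ptab_74) (Nat.ble 74 c)
noncomputable def Ptab_s_75_77 (c : Nat) : Nat := @Bool.rec (fun _ => Nat) (Ptab_75) (Ptab_76) (Nat.ble 76 c)
noncomputable def Ptab_s_73_77 (c : Nat) : Nat := @Bool.rec (fun _ => Nat) (Ptab_s_73_75 c) (Ptab_s_75_77 c) (Nat.ble 75 c)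
noncomputable def Ptab_s_69_77 (c : Nat) : Nat := @Bool.rec (fun _ => Nat) (Ptab_s_69_73 c) (Ptab_s_73_77 c) (Nat.ble 73 c)
noncomputable def Ptab_s_62_77 (c : Nat) : Nat := @Bool.rec (fun _ => Nat) (Ptab_s_62_69 c) (Ptab_s_69_77 c) (Nat.ble 69 c)
noncomputable def Ptab_s_77_79 (c : Nat) : Nat := @Bool.rec (fun _ => Nat) (Ptab_77) (Ptab_78) (Nat.ble 78 c)
noncomputable def Ptab_s_79_81 (c : Nat) : Nat := @Bool.rec (fun _ => Nat) (Ptab_79) (Ptab_80) (Nat.ble 80 c)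
noncomputable def Ptab_s_77_81 (c : Nat) : Nat := @Bool.rec (fun _ => Nat) (Ptab_s_77_79 c) (Ptab_s_79_81 c) (Nat.ble 79 c)
noncomputable def Ptab_s_81_83 (c : Nat) : Nat := @Bool.rec (fun _ => Nat) (Ptab_81) (Ptab_82) (Nat.ble 82 c)
noncomputable def Ptab_s_83_85 (c : Nat) : Nat := @Bool.rec (fun _ => Nat) (Ptab_83) (Ptab_84) (Nat.ble 84 c)
noncomputable def Ptab_s_81_85 (c : Nat) : Nat := @Bool.rec (fun _ => Nat) (Ptab_s_81_83 c) (Ptab_s_83_85 c) (Nat.ble 83 c)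
noncomputable def Ptab_s_77_85 (c : Nat) : Nat := @Bool.rec (fun _ => Nat) (Ptab_s_77_81 c) (Ptab_s_81_85 c) (Nat.ble 81 c)
noncomputable def Ptab_s_85_87 (c : Nat) : Nat := @Bool.rec (fun _ => Nat) (Ptab_85) (Ptab_86) (Nat.ble 86 c)
noncomputable def Ptab_s_87_89 (c : Nat) : Nat := @Bool.rec (fun _ => Nat) (Ptab_87) (Ptab_88) (Nat.ble 88 c)
noncomputable def Ptab_s_85_89 (c : Nat) : Nat := @Bool.rec (fun _ => Nat) (Ptab_s_85_87 c) (Ptab_s_87_89 c) (Nat.ble 87 c)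
noncomputable def Ptab_s_89_91 (c : Nat) : Nat := @Bool.rec (fun _ => Nat) (Ptab_89) (Ptab_90) (Nat.ble 90 c)
noncomputable def Ptab_s_91_93 (c : Nat) : Nat := @Bool.rec (fun _ => Nat) (Ptab_91) (Ptab_92) (Nat.ble 92 c)
noncomputable def Ptab_s_89_93 (c : Nat) : Nat := @Bool.rec (fun _ => Nat) (Ptab_s_89_91 c) (Ptab_s_91_93 c) (Nat.ble 91 c)
noncomputable def Ptab_s_85_93 (c : Nat) : Nat := @Bool.rec (fun _ => Nat) (Ptab_s_85_89 c) (Ptab_s_89_93 c) (Nat.ble 89 c)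
noncomputable def Ptab_s_77_93 (c : Nat) : Nat := @Bool.rec (fun _ => Nat) (Ptab_s_77_85 c) (Ptab_s_85_93 c) (Nat.ble 85 c)
noncomputable def Ptab_s_62_93 (c : Nat) : Nat := @Bool.rec (fun _ => Nat) (Ptab_s_62_77 c) (Ptab_s_77_93 c) (Nat.ble 77 c)
noncomputable def Ptab_s_94_96 (c : Nat) : Nat := @Bool.rec (fun _ => Nat) (Ptab_94) (Ptab_95) (Nat.ble 95 c)
noncomputable def Ptab_s_93_96 (c : Nat) : Nat := @Bool.rec (fun _ => Nat) (Ptab_93) (Ptab_s_94_96 c) (Nat.ble 94 c)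
noncomputable def Ptab_s_96_98 (c : Nat) : Nat := @Bool.rec (fun _ => Nat) (Ptab_96) (Ptab_97) (Nat.ble 97 c)
noncomputable def Ptab_s_98_100 (c : Nat) : Nat := @Bool.rec (fun _ => Nat) (Ptab_98) (Ptab_99) (Nat.ble 99 c)
noncomputable def Ptab_s_96_100 (c : Nat) : Nat := @Bool.rec (fun _ => Nat) (Ptab_s_96_98 c) (Ptab_s_98_100 c) (Nat.ble 98 c)
noncomputable def Ptab_s_93_100 (c : Nat) : Nat := @Bool.rec (fun _ => Nat) (Ptab_s_93_96 c) (Ptab_s_96_100 c) (Nat.ble 96 c)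
noncomputable def Ptab_s_100_102 (c : Nat) : Nat := @Bool.rec (fun _ => Nat) (Ptab_100) (Ptab_101) (Nat.ble 101 c)
noncomputable def Ptab_s_102_104 (c : Nat) : Nat := @Bool.rec (fun _ => Nat) (Ptab_102) (Ptab_103) (Nat.ble 103 c)
noncomputable def Ptab_s_100_104 (c : Nat) : Nat := @Bool.rec (fun _ => Nat) (Ptab_s_100_102 c) (Ptab_s_102_104 c) (Nat.ble 102 c)
noncomputable def Ptab_s_104_106 (c : Nat) : Nat := @Bool.rec (fun _ => Nat) (Ptab_104) (Ptab_105) (Nat.ble 105 c)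
noncomputable def Ptab_s_106_108 (c : Nat) : Nat := @Bool.rec (fun _ => Nat) (Ptab_106) (Ptab_107) (Nat.ble 107 c)
noncomputable def Ptab_s_104_108 (c : Nat) : Nat := @Bool.rec (fun _ => Nat) (Ptab_s_104_106 c) (Ptab_s_106_108 c) (Nat.ble 106 c)
noncomputable def Ptab_s_100_108 (c : Nat) : Nat := @Bool.rec (fun _ => Nat) (Ptab_s_100_104 c) (Ptab_s_104_108 c) (Nat.ble 104 c)
noncomputable def Ptab_s_93_108 (c : Nat) : Nat := @Bool.rec (fun _ => Nat) (Ptab_s_93_100 c) (Ptab_s_100_108 c) (Nat.ble 100 c)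
noncomputable def Ptab_s_108_110 (c : Nat) : Nat := @Bool.rec (fun _ => Nat) (Ptab_108) (Ptab_109) (Nat.ble 109 c)
noncomputable def Ptab_s_110_112 (c : Nat) : Nat := @Bool.rec (fun _ => Nat) (Ptab_110) (Ptab_111) (Nat.ble 111 c)
noncomputable def Ptab_s_108_112 (c : Nat) : Nat := @Bool.rec (fun _ => Nat) (Ptab_s_108_110 c) (Ptab_s_110_112 c) (Nat.ble 110 c)
noncomputable def Ptab_s_112_114 (c : Nat) : Nat := @Bool.rec (fun _ => Nat) (Ptab_112) (Ptab_113) (Nat.ble 113 c)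
noncomputable def Ptab_s_114_116 (c : Nat) : Nat := @Bool.rec (fun _ => Nat) (Ptab_114) (Ptab_115) (Nat.ble 115 c)
noncomputable def Ptab_s_112_116 (c : Nat) : Nat := @Bool.rec (fun _ => Nat) (Ptab_s_112_114 c) (Ptab_s_114_116 c) (Nat.ble 114 c)
noncomputable def Ptab_s_108_116 (c : Nat) : Nat := @Bool.rec (fun _ => Nat) (Ptab_s_108_112 c) (Ptab_s_112_116 c) (Nat.ble 112 c)
noncomputable def Ptab_s_116_118 (c : Nat) : Nat := @Bool.rec (fun _ => Nat) (Ptab_116) (Ptab_117) (Nat.ble 117 c)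
noncomputable def Ptab_s_118_120 (c : Nat) : Nat := @Bool.rec (fun _ => Nat) (Ptab_118) (Ptab_119) (Nat.ble 119 c)
noncomputable def Ptab_s_116_120 (c : Nat) : Nat := @Bool.rec (fun _ => Nat) (Ptab_s_116_118 c) (Ptab_s_118_120 c) (Nat.ble 118 c)
noncomputable def Ptab_s_120_122 (c : Nat) : Nat := @Bool.rec (fun _ => Nat) (Ptab_120) (Ptab_121) (Nat.ble 121 c)
noncomputable def Ptab_s_122_124 (c : Nat) : Nat := @Bool.rec (fun _ => Nat) (Ptab_122) (Ptab_123) (Nat.ble 123 c)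
noncomputable def Ptab_s_120_124 (c : Nat) : Nat := @Bool.rec (fun _ => Nat) (Ptab_s_120_122 c) (Ptab_s_122_124 c) (Nat.ble 122 c)
noncomputable def Ptab_s_116_124 (c : Nat) : Nat := @Bool.rec (fun _ => Nat) (Ptab_s_116_120 c) (Ptab_s_120_124 c) (Nat.ble 120 c)
noncomputable def Ptab_s_108_124 (c : Nat) : Nat := @Bool.rec (fun _ => Nat) (Ptab_s_108_116 c) (Ptab_s_116_124 c) (Nat.ble 116 c)
noncomputable def Ptab_s_93_124 (c : Nat) : Nat := @Bool.rec (fun _ => Nat) (Ptab_s_93_108 c) (Ptab_s_108_124 c) (Nat.ble 108 c)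
noncomputable def Ptab_s_62_124 (c : Nat) : Nat := @Bool.rec (fun _ => Nat) (Ptab_s_62_93 c) (Ptab_s_93_124 c) (Nat.ble 93 c)
noncomputable def Ptab_s_0_124 (c : Nat) : Nat := @Bool.rec (fun _ => Nat) (Ptab_s_0_62 c) (Ptab_s_62_124 c) (Nat.ble 62 c)
noncomputable def Ptab_s_125_127 (c : Nat) : Nat := @Bool.rec (fun _ => Nat) (Ptab_125) (Ptab_126) (Nat.ble 126 c)
noncomputable def Ptab_s_124_127 (c : Nat) : Nat := @Bool.rec (fun _ => Nat) (Ptab_124) (Ptab_s_125_127 c) (Nat.ble 125 c)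
noncomputable def Ptab_s_127_129 (c : Nat) : Nat := @Bool.rec (fun _ => Nat) (Ptab_127) (Ptab_128) (Nat.ble 128 c)
noncomputable def Ptab_s_129_131 (c : Nat) : Nat := @Bool.rec (fun _ => Nat) (Ptab_129) (Ptab_130) (Nat.ble 130 c)
noncomputable def Ptab_s_127_131 (c : Nat) : Nat := @Bool.rec (fun _ => Nat) (Ptab_s_127_129 c) (Ptab_s_129_131 c) (Nat.ble 129 c)
noncomputable def Ptab_s_124_131 (c : Nat) : Nat := @Bool.rec (fun _ => Nat) (Ptab_s_124_127 c) (Ptab_s_127_131 c) (Nat.ble 127 c)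
noncomputable def Ptab_s_131_133 (c : Nat) : Nat := @Bool.rec (fun _ => Nat) (Ptab_131) (Ptab_132) (Nat.ble 132 c)
noncomputable def Ptab_s_133_135 (c : Nat) : Nat := @Bool.rec (fun _ => Nat) (Ptab_133) (Ptab_134) (Nat.ble 134 c)
noncomputable def Ptab_s_131_135 (c : Nat) : Nat := @Bool.rec (fun _ => Nat) (Ptab_s_131_133 c) (Ptab_s_133_135 c) (Nat.ble 133 c)
noncomputable def Ptab_s_135_137 (c : Nat) : Nat := @Bool.rec (fun _ => Nat) (Ptab_135) (Ptab_136) (Nat.ble 136 c)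
noncomputable def Ptab_s_137_139 (c : Nat) : Nat := @Bool.rec (fun _ => Nat) (Ptab_137) (Ptab_138) (Nat.ble 138 c)
noncomputable def Ptab_s_135_139 (c : Nat) : Nat := @Bool.rec (fun _ => Nat) (Ptab_s_135_137 c) (Ptab_s_137_139 c) (Nat.ble 137 c)
noncomputable def Ptab_s_131_139 (c : Nat) : Nat := @Bool.rec (fun _ => Nat) (Ptab_s_131_135 c) (Ptab_s_135_139 c) (Nat.ble 135 c)
noncomputable def Ptab_s_124_139 (c : Nat) : Nat := @Bool.rec (fun _ => Nat) (Ptab_s_124_131 c) (Ptab_s_131_139 c) (Nat.ble 131 c)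
noncomputable def Ptab_s_139_141 (c : Nat) : Nat := @Bool.rec (fun _ => Nat) (Ptab_139) (Ptab_140) (Nat.ble 140 c)
noncomputable def Ptab_s_141_143 (c : Nat) : Nat := @Bool.rec (fun _ => Nat) (Ptab_141) (Ptab_142) (Nat.ble 142 c)
noncomputable def Ptab_s_139_143 (c : Nat) : Nat := @Bool.rec (fun _ => Nat) (Ptab_s_139_141 c) (Ptab_s_141_143 c) (Nat.ble 141 c)
noncomputable def Ptab_s_143_145 (c : Nat) : Nat := @Bool.rec (fun _ => Nat) (Ptab_143) (Ptab_144) (Nat.ble 144 c)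
noncomputable def Ptab_s_145_147 (c : Nat) : Nat := @Bool.rec (fun _ => Nat) (Ptab_145) (Ptab_146) (Nat.ble 146 c)
noncomputable def Ptab_s_143_147 (c : Nat) : Nat := @Bool.rec (fun _ => Nat) (Ptab_s_143_145 c) (Ptab_s_145_147 c) (Nat.ble 145 c)
noncomputable def Ptab_s_139_147 (c : Nat) : Nat := @Bool.rec (fun _ => Nat) (Ptab_s_139_143 c) (Ptab_s_143_147 c) (Nat.ble 143 c)
noncomputable def Ptab_s_147_149 (c : Nat) : Nat := @Bool.rec (fun _ => Nat) (Ptab_147) (Ptab_148) (Nat.ble 148 c)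
noncomputable def Ptab_s_149_151 (c : Nat) : Nat := @Bool.rec (fun _ => Nat) (Ptab_149) (Ptab_150) (Nat.ble 150 c)
noncomputable def Ptab_s_147_151 (c : Nat) : Nat := @Bool.rec (fun _ => Nat) (Ptab_s_147_149 c) (Ptab_s_149_151 c) (Nat.ble 149 c)
noncomputable def Ptab_s_151_153 (c : Nat) : Nat := @Bool.rec (fun _ => Nat) (Ptab_151) (Ptab_152) (Nat.ble 152 c)
noncomputable def Ptab_s_153_155 (c : Nat) : Nat := @Bool.rec (fun _ => Nat) (Ptab_153) (Ptab_154) (Nat.ble 154 c)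
noncomputable def Ptab_s_151_155 (c : Nat) : Nat := @Bool.rec (fun _ => Nat) (Ptab_s_151_153 c) (Ptab_s_153_155 c) (Nat.ble 153 c)
noncomputable def Ptab_s_147_155 (c : Nat) : Nat := @Bool.rec (fun _ => Nat) (Ptab_s_147_151 c) (Ptab_s_151_155 c) (Nat.ble 151 c)
noncomputable def Ptab_s_139_155 (c : Nat) : Nat := @Bool.rec (fun _ => Nat) (Ptab_s_139_147 c) (Ptab_s_147_155 c) (Nat.ble 147 c)
noncomputable def Ptab_s_124_155 (c : Nat) : Nat := @Bool.rec (fun _ => Nat) (Ptab_s_124_139 c) (Ptab_s_139_155 c) (Nat.ble 139 c)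
noncomputable def Ptab_s_156_158 (c : Nat) : Nat := @Bool.rec (fun _ => Nat) (Ptab_156) (Ptab_157) (Nat.ble 157 c)
noncomputable def Ptab_s_155_158 (c : Nat) : Nat := @Bool.rec (fun _ => Nat) (Ptab_155) (Ptab_s_156_158 c) (Nat.ble 156 c)
noncomputable def Ptab_s_158_160 (c : Nat) : Nat := @Bool.rec (fun _ => Nat) (Ptab_158) (Ptab_159) (Nat.ble 159 c)
noncomputable def Ptab_s_160_162 (c : Nat) : Nat := @Bool.rec (fun _ => Nat) (Ptab_160) (Ptab_161) (Nat.ble 161 c)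
noncomputable def Ptab_s_158_162 (c : Nat) : Nat := @Bool.rec (fun _ => Nat) (Ptab_s_158_160 c) (Ptab_s_160_162 c) (Nat.ble 160 c)
noncomputable def Ptab_s_155_162 (c : Nat) : Nat := @Bool.rec (fun _ => Nat) (Ptab_s_155_158 c) (Ptab_s_158_162 c) (Nat.ble 158 c)
noncomputable def Ptab_s_162_164 (c : Nat) : Nat := @Bool.rec (fun _ => Nat) (Ptab_162) (Ptab_163) (Nat.ble 163 c)
noncomputable def Ptab_s_164_166 (c : Nat) : Nat := @Bool.rec (fun _ => Nat) (Ptab_164) (Ptab_165) (Nat.ble 165 c)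
noncomputable def Ptab_s_162_166 (c : Nat) : Nat := @Bool.rec (fun _ => Nat) (Ptab_s_162_164 c) (Ptab_s_164_166 c) (Nat.ble 164 c)
noncomputable def Ptab_s_166_168 (c : Nat) : Nat := @Bool.rec (fun _ => Nat) (Ptab_166) (Ptab_167) (Nat.ble 167 c)
noncomputable def Ptab_s_168_170 (c : Nat) : Nat := @Bool.rec (fun _ => Nat) (Ptab_168) (Ptab_169) (Nat.ble 169 c)
noncomputable def Ptab_s_166_170 (c : Nat) : Nat := @Bool.rec (fun _ => Nat) (Ptab_s_166_168 c) (Ptab_s_168_170 c) (Nat.ble 168 c)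
noncomputable def Ptab_s_162_170 (c : Nat) : Nat := @Bool.rec (fun _ => Nat) (Ptab_s_162_166 c) (Ptab_s_166_170 c) (Nat.ble 166 c)
noncomputable def Ptab_s_155_170 (c : Nat) : Nat := @Bool.rec (fun _ => Nat) (Ptab_s_155_162 c) (Ptab_s_162_170 c) (Nat.ble 162 c)
noncomputable def Ptab_s_170_172 (c : Nat) : Nat := @Bool.rec (fun _ => Nat) (Ptab_170) (Ptab_171) (Nat.ble 171 c)
noncomputable def Ptab_s_172_174 (c : Nat) : Nat := @Bool.rec (fun _ => Nat) (Ptab_172) (Ptab_173) (Nat.ble 173 c)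
noncomputable def Ptab_s_170_174 (c : Nat) : Nat := @Bool.rec (fun _ => Nat) (Ptab_s_170_172 c) (Ptab_s_172_174 c) (Nat.ble 172 c)
noncomputable def Ptab_s_174_176 (c : Nat) : Nat := @Bool.rec (fun _ => Nat) (Ptab_174) (Ptab_175) (Nat.ble 175 c)
noncomputable def Ptab_s_176_178 (c : Nat) : Nat := @Bool.rec (fun _ => Nat) (Ptab_176) (Ptab_177) (Nat.ble 177 c)
noncomputable def Ptab_s_174_178 (c : Nat) : Nat := @Bool.rec (fun _ => Nat) (Ptab_s_174_176 c) (Ptab_s_176_178 c) (Nat.ble 176 c)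
noncomputable def Ptab_s_170_178 (c : Nat) : Nat := @Bool.rec (fun _ => Nat) (Ptab_s_170_174 c) (Ptab_s_174_178 c) (Nat.ble 174 c)
noncomputable def Ptab_s_178_180 (c : Nat) : Nat := @Bool.rec (fun _ => Nat) (Ptab_178) (Ptab_179) (Nat.ble 179 c)
noncomputable def Ptab_s_180_182 (c : Nat) : Nat := @Bool.rec (fun _ => Nat) (Ptab_180) (Ptab_181) (Nat.ble 181 c)
noncomputable def Ptab_s_178_182 (c : Nat) : Nat := @Bool.rec (fun _ => Nat) (Ptab_s_178_180 c) (Ptab_s_180_182 c) (Nat.ble 180 c)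
noncomputable def Ptab_s_182_184 (c : Nat) : Nat := @Bool.rec (fun _ => Nat) (Ptab_182) (Ptab_183) (Nat.ble 183 c)
noncomputable def Ptab_s_184_186 (c : Nat) : Nat := @Bool.rec (fun _ => Nat) (Ptab_184) (Ptab_185) (Nat.ble 185 c)
noncomputable def Ptab_s_182_186 (c : Nat) : Nat := @Bool.rec (fun _ => Nat) (Ptab_s_182_184 c) (Ptab_s_184_186 c) (Nat.ble 184 c)
noncomputable def Ptab_s_178_186 (c : Nat) : Nat := @Bool.rec (fun _ => Nat) (Ptab_s_178_182 c) (Ptab_s_182_186 c) (Nat.ble 182 c)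
noncomputable def Ptab_s_170_186 (c : Nat) : Nat := @Bool.rec (fun _ => Nat) (Ptab_s_170_178 c) (Ptab_s_178_186 c) (Nat.ble 178 c)
noncomputable def Ptab_s_155_186 (c : Nat) : Nat := @Bool.rec (fun _ => Nat) (Ptab_s_155_170 c) (Ptab_s_170_186 c) (Nat.ble 170 c)
noncomputable def Ptab_s_124_186 (c : Nat) : Nat := @Bool.rec (fun _ => Nat) (Ptab_s_124_155 c) (Ptab_s_155_186 c) (Nat.ble 155 c)
noncomputable def Ptab_s_187_189 (c : Nat) : Nat := @Bool.rec (fun _ => Nat) (Ptab_187) (Ptab_188) (Nat.ble 188 c)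
noncomputable def Ptab_s_186_189 (c : Nat) : Nat := @Bool.rec (fun _ => Nat) (Ptab_186) (Ptab_s_187_189 c) (Nat.ble 187 c)
noncomputable def Ptab_s_189_191 (c : Nat) : Nat := @Bool.rec (fun _ => Nat) (Ptab_189) (Ptab_190) (Nat.ble 190 c)
noncomputable def Ptab_s_191_193 (c : Nat) : Nat := @Bool.rec (fun _ => Nat) (Ptab_191) (Ptab_192) (Nat.ble 192 c)
noncomputable def Ptab_s_189_193 (c : Nat) : Nat := @Bool.rec (fun _ => Nat) (Ptab_s_189_191 c) (Ptab_s_191_193 c) (Nat.ble 191 c)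
noncomputable def Ptab_s_186_193 (c : Nat) : Nat := @Bool.rec (fun _ => Nat) (Ptab_s_186_189 c) (Ptab_s_189_193 c) (Nat.ble 189 c)
noncomputable def Ptab_s_193_195 (c : Nat) : Nat := @Bool.rec (fun _ => Nat) (Ptab_193) (Ptab_194) (Nat.ble 194 c)
noncomputable def Ptab_s_195_197 (c : Nat) : Nat := @Bool.rec (fun _ => Nat) (Ptab_195) (Ptab_196) (Nat.ble 196 c)
noncomputable def Ptab_s_193_197 (c : Nat) : Nat := @Bool.rec (fun _ => Nat) (Ptab_s_193_195 c) (Ptab_s_195_197 c) (Nat.ble 195 c)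
noncomputable def Ptab_s_197_199 (c : Nat) : Nat := @Bool.rec (fun _ => Nat) (Ptab_197) (Ptab_198) (Nat.ble 198 c)
noncomputable def Ptab_s_199_201 (c : Nat) : Nat := @Bool.rec (fun _ => Nat) (Ptab_199) (Ptab_200) (Nat.ble 200 c)
noncomputable def Ptab_s_197_201 (c : Nat) : Nat := @Bool.rec (fun _ => Nat) (Ptab_s_197_199 c) (Ptab_s_199_201 c) (Nat.ble 199 c)
noncomputable def Ptab_s_193_201 (c : Nat) : Nat := @Bool.rec (fun _ => Nat) (Ptab_s_193_197 c) (Ptab_s_197_201 c) (Nat.ble 197 c)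
noncomputable def Ptab_s_186_201 (c : Nat) : Nat := @Bool.rec (fun _ => Nat) (Ptab_s_186_193 c) (Ptab_s_193_201 c) (Nat.ble 193 c)
noncomputable def Ptab_s_201_203 (c : Nat) : Nat := @Bool.rec (fun _ => Nat) (Ptab_201) (Ptab_202) (Nat.ble 202 c)
noncomputable def Ptab_s_203_205 (c : Nat) : Nat := @Bool.rec (fun _ => Nat) (Ptab_203) (Ptab_204) (Nat.ble 204 c)
noncomputable def Ptab_s_201_205 (c : Nat) : Nat := @Bool.rec (fun _ => Nat) (Ptab_s_201_203 c) (Ptab_s_203_205 c) (Nat.ble 203 c)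
noncomputable def Ptab_s_205_207 (c : Nat) : Nat := @Bool.rec (fun _ => Nat) (Ptab_205) (Ptab_206) (Nat.ble 206 c)
noncomputable def Ptab_s_207_209 (c : Nat) : Nat := @Bool.rec (fun _ => Nat) (Ptab_207) (Ptab_208) (Nat.ble 208 c)
noncomputable def Ptab_s_205_209 (c : Nat) : Nat := @Bool.rec (fun _ => Nat) (Ptab_s_205_207 c) (Ptab_s_207_209 c) (Nat.ble 207 c)
noncomputable def Ptab_s_201_209 (c : Nat) : Nat := @Bool.rec (fun _ => Nat) (Ptab_s_201_205 c) (Ptab_s_205_209 c) (Nat.ble 205 c)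
noncomputable def Ptab_s_209_211 (c : Nat) : Nat := @Bool.rec (fun _ => Nat) (Ptab_209) (Ptab_210) (Nat.ble 210 c)
noncomputable def Ptab_s_211_213 (c : Nat) : Nat := @Bool.rec (fun _ => Nat) (Ptab_211) (Ptab_212) (Nat.ble 212 c)
noncomputable def Ptab_s_209_213 (c : Nat) : Nat := @Bool.rec (fun _ => Nat) (Ptab_s_209_211 c) (Ptab_s_211_213 c) (Nat.ble 211 c)
noncomputable def Ptab_s_213_215 (c : Nat) : Nat := @Bool.rec (fun _ => Nat) (Ptab_213) (Ptab_214) (Nat.ble 214 c)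
noncomputable def Ptab_s_215_217 (c : Nat) : Nat := @Bool.rec (fun _ => Nat) (Ptab_215) (Ptab_216) (Nat.ble 216 c)
noncomputable def Ptab_s_213_217 (c : Nat) : Nat := @Bool.rec (fun _ => Nat) (Ptab_s_213_215 c) (Ptab_s_215_217 c) (Nat.ble 215 c)
noncomputable def Ptab_s_209_217 (c : Nat) : Nat := @Bool.rec (fun _ => Nat) (Ptab_s_209_213 c) (Ptab_s_213_217 c) (Nat.ble 213 c)
noncomputable def Ptab_s_201_217 (c : Nat) : Nat := @Bool.rec (fun _ => Nat) (Ptab_s_201_209 c) (Ptab_s_209_217 c) (Nat.ble 209 c)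
noncomputable def Ptab_s_186_217 (c : Nat) : Nat := @Bool.rec (fun _ => Nat) (Ptab_s_186_201 c) (Ptab_s_201_217 c) (Nat.ble 201 c)
noncomputable def Ptab_s_218_220 (c : Nat) : Nat := @Bool.rec (fun _ => Nat) (Ptab_218) (Ptab_219) (Nat.ble 219 c)
noncomputable def Ptab_s_217_220 (c : Nat) : Nat := @Bool.rec (fun _ => Nat) (Ptab_217) (Ptab_s_218_220 c) (Nat.ble 218 c)
noncomputable def Ptab_s_220_222 (c : Nat) : Nat := @Bool.rec (fun _ => Nat) (Ptab_220) (Ptab_221) (Nat.ble 221 c)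
noncomputable def Ptab_s_222_224 (c : Nat) : Nat := @Bool.rec (fun _ => Nat) (Ptab_222) (Ptab_223) (Nat.ble 223 c)
noncomputable def Ptab_s_220_224 (c : Nat) : Nat := @Bool.rec (fun _ => Nat) (Ptab_s_220_222 c) (Ptab_s_222_224 c) (Nat.ble 222 c)
noncomputable def Ptab_s_217_224 (c : Nat) : Nat := @Bool.rec (fun _ => Nat) (Ptab_s_217_220 c) (Ptab_s_220_224 c) (Nat.ble 220 c)
noncomputable def Ptab_s_224_226 (c : Nat) : Nat := @Bool.rec (fun _ => Nat) (Ptab_224) (Ptab_225) (Nat.ble 225 c)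
noncomputable def Ptab_s_226_228 (c : Nat) : Nat := @Bool.rec (fun _ => Nat) (Ptab_226) (Ptab_227) (Nat.ble 227 c)
noncomputable def Ptab_s_224_228 (c : Nat) : Nat := @Bool.rec (fun _ => Nat) (Ptab_s_224_226 c) (Ptab_s_226_228 c) (Nat.ble 226 c)
noncomputable def Ptab_s_228_230 (c : Nat) : Nat := @Bool.rec (fun _ => Nat) (Ptab_228) (Ptab_229) (Nat.ble 229 c)
noncomputable def Ptab_s_230_232 (c : Nat) : Nat := @Bool.rec (fun _ => Nat) (Ptab_230) (Ptab_231) (Nat.ble 231 c)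
noncomputable def Ptab_s_228_232 (c : Nat) : Nat := @Bool.rec (fun _ => Nat) (Ptab_s_228_230 c) (Ptab_s_230_232 c) (Nat.ble 230 c)
noncomputable def Ptab_s_224_232 (c : Nat) : Nat := @Bool.rec (fun _ => Nat) (Ptab_s_224_228 c) (Ptab_s_228_232 c) (Nat.ble 228 c)
noncomputable def Ptab_s_217_232 (c : Nat) : Nat := @Bool.rec (fun _ => Nat) (Ptab_s_217_224 c) (Ptab_s_224_232 c) (Nat.ble 224 c)
noncomputable def Ptab_s_232_234 (c : Nat) : Nat := @Bool.rec (fun _ => Nat) (Ptab_232) (Ptab_233) (Nat.ble 233 c)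
noncomputable def Ptab_s_234_236 (c : Nat) : Nat := @Bool.rec (fun _ => Nat) (Ptab_234) (Ptab_235) (Nat.ble 235 c)
noncomputable def Ptab_s_232_236 (c : Nat) : Nat := @Bool.rec (fun _ => Nat) (Ptab_s_232_234 c) (Ptab_s_234_236 c) (Nat.ble 234 c)
noncomputable def Ptab_s_236_238 (c : Nat) : Nat := @Bool.rec (fun _ => Nat) (Ptab_236) (Ptab_237) (Nat.ble 237 c)
noncomputable def Ptab_s_238_240 (c : Nat) : Nat := @Bool.rec (fun _ => Nat) (Ptab_238) (Ptab_239) (Nat.ble 239 c)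
noncomputable def Ptab_s_236_240 (c : Nat) : Nat := @Bool.rec (fun _ => Nat) (Ptab_s_236_238 c) (Ptab_s_238_240 c) (Nat.ble 238 c)
noncomputable def Ptab_s_232_240 (c : Nat) : Nat := @Bool.rec (fun _ => Nat) (Ptab_s_232_236 c) (Ptab_s_236_240 c) (Nat.ble 236 c)
noncomputable def Ptab_s_240_242 (c : Nat) : Nat := @Bool.rec (fun _ => Nat) (Ptab_240) (Ptab_241) (Nat.ble 241 c)
noncomputable def Ptab_s_242_244 (c : Nat) : Nat := @Bool.rec (fun _ => Nat) (Ptab_242) (Ptab_243) (Nat.ble 243 c)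
noncomputable def Ptab_s_240_244 (c : Nat) : Nat := @Bool.rec (fun _ => Nat) (Ptab_s_240_242 c) (Ptab_s_242_244 c) (Nat.ble 242 c)
noncomputable def Ptab_s_244_246 (c : Nat) : Nat := @Bool.rec (fun _ => Nat) (Ptab_244) (Ptab_245) (Nat.ble 245 c)
noncomputable def Ptab_s_246_248 (c : Nat) : Nat := @Bool.rec (fun _ => Nat) (Ptab_246) (Ptab_247) (Nat.ble 247 c)
noncomputable def Ptab_s_244_248 (c : Nat) : Nat := @Bool.rec (fun _ => Nat) (Ptab_s_244_246 c) (Ptab_s_246_248 c) (Nat.ble 246 c)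
noncomputable def Ptab_s_240_248 (c : Nat) : Nat := @Bool.rec (fun _ => Nat) (Ptab_s_240_244 c) (Ptab_s_244_248 c) (Nat.ble 244 c)
noncomputable def Ptab_s_232_248 (c : Nat) : Nat := @Bool.rec (fun _ => Nat) (Ptab_s_232_240 c) (Ptab_s_240_248 c) (Nat.ble 240 c)
noncomputable def Ptab_s_217_248 (c : Nat) : Nat := @Bool.rec (fun _ => Nat) (Ptab_s_217_232 c) (Ptab_s_232_248 c) (Nat.ble 232 c)
noncomputable def Ptab_s_186_248 (c : Nat) : Nat := @Bool.rec (fun _ => Nat) (Ptab_s_186_217 c) (Ptab_s_217_248 c) (Nat.ble 217 c)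
noncomputable def Ptab_s_124_248 (c : Nat) : Nat := @Bool.rec (fun _ => Nat) (Ptab_s_124_186 c) (Ptab_s_186_248 c) (Nat.ble 186 c)
noncomputable def Ptab_s_0_248 (c : Nat) : Nat := @Bool.rec (fun _ => Nat) (Ptab_s_0_124 c) (Ptab_s_124_248 c) (Nat.ble 124 c)
noncomputable def Ptab (i : Nat) : Nat := rdw 20 1048575 (Ptab_s_0_248 (Nat.shiftRight i 12)) (Nat.land i 4095)
noncomputable def RRtab (i : Nat) : Nat := rdw 6 63 RRtab_0 i
noncomputable def rBtab (i : Nat) : Nat := rdw 12 4095 rBtab_0 i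
noncomputable def rLtab (i : Nat) : Nat := rdw 6 63 rLtab_0 i
noncomputable def nameTab_s_1_3 (c : Nat) : Nat := @Bool.rec (fun _ => Nat) (nameTab_1) (nameTab_2) (Nat.ble 2 c)
noncomputable def nameTab_s_0_3 (c : Nat) : Nat := @Bool.rec (fun _ => Nat) (nameTab_0) (nameTab_s_1_3 c) (Nat.ble 1 c)
noncomputable def nameTab (i : Nat) : Nat := rdw 16 65535 (nameTab_s_0_3 (Nat.shiftRight i 12)) (Nat.land i 4095)
noncomputable def col0_s_1_3 (c : Nat) : Nat := @Bool.rec (fun _ => Nat) (col0_1) (col0_2) (Nat.ble 2 c)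
noncomputable def col0_s_0_3 (c : Nat) : Nat := @Bool.rec (fun _ => Nat) (col0_0) (col0_s_1_3 c) (Nat.ble 1 c)
noncomputable def col0 (i : Nat) : Nat := rdw 14 16383 (col0_s_0_3 (Nat.shiftRight i 12)) (Nat.land i 4095)
noncomputable def col1_s_1_3 (c : Nat) : Nat := @Bool.rec (fun _ => Nat) (col1_1) (col1_2) (Nat.ble 2 c)
noncomputable def col1_s_0_3 (c : Nat) : Nat := @Bool.rec (fun _ => Nat) (col1_0) (col1_s_1_3 c) (Nat.ble 1 c)
noncomputable def col1 (i : Nat) : Nat := rdw 14 16383 (col1_s_0_3 (Nat.shiftRight i 12)) (Nat.land i 4095)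
noncomputable def col2_s_1_3 (c : Nat) : Nat := @Bool.rec (fun _ => Nat) (col2_1) (col2_2) (Nat.ble 2 c)
noncomputable def col2_s_0_3 (c : Nat) : Nat := @Bool.rec (fun _ => Nat) (col2_0) (col2_s_1_3 c) (Nat.ble 1 c)
noncomputable def col2 (i : Nat) : Nat := rdw 14 16383 (col2_s_0_3 (Nat.shiftRight i 12)) (Nat.land i 4095)
noncomputable def col3_s_1_3 (c : Nat) : Nat := @Bool.rec (fun _ => Nat) (col3_1) (col3_2) (Nat.ble 2 c)
noncomputable def col3_s_0_3 (c : Nat) : Nat := @Bool.rec (fun _ => Nat) (col3_0) (col3_s_1_3 c) (Nat.ble 1 c)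
noncomputable def col3 (i : Nat) : Nat := rdw 14 16383 (col3_s_0_3 (Nat.shiftRight i 12)) (Nat.land i 4095)
noncomputable def col4_s_1_3 (c : Nat) : Nat := @Bool.rec (fun _ => Nat) (col4_1) (col4_2) (Nat.ble 2 c)
noncomputable def col4_s_0_3 (c : Nat) : Nat := @Bool.rec (fun _ => Nat) (col4_0) (col4_s_1_3 c) (Nat.ble 1 c)
noncomputable def col4 (i : Nat) : Nat := rdw 14 16383 (col4_s_0_3 (Nat.shiftRight i 12)) (Nat.land i 4095)
noncomputable def col5_s_1_3 (c : Nat) : Nat := @Bool.rec (fun _ => Nat) (col5_1) (col5_2) (Nat.ble 2 c)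
noncomputable def col5_s_0_3 (c : Nat) : Nat := @Bool.rec (fun _ => Nat) (col5_0) (col5_s_1_3 c) (Nat.ble 1 c)
noncomputable def col5 (i : Nat) : Nat := rdw 14 16383 (col5_s_0_3 (Nat.shiftRight i 12)) (Nat.land i 4095)
noncomputable def col6_s_1_3 (c : Nat) : Nat := @Bool.rec (fun _ => Nat) (col6_1) (col6_2) (Nat.ble 2 c)
noncomputable def col6_s_0_3 (c : Nat) : Nat := @Bool.rec (fun _ => Nat) (col6_0) (col6_s_1_3 c) (Nat.ble 1 c)
noncomputable def col6 (i : Nat) : Nat := rdw 14 16383 (col6_s_0_3 (Nat.shiftRight i 12)) (Nat.land i 4095)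
noncomputable def col7_s_1_3 (c : Nat) : Nat := @Bool.rec (fun _ => Nat) (col7_1) (col7_2) (Nat.ble 2 c)
noncomputable def col7_s_0_3 (c : Nat) : Nat := @Bool.rec (fun _ => Nat) (col7_0) (col7_s_1_3 c) (Nat.ble 1 c)
noncomputable def col7 (i : Nat) : Nat := rdw 14 16383 (col7_s_0_3 (Nat.shiftRight i 12)) (Nat.land i 4095)
noncomputable def col8_s_1_3 (c : Nat) : Nat := @Bool.rec (fun _ => Nat) (col8_1) (col8_2) (Nat.ble 2 c)
noncomputable def col8_s_0_3 (c : Nat) : Nat := @Bool.rec (fun _ => Nat) (col8_0) (col8_s_1_3 c) (Nat.ble 1 c)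
noncomputable def col8 (i : Nat) : Nat := rdw 14 16383 (col8_s_0_3 (Nat.shiftRight i 12)) (Nat.land i 4095)
noncomputable def col9_s_1_3 (c : Nat) : Nat := @Bool.rec (fun _ => Nat) (col9_1) (col9_2) (Nat.ble 2 c)
noncomputable def col9_s_0_3 (c : Nat) : Nat := @Bool.rec (fun _ => Nat) (col9_0) (col9_s_1_3 c) (Nat.ble 1 c)
noncomputable def col9 (i : Nat) : Nat := rdw 14 16383 (col9_s_0_3 (Nat.shiftRight i 12)) (Nat.land i 4095)
noncomputable def col10_s_1_3 (c : Nat) : Nat := @Bool.rec (fun _ => Nat) (col10_1) (col10_2) (Nat.ble 2 c)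
noncomputable def col10_s_0_3 (c : Nat) : Nat := @Bool.rec (fun _ => Nat) (col10_0) (col10_s_1_3 c) (Nat.ble 1 c)
noncomputable def col10 (i : Nat) : Nat := rdw 14 16383 (col10_s_0_3 (Nat.shiftRight i 12)) (Nat.land i 4095)
noncomputable def col11_s_1_3 (c : Nat) : Nat := @Bool.rec (fun _ => Nat) (col11_1) (col11_2) (Nat.ble 2 c)
noncomputable def col11_s_0_3 (c : Nat) : Nat := @Bool.rec (fun _ => Nat) (col11_0) (col11_s_1_3 c) (Nat.ble 1 c)
noncomputable def col11 (i : Nat) : Nat := rdw 14 16383 (col11_s_0_3 (Nat.shiftRight i 12)) (Nat.land i 4095)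
noncomputable def col12_s_1_3 (c : Nat) : Nat := @Bool.rec (fun _ => Nat) (col12_1) (col12_2) (Nat.ble 2 c)
noncomputable def col12_s_0_3 (c : Nat) : Nat := @Bool.rec (fun _ => Nat) (col12_0) (col12_s_1_3 c) (Nat.ble 1 c)
noncomputable def col12 (i : Nat) : Nat := rdw 14 16383 (col12_s_0_3 (Nat.shiftRight i 12)) (Nat.land i 4095)
noncomputable def col13_s_1_3 (c : Nat) : Nat := @Bool.rec (fun _ => Nat) (col13_1) (col13_2) (Nat.ble 2 c)
noncomputable def col13_s_0_3 (c : Nat) : Nat := @Bool.rec (fun _ => Nat) (col13_0) (col13_s_1_3 c) (Nat.ble 1 c)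
noncomputable def col13 (i : Nat) : Nat := rdw 14 16383 (col13_s_0_3 (Nat.shiftRight i 12)) (Nat.land i 4095)
noncomputable def col14_s_1_3 (c : Nat) : Nat := @Bool.rec (fun _ => Nat) (col14_1) (col14_2) (Nat.ble 2 c)
noncomputable def col14_s_0_3 (c : Nat) : Nat := @Bool.rec (fun _ => Nat) (col14_0) (col14_s_1_3 c) (Nat.ble 1 c)
noncomputable def col14 (i : Nat) : Nat := rdw 14 16383 (col14_s_0_3 (Nat.shiftRight i 12)) (Nat.land i 4095)
noncomputable def col15_s_1_3 (c : Nat) : Nat := @Bool.rec (fun _ => Nat) (col15_1) (col15_2) (Nat.ble 2 c)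
noncomputable def col15_s_0_3 (c : Nat) : Nat := @Bool.rec (fun _ => Nat) (col15_0) (col15_s_1_3 c) (Nat.ble 1 c)
noncomputable def col15 (i : Nat) : Nat := rdw 14 16383 (col15_s_0_3 (Nat.shiftRight i 12)) (Nat.land i 4095)
noncomputable def col16_s_1_3 (c : Nat) : Nat := @Bool.rec (fun _ => Nat) (col16_1) (col16_2) (Nat.ble 2 c)
noncomputable def col16_s_0_3 (c : Nat) : Nat := @Bool.rec (fun _ => Nat) (col16_0) (col16_s_1_3 c) (Nat.ble 1 c)
noncomputable def col16 (i : Nat) : Nat := rdw 14 16383 (col16_s_0_3 (Nat.shiftRight i 12)) (Nat.land i 4095)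
noncomputable def col17_s_1_3 (c : Nat) : Nat := @Bool.rec (fun _ => Nat) (col17_1) (col17_2) (Nat.ble 2 c)
noncomputable def col17_s_0_3 (c : Nat) : Nat := @Bool.rec (fun _ => Nat) (col17_0) (col17_s_1_3 c) (Nat.ble 1 c)
noncomputable def col17 (i : Nat) : Nat := rdw 14 16383 (col17_s_0_3 (Nat.shiftRight i 12)) (Nat.land i 4095)
noncomputable def col18_s_1_3 (c : Nat) : Nat := @Bool.rec (fun _ => Nat) (col18_1) (col18_2) (Nat.ble 2 c)
noncomputable def col18_s_0_3 (c : Nat) : Nat := @Bool.rec (fun _ => Nat) (col18_0) (col18_s_1_3 c) (Nat.ble 1 c)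
noncomputable def col18 (i : Nat) : Nat := rdw 14 16383 (col18_s_0_3 (Nat.shiftRight i 12)) (Nat.land i 4095)
noncomputable def col19_s_1_3 (c : Nat) : Nat := @Bool.rec (fun _ => Nat) (col19_1) (col19_2) (Nat.ble 2 c)
noncomputable def col19_s_0_3 (c : Nat) : Nat := @Bool.rec (fun _ => Nat) (col19_0) (col19_s_1_3 c) (Nat.ble 1 c)
noncomputable def col19 (i : Nat) : Nat := rdw 14 16383 (col19_s_0_3 (Nat.shiftRight i 12)) (Nat.land i 4095)
noncomputable def col20_s_1_3 (c : Nat) : Nat := @Bool.rec (fun _ => Nat) (col20_1) (col20_2) (Nat.ble 2 c)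
noncomputable def col20_s_0_3 (c : Nat) : Nat := @Bool.rec (fun _ => Nat) (col20_0) (col20_s_1_3 c) (Nat.ble 1 c)
noncomputable def col20 (i : Nat) : Nat := rdw 14 16383 (col20_s_0_3 (Nat.shiftRight i 12)) (Nat.land i 4095)
noncomputable def col21_s_1_3 (c : Nat) : Nat := @Bool.rec (fun _ => Nat) (col21_1) (col21_2) (Nat.ble 2 c)
noncomputable def col21_s_0_3 (c : Nat) : Nat := @Bool.rec (fun _ => Nat) (col21_0) (col21_s_1_3 c) (Nat.ble 1 c)
noncomputable def col21 (i : Nat) : Nat := rdw 14 16383 (col21_s_0_3 (Nat.shiftRight i 12)) (Nat.land i 4095)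
noncomputable def col22_s_1_3 (c : Nat) : Nat := @Bool.rec (fun _ => Nat) (col22_1) (col22_2) (Nat.ble 2 c)
noncomputable def col22_s_0_3 (c : Nat) : Nat := @Bool.rec (fun _ => Nat) (col22_0) (col22_s_1_3 c) (Nat.ble 1 c)
noncomputable def col22 (i : Nat) : Nat := rdw 14 16383 (col22_s_0_3 (Nat.shiftRight i 12)) (Nat.land i 4095)
noncomputable def col23_s_1_3 (c : Nat) : Nat := @Bool.rec (fun _ => Nat) (col23_1) (col23_2) (Nat.ble 2 c)
noncomputable def col23_s_0_3 (c : Nat) : Nat := @Bool.rec (fun _ => Nat) (col23_0) (col23_s_1_3 c) (Nat.ble 1 c)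
noncomputable def col23 (i : Nat) : Nat := rdw 14 16383 (col23_s_0_3 (Nat.shiftRight i 12)) (Nat.land i 4095)
noncomputable def col24_s_1_3 (c : Nat) : Nat := @Bool.rec (fun _ => Nat) (col24_1) (col24_2) (Nat.ble 2 c)
noncomputable def col24_s_0_3 (c : Nat) : Nat := @Bool.rec (fun _ => Nat) (col24_0) (col24_s_1_3 c) (Nat.ble 1 c)
noncomputable def col24 (i : Nat) : Nat := rdw 14 16383 (col24_s_0_3 (Nat.shiftRight i 12)) (Nat.land i 4095)
noncomputable def col25_s_1_3 (c : Nat) : Nat := @Bool.rec (fun _ => Nat) (col25_1) (col25_2) (Nat.ble 2 c)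
noncomputable def col25_s_0_3 (c : Nat) : Nat := @Bool.rec (fun _ => Nat) (col25_0) (col25_s_1_3 c) (Nat.ble 1 c)
noncomputable def col25 (i : Nat) : Nat := rdw 14 16383 (col25_s_0_3 (Nat.shiftRight i 12)) (Nat.land i 4095)
noncomputable def col26_s_1_3 (c : Nat) : Nat := @Bool.rec (fun _ => Nat) (col26_1) (col26_2) (Nat.ble 2 c)
noncomputable def col26_s_0_3 (c : Nat) : Nat := @Bool.rec (fun _ => Nat) (col26_0) (col26_s_1_3 c) (Nat.ble 1 c)
noncomputable def col26 (i : Nat) : Nat := rdw 14 16383 (col26_s_0_3 (Nat.shiftRight i 12)) (Nat.land i 4095)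
noncomputable def col27_s_1_3 (c : Nat) : Nat := @Bool.rec (fun _ => Nat) (col27_1) (col27_2) (Nat.ble 2 c)
noncomputable def col27_s_0_3 (c : Nat) : Nat := @Bool.rec (fun _ => Nat) (col27_0) (col27_s_1_3 c) (Nat.ble 1 c)
noncomputable def col27 (i : Nat) : Nat := rdw 14 16383 (col27_s_0_3 (Nat.shiftRight i 12)) (Nat.land i 4095)
noncomputable def col28_s_1_3 (c : Nat) : Nat := @Bool.rec (fun _ => Nat) (col28_1) (col28_2) (Nat.ble 2 c)
noncomputable def col28_s_0_3 (c : Nat) : Nat := @Bool.rec (fun _ => Nat) (col28_0) (col28_s_1_3 c) (Nat.ble 1 c)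
noncomputable def col28 (i : Nat) : Nat := rdw 14 16383 (col28_s_0_3 (Nat.shiftRight i 12)) (Nat.land i 4095)
noncomputable def col29_s_1_3 (c : Nat) : Nat := @Bool.rec (fun _ => Nat) (col29_1) (col29_2) (Nat.ble 2 c)
noncomputable def col29_s_0_3 (c : Nat) : Nat := @Bool.rec (fun _ => Nat) (col29_0) (col29_s_1_3 c) (Nat.ble 1 c)
noncomputable def col29 (i : Nat) : Nat := rdw 14 16383 (col29_s_0_3 (Nat.shiftRight i 12)) (Nat.land i 4095)
noncomputable def col30_s_1_3 (c : Nat) : Nat := @Bool.rec (fun _ => Nat) (col30_1) (col30_2) (Nat.ble 2 c)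
noncomputable def col30_s_0_3 (c : Nat) : Nat := @Bool.rec (fun _ => Nat) (col30_0) (col30_s_1_3 c) (Nat.ble 1 c)
noncomputable def col30 (i : Nat) : Nat := rdw 14 16383 (col30_s_0_3 (Nat.shiftRight i 12)) (Nat.land i 4095)
noncomputable def col31_s_1_3 (c : Nat) : Nat := @Bool.rec (fun _ => Nat) (col31_1) (col31_2) (Nat.ble 2 c)
noncomputable def col31_s_0_3 (c : Nat) : Nat := @Bool.rec (fun _ => Nat) (col31_0) (col31_s_1_3 c) (Nat.ble 1 c)
noncomputable def col31 (i : Nat) : Nat := rdw 14 16383 (col31_s_0_3 (Nat.shiftRight i 12)) (Nat.land i 4095)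
noncomputable def finTab_s_0_2 (c : Nat) : Nat := @Bool.rec (fun _ => Nat) (finTab_0) (finTab_1) (Nat.ble 1 c)
noncomputable def finTab_s_3_5 (c : Nat) : Nat := @Bool.rec (fun _ => Nat) (finTab_3) (finTab_4) (Nat.ble 4 c)
noncomputable def finTab_s_2_5 (c : Nat) : Nat := @Bool.rec (fun _ => Nat) (finTab_2) (finTab_s_3_5 c) (Nat.ble 3 c)
noncomputable def finTab_s_0_5 (c : Nat) : Nat := @Bool.rec (fun _ => Nat) (finTab_s_0_2 c) (finTab_s_2_5 c) (Nat.ble 2 c)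
noncomputable def finTab_s_6_8 (c : Nat) : Nat := @Bool.rec (fun _ => Nat) (finTab_6) (finTab_7) (Nat.ble 7 c)
noncomputable def finTab_s_5_8 (c : Nat) : Nat := @Bool.rec (fun _ => Nat) (finTab_5) (finTab_s_6_8 c) (Nat.ble 6 c)
noncomputable def finTab_s_9_11 (c : Nat) : Nat := @Bool.rec (fun _ => Nat) (finTab_9) (finTab_10) (Nat.ble 10 c)
noncomputable def finTab_s_8_11 (c : Nat) : Nat := @Bool.rec (fun _ => Nat) (finTab_8) (finTab_s_9_11 c) (Nat.ble 9 c)
noncomputable def finTab_s_5_11 (c : Nat) : Nat := @Bool.rec (fun _ => Nat) (finTab_s_5_8 c) (finTab_s_8_11 c) (Nat.ble 8 c)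
noncomputable def finTab_s_0_11 (c : Nat) : Nat := @Bool.rec (fun _ => Nat) (finTab_s_0_5 c) (finTab_s_5_11 c) (Nat.ble 5 c)
noncomputable def finTab_s_11_13 (c : Nat) : Nat := @Bool.rec (fun _ => Nat) (finTab_11) (finTab_12) (Nat.ble 12 c)
noncomputable def finTab_s_14_16 (c : Nat) : Nat := @Bool.rec (fun _ => Nat) (finTab_14) (finTab_15) (Nat.ble 15 c)
noncomputable def finTab_s_13_16 (c : Nat) : Nat := @Bool.rec (fun _ => Nat) (finTab_13) (finTab_s_14_16 c) (Nat.ble 14 c)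
noncomputable def finTab_s_11_16 (c : Nat) : Nat := @Bool.rec (fun _ => Nat) (finTab_s_11_13 c) (finTab_s_13_16 c) (Nat.ble 13 c)
noncomputable def finTab_s_17_19 (c : Nat) : Nat := @Bool.rec (fun _ => Nat) (finTab_17) (finTab_18) (Nat.ble 18 c)
noncomputable def finTab_s_16_19 (c : Nat) : Nat := @Bool.rec (fun _ => Nat) (finTab_16) (finTab_s_17_19 c) (Nat.ble 17 c)
noncomputable def finTab_s_20_22 (c : Nat) : Nat := @Bool.rec (fun _ => Nat) (finTab_20) (finTab_21) (Nat.ble 21 c)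
noncomputable def finTab_s_19_22 (c : Nat) : Nat := @Bool.rec (fun _ => Nat) (finTab_19) (finTab_s_20_22 c) (Nat.ble 20 c)
noncomputable def finTab_s_16_22 (c : Nat) : Nat := @Bool.rec (fun _ => Nat) (finTab_s_16_19 c) (finTab_s_19_22 c) (Nat.ble 19 c)
noncomputable def finTab_s_11_22 (c : Nat) : Nat := @Bool.rec (fun _ => Nat) (finTab_s_11_16 c) (finTab_s_16_22 c) (Nat.ble 16 c)
noncomputable def finTab_s_0_22 (c : Nat) : Nat := @Bool.rec (fun _ => Nat) (finTab_s_0_11 c) (finTab_s_11_22 c) (Nat.ble 11 c)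
noncomputable def finTab_s_22_24 (c : Nat) : Nat := @Bool.rec (fun _ => Nat) (finTab_22) (finTab_23) (Nat.ble 23 c)
noncomputable def finTab_s_25_27 (c : Nat) : Nat := @Bool.rec (fun _ => Nat) (finTab_25) (finTab_26) (Nat.ble 26 c)
noncomputable def finTab_s_24_27 (c : Nat) : Nat := @Bool.rec (fun _ => Nat) (finTab_24) (finTab_s_25_27 c) (Nat.ble 25 c)
noncomputable def finTab_s_22_27 (c : Nat) : Nat := @Bool.rec (fun _ => Nat) (finTab_s_22_24 c) (finTab_s_24_27 c) (Nat.ble 24 c)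
noncomputable def finTab_s_28_30 (c : Nat) : Nat := @Bool.rec (fun _ => Nat) (finTab_28) (finTab_29) (Nat.ble 29 c)
noncomputable def finTab_s_27_30 (c : Nat) : Nat := @Bool.rec (fun _ => Nat) (finTab_27) (finTab_s_28_30 c) (Nat.ble 28 c)
noncomputable def finTab_s_31_33 (c : Nat) : Nat := @Bool.rec (fun _ => Nat) (finTab_31) (finTab_32) (Nat.ble 32 c)
noncomputable def finTab_s_30_33 (c : Nat) : Nat := @Bool.rec (fun _ => Nat) (finTab_30) (finTab_s_31_33 c) (Nat.ble 31 c)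
noncomputable def finTab_s_27_33 (c : Nat) : Nat := @Bool.rec (fun _ => Nat) (finTab_s_27_30 c) (finTab_s_30_33 c) (Nat.ble 30 c)
noncomputable def finTab_s_22_33 (c : Nat) : Nat := @Bool.rec (fun _ => Nat) (finTab_s_22_27 c) (finTab_s_27_33 c) (Nat.ble 27 c)
noncomputable def finTab_s_33_35 (c : Nat) : Nat := @Bool.rec (fun _ => Nat) (finTab_33) (finTab_34) (Nat.ble 34 c)
noncomputable def finTab_s_36_38 (c : Nat) : Nat := @Bool.rec (fun _ => Nat) (finTab_36) (finTab_37) (Nat.ble 37 c)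
noncomputable def finTab_s_35_38 (c : Nat) : Nat := @Bool.rec (fun _ => Nat) (finTab_35) (finTab_s_36_38 c) (Nat.ble 36 c)
noncomputable def finTab_s_33_38 (c : Nat) : Nat := @Bool.rec (fun _ => Nat) (finTab_s_33_35 c) (finTab_s_35_38 c) (Nat.ble 35 c)
noncomputable def finTab_s_39_41 (c : Nat) : Nat := @Bool.rec (fun _ => Nat) (finTab_39) (finTab_40) (Nat.ble 40 c)
noncomputable def finTab_s_38_41 (c : Nat) : Nat := @Bool.rec (fun _ => Nat) (finTab_38) (finTab_s_39_41 c) (Nat.ble 39 c)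
noncomputable def finTab_s_42_44 (c : Nat) : Nat := @Bool.rec (fun _ => Nat) (finTab_42) (finTab_43) (Nat.ble 43 c)
noncomputable def finTab_s_41_44 (c : Nat) : Nat := @Bool.rec (fun _ => Nat) (finTab_41) (finTab_s_42_44 c) (Nat.ble 42 c)
noncomputable def finTab_s_38_44 (c : Nat) : Nat := @Bool.rec (fun _ => Nat) (finTab_s_38_41 c) (finTab_s_41_44 c) (Nat.ble 41 c)
noncomputable def finTab_s_33_44 (c : Nat) : Nat := @Bool.rec (fun _ => Nat) (finTab_s_33_38 c) (finTab_s_38_44 c) (Nat.ble 38 c)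
noncomputable def finTab_s_22_44 (c : Nat) : Nat := @Bool.rec (fun _ => Nat) (finTab_s_22_33 c) (finTab_s_33_44 c) (Nat.ble 33 c)
noncomputable def finTab_s_0_44 (c : Nat) : Nat := @Bool.rec (fun _ => Nat) (finTab_s_0_22 c) (finTab_s_22_44 c) (Nat.ble 22 c)
noncomputable def finTab_s_44_46 (c : Nat) : Nat := @Bool.rec (fun _ => Nat) (finTab_44) (finTab_45) (Nat.ble 45 c)
noncomputable def finTab_s_47_49 (c : Nat) : Nat := @Bool.rec (fun _ => Nat) (finTab_47) (finTab_48) (Nat.ble 48 c)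
noncomputable def finTab_s_46_49 (c : Nat) : Nat := @Bool.rec (fun _ => Nat) (finTab_46) (finTab_s_47_49 c) (Nat.ble 47 c)
noncomputable def finTab_s_44_49 (c : Nat) : Nat := @Bool.rec (fun _ => Nat) (finTab_s_44_46 c) (finTab_s_46_49 c) (Nat.ble 46 c)
noncomputable def finTab_s_50_52 (c : Nat) : Nat := @Bool.rec (fun _ => Nat) (finTab_50) (finTab_51) (Nat.ble 51 c)
noncomputable def finTab_s_49_52 (c : Nat) : Nat := @Bool.rec (fun _ => Nat) (finTab_49) (finTab_s_50_52 c) (Nat.ble 50 c)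
noncomputable def finTab_s_53_55 (c : Nat) : Nat := @Bool.rec (fun _ => Nat) (finTab_53) (finTab_54) (Nat.ble 54 c)
noncomputable def finTab_s_52_55 (c : Nat) : Nat := @Bool.rec (fun _ => Nat) (finTab_52) (finTab_s_53_55 c) (Nat.ble 53 c)
noncomputable def finTab_s_49_55 (c : Nat) : Nat := @Bool.rec (fun _ => Nat) (finTab_s_49_52 c) (finTab_s_52_55 c) (Nat.ble 52 c)
noncomputable def finTab_s_44_55 (c : Nat) : Nat := @Bool.rec (fun _ => Nat) (finTab_s_44_49 c) (finTab_s_49_55 c) (Nat.ble 49 c)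
noncomputable def finTab_s_55_57 (c : Nat) : Nat := @Bool.rec (fun _ => Nat) (finTab_55) (finTab_56) (Nat.ble 56 c)
noncomputable def finTab_s_58_60 (c : Nat) : Nat := @Bool.rec (fun _ => Nat) (finTab_58) (finTab_59) (Nat.ble 59 c)
noncomputable def finTab_s_57_60 (c : Nat) : Nat := @Bool.rec (fun _ => Nat) (finTab_57) (finTab_s_58_60 c) (Nat.ble 58 c)
noncomputable def finTab_s_55_60 (c : Nat) : Nat := @Bool.rec (fun _ => Nat) (finTab_s_55_57 c) (finTab_s_57_60 c) (Nat.ble 57 c)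
noncomputable def finTab_s_61_63 (c : Nat) : Nat := @Bool.rec (fun _ => Nat) (finTab_61) (finTab_62) (Nat.ble 62 c)
noncomputable def finTab_s_60_63 (c : Nat) : Nat := @Bool.rec (fun _ => Nat) (finTab_60) (finTab_s_61_63 c) (Nat.ble 61 c)
noncomputable def finTab_s_64_66 (c : Nat) : Nat := @Bool.rec (fun _ => Nat) (finTab_64) (finTab_65) (Nat.ble 65 c)
noncomputable def finTab_s_63_66 (c : Nat) : Nat := @Bool.rec (fun _ => Nat) (finTab_63) (finTab_s_64_66 c) (Nat.ble 64 c)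
noncomputable def finTab_s_60_66 (c : Nat) : Nat := @Bool.rec (fun _ => Nat) (finTab_s_60_63 c) (finTab_s_63_66 c) (Nat.ble 63 c)
noncomputable def finTab_s_55_66 (c : Nat) : Nat := @Bool.rec (fun _ => Nat) (finTab_s_55_60 c) (finTab_s_60_66 c) (Nat.ble 60 c)
noncomputable def finTab_s_44_66 (c : Nat) : Nat := @Bool.rec (fun _ => Nat) (finTab_s_44_55 c) (finTab_s_55_66 c) (Nat.ble 55 c)
noncomputable def finTab_s_66_68 (c : Nat) : Nat := @Bool.rec (fun _ => Nat) (finTab_66) (finTab_67) (Nat.ble 67 c)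
noncomputable def finTab_s_69_71 (c : Nat) : Nat := @Bool.rec (fun _ => Nat) (finTab_69) (finTab_70) (Nat.ble 70 c)
noncomputable def finTab_s_68_71 (c : Nat) : Nat := @Bool.rec (fun _ => Nat) (finTab_68) (finTab_s_69_71 c) (Nat.ble 69 c)
noncomputable def finTab_s_66_71 (c : Nat) : Nat := @Bool.rec (fun _ => Nat) (finTab_s_66_68 c) (finTab_s_68_71 c) (Nat.ble 68 c)
noncomputable def finTab_s_72_74 (c : Nat) : Nat := @Bool.rec (fun _ => Nat) (finTab_72) (finTab_73) (Nat.ble 73 c)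
noncomputable def finTab_s_71_74 (c : Nat) : Nat := @Bool.rec (fun _ => Nat) (finTab_71) (finTab_s_72_74 c) (Nat.ble 72 c)
noncomputable def finTab_s_75_77 (c : Nat) : Nat := @Bool.rec (fun _ => Nat) (finTab_75) (finTab_76) (Nat.ble 76 c)
noncomputable def finTab_s_74_77 (c : Nat) : Nat := @Bool.rec (fun _ => Nat) (finTab_74) (finTab_s_75_77 c) (Nat.ble 75 c)
noncomputable def finTab_s_71_77 (c : Nat) : Nat := @Bool.rec (fun _ => Nat) (finTab_s_71_74 c) (finTab_s_74_77 c) (Nat.ble 74 c)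
noncomputable def finTab_s_66_77 (c : Nat) : Nat := @Bool.rec (fun _ => Nat) (finTab_s_66_71 c) (finTab_s_71_77 c) (Nat.ble 71 c)
noncomputable def finTab_s_77_79 (c : Nat) : Nat := @Bool.rec (fun _ => Nat) (finTab_77) (finTab_78) (Nat.ble 78 c)
noncomputable def finTab_s_80_82 (c : Nat) : Nat := @Bool.rec (fun _ => Nat) (finTab_80) (finTab_81) (Nat.ble 81 c)
noncomputable def finTab_s_79_82 (c : Nat) : Nat := @Bool.rec (fun _ => Nat) (finTab_79) (finTab_s_80_82 c) (Nat.ble 80 c)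
noncomputable def finTab_s_77_82 (c : Nat) : Nat := @Bool.rec (fun _ => Nat) (finTab_s_77_79 c) (finTab_s_79_82 c) (Nat.ble 79 c)
noncomputable def finTab_s_83_85 (c : Nat) : Nat := @Bool.rec (fun _ => Nat) (finTab_83) (finTab_84) (Nat.ble 84 c)
noncomputable def finTab_s_82_85 (c : Nat) : Nat := @Bool.rec (fun _ => Nat) (finTab_82) (finTab_s_83_85 c) (Nat.ble 83 c)
noncomputable def finTab_s_86_88 (c : Nat) : Nat := @Bool.rec (fun _ => Nat) (finTab_86) (finTab_87) (Nat.ble 87 c)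
noncomputable def finTab_s_85_88 (c : Nat) : Nat := @Bool.rec (fun _ => Nat) (finTab_85) (finTab_s_86_88 c) (Nat.ble 86 c)
noncomputable def finTab_s_82_88 (c : Nat) : Nat := @Bool.rec (fun _ => Nat) (finTab_s_82_85 c) (finTab_s_85_88 c) (Nat.ble 85 c)
noncomputable def finTab_s_77_88 (c : Nat) : Nat := @Bool.rec (fun _ => Nat) (finTab_s_77_82 c) (finTab_s_82_88 c) (Nat.ble 82 c)
noncomputable def finTab_s_66_88 (c : Nat) : Nat := @Bool.rec (fun _ => Nat) (finTab_s_66_77 c) (finTab_s_77_88 c) (Nat.ble 77 c)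
noncomputable def finTab_s_44_88 (c : Nat) : Nat := @Bool.rec (fun _ => Nat) (finTab_s_44_66 c) (finTab_s_66_88 c) (Nat.ble 66 c)
noncomputable def finTab_s_0_88 (c : Nat) : Nat := @Bool.rec (fun _ => Nat) (finTab_s_0_44 c) (finTab_s_44_88 c) (Nat.ble 44 c)
noncomputable def finTab (i : Nat) : Nat := rdw 20 1048575 (finTab_s_0_88 (Nat.shiftRight i 12)) (Nat.land i 4095)
noncomputable def clsTab_s_0_2 (c : Nat) : Nat := @Bool.rec (fun _ => Nat) (clsTab_0) (clsTab_1) (Nat.ble 1 c)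
noncomputable def clsTab_s_3_5 (c : Nat) : Nat := @Bool.rec (fun _ => Nat) (clsTab_3) (clsTab_4) (Nat.ble 4 c)
noncomputable def clsTab_s_2_5 (c : Nat) : Nat := @Bool.rec (fun _ => Nat) (clsTab_2) (clsTab_s_3_5 c) (Nat.ble 3 c)
noncomputable def clsTab_s_0_5 (c : Nat) : Nat := @Bool.rec (fun _ => Nat) (clsTab_s_0_2 c) (clsTab_s_2_5 c) (Nat.ble 2 c)
noncomputable def clsTab_s_5_7 (c : Nat) : Nat := @Bool.rec (fun _ => Nat) (clsTab_5) (clsTab_6) (Nat.ble 6 c)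
noncomputable def clsTab_s_8_10 (c : Nat) : Nat := @Bool.rec (fun _ => Nat) (clsTab_8) (clsTab_9) (Nat.ble 9 c)
noncomputable def clsTab_s_7_10 (c : Nat) : Nat := @Bool.rec (fun _ => Nat) (clsTab_7) (clsTab_s_8_10 c) (Nat.ble 8 c)
noncomputable def clsTab_s_5_10 (c : Nat) : Nat := @Bool.rec (fun _ => Nat) (clsTab_s_5_7 c) (clsTab_s_7_10 c) (Nat.ble 7 c)
noncomputable def clsTab_s_0_10 (c : Nat) : Nat := @Bool.rec (fun _ => Nat) (clsTab_s_0_5 c) (clsTab_s_5_10 c) (Nat.ble 5 c)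
noncomputable def clsTab (i : Nat) : Nat := rdw 14 16383 (clsTab_s_0_10 (Nat.shiftRight i 12)) (Nat.land i 4095)
noncomputable def oparTab_s_1_3 (c : Nat) : Nat := @Bool.rec (fun _ => Nat) (oparTab_1) (oparTab_2) (Nat.ble 2 c)
noncomputable def oparTab_s_0_3 (c : Nat) : Nat := @Bool.rec (fun _ => Nat) (oparTab_0) (oparTab_s_1_3 c) (Nat.ble 1 c)
noncomputable def oparTab (i : Nat) : Nat := rdw 14 16383 (oparTab_s_0_3 (Nat.shiftRight i 12)) (Nat.land i 4095)
noncomputable def olabTab (i : Nat) : Nat := rdw 2 3 olabTab_0 i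
noncomputable def srcF (t : Nat) : Nat := Nat.land (Atab t) 65535
noncomputable def tgtF (t : Nat) : Nat := Nat.land (Nat.shiftRight (Atab t) 16) 65535
noncomputable def ltF (t : Nat) : Nat := Nat.shiftRight (Atab t) 32
noncomputable def rhoF (t : Nat) : Nat := Nat.land (Btab (Nat.sub t 37691)) 255
noncomputable def rotF (t : Nat) : Nat := Nat.land (Nat.shiftRight (Btab (Nat.sub t 37691)) 8) 63
noncomputable def lenF (t : Nat) : Nat := Nat.land (Nat.shiftRight (Btab (Nat.sub t 37691)) 14) 127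
noncomputable def offF (t : Nat) : Nat := Nat.shiftRight (Btab (Nat.sub t 37691)) 21
noncomputable def pfF (j : Nat) : Nat := Nat.shiftRight (Ptab j) 1
noncomputable def pdF (j : Nat) : Nat := Nat.land (Ptab j) 1
noncomputable def tblF (i x : Nat) : Nat := @Bool.rec (fun _ => Nat) (@Bool.rec (fun _ => Nat) (@Bool.rec (fun _ => Nat) (@Bool.rec (fun _ => Nat) (@Bool.rec (fun _ => Nat) (col0 i) (col1 i) (Nat.ble 1 x)) (@Bool.rec (fun _ => Nat) (col2 i) (col3 i) (Nat.ble 3 x)) (Nat.ble 2 x)) (@Bool.rec (fun _ => Nat) (@Bool.rec (fun _ => Nat) (col4 i) (col5 i) (Nat.ble 5 x)) (@Bool.rec (fun _ => Nat) (col6 i) (col7 i) (Nat.ble 7 x)) (Nat.ble 6 x)) (Nat.ble 4 x)) (@Bool.rec (fun _ => Nat) (@Bool.rec (fun _ => Nat) (@Bool.rec (fun _ => Nat) (col8 i) (col9 i) (Nat.ble 9 x)) (@Bool.rec (fun _ => Nat) (col10 i) (col11 i) (Nat.ble 11 x)) (Nat.ble 10 x)) (@Bool.rec (fun _ => Nat) (@Bool.rec (fun _ => Nat) (col12 i) (col13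 i) (Nat.ble 13 x)) (@Bool.rec (fun _ => Nat) (col14 i) (col15 i) (Nat.ble 15 x)) (Nat.ble 14 x)) (Nat.ble 12 x)) (Nat.ble 8 x)) (@Bool.rec (fun _ => Nat) (@Bool.rec (fun _ => Nat) (@Bool.rec (fun _ => Nat) (@Bool.rec (fun _ => Nat) (col16 i) (col17 i) (Nat.ble 17 x)) (@Bool.rec (fun _ => Nat) (col18 i) (col19 i) (Nat.ble 19 x)) (Nat.ble 18 x)) (@Bool.rec (fun _ => Nat) (@Bool.rec (fun _ => Nat) (col20 i) (col21 i) (Nat.ble 21 x)) (@Bool.rec (fun _ => Nat) (col22 i) (col23 i) (Nat.ble 23 x)) (Nat.ble 22 x)) (Nat.ble 20 x)) (@Bool.rec (fun _ => Nat) (@Bool.rec (fun _ => Nat) (@Bool.rec (fun _ => Nat) (col24 i) (col25 i) (Nat.ble 25 x)) (@Bool.rec (fun _ => Nat) (col26 i) (col27 i) (Nat.ble 27 x)) (Nat.ble 26 x)) (@Bool.rec (fun _ => Nat) (@Bool.rec (fun _ => Nat) (col28 i) (col29 i) (Nat.ble 29 x)) (@Bool.rec (fun _ => Nat) (col30 i) (col31 i) (Nat.ble 31 x)) (Nat.ble 30 x)) (Nat.ble 28 x)) (Nat.ble 24 x)) (Nat.ble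 16 x)
noncomputable def finE (i x : Nat) : Nat := finTab (Nat.add (Nat.mul i 32) x)
noncomputable def finFF (i x : Nat) : Nat := Nat.shiftRight (finE i x) 1
noncomputable def finDF (i x : Nat) : Nat := Nat.land (finE i x) 1

noncomputable def D : Log :=
  { k := 32, inv := invE 32 PSC2HSp2.invR, nR := 250, rBase := rBtab, rLen := rLtab, RR := RRtab,
    M := 37687, nB := 4, F := 336838, src := srcF, lt := ltF, tgt := tgtF, rho := rhoF, rot := rotF,
    off := offF, len := lenF, pf := pfF, pd := pdF }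

noncomputable def T : Tab :=
  { N := 11200, nameOf := nameTab, tbl := tblF, finF := finFF, finD := finDF, cls := clsTab }

def subs : List (List Nat) := [
  [0],
  [2] ]

def rw0 : List Nat := [0, 0]
def rw1 : List Nat := [2, 2, 2, 2]
def rw2 : List Nat := [4, 4, 4, 4, 4]
def rw3 : List Nat := [7, 4, 1]
def rw4 : List Nat := [9, 0, 2, 0, 3, 6, 2, 0, 2, 0, 3, 6, 2]
def rw5 : List Nat := [11, 6, 6]
def rw6 : List Nat := [13, 0, 2, 6, 3, 0, 2, 6, 3]
def rw7 : List Nat := [15, 2, 2, 6, 2, 2, 6, 3, 3, 6]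
def rw8 : List Nat := [17, 0, 6, 0, 6, 0, 6, 0, 6, 0, 6]
def rw9 : List Nat := [19, 2, 6, 2, 6, 2, 6, 2, 6, 2, 6, 2, 6]
def rw10 : List Nat := [21, 0, 6, 3, 6, 2, 6, 0, 6, 3, 6, 2, 6, 0, 6, 3, 6, 2, 6]
def rw11 : List Nat := [23, 0, 3, 6, 0, 6, 0, 3, 6, 0, 6, 0, 3, 6, 0, 6, 0, 3, 6, 0, 6]
def rw12 : List Nat := [25, 8, 8]
def rw13 : List Nat := [27, 9, 1, 8, 0]
def rw14 : List Nat := [29, 9, 3, 8, 2]
def rw15 : List Nat := [31, 9, 7, 8, 6]
def rw16 : List Nat := [10, 10]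
def rw17 : List Nat := [12, 12]
def rw18 : List Nat := [14, 14]
def rw19 : List Nat := [16, 16]
def rw20 : List Nat := [18, 18]
def rw21 : List Nat := [20, 20]
def rw22 : List Nat := [22, 22]
def rw23 : List Nat := [24, 24]
def rw24 : List Nat := [26, 26]
def rw25 : List Nat := [28, 28]
def rw26 : List Nat := [30, 30]
def rw27 : List Nat := [10, 0, 11, 1]
def rw28 : List Nat := [10, 2, 11, 3]
def rw29 : List Nat := [10, 4, 11, 5]
def rw30 : List Nat := [10, 6, 11, 7]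
def rw31 : List Nat := [10, 8, 11, 9]
def rw32 : List Nat := [12, 0, 13, 1]
def rw33 : List Nat := [12, 2, 13, 3]
def rw34 : List Nat := [12, 4, 13, 5]
def rw35 : List Nat := [12, 6, 13, 7]
def rw36 : List Nat := [12, 8, 13, 9]
def rw37 : List Nat := [14, 0, 15, 1]
def rw38 : List Nat := [14, 2, 15, 3]
def rw39 : List Nat := [14, 4, 15, 5]
def rw40 : List Nat := [14, 6, 15, 7]
def rw41 : List Nat := [14, 8, 15, 9]
def rw42 : List Nat := [16, 0, 17, 1]
def rw43 : List Nat := [16, 2, 17, 3]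
def rw44 : List Nat := [16, 4, 17, 5]
def rw45 : List Nat := [16, 6, 17, 7]
def rw46 : List Nat := [16, 8, 17, 9]
def rw47 : List Nat := [18, 0, 19, 1]
def rw48 : List Nat := [18, 2, 19, 3]
def rw49 : List Nat := [18, 4, 19, 5]
def rw50 : List Nat := [18, 6, 19, 7]
def rw51 : List Nat := [18, 8, 19, 9]
def rw52 : List Nat := [20, 0, 21, 1]
def rw53 : List Nat := [20, 2, 21, 3]
def rw54 : List Nat := [20, 4, 21, 5]
def rw55 : List Nat := [20, 6, 21, 7]
def rw56 : List Nat := [20, 8, 21, 9]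
def rw57 : List Nat := [22, 0, 23, 1]
def rw58 : List Nat := [22, 2, 23, 3]
def rw59 : List Nat := [22, 4, 23, 5]
def rw60 : List Nat := [22, 6, 23, 7]
def rw61 : List Nat := [22, 8, 23, 9]
def rw62 : List Nat := [24, 0, 25, 1]
def rw63 : List Nat := [24, 2, 25, 3]
def rw64 : List Nat := [24, 4, 25, 5]
def rw65 : List Nat := [24, 6, 25, 7]
def rw66 : List Nat := [24, 8, 25, 9]
def rw67 : List Nat := [26, 0, 27, 1]
def rw68 : List Nat := [26, 2, 27, 3]
def rw69 : List Nat := [26, 4, 27, 5]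
def rw70 : List Nat := [26, 6, 27, 7]
def rw71 : List Nat := [26, 8, 27, 9]
def rw72 : List Nat := [28, 0, 29, 1]
def rw73 : List Nat := [28, 2, 29, 3]
def rw74 : List Nat := [28, 4, 29, 5]
def rw75 : List Nat := [28, 6, 29, 7]
def rw76 : List Nat := [28, 8, 29, 9]
def rw77 : List Nat := [30, 0, 31, 1]
def rw78 : List Nat := [30, 2, 31, 3]
def rw79 : List Nat := [30, 4, 31, 5]
def rw80 : List Nat := [30, 6, 31, 7]
def rw81 : List Nat := [30, 8, 31, 9]
def rw82 : List Nat := [0, 0]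
def rw83 : List Nat := [2, 2, 2, 2]
def rw84 : List Nat := [0, 2, 0, 2, 0, 2, 0, 2, 0, 2, 0, 2, 0, 2, 0, 2, 0, 2, 0, 2, 0, 2]
def rw85 : List Nat := [0, 2, 2, 0, 2, 2, 0, 2, 2, 0, 2, 2, 0, 2, 2, 0, 2, 2]
def rw86 : List Nat := [0, 2, 0, 2, 0, 3, 0, 2, 0, 2, 2, 0, 3, 0, 2, 0, 3, 0, 3]
def rw87 : List Nat := [6, 0, 2, 2, 0, 6, 0, 2, 2, 0, 2, 2, 7, 1, 3, 3, 1, 7, 1, 3, 3, 1, 3, 3]
def rw88 : List Nat := [6, 0, 6, 2, 0, 2, 2, 0, 2, 0, 2, 2, 7, 1, 7, 1, 3, 1, 3, 3, 1, 3, 1, 3, 1, 3, 1, 3, 1, 2, 1, 3, 1, 3]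
def rw89 : List Nat := [6, 0, 6, 0, 2, 2, 0, 2, 2, 0, 3, 0, 3, 0, 3, 7, 1, 7, 1, 3, 3, 1, 3, 3, 1, 2, 1, 2, 1, 3, 3, 1, 2, 1, 2]
def rw90 : List Nat := [6, 0, 6, 2, 0, 2, 0, 2, 2, 0, 2, 0, 3, 0, 2, 7, 1, 7, 1, 3, 3, 1, 3, 1, 3, 3, 1, 2, 1, 3, 3, 1, 2, 1, 2, 1]
def realLit : List (List Nat) := [rw0, rw1, rw2, rw3, rw4, rw5, rw6, rw7, rw8, rw9, rw10, rw11, rw12, rw13, rw14, rw15, rw16, rw17, rw18, rw19, rw20, rw21, rw22, rw23, rw24, rw25, rw26, rw27, rw28, rw29, rw30, rw31, rw32, rw33, rw34, rw35, rw36, rw37, rw38, rw39, rw40, rw41, rw42, rw43, rw44, rw45, rw46, rw47, rw48, rw49, rw50, rw51, rw52, rw53, rw54, rw55, rw56, rw57, rw58, rw59, rw60, rw61, rw62, rw63, rw64, rw65, rw66, rw67, rw68, rw69, rw70, rw71, rw72, rw73, rw74, rw75, rw76, rw77, rw78, rw79, rw80, rw81, rw82, rw83, rw84, rw85, rw86, rw87, rw88, rw89, rw90]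
noncomputable def actR0 (i : Nat) : Nat := col1 (col1 (i))
theorem actR0_eq (i : Nat) : actR0 i = Tab.act T D rw0 i := rfl
noncomputable def actR1 (i : Nat) : Nat := col3 (col3 (col3 (col3 (i))))
theorem actR1_eq (i : Nat) : actR1 i = Tab.act T D rw1 i := rfl
noncomputable def actR2 (i : Nat) : Nat := col5 (col5 (col5 (col5 (col5 (i)))))
theorem actR2_eq (i : Nat) : actR2 i = Tab.act T D rw2 i := rfl
noncomputable def actR3 (i : Nat) : Nat := col6 (col5 (col0 (i)))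
theorem actR3_eq (i : Nat) : actR3 i = Tab.act T D rw3 i := rfl
noncomputable def actR4 (i : Nat) : Nat := col8 (col1 (col3 (col1 (col2 (col7 (col3 (col1 (col3 (col1 (col2 (col7 (col3 (i)))))))))))))
theorem actR4_eq (i : Nat) : actR4 i = Tab.act T D rw4 i := rfl
noncomputable def actR5 (i : Nat) : Nat := col10 (col7 (col7 (i)))
theorem actR5_eq (i : Nat) : actR5 i = Tab.act T D rw5 i := rfl
noncomputable def actR6 (i : Nat) : Nat := col12 (col1 (col3 (col7 (col2 (col1 (col3 (col7 (col2 (i)))))))))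
theorem actR6_eq (i : Nat) : actR6 i = Tab.act T D rw6 i := rfl
noncomputable def actR7 (i : Nat) : Nat := col14 (col3 (col3 (col7 (col3 (col3 (col7 (col2 (col2 (col7 (i))))))))))
theorem actR7_eq (i : Nat) : actR7 i = Tab.act T D rw7 i := rfl
noncomputable def actR8 (i : Nat) : Nat := col16 (col1 (col7 (col1 (col7 (col1 (col7 (col1 (col7 (col1 (col7 (i)))))))))))
theorem actR8_eq (i : Nat) : actR8 i = Tab.act T D rw8 i := rfl
noncomputable def actR9 (i : Nat) : Nat := col18 (col3 (col7 (col3 (col7 (col3 (col7 (col3 (col7 (col3 (col7 (col3 (col7 (i)))))))))))))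
theorem actR9_eq (i : Nat) : actR9 i = Tab.act T D rw9 i := rfl
noncomputable def actR10 (i : Nat) : Nat := col20 (col1 (col7 (col2 (col7 (col3 (col7 (col1 (col7 (col2 (col7 (col3 (col7 (col1 (col7 (col2 (col7 (col3 (col7 (i)))))))))))))))))))
theorem actR10_eq (i : Nat) : actR10 i = Tab.act T D rw10 i := rfl
noncomputable def actR11 (i : Nat) : Nat := col22 (col1 (col2 (col7 (col1 (col7 (col1 (col2 (col7 (col1 (col7 (col1 (col2 (col7 (col1 (col7 (col1 (col2 (col7 (col1 (col7 (i)))))))))))))))))))))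
theorem actR11_eq (i : Nat) : actR11 i = Tab.act T D rw11 i := rfl
noncomputable def actR12 (i : Nat) : Nat := col24 (col9 (col9 (i)))
theorem actR12_eq (i : Nat) : actR12 i = Tab.act T D rw12 i := rfl
noncomputable def actR13 (i : Nat) : Nat := col26 (col8 (col0 (col9 (col1 (i)))))
theorem actR13_eq (i : Nat) : actR13 i = Tab.act T D rw13 i := rfl
noncomputable def actR14 (i : Nat) : Nat := col28 (col8 (col2 (col9 (col3 (i)))))
theorem actR14_eq (i : Nat) : actR14 i = Tab.act T D rw14 i := rfl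
noncomputable def actR15 (i : Nat) : Nat := col30 (col8 (col6 (col9 (col7 (i)))))
theorem actR15_eq (i : Nat) : actR15 i = Tab.act T D rw15 i := rfl
noncomputable def actR16 (i : Nat) : Nat := col11 (col11 (i))
theorem actR16_eq (i : Nat) : actR16 i = Tab.act T D rw16 i := rfl
noncomputable def actR17 (i : Nat) : Nat := col13 (col13 (i))
theorem actR17_eq (i : Nat) : actR17 i = Tab.act T D rw17 i := rfl
noncomputable def actR18 (i : Nat) : Nat := col15 (col15 (i))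
theorem actR18_eq (i : Nat) : actR18 i = Tab.act T D rw18 i := rfl
noncomputable def actR19 (i : Nat) : Nat := col17 (col17 (i))
theorem actR19_eq (i : Nat) : actR19 i = Tab.act T D rw19 i := rfl
noncomputable def actR20 (i : Nat) : Nat := col19 (col19 (i))
theorem actR20_eq (i : Nat) : actR20 i = Tab.act T D rw20 i := rfl
noncomputable def actR21 (i : Nat) : Nat := col21 (col21 (i))
theorem actR21_eq (i : Nat) : actR21 i = Tab.act T D rw21 i := rfl
noncomputable def actR22 (i : Nat) : Nat := col23 (col23 (i))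
theorem actR22_eq (i : Nat) : actR22 i = Tab.act T D rw22 i := rfl
noncomputable def actR23 (i : Nat) : Nat := col25 (col25 (i))
theorem actR23_eq (i : Nat) : actR23 i = Tab.act T D rw23 i := rfl
noncomputable def actR24 (i : Nat) : Nat := col27 (col27 (i))
theorem actR24_eq (i : Nat) : actR24 i = Tab.act T D rw24 i := rfl
noncomputable def actR25 (i : Nat) : Nat := col29 (col29 (i))
theorem actR25_eq (i : Nat) : actR25 i = Tab.act T D rw25 i := rfl
noncomputable def actR26 (i : Nat) : Nat := col31 (col31 (i))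
theorem actR26_eq (i : Nat) : actR26 i = Tab.act T D rw26 i := rfl
noncomputable def actR27 (i : Nat) : Nat := col11 (col1 (col10 (col0 (i))))
theorem actR27_eq (i : Nat) : actR27 i = Tab.act T D rw27 i := rfl
noncomputable def actR28 (i : Nat) : Nat := col11 (col3 (col10 (col2 (i))))
theorem actR28_eq (i : Nat) : actR28 i = Tab.act T D rw28 i := rfl
noncomputable def actR29 (i : Nat) : Nat := col11 (col5 (col10 (col4 (i))))
theorem actR29_eq (i : Nat) : actR29 i = Tab.act T D rw29 i := rfl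
noncomputable def actR30 (i : Nat) : Nat := col11 (col7 (col10 (col6 (i))))
theorem actR30_eq (i : Nat) : actR30 i = Tab.act T D rw30 i := rfl
noncomputable def actR31 (i : Nat) : Nat := col11 (col9 (col10 (col8 (i))))
theorem actR31_eq (i : Nat) : actR31 i = Tab.act T D rw31 i := rfl
noncomputable def actR32 (i : Nat) : Nat := col13 (col1 (col12 (col0 (i))))
theorem actR32_eq (i : Nat) : actR32 i = Tab.act T D rw32 i := rfl
noncomputable def actR33 (i : Nat) : Nat := col13 (col3 (col12 (col2 (i))))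
theorem actR33_eq (i : Nat) : actR33 i = Tab.act T D rw33 i := rfl
noncomputable def actR34 (i : Nat) : Nat := col13 (col5 (col12 (col4 (i))))
theorem actR34_eq (i : Nat) : actR34 i = Tab.act T D rw34 i := rfl
noncomputable def actR35 (i : Nat) : Nat := col13 (col7 (col12 (col6 (i))))
theorem actR35_eq (i : Nat) : actR35 i = Tab.act T D rw35 i := rfl
noncomputable def actR36 (i : Nat) : Nat := col13 (col9 (col12 (col8 (i))))
theorem actR36_eq (i : Nat) : actR36 i = Tab.act T D rw36 i := rfl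
noncomputable def actR37 (i : Nat) : Nat := col15 (col1 (col14 (col0 (i))))
theorem actR37_eq (i : Nat) : actR37 i = Tab.act T D rw37 i := rfl
noncomputable def actR38 (i : Nat) : Nat := col15 (col3 (col14 (col2 (i))))
theorem actR38_eq (i : Nat) : actR38 i = Tab.act T D rw38 i := rfl
noncomputable def actR39 (i : Nat) : Nat := col15 (col5 (col14 (col4 (i))))
theorem actR39_eq (i : Nat) : actR39 i = Tab.act T D rw39 i := rfl
noncomputable def actR40 (i : Nat) : Nat := col15 (col7 (col14 (col6 (i))))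
theorem actR40_eq (i : Nat) : actR40 i = Tab.act T D rw40 i := rfl
noncomputable def actR41 (i : Nat) : Nat := col15 (col9 (col14 (col8 (i))))
theorem actR41_eq (i : Nat) : actR41 i = Tab.act T D rw41 i := rfl
noncomputable def actR42 (i : Nat) : Nat := col17 (col1 (col16 (col0 (i))))
theorem actR42_eq (i : Nat) : actR42 i = Tab.act T D rw42 i := rfl
noncomputable def actR43 (i : Nat) : Nat := col17 (col3 (col16 (col2 (i))))
theorem actR43_eq (i : Nat) : actR43 i = Tab.act T D rw43 i := rfl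
noncomputable def actR44 (i : Nat) : Nat := col17 (col5 (col16 (col4 (i))))
theorem actR44_eq (i : Nat) : actR44 i = Tab.act T D rw44 i := rfl
noncomputable def actR45 (i : Nat) : Nat := col17 (col7 (col16 (col6 (i))))
theorem actR45_eq (i : Nat) : actR45 i = Tab.act T D rw45 i := rfl
noncomputable def actR46 (i : Nat) : Nat := col17 (col9 (col16 (col8 (i))))
theorem actR46_eq (i : Nat) : actR46 i = Tab.act T D rw46 i := rfl
noncomputable def actR47 (i : Nat) : Nat := col19 (col1 (col18 (col0 (i))))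
theorem actR47_eq (i : Nat) : actR47 i = Tab.act T D rw47 i := rfl
noncomputable def actR48 (i : Nat) : Nat := col19 (col3 (col18 (col2 (i))))
theorem actR48_eq (i : Nat) : actR48 i = Tab.act T D rw48 i := rfl
noncomputable def actR49 (i : Nat) : Nat := col19 (col5 (col18 (col4 (i))))
theorem actR49_eq (i : Nat) : actR49 i = Tab.act T D rw49 i := rfl
noncomputable def actR50 (i : Nat) : Nat := col19 (col7 (col18 (col6 (i))))
theorem actR50_eq (i : Nat) : actR50 i = Tab.act T D rw50 i := rfl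
noncomputable def actR51 (i : Nat) : Nat := col19 (col9 (col18 (col8 (i))))
theorem actR51_eq (i : Nat) : actR51 i = Tab.act T D rw51 i := rfl
noncomputable def actR52 (i : Nat) : Nat := col21 (col1 (col20 (col0 (i))))
theorem actR52_eq (i : Nat) : actR52 i = Tab.act T D rw52 i := rfl
noncomputable def actR53 (i : Nat) : Nat := col21 (col3 (col20 (col2 (i))))
theorem actR53_eq (i : Nat) : actR53 i = Tab.act T D rw53 i := rfl
noncomputable def actR54 (i : Nat) : Nat := col21 (col5 (col20 (col4 (i))))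
theorem actR54_eq (i : Nat) : actR54 i = Tab.act T D rw54 i := rfl
noncomputable def actR55 (i : Nat) : Nat := col21 (col7 (col20 (col6 (i))))
theorem actR55_eq (i : Nat) : actR55 i = Tab.act T D rw55 i := rfl
noncomputable def actR56 (i : Nat) : Nat := col21 (col9 (col20 (col8 (i))))
theorem actR56_eq (i : Nat) : actR56 i = Tab.act T D rw56 i := rfl
noncomputable def actR57 (i : Nat) : Nat := col23 (col1 (col22 (col0 (i))))
theorem actR57_eq (i : Nat) : actR57 i = Tab.act T D rw57 i := rfl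
noncomputable def actR58 (i : Nat) : Nat := col23 (col3 (col22 (col2 (i))))
theorem actR58_eq (i : Nat) : actR58 i = Tab.act T D rw58 i := rfl
noncomputable def actR59 (i : Nat) : Nat := col23 (col5 (col22 (col4 (i))))
theorem actR59_eq (i : Nat) : actR59 i = Tab.act T D rw59 i := rfl
noncomputable def actR60 (i : Nat) : Nat := col23 (col7 (col22 (col6 (i))))
theorem actR60_eq (i : Nat) : actR60 i = Tab.act T D rw60 i := rfl
noncomputable def actR61 (i : Nat) : Nat := col23 (col9 (col22 (col8 (i))))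
theorem actR61_eq (i : Nat) : actR61 i = Tab.act T D rw61 i := rfl
noncomputable def actR62 (i : Nat) : Nat := col25 (col1 (col24 (col0 (i))))
theorem actR62_eq (i : Nat) : actR62 i = Tab.act T D rw62 i := rfl
noncomputable def actR63 (i : Nat) : Nat := col25 (col3 (col24 (col2 (i))))
theorem actR63_eq (i : Nat) : actR63 i = Tab.act T D rw63 i := rfl
noncomputable def actR64 (i : Nat) : Nat := col25 (col5 (col24 (col4 (i))))
theorem actR64_eq (i : Nat) : actR64 i = Tab.act T D rw64 i := rfl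
noncomputable def actR65 (i : Nat) : Nat := col25 (col7 (col24 (col6 (i))))
theorem actR65_eq (i : Nat) : actR65 i = Tab.act T D rw65 i := rfl
noncomputable def actR66 (i : Nat) : Nat := col25 (col9 (col24 (col8 (i))))
theorem actR66_eq (i : Nat) : actR66 i = Tab.act T D rw66 i := rfl
noncomputable def actR67 (i : Nat) : Nat := col27 (col1 (col26 (col0 (i))))
theorem actR67_eq (i : Nat) : actR67 i = Tab.act T D rw67 i := rfl
noncomputable def actR68 (i : Nat) : Nat := col27 (col3 (col26 (col2 (i))))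
theorem actR68_eq (i : Nat) : actR68 i = Tab.act T D rw68 i := rfl
noncomputable def actR69 (i : Nat) : Nat := col27 (col5 (col26 (col4 (i))))
theorem actR69_eq (i : Nat) : actR69 i = Tab.act T D rw69 i := rfl
noncomputable def actR70 (i : Nat) : Nat := col27 (col7 (col26 (col6 (i))))
theorem actR70_eq (i : Nat) : actR70 i = Tab.act T D rw70 i := rfl
noncomputable def actR71 (i : Nat) : Nat := col27 (col9 (col26 (col8 (i))))
theorem actR71_eq (i : Nat) : actR71 i = Tab.act T D rw71 i := rfl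
noncomputable def actR72 (i : Nat) : Nat := col29 (col1 (col28 (col0 (i))))
theorem actR72_eq (i : Nat) : actR72 i = Tab.act T D rw72 i := rfl
noncomputable def actR73 (i : Nat) : Nat := col29 (col3 (col28 (col2 (i))))
theorem actR73_eq (i : Nat) : actR73 i = Tab.act T D rw73 i := rfl
noncomputable def actR74 (i : Nat) : Nat := col29 (col5 (col28 (col4 (i))))
theorem actR74_eq (i : Nat) : actR74 i = Tab.act T D rw74 i := rfl
noncomputable def actR75 (i : Nat) : Nat := col29 (col7 (col28 (col6 (i))))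
theorem actR75_eq (i : Nat) : actR75 i = Tab.act T D rw75 i := rfl
noncomputable def actR76 (i : Nat) : Nat := col29 (col9 (col28 (col8 (i))))
theorem actR76_eq (i : Nat) : actR76 i = Tab.act T D rw76 i := rfl
noncomputable def actR77 (i : Nat) : Nat := col31 (col1 (col30 (col0 (i))))
theorem actR77_eq (i : Nat) : actR77 i = Tab.act T D rw77 i := rfl
noncomputable def actR78 (i : Nat) : Nat := col31 (col3 (col30 (col2 (i))))
theorem actR78_eq (i : Nat) : actR78 i = Tab.act T D rw78 i := rfl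
noncomputable def actR79 (i : Nat) : Nat := col31 (col5 (col30 (col4 (i))))
theorem actR79_eq (i : Nat) : actR79 i = Tab.act T D rw79 i := rfl
noncomputable def actR80 (i : Nat) : Nat := col31 (col7 (col30 (col6 (i))))
theorem actR80_eq (i : Nat) : actR80 i = Tab.act T D rw80 i := rfl
noncomputable def actR81 (i : Nat) : Nat := col31 (col9 (col30 (col8 (i))))
theorem actR81_eq (i : Nat) : actR81 i = Tab.act T D rw81 i := rfl
noncomputable def actR82 (i : Nat) : Nat := col1 (col1 (i))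
theorem actR82_eq (i : Nat) : actR82 i = Tab.act T D rw82 i := rfl
noncomputable def actR83 (i : Nat) : Nat := col3 (col3 (col3 (col3 (i))))
theorem actR83_eq (i : Nat) : actR83 i = Tab.act T D rw83 i := rfl
noncomputable def actR84 (i : Nat) : Nat := col1 (col3 (col1 (col3 (col1 (col3 (col1 (col3 (col1 (col3 (col1 (col3 (col1 (col3 (col1 (col3 (col1 (col3 (col1 (col3 (col1 (col3 (i))))))))))))))))))))))
theorem actR84_eq (i : Nat) : actR84 i = Tab.act T D rw84 i := rfl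
noncomputable def actR85 (i : Nat) : Nat := col1 (col3 (col3 (col1 (col3 (col3 (col1 (col3 (col3 (col1 (col3 (col3 (col1 (col3 (col3 (col1 (col3 (col3 (i))))))))))))))))))
theorem actR85_eq (i : Nat) : actR85 i = Tab.act T D rw85 i := rfl
noncomputable def actR86 (i : Nat) : Nat := col1 (col3 (col1 (col3 (col1 (col2 (col1 (col3 (col1 (col3 (col3 (col1 (col2 (col1 (col3 (col1 (col2 (col1 (col2 (i)))))))))))))))))))
theorem actR86_eq (i : Nat) : actR86 i = Tab.act T D rw86 i := rfl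
noncomputable def actR87 (i : Nat) : Nat := col7 (col1 (col3 (col3 (col1 (col7 (col1 (col3 (col3 (col1 (col3 (col3 (col6 (col0 (col2 (col2 (col0 (col6 (col0 (col2 (col2 (col0 (col2 (col2 (i))))))))))))))))))))))))
theorem actR87_eq (i : Nat) : actR87 i = Tab.act T D rw87 i := rfl
noncomputable def actR88 (i : Nat) : Nat := col7 (col1 (col7 (col3 (col1 (col3 (col3 (col1 (col3 (col1 (col3 (col3 (col6 (col0 (col6 (col0 (col2 (col0 (col2 (col2 (col0 (col2 (col0 (col2 (col0 (col2 (col0 (col2 (col0 (col3 (col0 (col2 (col0 (col2 (i))))))))))))))))))))))))))))))))))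
theorem actR88_eq (i : Nat) : actR88 i = Tab.act T D rw88 i := rfl
noncomputable def actR89 (i : Nat) : Nat := col7 (col1 (col7 (col1 (col3 (col3 (col1 (col3 (col3 (col1 (col2 (col1 (col2 (col1 (col2 (col6 (col0 (col6 (col0 (col2 (col2 (col0 (col2 (col2 (col0 (col3 (col0 (col3 (col0 (col2 (col2 (col0 (col3 (col0 (col3 (i)))))))))))))))))))))))))))))))))))
theorem actR89_eq (i : Nat) : actR89 i = Tab.act T D rw89 i := rfl
noncomputable def actR90 (i : Nat) : Nat := col7 (col1 (col7 (col3 (col1 (col3 (col1 (col3 (col3 (col1 (col3 (col1 (col2 (col1 (col3 (col6 (col0 (col6 (col0 (col2 (col2 (col0 (col2 (col0 (col2 (col2 (col0 (col3 (col0 (col2 (col2 (col0 (col3 (col0 (col3 (col0 (i))))))))))))))))))))))))))))))))))))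
theorem actR90_eq (i : Nat) : actR90 i = Tab.act T D rw90 i := rfl

end Cfsg.Agent.Lib.Helper4.TCD.SC2HSp2A
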