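import Cfsg.Agent.Lib.Helper4.TCD_SC2HSp2A_Acc

namespace Cfsg.Agent.Lib.Helper4.TCD.SC2HSp2A

open Cfsg.Agent.Lib.Helper4.TC

set_option maxRecDepth 100000
set_option Elab.async false

theorem c_zero : D.zeroOK = true := by decide +kernel
theorem c_base : allBelow D.baseOK 4 = true := by decide +kernel
theorem c_let : allBelow D.letOK 32 = true := by decide +kernel
theorem c_cls0 : T.cls 0 = 0 := by decide +kernel
theorem c_name0 : T.nameOf 0 = 0 := by decide +kernel
theorem c_tab : D.relTabOK 0 (baseRels 32 PSC2HSp2.invR PSC2HSp2.P.real subs ++ (baseRels 32 PSC2HSp2.invR PSC2HSp2.P.real subs).map (invWord D.inv)) = true := by decide +kernel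
theorem c_real : PSC2HSp2.P.real = realLit := by decide +kernel
theorem c_subfix : subs.all (fun u => Nat.beq (Tab.act T D u 0) 0) = true := by decide +kernel
theorem c_subs : subs.all (fun u => u.all (fun x => Nat.ble (Nat.succ x) 32)) = true := by decide +kernel
theorem c_names_0 : allRange D.nameOK 1 37686 = true := by decide +kernel
theorem c_cls_0 : allRange (T.clsOK D) 1 15000 = true := by decide +kernel
theorem c_cls_1 : allRange (T.clsOK D) 15001 15000 = true := by decide +kernel
theorem c_cls_2 : allRange (T.clsOK D) 30001 7686 = true := by decide +kernel
theorem c_rep_0 : allRange (T.repOK D) 0 11200 = true := by decide +kernel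
theorem c_rel_0 : allRange D.relOK 37691 3836 = true := by decide +kernel
theorem c_rel_1 : allRange D.relOK 41527 3757 = true := by decide +kernel
theorem c_rel_2 : allRange D.relOK 45284 3866 = true := by decide +kernel
theorem c_rel_3 : allRange D.relOK 49150 3875 = true := by decide +kernel
theorem c_rel_4 : allRange D.relOK 53025 3822 = true := by decide +kernel
theorem c_rel_5 : allRange D.relOK 56847 3874 = true := by decide +kernel
theorem c_rel_6 : allRange D.relOK 60721 3899 = true := by decide +kernel
theorem c_rel_7 : allRange D.relOK 64620 3897 = true := by decide +kernel
theorem c_rel_8 : allRange D.relOK 68517 3919 = true := by decide +kernel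
theorem c_rel_9 : allRange D.relOK 72436 3846 = true := by decide +kernel
theorem c_rel_10 : allRange D.relOK 76282 3870 = true := by decide +kernel
theorem c_rel_11 : allRange D.relOK 80152 3832 = true := by decide +kernel
theorem c_rel_12 : allRange D.relOK 83984 3849 = true := by decide +kernel
theorem c_rel_13 : allRange D.relOK 87833 3839 = true := by decide +kernel
theorem c_rel_14 : allRange D.relOK 91672 3859 = true := by decide +kernel
theorem c_rel_15 : allRange D.relOK 95531 3728 = true := by decide +kernel
theorem c_rel_16 : allRange D.relOK 99259 3778 = true := by decide +kernel
theorem c_rel_17 : allRange D.relOK 103037 3858 = true := by decide +kernel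
theorem c_rel_18 : allRange D.relOK 106895 3859 = true := by decide +kernel
theorem c_rel_19 : allRange D.relOK 110754 3848 = true := by decide +kernel
theorem c_rel_20 : allRange D.relOK 114602 3801 = true := by decide +kernel
theorem c_rel_21 : allRange D.relOK 118403 3870 = true := by decide +kernel
theorem c_rel_22 : allRange D.relOK 122273 3814 = true := by decide +kernel
theorem c_rel_23 : allRange D.relOK 126087 3810 = true := by decide +kernel
theorem c_rel_24 : allRange D.relOK 129897 3809 = true := by decide +kernel
theorem c_rel_25 : allRange D.relOK 133706 3791 = true := by decide +kernel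
theorem c_rel_26 : allRange D.relOK 137497 3802 = true := by decide +kernel
theorem c_rel_27 : allRange D.relOK 141299 3699 = true := by decide +kernel
theorem c_rel_28 : allRange D.relOK 144998 3845 = true := by decide +kernel
theorem c_rel_29 : allRange D.relOK 148843 3429 = true := by decide +kernel
theorem c_rel_30 : allRange D.relOK 152272 3682 = true := by decide +kernel
theorem c_rel_31 : allRange D.relOK 155954 3698 = true := by decide +kernel
theorem c_rel_32 : allRange D.relOK 159652 3208 = true := by decide +kernel
theorem c_rel_33 : allRange D.relOK 162860 2825 = true := by decide +kernel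
theorem c_rel_34 : allRange D.relOK 165685 2787 = true := by decide +kernel
theorem c_rel_35 : allRange D.relOK 168472 3265 = true := by decide +kernel
theorem c_rel_36 : allRange D.relOK 171737 3351 = true := by decide +kernel
theorem c_rel_37 : allRange D.relOK 175088 2898 = true := by decide +kernel
theorem c_rel_38 : allRange D.relOK 177986 3388 = true := by decide +kernel
theorem c_rel_39 : allRange D.relOK 181374 3023 = true := by decide +kernel
theorem c_rel_40 : allRange D.relOK 184397 2332 = true := by decide +kernel
theorem c_rel_41 : allRange D.relOK 186729 1843 = true := by decide +kernel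
theorem c_rel_42 : allRange D.relOK 188572 1603 = true := by decide +kernel
theorem c_rel_43 : allRange D.relOK 190175 1710 = true := by decide +kernel
theorem c_rel_44 : allRange D.relOK 191885 1782 = true := by decide +kernel
theorem c_rel_45 : allRange D.relOK 193667 1590 = true := by decide +kernel
theorem c_rel_46 : allRange D.relOK 195257 2096 = true := by decide +kernel
theorem c_rel_47 : allRange D.relOK 197353 2803 = true := by decide +kernel
theorem c_rel_48 : allRange D.relOK 200156 2751 = true := by decide +kernel
theorem c_rel_49 : allRange D.relOK 202907 2723 = true := by decide +kernel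
theorem c_rel_50 : allRange D.relOK 205630 2806 = true := by decide +kernel
theorem c_rel_51 : allRange D.relOK 208436 2770 = true := by decide +kernel
theorem c_rel_52 : allRange D.relOK 211206 2719 = true := by decide +kernel
theorem c_rel_53 : allRange D.relOK 213925 2780 = true := by decide +kernel
theorem c_rel_54 : allRange D.relOK 216705 2751 = true := by decide +kernel
theorem c_rel_55 : allRange D.relOK 219456 2811 = true := by decide +kernel
theorem c_rel_56 : allRange D.relOK 222267 2736 = true := by decide +kernel
theorem c_rel_57 : allRange D.relOK 225003 2822 = true := by decide +kernel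
theorem c_rel_58 : allRange D.relOK 227825 2709 = true := by decide +kernel
theorem c_rel_59 : allRange D.relOK 230534 2727 = true := by decide +kernel
theorem c_rel_60 : allRange D.relOK 233261 2846 = true := by decide +kernel
theorem c_rel_61 : allRange D.relOK 236107 2758 = true := by decide +kernel
theorem c_rel_62 : allRange D.relOK 238865 2692 = true := by decide +kernel
theorem c_rel_63 : allRange D.relOK 241557 2607 = true := by decide +kernel
theorem c_rel_64 : allRange D.relOK 244164 2610 = true := by decide +kernel
theorem c_rel_65 : allRange D.relOK 246774 2783 = true := by decide +kernel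
theorem c_rel_66 : allRange D.relOK 249557 2573 = true := by decide +kernel
theorem c_rel_67 : allRange D.relOK 252130 2582 = true := by decide +kernel
theorem c_rel_68 : allRange D.relOK 254712 2486 = true := by decide +kernel
theorem c_rel_69 : allRange D.relOK 257198 2552 = true := by decide +kernel
theorem c_rel_70 : allRange D.relOK 259750 2529 = true := by decide +kernel
theorem c_rel_71 : allRange D.relOK 262279 2687 = true := by decide +kernel
theorem c_rel_72 : allRange D.relOK 264966 4614 = true := by decide +kernel
theorem c_rel_73 : allRange D.relOK 269580 4729 = true := by decide +kernel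
theorem c_rel_74 : allRange D.relOK 274309 4700 = true := by decide +kernel
theorem c_rel_75 : allRange D.relOK 279009 4717 = true := by decide +kernel
theorem c_rel_76 : allRange D.relOK 283726 4690 = true := by decide +kernel
theorem c_rel_77 : allRange D.relOK 288416 4730 = true := by decide +kernel
theorem c_rel_78 : allRange D.relOK 293146 4724 = true := by decide +kernel
theorem c_rel_79 : allRange D.relOK 297870 4687 = true := by decide +kernel
theorem c_rel_80 : allRange D.relOK 302557 4686 = true := by decide +kernel
theorem c_rel_81 : allRange D.relOK 307243 4633 = true := by decide +kernel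
theorem c_rel_82 : allRange D.relOK 311876 4710 = true := by decide +kernel
theorem c_rel_83 : allRange D.relOK 316586 4375 = true := by decide +kernel
theorem c_rel_84 : allRange D.relOK 320961 4379 = true := by decide +kernel
theorem c_rel_85 : allRange D.relOK 325340 4609 = true := by decide +kernel
theorem c_rel_86 : allRange D.relOK 329949 4522 = true := by decide +kernel
theorem c_rel_87 : allRange D.relOK 334471 2367 = true := by decide +kernel
theorem c_fin_0 : allGrid (T.finOK D) 0 375 32 = true := by decide +kernel
theorem c_fin_1 : allGrid (T.finOK D) 375 375 32 = true := by decide +kernel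

end Cfsg.Agent.Lib.Helper4.TCD.SC2HSp2A
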