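import Cfsg.Agent.Lib.Helper4.TC7
import Cfsg.Agent.Lib.Helper4.TCP_SC2HSp3
import Cfsg.Agent.Lib.Helper4.TCD_SC2HSp3A_D0
import Cfsg.Agent.Lib.Helper4.TCD_SC2HSp3A_D1
import Cfsg.Agent.Lib.Helper4.TCD_SC2HSp3A_D2
import Cfsg.Agent.Lib.Helper4.TCD_SC2HSp3A_D3
import Cfsg.Agent.Lib.Helper4.TCD_SC2HSp3A_D4
import Cfsg.Agent.Lib.Helper4.TCD_SC2HSp3A_D5
import Cfsg.Agent.Lib.Helper4.TCD_SC2HSp3A_D6
import Cfsg.Agent.Lib.Helper4.TCD_SC2HSp3A_D7
import Cfsg.Agent.Lib.Helper4.TCD_SC2HSp3A_D8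
import Cfsg.Agent.Lib.Helper4.TCD_SC2HSp3A_D9
import Cfsg.Agent.Lib.Helper4.TCD_SC2HSp3A_D10
import Cfsg.Agent.Lib.Helper4.TCD_SC2HSp3A_D11
import Cfsg.Agent.Lib.Helper4.TCD_SC2HSp3A_D12
import Cfsg.Agent.Lib.Helper4.TCD_SC2HSp3A_D13
import Cfsg.Agent.Lib.Helper4.TCD_SC2HSp3A_D14
import Cfsg.Agent.Lib.Helper4.TCD_SC2HSp3A_D15

namespace Cfsg.Agent.Lib.Helper4.TCD.SC2HSp3A

open Cfsg.Agent.Lib.Helper4.TC

set_option maxRecDepth 100000

noncomputable def Atab_s_0_2 (c : Nat) : Nat := @Bool.rec (fun _ => Nat) (Atab_0) (Atab_1) (Nat.ble 1 c)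
noncomputable def Atab_s_2_4 (c : Nat) : Nat := @Bool.rec (fun _ => Nat) (Atab_2) (Atab_3) (Nat.ble 3 c)
noncomputable def Atab_s_0_4 (c : Nat) : Nat := @Bool.rec (fun _ => Nat) (Atab_s_0_2 c) (Atab_s_2_4 c) (Nat.ble 2 c)
noncomputable def Atab_s_4_6 (c : Nat) : Nat := @Bool.rec (fun _ => Nat) (Atab_4) (Atab_5) (Nat.ble 5 c)
noncomputable def Atab_s_7_9 (c : Nat) : Nat := @Bool.rec (fun _ => Nat) (Atab_7) (Atab_8) (Nat.ble 8 c)
noncomputable def Atab_s_6_9 (c : Nat) : Nat := @Bool.rec (fun _ => Nat) (Atab_6) (Atab_s_7_9 c) (Nat.ble 7 c)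
noncomputable def Atab_s_4_9 (c : Nat) : Nat := @Bool.rec (fun _ => Nat) (Atab_s_4_6 c) (Atab_s_6_9 c) (Nat.ble 6 c)
noncomputable def Atab_s_0_9 (c : Nat) : Nat := @Bool.rec (fun _ => Nat) (Atab_s_0_4 c) (Atab_s_4_9 c) (Nat.ble 4 c)
noncomputable def Atab_s_9_11 (c : Nat) : Nat := @Bool.rec (fun _ => Nat) (Atab_9) (Atab_10) (Nat.ble 10 c)
noncomputable def Atab_s_12_14 (c : Nat) : Nat := @Bool.rec (fun _ => Nat) (Atab_12) (Atab_13) (Nat.ble 13 c)
noncomputable def Atab_s_11_14 (c : Nat) : Nat := @Bool.rec (fun _ => Nat) (Atab_11) (Atab_s_12_14 c) (Nat.ble 12 c)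
noncomputable def Atab_s_9_14 (c : Nat) : Nat := @Bool.rec (fun _ => Nat) (Atab_s_9_11 c) (Atab_s_11_14 c) (Nat.ble 11 c)
noncomputable def Atab_s_14_16 (c : Nat) : Nat := @Bool.rec (fun _ => Nat) (Atab_14) (Atab_15) (Nat.ble 15 c)
noncomputable def Atab_s_17_19 (c : Nat) : Nat := @Bool.rec (fun _ => Nat) (Atab_17) (Atab_18) (Nat.ble 18 c)
noncomputable def Atab_s_16_19 (c : Nat) : Nat := @Bool.rec (fun _ => Nat) (Atab_16) (Atab_s_17_19 c) (Nat.ble 17 c)
noncomputable def Atab_s_14_19 (c : Nat) : Nat := @Bool.rec (fun _ => Nat) (Atab_s_14_16 c) (Atab_s_16_19 c) (Nat.ble 16 c)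
noncomputable def Atab_s_9_19 (c : Nat) : Nat := @Bool.rec (fun _ => Nat) (Atab_s_9_14 c) (Atab_s_14_19 c) (Nat.ble 14 c)
noncomputable def Atab_s_0_19 (c : Nat) : Nat := @Bool.rec (fun _ => Nat) (Atab_s_0_9 c) (Atab_s_9_19 c) (Nat.ble 9 c)
noncomputable def Atab_s_19_21 (c : Nat) : Nat := @Bool.rec (fun _ => Nat) (Atab_19) (Atab_20) (Nat.ble 20 c)
noncomputable def Atab_s_22_24 (c : Nat) : Nat := @Bool.rec (fun _ => Nat) (Atab_22) (Atab_23) (Nat.ble 23 c)
noncomputable def Atab_s_21_24 (c : Nat) : Nat := @Bool.rec (fun _ => Nat) (Atab_21) (Atab_s_22_24 c) (Nat.ble 22 c)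
noncomputable def Atab_s_19_24 (c : Nat) : Nat := @Bool.rec (fun _ => Nat) (Atab_s_19_21 c) (Atab_s_21_24 c) (Nat.ble 21 c)
noncomputable def Atab_s_24_26 (c : Nat) : Nat := @Bool.rec (fun _ => Nat) (Atab_24) (Atab_25) (Nat.ble 25 c)
noncomputable def Atab_s_27_29 (c : Nat) : Nat := @Bool.rec (fun _ => Nat) (Atab_27) (Atab_28) (Nat.ble 28 c)
noncomputable def Atab_s_26_29 (c : Nat) : Nat := @Bool.rec (fun _ => Nat) (Atab_26) (Atab_s_27_29 c) (Nat.ble 27 c)
noncomputable def Atab_s_24_29 (c : Nat) : Nat := @Bool.rec (fun _ => Nat) (Atab_s_24_26 c) (Atab_s_26_29 c) (Nat.ble 26 c)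
noncomputable def Atab_s_19_29 (c : Nat) : Nat := @Bool.rec (fun _ => Nat) (Atab_s_19_24 c) (Atab_s_24_29 c) (Nat.ble 24 c)
noncomputable def Atab_s_29_31 (c : Nat) : Nat := @Bool.rec (fun _ => Nat) (Atab_29) (Atab_30) (Nat.ble 30 c)
noncomputable def Atab_s_32_34 (c : Nat) : Nat := @Bool.rec (fun _ => Nat) (Atab_32) (Atab_33) (Nat.ble 33 c)
noncomputable def Atab_s_31_34 (c : Nat) : Nat := @Bool.rec (fun _ => Nat) (Atab_31) (Atab_s_32_34 c) (Nat.ble 32 c)
noncomputable def Atab_s_29_34 (c : Nat) : Nat := @Bool.rec (fun _ => Nat) (Atab_s_29_31 c) (Atab_s_31_34 c) (Nat.ble 31 c)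
noncomputable def Atab_s_34_36 (c : Nat) : Nat := @Bool.rec (fun _ => Nat) (Atab_34) (Atab_35) (Nat.ble 35 c)
noncomputable def Atab_s_37_39 (c : Nat) : Nat := @Bool.rec (fun _ => Nat) (Atab_37) (Atab_38) (Nat.ble 38 c)
noncomputable def Atab_s_36_39 (c : Nat) : Nat := @Bool.rec (fun _ => Nat) (Atab_36) (Atab_s_37_39 c) (Nat.ble 37 c)
noncomputable def Atab_s_34_39 (c : Nat) : Nat := @Bool.rec (fun _ => Nat) (Atab_s_34_36 c) (Atab_s_36_39 c) (Nat.ble 36 c)
noncomputable def Atab_s_29_39 (c : Nat) : Nat := @Bool.rec (fun _ => Nat) (Atab_s_29_34 c) (Atab_s_34_39 c) (Nat.ble 34 c)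
noncomputable def Atab_s_19_39 (c : Nat) : Nat := @Bool.rec (fun _ => Nat) (Atab_s_19_29 c) (Atab_s_29_39 c) (Nat.ble 29 c)
noncomputable def Atab_s_0_39 (c : Nat) : Nat := @Bool.rec (fun _ => Nat) (Atab_s_0_19 c) (Atab_s_19_39 c) (Nat.ble 19 c)
noncomputable def Atab_s_39_41 (c : Nat) : Nat := @Bool.rec (fun _ => Nat) (Atab_39) (Atab_40) (Nat.ble 40 c)
noncomputable def Atab_s_42_44 (c : Nat) : Nat := @Bool.rec (fun _ => Nat) (Atab_42) (Atab_43) (Nat.ble 43 c)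
noncomputable def Atab_s_41_44 (c : Nat) : Nat := @Bool.rec (fun _ => Nat) (Atab_41) (Atab_s_42_44 c) (Nat.ble 42 c)
noncomputable def Atab_s_39_44 (c : Nat) : Nat := @Bool.rec (fun _ => Nat) (Atab_s_39_41 c) (Atab_s_41_44 c) (Nat.ble 41 c)
noncomputable def Atab_s_44_46 (c : Nat) : Nat := @Bool.rec (fun _ => Nat) (Atab_44) (Atab_45) (Nat.ble 45 c)
noncomputable def Atab_s_47_49 (c : Nat) : Nat := @Bool.rec (fun _ => Nat) (Atab_47) (Atab_48) (Nat.ble 48 c)
noncomputable def Atab_s_46_49 (c : Nat) : Nat := @Bool.rec (fun _ => Nat) (Atab_46) (Atab_s_47_49 c) (Nat.ble 47 c)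
noncomputable def Atab_s_44_49 (c : Nat) : Nat := @Bool.rec (fun _ => Nat) (Atab_s_44_46 c) (Atab_s_46_49 c) (Nat.ble 46 c)
noncomputable def Atab_s_39_49 (c : Nat) : Nat := @Bool.rec (fun _ => Nat) (Atab_s_39_44 c) (Atab_s_44_49 c) (Nat.ble 44 c)
noncomputable def Atab_s_49_51 (c : Nat) : Nat := @Bool.rec (fun _ => Nat) (Atab_49) (Atab_50) (Nat.ble 50 c)
noncomputable def Atab_s_52_54 (c : Nat) : Nat := @Bool.rec (fun _ => Nat) (Atab_52) (Atab_53) (Nat.ble 53 c)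
noncomputable def Atab_s_51_54 (c : Nat) : Nat := @Bool.rec (fun _ => Nat) (Atab_51) (Atab_s_52_54 c) (Nat.ble 52 c)
noncomputable def Atab_s_49_54 (c : Nat) : Nat := @Bool.rec (fun _ => Nat) (Atab_s_49_51 c) (Atab_s_51_54 c) (Nat.ble 51 c)
noncomputable def Atab_s_54_56 (c : Nat) : Nat := @Bool.rec (fun _ => Nat) (Atab_54) (Atab_55) (Nat.ble 55 c)
noncomputable def Atab_s_57_59 (c : Nat) : Nat := @Bool.rec (fun _ => Nat) (Atab_57) (Atab_58) (Nat.ble 58 c)
noncomputable def Atab_s_56_59 (c : Nat) : Nat := @Bool.rec (fun _ => Nat) (Atab_56) (Atab_s_57_59 c) (Nat.ble 57 c)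
noncomputable def Atab_s_54_59 (c : Nat) : Nat := @Bool.rec (fun _ => Nat) (Atab_s_54_56 c) (Atab_s_56_59 c) (Nat.ble 56 c)
noncomputable def Atab_s_49_59 (c : Nat) : Nat := @Bool.rec (fun _ => Nat) (Atab_s_49_54 c) (Atab_s_54_59 c) (Nat.ble 54 c)
noncomputable def Atab_s_39_59 (c : Nat) : Nat := @Bool.rec (fun _ => Nat) (Atab_s_39_49 c) (Atab_s_49_59 c) (Nat.ble 49 c)
noncomputable def Atab_s_59_61 (c : Nat) : Nat := @Bool.rec (fun _ => Nat) (Atab_59) (Atab_60) (Nat.ble 60 c)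
noncomputable def Atab_s_62_64 (c : Nat) : Nat := @Bool.rec (fun _ => Nat) (Atab_62) (Atab_63) (Nat.ble 63 c)
noncomputable def Atab_s_61_64 (c : Nat) : Nat := @Bool.rec (fun _ => Nat) (Atab_61) (Atab_s_62_64 c) (Nat.ble 62 c)
noncomputable def Atab_s_59_64 (c : Nat) : Nat := @Bool.rec (fun _ => Nat) (Atab_s_59_61 c) (Atab_s_61_64 c) (Nat.ble 61 c)
noncomputable def Atab_s_64_66 (c : Nat) : Nat := @Bool.rec (fun _ => Nat) (Atab_64) (Atab_65) (Nat.ble 65 c)
noncomputable def Atab_s_67_69 (c : Nat) : Nat := @Bool.rec (fun _ => Nat) (Atab_67) (Atab_68) (Nat.ble 68 c)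
noncomputable def Atab_s_66_69 (c : Nat) : Nat := @Bool.rec (fun _ => Nat) (Atab_66) (Atab_s_67_69 c) (Nat.ble 67 c)
noncomputable def Atab_s_64_69 (c : Nat) : Nat := @Bool.rec (fun _ => Nat) (Atab_s_64_66 c) (Atab_s_66_69 c) (Nat.ble 66 c)
noncomputable def Atab_s_59_69 (c : Nat) : Nat := @Bool.rec (fun _ => Nat) (Atab_s_59_64 c) (Atab_s_64_69 c) (Nat.ble 64 c)
noncomputable def Atab_s_69_71 (c : Nat) : Nat := @Bool.rec (fun _ => Nat) (Atab_69) (Atab_70) (Nat.ble 70 c)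
noncomputable def Atab_s_72_74 (c : Nat) : Nat := @Bool.rec (fun _ => Nat) (Atab_72) (Atab_73) (Nat.ble 73 c)
noncomputable def Atab_s_71_74 (c : Nat) : Nat := @Bool.rec (fun _ => Nat) (Atab_71) (Atab_s_72_74 c) (Nat.ble 72 c)
noncomputable def Atab_s_69_74 (c : Nat) : Nat := @Bool.rec (fun _ => Nat) (Atab_s_69_71 c) (Atab_s_71_74 c) (Nat.ble 71 c)
noncomputable def Atab_s_74_76 (c : Nat) : Nat := @Bool.rec (fun _ => Nat) (Atab_74) (Atab_75) (Nat.ble 75 c)
noncomputable def Atab_s_77_79 (c : Nat) : Nat := @Bool.rec (fun _ => Nat) (Atab_77) (Atab_78) (Nat.ble 78 c)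
noncomputable def Atab_s_76_79 (c : Nat) : Nat := @Bool.rec (fun _ => Nat) (Atab_76) (Atab_s_77_79 c) (Nat.ble 77 c)
noncomputable def Atab_s_74_79 (c : Nat) : Nat := @Bool.rec (fun _ => Nat) (Atab_s_74_76 c) (Atab_s_76_79 c) (Nat.ble 76 c)
noncomputable def Atab_s_69_79 (c : Nat) : Nat := @Bool.rec (fun _ => Nat) (Atab_s_69_74 c) (Atab_s_74_79 c) (Nat.ble 74 c)
noncomputable def Atab_s_59_79 (c : Nat) : Nat := @Bool.rec (fun _ => Nat) (Atab_s_59_69 c) (Atab_s_69_79 c) (Nat.ble 69 c)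
noncomputable def Atab_s_39_79 (c : Nat) : Nat := @Bool.rec (fun _ => Nat) (Atab_s_39_59 c) (Atab_s_59_79 c) (Nat.ble 59 c)
noncomputable def Atab_s_0_79 (c : Nat) : Nat := @Bool.rec (fun _ => Nat) (Atab_s_0_39 c) (Atab_s_39_79 c) (Nat.ble 39 c)
noncomputable def Atab_s_79_81 (c : Nat) : Nat := @Bool.rec (fun _ => Nat) (Atab_79) (Atab_80) (Nat.ble 80 c)
noncomputable def Atab_s_81_83 (c : Nat) : Nat := @Bool.rec (fun _ => Nat) (Atab_81) (Atab_82) (Nat.ble 82 c)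
noncomputable def Atab_s_79_83 (c : Nat) : Nat := @Bool.rec (fun _ => Nat) (Atab_s_79_81 c) (Atab_s_81_83 c) (Nat.ble 81 c)
noncomputable def Atab_s_83_85 (c : Nat) : Nat := @Bool.rec (fun _ => Nat) (Atab_83) (Atab_84) (Nat.ble 84 c)
noncomputable def Atab_s_86_88 (c : Nat) : Nat := @Bool.rec (fun _ => Nat) (Atab_86) (Atab_87) (Nat.ble 87 c)
noncomputable def Atab_s_85_88 (c : Nat) : Nat := @Bool.rec (fun _ => Nat) (Atab_85) (Atab_s_86_88 c) (Nat.ble 86 c)
noncomputable def Atab_s_83_88 (c : Nat) : Nat := @Bool.rec (fun _ => Nat) (Atab_s_83_85 c) (Atab_s_85_88 c) (Nat.ble 85 c)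
noncomputable def Atab_s_79_88 (c : Nat) : Nat := @Bool.rec (fun _ => Nat) (Atab_s_79_83 c) (Atab_s_83_88 c) (Nat.ble 83 c)
noncomputable def Atab_s_88_90 (c : Nat) : Nat := @Bool.rec (fun _ => Nat) (Atab_88) (Atab_89) (Nat.ble 89 c)
noncomputable def Atab_s_91_93 (c : Nat) : Nat := @Bool.rec (fun _ => Nat) (Atab_91) (Atab_92) (Nat.ble 92 c)
noncomputable def Atab_s_90_93 (c : Nat) : Nat := @Bool.rec (fun _ => Nat) (Atab_90) (Atab_s_91_93 c) (Nat.ble 91 c)
noncomputable def Atab_s_88_93 (c : Nat) : Nat := @Bool.rec (fun _ => Nat) (Atab_s_88_90 c) (Atab_s_90_93 c) (Nat.ble 90 c)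
noncomputable def Atab_s_93_95 (c : Nat) : Nat := @Bool.rec (fun _ => Nat) (Atab_93) (Atab_94) (Nat.ble 94 c)
noncomputable def Atab_s_96_98 (c : Nat) : Nat := @Bool.rec (fun _ => Nat) (Atab_96) (Atab_97) (Nat.ble 97 c)
noncomputable def Atab_s_95_98 (c : Nat) : Nat := @Bool.rec (fun _ => Nat) (Atab_95) (Atab_s_96_98 c) (Nat.ble 96 c)
noncomputable def Atab_s_93_98 (c : Nat) : Nat := @Bool.rec (fun _ => Nat) (Atab_s_93_95 c) (Atab_s_95_98 c) (Nat.ble 95 c)
noncomputable def Atab_s_88_98 (c : Nat) : Nat := @Bool.rec (fun _ => Nat) (Atab_s_88_93 c) (Atab_s_93_98 c) (Nat.ble 93 c)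
noncomputable def Atab_s_79_98 (c : Nat) : Nat := @Bool.rec (fun _ => Nat) (Atab_s_79_88 c) (Atab_s_88_98 c) (Nat.ble 88 c)
noncomputable def Atab_s_98_100 (c : Nat) : Nat := @Bool.rec (fun _ => Nat) (Atab_98) (Atab_99) (Nat.ble 99 c)
noncomputable def Atab_s_101_103 (c : Nat) : Nat := @Bool.rec (fun _ => Nat) (Atab_101) (Atab_102) (Nat.ble 102 c)
noncomputable def Atab_s_100_103 (c : Nat) : Nat := @Bool.rec (fun _ => Nat) (Atab_100) (Atab_s_101_103 c) (Nat.ble 101 c)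
noncomputable def Atab_s_98_103 (c : Nat) : Nat := @Bool.rec (fun _ => Nat) (Atab_s_98_100 c) (Atab_s_100_103 c) (Nat.ble 100 c)
noncomputable def Atab_s_103_105 (c : Nat) : Nat := @Bool.rec (fun _ => Nat) (Atab_103) (Atab_104) (Nat.ble 104 c)
noncomputable def Atab_s_106_108 (c : Nat) : Nat := @Bool.rec (fun _ => Nat) (Atab_106) (Atab_107) (Nat.ble 107 c)
noncomputable def Atab_s_105_108 (c : Nat) : Nat := @Bool.rec (fun _ => Nat) (Atab_105) (Atab_s_106_108 c) (Nat.ble 106 c)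
noncomputable def Atab_s_103_108 (c : Nat) : Nat := @Bool.rec (fun _ => Nat) (Atab_s_103_105 c) (Atab_s_105_108 c) (Nat.ble 105 c)
noncomputable def Atab_s_98_108 (c : Nat) : Nat := @Bool.rec (fun _ => Nat) (Atab_s_98_103 c) (Atab_s_103_108 c) (Nat.ble 103 c)
noncomputable def Atab_s_108_110 (c : Nat) : Nat := @Bool.rec (fun _ => Nat) (Atab_108) (Atab_109) (Nat.ble 109 c)
noncomputable def Atab_s_111_113 (c : Nat) : Nat := @Bool.rec (fun _ => Nat) (Atab_111) (Atab_112) (Nat.ble 112 c)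
noncomputable def Atab_s_110_113 (c : Nat) : Nat := @Bool.rec (fun _ => Nat) (Atab_110) (Atab_s_111_113 c) (Nat.ble 111 c)
noncomputable def Atab_s_108_113 (c : Nat) : Nat := @Bool.rec (fun _ => Nat) (Atab_s_108_110 c) (Atab_s_110_113 c) (Nat.ble 110 c)
noncomputable def Atab_s_113_115 (c : Nat) : Nat := @Bool.rec (fun _ => Nat) (Atab_113) (Atab_114) (Nat.ble 114 c)
noncomputable def Atab_s_116_118 (c : Nat) : Nat := @Bool.rec (fun _ => Nat) (Atab_116) (Atab_117) (Nat.ble 117 c)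
noncomputable def Atab_s_115_118 (c : Nat) : Nat := @Bool.rec (fun _ => Nat) (Atab_115) (Atab_s_116_118 c) (Nat.ble 116 c)
noncomputable def Atab_s_113_118 (c : Nat) : Nat := @Bool.rec (fun _ => Nat) (Atab_s_113_115 c) (Atab_s_115_118 c) (Nat.ble 115 c)
noncomputable def Atab_s_108_118 (c : Nat) : Nat := @Bool.rec (fun _ => Nat) (Atab_s_108_113 c) (Atab_s_113_118 c) (Nat.ble 113 c)
noncomputable def Atab_s_98_118 (c : Nat) : Nat := @Bool.rec (fun _ => Nat) (Atab_s_98_108 c) (Atab_s_108_118 c) (Nat.ble 108 c)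
noncomputable def Atab_s_79_118 (c : Nat) : Nat := @Bool.rec (fun _ => Nat) (Atab_s_79_98 c) (Atab_s_98_118 c) (Nat.ble 98 c)
noncomputable def Atab_s_118_120 (c : Nat) : Nat := @Bool.rec (fun _ => Nat) (Atab_118) (Atab_119) (Nat.ble 119 c)
noncomputable def Atab_s_121_123 (c : Nat) : Nat := @Bool.rec (fun _ => Nat) (Atab_121) (Atab_122) (Nat.ble 122 c)
noncomputable def Atab_s_120_123 (c : Nat) : Nat := @Bool.rec (fun _ => Nat) (Atab_120) (Atab_s_121_123 c) (Nat.ble 121 c)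
noncomputable def Atab_s_118_123 (c : Nat) : Nat := @Bool.rec (fun _ => Nat) (Atab_s_118_120 c) (Atab_s_120_123 c) (Nat.ble 120 c)
noncomputable def Atab_s_123_125 (c : Nat) : Nat := @Bool.rec (fun _ => Nat) (Atab_123) (Atab_124) (Nat.ble 124 c)
noncomputable def Atab_s_126_128 (c : Nat) : Nat := @Bool.rec (fun _ => Nat) (Atab_126) (Atab_127) (Nat.ble 127 c)
noncomputable def Atab_s_125_128 (c : Nat) : Nat := @Bool.rec (fun _ => Nat) (Atab_125) (Atab_s_126_128 c) (Nat.ble 126 c)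
noncomputable def Atab_s_123_128 (c : Nat) : Nat := @Bool.rec (fun _ => Nat) (Atab_s_123_125 c) (Atab_s_125_128 c) (Nat.ble 125 c)
noncomputable def Atab_s_118_128 (c : Nat) : Nat := @Bool.rec (fun _ => Nat) (Atab_s_118_123 c) (Atab_s_123_128 c) (Nat.ble 123 c)
noncomputable def Atab_s_128_130 (c : Nat) : Nat := @Bool.rec (fun _ => Nat) (Atab_128) (Atab_129) (Nat.ble 129 c)
noncomputable def Atab_s_131_133 (c : Nat) : Nat := @Bool.rec (fun _ => Nat) (Atab_131) (Atab_132) (Nat.ble 132 c)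
noncomputable def Atab_s_130_133 (c : Nat) : Nat := @Bool.rec (fun _ => Nat) (Atab_130) (Atab_s_131_133 c) (Nat.ble 131 c)
noncomputable def Atab_s_128_133 (c : Nat) : Nat := @Bool.rec (fun _ => Nat) (Atab_s_128_130 c) (Atab_s_130_133 c) (Nat.ble 130 c)
noncomputable def Atab_s_133_135 (c : Nat) : Nat := @Bool.rec (fun _ => Nat) (Atab_133) (Atab_134) (Nat.ble 134 c)
noncomputable def Atab_s_136_138 (c : Nat) : Nat := @Bool.rec (fun _ => Nat) (Atab_136) (Atab_137) (Nat.ble 137 c)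
noncomputable def Atab_s_135_138 (c : Nat) : Nat := @Bool.rec (fun _ => Nat) (Atab_135) (Atab_s_136_138 c) (Nat.ble 136 c)
noncomputable def Atab_s_133_138 (c : Nat) : Nat := @Bool.rec (fun _ => Nat) (Atab_s_133_135 c) (Atab_s_135_138 c) (Nat.ble 135 c)
noncomputable def Atab_s_128_138 (c : Nat) : Nat := @Bool.rec (fun _ => Nat) (Atab_s_128_133 c) (Atab_s_133_138 c) (Nat.ble 133 c)
noncomputable def Atab_s_118_138 (c : Nat) : Nat := @Bool.rec (fun _ => Nat) (Atab_s_118_128 c) (Atab_s_128_138 c) (Nat.ble 128 c)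
noncomputable def Atab_s_138_140 (c : Nat) : Nat := @Bool.rec (fun _ => Nat) (Atab_138) (Atab_139) (Nat.ble 139 c)
noncomputable def Atab_s_141_143 (c : Nat) : Nat := @Bool.rec (fun _ => Nat) (Atab_141) (Atab_142) (Nat.ble 142 c)
noncomputable def Atab_s_140_143 (c : Nat) : Nat := @Bool.rec (fun _ => Nat) (Atab_140) (Atab_s_141_143 c) (Nat.ble 141 c)
noncomputable def Atab_s_138_143 (c : Nat) : Nat := @Bool.rec (fun _ => Nat) (Atab_s_138_140 c) (Atab_s_140_143 c) (Nat.ble 140 c)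
noncomputable def Atab_s_143_145 (c : Nat) : Nat := @Bool.rec (fun _ => Nat) (Atab_143) (Atab_144) (Nat.ble 144 c)
noncomputable def Atab_s_146_148 (c : Nat) : Nat := @Bool.rec (fun _ => Nat) (Atab_146) (Atab_147) (Nat.ble 147 c)
noncomputable def Atab_s_145_148 (c : Nat) : Nat := @Bool.rec (fun _ => Nat) (Atab_145) (Atab_s_146_148 c) (Nat.ble 146 c)
noncomputable def Atab_s_143_148 (c : Nat) : Nat := @Bool.rec (fun _ => Nat) (Atab_s_143_145 c) (Atab_s_145_148 c) (Nat.ble 145 c)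
noncomputable def Atab_s_138_148 (c : Nat) : Nat := @Bool.rec (fun _ => Nat) (Atab_s_138_143 c) (Atab_s_143_148 c) (Nat.ble 143 c)
noncomputable def Atab_s_148_150 (c : Nat) : Nat := @Bool.rec (fun _ => Nat) (Atab_148) (Atab_149) (Nat.ble 149 c)
noncomputable def Atab_s_151_153 (c : Nat) : Nat := @Bool.rec (fun _ => Nat) (Atab_151) (Atab_152) (Nat.ble 152 c)
noncomputable def Atab_s_150_153 (c : Nat) : Nat := @Bool.rec (fun _ => Nat) (Atab_150) (Atab_s_151_153 c) (Nat.ble 151 c)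
noncomputable def Atab_s_148_153 (c : Nat) : Nat := @Bool.rec (fun _ => Nat) (Atab_s_148_150 c) (Atab_s_150_153 c) (Nat.ble 150 c)
noncomputable def Atab_s_153_155 (c : Nat) : Nat := @Bool.rec (fun _ => Nat) (Atab_153) (Atab_154) (Nat.ble 154 c)
noncomputable def Atab_s_156_158 (c : Nat) : Nat := @Bool.rec (fun _ => Nat) (Atab_156) (Atab_157) (Nat.ble 157 c)
noncomputable def Atab_s_155_158 (c : Nat) : Nat := @Bool.rec (fun _ => Nat) (Atab_155) (Atab_s_156_158 c) (Nat.ble 156 c)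
noncomputable def Atab_s_153_158 (c : Nat) : Nat := @Bool.rec (fun _ => Nat) (Atab_s_153_155 c) (Atab_s_155_158 c) (Nat.ble 155 c)
noncomputable def Atab_s_148_158 (c : Nat) : Nat := @Bool.rec (fun _ => Nat) (Atab_s_148_153 c) (Atab_s_153_158 c) (Nat.ble 153 c)
noncomputable def Atab_s_138_158 (c : Nat) : Nat := @Bool.rec (fun _ => Nat) (Atab_s_138_148 c) (Atab_s_148_158 c) (Nat.ble 148 c)
noncomputable def Atab_s_118_158 (c : Nat) : Nat := @Bool.rec (fun _ => Nat) (Atab_s_118_138 c) (Atab_s_138_158 c) (Nat.ble 138 c)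
noncomputable def Atab_s_79_158 (c : Nat) : Nat := @Bool.rec (fun _ => Nat) (Atab_s_79_118 c) (Atab_s_118_158 c) (Nat.ble 118 c)
noncomputable def Atab_s_0_158 (c : Nat) : Nat := @Bool.rec (fun _ => Nat) (Atab_s_0_79 c) (Atab_s_79_158 c) (Nat.ble 79 c)
noncomputable def Atab_s_158_160 (c : Nat) : Nat := @Bool.rec (fun _ => Nat) (Atab_158) (Atab_159) (Nat.ble 159 c)
noncomputable def Atab_s_160_162 (c : Nat) : Nat := @Bool.rec (fun _ => Nat) (Atab_160) (Atab_161) (Nat.ble 161 c)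
noncomputable def Atab_s_158_162 (c : Nat) : Nat := @Bool.rec (fun _ => Nat) (Atab_s_158_160 c) (Atab_s_160_162 c) (Nat.ble 160 c)
noncomputable def Atab_s_162_164 (c : Nat) : Nat := @Bool.rec (fun _ => Nat) (Atab_162) (Atab_163) (Nat.ble 163 c)
noncomputable def Atab_s_165_167 (c : Nat) : Nat := @Bool.rec (fun _ => Nat) (Atab_165) (Atab_166) (Nat.ble 166 c)
noncomputable def Atab_s_164_167 (c : Nat) : Nat := @Bool.rec (fun _ => Nat) (Atab_164) (Atab_s_165_167 c) (Nat.ble 165 c)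
noncomputable def Atab_s_162_167 (c : Nat) : Nat := @Bool.rec (fun _ => Nat) (Atab_s_162_164 c) (Atab_s_164_167 c) (Nat.ble 164 c)
noncomputable def Atab_s_158_167 (c : Nat) : Nat := @Bool.rec (fun _ => Nat) (Atab_s_158_162 c) (Atab_s_162_167 c) (Nat.ble 162 c)
noncomputable def Atab_s_167_169 (c : Nat) : Nat := @Bool.rec (fun _ => Nat) (Atab_167) (Atab_168) (Nat.ble 168 c)
noncomputable def Atab_s_170_172 (c : Nat) : Nat := @Bool.rec (fun _ => Nat) (Atab_170) (Atab_171) (Nat.ble 171 c)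
noncomputable def Atab_s_169_172 (c : Nat) : Nat := @Bool.rec (fun _ => Nat) (Atab_169) (Atab_s_170_172 c) (Nat.ble 170 c)
noncomputable def Atab_s_167_172 (c : Nat) : Nat := @Bool.rec (fun _ => Nat) (Atab_s_167_169 c) (Atab_s_169_172 c) (Nat.ble 169 c)
noncomputable def Atab_s_172_174 (c : Nat) : Nat := @Bool.rec (fun _ => Nat) (Atab_172) (Atab_173) (Nat.ble 173 c)
noncomputable def Atab_s_175_177 (c : Nat) : Nat := @Bool.rec (fun _ => Nat) (Atab_175) (Atab_176) (Nat.ble 176 c)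
noncomputable def Atab_s_174_177 (c : Nat) : Nat := @Bool.rec (fun _ => Nat) (Atab_174) (Atab_s_175_177 c) (Nat.ble 175 c)
noncomputable def Atab_s_172_177 (c : Nat) : Nat := @Bool.rec (fun _ => Nat) (Atab_s_172_174 c) (Atab_s_174_177 c) (Nat.ble 174 c)
noncomputable def Atab_s_167_177 (c : Nat) : Nat := @Bool.rec (fun _ => Nat) (Atab_s_167_172 c) (Atab_s_172_177 c) (Nat.ble 172 c)
noncomputable def Atab_s_158_177 (c : Nat) : Nat := @Bool.rec (fun _ => Nat) (Atab_s_158_167 c) (Atab_s_167_177 c) (Nat.ble 167 c)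
noncomputable def Atab_s_177_179 (c : Nat) : Nat := @Bool.rec (fun _ => Nat) (Atab_177) (Atab_178) (Nat.ble 178 c)
noncomputable def Atab_s_180_182 (c : Nat) : Nat := @Bool.rec (fun _ => Nat) (Atab_180) (Atab_181) (Nat.ble 181 c)
noncomputable def Atab_s_179_182 (c : Nat) : Nat := @Bool.rec (fun _ => Nat) (Atab_179) (Atab_s_180_182 c) (Nat.ble 180 c)
noncomputable def Atab_s_177_182 (c : Nat) : Nat := @Bool.rec (fun _ => Nat) (Atab_s_177_179 c) (Atab_s_179_182 c) (Nat.ble 179 c)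
noncomputable def Atab_s_182_184 (c : Nat) : Nat := @Bool.rec (fun _ => Nat) (Atab_182) (Atab_183) (Nat.ble 183 c)
noncomputable def Atab_s_185_187 (c : Nat) : Nat := @Bool.rec (fun _ => Nat) (Atab_185) (Atab_186) (Nat.ble 186 c)
noncomputable def Atab_s_184_187 (c : Nat) : Nat := @Bool.rec (fun _ => Nat) (Atab_184) (Atab_s_185_187 c) (Nat.ble 185 c)
noncomputable def Atab_s_182_187 (c : Nat) : Nat := @Bool.rec (fun _ => Nat) (Atab_s_182_184 c) (Atab_s_184_187 c) (Nat.ble 184 c)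
noncomputable def Atab_s_177_187 (c : Nat) : Nat := @Bool.rec (fun _ => Nat) (Atab_s_177_182 c) (Atab_s_182_187 c) (Nat.ble 182 c)
noncomputable def Atab_s_187_189 (c : Nat) : Nat := @Bool.rec (fun _ => Nat) (Atab_187) (Atab_188) (Nat.ble 188 c)
noncomputable def Atab_s_190_192 (c : Nat) : Nat := @Bool.rec (fun _ => Nat) (Atab_190) (Atab_191) (Nat.ble 191 c)
noncomputable def Atab_s_189_192 (c : Nat) : Nat := @Bool.rec (fun _ => Nat) (Atab_189) (Atab_s_190_192 c) (Nat.ble 190 c)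
noncomputable def Atab_s_187_192 (c : Nat) : Nat := @Bool.rec (fun _ => Nat) (Atab_s_187_189 c) (Atab_s_189_192 c) (Nat.ble 189 c)
noncomputable def Atab_s_192_194 (c : Nat) : Nat := @Bool.rec (fun _ => Nat) (Atab_192) (Atab_193) (Nat.ble 193 c)
noncomputable def Atab_s_195_197 (c : Nat) : Nat := @Bool.rec (fun _ => Nat) (Atab_195) (Atab_196) (Nat.ble 196 c)
noncomputable def Atab_s_194_197 (c : Nat) : Nat := @Bool.rec (fun _ => Nat) (Atab_194) (Atab_s_195_197 c) (Nat.ble 195 c)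
noncomputable def Atab_s_192_197 (c : Nat) : Nat := @Bool.rec (fun _ => Nat) (Atab_s_192_194 c) (Atab_s_194_197 c) (Nat.ble 194 c)
noncomputable def Atab_s_187_197 (c : Nat) : Nat := @Bool.rec (fun _ => Nat) (Atab_s_187_192 c) (Atab_s_192_197 c) (Nat.ble 192 c)
noncomputable def Atab_s_177_197 (c : Nat) : Nat := @Bool.rec (fun _ => Nat) (Atab_s_177_187 c) (Atab_s_187_197 c) (Nat.ble 187 c)
noncomputable def Atab_s_158_197 (c : Nat) : Nat := @Bool.rec (fun _ => Nat) (Atab_s_158_177 c) (Atab_s_177_197 c) (Nat.ble 177 c)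
noncomputable def Atab_s_197_199 (c : Nat) : Nat := @Bool.rec (fun _ => Nat) (Atab_197) (Atab_198) (Nat.ble 198 c)
noncomputable def Atab_s_200_202 (c : Nat) : Nat := @Bool.rec (fun _ => Nat) (Atab_200) (Atab_201) (Nat.ble 201 c)
noncomputable def Atab_s_199_202 (c : Nat) : Nat := @Bool.rec (fun _ => Nat) (Atab_199) (Atab_s_200_202 c) (Nat.ble 200 c)
noncomputable def Atab_s_197_202 (c : Nat) : Nat := @Bool.rec (fun _ => Nat) (Atab_s_197_199 c) (Atab_s_199_202 c) (Nat.ble 199 c)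
noncomputable def Atab_s_202_204 (c : Nat) : Nat := @Bool.rec (fun _ => Nat) (Atab_202) (Atab_203) (Nat.ble 203 c)
noncomputable def Atab_s_205_207 (c : Nat) : Nat := @Bool.rec (fun _ => Nat) (Atab_205) (Atab_206) (Nat.ble 206 c)
noncomputable def Atab_s_204_207 (c : Nat) : Nat := @Bool.rec (fun _ => Nat) (Atab_204) (Atab_s_205_207 c) (Nat.ble 205 c)
noncomputable def Atab_s_202_207 (c : Nat) : Nat := @Bool.rec (fun _ => Nat) (Atab_s_202_204 c) (Atab_s_204_207 c) (Nat.ble 204 c)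
noncomputable def Atab_s_197_207 (c : Nat) : Nat := @Bool.rec (fun _ => Nat) (Atab_s_197_202 c) (Atab_s_202_207 c) (Nat.ble 202 c)
noncomputable def Atab_s_207_209 (c : Nat) : Nat := @Bool.rec (fun _ => Nat) (Atab_207) (Atab_208) (Nat.ble 208 c)
noncomputable def Atab_s_210_212 (c : Nat) : Nat := @Bool.rec (fun _ => Nat) (Atab_210) (Atab_211) (Nat.ble 211 c)
noncomputable def Atab_s_209_212 (c : Nat) : Nat := @Bool.rec (fun _ => Nat) (Atab_209) (Atab_s_210_212 c) (Nat.ble 210 c)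
noncomputable def Atab_s_207_212 (c : Nat) : Nat := @Bool.rec (fun _ => Nat) (Atab_s_207_209 c) (Atab_s_209_212 c) (Nat.ble 209 c)
noncomputable def Atab_s_212_214 (c : Nat) : Nat := @Bool.rec (fun _ => Nat) (Atab_212) (Atab_213) (Nat.ble 213 c)
noncomputable def Atab_s_215_217 (c : Nat) : Nat := @Bool.rec (fun _ => Nat) (Atab_215) (Atab_216) (Nat.ble 216 c)
noncomputable def Atab_s_214_217 (c : Nat) : Nat := @Bool.rec (fun _ => Nat) (Atab_214) (Atab_s_215_217 c) (Nat.ble 215 c)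
noncomputable def Atab_s_212_217 (c : Nat) : Nat := @Bool.rec (fun _ => Nat) (Atab_s_212_214 c) (Atab_s_214_217 c) (Nat.ble 214 c)
noncomputable def Atab_s_207_217 (c : Nat) : Nat := @Bool.rec (fun _ => Nat) (Atab_s_207_212 c) (Atab_s_212_217 c) (Nat.ble 212 c)
noncomputable def Atab_s_197_217 (c : Nat) : Nat := @Bool.rec (fun _ => Nat) (Atab_s_197_207 c) (Atab_s_207_217 c) (Nat.ble 207 c)
noncomputable def Atab_s_217_219 (c : Nat) : Nat := @Bool.rec (fun _ => Nat) (Atab_217) (Atab_218) (Nat.ble 218 c)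
noncomputable def Atab_s_220_222 (c : Nat) : Nat := @Bool.rec (fun _ => Nat) (Atab_220) (Atab_221) (Nat.ble 221 c)
noncomputable def Atab_s_219_222 (c : Nat) : Nat := @Bool.rec (fun _ => Nat) (Atab_219) (Atab_s_220_222 c) (Nat.ble 220 c)
noncomputable def Atab_s_217_222 (c : Nat) : Nat := @Bool.rec (fun _ => Nat) (Atab_s_217_219 c) (Atab_s_219_222 c) (Nat.ble 219 c)
noncomputable def Atab_s_222_224 (c : Nat) : Nat := @Bool.rec (fun _ => Nat) (Atab_222) (Atab_223) (Nat.ble 223 c)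
noncomputable def Atab_s_225_227 (c : Nat) : Nat := @Bool.rec (fun _ => Nat) (Atab_225) (Atab_226) (Nat.ble 226 c)
noncomputable def Atab_s_224_227 (c : Nat) : Nat := @Bool.rec (fun _ => Nat) (Atab_224) (Atab_s_225_227 c) (Nat.ble 225 c)
noncomputable def Atab_s_222_227 (c : Nat) : Nat := @Bool.rec (fun _ => Nat) (Atab_s_222_224 c) (Atab_s_224_227 c) (Nat.ble 224 c)
noncomputable def Atab_s_217_227 (c : Nat) : Nat := @Bool.rec (fun _ => Nat) (Atab_s_217_222 c) (Atab_s_222_227 c) (Nat.ble 222 c)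
noncomputable def Atab_s_227_229 (c : Nat) : Nat := @Bool.rec (fun _ => Nat) (Atab_227) (Atab_228) (Nat.ble 228 c)
noncomputable def Atab_s_230_232 (c : Nat) : Nat := @Bool.rec (fun _ => Nat) (Atab_230) (Atab_231) (Nat.ble 231 c)
noncomputable def Atab_s_229_232 (c : Nat) : Nat := @Bool.rec (fun _ => Nat) (Atab_229) (Atab_s_230_232 c) (Nat.ble 230 c)
noncomputable def Atab_s_227_232 (c : Nat) : Nat := @Bool.rec (fun _ => Nat) (Atab_s_227_229 c) (Atab_s_229_232 c) (Nat.ble 229 c)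
noncomputable def Atab_s_232_234 (c : Nat) : Nat := @Bool.rec (fun _ => Nat) (Atab_232) (Atab_233) (Nat.ble 233 c)
noncomputable def Atab_s_235_237 (c : Nat) : Nat := @Bool.rec (fun _ => Nat) (Atab_235) (Atab_236) (Nat.ble 236 c)
noncomputable def Atab_s_234_237 (c : Nat) : Nat := @Bool.rec (fun _ => Nat) (Atab_234) (Atab_s_235_237 c) (Nat.ble 235 c)
noncomputable def Atab_s_232_237 (c : Nat) : Nat := @Bool.rec (fun _ => Nat) (Atab_s_232_234 c) (Atab_s_234_237 c) (Nat.ble 234 c)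
noncomputable def Atab_s_227_237 (c : Nat) : Nat := @Bool.rec (fun _ => Nat) (Atab_s_227_232 c) (Atab_s_232_237 c) (Nat.ble 232 c)
noncomputable def Atab_s_217_237 (c : Nat) : Nat := @Bool.rec (fun _ => Nat) (Atab_s_217_227 c) (Atab_s_227_237 c) (Nat.ble 227 c)
noncomputable def Atab_s_197_237 (c : Nat) : Nat := @Bool.rec (fun _ => Nat) (Atab_s_197_217 c) (Atab_s_217_237 c) (Nat.ble 217 c)
noncomputable def Atab_s_158_237 (c : Nat) : Nat := @Bool.rec (fun _ => Nat) (Atab_s_158_197 c) (Atab_s_197_237 c) (Nat.ble 197 c)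
noncomputable def Atab_s_237_239 (c : Nat) : Nat := @Bool.rec (fun _ => Nat) (Atab_237) (Atab_238) (Nat.ble 238 c)
noncomputable def Atab_s_239_241 (c : Nat) : Nat := @Bool.rec (fun _ => Nat) (Atab_239) (Atab_240) (Nat.ble 240 c)
noncomputable def Atab_s_237_241 (c : Nat) : Nat := @Bool.rec (fun _ => Nat) (Atab_s_237_239 c) (Atab_s_239_241 c) (Nat.ble 239 c)
noncomputable def Atab_s_241_243 (c : Nat) : Nat := @Bool.rec (fun _ => Nat) (Atab_241) (Atab_242) (Nat.ble 242 c)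
noncomputable def Atab_s_244_246 (c : Nat) : Nat := @Bool.rec (fun _ => Nat) (Atab_244) (Atab_245) (Nat.ble 245 c)
noncomputable def Atab_s_243_246 (c : Nat) : Nat := @Bool.rec (fun _ => Nat) (Atab_243) (Atab_s_244_246 c) (Nat.ble 244 c)
noncomputable def Atab_s_241_246 (c : Nat) : Nat := @Bool.rec (fun _ => Nat) (Atab_s_241_243 c) (Atab_s_243_246 c) (Nat.ble 243 c)
noncomputable def Atab_s_237_246 (c : Nat) : Nat := @Bool.rec (fun _ => Nat) (Atab_s_237_241 c) (Atab_s_241_246 c) (Nat.ble 241 c)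
noncomputable def Atab_s_246_248 (c : Nat) : Nat := @Bool.rec (fun _ => Nat) (Atab_246) (Atab_247) (Nat.ble 247 c)
noncomputable def Atab_s_249_251 (c : Nat) : Nat := @Bool.rec (fun _ => Nat) (Atab_249) (Atab_250) (Nat.ble 250 c)
noncomputable def Atab_s_248_251 (c : Nat) : Nat := @Bool.rec (fun _ => Nat) (Atab_248) (Atab_s_249_251 c) (Nat.ble 249 c)
noncomputable def Atab_s_246_251 (c : Nat) : Nat := @Bool.rec (fun _ => Nat) (Atab_s_246_248 c) (Atab_s_248_251 c) (Nat.ble 248 c)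
noncomputable def Atab_s_251_253 (c : Nat) : Nat := @Bool.rec (fun _ => Nat) (Atab_251) (Atab_252) (Nat.ble 252 c)
noncomputable def Atab_s_254_256 (c : Nat) : Nat := @Bool.rec (fun _ => Nat) (Atab_254) (Atab_255) (Nat.ble 255 c)
noncomputable def Atab_s_253_256 (c : Nat) : Nat := @Bool.rec (fun _ => Nat) (Atab_253) (Atab_s_254_256 c) (Nat.ble 254 c)
noncomputable def Atab_s_251_256 (c : Nat) : Nat := @Bool.rec (fun _ => Nat) (Atab_s_251_253 c) (Atab_s_253_256 c) (Nat.ble 253 c)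
noncomputable def Atab_s_246_256 (c : Nat) : Nat := @Bool.rec (fun _ => Nat) (Atab_s_246_251 c) (Atab_s_251_256 c) (Nat.ble 251 c)
noncomputable def Atab_s_237_256 (c : Nat) : Nat := @Bool.rec (fun _ => Nat) (Atab_s_237_246 c) (Atab_s_246_256 c) (Nat.ble 246 c)
noncomputable def Atab_s_256_258 (c : Nat) : Nat := @Bool.rec (fun _ => Nat) (Atab_256) (Atab_257) (Nat.ble 257 c)
noncomputable def Atab_s_259_261 (c : Nat) : Nat := @Bool.rec (fun _ => Nat) (Atab_259) (Atab_260) (Nat.ble 260 c)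
noncomputable def Atab_s_258_261 (c : Nat) : Nat := @Bool.rec (fun _ => Nat) (Atab_258) (Atab_s_259_261 c) (Nat.ble 259 c)
noncomputable def Atab_s_256_261 (c : Nat) : Nat := @Bool.rec (fun _ => Nat) (Atab_s_256_258 c) (Atab_s_258_261 c) (Nat.ble 258 c)
noncomputable def Atab_s_261_263 (c : Nat) : Nat := @Bool.rec (fun _ => Nat) (Atab_261) (Atab_262) (Nat.ble 262 c)
noncomputable def Atab_s_264_266 (c : Nat) : Nat := @Bool.rec (fun _ => Nat) (Atab_264) (Atab_265) (Nat.ble 265 c)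
noncomputable def Atab_s_263_266 (c : Nat) : Nat := @Bool.rec (fun _ => Nat) (Atab_263) (Atab_s_264_266 c) (Nat.ble 264 c)
noncomputable def Atab_s_261_266 (c : Nat) : Nat := @Bool.rec (fun _ => Nat) (Atab_s_261_263 c) (Atab_s_263_266 c) (Nat.ble 263 c)
noncomputable def Atab_s_256_266 (c : Nat) : Nat := @Bool.rec (fun _ => Nat) (Atab_s_256_261 c) (Atab_s_261_266 c) (Nat.ble 261 c)
noncomputable def Atab_s_266_268 (c : Nat) : Nat := @Bool.rec (fun _ => Nat) (Atab_266) (Atab_267) (Nat.ble 267 c)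
noncomputable def Atab_s_269_271 (c : Nat) : Nat := @Bool.rec (fun _ => Nat) (Atab_269) (Atab_270) (Nat.ble 270 c)
noncomputable def Atab_s_268_271 (c : Nat) : Nat := @Bool.rec (fun _ => Nat) (Atab_268) (Atab_s_269_271 c) (Nat.ble 269 c)
noncomputable def Atab_s_266_271 (c : Nat) : Nat := @Bool.rec (fun _ => Nat) (Atab_s_266_268 c) (Atab_s_268_271 c) (Nat.ble 268 c)
noncomputable def Atab_s_271_273 (c : Nat) : Nat := @Bool.rec (fun _ => Nat) (Atab_271) (Atab_272) (Nat.ble 272 c)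
noncomputable def Atab_s_274_276 (c : Nat) : Nat := @Bool.rec (fun _ => Nat) (Atab_274) (Atab_275) (Nat.ble 275 c)
noncomputable def Atab_s_273_276 (c : Nat) : Nat := @Bool.rec (fun _ => Nat) (Atab_273) (Atab_s_274_276 c) (Nat.ble 274 c)
noncomputable def Atab_s_271_276 (c : Nat) : Nat := @Bool.rec (fun _ => Nat) (Atab_s_271_273 c) (Atab_s_273_276 c) (Nat.ble 273 c)
noncomputable def Atab_s_266_276 (c : Nat) : Nat := @Bool.rec (fun _ => Nat) (Atab_s_266_271 c) (Atab_s_271_276 c) (Nat.ble 271 c)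
noncomputable def Atab_s_256_276 (c : Nat) : Nat := @Bool.rec (fun _ => Nat) (Atab_s_256_266 c) (Atab_s_266_276 c) (Nat.ble 266 c)
noncomputable def Atab_s_237_276 (c : Nat) : Nat := @Bool.rec (fun _ => Nat) (Atab_s_237_256 c) (Atab_s_256_276 c) (Nat.ble 256 c)
noncomputable def Atab_s_276_278 (c : Nat) : Nat := @Bool.rec (fun _ => Nat) (Atab_276) (Atab_277) (Nat.ble 277 c)
noncomputable def Atab_s_279_281 (c : Nat) : Nat := @Bool.rec (fun _ => Nat) (Atab_279) (Atab_280) (Nat.ble 280 c)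
noncomputable def Atab_s_278_281 (c : Nat) : Nat := @Bool.rec (fun _ => Nat) (Atab_278) (Atab_s_279_281 c) (Nat.ble 279 c)
noncomputable def Atab_s_276_281 (c : Nat) : Nat := @Bool.rec (fun _ => Nat) (Atab_s_276_278 c) (Atab_s_278_281 c) (Nat.ble 278 c)
noncomputable def Atab_s_281_283 (c : Nat) : Nat := @Bool.rec (fun _ => Nat) (Atab_281) (Atab_282) (Nat.ble 282 c)
noncomputable def Atab_s_284_286 (c : Nat) : Nat := @Bool.rec (fun _ => Nat) (Atab_284) (Atab_285) (Nat.ble 285 c)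
noncomputable def Atab_s_283_286 (c : Nat) : Nat := @Bool.rec (fun _ => Nat) (Atab_283) (Atab_s_284_286 c) (Nat.ble 284 c)
noncomputable def Atab_s_281_286 (c : Nat) : Nat := @Bool.rec (fun _ => Nat) (Atab_s_281_283 c) (Atab_s_283_286 c) (Nat.ble 283 c)
noncomputable def Atab_s_276_286 (c : Nat) : Nat := @Bool.rec (fun _ => Nat) (Atab_s_276_281 c) (Atab_s_281_286 c) (Nat.ble 281 c)
noncomputable def Atab_s_286_288 (c : Nat) : Nat := @Bool.rec (fun _ => Nat) (Atab_286) (Atab_287) (Nat.ble 287 c)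
noncomputable def Atab_s_289_291 (c : Nat) : Nat := @Bool.rec (fun _ => Nat) (Atab_289) (Atab_290) (Nat.ble 290 c)
noncomputable def Atab_s_288_291 (c : Nat) : Nat := @Bool.rec (fun _ => Nat) (Atab_288) (Atab_s_289_291 c) (Nat.ble 289 c)
noncomputable def Atab_s_286_291 (c : Nat) : Nat := @Bool.rec (fun _ => Nat) (Atab_s_286_288 c) (Atab_s_288_291 c) (Nat.ble 288 c)
noncomputable def Atab_s_291_293 (c : Nat) : Nat := @Bool.rec (fun _ => Nat) (Atab_291) (Atab_292) (Nat.ble 292 c)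
noncomputable def Atab_s_294_296 (c : Nat) : Nat := @Bool.rec (fun _ => Nat) (Atab_294) (Atab_295) (Nat.ble 295 c)
noncomputable def Atab_s_293_296 (c : Nat) : Nat := @Bool.rec (fun _ => Nat) (Atab_293) (Atab_s_294_296 c) (Nat.ble 294 c)
noncomputable def Atab_s_291_296 (c : Nat) : Nat := @Bool.rec (fun _ => Nat) (Atab_s_291_293 c) (Atab_s_293_296 c) (Nat.ble 293 c)
noncomputable def Atab_s_286_296 (c : Nat) : Nat := @Bool.rec (fun _ => Nat) (Atab_s_286_291 c) (Atab_s_291_296 c) (Nat.ble 291 c)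
noncomputable def Atab_s_276_296 (c : Nat) : Nat := @Bool.rec (fun _ => Nat) (Atab_s_276_286 c) (Atab_s_286_296 c) (Nat.ble 286 c)
noncomputable def Atab_s_296_298 (c : Nat) : Nat := @Bool.rec (fun _ => Nat) (Atab_296) (Atab_297) (Nat.ble 297 c)
noncomputable def Atab_s_299_301 (c : Nat) : Nat := @Bool.rec (fun _ => Nat) (Atab_299) (Atab_300) (Nat.ble 300 c)
noncomputable def Atab_s_298_301 (c : Nat) : Nat := @Bool.rec (fun _ => Nat) (Atab_298) (Atab_s_299_301 c) (Nat.ble 299 c)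
noncomputable def Atab_s_296_301 (c : Nat) : Nat := @Bool.rec (fun _ => Nat) (Atab_s_296_298 c) (Atab_s_298_301 c) (Nat.ble 298 c)
noncomputable def Atab_s_301_303 (c : Nat) : Nat := @Bool.rec (fun _ => Nat) (Atab_301) (Atab_302) (Nat.ble 302 c)
noncomputable def Atab_s_304_306 (c : Nat) : Nat := @Bool.rec (fun _ => Nat) (Atab_304) (Atab_305) (Nat.ble 305 c)
noncomputable def Atab_s_303_306 (c : Nat) : Nat := @Bool.rec (fun _ => Nat) (Atab_303) (Atab_s_304_306 c) (Nat.ble 304 c)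
noncomputable def Atab_s_301_306 (c : Nat) : Nat := @Bool.rec (fun _ => Nat) (Atab_s_301_303 c) (Atab_s_303_306 c) (Nat.ble 303 c)
noncomputable def Atab_s_296_306 (c : Nat) : Nat := @Bool.rec (fun _ => Nat) (Atab_s_296_301 c) (Atab_s_301_306 c) (Nat.ble 301 c)
noncomputable def Atab_s_306_308 (c : Nat) : Nat := @Bool.rec (fun _ => Nat) (Atab_306) (Atab_307) (Nat.ble 307 c)
noncomputable def Atab_s_309_311 (c : Nat) : Nat := @Bool.rec (fun _ => Nat) (Atab_309) (Atab_310) (Nat.ble 310 c)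
noncomputable def Atab_s_308_311 (c : Nat) : Nat := @Bool.rec (fun _ => Nat) (Atab_308) (Atab_s_309_311 c) (Nat.ble 309 c)
noncomputable def Atab_s_306_311 (c : Nat) : Nat := @Bool.rec (fun _ => Nat) (Atab_s_306_308 c) (Atab_s_308_311 c) (Nat.ble 308 c)
noncomputable def Atab_s_311_313 (c : Nat) : Nat := @Bool.rec (fun _ => Nat) (Atab_311) (Atab_312) (Nat.ble 312 c)
noncomputable def Atab_s_314_316 (c : Nat) : Nat := @Bool.rec (fun _ => Nat) (Atab_314) (Atab_315) (Nat.ble 315 c)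
noncomputable def Atab_s_313_316 (c : Nat) : Nat := @Bool.rec (fun _ => Nat) (Atab_313) (Atab_s_314_316 c) (Nat.ble 314 c)
noncomputable def Atab_s_311_316 (c : Nat) : Nat := @Bool.rec (fun _ => Nat) (Atab_s_311_313 c) (Atab_s_313_316 c) (Nat.ble 313 c)
noncomputable def Atab_s_306_316 (c : Nat) : Nat := @Bool.rec (fun _ => Nat) (Atab_s_306_311 c) (Atab_s_311_316 c) (Nat.ble 311 c)
noncomputable def Atab_s_296_316 (c : Nat) : Nat := @Bool.rec (fun _ => Nat) (Atab_s_296_306 c) (Atab_s_306_316 c) (Nat.ble 306 c)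
noncomputable def Atab_s_276_316 (c : Nat) : Nat := @Bool.rec (fun _ => Nat) (Atab_s_276_296 c) (Atab_s_296_316 c) (Nat.ble 296 c)
noncomputable def Atab_s_237_316 (c : Nat) : Nat := @Bool.rec (fun _ => Nat) (Atab_s_237_276 c) (Atab_s_276_316 c) (Nat.ble 276 c)
noncomputable def Atab_s_158_316 (c : Nat) : Nat := @Bool.rec (fun _ => Nat) (Atab_s_158_237 c) (Atab_s_237_316 c) (Nat.ble 237 c)
noncomputable def Atab_s_0_316 (c : Nat) : Nat := @Bool.rec (fun _ => Nat) (Atab_s_0_158 c) (Atab_s_158_316 c) (Nat.ble 158 c)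
noncomputable def Atab (i : Nat) : Nat := rdw 40 1099511627775 (Atab_s_0_316 (Nat.shiftRight i 11)) (Nat.land i 2047)
noncomputable def Btab_s_1_3 (c : Nat) : Nat := @Bool.rec (fun _ => Nat) (Btab_1) (Btab_2) (Nat.ble 2 c)
noncomputable def Btab_s_0_3 (c : Nat) : Nat := @Bool.rec (fun _ => Nat) (Btab_0) (Btab_s_1_3 c) (Nat.ble 1 c)
noncomputable def Btab_s_3_5 (c : Nat) : Nat := @Bool.rec (fun _ => Nat) (Btab_3) (Btab_4) (Nat.ble 4 c)
noncomputable def Btab_s_5_7 (c : Nat) : Nat := @Bool.rec (fun _ => Nat) (Btab_5) (Btab_6) (Nat.ble 6 c)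
noncomputable def Btab_s_3_7 (c : Nat) : Nat := @Bool.rec (fun _ => Nat) (Btab_s_3_5 c) (Btab_s_5_7 c) (Nat.ble 5 c)
noncomputable def Btab_s_0_7 (c : Nat) : Nat := @Bool.rec (fun _ => Nat) (Btab_s_0_3 c) (Btab_s_3_7 c) (Nat.ble 3 c)
noncomputable def Btab_s_7_9 (c : Nat) : Nat := @Bool.rec (fun _ => Nat) (Btab_7) (Btab_8) (Nat.ble 8 c)
noncomputable def Btab_s_9_11 (c : Nat) : Nat := @Bool.rec (fun _ => Nat) (Btab_9) (Btab_10) (Nat.ble 10 c)
noncomputable def Btab_s_7_11 (c : Nat) : Nat := @Bool.rec (fun _ => Nat) (Btab_s_7_9 c) (Btab_s_9_11 c) (Nat.ble 9 c)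
noncomputable def Btab_s_11_13 (c : Nat) : Nat := @Bool.rec (fun _ => Nat) (Btab_11) (Btab_12) (Nat.ble 12 c)
noncomputable def Btab_s_13_15 (c : Nat) : Nat := @Bool.rec (fun _ => Nat) (Btab_13) (Btab_14) (Nat.ble 14 c)
noncomputable def Btab_s_11_15 (c : Nat) : Nat := @Bool.rec (fun _ => Nat) (Btab_s_11_13 c) (Btab_s_13_15 c) (Nat.ble 13 c)
noncomputable def Btab_s_7_15 (c : Nat) : Nat := @Bool.rec (fun _ => Nat) (Btab_s_7_11 c) (Btab_s_11_15 c) (Nat.ble 11 c)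
noncomputable def Btab_s_0_15 (c : Nat) : Nat := @Bool.rec (fun _ => Nat) (Btab_s_0_7 c) (Btab_s_7_15 c) (Nat.ble 7 c)
noncomputable def Btab_s_15_17 (c : Nat) : Nat := @Bool.rec (fun _ => Nat) (Btab_15) (Btab_16) (Nat.ble 16 c)
noncomputable def Btab_s_17_19 (c : Nat) : Nat := @Bool.rec (fun _ => Nat) (Btab_17) (Btab_18) (Nat.ble 18 c)
noncomputable def Btab_s_15_19 (c : Nat) : Nat := @Bool.rec (fun _ => Nat) (Btab_s_15_17 c) (Btab_s_17_19 c) (Nat.ble 17 c)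
noncomputable def Btab_s_19_21 (c : Nat) : Nat := @Bool.rec (fun _ => Nat) (Btab_19) (Btab_20) (Nat.ble 20 c)
noncomputable def Btab_s_21_23 (c : Nat) : Nat := @Bool.rec (fun _ => Nat) (Btab_21) (Btab_22) (Nat.ble 22 c)
noncomputable def Btab_s_19_23 (c : Nat) : Nat := @Bool.rec (fun _ => Nat) (Btab_s_19_21 c) (Btab_s_21_23 c) (Nat.ble 21 c)
noncomputable def Btab_s_15_23 (c : Nat) : Nat := @Bool.rec (fun _ => Nat) (Btab_s_15_19 c) (Btab_s_19_23 c) (Nat.ble 19 c)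
noncomputable def Btab_s_23_25 (c : Nat) : Nat := @Bool.rec (fun _ => Nat) (Btab_23) (Btab_24) (Nat.ble 24 c)
noncomputable def Btab_s_25_27 (c : Nat) : Nat := @Bool.rec (fun _ => Nat) (Btab_25) (Btab_26) (Nat.ble 26 c)
noncomputable def Btab_s_23_27 (c : Nat) : Nat := @Bool.rec (fun _ => Nat) (Btab_s_23_25 c) (Btab_s_25_27 c) (Nat.ble 25 c)
noncomputable def Btab_s_27_29 (c : Nat) : Nat := @Bool.rec (fun _ => Nat) (Btab_27) (Btab_28) (Nat.ble 28 c)
noncomputable def Btab_s_29_31 (c : Nat) : Nat := @Bool.rec (fun _ => Nat) (Btab_29) (Btab_30) (Nat.ble 30 c)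
noncomputable def Btab_s_27_31 (c : Nat) : Nat := @Bool.rec (fun _ => Nat) (Btab_s_27_29 c) (Btab_s_29_31 c) (Nat.ble 29 c)
noncomputable def Btab_s_23_31 (c : Nat) : Nat := @Bool.rec (fun _ => Nat) (Btab_s_23_27 c) (Btab_s_27_31 c) (Nat.ble 27 c)
noncomputable def Btab_s_15_31 (c : Nat) : Nat := @Bool.rec (fun _ => Nat) (Btab_s_15_23 c) (Btab_s_23_31 c) (Nat.ble 23 c)
noncomputable def Btab_s_0_31 (c : Nat) : Nat := @Bool.rec (fun _ => Nat) (Btab_s_0_15 c) (Btab_s_15_31 c) (Nat.ble 15 c)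
noncomputable def Btab_s_31_33 (c : Nat) : Nat := @Bool.rec (fun _ => Nat) (Btab_31) (Btab_32) (Nat.ble 32 c)
noncomputable def Btab_s_33_35 (c : Nat) : Nat := @Bool.rec (fun _ => Nat) (Btab_33) (Btab_34) (Nat.ble 34 c)
noncomputable def Btab_s_31_35 (c : Nat) : Nat := @Bool.rec (fun _ => Nat) (Btab_s_31_33 c) (Btab_s_33_35 c) (Nat.ble 33 c)
noncomputable def Btab_s_35_37 (c : Nat) : Nat := @Bool.rec (fun _ => Nat) (Btab_35) (Btab_36) (Nat.ble 36 c)
noncomputable def Btab_s_37_39 (c : Nat) : Nat := @Bool.rec (fun _ => Nat) (Btab_37) (Btab_38) (Nat.ble 38 c)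
noncomputable def Btab_s_35_39 (c : Nat) : Nat := @Bool.rec (fun _ => Nat) (Btab_s_35_37 c) (Btab_s_37_39 c) (Nat.ble 37 c)
noncomputable def Btab_s_31_39 (c : Nat) : Nat := @Bool.rec (fun _ => Nat) (Btab_s_31_35 c) (Btab_s_35_39 c) (Nat.ble 35 c)
noncomputable def Btab_s_39_41 (c : Nat) : Nat := @Bool.rec (fun _ => Nat) (Btab_39) (Btab_40) (Nat.ble 40 c)
noncomputable def Btab_s_41_43 (c : Nat) : Nat := @Bool.rec (fun _ => Nat) (Btab_41) (Btab_42) (Nat.ble 42 c)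
noncomputable def Btab_s_39_43 (c : Nat) : Nat := @Bool.rec (fun _ => Nat) (Btab_s_39_41 c) (Btab_s_41_43 c) (Nat.ble 41 c)
noncomputable def Btab_s_43_45 (c : Nat) : Nat := @Bool.rec (fun _ => Nat) (Btab_43) (Btab_44) (Nat.ble 44 c)
noncomputable def Btab_s_45_47 (c : Nat) : Nat := @Bool.rec (fun _ => Nat) (Btab_45) (Btab_46) (Nat.ble 46 c)
noncomputable def Btab_s_43_47 (c : Nat) : Nat := @Bool.rec (fun _ => Nat) (Btab_s_43_45 c) (Btab_s_45_47 c) (Nat.ble 45 c)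
noncomputable def Btab_s_39_47 (c : Nat) : Nat := @Bool.rec (fun _ => Nat) (Btab_s_39_43 c) (Btab_s_43_47 c) (Nat.ble 43 c)
noncomputable def Btab_s_31_47 (c : Nat) : Nat := @Bool.rec (fun _ => Nat) (Btab_s_31_39 c) (Btab_s_39_47 c) (Nat.ble 39 c)
noncomputable def Btab_s_47_49 (c : Nat) : Nat := @Bool.rec (fun _ => Nat) (Btab_47) (Btab_48) (Nat.ble 48 c)
noncomputable def Btab_s_49_51 (c : Nat) : Nat := @Bool.rec (fun _ => Nat) (Btab_49) (Btab_50) (Nat.ble 50 c)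
noncomputable def Btab_s_47_51 (c : Nat) : Nat := @Bool.rec (fun _ => Nat) (Btab_s_47_49 c) (Btab_s_49_51 c) (Nat.ble 49 c)
noncomputable def Btab_s_51_53 (c : Nat) : Nat := @Bool.rec (fun _ => Nat) (Btab_51) (Btab_52) (Nat.ble 52 c)
noncomputable def Btab_s_53_55 (c : Nat) : Nat := @Bool.rec (fun _ => Nat) (Btab_53) (Btab_54) (Nat.ble 54 c)
noncomputable def Btab_s_51_55 (c : Nat) : Nat := @Bool.rec (fun _ => Nat) (Btab_s_51_53 c) (Btab_s_53_55 c) (Nat.ble 53 c)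
noncomputable def Btab_s_47_55 (c : Nat) : Nat := @Bool.rec (fun _ => Nat) (Btab_s_47_51 c) (Btab_s_51_55 c) (Nat.ble 51 c)
noncomputable def Btab_s_55_57 (c : Nat) : Nat := @Bool.rec (fun _ => Nat) (Btab_55) (Btab_56) (Nat.ble 56 c)
noncomputable def Btab_s_57_59 (c : Nat) : Nat := @Bool.rec (fun _ => Nat) (Btab_57) (Btab_58) (Nat.ble 58 c)
noncomputable def Btab_s_55_59 (c : Nat) : Nat := @Bool.rec (fun _ => Nat) (Btab_s_55_57 c) (Btab_s_57_59 c) (Nat.ble 57 c)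
noncomputable def Btab_s_59_61 (c : Nat) : Nat := @Bool.rec (fun _ => Nat) (Btab_59) (Btab_60) (Nat.ble 60 c)
noncomputable def Btab_s_61_63 (c : Nat) : Nat := @Bool.rec (fun _ => Nat) (Btab_61) (Btab_62) (Nat.ble 62 c)
noncomputable def Btab_s_59_63 (c : Nat) : Nat := @Bool.rec (fun _ => Nat) (Btab_s_59_61 c) (Btab_s_61_63 c) (Nat.ble 61 c)
noncomputable def Btab_s_55_63 (c : Nat) : Nat := @Bool.rec (fun _ => Nat) (Btab_s_55_59 c) (Btab_s_59_63 c) (Nat.ble 59 c)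
noncomputable def Btab_s_47_63 (c : Nat) : Nat := @Bool.rec (fun _ => Nat) (Btab_s_47_55 c) (Btab_s_55_63 c) (Nat.ble 55 c)
noncomputable def Btab_s_31_63 (c : Nat) : Nat := @Bool.rec (fun _ => Nat) (Btab_s_31_47 c) (Btab_s_47_63 c) (Nat.ble 47 c)
noncomputable def Btab_s_0_63 (c : Nat) : Nat := @Bool.rec (fun _ => Nat) (Btab_s_0_31 c) (Btab_s_31_63 c) (Nat.ble 31 c)
noncomputable def Btab_s_64_66 (c : Nat) : Nat := @Bool.rec (fun _ => Nat) (Btab_64) (Btab_65) (Nat.ble 65 c)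
noncomputable def Btab_s_63_66 (c : Nat) : Nat := @Bool.rec (fun _ => Nat) (Btab_63) (Btab_s_64_66 c) (Nat.ble 64 c)
noncomputable def Btab_s_66_68 (c : Nat) : Nat := @Bool.rec (fun _ => Nat) (Btab_66) (Btab_67) (Nat.ble 67 c)
noncomputable def Btab_s_68_70 (c : Nat) : Nat := @Bool.rec (fun _ => Nat) (Btab_68) (Btab_69) (Nat.ble 69 c)
noncomputable def Btab_s_66_70 (c : Nat) : Nat := @Bool.rec (fun _ => Nat) (Btab_s_66_68 c) (Btab_s_68_70 c) (Nat.ble 68 c)
noncomputable def Btab_s_63_70 (c : Nat) : Nat := @Bool.rec (fun _ => Nat) (Btab_s_63_66 c) (Btab_s_66_70 c) (Nat.ble 66 c)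
noncomputable def Btab_s_70_72 (c : Nat) : Nat := @Bool.rec (fun _ => Nat) (Btab_70) (Btab_71) (Nat.ble 71 c)
noncomputable def Btab_s_72_74 (c : Nat) : Nat := @Bool.rec (fun _ => Nat) (Btab_72) (Btab_73) (Nat.ble 73 c)
noncomputable def Btab_s_70_74 (c : Nat) : Nat := @Bool.rec (fun _ => Nat) (Btab_s_70_72 c) (Btab_s_72_74 c) (Nat.ble 72 c)
noncomputable def Btab_s_74_76 (c : Nat) : Nat := @Bool.rec (fun _ => Nat) (Btab_74) (Btab_75) (Nat.ble 75 c)
noncomputable def Btab_s_76_78 (c : Nat) : Nat := @Bool.rec (fun _ => Nat) (Btab_76) (Btab_77) (Nat.ble 77 c)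
noncomputable def Btab_s_74_78 (c : Nat) : Nat := @Bool.rec (fun _ => Nat) (Btab_s_74_76 c) (Btab_s_76_78 c) (Nat.ble 76 c)
noncomputable def Btab_s_70_78 (c : Nat) : Nat := @Bool.rec (fun _ => Nat) (Btab_s_70_74 c) (Btab_s_74_78 c) (Nat.ble 74 c)
noncomputable def Btab_s_63_78 (c : Nat) : Nat := @Bool.rec (fun _ => Nat) (Btab_s_63_70 c) (Btab_s_70_78 c) (Nat.ble 70 c)
noncomputable def Btab_s_78_80 (c : Nat) : Nat := @Bool.rec (fun _ => Nat) (Btab_78) (Btab_79) (Nat.ble 79 c)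
noncomputable def Btab_s_80_82 (c : Nat) : Nat := @Bool.rec (fun _ => Nat) (Btab_80) (Btab_81) (Nat.ble 81 c)
noncomputable def Btab_s_78_82 (c : Nat) : Nat := @Bool.rec (fun _ => Nat) (Btab_s_78_80 c) (Btab_s_80_82 c) (Nat.ble 80 c)
noncomputable def Btab_s_82_84 (c : Nat) : Nat := @Bool.rec (fun _ => Nat) (Btab_82) (Btab_83) (Nat.ble 83 c)
noncomputable def Btab_s_84_86 (c : Nat) : Nat := @Bool.rec (fun _ => Nat) (Btab_84) (Btab_85) (Nat.ble 85 c)
noncomputable def Btab_s_82_86 (c : Nat) : Nat := @Bool.rec (fun _ => Nat) (Btab_s_82_84 c) (Btab_s_84_86 c) (Nat.ble 84 c)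
noncomputable def Btab_s_78_86 (c : Nat) : Nat := @Bool.rec (fun _ => Nat) (Btab_s_78_82 c) (Btab_s_82_86 c) (Nat.ble 82 c)
noncomputable def Btab_s_86_88 (c : Nat) : Nat := @Bool.rec (fun _ => Nat) (Btab_86) (Btab_87) (Nat.ble 87 c)
noncomputable def Btab_s_88_90 (c : Nat) : Nat := @Bool.rec (fun _ => Nat) (Btab_88) (Btab_89) (Nat.ble 89 c)
noncomputable def Btab_s_86_90 (c : Nat) : Nat := @Bool.rec (fun _ => Nat) (Btab_s_86_88 c) (Btab_s_88_90 c) (Nat.ble 88 c)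
noncomputable def Btab_s_90_92 (c : Nat) : Nat := @Bool.rec (fun _ => Nat) (Btab_90) (Btab_91) (Nat.ble 91 c)
noncomputable def Btab_s_92_94 (c : Nat) : Nat := @Bool.rec (fun _ => Nat) (Btab_92) (Btab_93) (Nat.ble 93 c)
noncomputable def Btab_s_90_94 (c : Nat) : Nat := @Bool.rec (fun _ => Nat) (Btab_s_90_92 c) (Btab_s_92_94 c) (Nat.ble 92 c)
noncomputable def Btab_s_86_94 (c : Nat) : Nat := @Bool.rec (fun _ => Nat) (Btab_s_86_90 c) (Btab_s_90_94 c) (Nat.ble 90 c)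
noncomputable def Btab_s_78_94 (c : Nat) : Nat := @Bool.rec (fun _ => Nat) (Btab_s_78_86 c) (Btab_s_86_94 c) (Nat.ble 86 c)
noncomputable def Btab_s_63_94 (c : Nat) : Nat := @Bool.rec (fun _ => Nat) (Btab_s_63_78 c) (Btab_s_78_94 c) (Nat.ble 78 c)
noncomputable def Btab_s_94_96 (c : Nat) : Nat := @Bool.rec (fun _ => Nat) (Btab_94) (Btab_95) (Nat.ble 95 c)
noncomputable def Btab_s_96_98 (c : Nat) : Nat := @Bool.rec (fun _ => Nat) (Btab_96) (Btab_97) (Nat.ble 97 c)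
noncomputable def Btab_s_94_98 (c : Nat) : Nat := @Bool.rec (fun _ => Nat) (Btab_s_94_96 c) (Btab_s_96_98 c) (Nat.ble 96 c)
noncomputable def Btab_s_98_100 (c : Nat) : Nat := @Bool.rec (fun _ => Nat) (Btab_98) (Btab_99) (Nat.ble 99 c)
noncomputable def Btab_s_100_102 (c : Nat) : Nat := @Bool.rec (fun _ => Nat) (Btab_100) (Btab_101) (Nat.ble 101 c)
noncomputable def Btab_s_98_102 (c : Nat) : Nat := @Bool.rec (fun _ => Nat) (Btab_s_98_100 c) (Btab_s_100_102 c) (Nat.ble 100 c)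
noncomputable def Btab_s_94_102 (c : Nat) : Nat := @Bool.rec (fun _ => Nat) (Btab_s_94_98 c) (Btab_s_98_102 c) (Nat.ble 98 c)
noncomputable def Btab_s_102_104 (c : Nat) : Nat := @Bool.rec (fun _ => Nat) (Btab_102) (Btab_103) (Nat.ble 103 c)
noncomputable def Btab_s_104_106 (c : Nat) : Nat := @Bool.rec (fun _ => Nat) (Btab_104) (Btab_105) (Nat.ble 105 c)
noncomputable def Btab_s_102_106 (c : Nat) : Nat := @Bool.rec (fun _ => Nat) (Btab_s_102_104 c) (Btab_s_104_106 c) (Nat.ble 104 c)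
noncomputable def Btab_s_106_108 (c : Nat) : Nat := @Bool.rec (fun _ => Nat) (Btab_106) (Btab_107) (Nat.ble 107 c)
noncomputable def Btab_s_108_110 (c : Nat) : Nat := @Bool.rec (fun _ => Nat) (Btab_108) (Btab_109) (Nat.ble 109 c)
noncomputable def Btab_s_106_110 (c : Nat) : Nat := @Bool.rec (fun _ => Nat) (Btab_s_106_108 c) (Btab_s_108_110 c) (Nat.ble 108 c)
noncomputable def Btab_s_102_110 (c : Nat) : Nat := @Bool.rec (fun _ => Nat) (Btab_s_102_106 c) (Btab_s_106_110 c) (Nat.ble 106 c)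
noncomputable def Btab_s_94_110 (c : Nat) : Nat := @Bool.rec (fun _ => Nat) (Btab_s_94_102 c) (Btab_s_102_110 c) (Nat.ble 102 c)
noncomputable def Btab_s_110_112 (c : Nat) : Nat := @Bool.rec (fun _ => Nat) (Btab_110) (Btab_111) (Nat.ble 111 c)
noncomputable def Btab_s_112_114 (c : Nat) : Nat := @Bool.rec (fun _ => Nat) (Btab_112) (Btab_113) (Nat.ble 113 c)
noncomputable def Btab_s_110_114 (c : Nat) : Nat := @Bool.rec (fun _ => Nat) (Btab_s_110_112 c) (Btab_s_112_114 c) (Nat.ble 112 c)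
noncomputable def Btab_s_114_116 (c : Nat) : Nat := @Bool.rec (fun _ => Nat) (Btab_114) (Btab_115) (Nat.ble 115 c)
noncomputable def Btab_s_116_118 (c : Nat) : Nat := @Bool.rec (fun _ => Nat) (Btab_116) (Btab_117) (Nat.ble 117 c)
noncomputable def Btab_s_114_118 (c : Nat) : Nat := @Bool.rec (fun _ => Nat) (Btab_s_114_116 c) (Btab_s_116_118 c) (Nat.ble 116 c)
noncomputable def Btab_s_110_118 (c : Nat) : Nat := @Bool.rec (fun _ => Nat) (Btab_s_110_114 c) (Btab_s_114_118 c) (Nat.ble 114 c)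
noncomputable def Btab_s_118_120 (c : Nat) : Nat := @Bool.rec (fun _ => Nat) (Btab_118) (Btab_119) (Nat.ble 119 c)
noncomputable def Btab_s_120_122 (c : Nat) : Nat := @Bool.rec (fun _ => Nat) (Btab_120) (Btab_121) (Nat.ble 121 c)
noncomputable def Btab_s_118_122 (c : Nat) : Nat := @Bool.rec (fun _ => Nat) (Btab_s_118_120 c) (Btab_s_120_122 c) (Nat.ble 120 c)
noncomputable def Btab_s_122_124 (c : Nat) : Nat := @Bool.rec (fun _ => Nat) (Btab_122) (Btab_123) (Nat.ble 123 c)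
noncomputable def Btab_s_124_126 (c : Nat) : Nat := @Bool.rec (fun _ => Nat) (Btab_124) (Btab_125) (Nat.ble 125 c)
noncomputable def Btab_s_122_126 (c : Nat) : Nat := @Bool.rec (fun _ => Nat) (Btab_s_122_124 c) (Btab_s_124_126 c) (Nat.ble 124 c)
noncomputable def Btab_s_118_126 (c : Nat) : Nat := @Bool.rec (fun _ => Nat) (Btab_s_118_122 c) (Btab_s_122_126 c) (Nat.ble 122 c)
noncomputable def Btab_s_110_126 (c : Nat) : Nat := @Bool.rec (fun _ => Nat) (Btab_s_110_118 c) (Btab_s_118_126 c) (Nat.ble 118 c)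
noncomputable def Btab_s_94_126 (c : Nat) : Nat := @Bool.rec (fun _ => Nat) (Btab_s_94_110 c) (Btab_s_110_126 c) (Nat.ble 110 c)
noncomputable def Btab_s_63_126 (c : Nat) : Nat := @Bool.rec (fun _ => Nat) (Btab_s_63_94 c) (Btab_s_94_126 c) (Nat.ble 94 c)
noncomputable def Btab_s_0_126 (c : Nat) : Nat := @Bool.rec (fun _ => Nat) (Btab_s_0_63 c) (Btab_s_63_126 c) (Nat.ble 63 c)
noncomputable def Btab_s_127_129 (c : Nat) : Nat := @Bool.rec (fun _ => Nat) (Btab_127) (Btab_128) (Nat.ble 128 c)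
noncomputable def Btab_s_126_129 (c : Nat) : Nat := @Bool.rec (fun _ => Nat) (Btab_126) (Btab_s_127_129 c) (Nat.ble 127 c)
noncomputable def Btab_s_129_131 (c : Nat) : Nat := @Bool.rec (fun _ => Nat) (Btab_129) (Btab_130) (Nat.ble 130 c)
noncomputable def Btab_s_131_133 (c : Nat) : Nat := @Bool.rec (fun _ => Nat) (Btab_131) (Btab_132) (Nat.ble 132 c)
noncomputable def Btab_s_129_133 (c : Nat) : Nat := @Bool.rec (fun _ => Nat) (Btab_s_129_131 c) (Btab_s_131_133 c) (Nat.ble 131 c)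
noncomputable def Btab_s_126_133 (c : Nat) : Nat := @Bool.rec (fun _ => Nat) (Btab_s_126_129 c) (Btab_s_129_133 c) (Nat.ble 129 c)
noncomputable def Btab_s_133_135 (c : Nat) : Nat := @Bool.rec (fun _ => Nat) (Btab_133) (Btab_134) (Nat.ble 134 c)
noncomputable def Btab_s_135_137 (c : Nat) : Nat := @Bool.rec (fun _ => Nat) (Btab_135) (Btab_136) (Nat.ble 136 c)
noncomputable def Btab_s_133_137 (c : Nat) : Nat := @Bool.rec (fun _ => Nat) (Btab_s_133_135 c) (Btab_s_135_137 c) (Nat.ble 135 c)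
noncomputable def Btab_s_137_139 (c : Nat) : Nat := @Bool.rec (fun _ => Nat) (Btab_137) (Btab_138) (Nat.ble 138 c)
noncomputable def Btab_s_139_141 (c : Nat) : Nat := @Bool.rec (fun _ => Nat) (Btab_139) (Btab_140) (Nat.ble 140 c)
noncomputable def Btab_s_137_141 (c : Nat) : Nat := @Bool.rec (fun _ => Nat) (Btab_s_137_139 c) (Btab_s_139_141 c) (Nat.ble 139 c)
noncomputable def Btab_s_133_141 (c : Nat) : Nat := @Bool.rec (fun _ => Nat) (Btab_s_133_137 c) (Btab_s_137_141 c) (Nat.ble 137 c)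
noncomputable def Btab_s_126_141 (c : Nat) : Nat := @Bool.rec (fun _ => Nat) (Btab_s_126_133 c) (Btab_s_133_141 c) (Nat.ble 133 c)
noncomputable def Btab_s_141_143 (c : Nat) : Nat := @Bool.rec (fun _ => Nat) (Btab_141) (Btab_142) (Nat.ble 142 c)
noncomputable def Btab_s_143_145 (c : Nat) : Nat := @Bool.rec (fun _ => Nat) (Btab_143) (Btab_144) (Nat.ble 144 c)
noncomputable def Btab_s_141_145 (c : Nat) : Nat := @Bool.rec (fun _ => Nat) (Btab_s_141_143 c) (Btab_s_143_145 c) (Nat.ble 143 c)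
noncomputable def Btab_s_145_147 (c : Nat) : Nat := @Bool.rec (fun _ => Nat) (Btab_145) (Btab_146) (Nat.ble 146 c)
noncomputable def Btab_s_147_149 (c : Nat) : Nat := @Bool.rec (fun _ => Nat) (Btab_147) (Btab_148) (Nat.ble 148 c)
noncomputable def Btab_s_145_149 (c : Nat) : Nat := @Bool.rec (fun _ => Nat) (Btab_s_145_147 c) (Btab_s_147_149 c) (Nat.ble 147 c)
noncomputable def Btab_s_141_149 (c : Nat) : Nat := @Bool.rec (fun _ => Nat) (Btab_s_141_145 c) (Btab_s_145_149 c) (Nat.ble 145 c)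
noncomputable def Btab_s_149_151 (c : Nat) : Nat := @Bool.rec (fun _ => Nat) (Btab_149) (Btab_150) (Nat.ble 150 c)
noncomputable def Btab_s_151_153 (c : Nat) : Nat := @Bool.rec (fun _ => Nat) (Btab_151) (Btab_152) (Nat.ble 152 c)
noncomputable def Btab_s_149_153 (c : Nat) : Nat := @Bool.rec (fun _ => Nat) (Btab_s_149_151 c) (Btab_s_151_153 c) (Nat.ble 151 c)
noncomputable def Btab_s_153_155 (c : Nat) : Nat := @Bool.rec (fun _ => Nat) (Btab_153) (Btab_154) (Nat.ble 154 c)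
noncomputable def Btab_s_155_157 (c : Nat) : Nat := @Bool.rec (fun _ => Nat) (Btab_155) (Btab_156) (Nat.ble 156 c)
noncomputable def Btab_s_153_157 (c : Nat) : Nat := @Bool.rec (fun _ => Nat) (Btab_s_153_155 c) (Btab_s_155_157 c) (Nat.ble 155 c)
noncomputable def Btab_s_149_157 (c : Nat) : Nat := @Bool.rec (fun _ => Nat) (Btab_s_149_153 c) (Btab_s_153_157 c) (Nat.ble 153 c)
noncomputable def Btab_s_141_157 (c : Nat) : Nat := @Bool.rec (fun _ => Nat) (Btab_s_141_149 c) (Btab_s_149_157 c) (Nat.ble 149 c)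
noncomputable def Btab_s_126_157 (c : Nat) : Nat := @Bool.rec (fun _ => Nat) (Btab_s_126_141 c) (Btab_s_141_157 c) (Nat.ble 141 c)
noncomputable def Btab_s_157_159 (c : Nat) : Nat := @Bool.rec (fun _ => Nat) (Btab_157) (Btab_158) (Nat.ble 158 c)
noncomputable def Btab_s_159_161 (c : Nat) : Nat := @Bool.rec (fun _ => Nat) (Btab_159) (Btab_160) (Nat.ble 160 c)
noncomputable def Btab_s_157_161 (c : Nat) : Nat := @Bool.rec (fun _ => Nat) (Btab_s_157_159 c) (Btab_s_159_161 c) (Nat.ble 159 c)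
noncomputable def Btab_s_161_163 (c : Nat) : Nat := @Bool.rec (fun _ => Nat) (Btab_161) (Btab_162) (Nat.ble 162 c)
noncomputable def Btab_s_163_165 (c : Nat) : Nat := @Bool.rec (fun _ => Nat) (Btab_163) (Btab_164) (Nat.ble 164 c)
noncomputable def Btab_s_161_165 (c : Nat) : Nat := @Bool.rec (fun _ => Nat) (Btab_s_161_163 c) (Btab_s_163_165 c) (Nat.ble 163 c)
noncomputable def Btab_s_157_165 (c : Nat) : Nat := @Bool.rec (fun _ => Nat) (Btab_s_157_161 c) (Btab_s_161_165 c) (Nat.ble 161 c)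
noncomputable def Btab_s_165_167 (c : Nat) : Nat := @Bool.rec (fun _ => Nat) (Btab_165) (Btab_166) (Nat.ble 166 c)
noncomputable def Btab_s_167_169 (c : Nat) : Nat := @Bool.rec (fun _ => Nat) (Btab_167) (Btab_168) (Nat.ble 168 c)
noncomputable def Btab_s_165_169 (c : Nat) : Nat := @Bool.rec (fun _ => Nat) (Btab_s_165_167 c) (Btab_s_167_169 c) (Nat.ble 167 c)
noncomputable def Btab_s_169_171 (c : Nat) : Nat := @Bool.rec (fun _ => Nat) (Btab_169) (Btab_170) (Nat.ble 170 c)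
noncomputable def Btab_s_171_173 (c : Nat) : Nat := @Bool.rec (fun _ => Nat) (Btab_171) (Btab_172) (Nat.ble 172 c)
noncomputable def Btab_s_169_173 (c : Nat) : Nat := @Bool.rec (fun _ => Nat) (Btab_s_169_171 c) (Btab_s_171_173 c) (Nat.ble 171 c)
noncomputable def Btab_s_165_173 (c : Nat) : Nat := @Bool.rec (fun _ => Nat) (Btab_s_165_169 c) (Btab_s_169_173 c) (Nat.ble 169 c)
noncomputable def Btab_s_157_173 (c : Nat) : Nat := @Bool.rec (fun _ => Nat) (Btab_s_157_165 c) (Btab_s_165_173 c) (Nat.ble 165 c)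
noncomputable def Btab_s_173_175 (c : Nat) : Nat := @Bool.rec (fun _ => Nat) (Btab_173) (Btab_174) (Nat.ble 174 c)
noncomputable def Btab_s_175_177 (c : Nat) : Nat := @Bool.rec (fun _ => Nat) (Btab_175) (Btab_176) (Nat.ble 176 c)
noncomputable def Btab_s_173_177 (c : Nat) : Nat := @Bool.rec (fun _ => Nat) (Btab_s_173_175 c) (Btab_s_175_177 c) (Nat.ble 175 c)
noncomputable def Btab_s_177_179 (c : Nat) : Nat := @Bool.rec (fun _ => Nat) (Btab_177) (Btab_178) (Nat.ble 178 c)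
noncomputable def Btab_s_179_181 (c : Nat) : Nat := @Bool.rec (fun _ => Nat) (Btab_179) (Btab_180) (Nat.ble 180 c)
noncomputable def Btab_s_177_181 (c : Nat) : Nat := @Bool.rec (fun _ => Nat) (Btab_s_177_179 c) (Btab_s_179_181 c) (Nat.ble 179 c)
noncomputable def Btab_s_173_181 (c : Nat) : Nat := @Bool.rec (fun _ => Nat) (Btab_s_173_177 c) (Btab_s_177_181 c) (Nat.ble 177 c)
noncomputable def Btab_s_181_183 (c : Nat) : Nat := @Bool.rec (fun _ => Nat) (Btab_181) (Btab_182) (Nat.ble 182 c)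
noncomputable def Btab_s_183_185 (c : Nat) : Nat := @Bool.rec (fun _ => Nat) (Btab_183) (Btab_184) (Nat.ble 184 c)
noncomputable def Btab_s_181_185 (c : Nat) : Nat := @Bool.rec (fun _ => Nat) (Btab_s_181_183 c) (Btab_s_183_185 c) (Nat.ble 183 c)
noncomputable def Btab_s_185_187 (c : Nat) : Nat := @Bool.rec (fun _ => Nat) (Btab_185) (Btab_186) (Nat.ble 186 c)
noncomputable def Btab_s_187_189 (c : Nat) : Nat := @Bool.rec (fun _ => Nat) (Btab_187) (Btab_188) (Nat.ble 188 c)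
noncomputable def Btab_s_185_189 (c : Nat) : Nat := @Bool.rec (fun _ => Nat) (Btab_s_185_187 c) (Btab_s_187_189 c) (Nat.ble 187 c)
noncomputable def Btab_s_181_189 (c : Nat) : Nat := @Bool.rec (fun _ => Nat) (Btab_s_181_185 c) (Btab_s_185_189 c) (Nat.ble 185 c)
noncomputable def Btab_s_173_189 (c : Nat) : Nat := @Bool.rec (fun _ => Nat) (Btab_s_173_181 c) (Btab_s_181_189 c) (Nat.ble 181 c)
noncomputable def Btab_s_157_189 (c : Nat) : Nat := @Bool.rec (fun _ => Nat) (Btab_s_157_173 c) (Btab_s_173_189 c) (Nat.ble 173 c)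
noncomputable def Btab_s_126_189 (c : Nat) : Nat := @Bool.rec (fun _ => Nat) (Btab_s_126_157 c) (Btab_s_157_189 c) (Nat.ble 157 c)
noncomputable def Btab_s_190_192 (c : Nat) : Nat := @Bool.rec (fun _ => Nat) (Btab_190) (Btab_191) (Nat.ble 191 c)
noncomputable def Btab_s_189_192 (c : Nat) : Nat := @Bool.rec (fun _ => Nat) (Btab_189) (Btab_s_190_192 c) (Nat.ble 190 c)
noncomputable def Btab_s_192_194 (c : Nat) : Nat := @Bool.rec (fun _ => Nat) (Btab_192) (Btab_193) (Nat.ble 193 c)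
noncomputable def Btab_s_194_196 (c : Nat) : Nat := @Bool.rec (fun _ => Nat) (Btab_194) (Btab_195) (Nat.ble 195 c)
noncomputable def Btab_s_192_196 (c : Nat) : Nat := @Bool.rec (fun _ => Nat) (Btab_s_192_194 c) (Btab_s_194_196 c) (Nat.ble 194 c)
noncomputable def Btab_s_189_196 (c : Nat) : Nat := @Bool.rec (fun _ => Nat) (Btab_s_189_192 c) (Btab_s_192_196 c) (Nat.ble 192 c)
noncomputable def Btab_s_196_198 (c : Nat) : Nat := @Bool.rec (fun _ => Nat) (Btab_196) (Btab_197) (Nat.ble 197 c)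
noncomputable def Btab_s_198_200 (c : Nat) : Nat := @Bool.rec (fun _ => Nat) (Btab_198) (Btab_199) (Nat.ble 199 c)
noncomputable def Btab_s_196_200 (c : Nat) : Nat := @Bool.rec (fun _ => Nat) (Btab_s_196_198 c) (Btab_s_198_200 c) (Nat.ble 198 c)
noncomputable def Btab_s_200_202 (c : Nat) : Nat := @Bool.rec (fun _ => Nat) (Btab_200) (Btab_201) (Nat.ble 201 c)
noncomputable def Btab_s_202_204 (c : Nat) : Nat := @Bool.rec (fun _ => Nat) (Btab_202) (Btab_203) (Nat.ble 203 c)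
noncomputable def Btab_s_200_204 (c : Nat) : Nat := @Bool.rec (fun _ => Nat) (Btab_s_200_202 c) (Btab_s_202_204 c) (Nat.ble 202 c)
noncomputable def Btab_s_196_204 (c : Nat) : Nat := @Bool.rec (fun _ => Nat) (Btab_s_196_200 c) (Btab_s_200_204 c) (Nat.ble 200 c)
noncomputable def Btab_s_189_204 (c : Nat) : Nat := @Bool.rec (fun _ => Nat) (Btab_s_189_196 c) (Btab_s_196_204 c) (Nat.ble 196 c)
noncomputable def Btab_s_204_206 (c : Nat) : Nat := @Bool.rec (fun _ => Nat) (Btab_204) (Btab_205) (Nat.ble 205 c)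
noncomputable def Btab_s_206_208 (c : Nat) : Nat := @Bool.rec (fun _ => Nat) (Btab_206) (Btab_207) (Nat.ble 207 c)
noncomputable def Btab_s_204_208 (c : Nat) : Nat := @Bool.rec (fun _ => Nat) (Btab_s_204_206 c) (Btab_s_206_208 c) (Nat.ble 206 c)
noncomputable def Btab_s_208_210 (c : Nat) : Nat := @Bool.rec (fun _ => Nat) (Btab_208) (Btab_209) (Nat.ble 209 c)
noncomputable def Btab_s_210_212 (c : Nat) : Nat := @Bool.rec (fun _ => Nat) (Btab_210) (Btab_211) (Nat.ble 211 c)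
noncomputable def Btab_s_208_212 (c : Nat) : Nat := @Bool.rec (fun _ => Nat) (Btab_s_208_210 c) (Btab_s_210_212 c) (Nat.ble 210 c)
noncomputable def Btab_s_204_212 (c : Nat) : Nat := @Bool.rec (fun _ => Nat) (Btab_s_204_208 c) (Btab_s_208_212 c) (Nat.ble 208 c)
noncomputable def Btab_s_212_214 (c : Nat) : Nat := @Bool.rec (fun _ => Nat) (Btab_212) (Btab_213) (Nat.ble 213 c)
noncomputable def Btab_s_214_216 (c : Nat) : Nat := @Bool.rec (fun _ => Nat) (Btab_214) (Btab_215) (Nat.ble 215 c)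
noncomputable def Btab_s_212_216 (c : Nat) : Nat := @Bool.rec (fun _ => Nat) (Btab_s_212_214 c) (Btab_s_214_216 c) (Nat.ble 214 c)
noncomputable def Btab_s_216_218 (c : Nat) : Nat := @Bool.rec (fun _ => Nat) (Btab_216) (Btab_217) (Nat.ble 217 c)
noncomputable def Btab_s_218_220 (c : Nat) : Nat := @Bool.rec (fun _ => Nat) (Btab_218) (Btab_219) (Nat.ble 219 c)
noncomputable def Btab_s_216_220 (c : Nat) : Nat := @Bool.rec (fun _ => Nat) (Btab_s_216_218 c) (Btab_s_218_220 c) (Nat.ble 218 c)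
noncomputable def Btab_s_212_220 (c : Nat) : Nat := @Bool.rec (fun _ => Nat) (Btab_s_212_216 c) (Btab_s_216_220 c) (Nat.ble 216 c)
noncomputable def Btab_s_204_220 (c : Nat) : Nat := @Bool.rec (fun _ => Nat) (Btab_s_204_212 c) (Btab_s_212_220 c) (Nat.ble 212 c)
noncomputable def Btab_s_189_220 (c : Nat) : Nat := @Bool.rec (fun _ => Nat) (Btab_s_189_204 c) (Btab_s_204_220 c) (Nat.ble 204 c)
noncomputable def Btab_s_220_222 (c : Nat) : Nat := @Bool.rec (fun _ => Nat) (Btab_220) (Btab_221) (Nat.ble 221 c)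
noncomputable def Btab_s_222_224 (c : Nat) : Nat := @Bool.rec (fun _ => Nat) (Btab_222) (Btab_223) (Nat.ble 223 c)
noncomputable def Btab_s_220_224 (c : Nat) : Nat := @Bool.rec (fun _ => Nat) (Btab_s_220_222 c) (Btab_s_222_224 c) (Nat.ble 222 c)
noncomputable def Btab_s_224_226 (c : Nat) : Nat := @Bool.rec (fun _ => Nat) (Btab_224) (Btab_225) (Nat.ble 225 c)
noncomputable def Btab_s_226_228 (c : Nat) : Nat := @Bool.rec (fun _ => Nat) (Btab_226) (Btab_227) (Nat.ble 227 c)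
noncomputable def Btab_s_224_228 (c : Nat) : Nat := @Bool.rec (fun _ => Nat) (Btab_s_224_226 c) (Btab_s_226_228 c) (Nat.ble 226 c)
noncomputable def Btab_s_220_228 (c : Nat) : Nat := @Bool.rec (fun _ => Nat) (Btab_s_220_224 c) (Btab_s_224_228 c) (Nat.ble 224 c)
noncomputable def Btab_s_228_230 (c : Nat) : Nat := @Bool.rec (fun _ => Nat) (Btab_228) (Btab_229) (Nat.ble 229 c)
noncomputable def Btab_s_230_232 (c : Nat) : Nat := @Bool.rec (fun _ => Nat) (Btab_230) (Btab_231) (Nat.ble 231 c)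
noncomputable def Btab_s_228_232 (c : Nat) : Nat := @Bool.rec (fun _ => Nat) (Btab_s_228_230 c) (Btab_s_230_232 c) (Nat.ble 230 c)
noncomputable def Btab_s_232_234 (c : Nat) : Nat := @Bool.rec (fun _ => Nat) (Btab_232) (Btab_233) (Nat.ble 233 c)
noncomputable def Btab_s_234_236 (c : Nat) : Nat := @Bool.rec (fun _ => Nat) (Btab_234) (Btab_235) (Nat.ble 235 c)
noncomputable def Btab_s_232_236 (c : Nat) : Nat := @Bool.rec (fun _ => Nat) (Btab_s_232_234 c) (Btab_s_234_236 c) (Nat.ble 234 c)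
noncomputable def Btab_s_228_236 (c : Nat) : Nat := @Bool.rec (fun _ => Nat) (Btab_s_228_232 c) (Btab_s_232_236 c) (Nat.ble 232 c)
noncomputable def Btab_s_220_236 (c : Nat) : Nat := @Bool.rec (fun _ => Nat) (Btab_s_220_228 c) (Btab_s_228_236 c) (Nat.ble 228 c)
noncomputable def Btab_s_236_238 (c : Nat) : Nat := @Bool.rec (fun _ => Nat) (Btab_236) (Btab_237) (Nat.ble 237 c)
noncomputable def Btab_s_238_240 (c : Nat) : Nat := @Bool.rec (fun _ => Nat) (Btab_238) (Btab_239) (Nat.ble 239 c)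
noncomputable def Btab_s_236_240 (c : Nat) : Nat := @Bool.rec (fun _ => Nat) (Btab_s_236_238 c) (Btab_s_238_240 c) (Nat.ble 238 c)
noncomputable def Btab_s_240_242 (c : Nat) : Nat := @Bool.rec (fun _ => Nat) (Btab_240) (Btab_241) (Nat.ble 241 c)
noncomputable def Btab_s_242_244 (c : Nat) : Nat := @Bool.rec (fun _ => Nat) (Btab_242) (Btab_243) (Nat.ble 243 c)
noncomputable def Btab_s_240_244 (c : Nat) : Nat := @Bool.rec (fun _ => Nat) (Btab_s_240_242 c) (Btab_s_242_244 c) (Nat.ble 242 c)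
noncomputable def Btab_s_236_244 (c : Nat) : Nat := @Bool.rec (fun _ => Nat) (Btab_s_236_240 c) (Btab_s_240_244 c) (Nat.ble 240 c)
noncomputable def Btab_s_244_246 (c : Nat) : Nat := @Bool.rec (fun _ => Nat) (Btab_244) (Btab_245) (Nat.ble 245 c)
noncomputable def Btab_s_246_248 (c : Nat) : Nat := @Bool.rec (fun _ => Nat) (Btab_246) (Btab_247) (Nat.ble 247 c)
noncomputable def Btab_s_244_248 (c : Nat) : Nat := @Bool.rec (fun _ => Nat) (Btab_s_244_246 c) (Btab_s_246_248 c) (Nat.ble 246 c)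
noncomputable def Btab_s_248_250 (c : Nat) : Nat := @Bool.rec (fun _ => Nat) (Btab_248) (Btab_249) (Nat.ble 249 c)
noncomputable def Btab_s_250_252 (c : Nat) : Nat := @Bool.rec (fun _ => Nat) (Btab_250) (Btab_251) (Nat.ble 251 c)
noncomputable def Btab_s_248_252 (c : Nat) : Nat := @Bool.rec (fun _ => Nat) (Btab_s_248_250 c) (Btab_s_250_252 c) (Nat.ble 250 c)
noncomputable def Btab_s_244_252 (c : Nat) : Nat := @Bool.rec (fun _ => Nat) (Btab_s_244_248 c) (Btab_s_248_252 c) (Nat.ble 248 c)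
noncomputable def Btab_s_236_252 (c : Nat) : Nat := @Bool.rec (fun _ => Nat) (Btab_s_236_244 c) (Btab_s_244_252 c) (Nat.ble 244 c)
noncomputable def Btab_s_220_252 (c : Nat) : Nat := @Bool.rec (fun _ => Nat) (Btab_s_220_236 c) (Btab_s_236_252 c) (Nat.ble 236 c)
noncomputable def Btab_s_189_252 (c : Nat) : Nat := @Bool.rec (fun _ => Nat) (Btab_s_189_220 c) (Btab_s_220_252 c) (Nat.ble 220 c)
noncomputable def Btab_s_126_252 (c : Nat) : Nat := @Bool.rec (fun _ => Nat) (Btab_s_126_189 c) (Btab_s_189_252 c) (Nat.ble 189 c)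
noncomputable def Btab_s_0_252 (c : Nat) : Nat := @Bool.rec (fun _ => Nat) (Btab_s_0_126 c) (Btab_s_126_252 c) (Nat.ble 126 c)
noncomputable def Btab (i : Nat) : Nat := rdw 40 1099511627775 (Btab_s_0_252 (Nat.shiftRight i 11)) (Nat.land i 2047)
noncomputable def Ptab_s_1_3 (c : Nat) : Nat := @Bool.rec (fun _ => Nat) (Ptab_1) (Ptab_2) (Nat.ble 2 c)
noncomputable def Ptab_s_0_3 (c : Nat) : Nat := @Bool.rec (fun _ => Nat) (Ptab_0) (Ptab_s_1_3 c) (Nat.ble 1 c)
noncomputable def Ptab_s_4_6 (c : Nat) : Nat := @Bool.rec (fun _ => Nat) (Ptab_4) (Ptab_5) (Nat.ble 5 c)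
noncomputable def Ptab_s_3_6 (c : Nat) : Nat := @Bool.rec (fun _ => Nat) (Ptab_3) (Ptab_s_4_6 c) (Nat.ble 4 c)
noncomputable def Ptab_s_0_6 (c : Nat) : Nat := @Bool.rec (fun _ => Nat) (Ptab_s_0_3 c) (Ptab_s_3_6 c) (Nat.ble 3 c)
noncomputable def Ptab_s_7_9 (c : Nat) : Nat := @Bool.rec (fun _ => Nat) (Ptab_7) (Ptab_8) (Nat.ble 8 c)
noncomputable def Ptab_s_6_9 (c : Nat) : Nat := @Bool.rec (fun _ => Nat) (Ptab_6) (Ptab_s_7_9 c) (Nat.ble 7 c)
noncomputable def Ptab_s_10_12 (c : Nat) : Nat := @Bool.rec (fun _ => Nat) (Ptab_10) (Ptab_11) (Nat.ble 11 c)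
noncomputable def Ptab_s_9_12 (c : Nat) : Nat := @Bool.rec (fun _ => Nat) (Ptab_9) (Ptab_s_10_12 c) (Nat.ble 10 c)
noncomputable def Ptab_s_6_12 (c : Nat) : Nat := @Bool.rec (fun _ => Nat) (Ptab_s_6_9 c) (Ptab_s_9_12 c) (Nat.ble 9 c)
noncomputable def Ptab_s_0_12 (c : Nat) : Nat := @Bool.rec (fun _ => Nat) (Ptab_s_0_6 c) (Ptab_s_6_12 c) (Nat.ble 6 c)
noncomputable def Ptab_s_13_15 (c : Nat) : Nat := @Bool.rec (fun _ => Nat) (Ptab_13) (Ptab_14) (Nat.ble 14 c)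
noncomputable def Ptab_s_12_15 (c : Nat) : Nat := @Bool.rec (fun _ => Nat) (Ptab_12) (Ptab_s_13_15 c) (Nat.ble 13 c)
noncomputable def Ptab_s_16_18 (c : Nat) : Nat := @Bool.rec (fun _ => Nat) (Ptab_16) (Ptab_17) (Nat.ble 17 c)
noncomputable def Ptab_s_15_18 (c : Nat) : Nat := @Bool.rec (fun _ => Nat) (Ptab_15) (Ptab_s_16_18 c) (Nat.ble 16 c)
noncomputable def Ptab_s_12_18 (c : Nat) : Nat := @Bool.rec (fun _ => Nat) (Ptab_s_12_15 c) (Ptab_s_15_18 c) (Nat.ble 15 c)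
noncomputable def Ptab_s_19_21 (c : Nat) : Nat := @Bool.rec (fun _ => Nat) (Ptab_19) (Ptab_20) (Nat.ble 20 c)
noncomputable def Ptab_s_18_21 (c : Nat) : Nat := @Bool.rec (fun _ => Nat) (Ptab_18) (Ptab_s_19_21 c) (Nat.ble 19 c)
noncomputable def Ptab_s_21_23 (c : Nat) : Nat := @Bool.rec (fun _ => Nat) (Ptab_21) (Ptab_22) (Nat.ble 22 c)
noncomputable def Ptab_s_23_25 (c : Nat) : Nat := @Bool.rec (fun _ => Nat) (Ptab_23) (Ptab_24) (Nat.ble 24 c)
noncomputable def Ptab_s_21_25 (c : Nat) : Nat := @Bool.rec (fun _ => Nat) (Ptab_s_21_23 c) (Ptab_s_23_25 c) (Nat.ble 23 c)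
noncomputable def Ptab_s_18_25 (c : Nat) : Nat := @Bool.rec (fun _ => Nat) (Ptab_s_18_21 c) (Ptab_s_21_25 c) (Nat.ble 21 c)
noncomputable def Ptab_s_12_25 (c : Nat) : Nat := @Bool.rec (fun _ => Nat) (Ptab_s_12_18 c) (Ptab_s_18_25 c) (Nat.ble 18 c)
noncomputable def Ptab_s_0_25 (c : Nat) : Nat := @Bool.rec (fun _ => Nat) (Ptab_s_0_12 c) (Ptab_s_12_25 c) (Nat.ble 12 c)
noncomputable def Ptab_s_26_28 (c : Nat) : Nat := @Bool.rec (fun _ => Nat) (Ptab_26) (Ptab_27) (Nat.ble 27 c)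
noncomputable def Ptab_s_25_28 (c : Nat) : Nat := @Bool.rec (fun _ => Nat) (Ptab_25) (Ptab_s_26_28 c) (Nat.ble 26 c)
noncomputable def Ptab_s_29_31 (c : Nat) : Nat := @Bool.rec (fun _ => Nat) (Ptab_29) (Ptab_30) (Nat.ble 30 c)
noncomputable def Ptab_s_28_31 (c : Nat) : Nat := @Bool.rec (fun _ => Nat) (Ptab_28) (Ptab_s_29_31 c) (Nat.ble 29 c)
noncomputable def Ptab_s_25_31 (c : Nat) : Nat := @Bool.rec (fun _ => Nat) (Ptab_s_25_28 c) (Ptab_s_28_31 c) (Nat.ble 28 c)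
noncomputable def Ptab_s_32_34 (c : Nat) : Nat := @Bool.rec (fun _ => Nat) (Ptab_32) (Ptab_33) (Nat.ble 33 c)
noncomputable def Ptab_s_31_34 (c : Nat) : Nat := @Bool.rec (fun _ => Nat) (Ptab_31) (Ptab_s_32_34 c) (Nat.ble 32 c)
noncomputable def Ptab_s_34_36 (c : Nat) : Nat := @Bool.rec (fun _ => Nat) (Ptab_34) (Ptab_35) (Nat.ble 35 c)
noncomputable def Ptab_s_36_38 (c : Nat) : Nat := @Bool.rec (fun _ => Nat) (Ptab_36) (Ptab_37) (Nat.ble 37 c)
noncomputable def Ptab_s_34_38 (c : Nat) : Nat := @Bool.rec (fun _ => Nat) (Ptab_s_34_36 c) (Ptab_s_36_38 c) (Nat.ble 36 c)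
noncomputable def Ptab_s_31_38 (c : Nat) : Nat := @Bool.rec (fun _ => Nat) (Ptab_s_31_34 c) (Ptab_s_34_38 c) (Nat.ble 34 c)
noncomputable def Ptab_s_25_38 (c : Nat) : Nat := @Bool.rec (fun _ => Nat) (Ptab_s_25_31 c) (Ptab_s_31_38 c) (Nat.ble 31 c)
noncomputable def Ptab_s_39_41 (c : Nat) : Nat := @Bool.rec (fun _ => Nat) (Ptab_39) (Ptab_40) (Nat.ble 40 c)
noncomputable def Ptab_s_38_41 (c : Nat) : Nat := @Bool.rec (fun _ => Nat) (Ptab_38) (Ptab_s_39_41 c) (Nat.ble 39 c)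
noncomputable def Ptab_s_42_44 (c : Nat) : Nat := @Bool.rec (fun _ => Nat) (Ptab_42) (Ptab_43) (Nat.ble 43 c)
noncomputable def Ptab_s_41_44 (c : Nat) : Nat := @Bool.rec (fun _ => Nat) (Ptab_41) (Ptab_s_42_44 c) (Nat.ble 42 c)
noncomputable def Ptab_s_38_44 (c : Nat) : Nat := @Bool.rec (fun _ => Nat) (Ptab_s_38_41 c) (Ptab_s_41_44 c) (Nat.ble 41 c)
noncomputable def Ptab_s_45_47 (c : Nat) : Nat := @Bool.rec (fun _ => Nat) (Ptab_45) (Ptab_46) (Nat.ble 46 c)
noncomputable def Ptab_s_44_47 (c : Nat) : Nat := @Bool.rec (fun _ => Nat) (Ptab_44) (Ptab_s_45_47 c) (Nat.ble 45 c)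
noncomputable def Ptab_s_47_49 (c : Nat) : Nat := @Bool.rec (fun _ => Nat) (Ptab_47) (Ptab_48) (Nat.ble 48 c)
noncomputable def Ptab_s_49_51 (c : Nat) : Nat := @Bool.rec (fun _ => Nat) (Ptab_49) (Ptab_50) (Nat.ble 50 c)
noncomputable def Ptab_s_47_51 (c : Nat) : Nat := @Bool.rec (fun _ => Nat) (Ptab_s_47_49 c) (Ptab_s_49_51 c) (Nat.ble 49 c)
noncomputable def Ptab_s_44_51 (c : Nat) : Nat := @Bool.rec (fun _ => Nat) (Ptab_s_44_47 c) (Ptab_s_47_51 c) (Nat.ble 47 c)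
noncomputable def Ptab_s_38_51 (c : Nat) : Nat := @Bool.rec (fun _ => Nat) (Ptab_s_38_44 c) (Ptab_s_44_51 c) (Nat.ble 44 c)
noncomputable def Ptab_s_25_51 (c : Nat) : Nat := @Bool.rec (fun _ => Nat) (Ptab_s_25_38 c) (Ptab_s_38_51 c) (Nat.ble 38 c)
noncomputable def Ptab_s_0_51 (c : Nat) : Nat := @Bool.rec (fun _ => Nat) (Ptab_s_0_25 c) (Ptab_s_25_51 c) (Nat.ble 25 c)
noncomputable def Ptab_s_52_54 (c : Nat) : Nat := @Bool.rec (fun _ => Nat) (Ptab_52) (Ptab_53) (Nat.ble 53 c)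
noncomputable def Ptab_s_51_54 (c : Nat) : Nat := @Bool.rec (fun _ => Nat) (Ptab_51) (Ptab_s_52_54 c) (Nat.ble 52 c)
noncomputable def Ptab_s_55_57 (c : Nat) : Nat := @Bool.rec (fun _ => Nat) (Ptab_55) (Ptab_56) (Nat.ble 56 c)
noncomputable def Ptab_s_54_57 (c : Nat) : Nat := @Bool.rec (fun _ => Nat) (Ptab_54) (Ptab_s_55_57 c) (Nat.ble 55 c)
noncomputable def Ptab_s_51_57 (c : Nat) : Nat := @Bool.rec (fun _ => Nat) (Ptab_s_51_54 c) (Ptab_s_54_57 c) (Nat.ble 54 c)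
noncomputable def Ptab_s_58_60 (c : Nat) : Nat := @Bool.rec (fun _ => Nat) (Ptab_58) (Ptab_59) (Nat.ble 59 c)
noncomputable def Ptab_s_57_60 (c : Nat) : Nat := @Bool.rec (fun _ => Nat) (Ptab_57) (Ptab_s_58_60 c) (Nat.ble 58 c)
noncomputable def Ptab_s_61_63 (c : Nat) : Nat := @Bool.rec (fun _ => Nat) (Ptab_61) (Ptab_62) (Nat.ble 62 c)
noncomputable def Ptab_s_60_63 (c : Nat) : Nat := @Bool.rec (fun _ => Nat) (Ptab_60) (Ptab_s_61_63 c) (Nat.ble 61 c)
noncomputable def Ptab_s_57_63 (c : Nat) : Nat := @Bool.rec (fun _ => Nat) (Ptab_s_57_60 c) (Ptab_s_60_63 c) (Nat.ble 60 c)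
noncomputable def Ptab_s_51_63 (c : Nat) : Nat := @Bool.rec (fun _ => Nat) (Ptab_s_51_57 c) (Ptab_s_57_63 c) (Nat.ble 57 c)
noncomputable def Ptab_s_64_66 (c : Nat) : Nat := @Bool.rec (fun _ => Nat) (Ptab_64) (Ptab_65) (Nat.ble 65 c)
noncomputable def Ptab_s_63_66 (c : Nat) : Nat := @Bool.rec (fun _ => Nat) (Ptab_63) (Ptab_s_64_66 c) (Nat.ble 64 c)
noncomputable def Ptab_s_67_69 (c : Nat) : Nat := @Bool.rec (fun _ => Nat) (Ptab_67) (Ptab_68) (Nat.ble 68 c)
noncomputable def Ptab_s_66_69 (c : Nat) : Nat := @Bool.rec (fun _ => Nat) (Ptab_66) (Ptab_s_67_69 c) (Nat.ble 67 c)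
noncomputable def Ptab_s_63_69 (c : Nat) : Nat := @Bool.rec (fun _ => Nat) (Ptab_s_63_66 c) (Ptab_s_66_69 c) (Nat.ble 66 c)
noncomputable def Ptab_s_70_72 (c : Nat) : Nat := @Bool.rec (fun _ => Nat) (Ptab_70) (Ptab_71) (Nat.ble 71 c)
noncomputable def Ptab_s_69_72 (c : Nat) : Nat := @Bool.rec (fun _ => Nat) (Ptab_69) (Ptab_s_70_72 c) (Nat.ble 70 c)
noncomputable def Ptab_s_72_74 (c : Nat) : Nat := @Bool.rec (fun _ => Nat) (Ptab_72) (Ptab_73) (Nat.ble 73 c)
noncomputable def Ptab_s_74_76 (c : Nat) : Nat := @Bool.rec (fun _ => Nat) (Ptab_74) (Ptab_75) (Nat.ble 75 c)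
noncomputable def Ptab_s_72_76 (c : Nat) : Nat := @Bool.rec (fun _ => Nat) (Ptab_s_72_74 c) (Ptab_s_74_76 c) (Nat.ble 74 c)
noncomputable def Ptab_s_69_76 (c : Nat) : Nat := @Bool.rec (fun _ => Nat) (Ptab_s_69_72 c) (Ptab_s_72_76 c) (Nat.ble 72 c)
noncomputable def Ptab_s_63_76 (c : Nat) : Nat := @Bool.rec (fun _ => Nat) (Ptab_s_63_69 c) (Ptab_s_69_76 c) (Nat.ble 69 c)
noncomputable def Ptab_s_51_76 (c : Nat) : Nat := @Bool.rec (fun _ => Nat) (Ptab_s_51_63 c) (Ptab_s_63_76 c) (Nat.ble 63 c)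
noncomputable def Ptab_s_77_79 (c : Nat) : Nat := @Bool.rec (fun _ => Nat) (Ptab_77) (Ptab_78) (Nat.ble 78 c)
noncomputable def Ptab_s_76_79 (c : Nat) : Nat := @Bool.rec (fun _ => Nat) (Ptab_76) (Ptab_s_77_79 c) (Nat.ble 77 c)
noncomputable def Ptab_s_80_82 (c : Nat) : Nat := @Bool.rec (fun _ => Nat) (Ptab_80) (Ptab_81) (Nat.ble 81 c)
noncomputable def Ptab_s_79_82 (c : Nat) : Nat := @Bool.rec (fun _ => Nat) (Ptab_79) (Ptab_s_80_82 c) (Nat.ble 80 c)
noncomputable def Ptab_s_76_82 (c : Nat) : Nat := @Bool.rec (fun _ => Nat) (Ptab_s_76_79 c) (Ptab_s_79_82 c) (Nat.ble 79 c)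
noncomputable def Ptab_s_83_85 (c : Nat) : Nat := @Bool.rec (fun _ => Nat) (Ptab_83) (Ptab_84) (Nat.ble 84 c)
noncomputable def Ptab_s_82_85 (c : Nat) : Nat := @Bool.rec (fun _ => Nat) (Ptab_82) (Ptab_s_83_85 c) (Nat.ble 83 c)
noncomputable def Ptab_s_85_87 (c : Nat) : Nat := @Bool.rec (fun _ => Nat) (Ptab_85) (Ptab_86) (Nat.ble 86 c)
noncomputable def Ptab_s_87_89 (c : Nat) : Nat := @Bool.rec (fun _ => Nat) (Ptab_87) (Ptab_88) (Nat.ble 88 c)
noncomputable def Ptab_s_85_89 (c : Nat) : Nat := @Bool.rec (fun _ => Nat) (Ptab_s_85_87 c) (Ptab_s_87_89 c) (Nat.ble 87 c)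
noncomputable def Ptab_s_82_89 (c : Nat) : Nat := @Bool.rec (fun _ => Nat) (Ptab_s_82_85 c) (Ptab_s_85_89 c) (Nat.ble 85 c)
noncomputable def Ptab_s_76_89 (c : Nat) : Nat := @Bool.rec (fun _ => Nat) (Ptab_s_76_82 c) (Ptab_s_82_89 c) (Nat.ble 82 c)
noncomputable def Ptab_s_90_92 (c : Nat) : Nat := @Bool.rec (fun _ => Nat) (Ptab_90) (Ptab_91) (Nat.ble 91 c)
noncomputable def Ptab_s_89_92 (c : Nat) : Nat := @Bool.rec (fun _ => Nat) (Ptab_89) (Ptab_s_90_92 c) (Nat.ble 90 c)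
noncomputable def Ptab_s_93_95 (c : Nat) : Nat := @Bool.rec (fun _ => Nat) (Ptab_93) (Ptab_94) (Nat.ble 94 c)
noncomputable def Ptab_s_92_95 (c : Nat) : Nat := @Bool.rec (fun _ => Nat) (Ptab_92) (Ptab_s_93_95 c) (Nat.ble 93 c)
noncomputable def Ptab_s_89_95 (c : Nat) : Nat := @Bool.rec (fun _ => Nat) (Ptab_s_89_92 c) (Ptab_s_92_95 c) (Nat.ble 92 c)
noncomputable def Ptab_s_96_98 (c : Nat) : Nat := @Bool.rec (fun _ => Nat) (Ptab_96) (Ptab_97) (Nat.ble 97 c)
noncomputable def Ptab_s_95_98 (c : Nat) : Nat := @Bool.rec (fun _ => Nat) (Ptab_95) (Ptab_s_96_98 c) (Nat.ble 96 c)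
noncomputable def Ptab_s_98_100 (c : Nat) : Nat := @Bool.rec (fun _ => Nat) (Ptab_98) (Ptab_99) (Nat.ble 99 c)
noncomputable def Ptab_s_100_102 (c : Nat) : Nat := @Bool.rec (fun _ => Nat) (Ptab_100) (Ptab_101) (Nat.ble 101 c)
noncomputable def Ptab_s_98_102 (c : Nat) : Nat := @Bool.rec (fun _ => Nat) (Ptab_s_98_100 c) (Ptab_s_100_102 c) (Nat.ble 100 c)
noncomputable def Ptab_s_95_102 (c : Nat) : Nat := @Bool.rec (fun _ => Nat) (Ptab_s_95_98 c) (Ptab_s_98_102 c) (Nat.ble 98 c)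
noncomputable def Ptab_s_89_102 (c : Nat) : Nat := @Bool.rec (fun _ => Nat) (Ptab_s_89_95 c) (Ptab_s_95_102 c) (Nat.ble 95 c)
noncomputable def Ptab_s_76_102 (c : Nat) : Nat := @Bool.rec (fun _ => Nat) (Ptab_s_76_89 c) (Ptab_s_89_102 c) (Nat.ble 89 c)
noncomputable def Ptab_s_51_102 (c : Nat) : Nat := @Bool.rec (fun _ => Nat) (Ptab_s_51_76 c) (Ptab_s_76_102 c) (Nat.ble 76 c)
noncomputable def Ptab_s_0_102 (c : Nat) : Nat := @Bool.rec (fun _ => Nat) (Ptab_s_0_51 c) (Ptab_s_51_102 c) (Nat.ble 51 c)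
noncomputable def Ptab_s_103_105 (c : Nat) : Nat := @Bool.rec (fun _ => Nat) (Ptab_103) (Ptab_104) (Nat.ble 104 c)
noncomputable def Ptab_s_102_105 (c : Nat) : Nat := @Bool.rec (fun _ => Nat) (Ptab_102) (Ptab_s_103_105 c) (Nat.ble 103 c)
noncomputable def Ptab_s_106_108 (c : Nat) : Nat := @Bool.rec (fun _ => Nat) (Ptab_106) (Ptab_107) (Nat.ble 107 c)
noncomputable def Ptab_s_105_108 (c : Nat) : Nat := @Bool.rec (fun _ => Nat) (Ptab_105) (Ptab_s_106_108 c) (Nat.ble 106 c)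
noncomputable def Ptab_s_102_108 (c : Nat) : Nat := @Bool.rec (fun _ => Nat) (Ptab_s_102_105 c) (Ptab_s_105_108 c) (Nat.ble 105 c)
noncomputable def Ptab_s_109_111 (c : Nat) : Nat := @Bool.rec (fun _ => Nat) (Ptab_109) (Ptab_110) (Nat.ble 110 c)
noncomputable def Ptab_s_108_111 (c : Nat) : Nat := @Bool.rec (fun _ => Nat) (Ptab_108) (Ptab_s_109_111 c) (Nat.ble 109 c)
noncomputable def Ptab_s_112_114 (c : Nat) : Nat := @Bool.rec (fun _ => Nat) (Ptab_112) (Ptab_113) (Nat.ble 113 c)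
noncomputable def Ptab_s_111_114 (c : Nat) : Nat := @Bool.rec (fun _ => Nat) (Ptab_111) (Ptab_s_112_114 c) (Nat.ble 112 c)
noncomputable def Ptab_s_108_114 (c : Nat) : Nat := @Bool.rec (fun _ => Nat) (Ptab_s_108_111 c) (Ptab_s_111_114 c) (Nat.ble 111 c)
noncomputable def Ptab_s_102_114 (c : Nat) : Nat := @Bool.rec (fun _ => Nat) (Ptab_s_102_108 c) (Ptab_s_108_114 c) (Nat.ble 108 c)
noncomputable def Ptab_s_115_117 (c : Nat) : Nat := @Bool.rec (fun _ => Nat) (Ptab_115) (Ptab_116) (Nat.ble 116 c)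
noncomputable def Ptab_s_114_117 (c : Nat) : Nat := @Bool.rec (fun _ => Nat) (Ptab_114) (Ptab_s_115_117 c) (Nat.ble 115 c)
noncomputable def Ptab_s_118_120 (c : Nat) : Nat := @Bool.rec (fun _ => Nat) (Ptab_118) (Ptab_119) (Nat.ble 119 c)
noncomputable def Ptab_s_117_120 (c : Nat) : Nat := @Bool.rec (fun _ => Nat) (Ptab_117) (Ptab_s_118_120 c) (Nat.ble 118 c)
noncomputable def Ptab_s_114_120 (c : Nat) : Nat := @Bool.rec (fun _ => Nat) (Ptab_s_114_117 c) (Ptab_s_117_120 c) (Nat.ble 117 c)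
noncomputable def Ptab_s_121_123 (c : Nat) : Nat := @Bool.rec (fun _ => Nat) (Ptab_121) (Ptab_122) (Nat.ble 122 c)
noncomputable def Ptab_s_120_123 (c : Nat) : Nat := @Bool.rec (fun _ => Nat) (Ptab_120) (Ptab_s_121_123 c) (Nat.ble 121 c)
noncomputable def Ptab_s_123_125 (c : Nat) : Nat := @Bool.rec (fun _ => Nat) (Ptab_123) (Ptab_124) (Nat.ble 124 c)
noncomputable def Ptab_s_125_127 (c : Nat) : Nat := @Bool.rec (fun _ => Nat) (Ptab_125) (Ptab_126) (Nat.ble 126 c)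
noncomputable def Ptab_s_123_127 (c : Nat) : Nat := @Bool.rec (fun _ => Nat) (Ptab_s_123_125 c) (Ptab_s_125_127 c) (Nat.ble 125 c)
noncomputable def Ptab_s_120_127 (c : Nat) : Nat := @Bool.rec (fun _ => Nat) (Ptab_s_120_123 c) (Ptab_s_123_127 c) (Nat.ble 123 c)
noncomputable def Ptab_s_114_127 (c : Nat) : Nat := @Bool.rec (fun _ => Nat) (Ptab_s_114_120 c) (Ptab_s_120_127 c) (Nat.ble 120 c)
noncomputable def Ptab_s_102_127 (c : Nat) : Nat := @Bool.rec (fun _ => Nat) (Ptab_s_102_114 c) (Ptab_s_114_127 c) (Nat.ble 114 c)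
noncomputable def Ptab_s_128_130 (c : Nat) : Nat := @Bool.rec (fun _ => Nat) (Ptab_128) (Ptab_129) (Nat.ble 129 c)
noncomputable def Ptab_s_127_130 (c : Nat) : Nat := @Bool.rec (fun _ => Nat) (Ptab_127) (Ptab_s_128_130 c) (Nat.ble 128 c)
noncomputable def Ptab_s_131_133 (c : Nat) : Nat := @Bool.rec (fun _ => Nat) (Ptab_131) (Ptab_132) (Nat.ble 132 c)
noncomputable def Ptab_s_130_133 (c : Nat) : Nat := @Bool.rec (fun _ => Nat) (Ptab_130) (Ptab_s_131_133 c) (Nat.ble 131 c)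
noncomputable def Ptab_s_127_133 (c : Nat) : Nat := @Bool.rec (fun _ => Nat) (Ptab_s_127_130 c) (Ptab_s_130_133 c) (Nat.ble 130 c)
noncomputable def Ptab_s_134_136 (c : Nat) : Nat := @Bool.rec (fun _ => Nat) (Ptab_134) (Ptab_135) (Nat.ble 135 c)
noncomputable def Ptab_s_133_136 (c : Nat) : Nat := @Bool.rec (fun _ => Nat) (Ptab_133) (Ptab_s_134_136 c) (Nat.ble 134 c)
noncomputable def Ptab_s_136_138 (c : Nat) : Nat := @Bool.rec (fun _ => Nat) (Ptab_136) (Ptab_137) (Nat.ble 137 c)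
noncomputable def Ptab_s_138_140 (c : Nat) : Nat := @Bool.rec (fun _ => Nat) (Ptab_138) (Ptab_139) (Nat.ble 139 c)
noncomputable def Ptab_s_136_140 (c : Nat) : Nat := @Bool.rec (fun _ => Nat) (Ptab_s_136_138 c) (Ptab_s_138_140 c) (Nat.ble 138 c)
noncomputable def Ptab_s_133_140 (c : Nat) : Nat := @Bool.rec (fun _ => Nat) (Ptab_s_133_136 c) (Ptab_s_136_140 c) (Nat.ble 136 c)
noncomputable def Ptab_s_127_140 (c : Nat) : Nat := @Bool.rec (fun _ => Nat) (Ptab_s_127_133 c) (Ptab_s_133_140 c) (Nat.ble 133 c)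
noncomputable def Ptab_s_141_143 (c : Nat) : Nat := @Bool.rec (fun _ => Nat) (Ptab_141) (Ptab_142) (Nat.ble 142 c)
noncomputable def Ptab_s_140_143 (c : Nat) : Nat := @Bool.rec (fun _ => Nat) (Ptab_140) (Ptab_s_141_143 c) (Nat.ble 141 c)
noncomputable def Ptab_s_144_146 (c : Nat) : Nat := @Bool.rec (fun _ => Nat) (Ptab_144) (Ptab_145) (Nat.ble 145 c)
noncomputable def Ptab_s_143_146 (c : Nat) : Nat := @Bool.rec (fun _ => Nat) (Ptab_143) (Ptab_s_144_146 c) (Nat.ble 144 c)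
noncomputable def Ptab_s_140_146 (c : Nat) : Nat := @Bool.rec (fun _ => Nat) (Ptab_s_140_143 c) (Ptab_s_143_146 c) (Nat.ble 143 c)
noncomputable def Ptab_s_147_149 (c : Nat) : Nat := @Bool.rec (fun _ => Nat) (Ptab_147) (Ptab_148) (Nat.ble 148 c)
noncomputable def Ptab_s_146_149 (c : Nat) : Nat := @Bool.rec (fun _ => Nat) (Ptab_146) (Ptab_s_147_149 c) (Nat.ble 147 c)
noncomputable def Ptab_s_149_151 (c : Nat) : Nat := @Bool.rec (fun _ => Nat) (Ptab_149) (Ptab_150) (Nat.ble 150 c)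
noncomputable def Ptab_s_151_153 (c : Nat) : Nat := @Bool.rec (fun _ => Nat) (Ptab_151) (Ptab_152) (Nat.ble 152 c)
noncomputable def Ptab_s_149_153 (c : Nat) : Nat := @Bool.rec (fun _ => Nat) (Ptab_s_149_151 c) (Ptab_s_151_153 c) (Nat.ble 151 c)
noncomputable def Ptab_s_146_153 (c : Nat) : Nat := @Bool.rec (fun _ => Nat) (Ptab_s_146_149 c) (Ptab_s_149_153 c) (Nat.ble 149 c)
noncomputable def Ptab_s_140_153 (c : Nat) : Nat := @Bool.rec (fun _ => Nat) (Ptab_s_140_146 c) (Ptab_s_146_153 c) (Nat.ble 146 c)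
noncomputable def Ptab_s_127_153 (c : Nat) : Nat := @Bool.rec (fun _ => Nat) (Ptab_s_127_140 c) (Ptab_s_140_153 c) (Nat.ble 140 c)
noncomputable def Ptab_s_102_153 (c : Nat) : Nat := @Bool.rec (fun _ => Nat) (Ptab_s_102_127 c) (Ptab_s_127_153 c) (Nat.ble 127 c)
noncomputable def Ptab_s_154_156 (c : Nat) : Nat := @Bool.rec (fun _ => Nat) (Ptab_154) (Ptab_155) (Nat.ble 155 c)
noncomputable def Ptab_s_153_156 (c : Nat) : Nat := @Bool.rec (fun _ => Nat) (Ptab_153) (Ptab_s_154_156 c) (Nat.ble 154 c)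
noncomputable def Ptab_s_157_159 (c : Nat) : Nat := @Bool.rec (fun _ => Nat) (Ptab_157) (Ptab_158) (Nat.ble 158 c)
noncomputable def Ptab_s_156_159 (c : Nat) : Nat := @Bool.rec (fun _ => Nat) (Ptab_156) (Ptab_s_157_159 c) (Nat.ble 157 c)
noncomputable def Ptab_s_153_159 (c : Nat) : Nat := @Bool.rec (fun _ => Nat) (Ptab_s_153_156 c) (Ptab_s_156_159 c) (Nat.ble 156 c)
noncomputable def Ptab_s_160_162 (c : Nat) : Nat := @Bool.rec (fun _ => Nat) (Ptab_160) (Ptab_161) (Nat.ble 161 c)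
noncomputable def Ptab_s_159_162 (c : Nat) : Nat := @Bool.rec (fun _ => Nat) (Ptab_159) (Ptab_s_160_162 c) (Nat.ble 160 c)
noncomputable def Ptab_s_162_164 (c : Nat) : Nat := @Bool.rec (fun _ => Nat) (Ptab_162) (Ptab_163) (Nat.ble 163 c)
noncomputable def Ptab_s_164_166 (c : Nat) : Nat := @Bool.rec (fun _ => Nat) (Ptab_164) (Ptab_165) (Nat.ble 165 c)
noncomputable def Ptab_s_162_166 (c : Nat) : Nat := @Bool.rec (fun _ => Nat) (Ptab_s_162_164 c) (Ptab_s_164_166 c) (Nat.ble 164 c)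
noncomputable def Ptab_s_159_166 (c : Nat) : Nat := @Bool.rec (fun _ => Nat) (Ptab_s_159_162 c) (Ptab_s_162_166 c) (Nat.ble 162 c)
noncomputable def Ptab_s_153_166 (c : Nat) : Nat := @Bool.rec (fun _ => Nat) (Ptab_s_153_159 c) (Ptab_s_159_166 c) (Nat.ble 159 c)
noncomputable def Ptab_s_167_169 (c : Nat) : Nat := @Bool.rec (fun _ => Nat) (Ptab_167) (Ptab_168) (Nat.ble 168 c)
noncomputable def Ptab_s_166_169 (c : Nat) : Nat := @Bool.rec (fun _ => Nat) (Ptab_166) (Ptab_s_167_169 c) (Nat.ble 167 c)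
noncomputable def Ptab_s_170_172 (c : Nat) : Nat := @Bool.rec (fun _ => Nat) (Ptab_170) (Ptab_171) (Nat.ble 171 c)
noncomputable def Ptab_s_169_172 (c : Nat) : Nat := @Bool.rec (fun _ => Nat) (Ptab_169) (Ptab_s_170_172 c) (Nat.ble 170 c)
noncomputable def Ptab_s_166_172 (c : Nat) : Nat := @Bool.rec (fun _ => Nat) (Ptab_s_166_169 c) (Ptab_s_169_172 c) (Nat.ble 169 c)
noncomputable def Ptab_s_173_175 (c : Nat) : Nat := @Bool.rec (fun _ => Nat) (Ptab_173) (Ptab_174) (Nat.ble 174 c)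
noncomputable def Ptab_s_172_175 (c : Nat) : Nat := @Bool.rec (fun _ => Nat) (Ptab_172) (Ptab_s_173_175 c) (Nat.ble 173 c)
noncomputable def Ptab_s_175_177 (c : Nat) : Nat := @Bool.rec (fun _ => Nat) (Ptab_175) (Ptab_176) (Nat.ble 176 c)
noncomputable def Ptab_s_177_179 (c : Nat) : Nat := @Bool.rec (fun _ => Nat) (Ptab_177) (Ptab_178) (Nat.ble 178 c)
noncomputable def Ptab_s_175_179 (c : Nat) : Nat := @Bool.rec (fun _ => Nat) (Ptab_s_175_177 c) (Ptab_s_177_179 c) (Nat.ble 177 c)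
noncomputable def Ptab_s_172_179 (c : Nat) : Nat := @Bool.rec (fun _ => Nat) (Ptab_s_172_175 c) (Ptab_s_175_179 c) (Nat.ble 175 c)
noncomputable def Ptab_s_166_179 (c : Nat) : Nat := @Bool.rec (fun _ => Nat) (Ptab_s_166_172 c) (Ptab_s_172_179 c) (Nat.ble 172 c)
noncomputable def Ptab_s_153_179 (c : Nat) : Nat := @Bool.rec (fun _ => Nat) (Ptab_s_153_166 c) (Ptab_s_166_179 c) (Nat.ble 166 c)
noncomputable def Ptab_s_180_182 (c : Nat) : Nat := @Bool.rec (fun _ => Nat) (Ptab_180) (Ptab_181) (Nat.ble 181 c)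
noncomputable def Ptab_s_179_182 (c : Nat) : Nat := @Bool.rec (fun _ => Nat) (Ptab_179) (Ptab_s_180_182 c) (Nat.ble 180 c)
noncomputable def Ptab_s_183_185 (c : Nat) : Nat := @Bool.rec (fun _ => Nat) (Ptab_183) (Ptab_184) (Nat.ble 184 c)
noncomputable def Ptab_s_182_185 (c : Nat) : Nat := @Bool.rec (fun _ => Nat) (Ptab_182) (Ptab_s_183_185 c) (Nat.ble 183 c)
noncomputable def Ptab_s_179_185 (c : Nat) : Nat := @Bool.rec (fun _ => Nat) (Ptab_s_179_182 c) (Ptab_s_182_185 c) (Nat.ble 182 c)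
noncomputable def Ptab_s_186_188 (c : Nat) : Nat := @Bool.rec (fun _ => Nat) (Ptab_186) (Ptab_187) (Nat.ble 187 c)
noncomputable def Ptab_s_185_188 (c : Nat) : Nat := @Bool.rec (fun _ => Nat) (Ptab_185) (Ptab_s_186_188 c) (Nat.ble 186 c)
noncomputable def Ptab_s_188_190 (c : Nat) : Nat := @Bool.rec (fun _ => Nat) (Ptab_188) (Ptab_189) (Nat.ble 189 c)
noncomputable def Ptab_s_190_192 (c : Nat) : Nat := @Bool.rec (fun _ => Nat) (Ptab_190) (Ptab_191) (Nat.ble 191 c)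
noncomputable def Ptab_s_188_192 (c : Nat) : Nat := @Bool.rec (fun _ => Nat) (Ptab_s_188_190 c) (Ptab_s_190_192 c) (Nat.ble 190 c)
noncomputable def Ptab_s_185_192 (c : Nat) : Nat := @Bool.rec (fun _ => Nat) (Ptab_s_185_188 c) (Ptab_s_188_192 c) (Nat.ble 188 c)
noncomputable def Ptab_s_179_192 (c : Nat) : Nat := @Bool.rec (fun _ => Nat) (Ptab_s_179_185 c) (Ptab_s_185_192 c) (Nat.ble 185 c)
noncomputable def Ptab_s_193_195 (c : Nat) : Nat := @Bool.rec (fun _ => Nat) (Ptab_193) (Ptab_194) (Nat.ble 194 c)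
noncomputable def Ptab_s_192_195 (c : Nat) : Nat := @Bool.rec (fun _ => Nat) (Ptab_192) (Ptab_s_193_195 c) (Nat.ble 193 c)
noncomputable def Ptab_s_196_198 (c : Nat) : Nat := @Bool.rec (fun _ => Nat) (Ptab_196) (Ptab_197) (Nat.ble 197 c)
noncomputable def Ptab_s_195_198 (c : Nat) : Nat := @Bool.rec (fun _ => Nat) (Ptab_195) (Ptab_s_196_198 c) (Nat.ble 196 c)
noncomputable def Ptab_s_192_198 (c : Nat) : Nat := @Bool.rec (fun _ => Nat) (Ptab_s_192_195 c) (Ptab_s_195_198 c) (Nat.ble 195 c)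
noncomputable def Ptab_s_199_201 (c : Nat) : Nat := @Bool.rec (fun _ => Nat) (Ptab_199) (Ptab_200) (Nat.ble 200 c)
noncomputable def Ptab_s_198_201 (c : Nat) : Nat := @Bool.rec (fun _ => Nat) (Ptab_198) (Ptab_s_199_201 c) (Nat.ble 199 c)
noncomputable def Ptab_s_201_203 (c : Nat) : Nat := @Bool.rec (fun _ => Nat) (Ptab_201) (Ptab_202) (Nat.ble 202 c)
noncomputable def Ptab_s_203_205 (c : Nat) : Nat := @Bool.rec (fun _ => Nat) (Ptab_203) (Ptab_204) (Nat.ble 204 c)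
noncomputable def Ptab_s_201_205 (c : Nat) : Nat := @Bool.rec (fun _ => Nat) (Ptab_s_201_203 c) (Ptab_s_203_205 c) (Nat.ble 203 c)
noncomputable def Ptab_s_198_205 (c : Nat) : Nat := @Bool.rec (fun _ => Nat) (Ptab_s_198_201 c) (Ptab_s_201_205 c) (Nat.ble 201 c)
noncomputable def Ptab_s_192_205 (c : Nat) : Nat := @Bool.rec (fun _ => Nat) (Ptab_s_192_198 c) (Ptab_s_198_205 c) (Nat.ble 198 c)
noncomputable def Ptab_s_179_205 (c : Nat) : Nat := @Bool.rec (fun _ => Nat) (Ptab_s_179_192 c) (Ptab_s_192_205 c) (Nat.ble 192 c)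
noncomputable def Ptab_s_153_205 (c : Nat) : Nat := @Bool.rec (fun _ => Nat) (Ptab_s_153_179 c) (Ptab_s_179_205 c) (Nat.ble 179 c)
noncomputable def Ptab_s_102_205 (c : Nat) : Nat := @Bool.rec (fun _ => Nat) (Ptab_s_102_153 c) (Ptab_s_153_205 c) (Nat.ble 153 c)
noncomputable def Ptab_s_0_205 (c : Nat) : Nat := @Bool.rec (fun _ => Nat) (Ptab_s_0_102 c) (Ptab_s_102_205 c) (Nat.ble 102 c)
noncomputable def Ptab_s_206_208 (c : Nat) : Nat := @Bool.rec (fun _ => Nat) (Ptab_206) (Ptab_207) (Nat.ble 207 c)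
noncomputable def Ptab_s_205_208 (c : Nat) : Nat := @Bool.rec (fun _ => Nat) (Ptab_205) (Ptab_s_206_208 c) (Nat.ble 206 c)
noncomputable def Ptab_s_209_211 (c : Nat) : Nat := @Bool.rec (fun _ => Nat) (Ptab_209) (Ptab_210) (Nat.ble 210 c)
noncomputable def Ptab_s_208_211 (c : Nat) : Nat := @Bool.rec (fun _ => Nat) (Ptab_208) (Ptab_s_209_211 c) (Nat.ble 209 c)
noncomputable def Ptab_s_205_211 (c : Nat) : Nat := @Bool.rec (fun _ => Nat) (Ptab_s_205_208 c) (Ptab_s_208_211 c) (Nat.ble 208 c)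
noncomputable def Ptab_s_212_214 (c : Nat) : Nat := @Bool.rec (fun _ => Nat) (Ptab_212) (Ptab_213) (Nat.ble 213 c)
noncomputable def Ptab_s_211_214 (c : Nat) : Nat := @Bool.rec (fun _ => Nat) (Ptab_211) (Ptab_s_212_214 c) (Nat.ble 212 c)
noncomputable def Ptab_s_215_217 (c : Nat) : Nat := @Bool.rec (fun _ => Nat) (Ptab_215) (Ptab_216) (Nat.ble 216 c)
noncomputable def Ptab_s_214_217 (c : Nat) : Nat := @Bool.rec (fun _ => Nat) (Ptab_214) (Ptab_s_215_217 c) (Nat.ble 215 c)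
noncomputable def Ptab_s_211_217 (c : Nat) : Nat := @Bool.rec (fun _ => Nat) (Ptab_s_211_214 c) (Ptab_s_214_217 c) (Nat.ble 214 c)
noncomputable def Ptab_s_205_217 (c : Nat) : Nat := @Bool.rec (fun _ => Nat) (Ptab_s_205_211 c) (Ptab_s_211_217 c) (Nat.ble 211 c)
noncomputable def Ptab_s_218_220 (c : Nat) : Nat := @Bool.rec (fun _ => Nat) (Ptab_218) (Ptab_219) (Nat.ble 219 c)
noncomputable def Ptab_s_217_220 (c : Nat) : Nat := @Bool.rec (fun _ => Nat) (Ptab_217) (Ptab_s_218_220 c) (Nat.ble 218 c)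
noncomputable def Ptab_s_221_223 (c : Nat) : Nat := @Bool.rec (fun _ => Nat) (Ptab_221) (Ptab_222) (Nat.ble 222 c)
noncomputable def Ptab_s_220_223 (c : Nat) : Nat := @Bool.rec (fun _ => Nat) (Ptab_220) (Ptab_s_221_223 c) (Nat.ble 221 c)
noncomputable def Ptab_s_217_223 (c : Nat) : Nat := @Bool.rec (fun _ => Nat) (Ptab_s_217_220 c) (Ptab_s_220_223 c) (Nat.ble 220 c)
noncomputable def Ptab_s_224_226 (c : Nat) : Nat := @Bool.rec (fun _ => Nat) (Ptab_224) (Ptab_225) (Nat.ble 225 c)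
noncomputable def Ptab_s_223_226 (c : Nat) : Nat := @Bool.rec (fun _ => Nat) (Ptab_223) (Ptab_s_224_226 c) (Nat.ble 224 c)
noncomputable def Ptab_s_226_228 (c : Nat) : Nat := @Bool.rec (fun _ => Nat) (Ptab_226) (Ptab_227) (Nat.ble 227 c)
noncomputable def Ptab_s_228_230 (c : Nat) : Nat := @Bool.rec (fun _ => Nat) (Ptab_228) (Ptab_229) (Nat.ble 229 c)
noncomputable def Ptab_s_226_230 (c : Nat) : Nat := @Bool.rec (fun _ => Nat) (Ptab_s_226_228 c) (Ptab_s_228_230 c) (Nat.ble 228 c)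
noncomputable def Ptab_s_223_230 (c : Nat) : Nat := @Bool.rec (fun _ => Nat) (Ptab_s_223_226 c) (Ptab_s_226_230 c) (Nat.ble 226 c)
noncomputable def Ptab_s_217_230 (c : Nat) : Nat := @Bool.rec (fun _ => Nat) (Ptab_s_217_223 c) (Ptab_s_223_230 c) (Nat.ble 223 c)
noncomputable def Ptab_s_205_230 (c : Nat) : Nat := @Bool.rec (fun _ => Nat) (Ptab_s_205_217 c) (Ptab_s_217_230 c) (Nat.ble 217 c)
noncomputable def Ptab_s_231_233 (c : Nat) : Nat := @Bool.rec (fun _ => Nat) (Ptab_231) (Ptab_232) (Nat.ble 232 c)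
noncomputable def Ptab_s_230_233 (c : Nat) : Nat := @Bool.rec (fun _ => Nat) (Ptab_230) (Ptab_s_231_233 c) (Nat.ble 231 c)
noncomputable def Ptab_s_234_236 (c : Nat) : Nat := @Bool.rec (fun _ => Nat) (Ptab_234) (Ptab_235) (Nat.ble 235 c)
noncomputable def Ptab_s_233_236 (c : Nat) : Nat := @Bool.rec (fun _ => Nat) (Ptab_233) (Ptab_s_234_236 c) (Nat.ble 234 c)
noncomputable def Ptab_s_230_236 (c : Nat) : Nat := @Bool.rec (fun _ => Nat) (Ptab_s_230_233 c) (Ptab_s_233_236 c) (Nat.ble 233 c)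
noncomputable def Ptab_s_237_239 (c : Nat) : Nat := @Bool.rec (fun _ => Nat) (Ptab_237) (Ptab_238) (Nat.ble 238 c)
noncomputable def Ptab_s_236_239 (c : Nat) : Nat := @Bool.rec (fun _ => Nat) (Ptab_236) (Ptab_s_237_239 c) (Nat.ble 237 c)
noncomputable def Ptab_s_239_241 (c : Nat) : Nat := @Bool.rec (fun _ => Nat) (Ptab_239) (Ptab_240) (Nat.ble 240 c)
noncomputable def Ptab_s_241_243 (c : Nat) : Nat := @Bool.rec (fun _ => Nat) (Ptab_241) (Ptab_242) (Nat.ble 242 c)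
noncomputable def Ptab_s_239_243 (c : Nat) : Nat := @Bool.rec (fun _ => Nat) (Ptab_s_239_241 c) (Ptab_s_241_243 c) (Nat.ble 241 c)
noncomputable def Ptab_s_236_243 (c : Nat) : Nat := @Bool.rec (fun _ => Nat) (Ptab_s_236_239 c) (Ptab_s_239_243 c) (Nat.ble 239 c)
noncomputable def Ptab_s_230_243 (c : Nat) : Nat := @Bool.rec (fun _ => Nat) (Ptab_s_230_236 c) (Ptab_s_236_243 c) (Nat.ble 236 c)
noncomputable def Ptab_s_244_246 (c : Nat) : Nat := @Bool.rec (fun _ => Nat) (Ptab_244) (Ptab_245) (Nat.ble 245 c)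
noncomputable def Ptab_s_243_246 (c : Nat) : Nat := @Bool.rec (fun _ => Nat) (Ptab_243) (Ptab_s_244_246 c) (Nat.ble 244 c)
noncomputable def Ptab_s_247_249 (c : Nat) : Nat := @Bool.rec (fun _ => Nat) (Ptab_247) (Ptab_248) (Nat.ble 248 c)
noncomputable def Ptab_s_246_249 (c : Nat) : Nat := @Bool.rec (fun _ => Nat) (Ptab_246) (Ptab_s_247_249 c) (Nat.ble 247 c)
noncomputable def Ptab_s_243_249 (c : Nat) : Nat := @Bool.rec (fun _ => Nat) (Ptab_s_243_246 c) (Ptab_s_246_249 c) (Nat.ble 246 c)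
noncomputable def Ptab_s_250_252 (c : Nat) : Nat := @Bool.rec (fun _ => Nat) (Ptab_250) (Ptab_251) (Nat.ble 251 c)
noncomputable def Ptab_s_249_252 (c : Nat) : Nat := @Bool.rec (fun _ => Nat) (Ptab_249) (Ptab_s_250_252 c) (Nat.ble 250 c)
noncomputable def Ptab_s_252_254 (c : Nat) : Nat := @Bool.rec (fun _ => Nat) (Ptab_252) (Ptab_253) (Nat.ble 253 c)
noncomputable def Ptab_s_254_256 (c : Nat) : Nat := @Bool.rec (fun _ => Nat) (Ptab_254) (Ptab_255) (Nat.ble 255 c)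
noncomputable def Ptab_s_252_256 (c : Nat) : Nat := @Bool.rec (fun _ => Nat) (Ptab_s_252_254 c) (Ptab_s_254_256 c) (Nat.ble 254 c)
noncomputable def Ptab_s_249_256 (c : Nat) : Nat := @Bool.rec (fun _ => Nat) (Ptab_s_249_252 c) (Ptab_s_252_256 c) (Nat.ble 252 c)
noncomputable def Ptab_s_243_256 (c : Nat) : Nat := @Bool.rec (fun _ => Nat) (Ptab_s_243_249 c) (Ptab_s_249_256 c) (Nat.ble 249 c)
noncomputable def Ptab_s_230_256 (c : Nat) : Nat := @Bool.rec (fun _ => Nat) (Ptab_s_230_243 c) (Ptab_s_243_256 c) (Nat.ble 243 c)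
noncomputable def Ptab_s_205_256 (c : Nat) : Nat := @Bool.rec (fun _ => Nat) (Ptab_s_205_230 c) (Ptab_s_230_256 c) (Nat.ble 230 c)
noncomputable def Ptab_s_257_259 (c : Nat) : Nat := @Bool.rec (fun _ => Nat) (Ptab_257) (Ptab_258) (Nat.ble 258 c)
noncomputable def Ptab_s_256_259 (c : Nat) : Nat := @Bool.rec (fun _ => Nat) (Ptab_256) (Ptab_s_257_259 c) (Nat.ble 257 c)
noncomputable def Ptab_s_260_262 (c : Nat) : Nat := @Bool.rec (fun _ => Nat) (Ptab_260) (Ptab_261) (Nat.ble 261 c)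
noncomputable def Ptab_s_259_262 (c : Nat) : Nat := @Bool.rec (fun _ => Nat) (Ptab_259) (Ptab_s_260_262 c) (Nat.ble 260 c)
noncomputable def Ptab_s_256_262 (c : Nat) : Nat := @Bool.rec (fun _ => Nat) (Ptab_s_256_259 c) (Ptab_s_259_262 c) (Nat.ble 259 c)
noncomputable def Ptab_s_263_265 (c : Nat) : Nat := @Bool.rec (fun _ => Nat) (Ptab_263) (Ptab_264) (Nat.ble 264 c)
noncomputable def Ptab_s_262_265 (c : Nat) : Nat := @Bool.rec (fun _ => Nat) (Ptab_262) (Ptab_s_263_265 c) (Nat.ble 263 c)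
noncomputable def Ptab_s_266_268 (c : Nat) : Nat := @Bool.rec (fun _ => Nat) (Ptab_266) (Ptab_267) (Nat.ble 267 c)
noncomputable def Ptab_s_265_268 (c : Nat) : Nat := @Bool.rec (fun _ => Nat) (Ptab_265) (Ptab_s_266_268 c) (Nat.ble 266 c)
noncomputable def Ptab_s_262_268 (c : Nat) : Nat := @Bool.rec (fun _ => Nat) (Ptab_s_262_265 c) (Ptab_s_265_268 c) (Nat.ble 265 c)
noncomputable def Ptab_s_256_268 (c : Nat) : Nat := @Bool.rec (fun _ => Nat) (Ptab_s_256_262 c) (Ptab_s_262_268 c) (Nat.ble 262 c)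
noncomputable def Ptab_s_269_271 (c : Nat) : Nat := @Bool.rec (fun _ => Nat) (Ptab_269) (Ptab_270) (Nat.ble 270 c)
noncomputable def Ptab_s_268_271 (c : Nat) : Nat := @Bool.rec (fun _ => Nat) (Ptab_268) (Ptab_s_269_271 c) (Nat.ble 269 c)
noncomputable def Ptab_s_272_274 (c : Nat) : Nat := @Bool.rec (fun _ => Nat) (Ptab_272) (Ptab_273) (Nat.ble 273 c)
noncomputable def Ptab_s_271_274 (c : Nat) : Nat := @Bool.rec (fun _ => Nat) (Ptab_271) (Ptab_s_272_274 c) (Nat.ble 272 c)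
noncomputable def Ptab_s_268_274 (c : Nat) : Nat := @Bool.rec (fun _ => Nat) (Ptab_s_268_271 c) (Ptab_s_271_274 c) (Nat.ble 271 c)
noncomputable def Ptab_s_275_277 (c : Nat) : Nat := @Bool.rec (fun _ => Nat) (Ptab_275) (Ptab_276) (Nat.ble 276 c)
noncomputable def Ptab_s_274_277 (c : Nat) : Nat := @Bool.rec (fun _ => Nat) (Ptab_274) (Ptab_s_275_277 c) (Nat.ble 275 c)
noncomputable def Ptab_s_277_279 (c : Nat) : Nat := @Bool.rec (fun _ => Nat) (Ptab_277) (Ptab_278) (Nat.ble 278 c)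
noncomputable def Ptab_s_279_281 (c : Nat) : Nat := @Bool.rec (fun _ => Nat) (Ptab_279) (Ptab_280) (Nat.ble 280 c)
noncomputable def Ptab_s_277_281 (c : Nat) : Nat := @Bool.rec (fun _ => Nat) (Ptab_s_277_279 c) (Ptab_s_279_281 c) (Nat.ble 279 c)
noncomputable def Ptab_s_274_281 (c : Nat) : Nat := @Bool.rec (fun _ => Nat) (Ptab_s_274_277 c) (Ptab_s_277_281 c) (Nat.ble 277 c)
noncomputable def Ptab_s_268_281 (c : Nat) : Nat := @Bool.rec (fun _ => Nat) (Ptab_s_268_274 c) (Ptab_s_274_281 c) (Nat.ble 274 c)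
noncomputable def Ptab_s_256_281 (c : Nat) : Nat := @Bool.rec (fun _ => Nat) (Ptab_s_256_268 c) (Ptab_s_268_281 c) (Nat.ble 268 c)
noncomputable def Ptab_s_282_284 (c : Nat) : Nat := @Bool.rec (fun _ => Nat) (Ptab_282) (Ptab_283) (Nat.ble 283 c)
noncomputable def Ptab_s_281_284 (c : Nat) : Nat := @Bool.rec (fun _ => Nat) (Ptab_281) (Ptab_s_282_284 c) (Nat.ble 282 c)
noncomputable def Ptab_s_285_287 (c : Nat) : Nat := @Bool.rec (fun _ => Nat) (Ptab_285) (Ptab_286) (Nat.ble 286 c)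
noncomputable def Ptab_s_284_287 (c : Nat) : Nat := @Bool.rec (fun _ => Nat) (Ptab_284) (Ptab_s_285_287 c) (Nat.ble 285 c)
noncomputable def Ptab_s_281_287 (c : Nat) : Nat := @Bool.rec (fun _ => Nat) (Ptab_s_281_284 c) (Ptab_s_284_287 c) (Nat.ble 284 c)
noncomputable def Ptab_s_288_290 (c : Nat) : Nat := @Bool.rec (fun _ => Nat) (Ptab_288) (Ptab_289) (Nat.ble 289 c)
noncomputable def Ptab_s_287_290 (c : Nat) : Nat := @Bool.rec (fun _ => Nat) (Ptab_287) (Ptab_s_288_290 c) (Nat.ble 288 c)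
noncomputable def Ptab_s_290_292 (c : Nat) : Nat := @Bool.rec (fun _ => Nat) (Ptab_290) (Ptab_291) (Nat.ble 291 c)
noncomputable def Ptab_s_292_294 (c : Nat) : Nat := @Bool.rec (fun _ => Nat) (Ptab_292) (Ptab_293) (Nat.ble 293 c)
noncomputable def Ptab_s_290_294 (c : Nat) : Nat := @Bool.rec (fun _ => Nat) (Ptab_s_290_292 c) (Ptab_s_292_294 c) (Nat.ble 292 c)
noncomputable def Ptab_s_287_294 (c : Nat) : Nat := @Bool.rec (fun _ => Nat) (Ptab_s_287_290 c) (Ptab_s_290_294 c) (Nat.ble 290 c)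
noncomputable def Ptab_s_281_294 (c : Nat) : Nat := @Bool.rec (fun _ => Nat) (Ptab_s_281_287 c) (Ptab_s_287_294 c) (Nat.ble 287 c)
noncomputable def Ptab_s_295_297 (c : Nat) : Nat := @Bool.rec (fun _ => Nat) (Ptab_295) (Ptab_296) (Nat.ble 296 c)
noncomputable def Ptab_s_294_297 (c : Nat) : Nat := @Bool.rec (fun _ => Nat) (Ptab_294) (Ptab_s_295_297 c) (Nat.ble 295 c)
noncomputable def Ptab_s_298_300 (c : Nat) : Nat := @Bool.rec (fun _ => Nat) (Ptab_298) (Ptab_299) (Nat.ble 299 c)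
noncomputable def Ptab_s_297_300 (c : Nat) : Nat := @Bool.rec (fun _ => Nat) (Ptab_297) (Ptab_s_298_300 c) (Nat.ble 298 c)
noncomputable def Ptab_s_294_300 (c : Nat) : Nat := @Bool.rec (fun _ => Nat) (Ptab_s_294_297 c) (Ptab_s_297_300 c) (Nat.ble 297 c)
noncomputable def Ptab_s_301_303 (c : Nat) : Nat := @Bool.rec (fun _ => Nat) (Ptab_301) (Ptab_302) (Nat.ble 302 c)
noncomputable def Ptab_s_300_303 (c : Nat) : Nat := @Bool.rec (fun _ => Nat) (Ptab_300) (Ptab_s_301_303 c) (Nat.ble 301 c)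
noncomputable def Ptab_s_303_305 (c : Nat) : Nat := @Bool.rec (fun _ => Nat) (Ptab_303) (Ptab_304) (Nat.ble 304 c)
noncomputable def Ptab_s_305_307 (c : Nat) : Nat := @Bool.rec (fun _ => Nat) (Ptab_305) (Ptab_306) (Nat.ble 306 c)
noncomputable def Ptab_s_303_307 (c : Nat) : Nat := @Bool.rec (fun _ => Nat) (Ptab_s_303_305 c) (Ptab_s_305_307 c) (Nat.ble 305 c)
noncomputable def Ptab_s_300_307 (c : Nat) : Nat := @Bool.rec (fun _ => Nat) (Ptab_s_300_303 c) (Ptab_s_303_307 c) (Nat.ble 303 c)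
noncomputable def Ptab_s_294_307 (c : Nat) : Nat := @Bool.rec (fun _ => Nat) (Ptab_s_294_300 c) (Ptab_s_300_307 c) (Nat.ble 300 c)
noncomputable def Ptab_s_281_307 (c : Nat) : Nat := @Bool.rec (fun _ => Nat) (Ptab_s_281_294 c) (Ptab_s_294_307 c) (Nat.ble 294 c)
noncomputable def Ptab_s_256_307 (c : Nat) : Nat := @Bool.rec (fun _ => Nat) (Ptab_s_256_281 c) (Ptab_s_281_307 c) (Nat.ble 281 c)
noncomputable def Ptab_s_205_307 (c : Nat) : Nat := @Bool.rec (fun _ => Nat) (Ptab_s_205_256 c) (Ptab_s_256_307 c) (Nat.ble 256 c)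
noncomputable def Ptab_s_308_310 (c : Nat) : Nat := @Bool.rec (fun _ => Nat) (Ptab_308) (Ptab_309) (Nat.ble 309 c)
noncomputable def Ptab_s_307_310 (c : Nat) : Nat := @Bool.rec (fun _ => Nat) (Ptab_307) (Ptab_s_308_310 c) (Nat.ble 308 c)
noncomputable def Ptab_s_311_313 (c : Nat) : Nat := @Bool.rec (fun _ => Nat) (Ptab_311) (Ptab_312) (Nat.ble 312 c)
noncomputable def Ptab_s_310_313 (c : Nat) : Nat := @Bool.rec (fun _ => Nat) (Ptab_310) (Ptab_s_311_313 c) (Nat.ble 311 c)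
noncomputable def Ptab_s_307_313 (c : Nat) : Nat := @Bool.rec (fun _ => Nat) (Ptab_s_307_310 c) (Ptab_s_310_313 c) (Nat.ble 310 c)
noncomputable def Ptab_s_314_316 (c : Nat) : Nat := @Bool.rec (fun _ => Nat) (Ptab_314) (Ptab_315) (Nat.ble 315 c)
noncomputable def Ptab_s_313_316 (c : Nat) : Nat := @Bool.rec (fun _ => Nat) (Ptab_313) (Ptab_s_314_316 c) (Nat.ble 314 c)
noncomputable def Ptab_s_317_319 (c : Nat) : Nat := @Bool.rec (fun _ => Nat) (Ptab_317) (Ptab_318) (Nat.ble 318 c)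
noncomputable def Ptab_s_316_319 (c : Nat) : Nat := @Bool.rec (fun _ => Nat) (Ptab_316) (Ptab_s_317_319 c) (Nat.ble 317 c)
noncomputable def Ptab_s_313_319 (c : Nat) : Nat := @Bool.rec (fun _ => Nat) (Ptab_s_313_316 c) (Ptab_s_316_319 c) (Nat.ble 316 c)
noncomputable def Ptab_s_307_319 (c : Nat) : Nat := @Bool.rec (fun _ => Nat) (Ptab_s_307_313 c) (Ptab_s_313_319 c) (Nat.ble 313 c)
noncomputable def Ptab_s_320_322 (c : Nat) : Nat := @Bool.rec (fun _ => Nat) (Ptab_320) (Ptab_321) (Nat.ble 321 c)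
noncomputable def Ptab_s_319_322 (c : Nat) : Nat := @Bool.rec (fun _ => Nat) (Ptab_319) (Ptab_s_320_322 c) (Nat.ble 320 c)
noncomputable def Ptab_s_323_325 (c : Nat) : Nat := @Bool.rec (fun _ => Nat) (Ptab_323) (Ptab_324) (Nat.ble 324 c)
noncomputable def Ptab_s_322_325 (c : Nat) : Nat := @Bool.rec (fun _ => Nat) (Ptab_322) (Ptab_s_323_325 c) (Nat.ble 323 c)
noncomputable def Ptab_s_319_325 (c : Nat) : Nat := @Bool.rec (fun _ => Nat) (Ptab_s_319_322 c) (Ptab_s_322_325 c) (Nat.ble 322 c)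
noncomputable def Ptab_s_326_328 (c : Nat) : Nat := @Bool.rec (fun _ => Nat) (Ptab_326) (Ptab_327) (Nat.ble 327 c)
noncomputable def Ptab_s_325_328 (c : Nat) : Nat := @Bool.rec (fun _ => Nat) (Ptab_325) (Ptab_s_326_328 c) (Nat.ble 326 c)
noncomputable def Ptab_s_328_330 (c : Nat) : Nat := @Bool.rec (fun _ => Nat) (Ptab_328) (Ptab_329) (Nat.ble 329 c)
noncomputable def Ptab_s_330_332 (c : Nat) : Nat := @Bool.rec (fun _ => Nat) (Ptab_330) (Ptab_331) (Nat.ble 331 c)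
noncomputable def Ptab_s_328_332 (c : Nat) : Nat := @Bool.rec (fun _ => Nat) (Ptab_s_328_330 c) (Ptab_s_330_332 c) (Nat.ble 330 c)
noncomputable def Ptab_s_325_332 (c : Nat) : Nat := @Bool.rec (fun _ => Nat) (Ptab_s_325_328 c) (Ptab_s_328_332 c) (Nat.ble 328 c)
noncomputable def Ptab_s_319_332 (c : Nat) : Nat := @Bool.rec (fun _ => Nat) (Ptab_s_319_325 c) (Ptab_s_325_332 c) (Nat.ble 325 c)
noncomputable def Ptab_s_307_332 (c : Nat) : Nat := @Bool.rec (fun _ => Nat) (Ptab_s_307_319 c) (Ptab_s_319_332 c) (Nat.ble 319 c)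
noncomputable def Ptab_s_333_335 (c : Nat) : Nat := @Bool.rec (fun _ => Nat) (Ptab_333) (Ptab_334) (Nat.ble 334 c)
noncomputable def Ptab_s_332_335 (c : Nat) : Nat := @Bool.rec (fun _ => Nat) (Ptab_332) (Ptab_s_333_335 c) (Nat.ble 333 c)
noncomputable def Ptab_s_336_338 (c : Nat) : Nat := @Bool.rec (fun _ => Nat) (Ptab_336) (Ptab_337) (Nat.ble 337 c)
noncomputable def Ptab_s_335_338 (c : Nat) : Nat := @Bool.rec (fun _ => Nat) (Ptab_335) (Ptab_s_336_338 c) (Nat.ble 336 c)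
noncomputable def Ptab_s_332_338 (c : Nat) : Nat := @Bool.rec (fun _ => Nat) (Ptab_s_332_335 c) (Ptab_s_335_338 c) (Nat.ble 335 c)
noncomputable def Ptab_s_339_341 (c : Nat) : Nat := @Bool.rec (fun _ => Nat) (Ptab_339) (Ptab_340) (Nat.ble 340 c)
noncomputable def Ptab_s_338_341 (c : Nat) : Nat := @Bool.rec (fun _ => Nat) (Ptab_338) (Ptab_s_339_341 c) (Nat.ble 339 c)
noncomputable def Ptab_s_341_343 (c : Nat) : Nat := @Bool.rec (fun _ => Nat) (Ptab_341) (Ptab_342) (Nat.ble 342 c)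
noncomputable def Ptab_s_343_345 (c : Nat) : Nat := @Bool.rec (fun _ => Nat) (Ptab_343) (Ptab_344) (Nat.ble 344 c)
noncomputable def Ptab_s_341_345 (c : Nat) : Nat := @Bool.rec (fun _ => Nat) (Ptab_s_341_343 c) (Ptab_s_343_345 c) (Nat.ble 343 c)
noncomputable def Ptab_s_338_345 (c : Nat) : Nat := @Bool.rec (fun _ => Nat) (Ptab_s_338_341 c) (Ptab_s_341_345 c) (Nat.ble 341 c)
noncomputable def Ptab_s_332_345 (c : Nat) : Nat := @Bool.rec (fun _ => Nat) (Ptab_s_332_338 c) (Ptab_s_338_345 c) (Nat.ble 338 c)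
noncomputable def Ptab_s_346_348 (c : Nat) : Nat := @Bool.rec (fun _ => Nat) (Ptab_346) (Ptab_347) (Nat.ble 347 c)
noncomputable def Ptab_s_345_348 (c : Nat) : Nat := @Bool.rec (fun _ => Nat) (Ptab_345) (Ptab_s_346_348 c) (Nat.ble 346 c)
noncomputable def Ptab_s_349_351 (c : Nat) : Nat := @Bool.rec (fun _ => Nat) (Ptab_349) (Ptab_350) (Nat.ble 350 c)
noncomputable def Ptab_s_348_351 (c : Nat) : Nat := @Bool.rec (fun _ => Nat) (Ptab_348) (Ptab_s_349_351 c) (Nat.ble 349 c)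
noncomputable def Ptab_s_345_351 (c : Nat) : Nat := @Bool.rec (fun _ => Nat) (Ptab_s_345_348 c) (Ptab_s_348_351 c) (Nat.ble 348 c)
noncomputable def Ptab_s_352_354 (c : Nat) : Nat := @Bool.rec (fun _ => Nat) (Ptab_352) (Ptab_353) (Nat.ble 353 c)
noncomputable def Ptab_s_351_354 (c : Nat) : Nat := @Bool.rec (fun _ => Nat) (Ptab_351) (Ptab_s_352_354 c) (Nat.ble 352 c)
noncomputable def Ptab_s_354_356 (c : Nat) : Nat := @Bool.rec (fun _ => Nat) (Ptab_354) (Ptab_355) (Nat.ble 355 c)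
noncomputable def Ptab_s_356_358 (c : Nat) : Nat := @Bool.rec (fun _ => Nat) (Ptab_356) (Ptab_357) (Nat.ble 357 c)
noncomputable def Ptab_s_354_358 (c : Nat) : Nat := @Bool.rec (fun _ => Nat) (Ptab_s_354_356 c) (Ptab_s_356_358 c) (Nat.ble 356 c)
noncomputable def Ptab_s_351_358 (c : Nat) : Nat := @Bool.rec (fun _ => Nat) (Ptab_s_351_354 c) (Ptab_s_354_358 c) (Nat.ble 354 c)
noncomputable def Ptab_s_345_358 (c : Nat) : Nat := @Bool.rec (fun _ => Nat) (Ptab_s_345_351 c) (Ptab_s_351_358 c) (Nat.ble 351 c)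
noncomputable def Ptab_s_332_358 (c : Nat) : Nat := @Bool.rec (fun _ => Nat) (Ptab_s_332_345 c) (Ptab_s_345_358 c) (Nat.ble 345 c)
noncomputable def Ptab_s_307_358 (c : Nat) : Nat := @Bool.rec (fun _ => Nat) (Ptab_s_307_332 c) (Ptab_s_332_358 c) (Nat.ble 332 c)
noncomputable def Ptab_s_359_361 (c : Nat) : Nat := @Bool.rec (fun _ => Nat) (Ptab_359) (Ptab_360) (Nat.ble 360 c)
noncomputable def Ptab_s_358_361 (c : Nat) : Nat := @Bool.rec (fun _ => Nat) (Ptab_358) (Ptab_s_359_361 c) (Nat.ble 359 c)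
noncomputable def Ptab_s_362_364 (c : Nat) : Nat := @Bool.rec (fun _ => Nat) (Ptab_362) (Ptab_363) (Nat.ble 363 c)
noncomputable def Ptab_s_361_364 (c : Nat) : Nat := @Bool.rec (fun _ => Nat) (Ptab_361) (Ptab_s_362_364 c) (Nat.ble 362 c)
noncomputable def Ptab_s_358_364 (c : Nat) : Nat := @Bool.rec (fun _ => Nat) (Ptab_s_358_361 c) (Ptab_s_361_364 c) (Nat.ble 361 c)
noncomputable def Ptab_s_365_367 (c : Nat) : Nat := @Bool.rec (fun _ => Nat) (Ptab_365) (Ptab_366) (Nat.ble 366 c)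
noncomputable def Ptab_s_364_367 (c : Nat) : Nat := @Bool.rec (fun _ => Nat) (Ptab_364) (Ptab_s_365_367 c) (Nat.ble 365 c)
noncomputable def Ptab_s_367_369 (c : Nat) : Nat := @Bool.rec (fun _ => Nat) (Ptab_367) (Ptab_368) (Nat.ble 368 c)
noncomputable def Ptab_s_369_371 (c : Nat) : Nat := @Bool.rec (fun _ => Nat) (Ptab_369) (Ptab_370) (Nat.ble 370 c)
noncomputable def Ptab_s_367_371 (c : Nat) : Nat := @Bool.rec (fun _ => Nat) (Ptab_s_367_369 c) (Ptab_s_369_371 c) (Nat.ble 369 c)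
noncomputable def Ptab_s_364_371 (c : Nat) : Nat := @Bool.rec (fun _ => Nat) (Ptab_s_364_367 c) (Ptab_s_367_371 c) (Nat.ble 367 c)
noncomputable def Ptab_s_358_371 (c : Nat) : Nat := @Bool.rec (fun _ => Nat) (Ptab_s_358_364 c) (Ptab_s_364_371 c) (Nat.ble 364 c)
noncomputable def Ptab_s_372_374 (c : Nat) : Nat := @Bool.rec (fun _ => Nat) (Ptab_372) (Ptab_373) (Nat.ble 373 c)
noncomputable def Ptab_s_371_374 (c : Nat) : Nat := @Bool.rec (fun _ => Nat) (Ptab_371) (Ptab_s_372_374 c) (Nat.ble 372 c)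
noncomputable def Ptab_s_375_377 (c : Nat) : Nat := @Bool.rec (fun _ => Nat) (Ptab_375) (Ptab_376) (Nat.ble 376 c)
noncomputable def Ptab_s_374_377 (c : Nat) : Nat := @Bool.rec (fun _ => Nat) (Ptab_374) (Ptab_s_375_377 c) (Nat.ble 375 c)
noncomputable def Ptab_s_371_377 (c : Nat) : Nat := @Bool.rec (fun _ => Nat) (Ptab_s_371_374 c) (Ptab_s_374_377 c) (Nat.ble 374 c)
noncomputable def Ptab_s_378_380 (c : Nat) : Nat := @Bool.rec (fun _ => Nat) (Ptab_378) (Ptab_379) (Nat.ble 379 c)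
noncomputable def Ptab_s_377_380 (c : Nat) : Nat := @Bool.rec (fun _ => Nat) (Ptab_377) (Ptab_s_378_380 c) (Nat.ble 378 c)
noncomputable def Ptab_s_380_382 (c : Nat) : Nat := @Bool.rec (fun _ => Nat) (Ptab_380) (Ptab_381) (Nat.ble 381 c)
noncomputable def Ptab_s_382_384 (c : Nat) : Nat := @Bool.rec (fun _ => Nat) (Ptab_382) (Ptab_383) (Nat.ble 383 c)
noncomputable def Ptab_s_380_384 (c : Nat) : Nat := @Bool.rec (fun _ => Nat) (Ptab_s_380_382 c) (Ptab_s_382_384 c) (Nat.ble 382 c)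
noncomputable def Ptab_s_377_384 (c : Nat) : Nat := @Bool.rec (fun _ => Nat) (Ptab_s_377_380 c) (Ptab_s_380_384 c) (Nat.ble 380 c)
noncomputable def Ptab_s_371_384 (c : Nat) : Nat := @Bool.rec (fun _ => Nat) (Ptab_s_371_377 c) (Ptab_s_377_384 c) (Nat.ble 377 c)
noncomputable def Ptab_s_358_384 (c : Nat) : Nat := @Bool.rec (fun _ => Nat) (Ptab_s_358_371 c) (Ptab_s_371_384 c) (Nat.ble 371 c)
noncomputable def Ptab_s_385_387 (c : Nat) : Nat := @Bool.rec (fun _ => Nat) (Ptab_385) (Ptab_386) (Nat.ble 386 c)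
noncomputable def Ptab_s_384_387 (c : Nat) : Nat := @Bool.rec (fun _ => Nat) (Ptab_384) (Ptab_s_385_387 c) (Nat.ble 385 c)
noncomputable def Ptab_s_388_390 (c : Nat) : Nat := @Bool.rec (fun _ => Nat) (Ptab_388) (Ptab_389) (Nat.ble 389 c)
noncomputable def Ptab_s_387_390 (c : Nat) : Nat := @Bool.rec (fun _ => Nat) (Ptab_387) (Ptab_s_388_390 c) (Nat.ble 388 c)
noncomputable def Ptab_s_384_390 (c : Nat) : Nat := @Bool.rec (fun _ => Nat) (Ptab_s_384_387 c) (Ptab_s_387_390 c) (Nat.ble 387 c)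
noncomputable def Ptab_s_391_393 (c : Nat) : Nat := @Bool.rec (fun _ => Nat) (Ptab_391) (Ptab_392) (Nat.ble 392 c)
noncomputable def Ptab_s_390_393 (c : Nat) : Nat := @Bool.rec (fun _ => Nat) (Ptab_390) (Ptab_s_391_393 c) (Nat.ble 391 c)
noncomputable def Ptab_s_393_395 (c : Nat) : Nat := @Bool.rec (fun _ => Nat) (Ptab_393) (Ptab_394) (Nat.ble 394 c)
noncomputable def Ptab_s_395_397 (c : Nat) : Nat := @Bool.rec (fun _ => Nat) (Ptab_395) (Ptab_396) (Nat.ble 396 c)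
noncomputable def Ptab_s_393_397 (c : Nat) : Nat := @Bool.rec (fun _ => Nat) (Ptab_s_393_395 c) (Ptab_s_395_397 c) (Nat.ble 395 c)
noncomputable def Ptab_s_390_397 (c : Nat) : Nat := @Bool.rec (fun _ => Nat) (Ptab_s_390_393 c) (Ptab_s_393_397 c) (Nat.ble 393 c)
noncomputable def Ptab_s_384_397 (c : Nat) : Nat := @Bool.rec (fun _ => Nat) (Ptab_s_384_390 c) (Ptab_s_390_397 c) (Nat.ble 390 c)
noncomputable def Ptab_s_398_400 (c : Nat) : Nat := @Bool.rec (fun _ => Nat) (Ptab_398) (Ptab_399) (Nat.ble 399 c)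
noncomputable def Ptab_s_397_400 (c : Nat) : Nat := @Bool.rec (fun _ => Nat) (Ptab_397) (Ptab_s_398_400 c) (Nat.ble 398 c)
noncomputable def Ptab_s_401_403 (c : Nat) : Nat := @Bool.rec (fun _ => Nat) (Ptab_401) (Ptab_402) (Nat.ble 402 c)
noncomputable def Ptab_s_400_403 (c : Nat) : Nat := @Bool.rec (fun _ => Nat) (Ptab_400) (Ptab_s_401_403 c) (Nat.ble 401 c)
noncomputable def Ptab_s_397_403 (c : Nat) : Nat := @Bool.rec (fun _ => Nat) (Ptab_s_397_400 c) (Ptab_s_400_403 c) (Nat.ble 400 c)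
noncomputable def Ptab_s_404_406 (c : Nat) : Nat := @Bool.rec (fun _ => Nat) (Ptab_404) (Ptab_405) (Nat.ble 405 c)
noncomputable def Ptab_s_403_406 (c : Nat) : Nat := @Bool.rec (fun _ => Nat) (Ptab_403) (Ptab_s_404_406 c) (Nat.ble 404 c)
noncomputable def Ptab_s_406_408 (c : Nat) : Nat := @Bool.rec (fun _ => Nat) (Ptab_406) (Ptab_407) (Nat.ble 407 c)
noncomputable def Ptab_s_408_410 (c : Nat) : Nat := @Bool.rec (fun _ => Nat) (Ptab_408) (Ptab_409) (Nat.ble 409 c)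
noncomputable def Ptab_s_406_410 (c : Nat) : Nat := @Bool.rec (fun _ => Nat) (Ptab_s_406_408 c) (Ptab_s_408_410 c) (Nat.ble 408 c)
noncomputable def Ptab_s_403_410 (c : Nat) : Nat := @Bool.rec (fun _ => Nat) (Ptab_s_403_406 c) (Ptab_s_406_410 c) (Nat.ble 406 c)
noncomputable def Ptab_s_397_410 (c : Nat) : Nat := @Bool.rec (fun _ => Nat) (Ptab_s_397_403 c) (Ptab_s_403_410 c) (Nat.ble 403 c)
noncomputable def Ptab_s_384_410 (c : Nat) : Nat := @Bool.rec (fun _ => Nat) (Ptab_s_384_397 c) (Ptab_s_397_410 c) (Nat.ble 397 c)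
noncomputable def Ptab_s_358_410 (c : Nat) : Nat := @Bool.rec (fun _ => Nat) (Ptab_s_358_384 c) (Ptab_s_384_410 c) (Nat.ble 384 c)
noncomputable def Ptab_s_307_410 (c : Nat) : Nat := @Bool.rec (fun _ => Nat) (Ptab_s_307_358 c) (Ptab_s_358_410 c) (Nat.ble 358 c)
noncomputable def Ptab_s_205_410 (c : Nat) : Nat := @Bool.rec (fun _ => Nat) (Ptab_s_205_307 c) (Ptab_s_307_410 c) (Nat.ble 307 c)
noncomputable def Ptab_s_0_410 (c : Nat) : Nat := @Bool.rec (fun _ => Nat) (Ptab_s_0_205 c) (Ptab_s_205_410 c) (Nat.ble 205 c)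
noncomputable def Ptab (i : Nat) : Nat := rdw 21 2097151 (Ptab_s_0_410 (Nat.shiftRight i 12)) (Nat.land i 4095)
noncomputable def RRtab (i : Nat) : Nat := rdw 6 63 RRtab_0 i
noncomputable def rBtab (i : Nat) : Nat := rdw 11 2047 rBtab_0 i
noncomputable def rLtab (i : Nat) : Nat := rdw 5 31 rLtab_0 i
noncomputable def nameTab_s_1_3 (c : Nat) : Nat := @Bool.rec (fun _ => Nat) (nameTab_1) (nameTab_2) (Nat.ble 2 c)
noncomputable def nameTab_s_0_3 (c : Nat) : Nat := @Bool.rec (fun _ => Nat) (nameTab_0) (nameTab_s_1_3 c) (Nat.ble 1 c)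
noncomputable def nameTab (i : Nat) : Nat := rdw 17 131071 (nameTab_s_0_3 (Nat.shiftRight i 12)) (Nat.land i 4095)
noncomputable def col0_s_1_3 (c : Nat) : Nat := @Bool.rec (fun _ => Nat) (col0_1) (col0_2) (Nat.ble 2 c)
noncomputable def col0_s_0_3 (c : Nat) : Nat := @Bool.rec (fun _ => Nat) (col0_0) (col0_s_1_3 c) (Nat.ble 1 c)
noncomputable def col0 (i : Nat) : Nat := rdw 14 16383 (col0_s_0_3 (Nat.shiftRight i 12)) (Nat.land i 4095)
noncomputable def col1_s_1_3 (c : Nat) : Nat := @Bool.rec (fun _ => Nat) (col1_1) (col1_2) (Nat.ble 2 c)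
noncomputable def col1_s_0_3 (c : Nat) : Nat := @Bool.rec (fun _ => Nat) (col1_0) (col1_s_1_3 c) (Nat.ble 1 c)
noncomputable def col1 (i : Nat) : Nat := rdw 14 16383 (col1_s_0_3 (Nat.shiftRight i 12)) (Nat.land i 4095)
noncomputable def col2_s_1_3 (c : Nat) : Nat := @Bool.rec (fun _ => Nat) (col2_1) (col2_2) (Nat.ble 2 c)
noncomputable def col2_s_0_3 (c : Nat) : Nat := @Bool.rec (fun _ => Nat) (col2_0) (col2_s_1_3 c) (Nat.ble 1 c)
noncomputable def col2 (i : Nat) : Nat := rdw 14 16383 (col2_s_0_3 (Nat.shiftRight i 12)) (Nat.land i 4095)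
noncomputable def col3_s_1_3 (c : Nat) : Nat := @Bool.rec (fun _ => Nat) (col3_1) (col3_2) (Nat.ble 2 c)
noncomputable def col3_s_0_3 (c : Nat) : Nat := @Bool.rec (fun _ => Nat) (col3_0) (col3_s_1_3 c) (Nat.ble 1 c)
noncomputable def col3 (i : Nat) : Nat := rdw 14 16383 (col3_s_0_3 (Nat.shiftRight i 12)) (Nat.land i 4095)
noncomputable def col4_s_1_3 (c : Nat) : Nat := @Bool.rec (fun _ => Nat) (col4_1) (col4_2) (Nat.ble 2 c)
noncomputable def col4_s_0_3 (c : Nat) : Nat := @Bool.rec (fun _ => Nat) (col4_0) (col4_s_1_3 c) (Nat.ble 1 c)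
noncomputable def col4 (i : Nat) : Nat := rdw 14 16383 (col4_s_0_3 (Nat.shiftRight i 12)) (Nat.land i 4095)
noncomputable def col5_s_1_3 (c : Nat) : Nat := @Bool.rec (fun _ => Nat) (col5_1) (col5_2) (Nat.ble 2 c)
noncomputable def col5_s_0_3 (c : Nat) : Nat := @Bool.rec (fun _ => Nat) (col5_0) (col5_s_1_3 c) (Nat.ble 1 c)
noncomputable def col5 (i : Nat) : Nat := rdw 14 16383 (col5_s_0_3 (Nat.shiftRight i 12)) (Nat.land i 4095)
noncomputable def col6_s_1_3 (c : Nat) : Nat := @Bool.rec (fun _ => Nat) (col6_1) (col6_2) (Nat.ble 2 c)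
noncomputable def col6_s_0_3 (c : Nat) : Nat := @Bool.rec (fun _ => Nat) (col6_0) (col6_s_1_3 c) (Nat.ble 1 c)
noncomputable def col6 (i : Nat) : Nat := rdw 14 16383 (col6_s_0_3 (Nat.shiftRight i 12)) (Nat.land i 4095)
noncomputable def col7_s_1_3 (c : Nat) : Nat := @Bool.rec (fun _ => Nat) (col7_1) (col7_2) (Nat.ble 2 c)
noncomputable def col7_s_0_3 (c : Nat) : Nat := @Bool.rec (fun _ => Nat) (col7_0) (col7_s_1_3 c) (Nat.ble 1 c)
noncomputable def col7 (i : Nat) : Nat := rdw 14 16383 (col7_s_0_3 (Nat.shiftRight i 12)) (Nat.land i 4095)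
noncomputable def col8_s_1_3 (c : Nat) : Nat := @Bool.rec (fun _ => Nat) (col8_1) (col8_2) (Nat.ble 2 c)
noncomputable def col8_s_0_3 (c : Nat) : Nat := @Bool.rec (fun _ => Nat) (col8_0) (col8_s_1_3 c) (Nat.ble 1 c)
noncomputable def col8 (i : Nat) : Nat := rdw 14 16383 (col8_s_0_3 (Nat.shiftRight i 12)) (Nat.land i 4095)
noncomputable def col9_s_1_3 (c : Nat) : Nat := @Bool.rec (fun _ => Nat) (col9_1) (col9_2) (Nat.ble 2 c)
noncomputable def col9_s_0_3 (c : Nat) : Nat := @Bool.rec (fun _ => Nat) (col9_0) (col9_s_1_3 c) (Nat.ble 1 c)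
noncomputable def col9 (i : Nat) : Nat := rdw 14 16383 (col9_s_0_3 (Nat.shiftRight i 12)) (Nat.land i 4095)
noncomputable def col10_s_1_3 (c : Nat) : Nat := @Bool.rec (fun _ => Nat) (col10_1) (col10_2) (Nat.ble 2 c)
noncomputable def col10_s_0_3 (c : Nat) : Nat := @Bool.rec (fun _ => Nat) (col10_0) (col10_s_1_3 c) (Nat.ble 1 c)
noncomputable def col10 (i : Nat) : Nat := rdw 14 16383 (col10_s_0_3 (Nat.shiftRight i 12)) (Nat.land i 4095)
noncomputable def col11_s_1_3 (c : Nat) : Nat := @Bool.rec (fun _ => Nat) (col11_1) (col11_2) (Nat.ble 2 c)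
noncomputable def col11_s_0_3 (c : Nat) : Nat := @Bool.rec (fun _ => Nat) (col11_0) (col11_s_1_3 c) (Nat.ble 1 c)
noncomputable def col11 (i : Nat) : Nat := rdw 14 16383 (col11_s_0_3 (Nat.shiftRight i 12)) (Nat.land i 4095)
noncomputable def col12_s_1_3 (c : Nat) : Nat := @Bool.rec (fun _ => Nat) (col12_1) (col12_2) (Nat.ble 2 c)
noncomputable def col12_s_0_3 (c : Nat) : Nat := @Bool.rec (fun _ => Nat) (col12_0) (col12_s_1_3 c) (Nat.ble 1 c)
noncomputable def col12 (i : Nat) : Nat := rdw 14 16383 (col12_s_0_3 (Nat.shiftRight i 12)) (Nat.land i 4095)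
noncomputable def col13_s_1_3 (c : Nat) : Nat := @Bool.rec (fun _ => Nat) (col13_1) (col13_2) (Nat.ble 2 c)
noncomputable def col13_s_0_3 (c : Nat) : Nat := @Bool.rec (fun _ => Nat) (col13_0) (col13_s_1_3 c) (Nat.ble 1 c)
noncomputable def col13 (i : Nat) : Nat := rdw 14 16383 (col13_s_0_3 (Nat.shiftRight i 12)) (Nat.land i 4095)
noncomputable def col14_s_1_3 (c : Nat) : Nat := @Bool.rec (fun _ => Nat) (col14_1) (col14_2) (Nat.ble 2 c)
noncomputable def col14_s_0_3 (c : Nat) : Nat := @Bool.rec (fun _ => Nat) (col14_0) (col14_s_1_3 c) (Nat.ble 1 c)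
noncomputable def col14 (i : Nat) : Nat := rdw 14 16383 (col14_s_0_3 (Nat.shiftRight i 12)) (Nat.land i 4095)
noncomputable def col15_s_1_3 (c : Nat) : Nat := @Bool.rec (fun _ => Nat) (col15_1) (col15_2) (Nat.ble 2 c)
noncomputable def col15_s_0_3 (c : Nat) : Nat := @Bool.rec (fun _ => Nat) (col15_0) (col15_s_1_3 c) (Nat.ble 1 c)
noncomputable def col15 (i : Nat) : Nat := rdw 14 16383 (col15_s_0_3 (Nat.shiftRight i 12)) (Nat.land i 4095)
noncomputable def col16_s_1_3 (c : Nat) : Nat := @Bool.rec (fun _ => Nat) (col16_1) (col16_2) (Nat.ble 2 c)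
noncomputable def col16_s_0_3 (c : Nat) : Nat := @Bool.rec (fun _ => Nat) (col16_0) (col16_s_1_3 c) (Nat.ble 1 c)
noncomputable def col16 (i : Nat) : Nat := rdw 14 16383 (col16_s_0_3 (Nat.shiftRight i 12)) (Nat.land i 4095)
noncomputable def col17_s_1_3 (c : Nat) : Nat := @Bool.rec (fun _ => Nat) (col17_1) (col17_2) (Nat.ble 2 c)
noncomputable def col17_s_0_3 (c : Nat) : Nat := @Bool.rec (fun _ => Nat) (col17_0) (col17_s_1_3 c) (Nat.ble 1 c)
noncomputable def col17 (i : Nat) : Nat := rdw 14 16383 (col17_s_0_3 (Nat.shiftRight i 12)) (Nat.land i 4095)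
noncomputable def col18_s_1_3 (c : Nat) : Nat := @Bool.rec (fun _ => Nat) (col18_1) (col18_2) (Nat.ble 2 c)
noncomputable def col18_s_0_3 (c : Nat) : Nat := @Bool.rec (fun _ => Nat) (col18_0) (col18_s_1_3 c) (Nat.ble 1 c)
noncomputable def col18 (i : Nat) : Nat := rdw 14 16383 (col18_s_0_3 (Nat.shiftRight i 12)) (Nat.land i 4095)
noncomputable def col19_s_1_3 (c : Nat) : Nat := @Bool.rec (fun _ => Nat) (col19_1) (col19_2) (Nat.ble 2 c)
noncomputable def col19_s_0_3 (c : Nat) : Nat := @Bool.rec (fun _ => Nat) (col19_0) (col19_s_1_3 c) (Nat.ble 1 c)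
noncomputable def col19 (i : Nat) : Nat := rdw 14 16383 (col19_s_0_3 (Nat.shiftRight i 12)) (Nat.land i 4095)
noncomputable def col20_s_1_3 (c : Nat) : Nat := @Bool.rec (fun _ => Nat) (col20_1) (col20_2) (Nat.ble 2 c)
noncomputable def col20_s_0_3 (c : Nat) : Nat := @Bool.rec (fun _ => Nat) (col20_0) (col20_s_1_3 c) (Nat.ble 1 c)
noncomputable def col20 (i : Nat) : Nat := rdw 14 16383 (col20_s_0_3 (Nat.shiftRight i 12)) (Nat.land i 4095)
noncomputable def col21_s_1_3 (c : Nat) : Nat := @Bool.rec (fun _ => Nat) (col21_1) (col21_2) (Nat.ble 2 c)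
noncomputable def col21_s_0_3 (c : Nat) : Nat := @Bool.rec (fun _ => Nat) (col21_0) (col21_s_1_3 c) (Nat.ble 1 c)
noncomputable def col21 (i : Nat) : Nat := rdw 14 16383 (col21_s_0_3 (Nat.shiftRight i 12)) (Nat.land i 4095)
noncomputable def col22_s_1_3 (c : Nat) : Nat := @Bool.rec (fun _ => Nat) (col22_1) (col22_2) (Nat.ble 2 c)
noncomputable def col22_s_0_3 (c : Nat) : Nat := @Bool.rec (fun _ => Nat) (col22_0) (col22_s_1_3 c) (Nat.ble 1 c)
noncomputable def col22 (i : Nat) : Nat := rdw 14 16383 (col22_s_0_3 (Nat.shiftRight i 12)) (Nat.land i 4095)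
noncomputable def col23_s_1_3 (c : Nat) : Nat := @Bool.rec (fun _ => Nat) (col23_1) (col23_2) (Nat.ble 2 c)
noncomputable def col23_s_0_3 (c : Nat) : Nat := @Bool.rec (fun _ => Nat) (col23_0) (col23_s_1_3 c) (Nat.ble 1 c)
noncomputable def col23 (i : Nat) : Nat := rdw 14 16383 (col23_s_0_3 (Nat.shiftRight i 12)) (Nat.land i 4095)
noncomputable def col24_s_1_3 (c : Nat) : Nat := @Bool.rec (fun _ => Nat) (col24_1) (col24_2) (Nat.ble 2 c)
noncomputable def col24_s_0_3 (c : Nat) : Nat := @Bool.rec (fun _ => Nat) (col24_0) (col24_s_1_3 c) (Nat.ble 1 c)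
noncomputable def col24 (i : Nat) : Nat := rdw 14 16383 (col24_s_0_3 (Nat.shiftRight i 12)) (Nat.land i 4095)
noncomputable def col25_s_1_3 (c : Nat) : Nat := @Bool.rec (fun _ => Nat) (col25_1) (col25_2) (Nat.ble 2 c)
noncomputable def col25_s_0_3 (c : Nat) : Nat := @Bool.rec (fun _ => Nat) (col25_0) (col25_s_1_3 c) (Nat.ble 1 c)
noncomputable def col25 (i : Nat) : Nat := rdw 14 16383 (col25_s_0_3 (Nat.shiftRight i 12)) (Nat.land i 4095)
noncomputable def col26_s_1_3 (c : Nat) : Nat := @Bool.rec (fun _ => Nat) (col26_1) (col26_2) (Nat.ble 2 c)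
noncomputable def col26_s_0_3 (c : Nat) : Nat := @Bool.rec (fun _ => Nat) (col26_0) (col26_s_1_3 c) (Nat.ble 1 c)
noncomputable def col26 (i : Nat) : Nat := rdw 14 16383 (col26_s_0_3 (Nat.shiftRight i 12)) (Nat.land i 4095)
noncomputable def col27_s_1_3 (c : Nat) : Nat := @Bool.rec (fun _ => Nat) (col27_1) (col27_2) (Nat.ble 2 c)
noncomputable def col27_s_0_3 (c : Nat) : Nat := @Bool.rec (fun _ => Nat) (col27_0) (col27_s_1_3 c) (Nat.ble 1 c)
noncomputable def col27 (i : Nat) : Nat := rdw 14 16383 (col27_s_0_3 (Nat.shiftRight i 12)) (Nat.land i 4095)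
noncomputable def finTab_s_0_2 (c : Nat) : Nat := @Bool.rec (fun _ => Nat) (finTab_0) (finTab_1) (Nat.ble 1 c)
noncomputable def finTab_s_2_4 (c : Nat) : Nat := @Bool.rec (fun _ => Nat) (finTab_2) (finTab_3) (Nat.ble 3 c)
noncomputable def finTab_s_0_4 (c : Nat) : Nat := @Bool.rec (fun _ => Nat) (finTab_s_0_2 c) (finTab_s_2_4 c) (Nat.ble 2 c)
noncomputable def finTab_s_4_6 (c : Nat) : Nat := @Bool.rec (fun _ => Nat) (finTab_4) (finTab_5) (Nat.ble 5 c)
noncomputable def finTab_s_7_9 (c : Nat) : Nat := @Bool.rec (fun _ => Nat) (finTab_7) (finTab_8) (Nat.ble 8 c)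
noncomputable def finTab_s_6_9 (c : Nat) : Nat := @Bool.rec (fun _ => Nat) (finTab_6) (finTab_s_7_9 c) (Nat.ble 7 c)
noncomputable def finTab_s_4_9 (c : Nat) : Nat := @Bool.rec (fun _ => Nat) (finTab_s_4_6 c) (finTab_s_6_9 c) (Nat.ble 6 c)
noncomputable def finTab_s_0_9 (c : Nat) : Nat := @Bool.rec (fun _ => Nat) (finTab_s_0_4 c) (finTab_s_4_9 c) (Nat.ble 4 c)
noncomputable def finTab_s_9_11 (c : Nat) : Nat := @Bool.rec (fun _ => Nat) (finTab_9) (finTab_10) (Nat.ble 10 c)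
noncomputable def finTab_s_12_14 (c : Nat) : Nat := @Bool.rec (fun _ => Nat) (finTab_12) (finTab_13) (Nat.ble 13 c)
noncomputable def finTab_s_11_14 (c : Nat) : Nat := @Bool.rec (fun _ => Nat) (finTab_11) (finTab_s_12_14 c) (Nat.ble 12 c)
noncomputable def finTab_s_9_14 (c : Nat) : Nat := @Bool.rec (fun _ => Nat) (finTab_s_9_11 c) (finTab_s_11_14 c) (Nat.ble 11 c)
noncomputable def finTab_s_14_16 (c : Nat) : Nat := @Bool.rec (fun _ => Nat) (finTab_14) (finTab_15) (Nat.ble 15 c)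
noncomputable def finTab_s_17_19 (c : Nat) : Nat := @Bool.rec (fun _ => Nat) (finTab_17) (finTab_18) (Nat.ble 18 c)
noncomputable def finTab_s_16_19 (c : Nat) : Nat := @Bool.rec (fun _ => Nat) (finTab_16) (finTab_s_17_19 c) (Nat.ble 17 c)
noncomputable def finTab_s_14_19 (c : Nat) : Nat := @Bool.rec (fun _ => Nat) (finTab_s_14_16 c) (finTab_s_16_19 c) (Nat.ble 16 c)
noncomputable def finTab_s_9_19 (c : Nat) : Nat := @Bool.rec (fun _ => Nat) (finTab_s_9_14 c) (finTab_s_14_19 c) (Nat.ble 14 c)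
noncomputable def finTab_s_0_19 (c : Nat) : Nat := @Bool.rec (fun _ => Nat) (finTab_s_0_9 c) (finTab_s_9_19 c) (Nat.ble 9 c)
noncomputable def finTab_s_19_21 (c : Nat) : Nat := @Bool.rec (fun _ => Nat) (finTab_19) (finTab_20) (Nat.ble 20 c)
noncomputable def finTab_s_21_23 (c : Nat) : Nat := @Bool.rec (fun _ => Nat) (finTab_21) (finTab_22) (Nat.ble 22 c)
noncomputable def finTab_s_19_23 (c : Nat) : Nat := @Bool.rec (fun _ => Nat) (finTab_s_19_21 c) (finTab_s_21_23 c) (Nat.ble 21 c)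
noncomputable def finTab_s_23_25 (c : Nat) : Nat := @Bool.rec (fun _ => Nat) (finTab_23) (finTab_24) (Nat.ble 24 c)
noncomputable def finTab_s_26_28 (c : Nat) : Nat := @Bool.rec (fun _ => Nat) (finTab_26) (finTab_27) (Nat.ble 27 c)
noncomputable def finTab_s_25_28 (c : Nat) : Nat := @Bool.rec (fun _ => Nat) (finTab_25) (finTab_s_26_28 c) (Nat.ble 26 c)
noncomputable def finTab_s_23_28 (c : Nat) : Nat := @Bool.rec (fun _ => Nat) (finTab_s_23_25 c) (finTab_s_25_28 c) (Nat.ble 25 c)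
noncomputable def finTab_s_19_28 (c : Nat) : Nat := @Bool.rec (fun _ => Nat) (finTab_s_19_23 c) (finTab_s_23_28 c) (Nat.ble 23 c)
noncomputable def finTab_s_28_30 (c : Nat) : Nat := @Bool.rec (fun _ => Nat) (finTab_28) (finTab_29) (Nat.ble 29 c)
noncomputable def finTab_s_31_33 (c : Nat) : Nat := @Bool.rec (fun _ => Nat) (finTab_31) (finTab_32) (Nat.ble 32 c)
noncomputable def finTab_s_30_33 (c : Nat) : Nat := @Bool.rec (fun _ => Nat) (finTab_30) (finTab_s_31_33 c) (Nat.ble 31 c)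
noncomputable def finTab_s_28_33 (c : Nat) : Nat := @Bool.rec (fun _ => Nat) (finTab_s_28_30 c) (finTab_s_30_33 c) (Nat.ble 30 c)
noncomputable def finTab_s_33_35 (c : Nat) : Nat := @Bool.rec (fun _ => Nat) (finTab_33) (finTab_34) (Nat.ble 34 c)
noncomputable def finTab_s_36_38 (c : Nat) : Nat := @Bool.rec (fun _ => Nat) (finTab_36) (finTab_37) (Nat.ble 37 c)
noncomputable def finTab_s_35_38 (c : Nat) : Nat := @Bool.rec (fun _ => Nat) (finTab_35) (finTab_s_36_38 c) (Nat.ble 36 c)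
noncomputable def finTab_s_33_38 (c : Nat) : Nat := @Bool.rec (fun _ => Nat) (finTab_s_33_35 c) (finTab_s_35_38 c) (Nat.ble 35 c)
noncomputable def finTab_s_28_38 (c : Nat) : Nat := @Bool.rec (fun _ => Nat) (finTab_s_28_33 c) (finTab_s_33_38 c) (Nat.ble 33 c)
noncomputable def finTab_s_19_38 (c : Nat) : Nat := @Bool.rec (fun _ => Nat) (finTab_s_19_28 c) (finTab_s_28_38 c) (Nat.ble 28 c)
noncomputable def finTab_s_0_38 (c : Nat) : Nat := @Bool.rec (fun _ => Nat) (finTab_s_0_19 c) (finTab_s_19_38 c) (Nat.ble 19 c)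
noncomputable def finTab_s_38_40 (c : Nat) : Nat := @Bool.rec (fun _ => Nat) (finTab_38) (finTab_39) (Nat.ble 39 c)
noncomputable def finTab_s_40_42 (c : Nat) : Nat := @Bool.rec (fun _ => Nat) (finTab_40) (finTab_41) (Nat.ble 41 c)
noncomputable def finTab_s_38_42 (c : Nat) : Nat := @Bool.rec (fun _ => Nat) (finTab_s_38_40 c) (finTab_s_40_42 c) (Nat.ble 40 c)
noncomputable def finTab_s_42_44 (c : Nat) : Nat := @Bool.rec (fun _ => Nat) (finTab_42) (finTab_43) (Nat.ble 43 c)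
noncomputable def finTab_s_45_47 (c : Nat) : Nat := @Bool.rec (fun _ => Nat) (finTab_45) (finTab_46) (Nat.ble 46 c)
noncomputable def finTab_s_44_47 (c : Nat) : Nat := @Bool.rec (fun _ => Nat) (finTab_44) (finTab_s_45_47 c) (Nat.ble 45 c)
noncomputable def finTab_s_42_47 (c : Nat) : Nat := @Bool.rec (fun _ => Nat) (finTab_s_42_44 c) (finTab_s_44_47 c) (Nat.ble 44 c)
noncomputable def finTab_s_38_47 (c : Nat) : Nat := @Bool.rec (fun _ => Nat) (finTab_s_38_42 c) (finTab_s_42_47 c) (Nat.ble 42 c)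
noncomputable def finTab_s_47_49 (c : Nat) : Nat := @Bool.rec (fun _ => Nat) (finTab_47) (finTab_48) (Nat.ble 48 c)
noncomputable def finTab_s_50_52 (c : Nat) : Nat := @Bool.rec (fun _ => Nat) (finTab_50) (finTab_51) (Nat.ble 51 c)
noncomputable def finTab_s_49_52 (c : Nat) : Nat := @Bool.rec (fun _ => Nat) (finTab_49) (finTab_s_50_52 c) (Nat.ble 50 c)
noncomputable def finTab_s_47_52 (c : Nat) : Nat := @Bool.rec (fun _ => Nat) (finTab_s_47_49 c) (finTab_s_49_52 c) (Nat.ble 49 c)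
noncomputable def finTab_s_52_54 (c : Nat) : Nat := @Bool.rec (fun _ => Nat) (finTab_52) (finTab_53) (Nat.ble 53 c)
noncomputable def finTab_s_55_57 (c : Nat) : Nat := @Bool.rec (fun _ => Nat) (finTab_55) (finTab_56) (Nat.ble 56 c)
noncomputable def finTab_s_54_57 (c : Nat) : Nat := @Bool.rec (fun _ => Nat) (finTab_54) (finTab_s_55_57 c) (Nat.ble 55 c)
noncomputable def finTab_s_52_57 (c : Nat) : Nat := @Bool.rec (fun _ => Nat) (finTab_s_52_54 c) (finTab_s_54_57 c) (Nat.ble 54 c)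
noncomputable def finTab_s_47_57 (c : Nat) : Nat := @Bool.rec (fun _ => Nat) (finTab_s_47_52 c) (finTab_s_52_57 c) (Nat.ble 52 c)
noncomputable def finTab_s_38_57 (c : Nat) : Nat := @Bool.rec (fun _ => Nat) (finTab_s_38_47 c) (finTab_s_47_57 c) (Nat.ble 47 c)
noncomputable def finTab_s_57_59 (c : Nat) : Nat := @Bool.rec (fun _ => Nat) (finTab_57) (finTab_58) (Nat.ble 58 c)
noncomputable def finTab_s_60_62 (c : Nat) : Nat := @Bool.rec (fun _ => Nat) (finTab_60) (finTab_61) (Nat.ble 61 c)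
noncomputable def finTab_s_59_62 (c : Nat) : Nat := @Bool.rec (fun _ => Nat) (finTab_59) (finTab_s_60_62 c) (Nat.ble 60 c)
noncomputable def finTab_s_57_62 (c : Nat) : Nat := @Bool.rec (fun _ => Nat) (finTab_s_57_59 c) (finTab_s_59_62 c) (Nat.ble 59 c)
noncomputable def finTab_s_62_64 (c : Nat) : Nat := @Bool.rec (fun _ => Nat) (finTab_62) (finTab_63) (Nat.ble 63 c)
noncomputable def finTab_s_65_67 (c : Nat) : Nat := @Bool.rec (fun _ => Nat) (finTab_65) (finTab_66) (Nat.ble 66 c)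
noncomputable def finTab_s_64_67 (c : Nat) : Nat := @Bool.rec (fun _ => Nat) (finTab_64) (finTab_s_65_67 c) (Nat.ble 65 c)
noncomputable def finTab_s_62_67 (c : Nat) : Nat := @Bool.rec (fun _ => Nat) (finTab_s_62_64 c) (finTab_s_64_67 c) (Nat.ble 64 c)
noncomputable def finTab_s_57_67 (c : Nat) : Nat := @Bool.rec (fun _ => Nat) (finTab_s_57_62 c) (finTab_s_62_67 c) (Nat.ble 62 c)
noncomputable def finTab_s_67_69 (c : Nat) : Nat := @Bool.rec (fun _ => Nat) (finTab_67) (finTab_68) (Nat.ble 68 c)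
noncomputable def finTab_s_70_72 (c : Nat) : Nat := @Bool.rec (fun _ => Nat) (finTab_70) (finTab_71) (Nat.ble 71 c)
noncomputable def finTab_s_69_72 (c : Nat) : Nat := @Bool.rec (fun _ => Nat) (finTab_69) (finTab_s_70_72 c) (Nat.ble 70 c)
noncomputable def finTab_s_67_72 (c : Nat) : Nat := @Bool.rec (fun _ => Nat) (finTab_s_67_69 c) (finTab_s_69_72 c) (Nat.ble 69 c)
noncomputable def finTab_s_72_74 (c : Nat) : Nat := @Bool.rec (fun _ => Nat) (finTab_72) (finTab_73) (Nat.ble 73 c)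
noncomputable def finTab_s_75_77 (c : Nat) : Nat := @Bool.rec (fun _ => Nat) (finTab_75) (finTab_76) (Nat.ble 76 c)
noncomputable def finTab_s_74_77 (c : Nat) : Nat := @Bool.rec (fun _ => Nat) (finTab_74) (finTab_s_75_77 c) (Nat.ble 75 c)
noncomputable def finTab_s_72_77 (c : Nat) : Nat := @Bool.rec (fun _ => Nat) (finTab_s_72_74 c) (finTab_s_74_77 c) (Nat.ble 74 c)
noncomputable def finTab_s_67_77 (c : Nat) : Nat := @Bool.rec (fun _ => Nat) (finTab_s_67_72 c) (finTab_s_72_77 c) (Nat.ble 72 c)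
noncomputable def finTab_s_57_77 (c : Nat) : Nat := @Bool.rec (fun _ => Nat) (finTab_s_57_67 c) (finTab_s_67_77 c) (Nat.ble 67 c)
noncomputable def finTab_s_38_77 (c : Nat) : Nat := @Bool.rec (fun _ => Nat) (finTab_s_38_57 c) (finTab_s_57_77 c) (Nat.ble 57 c)
noncomputable def finTab_s_0_77 (c : Nat) : Nat := @Bool.rec (fun _ => Nat) (finTab_s_0_38 c) (finTab_s_38_77 c) (Nat.ble 38 c)
noncomputable def finTab (i : Nat) : Nat := rdw 21 2097151 (finTab_s_0_77 (Nat.shiftRight i 12)) (Nat.land i 4095)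
noncomputable def clsTab_s_0_2 (c : Nat) : Nat := @Bool.rec (fun _ => Nat) (clsTab_0) (clsTab_1) (Nat.ble 1 c)
noncomputable def clsTab_s_2_4 (c : Nat) : Nat := @Bool.rec (fun _ => Nat) (clsTab_2) (clsTab_3) (Nat.ble 3 c)
noncomputable def clsTab_s_0_4 (c : Nat) : Nat := @Bool.rec (fun _ => Nat) (clsTab_s_0_2 c) (clsTab_s_2_4 c) (Nat.ble 2 c)
noncomputable def clsTab_s_4_6 (c : Nat) : Nat := @Bool.rec (fun _ => Nat) (clsTab_4) (clsTab_5) (Nat.ble 5 c)
noncomputable def clsTab_s_6_8 (c : Nat) : Nat := @Bool.rec (fun _ => Nat) (clsTab_6) (clsTab_7) (Nat.ble 7 c)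
noncomputable def clsTab_s_4_8 (c : Nat) : Nat := @Bool.rec (fun _ => Nat) (clsTab_s_4_6 c) (clsTab_s_6_8 c) (Nat.ble 6 c)
noncomputable def clsTab_s_0_8 (c : Nat) : Nat := @Bool.rec (fun _ => Nat) (clsTab_s_0_4 c) (clsTab_s_4_8 c) (Nat.ble 4 c)
noncomputable def clsTab_s_8_10 (c : Nat) : Nat := @Bool.rec (fun _ => Nat) (clsTab_8) (clsTab_9) (Nat.ble 9 c)
noncomputable def clsTab_s_10_12 (c : Nat) : Nat := @Bool.rec (fun _ => Nat) (clsTab_10) (clsTab_11) (Nat.ble 11 c)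
noncomputable def clsTab_s_8_12 (c : Nat) : Nat := @Bool.rec (fun _ => Nat) (clsTab_s_8_10 c) (clsTab_s_10_12 c) (Nat.ble 10 c)
noncomputable def clsTab_s_12_14 (c : Nat) : Nat := @Bool.rec (fun _ => Nat) (clsTab_12) (clsTab_13) (Nat.ble 13 c)
noncomputable def clsTab_s_14_16 (c : Nat) : Nat := @Bool.rec (fun _ => Nat) (clsTab_14) (clsTab_15) (Nat.ble 15 c)
noncomputable def clsTab_s_12_16 (c : Nat) : Nat := @Bool.rec (fun _ => Nat) (clsTab_s_12_14 c) (clsTab_s_14_16 c) (Nat.ble 14 c)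
noncomputable def clsTab_s_8_16 (c : Nat) : Nat := @Bool.rec (fun _ => Nat) (clsTab_s_8_12 c) (clsTab_s_12_16 c) (Nat.ble 12 c)
noncomputable def clsTab_s_0_16 (c : Nat) : Nat := @Bool.rec (fun _ => Nat) (clsTab_s_0_8 c) (clsTab_s_8_16 c) (Nat.ble 8 c)
noncomputable def clsTab_s_16_18 (c : Nat) : Nat := @Bool.rec (fun _ => Nat) (clsTab_16) (clsTab_17) (Nat.ble 17 c)
noncomputable def clsTab_s_18_20 (c : Nat) : Nat := @Bool.rec (fun _ => Nat) (clsTab_18) (clsTab_19) (Nat.ble 19 c)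
noncomputable def clsTab_s_16_20 (c : Nat) : Nat := @Bool.rec (fun _ => Nat) (clsTab_s_16_18 c) (clsTab_s_18_20 c) (Nat.ble 18 c)
noncomputable def clsTab_s_20_22 (c : Nat) : Nat := @Bool.rec (fun _ => Nat) (clsTab_20) (clsTab_21) (Nat.ble 21 c)
noncomputable def clsTab_s_22_24 (c : Nat) : Nat := @Bool.rec (fun _ => Nat) (clsTab_22) (clsTab_23) (Nat.ble 23 c)
noncomputable def clsTab_s_20_24 (c : Nat) : Nat := @Bool.rec (fun _ => Nat) (clsTab_s_20_22 c) (clsTab_s_22_24 c) (Nat.ble 22 c)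
noncomputable def clsTab_s_16_24 (c : Nat) : Nat := @Bool.rec (fun _ => Nat) (clsTab_s_16_20 c) (clsTab_s_20_24 c) (Nat.ble 20 c)
noncomputable def clsTab_s_24_26 (c : Nat) : Nat := @Bool.rec (fun _ => Nat) (clsTab_24) (clsTab_25) (Nat.ble 25 c)
noncomputable def clsTab_s_26_28 (c : Nat) : Nat := @Bool.rec (fun _ => Nat) (clsTab_26) (clsTab_27) (Nat.ble 27 c)
noncomputable def clsTab_s_24_28 (c : Nat) : Nat := @Bool.rec (fun _ => Nat) (clsTab_s_24_26 c) (clsTab_s_26_28 c) (Nat.ble 26 c)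
noncomputable def clsTab_s_28_30 (c : Nat) : Nat := @Bool.rec (fun _ => Nat) (clsTab_28) (clsTab_29) (Nat.ble 29 c)
noncomputable def clsTab_s_30_32 (c : Nat) : Nat := @Bool.rec (fun _ => Nat) (clsTab_30) (clsTab_31) (Nat.ble 31 c)
noncomputable def clsTab_s_28_32 (c : Nat) : Nat := @Bool.rec (fun _ => Nat) (clsTab_s_28_30 c) (clsTab_s_30_32 c) (Nat.ble 30 c)
noncomputable def clsTab_s_24_32 (c : Nat) : Nat := @Bool.rec (fun _ => Nat) (clsTab_s_24_28 c) (clsTab_s_28_32 c) (Nat.ble 28 c)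
noncomputable def clsTab_s_16_32 (c : Nat) : Nat := @Bool.rec (fun _ => Nat) (clsTab_s_16_24 c) (clsTab_s_24_32 c) (Nat.ble 24 c)
noncomputable def clsTab_s_0_32 (c : Nat) : Nat := @Bool.rec (fun _ => Nat) (clsTab_s_0_16 c) (clsTab_s_16_32 c) (Nat.ble 16 c)
noncomputable def clsTab (i : Nat) : Nat := rdw 14 16383 (clsTab_s_0_32 (Nat.shiftRight i 12)) (Nat.land i 4095)
noncomputable def oparTab_s_1_3 (c : Nat) : Nat := @Bool.rec (fun _ => Nat) (oparTab_1) (oparTab_2) (Nat.ble 2 c)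
noncomputable def oparTab_s_0_3 (c : Nat) : Nat := @Bool.rec (fun _ => Nat) (oparTab_0) (oparTab_s_1_3 c) (Nat.ble 1 c)
noncomputable def oparTab (i : Nat) : Nat := rdw 14 16383 (oparTab_s_0_3 (Nat.shiftRight i 12)) (Nat.land i 4095)
noncomputable def olabTab (i : Nat) : Nat := rdw 2 3 olabTab_0 i
noncomputable def srcF (t : Nat) : Nat := Nat.land (Atab t) 131071
noncomputable def tgtF (t : Nat) : Nat := Nat.land (Nat.shiftRight (Atab t) 17) 131071
noncomputable def ltF (t : Nat) : Nat := Nat.shiftRight (Atab t) 34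
noncomputable def rhoF (t : Nat) : Nat := Nat.land (Btab (Nat.sub t 130649)) 255
noncomputable def rotF (t : Nat) : Nat := Nat.land (Nat.shiftRight (Btab (Nat.sub t 130649)) 8) 31
noncomputable def lenF (t : Nat) : Nat := Nat.land (Nat.shiftRight (Btab (Nat.sub t 130649)) 13) 63
noncomputable def offF (t : Nat) : Nat := Nat.shiftRight (Btab (Nat.sub t 130649)) 19
noncomputable def pfF (j : Nat) : Nat := Nat.shiftRight (Ptab j) 1
noncomputable def pdF (j : Nat) : Nat := Nat.land (Ptab j) 1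
noncomputable def tblF (i x : Nat) : Nat := @Bool.rec (fun _ => Nat) (@Bool.rec (fun _ => Nat) (@Bool.rec (fun _ => Nat) (@Bool.rec (fun _ => Nat) (col0 i) (@Bool.rec (fun _ => Nat) (col1 i) (col2 i) (Nat.ble 2 x)) (Nat.ble 1 x)) (@Bool.rec (fun _ => Nat) (@Bool.rec (fun _ => Nat) (col3 i) (col4 i) (Nat.ble 4 x)) (@Bool.rec (fun _ => Nat) (col5 i) (col6 i) (Nat.ble 6 x)) (Nat.ble 5 x)) (Nat.ble 3 x)) (@Bool.rec (fun _ => Nat) (@Bool.rec (fun _ => Nat) (col7 i) (@Bool.rec (fun _ => Nat) (col8 i) (col9 i) (Nat.ble 9 x)) (Nat.ble 8 x)) (@Bool.rec (fun _ => Nat) (@Bool.rec (fun _ => Nat) (col10 i) (col11 i) (Nat.ble 11 x)) (@Bool.rec (fun _ => Nat) (col12 i) (col13 i) (Nat.ble 13 x)) (Nat.ble 12 x)) (Nat.ble 10 x)) (Nat.ble 7 x)) (@Bool.rec (fun _ => Nat) (@Bool.rec (fun _ => Nat) (@Bool.rec (fun _ => Nat) (col14 i) (@Bool.rec (fun _ => Nat) (col15 i) (col16 i) (Nat.ble 16 x)) (Nat.ble 15 x)) (@Bool.rec (fun _ => Nat)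 (@Bool.rec (fun _ => Nat) (col17 i) (col18 i) (Nat.ble 18 x)) (@Bool.rec (fun _ => Nat) (col19 i) (col20 i) (Nat.ble 20 x)) (Nat.ble 19 x)) (Nat.ble 17 x)) (@Bool.rec (fun _ => Nat) (@Bool.rec (fun _ => Nat) (col21 i) (@Bool.rec (fun _ => Nat) (col22 i) (col23 i) (Nat.ble 23 x)) (Nat.ble 22 x)) (@Bool.rec (fun _ => Nat) (@Bool.rec (fun _ => Nat) (col24 i) (col25 i) (Nat.ble 25 x)) (@Bool.rec (fun _ => Nat) (col26 i) (col27 i) (Nat.ble 27 x)) (Nat.ble 26 x)) (Nat.ble 24 x)) (Nat.ble 21 x)) (Nat.ble 14 x)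
noncomputable def finE (i x : Nat) : Nat := finTab (Nat.add (Nat.mul i 28) x)
noncomputable def finFF (i x : Nat) : Nat := Nat.shiftRight (finE i x) 1
noncomputable def finDF (i x : Nat) : Nat := Nat.land (finE i x) 1

noncomputable def D : Log :=
  { k := 28, inv := invE 28 PSC2HSp3.invR, nR := 198, rBase := rBtab, rLen := rLtab, RR := RRtab,
    M := 130645, nB := 4, F := 646570, src := srcF, lt := ltF, tgt := tgtF, rho := rhoF, rot := rotF,
    off := offF, len := lenF, pf := pfF, pd := pdF }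

noncomputable def T : Tab :=
  { N := 11200, nameOf := nameTab, tbl := tblF, finF := finFF, finD := finDF, cls := clsTab }

def subs : List (List Nat) := [
  [0],
  [2] ]

def rw0 : List Nat := [0, 0]
def rw1 : List Nat := [2, 2, 2, 2]
def rw2 : List Nat := [4, 4]
def rw3 : List Nat := [7, 0, 2, 0, 3, 4, 2, 0, 2, 0, 3, 4, 2]
def rw4 : List Nat := [9, 0, 2, 4, 3, 0, 2, 4, 3]
def rw5 : List Nat := [11, 2, 2, 4, 2, 2, 4, 3, 3, 4]
def rw6 : List Nat := [13, 0, 4, 0, 4, 0, 4, 0, 4, 0, 4]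
def rw7 : List Nat := [15, 2, 4, 2, 4, 2, 4, 2, 4, 2, 4, 2, 4]
def rw8 : List Nat := [17, 0, 4, 3, 4, 2, 4, 0, 4, 3, 4, 2, 4, 0, 4, 3, 4, 2, 4]
def rw9 : List Nat := [19, 0, 3, 4, 0, 4, 0, 3, 4, 0, 4, 0, 3, 4, 0, 4, 0, 3, 4, 0, 4]
def rw10 : List Nat := [21, 6, 6]
def rw11 : List Nat := [23, 7, 1, 6, 0]
def rw12 : List Nat := [25, 7, 3, 6, 2]
def rw13 : List Nat := [27, 7, 5, 6, 4]
def rw14 : List Nat := [8, 8, 8]
def rw15 : List Nat := [10, 10, 10]
def rw16 : List Nat := [12, 12, 12]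
def rw17 : List Nat := [14, 14, 14]
def rw18 : List Nat := [16, 16, 16]
def rw19 : List Nat := [18, 18, 18]
def rw20 : List Nat := [20, 20, 20]
def rw21 : List Nat := [22, 22, 22]
def rw22 : List Nat := [24, 24, 24]
def rw23 : List Nat := [26, 26, 26]
def rw24 : List Nat := [8, 0, 9, 1]
def rw25 : List Nat := [8, 2, 9, 3]
def rw26 : List Nat := [8, 4, 9, 5]
def rw27 : List Nat := [8, 6, 9, 7]
def rw28 : List Nat := [10, 0, 11, 1]
def rw29 : List Nat := [10, 2, 11, 3]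
def rw30 : List Nat := [10, 4, 11, 5]
def rw31 : List Nat := [10, 6, 11, 7]
def rw32 : List Nat := [12, 0, 13, 1]
def rw33 : List Nat := [12, 2, 13, 3]
def rw34 : List Nat := [12, 4, 13, 5]
def rw35 : List Nat := [12, 6, 13, 7]
def rw36 : List Nat := [14, 0, 15, 1]
def rw37 : List Nat := [14, 2, 15, 3]
def rw38 : List Nat := [14, 4, 15, 5]
def rw39 : List Nat := [14, 6, 15, 7]
def rw40 : List Nat := [16, 0, 17, 1]
def rw41 : List Nat := [16, 2, 17, 3]
def rw42 : List Nat := [16, 4, 17, 5]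
def rw43 : List Nat := [16, 6, 17, 7]
def rw44 : List Nat := [18, 0, 19, 1]
def rw45 : List Nat := [18, 2, 19, 3]
def rw46 : List Nat := [18, 4, 19, 5]
def rw47 : List Nat := [18, 6, 19, 7]
def rw48 : List Nat := [20, 0, 21, 1]
def rw49 : List Nat := [20, 2, 21, 3]
def rw50 : List Nat := [20, 4, 21, 5]
def rw51 : List Nat := [20, 6, 21, 7]
def rw52 : List Nat := [22, 0, 23, 1]
def rw53 : List Nat := [22, 2, 23, 3]
def rw54 : List Nat := [22, 4, 23, 5]
def rw55 : List Nat := [22, 6, 23, 7]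
def rw56 : List Nat := [24, 0, 25, 1]
def rw57 : List Nat := [24, 2, 25, 3]
def rw58 : List Nat := [24, 4, 25, 5]
def rw59 : List Nat := [24, 6, 25, 7]
def rw60 : List Nat := [26, 0, 27, 1]
def rw61 : List Nat := [26, 2, 27, 3]
def rw62 : List Nat := [26, 4, 27, 5]
def rw63 : List Nat := [26, 6, 27, 7]
def rw64 : List Nat := [0, 0]
def rw65 : List Nat := [2, 2, 2, 2]
def rw66 : List Nat := [0, 2, 0, 2, 0, 2, 0, 2, 0, 2, 0, 2, 0, 2, 0, 2, 0, 2, 0, 2, 0, 2]
def rw67 : List Nat := [0, 2, 2, 0, 2, 2, 0, 2, 2, 0, 2, 2, 0, 2, 2, 0, 2, 2]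
def rw68 : List Nat := [0, 2, 0, 2, 0, 3, 0, 2, 0, 2, 2, 0, 3, 0, 2, 0, 3, 0, 3]
def realLit : List (List Nat) := [rw0, rw1, rw2, rw3, rw4, rw5, rw6, rw7, rw8, rw9, rw10, rw11, rw12, rw13, rw14, rw15, rw16, rw17, rw18, rw19, rw20, rw21, rw22, rw23, rw24, rw25, rw26, rw27, rw28, rw29, rw30, rw31, rw32, rw33, rw34, rw35, rw36, rw37, rw38, rw39, rw40, rw41, rw42, rw43, rw44, rw45, rw46, rw47, rw48, rw49, rw50, rw51, rw52, rw53, rw54, rw55, rw56, rw57, rw58, rw59, rw60, rw61, rw62, rw63, rw64, rw65, rw66, rw67, rw68]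
noncomputable def actR0 (i : Nat) : Nat := col1 (col1 (i))
theorem actR0_eq (i : Nat) : actR0 i = Tab.act T D rw0 i := rfl
noncomputable def actR1 (i : Nat) : Nat := col3 (col3 (col3 (col3 (i))))
theorem actR1_eq (i : Nat) : actR1 i = Tab.act T D rw1 i := rfl
noncomputable def actR2 (i : Nat) : Nat := col5 (col5 (i))
theorem actR2_eq (i : Nat) : actR2 i = Tab.act T D rw2 i := rfl
noncomputable def actR3 (i : Nat) : Nat := col6 (col1 (col3 (col1 (col2 (col5 (col3 (col1 (col3 (col1 (col2 (col5 (col3 (i)))))))))))))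
theorem actR3_eq (i : Nat) : actR3 i = Tab.act T D rw3 i := rfl
noncomputable def actR4 (i : Nat) : Nat := col8 (col1 (col3 (col5 (col2 (col1 (col3 (col5 (col2 (i)))))))))
theorem actR4_eq (i : Nat) : actR4 i = Tab.act T D rw4 i := rfl
noncomputable def actR5 (i : Nat) : Nat := col10 (col3 (col3 (col5 (col3 (col3 (col5 (col2 (col2 (col5 (i))))))))))
theorem actR5_eq (i : Nat) : actR5 i = Tab.act T D rw5 i := rfl
noncomputable def actR6 (i : Nat) : Nat := col12 (col1 (col5 (col1 (col5 (col1 (col5 (col1 (col5 (col1 (col5 (i)))))))))))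
theorem actR6_eq (i : Nat) : actR6 i = Tab.act T D rw6 i := rfl
noncomputable def actR7 (i : Nat) : Nat := col14 (col3 (col5 (col3 (col5 (col3 (col5 (col3 (col5 (col3 (col5 (col3 (col5 (i)))))))))))))
theorem actR7_eq (i : Nat) : actR7 i = Tab.act T D rw7 i := rfl
noncomputable def actR8 (i : Nat) : Nat := col16 (col1 (col5 (col2 (col5 (col3 (col5 (col1 (col5 (col2 (col5 (col3 (col5 (col1 (col5 (col2 (col5 (col3 (col5 (i)))))))))))))))))))
theorem actR8_eq (i : Nat) : actR8 i = Tab.act T D rw8 i := rfl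
noncomputable def actR9 (i : Nat) : Nat := col18 (col1 (col2 (col5 (col1 (col5 (col1 (col2 (col5 (col1 (col5 (col1 (col2 (col5 (col1 (col5 (col1 (col2 (col5 (col1 (col5 (i)))))))))))))))))))))
theorem actR9_eq (i : Nat) : actR9 i = Tab.act T D rw9 i := rfl
noncomputable def actR10 (i : Nat) : Nat := col20 (col7 (col7 (i)))
theorem actR10_eq (i : Nat) : actR10 i = Tab.act T D rw10 i := rfl
noncomputable def actR11 (i : Nat) : Nat := col22 (col6 (col0 (col7 (col1 (i)))))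
theorem actR11_eq (i : Nat) : actR11 i = Tab.act T D rw11 i := rfl
noncomputable def actR12 (i : Nat) : Nat := col24 (col6 (col2 (col7 (col3 (i)))))
theorem actR12_eq (i : Nat) : actR12 i = Tab.act T D rw12 i := rfl
noncomputable def actR13 (i : Nat) : Nat := col26 (col6 (col4 (col7 (col5 (i)))))
theorem actR13_eq (i : Nat) : actR13 i = Tab.act T D rw13 i := rfl
noncomputable def actR14 (i : Nat) : Nat := col9 (col9 (col9 (i)))
theorem actR14_eq (i : Nat) : actR14 i = Tab.act T D rw14 i := rfl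
noncomputable def actR15 (i : Nat) : Nat := col11 (col11 (col11 (i)))
theorem actR15_eq (i : Nat) : actR15 i = Tab.act T D rw15 i := rfl
noncomputable def actR16 (i : Nat) : Nat := col13 (col13 (col13 (i)))
theorem actR16_eq (i : Nat) : actR16 i = Tab.act T D rw16 i := rfl
noncomputable def actR17 (i : Nat) : Nat := col15 (col15 (col15 (i)))
theorem actR17_eq (i : Nat) : actR17 i = Tab.act T D rw17 i := rfl
noncomputable def actR18 (i : Nat) : Nat := col17 (col17 (col17 (i)))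
theorem actR18_eq (i : Nat) : actR18 i = Tab.act T D rw18 i := rfl
noncomputable def actR19 (i : Nat) : Nat := col19 (col19 (col19 (i)))
theorem actR19_eq (i : Nat) : actR19 i = Tab.act T D rw19 i := rfl
noncomputable def actR20 (i : Nat) : Nat := col21 (col21 (col21 (i)))
theorem actR20_eq (i : Nat) : actR20 i = Tab.act T D rw20 i := rfl
noncomputable def actR21 (i : Nat) : Nat := col23 (col23 (col23 (i)))
theorem actR21_eq (i : Nat) : actR21 i = Tab.act T D rw21 i := rfl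
noncomputable def actR22 (i : Nat) : Nat := col25 (col25 (col25 (i)))
theorem actR22_eq (i : Nat) : actR22 i = Tab.act T D rw22 i := rfl
noncomputable def actR23 (i : Nat) : Nat := col27 (col27 (col27 (i)))
theorem actR23_eq (i : Nat) : actR23 i = Tab.act T D rw23 i := rfl
noncomputable def actR24 (i : Nat) : Nat := col9 (col1 (col8 (col0 (i))))
theorem actR24_eq (i : Nat) : actR24 i = Tab.act T D rw24 i := rfl
noncomputable def actR25 (i : Nat) : Nat := col9 (col3 (col8 (col2 (i))))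
theorem actR25_eq (i : Nat) : actR25 i = Tab.act T D rw25 i := rfl
noncomputable def actR26 (i : Nat) : Nat := col9 (col5 (col8 (col4 (i))))
theorem actR26_eq (i : Nat) : actR26 i = Tab.act T D rw26 i := rfl
noncomputable def actR27 (i : Nat) : Nat := col9 (col7 (col8 (col6 (i))))
theorem actR27_eq (i : Nat) : actR27 i = Tab.act T D rw27 i := rfl
noncomputable def actR28 (i : Nat) : Nat := col11 (col1 (col10 (col0 (i))))
theorem actR28_eq (i : Nat) : actR28 i = Tab.act T D rw28 i := rfl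
noncomputable def actR29 (i : Nat) : Nat := col11 (col3 (col10 (col2 (i))))
theorem actR29_eq (i : Nat) : actR29 i = Tab.act T D rw29 i := rfl
noncomputable def actR30 (i : Nat) : Nat := col11 (col5 (col10 (col4 (i))))
theorem actR30_eq (i : Nat) : actR30 i = Tab.act T D rw30 i := rfl
noncomputable def actR31 (i : Nat) : Nat := col11 (col7 (col10 (col6 (i))))
theorem actR31_eq (i : Nat) : actR31 i = Tab.act T D rw31 i := rfl
noncomputable def actR32 (i : Nat) : Nat := col13 (col1 (col12 (col0 (i))))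
theorem actR32_eq (i : Nat) : actR32 i = Tab.act T D rw32 i := rfl
noncomputable def actR33 (i : Nat) : Nat := col13 (col3 (col12 (col2 (i))))
theorem actR33_eq (i : Nat) : actR33 i = Tab.act T D rw33 i := rfl
noncomputable def actR34 (i : Nat) : Nat := col13 (col5 (col12 (col4 (i))))
theorem actR34_eq (i : Nat) : actR34 i = Tab.act T D rw34 i := rfl
noncomputable def actR35 (i : Nat) : Nat := col13 (col7 (col12 (col6 (i))))
theorem actR35_eq (i : Nat) : actR35 i = Tab.act T D rw35 i := rfl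
noncomputable def actR36 (i : Nat) : Nat := col15 (col1 (col14 (col0 (i))))
theorem actR36_eq (i : Nat) : actR36 i = Tab.act T D rw36 i := rfl
noncomputable def actR37 (i : Nat) : Nat := col15 (col3 (col14 (col2 (i))))
theorem actR37_eq (i : Nat) : actR37 i = Tab.act T D rw37 i := rfl
noncomputable def actR38 (i : Nat) : Nat := col15 (col5 (col14 (col4 (i))))
theorem actR38_eq (i : Nat) : actR38 i = Tab.act T D rw38 i := rfl
noncomputable def actR39 (i : Nat) : Nat := col15 (col7 (col14 (col6 (i))))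
theorem actR39_eq (i : Nat) : actR39 i = Tab.act T D rw39 i := rfl
noncomputable def actR40 (i : Nat) : Nat := col17 (col1 (col16 (col0 (i))))
theorem actR40_eq (i : Nat) : actR40 i = Tab.act T D rw40 i := rfl
noncomputable def actR41 (i : Nat) : Nat := col17 (col3 (col16 (col2 (i))))
theorem actR41_eq (i : Nat) : actR41 i = Tab.act T D rw41 i := rfl
noncomputable def actR42 (i : Nat) : Nat := col17 (col5 (col16 (col4 (i))))
theorem actR42_eq (i : Nat) : actR42 i = Tab.act T D rw42 i := rfl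
noncomputable def actR43 (i : Nat) : Nat := col17 (col7 (col16 (col6 (i))))
theorem actR43_eq (i : Nat) : actR43 i = Tab.act T D rw43 i := rfl
noncomputable def actR44 (i : Nat) : Nat := col19 (col1 (col18 (col0 (i))))
theorem actR44_eq (i : Nat) : actR44 i = Tab.act T D rw44 i := rfl
noncomputable def actR45 (i : Nat) : Nat := col19 (col3 (col18 (col2 (i))))
theorem actR45_eq (i : Nat) : actR45 i = Tab.act T D rw45 i := rfl
noncomputable def actR46 (i : Nat) : Nat := col19 (col5 (col18 (col4 (i))))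
theorem actR46_eq (i : Nat) : actR46 i = Tab.act T D rw46 i := rfl
noncomputable def actR47 (i : Nat) : Nat := col19 (col7 (col18 (col6 (i))))
theorem actR47_eq (i : Nat) : actR47 i = Tab.act T D rw47 i := rfl
noncomputable def actR48 (i : Nat) : Nat := col21 (col1 (col20 (col0 (i))))
theorem actR48_eq (i : Nat) : actR48 i = Tab.act T D rw48 i := rfl
noncomputable def actR49 (i : Nat) : Nat := col21 (col3 (col20 (col2 (i))))
theorem actR49_eq (i : Nat) : actR49 i = Tab.act T D rw49 i := rfl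
noncomputable def actR50 (i : Nat) : Nat := col21 (col5 (col20 (col4 (i))))
theorem actR50_eq (i : Nat) : actR50 i = Tab.act T D rw50 i := rfl
noncomputable def actR51 (i : Nat) : Nat := col21 (col7 (col20 (col6 (i))))
theorem actR51_eq (i : Nat) : actR51 i = Tab.act T D rw51 i := rfl
noncomputable def actR52 (i : Nat) : Nat := col23 (col1 (col22 (col0 (i))))
theorem actR52_eq (i : Nat) : actR52 i = Tab.act T D rw52 i := rfl
noncomputable def actR53 (i : Nat) : Nat := col23 (col3 (col22 (col2 (i))))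
theorem actR53_eq (i : Nat) : actR53 i = Tab.act T D rw53 i := rfl
noncomputable def actR54 (i : Nat) : Nat := col23 (col5 (col22 (col4 (i))))
theorem actR54_eq (i : Nat) : actR54 i = Tab.act T D rw54 i := rfl
noncomputable def actR55 (i : Nat) : Nat := col23 (col7 (col22 (col6 (i))))
theorem actR55_eq (i : Nat) : actR55 i = Tab.act T D rw55 i := rfl
noncomputable def actR56 (i : Nat) : Nat := col25 (col1 (col24 (col0 (i))))
theorem actR56_eq (i : Nat) : actR56 i = Tab.act T D rw56 i := rfl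
noncomputable def actR57 (i : Nat) : Nat := col25 (col3 (col24 (col2 (i))))
theorem actR57_eq (i : Nat) : actR57 i = Tab.act T D rw57 i := rfl
noncomputable def actR58 (i : Nat) : Nat := col25 (col5 (col24 (col4 (i))))
theorem actR58_eq (i : Nat) : actR58 i = Tab.act T D rw58 i := rfl
noncomputable def actR59 (i : Nat) : Nat := col25 (col7 (col24 (col6 (i))))
theorem actR59_eq (i : Nat) : actR59 i = Tab.act T D rw59 i := rfl
noncomputable def actR60 (i : Nat) : Nat := col27 (col1 (col26 (col0 (i))))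
theorem actR60_eq (i : Nat) : actR60 i = Tab.act T D rw60 i := rfl
noncomputable def actR61 (i : Nat) : Nat := col27 (col3 (col26 (col2 (i))))
theorem actR61_eq (i : Nat) : actR61 i = Tab.act T D rw61 i := rfl
noncomputable def actR62 (i : Nat) : Nat := col27 (col5 (col26 (col4 (i))))
theorem actR62_eq (i : Nat) : actR62 i = Tab.act T D rw62 i := rfl
noncomputable def actR63 (i : Nat) : Nat := col27 (col7 (col26 (col6 (i))))
theorem actR63_eq (i : Nat) : actR63 i = Tab.act T D rw63 i := rfl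
noncomputable def actR64 (i : Nat) : Nat := col1 (col1 (i))
theorem actR64_eq (i : Nat) : actR64 i = Tab.act T D rw64 i := rfl
noncomputable def actR65 (i : Nat) : Nat := col3 (col3 (col3 (col3 (i))))
theorem actR65_eq (i : Nat) : actR65 i = Tab.act T D rw65 i := rfl
noncomputable def actR66 (i : Nat) : Nat := col1 (col3 (col1 (col3 (col1 (col3 (col1 (col3 (col1 (col3 (col1 (col3 (col1 (col3 (col1 (col3 (col1 (col3 (col1 (col3 (col1 (col3 (i))))))))))))))))))))))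
theorem actR66_eq (i : Nat) : actR66 i = Tab.act T D rw66 i := rfl
noncomputable def actR67 (i : Nat) : Nat := col1 (col3 (col3 (col1 (col3 (col3 (col1 (col3 (col3 (col1 (col3 (col3 (col1 (col3 (col3 (col1 (col3 (col3 (i))))))))))))))))))
theorem actR67_eq (i : Nat) : actR67 i = Tab.act T D rw67 i := rfl
noncomputable def actR68 (i : Nat) : Nat := col1 (col3 (col1 (col3 (col1 (col2 (col1 (col3 (col1 (col3 (col3 (col1 (col2 (col1 (col3 (col1 (col2 (col1 (col2 (i)))))))))))))))))))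
theorem actR68_eq (i : Nat) : actR68 i = Tab.act T D rw68 i := rfl

end Cfsg.Agent.Lib.Helper4.TCD.SC2HSp3A
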