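import Cfsg.Agent.Lib.Helper4.TCD_SC2HSp3A_Acc

namespace Cfsg.Agent.Lib.Helper4.TCD.SC2HSp3A

open Cfsg.Agent.Lib.Helper4.TC

set_option maxRecDepth 100000
set_option Elab.async false

theorem c_zero : D.zeroOK = true := by decide +kernel
theorem c_base : allBelow D.baseOK 4 = true := by decide +kernel
theorem c_let : allBelow D.letOK 28 = true := by decide +kernel
theorem c_cls0 : T.cls 0 = 0 := by decide +kernel
theorem c_name0 : T.nameOf 0 = 0 := by decide +kernel
theorem c_tab : D.relTabOK 0 (baseRels 28 PSC2HSp3.invR PSC2HSp3.P.real subs ++ (baseRels 28 PSC2HSp3.invR PSC2HSp3.P.real subs).map (invWord D.inv)) = true := by decide +kernel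
theorem c_real : PSC2HSp3.P.real = realLit := by decide +kernel
theorem c_subfix : subs.all (fun u => Nat.beq (Tab.act T D u 0) 0) = true := by decide +kernel
theorem c_subs : subs.all (fun u => u.all (fun x => Nat.ble (Nat.succ x) 28)) = true := by decide +kernel
theorem c_names_0 : allRange D.nameOK 1 60000 = true := by decide +kernel
theorem c_names_1 : allRange D.nameOK 60001 60000 = true := by decide +kernel
theorem c_names_2 : allRange D.nameOK 120001 10644 = true := by decide +kernel
theorem c_cls_0 : allRange (T.clsOK D) 1 15000 = true := by decide +kernel
theorem c_cls_1 : allRange (T.clsOK D) 15001 15000 = true := by decide +kernel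
theorem c_cls_2 : allRange (T.clsOK D) 30001 15000 = true := by decide +kernel
theorem c_cls_3 : allRange (T.clsOK D) 45001 15000 = true := by decide +kernel
theorem c_cls_4 : allRange (T.clsOK D) 60001 15000 = true := by decide +kernel
theorem c_cls_5 : allRange (T.clsOK D) 75001 15000 = true := by decide +kernel
theorem c_cls_6 : allRange (T.clsOK D) 90001 15000 = true := by decide +kernel
theorem c_cls_7 : allRange (T.clsOK D) 105001 15000 = true := by decide +kernel
theorem c_cls_8 : allRange (T.clsOK D) 120001 10644 = true := by decide +kernel
theorem c_rep_0 : allRange (T.repOK D) 0 11200 = true := by decide +kernel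
theorem c_rel_0 : allRange D.relOK 130649 3758 = true := by decide +kernel
theorem c_rel_1 : allRange D.relOK 134407 3807 = true := by decide +kernel
theorem c_rel_2 : allRange D.relOK 138214 3812 = true := by decide +kernel
theorem c_rel_3 : allRange D.relOK 142026 3482 = true := by decide +kernel
theorem c_rel_4 : allRange D.relOK 145508 3766 = true := by decide +kernel
theorem c_rel_5 : allRange D.relOK 149274 3788 = true := by decide +kernel
theorem c_rel_6 : allRange D.relOK 153062 3764 = true := by decide +kernel
theorem c_rel_7 : allRange D.relOK 156826 3772 = true := by decide +kernel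
theorem c_rel_8 : allRange D.relOK 160598 3763 = true := by decide +kernel
theorem c_rel_9 : allRange D.relOK 164361 3771 = true := by decide +kernel
theorem c_rel_10 : allRange D.relOK 168132 3809 = true := by decide +kernel
theorem c_rel_11 : allRange D.relOK 171941 3781 = true := by decide +kernel
theorem c_rel_12 : allRange D.relOK 175722 3782 = true := by decide +kernel
theorem c_rel_13 : allRange D.relOK 179504 3725 = true := by decide +kernel
theorem c_rel_14 : allRange D.relOK 183229 3764 = true := by decide +kernel
theorem c_rel_15 : allRange D.relOK 186993 3798 = true := by decide +kernel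
theorem c_rel_16 : allRange D.relOK 190791 3766 = true := by decide +kernel
theorem c_rel_17 : allRange D.relOK 194557 3767 = true := by decide +kernel
theorem c_rel_18 : allRange D.relOK 198324 3735 = true := by decide +kernel
theorem c_rel_19 : allRange D.relOK 202059 3748 = true := by decide +kernel
theorem c_rel_20 : allRange D.relOK 205807 3758 = true := by decide +kernel
theorem c_rel_21 : allRange D.relOK 209565 3757 = true := by decide +kernel
theorem c_rel_22 : allRange D.relOK 213322 3785 = true := by decide +kernel
theorem c_rel_23 : allRange D.relOK 217107 3723 = true := by decide +kernel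
theorem c_rel_24 : allRange D.relOK 220830 3766 = true := by decide +kernel
theorem c_rel_25 : allRange D.relOK 224596 3695 = true := by decide +kernel
theorem c_rel_26 : allRange D.relOK 228291 3700 = true := by decide +kernel
theorem c_rel_27 : allRange D.relOK 231991 3734 = true := by decide +kernel
theorem c_rel_28 : allRange D.relOK 235725 3770 = true := by decide +kernel
theorem c_rel_29 : allRange D.relOK 239495 3758 = true := by decide +kernel
theorem c_rel_30 : allRange D.relOK 243253 3775 = true := by decide +kernel
theorem c_rel_31 : allRange D.relOK 247028 3708 = true := by decide +kernel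
theorem c_rel_32 : allRange D.relOK 250736 3683 = true := by decide +kernel
theorem c_rel_33 : allRange D.relOK 254419 3718 = true := by decide +kernel
theorem c_rel_34 : allRange D.relOK 258137 3670 = true := by decide +kernel
theorem c_rel_35 : allRange D.relOK 261807 3679 = true := by decide +kernel
theorem c_rel_36 : allRange D.relOK 265486 3715 = true := by decide +kernel
theorem c_rel_37 : allRange D.relOK 269201 3717 = true := by decide +kernel
theorem c_rel_38 : allRange D.relOK 272918 3677 = true := by decide +kernel
theorem c_rel_39 : allRange D.relOK 276595 3735 = true := by decide +kernel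
theorem c_rel_40 : allRange D.relOK 280330 3765 = true := by decide +kernel
theorem c_rel_41 : allRange D.relOK 284095 3703 = true := by decide +kernel
theorem c_rel_42 : allRange D.relOK 287798 3750 = true := by decide +kernel
theorem c_rel_43 : allRange D.relOK 291548 3717 = true := by decide +kernel
theorem c_rel_44 : allRange D.relOK 295265 3651 = true := by decide +kernel
theorem c_rel_45 : allRange D.relOK 298916 3579 = true := by decide +kernel
theorem c_rel_46 : allRange D.relOK 302495 3430 = true := by decide +kernel
theorem c_rel_47 : allRange D.relOK 305925 3403 = true := by decide +kernel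
theorem c_rel_48 : allRange D.relOK 309328 3302 = true := by decide +kernel
theorem c_rel_49 : allRange D.relOK 312630 3175 = true := by decide +kernel
theorem c_rel_50 : allRange D.relOK 315805 3257 = true := by decide +kernel
theorem c_rel_51 : allRange D.relOK 319062 3682 = true := by decide +kernel
theorem c_rel_52 : allRange D.relOK 322744 3621 = true := by decide +kernel
theorem c_rel_53 : allRange D.relOK 326365 3695 = true := by decide +kernel
theorem c_rel_54 : allRange D.relOK 330060 3660 = true := by decide +kernel
theorem c_rel_55 : allRange D.relOK 333720 3671 = true := by decide +kernel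
theorem c_rel_56 : allRange D.relOK 337391 3673 = true := by decide +kernel
theorem c_rel_57 : allRange D.relOK 341064 3558 = true := by decide +kernel
theorem c_rel_58 : allRange D.relOK 344622 3160 = true := by decide +kernel
theorem c_rel_59 : allRange D.relOK 347782 3502 = true := by decide +kernel
theorem c_rel_60 : allRange D.relOK 351284 3477 = true := by decide +kernel
theorem c_rel_61 : allRange D.relOK 354761 3550 = true := by decide +kernel
theorem c_rel_62 : allRange D.relOK 358311 3640 = true := by decide +kernel
theorem c_rel_63 : allRange D.relOK 361951 3506 = true := by decide +kernel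
theorem c_rel_64 : allRange D.relOK 365457 3521 = true := by decide +kernel
theorem c_rel_65 : allRange D.relOK 368978 3515 = true := by decide +kernel
theorem c_rel_66 : allRange D.relOK 372493 3566 = true := by decide +kernel
theorem c_rel_67 : allRange D.relOK 376059 3494 = true := by decide +kernel
theorem c_rel_68 : allRange D.relOK 379553 3576 = true := by decide +kernel
theorem c_rel_69 : allRange D.relOK 383129 3587 = true := by decide +kernel
theorem c_rel_70 : allRange D.relOK 386716 3467 = true := by decide +kernel
theorem c_rel_71 : allRange D.relOK 390183 3397 = true := by decide +kernel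
theorem c_rel_72 : allRange D.relOK 393580 3518 = true := by decide +kernel
theorem c_rel_73 : allRange D.relOK 397098 3449 = true := by decide +kernel
theorem c_rel_74 : allRange D.relOK 400547 3509 = true := by decide +kernel
theorem c_rel_75 : allRange D.relOK 404056 3503 = true := by decide +kernel
theorem c_rel_76 : allRange D.relOK 407559 3500 = true := by decide +kernel

end Cfsg.Agent.Lib.Helper4.TCD.SC2HSp3A
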