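import Cfsg.Agent.Lib.Helper4.TCD_SC2HSp5A_Acc

namespace Cfsg.Agent.Lib.Helper4.TCD.SC2HSp5A

open Cfsg.Agent.Lib.Helper4.TC

set_option maxRecDepth 100000
set_option Elab.async false

theorem c_zero : D.zeroOK = true := by decide +kernel
theorem c_base : allBelow D.baseOK 4 = true := by decide +kernel
theorem c_let : allBelow D.letOK 28 = true := by decide +kernel
theorem c_cls0 : T.cls 0 = 0 := by decide +kernel
theorem c_name0 : T.nameOf 0 = 0 := by decide +kernel
theorem c_tab : D.relTabOK 0 (baseRels 28 PSC2HSp5.invR PSC2HSp5.P.real subs ++ (baseRels 28 PSC2HSp5.invR PSC2HSp5.P.real subs).map (invWord D.inv)) = true := by decide +kernel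
theorem c_real : PSC2HSp5.P.real = realLit := by decide +kernel
theorem c_subfix : subs.all (fun u => Nat.beq (Tab.act T D u 0) 0) = true := by decide +kernel
theorem c_subs : subs.all (fun u => u.all (fun x => Nat.ble (Nat.succ x) 28)) = true := by decide +kernel
theorem c_names_0 : allRange D.nameOK 1 60000 = true := by decide +kernel
theorem c_names_1 : allRange D.nameOK 60001 60000 = true := by decide +kernel
theorem c_names_2 : allRange D.nameOK 120001 12134 = true := by decide +kernel
theorem c_cls_0 : allRange (T.clsOK D) 1 15000 = true := by decide +kernel
theorem c_cls_1 : allRange (T.clsOK D) 15001 15000 = true := by decide +kernel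
theorem c_cls_2 : allRange (T.clsOK D) 30001 15000 = true := by decide +kernel
theorem c_cls_3 : allRange (T.clsOK D) 45001 15000 = true := by decide +kernel
theorem c_cls_4 : allRange (T.clsOK D) 60001 15000 = true := by decide +kernel
theorem c_cls_5 : allRange (T.clsOK D) 75001 15000 = true := by decide +kernel
theorem c_cls_6 : allRange (T.clsOK D) 90001 15000 = true := by decide +kernel
theorem c_cls_7 : allRange (T.clsOK D) 105001 15000 = true := by decide +kernel
theorem c_cls_8 : allRange (T.clsOK D) 120001 12134 = true := by decide +kernel
theorem c_rep_0 : allRange (T.repOK D) 0 11200 = true := by decide +kernel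
theorem c_rel_0 : allRange D.relOK 132139 3659 = true := by decide +kernel
theorem c_rel_1 : allRange D.relOK 135798 3722 = true := by decide +kernel
theorem c_rel_2 : allRange D.relOK 139520 3732 = true := by decide +kernel
theorem c_rel_3 : allRange D.relOK 143252 3462 = true := by decide +kernel
theorem c_rel_4 : allRange D.relOK 146714 3730 = true := by decide +kernel
theorem c_rel_5 : allRange D.relOK 150444 3756 = true := by decide +kernel
theorem c_rel_6 : allRange D.relOK 154200 3731 = true := by decide +kernel
theorem c_rel_7 : allRange D.relOK 157931 3734 = true := by decide +kernel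
theorem c_rel_8 : allRange D.relOK 161665 3729 = true := by decide +kernel
theorem c_rel_9 : allRange D.relOK 165394 3728 = true := by decide +kernel
theorem c_rel_10 : allRange D.relOK 169122 3784 = true := by decide +kernel
theorem c_rel_11 : allRange D.relOK 172906 3739 = true := by decide +kernel
theorem c_rel_12 : allRange D.relOK 176645 3755 = true := by decide +kernel
theorem c_rel_13 : allRange D.relOK 180400 3691 = true := by decide +kernel
theorem c_rel_14 : allRange D.relOK 184091 3739 = true := by decide +kernel
theorem c_rel_15 : allRange D.relOK 187830 3758 = true := by decide +kernel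
theorem c_rel_16 : allRange D.relOK 191588 3729 = true := by decide +kernel
theorem c_rel_17 : allRange D.relOK 195317 3731 = true := by decide +kernel
theorem c_rel_18 : allRange D.relOK 199048 3704 = true := by decide +kernel
theorem c_rel_19 : allRange D.relOK 202752 3717 = true := by decide +kernel
theorem c_rel_20 : allRange D.relOK 206469 3706 = true := by decide +kernel
theorem c_rel_21 : allRange D.relOK 210175 3728 = true := by decide +kernel
theorem c_rel_22 : allRange D.relOK 213903 3741 = true := by decide +kernel
theorem c_rel_23 : allRange D.relOK 217644 3690 = true := by decide +kernel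
theorem c_rel_24 : allRange D.relOK 221334 3744 = true := by decide +kernel
theorem c_rel_25 : allRange D.relOK 225078 3648 = true := by decide +kernel
theorem c_rel_26 : allRange D.relOK 228726 3680 = true := by decide +kernel
theorem c_rel_27 : allRange D.relOK 232406 3702 = true := by decide +kernel
theorem c_rel_28 : allRange D.relOK 236108 3732 = true := by decide +kernel
theorem c_rel_29 : allRange D.relOK 239840 3733 = true := by decide +kernel
theorem c_rel_30 : allRange D.relOK 243573 3739 = true := by decide +kernel
theorem c_rel_31 : allRange D.relOK 247312 3664 = true := by decide +kernel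
theorem c_rel_32 : allRange D.relOK 250976 3650 = true := by decide +kernel
theorem c_rel_33 : allRange D.relOK 254626 3670 = true := by decide +kernel
theorem c_rel_34 : allRange D.relOK 258296 3636 = true := by decide +kernel
theorem c_rel_35 : allRange D.relOK 261932 3647 = true := by decide +kernel
theorem c_rel_36 : allRange D.relOK 265579 3692 = true := by decide +kernel
theorem c_rel_37 : allRange D.relOK 269271 3660 = true := by decide +kernel
theorem c_rel_38 : allRange D.relOK 272931 3675 = true := by decide +kernel
theorem c_rel_39 : allRange D.relOK 276606 3694 = true := by decide +kernel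
theorem c_rel_40 : allRange D.relOK 280300 3702 = true := by decide +kernel
theorem c_rel_41 : allRange D.relOK 284002 3683 = true := by decide +kernel
theorem c_rel_42 : allRange D.relOK 287685 3713 = true := by decide +kernel
theorem c_rel_43 : allRange D.relOK 291398 3693 = true := by decide +kernel
theorem c_rel_44 : allRange D.relOK 295091 3609 = true := by decide +kernel
theorem c_rel_45 : allRange D.relOK 298700 3519 = true := by decide +kernel
theorem c_rel_46 : allRange D.relOK 302219 3317 = true := by decide +kernel
theorem c_rel_47 : allRange D.relOK 305536 3327 = true := by decide +kernel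
theorem c_rel_48 : allRange D.relOK 308863 3243 = true := by decide +kernel
theorem c_rel_49 : allRange D.relOK 312106 3388 = true := by decide +kernel
theorem c_rel_50 : allRange D.relOK 315494 3102 = true := by decide +kernel
theorem c_rel_51 : allRange D.relOK 318596 3677 = true := by decide +kernel
theorem c_rel_52 : allRange D.relOK 322273 3648 = true := by decide +kernel
theorem c_rel_53 : allRange D.relOK 325921 3664 = true := by decide +kernel
theorem c_rel_54 : allRange D.relOK 329585 3662 = true := by decide +kernel
theorem c_rel_55 : allRange D.relOK 333247 3682 = true := by decide +kernel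
theorem c_rel_56 : allRange D.relOK 336929 3667 = true := by decide +kernel
theorem c_rel_57 : allRange D.relOK 340596 3608 = true := by decide +kernel
theorem c_rel_58 : allRange D.relOK 344204 3506 = true := by decide +kernel
theorem c_rel_59 : allRange D.relOK 347710 3147 = true := by decide +kernel
theorem c_rel_60 : allRange D.relOK 350857 3504 = true := by decide +kernel
theorem c_rel_61 : allRange D.relOK 354361 3506 = true := by decide +kernel
theorem c_rel_62 : allRange D.relOK 357867 3625 = true := by decide +kernel
theorem c_rel_63 : allRange D.relOK 361492 3560 = true := by decide +kernel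
theorem c_rel_64 : allRange D.relOK 365052 3467 = true := by decide +kernel
theorem c_rel_65 : allRange D.relOK 368519 3536 = true := by decide +kernel
theorem c_rel_66 : allRange D.relOK 372055 3597 = true := by decide +kernel
theorem c_rel_67 : allRange D.relOK 375652 3487 = true := by decide +kernel
theorem c_rel_68 : allRange D.relOK 379139 3528 = true := by decide +kernel
theorem c_rel_69 : allRange D.relOK 382667 3581 = true := by decide +kernel
theorem c_rel_70 : allRange D.relOK 386248 3509 = true := by decide +kernel
theorem c_rel_71 : allRange D.relOK 389757 3410 = true := by decide +kernel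
theorem c_rel_72 : allRange D.relOK 393167 3474 = true := by decide +kernel
theorem c_rel_73 : allRange D.relOK 396641 3489 = true := by decide +kernel
theorem c_rel_74 : allRange D.relOK 400130 3493 = true := by decide +kernel
theorem c_rel_75 : allRange D.relOK 403623 3494 = true := by decide +kernel
theorem c_rel_76 : allRange D.relOK 407117 3506 = true := by decide +kernel

end Cfsg.Agent.Lib.Helper4.TCD.SC2HSp5A
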