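import Cfsg.Agent.Lib.Helper4.TC7
import Cfsg.Agent.Lib.Helper4.TCP_SC2J2p2
import Cfsg.Agent.Lib.Helper4.TCD_SC2J2p2A_D0
import Cfsg.Agent.Lib.Helper4.TCD_SC2J2p2A_D1

namespace Cfsg.Agent.Lib.Helper4.TCD.SC2J2p2A

open Cfsg.Agent.Lib.Helper4.TC

set_option maxRecDepth 100000

noncomputable def Atab_s_0_2 (c : Nat) : Nat := @Bool.rec (fun _ => Nat) (Atab_0) (Atab_1) (Nat.ble 1 c)
noncomputable def Atab_s_2_4 (c : Nat) : Nat := @Bool.rec (fun _ => Nat) (Atab_2) (Atab_3) (Nat.ble 3 c)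
noncomputable def Atab_s_0_4 (c : Nat) : Nat := @Bool.rec (fun _ => Nat) (Atab_s_0_2 c) (Atab_s_2_4 c) (Nat.ble 2 c)
noncomputable def Atab_s_4_6 (c : Nat) : Nat := @Bool.rec (fun _ => Nat) (Atab_4) (Atab_5) (Nat.ble 5 c)
noncomputable def Atab_s_6_8 (c : Nat) : Nat := @Bool.rec (fun _ => Nat) (Atab_6) (Atab_7) (Nat.ble 7 c)
noncomputable def Atab_s_4_8 (c : Nat) : Nat := @Bool.rec (fun _ => Nat) (Atab_s_4_6 c) (Atab_s_6_8 c) (Nat.ble 6 c)
noncomputable def Atab_s_0_8 (c : Nat) : Nat := @Bool.rec (fun _ => Nat) (Atab_s_0_4 c) (Atab_s_4_8 c) (Nat.ble 4 c)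
noncomputable def Atab_s_8_10 (c : Nat) : Nat := @Bool.rec (fun _ => Nat) (Atab_8) (Atab_9) (Nat.ble 9 c)
noncomputable def Atab_s_10_12 (c : Nat) : Nat := @Bool.rec (fun _ => Nat) (Atab_10) (Atab_11) (Nat.ble 11 c)
noncomputable def Atab_s_8_12 (c : Nat) : Nat := @Bool.rec (fun _ => Nat) (Atab_s_8_10 c) (Atab_s_10_12 c) (Nat.ble 10 c)
noncomputable def Atab_s_12_14 (c : Nat) : Nat := @Bool.rec (fun _ => Nat) (Atab_12) (Atab_13) (Nat.ble 13 c)
noncomputable def Atab_s_14_16 (c : Nat) : Nat := @Bool.rec (fun _ => Nat) (Atab_14) (Atab_15) (Nat.ble 15 c)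
noncomputable def Atab_s_12_16 (c : Nat) : Nat := @Bool.rec (fun _ => Nat) (Atab_s_12_14 c) (Atab_s_14_16 c) (Nat.ble 14 c)
noncomputable def Atab_s_8_16 (c : Nat) : Nat := @Bool.rec (fun _ => Nat) (Atab_s_8_12 c) (Atab_s_12_16 c) (Nat.ble 12 c)
noncomputable def Atab_s_0_16 (c : Nat) : Nat := @Bool.rec (fun _ => Nat) (Atab_s_0_8 c) (Atab_s_8_16 c) (Nat.ble 8 c)
noncomputable def Atab_s_16_18 (c : Nat) : Nat := @Bool.rec (fun _ => Nat) (Atab_16) (Atab_17) (Nat.ble 17 c)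
noncomputable def Atab_s_18_20 (c : Nat) : Nat := @Bool.rec (fun _ => Nat) (Atab_18) (Atab_19) (Nat.ble 19 c)
noncomputable def Atab_s_16_20 (c : Nat) : Nat := @Bool.rec (fun _ => Nat) (Atab_s_16_18 c) (Atab_s_18_20 c) (Nat.ble 18 c)
noncomputable def Atab_s_20_22 (c : Nat) : Nat := @Bool.rec (fun _ => Nat) (Atab_20) (Atab_21) (Nat.ble 21 c)
noncomputable def Atab_s_22_24 (c : Nat) : Nat := @Bool.rec (fun _ => Nat) (Atab_22) (Atab_23) (Nat.ble 23 c)
noncomputable def Atab_s_20_24 (c : Nat) : Nat := @Bool.rec (fun _ => Nat) (Atab_s_20_22 c) (Atab_s_22_24 c) (Nat.ble 22 c)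
noncomputable def Atab_s_16_24 (c : Nat) : Nat := @Bool.rec (fun _ => Nat) (Atab_s_16_20 c) (Atab_s_20_24 c) (Nat.ble 20 c)
noncomputable def Atab_s_24_26 (c : Nat) : Nat := @Bool.rec (fun _ => Nat) (Atab_24) (Atab_25) (Nat.ble 25 c)
noncomputable def Atab_s_26_28 (c : Nat) : Nat := @Bool.rec (fun _ => Nat) (Atab_26) (Atab_27) (Nat.ble 27 c)
noncomputable def Atab_s_24_28 (c : Nat) : Nat := @Bool.rec (fun _ => Nat) (Atab_s_24_26 c) (Atab_s_26_28 c) (Nat.ble 26 c)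
noncomputable def Atab_s_28_30 (c : Nat) : Nat := @Bool.rec (fun _ => Nat) (Atab_28) (Atab_29) (Nat.ble 29 c)
noncomputable def Atab_s_31_33 (c : Nat) : Nat := @Bool.rec (fun _ => Nat) (Atab_31) (Atab_32) (Nat.ble 32 c)
noncomputable def Atab_s_30_33 (c : Nat) : Nat := @Bool.rec (fun _ => Nat) (Atab_30) (Atab_s_31_33 c) (Nat.ble 31 c)
noncomputable def Atab_s_28_33 (c : Nat) : Nat := @Bool.rec (fun _ => Nat) (Atab_s_28_30 c) (Atab_s_30_33 c) (Nat.ble 30 c)
noncomputable def Atab_s_24_33 (c : Nat) : Nat := @Bool.rec (fun _ => Nat) (Atab_s_24_28 c) (Atab_s_28_33 c) (Nat.ble 28 c)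
noncomputable def Atab_s_16_33 (c : Nat) : Nat := @Bool.rec (fun _ => Nat) (Atab_s_16_24 c) (Atab_s_24_33 c) (Nat.ble 24 c)
noncomputable def Atab_s_0_33 (c : Nat) : Nat := @Bool.rec (fun _ => Nat) (Atab_s_0_16 c) (Atab_s_16_33 c) (Nat.ble 16 c)
noncomputable def Atab (i : Nat) : Nat := rdw 35 34359738367 (Atab_s_0_33 (Nat.shiftRight i 11)) (Nat.land i 2047)
noncomputable def Btab_s_1_3 (c : Nat) : Nat := @Bool.rec (fun _ => Nat) (Btab_1) (Btab_2) (Nat.ble 2 c)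
noncomputable def Btab_s_0_3 (c : Nat) : Nat := @Bool.rec (fun _ => Nat) (Btab_0) (Btab_s_1_3 c) (Nat.ble 1 c)
noncomputable def Btab_s_4_6 (c : Nat) : Nat := @Bool.rec (fun _ => Nat) (Btab_4) (Btab_5) (Nat.ble 5 c)
noncomputable def Btab_s_3_6 (c : Nat) : Nat := @Bool.rec (fun _ => Nat) (Btab_3) (Btab_s_4_6 c) (Nat.ble 4 c)
noncomputable def Btab_s_0_6 (c : Nat) : Nat := @Bool.rec (fun _ => Nat) (Btab_s_0_3 c) (Btab_s_3_6 c) (Nat.ble 3 c)
noncomputable def Btab_s_7_9 (c : Nat) : Nat := @Bool.rec (fun _ => Nat) (Btab_7) (Btab_8) (Nat.ble 8 c)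
noncomputable def Btab_s_6_9 (c : Nat) : Nat := @Bool.rec (fun _ => Nat) (Btab_6) (Btab_s_7_9 c) (Nat.ble 7 c)
noncomputable def Btab_s_10_12 (c : Nat) : Nat := @Bool.rec (fun _ => Nat) (Btab_10) (Btab_11) (Nat.ble 11 c)
noncomputable def Btab_s_9_12 (c : Nat) : Nat := @Bool.rec (fun _ => Nat) (Btab_9) (Btab_s_10_12 c) (Nat.ble 10 c)
noncomputable def Btab_s_6_12 (c : Nat) : Nat := @Bool.rec (fun _ => Nat) (Btab_s_6_9 c) (Btab_s_9_12 c) (Nat.ble 9 c)
noncomputable def Btab_s_0_12 (c : Nat) : Nat := @Bool.rec (fun _ => Nat) (Btab_s_0_6 c) (Btab_s_6_12 c) (Nat.ble 6 c)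
noncomputable def Btab_s_13_15 (c : Nat) : Nat := @Bool.rec (fun _ => Nat) (Btab_13) (Btab_14) (Nat.ble 14 c)
noncomputable def Btab_s_12_15 (c : Nat) : Nat := @Bool.rec (fun _ => Nat) (Btab_12) (Btab_s_13_15 c) (Nat.ble 13 c)
noncomputable def Btab_s_16_18 (c : Nat) : Nat := @Bool.rec (fun _ => Nat) (Btab_16) (Btab_17) (Nat.ble 17 c)
noncomputable def Btab_s_15_18 (c : Nat) : Nat := @Bool.rec (fun _ => Nat) (Btab_15) (Btab_s_16_18 c) (Nat.ble 16 c)
noncomputable def Btab_s_12_18 (c : Nat) : Nat := @Bool.rec (fun _ => Nat) (Btab_s_12_15 c) (Btab_s_15_18 c) (Nat.ble 15 c)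
noncomputable def Btab_s_19_21 (c : Nat) : Nat := @Bool.rec (fun _ => Nat) (Btab_19) (Btab_20) (Nat.ble 20 c)
noncomputable def Btab_s_18_21 (c : Nat) : Nat := @Bool.rec (fun _ => Nat) (Btab_18) (Btab_s_19_21 c) (Nat.ble 19 c)
noncomputable def Btab_s_22_24 (c : Nat) : Nat := @Bool.rec (fun _ => Nat) (Btab_22) (Btab_23) (Nat.ble 23 c)
noncomputable def Btab_s_21_24 (c : Nat) : Nat := @Bool.rec (fun _ => Nat) (Btab_21) (Btab_s_22_24 c) (Nat.ble 22 c)
noncomputable def Btab_s_18_24 (c : Nat) : Nat := @Bool.rec (fun _ => Nat) (Btab_s_18_21 c) (Btab_s_21_24 c) (Nat.ble 21 c)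
noncomputable def Btab_s_12_24 (c : Nat) : Nat := @Bool.rec (fun _ => Nat) (Btab_s_12_18 c) (Btab_s_18_24 c) (Nat.ble 18 c)
noncomputable def Btab_s_0_24 (c : Nat) : Nat := @Bool.rec (fun _ => Nat) (Btab_s_0_12 c) (Btab_s_12_24 c) (Nat.ble 12 c)
noncomputable def Btab (i : Nat) : Nat := rdw 35 34359738367 (Btab_s_0_24 (Nat.shiftRight i 11)) (Nat.land i 2047)
noncomputable def Ptab_s_0_2 (c : Nat) : Nat := @Bool.rec (fun _ => Nat) (Ptab_0) (Ptab_1) (Nat.ble 1 c)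
noncomputable def Ptab_s_3_5 (c : Nat) : Nat := @Bool.rec (fun _ => Nat) (Ptab_3) (Ptab_4) (Nat.ble 4 c)
noncomputable def Ptab_s_2_5 (c : Nat) : Nat := @Bool.rec (fun _ => Nat) (Ptab_2) (Ptab_s_3_5 c) (Nat.ble 3 c)
noncomputable def Ptab_s_0_5 (c : Nat) : Nat := @Bool.rec (fun _ => Nat) (Ptab_s_0_2 c) (Ptab_s_2_5 c) (Nat.ble 2 c)
noncomputable def Ptab_s_5_7 (c : Nat) : Nat := @Bool.rec (fun _ => Nat) (Ptab_5) (Ptab_6) (Nat.ble 6 c)
noncomputable def Ptab_s_8_10 (c : Nat) : Nat := @Bool.rec (fun _ => Nat) (Ptab_8) (Ptab_9) (Nat.ble 9 c)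
noncomputable def Ptab_s_7_10 (c : Nat) : Nat := @Bool.rec (fun _ => Nat) (Ptab_7) (Ptab_s_8_10 c) (Nat.ble 8 c)
noncomputable def Ptab_s_5_10 (c : Nat) : Nat := @Bool.rec (fun _ => Nat) (Ptab_s_5_7 c) (Ptab_s_7_10 c) (Nat.ble 7 c)
noncomputable def Ptab_s_0_10 (c : Nat) : Nat := @Bool.rec (fun _ => Nat) (Ptab_s_0_5 c) (Ptab_s_5_10 c) (Nat.ble 5 c)
noncomputable def Ptab_s_10_12 (c : Nat) : Nat := @Bool.rec (fun _ => Nat) (Ptab_10) (Ptab_11) (Nat.ble 11 c)
noncomputable def Ptab_s_13_15 (c : Nat) : Nat := @Bool.rec (fun _ => Nat) (Ptab_13) (Ptab_14) (Nat.ble 14 c)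
noncomputable def Ptab_s_12_15 (c : Nat) : Nat := @Bool.rec (fun _ => Nat) (Ptab_12) (Ptab_s_13_15 c) (Nat.ble 13 c)
noncomputable def Ptab_s_10_15 (c : Nat) : Nat := @Bool.rec (fun _ => Nat) (Ptab_s_10_12 c) (Ptab_s_12_15 c) (Nat.ble 12 c)
noncomputable def Ptab_s_15_17 (c : Nat) : Nat := @Bool.rec (fun _ => Nat) (Ptab_15) (Ptab_16) (Nat.ble 16 c)
noncomputable def Ptab_s_18_20 (c : Nat) : Nat := @Bool.rec (fun _ => Nat) (Ptab_18) (Ptab_19) (Nat.ble 19 c)
noncomputable def Ptab_s_17_20 (c : Nat) : Nat := @Bool.rec (fun _ => Nat) (Ptab_17) (Ptab_s_18_20 c) (Nat.ble 18 c)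
noncomputable def Ptab_s_15_20 (c : Nat) : Nat := @Bool.rec (fun _ => Nat) (Ptab_s_15_17 c) (Ptab_s_17_20 c) (Nat.ble 17 c)
noncomputable def Ptab_s_10_20 (c : Nat) : Nat := @Bool.rec (fun _ => Nat) (Ptab_s_10_15 c) (Ptab_s_15_20 c) (Nat.ble 15 c)
noncomputable def Ptab_s_0_20 (c : Nat) : Nat := @Bool.rec (fun _ => Nat) (Ptab_s_0_10 c) (Ptab_s_10_20 c) (Nat.ble 10 c)
noncomputable def Ptab_s_20_22 (c : Nat) : Nat := @Bool.rec (fun _ => Nat) (Ptab_20) (Ptab_21) (Nat.ble 21 c)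
noncomputable def Ptab_s_23_25 (c : Nat) : Nat := @Bool.rec (fun _ => Nat) (Ptab_23) (Ptab_24) (Nat.ble 24 c)
noncomputable def Ptab_s_22_25 (c : Nat) : Nat := @Bool.rec (fun _ => Nat) (Ptab_22) (Ptab_s_23_25 c) (Nat.ble 23 c)
noncomputable def Ptab_s_20_25 (c : Nat) : Nat := @Bool.rec (fun _ => Nat) (Ptab_s_20_22 c) (Ptab_s_22_25 c) (Nat.ble 22 c)
noncomputable def Ptab_s_25_27 (c : Nat) : Nat := @Bool.rec (fun _ => Nat) (Ptab_25) (Ptab_26) (Nat.ble 26 c)
noncomputable def Ptab_s_28_30 (c : Nat) : Nat := @Bool.rec (fun _ => Nat) (Ptab_28) (Ptab_29) (Nat.ble 29 c)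
noncomputable def Ptab_s_27_30 (c : Nat) : Nat := @Bool.rec (fun _ => Nat) (Ptab_27) (Ptab_s_28_30 c) (Nat.ble 28 c)
noncomputable def Ptab_s_25_30 (c : Nat) : Nat := @Bool.rec (fun _ => Nat) (Ptab_s_25_27 c) (Ptab_s_27_30 c) (Nat.ble 27 c)
noncomputable def Ptab_s_20_30 (c : Nat) : Nat := @Bool.rec (fun _ => Nat) (Ptab_s_20_25 c) (Ptab_s_25_30 c) (Nat.ble 25 c)
noncomputable def Ptab_s_30_32 (c : Nat) : Nat := @Bool.rec (fun _ => Nat) (Ptab_30) (Ptab_31) (Nat.ble 31 c)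
noncomputable def Ptab_s_33_35 (c : Nat) : Nat := @Bool.rec (fun _ => Nat) (Ptab_33) (Ptab_34) (Nat.ble 34 c)
noncomputable def Ptab_s_32_35 (c : Nat) : Nat := @Bool.rec (fun _ => Nat) (Ptab_32) (Ptab_s_33_35 c) (Nat.ble 33 c)
noncomputable def Ptab_s_30_35 (c : Nat) : Nat := @Bool.rec (fun _ => Nat) (Ptab_s_30_32 c) (Ptab_s_32_35 c) (Nat.ble 32 c)
noncomputable def Ptab_s_35_37 (c : Nat) : Nat := @Bool.rec (fun _ => Nat) (Ptab_35) (Ptab_36) (Nat.ble 36 c)
noncomputable def Ptab_s_38_40 (c : Nat) : Nat := @Bool.rec (fun _ => Nat) (Ptab_38) (Ptab_39) (Nat.ble 39 c)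
noncomputable def Ptab_s_37_40 (c : Nat) : Nat := @Bool.rec (fun _ => Nat) (Ptab_37) (Ptab_s_38_40 c) (Nat.ble 38 c)
noncomputable def Ptab_s_35_40 (c : Nat) : Nat := @Bool.rec (fun _ => Nat) (Ptab_s_35_37 c) (Ptab_s_37_40 c) (Nat.ble 37 c)
noncomputable def Ptab_s_30_40 (c : Nat) : Nat := @Bool.rec (fun _ => Nat) (Ptab_s_30_35 c) (Ptab_s_35_40 c) (Nat.ble 35 c)
noncomputable def Ptab_s_20_40 (c : Nat) : Nat := @Bool.rec (fun _ => Nat) (Ptab_s_20_30 c) (Ptab_s_30_40 c) (Nat.ble 30 c)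
noncomputable def Ptab_s_0_40 (c : Nat) : Nat := @Bool.rec (fun _ => Nat) (Ptab_s_0_20 c) (Ptab_s_20_40 c) (Nat.ble 20 c)
noncomputable def Ptab (i : Nat) : Nat := rdw 18 262143 (Ptab_s_0_40 (Nat.shiftRight i 12)) (Nat.land i 4095)
noncomputable def RRtab (i : Nat) : Nat := rdw 5 31 RRtab_0 i
noncomputable def rBtab (i : Nat) : Nat := rdw 11 2047 rBtab_0 i
noncomputable def rLtab (i : Nat) : Nat := rdw 4 15 rLtab_0 i
noncomputable def nameTab (i : Nat) : Nat := rdw 15 32767 nameTab_0 i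
noncomputable def col0 (i : Nat) : Nat := rdw 8 255 col0_0 i
noncomputable def col1 (i : Nat) : Nat := rdw 8 255 col1_0 i
noncomputable def col2 (i : Nat) : Nat := rdw 8 255 col2_0 i
noncomputable def col3 (i : Nat) : Nat := rdw 8 255 col3_0 i
noncomputable def col4 (i : Nat) : Nat := rdw 8 255 col4_0 i
noncomputable def col5 (i : Nat) : Nat := rdw 8 255 col5_0 i
noncomputable def col6 (i : Nat) : Nat := rdw 8 255 col6_0 i
noncomputable def col7 (i : Nat) : Nat := rdw 8 255 col7_0 i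
noncomputable def col8 (i : Nat) : Nat := rdw 8 255 col8_0 i
noncomputable def col9 (i : Nat) : Nat := rdw 8 255 col9_0 i
noncomputable def col10 (i : Nat) : Nat := rdw 8 255 col10_0 i
noncomputable def col11 (i : Nat) : Nat := rdw 8 255 col11_0 i
noncomputable def col12 (i : Nat) : Nat := rdw 8 255 col12_0 i
noncomputable def col13 (i : Nat) : Nat := rdw 8 255 col13_0 i
noncomputable def col14 (i : Nat) : Nat := rdw 8 255 col14_0 i
noncomputable def col15 (i : Nat) : Nat := rdw 8 255 col15_0 i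
noncomputable def col16 (i : Nat) : Nat := rdw 8 255 col16_0 i
noncomputable def col17 (i : Nat) : Nat := rdw 8 255 col17_0 i
noncomputable def col18 (i : Nat) : Nat := rdw 8 255 col18_0 i
noncomputable def col19 (i : Nat) : Nat := rdw 8 255 col19_0 i
noncomputable def finTab (i : Nat) : Nat := rdw 18 262143 finTab_0 i
noncomputable def clsTab_s_1_3 (c : Nat) : Nat := @Bool.rec (fun _ => Nat) (clsTab_1) (clsTab_2) (Nat.ble 2 c)
noncomputable def clsTab_s_0_3 (c : Nat) : Nat := @Bool.rec (fun _ => Nat) (clsTab_0) (clsTab_s_1_3 c) (Nat.ble 1 c)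
noncomputable def clsTab (i : Nat) : Nat := rdw 8 255 (clsTab_s_0_3 (Nat.shiftRight i 13)) (Nat.land i 8191)
noncomputable def oparTab (i : Nat) : Nat := rdw 8 255 oparTab_0 i
noncomputable def olabTab (i : Nat) : Nat := rdw 2 3 olabTab_0 i
noncomputable def srcF (t : Nat) : Nat := Nat.land (Atab t) 32767
noncomputable def tgtF (t : Nat) : Nat := Nat.land (Nat.shiftRight (Atab t) 15) 32767
noncomputable def ltF (t : Nat) : Nat := Nat.shiftRight (Atab t) 30
noncomputable def rhoF (t : Nat) : Nat := Nat.land (Btab (Nat.sub t 18655)) 255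
noncomputable def rotF (t : Nat) : Nat := Nat.land (Nat.shiftRight (Btab (Nat.sub t 18655)) 8) 15
noncomputable def lenF (t : Nat) : Nat := Nat.land (Nat.shiftRight (Btab (Nat.sub t 18655)) 12) 31
noncomputable def offF (t : Nat) : Nat := Nat.shiftRight (Btab (Nat.sub t 18655)) 17
noncomputable def pfF (j : Nat) : Nat := Nat.shiftRight (Ptab j) 1
noncomputable def pdF (j : Nat) : Nat := Nat.land (Ptab j) 1
noncomputable def tblF (i x : Nat) : Nat := @Bool.rec (fun _ => Nat) (@Bool.rec (fun _ => Nat) (@Bool.rec (fun _ => Nat) (@Bool.rec (fun _ => Nat) (col0 i) (col1 i) (Nat.ble 1 x)) (@Bool.rec (fun _ => Nat) (col2 i) (@Bool.rec (fun _ => Nat) (col3 i) (col4 i) (Nat.ble 4 x)) (Nat.ble 3 x)) (Nat.ble 2 x)) (@Bool.rec (fun _ => Nat) (@Bool.rec (fun _ => Nat) (col5 i) (col6 i) (Nat.ble 6 x)) (@Bool.rec (fun _ => Nat) (col7 i) (@Bool.rec (fun _ => Nat) (col8 i) (col9 i) (Nat.ble 9 x)) (Nat.ble 8 x)) (Nat.ble 7 x)) (Nat.ble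 5 x)) (@Bool.rec (fun _ => Nat) (@Bool.rec (fun _ => Nat) (@Bool.rec (fun _ => Nat) (col10 i) (col11 i) (Nat.ble 11 x)) (@Bool.rec (fun _ => Nat) (col12 i) (@Bool.rec (fun _ => Nat) (col13 i) (col14 i) (Nat.ble 14 x)) (Nat.ble 13 x)) (Nat.ble 12 x)) (@Bool.rec (fun _ => Nat) (@Bool.rec (fun _ => Nat) (col15 i) (col16 i) (Nat.ble 16 x)) (@Bool.rec (fun _ => Nat) (col17 i) (@Bool.rec (fun _ => Nat) (col18 i) (col19 i) (Nat.ble 19 x)) (Nat.ble 18 x)) (Nat.ble 17 x)) (Nat.ble 15 x)) (Nat.ble 10 x)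
noncomputable def finE (i x : Nat) : Nat := finTab (Nat.add (Nat.mul i 20) x)
noncomputable def finFF (i x : Nat) : Nat := Nat.shiftRight (finE i x) 1
noncomputable def finDF (i x : Nat) : Nat := Nat.land (finE i x) 1

noncomputable def D : Log :=
  { k := 20, inv := invE 20 PSC2J2p2.invR, nR := 132, rBase := rBtab, rLen := rLtab, RR := RRtab,
    M := 18651, nB := 4, F := 66764, src := srcF, lt := ltF, tgt := tgtF, rho := rhoF, rot := rotF,
    off := offF, len := lenF, pf := pfF, pd := pdF }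

noncomputable def T : Tab :=
  { N := 200, nameOf := nameTab, tbl := tblF, finF := finFF, finD := finDF, cls := clsTab }

def subs : List (List Nat) := [
  [0],
  [2] ]

def rw0 : List Nat := [0, 0, 0, 0, 0, 0, 0]
def rw1 : List Nat := [2, 2, 2, 2]
def rw2 : List Nat := [4, 4, 4, 4, 4, 4, 4]
def rw3 : List Nat := [7, 4, 0]
def rw4 : List Nat := [9, 6, 6]
def rw5 : List Nat := [11, 8, 8]
def rw6 : List Nat := [13, 0, 6, 3, 6, 2, 1, 2, 1, 1, 6, 2]
def rw7 : List Nat := [15, 0, 6, 1, 3, 1, 3, 0, 6, 1, 3, 1, 3, 8]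
def rw8 : List Nat := [17, 9, 1, 8, 0]
def rw9 : List Nat := [19, 9, 3, 8, 2]
def rw10 : List Nat := [10, 10]
def rw11 : List Nat := [12, 12]
def rw12 : List Nat := [14, 14]
def rw13 : List Nat := [16, 16]
def rw14 : List Nat := [18, 18]
def rw15 : List Nat := [10, 0, 11, 1]
def rw16 : List Nat := [10, 2, 11, 3]
def rw17 : List Nat := [10, 4, 11, 5]
def rw18 : List Nat := [10, 6, 11, 7]
def rw19 : List Nat := [10, 8, 11, 9]
def rw20 : List Nat := [12, 0, 13, 1]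
def rw21 : List Nat := [12, 2, 13, 3]
def rw22 : List Nat := [12, 4, 13, 5]
def rw23 : List Nat := [12, 6, 13, 7]
def rw24 : List Nat := [12, 8, 13, 9]
def rw25 : List Nat := [14, 0, 15, 1]
def rw26 : List Nat := [14, 2, 15, 3]
def rw27 : List Nat := [14, 4, 15, 5]
def rw28 : List Nat := [14, 6, 15, 7]
def rw29 : List Nat := [14, 8, 15, 9]
def rw30 : List Nat := [16, 0, 17, 1]
def rw31 : List Nat := [16, 2, 17, 3]
def rw32 : List Nat := [16, 4, 17, 5]
def rw33 : List Nat := [16, 6, 17, 7]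
def rw34 : List Nat := [16, 8, 17, 9]
def rw35 : List Nat := [18, 0, 19, 1]
def rw36 : List Nat := [18, 2, 19, 3]
def rw37 : List Nat := [18, 4, 19, 5]
def rw38 : List Nat := [18, 6, 19, 7]
def rw39 : List Nat := [18, 8, 19, 9]
def rw40 : List Nat := [0, 0, 0, 0, 0, 0, 0]
def rw41 : List Nat := [0, 0, 2, 1, 2, 0, 3, 0, 2, 1, 2]
def rw42 : List Nat := [0, 0, 0, 2, 0, 0, 0, 2, 0, 0, 0, 2]
def rw43 : List Nat := [0, 0, 2, 2, 0, 0, 3, 3, 0, 0, 3, 3]
def realLit : List (List Nat) := [rw0, rw1, rw2, rw3, rw4, rw5, rw6, rw7, rw8, rw9, rw10, rw11, rw12, rw13, rw14, rw15, rw16, rw17, rw18, rw19, rw20, rw21, rw22, rw23, rw24, rw25, rw26, rw27, rw28, rw29, rw30, rw31, rw32, rw33, rw34, rw35, rw36, rw37, rw38, rw39, rw40, rw41, rw42, rw43]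
noncomputable def actR0 (i : Nat) : Nat := col1 (col1 (col1 (col1 (col1 (col1 (col1 (i)))))))
theorem actR0_eq (i : Nat) : actR0 i = Tab.act T D rw0 i := rfl
noncomputable def actR1 (i : Nat) : Nat := col3 (col3 (col3 (col3 (i))))
theorem actR1_eq (i : Nat) : actR1 i = Tab.act T D rw1 i := rfl
noncomputable def actR2 (i : Nat) : Nat := col5 (col5 (col5 (col5 (col5 (col5 (col5 (i)))))))
theorem actR2_eq (i : Nat) : actR2 i = Tab.act T D rw2 i := rfl
noncomputable def actR3 (i : Nat) : Nat := col6 (col5 (col1 (i)))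
theorem actR3_eq (i : Nat) : actR3 i = Tab.act T D rw3 i := rfl
noncomputable def actR4 (i : Nat) : Nat := col8 (col7 (col7 (i)))
theorem actR4_eq (i : Nat) : actR4 i = Tab.act T D rw4 i := rfl
noncomputable def actR5 (i : Nat) : Nat := col10 (col9 (col9 (i)))
theorem actR5_eq (i : Nat) : actR5 i = Tab.act T D rw5 i := rfl
noncomputable def actR6 (i : Nat) : Nat := col12 (col1 (col7 (col2 (col7 (col3 (col0 (col3 (col0 (col0 (col7 (col3 (i))))))))))))
theorem actR6_eq (i : Nat) : actR6 i = Tab.act T D rw6 i := rfl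
noncomputable def actR7 (i : Nat) : Nat := col14 (col1 (col7 (col0 (col2 (col0 (col2 (col1 (col7 (col0 (col2 (col0 (col2 (col9 (i))))))))))))))
theorem actR7_eq (i : Nat) : actR7 i = Tab.act T D rw7 i := rfl
noncomputable def actR8 (i : Nat) : Nat := col16 (col8 (col0 (col9 (col1 (i)))))
theorem actR8_eq (i : Nat) : actR8 i = Tab.act T D rw8 i := rfl
noncomputable def actR9 (i : Nat) : Nat := col18 (col8 (col2 (col9 (col3 (i)))))
theorem actR9_eq (i : Nat) : actR9 i = Tab.act T D rw9 i := rfl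
noncomputable def actR10 (i : Nat) : Nat := col11 (col11 (i))
theorem actR10_eq (i : Nat) : actR10 i = Tab.act T D rw10 i := rfl
noncomputable def actR11 (i : Nat) : Nat := col13 (col13 (i))
theorem actR11_eq (i : Nat) : actR11 i = Tab.act T D rw11 i := rfl
noncomputable def actR12 (i : Nat) : Nat := col15 (col15 (i))
theorem actR12_eq (i : Nat) : actR12 i = Tab.act T D rw12 i := rfl
noncomputable def actR13 (i : Nat) : Nat := col17 (col17 (i))
theorem actR13_eq (i : Nat) : actR13 i = Tab.act T D rw13 i := rfl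
noncomputable def actR14 (i : Nat) : Nat := col19 (col19 (i))
theorem actR14_eq (i : Nat) : actR14 i = Tab.act T D rw14 i := rfl
noncomputable def actR15 (i : Nat) : Nat := col11 (col1 (col10 (col0 (i))))
theorem actR15_eq (i : Nat) : actR15 i = Tab.act T D rw15 i := rfl
noncomputable def actR16 (i : Nat) : Nat := col11 (col3 (col10 (col2 (i))))
theorem actR16_eq (i : Nat) : actR16 i = Tab.act T D rw16 i := rfl
noncomputable def actR17 (i : Nat) : Nat := col11 (col5 (col10 (col4 (i))))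
theorem actR17_eq (i : Nat) : actR17 i = Tab.act T D rw17 i := rfl
noncomputable def actR18 (i : Nat) : Nat := col11 (col7 (col10 (col6 (i))))
theorem actR18_eq (i : Nat) : actR18 i = Tab.act T D rw18 i := rfl
noncomputable def actR19 (i : Nat) : Nat := col11 (col9 (col10 (col8 (i))))
theorem actR19_eq (i : Nat) : actR19 i = Tab.act T D rw19 i := rfl
noncomputable def actR20 (i : Nat) : Nat := col13 (col1 (col12 (col0 (i))))
theorem actR20_eq (i : Nat) : actR20 i = Tab.act T D rw20 i := rfl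
noncomputable def actR21 (i : Nat) : Nat := col13 (col3 (col12 (col2 (i))))
theorem actR21_eq (i : Nat) : actR21 i = Tab.act T D rw21 i := rfl
noncomputable def actR22 (i : Nat) : Nat := col13 (col5 (col12 (col4 (i))))
theorem actR22_eq (i : Nat) : actR22 i = Tab.act T D rw22 i := rfl
noncomputable def actR23 (i : Nat) : Nat := col13 (col7 (col12 (col6 (i))))
theorem actR23_eq (i : Nat) : actR23 i = Tab.act T D rw23 i := rfl
noncomputable def actR24 (i : Nat) : Nat := col13 (col9 (col12 (col8 (i))))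
theorem actR24_eq (i : Nat) : actR24 i = Tab.act T D rw24 i := rfl
noncomputable def actR25 (i : Nat) : Nat := col15 (col1 (col14 (col0 (i))))
theorem actR25_eq (i : Nat) : actR25 i = Tab.act T D rw25 i := rfl
noncomputable def actR26 (i : Nat) : Nat := col15 (col3 (col14 (col2 (i))))
theorem actR26_eq (i : Nat) : actR26 i = Tab.act T D rw26 i := rfl
noncomputable def actR27 (i : Nat) : Nat := col15 (col5 (col14 (col4 (i))))
theorem actR27_eq (i : Nat) : actR27 i = Tab.act T D rw27 i := rfl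
noncomputable def actR28 (i : Nat) : Nat := col15 (col7 (col14 (col6 (i))))
theorem actR28_eq (i : Nat) : actR28 i = Tab.act T D rw28 i := rfl
noncomputable def actR29 (i : Nat) : Nat := col15 (col9 (col14 (col8 (i))))
theorem actR29_eq (i : Nat) : actR29 i = Tab.act T D rw29 i := rfl
noncomputable def actR30 (i : Nat) : Nat := col17 (col1 (col16 (col0 (i))))
theorem actR30_eq (i : Nat) : actR30 i = Tab.act T D rw30 i := rfl
noncomputable def actR31 (i : Nat) : Nat := col17 (col3 (col16 (col2 (i))))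
theorem actR31_eq (i : Nat) : actR31 i = Tab.act T D rw31 i := rfl
noncomputable def actR32 (i : Nat) : Nat := col17 (col5 (col16 (col4 (i))))
theorem actR32_eq (i : Nat) : actR32 i = Tab.act T D rw32 i := rfl
noncomputable def actR33 (i : Nat) : Nat := col17 (col7 (col16 (col6 (i))))
theorem actR33_eq (i : Nat) : actR33 i = Tab.act T D rw33 i := rfl
noncomputable def actR34 (i : Nat) : Nat := col17 (col9 (col16 (col8 (i))))
theorem actR34_eq (i : Nat) : actR34 i = Tab.act T D rw34 i := rfl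
noncomputable def actR35 (i : Nat) : Nat := col19 (col1 (col18 (col0 (i))))
theorem actR35_eq (i : Nat) : actR35 i = Tab.act T D rw35 i := rfl
noncomputable def actR36 (i : Nat) : Nat := col19 (col3 (col18 (col2 (i))))
theorem actR36_eq (i : Nat) : actR36 i = Tab.act T D rw36 i := rfl
noncomputable def actR37 (i : Nat) : Nat := col19 (col5 (col18 (col4 (i))))
theorem actR37_eq (i : Nat) : actR37 i = Tab.act T D rw37 i := rfl
noncomputable def actR38 (i : Nat) : Nat := col19 (col7 (col18 (col6 (i))))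
theorem actR38_eq (i : Nat) : actR38 i = Tab.act T D rw38 i := rfl
noncomputable def actR39 (i : Nat) : Nat := col19 (col9 (col18 (col8 (i))))
theorem actR39_eq (i : Nat) : actR39 i = Tab.act T D rw39 i := rfl
noncomputable def actR40 (i : Nat) : Nat := col1 (col1 (col1 (col1 (col1 (col1 (col1 (i)))))))
theorem actR40_eq (i : Nat) : actR40 i = Tab.act T D rw40 i := rfl
noncomputable def actR41 (i : Nat) : Nat := col1 (col1 (col3 (col0 (col3 (col1 (col2 (col1 (col3 (col0 (col3 (i)))))))))))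
theorem actR41_eq (i : Nat) : actR41 i = Tab.act T D rw41 i := rfl
noncomputable def actR42 (i : Nat) : Nat := col1 (col1 (col1 (col3 (col1 (col1 (col1 (col3 (col1 (col1 (col1 (col3 (i))))))))))))
theorem actR42_eq (i : Nat) : actR42 i = Tab.act T D rw42 i := rfl
noncomputable def actR43 (i : Nat) : Nat := col1 (col1 (col3 (col3 (col1 (col1 (col2 (col2 (col1 (col1 (col2 (col2 (i))))))))))))
theorem actR43_eq (i : Nat) : actR43 i = Tab.act T D rw43 i := rfl

end Cfsg.Agent.Lib.Helper4.TCD.SC2J2p2A
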