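import Cfsg.Agent.Lib.Helper4.TC7
import Cfsg.Agent.Lib.Helper4.TCP_SC2M12p2
import Cfsg.Agent.Lib.Helper4.TCD_SC2M12p2A_D0

namespace Cfsg.Agent.Lib.Helper4.TCD.SC2M12p2A

open Cfsg.Agent.Lib.Helper4.TC

set_option maxRecDepth 100000

noncomputable def Atab (i : Nat) : Nat := rdw 23 8388607 Atab_0 i
noncomputable def Btab (i : Nat) : Nat := rdw 32 4294967295 Btab_0 i
noncomputable def Ptab (i : Nat) : Nat := rdw 12 4095 Ptab_0 i
noncomputable def RRtab (i : Nat) : Nat := rdw 5 31 RRtab_0 i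
noncomputable def rBtab (i : Nat) : Nat := rdw 11 2047 rBtab_0 i
noncomputable def rLtab (i : Nat) : Nat := rdw 5 31 rLtab_0 i
noncomputable def nameTab (i : Nat) : Nat := rdw 9 511 nameTab_0 i
noncomputable def col0 (i : Nat) : Nat := rdw 5 31 col0_0 i
noncomputable def col1 (i : Nat) : Nat := rdw 5 31 col1_0 i
noncomputable def col2 (i : Nat) : Nat := rdw 5 31 col2_0 i
noncomputable def col3 (i : Nat) : Nat := rdw 5 31 col3_0 i
noncomputable def col4 (i : Nat) : Nat := rdw 5 31 col4_0 i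
noncomputable def col5 (i : Nat) : Nat := rdw 5 31 col5_0 i
noncomputable def col6 (i : Nat) : Nat := rdw 5 31 col6_0 i
noncomputable def col7 (i : Nat) : Nat := rdw 5 31 col7_0 i
noncomputable def col8 (i : Nat) : Nat := rdw 5 31 col8_0 i
noncomputable def col9 (i : Nat) : Nat := rdw 5 31 col9_0 i
noncomputable def col10 (i : Nat) : Nat := rdw 5 31 col10_0 i
noncomputable def col11 (i : Nat) : Nat := rdw 5 31 col11_0 i
noncomputable def col12 (i : Nat) : Nat := rdw 5 31 col12_0 i
noncomputable def col13 (i : Nat) : Nat := rdw 5 31 col13_0 i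
noncomputable def col14 (i : Nat) : Nat := rdw 5 31 col14_0 i
noncomputable def col15 (i : Nat) : Nat := rdw 5 31 col15_0 i
noncomputable def col16 (i : Nat) : Nat := rdw 5 31 col16_0 i
noncomputable def col17 (i : Nat) : Nat := rdw 5 31 col17_0 i
noncomputable def col18 (i : Nat) : Nat := rdw 5 31 col18_0 i
noncomputable def col19 (i : Nat) : Nat := rdw 5 31 col19_0 i
noncomputable def finTab (i : Nat) : Nat := rdw 12 4095 finTab_0 i
noncomputable def clsTab (i : Nat) : Nat := rdw 5 31 clsTab_0 i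
noncomputable def oparTab (i : Nat) : Nat := rdw 5 31 oparTab_0 i
noncomputable def olabTab (i : Nat) : Nat := rdw 2 3 olabTab_0 i
noncomputable def srcF (t : Nat) : Nat := Nat.land (Atab t) 511
noncomputable def tgtF (t : Nat) : Nat := Nat.land (Nat.shiftRight (Atab t) 9) 511
noncomputable def ltF (t : Nat) : Nat := Nat.shiftRight (Atab t) 18
noncomputable def rhoF (t : Nat) : Nat := Nat.land (Btab (Nat.sub t 422)) 255
noncomputable def rotF (t : Nat) : Nat := Nat.land (Nat.shiftRight (Btab (Nat.sub t 422)) 8) 31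
noncomputable def lenF (t : Nat) : Nat := Nat.land (Nat.shiftRight (Btab (Nat.sub t 422)) 13) 63
noncomputable def offF (t : Nat) : Nat := Nat.shiftRight (Btab (Nat.sub t 422)) 19
noncomputable def pfF (j : Nat) : Nat := Nat.shiftRight (Ptab j) 1
noncomputable def pdF (j : Nat) : Nat := Nat.land (Ptab j) 1
noncomputable def tblF (i x : Nat) : Nat := @Bool.rec (fun _ => Nat) (@Bool.rec (fun _ => Nat) (@Bool.rec (fun _ => Nat) (@Bool.rec (fun _ => Nat) (col0 i) (col1 i) (Nat.ble 1 x)) (@Bool.rec (fun _ => Nat) (col2 i) (@Bool.rec (fun _ => Nat) (col3 i) (col4 i) (Nat.ble 4 x)) (Nat.ble 3 x)) (Nat.ble 2 x)) (@Bool.rec (fun _ => Nat) (@Bool.rec (fun _ => Nat) (col5 i) (col6 i) (Nat.ble 6 x)) (@Bool.rec (fun _ => Nat) (col7 i) (@Bool.rec (fun _ => Nat) (col8 i) (col9 i) (Nat.ble 9 x)) (Nat.ble 8 x)) (Nat.ble 7 x)) (Nat.ble 5 x)) (@Bool.rec (fun _ => Nat) (@Bool.rec (fun _ => Nat) (@Bool.rec (fun _ => Nat) (col10 i) (col11 i) (Nat.ble 11 x)) (@Bool.rec (fun _ => Nat) (col12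 i) (@Bool.rec (fun _ => Nat) (col13 i) (col14 i) (Nat.ble 14 x)) (Nat.ble 13 x)) (Nat.ble 12 x)) (@Bool.rec (fun _ => Nat) (@Bool.rec (fun _ => Nat) (col15 i) (col16 i) (Nat.ble 16 x)) (@Bool.rec (fun _ => Nat) (col17 i) (@Bool.rec (fun _ => Nat) (col18 i) (col19 i) (Nat.ble 19 x)) (Nat.ble 18 x)) (Nat.ble 17 x)) (Nat.ble 15 x)) (Nat.ble 10 x)
noncomputable def finE (i x : Nat) : Nat := finTab (Nat.add (Nat.mul i 20) x)
noncomputable def finFF (i x : Nat) : Nat := Nat.shiftRight (finE i x) 1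
noncomputable def finDF (i x : Nat) : Nat := Nat.land (finE i x) 1

noncomputable def D : Log :=
  { k := 20, inv := invE 20 PSC2M12p2.invR, nR := 134, rBase := rBtab, rLen := rLtab, RR := RRtab,
    M := 418, nB := 4, F := 1984, src := srcF, lt := ltF, tgt := tgtF, rho := rhoF, rot := rotF,
    off := offF, len := lenF, pf := pfF, pd := pdF }

noncomputable def T : Tab :=
  { N := 24, nameOf := nameTab, tbl := tblF, finF := finFF, finD := finDF, cls := clsTab }

def subs : List (List Nat) := [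
  [0],
  [2] ]

def rw0 : List Nat := [0, 0]
def rw1 : List Nat := [2, 2, 2, 2]
def rw2 : List Nat := [4, 4, 4, 4, 4, 4, 4, 4, 4, 4, 4]
def rw3 : List Nat := [7, 0, 2, 0, 2, 0, 2, 2, 0, 2, 2, 5, 2, 0, 2, 5]
def rw4 : List Nat := [9, 3, 3, 0, 3, 0, 2, 0, 4, 0, 3, 0, 2, 0, 2, 2, 5, 5, 5, 5, 5]
def rw5 : List Nat := [11, 0, 2, 0, 2, 2, 0, 2, 0, 2, 2, 0, 2, 5, 0, 4, 0, 2, 2]
def rw6 : List Nat := [13, 6, 6]
def rw7 : List Nat := [15, 6, 0, 7, 1]
def rw8 : List Nat := [17, 6, 2, 7, 3]
def rw9 : List Nat := [19, 6, 4, 7, 5]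
def rw10 : List Nat := [8, 8]
def rw11 : List Nat := [10, 10]
def rw12 : List Nat := [12, 12]
def rw13 : List Nat := [14, 14]
def rw14 : List Nat := [16, 16]
def rw15 : List Nat := [18, 18]
def rw16 : List Nat := [8, 0, 9, 1]
def rw17 : List Nat := [8, 2, 9, 3]
def rw18 : List Nat := [8, 4, 9, 5]
def rw19 : List Nat := [8, 6, 9, 7]
def rw20 : List Nat := [10, 0, 11, 1]
def rw21 : List Nat := [10, 2, 11, 3]
def rw22 : List Nat := [10, 4, 11, 5]
def rw23 : List Nat := [10, 6, 11, 7]
def rw24 : List Nat := [12, 0, 13, 1]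
def rw25 : List Nat := [12, 2, 13, 3]
def rw26 : List Nat := [12, 4, 13, 5]
def rw27 : List Nat := [12, 6, 13, 7]
def rw28 : List Nat := [14, 0, 15, 1]
def rw29 : List Nat := [14, 2, 15, 3]
def rw30 : List Nat := [14, 4, 15, 5]
def rw31 : List Nat := [14, 6, 15, 7]
def rw32 : List Nat := [16, 0, 17, 1]
def rw33 : List Nat := [16, 2, 17, 3]
def rw34 : List Nat := [16, 4, 17, 5]
def rw35 : List Nat := [16, 6, 17, 7]
def rw36 : List Nat := [18, 0, 19, 1]
def rw37 : List Nat := [18, 2, 19, 3]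
def rw38 : List Nat := [18, 4, 19, 5]
def rw39 : List Nat := [18, 6, 19, 7]
def rw40 : List Nat := [0, 0]
def rw41 : List Nat := [2, 2, 2, 2]
def rw42 : List Nat := [0, 2, 0, 2, 0, 2, 0, 2, 0, 2, 0, 2, 0, 2, 0, 2, 0, 2, 0, 2, 0, 2]
def rw43 : List Nat := [0, 2, 2, 0, 2, 2, 0, 2, 2, 0, 2, 2, 0, 2, 2, 0, 2, 2]
def rw44 : List Nat := [0, 2, 0, 2, 0, 3, 0, 2, 0, 2, 2, 0, 3, 0, 2, 0, 3, 0, 3]
def realLit : List (List Nat) := [rw0, rw1, rw2, rw3, rw4, rw5, rw6, rw7, rw8, rw9, rw10, rw11, rw12, rw13, rw14, rw15, rw16, rw17, rw18, rw19, rw20, rw21, rw22, rw23, rw24, rw25, rw26, rw27, rw28, rw29, rw30, rw31, rw32, rw33, rw34, rw35, rw36, rw37, rw38, rw39, rw40, rw41, rw42, rw43, rw44]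
noncomputable def actR0 (i : Nat) : Nat := col1 (col1 (i))
theorem actR0_eq (i : Nat) : actR0 i = Tab.act T D rw0 i := rfl
noncomputable def actR1 (i : Nat) : Nat := col3 (col3 (col3 (col3 (i))))
theorem actR1_eq (i : Nat) : actR1 i = Tab.act T D rw1 i := rfl
noncomputable def actR2 (i : Nat) : Nat := col5 (col5 (col5 (col5 (col5 (col5 (col5 (col5 (col5 (col5 (col5 (i)))))))))))
theorem actR2_eq (i : Nat) : actR2 i = Tab.act T D rw2 i := rfl
noncomputable def actR3 (i : Nat) : Nat := col6 (col1 (col3 (col1 (col3 (col1 (col3 (col3 (col1 (col3 (col3 (col4 (col3 (col1 (col3 (col4 (i))))))))))))))))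
theorem actR3_eq (i : Nat) : actR3 i = Tab.act T D rw3 i := rfl
noncomputable def actR4 (i : Nat) : Nat := col8 (col2 (col2 (col1 (col2 (col1 (col3 (col1 (col5 (col1 (col2 (col1 (col3 (col1 (col3 (col3 (col4 (col4 (col4 (col4 (col4 (i)))))))))))))))))))))
theorem actR4_eq (i : Nat) : actR4 i = Tab.act T D rw4 i := rfl
noncomputable def actR5 (i : Nat) : Nat := col10 (col1 (col3 (col1 (col3 (col3 (col1 (col3 (col1 (col3 (col3 (col1 (col3 (col4 (col1 (col5 (col1 (col3 (col3 (i)))))))))))))))))))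
theorem actR5_eq (i : Nat) : actR5 i = Tab.act T D rw5 i := rfl
noncomputable def actR6 (i : Nat) : Nat := col12 (col7 (col7 (i)))
theorem actR6_eq (i : Nat) : actR6 i = Tab.act T D rw6 i := rfl
noncomputable def actR7 (i : Nat) : Nat := col14 (col7 (col1 (col6 (col0 (i)))))
theorem actR7_eq (i : Nat) : actR7 i = Tab.act T D rw7 i := rfl
noncomputable def actR8 (i : Nat) : Nat := col16 (col7 (col3 (col6 (col2 (i)))))
theorem actR8_eq (i : Nat) : actR8 i = Tab.act T D rw8 i := rfl
noncomputable def actR9 (i : Nat) : Nat := col18 (col7 (col5 (col6 (col4 (i)))))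
theorem actR9_eq (i : Nat) : actR9 i = Tab.act T D rw9 i := rfl
noncomputable def actR10 (i : Nat) : Nat := col9 (col9 (i))
theorem actR10_eq (i : Nat) : actR10 i = Tab.act T D rw10 i := rfl
noncomputable def actR11 (i : Nat) : Nat := col11 (col11 (i))
theorem actR11_eq (i : Nat) : actR11 i = Tab.act T D rw11 i := rfl
noncomputable def actR12 (i : Nat) : Nat := col13 (col13 (i))
theorem actR12_eq (i : Nat) : actR12 i = Tab.act T D rw12 i := rfl
noncomputable def actR13 (i : Nat) : Nat := col15 (col15 (i))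
theorem actR13_eq (i : Nat) : actR13 i = Tab.act T D rw13 i := rfl
noncomputable def actR14 (i : Nat) : Nat := col17 (col17 (i))
theorem actR14_eq (i : Nat) : actR14 i = Tab.act T D rw14 i := rfl
noncomputable def actR15 (i : Nat) : Nat := col19 (col19 (i))
theorem actR15_eq (i : Nat) : actR15 i = Tab.act T D rw15 i := rfl
noncomputable def actR16 (i : Nat) : Nat := col9 (col1 (col8 (col0 (i))))
theorem actR16_eq (i : Nat) : actR16 i = Tab.act T D rw16 i := rfl
noncomputable def actR17 (i : Nat) : Nat := col9 (col3 (col8 (col2 (i))))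
theorem actR17_eq (i : Nat) : actR17 i = Tab.act T D rw17 i := rfl
noncomputable def actR18 (i : Nat) : Nat := col9 (col5 (col8 (col4 (i))))
theorem actR18_eq (i : Nat) : actR18 i = Tab.act T D rw18 i := rfl
noncomputable def actR19 (i : Nat) : Nat := col9 (col7 (col8 (col6 (i))))
theorem actR19_eq (i : Nat) : actR19 i = Tab.act T D rw19 i := rfl
noncomputable def actR20 (i : Nat) : Nat := col11 (col1 (col10 (col0 (i))))
theorem actR20_eq (i : Nat) : actR20 i = Tab.act T D rw20 i := rfl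
noncomputable def actR21 (i : Nat) : Nat := col11 (col3 (col10 (col2 (i))))
theorem actR21_eq (i : Nat) : actR21 i = Tab.act T D rw21 i := rfl
noncomputable def actR22 (i : Nat) : Nat := col11 (col5 (col10 (col4 (i))))
theorem actR22_eq (i : Nat) : actR22 i = Tab.act T D rw22 i := rfl
noncomputable def actR23 (i : Nat) : Nat := col11 (col7 (col10 (col6 (i))))
theorem actR23_eq (i : Nat) : actR23 i = Tab.act T D rw23 i := rfl
noncomputable def actR24 (i : Nat) : Nat := col13 (col1 (col12 (col0 (i))))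
theorem actR24_eq (i : Nat) : actR24 i = Tab.act T D rw24 i := rfl
noncomputable def actR25 (i : Nat) : Nat := col13 (col3 (col12 (col2 (i))))
theorem actR25_eq (i : Nat) : actR25 i = Tab.act T D rw25 i := rfl
noncomputable def actR26 (i : Nat) : Nat := col13 (col5 (col12 (col4 (i))))
theorem actR26_eq (i : Nat) : actR26 i = Tab.act T D rw26 i := rfl
noncomputable def actR27 (i : Nat) : Nat := col13 (col7 (col12 (col6 (i))))
theorem actR27_eq (i : Nat) : actR27 i = Tab.act T D rw27 i := rfl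
noncomputable def actR28 (i : Nat) : Nat := col15 (col1 (col14 (col0 (i))))
theorem actR28_eq (i : Nat) : actR28 i = Tab.act T D rw28 i := rfl
noncomputable def actR29 (i : Nat) : Nat := col15 (col3 (col14 (col2 (i))))
theorem actR29_eq (i : Nat) : actR29 i = Tab.act T D rw29 i := rfl
noncomputable def actR30 (i : Nat) : Nat := col15 (col5 (col14 (col4 (i))))
theorem actR30_eq (i : Nat) : actR30 i = Tab.act T D rw30 i := rfl
noncomputable def actR31 (i : Nat) : Nat := col15 (col7 (col14 (col6 (i))))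
theorem actR31_eq (i : Nat) : actR31 i = Tab.act T D rw31 i := rfl
noncomputable def actR32 (i : Nat) : Nat := col17 (col1 (col16 (col0 (i))))
theorem actR32_eq (i : Nat) : actR32 i = Tab.act T D rw32 i := rfl
noncomputable def actR33 (i : Nat) : Nat := col17 (col3 (col16 (col2 (i))))
theorem actR33_eq (i : Nat) : actR33 i = Tab.act T D rw33 i := rfl
noncomputable def actR34 (i : Nat) : Nat := col17 (col5 (col16 (col4 (i))))
theorem actR34_eq (i : Nat) : actR34 i = Tab.act T D rw34 i := rfl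
noncomputable def actR35 (i : Nat) : Nat := col17 (col7 (col16 (col6 (i))))
theorem actR35_eq (i : Nat) : actR35 i = Tab.act T D rw35 i := rfl
noncomputable def actR36 (i : Nat) : Nat := col19 (col1 (col18 (col0 (i))))
theorem actR36_eq (i : Nat) : actR36 i = Tab.act T D rw36 i := rfl
noncomputable def actR37 (i : Nat) : Nat := col19 (col3 (col18 (col2 (i))))
theorem actR37_eq (i : Nat) : actR37 i = Tab.act T D rw37 i := rfl
noncomputable def actR38 (i : Nat) : Nat := col19 (col5 (col18 (col4 (i))))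
theorem actR38_eq (i : Nat) : actR38 i = Tab.act T D rw38 i := rfl
noncomputable def actR39 (i : Nat) : Nat := col19 (col7 (col18 (col6 (i))))
theorem actR39_eq (i : Nat) : actR39 i = Tab.act T D rw39 i := rfl
noncomputable def actR40 (i : Nat) : Nat := col1 (col1 (i))
theorem actR40_eq (i : Nat) : actR40 i = Tab.act T D rw40 i := rfl
noncomputable def actR41 (i : Nat) : Nat := col3 (col3 (col3 (col3 (i))))
theorem actR41_eq (i : Nat) : actR41 i = Tab.act T D rw41 i := rfl
noncomputable def actR42 (i : Nat) : Nat := col1 (col3 (col1 (col3 (col1 (col3 (col1 (col3 (col1 (col3 (col1 (col3 (col1 (col3 (col1 (col3 (col1 (col3 (col1 (col3 (col1 (col3 (i))))))))))))))))))))))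
theorem actR42_eq (i : Nat) : actR42 i = Tab.act T D rw42 i := rfl
noncomputable def actR43 (i : Nat) : Nat := col1 (col3 (col3 (col1 (col3 (col3 (col1 (col3 (col3 (col1 (col3 (col3 (col1 (col3 (col3 (col1 (col3 (col3 (i))))))))))))))))))
theorem actR43_eq (i : Nat) : actR43 i = Tab.act T D rw43 i := rfl
noncomputable def actR44 (i : Nat) : Nat := col1 (col3 (col1 (col3 (col1 (col2 (col1 (col3 (col1 (col3 (col3 (col1 (col2 (col1 (col3 (col1 (col2 (col1 (col2 (i)))))))))))))))))))
theorem actR44_eq (i : Nat) : actR44 i = Tab.act T D rw44 i := rfl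

end Cfsg.Agent.Lib.Helper4.TCD.SC2M12p2A
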