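import Cfsg.Agent.Lib.Helper4.TC7
import Cfsg.Agent.Lib.Helper4.TCP_SC2O73p2
import Cfsg.Agent.Lib.Helper4.TCD_SC2O73p2A_D0
import Cfsg.Agent.Lib.Helper4.TCD_SC2O73p2A_D1
import Cfsg.Agent.Lib.Helper4.TCD_SC2O73p2A_D2
import Cfsg.Agent.Lib.Helper4.TCD_SC2O73p2A_D3
import Cfsg.Agent.Lib.Helper4.TCD_SC2O73p2A_D4

namespace Cfsg.Agent.Lib.Helper4.TCD.SC2O73p2A

open Cfsg.Agent.Lib.Helper4.TC

set_option maxRecDepth 100000

noncomputable def Atab_s_0_2 (c : Nat) : Nat := @Bool.rec (fun _ => Nat) (Atab_0) (Atab_1) (Nat.ble 1 c)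
noncomputable def Atab_s_3_5 (c : Nat) : Nat := @Bool.rec (fun _ => Nat) (Atab_3) (Atab_4) (Nat.ble 4 c)
noncomputable def Atab_s_2_5 (c : Nat) : Nat := @Bool.rec (fun _ => Nat) (Atab_2) (Atab_s_3_5 c) (Nat.ble 3 c)
noncomputable def Atab_s_0_5 (c : Nat) : Nat := @Bool.rec (fun _ => Nat) (Atab_s_0_2 c) (Atab_s_2_5 c) (Nat.ble 2 c)
noncomputable def Atab_s_5_7 (c : Nat) : Nat := @Bool.rec (fun _ => Nat) (Atab_5) (Atab_6) (Nat.ble 6 c)
noncomputable def Atab_s_8_10 (c : Nat) : Nat := @Bool.rec (fun _ => Nat) (Atab_8) (Atab_9) (Nat.ble 9 c)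
noncomputable def Atab_s_7_10 (c : Nat) : Nat := @Bool.rec (fun _ => Nat) (Atab_7) (Atab_s_8_10 c) (Nat.ble 8 c)
noncomputable def Atab_s_5_10 (c : Nat) : Nat := @Bool.rec (fun _ => Nat) (Atab_s_5_7 c) (Atab_s_7_10 c) (Nat.ble 7 c)
noncomputable def Atab_s_0_10 (c : Nat) : Nat := @Bool.rec (fun _ => Nat) (Atab_s_0_5 c) (Atab_s_5_10 c) (Nat.ble 5 c)
noncomputable def Atab_s_10_12 (c : Nat) : Nat := @Bool.rec (fun _ => Nat) (Atab_10) (Atab_11) (Nat.ble 11 c)
noncomputable def Atab_s_13_15 (c : Nat) : Nat := @Bool.rec (fun _ => Nat) (Atab_13) (Atab_14) (Nat.ble 14 c)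
noncomputable def Atab_s_12_15 (c : Nat) : Nat := @Bool.rec (fun _ => Nat) (Atab_12) (Atab_s_13_15 c) (Nat.ble 13 c)
noncomputable def Atab_s_10_15 (c : Nat) : Nat := @Bool.rec (fun _ => Nat) (Atab_s_10_12 c) (Atab_s_12_15 c) (Nat.ble 12 c)
noncomputable def Atab_s_15_17 (c : Nat) : Nat := @Bool.rec (fun _ => Nat) (Atab_15) (Atab_16) (Nat.ble 16 c)
noncomputable def Atab_s_18_20 (c : Nat) : Nat := @Bool.rec (fun _ => Nat) (Atab_18) (Atab_19) (Nat.ble 19 c)
noncomputable def Atab_s_17_20 (c : Nat) : Nat := @Bool.rec (fun _ => Nat) (Atab_17) (Atab_s_18_20 c) (Nat.ble 18 c)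
noncomputable def Atab_s_15_20 (c : Nat) : Nat := @Bool.rec (fun _ => Nat) (Atab_s_15_17 c) (Atab_s_17_20 c) (Nat.ble 17 c)
noncomputable def Atab_s_10_20 (c : Nat) : Nat := @Bool.rec (fun _ => Nat) (Atab_s_10_15 c) (Atab_s_15_20 c) (Nat.ble 15 c)
noncomputable def Atab_s_0_20 (c : Nat) : Nat := @Bool.rec (fun _ => Nat) (Atab_s_0_10 c) (Atab_s_10_20 c) (Nat.ble 10 c)
noncomputable def Atab_s_20_22 (c : Nat) : Nat := @Bool.rec (fun _ => Nat) (Atab_20) (Atab_21) (Nat.ble 21 c)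
noncomputable def Atab_s_23_25 (c : Nat) : Nat := @Bool.rec (fun _ => Nat) (Atab_23) (Atab_24) (Nat.ble 24 c)
noncomputable def Atab_s_22_25 (c : Nat) : Nat := @Bool.rec (fun _ => Nat) (Atab_22) (Atab_s_23_25 c) (Nat.ble 23 c)
noncomputable def Atab_s_20_25 (c : Nat) : Nat := @Bool.rec (fun _ => Nat) (Atab_s_20_22 c) (Atab_s_22_25 c) (Nat.ble 22 c)
noncomputable def Atab_s_25_27 (c : Nat) : Nat := @Bool.rec (fun _ => Nat) (Atab_25) (Atab_26) (Nat.ble 26 c)
noncomputable def Atab_s_28_30 (c : Nat) : Nat := @Bool.rec (fun _ => Nat) (Atab_28) (Atab_29) (Nat.ble 29 c)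
noncomputable def Atab_s_27_30 (c : Nat) : Nat := @Bool.rec (fun _ => Nat) (Atab_27) (Atab_s_28_30 c) (Nat.ble 28 c)
noncomputable def Atab_s_25_30 (c : Nat) : Nat := @Bool.rec (fun _ => Nat) (Atab_s_25_27 c) (Atab_s_27_30 c) (Nat.ble 27 c)
noncomputable def Atab_s_20_30 (c : Nat) : Nat := @Bool.rec (fun _ => Nat) (Atab_s_20_25 c) (Atab_s_25_30 c) (Nat.ble 25 c)
noncomputable def Atab_s_30_32 (c : Nat) : Nat := @Bool.rec (fun _ => Nat) (Atab_30) (Atab_31) (Nat.ble 31 c)
noncomputable def Atab_s_33_35 (c : Nat) : Nat := @Bool.rec (fun _ => Nat) (Atab_33) (Atab_34) (Nat.ble 34 c)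
noncomputable def Atab_s_32_35 (c : Nat) : Nat := @Bool.rec (fun _ => Nat) (Atab_32) (Atab_s_33_35 c) (Nat.ble 33 c)
noncomputable def Atab_s_30_35 (c : Nat) : Nat := @Bool.rec (fun _ => Nat) (Atab_s_30_32 c) (Atab_s_32_35 c) (Nat.ble 32 c)
noncomputable def Atab_s_35_37 (c : Nat) : Nat := @Bool.rec (fun _ => Nat) (Atab_35) (Atab_36) (Nat.ble 36 c)
noncomputable def Atab_s_38_40 (c : Nat) : Nat := @Bool.rec (fun _ => Nat) (Atab_38) (Atab_39) (Nat.ble 39 c)
noncomputable def Atab_s_37_40 (c : Nat) : Nat := @Bool.rec (fun _ => Nat) (Atab_37) (Atab_s_38_40 c) (Nat.ble 38 c)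
noncomputable def Atab_s_35_40 (c : Nat) : Nat := @Bool.rec (fun _ => Nat) (Atab_s_35_37 c) (Atab_s_37_40 c) (Nat.ble 37 c)
noncomputable def Atab_s_30_40 (c : Nat) : Nat := @Bool.rec (fun _ => Nat) (Atab_s_30_35 c) (Atab_s_35_40 c) (Nat.ble 35 c)
noncomputable def Atab_s_20_40 (c : Nat) : Nat := @Bool.rec (fun _ => Nat) (Atab_s_20_30 c) (Atab_s_30_40 c) (Nat.ble 30 c)
noncomputable def Atab_s_0_40 (c : Nat) : Nat := @Bool.rec (fun _ => Nat) (Atab_s_0_20 c) (Atab_s_20_40 c) (Nat.ble 20 c)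
noncomputable def Atab_s_40_42 (c : Nat) : Nat := @Bool.rec (fun _ => Nat) (Atab_40) (Atab_41) (Nat.ble 41 c)
noncomputable def Atab_s_43_45 (c : Nat) : Nat := @Bool.rec (fun _ => Nat) (Atab_43) (Atab_44) (Nat.ble 44 c)
noncomputable def Atab_s_42_45 (c : Nat) : Nat := @Bool.rec (fun _ => Nat) (Atab_42) (Atab_s_43_45 c) (Nat.ble 43 c)
noncomputable def Atab_s_40_45 (c : Nat) : Nat := @Bool.rec (fun _ => Nat) (Atab_s_40_42 c) (Atab_s_42_45 c) (Nat.ble 42 c)
noncomputable def Atab_s_45_47 (c : Nat) : Nat := @Bool.rec (fun _ => Nat) (Atab_45) (Atab_46) (Nat.ble 46 c)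
noncomputable def Atab_s_48_50 (c : Nat) : Nat := @Bool.rec (fun _ => Nat) (Atab_48) (Atab_49) (Nat.ble 49 c)
noncomputable def Atab_s_47_50 (c : Nat) : Nat := @Bool.rec (fun _ => Nat) (Atab_47) (Atab_s_48_50 c) (Nat.ble 48 c)
noncomputable def Atab_s_45_50 (c : Nat) : Nat := @Bool.rec (fun _ => Nat) (Atab_s_45_47 c) (Atab_s_47_50 c) (Nat.ble 47 c)
noncomputable def Atab_s_40_50 (c : Nat) : Nat := @Bool.rec (fun _ => Nat) (Atab_s_40_45 c) (Atab_s_45_50 c) (Nat.ble 45 c)
noncomputable def Atab_s_50_52 (c : Nat) : Nat := @Bool.rec (fun _ => Nat) (Atab_50) (Atab_51) (Nat.ble 51 c)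
noncomputable def Atab_s_53_55 (c : Nat) : Nat := @Bool.rec (fun _ => Nat) (Atab_53) (Atab_54) (Nat.ble 54 c)
noncomputable def Atab_s_52_55 (c : Nat) : Nat := @Bool.rec (fun _ => Nat) (Atab_52) (Atab_s_53_55 c) (Nat.ble 53 c)
noncomputable def Atab_s_50_55 (c : Nat) : Nat := @Bool.rec (fun _ => Nat) (Atab_s_50_52 c) (Atab_s_52_55 c) (Nat.ble 52 c)
noncomputable def Atab_s_55_57 (c : Nat) : Nat := @Bool.rec (fun _ => Nat) (Atab_55) (Atab_56) (Nat.ble 56 c)
noncomputable def Atab_s_58_60 (c : Nat) : Nat := @Bool.rec (fun _ => Nat) (Atab_58) (Atab_59) (Nat.ble 59 c)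
noncomputable def Atab_s_57_60 (c : Nat) : Nat := @Bool.rec (fun _ => Nat) (Atab_57) (Atab_s_58_60 c) (Nat.ble 58 c)
noncomputable def Atab_s_55_60 (c : Nat) : Nat := @Bool.rec (fun _ => Nat) (Atab_s_55_57 c) (Atab_s_57_60 c) (Nat.ble 57 c)
noncomputable def Atab_s_50_60 (c : Nat) : Nat := @Bool.rec (fun _ => Nat) (Atab_s_50_55 c) (Atab_s_55_60 c) (Nat.ble 55 c)
noncomputable def Atab_s_40_60 (c : Nat) : Nat := @Bool.rec (fun _ => Nat) (Atab_s_40_50 c) (Atab_s_50_60 c) (Nat.ble 50 c)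
noncomputable def Atab_s_60_62 (c : Nat) : Nat := @Bool.rec (fun _ => Nat) (Atab_60) (Atab_61) (Nat.ble 61 c)
noncomputable def Atab_s_63_65 (c : Nat) : Nat := @Bool.rec (fun _ => Nat) (Atab_63) (Atab_64) (Nat.ble 64 c)
noncomputable def Atab_s_62_65 (c : Nat) : Nat := @Bool.rec (fun _ => Nat) (Atab_62) (Atab_s_63_65 c) (Nat.ble 63 c)
noncomputable def Atab_s_60_65 (c : Nat) : Nat := @Bool.rec (fun _ => Nat) (Atab_s_60_62 c) (Atab_s_62_65 c) (Nat.ble 62 c)
noncomputable def Atab_s_65_67 (c : Nat) : Nat := @Bool.rec (fun _ => Nat) (Atab_65) (Atab_66) (Nat.ble 66 c)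
noncomputable def Atab_s_68_70 (c : Nat) : Nat := @Bool.rec (fun _ => Nat) (Atab_68) (Atab_69) (Nat.ble 69 c)
noncomputable def Atab_s_67_70 (c : Nat) : Nat := @Bool.rec (fun _ => Nat) (Atab_67) (Atab_s_68_70 c) (Nat.ble 68 c)
noncomputable def Atab_s_65_70 (c : Nat) : Nat := @Bool.rec (fun _ => Nat) (Atab_s_65_67 c) (Atab_s_67_70 c) (Nat.ble 67 c)
noncomputable def Atab_s_60_70 (c : Nat) : Nat := @Bool.rec (fun _ => Nat) (Atab_s_60_65 c) (Atab_s_65_70 c) (Nat.ble 65 c)
noncomputable def Atab_s_70_72 (c : Nat) : Nat := @Bool.rec (fun _ => Nat) (Atab_70) (Atab_71) (Nat.ble 71 c)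
noncomputable def Atab_s_73_75 (c : Nat) : Nat := @Bool.rec (fun _ => Nat) (Atab_73) (Atab_74) (Nat.ble 74 c)
noncomputable def Atab_s_72_75 (c : Nat) : Nat := @Bool.rec (fun _ => Nat) (Atab_72) (Atab_s_73_75 c) (Nat.ble 73 c)
noncomputable def Atab_s_70_75 (c : Nat) : Nat := @Bool.rec (fun _ => Nat) (Atab_s_70_72 c) (Atab_s_72_75 c) (Nat.ble 72 c)
noncomputable def Atab_s_75_77 (c : Nat) : Nat := @Bool.rec (fun _ => Nat) (Atab_75) (Atab_76) (Nat.ble 76 c)
noncomputable def Atab_s_78_80 (c : Nat) : Nat := @Bool.rec (fun _ => Nat) (Atab_78) (Atab_79) (Nat.ble 79 c)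
noncomputable def Atab_s_77_80 (c : Nat) : Nat := @Bool.rec (fun _ => Nat) (Atab_77) (Atab_s_78_80 c) (Nat.ble 78 c)
noncomputable def Atab_s_75_80 (c : Nat) : Nat := @Bool.rec (fun _ => Nat) (Atab_s_75_77 c) (Atab_s_77_80 c) (Nat.ble 77 c)
noncomputable def Atab_s_70_80 (c : Nat) : Nat := @Bool.rec (fun _ => Nat) (Atab_s_70_75 c) (Atab_s_75_80 c) (Nat.ble 75 c)
noncomputable def Atab_s_60_80 (c : Nat) : Nat := @Bool.rec (fun _ => Nat) (Atab_s_60_70 c) (Atab_s_70_80 c) (Nat.ble 70 c)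
noncomputable def Atab_s_40_80 (c : Nat) : Nat := @Bool.rec (fun _ => Nat) (Atab_s_40_60 c) (Atab_s_60_80 c) (Nat.ble 60 c)
noncomputable def Atab_s_0_80 (c : Nat) : Nat := @Bool.rec (fun _ => Nat) (Atab_s_0_40 c) (Atab_s_40_80 c) (Nat.ble 40 c)
noncomputable def Atab (i : Nat) : Nat := rdw 37 137438953471 (Atab_s_0_80 (Nat.shiftRight i 11)) (Nat.land i 2047)
noncomputable def Btab_s_0_2 (c : Nat) : Nat := @Bool.rec (fun _ => Nat) (Btab_0) (Btab_1) (Nat.ble 1 c)
noncomputable def Btab_s_2_4 (c : Nat) : Nat := @Bool.rec (fun _ => Nat) (Btab_2) (Btab_3) (Nat.ble 3 c)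
noncomputable def Btab_s_0_4 (c : Nat) : Nat := @Bool.rec (fun _ => Nat) (Btab_s_0_2 c) (Btab_s_2_4 c) (Nat.ble 2 c)
noncomputable def Btab_s_4_6 (c : Nat) : Nat := @Bool.rec (fun _ => Nat) (Btab_4) (Btab_5) (Nat.ble 5 c)
noncomputable def Btab_s_6_8 (c : Nat) : Nat := @Bool.rec (fun _ => Nat) (Btab_6) (Btab_7) (Nat.ble 7 c)
noncomputable def Btab_s_4_8 (c : Nat) : Nat := @Bool.rec (fun _ => Nat) (Btab_s_4_6 c) (Btab_s_6_8 c) (Nat.ble 6 c)
noncomputable def Btab_s_0_8 (c : Nat) : Nat := @Bool.rec (fun _ => Nat) (Btab_s_0_4 c) (Btab_s_4_8 c) (Nat.ble 4 c)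
noncomputable def Btab_s_8_10 (c : Nat) : Nat := @Bool.rec (fun _ => Nat) (Btab_8) (Btab_9) (Nat.ble 9 c)
noncomputable def Btab_s_10_12 (c : Nat) : Nat := @Bool.rec (fun _ => Nat) (Btab_10) (Btab_11) (Nat.ble 11 c)
noncomputable def Btab_s_8_12 (c : Nat) : Nat := @Bool.rec (fun _ => Nat) (Btab_s_8_10 c) (Btab_s_10_12 c) (Nat.ble 10 c)
noncomputable def Btab_s_12_14 (c : Nat) : Nat := @Bool.rec (fun _ => Nat) (Btab_12) (Btab_13) (Nat.ble 13 c)
noncomputable def Btab_s_15_17 (c : Nat) : Nat := @Bool.rec (fun _ => Nat) (Btab_15) (Btab_16) (Nat.ble 16 c)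
noncomputable def Btab_s_14_17 (c : Nat) : Nat := @Bool.rec (fun _ => Nat) (Btab_14) (Btab_s_15_17 c) (Nat.ble 15 c)
noncomputable def Btab_s_12_17 (c : Nat) : Nat := @Bool.rec (fun _ => Nat) (Btab_s_12_14 c) (Btab_s_14_17 c) (Nat.ble 14 c)
noncomputable def Btab_s_8_17 (c : Nat) : Nat := @Bool.rec (fun _ => Nat) (Btab_s_8_12 c) (Btab_s_12_17 c) (Nat.ble 12 c)
noncomputable def Btab_s_0_17 (c : Nat) : Nat := @Bool.rec (fun _ => Nat) (Btab_s_0_8 c) (Btab_s_8_17 c) (Nat.ble 8 c)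
noncomputable def Btab_s_17_19 (c : Nat) : Nat := @Bool.rec (fun _ => Nat) (Btab_17) (Btab_18) (Nat.ble 18 c)
noncomputable def Btab_s_19_21 (c : Nat) : Nat := @Bool.rec (fun _ => Nat) (Btab_19) (Btab_20) (Nat.ble 20 c)
noncomputable def Btab_s_17_21 (c : Nat) : Nat := @Bool.rec (fun _ => Nat) (Btab_s_17_19 c) (Btab_s_19_21 c) (Nat.ble 19 c)
noncomputable def Btab_s_21_23 (c : Nat) : Nat := @Bool.rec (fun _ => Nat) (Btab_21) (Btab_22) (Nat.ble 22 c)
noncomputable def Btab_s_24_26 (c : Nat) : Nat := @Bool.rec (fun _ => Nat) (Btab_24) (Btab_25) (Nat.ble 25 c)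
noncomputable def Btab_s_23_26 (c : Nat) : Nat := @Bool.rec (fun _ => Nat) (Btab_23) (Btab_s_24_26 c) (Nat.ble 24 c)
noncomputable def Btab_s_21_26 (c : Nat) : Nat := @Bool.rec (fun _ => Nat) (Btab_s_21_23 c) (Btab_s_23_26 c) (Nat.ble 23 c)
noncomputable def Btab_s_17_26 (c : Nat) : Nat := @Bool.rec (fun _ => Nat) (Btab_s_17_21 c) (Btab_s_21_26 c) (Nat.ble 21 c)
noncomputable def Btab_s_26_28 (c : Nat) : Nat := @Bool.rec (fun _ => Nat) (Btab_26) (Btab_27) (Nat.ble 27 c)
noncomputable def Btab_s_28_30 (c : Nat) : Nat := @Bool.rec (fun _ => Nat) (Btab_28) (Btab_29) (Nat.ble 29 c)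
noncomputable def Btab_s_26_30 (c : Nat) : Nat := @Bool.rec (fun _ => Nat) (Btab_s_26_28 c) (Btab_s_28_30 c) (Nat.ble 28 c)
noncomputable def Btab_s_30_32 (c : Nat) : Nat := @Bool.rec (fun _ => Nat) (Btab_30) (Btab_31) (Nat.ble 31 c)
noncomputable def Btab_s_33_35 (c : Nat) : Nat := @Bool.rec (fun _ => Nat) (Btab_33) (Btab_34) (Nat.ble 34 c)
noncomputable def Btab_s_32_35 (c : Nat) : Nat := @Bool.rec (fun _ => Nat) (Btab_32) (Btab_s_33_35 c) (Nat.ble 33 c)
noncomputable def Btab_s_30_35 (c : Nat) : Nat := @Bool.rec (fun _ => Nat) (Btab_s_30_32 c) (Btab_s_32_35 c) (Nat.ble 32 c)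
noncomputable def Btab_s_26_35 (c : Nat) : Nat := @Bool.rec (fun _ => Nat) (Btab_s_26_30 c) (Btab_s_30_35 c) (Nat.ble 30 c)
noncomputable def Btab_s_17_35 (c : Nat) : Nat := @Bool.rec (fun _ => Nat) (Btab_s_17_26 c) (Btab_s_26_35 c) (Nat.ble 26 c)
noncomputable def Btab_s_0_35 (c : Nat) : Nat := @Bool.rec (fun _ => Nat) (Btab_s_0_17 c) (Btab_s_17_35 c) (Nat.ble 17 c)
noncomputable def Btab_s_35_37 (c : Nat) : Nat := @Bool.rec (fun _ => Nat) (Btab_35) (Btab_36) (Nat.ble 36 c)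
noncomputable def Btab_s_37_39 (c : Nat) : Nat := @Bool.rec (fun _ => Nat) (Btab_37) (Btab_38) (Nat.ble 38 c)
noncomputable def Btab_s_35_39 (c : Nat) : Nat := @Bool.rec (fun _ => Nat) (Btab_s_35_37 c) (Btab_s_37_39 c) (Nat.ble 37 c)
noncomputable def Btab_s_39_41 (c : Nat) : Nat := @Bool.rec (fun _ => Nat) (Btab_39) (Btab_40) (Nat.ble 40 c)
noncomputable def Btab_s_42_44 (c : Nat) : Nat := @Bool.rec (fun _ => Nat) (Btab_42) (Btab_43) (Nat.ble 43 c)
noncomputable def Btab_s_41_44 (c : Nat) : Nat := @Bool.rec (fun _ => Nat) (Btab_41) (Btab_s_42_44 c) (Nat.ble 42 c)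
noncomputable def Btab_s_39_44 (c : Nat) : Nat := @Bool.rec (fun _ => Nat) (Btab_s_39_41 c) (Btab_s_41_44 c) (Nat.ble 41 c)
noncomputable def Btab_s_35_44 (c : Nat) : Nat := @Bool.rec (fun _ => Nat) (Btab_s_35_39 c) (Btab_s_39_44 c) (Nat.ble 39 c)
noncomputable def Btab_s_44_46 (c : Nat) : Nat := @Bool.rec (fun _ => Nat) (Btab_44) (Btab_45) (Nat.ble 45 c)
noncomputable def Btab_s_46_48 (c : Nat) : Nat := @Bool.rec (fun _ => Nat) (Btab_46) (Btab_47) (Nat.ble 47 c)
noncomputable def Btab_s_44_48 (c : Nat) : Nat := @Bool.rec (fun _ => Nat) (Btab_s_44_46 c) (Btab_s_46_48 c) (Nat.ble 46 c)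
noncomputable def Btab_s_48_50 (c : Nat) : Nat := @Bool.rec (fun _ => Nat) (Btab_48) (Btab_49) (Nat.ble 49 c)
noncomputable def Btab_s_51_53 (c : Nat) : Nat := @Bool.rec (fun _ => Nat) (Btab_51) (Btab_52) (Nat.ble 52 c)
noncomputable def Btab_s_50_53 (c : Nat) : Nat := @Bool.rec (fun _ => Nat) (Btab_50) (Btab_s_51_53 c) (Nat.ble 51 c)
noncomputable def Btab_s_48_53 (c : Nat) : Nat := @Bool.rec (fun _ => Nat) (Btab_s_48_50 c) (Btab_s_50_53 c) (Nat.ble 50 c)
noncomputable def Btab_s_44_53 (c : Nat) : Nat := @Bool.rec (fun _ => Nat) (Btab_s_44_48 c) (Btab_s_48_53 c) (Nat.ble 48 c)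
noncomputable def Btab_s_35_53 (c : Nat) : Nat := @Bool.rec (fun _ => Nat) (Btab_s_35_44 c) (Btab_s_44_53 c) (Nat.ble 44 c)
noncomputable def Btab_s_53_55 (c : Nat) : Nat := @Bool.rec (fun _ => Nat) (Btab_53) (Btab_54) (Nat.ble 54 c)
noncomputable def Btab_s_55_57 (c : Nat) : Nat := @Bool.rec (fun _ => Nat) (Btab_55) (Btab_56) (Nat.ble 56 c)
noncomputable def Btab_s_53_57 (c : Nat) : Nat := @Bool.rec (fun _ => Nat) (Btab_s_53_55 c) (Btab_s_55_57 c) (Nat.ble 55 c)
noncomputable def Btab_s_57_59 (c : Nat) : Nat := @Bool.rec (fun _ => Nat) (Btab_57) (Btab_58) (Nat.ble 58 c)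
noncomputable def Btab_s_60_62 (c : Nat) : Nat := @Bool.rec (fun _ => Nat) (Btab_60) (Btab_61) (Nat.ble 61 c)
noncomputable def Btab_s_59_62 (c : Nat) : Nat := @Bool.rec (fun _ => Nat) (Btab_59) (Btab_s_60_62 c) (Nat.ble 60 c)
noncomputable def Btab_s_57_62 (c : Nat) : Nat := @Bool.rec (fun _ => Nat) (Btab_s_57_59 c) (Btab_s_59_62 c) (Nat.ble 59 c)
noncomputable def Btab_s_53_62 (c : Nat) : Nat := @Bool.rec (fun _ => Nat) (Btab_s_53_57 c) (Btab_s_57_62 c) (Nat.ble 57 c)
noncomputable def Btab_s_62_64 (c : Nat) : Nat := @Bool.rec (fun _ => Nat) (Btab_62) (Btab_63) (Nat.ble 63 c)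
noncomputable def Btab_s_64_66 (c : Nat) : Nat := @Bool.rec (fun _ => Nat) (Btab_64) (Btab_65) (Nat.ble 65 c)
noncomputable def Btab_s_62_66 (c : Nat) : Nat := @Bool.rec (fun _ => Nat) (Btab_s_62_64 c) (Btab_s_64_66 c) (Nat.ble 64 c)
noncomputable def Btab_s_66_68 (c : Nat) : Nat := @Bool.rec (fun _ => Nat) (Btab_66) (Btab_67) (Nat.ble 67 c)
noncomputable def Btab_s_69_71 (c : Nat) : Nat := @Bool.rec (fun _ => Nat) (Btab_69) (Btab_70) (Nat.ble 70 c)
noncomputable def Btab_s_68_71 (c : Nat) : Nat := @Bool.rec (fun _ => Nat) (Btab_68) (Btab_s_69_71 c) (Nat.ble 69 c)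
noncomputable def Btab_s_66_71 (c : Nat) : Nat := @Bool.rec (fun _ => Nat) (Btab_s_66_68 c) (Btab_s_68_71 c) (Nat.ble 68 c)
noncomputable def Btab_s_62_71 (c : Nat) : Nat := @Bool.rec (fun _ => Nat) (Btab_s_62_66 c) (Btab_s_66_71 c) (Nat.ble 66 c)
noncomputable def Btab_s_53_71 (c : Nat) : Nat := @Bool.rec (fun _ => Nat) (Btab_s_53_62 c) (Btab_s_62_71 c) (Nat.ble 62 c)
noncomputable def Btab_s_35_71 (c : Nat) : Nat := @Bool.rec (fun _ => Nat) (Btab_s_35_53 c) (Btab_s_53_71 c) (Nat.ble 53 c)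
noncomputable def Btab_s_0_71 (c : Nat) : Nat := @Bool.rec (fun _ => Nat) (Btab_s_0_35 c) (Btab_s_35_71 c) (Nat.ble 35 c)
noncomputable def Btab (i : Nat) : Nat := rdw 40 1099511627775 (Btab_s_0_71 (Nat.shiftRight i 11)) (Nat.land i 2047)
noncomputable def Ptab_s_1_3 (c : Nat) : Nat := @Bool.rec (fun _ => Nat) (Ptab_1) (Ptab_2) (Nat.ble 2 c)
noncomputable def Ptab_s_0_3 (c : Nat) : Nat := @Bool.rec (fun _ => Nat) (Ptab_0) (Ptab_s_1_3 c) (Nat.ble 1 c)
noncomputable def Ptab_s_3_5 (c : Nat) : Nat := @Bool.rec (fun _ => Nat) (Ptab_3) (Ptab_4) (Nat.ble 4 c)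
noncomputable def Ptab_s_5_7 (c : Nat) : Nat := @Bool.rec (fun _ => Nat) (Ptab_5) (Ptab_6) (Nat.ble 6 c)
noncomputable def Ptab_s_3_7 (c : Nat) : Nat := @Bool.rec (fun _ => Nat) (Ptab_s_3_5 c) (Ptab_s_5_7 c) (Nat.ble 5 c)
noncomputable def Ptab_s_0_7 (c : Nat) : Nat := @Bool.rec (fun _ => Nat) (Ptab_s_0_3 c) (Ptab_s_3_7 c) (Nat.ble 3 c)
noncomputable def Ptab_s_7_9 (c : Nat) : Nat := @Bool.rec (fun _ => Nat) (Ptab_7) (Ptab_8) (Nat.ble 8 c)
noncomputable def Ptab_s_9_11 (c : Nat) : Nat := @Bool.rec (fun _ => Nat) (Ptab_9) (Ptab_10) (Nat.ble 10 c)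
noncomputable def Ptab_s_7_11 (c : Nat) : Nat := @Bool.rec (fun _ => Nat) (Ptab_s_7_9 c) (Ptab_s_9_11 c) (Nat.ble 9 c)
noncomputable def Ptab_s_11_13 (c : Nat) : Nat := @Bool.rec (fun _ => Nat) (Ptab_11) (Ptab_12) (Nat.ble 12 c)
noncomputable def Ptab_s_13_15 (c : Nat) : Nat := @Bool.rec (fun _ => Nat) (Ptab_13) (Ptab_14) (Nat.ble 14 c)
noncomputable def Ptab_s_11_15 (c : Nat) : Nat := @Bool.rec (fun _ => Nat) (Ptab_s_11_13 c) (Ptab_s_13_15 c) (Nat.ble 13 c)
noncomputable def Ptab_s_7_15 (c : Nat) : Nat := @Bool.rec (fun _ => Nat) (Ptab_s_7_11 c) (Ptab_s_11_15 c) (Nat.ble 11 c)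
noncomputable def Ptab_s_0_15 (c : Nat) : Nat := @Bool.rec (fun _ => Nat) (Ptab_s_0_7 c) (Ptab_s_7_15 c) (Nat.ble 7 c)
noncomputable def Ptab_s_15_17 (c : Nat) : Nat := @Bool.rec (fun _ => Nat) (Ptab_15) (Ptab_16) (Nat.ble 16 c)
noncomputable def Ptab_s_17_19 (c : Nat) : Nat := @Bool.rec (fun _ => Nat) (Ptab_17) (Ptab_18) (Nat.ble 18 c)
noncomputable def Ptab_s_15_19 (c : Nat) : Nat := @Bool.rec (fun _ => Nat) (Ptab_s_15_17 c) (Ptab_s_17_19 c) (Nat.ble 17 c)
noncomputable def Ptab_s_19_21 (c : Nat) : Nat := @Bool.rec (fun _ => Nat) (Ptab_19) (Ptab_20) (Nat.ble 20 c)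
noncomputable def Ptab_s_21_23 (c : Nat) : Nat := @Bool.rec (fun _ => Nat) (Ptab_21) (Ptab_22) (Nat.ble 22 c)
noncomputable def Ptab_s_19_23 (c : Nat) : Nat := @Bool.rec (fun _ => Nat) (Ptab_s_19_21 c) (Ptab_s_21_23 c) (Nat.ble 21 c)
noncomputable def Ptab_s_15_23 (c : Nat) : Nat := @Bool.rec (fun _ => Nat) (Ptab_s_15_19 c) (Ptab_s_19_23 c) (Nat.ble 19 c)
noncomputable def Ptab_s_23_25 (c : Nat) : Nat := @Bool.rec (fun _ => Nat) (Ptab_23) (Ptab_24) (Nat.ble 24 c)
noncomputable def Ptab_s_25_27 (c : Nat) : Nat := @Bool.rec (fun _ => Nat) (Ptab_25) (Ptab_26) (Nat.ble 26 c)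
noncomputable def Ptab_s_23_27 (c : Nat) : Nat := @Bool.rec (fun _ => Nat) (Ptab_s_23_25 c) (Ptab_s_25_27 c) (Nat.ble 25 c)
noncomputable def Ptab_s_27_29 (c : Nat) : Nat := @Bool.rec (fun _ => Nat) (Ptab_27) (Ptab_28) (Nat.ble 28 c)
noncomputable def Ptab_s_29_31 (c : Nat) : Nat := @Bool.rec (fun _ => Nat) (Ptab_29) (Ptab_30) (Nat.ble 30 c)
noncomputable def Ptab_s_27_31 (c : Nat) : Nat := @Bool.rec (fun _ => Nat) (Ptab_s_27_29 c) (Ptab_s_29_31 c) (Nat.ble 29 c)
noncomputable def Ptab_s_23_31 (c : Nat) : Nat := @Bool.rec (fun _ => Nat) (Ptab_s_23_27 c) (Ptab_s_27_31 c) (Nat.ble 27 c)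
noncomputable def Ptab_s_15_31 (c : Nat) : Nat := @Bool.rec (fun _ => Nat) (Ptab_s_15_23 c) (Ptab_s_23_31 c) (Nat.ble 23 c)
noncomputable def Ptab_s_0_31 (c : Nat) : Nat := @Bool.rec (fun _ => Nat) (Ptab_s_0_15 c) (Ptab_s_15_31 c) (Nat.ble 15 c)
noncomputable def Ptab_s_31_33 (c : Nat) : Nat := @Bool.rec (fun _ => Nat) (Ptab_31) (Ptab_32) (Nat.ble 32 c)
noncomputable def Ptab_s_33_35 (c : Nat) : Nat := @Bool.rec (fun _ => Nat) (Ptab_33) (Ptab_34) (Nat.ble 34 c)
noncomputable def Ptab_s_31_35 (c : Nat) : Nat := @Bool.rec (fun _ => Nat) (Ptab_s_31_33 c) (Ptab_s_33_35 c) (Nat.ble 33 c)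
noncomputable def Ptab_s_35_37 (c : Nat) : Nat := @Bool.rec (fun _ => Nat) (Ptab_35) (Ptab_36) (Nat.ble 36 c)
noncomputable def Ptab_s_37_39 (c : Nat) : Nat := @Bool.rec (fun _ => Nat) (Ptab_37) (Ptab_38) (Nat.ble 38 c)
noncomputable def Ptab_s_35_39 (c : Nat) : Nat := @Bool.rec (fun _ => Nat) (Ptab_s_35_37 c) (Ptab_s_37_39 c) (Nat.ble 37 c)
noncomputable def Ptab_s_31_39 (c : Nat) : Nat := @Bool.rec (fun _ => Nat) (Ptab_s_31_35 c) (Ptab_s_35_39 c) (Nat.ble 35 c)
noncomputable def Ptab_s_39_41 (c : Nat) : Nat := @Bool.rec (fun _ => Nat) (Ptab_39) (Ptab_40) (Nat.ble 40 c)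
noncomputable def Ptab_s_41_43 (c : Nat) : Nat := @Bool.rec (fun _ => Nat) (Ptab_41) (Ptab_42) (Nat.ble 42 c)
noncomputable def Ptab_s_39_43 (c : Nat) : Nat := @Bool.rec (fun _ => Nat) (Ptab_s_39_41 c) (Ptab_s_41_43 c) (Nat.ble 41 c)
noncomputable def Ptab_s_43_45 (c : Nat) : Nat := @Bool.rec (fun _ => Nat) (Ptab_43) (Ptab_44) (Nat.ble 44 c)
noncomputable def Ptab_s_45_47 (c : Nat) : Nat := @Bool.rec (fun _ => Nat) (Ptab_45) (Ptab_46) (Nat.ble 46 c)
noncomputable def Ptab_s_43_47 (c : Nat) : Nat := @Bool.rec (fun _ => Nat) (Ptab_s_43_45 c) (Ptab_s_45_47 c) (Nat.ble 45 c)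
noncomputable def Ptab_s_39_47 (c : Nat) : Nat := @Bool.rec (fun _ => Nat) (Ptab_s_39_43 c) (Ptab_s_43_47 c) (Nat.ble 43 c)
noncomputable def Ptab_s_31_47 (c : Nat) : Nat := @Bool.rec (fun _ => Nat) (Ptab_s_31_39 c) (Ptab_s_39_47 c) (Nat.ble 39 c)
noncomputable def Ptab_s_47_49 (c : Nat) : Nat := @Bool.rec (fun _ => Nat) (Ptab_47) (Ptab_48) (Nat.ble 48 c)
noncomputable def Ptab_s_49_51 (c : Nat) : Nat := @Bool.rec (fun _ => Nat) (Ptab_49) (Ptab_50) (Nat.ble 50 c)
noncomputable def Ptab_s_47_51 (c : Nat) : Nat := @Bool.rec (fun _ => Nat) (Ptab_s_47_49 c) (Ptab_s_49_51 c) (Nat.ble 49 c)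
noncomputable def Ptab_s_51_53 (c : Nat) : Nat := @Bool.rec (fun _ => Nat) (Ptab_51) (Ptab_52) (Nat.ble 52 c)
noncomputable def Ptab_s_53_55 (c : Nat) : Nat := @Bool.rec (fun _ => Nat) (Ptab_53) (Ptab_54) (Nat.ble 54 c)
noncomputable def Ptab_s_51_55 (c : Nat) : Nat := @Bool.rec (fun _ => Nat) (Ptab_s_51_53 c) (Ptab_s_53_55 c) (Nat.ble 53 c)
noncomputable def Ptab_s_47_55 (c : Nat) : Nat := @Bool.rec (fun _ => Nat) (Ptab_s_47_51 c) (Ptab_s_51_55 c) (Nat.ble 51 c)
noncomputable def Ptab_s_55_57 (c : Nat) : Nat := @Bool.rec (fun _ => Nat) (Ptab_55) (Ptab_56) (Nat.ble 56 c)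
noncomputable def Ptab_s_57_59 (c : Nat) : Nat := @Bool.rec (fun _ => Nat) (Ptab_57) (Ptab_58) (Nat.ble 58 c)
noncomputable def Ptab_s_55_59 (c : Nat) : Nat := @Bool.rec (fun _ => Nat) (Ptab_s_55_57 c) (Ptab_s_57_59 c) (Nat.ble 57 c)
noncomputable def Ptab_s_59_61 (c : Nat) : Nat := @Bool.rec (fun _ => Nat) (Ptab_59) (Ptab_60) (Nat.ble 60 c)
noncomputable def Ptab_s_61_63 (c : Nat) : Nat := @Bool.rec (fun _ => Nat) (Ptab_61) (Ptab_62) (Nat.ble 62 c)
noncomputable def Ptab_s_59_63 (c : Nat) : Nat := @Bool.rec (fun _ => Nat) (Ptab_s_59_61 c) (Ptab_s_61_63 c) (Nat.ble 61 c)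
noncomputable def Ptab_s_55_63 (c : Nat) : Nat := @Bool.rec (fun _ => Nat) (Ptab_s_55_59 c) (Ptab_s_59_63 c) (Nat.ble 59 c)
noncomputable def Ptab_s_47_63 (c : Nat) : Nat := @Bool.rec (fun _ => Nat) (Ptab_s_47_55 c) (Ptab_s_55_63 c) (Nat.ble 55 c)
noncomputable def Ptab_s_31_63 (c : Nat) : Nat := @Bool.rec (fun _ => Nat) (Ptab_s_31_47 c) (Ptab_s_47_63 c) (Nat.ble 47 c)
noncomputable def Ptab_s_0_63 (c : Nat) : Nat := @Bool.rec (fun _ => Nat) (Ptab_s_0_31 c) (Ptab_s_31_63 c) (Nat.ble 31 c)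
noncomputable def Ptab_s_64_66 (c : Nat) : Nat := @Bool.rec (fun _ => Nat) (Ptab_64) (Ptab_65) (Nat.ble 65 c)
noncomputable def Ptab_s_63_66 (c : Nat) : Nat := @Bool.rec (fun _ => Nat) (Ptab_63) (Ptab_s_64_66 c) (Nat.ble 64 c)
noncomputable def Ptab_s_66_68 (c : Nat) : Nat := @Bool.rec (fun _ => Nat) (Ptab_66) (Ptab_67) (Nat.ble 67 c)
noncomputable def Ptab_s_68_70 (c : Nat) : Nat := @Bool.rec (fun _ => Nat) (Ptab_68) (Ptab_69) (Nat.ble 69 c)
noncomputable def Ptab_s_66_70 (c : Nat) : Nat := @Bool.rec (fun _ => Nat) (Ptab_s_66_68 c) (Ptab_s_68_70 c) (Nat.ble 68 c)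
noncomputable def Ptab_s_63_70 (c : Nat) : Nat := @Bool.rec (fun _ => Nat) (Ptab_s_63_66 c) (Ptab_s_66_70 c) (Nat.ble 66 c)
noncomputable def Ptab_s_70_72 (c : Nat) : Nat := @Bool.rec (fun _ => Nat) (Ptab_70) (Ptab_71) (Nat.ble 71 c)
noncomputable def Ptab_s_72_74 (c : Nat) : Nat := @Bool.rec (fun _ => Nat) (Ptab_72) (Ptab_73) (Nat.ble 73 c)
noncomputable def Ptab_s_70_74 (c : Nat) : Nat := @Bool.rec (fun _ => Nat) (Ptab_s_70_72 c) (Ptab_s_72_74 c) (Nat.ble 72 c)
noncomputable def Ptab_s_74_76 (c : Nat) : Nat := @Bool.rec (fun _ => Nat) (Ptab_74) (Ptab_75) (Nat.ble 75 c)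
noncomputable def Ptab_s_76_78 (c : Nat) : Nat := @Bool.rec (fun _ => Nat) (Ptab_76) (Ptab_77) (Nat.ble 77 c)
noncomputable def Ptab_s_74_78 (c : Nat) : Nat := @Bool.rec (fun _ => Nat) (Ptab_s_74_76 c) (Ptab_s_76_78 c) (Nat.ble 76 c)
noncomputable def Ptab_s_70_78 (c : Nat) : Nat := @Bool.rec (fun _ => Nat) (Ptab_s_70_74 c) (Ptab_s_74_78 c) (Nat.ble 74 c)
noncomputable def Ptab_s_63_78 (c : Nat) : Nat := @Bool.rec (fun _ => Nat) (Ptab_s_63_70 c) (Ptab_s_70_78 c) (Nat.ble 70 c)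
noncomputable def Ptab_s_78_80 (c : Nat) : Nat := @Bool.rec (fun _ => Nat) (Ptab_78) (Ptab_79) (Nat.ble 79 c)
noncomputable def Ptab_s_80_82 (c : Nat) : Nat := @Bool.rec (fun _ => Nat) (Ptab_80) (Ptab_81) (Nat.ble 81 c)
noncomputable def Ptab_s_78_82 (c : Nat) : Nat := @Bool.rec (fun _ => Nat) (Ptab_s_78_80 c) (Ptab_s_80_82 c) (Nat.ble 80 c)
noncomputable def Ptab_s_82_84 (c : Nat) : Nat := @Bool.rec (fun _ => Nat) (Ptab_82) (Ptab_83) (Nat.ble 83 c)
noncomputable def Ptab_s_84_86 (c : Nat) : Nat := @Bool.rec (fun _ => Nat) (Ptab_84) (Ptab_85) (Nat.ble 85 c)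
noncomputable def Ptab_s_82_86 (c : Nat) : Nat := @Bool.rec (fun _ => Nat) (Ptab_s_82_84 c) (Ptab_s_84_86 c) (Nat.ble 84 c)
noncomputable def Ptab_s_78_86 (c : Nat) : Nat := @Bool.rec (fun _ => Nat) (Ptab_s_78_82 c) (Ptab_s_82_86 c) (Nat.ble 82 c)
noncomputable def Ptab_s_86_88 (c : Nat) : Nat := @Bool.rec (fun _ => Nat) (Ptab_86) (Ptab_87) (Nat.ble 87 c)
noncomputable def Ptab_s_88_90 (c : Nat) : Nat := @Bool.rec (fun _ => Nat) (Ptab_88) (Ptab_89) (Nat.ble 89 c)
noncomputable def Ptab_s_86_90 (c : Nat) : Nat := @Bool.rec (fun _ => Nat) (Ptab_s_86_88 c) (Ptab_s_88_90 c) (Nat.ble 88 c)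
noncomputable def Ptab_s_90_92 (c : Nat) : Nat := @Bool.rec (fun _ => Nat) (Ptab_90) (Ptab_91) (Nat.ble 91 c)
noncomputable def Ptab_s_92_94 (c : Nat) : Nat := @Bool.rec (fun _ => Nat) (Ptab_92) (Ptab_93) (Nat.ble 93 c)
noncomputable def Ptab_s_90_94 (c : Nat) : Nat := @Bool.rec (fun _ => Nat) (Ptab_s_90_92 c) (Ptab_s_92_94 c) (Nat.ble 92 c)
noncomputable def Ptab_s_86_94 (c : Nat) : Nat := @Bool.rec (fun _ => Nat) (Ptab_s_86_90 c) (Ptab_s_90_94 c) (Nat.ble 90 c)
noncomputable def Ptab_s_78_94 (c : Nat) : Nat := @Bool.rec (fun _ => Nat) (Ptab_s_78_86 c) (Ptab_s_86_94 c) (Nat.ble 86 c)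
noncomputable def Ptab_s_63_94 (c : Nat) : Nat := @Bool.rec (fun _ => Nat) (Ptab_s_63_78 c) (Ptab_s_78_94 c) (Nat.ble 78 c)
noncomputable def Ptab_s_94_96 (c : Nat) : Nat := @Bool.rec (fun _ => Nat) (Ptab_94) (Ptab_95) (Nat.ble 95 c)
noncomputable def Ptab_s_96_98 (c : Nat) : Nat := @Bool.rec (fun _ => Nat) (Ptab_96) (Ptab_97) (Nat.ble 97 c)
noncomputable def Ptab_s_94_98 (c : Nat) : Nat := @Bool.rec (fun _ => Nat) (Ptab_s_94_96 c) (Ptab_s_96_98 c) (Nat.ble 96 c)
noncomputable def Ptab_s_98_100 (c : Nat) : Nat := @Bool.rec (fun _ => Nat) (Ptab_98) (Ptab_99) (Nat.ble 99 c)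
noncomputable def Ptab_s_100_102 (c : Nat) : Nat := @Bool.rec (fun _ => Nat) (Ptab_100) (Ptab_101) (Nat.ble 101 c)
noncomputable def Ptab_s_98_102 (c : Nat) : Nat := @Bool.rec (fun _ => Nat) (Ptab_s_98_100 c) (Ptab_s_100_102 c) (Nat.ble 100 c)
noncomputable def Ptab_s_94_102 (c : Nat) : Nat := @Bool.rec (fun _ => Nat) (Ptab_s_94_98 c) (Ptab_s_98_102 c) (Nat.ble 98 c)
noncomputable def Ptab_s_102_104 (c : Nat) : Nat := @Bool.rec (fun _ => Nat) (Ptab_102) (Ptab_103) (Nat.ble 103 c)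
noncomputable def Ptab_s_104_106 (c : Nat) : Nat := @Bool.rec (fun _ => Nat) (Ptab_104) (Ptab_105) (Nat.ble 105 c)
noncomputable def Ptab_s_102_106 (c : Nat) : Nat := @Bool.rec (fun _ => Nat) (Ptab_s_102_104 c) (Ptab_s_104_106 c) (Nat.ble 104 c)
noncomputable def Ptab_s_106_108 (c : Nat) : Nat := @Bool.rec (fun _ => Nat) (Ptab_106) (Ptab_107) (Nat.ble 107 c)
noncomputable def Ptab_s_108_110 (c : Nat) : Nat := @Bool.rec (fun _ => Nat) (Ptab_108) (Ptab_109) (Nat.ble 109 c)
noncomputable def Ptab_s_106_110 (c : Nat) : Nat := @Bool.rec (fun _ => Nat) (Ptab_s_106_108 c) (Ptab_s_108_110 c) (Nat.ble 108 c)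
noncomputable def Ptab_s_102_110 (c : Nat) : Nat := @Bool.rec (fun _ => Nat) (Ptab_s_102_106 c) (Ptab_s_106_110 c) (Nat.ble 106 c)
noncomputable def Ptab_s_94_110 (c : Nat) : Nat := @Bool.rec (fun _ => Nat) (Ptab_s_94_102 c) (Ptab_s_102_110 c) (Nat.ble 102 c)
noncomputable def Ptab_s_110_112 (c : Nat) : Nat := @Bool.rec (fun _ => Nat) (Ptab_110) (Ptab_111) (Nat.ble 111 c)
noncomputable def Ptab_s_112_114 (c : Nat) : Nat := @Bool.rec (fun _ => Nat) (Ptab_112) (Ptab_113) (Nat.ble 113 c)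
noncomputable def Ptab_s_110_114 (c : Nat) : Nat := @Bool.rec (fun _ => Nat) (Ptab_s_110_112 c) (Ptab_s_112_114 c) (Nat.ble 112 c)
noncomputable def Ptab_s_114_116 (c : Nat) : Nat := @Bool.rec (fun _ => Nat) (Ptab_114) (Ptab_115) (Nat.ble 115 c)
noncomputable def Ptab_s_116_118 (c : Nat) : Nat := @Bool.rec (fun _ => Nat) (Ptab_116) (Ptab_117) (Nat.ble 117 c)
noncomputable def Ptab_s_114_118 (c : Nat) : Nat := @Bool.rec (fun _ => Nat) (Ptab_s_114_116 c) (Ptab_s_116_118 c) (Nat.ble 116 c)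
noncomputable def Ptab_s_110_118 (c : Nat) : Nat := @Bool.rec (fun _ => Nat) (Ptab_s_110_114 c) (Ptab_s_114_118 c) (Nat.ble 114 c)
noncomputable def Ptab_s_118_120 (c : Nat) : Nat := @Bool.rec (fun _ => Nat) (Ptab_118) (Ptab_119) (Nat.ble 119 c)
noncomputable def Ptab_s_120_122 (c : Nat) : Nat := @Bool.rec (fun _ => Nat) (Ptab_120) (Ptab_121) (Nat.ble 121 c)
noncomputable def Ptab_s_118_122 (c : Nat) : Nat := @Bool.rec (fun _ => Nat) (Ptab_s_118_120 c) (Ptab_s_120_122 c) (Nat.ble 120 c)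
noncomputable def Ptab_s_122_124 (c : Nat) : Nat := @Bool.rec (fun _ => Nat) (Ptab_122) (Ptab_123) (Nat.ble 123 c)
noncomputable def Ptab_s_124_126 (c : Nat) : Nat := @Bool.rec (fun _ => Nat) (Ptab_124) (Ptab_125) (Nat.ble 125 c)
noncomputable def Ptab_s_122_126 (c : Nat) : Nat := @Bool.rec (fun _ => Nat) (Ptab_s_122_124 c) (Ptab_s_124_126 c) (Nat.ble 124 c)
noncomputable def Ptab_s_118_126 (c : Nat) : Nat := @Bool.rec (fun _ => Nat) (Ptab_s_118_122 c) (Ptab_s_122_126 c) (Nat.ble 122 c)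
noncomputable def Ptab_s_110_126 (c : Nat) : Nat := @Bool.rec (fun _ => Nat) (Ptab_s_110_118 c) (Ptab_s_118_126 c) (Nat.ble 118 c)
noncomputable def Ptab_s_94_126 (c : Nat) : Nat := @Bool.rec (fun _ => Nat) (Ptab_s_94_110 c) (Ptab_s_110_126 c) (Nat.ble 110 c)
noncomputable def Ptab_s_63_126 (c : Nat) : Nat := @Bool.rec (fun _ => Nat) (Ptab_s_63_94 c) (Ptab_s_94_126 c) (Nat.ble 94 c)
noncomputable def Ptab_s_0_126 (c : Nat) : Nat := @Bool.rec (fun _ => Nat) (Ptab_s_0_63 c) (Ptab_s_63_126 c) (Nat.ble 63 c)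
noncomputable def Ptab (i : Nat) : Nat := rdw 19 524287 (Ptab_s_0_126 (Nat.shiftRight i 12)) (Nat.land i 4095)
noncomputable def RRtab (i : Nat) : Nat := rdw 7 127 RRtab_0 i
noncomputable def rBtab (i : Nat) : Nat := rdw 13 8191 rBtab_0 i
noncomputable def rLtab (i : Nat) : Nat := rdw 5 31 rLtab_0 i
noncomputable def nameTab (i : Nat) : Nat := rdw 15 32767 nameTab_0 i
noncomputable def col0 (i : Nat) : Nat := rdw 12 4095 col0_0 i
noncomputable def col1 (i : Nat) : Nat := rdw 12 4095 col1_0 i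
noncomputable def col2 (i : Nat) : Nat := rdw 12 4095 col2_0 i
noncomputable def col3 (i : Nat) : Nat := rdw 12 4095 col3_0 i
noncomputable def col4 (i : Nat) : Nat := rdw 12 4095 col4_0 i
noncomputable def col5 (i : Nat) : Nat := rdw 12 4095 col5_0 i
noncomputable def col6 (i : Nat) : Nat := rdw 12 4095 col6_0 i
noncomputable def col7 (i : Nat) : Nat := rdw 12 4095 col7_0 i
noncomputable def col8 (i : Nat) : Nat := rdw 12 4095 col8_0 i
noncomputable def col9 (i : Nat) : Nat := rdw 12 4095 col9_0 i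
noncomputable def col10 (i : Nat) : Nat := rdw 12 4095 col10_0 i
noncomputable def col11 (i : Nat) : Nat := rdw 12 4095 col11_0 i
noncomputable def col12 (i : Nat) : Nat := rdw 12 4095 col12_0 i
noncomputable def col13 (i : Nat) : Nat := rdw 12 4095 col13_0 i
noncomputable def col14 (i : Nat) : Nat := rdw 12 4095 col14_0 i
noncomputable def col15 (i : Nat) : Nat := rdw 12 4095 col15_0 i
noncomputable def col16 (i : Nat) : Nat := rdw 12 4095 col16_0 i
noncomputable def col17 (i : Nat) : Nat := rdw 12 4095 col17_0 i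
noncomputable def col18 (i : Nat) : Nat := rdw 12 4095 col18_0 i
noncomputable def col19 (i : Nat) : Nat := rdw 12 4095 col19_0 i
noncomputable def col20 (i : Nat) : Nat := rdw 12 4095 col20_0 i
noncomputable def col21 (i : Nat) : Nat := rdw 12 4095 col21_0 i
noncomputable def col22 (i : Nat) : Nat := rdw 12 4095 col22_0 i
noncomputable def col23 (i : Nat) : Nat := rdw 12 4095 col23_0 i
noncomputable def col24 (i : Nat) : Nat := rdw 12 4095 col24_0 i
noncomputable def col25 (i : Nat) : Nat := rdw 12 4095 col25_0 i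
noncomputable def col26 (i : Nat) : Nat := rdw 12 4095 col26_0 i
noncomputable def col27 (i : Nat) : Nat := rdw 12 4095 col27_0 i
noncomputable def col28 (i : Nat) : Nat := rdw 12 4095 col28_0 i
noncomputable def col29 (i : Nat) : Nat := rdw 12 4095 col29_0 i
noncomputable def col30 (i : Nat) : Nat := rdw 12 4095 col30_0 i
noncomputable def col31 (i : Nat) : Nat := rdw 12 4095 col31_0 i
noncomputable def col32 (i : Nat) : Nat := rdw 12 4095 col32_0 i
noncomputable def col33 (i : Nat) : Nat := rdw 12 4095 col33_0 i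
noncomputable def col34 (i : Nat) : Nat := rdw 12 4095 col34_0 i
noncomputable def col35 (i : Nat) : Nat := rdw 12 4095 col35_0 i
noncomputable def col36 (i : Nat) : Nat := rdw 12 4095 col36_0 i
noncomputable def col37 (i : Nat) : Nat := rdw 12 4095 col37_0 i
noncomputable def col38 (i : Nat) : Nat := rdw 12 4095 col38_0 i
noncomputable def col39 (i : Nat) : Nat := rdw 12 4095 col39_0 i
noncomputable def col40 (i : Nat) : Nat := rdw 12 4095 col40_0 i
noncomputable def col41 (i : Nat) : Nat := rdw 12 4095 col41_0 i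
noncomputable def col42 (i : Nat) : Nat := rdw 12 4095 col42_0 i
noncomputable def col43 (i : Nat) : Nat := rdw 12 4095 col43_0 i
noncomputable def col44 (i : Nat) : Nat := rdw 12 4095 col44_0 i
noncomputable def col45 (i : Nat) : Nat := rdw 12 4095 col45_0 i
noncomputable def col46 (i : Nat) : Nat := rdw 12 4095 col46_0 i
noncomputable def col47 (i : Nat) : Nat := rdw 12 4095 col47_0 i
noncomputable def col48 (i : Nat) : Nat := rdw 12 4095 col48_0 i
noncomputable def col49 (i : Nat) : Nat := rdw 12 4095 col49_0 i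
noncomputable def col50 (i : Nat) : Nat := rdw 12 4095 col50_0 i
noncomputable def col51 (i : Nat) : Nat := rdw 12 4095 col51_0 i
noncomputable def col52 (i : Nat) : Nat := rdw 12 4095 col52_0 i
noncomputable def col53 (i : Nat) : Nat := rdw 12 4095 col53_0 i
noncomputable def col54 (i : Nat) : Nat := rdw 12 4095 col54_0 i
noncomputable def col55 (i : Nat) : Nat := rdw 12 4095 col55_0 i
noncomputable def col56 (i : Nat) : Nat := rdw 12 4095 col56_0 i
noncomputable def col57 (i : Nat) : Nat := rdw 12 4095 col57_0 i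
noncomputable def col58 (i : Nat) : Nat := rdw 12 4095 col58_0 i
noncomputable def col59 (i : Nat) : Nat := rdw 12 4095 col59_0 i
noncomputable def finTab_s_0_2 (c : Nat) : Nat := @Bool.rec (fun _ => Nat) (finTab_0) (finTab_1) (Nat.ble 1 c)
noncomputable def finTab_s_2_4 (c : Nat) : Nat := @Bool.rec (fun _ => Nat) (finTab_2) (finTab_3) (Nat.ble 3 c)
noncomputable def finTab_s_0_4 (c : Nat) : Nat := @Bool.rec (fun _ => Nat) (finTab_s_0_2 c) (finTab_s_2_4 c) (Nat.ble 2 c)
noncomputable def finTab_s_4_6 (c : Nat) : Nat := @Bool.rec (fun _ => Nat) (finTab_4) (finTab_5) (Nat.ble 5 c)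
noncomputable def finTab_s_6_8 (c : Nat) : Nat := @Bool.rec (fun _ => Nat) (finTab_6) (finTab_7) (Nat.ble 7 c)
noncomputable def finTab_s_4_8 (c : Nat) : Nat := @Bool.rec (fun _ => Nat) (finTab_s_4_6 c) (finTab_s_6_8 c) (Nat.ble 6 c)
noncomputable def finTab_s_0_8 (c : Nat) : Nat := @Bool.rec (fun _ => Nat) (finTab_s_0_4 c) (finTab_s_4_8 c) (Nat.ble 4 c)
noncomputable def finTab_s_8_10 (c : Nat) : Nat := @Bool.rec (fun _ => Nat) (finTab_8) (finTab_9) (Nat.ble 9 c)
noncomputable def finTab_s_10_12 (c : Nat) : Nat := @Bool.rec (fun _ => Nat) (finTab_10) (finTab_11) (Nat.ble 11 c)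
noncomputable def finTab_s_8_12 (c : Nat) : Nat := @Bool.rec (fun _ => Nat) (finTab_s_8_10 c) (finTab_s_10_12 c) (Nat.ble 10 c)
noncomputable def finTab_s_12_14 (c : Nat) : Nat := @Bool.rec (fun _ => Nat) (finTab_12) (finTab_13) (Nat.ble 13 c)
noncomputable def finTab_s_14_16 (c : Nat) : Nat := @Bool.rec (fun _ => Nat) (finTab_14) (finTab_15) (Nat.ble 15 c)
noncomputable def finTab_s_12_16 (c : Nat) : Nat := @Bool.rec (fun _ => Nat) (finTab_s_12_14 c) (finTab_s_14_16 c) (Nat.ble 14 c)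
noncomputable def finTab_s_8_16 (c : Nat) : Nat := @Bool.rec (fun _ => Nat) (finTab_s_8_12 c) (finTab_s_12_16 c) (Nat.ble 12 c)
noncomputable def finTab_s_0_16 (c : Nat) : Nat := @Bool.rec (fun _ => Nat) (finTab_s_0_8 c) (finTab_s_8_16 c) (Nat.ble 8 c)
noncomputable def finTab_s_16_18 (c : Nat) : Nat := @Bool.rec (fun _ => Nat) (finTab_16) (finTab_17) (Nat.ble 17 c)
noncomputable def finTab_s_18_20 (c : Nat) : Nat := @Bool.rec (fun _ => Nat) (finTab_18) (finTab_19) (Nat.ble 19 c)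
noncomputable def finTab_s_16_20 (c : Nat) : Nat := @Bool.rec (fun _ => Nat) (finTab_s_16_18 c) (finTab_s_18_20 c) (Nat.ble 18 c)
noncomputable def finTab_s_20_22 (c : Nat) : Nat := @Bool.rec (fun _ => Nat) (finTab_20) (finTab_21) (Nat.ble 21 c)
noncomputable def finTab_s_22_24 (c : Nat) : Nat := @Bool.rec (fun _ => Nat) (finTab_22) (finTab_23) (Nat.ble 23 c)
noncomputable def finTab_s_20_24 (c : Nat) : Nat := @Bool.rec (fun _ => Nat) (finTab_s_20_22 c) (finTab_s_22_24 c) (Nat.ble 22 c)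
noncomputable def finTab_s_16_24 (c : Nat) : Nat := @Bool.rec (fun _ => Nat) (finTab_s_16_20 c) (finTab_s_20_24 c) (Nat.ble 20 c)
noncomputable def finTab_s_24_26 (c : Nat) : Nat := @Bool.rec (fun _ => Nat) (finTab_24) (finTab_25) (Nat.ble 25 c)
noncomputable def finTab_s_26_28 (c : Nat) : Nat := @Bool.rec (fun _ => Nat) (finTab_26) (finTab_27) (Nat.ble 27 c)
noncomputable def finTab_s_24_28 (c : Nat) : Nat := @Bool.rec (fun _ => Nat) (finTab_s_24_26 c) (finTab_s_26_28 c) (Nat.ble 26 c)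
noncomputable def finTab_s_28_30 (c : Nat) : Nat := @Bool.rec (fun _ => Nat) (finTab_28) (finTab_29) (Nat.ble 29 c)
noncomputable def finTab_s_30_32 (c : Nat) : Nat := @Bool.rec (fun _ => Nat) (finTab_30) (finTab_31) (Nat.ble 31 c)
noncomputable def finTab_s_28_32 (c : Nat) : Nat := @Bool.rec (fun _ => Nat) (finTab_s_28_30 c) (finTab_s_30_32 c) (Nat.ble 30 c)
noncomputable def finTab_s_24_32 (c : Nat) : Nat := @Bool.rec (fun _ => Nat) (finTab_s_24_28 c) (finTab_s_28_32 c) (Nat.ble 28 c)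
noncomputable def finTab_s_16_32 (c : Nat) : Nat := @Bool.rec (fun _ => Nat) (finTab_s_16_24 c) (finTab_s_24_32 c) (Nat.ble 24 c)
noncomputable def finTab_s_0_32 (c : Nat) : Nat := @Bool.rec (fun _ => Nat) (finTab_s_0_16 c) (finTab_s_16_32 c) (Nat.ble 16 c)
noncomputable def finTab (i : Nat) : Nat := rdw 19 524287 (finTab_s_0_32 (Nat.shiftRight i 12)) (Nat.land i 4095)
noncomputable def clsTab_s_1_3 (c : Nat) : Nat := @Bool.rec (fun _ => Nat) (clsTab_1) (clsTab_2) (Nat.ble 2 c)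
noncomputable def clsTab_s_0_3 (c : Nat) : Nat := @Bool.rec (fun _ => Nat) (clsTab_0) (clsTab_s_1_3 c) (Nat.ble 1 c)
noncomputable def clsTab (i : Nat) : Nat := rdw 12 4095 (clsTab_s_0_3 (Nat.shiftRight i 13)) (Nat.land i 8191)
noncomputable def oparTab (i : Nat) : Nat := rdw 12 4095 oparTab_0 i
noncomputable def olabTab (i : Nat) : Nat := rdw 2 3 olabTab_0 i
noncomputable def srcF (t : Nat) : Nat := Nat.land (Atab t) 32767
noncomputable def tgtF (t : Nat) : Nat := Nat.land (Nat.shiftRight (Atab t) 15) 32767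
noncomputable def ltF (t : Nat) : Nat := Nat.shiftRight (Atab t) 30
noncomputable def rhoF (t : Nat) : Nat := Nat.land (Btab (Nat.sub t 19116)) 1023
noncomputable def rotF (t : Nat) : Nat := Nat.land (Nat.shiftRight (Btab (Nat.sub t 19116)) 10) 31
noncomputable def lenF (t : Nat) : Nat := Nat.land (Nat.shiftRight (Btab (Nat.sub t 19116)) 15) 63
noncomputable def offF (t : Nat) : Nat := Nat.shiftRight (Btab (Nat.sub t 19116)) 21
noncomputable def pfF (j : Nat) : Nat := Nat.shiftRight (Ptab j) 1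
noncomputable def pdF (j : Nat) : Nat := Nat.land (Ptab j) 1
noncomputable def tblF (i x : Nat) : Nat := @Bool.rec (fun _ => Nat) (@Bool.rec (fun _ => Nat) (@Bool.rec (fun _ => Nat) (@Bool.rec (fun _ => Nat) (@Bool.rec (fun _ => Nat) (col0 i) (@Bool.rec (fun _ => Nat) (col1 i) (col2 i) (Nat.ble 2 x)) (Nat.ble 1 x)) (@Bool.rec (fun _ => Nat) (@Bool.rec (fun _ => Nat) (col3 i) (col4 i) (Nat.ble 4 x)) (@Bool.rec (fun _ => Nat) (col5 i) (col6 i) (Nat.ble 6 x)) (Nat.ble 5 x)) (Nat.ble 3 x)) (@Bool.rec (fun _ => Nat) (@Bool.rec (fun _ => Nat) (@Bool.rec (fun _ => Nat) (col7 i) (col8 i) (Nat.ble 8 x)) (@Bool.rec (fun _ => Nat) (col9 i) (col10 i) (Nat.ble 10 x)) (Nat.ble 9 x)) (@Bool.rec (fun _ => Nat) (@Bool.rec (fun _ => Nat) (col11 i) (col12 i) (Nat.ble 12 x)) (@Bool.rec (fun _ => Nat) (col13 i) (col14 i) (Nat.ble 14 x)) (Nat.ble 13 x)) (Nat.ble 11 x)) (Nat.ble 7 x)) (@Bool.rec (fun _ => Nat) (@Bool.rec (fun _ => Nat) (@Bool.rec (fun _ => Nat) (col15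 i) (@Bool.rec (fun _ => Nat) (col16 i) (col17 i) (Nat.ble 17 x)) (Nat.ble 16 x)) (@Bool.rec (fun _ => Nat) (@Bool.rec (fun _ => Nat) (col18 i) (col19 i) (Nat.ble 19 x)) (@Bool.rec (fun _ => Nat) (col20 i) (col21 i) (Nat.ble 21 x)) (Nat.ble 20 x)) (Nat.ble 18 x)) (@Bool.rec (fun _ => Nat) (@Bool.rec (fun _ => Nat) (@Bool.rec (fun _ => Nat) (col22 i) (col23 i) (Nat.ble 23 x)) (@Bool.rec (fun _ => Nat) (col24 i) (col25 i) (Nat.ble 25 x)) (Nat.ble 24 x)) (@Bool.rec (fun _ => Nat) (@Bool.rec (fun _ => Nat) (col26 i) (col27 i) (Nat.ble 27 x)) (@Bool.rec (fun _ => Nat) (col28 i) (col29 i) (Nat.ble 29 x)) (Nat.ble 28 x)) (Nat.ble 26 x)) (Nat.ble 22 x)) (Nat.ble 15 x)) (@Bool.rec (fun _ => Nat) (@Bool.rec (fun _ => Nat) (@Bool.rec (fun _ => Nat) (@Bool.rec (fun _ => Nat) (col30 i) (@Bool.rec (fun _ => Nat) (col31 i) (col32 i) (Nat.ble 32 x)) (Nat.ble 31 x)) (@Bool.rec (fun _ => Nat) (@Bool.rec (fun _ => Nat) (col33 i) (col34 i) (Nat.ble 34 x)) (@Bool.rec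 (fun _ => Nat) (col35 i) (col36 i) (Nat.ble 36 x)) (Nat.ble 35 x)) (Nat.ble 33 x)) (@Bool.rec (fun _ => Nat) (@Bool.rec (fun _ => Nat) (@Bool.rec (fun _ => Nat) (col37 i) (col38 i) (Nat.ble 38 x)) (@Bool.rec (fun _ => Nat) (col39 i) (col40 i) (Nat.ble 40 x)) (Nat.ble 39 x)) (@Bool.rec (fun _ => Nat) (@Bool.rec (fun _ => Nat) (col41 i) (col42 i) (Nat.ble 42 x)) (@Bool.rec (fun _ => Nat) (col43 i) (col44 i) (Nat.ble 44 x)) (Nat.ble 43 x)) (Nat.ble 41 x)) (Nat.ble 37 x)) (@Bool.rec (fun _ => Nat) (@Bool.rec (fun _ => Nat) (@Bool.rec (fun _ => Nat) (col45 i) (@Bool.rec (fun _ => Nat) (col46 i) (col47 i) (Nat.ble 47 x)) (Nat.ble 46 x)) (@Bool.rec (fun _ => Nat) (@Bool.rec (fun _ => Nat) (col48 i) (col49 i) (Nat.ble 49 x)) (@Bool.rec (fun _ => Nat) (col50 i) (col51 i) (Nat.ble 51 x)) (Nat.ble 50 x)) (Nat.ble 48 x)) (@Bool.rec (fun _ => Nat) (@Bool.rec (fun _ => Nat) (@Bool.rec (fun _ => Nat) (col52 i) (col53 i) (Nat.ble 53 x)) (@Bool.rec (fun _ =>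 Nat) (col54 i) (col55 i) (Nat.ble 55 x)) (Nat.ble 54 x)) (@Bool.rec (fun _ => Nat) (@Bool.rec (fun _ => Nat) (col56 i) (col57 i) (Nat.ble 57 x)) (@Bool.rec (fun _ => Nat) (col58 i) (col59 i) (Nat.ble 59 x)) (Nat.ble 58 x)) (Nat.ble 56 x)) (Nat.ble 52 x)) (Nat.ble 45 x)) (Nat.ble 30 x)
noncomputable def finE (i x : Nat) : Nat := finTab (Nat.add (Nat.mul i 60) x)
noncomputable def finFF (i x : Nat) : Nat := Nat.shiftRight (finE i x) 1
noncomputable def finDF (i x : Nat) : Nat := Nat.land (finE i x) 1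

noncomputable def D : Log :=
  { k := 60, inv := invE 60 PSC2O73p2.invR, nR := 542, rBase := rBtab, rLen := rLtab, RR := RRtab,
    M := 19110, nB := 6, F := 163401, src := srcF, lt := ltF, tgt := tgtF, rho := rhoF, rot := rotF,
    off := offF, len := lenF, pf := pfF, pd := pdF }

noncomputable def T : Tab :=
  { N := 2160, nameOf := nameTab, tbl := tblF, finF := finFF, finD := finDF, cls := clsTab }

def subs : List (List Nat) := [
  [0],
  [2],
  [4] ]

def rw0 : List Nat := [0, 0, 0, 0, 0, 0, 0]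
def rw1 : List Nat := [2, 2, 2, 2]
def rw2 : List Nat := [4, 4, 4]
def rw3 : List Nat := [6, 6, 6, 6, 6, 6, 6]
def rw4 : List Nat := [9, 6, 1]
def rw5 : List Nat := [11, 8, 8]
def rw6 : List Nat := [13, 0, 8, 1, 8, 0, 8, 1, 8, 11]
def rw7 : List Nat := [15, 2, 8, 3, 8, 2, 8, 3, 8, 11]
def rw8 : List Nat := [17, 0, 0, 2, 0, 8, 1, 3, 1, 1, 8, 11]
def rw9 : List Nat := [19, 0, 3, 5, 2, 8, 3, 4, 2, 1, 8, 11]
def rw10 : List Nat := [21, 0, 3, 4, 4, 2, 8, 3, 4, 2, 1, 8, 11]
def rw11 : List Nat := [23, 0, 0, 0, 4, 1, 1, 8, 3, 4, 2, 1, 8, 11]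
def rw12 : List Nat := [25, 0, 0, 2, 0, 8, 1, 2, 2, 2, 1, 1, 8, 11]
def rw13 : List Nat := [27, 0, 2, 8, 2, 1, 5, 0, 2, 8, 2, 1, 5]
def rw14 : List Nat := [29, 0, 2, 8, 3, 1, 4, 0, 3, 8, 2, 1, 5]
def rw15 : List Nat := [31, 0, 2, 8, 3, 1, 4, 0, 3, 8, 2, 1, 4, 4]
def rw16 : List Nat := [33, 0, 0, 4, 1, 2, 1, 8, 0, 3, 1, 3, 4, 2, 8, 11]
def rw17 : List Nat := [35, 0, 2, 2, 0, 5, 0, 8, 1, 4, 1, 2, 2, 1, 8]
def rw18 : List Nat := [37, 0, 2, 1, 5, 0, 8, 1, 4, 0, 3, 1, 3, 8, 2]
def rw19 : List Nat := [39, 0, 0, 3, 0, 8, 1, 2, 1, 1, 4, 3, 8, 2, 5]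
def rw20 : List Nat := [41, 0, 0, 2, 2, 8, 2, 2, 1, 1, 4, 2, 8, 3, 5, 11]
def rw21 : List Nat := [43, 0, 4, 2, 8, 3, 5, 1, 2, 5, 1, 8, 0, 4, 3, 11]
def rw22 : List Nat := [45, 0, 3, 3, 0, 5, 8, 4, 1, 2, 2, 1, 5, 8, 4, 11]
def rw23 : List Nat := [47, 0, 0, 3, 0, 4, 1, 8, 2, 1, 1, 2, 0, 5, 8, 1, 3, 11]
def rw24 : List Nat := [49, 0, 0, 3, 0, 2, 0, 3, 8, 4, 8, 4, 8, 3, 0, 2, 4, 1, 4]
def rw25 : List Nat := [51, 10, 10]
def rw26 : List Nat := [53, 11, 1, 10, 0]
def rw27 : List Nat := [55, 11, 3, 10, 2]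
def rw28 : List Nat := [57, 11, 5, 10, 4]
def rw29 : List Nat := [59, 11, 9, 10, 8]
def rw30 : List Nat := [12, 12]
def rw31 : List Nat := [14, 14]
def rw32 : List Nat := [16, 16]
def rw33 : List Nat := [18, 18]
def rw34 : List Nat := [20, 20]
def rw35 : List Nat := [22, 22]
def rw36 : List Nat := [24, 24]
def rw37 : List Nat := [26, 26]
def rw38 : List Nat := [28, 28]
def rw39 : List Nat := [30, 30]
def rw40 : List Nat := [32, 32]
def rw41 : List Nat := [34, 34]
def rw42 : List Nat := [36, 36]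
def rw43 : List Nat := [38, 38]
def rw44 : List Nat := [40, 40]
def rw45 : List Nat := [42, 42]
def rw46 : List Nat := [44, 44]
def rw47 : List Nat := [46, 46]
def rw48 : List Nat := [48, 48]
def rw49 : List Nat := [50, 50]
def rw50 : List Nat := [52, 52]
def rw51 : List Nat := [54, 54]
def rw52 : List Nat := [56, 56]
def rw53 : List Nat := [58, 58]
def rw54 : List Nat := [12, 0, 13, 1]
def rw55 : List Nat := [12, 2, 13, 3]
def rw56 : List Nat := [12, 4, 13, 5]
def rw57 : List Nat := [12, 6, 13, 7]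
def rw58 : List Nat := [12, 8, 13, 9]
def rw59 : List Nat := [12, 10, 13, 11]
def rw60 : List Nat := [14, 0, 15, 1]
def rw61 : List Nat := [14, 2, 15, 3]
def rw62 : List Nat := [14, 4, 15, 5]
def rw63 : List Nat := [14, 6, 15, 7]
def rw64 : List Nat := [14, 8, 15, 9]
def rw65 : List Nat := [14, 10, 15, 11]
def rw66 : List Nat := [16, 0, 17, 1]
def rw67 : List Nat := [16, 2, 17, 3]
def rw68 : List Nat := [16, 4, 17, 5]
def rw69 : List Nat := [16, 6, 17, 7]
def rw70 : List Nat := [16, 8, 17, 9]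
def rw71 : List Nat := [16, 10, 17, 11]
def rw72 : List Nat := [18, 0, 19, 1]
def rw73 : List Nat := [18, 2, 19, 3]
def rw74 : List Nat := [18, 4, 19, 5]
def rw75 : List Nat := [18, 6, 19, 7]
def rw76 : List Nat := [18, 8, 19, 9]
def rw77 : List Nat := [18, 10, 19, 11]
def rw78 : List Nat := [20, 0, 21, 1]
def rw79 : List Nat := [20, 2, 21, 3]
def rw80 : List Nat := [20, 4, 21, 5]
def rw81 : List Nat := [20, 6, 21, 7]
def rw82 : List Nat := [20, 8, 21, 9]
def rw83 : List Nat := [20, 10, 21, 11]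
def rw84 : List Nat := [22, 0, 23, 1]
def rw85 : List Nat := [22, 2, 23, 3]
def rw86 : List Nat := [22, 4, 23, 5]
def rw87 : List Nat := [22, 6, 23, 7]
def rw88 : List Nat := [22, 8, 23, 9]
def rw89 : List Nat := [22, 10, 23, 11]
def rw90 : List Nat := [24, 0, 25, 1]
def rw91 : List Nat := [24, 2, 25, 3]
def rw92 : List Nat := [24, 4, 25, 5]
def rw93 : List Nat := [24, 6, 25, 7]
def rw94 : List Nat := [24, 8, 25, 9]
def rw95 : List Nat := [24, 10, 25, 11]
def rw96 : List Nat := [26, 0, 27, 1]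
def rw97 : List Nat := [26, 2, 27, 3]
def rw98 : List Nat := [26, 4, 27, 5]
def rw99 : List Nat := [26, 6, 27, 7]
def rw100 : List Nat := [26, 8, 27, 9]
def rw101 : List Nat := [26, 10, 27, 11]
def rw102 : List Nat := [28, 0, 29, 1]
def rw103 : List Nat := [28, 2, 29, 3]
def rw104 : List Nat := [28, 4, 29, 5]
def rw105 : List Nat := [28, 6, 29, 7]
def rw106 : List Nat := [28, 8, 29, 9]
def rw107 : List Nat := [28, 10, 29, 11]
def rw108 : List Nat := [30, 0, 31, 1]
def rw109 : List Nat := [30, 2, 31, 3]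
def rw110 : List Nat := [30, 4, 31, 5]
def rw111 : List Nat := [30, 6, 31, 7]
def rw112 : List Nat := [30, 8, 31, 9]
def rw113 : List Nat := [30, 10, 31, 11]
def rw114 : List Nat := [32, 0, 33, 1]
def rw115 : List Nat := [32, 2, 33, 3]
def rw116 : List Nat := [32, 4, 33, 5]
def rw117 : List Nat := [32, 6, 33, 7]
def rw118 : List Nat := [32, 8, 33, 9]
def rw119 : List Nat := [32, 10, 33, 11]
def rw120 : List Nat := [34, 0, 35, 1]
def rw121 : List Nat := [34, 2, 35, 3]
def rw122 : List Nat := [34, 4, 35, 5]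
def rw123 : List Nat := [34, 6, 35, 7]
def rw124 : List Nat := [34, 8, 35, 9]
def rw125 : List Nat := [34, 10, 35, 11]
def rw126 : List Nat := [36, 0, 37, 1]
def rw127 : List Nat := [36, 2, 37, 3]
def rw128 : List Nat := [36, 4, 37, 5]
def rw129 : List Nat := [36, 6, 37, 7]
def rw130 : List Nat := [36, 8, 37, 9]
def rw131 : List Nat := [36, 10, 37, 11]
def rw132 : List Nat := [38, 0, 39, 1]
def rw133 : List Nat := [38, 2, 39, 3]
def rw134 : List Nat := [38, 4, 39, 5]
def rw135 : List Nat := [38, 6, 39, 7]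
def rw136 : List Nat := [38, 8, 39, 9]
def rw137 : List Nat := [38, 10, 39, 11]
def rw138 : List Nat := [40, 0, 41, 1]
def rw139 : List Nat := [40, 2, 41, 3]
def rw140 : List Nat := [40, 4, 41, 5]
def rw141 : List Nat := [40, 6, 41, 7]
def rw142 : List Nat := [40, 8, 41, 9]
def rw143 : List Nat := [40, 10, 41, 11]
def rw144 : List Nat := [42, 0, 43, 1]
def rw145 : List Nat := [42, 2, 43, 3]
def rw146 : List Nat := [42, 4, 43, 5]
def rw147 : List Nat := [42, 6, 43, 7]
def rw148 : List Nat := [42, 8, 43, 9]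
def rw149 : List Nat := [42, 10, 43, 11]
def rw150 : List Nat := [44, 0, 45, 1]
def rw151 : List Nat := [44, 2, 45, 3]
def rw152 : List Nat := [44, 4, 45, 5]
def rw153 : List Nat := [44, 6, 45, 7]
def rw154 : List Nat := [44, 8, 45, 9]
def rw155 : List Nat := [44, 10, 45, 11]
def rw156 : List Nat := [46, 0, 47, 1]
def rw157 : List Nat := [46, 2, 47, 3]
def rw158 : List Nat := [46, 4, 47, 5]
def rw159 : List Nat := [46, 6, 47, 7]
def rw160 : List Nat := [46, 8, 47, 9]
def rw161 : List Nat := [46, 10, 47, 11]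
def rw162 : List Nat := [48, 0, 49, 1]
def rw163 : List Nat := [48, 2, 49, 3]
def rw164 : List Nat := [48, 4, 49, 5]
def rw165 : List Nat := [48, 6, 49, 7]
def rw166 : List Nat := [48, 8, 49, 9]
def rw167 : List Nat := [48, 10, 49, 11]
def rw168 : List Nat := [50, 0, 51, 1]
def rw169 : List Nat := [50, 2, 51, 3]
def rw170 : List Nat := [50, 4, 51, 5]
def rw171 : List Nat := [50, 6, 51, 7]
def rw172 : List Nat := [50, 8, 51, 9]
def rw173 : List Nat := [50, 10, 51, 11]
def rw174 : List Nat := [52, 0, 53, 1]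
def rw175 : List Nat := [52, 2, 53, 3]
def rw176 : List Nat := [52, 4, 53, 5]
def rw177 : List Nat := [52, 6, 53, 7]
def rw178 : List Nat := [52, 8, 53, 9]
def rw179 : List Nat := [52, 10, 53, 11]
def rw180 : List Nat := [54, 0, 55, 1]
def rw181 : List Nat := [54, 2, 55, 3]
def rw182 : List Nat := [54, 4, 55, 5]
def rw183 : List Nat := [54, 6, 55, 7]
def rw184 : List Nat := [54, 8, 55, 9]
def rw185 : List Nat := [54, 10, 55, 11]
def rw186 : List Nat := [56, 0, 57, 1]
def rw187 : List Nat := [56, 2, 57, 3]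
def rw188 : List Nat := [56, 4, 57, 5]
def rw189 : List Nat := [56, 6, 57, 7]
def rw190 : List Nat := [56, 8, 57, 9]
def rw191 : List Nat := [56, 10, 57, 11]
def rw192 : List Nat := [58, 0, 59, 1]
def rw193 : List Nat := [58, 2, 59, 3]
def rw194 : List Nat := [58, 4, 59, 5]
def rw195 : List Nat := [58, 6, 59, 7]
def rw196 : List Nat := [58, 8, 59, 9]
def rw197 : List Nat := [58, 10, 59, 11]
def rw198 : List Nat := [0, 0, 0, 0, 0, 0, 0]
def rw199 : List Nat := [0, 0, 2, 1, 2, 0, 3, 0, 2, 1, 2]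
def rw200 : List Nat := [0, 0, 0, 2, 0, 0, 0, 2, 0, 0, 0, 2]
def rw201 : List Nat := [0, 0, 2, 2, 0, 0, 3, 3, 0, 0, 3, 3]
def rw202 : List Nat := [4, 4, 4]
def rw203 : List Nat := [0, 0, 4, 1, 1, 3, 4, 2]
def rw204 : List Nat := [0, 2, 4, 0, 2, 4, 0, 2, 4]
def rw205 : List Nat := [0, 2, 2, 1, 4, 0, 3, 3, 1, 4]
def rw206 : List Nat := [0, 4, 1, 4, 1, 2, 4, 3, 0, 5]
def rw207 : List Nat := [0, 0, 3, 0, 4, 1, 2, 1, 1, 2, 0, 5, 1, 3]
def realLit : List (List Nat) := [rw0, rw1, rw2, rw3, rw4, rw5, rw6, rw7, rw8, rw9, rw10, rw11, rw12, rw13, rw14, rw15, rw16, rw17, rw18, rw19, rw20, rw21, rw22, rw23, rw24, rw25, rw26, rw27, rw28, rw29, rw30, rw31, rw32, rw33, rw34, rw35, rw36, rw37, rw38, rw39, rw40, rw41, rw42, rw43, rw44, rw45, rw46, rw47, rw48, rw49, rw50, rw51, rw52, rw53, rw54, rw55, rw56, rw57, rw58, rw59, rw60, rw61, rw62, rw63, rw64, rw65, rw66, rw67, rw68, rw69, rw70, rw71, rw72, rw73, rw74, rw75, rw76, rw77, rw78, rw79, rw80, rw81, rw82,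 rw83, rw84, rw85, rw86, rw87, rw88, rw89, rw90, rw91, rw92, rw93, rw94, rw95, rw96, rw97, rw98, rw99, rw100, rw101, rw102, rw103, rw104, rw105, rw106, rw107, rw108, rw109, rw110, rw111, rw112, rw113, rw114, rw115, rw116, rw117, rw118, rw119, rw120, rw121, rw122, rw123, rw124, rw125, rw126, rw127, rw128, rw129, rw130, rw131, rw132, rw133, rw134, rw135, rw136, rw137, rw138, rw139, rw140, rw141, rw142, rw143, rw144, rw145, rw146, rw147, rw148, rw149, rw150, rw151, rw152, rw153, rw154, rw155, rw156, rw157, rw158, rw159, rw160, rw161, rw162, rw163, rw164, rw165, rw166, rw167, rw168, rw169, rw170, rw171, rw172, rw173, rw174, rw175, rw176, rw177, rw178, rw179, rw180, rw181, rw182, rw183, rw184, rw185, rw186, rw187, rw188, rw189, rw190, rw191, rw192, rw193, rw194, rw195, rw196, rw197, rw198, rw199, rw200, rw201, rw202, rw203, rw204, rw205, rw206, rw207]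
noncomputable def actR0 (i : Nat) : Nat := col1 (col1 (col1 (col1 (col1 (col1 (col1 (i)))))))
theorem actR0_eq (i : Nat) : actR0 i = Tab.act T D rw0 i := rfl
noncomputable def actR1 (i : Nat) : Nat := col3 (col3 (col3 (col3 (i))))
theorem actR1_eq (i : Nat) : actR1 i = Tab.act T D rw1 i := rfl
noncomputable def actR2 (i : Nat) : Nat := col5 (col5 (col5 (i)))
theorem actR2_eq (i : Nat) : actR2 i = Tab.act T D rw2 i := rfl
noncomputable def actR3 (i : Nat) : Nat := col7 (col7 (col7 (col7 (col7 (col7 (col7 (i)))))))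
theorem actR3_eq (i : Nat) : actR3 i = Tab.act T D rw3 i := rfl
noncomputable def actR4 (i : Nat) : Nat := col8 (col7 (col0 (i)))
theorem actR4_eq (i : Nat) : actR4 i = Tab.act T D rw4 i := rfl
noncomputable def actR5 (i : Nat) : Nat := col10 (col9 (col9 (i)))
theorem actR5_eq (i : Nat) : actR5 i = Tab.act T D rw5 i := rfl
noncomputable def actR6 (i : Nat) : Nat := col12 (col1 (col9 (col0 (col9 (col1 (col9 (col0 (col9 (col10 (i))))))))))
theorem actR6_eq (i : Nat) : actR6 i = Tab.act T D rw6 i := rfl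
noncomputable def actR7 (i : Nat) : Nat := col14 (col3 (col9 (col2 (col9 (col3 (col9 (col2 (col9 (col10 (i))))))))))
theorem actR7_eq (i : Nat) : actR7 i = Tab.act T D rw7 i := rfl
noncomputable def actR8 (i : Nat) : Nat := col16 (col1 (col1 (col3 (col1 (col9 (col0 (col2 (col0 (col0 (col9 (col10 (i))))))))))))
theorem actR8_eq (i : Nat) : actR8 i = Tab.act T D rw8 i := rfl
noncomputable def actR9 (i : Nat) : Nat := col18 (col1 (col2 (col4 (col3 (col9 (col2 (col5 (col3 (col0 (col9 (col10 (i))))))))))))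
theorem actR9_eq (i : Nat) : actR9 i = Tab.act T D rw9 i := rfl
noncomputable def actR10 (i : Nat) : Nat := col20 (col1 (col2 (col5 (col5 (col3 (col9 (col2 (col5 (col3 (col0 (col9 (col10 (i)))))))))))))
theorem actR10_eq (i : Nat) : actR10 i = Tab.act T D rw10 i := rfl
noncomputable def actR11 (i : Nat) : Nat := col22 (col1 (col1 (col1 (col5 (col0 (col0 (col9 (col2 (col5 (col3 (col0 (col9 (col10 (i))))))))))))))
theorem actR11_eq (i : Nat) : actR11 i = Tab.act T D rw11 i := rfl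
noncomputable def actR12 (i : Nat) : Nat := col24 (col1 (col1 (col3 (col1 (col9 (col0 (col3 (col3 (col3 (col0 (col0 (col9 (col10 (i))))))))))))))
theorem actR12_eq (i : Nat) : actR12 i = Tab.act T D rw12 i := rfl
noncomputable def actR13 (i : Nat) : Nat := col26 (col1 (col3 (col9 (col3 (col0 (col4 (col1 (col3 (col9 (col3 (col0 (col4 (i)))))))))))))
theorem actR13_eq (i : Nat) : actR13 i = Tab.act T D rw13 i := rfl
noncomputable def actR14 (i : Nat) : Nat := col28 (col1 (col3 (col9 (col2 (col0 (col5 (col1 (col2 (col9 (col3 (col0 (col4 (i)))))))))))))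
theorem actR14_eq (i : Nat) : actR14 i = Tab.act T D rw14 i := rfl
noncomputable def actR15 (i : Nat) : Nat := col30 (col1 (col3 (col9 (col2 (col0 (col5 (col1 (col2 (col9 (col3 (col0 (col5 (col5 (i))))))))))))))
theorem actR15_eq (i : Nat) : actR15 i = Tab.act T D rw15 i := rfl
noncomputable def actR16 (i : Nat) : Nat := col32 (col1 (col1 (col5 (col0 (col3 (col0 (col9 (col1 (col2 (col0 (col2 (col5 (col3 (col9 (col10 (i))))))))))))))))
theorem actR16_eq (i : Nat) : actR16 i = Tab.act T D rw16 i := rfl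
noncomputable def actR17 (i : Nat) : Nat := col34 (col1 (col3 (col3 (col1 (col4 (col1 (col9 (col0 (col5 (col0 (col3 (col3 (col0 (col9 (i)))))))))))))))
theorem actR17_eq (i : Nat) : actR17 i = Tab.act T D rw17 i := rfl
noncomputable def actR18 (i : Nat) : Nat := col36 (col1 (col3 (col0 (col4 (col1 (col9 (col0 (col5 (col1 (col2 (col0 (col2 (col9 (col3 (i)))))))))))))))
theorem actR18_eq (i : Nat) : actR18 i = Tab.act T D rw18 i := rfl
noncomputable def actR19 (i : Nat) : Nat := col38 (col1 (col1 (col2 (col1 (col9 (col0 (col3 (col0 (col0 (col5 (col2 (col9 (col3 (col4 (i)))))))))))))))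
theorem actR19_eq (i : Nat) : actR19 i = Tab.act T D rw19 i := rfl
noncomputable def actR20 (i : Nat) : Nat := col40 (col1 (col1 (col3 (col3 (col9 (col3 (col3 (col0 (col0 (col5 (col3 (col9 (col2 (col4 (col10 (i))))))))))))))))
theorem actR20_eq (i : Nat) : actR20 i = Tab.act T D rw20 i := rfl
noncomputable def actR21 (i : Nat) : Nat := col42 (col1 (col5 (col3 (col9 (col2 (col4 (col0 (col3 (col4 (col0 (col9 (col1 (col5 (col2 (col10 (i))))))))))))))))
theorem actR21_eq (i : Nat) : actR21 i = Tab.act T D rw21 i := rfl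
noncomputable def actR22 (i : Nat) : Nat := col44 (col1 (col2 (col2 (col1 (col4 (col9 (col5 (col0 (col3 (col3 (col0 (col4 (col9 (col5 (col10 (i))))))))))))))))
theorem actR22_eq (i : Nat) : actR22 i = Tab.act T D rw22 i := rfl
noncomputable def actR23 (i : Nat) : Nat := col46 (col1 (col1 (col2 (col1 (col5 (col0 (col9 (col3 (col0 (col0 (col3 (col1 (col4 (col9 (col0 (col2 (col10 (i))))))))))))))))))
theorem actR23_eq (i : Nat) : actR23 i = Tab.act T D rw23 i := rfl
noncomputable def actR24 (i : Nat) : Nat := col48 (col1 (col1 (col2 (col1 (col3 (col1 (col2 (col9 (col5 (col9 (col5 (col9 (col2 (col1 (col3 (col5 (col0 (col5 (i)))))))))))))))))))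
theorem actR24_eq (i : Nat) : actR24 i = Tab.act T D rw24 i := rfl
noncomputable def actR25 (i : Nat) : Nat := col50 (col11 (col11 (i)))
theorem actR25_eq (i : Nat) : actR25 i = Tab.act T D rw25 i := rfl
noncomputable def actR26 (i : Nat) : Nat := col52 (col10 (col0 (col11 (col1 (i)))))
theorem actR26_eq (i : Nat) : actR26 i = Tab.act T D rw26 i := rfl
noncomputable def actR27 (i : Nat) : Nat := col54 (col10 (col2 (col11 (col3 (i)))))
theorem actR27_eq (i : Nat) : actR27 i = Tab.act T D rw27 i := rfl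
noncomputable def actR28 (i : Nat) : Nat := col56 (col10 (col4 (col11 (col5 (i)))))
theorem actR28_eq (i : Nat) : actR28 i = Tab.act T D rw28 i := rfl
noncomputable def actR29 (i : Nat) : Nat := col58 (col10 (col8 (col11 (col9 (i)))))
theorem actR29_eq (i : Nat) : actR29 i = Tab.act T D rw29 i := rfl
noncomputable def actR30 (i : Nat) : Nat := col13 (col13 (i))
theorem actR30_eq (i : Nat) : actR30 i = Tab.act T D rw30 i := rfl
noncomputable def actR31 (i : Nat) : Nat := col15 (col15 (i))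
theorem actR31_eq (i : Nat) : actR31 i = Tab.act T D rw31 i := rfl
noncomputable def actR32 (i : Nat) : Nat := col17 (col17 (i))
theorem actR32_eq (i : Nat) : actR32 i = Tab.act T D rw32 i := rfl
noncomputable def actR33 (i : Nat) : Nat := col19 (col19 (i))
theorem actR33_eq (i : Nat) : actR33 i = Tab.act T D rw33 i := rfl
noncomputable def actR34 (i : Nat) : Nat := col21 (col21 (i))
theorem actR34_eq (i : Nat) : actR34 i = Tab.act T D rw34 i := rfl
noncomputable def actR35 (i : Nat) : Nat := col23 (col23 (i))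
theorem actR35_eq (i : Nat) : actR35 i = Tab.act T D rw35 i := rfl
noncomputable def actR36 (i : Nat) : Nat := col25 (col25 (i))
theorem actR36_eq (i : Nat) : actR36 i = Tab.act T D rw36 i := rfl
noncomputable def actR37 (i : Nat) : Nat := col27 (col27 (i))
theorem actR37_eq (i : Nat) : actR37 i = Tab.act T D rw37 i := rfl
noncomputable def actR38 (i : Nat) : Nat := col29 (col29 (i))
theorem actR38_eq (i : Nat) : actR38 i = Tab.act T D rw38 i := rfl
noncomputable def actR39 (i : Nat) : Nat := col31 (col31 (i))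
theorem actR39_eq (i : Nat) : actR39 i = Tab.act T D rw39 i := rfl
noncomputable def actR40 (i : Nat) : Nat := col33 (col33 (i))
theorem actR40_eq (i : Nat) : actR40 i = Tab.act T D rw40 i := rfl
noncomputable def actR41 (i : Nat) : Nat := col35 (col35 (i))
theorem actR41_eq (i : Nat) : actR41 i = Tab.act T D rw41 i := rfl
noncomputable def actR42 (i : Nat) : Nat := col37 (col37 (i))
theorem actR42_eq (i : Nat) : actR42 i = Tab.act T D rw42 i := rfl
noncomputable def actR43 (i : Nat) : Nat := col39 (col39 (i))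
theorem actR43_eq (i : Nat) : actR43 i = Tab.act T D rw43 i := rfl
noncomputable def actR44 (i : Nat) : Nat := col41 (col41 (i))
theorem actR44_eq (i : Nat) : actR44 i = Tab.act T D rw44 i := rfl
noncomputable def actR45 (i : Nat) : Nat := col43 (col43 (i))
theorem actR45_eq (i : Nat) : actR45 i = Tab.act T D rw45 i := rfl
noncomputable def actR46 (i : Nat) : Nat := col45 (col45 (i))
theorem actR46_eq (i : Nat) : actR46 i = Tab.act T D rw46 i := rfl
noncomputable def actR47 (i : Nat) : Nat := col47 (col47 (i))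
theorem actR47_eq (i : Nat) : actR47 i = Tab.act T D rw47 i := rfl
noncomputable def actR48 (i : Nat) : Nat := col49 (col49 (i))
theorem actR48_eq (i : Nat) : actR48 i = Tab.act T D rw48 i := rfl
noncomputable def actR49 (i : Nat) : Nat := col51 (col51 (i))
theorem actR49_eq (i : Nat) : actR49 i = Tab.act T D rw49 i := rfl
noncomputable def actR50 (i : Nat) : Nat := col53 (col53 (i))
theorem actR50_eq (i : Nat) : actR50 i = Tab.act T D rw50 i := rfl
noncomputable def actR51 (i : Nat) : Nat := col55 (col55 (i))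
theorem actR51_eq (i : Nat) : actR51 i = Tab.act T D rw51 i := rfl
noncomputable def actR52 (i : Nat) : Nat := col57 (col57 (i))
theorem actR52_eq (i : Nat) : actR52 i = Tab.act T D rw52 i := rfl
noncomputable def actR53 (i : Nat) : Nat := col59 (col59 (i))
theorem actR53_eq (i : Nat) : actR53 i = Tab.act T D rw53 i := rfl
noncomputable def actR54 (i : Nat) : Nat := col13 (col1 (col12 (col0 (i))))
theorem actR54_eq (i : Nat) : actR54 i = Tab.act T D rw54 i := rfl
noncomputable def actR55 (i : Nat) : Nat := col13 (col3 (col12 (col2 (i))))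
theorem actR55_eq (i : Nat) : actR55 i = Tab.act T D rw55 i := rfl
noncomputable def actR56 (i : Nat) : Nat := col13 (col5 (col12 (col4 (i))))
theorem actR56_eq (i : Nat) : actR56 i = Tab.act T D rw56 i := rfl
noncomputable def actR57 (i : Nat) : Nat := col13 (col7 (col12 (col6 (i))))
theorem actR57_eq (i : Nat) : actR57 i = Tab.act T D rw57 i := rfl
noncomputable def actR58 (i : Nat) : Nat := col13 (col9 (col12 (col8 (i))))
theorem actR58_eq (i : Nat) : actR58 i = Tab.act T D rw58 i := rfl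
noncomputable def actR59 (i : Nat) : Nat := col13 (col11 (col12 (col10 (i))))
theorem actR59_eq (i : Nat) : actR59 i = Tab.act T D rw59 i := rfl
noncomputable def actR60 (i : Nat) : Nat := col15 (col1 (col14 (col0 (i))))
theorem actR60_eq (i : Nat) : actR60 i = Tab.act T D rw60 i := rfl
noncomputable def actR61 (i : Nat) : Nat := col15 (col3 (col14 (col2 (i))))
theorem actR61_eq (i : Nat) : actR61 i = Tab.act T D rw61 i := rfl
noncomputable def actR62 (i : Nat) : Nat := col15 (col5 (col14 (col4 (i))))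
theorem actR62_eq (i : Nat) : actR62 i = Tab.act T D rw62 i := rfl
noncomputable def actR63 (i : Nat) : Nat := col15 (col7 (col14 (col6 (i))))
theorem actR63_eq (i : Nat) : actR63 i = Tab.act T D rw63 i := rfl
noncomputable def actR64 (i : Nat) : Nat := col15 (col9 (col14 (col8 (i))))
theorem actR64_eq (i : Nat) : actR64 i = Tab.act T D rw64 i := rfl
noncomputable def actR65 (i : Nat) : Nat := col15 (col11 (col14 (col10 (i))))
theorem actR65_eq (i : Nat) : actR65 i = Tab.act T D rw65 i := rfl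
noncomputable def actR66 (i : Nat) : Nat := col17 (col1 (col16 (col0 (i))))
theorem actR66_eq (i : Nat) : actR66 i = Tab.act T D rw66 i := rfl
noncomputable def actR67 (i : Nat) : Nat := col17 (col3 (col16 (col2 (i))))
theorem actR67_eq (i : Nat) : actR67 i = Tab.act T D rw67 i := rfl
noncomputable def actR68 (i : Nat) : Nat := col17 (col5 (col16 (col4 (i))))
theorem actR68_eq (i : Nat) : actR68 i = Tab.act T D rw68 i := rfl
noncomputable def actR69 (i : Nat) : Nat := col17 (col7 (col16 (col6 (i))))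
theorem actR69_eq (i : Nat) : actR69 i = Tab.act T D rw69 i := rfl
noncomputable def actR70 (i : Nat) : Nat := col17 (col9 (col16 (col8 (i))))
theorem actR70_eq (i : Nat) : actR70 i = Tab.act T D rw70 i := rfl
noncomputable def actR71 (i : Nat) : Nat := col17 (col11 (col16 (col10 (i))))
theorem actR71_eq (i : Nat) : actR71 i = Tab.act T D rw71 i := rfl
noncomputable def actR72 (i : Nat) : Nat := col19 (col1 (col18 (col0 (i))))
theorem actR72_eq (i : Nat) : actR72 i = Tab.act T D rw72 i := rfl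
noncomputable def actR73 (i : Nat) : Nat := col19 (col3 (col18 (col2 (i))))
theorem actR73_eq (i : Nat) : actR73 i = Tab.act T D rw73 i := rfl
noncomputable def actR74 (i : Nat) : Nat := col19 (col5 (col18 (col4 (i))))
theorem actR74_eq (i : Nat) : actR74 i = Tab.act T D rw74 i := rfl
noncomputable def actR75 (i : Nat) : Nat := col19 (col7 (col18 (col6 (i))))
theorem actR75_eq (i : Nat) : actR75 i = Tab.act T D rw75 i := rfl
noncomputable def actR76 (i : Nat) : Nat := col19 (col9 (col18 (col8 (i))))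
theorem actR76_eq (i : Nat) : actR76 i = Tab.act T D rw76 i := rfl
noncomputable def actR77 (i : Nat) : Nat := col19 (col11 (col18 (col10 (i))))
theorem actR77_eq (i : Nat) : actR77 i = Tab.act T D rw77 i := rfl
noncomputable def actR78 (i : Nat) : Nat := col21 (col1 (col20 (col0 (i))))
theorem actR78_eq (i : Nat) : actR78 i = Tab.act T D rw78 i := rfl
noncomputable def actR79 (i : Nat) : Nat := col21 (col3 (col20 (col2 (i))))
theorem actR79_eq (i : Nat) : actR79 i = Tab.act T D rw79 i := rfl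
noncomputable def actR80 (i : Nat) : Nat := col21 (col5 (col20 (col4 (i))))
theorem actR80_eq (i : Nat) : actR80 i = Tab.act T D rw80 i := rfl
noncomputable def actR81 (i : Nat) : Nat := col21 (col7 (col20 (col6 (i))))
theorem actR81_eq (i : Nat) : actR81 i = Tab.act T D rw81 i := rfl
noncomputable def actR82 (i : Nat) : Nat := col21 (col9 (col20 (col8 (i))))
theorem actR82_eq (i : Nat) : actR82 i = Tab.act T D rw82 i := rfl
noncomputable def actR83 (i : Nat) : Nat := col21 (col11 (col20 (col10 (i))))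
theorem actR83_eq (i : Nat) : actR83 i = Tab.act T D rw83 i := rfl
noncomputable def actR84 (i : Nat) : Nat := col23 (col1 (col22 (col0 (i))))
theorem actR84_eq (i : Nat) : actR84 i = Tab.act T D rw84 i := rfl
noncomputable def actR85 (i : Nat) : Nat := col23 (col3 (col22 (col2 (i))))
theorem actR85_eq (i : Nat) : actR85 i = Tab.act T D rw85 i := rfl
noncomputable def actR86 (i : Nat) : Nat := col23 (col5 (col22 (col4 (i))))
theorem actR86_eq (i : Nat) : actR86 i = Tab.act T D rw86 i := rfl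
noncomputable def actR87 (i : Nat) : Nat := col23 (col7 (col22 (col6 (i))))
theorem actR87_eq (i : Nat) : actR87 i = Tab.act T D rw87 i := rfl
noncomputable def actR88 (i : Nat) : Nat := col23 (col9 (col22 (col8 (i))))
theorem actR88_eq (i : Nat) : actR88 i = Tab.act T D rw88 i := rfl
noncomputable def actR89 (i : Nat) : Nat := col23 (col11 (col22 (col10 (i))))
theorem actR89_eq (i : Nat) : actR89 i = Tab.act T D rw89 i := rfl
noncomputable def actR90 (i : Nat) : Nat := col25 (col1 (col24 (col0 (i))))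
theorem actR90_eq (i : Nat) : actR90 i = Tab.act T D rw90 i := rfl
noncomputable def actR91 (i : Nat) : Nat := col25 (col3 (col24 (col2 (i))))
theorem actR91_eq (i : Nat) : actR91 i = Tab.act T D rw91 i := rfl
noncomputable def actR92 (i : Nat) : Nat := col25 (col5 (col24 (col4 (i))))
theorem actR92_eq (i : Nat) : actR92 i = Tab.act T D rw92 i := rfl
noncomputable def actR93 (i : Nat) : Nat := col25 (col7 (col24 (col6 (i))))
theorem actR93_eq (i : Nat) : actR93 i = Tab.act T D rw93 i := rfl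
noncomputable def actR94 (i : Nat) : Nat := col25 (col9 (col24 (col8 (i))))
theorem actR94_eq (i : Nat) : actR94 i = Tab.act T D rw94 i := rfl
noncomputable def actR95 (i : Nat) : Nat := col25 (col11 (col24 (col10 (i))))
theorem actR95_eq (i : Nat) : actR95 i = Tab.act T D rw95 i := rfl
noncomputable def actR96 (i : Nat) : Nat := col27 (col1 (col26 (col0 (i))))
theorem actR96_eq (i : Nat) : actR96 i = Tab.act T D rw96 i := rfl
noncomputable def actR97 (i : Nat) : Nat := col27 (col3 (col26 (col2 (i))))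
theorem actR97_eq (i : Nat) : actR97 i = Tab.act T D rw97 i := rfl
noncomputable def actR98 (i : Nat) : Nat := col27 (col5 (col26 (col4 (i))))
theorem actR98_eq (i : Nat) : actR98 i = Tab.act T D rw98 i := rfl
noncomputable def actR99 (i : Nat) : Nat := col27 (col7 (col26 (col6 (i))))
theorem actR99_eq (i : Nat) : actR99 i = Tab.act T D rw99 i := rfl
noncomputable def actR100 (i : Nat) : Nat := col27 (col9 (col26 (col8 (i))))
theorem actR100_eq (i : Nat) : actR100 i = Tab.act T D rw100 i := rfl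
noncomputable def actR101 (i : Nat) : Nat := col27 (col11 (col26 (col10 (i))))
theorem actR101_eq (i : Nat) : actR101 i = Tab.act T D rw101 i := rfl
noncomputable def actR102 (i : Nat) : Nat := col29 (col1 (col28 (col0 (i))))
theorem actR102_eq (i : Nat) : actR102 i = Tab.act T D rw102 i := rfl
noncomputable def actR103 (i : Nat) : Nat := col29 (col3 (col28 (col2 (i))))
theorem actR103_eq (i : Nat) : actR103 i = Tab.act T D rw103 i := rfl
noncomputable def actR104 (i : Nat) : Nat := col29 (col5 (col28 (col4 (i))))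
theorem actR104_eq (i : Nat) : actR104 i = Tab.act T D rw104 i := rfl
noncomputable def actR105 (i : Nat) : Nat := col29 (col7 (col28 (col6 (i))))
theorem actR105_eq (i : Nat) : actR105 i = Tab.act T D rw105 i := rfl
noncomputable def actR106 (i : Nat) : Nat := col29 (col9 (col28 (col8 (i))))
theorem actR106_eq (i : Nat) : actR106 i = Tab.act T D rw106 i := rfl
noncomputable def actR107 (i : Nat) : Nat := col29 (col11 (col28 (col10 (i))))
theorem actR107_eq (i : Nat) : actR107 i = Tab.act T D rw107 i := rfl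
noncomputable def actR108 (i : Nat) : Nat := col31 (col1 (col30 (col0 (i))))
theorem actR108_eq (i : Nat) : actR108 i = Tab.act T D rw108 i := rfl
noncomputable def actR109 (i : Nat) : Nat := col31 (col3 (col30 (col2 (i))))
theorem actR109_eq (i : Nat) : actR109 i = Tab.act T D rw109 i := rfl
noncomputable def actR110 (i : Nat) : Nat := col31 (col5 (col30 (col4 (i))))
theorem actR110_eq (i : Nat) : actR110 i = Tab.act T D rw110 i := rfl
noncomputable def actR111 (i : Nat) : Nat := col31 (col7 (col30 (col6 (i))))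
theorem actR111_eq (i : Nat) : actR111 i = Tab.act T D rw111 i := rfl
noncomputable def actR112 (i : Nat) : Nat := col31 (col9 (col30 (col8 (i))))
theorem actR112_eq (i : Nat) : actR112 i = Tab.act T D rw112 i := rfl
noncomputable def actR113 (i : Nat) : Nat := col31 (col11 (col30 (col10 (i))))
theorem actR113_eq (i : Nat) : actR113 i = Tab.act T D rw113 i := rfl
noncomputable def actR114 (i : Nat) : Nat := col33 (col1 (col32 (col0 (i))))
theorem actR114_eq (i : Nat) : actR114 i = Tab.act T D rw114 i := rfl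
noncomputable def actR115 (i : Nat) : Nat := col33 (col3 (col32 (col2 (i))))
theorem actR115_eq (i : Nat) : actR115 i = Tab.act T D rw115 i := rfl
noncomputable def actR116 (i : Nat) : Nat := col33 (col5 (col32 (col4 (i))))
theorem actR116_eq (i : Nat) : actR116 i = Tab.act T D rw116 i := rfl
noncomputable def actR117 (i : Nat) : Nat := col33 (col7 (col32 (col6 (i))))
theorem actR117_eq (i : Nat) : actR117 i = Tab.act T D rw117 i := rfl
noncomputable def actR118 (i : Nat) : Nat := col33 (col9 (col32 (col8 (i))))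
theorem actR118_eq (i : Nat) : actR118 i = Tab.act T D rw118 i := rfl
noncomputable def actR119 (i : Nat) : Nat := col33 (col11 (col32 (col10 (i))))
theorem actR119_eq (i : Nat) : actR119 i = Tab.act T D rw119 i := rfl
noncomputable def actR120 (i : Nat) : Nat := col35 (col1 (col34 (col0 (i))))
theorem actR120_eq (i : Nat) : actR120 i = Tab.act T D rw120 i := rfl
noncomputable def actR121 (i : Nat) : Nat := col35 (col3 (col34 (col2 (i))))
theorem actR121_eq (i : Nat) : actR121 i = Tab.act T D rw121 i := rfl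
noncomputable def actR122 (i : Nat) : Nat := col35 (col5 (col34 (col4 (i))))
theorem actR122_eq (i : Nat) : actR122 i = Tab.act T D rw122 i := rfl
noncomputable def actR123 (i : Nat) : Nat := col35 (col7 (col34 (col6 (i))))
theorem actR123_eq (i : Nat) : actR123 i = Tab.act T D rw123 i := rfl
noncomputable def actR124 (i : Nat) : Nat := col35 (col9 (col34 (col8 (i))))
theorem actR124_eq (i : Nat) : actR124 i = Tab.act T D rw124 i := rfl
noncomputable def actR125 (i : Nat) : Nat := col35 (col11 (col34 (col10 (i))))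
theorem actR125_eq (i : Nat) : actR125 i = Tab.act T D rw125 i := rfl
noncomputable def actR126 (i : Nat) : Nat := col37 (col1 (col36 (col0 (i))))
theorem actR126_eq (i : Nat) : actR126 i = Tab.act T D rw126 i := rfl
noncomputable def actR127 (i : Nat) : Nat := col37 (col3 (col36 (col2 (i))))
theorem actR127_eq (i : Nat) : actR127 i = Tab.act T D rw127 i := rfl
noncomputable def actR128 (i : Nat) : Nat := col37 (col5 (col36 (col4 (i))))
theorem actR128_eq (i : Nat) : actR128 i = Tab.act T D rw128 i := rfl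
noncomputable def actR129 (i : Nat) : Nat := col37 (col7 (col36 (col6 (i))))
theorem actR129_eq (i : Nat) : actR129 i = Tab.act T D rw129 i := rfl
noncomputable def actR130 (i : Nat) : Nat := col37 (col9 (col36 (col8 (i))))
theorem actR130_eq (i : Nat) : actR130 i = Tab.act T D rw130 i := rfl
noncomputable def actR131 (i : Nat) : Nat := col37 (col11 (col36 (col10 (i))))
theorem actR131_eq (i : Nat) : actR131 i = Tab.act T D rw131 i := rfl
noncomputable def actR132 (i : Nat) : Nat := col39 (col1 (col38 (col0 (i))))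
theorem actR132_eq (i : Nat) : actR132 i = Tab.act T D rw132 i := rfl
noncomputable def actR133 (i : Nat) : Nat := col39 (col3 (col38 (col2 (i))))
theorem actR133_eq (i : Nat) : actR133 i = Tab.act T D rw133 i := rfl
noncomputable def actR134 (i : Nat) : Nat := col39 (col5 (col38 (col4 (i))))
theorem actR134_eq (i : Nat) : actR134 i = Tab.act T D rw134 i := rfl
noncomputable def actR135 (i : Nat) : Nat := col39 (col7 (col38 (col6 (i))))
theorem actR135_eq (i : Nat) : actR135 i = Tab.act T D rw135 i := rfl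
noncomputable def actR136 (i : Nat) : Nat := col39 (col9 (col38 (col8 (i))))
theorem actR136_eq (i : Nat) : actR136 i = Tab.act T D rw136 i := rfl
noncomputable def actR137 (i : Nat) : Nat := col39 (col11 (col38 (col10 (i))))
theorem actR137_eq (i : Nat) : actR137 i = Tab.act T D rw137 i := rfl
noncomputable def actR138 (i : Nat) : Nat := col41 (col1 (col40 (col0 (i))))
theorem actR138_eq (i : Nat) : actR138 i = Tab.act T D rw138 i := rfl
noncomputable def actR139 (i : Nat) : Nat := col41 (col3 (col40 (col2 (i))))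
theorem actR139_eq (i : Nat) : actR139 i = Tab.act T D rw139 i := rfl
noncomputable def actR140 (i : Nat) : Nat := col41 (col5 (col40 (col4 (i))))
theorem actR140_eq (i : Nat) : actR140 i = Tab.act T D rw140 i := rfl
noncomputable def actR141 (i : Nat) : Nat := col41 (col7 (col40 (col6 (i))))
theorem actR141_eq (i : Nat) : actR141 i = Tab.act T D rw141 i := rfl
noncomputable def actR142 (i : Nat) : Nat := col41 (col9 (col40 (col8 (i))))
theorem actR142_eq (i : Nat) : actR142 i = Tab.act T D rw142 i := rfl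
noncomputable def actR143 (i : Nat) : Nat := col41 (col11 (col40 (col10 (i))))
theorem actR143_eq (i : Nat) : actR143 i = Tab.act T D rw143 i := rfl
noncomputable def actR144 (i : Nat) : Nat := col43 (col1 (col42 (col0 (i))))
theorem actR144_eq (i : Nat) : actR144 i = Tab.act T D rw144 i := rfl
noncomputable def actR145 (i : Nat) : Nat := col43 (col3 (col42 (col2 (i))))
theorem actR145_eq (i : Nat) : actR145 i = Tab.act T D rw145 i := rfl
noncomputable def actR146 (i : Nat) : Nat := col43 (col5 (col42 (col4 (i))))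
theorem actR146_eq (i : Nat) : actR146 i = Tab.act T D rw146 i := rfl
noncomputable def actR147 (i : Nat) : Nat := col43 (col7 (col42 (col6 (i))))
theorem actR147_eq (i : Nat) : actR147 i = Tab.act T D rw147 i := rfl
noncomputable def actR148 (i : Nat) : Nat := col43 (col9 (col42 (col8 (i))))
theorem actR148_eq (i : Nat) : actR148 i = Tab.act T D rw148 i := rfl
noncomputable def actR149 (i : Nat) : Nat := col43 (col11 (col42 (col10 (i))))
theorem actR149_eq (i : Nat) : actR149 i = Tab.act T D rw149 i := rfl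
noncomputable def actR150 (i : Nat) : Nat := col45 (col1 (col44 (col0 (i))))
theorem actR150_eq (i : Nat) : actR150 i = Tab.act T D rw150 i := rfl
noncomputable def actR151 (i : Nat) : Nat := col45 (col3 (col44 (col2 (i))))
theorem actR151_eq (i : Nat) : actR151 i = Tab.act T D rw151 i := rfl
noncomputable def actR152 (i : Nat) : Nat := col45 (col5 (col44 (col4 (i))))
theorem actR152_eq (i : Nat) : actR152 i = Tab.act T D rw152 i := rfl
noncomputable def actR153 (i : Nat) : Nat := col45 (col7 (col44 (col6 (i))))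
theorem actR153_eq (i : Nat) : actR153 i = Tab.act T D rw153 i := rfl
noncomputable def actR154 (i : Nat) : Nat := col45 (col9 (col44 (col8 (i))))
theorem actR154_eq (i : Nat) : actR154 i = Tab.act T D rw154 i := rfl
noncomputable def actR155 (i : Nat) : Nat := col45 (col11 (col44 (col10 (i))))
theorem actR155_eq (i : Nat) : actR155 i = Tab.act T D rw155 i := rfl
noncomputable def actR156 (i : Nat) : Nat := col47 (col1 (col46 (col0 (i))))
theorem actR156_eq (i : Nat) : actR156 i = Tab.act T D rw156 i := rfl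
noncomputable def actR157 (i : Nat) : Nat := col47 (col3 (col46 (col2 (i))))
theorem actR157_eq (i : Nat) : actR157 i = Tab.act T D rw157 i := rfl
noncomputable def actR158 (i : Nat) : Nat := col47 (col5 (col46 (col4 (i))))
theorem actR158_eq (i : Nat) : actR158 i = Tab.act T D rw158 i := rfl
noncomputable def actR159 (i : Nat) : Nat := col47 (col7 (col46 (col6 (i))))
theorem actR159_eq (i : Nat) : actR159 i = Tab.act T D rw159 i := rfl
noncomputable def actR160 (i : Nat) : Nat := col47 (col9 (col46 (col8 (i))))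
theorem actR160_eq (i : Nat) : actR160 i = Tab.act T D rw160 i := rfl
noncomputable def actR161 (i : Nat) : Nat := col47 (col11 (col46 (col10 (i))))
theorem actR161_eq (i : Nat) : actR161 i = Tab.act T D rw161 i := rfl
noncomputable def actR162 (i : Nat) : Nat := col49 (col1 (col48 (col0 (i))))
theorem actR162_eq (i : Nat) : actR162 i = Tab.act T D rw162 i := rfl
noncomputable def actR163 (i : Nat) : Nat := col49 (col3 (col48 (col2 (i))))
theorem actR163_eq (i : Nat) : actR163 i = Tab.act T D rw163 i := rfl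
noncomputable def actR164 (i : Nat) : Nat := col49 (col5 (col48 (col4 (i))))
theorem actR164_eq (i : Nat) : actR164 i = Tab.act T D rw164 i := rfl
noncomputable def actR165 (i : Nat) : Nat := col49 (col7 (col48 (col6 (i))))
theorem actR165_eq (i : Nat) : actR165 i = Tab.act T D rw165 i := rfl
noncomputable def actR166 (i : Nat) : Nat := col49 (col9 (col48 (col8 (i))))
theorem actR166_eq (i : Nat) : actR166 i = Tab.act T D rw166 i := rfl
noncomputable def actR167 (i : Nat) : Nat := col49 (col11 (col48 (col10 (i))))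
theorem actR167_eq (i : Nat) : actR167 i = Tab.act T D rw167 i := rfl
noncomputable def actR168 (i : Nat) : Nat := col51 (col1 (col50 (col0 (i))))
theorem actR168_eq (i : Nat) : actR168 i = Tab.act T D rw168 i := rfl
noncomputable def actR169 (i : Nat) : Nat := col51 (col3 (col50 (col2 (i))))
theorem actR169_eq (i : Nat) : actR169 i = Tab.act T D rw169 i := rfl
noncomputable def actR170 (i : Nat) : Nat := col51 (col5 (col50 (col4 (i))))
theorem actR170_eq (i : Nat) : actR170 i = Tab.act T D rw170 i := rfl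
noncomputable def actR171 (i : Nat) : Nat := col51 (col7 (col50 (col6 (i))))
theorem actR171_eq (i : Nat) : actR171 i = Tab.act T D rw171 i := rfl
noncomputable def actR172 (i : Nat) : Nat := col51 (col9 (col50 (col8 (i))))
theorem actR172_eq (i : Nat) : actR172 i = Tab.act T D rw172 i := rfl
noncomputable def actR173 (i : Nat) : Nat := col51 (col11 (col50 (col10 (i))))
theorem actR173_eq (i : Nat) : actR173 i = Tab.act T D rw173 i := rfl
noncomputable def actR174 (i : Nat) : Nat := col53 (col1 (col52 (col0 (i))))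
theorem actR174_eq (i : Nat) : actR174 i = Tab.act T D rw174 i := rfl
noncomputable def actR175 (i : Nat) : Nat := col53 (col3 (col52 (col2 (i))))
theorem actR175_eq (i : Nat) : actR175 i = Tab.act T D rw175 i := rfl
noncomputable def actR176 (i : Nat) : Nat := col53 (col5 (col52 (col4 (i))))
theorem actR176_eq (i : Nat) : actR176 i = Tab.act T D rw176 i := rfl
noncomputable def actR177 (i : Nat) : Nat := col53 (col7 (col52 (col6 (i))))
theorem actR177_eq (i : Nat) : actR177 i = Tab.act T D rw177 i := rfl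
noncomputable def actR178 (i : Nat) : Nat := col53 (col9 (col52 (col8 (i))))
theorem actR178_eq (i : Nat) : actR178 i = Tab.act T D rw178 i := rfl
noncomputable def actR179 (i : Nat) : Nat := col53 (col11 (col52 (col10 (i))))
theorem actR179_eq (i : Nat) : actR179 i = Tab.act T D rw179 i := rfl
noncomputable def actR180 (i : Nat) : Nat := col55 (col1 (col54 (col0 (i))))
theorem actR180_eq (i : Nat) : actR180 i = Tab.act T D rw180 i := rfl
noncomputable def actR181 (i : Nat) : Nat := col55 (col3 (col54 (col2 (i))))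
theorem actR181_eq (i : Nat) : actR181 i = Tab.act T D rw181 i := rfl
noncomputable def actR182 (i : Nat) : Nat := col55 (col5 (col54 (col4 (i))))
theorem actR182_eq (i : Nat) : actR182 i = Tab.act T D rw182 i := rfl
noncomputable def actR183 (i : Nat) : Nat := col55 (col7 (col54 (col6 (i))))
theorem actR183_eq (i : Nat) : actR183 i = Tab.act T D rw183 i := rfl
noncomputable def actR184 (i : Nat) : Nat := col55 (col9 (col54 (col8 (i))))
theorem actR184_eq (i : Nat) : actR184 i = Tab.act T D rw184 i := rfl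
noncomputable def actR185 (i : Nat) : Nat := col55 (col11 (col54 (col10 (i))))
theorem actR185_eq (i : Nat) : actR185 i = Tab.act T D rw185 i := rfl
noncomputable def actR186 (i : Nat) : Nat := col57 (col1 (col56 (col0 (i))))
theorem actR186_eq (i : Nat) : actR186 i = Tab.act T D rw186 i := rfl
noncomputable def actR187 (i : Nat) : Nat := col57 (col3 (col56 (col2 (i))))
theorem actR187_eq (i : Nat) : actR187 i = Tab.act T D rw187 i := rfl
noncomputable def actR188 (i : Nat) : Nat := col57 (col5 (col56 (col4 (i))))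
theorem actR188_eq (i : Nat) : actR188 i = Tab.act T D rw188 i := rfl
noncomputable def actR189 (i : Nat) : Nat := col57 (col7 (col56 (col6 (i))))
theorem actR189_eq (i : Nat) : actR189 i = Tab.act T D rw189 i := rfl
noncomputable def actR190 (i : Nat) : Nat := col57 (col9 (col56 (col8 (i))))
theorem actR190_eq (i : Nat) : actR190 i = Tab.act T D rw190 i := rfl
noncomputable def actR191 (i : Nat) : Nat := col57 (col11 (col56 (col10 (i))))
theorem actR191_eq (i : Nat) : actR191 i = Tab.act T D rw191 i := rfl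
noncomputable def actR192 (i : Nat) : Nat := col59 (col1 (col58 (col0 (i))))
theorem actR192_eq (i : Nat) : actR192 i = Tab.act T D rw192 i := rfl
noncomputable def actR193 (i : Nat) : Nat := col59 (col3 (col58 (col2 (i))))
theorem actR193_eq (i : Nat) : actR193 i = Tab.act T D rw193 i := rfl
noncomputable def actR194 (i : Nat) : Nat := col59 (col5 (col58 (col4 (i))))
theorem actR194_eq (i : Nat) : actR194 i = Tab.act T D rw194 i := rfl
noncomputable def actR195 (i : Nat) : Nat := col59 (col7 (col58 (col6 (i))))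
theorem actR195_eq (i : Nat) : actR195 i = Tab.act T D rw195 i := rfl
noncomputable def actR196 (i : Nat) : Nat := col59 (col9 (col58 (col8 (i))))
theorem actR196_eq (i : Nat) : actR196 i = Tab.act T D rw196 i := rfl
noncomputable def actR197 (i : Nat) : Nat := col59 (col11 (col58 (col10 (i))))
theorem actR197_eq (i : Nat) : actR197 i = Tab.act T D rw197 i := rfl
noncomputable def actR198 (i : Nat) : Nat := col1 (col1 (col1 (col1 (col1 (col1 (col1 (i)))))))
theorem actR198_eq (i : Nat) : actR198 i = Tab.act T D rw198 i := rfl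
noncomputable def actR199 (i : Nat) : Nat := col1 (col1 (col3 (col0 (col3 (col1 (col2 (col1 (col3 (col0 (col3 (i)))))))))))
theorem actR199_eq (i : Nat) : actR199 i = Tab.act T D rw199 i := rfl
noncomputable def actR200 (i : Nat) : Nat := col1 (col1 (col1 (col3 (col1 (col1 (col1 (col3 (col1 (col1 (col1 (col3 (i))))))))))))
theorem actR200_eq (i : Nat) : actR200 i = Tab.act T D rw200 i := rfl
noncomputable def actR201 (i : Nat) : Nat := col1 (col1 (col3 (col3 (col1 (col1 (col2 (col2 (col1 (col1 (col2 (col2 (i))))))))))))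
theorem actR201_eq (i : Nat) : actR201 i = Tab.act T D rw201 i := rfl
noncomputable def actR202 (i : Nat) : Nat := col5 (col5 (col5 (i)))
theorem actR202_eq (i : Nat) : actR202 i = Tab.act T D rw202 i := rfl
noncomputable def actR203 (i : Nat) : Nat := col1 (col1 (col5 (col0 (col0 (col2 (col5 (col3 (i))))))))
theorem actR203_eq (i : Nat) : actR203 i = Tab.act T D rw203 i := rfl
noncomputable def actR204 (i : Nat) : Nat := col1 (col3 (col5 (col1 (col3 (col5 (col1 (col3 (col5 (i)))))))))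
theorem actR204_eq (i : Nat) : actR204 i = Tab.act T D rw204 i := rfl
noncomputable def actR205 (i : Nat) : Nat := col1 (col3 (col3 (col0 (col5 (col1 (col2 (col2 (col0 (col5 (i))))))))))
theorem actR205_eq (i : Nat) : actR205 i = Tab.act T D rw205 i := rfl
noncomputable def actR206 (i : Nat) : Nat := col1 (col5 (col0 (col5 (col0 (col3 (col5 (col2 (col1 (col4 (i))))))))))
theorem actR206_eq (i : Nat) : actR206 i = Tab.act T D rw206 i := rfl
noncomputable def actR207 (i : Nat) : Nat := col1 (col1 (col2 (col1 (col5 (col0 (col3 (col0 (col0 (col3 (col1 (col4 (col0 (col2 (i))))))))))))))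
theorem actR207_eq (i : Nat) : actR207 i = Tab.act T D rw207 i := rfl

end Cfsg.Agent.Lib.Helper4.TCD.SC2O73p2A
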