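import Cfsg.Agent.Lib.Helper4.TCD_SC2O73p2A_Acc

namespace Cfsg.Agent.Lib.Helper4.TCD.SC2O73p2A

open Cfsg.Agent.Lib.Helper4.TC

set_option maxRecDepth 100000
set_option Elab.async false

theorem c_zero : D.zeroOK = true := by decide +kernel
theorem c_base : allBelow D.baseOK 6 = true := by decide +kernel
theorem c_let : allBelow D.letOK 60 = true := by decide +kernel
theorem c_cls0 : T.cls 0 = 0 := by decide +kernel
theorem c_name0 : T.nameOf 0 = 0 := by decide +kernel
theorem c_tab : D.relTabOK 0 (baseRels 60 PSC2O73p2.invR PSC2O73p2.P.real subs ++ (baseRels 60 PSC2O73p2.invR PSC2O73p2.P.real subs).map (invWord D.inv)) = true := by decide +kernel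
theorem c_real : PSC2O73p2.P.real = realLit := by decide +kernel
theorem c_subfix : subs.all (fun u => Nat.beq (Tab.act T D u 0) 0) = true := by decide +kernel
theorem c_subs : subs.all (fun u => u.all (fun x => Nat.ble (Nat.succ x) 60)) = true := by decide +kernel
theorem c_names_0 : allRange D.nameOK 1 19109 = true := by decide +kernel
theorem c_cls_0 : allRange (T.clsOK D) 1 15000 = true := by decide +kernel
theorem c_cls_1 : allRange (T.clsOK D) 15001 4109 = true := by decide +kernel
theorem c_rep_0 : allRange (T.repOK D) 0 2160 = true := by decide +kernel
theorem c_rel_0 : allRange D.relOK 19116 3736 = true := by decide +kernel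
theorem c_rel_1 : allRange D.relOK 22852 3658 = true := by decide +kernel
theorem c_rel_2 : allRange D.relOK 26510 3789 = true := by decide +kernel
theorem c_rel_3 : allRange D.relOK 30299 3662 = true := by decide +kernel
theorem c_rel_4 : allRange D.relOK 33961 3756 = true := by decide +kernel
theorem c_rel_5 : allRange D.relOK 37717 3530 = true := by decide +kernel
theorem c_rel_6 : allRange D.relOK 41247 3554 = true := by decide +kernel
theorem c_rel_7 : allRange D.relOK 44801 3645 = true := by decide +kernel
theorem c_rel_8 : allRange D.relOK 48446 3605 = true := by decide +kernel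
theorem c_rel_9 : allRange D.relOK 52051 3685 = true := by decide +kernel
theorem c_rel_10 : allRange D.relOK 55736 3644 = true := by decide +kernel
theorem c_rel_11 : allRange D.relOK 59380 3571 = true := by decide +kernel
theorem c_rel_12 : allRange D.relOK 62951 3717 = true := by decide +kernel
theorem c_rel_13 : allRange D.relOK 66668 3711 = true := by decide +kernel
theorem c_rel_14 : allRange D.relOK 70379 3682 = true := by decide +kernel
theorem c_rel_15 : allRange D.relOK 74061 3665 = true := by decide +kernel
theorem c_rel_16 : allRange D.relOK 77726 3615 = true := by decide +kernel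
theorem c_rel_17 : allRange D.relOK 81341 3339 = true := by decide +kernel
theorem c_rel_18 : allRange D.relOK 84680 3240 = true := by decide +kernel
theorem c_rel_19 : allRange D.relOK 87920 3235 = true := by decide +kernel
theorem c_rel_20 : allRange D.relOK 91155 3248 = true := by decide +kernel
theorem c_rel_21 : allRange D.relOK 94403 3037 = true := by decide +kernel
theorem c_rel_22 : allRange D.relOK 97440 2156 = true := by decide +kernel
theorem c_rel_23 : allRange D.relOK 99596 1789 = true := by decide +kernel
theorem c_rel_24 : allRange D.relOK 101385 2322 = true := by decide +kernel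
theorem c_rel_25 : allRange D.relOK 103707 2308 = true := by decide +kernel
theorem c_rel_26 : allRange D.relOK 106015 2142 = true := by decide +kernel
theorem c_rel_27 : allRange D.relOK 108157 1836 = true := by decide +kernel
theorem c_rel_28 : allRange D.relOK 109993 1733 = true := by decide +kernel
theorem c_rel_29 : allRange D.relOK 111726 1882 = true := by decide +kernel
theorem c_rel_30 : allRange D.relOK 113608 2380 = true := by decide +kernel
theorem c_rel_31 : allRange D.relOK 115988 2393 = true := by decide +kernel
theorem c_rel_32 : allRange D.relOK 118381 2309 = true := by decide +kernel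
theorem c_rel_33 : allRange D.relOK 120690 2341 = true := by decide +kernel
theorem c_rel_34 : allRange D.relOK 123031 2275 = true := by decide +kernel
theorem c_rel_35 : allRange D.relOK 125306 4521 = true := by decide +kernel
theorem c_rel_36 : allRange D.relOK 129827 4600 = true := by decide +kernel
theorem c_rel_37 : allRange D.relOK 134427 4647 = true := by decide +kernel
theorem c_rel_38 : allRange D.relOK 139074 4647 = true := by decide +kernel
theorem c_rel_39 : allRange D.relOK 143721 4646 = true := by decide +kernel
theorem c_rel_40 : allRange D.relOK 148367 3987 = true := by decide +kernel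
theorem c_rel_41 : allRange D.relOK 152354 3793 = true := by decide +kernel
theorem c_rel_42 : allRange D.relOK 156147 3733 = true := by decide +kernel
theorem c_rel_43 : allRange D.relOK 159880 3521 = true := by decide +kernel
theorem c_fin_0 : allGrid (T.finOK D) 0 200 60 = true := by decide +kernel
theorem c_fin_1 : allGrid (T.finOK D) 200 200 60 = true := by decide +kernel
theorem c_fin_2 : allGrid (T.finOK D) 400 200 60 = true := by decide +kernel
theorem c_fin_3 : allGrid (T.finOK D) 600 200 60 = true := by decide +kernel
theorem c_fin_4 : allGrid (T.finOK D) 800 200 60 = true := by decide +kernel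
theorem c_fin_5 : allGrid (T.finOK D) 1000 200 60 = true := by decide +kernel
theorem c_fin_6 : allGrid (T.finOK D) 1200 200 60 = true := by decide +kernel
theorem c_fin_7 : allGrid (T.finOK D) 1400 200 60 = true := by decide +kernel
theorem c_fin_8 : allGrid (T.finOK D) 1600 200 60 = true := by decide +kernel
theorem c_fin_9 : allGrid (T.finOK D) 1800 200 60 = true := by decide +kernel
theorem c_fin_10 : allGrid (T.finOK D) 2000 160 60 = true := by decide +kernel
theorem c_perm_0 : allGrid (T.permOK1 D) 0 500 60 = true := by decide +kernel
theorem c_perm_1 : allGrid (T.permOK1 D) 500 500 60 = true := by decide +kernel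
theorem c_perm_2 : allGrid (T.permOK1 D) 1000 500 60 = true := by decide +kernel
theorem c_perm_3 : allGrid (T.permOK1 D) 1500 500 60 = true := by decide +kernel
theorem c_perm_4 : allGrid (T.permOK1 D) 2000 160 60 = true := by decide +kernel
theorem c_act0_0 : allRange (fun i => Nat.beq (actR0 i) i) 0 2160 = true := by decide +kernel
theorem c_act1_0 : allRange (fun i => Nat.beq (actR1 i) i) 0 2160 = true := by decide +kernel
theorem c_act2_0 : allRange (fun i => Nat.beq (actR2 i) i) 0 2160 = true := by decide +kernel
theorem c_act3_0 : allRange (fun i => Nat.beq (actR3 i) i) 0 2160 = true := by decide +kernel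
theorem c_act4_0 : allRange (fun i => Nat.beq (actR4 i) i) 0 2160 = true := by decide +kernel
theorem c_act5_0 : allRange (fun i => Nat.beq (actR5 i) i) 0 2160 = true := by decide +kernel
theorem c_act6_0 : allRange (fun i => Nat.beq (actR6 i) i) 0 2160 = true := by decide +kernel
theorem c_act7_0 : allRange (fun i => Nat.beq (actR7 i) i) 0 2160 = true := by decide +kernel
theorem c_act8_0 : allRange (fun i => Nat.beq (actR8 i) i) 0 2160 = true := by decide +kernel
theorem c_act9_0 : allRange (fun i => Nat.beq (actR9 i) i) 0 2160 = true := by decide +kernel
theorem c_act10_0 : allRange (fun i => Nat.beq (actR10 i) i) 0 2160 = true := by decide +kernel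
theorem c_act11_0 : allRange (fun i => Nat.beq (actR11 i) i) 0 2160 = true := by decide +kernel
theorem c_act12_0 : allRange (fun i => Nat.beq (actR12 i) i) 0 2160 = true := by decide +kernel
theorem c_act13_0 : allRange (fun i => Nat.beq (actR13 i) i) 0 2160 = true := by decide +kernel
theorem c_act14_0 : allRange (fun i => Nat.beq (actR14 i) i) 0 2160 = true := by decide +kernel
theorem c_act15_0 : allRange (fun i => Nat.beq (actR15 i) i) 0 2160 = true := by decide +kernel
theorem c_act16_0 : allRange (fun i => Nat.beq (actR16 i) i) 0 2160 = true := by decide +kernel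
theorem c_act17_0 : allRange (fun i => Nat.beq (actR17 i) i) 0 2160 = true := by decide +kernel
theorem c_act18_0 : allRange (fun i => Nat.beq (actR18 i) i) 0 2160 = true := by decide +kernel
theorem c_act19_0 : allRange (fun i => Nat.beq (actR19 i) i) 0 2160 = true := by decide +kernel
theorem c_act20_0 : allRange (fun i => Nat.beq (actR20 i) i) 0 2160 = true := by decide +kernel
theorem c_act21_0 : allRange (fun i => Nat.beq (actR21 i) i) 0 2160 = true := by decide +kernel
theorem c_act22_0 : allRange (fun i => Nat.beq (actR22 i) i) 0 2160 = true := by decide +kernel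
theorem c_act23_0 : allRange (fun i => Nat.beq (actR23 i) i) 0 2160 = true := by decide +kernel
theorem c_act24_0 : allRange (fun i => Nat.beq (actR24 i) i) 0 2160 = true := by decide +kernel
theorem c_act25_0 : allRange (fun i => Nat.beq (actR25 i) i) 0 2160 = true := by decide +kernel
theorem c_act26_0 : allRange (fun i => Nat.beq (actR26 i) i) 0 2160 = true := by decide +kernel
theorem c_act27_0 : allRange (fun i => Nat.beq (actR27 i) i) 0 2160 = true := by decide +kernel

end Cfsg.Agent.Lib.Helper4.TCD.SC2O73p2A
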