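import Cfsg.Agent.Lib.Helper4.TCD_SC2Suzp2A_Acc

namespace Cfsg.Agent.Lib.Helper4.TCD.SC2Suzp2A

open Cfsg.Agent.Lib.Helper4.TC

set_option maxRecDepth 100000
set_option Elab.async false

theorem c_zero : D.zeroOK = true := by decide +kernel
theorem c_base : allBelow D.baseOK 8 = true := by decide +kernel
theorem c_let : allBelow D.letOK 46 = true := by decide +kernel
theorem c_cls0 : T.cls 0 = 0 := by decide +kernel
theorem c_name0 : T.nameOf 0 = 0 := by decide +kernel
theorem c_tab : D.relTabOK 0 (baseRels 46 PSC2Suzp2.invR PSC2Suzp2.P.real subs ++ (baseRels 46 PSC2Suzp2.invR PSC2Suzp2.P.real subs).map (invWord D.inv)) = true := by decide +kernel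
theorem c_real : PSC2Suzp2.P.real = realLit := by decide +kernel
theorem c_subfix : subs.all (fun u => Nat.beq (Tab.act T D u 0) 0) = true := by decide +kernel
theorem c_subs : subs.all (fun u => u.all (fun x => Nat.ble (Nat.succ x) 46)) = true := by decide +kernel
theorem c_names_0 : allRange D.nameOK 1 60000 = true := by decide +kernel
theorem c_names_1 : allRange D.nameOK 60001 52352 = true := by decide +kernel
theorem c_cls_0 : allRange (T.clsOK D) 1 15000 = true := by decide +kernel
theorem c_cls_1 : allRange (T.clsOK D) 15001 15000 = true := by decide +kernel
theorem c_cls_2 : allRange (T.clsOK D) 30001 15000 = true := by decide +kernel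
theorem c_cls_3 : allRange (T.clsOK D) 45001 15000 = true := by decide +kernel
theorem c_cls_4 : allRange (T.clsOK D) 60001 15000 = true := by decide +kernel
theorem c_cls_5 : allRange (T.clsOK D) 75001 15000 = true := by decide +kernel
theorem c_cls_6 : allRange (T.clsOK D) 90001 15000 = true := by decide +kernel
theorem c_cls_7 : allRange (T.clsOK D) 105001 7352 = true := by decide +kernel
theorem c_rep_0 : allRange (T.repOK D) 0 1782 = true := by decide +kernel
theorem c_rel_0 : allRange D.relOK 112361 3964 = true := by decide +kernel
theorem c_rel_1 : allRange D.relOK 116325 3286 = true := by decide +kernel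
theorem c_rel_2 : allRange D.relOK 119611 3703 = true := by decide +kernel
theorem c_rel_3 : allRange D.relOK 123314 3854 = true := by decide +kernel
theorem c_rel_4 : allRange D.relOK 127168 3802 = true := by decide +kernel
theorem c_rel_5 : allRange D.relOK 130970 3841 = true := by decide +kernel
theorem c_rel_6 : allRange D.relOK 134811 3820 = true := by decide +kernel
theorem c_rel_7 : allRange D.relOK 138631 3879 = true := by decide +kernel
theorem c_rel_8 : allRange D.relOK 142510 3868 = true := by decide +kernel
theorem c_rel_9 : allRange D.relOK 146378 3887 = true := by decide +kernel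
theorem c_rel_10 : allRange D.relOK 150265 3868 = true := by decide +kernel
theorem c_rel_11 : allRange D.relOK 154133 3859 = true := by decide +kernel
theorem c_rel_12 : allRange D.relOK 157992 3744 = true := by decide +kernel
theorem c_rel_13 : allRange D.relOK 161736 3860 = true := by decide +kernel
theorem c_rel_14 : allRange D.relOK 165596 3844 = true := by decide +kernel
theorem c_rel_15 : allRange D.relOK 169440 3840 = true := by decide +kernel
theorem c_rel_16 : allRange D.relOK 173280 3877 = true := by decide +kernel
theorem c_rel_17 : allRange D.relOK 177157 3764 = true := by decide +kernel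
theorem c_rel_18 : allRange D.relOK 180921 3460 = true := by decide +kernel
theorem c_rel_19 : allRange D.relOK 184381 3031 = true := by decide +kernel
theorem c_rel_20 : allRange D.relOK 187412 3303 = true := by decide +kernel
theorem c_rel_21 : allRange D.relOK 190715 3559 = true := by decide +kernel
theorem c_rel_22 : allRange D.relOK 194274 3177 = true := by decide +kernel
theorem c_rel_23 : allRange D.relOK 197451 2350 = true := by decide +kernel
theorem c_rel_24 : allRange D.relOK 199801 2430 = true := by decide +kernel
theorem c_rel_25 : allRange D.relOK 202231 3198 = true := by decide +kernel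
theorem c_rel_26 : allRange D.relOK 205429 3103 = true := by decide +kernel
theorem c_rel_27 : allRange D.relOK 208532 2240 = true := by decide +kernel
theorem c_rel_28 : allRange D.relOK 210772 3048 = true := by decide +kernel
theorem c_rel_29 : allRange D.relOK 213820 1901 = true := by decide +kernel
theorem c_rel_30 : allRange D.relOK 215721 1942 = true := by decide +kernel
theorem c_rel_31 : allRange D.relOK 217663 2138 = true := by decide +kernel
theorem c_rel_32 : allRange D.relOK 219801 2230 = true := by decide +kernel
theorem c_rel_33 : allRange D.relOK 222031 2903 = true := by decide +kernel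
theorem c_rel_34 : allRange D.relOK 224934 3255 = true := by decide +kernel
theorem c_rel_35 : allRange D.relOK 228189 2979 = true := by decide +kernel
theorem c_rel_36 : allRange D.relOK 231168 2149 = true := by decide +kernel
theorem c_rel_37 : allRange D.relOK 233317 2242 = true := by decide +kernel
theorem c_rel_38 : allRange D.relOK 235559 2244 = true := by decide +kernel
theorem c_rel_39 : allRange D.relOK 237803 2270 = true := by decide +kernel
theorem c_rel_40 : allRange D.relOK 240073 2574 = true := by decide +kernel
theorem c_rel_41 : allRange D.relOK 242647 2287 = true := by decide +kernel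
theorem c_rel_42 : allRange D.relOK 244934 2367 = true := by decide +kernel
theorem c_rel_43 : allRange D.relOK 247301 2630 = true := by decide +kernel
theorem c_rel_44 : allRange D.relOK 249931 2695 = true := by decide +kernel
theorem c_rel_45 : allRange D.relOK 252626 2907 = true := by decide +kernel
theorem c_rel_46 : allRange D.relOK 255533 3073 = true := by decide +kernel
theorem c_rel_47 : allRange D.relOK 258606 2803 = true := by decide +kernel
theorem c_rel_48 : allRange D.relOK 261409 2656 = true := by decide +kernel
theorem c_rel_49 : allRange D.relOK 264065 2275 = true := by decide +kernel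
theorem c_rel_50 : allRange D.relOK 266340 2471 = true := by decide +kernel
theorem c_rel_51 : allRange D.relOK 268811 2143 = true := by decide +kernel
theorem c_rel_52 : allRange D.relOK 270954 2329 = true := by decide +kernel
theorem c_rel_53 : allRange D.relOK 273283 2343 = true := by decide +kernel
theorem c_rel_54 : allRange D.relOK 275626 2267 = true := by decide +kernel
theorem c_rel_55 : allRange D.relOK 277893 2198 = true := by decide +kernel
theorem c_rel_56 : allRange D.relOK 280091 2526 = true := by decide +kernel
theorem c_rel_57 : allRange D.relOK 282617 2908 = true := by decide +kernel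
theorem c_rel_58 : allRange D.relOK 285525 2074 = true := by decide +kernel
theorem c_rel_59 : allRange D.relOK 287599 2135 = true := by decide +kernel
theorem c_rel_60 : allRange D.relOK 289734 2478 = true := by decide +kernel
theorem c_rel_61 : allRange D.relOK 292212 3449 = true := by decide +kernel
theorem c_rel_62 : allRange D.relOK 295661 3312 = true := by decide +kernel
theorem c_rel_63 : allRange D.relOK 298973 3255 = true := by decide +kernel
theorem c_rel_64 : allRange D.relOK 302228 3204 = true := by decide +kernel
theorem c_rel_65 : allRange D.relOK 305432 3131 = true := by decide +kernel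
theorem c_rel_66 : allRange D.relOK 308563 3105 = true := by decide +kernel
theorem c_rel_67 : allRange D.relOK 311668 3030 = true := by decide +kernel
theorem c_rel_68 : allRange D.relOK 314698 3010 = true := by decide +kernel
theorem c_rel_69 : allRange D.relOK 317708 2991 = true := by decide +kernel
theorem c_rel_70 : allRange D.relOK 320699 2935 = true := by decide +kernel
theorem c_rel_71 : allRange D.relOK 323634 2934 = true := by decide +kernel
theorem c_rel_72 : allRange D.relOK 326568 2930 = true := by decide +kernel
theorem c_rel_73 : allRange D.relOK 329498 2874 = true := by decide +kernel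
theorem c_rel_74 : allRange D.relOK 332372 2848 = true := by decide +kernel
theorem c_rel_75 : allRange D.relOK 335220 2795 = true := by decide +kernel
theorem c_rel_76 : allRange D.relOK 338015 2787 = true := by decide +kernel
theorem c_rel_77 : allRange D.relOK 340802 2906 = true := by decide +kernel
theorem c_rel_78 : allRange D.relOK 343708 3129 = true := by decide +kernel
theorem c_rel_79 : allRange D.relOK 346837 2712 = true := by decide +kernel
theorem c_rel_80 : allRange D.relOK 349549 2510 = true := by decide +kernel

end Cfsg.Agent.Lib.Helper4.TCD.SC2Suzp2A
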