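import Cfsg.Agent.Lib.Helper4.TC7
import Cfsg.Agent.Lib.Helper4.TCP_SC2Suzp5
import Cfsg.Agent.Lib.Helper4.TCD_SC2Suzp5A_D0
import Cfsg.Agent.Lib.Helper4.TCD_SC2Suzp5A_D1
import Cfsg.Agent.Lib.Helper4.TCD_SC2Suzp5A_D2
import Cfsg.Agent.Lib.Helper4.TCD_SC2Suzp5A_D3

namespace Cfsg.Agent.Lib.Helper4.TCD.SC2Suzp5A

open Cfsg.Agent.Lib.Helper4.TC

set_option maxRecDepth 100000

noncomputable def Atab_s_0_2 (c : Nat) : Nat := @Bool.rec (fun _ => Nat) (Atab_0) (Atab_1) (Nat.ble 1 c)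
noncomputable def Atab_s_2_4 (c : Nat) : Nat := @Bool.rec (fun _ => Nat) (Atab_2) (Atab_3) (Nat.ble 3 c)
noncomputable def Atab_s_0_4 (c : Nat) : Nat := @Bool.rec (fun _ => Nat) (Atab_s_0_2 c) (Atab_s_2_4 c) (Nat.ble 2 c)
noncomputable def Atab_s_4_6 (c : Nat) : Nat := @Bool.rec (fun _ => Nat) (Atab_4) (Atab_5) (Nat.ble 5 c)
noncomputable def Atab_s_7_9 (c : Nat) : Nat := @Bool.rec (fun _ => Nat) (Atab_7) (Atab_8) (Nat.ble 8 c)
noncomputable def Atab_s_6_9 (c : Nat) : Nat := @Bool.rec (fun _ => Nat) (Atab_6) (Atab_s_7_9 c) (Nat.ble 7 c)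
noncomputable def Atab_s_4_9 (c : Nat) : Nat := @Bool.rec (fun _ => Nat) (Atab_s_4_6 c) (Atab_s_6_9 c) (Nat.ble 6 c)
noncomputable def Atab_s_0_9 (c : Nat) : Nat := @Bool.rec (fun _ => Nat) (Atab_s_0_4 c) (Atab_s_4_9 c) (Nat.ble 4 c)
noncomputable def Atab_s_9_11 (c : Nat) : Nat := @Bool.rec (fun _ => Nat) (Atab_9) (Atab_10) (Nat.ble 10 c)
noncomputable def Atab_s_12_14 (c : Nat) : Nat := @Bool.rec (fun _ => Nat) (Atab_12) (Atab_13) (Nat.ble 13 c)
noncomputable def Atab_s_11_14 (c : Nat) : Nat := @Bool.rec (fun _ => Nat) (Atab_11) (Atab_s_12_14 c) (Nat.ble 12 c)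
noncomputable def Atab_s_9_14 (c : Nat) : Nat := @Bool.rec (fun _ => Nat) (Atab_s_9_11 c) (Atab_s_11_14 c) (Nat.ble 11 c)
noncomputable def Atab_s_14_16 (c : Nat) : Nat := @Bool.rec (fun _ => Nat) (Atab_14) (Atab_15) (Nat.ble 15 c)
noncomputable def Atab_s_17_19 (c : Nat) : Nat := @Bool.rec (fun _ => Nat) (Atab_17) (Atab_18) (Nat.ble 18 c)
noncomputable def Atab_s_16_19 (c : Nat) : Nat := @Bool.rec (fun _ => Nat) (Atab_16) (Atab_s_17_19 c) (Nat.ble 17 c)
noncomputable def Atab_s_14_19 (c : Nat) : Nat := @Bool.rec (fun _ => Nat) (Atab_s_14_16 c) (Atab_s_16_19 c) (Nat.ble 16 c)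
noncomputable def Atab_s_9_19 (c : Nat) : Nat := @Bool.rec (fun _ => Nat) (Atab_s_9_14 c) (Atab_s_14_19 c) (Nat.ble 14 c)
noncomputable def Atab_s_0_19 (c : Nat) : Nat := @Bool.rec (fun _ => Nat) (Atab_s_0_9 c) (Atab_s_9_19 c) (Nat.ble 9 c)
noncomputable def Atab_s_19_21 (c : Nat) : Nat := @Bool.rec (fun _ => Nat) (Atab_19) (Atab_20) (Nat.ble 20 c)
noncomputable def Atab_s_22_24 (c : Nat) : Nat := @Bool.rec (fun _ => Nat) (Atab_22) (Atab_23) (Nat.ble 23 c)
noncomputable def Atab_s_21_24 (c : Nat) : Nat := @Bool.rec (fun _ => Nat) (Atab_21) (Atab_s_22_24 c) (Nat.ble 22 c)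
noncomputable def Atab_s_19_24 (c : Nat) : Nat := @Bool.rec (fun _ => Nat) (Atab_s_19_21 c) (Atab_s_21_24 c) (Nat.ble 21 c)
noncomputable def Atab_s_24_26 (c : Nat) : Nat := @Bool.rec (fun _ => Nat) (Atab_24) (Atab_25) (Nat.ble 25 c)
noncomputable def Atab_s_27_29 (c : Nat) : Nat := @Bool.rec (fun _ => Nat) (Atab_27) (Atab_28) (Nat.ble 28 c)
noncomputable def Atab_s_26_29 (c : Nat) : Nat := @Bool.rec (fun _ => Nat) (Atab_26) (Atab_s_27_29 c) (Nat.ble 27 c)
noncomputable def Atab_s_24_29 (c : Nat) : Nat := @Bool.rec (fun _ => Nat) (Atab_s_24_26 c) (Atab_s_26_29 c) (Nat.ble 26 c)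
noncomputable def Atab_s_19_29 (c : Nat) : Nat := @Bool.rec (fun _ => Nat) (Atab_s_19_24 c) (Atab_s_24_29 c) (Nat.ble 24 c)
noncomputable def Atab_s_29_31 (c : Nat) : Nat := @Bool.rec (fun _ => Nat) (Atab_29) (Atab_30) (Nat.ble 30 c)
noncomputable def Atab_s_32_34 (c : Nat) : Nat := @Bool.rec (fun _ => Nat) (Atab_32) (Atab_33) (Nat.ble 33 c)
noncomputable def Atab_s_31_34 (c : Nat) : Nat := @Bool.rec (fun _ => Nat) (Atab_31) (Atab_s_32_34 c) (Nat.ble 32 c)
noncomputable def Atab_s_29_34 (c : Nat) : Nat := @Bool.rec (fun _ => Nat) (Atab_s_29_31 c) (Atab_s_31_34 c) (Nat.ble 31 c)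
noncomputable def Atab_s_34_36 (c : Nat) : Nat := @Bool.rec (fun _ => Nat) (Atab_34) (Atab_35) (Nat.ble 35 c)
noncomputable def Atab_s_37_39 (c : Nat) : Nat := @Bool.rec (fun _ => Nat) (Atab_37) (Atab_38) (Nat.ble 38 c)
noncomputable def Atab_s_36_39 (c : Nat) : Nat := @Bool.rec (fun _ => Nat) (Atab_36) (Atab_s_37_39 c) (Nat.ble 37 c)
noncomputable def Atab_s_34_39 (c : Nat) : Nat := @Bool.rec (fun _ => Nat) (Atab_s_34_36 c) (Atab_s_36_39 c) (Nat.ble 36 c)
noncomputable def Atab_s_29_39 (c : Nat) : Nat := @Bool.rec (fun _ => Nat) (Atab_s_29_34 c) (Atab_s_34_39 c) (Nat.ble 34 c)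
noncomputable def Atab_s_19_39 (c : Nat) : Nat := @Bool.rec (fun _ => Nat) (Atab_s_19_29 c) (Atab_s_29_39 c) (Nat.ble 29 c)
noncomputable def Atab_s_0_39 (c : Nat) : Nat := @Bool.rec (fun _ => Nat) (Atab_s_0_19 c) (Atab_s_19_39 c) (Nat.ble 19 c)
noncomputable def Atab_s_39_41 (c : Nat) : Nat := @Bool.rec (fun _ => Nat) (Atab_39) (Atab_40) (Nat.ble 40 c)
noncomputable def Atab_s_42_44 (c : Nat) : Nat := @Bool.rec (fun _ => Nat) (Atab_42) (Atab_43) (Nat.ble 43 c)
noncomputable def Atab_s_41_44 (c : Nat) : Nat := @Bool.rec (fun _ => Nat) (Atab_41) (Atab_s_42_44 c) (Nat.ble 42 c)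
noncomputable def Atab_s_39_44 (c : Nat) : Nat := @Bool.rec (fun _ => Nat) (Atab_s_39_41 c) (Atab_s_41_44 c) (Nat.ble 41 c)
noncomputable def Atab_s_44_46 (c : Nat) : Nat := @Bool.rec (fun _ => Nat) (Atab_44) (Atab_45) (Nat.ble 45 c)
noncomputable def Atab_s_47_49 (c : Nat) : Nat := @Bool.rec (fun _ => Nat) (Atab_47) (Atab_48) (Nat.ble 48 c)
noncomputable def Atab_s_46_49 (c : Nat) : Nat := @Bool.rec (fun _ => Nat) (Atab_46) (Atab_s_47_49 c) (Nat.ble 47 c)
noncomputable def Atab_s_44_49 (c : Nat) : Nat := @Bool.rec (fun _ => Nat) (Atab_s_44_46 c) (Atab_s_46_49 c) (Nat.ble 46 c)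
noncomputable def Atab_s_39_49 (c : Nat) : Nat := @Bool.rec (fun _ => Nat) (Atab_s_39_44 c) (Atab_s_44_49 c) (Nat.ble 44 c)
noncomputable def Atab_s_49_51 (c : Nat) : Nat := @Bool.rec (fun _ => Nat) (Atab_49) (Atab_50) (Nat.ble 50 c)
noncomputable def Atab_s_52_54 (c : Nat) : Nat := @Bool.rec (fun _ => Nat) (Atab_52) (Atab_53) (Nat.ble 53 c)
noncomputable def Atab_s_51_54 (c : Nat) : Nat := @Bool.rec (fun _ => Nat) (Atab_51) (Atab_s_52_54 c) (Nat.ble 52 c)
noncomputable def Atab_s_49_54 (c : Nat) : Nat := @Bool.rec (fun _ => Nat) (Atab_s_49_51 c) (Atab_s_51_54 c) (Nat.ble 51 c)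
noncomputable def Atab_s_54_56 (c : Nat) : Nat := @Bool.rec (fun _ => Nat) (Atab_54) (Atab_55) (Nat.ble 55 c)
noncomputable def Atab_s_57_59 (c : Nat) : Nat := @Bool.rec (fun _ => Nat) (Atab_57) (Atab_58) (Nat.ble 58 c)
noncomputable def Atab_s_56_59 (c : Nat) : Nat := @Bool.rec (fun _ => Nat) (Atab_56) (Atab_s_57_59 c) (Nat.ble 57 c)
noncomputable def Atab_s_54_59 (c : Nat) : Nat := @Bool.rec (fun _ => Nat) (Atab_s_54_56 c) (Atab_s_56_59 c) (Nat.ble 56 c)
noncomputable def Atab_s_49_59 (c : Nat) : Nat := @Bool.rec (fun _ => Nat) (Atab_s_49_54 c) (Atab_s_54_59 c) (Nat.ble 54 c)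
noncomputable def Atab_s_39_59 (c : Nat) : Nat := @Bool.rec (fun _ => Nat) (Atab_s_39_49 c) (Atab_s_49_59 c) (Nat.ble 49 c)
noncomputable def Atab_s_59_61 (c : Nat) : Nat := @Bool.rec (fun _ => Nat) (Atab_59) (Atab_60) (Nat.ble 60 c)
noncomputable def Atab_s_62_64 (c : Nat) : Nat := @Bool.rec (fun _ => Nat) (Atab_62) (Atab_63) (Nat.ble 63 c)
noncomputable def Atab_s_61_64 (c : Nat) : Nat := @Bool.rec (fun _ => Nat) (Atab_61) (Atab_s_62_64 c) (Nat.ble 62 c)
noncomputable def Atab_s_59_64 (c : Nat) : Nat := @Bool.rec (fun _ => Nat) (Atab_s_59_61 c) (Atab_s_61_64 c) (Nat.ble 61 c)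
noncomputable def Atab_s_64_66 (c : Nat) : Nat := @Bool.rec (fun _ => Nat) (Atab_64) (Atab_65) (Nat.ble 65 c)
noncomputable def Atab_s_67_69 (c : Nat) : Nat := @Bool.rec (fun _ => Nat) (Atab_67) (Atab_68) (Nat.ble 68 c)
noncomputable def Atab_s_66_69 (c : Nat) : Nat := @Bool.rec (fun _ => Nat) (Atab_66) (Atab_s_67_69 c) (Nat.ble 67 c)
noncomputable def Atab_s_64_69 (c : Nat) : Nat := @Bool.rec (fun _ => Nat) (Atab_s_64_66 c) (Atab_s_66_69 c) (Nat.ble 66 c)
noncomputable def Atab_s_59_69 (c : Nat) : Nat := @Bool.rec (fun _ => Nat) (Atab_s_59_64 c) (Atab_s_64_69 c) (Nat.ble 64 c)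
noncomputable def Atab_s_69_71 (c : Nat) : Nat := @Bool.rec (fun _ => Nat) (Atab_69) (Atab_70) (Nat.ble 70 c)
noncomputable def Atab_s_72_74 (c : Nat) : Nat := @Bool.rec (fun _ => Nat) (Atab_72) (Atab_73) (Nat.ble 73 c)
noncomputable def Atab_s_71_74 (c : Nat) : Nat := @Bool.rec (fun _ => Nat) (Atab_71) (Atab_s_72_74 c) (Nat.ble 72 c)
noncomputable def Atab_s_69_74 (c : Nat) : Nat := @Bool.rec (fun _ => Nat) (Atab_s_69_71 c) (Atab_s_71_74 c) (Nat.ble 71 c)
noncomputable def Atab_s_74_76 (c : Nat) : Nat := @Bool.rec (fun _ => Nat) (Atab_74) (Atab_75) (Nat.ble 75 c)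
noncomputable def Atab_s_77_79 (c : Nat) : Nat := @Bool.rec (fun _ => Nat) (Atab_77) (Atab_78) (Nat.ble 78 c)
noncomputable def Atab_s_76_79 (c : Nat) : Nat := @Bool.rec (fun _ => Nat) (Atab_76) (Atab_s_77_79 c) (Nat.ble 77 c)
noncomputable def Atab_s_74_79 (c : Nat) : Nat := @Bool.rec (fun _ => Nat) (Atab_s_74_76 c) (Atab_s_76_79 c) (Nat.ble 76 c)
noncomputable def Atab_s_69_79 (c : Nat) : Nat := @Bool.rec (fun _ => Nat) (Atab_s_69_74 c) (Atab_s_74_79 c) (Nat.ble 74 c)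
noncomputable def Atab_s_59_79 (c : Nat) : Nat := @Bool.rec (fun _ => Nat) (Atab_s_59_69 c) (Atab_s_69_79 c) (Nat.ble 69 c)
noncomputable def Atab_s_39_79 (c : Nat) : Nat := @Bool.rec (fun _ => Nat) (Atab_s_39_59 c) (Atab_s_59_79 c) (Nat.ble 59 c)
noncomputable def Atab_s_0_79 (c : Nat) : Nat := @Bool.rec (fun _ => Nat) (Atab_s_0_39 c) (Atab_s_39_79 c) (Nat.ble 39 c)
noncomputable def Atab (i : Nat) : Nat := rdw 38 274877906943 (Atab_s_0_79 (Nat.shiftRight i 11)) (Nat.land i 2047)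
noncomputable def Btab_s_1_3 (c : Nat) : Nat := @Bool.rec (fun _ => Nat) (Btab_1) (Btab_2) (Nat.ble 2 c)
noncomputable def Btab_s_0_3 (c : Nat) : Nat := @Bool.rec (fun _ => Nat) (Btab_0) (Btab_s_1_3 c) (Nat.ble 1 c)
noncomputable def Btab_s_3_5 (c : Nat) : Nat := @Bool.rec (fun _ => Nat) (Btab_3) (Btab_4) (Nat.ble 4 c)
noncomputable def Btab_s_5_7 (c : Nat) : Nat := @Bool.rec (fun _ => Nat) (Btab_5) (Btab_6) (Nat.ble 6 c)
noncomputable def Btab_s_3_7 (c : Nat) : Nat := @Bool.rec (fun _ => Nat) (Btab_s_3_5 c) (Btab_s_5_7 c) (Nat.ble 5 c)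
noncomputable def Btab_s_0_7 (c : Nat) : Nat := @Bool.rec (fun _ => Nat) (Btab_s_0_3 c) (Btab_s_3_7 c) (Nat.ble 3 c)
noncomputable def Btab_s_8_10 (c : Nat) : Nat := @Bool.rec (fun _ => Nat) (Btab_8) (Btab_9) (Nat.ble 9 c)
noncomputable def Btab_s_7_10 (c : Nat) : Nat := @Bool.rec (fun _ => Nat) (Btab_7) (Btab_s_8_10 c) (Nat.ble 8 c)
noncomputable def Btab_s_10_12 (c : Nat) : Nat := @Bool.rec (fun _ => Nat) (Btab_10) (Btab_11) (Nat.ble 11 c)
noncomputable def Btab_s_12_14 (c : Nat) : Nat := @Bool.rec (fun _ => Nat) (Btab_12) (Btab_13) (Nat.ble 13 c)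
noncomputable def Btab_s_10_14 (c : Nat) : Nat := @Bool.rec (fun _ => Nat) (Btab_s_10_12 c) (Btab_s_12_14 c) (Nat.ble 12 c)
noncomputable def Btab_s_7_14 (c : Nat) : Nat := @Bool.rec (fun _ => Nat) (Btab_s_7_10 c) (Btab_s_10_14 c) (Nat.ble 10 c)
noncomputable def Btab_s_0_14 (c : Nat) : Nat := @Bool.rec (fun _ => Nat) (Btab_s_0_7 c) (Btab_s_7_14 c) (Nat.ble 7 c)
noncomputable def Btab_s_15_17 (c : Nat) : Nat := @Bool.rec (fun _ => Nat) (Btab_15) (Btab_16) (Nat.ble 16 c)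
noncomputable def Btab_s_14_17 (c : Nat) : Nat := @Bool.rec (fun _ => Nat) (Btab_14) (Btab_s_15_17 c) (Nat.ble 15 c)
noncomputable def Btab_s_17_19 (c : Nat) : Nat := @Bool.rec (fun _ => Nat) (Btab_17) (Btab_18) (Nat.ble 18 c)
noncomputable def Btab_s_19_21 (c : Nat) : Nat := @Bool.rec (fun _ => Nat) (Btab_19) (Btab_20) (Nat.ble 20 c)
noncomputable def Btab_s_17_21 (c : Nat) : Nat := @Bool.rec (fun _ => Nat) (Btab_s_17_19 c) (Btab_s_19_21 c) (Nat.ble 19 c)
noncomputable def Btab_s_14_21 (c : Nat) : Nat := @Bool.rec (fun _ => Nat) (Btab_s_14_17 c) (Btab_s_17_21 c) (Nat.ble 17 c)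
noncomputable def Btab_s_21_23 (c : Nat) : Nat := @Bool.rec (fun _ => Nat) (Btab_21) (Btab_22) (Nat.ble 22 c)
noncomputable def Btab_s_23_25 (c : Nat) : Nat := @Bool.rec (fun _ => Nat) (Btab_23) (Btab_24) (Nat.ble 24 c)
noncomputable def Btab_s_21_25 (c : Nat) : Nat := @Bool.rec (fun _ => Nat) (Btab_s_21_23 c) (Btab_s_23_25 c) (Nat.ble 23 c)
noncomputable def Btab_s_25_27 (c : Nat) : Nat := @Bool.rec (fun _ => Nat) (Btab_25) (Btab_26) (Nat.ble 26 c)
noncomputable def Btab_s_27_29 (c : Nat) : Nat := @Bool.rec (fun _ => Nat) (Btab_27) (Btab_28) (Nat.ble 28 c)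
noncomputable def Btab_s_25_29 (c : Nat) : Nat := @Bool.rec (fun _ => Nat) (Btab_s_25_27 c) (Btab_s_27_29 c) (Nat.ble 27 c)
noncomputable def Btab_s_21_29 (c : Nat) : Nat := @Bool.rec (fun _ => Nat) (Btab_s_21_25 c) (Btab_s_25_29 c) (Nat.ble 25 c)
noncomputable def Btab_s_14_29 (c : Nat) : Nat := @Bool.rec (fun _ => Nat) (Btab_s_14_21 c) (Btab_s_21_29 c) (Nat.ble 21 c)
noncomputable def Btab_s_0_29 (c : Nat) : Nat := @Bool.rec (fun _ => Nat) (Btab_s_0_14 c) (Btab_s_14_29 c) (Nat.ble 14 c)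
noncomputable def Btab_s_30_32 (c : Nat) : Nat := @Bool.rec (fun _ => Nat) (Btab_30) (Btab_31) (Nat.ble 31 c)
noncomputable def Btab_s_29_32 (c : Nat) : Nat := @Bool.rec (fun _ => Nat) (Btab_29) (Btab_s_30_32 c) (Nat.ble 30 c)
noncomputable def Btab_s_32_34 (c : Nat) : Nat := @Bool.rec (fun _ => Nat) (Btab_32) (Btab_33) (Nat.ble 33 c)
noncomputable def Btab_s_34_36 (c : Nat) : Nat := @Bool.rec (fun _ => Nat) (Btab_34) (Btab_35) (Nat.ble 35 c)
noncomputable def Btab_s_32_36 (c : Nat) : Nat := @Bool.rec (fun _ => Nat) (Btab_s_32_34 c) (Btab_s_34_36 c) (Nat.ble 34 c)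
noncomputable def Btab_s_29_36 (c : Nat) : Nat := @Bool.rec (fun _ => Nat) (Btab_s_29_32 c) (Btab_s_32_36 c) (Nat.ble 32 c)
noncomputable def Btab_s_36_38 (c : Nat) : Nat := @Bool.rec (fun _ => Nat) (Btab_36) (Btab_37) (Nat.ble 37 c)
noncomputable def Btab_s_38_40 (c : Nat) : Nat := @Bool.rec (fun _ => Nat) (Btab_38) (Btab_39) (Nat.ble 39 c)
noncomputable def Btab_s_36_40 (c : Nat) : Nat := @Bool.rec (fun _ => Nat) (Btab_s_36_38 c) (Btab_s_38_40 c) (Nat.ble 38 c)
noncomputable def Btab_s_40_42 (c : Nat) : Nat := @Bool.rec (fun _ => Nat) (Btab_40) (Btab_41) (Nat.ble 41 c)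
noncomputable def Btab_s_42_44 (c : Nat) : Nat := @Bool.rec (fun _ => Nat) (Btab_42) (Btab_43) (Nat.ble 43 c)
noncomputable def Btab_s_40_44 (c : Nat) : Nat := @Bool.rec (fun _ => Nat) (Btab_s_40_42 c) (Btab_s_42_44 c) (Nat.ble 42 c)
noncomputable def Btab_s_36_44 (c : Nat) : Nat := @Bool.rec (fun _ => Nat) (Btab_s_36_40 c) (Btab_s_40_44 c) (Nat.ble 40 c)
noncomputable def Btab_s_29_44 (c : Nat) : Nat := @Bool.rec (fun _ => Nat) (Btab_s_29_36 c) (Btab_s_36_44 c) (Nat.ble 36 c)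
noncomputable def Btab_s_45_47 (c : Nat) : Nat := @Bool.rec (fun _ => Nat) (Btab_45) (Btab_46) (Nat.ble 46 c)
noncomputable def Btab_s_44_47 (c : Nat) : Nat := @Bool.rec (fun _ => Nat) (Btab_44) (Btab_s_45_47 c) (Nat.ble 45 c)
noncomputable def Btab_s_47_49 (c : Nat) : Nat := @Bool.rec (fun _ => Nat) (Btab_47) (Btab_48) (Nat.ble 48 c)
noncomputable def Btab_s_49_51 (c : Nat) : Nat := @Bool.rec (fun _ => Nat) (Btab_49) (Btab_50) (Nat.ble 50 c)
noncomputable def Btab_s_47_51 (c : Nat) : Nat := @Bool.rec (fun _ => Nat) (Btab_s_47_49 c) (Btab_s_49_51 c) (Nat.ble 49 c)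
noncomputable def Btab_s_44_51 (c : Nat) : Nat := @Bool.rec (fun _ => Nat) (Btab_s_44_47 c) (Btab_s_47_51 c) (Nat.ble 47 c)
noncomputable def Btab_s_51_53 (c : Nat) : Nat := @Bool.rec (fun _ => Nat) (Btab_51) (Btab_52) (Nat.ble 52 c)
noncomputable def Btab_s_53_55 (c : Nat) : Nat := @Bool.rec (fun _ => Nat) (Btab_53) (Btab_54) (Nat.ble 54 c)
noncomputable def Btab_s_51_55 (c : Nat) : Nat := @Bool.rec (fun _ => Nat) (Btab_s_51_53 c) (Btab_s_53_55 c) (Nat.ble 53 c)
noncomputable def Btab_s_55_57 (c : Nat) : Nat := @Bool.rec (fun _ => Nat) (Btab_55) (Btab_56) (Nat.ble 56 c)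
noncomputable def Btab_s_57_59 (c : Nat) : Nat := @Bool.rec (fun _ => Nat) (Btab_57) (Btab_58) (Nat.ble 58 c)
noncomputable def Btab_s_55_59 (c : Nat) : Nat := @Bool.rec (fun _ => Nat) (Btab_s_55_57 c) (Btab_s_57_59 c) (Nat.ble 57 c)
noncomputable def Btab_s_51_59 (c : Nat) : Nat := @Bool.rec (fun _ => Nat) (Btab_s_51_55 c) (Btab_s_55_59 c) (Nat.ble 55 c)
noncomputable def Btab_s_44_59 (c : Nat) : Nat := @Bool.rec (fun _ => Nat) (Btab_s_44_51 c) (Btab_s_51_59 c) (Nat.ble 51 c)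
noncomputable def Btab_s_29_59 (c : Nat) : Nat := @Bool.rec (fun _ => Nat) (Btab_s_29_44 c) (Btab_s_44_59 c) (Nat.ble 44 c)
noncomputable def Btab_s_0_59 (c : Nat) : Nat := @Bool.rec (fun _ => Nat) (Btab_s_0_29 c) (Btab_s_29_59 c) (Nat.ble 29 c)
noncomputable def Btab (i : Nat) : Nat := rdw 40 1099511627775 (Btab_s_0_59 (Nat.shiftRight i 11)) (Nat.land i 2047)
noncomputable def Ptab_s_1_3 (c : Nat) : Nat := @Bool.rec (fun _ => Nat) (Ptab_1) (Ptab_2) (Nat.ble 2 c)
noncomputable def Ptab_s_0_3 (c : Nat) : Nat := @Bool.rec (fun _ => Nat) (Ptab_0) (Ptab_s_1_3 c) (Nat.ble 1 c)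
noncomputable def Ptab_s_3_5 (c : Nat) : Nat := @Bool.rec (fun _ => Nat) (Ptab_3) (Ptab_4) (Nat.ble 4 c)
noncomputable def Ptab_s_5_7 (c : Nat) : Nat := @Bool.rec (fun _ => Nat) (Ptab_5) (Ptab_6) (Nat.ble 6 c)
noncomputable def Ptab_s_3_7 (c : Nat) : Nat := @Bool.rec (fun _ => Nat) (Ptab_s_3_5 c) (Ptab_s_5_7 c) (Nat.ble 5 c)
noncomputable def Ptab_s_0_7 (c : Nat) : Nat := @Bool.rec (fun _ => Nat) (Ptab_s_0_3 c) (Ptab_s_3_7 c) (Nat.ble 3 c)
noncomputable def Ptab_s_7_9 (c : Nat) : Nat := @Bool.rec (fun _ => Nat) (Ptab_7) (Ptab_8) (Nat.ble 8 c)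
noncomputable def Ptab_s_9_11 (c : Nat) : Nat := @Bool.rec (fun _ => Nat) (Ptab_9) (Ptab_10) (Nat.ble 10 c)
noncomputable def Ptab_s_7_11 (c : Nat) : Nat := @Bool.rec (fun _ => Nat) (Ptab_s_7_9 c) (Ptab_s_9_11 c) (Nat.ble 9 c)
noncomputable def Ptab_s_11_13 (c : Nat) : Nat := @Bool.rec (fun _ => Nat) (Ptab_11) (Ptab_12) (Nat.ble 12 c)
noncomputable def Ptab_s_13_15 (c : Nat) : Nat := @Bool.rec (fun _ => Nat) (Ptab_13) (Ptab_14) (Nat.ble 14 c)
noncomputable def Ptab_s_11_15 (c : Nat) : Nat := @Bool.rec (fun _ => Nat) (Ptab_s_11_13 c) (Ptab_s_13_15 c) (Nat.ble 13 c)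
noncomputable def Ptab_s_7_15 (c : Nat) : Nat := @Bool.rec (fun _ => Nat) (Ptab_s_7_11 c) (Ptab_s_11_15 c) (Nat.ble 11 c)
noncomputable def Ptab_s_0_15 (c : Nat) : Nat := @Bool.rec (fun _ => Nat) (Ptab_s_0_7 c) (Ptab_s_7_15 c) (Nat.ble 7 c)
noncomputable def Ptab_s_15_17 (c : Nat) : Nat := @Bool.rec (fun _ => Nat) (Ptab_15) (Ptab_16) (Nat.ble 16 c)
noncomputable def Ptab_s_17_19 (c : Nat) : Nat := @Bool.rec (fun _ => Nat) (Ptab_17) (Ptab_18) (Nat.ble 18 c)
noncomputable def Ptab_s_15_19 (c : Nat) : Nat := @Bool.rec (fun _ => Nat) (Ptab_s_15_17 c) (Ptab_s_17_19 c) (Nat.ble 17 c)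
noncomputable def Ptab_s_19_21 (c : Nat) : Nat := @Bool.rec (fun _ => Nat) (Ptab_19) (Ptab_20) (Nat.ble 20 c)
noncomputable def Ptab_s_21_23 (c : Nat) : Nat := @Bool.rec (fun _ => Nat) (Ptab_21) (Ptab_22) (Nat.ble 22 c)
noncomputable def Ptab_s_19_23 (c : Nat) : Nat := @Bool.rec (fun _ => Nat) (Ptab_s_19_21 c) (Ptab_s_21_23 c) (Nat.ble 21 c)
noncomputable def Ptab_s_15_23 (c : Nat) : Nat := @Bool.rec (fun _ => Nat) (Ptab_s_15_19 c) (Ptab_s_19_23 c) (Nat.ble 19 c)
noncomputable def Ptab_s_23_25 (c : Nat) : Nat := @Bool.rec (fun _ => Nat) (Ptab_23) (Ptab_24) (Nat.ble 24 c)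
noncomputable def Ptab_s_25_27 (c : Nat) : Nat := @Bool.rec (fun _ => Nat) (Ptab_25) (Ptab_26) (Nat.ble 26 c)
noncomputable def Ptab_s_23_27 (c : Nat) : Nat := @Bool.rec (fun _ => Nat) (Ptab_s_23_25 c) (Ptab_s_25_27 c) (Nat.ble 25 c)
noncomputable def Ptab_s_27_29 (c : Nat) : Nat := @Bool.rec (fun _ => Nat) (Ptab_27) (Ptab_28) (Nat.ble 28 c)
noncomputable def Ptab_s_29_31 (c : Nat) : Nat := @Bool.rec (fun _ => Nat) (Ptab_29) (Ptab_30) (Nat.ble 30 c)
noncomputable def Ptab_s_27_31 (c : Nat) : Nat := @Bool.rec (fun _ => Nat) (Ptab_s_27_29 c) (Ptab_s_29_31 c) (Nat.ble 29 c)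
noncomputable def Ptab_s_23_31 (c : Nat) : Nat := @Bool.rec (fun _ => Nat) (Ptab_s_23_27 c) (Ptab_s_27_31 c) (Nat.ble 27 c)
noncomputable def Ptab_s_15_31 (c : Nat) : Nat := @Bool.rec (fun _ => Nat) (Ptab_s_15_23 c) (Ptab_s_23_31 c) (Nat.ble 23 c)
noncomputable def Ptab_s_0_31 (c : Nat) : Nat := @Bool.rec (fun _ => Nat) (Ptab_s_0_15 c) (Ptab_s_15_31 c) (Nat.ble 15 c)
noncomputable def Ptab_s_32_34 (c : Nat) : Nat := @Bool.rec (fun _ => Nat) (Ptab_32) (Ptab_33) (Nat.ble 33 c)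
noncomputable def Ptab_s_31_34 (c : Nat) : Nat := @Bool.rec (fun _ => Nat) (Ptab_31) (Ptab_s_32_34 c) (Nat.ble 32 c)
noncomputable def Ptab_s_34_36 (c : Nat) : Nat := @Bool.rec (fun _ => Nat) (Ptab_34) (Ptab_35) (Nat.ble 35 c)
noncomputable def Ptab_s_36_38 (c : Nat) : Nat := @Bool.rec (fun _ => Nat) (Ptab_36) (Ptab_37) (Nat.ble 37 c)
noncomputable def Ptab_s_34_38 (c : Nat) : Nat := @Bool.rec (fun _ => Nat) (Ptab_s_34_36 c) (Ptab_s_36_38 c) (Nat.ble 36 c)
noncomputable def Ptab_s_31_38 (c : Nat) : Nat := @Bool.rec (fun _ => Nat) (Ptab_s_31_34 c) (Ptab_s_34_38 c) (Nat.ble 34 c)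
noncomputable def Ptab_s_38_40 (c : Nat) : Nat := @Bool.rec (fun _ => Nat) (Ptab_38) (Ptab_39) (Nat.ble 39 c)
noncomputable def Ptab_s_40_42 (c : Nat) : Nat := @Bool.rec (fun _ => Nat) (Ptab_40) (Ptab_41) (Nat.ble 41 c)
noncomputable def Ptab_s_38_42 (c : Nat) : Nat := @Bool.rec (fun _ => Nat) (Ptab_s_38_40 c) (Ptab_s_40_42 c) (Nat.ble 40 c)
noncomputable def Ptab_s_42_44 (c : Nat) : Nat := @Bool.rec (fun _ => Nat) (Ptab_42) (Ptab_43) (Nat.ble 43 c)
noncomputable def Ptab_s_44_46 (c : Nat) : Nat := @Bool.rec (fun _ => Nat) (Ptab_44) (Ptab_45) (Nat.ble 45 c)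
noncomputable def Ptab_s_42_46 (c : Nat) : Nat := @Bool.rec (fun _ => Nat) (Ptab_s_42_44 c) (Ptab_s_44_46 c) (Nat.ble 44 c)
noncomputable def Ptab_s_38_46 (c : Nat) : Nat := @Bool.rec (fun _ => Nat) (Ptab_s_38_42 c) (Ptab_s_42_46 c) (Nat.ble 42 c)
noncomputable def Ptab_s_31_46 (c : Nat) : Nat := @Bool.rec (fun _ => Nat) (Ptab_s_31_38 c) (Ptab_s_38_46 c) (Nat.ble 38 c)
noncomputable def Ptab_s_46_48 (c : Nat) : Nat := @Bool.rec (fun _ => Nat) (Ptab_46) (Ptab_47) (Nat.ble 47 c)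
noncomputable def Ptab_s_48_50 (c : Nat) : Nat := @Bool.rec (fun _ => Nat) (Ptab_48) (Ptab_49) (Nat.ble 49 c)
noncomputable def Ptab_s_46_50 (c : Nat) : Nat := @Bool.rec (fun _ => Nat) (Ptab_s_46_48 c) (Ptab_s_48_50 c) (Nat.ble 48 c)
noncomputable def Ptab_s_50_52 (c : Nat) : Nat := @Bool.rec (fun _ => Nat) (Ptab_50) (Ptab_51) (Nat.ble 51 c)
noncomputable def Ptab_s_52_54 (c : Nat) : Nat := @Bool.rec (fun _ => Nat) (Ptab_52) (Ptab_53) (Nat.ble 53 c)
noncomputable def Ptab_s_50_54 (c : Nat) : Nat := @Bool.rec (fun _ => Nat) (Ptab_s_50_52 c) (Ptab_s_52_54 c) (Nat.ble 52 c)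
noncomputable def Ptab_s_46_54 (c : Nat) : Nat := @Bool.rec (fun _ => Nat) (Ptab_s_46_50 c) (Ptab_s_50_54 c) (Nat.ble 50 c)
noncomputable def Ptab_s_54_56 (c : Nat) : Nat := @Bool.rec (fun _ => Nat) (Ptab_54) (Ptab_55) (Nat.ble 55 c)
noncomputable def Ptab_s_56_58 (c : Nat) : Nat := @Bool.rec (fun _ => Nat) (Ptab_56) (Ptab_57) (Nat.ble 57 c)
noncomputable def Ptab_s_54_58 (c : Nat) : Nat := @Bool.rec (fun _ => Nat) (Ptab_s_54_56 c) (Ptab_s_56_58 c) (Nat.ble 56 c)
noncomputable def Ptab_s_58_60 (c : Nat) : Nat := @Bool.rec (fun _ => Nat) (Ptab_58) (Ptab_59) (Nat.ble 59 c)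
noncomputable def Ptab_s_60_62 (c : Nat) : Nat := @Bool.rec (fun _ => Nat) (Ptab_60) (Ptab_61) (Nat.ble 61 c)
noncomputable def Ptab_s_58_62 (c : Nat) : Nat := @Bool.rec (fun _ => Nat) (Ptab_s_58_60 c) (Ptab_s_60_62 c) (Nat.ble 60 c)
noncomputable def Ptab_s_54_62 (c : Nat) : Nat := @Bool.rec (fun _ => Nat) (Ptab_s_54_58 c) (Ptab_s_58_62 c) (Nat.ble 58 c)
noncomputable def Ptab_s_46_62 (c : Nat) : Nat := @Bool.rec (fun _ => Nat) (Ptab_s_46_54 c) (Ptab_s_54_62 c) (Nat.ble 54 c)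
noncomputable def Ptab_s_31_62 (c : Nat) : Nat := @Bool.rec (fun _ => Nat) (Ptab_s_31_46 c) (Ptab_s_46_62 c) (Nat.ble 46 c)
noncomputable def Ptab_s_0_62 (c : Nat) : Nat := @Bool.rec (fun _ => Nat) (Ptab_s_0_31 c) (Ptab_s_31_62 c) (Nat.ble 31 c)
noncomputable def Ptab_s_63_65 (c : Nat) : Nat := @Bool.rec (fun _ => Nat) (Ptab_63) (Ptab_64) (Nat.ble 64 c)
noncomputable def Ptab_s_62_65 (c : Nat) : Nat := @Bool.rec (fun _ => Nat) (Ptab_62) (Ptab_s_63_65 c) (Nat.ble 63 c)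
noncomputable def Ptab_s_65_67 (c : Nat) : Nat := @Bool.rec (fun _ => Nat) (Ptab_65) (Ptab_66) (Nat.ble 66 c)
noncomputable def Ptab_s_67_69 (c : Nat) : Nat := @Bool.rec (fun _ => Nat) (Ptab_67) (Ptab_68) (Nat.ble 68 c)
noncomputable def Ptab_s_65_69 (c : Nat) : Nat := @Bool.rec (fun _ => Nat) (Ptab_s_65_67 c) (Ptab_s_67_69 c) (Nat.ble 67 c)
noncomputable def Ptab_s_62_69 (c : Nat) : Nat := @Bool.rec (fun _ => Nat) (Ptab_s_62_65 c) (Ptab_s_65_69 c) (Nat.ble 65 c)
noncomputable def Ptab_s_69_71 (c : Nat) : Nat := @Bool.rec (fun _ => Nat) (Ptab_69) (Ptab_70) (Nat.ble 70 c)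
noncomputable def Ptab_s_71_73 (c : Nat) : Nat := @Bool.rec (fun _ => Nat) (Ptab_71) (Ptab_72) (Nat.ble 72 c)
noncomputable def Ptab_s_69_73 (c : Nat) : Nat := @Bool.rec (fun _ => Nat) (Ptab_s_69_71 c) (Ptab_s_71_73 c) (Nat.ble 71 c)
noncomputable def Ptab_s_73_75 (c : Nat) : Nat := @Bool.rec (fun _ => Nat) (Ptab_73) (Ptab_74) (Nat.ble 74 c)
noncomputable def Ptab_s_75_77 (c : Nat) : Nat := @Bool.rec (fun _ => Nat) (Ptab_75) (Ptab_76) (Nat.ble 76 c)
noncomputable def Ptab_s_73_77 (c : Nat) : Nat := @Bool.rec (fun _ => Nat) (Ptab_s_73_75 c) (Ptab_s_75_77 c) (Nat.ble 75 c)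
noncomputable def Ptab_s_69_77 (c : Nat) : Nat := @Bool.rec (fun _ => Nat) (Ptab_s_69_73 c) (Ptab_s_73_77 c) (Nat.ble 73 c)
noncomputable def Ptab_s_62_77 (c : Nat) : Nat := @Bool.rec (fun _ => Nat) (Ptab_s_62_69 c) (Ptab_s_69_77 c) (Nat.ble 69 c)
noncomputable def Ptab_s_77_79 (c : Nat) : Nat := @Bool.rec (fun _ => Nat) (Ptab_77) (Ptab_78) (Nat.ble 78 c)
noncomputable def Ptab_s_79_81 (c : Nat) : Nat := @Bool.rec (fun _ => Nat) (Ptab_79) (Ptab_80) (Nat.ble 80 c)
noncomputable def Ptab_s_77_81 (c : Nat) : Nat := @Bool.rec (fun _ => Nat) (Ptab_s_77_79 c) (Ptab_s_79_81 c) (Nat.ble 79 c)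
noncomputable def Ptab_s_81_83 (c : Nat) : Nat := @Bool.rec (fun _ => Nat) (Ptab_81) (Ptab_82) (Nat.ble 82 c)
noncomputable def Ptab_s_83_85 (c : Nat) : Nat := @Bool.rec (fun _ => Nat) (Ptab_83) (Ptab_84) (Nat.ble 84 c)
noncomputable def Ptab_s_81_85 (c : Nat) : Nat := @Bool.rec (fun _ => Nat) (Ptab_s_81_83 c) (Ptab_s_83_85 c) (Nat.ble 83 c)
noncomputable def Ptab_s_77_85 (c : Nat) : Nat := @Bool.rec (fun _ => Nat) (Ptab_s_77_81 c) (Ptab_s_81_85 c) (Nat.ble 81 c)
noncomputable def Ptab_s_85_87 (c : Nat) : Nat := @Bool.rec (fun _ => Nat) (Ptab_85) (Ptab_86) (Nat.ble 86 c)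
noncomputable def Ptab_s_87_89 (c : Nat) : Nat := @Bool.rec (fun _ => Nat) (Ptab_87) (Ptab_88) (Nat.ble 88 c)
noncomputable def Ptab_s_85_89 (c : Nat) : Nat := @Bool.rec (fun _ => Nat) (Ptab_s_85_87 c) (Ptab_s_87_89 c) (Nat.ble 87 c)
noncomputable def Ptab_s_89_91 (c : Nat) : Nat := @Bool.rec (fun _ => Nat) (Ptab_89) (Ptab_90) (Nat.ble 90 c)
noncomputable def Ptab_s_91_93 (c : Nat) : Nat := @Bool.rec (fun _ => Nat) (Ptab_91) (Ptab_92) (Nat.ble 92 c)
noncomputable def Ptab_s_89_93 (c : Nat) : Nat := @Bool.rec (fun _ => Nat) (Ptab_s_89_91 c) (Ptab_s_91_93 c) (Nat.ble 91 c)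
noncomputable def Ptab_s_85_93 (c : Nat) : Nat := @Bool.rec (fun _ => Nat) (Ptab_s_85_89 c) (Ptab_s_89_93 c) (Nat.ble 89 c)
noncomputable def Ptab_s_77_93 (c : Nat) : Nat := @Bool.rec (fun _ => Nat) (Ptab_s_77_85 c) (Ptab_s_85_93 c) (Nat.ble 85 c)
noncomputable def Ptab_s_62_93 (c : Nat) : Nat := @Bool.rec (fun _ => Nat) (Ptab_s_62_77 c) (Ptab_s_77_93 c) (Nat.ble 77 c)
noncomputable def Ptab_s_93_95 (c : Nat) : Nat := @Bool.rec (fun _ => Nat) (Ptab_93) (Ptab_94) (Nat.ble 94 c)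
noncomputable def Ptab_s_95_97 (c : Nat) : Nat := @Bool.rec (fun _ => Nat) (Ptab_95) (Ptab_96) (Nat.ble 96 c)
noncomputable def Ptab_s_93_97 (c : Nat) : Nat := @Bool.rec (fun _ => Nat) (Ptab_s_93_95 c) (Ptab_s_95_97 c) (Nat.ble 95 c)
noncomputable def Ptab_s_97_99 (c : Nat) : Nat := @Bool.rec (fun _ => Nat) (Ptab_97) (Ptab_98) (Nat.ble 98 c)
noncomputable def Ptab_s_99_101 (c : Nat) : Nat := @Bool.rec (fun _ => Nat) (Ptab_99) (Ptab_100) (Nat.ble 100 c)
noncomputable def Ptab_s_97_101 (c : Nat) : Nat := @Bool.rec (fun _ => Nat) (Ptab_s_97_99 c) (Ptab_s_99_101 c) (Nat.ble 99 c)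
noncomputable def Ptab_s_93_101 (c : Nat) : Nat := @Bool.rec (fun _ => Nat) (Ptab_s_93_97 c) (Ptab_s_97_101 c) (Nat.ble 97 c)
noncomputable def Ptab_s_101_103 (c : Nat) : Nat := @Bool.rec (fun _ => Nat) (Ptab_101) (Ptab_102) (Nat.ble 102 c)
noncomputable def Ptab_s_103_105 (c : Nat) : Nat := @Bool.rec (fun _ => Nat) (Ptab_103) (Ptab_104) (Nat.ble 104 c)
noncomputable def Ptab_s_101_105 (c : Nat) : Nat := @Bool.rec (fun _ => Nat) (Ptab_s_101_103 c) (Ptab_s_103_105 c) (Nat.ble 103 c)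
noncomputable def Ptab_s_105_107 (c : Nat) : Nat := @Bool.rec (fun _ => Nat) (Ptab_105) (Ptab_106) (Nat.ble 106 c)
noncomputable def Ptab_s_107_109 (c : Nat) : Nat := @Bool.rec (fun _ => Nat) (Ptab_107) (Ptab_108) (Nat.ble 108 c)
noncomputable def Ptab_s_105_109 (c : Nat) : Nat := @Bool.rec (fun _ => Nat) (Ptab_s_105_107 c) (Ptab_s_107_109 c) (Nat.ble 107 c)
noncomputable def Ptab_s_101_109 (c : Nat) : Nat := @Bool.rec (fun _ => Nat) (Ptab_s_101_105 c) (Ptab_s_105_109 c) (Nat.ble 105 c)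
noncomputable def Ptab_s_93_109 (c : Nat) : Nat := @Bool.rec (fun _ => Nat) (Ptab_s_93_101 c) (Ptab_s_101_109 c) (Nat.ble 101 c)
noncomputable def Ptab_s_109_111 (c : Nat) : Nat := @Bool.rec (fun _ => Nat) (Ptab_109) (Ptab_110) (Nat.ble 110 c)
noncomputable def Ptab_s_111_113 (c : Nat) : Nat := @Bool.rec (fun _ => Nat) (Ptab_111) (Ptab_112) (Nat.ble 112 c)
noncomputable def Ptab_s_109_113 (c : Nat) : Nat := @Bool.rec (fun _ => Nat) (Ptab_s_109_111 c) (Ptab_s_111_113 c) (Nat.ble 111 c)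
noncomputable def Ptab_s_113_115 (c : Nat) : Nat := @Bool.rec (fun _ => Nat) (Ptab_113) (Ptab_114) (Nat.ble 114 c)
noncomputable def Ptab_s_115_117 (c : Nat) : Nat := @Bool.rec (fun _ => Nat) (Ptab_115) (Ptab_116) (Nat.ble 116 c)
noncomputable def Ptab_s_113_117 (c : Nat) : Nat := @Bool.rec (fun _ => Nat) (Ptab_s_113_115 c) (Ptab_s_115_117 c) (Nat.ble 115 c)
noncomputable def Ptab_s_109_117 (c : Nat) : Nat := @Bool.rec (fun _ => Nat) (Ptab_s_109_113 c) (Ptab_s_113_117 c) (Nat.ble 113 c)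
noncomputable def Ptab_s_117_119 (c : Nat) : Nat := @Bool.rec (fun _ => Nat) (Ptab_117) (Ptab_118) (Nat.ble 118 c)
noncomputable def Ptab_s_119_121 (c : Nat) : Nat := @Bool.rec (fun _ => Nat) (Ptab_119) (Ptab_120) (Nat.ble 120 c)
noncomputable def Ptab_s_117_121 (c : Nat) : Nat := @Bool.rec (fun _ => Nat) (Ptab_s_117_119 c) (Ptab_s_119_121 c) (Nat.ble 119 c)
noncomputable def Ptab_s_121_123 (c : Nat) : Nat := @Bool.rec (fun _ => Nat) (Ptab_121) (Ptab_122) (Nat.ble 122 c)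
noncomputable def Ptab_s_123_125 (c : Nat) : Nat := @Bool.rec (fun _ => Nat) (Ptab_123) (Ptab_124) (Nat.ble 124 c)
noncomputable def Ptab_s_121_125 (c : Nat) : Nat := @Bool.rec (fun _ => Nat) (Ptab_s_121_123 c) (Ptab_s_123_125 c) (Nat.ble 123 c)
noncomputable def Ptab_s_117_125 (c : Nat) : Nat := @Bool.rec (fun _ => Nat) (Ptab_s_117_121 c) (Ptab_s_121_125 c) (Nat.ble 121 c)
noncomputable def Ptab_s_109_125 (c : Nat) : Nat := @Bool.rec (fun _ => Nat) (Ptab_s_109_117 c) (Ptab_s_117_125 c) (Nat.ble 117 c)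
noncomputable def Ptab_s_93_125 (c : Nat) : Nat := @Bool.rec (fun _ => Nat) (Ptab_s_93_109 c) (Ptab_s_109_125 c) (Nat.ble 109 c)
noncomputable def Ptab_s_62_125 (c : Nat) : Nat := @Bool.rec (fun _ => Nat) (Ptab_s_62_93 c) (Ptab_s_93_125 c) (Nat.ble 93 c)
noncomputable def Ptab_s_0_125 (c : Nat) : Nat := @Bool.rec (fun _ => Nat) (Ptab_s_0_62 c) (Ptab_s_62_125 c) (Nat.ble 62 c)
noncomputable def Ptab (i : Nat) : Nat := rdw 19 524287 (Ptab_s_0_125 (Nat.shiftRight i 12)) (Nat.land i 4095)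
noncomputable def RRtab (i : Nat) : Nat := rdw 6 63 RRtab_0 i
noncomputable def rBtab (i : Nat) : Nat := rdw 12 4095 rBtab_0 i
noncomputable def rLtab (i : Nat) : Nat := rdw 6 63 rLtab_0 i
noncomputable def nameTab (i : Nat) : Nat := rdw 16 65535 nameTab_0 i
noncomputable def col0 (i : Nat) : Nat := rdw 11 2047 col0_0 i
noncomputable def col1 (i : Nat) : Nat := rdw 11 2047 col1_0 i
noncomputable def col2 (i : Nat) : Nat := rdw 11 2047 col2_0 i
noncomputable def col3 (i : Nat) : Nat := rdw 11 2047 col3_0 i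
noncomputable def col4 (i : Nat) : Nat := rdw 11 2047 col4_0 i
noncomputable def col5 (i : Nat) : Nat := rdw 11 2047 col5_0 i
noncomputable def col6 (i : Nat) : Nat := rdw 11 2047 col6_0 i
noncomputable def col7 (i : Nat) : Nat := rdw 11 2047 col7_0 i
noncomputable def col8 (i : Nat) : Nat := rdw 11 2047 col8_0 i
noncomputable def col9 (i : Nat) : Nat := rdw 11 2047 col9_0 i
noncomputable def col10 (i : Nat) : Nat := rdw 11 2047 col10_0 i
noncomputable def col11 (i : Nat) : Nat := rdw 11 2047 col11_0 i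
noncomputable def col12 (i : Nat) : Nat := rdw 11 2047 col12_0 i
noncomputable def col13 (i : Nat) : Nat := rdw 11 2047 col13_0 i
noncomputable def col14 (i : Nat) : Nat := rdw 11 2047 col14_0 i
noncomputable def col15 (i : Nat) : Nat := rdw 11 2047 col15_0 i
noncomputable def col16 (i : Nat) : Nat := rdw 11 2047 col16_0 i
noncomputable def col17 (i : Nat) : Nat := rdw 11 2047 col17_0 i
noncomputable def col18 (i : Nat) : Nat := rdw 11 2047 col18_0 i
noncomputable def col19 (i : Nat) : Nat := rdw 11 2047 col19_0 i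
noncomputable def col20 (i : Nat) : Nat := rdw 11 2047 col20_0 i
noncomputable def col21 (i : Nat) : Nat := rdw 11 2047 col21_0 i
noncomputable def col22 (i : Nat) : Nat := rdw 11 2047 col22_0 i
noncomputable def col23 (i : Nat) : Nat := rdw 11 2047 col23_0 i
noncomputable def col24 (i : Nat) : Nat := rdw 11 2047 col24_0 i
noncomputable def col25 (i : Nat) : Nat := rdw 11 2047 col25_0 i
noncomputable def col26 (i : Nat) : Nat := rdw 11 2047 col26_0 i
noncomputable def col27 (i : Nat) : Nat := rdw 11 2047 col27_0 i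
noncomputable def col28 (i : Nat) : Nat := rdw 11 2047 col28_0 i
noncomputable def col29 (i : Nat) : Nat := rdw 11 2047 col29_0 i
noncomputable def col30 (i : Nat) : Nat := rdw 11 2047 col30_0 i
noncomputable def col31 (i : Nat) : Nat := rdw 11 2047 col31_0 i
noncomputable def col32 (i : Nat) : Nat := rdw 11 2047 col32_0 i
noncomputable def col33 (i : Nat) : Nat := rdw 11 2047 col33_0 i
noncomputable def col34 (i : Nat) : Nat := rdw 11 2047 col34_0 i
noncomputable def col35 (i : Nat) : Nat := rdw 11 2047 col35_0 i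
noncomputable def col36 (i : Nat) : Nat := rdw 11 2047 col36_0 i
noncomputable def col37 (i : Nat) : Nat := rdw 11 2047 col37_0 i
noncomputable def col38 (i : Nat) : Nat := rdw 11 2047 col38_0 i
noncomputable def col39 (i : Nat) : Nat := rdw 11 2047 col39_0 i
noncomputable def col40 (i : Nat) : Nat := rdw 11 2047 col40_0 i
noncomputable def col41 (i : Nat) : Nat := rdw 11 2047 col41_0 i
noncomputable def finTab_s_0_2 (c : Nat) : Nat := @Bool.rec (fun _ => Nat) (finTab_0) (finTab_1) (Nat.ble 1 c)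
noncomputable def finTab_s_2_4 (c : Nat) : Nat := @Bool.rec (fun _ => Nat) (finTab_2) (finTab_3) (Nat.ble 3 c)
noncomputable def finTab_s_0_4 (c : Nat) : Nat := @Bool.rec (fun _ => Nat) (finTab_s_0_2 c) (finTab_s_2_4 c) (Nat.ble 2 c)
noncomputable def finTab_s_4_6 (c : Nat) : Nat := @Bool.rec (fun _ => Nat) (finTab_4) (finTab_5) (Nat.ble 5 c)
noncomputable def finTab_s_7_9 (c : Nat) : Nat := @Bool.rec (fun _ => Nat) (finTab_7) (finTab_8) (Nat.ble 8 c)
noncomputable def finTab_s_6_9 (c : Nat) : Nat := @Bool.rec (fun _ => Nat) (finTab_6) (finTab_s_7_9 c) (Nat.ble 7 c)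
noncomputable def finTab_s_4_9 (c : Nat) : Nat := @Bool.rec (fun _ => Nat) (finTab_s_4_6 c) (finTab_s_6_9 c) (Nat.ble 6 c)
noncomputable def finTab_s_0_9 (c : Nat) : Nat := @Bool.rec (fun _ => Nat) (finTab_s_0_4 c) (finTab_s_4_9 c) (Nat.ble 4 c)
noncomputable def finTab_s_9_11 (c : Nat) : Nat := @Bool.rec (fun _ => Nat) (finTab_9) (finTab_10) (Nat.ble 10 c)
noncomputable def finTab_s_12_14 (c : Nat) : Nat := @Bool.rec (fun _ => Nat) (finTab_12) (finTab_13) (Nat.ble 13 c)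
noncomputable def finTab_s_11_14 (c : Nat) : Nat := @Bool.rec (fun _ => Nat) (finTab_11) (finTab_s_12_14 c) (Nat.ble 12 c)
noncomputable def finTab_s_9_14 (c : Nat) : Nat := @Bool.rec (fun _ => Nat) (finTab_s_9_11 c) (finTab_s_11_14 c) (Nat.ble 11 c)
noncomputable def finTab_s_14_16 (c : Nat) : Nat := @Bool.rec (fun _ => Nat) (finTab_14) (finTab_15) (Nat.ble 15 c)
noncomputable def finTab_s_17_19 (c : Nat) : Nat := @Bool.rec (fun _ => Nat) (finTab_17) (finTab_18) (Nat.ble 18 c)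
noncomputable def finTab_s_16_19 (c : Nat) : Nat := @Bool.rec (fun _ => Nat) (finTab_16) (finTab_s_17_19 c) (Nat.ble 17 c)
noncomputable def finTab_s_14_19 (c : Nat) : Nat := @Bool.rec (fun _ => Nat) (finTab_s_14_16 c) (finTab_s_16_19 c) (Nat.ble 16 c)
noncomputable def finTab_s_9_19 (c : Nat) : Nat := @Bool.rec (fun _ => Nat) (finTab_s_9_14 c) (finTab_s_14_19 c) (Nat.ble 14 c)
noncomputable def finTab_s_0_19 (c : Nat) : Nat := @Bool.rec (fun _ => Nat) (finTab_s_0_9 c) (finTab_s_9_19 c) (Nat.ble 9 c)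
noncomputable def finTab (i : Nat) : Nat := rdw 19 524287 (finTab_s_0_19 (Nat.shiftRight i 12)) (Nat.land i 4095)
noncomputable def clsTab_s_0_2 (c : Nat) : Nat := @Bool.rec (fun _ => Nat) (clsTab_0) (clsTab_1) (Nat.ble 1 c)
noncomputable def clsTab_s_3_5 (c : Nat) : Nat := @Bool.rec (fun _ => Nat) (clsTab_3) (clsTab_4) (Nat.ble 4 c)
noncomputable def clsTab_s_2_5 (c : Nat) : Nat := @Bool.rec (fun _ => Nat) (clsTab_2) (clsTab_s_3_5 c) (Nat.ble 3 c)
noncomputable def clsTab_s_0_5 (c : Nat) : Nat := @Bool.rec (fun _ => Nat) (clsTab_s_0_2 c) (clsTab_s_2_5 c) (Nat.ble 2 c)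
noncomputable def clsTab (i : Nat) : Nat := rdw 11 2047 (clsTab_s_0_5 (Nat.shiftRight i 13)) (Nat.land i 8191)
noncomputable def oparTab (i : Nat) : Nat := rdw 11 2047 oparTab_0 i
noncomputable def olabTab (i : Nat) : Nat := rdw 3 7 olabTab_0 i
noncomputable def srcF (t : Nat) : Nat := Nat.land (Atab t) 65535
noncomputable def tgtF (t : Nat) : Nat := Nat.land (Nat.shiftRight (Atab t) 16) 65535
noncomputable def ltF (t : Nat) : Nat := Nat.shiftRight (Atab t) 32
noncomputable def rhoF (t : Nat) : Nat := Nat.land (Btab (Nat.sub t 39884)) 511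
noncomputable def rotF (t : Nat) : Nat := Nat.land (Nat.shiftRight (Btab (Nat.sub t 39884)) 9) 63
noncomputable def lenF (t : Nat) : Nat := Nat.land (Nat.shiftRight (Btab (Nat.sub t 39884)) 15) 63
noncomputable def offF (t : Nat) : Nat := Nat.shiftRight (Btab (Nat.sub t 39884)) 21
noncomputable def pfF (j : Nat) : Nat := Nat.shiftRight (Ptab j) 1
noncomputable def pdF (j : Nat) : Nat := Nat.land (Ptab j) 1
noncomputable def tblF (i x : Nat) : Nat := @Bool.rec (fun _ => Nat) (@Bool.rec (fun _ => Nat) (@Bool.rec (fun _ => Nat) (@Bool.rec (fun _ => Nat) (@Bool.rec (fun _ => Nat) (col0 i) (col1 i) (Nat.ble 1 x)) (@Bool.rec (fun _ => Nat) (col2 i) (@Bool.rec (fun _ => Nat) (col3 i) (col4 i) (Nat.ble 4 x)) (Nat.ble 3 x)) (Nat.ble 2 x)) (@Bool.rec (fun _ => Nat) (@Bool.rec (fun _ => Nat) (col5 i) (col6 i) (Nat.ble 6 x)) (@Bool.rec (fun _ => Nat) (col7 i) (@Bool.rec (fun _ => Nat) (col8 i) (col9 i) (Nat.ble 9 x)) (Nat.ble 8 x)) (Nat.ble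 7 x)) (Nat.ble 5 x)) (@Bool.rec (fun _ => Nat) (@Bool.rec (fun _ => Nat) (@Bool.rec (fun _ => Nat) (col10 i) (col11 i) (Nat.ble 11 x)) (@Bool.rec (fun _ => Nat) (col12 i) (@Bool.rec (fun _ => Nat) (col13 i) (col14 i) (Nat.ble 14 x)) (Nat.ble 13 x)) (Nat.ble 12 x)) (@Bool.rec (fun _ => Nat) (@Bool.rec (fun _ => Nat) (col15 i) (@Bool.rec (fun _ => Nat) (col16 i) (col17 i) (Nat.ble 17 x)) (Nat.ble 16 x)) (@Bool.rec (fun _ => Nat) (col18 i) (@Bool.rec (fun _ => Nat) (col19 i) (col20 i) (Nat.ble 20 x)) (Nat.ble 19 x)) (Nat.ble 18 x)) (Nat.ble 15 x)) (Nat.ble 10 x)) (@Bool.rec (fun _ => Nat) (@Bool.rec (fun _ => Nat) (@Bool.rec (fun _ => Nat) (@Bool.rec (fun _ => Nat) (col21 i) (col22 i) (Nat.ble 22 x)) (@Bool.rec (fun _ => Nat) (col23 i) (@Bool.rec (fun _ => Nat) (col24 i) (col25 i) (Nat.ble 25 x)) (Nat.ble 24 x)) (Nat.ble 23 x)) (@Bool.rec (fun _ => Nat) (@Bool.rec (fun _ => Nat) (col26 i) (col27 i) (Nat.ble 27 x)) (@Bool.rec (fun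 _ => Nat) (col28 i) (@Bool.rec (fun _ => Nat) (col29 i) (col30 i) (Nat.ble 30 x)) (Nat.ble 29 x)) (Nat.ble 28 x)) (Nat.ble 26 x)) (@Bool.rec (fun _ => Nat) (@Bool.rec (fun _ => Nat) (@Bool.rec (fun _ => Nat) (col31 i) (col32 i) (Nat.ble 32 x)) (@Bool.rec (fun _ => Nat) (col33 i) (@Bool.rec (fun _ => Nat) (col34 i) (col35 i) (Nat.ble 35 x)) (Nat.ble 34 x)) (Nat.ble 33 x)) (@Bool.rec (fun _ => Nat) (@Bool.rec (fun _ => Nat) (col36 i) (@Bool.rec (fun _ => Nat) (col37 i) (col38 i) (Nat.ble 38 x)) (Nat.ble 37 x)) (@Bool.rec (fun _ => Nat) (col39 i) (@Bool.rec (fun _ => Nat) (col40 i) (col41 i) (Nat.ble 41 x)) (Nat.ble 40 x)) (Nat.ble 39 x)) (Nat.ble 36 x)) (Nat.ble 31 x)) (Nat.ble 21 x)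
noncomputable def finE (i x : Nat) : Nat := finTab (Nat.add (Nat.mul i 42) x)
noncomputable def finFF (i x : Nat) : Nat := Nat.shiftRight (finE i x) 1
noncomputable def finDF (i x : Nat) : Nat := Nat.land (finE i x) 1

noncomputable def D : Log :=
  { k := 42, inv := invE 42 PSC2Suzp5.invR, nR := 372, rBase := rBtab, rLen := rLtab, RR := RRtab,
    M := 39876, nB := 8, F := 160607, src := srcF, lt := ltF, tgt := tgtF, rho := rhoF, rot := rotF,
    off := offF, len := lenF, pf := pfF, pd := pdF }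

noncomputable def T : Tab :=
  { N := 1782, nameOf := nameTab, tbl := tblF, finF := finFF, finD := finDF, cls := clsTab }

def subs : List (List Nat) := [
  [0],
  [2],
  [4],
  [6] ]

def rw0 : List Nat := [0, 0, 0, 0, 0, 0, 0]
def rw1 : List Nat := [2, 2, 2, 2]
def rw2 : List Nat := [4, 4, 4, 4]
def rw3 : List Nat := [6, 6, 6, 6]
def rw4 : List Nat := [8, 8]
def rw5 : List Nat := [11, 4, 4]
def rw6 : List Nat := [13, 0, 8, 1, 3, 4, 3, 8, 2, 4, 2, 11]
def rw7 : List Nat := [15, 0, 3, 8, 2, 1, 3, 0, 4, 8, 4, 1, 2, 11]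
def rw8 : List Nat := [17, 0, 8, 1, 2, 8, 3, 0, 8, 1, 2, 8, 3]
def rw9 : List Nat := [19, 0, 0, 4, 3, 3, 1, 8, 0, 2, 2, 4, 1, 1, 8, 11]
def rw10 : List Nat := [21, 0, 0, 4, 2, 2, 1, 8, 0, 2, 2, 4, 1, 1, 8, 11]
def rw11 : List Nat := [23, 0, 0, 3, 8, 1, 4, 8, 4, 0, 8, 1, 3, 1, 3]
def rw12 : List Nat := [25, 0, 2, 1, 4, 0, 8, 1, 6, 2, 6, 0, 8, 1, 4]
def rw13 : List Nat := [27, 0, 3, 0, 3, 8, 2, 1, 2, 1, 2, 0, 8, 1, 3]
def rw14 : List Nat := [29, 0, 0, 2, 0, 0, 2, 8, 3, 1, 1, 3, 1, 1, 8]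
def rw15 : List Nat := [31, 0, 4, 2, 8, 3, 4, 1, 2, 4, 0, 8, 1, 4, 3]
def rw16 : List Nat := [33, 0, 0, 0, 3, 4, 8, 4, 2, 1, 1, 1, 4, 8, 4]
def rw17 : List Nat := [35, 0, 4, 8, 4, 8, 2, 2, 8, 4, 8, 4, 1, 2, 2]
def rw18 : List Nat := [37, 0, 2, 8, 6, 8, 4, 8, 6, 8, 0, 4, 1, 4, 2, 11]
def rw19 : List Nat := [39, 2, 8, 4, 6, 2, 8, 4, 6, 2, 8, 4, 6, 2, 8, 4, 6, 2, 8, 4, 6, 2, 8, 4, 6, 2, 8, 4, 6, 2, 8, 4, 6]
def rw20 : List Nat := [41, 11, 9, 10, 8]
def rw21 : List Nat := [12, 12, 12, 12, 12]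
def rw22 : List Nat := [14, 14, 14, 14, 14]
def rw23 : List Nat := [16, 16, 16, 16, 16]
def rw24 : List Nat := [18, 18, 18, 18, 18]
def rw25 : List Nat := [20, 20, 20, 20, 20]
def rw26 : List Nat := [22, 22, 22, 22, 22]
def rw27 : List Nat := [24, 24, 24, 24, 24]
def rw28 : List Nat := [26, 26, 26, 26, 26]
def rw29 : List Nat := [28, 28, 28, 28, 28]
def rw30 : List Nat := [30, 30, 30, 30, 30]
def rw31 : List Nat := [32, 32, 32, 32, 32]
def rw32 : List Nat := [34, 34, 34, 34, 34]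
def rw33 : List Nat := [36, 36, 36, 36, 36]
def rw34 : List Nat := [38, 38, 38, 38, 38]
def rw35 : List Nat := [40, 40, 40, 40, 40]
def rw36 : List Nat := [12, 0, 13, 1]
def rw37 : List Nat := [12, 2, 13, 3]
def rw38 : List Nat := [12, 4, 13, 5]
def rw39 : List Nat := [12, 6, 13, 7]
def rw40 : List Nat := [12, 8, 13, 9]
def rw41 : List Nat := [12, 10, 13, 11]
def rw42 : List Nat := [14, 0, 15, 1]
def rw43 : List Nat := [14, 2, 15, 3]
def rw44 : List Nat := [14, 4, 15, 5]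
def rw45 : List Nat := [14, 6, 15, 7]
def rw46 : List Nat := [14, 8, 15, 9]
def rw47 : List Nat := [14, 10, 15, 11]
def rw48 : List Nat := [16, 0, 17, 1]
def rw49 : List Nat := [16, 2, 17, 3]
def rw50 : List Nat := [16, 4, 17, 5]
def rw51 : List Nat := [16, 6, 17, 7]
def rw52 : List Nat := [16, 8, 17, 9]
def rw53 : List Nat := [16, 10, 17, 11]
def rw54 : List Nat := [18, 0, 19, 1]
def rw55 : List Nat := [18, 2, 19, 3]
def rw56 : List Nat := [18, 4, 19, 5]
def rw57 : List Nat := [18, 6, 19, 7]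
def rw58 : List Nat := [18, 8, 19, 9]
def rw59 : List Nat := [18, 10, 19, 11]
def rw60 : List Nat := [20, 0, 21, 1]
def rw61 : List Nat := [20, 2, 21, 3]
def rw62 : List Nat := [20, 4, 21, 5]
def rw63 : List Nat := [20, 6, 21, 7]
def rw64 : List Nat := [20, 8, 21, 9]
def rw65 : List Nat := [20, 10, 21, 11]
def rw66 : List Nat := [22, 0, 23, 1]
def rw67 : List Nat := [22, 2, 23, 3]
def rw68 : List Nat := [22, 4, 23, 5]
def rw69 : List Nat := [22, 6, 23, 7]
def rw70 : List Nat := [22, 8, 23, 9]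
def rw71 : List Nat := [22, 10, 23, 11]
def rw72 : List Nat := [24, 0, 25, 1]
def rw73 : List Nat := [24, 2, 25, 3]
def rw74 : List Nat := [24, 4, 25, 5]
def rw75 : List Nat := [24, 6, 25, 7]
def rw76 : List Nat := [24, 8, 25, 9]
def rw77 : List Nat := [24, 10, 25, 11]
def rw78 : List Nat := [26, 0, 27, 1]
def rw79 : List Nat := [26, 2, 27, 3]
def rw80 : List Nat := [26, 4, 27, 5]
def rw81 : List Nat := [26, 6, 27, 7]
def rw82 : List Nat := [26, 8, 27, 9]
def rw83 : List Nat := [26, 10, 27, 11]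
def rw84 : List Nat := [28, 0, 29, 1]
def rw85 : List Nat := [28, 2, 29, 3]
def rw86 : List Nat := [28, 4, 29, 5]
def rw87 : List Nat := [28, 6, 29, 7]
def rw88 : List Nat := [28, 8, 29, 9]
def rw89 : List Nat := [28, 10, 29, 11]
def rw90 : List Nat := [30, 0, 31, 1]
def rw91 : List Nat := [30, 2, 31, 3]
def rw92 : List Nat := [30, 4, 31, 5]
def rw93 : List Nat := [30, 6, 31, 7]
def rw94 : List Nat := [30, 8, 31, 9]
def rw95 : List Nat := [30, 10, 31, 11]
def rw96 : List Nat := [32, 0, 33, 1]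
def rw97 : List Nat := [32, 2, 33, 3]
def rw98 : List Nat := [32, 4, 33, 5]
def rw99 : List Nat := [32, 6, 33, 7]
def rw100 : List Nat := [32, 8, 33, 9]
def rw101 : List Nat := [32, 10, 33, 11]
def rw102 : List Nat := [34, 0, 35, 1]
def rw103 : List Nat := [34, 2, 35, 3]
def rw104 : List Nat := [34, 4, 35, 5]
def rw105 : List Nat := [34, 6, 35, 7]
def rw106 : List Nat := [34, 8, 35, 9]
def rw107 : List Nat := [34, 10, 35, 11]
def rw108 : List Nat := [36, 0, 37, 1]
def rw109 : List Nat := [36, 2, 37, 3]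
def rw110 : List Nat := [36, 4, 37, 5]
def rw111 : List Nat := [36, 6, 37, 7]
def rw112 : List Nat := [36, 8, 37, 9]
def rw113 : List Nat := [36, 10, 37, 11]
def rw114 : List Nat := [38, 0, 39, 1]
def rw115 : List Nat := [38, 2, 39, 3]
def rw116 : List Nat := [38, 4, 39, 5]
def rw117 : List Nat := [38, 6, 39, 7]
def rw118 : List Nat := [38, 8, 39, 9]
def rw119 : List Nat := [38, 10, 39, 11]
def rw120 : List Nat := [40, 0, 41, 1]
def rw121 : List Nat := [40, 2, 41, 3]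
def rw122 : List Nat := [40, 4, 41, 5]
def rw123 : List Nat := [40, 6, 41, 7]
def rw124 : List Nat := [40, 8, 41, 9]
def rw125 : List Nat := [40, 10, 41, 11]
def rw126 : List Nat := [0, 0, 0, 0, 0, 0, 0]
def rw127 : List Nat := [0, 0, 2, 1, 2, 0, 3, 0, 2, 1, 2]
def rw128 : List Nat := [0, 0, 0, 2, 0, 0, 0, 2, 0, 0, 0, 2]
def rw129 : List Nat := [0, 0, 2, 2, 0, 0, 3, 3, 0, 0, 3, 3]
def rw130 : List Nat := [4, 4, 4, 4]
def rw131 : List Nat := [0, 4, 3, 4, 2, 1, 2, 1, 1, 4, 2]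
def rw132 : List Nat := [0, 4, 1, 3, 1, 3, 0, 4, 1, 3, 1, 3, 4, 4]
def rw133 : List Nat := [6, 6, 5, 5]
def rw134 : List Nat := [0, 2, 1, 4, 6, 2, 7, 4, 5, 5]
def rw135 : List Nat := [0, 2, 1, 7, 4, 1, 2, 0, 4, 6, 5, 5]
def rw136 : List Nat := [0, 0, 4, 3, 1, 3, 1, 4, 2, 4, 3, 0, 6, 0, 6, 4, 7]
def rw137 : List Nat := [5, 5, 1, 4, 4, 0]
def rw138 : List Nat := [5, 5, 3, 4, 4, 2]
def rw139 : List Nat := [5, 5, 7, 4, 4, 6]
def realLit : List (List Nat) := [rw0, rw1, rw2, rw3, rw4, rw5, rw6, rw7, rw8, rw9, rw10, rw11, rw12, rw13, rw14, rw15, rw16, rw17, rw18, rw19, rw20, rw21, rw22, rw23, rw24, rw25, rw26, rw27, rw28, rw29, rw30, rw31, rw32, rw33, rw34, rw35, rw36, rw37, rw38, rw39, rw40, rw41, rw42, rw43, rw44, rw45, rw46, rw47, rw48, rw49, rw50, rw51, rw52, rw53, rw54, rw55, rw56, rw57, rw58, rw59, rw60, rw61, rw62, rw63, rw64, rw65, rw66, rw67, rw68, rw69, rw70, rw71, rw72, rw73, rw74, rw75, rw76, rw77, rw78, rw79, rw80, rw81,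 rw82, rw83, rw84, rw85, rw86, rw87, rw88, rw89, rw90, rw91, rw92, rw93, rw94, rw95, rw96, rw97, rw98, rw99, rw100, rw101, rw102, rw103, rw104, rw105, rw106, rw107, rw108, rw109, rw110, rw111, rw112, rw113, rw114, rw115, rw116, rw117, rw118, rw119, rw120, rw121, rw122, rw123, rw124, rw125, rw126, rw127, rw128, rw129, rw130, rw131, rw132, rw133, rw134, rw135, rw136, rw137, rw138, rw139]
noncomputable def actR0 (i : Nat) : Nat := col1 (col1 (col1 (col1 (col1 (col1 (col1 (i)))))))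
theorem actR0_eq (i : Nat) : actR0 i = Tab.act T D rw0 i := rfl
noncomputable def actR1 (i : Nat) : Nat := col3 (col3 (col3 (col3 (i))))
theorem actR1_eq (i : Nat) : actR1 i = Tab.act T D rw1 i := rfl
noncomputable def actR2 (i : Nat) : Nat := col5 (col5 (col5 (col5 (i))))
theorem actR2_eq (i : Nat) : actR2 i = Tab.act T D rw2 i := rfl
noncomputable def actR3 (i : Nat) : Nat := col7 (col7 (col7 (col7 (i))))
theorem actR3_eq (i : Nat) : actR3 i = Tab.act T D rw3 i := rfl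
noncomputable def actR4 (i : Nat) : Nat := col9 (col9 (i))
theorem actR4_eq (i : Nat) : actR4 i = Tab.act T D rw4 i := rfl
noncomputable def actR5 (i : Nat) : Nat := col10 (col5 (col5 (i)))
theorem actR5_eq (i : Nat) : actR5 i = Tab.act T D rw5 i := rfl
noncomputable def actR6 (i : Nat) : Nat := col12 (col1 (col9 (col0 (col2 (col5 (col2 (col9 (col3 (col5 (col3 (col10 (i))))))))))))
theorem actR6_eq (i : Nat) : actR6 i = Tab.act T D rw6 i := rfl
noncomputable def actR7 (i : Nat) : Nat := col14 (col1 (col2 (col9 (col3 (col0 (col2 (col1 (col5 (col9 (col5 (col0 (col3 (col10 (i))))))))))))))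
theorem actR7_eq (i : Nat) : actR7 i = Tab.act T D rw7 i := rfl
noncomputable def actR8 (i : Nat) : Nat := col16 (col1 (col9 (col0 (col3 (col9 (col2 (col1 (col9 (col0 (col3 (col9 (col2 (i)))))))))))))
theorem actR8_eq (i : Nat) : actR8 i = Tab.act T D rw8 i := rfl
noncomputable def actR9 (i : Nat) : Nat := col18 (col1 (col1 (col5 (col2 (col2 (col0 (col9 (col1 (col3 (col3 (col5 (col0 (col0 (col9 (col10 (i))))))))))))))))
theorem actR9_eq (i : Nat) : actR9 i = Tab.act T D rw9 i := rfl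
noncomputable def actR10 (i : Nat) : Nat := col20 (col1 (col1 (col5 (col3 (col3 (col0 (col9 (col1 (col3 (col3 (col5 (col0 (col0 (col9 (col10 (i))))))))))))))))
theorem actR10_eq (i : Nat) : actR10 i = Tab.act T D rw10 i := rfl
noncomputable def actR11 (i : Nat) : Nat := col22 (col1 (col1 (col2 (col9 (col0 (col5 (col9 (col5 (col1 (col9 (col0 (col2 (col0 (col2 (i)))))))))))))))
theorem actR11_eq (i : Nat) : actR11 i = Tab.act T D rw11 i := rfl
noncomputable def actR12 (i : Nat) : Nat := col24 (col1 (col3 (col0 (col5 (col1 (col9 (col0 (col7 (col3 (col7 (col1 (col9 (col0 (col5 (i)))))))))))))))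
theorem actR12_eq (i : Nat) : actR12 i = Tab.act T D rw12 i := rfl
noncomputable def actR13 (i : Nat) : Nat := col26 (col1 (col2 (col1 (col2 (col9 (col3 (col0 (col3 (col0 (col3 (col1 (col9 (col0 (col2 (i)))))))))))))))
theorem actR13_eq (i : Nat) : actR13 i = Tab.act T D rw13 i := rfl
noncomputable def actR14 (i : Nat) : Nat := col28 (col1 (col1 (col3 (col1 (col1 (col3 (col9 (col2 (col0 (col0 (col2 (col0 (col0 (col9 (i)))))))))))))))
theorem actR14_eq (i : Nat) : actR14 i = Tab.act T D rw14 i := rfl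
noncomputable def actR15 (i : Nat) : Nat := col30 (col1 (col5 (col3 (col9 (col2 (col5 (col0 (col3 (col5 (col1 (col9 (col0 (col5 (col2 (i)))))))))))))))
theorem actR15_eq (i : Nat) : actR15 i = Tab.act T D rw15 i := rfl
noncomputable def actR16 (i : Nat) : Nat := col32 (col1 (col1 (col1 (col2 (col5 (col9 (col5 (col3 (col0 (col0 (col0 (col5 (col9 (col5 (i)))))))))))))))
theorem actR16_eq (i : Nat) : actR16 i = Tab.act T D rw16 i := rfl
noncomputable def actR17 (i : Nat) : Nat := col34 (col1 (col5 (col9 (col5 (col9 (col3 (col3 (col9 (col5 (col9 (col5 (col0 (col3 (col3 (i)))))))))))))))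
theorem actR17_eq (i : Nat) : actR17 i = Tab.act T D rw17 i := rfl
noncomputable def actR18 (i : Nat) : Nat := col36 (col1 (col3 (col9 (col7 (col9 (col5 (col9 (col7 (col9 (col1 (col5 (col0 (col5 (col3 (col10 (i))))))))))))))))
theorem actR18_eq (i : Nat) : actR18 i = Tab.act T D rw18 i := rfl
noncomputable def actR19 (i : Nat) : Nat := col38 (col3 (col9 (col5 (col7 (col3 (col9 (col5 (col7 (col3 (col9 (col5 (col7 (col3 (col9 (col5 (col7 (col3 (col9 (col5 (col7 (col3 (col9 (col5 (col7 (col3 (col9 (col5 (col7 (col3 (col9 (col5 (col7 (i)))))))))))))))))))))))))))))))))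
theorem actR19_eq (i : Nat) : actR19 i = Tab.act T D rw19 i := rfl
noncomputable def actR20 (i : Nat) : Nat := col40 (col10 (col8 (col11 (col9 (i)))))
theorem actR20_eq (i : Nat) : actR20 i = Tab.act T D rw20 i := rfl
noncomputable def actR21 (i : Nat) : Nat := col13 (col13 (col13 (col13 (col13 (i)))))
theorem actR21_eq (i : Nat) : actR21 i = Tab.act T D rw21 i := rfl
noncomputable def actR22 (i : Nat) : Nat := col15 (col15 (col15 (col15 (col15 (i)))))
theorem actR22_eq (i : Nat) : actR22 i = Tab.act T D rw22 i := rfl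
noncomputable def actR23 (i : Nat) : Nat := col17 (col17 (col17 (col17 (col17 (i)))))
theorem actR23_eq (i : Nat) : actR23 i = Tab.act T D rw23 i := rfl
noncomputable def actR24 (i : Nat) : Nat := col19 (col19 (col19 (col19 (col19 (i)))))
theorem actR24_eq (i : Nat) : actR24 i = Tab.act T D rw24 i := rfl
noncomputable def actR25 (i : Nat) : Nat := col21 (col21 (col21 (col21 (col21 (i)))))
theorem actR25_eq (i : Nat) : actR25 i = Tab.act T D rw25 i := rfl
noncomputable def actR26 (i : Nat) : Nat := col23 (col23 (col23 (col23 (col23 (i)))))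
theorem actR26_eq (i : Nat) : actR26 i = Tab.act T D rw26 i := rfl
noncomputable def actR27 (i : Nat) : Nat := col25 (col25 (col25 (col25 (col25 (i)))))
theorem actR27_eq (i : Nat) : actR27 i = Tab.act T D rw27 i := rfl
noncomputable def actR28 (i : Nat) : Nat := col27 (col27 (col27 (col27 (col27 (i)))))
theorem actR28_eq (i : Nat) : actR28 i = Tab.act T D rw28 i := rfl
noncomputable def actR29 (i : Nat) : Nat := col29 (col29 (col29 (col29 (col29 (i)))))
theorem actR29_eq (i : Nat) : actR29 i = Tab.act T D rw29 i := rfl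
noncomputable def actR30 (i : Nat) : Nat := col31 (col31 (col31 (col31 (col31 (i)))))
theorem actR30_eq (i : Nat) : actR30 i = Tab.act T D rw30 i := rfl
noncomputable def actR31 (i : Nat) : Nat := col33 (col33 (col33 (col33 (col33 (i)))))
theorem actR31_eq (i : Nat) : actR31 i = Tab.act T D rw31 i := rfl
noncomputable def actR32 (i : Nat) : Nat := col35 (col35 (col35 (col35 (col35 (i)))))
theorem actR32_eq (i : Nat) : actR32 i = Tab.act T D rw32 i := rfl
noncomputable def actR33 (i : Nat) : Nat := col37 (col37 (col37 (col37 (col37 (i)))))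
theorem actR33_eq (i : Nat) : actR33 i = Tab.act T D rw33 i := rfl
noncomputable def actR34 (i : Nat) : Nat := col39 (col39 (col39 (col39 (col39 (i)))))
theorem actR34_eq (i : Nat) : actR34 i = Tab.act T D rw34 i := rfl
noncomputable def actR35 (i : Nat) : Nat := col41 (col41 (col41 (col41 (col41 (i)))))
theorem actR35_eq (i : Nat) : actR35 i = Tab.act T D rw35 i := rfl
noncomputable def actR36 (i : Nat) : Nat := col13 (col1 (col12 (col0 (i))))
theorem actR36_eq (i : Nat) : actR36 i = Tab.act T D rw36 i := rfl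
noncomputable def actR37 (i : Nat) : Nat := col13 (col3 (col12 (col2 (i))))
theorem actR37_eq (i : Nat) : actR37 i = Tab.act T D rw37 i := rfl
noncomputable def actR38 (i : Nat) : Nat := col13 (col5 (col12 (col4 (i))))
theorem actR38_eq (i : Nat) : actR38 i = Tab.act T D rw38 i := rfl
noncomputable def actR39 (i : Nat) : Nat := col13 (col7 (col12 (col6 (i))))
theorem actR39_eq (i : Nat) : actR39 i = Tab.act T D rw39 i := rfl
noncomputable def actR40 (i : Nat) : Nat := col13 (col9 (col12 (col8 (i))))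
theorem actR40_eq (i : Nat) : actR40 i = Tab.act T D rw40 i := rfl
noncomputable def actR41 (i : Nat) : Nat := col13 (col11 (col12 (col10 (i))))
theorem actR41_eq (i : Nat) : actR41 i = Tab.act T D rw41 i := rfl
noncomputable def actR42 (i : Nat) : Nat := col15 (col1 (col14 (col0 (i))))
theorem actR42_eq (i : Nat) : actR42 i = Tab.act T D rw42 i := rfl
noncomputable def actR43 (i : Nat) : Nat := col15 (col3 (col14 (col2 (i))))
theorem actR43_eq (i : Nat) : actR43 i = Tab.act T D rw43 i := rfl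
noncomputable def actR44 (i : Nat) : Nat := col15 (col5 (col14 (col4 (i))))
theorem actR44_eq (i : Nat) : actR44 i = Tab.act T D rw44 i := rfl
noncomputable def actR45 (i : Nat) : Nat := col15 (col7 (col14 (col6 (i))))
theorem actR45_eq (i : Nat) : actR45 i = Tab.act T D rw45 i := rfl
noncomputable def actR46 (i : Nat) : Nat := col15 (col9 (col14 (col8 (i))))
theorem actR46_eq (i : Nat) : actR46 i = Tab.act T D rw46 i := rfl
noncomputable def actR47 (i : Nat) : Nat := col15 (col11 (col14 (col10 (i))))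
theorem actR47_eq (i : Nat) : actR47 i = Tab.act T D rw47 i := rfl
noncomputable def actR48 (i : Nat) : Nat := col17 (col1 (col16 (col0 (i))))
theorem actR48_eq (i : Nat) : actR48 i = Tab.act T D rw48 i := rfl
noncomputable def actR49 (i : Nat) : Nat := col17 (col3 (col16 (col2 (i))))
theorem actR49_eq (i : Nat) : actR49 i = Tab.act T D rw49 i := rfl
noncomputable def actR50 (i : Nat) : Nat := col17 (col5 (col16 (col4 (i))))
theorem actR50_eq (i : Nat) : actR50 i = Tab.act T D rw50 i := rfl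
noncomputable def actR51 (i : Nat) : Nat := col17 (col7 (col16 (col6 (i))))
theorem actR51_eq (i : Nat) : actR51 i = Tab.act T D rw51 i := rfl
noncomputable def actR52 (i : Nat) : Nat := col17 (col9 (col16 (col8 (i))))
theorem actR52_eq (i : Nat) : actR52 i = Tab.act T D rw52 i := rfl
noncomputable def actR53 (i : Nat) : Nat := col17 (col11 (col16 (col10 (i))))
theorem actR53_eq (i : Nat) : actR53 i = Tab.act T D rw53 i := rfl
noncomputable def actR54 (i : Nat) : Nat := col19 (col1 (col18 (col0 (i))))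
theorem actR54_eq (i : Nat) : actR54 i = Tab.act T D rw54 i := rfl
noncomputable def actR55 (i : Nat) : Nat := col19 (col3 (col18 (col2 (i))))
theorem actR55_eq (i : Nat) : actR55 i = Tab.act T D rw55 i := rfl
noncomputable def actR56 (i : Nat) : Nat := col19 (col5 (col18 (col4 (i))))
theorem actR56_eq (i : Nat) : actR56 i = Tab.act T D rw56 i := rfl
noncomputable def actR57 (i : Nat) : Nat := col19 (col7 (col18 (col6 (i))))
theorem actR57_eq (i : Nat) : actR57 i = Tab.act T D rw57 i := rfl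
noncomputable def actR58 (i : Nat) : Nat := col19 (col9 (col18 (col8 (i))))
theorem actR58_eq (i : Nat) : actR58 i = Tab.act T D rw58 i := rfl
noncomputable def actR59 (i : Nat) : Nat := col19 (col11 (col18 (col10 (i))))
theorem actR59_eq (i : Nat) : actR59 i = Tab.act T D rw59 i := rfl
noncomputable def actR60 (i : Nat) : Nat := col21 (col1 (col20 (col0 (i))))
theorem actR60_eq (i : Nat) : actR60 i = Tab.act T D rw60 i := rfl
noncomputable def actR61 (i : Nat) : Nat := col21 (col3 (col20 (col2 (i))))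
theorem actR61_eq (i : Nat) : actR61 i = Tab.act T D rw61 i := rfl
noncomputable def actR62 (i : Nat) : Nat := col21 (col5 (col20 (col4 (i))))
theorem actR62_eq (i : Nat) : actR62 i = Tab.act T D rw62 i := rfl
noncomputable def actR63 (i : Nat) : Nat := col21 (col7 (col20 (col6 (i))))
theorem actR63_eq (i : Nat) : actR63 i = Tab.act T D rw63 i := rfl
noncomputable def actR64 (i : Nat) : Nat := col21 (col9 (col20 (col8 (i))))
theorem actR64_eq (i : Nat) : actR64 i = Tab.act T D rw64 i := rfl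
noncomputable def actR65 (i : Nat) : Nat := col21 (col11 (col20 (col10 (i))))
theorem actR65_eq (i : Nat) : actR65 i = Tab.act T D rw65 i := rfl
noncomputable def actR66 (i : Nat) : Nat := col23 (col1 (col22 (col0 (i))))
theorem actR66_eq (i : Nat) : actR66 i = Tab.act T D rw66 i := rfl
noncomputable def actR67 (i : Nat) : Nat := col23 (col3 (col22 (col2 (i))))
theorem actR67_eq (i : Nat) : actR67 i = Tab.act T D rw67 i := rfl
noncomputable def actR68 (i : Nat) : Nat := col23 (col5 (col22 (col4 (i))))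
theorem actR68_eq (i : Nat) : actR68 i = Tab.act T D rw68 i := rfl
noncomputable def actR69 (i : Nat) : Nat := col23 (col7 (col22 (col6 (i))))
theorem actR69_eq (i : Nat) : actR69 i = Tab.act T D rw69 i := rfl
noncomputable def actR70 (i : Nat) : Nat := col23 (col9 (col22 (col8 (i))))
theorem actR70_eq (i : Nat) : actR70 i = Tab.act T D rw70 i := rfl
noncomputable def actR71 (i : Nat) : Nat := col23 (col11 (col22 (col10 (i))))
theorem actR71_eq (i : Nat) : actR71 i = Tab.act T D rw71 i := rfl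
noncomputable def actR72 (i : Nat) : Nat := col25 (col1 (col24 (col0 (i))))
theorem actR72_eq (i : Nat) : actR72 i = Tab.act T D rw72 i := rfl
noncomputable def actR73 (i : Nat) : Nat := col25 (col3 (col24 (col2 (i))))
theorem actR73_eq (i : Nat) : actR73 i = Tab.act T D rw73 i := rfl
noncomputable def actR74 (i : Nat) : Nat := col25 (col5 (col24 (col4 (i))))
theorem actR74_eq (i : Nat) : actR74 i = Tab.act T D rw74 i := rfl
noncomputable def actR75 (i : Nat) : Nat := col25 (col7 (col24 (col6 (i))))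
theorem actR75_eq (i : Nat) : actR75 i = Tab.act T D rw75 i := rfl
noncomputable def actR76 (i : Nat) : Nat := col25 (col9 (col24 (col8 (i))))
theorem actR76_eq (i : Nat) : actR76 i = Tab.act T D rw76 i := rfl
noncomputable def actR77 (i : Nat) : Nat := col25 (col11 (col24 (col10 (i))))
theorem actR77_eq (i : Nat) : actR77 i = Tab.act T D rw77 i := rfl
noncomputable def actR78 (i : Nat) : Nat := col27 (col1 (col26 (col0 (i))))
theorem actR78_eq (i : Nat) : actR78 i = Tab.act T D rw78 i := rfl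
noncomputable def actR79 (i : Nat) : Nat := col27 (col3 (col26 (col2 (i))))
theorem actR79_eq (i : Nat) : actR79 i = Tab.act T D rw79 i := rfl
noncomputable def actR80 (i : Nat) : Nat := col27 (col5 (col26 (col4 (i))))
theorem actR80_eq (i : Nat) : actR80 i = Tab.act T D rw80 i := rfl
noncomputable def actR81 (i : Nat) : Nat := col27 (col7 (col26 (col6 (i))))
theorem actR81_eq (i : Nat) : actR81 i = Tab.act T D rw81 i := rfl
noncomputable def actR82 (i : Nat) : Nat := col27 (col9 (col26 (col8 (i))))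
theorem actR82_eq (i : Nat) : actR82 i = Tab.act T D rw82 i := rfl
noncomputable def actR83 (i : Nat) : Nat := col27 (col11 (col26 (col10 (i))))
theorem actR83_eq (i : Nat) : actR83 i = Tab.act T D rw83 i := rfl
noncomputable def actR84 (i : Nat) : Nat := col29 (col1 (col28 (col0 (i))))
theorem actR84_eq (i : Nat) : actR84 i = Tab.act T D rw84 i := rfl
noncomputable def actR85 (i : Nat) : Nat := col29 (col3 (col28 (col2 (i))))
theorem actR85_eq (i : Nat) : actR85 i = Tab.act T D rw85 i := rfl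
noncomputable def actR86 (i : Nat) : Nat := col29 (col5 (col28 (col4 (i))))
theorem actR86_eq (i : Nat) : actR86 i = Tab.act T D rw86 i := rfl
noncomputable def actR87 (i : Nat) : Nat := col29 (col7 (col28 (col6 (i))))
theorem actR87_eq (i : Nat) : actR87 i = Tab.act T D rw87 i := rfl
noncomputable def actR88 (i : Nat) : Nat := col29 (col9 (col28 (col8 (i))))
theorem actR88_eq (i : Nat) : actR88 i = Tab.act T D rw88 i := rfl
noncomputable def actR89 (i : Nat) : Nat := col29 (col11 (col28 (col10 (i))))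
theorem actR89_eq (i : Nat) : actR89 i = Tab.act T D rw89 i := rfl
noncomputable def actR90 (i : Nat) : Nat := col31 (col1 (col30 (col0 (i))))
theorem actR90_eq (i : Nat) : actR90 i = Tab.act T D rw90 i := rfl
noncomputable def actR91 (i : Nat) : Nat := col31 (col3 (col30 (col2 (i))))
theorem actR91_eq (i : Nat) : actR91 i = Tab.act T D rw91 i := rfl
noncomputable def actR92 (i : Nat) : Nat := col31 (col5 (col30 (col4 (i))))
theorem actR92_eq (i : Nat) : actR92 i = Tab.act T D rw92 i := rfl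
noncomputable def actR93 (i : Nat) : Nat := col31 (col7 (col30 (col6 (i))))
theorem actR93_eq (i : Nat) : actR93 i = Tab.act T D rw93 i := rfl
noncomputable def actR94 (i : Nat) : Nat := col31 (col9 (col30 (col8 (i))))
theorem actR94_eq (i : Nat) : actR94 i = Tab.act T D rw94 i := rfl
noncomputable def actR95 (i : Nat) : Nat := col31 (col11 (col30 (col10 (i))))
theorem actR95_eq (i : Nat) : actR95 i = Tab.act T D rw95 i := rfl
noncomputable def actR96 (i : Nat) : Nat := col33 (col1 (col32 (col0 (i))))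
theorem actR96_eq (i : Nat) : actR96 i = Tab.act T D rw96 i := rfl
noncomputable def actR97 (i : Nat) : Nat := col33 (col3 (col32 (col2 (i))))
theorem actR97_eq (i : Nat) : actR97 i = Tab.act T D rw97 i := rfl
noncomputable def actR98 (i : Nat) : Nat := col33 (col5 (col32 (col4 (i))))
theorem actR98_eq (i : Nat) : actR98 i = Tab.act T D rw98 i := rfl
noncomputable def actR99 (i : Nat) : Nat := col33 (col7 (col32 (col6 (i))))
theorem actR99_eq (i : Nat) : actR99 i = Tab.act T D rw99 i := rfl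
noncomputable def actR100 (i : Nat) : Nat := col33 (col9 (col32 (col8 (i))))
theorem actR100_eq (i : Nat) : actR100 i = Tab.act T D rw100 i := rfl
noncomputable def actR101 (i : Nat) : Nat := col33 (col11 (col32 (col10 (i))))
theorem actR101_eq (i : Nat) : actR101 i = Tab.act T D rw101 i := rfl
noncomputable def actR102 (i : Nat) : Nat := col35 (col1 (col34 (col0 (i))))
theorem actR102_eq (i : Nat) : actR102 i = Tab.act T D rw102 i := rfl
noncomputable def actR103 (i : Nat) : Nat := col35 (col3 (col34 (col2 (i))))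
theorem actR103_eq (i : Nat) : actR103 i = Tab.act T D rw103 i := rfl
noncomputable def actR104 (i : Nat) : Nat := col35 (col5 (col34 (col4 (i))))
theorem actR104_eq (i : Nat) : actR104 i = Tab.act T D rw104 i := rfl
noncomputable def actR105 (i : Nat) : Nat := col35 (col7 (col34 (col6 (i))))
theorem actR105_eq (i : Nat) : actR105 i = Tab.act T D rw105 i := rfl
noncomputable def actR106 (i : Nat) : Nat := col35 (col9 (col34 (col8 (i))))
theorem actR106_eq (i : Nat) : actR106 i = Tab.act T D rw106 i := rfl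
noncomputable def actR107 (i : Nat) : Nat := col35 (col11 (col34 (col10 (i))))
theorem actR107_eq (i : Nat) : actR107 i = Tab.act T D rw107 i := rfl
noncomputable def actR108 (i : Nat) : Nat := col37 (col1 (col36 (col0 (i))))
theorem actR108_eq (i : Nat) : actR108 i = Tab.act T D rw108 i := rfl
noncomputable def actR109 (i : Nat) : Nat := col37 (col3 (col36 (col2 (i))))
theorem actR109_eq (i : Nat) : actR109 i = Tab.act T D rw109 i := rfl
noncomputable def actR110 (i : Nat) : Nat := col37 (col5 (col36 (col4 (i))))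
theorem actR110_eq (i : Nat) : actR110 i = Tab.act T D rw110 i := rfl
noncomputable def actR111 (i : Nat) : Nat := col37 (col7 (col36 (col6 (i))))
theorem actR111_eq (i : Nat) : actR111 i = Tab.act T D rw111 i := rfl
noncomputable def actR112 (i : Nat) : Nat := col37 (col9 (col36 (col8 (i))))
theorem actR112_eq (i : Nat) : actR112 i = Tab.act T D rw112 i := rfl
noncomputable def actR113 (i : Nat) : Nat := col37 (col11 (col36 (col10 (i))))
theorem actR113_eq (i : Nat) : actR113 i = Tab.act T D rw113 i := rfl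
noncomputable def actR114 (i : Nat) : Nat := col39 (col1 (col38 (col0 (i))))
theorem actR114_eq (i : Nat) : actR114 i = Tab.act T D rw114 i := rfl
noncomputable def actR115 (i : Nat) : Nat := col39 (col3 (col38 (col2 (i))))
theorem actR115_eq (i : Nat) : actR115 i = Tab.act T D rw115 i := rfl
noncomputable def actR116 (i : Nat) : Nat := col39 (col5 (col38 (col4 (i))))
theorem actR116_eq (i : Nat) : actR116 i = Tab.act T D rw116 i := rfl
noncomputable def actR117 (i : Nat) : Nat := col39 (col7 (col38 (col6 (i))))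
theorem actR117_eq (i : Nat) : actR117 i = Tab.act T D rw117 i := rfl
noncomputable def actR118 (i : Nat) : Nat := col39 (col9 (col38 (col8 (i))))
theorem actR118_eq (i : Nat) : actR118 i = Tab.act T D rw118 i := rfl
noncomputable def actR119 (i : Nat) : Nat := col39 (col11 (col38 (col10 (i))))
theorem actR119_eq (i : Nat) : actR119 i = Tab.act T D rw119 i := rfl
noncomputable def actR120 (i : Nat) : Nat := col41 (col1 (col40 (col0 (i))))
theorem actR120_eq (i : Nat) : actR120 i = Tab.act T D rw120 i := rfl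
noncomputable def actR121 (i : Nat) : Nat := col41 (col3 (col40 (col2 (i))))
theorem actR121_eq (i : Nat) : actR121 i = Tab.act T D rw121 i := rfl
noncomputable def actR122 (i : Nat) : Nat := col41 (col5 (col40 (col4 (i))))
theorem actR122_eq (i : Nat) : actR122 i = Tab.act T D rw122 i := rfl
noncomputable def actR123 (i : Nat) : Nat := col41 (col7 (col40 (col6 (i))))
theorem actR123_eq (i : Nat) : actR123 i = Tab.act T D rw123 i := rfl
noncomputable def actR124 (i : Nat) : Nat := col41 (col9 (col40 (col8 (i))))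
theorem actR124_eq (i : Nat) : actR124 i = Tab.act T D rw124 i := rfl
noncomputable def actR125 (i : Nat) : Nat := col41 (col11 (col40 (col10 (i))))
theorem actR125_eq (i : Nat) : actR125 i = Tab.act T D rw125 i := rfl
noncomputable def actR126 (i : Nat) : Nat := col1 (col1 (col1 (col1 (col1 (col1 (col1 (i)))))))
theorem actR126_eq (i : Nat) : actR126 i = Tab.act T D rw126 i := rfl
noncomputable def actR127 (i : Nat) : Nat := col1 (col1 (col3 (col0 (col3 (col1 (col2 (col1 (col3 (col0 (col3 (i)))))))))))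
theorem actR127_eq (i : Nat) : actR127 i = Tab.act T D rw127 i := rfl
noncomputable def actR128 (i : Nat) : Nat := col1 (col1 (col1 (col3 (col1 (col1 (col1 (col3 (col1 (col1 (col1 (col3 (i))))))))))))
theorem actR128_eq (i : Nat) : actR128 i = Tab.act T D rw128 i := rfl
noncomputable def actR129 (i : Nat) : Nat := col1 (col1 (col3 (col3 (col1 (col1 (col2 (col2 (col1 (col1 (col2 (col2 (i))))))))))))
theorem actR129_eq (i : Nat) : actR129 i = Tab.act T D rw129 i := rfl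
noncomputable def actR130 (i : Nat) : Nat := col5 (col5 (col5 (col5 (i))))
theorem actR130_eq (i : Nat) : actR130 i = Tab.act T D rw130 i := rfl
noncomputable def actR131 (i : Nat) : Nat := col1 (col5 (col2 (col5 (col3 (col0 (col3 (col0 (col0 (col5 (col3 (i)))))))))))
theorem actR131_eq (i : Nat) : actR131 i = Tab.act T D rw131 i := rfl
noncomputable def actR132 (i : Nat) : Nat := col1 (col5 (col0 (col2 (col0 (col2 (col1 (col5 (col0 (col2 (col0 (col2 (col5 (col5 (i))))))))))))))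
theorem actR132_eq (i : Nat) : actR132 i = Tab.act T D rw132 i := rfl
noncomputable def actR133 (i : Nat) : Nat := col7 (col7 (col4 (col4 (i))))
theorem actR133_eq (i : Nat) : actR133 i = Tab.act T D rw133 i := rfl
noncomputable def actR134 (i : Nat) : Nat := col1 (col3 (col0 (col5 (col7 (col3 (col6 (col5 (col4 (col4 (i))))))))))
theorem actR134_eq (i : Nat) : actR134 i = Tab.act T D rw134 i := rfl
noncomputable def actR135 (i : Nat) : Nat := col1 (col3 (col0 (col6 (col5 (col0 (col3 (col1 (col5 (col7 (col4 (col4 (i))))))))))))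
theorem actR135_eq (i : Nat) : actR135 i = Tab.act T D rw135 i := rfl
noncomputable def actR136 (i : Nat) : Nat := col1 (col1 (col5 (col2 (col0 (col2 (col0 (col5 (col3 (col5 (col2 (col1 (col7 (col1 (col7 (col5 (col6 (i)))))))))))))))))
theorem actR136_eq (i : Nat) : actR136 i = Tab.act T D rw136 i := rfl
noncomputable def actR137 (i : Nat) : Nat := col4 (col4 (col0 (col5 (col5 (col1 (i))))))
theorem actR137_eq (i : Nat) : actR137 i = Tab.act T D rw137 i := rfl
noncomputable def actR138 (i : Nat) : Nat := col4 (col4 (col2 (col5 (col5 (col3 (i))))))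
theorem actR138_eq (i : Nat) : actR138 i = Tab.act T D rw138 i := rfl
noncomputable def actR139 (i : Nat) : Nat := col4 (col4 (col6 (col5 (col5 (col7 (i))))))
theorem actR139_eq (i : Nat) : actR139 i = Tab.act T D rw139 i := rfl

end Cfsg.Agent.Lib.Helper4.TCD.SC2Suzp5A
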