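import Cfsg.Agent.Lib.Helper4.TCD_SC2Suzp5A_Acc

namespace Cfsg.Agent.Lib.Helper4.TCD.SC2Suzp5A

open Cfsg.Agent.Lib.Helper4.TC

set_option maxRecDepth 100000
set_option Elab.async false

theorem c_zero : D.zeroOK = true := by decide +kernel
theorem c_base : allBelow D.baseOK 8 = true := by decide +kernel
theorem c_let : allBelow D.letOK 42 = true := by decide +kernel
theorem c_cls0 : T.cls 0 = 0 := by decide +kernel
theorem c_name0 : T.nameOf 0 = 0 := by decide +kernel
theorem c_tab : D.relTabOK 0 (baseRels 42 PSC2Suzp5.invR PSC2Suzp5.P.real subs ++ (baseRels 42 PSC2Suzp5.invR PSC2Suzp5.P.real subs).map (invWord D.inv)) = true := by decide +kernel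
theorem c_real : PSC2Suzp5.P.real = realLit := by decide +kernel
theorem c_subfix : subs.all (fun u => Nat.beq (Tab.act T D u 0) 0) = true := by decide +kernel
theorem c_subs : subs.all (fun u => u.all (fun x => Nat.ble (Nat.succ x) 42)) = true := by decide +kernel
theorem c_names_0 : allRange D.nameOK 1 39875 = true := by decide +kernel
theorem c_cls_0 : allRange (T.clsOK D) 1 15000 = true := by decide +kernel
theorem c_cls_1 : allRange (T.clsOK D) 15001 15000 = true := by decide +kernel
theorem c_cls_2 : allRange (T.clsOK D) 30001 9875 = true := by decide +kernel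
theorem c_rep_0 : allRange (T.repOK D) 0 1782 = true := by decide +kernel
theorem c_rel_0 : allRange D.relOK 39884 3409 = true := by decide +kernel
theorem c_rel_1 : allRange D.relOK 43293 3597 = true := by decide +kernel
theorem c_rel_2 : allRange D.relOK 46890 3506 = true := by decide +kernel
theorem c_rel_3 : allRange D.relOK 50396 3716 = true := by decide +kernel
theorem c_rel_4 : allRange D.relOK 54112 3709 = true := by decide +kernel
theorem c_rel_5 : allRange D.relOK 57821 3710 = true := by decide +kernel
theorem c_rel_6 : allRange D.relOK 61531 3711 = true := by decide +kernel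
theorem c_rel_7 : allRange D.relOK 65242 1961 = true := by decide +kernel
theorem c_rel_8 : allRange D.relOK 67203 1358 = true := by decide +kernel
theorem c_rel_9 : allRange D.relOK 68561 1930 = true := by decide +kernel
theorem c_rel_10 : allRange D.relOK 70491 3188 = true := by decide +kernel
theorem c_rel_11 : allRange D.relOK 73679 3220 = true := by decide +kernel
theorem c_rel_12 : allRange D.relOK 76899 2756 = true := by decide +kernel
theorem c_rel_13 : allRange D.relOK 79655 3022 = true := by decide +kernel
theorem c_rel_14 : allRange D.relOK 82677 1875 = true := by decide +kernel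
theorem c_rel_15 : allRange D.relOK 84552 1655 = true := by decide +kernel
theorem c_rel_16 : allRange D.relOK 86207 1795 = true := by decide +kernel
theorem c_rel_17 : allRange D.relOK 88002 1937 = true := by decide +kernel
theorem c_rel_18 : allRange D.relOK 89939 1998 = true := by decide +kernel
theorem c_rel_19 : allRange D.relOK 91937 2313 = true := by decide +kernel
theorem c_rel_20 : allRange D.relOK 94250 2183 = true := by decide +kernel
theorem c_rel_21 : allRange D.relOK 96433 2288 = true := by decide +kernel
theorem c_rel_22 : allRange D.relOK 98721 2454 = true := by decide +kernel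
theorem c_rel_23 : allRange D.relOK 101175 2448 = true := by decide +kernel
theorem c_rel_24 : allRange D.relOK 103623 2543 = true := by decide +kernel
theorem c_rel_25 : allRange D.relOK 106166 2695 = true := by decide +kernel
theorem c_rel_26 : allRange D.relOK 108861 2406 = true := by decide +kernel
theorem c_rel_27 : allRange D.relOK 111267 2648 = true := by decide +kernel
theorem c_rel_28 : allRange D.relOK 113915 3458 = true := by decide +kernel
theorem c_rel_29 : allRange D.relOK 117373 3373 = true := by decide +kernel
theorem c_rel_30 : allRange D.relOK 120746 3344 = true := by decide +kernel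
theorem c_rel_31 : allRange D.relOK 124090 3324 = true := by decide +kernel
theorem c_rel_32 : allRange D.relOK 127414 3127 = true := by decide +kernel
theorem c_rel_33 : allRange D.relOK 130541 2336 = true := by decide +kernel
theorem c_rel_34 : allRange D.relOK 132877 3024 = true := by decide +kernel
theorem c_rel_35 : allRange D.relOK 135901 2720 = true := by decide +kernel
theorem c_rel_36 : allRange D.relOK 138621 2394 = true := by decide +kernel
theorem c_rel_37 : allRange D.relOK 141015 2512 = true := by decide +kernel
theorem c_rel_38 : allRange D.relOK 143527 4041 = true := by decide +kernel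
theorem c_rel_39 : allRange D.relOK 147568 4367 = true := by decide +kernel
theorem c_rel_40 : allRange D.relOK 151935 4049 = true := by decide +kernel
theorem c_rel_41 : allRange D.relOK 155984 4007 = true := by decide +kernel
theorem c_rel_42 : allRange D.relOK 159991 616 = true := by decide +kernel
theorem c_fin_0 : allGrid (T.finOK D) 0 285 42 = true := by decide +kernel
theorem c_fin_1 : allGrid (T.finOK D) 285 285 42 = true := by decide +kernel
theorem c_fin_2 : allGrid (T.finOK D) 570 285 42 = true := by decide +kernel
theorem c_fin_3 : allGrid (T.finOK D) 855 285 42 = true := by decide +kernel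
theorem c_fin_4 : allGrid (T.finOK D) 1140 285 42 = true := by decide +kernel
theorem c_fin_5 : allGrid (T.finOK D) 1425 285 42 = true := by decide +kernel
theorem c_fin_6 : allGrid (T.finOK D) 1710 72 42 = true := by decide +kernel
theorem c_perm_0 : allGrid (T.permOK1 D) 0 714 42 = true := by decide +kernel
theorem c_perm_1 : allGrid (T.permOK1 D) 714 714 42 = true := by decide +kernel
theorem c_perm_2 : allGrid (T.permOK1 D) 1428 354 42 = true := by decide +kernel
theorem c_act0_0 : allRange (fun i => Nat.beq (actR0 i) i) 0 1782 = true := by decide +kernel
theorem c_act1_0 : allRange (fun i => Nat.beq (actR1 i) i) 0 1782 = true := by decide +kernel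
theorem c_act2_0 : allRange (fun i => Nat.beq (actR2 i) i) 0 1782 = true := by decide +kernel
theorem c_act3_0 : allRange (fun i => Nat.beq (actR3 i) i) 0 1782 = true := by decide +kernel
theorem c_act4_0 : allRange (fun i => Nat.beq (actR4 i) i) 0 1782 = true := by decide +kernel
theorem c_act5_0 : allRange (fun i => Nat.beq (actR5 i) i) 0 1782 = true := by decide +kernel
theorem c_act6_0 : allRange (fun i => Nat.beq (actR6 i) i) 0 1782 = true := by decide +kernel
theorem c_act7_0 : allRange (fun i => Nat.beq (actR7 i) i) 0 1782 = true := by decide +kernel
theorem c_act8_0 : allRange (fun i => Nat.beq (actR8 i) i) 0 1782 = true := by decide +kernel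
theorem c_act9_0 : allRange (fun i => Nat.beq (actR9 i) i) 0 1782 = true := by decide +kernel
theorem c_act10_0 : allRange (fun i => Nat.beq (actR10 i) i) 0 1782 = true := by decide +kernel
theorem c_act11_0 : allRange (fun i => Nat.beq (actR11 i) i) 0 1782 = true := by decide +kernel
theorem c_act12_0 : allRange (fun i => Nat.beq (actR12 i) i) 0 1782 = true := by decide +kernel
theorem c_act13_0 : allRange (fun i => Nat.beq (actR13 i) i) 0 1782 = true := by decide +kernel
theorem c_act14_0 : allRange (fun i => Nat.beq (actR14 i) i) 0 1782 = true := by decide +kernel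
theorem c_act15_0 : allRange (fun i => Nat.beq (actR15 i) i) 0 1782 = true := by decide +kernel
theorem c_act16_0 : allRange (fun i => Nat.beq (actR16 i) i) 0 1782 = true := by decide +kernel
theorem c_act17_0 : allRange (fun i => Nat.beq (actR17 i) i) 0 1782 = true := by decide +kernel
theorem c_act18_0 : allRange (fun i => Nat.beq (actR18 i) i) 0 1782 = true := by decide +kernel
theorem c_act19_0 : allRange (fun i => Nat.beq (actR19 i) i) 0 1782 = true := by decide +kernel
theorem c_act20_0 : allRange (fun i => Nat.beq (actR20 i) i) 0 1782 = true := by decide +kernel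
theorem c_act21_0 : allRange (fun i => Nat.beq (actR21 i) i) 0 1782 = true := by decide +kernel
theorem c_act22_0 : allRange (fun i => Nat.beq (actR22 i) i) 0 1782 = true := by decide +kernel
theorem c_act23_0 : allRange (fun i => Nat.beq (actR23 i) i) 0 1782 = true := by decide +kernel
theorem c_act24_0 : allRange (fun i => Nat.beq (actR24 i) i) 0 1782 = true := by decide +kernel
theorem c_act25_0 : allRange (fun i => Nat.beq (actR25 i) i) 0 1782 = true := by decide +kernel
theorem c_act26_0 : allRange (fun i => Nat.beq (actR26 i) i) 0 1782 = true := by decide +kernel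
theorem c_act27_0 : allRange (fun i => Nat.beq (actR27 i) i) 0 1782 = true := by decide +kernel
theorem c_act28_0 : allRange (fun i => Nat.beq (actR28 i) i) 0 1782 = true := by decide +kernel
theorem c_act29_0 : allRange (fun i => Nat.beq (actR29 i) i) 0 1782 = true := by decide +kernel
theorem c_act30_0 : allRange (fun i => Nat.beq (actR30 i) i) 0 1782 = true := by decide +kernel
theorem c_act31_0 : allRange (fun i => Nat.beq (actR31 i) i) 0 1782 = true := by decide +kernel
theorem c_act32_0 : allRange (fun i => Nat.beq (actR32 i) i) 0 1782 = true := by decide +kernel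
theorem c_act33_0 : allRange (fun i => Nat.beq (actR33 i) i) 0 1782 = true := by decide +kernel
theorem c_act34_0 : allRange (fun i => Nat.beq (actR34 i) i) 0 1782 = true := by decide +kernel
theorem c_act35_0 : allRange (fun i => Nat.beq (actR35 i) i) 0 1782 = true := by decide +kernel
theorem c_act36_0 : allRange (fun i => Nat.beq (actR36 i) i) 0 1782 = true := by decide +kernel
theorem c_act37_0 : allRange (fun i => Nat.beq (actR37 i) i) 0 1782 = true := by decide +kernel
theorem c_act38_0 : allRange (fun i => Nat.beq (actR38 i) i) 0 1782 = true := by decide +kernel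
theorem c_act39_0 : allRange (fun i => Nat.beq (actR39 i) i) 0 1782 = true := by decide +kernel
theorem c_act40_0 : allRange (fun i => Nat.beq (actR40 i) i) 0 1782 = true := by decide +kernel
theorem c_act41_0 : allRange (fun i => Nat.beq (actR41 i) i) 0 1782 = true := by decide +kernel
theorem c_act42_0 : allRange (fun i => Nat.beq (actR42 i) i) 0 1782 = true := by decide +kernel
theorem c_act43_0 : allRange (fun i => Nat.beq (actR43 i) i) 0 1782 = true := by decide +kernel
theorem c_act44_0 : allRange (fun i => Nat.beq (actR44 i) i) 0 1782 = true := by decide +kernel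
theorem c_act45_0 : allRange (fun i => Nat.beq (actR45 i) i) 0 1782 = true := by decide +kernel
theorem c_act46_0 : allRange (fun i => Nat.beq (actR46 i) i) 0 1782 = true := by decide +kernel
theorem c_act47_0 : allRange (fun i => Nat.beq (actR47 i) i) 0 1782 = true := by decide +kernel
theorem c_act48_0 : allRange (fun i => Nat.beq (actR48 i) i) 0 1782 = true := by decide +kernel
theorem c_act49_0 : allRange (fun i => Nat.beq (actR49 i) i) 0 1782 = true := by decide +kernel
theorem c_act50_0 : allRange (fun i => Nat.beq (actR50 i) i) 0 1782 = true := by decide +kernel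
theorem c_act51_0 : allRange (fun i => Nat.beq (actR51 i) i) 0 1782 = true := by decide +kernel
theorem c_act52_0 : allRange (fun i => Nat.beq (actR52 i) i) 0 1782 = true := by decide +kernel
theorem c_act53_0 : allRange (fun i => Nat.beq (actR53 i) i) 0 1782 = true := by decide +kernel
theorem c_act54_0 : allRange (fun i => Nat.beq (actR54 i) i) 0 1782 = true := by decide +kernel
theorem c_act55_0 : allRange (fun i => Nat.beq (actR55 i) i) 0 1782 = true := by decide +kernel
theorem c_act56_0 : allRange (fun i => Nat.beq (actR56 i) i) 0 1782 = true := by decide +kernel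
theorem c_act57_0 : allRange (fun i => Nat.beq (actR57 i) i) 0 1782 = true := by decide +kernel
theorem c_act58_0 : allRange (fun i => Nat.beq (actR58 i) i) 0 1782 = true := by decide +kernel
theorem c_act59_0 : allRange (fun i => Nat.beq (actR59 i) i) 0 1782 = true := by decide +kernel
theorem c_act60_0 : allRange (fun i => Nat.beq (actR60 i) i) 0 1782 = true := by decide +kernel
theorem c_act61_0 : allRange (fun i => Nat.beq (actR61 i) i) 0 1782 = true := by decide +kernel
theorem c_act62_0 : allRange (fun i => Nat.beq (actR62 i) i) 0 1782 = true := by decide +kernel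
theorem c_act63_0 : allRange (fun i => Nat.beq (actR63 i) i) 0 1782 = true := by decide +kernel
theorem c_act64_0 : allRange (fun i => Nat.beq (actR64 i) i) 0 1782 = true := by decide +kernel
theorem c_act65_0 : allRange (fun i => Nat.beq (actR65 i) i) 0 1782 = true := by decide +kernel
theorem c_act66_0 : allRange (fun i => Nat.beq (actR66 i) i) 0 1782 = true := by decide +kernel
theorem c_act67_0 : allRange (fun i => Nat.beq (actR67 i) i) 0 1782 = true := by decide +kernel
theorem c_act68_0 : allRange (fun i => Nat.beq (actR68 i) i) 0 1782 = true := by decide +kernel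
theorem c_act69_0 : allRange (fun i => Nat.beq (actR69 i) i) 0 1782 = true := by decide +kernel
theorem c_act70_0 : allRange (fun i => Nat.beq (actR70 i) i) 0 1782 = true := by decide +kernel
theorem c_act71_0 : allRange (fun i => Nat.beq (actR71 i) i) 0 1782 = true := by decide +kernel
theorem c_act72_0 : allRange (fun i => Nat.beq (actR72 i) i) 0 1782 = true := by decide +kernel
theorem c_act73_0 : allRange (fun i => Nat.beq (actR73 i) i) 0 1782 = true := by decide +kernel
theorem c_act74_0 : allRange (fun i => Nat.beq (actR74 i) i) 0 1782 = true := by decide +kernel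
theorem c_act75_0 : allRange (fun i => Nat.beq (actR75 i) i) 0 1782 = true := by decide +kernel
theorem c_act76_0 : allRange (fun i => Nat.beq (actR76 i) i) 0 1782 = true := by decide +kernel
theorem c_act77_0 : allRange (fun i => Nat.beq (actR77 i) i) 0 1782 = true := by decide +kernel
theorem c_act78_0 : allRange (fun i => Nat.beq (actR78 i) i) 0 1782 = true := by decide +kernel
theorem c_act79_0 : allRange (fun i => Nat.beq (actR79 i) i) 0 1782 = true := by decide +kernel
theorem c_act80_0 : allRange (fun i => Nat.beq (actR80 i) i) 0 1782 = true := by decide +kernel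
theorem c_act81_0 : allRange (fun i => Nat.beq (actR81 i) i) 0 1782 = true := by decide +kernel
theorem c_act82_0 : allRange (fun i => Nat.beq (actR82 i) i) 0 1782 = true := by decide +kernel
theorem c_act83_0 : allRange (fun i => Nat.beq (actR83 i) i) 0 1782 = true := by decide +kernel
theorem c_act84_0 : allRange (fun i => Nat.beq (actR84 i) i) 0 1782 = true := by decide +kernel
theorem c_act85_0 : allRange (fun i => Nat.beq (actR85 i) i) 0 1782 = true := by decide +kernel
theorem c_act86_0 : allRange (fun i => Nat.beq (actR86 i) i) 0 1782 = true := by decide +kernel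
theorem c_act87_0 : allRange (fun i => Nat.beq (actR87 i) i) 0 1782 = true := by decide +kernel
theorem c_act88_0 : allRange (fun i => Nat.beq (actR88 i) i) 0 1782 = true := by decide +kernel
theorem c_act89_0 : allRange (fun i => Nat.beq (actR89 i) i) 0 1782 = true := by decide +kernel
theorem c_act90_0 : allRange (fun i => Nat.beq (actR90 i) i) 0 1782 = true := by decide +kernel
theorem c_act91_0 : allRange (fun i => Nat.beq (actR91 i) i) 0 1782 = true := by decide +kernel
theorem c_act92_0 : allRange (fun i => Nat.beq (actR92 i) i) 0 1782 = true := by decide +kernel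
theorem c_act93_0 : allRange (fun i => Nat.beq (actR93 i) i) 0 1782 = true := by decide +kernel

end Cfsg.Agent.Lib.Helper4.TCD.SC2Suzp5A
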