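import Cfsg.Agent.Lib.Helper4.TCD_SC3Fi22yp3A_Acc

namespace Cfsg.Agent.Lib.Helper4.TCD.SC3Fi22yp3A

open Cfsg.Agent.Lib.Helper4.TC

set_option maxRecDepth 100000
set_option Elab.async false

theorem c_zero : D.zeroOK = true := by decide +kernel
theorem c_base : allBelow D.baseOK 18 = true := by decide +kernel
theorem c_let : allBelow D.letOK 40 = true := by decide +kernel
theorem c_cls0 : T.cls 0 = 0 := by decide +kernel
theorem c_name0 : T.nameOf 0 = 0 := by decide +kernel
theorem c_tab : D.relTabOK 0 (baseRels 40 PSC3Fi22yp3.invR PSC3Fi22yp3.P.real subs ++ (baseRels 40 PSC3Fi22yp3.invR PSC3Fi22yp3.P.real subs).map (invWord D.inv)) = true := by decide +kernel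
theorem c_real : PSC3Fi22yp3.P.real = realLit := by decide +kernel
theorem c_subfix : subs.all (fun u => Nat.beq (Tab.act T D u 0) 0) = true := by decide +kernel
theorem c_subs : subs.all (fun u => u.all (fun x => Nat.ble (Nat.succ x) 40)) = true := by decide +kernel
theorem c_names_0 : allRange D.nameOK 1 19938 = true := by decide +kernel
theorem c_cls_0 : allRange (T.clsOK D) 1 15000 = true := by decide +kernel
theorem c_cls_1 : allRange (T.clsOK D) 15001 4938 = true := by decide +kernel
theorem c_rep_0 : allRange (T.repOK D) 0 14080 = true := by decide +kernel
theorem c_rel_0 : allRange D.relOK 19957 3527 = true := by decide +kernel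
theorem c_rel_1 : allRange D.relOK 23484 3620 = true := by decide +kernel
theorem c_rel_2 : allRange D.relOK 27104 3689 = true := by decide +kernel
theorem c_rel_3 : allRange D.relOK 30793 3599 = true := by decide +kernel
theorem c_rel_4 : allRange D.relOK 34392 3615 = true := by decide +kernel
theorem c_rel_5 : allRange D.relOK 38007 3723 = true := by decide +kernel
theorem c_rel_6 : allRange D.relOK 41730 3648 = true := by decide +kernel
theorem c_rel_7 : allRange D.relOK 45378 3659 = true := by decide +kernel
theorem c_rel_8 : allRange D.relOK 49037 3714 = true := by decide +kernel
theorem c_rel_9 : allRange D.relOK 52751 3459 = true := by decide +kernel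
theorem c_rel_10 : allRange D.relOK 56210 3502 = true := by decide +kernel
theorem c_rel_11 : allRange D.relOK 59712 3619 = true := by decide +kernel
theorem c_rel_12 : allRange D.relOK 63331 3650 = true := by decide +kernel
theorem c_rel_13 : allRange D.relOK 66981 3679 = true := by decide +kernel
theorem c_rel_14 : allRange D.relOK 70660 3692 = true := by decide +kernel
theorem c_rel_15 : allRange D.relOK 74352 3656 = true := by decide +kernel
theorem c_rel_16 : allRange D.relOK 78008 3654 = true := by decide +kernel
theorem c_rel_17 : allRange D.relOK 81662 3556 = true := by decide +kernel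
theorem c_rel_18 : allRange D.relOK 85218 3637 = true := by decide +kernel
theorem c_rel_19 : allRange D.relOK 88855 3468 = true := by decide +kernel
theorem c_rel_20 : allRange D.relOK 92323 3600 = true := by decide +kernel
theorem c_rel_21 : allRange D.relOK 95923 3467 = true := by decide +kernel
theorem c_rel_22 : allRange D.relOK 99390 3491 = true := by decide +kernel
theorem c_rel_23 : allRange D.relOK 102881 3695 = true := by decide +kernel
theorem c_rel_24 : allRange D.relOK 106576 3566 = true := by decide +kernel
theorem c_rel_25 : allRange D.relOK 110142 3546 = true := by decide +kernel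
theorem c_rel_26 : allRange D.relOK 113688 3599 = true := by decide +kernel
theorem c_rel_27 : allRange D.relOK 117287 3666 = true := by decide +kernel
theorem c_rel_28 : allRange D.relOK 120953 3680 = true := by decide +kernel
theorem c_rel_29 : allRange D.relOK 124633 3591 = true := by decide +kernel
theorem c_rel_30 : allRange D.relOK 128224 3675 = true := by decide +kernel
theorem c_rel_31 : allRange D.relOK 131899 3544 = true := by decide +kernel
theorem c_rel_32 : allRange D.relOK 135443 3603 = true := by decide +kernel
theorem c_rel_33 : allRange D.relOK 139046 3651 = true := by decide +kernel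
theorem c_rel_34 : allRange D.relOK 142697 3593 = true := by decide +kernel
theorem c_rel_35 : allRange D.relOK 146290 3584 = true := by decide +kernel
theorem c_rel_36 : allRange D.relOK 149874 3520 = true := by decide +kernel
theorem c_rel_37 : allRange D.relOK 153394 3570 = true := by decide +kernel
theorem c_rel_38 : allRange D.relOK 156964 3346 = true := by decide +kernel
theorem c_rel_39 : allRange D.relOK 160310 3404 = true := by decide +kernel
theorem c_rel_40 : allRange D.relOK 163714 3330 = true := by decide +kernel
theorem c_rel_41 : allRange D.relOK 167044 3433 = true := by decide +kernel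
theorem c_rel_42 : allRange D.relOK 170477 3270 = true := by decide +kernel
theorem c_rel_43 : allRange D.relOK 173747 3168 = true := by decide +kernel
theorem c_rel_44 : allRange D.relOK 176915 3150 = true := by decide +kernel
theorem c_rel_45 : allRange D.relOK 180065 2995 = true := by decide +kernel
theorem c_rel_46 : allRange D.relOK 183060 3097 = true := by decide +kernel
theorem c_rel_47 : allRange D.relOK 186157 3339 = true := by decide +kernel
theorem c_rel_48 : allRange D.relOK 189496 3527 = true := by decide +kernel
theorem c_rel_49 : allRange D.relOK 193023 3737 = true := by decide +kernel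
theorem c_rel_50 : allRange D.relOK 196760 3748 = true := by decide +kernel
theorem c_rel_51 : allRange D.relOK 200508 3690 = true := by decide +kernel
theorem c_rel_52 : allRange D.relOK 204198 3724 = true := by decide +kernel
theorem c_rel_53 : allRange D.relOK 207922 3716 = true := by decide +kernel
theorem c_rel_54 : allRange D.relOK 211638 3674 = true := by decide +kernel
theorem c_rel_55 : allRange D.relOK 215312 3717 = true := by decide +kernel
theorem c_rel_56 : allRange D.relOK 219029 3739 = true := by decide +kernel
theorem c_rel_57 : allRange D.relOK 222768 3730 = true := by decide +kernel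
theorem c_rel_58 : allRange D.relOK 226498 3700 = true := by decide +kernel
theorem c_rel_59 : allRange D.relOK 230198 3755 = true := by decide +kernel
theorem c_rel_60 : allRange D.relOK 233953 3687 = true := by decide +kernel
theorem c_rel_61 : allRange D.relOK 237640 3739 = true := by decide +kernel
theorem c_rel_62 : allRange D.relOK 241379 3753 = true := by decide +kernel
theorem c_rel_63 : allRange D.relOK 245132 3713 = true := by decide +kernel
theorem c_rel_64 : allRange D.relOK 248845 3720 = true := by decide +kernel
theorem c_rel_65 : allRange D.relOK 252565 3608 = true := by decide +kernel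
theorem c_rel_66 : allRange D.relOK 256173 3634 = true := by decide +kernel
theorem c_rel_67 : allRange D.relOK 259807 3704 = true := by decide +kernel
theorem c_rel_68 : allRange D.relOK 263511 3676 = true := by decide +kernel
theorem c_rel_69 : allRange D.relOK 267187 3564 = true := by decide +kernel
theorem c_rel_70 : allRange D.relOK 270751 3622 = true := by decide +kernel
theorem c_rel_71 : allRange D.relOK 274373 3585 = true := by decide +kernel
theorem c_rel_72 : allRange D.relOK 277958 3661 = true := by decide +kernel
theorem c_rel_73 : allRange D.relOK 281619 3452 = true := by decide +kernel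
theorem c_rel_74 : allRange D.relOK 285071 3543 = true := by decide +kernel
theorem c_rel_75 : allRange D.relOK 288614 3403 = true := by decide +kernel
theorem c_rel_76 : allRange D.relOK 292017 3416 = true := by decide +kernel
theorem c_rel_77 : allRange D.relOK 295433 3502 = true := by decide +kernel
theorem c_rel_78 : allRange D.relOK 298935 3272 = true := by decide +kernel
theorem c_rel_79 : allRange D.relOK 302207 3421 = true := by decide +kernel
theorem c_rel_80 : allRange D.relOK 305628 3279 = true := by decide +kernel
theorem c_rel_81 : allRange D.relOK 308907 3209 = true := by decide +kernel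
theorem c_rel_82 : allRange D.relOK 312116 3069 = true := by decide +kernel
theorem c_rel_83 : allRange D.relOK 315185 3112 = true := by decide +kernel
theorem c_rel_84 : allRange D.relOK 318297 3192 = true := by decide +kernel
theorem c_rel_85 : allRange D.relOK 321489 2863 = true := by decide +kernel
theorem c_rel_86 : allRange D.relOK 324352 2949 = true := by decide +kernel
theorem c_rel_87 : allRange D.relOK 327301 2437 = true := by decide +kernel
theorem c_rel_88 : allRange D.relOK 329738 3082 = true := by decide +kernel
theorem c_rel_89 : allRange D.relOK 332820 3786 = true := by decide +kernel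
theorem c_rel_90 : allRange D.relOK 336606 3654 = true := by decide +kernel
theorem c_rel_91 : allRange D.relOK 340260 3639 = true := by decide +kernel
theorem c_rel_92 : allRange D.relOK 343899 3453 = true := by decide +kernel
theorem c_rel_93 : allRange D.relOK 347352 3441 = true := by decide +kernel
theorem c_rel_94 : allRange D.relOK 350793 3426 = true := by decide +kernel

end Cfsg.Agent.Lib.Helper4.TCD.SC3Fi22yp3A
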