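import Cfsg.Agent.Lib.Helper4.TCD_C3Fi22yR_Acc
import Cfsg.Agent.Lib.Helper4.TC13

namespace Cfsg.Agent.Lib.Helper4.TCD.SC3Fi22yp3W

open Cfsg.Agent.Lib.Helper4.TC Cfsg.Agent.Lib.Helper4.TCD.C3Fi22yR

set_option maxRecDepth 100000
set_option Elab.async false

def chk64 : List Nat := [25, 6, 4, 2, 6, 8, 10, 6, 14, 16, 6, 4, 2, 6, 8, 10, 6, 14, 16, 6, 4, 2, 6, 8, 10, 6, 14, 16, 6, 4, 2, 6, 8, 10, 6, 14, 16, 6, 4, 2, 6, 8, 10, 6, 14, 16, 6, 4, 2, 6, 8, 10, 6, 14, 16, 6, 4, 2, 6, 8, 10, 6, 14, 16, 6, 4, 2, 6, 8, 10, 6, 14, 16, 6, 4, 2, 6, 8, 10, 6, 14, 16, 6, 4, 2, 6, 8, 10, 6, 14, 16]
noncomputable def act64 (i : Nat) : Nat := col24 (col7 (col5 (col3 (col7 (col9 (col11 (col7 (col15 (col17 (col7 (col5 (col3 (col7 (col9 (col11 (col7 (col15 (col17 (col7 (col5 (col3 (col7 (col9 (col11 (col7 (col15 (col17 (col7 (col5 (col3 (col7 (col9 (col11 (col7 (col15 (col17 (col7 (col5 (col3 (col7 (col9 (col11 (col7 (col15 (col17 (col7 (col5 (col3 (col7 (col9 (col11 (col7 (col15 (col17 (col7 (col5 (col3 (col7 (col9 (col11 (col7 (col15 (col17 (col7 (col5 (col3 (col7 (col9 (col11 (col7 (col15 (col17 (col7 (col5 (col3 (col7 (col9 (col11 (col7 (col15 (col17 (col7 (col5 (col3 (col7 (col9 (col11 (col7 (col15 (col17 (i)))))))))))))))))))))))))))))))))))))))))))))))))))))))))))))))))))))))))))))))))))))))))))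
theorem act64_eq (i : Nat) : act64 i = Tab.act T D chk64 i := rfl
theorem c64_0 : allRange (fun i => Nat.beq (act64 i) i) 0 645 = true := by decide +kernel
theorem c64_1 : allRange (fun i => Nat.beq (act64 i) i) 645 645 = true := by decide +kernel
theorem c64_2 : allRange (fun i => Nat.beq (act64 i) i) 1290 645 = true := by decide +kernel
theorem c64_3 : allRange (fun i => Nat.beq (act64 i) i) 1935 645 = true := by decide +kernel
theorem c64_4 : allRange (fun i => Nat.beq (act64 i) i) 2580 645 = true := by decide +kernel
theorem c64_5 : allRange (fun i => Nat.beq (act64 i) i) 3225 645 = true := by decide +kernel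
theorem c64_6 : allRange (fun i => Nat.beq (act64 i) i) 3870 645 = true := by decide +kernel
theorem c64_7 : allRange (fun i => Nat.beq (act64 i) i) 4515 645 = true := by decide +kernel
theorem c64_8 : allRange (fun i => Nat.beq (act64 i) i) 5160 645 = true := by decide +kernel
theorem c64_9 : allRange (fun i => Nat.beq (act64 i) i) 5805 645 = true := by decide +kernel
theorem c64_10 : allRange (fun i => Nat.beq (act64 i) i) 6450 645 = true := by decide +kernel
theorem c64_11 : allRange (fun i => Nat.beq (act64 i) i) 7095 645 = true := by decide +kernel
theorem c64_12 : allRange (fun i => Nat.beq (act64 i) i) 7740 645 = true := by decide +kernel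
theorem c64_13 : allRange (fun i => Nat.beq (act64 i) i) 8385 645 = true := by decide +kernel
theorem c64_14 : allRange (fun i => Nat.beq (act64 i) i) 9030 645 = true := by decide +kernel
theorem c64_15 : allRange (fun i => Nat.beq (act64 i) i) 9675 645 = true := by decide +kernel
theorem c64_16 : allRange (fun i => Nat.beq (act64 i) i) 10320 645 = true := by decide +kernel
theorem c64_17 : allRange (fun i => Nat.beq (act64 i) i) 10965 645 = true := by decide +kernel
theorem c64_18 : allRange (fun i => Nat.beq (act64 i) i) 11610 645 = true := by decide +kernel
theorem c64_19 : allRange (fun i => Nat.beq (act64 i) i) 12255 645 = true := by decide +kernel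
theorem c64_20 : allRange (fun i => Nat.beq (act64 i) i) 12900 645 = true := by decide +kernel
theorem c64_21 : allRange (fun i => Nat.beq (act64 i) i) 13545 645 = true := by decide +kernel
theorem c64_22 : allRange (fun i => Nat.beq (act64 i) i) 14190 645 = true := by decide +kernel
theorem c64_23 : allRange (fun i => Nat.beq (act64 i) i) 14835 645 = true := by decide +kernel
theorem c64_24 : allRange (fun i => Nat.beq (act64 i) i) 15480 645 = true := by decide +kernel
theorem c64_25 : allRange (fun i => Nat.beq (act64 i) i) 16125 645 = true := by decide +kernel
theorem c64_26 : allRange (fun i => Nat.beq (act64 i) i) 16770 645 = true := by decide +kernel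
theorem c64_27 : allRange (fun i => Nat.beq (act64 i) i) 17415 645 = true := by decide +kernel
theorem c64_28 : allRange (fun i => Nat.beq (act64 i) i) 18060 645 = true := by decide +kernel
theorem c64_29 : allRange (fun i => Nat.beq (act64 i) i) 18705 645 = true := by decide +kernel
theorem c64_30 : allRange (fun i => Nat.beq (act64 i) i) 19350 645 = true := by decide +kernel
theorem c64_31 : allRange (fun i => Nat.beq (act64 i) i) 19995 645 = true := by decide +kernel
theorem c64_32 : allRange (fun i => Nat.beq (act64 i) i) 20640 645 = true := by decide +kernel
theorem c64_33 : allRange (fun i => Nat.beq (act64 i) i) 21285 645 = true := by decide +kernel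
theorem c64_34 : allRange (fun i => Nat.beq (act64 i) i) 21930 645 = true := by decide +kernel
theorem c64_35 : allRange (fun i => Nat.beq (act64 i) i) 22575 645 = true := by decide +kernel
theorem c64_36 : allRange (fun i => Nat.beq (act64 i) i) 23220 645 = true := by decide +kernel
theorem c64_37 : allRange (fun i => Nat.beq (act64 i) i) 23865 645 = true := by decide +kernel
theorem c64_38 : allRange (fun i => Nat.beq (act64 i) i) 24510 645 = true := by decide +kernel
theorem c64_39 : allRange (fun i => Nat.beq (act64 i) i) 25155 645 = true := by decide +kernel
theorem c64_40 : allRange (fun i => Nat.beq (act64 i) i) 25800 645 = true := by decide +kernel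
theorem c64_41 : allRange (fun i => Nat.beq (act64 i) i) 26445 645 = true := by decide +kernel
theorem c64_42 : allRange (fun i => Nat.beq (act64 i) i) 27090 645 = true := by decide +kernel
theorem c64_43 : allRange (fun i => Nat.beq (act64 i) i) 27735 645 = true := by decide +kernel
theorem c64_44 : allRange (fun i => Nat.beq (act64 i) i) 28380 645 = true := by decide +kernel
theorem c64_45 : allRange (fun i => Nat.beq (act64 i) i) 29025 645 = true := by decide +kernel
theorem c64_46 : allRange (fun i => Nat.beq (act64 i) i) 29670 645 = true := by decide +kernel
theorem c64_47 : allRange (fun i => Nat.beq (act64 i) i) 30315 645 = true := by decide +kernel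
theorem c64_48 : allRange (fun i => Nat.beq (act64 i) i) 30960 645 = true := by decide +kernel
theorem c64_49 : allRange (fun i => Nat.beq (act64 i) i) 31605 645 = true := by decide +kernel
theorem c64_50 : allRange (fun i => Nat.beq (act64 i) i) 32250 645 = true := by decide +kernel
theorem c64_51 : allRange (fun i => Nat.beq (act64 i) i) 32895 645 = true := by decide +kernel
theorem c64_52 : allRange (fun i => Nat.beq (act64 i) i) 33540 645 = true := by decide +kernel
theorem c64_53 : allRange (fun i => Nat.beq (act64 i) i) 34185 645 = true := by decide +kernel
theorem c64_54 : allRange (fun i => Nat.beq (act64 i) i) 34830 645 = true := by decide +kernel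
theorem c64_55 : allRange (fun i => Nat.beq (act64 i) i) 35475 645 = true := by decide +kernel
theorem c64_56 : allRange (fun i => Nat.beq (act64 i) i) 36120 645 = true := by decide +kernel
theorem c64_57 : allRange (fun i => Nat.beq (act64 i) i) 36765 645 = true := by decide +kernel
theorem c64_58 : allRange (fun i => Nat.beq (act64 i) i) 37410 645 = true := by decide +kernel
theorem c64_59 : allRange (fun i => Nat.beq (act64 i) i) 38055 645 = true := by decide +kernel
theorem c64_60 : allRange (fun i => Nat.beq (act64 i) i) 38700 645 = true := by decide +kernel
theorem c64_61 : allRange (fun i => Nat.beq (act64 i) i) 39345 645 = true := by decide +kernel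
theorem c64_62 : allRange (fun i => Nat.beq (act64 i) i) 39990 645 = true := by decide +kernel
theorem c64_63 : allRange (fun i => Nat.beq (act64 i) i) 40635 645 = true := by decide +kernel
theorem c64_64 : allRange (fun i => Nat.beq (act64 i) i) 41280 645 = true := by decide +kernel
theorem c64_65 : allRange (fun i => Nat.beq (act64 i) i) 41925 645 = true := by decide +kernel
theorem c64_66 : allRange (fun i => Nat.beq (act64 i) i) 42570 645 = true := by decide +kernel
theorem c64_67 : allRange (fun i => Nat.beq (act64 i) i) 43215 645 = true := by decide +kernel
theorem c64_68 : allRange (fun i => Nat.beq (act64 i) i) 43860 645 = true := by decide +kernel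
theorem c64_69 : allRange (fun i => Nat.beq (act64 i) i) 44505 645 = true := by decide +kernel
theorem c64_70 : allRange (fun i => Nat.beq (act64 i) i) 45150 645 = true := by decide +kernel
theorem c64_71 : allRange (fun i => Nat.beq (act64 i) i) 45795 645 = true := by decide +kernel
theorem c64_72 : allRange (fun i => Nat.beq (act64 i) i) 46440 645 = true := by decide +kernel
theorem c64_73 : allRange (fun i => Nat.beq (act64 i) i) 47085 645 = true := by decide +kernel
theorem c64_74 : allRange (fun i => Nat.beq (act64 i) i) 47730 645 = true := by decide +kernel
theorem c64_75 : allRange (fun i => Nat.beq (act64 i) i) 48375 645 = true := by decide +kernel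
theorem c64_76 : allRange (fun i => Nat.beq (act64 i) i) 49020 645 = true := by decide +kernel
theorem c64_77 : allRange (fun i => Nat.beq (act64 i) i) 49665 645 = true := by decide +kernel
theorem c64_78 : allRange (fun i => Nat.beq (act64 i) i) 50310 645 = true := by decide +kernel
theorem c64_79 : allRange (fun i => Nat.beq (act64 i) i) 50955 645 = true := by decide +kernel
theorem c64_80 : allRange (fun i => Nat.beq (act64 i) i) 51600 645 = true := by decide +kernel
theorem c64_81 : allRange (fun i => Nat.beq (act64 i) i) 52245 645 = true := by decide +kernel
theorem c64_82 : allRange (fun i => Nat.beq (act64 i) i) 52890 645 = true := by decide +kernel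
theorem c64_83 : allRange (fun i => Nat.beq (act64 i) i) 53535 645 = true := by decide +kernel
theorem c64_84 : allRange (fun i => Nat.beq (act64 i) i) 54180 645 = true := by decide +kernel
theorem c64_85 : allRange (fun i => Nat.beq (act64 i) i) 54825 645 = true := by decide +kernel
theorem c64_86 : allRange (fun i => Nat.beq (act64 i) i) 55470 645 = true := by decide +kernel
theorem c64_87 : allRange (fun i => Nat.beq (act64 i) i) 56115 645 = true := by decide +kernel
theorem c64_88 : allRange (fun i => Nat.beq (act64 i) i) 56760 645 = true := by decide +kernel
theorem c64_89 : allRange (fun i => Nat.beq (act64 i) i) 57405 645 = true := by decide +kernel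
theorem c64_90 : allRange (fun i => Nat.beq (act64 i) i) 58050 645 = true := by decide +kernel
theorem c64_91 : allRange (fun i => Nat.beq (act64 i) i) 58695 645 = true := by decide +kernel
theorem c64_92 : allRange (fun i => Nat.beq (act64 i) i) 59340 645 = true := by decide +kernel
theorem c64_93 : allRange (fun i => Nat.beq (act64 i) i) 59985 645 = true := by decide +kernel
theorem c64_94 : allRange (fun i => Nat.beq (act64 i) i) 60630 645 = true := by decide +kernel
theorem c64_95 : allRange (fun i => Nat.beq (act64 i) i) 61275 645 = true := by decide +kernel
theorem c64_96 : allRange (fun i => Nat.beq (act64 i) i) 61920 645 = true := by decide +kernel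
theorem c64_97 : allRange (fun i => Nat.beq (act64 i) i) 62565 645 = true := by decide +kernel
theorem c64_98 : allRange (fun i => Nat.beq (act64 i) i) 63210 645 = true := by decide +kernel
theorem c64_99 : allRange (fun i => Nat.beq (act64 i) i) 63855 645 = true := by decide +kernel
theorem c64_100 : allRange (fun i => Nat.beq (act64 i) i) 64500 645 = true := by decide +kernel
theorem c64_101 : allRange (fun i => Nat.beq (act64 i) i) 65145 645 = true := by decide +kernel
theorem c64_102 : allRange (fun i => Nat.beq (act64 i) i) 65790 645 = true := by decide +kernel
theorem c64_103 : allRange (fun i => Nat.beq (act64 i) i) 66435 645 = true := by decide +kernel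
theorem c64_104 : allRange (fun i => Nat.beq (act64 i) i) 67080 645 = true := by decide +kernel
theorem c64_105 : allRange (fun i => Nat.beq (act64 i) i) 67725 645 = true := by decide +kernel
theorem c64_106 : allRange (fun i => Nat.beq (act64 i) i) 68370 645 = true := by decide +kernel
theorem c64_107 : allRange (fun i => Nat.beq (act64 i) i) 69015 645 = true := by decide +kernel
theorem c64_108 : allRange (fun i => Nat.beq (act64 i) i) 69660 645 = true := by decide +kernel
theorem c64_109 : allRange (fun i => Nat.beq (act64 i) i) 70305 645 = true := by decide +kernel
theorem c64_110 : allRange (fun i => Nat.beq (act64 i) i) 70950 645 = true := by decide +kernel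
theorem c64_111 : allRange (fun i => Nat.beq (act64 i) i) 71595 645 = true := by decide +kernel
theorem c64_112 : allRange (fun i => Nat.beq (act64 i) i) 72240 645 = true := by decide +kernel
theorem c64_113 : allRange (fun i => Nat.beq (act64 i) i) 72885 645 = true := by decide +kernel
theorem c64_114 : allRange (fun i => Nat.beq (act64 i) i) 73530 645 = true := by decide +kernel
theorem c64_115 : allRange (fun i => Nat.beq (act64 i) i) 74175 645 = true := by decide +kernel
theorem c64_116 : allRange (fun i => Nat.beq (act64 i) i) 74820 645 = true := by decide +kernel
theorem c64_117 : allRange (fun i => Nat.beq (act64 i) i) 75465 645 = true := by decide +kernel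
theorem c64_118 : allRange (fun i => Nat.beq (act64 i) i) 76110 645 = true := by decide +kernel
theorem c64_119 : allRange (fun i => Nat.beq (act64 i) i) 76755 645 = true := by decide +kernel
theorem c64_120 : allRange (fun i => Nat.beq (act64 i) i) 77400 645 = true := by decide +kernel
theorem c64_121 : allRange (fun i => Nat.beq (act64 i) i) 78045 645 = true := by decide +kernel
theorem c64_122 : allRange (fun i => Nat.beq (act64 i) i) 78690 645 = true := by decide +kernel
theorem c64_123 : allRange (fun i => Nat.beq (act64 i) i) 79335 645 = true := by decide +kernel
theorem c64_124 : allRange (fun i => Nat.beq (act64 i) i) 79980 645 = true := by decide +kernel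
theorem c64_125 : allRange (fun i => Nat.beq (act64 i) i) 80625 645 = true := by decide +kernel
theorem c64_126 : allRange (fun i => Nat.beq (act64 i) i) 81270 645 = true := by decide +kernel
theorem c64_127 : allRange (fun i => Nat.beq (act64 i) i) 81915 645 = true := by decide +kernel
theorem c64_128 : allRange (fun i => Nat.beq (act64 i) i) 82560 645 = true := by decide +kernel
theorem c64_129 : allRange (fun i => Nat.beq (act64 i) i) 83205 645 = true := by decide +kernel
theorem c64_130 : allRange (fun i => Nat.beq (act64 i) i) 83850 645 = true := by decide +kernel
theorem c64_131 : allRange (fun i => Nat.beq (act64 i) i) 84495 645 = true := by decide +kernel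
theorem c64_132 : allRange (fun i => Nat.beq (act64 i) i) 85140 645 = true := by decide +kernel
theorem c64_133 : allRange (fun i => Nat.beq (act64 i) i) 85785 645 = true := by decide +kernel
theorem c64_134 : allRange (fun i => Nat.beq (act64 i) i) 86430 645 = true := by decide +kernel
theorem c64_135 : allRange (fun i => Nat.beq (act64 i) i) 87075 645 = true := by decide +kernel
theorem c64_136 : allRange (fun i => Nat.beq (act64 i) i) 87720 645 = true := by decide +kernel
theorem c64_137 : allRange (fun i => Nat.beq (act64 i) i) 88365 645 = true := by decide +kernel
theorem c64_138 : allRange (fun i => Nat.beq (act64 i) i) 89010 645 = true := by decide +kernel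
theorem c64_139 : allRange (fun i => Nat.beq (act64 i) i) 89655 645 = true := by decide +kernel
theorem c64_140 : allRange (fun i => Nat.beq (act64 i) i) 90300 645 = true := by decide +kernel
theorem c64_141 : allRange (fun i => Nat.beq (act64 i) i) 90945 645 = true := by decide +kernel
theorem c64_142 : allRange (fun i => Nat.beq (act64 i) i) 91590 645 = true := by decide +kernel
theorem c64_143 : allRange (fun i => Nat.beq (act64 i) i) 92235 645 = true := by decide +kernel
theorem c64_144 : allRange (fun i => Nat.beq (act64 i) i) 92880 645 = true := by decide +kernel
theorem c64_145 : allRange (fun i => Nat.beq (act64 i) i) 93525 645 = true := by decide +kernel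
theorem c64_146 : allRange (fun i => Nat.beq (act64 i) i) 94170 645 = true := by decide +kernel
theorem c64_147 : allRange (fun i => Nat.beq (act64 i) i) 94815 645 = true := by decide +kernel
theorem c64_148 : allRange (fun i => Nat.beq (act64 i) i) 95460 645 = true := by decide +kernel
theorem c64_149 : allRange (fun i => Nat.beq (act64 i) i) 96105 645 = true := by decide +kernel
theorem c64_150 : allRange (fun i => Nat.beq (act64 i) i) 96750 645 = true := by decide +kernel
theorem c64_151 : allRange (fun i => Nat.beq (act64 i) i) 97395 645 = true := by decide +kernel
theorem c64_152 : allRange (fun i => Nat.beq (act64 i) i) 98040 645 = true := by decide +kernel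
theorem c64_153 : allRange (fun i => Nat.beq (act64 i) i) 98685 645 = true := by decide +kernel
theorem c64_154 : allRange (fun i => Nat.beq (act64 i) i) 99330 645 = true := by decide +kernel
theorem c64_155 : allRange (fun i => Nat.beq (act64 i) i) 99975 645 = true := by decide +kernel
theorem c64_156 : allRange (fun i => Nat.beq (act64 i) i) 100620 645 = true := by decide +kernel
theorem c64_157 : allRange (fun i => Nat.beq (act64 i) i) 101265 645 = true := by decide +kernel
theorem c64_158 : allRange (fun i => Nat.beq (act64 i) i) 101910 645 = true := by decide +kernel
theorem c64_159 : allRange (fun i => Nat.beq (act64 i) i) 102555 645 = true := by decide +kernel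
theorem c64_160 : allRange (fun i => Nat.beq (act64 i) i) 103200 645 = true := by decide +kernel
theorem c64_161 : allRange (fun i => Nat.beq (act64 i) i) 103845 645 = true := by decide +kernel
theorem c64_162 : allRange (fun i => Nat.beq (act64 i) i) 104490 645 = true := by decide +kernel
theorem c64_163 : allRange (fun i => Nat.beq (act64 i) i) 105135 645 = true := by decide +kernel
theorem c64_164 : allRange (fun i => Nat.beq (act64 i) i) 105780 645 = true := by decide +kernel
theorem c64_165 : allRange (fun i => Nat.beq (act64 i) i) 106425 645 = true := by decide +kernel
theorem c64_166 : allRange (fun i => Nat.beq (act64 i) i) 107070 645 = true := by decide +kernel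
theorem c64_167 : allRange (fun i => Nat.beq (act64 i) i) 107715 645 = true := by decide +kernel
theorem c64_168 : allRange (fun i => Nat.beq (act64 i) i) 108360 645 = true := by decide +kernel
theorem c64_169 : allRange (fun i => Nat.beq (act64 i) i) 109005 645 = true := by decide +kernel
theorem c64_170 : allRange (fun i => Nat.beq (act64 i) i) 109650 645 = true := by decide +kernel
theorem c64_171 : allRange (fun i => Nat.beq (act64 i) i) 110295 645 = true := by decide +kernel
theorem c64_172 : allRange (fun i => Nat.beq (act64 i) i) 110940 645 = true := by decide +kernel
theorem c64_173 : allRange (fun i => Nat.beq (act64 i) i) 111585 645 = true := by decide +kernel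
theorem c64_174 : allRange (fun i => Nat.beq (act64 i) i) 112230 645 = true := by decide +kernel
theorem c64_175 : allRange (fun i => Nat.beq (act64 i) i) 112875 645 = true := by decide +kernel
theorem c64_176 : allRange (fun i => Nat.beq (act64 i) i) 113520 645 = true := by decide +kernel
theorem c64_177 : allRange (fun i => Nat.beq (act64 i) i) 114165 645 = true := by decide +kernel
theorem c64_178 : allRange (fun i => Nat.beq (act64 i) i) 114810 645 = true := by decide +kernel
theorem c64_179 : allRange (fun i => Nat.beq (act64 i) i) 115455 645 = true := by decide +kernel
theorem c64_180 : allRange (fun i => Nat.beq (act64 i) i) 116100 645 = true := by decide +kernel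
theorem c64_181 : allRange (fun i => Nat.beq (act64 i) i) 116745 645 = true := by decide +kernel
theorem c64_182 : allRange (fun i => Nat.beq (act64 i) i) 117390 645 = true := by decide +kernel
theorem c64_183 : allRange (fun i => Nat.beq (act64 i) i) 118035 645 = true := by decide +kernel
theorem c64_184 : allRange (fun i => Nat.beq (act64 i) i) 118680 645 = true := by decide +kernel
theorem c64_185 : allRange (fun i => Nat.beq (act64 i) i) 119325 645 = true := by decide +kernel
theorem c64_186 : allRange (fun i => Nat.beq (act64 i) i) 119970 645 = true := by decide +kernel
theorem c64_187 : allRange (fun i => Nat.beq (act64 i) i) 120615 645 = true := by decide +kernel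
theorem c64_188 : allRange (fun i => Nat.beq (act64 i) i) 121260 645 = true := by decide +kernel
theorem c64_189 : allRange (fun i => Nat.beq (act64 i) i) 121905 645 = true := by decide +kernel
theorem c64_190 : allRange (fun i => Nat.beq (act64 i) i) 122550 645 = true := by decide +kernel
theorem c64_191 : allRange (fun i => Nat.beq (act64 i) i) 123195 645 = true := by decide +kernel
theorem c64_192 : allRange (fun i => Nat.beq (act64 i) i) 123840 645 = true := by decide +kernel
theorem c64_193 : allRange (fun i => Nat.beq (act64 i) i) 124485 645 = true := by decide +kernel
theorem c64_194 : allRange (fun i => Nat.beq (act64 i) i) 125130 645 = true := by decide +kernel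
theorem c64_195 : allRange (fun i => Nat.beq (act64 i) i) 125775 645 = true := by decide +kernel
theorem c64_196 : allRange (fun i => Nat.beq (act64 i) i) 126420 645 = true := by decide +kernel
theorem c64_197 : allRange (fun i => Nat.beq (act64 i) i) 127065 645 = true := by decide +kernel
theorem c64_198 : allRange (fun i => Nat.beq (act64 i) i) 127710 645 = true := by decide +kernel
theorem c64_199 : allRange (fun i => Nat.beq (act64 i) i) 128355 645 = true := by decide +kernel
theorem c64_200 : allRange (fun i => Nat.beq (act64 i) i) 129000 645 = true := by decide +kernel
theorem c64_201 : allRange (fun i => Nat.beq (act64 i) i) 129645 645 = true := by decide +kernel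
theorem c64_202 : allRange (fun i => Nat.beq (act64 i) i) 130290 645 = true := by decide +kernel
theorem c64_203 : allRange (fun i => Nat.beq (act64 i) i) 130935 645 = true := by decide +kernel
theorem c64_204 : allRange (fun i => Nat.beq (act64 i) i) 131580 645 = true := by decide +kernel
theorem c64_205 : allRange (fun i => Nat.beq (act64 i) i) 132225 645 = true := by decide +kernel
theorem c64_206 : allRange (fun i => Nat.beq (act64 i) i) 132870 645 = true := by decide +kernel
theorem c64_207 : allRange (fun i => Nat.beq (act64 i) i) 133515 645 = true := by decide +kernel
theorem c64_208 : allRange (fun i => Nat.beq (act64 i) i) 134160 645 = true := by decide +kernel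
theorem c64_209 : allRange (fun i => Nat.beq (act64 i) i) 134805 645 = true := by decide +kernel
theorem c64_210 : allRange (fun i => Nat.beq (act64 i) i) 135450 645 = true := by decide +kernel
theorem c64_211 : allRange (fun i => Nat.beq (act64 i) i) 136095 645 = true := by decide +kernel
theorem c64_212 : allRange (fun i => Nat.beq (act64 i) i) 136740 645 = true := by decide +kernel
theorem c64_213 : allRange (fun i => Nat.beq (act64 i) i) 137385 645 = true := by decide +kernel
theorem c64_214 : allRange (fun i => Nat.beq (act64 i) i) 138030 645 = true := by decide +kernel
theorem c64_215 : allRange (fun i => Nat.beq (act64 i) i) 138675 645 = true := by decide +kernel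
theorem c64_216 : allRange (fun i => Nat.beq (act64 i) i) 139320 645 = true := by decide +kernel
theorem c64_217 : allRange (fun i => Nat.beq (act64 i) i) 139965 645 = true := by decide +kernel
theorem c64_218 : allRange (fun i => Nat.beq (act64 i) i) 140610 645 = true := by decide +kernel
theorem c64_219 : allRange (fun i => Nat.beq (act64 i) i) 141255 645 = true := by decide +kernel
theorem c64_220 : allRange (fun i => Nat.beq (act64 i) i) 141900 645 = true := by decide +kernel
theorem c64_221 : allRange (fun i => Nat.beq (act64 i) i) 142545 645 = true := by decide +kernel
theorem c64_222 : allRange (fun i => Nat.beq (act64 i) i) 143190 645 = true := by decide +kernel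
theorem c64_223 : allRange (fun i => Nat.beq (act64 i) i) 143835 645 = true := by decide +kernel
theorem c64_224 : allRange (fun i => Nat.beq (act64 i) i) 144480 645 = true := by decide +kernel
theorem c64_225 : allRange (fun i => Nat.beq (act64 i) i) 145125 645 = true := by decide +kernel
theorem c64_226 : allRange (fun i => Nat.beq (act64 i) i) 145770 645 = true := by decide +kernel
theorem c64_227 : allRange (fun i => Nat.beq (act64 i) i) 146415 645 = true := by decide +kernel
theorem c64_228 : allRange (fun i => Nat.beq (act64 i) i) 147060 645 = true := by decide +kernel
theorem c64_229 : allRange (fun i => Nat.beq (act64 i) i) 147705 645 = true := by decide +kernel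
theorem c64_230 : allRange (fun i => Nat.beq (act64 i) i) 148350 645 = true := by decide +kernel
theorem c64_231 : allRange (fun i => Nat.beq (act64 i) i) 148995 645 = true := by decide +kernel
theorem c64_232 : allRange (fun i => Nat.beq (act64 i) i) 149640 645 = true := by decide +kernel
theorem c64_233 : allRange (fun i => Nat.beq (act64 i) i) 150285 645 = true := by decide +kernel
theorem c64_234 : allRange (fun i => Nat.beq (act64 i) i) 150930 645 = true := by decide +kernel
theorem c64_235 : allRange (fun i => Nat.beq (act64 i) i) 151575 645 = true := by decide +kernel
theorem c64_236 : allRange (fun i => Nat.beq (act64 i) i) 152220 645 = true := by decide +kernel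
theorem c64_237 : allRange (fun i => Nat.beq (act64 i) i) 152865 645 = true := by decide +kernel
theorem c64_238 : allRange (fun i => Nat.beq (act64 i) i) 153510 645 = true := by decide +kernel
theorem c64_239 : allRange (fun i => Nat.beq (act64 i) i) 154155 645 = true := by decide +kernel
theorem c64_240 : allRange (fun i => Nat.beq (act64 i) i) 154800 645 = true := by decide +kernel
theorem c64_241 : allRange (fun i => Nat.beq (act64 i) i) 155445 645 = true := by decide +kernel
theorem c64_242 : allRange (fun i => Nat.beq (act64 i) i) 156090 645 = true := by decide +kernel
theorem c64_243 : allRange (fun i => Nat.beq (act64 i) i) 156735 645 = true := by decide +kernel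
theorem c64_244 : allRange (fun i => Nat.beq (act64 i) i) 157380 645 = true := by decide +kernel
theorem c64_245 : allRange (fun i => Nat.beq (act64 i) i) 158025 645 = true := by decide +kernel
theorem c64_246 : allRange (fun i => Nat.beq (act64 i) i) 158670 645 = true := by decide +kernel
theorem c64_247 : allRange (fun i => Nat.beq (act64 i) i) 159315 645 = true := by decide +kernel
theorem c64_248 : allRange (fun i => Nat.beq (act64 i) i) 159960 645 = true := by decide +kernel
theorem c64_249 : allRange (fun i => Nat.beq (act64 i) i) 160605 645 = true := by decide +kernel
theorem c64_250 : allRange (fun i => Nat.beq (act64 i) i) 161250 645 = true := by decide +kernel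
theorem c64_251 : allRange (fun i => Nat.beq (act64 i) i) 161895 645 = true := by decide +kernel
theorem c64_252 : allRange (fun i => Nat.beq (act64 i) i) 162540 645 = true := by decide +kernel
theorem c64_253 : allRange (fun i => Nat.beq (act64 i) i) 163185 645 = true := by decide +kernel
theorem c64_254 : allRange (fun i => Nat.beq (act64 i) i) 163830 645 = true := by decide +kernel
theorem c64_255 : allRange (fun i => Nat.beq (act64 i) i) 164475 645 = true := by decide +kernel
theorem c64_256 : allRange (fun i => Nat.beq (act64 i) i) 165120 645 = true := by decide +kernel
theorem c64_257 : allRange (fun i => Nat.beq (act64 i) i) 165765 645 = true := by decide +kernel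
theorem c64_258 : allRange (fun i => Nat.beq (act64 i) i) 166410 645 = true := by decide +kernel
theorem c64_259 : allRange (fun i => Nat.beq (act64 i) i) 167055 645 = true := by decide +kernel
theorem c64_260 : allRange (fun i => Nat.beq (act64 i) i) 167700 645 = true := by decide +kernel
theorem c64_261 : allRange (fun i => Nat.beq (act64 i) i) 168345 645 = true := by decide +kernel
theorem c64_262 : allRange (fun i => Nat.beq (act64 i) i) 168990 645 = true := by decide +kernel
theorem c64_263 : allRange (fun i => Nat.beq (act64 i) i) 169635 645 = true := by decide +kernel
theorem c64_264 : allRange (fun i => Nat.beq (act64 i) i) 170280 645 = true := by decide +kernel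
theorem c64_265 : allRange (fun i => Nat.beq (act64 i) i) 170925 645 = true := by decide +kernel
theorem c64_266 : allRange (fun i => Nat.beq (act64 i) i) 171570 645 = true := by decide +kernel
theorem c64_267 : allRange (fun i => Nat.beq (act64 i) i) 172215 645 = true := by decide +kernel
theorem c64_268 : allRange (fun i => Nat.beq (act64 i) i) 172860 645 = true := by decide +kernel
theorem c64_269 : allRange (fun i => Nat.beq (act64 i) i) 173505 645 = true := by decide +kernel
theorem c64_270 : allRange (fun i => Nat.beq (act64 i) i) 174150 645 = true := by decide +kernel
theorem c64_271 : allRange (fun i => Nat.beq (act64 i) i) 174795 645 = true := by decide +kernel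
theorem c64_272 : allRange (fun i => Nat.beq (act64 i) i) 175440 645 = true := by decide +kernel
theorem c64_273 : allRange (fun i => Nat.beq (act64 i) i) 176085 645 = true := by decide +kernel
theorem c64_274 : allRange (fun i => Nat.beq (act64 i) i) 176730 645 = true := by decide +kernel
theorem c64_275 : allRange (fun i => Nat.beq (act64 i) i) 177375 645 = true := by decide +kernel
theorem c64_276 : allRange (fun i => Nat.beq (act64 i) i) 178020 645 = true := by decide +kernel
theorem c64_277 : allRange (fun i => Nat.beq (act64 i) i) 178665 645 = true := by decide +kernel
theorem c64_278 : allRange (fun i => Nat.beq (act64 i) i) 179310 645 = true := by decide +kernel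
theorem c64_279 : allRange (fun i => Nat.beq (act64 i) i) 179955 645 = true := by decide +kernel
theorem c64_280 : allRange (fun i => Nat.beq (act64 i) i) 180600 645 = true := by decide +kernel
theorem c64_281 : allRange (fun i => Nat.beq (act64 i) i) 181245 645 = true := by decide +kernel
theorem c64_282 : allRange (fun i => Nat.beq (act64 i) i) 181890 645 = true := by decide +kernel
theorem c64_283 : allRange (fun i => Nat.beq (act64 i) i) 182535 645 = true := by decide +kernel
theorem c64_284 : allRange (fun i => Nat.beq (act64 i) i) 183180 645 = true := by decide +kernel
theorem c64_285 : allRange (fun i => Nat.beq (act64 i) i) 183825 645 = true := by decide +kernel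
theorem c64_286 : allRange (fun i => Nat.beq (act64 i) i) 184470 645 = true := by decide +kernel
theorem c64_287 : allRange (fun i => Nat.beq (act64 i) i) 185115 213 = true := by decide +kernel
theorem h64 : ∀ i, i < T.N → Tab.relActOK T D chk64 i = true := by
  intro i hi
  rw [Tab.relActOK, ← act64_eq]
  exact (range_glue (range_of_allRange c64_0) (range_glue (range_of_allRange c64_1) (range_glue (range_of_allRange c64_2) (range_glue (range_of_allRange c64_3) (range_glue (range_of_allRange c64_4) (range_glue (range_of_allRange c64_5) (range_glue (range_of_allRange c64_6) (range_glue (range_of_allRange c64_7) (range_glue (range_of_allRange c64_8) (range_glue (range_of_allRange c64_9) (range_glue (range_of_allRange c64_10) (range_glue (range_of_allRange c64_11) (range_glue (range_of_allRange c64_12) (range_glue (range_of_allRange c64_13) (range_glue (range_of_allRange c64_14) (range_glue (range_of_allRange c64_15) (range_glue (range_of_allRange c64_16) (range_glue (range_of_allRange c64_17) (range_glue (range_of_allRange c64_18) (range_glue (range_of_allRange c64_19) (range_glue (range_of_allRange c64_20) (range_glue (range_of_allRange c64_21) (range_glue (range_of_allRange c64_22) (range_glue (range_of_allRange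 c64_23) (range_glue (range_of_allRange c64_24) (range_glue (range_of_allRange c64_25) (range_glue (range_of_allRange c64_26) (range_glue (range_of_allRange c64_27) (range_glue (range_of_allRange c64_28) (range_glue (range_of_allRange c64_29) (range_glue (range_of_allRange c64_30) (range_glue (range_of_allRange c64_31) (range_glue (range_of_allRange c64_32) (range_glue (range_of_allRange c64_33) (range_glue (range_of_allRange c64_34) (range_glue (range_of_allRange c64_35) (range_glue (range_of_allRange c64_36) (range_glue (range_of_allRange c64_37) (range_glue (range_of_allRange c64_38) (range_glue (range_of_allRange c64_39) (range_glue (range_of_allRange c64_40) (range_glue (range_of_allRange c64_41) (range_glue (range_of_allRange c64_42) (range_glue (range_of_allRange c64_43) (range_glue (range_of_allRange c64_44) (range_glue (range_of_allRange c64_45) (range_glue (range_of_allRange c64_46) (range_glue (range_of_allRange c64_47) (range_glue (range_of_allRange c64_48) (range_glue (range_of_allRange c64_49) (range_glue (range_of_allRange c64_50) (range_glue (range_of_allRange c64_51) (range_glue (range_of_allRange c64_52) (range_glue (range_of_allRange c64_53) (range_glue (range_of_allRange c64_54)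 (range_glue (range_of_allRange c64_55) (range_glue (range_of_allRange c64_56) (range_glue (range_of_allRange c64_57) (range_glue (range_of_allRange c64_58) (range_glue (range_of_allRange c64_59) (range_glue (range_of_allRange c64_60) (range_glue (range_of_allRange c64_61) (range_glue (range_of_allRange c64_62) (range_glue (range_of_allRange c64_63) (range_glue (range_of_allRange c64_64) (range_glue (range_of_allRange c64_65) (range_glue (range_of_allRange c64_66) (range_glue (range_of_allRange c64_67) (range_glue (range_of_allRange c64_68) (range_glue (range_of_allRange c64_69) (range_glue (range_of_allRange c64_70) (range_glue (range_of_allRange c64_71) (range_glue (range_of_allRange c64_72) (range_glue (range_of_allRange c64_73) (range_glue (range_of_allRange c64_74) (range_glue (range_of_allRange c64_75) (range_glue (range_of_allRange c64_76) (range_glue (range_of_allRange c64_77) (range_glue (range_of_allRange c64_78) (range_glue (range_of_allRange c64_79) (range_glue (range_of_allRange c64_80) (range_glue (range_of_allRange c64_81) (range_glue (range_of_allRange c64_82) (range_glue (range_of_allRange c64_83) (range_glue (range_of_allRange c64_84) (range_glue (range_of_allRange c64_85) (range_glue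 (range_of_allRange c64_86) (range_glue (range_of_allRange c64_87) (range_glue (range_of_allRange c64_88) (range_glue (range_of_allRange c64_89) (range_glue (range_of_allRange c64_90) (range_glue (range_of_allRange c64_91) (range_glue (range_of_allRange c64_92) (range_glue (range_of_allRange c64_93) (range_glue (range_of_allRange c64_94) (range_glue (range_of_allRange c64_95) (range_glue (range_of_allRange c64_96) (range_glue (range_of_allRange c64_97) (range_glue (range_of_allRange c64_98) (range_glue (range_of_allRange c64_99) (range_glue (range_of_allRange c64_100) (range_glue (range_of_allRange c64_101) (range_glue (range_of_allRange c64_102) (range_glue (range_of_allRange c64_103) (range_glue (range_of_allRange c64_104) (range_glue (range_of_allRange c64_105) (range_glue (range_of_allRange c64_106) (range_glue (range_of_allRange c64_107) (range_glue (range_of_allRange c64_108) (range_glue (range_of_allRange c64_109) (range_glue (range_of_allRange c64_110) (range_glue (range_of_allRange c64_111) (range_glue (range_of_allRange c64_112) (range_glue (range_of_allRange c64_113) (range_glue (range_of_allRange c64_114) (range_glue (range_of_allRange c64_115) (range_glue (range_of_allRange c64_116) (range_glue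 (range_of_allRange c64_117) (range_glue (range_of_allRange c64_118) (range_glue (range_of_allRange c64_119) (range_glue (range_of_allRange c64_120) (range_glue (range_of_allRange c64_121) (range_glue (range_of_allRange c64_122) (range_glue (range_of_allRange c64_123) (range_glue (range_of_allRange c64_124) (range_glue (range_of_allRange c64_125) (range_glue (range_of_allRange c64_126) (range_glue (range_of_allRange c64_127) (range_glue (range_of_allRange c64_128) (range_glue (range_of_allRange c64_129) (range_glue (range_of_allRange c64_130) (range_glue (range_of_allRange c64_131) (range_glue (range_of_allRange c64_132) (range_glue (range_of_allRange c64_133) (range_glue (range_of_allRange c64_134) (range_glue (range_of_allRange c64_135) (range_glue (range_of_allRange c64_136) (range_glue (range_of_allRange c64_137) (range_glue (range_of_allRange c64_138) (range_glue (range_of_allRange c64_139) (range_glue (range_of_allRange c64_140) (range_glue (range_of_allRange c64_141) (range_glue (range_of_allRange c64_142) (range_glue (range_of_allRange c64_143) (range_glue (range_of_allRange c64_144) (range_glue (range_of_allRange c64_145) (range_glue (range_of_allRange c64_146) (range_glue (range_of_allRange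 c64_147) (range_glue (range_of_allRange c64_148) (range_glue (range_of_allRange c64_149) (range_glue (range_of_allRange c64_150) (range_glue (range_of_allRange c64_151) (range_glue (range_of_allRange c64_152) (range_glue (range_of_allRange c64_153) (range_glue (range_of_allRange c64_154) (range_glue (range_of_allRange c64_155) (range_glue (range_of_allRange c64_156) (range_glue (range_of_allRange c64_157) (range_glue (range_of_allRange c64_158) (range_glue (range_of_allRange c64_159) (range_glue (range_of_allRange c64_160) (range_glue (range_of_allRange c64_161) (range_glue (range_of_allRange c64_162) (range_glue (range_of_allRange c64_163) (range_glue (range_of_allRange c64_164) (range_glue (range_of_allRange c64_165) (range_glue (range_of_allRange c64_166) (range_glue (range_of_allRange c64_167) (range_glue (range_of_allRange c64_168) (range_glue (range_of_allRange c64_169) (range_glue (range_of_allRange c64_170) (range_glue (range_of_allRange c64_171) (range_glue (range_of_allRange c64_172) (range_glue (range_of_allRange c64_173) (range_glue (range_of_allRange c64_174) (range_glue (range_of_allRange c64_175) (range_glue (range_of_allRange c64_176) (range_glue (range_of_allRange c64_177) (range_glue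 (range_of_allRange c64_178) (range_glue (range_of_allRange c64_179) (range_glue (range_of_allRange c64_180) (range_glue (range_of_allRange c64_181) (range_glue (range_of_allRange c64_182) (range_glue (range_of_allRange c64_183) (range_glue (range_of_allRange c64_184) (range_glue (range_of_allRange c64_185) (range_glue (range_of_allRange c64_186) (range_glue (range_of_allRange c64_187) (range_glue (range_of_allRange c64_188) (range_glue (range_of_allRange c64_189) (range_glue (range_of_allRange c64_190) (range_glue (range_of_allRange c64_191) (range_glue (range_of_allRange c64_192) (range_glue (range_of_allRange c64_193) (range_glue (range_of_allRange c64_194) (range_glue (range_of_allRange c64_195) (range_glue (range_of_allRange c64_196) (range_glue (range_of_allRange c64_197) (range_glue (range_of_allRange c64_198) (range_glue (range_of_allRange c64_199) (range_glue (range_of_allRange c64_200) (range_glue (range_of_allRange c64_201) (range_glue (range_of_allRange c64_202) (range_glue (range_of_allRange c64_203) (range_glue (range_of_allRange c64_204) (range_glue (range_of_allRange c64_205) (range_glue (range_of_allRange c64_206) (range_glue (range_of_allRange c64_207) (range_glue (range_of_allRange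 c64_208) (range_glue (range_of_allRange c64_209) (range_glue (range_of_allRange c64_210) (range_glue (range_of_allRange c64_211) (range_glue (range_of_allRange c64_212) (range_glue (range_of_allRange c64_213) (range_glue (range_of_allRange c64_214) (range_glue (range_of_allRange c64_215) (range_glue (range_of_allRange c64_216) (range_glue (range_of_allRange c64_217) (range_glue (range_of_allRange c64_218) (range_glue (range_of_allRange c64_219) (range_glue (range_of_allRange c64_220) (range_glue (range_of_allRange c64_221) (range_glue (range_of_allRange c64_222) (range_glue (range_of_allRange c64_223) (range_glue (range_of_allRange c64_224) (range_glue (range_of_allRange c64_225) (range_glue (range_of_allRange c64_226) (range_glue (range_of_allRange c64_227) (range_glue (range_of_allRange c64_228) (range_glue (range_of_allRange c64_229) (range_glue (range_of_allRange c64_230) (range_glue (range_of_allRange c64_231) (range_glue (range_of_allRange c64_232) (range_glue (range_of_allRange c64_233) (range_glue (range_of_allRange c64_234) (range_glue (range_of_allRange c64_235) (range_glue (range_of_allRange c64_236) (range_glue (range_of_allRange c64_237) (range_glue (range_of_allRange c64_238) (range_glue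 (range_of_allRange c64_239) (range_glue (range_of_allRange c64_240) (range_glue (range_of_allRange c64_241) (range_glue (range_of_allRange c64_242) (range_glue (range_of_allRange c64_243) (range_glue (range_of_allRange c64_244) (range_glue (range_of_allRange c64_245) (range_glue (range_of_allRange c64_246) (range_glue (range_of_allRange c64_247) (range_glue (range_of_allRange c64_248) (range_glue (range_of_allRange c64_249) (range_glue (range_of_allRange c64_250) (range_glue (range_of_allRange c64_251) (range_glue (range_of_allRange c64_252) (range_glue (range_of_allRange c64_253) (range_glue (range_of_allRange c64_254) (range_glue (range_of_allRange c64_255) (range_glue (range_of_allRange c64_256) (range_glue (range_of_allRange c64_257) (range_glue (range_of_allRange c64_258) (range_glue (range_of_allRange c64_259) (range_glue (range_of_allRange c64_260) (range_glue (range_of_allRange c64_261) (range_glue (range_of_allRange c64_262) (range_glue (range_of_allRange c64_263) (range_glue (range_of_allRange c64_264) (range_glue (range_of_allRange c64_265) (range_glue (range_of_allRange c64_266) (range_glue (range_of_allRange c64_267) (range_glue (range_of_allRange c64_268) (range_glue (range_of_allRange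 c64_269) (range_glue (range_of_allRange c64_270) (range_glue (range_of_allRange c64_271) (range_glue (range_of_allRange c64_272) (range_glue (range_of_allRange c64_273) (range_glue (range_of_allRange c64_274) (range_glue (range_of_allRange c64_275) (range_glue (range_of_allRange c64_276) (range_glue (range_of_allRange c64_277) (range_glue (range_of_allRange c64_278) (range_glue (range_of_allRange c64_279) (range_glue (range_of_allRange c64_280) (range_glue (range_of_allRange c64_281) (range_glue (range_of_allRange c64_282) (range_glue (range_of_allRange c64_283) (range_glue (range_of_allRange c64_284) (range_glue (range_of_allRange c64_285) (range_glue (range_of_allRange c64_286) (range_of_allRange c64_287)))))))))))))))))))))))))))))))))))))))))))))))))))))))))))))))))))))))))))))))))))))))))))))))))))))))))))))))))))))))))))))))))))))))))))))))))))))))))))))))))))))))))))))))))))))))))))))))))))))))))))))))))))))))))))))))))))))))))))))))))))))))))))))))))))))))))))))))))))))))))))))))) i (Nat.zero_le _) hi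

end Cfsg.Agent.Lib.Helper4.TCD.SC3Fi22yp3W
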