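import Cfsg.Agent.Lib.Helper4.TCD_SC3Fi22yp5A_Acc

namespace Cfsg.Agent.Lib.Helper4.TCD.SC3Fi22yp5A

open Cfsg.Agent.Lib.Helper4.TC

set_option maxRecDepth 100000
set_option Elab.async false

theorem c_zero : D.zeroOK = true := by decide +kernel
theorem c_base : allBelow D.baseOK 18 = true := by decide +kernel
theorem c_let : allBelow D.letOK 40 = true := by decide +kernel
theorem c_cls0 : T.cls 0 = 0 := by decide +kernel
theorem c_name0 : T.nameOf 0 = 0 := by decide +kernel
theorem c_tab : D.relTabOK 0 (baseRels 40 PSC3Fi22yp5.invR PSC3Fi22yp5.P.real subs ++ (baseRels 40 PSC3Fi22yp5.invR PSC3Fi22yp5.P.real subs).map (invWord D.inv)) = true := by decide +kernel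
theorem c_real : PSC3Fi22yp5.P.real = realLit := by decide +kernel
theorem c_subfix : subs.all (fun u => Nat.beq (Tab.act T D u 0) 0) = true := by decide +kernel
theorem c_subs : subs.all (fun u => u.all (fun x => Nat.ble (Nat.succ x) 40)) = true := by decide +kernel
theorem c_names_0 : allRange D.nameOK 1 19948 = true := by decide +kernel
theorem c_cls_0 : allRange (T.clsOK D) 1 15000 = true := by decide +kernel
theorem c_cls_1 : allRange (T.clsOK D) 15001 4948 = true := by decide +kernel
theorem c_rep_0 : allRange (T.repOK D) 0 14080 = true := by decide +kernel
theorem c_rel_0 : allRange D.relOK 19967 3517 = true := by decide +kernel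
theorem c_rel_1 : allRange D.relOK 23484 3621 = true := by decide +kernel
theorem c_rel_2 : allRange D.relOK 27105 3686 = true := by decide +kernel
theorem c_rel_3 : allRange D.relOK 30791 3599 = true := by decide +kernel
theorem c_rel_4 : allRange D.relOK 34390 3617 = true := by decide +kernel
theorem c_rel_5 : allRange D.relOK 38007 3737 = true := by decide +kernel
theorem c_rel_6 : allRange D.relOK 41744 3634 = true := by decide +kernel
theorem c_rel_7 : allRange D.relOK 45378 3663 = true := by decide +kernel
theorem c_rel_8 : allRange D.relOK 49041 3719 = true := by decide +kernel
theorem c_rel_9 : allRange D.relOK 52760 3473 = true := by decide +kernel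
theorem c_rel_10 : allRange D.relOK 56233 3484 = true := by decide +kernel
theorem c_rel_11 : allRange D.relOK 59717 3618 = true := by decide +kernel
theorem c_rel_12 : allRange D.relOK 63335 3660 = true := by decide +kernel
theorem c_rel_13 : allRange D.relOK 66995 3669 = true := by decide +kernel
theorem c_rel_14 : allRange D.relOK 70664 3694 = true := by decide +kernel
theorem c_rel_15 : allRange D.relOK 74358 3655 = true := by decide +kernel
theorem c_rel_16 : allRange D.relOK 78013 3653 = true := by decide +kernel
theorem c_rel_17 : allRange D.relOK 81666 3563 = true := by decide +kernel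
theorem c_rel_18 : allRange D.relOK 85229 3615 = true := by decide +kernel
theorem c_rel_19 : allRange D.relOK 88844 3475 = true := by decide +kernel
theorem c_rel_20 : allRange D.relOK 92319 3595 = true := by decide +kernel
theorem c_rel_21 : allRange D.relOK 95914 3495 = true := by decide +kernel
theorem c_rel_22 : allRange D.relOK 99409 3459 = true := by decide +kernel
theorem c_rel_23 : allRange D.relOK 102868 3697 = true := by decide +kernel
theorem c_rel_24 : allRange D.relOK 106565 3569 = true := by decide +kernel
theorem c_rel_25 : allRange D.relOK 110134 3543 = true := by decide +kernel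
theorem c_rel_26 : allRange D.relOK 113677 3600 = true := by decide +kernel
theorem c_rel_27 : allRange D.relOK 117277 3676 = true := by decide +kernel
theorem c_rel_28 : allRange D.relOK 120953 3672 = true := by decide +kernel
theorem c_rel_29 : allRange D.relOK 124625 3589 = true := by decide +kernel
theorem c_rel_30 : allRange D.relOK 128214 3653 = true := by decide +kernel
theorem c_rel_31 : allRange D.relOK 131867 3568 = true := by decide +kernel
theorem c_rel_32 : allRange D.relOK 135435 3579 = true := by decide +kernel
theorem c_rel_33 : allRange D.relOK 139014 3655 = true := by decide +kernel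
theorem c_rel_34 : allRange D.relOK 142669 3594 = true := by decide +kernel
theorem c_rel_35 : allRange D.relOK 146263 3581 = true := by decide +kernel
theorem c_rel_36 : allRange D.relOK 149844 3522 = true := by decide +kernel
theorem c_rel_37 : allRange D.relOK 153366 3588 = true := by decide +kernel
theorem c_rel_38 : allRange D.relOK 156954 3330 = true := by decide +kernel
theorem c_rel_39 : allRange D.relOK 160284 3401 = true := by decide +kernel
theorem c_rel_40 : allRange D.relOK 163685 3351 = true := by decide +kernel
theorem c_rel_41 : allRange D.relOK 167036 3438 = true := by decide +kernel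
theorem c_rel_42 : allRange D.relOK 170474 3265 = true := by decide +kernel
theorem c_rel_43 : allRange D.relOK 173739 3152 = true := by decide +kernel
theorem c_rel_44 : allRange D.relOK 176891 3171 = true := by decide +kernel
theorem c_rel_45 : allRange D.relOK 180062 3014 = true := by decide +kernel
theorem c_rel_46 : allRange D.relOK 183076 3067 = true := by decide +kernel
theorem c_rel_47 : allRange D.relOK 186143 3367 = true := by decide +kernel
theorem c_rel_48 : allRange D.relOK 189510 3490 = true := by decide +kernel
theorem c_rel_49 : allRange D.relOK 193000 3737 = true := by decide +kernel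
theorem c_rel_50 : allRange D.relOK 196737 3745 = true := by decide +kernel
theorem c_rel_51 : allRange D.relOK 200482 3690 = true := by decide +kernel
theorem c_rel_52 : allRange D.relOK 204172 3724 = true := by decide +kernel
theorem c_rel_53 : allRange D.relOK 207896 3716 = true := by decide +kernel
theorem c_rel_54 : allRange D.relOK 211612 3678 = true := by decide +kernel
theorem c_rel_55 : allRange D.relOK 215290 3711 = true := by decide +kernel
theorem c_rel_56 : allRange D.relOK 219001 3738 = true := by decide +kernel
theorem c_rel_57 : allRange D.relOK 222739 3764 = true := by decide +kernel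
theorem c_rel_58 : allRange D.relOK 226503 3668 = true := by decide +kernel
theorem c_rel_59 : allRange D.relOK 230171 3757 = true := by decide +kernel
theorem c_rel_60 : allRange D.relOK 233928 3677 = true := by decide +kernel
theorem c_rel_61 : allRange D.relOK 237605 3733 = true := by decide +kernel
theorem c_rel_62 : allRange D.relOK 241338 3754 = true := by decide +kernel
theorem c_rel_63 : allRange D.relOK 245092 3731 = true := by decide +kernel
theorem c_rel_64 : allRange D.relOK 248823 3699 = true := by decide +kernel
theorem c_rel_65 : allRange D.relOK 252522 3608 = true := by decide +kernel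
theorem c_rel_66 : allRange D.relOK 256130 3656 = true := by decide +kernel
theorem c_rel_67 : allRange D.relOK 259786 3700 = true := by decide +kernel
theorem c_rel_68 : allRange D.relOK 263486 3659 = true := by decide +kernel
theorem c_rel_69 : allRange D.relOK 267145 3589 = true := by decide +kernel
theorem c_rel_70 : allRange D.relOK 270734 3604 = true := by decide +kernel
theorem c_rel_71 : allRange D.relOK 274338 3590 = true := by decide +kernel
theorem c_rel_72 : allRange D.relOK 277928 3662 = true := by decide +kernel
theorem c_rel_73 : allRange D.relOK 281590 3446 = true := by decide +kernel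
theorem c_rel_74 : allRange D.relOK 285036 3540 = true := by decide +kernel
theorem c_rel_75 : allRange D.relOK 288576 3410 = true := by decide +kernel
theorem c_rel_76 : allRange D.relOK 291986 3413 = true := by decide +kernel
theorem c_rel_77 : allRange D.relOK 295399 3503 = true := by decide +kernel
theorem c_rel_78 : allRange D.relOK 298902 3290 = true := by decide +kernel
theorem c_rel_79 : allRange D.relOK 302192 3400 = true := by decide +kernel
theorem c_rel_80 : allRange D.relOK 305592 3281 = true := by decide +kernel
theorem c_rel_81 : allRange D.relOK 308873 3229 = true := by decide +kernel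
theorem c_rel_82 : allRange D.relOK 312102 3071 = true := by decide +kernel
theorem c_rel_83 : allRange D.relOK 315173 3111 = true := by decide +kernel
theorem c_rel_84 : allRange D.relOK 318284 3173 = true := by decide +kernel
theorem c_rel_85 : allRange D.relOK 321457 2863 = true := by decide +kernel
theorem c_rel_86 : allRange D.relOK 324320 2942 = true := by decide +kernel
theorem c_rel_87 : allRange D.relOK 327262 2475 = true := by decide +kernel
theorem c_rel_88 : allRange D.relOK 329737 3017 = true := by decide +kernel
theorem c_rel_89 : allRange D.relOK 332754 3789 = true := by decide +kernel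
theorem c_rel_90 : allRange D.relOK 336543 3676 = true := by decide +kernel
theorem c_rel_91 : allRange D.relOK 340219 3653 = true := by decide +kernel
theorem c_rel_92 : allRange D.relOK 343872 3444 = true := by decide +kernel
theorem c_rel_93 : allRange D.relOK 347316 3437 = true := by decide +kernel
theorem c_rel_94 : allRange D.relOK 350753 3388 = true := by decide +kernel

end Cfsg.Agent.Lib.Helper4.TCD.SC3Fi22yp5A
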