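import Cfsg.Agent.Lib.Helper4.TCD_SC3G23p2A_Acc

namespace Cfsg.Agent.Lib.Helper4.TCD.SC3G23p2A

open Cfsg.Agent.Lib.Helper4.TC

set_option maxRecDepth 100000
set_option Elab.async false

theorem c_zero : D.zeroOK = true := by decide +kernel
theorem c_base : allBelow D.baseOK 4 = true := by decide +kernel
theorem c_let : allBelow D.letOK 24 = true := by decide +kernel
theorem c_cls0 : T.cls 0 = 0 := by decide +kernel
theorem c_name0 : T.nameOf 0 = 0 := by decide +kernel
theorem c_tab : D.relTabOK 0 (baseRels 24 PSC3G23p2.invR PSC3G23p2.P.real subs ++ (baseRels 24 PSC3G23p2.invR PSC3G23p2.P.real subs).map (invWord D.inv)) = true := by decide +kernel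
theorem c_real : PSC3G23p2.P.real = realLit := by decide +kernel
theorem c_subfix : subs.all (fun u => Nat.beq (Tab.act T D u 0) 0) = true := by decide +kernel
theorem c_subs : subs.all (fun u => u.all (fun x => Nat.ble (Nat.succ x) 24)) = true := by decide +kernel
theorem c_names_0 : allRange D.nameOK 1 5887 = true := by decide +kernel
theorem c_cls_0 : allRange (T.clsOK D) 1 5887 = true := by decide +kernel
theorem c_rep_0 : allRange (T.repOK D) 0 2106 = true := by decide +kernel
theorem c_rel_0 : allRange D.relOK 5892 3520 = true := by decide +kernel
theorem c_rel_1 : allRange D.relOK 9412 3554 = true := by decide +kernel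
theorem c_rel_2 : allRange D.relOK 12966 3448 = true := by decide +kernel
theorem c_rel_3 : allRange D.relOK 16414 3512 = true := by decide +kernel
theorem c_rel_4 : allRange D.relOK 19926 3469 = true := by decide +kernel
theorem c_rel_5 : allRange D.relOK 23395 3396 = true := by decide +kernel
theorem c_rel_6 : allRange D.relOK 26791 3399 = true := by decide +kernel
theorem c_rel_7 : allRange D.relOK 30190 3232 = true := by decide +kernel
theorem c_rel_8 : allRange D.relOK 33422 2956 = true := by decide +kernel
theorem c_rel_9 : allRange D.relOK 36378 2695 = true := by decide +kernel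
theorem c_rel_10 : allRange D.relOK 39073 1752 = true := by decide +kernel
theorem c_rel_11 : allRange D.relOK 40825 1684 = true := by decide +kernel
theorem c_rel_12 : allRange D.relOK 42509 1975 = true := by decide +kernel
theorem c_rel_13 : allRange D.relOK 44484 3812 = true := by decide +kernel
theorem c_rel_14 : allRange D.relOK 48296 4325 = true := by decide +kernel
theorem c_fin_0 : allGrid (T.finOK D) 0 500 24 = true := by decide +kernel
theorem c_fin_1 : allGrid (T.finOK D) 500 500 24 = true := by decide +kernel
theorem c_fin_2 : allGrid (T.finOK D) 1000 500 24 = true := by decide +kernel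
theorem c_fin_3 : allGrid (T.finOK D) 1500 500 24 = true := by decide +kernel
theorem c_fin_4 : allGrid (T.finOK D) 2000 106 24 = true := by decide +kernel
theorem c_perm_0 : allGrid (T.permOK1 D) 0 1250 24 = true := by decide +kernel
theorem c_perm_1 : allGrid (T.permOK1 D) 1250 856 24 = true := by decide +kernel
theorem c_act0_0 : allRange (fun i => Nat.beq (actR0 i) i) 0 2106 = true := by decide +kernel
theorem c_act1_0 : allRange (fun i => Nat.beq (actR1 i) i) 0 2106 = true := by decide +kernel
theorem c_act2_0 : allRange (fun i => Nat.beq (actR2 i) i) 0 2106 = true := by decide +kernel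
theorem c_act3_0 : allRange (fun i => Nat.beq (actR3 i) i) 0 2106 = true := by decide +kernel
theorem c_act4_0 : allRange (fun i => Nat.beq (actR4 i) i) 0 2106 = true := by decide +kernel
theorem c_act5_0 : allRange (fun i => Nat.beq (actR5 i) i) 0 2106 = true := by decide +kernel
theorem c_act6_0 : allRange (fun i => Nat.beq (actR6 i) i) 0 2106 = true := by decide +kernel
theorem c_act7_0 : allRange (fun i => Nat.beq (actR7 i) i) 0 2106 = true := by decide +kernel
theorem c_act8_0 : allRange (fun i => Nat.beq (actR8 i) i) 0 2106 = true := by decide +kernel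
theorem c_act9_0 : allRange (fun i => Nat.beq (actR9 i) i) 0 2106 = true := by decide +kernel
theorem c_act10_0 : allRange (fun i => Nat.beq (actR10 i) i) 0 2106 = true := by decide +kernel
theorem c_act11_0 : allRange (fun i => Nat.beq (actR11 i) i) 0 2106 = true := by decide +kernel
theorem c_act12_0 : allRange (fun i => Nat.beq (actR12 i) i) 0 2106 = true := by decide +kernel
theorem c_act13_0 : allRange (fun i => Nat.beq (actR13 i) i) 0 2106 = true := by decide +kernel
theorem c_act14_0 : allRange (fun i => Nat.beq (actR14 i) i) 0 2106 = true := by decide +kernel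
theorem c_act15_0 : allRange (fun i => Nat.beq (actR15 i) i) 0 2106 = true := by decide +kernel
theorem c_act16_0 : allRange (fun i => Nat.beq (actR16 i) i) 0 2106 = true := by decide +kernel
theorem c_act17_0 : allRange (fun i => Nat.beq (actR17 i) i) 0 2106 = true := by decide +kernel
theorem c_act18_0 : allRange (fun i => Nat.beq (actR18 i) i) 0 2106 = true := by decide +kernel
theorem c_act19_0 : allRange (fun i => Nat.beq (actR19 i) i) 0 2106 = true := by decide +kernel
theorem c_act20_0 : allRange (fun i => Nat.beq (actR20 i) i) 0 2106 = true := by decide +kernel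
theorem c_act21_0 : allRange (fun i => Nat.beq (actR21 i) i) 0 2106 = true := by decide +kernel
theorem c_act22_0 : allRange (fun i => Nat.beq (actR22 i) i) 0 2106 = true := by decide +kernel
theorem c_act23_0 : allRange (fun i => Nat.beq (actR23 i) i) 0 2106 = true := by decide +kernel
theorem c_act24_0 : allRange (fun i => Nat.beq (actR24 i) i) 0 2106 = true := by decide +kernel
theorem c_act25_0 : allRange (fun i => Nat.beq (actR25 i) i) 0 2106 = true := by decide +kernel
theorem c_act26_0 : allRange (fun i => Nat.beq (actR26 i) i) 0 2106 = true := by decide +kernel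
theorem c_act27_0 : allRange (fun i => Nat.beq (actR27 i) i) 0 2106 = true := by decide +kernel
theorem c_act28_0 : allRange (fun i => Nat.beq (actR28 i) i) 0 2106 = true := by decide +kernel
theorem c_act29_0 : allRange (fun i => Nat.beq (actR29 i) i) 0 2106 = true := by decide +kernel
theorem c_act30_0 : allRange (fun i => Nat.beq (actR30 i) i) 0 2106 = true := by decide +kernel
theorem c_act31_0 : allRange (fun i => Nat.beq (actR31 i) i) 0 2106 = true := by decide +kernel
theorem c_act32_0 : allRange (fun i => Nat.beq (actR32 i) i) 0 2106 = true := by decide +kernel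
theorem c_act33_0 : allRange (fun i => Nat.beq (actR33 i) i) 0 2106 = true := by decide +kernel
theorem c_act34_0 : allRange (fun i => Nat.beq (actR34 i) i) 0 2106 = true := by decide +kernel
theorem c_act35_0 : allRange (fun i => Nat.beq (actR35 i) i) 0 2106 = true := by decide +kernel
theorem c_act36_0 : allRange (fun i => Nat.beq (actR36 i) i) 0 2106 = true := by decide +kernel
theorem c_act37_0 : allRange (fun i => Nat.beq (actR37 i) i) 0 2106 = true := by decide +kernel
theorem c_act38_0 : allRange (fun i => Nat.beq (actR38 i) i) 0 2106 = true := by decide +kernel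
theorem c_act39_0 : allRange (fun i => Nat.beq (actR39 i) i) 0 2106 = true := by decide +kernel
theorem c_act40_0 : allRange (fun i => Nat.beq (actR40 i) i) 0 2106 = true := by decide +kernel
theorem c_act41_0 : allRange (fun i => Nat.beq (actR41 i) i) 0 2106 = true := by decide +kernel
theorem c_act42_0 : allRange (fun i => Nat.beq (actR42 i) i) 0 2106 = true := by decide +kernel
theorem c_act43_0 : allRange (fun i => Nat.beq (actR43 i) i) 0 2106 = true := by decide +kernel
theorem c_act44_0 : allRange (fun i => Nat.beq (actR44 i) i) 0 2106 = true := by decide +kernel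
theorem c_act45_0 : allRange (fun i => Nat.beq (actR45 i) i) 0 2106 = true := by decide +kernel
theorem c_act46_0 : allRange (fun i => Nat.beq (actR46 i) i) 0 2106 = true := by decide +kernel
theorem c_act47_0 : allRange (fun i => Nat.beq (actR47 i) i) 0 2106 = true := by decide +kernel
theorem c_act48_0 : allRange (fun i => Nat.beq (actR48 i) i) 0 2106 = true := by decide +kernel
theorem c_act49_0 : allRange (fun i => Nat.beq (actR49 i) i) 0 2106 = true := by decide +kernel
theorem c_act50_0 : allRange (fun i => Nat.beq (actR50 i) i) 0 2106 = true := by decide +kernel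
theorem c_act51_0 : allRange (fun i => Nat.beq (actR51 i) i) 0 2106 = true := by decide +kernel
theorem c_act52_0 : allRange (fun i => Nat.beq (actR52 i) i) 0 2106 = true := by decide +kernel
theorem c_act53_0 : allRange (fun i => Nat.beq (actR53 i) i) 0 2106 = true := by decide +kernel
theorem c_act54_0 : allRange (fun i => Nat.beq (actR54 i) i) 0 2106 = true := by decide +kernel
theorem c_act55_0 : allRange (fun i => Nat.beq (actR55 i) i) 0 2106 = true := by decide +kernel

end Cfsg.Agent.Lib.Helper4.TCD.SC3G23p2A
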