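import Cfsg.Agent.Lib.Helper4.TC7
import Cfsg.Agent.Lib.Helper4.TCP_SC3G23p3
import Cfsg.Agent.Lib.Helper4.TCD_SC3G23p3A_D0
import Cfsg.Agent.Lib.Helper4.TCD_SC3G23p3A_D1
import Cfsg.Agent.Lib.Helper4.TCD_SC3G23p3A_D2
import Cfsg.Agent.Lib.Helper4.TCD_SC3G23p3A_D3

namespace Cfsg.Agent.Lib.Helper4.TCD.SC3G23p3A

open Cfsg.Agent.Lib.Helper4.TC

set_option maxRecDepth 100000

noncomputable def Atab_s_0_2 (c : Nat) : Nat := @Bool.rec (fun _ => Nat) (Atab_0) (Atab_1) (Nat.ble 1 c)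
noncomputable def Atab_s_2_4 (c : Nat) : Nat := @Bool.rec (fun _ => Nat) (Atab_2) (Atab_3) (Nat.ble 3 c)
noncomputable def Atab_s_0_4 (c : Nat) : Nat := @Bool.rec (fun _ => Nat) (Atab_s_0_2 c) (Atab_s_2_4 c) (Nat.ble 2 c)
noncomputable def Atab_s_4_6 (c : Nat) : Nat := @Bool.rec (fun _ => Nat) (Atab_4) (Atab_5) (Nat.ble 5 c)
noncomputable def Atab_s_6_8 (c : Nat) : Nat := @Bool.rec (fun _ => Nat) (Atab_6) (Atab_7) (Nat.ble 7 c)
noncomputable def Atab_s_4_8 (c : Nat) : Nat := @Bool.rec (fun _ => Nat) (Atab_s_4_6 c) (Atab_s_6_8 c) (Nat.ble 6 c)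
noncomputable def Atab_s_0_8 (c : Nat) : Nat := @Bool.rec (fun _ => Nat) (Atab_s_0_4 c) (Atab_s_4_8 c) (Nat.ble 4 c)
noncomputable def Atab_s_8_10 (c : Nat) : Nat := @Bool.rec (fun _ => Nat) (Atab_8) (Atab_9) (Nat.ble 9 c)
noncomputable def Atab_s_10_12 (c : Nat) : Nat := @Bool.rec (fun _ => Nat) (Atab_10) (Atab_11) (Nat.ble 11 c)
noncomputable def Atab_s_8_12 (c : Nat) : Nat := @Bool.rec (fun _ => Nat) (Atab_s_8_10 c) (Atab_s_10_12 c) (Nat.ble 10 c)
noncomputable def Atab_s_12_14 (c : Nat) : Nat := @Bool.rec (fun _ => Nat) (Atab_12) (Atab_13) (Nat.ble 13 c)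
noncomputable def Atab_s_14_16 (c : Nat) : Nat := @Bool.rec (fun _ => Nat) (Atab_14) (Atab_15) (Nat.ble 15 c)
noncomputable def Atab_s_12_16 (c : Nat) : Nat := @Bool.rec (fun _ => Nat) (Atab_s_12_14 c) (Atab_s_14_16 c) (Nat.ble 14 c)
noncomputable def Atab_s_8_16 (c : Nat) : Nat := @Bool.rec (fun _ => Nat) (Atab_s_8_12 c) (Atab_s_12_16 c) (Nat.ble 12 c)
noncomputable def Atab_s_0_16 (c : Nat) : Nat := @Bool.rec (fun _ => Nat) (Atab_s_0_8 c) (Atab_s_8_16 c) (Nat.ble 8 c)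
noncomputable def Atab_s_16_18 (c : Nat) : Nat := @Bool.rec (fun _ => Nat) (Atab_16) (Atab_17) (Nat.ble 17 c)
noncomputable def Atab_s_18_20 (c : Nat) : Nat := @Bool.rec (fun _ => Nat) (Atab_18) (Atab_19) (Nat.ble 19 c)
noncomputable def Atab_s_16_20 (c : Nat) : Nat := @Bool.rec (fun _ => Nat) (Atab_s_16_18 c) (Atab_s_18_20 c) (Nat.ble 18 c)
noncomputable def Atab_s_20_22 (c : Nat) : Nat := @Bool.rec (fun _ => Nat) (Atab_20) (Atab_21) (Nat.ble 21 c)
noncomputable def Atab_s_22_24 (c : Nat) : Nat := @Bool.rec (fun _ => Nat) (Atab_22) (Atab_23) (Nat.ble 23 c)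
noncomputable def Atab_s_20_24 (c : Nat) : Nat := @Bool.rec (fun _ => Nat) (Atab_s_20_22 c) (Atab_s_22_24 c) (Nat.ble 22 c)
noncomputable def Atab_s_16_24 (c : Nat) : Nat := @Bool.rec (fun _ => Nat) (Atab_s_16_20 c) (Atab_s_20_24 c) (Nat.ble 20 c)
noncomputable def Atab_s_24_26 (c : Nat) : Nat := @Bool.rec (fun _ => Nat) (Atab_24) (Atab_25) (Nat.ble 25 c)
noncomputable def Atab_s_26_28 (c : Nat) : Nat := @Bool.rec (fun _ => Nat) (Atab_26) (Atab_27) (Nat.ble 27 c)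
noncomputable def Atab_s_24_28 (c : Nat) : Nat := @Bool.rec (fun _ => Nat) (Atab_s_24_26 c) (Atab_s_26_28 c) (Nat.ble 26 c)
noncomputable def Atab_s_28_30 (c : Nat) : Nat := @Bool.rec (fun _ => Nat) (Atab_28) (Atab_29) (Nat.ble 29 c)
noncomputable def Atab_s_31_33 (c : Nat) : Nat := @Bool.rec (fun _ => Nat) (Atab_31) (Atab_32) (Nat.ble 32 c)
noncomputable def Atab_s_30_33 (c : Nat) : Nat := @Bool.rec (fun _ => Nat) (Atab_30) (Atab_s_31_33 c) (Nat.ble 31 c)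
noncomputable def Atab_s_28_33 (c : Nat) : Nat := @Bool.rec (fun _ => Nat) (Atab_s_28_30 c) (Atab_s_30_33 c) (Nat.ble 30 c)
noncomputable def Atab_s_24_33 (c : Nat) : Nat := @Bool.rec (fun _ => Nat) (Atab_s_24_28 c) (Atab_s_28_33 c) (Nat.ble 28 c)
noncomputable def Atab_s_16_33 (c : Nat) : Nat := @Bool.rec (fun _ => Nat) (Atab_s_16_24 c) (Atab_s_24_33 c) (Nat.ble 24 c)
noncomputable def Atab_s_0_33 (c : Nat) : Nat := @Bool.rec (fun _ => Nat) (Atab_s_0_16 c) (Atab_s_16_33 c) (Nat.ble 16 c)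
noncomputable def Atab_s_33_35 (c : Nat) : Nat := @Bool.rec (fun _ => Nat) (Atab_33) (Atab_34) (Nat.ble 34 c)
noncomputable def Atab_s_35_37 (c : Nat) : Nat := @Bool.rec (fun _ => Nat) (Atab_35) (Atab_36) (Nat.ble 36 c)
noncomputable def Atab_s_33_37 (c : Nat) : Nat := @Bool.rec (fun _ => Nat) (Atab_s_33_35 c) (Atab_s_35_37 c) (Nat.ble 35 c)
noncomputable def Atab_s_37_39 (c : Nat) : Nat := @Bool.rec (fun _ => Nat) (Atab_37) (Atab_38) (Nat.ble 38 c)
noncomputable def Atab_s_39_41 (c : Nat) : Nat := @Bool.rec (fun _ => Nat) (Atab_39) (Atab_40) (Nat.ble 40 c)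
noncomputable def Atab_s_37_41 (c : Nat) : Nat := @Bool.rec (fun _ => Nat) (Atab_s_37_39 c) (Atab_s_39_41 c) (Nat.ble 39 c)
noncomputable def Atab_s_33_41 (c : Nat) : Nat := @Bool.rec (fun _ => Nat) (Atab_s_33_37 c) (Atab_s_37_41 c) (Nat.ble 37 c)
noncomputable def Atab_s_41_43 (c : Nat) : Nat := @Bool.rec (fun _ => Nat) (Atab_41) (Atab_42) (Nat.ble 42 c)
noncomputable def Atab_s_43_45 (c : Nat) : Nat := @Bool.rec (fun _ => Nat) (Atab_43) (Atab_44) (Nat.ble 44 c)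
noncomputable def Atab_s_41_45 (c : Nat) : Nat := @Bool.rec (fun _ => Nat) (Atab_s_41_43 c) (Atab_s_43_45 c) (Nat.ble 43 c)
noncomputable def Atab_s_45_47 (c : Nat) : Nat := @Bool.rec (fun _ => Nat) (Atab_45) (Atab_46) (Nat.ble 46 c)
noncomputable def Atab_s_48_50 (c : Nat) : Nat := @Bool.rec (fun _ => Nat) (Atab_48) (Atab_49) (Nat.ble 49 c)
noncomputable def Atab_s_47_50 (c : Nat) : Nat := @Bool.rec (fun _ => Nat) (Atab_47) (Atab_s_48_50 c) (Nat.ble 48 c)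
noncomputable def Atab_s_45_50 (c : Nat) : Nat := @Bool.rec (fun _ => Nat) (Atab_s_45_47 c) (Atab_s_47_50 c) (Nat.ble 47 c)
noncomputable def Atab_s_41_50 (c : Nat) : Nat := @Bool.rec (fun _ => Nat) (Atab_s_41_45 c) (Atab_s_45_50 c) (Nat.ble 45 c)
noncomputable def Atab_s_33_50 (c : Nat) : Nat := @Bool.rec (fun _ => Nat) (Atab_s_33_41 c) (Atab_s_41_50 c) (Nat.ble 41 c)
noncomputable def Atab_s_50_52 (c : Nat) : Nat := @Bool.rec (fun _ => Nat) (Atab_50) (Atab_51) (Nat.ble 51 c)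
noncomputable def Atab_s_52_54 (c : Nat) : Nat := @Bool.rec (fun _ => Nat) (Atab_52) (Atab_53) (Nat.ble 53 c)
noncomputable def Atab_s_50_54 (c : Nat) : Nat := @Bool.rec (fun _ => Nat) (Atab_s_50_52 c) (Atab_s_52_54 c) (Nat.ble 52 c)
noncomputable def Atab_s_54_56 (c : Nat) : Nat := @Bool.rec (fun _ => Nat) (Atab_54) (Atab_55) (Nat.ble 55 c)
noncomputable def Atab_s_56_58 (c : Nat) : Nat := @Bool.rec (fun _ => Nat) (Atab_56) (Atab_57) (Nat.ble 57 c)
noncomputable def Atab_s_54_58 (c : Nat) : Nat := @Bool.rec (fun _ => Nat) (Atab_s_54_56 c) (Atab_s_56_58 c) (Nat.ble 56 c)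
noncomputable def Atab_s_50_58 (c : Nat) : Nat := @Bool.rec (fun _ => Nat) (Atab_s_50_54 c) (Atab_s_54_58 c) (Nat.ble 54 c)
noncomputable def Atab_s_58_60 (c : Nat) : Nat := @Bool.rec (fun _ => Nat) (Atab_58) (Atab_59) (Nat.ble 59 c)
noncomputable def Atab_s_60_62 (c : Nat) : Nat := @Bool.rec (fun _ => Nat) (Atab_60) (Atab_61) (Nat.ble 61 c)
noncomputable def Atab_s_58_62 (c : Nat) : Nat := @Bool.rec (fun _ => Nat) (Atab_s_58_60 c) (Atab_s_60_62 c) (Nat.ble 60 c)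
noncomputable def Atab_s_62_64 (c : Nat) : Nat := @Bool.rec (fun _ => Nat) (Atab_62) (Atab_63) (Nat.ble 63 c)
noncomputable def Atab_s_65_67 (c : Nat) : Nat := @Bool.rec (fun _ => Nat) (Atab_65) (Atab_66) (Nat.ble 66 c)
noncomputable def Atab_s_64_67 (c : Nat) : Nat := @Bool.rec (fun _ => Nat) (Atab_64) (Atab_s_65_67 c) (Nat.ble 65 c)
noncomputable def Atab_s_62_67 (c : Nat) : Nat := @Bool.rec (fun _ => Nat) (Atab_s_62_64 c) (Atab_s_64_67 c) (Nat.ble 64 c)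
noncomputable def Atab_s_58_67 (c : Nat) : Nat := @Bool.rec (fun _ => Nat) (Atab_s_58_62 c) (Atab_s_62_67 c) (Nat.ble 62 c)
noncomputable def Atab_s_50_67 (c : Nat) : Nat := @Bool.rec (fun _ => Nat) (Atab_s_50_58 c) (Atab_s_58_67 c) (Nat.ble 58 c)
noncomputable def Atab_s_33_67 (c : Nat) : Nat := @Bool.rec (fun _ => Nat) (Atab_s_33_50 c) (Atab_s_50_67 c) (Nat.ble 50 c)
noncomputable def Atab_s_0_67 (c : Nat) : Nat := @Bool.rec (fun _ => Nat) (Atab_s_0_33 c) (Atab_s_33_67 c) (Nat.ble 33 c)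
noncomputable def Atab (i : Nat) : Nat := rdw 36 68719476735 (Atab_s_0_67 (Nat.shiftRight i 11)) (Nat.land i 2047)
noncomputable def Btab_s_1_3 (c : Nat) : Nat := @Bool.rec (fun _ => Nat) (Btab_1) (Btab_2) (Nat.ble 2 c)
noncomputable def Btab_s_0_3 (c : Nat) : Nat := @Bool.rec (fun _ => Nat) (Btab_0) (Btab_s_1_3 c) (Nat.ble 1 c)
noncomputable def Btab_s_4_6 (c : Nat) : Nat := @Bool.rec (fun _ => Nat) (Btab_4) (Btab_5) (Nat.ble 5 c)
noncomputable def Btab_s_3_6 (c : Nat) : Nat := @Bool.rec (fun _ => Nat) (Btab_3) (Btab_s_4_6 c) (Nat.ble 4 c)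
noncomputable def Btab_s_0_6 (c : Nat) : Nat := @Bool.rec (fun _ => Nat) (Btab_s_0_3 c) (Btab_s_3_6 c) (Nat.ble 3 c)
noncomputable def Btab_s_7_9 (c : Nat) : Nat := @Bool.rec (fun _ => Nat) (Btab_7) (Btab_8) (Nat.ble 8 c)
noncomputable def Btab_s_6_9 (c : Nat) : Nat := @Bool.rec (fun _ => Nat) (Btab_6) (Btab_s_7_9 c) (Nat.ble 7 c)
noncomputable def Btab_s_9_11 (c : Nat) : Nat := @Bool.rec (fun _ => Nat) (Btab_9) (Btab_10) (Nat.ble 10 c)
noncomputable def Btab_s_11_13 (c : Nat) : Nat := @Bool.rec (fun _ => Nat) (Btab_11) (Btab_12) (Nat.ble 12 c)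
noncomputable def Btab_s_9_13 (c : Nat) : Nat := @Bool.rec (fun _ => Nat) (Btab_s_9_11 c) (Btab_s_11_13 c) (Nat.ble 11 c)
noncomputable def Btab_s_6_13 (c : Nat) : Nat := @Bool.rec (fun _ => Nat) (Btab_s_6_9 c) (Btab_s_9_13 c) (Nat.ble 9 c)
noncomputable def Btab_s_0_13 (c : Nat) : Nat := @Bool.rec (fun _ => Nat) (Btab_s_0_6 c) (Btab_s_6_13 c) (Nat.ble 6 c)
noncomputable def Btab_s_14_16 (c : Nat) : Nat := @Bool.rec (fun _ => Nat) (Btab_14) (Btab_15) (Nat.ble 15 c)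
noncomputable def Btab_s_13_16 (c : Nat) : Nat := @Bool.rec (fun _ => Nat) (Btab_13) (Btab_s_14_16 c) (Nat.ble 14 c)
noncomputable def Btab_s_16_18 (c : Nat) : Nat := @Bool.rec (fun _ => Nat) (Btab_16) (Btab_17) (Nat.ble 17 c)
noncomputable def Btab_s_18_20 (c : Nat) : Nat := @Bool.rec (fun _ => Nat) (Btab_18) (Btab_19) (Nat.ble 19 c)
noncomputable def Btab_s_16_20 (c : Nat) : Nat := @Bool.rec (fun _ => Nat) (Btab_s_16_18 c) (Btab_s_18_20 c) (Nat.ble 18 c)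
noncomputable def Btab_s_13_20 (c : Nat) : Nat := @Bool.rec (fun _ => Nat) (Btab_s_13_16 c) (Btab_s_16_20 c) (Nat.ble 16 c)
noncomputable def Btab_s_21_23 (c : Nat) : Nat := @Bool.rec (fun _ => Nat) (Btab_21) (Btab_22) (Nat.ble 22 c)
noncomputable def Btab_s_20_23 (c : Nat) : Nat := @Bool.rec (fun _ => Nat) (Btab_20) (Btab_s_21_23 c) (Nat.ble 21 c)
noncomputable def Btab_s_23_25 (c : Nat) : Nat := @Bool.rec (fun _ => Nat) (Btab_23) (Btab_24) (Nat.ble 24 c)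
noncomputable def Btab_s_25_27 (c : Nat) : Nat := @Bool.rec (fun _ => Nat) (Btab_25) (Btab_26) (Nat.ble 26 c)
noncomputable def Btab_s_23_27 (c : Nat) : Nat := @Bool.rec (fun _ => Nat) (Btab_s_23_25 c) (Btab_s_25_27 c) (Nat.ble 25 c)
noncomputable def Btab_s_20_27 (c : Nat) : Nat := @Bool.rec (fun _ => Nat) (Btab_s_20_23 c) (Btab_s_23_27 c) (Nat.ble 23 c)
noncomputable def Btab_s_13_27 (c : Nat) : Nat := @Bool.rec (fun _ => Nat) (Btab_s_13_20 c) (Btab_s_20_27 c) (Nat.ble 20 c)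
noncomputable def Btab_s_0_27 (c : Nat) : Nat := @Bool.rec (fun _ => Nat) (Btab_s_0_13 c) (Btab_s_13_27 c) (Nat.ble 13 c)
noncomputable def Btab_s_28_30 (c : Nat) : Nat := @Bool.rec (fun _ => Nat) (Btab_28) (Btab_29) (Nat.ble 29 c)
noncomputable def Btab_s_27_30 (c : Nat) : Nat := @Bool.rec (fun _ => Nat) (Btab_27) (Btab_s_28_30 c) (Nat.ble 28 c)
noncomputable def Btab_s_30_32 (c : Nat) : Nat := @Bool.rec (fun _ => Nat) (Btab_30) (Btab_31) (Nat.ble 31 c)
noncomputable def Btab_s_32_34 (c : Nat) : Nat := @Bool.rec (fun _ => Nat) (Btab_32) (Btab_33) (Nat.ble 33 c)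
noncomputable def Btab_s_30_34 (c : Nat) : Nat := @Bool.rec (fun _ => Nat) (Btab_s_30_32 c) (Btab_s_32_34 c) (Nat.ble 32 c)
noncomputable def Btab_s_27_34 (c : Nat) : Nat := @Bool.rec (fun _ => Nat) (Btab_s_27_30 c) (Btab_s_30_34 c) (Nat.ble 30 c)
noncomputable def Btab_s_35_37 (c : Nat) : Nat := @Bool.rec (fun _ => Nat) (Btab_35) (Btab_36) (Nat.ble 36 c)
noncomputable def Btab_s_34_37 (c : Nat) : Nat := @Bool.rec (fun _ => Nat) (Btab_34) (Btab_s_35_37 c) (Nat.ble 35 c)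
noncomputable def Btab_s_37_39 (c : Nat) : Nat := @Bool.rec (fun _ => Nat) (Btab_37) (Btab_38) (Nat.ble 38 c)
noncomputable def Btab_s_39_41 (c : Nat) : Nat := @Bool.rec (fun _ => Nat) (Btab_39) (Btab_40) (Nat.ble 40 c)
noncomputable def Btab_s_37_41 (c : Nat) : Nat := @Bool.rec (fun _ => Nat) (Btab_s_37_39 c) (Btab_s_39_41 c) (Nat.ble 39 c)
noncomputable def Btab_s_34_41 (c : Nat) : Nat := @Bool.rec (fun _ => Nat) (Btab_s_34_37 c) (Btab_s_37_41 c) (Nat.ble 37 c)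
noncomputable def Btab_s_27_41 (c : Nat) : Nat := @Bool.rec (fun _ => Nat) (Btab_s_27_34 c) (Btab_s_34_41 c) (Nat.ble 34 c)
noncomputable def Btab_s_42_44 (c : Nat) : Nat := @Bool.rec (fun _ => Nat) (Btab_42) (Btab_43) (Nat.ble 43 c)
noncomputable def Btab_s_41_44 (c : Nat) : Nat := @Bool.rec (fun _ => Nat) (Btab_41) (Btab_s_42_44 c) (Nat.ble 42 c)
noncomputable def Btab_s_44_46 (c : Nat) : Nat := @Bool.rec (fun _ => Nat) (Btab_44) (Btab_45) (Nat.ble 45 c)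
noncomputable def Btab_s_46_48 (c : Nat) : Nat := @Bool.rec (fun _ => Nat) (Btab_46) (Btab_47) (Nat.ble 47 c)
noncomputable def Btab_s_44_48 (c : Nat) : Nat := @Bool.rec (fun _ => Nat) (Btab_s_44_46 c) (Btab_s_46_48 c) (Nat.ble 46 c)
noncomputable def Btab_s_41_48 (c : Nat) : Nat := @Bool.rec (fun _ => Nat) (Btab_s_41_44 c) (Btab_s_44_48 c) (Nat.ble 44 c)
noncomputable def Btab_s_49_51 (c : Nat) : Nat := @Bool.rec (fun _ => Nat) (Btab_49) (Btab_50) (Nat.ble 50 c)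
noncomputable def Btab_s_48_51 (c : Nat) : Nat := @Bool.rec (fun _ => Nat) (Btab_48) (Btab_s_49_51 c) (Nat.ble 49 c)
noncomputable def Btab_s_51_53 (c : Nat) : Nat := @Bool.rec (fun _ => Nat) (Btab_51) (Btab_52) (Nat.ble 52 c)
noncomputable def Btab_s_53_55 (c : Nat) : Nat := @Bool.rec (fun _ => Nat) (Btab_53) (Btab_54) (Nat.ble 54 c)
noncomputable def Btab_s_51_55 (c : Nat) : Nat := @Bool.rec (fun _ => Nat) (Btab_s_51_53 c) (Btab_s_53_55 c) (Nat.ble 53 c)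
noncomputable def Btab_s_48_55 (c : Nat) : Nat := @Bool.rec (fun _ => Nat) (Btab_s_48_51 c) (Btab_s_51_55 c) (Nat.ble 51 c)
noncomputable def Btab_s_41_55 (c : Nat) : Nat := @Bool.rec (fun _ => Nat) (Btab_s_41_48 c) (Btab_s_48_55 c) (Nat.ble 48 c)
noncomputable def Btab_s_27_55 (c : Nat) : Nat := @Bool.rec (fun _ => Nat) (Btab_s_27_41 c) (Btab_s_41_55 c) (Nat.ble 41 c)
noncomputable def Btab_s_0_55 (c : Nat) : Nat := @Bool.rec (fun _ => Nat) (Btab_s_0_27 c) (Btab_s_27_55 c) (Nat.ble 27 c)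
noncomputable def Btab (i : Nat) : Nat := rdw 40 1099511627775 (Btab_s_0_55 (Nat.shiftRight i 11)) (Nat.land i 2047)
noncomputable def Ptab_s_1_3 (c : Nat) : Nat := @Bool.rec (fun _ => Nat) (Ptab_1) (Ptab_2) (Nat.ble 2 c)
noncomputable def Ptab_s_0_3 (c : Nat) : Nat := @Bool.rec (fun _ => Nat) (Ptab_0) (Ptab_s_1_3 c) (Nat.ble 1 c)
noncomputable def Ptab_s_3_5 (c : Nat) : Nat := @Bool.rec (fun _ => Nat) (Ptab_3) (Ptab_4) (Nat.ble 4 c)
noncomputable def Ptab_s_5_7 (c : Nat) : Nat := @Bool.rec (fun _ => Nat) (Ptab_5) (Ptab_6) (Nat.ble 6 c)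
noncomputable def Ptab_s_3_7 (c : Nat) : Nat := @Bool.rec (fun _ => Nat) (Ptab_s_3_5 c) (Ptab_s_5_7 c) (Nat.ble 5 c)
noncomputable def Ptab_s_0_7 (c : Nat) : Nat := @Bool.rec (fun _ => Nat) (Ptab_s_0_3 c) (Ptab_s_3_7 c) (Nat.ble 3 c)
noncomputable def Ptab_s_8_10 (c : Nat) : Nat := @Bool.rec (fun _ => Nat) (Ptab_8) (Ptab_9) (Nat.ble 9 c)
noncomputable def Ptab_s_7_10 (c : Nat) : Nat := @Bool.rec (fun _ => Nat) (Ptab_7) (Ptab_s_8_10 c) (Nat.ble 8 c)
noncomputable def Ptab_s_10_12 (c : Nat) : Nat := @Bool.rec (fun _ => Nat) (Ptab_10) (Ptab_11) (Nat.ble 11 c)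
noncomputable def Ptab_s_12_14 (c : Nat) : Nat := @Bool.rec (fun _ => Nat) (Ptab_12) (Ptab_13) (Nat.ble 13 c)
noncomputable def Ptab_s_10_14 (c : Nat) : Nat := @Bool.rec (fun _ => Nat) (Ptab_s_10_12 c) (Ptab_s_12_14 c) (Nat.ble 12 c)
noncomputable def Ptab_s_7_14 (c : Nat) : Nat := @Bool.rec (fun _ => Nat) (Ptab_s_7_10 c) (Ptab_s_10_14 c) (Nat.ble 10 c)
noncomputable def Ptab_s_0_14 (c : Nat) : Nat := @Bool.rec (fun _ => Nat) (Ptab_s_0_7 c) (Ptab_s_7_14 c) (Nat.ble 7 c)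
noncomputable def Ptab_s_15_17 (c : Nat) : Nat := @Bool.rec (fun _ => Nat) (Ptab_15) (Ptab_16) (Nat.ble 16 c)
noncomputable def Ptab_s_14_17 (c : Nat) : Nat := @Bool.rec (fun _ => Nat) (Ptab_14) (Ptab_s_15_17 c) (Nat.ble 15 c)
noncomputable def Ptab_s_17_19 (c : Nat) : Nat := @Bool.rec (fun _ => Nat) (Ptab_17) (Ptab_18) (Nat.ble 18 c)
noncomputable def Ptab_s_19_21 (c : Nat) : Nat := @Bool.rec (fun _ => Nat) (Ptab_19) (Ptab_20) (Nat.ble 20 c)
noncomputable def Ptab_s_17_21 (c : Nat) : Nat := @Bool.rec (fun _ => Nat) (Ptab_s_17_19 c) (Ptab_s_19_21 c) (Nat.ble 19 c)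
noncomputable def Ptab_s_14_21 (c : Nat) : Nat := @Bool.rec (fun _ => Nat) (Ptab_s_14_17 c) (Ptab_s_17_21 c) (Nat.ble 17 c)
noncomputable def Ptab_s_21_23 (c : Nat) : Nat := @Bool.rec (fun _ => Nat) (Ptab_21) (Ptab_22) (Nat.ble 22 c)
noncomputable def Ptab_s_23_25 (c : Nat) : Nat := @Bool.rec (fun _ => Nat) (Ptab_23) (Ptab_24) (Nat.ble 24 c)
noncomputable def Ptab_s_21_25 (c : Nat) : Nat := @Bool.rec (fun _ => Nat) (Ptab_s_21_23 c) (Ptab_s_23_25 c) (Nat.ble 23 c)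
noncomputable def Ptab_s_25_27 (c : Nat) : Nat := @Bool.rec (fun _ => Nat) (Ptab_25) (Ptab_26) (Nat.ble 26 c)
noncomputable def Ptab_s_27_29 (c : Nat) : Nat := @Bool.rec (fun _ => Nat) (Ptab_27) (Ptab_28) (Nat.ble 28 c)
noncomputable def Ptab_s_25_29 (c : Nat) : Nat := @Bool.rec (fun _ => Nat) (Ptab_s_25_27 c) (Ptab_s_27_29 c) (Nat.ble 27 c)
noncomputable def Ptab_s_21_29 (c : Nat) : Nat := @Bool.rec (fun _ => Nat) (Ptab_s_21_25 c) (Ptab_s_25_29 c) (Nat.ble 25 c)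
noncomputable def Ptab_s_14_29 (c : Nat) : Nat := @Bool.rec (fun _ => Nat) (Ptab_s_14_21 c) (Ptab_s_21_29 c) (Nat.ble 21 c)
noncomputable def Ptab_s_0_29 (c : Nat) : Nat := @Bool.rec (fun _ => Nat) (Ptab_s_0_14 c) (Ptab_s_14_29 c) (Nat.ble 14 c)
noncomputable def Ptab_s_30_32 (c : Nat) : Nat := @Bool.rec (fun _ => Nat) (Ptab_30) (Ptab_31) (Nat.ble 31 c)
noncomputable def Ptab_s_29_32 (c : Nat) : Nat := @Bool.rec (fun _ => Nat) (Ptab_29) (Ptab_s_30_32 c) (Nat.ble 30 c)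
noncomputable def Ptab_s_32_34 (c : Nat) : Nat := @Bool.rec (fun _ => Nat) (Ptab_32) (Ptab_33) (Nat.ble 33 c)
noncomputable def Ptab_s_34_36 (c : Nat) : Nat := @Bool.rec (fun _ => Nat) (Ptab_34) (Ptab_35) (Nat.ble 35 c)
noncomputable def Ptab_s_32_36 (c : Nat) : Nat := @Bool.rec (fun _ => Nat) (Ptab_s_32_34 c) (Ptab_s_34_36 c) (Nat.ble 34 c)
noncomputable def Ptab_s_29_36 (c : Nat) : Nat := @Bool.rec (fun _ => Nat) (Ptab_s_29_32 c) (Ptab_s_32_36 c) (Nat.ble 32 c)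
noncomputable def Ptab_s_37_39 (c : Nat) : Nat := @Bool.rec (fun _ => Nat) (Ptab_37) (Ptab_38) (Nat.ble 38 c)
noncomputable def Ptab_s_36_39 (c : Nat) : Nat := @Bool.rec (fun _ => Nat) (Ptab_36) (Ptab_s_37_39 c) (Nat.ble 37 c)
noncomputable def Ptab_s_39_41 (c : Nat) : Nat := @Bool.rec (fun _ => Nat) (Ptab_39) (Ptab_40) (Nat.ble 40 c)
noncomputable def Ptab_s_41_43 (c : Nat) : Nat := @Bool.rec (fun _ => Nat) (Ptab_41) (Ptab_42) (Nat.ble 42 c)
noncomputable def Ptab_s_39_43 (c : Nat) : Nat := @Bool.rec (fun _ => Nat) (Ptab_s_39_41 c) (Ptab_s_41_43 c) (Nat.ble 41 c)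
noncomputable def Ptab_s_36_43 (c : Nat) : Nat := @Bool.rec (fun _ => Nat) (Ptab_s_36_39 c) (Ptab_s_39_43 c) (Nat.ble 39 c)
noncomputable def Ptab_s_29_43 (c : Nat) : Nat := @Bool.rec (fun _ => Nat) (Ptab_s_29_36 c) (Ptab_s_36_43 c) (Nat.ble 36 c)
noncomputable def Ptab_s_44_46 (c : Nat) : Nat := @Bool.rec (fun _ => Nat) (Ptab_44) (Ptab_45) (Nat.ble 45 c)
noncomputable def Ptab_s_43_46 (c : Nat) : Nat := @Bool.rec (fun _ => Nat) (Ptab_43) (Ptab_s_44_46 c) (Nat.ble 44 c)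
noncomputable def Ptab_s_46_48 (c : Nat) : Nat := @Bool.rec (fun _ => Nat) (Ptab_46) (Ptab_47) (Nat.ble 47 c)
noncomputable def Ptab_s_48_50 (c : Nat) : Nat := @Bool.rec (fun _ => Nat) (Ptab_48) (Ptab_49) (Nat.ble 49 c)
noncomputable def Ptab_s_46_50 (c : Nat) : Nat := @Bool.rec (fun _ => Nat) (Ptab_s_46_48 c) (Ptab_s_48_50 c) (Nat.ble 48 c)
noncomputable def Ptab_s_43_50 (c : Nat) : Nat := @Bool.rec (fun _ => Nat) (Ptab_s_43_46 c) (Ptab_s_46_50 c) (Nat.ble 46 c)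
noncomputable def Ptab_s_50_52 (c : Nat) : Nat := @Bool.rec (fun _ => Nat) (Ptab_50) (Ptab_51) (Nat.ble 51 c)
noncomputable def Ptab_s_52_54 (c : Nat) : Nat := @Bool.rec (fun _ => Nat) (Ptab_52) (Ptab_53) (Nat.ble 53 c)
noncomputable def Ptab_s_50_54 (c : Nat) : Nat := @Bool.rec (fun _ => Nat) (Ptab_s_50_52 c) (Ptab_s_52_54 c) (Nat.ble 52 c)
noncomputable def Ptab_s_54_56 (c : Nat) : Nat := @Bool.rec (fun _ => Nat) (Ptab_54) (Ptab_55) (Nat.ble 55 c)
noncomputable def Ptab_s_56_58 (c : Nat) : Nat := @Bool.rec (fun _ => Nat) (Ptab_56) (Ptab_57) (Nat.ble 57 c)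
noncomputable def Ptab_s_54_58 (c : Nat) : Nat := @Bool.rec (fun _ => Nat) (Ptab_s_54_56 c) (Ptab_s_56_58 c) (Nat.ble 56 c)
noncomputable def Ptab_s_50_58 (c : Nat) : Nat := @Bool.rec (fun _ => Nat) (Ptab_s_50_54 c) (Ptab_s_54_58 c) (Nat.ble 54 c)
noncomputable def Ptab_s_43_58 (c : Nat) : Nat := @Bool.rec (fun _ => Nat) (Ptab_s_43_50 c) (Ptab_s_50_58 c) (Nat.ble 50 c)
noncomputable def Ptab_s_29_58 (c : Nat) : Nat := @Bool.rec (fun _ => Nat) (Ptab_s_29_43 c) (Ptab_s_43_58 c) (Nat.ble 43 c)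
noncomputable def Ptab_s_0_58 (c : Nat) : Nat := @Bool.rec (fun _ => Nat) (Ptab_s_0_29 c) (Ptab_s_29_58 c) (Nat.ble 29 c)
noncomputable def Ptab_s_59_61 (c : Nat) : Nat := @Bool.rec (fun _ => Nat) (Ptab_59) (Ptab_60) (Nat.ble 60 c)
noncomputable def Ptab_s_58_61 (c : Nat) : Nat := @Bool.rec (fun _ => Nat) (Ptab_58) (Ptab_s_59_61 c) (Nat.ble 59 c)
noncomputable def Ptab_s_61_63 (c : Nat) : Nat := @Bool.rec (fun _ => Nat) (Ptab_61) (Ptab_62) (Nat.ble 62 c)
noncomputable def Ptab_s_63_65 (c : Nat) : Nat := @Bool.rec (fun _ => Nat) (Ptab_63) (Ptab_64) (Nat.ble 64 c)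
noncomputable def Ptab_s_61_65 (c : Nat) : Nat := @Bool.rec (fun _ => Nat) (Ptab_s_61_63 c) (Ptab_s_63_65 c) (Nat.ble 63 c)
noncomputable def Ptab_s_58_65 (c : Nat) : Nat := @Bool.rec (fun _ => Nat) (Ptab_s_58_61 c) (Ptab_s_61_65 c) (Nat.ble 61 c)
noncomputable def Ptab_s_66_68 (c : Nat) : Nat := @Bool.rec (fun _ => Nat) (Ptab_66) (Ptab_67) (Nat.ble 67 c)
noncomputable def Ptab_s_65_68 (c : Nat) : Nat := @Bool.rec (fun _ => Nat) (Ptab_65) (Ptab_s_66_68 c) (Nat.ble 66 c)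
noncomputable def Ptab_s_68_70 (c : Nat) : Nat := @Bool.rec (fun _ => Nat) (Ptab_68) (Ptab_69) (Nat.ble 69 c)
noncomputable def Ptab_s_70_72 (c : Nat) : Nat := @Bool.rec (fun _ => Nat) (Ptab_70) (Ptab_71) (Nat.ble 71 c)
noncomputable def Ptab_s_68_72 (c : Nat) : Nat := @Bool.rec (fun _ => Nat) (Ptab_s_68_70 c) (Ptab_s_70_72 c) (Nat.ble 70 c)
noncomputable def Ptab_s_65_72 (c : Nat) : Nat := @Bool.rec (fun _ => Nat) (Ptab_s_65_68 c) (Ptab_s_68_72 c) (Nat.ble 68 c)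
noncomputable def Ptab_s_58_72 (c : Nat) : Nat := @Bool.rec (fun _ => Nat) (Ptab_s_58_65 c) (Ptab_s_65_72 c) (Nat.ble 65 c)
noncomputable def Ptab_s_73_75 (c : Nat) : Nat := @Bool.rec (fun _ => Nat) (Ptab_73) (Ptab_74) (Nat.ble 74 c)
noncomputable def Ptab_s_72_75 (c : Nat) : Nat := @Bool.rec (fun _ => Nat) (Ptab_72) (Ptab_s_73_75 c) (Nat.ble 73 c)
noncomputable def Ptab_s_75_77 (c : Nat) : Nat := @Bool.rec (fun _ => Nat) (Ptab_75) (Ptab_76) (Nat.ble 76 c)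
noncomputable def Ptab_s_77_79 (c : Nat) : Nat := @Bool.rec (fun _ => Nat) (Ptab_77) (Ptab_78) (Nat.ble 78 c)
noncomputable def Ptab_s_75_79 (c : Nat) : Nat := @Bool.rec (fun _ => Nat) (Ptab_s_75_77 c) (Ptab_s_77_79 c) (Nat.ble 77 c)
noncomputable def Ptab_s_72_79 (c : Nat) : Nat := @Bool.rec (fun _ => Nat) (Ptab_s_72_75 c) (Ptab_s_75_79 c) (Nat.ble 75 c)
noncomputable def Ptab_s_79_81 (c : Nat) : Nat := @Bool.rec (fun _ => Nat) (Ptab_79) (Ptab_80) (Nat.ble 80 c)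
noncomputable def Ptab_s_81_83 (c : Nat) : Nat := @Bool.rec (fun _ => Nat) (Ptab_81) (Ptab_82) (Nat.ble 82 c)
noncomputable def Ptab_s_79_83 (c : Nat) : Nat := @Bool.rec (fun _ => Nat) (Ptab_s_79_81 c) (Ptab_s_81_83 c) (Nat.ble 81 c)
noncomputable def Ptab_s_83_85 (c : Nat) : Nat := @Bool.rec (fun _ => Nat) (Ptab_83) (Ptab_84) (Nat.ble 84 c)
noncomputable def Ptab_s_85_87 (c : Nat) : Nat := @Bool.rec (fun _ => Nat) (Ptab_85) (Ptab_86) (Nat.ble 86 c)
noncomputable def Ptab_s_83_87 (c : Nat) : Nat := @Bool.rec (fun _ => Nat) (Ptab_s_83_85 c) (Ptab_s_85_87 c) (Nat.ble 85 c)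
noncomputable def Ptab_s_79_87 (c : Nat) : Nat := @Bool.rec (fun _ => Nat) (Ptab_s_79_83 c) (Ptab_s_83_87 c) (Nat.ble 83 c)
noncomputable def Ptab_s_72_87 (c : Nat) : Nat := @Bool.rec (fun _ => Nat) (Ptab_s_72_79 c) (Ptab_s_79_87 c) (Nat.ble 79 c)
noncomputable def Ptab_s_58_87 (c : Nat) : Nat := @Bool.rec (fun _ => Nat) (Ptab_s_58_72 c) (Ptab_s_72_87 c) (Nat.ble 72 c)
noncomputable def Ptab_s_88_90 (c : Nat) : Nat := @Bool.rec (fun _ => Nat) (Ptab_88) (Ptab_89) (Nat.ble 89 c)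
noncomputable def Ptab_s_87_90 (c : Nat) : Nat := @Bool.rec (fun _ => Nat) (Ptab_87) (Ptab_s_88_90 c) (Nat.ble 88 c)
noncomputable def Ptab_s_90_92 (c : Nat) : Nat := @Bool.rec (fun _ => Nat) (Ptab_90) (Ptab_91) (Nat.ble 91 c)
noncomputable def Ptab_s_92_94 (c : Nat) : Nat := @Bool.rec (fun _ => Nat) (Ptab_92) (Ptab_93) (Nat.ble 93 c)
noncomputable def Ptab_s_90_94 (c : Nat) : Nat := @Bool.rec (fun _ => Nat) (Ptab_s_90_92 c) (Ptab_s_92_94 c) (Nat.ble 92 c)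
noncomputable def Ptab_s_87_94 (c : Nat) : Nat := @Bool.rec (fun _ => Nat) (Ptab_s_87_90 c) (Ptab_s_90_94 c) (Nat.ble 90 c)
noncomputable def Ptab_s_95_97 (c : Nat) : Nat := @Bool.rec (fun _ => Nat) (Ptab_95) (Ptab_96) (Nat.ble 96 c)
noncomputable def Ptab_s_94_97 (c : Nat) : Nat := @Bool.rec (fun _ => Nat) (Ptab_94) (Ptab_s_95_97 c) (Nat.ble 95 c)
noncomputable def Ptab_s_97_99 (c : Nat) : Nat := @Bool.rec (fun _ => Nat) (Ptab_97) (Ptab_98) (Nat.ble 98 c)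
noncomputable def Ptab_s_99_101 (c : Nat) : Nat := @Bool.rec (fun _ => Nat) (Ptab_99) (Ptab_100) (Nat.ble 100 c)
noncomputable def Ptab_s_97_101 (c : Nat) : Nat := @Bool.rec (fun _ => Nat) (Ptab_s_97_99 c) (Ptab_s_99_101 c) (Nat.ble 99 c)
noncomputable def Ptab_s_94_101 (c : Nat) : Nat := @Bool.rec (fun _ => Nat) (Ptab_s_94_97 c) (Ptab_s_97_101 c) (Nat.ble 97 c)
noncomputable def Ptab_s_87_101 (c : Nat) : Nat := @Bool.rec (fun _ => Nat) (Ptab_s_87_94 c) (Ptab_s_94_101 c) (Nat.ble 94 c)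
noncomputable def Ptab_s_102_104 (c : Nat) : Nat := @Bool.rec (fun _ => Nat) (Ptab_102) (Ptab_103) (Nat.ble 103 c)
noncomputable def Ptab_s_101_104 (c : Nat) : Nat := @Bool.rec (fun _ => Nat) (Ptab_101) (Ptab_s_102_104 c) (Nat.ble 102 c)
noncomputable def Ptab_s_104_106 (c : Nat) : Nat := @Bool.rec (fun _ => Nat) (Ptab_104) (Ptab_105) (Nat.ble 105 c)
noncomputable def Ptab_s_106_108 (c : Nat) : Nat := @Bool.rec (fun _ => Nat) (Ptab_106) (Ptab_107) (Nat.ble 107 c)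
noncomputable def Ptab_s_104_108 (c : Nat) : Nat := @Bool.rec (fun _ => Nat) (Ptab_s_104_106 c) (Ptab_s_106_108 c) (Nat.ble 106 c)
noncomputable def Ptab_s_101_108 (c : Nat) : Nat := @Bool.rec (fun _ => Nat) (Ptab_s_101_104 c) (Ptab_s_104_108 c) (Nat.ble 104 c)
noncomputable def Ptab_s_108_110 (c : Nat) : Nat := @Bool.rec (fun _ => Nat) (Ptab_108) (Ptab_109) (Nat.ble 109 c)
noncomputable def Ptab_s_110_112 (c : Nat) : Nat := @Bool.rec (fun _ => Nat) (Ptab_110) (Ptab_111) (Nat.ble 111 c)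
noncomputable def Ptab_s_108_112 (c : Nat) : Nat := @Bool.rec (fun _ => Nat) (Ptab_s_108_110 c) (Ptab_s_110_112 c) (Nat.ble 110 c)
noncomputable def Ptab_s_112_114 (c : Nat) : Nat := @Bool.rec (fun _ => Nat) (Ptab_112) (Ptab_113) (Nat.ble 113 c)
noncomputable def Ptab_s_114_116 (c : Nat) : Nat := @Bool.rec (fun _ => Nat) (Ptab_114) (Ptab_115) (Nat.ble 115 c)
noncomputable def Ptab_s_112_116 (c : Nat) : Nat := @Bool.rec (fun _ => Nat) (Ptab_s_112_114 c) (Ptab_s_114_116 c) (Nat.ble 114 c)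
noncomputable def Ptab_s_108_116 (c : Nat) : Nat := @Bool.rec (fun _ => Nat) (Ptab_s_108_112 c) (Ptab_s_112_116 c) (Nat.ble 112 c)
noncomputable def Ptab_s_101_116 (c : Nat) : Nat := @Bool.rec (fun _ => Nat) (Ptab_s_101_108 c) (Ptab_s_108_116 c) (Nat.ble 108 c)
noncomputable def Ptab_s_87_116 (c : Nat) : Nat := @Bool.rec (fun _ => Nat) (Ptab_s_87_101 c) (Ptab_s_101_116 c) (Nat.ble 101 c)
noncomputable def Ptab_s_58_116 (c : Nat) : Nat := @Bool.rec (fun _ => Nat) (Ptab_s_58_87 c) (Ptab_s_87_116 c) (Nat.ble 87 c)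
noncomputable def Ptab_s_0_116 (c : Nat) : Nat := @Bool.rec (fun _ => Nat) (Ptab_s_0_58 c) (Ptab_s_58_116 c) (Nat.ble 58 c)
noncomputable def Ptab (i : Nat) : Nat := rdw 19 524287 (Ptab_s_0_116 (Nat.shiftRight i 12)) (Nat.land i 4095)
noncomputable def RRtab (i : Nat) : Nat := rdw 6 63 RRtab_0 i
noncomputable def rBtab (i : Nat) : Nat := rdw 13 8191 rBtab_0 i
noncomputable def rLtab (i : Nat) : Nat := rdw 5 31 rLtab_0 i
noncomputable def nameTab (i : Nat) : Nat := rdw 15 32767 nameTab_0 i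
noncomputable def col0 (i : Nat) : Nat := rdw 12 4095 col0_0 i
noncomputable def col1 (i : Nat) : Nat := rdw 12 4095 col1_0 i
noncomputable def col2 (i : Nat) : Nat := rdw 12 4095 col2_0 i
noncomputable def col3 (i : Nat) : Nat := rdw 12 4095 col3_0 i
noncomputable def col4 (i : Nat) : Nat := rdw 12 4095 col4_0 i
noncomputable def col5 (i : Nat) : Nat := rdw 12 4095 col5_0 i
noncomputable def col6 (i : Nat) : Nat := rdw 12 4095 col6_0 i
noncomputable def col7 (i : Nat) : Nat := rdw 12 4095 col7_0 i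
noncomputable def col8 (i : Nat) : Nat := rdw 12 4095 col8_0 i
noncomputable def col9 (i : Nat) : Nat := rdw 12 4095 col9_0 i
noncomputable def col10 (i : Nat) : Nat := rdw 12 4095 col10_0 i
noncomputable def col11 (i : Nat) : Nat := rdw 12 4095 col11_0 i
noncomputable def col12 (i : Nat) : Nat := rdw 12 4095 col12_0 i
noncomputable def col13 (i : Nat) : Nat := rdw 12 4095 col13_0 i
noncomputable def col14 (i : Nat) : Nat := rdw 12 4095 col14_0 i
noncomputable def col15 (i : Nat) : Nat := rdw 12 4095 col15_0 i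
noncomputable def col16 (i : Nat) : Nat := rdw 12 4095 col16_0 i
noncomputable def col17 (i : Nat) : Nat := rdw 12 4095 col17_0 i
noncomputable def col18 (i : Nat) : Nat := rdw 12 4095 col18_0 i
noncomputable def col19 (i : Nat) : Nat := rdw 12 4095 col19_0 i
noncomputable def col20 (i : Nat) : Nat := rdw 12 4095 col20_0 i
noncomputable def col21 (i : Nat) : Nat := rdw 12 4095 col21_0 i
noncomputable def col22 (i : Nat) : Nat := rdw 12 4095 col22_0 i
noncomputable def col23 (i : Nat) : Nat := rdw 12 4095 col23_0 i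
noncomputable def col24 (i : Nat) : Nat := rdw 12 4095 col24_0 i
noncomputable def col25 (i : Nat) : Nat := rdw 12 4095 col25_0 i
noncomputable def col26 (i : Nat) : Nat := rdw 12 4095 col26_0 i
noncomputable def col27 (i : Nat) : Nat := rdw 12 4095 col27_0 i
noncomputable def finTab_s_1_3 (c : Nat) : Nat := @Bool.rec (fun _ => Nat) (finTab_1) (finTab_2) (Nat.ble 2 c)
noncomputable def finTab_s_0_3 (c : Nat) : Nat := @Bool.rec (fun _ => Nat) (finTab_0) (finTab_s_1_3 c) (Nat.ble 1 c)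
noncomputable def finTab_s_3_5 (c : Nat) : Nat := @Bool.rec (fun _ => Nat) (finTab_3) (finTab_4) (Nat.ble 4 c)
noncomputable def finTab_s_5_7 (c : Nat) : Nat := @Bool.rec (fun _ => Nat) (finTab_5) (finTab_6) (Nat.ble 6 c)
noncomputable def finTab_s_3_7 (c : Nat) : Nat := @Bool.rec (fun _ => Nat) (finTab_s_3_5 c) (finTab_s_5_7 c) (Nat.ble 5 c)
noncomputable def finTab_s_0_7 (c : Nat) : Nat := @Bool.rec (fun _ => Nat) (finTab_s_0_3 c) (finTab_s_3_7 c) (Nat.ble 3 c)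
noncomputable def finTab_s_7_9 (c : Nat) : Nat := @Bool.rec (fun _ => Nat) (finTab_7) (finTab_8) (Nat.ble 8 c)
noncomputable def finTab_s_9_11 (c : Nat) : Nat := @Bool.rec (fun _ => Nat) (finTab_9) (finTab_10) (Nat.ble 10 c)
noncomputable def finTab_s_7_11 (c : Nat) : Nat := @Bool.rec (fun _ => Nat) (finTab_s_7_9 c) (finTab_s_9_11 c) (Nat.ble 9 c)
noncomputable def finTab_s_11_13 (c : Nat) : Nat := @Bool.rec (fun _ => Nat) (finTab_11) (finTab_12) (Nat.ble 12 c)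
noncomputable def finTab_s_13_15 (c : Nat) : Nat := @Bool.rec (fun _ => Nat) (finTab_13) (finTab_14) (Nat.ble 14 c)
noncomputable def finTab_s_11_15 (c : Nat) : Nat := @Bool.rec (fun _ => Nat) (finTab_s_11_13 c) (finTab_s_13_15 c) (Nat.ble 13 c)
noncomputable def finTab_s_7_15 (c : Nat) : Nat := @Bool.rec (fun _ => Nat) (finTab_s_7_11 c) (finTab_s_11_15 c) (Nat.ble 11 c)
noncomputable def finTab_s_0_15 (c : Nat) : Nat := @Bool.rec (fun _ => Nat) (finTab_s_0_7 c) (finTab_s_7_15 c) (Nat.ble 7 c)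
noncomputable def finTab (i : Nat) : Nat := rdw 19 524287 (finTab_s_0_15 (Nat.shiftRight i 12)) (Nat.land i 4095)
noncomputable def clsTab_s_1_3 (c : Nat) : Nat := @Bool.rec (fun _ => Nat) (clsTab_1) (clsTab_2) (Nat.ble 2 c)
noncomputable def clsTab_s_0_3 (c : Nat) : Nat := @Bool.rec (fun _ => Nat) (clsTab_0) (clsTab_s_1_3 c) (Nat.ble 1 c)
noncomputable def clsTab (i : Nat) : Nat := rdw 12 4095 (clsTab_s_0_3 (Nat.shiftRight i 13)) (Nat.land i 8191)
noncomputable def oparTab (i : Nat) : Nat := rdw 12 4095 oparTab_0 i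
noncomputable def olabTab (i : Nat) : Nat := rdw 2 3 olabTab_0 i
noncomputable def srcF (t : Nat) : Nat := Nat.land (Atab t) 32767
noncomputable def tgtF (t : Nat) : Nat := Nat.land (Nat.shiftRight (Atab t) 15) 32767
noncomputable def ltF (t : Nat) : Nat := Nat.shiftRight (Atab t) 30
noncomputable def rhoF (t : Nat) : Nat := Nat.land (Btab (Nat.sub t 24145)) 511
noncomputable def rotF (t : Nat) : Nat := Nat.land (Nat.shiftRight (Btab (Nat.sub t 24145)) 9) 31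
noncomputable def lenF (t : Nat) : Nat := Nat.land (Nat.shiftRight (Btab (Nat.sub t 24145)) 14) 127
noncomputable def offF (t : Nat) : Nat := Nat.shiftRight (Btab (Nat.sub t 24145)) 21
noncomputable def pfF (j : Nat) : Nat := Nat.shiftRight (Ptab j) 1
noncomputable def pdF (j : Nat) : Nat := Nat.land (Ptab j) 1
noncomputable def tblF (i x : Nat) : Nat := @Bool.rec (fun _ => Nat) (@Bool.rec (fun _ => Nat) (@Bool.rec (fun _ => Nat) (@Bool.rec (fun _ => Nat) (col0 i) (@Bool.rec (fun _ => Nat) (col1 i) (col2 i) (Nat.ble 2 x)) (Nat.ble 1 x)) (@Bool.rec (fun _ => Nat) (@Bool.rec (fun _ => Nat) (col3 i) (col4 i) (Nat.ble 4 x)) (@Bool.rec (fun _ => Nat) (col5 i) (col6 i) (Nat.ble 6 x)) (Nat.ble 5 x)) (Nat.ble 3 x)) (@Bool.rec (fun _ => Nat) (@Bool.rec (fun _ => Nat) (col7 i) (@Bool.rec (fun _ => Nat) (col8 i) (col9 i) (Nat.ble 9 x)) (Nat.ble 8 x)) (@Bool.rec (fun _ => Nat) (@Bool.rec (fun _ => Nat) (col10 i) (col11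 i) (Nat.ble 11 x)) (@Bool.rec (fun _ => Nat) (col12 i) (col13 i) (Nat.ble 13 x)) (Nat.ble 12 x)) (Nat.ble 10 x)) (Nat.ble 7 x)) (@Bool.rec (fun _ => Nat) (@Bool.rec (fun _ => Nat) (@Bool.rec (fun _ => Nat) (col14 i) (@Bool.rec (fun _ => Nat) (col15 i) (col16 i) (Nat.ble 16 x)) (Nat.ble 15 x)) (@Bool.rec (fun _ => Nat) (@Bool.rec (fun _ => Nat) (col17 i) (col18 i) (Nat.ble 18 x)) (@Bool.rec (fun _ => Nat) (col19 i) (col20 i) (Nat.ble 20 x)) (Nat.ble 19 x)) (Nat.ble 17 x)) (@Bool.rec (fun _ => Nat) (@Bool.rec (fun _ => Nat) (col21 i) (@Bool.rec (fun _ => Nat) (col22 i) (col23 i) (Nat.ble 23 x)) (Nat.ble 22 x)) (@Bool.rec (fun _ => Nat) (@Bool.rec (fun _ => Nat) (col24 i) (col25 i) (Nat.ble 25 x)) (@Bool.rec (fun _ => Nat) (col26 i) (col27 i) (Nat.ble 27 x)) (Nat.ble 26 x)) (Nat.ble 24 x)) (Nat.ble 21 x)) (Nat.ble 14 x)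
noncomputable def finE (i x : Nat) : Nat := finTab (Nat.add (Nat.mul i 28) x)
noncomputable def finFF (i x : Nat) : Nat := Nat.shiftRight (finE i x) 1
noncomputable def finDF (i x : Nat) : Nat := Nat.land (finE i x) 1

noncomputable def D : Log :=
  { k := 28, inv := invE 28 PSC3G23p3.invR, nR := 284, rBase := rBtab, rLen := rLtab, RR := RRtab,
    M := 24141, nB := 4, F := 135313, src := srcF, lt := ltF, tgt := tgtF, rho := rhoF, rot := rotF,
    off := offF, len := lenF, pf := pfF, pd := pdF }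

noncomputable def T : Tab :=
  { N := 2106, nameOf := nameTab, tbl := tblF, finF := finFF, finD := finDF, cls := clsTab }

def subs : List (List Nat) := [
  [0],
  [2] ]

def rw0 : List Nat := [0, 0, 0, 0, 0, 0, 0]
def rw1 : List Nat := [2, 2, 2, 2]
def rw2 : List Nat := [4, 4, 4, 4, 4, 4, 4]
def rw3 : List Nat := [7, 4, 1, 3, 0]
def rw4 : List Nat := [9, 0, 0, 3, 0, 6, 1, 2, 1, 1, 2, 0, 7, 1, 3]
def rw5 : List Nat := [11, 6, 6, 6]
def rw6 : List Nat := [13, 0, 0, 6, 1, 1, 3, 6, 2]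
def rw7 : List Nat := [15, 0, 2, 6, 0, 2, 6, 0, 2, 6]
def rw8 : List Nat := [17, 0, 2, 2, 1, 6, 0, 3, 3, 1, 6]
def rw9 : List Nat := [19, 0, 6, 1, 6, 1, 2, 6, 3, 0, 7]
def rw10 : List Nat := [21, 8, 8, 8]
def rw11 : List Nat := [23, 9, 1, 8, 0]
def rw12 : List Nat := [25, 9, 3, 8, 2]
def rw13 : List Nat := [27, 9, 7, 8, 6]
def rw14 : List Nat := [10, 10, 10]
def rw15 : List Nat := [12, 12, 12]
def rw16 : List Nat := [14, 14, 14]
def rw17 : List Nat := [16, 16, 16]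
def rw18 : List Nat := [18, 18, 18]
def rw19 : List Nat := [20, 20, 20]
def rw20 : List Nat := [22, 22, 22]
def rw21 : List Nat := [24, 24, 24]
def rw22 : List Nat := [26, 26, 26]
def rw23 : List Nat := [10, 0, 11, 1]
def rw24 : List Nat := [10, 2, 11, 3]
def rw25 : List Nat := [10, 4, 11, 5]
def rw26 : List Nat := [10, 6, 11, 7]
def rw27 : List Nat := [10, 8, 11, 9]
def rw28 : List Nat := [12, 0, 13, 1]
def rw29 : List Nat := [12, 2, 13, 3]
def rw30 : List Nat := [12, 4, 13, 5]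
def rw31 : List Nat := [12, 6, 13, 7]
def rw32 : List Nat := [12, 8, 13, 9]
def rw33 : List Nat := [14, 0, 15, 1]
def rw34 : List Nat := [14, 2, 15, 3]
def rw35 : List Nat := [14, 4, 15, 5]
def rw36 : List Nat := [14, 6, 15, 7]
def rw37 : List Nat := [14, 8, 15, 9]
def rw38 : List Nat := [16, 0, 17, 1]
def rw39 : List Nat := [16, 2, 17, 3]
def rw40 : List Nat := [16, 4, 17, 5]
def rw41 : List Nat := [16, 6, 17, 7]
def rw42 : List Nat := [16, 8, 17, 9]
def rw43 : List Nat := [18, 0, 19, 1]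
def rw44 : List Nat := [18, 2, 19, 3]
def rw45 : List Nat := [18, 4, 19, 5]
def rw46 : List Nat := [18, 6, 19, 7]
def rw47 : List Nat := [18, 8, 19, 9]
def rw48 : List Nat := [20, 0, 21, 1]
def rw49 : List Nat := [20, 2, 21, 3]
def rw50 : List Nat := [20, 4, 21, 5]
def rw51 : List Nat := [20, 6, 21, 7]
def rw52 : List Nat := [20, 8, 21, 9]
def rw53 : List Nat := [22, 0, 23, 1]
def rw54 : List Nat := [22, 2, 23, 3]
def rw55 : List Nat := [22, 4, 23, 5]
def rw56 : List Nat := [22, 6, 23, 7]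
def rw57 : List Nat := [22, 8, 23, 9]
def rw58 : List Nat := [24, 0, 25, 1]
def rw59 : List Nat := [24, 2, 25, 3]
def rw60 : List Nat := [24, 4, 25, 5]
def rw61 : List Nat := [24, 6, 25, 7]
def rw62 : List Nat := [24, 8, 25, 9]
def rw63 : List Nat := [26, 0, 27, 1]
def rw64 : List Nat := [26, 2, 27, 3]
def rw65 : List Nat := [26, 4, 27, 5]
def rw66 : List Nat := [26, 6, 27, 7]
def rw67 : List Nat := [26, 8, 27, 9]
def rw68 : List Nat := [0, 0, 0, 0, 0, 0, 0]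
def rw69 : List Nat := [0, 0, 2, 1, 2, 0, 3, 0, 2, 1, 2]
def rw70 : List Nat := [0, 0, 0, 2, 0, 0, 0, 2, 0, 0, 0, 2]
def rw71 : List Nat := [0, 0, 2, 2, 0, 0, 3, 3, 0, 0, 3, 3]
def rw72 : List Nat := [6, 0, 7, 0, 2, 2, 6, 1, 7, 0, 3, 3, 1, 1]
def rw73 : List Nat := [6, 0, 7, 2, 2, 1, 6, 1, 7, 0, 0, 3, 3, 1]
def rw74 : List Nat := [6, 1, 7, 0, 0, 2, 2, 1, 6, 0, 7, 3, 3, 1]
def rw75 : List Nat := [6, 1, 7, 0, 2, 2, 1, 1, 6, 0, 7, 0, 3, 3]
def rw76 : List Nat := [7, 0, 6, 1, 1, 2, 2, 0, 0, 7, 1, 6, 1, 3, 3, 0]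
def rw77 : List Nat := [7, 1, 6, 1, 2, 2, 0, 7, 0, 6, 1, 1, 3, 3, 0, 0]
def rw78 : List Nat := [7, 2, 6, 0, 3, 0, 0, 7, 3, 6, 3, 0, 2, 1, 2, 1, 2]
def rw79 : List Nat := [7, 2, 6, 1, 1, 2, 1, 7, 3, 6, 3, 0, 3, 0, 3, 1, 2]
def rw80 : List Nat := [7, 3, 6, 3, 0, 2, 1, 2, 1, 2, 7, 2, 6, 0, 3, 0, 0]
def rw81 : List Nat := [7, 3, 6, 3, 0, 3, 0, 3, 1, 2, 7, 2, 6, 1, 1, 2, 1]
def rw82 : List Nat := [6, 2, 7, 0, 0, 2, 2, 1, 1, 6, 3, 7, 3, 1, 3, 3, 0, 2]
def rw83 : List Nat := [6, 3, 7, 3, 1, 2, 2, 0, 2, 6, 2, 7, 0, 0, 3, 3, 1, 1]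
def rw84 : List Nat := [7, 2, 6, 3, 1, 2, 2, 0, 2, 7, 3, 6, 0, 0, 3, 3, 1, 1]
def rw85 : List Nat := [7, 3, 6, 0, 0, 2, 2, 1, 1, 7, 2, 6, 3, 1, 3, 3, 0, 2]
def rw86 : List Nat := [6, 2, 7, 1, 3, 0, 3, 0, 0, 3, 1, 3, 6, 3, 7, 1, 1, 2, 1]
def rw87 : List Nat := [6, 2, 7, 2, 0, 2, 1, 1, 2, 1, 2, 0, 6, 3, 7, 0, 3, 0, 0]
def rw88 : List Nat := [6, 3, 7, 0, 3, 0, 0, 6, 2, 7, 2, 0, 2, 1, 1, 2, 1, 2, 0]
def rw89 : List Nat := [6, 3, 7, 1, 1, 2, 1, 6, 2, 7, 1, 3, 0, 3, 0, 0, 3, 1, 3]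
def rw90 : List Nat := [7, 0, 6, 2, 1, 2, 1, 2, 0, 3, 7, 1, 6, 2, 1, 1, 2, 1, 3]
def rw91 : List Nat := [7, 0, 6, 2, 1, 3, 0, 3, 0, 3, 7, 1, 6, 2, 0, 3, 0, 0, 3]
def rw92 : List Nat := [7, 1, 6, 2, 0, 3, 0, 0, 3, 7, 0, 6, 2, 1, 3, 0, 3, 0, 3]
def rw93 : List Nat := [7, 1, 6, 2, 1, 1, 2, 1, 3, 7, 0, 6, 2, 1, 2, 1, 2, 0, 3]
def rw94 : List Nat := [7, 2, 6, 2, 0, 0, 2, 2, 1, 3, 7, 3, 6, 2, 0, 2, 0, 0, 2]
def rw95 : List Nat := [7, 2, 6, 2, 0, 2, 2, 1, 1, 3, 7, 3, 6, 3, 1, 1, 3, 1, 3]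
def rw96 : List Nat := [7, 3, 6, 2, 0, 2, 0, 0, 2, 7, 2, 6, 2, 0, 0, 3, 3, 1, 3]
def rw97 : List Nat := [7, 3, 6, 3, 1, 1, 3, 1, 3, 7, 2, 6, 2, 0, 3, 3, 1, 1, 3]
def rw98 : List Nat := [6, 0, 7, 0, 2, 2, 0, 2, 2, 6, 1, 7, 0, 3, 3, 1, 3, 3, 1, 1]
def rw99 : List Nat := [6, 1, 7, 0, 0, 2, 2, 0, 2, 2, 1, 6, 0, 7, 3, 3, 1, 3, 3, 1]
def rw100 : List Nat := [6, 2, 7, 3, 0, 2, 1, 2, 1, 2, 6, 3, 7, 2, 0, 0, 3, 3, 1, 3]
def rw101 : List Nat := [6, 2, 7, 3, 0, 3, 0, 3, 1, 2, 6, 3, 7, 2, 0, 3, 3, 1, 1, 3]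
def rw102 : List Nat := [6, 3, 7, 2, 0, 0, 2, 2, 1, 3, 6, 2, 7, 3, 0, 2, 1, 2, 1, 2]
def rw103 : List Nat := [6, 3, 7, 2, 0, 2, 2, 1, 1, 3, 6, 2, 7, 3, 0, 3, 0, 3, 1, 2]
def rw104 : List Nat := [6, 0, 7, 1, 2, 1, 1, 3, 1, 2, 1, 3, 6, 1, 7, 3, 1, 1, 2, 1, 2]
def rw105 : List Nat := [6, 0, 7, 2, 0, 3, 0, 2, 0, 0, 3, 0, 6, 1, 7, 3, 0, 3, 0, 0, 2]
def rw106 : List Nat := [6, 1, 7, 3, 0, 3, 0, 0, 2, 6, 0, 7, 2, 0, 3, 0, 2, 0, 0, 3, 0]
def rw107 : List Nat := [6, 1, 7, 3, 1, 1, 2, 1, 2, 6, 0, 7, 1, 2, 1, 1, 3, 1, 2, 1, 3]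
def rw108 : List Nat := [6, 2, 7, 2, 0, 2, 0, 0, 2, 6, 3, 7, 1, 3, 3, 0, 3, 1, 2, 0, 3]
def rw109 : List Nat := [6, 2, 7, 3, 1, 1, 3, 1, 3, 6, 3, 7, 2, 1, 3, 0, 2, 1, 3, 3, 0]
def rw110 : List Nat := [6, 3, 7, 1, 2, 2, 0, 3, 1, 2, 0, 3, 6, 2, 7, 2, 0, 2, 0, 0, 2]
def rw111 : List Nat := [6, 3, 7, 2, 1, 3, 0, 2, 1, 2, 2, 0, 6, 2, 7, 3, 1, 1, 3, 1, 3]
def realLit : List (List Nat) := [rw0, rw1, rw2, rw3, rw4, rw5, rw6, rw7, rw8, rw9, rw10, rw11, rw12, rw13, rw14, rw15, rw16, rw17, rw18, rw19, rw20, rw21, rw22, rw23, rw24, rw25, rw26, rw27, rw28, rw29, rw30, rw31, rw32, rw33, rw34, rw35, rw36, rw37, rw38, rw39, rw40, rw41, rw42, rw43, rw44, rw45, rw46, rw47, rw48, rw49, rw50, rw51, rw52, rw53, rw54, rw55, rw56, rw57, rw58, rw59, rw60, rw61, rw62, rw63, rw64, rw65, rw66, rw67, rw68, rw69, rw70, rw71, rw72, rw73, rw74, rw75, rw76, rw77, rw78, rw79, rw80, rw81, rw82, rw83, rw84, rw85, rw86, rw87, rw88, rw89, rw90,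 rw91, rw92, rw93, rw94, rw95, rw96, rw97, rw98, rw99, rw100, rw101, rw102, rw103, rw104, rw105, rw106, rw107, rw108, rw109, rw110, rw111]
noncomputable def actR0 (i : Nat) : Nat := col1 (col1 (col1 (col1 (col1 (col1 (col1 (i)))))))
theorem actR0_eq (i : Nat) : actR0 i = Tab.act T D rw0 i := rfl
noncomputable def actR1 (i : Nat) : Nat := col3 (col3 (col3 (col3 (i))))
theorem actR1_eq (i : Nat) : actR1 i = Tab.act T D rw1 i := rfl
noncomputable def actR2 (i : Nat) : Nat := col5 (col5 (col5 (col5 (col5 (col5 (col5 (i)))))))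
theorem actR2_eq (i : Nat) : actR2 i = Tab.act T D rw2 i := rfl
noncomputable def actR3 (i : Nat) : Nat := col6 (col5 (col0 (col2 (col1 (i)))))
theorem actR3_eq (i : Nat) : actR3 i = Tab.act T D rw3 i := rfl
noncomputable def actR4 (i : Nat) : Nat := col8 (col1 (col1 (col2 (col1 (col7 (col0 (col3 (col0 (col0 (col3 (col1 (col6 (col0 (col2 (i)))))))))))))))
theorem actR4_eq (i : Nat) : actR4 i = Tab.act T D rw4 i := rfl
noncomputable def actR5 (i : Nat) : Nat := col10 (col7 (col7 (col7 (i))))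
theorem actR5_eq (i : Nat) : actR5 i = Tab.act T D rw5 i := rfl
noncomputable def actR6 (i : Nat) : Nat := col12 (col1 (col1 (col7 (col0 (col0 (col2 (col7 (col3 (i)))))))))
theorem actR6_eq (i : Nat) : actR6 i = Tab.act T D rw6 i := rfl
noncomputable def actR7 (i : Nat) : Nat := col14 (col1 (col3 (col7 (col1 (col3 (col7 (col1 (col3 (col7 (i))))))))))
theorem actR7_eq (i : Nat) : actR7 i = Tab.act T D rw7 i := rfl
noncomputable def actR8 (i : Nat) : Nat := col16 (col1 (col3 (col3 (col0 (col7 (col1 (col2 (col2 (col0 (col7 (i)))))))))))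
theorem actR8_eq (i : Nat) : actR8 i = Tab.act T D rw8 i := rfl
noncomputable def actR9 (i : Nat) : Nat := col18 (col1 (col7 (col0 (col7 (col0 (col3 (col7 (col2 (col1 (col6 (i)))))))))))
theorem actR9_eq (i : Nat) : actR9 i = Tab.act T D rw9 i := rfl
noncomputable def actR10 (i : Nat) : Nat := col20 (col9 (col9 (col9 (i))))
theorem actR10_eq (i : Nat) : actR10 i = Tab.act T D rw10 i := rfl
noncomputable def actR11 (i : Nat) : Nat := col22 (col8 (col0 (col9 (col1 (i)))))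
theorem actR11_eq (i : Nat) : actR11 i = Tab.act T D rw11 i := rfl
noncomputable def actR12 (i : Nat) : Nat := col24 (col8 (col2 (col9 (col3 (i)))))
theorem actR12_eq (i : Nat) : actR12 i = Tab.act T D rw12 i := rfl
noncomputable def actR13 (i : Nat) : Nat := col26 (col8 (col6 (col9 (col7 (i)))))
theorem actR13_eq (i : Nat) : actR13 i = Tab.act T D rw13 i := rfl
noncomputable def actR14 (i : Nat) : Nat := col11 (col11 (col11 (i)))
theorem actR14_eq (i : Nat) : actR14 i = Tab.act T D rw14 i := rfl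
noncomputable def actR15 (i : Nat) : Nat := col13 (col13 (col13 (i)))
theorem actR15_eq (i : Nat) : actR15 i = Tab.act T D rw15 i := rfl
noncomputable def actR16 (i : Nat) : Nat := col15 (col15 (col15 (i)))
theorem actR16_eq (i : Nat) : actR16 i = Tab.act T D rw16 i := rfl
noncomputable def actR17 (i : Nat) : Nat := col17 (col17 (col17 (i)))
theorem actR17_eq (i : Nat) : actR17 i = Tab.act T D rw17 i := rfl
noncomputable def actR18 (i : Nat) : Nat := col19 (col19 (col19 (i)))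
theorem actR18_eq (i : Nat) : actR18 i = Tab.act T D rw18 i := rfl
noncomputable def actR19 (i : Nat) : Nat := col21 (col21 (col21 (i)))
theorem actR19_eq (i : Nat) : actR19 i = Tab.act T D rw19 i := rfl
noncomputable def actR20 (i : Nat) : Nat := col23 (col23 (col23 (i)))
theorem actR20_eq (i : Nat) : actR20 i = Tab.act T D rw20 i := rfl
noncomputable def actR21 (i : Nat) : Nat := col25 (col25 (col25 (i)))
theorem actR21_eq (i : Nat) : actR21 i = Tab.act T D rw21 i := rfl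
noncomputable def actR22 (i : Nat) : Nat := col27 (col27 (col27 (i)))
theorem actR22_eq (i : Nat) : actR22 i = Tab.act T D rw22 i := rfl
noncomputable def actR23 (i : Nat) : Nat := col11 (col1 (col10 (col0 (i))))
theorem actR23_eq (i : Nat) : actR23 i = Tab.act T D rw23 i := rfl
noncomputable def actR24 (i : Nat) : Nat := col11 (col3 (col10 (col2 (i))))
theorem actR24_eq (i : Nat) : actR24 i = Tab.act T D rw24 i := rfl
noncomputable def actR25 (i : Nat) : Nat := col11 (col5 (col10 (col4 (i))))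
theorem actR25_eq (i : Nat) : actR25 i = Tab.act T D rw25 i := rfl
noncomputable def actR26 (i : Nat) : Nat := col11 (col7 (col10 (col6 (i))))
theorem actR26_eq (i : Nat) : actR26 i = Tab.act T D rw26 i := rfl
noncomputable def actR27 (i : Nat) : Nat := col11 (col9 (col10 (col8 (i))))
theorem actR27_eq (i : Nat) : actR27 i = Tab.act T D rw27 i := rfl
noncomputable def actR28 (i : Nat) : Nat := col13 (col1 (col12 (col0 (i))))
theorem actR28_eq (i : Nat) : actR28 i = Tab.act T D rw28 i := rfl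
noncomputable def actR29 (i : Nat) : Nat := col13 (col3 (col12 (col2 (i))))
theorem actR29_eq (i : Nat) : actR29 i = Tab.act T D rw29 i := rfl
noncomputable def actR30 (i : Nat) : Nat := col13 (col5 (col12 (col4 (i))))
theorem actR30_eq (i : Nat) : actR30 i = Tab.act T D rw30 i := rfl
noncomputable def actR31 (i : Nat) : Nat := col13 (col7 (col12 (col6 (i))))
theorem actR31_eq (i : Nat) : actR31 i = Tab.act T D rw31 i := rfl
noncomputable def actR32 (i : Nat) : Nat := col13 (col9 (col12 (col8 (i))))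
theorem actR32_eq (i : Nat) : actR32 i = Tab.act T D rw32 i := rfl
noncomputable def actR33 (i : Nat) : Nat := col15 (col1 (col14 (col0 (i))))
theorem actR33_eq (i : Nat) : actR33 i = Tab.act T D rw33 i := rfl
noncomputable def actR34 (i : Nat) : Nat := col15 (col3 (col14 (col2 (i))))
theorem actR34_eq (i : Nat) : actR34 i = Tab.act T D rw34 i := rfl
noncomputable def actR35 (i : Nat) : Nat := col15 (col5 (col14 (col4 (i))))
theorem actR35_eq (i : Nat) : actR35 i = Tab.act T D rw35 i := rfl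
noncomputable def actR36 (i : Nat) : Nat := col15 (col7 (col14 (col6 (i))))
theorem actR36_eq (i : Nat) : actR36 i = Tab.act T D rw36 i := rfl
noncomputable def actR37 (i : Nat) : Nat := col15 (col9 (col14 (col8 (i))))
theorem actR37_eq (i : Nat) : actR37 i = Tab.act T D rw37 i := rfl
noncomputable def actR38 (i : Nat) : Nat := col17 (col1 (col16 (col0 (i))))
theorem actR38_eq (i : Nat) : actR38 i = Tab.act T D rw38 i := rfl
noncomputable def actR39 (i : Nat) : Nat := col17 (col3 (col16 (col2 (i))))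
theorem actR39_eq (i : Nat) : actR39 i = Tab.act T D rw39 i := rfl
noncomputable def actR40 (i : Nat) : Nat := col17 (col5 (col16 (col4 (i))))
theorem actR40_eq (i : Nat) : actR40 i = Tab.act T D rw40 i := rfl
noncomputable def actR41 (i : Nat) : Nat := col17 (col7 (col16 (col6 (i))))
theorem actR41_eq (i : Nat) : actR41 i = Tab.act T D rw41 i := rfl
noncomputable def actR42 (i : Nat) : Nat := col17 (col9 (col16 (col8 (i))))
theorem actR42_eq (i : Nat) : actR42 i = Tab.act T D rw42 i := rfl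
noncomputable def actR43 (i : Nat) : Nat := col19 (col1 (col18 (col0 (i))))
theorem actR43_eq (i : Nat) : actR43 i = Tab.act T D rw43 i := rfl
noncomputable def actR44 (i : Nat) : Nat := col19 (col3 (col18 (col2 (i))))
theorem actR44_eq (i : Nat) : actR44 i = Tab.act T D rw44 i := rfl
noncomputable def actR45 (i : Nat) : Nat := col19 (col5 (col18 (col4 (i))))
theorem actR45_eq (i : Nat) : actR45 i = Tab.act T D rw45 i := rfl
noncomputable def actR46 (i : Nat) : Nat := col19 (col7 (col18 (col6 (i))))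
theorem actR46_eq (i : Nat) : actR46 i = Tab.act T D rw46 i := rfl
noncomputable def actR47 (i : Nat) : Nat := col19 (col9 (col18 (col8 (i))))
theorem actR47_eq (i : Nat) : actR47 i = Tab.act T D rw47 i := rfl
noncomputable def actR48 (i : Nat) : Nat := col21 (col1 (col20 (col0 (i))))
theorem actR48_eq (i : Nat) : actR48 i = Tab.act T D rw48 i := rfl
noncomputable def actR49 (i : Nat) : Nat := col21 (col3 (col20 (col2 (i))))
theorem actR49_eq (i : Nat) : actR49 i = Tab.act T D rw49 i := rfl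
noncomputable def actR50 (i : Nat) : Nat := col21 (col5 (col20 (col4 (i))))
theorem actR50_eq (i : Nat) : actR50 i = Tab.act T D rw50 i := rfl
noncomputable def actR51 (i : Nat) : Nat := col21 (col7 (col20 (col6 (i))))
theorem actR51_eq (i : Nat) : actR51 i = Tab.act T D rw51 i := rfl
noncomputable def actR52 (i : Nat) : Nat := col21 (col9 (col20 (col8 (i))))
theorem actR52_eq (i : Nat) : actR52 i = Tab.act T D rw52 i := rfl
noncomputable def actR53 (i : Nat) : Nat := col23 (col1 (col22 (col0 (i))))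
theorem actR53_eq (i : Nat) : actR53 i = Tab.act T D rw53 i := rfl
noncomputable def actR54 (i : Nat) : Nat := col23 (col3 (col22 (col2 (i))))
theorem actR54_eq (i : Nat) : actR54 i = Tab.act T D rw54 i := rfl
noncomputable def actR55 (i : Nat) : Nat := col23 (col5 (col22 (col4 (i))))
theorem actR55_eq (i : Nat) : actR55 i = Tab.act T D rw55 i := rfl
noncomputable def actR56 (i : Nat) : Nat := col23 (col7 (col22 (col6 (i))))
theorem actR56_eq (i : Nat) : actR56 i = Tab.act T D rw56 i := rfl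
noncomputable def actR57 (i : Nat) : Nat := col23 (col9 (col22 (col8 (i))))
theorem actR57_eq (i : Nat) : actR57 i = Tab.act T D rw57 i := rfl
noncomputable def actR58 (i : Nat) : Nat := col25 (col1 (col24 (col0 (i))))
theorem actR58_eq (i : Nat) : actR58 i = Tab.act T D rw58 i := rfl
noncomputable def actR59 (i : Nat) : Nat := col25 (col3 (col24 (col2 (i))))
theorem actR59_eq (i : Nat) : actR59 i = Tab.act T D rw59 i := rfl
noncomputable def actR60 (i : Nat) : Nat := col25 (col5 (col24 (col4 (i))))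
theorem actR60_eq (i : Nat) : actR60 i = Tab.act T D rw60 i := rfl
noncomputable def actR61 (i : Nat) : Nat := col25 (col7 (col24 (col6 (i))))
theorem actR61_eq (i : Nat) : actR61 i = Tab.act T D rw61 i := rfl
noncomputable def actR62 (i : Nat) : Nat := col25 (col9 (col24 (col8 (i))))
theorem actR62_eq (i : Nat) : actR62 i = Tab.act T D rw62 i := rfl
noncomputable def actR63 (i : Nat) : Nat := col27 (col1 (col26 (col0 (i))))
theorem actR63_eq (i : Nat) : actR63 i = Tab.act T D rw63 i := rfl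
noncomputable def actR64 (i : Nat) : Nat := col27 (col3 (col26 (col2 (i))))
theorem actR64_eq (i : Nat) : actR64 i = Tab.act T D rw64 i := rfl
noncomputable def actR65 (i : Nat) : Nat := col27 (col5 (col26 (col4 (i))))
theorem actR65_eq (i : Nat) : actR65 i = Tab.act T D rw65 i := rfl
noncomputable def actR66 (i : Nat) : Nat := col27 (col7 (col26 (col6 (i))))
theorem actR66_eq (i : Nat) : actR66 i = Tab.act T D rw66 i := rfl
noncomputable def actR67 (i : Nat) : Nat := col27 (col9 (col26 (col8 (i))))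
theorem actR67_eq (i : Nat) : actR67 i = Tab.act T D rw67 i := rfl
noncomputable def actR68 (i : Nat) : Nat := col1 (col1 (col1 (col1 (col1 (col1 (col1 (i)))))))
theorem actR68_eq (i : Nat) : actR68 i = Tab.act T D rw68 i := rfl
noncomputable def actR69 (i : Nat) : Nat := col1 (col1 (col3 (col0 (col3 (col1 (col2 (col1 (col3 (col0 (col3 (i)))))))))))
theorem actR69_eq (i : Nat) : actR69 i = Tab.act T D rw69 i := rfl
noncomputable def actR70 (i : Nat) : Nat := col1 (col1 (col1 (col3 (col1 (col1 (col1 (col3 (col1 (col1 (col1 (col3 (i))))))))))))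
theorem actR70_eq (i : Nat) : actR70 i = Tab.act T D rw70 i := rfl
noncomputable def actR71 (i : Nat) : Nat := col1 (col1 (col3 (col3 (col1 (col1 (col2 (col2 (col1 (col1 (col2 (col2 (i))))))))))))
theorem actR71_eq (i : Nat) : actR71 i = Tab.act T D rw71 i := rfl
noncomputable def actR72 (i : Nat) : Nat := col7 (col1 (col6 (col1 (col3 (col3 (col7 (col0 (col6 (col1 (col2 (col2 (col0 (col0 (i))))))))))))))
theorem actR72_eq (i : Nat) : actR72 i = Tab.act T D rw72 i := rfl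
noncomputable def actR73 (i : Nat) : Nat := col7 (col1 (col6 (col3 (col3 (col0 (col7 (col0 (col6 (col1 (col1 (col2 (col2 (col0 (i))))))))))))))
theorem actR73_eq (i : Nat) : actR73 i = Tab.act T D rw73 i := rfl
noncomputable def actR74 (i : Nat) : Nat := col7 (col0 (col6 (col1 (col1 (col3 (col3 (col0 (col7 (col1 (col6 (col2 (col2 (col0 (i))))))))))))))
theorem actR74_eq (i : Nat) : actR74 i = Tab.act T D rw74 i := rfl
noncomputable def actR75 (i : Nat) : Nat := col7 (col0 (col6 (col1 (col3 (col3 (col0 (col0 (col7 (col1 (col6 (col1 (col2 (col2 (i))))))))))))))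
theorem actR75_eq (i : Nat) : actR75 i = Tab.act T D rw75 i := rfl
noncomputable def actR76 (i : Nat) : Nat := col6 (col1 (col7 (col0 (col0 (col3 (col3 (col1 (col1 (col6 (col0 (col7 (col0 (col2 (col2 (col1 (i))))))))))))))))
theorem actR76_eq (i : Nat) : actR76 i = Tab.act T D rw76 i := rfl
noncomputable def actR77 (i : Nat) : Nat := col6 (col0 (col7 (col0 (col3 (col3 (col1 (col6 (col1 (col7 (col0 (col0 (col2 (col2 (col1 (col1 (i))))))))))))))))
theorem actR77_eq (i : Nat) : actR77 i = Tab.act T D rw77 i := rfl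
noncomputable def actR78 (i : Nat) : Nat := col6 (col3 (col7 (col1 (col2 (col1 (col1 (col6 (col2 (col7 (col2 (col1 (col3 (col0 (col3 (col0 (col3 (i)))))))))))))))))
theorem actR78_eq (i : Nat) : actR78 i = Tab.act T D rw78 i := rfl
noncomputable def actR79 (i : Nat) : Nat := col6 (col3 (col7 (col0 (col0 (col3 (col0 (col6 (col2 (col7 (col2 (col1 (col2 (col1 (col2 (col0 (col3 (i)))))))))))))))))
theorem actR79_eq (i : Nat) : actR79 i = Tab.act T D rw79 i := rfl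
noncomputable def actR80 (i : Nat) : Nat := col6 (col2 (col7 (col2 (col1 (col3 (col0 (col3 (col0 (col3 (col6 (col3 (col7 (col1 (col2 (col1 (col1 (i)))))))))))))))))
theorem actR80_eq (i : Nat) : actR80 i = Tab.act T D rw80 i := rfl
noncomputable def actR81 (i : Nat) : Nat := col6 (col2 (col7 (col2 (col1 (col2 (col1 (col2 (col0 (col3 (col6 (col3 (col7 (col0 (col0 (col3 (col0 (i)))))))))))))))))
theorem actR81_eq (i : Nat) : actR81 i = Tab.act T D rw81 i := rfl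
noncomputable def actR82 (i : Nat) : Nat := col7 (col3 (col6 (col1 (col1 (col3 (col3 (col0 (col0 (col7 (col2 (col6 (col2 (col0 (col2 (col2 (col1 (col3 (i))))))))))))))))))
theorem actR82_eq (i : Nat) : actR82 i = Tab.act T D rw82 i := rfl
noncomputable def actR83 (i : Nat) : Nat := col7 (col2 (col6 (col2 (col0 (col3 (col3 (col1 (col3 (col7 (col3 (col6 (col1 (col1 (col2 (col2 (col0 (col0 (i))))))))))))))))))
theorem actR83_eq (i : Nat) : actR83 i = Tab.act T D rw83 i := rfl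
noncomputable def actR84 (i : Nat) : Nat := col6 (col3 (col7 (col2 (col0 (col3 (col3 (col1 (col3 (col6 (col2 (col7 (col1 (col1 (col2 (col2 (col0 (col0 (i))))))))))))))))))
theorem actR84_eq (i : Nat) : actR84 i = Tab.act T D rw84 i := rfl
noncomputable def actR85 (i : Nat) : Nat := col6 (col2 (col7 (col1 (col1 (col3 (col3 (col0 (col0 (col6 (col3 (col7 (col2 (col0 (col2 (col2 (col1 (col3 (i))))))))))))))))))
theorem actR85_eq (i : Nat) : actR85 i = Tab.act T D rw85 i := rfl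
noncomputable def actR86 (i : Nat) : Nat := col7 (col3 (col6 (col0 (col2 (col1 (col2 (col1 (col1 (col2 (col0 (col2 (col7 (col2 (col6 (col0 (col0 (col3 (col0 (i)))))))))))))))))))
theorem actR86_eq (i : Nat) : actR86 i = Tab.act T D rw86 i := rfl
noncomputable def actR87 (i : Nat) : Nat := col7 (col3 (col6 (col3 (col1 (col3 (col0 (col0 (col3 (col0 (col3 (col1 (col7 (col2 (col6 (col1 (col2 (col1 (col1 (i)))))))))))))))))))
theorem actR87_eq (i : Nat) : actR87 i = Tab.act T D rw87 i := rfl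
noncomputable def actR88 (i : Nat) : Nat := col7 (col2 (col6 (col1 (col2 (col1 (col1 (col7 (col3 (col6 (col3 (col1 (col3 (col0 (col0 (col3 (col0 (col3 (col1 (i)))))))))))))))))))
theorem actR88_eq (i : Nat) : actR88 i = Tab.act T D rw88 i := rfl
noncomputable def actR89 (i : Nat) : Nat := col7 (col2 (col6 (col0 (col0 (col3 (col0 (col7 (col3 (col6 (col0 (col2 (col1 (col2 (col1 (col1 (col2 (col0 (col2 (i)))))))))))))))))))
theorem actR89_eq (i : Nat) : actR89 i = Tab.act T D rw89 i := rfl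
noncomputable def actR90 (i : Nat) : Nat := col6 (col1 (col7 (col3 (col0 (col3 (col0 (col3 (col1 (col2 (col6 (col0 (col7 (col3 (col0 (col0 (col3 (col0 (col2 (i)))))))))))))))))))
theorem actR90_eq (i : Nat) : actR90 i = Tab.act T D rw90 i := rfl
noncomputable def actR91 (i : Nat) : Nat := col6 (col1 (col7 (col3 (col0 (col2 (col1 (col2 (col1 (col2 (col6 (col0 (col7 (col3 (col1 (col2 (col1 (col1 (col2 (i)))))))))))))))))))
theorem actR91_eq (i : Nat) : actR91 i = Tab.act T D rw91 i := rfl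
noncomputable def actR92 (i : Nat) : Nat := col6 (col0 (col7 (col3 (col1 (col2 (col1 (col1 (col2 (col6 (col1 (col7 (col3 (col0 (col2 (col1 (col2 (col1 (col2 (i)))))))))))))))))))
theorem actR92_eq (i : Nat) : actR92 i = Tab.act T D rw92 i := rfl
noncomputable def actR93 (i : Nat) : Nat := col6 (col0 (col7 (col3 (col0 (col0 (col3 (col0 (col2 (col6 (col1 (col7 (col3 (col0 (col3 (col0 (col3 (col1 (col2 (i)))))))))))))))))))
theorem actR93_eq (i : Nat) : actR93 i = Tab.act T D rw93 i := rfl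
noncomputable def actR94 (i : Nat) : Nat := col6 (col3 (col7 (col3 (col1 (col1 (col3 (col3 (col0 (col2 (col6 (col2 (col7 (col3 (col1 (col3 (col1 (col1 (col3 (i)))))))))))))))))))
theorem actR94_eq (i : Nat) : actR94 i = Tab.act T D rw94 i := rfl
noncomputable def actR95 (i : Nat) : Nat := col6 (col3 (col7 (col3 (col1 (col3 (col3 (col0 (col0 (col2 (col6 (col2 (col7 (col2 (col0 (col0 (col2 (col0 (col2 (i)))))))))))))))))))
theorem actR95_eq (i : Nat) : actR95 i = Tab.act T D rw95 i := rfl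
noncomputable def actR96 (i : Nat) : Nat := col6 (col2 (col7 (col3 (col1 (col3 (col1 (col1 (col3 (col6 (col3 (col7 (col3 (col1 (col1 (col2 (col2 (col0 (col2 (i)))))))))))))))))))
theorem actR96_eq (i : Nat) : actR96 i = Tab.act T D rw96 i := rfl
noncomputable def actR97 (i : Nat) : Nat := col6 (col2 (col7 (col2 (col0 (col0 (col2 (col0 (col2 (col6 (col3 (col7 (col3 (col1 (col2 (col2 (col0 (col0 (col2 (i)))))))))))))))))))
theorem actR97_eq (i : Nat) : actR97 i = Tab.act T D rw97 i := rfl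
noncomputable def actR98 (i : Nat) : Nat := col7 (col1 (col6 (col1 (col3 (col3 (col1 (col3 (col3 (col7 (col0 (col6 (col1 (col2 (col2 (col0 (col2 (col2 (col0 (col0 (i))))))))))))))))))))
theorem actR98_eq (i : Nat) : actR98 i = Tab.act T D rw98 i := rfl
noncomputable def actR99 (i : Nat) : Nat := col7 (col0 (col6 (col1 (col1 (col3 (col3 (col1 (col3 (col3 (col0 (col7 (col1 (col6 (col2 (col2 (col0 (col2 (col2 (col0 (i))))))))))))))))))))
theorem actR99_eq (i : Nat) : actR99 i = Tab.act T D rw99 i := rfl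
noncomputable def actR100 (i : Nat) : Nat := col7 (col3 (col6 (col2 (col1 (col3 (col0 (col3 (col0 (col3 (col7 (col2 (col6 (col3 (col1 (col1 (col2 (col2 (col0 (col2 (i))))))))))))))))))))
theorem actR100_eq (i : Nat) : actR100 i = Tab.act T D rw100 i := rfl
noncomputable def actR101 (i : Nat) : Nat := col7 (col3 (col6 (col2 (col1 (col2 (col1 (col2 (col0 (col3 (col7 (col2 (col6 (col3 (col1 (col2 (col2 (col0 (col0 (col2 (i))))))))))))))))))))
theorem actR101_eq (i : Nat) : actR101 i = Tab.act T D rw101 i := rfl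
noncomputable def actR102 (i : Nat) : Nat := col7 (col2 (col6 (col3 (col1 (col1 (col3 (col3 (col0 (col2 (col7 (col3 (col6 (col2 (col1 (col3 (col0 (col3 (col0 (col3 (i))))))))))))))))))))
theorem actR102_eq (i : Nat) : actR102 i = Tab.act T D rw102 i := rfl
noncomputable def actR103 (i : Nat) : Nat := col7 (col2 (col6 (col3 (col1 (col3 (col3 (col0 (col0 (col2 (col7 (col3 (col6 (col2 (col1 (col2 (col1 (col2 (col0 (col3 (i))))))))))))))))))))
theorem actR103_eq (i : Nat) : actR103 i = Tab.act T D rw103 i := rfl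
noncomputable def actR104 (i : Nat) : Nat := col7 (col1 (col6 (col0 (col3 (col0 (col0 (col2 (col0 (col3 (col0 (col2 (col7 (col0 (col6 (col2 (col0 (col0 (col3 (col0 (col3 (i)))))))))))))))))))))
theorem actR104_eq (i : Nat) : actR104 i = Tab.act T D rw104 i := rfl
noncomputable def actR105 (i : Nat) : Nat := col7 (col1 (col6 (col3 (col1 (col2 (col1 (col3 (col1 (col1 (col2 (col1 (col7 (col0 (col6 (col2 (col1 (col2 (col1 (col1 (col3 (i)))))))))))))))))))))
theorem actR105_eq (i : Nat) : actR105 i = Tab.act T D rw105 i := rfl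
noncomputable def actR106 (i : Nat) : Nat := col7 (col0 (col6 (col2 (col1 (col2 (col1 (col1 (col3 (col7 (col1 (col6 (col3 (col1 (col2 (col1 (col3 (col1 (col1 (col2 (col1 (i)))))))))))))))))))))
theorem actR106_eq (i : Nat) : actR106 i = Tab.act T D rw106 i := rfl
noncomputable def actR107 (i : Nat) : Nat := col7 (col0 (col6 (col2 (col0 (col0 (col3 (col0 (col3 (col7 (col1 (col6 (col0 (col3 (col0 (col0 (col2 (col0 (col3 (col0 (col2 (i)))))))))))))))))))))
theorem actR107_eq (i : Nat) : actR107 i = Tab.act T D rw107 i := rfl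
noncomputable def actR108 (i : Nat) : Nat := col7 (col3 (col6 (col3 (col1 (col3 (col1 (col1 (col3 (col7 (col2 (col6 (col0 (col2 (col2 (col1 (col2 (col0 (col3 (col1 (col2 (i)))))))))))))))))))))
theorem actR108_eq (i : Nat) : actR108 i = Tab.act T D rw108 i := rfl
noncomputable def actR109 (i : Nat) : Nat := col7 (col3 (col6 (col2 (col0 (col0 (col2 (col0 (col2 (col7 (col2 (col6 (col3 (col0 (col2 (col1 (col3 (col0 (col2 (col2 (col1 (i)))))))))))))))))))))
theorem actR109_eq (i : Nat) : actR109 i = Tab.act T D rw109 i := rfl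
noncomputable def actR110 (i : Nat) : Nat := col7 (col2 (col6 (col0 (col3 (col3 (col1 (col2 (col0 (col3 (col1 (col2 (col7 (col3 (col6 (col3 (col1 (col3 (col1 (col1 (col3 (i)))))))))))))))))))))
theorem actR110_eq (i : Nat) : actR110 i = Tab.act T D rw110 i := rfl
noncomputable def actR111 (i : Nat) : Nat := col7 (col2 (col6 (col3 (col0 (col2 (col1 (col3 (col0 (col3 (col3 (col1 (col7 (col3 (col6 (col2 (col0 (col0 (col2 (col0 (col2 (i)))))))))))))))))))))
theorem actR111_eq (i : Nat) : actR111 i = Tab.act T D rw111 i := rfl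

end Cfsg.Agent.Lib.Helper4.TCD.SC3G23p3A
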