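import Cfsg.Agent.Lib.Helper4.TCD_SC3G23p3A_Acc

namespace Cfsg.Agent.Lib.Helper4.TCD.SC3G23p3A

open Cfsg.Agent.Lib.Helper4.TC

set_option maxRecDepth 100000
set_option Elab.async false

theorem c_zero : D.zeroOK = true := by decide +kernel
theorem c_base : allBelow D.baseOK 4 = true := by decide +kernel
theorem c_let : allBelow D.letOK 28 = true := by decide +kernel
theorem c_cls0 : T.cls 0 = 0 := by decide +kernel
theorem c_name0 : T.nameOf 0 = 0 := by decide +kernel
theorem c_tab : D.relTabOK 0 (baseRels 28 PSC3G23p3.invR PSC3G23p3.P.real subs ++ (baseRels 28 PSC3G23p3.invR PSC3G23p3.P.real subs).map (invWord D.inv)) = true := by decide +kernel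
theorem c_real : PSC3G23p3.P.real = realLit := by decide +kernel
theorem c_subfix : subs.all (fun u => Nat.beq (Tab.act T D u 0) 0) = true := by decide +kernel
theorem c_subs : subs.all (fun u => u.all (fun x => Nat.ble (Nat.succ x) 28)) = true := by decide +kernel
theorem c_names_0 : allRange D.nameOK 1 24140 = true := by decide +kernel
theorem c_cls_0 : allRange (T.clsOK D) 1 15000 = true := by decide +kernel
theorem c_cls_1 : allRange (T.clsOK D) 15001 9140 = true := by decide +kernel
theorem c_rep_0 : allRange (T.repOK D) 0 2106 = true := by decide +kernel
theorem c_rel_0 : allRange D.relOK 24145 3253 = true := by decide +kernel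
theorem c_rel_1 : allRange D.relOK 27398 3199 = true := by decide +kernel
theorem c_rel_2 : allRange D.relOK 30597 3514 = true := by decide +kernel
theorem c_rel_3 : allRange D.relOK 34111 3208 = true := by decide +kernel
theorem c_rel_4 : allRange D.relOK 37319 3526 = true := by decide +kernel
theorem c_rel_5 : allRange D.relOK 40845 3711 = true := by decide +kernel
theorem c_rel_6 : allRange D.relOK 44556 3524 = true := by decide +kernel
theorem c_rel_7 : allRange D.relOK 48080 3217 = true := by decide +kernel
theorem c_rel_8 : allRange D.relOK 51297 3153 = true := by decide +kernel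
theorem c_rel_9 : allRange D.relOK 54450 3135 = true := by decide +kernel
theorem c_rel_10 : allRange D.relOK 57585 2971 = true := by decide +kernel
theorem c_rel_11 : allRange D.relOK 60556 2986 = true := by decide +kernel
theorem c_rel_12 : allRange D.relOK 63542 2968 = true := by decide +kernel
theorem c_rel_13 : allRange D.relOK 66510 3045 = true := by decide +kernel
theorem c_rel_14 : allRange D.relOK 69555 3136 = true := by decide +kernel
theorem c_rel_15 : allRange D.relOK 72691 2928 = true := by decide +kernel
theorem c_rel_16 : allRange D.relOK 75619 3290 = true := by decide +kernel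
theorem c_rel_17 : allRange D.relOK 78909 2436 = true := by decide +kernel
theorem c_rel_18 : allRange D.relOK 81345 2693 = true := by decide +kernel
theorem c_rel_19 : allRange D.relOK 84038 3173 = true := by decide +kernel
theorem c_rel_20 : allRange D.relOK 87211 2699 = true := by decide +kernel
theorem c_rel_21 : allRange D.relOK 89910 3056 = true := by decide +kernel
theorem c_rel_22 : allRange D.relOK 92966 2988 = true := by decide +kernel
theorem c_rel_23 : allRange D.relOK 95954 2844 = true := by decide +kernel
theorem c_rel_24 : allRange D.relOK 98798 2232 = true := by decide +kernel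
theorem c_rel_25 : allRange D.relOK 101030 2005 = true := by decide +kernel
theorem c_rel_26 : allRange D.relOK 103035 1703 = true := by decide +kernel
theorem c_rel_27 : allRange D.relOK 104738 1344 = true := by decide +kernel
theorem c_rel_28 : allRange D.relOK 106082 770 = true := by decide +kernel
theorem c_rel_29 : allRange D.relOK 106852 1517 = true := by decide +kernel
theorem c_rel_30 : allRange D.relOK 108369 1610 = true := by decide +kernel
theorem c_rel_31 : allRange D.relOK 109979 2115 = true := by decide +kernel
theorem c_rel_32 : allRange D.relOK 112094 3428 = true := by decide +kernel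
theorem c_rel_33 : allRange D.relOK 115522 3182 = true := by decide +kernel
theorem c_rel_34 : allRange D.relOK 118704 3271 = true := by decide +kernel
theorem c_rel_35 : allRange D.relOK 121975 3341 = true := by decide +kernel
theorem c_rel_36 : allRange D.relOK 125316 3352 = true := by decide +kernel
theorem c_rel_37 : allRange D.relOK 128668 3320 = true := by decide +kernel
theorem c_rel_38 : allRange D.relOK 131988 3309 = true := by decide +kernel
theorem c_rel_39 : allRange D.relOK 135297 16 = true := by decide +kernel
theorem c_fin_0 : allGrid (T.finOK D) 0 428 28 = true := by decide +kernel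
theorem c_fin_1 : allGrid (T.finOK D) 428 428 28 = true := by decide +kernel
theorem c_fin_2 : allGrid (T.finOK D) 856 428 28 = true := by decide +kernel
theorem c_fin_3 : allGrid (T.finOK D) 1284 428 28 = true := by decide +kernel
theorem c_fin_4 : allGrid (T.finOK D) 1712 394 28 = true := by decide +kernel
theorem c_perm_0 : allGrid (T.permOK1 D) 0 1071 28 = true := by decide +kernel
theorem c_perm_1 : allGrid (T.permOK1 D) 1071 1035 28 = true := by decide +kernel
theorem c_act0_0 : allRange (fun i => Nat.beq (actR0 i) i) 0 2106 = true := by decide +kernel
theorem c_act1_0 : allRange (fun i => Nat.beq (actR1 i) i) 0 2106 = true := by decide +kernel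
theorem c_act2_0 : allRange (fun i => Nat.beq (actR2 i) i) 0 2106 = true := by decide +kernel
theorem c_act3_0 : allRange (fun i => Nat.beq (actR3 i) i) 0 2106 = true := by decide +kernel
theorem c_act4_0 : allRange (fun i => Nat.beq (actR4 i) i) 0 2106 = true := by decide +kernel
theorem c_act5_0 : allRange (fun i => Nat.beq (actR5 i) i) 0 2106 = true := by decide +kernel
theorem c_act6_0 : allRange (fun i => Nat.beq (actR6 i) i) 0 2106 = true := by decide +kernel
theorem c_act7_0 : allRange (fun i => Nat.beq (actR7 i) i) 0 2106 = true := by decide +kernel
theorem c_act8_0 : allRange (fun i => Nat.beq (actR8 i) i) 0 2106 = true := by decide +kernel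
theorem c_act9_0 : allRange (fun i => Nat.beq (actR9 i) i) 0 2106 = true := by decide +kernel
theorem c_act10_0 : allRange (fun i => Nat.beq (actR10 i) i) 0 2106 = true := by decide +kernel
theorem c_act11_0 : allRange (fun i => Nat.beq (actR11 i) i) 0 2106 = true := by decide +kernel
theorem c_act12_0 : allRange (fun i => Nat.beq (actR12 i) i) 0 2106 = true := by decide +kernel
theorem c_act13_0 : allRange (fun i => Nat.beq (actR13 i) i) 0 2106 = true := by decide +kernel
theorem c_act14_0 : allRange (fun i => Nat.beq (actR14 i) i) 0 2106 = true := by decide +kernel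
theorem c_act15_0 : allRange (fun i => Nat.beq (actR15 i) i) 0 2106 = true := by decide +kernel
theorem c_act16_0 : allRange (fun i => Nat.beq (actR16 i) i) 0 2106 = true := by decide +kernel
theorem c_act17_0 : allRange (fun i => Nat.beq (actR17 i) i) 0 2106 = true := by decide +kernel
theorem c_act18_0 : allRange (fun i => Nat.beq (actR18 i) i) 0 2106 = true := by decide +kernel
theorem c_act19_0 : allRange (fun i => Nat.beq (actR19 i) i) 0 2106 = true := by decide +kernel
theorem c_act20_0 : allRange (fun i => Nat.beq (actR20 i) i) 0 2106 = true := by decide +kernel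
theorem c_act21_0 : allRange (fun i => Nat.beq (actR21 i) i) 0 2106 = true := by decide +kernel
theorem c_act22_0 : allRange (fun i => Nat.beq (actR22 i) i) 0 2106 = true := by decide +kernel
theorem c_act23_0 : allRange (fun i => Nat.beq (actR23 i) i) 0 2106 = true := by decide +kernel
theorem c_act24_0 : allRange (fun i => Nat.beq (actR24 i) i) 0 2106 = true := by decide +kernel
theorem c_act25_0 : allRange (fun i => Nat.beq (actR25 i) i) 0 2106 = true := by decide +kernel
theorem c_act26_0 : allRange (fun i => Nat.beq (actR26 i) i) 0 2106 = true := by decide +kernel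
theorem c_act27_0 : allRange (fun i => Nat.beq (actR27 i) i) 0 2106 = true := by decide +kernel
theorem c_act28_0 : allRange (fun i => Nat.beq (actR28 i) i) 0 2106 = true := by decide +kernel
theorem c_act29_0 : allRange (fun i => Nat.beq (actR29 i) i) 0 2106 = true := by decide +kernel
theorem c_act30_0 : allRange (fun i => Nat.beq (actR30 i) i) 0 2106 = true := by decide +kernel
theorem c_act31_0 : allRange (fun i => Nat.beq (actR31 i) i) 0 2106 = true := by decide +kernel
theorem c_act32_0 : allRange (fun i => Nat.beq (actR32 i) i) 0 2106 = true := by decide +kernel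
theorem c_act33_0 : allRange (fun i => Nat.beq (actR33 i) i) 0 2106 = true := by decide +kernel
theorem c_act34_0 : allRange (fun i => Nat.beq (actR34 i) i) 0 2106 = true := by decide +kernel
theorem c_act35_0 : allRange (fun i => Nat.beq (actR35 i) i) 0 2106 = true := by decide +kernel
theorem c_act36_0 : allRange (fun i => Nat.beq (actR36 i) i) 0 2106 = true := by decide +kernel
theorem c_act37_0 : allRange (fun i => Nat.beq (actR37 i) i) 0 2106 = true := by decide +kernel
theorem c_act38_0 : allRange (fun i => Nat.beq (actR38 i) i) 0 2106 = true := by decide +kernel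
theorem c_act39_0 : allRange (fun i => Nat.beq (actR39 i) i) 0 2106 = true := by decide +kernel
theorem c_act40_0 : allRange (fun i => Nat.beq (actR40 i) i) 0 2106 = true := by decide +kernel
theorem c_act41_0 : allRange (fun i => Nat.beq (actR41 i) i) 0 2106 = true := by decide +kernel
theorem c_act42_0 : allRange (fun i => Nat.beq (actR42 i) i) 0 2106 = true := by decide +kernel
theorem c_act43_0 : allRange (fun i => Nat.beq (actR43 i) i) 0 2106 = true := by decide +kernel
theorem c_act44_0 : allRange (fun i => Nat.beq (actR44 i) i) 0 2106 = true := by decide +kernel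
theorem c_act45_0 : allRange (fun i => Nat.beq (actR45 i) i) 0 2106 = true := by decide +kernel
theorem c_act46_0 : allRange (fun i => Nat.beq (actR46 i) i) 0 2106 = true := by decide +kernel
theorem c_act47_0 : allRange (fun i => Nat.beq (actR47 i) i) 0 2106 = true := by decide +kernel
theorem c_act48_0 : allRange (fun i => Nat.beq (actR48 i) i) 0 2106 = true := by decide +kernel
theorem c_act49_0 : allRange (fun i => Nat.beq (actR49 i) i) 0 2106 = true := by decide +kernel
theorem c_act50_0 : allRange (fun i => Nat.beq (actR50 i) i) 0 2106 = true := by decide +kernel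
theorem c_act51_0 : allRange (fun i => Nat.beq (actR51 i) i) 0 2106 = true := by decide +kernel
theorem c_act52_0 : allRange (fun i => Nat.beq (actR52 i) i) 0 2106 = true := by decide +kernel
theorem c_act53_0 : allRange (fun i => Nat.beq (actR53 i) i) 0 2106 = true := by decide +kernel
theorem c_act54_0 : allRange (fun i => Nat.beq (actR54 i) i) 0 2106 = true := by decide +kernel
theorem c_act55_0 : allRange (fun i => Nat.beq (actR55 i) i) 0 2106 = true := by decide +kernel
theorem c_act56_0 : allRange (fun i => Nat.beq (actR56 i) i) 0 2106 = true := by decide +kernel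
theorem c_act57_0 : allRange (fun i => Nat.beq (actR57 i) i) 0 2106 = true := by decide +kernel
theorem c_act58_0 : allRange (fun i => Nat.beq (actR58 i) i) 0 2106 = true := by decide +kernel
theorem c_act59_0 : allRange (fun i => Nat.beq (actR59 i) i) 0 2106 = true := by decide +kernel
theorem c_act60_0 : allRange (fun i => Nat.beq (actR60 i) i) 0 2106 = true := by decide +kernel
theorem c_act61_0 : allRange (fun i => Nat.beq (actR61 i) i) 0 2106 = true := by decide +kernel
theorem c_act62_0 : allRange (fun i => Nat.beq (actR62 i) i) 0 2106 = true := by decide +kernel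
theorem c_act63_0 : allRange (fun i => Nat.beq (actR63 i) i) 0 2106 = true := by decide +kernel
theorem c_act64_0 : allRange (fun i => Nat.beq (actR64 i) i) 0 2106 = true := by decide +kernel
theorem c_act65_0 : allRange (fun i => Nat.beq (actR65 i) i) 0 2106 = true := by decide +kernel
theorem c_act66_0 : allRange (fun i => Nat.beq (actR66 i) i) 0 2106 = true := by decide +kernel
theorem c_act67_0 : allRange (fun i => Nat.beq (actR67 i) i) 0 2106 = true := by decide +kernel
theorem c_act68_0 : allRange (fun i => Nat.beq (actR68 i) i) 0 2106 = true := by decide +kernel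
theorem c_act69_0 : allRange (fun i => Nat.beq (actR69 i) i) 0 2106 = true := by decide +kernel
theorem c_act70_0 : allRange (fun i => Nat.beq (actR70 i) i) 0 2106 = true := by decide +kernel
theorem c_act71_0 : allRange (fun i => Nat.beq (actR71 i) i) 0 2106 = true := by decide +kernel
theorem c_act72_0 : allRange (fun i => Nat.beq (actR72 i) i) 0 2106 = true := by decide +kernel
theorem c_act73_0 : allRange (fun i => Nat.beq (actR73 i) i) 0 2106 = true := by decide +kernel
theorem c_act74_0 : allRange (fun i => Nat.beq (actR74 i) i) 0 2106 = true := by decide +kernel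
theorem c_act75_0 : allRange (fun i => Nat.beq (actR75 i) i) 0 2106 = true := by decide +kernel
theorem c_act76_0 : allRange (fun i => Nat.beq (actR76 i) i) 0 2106 = true := by decide +kernel
theorem c_act77_0 : allRange (fun i => Nat.beq (actR77 i) i) 0 2106 = true := by decide +kernel
theorem c_act78_0 : allRange (fun i => Nat.beq (actR78 i) i) 0 2106 = true := by decide +kernel
theorem c_act79_0 : allRange (fun i => Nat.beq (actR79 i) i) 0 2106 = true := by decide +kernel
theorem c_act80_0 : allRange (fun i => Nat.beq (actR80 i) i) 0 2106 = true := by decide +kernel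
theorem c_act81_0 : allRange (fun i => Nat.beq (actR81 i) i) 0 2106 = true := by decide +kernel
theorem c_act82_0 : allRange (fun i => Nat.beq (actR82 i) i) 0 2106 = true := by decide +kernel
theorem c_act83_0 : allRange (fun i => Nat.beq (actR83 i) i) 0 2106 = true := by decide +kernel
theorem c_act84_0 : allRange (fun i => Nat.beq (actR84 i) i) 0 2106 = true := by decide +kernel
theorem c_act85_0 : allRange (fun i => Nat.beq (actR85 i) i) 0 2106 = true := by decide +kernel
theorem c_act86_0 : allRange (fun i => Nat.beq (actR86 i) i) 0 2106 = true := by decide +kernel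

end Cfsg.Agent.Lib.Helper4.TCD.SC3G23p3A
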