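import Cfsg.Agent.Lib.Helper4.TC7
import Cfsg.Agent.Lib.Helper4.TCP_SC3J3p2
import Cfsg.Agent.Lib.Helper4.TCD_SC3J3p2A_D0
import Cfsg.Agent.Lib.Helper4.TCD_SC3J3p2A_D1
import Cfsg.Agent.Lib.Helper4.TCD_SC3J3p2A_D2
import Cfsg.Agent.Lib.Helper4.TCD_SC3J3p2A_D3
import Cfsg.Agent.Lib.Helper4.TCD_SC3J3p2A_D4
import Cfsg.Agent.Lib.Helper4.TCD_SC3J3p2A_D5
import Cfsg.Agent.Lib.Helper4.TCD_SC3J3p2A_D6
import Cfsg.Agent.Lib.Helper4.TCD_SC3J3p2A_D7
import Cfsg.Agent.Lib.Helper4.TCD_SC3J3p2A_D8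
import Cfsg.Agent.Lib.Helper4.TCD_SC3J3p2A_D9
import Cfsg.Agent.Lib.Helper4.TCD_SC3J3p2A_D10
import Cfsg.Agent.Lib.Helper4.TCD_SC3J3p2A_D11
import Cfsg.Agent.Lib.Helper4.TCD_SC3J3p2A_D12
import Cfsg.Agent.Lib.Helper4.TCD_SC3J3p2A_D13
import Cfsg.Agent.Lib.Helper4.TCD_SC3J3p2A_D14
import Cfsg.Agent.Lib.Helper4.TCD_SC3J3p2A_D15
import Cfsg.Agent.Lib.Helper4.TCD_SC3J3p2A_D16
import Cfsg.Agent.Lib.Helper4.TCD_SC3J3p2A_D17
import Cfsg.Agent.Lib.Helper4.TCD_SC3J3p2A_D18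
import Cfsg.Agent.Lib.Helper4.TCD_SC3J3p2A_D19
import Cfsg.Agent.Lib.Helper4.TCD_SC3J3p2A_D20
import Cfsg.Agent.Lib.Helper4.TCD_SC3J3p2A_D21
import Cfsg.Agent.Lib.Helper4.TCD_SC3J3p2A_D22

namespace Cfsg.Agent.Lib.Helper4.TCD.SC3J3p2A

open Cfsg.Agent.Lib.Helper4.TC

set_option maxRecDepth 100000

noncomputable def Atab_s_0_2 (c : Nat) : Nat := @Bool.rec (fun _ => Nat) (Atab_0) (Atab_1) (Nat.ble 1 c)
noncomputable def Atab_s_3_5 (c : Nat) : Nat := @Bool.rec (fun _ => Nat) (Atab_3) (Atab_4) (Nat.ble 4 c)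
noncomputable def Atab_s_2_5 (c : Nat) : Nat := @Bool.rec (fun _ => Nat) (Atab_2) (Atab_s_3_5 c) (Nat.ble 3 c)
noncomputable def Atab_s_0_5 (c : Nat) : Nat := @Bool.rec (fun _ => Nat) (Atab_s_0_2 c) (Atab_s_2_5 c) (Nat.ble 2 c)
noncomputable def Atab_s_5_7 (c : Nat) : Nat := @Bool.rec (fun _ => Nat) (Atab_5) (Atab_6) (Nat.ble 6 c)
noncomputable def Atab_s_8_10 (c : Nat) : Nat := @Bool.rec (fun _ => Nat) (Atab_8) (Atab_9) (Nat.ble 9 c)
noncomputable def Atab_s_7_10 (c : Nat) : Nat := @Bool.rec (fun _ => Nat) (Atab_7) (Atab_s_8_10 c) (Nat.ble 8 c)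
noncomputable def Atab_s_5_10 (c : Nat) : Nat := @Bool.rec (fun _ => Nat) (Atab_s_5_7 c) (Atab_s_7_10 c) (Nat.ble 7 c)
noncomputable def Atab_s_0_10 (c : Nat) : Nat := @Bool.rec (fun _ => Nat) (Atab_s_0_5 c) (Atab_s_5_10 c) (Nat.ble 5 c)
noncomputable def Atab_s_10_12 (c : Nat) : Nat := @Bool.rec (fun _ => Nat) (Atab_10) (Atab_11) (Nat.ble 11 c)
noncomputable def Atab_s_13_15 (c : Nat) : Nat := @Bool.rec (fun _ => Nat) (Atab_13) (Atab_14) (Nat.ble 14 c)
noncomputable def Atab_s_12_15 (c : Nat) : Nat := @Bool.rec (fun _ => Nat) (Atab_12) (Atab_s_13_15 c) (Nat.ble 13 c)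
noncomputable def Atab_s_10_15 (c : Nat) : Nat := @Bool.rec (fun _ => Nat) (Atab_s_10_12 c) (Atab_s_12_15 c) (Nat.ble 12 c)
noncomputable def Atab_s_15_17 (c : Nat) : Nat := @Bool.rec (fun _ => Nat) (Atab_15) (Atab_16) (Nat.ble 16 c)
noncomputable def Atab_s_18_20 (c : Nat) : Nat := @Bool.rec (fun _ => Nat) (Atab_18) (Atab_19) (Nat.ble 19 c)
noncomputable def Atab_s_17_20 (c : Nat) : Nat := @Bool.rec (fun _ => Nat) (Atab_17) (Atab_s_18_20 c) (Nat.ble 18 c)
noncomputable def Atab_s_15_20 (c : Nat) : Nat := @Bool.rec (fun _ => Nat) (Atab_s_15_17 c) (Atab_s_17_20 c) (Nat.ble 17 c)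
noncomputable def Atab_s_10_20 (c : Nat) : Nat := @Bool.rec (fun _ => Nat) (Atab_s_10_15 c) (Atab_s_15_20 c) (Nat.ble 15 c)
noncomputable def Atab_s_0_20 (c : Nat) : Nat := @Bool.rec (fun _ => Nat) (Atab_s_0_10 c) (Atab_s_10_20 c) (Nat.ble 10 c)
noncomputable def Atab_s_20_22 (c : Nat) : Nat := @Bool.rec (fun _ => Nat) (Atab_20) (Atab_21) (Nat.ble 21 c)
noncomputable def Atab_s_23_25 (c : Nat) : Nat := @Bool.rec (fun _ => Nat) (Atab_23) (Atab_24) (Nat.ble 24 c)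
noncomputable def Atab_s_22_25 (c : Nat) : Nat := @Bool.rec (fun _ => Nat) (Atab_22) (Atab_s_23_25 c) (Nat.ble 23 c)
noncomputable def Atab_s_20_25 (c : Nat) : Nat := @Bool.rec (fun _ => Nat) (Atab_s_20_22 c) (Atab_s_22_25 c) (Nat.ble 22 c)
noncomputable def Atab_s_25_27 (c : Nat) : Nat := @Bool.rec (fun _ => Nat) (Atab_25) (Atab_26) (Nat.ble 26 c)
noncomputable def Atab_s_28_30 (c : Nat) : Nat := @Bool.rec (fun _ => Nat) (Atab_28) (Atab_29) (Nat.ble 29 c)
noncomputable def Atab_s_27_30 (c : Nat) : Nat := @Bool.rec (fun _ => Nat) (Atab_27) (Atab_s_28_30 c) (Nat.ble 28 c)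
noncomputable def Atab_s_25_30 (c : Nat) : Nat := @Bool.rec (fun _ => Nat) (Atab_s_25_27 c) (Atab_s_27_30 c) (Nat.ble 27 c)
noncomputable def Atab_s_20_30 (c : Nat) : Nat := @Bool.rec (fun _ => Nat) (Atab_s_20_25 c) (Atab_s_25_30 c) (Nat.ble 25 c)
noncomputable def Atab_s_30_32 (c : Nat) : Nat := @Bool.rec (fun _ => Nat) (Atab_30) (Atab_31) (Nat.ble 31 c)
noncomputable def Atab_s_33_35 (c : Nat) : Nat := @Bool.rec (fun _ => Nat) (Atab_33) (Atab_34) (Nat.ble 34 c)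
noncomputable def Atab_s_32_35 (c : Nat) : Nat := @Bool.rec (fun _ => Nat) (Atab_32) (Atab_s_33_35 c) (Nat.ble 33 c)
noncomputable def Atab_s_30_35 (c : Nat) : Nat := @Bool.rec (fun _ => Nat) (Atab_s_30_32 c) (Atab_s_32_35 c) (Nat.ble 32 c)
noncomputable def Atab_s_36_38 (c : Nat) : Nat := @Bool.rec (fun _ => Nat) (Atab_36) (Atab_37) (Nat.ble 37 c)
noncomputable def Atab_s_35_38 (c : Nat) : Nat := @Bool.rec (fun _ => Nat) (Atab_35) (Atab_s_36_38 c) (Nat.ble 36 c)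
noncomputable def Atab_s_39_41 (c : Nat) : Nat := @Bool.rec (fun _ => Nat) (Atab_39) (Atab_40) (Nat.ble 40 c)
noncomputable def Atab_s_38_41 (c : Nat) : Nat := @Bool.rec (fun _ => Nat) (Atab_38) (Atab_s_39_41 c) (Nat.ble 39 c)
noncomputable def Atab_s_35_41 (c : Nat) : Nat := @Bool.rec (fun _ => Nat) (Atab_s_35_38 c) (Atab_s_38_41 c) (Nat.ble 38 c)
noncomputable def Atab_s_30_41 (c : Nat) : Nat := @Bool.rec (fun _ => Nat) (Atab_s_30_35 c) (Atab_s_35_41 c) (Nat.ble 35 c)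
noncomputable def Atab_s_20_41 (c : Nat) : Nat := @Bool.rec (fun _ => Nat) (Atab_s_20_30 c) (Atab_s_30_41 c) (Nat.ble 30 c)
noncomputable def Atab_s_0_41 (c : Nat) : Nat := @Bool.rec (fun _ => Nat) (Atab_s_0_20 c) (Atab_s_20_41 c) (Nat.ble 20 c)
noncomputable def Atab_s_41_43 (c : Nat) : Nat := @Bool.rec (fun _ => Nat) (Atab_41) (Atab_42) (Nat.ble 42 c)
noncomputable def Atab_s_44_46 (c : Nat) : Nat := @Bool.rec (fun _ => Nat) (Atab_44) (Atab_45) (Nat.ble 45 c)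
noncomputable def Atab_s_43_46 (c : Nat) : Nat := @Bool.rec (fun _ => Nat) (Atab_43) (Atab_s_44_46 c) (Nat.ble 44 c)
noncomputable def Atab_s_41_46 (c : Nat) : Nat := @Bool.rec (fun _ => Nat) (Atab_s_41_43 c) (Atab_s_43_46 c) (Nat.ble 43 c)
noncomputable def Atab_s_46_48 (c : Nat) : Nat := @Bool.rec (fun _ => Nat) (Atab_46) (Atab_47) (Nat.ble 47 c)
noncomputable def Atab_s_49_51 (c : Nat) : Nat := @Bool.rec (fun _ => Nat) (Atab_49) (Atab_50) (Nat.ble 50 c)
noncomputable def Atab_s_48_51 (c : Nat) : Nat := @Bool.rec (fun _ => Nat) (Atab_48) (Atab_s_49_51 c) (Nat.ble 49 c)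
noncomputable def Atab_s_46_51 (c : Nat) : Nat := @Bool.rec (fun _ => Nat) (Atab_s_46_48 c) (Atab_s_48_51 c) (Nat.ble 48 c)
noncomputable def Atab_s_41_51 (c : Nat) : Nat := @Bool.rec (fun _ => Nat) (Atab_s_41_46 c) (Atab_s_46_51 c) (Nat.ble 46 c)
noncomputable def Atab_s_51_53 (c : Nat) : Nat := @Bool.rec (fun _ => Nat) (Atab_51) (Atab_52) (Nat.ble 52 c)
noncomputable def Atab_s_54_56 (c : Nat) : Nat := @Bool.rec (fun _ => Nat) (Atab_54) (Atab_55) (Nat.ble 55 c)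
noncomputable def Atab_s_53_56 (c : Nat) : Nat := @Bool.rec (fun _ => Nat) (Atab_53) (Atab_s_54_56 c) (Nat.ble 54 c)
noncomputable def Atab_s_51_56 (c : Nat) : Nat := @Bool.rec (fun _ => Nat) (Atab_s_51_53 c) (Atab_s_53_56 c) (Nat.ble 53 c)
noncomputable def Atab_s_56_58 (c : Nat) : Nat := @Bool.rec (fun _ => Nat) (Atab_56) (Atab_57) (Nat.ble 57 c)
noncomputable def Atab_s_59_61 (c : Nat) : Nat := @Bool.rec (fun _ => Nat) (Atab_59) (Atab_60) (Nat.ble 60 c)
noncomputable def Atab_s_58_61 (c : Nat) : Nat := @Bool.rec (fun _ => Nat) (Atab_58) (Atab_s_59_61 c) (Nat.ble 59 c)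
noncomputable def Atab_s_56_61 (c : Nat) : Nat := @Bool.rec (fun _ => Nat) (Atab_s_56_58 c) (Atab_s_58_61 c) (Nat.ble 58 c)
noncomputable def Atab_s_51_61 (c : Nat) : Nat := @Bool.rec (fun _ => Nat) (Atab_s_51_56 c) (Atab_s_56_61 c) (Nat.ble 56 c)
noncomputable def Atab_s_41_61 (c : Nat) : Nat := @Bool.rec (fun _ => Nat) (Atab_s_41_51 c) (Atab_s_51_61 c) (Nat.ble 51 c)
noncomputable def Atab_s_61_63 (c : Nat) : Nat := @Bool.rec (fun _ => Nat) (Atab_61) (Atab_62) (Nat.ble 62 c)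
noncomputable def Atab_s_64_66 (c : Nat) : Nat := @Bool.rec (fun _ => Nat) (Atab_64) (Atab_65) (Nat.ble 65 c)
noncomputable def Atab_s_63_66 (c : Nat) : Nat := @Bool.rec (fun _ => Nat) (Atab_63) (Atab_s_64_66 c) (Nat.ble 64 c)
noncomputable def Atab_s_61_66 (c : Nat) : Nat := @Bool.rec (fun _ => Nat) (Atab_s_61_63 c) (Atab_s_63_66 c) (Nat.ble 63 c)
noncomputable def Atab_s_66_68 (c : Nat) : Nat := @Bool.rec (fun _ => Nat) (Atab_66) (Atab_67) (Nat.ble 67 c)
noncomputable def Atab_s_69_71 (c : Nat) : Nat := @Bool.rec (fun _ => Nat) (Atab_69) (Atab_70) (Nat.ble 70 c)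
noncomputable def Atab_s_68_71 (c : Nat) : Nat := @Bool.rec (fun _ => Nat) (Atab_68) (Atab_s_69_71 c) (Nat.ble 69 c)
noncomputable def Atab_s_66_71 (c : Nat) : Nat := @Bool.rec (fun _ => Nat) (Atab_s_66_68 c) (Atab_s_68_71 c) (Nat.ble 68 c)
noncomputable def Atab_s_61_71 (c : Nat) : Nat := @Bool.rec (fun _ => Nat) (Atab_s_61_66 c) (Atab_s_66_71 c) (Nat.ble 66 c)
noncomputable def Atab_s_71_73 (c : Nat) : Nat := @Bool.rec (fun _ => Nat) (Atab_71) (Atab_72) (Nat.ble 72 c)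
noncomputable def Atab_s_74_76 (c : Nat) : Nat := @Bool.rec (fun _ => Nat) (Atab_74) (Atab_75) (Nat.ble 75 c)
noncomputable def Atab_s_73_76 (c : Nat) : Nat := @Bool.rec (fun _ => Nat) (Atab_73) (Atab_s_74_76 c) (Nat.ble 74 c)
noncomputable def Atab_s_71_76 (c : Nat) : Nat := @Bool.rec (fun _ => Nat) (Atab_s_71_73 c) (Atab_s_73_76 c) (Nat.ble 73 c)
noncomputable def Atab_s_77_79 (c : Nat) : Nat := @Bool.rec (fun _ => Nat) (Atab_77) (Atab_78) (Nat.ble 78 c)
noncomputable def Atab_s_76_79 (c : Nat) : Nat := @Bool.rec (fun _ => Nat) (Atab_76) (Atab_s_77_79 c) (Nat.ble 77 c)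
noncomputable def Atab_s_80_82 (c : Nat) : Nat := @Bool.rec (fun _ => Nat) (Atab_80) (Atab_81) (Nat.ble 81 c)
noncomputable def Atab_s_79_82 (c : Nat) : Nat := @Bool.rec (fun _ => Nat) (Atab_79) (Atab_s_80_82 c) (Nat.ble 80 c)
noncomputable def Atab_s_76_82 (c : Nat) : Nat := @Bool.rec (fun _ => Nat) (Atab_s_76_79 c) (Atab_s_79_82 c) (Nat.ble 79 c)
noncomputable def Atab_s_71_82 (c : Nat) : Nat := @Bool.rec (fun _ => Nat) (Atab_s_71_76 c) (Atab_s_76_82 c) (Nat.ble 76 c)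
noncomputable def Atab_s_61_82 (c : Nat) : Nat := @Bool.rec (fun _ => Nat) (Atab_s_61_71 c) (Atab_s_71_82 c) (Nat.ble 71 c)
noncomputable def Atab_s_41_82 (c : Nat) : Nat := @Bool.rec (fun _ => Nat) (Atab_s_41_61 c) (Atab_s_61_82 c) (Nat.ble 61 c)
noncomputable def Atab_s_0_82 (c : Nat) : Nat := @Bool.rec (fun _ => Nat) (Atab_s_0_41 c) (Atab_s_41_82 c) (Nat.ble 41 c)
noncomputable def Atab_s_82_84 (c : Nat) : Nat := @Bool.rec (fun _ => Nat) (Atab_82) (Atab_83) (Nat.ble 83 c)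
noncomputable def Atab_s_85_87 (c : Nat) : Nat := @Bool.rec (fun _ => Nat) (Atab_85) (Atab_86) (Nat.ble 86 c)
noncomputable def Atab_s_84_87 (c : Nat) : Nat := @Bool.rec (fun _ => Nat) (Atab_84) (Atab_s_85_87 c) (Nat.ble 85 c)
noncomputable def Atab_s_82_87 (c : Nat) : Nat := @Bool.rec (fun _ => Nat) (Atab_s_82_84 c) (Atab_s_84_87 c) (Nat.ble 84 c)
noncomputable def Atab_s_87_89 (c : Nat) : Nat := @Bool.rec (fun _ => Nat) (Atab_87) (Atab_88) (Nat.ble 88 c)
noncomputable def Atab_s_90_92 (c : Nat) : Nat := @Bool.rec (fun _ => Nat) (Atab_90) (Atab_91) (Nat.ble 91 c)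
noncomputable def Atab_s_89_92 (c : Nat) : Nat := @Bool.rec (fun _ => Nat) (Atab_89) (Atab_s_90_92 c) (Nat.ble 90 c)
noncomputable def Atab_s_87_92 (c : Nat) : Nat := @Bool.rec (fun _ => Nat) (Atab_s_87_89 c) (Atab_s_89_92 c) (Nat.ble 89 c)
noncomputable def Atab_s_82_92 (c : Nat) : Nat := @Bool.rec (fun _ => Nat) (Atab_s_82_87 c) (Atab_s_87_92 c) (Nat.ble 87 c)
noncomputable def Atab_s_92_94 (c : Nat) : Nat := @Bool.rec (fun _ => Nat) (Atab_92) (Atab_93) (Nat.ble 93 c)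
noncomputable def Atab_s_95_97 (c : Nat) : Nat := @Bool.rec (fun _ => Nat) (Atab_95) (Atab_96) (Nat.ble 96 c)
noncomputable def Atab_s_94_97 (c : Nat) : Nat := @Bool.rec (fun _ => Nat) (Atab_94) (Atab_s_95_97 c) (Nat.ble 95 c)
noncomputable def Atab_s_92_97 (c : Nat) : Nat := @Bool.rec (fun _ => Nat) (Atab_s_92_94 c) (Atab_s_94_97 c) (Nat.ble 94 c)
noncomputable def Atab_s_97_99 (c : Nat) : Nat := @Bool.rec (fun _ => Nat) (Atab_97) (Atab_98) (Nat.ble 98 c)
noncomputable def Atab_s_100_102 (c : Nat) : Nat := @Bool.rec (fun _ => Nat) (Atab_100) (Atab_101) (Nat.ble 101 c)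
noncomputable def Atab_s_99_102 (c : Nat) : Nat := @Bool.rec (fun _ => Nat) (Atab_99) (Atab_s_100_102 c) (Nat.ble 100 c)
noncomputable def Atab_s_97_102 (c : Nat) : Nat := @Bool.rec (fun _ => Nat) (Atab_s_97_99 c) (Atab_s_99_102 c) (Nat.ble 99 c)
noncomputable def Atab_s_92_102 (c : Nat) : Nat := @Bool.rec (fun _ => Nat) (Atab_s_92_97 c) (Atab_s_97_102 c) (Nat.ble 97 c)
noncomputable def Atab_s_82_102 (c : Nat) : Nat := @Bool.rec (fun _ => Nat) (Atab_s_82_92 c) (Atab_s_92_102 c) (Nat.ble 92 c)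
noncomputable def Atab_s_102_104 (c : Nat) : Nat := @Bool.rec (fun _ => Nat) (Atab_102) (Atab_103) (Nat.ble 103 c)
noncomputable def Atab_s_105_107 (c : Nat) : Nat := @Bool.rec (fun _ => Nat) (Atab_105) (Atab_106) (Nat.ble 106 c)
noncomputable def Atab_s_104_107 (c : Nat) : Nat := @Bool.rec (fun _ => Nat) (Atab_104) (Atab_s_105_107 c) (Nat.ble 105 c)
noncomputable def Atab_s_102_107 (c : Nat) : Nat := @Bool.rec (fun _ => Nat) (Atab_s_102_104 c) (Atab_s_104_107 c) (Nat.ble 104 c)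
noncomputable def Atab_s_107_109 (c : Nat) : Nat := @Bool.rec (fun _ => Nat) (Atab_107) (Atab_108) (Nat.ble 108 c)
noncomputable def Atab_s_110_112 (c : Nat) : Nat := @Bool.rec (fun _ => Nat) (Atab_110) (Atab_111) (Nat.ble 111 c)
noncomputable def Atab_s_109_112 (c : Nat) : Nat := @Bool.rec (fun _ => Nat) (Atab_109) (Atab_s_110_112 c) (Nat.ble 110 c)
noncomputable def Atab_s_107_112 (c : Nat) : Nat := @Bool.rec (fun _ => Nat) (Atab_s_107_109 c) (Atab_s_109_112 c) (Nat.ble 109 c)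
noncomputable def Atab_s_102_112 (c : Nat) : Nat := @Bool.rec (fun _ => Nat) (Atab_s_102_107 c) (Atab_s_107_112 c) (Nat.ble 107 c)
noncomputable def Atab_s_112_114 (c : Nat) : Nat := @Bool.rec (fun _ => Nat) (Atab_112) (Atab_113) (Nat.ble 113 c)
noncomputable def Atab_s_115_117 (c : Nat) : Nat := @Bool.rec (fun _ => Nat) (Atab_115) (Atab_116) (Nat.ble 116 c)
noncomputable def Atab_s_114_117 (c : Nat) : Nat := @Bool.rec (fun _ => Nat) (Atab_114) (Atab_s_115_117 c) (Nat.ble 115 c)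
noncomputable def Atab_s_112_117 (c : Nat) : Nat := @Bool.rec (fun _ => Nat) (Atab_s_112_114 c) (Atab_s_114_117 c) (Nat.ble 114 c)
noncomputable def Atab_s_118_120 (c : Nat) : Nat := @Bool.rec (fun _ => Nat) (Atab_118) (Atab_119) (Nat.ble 119 c)
noncomputable def Atab_s_117_120 (c : Nat) : Nat := @Bool.rec (fun _ => Nat) (Atab_117) (Atab_s_118_120 c) (Nat.ble 118 c)
noncomputable def Atab_s_121_123 (c : Nat) : Nat := @Bool.rec (fun _ => Nat) (Atab_121) (Atab_122) (Nat.ble 122 c)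
noncomputable def Atab_s_120_123 (c : Nat) : Nat := @Bool.rec (fun _ => Nat) (Atab_120) (Atab_s_121_123 c) (Nat.ble 121 c)
noncomputable def Atab_s_117_123 (c : Nat) : Nat := @Bool.rec (fun _ => Nat) (Atab_s_117_120 c) (Atab_s_120_123 c) (Nat.ble 120 c)
noncomputable def Atab_s_112_123 (c : Nat) : Nat := @Bool.rec (fun _ => Nat) (Atab_s_112_117 c) (Atab_s_117_123 c) (Nat.ble 117 c)
noncomputable def Atab_s_102_123 (c : Nat) : Nat := @Bool.rec (fun _ => Nat) (Atab_s_102_112 c) (Atab_s_112_123 c) (Nat.ble 112 c)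
noncomputable def Atab_s_82_123 (c : Nat) : Nat := @Bool.rec (fun _ => Nat) (Atab_s_82_102 c) (Atab_s_102_123 c) (Nat.ble 102 c)
noncomputable def Atab_s_123_125 (c : Nat) : Nat := @Bool.rec (fun _ => Nat) (Atab_123) (Atab_124) (Nat.ble 124 c)
noncomputable def Atab_s_126_128 (c : Nat) : Nat := @Bool.rec (fun _ => Nat) (Atab_126) (Atab_127) (Nat.ble 127 c)
noncomputable def Atab_s_125_128 (c : Nat) : Nat := @Bool.rec (fun _ => Nat) (Atab_125) (Atab_s_126_128 c) (Nat.ble 126 c)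
noncomputable def Atab_s_123_128 (c : Nat) : Nat := @Bool.rec (fun _ => Nat) (Atab_s_123_125 c) (Atab_s_125_128 c) (Nat.ble 125 c)
noncomputable def Atab_s_128_130 (c : Nat) : Nat := @Bool.rec (fun _ => Nat) (Atab_128) (Atab_129) (Nat.ble 129 c)
noncomputable def Atab_s_131_133 (c : Nat) : Nat := @Bool.rec (fun _ => Nat) (Atab_131) (Atab_132) (Nat.ble 132 c)
noncomputable def Atab_s_130_133 (c : Nat) : Nat := @Bool.rec (fun _ => Nat) (Atab_130) (Atab_s_131_133 c) (Nat.ble 131 c)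
noncomputable def Atab_s_128_133 (c : Nat) : Nat := @Bool.rec (fun _ => Nat) (Atab_s_128_130 c) (Atab_s_130_133 c) (Nat.ble 130 c)
noncomputable def Atab_s_123_133 (c : Nat) : Nat := @Bool.rec (fun _ => Nat) (Atab_s_123_128 c) (Atab_s_128_133 c) (Nat.ble 128 c)
noncomputable def Atab_s_133_135 (c : Nat) : Nat := @Bool.rec (fun _ => Nat) (Atab_133) (Atab_134) (Nat.ble 134 c)
noncomputable def Atab_s_136_138 (c : Nat) : Nat := @Bool.rec (fun _ => Nat) (Atab_136) (Atab_137) (Nat.ble 137 c)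
noncomputable def Atab_s_135_138 (c : Nat) : Nat := @Bool.rec (fun _ => Nat) (Atab_135) (Atab_s_136_138 c) (Nat.ble 136 c)
noncomputable def Atab_s_133_138 (c : Nat) : Nat := @Bool.rec (fun _ => Nat) (Atab_s_133_135 c) (Atab_s_135_138 c) (Nat.ble 135 c)
noncomputable def Atab_s_138_140 (c : Nat) : Nat := @Bool.rec (fun _ => Nat) (Atab_138) (Atab_139) (Nat.ble 139 c)
noncomputable def Atab_s_141_143 (c : Nat) : Nat := @Bool.rec (fun _ => Nat) (Atab_141) (Atab_142) (Nat.ble 142 c)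
noncomputable def Atab_s_140_143 (c : Nat) : Nat := @Bool.rec (fun _ => Nat) (Atab_140) (Atab_s_141_143 c) (Nat.ble 141 c)
noncomputable def Atab_s_138_143 (c : Nat) : Nat := @Bool.rec (fun _ => Nat) (Atab_s_138_140 c) (Atab_s_140_143 c) (Nat.ble 140 c)
noncomputable def Atab_s_133_143 (c : Nat) : Nat := @Bool.rec (fun _ => Nat) (Atab_s_133_138 c) (Atab_s_138_143 c) (Nat.ble 138 c)
noncomputable def Atab_s_123_143 (c : Nat) : Nat := @Bool.rec (fun _ => Nat) (Atab_s_123_133 c) (Atab_s_133_143 c) (Nat.ble 133 c)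
noncomputable def Atab_s_143_145 (c : Nat) : Nat := @Bool.rec (fun _ => Nat) (Atab_143) (Atab_144) (Nat.ble 144 c)
noncomputable def Atab_s_146_148 (c : Nat) : Nat := @Bool.rec (fun _ => Nat) (Atab_146) (Atab_147) (Nat.ble 147 c)
noncomputable def Atab_s_145_148 (c : Nat) : Nat := @Bool.rec (fun _ => Nat) (Atab_145) (Atab_s_146_148 c) (Nat.ble 146 c)
noncomputable def Atab_s_143_148 (c : Nat) : Nat := @Bool.rec (fun _ => Nat) (Atab_s_143_145 c) (Atab_s_145_148 c) (Nat.ble 145 c)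
noncomputable def Atab_s_148_150 (c : Nat) : Nat := @Bool.rec (fun _ => Nat) (Atab_148) (Atab_149) (Nat.ble 149 c)
noncomputable def Atab_s_151_153 (c : Nat) : Nat := @Bool.rec (fun _ => Nat) (Atab_151) (Atab_152) (Nat.ble 152 c)
noncomputable def Atab_s_150_153 (c : Nat) : Nat := @Bool.rec (fun _ => Nat) (Atab_150) (Atab_s_151_153 c) (Nat.ble 151 c)
noncomputable def Atab_s_148_153 (c : Nat) : Nat := @Bool.rec (fun _ => Nat) (Atab_s_148_150 c) (Atab_s_150_153 c) (Nat.ble 150 c)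
noncomputable def Atab_s_143_153 (c : Nat) : Nat := @Bool.rec (fun _ => Nat) (Atab_s_143_148 c) (Atab_s_148_153 c) (Nat.ble 148 c)
noncomputable def Atab_s_153_155 (c : Nat) : Nat := @Bool.rec (fun _ => Nat) (Atab_153) (Atab_154) (Nat.ble 154 c)
noncomputable def Atab_s_156_158 (c : Nat) : Nat := @Bool.rec (fun _ => Nat) (Atab_156) (Atab_157) (Nat.ble 157 c)
noncomputable def Atab_s_155_158 (c : Nat) : Nat := @Bool.rec (fun _ => Nat) (Atab_155) (Atab_s_156_158 c) (Nat.ble 156 c)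
noncomputable def Atab_s_153_158 (c : Nat) : Nat := @Bool.rec (fun _ => Nat) (Atab_s_153_155 c) (Atab_s_155_158 c) (Nat.ble 155 c)
noncomputable def Atab_s_159_161 (c : Nat) : Nat := @Bool.rec (fun _ => Nat) (Atab_159) (Atab_160) (Nat.ble 160 c)
noncomputable def Atab_s_158_161 (c : Nat) : Nat := @Bool.rec (fun _ => Nat) (Atab_158) (Atab_s_159_161 c) (Nat.ble 159 c)
noncomputable def Atab_s_162_164 (c : Nat) : Nat := @Bool.rec (fun _ => Nat) (Atab_162) (Atab_163) (Nat.ble 163 c)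
noncomputable def Atab_s_161_164 (c : Nat) : Nat := @Bool.rec (fun _ => Nat) (Atab_161) (Atab_s_162_164 c) (Nat.ble 162 c)
noncomputable def Atab_s_158_164 (c : Nat) : Nat := @Bool.rec (fun _ => Nat) (Atab_s_158_161 c) (Atab_s_161_164 c) (Nat.ble 161 c)
noncomputable def Atab_s_153_164 (c : Nat) : Nat := @Bool.rec (fun _ => Nat) (Atab_s_153_158 c) (Atab_s_158_164 c) (Nat.ble 158 c)
noncomputable def Atab_s_143_164 (c : Nat) : Nat := @Bool.rec (fun _ => Nat) (Atab_s_143_153 c) (Atab_s_153_164 c) (Nat.ble 153 c)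
noncomputable def Atab_s_123_164 (c : Nat) : Nat := @Bool.rec (fun _ => Nat) (Atab_s_123_143 c) (Atab_s_143_164 c) (Nat.ble 143 c)
noncomputable def Atab_s_82_164 (c : Nat) : Nat := @Bool.rec (fun _ => Nat) (Atab_s_82_123 c) (Atab_s_123_164 c) (Nat.ble 123 c)
noncomputable def Atab_s_0_164 (c : Nat) : Nat := @Bool.rec (fun _ => Nat) (Atab_s_0_82 c) (Atab_s_82_164 c) (Nat.ble 82 c)
noncomputable def Atab_s_164_166 (c : Nat) : Nat := @Bool.rec (fun _ => Nat) (Atab_164) (Atab_165) (Nat.ble 165 c)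
noncomputable def Atab_s_167_169 (c : Nat) : Nat := @Bool.rec (fun _ => Nat) (Atab_167) (Atab_168) (Nat.ble 168 c)
noncomputable def Atab_s_166_169 (c : Nat) : Nat := @Bool.rec (fun _ => Nat) (Atab_166) (Atab_s_167_169 c) (Nat.ble 167 c)
noncomputable def Atab_s_164_169 (c : Nat) : Nat := @Bool.rec (fun _ => Nat) (Atab_s_164_166 c) (Atab_s_166_169 c) (Nat.ble 166 c)
noncomputable def Atab_s_169_171 (c : Nat) : Nat := @Bool.rec (fun _ => Nat) (Atab_169) (Atab_170) (Nat.ble 170 c)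
noncomputable def Atab_s_172_174 (c : Nat) : Nat := @Bool.rec (fun _ => Nat) (Atab_172) (Atab_173) (Nat.ble 173 c)
noncomputable def Atab_s_171_174 (c : Nat) : Nat := @Bool.rec (fun _ => Nat) (Atab_171) (Atab_s_172_174 c) (Nat.ble 172 c)
noncomputable def Atab_s_169_174 (c : Nat) : Nat := @Bool.rec (fun _ => Nat) (Atab_s_169_171 c) (Atab_s_171_174 c) (Nat.ble 171 c)
noncomputable def Atab_s_164_174 (c : Nat) : Nat := @Bool.rec (fun _ => Nat) (Atab_s_164_169 c) (Atab_s_169_174 c) (Nat.ble 169 c)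
noncomputable def Atab_s_174_176 (c : Nat) : Nat := @Bool.rec (fun _ => Nat) (Atab_174) (Atab_175) (Nat.ble 175 c)
noncomputable def Atab_s_177_179 (c : Nat) : Nat := @Bool.rec (fun _ => Nat) (Atab_177) (Atab_178) (Nat.ble 178 c)
noncomputable def Atab_s_176_179 (c : Nat) : Nat := @Bool.rec (fun _ => Nat) (Atab_176) (Atab_s_177_179 c) (Nat.ble 177 c)
noncomputable def Atab_s_174_179 (c : Nat) : Nat := @Bool.rec (fun _ => Nat) (Atab_s_174_176 c) (Atab_s_176_179 c) (Nat.ble 176 c)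
noncomputable def Atab_s_179_181 (c : Nat) : Nat := @Bool.rec (fun _ => Nat) (Atab_179) (Atab_180) (Nat.ble 180 c)
noncomputable def Atab_s_182_184 (c : Nat) : Nat := @Bool.rec (fun _ => Nat) (Atab_182) (Atab_183) (Nat.ble 183 c)
noncomputable def Atab_s_181_184 (c : Nat) : Nat := @Bool.rec (fun _ => Nat) (Atab_181) (Atab_s_182_184 c) (Nat.ble 182 c)
noncomputable def Atab_s_179_184 (c : Nat) : Nat := @Bool.rec (fun _ => Nat) (Atab_s_179_181 c) (Atab_s_181_184 c) (Nat.ble 181 c)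
noncomputable def Atab_s_174_184 (c : Nat) : Nat := @Bool.rec (fun _ => Nat) (Atab_s_174_179 c) (Atab_s_179_184 c) (Nat.ble 179 c)
noncomputable def Atab_s_164_184 (c : Nat) : Nat := @Bool.rec (fun _ => Nat) (Atab_s_164_174 c) (Atab_s_174_184 c) (Nat.ble 174 c)
noncomputable def Atab_s_184_186 (c : Nat) : Nat := @Bool.rec (fun _ => Nat) (Atab_184) (Atab_185) (Nat.ble 185 c)
noncomputable def Atab_s_187_189 (c : Nat) : Nat := @Bool.rec (fun _ => Nat) (Atab_187) (Atab_188) (Nat.ble 188 c)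
noncomputable def Atab_s_186_189 (c : Nat) : Nat := @Bool.rec (fun _ => Nat) (Atab_186) (Atab_s_187_189 c) (Nat.ble 187 c)
noncomputable def Atab_s_184_189 (c : Nat) : Nat := @Bool.rec (fun _ => Nat) (Atab_s_184_186 c) (Atab_s_186_189 c) (Nat.ble 186 c)
noncomputable def Atab_s_189_191 (c : Nat) : Nat := @Bool.rec (fun _ => Nat) (Atab_189) (Atab_190) (Nat.ble 190 c)
noncomputable def Atab_s_192_194 (c : Nat) : Nat := @Bool.rec (fun _ => Nat) (Atab_192) (Atab_193) (Nat.ble 193 c)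
noncomputable def Atab_s_191_194 (c : Nat) : Nat := @Bool.rec (fun _ => Nat) (Atab_191) (Atab_s_192_194 c) (Nat.ble 192 c)
noncomputable def Atab_s_189_194 (c : Nat) : Nat := @Bool.rec (fun _ => Nat) (Atab_s_189_191 c) (Atab_s_191_194 c) (Nat.ble 191 c)
noncomputable def Atab_s_184_194 (c : Nat) : Nat := @Bool.rec (fun _ => Nat) (Atab_s_184_189 c) (Atab_s_189_194 c) (Nat.ble 189 c)
noncomputable def Atab_s_194_196 (c : Nat) : Nat := @Bool.rec (fun _ => Nat) (Atab_194) (Atab_195) (Nat.ble 195 c)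
noncomputable def Atab_s_197_199 (c : Nat) : Nat := @Bool.rec (fun _ => Nat) (Atab_197) (Atab_198) (Nat.ble 198 c)
noncomputable def Atab_s_196_199 (c : Nat) : Nat := @Bool.rec (fun _ => Nat) (Atab_196) (Atab_s_197_199 c) (Nat.ble 197 c)
noncomputable def Atab_s_194_199 (c : Nat) : Nat := @Bool.rec (fun _ => Nat) (Atab_s_194_196 c) (Atab_s_196_199 c) (Nat.ble 196 c)
noncomputable def Atab_s_200_202 (c : Nat) : Nat := @Bool.rec (fun _ => Nat) (Atab_200) (Atab_201) (Nat.ble 201 c)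
noncomputable def Atab_s_199_202 (c : Nat) : Nat := @Bool.rec (fun _ => Nat) (Atab_199) (Atab_s_200_202 c) (Nat.ble 200 c)
noncomputable def Atab_s_203_205 (c : Nat) : Nat := @Bool.rec (fun _ => Nat) (Atab_203) (Atab_204) (Nat.ble 204 c)
noncomputable def Atab_s_202_205 (c : Nat) : Nat := @Bool.rec (fun _ => Nat) (Atab_202) (Atab_s_203_205 c) (Nat.ble 203 c)
noncomputable def Atab_s_199_205 (c : Nat) : Nat := @Bool.rec (fun _ => Nat) (Atab_s_199_202 c) (Atab_s_202_205 c) (Nat.ble 202 c)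
noncomputable def Atab_s_194_205 (c : Nat) : Nat := @Bool.rec (fun _ => Nat) (Atab_s_194_199 c) (Atab_s_199_205 c) (Nat.ble 199 c)
noncomputable def Atab_s_184_205 (c : Nat) : Nat := @Bool.rec (fun _ => Nat) (Atab_s_184_194 c) (Atab_s_194_205 c) (Nat.ble 194 c)
noncomputable def Atab_s_164_205 (c : Nat) : Nat := @Bool.rec (fun _ => Nat) (Atab_s_164_184 c) (Atab_s_184_205 c) (Nat.ble 184 c)
noncomputable def Atab_s_205_207 (c : Nat) : Nat := @Bool.rec (fun _ => Nat) (Atab_205) (Atab_206) (Nat.ble 206 c)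
noncomputable def Atab_s_208_210 (c : Nat) : Nat := @Bool.rec (fun _ => Nat) (Atab_208) (Atab_209) (Nat.ble 209 c)
noncomputable def Atab_s_207_210 (c : Nat) : Nat := @Bool.rec (fun _ => Nat) (Atab_207) (Atab_s_208_210 c) (Nat.ble 208 c)
noncomputable def Atab_s_205_210 (c : Nat) : Nat := @Bool.rec (fun _ => Nat) (Atab_s_205_207 c) (Atab_s_207_210 c) (Nat.ble 207 c)
noncomputable def Atab_s_210_212 (c : Nat) : Nat := @Bool.rec (fun _ => Nat) (Atab_210) (Atab_211) (Nat.ble 211 c)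
noncomputable def Atab_s_213_215 (c : Nat) : Nat := @Bool.rec (fun _ => Nat) (Atab_213) (Atab_214) (Nat.ble 214 c)
noncomputable def Atab_s_212_215 (c : Nat) : Nat := @Bool.rec (fun _ => Nat) (Atab_212) (Atab_s_213_215 c) (Nat.ble 213 c)
noncomputable def Atab_s_210_215 (c : Nat) : Nat := @Bool.rec (fun _ => Nat) (Atab_s_210_212 c) (Atab_s_212_215 c) (Nat.ble 212 c)
noncomputable def Atab_s_205_215 (c : Nat) : Nat := @Bool.rec (fun _ => Nat) (Atab_s_205_210 c) (Atab_s_210_215 c) (Nat.ble 210 c)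
noncomputable def Atab_s_215_217 (c : Nat) : Nat := @Bool.rec (fun _ => Nat) (Atab_215) (Atab_216) (Nat.ble 216 c)
noncomputable def Atab_s_218_220 (c : Nat) : Nat := @Bool.rec (fun _ => Nat) (Atab_218) (Atab_219) (Nat.ble 219 c)
noncomputable def Atab_s_217_220 (c : Nat) : Nat := @Bool.rec (fun _ => Nat) (Atab_217) (Atab_s_218_220 c) (Nat.ble 218 c)
noncomputable def Atab_s_215_220 (c : Nat) : Nat := @Bool.rec (fun _ => Nat) (Atab_s_215_217 c) (Atab_s_217_220 c) (Nat.ble 217 c)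
noncomputable def Atab_s_220_222 (c : Nat) : Nat := @Bool.rec (fun _ => Nat) (Atab_220) (Atab_221) (Nat.ble 221 c)
noncomputable def Atab_s_223_225 (c : Nat) : Nat := @Bool.rec (fun _ => Nat) (Atab_223) (Atab_224) (Nat.ble 224 c)
noncomputable def Atab_s_222_225 (c : Nat) : Nat := @Bool.rec (fun _ => Nat) (Atab_222) (Atab_s_223_225 c) (Nat.ble 223 c)
noncomputable def Atab_s_220_225 (c : Nat) : Nat := @Bool.rec (fun _ => Nat) (Atab_s_220_222 c) (Atab_s_222_225 c) (Nat.ble 222 c)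
noncomputable def Atab_s_215_225 (c : Nat) : Nat := @Bool.rec (fun _ => Nat) (Atab_s_215_220 c) (Atab_s_220_225 c) (Nat.ble 220 c)
noncomputable def Atab_s_205_225 (c : Nat) : Nat := @Bool.rec (fun _ => Nat) (Atab_s_205_215 c) (Atab_s_215_225 c) (Nat.ble 215 c)
noncomputable def Atab_s_225_227 (c : Nat) : Nat := @Bool.rec (fun _ => Nat) (Atab_225) (Atab_226) (Nat.ble 226 c)
noncomputable def Atab_s_228_230 (c : Nat) : Nat := @Bool.rec (fun _ => Nat) (Atab_228) (Atab_229) (Nat.ble 229 c)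
noncomputable def Atab_s_227_230 (c : Nat) : Nat := @Bool.rec (fun _ => Nat) (Atab_227) (Atab_s_228_230 c) (Nat.ble 228 c)
noncomputable def Atab_s_225_230 (c : Nat) : Nat := @Bool.rec (fun _ => Nat) (Atab_s_225_227 c) (Atab_s_227_230 c) (Nat.ble 227 c)
noncomputable def Atab_s_230_232 (c : Nat) : Nat := @Bool.rec (fun _ => Nat) (Atab_230) (Atab_231) (Nat.ble 231 c)
noncomputable def Atab_s_233_235 (c : Nat) : Nat := @Bool.rec (fun _ => Nat) (Atab_233) (Atab_234) (Nat.ble 234 c)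
noncomputable def Atab_s_232_235 (c : Nat) : Nat := @Bool.rec (fun _ => Nat) (Atab_232) (Atab_s_233_235 c) (Nat.ble 233 c)
noncomputable def Atab_s_230_235 (c : Nat) : Nat := @Bool.rec (fun _ => Nat) (Atab_s_230_232 c) (Atab_s_232_235 c) (Nat.ble 232 c)
noncomputable def Atab_s_225_235 (c : Nat) : Nat := @Bool.rec (fun _ => Nat) (Atab_s_225_230 c) (Atab_s_230_235 c) (Nat.ble 230 c)
noncomputable def Atab_s_235_237 (c : Nat) : Nat := @Bool.rec (fun _ => Nat) (Atab_235) (Atab_236) (Nat.ble 236 c)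
noncomputable def Atab_s_238_240 (c : Nat) : Nat := @Bool.rec (fun _ => Nat) (Atab_238) (Atab_239) (Nat.ble 239 c)
noncomputable def Atab_s_237_240 (c : Nat) : Nat := @Bool.rec (fun _ => Nat) (Atab_237) (Atab_s_238_240 c) (Nat.ble 238 c)
noncomputable def Atab_s_235_240 (c : Nat) : Nat := @Bool.rec (fun _ => Nat) (Atab_s_235_237 c) (Atab_s_237_240 c) (Nat.ble 237 c)
noncomputable def Atab_s_241_243 (c : Nat) : Nat := @Bool.rec (fun _ => Nat) (Atab_241) (Atab_242) (Nat.ble 242 c)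
noncomputable def Atab_s_240_243 (c : Nat) : Nat := @Bool.rec (fun _ => Nat) (Atab_240) (Atab_s_241_243 c) (Nat.ble 241 c)
noncomputable def Atab_s_244_246 (c : Nat) : Nat := @Bool.rec (fun _ => Nat) (Atab_244) (Atab_245) (Nat.ble 245 c)
noncomputable def Atab_s_243_246 (c : Nat) : Nat := @Bool.rec (fun _ => Nat) (Atab_243) (Atab_s_244_246 c) (Nat.ble 244 c)
noncomputable def Atab_s_240_246 (c : Nat) : Nat := @Bool.rec (fun _ => Nat) (Atab_s_240_243 c) (Atab_s_243_246 c) (Nat.ble 243 c)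
noncomputable def Atab_s_235_246 (c : Nat) : Nat := @Bool.rec (fun _ => Nat) (Atab_s_235_240 c) (Atab_s_240_246 c) (Nat.ble 240 c)
noncomputable def Atab_s_225_246 (c : Nat) : Nat := @Bool.rec (fun _ => Nat) (Atab_s_225_235 c) (Atab_s_235_246 c) (Nat.ble 235 c)
noncomputable def Atab_s_205_246 (c : Nat) : Nat := @Bool.rec (fun _ => Nat) (Atab_s_205_225 c) (Atab_s_225_246 c) (Nat.ble 225 c)
noncomputable def Atab_s_164_246 (c : Nat) : Nat := @Bool.rec (fun _ => Nat) (Atab_s_164_205 c) (Atab_s_205_246 c) (Nat.ble 205 c)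
noncomputable def Atab_s_246_248 (c : Nat) : Nat := @Bool.rec (fun _ => Nat) (Atab_246) (Atab_247) (Nat.ble 247 c)
noncomputable def Atab_s_249_251 (c : Nat) : Nat := @Bool.rec (fun _ => Nat) (Atab_249) (Atab_250) (Nat.ble 250 c)
noncomputable def Atab_s_248_251 (c : Nat) : Nat := @Bool.rec (fun _ => Nat) (Atab_248) (Atab_s_249_251 c) (Nat.ble 249 c)
noncomputable def Atab_s_246_251 (c : Nat) : Nat := @Bool.rec (fun _ => Nat) (Atab_s_246_248 c) (Atab_s_248_251 c) (Nat.ble 248 c)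
noncomputable def Atab_s_251_253 (c : Nat) : Nat := @Bool.rec (fun _ => Nat) (Atab_251) (Atab_252) (Nat.ble 252 c)
noncomputable def Atab_s_254_256 (c : Nat) : Nat := @Bool.rec (fun _ => Nat) (Atab_254) (Atab_255) (Nat.ble 255 c)
noncomputable def Atab_s_253_256 (c : Nat) : Nat := @Bool.rec (fun _ => Nat) (Atab_253) (Atab_s_254_256 c) (Nat.ble 254 c)
noncomputable def Atab_s_251_256 (c : Nat) : Nat := @Bool.rec (fun _ => Nat) (Atab_s_251_253 c) (Atab_s_253_256 c) (Nat.ble 253 c)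
noncomputable def Atab_s_246_256 (c : Nat) : Nat := @Bool.rec (fun _ => Nat) (Atab_s_246_251 c) (Atab_s_251_256 c) (Nat.ble 251 c)
noncomputable def Atab_s_256_258 (c : Nat) : Nat := @Bool.rec (fun _ => Nat) (Atab_256) (Atab_257) (Nat.ble 257 c)
noncomputable def Atab_s_259_261 (c : Nat) : Nat := @Bool.rec (fun _ => Nat) (Atab_259) (Atab_260) (Nat.ble 260 c)
noncomputable def Atab_s_258_261 (c : Nat) : Nat := @Bool.rec (fun _ => Nat) (Atab_258) (Atab_s_259_261 c) (Nat.ble 259 c)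
noncomputable def Atab_s_256_261 (c : Nat) : Nat := @Bool.rec (fun _ => Nat) (Atab_s_256_258 c) (Atab_s_258_261 c) (Nat.ble 258 c)
noncomputable def Atab_s_261_263 (c : Nat) : Nat := @Bool.rec (fun _ => Nat) (Atab_261) (Atab_262) (Nat.ble 262 c)
noncomputable def Atab_s_264_266 (c : Nat) : Nat := @Bool.rec (fun _ => Nat) (Atab_264) (Atab_265) (Nat.ble 265 c)
noncomputable def Atab_s_263_266 (c : Nat) : Nat := @Bool.rec (fun _ => Nat) (Atab_263) (Atab_s_264_266 c) (Nat.ble 264 c)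
noncomputable def Atab_s_261_266 (c : Nat) : Nat := @Bool.rec (fun _ => Nat) (Atab_s_261_263 c) (Atab_s_263_266 c) (Nat.ble 263 c)
noncomputable def Atab_s_256_266 (c : Nat) : Nat := @Bool.rec (fun _ => Nat) (Atab_s_256_261 c) (Atab_s_261_266 c) (Nat.ble 261 c)
noncomputable def Atab_s_246_266 (c : Nat) : Nat := @Bool.rec (fun _ => Nat) (Atab_s_246_256 c) (Atab_s_256_266 c) (Nat.ble 256 c)
noncomputable def Atab_s_266_268 (c : Nat) : Nat := @Bool.rec (fun _ => Nat) (Atab_266) (Atab_267) (Nat.ble 267 c)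
noncomputable def Atab_s_269_271 (c : Nat) : Nat := @Bool.rec (fun _ => Nat) (Atab_269) (Atab_270) (Nat.ble 270 c)
noncomputable def Atab_s_268_271 (c : Nat) : Nat := @Bool.rec (fun _ => Nat) (Atab_268) (Atab_s_269_271 c) (Nat.ble 269 c)
noncomputable def Atab_s_266_271 (c : Nat) : Nat := @Bool.rec (fun _ => Nat) (Atab_s_266_268 c) (Atab_s_268_271 c) (Nat.ble 268 c)
noncomputable def Atab_s_271_273 (c : Nat) : Nat := @Bool.rec (fun _ => Nat) (Atab_271) (Atab_272) (Nat.ble 272 c)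
noncomputable def Atab_s_274_276 (c : Nat) : Nat := @Bool.rec (fun _ => Nat) (Atab_274) (Atab_275) (Nat.ble 275 c)
noncomputable def Atab_s_273_276 (c : Nat) : Nat := @Bool.rec (fun _ => Nat) (Atab_273) (Atab_s_274_276 c) (Nat.ble 274 c)
noncomputable def Atab_s_271_276 (c : Nat) : Nat := @Bool.rec (fun _ => Nat) (Atab_s_271_273 c) (Atab_s_273_276 c) (Nat.ble 273 c)
noncomputable def Atab_s_266_276 (c : Nat) : Nat := @Bool.rec (fun _ => Nat) (Atab_s_266_271 c) (Atab_s_271_276 c) (Nat.ble 271 c)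
noncomputable def Atab_s_276_278 (c : Nat) : Nat := @Bool.rec (fun _ => Nat) (Atab_276) (Atab_277) (Nat.ble 277 c)
noncomputable def Atab_s_279_281 (c : Nat) : Nat := @Bool.rec (fun _ => Nat) (Atab_279) (Atab_280) (Nat.ble 280 c)
noncomputable def Atab_s_278_281 (c : Nat) : Nat := @Bool.rec (fun _ => Nat) (Atab_278) (Atab_s_279_281 c) (Nat.ble 279 c)
noncomputable def Atab_s_276_281 (c : Nat) : Nat := @Bool.rec (fun _ => Nat) (Atab_s_276_278 c) (Atab_s_278_281 c) (Nat.ble 278 c)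
noncomputable def Atab_s_282_284 (c : Nat) : Nat := @Bool.rec (fun _ => Nat) (Atab_282) (Atab_283) (Nat.ble 283 c)
noncomputable def Atab_s_281_284 (c : Nat) : Nat := @Bool.rec (fun _ => Nat) (Atab_281) (Atab_s_282_284 c) (Nat.ble 282 c)
noncomputable def Atab_s_285_287 (c : Nat) : Nat := @Bool.rec (fun _ => Nat) (Atab_285) (Atab_286) (Nat.ble 286 c)
noncomputable def Atab_s_284_287 (c : Nat) : Nat := @Bool.rec (fun _ => Nat) (Atab_284) (Atab_s_285_287 c) (Nat.ble 285 c)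
noncomputable def Atab_s_281_287 (c : Nat) : Nat := @Bool.rec (fun _ => Nat) (Atab_s_281_284 c) (Atab_s_284_287 c) (Nat.ble 284 c)
noncomputable def Atab_s_276_287 (c : Nat) : Nat := @Bool.rec (fun _ => Nat) (Atab_s_276_281 c) (Atab_s_281_287 c) (Nat.ble 281 c)
noncomputable def Atab_s_266_287 (c : Nat) : Nat := @Bool.rec (fun _ => Nat) (Atab_s_266_276 c) (Atab_s_276_287 c) (Nat.ble 276 c)
noncomputable def Atab_s_246_287 (c : Nat) : Nat := @Bool.rec (fun _ => Nat) (Atab_s_246_266 c) (Atab_s_266_287 c) (Nat.ble 266 c)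
noncomputable def Atab_s_287_289 (c : Nat) : Nat := @Bool.rec (fun _ => Nat) (Atab_287) (Atab_288) (Nat.ble 288 c)
noncomputable def Atab_s_290_292 (c : Nat) : Nat := @Bool.rec (fun _ => Nat) (Atab_290) (Atab_291) (Nat.ble 291 c)
noncomputable def Atab_s_289_292 (c : Nat) : Nat := @Bool.rec (fun _ => Nat) (Atab_289) (Atab_s_290_292 c) (Nat.ble 290 c)
noncomputable def Atab_s_287_292 (c : Nat) : Nat := @Bool.rec (fun _ => Nat) (Atab_s_287_289 c) (Atab_s_289_292 c) (Nat.ble 289 c)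
noncomputable def Atab_s_292_294 (c : Nat) : Nat := @Bool.rec (fun _ => Nat) (Atab_292) (Atab_293) (Nat.ble 293 c)
noncomputable def Atab_s_295_297 (c : Nat) : Nat := @Bool.rec (fun _ => Nat) (Atab_295) (Atab_296) (Nat.ble 296 c)
noncomputable def Atab_s_294_297 (c : Nat) : Nat := @Bool.rec (fun _ => Nat) (Atab_294) (Atab_s_295_297 c) (Nat.ble 295 c)
noncomputable def Atab_s_292_297 (c : Nat) : Nat := @Bool.rec (fun _ => Nat) (Atab_s_292_294 c) (Atab_s_294_297 c) (Nat.ble 294 c)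
noncomputable def Atab_s_287_297 (c : Nat) : Nat := @Bool.rec (fun _ => Nat) (Atab_s_287_292 c) (Atab_s_292_297 c) (Nat.ble 292 c)
noncomputable def Atab_s_297_299 (c : Nat) : Nat := @Bool.rec (fun _ => Nat) (Atab_297) (Atab_298) (Nat.ble 298 c)
noncomputable def Atab_s_300_302 (c : Nat) : Nat := @Bool.rec (fun _ => Nat) (Atab_300) (Atab_301) (Nat.ble 301 c)
noncomputable def Atab_s_299_302 (c : Nat) : Nat := @Bool.rec (fun _ => Nat) (Atab_299) (Atab_s_300_302 c) (Nat.ble 300 c)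
noncomputable def Atab_s_297_302 (c : Nat) : Nat := @Bool.rec (fun _ => Nat) (Atab_s_297_299 c) (Atab_s_299_302 c) (Nat.ble 299 c)
noncomputable def Atab_s_302_304 (c : Nat) : Nat := @Bool.rec (fun _ => Nat) (Atab_302) (Atab_303) (Nat.ble 303 c)
noncomputable def Atab_s_305_307 (c : Nat) : Nat := @Bool.rec (fun _ => Nat) (Atab_305) (Atab_306) (Nat.ble 306 c)
noncomputable def Atab_s_304_307 (c : Nat) : Nat := @Bool.rec (fun _ => Nat) (Atab_304) (Atab_s_305_307 c) (Nat.ble 305 c)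
noncomputable def Atab_s_302_307 (c : Nat) : Nat := @Bool.rec (fun _ => Nat) (Atab_s_302_304 c) (Atab_s_304_307 c) (Nat.ble 304 c)
noncomputable def Atab_s_297_307 (c : Nat) : Nat := @Bool.rec (fun _ => Nat) (Atab_s_297_302 c) (Atab_s_302_307 c) (Nat.ble 302 c)
noncomputable def Atab_s_287_307 (c : Nat) : Nat := @Bool.rec (fun _ => Nat) (Atab_s_287_297 c) (Atab_s_297_307 c) (Nat.ble 297 c)
noncomputable def Atab_s_307_309 (c : Nat) : Nat := @Bool.rec (fun _ => Nat) (Atab_307) (Atab_308) (Nat.ble 308 c)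
noncomputable def Atab_s_310_312 (c : Nat) : Nat := @Bool.rec (fun _ => Nat) (Atab_310) (Atab_311) (Nat.ble 311 c)
noncomputable def Atab_s_309_312 (c : Nat) : Nat := @Bool.rec (fun _ => Nat) (Atab_309) (Atab_s_310_312 c) (Nat.ble 310 c)
noncomputable def Atab_s_307_312 (c : Nat) : Nat := @Bool.rec (fun _ => Nat) (Atab_s_307_309 c) (Atab_s_309_312 c) (Nat.ble 309 c)
noncomputable def Atab_s_312_314 (c : Nat) : Nat := @Bool.rec (fun _ => Nat) (Atab_312) (Atab_313) (Nat.ble 313 c)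
noncomputable def Atab_s_315_317 (c : Nat) : Nat := @Bool.rec (fun _ => Nat) (Atab_315) (Atab_316) (Nat.ble 316 c)
noncomputable def Atab_s_314_317 (c : Nat) : Nat := @Bool.rec (fun _ => Nat) (Atab_314) (Atab_s_315_317 c) (Nat.ble 315 c)
noncomputable def Atab_s_312_317 (c : Nat) : Nat := @Bool.rec (fun _ => Nat) (Atab_s_312_314 c) (Atab_s_314_317 c) (Nat.ble 314 c)
noncomputable def Atab_s_307_317 (c : Nat) : Nat := @Bool.rec (fun _ => Nat) (Atab_s_307_312 c) (Atab_s_312_317 c) (Nat.ble 312 c)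
noncomputable def Atab_s_317_319 (c : Nat) : Nat := @Bool.rec (fun _ => Nat) (Atab_317) (Atab_318) (Nat.ble 318 c)
noncomputable def Atab_s_320_322 (c : Nat) : Nat := @Bool.rec (fun _ => Nat) (Atab_320) (Atab_321) (Nat.ble 321 c)
noncomputable def Atab_s_319_322 (c : Nat) : Nat := @Bool.rec (fun _ => Nat) (Atab_319) (Atab_s_320_322 c) (Nat.ble 320 c)
noncomputable def Atab_s_317_322 (c : Nat) : Nat := @Bool.rec (fun _ => Nat) (Atab_s_317_319 c) (Atab_s_319_322 c) (Nat.ble 319 c)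
noncomputable def Atab_s_323_325 (c : Nat) : Nat := @Bool.rec (fun _ => Nat) (Atab_323) (Atab_324) (Nat.ble 324 c)
noncomputable def Atab_s_322_325 (c : Nat) : Nat := @Bool.rec (fun _ => Nat) (Atab_322) (Atab_s_323_325 c) (Nat.ble 323 c)
noncomputable def Atab_s_326_328 (c : Nat) : Nat := @Bool.rec (fun _ => Nat) (Atab_326) (Atab_327) (Nat.ble 327 c)
noncomputable def Atab_s_325_328 (c : Nat) : Nat := @Bool.rec (fun _ => Nat) (Atab_325) (Atab_s_326_328 c) (Nat.ble 326 c)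
noncomputable def Atab_s_322_328 (c : Nat) : Nat := @Bool.rec (fun _ => Nat) (Atab_s_322_325 c) (Atab_s_325_328 c) (Nat.ble 325 c)
noncomputable def Atab_s_317_328 (c : Nat) : Nat := @Bool.rec (fun _ => Nat) (Atab_s_317_322 c) (Atab_s_322_328 c) (Nat.ble 322 c)
noncomputable def Atab_s_307_328 (c : Nat) : Nat := @Bool.rec (fun _ => Nat) (Atab_s_307_317 c) (Atab_s_317_328 c) (Nat.ble 317 c)
noncomputable def Atab_s_287_328 (c : Nat) : Nat := @Bool.rec (fun _ => Nat) (Atab_s_287_307 c) (Atab_s_307_328 c) (Nat.ble 307 c)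
noncomputable def Atab_s_246_328 (c : Nat) : Nat := @Bool.rec (fun _ => Nat) (Atab_s_246_287 c) (Atab_s_287_328 c) (Nat.ble 287 c)
noncomputable def Atab_s_164_328 (c : Nat) : Nat := @Bool.rec (fun _ => Nat) (Atab_s_164_246 c) (Atab_s_246_328 c) (Nat.ble 246 c)
noncomputable def Atab_s_0_328 (c : Nat) : Nat := @Bool.rec (fun _ => Nat) (Atab_s_0_164 c) (Atab_s_164_328 c) (Nat.ble 164 c)
noncomputable def Atab (i : Nat) : Nat := rdw 39 549755813887 (Atab_s_0_328 (Nat.shiftRight i 11)) (Nat.land i 2047)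
noncomputable def Btab_s_0_2 (c : Nat) : Nat := @Bool.rec (fun _ => Nat) (Btab_0) (Btab_1) (Nat.ble 1 c)
noncomputable def Btab_s_2_4 (c : Nat) : Nat := @Bool.rec (fun _ => Nat) (Btab_2) (Btab_3) (Nat.ble 3 c)
noncomputable def Btab_s_0_4 (c : Nat) : Nat := @Bool.rec (fun _ => Nat) (Btab_s_0_2 c) (Btab_s_2_4 c) (Nat.ble 2 c)
noncomputable def Btab_s_4_6 (c : Nat) : Nat := @Bool.rec (fun _ => Nat) (Btab_4) (Btab_5) (Nat.ble 5 c)
noncomputable def Btab_s_6_8 (c : Nat) : Nat := @Bool.rec (fun _ => Nat) (Btab_6) (Btab_7) (Nat.ble 7 c)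
noncomputable def Btab_s_4_8 (c : Nat) : Nat := @Bool.rec (fun _ => Nat) (Btab_s_4_6 c) (Btab_s_6_8 c) (Nat.ble 6 c)
noncomputable def Btab_s_0_8 (c : Nat) : Nat := @Bool.rec (fun _ => Nat) (Btab_s_0_4 c) (Btab_s_4_8 c) (Nat.ble 4 c)
noncomputable def Btab_s_8_10 (c : Nat) : Nat := @Bool.rec (fun _ => Nat) (Btab_8) (Btab_9) (Nat.ble 9 c)
noncomputable def Btab_s_10_12 (c : Nat) : Nat := @Bool.rec (fun _ => Nat) (Btab_10) (Btab_11) (Nat.ble 11 c)
noncomputable def Btab_s_8_12 (c : Nat) : Nat := @Bool.rec (fun _ => Nat) (Btab_s_8_10 c) (Btab_s_10_12 c) (Nat.ble 10 c)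
noncomputable def Btab_s_12_14 (c : Nat) : Nat := @Bool.rec (fun _ => Nat) (Btab_12) (Btab_13) (Nat.ble 13 c)
noncomputable def Btab_s_15_17 (c : Nat) : Nat := @Bool.rec (fun _ => Nat) (Btab_15) (Btab_16) (Nat.ble 16 c)
noncomputable def Btab_s_14_17 (c : Nat) : Nat := @Bool.rec (fun _ => Nat) (Btab_14) (Btab_s_15_17 c) (Nat.ble 15 c)
noncomputable def Btab_s_12_17 (c : Nat) : Nat := @Bool.rec (fun _ => Nat) (Btab_s_12_14 c) (Btab_s_14_17 c) (Nat.ble 14 c)
noncomputable def Btab_s_8_17 (c : Nat) : Nat := @Bool.rec (fun _ => Nat) (Btab_s_8_12 c) (Btab_s_12_17 c) (Nat.ble 12 c)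
noncomputable def Btab_s_0_17 (c : Nat) : Nat := @Bool.rec (fun _ => Nat) (Btab_s_0_8 c) (Btab_s_8_17 c) (Nat.ble 8 c)
noncomputable def Btab_s_17_19 (c : Nat) : Nat := @Bool.rec (fun _ => Nat) (Btab_17) (Btab_18) (Nat.ble 18 c)
noncomputable def Btab_s_19_21 (c : Nat) : Nat := @Bool.rec (fun _ => Nat) (Btab_19) (Btab_20) (Nat.ble 20 c)
noncomputable def Btab_s_17_21 (c : Nat) : Nat := @Bool.rec (fun _ => Nat) (Btab_s_17_19 c) (Btab_s_19_21 c) (Nat.ble 19 c)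
noncomputable def Btab_s_21_23 (c : Nat) : Nat := @Bool.rec (fun _ => Nat) (Btab_21) (Btab_22) (Nat.ble 22 c)
noncomputable def Btab_s_24_26 (c : Nat) : Nat := @Bool.rec (fun _ => Nat) (Btab_24) (Btab_25) (Nat.ble 25 c)
noncomputable def Btab_s_23_26 (c : Nat) : Nat := @Bool.rec (fun _ => Nat) (Btab_23) (Btab_s_24_26 c) (Nat.ble 24 c)
noncomputable def Btab_s_21_26 (c : Nat) : Nat := @Bool.rec (fun _ => Nat) (Btab_s_21_23 c) (Btab_s_23_26 c) (Nat.ble 23 c)
noncomputable def Btab_s_17_26 (c : Nat) : Nat := @Bool.rec (fun _ => Nat) (Btab_s_17_21 c) (Btab_s_21_26 c) (Nat.ble 21 c)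
noncomputable def Btab_s_26_28 (c : Nat) : Nat := @Bool.rec (fun _ => Nat) (Btab_26) (Btab_27) (Nat.ble 27 c)
noncomputable def Btab_s_28_30 (c : Nat) : Nat := @Bool.rec (fun _ => Nat) (Btab_28) (Btab_29) (Nat.ble 29 c)
noncomputable def Btab_s_26_30 (c : Nat) : Nat := @Bool.rec (fun _ => Nat) (Btab_s_26_28 c) (Btab_s_28_30 c) (Nat.ble 28 c)
noncomputable def Btab_s_30_32 (c : Nat) : Nat := @Bool.rec (fun _ => Nat) (Btab_30) (Btab_31) (Nat.ble 31 c)
noncomputable def Btab_s_33_35 (c : Nat) : Nat := @Bool.rec (fun _ => Nat) (Btab_33) (Btab_34) (Nat.ble 34 c)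
noncomputable def Btab_s_32_35 (c : Nat) : Nat := @Bool.rec (fun _ => Nat) (Btab_32) (Btab_s_33_35 c) (Nat.ble 33 c)
noncomputable def Btab_s_30_35 (c : Nat) : Nat := @Bool.rec (fun _ => Nat) (Btab_s_30_32 c) (Btab_s_32_35 c) (Nat.ble 32 c)
noncomputable def Btab_s_26_35 (c : Nat) : Nat := @Bool.rec (fun _ => Nat) (Btab_s_26_30 c) (Btab_s_30_35 c) (Nat.ble 30 c)
noncomputable def Btab_s_17_35 (c : Nat) : Nat := @Bool.rec (fun _ => Nat) (Btab_s_17_26 c) (Btab_s_26_35 c) (Nat.ble 26 c)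
noncomputable def Btab_s_0_35 (c : Nat) : Nat := @Bool.rec (fun _ => Nat) (Btab_s_0_17 c) (Btab_s_17_35 c) (Nat.ble 17 c)
noncomputable def Btab_s_35_37 (c : Nat) : Nat := @Bool.rec (fun _ => Nat) (Btab_35) (Btab_36) (Nat.ble 36 c)
noncomputable def Btab_s_37_39 (c : Nat) : Nat := @Bool.rec (fun _ => Nat) (Btab_37) (Btab_38) (Nat.ble 38 c)
noncomputable def Btab_s_35_39 (c : Nat) : Nat := @Bool.rec (fun _ => Nat) (Btab_s_35_37 c) (Btab_s_37_39 c) (Nat.ble 37 c)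
noncomputable def Btab_s_39_41 (c : Nat) : Nat := @Bool.rec (fun _ => Nat) (Btab_39) (Btab_40) (Nat.ble 40 c)
noncomputable def Btab_s_42_44 (c : Nat) : Nat := @Bool.rec (fun _ => Nat) (Btab_42) (Btab_43) (Nat.ble 43 c)
noncomputable def Btab_s_41_44 (c : Nat) : Nat := @Bool.rec (fun _ => Nat) (Btab_41) (Btab_s_42_44 c) (Nat.ble 42 c)
noncomputable def Btab_s_39_44 (c : Nat) : Nat := @Bool.rec (fun _ => Nat) (Btab_s_39_41 c) (Btab_s_41_44 c) (Nat.ble 41 c)
noncomputable def Btab_s_35_44 (c : Nat) : Nat := @Bool.rec (fun _ => Nat) (Btab_s_35_39 c) (Btab_s_39_44 c) (Nat.ble 39 c)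
noncomputable def Btab_s_44_46 (c : Nat) : Nat := @Bool.rec (fun _ => Nat) (Btab_44) (Btab_45) (Nat.ble 45 c)
noncomputable def Btab_s_46_48 (c : Nat) : Nat := @Bool.rec (fun _ => Nat) (Btab_46) (Btab_47) (Nat.ble 47 c)
noncomputable def Btab_s_44_48 (c : Nat) : Nat := @Bool.rec (fun _ => Nat) (Btab_s_44_46 c) (Btab_s_46_48 c) (Nat.ble 46 c)
noncomputable def Btab_s_48_50 (c : Nat) : Nat := @Bool.rec (fun _ => Nat) (Btab_48) (Btab_49) (Nat.ble 49 c)
noncomputable def Btab_s_51_53 (c : Nat) : Nat := @Bool.rec (fun _ => Nat) (Btab_51) (Btab_52) (Nat.ble 52 c)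
noncomputable def Btab_s_50_53 (c : Nat) : Nat := @Bool.rec (fun _ => Nat) (Btab_50) (Btab_s_51_53 c) (Nat.ble 51 c)
noncomputable def Btab_s_48_53 (c : Nat) : Nat := @Bool.rec (fun _ => Nat) (Btab_s_48_50 c) (Btab_s_50_53 c) (Nat.ble 50 c)
noncomputable def Btab_s_44_53 (c : Nat) : Nat := @Bool.rec (fun _ => Nat) (Btab_s_44_48 c) (Btab_s_48_53 c) (Nat.ble 48 c)
noncomputable def Btab_s_35_53 (c : Nat) : Nat := @Bool.rec (fun _ => Nat) (Btab_s_35_44 c) (Btab_s_44_53 c) (Nat.ble 44 c)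
noncomputable def Btab_s_53_55 (c : Nat) : Nat := @Bool.rec (fun _ => Nat) (Btab_53) (Btab_54) (Nat.ble 54 c)
noncomputable def Btab_s_55_57 (c : Nat) : Nat := @Bool.rec (fun _ => Nat) (Btab_55) (Btab_56) (Nat.ble 56 c)
noncomputable def Btab_s_53_57 (c : Nat) : Nat := @Bool.rec (fun _ => Nat) (Btab_s_53_55 c) (Btab_s_55_57 c) (Nat.ble 55 c)
noncomputable def Btab_s_57_59 (c : Nat) : Nat := @Bool.rec (fun _ => Nat) (Btab_57) (Btab_58) (Nat.ble 58 c)
noncomputable def Btab_s_60_62 (c : Nat) : Nat := @Bool.rec (fun _ => Nat) (Btab_60) (Btab_61) (Nat.ble 61 c)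
noncomputable def Btab_s_59_62 (c : Nat) : Nat := @Bool.rec (fun _ => Nat) (Btab_59) (Btab_s_60_62 c) (Nat.ble 60 c)
noncomputable def Btab_s_57_62 (c : Nat) : Nat := @Bool.rec (fun _ => Nat) (Btab_s_57_59 c) (Btab_s_59_62 c) (Nat.ble 59 c)
noncomputable def Btab_s_53_62 (c : Nat) : Nat := @Bool.rec (fun _ => Nat) (Btab_s_53_57 c) (Btab_s_57_62 c) (Nat.ble 57 c)
noncomputable def Btab_s_62_64 (c : Nat) : Nat := @Bool.rec (fun _ => Nat) (Btab_62) (Btab_63) (Nat.ble 63 c)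
noncomputable def Btab_s_64_66 (c : Nat) : Nat := @Bool.rec (fun _ => Nat) (Btab_64) (Btab_65) (Nat.ble 65 c)
noncomputable def Btab_s_62_66 (c : Nat) : Nat := @Bool.rec (fun _ => Nat) (Btab_s_62_64 c) (Btab_s_64_66 c) (Nat.ble 64 c)
noncomputable def Btab_s_66_68 (c : Nat) : Nat := @Bool.rec (fun _ => Nat) (Btab_66) (Btab_67) (Nat.ble 67 c)
noncomputable def Btab_s_69_71 (c : Nat) : Nat := @Bool.rec (fun _ => Nat) (Btab_69) (Btab_70) (Nat.ble 70 c)
noncomputable def Btab_s_68_71 (c : Nat) : Nat := @Bool.rec (fun _ => Nat) (Btab_68) (Btab_s_69_71 c) (Nat.ble 69 c)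
noncomputable def Btab_s_66_71 (c : Nat) : Nat := @Bool.rec (fun _ => Nat) (Btab_s_66_68 c) (Btab_s_68_71 c) (Nat.ble 68 c)
noncomputable def Btab_s_62_71 (c : Nat) : Nat := @Bool.rec (fun _ => Nat) (Btab_s_62_66 c) (Btab_s_66_71 c) (Nat.ble 66 c)
noncomputable def Btab_s_53_71 (c : Nat) : Nat := @Bool.rec (fun _ => Nat) (Btab_s_53_62 c) (Btab_s_62_71 c) (Nat.ble 62 c)
noncomputable def Btab_s_35_71 (c : Nat) : Nat := @Bool.rec (fun _ => Nat) (Btab_s_35_53 c) (Btab_s_53_71 c) (Nat.ble 53 c)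
noncomputable def Btab_s_0_71 (c : Nat) : Nat := @Bool.rec (fun _ => Nat) (Btab_s_0_35 c) (Btab_s_35_71 c) (Nat.ble 35 c)
noncomputable def Btab_s_71_73 (c : Nat) : Nat := @Bool.rec (fun _ => Nat) (Btab_71) (Btab_72) (Nat.ble 72 c)
noncomputable def Btab_s_73_75 (c : Nat) : Nat := @Bool.rec (fun _ => Nat) (Btab_73) (Btab_74) (Nat.ble 74 c)
noncomputable def Btab_s_71_75 (c : Nat) : Nat := @Bool.rec (fun _ => Nat) (Btab_s_71_73 c) (Btab_s_73_75 c) (Nat.ble 73 c)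
noncomputable def Btab_s_75_77 (c : Nat) : Nat := @Bool.rec (fun _ => Nat) (Btab_75) (Btab_76) (Nat.ble 76 c)
noncomputable def Btab_s_78_80 (c : Nat) : Nat := @Bool.rec (fun _ => Nat) (Btab_78) (Btab_79) (Nat.ble 79 c)
noncomputable def Btab_s_77_80 (c : Nat) : Nat := @Bool.rec (fun _ => Nat) (Btab_77) (Btab_s_78_80 c) (Nat.ble 78 c)
noncomputable def Btab_s_75_80 (c : Nat) : Nat := @Bool.rec (fun _ => Nat) (Btab_s_75_77 c) (Btab_s_77_80 c) (Nat.ble 77 c)
noncomputable def Btab_s_71_80 (c : Nat) : Nat := @Bool.rec (fun _ => Nat) (Btab_s_71_75 c) (Btab_s_75_80 c) (Nat.ble 75 c)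
noncomputable def Btab_s_80_82 (c : Nat) : Nat := @Bool.rec (fun _ => Nat) (Btab_80) (Btab_81) (Nat.ble 81 c)
noncomputable def Btab_s_82_84 (c : Nat) : Nat := @Bool.rec (fun _ => Nat) (Btab_82) (Btab_83) (Nat.ble 83 c)
noncomputable def Btab_s_80_84 (c : Nat) : Nat := @Bool.rec (fun _ => Nat) (Btab_s_80_82 c) (Btab_s_82_84 c) (Nat.ble 82 c)
noncomputable def Btab_s_84_86 (c : Nat) : Nat := @Bool.rec (fun _ => Nat) (Btab_84) (Btab_85) (Nat.ble 85 c)
noncomputable def Btab_s_87_89 (c : Nat) : Nat := @Bool.rec (fun _ => Nat) (Btab_87) (Btab_88) (Nat.ble 88 c)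
noncomputable def Btab_s_86_89 (c : Nat) : Nat := @Bool.rec (fun _ => Nat) (Btab_86) (Btab_s_87_89 c) (Nat.ble 87 c)
noncomputable def Btab_s_84_89 (c : Nat) : Nat := @Bool.rec (fun _ => Nat) (Btab_s_84_86 c) (Btab_s_86_89 c) (Nat.ble 86 c)
noncomputable def Btab_s_80_89 (c : Nat) : Nat := @Bool.rec (fun _ => Nat) (Btab_s_80_84 c) (Btab_s_84_89 c) (Nat.ble 84 c)
noncomputable def Btab_s_71_89 (c : Nat) : Nat := @Bool.rec (fun _ => Nat) (Btab_s_71_80 c) (Btab_s_80_89 c) (Nat.ble 80 c)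
noncomputable def Btab_s_89_91 (c : Nat) : Nat := @Bool.rec (fun _ => Nat) (Btab_89) (Btab_90) (Nat.ble 90 c)
noncomputable def Btab_s_91_93 (c : Nat) : Nat := @Bool.rec (fun _ => Nat) (Btab_91) (Btab_92) (Nat.ble 92 c)
noncomputable def Btab_s_89_93 (c : Nat) : Nat := @Bool.rec (fun _ => Nat) (Btab_s_89_91 c) (Btab_s_91_93 c) (Nat.ble 91 c)
noncomputable def Btab_s_93_95 (c : Nat) : Nat := @Bool.rec (fun _ => Nat) (Btab_93) (Btab_94) (Nat.ble 94 c)
noncomputable def Btab_s_96_98 (c : Nat) : Nat := @Bool.rec (fun _ => Nat) (Btab_96) (Btab_97) (Nat.ble 97 c)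
noncomputable def Btab_s_95_98 (c : Nat) : Nat := @Bool.rec (fun _ => Nat) (Btab_95) (Btab_s_96_98 c) (Nat.ble 96 c)
noncomputable def Btab_s_93_98 (c : Nat) : Nat := @Bool.rec (fun _ => Nat) (Btab_s_93_95 c) (Btab_s_95_98 c) (Nat.ble 95 c)
noncomputable def Btab_s_89_98 (c : Nat) : Nat := @Bool.rec (fun _ => Nat) (Btab_s_89_93 c) (Btab_s_93_98 c) (Nat.ble 93 c)
noncomputable def Btab_s_98_100 (c : Nat) : Nat := @Bool.rec (fun _ => Nat) (Btab_98) (Btab_99) (Nat.ble 99 c)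
noncomputable def Btab_s_100_102 (c : Nat) : Nat := @Bool.rec (fun _ => Nat) (Btab_100) (Btab_101) (Nat.ble 101 c)
noncomputable def Btab_s_98_102 (c : Nat) : Nat := @Bool.rec (fun _ => Nat) (Btab_s_98_100 c) (Btab_s_100_102 c) (Nat.ble 100 c)
noncomputable def Btab_s_102_104 (c : Nat) : Nat := @Bool.rec (fun _ => Nat) (Btab_102) (Btab_103) (Nat.ble 103 c)
noncomputable def Btab_s_105_107 (c : Nat) : Nat := @Bool.rec (fun _ => Nat) (Btab_105) (Btab_106) (Nat.ble 106 c)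
noncomputable def Btab_s_104_107 (c : Nat) : Nat := @Bool.rec (fun _ => Nat) (Btab_104) (Btab_s_105_107 c) (Nat.ble 105 c)
noncomputable def Btab_s_102_107 (c : Nat) : Nat := @Bool.rec (fun _ => Nat) (Btab_s_102_104 c) (Btab_s_104_107 c) (Nat.ble 104 c)
noncomputable def Btab_s_98_107 (c : Nat) : Nat := @Bool.rec (fun _ => Nat) (Btab_s_98_102 c) (Btab_s_102_107 c) (Nat.ble 102 c)
noncomputable def Btab_s_89_107 (c : Nat) : Nat := @Bool.rec (fun _ => Nat) (Btab_s_89_98 c) (Btab_s_98_107 c) (Nat.ble 98 c)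
noncomputable def Btab_s_71_107 (c : Nat) : Nat := @Bool.rec (fun _ => Nat) (Btab_s_71_89 c) (Btab_s_89_107 c) (Nat.ble 89 c)
noncomputable def Btab_s_107_109 (c : Nat) : Nat := @Bool.rec (fun _ => Nat) (Btab_107) (Btab_108) (Nat.ble 108 c)
noncomputable def Btab_s_109_111 (c : Nat) : Nat := @Bool.rec (fun _ => Nat) (Btab_109) (Btab_110) (Nat.ble 110 c)
noncomputable def Btab_s_107_111 (c : Nat) : Nat := @Bool.rec (fun _ => Nat) (Btab_s_107_109 c) (Btab_s_109_111 c) (Nat.ble 109 c)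
noncomputable def Btab_s_111_113 (c : Nat) : Nat := @Bool.rec (fun _ => Nat) (Btab_111) (Btab_112) (Nat.ble 112 c)
noncomputable def Btab_s_114_116 (c : Nat) : Nat := @Bool.rec (fun _ => Nat) (Btab_114) (Btab_115) (Nat.ble 115 c)
noncomputable def Btab_s_113_116 (c : Nat) : Nat := @Bool.rec (fun _ => Nat) (Btab_113) (Btab_s_114_116 c) (Nat.ble 114 c)
noncomputable def Btab_s_111_116 (c : Nat) : Nat := @Bool.rec (fun _ => Nat) (Btab_s_111_113 c) (Btab_s_113_116 c) (Nat.ble 113 c)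
noncomputable def Btab_s_107_116 (c : Nat) : Nat := @Bool.rec (fun _ => Nat) (Btab_s_107_111 c) (Btab_s_111_116 c) (Nat.ble 111 c)
noncomputable def Btab_s_116_118 (c : Nat) : Nat := @Bool.rec (fun _ => Nat) (Btab_116) (Btab_117) (Nat.ble 117 c)
noncomputable def Btab_s_118_120 (c : Nat) : Nat := @Bool.rec (fun _ => Nat) (Btab_118) (Btab_119) (Nat.ble 119 c)
noncomputable def Btab_s_116_120 (c : Nat) : Nat := @Bool.rec (fun _ => Nat) (Btab_s_116_118 c) (Btab_s_118_120 c) (Nat.ble 118 c)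
noncomputable def Btab_s_120_122 (c : Nat) : Nat := @Bool.rec (fun _ => Nat) (Btab_120) (Btab_121) (Nat.ble 121 c)
noncomputable def Btab_s_123_125 (c : Nat) : Nat := @Bool.rec (fun _ => Nat) (Btab_123) (Btab_124) (Nat.ble 124 c)
noncomputable def Btab_s_122_125 (c : Nat) : Nat := @Bool.rec (fun _ => Nat) (Btab_122) (Btab_s_123_125 c) (Nat.ble 123 c)
noncomputable def Btab_s_120_125 (c : Nat) : Nat := @Bool.rec (fun _ => Nat) (Btab_s_120_122 c) (Btab_s_122_125 c) (Nat.ble 122 c)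
noncomputable def Btab_s_116_125 (c : Nat) : Nat := @Bool.rec (fun _ => Nat) (Btab_s_116_120 c) (Btab_s_120_125 c) (Nat.ble 120 c)
noncomputable def Btab_s_107_125 (c : Nat) : Nat := @Bool.rec (fun _ => Nat) (Btab_s_107_116 c) (Btab_s_116_125 c) (Nat.ble 116 c)
noncomputable def Btab_s_125_127 (c : Nat) : Nat := @Bool.rec (fun _ => Nat) (Btab_125) (Btab_126) (Nat.ble 126 c)
noncomputable def Btab_s_127_129 (c : Nat) : Nat := @Bool.rec (fun _ => Nat) (Btab_127) (Btab_128) (Nat.ble 128 c)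
noncomputable def Btab_s_125_129 (c : Nat) : Nat := @Bool.rec (fun _ => Nat) (Btab_s_125_127 c) (Btab_s_127_129 c) (Nat.ble 127 c)
noncomputable def Btab_s_129_131 (c : Nat) : Nat := @Bool.rec (fun _ => Nat) (Btab_129) (Btab_130) (Nat.ble 130 c)
noncomputable def Btab_s_132_134 (c : Nat) : Nat := @Bool.rec (fun _ => Nat) (Btab_132) (Btab_133) (Nat.ble 133 c)
noncomputable def Btab_s_131_134 (c : Nat) : Nat := @Bool.rec (fun _ => Nat) (Btab_131) (Btab_s_132_134 c) (Nat.ble 132 c)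
noncomputable def Btab_s_129_134 (c : Nat) : Nat := @Bool.rec (fun _ => Nat) (Btab_s_129_131 c) (Btab_s_131_134 c) (Nat.ble 131 c)
noncomputable def Btab_s_125_134 (c : Nat) : Nat := @Bool.rec (fun _ => Nat) (Btab_s_125_129 c) (Btab_s_129_134 c) (Nat.ble 129 c)
noncomputable def Btab_s_134_136 (c : Nat) : Nat := @Bool.rec (fun _ => Nat) (Btab_134) (Btab_135) (Nat.ble 135 c)
noncomputable def Btab_s_136_138 (c : Nat) : Nat := @Bool.rec (fun _ => Nat) (Btab_136) (Btab_137) (Nat.ble 137 c)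
noncomputable def Btab_s_134_138 (c : Nat) : Nat := @Bool.rec (fun _ => Nat) (Btab_s_134_136 c) (Btab_s_136_138 c) (Nat.ble 136 c)
noncomputable def Btab_s_138_140 (c : Nat) : Nat := @Bool.rec (fun _ => Nat) (Btab_138) (Btab_139) (Nat.ble 139 c)
noncomputable def Btab_s_141_143 (c : Nat) : Nat := @Bool.rec (fun _ => Nat) (Btab_141) (Btab_142) (Nat.ble 142 c)
noncomputable def Btab_s_140_143 (c : Nat) : Nat := @Bool.rec (fun _ => Nat) (Btab_140) (Btab_s_141_143 c) (Nat.ble 141 c)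
noncomputable def Btab_s_138_143 (c : Nat) : Nat := @Bool.rec (fun _ => Nat) (Btab_s_138_140 c) (Btab_s_140_143 c) (Nat.ble 140 c)
noncomputable def Btab_s_134_143 (c : Nat) : Nat := @Bool.rec (fun _ => Nat) (Btab_s_134_138 c) (Btab_s_138_143 c) (Nat.ble 138 c)
noncomputable def Btab_s_125_143 (c : Nat) : Nat := @Bool.rec (fun _ => Nat) (Btab_s_125_134 c) (Btab_s_134_143 c) (Nat.ble 134 c)
noncomputable def Btab_s_107_143 (c : Nat) : Nat := @Bool.rec (fun _ => Nat) (Btab_s_107_125 c) (Btab_s_125_143 c) (Nat.ble 125 c)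
noncomputable def Btab_s_71_143 (c : Nat) : Nat := @Bool.rec (fun _ => Nat) (Btab_s_71_107 c) (Btab_s_107_143 c) (Nat.ble 107 c)
noncomputable def Btab_s_0_143 (c : Nat) : Nat := @Bool.rec (fun _ => Nat) (Btab_s_0_71 c) (Btab_s_71_143 c) (Nat.ble 71 c)
noncomputable def Btab_s_143_145 (c : Nat) : Nat := @Bool.rec (fun _ => Nat) (Btab_143) (Btab_144) (Nat.ble 144 c)
noncomputable def Btab_s_145_147 (c : Nat) : Nat := @Bool.rec (fun _ => Nat) (Btab_145) (Btab_146) (Nat.ble 146 c)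
noncomputable def Btab_s_143_147 (c : Nat) : Nat := @Bool.rec (fun _ => Nat) (Btab_s_143_145 c) (Btab_s_145_147 c) (Nat.ble 145 c)
noncomputable def Btab_s_147_149 (c : Nat) : Nat := @Bool.rec (fun _ => Nat) (Btab_147) (Btab_148) (Nat.ble 148 c)
noncomputable def Btab_s_149_151 (c : Nat) : Nat := @Bool.rec (fun _ => Nat) (Btab_149) (Btab_150) (Nat.ble 150 c)
noncomputable def Btab_s_147_151 (c : Nat) : Nat := @Bool.rec (fun _ => Nat) (Btab_s_147_149 c) (Btab_s_149_151 c) (Nat.ble 149 c)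
noncomputable def Btab_s_143_151 (c : Nat) : Nat := @Bool.rec (fun _ => Nat) (Btab_s_143_147 c) (Btab_s_147_151 c) (Nat.ble 147 c)
noncomputable def Btab_s_151_153 (c : Nat) : Nat := @Bool.rec (fun _ => Nat) (Btab_151) (Btab_152) (Nat.ble 152 c)
noncomputable def Btab_s_153_155 (c : Nat) : Nat := @Bool.rec (fun _ => Nat) (Btab_153) (Btab_154) (Nat.ble 154 c)
noncomputable def Btab_s_151_155 (c : Nat) : Nat := @Bool.rec (fun _ => Nat) (Btab_s_151_153 c) (Btab_s_153_155 c) (Nat.ble 153 c)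
noncomputable def Btab_s_155_157 (c : Nat) : Nat := @Bool.rec (fun _ => Nat) (Btab_155) (Btab_156) (Nat.ble 156 c)
noncomputable def Btab_s_158_160 (c : Nat) : Nat := @Bool.rec (fun _ => Nat) (Btab_158) (Btab_159) (Nat.ble 159 c)
noncomputable def Btab_s_157_160 (c : Nat) : Nat := @Bool.rec (fun _ => Nat) (Btab_157) (Btab_s_158_160 c) (Nat.ble 158 c)
noncomputable def Btab_s_155_160 (c : Nat) : Nat := @Bool.rec (fun _ => Nat) (Btab_s_155_157 c) (Btab_s_157_160 c) (Nat.ble 157 c)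
noncomputable def Btab_s_151_160 (c : Nat) : Nat := @Bool.rec (fun _ => Nat) (Btab_s_151_155 c) (Btab_s_155_160 c) (Nat.ble 155 c)
noncomputable def Btab_s_143_160 (c : Nat) : Nat := @Bool.rec (fun _ => Nat) (Btab_s_143_151 c) (Btab_s_151_160 c) (Nat.ble 151 c)
noncomputable def Btab_s_160_162 (c : Nat) : Nat := @Bool.rec (fun _ => Nat) (Btab_160) (Btab_161) (Nat.ble 161 c)
noncomputable def Btab_s_162_164 (c : Nat) : Nat := @Bool.rec (fun _ => Nat) (Btab_162) (Btab_163) (Nat.ble 163 c)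
noncomputable def Btab_s_160_164 (c : Nat) : Nat := @Bool.rec (fun _ => Nat) (Btab_s_160_162 c) (Btab_s_162_164 c) (Nat.ble 162 c)
noncomputable def Btab_s_164_166 (c : Nat) : Nat := @Bool.rec (fun _ => Nat) (Btab_164) (Btab_165) (Nat.ble 165 c)
noncomputable def Btab_s_167_169 (c : Nat) : Nat := @Bool.rec (fun _ => Nat) (Btab_167) (Btab_168) (Nat.ble 168 c)
noncomputable def Btab_s_166_169 (c : Nat) : Nat := @Bool.rec (fun _ => Nat) (Btab_166) (Btab_s_167_169 c) (Nat.ble 167 c)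
noncomputable def Btab_s_164_169 (c : Nat) : Nat := @Bool.rec (fun _ => Nat) (Btab_s_164_166 c) (Btab_s_166_169 c) (Nat.ble 166 c)
noncomputable def Btab_s_160_169 (c : Nat) : Nat := @Bool.rec (fun _ => Nat) (Btab_s_160_164 c) (Btab_s_164_169 c) (Nat.ble 164 c)
noncomputable def Btab_s_169_171 (c : Nat) : Nat := @Bool.rec (fun _ => Nat) (Btab_169) (Btab_170) (Nat.ble 170 c)
noncomputable def Btab_s_171_173 (c : Nat) : Nat := @Bool.rec (fun _ => Nat) (Btab_171) (Btab_172) (Nat.ble 172 c)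
noncomputable def Btab_s_169_173 (c : Nat) : Nat := @Bool.rec (fun _ => Nat) (Btab_s_169_171 c) (Btab_s_171_173 c) (Nat.ble 171 c)
noncomputable def Btab_s_173_175 (c : Nat) : Nat := @Bool.rec (fun _ => Nat) (Btab_173) (Btab_174) (Nat.ble 174 c)
noncomputable def Btab_s_176_178 (c : Nat) : Nat := @Bool.rec (fun _ => Nat) (Btab_176) (Btab_177) (Nat.ble 177 c)
noncomputable def Btab_s_175_178 (c : Nat) : Nat := @Bool.rec (fun _ => Nat) (Btab_175) (Btab_s_176_178 c) (Nat.ble 176 c)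
noncomputable def Btab_s_173_178 (c : Nat) : Nat := @Bool.rec (fun _ => Nat) (Btab_s_173_175 c) (Btab_s_175_178 c) (Nat.ble 175 c)
noncomputable def Btab_s_169_178 (c : Nat) : Nat := @Bool.rec (fun _ => Nat) (Btab_s_169_173 c) (Btab_s_173_178 c) (Nat.ble 173 c)
noncomputable def Btab_s_160_178 (c : Nat) : Nat := @Bool.rec (fun _ => Nat) (Btab_s_160_169 c) (Btab_s_169_178 c) (Nat.ble 169 c)
noncomputable def Btab_s_143_178 (c : Nat) : Nat := @Bool.rec (fun _ => Nat) (Btab_s_143_160 c) (Btab_s_160_178 c) (Nat.ble 160 c)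
noncomputable def Btab_s_178_180 (c : Nat) : Nat := @Bool.rec (fun _ => Nat) (Btab_178) (Btab_179) (Nat.ble 179 c)
noncomputable def Btab_s_180_182 (c : Nat) : Nat := @Bool.rec (fun _ => Nat) (Btab_180) (Btab_181) (Nat.ble 181 c)
noncomputable def Btab_s_178_182 (c : Nat) : Nat := @Bool.rec (fun _ => Nat) (Btab_s_178_180 c) (Btab_s_180_182 c) (Nat.ble 180 c)
noncomputable def Btab_s_182_184 (c : Nat) : Nat := @Bool.rec (fun _ => Nat) (Btab_182) (Btab_183) (Nat.ble 183 c)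
noncomputable def Btab_s_185_187 (c : Nat) : Nat := @Bool.rec (fun _ => Nat) (Btab_185) (Btab_186) (Nat.ble 186 c)
noncomputable def Btab_s_184_187 (c : Nat) : Nat := @Bool.rec (fun _ => Nat) (Btab_184) (Btab_s_185_187 c) (Nat.ble 185 c)
noncomputable def Btab_s_182_187 (c : Nat) : Nat := @Bool.rec (fun _ => Nat) (Btab_s_182_184 c) (Btab_s_184_187 c) (Nat.ble 184 c)
noncomputable def Btab_s_178_187 (c : Nat) : Nat := @Bool.rec (fun _ => Nat) (Btab_s_178_182 c) (Btab_s_182_187 c) (Nat.ble 182 c)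
noncomputable def Btab_s_187_189 (c : Nat) : Nat := @Bool.rec (fun _ => Nat) (Btab_187) (Btab_188) (Nat.ble 188 c)
noncomputable def Btab_s_189_191 (c : Nat) : Nat := @Bool.rec (fun _ => Nat) (Btab_189) (Btab_190) (Nat.ble 190 c)
noncomputable def Btab_s_187_191 (c : Nat) : Nat := @Bool.rec (fun _ => Nat) (Btab_s_187_189 c) (Btab_s_189_191 c) (Nat.ble 189 c)
noncomputable def Btab_s_191_193 (c : Nat) : Nat := @Bool.rec (fun _ => Nat) (Btab_191) (Btab_192) (Nat.ble 192 c)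
noncomputable def Btab_s_194_196 (c : Nat) : Nat := @Bool.rec (fun _ => Nat) (Btab_194) (Btab_195) (Nat.ble 195 c)
noncomputable def Btab_s_193_196 (c : Nat) : Nat := @Bool.rec (fun _ => Nat) (Btab_193) (Btab_s_194_196 c) (Nat.ble 194 c)
noncomputable def Btab_s_191_196 (c : Nat) : Nat := @Bool.rec (fun _ => Nat) (Btab_s_191_193 c) (Btab_s_193_196 c) (Nat.ble 193 c)
noncomputable def Btab_s_187_196 (c : Nat) : Nat := @Bool.rec (fun _ => Nat) (Btab_s_187_191 c) (Btab_s_191_196 c) (Nat.ble 191 c)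
noncomputable def Btab_s_178_196 (c : Nat) : Nat := @Bool.rec (fun _ => Nat) (Btab_s_178_187 c) (Btab_s_187_196 c) (Nat.ble 187 c)
noncomputable def Btab_s_196_198 (c : Nat) : Nat := @Bool.rec (fun _ => Nat) (Btab_196) (Btab_197) (Nat.ble 197 c)
noncomputable def Btab_s_198_200 (c : Nat) : Nat := @Bool.rec (fun _ => Nat) (Btab_198) (Btab_199) (Nat.ble 199 c)
noncomputable def Btab_s_196_200 (c : Nat) : Nat := @Bool.rec (fun _ => Nat) (Btab_s_196_198 c) (Btab_s_198_200 c) (Nat.ble 198 c)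
noncomputable def Btab_s_200_202 (c : Nat) : Nat := @Bool.rec (fun _ => Nat) (Btab_200) (Btab_201) (Nat.ble 201 c)
noncomputable def Btab_s_203_205 (c : Nat) : Nat := @Bool.rec (fun _ => Nat) (Btab_203) (Btab_204) (Nat.ble 204 c)
noncomputable def Btab_s_202_205 (c : Nat) : Nat := @Bool.rec (fun _ => Nat) (Btab_202) (Btab_s_203_205 c) (Nat.ble 203 c)
noncomputable def Btab_s_200_205 (c : Nat) : Nat := @Bool.rec (fun _ => Nat) (Btab_s_200_202 c) (Btab_s_202_205 c) (Nat.ble 202 c)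
noncomputable def Btab_s_196_205 (c : Nat) : Nat := @Bool.rec (fun _ => Nat) (Btab_s_196_200 c) (Btab_s_200_205 c) (Nat.ble 200 c)
noncomputable def Btab_s_205_207 (c : Nat) : Nat := @Bool.rec (fun _ => Nat) (Btab_205) (Btab_206) (Nat.ble 206 c)
noncomputable def Btab_s_207_209 (c : Nat) : Nat := @Bool.rec (fun _ => Nat) (Btab_207) (Btab_208) (Nat.ble 208 c)
noncomputable def Btab_s_205_209 (c : Nat) : Nat := @Bool.rec (fun _ => Nat) (Btab_s_205_207 c) (Btab_s_207_209 c) (Nat.ble 207 c)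
noncomputable def Btab_s_209_211 (c : Nat) : Nat := @Bool.rec (fun _ => Nat) (Btab_209) (Btab_210) (Nat.ble 210 c)
noncomputable def Btab_s_212_214 (c : Nat) : Nat := @Bool.rec (fun _ => Nat) (Btab_212) (Btab_213) (Nat.ble 213 c)
noncomputable def Btab_s_211_214 (c : Nat) : Nat := @Bool.rec (fun _ => Nat) (Btab_211) (Btab_s_212_214 c) (Nat.ble 212 c)
noncomputable def Btab_s_209_214 (c : Nat) : Nat := @Bool.rec (fun _ => Nat) (Btab_s_209_211 c) (Btab_s_211_214 c) (Nat.ble 211 c)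
noncomputable def Btab_s_205_214 (c : Nat) : Nat := @Bool.rec (fun _ => Nat) (Btab_s_205_209 c) (Btab_s_209_214 c) (Nat.ble 209 c)
noncomputable def Btab_s_196_214 (c : Nat) : Nat := @Bool.rec (fun _ => Nat) (Btab_s_196_205 c) (Btab_s_205_214 c) (Nat.ble 205 c)
noncomputable def Btab_s_178_214 (c : Nat) : Nat := @Bool.rec (fun _ => Nat) (Btab_s_178_196 c) (Btab_s_196_214 c) (Nat.ble 196 c)
noncomputable def Btab_s_143_214 (c : Nat) : Nat := @Bool.rec (fun _ => Nat) (Btab_s_143_178 c) (Btab_s_178_214 c) (Nat.ble 178 c)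
noncomputable def Btab_s_214_216 (c : Nat) : Nat := @Bool.rec (fun _ => Nat) (Btab_214) (Btab_215) (Nat.ble 215 c)
noncomputable def Btab_s_216_218 (c : Nat) : Nat := @Bool.rec (fun _ => Nat) (Btab_216) (Btab_217) (Nat.ble 217 c)
noncomputable def Btab_s_214_218 (c : Nat) : Nat := @Bool.rec (fun _ => Nat) (Btab_s_214_216 c) (Btab_s_216_218 c) (Nat.ble 216 c)
noncomputable def Btab_s_218_220 (c : Nat) : Nat := @Bool.rec (fun _ => Nat) (Btab_218) (Btab_219) (Nat.ble 219 c)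
noncomputable def Btab_s_221_223 (c : Nat) : Nat := @Bool.rec (fun _ => Nat) (Btab_221) (Btab_222) (Nat.ble 222 c)
noncomputable def Btab_s_220_223 (c : Nat) : Nat := @Bool.rec (fun _ => Nat) (Btab_220) (Btab_s_221_223 c) (Nat.ble 221 c)
noncomputable def Btab_s_218_223 (c : Nat) : Nat := @Bool.rec (fun _ => Nat) (Btab_s_218_220 c) (Btab_s_220_223 c) (Nat.ble 220 c)
noncomputable def Btab_s_214_223 (c : Nat) : Nat := @Bool.rec (fun _ => Nat) (Btab_s_214_218 c) (Btab_s_218_223 c) (Nat.ble 218 c)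
noncomputable def Btab_s_223_225 (c : Nat) : Nat := @Bool.rec (fun _ => Nat) (Btab_223) (Btab_224) (Nat.ble 224 c)
noncomputable def Btab_s_225_227 (c : Nat) : Nat := @Bool.rec (fun _ => Nat) (Btab_225) (Btab_226) (Nat.ble 226 c)
noncomputable def Btab_s_223_227 (c : Nat) : Nat := @Bool.rec (fun _ => Nat) (Btab_s_223_225 c) (Btab_s_225_227 c) (Nat.ble 225 c)
noncomputable def Btab_s_227_229 (c : Nat) : Nat := @Bool.rec (fun _ => Nat) (Btab_227) (Btab_228) (Nat.ble 228 c)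
noncomputable def Btab_s_230_232 (c : Nat) : Nat := @Bool.rec (fun _ => Nat) (Btab_230) (Btab_231) (Nat.ble 231 c)
noncomputable def Btab_s_229_232 (c : Nat) : Nat := @Bool.rec (fun _ => Nat) (Btab_229) (Btab_s_230_232 c) (Nat.ble 230 c)
noncomputable def Btab_s_227_232 (c : Nat) : Nat := @Bool.rec (fun _ => Nat) (Btab_s_227_229 c) (Btab_s_229_232 c) (Nat.ble 229 c)
noncomputable def Btab_s_223_232 (c : Nat) : Nat := @Bool.rec (fun _ => Nat) (Btab_s_223_227 c) (Btab_s_227_232 c) (Nat.ble 227 c)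
noncomputable def Btab_s_214_232 (c : Nat) : Nat := @Bool.rec (fun _ => Nat) (Btab_s_214_223 c) (Btab_s_223_232 c) (Nat.ble 223 c)
noncomputable def Btab_s_232_234 (c : Nat) : Nat := @Bool.rec (fun _ => Nat) (Btab_232) (Btab_233) (Nat.ble 233 c)
noncomputable def Btab_s_234_236 (c : Nat) : Nat := @Bool.rec (fun _ => Nat) (Btab_234) (Btab_235) (Nat.ble 235 c)
noncomputable def Btab_s_232_236 (c : Nat) : Nat := @Bool.rec (fun _ => Nat) (Btab_s_232_234 c) (Btab_s_234_236 c) (Nat.ble 234 c)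
noncomputable def Btab_s_236_238 (c : Nat) : Nat := @Bool.rec (fun _ => Nat) (Btab_236) (Btab_237) (Nat.ble 237 c)
noncomputable def Btab_s_239_241 (c : Nat) : Nat := @Bool.rec (fun _ => Nat) (Btab_239) (Btab_240) (Nat.ble 240 c)
noncomputable def Btab_s_238_241 (c : Nat) : Nat := @Bool.rec (fun _ => Nat) (Btab_238) (Btab_s_239_241 c) (Nat.ble 239 c)
noncomputable def Btab_s_236_241 (c : Nat) : Nat := @Bool.rec (fun _ => Nat) (Btab_s_236_238 c) (Btab_s_238_241 c) (Nat.ble 238 c)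
noncomputable def Btab_s_232_241 (c : Nat) : Nat := @Bool.rec (fun _ => Nat) (Btab_s_232_236 c) (Btab_s_236_241 c) (Nat.ble 236 c)
noncomputable def Btab_s_241_243 (c : Nat) : Nat := @Bool.rec (fun _ => Nat) (Btab_241) (Btab_242) (Nat.ble 242 c)
noncomputable def Btab_s_243_245 (c : Nat) : Nat := @Bool.rec (fun _ => Nat) (Btab_243) (Btab_244) (Nat.ble 244 c)
noncomputable def Btab_s_241_245 (c : Nat) : Nat := @Bool.rec (fun _ => Nat) (Btab_s_241_243 c) (Btab_s_243_245 c) (Nat.ble 243 c)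
noncomputable def Btab_s_245_247 (c : Nat) : Nat := @Bool.rec (fun _ => Nat) (Btab_245) (Btab_246) (Nat.ble 246 c)
noncomputable def Btab_s_248_250 (c : Nat) : Nat := @Bool.rec (fun _ => Nat) (Btab_248) (Btab_249) (Nat.ble 249 c)
noncomputable def Btab_s_247_250 (c : Nat) : Nat := @Bool.rec (fun _ => Nat) (Btab_247) (Btab_s_248_250 c) (Nat.ble 248 c)
noncomputable def Btab_s_245_250 (c : Nat) : Nat := @Bool.rec (fun _ => Nat) (Btab_s_245_247 c) (Btab_s_247_250 c) (Nat.ble 247 c)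
noncomputable def Btab_s_241_250 (c : Nat) : Nat := @Bool.rec (fun _ => Nat) (Btab_s_241_245 c) (Btab_s_245_250 c) (Nat.ble 245 c)
noncomputable def Btab_s_232_250 (c : Nat) : Nat := @Bool.rec (fun _ => Nat) (Btab_s_232_241 c) (Btab_s_241_250 c) (Nat.ble 241 c)
noncomputable def Btab_s_214_250 (c : Nat) : Nat := @Bool.rec (fun _ => Nat) (Btab_s_214_232 c) (Btab_s_232_250 c) (Nat.ble 232 c)
noncomputable def Btab_s_250_252 (c : Nat) : Nat := @Bool.rec (fun _ => Nat) (Btab_250) (Btab_251) (Nat.ble 251 c)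
noncomputable def Btab_s_252_254 (c : Nat) : Nat := @Bool.rec (fun _ => Nat) (Btab_252) (Btab_253) (Nat.ble 253 c)
noncomputable def Btab_s_250_254 (c : Nat) : Nat := @Bool.rec (fun _ => Nat) (Btab_s_250_252 c) (Btab_s_252_254 c) (Nat.ble 252 c)
noncomputable def Btab_s_254_256 (c : Nat) : Nat := @Bool.rec (fun _ => Nat) (Btab_254) (Btab_255) (Nat.ble 255 c)
noncomputable def Btab_s_257_259 (c : Nat) : Nat := @Bool.rec (fun _ => Nat) (Btab_257) (Btab_258) (Nat.ble 258 c)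
noncomputable def Btab_s_256_259 (c : Nat) : Nat := @Bool.rec (fun _ => Nat) (Btab_256) (Btab_s_257_259 c) (Nat.ble 257 c)
noncomputable def Btab_s_254_259 (c : Nat) : Nat := @Bool.rec (fun _ => Nat) (Btab_s_254_256 c) (Btab_s_256_259 c) (Nat.ble 256 c)
noncomputable def Btab_s_250_259 (c : Nat) : Nat := @Bool.rec (fun _ => Nat) (Btab_s_250_254 c) (Btab_s_254_259 c) (Nat.ble 254 c)
noncomputable def Btab_s_259_261 (c : Nat) : Nat := @Bool.rec (fun _ => Nat) (Btab_259) (Btab_260) (Nat.ble 260 c)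
noncomputable def Btab_s_261_263 (c : Nat) : Nat := @Bool.rec (fun _ => Nat) (Btab_261) (Btab_262) (Nat.ble 262 c)
noncomputable def Btab_s_259_263 (c : Nat) : Nat := @Bool.rec (fun _ => Nat) (Btab_s_259_261 c) (Btab_s_261_263 c) (Nat.ble 261 c)
noncomputable def Btab_s_263_265 (c : Nat) : Nat := @Bool.rec (fun _ => Nat) (Btab_263) (Btab_264) (Nat.ble 264 c)
noncomputable def Btab_s_266_268 (c : Nat) : Nat := @Bool.rec (fun _ => Nat) (Btab_266) (Btab_267) (Nat.ble 267 c)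
noncomputable def Btab_s_265_268 (c : Nat) : Nat := @Bool.rec (fun _ => Nat) (Btab_265) (Btab_s_266_268 c) (Nat.ble 266 c)
noncomputable def Btab_s_263_268 (c : Nat) : Nat := @Bool.rec (fun _ => Nat) (Btab_s_263_265 c) (Btab_s_265_268 c) (Nat.ble 265 c)
noncomputable def Btab_s_259_268 (c : Nat) : Nat := @Bool.rec (fun _ => Nat) (Btab_s_259_263 c) (Btab_s_263_268 c) (Nat.ble 263 c)
noncomputable def Btab_s_250_268 (c : Nat) : Nat := @Bool.rec (fun _ => Nat) (Btab_s_250_259 c) (Btab_s_259_268 c) (Nat.ble 259 c)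
noncomputable def Btab_s_268_270 (c : Nat) : Nat := @Bool.rec (fun _ => Nat) (Btab_268) (Btab_269) (Nat.ble 269 c)
noncomputable def Btab_s_270_272 (c : Nat) : Nat := @Bool.rec (fun _ => Nat) (Btab_270) (Btab_271) (Nat.ble 271 c)
noncomputable def Btab_s_268_272 (c : Nat) : Nat := @Bool.rec (fun _ => Nat) (Btab_s_268_270 c) (Btab_s_270_272 c) (Nat.ble 270 c)
noncomputable def Btab_s_272_274 (c : Nat) : Nat := @Bool.rec (fun _ => Nat) (Btab_272) (Btab_273) (Nat.ble 273 c)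
noncomputable def Btab_s_275_277 (c : Nat) : Nat := @Bool.rec (fun _ => Nat) (Btab_275) (Btab_276) (Nat.ble 276 c)
noncomputable def Btab_s_274_277 (c : Nat) : Nat := @Bool.rec (fun _ => Nat) (Btab_274) (Btab_s_275_277 c) (Nat.ble 275 c)
noncomputable def Btab_s_272_277 (c : Nat) : Nat := @Bool.rec (fun _ => Nat) (Btab_s_272_274 c) (Btab_s_274_277 c) (Nat.ble 274 c)
noncomputable def Btab_s_268_277 (c : Nat) : Nat := @Bool.rec (fun _ => Nat) (Btab_s_268_272 c) (Btab_s_272_277 c) (Nat.ble 272 c)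
noncomputable def Btab_s_277_279 (c : Nat) : Nat := @Bool.rec (fun _ => Nat) (Btab_277) (Btab_278) (Nat.ble 278 c)
noncomputable def Btab_s_279_281 (c : Nat) : Nat := @Bool.rec (fun _ => Nat) (Btab_279) (Btab_280) (Nat.ble 280 c)
noncomputable def Btab_s_277_281 (c : Nat) : Nat := @Bool.rec (fun _ => Nat) (Btab_s_277_279 c) (Btab_s_279_281 c) (Nat.ble 279 c)
noncomputable def Btab_s_281_283 (c : Nat) : Nat := @Bool.rec (fun _ => Nat) (Btab_281) (Btab_282) (Nat.ble 282 c)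
noncomputable def Btab_s_284_286 (c : Nat) : Nat := @Bool.rec (fun _ => Nat) (Btab_284) (Btab_285) (Nat.ble 285 c)
noncomputable def Btab_s_283_286 (c : Nat) : Nat := @Bool.rec (fun _ => Nat) (Btab_283) (Btab_s_284_286 c) (Nat.ble 284 c)
noncomputable def Btab_s_281_286 (c : Nat) : Nat := @Bool.rec (fun _ => Nat) (Btab_s_281_283 c) (Btab_s_283_286 c) (Nat.ble 283 c)
noncomputable def Btab_s_277_286 (c : Nat) : Nat := @Bool.rec (fun _ => Nat) (Btab_s_277_281 c) (Btab_s_281_286 c) (Nat.ble 281 c)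
noncomputable def Btab_s_268_286 (c : Nat) : Nat := @Bool.rec (fun _ => Nat) (Btab_s_268_277 c) (Btab_s_277_286 c) (Nat.ble 277 c)
noncomputable def Btab_s_250_286 (c : Nat) : Nat := @Bool.rec (fun _ => Nat) (Btab_s_250_268 c) (Btab_s_268_286 c) (Nat.ble 268 c)
noncomputable def Btab_s_214_286 (c : Nat) : Nat := @Bool.rec (fun _ => Nat) (Btab_s_214_250 c) (Btab_s_250_286 c) (Nat.ble 250 c)
noncomputable def Btab_s_143_286 (c : Nat) : Nat := @Bool.rec (fun _ => Nat) (Btab_s_143_214 c) (Btab_s_214_286 c) (Nat.ble 214 c)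
noncomputable def Btab_s_0_286 (c : Nat) : Nat := @Bool.rec (fun _ => Nat) (Btab_s_0_143 c) (Btab_s_143_286 c) (Nat.ble 143 c)
noncomputable def Btab (i : Nat) : Nat := rdw 41 2199023255551 (Btab_s_0_286 (Nat.shiftRight i 11)) (Nat.land i 2047)
noncomputable def Ptab_s_0_2 (c : Nat) : Nat := @Bool.rec (fun _ => Nat) (Ptab_0) (Ptab_1) (Nat.ble 1 c)
noncomputable def Ptab_s_2_4 (c : Nat) : Nat := @Bool.rec (fun _ => Nat) (Ptab_2) (Ptab_3) (Nat.ble 3 c)
noncomputable def Ptab_s_0_4 (c : Nat) : Nat := @Bool.rec (fun _ => Nat) (Ptab_s_0_2 c) (Ptab_s_2_4 c) (Nat.ble 2 c)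
noncomputable def Ptab_s_4_6 (c : Nat) : Nat := @Bool.rec (fun _ => Nat) (Ptab_4) (Ptab_5) (Nat.ble 5 c)
noncomputable def Ptab_s_7_9 (c : Nat) : Nat := @Bool.rec (fun _ => Nat) (Ptab_7) (Ptab_8) (Nat.ble 8 c)
noncomputable def Ptab_s_6_9 (c : Nat) : Nat := @Bool.rec (fun _ => Nat) (Ptab_6) (Ptab_s_7_9 c) (Nat.ble 7 c)
noncomputable def Ptab_s_4_9 (c : Nat) : Nat := @Bool.rec (fun _ => Nat) (Ptab_s_4_6 c) (Ptab_s_6_9 c) (Nat.ble 6 c)
noncomputable def Ptab_s_0_9 (c : Nat) : Nat := @Bool.rec (fun _ => Nat) (Ptab_s_0_4 c) (Ptab_s_4_9 c) (Nat.ble 4 c)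
noncomputable def Ptab_s_9_11 (c : Nat) : Nat := @Bool.rec (fun _ => Nat) (Ptab_9) (Ptab_10) (Nat.ble 10 c)
noncomputable def Ptab_s_11_13 (c : Nat) : Nat := @Bool.rec (fun _ => Nat) (Ptab_11) (Ptab_12) (Nat.ble 12 c)
noncomputable def Ptab_s_9_13 (c : Nat) : Nat := @Bool.rec (fun _ => Nat) (Ptab_s_9_11 c) (Ptab_s_11_13 c) (Nat.ble 11 c)
noncomputable def Ptab_s_13_15 (c : Nat) : Nat := @Bool.rec (fun _ => Nat) (Ptab_13) (Ptab_14) (Nat.ble 14 c)
noncomputable def Ptab_s_16_18 (c : Nat) : Nat := @Bool.rec (fun _ => Nat) (Ptab_16) (Ptab_17) (Nat.ble 17 c)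
noncomputable def Ptab_s_15_18 (c : Nat) : Nat := @Bool.rec (fun _ => Nat) (Ptab_15) (Ptab_s_16_18 c) (Nat.ble 16 c)
noncomputable def Ptab_s_13_18 (c : Nat) : Nat := @Bool.rec (fun _ => Nat) (Ptab_s_13_15 c) (Ptab_s_15_18 c) (Nat.ble 15 c)
noncomputable def Ptab_s_9_18 (c : Nat) : Nat := @Bool.rec (fun _ => Nat) (Ptab_s_9_13 c) (Ptab_s_13_18 c) (Nat.ble 13 c)
noncomputable def Ptab_s_0_18 (c : Nat) : Nat := @Bool.rec (fun _ => Nat) (Ptab_s_0_9 c) (Ptab_s_9_18 c) (Nat.ble 9 c)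
noncomputable def Ptab_s_18_20 (c : Nat) : Nat := @Bool.rec (fun _ => Nat) (Ptab_18) (Ptab_19) (Nat.ble 19 c)
noncomputable def Ptab_s_20_22 (c : Nat) : Nat := @Bool.rec (fun _ => Nat) (Ptab_20) (Ptab_21) (Nat.ble 21 c)
noncomputable def Ptab_s_18_22 (c : Nat) : Nat := @Bool.rec (fun _ => Nat) (Ptab_s_18_20 c) (Ptab_s_20_22 c) (Nat.ble 20 c)
noncomputable def Ptab_s_22_24 (c : Nat) : Nat := @Bool.rec (fun _ => Nat) (Ptab_22) (Ptab_23) (Nat.ble 23 c)
noncomputable def Ptab_s_25_27 (c : Nat) : Nat := @Bool.rec (fun _ => Nat) (Ptab_25) (Ptab_26) (Nat.ble 26 c)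
noncomputable def Ptab_s_24_27 (c : Nat) : Nat := @Bool.rec (fun _ => Nat) (Ptab_24) (Ptab_s_25_27 c) (Nat.ble 25 c)
noncomputable def Ptab_s_22_27 (c : Nat) : Nat := @Bool.rec (fun _ => Nat) (Ptab_s_22_24 c) (Ptab_s_24_27 c) (Nat.ble 24 c)
noncomputable def Ptab_s_18_27 (c : Nat) : Nat := @Bool.rec (fun _ => Nat) (Ptab_s_18_22 c) (Ptab_s_22_27 c) (Nat.ble 22 c)
noncomputable def Ptab_s_27_29 (c : Nat) : Nat := @Bool.rec (fun _ => Nat) (Ptab_27) (Ptab_28) (Nat.ble 28 c)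
noncomputable def Ptab_s_30_32 (c : Nat) : Nat := @Bool.rec (fun _ => Nat) (Ptab_30) (Ptab_31) (Nat.ble 31 c)
noncomputable def Ptab_s_29_32 (c : Nat) : Nat := @Bool.rec (fun _ => Nat) (Ptab_29) (Ptab_s_30_32 c) (Nat.ble 30 c)
noncomputable def Ptab_s_27_32 (c : Nat) : Nat := @Bool.rec (fun _ => Nat) (Ptab_s_27_29 c) (Ptab_s_29_32 c) (Nat.ble 29 c)
noncomputable def Ptab_s_32_34 (c : Nat) : Nat := @Bool.rec (fun _ => Nat) (Ptab_32) (Ptab_33) (Nat.ble 33 c)
noncomputable def Ptab_s_35_37 (c : Nat) : Nat := @Bool.rec (fun _ => Nat) (Ptab_35) (Ptab_36) (Nat.ble 36 c)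
noncomputable def Ptab_s_34_37 (c : Nat) : Nat := @Bool.rec (fun _ => Nat) (Ptab_34) (Ptab_s_35_37 c) (Nat.ble 35 c)
noncomputable def Ptab_s_32_37 (c : Nat) : Nat := @Bool.rec (fun _ => Nat) (Ptab_s_32_34 c) (Ptab_s_34_37 c) (Nat.ble 34 c)
noncomputable def Ptab_s_27_37 (c : Nat) : Nat := @Bool.rec (fun _ => Nat) (Ptab_s_27_32 c) (Ptab_s_32_37 c) (Nat.ble 32 c)
noncomputable def Ptab_s_18_37 (c : Nat) : Nat := @Bool.rec (fun _ => Nat) (Ptab_s_18_27 c) (Ptab_s_27_37 c) (Nat.ble 27 c)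
noncomputable def Ptab_s_0_37 (c : Nat) : Nat := @Bool.rec (fun _ => Nat) (Ptab_s_0_18 c) (Ptab_s_18_37 c) (Nat.ble 18 c)
noncomputable def Ptab_s_37_39 (c : Nat) : Nat := @Bool.rec (fun _ => Nat) (Ptab_37) (Ptab_38) (Nat.ble 38 c)
noncomputable def Ptab_s_39_41 (c : Nat) : Nat := @Bool.rec (fun _ => Nat) (Ptab_39) (Ptab_40) (Nat.ble 40 c)
noncomputable def Ptab_s_37_41 (c : Nat) : Nat := @Bool.rec (fun _ => Nat) (Ptab_s_37_39 c) (Ptab_s_39_41 c) (Nat.ble 39 c)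
noncomputable def Ptab_s_41_43 (c : Nat) : Nat := @Bool.rec (fun _ => Nat) (Ptab_41) (Ptab_42) (Nat.ble 42 c)
noncomputable def Ptab_s_44_46 (c : Nat) : Nat := @Bool.rec (fun _ => Nat) (Ptab_44) (Ptab_45) (Nat.ble 45 c)
noncomputable def Ptab_s_43_46 (c : Nat) : Nat := @Bool.rec (fun _ => Nat) (Ptab_43) (Ptab_s_44_46 c) (Nat.ble 44 c)
noncomputable def Ptab_s_41_46 (c : Nat) : Nat := @Bool.rec (fun _ => Nat) (Ptab_s_41_43 c) (Ptab_s_43_46 c) (Nat.ble 43 c)
noncomputable def Ptab_s_37_46 (c : Nat) : Nat := @Bool.rec (fun _ => Nat) (Ptab_s_37_41 c) (Ptab_s_41_46 c) (Nat.ble 41 c)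
noncomputable def Ptab_s_46_48 (c : Nat) : Nat := @Bool.rec (fun _ => Nat) (Ptab_46) (Ptab_47) (Nat.ble 47 c)
noncomputable def Ptab_s_49_51 (c : Nat) : Nat := @Bool.rec (fun _ => Nat) (Ptab_49) (Ptab_50) (Nat.ble 50 c)
noncomputable def Ptab_s_48_51 (c : Nat) : Nat := @Bool.rec (fun _ => Nat) (Ptab_48) (Ptab_s_49_51 c) (Nat.ble 49 c)
noncomputable def Ptab_s_46_51 (c : Nat) : Nat := @Bool.rec (fun _ => Nat) (Ptab_s_46_48 c) (Ptab_s_48_51 c) (Nat.ble 48 c)
noncomputable def Ptab_s_51_53 (c : Nat) : Nat := @Bool.rec (fun _ => Nat) (Ptab_51) (Ptab_52) (Nat.ble 52 c)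
noncomputable def Ptab_s_54_56 (c : Nat) : Nat := @Bool.rec (fun _ => Nat) (Ptab_54) (Ptab_55) (Nat.ble 55 c)
noncomputable def Ptab_s_53_56 (c : Nat) : Nat := @Bool.rec (fun _ => Nat) (Ptab_53) (Ptab_s_54_56 c) (Nat.ble 54 c)
noncomputable def Ptab_s_51_56 (c : Nat) : Nat := @Bool.rec (fun _ => Nat) (Ptab_s_51_53 c) (Ptab_s_53_56 c) (Nat.ble 53 c)
noncomputable def Ptab_s_46_56 (c : Nat) : Nat := @Bool.rec (fun _ => Nat) (Ptab_s_46_51 c) (Ptab_s_51_56 c) (Nat.ble 51 c)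
noncomputable def Ptab_s_37_56 (c : Nat) : Nat := @Bool.rec (fun _ => Nat) (Ptab_s_37_46 c) (Ptab_s_46_56 c) (Nat.ble 46 c)
noncomputable def Ptab_s_56_58 (c : Nat) : Nat := @Bool.rec (fun _ => Nat) (Ptab_56) (Ptab_57) (Nat.ble 57 c)
noncomputable def Ptab_s_58_60 (c : Nat) : Nat := @Bool.rec (fun _ => Nat) (Ptab_58) (Ptab_59) (Nat.ble 59 c)
noncomputable def Ptab_s_56_60 (c : Nat) : Nat := @Bool.rec (fun _ => Nat) (Ptab_s_56_58 c) (Ptab_s_58_60 c) (Nat.ble 58 c)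
noncomputable def Ptab_s_60_62 (c : Nat) : Nat := @Bool.rec (fun _ => Nat) (Ptab_60) (Ptab_61) (Nat.ble 61 c)
noncomputable def Ptab_s_63_65 (c : Nat) : Nat := @Bool.rec (fun _ => Nat) (Ptab_63) (Ptab_64) (Nat.ble 64 c)
noncomputable def Ptab_s_62_65 (c : Nat) : Nat := @Bool.rec (fun _ => Nat) (Ptab_62) (Ptab_s_63_65 c) (Nat.ble 63 c)
noncomputable def Ptab_s_60_65 (c : Nat) : Nat := @Bool.rec (fun _ => Nat) (Ptab_s_60_62 c) (Ptab_s_62_65 c) (Nat.ble 62 c)
noncomputable def Ptab_s_56_65 (c : Nat) : Nat := @Bool.rec (fun _ => Nat) (Ptab_s_56_60 c) (Ptab_s_60_65 c) (Nat.ble 60 c)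
noncomputable def Ptab_s_65_67 (c : Nat) : Nat := @Bool.rec (fun _ => Nat) (Ptab_65) (Ptab_66) (Nat.ble 66 c)
noncomputable def Ptab_s_68_70 (c : Nat) : Nat := @Bool.rec (fun _ => Nat) (Ptab_68) (Ptab_69) (Nat.ble 69 c)
noncomputable def Ptab_s_67_70 (c : Nat) : Nat := @Bool.rec (fun _ => Nat) (Ptab_67) (Ptab_s_68_70 c) (Nat.ble 68 c)
noncomputable def Ptab_s_65_70 (c : Nat) : Nat := @Bool.rec (fun _ => Nat) (Ptab_s_65_67 c) (Ptab_s_67_70 c) (Nat.ble 67 c)
noncomputable def Ptab_s_70_72 (c : Nat) : Nat := @Bool.rec (fun _ => Nat) (Ptab_70) (Ptab_71) (Nat.ble 71 c)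
noncomputable def Ptab_s_73_75 (c : Nat) : Nat := @Bool.rec (fun _ => Nat) (Ptab_73) (Ptab_74) (Nat.ble 74 c)
noncomputable def Ptab_s_72_75 (c : Nat) : Nat := @Bool.rec (fun _ => Nat) (Ptab_72) (Ptab_s_73_75 c) (Nat.ble 73 c)
noncomputable def Ptab_s_70_75 (c : Nat) : Nat := @Bool.rec (fun _ => Nat) (Ptab_s_70_72 c) (Ptab_s_72_75 c) (Nat.ble 72 c)
noncomputable def Ptab_s_65_75 (c : Nat) : Nat := @Bool.rec (fun _ => Nat) (Ptab_s_65_70 c) (Ptab_s_70_75 c) (Nat.ble 70 c)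
noncomputable def Ptab_s_56_75 (c : Nat) : Nat := @Bool.rec (fun _ => Nat) (Ptab_s_56_65 c) (Ptab_s_65_75 c) (Nat.ble 65 c)
noncomputable def Ptab_s_37_75 (c : Nat) : Nat := @Bool.rec (fun _ => Nat) (Ptab_s_37_56 c) (Ptab_s_56_75 c) (Nat.ble 56 c)
noncomputable def Ptab_s_0_75 (c : Nat) : Nat := @Bool.rec (fun _ => Nat) (Ptab_s_0_37 c) (Ptab_s_37_75 c) (Nat.ble 37 c)
noncomputable def Ptab_s_75_77 (c : Nat) : Nat := @Bool.rec (fun _ => Nat) (Ptab_75) (Ptab_76) (Nat.ble 76 c)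
noncomputable def Ptab_s_77_79 (c : Nat) : Nat := @Bool.rec (fun _ => Nat) (Ptab_77) (Ptab_78) (Nat.ble 78 c)
noncomputable def Ptab_s_75_79 (c : Nat) : Nat := @Bool.rec (fun _ => Nat) (Ptab_s_75_77 c) (Ptab_s_77_79 c) (Nat.ble 77 c)
noncomputable def Ptab_s_79_81 (c : Nat) : Nat := @Bool.rec (fun _ => Nat) (Ptab_79) (Ptab_80) (Nat.ble 80 c)
noncomputable def Ptab_s_82_84 (c : Nat) : Nat := @Bool.rec (fun _ => Nat) (Ptab_82) (Ptab_83) (Nat.ble 83 c)
noncomputable def Ptab_s_81_84 (c : Nat) : Nat := @Bool.rec (fun _ => Nat) (Ptab_81) (Ptab_s_82_84 c) (Nat.ble 82 c)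
noncomputable def Ptab_s_79_84 (c : Nat) : Nat := @Bool.rec (fun _ => Nat) (Ptab_s_79_81 c) (Ptab_s_81_84 c) (Nat.ble 81 c)
noncomputable def Ptab_s_75_84 (c : Nat) : Nat := @Bool.rec (fun _ => Nat) (Ptab_s_75_79 c) (Ptab_s_79_84 c) (Nat.ble 79 c)
noncomputable def Ptab_s_84_86 (c : Nat) : Nat := @Bool.rec (fun _ => Nat) (Ptab_84) (Ptab_85) (Nat.ble 85 c)
noncomputable def Ptab_s_86_88 (c : Nat) : Nat := @Bool.rec (fun _ => Nat) (Ptab_86) (Ptab_87) (Nat.ble 87 c)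
noncomputable def Ptab_s_84_88 (c : Nat) : Nat := @Bool.rec (fun _ => Nat) (Ptab_s_84_86 c) (Ptab_s_86_88 c) (Nat.ble 86 c)
noncomputable def Ptab_s_88_90 (c : Nat) : Nat := @Bool.rec (fun _ => Nat) (Ptab_88) (Ptab_89) (Nat.ble 89 c)
noncomputable def Ptab_s_91_93 (c : Nat) : Nat := @Bool.rec (fun _ => Nat) (Ptab_91) (Ptab_92) (Nat.ble 92 c)
noncomputable def Ptab_s_90_93 (c : Nat) : Nat := @Bool.rec (fun _ => Nat) (Ptab_90) (Ptab_s_91_93 c) (Nat.ble 91 c)
noncomputable def Ptab_s_88_93 (c : Nat) : Nat := @Bool.rec (fun _ => Nat) (Ptab_s_88_90 c) (Ptab_s_90_93 c) (Nat.ble 90 c)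
noncomputable def Ptab_s_84_93 (c : Nat) : Nat := @Bool.rec (fun _ => Nat) (Ptab_s_84_88 c) (Ptab_s_88_93 c) (Nat.ble 88 c)
noncomputable def Ptab_s_75_93 (c : Nat) : Nat := @Bool.rec (fun _ => Nat) (Ptab_s_75_84 c) (Ptab_s_84_93 c) (Nat.ble 84 c)
noncomputable def Ptab_s_93_95 (c : Nat) : Nat := @Bool.rec (fun _ => Nat) (Ptab_93) (Ptab_94) (Nat.ble 94 c)
noncomputable def Ptab_s_95_97 (c : Nat) : Nat := @Bool.rec (fun _ => Nat) (Ptab_95) (Ptab_96) (Nat.ble 96 c)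
noncomputable def Ptab_s_93_97 (c : Nat) : Nat := @Bool.rec (fun _ => Nat) (Ptab_s_93_95 c) (Ptab_s_95_97 c) (Nat.ble 95 c)
noncomputable def Ptab_s_97_99 (c : Nat) : Nat := @Bool.rec (fun _ => Nat) (Ptab_97) (Ptab_98) (Nat.ble 98 c)
noncomputable def Ptab_s_100_102 (c : Nat) : Nat := @Bool.rec (fun _ => Nat) (Ptab_100) (Ptab_101) (Nat.ble 101 c)
noncomputable def Ptab_s_99_102 (c : Nat) : Nat := @Bool.rec (fun _ => Nat) (Ptab_99) (Ptab_s_100_102 c) (Nat.ble 100 c)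
noncomputable def Ptab_s_97_102 (c : Nat) : Nat := @Bool.rec (fun _ => Nat) (Ptab_s_97_99 c) (Ptab_s_99_102 c) (Nat.ble 99 c)
noncomputable def Ptab_s_93_102 (c : Nat) : Nat := @Bool.rec (fun _ => Nat) (Ptab_s_93_97 c) (Ptab_s_97_102 c) (Nat.ble 97 c)
noncomputable def Ptab_s_102_104 (c : Nat) : Nat := @Bool.rec (fun _ => Nat) (Ptab_102) (Ptab_103) (Nat.ble 103 c)
noncomputable def Ptab_s_105_107 (c : Nat) : Nat := @Bool.rec (fun _ => Nat) (Ptab_105) (Ptab_106) (Nat.ble 106 c)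
noncomputable def Ptab_s_104_107 (c : Nat) : Nat := @Bool.rec (fun _ => Nat) (Ptab_104) (Ptab_s_105_107 c) (Nat.ble 105 c)
noncomputable def Ptab_s_102_107 (c : Nat) : Nat := @Bool.rec (fun _ => Nat) (Ptab_s_102_104 c) (Ptab_s_104_107 c) (Nat.ble 104 c)
noncomputable def Ptab_s_107_109 (c : Nat) : Nat := @Bool.rec (fun _ => Nat) (Ptab_107) (Ptab_108) (Nat.ble 108 c)
noncomputable def Ptab_s_110_112 (c : Nat) : Nat := @Bool.rec (fun _ => Nat) (Ptab_110) (Ptab_111) (Nat.ble 111 c)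
noncomputable def Ptab_s_109_112 (c : Nat) : Nat := @Bool.rec (fun _ => Nat) (Ptab_109) (Ptab_s_110_112 c) (Nat.ble 110 c)
noncomputable def Ptab_s_107_112 (c : Nat) : Nat := @Bool.rec (fun _ => Nat) (Ptab_s_107_109 c) (Ptab_s_109_112 c) (Nat.ble 109 c)
noncomputable def Ptab_s_102_112 (c : Nat) : Nat := @Bool.rec (fun _ => Nat) (Ptab_s_102_107 c) (Ptab_s_107_112 c) (Nat.ble 107 c)
noncomputable def Ptab_s_93_112 (c : Nat) : Nat := @Bool.rec (fun _ => Nat) (Ptab_s_93_102 c) (Ptab_s_102_112 c) (Nat.ble 102 c)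
noncomputable def Ptab_s_75_112 (c : Nat) : Nat := @Bool.rec (fun _ => Nat) (Ptab_s_75_93 c) (Ptab_s_93_112 c) (Nat.ble 93 c)
noncomputable def Ptab_s_112_114 (c : Nat) : Nat := @Bool.rec (fun _ => Nat) (Ptab_112) (Ptab_113) (Nat.ble 113 c)
noncomputable def Ptab_s_114_116 (c : Nat) : Nat := @Bool.rec (fun _ => Nat) (Ptab_114) (Ptab_115) (Nat.ble 115 c)
noncomputable def Ptab_s_112_116 (c : Nat) : Nat := @Bool.rec (fun _ => Nat) (Ptab_s_112_114 c) (Ptab_s_114_116 c) (Nat.ble 114 c)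
noncomputable def Ptab_s_116_118 (c : Nat) : Nat := @Bool.rec (fun _ => Nat) (Ptab_116) (Ptab_117) (Nat.ble 117 c)
noncomputable def Ptab_s_119_121 (c : Nat) : Nat := @Bool.rec (fun _ => Nat) (Ptab_119) (Ptab_120) (Nat.ble 120 c)
noncomputable def Ptab_s_118_121 (c : Nat) : Nat := @Bool.rec (fun _ => Nat) (Ptab_118) (Ptab_s_119_121 c) (Nat.ble 119 c)
noncomputable def Ptab_s_116_121 (c : Nat) : Nat := @Bool.rec (fun _ => Nat) (Ptab_s_116_118 c) (Ptab_s_118_121 c) (Nat.ble 118 c)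
noncomputable def Ptab_s_112_121 (c : Nat) : Nat := @Bool.rec (fun _ => Nat) (Ptab_s_112_116 c) (Ptab_s_116_121 c) (Nat.ble 116 c)
noncomputable def Ptab_s_121_123 (c : Nat) : Nat := @Bool.rec (fun _ => Nat) (Ptab_121) (Ptab_122) (Nat.ble 122 c)
noncomputable def Ptab_s_124_126 (c : Nat) : Nat := @Bool.rec (fun _ => Nat) (Ptab_124) (Ptab_125) (Nat.ble 125 c)
noncomputable def Ptab_s_123_126 (c : Nat) : Nat := @Bool.rec (fun _ => Nat) (Ptab_123) (Ptab_s_124_126 c) (Nat.ble 124 c)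
noncomputable def Ptab_s_121_126 (c : Nat) : Nat := @Bool.rec (fun _ => Nat) (Ptab_s_121_123 c) (Ptab_s_123_126 c) (Nat.ble 123 c)
noncomputable def Ptab_s_126_128 (c : Nat) : Nat := @Bool.rec (fun _ => Nat) (Ptab_126) (Ptab_127) (Nat.ble 127 c)
noncomputable def Ptab_s_129_131 (c : Nat) : Nat := @Bool.rec (fun _ => Nat) (Ptab_129) (Ptab_130) (Nat.ble 130 c)
noncomputable def Ptab_s_128_131 (c : Nat) : Nat := @Bool.rec (fun _ => Nat) (Ptab_128) (Ptab_s_129_131 c) (Nat.ble 129 c)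
noncomputable def Ptab_s_126_131 (c : Nat) : Nat := @Bool.rec (fun _ => Nat) (Ptab_s_126_128 c) (Ptab_s_128_131 c) (Nat.ble 128 c)
noncomputable def Ptab_s_121_131 (c : Nat) : Nat := @Bool.rec (fun _ => Nat) (Ptab_s_121_126 c) (Ptab_s_126_131 c) (Nat.ble 126 c)
noncomputable def Ptab_s_112_131 (c : Nat) : Nat := @Bool.rec (fun _ => Nat) (Ptab_s_112_121 c) (Ptab_s_121_131 c) (Nat.ble 121 c)
noncomputable def Ptab_s_131_133 (c : Nat) : Nat := @Bool.rec (fun _ => Nat) (Ptab_131) (Ptab_132) (Nat.ble 132 c)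
noncomputable def Ptab_s_133_135 (c : Nat) : Nat := @Bool.rec (fun _ => Nat) (Ptab_133) (Ptab_134) (Nat.ble 134 c)
noncomputable def Ptab_s_131_135 (c : Nat) : Nat := @Bool.rec (fun _ => Nat) (Ptab_s_131_133 c) (Ptab_s_133_135 c) (Nat.ble 133 c)
noncomputable def Ptab_s_135_137 (c : Nat) : Nat := @Bool.rec (fun _ => Nat) (Ptab_135) (Ptab_136) (Nat.ble 136 c)
noncomputable def Ptab_s_138_140 (c : Nat) : Nat := @Bool.rec (fun _ => Nat) (Ptab_138) (Ptab_139) (Nat.ble 139 c)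
noncomputable def Ptab_s_137_140 (c : Nat) : Nat := @Bool.rec (fun _ => Nat) (Ptab_137) (Ptab_s_138_140 c) (Nat.ble 138 c)
noncomputable def Ptab_s_135_140 (c : Nat) : Nat := @Bool.rec (fun _ => Nat) (Ptab_s_135_137 c) (Ptab_s_137_140 c) (Nat.ble 137 c)
noncomputable def Ptab_s_131_140 (c : Nat) : Nat := @Bool.rec (fun _ => Nat) (Ptab_s_131_135 c) (Ptab_s_135_140 c) (Nat.ble 135 c)
noncomputable def Ptab_s_140_142 (c : Nat) : Nat := @Bool.rec (fun _ => Nat) (Ptab_140) (Ptab_141) (Nat.ble 141 c)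
noncomputable def Ptab_s_143_145 (c : Nat) : Nat := @Bool.rec (fun _ => Nat) (Ptab_143) (Ptab_144) (Nat.ble 144 c)
noncomputable def Ptab_s_142_145 (c : Nat) : Nat := @Bool.rec (fun _ => Nat) (Ptab_142) (Ptab_s_143_145 c) (Nat.ble 143 c)
noncomputable def Ptab_s_140_145 (c : Nat) : Nat := @Bool.rec (fun _ => Nat) (Ptab_s_140_142 c) (Ptab_s_142_145 c) (Nat.ble 142 c)
noncomputable def Ptab_s_145_147 (c : Nat) : Nat := @Bool.rec (fun _ => Nat) (Ptab_145) (Ptab_146) (Nat.ble 146 c)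
noncomputable def Ptab_s_148_150 (c : Nat) : Nat := @Bool.rec (fun _ => Nat) (Ptab_148) (Ptab_149) (Nat.ble 149 c)
noncomputable def Ptab_s_147_150 (c : Nat) : Nat := @Bool.rec (fun _ => Nat) (Ptab_147) (Ptab_s_148_150 c) (Nat.ble 148 c)
noncomputable def Ptab_s_145_150 (c : Nat) : Nat := @Bool.rec (fun _ => Nat) (Ptab_s_145_147 c) (Ptab_s_147_150 c) (Nat.ble 147 c)
noncomputable def Ptab_s_140_150 (c : Nat) : Nat := @Bool.rec (fun _ => Nat) (Ptab_s_140_145 c) (Ptab_s_145_150 c) (Nat.ble 145 c)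
noncomputable def Ptab_s_131_150 (c : Nat) : Nat := @Bool.rec (fun _ => Nat) (Ptab_s_131_140 c) (Ptab_s_140_150 c) (Nat.ble 140 c)
noncomputable def Ptab_s_112_150 (c : Nat) : Nat := @Bool.rec (fun _ => Nat) (Ptab_s_112_131 c) (Ptab_s_131_150 c) (Nat.ble 131 c)
noncomputable def Ptab_s_75_150 (c : Nat) : Nat := @Bool.rec (fun _ => Nat) (Ptab_s_75_112 c) (Ptab_s_112_150 c) (Nat.ble 112 c)
noncomputable def Ptab_s_0_150 (c : Nat) : Nat := @Bool.rec (fun _ => Nat) (Ptab_s_0_75 c) (Ptab_s_75_150 c) (Nat.ble 75 c)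
noncomputable def Ptab_s_150_152 (c : Nat) : Nat := @Bool.rec (fun _ => Nat) (Ptab_150) (Ptab_151) (Nat.ble 151 c)
noncomputable def Ptab_s_152_154 (c : Nat) : Nat := @Bool.rec (fun _ => Nat) (Ptab_152) (Ptab_153) (Nat.ble 153 c)
noncomputable def Ptab_s_150_154 (c : Nat) : Nat := @Bool.rec (fun _ => Nat) (Ptab_s_150_152 c) (Ptab_s_152_154 c) (Nat.ble 152 c)
noncomputable def Ptab_s_154_156 (c : Nat) : Nat := @Bool.rec (fun _ => Nat) (Ptab_154) (Ptab_155) (Nat.ble 155 c)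
noncomputable def Ptab_s_157_159 (c : Nat) : Nat := @Bool.rec (fun _ => Nat) (Ptab_157) (Ptab_158) (Nat.ble 158 c)
noncomputable def Ptab_s_156_159 (c : Nat) : Nat := @Bool.rec (fun _ => Nat) (Ptab_156) (Ptab_s_157_159 c) (Nat.ble 157 c)
noncomputable def Ptab_s_154_159 (c : Nat) : Nat := @Bool.rec (fun _ => Nat) (Ptab_s_154_156 c) (Ptab_s_156_159 c) (Nat.ble 156 c)
noncomputable def Ptab_s_150_159 (c : Nat) : Nat := @Bool.rec (fun _ => Nat) (Ptab_s_150_154 c) (Ptab_s_154_159 c) (Nat.ble 154 c)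
noncomputable def Ptab_s_159_161 (c : Nat) : Nat := @Bool.rec (fun _ => Nat) (Ptab_159) (Ptab_160) (Nat.ble 160 c)
noncomputable def Ptab_s_161_163 (c : Nat) : Nat := @Bool.rec (fun _ => Nat) (Ptab_161) (Ptab_162) (Nat.ble 162 c)
noncomputable def Ptab_s_159_163 (c : Nat) : Nat := @Bool.rec (fun _ => Nat) (Ptab_s_159_161 c) (Ptab_s_161_163 c) (Nat.ble 161 c)
noncomputable def Ptab_s_163_165 (c : Nat) : Nat := @Bool.rec (fun _ => Nat) (Ptab_163) (Ptab_164) (Nat.ble 164 c)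
noncomputable def Ptab_s_166_168 (c : Nat) : Nat := @Bool.rec (fun _ => Nat) (Ptab_166) (Ptab_167) (Nat.ble 167 c)
noncomputable def Ptab_s_165_168 (c : Nat) : Nat := @Bool.rec (fun _ => Nat) (Ptab_165) (Ptab_s_166_168 c) (Nat.ble 166 c)
noncomputable def Ptab_s_163_168 (c : Nat) : Nat := @Bool.rec (fun _ => Nat) (Ptab_s_163_165 c) (Ptab_s_165_168 c) (Nat.ble 165 c)
noncomputable def Ptab_s_159_168 (c : Nat) : Nat := @Bool.rec (fun _ => Nat) (Ptab_s_159_163 c) (Ptab_s_163_168 c) (Nat.ble 163 c)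
noncomputable def Ptab_s_150_168 (c : Nat) : Nat := @Bool.rec (fun _ => Nat) (Ptab_s_150_159 c) (Ptab_s_159_168 c) (Nat.ble 159 c)
noncomputable def Ptab_s_168_170 (c : Nat) : Nat := @Bool.rec (fun _ => Nat) (Ptab_168) (Ptab_169) (Nat.ble 169 c)
noncomputable def Ptab_s_170_172 (c : Nat) : Nat := @Bool.rec (fun _ => Nat) (Ptab_170) (Ptab_171) (Nat.ble 171 c)
noncomputable def Ptab_s_168_172 (c : Nat) : Nat := @Bool.rec (fun _ => Nat) (Ptab_s_168_170 c) (Ptab_s_170_172 c) (Nat.ble 170 c)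
noncomputable def Ptab_s_172_174 (c : Nat) : Nat := @Bool.rec (fun _ => Nat) (Ptab_172) (Ptab_173) (Nat.ble 173 c)
noncomputable def Ptab_s_175_177 (c : Nat) : Nat := @Bool.rec (fun _ => Nat) (Ptab_175) (Ptab_176) (Nat.ble 176 c)
noncomputable def Ptab_s_174_177 (c : Nat) : Nat := @Bool.rec (fun _ => Nat) (Ptab_174) (Ptab_s_175_177 c) (Nat.ble 175 c)
noncomputable def Ptab_s_172_177 (c : Nat) : Nat := @Bool.rec (fun _ => Nat) (Ptab_s_172_174 c) (Ptab_s_174_177 c) (Nat.ble 174 c)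
noncomputable def Ptab_s_168_177 (c : Nat) : Nat := @Bool.rec (fun _ => Nat) (Ptab_s_168_172 c) (Ptab_s_172_177 c) (Nat.ble 172 c)
noncomputable def Ptab_s_177_179 (c : Nat) : Nat := @Bool.rec (fun _ => Nat) (Ptab_177) (Ptab_178) (Nat.ble 178 c)
noncomputable def Ptab_s_180_182 (c : Nat) : Nat := @Bool.rec (fun _ => Nat) (Ptab_180) (Ptab_181) (Nat.ble 181 c)
noncomputable def Ptab_s_179_182 (c : Nat) : Nat := @Bool.rec (fun _ => Nat) (Ptab_179) (Ptab_s_180_182 c) (Nat.ble 180 c)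
noncomputable def Ptab_s_177_182 (c : Nat) : Nat := @Bool.rec (fun _ => Nat) (Ptab_s_177_179 c) (Ptab_s_179_182 c) (Nat.ble 179 c)
noncomputable def Ptab_s_182_184 (c : Nat) : Nat := @Bool.rec (fun _ => Nat) (Ptab_182) (Ptab_183) (Nat.ble 183 c)
noncomputable def Ptab_s_185_187 (c : Nat) : Nat := @Bool.rec (fun _ => Nat) (Ptab_185) (Ptab_186) (Nat.ble 186 c)
noncomputable def Ptab_s_184_187 (c : Nat) : Nat := @Bool.rec (fun _ => Nat) (Ptab_184) (Ptab_s_185_187 c) (Nat.ble 185 c)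
noncomputable def Ptab_s_182_187 (c : Nat) : Nat := @Bool.rec (fun _ => Nat) (Ptab_s_182_184 c) (Ptab_s_184_187 c) (Nat.ble 184 c)
noncomputable def Ptab_s_177_187 (c : Nat) : Nat := @Bool.rec (fun _ => Nat) (Ptab_s_177_182 c) (Ptab_s_182_187 c) (Nat.ble 182 c)
noncomputable def Ptab_s_168_187 (c : Nat) : Nat := @Bool.rec (fun _ => Nat) (Ptab_s_168_177 c) (Ptab_s_177_187 c) (Nat.ble 177 c)
noncomputable def Ptab_s_150_187 (c : Nat) : Nat := @Bool.rec (fun _ => Nat) (Ptab_s_150_168 c) (Ptab_s_168_187 c) (Nat.ble 168 c)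
noncomputable def Ptab_s_187_189 (c : Nat) : Nat := @Bool.rec (fun _ => Nat) (Ptab_187) (Ptab_188) (Nat.ble 188 c)
noncomputable def Ptab_s_189_191 (c : Nat) : Nat := @Bool.rec (fun _ => Nat) (Ptab_189) (Ptab_190) (Nat.ble 190 c)
noncomputable def Ptab_s_187_191 (c : Nat) : Nat := @Bool.rec (fun _ => Nat) (Ptab_s_187_189 c) (Ptab_s_189_191 c) (Nat.ble 189 c)
noncomputable def Ptab_s_191_193 (c : Nat) : Nat := @Bool.rec (fun _ => Nat) (Ptab_191) (Ptab_192) (Nat.ble 192 c)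
noncomputable def Ptab_s_194_196 (c : Nat) : Nat := @Bool.rec (fun _ => Nat) (Ptab_194) (Ptab_195) (Nat.ble 195 c)
noncomputable def Ptab_s_193_196 (c : Nat) : Nat := @Bool.rec (fun _ => Nat) (Ptab_193) (Ptab_s_194_196 c) (Nat.ble 194 c)
noncomputable def Ptab_s_191_196 (c : Nat) : Nat := @Bool.rec (fun _ => Nat) (Ptab_s_191_193 c) (Ptab_s_193_196 c) (Nat.ble 193 c)
noncomputable def Ptab_s_187_196 (c : Nat) : Nat := @Bool.rec (fun _ => Nat) (Ptab_s_187_191 c) (Ptab_s_191_196 c) (Nat.ble 191 c)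
noncomputable def Ptab_s_196_198 (c : Nat) : Nat := @Bool.rec (fun _ => Nat) (Ptab_196) (Ptab_197) (Nat.ble 197 c)
noncomputable def Ptab_s_199_201 (c : Nat) : Nat := @Bool.rec (fun _ => Nat) (Ptab_199) (Ptab_200) (Nat.ble 200 c)
noncomputable def Ptab_s_198_201 (c : Nat) : Nat := @Bool.rec (fun _ => Nat) (Ptab_198) (Ptab_s_199_201 c) (Nat.ble 199 c)
noncomputable def Ptab_s_196_201 (c : Nat) : Nat := @Bool.rec (fun _ => Nat) (Ptab_s_196_198 c) (Ptab_s_198_201 c) (Nat.ble 198 c)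
noncomputable def Ptab_s_201_203 (c : Nat) : Nat := @Bool.rec (fun _ => Nat) (Ptab_201) (Ptab_202) (Nat.ble 202 c)
noncomputable def Ptab_s_204_206 (c : Nat) : Nat := @Bool.rec (fun _ => Nat) (Ptab_204) (Ptab_205) (Nat.ble 205 c)
noncomputable def Ptab_s_203_206 (c : Nat) : Nat := @Bool.rec (fun _ => Nat) (Ptab_203) (Ptab_s_204_206 c) (Nat.ble 204 c)
noncomputable def Ptab_s_201_206 (c : Nat) : Nat := @Bool.rec (fun _ => Nat) (Ptab_s_201_203 c) (Ptab_s_203_206 c) (Nat.ble 203 c)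
noncomputable def Ptab_s_196_206 (c : Nat) : Nat := @Bool.rec (fun _ => Nat) (Ptab_s_196_201 c) (Ptab_s_201_206 c) (Nat.ble 201 c)
noncomputable def Ptab_s_187_206 (c : Nat) : Nat := @Bool.rec (fun _ => Nat) (Ptab_s_187_196 c) (Ptab_s_196_206 c) (Nat.ble 196 c)
noncomputable def Ptab_s_206_208 (c : Nat) : Nat := @Bool.rec (fun _ => Nat) (Ptab_206) (Ptab_207) (Nat.ble 207 c)
noncomputable def Ptab_s_208_210 (c : Nat) : Nat := @Bool.rec (fun _ => Nat) (Ptab_208) (Ptab_209) (Nat.ble 209 c)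
noncomputable def Ptab_s_206_210 (c : Nat) : Nat := @Bool.rec (fun _ => Nat) (Ptab_s_206_208 c) (Ptab_s_208_210 c) (Nat.ble 208 c)
noncomputable def Ptab_s_210_212 (c : Nat) : Nat := @Bool.rec (fun _ => Nat) (Ptab_210) (Ptab_211) (Nat.ble 211 c)
noncomputable def Ptab_s_213_215 (c : Nat) : Nat := @Bool.rec (fun _ => Nat) (Ptab_213) (Ptab_214) (Nat.ble 214 c)
noncomputable def Ptab_s_212_215 (c : Nat) : Nat := @Bool.rec (fun _ => Nat) (Ptab_212) (Ptab_s_213_215 c) (Nat.ble 213 c)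
noncomputable def Ptab_s_210_215 (c : Nat) : Nat := @Bool.rec (fun _ => Nat) (Ptab_s_210_212 c) (Ptab_s_212_215 c) (Nat.ble 212 c)
noncomputable def Ptab_s_206_215 (c : Nat) : Nat := @Bool.rec (fun _ => Nat) (Ptab_s_206_210 c) (Ptab_s_210_215 c) (Nat.ble 210 c)
noncomputable def Ptab_s_215_217 (c : Nat) : Nat := @Bool.rec (fun _ => Nat) (Ptab_215) (Ptab_216) (Nat.ble 216 c)
noncomputable def Ptab_s_218_220 (c : Nat) : Nat := @Bool.rec (fun _ => Nat) (Ptab_218) (Ptab_219) (Nat.ble 219 c)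
noncomputable def Ptab_s_217_220 (c : Nat) : Nat := @Bool.rec (fun _ => Nat) (Ptab_217) (Ptab_s_218_220 c) (Nat.ble 218 c)
noncomputable def Ptab_s_215_220 (c : Nat) : Nat := @Bool.rec (fun _ => Nat) (Ptab_s_215_217 c) (Ptab_s_217_220 c) (Nat.ble 217 c)
noncomputable def Ptab_s_220_222 (c : Nat) : Nat := @Bool.rec (fun _ => Nat) (Ptab_220) (Ptab_221) (Nat.ble 221 c)
noncomputable def Ptab_s_223_225 (c : Nat) : Nat := @Bool.rec (fun _ => Nat) (Ptab_223) (Ptab_224) (Nat.ble 224 c)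
noncomputable def Ptab_s_222_225 (c : Nat) : Nat := @Bool.rec (fun _ => Nat) (Ptab_222) (Ptab_s_223_225 c) (Nat.ble 223 c)
noncomputable def Ptab_s_220_225 (c : Nat) : Nat := @Bool.rec (fun _ => Nat) (Ptab_s_220_222 c) (Ptab_s_222_225 c) (Nat.ble 222 c)
noncomputable def Ptab_s_215_225 (c : Nat) : Nat := @Bool.rec (fun _ => Nat) (Ptab_s_215_220 c) (Ptab_s_220_225 c) (Nat.ble 220 c)
noncomputable def Ptab_s_206_225 (c : Nat) : Nat := @Bool.rec (fun _ => Nat) (Ptab_s_206_215 c) (Ptab_s_215_225 c) (Nat.ble 215 c)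
noncomputable def Ptab_s_187_225 (c : Nat) : Nat := @Bool.rec (fun _ => Nat) (Ptab_s_187_206 c) (Ptab_s_206_225 c) (Nat.ble 206 c)
noncomputable def Ptab_s_150_225 (c : Nat) : Nat := @Bool.rec (fun _ => Nat) (Ptab_s_150_187 c) (Ptab_s_187_225 c) (Nat.ble 187 c)
noncomputable def Ptab_s_225_227 (c : Nat) : Nat := @Bool.rec (fun _ => Nat) (Ptab_225) (Ptab_226) (Nat.ble 226 c)
noncomputable def Ptab_s_227_229 (c : Nat) : Nat := @Bool.rec (fun _ => Nat) (Ptab_227) (Ptab_228) (Nat.ble 228 c)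
noncomputable def Ptab_s_225_229 (c : Nat) : Nat := @Bool.rec (fun _ => Nat) (Ptab_s_225_227 c) (Ptab_s_227_229 c) (Nat.ble 227 c)
noncomputable def Ptab_s_229_231 (c : Nat) : Nat := @Bool.rec (fun _ => Nat) (Ptab_229) (Ptab_230) (Nat.ble 230 c)
noncomputable def Ptab_s_232_234 (c : Nat) : Nat := @Bool.rec (fun _ => Nat) (Ptab_232) (Ptab_233) (Nat.ble 233 c)
noncomputable def Ptab_s_231_234 (c : Nat) : Nat := @Bool.rec (fun _ => Nat) (Ptab_231) (Ptab_s_232_234 c) (Nat.ble 232 c)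
noncomputable def Ptab_s_229_234 (c : Nat) : Nat := @Bool.rec (fun _ => Nat) (Ptab_s_229_231 c) (Ptab_s_231_234 c) (Nat.ble 231 c)
noncomputable def Ptab_s_225_234 (c : Nat) : Nat := @Bool.rec (fun _ => Nat) (Ptab_s_225_229 c) (Ptab_s_229_234 c) (Nat.ble 229 c)
noncomputable def Ptab_s_234_236 (c : Nat) : Nat := @Bool.rec (fun _ => Nat) (Ptab_234) (Ptab_235) (Nat.ble 235 c)
noncomputable def Ptab_s_236_238 (c : Nat) : Nat := @Bool.rec (fun _ => Nat) (Ptab_236) (Ptab_237) (Nat.ble 237 c)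
noncomputable def Ptab_s_234_238 (c : Nat) : Nat := @Bool.rec (fun _ => Nat) (Ptab_s_234_236 c) (Ptab_s_236_238 c) (Nat.ble 236 c)
noncomputable def Ptab_s_238_240 (c : Nat) : Nat := @Bool.rec (fun _ => Nat) (Ptab_238) (Ptab_239) (Nat.ble 239 c)
noncomputable def Ptab_s_241_243 (c : Nat) : Nat := @Bool.rec (fun _ => Nat) (Ptab_241) (Ptab_242) (Nat.ble 242 c)
noncomputable def Ptab_s_240_243 (c : Nat) : Nat := @Bool.rec (fun _ => Nat) (Ptab_240) (Ptab_s_241_243 c) (Nat.ble 241 c)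
noncomputable def Ptab_s_238_243 (c : Nat) : Nat := @Bool.rec (fun _ => Nat) (Ptab_s_238_240 c) (Ptab_s_240_243 c) (Nat.ble 240 c)
noncomputable def Ptab_s_234_243 (c : Nat) : Nat := @Bool.rec (fun _ => Nat) (Ptab_s_234_238 c) (Ptab_s_238_243 c) (Nat.ble 238 c)
noncomputable def Ptab_s_225_243 (c : Nat) : Nat := @Bool.rec (fun _ => Nat) (Ptab_s_225_234 c) (Ptab_s_234_243 c) (Nat.ble 234 c)
noncomputable def Ptab_s_243_245 (c : Nat) : Nat := @Bool.rec (fun _ => Nat) (Ptab_243) (Ptab_244) (Nat.ble 244 c)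
noncomputable def Ptab_s_245_247 (c : Nat) : Nat := @Bool.rec (fun _ => Nat) (Ptab_245) (Ptab_246) (Nat.ble 246 c)
noncomputable def Ptab_s_243_247 (c : Nat) : Nat := @Bool.rec (fun _ => Nat) (Ptab_s_243_245 c) (Ptab_s_245_247 c) (Nat.ble 245 c)
noncomputable def Ptab_s_247_249 (c : Nat) : Nat := @Bool.rec (fun _ => Nat) (Ptab_247) (Ptab_248) (Nat.ble 248 c)
noncomputable def Ptab_s_250_252 (c : Nat) : Nat := @Bool.rec (fun _ => Nat) (Ptab_250) (Ptab_251) (Nat.ble 251 c)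
noncomputable def Ptab_s_249_252 (c : Nat) : Nat := @Bool.rec (fun _ => Nat) (Ptab_249) (Ptab_s_250_252 c) (Nat.ble 250 c)
noncomputable def Ptab_s_247_252 (c : Nat) : Nat := @Bool.rec (fun _ => Nat) (Ptab_s_247_249 c) (Ptab_s_249_252 c) (Nat.ble 249 c)
noncomputable def Ptab_s_243_252 (c : Nat) : Nat := @Bool.rec (fun _ => Nat) (Ptab_s_243_247 c) (Ptab_s_247_252 c) (Nat.ble 247 c)
noncomputable def Ptab_s_252_254 (c : Nat) : Nat := @Bool.rec (fun _ => Nat) (Ptab_252) (Ptab_253) (Nat.ble 253 c)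
noncomputable def Ptab_s_255_257 (c : Nat) : Nat := @Bool.rec (fun _ => Nat) (Ptab_255) (Ptab_256) (Nat.ble 256 c)
noncomputable def Ptab_s_254_257 (c : Nat) : Nat := @Bool.rec (fun _ => Nat) (Ptab_254) (Ptab_s_255_257 c) (Nat.ble 255 c)
noncomputable def Ptab_s_252_257 (c : Nat) : Nat := @Bool.rec (fun _ => Nat) (Ptab_s_252_254 c) (Ptab_s_254_257 c) (Nat.ble 254 c)
noncomputable def Ptab_s_257_259 (c : Nat) : Nat := @Bool.rec (fun _ => Nat) (Ptab_257) (Ptab_258) (Nat.ble 258 c)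
noncomputable def Ptab_s_260_262 (c : Nat) : Nat := @Bool.rec (fun _ => Nat) (Ptab_260) (Ptab_261) (Nat.ble 261 c)
noncomputable def Ptab_s_259_262 (c : Nat) : Nat := @Bool.rec (fun _ => Nat) (Ptab_259) (Ptab_s_260_262 c) (Nat.ble 260 c)
noncomputable def Ptab_s_257_262 (c : Nat) : Nat := @Bool.rec (fun _ => Nat) (Ptab_s_257_259 c) (Ptab_s_259_262 c) (Nat.ble 259 c)
noncomputable def Ptab_s_252_262 (c : Nat) : Nat := @Bool.rec (fun _ => Nat) (Ptab_s_252_257 c) (Ptab_s_257_262 c) (Nat.ble 257 c)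
noncomputable def Ptab_s_243_262 (c : Nat) : Nat := @Bool.rec (fun _ => Nat) (Ptab_s_243_252 c) (Ptab_s_252_262 c) (Nat.ble 252 c)
noncomputable def Ptab_s_225_262 (c : Nat) : Nat := @Bool.rec (fun _ => Nat) (Ptab_s_225_243 c) (Ptab_s_243_262 c) (Nat.ble 243 c)
noncomputable def Ptab_s_262_264 (c : Nat) : Nat := @Bool.rec (fun _ => Nat) (Ptab_262) (Ptab_263) (Nat.ble 263 c)
noncomputable def Ptab_s_264_266 (c : Nat) : Nat := @Bool.rec (fun _ => Nat) (Ptab_264) (Ptab_265) (Nat.ble 265 c)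
noncomputable def Ptab_s_262_266 (c : Nat) : Nat := @Bool.rec (fun _ => Nat) (Ptab_s_262_264 c) (Ptab_s_264_266 c) (Nat.ble 264 c)
noncomputable def Ptab_s_266_268 (c : Nat) : Nat := @Bool.rec (fun _ => Nat) (Ptab_266) (Ptab_267) (Nat.ble 267 c)
noncomputable def Ptab_s_269_271 (c : Nat) : Nat := @Bool.rec (fun _ => Nat) (Ptab_269) (Ptab_270) (Nat.ble 270 c)
noncomputable def Ptab_s_268_271 (c : Nat) : Nat := @Bool.rec (fun _ => Nat) (Ptab_268) (Ptab_s_269_271 c) (Nat.ble 269 c)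
noncomputable def Ptab_s_266_271 (c : Nat) : Nat := @Bool.rec (fun _ => Nat) (Ptab_s_266_268 c) (Ptab_s_268_271 c) (Nat.ble 268 c)
noncomputable def Ptab_s_262_271 (c : Nat) : Nat := @Bool.rec (fun _ => Nat) (Ptab_s_262_266 c) (Ptab_s_266_271 c) (Nat.ble 266 c)
noncomputable def Ptab_s_271_273 (c : Nat) : Nat := @Bool.rec (fun _ => Nat) (Ptab_271) (Ptab_272) (Nat.ble 272 c)
noncomputable def Ptab_s_274_276 (c : Nat) : Nat := @Bool.rec (fun _ => Nat) (Ptab_274) (Ptab_275) (Nat.ble 275 c)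
noncomputable def Ptab_s_273_276 (c : Nat) : Nat := @Bool.rec (fun _ => Nat) (Ptab_273) (Ptab_s_274_276 c) (Nat.ble 274 c)
noncomputable def Ptab_s_271_276 (c : Nat) : Nat := @Bool.rec (fun _ => Nat) (Ptab_s_271_273 c) (Ptab_s_273_276 c) (Nat.ble 273 c)
noncomputable def Ptab_s_276_278 (c : Nat) : Nat := @Bool.rec (fun _ => Nat) (Ptab_276) (Ptab_277) (Nat.ble 277 c)
noncomputable def Ptab_s_279_281 (c : Nat) : Nat := @Bool.rec (fun _ => Nat) (Ptab_279) (Ptab_280) (Nat.ble 280 c)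
noncomputable def Ptab_s_278_281 (c : Nat) : Nat := @Bool.rec (fun _ => Nat) (Ptab_278) (Ptab_s_279_281 c) (Nat.ble 279 c)
noncomputable def Ptab_s_276_281 (c : Nat) : Nat := @Bool.rec (fun _ => Nat) (Ptab_s_276_278 c) (Ptab_s_278_281 c) (Nat.ble 278 c)
noncomputable def Ptab_s_271_281 (c : Nat) : Nat := @Bool.rec (fun _ => Nat) (Ptab_s_271_276 c) (Ptab_s_276_281 c) (Nat.ble 276 c)
noncomputable def Ptab_s_262_281 (c : Nat) : Nat := @Bool.rec (fun _ => Nat) (Ptab_s_262_271 c) (Ptab_s_271_281 c) (Nat.ble 271 c)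
noncomputable def Ptab_s_281_283 (c : Nat) : Nat := @Bool.rec (fun _ => Nat) (Ptab_281) (Ptab_282) (Nat.ble 282 c)
noncomputable def Ptab_s_283_285 (c : Nat) : Nat := @Bool.rec (fun _ => Nat) (Ptab_283) (Ptab_284) (Nat.ble 284 c)
noncomputable def Ptab_s_281_285 (c : Nat) : Nat := @Bool.rec (fun _ => Nat) (Ptab_s_281_283 c) (Ptab_s_283_285 c) (Nat.ble 283 c)
noncomputable def Ptab_s_285_287 (c : Nat) : Nat := @Bool.rec (fun _ => Nat) (Ptab_285) (Ptab_286) (Nat.ble 286 c)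
noncomputable def Ptab_s_288_290 (c : Nat) : Nat := @Bool.rec (fun _ => Nat) (Ptab_288) (Ptab_289) (Nat.ble 289 c)
noncomputable def Ptab_s_287_290 (c : Nat) : Nat := @Bool.rec (fun _ => Nat) (Ptab_287) (Ptab_s_288_290 c) (Nat.ble 288 c)
noncomputable def Ptab_s_285_290 (c : Nat) : Nat := @Bool.rec (fun _ => Nat) (Ptab_s_285_287 c) (Ptab_s_287_290 c) (Nat.ble 287 c)
noncomputable def Ptab_s_281_290 (c : Nat) : Nat := @Bool.rec (fun _ => Nat) (Ptab_s_281_285 c) (Ptab_s_285_290 c) (Nat.ble 285 c)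
noncomputable def Ptab_s_290_292 (c : Nat) : Nat := @Bool.rec (fun _ => Nat) (Ptab_290) (Ptab_291) (Nat.ble 291 c)
noncomputable def Ptab_s_293_295 (c : Nat) : Nat := @Bool.rec (fun _ => Nat) (Ptab_293) (Ptab_294) (Nat.ble 294 c)
noncomputable def Ptab_s_292_295 (c : Nat) : Nat := @Bool.rec (fun _ => Nat) (Ptab_292) (Ptab_s_293_295 c) (Nat.ble 293 c)
noncomputable def Ptab_s_290_295 (c : Nat) : Nat := @Bool.rec (fun _ => Nat) (Ptab_s_290_292 c) (Ptab_s_292_295 c) (Nat.ble 292 c)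
noncomputable def Ptab_s_295_297 (c : Nat) : Nat := @Bool.rec (fun _ => Nat) (Ptab_295) (Ptab_296) (Nat.ble 296 c)
noncomputable def Ptab_s_298_300 (c : Nat) : Nat := @Bool.rec (fun _ => Nat) (Ptab_298) (Ptab_299) (Nat.ble 299 c)
noncomputable def Ptab_s_297_300 (c : Nat) : Nat := @Bool.rec (fun _ => Nat) (Ptab_297) (Ptab_s_298_300 c) (Nat.ble 298 c)
noncomputable def Ptab_s_295_300 (c : Nat) : Nat := @Bool.rec (fun _ => Nat) (Ptab_s_295_297 c) (Ptab_s_297_300 c) (Nat.ble 297 c)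
noncomputable def Ptab_s_290_300 (c : Nat) : Nat := @Bool.rec (fun _ => Nat) (Ptab_s_290_295 c) (Ptab_s_295_300 c) (Nat.ble 295 c)
noncomputable def Ptab_s_281_300 (c : Nat) : Nat := @Bool.rec (fun _ => Nat) (Ptab_s_281_290 c) (Ptab_s_290_300 c) (Nat.ble 290 c)
noncomputable def Ptab_s_262_300 (c : Nat) : Nat := @Bool.rec (fun _ => Nat) (Ptab_s_262_281 c) (Ptab_s_281_300 c) (Nat.ble 281 c)
noncomputable def Ptab_s_225_300 (c : Nat) : Nat := @Bool.rec (fun _ => Nat) (Ptab_s_225_262 c) (Ptab_s_262_300 c) (Nat.ble 262 c)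
noncomputable def Ptab_s_150_300 (c : Nat) : Nat := @Bool.rec (fun _ => Nat) (Ptab_s_150_225 c) (Ptab_s_225_300 c) (Nat.ble 225 c)
noncomputable def Ptab_s_0_300 (c : Nat) : Nat := @Bool.rec (fun _ => Nat) (Ptab_s_0_150 c) (Ptab_s_150_300 c) (Nat.ble 150 c)
noncomputable def Ptab_s_300_302 (c : Nat) : Nat := @Bool.rec (fun _ => Nat) (Ptab_300) (Ptab_301) (Nat.ble 301 c)
noncomputable def Ptab_s_302_304 (c : Nat) : Nat := @Bool.rec (fun _ => Nat) (Ptab_302) (Ptab_303) (Nat.ble 303 c)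
noncomputable def Ptab_s_300_304 (c : Nat) : Nat := @Bool.rec (fun _ => Nat) (Ptab_s_300_302 c) (Ptab_s_302_304 c) (Nat.ble 302 c)
noncomputable def Ptab_s_304_306 (c : Nat) : Nat := @Bool.rec (fun _ => Nat) (Ptab_304) (Ptab_305) (Nat.ble 305 c)
noncomputable def Ptab_s_307_309 (c : Nat) : Nat := @Bool.rec (fun _ => Nat) (Ptab_307) (Ptab_308) (Nat.ble 308 c)
noncomputable def Ptab_s_306_309 (c : Nat) : Nat := @Bool.rec (fun _ => Nat) (Ptab_306) (Ptab_s_307_309 c) (Nat.ble 307 c)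
noncomputable def Ptab_s_304_309 (c : Nat) : Nat := @Bool.rec (fun _ => Nat) (Ptab_s_304_306 c) (Ptab_s_306_309 c) (Nat.ble 306 c)
noncomputable def Ptab_s_300_309 (c : Nat) : Nat := @Bool.rec (fun _ => Nat) (Ptab_s_300_304 c) (Ptab_s_304_309 c) (Nat.ble 304 c)
noncomputable def Ptab_s_309_311 (c : Nat) : Nat := @Bool.rec (fun _ => Nat) (Ptab_309) (Ptab_310) (Nat.ble 310 c)
noncomputable def Ptab_s_311_313 (c : Nat) : Nat := @Bool.rec (fun _ => Nat) (Ptab_311) (Ptab_312) (Nat.ble 312 c)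
noncomputable def Ptab_s_309_313 (c : Nat) : Nat := @Bool.rec (fun _ => Nat) (Ptab_s_309_311 c) (Ptab_s_311_313 c) (Nat.ble 311 c)
noncomputable def Ptab_s_313_315 (c : Nat) : Nat := @Bool.rec (fun _ => Nat) (Ptab_313) (Ptab_314) (Nat.ble 314 c)
noncomputable def Ptab_s_316_318 (c : Nat) : Nat := @Bool.rec (fun _ => Nat) (Ptab_316) (Ptab_317) (Nat.ble 317 c)
noncomputable def Ptab_s_315_318 (c : Nat) : Nat := @Bool.rec (fun _ => Nat) (Ptab_315) (Ptab_s_316_318 c) (Nat.ble 316 c)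
noncomputable def Ptab_s_313_318 (c : Nat) : Nat := @Bool.rec (fun _ => Nat) (Ptab_s_313_315 c) (Ptab_s_315_318 c) (Nat.ble 315 c)
noncomputable def Ptab_s_309_318 (c : Nat) : Nat := @Bool.rec (fun _ => Nat) (Ptab_s_309_313 c) (Ptab_s_313_318 c) (Nat.ble 313 c)
noncomputable def Ptab_s_300_318 (c : Nat) : Nat := @Bool.rec (fun _ => Nat) (Ptab_s_300_309 c) (Ptab_s_309_318 c) (Nat.ble 309 c)
noncomputable def Ptab_s_318_320 (c : Nat) : Nat := @Bool.rec (fun _ => Nat) (Ptab_318) (Ptab_319) (Nat.ble 319 c)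
noncomputable def Ptab_s_320_322 (c : Nat) : Nat := @Bool.rec (fun _ => Nat) (Ptab_320) (Ptab_321) (Nat.ble 321 c)
noncomputable def Ptab_s_318_322 (c : Nat) : Nat := @Bool.rec (fun _ => Nat) (Ptab_s_318_320 c) (Ptab_s_320_322 c) (Nat.ble 320 c)
noncomputable def Ptab_s_322_324 (c : Nat) : Nat := @Bool.rec (fun _ => Nat) (Ptab_322) (Ptab_323) (Nat.ble 323 c)
noncomputable def Ptab_s_325_327 (c : Nat) : Nat := @Bool.rec (fun _ => Nat) (Ptab_325) (Ptab_326) (Nat.ble 326 c)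
noncomputable def Ptab_s_324_327 (c : Nat) : Nat := @Bool.rec (fun _ => Nat) (Ptab_324) (Ptab_s_325_327 c) (Nat.ble 325 c)
noncomputable def Ptab_s_322_327 (c : Nat) : Nat := @Bool.rec (fun _ => Nat) (Ptab_s_322_324 c) (Ptab_s_324_327 c) (Nat.ble 324 c)
noncomputable def Ptab_s_318_327 (c : Nat) : Nat := @Bool.rec (fun _ => Nat) (Ptab_s_318_322 c) (Ptab_s_322_327 c) (Nat.ble 322 c)
noncomputable def Ptab_s_327_329 (c : Nat) : Nat := @Bool.rec (fun _ => Nat) (Ptab_327) (Ptab_328) (Nat.ble 328 c)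
noncomputable def Ptab_s_330_332 (c : Nat) : Nat := @Bool.rec (fun _ => Nat) (Ptab_330) (Ptab_331) (Nat.ble 331 c)
noncomputable def Ptab_s_329_332 (c : Nat) : Nat := @Bool.rec (fun _ => Nat) (Ptab_329) (Ptab_s_330_332 c) (Nat.ble 330 c)
noncomputable def Ptab_s_327_332 (c : Nat) : Nat := @Bool.rec (fun _ => Nat) (Ptab_s_327_329 c) (Ptab_s_329_332 c) (Nat.ble 329 c)
noncomputable def Ptab_s_332_334 (c : Nat) : Nat := @Bool.rec (fun _ => Nat) (Ptab_332) (Ptab_333) (Nat.ble 333 c)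
noncomputable def Ptab_s_335_337 (c : Nat) : Nat := @Bool.rec (fun _ => Nat) (Ptab_335) (Ptab_336) (Nat.ble 336 c)
noncomputable def Ptab_s_334_337 (c : Nat) : Nat := @Bool.rec (fun _ => Nat) (Ptab_334) (Ptab_s_335_337 c) (Nat.ble 335 c)
noncomputable def Ptab_s_332_337 (c : Nat) : Nat := @Bool.rec (fun _ => Nat) (Ptab_s_332_334 c) (Ptab_s_334_337 c) (Nat.ble 334 c)
noncomputable def Ptab_s_327_337 (c : Nat) : Nat := @Bool.rec (fun _ => Nat) (Ptab_s_327_332 c) (Ptab_s_332_337 c) (Nat.ble 332 c)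
noncomputable def Ptab_s_318_337 (c : Nat) : Nat := @Bool.rec (fun _ => Nat) (Ptab_s_318_327 c) (Ptab_s_327_337 c) (Nat.ble 327 c)
noncomputable def Ptab_s_300_337 (c : Nat) : Nat := @Bool.rec (fun _ => Nat) (Ptab_s_300_318 c) (Ptab_s_318_337 c) (Nat.ble 318 c)
noncomputable def Ptab_s_337_339 (c : Nat) : Nat := @Bool.rec (fun _ => Nat) (Ptab_337) (Ptab_338) (Nat.ble 338 c)
noncomputable def Ptab_s_339_341 (c : Nat) : Nat := @Bool.rec (fun _ => Nat) (Ptab_339) (Ptab_340) (Nat.ble 340 c)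
noncomputable def Ptab_s_337_341 (c : Nat) : Nat := @Bool.rec (fun _ => Nat) (Ptab_s_337_339 c) (Ptab_s_339_341 c) (Nat.ble 339 c)
noncomputable def Ptab_s_341_343 (c : Nat) : Nat := @Bool.rec (fun _ => Nat) (Ptab_341) (Ptab_342) (Nat.ble 342 c)
noncomputable def Ptab_s_344_346 (c : Nat) : Nat := @Bool.rec (fun _ => Nat) (Ptab_344) (Ptab_345) (Nat.ble 345 c)
noncomputable def Ptab_s_343_346 (c : Nat) : Nat := @Bool.rec (fun _ => Nat) (Ptab_343) (Ptab_s_344_346 c) (Nat.ble 344 c)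
noncomputable def Ptab_s_341_346 (c : Nat) : Nat := @Bool.rec (fun _ => Nat) (Ptab_s_341_343 c) (Ptab_s_343_346 c) (Nat.ble 343 c)
noncomputable def Ptab_s_337_346 (c : Nat) : Nat := @Bool.rec (fun _ => Nat) (Ptab_s_337_341 c) (Ptab_s_341_346 c) (Nat.ble 341 c)
noncomputable def Ptab_s_346_348 (c : Nat) : Nat := @Bool.rec (fun _ => Nat) (Ptab_346) (Ptab_347) (Nat.ble 347 c)
noncomputable def Ptab_s_349_351 (c : Nat) : Nat := @Bool.rec (fun _ => Nat) (Ptab_349) (Ptab_350) (Nat.ble 350 c)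
noncomputable def Ptab_s_348_351 (c : Nat) : Nat := @Bool.rec (fun _ => Nat) (Ptab_348) (Ptab_s_349_351 c) (Nat.ble 349 c)
noncomputable def Ptab_s_346_351 (c : Nat) : Nat := @Bool.rec (fun _ => Nat) (Ptab_s_346_348 c) (Ptab_s_348_351 c) (Nat.ble 348 c)
noncomputable def Ptab_s_351_353 (c : Nat) : Nat := @Bool.rec (fun _ => Nat) (Ptab_351) (Ptab_352) (Nat.ble 352 c)
noncomputable def Ptab_s_354_356 (c : Nat) : Nat := @Bool.rec (fun _ => Nat) (Ptab_354) (Ptab_355) (Nat.ble 355 c)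
noncomputable def Ptab_s_353_356 (c : Nat) : Nat := @Bool.rec (fun _ => Nat) (Ptab_353) (Ptab_s_354_356 c) (Nat.ble 354 c)
noncomputable def Ptab_s_351_356 (c : Nat) : Nat := @Bool.rec (fun _ => Nat) (Ptab_s_351_353 c) (Ptab_s_353_356 c) (Nat.ble 353 c)
noncomputable def Ptab_s_346_356 (c : Nat) : Nat := @Bool.rec (fun _ => Nat) (Ptab_s_346_351 c) (Ptab_s_351_356 c) (Nat.ble 351 c)
noncomputable def Ptab_s_337_356 (c : Nat) : Nat := @Bool.rec (fun _ => Nat) (Ptab_s_337_346 c) (Ptab_s_346_356 c) (Nat.ble 346 c)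
noncomputable def Ptab_s_356_358 (c : Nat) : Nat := @Bool.rec (fun _ => Nat) (Ptab_356) (Ptab_357) (Nat.ble 357 c)
noncomputable def Ptab_s_358_360 (c : Nat) : Nat := @Bool.rec (fun _ => Nat) (Ptab_358) (Ptab_359) (Nat.ble 359 c)
noncomputable def Ptab_s_356_360 (c : Nat) : Nat := @Bool.rec (fun _ => Nat) (Ptab_s_356_358 c) (Ptab_s_358_360 c) (Nat.ble 358 c)
noncomputable def Ptab_s_360_362 (c : Nat) : Nat := @Bool.rec (fun _ => Nat) (Ptab_360) (Ptab_361) (Nat.ble 361 c)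
noncomputable def Ptab_s_363_365 (c : Nat) : Nat := @Bool.rec (fun _ => Nat) (Ptab_363) (Ptab_364) (Nat.ble 364 c)
noncomputable def Ptab_s_362_365 (c : Nat) : Nat := @Bool.rec (fun _ => Nat) (Ptab_362) (Ptab_s_363_365 c) (Nat.ble 363 c)
noncomputable def Ptab_s_360_365 (c : Nat) : Nat := @Bool.rec (fun _ => Nat) (Ptab_s_360_362 c) (Ptab_s_362_365 c) (Nat.ble 362 c)
noncomputable def Ptab_s_356_365 (c : Nat) : Nat := @Bool.rec (fun _ => Nat) (Ptab_s_356_360 c) (Ptab_s_360_365 c) (Nat.ble 360 c)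
noncomputable def Ptab_s_365_367 (c : Nat) : Nat := @Bool.rec (fun _ => Nat) (Ptab_365) (Ptab_366) (Nat.ble 366 c)
noncomputable def Ptab_s_368_370 (c : Nat) : Nat := @Bool.rec (fun _ => Nat) (Ptab_368) (Ptab_369) (Nat.ble 369 c)
noncomputable def Ptab_s_367_370 (c : Nat) : Nat := @Bool.rec (fun _ => Nat) (Ptab_367) (Ptab_s_368_370 c) (Nat.ble 368 c)
noncomputable def Ptab_s_365_370 (c : Nat) : Nat := @Bool.rec (fun _ => Nat) (Ptab_s_365_367 c) (Ptab_s_367_370 c) (Nat.ble 367 c)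
noncomputable def Ptab_s_370_372 (c : Nat) : Nat := @Bool.rec (fun _ => Nat) (Ptab_370) (Ptab_371) (Nat.ble 371 c)
noncomputable def Ptab_s_373_375 (c : Nat) : Nat := @Bool.rec (fun _ => Nat) (Ptab_373) (Ptab_374) (Nat.ble 374 c)
noncomputable def Ptab_s_372_375 (c : Nat) : Nat := @Bool.rec (fun _ => Nat) (Ptab_372) (Ptab_s_373_375 c) (Nat.ble 373 c)
noncomputable def Ptab_s_370_375 (c : Nat) : Nat := @Bool.rec (fun _ => Nat) (Ptab_s_370_372 c) (Ptab_s_372_375 c) (Nat.ble 372 c)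
noncomputable def Ptab_s_365_375 (c : Nat) : Nat := @Bool.rec (fun _ => Nat) (Ptab_s_365_370 c) (Ptab_s_370_375 c) (Nat.ble 370 c)
noncomputable def Ptab_s_356_375 (c : Nat) : Nat := @Bool.rec (fun _ => Nat) (Ptab_s_356_365 c) (Ptab_s_365_375 c) (Nat.ble 365 c)
noncomputable def Ptab_s_337_375 (c : Nat) : Nat := @Bool.rec (fun _ => Nat) (Ptab_s_337_356 c) (Ptab_s_356_375 c) (Nat.ble 356 c)
noncomputable def Ptab_s_300_375 (c : Nat) : Nat := @Bool.rec (fun _ => Nat) (Ptab_s_300_337 c) (Ptab_s_337_375 c) (Nat.ble 337 c)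
noncomputable def Ptab_s_375_377 (c : Nat) : Nat := @Bool.rec (fun _ => Nat) (Ptab_375) (Ptab_376) (Nat.ble 376 c)
noncomputable def Ptab_s_377_379 (c : Nat) : Nat := @Bool.rec (fun _ => Nat) (Ptab_377) (Ptab_378) (Nat.ble 378 c)
noncomputable def Ptab_s_375_379 (c : Nat) : Nat := @Bool.rec (fun _ => Nat) (Ptab_s_375_377 c) (Ptab_s_377_379 c) (Nat.ble 377 c)
noncomputable def Ptab_s_379_381 (c : Nat) : Nat := @Bool.rec (fun _ => Nat) (Ptab_379) (Ptab_380) (Nat.ble 380 c)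
noncomputable def Ptab_s_382_384 (c : Nat) : Nat := @Bool.rec (fun _ => Nat) (Ptab_382) (Ptab_383) (Nat.ble 383 c)
noncomputable def Ptab_s_381_384 (c : Nat) : Nat := @Bool.rec (fun _ => Nat) (Ptab_381) (Ptab_s_382_384 c) (Nat.ble 382 c)
noncomputable def Ptab_s_379_384 (c : Nat) : Nat := @Bool.rec (fun _ => Nat) (Ptab_s_379_381 c) (Ptab_s_381_384 c) (Nat.ble 381 c)
noncomputable def Ptab_s_375_384 (c : Nat) : Nat := @Bool.rec (fun _ => Nat) (Ptab_s_375_379 c) (Ptab_s_379_384 c) (Nat.ble 379 c)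
noncomputable def Ptab_s_384_386 (c : Nat) : Nat := @Bool.rec (fun _ => Nat) (Ptab_384) (Ptab_385) (Nat.ble 385 c)
noncomputable def Ptab_s_386_388 (c : Nat) : Nat := @Bool.rec (fun _ => Nat) (Ptab_386) (Ptab_387) (Nat.ble 387 c)
noncomputable def Ptab_s_384_388 (c : Nat) : Nat := @Bool.rec (fun _ => Nat) (Ptab_s_384_386 c) (Ptab_s_386_388 c) (Nat.ble 386 c)
noncomputable def Ptab_s_388_390 (c : Nat) : Nat := @Bool.rec (fun _ => Nat) (Ptab_388) (Ptab_389) (Nat.ble 389 c)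
noncomputable def Ptab_s_391_393 (c : Nat) : Nat := @Bool.rec (fun _ => Nat) (Ptab_391) (Ptab_392) (Nat.ble 392 c)
noncomputable def Ptab_s_390_393 (c : Nat) : Nat := @Bool.rec (fun _ => Nat) (Ptab_390) (Ptab_s_391_393 c) (Nat.ble 391 c)
noncomputable def Ptab_s_388_393 (c : Nat) : Nat := @Bool.rec (fun _ => Nat) (Ptab_s_388_390 c) (Ptab_s_390_393 c) (Nat.ble 390 c)
noncomputable def Ptab_s_384_393 (c : Nat) : Nat := @Bool.rec (fun _ => Nat) (Ptab_s_384_388 c) (Ptab_s_388_393 c) (Nat.ble 388 c)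
noncomputable def Ptab_s_375_393 (c : Nat) : Nat := @Bool.rec (fun _ => Nat) (Ptab_s_375_384 c) (Ptab_s_384_393 c) (Nat.ble 384 c)
noncomputable def Ptab_s_393_395 (c : Nat) : Nat := @Bool.rec (fun _ => Nat) (Ptab_393) (Ptab_394) (Nat.ble 394 c)
noncomputable def Ptab_s_395_397 (c : Nat) : Nat := @Bool.rec (fun _ => Nat) (Ptab_395) (Ptab_396) (Nat.ble 396 c)
noncomputable def Ptab_s_393_397 (c : Nat) : Nat := @Bool.rec (fun _ => Nat) (Ptab_s_393_395 c) (Ptab_s_395_397 c) (Nat.ble 395 c)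
noncomputable def Ptab_s_397_399 (c : Nat) : Nat := @Bool.rec (fun _ => Nat) (Ptab_397) (Ptab_398) (Nat.ble 398 c)
noncomputable def Ptab_s_400_402 (c : Nat) : Nat := @Bool.rec (fun _ => Nat) (Ptab_400) (Ptab_401) (Nat.ble 401 c)
noncomputable def Ptab_s_399_402 (c : Nat) : Nat := @Bool.rec (fun _ => Nat) (Ptab_399) (Ptab_s_400_402 c) (Nat.ble 400 c)
noncomputable def Ptab_s_397_402 (c : Nat) : Nat := @Bool.rec (fun _ => Nat) (Ptab_s_397_399 c) (Ptab_s_399_402 c) (Nat.ble 399 c)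
noncomputable def Ptab_s_393_402 (c : Nat) : Nat := @Bool.rec (fun _ => Nat) (Ptab_s_393_397 c) (Ptab_s_397_402 c) (Nat.ble 397 c)
noncomputable def Ptab_s_402_404 (c : Nat) : Nat := @Bool.rec (fun _ => Nat) (Ptab_402) (Ptab_403) (Nat.ble 403 c)
noncomputable def Ptab_s_405_407 (c : Nat) : Nat := @Bool.rec (fun _ => Nat) (Ptab_405) (Ptab_406) (Nat.ble 406 c)
noncomputable def Ptab_s_404_407 (c : Nat) : Nat := @Bool.rec (fun _ => Nat) (Ptab_404) (Ptab_s_405_407 c) (Nat.ble 405 c)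
noncomputable def Ptab_s_402_407 (c : Nat) : Nat := @Bool.rec (fun _ => Nat) (Ptab_s_402_404 c) (Ptab_s_404_407 c) (Nat.ble 404 c)
noncomputable def Ptab_s_407_409 (c : Nat) : Nat := @Bool.rec (fun _ => Nat) (Ptab_407) (Ptab_408) (Nat.ble 408 c)
noncomputable def Ptab_s_410_412 (c : Nat) : Nat := @Bool.rec (fun _ => Nat) (Ptab_410) (Ptab_411) (Nat.ble 411 c)
noncomputable def Ptab_s_409_412 (c : Nat) : Nat := @Bool.rec (fun _ => Nat) (Ptab_409) (Ptab_s_410_412 c) (Nat.ble 410 c)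
noncomputable def Ptab_s_407_412 (c : Nat) : Nat := @Bool.rec (fun _ => Nat) (Ptab_s_407_409 c) (Ptab_s_409_412 c) (Nat.ble 409 c)
noncomputable def Ptab_s_402_412 (c : Nat) : Nat := @Bool.rec (fun _ => Nat) (Ptab_s_402_407 c) (Ptab_s_407_412 c) (Nat.ble 407 c)
noncomputable def Ptab_s_393_412 (c : Nat) : Nat := @Bool.rec (fun _ => Nat) (Ptab_s_393_402 c) (Ptab_s_402_412 c) (Nat.ble 402 c)
noncomputable def Ptab_s_375_412 (c : Nat) : Nat := @Bool.rec (fun _ => Nat) (Ptab_s_375_393 c) (Ptab_s_393_412 c) (Nat.ble 393 c)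
noncomputable def Ptab_s_412_414 (c : Nat) : Nat := @Bool.rec (fun _ => Nat) (Ptab_412) (Ptab_413) (Nat.ble 413 c)
noncomputable def Ptab_s_414_416 (c : Nat) : Nat := @Bool.rec (fun _ => Nat) (Ptab_414) (Ptab_415) (Nat.ble 415 c)
noncomputable def Ptab_s_412_416 (c : Nat) : Nat := @Bool.rec (fun _ => Nat) (Ptab_s_412_414 c) (Ptab_s_414_416 c) (Nat.ble 414 c)
noncomputable def Ptab_s_416_418 (c : Nat) : Nat := @Bool.rec (fun _ => Nat) (Ptab_416) (Ptab_417) (Nat.ble 417 c)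
noncomputable def Ptab_s_419_421 (c : Nat) : Nat := @Bool.rec (fun _ => Nat) (Ptab_419) (Ptab_420) (Nat.ble 420 c)
noncomputable def Ptab_s_418_421 (c : Nat) : Nat := @Bool.rec (fun _ => Nat) (Ptab_418) (Ptab_s_419_421 c) (Nat.ble 419 c)
noncomputable def Ptab_s_416_421 (c : Nat) : Nat := @Bool.rec (fun _ => Nat) (Ptab_s_416_418 c) (Ptab_s_418_421 c) (Nat.ble 418 c)
noncomputable def Ptab_s_412_421 (c : Nat) : Nat := @Bool.rec (fun _ => Nat) (Ptab_s_412_416 c) (Ptab_s_416_421 c) (Nat.ble 416 c)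
noncomputable def Ptab_s_421_423 (c : Nat) : Nat := @Bool.rec (fun _ => Nat) (Ptab_421) (Ptab_422) (Nat.ble 422 c)
noncomputable def Ptab_s_424_426 (c : Nat) : Nat := @Bool.rec (fun _ => Nat) (Ptab_424) (Ptab_425) (Nat.ble 425 c)
noncomputable def Ptab_s_423_426 (c : Nat) : Nat := @Bool.rec (fun _ => Nat) (Ptab_423) (Ptab_s_424_426 c) (Nat.ble 424 c)
noncomputable def Ptab_s_421_426 (c : Nat) : Nat := @Bool.rec (fun _ => Nat) (Ptab_s_421_423 c) (Ptab_s_423_426 c) (Nat.ble 423 c)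
noncomputable def Ptab_s_426_428 (c : Nat) : Nat := @Bool.rec (fun _ => Nat) (Ptab_426) (Ptab_427) (Nat.ble 427 c)
noncomputable def Ptab_s_429_431 (c : Nat) : Nat := @Bool.rec (fun _ => Nat) (Ptab_429) (Ptab_430) (Nat.ble 430 c)
noncomputable def Ptab_s_428_431 (c : Nat) : Nat := @Bool.rec (fun _ => Nat) (Ptab_428) (Ptab_s_429_431 c) (Nat.ble 429 c)
noncomputable def Ptab_s_426_431 (c : Nat) : Nat := @Bool.rec (fun _ => Nat) (Ptab_s_426_428 c) (Ptab_s_428_431 c) (Nat.ble 428 c)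
noncomputable def Ptab_s_421_431 (c : Nat) : Nat := @Bool.rec (fun _ => Nat) (Ptab_s_421_426 c) (Ptab_s_426_431 c) (Nat.ble 426 c)
noncomputable def Ptab_s_412_431 (c : Nat) : Nat := @Bool.rec (fun _ => Nat) (Ptab_s_412_421 c) (Ptab_s_421_431 c) (Nat.ble 421 c)
noncomputable def Ptab_s_431_433 (c : Nat) : Nat := @Bool.rec (fun _ => Nat) (Ptab_431) (Ptab_432) (Nat.ble 432 c)
noncomputable def Ptab_s_433_435 (c : Nat) : Nat := @Bool.rec (fun _ => Nat) (Ptab_433) (Ptab_434) (Nat.ble 434 c)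
noncomputable def Ptab_s_431_435 (c : Nat) : Nat := @Bool.rec (fun _ => Nat) (Ptab_s_431_433 c) (Ptab_s_433_435 c) (Nat.ble 433 c)
noncomputable def Ptab_s_435_437 (c : Nat) : Nat := @Bool.rec (fun _ => Nat) (Ptab_435) (Ptab_436) (Nat.ble 436 c)
noncomputable def Ptab_s_438_440 (c : Nat) : Nat := @Bool.rec (fun _ => Nat) (Ptab_438) (Ptab_439) (Nat.ble 439 c)
noncomputable def Ptab_s_437_440 (c : Nat) : Nat := @Bool.rec (fun _ => Nat) (Ptab_437) (Ptab_s_438_440 c) (Nat.ble 438 c)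
noncomputable def Ptab_s_435_440 (c : Nat) : Nat := @Bool.rec (fun _ => Nat) (Ptab_s_435_437 c) (Ptab_s_437_440 c) (Nat.ble 437 c)
noncomputable def Ptab_s_431_440 (c : Nat) : Nat := @Bool.rec (fun _ => Nat) (Ptab_s_431_435 c) (Ptab_s_435_440 c) (Nat.ble 435 c)
noncomputable def Ptab_s_440_442 (c : Nat) : Nat := @Bool.rec (fun _ => Nat) (Ptab_440) (Ptab_441) (Nat.ble 441 c)
noncomputable def Ptab_s_443_445 (c : Nat) : Nat := @Bool.rec (fun _ => Nat) (Ptab_443) (Ptab_444) (Nat.ble 444 c)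
noncomputable def Ptab_s_442_445 (c : Nat) : Nat := @Bool.rec (fun _ => Nat) (Ptab_442) (Ptab_s_443_445 c) (Nat.ble 443 c)
noncomputable def Ptab_s_440_445 (c : Nat) : Nat := @Bool.rec (fun _ => Nat) (Ptab_s_440_442 c) (Ptab_s_442_445 c) (Nat.ble 442 c)
noncomputable def Ptab_s_445_447 (c : Nat) : Nat := @Bool.rec (fun _ => Nat) (Ptab_445) (Ptab_446) (Nat.ble 446 c)
noncomputable def Ptab_s_448_450 (c : Nat) : Nat := @Bool.rec (fun _ => Nat) (Ptab_448) (Ptab_449) (Nat.ble 449 c)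
noncomputable def Ptab_s_447_450 (c : Nat) : Nat := @Bool.rec (fun _ => Nat) (Ptab_447) (Ptab_s_448_450 c) (Nat.ble 448 c)
noncomputable def Ptab_s_445_450 (c : Nat) : Nat := @Bool.rec (fun _ => Nat) (Ptab_s_445_447 c) (Ptab_s_447_450 c) (Nat.ble 447 c)
noncomputable def Ptab_s_440_450 (c : Nat) : Nat := @Bool.rec (fun _ => Nat) (Ptab_s_440_445 c) (Ptab_s_445_450 c) (Nat.ble 445 c)
noncomputable def Ptab_s_431_450 (c : Nat) : Nat := @Bool.rec (fun _ => Nat) (Ptab_s_431_440 c) (Ptab_s_440_450 c) (Nat.ble 440 c)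
noncomputable def Ptab_s_412_450 (c : Nat) : Nat := @Bool.rec (fun _ => Nat) (Ptab_s_412_431 c) (Ptab_s_431_450 c) (Nat.ble 431 c)
noncomputable def Ptab_s_375_450 (c : Nat) : Nat := @Bool.rec (fun _ => Nat) (Ptab_s_375_412 c) (Ptab_s_412_450 c) (Nat.ble 412 c)
noncomputable def Ptab_s_300_450 (c : Nat) : Nat := @Bool.rec (fun _ => Nat) (Ptab_s_300_375 c) (Ptab_s_375_450 c) (Nat.ble 375 c)
noncomputable def Ptab_s_450_452 (c : Nat) : Nat := @Bool.rec (fun _ => Nat) (Ptab_450) (Ptab_451) (Nat.ble 451 c)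
noncomputable def Ptab_s_452_454 (c : Nat) : Nat := @Bool.rec (fun _ => Nat) (Ptab_452) (Ptab_453) (Nat.ble 453 c)
noncomputable def Ptab_s_450_454 (c : Nat) : Nat := @Bool.rec (fun _ => Nat) (Ptab_s_450_452 c) (Ptab_s_452_454 c) (Nat.ble 452 c)
noncomputable def Ptab_s_454_456 (c : Nat) : Nat := @Bool.rec (fun _ => Nat) (Ptab_454) (Ptab_455) (Nat.ble 455 c)
noncomputable def Ptab_s_457_459 (c : Nat) : Nat := @Bool.rec (fun _ => Nat) (Ptab_457) (Ptab_458) (Nat.ble 458 c)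
noncomputable def Ptab_s_456_459 (c : Nat) : Nat := @Bool.rec (fun _ => Nat) (Ptab_456) (Ptab_s_457_459 c) (Nat.ble 457 c)
noncomputable def Ptab_s_454_459 (c : Nat) : Nat := @Bool.rec (fun _ => Nat) (Ptab_s_454_456 c) (Ptab_s_456_459 c) (Nat.ble 456 c)
noncomputable def Ptab_s_450_459 (c : Nat) : Nat := @Bool.rec (fun _ => Nat) (Ptab_s_450_454 c) (Ptab_s_454_459 c) (Nat.ble 454 c)
noncomputable def Ptab_s_459_461 (c : Nat) : Nat := @Bool.rec (fun _ => Nat) (Ptab_459) (Ptab_460) (Nat.ble 460 c)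
noncomputable def Ptab_s_461_463 (c : Nat) : Nat := @Bool.rec (fun _ => Nat) (Ptab_461) (Ptab_462) (Nat.ble 462 c)
noncomputable def Ptab_s_459_463 (c : Nat) : Nat := @Bool.rec (fun _ => Nat) (Ptab_s_459_461 c) (Ptab_s_461_463 c) (Nat.ble 461 c)
noncomputable def Ptab_s_463_465 (c : Nat) : Nat := @Bool.rec (fun _ => Nat) (Ptab_463) (Ptab_464) (Nat.ble 464 c)
noncomputable def Ptab_s_466_468 (c : Nat) : Nat := @Bool.rec (fun _ => Nat) (Ptab_466) (Ptab_467) (Nat.ble 467 c)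
noncomputable def Ptab_s_465_468 (c : Nat) : Nat := @Bool.rec (fun _ => Nat) (Ptab_465) (Ptab_s_466_468 c) (Nat.ble 466 c)
noncomputable def Ptab_s_463_468 (c : Nat) : Nat := @Bool.rec (fun _ => Nat) (Ptab_s_463_465 c) (Ptab_s_465_468 c) (Nat.ble 465 c)
noncomputable def Ptab_s_459_468 (c : Nat) : Nat := @Bool.rec (fun _ => Nat) (Ptab_s_459_463 c) (Ptab_s_463_468 c) (Nat.ble 463 c)
noncomputable def Ptab_s_450_468 (c : Nat) : Nat := @Bool.rec (fun _ => Nat) (Ptab_s_450_459 c) (Ptab_s_459_468 c) (Nat.ble 459 c)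
noncomputable def Ptab_s_468_470 (c : Nat) : Nat := @Bool.rec (fun _ => Nat) (Ptab_468) (Ptab_469) (Nat.ble 469 c)
noncomputable def Ptab_s_470_472 (c : Nat) : Nat := @Bool.rec (fun _ => Nat) (Ptab_470) (Ptab_471) (Nat.ble 471 c)
noncomputable def Ptab_s_468_472 (c : Nat) : Nat := @Bool.rec (fun _ => Nat) (Ptab_s_468_470 c) (Ptab_s_470_472 c) (Nat.ble 470 c)
noncomputable def Ptab_s_472_474 (c : Nat) : Nat := @Bool.rec (fun _ => Nat) (Ptab_472) (Ptab_473) (Nat.ble 473 c)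
noncomputable def Ptab_s_475_477 (c : Nat) : Nat := @Bool.rec (fun _ => Nat) (Ptab_475) (Ptab_476) (Nat.ble 476 c)
noncomputable def Ptab_s_474_477 (c : Nat) : Nat := @Bool.rec (fun _ => Nat) (Ptab_474) (Ptab_s_475_477 c) (Nat.ble 475 c)
noncomputable def Ptab_s_472_477 (c : Nat) : Nat := @Bool.rec (fun _ => Nat) (Ptab_s_472_474 c) (Ptab_s_474_477 c) (Nat.ble 474 c)
noncomputable def Ptab_s_468_477 (c : Nat) : Nat := @Bool.rec (fun _ => Nat) (Ptab_s_468_472 c) (Ptab_s_472_477 c) (Nat.ble 472 c)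
noncomputable def Ptab_s_477_479 (c : Nat) : Nat := @Bool.rec (fun _ => Nat) (Ptab_477) (Ptab_478) (Nat.ble 478 c)
noncomputable def Ptab_s_480_482 (c : Nat) : Nat := @Bool.rec (fun _ => Nat) (Ptab_480) (Ptab_481) (Nat.ble 481 c)
noncomputable def Ptab_s_479_482 (c : Nat) : Nat := @Bool.rec (fun _ => Nat) (Ptab_479) (Ptab_s_480_482 c) (Nat.ble 480 c)
noncomputable def Ptab_s_477_482 (c : Nat) : Nat := @Bool.rec (fun _ => Nat) (Ptab_s_477_479 c) (Ptab_s_479_482 c) (Nat.ble 479 c)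
noncomputable def Ptab_s_482_484 (c : Nat) : Nat := @Bool.rec (fun _ => Nat) (Ptab_482) (Ptab_483) (Nat.ble 483 c)
noncomputable def Ptab_s_485_487 (c : Nat) : Nat := @Bool.rec (fun _ => Nat) (Ptab_485) (Ptab_486) (Nat.ble 486 c)
noncomputable def Ptab_s_484_487 (c : Nat) : Nat := @Bool.rec (fun _ => Nat) (Ptab_484) (Ptab_s_485_487 c) (Nat.ble 485 c)
noncomputable def Ptab_s_482_487 (c : Nat) : Nat := @Bool.rec (fun _ => Nat) (Ptab_s_482_484 c) (Ptab_s_484_487 c) (Nat.ble 484 c)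
noncomputable def Ptab_s_477_487 (c : Nat) : Nat := @Bool.rec (fun _ => Nat) (Ptab_s_477_482 c) (Ptab_s_482_487 c) (Nat.ble 482 c)
noncomputable def Ptab_s_468_487 (c : Nat) : Nat := @Bool.rec (fun _ => Nat) (Ptab_s_468_477 c) (Ptab_s_477_487 c) (Nat.ble 477 c)
noncomputable def Ptab_s_450_487 (c : Nat) : Nat := @Bool.rec (fun _ => Nat) (Ptab_s_450_468 c) (Ptab_s_468_487 c) (Nat.ble 468 c)
noncomputable def Ptab_s_487_489 (c : Nat) : Nat := @Bool.rec (fun _ => Nat) (Ptab_487) (Ptab_488) (Nat.ble 488 c)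
noncomputable def Ptab_s_489_491 (c : Nat) : Nat := @Bool.rec (fun _ => Nat) (Ptab_489) (Ptab_490) (Nat.ble 490 c)
noncomputable def Ptab_s_487_491 (c : Nat) : Nat := @Bool.rec (fun _ => Nat) (Ptab_s_487_489 c) (Ptab_s_489_491 c) (Nat.ble 489 c)
noncomputable def Ptab_s_491_493 (c : Nat) : Nat := @Bool.rec (fun _ => Nat) (Ptab_491) (Ptab_492) (Nat.ble 492 c)
noncomputable def Ptab_s_494_496 (c : Nat) : Nat := @Bool.rec (fun _ => Nat) (Ptab_494) (Ptab_495) (Nat.ble 495 c)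
noncomputable def Ptab_s_493_496 (c : Nat) : Nat := @Bool.rec (fun _ => Nat) (Ptab_493) (Ptab_s_494_496 c) (Nat.ble 494 c)
noncomputable def Ptab_s_491_496 (c : Nat) : Nat := @Bool.rec (fun _ => Nat) (Ptab_s_491_493 c) (Ptab_s_493_496 c) (Nat.ble 493 c)
noncomputable def Ptab_s_487_496 (c : Nat) : Nat := @Bool.rec (fun _ => Nat) (Ptab_s_487_491 c) (Ptab_s_491_496 c) (Nat.ble 491 c)
noncomputable def Ptab_s_496_498 (c : Nat) : Nat := @Bool.rec (fun _ => Nat) (Ptab_496) (Ptab_497) (Nat.ble 497 c)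
noncomputable def Ptab_s_499_501 (c : Nat) : Nat := @Bool.rec (fun _ => Nat) (Ptab_499) (Ptab_500) (Nat.ble 500 c)
noncomputable def Ptab_s_498_501 (c : Nat) : Nat := @Bool.rec (fun _ => Nat) (Ptab_498) (Ptab_s_499_501 c) (Nat.ble 499 c)
noncomputable def Ptab_s_496_501 (c : Nat) : Nat := @Bool.rec (fun _ => Nat) (Ptab_s_496_498 c) (Ptab_s_498_501 c) (Nat.ble 498 c)
noncomputable def Ptab_s_501_503 (c : Nat) : Nat := @Bool.rec (fun _ => Nat) (Ptab_501) (Ptab_502) (Nat.ble 502 c)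
noncomputable def Ptab_s_504_506 (c : Nat) : Nat := @Bool.rec (fun _ => Nat) (Ptab_504) (Ptab_505) (Nat.ble 505 c)
noncomputable def Ptab_s_503_506 (c : Nat) : Nat := @Bool.rec (fun _ => Nat) (Ptab_503) (Ptab_s_504_506 c) (Nat.ble 504 c)
noncomputable def Ptab_s_501_506 (c : Nat) : Nat := @Bool.rec (fun _ => Nat) (Ptab_s_501_503 c) (Ptab_s_503_506 c) (Nat.ble 503 c)
noncomputable def Ptab_s_496_506 (c : Nat) : Nat := @Bool.rec (fun _ => Nat) (Ptab_s_496_501 c) (Ptab_s_501_506 c) (Nat.ble 501 c)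
noncomputable def Ptab_s_487_506 (c : Nat) : Nat := @Bool.rec (fun _ => Nat) (Ptab_s_487_496 c) (Ptab_s_496_506 c) (Nat.ble 496 c)
noncomputable def Ptab_s_506_508 (c : Nat) : Nat := @Bool.rec (fun _ => Nat) (Ptab_506) (Ptab_507) (Nat.ble 507 c)
noncomputable def Ptab_s_508_510 (c : Nat) : Nat := @Bool.rec (fun _ => Nat) (Ptab_508) (Ptab_509) (Nat.ble 509 c)
noncomputable def Ptab_s_506_510 (c : Nat) : Nat := @Bool.rec (fun _ => Nat) (Ptab_s_506_508 c) (Ptab_s_508_510 c) (Nat.ble 508 c)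
noncomputable def Ptab_s_510_512 (c : Nat) : Nat := @Bool.rec (fun _ => Nat) (Ptab_510) (Ptab_511) (Nat.ble 511 c)
noncomputable def Ptab_s_513_515 (c : Nat) : Nat := @Bool.rec (fun _ => Nat) (Ptab_513) (Ptab_514) (Nat.ble 514 c)
noncomputable def Ptab_s_512_515 (c : Nat) : Nat := @Bool.rec (fun _ => Nat) (Ptab_512) (Ptab_s_513_515 c) (Nat.ble 513 c)
noncomputable def Ptab_s_510_515 (c : Nat) : Nat := @Bool.rec (fun _ => Nat) (Ptab_s_510_512 c) (Ptab_s_512_515 c) (Nat.ble 512 c)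
noncomputable def Ptab_s_506_515 (c : Nat) : Nat := @Bool.rec (fun _ => Nat) (Ptab_s_506_510 c) (Ptab_s_510_515 c) (Nat.ble 510 c)
noncomputable def Ptab_s_515_517 (c : Nat) : Nat := @Bool.rec (fun _ => Nat) (Ptab_515) (Ptab_516) (Nat.ble 516 c)
noncomputable def Ptab_s_518_520 (c : Nat) : Nat := @Bool.rec (fun _ => Nat) (Ptab_518) (Ptab_519) (Nat.ble 519 c)
noncomputable def Ptab_s_517_520 (c : Nat) : Nat := @Bool.rec (fun _ => Nat) (Ptab_517) (Ptab_s_518_520 c) (Nat.ble 518 c)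
noncomputable def Ptab_s_515_520 (c : Nat) : Nat := @Bool.rec (fun _ => Nat) (Ptab_s_515_517 c) (Ptab_s_517_520 c) (Nat.ble 517 c)
noncomputable def Ptab_s_520_522 (c : Nat) : Nat := @Bool.rec (fun _ => Nat) (Ptab_520) (Ptab_521) (Nat.ble 521 c)
noncomputable def Ptab_s_523_525 (c : Nat) : Nat := @Bool.rec (fun _ => Nat) (Ptab_523) (Ptab_524) (Nat.ble 524 c)
noncomputable def Ptab_s_522_525 (c : Nat) : Nat := @Bool.rec (fun _ => Nat) (Ptab_522) (Ptab_s_523_525 c) (Nat.ble 523 c)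
noncomputable def Ptab_s_520_525 (c : Nat) : Nat := @Bool.rec (fun _ => Nat) (Ptab_s_520_522 c) (Ptab_s_522_525 c) (Nat.ble 522 c)
noncomputable def Ptab_s_515_525 (c : Nat) : Nat := @Bool.rec (fun _ => Nat) (Ptab_s_515_520 c) (Ptab_s_520_525 c) (Nat.ble 520 c)
noncomputable def Ptab_s_506_525 (c : Nat) : Nat := @Bool.rec (fun _ => Nat) (Ptab_s_506_515 c) (Ptab_s_515_525 c) (Nat.ble 515 c)
noncomputable def Ptab_s_487_525 (c : Nat) : Nat := @Bool.rec (fun _ => Nat) (Ptab_s_487_506 c) (Ptab_s_506_525 c) (Nat.ble 506 c)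
noncomputable def Ptab_s_450_525 (c : Nat) : Nat := @Bool.rec (fun _ => Nat) (Ptab_s_450_487 c) (Ptab_s_487_525 c) (Nat.ble 487 c)
noncomputable def Ptab_s_525_527 (c : Nat) : Nat := @Bool.rec (fun _ => Nat) (Ptab_525) (Ptab_526) (Nat.ble 526 c)
noncomputable def Ptab_s_527_529 (c : Nat) : Nat := @Bool.rec (fun _ => Nat) (Ptab_527) (Ptab_528) (Nat.ble 528 c)
noncomputable def Ptab_s_525_529 (c : Nat) : Nat := @Bool.rec (fun _ => Nat) (Ptab_s_525_527 c) (Ptab_s_527_529 c) (Nat.ble 527 c)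
noncomputable def Ptab_s_529_531 (c : Nat) : Nat := @Bool.rec (fun _ => Nat) (Ptab_529) (Ptab_530) (Nat.ble 530 c)
noncomputable def Ptab_s_532_534 (c : Nat) : Nat := @Bool.rec (fun _ => Nat) (Ptab_532) (Ptab_533) (Nat.ble 533 c)
noncomputable def Ptab_s_531_534 (c : Nat) : Nat := @Bool.rec (fun _ => Nat) (Ptab_531) (Ptab_s_532_534 c) (Nat.ble 532 c)
noncomputable def Ptab_s_529_534 (c : Nat) : Nat := @Bool.rec (fun _ => Nat) (Ptab_s_529_531 c) (Ptab_s_531_534 c) (Nat.ble 531 c)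
noncomputable def Ptab_s_525_534 (c : Nat) : Nat := @Bool.rec (fun _ => Nat) (Ptab_s_525_529 c) (Ptab_s_529_534 c) (Nat.ble 529 c)
noncomputable def Ptab_s_534_536 (c : Nat) : Nat := @Bool.rec (fun _ => Nat) (Ptab_534) (Ptab_535) (Nat.ble 535 c)
noncomputable def Ptab_s_536_538 (c : Nat) : Nat := @Bool.rec (fun _ => Nat) (Ptab_536) (Ptab_537) (Nat.ble 537 c)
noncomputable def Ptab_s_534_538 (c : Nat) : Nat := @Bool.rec (fun _ => Nat) (Ptab_s_534_536 c) (Ptab_s_536_538 c) (Nat.ble 536 c)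
noncomputable def Ptab_s_538_540 (c : Nat) : Nat := @Bool.rec (fun _ => Nat) (Ptab_538) (Ptab_539) (Nat.ble 539 c)
noncomputable def Ptab_s_541_543 (c : Nat) : Nat := @Bool.rec (fun _ => Nat) (Ptab_541) (Ptab_542) (Nat.ble 542 c)
noncomputable def Ptab_s_540_543 (c : Nat) : Nat := @Bool.rec (fun _ => Nat) (Ptab_540) (Ptab_s_541_543 c) (Nat.ble 541 c)
noncomputable def Ptab_s_538_543 (c : Nat) : Nat := @Bool.rec (fun _ => Nat) (Ptab_s_538_540 c) (Ptab_s_540_543 c) (Nat.ble 540 c)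
noncomputable def Ptab_s_534_543 (c : Nat) : Nat := @Bool.rec (fun _ => Nat) (Ptab_s_534_538 c) (Ptab_s_538_543 c) (Nat.ble 538 c)
noncomputable def Ptab_s_525_543 (c : Nat) : Nat := @Bool.rec (fun _ => Nat) (Ptab_s_525_534 c) (Ptab_s_534_543 c) (Nat.ble 534 c)
noncomputable def Ptab_s_543_545 (c : Nat) : Nat := @Bool.rec (fun _ => Nat) (Ptab_543) (Ptab_544) (Nat.ble 544 c)
noncomputable def Ptab_s_545_547 (c : Nat) : Nat := @Bool.rec (fun _ => Nat) (Ptab_545) (Ptab_546) (Nat.ble 546 c)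
noncomputable def Ptab_s_543_547 (c : Nat) : Nat := @Bool.rec (fun _ => Nat) (Ptab_s_543_545 c) (Ptab_s_545_547 c) (Nat.ble 545 c)
noncomputable def Ptab_s_547_549 (c : Nat) : Nat := @Bool.rec (fun _ => Nat) (Ptab_547) (Ptab_548) (Nat.ble 548 c)
noncomputable def Ptab_s_550_552 (c : Nat) : Nat := @Bool.rec (fun _ => Nat) (Ptab_550) (Ptab_551) (Nat.ble 551 c)
noncomputable def Ptab_s_549_552 (c : Nat) : Nat := @Bool.rec (fun _ => Nat) (Ptab_549) (Ptab_s_550_552 c) (Nat.ble 550 c)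
noncomputable def Ptab_s_547_552 (c : Nat) : Nat := @Bool.rec (fun _ => Nat) (Ptab_s_547_549 c) (Ptab_s_549_552 c) (Nat.ble 549 c)
noncomputable def Ptab_s_543_552 (c : Nat) : Nat := @Bool.rec (fun _ => Nat) (Ptab_s_543_547 c) (Ptab_s_547_552 c) (Nat.ble 547 c)
noncomputable def Ptab_s_552_554 (c : Nat) : Nat := @Bool.rec (fun _ => Nat) (Ptab_552) (Ptab_553) (Nat.ble 553 c)
noncomputable def Ptab_s_555_557 (c : Nat) : Nat := @Bool.rec (fun _ => Nat) (Ptab_555) (Ptab_556) (Nat.ble 556 c)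
noncomputable def Ptab_s_554_557 (c : Nat) : Nat := @Bool.rec (fun _ => Nat) (Ptab_554) (Ptab_s_555_557 c) (Nat.ble 555 c)
noncomputable def Ptab_s_552_557 (c : Nat) : Nat := @Bool.rec (fun _ => Nat) (Ptab_s_552_554 c) (Ptab_s_554_557 c) (Nat.ble 554 c)
noncomputable def Ptab_s_557_559 (c : Nat) : Nat := @Bool.rec (fun _ => Nat) (Ptab_557) (Ptab_558) (Nat.ble 558 c)
noncomputable def Ptab_s_560_562 (c : Nat) : Nat := @Bool.rec (fun _ => Nat) (Ptab_560) (Ptab_561) (Nat.ble 561 c)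
noncomputable def Ptab_s_559_562 (c : Nat) : Nat := @Bool.rec (fun _ => Nat) (Ptab_559) (Ptab_s_560_562 c) (Nat.ble 560 c)
noncomputable def Ptab_s_557_562 (c : Nat) : Nat := @Bool.rec (fun _ => Nat) (Ptab_s_557_559 c) (Ptab_s_559_562 c) (Nat.ble 559 c)
noncomputable def Ptab_s_552_562 (c : Nat) : Nat := @Bool.rec (fun _ => Nat) (Ptab_s_552_557 c) (Ptab_s_557_562 c) (Nat.ble 557 c)
noncomputable def Ptab_s_543_562 (c : Nat) : Nat := @Bool.rec (fun _ => Nat) (Ptab_s_543_552 c) (Ptab_s_552_562 c) (Nat.ble 552 c)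
noncomputable def Ptab_s_525_562 (c : Nat) : Nat := @Bool.rec (fun _ => Nat) (Ptab_s_525_543 c) (Ptab_s_543_562 c) (Nat.ble 543 c)
noncomputable def Ptab_s_562_564 (c : Nat) : Nat := @Bool.rec (fun _ => Nat) (Ptab_562) (Ptab_563) (Nat.ble 563 c)
noncomputable def Ptab_s_564_566 (c : Nat) : Nat := @Bool.rec (fun _ => Nat) (Ptab_564) (Ptab_565) (Nat.ble 565 c)
noncomputable def Ptab_s_562_566 (c : Nat) : Nat := @Bool.rec (fun _ => Nat) (Ptab_s_562_564 c) (Ptab_s_564_566 c) (Nat.ble 564 c)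
noncomputable def Ptab_s_566_568 (c : Nat) : Nat := @Bool.rec (fun _ => Nat) (Ptab_566) (Ptab_567) (Nat.ble 567 c)
noncomputable def Ptab_s_569_571 (c : Nat) : Nat := @Bool.rec (fun _ => Nat) (Ptab_569) (Ptab_570) (Nat.ble 570 c)
noncomputable def Ptab_s_568_571 (c : Nat) : Nat := @Bool.rec (fun _ => Nat) (Ptab_568) (Ptab_s_569_571 c) (Nat.ble 569 c)
noncomputable def Ptab_s_566_571 (c : Nat) : Nat := @Bool.rec (fun _ => Nat) (Ptab_s_566_568 c) (Ptab_s_568_571 c) (Nat.ble 568 c)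
noncomputable def Ptab_s_562_571 (c : Nat) : Nat := @Bool.rec (fun _ => Nat) (Ptab_s_562_566 c) (Ptab_s_566_571 c) (Nat.ble 566 c)
noncomputable def Ptab_s_571_573 (c : Nat) : Nat := @Bool.rec (fun _ => Nat) (Ptab_571) (Ptab_572) (Nat.ble 572 c)
noncomputable def Ptab_s_574_576 (c : Nat) : Nat := @Bool.rec (fun _ => Nat) (Ptab_574) (Ptab_575) (Nat.ble 575 c)
noncomputable def Ptab_s_573_576 (c : Nat) : Nat := @Bool.rec (fun _ => Nat) (Ptab_573) (Ptab_s_574_576 c) (Nat.ble 574 c)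
noncomputable def Ptab_s_571_576 (c : Nat) : Nat := @Bool.rec (fun _ => Nat) (Ptab_s_571_573 c) (Ptab_s_573_576 c) (Nat.ble 573 c)
noncomputable def Ptab_s_576_578 (c : Nat) : Nat := @Bool.rec (fun _ => Nat) (Ptab_576) (Ptab_577) (Nat.ble 577 c)
noncomputable def Ptab_s_579_581 (c : Nat) : Nat := @Bool.rec (fun _ => Nat) (Ptab_579) (Ptab_580) (Nat.ble 580 c)
noncomputable def Ptab_s_578_581 (c : Nat) : Nat := @Bool.rec (fun _ => Nat) (Ptab_578) (Ptab_s_579_581 c) (Nat.ble 579 c)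
noncomputable def Ptab_s_576_581 (c : Nat) : Nat := @Bool.rec (fun _ => Nat) (Ptab_s_576_578 c) (Ptab_s_578_581 c) (Nat.ble 578 c)
noncomputable def Ptab_s_571_581 (c : Nat) : Nat := @Bool.rec (fun _ => Nat) (Ptab_s_571_576 c) (Ptab_s_576_581 c) (Nat.ble 576 c)
noncomputable def Ptab_s_562_581 (c : Nat) : Nat := @Bool.rec (fun _ => Nat) (Ptab_s_562_571 c) (Ptab_s_571_581 c) (Nat.ble 571 c)
noncomputable def Ptab_s_581_583 (c : Nat) : Nat := @Bool.rec (fun _ => Nat) (Ptab_581) (Ptab_582) (Nat.ble 582 c)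
noncomputable def Ptab_s_583_585 (c : Nat) : Nat := @Bool.rec (fun _ => Nat) (Ptab_583) (Ptab_584) (Nat.ble 584 c)
noncomputable def Ptab_s_581_585 (c : Nat) : Nat := @Bool.rec (fun _ => Nat) (Ptab_s_581_583 c) (Ptab_s_583_585 c) (Nat.ble 583 c)
noncomputable def Ptab_s_585_587 (c : Nat) : Nat := @Bool.rec (fun _ => Nat) (Ptab_585) (Ptab_586) (Nat.ble 586 c)
noncomputable def Ptab_s_588_590 (c : Nat) : Nat := @Bool.rec (fun _ => Nat) (Ptab_588) (Ptab_589) (Nat.ble 589 c)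
noncomputable def Ptab_s_587_590 (c : Nat) : Nat := @Bool.rec (fun _ => Nat) (Ptab_587) (Ptab_s_588_590 c) (Nat.ble 588 c)
noncomputable def Ptab_s_585_590 (c : Nat) : Nat := @Bool.rec (fun _ => Nat) (Ptab_s_585_587 c) (Ptab_s_587_590 c) (Nat.ble 587 c)
noncomputable def Ptab_s_581_590 (c : Nat) : Nat := @Bool.rec (fun _ => Nat) (Ptab_s_581_585 c) (Ptab_s_585_590 c) (Nat.ble 585 c)
noncomputable def Ptab_s_590_592 (c : Nat) : Nat := @Bool.rec (fun _ => Nat) (Ptab_590) (Ptab_591) (Nat.ble 591 c)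
noncomputable def Ptab_s_593_595 (c : Nat) : Nat := @Bool.rec (fun _ => Nat) (Ptab_593) (Ptab_594) (Nat.ble 594 c)
noncomputable def Ptab_s_592_595 (c : Nat) : Nat := @Bool.rec (fun _ => Nat) (Ptab_592) (Ptab_s_593_595 c) (Nat.ble 593 c)
noncomputable def Ptab_s_590_595 (c : Nat) : Nat := @Bool.rec (fun _ => Nat) (Ptab_s_590_592 c) (Ptab_s_592_595 c) (Nat.ble 592 c)
noncomputable def Ptab_s_595_597 (c : Nat) : Nat := @Bool.rec (fun _ => Nat) (Ptab_595) (Ptab_596) (Nat.ble 596 c)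
noncomputable def Ptab_s_598_600 (c : Nat) : Nat := @Bool.rec (fun _ => Nat) (Ptab_598) (Ptab_599) (Nat.ble 599 c)
noncomputable def Ptab_s_597_600 (c : Nat) : Nat := @Bool.rec (fun _ => Nat) (Ptab_597) (Ptab_s_598_600 c) (Nat.ble 598 c)
noncomputable def Ptab_s_595_600 (c : Nat) : Nat := @Bool.rec (fun _ => Nat) (Ptab_s_595_597 c) (Ptab_s_597_600 c) (Nat.ble 597 c)
noncomputable def Ptab_s_590_600 (c : Nat) : Nat := @Bool.rec (fun _ => Nat) (Ptab_s_590_595 c) (Ptab_s_595_600 c) (Nat.ble 595 c)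
noncomputable def Ptab_s_581_600 (c : Nat) : Nat := @Bool.rec (fun _ => Nat) (Ptab_s_581_590 c) (Ptab_s_590_600 c) (Nat.ble 590 c)
noncomputable def Ptab_s_562_600 (c : Nat) : Nat := @Bool.rec (fun _ => Nat) (Ptab_s_562_581 c) (Ptab_s_581_600 c) (Nat.ble 581 c)
noncomputable def Ptab_s_525_600 (c : Nat) : Nat := @Bool.rec (fun _ => Nat) (Ptab_s_525_562 c) (Ptab_s_562_600 c) (Nat.ble 562 c)
noncomputable def Ptab_s_450_600 (c : Nat) : Nat := @Bool.rec (fun _ => Nat) (Ptab_s_450_525 c) (Ptab_s_525_600 c) (Nat.ble 525 c)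
noncomputable def Ptab_s_300_600 (c : Nat) : Nat := @Bool.rec (fun _ => Nat) (Ptab_s_300_450 c) (Ptab_s_450_600 c) (Nat.ble 450 c)
noncomputable def Ptab_s_0_600 (c : Nat) : Nat := @Bool.rec (fun _ => Nat) (Ptab_s_0_300 c) (Ptab_s_300_600 c) (Nat.ble 300 c)
noncomputable def Ptab (i : Nat) : Nat := rdw 21 2097151 (Ptab_s_0_600 (Nat.shiftRight i 12)) (Nat.land i 4095)
noncomputable def RRtab (i : Nat) : Nat := rdw 5 31 RRtab_0 i
noncomputable def rBtab (i : Nat) : Nat := rdw 11 2047 rBtab_0 i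
noncomputable def rLtab (i : Nat) : Nat := rdw 5 31 rLtab_0 i
noncomputable def nameTab_s_0_2 (c : Nat) : Nat := @Bool.rec (fun _ => Nat) (nameTab_0) (nameTab_1) (Nat.ble 1 c)
noncomputable def nameTab_s_3_5 (c : Nat) : Nat := @Bool.rec (fun _ => Nat) (nameTab_3) (nameTab_4) (Nat.ble 4 c)
noncomputable def nameTab_s_2_5 (c : Nat) : Nat := @Bool.rec (fun _ => Nat) (nameTab_2) (nameTab_s_3_5 c) (Nat.ble 3 c)
noncomputable def nameTab_s_0_5 (c : Nat) : Nat := @Bool.rec (fun _ => Nat) (nameTab_s_0_2 c) (nameTab_s_2_5 c) (Nat.ble 2 c)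
noncomputable def nameTab_s_5_7 (c : Nat) : Nat := @Bool.rec (fun _ => Nat) (nameTab_5) (nameTab_6) (Nat.ble 6 c)
noncomputable def nameTab_s_8_10 (c : Nat) : Nat := @Bool.rec (fun _ => Nat) (nameTab_8) (nameTab_9) (Nat.ble 9 c)
noncomputable def nameTab_s_7_10 (c : Nat) : Nat := @Bool.rec (fun _ => Nat) (nameTab_7) (nameTab_s_8_10 c) (Nat.ble 8 c)
noncomputable def nameTab_s_5_10 (c : Nat) : Nat := @Bool.rec (fun _ => Nat) (nameTab_s_5_7 c) (nameTab_s_7_10 c) (Nat.ble 7 c)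
noncomputable def nameTab_s_0_10 (c : Nat) : Nat := @Bool.rec (fun _ => Nat) (nameTab_s_0_5 c) (nameTab_s_5_10 c) (Nat.ble 5 c)
noncomputable def nameTab (i : Nat) : Nat := rdw 17 131071 (nameTab_s_0_10 (Nat.shiftRight i 12)) (Nat.land i 4095)
noncomputable def col0_s_0_2 (c : Nat) : Nat := @Bool.rec (fun _ => Nat) (col0_0) (col0_1) (Nat.ble 1 c)
noncomputable def col0_s_3_5 (c : Nat) : Nat := @Bool.rec (fun _ => Nat) (col0_3) (col0_4) (Nat.ble 4 c)
noncomputable def col0_s_2_5 (c : Nat) : Nat := @Bool.rec (fun _ => Nat) (col0_2) (col0_s_3_5 c) (Nat.ble 3 c)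
noncomputable def col0_s_0_5 (c : Nat) : Nat := @Bool.rec (fun _ => Nat) (col0_s_0_2 c) (col0_s_2_5 c) (Nat.ble 2 c)
noncomputable def col0_s_5_7 (c : Nat) : Nat := @Bool.rec (fun _ => Nat) (col0_5) (col0_6) (Nat.ble 6 c)
noncomputable def col0_s_8_10 (c : Nat) : Nat := @Bool.rec (fun _ => Nat) (col0_8) (col0_9) (Nat.ble 9 c)
noncomputable def col0_s_7_10 (c : Nat) : Nat := @Bool.rec (fun _ => Nat) (col0_7) (col0_s_8_10 c) (Nat.ble 8 c)
noncomputable def col0_s_5_10 (c : Nat) : Nat := @Bool.rec (fun _ => Nat) (col0_s_5_7 c) (col0_s_7_10 c) (Nat.ble 7 c)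
noncomputable def col0_s_0_10 (c : Nat) : Nat := @Bool.rec (fun _ => Nat) (col0_s_0_5 c) (col0_s_5_10 c) (Nat.ble 5 c)
noncomputable def col0 (i : Nat) : Nat := rdw 16 65535 (col0_s_0_10 (Nat.shiftRight i 12)) (Nat.land i 4095)
noncomputable def col1_s_0_2 (c : Nat) : Nat := @Bool.rec (fun _ => Nat) (col1_0) (col1_1) (Nat.ble 1 c)
noncomputable def col1_s_3_5 (c : Nat) : Nat := @Bool.rec (fun _ => Nat) (col1_3) (col1_4) (Nat.ble 4 c)
noncomputable def col1_s_2_5 (c : Nat) : Nat := @Bool.rec (fun _ => Nat) (col1_2) (col1_s_3_5 c) (Nat.ble 3 c)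
noncomputable def col1_s_0_5 (c : Nat) : Nat := @Bool.rec (fun _ => Nat) (col1_s_0_2 c) (col1_s_2_5 c) (Nat.ble 2 c)
noncomputable def col1_s_5_7 (c : Nat) : Nat := @Bool.rec (fun _ => Nat) (col1_5) (col1_6) (Nat.ble 6 c)
noncomputable def col1_s_8_10 (c : Nat) : Nat := @Bool.rec (fun _ => Nat) (col1_8) (col1_9) (Nat.ble 9 c)
noncomputable def col1_s_7_10 (c : Nat) : Nat := @Bool.rec (fun _ => Nat) (col1_7) (col1_s_8_10 c) (Nat.ble 8 c)
noncomputable def col1_s_5_10 (c : Nat) : Nat := @Bool.rec (fun _ => Nat) (col1_s_5_7 c) (col1_s_7_10 c) (Nat.ble 7 c)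
noncomputable def col1_s_0_10 (c : Nat) : Nat := @Bool.rec (fun _ => Nat) (col1_s_0_5 c) (col1_s_5_10 c) (Nat.ble 5 c)
noncomputable def col1 (i : Nat) : Nat := rdw 16 65535 (col1_s_0_10 (Nat.shiftRight i 12)) (Nat.land i 4095)
noncomputable def col2_s_0_2 (c : Nat) : Nat := @Bool.rec (fun _ => Nat) (col2_0) (col2_1) (Nat.ble 1 c)
noncomputable def col2_s_3_5 (c : Nat) : Nat := @Bool.rec (fun _ => Nat) (col2_3) (col2_4) (Nat.ble 4 c)
noncomputable def col2_s_2_5 (c : Nat) : Nat := @Bool.rec (fun _ => Nat) (col2_2) (col2_s_3_5 c) (Nat.ble 3 c)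
noncomputable def col2_s_0_5 (c : Nat) : Nat := @Bool.rec (fun _ => Nat) (col2_s_0_2 c) (col2_s_2_5 c) (Nat.ble 2 c)
noncomputable def col2_s_5_7 (c : Nat) : Nat := @Bool.rec (fun _ => Nat) (col2_5) (col2_6) (Nat.ble 6 c)
noncomputable def col2_s_8_10 (c : Nat) : Nat := @Bool.rec (fun _ => Nat) (col2_8) (col2_9) (Nat.ble 9 c)
noncomputable def col2_s_7_10 (c : Nat) : Nat := @Bool.rec (fun _ => Nat) (col2_7) (col2_s_8_10 c) (Nat.ble 8 c)
noncomputable def col2_s_5_10 (c : Nat) : Nat := @Bool.rec (fun _ => Nat) (col2_s_5_7 c) (col2_s_7_10 c) (Nat.ble 7 c)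
noncomputable def col2_s_0_10 (c : Nat) : Nat := @Bool.rec (fun _ => Nat) (col2_s_0_5 c) (col2_s_5_10 c) (Nat.ble 5 c)
noncomputable def col2 (i : Nat) : Nat := rdw 16 65535 (col2_s_0_10 (Nat.shiftRight i 12)) (Nat.land i 4095)
noncomputable def col3_s_0_2 (c : Nat) : Nat := @Bool.rec (fun _ => Nat) (col3_0) (col3_1) (Nat.ble 1 c)
noncomputable def col3_s_3_5 (c : Nat) : Nat := @Bool.rec (fun _ => Nat) (col3_3) (col3_4) (Nat.ble 4 c)
noncomputable def col3_s_2_5 (c : Nat) : Nat := @Bool.rec (fun _ => Nat) (col3_2) (col3_s_3_5 c) (Nat.ble 3 c)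
noncomputable def col3_s_0_5 (c : Nat) : Nat := @Bool.rec (fun _ => Nat) (col3_s_0_2 c) (col3_s_2_5 c) (Nat.ble 2 c)
noncomputable def col3_s_5_7 (c : Nat) : Nat := @Bool.rec (fun _ => Nat) (col3_5) (col3_6) (Nat.ble 6 c)
noncomputable def col3_s_8_10 (c : Nat) : Nat := @Bool.rec (fun _ => Nat) (col3_8) (col3_9) (Nat.ble 9 c)
noncomputable def col3_s_7_10 (c : Nat) : Nat := @Bool.rec (fun _ => Nat) (col3_7) (col3_s_8_10 c) (Nat.ble 8 c)
noncomputable def col3_s_5_10 (c : Nat) : Nat := @Bool.rec (fun _ => Nat) (col3_s_5_7 c) (col3_s_7_10 c) (Nat.ble 7 c)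
noncomputable def col3_s_0_10 (c : Nat) : Nat := @Bool.rec (fun _ => Nat) (col3_s_0_5 c) (col3_s_5_10 c) (Nat.ble 5 c)
noncomputable def col3 (i : Nat) : Nat := rdw 16 65535 (col3_s_0_10 (Nat.shiftRight i 12)) (Nat.land i 4095)
noncomputable def col4_s_0_2 (c : Nat) : Nat := @Bool.rec (fun _ => Nat) (col4_0) (col4_1) (Nat.ble 1 c)
noncomputable def col4_s_3_5 (c : Nat) : Nat := @Bool.rec (fun _ => Nat) (col4_3) (col4_4) (Nat.ble 4 c)
noncomputable def col4_s_2_5 (c : Nat) : Nat := @Bool.rec (fun _ => Nat) (col4_2) (col4_s_3_5 c) (Nat.ble 3 c)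
noncomputable def col4_s_0_5 (c : Nat) : Nat := @Bool.rec (fun _ => Nat) (col4_s_0_2 c) (col4_s_2_5 c) (Nat.ble 2 c)
noncomputable def col4_s_5_7 (c : Nat) : Nat := @Bool.rec (fun _ => Nat) (col4_5) (col4_6) (Nat.ble 6 c)
noncomputable def col4_s_8_10 (c : Nat) : Nat := @Bool.rec (fun _ => Nat) (col4_8) (col4_9) (Nat.ble 9 c)
noncomputable def col4_s_7_10 (c : Nat) : Nat := @Bool.rec (fun _ => Nat) (col4_7) (col4_s_8_10 c) (Nat.ble 8 c)
noncomputable def col4_s_5_10 (c : Nat) : Nat := @Bool.rec (fun _ => Nat) (col4_s_5_7 c) (col4_s_7_10 c) (Nat.ble 7 c)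
noncomputable def col4_s_0_10 (c : Nat) : Nat := @Bool.rec (fun _ => Nat) (col4_s_0_5 c) (col4_s_5_10 c) (Nat.ble 5 c)
noncomputable def col4 (i : Nat) : Nat := rdw 16 65535 (col4_s_0_10 (Nat.shiftRight i 12)) (Nat.land i 4095)
noncomputable def col5_s_0_2 (c : Nat) : Nat := @Bool.rec (fun _ => Nat) (col5_0) (col5_1) (Nat.ble 1 c)
noncomputable def col5_s_3_5 (c : Nat) : Nat := @Bool.rec (fun _ => Nat) (col5_3) (col5_4) (Nat.ble 4 c)
noncomputable def col5_s_2_5 (c : Nat) : Nat := @Bool.rec (fun _ => Nat) (col5_2) (col5_s_3_5 c) (Nat.ble 3 c)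
noncomputable def col5_s_0_5 (c : Nat) : Nat := @Bool.rec (fun _ => Nat) (col5_s_0_2 c) (col5_s_2_5 c) (Nat.ble 2 c)
noncomputable def col5_s_5_7 (c : Nat) : Nat := @Bool.rec (fun _ => Nat) (col5_5) (col5_6) (Nat.ble 6 c)
noncomputable def col5_s_8_10 (c : Nat) : Nat := @Bool.rec (fun _ => Nat) (col5_8) (col5_9) (Nat.ble 9 c)
noncomputable def col5_s_7_10 (c : Nat) : Nat := @Bool.rec (fun _ => Nat) (col5_7) (col5_s_8_10 c) (Nat.ble 8 c)
noncomputable def col5_s_5_10 (c : Nat) : Nat := @Bool.rec (fun _ => Nat) (col5_s_5_7 c) (col5_s_7_10 c) (Nat.ble 7 c)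
noncomputable def col5_s_0_10 (c : Nat) : Nat := @Bool.rec (fun _ => Nat) (col5_s_0_5 c) (col5_s_5_10 c) (Nat.ble 5 c)
noncomputable def col5 (i : Nat) : Nat := rdw 16 65535 (col5_s_0_10 (Nat.shiftRight i 12)) (Nat.land i 4095)
noncomputable def col6_s_0_2 (c : Nat) : Nat := @Bool.rec (fun _ => Nat) (col6_0) (col6_1) (Nat.ble 1 c)
noncomputable def col6_s_3_5 (c : Nat) : Nat := @Bool.rec (fun _ => Nat) (col6_3) (col6_4) (Nat.ble 4 c)
noncomputable def col6_s_2_5 (c : Nat) : Nat := @Bool.rec (fun _ => Nat) (col6_2) (col6_s_3_5 c) (Nat.ble 3 c)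
noncomputable def col6_s_0_5 (c : Nat) : Nat := @Bool.rec (fun _ => Nat) (col6_s_0_2 c) (col6_s_2_5 c) (Nat.ble 2 c)
noncomputable def col6_s_5_7 (c : Nat) : Nat := @Bool.rec (fun _ => Nat) (col6_5) (col6_6) (Nat.ble 6 c)
noncomputable def col6_s_8_10 (c : Nat) : Nat := @Bool.rec (fun _ => Nat) (col6_8) (col6_9) (Nat.ble 9 c)
noncomputable def col6_s_7_10 (c : Nat) : Nat := @Bool.rec (fun _ => Nat) (col6_7) (col6_s_8_10 c) (Nat.ble 8 c)
noncomputable def col6_s_5_10 (c : Nat) : Nat := @Bool.rec (fun _ => Nat) (col6_s_5_7 c) (col6_s_7_10 c) (Nat.ble 7 c)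
noncomputable def col6_s_0_10 (c : Nat) : Nat := @Bool.rec (fun _ => Nat) (col6_s_0_5 c) (col6_s_5_10 c) (Nat.ble 5 c)
noncomputable def col6 (i : Nat) : Nat := rdw 16 65535 (col6_s_0_10 (Nat.shiftRight i 12)) (Nat.land i 4095)
noncomputable def col7_s_0_2 (c : Nat) : Nat := @Bool.rec (fun _ => Nat) (col7_0) (col7_1) (Nat.ble 1 c)
noncomputable def col7_s_3_5 (c : Nat) : Nat := @Bool.rec (fun _ => Nat) (col7_3) (col7_4) (Nat.ble 4 c)
noncomputable def col7_s_2_5 (c : Nat) : Nat := @Bool.rec (fun _ => Nat) (col7_2) (col7_s_3_5 c) (Nat.ble 3 c)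
noncomputable def col7_s_0_5 (c : Nat) : Nat := @Bool.rec (fun _ => Nat) (col7_s_0_2 c) (col7_s_2_5 c) (Nat.ble 2 c)
noncomputable def col7_s_5_7 (c : Nat) : Nat := @Bool.rec (fun _ => Nat) (col7_5) (col7_6) (Nat.ble 6 c)
noncomputable def col7_s_8_10 (c : Nat) : Nat := @Bool.rec (fun _ => Nat) (col7_8) (col7_9) (Nat.ble 9 c)
noncomputable def col7_s_7_10 (c : Nat) : Nat := @Bool.rec (fun _ => Nat) (col7_7) (col7_s_8_10 c) (Nat.ble 8 c)
noncomputable def col7_s_5_10 (c : Nat) : Nat := @Bool.rec (fun _ => Nat) (col7_s_5_7 c) (col7_s_7_10 c) (Nat.ble 7 c)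
noncomputable def col7_s_0_10 (c : Nat) : Nat := @Bool.rec (fun _ => Nat) (col7_s_0_5 c) (col7_s_5_10 c) (Nat.ble 5 c)
noncomputable def col7 (i : Nat) : Nat := rdw 16 65535 (col7_s_0_10 (Nat.shiftRight i 12)) (Nat.land i 4095)
noncomputable def col8_s_0_2 (c : Nat) : Nat := @Bool.rec (fun _ => Nat) (col8_0) (col8_1) (Nat.ble 1 c)
noncomputable def col8_s_3_5 (c : Nat) : Nat := @Bool.rec (fun _ => Nat) (col8_3) (col8_4) (Nat.ble 4 c)
noncomputable def col8_s_2_5 (c : Nat) : Nat := @Bool.rec (fun _ => Nat) (col8_2) (col8_s_3_5 c) (Nat.ble 3 c)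
noncomputable def col8_s_0_5 (c : Nat) : Nat := @Bool.rec (fun _ => Nat) (col8_s_0_2 c) (col8_s_2_5 c) (Nat.ble 2 c)
noncomputable def col8_s_5_7 (c : Nat) : Nat := @Bool.rec (fun _ => Nat) (col8_5) (col8_6) (Nat.ble 6 c)
noncomputable def col8_s_8_10 (c : Nat) : Nat := @Bool.rec (fun _ => Nat) (col8_8) (col8_9) (Nat.ble 9 c)
noncomputable def col8_s_7_10 (c : Nat) : Nat := @Bool.rec (fun _ => Nat) (col8_7) (col8_s_8_10 c) (Nat.ble 8 c)
noncomputable def col8_s_5_10 (c : Nat) : Nat := @Bool.rec (fun _ => Nat) (col8_s_5_7 c) (col8_s_7_10 c) (Nat.ble 7 c)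
noncomputable def col8_s_0_10 (c : Nat) : Nat := @Bool.rec (fun _ => Nat) (col8_s_0_5 c) (col8_s_5_10 c) (Nat.ble 5 c)
noncomputable def col8 (i : Nat) : Nat := rdw 16 65535 (col8_s_0_10 (Nat.shiftRight i 12)) (Nat.land i 4095)
noncomputable def col9_s_0_2 (c : Nat) : Nat := @Bool.rec (fun _ => Nat) (col9_0) (col9_1) (Nat.ble 1 c)
noncomputable def col9_s_3_5 (c : Nat) : Nat := @Bool.rec (fun _ => Nat) (col9_3) (col9_4) (Nat.ble 4 c)
noncomputable def col9_s_2_5 (c : Nat) : Nat := @Bool.rec (fun _ => Nat) (col9_2) (col9_s_3_5 c) (Nat.ble 3 c)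
noncomputable def col9_s_0_5 (c : Nat) : Nat := @Bool.rec (fun _ => Nat) (col9_s_0_2 c) (col9_s_2_5 c) (Nat.ble 2 c)
noncomputable def col9_s_5_7 (c : Nat) : Nat := @Bool.rec (fun _ => Nat) (col9_5) (col9_6) (Nat.ble 6 c)
noncomputable def col9_s_8_10 (c : Nat) : Nat := @Bool.rec (fun _ => Nat) (col9_8) (col9_9) (Nat.ble 9 c)
noncomputable def col9_s_7_10 (c : Nat) : Nat := @Bool.rec (fun _ => Nat) (col9_7) (col9_s_8_10 c) (Nat.ble 8 c)
noncomputable def col9_s_5_10 (c : Nat) : Nat := @Bool.rec (fun _ => Nat) (col9_s_5_7 c) (col9_s_7_10 c) (Nat.ble 7 c)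
noncomputable def col9_s_0_10 (c : Nat) : Nat := @Bool.rec (fun _ => Nat) (col9_s_0_5 c) (col9_s_5_10 c) (Nat.ble 5 c)
noncomputable def col9 (i : Nat) : Nat := rdw 16 65535 (col9_s_0_10 (Nat.shiftRight i 12)) (Nat.land i 4095)
noncomputable def col10_s_0_2 (c : Nat) : Nat := @Bool.rec (fun _ => Nat) (col10_0) (col10_1) (Nat.ble 1 c)
noncomputable def col10_s_3_5 (c : Nat) : Nat := @Bool.rec (fun _ => Nat) (col10_3) (col10_4) (Nat.ble 4 c)
noncomputable def col10_s_2_5 (c : Nat) : Nat := @Bool.rec (fun _ => Nat) (col10_2) (col10_s_3_5 c) (Nat.ble 3 c)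
noncomputable def col10_s_0_5 (c : Nat) : Nat := @Bool.rec (fun _ => Nat) (col10_s_0_2 c) (col10_s_2_5 c) (Nat.ble 2 c)
noncomputable def col10_s_5_7 (c : Nat) : Nat := @Bool.rec (fun _ => Nat) (col10_5) (col10_6) (Nat.ble 6 c)
noncomputable def col10_s_8_10 (c : Nat) : Nat := @Bool.rec (fun _ => Nat) (col10_8) (col10_9) (Nat.ble 9 c)
noncomputable def col10_s_7_10 (c : Nat) : Nat := @Bool.rec (fun _ => Nat) (col10_7) (col10_s_8_10 c) (Nat.ble 8 c)
noncomputable def col10_s_5_10 (c : Nat) : Nat := @Bool.rec (fun _ => Nat) (col10_s_5_7 c) (col10_s_7_10 c) (Nat.ble 7 c)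
noncomputable def col10_s_0_10 (c : Nat) : Nat := @Bool.rec (fun _ => Nat) (col10_s_0_5 c) (col10_s_5_10 c) (Nat.ble 5 c)
noncomputable def col10 (i : Nat) : Nat := rdw 16 65535 (col10_s_0_10 (Nat.shiftRight i 12)) (Nat.land i 4095)
noncomputable def col11_s_0_2 (c : Nat) : Nat := @Bool.rec (fun _ => Nat) (col11_0) (col11_1) (Nat.ble 1 c)
noncomputable def col11_s_3_5 (c : Nat) : Nat := @Bool.rec (fun _ => Nat) (col11_3) (col11_4) (Nat.ble 4 c)
noncomputable def col11_s_2_5 (c : Nat) : Nat := @Bool.rec (fun _ => Nat) (col11_2) (col11_s_3_5 c) (Nat.ble 3 c)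
noncomputable def col11_s_0_5 (c : Nat) : Nat := @Bool.rec (fun _ => Nat) (col11_s_0_2 c) (col11_s_2_5 c) (Nat.ble 2 c)
noncomputable def col11_s_5_7 (c : Nat) : Nat := @Bool.rec (fun _ => Nat) (col11_5) (col11_6) (Nat.ble 6 c)
noncomputable def col11_s_8_10 (c : Nat) : Nat := @Bool.rec (fun _ => Nat) (col11_8) (col11_9) (Nat.ble 9 c)
noncomputable def col11_s_7_10 (c : Nat) : Nat := @Bool.rec (fun _ => Nat) (col11_7) (col11_s_8_10 c) (Nat.ble 8 c)
noncomputable def col11_s_5_10 (c : Nat) : Nat := @Bool.rec (fun _ => Nat) (col11_s_5_7 c) (col11_s_7_10 c) (Nat.ble 7 c)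
noncomputable def col11_s_0_10 (c : Nat) : Nat := @Bool.rec (fun _ => Nat) (col11_s_0_5 c) (col11_s_5_10 c) (Nat.ble 5 c)
noncomputable def col11 (i : Nat) : Nat := rdw 16 65535 (col11_s_0_10 (Nat.shiftRight i 12)) (Nat.land i 4095)
noncomputable def col12_s_0_2 (c : Nat) : Nat := @Bool.rec (fun _ => Nat) (col12_0) (col12_1) (Nat.ble 1 c)
noncomputable def col12_s_3_5 (c : Nat) : Nat := @Bool.rec (fun _ => Nat) (col12_3) (col12_4) (Nat.ble 4 c)
noncomputable def col12_s_2_5 (c : Nat) : Nat := @Bool.rec (fun _ => Nat) (col12_2) (col12_s_3_5 c) (Nat.ble 3 c)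
noncomputable def col12_s_0_5 (c : Nat) : Nat := @Bool.rec (fun _ => Nat) (col12_s_0_2 c) (col12_s_2_5 c) (Nat.ble 2 c)
noncomputable def col12_s_5_7 (c : Nat) : Nat := @Bool.rec (fun _ => Nat) (col12_5) (col12_6) (Nat.ble 6 c)
noncomputable def col12_s_8_10 (c : Nat) : Nat := @Bool.rec (fun _ => Nat) (col12_8) (col12_9) (Nat.ble 9 c)
noncomputable def col12_s_7_10 (c : Nat) : Nat := @Bool.rec (fun _ => Nat) (col12_7) (col12_s_8_10 c) (Nat.ble 8 c)
noncomputable def col12_s_5_10 (c : Nat) : Nat := @Bool.rec (fun _ => Nat) (col12_s_5_7 c) (col12_s_7_10 c) (Nat.ble 7 c)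
noncomputable def col12_s_0_10 (c : Nat) : Nat := @Bool.rec (fun _ => Nat) (col12_s_0_5 c) (col12_s_5_10 c) (Nat.ble 5 c)
noncomputable def col12 (i : Nat) : Nat := rdw 16 65535 (col12_s_0_10 (Nat.shiftRight i 12)) (Nat.land i 4095)
noncomputable def col13_s_0_2 (c : Nat) : Nat := @Bool.rec (fun _ => Nat) (col13_0) (col13_1) (Nat.ble 1 c)
noncomputable def col13_s_3_5 (c : Nat) : Nat := @Bool.rec (fun _ => Nat) (col13_3) (col13_4) (Nat.ble 4 c)
noncomputable def col13_s_2_5 (c : Nat) : Nat := @Bool.rec (fun _ => Nat) (col13_2) (col13_s_3_5 c) (Nat.ble 3 c)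
noncomputable def col13_s_0_5 (c : Nat) : Nat := @Bool.rec (fun _ => Nat) (col13_s_0_2 c) (col13_s_2_5 c) (Nat.ble 2 c)
noncomputable def col13_s_5_7 (c : Nat) : Nat := @Bool.rec (fun _ => Nat) (col13_5) (col13_6) (Nat.ble 6 c)
noncomputable def col13_s_8_10 (c : Nat) : Nat := @Bool.rec (fun _ => Nat) (col13_8) (col13_9) (Nat.ble 9 c)
noncomputable def col13_s_7_10 (c : Nat) : Nat := @Bool.rec (fun _ => Nat) (col13_7) (col13_s_8_10 c) (Nat.ble 8 c)
noncomputable def col13_s_5_10 (c : Nat) : Nat := @Bool.rec (fun _ => Nat) (col13_s_5_7 c) (col13_s_7_10 c) (Nat.ble 7 c)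
noncomputable def col13_s_0_10 (c : Nat) : Nat := @Bool.rec (fun _ => Nat) (col13_s_0_5 c) (col13_s_5_10 c) (Nat.ble 5 c)
noncomputable def col13 (i : Nat) : Nat := rdw 16 65535 (col13_s_0_10 (Nat.shiftRight i 12)) (Nat.land i 4095)
noncomputable def col14_s_0_2 (c : Nat) : Nat := @Bool.rec (fun _ => Nat) (col14_0) (col14_1) (Nat.ble 1 c)
noncomputable def col14_s_3_5 (c : Nat) : Nat := @Bool.rec (fun _ => Nat) (col14_3) (col14_4) (Nat.ble 4 c)
noncomputable def col14_s_2_5 (c : Nat) : Nat := @Bool.rec (fun _ => Nat) (col14_2) (col14_s_3_5 c) (Nat.ble 3 c)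
noncomputable def col14_s_0_5 (c : Nat) : Nat := @Bool.rec (fun _ => Nat) (col14_s_0_2 c) (col14_s_2_5 c) (Nat.ble 2 c)
noncomputable def col14_s_5_7 (c : Nat) : Nat := @Bool.rec (fun _ => Nat) (col14_5) (col14_6) (Nat.ble 6 c)
noncomputable def col14_s_8_10 (c : Nat) : Nat := @Bool.rec (fun _ => Nat) (col14_8) (col14_9) (Nat.ble 9 c)
noncomputable def col14_s_7_10 (c : Nat) : Nat := @Bool.rec (fun _ => Nat) (col14_7) (col14_s_8_10 c) (Nat.ble 8 c)
noncomputable def col14_s_5_10 (c : Nat) : Nat := @Bool.rec (fun _ => Nat) (col14_s_5_7 c) (col14_s_7_10 c) (Nat.ble 7 c)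
noncomputable def col14_s_0_10 (c : Nat) : Nat := @Bool.rec (fun _ => Nat) (col14_s_0_5 c) (col14_s_5_10 c) (Nat.ble 5 c)
noncomputable def col14 (i : Nat) : Nat := rdw 16 65535 (col14_s_0_10 (Nat.shiftRight i 12)) (Nat.land i 4095)
noncomputable def col15_s_0_2 (c : Nat) : Nat := @Bool.rec (fun _ => Nat) (col15_0) (col15_1) (Nat.ble 1 c)
noncomputable def col15_s_3_5 (c : Nat) : Nat := @Bool.rec (fun _ => Nat) (col15_3) (col15_4) (Nat.ble 4 c)
noncomputable def col15_s_2_5 (c : Nat) : Nat := @Bool.rec (fun _ => Nat) (col15_2) (col15_s_3_5 c) (Nat.ble 3 c)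
noncomputable def col15_s_0_5 (c : Nat) : Nat := @Bool.rec (fun _ => Nat) (col15_s_0_2 c) (col15_s_2_5 c) (Nat.ble 2 c)
noncomputable def col15_s_5_7 (c : Nat) : Nat := @Bool.rec (fun _ => Nat) (col15_5) (col15_6) (Nat.ble 6 c)
noncomputable def col15_s_8_10 (c : Nat) : Nat := @Bool.rec (fun _ => Nat) (col15_8) (col15_9) (Nat.ble 9 c)
noncomputable def col15_s_7_10 (c : Nat) : Nat := @Bool.rec (fun _ => Nat) (col15_7) (col15_s_8_10 c) (Nat.ble 8 c)
noncomputable def col15_s_5_10 (c : Nat) : Nat := @Bool.rec (fun _ => Nat) (col15_s_5_7 c) (col15_s_7_10 c) (Nat.ble 7 c)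
noncomputable def col15_s_0_10 (c : Nat) : Nat := @Bool.rec (fun _ => Nat) (col15_s_0_5 c) (col15_s_5_10 c) (Nat.ble 5 c)
noncomputable def col15 (i : Nat) : Nat := rdw 16 65535 (col15_s_0_10 (Nat.shiftRight i 12)) (Nat.land i 4095)
noncomputable def col16_s_0_2 (c : Nat) : Nat := @Bool.rec (fun _ => Nat) (col16_0) (col16_1) (Nat.ble 1 c)
noncomputable def col16_s_3_5 (c : Nat) : Nat := @Bool.rec (fun _ => Nat) (col16_3) (col16_4) (Nat.ble 4 c)
noncomputable def col16_s_2_5 (c : Nat) : Nat := @Bool.rec (fun _ => Nat) (col16_2) (col16_s_3_5 c) (Nat.ble 3 c)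
noncomputable def col16_s_0_5 (c : Nat) : Nat := @Bool.rec (fun _ => Nat) (col16_s_0_2 c) (col16_s_2_5 c) (Nat.ble 2 c)
noncomputable def col16_s_5_7 (c : Nat) : Nat := @Bool.rec (fun _ => Nat) (col16_5) (col16_6) (Nat.ble 6 c)
noncomputable def col16_s_8_10 (c : Nat) : Nat := @Bool.rec (fun _ => Nat) (col16_8) (col16_9) (Nat.ble 9 c)
noncomputable def col16_s_7_10 (c : Nat) : Nat := @Bool.rec (fun _ => Nat) (col16_7) (col16_s_8_10 c) (Nat.ble 8 c)
noncomputable def col16_s_5_10 (c : Nat) : Nat := @Bool.rec (fun _ => Nat) (col16_s_5_7 c) (col16_s_7_10 c) (Nat.ble 7 c)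
noncomputable def col16_s_0_10 (c : Nat) : Nat := @Bool.rec (fun _ => Nat) (col16_s_0_5 c) (col16_s_5_10 c) (Nat.ble 5 c)
noncomputable def col16 (i : Nat) : Nat := rdw 16 65535 (col16_s_0_10 (Nat.shiftRight i 12)) (Nat.land i 4095)
noncomputable def col17_s_0_2 (c : Nat) : Nat := @Bool.rec (fun _ => Nat) (col17_0) (col17_1) (Nat.ble 1 c)
noncomputable def col17_s_3_5 (c : Nat) : Nat := @Bool.rec (fun _ => Nat) (col17_3) (col17_4) (Nat.ble 4 c)
noncomputable def col17_s_2_5 (c : Nat) : Nat := @Bool.rec (fun _ => Nat) (col17_2) (col17_s_3_5 c) (Nat.ble 3 c)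
noncomputable def col17_s_0_5 (c : Nat) : Nat := @Bool.rec (fun _ => Nat) (col17_s_0_2 c) (col17_s_2_5 c) (Nat.ble 2 c)
noncomputable def col17_s_5_7 (c : Nat) : Nat := @Bool.rec (fun _ => Nat) (col17_5) (col17_6) (Nat.ble 6 c)
noncomputable def col17_s_8_10 (c : Nat) : Nat := @Bool.rec (fun _ => Nat) (col17_8) (col17_9) (Nat.ble 9 c)
noncomputable def col17_s_7_10 (c : Nat) : Nat := @Bool.rec (fun _ => Nat) (col17_7) (col17_s_8_10 c) (Nat.ble 8 c)
noncomputable def col17_s_5_10 (c : Nat) : Nat := @Bool.rec (fun _ => Nat) (col17_s_5_7 c) (col17_s_7_10 c) (Nat.ble 7 c)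
noncomputable def col17_s_0_10 (c : Nat) : Nat := @Bool.rec (fun _ => Nat) (col17_s_0_5 c) (col17_s_5_10 c) (Nat.ble 5 c)
noncomputable def col17 (i : Nat) : Nat := rdw 16 65535 (col17_s_0_10 (Nat.shiftRight i 12)) (Nat.land i 4095)
noncomputable def col18_s_0_2 (c : Nat) : Nat := @Bool.rec (fun _ => Nat) (col18_0) (col18_1) (Nat.ble 1 c)
noncomputable def col18_s_3_5 (c : Nat) : Nat := @Bool.rec (fun _ => Nat) (col18_3) (col18_4) (Nat.ble 4 c)
noncomputable def col18_s_2_5 (c : Nat) : Nat := @Bool.rec (fun _ => Nat) (col18_2) (col18_s_3_5 c) (Nat.ble 3 c)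
noncomputable def col18_s_0_5 (c : Nat) : Nat := @Bool.rec (fun _ => Nat) (col18_s_0_2 c) (col18_s_2_5 c) (Nat.ble 2 c)
noncomputable def col18_s_5_7 (c : Nat) : Nat := @Bool.rec (fun _ => Nat) (col18_5) (col18_6) (Nat.ble 6 c)
noncomputable def col18_s_8_10 (c : Nat) : Nat := @Bool.rec (fun _ => Nat) (col18_8) (col18_9) (Nat.ble 9 c)
noncomputable def col18_s_7_10 (c : Nat) : Nat := @Bool.rec (fun _ => Nat) (col18_7) (col18_s_8_10 c) (Nat.ble 8 c)
noncomputable def col18_s_5_10 (c : Nat) : Nat := @Bool.rec (fun _ => Nat) (col18_s_5_7 c) (col18_s_7_10 c) (Nat.ble 7 c)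
noncomputable def col18_s_0_10 (c : Nat) : Nat := @Bool.rec (fun _ => Nat) (col18_s_0_5 c) (col18_s_5_10 c) (Nat.ble 5 c)
noncomputable def col18 (i : Nat) : Nat := rdw 16 65535 (col18_s_0_10 (Nat.shiftRight i 12)) (Nat.land i 4095)
noncomputable def col19_s_0_2 (c : Nat) : Nat := @Bool.rec (fun _ => Nat) (col19_0) (col19_1) (Nat.ble 1 c)
noncomputable def col19_s_3_5 (c : Nat) : Nat := @Bool.rec (fun _ => Nat) (col19_3) (col19_4) (Nat.ble 4 c)
noncomputable def col19_s_2_5 (c : Nat) : Nat := @Bool.rec (fun _ => Nat) (col19_2) (col19_s_3_5 c) (Nat.ble 3 c)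
noncomputable def col19_s_0_5 (c : Nat) : Nat := @Bool.rec (fun _ => Nat) (col19_s_0_2 c) (col19_s_2_5 c) (Nat.ble 2 c)
noncomputable def col19_s_5_7 (c : Nat) : Nat := @Bool.rec (fun _ => Nat) (col19_5) (col19_6) (Nat.ble 6 c)
noncomputable def col19_s_8_10 (c : Nat) : Nat := @Bool.rec (fun _ => Nat) (col19_8) (col19_9) (Nat.ble 9 c)
noncomputable def col19_s_7_10 (c : Nat) : Nat := @Bool.rec (fun _ => Nat) (col19_7) (col19_s_8_10 c) (Nat.ble 8 c)
noncomputable def col19_s_5_10 (c : Nat) : Nat := @Bool.rec (fun _ => Nat) (col19_s_5_7 c) (col19_s_7_10 c) (Nat.ble 7 c)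
noncomputable def col19_s_0_10 (c : Nat) : Nat := @Bool.rec (fun _ => Nat) (col19_s_0_5 c) (col19_s_5_10 c) (Nat.ble 5 c)
noncomputable def col19 (i : Nat) : Nat := rdw 16 65535 (col19_s_0_10 (Nat.shiftRight i 12)) (Nat.land i 4095)
noncomputable def col20_s_0_2 (c : Nat) : Nat := @Bool.rec (fun _ => Nat) (col20_0) (col20_1) (Nat.ble 1 c)
noncomputable def col20_s_3_5 (c : Nat) : Nat := @Bool.rec (fun _ => Nat) (col20_3) (col20_4) (Nat.ble 4 c)
noncomputable def col20_s_2_5 (c : Nat) : Nat := @Bool.rec (fun _ => Nat) (col20_2) (col20_s_3_5 c) (Nat.ble 3 c)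
noncomputable def col20_s_0_5 (c : Nat) : Nat := @Bool.rec (fun _ => Nat) (col20_s_0_2 c) (col20_s_2_5 c) (Nat.ble 2 c)
noncomputable def col20_s_5_7 (c : Nat) : Nat := @Bool.rec (fun _ => Nat) (col20_5) (col20_6) (Nat.ble 6 c)
noncomputable def col20_s_8_10 (c : Nat) : Nat := @Bool.rec (fun _ => Nat) (col20_8) (col20_9) (Nat.ble 9 c)
noncomputable def col20_s_7_10 (c : Nat) : Nat := @Bool.rec (fun _ => Nat) (col20_7) (col20_s_8_10 c) (Nat.ble 8 c)
noncomputable def col20_s_5_10 (c : Nat) : Nat := @Bool.rec (fun _ => Nat) (col20_s_5_7 c) (col20_s_7_10 c) (Nat.ble 7 c)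
noncomputable def col20_s_0_10 (c : Nat) : Nat := @Bool.rec (fun _ => Nat) (col20_s_0_5 c) (col20_s_5_10 c) (Nat.ble 5 c)
noncomputable def col20 (i : Nat) : Nat := rdw 16 65535 (col20_s_0_10 (Nat.shiftRight i 12)) (Nat.land i 4095)
noncomputable def col21_s_0_2 (c : Nat) : Nat := @Bool.rec (fun _ => Nat) (col21_0) (col21_1) (Nat.ble 1 c)
noncomputable def col21_s_3_5 (c : Nat) : Nat := @Bool.rec (fun _ => Nat) (col21_3) (col21_4) (Nat.ble 4 c)
noncomputable def col21_s_2_5 (c : Nat) : Nat := @Bool.rec (fun _ => Nat) (col21_2) (col21_s_3_5 c) (Nat.ble 3 c)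
noncomputable def col21_s_0_5 (c : Nat) : Nat := @Bool.rec (fun _ => Nat) (col21_s_0_2 c) (col21_s_2_5 c) (Nat.ble 2 c)
noncomputable def col21_s_5_7 (c : Nat) : Nat := @Bool.rec (fun _ => Nat) (col21_5) (col21_6) (Nat.ble 6 c)
noncomputable def col21_s_8_10 (c : Nat) : Nat := @Bool.rec (fun _ => Nat) (col21_8) (col21_9) (Nat.ble 9 c)
noncomputable def col21_s_7_10 (c : Nat) : Nat := @Bool.rec (fun _ => Nat) (col21_7) (col21_s_8_10 c) (Nat.ble 8 c)
noncomputable def col21_s_5_10 (c : Nat) : Nat := @Bool.rec (fun _ => Nat) (col21_s_5_7 c) (col21_s_7_10 c) (Nat.ble 7 c)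
noncomputable def col21_s_0_10 (c : Nat) : Nat := @Bool.rec (fun _ => Nat) (col21_s_0_5 c) (col21_s_5_10 c) (Nat.ble 5 c)
noncomputable def col21 (i : Nat) : Nat := rdw 16 65535 (col21_s_0_10 (Nat.shiftRight i 12)) (Nat.land i 4095)
noncomputable def finTab_s_1_3 (c : Nat) : Nat := @Bool.rec (fun _ => Nat) (finTab_1) (finTab_2) (Nat.ble 2 c)
noncomputable def finTab_s_0_3 (c : Nat) : Nat := @Bool.rec (fun _ => Nat) (finTab_0) (finTab_s_1_3 c) (Nat.ble 1 c)
noncomputable def finTab_s_4_6 (c : Nat) : Nat := @Bool.rec (fun _ => Nat) (finTab_4) (finTab_5) (Nat.ble 5 c)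
noncomputable def finTab_s_3_6 (c : Nat) : Nat := @Bool.rec (fun _ => Nat) (finTab_3) (finTab_s_4_6 c) (Nat.ble 4 c)
noncomputable def finTab_s_0_6 (c : Nat) : Nat := @Bool.rec (fun _ => Nat) (finTab_s_0_3 c) (finTab_s_3_6 c) (Nat.ble 3 c)
noncomputable def finTab_s_7_9 (c : Nat) : Nat := @Bool.rec (fun _ => Nat) (finTab_7) (finTab_8) (Nat.ble 8 c)
noncomputable def finTab_s_6_9 (c : Nat) : Nat := @Bool.rec (fun _ => Nat) (finTab_6) (finTab_s_7_9 c) (Nat.ble 7 c)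
noncomputable def finTab_s_10_12 (c : Nat) : Nat := @Bool.rec (fun _ => Nat) (finTab_10) (finTab_11) (Nat.ble 11 c)
noncomputable def finTab_s_9_12 (c : Nat) : Nat := @Bool.rec (fun _ => Nat) (finTab_9) (finTab_s_10_12 c) (Nat.ble 10 c)
noncomputable def finTab_s_6_12 (c : Nat) : Nat := @Bool.rec (fun _ => Nat) (finTab_s_6_9 c) (finTab_s_9_12 c) (Nat.ble 9 c)
noncomputable def finTab_s_0_12 (c : Nat) : Nat := @Bool.rec (fun _ => Nat) (finTab_s_0_6 c) (finTab_s_6_12 c) (Nat.ble 6 c)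
noncomputable def finTab_s_13_15 (c : Nat) : Nat := @Bool.rec (fun _ => Nat) (finTab_13) (finTab_14) (Nat.ble 14 c)
noncomputable def finTab_s_12_15 (c : Nat) : Nat := @Bool.rec (fun _ => Nat) (finTab_12) (finTab_s_13_15 c) (Nat.ble 13 c)
noncomputable def finTab_s_16_18 (c : Nat) : Nat := @Bool.rec (fun _ => Nat) (finTab_16) (finTab_17) (Nat.ble 17 c)
noncomputable def finTab_s_15_18 (c : Nat) : Nat := @Bool.rec (fun _ => Nat) (finTab_15) (finTab_s_16_18 c) (Nat.ble 16 c)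
noncomputable def finTab_s_12_18 (c : Nat) : Nat := @Bool.rec (fun _ => Nat) (finTab_s_12_15 c) (finTab_s_15_18 c) (Nat.ble 15 c)
noncomputable def finTab_s_19_21 (c : Nat) : Nat := @Bool.rec (fun _ => Nat) (finTab_19) (finTab_20) (Nat.ble 20 c)
noncomputable def finTab_s_18_21 (c : Nat) : Nat := @Bool.rec (fun _ => Nat) (finTab_18) (finTab_s_19_21 c) (Nat.ble 19 c)
noncomputable def finTab_s_22_24 (c : Nat) : Nat := @Bool.rec (fun _ => Nat) (finTab_22) (finTab_23) (Nat.ble 23 c)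
noncomputable def finTab_s_21_24 (c : Nat) : Nat := @Bool.rec (fun _ => Nat) (finTab_21) (finTab_s_22_24 c) (Nat.ble 22 c)
noncomputable def finTab_s_18_24 (c : Nat) : Nat := @Bool.rec (fun _ => Nat) (finTab_s_18_21 c) (finTab_s_21_24 c) (Nat.ble 21 c)
noncomputable def finTab_s_12_24 (c : Nat) : Nat := @Bool.rec (fun _ => Nat) (finTab_s_12_18 c) (finTab_s_18_24 c) (Nat.ble 18 c)
noncomputable def finTab_s_0_24 (c : Nat) : Nat := @Bool.rec (fun _ => Nat) (finTab_s_0_12 c) (finTab_s_12_24 c) (Nat.ble 12 c)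
noncomputable def finTab_s_25_27 (c : Nat) : Nat := @Bool.rec (fun _ => Nat) (finTab_25) (finTab_26) (Nat.ble 26 c)
noncomputable def finTab_s_24_27 (c : Nat) : Nat := @Bool.rec (fun _ => Nat) (finTab_24) (finTab_s_25_27 c) (Nat.ble 25 c)
noncomputable def finTab_s_28_30 (c : Nat) : Nat := @Bool.rec (fun _ => Nat) (finTab_28) (finTab_29) (Nat.ble 29 c)
noncomputable def finTab_s_27_30 (c : Nat) : Nat := @Bool.rec (fun _ => Nat) (finTab_27) (finTab_s_28_30 c) (Nat.ble 28 c)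
noncomputable def finTab_s_24_30 (c : Nat) : Nat := @Bool.rec (fun _ => Nat) (finTab_s_24_27 c) (finTab_s_27_30 c) (Nat.ble 27 c)
noncomputable def finTab_s_31_33 (c : Nat) : Nat := @Bool.rec (fun _ => Nat) (finTab_31) (finTab_32) (Nat.ble 32 c)
noncomputable def finTab_s_30_33 (c : Nat) : Nat := @Bool.rec (fun _ => Nat) (finTab_30) (finTab_s_31_33 c) (Nat.ble 31 c)
noncomputable def finTab_s_34_36 (c : Nat) : Nat := @Bool.rec (fun _ => Nat) (finTab_34) (finTab_35) (Nat.ble 35 c)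
noncomputable def finTab_s_33_36 (c : Nat) : Nat := @Bool.rec (fun _ => Nat) (finTab_33) (finTab_s_34_36 c) (Nat.ble 34 c)
noncomputable def finTab_s_30_36 (c : Nat) : Nat := @Bool.rec (fun _ => Nat) (finTab_s_30_33 c) (finTab_s_33_36 c) (Nat.ble 33 c)
noncomputable def finTab_s_24_36 (c : Nat) : Nat := @Bool.rec (fun _ => Nat) (finTab_s_24_30 c) (finTab_s_30_36 c) (Nat.ble 30 c)
noncomputable def finTab_s_37_39 (c : Nat) : Nat := @Bool.rec (fun _ => Nat) (finTab_37) (finTab_38) (Nat.ble 38 c)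
noncomputable def finTab_s_36_39 (c : Nat) : Nat := @Bool.rec (fun _ => Nat) (finTab_36) (finTab_s_37_39 c) (Nat.ble 37 c)
noncomputable def finTab_s_40_42 (c : Nat) : Nat := @Bool.rec (fun _ => Nat) (finTab_40) (finTab_41) (Nat.ble 41 c)
noncomputable def finTab_s_39_42 (c : Nat) : Nat := @Bool.rec (fun _ => Nat) (finTab_39) (finTab_s_40_42 c) (Nat.ble 40 c)
noncomputable def finTab_s_36_42 (c : Nat) : Nat := @Bool.rec (fun _ => Nat) (finTab_s_36_39 c) (finTab_s_39_42 c) (Nat.ble 39 c)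
noncomputable def finTab_s_43_45 (c : Nat) : Nat := @Bool.rec (fun _ => Nat) (finTab_43) (finTab_44) (Nat.ble 44 c)
noncomputable def finTab_s_42_45 (c : Nat) : Nat := @Bool.rec (fun _ => Nat) (finTab_42) (finTab_s_43_45 c) (Nat.ble 43 c)
noncomputable def finTab_s_45_47 (c : Nat) : Nat := @Bool.rec (fun _ => Nat) (finTab_45) (finTab_46) (Nat.ble 46 c)
noncomputable def finTab_s_47_49 (c : Nat) : Nat := @Bool.rec (fun _ => Nat) (finTab_47) (finTab_48) (Nat.ble 48 c)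
noncomputable def finTab_s_45_49 (c : Nat) : Nat := @Bool.rec (fun _ => Nat) (finTab_s_45_47 c) (finTab_s_47_49 c) (Nat.ble 47 c)
noncomputable def finTab_s_42_49 (c : Nat) : Nat := @Bool.rec (fun _ => Nat) (finTab_s_42_45 c) (finTab_s_45_49 c) (Nat.ble 45 c)
noncomputable def finTab_s_36_49 (c : Nat) : Nat := @Bool.rec (fun _ => Nat) (finTab_s_36_42 c) (finTab_s_42_49 c) (Nat.ble 42 c)
noncomputable def finTab_s_24_49 (c : Nat) : Nat := @Bool.rec (fun _ => Nat) (finTab_s_24_36 c) (finTab_s_36_49 c) (Nat.ble 36 c)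
noncomputable def finTab_s_0_49 (c : Nat) : Nat := @Bool.rec (fun _ => Nat) (finTab_s_0_24 c) (finTab_s_24_49 c) (Nat.ble 24 c)
noncomputable def finTab_s_50_52 (c : Nat) : Nat := @Bool.rec (fun _ => Nat) (finTab_50) (finTab_51) (Nat.ble 51 c)
noncomputable def finTab_s_49_52 (c : Nat) : Nat := @Bool.rec (fun _ => Nat) (finTab_49) (finTab_s_50_52 c) (Nat.ble 50 c)
noncomputable def finTab_s_53_55 (c : Nat) : Nat := @Bool.rec (fun _ => Nat) (finTab_53) (finTab_54) (Nat.ble 54 c)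
noncomputable def finTab_s_52_55 (c : Nat) : Nat := @Bool.rec (fun _ => Nat) (finTab_52) (finTab_s_53_55 c) (Nat.ble 53 c)
noncomputable def finTab_s_49_55 (c : Nat) : Nat := @Bool.rec (fun _ => Nat) (finTab_s_49_52 c) (finTab_s_52_55 c) (Nat.ble 52 c)
noncomputable def finTab_s_56_58 (c : Nat) : Nat := @Bool.rec (fun _ => Nat) (finTab_56) (finTab_57) (Nat.ble 57 c)
noncomputable def finTab_s_55_58 (c : Nat) : Nat := @Bool.rec (fun _ => Nat) (finTab_55) (finTab_s_56_58 c) (Nat.ble 56 c)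
noncomputable def finTab_s_59_61 (c : Nat) : Nat := @Bool.rec (fun _ => Nat) (finTab_59) (finTab_60) (Nat.ble 60 c)
noncomputable def finTab_s_58_61 (c : Nat) : Nat := @Bool.rec (fun _ => Nat) (finTab_58) (finTab_s_59_61 c) (Nat.ble 59 c)
noncomputable def finTab_s_55_61 (c : Nat) : Nat := @Bool.rec (fun _ => Nat) (finTab_s_55_58 c) (finTab_s_58_61 c) (Nat.ble 58 c)
noncomputable def finTab_s_49_61 (c : Nat) : Nat := @Bool.rec (fun _ => Nat) (finTab_s_49_55 c) (finTab_s_55_61 c) (Nat.ble 55 c)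
noncomputable def finTab_s_62_64 (c : Nat) : Nat := @Bool.rec (fun _ => Nat) (finTab_62) (finTab_63) (Nat.ble 63 c)
noncomputable def finTab_s_61_64 (c : Nat) : Nat := @Bool.rec (fun _ => Nat) (finTab_61) (finTab_s_62_64 c) (Nat.ble 62 c)
noncomputable def finTab_s_65_67 (c : Nat) : Nat := @Bool.rec (fun _ => Nat) (finTab_65) (finTab_66) (Nat.ble 66 c)
noncomputable def finTab_s_64_67 (c : Nat) : Nat := @Bool.rec (fun _ => Nat) (finTab_64) (finTab_s_65_67 c) (Nat.ble 65 c)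
noncomputable def finTab_s_61_67 (c : Nat) : Nat := @Bool.rec (fun _ => Nat) (finTab_s_61_64 c) (finTab_s_64_67 c) (Nat.ble 64 c)
noncomputable def finTab_s_68_70 (c : Nat) : Nat := @Bool.rec (fun _ => Nat) (finTab_68) (finTab_69) (Nat.ble 69 c)
noncomputable def finTab_s_67_70 (c : Nat) : Nat := @Bool.rec (fun _ => Nat) (finTab_67) (finTab_s_68_70 c) (Nat.ble 68 c)
noncomputable def finTab_s_70_72 (c : Nat) : Nat := @Bool.rec (fun _ => Nat) (finTab_70) (finTab_71) (Nat.ble 71 c)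
noncomputable def finTab_s_72_74 (c : Nat) : Nat := @Bool.rec (fun _ => Nat) (finTab_72) (finTab_73) (Nat.ble 73 c)
noncomputable def finTab_s_70_74 (c : Nat) : Nat := @Bool.rec (fun _ => Nat) (finTab_s_70_72 c) (finTab_s_72_74 c) (Nat.ble 72 c)
noncomputable def finTab_s_67_74 (c : Nat) : Nat := @Bool.rec (fun _ => Nat) (finTab_s_67_70 c) (finTab_s_70_74 c) (Nat.ble 70 c)
noncomputable def finTab_s_61_74 (c : Nat) : Nat := @Bool.rec (fun _ => Nat) (finTab_s_61_67 c) (finTab_s_67_74 c) (Nat.ble 67 c)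
noncomputable def finTab_s_49_74 (c : Nat) : Nat := @Bool.rec (fun _ => Nat) (finTab_s_49_61 c) (finTab_s_61_74 c) (Nat.ble 61 c)
noncomputable def finTab_s_75_77 (c : Nat) : Nat := @Bool.rec (fun _ => Nat) (finTab_75) (finTab_76) (Nat.ble 76 c)
noncomputable def finTab_s_74_77 (c : Nat) : Nat := @Bool.rec (fun _ => Nat) (finTab_74) (finTab_s_75_77 c) (Nat.ble 75 c)
noncomputable def finTab_s_78_80 (c : Nat) : Nat := @Bool.rec (fun _ => Nat) (finTab_78) (finTab_79) (Nat.ble 79 c)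
noncomputable def finTab_s_77_80 (c : Nat) : Nat := @Bool.rec (fun _ => Nat) (finTab_77) (finTab_s_78_80 c) (Nat.ble 78 c)
noncomputable def finTab_s_74_80 (c : Nat) : Nat := @Bool.rec (fun _ => Nat) (finTab_s_74_77 c) (finTab_s_77_80 c) (Nat.ble 77 c)
noncomputable def finTab_s_81_83 (c : Nat) : Nat := @Bool.rec (fun _ => Nat) (finTab_81) (finTab_82) (Nat.ble 82 c)
noncomputable def finTab_s_80_83 (c : Nat) : Nat := @Bool.rec (fun _ => Nat) (finTab_80) (finTab_s_81_83 c) (Nat.ble 81 c)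
noncomputable def finTab_s_84_86 (c : Nat) : Nat := @Bool.rec (fun _ => Nat) (finTab_84) (finTab_85) (Nat.ble 85 c)
noncomputable def finTab_s_83_86 (c : Nat) : Nat := @Bool.rec (fun _ => Nat) (finTab_83) (finTab_s_84_86 c) (Nat.ble 84 c)
noncomputable def finTab_s_80_86 (c : Nat) : Nat := @Bool.rec (fun _ => Nat) (finTab_s_80_83 c) (finTab_s_83_86 c) (Nat.ble 83 c)
noncomputable def finTab_s_74_86 (c : Nat) : Nat := @Bool.rec (fun _ => Nat) (finTab_s_74_80 c) (finTab_s_80_86 c) (Nat.ble 80 c)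
noncomputable def finTab_s_87_89 (c : Nat) : Nat := @Bool.rec (fun _ => Nat) (finTab_87) (finTab_88) (Nat.ble 88 c)
noncomputable def finTab_s_86_89 (c : Nat) : Nat := @Bool.rec (fun _ => Nat) (finTab_86) (finTab_s_87_89 c) (Nat.ble 87 c)
noncomputable def finTab_s_90_92 (c : Nat) : Nat := @Bool.rec (fun _ => Nat) (finTab_90) (finTab_91) (Nat.ble 91 c)
noncomputable def finTab_s_89_92 (c : Nat) : Nat := @Bool.rec (fun _ => Nat) (finTab_89) (finTab_s_90_92 c) (Nat.ble 90 c)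
noncomputable def finTab_s_86_92 (c : Nat) : Nat := @Bool.rec (fun _ => Nat) (finTab_s_86_89 c) (finTab_s_89_92 c) (Nat.ble 89 c)
noncomputable def finTab_s_93_95 (c : Nat) : Nat := @Bool.rec (fun _ => Nat) (finTab_93) (finTab_94) (Nat.ble 94 c)
noncomputable def finTab_s_92_95 (c : Nat) : Nat := @Bool.rec (fun _ => Nat) (finTab_92) (finTab_s_93_95 c) (Nat.ble 93 c)
noncomputable def finTab_s_95_97 (c : Nat) : Nat := @Bool.rec (fun _ => Nat) (finTab_95) (finTab_96) (Nat.ble 96 c)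
noncomputable def finTab_s_97_99 (c : Nat) : Nat := @Bool.rec (fun _ => Nat) (finTab_97) (finTab_98) (Nat.ble 98 c)
noncomputable def finTab_s_95_99 (c : Nat) : Nat := @Bool.rec (fun _ => Nat) (finTab_s_95_97 c) (finTab_s_97_99 c) (Nat.ble 97 c)
noncomputable def finTab_s_92_99 (c : Nat) : Nat := @Bool.rec (fun _ => Nat) (finTab_s_92_95 c) (finTab_s_95_99 c) (Nat.ble 95 c)
noncomputable def finTab_s_86_99 (c : Nat) : Nat := @Bool.rec (fun _ => Nat) (finTab_s_86_92 c) (finTab_s_92_99 c) (Nat.ble 92 c)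
noncomputable def finTab_s_74_99 (c : Nat) : Nat := @Bool.rec (fun _ => Nat) (finTab_s_74_86 c) (finTab_s_86_99 c) (Nat.ble 86 c)
noncomputable def finTab_s_49_99 (c : Nat) : Nat := @Bool.rec (fun _ => Nat) (finTab_s_49_74 c) (finTab_s_74_99 c) (Nat.ble 74 c)
noncomputable def finTab_s_0_99 (c : Nat) : Nat := @Bool.rec (fun _ => Nat) (finTab_s_0_49 c) (finTab_s_49_99 c) (Nat.ble 49 c)
noncomputable def finTab_s_100_102 (c : Nat) : Nat := @Bool.rec (fun _ => Nat) (finTab_100) (finTab_101) (Nat.ble 101 c)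
noncomputable def finTab_s_99_102 (c : Nat) : Nat := @Bool.rec (fun _ => Nat) (finTab_99) (finTab_s_100_102 c) (Nat.ble 100 c)
noncomputable def finTab_s_103_105 (c : Nat) : Nat := @Bool.rec (fun _ => Nat) (finTab_103) (finTab_104) (Nat.ble 104 c)
noncomputable def finTab_s_102_105 (c : Nat) : Nat := @Bool.rec (fun _ => Nat) (finTab_102) (finTab_s_103_105 c) (Nat.ble 103 c)
noncomputable def finTab_s_99_105 (c : Nat) : Nat := @Bool.rec (fun _ => Nat) (finTab_s_99_102 c) (finTab_s_102_105 c) (Nat.ble 102 c)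
noncomputable def finTab_s_106_108 (c : Nat) : Nat := @Bool.rec (fun _ => Nat) (finTab_106) (finTab_107) (Nat.ble 107 c)
noncomputable def finTab_s_105_108 (c : Nat) : Nat := @Bool.rec (fun _ => Nat) (finTab_105) (finTab_s_106_108 c) (Nat.ble 106 c)
noncomputable def finTab_s_109_111 (c : Nat) : Nat := @Bool.rec (fun _ => Nat) (finTab_109) (finTab_110) (Nat.ble 110 c)
noncomputable def finTab_s_108_111 (c : Nat) : Nat := @Bool.rec (fun _ => Nat) (finTab_108) (finTab_s_109_111 c) (Nat.ble 109 c)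
noncomputable def finTab_s_105_111 (c : Nat) : Nat := @Bool.rec (fun _ => Nat) (finTab_s_105_108 c) (finTab_s_108_111 c) (Nat.ble 108 c)
noncomputable def finTab_s_99_111 (c : Nat) : Nat := @Bool.rec (fun _ => Nat) (finTab_s_99_105 c) (finTab_s_105_111 c) (Nat.ble 105 c)
noncomputable def finTab_s_112_114 (c : Nat) : Nat := @Bool.rec (fun _ => Nat) (finTab_112) (finTab_113) (Nat.ble 113 c)
noncomputable def finTab_s_111_114 (c : Nat) : Nat := @Bool.rec (fun _ => Nat) (finTab_111) (finTab_s_112_114 c) (Nat.ble 112 c)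
noncomputable def finTab_s_115_117 (c : Nat) : Nat := @Bool.rec (fun _ => Nat) (finTab_115) (finTab_116) (Nat.ble 116 c)
noncomputable def finTab_s_114_117 (c : Nat) : Nat := @Bool.rec (fun _ => Nat) (finTab_114) (finTab_s_115_117 c) (Nat.ble 115 c)
noncomputable def finTab_s_111_117 (c : Nat) : Nat := @Bool.rec (fun _ => Nat) (finTab_s_111_114 c) (finTab_s_114_117 c) (Nat.ble 114 c)
noncomputable def finTab_s_118_120 (c : Nat) : Nat := @Bool.rec (fun _ => Nat) (finTab_118) (finTab_119) (Nat.ble 119 c)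
noncomputable def finTab_s_117_120 (c : Nat) : Nat := @Bool.rec (fun _ => Nat) (finTab_117) (finTab_s_118_120 c) (Nat.ble 118 c)
noncomputable def finTab_s_120_122 (c : Nat) : Nat := @Bool.rec (fun _ => Nat) (finTab_120) (finTab_121) (Nat.ble 121 c)
noncomputable def finTab_s_122_124 (c : Nat) : Nat := @Bool.rec (fun _ => Nat) (finTab_122) (finTab_123) (Nat.ble 123 c)
noncomputable def finTab_s_120_124 (c : Nat) : Nat := @Bool.rec (fun _ => Nat) (finTab_s_120_122 c) (finTab_s_122_124 c) (Nat.ble 122 c)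
noncomputable def finTab_s_117_124 (c : Nat) : Nat := @Bool.rec (fun _ => Nat) (finTab_s_117_120 c) (finTab_s_120_124 c) (Nat.ble 120 c)
noncomputable def finTab_s_111_124 (c : Nat) : Nat := @Bool.rec (fun _ => Nat) (finTab_s_111_117 c) (finTab_s_117_124 c) (Nat.ble 117 c)
noncomputable def finTab_s_99_124 (c : Nat) : Nat := @Bool.rec (fun _ => Nat) (finTab_s_99_111 c) (finTab_s_111_124 c) (Nat.ble 111 c)
noncomputable def finTab_s_125_127 (c : Nat) : Nat := @Bool.rec (fun _ => Nat) (finTab_125) (finTab_126) (Nat.ble 126 c)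
noncomputable def finTab_s_124_127 (c : Nat) : Nat := @Bool.rec (fun _ => Nat) (finTab_124) (finTab_s_125_127 c) (Nat.ble 125 c)
noncomputable def finTab_s_128_130 (c : Nat) : Nat := @Bool.rec (fun _ => Nat) (finTab_128) (finTab_129) (Nat.ble 129 c)
noncomputable def finTab_s_127_130 (c : Nat) : Nat := @Bool.rec (fun _ => Nat) (finTab_127) (finTab_s_128_130 c) (Nat.ble 128 c)
noncomputable def finTab_s_124_130 (c : Nat) : Nat := @Bool.rec (fun _ => Nat) (finTab_s_124_127 c) (finTab_s_127_130 c) (Nat.ble 127 c)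
noncomputable def finTab_s_131_133 (c : Nat) : Nat := @Bool.rec (fun _ => Nat) (finTab_131) (finTab_132) (Nat.ble 132 c)
noncomputable def finTab_s_130_133 (c : Nat) : Nat := @Bool.rec (fun _ => Nat) (finTab_130) (finTab_s_131_133 c) (Nat.ble 131 c)
noncomputable def finTab_s_134_136 (c : Nat) : Nat := @Bool.rec (fun _ => Nat) (finTab_134) (finTab_135) (Nat.ble 135 c)
noncomputable def finTab_s_133_136 (c : Nat) : Nat := @Bool.rec (fun _ => Nat) (finTab_133) (finTab_s_134_136 c) (Nat.ble 134 c)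
noncomputable def finTab_s_130_136 (c : Nat) : Nat := @Bool.rec (fun _ => Nat) (finTab_s_130_133 c) (finTab_s_133_136 c) (Nat.ble 133 c)
noncomputable def finTab_s_124_136 (c : Nat) : Nat := @Bool.rec (fun _ => Nat) (finTab_s_124_130 c) (finTab_s_130_136 c) (Nat.ble 130 c)
noncomputable def finTab_s_137_139 (c : Nat) : Nat := @Bool.rec (fun _ => Nat) (finTab_137) (finTab_138) (Nat.ble 138 c)
noncomputable def finTab_s_136_139 (c : Nat) : Nat := @Bool.rec (fun _ => Nat) (finTab_136) (finTab_s_137_139 c) (Nat.ble 137 c)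
noncomputable def finTab_s_140_142 (c : Nat) : Nat := @Bool.rec (fun _ => Nat) (finTab_140) (finTab_141) (Nat.ble 141 c)
noncomputable def finTab_s_139_142 (c : Nat) : Nat := @Bool.rec (fun _ => Nat) (finTab_139) (finTab_s_140_142 c) (Nat.ble 140 c)
noncomputable def finTab_s_136_142 (c : Nat) : Nat := @Bool.rec (fun _ => Nat) (finTab_s_136_139 c) (finTab_s_139_142 c) (Nat.ble 139 c)
noncomputable def finTab_s_143_145 (c : Nat) : Nat := @Bool.rec (fun _ => Nat) (finTab_143) (finTab_144) (Nat.ble 144 c)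
noncomputable def finTab_s_142_145 (c : Nat) : Nat := @Bool.rec (fun _ => Nat) (finTab_142) (finTab_s_143_145 c) (Nat.ble 143 c)
noncomputable def finTab_s_145_147 (c : Nat) : Nat := @Bool.rec (fun _ => Nat) (finTab_145) (finTab_146) (Nat.ble 146 c)
noncomputable def finTab_s_147_149 (c : Nat) : Nat := @Bool.rec (fun _ => Nat) (finTab_147) (finTab_148) (Nat.ble 148 c)
noncomputable def finTab_s_145_149 (c : Nat) : Nat := @Bool.rec (fun _ => Nat) (finTab_s_145_147 c) (finTab_s_147_149 c) (Nat.ble 147 c)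
noncomputable def finTab_s_142_149 (c : Nat) : Nat := @Bool.rec (fun _ => Nat) (finTab_s_142_145 c) (finTab_s_145_149 c) (Nat.ble 145 c)
noncomputable def finTab_s_136_149 (c : Nat) : Nat := @Bool.rec (fun _ => Nat) (finTab_s_136_142 c) (finTab_s_142_149 c) (Nat.ble 142 c)
noncomputable def finTab_s_124_149 (c : Nat) : Nat := @Bool.rec (fun _ => Nat) (finTab_s_124_136 c) (finTab_s_136_149 c) (Nat.ble 136 c)
noncomputable def finTab_s_99_149 (c : Nat) : Nat := @Bool.rec (fun _ => Nat) (finTab_s_99_124 c) (finTab_s_124_149 c) (Nat.ble 124 c)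
noncomputable def finTab_s_150_152 (c : Nat) : Nat := @Bool.rec (fun _ => Nat) (finTab_150) (finTab_151) (Nat.ble 151 c)
noncomputable def finTab_s_149_152 (c : Nat) : Nat := @Bool.rec (fun _ => Nat) (finTab_149) (finTab_s_150_152 c) (Nat.ble 150 c)
noncomputable def finTab_s_153_155 (c : Nat) : Nat := @Bool.rec (fun _ => Nat) (finTab_153) (finTab_154) (Nat.ble 154 c)
noncomputable def finTab_s_152_155 (c : Nat) : Nat := @Bool.rec (fun _ => Nat) (finTab_152) (finTab_s_153_155 c) (Nat.ble 153 c)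
noncomputable def finTab_s_149_155 (c : Nat) : Nat := @Bool.rec (fun _ => Nat) (finTab_s_149_152 c) (finTab_s_152_155 c) (Nat.ble 152 c)
noncomputable def finTab_s_156_158 (c : Nat) : Nat := @Bool.rec (fun _ => Nat) (finTab_156) (finTab_157) (Nat.ble 157 c)
noncomputable def finTab_s_155_158 (c : Nat) : Nat := @Bool.rec (fun _ => Nat) (finTab_155) (finTab_s_156_158 c) (Nat.ble 156 c)
noncomputable def finTab_s_159_161 (c : Nat) : Nat := @Bool.rec (fun _ => Nat) (finTab_159) (finTab_160) (Nat.ble 160 c)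
noncomputable def finTab_s_158_161 (c : Nat) : Nat := @Bool.rec (fun _ => Nat) (finTab_158) (finTab_s_159_161 c) (Nat.ble 159 c)
noncomputable def finTab_s_155_161 (c : Nat) : Nat := @Bool.rec (fun _ => Nat) (finTab_s_155_158 c) (finTab_s_158_161 c) (Nat.ble 158 c)
noncomputable def finTab_s_149_161 (c : Nat) : Nat := @Bool.rec (fun _ => Nat) (finTab_s_149_155 c) (finTab_s_155_161 c) (Nat.ble 155 c)
noncomputable def finTab_s_162_164 (c : Nat) : Nat := @Bool.rec (fun _ => Nat) (finTab_162) (finTab_163) (Nat.ble 163 c)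
noncomputable def finTab_s_161_164 (c : Nat) : Nat := @Bool.rec (fun _ => Nat) (finTab_161) (finTab_s_162_164 c) (Nat.ble 162 c)
noncomputable def finTab_s_165_167 (c : Nat) : Nat := @Bool.rec (fun _ => Nat) (finTab_165) (finTab_166) (Nat.ble 166 c)
noncomputable def finTab_s_164_167 (c : Nat) : Nat := @Bool.rec (fun _ => Nat) (finTab_164) (finTab_s_165_167 c) (Nat.ble 165 c)
noncomputable def finTab_s_161_167 (c : Nat) : Nat := @Bool.rec (fun _ => Nat) (finTab_s_161_164 c) (finTab_s_164_167 c) (Nat.ble 164 c)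
noncomputable def finTab_s_168_170 (c : Nat) : Nat := @Bool.rec (fun _ => Nat) (finTab_168) (finTab_169) (Nat.ble 169 c)
noncomputable def finTab_s_167_170 (c : Nat) : Nat := @Bool.rec (fun _ => Nat) (finTab_167) (finTab_s_168_170 c) (Nat.ble 168 c)
noncomputable def finTab_s_170_172 (c : Nat) : Nat := @Bool.rec (fun _ => Nat) (finTab_170) (finTab_171) (Nat.ble 171 c)
noncomputable def finTab_s_172_174 (c : Nat) : Nat := @Bool.rec (fun _ => Nat) (finTab_172) (finTab_173) (Nat.ble 173 c)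
noncomputable def finTab_s_170_174 (c : Nat) : Nat := @Bool.rec (fun _ => Nat) (finTab_s_170_172 c) (finTab_s_172_174 c) (Nat.ble 172 c)
noncomputable def finTab_s_167_174 (c : Nat) : Nat := @Bool.rec (fun _ => Nat) (finTab_s_167_170 c) (finTab_s_170_174 c) (Nat.ble 170 c)
noncomputable def finTab_s_161_174 (c : Nat) : Nat := @Bool.rec (fun _ => Nat) (finTab_s_161_167 c) (finTab_s_167_174 c) (Nat.ble 167 c)
noncomputable def finTab_s_149_174 (c : Nat) : Nat := @Bool.rec (fun _ => Nat) (finTab_s_149_161 c) (finTab_s_161_174 c) (Nat.ble 161 c)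
noncomputable def finTab_s_175_177 (c : Nat) : Nat := @Bool.rec (fun _ => Nat) (finTab_175) (finTab_176) (Nat.ble 176 c)
noncomputable def finTab_s_174_177 (c : Nat) : Nat := @Bool.rec (fun _ => Nat) (finTab_174) (finTab_s_175_177 c) (Nat.ble 175 c)
noncomputable def finTab_s_178_180 (c : Nat) : Nat := @Bool.rec (fun _ => Nat) (finTab_178) (finTab_179) (Nat.ble 179 c)
noncomputable def finTab_s_177_180 (c : Nat) : Nat := @Bool.rec (fun _ => Nat) (finTab_177) (finTab_s_178_180 c) (Nat.ble 178 c)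
noncomputable def finTab_s_174_180 (c : Nat) : Nat := @Bool.rec (fun _ => Nat) (finTab_s_174_177 c) (finTab_s_177_180 c) (Nat.ble 177 c)
noncomputable def finTab_s_181_183 (c : Nat) : Nat := @Bool.rec (fun _ => Nat) (finTab_181) (finTab_182) (Nat.ble 182 c)
noncomputable def finTab_s_180_183 (c : Nat) : Nat := @Bool.rec (fun _ => Nat) (finTab_180) (finTab_s_181_183 c) (Nat.ble 181 c)
noncomputable def finTab_s_184_186 (c : Nat) : Nat := @Bool.rec (fun _ => Nat) (finTab_184) (finTab_185) (Nat.ble 185 c)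
noncomputable def finTab_s_183_186 (c : Nat) : Nat := @Bool.rec (fun _ => Nat) (finTab_183) (finTab_s_184_186 c) (Nat.ble 184 c)
noncomputable def finTab_s_180_186 (c : Nat) : Nat := @Bool.rec (fun _ => Nat) (finTab_s_180_183 c) (finTab_s_183_186 c) (Nat.ble 183 c)
noncomputable def finTab_s_174_186 (c : Nat) : Nat := @Bool.rec (fun _ => Nat) (finTab_s_174_180 c) (finTab_s_180_186 c) (Nat.ble 180 c)
noncomputable def finTab_s_187_189 (c : Nat) : Nat := @Bool.rec (fun _ => Nat) (finTab_187) (finTab_188) (Nat.ble 188 c)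
noncomputable def finTab_s_186_189 (c : Nat) : Nat := @Bool.rec (fun _ => Nat) (finTab_186) (finTab_s_187_189 c) (Nat.ble 187 c)
noncomputable def finTab_s_190_192 (c : Nat) : Nat := @Bool.rec (fun _ => Nat) (finTab_190) (finTab_191) (Nat.ble 191 c)
noncomputable def finTab_s_189_192 (c : Nat) : Nat := @Bool.rec (fun _ => Nat) (finTab_189) (finTab_s_190_192 c) (Nat.ble 190 c)
noncomputable def finTab_s_186_192 (c : Nat) : Nat := @Bool.rec (fun _ => Nat) (finTab_s_186_189 c) (finTab_s_189_192 c) (Nat.ble 189 c)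
noncomputable def finTab_s_193_195 (c : Nat) : Nat := @Bool.rec (fun _ => Nat) (finTab_193) (finTab_194) (Nat.ble 194 c)
noncomputable def finTab_s_192_195 (c : Nat) : Nat := @Bool.rec (fun _ => Nat) (finTab_192) (finTab_s_193_195 c) (Nat.ble 193 c)
noncomputable def finTab_s_195_197 (c : Nat) : Nat := @Bool.rec (fun _ => Nat) (finTab_195) (finTab_196) (Nat.ble 196 c)
noncomputable def finTab_s_197_199 (c : Nat) : Nat := @Bool.rec (fun _ => Nat) (finTab_197) (finTab_198) (Nat.ble 198 c)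
noncomputable def finTab_s_195_199 (c : Nat) : Nat := @Bool.rec (fun _ => Nat) (finTab_s_195_197 c) (finTab_s_197_199 c) (Nat.ble 197 c)
noncomputable def finTab_s_192_199 (c : Nat) : Nat := @Bool.rec (fun _ => Nat) (finTab_s_192_195 c) (finTab_s_195_199 c) (Nat.ble 195 c)
noncomputable def finTab_s_186_199 (c : Nat) : Nat := @Bool.rec (fun _ => Nat) (finTab_s_186_192 c) (finTab_s_192_199 c) (Nat.ble 192 c)
noncomputable def finTab_s_174_199 (c : Nat) : Nat := @Bool.rec (fun _ => Nat) (finTab_s_174_186 c) (finTab_s_186_199 c) (Nat.ble 186 c)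
noncomputable def finTab_s_149_199 (c : Nat) : Nat := @Bool.rec (fun _ => Nat) (finTab_s_149_174 c) (finTab_s_174_199 c) (Nat.ble 174 c)
noncomputable def finTab_s_99_199 (c : Nat) : Nat := @Bool.rec (fun _ => Nat) (finTab_s_99_149 c) (finTab_s_149_199 c) (Nat.ble 149 c)
noncomputable def finTab_s_0_199 (c : Nat) : Nat := @Bool.rec (fun _ => Nat) (finTab_s_0_99 c) (finTab_s_99_199 c) (Nat.ble 99 c)
noncomputable def finTab (i : Nat) : Nat := rdw 21 2097151 (finTab_s_0_199 (Nat.shiftRight i 12)) (Nat.land i 4095)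
noncomputable def clsTab_s_0_2 (c : Nat) : Nat := @Bool.rec (fun _ => Nat) (clsTab_0) (clsTab_1) (Nat.ble 1 c)
noncomputable def clsTab_s_3_5 (c : Nat) : Nat := @Bool.rec (fun _ => Nat) (clsTab_3) (clsTab_4) (Nat.ble 4 c)
noncomputable def clsTab_s_2_5 (c : Nat) : Nat := @Bool.rec (fun _ => Nat) (clsTab_2) (clsTab_s_3_5 c) (Nat.ble 3 c)
noncomputable def clsTab_s_0_5 (c : Nat) : Nat := @Bool.rec (fun _ => Nat) (clsTab_s_0_2 c) (clsTab_s_2_5 c) (Nat.ble 2 c)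
noncomputable def clsTab_s_5_7 (c : Nat) : Nat := @Bool.rec (fun _ => Nat) (clsTab_5) (clsTab_6) (Nat.ble 6 c)
noncomputable def clsTab_s_8_10 (c : Nat) : Nat := @Bool.rec (fun _ => Nat) (clsTab_8) (clsTab_9) (Nat.ble 9 c)
noncomputable def clsTab_s_7_10 (c : Nat) : Nat := @Bool.rec (fun _ => Nat) (clsTab_7) (clsTab_s_8_10 c) (Nat.ble 8 c)
noncomputable def clsTab_s_5_10 (c : Nat) : Nat := @Bool.rec (fun _ => Nat) (clsTab_s_5_7 c) (clsTab_s_7_10 c) (Nat.ble 7 c)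
noncomputable def clsTab_s_0_10 (c : Nat) : Nat := @Bool.rec (fun _ => Nat) (clsTab_s_0_5 c) (clsTab_s_5_10 c) (Nat.ble 5 c)
noncomputable def clsTab_s_10_12 (c : Nat) : Nat := @Bool.rec (fun _ => Nat) (clsTab_10) (clsTab_11) (Nat.ble 11 c)
noncomputable def clsTab_s_13_15 (c : Nat) : Nat := @Bool.rec (fun _ => Nat) (clsTab_13) (clsTab_14) (Nat.ble 14 c)
noncomputable def clsTab_s_12_15 (c : Nat) : Nat := @Bool.rec (fun _ => Nat) (clsTab_12) (clsTab_s_13_15 c) (Nat.ble 13 c)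
noncomputable def clsTab_s_10_15 (c : Nat) : Nat := @Bool.rec (fun _ => Nat) (clsTab_s_10_12 c) (clsTab_s_12_15 c) (Nat.ble 12 c)
noncomputable def clsTab_s_16_18 (c : Nat) : Nat := @Bool.rec (fun _ => Nat) (clsTab_16) (clsTab_17) (Nat.ble 17 c)
noncomputable def clsTab_s_15_18 (c : Nat) : Nat := @Bool.rec (fun _ => Nat) (clsTab_15) (clsTab_s_16_18 c) (Nat.ble 16 c)
noncomputable def clsTab_s_19_21 (c : Nat) : Nat := @Bool.rec (fun _ => Nat) (clsTab_19) (clsTab_20) (Nat.ble 20 c)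
noncomputable def clsTab_s_18_21 (c : Nat) : Nat := @Bool.rec (fun _ => Nat) (clsTab_18) (clsTab_s_19_21 c) (Nat.ble 19 c)
noncomputable def clsTab_s_15_21 (c : Nat) : Nat := @Bool.rec (fun _ => Nat) (clsTab_s_15_18 c) (clsTab_s_18_21 c) (Nat.ble 18 c)
noncomputable def clsTab_s_10_21 (c : Nat) : Nat := @Bool.rec (fun _ => Nat) (clsTab_s_10_15 c) (clsTab_s_15_21 c) (Nat.ble 15 c)
noncomputable def clsTab_s_0_21 (c : Nat) : Nat := @Bool.rec (fun _ => Nat) (clsTab_s_0_10 c) (clsTab_s_10_21 c) (Nat.ble 10 c)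
noncomputable def clsTab (i : Nat) : Nat := rdw 16 65535 (clsTab_s_0_21 (Nat.shiftRight i 12)) (Nat.land i 4095)
noncomputable def oparTab_s_0_2 (c : Nat) : Nat := @Bool.rec (fun _ => Nat) (oparTab_0) (oparTab_1) (Nat.ble 1 c)
noncomputable def oparTab_s_3_5 (c : Nat) : Nat := @Bool.rec (fun _ => Nat) (oparTab_3) (oparTab_4) (Nat.ble 4 c)
noncomputable def oparTab_s_2_5 (c : Nat) : Nat := @Bool.rec (fun _ => Nat) (oparTab_2) (oparTab_s_3_5 c) (Nat.ble 3 c)
noncomputable def oparTab_s_0_5 (c : Nat) : Nat := @Bool.rec (fun _ => Nat) (oparTab_s_0_2 c) (oparTab_s_2_5 c) (Nat.ble 2 c)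
noncomputable def oparTab_s_5_7 (c : Nat) : Nat := @Bool.rec (fun _ => Nat) (oparTab_5) (oparTab_6) (Nat.ble 6 c)
noncomputable def oparTab_s_8_10 (c : Nat) : Nat := @Bool.rec (fun _ => Nat) (oparTab_8) (oparTab_9) (Nat.ble 9 c)
noncomputable def oparTab_s_7_10 (c : Nat) : Nat := @Bool.rec (fun _ => Nat) (oparTab_7) (oparTab_s_8_10 c) (Nat.ble 8 c)
noncomputable def oparTab_s_5_10 (c : Nat) : Nat := @Bool.rec (fun _ => Nat) (oparTab_s_5_7 c) (oparTab_s_7_10 c) (Nat.ble 7 c)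
noncomputable def oparTab_s_0_10 (c : Nat) : Nat := @Bool.rec (fun _ => Nat) (oparTab_s_0_5 c) (oparTab_s_5_10 c) (Nat.ble 5 c)
noncomputable def oparTab (i : Nat) : Nat := rdw 16 65535 (oparTab_s_0_10 (Nat.shiftRight i 12)) (Nat.land i 4095)
noncomputable def olabTab_s_0_2 (c : Nat) : Nat := @Bool.rec (fun _ => Nat) (olabTab_0) (olabTab_1) (Nat.ble 1 c)
noncomputable def olabTab (i : Nat) : Nat := rdw 2 3 (olabTab_s_0_2 (Nat.shiftRight i 15)) (Nat.land i 32767)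
noncomputable def srcF (t : Nat) : Nat := Nat.land (Atab t) 131071
noncomputable def tgtF (t : Nat) : Nat := Nat.land (Nat.shiftRight (Atab t) 17) 131071
noncomputable def ltF (t : Nat) : Nat := Nat.shiftRight (Atab t) 34
noncomputable def rhoF (t : Nat) : Nat := Nat.land (Btab (Nat.sub t 85350)) 255
noncomputable def rotF (t : Nat) : Nat := Nat.land (Nat.shiftRight (Btab (Nat.sub t 85350)) 8) 31
noncomputable def lenF (t : Nat) : Nat := Nat.land (Nat.shiftRight (Btab (Nat.sub t 85350)) 13) 63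
noncomputable def offF (t : Nat) : Nat := Nat.shiftRight (Btab (Nat.sub t 85350)) 19
noncomputable def pfF (j : Nat) : Nat := Nat.shiftRight (Ptab j) 1
noncomputable def pdF (j : Nat) : Nat := Nat.land (Ptab j) 1
noncomputable def tblF (i x : Nat) : Nat := @Bool.rec (fun _ => Nat) (@Bool.rec (fun _ => Nat) (@Bool.rec (fun _ => Nat) (@Bool.rec (fun _ => Nat) (col0 i) (col1 i) (Nat.ble 1 x)) (@Bool.rec (fun _ => Nat) (col2 i) (@Bool.rec (fun _ => Nat) (col3 i) (col4 i) (Nat.ble 4 x)) (Nat.ble 3 x)) (Nat.ble 2 x)) (@Bool.rec (fun _ => Nat) (@Bool.rec (fun _ => Nat) (col5 i) (@Bool.rec (fun _ => Nat) (col6 i) (col7 i) (Nat.ble 7 x)) (Nat.ble 6 x)) (@Bool.rec (fun _ => Nat) (col8 i) (@Bool.rec (fun _ => Nat) (col9 i) (col10 i) (Nat.ble 10 x)) (Nat.ble 9 x)) (Nat.ble 8 x)) (Nat.ble 5 x)) (@Bool.rec (fun _ => Nat) (@Bool.rec (fun _ => Nat) (@Bool.rec (fun _ => Nat) (col11 i) (col12 i) (Nat.ble 12 x)) (@Bool.rec (fun _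 => Nat) (col13 i) (@Bool.rec (fun _ => Nat) (col14 i) (col15 i) (Nat.ble 15 x)) (Nat.ble 14 x)) (Nat.ble 13 x)) (@Bool.rec (fun _ => Nat) (@Bool.rec (fun _ => Nat) (col16 i) (@Bool.rec (fun _ => Nat) (col17 i) (col18 i) (Nat.ble 18 x)) (Nat.ble 17 x)) (@Bool.rec (fun _ => Nat) (col19 i) (@Bool.rec (fun _ => Nat) (col20 i) (col21 i) (Nat.ble 21 x)) (Nat.ble 20 x)) (Nat.ble 19 x)) (Nat.ble 16 x)) (Nat.ble 11 x)
noncomputable def finE (i x : Nat) : Nat := finTab (Nat.add (Nat.mul i 22) x)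
noncomputable def finFF (i x : Nat) : Nat := Nat.shiftRight (finE i x) 1
noncomputable def finDF (i x : Nat) : Nat := Nat.land (finE i x) 1

noncomputable def D : Log :=
  { k := 22, inv := invE 22 PSC3J3p2.invR, nR := 152, rBase := rBtab, rLen := rLtab, RR := RRtab,
    M := 85346, nB := 4, F := 669915, src := srcF, lt := ltF, tgt := tgtF, rho := rhoF, rot := rotF,
    off := offF, len := lenF, pf := pfF, pd := pdF }

noncomputable def T : Tab :=
  { N := 36936, nameOf := nameTab, tbl := tblF, finF := finFF, finD := finDF, cls := clsTab }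

def subs : List (List Nat) := [
  [0],
  [2] ]

def rw0 : List Nat := [0, 0, 0, 0, 0, 0, 0, 0, 0, 0, 0, 0, 0, 0, 0, 0, 0]
def rw1 : List Nat := [2, 2]
def rw2 : List Nat := [4, 4, 4, 4, 4, 4, 4, 4, 4, 4, 4, 4, 4, 4, 4]
def rw3 : List Nat := [7, 4, 1, 2]
def rw4 : List Nat := [9, 6, 6, 6, 6, 6, 6, 6, 6]
def rw5 : List Nat := [11, 2, 6, 2, 6, 6, 2, 6, 2, 7, 2, 7, 7, 2, 7]
def rw6 : List Nat := [13, 0, 2, 6, 6, 2, 6, 0, 6, 2, 6, 6, 2, 6, 1, 6]
def rw7 : List Nat := [15, 0, 0, 6, 6, 2, 6, 6, 2, 6, 0, 6, 2, 6, 6, 2]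
def rw8 : List Nat := [17, 0, 0, 2, 0, 7, 7, 2, 6, 0, 2, 0, 2, 1, 2, 6, 2]
def rw9 : List Nat := [19, 0, 0, 2, 0, 7, 7, 2, 6, 2, 0, 2, 1, 2, 1, 6, 2]
def rw10 : List Nat := [21, 0, 2, 0, 2, 7, 2, 0, 7, 2, 0, 7, 2, 0, 7, 2, 7]
def rw11 : List Nat := [8, 8]
def rw12 : List Nat := [10, 10]
def rw13 : List Nat := [12, 12]
def rw14 : List Nat := [14, 14]
def rw15 : List Nat := [16, 16]
def rw16 : List Nat := [18, 18]
def rw17 : List Nat := [20, 20]
def rw18 : List Nat := [8, 0, 9, 1]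
def rw19 : List Nat := [8, 2, 9, 3]
def rw20 : List Nat := [8, 4, 9, 5]
def rw21 : List Nat := [8, 6, 9, 7]
def rw22 : List Nat := [10, 0, 11, 1]
def rw23 : List Nat := [10, 2, 11, 3]
def rw24 : List Nat := [10, 4, 11, 5]
def rw25 : List Nat := [10, 6, 11, 7]
def rw26 : List Nat := [12, 0, 13, 1]
def rw27 : List Nat := [12, 2, 13, 3]
def rw28 : List Nat := [12, 4, 13, 5]
def rw29 : List Nat := [12, 6, 13, 7]
def rw30 : List Nat := [14, 0, 15, 1]
def rw31 : List Nat := [14, 2, 15, 3]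
def rw32 : List Nat := [14, 4, 15, 5]
def rw33 : List Nat := [14, 6, 15, 7]
def rw34 : List Nat := [16, 0, 17, 1]
def rw35 : List Nat := [16, 2, 17, 3]
def rw36 : List Nat := [16, 4, 17, 5]
def rw37 : List Nat := [16, 6, 17, 7]
def rw38 : List Nat := [18, 0, 19, 1]
def rw39 : List Nat := [18, 2, 19, 3]
def rw40 : List Nat := [18, 4, 19, 5]
def rw41 : List Nat := [18, 6, 19, 7]
def rw42 : List Nat := [20, 0, 21, 1]
def rw43 : List Nat := [20, 2, 21, 3]
def rw44 : List Nat := [20, 4, 21, 5]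
def rw45 : List Nat := [20, 6, 21, 7]
def rw46 : List Nat := [0, 0, 0, 0, 0, 0, 0, 0, 0, 0, 0, 0, 0, 0, 0, 0, 0]
def rw47 : List Nat := [2, 2]
def rw48 : List Nat := [0, 0, 0, 2, 1, 2, 0, 2, 0, 0, 0, 2, 1, 2, 0, 2]
def rw49 : List Nat := [0, 0, 0, 0, 0, 2, 0, 0, 0, 0, 0, 2, 0, 0, 0, 0, 0, 2]
def rw50 : List Nat := [6, 0, 7, 1, 1]
def rw51 : List Nat := [6, 6, 0, 2, 7, 7, 1, 1, 3, 1, 3, 1, 3, 1]
def realLit : List (List Nat) := [rw0, rw1, rw2, rw3, rw4, rw5, rw6, rw7, rw8, rw9, rw10, rw11, rw12, rw13, rw14, rw15, rw16, rw17, rw18, rw19, rw20, rw21, rw22, rw23, rw24, rw25, rw26, rw27, rw28, rw29, rw30, rw31, rw32, rw33, rw34, rw35, rw36, rw37, rw38, rw39, rw40, rw41, rw42, rw43, rw44, rw45, rw46, rw47, rw48, rw49, rw50, rw51]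
noncomputable def actR0 (i : Nat) : Nat := col1 (col1 (col1 (col1 (col1 (col1 (col1 (col1 (col1 (col1 (col1 (col1 (col1 (col1 (col1 (col1 (col1 (i)))))))))))))))))
theorem actR0_eq (i : Nat) : actR0 i = Tab.act T D rw0 i := rfl
noncomputable def actR1 (i : Nat) : Nat := col3 (col3 (i))
theorem actR1_eq (i : Nat) : actR1 i = Tab.act T D rw1 i := rfl
noncomputable def actR2 (i : Nat) : Nat := col5 (col5 (col5 (col5 (col5 (col5 (col5 (col5 (col5 (col5 (col5 (col5 (col5 (col5 (col5 (i)))))))))))))))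
theorem actR2_eq (i : Nat) : actR2 i = Tab.act T D rw2 i := rfl
noncomputable def actR3 (i : Nat) : Nat := col6 (col5 (col0 (col3 (i))))
theorem actR3_eq (i : Nat) : actR3 i = Tab.act T D rw3 i := rfl
noncomputable def actR4 (i : Nat) : Nat := col8 (col7 (col7 (col7 (col7 (col7 (col7 (col7 (col7 (i)))))))))
theorem actR4_eq (i : Nat) : actR4 i = Tab.act T D rw4 i := rfl
noncomputable def actR5 (i : Nat) : Nat := col10 (col3 (col7 (col3 (col7 (col7 (col3 (col7 (col3 (col6 (col3 (col6 (col6 (col3 (col6 (i)))))))))))))))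
theorem actR5_eq (i : Nat) : actR5 i = Tab.act T D rw5 i := rfl
noncomputable def actR6 (i : Nat) : Nat := col12 (col1 (col3 (col7 (col7 (col3 (col7 (col1 (col7 (col3 (col7 (col7 (col3 (col7 (col0 (col7 (i))))))))))))))))
theorem actR6_eq (i : Nat) : actR6 i = Tab.act T D rw6 i := rfl
noncomputable def actR7 (i : Nat) : Nat := col14 (col1 (col1 (col7 (col7 (col3 (col7 (col7 (col3 (col7 (col1 (col7 (col3 (col7 (col7 (col3 (i))))))))))))))))
theorem actR7_eq (i : Nat) : actR7 i = Tab.act T D rw7 i := rfl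
noncomputable def actR8 (i : Nat) : Nat := col16 (col1 (col1 (col3 (col1 (col6 (col6 (col3 (col7 (col1 (col3 (col1 (col3 (col0 (col3 (col7 (col3 (i)))))))))))))))))
theorem actR8_eq (i : Nat) : actR8 i = Tab.act T D rw8 i := rfl
noncomputable def actR9 (i : Nat) : Nat := col18 (col1 (col1 (col3 (col1 (col6 (col6 (col3 (col7 (col3 (col1 (col3 (col0 (col3 (col0 (col7 (col3 (i)))))))))))))))))
theorem actR9_eq (i : Nat) : actR9 i = Tab.act T D rw9 i := rfl
noncomputable def actR10 (i : Nat) : Nat := col20 (col1 (col3 (col1 (col3 (col6 (col3 (col1 (col6 (col3 (col1 (col6 (col3 (col1 (col6 (col3 (col6 (i)))))))))))))))))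
theorem actR10_eq (i : Nat) : actR10 i = Tab.act T D rw10 i := rfl
noncomputable def actR11 (i : Nat) : Nat := col9 (col9 (i))
theorem actR11_eq (i : Nat) : actR11 i = Tab.act T D rw11 i := rfl
noncomputable def actR12 (i : Nat) : Nat := col11 (col11 (i))
theorem actR12_eq (i : Nat) : actR12 i = Tab.act T D rw12 i := rfl
noncomputable def actR13 (i : Nat) : Nat := col13 (col13 (i))
theorem actR13_eq (i : Nat) : actR13 i = Tab.act T D rw13 i := rfl
noncomputable def actR14 (i : Nat) : Nat := col15 (col15 (i))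
theorem actR14_eq (i : Nat) : actR14 i = Tab.act T D rw14 i := rfl
noncomputable def actR15 (i : Nat) : Nat := col17 (col17 (i))
theorem actR15_eq (i : Nat) : actR15 i = Tab.act T D rw15 i := rfl
noncomputable def actR16 (i : Nat) : Nat := col19 (col19 (i))
theorem actR16_eq (i : Nat) : actR16 i = Tab.act T D rw16 i := rfl
noncomputable def actR17 (i : Nat) : Nat := col21 (col21 (i))
theorem actR17_eq (i : Nat) : actR17 i = Tab.act T D rw17 i := rfl
noncomputable def actR18 (i : Nat) : Nat := col9 (col1 (col8 (col0 (i))))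
theorem actR18_eq (i : Nat) : actR18 i = Tab.act T D rw18 i := rfl
noncomputable def actR19 (i : Nat) : Nat := col9 (col3 (col8 (col2 (i))))
theorem actR19_eq (i : Nat) : actR19 i = Tab.act T D rw19 i := rfl
noncomputable def actR20 (i : Nat) : Nat := col9 (col5 (col8 (col4 (i))))
theorem actR20_eq (i : Nat) : actR20 i = Tab.act T D rw20 i := rfl
noncomputable def actR21 (i : Nat) : Nat := col9 (col7 (col8 (col6 (i))))
theorem actR21_eq (i : Nat) : actR21 i = Tab.act T D rw21 i := rfl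
noncomputable def actR22 (i : Nat) : Nat := col11 (col1 (col10 (col0 (i))))
theorem actR22_eq (i : Nat) : actR22 i = Tab.act T D rw22 i := rfl
noncomputable def actR23 (i : Nat) : Nat := col11 (col3 (col10 (col2 (i))))
theorem actR23_eq (i : Nat) : actR23 i = Tab.act T D rw23 i := rfl
noncomputable def actR24 (i : Nat) : Nat := col11 (col5 (col10 (col4 (i))))
theorem actR24_eq (i : Nat) : actR24 i = Tab.act T D rw24 i := rfl
noncomputable def actR25 (i : Nat) : Nat := col11 (col7 (col10 (col6 (i))))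
theorem actR25_eq (i : Nat) : actR25 i = Tab.act T D rw25 i := rfl
noncomputable def actR26 (i : Nat) : Nat := col13 (col1 (col12 (col0 (i))))
theorem actR26_eq (i : Nat) : actR26 i = Tab.act T D rw26 i := rfl
noncomputable def actR27 (i : Nat) : Nat := col13 (col3 (col12 (col2 (i))))
theorem actR27_eq (i : Nat) : actR27 i = Tab.act T D rw27 i := rfl
noncomputable def actR28 (i : Nat) : Nat := col13 (col5 (col12 (col4 (i))))
theorem actR28_eq (i : Nat) : actR28 i = Tab.act T D rw28 i := rfl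
noncomputable def actR29 (i : Nat) : Nat := col13 (col7 (col12 (col6 (i))))
theorem actR29_eq (i : Nat) : actR29 i = Tab.act T D rw29 i := rfl
noncomputable def actR30 (i : Nat) : Nat := col15 (col1 (col14 (col0 (i))))
theorem actR30_eq (i : Nat) : actR30 i = Tab.act T D rw30 i := rfl
noncomputable def actR31 (i : Nat) : Nat := col15 (col3 (col14 (col2 (i))))
theorem actR31_eq (i : Nat) : actR31 i = Tab.act T D rw31 i := rfl
noncomputable def actR32 (i : Nat) : Nat := col15 (col5 (col14 (col4 (i))))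
theorem actR32_eq (i : Nat) : actR32 i = Tab.act T D rw32 i := rfl
noncomputable def actR33 (i : Nat) : Nat := col15 (col7 (col14 (col6 (i))))
theorem actR33_eq (i : Nat) : actR33 i = Tab.act T D rw33 i := rfl
noncomputable def actR34 (i : Nat) : Nat := col17 (col1 (col16 (col0 (i))))
theorem actR34_eq (i : Nat) : actR34 i = Tab.act T D rw34 i := rfl
noncomputable def actR35 (i : Nat) : Nat := col17 (col3 (col16 (col2 (i))))
theorem actR35_eq (i : Nat) : actR35 i = Tab.act T D rw35 i := rfl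
noncomputable def actR36 (i : Nat) : Nat := col17 (col5 (col16 (col4 (i))))
theorem actR36_eq (i : Nat) : actR36 i = Tab.act T D rw36 i := rfl
noncomputable def actR37 (i : Nat) : Nat := col17 (col7 (col16 (col6 (i))))
theorem actR37_eq (i : Nat) : actR37 i = Tab.act T D rw37 i := rfl
noncomputable def actR38 (i : Nat) : Nat := col19 (col1 (col18 (col0 (i))))
theorem actR38_eq (i : Nat) : actR38 i = Tab.act T D rw38 i := rfl
noncomputable def actR39 (i : Nat) : Nat := col19 (col3 (col18 (col2 (i))))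
theorem actR39_eq (i : Nat) : actR39 i = Tab.act T D rw39 i := rfl
noncomputable def actR40 (i : Nat) : Nat := col19 (col5 (col18 (col4 (i))))
theorem actR40_eq (i : Nat) : actR40 i = Tab.act T D rw40 i := rfl
noncomputable def actR41 (i : Nat) : Nat := col19 (col7 (col18 (col6 (i))))
theorem actR41_eq (i : Nat) : actR41 i = Tab.act T D rw41 i := rfl
noncomputable def actR42 (i : Nat) : Nat := col21 (col1 (col20 (col0 (i))))
theorem actR42_eq (i : Nat) : actR42 i = Tab.act T D rw42 i := rfl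
noncomputable def actR43 (i : Nat) : Nat := col21 (col3 (col20 (col2 (i))))
theorem actR43_eq (i : Nat) : actR43 i = Tab.act T D rw43 i := rfl
noncomputable def actR44 (i : Nat) : Nat := col21 (col5 (col20 (col4 (i))))
theorem actR44_eq (i : Nat) : actR44 i = Tab.act T D rw44 i := rfl
noncomputable def actR45 (i : Nat) : Nat := col21 (col7 (col20 (col6 (i))))
theorem actR45_eq (i : Nat) : actR45 i = Tab.act T D rw45 i := rfl
noncomputable def actR46 (i : Nat) : Nat := col1 (col1 (col1 (col1 (col1 (col1 (col1 (col1 (col1 (col1 (col1 (col1 (col1 (col1 (col1 (col1 (col1 (i)))))))))))))))))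
theorem actR46_eq (i : Nat) : actR46 i = Tab.act T D rw46 i := rfl
noncomputable def actR47 (i : Nat) : Nat := col3 (col3 (i))
theorem actR47_eq (i : Nat) : actR47 i = Tab.act T D rw47 i := rfl
noncomputable def actR48 (i : Nat) : Nat := col1 (col1 (col1 (col3 (col0 (col3 (col1 (col3 (col1 (col1 (col1 (col3 (col0 (col3 (col1 (col3 (i))))))))))))))))
theorem actR48_eq (i : Nat) : actR48 i = Tab.act T D rw48 i := rfl
noncomputable def actR49 (i : Nat) : Nat := col1 (col1 (col1 (col1 (col1 (col3 (col1 (col1 (col1 (col1 (col1 (col3 (col1 (col1 (col1 (col1 (col1 (col3 (i))))))))))))))))))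
theorem actR49_eq (i : Nat) : actR49 i = Tab.act T D rw49 i := rfl
noncomputable def actR50 (i : Nat) : Nat := col7 (col1 (col6 (col0 (col0 (i)))))
theorem actR50_eq (i : Nat) : actR50 i = Tab.act T D rw50 i := rfl
noncomputable def actR51 (i : Nat) : Nat := col7 (col7 (col1 (col3 (col6 (col6 (col0 (col0 (col2 (col0 (col2 (col0 (col2 (col0 (i))))))))))))))
theorem actR51_eq (i : Nat) : actR51 i = Tab.act T D rw51 i := rfl

end Cfsg.Agent.Lib.Helper4.TCD.SC3J3p2A
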