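import Cfsg.Agent.Lib.Helper4.TCD_SC3J3p2A_Acc

namespace Cfsg.Agent.Lib.Helper4.TCD.SC3J3p2A

open Cfsg.Agent.Lib.Helper4.TC

set_option maxRecDepth 100000
set_option Elab.async false

theorem c_zero : D.zeroOK = true := by decide +kernel
theorem c_base : allBelow D.baseOK 4 = true := by decide +kernel
theorem c_let : allBelow D.letOK 22 = true := by decide +kernel
theorem c_cls0 : T.cls 0 = 0 := by decide +kernel
theorem c_name0 : T.nameOf 0 = 0 := by decide +kernel
theorem c_tab : D.relTabOK 0 (baseRels 22 PSC3J3p2.invR PSC3J3p2.P.real subs ++ (baseRels 22 PSC3J3p2.invR PSC3J3p2.P.real subs).map (invWord D.inv)) = true := by decide +kernel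
theorem c_real : PSC3J3p2.P.real = realLit := by decide +kernel
theorem c_subfix : subs.all (fun u => Nat.beq (Tab.act T D u 0) 0) = true := by decide +kernel
theorem c_subs : subs.all (fun u => u.all (fun x => Nat.ble (Nat.succ x) 22)) = true := by decide +kernel
theorem c_names_0 : allRange D.nameOK 1 60000 = true := by decide +kernel
theorem c_names_1 : allRange D.nameOK 60001 25345 = true := by decide +kernel
theorem c_cls_0 : allRange (T.clsOK D) 1 15000 = true := by decide +kernel
theorem c_cls_1 : allRange (T.clsOK D) 15001 15000 = true := by decide +kernel
theorem c_cls_2 : allRange (T.clsOK D) 30001 15000 = true := by decide +kernel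
theorem c_cls_3 : allRange (T.clsOK D) 45001 15000 = true := by decide +kernel
theorem c_cls_4 : allRange (T.clsOK D) 60001 15000 = true := by decide +kernel
theorem c_cls_5 : allRange (T.clsOK D) 75001 10345 = true := by decide +kernel
theorem c_rep_0 : allRange (T.repOK D) 0 30000 = true := by decide +kernel
theorem c_rep_1 : allRange (T.repOK D) 30000 6936 = true := by decide +kernel
theorem c_rel_0 : allRange D.relOK 85350 3750 = true := by decide +kernel
theorem c_rel_1 : allRange D.relOK 89100 3734 = true := by decide +kernel
theorem c_rel_2 : allRange D.relOK 92834 3847 = true := by decide +kernel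
theorem c_rel_3 : allRange D.relOK 96681 3330 = true := by decide +kernel
theorem c_rel_4 : allRange D.relOK 100011 3058 = true := by decide +kernel
theorem c_rel_5 : allRange D.relOK 103069 3253 = true := by decide +kernel
theorem c_rel_6 : allRange D.relOK 106322 3040 = true := by decide +kernel
theorem c_rel_7 : allRange D.relOK 109362 3435 = true := by decide +kernel
theorem c_rel_8 : allRange D.relOK 112797 3401 = true := by decide +kernel
theorem c_rel_9 : allRange D.relOK 116198 3761 = true := by decide +kernel
theorem c_rel_10 : allRange D.relOK 119959 3546 = true := by decide +kernel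
theorem c_rel_11 : allRange D.relOK 123505 3565 = true := by decide +kernel
theorem c_rel_12 : allRange D.relOK 127070 3722 = true := by decide +kernel
theorem c_rel_13 : allRange D.relOK 130792 3726 = true := by decide +kernel
theorem c_rel_14 : allRange D.relOK 134518 3838 = true := by decide +kernel
theorem c_rel_15 : allRange D.relOK 138356 3642 = true := by decide +kernel
theorem c_rel_16 : allRange D.relOK 141998 3464 = true := by decide +kernel
theorem c_rel_17 : allRange D.relOK 145462 3587 = true := by decide +kernel
theorem c_rel_18 : allRange D.relOK 149049 3729 = true := by decide +kernel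
theorem c_rel_19 : allRange D.relOK 152778 3258 = true := by decide +kernel
theorem c_rel_20 : allRange D.relOK 156036 3513 = true := by decide +kernel
theorem c_rel_21 : allRange D.relOK 159549 3554 = true := by decide +kernel
theorem c_rel_22 : allRange D.relOK 163103 3787 = true := by decide +kernel
theorem c_rel_23 : allRange D.relOK 166890 3456 = true := by decide +kernel
theorem c_rel_24 : allRange D.relOK 170346 3348 = true := by decide +kernel
theorem c_rel_25 : allRange D.relOK 173694 3696 = true := by decide +kernel
theorem c_rel_26 : allRange D.relOK 177390 3702 = true := by decide +kernel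
theorem c_rel_27 : allRange D.relOK 181092 3259 = true := by decide +kernel
theorem c_rel_28 : allRange D.relOK 184351 3555 = true := by decide +kernel
theorem c_rel_29 : allRange D.relOK 187906 3780 = true := by decide +kernel
theorem c_rel_30 : allRange D.relOK 191686 3287 = true := by decide +kernel
theorem c_rel_31 : allRange D.relOK 194973 3468 = true := by decide +kernel
theorem c_rel_32 : allRange D.relOK 198441 3116 = true := by decide +kernel
theorem c_rel_33 : allRange D.relOK 201557 3327 = true := by decide +kernel
theorem c_rel_34 : allRange D.relOK 204884 3618 = true := by decide +kernel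
theorem c_rel_35 : allRange D.relOK 208502 3448 = true := by decide +kernel
theorem c_rel_36 : allRange D.relOK 211950 3377 = true := by decide +kernel
theorem c_rel_37 : allRange D.relOK 215327 3245 = true := by decide +kernel
theorem c_rel_38 : allRange D.relOK 218572 3546 = true := by decide +kernel
theorem c_rel_39 : allRange D.relOK 222118 3467 = true := by decide +kernel
theorem c_rel_40 : allRange D.relOK 225585 3545 = true := by decide +kernel
theorem c_rel_41 : allRange D.relOK 229130 3332 = true := by decide +kernel
theorem c_rel_42 : allRange D.relOK 232462 3401 = true := by decide +kernel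
theorem c_rel_43 : allRange D.relOK 235863 3567 = true := by decide +kernel
theorem c_rel_44 : allRange D.relOK 239430 3265 = true := by decide +kernel
theorem c_rel_45 : allRange D.relOK 242695 2056 = true := by decide +kernel
theorem c_rel_46 : allRange D.relOK 244751 2200 = true := by decide +kernel
theorem c_rel_47 : allRange D.relOK 246951 2398 = true := by decide +kernel
theorem c_rel_48 : allRange D.relOK 249349 2257 = true := by decide +kernel
theorem c_rel_49 : allRange D.relOK 251606 2335 = true := by decide +kernel
theorem c_rel_50 : allRange D.relOK 253941 2206 = true := by decide +kernel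
theorem c_rel_51 : allRange D.relOK 256147 2150 = true := by decide +kernel
theorem c_rel_52 : allRange D.relOK 258297 2312 = true := by decide +kernel
theorem c_rel_53 : allRange D.relOK 260609 2213 = true := by decide +kernel
theorem c_rel_54 : allRange D.relOK 262822 2246 = true := by decide +kernel
theorem c_rel_55 : allRange D.relOK 265068 2332 = true := by decide +kernel
theorem c_rel_56 : allRange D.relOK 267400 2943 = true := by decide +kernel
theorem c_rel_57 : allRange D.relOK 270343 3066 = true := by decide +kernel
theorem c_rel_58 : allRange D.relOK 273409 3062 = true := by decide +kernel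
theorem c_rel_59 : allRange D.relOK 276471 3084 = true := by decide +kernel
theorem c_rel_60 : allRange D.relOK 279555 3024 = true := by decide +kernel
theorem c_rel_61 : allRange D.relOK 282579 3086 = true := by decide +kernel
theorem c_rel_62 : allRange D.relOK 285665 3053 = true := by decide +kernel
theorem c_rel_63 : allRange D.relOK 288718 3000 = true := by decide +kernel
theorem c_rel_64 : allRange D.relOK 291718 3001 = true := by decide +kernel
theorem c_rel_65 : allRange D.relOK 294719 2839 = true := by decide +kernel
theorem c_rel_66 : allRange D.relOK 297558 2809 = true := by decide +kernel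
theorem c_rel_67 : allRange D.relOK 300367 2850 = true := by decide +kernel
theorem c_rel_68 : allRange D.relOK 303217 2753 = true := by decide +kernel
theorem c_rel_69 : allRange D.relOK 305970 2585 = true := by decide +kernel
theorem c_rel_70 : allRange D.relOK 308555 3062 = true := by decide +kernel
theorem c_rel_71 : allRange D.relOK 311617 2960 = true := by decide +kernel
theorem c_rel_72 : allRange D.relOK 314577 3059 = true := by decide +kernel
theorem c_rel_73 : allRange D.relOK 317636 3080 = true := by decide +kernel
theorem c_rel_74 : allRange D.relOK 320716 2590 = true := by decide +kernel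
theorem c_rel_75 : allRange D.relOK 323306 2790 = true := by decide +kernel
theorem c_rel_76 : allRange D.relOK 326096 2900 = true := by decide +kernel
theorem c_rel_77 : allRange D.relOK 328996 2906 = true := by decide +kernel
theorem c_rel_78 : allRange D.relOK 331902 2890 = true := by decide +kernel
theorem c_rel_79 : allRange D.relOK 334792 2925 = true := by decide +kernel
theorem c_rel_80 : allRange D.relOK 337717 2723 = true := by decide +kernel
theorem c_rel_81 : allRange D.relOK 340440 2523 = true := by decide +kernel
theorem c_rel_82 : allRange D.relOK 342963 3140 = true := by decide +kernel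

end Cfsg.Agent.Lib.Helper4.TCD.SC3J3p2A
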