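import Cfsg.Agent.Lib.Helper4.TC7
import Cfsg.Agent.Lib.Helper4.TCP_SC3J3p3
import Cfsg.Agent.Lib.Helper4.TCD_SC3J3p3A_D0
import Cfsg.Agent.Lib.Helper4.TCD_SC3J3p3A_D1
import Cfsg.Agent.Lib.Helper4.TCD_SC3J3p3A_D2
import Cfsg.Agent.Lib.Helper4.TCD_SC3J3p3A_D3
import Cfsg.Agent.Lib.Helper4.TCD_SC3J3p3A_D4
import Cfsg.Agent.Lib.Helper4.TCD_SC3J3p3A_D5
import Cfsg.Agent.Lib.Helper4.TCD_SC3J3p3A_D6
import Cfsg.Agent.Lib.Helper4.TCD_SC3J3p3A_D7
import Cfsg.Agent.Lib.Helper4.TCD_SC3J3p3A_D8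
import Cfsg.Agent.Lib.Helper4.TCD_SC3J3p3A_D9
import Cfsg.Agent.Lib.Helper4.TCD_SC3J3p3A_D10
import Cfsg.Agent.Lib.Helper4.TCD_SC3J3p3A_D11
import Cfsg.Agent.Lib.Helper4.TCD_SC3J3p3A_D12
import Cfsg.Agent.Lib.Helper4.TCD_SC3J3p3A_D13
import Cfsg.Agent.Lib.Helper4.TCD_SC3J3p3A_D14

namespace Cfsg.Agent.Lib.Helper4.TCD.SC3J3p3A

open Cfsg.Agent.Lib.Helper4.TC

set_option maxRecDepth 100000

noncomputable def Atab_s_0_2 (c : Nat) : Nat := @Bool.rec (fun _ => Nat) (Atab_0) (Atab_1) (Nat.ble 1 c)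
noncomputable def Atab_s_3_5 (c : Nat) : Nat := @Bool.rec (fun _ => Nat) (Atab_3) (Atab_4) (Nat.ble 4 c)
noncomputable def Atab_s_2_5 (c : Nat) : Nat := @Bool.rec (fun _ => Nat) (Atab_2) (Atab_s_3_5 c) (Nat.ble 3 c)
noncomputable def Atab_s_0_5 (c : Nat) : Nat := @Bool.rec (fun _ => Nat) (Atab_s_0_2 c) (Atab_s_2_5 c) (Nat.ble 2 c)
noncomputable def Atab_s_6_8 (c : Nat) : Nat := @Bool.rec (fun _ => Nat) (Atab_6) (Atab_7) (Nat.ble 7 c)
noncomputable def Atab_s_5_8 (c : Nat) : Nat := @Bool.rec (fun _ => Nat) (Atab_5) (Atab_s_6_8 c) (Nat.ble 6 c)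
noncomputable def Atab_s_9_11 (c : Nat) : Nat := @Bool.rec (fun _ => Nat) (Atab_9) (Atab_10) (Nat.ble 10 c)
noncomputable def Atab_s_8_11 (c : Nat) : Nat := @Bool.rec (fun _ => Nat) (Atab_8) (Atab_s_9_11 c) (Nat.ble 9 c)
noncomputable def Atab_s_5_11 (c : Nat) : Nat := @Bool.rec (fun _ => Nat) (Atab_s_5_8 c) (Atab_s_8_11 c) (Nat.ble 8 c)
noncomputable def Atab_s_0_11 (c : Nat) : Nat := @Bool.rec (fun _ => Nat) (Atab_s_0_5 c) (Atab_s_5_11 c) (Nat.ble 5 c)
noncomputable def Atab_s_12_14 (c : Nat) : Nat := @Bool.rec (fun _ => Nat) (Atab_12) (Atab_13) (Nat.ble 13 c)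
noncomputable def Atab_s_11_14 (c : Nat) : Nat := @Bool.rec (fun _ => Nat) (Atab_11) (Atab_s_12_14 c) (Nat.ble 12 c)
noncomputable def Atab_s_15_17 (c : Nat) : Nat := @Bool.rec (fun _ => Nat) (Atab_15) (Atab_16) (Nat.ble 16 c)
noncomputable def Atab_s_14_17 (c : Nat) : Nat := @Bool.rec (fun _ => Nat) (Atab_14) (Atab_s_15_17 c) (Nat.ble 15 c)
noncomputable def Atab_s_11_17 (c : Nat) : Nat := @Bool.rec (fun _ => Nat) (Atab_s_11_14 c) (Atab_s_14_17 c) (Nat.ble 14 c)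
noncomputable def Atab_s_18_20 (c : Nat) : Nat := @Bool.rec (fun _ => Nat) (Atab_18) (Atab_19) (Nat.ble 19 c)
noncomputable def Atab_s_17_20 (c : Nat) : Nat := @Bool.rec (fun _ => Nat) (Atab_17) (Atab_s_18_20 c) (Nat.ble 18 c)
noncomputable def Atab_s_21_23 (c : Nat) : Nat := @Bool.rec (fun _ => Nat) (Atab_21) (Atab_22) (Nat.ble 22 c)
noncomputable def Atab_s_20_23 (c : Nat) : Nat := @Bool.rec (fun _ => Nat) (Atab_20) (Atab_s_21_23 c) (Nat.ble 21 c)
noncomputable def Atab_s_17_23 (c : Nat) : Nat := @Bool.rec (fun _ => Nat) (Atab_s_17_20 c) (Atab_s_20_23 c) (Nat.ble 20 c)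
noncomputable def Atab_s_11_23 (c : Nat) : Nat := @Bool.rec (fun _ => Nat) (Atab_s_11_17 c) (Atab_s_17_23 c) (Nat.ble 17 c)
noncomputable def Atab_s_0_23 (c : Nat) : Nat := @Bool.rec (fun _ => Nat) (Atab_s_0_11 c) (Atab_s_11_23 c) (Nat.ble 11 c)
noncomputable def Atab_s_24_26 (c : Nat) : Nat := @Bool.rec (fun _ => Nat) (Atab_24) (Atab_25) (Nat.ble 25 c)
noncomputable def Atab_s_23_26 (c : Nat) : Nat := @Bool.rec (fun _ => Nat) (Atab_23) (Atab_s_24_26 c) (Nat.ble 24 c)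
noncomputable def Atab_s_27_29 (c : Nat) : Nat := @Bool.rec (fun _ => Nat) (Atab_27) (Atab_28) (Nat.ble 28 c)
noncomputable def Atab_s_26_29 (c : Nat) : Nat := @Bool.rec (fun _ => Nat) (Atab_26) (Atab_s_27_29 c) (Nat.ble 27 c)
noncomputable def Atab_s_23_29 (c : Nat) : Nat := @Bool.rec (fun _ => Nat) (Atab_s_23_26 c) (Atab_s_26_29 c) (Nat.ble 26 c)
noncomputable def Atab_s_30_32 (c : Nat) : Nat := @Bool.rec (fun _ => Nat) (Atab_30) (Atab_31) (Nat.ble 31 c)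
noncomputable def Atab_s_29_32 (c : Nat) : Nat := @Bool.rec (fun _ => Nat) (Atab_29) (Atab_s_30_32 c) (Nat.ble 30 c)
noncomputable def Atab_s_33_35 (c : Nat) : Nat := @Bool.rec (fun _ => Nat) (Atab_33) (Atab_34) (Nat.ble 34 c)
noncomputable def Atab_s_32_35 (c : Nat) : Nat := @Bool.rec (fun _ => Nat) (Atab_32) (Atab_s_33_35 c) (Nat.ble 33 c)
noncomputable def Atab_s_29_35 (c : Nat) : Nat := @Bool.rec (fun _ => Nat) (Atab_s_29_32 c) (Atab_s_32_35 c) (Nat.ble 32 c)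
noncomputable def Atab_s_23_35 (c : Nat) : Nat := @Bool.rec (fun _ => Nat) (Atab_s_23_29 c) (Atab_s_29_35 c) (Nat.ble 29 c)
noncomputable def Atab_s_36_38 (c : Nat) : Nat := @Bool.rec (fun _ => Nat) (Atab_36) (Atab_37) (Nat.ble 37 c)
noncomputable def Atab_s_35_38 (c : Nat) : Nat := @Bool.rec (fun _ => Nat) (Atab_35) (Atab_s_36_38 c) (Nat.ble 36 c)
noncomputable def Atab_s_39_41 (c : Nat) : Nat := @Bool.rec (fun _ => Nat) (Atab_39) (Atab_40) (Nat.ble 40 c)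
noncomputable def Atab_s_38_41 (c : Nat) : Nat := @Bool.rec (fun _ => Nat) (Atab_38) (Atab_s_39_41 c) (Nat.ble 39 c)
noncomputable def Atab_s_35_41 (c : Nat) : Nat := @Bool.rec (fun _ => Nat) (Atab_s_35_38 c) (Atab_s_38_41 c) (Nat.ble 38 c)
noncomputable def Atab_s_42_44 (c : Nat) : Nat := @Bool.rec (fun _ => Nat) (Atab_42) (Atab_43) (Nat.ble 43 c)
noncomputable def Atab_s_41_44 (c : Nat) : Nat := @Bool.rec (fun _ => Nat) (Atab_41) (Atab_s_42_44 c) (Nat.ble 42 c)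
noncomputable def Atab_s_45_47 (c : Nat) : Nat := @Bool.rec (fun _ => Nat) (Atab_45) (Atab_46) (Nat.ble 46 c)
noncomputable def Atab_s_44_47 (c : Nat) : Nat := @Bool.rec (fun _ => Nat) (Atab_44) (Atab_s_45_47 c) (Nat.ble 45 c)
noncomputable def Atab_s_41_47 (c : Nat) : Nat := @Bool.rec (fun _ => Nat) (Atab_s_41_44 c) (Atab_s_44_47 c) (Nat.ble 44 c)
noncomputable def Atab_s_35_47 (c : Nat) : Nat := @Bool.rec (fun _ => Nat) (Atab_s_35_41 c) (Atab_s_41_47 c) (Nat.ble 41 c)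
noncomputable def Atab_s_23_47 (c : Nat) : Nat := @Bool.rec (fun _ => Nat) (Atab_s_23_35 c) (Atab_s_35_47 c) (Nat.ble 35 c)
noncomputable def Atab_s_0_47 (c : Nat) : Nat := @Bool.rec (fun _ => Nat) (Atab_s_0_23 c) (Atab_s_23_47 c) (Nat.ble 23 c)
noncomputable def Atab_s_48_50 (c : Nat) : Nat := @Bool.rec (fun _ => Nat) (Atab_48) (Atab_49) (Nat.ble 49 c)
noncomputable def Atab_s_47_50 (c : Nat) : Nat := @Bool.rec (fun _ => Nat) (Atab_47) (Atab_s_48_50 c) (Nat.ble 48 c)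
noncomputable def Atab_s_51_53 (c : Nat) : Nat := @Bool.rec (fun _ => Nat) (Atab_51) (Atab_52) (Nat.ble 52 c)
noncomputable def Atab_s_50_53 (c : Nat) : Nat := @Bool.rec (fun _ => Nat) (Atab_50) (Atab_s_51_53 c) (Nat.ble 51 c)
noncomputable def Atab_s_47_53 (c : Nat) : Nat := @Bool.rec (fun _ => Nat) (Atab_s_47_50 c) (Atab_s_50_53 c) (Nat.ble 50 c)
noncomputable def Atab_s_54_56 (c : Nat) : Nat := @Bool.rec (fun _ => Nat) (Atab_54) (Atab_55) (Nat.ble 55 c)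
noncomputable def Atab_s_53_56 (c : Nat) : Nat := @Bool.rec (fun _ => Nat) (Atab_53) (Atab_s_54_56 c) (Nat.ble 54 c)
noncomputable def Atab_s_57_59 (c : Nat) : Nat := @Bool.rec (fun _ => Nat) (Atab_57) (Atab_58) (Nat.ble 58 c)
noncomputable def Atab_s_56_59 (c : Nat) : Nat := @Bool.rec (fun _ => Nat) (Atab_56) (Atab_s_57_59 c) (Nat.ble 57 c)
noncomputable def Atab_s_53_59 (c : Nat) : Nat := @Bool.rec (fun _ => Nat) (Atab_s_53_56 c) (Atab_s_56_59 c) (Nat.ble 56 c)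
noncomputable def Atab_s_47_59 (c : Nat) : Nat := @Bool.rec (fun _ => Nat) (Atab_s_47_53 c) (Atab_s_53_59 c) (Nat.ble 53 c)
noncomputable def Atab_s_60_62 (c : Nat) : Nat := @Bool.rec (fun _ => Nat) (Atab_60) (Atab_61) (Nat.ble 61 c)
noncomputable def Atab_s_59_62 (c : Nat) : Nat := @Bool.rec (fun _ => Nat) (Atab_59) (Atab_s_60_62 c) (Nat.ble 60 c)
noncomputable def Atab_s_63_65 (c : Nat) : Nat := @Bool.rec (fun _ => Nat) (Atab_63) (Atab_64) (Nat.ble 64 c)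
noncomputable def Atab_s_62_65 (c : Nat) : Nat := @Bool.rec (fun _ => Nat) (Atab_62) (Atab_s_63_65 c) (Nat.ble 63 c)
noncomputable def Atab_s_59_65 (c : Nat) : Nat := @Bool.rec (fun _ => Nat) (Atab_s_59_62 c) (Atab_s_62_65 c) (Nat.ble 62 c)
noncomputable def Atab_s_66_68 (c : Nat) : Nat := @Bool.rec (fun _ => Nat) (Atab_66) (Atab_67) (Nat.ble 67 c)
noncomputable def Atab_s_65_68 (c : Nat) : Nat := @Bool.rec (fun _ => Nat) (Atab_65) (Atab_s_66_68 c) (Nat.ble 66 c)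
noncomputable def Atab_s_69_71 (c : Nat) : Nat := @Bool.rec (fun _ => Nat) (Atab_69) (Atab_70) (Nat.ble 70 c)
noncomputable def Atab_s_68_71 (c : Nat) : Nat := @Bool.rec (fun _ => Nat) (Atab_68) (Atab_s_69_71 c) (Nat.ble 69 c)
noncomputable def Atab_s_65_71 (c : Nat) : Nat := @Bool.rec (fun _ => Nat) (Atab_s_65_68 c) (Atab_s_68_71 c) (Nat.ble 68 c)
noncomputable def Atab_s_59_71 (c : Nat) : Nat := @Bool.rec (fun _ => Nat) (Atab_s_59_65 c) (Atab_s_65_71 c) (Nat.ble 65 c)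
noncomputable def Atab_s_47_71 (c : Nat) : Nat := @Bool.rec (fun _ => Nat) (Atab_s_47_59 c) (Atab_s_59_71 c) (Nat.ble 59 c)
noncomputable def Atab_s_72_74 (c : Nat) : Nat := @Bool.rec (fun _ => Nat) (Atab_72) (Atab_73) (Nat.ble 73 c)
noncomputable def Atab_s_71_74 (c : Nat) : Nat := @Bool.rec (fun _ => Nat) (Atab_71) (Atab_s_72_74 c) (Nat.ble 72 c)
noncomputable def Atab_s_75_77 (c : Nat) : Nat := @Bool.rec (fun _ => Nat) (Atab_75) (Atab_76) (Nat.ble 76 c)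
noncomputable def Atab_s_74_77 (c : Nat) : Nat := @Bool.rec (fun _ => Nat) (Atab_74) (Atab_s_75_77 c) (Nat.ble 75 c)
noncomputable def Atab_s_71_77 (c : Nat) : Nat := @Bool.rec (fun _ => Nat) (Atab_s_71_74 c) (Atab_s_74_77 c) (Nat.ble 74 c)
noncomputable def Atab_s_78_80 (c : Nat) : Nat := @Bool.rec (fun _ => Nat) (Atab_78) (Atab_79) (Nat.ble 79 c)
noncomputable def Atab_s_77_80 (c : Nat) : Nat := @Bool.rec (fun _ => Nat) (Atab_77) (Atab_s_78_80 c) (Nat.ble 78 c)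
noncomputable def Atab_s_81_83 (c : Nat) : Nat := @Bool.rec (fun _ => Nat) (Atab_81) (Atab_82) (Nat.ble 82 c)
noncomputable def Atab_s_80_83 (c : Nat) : Nat := @Bool.rec (fun _ => Nat) (Atab_80) (Atab_s_81_83 c) (Nat.ble 81 c)
noncomputable def Atab_s_77_83 (c : Nat) : Nat := @Bool.rec (fun _ => Nat) (Atab_s_77_80 c) (Atab_s_80_83 c) (Nat.ble 80 c)
noncomputable def Atab_s_71_83 (c : Nat) : Nat := @Bool.rec (fun _ => Nat) (Atab_s_71_77 c) (Atab_s_77_83 c) (Nat.ble 77 c)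
noncomputable def Atab_s_84_86 (c : Nat) : Nat := @Bool.rec (fun _ => Nat) (Atab_84) (Atab_85) (Nat.ble 85 c)
noncomputable def Atab_s_83_86 (c : Nat) : Nat := @Bool.rec (fun _ => Nat) (Atab_83) (Atab_s_84_86 c) (Nat.ble 84 c)
noncomputable def Atab_s_87_89 (c : Nat) : Nat := @Bool.rec (fun _ => Nat) (Atab_87) (Atab_88) (Nat.ble 88 c)
noncomputable def Atab_s_86_89 (c : Nat) : Nat := @Bool.rec (fun _ => Nat) (Atab_86) (Atab_s_87_89 c) (Nat.ble 87 c)
noncomputable def Atab_s_83_89 (c : Nat) : Nat := @Bool.rec (fun _ => Nat) (Atab_s_83_86 c) (Atab_s_86_89 c) (Nat.ble 86 c)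
noncomputable def Atab_s_90_92 (c : Nat) : Nat := @Bool.rec (fun _ => Nat) (Atab_90) (Atab_91) (Nat.ble 91 c)
noncomputable def Atab_s_89_92 (c : Nat) : Nat := @Bool.rec (fun _ => Nat) (Atab_89) (Atab_s_90_92 c) (Nat.ble 90 c)
noncomputable def Atab_s_93_95 (c : Nat) : Nat := @Bool.rec (fun _ => Nat) (Atab_93) (Atab_94) (Nat.ble 94 c)
noncomputable def Atab_s_92_95 (c : Nat) : Nat := @Bool.rec (fun _ => Nat) (Atab_92) (Atab_s_93_95 c) (Nat.ble 93 c)
noncomputable def Atab_s_89_95 (c : Nat) : Nat := @Bool.rec (fun _ => Nat) (Atab_s_89_92 c) (Atab_s_92_95 c) (Nat.ble 92 c)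
noncomputable def Atab_s_83_95 (c : Nat) : Nat := @Bool.rec (fun _ => Nat) (Atab_s_83_89 c) (Atab_s_89_95 c) (Nat.ble 89 c)
noncomputable def Atab_s_71_95 (c : Nat) : Nat := @Bool.rec (fun _ => Nat) (Atab_s_71_83 c) (Atab_s_83_95 c) (Nat.ble 83 c)
noncomputable def Atab_s_47_95 (c : Nat) : Nat := @Bool.rec (fun _ => Nat) (Atab_s_47_71 c) (Atab_s_71_95 c) (Nat.ble 71 c)
noncomputable def Atab_s_0_95 (c : Nat) : Nat := @Bool.rec (fun _ => Nat) (Atab_s_0_47 c) (Atab_s_47_95 c) (Nat.ble 47 c)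
noncomputable def Atab_s_95_97 (c : Nat) : Nat := @Bool.rec (fun _ => Nat) (Atab_95) (Atab_96) (Nat.ble 96 c)
noncomputable def Atab_s_98_100 (c : Nat) : Nat := @Bool.rec (fun _ => Nat) (Atab_98) (Atab_99) (Nat.ble 99 c)
noncomputable def Atab_s_97_100 (c : Nat) : Nat := @Bool.rec (fun _ => Nat) (Atab_97) (Atab_s_98_100 c) (Nat.ble 98 c)
noncomputable def Atab_s_95_100 (c : Nat) : Nat := @Bool.rec (fun _ => Nat) (Atab_s_95_97 c) (Atab_s_97_100 c) (Nat.ble 97 c)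
noncomputable def Atab_s_101_103 (c : Nat) : Nat := @Bool.rec (fun _ => Nat) (Atab_101) (Atab_102) (Nat.ble 102 c)
noncomputable def Atab_s_100_103 (c : Nat) : Nat := @Bool.rec (fun _ => Nat) (Atab_100) (Atab_s_101_103 c) (Nat.ble 101 c)
noncomputable def Atab_s_104_106 (c : Nat) : Nat := @Bool.rec (fun _ => Nat) (Atab_104) (Atab_105) (Nat.ble 105 c)
noncomputable def Atab_s_103_106 (c : Nat) : Nat := @Bool.rec (fun _ => Nat) (Atab_103) (Atab_s_104_106 c) (Nat.ble 104 c)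
noncomputable def Atab_s_100_106 (c : Nat) : Nat := @Bool.rec (fun _ => Nat) (Atab_s_100_103 c) (Atab_s_103_106 c) (Nat.ble 103 c)
noncomputable def Atab_s_95_106 (c : Nat) : Nat := @Bool.rec (fun _ => Nat) (Atab_s_95_100 c) (Atab_s_100_106 c) (Nat.ble 100 c)
noncomputable def Atab_s_107_109 (c : Nat) : Nat := @Bool.rec (fun _ => Nat) (Atab_107) (Atab_108) (Nat.ble 108 c)
noncomputable def Atab_s_106_109 (c : Nat) : Nat := @Bool.rec (fun _ => Nat) (Atab_106) (Atab_s_107_109 c) (Nat.ble 107 c)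
noncomputable def Atab_s_110_112 (c : Nat) : Nat := @Bool.rec (fun _ => Nat) (Atab_110) (Atab_111) (Nat.ble 111 c)
noncomputable def Atab_s_109_112 (c : Nat) : Nat := @Bool.rec (fun _ => Nat) (Atab_109) (Atab_s_110_112 c) (Nat.ble 110 c)
noncomputable def Atab_s_106_112 (c : Nat) : Nat := @Bool.rec (fun _ => Nat) (Atab_s_106_109 c) (Atab_s_109_112 c) (Nat.ble 109 c)
noncomputable def Atab_s_113_115 (c : Nat) : Nat := @Bool.rec (fun _ => Nat) (Atab_113) (Atab_114) (Nat.ble 114 c)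
noncomputable def Atab_s_112_115 (c : Nat) : Nat := @Bool.rec (fun _ => Nat) (Atab_112) (Atab_s_113_115 c) (Nat.ble 113 c)
noncomputable def Atab_s_116_118 (c : Nat) : Nat := @Bool.rec (fun _ => Nat) (Atab_116) (Atab_117) (Nat.ble 117 c)
noncomputable def Atab_s_115_118 (c : Nat) : Nat := @Bool.rec (fun _ => Nat) (Atab_115) (Atab_s_116_118 c) (Nat.ble 116 c)
noncomputable def Atab_s_112_118 (c : Nat) : Nat := @Bool.rec (fun _ => Nat) (Atab_s_112_115 c) (Atab_s_115_118 c) (Nat.ble 115 c)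
noncomputable def Atab_s_106_118 (c : Nat) : Nat := @Bool.rec (fun _ => Nat) (Atab_s_106_112 c) (Atab_s_112_118 c) (Nat.ble 112 c)
noncomputable def Atab_s_95_118 (c : Nat) : Nat := @Bool.rec (fun _ => Nat) (Atab_s_95_106 c) (Atab_s_106_118 c) (Nat.ble 106 c)
noncomputable def Atab_s_119_121 (c : Nat) : Nat := @Bool.rec (fun _ => Nat) (Atab_119) (Atab_120) (Nat.ble 120 c)
noncomputable def Atab_s_118_121 (c : Nat) : Nat := @Bool.rec (fun _ => Nat) (Atab_118) (Atab_s_119_121 c) (Nat.ble 119 c)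
noncomputable def Atab_s_122_124 (c : Nat) : Nat := @Bool.rec (fun _ => Nat) (Atab_122) (Atab_123) (Nat.ble 123 c)
noncomputable def Atab_s_121_124 (c : Nat) : Nat := @Bool.rec (fun _ => Nat) (Atab_121) (Atab_s_122_124 c) (Nat.ble 122 c)
noncomputable def Atab_s_118_124 (c : Nat) : Nat := @Bool.rec (fun _ => Nat) (Atab_s_118_121 c) (Atab_s_121_124 c) (Nat.ble 121 c)
noncomputable def Atab_s_125_127 (c : Nat) : Nat := @Bool.rec (fun _ => Nat) (Atab_125) (Atab_126) (Nat.ble 126 c)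
noncomputable def Atab_s_124_127 (c : Nat) : Nat := @Bool.rec (fun _ => Nat) (Atab_124) (Atab_s_125_127 c) (Nat.ble 125 c)
noncomputable def Atab_s_128_130 (c : Nat) : Nat := @Bool.rec (fun _ => Nat) (Atab_128) (Atab_129) (Nat.ble 129 c)
noncomputable def Atab_s_127_130 (c : Nat) : Nat := @Bool.rec (fun _ => Nat) (Atab_127) (Atab_s_128_130 c) (Nat.ble 128 c)
noncomputable def Atab_s_124_130 (c : Nat) : Nat := @Bool.rec (fun _ => Nat) (Atab_s_124_127 c) (Atab_s_127_130 c) (Nat.ble 127 c)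
noncomputable def Atab_s_118_130 (c : Nat) : Nat := @Bool.rec (fun _ => Nat) (Atab_s_118_124 c) (Atab_s_124_130 c) (Nat.ble 124 c)
noncomputable def Atab_s_131_133 (c : Nat) : Nat := @Bool.rec (fun _ => Nat) (Atab_131) (Atab_132) (Nat.ble 132 c)
noncomputable def Atab_s_130_133 (c : Nat) : Nat := @Bool.rec (fun _ => Nat) (Atab_130) (Atab_s_131_133 c) (Nat.ble 131 c)
noncomputable def Atab_s_134_136 (c : Nat) : Nat := @Bool.rec (fun _ => Nat) (Atab_134) (Atab_135) (Nat.ble 135 c)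
noncomputable def Atab_s_133_136 (c : Nat) : Nat := @Bool.rec (fun _ => Nat) (Atab_133) (Atab_s_134_136 c) (Nat.ble 134 c)
noncomputable def Atab_s_130_136 (c : Nat) : Nat := @Bool.rec (fun _ => Nat) (Atab_s_130_133 c) (Atab_s_133_136 c) (Nat.ble 133 c)
noncomputable def Atab_s_137_139 (c : Nat) : Nat := @Bool.rec (fun _ => Nat) (Atab_137) (Atab_138) (Nat.ble 138 c)
noncomputable def Atab_s_136_139 (c : Nat) : Nat := @Bool.rec (fun _ => Nat) (Atab_136) (Atab_s_137_139 c) (Nat.ble 137 c)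
noncomputable def Atab_s_140_142 (c : Nat) : Nat := @Bool.rec (fun _ => Nat) (Atab_140) (Atab_141) (Nat.ble 141 c)
noncomputable def Atab_s_139_142 (c : Nat) : Nat := @Bool.rec (fun _ => Nat) (Atab_139) (Atab_s_140_142 c) (Nat.ble 140 c)
noncomputable def Atab_s_136_142 (c : Nat) : Nat := @Bool.rec (fun _ => Nat) (Atab_s_136_139 c) (Atab_s_139_142 c) (Nat.ble 139 c)
noncomputable def Atab_s_130_142 (c : Nat) : Nat := @Bool.rec (fun _ => Nat) (Atab_s_130_136 c) (Atab_s_136_142 c) (Nat.ble 136 c)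
noncomputable def Atab_s_118_142 (c : Nat) : Nat := @Bool.rec (fun _ => Nat) (Atab_s_118_130 c) (Atab_s_130_142 c) (Nat.ble 130 c)
noncomputable def Atab_s_95_142 (c : Nat) : Nat := @Bool.rec (fun _ => Nat) (Atab_s_95_118 c) (Atab_s_118_142 c) (Nat.ble 118 c)
noncomputable def Atab_s_143_145 (c : Nat) : Nat := @Bool.rec (fun _ => Nat) (Atab_143) (Atab_144) (Nat.ble 144 c)
noncomputable def Atab_s_142_145 (c : Nat) : Nat := @Bool.rec (fun _ => Nat) (Atab_142) (Atab_s_143_145 c) (Nat.ble 143 c)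
noncomputable def Atab_s_146_148 (c : Nat) : Nat := @Bool.rec (fun _ => Nat) (Atab_146) (Atab_147) (Nat.ble 147 c)
noncomputable def Atab_s_145_148 (c : Nat) : Nat := @Bool.rec (fun _ => Nat) (Atab_145) (Atab_s_146_148 c) (Nat.ble 146 c)
noncomputable def Atab_s_142_148 (c : Nat) : Nat := @Bool.rec (fun _ => Nat) (Atab_s_142_145 c) (Atab_s_145_148 c) (Nat.ble 145 c)
noncomputable def Atab_s_149_151 (c : Nat) : Nat := @Bool.rec (fun _ => Nat) (Atab_149) (Atab_150) (Nat.ble 150 c)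
noncomputable def Atab_s_148_151 (c : Nat) : Nat := @Bool.rec (fun _ => Nat) (Atab_148) (Atab_s_149_151 c) (Nat.ble 149 c)
noncomputable def Atab_s_152_154 (c : Nat) : Nat := @Bool.rec (fun _ => Nat) (Atab_152) (Atab_153) (Nat.ble 153 c)
noncomputable def Atab_s_151_154 (c : Nat) : Nat := @Bool.rec (fun _ => Nat) (Atab_151) (Atab_s_152_154 c) (Nat.ble 152 c)
noncomputable def Atab_s_148_154 (c : Nat) : Nat := @Bool.rec (fun _ => Nat) (Atab_s_148_151 c) (Atab_s_151_154 c) (Nat.ble 151 c)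
noncomputable def Atab_s_142_154 (c : Nat) : Nat := @Bool.rec (fun _ => Nat) (Atab_s_142_148 c) (Atab_s_148_154 c) (Nat.ble 148 c)
noncomputable def Atab_s_155_157 (c : Nat) : Nat := @Bool.rec (fun _ => Nat) (Atab_155) (Atab_156) (Nat.ble 156 c)
noncomputable def Atab_s_154_157 (c : Nat) : Nat := @Bool.rec (fun _ => Nat) (Atab_154) (Atab_s_155_157 c) (Nat.ble 155 c)
noncomputable def Atab_s_158_160 (c : Nat) : Nat := @Bool.rec (fun _ => Nat) (Atab_158) (Atab_159) (Nat.ble 159 c)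
noncomputable def Atab_s_157_160 (c : Nat) : Nat := @Bool.rec (fun _ => Nat) (Atab_157) (Atab_s_158_160 c) (Nat.ble 158 c)
noncomputable def Atab_s_154_160 (c : Nat) : Nat := @Bool.rec (fun _ => Nat) (Atab_s_154_157 c) (Atab_s_157_160 c) (Nat.ble 157 c)
noncomputable def Atab_s_161_163 (c : Nat) : Nat := @Bool.rec (fun _ => Nat) (Atab_161) (Atab_162) (Nat.ble 162 c)
noncomputable def Atab_s_160_163 (c : Nat) : Nat := @Bool.rec (fun _ => Nat) (Atab_160) (Atab_s_161_163 c) (Nat.ble 161 c)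
noncomputable def Atab_s_164_166 (c : Nat) : Nat := @Bool.rec (fun _ => Nat) (Atab_164) (Atab_165) (Nat.ble 165 c)
noncomputable def Atab_s_163_166 (c : Nat) : Nat := @Bool.rec (fun _ => Nat) (Atab_163) (Atab_s_164_166 c) (Nat.ble 164 c)
noncomputable def Atab_s_160_166 (c : Nat) : Nat := @Bool.rec (fun _ => Nat) (Atab_s_160_163 c) (Atab_s_163_166 c) (Nat.ble 163 c)
noncomputable def Atab_s_154_166 (c : Nat) : Nat := @Bool.rec (fun _ => Nat) (Atab_s_154_160 c) (Atab_s_160_166 c) (Nat.ble 160 c)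
noncomputable def Atab_s_142_166 (c : Nat) : Nat := @Bool.rec (fun _ => Nat) (Atab_s_142_154 c) (Atab_s_154_166 c) (Nat.ble 154 c)
noncomputable def Atab_s_167_169 (c : Nat) : Nat := @Bool.rec (fun _ => Nat) (Atab_167) (Atab_168) (Nat.ble 168 c)
noncomputable def Atab_s_166_169 (c : Nat) : Nat := @Bool.rec (fun _ => Nat) (Atab_166) (Atab_s_167_169 c) (Nat.ble 167 c)
noncomputable def Atab_s_170_172 (c : Nat) : Nat := @Bool.rec (fun _ => Nat) (Atab_170) (Atab_171) (Nat.ble 171 c)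
noncomputable def Atab_s_169_172 (c : Nat) : Nat := @Bool.rec (fun _ => Nat) (Atab_169) (Atab_s_170_172 c) (Nat.ble 170 c)
noncomputable def Atab_s_166_172 (c : Nat) : Nat := @Bool.rec (fun _ => Nat) (Atab_s_166_169 c) (Atab_s_169_172 c) (Nat.ble 169 c)
noncomputable def Atab_s_173_175 (c : Nat) : Nat := @Bool.rec (fun _ => Nat) (Atab_173) (Atab_174) (Nat.ble 174 c)
noncomputable def Atab_s_172_175 (c : Nat) : Nat := @Bool.rec (fun _ => Nat) (Atab_172) (Atab_s_173_175 c) (Nat.ble 173 c)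
noncomputable def Atab_s_176_178 (c : Nat) : Nat := @Bool.rec (fun _ => Nat) (Atab_176) (Atab_177) (Nat.ble 177 c)
noncomputable def Atab_s_175_178 (c : Nat) : Nat := @Bool.rec (fun _ => Nat) (Atab_175) (Atab_s_176_178 c) (Nat.ble 176 c)
noncomputable def Atab_s_172_178 (c : Nat) : Nat := @Bool.rec (fun _ => Nat) (Atab_s_172_175 c) (Atab_s_175_178 c) (Nat.ble 175 c)
noncomputable def Atab_s_166_178 (c : Nat) : Nat := @Bool.rec (fun _ => Nat) (Atab_s_166_172 c) (Atab_s_172_178 c) (Nat.ble 172 c)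
noncomputable def Atab_s_179_181 (c : Nat) : Nat := @Bool.rec (fun _ => Nat) (Atab_179) (Atab_180) (Nat.ble 180 c)
noncomputable def Atab_s_178_181 (c : Nat) : Nat := @Bool.rec (fun _ => Nat) (Atab_178) (Atab_s_179_181 c) (Nat.ble 179 c)
noncomputable def Atab_s_182_184 (c : Nat) : Nat := @Bool.rec (fun _ => Nat) (Atab_182) (Atab_183) (Nat.ble 183 c)
noncomputable def Atab_s_181_184 (c : Nat) : Nat := @Bool.rec (fun _ => Nat) (Atab_181) (Atab_s_182_184 c) (Nat.ble 182 c)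
noncomputable def Atab_s_178_184 (c : Nat) : Nat := @Bool.rec (fun _ => Nat) (Atab_s_178_181 c) (Atab_s_181_184 c) (Nat.ble 181 c)
noncomputable def Atab_s_185_187 (c : Nat) : Nat := @Bool.rec (fun _ => Nat) (Atab_185) (Atab_186) (Nat.ble 186 c)
noncomputable def Atab_s_184_187 (c : Nat) : Nat := @Bool.rec (fun _ => Nat) (Atab_184) (Atab_s_185_187 c) (Nat.ble 185 c)
noncomputable def Atab_s_188_190 (c : Nat) : Nat := @Bool.rec (fun _ => Nat) (Atab_188) (Atab_189) (Nat.ble 189 c)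
noncomputable def Atab_s_187_190 (c : Nat) : Nat := @Bool.rec (fun _ => Nat) (Atab_187) (Atab_s_188_190 c) (Nat.ble 188 c)
noncomputable def Atab_s_184_190 (c : Nat) : Nat := @Bool.rec (fun _ => Nat) (Atab_s_184_187 c) (Atab_s_187_190 c) (Nat.ble 187 c)
noncomputable def Atab_s_178_190 (c : Nat) : Nat := @Bool.rec (fun _ => Nat) (Atab_s_178_184 c) (Atab_s_184_190 c) (Nat.ble 184 c)
noncomputable def Atab_s_166_190 (c : Nat) : Nat := @Bool.rec (fun _ => Nat) (Atab_s_166_178 c) (Atab_s_178_190 c) (Nat.ble 178 c)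
noncomputable def Atab_s_142_190 (c : Nat) : Nat := @Bool.rec (fun _ => Nat) (Atab_s_142_166 c) (Atab_s_166_190 c) (Nat.ble 166 c)
noncomputable def Atab_s_95_190 (c : Nat) : Nat := @Bool.rec (fun _ => Nat) (Atab_s_95_142 c) (Atab_s_142_190 c) (Nat.ble 142 c)
noncomputable def Atab_s_0_190 (c : Nat) : Nat := @Bool.rec (fun _ => Nat) (Atab_s_0_95 c) (Atab_s_95_190 c) (Nat.ble 95 c)
noncomputable def Atab (i : Nat) : Nat := rdw 37 137438953471 (Atab_s_0_190 (Nat.shiftRight i 11)) (Nat.land i 2047)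
noncomputable def Btab_s_0_2 (c : Nat) : Nat := @Bool.rec (fun _ => Nat) (Btab_0) (Btab_1) (Nat.ble 1 c)
noncomputable def Btab_s_3_5 (c : Nat) : Nat := @Bool.rec (fun _ => Nat) (Btab_3) (Btab_4) (Nat.ble 4 c)
noncomputable def Btab_s_2_5 (c : Nat) : Nat := @Bool.rec (fun _ => Nat) (Btab_2) (Btab_s_3_5 c) (Nat.ble 3 c)
noncomputable def Btab_s_0_5 (c : Nat) : Nat := @Bool.rec (fun _ => Nat) (Btab_s_0_2 c) (Btab_s_2_5 c) (Nat.ble 2 c)
noncomputable def Btab_s_5_7 (c : Nat) : Nat := @Bool.rec (fun _ => Nat) (Btab_5) (Btab_6) (Nat.ble 6 c)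
noncomputable def Btab_s_8_10 (c : Nat) : Nat := @Bool.rec (fun _ => Nat) (Btab_8) (Btab_9) (Nat.ble 9 c)
noncomputable def Btab_s_7_10 (c : Nat) : Nat := @Bool.rec (fun _ => Nat) (Btab_7) (Btab_s_8_10 c) (Nat.ble 8 c)
noncomputable def Btab_s_5_10 (c : Nat) : Nat := @Bool.rec (fun _ => Nat) (Btab_s_5_7 c) (Btab_s_7_10 c) (Nat.ble 7 c)
noncomputable def Btab_s_0_10 (c : Nat) : Nat := @Bool.rec (fun _ => Nat) (Btab_s_0_5 c) (Btab_s_5_10 c) (Nat.ble 5 c)
noncomputable def Btab_s_10_12 (c : Nat) : Nat := @Bool.rec (fun _ => Nat) (Btab_10) (Btab_11) (Nat.ble 11 c)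
noncomputable def Btab_s_13_15 (c : Nat) : Nat := @Bool.rec (fun _ => Nat) (Btab_13) (Btab_14) (Nat.ble 14 c)
noncomputable def Btab_s_12_15 (c : Nat) : Nat := @Bool.rec (fun _ => Nat) (Btab_12) (Btab_s_13_15 c) (Nat.ble 13 c)
noncomputable def Btab_s_10_15 (c : Nat) : Nat := @Bool.rec (fun _ => Nat) (Btab_s_10_12 c) (Btab_s_12_15 c) (Nat.ble 12 c)
noncomputable def Btab_s_15_17 (c : Nat) : Nat := @Bool.rec (fun _ => Nat) (Btab_15) (Btab_16) (Nat.ble 16 c)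
noncomputable def Btab_s_18_20 (c : Nat) : Nat := @Bool.rec (fun _ => Nat) (Btab_18) (Btab_19) (Nat.ble 19 c)
noncomputable def Btab_s_17_20 (c : Nat) : Nat := @Bool.rec (fun _ => Nat) (Btab_17) (Btab_s_18_20 c) (Nat.ble 18 c)
noncomputable def Btab_s_15_20 (c : Nat) : Nat := @Bool.rec (fun _ => Nat) (Btab_s_15_17 c) (Btab_s_17_20 c) (Nat.ble 17 c)
noncomputable def Btab_s_10_20 (c : Nat) : Nat := @Bool.rec (fun _ => Nat) (Btab_s_10_15 c) (Btab_s_15_20 c) (Nat.ble 15 c)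
noncomputable def Btab_s_0_20 (c : Nat) : Nat := @Bool.rec (fun _ => Nat) (Btab_s_0_10 c) (Btab_s_10_20 c) (Nat.ble 10 c)
noncomputable def Btab_s_20_22 (c : Nat) : Nat := @Bool.rec (fun _ => Nat) (Btab_20) (Btab_21) (Nat.ble 21 c)
noncomputable def Btab_s_23_25 (c : Nat) : Nat := @Bool.rec (fun _ => Nat) (Btab_23) (Btab_24) (Nat.ble 24 c)
noncomputable def Btab_s_22_25 (c : Nat) : Nat := @Bool.rec (fun _ => Nat) (Btab_22) (Btab_s_23_25 c) (Nat.ble 23 c)
noncomputable def Btab_s_20_25 (c : Nat) : Nat := @Bool.rec (fun _ => Nat) (Btab_s_20_22 c) (Btab_s_22_25 c) (Nat.ble 22 c)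
noncomputable def Btab_s_25_27 (c : Nat) : Nat := @Bool.rec (fun _ => Nat) (Btab_25) (Btab_26) (Nat.ble 26 c)
noncomputable def Btab_s_28_30 (c : Nat) : Nat := @Bool.rec (fun _ => Nat) (Btab_28) (Btab_29) (Nat.ble 29 c)
noncomputable def Btab_s_27_30 (c : Nat) : Nat := @Bool.rec (fun _ => Nat) (Btab_27) (Btab_s_28_30 c) (Nat.ble 28 c)
noncomputable def Btab_s_25_30 (c : Nat) : Nat := @Bool.rec (fun _ => Nat) (Btab_s_25_27 c) (Btab_s_27_30 c) (Nat.ble 27 c)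
noncomputable def Btab_s_20_30 (c : Nat) : Nat := @Bool.rec (fun _ => Nat) (Btab_s_20_25 c) (Btab_s_25_30 c) (Nat.ble 25 c)
noncomputable def Btab_s_30_32 (c : Nat) : Nat := @Bool.rec (fun _ => Nat) (Btab_30) (Btab_31) (Nat.ble 31 c)
noncomputable def Btab_s_33_35 (c : Nat) : Nat := @Bool.rec (fun _ => Nat) (Btab_33) (Btab_34) (Nat.ble 34 c)
noncomputable def Btab_s_32_35 (c : Nat) : Nat := @Bool.rec (fun _ => Nat) (Btab_32) (Btab_s_33_35 c) (Nat.ble 33 c)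
noncomputable def Btab_s_30_35 (c : Nat) : Nat := @Bool.rec (fun _ => Nat) (Btab_s_30_32 c) (Btab_s_32_35 c) (Nat.ble 32 c)
noncomputable def Btab_s_36_38 (c : Nat) : Nat := @Bool.rec (fun _ => Nat) (Btab_36) (Btab_37) (Nat.ble 37 c)
noncomputable def Btab_s_35_38 (c : Nat) : Nat := @Bool.rec (fun _ => Nat) (Btab_35) (Btab_s_36_38 c) (Nat.ble 36 c)
noncomputable def Btab_s_39_41 (c : Nat) : Nat := @Bool.rec (fun _ => Nat) (Btab_39) (Btab_40) (Nat.ble 40 c)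
noncomputable def Btab_s_38_41 (c : Nat) : Nat := @Bool.rec (fun _ => Nat) (Btab_38) (Btab_s_39_41 c) (Nat.ble 39 c)
noncomputable def Btab_s_35_41 (c : Nat) : Nat := @Bool.rec (fun _ => Nat) (Btab_s_35_38 c) (Btab_s_38_41 c) (Nat.ble 38 c)
noncomputable def Btab_s_30_41 (c : Nat) : Nat := @Bool.rec (fun _ => Nat) (Btab_s_30_35 c) (Btab_s_35_41 c) (Nat.ble 35 c)
noncomputable def Btab_s_20_41 (c : Nat) : Nat := @Bool.rec (fun _ => Nat) (Btab_s_20_30 c) (Btab_s_30_41 c) (Nat.ble 30 c)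
noncomputable def Btab_s_0_41 (c : Nat) : Nat := @Bool.rec (fun _ => Nat) (Btab_s_0_20 c) (Btab_s_20_41 c) (Nat.ble 20 c)
noncomputable def Btab_s_41_43 (c : Nat) : Nat := @Bool.rec (fun _ => Nat) (Btab_41) (Btab_42) (Nat.ble 42 c)
noncomputable def Btab_s_44_46 (c : Nat) : Nat := @Bool.rec (fun _ => Nat) (Btab_44) (Btab_45) (Nat.ble 45 c)
noncomputable def Btab_s_43_46 (c : Nat) : Nat := @Bool.rec (fun _ => Nat) (Btab_43) (Btab_s_44_46 c) (Nat.ble 44 c)
noncomputable def Btab_s_41_46 (c : Nat) : Nat := @Bool.rec (fun _ => Nat) (Btab_s_41_43 c) (Btab_s_43_46 c) (Nat.ble 43 c)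
noncomputable def Btab_s_46_48 (c : Nat) : Nat := @Bool.rec (fun _ => Nat) (Btab_46) (Btab_47) (Nat.ble 47 c)
noncomputable def Btab_s_49_51 (c : Nat) : Nat := @Bool.rec (fun _ => Nat) (Btab_49) (Btab_50) (Nat.ble 50 c)
noncomputable def Btab_s_48_51 (c : Nat) : Nat := @Bool.rec (fun _ => Nat) (Btab_48) (Btab_s_49_51 c) (Nat.ble 49 c)
noncomputable def Btab_s_46_51 (c : Nat) : Nat := @Bool.rec (fun _ => Nat) (Btab_s_46_48 c) (Btab_s_48_51 c) (Nat.ble 48 c)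
noncomputable def Btab_s_41_51 (c : Nat) : Nat := @Bool.rec (fun _ => Nat) (Btab_s_41_46 c) (Btab_s_46_51 c) (Nat.ble 46 c)
noncomputable def Btab_s_51_53 (c : Nat) : Nat := @Bool.rec (fun _ => Nat) (Btab_51) (Btab_52) (Nat.ble 52 c)
noncomputable def Btab_s_54_56 (c : Nat) : Nat := @Bool.rec (fun _ => Nat) (Btab_54) (Btab_55) (Nat.ble 55 c)
noncomputable def Btab_s_53_56 (c : Nat) : Nat := @Bool.rec (fun _ => Nat) (Btab_53) (Btab_s_54_56 c) (Nat.ble 54 c)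
noncomputable def Btab_s_51_56 (c : Nat) : Nat := @Bool.rec (fun _ => Nat) (Btab_s_51_53 c) (Btab_s_53_56 c) (Nat.ble 53 c)
noncomputable def Btab_s_56_58 (c : Nat) : Nat := @Bool.rec (fun _ => Nat) (Btab_56) (Btab_57) (Nat.ble 57 c)
noncomputable def Btab_s_59_61 (c : Nat) : Nat := @Bool.rec (fun _ => Nat) (Btab_59) (Btab_60) (Nat.ble 60 c)
noncomputable def Btab_s_58_61 (c : Nat) : Nat := @Bool.rec (fun _ => Nat) (Btab_58) (Btab_s_59_61 c) (Nat.ble 59 c)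
noncomputable def Btab_s_56_61 (c : Nat) : Nat := @Bool.rec (fun _ => Nat) (Btab_s_56_58 c) (Btab_s_58_61 c) (Nat.ble 58 c)
noncomputable def Btab_s_51_61 (c : Nat) : Nat := @Bool.rec (fun _ => Nat) (Btab_s_51_56 c) (Btab_s_56_61 c) (Nat.ble 56 c)
noncomputable def Btab_s_41_61 (c : Nat) : Nat := @Bool.rec (fun _ => Nat) (Btab_s_41_51 c) (Btab_s_51_61 c) (Nat.ble 51 c)
noncomputable def Btab_s_61_63 (c : Nat) : Nat := @Bool.rec (fun _ => Nat) (Btab_61) (Btab_62) (Nat.ble 62 c)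
noncomputable def Btab_s_64_66 (c : Nat) : Nat := @Bool.rec (fun _ => Nat) (Btab_64) (Btab_65) (Nat.ble 65 c)
noncomputable def Btab_s_63_66 (c : Nat) : Nat := @Bool.rec (fun _ => Nat) (Btab_63) (Btab_s_64_66 c) (Nat.ble 64 c)
noncomputable def Btab_s_61_66 (c : Nat) : Nat := @Bool.rec (fun _ => Nat) (Btab_s_61_63 c) (Btab_s_63_66 c) (Nat.ble 63 c)
noncomputable def Btab_s_66_68 (c : Nat) : Nat := @Bool.rec (fun _ => Nat) (Btab_66) (Btab_67) (Nat.ble 67 c)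
noncomputable def Btab_s_69_71 (c : Nat) : Nat := @Bool.rec (fun _ => Nat) (Btab_69) (Btab_70) (Nat.ble 70 c)
noncomputable def Btab_s_68_71 (c : Nat) : Nat := @Bool.rec (fun _ => Nat) (Btab_68) (Btab_s_69_71 c) (Nat.ble 69 c)
noncomputable def Btab_s_66_71 (c : Nat) : Nat := @Bool.rec (fun _ => Nat) (Btab_s_66_68 c) (Btab_s_68_71 c) (Nat.ble 68 c)
noncomputable def Btab_s_61_71 (c : Nat) : Nat := @Bool.rec (fun _ => Nat) (Btab_s_61_66 c) (Btab_s_66_71 c) (Nat.ble 66 c)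
noncomputable def Btab_s_71_73 (c : Nat) : Nat := @Bool.rec (fun _ => Nat) (Btab_71) (Btab_72) (Nat.ble 72 c)
noncomputable def Btab_s_74_76 (c : Nat) : Nat := @Bool.rec (fun _ => Nat) (Btab_74) (Btab_75) (Nat.ble 75 c)
noncomputable def Btab_s_73_76 (c : Nat) : Nat := @Bool.rec (fun _ => Nat) (Btab_73) (Btab_s_74_76 c) (Nat.ble 74 c)
noncomputable def Btab_s_71_76 (c : Nat) : Nat := @Bool.rec (fun _ => Nat) (Btab_s_71_73 c) (Btab_s_73_76 c) (Nat.ble 73 c)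
noncomputable def Btab_s_77_79 (c : Nat) : Nat := @Bool.rec (fun _ => Nat) (Btab_77) (Btab_78) (Nat.ble 78 c)
noncomputable def Btab_s_76_79 (c : Nat) : Nat := @Bool.rec (fun _ => Nat) (Btab_76) (Btab_s_77_79 c) (Nat.ble 77 c)
noncomputable def Btab_s_80_82 (c : Nat) : Nat := @Bool.rec (fun _ => Nat) (Btab_80) (Btab_81) (Nat.ble 81 c)
noncomputable def Btab_s_79_82 (c : Nat) : Nat := @Bool.rec (fun _ => Nat) (Btab_79) (Btab_s_80_82 c) (Nat.ble 80 c)
noncomputable def Btab_s_76_82 (c : Nat) : Nat := @Bool.rec (fun _ => Nat) (Btab_s_76_79 c) (Btab_s_79_82 c) (Nat.ble 79 c)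
noncomputable def Btab_s_71_82 (c : Nat) : Nat := @Bool.rec (fun _ => Nat) (Btab_s_71_76 c) (Btab_s_76_82 c) (Nat.ble 76 c)
noncomputable def Btab_s_61_82 (c : Nat) : Nat := @Bool.rec (fun _ => Nat) (Btab_s_61_71 c) (Btab_s_71_82 c) (Nat.ble 71 c)
noncomputable def Btab_s_41_82 (c : Nat) : Nat := @Bool.rec (fun _ => Nat) (Btab_s_41_61 c) (Btab_s_61_82 c) (Nat.ble 61 c)
noncomputable def Btab_s_0_82 (c : Nat) : Nat := @Bool.rec (fun _ => Nat) (Btab_s_0_41 c) (Btab_s_41_82 c) (Nat.ble 41 c)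
noncomputable def Btab_s_82_84 (c : Nat) : Nat := @Bool.rec (fun _ => Nat) (Btab_82) (Btab_83) (Nat.ble 83 c)
noncomputable def Btab_s_85_87 (c : Nat) : Nat := @Bool.rec (fun _ => Nat) (Btab_85) (Btab_86) (Nat.ble 86 c)
noncomputable def Btab_s_84_87 (c : Nat) : Nat := @Bool.rec (fun _ => Nat) (Btab_84) (Btab_s_85_87 c) (Nat.ble 85 c)
noncomputable def Btab_s_82_87 (c : Nat) : Nat := @Bool.rec (fun _ => Nat) (Btab_s_82_84 c) (Btab_s_84_87 c) (Nat.ble 84 c)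
noncomputable def Btab_s_87_89 (c : Nat) : Nat := @Bool.rec (fun _ => Nat) (Btab_87) (Btab_88) (Nat.ble 88 c)
noncomputable def Btab_s_90_92 (c : Nat) : Nat := @Bool.rec (fun _ => Nat) (Btab_90) (Btab_91) (Nat.ble 91 c)
noncomputable def Btab_s_89_92 (c : Nat) : Nat := @Bool.rec (fun _ => Nat) (Btab_89) (Btab_s_90_92 c) (Nat.ble 90 c)
noncomputable def Btab_s_87_92 (c : Nat) : Nat := @Bool.rec (fun _ => Nat) (Btab_s_87_89 c) (Btab_s_89_92 c) (Nat.ble 89 c)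
noncomputable def Btab_s_82_92 (c : Nat) : Nat := @Bool.rec (fun _ => Nat) (Btab_s_82_87 c) (Btab_s_87_92 c) (Nat.ble 87 c)
noncomputable def Btab_s_92_94 (c : Nat) : Nat := @Bool.rec (fun _ => Nat) (Btab_92) (Btab_93) (Nat.ble 93 c)
noncomputable def Btab_s_95_97 (c : Nat) : Nat := @Bool.rec (fun _ => Nat) (Btab_95) (Btab_96) (Nat.ble 96 c)
noncomputable def Btab_s_94_97 (c : Nat) : Nat := @Bool.rec (fun _ => Nat) (Btab_94) (Btab_s_95_97 c) (Nat.ble 95 c)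
noncomputable def Btab_s_92_97 (c : Nat) : Nat := @Bool.rec (fun _ => Nat) (Btab_s_92_94 c) (Btab_s_94_97 c) (Nat.ble 94 c)
noncomputable def Btab_s_97_99 (c : Nat) : Nat := @Bool.rec (fun _ => Nat) (Btab_97) (Btab_98) (Nat.ble 98 c)
noncomputable def Btab_s_100_102 (c : Nat) : Nat := @Bool.rec (fun _ => Nat) (Btab_100) (Btab_101) (Nat.ble 101 c)
noncomputable def Btab_s_99_102 (c : Nat) : Nat := @Bool.rec (fun _ => Nat) (Btab_99) (Btab_s_100_102 c) (Nat.ble 100 c)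
noncomputable def Btab_s_97_102 (c : Nat) : Nat := @Bool.rec (fun _ => Nat) (Btab_s_97_99 c) (Btab_s_99_102 c) (Nat.ble 99 c)
noncomputable def Btab_s_92_102 (c : Nat) : Nat := @Bool.rec (fun _ => Nat) (Btab_s_92_97 c) (Btab_s_97_102 c) (Nat.ble 97 c)
noncomputable def Btab_s_82_102 (c : Nat) : Nat := @Bool.rec (fun _ => Nat) (Btab_s_82_92 c) (Btab_s_92_102 c) (Nat.ble 92 c)
noncomputable def Btab_s_102_104 (c : Nat) : Nat := @Bool.rec (fun _ => Nat) (Btab_102) (Btab_103) (Nat.ble 103 c)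
noncomputable def Btab_s_105_107 (c : Nat) : Nat := @Bool.rec (fun _ => Nat) (Btab_105) (Btab_106) (Nat.ble 106 c)
noncomputable def Btab_s_104_107 (c : Nat) : Nat := @Bool.rec (fun _ => Nat) (Btab_104) (Btab_s_105_107 c) (Nat.ble 105 c)
noncomputable def Btab_s_102_107 (c : Nat) : Nat := @Bool.rec (fun _ => Nat) (Btab_s_102_104 c) (Btab_s_104_107 c) (Nat.ble 104 c)
noncomputable def Btab_s_107_109 (c : Nat) : Nat := @Bool.rec (fun _ => Nat) (Btab_107) (Btab_108) (Nat.ble 108 c)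
noncomputable def Btab_s_110_112 (c : Nat) : Nat := @Bool.rec (fun _ => Nat) (Btab_110) (Btab_111) (Nat.ble 111 c)
noncomputable def Btab_s_109_112 (c : Nat) : Nat := @Bool.rec (fun _ => Nat) (Btab_109) (Btab_s_110_112 c) (Nat.ble 110 c)
noncomputable def Btab_s_107_112 (c : Nat) : Nat := @Bool.rec (fun _ => Nat) (Btab_s_107_109 c) (Btab_s_109_112 c) (Nat.ble 109 c)
noncomputable def Btab_s_102_112 (c : Nat) : Nat := @Bool.rec (fun _ => Nat) (Btab_s_102_107 c) (Btab_s_107_112 c) (Nat.ble 107 c)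
noncomputable def Btab_s_112_114 (c : Nat) : Nat := @Bool.rec (fun _ => Nat) (Btab_112) (Btab_113) (Nat.ble 113 c)
noncomputable def Btab_s_115_117 (c : Nat) : Nat := @Bool.rec (fun _ => Nat) (Btab_115) (Btab_116) (Nat.ble 116 c)
noncomputable def Btab_s_114_117 (c : Nat) : Nat := @Bool.rec (fun _ => Nat) (Btab_114) (Btab_s_115_117 c) (Nat.ble 115 c)
noncomputable def Btab_s_112_117 (c : Nat) : Nat := @Bool.rec (fun _ => Nat) (Btab_s_112_114 c) (Btab_s_114_117 c) (Nat.ble 114 c)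
noncomputable def Btab_s_118_120 (c : Nat) : Nat := @Bool.rec (fun _ => Nat) (Btab_118) (Btab_119) (Nat.ble 119 c)
noncomputable def Btab_s_117_120 (c : Nat) : Nat := @Bool.rec (fun _ => Nat) (Btab_117) (Btab_s_118_120 c) (Nat.ble 118 c)
noncomputable def Btab_s_121_123 (c : Nat) : Nat := @Bool.rec (fun _ => Nat) (Btab_121) (Btab_122) (Nat.ble 122 c)
noncomputable def Btab_s_120_123 (c : Nat) : Nat := @Bool.rec (fun _ => Nat) (Btab_120) (Btab_s_121_123 c) (Nat.ble 121 c)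
noncomputable def Btab_s_117_123 (c : Nat) : Nat := @Bool.rec (fun _ => Nat) (Btab_s_117_120 c) (Btab_s_120_123 c) (Nat.ble 120 c)
noncomputable def Btab_s_112_123 (c : Nat) : Nat := @Bool.rec (fun _ => Nat) (Btab_s_112_117 c) (Btab_s_117_123 c) (Nat.ble 117 c)
noncomputable def Btab_s_102_123 (c : Nat) : Nat := @Bool.rec (fun _ => Nat) (Btab_s_102_112 c) (Btab_s_112_123 c) (Nat.ble 112 c)
noncomputable def Btab_s_82_123 (c : Nat) : Nat := @Bool.rec (fun _ => Nat) (Btab_s_82_102 c) (Btab_s_102_123 c) (Nat.ble 102 c)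
noncomputable def Btab_s_123_125 (c : Nat) : Nat := @Bool.rec (fun _ => Nat) (Btab_123) (Btab_124) (Nat.ble 124 c)
noncomputable def Btab_s_126_128 (c : Nat) : Nat := @Bool.rec (fun _ => Nat) (Btab_126) (Btab_127) (Nat.ble 127 c)
noncomputable def Btab_s_125_128 (c : Nat) : Nat := @Bool.rec (fun _ => Nat) (Btab_125) (Btab_s_126_128 c) (Nat.ble 126 c)
noncomputable def Btab_s_123_128 (c : Nat) : Nat := @Bool.rec (fun _ => Nat) (Btab_s_123_125 c) (Btab_s_125_128 c) (Nat.ble 125 c)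
noncomputable def Btab_s_128_130 (c : Nat) : Nat := @Bool.rec (fun _ => Nat) (Btab_128) (Btab_129) (Nat.ble 129 c)
noncomputable def Btab_s_131_133 (c : Nat) : Nat := @Bool.rec (fun _ => Nat) (Btab_131) (Btab_132) (Nat.ble 132 c)
noncomputable def Btab_s_130_133 (c : Nat) : Nat := @Bool.rec (fun _ => Nat) (Btab_130) (Btab_s_131_133 c) (Nat.ble 131 c)
noncomputable def Btab_s_128_133 (c : Nat) : Nat := @Bool.rec (fun _ => Nat) (Btab_s_128_130 c) (Btab_s_130_133 c) (Nat.ble 130 c)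
noncomputable def Btab_s_123_133 (c : Nat) : Nat := @Bool.rec (fun _ => Nat) (Btab_s_123_128 c) (Btab_s_128_133 c) (Nat.ble 128 c)
noncomputable def Btab_s_133_135 (c : Nat) : Nat := @Bool.rec (fun _ => Nat) (Btab_133) (Btab_134) (Nat.ble 134 c)
noncomputable def Btab_s_136_138 (c : Nat) : Nat := @Bool.rec (fun _ => Nat) (Btab_136) (Btab_137) (Nat.ble 137 c)
noncomputable def Btab_s_135_138 (c : Nat) : Nat := @Bool.rec (fun _ => Nat) (Btab_135) (Btab_s_136_138 c) (Nat.ble 136 c)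
noncomputable def Btab_s_133_138 (c : Nat) : Nat := @Bool.rec (fun _ => Nat) (Btab_s_133_135 c) (Btab_s_135_138 c) (Nat.ble 135 c)
noncomputable def Btab_s_139_141 (c : Nat) : Nat := @Bool.rec (fun _ => Nat) (Btab_139) (Btab_140) (Nat.ble 140 c)
noncomputable def Btab_s_138_141 (c : Nat) : Nat := @Bool.rec (fun _ => Nat) (Btab_138) (Btab_s_139_141 c) (Nat.ble 139 c)
noncomputable def Btab_s_142_144 (c : Nat) : Nat := @Bool.rec (fun _ => Nat) (Btab_142) (Btab_143) (Nat.ble 143 c)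
noncomputable def Btab_s_141_144 (c : Nat) : Nat := @Bool.rec (fun _ => Nat) (Btab_141) (Btab_s_142_144 c) (Nat.ble 142 c)
noncomputable def Btab_s_138_144 (c : Nat) : Nat := @Bool.rec (fun _ => Nat) (Btab_s_138_141 c) (Btab_s_141_144 c) (Nat.ble 141 c)
noncomputable def Btab_s_133_144 (c : Nat) : Nat := @Bool.rec (fun _ => Nat) (Btab_s_133_138 c) (Btab_s_138_144 c) (Nat.ble 138 c)
noncomputable def Btab_s_123_144 (c : Nat) : Nat := @Bool.rec (fun _ => Nat) (Btab_s_123_133 c) (Btab_s_133_144 c) (Nat.ble 133 c)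
noncomputable def Btab_s_144_146 (c : Nat) : Nat := @Bool.rec (fun _ => Nat) (Btab_144) (Btab_145) (Nat.ble 145 c)
noncomputable def Btab_s_147_149 (c : Nat) : Nat := @Bool.rec (fun _ => Nat) (Btab_147) (Btab_148) (Nat.ble 148 c)
noncomputable def Btab_s_146_149 (c : Nat) : Nat := @Bool.rec (fun _ => Nat) (Btab_146) (Btab_s_147_149 c) (Nat.ble 147 c)
noncomputable def Btab_s_144_149 (c : Nat) : Nat := @Bool.rec (fun _ => Nat) (Btab_s_144_146 c) (Btab_s_146_149 c) (Nat.ble 146 c)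
noncomputable def Btab_s_149_151 (c : Nat) : Nat := @Bool.rec (fun _ => Nat) (Btab_149) (Btab_150) (Nat.ble 150 c)
noncomputable def Btab_s_152_154 (c : Nat) : Nat := @Bool.rec (fun _ => Nat) (Btab_152) (Btab_153) (Nat.ble 153 c)
noncomputable def Btab_s_151_154 (c : Nat) : Nat := @Bool.rec (fun _ => Nat) (Btab_151) (Btab_s_152_154 c) (Nat.ble 152 c)
noncomputable def Btab_s_149_154 (c : Nat) : Nat := @Bool.rec (fun _ => Nat) (Btab_s_149_151 c) (Btab_s_151_154 c) (Nat.ble 151 c)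
noncomputable def Btab_s_144_154 (c : Nat) : Nat := @Bool.rec (fun _ => Nat) (Btab_s_144_149 c) (Btab_s_149_154 c) (Nat.ble 149 c)
noncomputable def Btab_s_154_156 (c : Nat) : Nat := @Bool.rec (fun _ => Nat) (Btab_154) (Btab_155) (Nat.ble 155 c)
noncomputable def Btab_s_157_159 (c : Nat) : Nat := @Bool.rec (fun _ => Nat) (Btab_157) (Btab_158) (Nat.ble 158 c)
noncomputable def Btab_s_156_159 (c : Nat) : Nat := @Bool.rec (fun _ => Nat) (Btab_156) (Btab_s_157_159 c) (Nat.ble 157 c)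
noncomputable def Btab_s_154_159 (c : Nat) : Nat := @Bool.rec (fun _ => Nat) (Btab_s_154_156 c) (Btab_s_156_159 c) (Nat.ble 156 c)
noncomputable def Btab_s_160_162 (c : Nat) : Nat := @Bool.rec (fun _ => Nat) (Btab_160) (Btab_161) (Nat.ble 161 c)
noncomputable def Btab_s_159_162 (c : Nat) : Nat := @Bool.rec (fun _ => Nat) (Btab_159) (Btab_s_160_162 c) (Nat.ble 160 c)
noncomputable def Btab_s_163_165 (c : Nat) : Nat := @Bool.rec (fun _ => Nat) (Btab_163) (Btab_164) (Nat.ble 164 c)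
noncomputable def Btab_s_162_165 (c : Nat) : Nat := @Bool.rec (fun _ => Nat) (Btab_162) (Btab_s_163_165 c) (Nat.ble 163 c)
noncomputable def Btab_s_159_165 (c : Nat) : Nat := @Bool.rec (fun _ => Nat) (Btab_s_159_162 c) (Btab_s_162_165 c) (Nat.ble 162 c)
noncomputable def Btab_s_154_165 (c : Nat) : Nat := @Bool.rec (fun _ => Nat) (Btab_s_154_159 c) (Btab_s_159_165 c) (Nat.ble 159 c)
noncomputable def Btab_s_144_165 (c : Nat) : Nat := @Bool.rec (fun _ => Nat) (Btab_s_144_154 c) (Btab_s_154_165 c) (Nat.ble 154 c)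
noncomputable def Btab_s_123_165 (c : Nat) : Nat := @Bool.rec (fun _ => Nat) (Btab_s_123_144 c) (Btab_s_144_165 c) (Nat.ble 144 c)
noncomputable def Btab_s_82_165 (c : Nat) : Nat := @Bool.rec (fun _ => Nat) (Btab_s_82_123 c) (Btab_s_123_165 c) (Nat.ble 123 c)
noncomputable def Btab_s_0_165 (c : Nat) : Nat := @Bool.rec (fun _ => Nat) (Btab_s_0_82 c) (Btab_s_82_165 c) (Nat.ble 82 c)
noncomputable def Btab (i : Nat) : Nat := rdw 38 274877906943 (Btab_s_0_165 (Nat.shiftRight i 11)) (Nat.land i 2047)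
noncomputable def Ptab_s_1_3 (c : Nat) : Nat := @Bool.rec (fun _ => Nat) (Ptab_1) (Ptab_2) (Nat.ble 2 c)
noncomputable def Ptab_s_0_3 (c : Nat) : Nat := @Bool.rec (fun _ => Nat) (Ptab_0) (Ptab_s_1_3 c) (Nat.ble 1 c)
noncomputable def Ptab_s_4_6 (c : Nat) : Nat := @Bool.rec (fun _ => Nat) (Ptab_4) (Ptab_5) (Nat.ble 5 c)
noncomputable def Ptab_s_3_6 (c : Nat) : Nat := @Bool.rec (fun _ => Nat) (Ptab_3) (Ptab_s_4_6 c) (Nat.ble 4 c)
noncomputable def Ptab_s_0_6 (c : Nat) : Nat := @Bool.rec (fun _ => Nat) (Ptab_s_0_3 c) (Ptab_s_3_6 c) (Nat.ble 3 c)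
noncomputable def Ptab_s_7_9 (c : Nat) : Nat := @Bool.rec (fun _ => Nat) (Ptab_7) (Ptab_8) (Nat.ble 8 c)
noncomputable def Ptab_s_6_9 (c : Nat) : Nat := @Bool.rec (fun _ => Nat) (Ptab_6) (Ptab_s_7_9 c) (Nat.ble 7 c)
noncomputable def Ptab_s_10_12 (c : Nat) : Nat := @Bool.rec (fun _ => Nat) (Ptab_10) (Ptab_11) (Nat.ble 11 c)
noncomputable def Ptab_s_9_12 (c : Nat) : Nat := @Bool.rec (fun _ => Nat) (Ptab_9) (Ptab_s_10_12 c) (Nat.ble 10 c)
noncomputable def Ptab_s_6_12 (c : Nat) : Nat := @Bool.rec (fun _ => Nat) (Ptab_s_6_9 c) (Ptab_s_9_12 c) (Nat.ble 9 c)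
noncomputable def Ptab_s_0_12 (c : Nat) : Nat := @Bool.rec (fun _ => Nat) (Ptab_s_0_6 c) (Ptab_s_6_12 c) (Nat.ble 6 c)
noncomputable def Ptab_s_13_15 (c : Nat) : Nat := @Bool.rec (fun _ => Nat) (Ptab_13) (Ptab_14) (Nat.ble 14 c)
noncomputable def Ptab_s_12_15 (c : Nat) : Nat := @Bool.rec (fun _ => Nat) (Ptab_12) (Ptab_s_13_15 c) (Nat.ble 13 c)
noncomputable def Ptab_s_16_18 (c : Nat) : Nat := @Bool.rec (fun _ => Nat) (Ptab_16) (Ptab_17) (Nat.ble 17 c)
noncomputable def Ptab_s_15_18 (c : Nat) : Nat := @Bool.rec (fun _ => Nat) (Ptab_15) (Ptab_s_16_18 c) (Nat.ble 16 c)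
noncomputable def Ptab_s_12_18 (c : Nat) : Nat := @Bool.rec (fun _ => Nat) (Ptab_s_12_15 c) (Ptab_s_15_18 c) (Nat.ble 15 c)
noncomputable def Ptab_s_19_21 (c : Nat) : Nat := @Bool.rec (fun _ => Nat) (Ptab_19) (Ptab_20) (Nat.ble 20 c)
noncomputable def Ptab_s_18_21 (c : Nat) : Nat := @Bool.rec (fun _ => Nat) (Ptab_18) (Ptab_s_19_21 c) (Nat.ble 19 c)
noncomputable def Ptab_s_22_24 (c : Nat) : Nat := @Bool.rec (fun _ => Nat) (Ptab_22) (Ptab_23) (Nat.ble 23 c)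
noncomputable def Ptab_s_21_24 (c : Nat) : Nat := @Bool.rec (fun _ => Nat) (Ptab_21) (Ptab_s_22_24 c) (Nat.ble 22 c)
noncomputable def Ptab_s_18_24 (c : Nat) : Nat := @Bool.rec (fun _ => Nat) (Ptab_s_18_21 c) (Ptab_s_21_24 c) (Nat.ble 21 c)
noncomputable def Ptab_s_12_24 (c : Nat) : Nat := @Bool.rec (fun _ => Nat) (Ptab_s_12_18 c) (Ptab_s_18_24 c) (Nat.ble 18 c)
noncomputable def Ptab_s_0_24 (c : Nat) : Nat := @Bool.rec (fun _ => Nat) (Ptab_s_0_12 c) (Ptab_s_12_24 c) (Nat.ble 12 c)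
noncomputable def Ptab_s_25_27 (c : Nat) : Nat := @Bool.rec (fun _ => Nat) (Ptab_25) (Ptab_26) (Nat.ble 26 c)
noncomputable def Ptab_s_24_27 (c : Nat) : Nat := @Bool.rec (fun _ => Nat) (Ptab_24) (Ptab_s_25_27 c) (Nat.ble 25 c)
noncomputable def Ptab_s_28_30 (c : Nat) : Nat := @Bool.rec (fun _ => Nat) (Ptab_28) (Ptab_29) (Nat.ble 29 c)
noncomputable def Ptab_s_27_30 (c : Nat) : Nat := @Bool.rec (fun _ => Nat) (Ptab_27) (Ptab_s_28_30 c) (Nat.ble 28 c)
noncomputable def Ptab_s_24_30 (c : Nat) : Nat := @Bool.rec (fun _ => Nat) (Ptab_s_24_27 c) (Ptab_s_27_30 c) (Nat.ble 27 c)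
noncomputable def Ptab_s_31_33 (c : Nat) : Nat := @Bool.rec (fun _ => Nat) (Ptab_31) (Ptab_32) (Nat.ble 32 c)
noncomputable def Ptab_s_30_33 (c : Nat) : Nat := @Bool.rec (fun _ => Nat) (Ptab_30) (Ptab_s_31_33 c) (Nat.ble 31 c)
noncomputable def Ptab_s_34_36 (c : Nat) : Nat := @Bool.rec (fun _ => Nat) (Ptab_34) (Ptab_35) (Nat.ble 35 c)
noncomputable def Ptab_s_33_36 (c : Nat) : Nat := @Bool.rec (fun _ => Nat) (Ptab_33) (Ptab_s_34_36 c) (Nat.ble 34 c)
noncomputable def Ptab_s_30_36 (c : Nat) : Nat := @Bool.rec (fun _ => Nat) (Ptab_s_30_33 c) (Ptab_s_33_36 c) (Nat.ble 33 c)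
noncomputable def Ptab_s_24_36 (c : Nat) : Nat := @Bool.rec (fun _ => Nat) (Ptab_s_24_30 c) (Ptab_s_30_36 c) (Nat.ble 30 c)
noncomputable def Ptab_s_37_39 (c : Nat) : Nat := @Bool.rec (fun _ => Nat) (Ptab_37) (Ptab_38) (Nat.ble 38 c)
noncomputable def Ptab_s_36_39 (c : Nat) : Nat := @Bool.rec (fun _ => Nat) (Ptab_36) (Ptab_s_37_39 c) (Nat.ble 37 c)
noncomputable def Ptab_s_40_42 (c : Nat) : Nat := @Bool.rec (fun _ => Nat) (Ptab_40) (Ptab_41) (Nat.ble 41 c)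
noncomputable def Ptab_s_39_42 (c : Nat) : Nat := @Bool.rec (fun _ => Nat) (Ptab_39) (Ptab_s_40_42 c) (Nat.ble 40 c)
noncomputable def Ptab_s_36_42 (c : Nat) : Nat := @Bool.rec (fun _ => Nat) (Ptab_s_36_39 c) (Ptab_s_39_42 c) (Nat.ble 39 c)
noncomputable def Ptab_s_43_45 (c : Nat) : Nat := @Bool.rec (fun _ => Nat) (Ptab_43) (Ptab_44) (Nat.ble 44 c)
noncomputable def Ptab_s_42_45 (c : Nat) : Nat := @Bool.rec (fun _ => Nat) (Ptab_42) (Ptab_s_43_45 c) (Nat.ble 43 c)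
noncomputable def Ptab_s_45_47 (c : Nat) : Nat := @Bool.rec (fun _ => Nat) (Ptab_45) (Ptab_46) (Nat.ble 46 c)
noncomputable def Ptab_s_47_49 (c : Nat) : Nat := @Bool.rec (fun _ => Nat) (Ptab_47) (Ptab_48) (Nat.ble 48 c)
noncomputable def Ptab_s_45_49 (c : Nat) : Nat := @Bool.rec (fun _ => Nat) (Ptab_s_45_47 c) (Ptab_s_47_49 c) (Nat.ble 47 c)
noncomputable def Ptab_s_42_49 (c : Nat) : Nat := @Bool.rec (fun _ => Nat) (Ptab_s_42_45 c) (Ptab_s_45_49 c) (Nat.ble 45 c)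
noncomputable def Ptab_s_36_49 (c : Nat) : Nat := @Bool.rec (fun _ => Nat) (Ptab_s_36_42 c) (Ptab_s_42_49 c) (Nat.ble 42 c)
noncomputable def Ptab_s_24_49 (c : Nat) : Nat := @Bool.rec (fun _ => Nat) (Ptab_s_24_36 c) (Ptab_s_36_49 c) (Nat.ble 36 c)
noncomputable def Ptab_s_0_49 (c : Nat) : Nat := @Bool.rec (fun _ => Nat) (Ptab_s_0_24 c) (Ptab_s_24_49 c) (Nat.ble 24 c)
noncomputable def Ptab_s_50_52 (c : Nat) : Nat := @Bool.rec (fun _ => Nat) (Ptab_50) (Ptab_51) (Nat.ble 51 c)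
noncomputable def Ptab_s_49_52 (c : Nat) : Nat := @Bool.rec (fun _ => Nat) (Ptab_49) (Ptab_s_50_52 c) (Nat.ble 50 c)
noncomputable def Ptab_s_53_55 (c : Nat) : Nat := @Bool.rec (fun _ => Nat) (Ptab_53) (Ptab_54) (Nat.ble 54 c)
noncomputable def Ptab_s_52_55 (c : Nat) : Nat := @Bool.rec (fun _ => Nat) (Ptab_52) (Ptab_s_53_55 c) (Nat.ble 53 c)
noncomputable def Ptab_s_49_55 (c : Nat) : Nat := @Bool.rec (fun _ => Nat) (Ptab_s_49_52 c) (Ptab_s_52_55 c) (Nat.ble 52 c)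
noncomputable def Ptab_s_56_58 (c : Nat) : Nat := @Bool.rec (fun _ => Nat) (Ptab_56) (Ptab_57) (Nat.ble 57 c)
noncomputable def Ptab_s_55_58 (c : Nat) : Nat := @Bool.rec (fun _ => Nat) (Ptab_55) (Ptab_s_56_58 c) (Nat.ble 56 c)
noncomputable def Ptab_s_59_61 (c : Nat) : Nat := @Bool.rec (fun _ => Nat) (Ptab_59) (Ptab_60) (Nat.ble 60 c)
noncomputable def Ptab_s_58_61 (c : Nat) : Nat := @Bool.rec (fun _ => Nat) (Ptab_58) (Ptab_s_59_61 c) (Nat.ble 59 c)
noncomputable def Ptab_s_55_61 (c : Nat) : Nat := @Bool.rec (fun _ => Nat) (Ptab_s_55_58 c) (Ptab_s_58_61 c) (Nat.ble 58 c)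
noncomputable def Ptab_s_49_61 (c : Nat) : Nat := @Bool.rec (fun _ => Nat) (Ptab_s_49_55 c) (Ptab_s_55_61 c) (Nat.ble 55 c)
noncomputable def Ptab_s_62_64 (c : Nat) : Nat := @Bool.rec (fun _ => Nat) (Ptab_62) (Ptab_63) (Nat.ble 63 c)
noncomputable def Ptab_s_61_64 (c : Nat) : Nat := @Bool.rec (fun _ => Nat) (Ptab_61) (Ptab_s_62_64 c) (Nat.ble 62 c)
noncomputable def Ptab_s_65_67 (c : Nat) : Nat := @Bool.rec (fun _ => Nat) (Ptab_65) (Ptab_66) (Nat.ble 66 c)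
noncomputable def Ptab_s_64_67 (c : Nat) : Nat := @Bool.rec (fun _ => Nat) (Ptab_64) (Ptab_s_65_67 c) (Nat.ble 65 c)
noncomputable def Ptab_s_61_67 (c : Nat) : Nat := @Bool.rec (fun _ => Nat) (Ptab_s_61_64 c) (Ptab_s_64_67 c) (Nat.ble 64 c)
noncomputable def Ptab_s_68_70 (c : Nat) : Nat := @Bool.rec (fun _ => Nat) (Ptab_68) (Ptab_69) (Nat.ble 69 c)
noncomputable def Ptab_s_67_70 (c : Nat) : Nat := @Bool.rec (fun _ => Nat) (Ptab_67) (Ptab_s_68_70 c) (Nat.ble 68 c)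
noncomputable def Ptab_s_71_73 (c : Nat) : Nat := @Bool.rec (fun _ => Nat) (Ptab_71) (Ptab_72) (Nat.ble 72 c)
noncomputable def Ptab_s_70_73 (c : Nat) : Nat := @Bool.rec (fun _ => Nat) (Ptab_70) (Ptab_s_71_73 c) (Nat.ble 71 c)
noncomputable def Ptab_s_67_73 (c : Nat) : Nat := @Bool.rec (fun _ => Nat) (Ptab_s_67_70 c) (Ptab_s_70_73 c) (Nat.ble 70 c)
noncomputable def Ptab_s_61_73 (c : Nat) : Nat := @Bool.rec (fun _ => Nat) (Ptab_s_61_67 c) (Ptab_s_67_73 c) (Nat.ble 67 c)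
noncomputable def Ptab_s_49_73 (c : Nat) : Nat := @Bool.rec (fun _ => Nat) (Ptab_s_49_61 c) (Ptab_s_61_73 c) (Nat.ble 61 c)
noncomputable def Ptab_s_74_76 (c : Nat) : Nat := @Bool.rec (fun _ => Nat) (Ptab_74) (Ptab_75) (Nat.ble 75 c)
noncomputable def Ptab_s_73_76 (c : Nat) : Nat := @Bool.rec (fun _ => Nat) (Ptab_73) (Ptab_s_74_76 c) (Nat.ble 74 c)
noncomputable def Ptab_s_77_79 (c : Nat) : Nat := @Bool.rec (fun _ => Nat) (Ptab_77) (Ptab_78) (Nat.ble 78 c)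
noncomputable def Ptab_s_76_79 (c : Nat) : Nat := @Bool.rec (fun _ => Nat) (Ptab_76) (Ptab_s_77_79 c) (Nat.ble 77 c)
noncomputable def Ptab_s_73_79 (c : Nat) : Nat := @Bool.rec (fun _ => Nat) (Ptab_s_73_76 c) (Ptab_s_76_79 c) (Nat.ble 76 c)
noncomputable def Ptab_s_80_82 (c : Nat) : Nat := @Bool.rec (fun _ => Nat) (Ptab_80) (Ptab_81) (Nat.ble 81 c)
noncomputable def Ptab_s_79_82 (c : Nat) : Nat := @Bool.rec (fun _ => Nat) (Ptab_79) (Ptab_s_80_82 c) (Nat.ble 80 c)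
noncomputable def Ptab_s_83_85 (c : Nat) : Nat := @Bool.rec (fun _ => Nat) (Ptab_83) (Ptab_84) (Nat.ble 84 c)
noncomputable def Ptab_s_82_85 (c : Nat) : Nat := @Bool.rec (fun _ => Nat) (Ptab_82) (Ptab_s_83_85 c) (Nat.ble 83 c)
noncomputable def Ptab_s_79_85 (c : Nat) : Nat := @Bool.rec (fun _ => Nat) (Ptab_s_79_82 c) (Ptab_s_82_85 c) (Nat.ble 82 c)
noncomputable def Ptab_s_73_85 (c : Nat) : Nat := @Bool.rec (fun _ => Nat) (Ptab_s_73_79 c) (Ptab_s_79_85 c) (Nat.ble 79 c)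
noncomputable def Ptab_s_86_88 (c : Nat) : Nat := @Bool.rec (fun _ => Nat) (Ptab_86) (Ptab_87) (Nat.ble 87 c)
noncomputable def Ptab_s_85_88 (c : Nat) : Nat := @Bool.rec (fun _ => Nat) (Ptab_85) (Ptab_s_86_88 c) (Nat.ble 86 c)
noncomputable def Ptab_s_89_91 (c : Nat) : Nat := @Bool.rec (fun _ => Nat) (Ptab_89) (Ptab_90) (Nat.ble 90 c)
noncomputable def Ptab_s_88_91 (c : Nat) : Nat := @Bool.rec (fun _ => Nat) (Ptab_88) (Ptab_s_89_91 c) (Nat.ble 89 c)
noncomputable def Ptab_s_85_91 (c : Nat) : Nat := @Bool.rec (fun _ => Nat) (Ptab_s_85_88 c) (Ptab_s_88_91 c) (Nat.ble 88 c)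
noncomputable def Ptab_s_92_94 (c : Nat) : Nat := @Bool.rec (fun _ => Nat) (Ptab_92) (Ptab_93) (Nat.ble 93 c)
noncomputable def Ptab_s_91_94 (c : Nat) : Nat := @Bool.rec (fun _ => Nat) (Ptab_91) (Ptab_s_92_94 c) (Nat.ble 92 c)
noncomputable def Ptab_s_94_96 (c : Nat) : Nat := @Bool.rec (fun _ => Nat) (Ptab_94) (Ptab_95) (Nat.ble 95 c)
noncomputable def Ptab_s_96_98 (c : Nat) : Nat := @Bool.rec (fun _ => Nat) (Ptab_96) (Ptab_97) (Nat.ble 97 c)
noncomputable def Ptab_s_94_98 (c : Nat) : Nat := @Bool.rec (fun _ => Nat) (Ptab_s_94_96 c) (Ptab_s_96_98 c) (Nat.ble 96 c)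
noncomputable def Ptab_s_91_98 (c : Nat) : Nat := @Bool.rec (fun _ => Nat) (Ptab_s_91_94 c) (Ptab_s_94_98 c) (Nat.ble 94 c)
noncomputable def Ptab_s_85_98 (c : Nat) : Nat := @Bool.rec (fun _ => Nat) (Ptab_s_85_91 c) (Ptab_s_91_98 c) (Nat.ble 91 c)
noncomputable def Ptab_s_73_98 (c : Nat) : Nat := @Bool.rec (fun _ => Nat) (Ptab_s_73_85 c) (Ptab_s_85_98 c) (Nat.ble 85 c)
noncomputable def Ptab_s_49_98 (c : Nat) : Nat := @Bool.rec (fun _ => Nat) (Ptab_s_49_73 c) (Ptab_s_73_98 c) (Nat.ble 73 c)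
noncomputable def Ptab_s_0_98 (c : Nat) : Nat := @Bool.rec (fun _ => Nat) (Ptab_s_0_49 c) (Ptab_s_49_98 c) (Nat.ble 49 c)
noncomputable def Ptab_s_99_101 (c : Nat) : Nat := @Bool.rec (fun _ => Nat) (Ptab_99) (Ptab_100) (Nat.ble 100 c)
noncomputable def Ptab_s_98_101 (c : Nat) : Nat := @Bool.rec (fun _ => Nat) (Ptab_98) (Ptab_s_99_101 c) (Nat.ble 99 c)
noncomputable def Ptab_s_102_104 (c : Nat) : Nat := @Bool.rec (fun _ => Nat) (Ptab_102) (Ptab_103) (Nat.ble 103 c)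
noncomputable def Ptab_s_101_104 (c : Nat) : Nat := @Bool.rec (fun _ => Nat) (Ptab_101) (Ptab_s_102_104 c) (Nat.ble 102 c)
noncomputable def Ptab_s_98_104 (c : Nat) : Nat := @Bool.rec (fun _ => Nat) (Ptab_s_98_101 c) (Ptab_s_101_104 c) (Nat.ble 101 c)
noncomputable def Ptab_s_105_107 (c : Nat) : Nat := @Bool.rec (fun _ => Nat) (Ptab_105) (Ptab_106) (Nat.ble 106 c)
noncomputable def Ptab_s_104_107 (c : Nat) : Nat := @Bool.rec (fun _ => Nat) (Ptab_104) (Ptab_s_105_107 c) (Nat.ble 105 c)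
noncomputable def Ptab_s_108_110 (c : Nat) : Nat := @Bool.rec (fun _ => Nat) (Ptab_108) (Ptab_109) (Nat.ble 109 c)
noncomputable def Ptab_s_107_110 (c : Nat) : Nat := @Bool.rec (fun _ => Nat) (Ptab_107) (Ptab_s_108_110 c) (Nat.ble 108 c)
noncomputable def Ptab_s_104_110 (c : Nat) : Nat := @Bool.rec (fun _ => Nat) (Ptab_s_104_107 c) (Ptab_s_107_110 c) (Nat.ble 107 c)
noncomputable def Ptab_s_98_110 (c : Nat) : Nat := @Bool.rec (fun _ => Nat) (Ptab_s_98_104 c) (Ptab_s_104_110 c) (Nat.ble 104 c)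
noncomputable def Ptab_s_111_113 (c : Nat) : Nat := @Bool.rec (fun _ => Nat) (Ptab_111) (Ptab_112) (Nat.ble 112 c)
noncomputable def Ptab_s_110_113 (c : Nat) : Nat := @Bool.rec (fun _ => Nat) (Ptab_110) (Ptab_s_111_113 c) (Nat.ble 111 c)
noncomputable def Ptab_s_114_116 (c : Nat) : Nat := @Bool.rec (fun _ => Nat) (Ptab_114) (Ptab_115) (Nat.ble 115 c)
noncomputable def Ptab_s_113_116 (c : Nat) : Nat := @Bool.rec (fun _ => Nat) (Ptab_113) (Ptab_s_114_116 c) (Nat.ble 114 c)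
noncomputable def Ptab_s_110_116 (c : Nat) : Nat := @Bool.rec (fun _ => Nat) (Ptab_s_110_113 c) (Ptab_s_113_116 c) (Nat.ble 113 c)
noncomputable def Ptab_s_117_119 (c : Nat) : Nat := @Bool.rec (fun _ => Nat) (Ptab_117) (Ptab_118) (Nat.ble 118 c)
noncomputable def Ptab_s_116_119 (c : Nat) : Nat := @Bool.rec (fun _ => Nat) (Ptab_116) (Ptab_s_117_119 c) (Nat.ble 117 c)
noncomputable def Ptab_s_120_122 (c : Nat) : Nat := @Bool.rec (fun _ => Nat) (Ptab_120) (Ptab_121) (Nat.ble 121 c)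
noncomputable def Ptab_s_119_122 (c : Nat) : Nat := @Bool.rec (fun _ => Nat) (Ptab_119) (Ptab_s_120_122 c) (Nat.ble 120 c)
noncomputable def Ptab_s_116_122 (c : Nat) : Nat := @Bool.rec (fun _ => Nat) (Ptab_s_116_119 c) (Ptab_s_119_122 c) (Nat.ble 119 c)
noncomputable def Ptab_s_110_122 (c : Nat) : Nat := @Bool.rec (fun _ => Nat) (Ptab_s_110_116 c) (Ptab_s_116_122 c) (Nat.ble 116 c)
noncomputable def Ptab_s_98_122 (c : Nat) : Nat := @Bool.rec (fun _ => Nat) (Ptab_s_98_110 c) (Ptab_s_110_122 c) (Nat.ble 110 c)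
noncomputable def Ptab_s_123_125 (c : Nat) : Nat := @Bool.rec (fun _ => Nat) (Ptab_123) (Ptab_124) (Nat.ble 124 c)
noncomputable def Ptab_s_122_125 (c : Nat) : Nat := @Bool.rec (fun _ => Nat) (Ptab_122) (Ptab_s_123_125 c) (Nat.ble 123 c)
noncomputable def Ptab_s_126_128 (c : Nat) : Nat := @Bool.rec (fun _ => Nat) (Ptab_126) (Ptab_127) (Nat.ble 127 c)
noncomputable def Ptab_s_125_128 (c : Nat) : Nat := @Bool.rec (fun _ => Nat) (Ptab_125) (Ptab_s_126_128 c) (Nat.ble 126 c)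
noncomputable def Ptab_s_122_128 (c : Nat) : Nat := @Bool.rec (fun _ => Nat) (Ptab_s_122_125 c) (Ptab_s_125_128 c) (Nat.ble 125 c)
noncomputable def Ptab_s_129_131 (c : Nat) : Nat := @Bool.rec (fun _ => Nat) (Ptab_129) (Ptab_130) (Nat.ble 130 c)
noncomputable def Ptab_s_128_131 (c : Nat) : Nat := @Bool.rec (fun _ => Nat) (Ptab_128) (Ptab_s_129_131 c) (Nat.ble 129 c)
noncomputable def Ptab_s_132_134 (c : Nat) : Nat := @Bool.rec (fun _ => Nat) (Ptab_132) (Ptab_133) (Nat.ble 133 c)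
noncomputable def Ptab_s_131_134 (c : Nat) : Nat := @Bool.rec (fun _ => Nat) (Ptab_131) (Ptab_s_132_134 c) (Nat.ble 132 c)
noncomputable def Ptab_s_128_134 (c : Nat) : Nat := @Bool.rec (fun _ => Nat) (Ptab_s_128_131 c) (Ptab_s_131_134 c) (Nat.ble 131 c)
noncomputable def Ptab_s_122_134 (c : Nat) : Nat := @Bool.rec (fun _ => Nat) (Ptab_s_122_128 c) (Ptab_s_128_134 c) (Nat.ble 128 c)
noncomputable def Ptab_s_135_137 (c : Nat) : Nat := @Bool.rec (fun _ => Nat) (Ptab_135) (Ptab_136) (Nat.ble 136 c)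
noncomputable def Ptab_s_134_137 (c : Nat) : Nat := @Bool.rec (fun _ => Nat) (Ptab_134) (Ptab_s_135_137 c) (Nat.ble 135 c)
noncomputable def Ptab_s_138_140 (c : Nat) : Nat := @Bool.rec (fun _ => Nat) (Ptab_138) (Ptab_139) (Nat.ble 139 c)
noncomputable def Ptab_s_137_140 (c : Nat) : Nat := @Bool.rec (fun _ => Nat) (Ptab_137) (Ptab_s_138_140 c) (Nat.ble 138 c)
noncomputable def Ptab_s_134_140 (c : Nat) : Nat := @Bool.rec (fun _ => Nat) (Ptab_s_134_137 c) (Ptab_s_137_140 c) (Nat.ble 137 c)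
noncomputable def Ptab_s_141_143 (c : Nat) : Nat := @Bool.rec (fun _ => Nat) (Ptab_141) (Ptab_142) (Nat.ble 142 c)
noncomputable def Ptab_s_140_143 (c : Nat) : Nat := @Bool.rec (fun _ => Nat) (Ptab_140) (Ptab_s_141_143 c) (Nat.ble 141 c)
noncomputable def Ptab_s_143_145 (c : Nat) : Nat := @Bool.rec (fun _ => Nat) (Ptab_143) (Ptab_144) (Nat.ble 144 c)
noncomputable def Ptab_s_145_147 (c : Nat) : Nat := @Bool.rec (fun _ => Nat) (Ptab_145) (Ptab_146) (Nat.ble 146 c)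
noncomputable def Ptab_s_143_147 (c : Nat) : Nat := @Bool.rec (fun _ => Nat) (Ptab_s_143_145 c) (Ptab_s_145_147 c) (Nat.ble 145 c)
noncomputable def Ptab_s_140_147 (c : Nat) : Nat := @Bool.rec (fun _ => Nat) (Ptab_s_140_143 c) (Ptab_s_143_147 c) (Nat.ble 143 c)
noncomputable def Ptab_s_134_147 (c : Nat) : Nat := @Bool.rec (fun _ => Nat) (Ptab_s_134_140 c) (Ptab_s_140_147 c) (Nat.ble 140 c)
noncomputable def Ptab_s_122_147 (c : Nat) : Nat := @Bool.rec (fun _ => Nat) (Ptab_s_122_134 c) (Ptab_s_134_147 c) (Nat.ble 134 c)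
noncomputable def Ptab_s_98_147 (c : Nat) : Nat := @Bool.rec (fun _ => Nat) (Ptab_s_98_122 c) (Ptab_s_122_147 c) (Nat.ble 122 c)
noncomputable def Ptab_s_148_150 (c : Nat) : Nat := @Bool.rec (fun _ => Nat) (Ptab_148) (Ptab_149) (Nat.ble 149 c)
noncomputable def Ptab_s_147_150 (c : Nat) : Nat := @Bool.rec (fun _ => Nat) (Ptab_147) (Ptab_s_148_150 c) (Nat.ble 148 c)
noncomputable def Ptab_s_151_153 (c : Nat) : Nat := @Bool.rec (fun _ => Nat) (Ptab_151) (Ptab_152) (Nat.ble 152 c)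
noncomputable def Ptab_s_150_153 (c : Nat) : Nat := @Bool.rec (fun _ => Nat) (Ptab_150) (Ptab_s_151_153 c) (Nat.ble 151 c)
noncomputable def Ptab_s_147_153 (c : Nat) : Nat := @Bool.rec (fun _ => Nat) (Ptab_s_147_150 c) (Ptab_s_150_153 c) (Nat.ble 150 c)
noncomputable def Ptab_s_154_156 (c : Nat) : Nat := @Bool.rec (fun _ => Nat) (Ptab_154) (Ptab_155) (Nat.ble 155 c)
noncomputable def Ptab_s_153_156 (c : Nat) : Nat := @Bool.rec (fun _ => Nat) (Ptab_153) (Ptab_s_154_156 c) (Nat.ble 154 c)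
noncomputable def Ptab_s_157_159 (c : Nat) : Nat := @Bool.rec (fun _ => Nat) (Ptab_157) (Ptab_158) (Nat.ble 158 c)
noncomputable def Ptab_s_156_159 (c : Nat) : Nat := @Bool.rec (fun _ => Nat) (Ptab_156) (Ptab_s_157_159 c) (Nat.ble 157 c)
noncomputable def Ptab_s_153_159 (c : Nat) : Nat := @Bool.rec (fun _ => Nat) (Ptab_s_153_156 c) (Ptab_s_156_159 c) (Nat.ble 156 c)
noncomputable def Ptab_s_147_159 (c : Nat) : Nat := @Bool.rec (fun _ => Nat) (Ptab_s_147_153 c) (Ptab_s_153_159 c) (Nat.ble 153 c)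
noncomputable def Ptab_s_160_162 (c : Nat) : Nat := @Bool.rec (fun _ => Nat) (Ptab_160) (Ptab_161) (Nat.ble 161 c)
noncomputable def Ptab_s_159_162 (c : Nat) : Nat := @Bool.rec (fun _ => Nat) (Ptab_159) (Ptab_s_160_162 c) (Nat.ble 160 c)
noncomputable def Ptab_s_163_165 (c : Nat) : Nat := @Bool.rec (fun _ => Nat) (Ptab_163) (Ptab_164) (Nat.ble 164 c)
noncomputable def Ptab_s_162_165 (c : Nat) : Nat := @Bool.rec (fun _ => Nat) (Ptab_162) (Ptab_s_163_165 c) (Nat.ble 163 c)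
noncomputable def Ptab_s_159_165 (c : Nat) : Nat := @Bool.rec (fun _ => Nat) (Ptab_s_159_162 c) (Ptab_s_162_165 c) (Nat.ble 162 c)
noncomputable def Ptab_s_166_168 (c : Nat) : Nat := @Bool.rec (fun _ => Nat) (Ptab_166) (Ptab_167) (Nat.ble 167 c)
noncomputable def Ptab_s_165_168 (c : Nat) : Nat := @Bool.rec (fun _ => Nat) (Ptab_165) (Ptab_s_166_168 c) (Nat.ble 166 c)
noncomputable def Ptab_s_168_170 (c : Nat) : Nat := @Bool.rec (fun _ => Nat) (Ptab_168) (Ptab_169) (Nat.ble 169 c)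
noncomputable def Ptab_s_170_172 (c : Nat) : Nat := @Bool.rec (fun _ => Nat) (Ptab_170) (Ptab_171) (Nat.ble 171 c)
noncomputable def Ptab_s_168_172 (c : Nat) : Nat := @Bool.rec (fun _ => Nat) (Ptab_s_168_170 c) (Ptab_s_170_172 c) (Nat.ble 170 c)
noncomputable def Ptab_s_165_172 (c : Nat) : Nat := @Bool.rec (fun _ => Nat) (Ptab_s_165_168 c) (Ptab_s_168_172 c) (Nat.ble 168 c)
noncomputable def Ptab_s_159_172 (c : Nat) : Nat := @Bool.rec (fun _ => Nat) (Ptab_s_159_165 c) (Ptab_s_165_172 c) (Nat.ble 165 c)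
noncomputable def Ptab_s_147_172 (c : Nat) : Nat := @Bool.rec (fun _ => Nat) (Ptab_s_147_159 c) (Ptab_s_159_172 c) (Nat.ble 159 c)
noncomputable def Ptab_s_173_175 (c : Nat) : Nat := @Bool.rec (fun _ => Nat) (Ptab_173) (Ptab_174) (Nat.ble 174 c)
noncomputable def Ptab_s_172_175 (c : Nat) : Nat := @Bool.rec (fun _ => Nat) (Ptab_172) (Ptab_s_173_175 c) (Nat.ble 173 c)
noncomputable def Ptab_s_176_178 (c : Nat) : Nat := @Bool.rec (fun _ => Nat) (Ptab_176) (Ptab_177) (Nat.ble 177 c)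
noncomputable def Ptab_s_175_178 (c : Nat) : Nat := @Bool.rec (fun _ => Nat) (Ptab_175) (Ptab_s_176_178 c) (Nat.ble 176 c)
noncomputable def Ptab_s_172_178 (c : Nat) : Nat := @Bool.rec (fun _ => Nat) (Ptab_s_172_175 c) (Ptab_s_175_178 c) (Nat.ble 175 c)
noncomputable def Ptab_s_179_181 (c : Nat) : Nat := @Bool.rec (fun _ => Nat) (Ptab_179) (Ptab_180) (Nat.ble 180 c)
noncomputable def Ptab_s_178_181 (c : Nat) : Nat := @Bool.rec (fun _ => Nat) (Ptab_178) (Ptab_s_179_181 c) (Nat.ble 179 c)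
noncomputable def Ptab_s_182_184 (c : Nat) : Nat := @Bool.rec (fun _ => Nat) (Ptab_182) (Ptab_183) (Nat.ble 183 c)
noncomputable def Ptab_s_181_184 (c : Nat) : Nat := @Bool.rec (fun _ => Nat) (Ptab_181) (Ptab_s_182_184 c) (Nat.ble 182 c)
noncomputable def Ptab_s_178_184 (c : Nat) : Nat := @Bool.rec (fun _ => Nat) (Ptab_s_178_181 c) (Ptab_s_181_184 c) (Nat.ble 181 c)
noncomputable def Ptab_s_172_184 (c : Nat) : Nat := @Bool.rec (fun _ => Nat) (Ptab_s_172_178 c) (Ptab_s_178_184 c) (Nat.ble 178 c)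
noncomputable def Ptab_s_185_187 (c : Nat) : Nat := @Bool.rec (fun _ => Nat) (Ptab_185) (Ptab_186) (Nat.ble 186 c)
noncomputable def Ptab_s_184_187 (c : Nat) : Nat := @Bool.rec (fun _ => Nat) (Ptab_184) (Ptab_s_185_187 c) (Nat.ble 185 c)
noncomputable def Ptab_s_188_190 (c : Nat) : Nat := @Bool.rec (fun _ => Nat) (Ptab_188) (Ptab_189) (Nat.ble 189 c)
noncomputable def Ptab_s_187_190 (c : Nat) : Nat := @Bool.rec (fun _ => Nat) (Ptab_187) (Ptab_s_188_190 c) (Nat.ble 188 c)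
noncomputable def Ptab_s_184_190 (c : Nat) : Nat := @Bool.rec (fun _ => Nat) (Ptab_s_184_187 c) (Ptab_s_187_190 c) (Nat.ble 187 c)
noncomputable def Ptab_s_191_193 (c : Nat) : Nat := @Bool.rec (fun _ => Nat) (Ptab_191) (Ptab_192) (Nat.ble 192 c)
noncomputable def Ptab_s_190_193 (c : Nat) : Nat := @Bool.rec (fun _ => Nat) (Ptab_190) (Ptab_s_191_193 c) (Nat.ble 191 c)
noncomputable def Ptab_s_193_195 (c : Nat) : Nat := @Bool.rec (fun _ => Nat) (Ptab_193) (Ptab_194) (Nat.ble 194 c)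
noncomputable def Ptab_s_195_197 (c : Nat) : Nat := @Bool.rec (fun _ => Nat) (Ptab_195) (Ptab_196) (Nat.ble 196 c)
noncomputable def Ptab_s_193_197 (c : Nat) : Nat := @Bool.rec (fun _ => Nat) (Ptab_s_193_195 c) (Ptab_s_195_197 c) (Nat.ble 195 c)
noncomputable def Ptab_s_190_197 (c : Nat) : Nat := @Bool.rec (fun _ => Nat) (Ptab_s_190_193 c) (Ptab_s_193_197 c) (Nat.ble 193 c)
noncomputable def Ptab_s_184_197 (c : Nat) : Nat := @Bool.rec (fun _ => Nat) (Ptab_s_184_190 c) (Ptab_s_190_197 c) (Nat.ble 190 c)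
noncomputable def Ptab_s_172_197 (c : Nat) : Nat := @Bool.rec (fun _ => Nat) (Ptab_s_172_184 c) (Ptab_s_184_197 c) (Nat.ble 184 c)
noncomputable def Ptab_s_147_197 (c : Nat) : Nat := @Bool.rec (fun _ => Nat) (Ptab_s_147_172 c) (Ptab_s_172_197 c) (Nat.ble 172 c)
noncomputable def Ptab_s_98_197 (c : Nat) : Nat := @Bool.rec (fun _ => Nat) (Ptab_s_98_147 c) (Ptab_s_147_197 c) (Nat.ble 147 c)
noncomputable def Ptab_s_0_197 (c : Nat) : Nat := @Bool.rec (fun _ => Nat) (Ptab_s_0_98 c) (Ptab_s_98_197 c) (Nat.ble 98 c)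
noncomputable def Ptab_s_198_200 (c : Nat) : Nat := @Bool.rec (fun _ => Nat) (Ptab_198) (Ptab_199) (Nat.ble 199 c)
noncomputable def Ptab_s_197_200 (c : Nat) : Nat := @Bool.rec (fun _ => Nat) (Ptab_197) (Ptab_s_198_200 c) (Nat.ble 198 c)
noncomputable def Ptab_s_201_203 (c : Nat) : Nat := @Bool.rec (fun _ => Nat) (Ptab_201) (Ptab_202) (Nat.ble 202 c)
noncomputable def Ptab_s_200_203 (c : Nat) : Nat := @Bool.rec (fun _ => Nat) (Ptab_200) (Ptab_s_201_203 c) (Nat.ble 201 c)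
noncomputable def Ptab_s_197_203 (c : Nat) : Nat := @Bool.rec (fun _ => Nat) (Ptab_s_197_200 c) (Ptab_s_200_203 c) (Nat.ble 200 c)
noncomputable def Ptab_s_204_206 (c : Nat) : Nat := @Bool.rec (fun _ => Nat) (Ptab_204) (Ptab_205) (Nat.ble 205 c)
noncomputable def Ptab_s_203_206 (c : Nat) : Nat := @Bool.rec (fun _ => Nat) (Ptab_203) (Ptab_s_204_206 c) (Nat.ble 204 c)
noncomputable def Ptab_s_207_209 (c : Nat) : Nat := @Bool.rec (fun _ => Nat) (Ptab_207) (Ptab_208) (Nat.ble 208 c)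
noncomputable def Ptab_s_206_209 (c : Nat) : Nat := @Bool.rec (fun _ => Nat) (Ptab_206) (Ptab_s_207_209 c) (Nat.ble 207 c)
noncomputable def Ptab_s_203_209 (c : Nat) : Nat := @Bool.rec (fun _ => Nat) (Ptab_s_203_206 c) (Ptab_s_206_209 c) (Nat.ble 206 c)
noncomputable def Ptab_s_197_209 (c : Nat) : Nat := @Bool.rec (fun _ => Nat) (Ptab_s_197_203 c) (Ptab_s_203_209 c) (Nat.ble 203 c)
noncomputable def Ptab_s_210_212 (c : Nat) : Nat := @Bool.rec (fun _ => Nat) (Ptab_210) (Ptab_211) (Nat.ble 211 c)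
noncomputable def Ptab_s_209_212 (c : Nat) : Nat := @Bool.rec (fun _ => Nat) (Ptab_209) (Ptab_s_210_212 c) (Nat.ble 210 c)
noncomputable def Ptab_s_213_215 (c : Nat) : Nat := @Bool.rec (fun _ => Nat) (Ptab_213) (Ptab_214) (Nat.ble 214 c)
noncomputable def Ptab_s_212_215 (c : Nat) : Nat := @Bool.rec (fun _ => Nat) (Ptab_212) (Ptab_s_213_215 c) (Nat.ble 213 c)
noncomputable def Ptab_s_209_215 (c : Nat) : Nat := @Bool.rec (fun _ => Nat) (Ptab_s_209_212 c) (Ptab_s_212_215 c) (Nat.ble 212 c)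
noncomputable def Ptab_s_216_218 (c : Nat) : Nat := @Bool.rec (fun _ => Nat) (Ptab_216) (Ptab_217) (Nat.ble 217 c)
noncomputable def Ptab_s_215_218 (c : Nat) : Nat := @Bool.rec (fun _ => Nat) (Ptab_215) (Ptab_s_216_218 c) (Nat.ble 216 c)
noncomputable def Ptab_s_219_221 (c : Nat) : Nat := @Bool.rec (fun _ => Nat) (Ptab_219) (Ptab_220) (Nat.ble 220 c)
noncomputable def Ptab_s_218_221 (c : Nat) : Nat := @Bool.rec (fun _ => Nat) (Ptab_218) (Ptab_s_219_221 c) (Nat.ble 219 c)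
noncomputable def Ptab_s_215_221 (c : Nat) : Nat := @Bool.rec (fun _ => Nat) (Ptab_s_215_218 c) (Ptab_s_218_221 c) (Nat.ble 218 c)
noncomputable def Ptab_s_209_221 (c : Nat) : Nat := @Bool.rec (fun _ => Nat) (Ptab_s_209_215 c) (Ptab_s_215_221 c) (Nat.ble 215 c)
noncomputable def Ptab_s_197_221 (c : Nat) : Nat := @Bool.rec (fun _ => Nat) (Ptab_s_197_209 c) (Ptab_s_209_221 c) (Nat.ble 209 c)
noncomputable def Ptab_s_222_224 (c : Nat) : Nat := @Bool.rec (fun _ => Nat) (Ptab_222) (Ptab_223) (Nat.ble 223 c)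
noncomputable def Ptab_s_221_224 (c : Nat) : Nat := @Bool.rec (fun _ => Nat) (Ptab_221) (Ptab_s_222_224 c) (Nat.ble 222 c)
noncomputable def Ptab_s_225_227 (c : Nat) : Nat := @Bool.rec (fun _ => Nat) (Ptab_225) (Ptab_226) (Nat.ble 226 c)
noncomputable def Ptab_s_224_227 (c : Nat) : Nat := @Bool.rec (fun _ => Nat) (Ptab_224) (Ptab_s_225_227 c) (Nat.ble 225 c)
noncomputable def Ptab_s_221_227 (c : Nat) : Nat := @Bool.rec (fun _ => Nat) (Ptab_s_221_224 c) (Ptab_s_224_227 c) (Nat.ble 224 c)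
noncomputable def Ptab_s_228_230 (c : Nat) : Nat := @Bool.rec (fun _ => Nat) (Ptab_228) (Ptab_229) (Nat.ble 229 c)
noncomputable def Ptab_s_227_230 (c : Nat) : Nat := @Bool.rec (fun _ => Nat) (Ptab_227) (Ptab_s_228_230 c) (Nat.ble 228 c)
noncomputable def Ptab_s_231_233 (c : Nat) : Nat := @Bool.rec (fun _ => Nat) (Ptab_231) (Ptab_232) (Nat.ble 232 c)
noncomputable def Ptab_s_230_233 (c : Nat) : Nat := @Bool.rec (fun _ => Nat) (Ptab_230) (Ptab_s_231_233 c) (Nat.ble 231 c)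
noncomputable def Ptab_s_227_233 (c : Nat) : Nat := @Bool.rec (fun _ => Nat) (Ptab_s_227_230 c) (Ptab_s_230_233 c) (Nat.ble 230 c)
noncomputable def Ptab_s_221_233 (c : Nat) : Nat := @Bool.rec (fun _ => Nat) (Ptab_s_221_227 c) (Ptab_s_227_233 c) (Nat.ble 227 c)
noncomputable def Ptab_s_234_236 (c : Nat) : Nat := @Bool.rec (fun _ => Nat) (Ptab_234) (Ptab_235) (Nat.ble 235 c)
noncomputable def Ptab_s_233_236 (c : Nat) : Nat := @Bool.rec (fun _ => Nat) (Ptab_233) (Ptab_s_234_236 c) (Nat.ble 234 c)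
noncomputable def Ptab_s_237_239 (c : Nat) : Nat := @Bool.rec (fun _ => Nat) (Ptab_237) (Ptab_238) (Nat.ble 238 c)
noncomputable def Ptab_s_236_239 (c : Nat) : Nat := @Bool.rec (fun _ => Nat) (Ptab_236) (Ptab_s_237_239 c) (Nat.ble 237 c)
noncomputable def Ptab_s_233_239 (c : Nat) : Nat := @Bool.rec (fun _ => Nat) (Ptab_s_233_236 c) (Ptab_s_236_239 c) (Nat.ble 236 c)
noncomputable def Ptab_s_240_242 (c : Nat) : Nat := @Bool.rec (fun _ => Nat) (Ptab_240) (Ptab_241) (Nat.ble 241 c)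
noncomputable def Ptab_s_239_242 (c : Nat) : Nat := @Bool.rec (fun _ => Nat) (Ptab_239) (Ptab_s_240_242 c) (Nat.ble 240 c)
noncomputable def Ptab_s_242_244 (c : Nat) : Nat := @Bool.rec (fun _ => Nat) (Ptab_242) (Ptab_243) (Nat.ble 243 c)
noncomputable def Ptab_s_244_246 (c : Nat) : Nat := @Bool.rec (fun _ => Nat) (Ptab_244) (Ptab_245) (Nat.ble 245 c)
noncomputable def Ptab_s_242_246 (c : Nat) : Nat := @Bool.rec (fun _ => Nat) (Ptab_s_242_244 c) (Ptab_s_244_246 c) (Nat.ble 244 c)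
noncomputable def Ptab_s_239_246 (c : Nat) : Nat := @Bool.rec (fun _ => Nat) (Ptab_s_239_242 c) (Ptab_s_242_246 c) (Nat.ble 242 c)
noncomputable def Ptab_s_233_246 (c : Nat) : Nat := @Bool.rec (fun _ => Nat) (Ptab_s_233_239 c) (Ptab_s_239_246 c) (Nat.ble 239 c)
noncomputable def Ptab_s_221_246 (c : Nat) : Nat := @Bool.rec (fun _ => Nat) (Ptab_s_221_233 c) (Ptab_s_233_246 c) (Nat.ble 233 c)
noncomputable def Ptab_s_197_246 (c : Nat) : Nat := @Bool.rec (fun _ => Nat) (Ptab_s_197_221 c) (Ptab_s_221_246 c) (Nat.ble 221 c)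
noncomputable def Ptab_s_247_249 (c : Nat) : Nat := @Bool.rec (fun _ => Nat) (Ptab_247) (Ptab_248) (Nat.ble 248 c)
noncomputable def Ptab_s_246_249 (c : Nat) : Nat := @Bool.rec (fun _ => Nat) (Ptab_246) (Ptab_s_247_249 c) (Nat.ble 247 c)
noncomputable def Ptab_s_250_252 (c : Nat) : Nat := @Bool.rec (fun _ => Nat) (Ptab_250) (Ptab_251) (Nat.ble 251 c)
noncomputable def Ptab_s_249_252 (c : Nat) : Nat := @Bool.rec (fun _ => Nat) (Ptab_249) (Ptab_s_250_252 c) (Nat.ble 250 c)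
noncomputable def Ptab_s_246_252 (c : Nat) : Nat := @Bool.rec (fun _ => Nat) (Ptab_s_246_249 c) (Ptab_s_249_252 c) (Nat.ble 249 c)
noncomputable def Ptab_s_253_255 (c : Nat) : Nat := @Bool.rec (fun _ => Nat) (Ptab_253) (Ptab_254) (Nat.ble 254 c)
noncomputable def Ptab_s_252_255 (c : Nat) : Nat := @Bool.rec (fun _ => Nat) (Ptab_252) (Ptab_s_253_255 c) (Nat.ble 253 c)
noncomputable def Ptab_s_256_258 (c : Nat) : Nat := @Bool.rec (fun _ => Nat) (Ptab_256) (Ptab_257) (Nat.ble 257 c)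
noncomputable def Ptab_s_255_258 (c : Nat) : Nat := @Bool.rec (fun _ => Nat) (Ptab_255) (Ptab_s_256_258 c) (Nat.ble 256 c)
noncomputable def Ptab_s_252_258 (c : Nat) : Nat := @Bool.rec (fun _ => Nat) (Ptab_s_252_255 c) (Ptab_s_255_258 c) (Nat.ble 255 c)
noncomputable def Ptab_s_246_258 (c : Nat) : Nat := @Bool.rec (fun _ => Nat) (Ptab_s_246_252 c) (Ptab_s_252_258 c) (Nat.ble 252 c)
noncomputable def Ptab_s_259_261 (c : Nat) : Nat := @Bool.rec (fun _ => Nat) (Ptab_259) (Ptab_260) (Nat.ble 260 c)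
noncomputable def Ptab_s_258_261 (c : Nat) : Nat := @Bool.rec (fun _ => Nat) (Ptab_258) (Ptab_s_259_261 c) (Nat.ble 259 c)
noncomputable def Ptab_s_262_264 (c : Nat) : Nat := @Bool.rec (fun _ => Nat) (Ptab_262) (Ptab_263) (Nat.ble 263 c)
noncomputable def Ptab_s_261_264 (c : Nat) : Nat := @Bool.rec (fun _ => Nat) (Ptab_261) (Ptab_s_262_264 c) (Nat.ble 262 c)
noncomputable def Ptab_s_258_264 (c : Nat) : Nat := @Bool.rec (fun _ => Nat) (Ptab_s_258_261 c) (Ptab_s_261_264 c) (Nat.ble 261 c)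
noncomputable def Ptab_s_265_267 (c : Nat) : Nat := @Bool.rec (fun _ => Nat) (Ptab_265) (Ptab_266) (Nat.ble 266 c)
noncomputable def Ptab_s_264_267 (c : Nat) : Nat := @Bool.rec (fun _ => Nat) (Ptab_264) (Ptab_s_265_267 c) (Nat.ble 265 c)
noncomputable def Ptab_s_268_270 (c : Nat) : Nat := @Bool.rec (fun _ => Nat) (Ptab_268) (Ptab_269) (Nat.ble 269 c)
noncomputable def Ptab_s_267_270 (c : Nat) : Nat := @Bool.rec (fun _ => Nat) (Ptab_267) (Ptab_s_268_270 c) (Nat.ble 268 c)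
noncomputable def Ptab_s_264_270 (c : Nat) : Nat := @Bool.rec (fun _ => Nat) (Ptab_s_264_267 c) (Ptab_s_267_270 c) (Nat.ble 267 c)
noncomputable def Ptab_s_258_270 (c : Nat) : Nat := @Bool.rec (fun _ => Nat) (Ptab_s_258_264 c) (Ptab_s_264_270 c) (Nat.ble 264 c)
noncomputable def Ptab_s_246_270 (c : Nat) : Nat := @Bool.rec (fun _ => Nat) (Ptab_s_246_258 c) (Ptab_s_258_270 c) (Nat.ble 258 c)
noncomputable def Ptab_s_271_273 (c : Nat) : Nat := @Bool.rec (fun _ => Nat) (Ptab_271) (Ptab_272) (Nat.ble 272 c)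
noncomputable def Ptab_s_270_273 (c : Nat) : Nat := @Bool.rec (fun _ => Nat) (Ptab_270) (Ptab_s_271_273 c) (Nat.ble 271 c)
noncomputable def Ptab_s_274_276 (c : Nat) : Nat := @Bool.rec (fun _ => Nat) (Ptab_274) (Ptab_275) (Nat.ble 275 c)
noncomputable def Ptab_s_273_276 (c : Nat) : Nat := @Bool.rec (fun _ => Nat) (Ptab_273) (Ptab_s_274_276 c) (Nat.ble 274 c)
noncomputable def Ptab_s_270_276 (c : Nat) : Nat := @Bool.rec (fun _ => Nat) (Ptab_s_270_273 c) (Ptab_s_273_276 c) (Nat.ble 273 c)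
noncomputable def Ptab_s_277_279 (c : Nat) : Nat := @Bool.rec (fun _ => Nat) (Ptab_277) (Ptab_278) (Nat.ble 278 c)
noncomputable def Ptab_s_276_279 (c : Nat) : Nat := @Bool.rec (fun _ => Nat) (Ptab_276) (Ptab_s_277_279 c) (Nat.ble 277 c)
noncomputable def Ptab_s_280_282 (c : Nat) : Nat := @Bool.rec (fun _ => Nat) (Ptab_280) (Ptab_281) (Nat.ble 281 c)
noncomputable def Ptab_s_279_282 (c : Nat) : Nat := @Bool.rec (fun _ => Nat) (Ptab_279) (Ptab_s_280_282 c) (Nat.ble 280 c)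
noncomputable def Ptab_s_276_282 (c : Nat) : Nat := @Bool.rec (fun _ => Nat) (Ptab_s_276_279 c) (Ptab_s_279_282 c) (Nat.ble 279 c)
noncomputable def Ptab_s_270_282 (c : Nat) : Nat := @Bool.rec (fun _ => Nat) (Ptab_s_270_276 c) (Ptab_s_276_282 c) (Nat.ble 276 c)
noncomputable def Ptab_s_283_285 (c : Nat) : Nat := @Bool.rec (fun _ => Nat) (Ptab_283) (Ptab_284) (Nat.ble 284 c)
noncomputable def Ptab_s_282_285 (c : Nat) : Nat := @Bool.rec (fun _ => Nat) (Ptab_282) (Ptab_s_283_285 c) (Nat.ble 283 c)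
noncomputable def Ptab_s_286_288 (c : Nat) : Nat := @Bool.rec (fun _ => Nat) (Ptab_286) (Ptab_287) (Nat.ble 287 c)
noncomputable def Ptab_s_285_288 (c : Nat) : Nat := @Bool.rec (fun _ => Nat) (Ptab_285) (Ptab_s_286_288 c) (Nat.ble 286 c)
noncomputable def Ptab_s_282_288 (c : Nat) : Nat := @Bool.rec (fun _ => Nat) (Ptab_s_282_285 c) (Ptab_s_285_288 c) (Nat.ble 285 c)
noncomputable def Ptab_s_289_291 (c : Nat) : Nat := @Bool.rec (fun _ => Nat) (Ptab_289) (Ptab_290) (Nat.ble 290 c)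
noncomputable def Ptab_s_288_291 (c : Nat) : Nat := @Bool.rec (fun _ => Nat) (Ptab_288) (Ptab_s_289_291 c) (Nat.ble 289 c)
noncomputable def Ptab_s_291_293 (c : Nat) : Nat := @Bool.rec (fun _ => Nat) (Ptab_291) (Ptab_292) (Nat.ble 292 c)
noncomputable def Ptab_s_293_295 (c : Nat) : Nat := @Bool.rec (fun _ => Nat) (Ptab_293) (Ptab_294) (Nat.ble 294 c)
noncomputable def Ptab_s_291_295 (c : Nat) : Nat := @Bool.rec (fun _ => Nat) (Ptab_s_291_293 c) (Ptab_s_293_295 c) (Nat.ble 293 c)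
noncomputable def Ptab_s_288_295 (c : Nat) : Nat := @Bool.rec (fun _ => Nat) (Ptab_s_288_291 c) (Ptab_s_291_295 c) (Nat.ble 291 c)
noncomputable def Ptab_s_282_295 (c : Nat) : Nat := @Bool.rec (fun _ => Nat) (Ptab_s_282_288 c) (Ptab_s_288_295 c) (Nat.ble 288 c)
noncomputable def Ptab_s_270_295 (c : Nat) : Nat := @Bool.rec (fun _ => Nat) (Ptab_s_270_282 c) (Ptab_s_282_295 c) (Nat.ble 282 c)
noncomputable def Ptab_s_246_295 (c : Nat) : Nat := @Bool.rec (fun _ => Nat) (Ptab_s_246_270 c) (Ptab_s_270_295 c) (Nat.ble 270 c)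
noncomputable def Ptab_s_197_295 (c : Nat) : Nat := @Bool.rec (fun _ => Nat) (Ptab_s_197_246 c) (Ptab_s_246_295 c) (Nat.ble 246 c)
noncomputable def Ptab_s_296_298 (c : Nat) : Nat := @Bool.rec (fun _ => Nat) (Ptab_296) (Ptab_297) (Nat.ble 297 c)
noncomputable def Ptab_s_295_298 (c : Nat) : Nat := @Bool.rec (fun _ => Nat) (Ptab_295) (Ptab_s_296_298 c) (Nat.ble 296 c)
noncomputable def Ptab_s_299_301 (c : Nat) : Nat := @Bool.rec (fun _ => Nat) (Ptab_299) (Ptab_300) (Nat.ble 300 c)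
noncomputable def Ptab_s_298_301 (c : Nat) : Nat := @Bool.rec (fun _ => Nat) (Ptab_298) (Ptab_s_299_301 c) (Nat.ble 299 c)
noncomputable def Ptab_s_295_301 (c : Nat) : Nat := @Bool.rec (fun _ => Nat) (Ptab_s_295_298 c) (Ptab_s_298_301 c) (Nat.ble 298 c)
noncomputable def Ptab_s_302_304 (c : Nat) : Nat := @Bool.rec (fun _ => Nat) (Ptab_302) (Ptab_303) (Nat.ble 303 c)
noncomputable def Ptab_s_301_304 (c : Nat) : Nat := @Bool.rec (fun _ => Nat) (Ptab_301) (Ptab_s_302_304 c) (Nat.ble 302 c)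
noncomputable def Ptab_s_305_307 (c : Nat) : Nat := @Bool.rec (fun _ => Nat) (Ptab_305) (Ptab_306) (Nat.ble 306 c)
noncomputable def Ptab_s_304_307 (c : Nat) : Nat := @Bool.rec (fun _ => Nat) (Ptab_304) (Ptab_s_305_307 c) (Nat.ble 305 c)
noncomputable def Ptab_s_301_307 (c : Nat) : Nat := @Bool.rec (fun _ => Nat) (Ptab_s_301_304 c) (Ptab_s_304_307 c) (Nat.ble 304 c)
noncomputable def Ptab_s_295_307 (c : Nat) : Nat := @Bool.rec (fun _ => Nat) (Ptab_s_295_301 c) (Ptab_s_301_307 c) (Nat.ble 301 c)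
noncomputable def Ptab_s_308_310 (c : Nat) : Nat := @Bool.rec (fun _ => Nat) (Ptab_308) (Ptab_309) (Nat.ble 309 c)
noncomputable def Ptab_s_307_310 (c : Nat) : Nat := @Bool.rec (fun _ => Nat) (Ptab_307) (Ptab_s_308_310 c) (Nat.ble 308 c)
noncomputable def Ptab_s_311_313 (c : Nat) : Nat := @Bool.rec (fun _ => Nat) (Ptab_311) (Ptab_312) (Nat.ble 312 c)
noncomputable def Ptab_s_310_313 (c : Nat) : Nat := @Bool.rec (fun _ => Nat) (Ptab_310) (Ptab_s_311_313 c) (Nat.ble 311 c)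
noncomputable def Ptab_s_307_313 (c : Nat) : Nat := @Bool.rec (fun _ => Nat) (Ptab_s_307_310 c) (Ptab_s_310_313 c) (Nat.ble 310 c)
noncomputable def Ptab_s_314_316 (c : Nat) : Nat := @Bool.rec (fun _ => Nat) (Ptab_314) (Ptab_315) (Nat.ble 315 c)
noncomputable def Ptab_s_313_316 (c : Nat) : Nat := @Bool.rec (fun _ => Nat) (Ptab_313) (Ptab_s_314_316 c) (Nat.ble 314 c)
noncomputable def Ptab_s_317_319 (c : Nat) : Nat := @Bool.rec (fun _ => Nat) (Ptab_317) (Ptab_318) (Nat.ble 318 c)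
noncomputable def Ptab_s_316_319 (c : Nat) : Nat := @Bool.rec (fun _ => Nat) (Ptab_316) (Ptab_s_317_319 c) (Nat.ble 317 c)
noncomputable def Ptab_s_313_319 (c : Nat) : Nat := @Bool.rec (fun _ => Nat) (Ptab_s_313_316 c) (Ptab_s_316_319 c) (Nat.ble 316 c)
noncomputable def Ptab_s_307_319 (c : Nat) : Nat := @Bool.rec (fun _ => Nat) (Ptab_s_307_313 c) (Ptab_s_313_319 c) (Nat.ble 313 c)
noncomputable def Ptab_s_295_319 (c : Nat) : Nat := @Bool.rec (fun _ => Nat) (Ptab_s_295_307 c) (Ptab_s_307_319 c) (Nat.ble 307 c)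
noncomputable def Ptab_s_320_322 (c : Nat) : Nat := @Bool.rec (fun _ => Nat) (Ptab_320) (Ptab_321) (Nat.ble 321 c)
noncomputable def Ptab_s_319_322 (c : Nat) : Nat := @Bool.rec (fun _ => Nat) (Ptab_319) (Ptab_s_320_322 c) (Nat.ble 320 c)
noncomputable def Ptab_s_323_325 (c : Nat) : Nat := @Bool.rec (fun _ => Nat) (Ptab_323) (Ptab_324) (Nat.ble 324 c)
noncomputable def Ptab_s_322_325 (c : Nat) : Nat := @Bool.rec (fun _ => Nat) (Ptab_322) (Ptab_s_323_325 c) (Nat.ble 323 c)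
noncomputable def Ptab_s_319_325 (c : Nat) : Nat := @Bool.rec (fun _ => Nat) (Ptab_s_319_322 c) (Ptab_s_322_325 c) (Nat.ble 322 c)
noncomputable def Ptab_s_326_328 (c : Nat) : Nat := @Bool.rec (fun _ => Nat) (Ptab_326) (Ptab_327) (Nat.ble 327 c)
noncomputable def Ptab_s_325_328 (c : Nat) : Nat := @Bool.rec (fun _ => Nat) (Ptab_325) (Ptab_s_326_328 c) (Nat.ble 326 c)
noncomputable def Ptab_s_329_331 (c : Nat) : Nat := @Bool.rec (fun _ => Nat) (Ptab_329) (Ptab_330) (Nat.ble 330 c)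
noncomputable def Ptab_s_328_331 (c : Nat) : Nat := @Bool.rec (fun _ => Nat) (Ptab_328) (Ptab_s_329_331 c) (Nat.ble 329 c)
noncomputable def Ptab_s_325_331 (c : Nat) : Nat := @Bool.rec (fun _ => Nat) (Ptab_s_325_328 c) (Ptab_s_328_331 c) (Nat.ble 328 c)
noncomputable def Ptab_s_319_331 (c : Nat) : Nat := @Bool.rec (fun _ => Nat) (Ptab_s_319_325 c) (Ptab_s_325_331 c) (Nat.ble 325 c)
noncomputable def Ptab_s_332_334 (c : Nat) : Nat := @Bool.rec (fun _ => Nat) (Ptab_332) (Ptab_333) (Nat.ble 333 c)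
noncomputable def Ptab_s_331_334 (c : Nat) : Nat := @Bool.rec (fun _ => Nat) (Ptab_331) (Ptab_s_332_334 c) (Nat.ble 332 c)
noncomputable def Ptab_s_335_337 (c : Nat) : Nat := @Bool.rec (fun _ => Nat) (Ptab_335) (Ptab_336) (Nat.ble 336 c)
noncomputable def Ptab_s_334_337 (c : Nat) : Nat := @Bool.rec (fun _ => Nat) (Ptab_334) (Ptab_s_335_337 c) (Nat.ble 335 c)
noncomputable def Ptab_s_331_337 (c : Nat) : Nat := @Bool.rec (fun _ => Nat) (Ptab_s_331_334 c) (Ptab_s_334_337 c) (Nat.ble 334 c)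
noncomputable def Ptab_s_338_340 (c : Nat) : Nat := @Bool.rec (fun _ => Nat) (Ptab_338) (Ptab_339) (Nat.ble 339 c)
noncomputable def Ptab_s_337_340 (c : Nat) : Nat := @Bool.rec (fun _ => Nat) (Ptab_337) (Ptab_s_338_340 c) (Nat.ble 338 c)
noncomputable def Ptab_s_340_342 (c : Nat) : Nat := @Bool.rec (fun _ => Nat) (Ptab_340) (Ptab_341) (Nat.ble 341 c)
noncomputable def Ptab_s_342_344 (c : Nat) : Nat := @Bool.rec (fun _ => Nat) (Ptab_342) (Ptab_343) (Nat.ble 343 c)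
noncomputable def Ptab_s_340_344 (c : Nat) : Nat := @Bool.rec (fun _ => Nat) (Ptab_s_340_342 c) (Ptab_s_342_344 c) (Nat.ble 342 c)
noncomputable def Ptab_s_337_344 (c : Nat) : Nat := @Bool.rec (fun _ => Nat) (Ptab_s_337_340 c) (Ptab_s_340_344 c) (Nat.ble 340 c)
noncomputable def Ptab_s_331_344 (c : Nat) : Nat := @Bool.rec (fun _ => Nat) (Ptab_s_331_337 c) (Ptab_s_337_344 c) (Nat.ble 337 c)
noncomputable def Ptab_s_319_344 (c : Nat) : Nat := @Bool.rec (fun _ => Nat) (Ptab_s_319_331 c) (Ptab_s_331_344 c) (Nat.ble 331 c)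
noncomputable def Ptab_s_295_344 (c : Nat) : Nat := @Bool.rec (fun _ => Nat) (Ptab_s_295_319 c) (Ptab_s_319_344 c) (Nat.ble 319 c)
noncomputable def Ptab_s_345_347 (c : Nat) : Nat := @Bool.rec (fun _ => Nat) (Ptab_345) (Ptab_346) (Nat.ble 346 c)
noncomputable def Ptab_s_344_347 (c : Nat) : Nat := @Bool.rec (fun _ => Nat) (Ptab_344) (Ptab_s_345_347 c) (Nat.ble 345 c)
noncomputable def Ptab_s_348_350 (c : Nat) : Nat := @Bool.rec (fun _ => Nat) (Ptab_348) (Ptab_349) (Nat.ble 349 c)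
noncomputable def Ptab_s_347_350 (c : Nat) : Nat := @Bool.rec (fun _ => Nat) (Ptab_347) (Ptab_s_348_350 c) (Nat.ble 348 c)
noncomputable def Ptab_s_344_350 (c : Nat) : Nat := @Bool.rec (fun _ => Nat) (Ptab_s_344_347 c) (Ptab_s_347_350 c) (Nat.ble 347 c)
noncomputable def Ptab_s_351_353 (c : Nat) : Nat := @Bool.rec (fun _ => Nat) (Ptab_351) (Ptab_352) (Nat.ble 352 c)
noncomputable def Ptab_s_350_353 (c : Nat) : Nat := @Bool.rec (fun _ => Nat) (Ptab_350) (Ptab_s_351_353 c) (Nat.ble 351 c)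
noncomputable def Ptab_s_354_356 (c : Nat) : Nat := @Bool.rec (fun _ => Nat) (Ptab_354) (Ptab_355) (Nat.ble 355 c)
noncomputable def Ptab_s_353_356 (c : Nat) : Nat := @Bool.rec (fun _ => Nat) (Ptab_353) (Ptab_s_354_356 c) (Nat.ble 354 c)
noncomputable def Ptab_s_350_356 (c : Nat) : Nat := @Bool.rec (fun _ => Nat) (Ptab_s_350_353 c) (Ptab_s_353_356 c) (Nat.ble 353 c)
noncomputable def Ptab_s_344_356 (c : Nat) : Nat := @Bool.rec (fun _ => Nat) (Ptab_s_344_350 c) (Ptab_s_350_356 c) (Nat.ble 350 c)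
noncomputable def Ptab_s_357_359 (c : Nat) : Nat := @Bool.rec (fun _ => Nat) (Ptab_357) (Ptab_358) (Nat.ble 358 c)
noncomputable def Ptab_s_356_359 (c : Nat) : Nat := @Bool.rec (fun _ => Nat) (Ptab_356) (Ptab_s_357_359 c) (Nat.ble 357 c)
noncomputable def Ptab_s_360_362 (c : Nat) : Nat := @Bool.rec (fun _ => Nat) (Ptab_360) (Ptab_361) (Nat.ble 361 c)
noncomputable def Ptab_s_359_362 (c : Nat) : Nat := @Bool.rec (fun _ => Nat) (Ptab_359) (Ptab_s_360_362 c) (Nat.ble 360 c)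
noncomputable def Ptab_s_356_362 (c : Nat) : Nat := @Bool.rec (fun _ => Nat) (Ptab_s_356_359 c) (Ptab_s_359_362 c) (Nat.ble 359 c)
noncomputable def Ptab_s_363_365 (c : Nat) : Nat := @Bool.rec (fun _ => Nat) (Ptab_363) (Ptab_364) (Nat.ble 364 c)
noncomputable def Ptab_s_362_365 (c : Nat) : Nat := @Bool.rec (fun _ => Nat) (Ptab_362) (Ptab_s_363_365 c) (Nat.ble 363 c)
noncomputable def Ptab_s_365_367 (c : Nat) : Nat := @Bool.rec (fun _ => Nat) (Ptab_365) (Ptab_366) (Nat.ble 366 c)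
noncomputable def Ptab_s_367_369 (c : Nat) : Nat := @Bool.rec (fun _ => Nat) (Ptab_367) (Ptab_368) (Nat.ble 368 c)
noncomputable def Ptab_s_365_369 (c : Nat) : Nat := @Bool.rec (fun _ => Nat) (Ptab_s_365_367 c) (Ptab_s_367_369 c) (Nat.ble 367 c)
noncomputable def Ptab_s_362_369 (c : Nat) : Nat := @Bool.rec (fun _ => Nat) (Ptab_s_362_365 c) (Ptab_s_365_369 c) (Nat.ble 365 c)
noncomputable def Ptab_s_356_369 (c : Nat) : Nat := @Bool.rec (fun _ => Nat) (Ptab_s_356_362 c) (Ptab_s_362_369 c) (Nat.ble 362 c)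
noncomputable def Ptab_s_344_369 (c : Nat) : Nat := @Bool.rec (fun _ => Nat) (Ptab_s_344_356 c) (Ptab_s_356_369 c) (Nat.ble 356 c)
noncomputable def Ptab_s_370_372 (c : Nat) : Nat := @Bool.rec (fun _ => Nat) (Ptab_370) (Ptab_371) (Nat.ble 371 c)
noncomputable def Ptab_s_369_372 (c : Nat) : Nat := @Bool.rec (fun _ => Nat) (Ptab_369) (Ptab_s_370_372 c) (Nat.ble 370 c)
noncomputable def Ptab_s_373_375 (c : Nat) : Nat := @Bool.rec (fun _ => Nat) (Ptab_373) (Ptab_374) (Nat.ble 374 c)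
noncomputable def Ptab_s_372_375 (c : Nat) : Nat := @Bool.rec (fun _ => Nat) (Ptab_372) (Ptab_s_373_375 c) (Nat.ble 373 c)
noncomputable def Ptab_s_369_375 (c : Nat) : Nat := @Bool.rec (fun _ => Nat) (Ptab_s_369_372 c) (Ptab_s_372_375 c) (Nat.ble 372 c)
noncomputable def Ptab_s_376_378 (c : Nat) : Nat := @Bool.rec (fun _ => Nat) (Ptab_376) (Ptab_377) (Nat.ble 377 c)
noncomputable def Ptab_s_375_378 (c : Nat) : Nat := @Bool.rec (fun _ => Nat) (Ptab_375) (Ptab_s_376_378 c) (Nat.ble 376 c)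
noncomputable def Ptab_s_379_381 (c : Nat) : Nat := @Bool.rec (fun _ => Nat) (Ptab_379) (Ptab_380) (Nat.ble 380 c)
noncomputable def Ptab_s_378_381 (c : Nat) : Nat := @Bool.rec (fun _ => Nat) (Ptab_378) (Ptab_s_379_381 c) (Nat.ble 379 c)
noncomputable def Ptab_s_375_381 (c : Nat) : Nat := @Bool.rec (fun _ => Nat) (Ptab_s_375_378 c) (Ptab_s_378_381 c) (Nat.ble 378 c)
noncomputable def Ptab_s_369_381 (c : Nat) : Nat := @Bool.rec (fun _ => Nat) (Ptab_s_369_375 c) (Ptab_s_375_381 c) (Nat.ble 375 c)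
noncomputable def Ptab_s_382_384 (c : Nat) : Nat := @Bool.rec (fun _ => Nat) (Ptab_382) (Ptab_383) (Nat.ble 383 c)
noncomputable def Ptab_s_381_384 (c : Nat) : Nat := @Bool.rec (fun _ => Nat) (Ptab_381) (Ptab_s_382_384 c) (Nat.ble 382 c)
noncomputable def Ptab_s_385_387 (c : Nat) : Nat := @Bool.rec (fun _ => Nat) (Ptab_385) (Ptab_386) (Nat.ble 386 c)
noncomputable def Ptab_s_384_387 (c : Nat) : Nat := @Bool.rec (fun _ => Nat) (Ptab_384) (Ptab_s_385_387 c) (Nat.ble 385 c)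
noncomputable def Ptab_s_381_387 (c : Nat) : Nat := @Bool.rec (fun _ => Nat) (Ptab_s_381_384 c) (Ptab_s_384_387 c) (Nat.ble 384 c)
noncomputable def Ptab_s_388_390 (c : Nat) : Nat := @Bool.rec (fun _ => Nat) (Ptab_388) (Ptab_389) (Nat.ble 389 c)
noncomputable def Ptab_s_387_390 (c : Nat) : Nat := @Bool.rec (fun _ => Nat) (Ptab_387) (Ptab_s_388_390 c) (Nat.ble 388 c)
noncomputable def Ptab_s_390_392 (c : Nat) : Nat := @Bool.rec (fun _ => Nat) (Ptab_390) (Ptab_391) (Nat.ble 391 c)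
noncomputable def Ptab_s_392_394 (c : Nat) : Nat := @Bool.rec (fun _ => Nat) (Ptab_392) (Ptab_393) (Nat.ble 393 c)
noncomputable def Ptab_s_390_394 (c : Nat) : Nat := @Bool.rec (fun _ => Nat) (Ptab_s_390_392 c) (Ptab_s_392_394 c) (Nat.ble 392 c)
noncomputable def Ptab_s_387_394 (c : Nat) : Nat := @Bool.rec (fun _ => Nat) (Ptab_s_387_390 c) (Ptab_s_390_394 c) (Nat.ble 390 c)
noncomputable def Ptab_s_381_394 (c : Nat) : Nat := @Bool.rec (fun _ => Nat) (Ptab_s_381_387 c) (Ptab_s_387_394 c) (Nat.ble 387 c)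
noncomputable def Ptab_s_369_394 (c : Nat) : Nat := @Bool.rec (fun _ => Nat) (Ptab_s_369_381 c) (Ptab_s_381_394 c) (Nat.ble 381 c)
noncomputable def Ptab_s_344_394 (c : Nat) : Nat := @Bool.rec (fun _ => Nat) (Ptab_s_344_369 c) (Ptab_s_369_394 c) (Nat.ble 369 c)
noncomputable def Ptab_s_295_394 (c : Nat) : Nat := @Bool.rec (fun _ => Nat) (Ptab_s_295_344 c) (Ptab_s_344_394 c) (Nat.ble 344 c)
noncomputable def Ptab_s_197_394 (c : Nat) : Nat := @Bool.rec (fun _ => Nat) (Ptab_s_197_295 c) (Ptab_s_295_394 c) (Nat.ble 295 c)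
noncomputable def Ptab_s_0_394 (c : Nat) : Nat := @Bool.rec (fun _ => Nat) (Ptab_s_0_197 c) (Ptab_s_197_394 c) (Nat.ble 197 c)
noncomputable def Ptab (i : Nat) : Nat := rdw 20 1048575 (Ptab_s_0_394 (Nat.shiftRight i 12)) (Nat.land i 4095)
noncomputable def RRtab (i : Nat) : Nat := rdw 5 31 RRtab_0 i
noncomputable def rBtab (i : Nat) : Nat := rdw 11 2047 rBtab_0 i
noncomputable def rLtab (i : Nat) : Nat := rdw 5 31 rLtab_0 i
noncomputable def nameTab_s_0_2 (c : Nat) : Nat := @Bool.rec (fun _ => Nat) (nameTab_0) (nameTab_1) (Nat.ble 1 c)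
noncomputable def nameTab_s_3_5 (c : Nat) : Nat := @Bool.rec (fun _ => Nat) (nameTab_3) (nameTab_4) (Nat.ble 4 c)
noncomputable def nameTab_s_2_5 (c : Nat) : Nat := @Bool.rec (fun _ => Nat) (nameTab_2) (nameTab_s_3_5 c) (Nat.ble 3 c)
noncomputable def nameTab_s_0_5 (c : Nat) : Nat := @Bool.rec (fun _ => Nat) (nameTab_s_0_2 c) (nameTab_s_2_5 c) (Nat.ble 2 c)
noncomputable def nameTab_s_5_7 (c : Nat) : Nat := @Bool.rec (fun _ => Nat) (nameTab_5) (nameTab_6) (Nat.ble 6 c)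
noncomputable def nameTab_s_8_10 (c : Nat) : Nat := @Bool.rec (fun _ => Nat) (nameTab_8) (nameTab_9) (Nat.ble 9 c)
noncomputable def nameTab_s_7_10 (c : Nat) : Nat := @Bool.rec (fun _ => Nat) (nameTab_7) (nameTab_s_8_10 c) (Nat.ble 8 c)
noncomputable def nameTab_s_5_10 (c : Nat) : Nat := @Bool.rec (fun _ => Nat) (nameTab_s_5_7 c) (nameTab_s_7_10 c) (Nat.ble 7 c)
noncomputable def nameTab_s_0_10 (c : Nat) : Nat := @Bool.rec (fun _ => Nat) (nameTab_s_0_5 c) (nameTab_s_5_10 c) (Nat.ble 5 c)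
noncomputable def nameTab (i : Nat) : Nat := rdw 16 65535 (nameTab_s_0_10 (Nat.shiftRight i 12)) (Nat.land i 4095)
noncomputable def col0_s_0_2 (c : Nat) : Nat := @Bool.rec (fun _ => Nat) (col0_0) (col0_1) (Nat.ble 1 c)
noncomputable def col0_s_3_5 (c : Nat) : Nat := @Bool.rec (fun _ => Nat) (col0_3) (col0_4) (Nat.ble 4 c)
noncomputable def col0_s_2_5 (c : Nat) : Nat := @Bool.rec (fun _ => Nat) (col0_2) (col0_s_3_5 c) (Nat.ble 3 c)
noncomputable def col0_s_0_5 (c : Nat) : Nat := @Bool.rec (fun _ => Nat) (col0_s_0_2 c) (col0_s_2_5 c) (Nat.ble 2 c)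
noncomputable def col0_s_5_7 (c : Nat) : Nat := @Bool.rec (fun _ => Nat) (col0_5) (col0_6) (Nat.ble 6 c)
noncomputable def col0_s_8_10 (c : Nat) : Nat := @Bool.rec (fun _ => Nat) (col0_8) (col0_9) (Nat.ble 9 c)
noncomputable def col0_s_7_10 (c : Nat) : Nat := @Bool.rec (fun _ => Nat) (col0_7) (col0_s_8_10 c) (Nat.ble 8 c)
noncomputable def col0_s_5_10 (c : Nat) : Nat := @Bool.rec (fun _ => Nat) (col0_s_5_7 c) (col0_s_7_10 c) (Nat.ble 7 c)
noncomputable def col0_s_0_10 (c : Nat) : Nat := @Bool.rec (fun _ => Nat) (col0_s_0_5 c) (col0_s_5_10 c) (Nat.ble 5 c)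
noncomputable def col0 (i : Nat) : Nat := rdw 16 65535 (col0_s_0_10 (Nat.shiftRight i 12)) (Nat.land i 4095)
noncomputable def col1_s_0_2 (c : Nat) : Nat := @Bool.rec (fun _ => Nat) (col1_0) (col1_1) (Nat.ble 1 c)
noncomputable def col1_s_3_5 (c : Nat) : Nat := @Bool.rec (fun _ => Nat) (col1_3) (col1_4) (Nat.ble 4 c)
noncomputable def col1_s_2_5 (c : Nat) : Nat := @Bool.rec (fun _ => Nat) (col1_2) (col1_s_3_5 c) (Nat.ble 3 c)
noncomputable def col1_s_0_5 (c : Nat) : Nat := @Bool.rec (fun _ => Nat) (col1_s_0_2 c) (col1_s_2_5 c) (Nat.ble 2 c)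
noncomputable def col1_s_5_7 (c : Nat) : Nat := @Bool.rec (fun _ => Nat) (col1_5) (col1_6) (Nat.ble 6 c)
noncomputable def col1_s_8_10 (c : Nat) : Nat := @Bool.rec (fun _ => Nat) (col1_8) (col1_9) (Nat.ble 9 c)
noncomputable def col1_s_7_10 (c : Nat) : Nat := @Bool.rec (fun _ => Nat) (col1_7) (col1_s_8_10 c) (Nat.ble 8 c)
noncomputable def col1_s_5_10 (c : Nat) : Nat := @Bool.rec (fun _ => Nat) (col1_s_5_7 c) (col1_s_7_10 c) (Nat.ble 7 c)
noncomputable def col1_s_0_10 (c : Nat) : Nat := @Bool.rec (fun _ => Nat) (col1_s_0_5 c) (col1_s_5_10 c) (Nat.ble 5 c)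
noncomputable def col1 (i : Nat) : Nat := rdw 16 65535 (col1_s_0_10 (Nat.shiftRight i 12)) (Nat.land i 4095)
noncomputable def col2_s_0_2 (c : Nat) : Nat := @Bool.rec (fun _ => Nat) (col2_0) (col2_1) (Nat.ble 1 c)
noncomputable def col2_s_3_5 (c : Nat) : Nat := @Bool.rec (fun _ => Nat) (col2_3) (col2_4) (Nat.ble 4 c)
noncomputable def col2_s_2_5 (c : Nat) : Nat := @Bool.rec (fun _ => Nat) (col2_2) (col2_s_3_5 c) (Nat.ble 3 c)
noncomputable def col2_s_0_5 (c : Nat) : Nat := @Bool.rec (fun _ => Nat) (col2_s_0_2 c) (col2_s_2_5 c) (Nat.ble 2 c)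
noncomputable def col2_s_5_7 (c : Nat) : Nat := @Bool.rec (fun _ => Nat) (col2_5) (col2_6) (Nat.ble 6 c)
noncomputable def col2_s_8_10 (c : Nat) : Nat := @Bool.rec (fun _ => Nat) (col2_8) (col2_9) (Nat.ble 9 c)
noncomputable def col2_s_7_10 (c : Nat) : Nat := @Bool.rec (fun _ => Nat) (col2_7) (col2_s_8_10 c) (Nat.ble 8 c)
noncomputable def col2_s_5_10 (c : Nat) : Nat := @Bool.rec (fun _ => Nat) (col2_s_5_7 c) (col2_s_7_10 c) (Nat.ble 7 c)
noncomputable def col2_s_0_10 (c : Nat) : Nat := @Bool.rec (fun _ => Nat) (col2_s_0_5 c) (col2_s_5_10 c) (Nat.ble 5 c)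
noncomputable def col2 (i : Nat) : Nat := rdw 16 65535 (col2_s_0_10 (Nat.shiftRight i 12)) (Nat.land i 4095)
noncomputable def col3_s_0_2 (c : Nat) : Nat := @Bool.rec (fun _ => Nat) (col3_0) (col3_1) (Nat.ble 1 c)
noncomputable def col3_s_3_5 (c : Nat) : Nat := @Bool.rec (fun _ => Nat) (col3_3) (col3_4) (Nat.ble 4 c)
noncomputable def col3_s_2_5 (c : Nat) : Nat := @Bool.rec (fun _ => Nat) (col3_2) (col3_s_3_5 c) (Nat.ble 3 c)
noncomputable def col3_s_0_5 (c : Nat) : Nat := @Bool.rec (fun _ => Nat) (col3_s_0_2 c) (col3_s_2_5 c) (Nat.ble 2 c)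
noncomputable def col3_s_5_7 (c : Nat) : Nat := @Bool.rec (fun _ => Nat) (col3_5) (col3_6) (Nat.ble 6 c)
noncomputable def col3_s_8_10 (c : Nat) : Nat := @Bool.rec (fun _ => Nat) (col3_8) (col3_9) (Nat.ble 9 c)
noncomputable def col3_s_7_10 (c : Nat) : Nat := @Bool.rec (fun _ => Nat) (col3_7) (col3_s_8_10 c) (Nat.ble 8 c)
noncomputable def col3_s_5_10 (c : Nat) : Nat := @Bool.rec (fun _ => Nat) (col3_s_5_7 c) (col3_s_7_10 c) (Nat.ble 7 c)
noncomputable def col3_s_0_10 (c : Nat) : Nat := @Bool.rec (fun _ => Nat) (col3_s_0_5 c) (col3_s_5_10 c) (Nat.ble 5 c)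
noncomputable def col3 (i : Nat) : Nat := rdw 16 65535 (col3_s_0_10 (Nat.shiftRight i 12)) (Nat.land i 4095)
noncomputable def col4_s_0_2 (c : Nat) : Nat := @Bool.rec (fun _ => Nat) (col4_0) (col4_1) (Nat.ble 1 c)
noncomputable def col4_s_3_5 (c : Nat) : Nat := @Bool.rec (fun _ => Nat) (col4_3) (col4_4) (Nat.ble 4 c)
noncomputable def col4_s_2_5 (c : Nat) : Nat := @Bool.rec (fun _ => Nat) (col4_2) (col4_s_3_5 c) (Nat.ble 3 c)
noncomputable def col4_s_0_5 (c : Nat) : Nat := @Bool.rec (fun _ => Nat) (col4_s_0_2 c) (col4_s_2_5 c) (Nat.ble 2 c)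
noncomputable def col4_s_5_7 (c : Nat) : Nat := @Bool.rec (fun _ => Nat) (col4_5) (col4_6) (Nat.ble 6 c)
noncomputable def col4_s_8_10 (c : Nat) : Nat := @Bool.rec (fun _ => Nat) (col4_8) (col4_9) (Nat.ble 9 c)
noncomputable def col4_s_7_10 (c : Nat) : Nat := @Bool.rec (fun _ => Nat) (col4_7) (col4_s_8_10 c) (Nat.ble 8 c)
noncomputable def col4_s_5_10 (c : Nat) : Nat := @Bool.rec (fun _ => Nat) (col4_s_5_7 c) (col4_s_7_10 c) (Nat.ble 7 c)
noncomputable def col4_s_0_10 (c : Nat) : Nat := @Bool.rec (fun _ => Nat) (col4_s_0_5 c) (col4_s_5_10 c) (Nat.ble 5 c)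
noncomputable def col4 (i : Nat) : Nat := rdw 16 65535 (col4_s_0_10 (Nat.shiftRight i 12)) (Nat.land i 4095)
noncomputable def col5_s_0_2 (c : Nat) : Nat := @Bool.rec (fun _ => Nat) (col5_0) (col5_1) (Nat.ble 1 c)
noncomputable def col5_s_3_5 (c : Nat) : Nat := @Bool.rec (fun _ => Nat) (col5_3) (col5_4) (Nat.ble 4 c)
noncomputable def col5_s_2_5 (c : Nat) : Nat := @Bool.rec (fun _ => Nat) (col5_2) (col5_s_3_5 c) (Nat.ble 3 c)
noncomputable def col5_s_0_5 (c : Nat) : Nat := @Bool.rec (fun _ => Nat) (col5_s_0_2 c) (col5_s_2_5 c) (Nat.ble 2 c)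
noncomputable def col5_s_5_7 (c : Nat) : Nat := @Bool.rec (fun _ => Nat) (col5_5) (col5_6) (Nat.ble 6 c)
noncomputable def col5_s_8_10 (c : Nat) : Nat := @Bool.rec (fun _ => Nat) (col5_8) (col5_9) (Nat.ble 9 c)
noncomputable def col5_s_7_10 (c : Nat) : Nat := @Bool.rec (fun _ => Nat) (col5_7) (col5_s_8_10 c) (Nat.ble 8 c)
noncomputable def col5_s_5_10 (c : Nat) : Nat := @Bool.rec (fun _ => Nat) (col5_s_5_7 c) (col5_s_7_10 c) (Nat.ble 7 c)
noncomputable def col5_s_0_10 (c : Nat) : Nat := @Bool.rec (fun _ => Nat) (col5_s_0_5 c) (col5_s_5_10 c) (Nat.ble 5 c)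
noncomputable def col5 (i : Nat) : Nat := rdw 16 65535 (col5_s_0_10 (Nat.shiftRight i 12)) (Nat.land i 4095)
noncomputable def col6_s_0_2 (c : Nat) : Nat := @Bool.rec (fun _ => Nat) (col6_0) (col6_1) (Nat.ble 1 c)
noncomputable def col6_s_3_5 (c : Nat) : Nat := @Bool.rec (fun _ => Nat) (col6_3) (col6_4) (Nat.ble 4 c)
noncomputable def col6_s_2_5 (c : Nat) : Nat := @Bool.rec (fun _ => Nat) (col6_2) (col6_s_3_5 c) (Nat.ble 3 c)
noncomputable def col6_s_0_5 (c : Nat) : Nat := @Bool.rec (fun _ => Nat) (col6_s_0_2 c) (col6_s_2_5 c) (Nat.ble 2 c)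
noncomputable def col6_s_5_7 (c : Nat) : Nat := @Bool.rec (fun _ => Nat) (col6_5) (col6_6) (Nat.ble 6 c)
noncomputable def col6_s_8_10 (c : Nat) : Nat := @Bool.rec (fun _ => Nat) (col6_8) (col6_9) (Nat.ble 9 c)
noncomputable def col6_s_7_10 (c : Nat) : Nat := @Bool.rec (fun _ => Nat) (col6_7) (col6_s_8_10 c) (Nat.ble 8 c)
noncomputable def col6_s_5_10 (c : Nat) : Nat := @Bool.rec (fun _ => Nat) (col6_s_5_7 c) (col6_s_7_10 c) (Nat.ble 7 c)
noncomputable def col6_s_0_10 (c : Nat) : Nat := @Bool.rec (fun _ => Nat) (col6_s_0_5 c) (col6_s_5_10 c) (Nat.ble 5 c)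
noncomputable def col6 (i : Nat) : Nat := rdw 16 65535 (col6_s_0_10 (Nat.shiftRight i 12)) (Nat.land i 4095)
noncomputable def col7_s_0_2 (c : Nat) : Nat := @Bool.rec (fun _ => Nat) (col7_0) (col7_1) (Nat.ble 1 c)
noncomputable def col7_s_3_5 (c : Nat) : Nat := @Bool.rec (fun _ => Nat) (col7_3) (col7_4) (Nat.ble 4 c)
noncomputable def col7_s_2_5 (c : Nat) : Nat := @Bool.rec (fun _ => Nat) (col7_2) (col7_s_3_5 c) (Nat.ble 3 c)
noncomputable def col7_s_0_5 (c : Nat) : Nat := @Bool.rec (fun _ => Nat) (col7_s_0_2 c) (col7_s_2_5 c) (Nat.ble 2 c)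
noncomputable def col7_s_5_7 (c : Nat) : Nat := @Bool.rec (fun _ => Nat) (col7_5) (col7_6) (Nat.ble 6 c)
noncomputable def col7_s_8_10 (c : Nat) : Nat := @Bool.rec (fun _ => Nat) (col7_8) (col7_9) (Nat.ble 9 c)
noncomputable def col7_s_7_10 (c : Nat) : Nat := @Bool.rec (fun _ => Nat) (col7_7) (col7_s_8_10 c) (Nat.ble 8 c)
noncomputable def col7_s_5_10 (c : Nat) : Nat := @Bool.rec (fun _ => Nat) (col7_s_5_7 c) (col7_s_7_10 c) (Nat.ble 7 c)
noncomputable def col7_s_0_10 (c : Nat) : Nat := @Bool.rec (fun _ => Nat) (col7_s_0_5 c) (col7_s_5_10 c) (Nat.ble 5 c)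
noncomputable def col7 (i : Nat) : Nat := rdw 16 65535 (col7_s_0_10 (Nat.shiftRight i 12)) (Nat.land i 4095)
noncomputable def col8_s_0_2 (c : Nat) : Nat := @Bool.rec (fun _ => Nat) (col8_0) (col8_1) (Nat.ble 1 c)
noncomputable def col8_s_3_5 (c : Nat) : Nat := @Bool.rec (fun _ => Nat) (col8_3) (col8_4) (Nat.ble 4 c)
noncomputable def col8_s_2_5 (c : Nat) : Nat := @Bool.rec (fun _ => Nat) (col8_2) (col8_s_3_5 c) (Nat.ble 3 c)
noncomputable def col8_s_0_5 (c : Nat) : Nat := @Bool.rec (fun _ => Nat) (col8_s_0_2 c) (col8_s_2_5 c) (Nat.ble 2 c)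
noncomputable def col8_s_5_7 (c : Nat) : Nat := @Bool.rec (fun _ => Nat) (col8_5) (col8_6) (Nat.ble 6 c)
noncomputable def col8_s_8_10 (c : Nat) : Nat := @Bool.rec (fun _ => Nat) (col8_8) (col8_9) (Nat.ble 9 c)
noncomputable def col8_s_7_10 (c : Nat) : Nat := @Bool.rec (fun _ => Nat) (col8_7) (col8_s_8_10 c) (Nat.ble 8 c)
noncomputable def col8_s_5_10 (c : Nat) : Nat := @Bool.rec (fun _ => Nat) (col8_s_5_7 c) (col8_s_7_10 c) (Nat.ble 7 c)
noncomputable def col8_s_0_10 (c : Nat) : Nat := @Bool.rec (fun _ => Nat) (col8_s_0_5 c) (col8_s_5_10 c) (Nat.ble 5 c)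
noncomputable def col8 (i : Nat) : Nat := rdw 16 65535 (col8_s_0_10 (Nat.shiftRight i 12)) (Nat.land i 4095)
noncomputable def col9_s_0_2 (c : Nat) : Nat := @Bool.rec (fun _ => Nat) (col9_0) (col9_1) (Nat.ble 1 c)
noncomputable def col9_s_3_5 (c : Nat) : Nat := @Bool.rec (fun _ => Nat) (col9_3) (col9_4) (Nat.ble 4 c)
noncomputable def col9_s_2_5 (c : Nat) : Nat := @Bool.rec (fun _ => Nat) (col9_2) (col9_s_3_5 c) (Nat.ble 3 c)
noncomputable def col9_s_0_5 (c : Nat) : Nat := @Bool.rec (fun _ => Nat) (col9_s_0_2 c) (col9_s_2_5 c) (Nat.ble 2 c)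
noncomputable def col9_s_5_7 (c : Nat) : Nat := @Bool.rec (fun _ => Nat) (col9_5) (col9_6) (Nat.ble 6 c)
noncomputable def col9_s_8_10 (c : Nat) : Nat := @Bool.rec (fun _ => Nat) (col9_8) (col9_9) (Nat.ble 9 c)
noncomputable def col9_s_7_10 (c : Nat) : Nat := @Bool.rec (fun _ => Nat) (col9_7) (col9_s_8_10 c) (Nat.ble 8 c)
noncomputable def col9_s_5_10 (c : Nat) : Nat := @Bool.rec (fun _ => Nat) (col9_s_5_7 c) (col9_s_7_10 c) (Nat.ble 7 c)
noncomputable def col9_s_0_10 (c : Nat) : Nat := @Bool.rec (fun _ => Nat) (col9_s_0_5 c) (col9_s_5_10 c) (Nat.ble 5 c)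
noncomputable def col9 (i : Nat) : Nat := rdw 16 65535 (col9_s_0_10 (Nat.shiftRight i 12)) (Nat.land i 4095)
noncomputable def col10_s_0_2 (c : Nat) : Nat := @Bool.rec (fun _ => Nat) (col10_0) (col10_1) (Nat.ble 1 c)
noncomputable def col10_s_3_5 (c : Nat) : Nat := @Bool.rec (fun _ => Nat) (col10_3) (col10_4) (Nat.ble 4 c)
noncomputable def col10_s_2_5 (c : Nat) : Nat := @Bool.rec (fun _ => Nat) (col10_2) (col10_s_3_5 c) (Nat.ble 3 c)
noncomputable def col10_s_0_5 (c : Nat) : Nat := @Bool.rec (fun _ => Nat) (col10_s_0_2 c) (col10_s_2_5 c) (Nat.ble 2 c)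
noncomputable def col10_s_5_7 (c : Nat) : Nat := @Bool.rec (fun _ => Nat) (col10_5) (col10_6) (Nat.ble 6 c)
noncomputable def col10_s_8_10 (c : Nat) : Nat := @Bool.rec (fun _ => Nat) (col10_8) (col10_9) (Nat.ble 9 c)
noncomputable def col10_s_7_10 (c : Nat) : Nat := @Bool.rec (fun _ => Nat) (col10_7) (col10_s_8_10 c) (Nat.ble 8 c)
noncomputable def col10_s_5_10 (c : Nat) : Nat := @Bool.rec (fun _ => Nat) (col10_s_5_7 c) (col10_s_7_10 c) (Nat.ble 7 c)
noncomputable def col10_s_0_10 (c : Nat) : Nat := @Bool.rec (fun _ => Nat) (col10_s_0_5 c) (col10_s_5_10 c) (Nat.ble 5 c)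
noncomputable def col10 (i : Nat) : Nat := rdw 16 65535 (col10_s_0_10 (Nat.shiftRight i 12)) (Nat.land i 4095)
noncomputable def col11_s_0_2 (c : Nat) : Nat := @Bool.rec (fun _ => Nat) (col11_0) (col11_1) (Nat.ble 1 c)
noncomputable def col11_s_3_5 (c : Nat) : Nat := @Bool.rec (fun _ => Nat) (col11_3) (col11_4) (Nat.ble 4 c)
noncomputable def col11_s_2_5 (c : Nat) : Nat := @Bool.rec (fun _ => Nat) (col11_2) (col11_s_3_5 c) (Nat.ble 3 c)
noncomputable def col11_s_0_5 (c : Nat) : Nat := @Bool.rec (fun _ => Nat) (col11_s_0_2 c) (col11_s_2_5 c) (Nat.ble 2 c)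
noncomputable def col11_s_5_7 (c : Nat) : Nat := @Bool.rec (fun _ => Nat) (col11_5) (col11_6) (Nat.ble 6 c)
noncomputable def col11_s_8_10 (c : Nat) : Nat := @Bool.rec (fun _ => Nat) (col11_8) (col11_9) (Nat.ble 9 c)
noncomputable def col11_s_7_10 (c : Nat) : Nat := @Bool.rec (fun _ => Nat) (col11_7) (col11_s_8_10 c) (Nat.ble 8 c)
noncomputable def col11_s_5_10 (c : Nat) : Nat := @Bool.rec (fun _ => Nat) (col11_s_5_7 c) (col11_s_7_10 c) (Nat.ble 7 c)
noncomputable def col11_s_0_10 (c : Nat) : Nat := @Bool.rec (fun _ => Nat) (col11_s_0_5 c) (col11_s_5_10 c) (Nat.ble 5 c)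
noncomputable def col11 (i : Nat) : Nat := rdw 16 65535 (col11_s_0_10 (Nat.shiftRight i 12)) (Nat.land i 4095)
noncomputable def col12_s_0_2 (c : Nat) : Nat := @Bool.rec (fun _ => Nat) (col12_0) (col12_1) (Nat.ble 1 c)
noncomputable def col12_s_3_5 (c : Nat) : Nat := @Bool.rec (fun _ => Nat) (col12_3) (col12_4) (Nat.ble 4 c)
noncomputable def col12_s_2_5 (c : Nat) : Nat := @Bool.rec (fun _ => Nat) (col12_2) (col12_s_3_5 c) (Nat.ble 3 c)
noncomputable def col12_s_0_5 (c : Nat) : Nat := @Bool.rec (fun _ => Nat) (col12_s_0_2 c) (col12_s_2_5 c) (Nat.ble 2 c)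
noncomputable def col12_s_5_7 (c : Nat) : Nat := @Bool.rec (fun _ => Nat) (col12_5) (col12_6) (Nat.ble 6 c)
noncomputable def col12_s_8_10 (c : Nat) : Nat := @Bool.rec (fun _ => Nat) (col12_8) (col12_9) (Nat.ble 9 c)
noncomputable def col12_s_7_10 (c : Nat) : Nat := @Bool.rec (fun _ => Nat) (col12_7) (col12_s_8_10 c) (Nat.ble 8 c)
noncomputable def col12_s_5_10 (c : Nat) : Nat := @Bool.rec (fun _ => Nat) (col12_s_5_7 c) (col12_s_7_10 c) (Nat.ble 7 c)
noncomputable def col12_s_0_10 (c : Nat) : Nat := @Bool.rec (fun _ => Nat) (col12_s_0_5 c) (col12_s_5_10 c) (Nat.ble 5 c)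
noncomputable def col12 (i : Nat) : Nat := rdw 16 65535 (col12_s_0_10 (Nat.shiftRight i 12)) (Nat.land i 4095)
noncomputable def col13_s_0_2 (c : Nat) : Nat := @Bool.rec (fun _ => Nat) (col13_0) (col13_1) (Nat.ble 1 c)
noncomputable def col13_s_3_5 (c : Nat) : Nat := @Bool.rec (fun _ => Nat) (col13_3) (col13_4) (Nat.ble 4 c)
noncomputable def col13_s_2_5 (c : Nat) : Nat := @Bool.rec (fun _ => Nat) (col13_2) (col13_s_3_5 c) (Nat.ble 3 c)
noncomputable def col13_s_0_5 (c : Nat) : Nat := @Bool.rec (fun _ => Nat) (col13_s_0_2 c) (col13_s_2_5 c) (Nat.ble 2 c)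
noncomputable def col13_s_5_7 (c : Nat) : Nat := @Bool.rec (fun _ => Nat) (col13_5) (col13_6) (Nat.ble 6 c)
noncomputable def col13_s_8_10 (c : Nat) : Nat := @Bool.rec (fun _ => Nat) (col13_8) (col13_9) (Nat.ble 9 c)
noncomputable def col13_s_7_10 (c : Nat) : Nat := @Bool.rec (fun _ => Nat) (col13_7) (col13_s_8_10 c) (Nat.ble 8 c)
noncomputable def col13_s_5_10 (c : Nat) : Nat := @Bool.rec (fun _ => Nat) (col13_s_5_7 c) (col13_s_7_10 c) (Nat.ble 7 c)
noncomputable def col13_s_0_10 (c : Nat) : Nat := @Bool.rec (fun _ => Nat) (col13_s_0_5 c) (col13_s_5_10 c) (Nat.ble 5 c)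
noncomputable def col13 (i : Nat) : Nat := rdw 16 65535 (col13_s_0_10 (Nat.shiftRight i 12)) (Nat.land i 4095)
noncomputable def col14_s_0_2 (c : Nat) : Nat := @Bool.rec (fun _ => Nat) (col14_0) (col14_1) (Nat.ble 1 c)
noncomputable def col14_s_3_5 (c : Nat) : Nat := @Bool.rec (fun _ => Nat) (col14_3) (col14_4) (Nat.ble 4 c)
noncomputable def col14_s_2_5 (c : Nat) : Nat := @Bool.rec (fun _ => Nat) (col14_2) (col14_s_3_5 c) (Nat.ble 3 c)
noncomputable def col14_s_0_5 (c : Nat) : Nat := @Bool.rec (fun _ => Nat) (col14_s_0_2 c) (col14_s_2_5 c) (Nat.ble 2 c)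
noncomputable def col14_s_5_7 (c : Nat) : Nat := @Bool.rec (fun _ => Nat) (col14_5) (col14_6) (Nat.ble 6 c)
noncomputable def col14_s_8_10 (c : Nat) : Nat := @Bool.rec (fun _ => Nat) (col14_8) (col14_9) (Nat.ble 9 c)
noncomputable def col14_s_7_10 (c : Nat) : Nat := @Bool.rec (fun _ => Nat) (col14_7) (col14_s_8_10 c) (Nat.ble 8 c)
noncomputable def col14_s_5_10 (c : Nat) : Nat := @Bool.rec (fun _ => Nat) (col14_s_5_7 c) (col14_s_7_10 c) (Nat.ble 7 c)
noncomputable def col14_s_0_10 (c : Nat) : Nat := @Bool.rec (fun _ => Nat) (col14_s_0_5 c) (col14_s_5_10 c) (Nat.ble 5 c)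
noncomputable def col14 (i : Nat) : Nat := rdw 16 65535 (col14_s_0_10 (Nat.shiftRight i 12)) (Nat.land i 4095)
noncomputable def col15_s_0_2 (c : Nat) : Nat := @Bool.rec (fun _ => Nat) (col15_0) (col15_1) (Nat.ble 1 c)
noncomputable def col15_s_3_5 (c : Nat) : Nat := @Bool.rec (fun _ => Nat) (col15_3) (col15_4) (Nat.ble 4 c)
noncomputable def col15_s_2_5 (c : Nat) : Nat := @Bool.rec (fun _ => Nat) (col15_2) (col15_s_3_5 c) (Nat.ble 3 c)
noncomputable def col15_s_0_5 (c : Nat) : Nat := @Bool.rec (fun _ => Nat) (col15_s_0_2 c) (col15_s_2_5 c) (Nat.ble 2 c)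
noncomputable def col15_s_5_7 (c : Nat) : Nat := @Bool.rec (fun _ => Nat) (col15_5) (col15_6) (Nat.ble 6 c)
noncomputable def col15_s_8_10 (c : Nat) : Nat := @Bool.rec (fun _ => Nat) (col15_8) (col15_9) (Nat.ble 9 c)
noncomputable def col15_s_7_10 (c : Nat) : Nat := @Bool.rec (fun _ => Nat) (col15_7) (col15_s_8_10 c) (Nat.ble 8 c)
noncomputable def col15_s_5_10 (c : Nat) : Nat := @Bool.rec (fun _ => Nat) (col15_s_5_7 c) (col15_s_7_10 c) (Nat.ble 7 c)
noncomputable def col15_s_0_10 (c : Nat) : Nat := @Bool.rec (fun _ => Nat) (col15_s_0_5 c) (col15_s_5_10 c) (Nat.ble 5 c)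
noncomputable def col15 (i : Nat) : Nat := rdw 16 65535 (col15_s_0_10 (Nat.shiftRight i 12)) (Nat.land i 4095)
noncomputable def col16_s_0_2 (c : Nat) : Nat := @Bool.rec (fun _ => Nat) (col16_0) (col16_1) (Nat.ble 1 c)
noncomputable def col16_s_3_5 (c : Nat) : Nat := @Bool.rec (fun _ => Nat) (col16_3) (col16_4) (Nat.ble 4 c)
noncomputable def col16_s_2_5 (c : Nat) : Nat := @Bool.rec (fun _ => Nat) (col16_2) (col16_s_3_5 c) (Nat.ble 3 c)
noncomputable def col16_s_0_5 (c : Nat) : Nat := @Bool.rec (fun _ => Nat) (col16_s_0_2 c) (col16_s_2_5 c) (Nat.ble 2 c)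
noncomputable def col16_s_5_7 (c : Nat) : Nat := @Bool.rec (fun _ => Nat) (col16_5) (col16_6) (Nat.ble 6 c)
noncomputable def col16_s_8_10 (c : Nat) : Nat := @Bool.rec (fun _ => Nat) (col16_8) (col16_9) (Nat.ble 9 c)
noncomputable def col16_s_7_10 (c : Nat) : Nat := @Bool.rec (fun _ => Nat) (col16_7) (col16_s_8_10 c) (Nat.ble 8 c)
noncomputable def col16_s_5_10 (c : Nat) : Nat := @Bool.rec (fun _ => Nat) (col16_s_5_7 c) (col16_s_7_10 c) (Nat.ble 7 c)
noncomputable def col16_s_0_10 (c : Nat) : Nat := @Bool.rec (fun _ => Nat) (col16_s_0_5 c) (col16_s_5_10 c) (Nat.ble 5 c)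
noncomputable def col16 (i : Nat) : Nat := rdw 16 65535 (col16_s_0_10 (Nat.shiftRight i 12)) (Nat.land i 4095)
noncomputable def col17_s_0_2 (c : Nat) : Nat := @Bool.rec (fun _ => Nat) (col17_0) (col17_1) (Nat.ble 1 c)
noncomputable def col17_s_3_5 (c : Nat) : Nat := @Bool.rec (fun _ => Nat) (col17_3) (col17_4) (Nat.ble 4 c)
noncomputable def col17_s_2_5 (c : Nat) : Nat := @Bool.rec (fun _ => Nat) (col17_2) (col17_s_3_5 c) (Nat.ble 3 c)
noncomputable def col17_s_0_5 (c : Nat) : Nat := @Bool.rec (fun _ => Nat) (col17_s_0_2 c) (col17_s_2_5 c) (Nat.ble 2 c)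
noncomputable def col17_s_5_7 (c : Nat) : Nat := @Bool.rec (fun _ => Nat) (col17_5) (col17_6) (Nat.ble 6 c)
noncomputable def col17_s_8_10 (c : Nat) : Nat := @Bool.rec (fun _ => Nat) (col17_8) (col17_9) (Nat.ble 9 c)
noncomputable def col17_s_7_10 (c : Nat) : Nat := @Bool.rec (fun _ => Nat) (col17_7) (col17_s_8_10 c) (Nat.ble 8 c)
noncomputable def col17_s_5_10 (c : Nat) : Nat := @Bool.rec (fun _ => Nat) (col17_s_5_7 c) (col17_s_7_10 c) (Nat.ble 7 c)
noncomputable def col17_s_0_10 (c : Nat) : Nat := @Bool.rec (fun _ => Nat) (col17_s_0_5 c) (col17_s_5_10 c) (Nat.ble 5 c)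
noncomputable def col17 (i : Nat) : Nat := rdw 16 65535 (col17_s_0_10 (Nat.shiftRight i 12)) (Nat.land i 4095)
noncomputable def finTab_s_0_2 (c : Nat) : Nat := @Bool.rec (fun _ => Nat) (finTab_0) (finTab_1) (Nat.ble 1 c)
noncomputable def finTab_s_3_5 (c : Nat) : Nat := @Bool.rec (fun _ => Nat) (finTab_3) (finTab_4) (Nat.ble 4 c)
noncomputable def finTab_s_2_5 (c : Nat) : Nat := @Bool.rec (fun _ => Nat) (finTab_2) (finTab_s_3_5 c) (Nat.ble 3 c)
noncomputable def finTab_s_0_5 (c : Nat) : Nat := @Bool.rec (fun _ => Nat) (finTab_s_0_2 c) (finTab_s_2_5 c) (Nat.ble 2 c)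
noncomputable def finTab_s_5_7 (c : Nat) : Nat := @Bool.rec (fun _ => Nat) (finTab_5) (finTab_6) (Nat.ble 6 c)
noncomputable def finTab_s_8_10 (c : Nat) : Nat := @Bool.rec (fun _ => Nat) (finTab_8) (finTab_9) (Nat.ble 9 c)
noncomputable def finTab_s_7_10 (c : Nat) : Nat := @Bool.rec (fun _ => Nat) (finTab_7) (finTab_s_8_10 c) (Nat.ble 8 c)
noncomputable def finTab_s_5_10 (c : Nat) : Nat := @Bool.rec (fun _ => Nat) (finTab_s_5_7 c) (finTab_s_7_10 c) (Nat.ble 7 c)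
noncomputable def finTab_s_0_10 (c : Nat) : Nat := @Bool.rec (fun _ => Nat) (finTab_s_0_5 c) (finTab_s_5_10 c) (Nat.ble 5 c)
noncomputable def finTab_s_10_12 (c : Nat) : Nat := @Bool.rec (fun _ => Nat) (finTab_10) (finTab_11) (Nat.ble 11 c)
noncomputable def finTab_s_13_15 (c : Nat) : Nat := @Bool.rec (fun _ => Nat) (finTab_13) (finTab_14) (Nat.ble 14 c)
noncomputable def finTab_s_12_15 (c : Nat) : Nat := @Bool.rec (fun _ => Nat) (finTab_12) (finTab_s_13_15 c) (Nat.ble 13 c)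
noncomputable def finTab_s_10_15 (c : Nat) : Nat := @Bool.rec (fun _ => Nat) (finTab_s_10_12 c) (finTab_s_12_15 c) (Nat.ble 12 c)
noncomputable def finTab_s_15_17 (c : Nat) : Nat := @Bool.rec (fun _ => Nat) (finTab_15) (finTab_16) (Nat.ble 16 c)
noncomputable def finTab_s_18_20 (c : Nat) : Nat := @Bool.rec (fun _ => Nat) (finTab_18) (finTab_19) (Nat.ble 19 c)
noncomputable def finTab_s_17_20 (c : Nat) : Nat := @Bool.rec (fun _ => Nat) (finTab_17) (finTab_s_18_20 c) (Nat.ble 18 c)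
noncomputable def finTab_s_15_20 (c : Nat) : Nat := @Bool.rec (fun _ => Nat) (finTab_s_15_17 c) (finTab_s_17_20 c) (Nat.ble 17 c)
noncomputable def finTab_s_10_20 (c : Nat) : Nat := @Bool.rec (fun _ => Nat) (finTab_s_10_15 c) (finTab_s_15_20 c) (Nat.ble 15 c)
noncomputable def finTab_s_0_20 (c : Nat) : Nat := @Bool.rec (fun _ => Nat) (finTab_s_0_10 c) (finTab_s_10_20 c) (Nat.ble 10 c)
noncomputable def finTab_s_20_22 (c : Nat) : Nat := @Bool.rec (fun _ => Nat) (finTab_20) (finTab_21) (Nat.ble 21 c)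
noncomputable def finTab_s_23_25 (c : Nat) : Nat := @Bool.rec (fun _ => Nat) (finTab_23) (finTab_24) (Nat.ble 24 c)
noncomputable def finTab_s_22_25 (c : Nat) : Nat := @Bool.rec (fun _ => Nat) (finTab_22) (finTab_s_23_25 c) (Nat.ble 23 c)
noncomputable def finTab_s_20_25 (c : Nat) : Nat := @Bool.rec (fun _ => Nat) (finTab_s_20_22 c) (finTab_s_22_25 c) (Nat.ble 22 c)
noncomputable def finTab_s_25_27 (c : Nat) : Nat := @Bool.rec (fun _ => Nat) (finTab_25) (finTab_26) (Nat.ble 26 c)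
noncomputable def finTab_s_28_30 (c : Nat) : Nat := @Bool.rec (fun _ => Nat) (finTab_28) (finTab_29) (Nat.ble 29 c)
noncomputable def finTab_s_27_30 (c : Nat) : Nat := @Bool.rec (fun _ => Nat) (finTab_27) (finTab_s_28_30 c) (Nat.ble 28 c)
noncomputable def finTab_s_25_30 (c : Nat) : Nat := @Bool.rec (fun _ => Nat) (finTab_s_25_27 c) (finTab_s_27_30 c) (Nat.ble 27 c)
noncomputable def finTab_s_20_30 (c : Nat) : Nat := @Bool.rec (fun _ => Nat) (finTab_s_20_25 c) (finTab_s_25_30 c) (Nat.ble 25 c)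
noncomputable def finTab_s_30_32 (c : Nat) : Nat := @Bool.rec (fun _ => Nat) (finTab_30) (finTab_31) (Nat.ble 31 c)
noncomputable def finTab_s_33_35 (c : Nat) : Nat := @Bool.rec (fun _ => Nat) (finTab_33) (finTab_34) (Nat.ble 34 c)
noncomputable def finTab_s_32_35 (c : Nat) : Nat := @Bool.rec (fun _ => Nat) (finTab_32) (finTab_s_33_35 c) (Nat.ble 33 c)
noncomputable def finTab_s_30_35 (c : Nat) : Nat := @Bool.rec (fun _ => Nat) (finTab_s_30_32 c) (finTab_s_32_35 c) (Nat.ble 32 c)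
noncomputable def finTab_s_35_37 (c : Nat) : Nat := @Bool.rec (fun _ => Nat) (finTab_35) (finTab_36) (Nat.ble 36 c)
noncomputable def finTab_s_38_40 (c : Nat) : Nat := @Bool.rec (fun _ => Nat) (finTab_38) (finTab_39) (Nat.ble 39 c)
noncomputable def finTab_s_37_40 (c : Nat) : Nat := @Bool.rec (fun _ => Nat) (finTab_37) (finTab_s_38_40 c) (Nat.ble 38 c)
noncomputable def finTab_s_35_40 (c : Nat) : Nat := @Bool.rec (fun _ => Nat) (finTab_s_35_37 c) (finTab_s_37_40 c) (Nat.ble 37 c)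
noncomputable def finTab_s_30_40 (c : Nat) : Nat := @Bool.rec (fun _ => Nat) (finTab_s_30_35 c) (finTab_s_35_40 c) (Nat.ble 35 c)
noncomputable def finTab_s_20_40 (c : Nat) : Nat := @Bool.rec (fun _ => Nat) (finTab_s_20_30 c) (finTab_s_30_40 c) (Nat.ble 30 c)
noncomputable def finTab_s_0_40 (c : Nat) : Nat := @Bool.rec (fun _ => Nat) (finTab_s_0_20 c) (finTab_s_20_40 c) (Nat.ble 20 c)
noncomputable def finTab_s_40_42 (c : Nat) : Nat := @Bool.rec (fun _ => Nat) (finTab_40) (finTab_41) (Nat.ble 41 c)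
noncomputable def finTab_s_43_45 (c : Nat) : Nat := @Bool.rec (fun _ => Nat) (finTab_43) (finTab_44) (Nat.ble 44 c)
noncomputable def finTab_s_42_45 (c : Nat) : Nat := @Bool.rec (fun _ => Nat) (finTab_42) (finTab_s_43_45 c) (Nat.ble 43 c)
noncomputable def finTab_s_40_45 (c : Nat) : Nat := @Bool.rec (fun _ => Nat) (finTab_s_40_42 c) (finTab_s_42_45 c) (Nat.ble 42 c)
noncomputable def finTab_s_45_47 (c : Nat) : Nat := @Bool.rec (fun _ => Nat) (finTab_45) (finTab_46) (Nat.ble 46 c)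
noncomputable def finTab_s_48_50 (c : Nat) : Nat := @Bool.rec (fun _ => Nat) (finTab_48) (finTab_49) (Nat.ble 49 c)
noncomputable def finTab_s_47_50 (c : Nat) : Nat := @Bool.rec (fun _ => Nat) (finTab_47) (finTab_s_48_50 c) (Nat.ble 48 c)
noncomputable def finTab_s_45_50 (c : Nat) : Nat := @Bool.rec (fun _ => Nat) (finTab_s_45_47 c) (finTab_s_47_50 c) (Nat.ble 47 c)
noncomputable def finTab_s_40_50 (c : Nat) : Nat := @Bool.rec (fun _ => Nat) (finTab_s_40_45 c) (finTab_s_45_50 c) (Nat.ble 45 c)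
noncomputable def finTab_s_50_52 (c : Nat) : Nat := @Bool.rec (fun _ => Nat) (finTab_50) (finTab_51) (Nat.ble 51 c)
noncomputable def finTab_s_53_55 (c : Nat) : Nat := @Bool.rec (fun _ => Nat) (finTab_53) (finTab_54) (Nat.ble 54 c)
noncomputable def finTab_s_52_55 (c : Nat) : Nat := @Bool.rec (fun _ => Nat) (finTab_52) (finTab_s_53_55 c) (Nat.ble 53 c)
noncomputable def finTab_s_50_55 (c : Nat) : Nat := @Bool.rec (fun _ => Nat) (finTab_s_50_52 c) (finTab_s_52_55 c) (Nat.ble 52 c)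
noncomputable def finTab_s_55_57 (c : Nat) : Nat := @Bool.rec (fun _ => Nat) (finTab_55) (finTab_56) (Nat.ble 56 c)
noncomputable def finTab_s_58_60 (c : Nat) : Nat := @Bool.rec (fun _ => Nat) (finTab_58) (finTab_59) (Nat.ble 59 c)
noncomputable def finTab_s_57_60 (c : Nat) : Nat := @Bool.rec (fun _ => Nat) (finTab_57) (finTab_s_58_60 c) (Nat.ble 58 c)
noncomputable def finTab_s_55_60 (c : Nat) : Nat := @Bool.rec (fun _ => Nat) (finTab_s_55_57 c) (finTab_s_57_60 c) (Nat.ble 57 c)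
noncomputable def finTab_s_50_60 (c : Nat) : Nat := @Bool.rec (fun _ => Nat) (finTab_s_50_55 c) (finTab_s_55_60 c) (Nat.ble 55 c)
noncomputable def finTab_s_40_60 (c : Nat) : Nat := @Bool.rec (fun _ => Nat) (finTab_s_40_50 c) (finTab_s_50_60 c) (Nat.ble 50 c)
noncomputable def finTab_s_60_62 (c : Nat) : Nat := @Bool.rec (fun _ => Nat) (finTab_60) (finTab_61) (Nat.ble 61 c)
noncomputable def finTab_s_63_65 (c : Nat) : Nat := @Bool.rec (fun _ => Nat) (finTab_63) (finTab_64) (Nat.ble 64 c)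
noncomputable def finTab_s_62_65 (c : Nat) : Nat := @Bool.rec (fun _ => Nat) (finTab_62) (finTab_s_63_65 c) (Nat.ble 63 c)
noncomputable def finTab_s_60_65 (c : Nat) : Nat := @Bool.rec (fun _ => Nat) (finTab_s_60_62 c) (finTab_s_62_65 c) (Nat.ble 62 c)
noncomputable def finTab_s_65_67 (c : Nat) : Nat := @Bool.rec (fun _ => Nat) (finTab_65) (finTab_66) (Nat.ble 66 c)
noncomputable def finTab_s_68_70 (c : Nat) : Nat := @Bool.rec (fun _ => Nat) (finTab_68) (finTab_69) (Nat.ble 69 c)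
noncomputable def finTab_s_67_70 (c : Nat) : Nat := @Bool.rec (fun _ => Nat) (finTab_67) (finTab_s_68_70 c) (Nat.ble 68 c)
noncomputable def finTab_s_65_70 (c : Nat) : Nat := @Bool.rec (fun _ => Nat) (finTab_s_65_67 c) (finTab_s_67_70 c) (Nat.ble 67 c)
noncomputable def finTab_s_60_70 (c : Nat) : Nat := @Bool.rec (fun _ => Nat) (finTab_s_60_65 c) (finTab_s_65_70 c) (Nat.ble 65 c)
noncomputable def finTab_s_70_72 (c : Nat) : Nat := @Bool.rec (fun _ => Nat) (finTab_70) (finTab_71) (Nat.ble 71 c)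
noncomputable def finTab_s_73_75 (c : Nat) : Nat := @Bool.rec (fun _ => Nat) (finTab_73) (finTab_74) (Nat.ble 74 c)
noncomputable def finTab_s_72_75 (c : Nat) : Nat := @Bool.rec (fun _ => Nat) (finTab_72) (finTab_s_73_75 c) (Nat.ble 73 c)
noncomputable def finTab_s_70_75 (c : Nat) : Nat := @Bool.rec (fun _ => Nat) (finTab_s_70_72 c) (finTab_s_72_75 c) (Nat.ble 72 c)
noncomputable def finTab_s_76_78 (c : Nat) : Nat := @Bool.rec (fun _ => Nat) (finTab_76) (finTab_77) (Nat.ble 77 c)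
noncomputable def finTab_s_75_78 (c : Nat) : Nat := @Bool.rec (fun _ => Nat) (finTab_75) (finTab_s_76_78 c) (Nat.ble 76 c)
noncomputable def finTab_s_79_81 (c : Nat) : Nat := @Bool.rec (fun _ => Nat) (finTab_79) (finTab_80) (Nat.ble 80 c)
noncomputable def finTab_s_78_81 (c : Nat) : Nat := @Bool.rec (fun _ => Nat) (finTab_78) (finTab_s_79_81 c) (Nat.ble 79 c)
noncomputable def finTab_s_75_81 (c : Nat) : Nat := @Bool.rec (fun _ => Nat) (finTab_s_75_78 c) (finTab_s_78_81 c) (Nat.ble 78 c)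
noncomputable def finTab_s_70_81 (c : Nat) : Nat := @Bool.rec (fun _ => Nat) (finTab_s_70_75 c) (finTab_s_75_81 c) (Nat.ble 75 c)
noncomputable def finTab_s_60_81 (c : Nat) : Nat := @Bool.rec (fun _ => Nat) (finTab_s_60_70 c) (finTab_s_70_81 c) (Nat.ble 70 c)
noncomputable def finTab_s_40_81 (c : Nat) : Nat := @Bool.rec (fun _ => Nat) (finTab_s_40_60 c) (finTab_s_60_81 c) (Nat.ble 60 c)
noncomputable def finTab_s_0_81 (c : Nat) : Nat := @Bool.rec (fun _ => Nat) (finTab_s_0_40 c) (finTab_s_40_81 c) (Nat.ble 40 c)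
noncomputable def finTab_s_81_83 (c : Nat) : Nat := @Bool.rec (fun _ => Nat) (finTab_81) (finTab_82) (Nat.ble 82 c)
noncomputable def finTab_s_84_86 (c : Nat) : Nat := @Bool.rec (fun _ => Nat) (finTab_84) (finTab_85) (Nat.ble 85 c)
noncomputable def finTab_s_83_86 (c : Nat) : Nat := @Bool.rec (fun _ => Nat) (finTab_83) (finTab_s_84_86 c) (Nat.ble 84 c)
noncomputable def finTab_s_81_86 (c : Nat) : Nat := @Bool.rec (fun _ => Nat) (finTab_s_81_83 c) (finTab_s_83_86 c) (Nat.ble 83 c)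
noncomputable def finTab_s_86_88 (c : Nat) : Nat := @Bool.rec (fun _ => Nat) (finTab_86) (finTab_87) (Nat.ble 87 c)
noncomputable def finTab_s_89_91 (c : Nat) : Nat := @Bool.rec (fun _ => Nat) (finTab_89) (finTab_90) (Nat.ble 90 c)
noncomputable def finTab_s_88_91 (c : Nat) : Nat := @Bool.rec (fun _ => Nat) (finTab_88) (finTab_s_89_91 c) (Nat.ble 89 c)
noncomputable def finTab_s_86_91 (c : Nat) : Nat := @Bool.rec (fun _ => Nat) (finTab_s_86_88 c) (finTab_s_88_91 c) (Nat.ble 88 c)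
noncomputable def finTab_s_81_91 (c : Nat) : Nat := @Bool.rec (fun _ => Nat) (finTab_s_81_86 c) (finTab_s_86_91 c) (Nat.ble 86 c)
noncomputable def finTab_s_91_93 (c : Nat) : Nat := @Bool.rec (fun _ => Nat) (finTab_91) (finTab_92) (Nat.ble 92 c)
noncomputable def finTab_s_94_96 (c : Nat) : Nat := @Bool.rec (fun _ => Nat) (finTab_94) (finTab_95) (Nat.ble 95 c)
noncomputable def finTab_s_93_96 (c : Nat) : Nat := @Bool.rec (fun _ => Nat) (finTab_93) (finTab_s_94_96 c) (Nat.ble 94 c)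
noncomputable def finTab_s_91_96 (c : Nat) : Nat := @Bool.rec (fun _ => Nat) (finTab_s_91_93 c) (finTab_s_93_96 c) (Nat.ble 93 c)
noncomputable def finTab_s_96_98 (c : Nat) : Nat := @Bool.rec (fun _ => Nat) (finTab_96) (finTab_97) (Nat.ble 97 c)
noncomputable def finTab_s_99_101 (c : Nat) : Nat := @Bool.rec (fun _ => Nat) (finTab_99) (finTab_100) (Nat.ble 100 c)
noncomputable def finTab_s_98_101 (c : Nat) : Nat := @Bool.rec (fun _ => Nat) (finTab_98) (finTab_s_99_101 c) (Nat.ble 99 c)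
noncomputable def finTab_s_96_101 (c : Nat) : Nat := @Bool.rec (fun _ => Nat) (finTab_s_96_98 c) (finTab_s_98_101 c) (Nat.ble 98 c)
noncomputable def finTab_s_91_101 (c : Nat) : Nat := @Bool.rec (fun _ => Nat) (finTab_s_91_96 c) (finTab_s_96_101 c) (Nat.ble 96 c)
noncomputable def finTab_s_81_101 (c : Nat) : Nat := @Bool.rec (fun _ => Nat) (finTab_s_81_91 c) (finTab_s_91_101 c) (Nat.ble 91 c)
noncomputable def finTab_s_101_103 (c : Nat) : Nat := @Bool.rec (fun _ => Nat) (finTab_101) (finTab_102) (Nat.ble 102 c)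
noncomputable def finTab_s_104_106 (c : Nat) : Nat := @Bool.rec (fun _ => Nat) (finTab_104) (finTab_105) (Nat.ble 105 c)
noncomputable def finTab_s_103_106 (c : Nat) : Nat := @Bool.rec (fun _ => Nat) (finTab_103) (finTab_s_104_106 c) (Nat.ble 104 c)
noncomputable def finTab_s_101_106 (c : Nat) : Nat := @Bool.rec (fun _ => Nat) (finTab_s_101_103 c) (finTab_s_103_106 c) (Nat.ble 103 c)
noncomputable def finTab_s_106_108 (c : Nat) : Nat := @Bool.rec (fun _ => Nat) (finTab_106) (finTab_107) (Nat.ble 107 c)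
noncomputable def finTab_s_109_111 (c : Nat) : Nat := @Bool.rec (fun _ => Nat) (finTab_109) (finTab_110) (Nat.ble 110 c)
noncomputable def finTab_s_108_111 (c : Nat) : Nat := @Bool.rec (fun _ => Nat) (finTab_108) (finTab_s_109_111 c) (Nat.ble 109 c)
noncomputable def finTab_s_106_111 (c : Nat) : Nat := @Bool.rec (fun _ => Nat) (finTab_s_106_108 c) (finTab_s_108_111 c) (Nat.ble 108 c)
noncomputable def finTab_s_101_111 (c : Nat) : Nat := @Bool.rec (fun _ => Nat) (finTab_s_101_106 c) (finTab_s_106_111 c) (Nat.ble 106 c)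
noncomputable def finTab_s_111_113 (c : Nat) : Nat := @Bool.rec (fun _ => Nat) (finTab_111) (finTab_112) (Nat.ble 112 c)
noncomputable def finTab_s_114_116 (c : Nat) : Nat := @Bool.rec (fun _ => Nat) (finTab_114) (finTab_115) (Nat.ble 115 c)
noncomputable def finTab_s_113_116 (c : Nat) : Nat := @Bool.rec (fun _ => Nat) (finTab_113) (finTab_s_114_116 c) (Nat.ble 114 c)
noncomputable def finTab_s_111_116 (c : Nat) : Nat := @Bool.rec (fun _ => Nat) (finTab_s_111_113 c) (finTab_s_113_116 c) (Nat.ble 113 c)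
noncomputable def finTab_s_117_119 (c : Nat) : Nat := @Bool.rec (fun _ => Nat) (finTab_117) (finTab_118) (Nat.ble 118 c)
noncomputable def finTab_s_116_119 (c : Nat) : Nat := @Bool.rec (fun _ => Nat) (finTab_116) (finTab_s_117_119 c) (Nat.ble 117 c)
noncomputable def finTab_s_120_122 (c : Nat) : Nat := @Bool.rec (fun _ => Nat) (finTab_120) (finTab_121) (Nat.ble 121 c)
noncomputable def finTab_s_119_122 (c : Nat) : Nat := @Bool.rec (fun _ => Nat) (finTab_119) (finTab_s_120_122 c) (Nat.ble 120 c)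
noncomputable def finTab_s_116_122 (c : Nat) : Nat := @Bool.rec (fun _ => Nat) (finTab_s_116_119 c) (finTab_s_119_122 c) (Nat.ble 119 c)
noncomputable def finTab_s_111_122 (c : Nat) : Nat := @Bool.rec (fun _ => Nat) (finTab_s_111_116 c) (finTab_s_116_122 c) (Nat.ble 116 c)
noncomputable def finTab_s_101_122 (c : Nat) : Nat := @Bool.rec (fun _ => Nat) (finTab_s_101_111 c) (finTab_s_111_122 c) (Nat.ble 111 c)
noncomputable def finTab_s_81_122 (c : Nat) : Nat := @Bool.rec (fun _ => Nat) (finTab_s_81_101 c) (finTab_s_101_122 c) (Nat.ble 101 c)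
noncomputable def finTab_s_122_124 (c : Nat) : Nat := @Bool.rec (fun _ => Nat) (finTab_122) (finTab_123) (Nat.ble 123 c)
noncomputable def finTab_s_125_127 (c : Nat) : Nat := @Bool.rec (fun _ => Nat) (finTab_125) (finTab_126) (Nat.ble 126 c)
noncomputable def finTab_s_124_127 (c : Nat) : Nat := @Bool.rec (fun _ => Nat) (finTab_124) (finTab_s_125_127 c) (Nat.ble 125 c)
noncomputable def finTab_s_122_127 (c : Nat) : Nat := @Bool.rec (fun _ => Nat) (finTab_s_122_124 c) (finTab_s_124_127 c) (Nat.ble 124 c)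
noncomputable def finTab_s_127_129 (c : Nat) : Nat := @Bool.rec (fun _ => Nat) (finTab_127) (finTab_128) (Nat.ble 128 c)
noncomputable def finTab_s_130_132 (c : Nat) : Nat := @Bool.rec (fun _ => Nat) (finTab_130) (finTab_131) (Nat.ble 131 c)
noncomputable def finTab_s_129_132 (c : Nat) : Nat := @Bool.rec (fun _ => Nat) (finTab_129) (finTab_s_130_132 c) (Nat.ble 130 c)
noncomputable def finTab_s_127_132 (c : Nat) : Nat := @Bool.rec (fun _ => Nat) (finTab_s_127_129 c) (finTab_s_129_132 c) (Nat.ble 129 c)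
noncomputable def finTab_s_122_132 (c : Nat) : Nat := @Bool.rec (fun _ => Nat) (finTab_s_122_127 c) (finTab_s_127_132 c) (Nat.ble 127 c)
noncomputable def finTab_s_132_134 (c : Nat) : Nat := @Bool.rec (fun _ => Nat) (finTab_132) (finTab_133) (Nat.ble 133 c)
noncomputable def finTab_s_135_137 (c : Nat) : Nat := @Bool.rec (fun _ => Nat) (finTab_135) (finTab_136) (Nat.ble 136 c)
noncomputable def finTab_s_134_137 (c : Nat) : Nat := @Bool.rec (fun _ => Nat) (finTab_134) (finTab_s_135_137 c) (Nat.ble 135 c)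
noncomputable def finTab_s_132_137 (c : Nat) : Nat := @Bool.rec (fun _ => Nat) (finTab_s_132_134 c) (finTab_s_134_137 c) (Nat.ble 134 c)
noncomputable def finTab_s_137_139 (c : Nat) : Nat := @Bool.rec (fun _ => Nat) (finTab_137) (finTab_138) (Nat.ble 138 c)
noncomputable def finTab_s_140_142 (c : Nat) : Nat := @Bool.rec (fun _ => Nat) (finTab_140) (finTab_141) (Nat.ble 141 c)
noncomputable def finTab_s_139_142 (c : Nat) : Nat := @Bool.rec (fun _ => Nat) (finTab_139) (finTab_s_140_142 c) (Nat.ble 140 c)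
noncomputable def finTab_s_137_142 (c : Nat) : Nat := @Bool.rec (fun _ => Nat) (finTab_s_137_139 c) (finTab_s_139_142 c) (Nat.ble 139 c)
noncomputable def finTab_s_132_142 (c : Nat) : Nat := @Bool.rec (fun _ => Nat) (finTab_s_132_137 c) (finTab_s_137_142 c) (Nat.ble 137 c)
noncomputable def finTab_s_122_142 (c : Nat) : Nat := @Bool.rec (fun _ => Nat) (finTab_s_122_132 c) (finTab_s_132_142 c) (Nat.ble 132 c)
noncomputable def finTab_s_142_144 (c : Nat) : Nat := @Bool.rec (fun _ => Nat) (finTab_142) (finTab_143) (Nat.ble 143 c)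
noncomputable def finTab_s_145_147 (c : Nat) : Nat := @Bool.rec (fun _ => Nat) (finTab_145) (finTab_146) (Nat.ble 146 c)
noncomputable def finTab_s_144_147 (c : Nat) : Nat := @Bool.rec (fun _ => Nat) (finTab_144) (finTab_s_145_147 c) (Nat.ble 145 c)
noncomputable def finTab_s_142_147 (c : Nat) : Nat := @Bool.rec (fun _ => Nat) (finTab_s_142_144 c) (finTab_s_144_147 c) (Nat.ble 144 c)
noncomputable def finTab_s_147_149 (c : Nat) : Nat := @Bool.rec (fun _ => Nat) (finTab_147) (finTab_148) (Nat.ble 148 c)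
noncomputable def finTab_s_150_152 (c : Nat) : Nat := @Bool.rec (fun _ => Nat) (finTab_150) (finTab_151) (Nat.ble 151 c)
noncomputable def finTab_s_149_152 (c : Nat) : Nat := @Bool.rec (fun _ => Nat) (finTab_149) (finTab_s_150_152 c) (Nat.ble 150 c)
noncomputable def finTab_s_147_152 (c : Nat) : Nat := @Bool.rec (fun _ => Nat) (finTab_s_147_149 c) (finTab_s_149_152 c) (Nat.ble 149 c)
noncomputable def finTab_s_142_152 (c : Nat) : Nat := @Bool.rec (fun _ => Nat) (finTab_s_142_147 c) (finTab_s_147_152 c) (Nat.ble 147 c)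
noncomputable def finTab_s_152_154 (c : Nat) : Nat := @Bool.rec (fun _ => Nat) (finTab_152) (finTab_153) (Nat.ble 153 c)
noncomputable def finTab_s_155_157 (c : Nat) : Nat := @Bool.rec (fun _ => Nat) (finTab_155) (finTab_156) (Nat.ble 156 c)
noncomputable def finTab_s_154_157 (c : Nat) : Nat := @Bool.rec (fun _ => Nat) (finTab_154) (finTab_s_155_157 c) (Nat.ble 155 c)
noncomputable def finTab_s_152_157 (c : Nat) : Nat := @Bool.rec (fun _ => Nat) (finTab_s_152_154 c) (finTab_s_154_157 c) (Nat.ble 154 c)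
noncomputable def finTab_s_158_160 (c : Nat) : Nat := @Bool.rec (fun _ => Nat) (finTab_158) (finTab_159) (Nat.ble 159 c)
noncomputable def finTab_s_157_160 (c : Nat) : Nat := @Bool.rec (fun _ => Nat) (finTab_157) (finTab_s_158_160 c) (Nat.ble 158 c)
noncomputable def finTab_s_161_163 (c : Nat) : Nat := @Bool.rec (fun _ => Nat) (finTab_161) (finTab_162) (Nat.ble 162 c)
noncomputable def finTab_s_160_163 (c : Nat) : Nat := @Bool.rec (fun _ => Nat) (finTab_160) (finTab_s_161_163 c) (Nat.ble 161 c)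
noncomputable def finTab_s_157_163 (c : Nat) : Nat := @Bool.rec (fun _ => Nat) (finTab_s_157_160 c) (finTab_s_160_163 c) (Nat.ble 160 c)
noncomputable def finTab_s_152_163 (c : Nat) : Nat := @Bool.rec (fun _ => Nat) (finTab_s_152_157 c) (finTab_s_157_163 c) (Nat.ble 157 c)
noncomputable def finTab_s_142_163 (c : Nat) : Nat := @Bool.rec (fun _ => Nat) (finTab_s_142_152 c) (finTab_s_152_163 c) (Nat.ble 152 c)
noncomputable def finTab_s_122_163 (c : Nat) : Nat := @Bool.rec (fun _ => Nat) (finTab_s_122_142 c) (finTab_s_142_163 c) (Nat.ble 142 c)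
noncomputable def finTab_s_81_163 (c : Nat) : Nat := @Bool.rec (fun _ => Nat) (finTab_s_81_122 c) (finTab_s_122_163 c) (Nat.ble 122 c)
noncomputable def finTab_s_0_163 (c : Nat) : Nat := @Bool.rec (fun _ => Nat) (finTab_s_0_81 c) (finTab_s_81_163 c) (Nat.ble 81 c)
noncomputable def finTab (i : Nat) : Nat := rdw 20 1048575 (finTab_s_0_163 (Nat.shiftRight i 12)) (Nat.land i 4095)
noncomputable def clsTab_s_1_3 (c : Nat) : Nat := @Bool.rec (fun _ => Nat) (clsTab_1) (clsTab_2) (Nat.ble 2 c)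
noncomputable def clsTab_s_0_3 (c : Nat) : Nat := @Bool.rec (fun _ => Nat) (clsTab_0) (clsTab_s_1_3 c) (Nat.ble 1 c)
noncomputable def clsTab_s_4_6 (c : Nat) : Nat := @Bool.rec (fun _ => Nat) (clsTab_4) (clsTab_5) (Nat.ble 5 c)
noncomputable def clsTab_s_3_6 (c : Nat) : Nat := @Bool.rec (fun _ => Nat) (clsTab_3) (clsTab_s_4_6 c) (Nat.ble 4 c)
noncomputable def clsTab_s_0_6 (c : Nat) : Nat := @Bool.rec (fun _ => Nat) (clsTab_s_0_3 c) (clsTab_s_3_6 c) (Nat.ble 3 c)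
noncomputable def clsTab_s_7_9 (c : Nat) : Nat := @Bool.rec (fun _ => Nat) (clsTab_7) (clsTab_8) (Nat.ble 8 c)
noncomputable def clsTab_s_6_9 (c : Nat) : Nat := @Bool.rec (fun _ => Nat) (clsTab_6) (clsTab_s_7_9 c) (Nat.ble 7 c)
noncomputable def clsTab_s_9_11 (c : Nat) : Nat := @Bool.rec (fun _ => Nat) (clsTab_9) (clsTab_10) (Nat.ble 10 c)
noncomputable def clsTab_s_11_13 (c : Nat) : Nat := @Bool.rec (fun _ => Nat) (clsTab_11) (clsTab_12) (Nat.ble 12 c)
noncomputable def clsTab_s_9_13 (c : Nat) : Nat := @Bool.rec (fun _ => Nat) (clsTab_s_9_11 c) (clsTab_s_11_13 c) (Nat.ble 11 c)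
noncomputable def clsTab_s_6_13 (c : Nat) : Nat := @Bool.rec (fun _ => Nat) (clsTab_s_6_9 c) (clsTab_s_9_13 c) (Nat.ble 9 c)
noncomputable def clsTab_s_0_13 (c : Nat) : Nat := @Bool.rec (fun _ => Nat) (clsTab_s_0_6 c) (clsTab_s_6_13 c) (Nat.ble 6 c)
noncomputable def clsTab (i : Nat) : Nat := rdw 16 65535 (clsTab_s_0_13 (Nat.shiftRight i 12)) (Nat.land i 4095)
noncomputable def oparTab_s_0_2 (c : Nat) : Nat := @Bool.rec (fun _ => Nat) (oparTab_0) (oparTab_1) (Nat.ble 1 c)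
noncomputable def oparTab_s_3_5 (c : Nat) : Nat := @Bool.rec (fun _ => Nat) (oparTab_3) (oparTab_4) (Nat.ble 4 c)
noncomputable def oparTab_s_2_5 (c : Nat) : Nat := @Bool.rec (fun _ => Nat) (oparTab_2) (oparTab_s_3_5 c) (Nat.ble 3 c)
noncomputable def oparTab_s_0_5 (c : Nat) : Nat := @Bool.rec (fun _ => Nat) (oparTab_s_0_2 c) (oparTab_s_2_5 c) (Nat.ble 2 c)
noncomputable def oparTab_s_5_7 (c : Nat) : Nat := @Bool.rec (fun _ => Nat) (oparTab_5) (oparTab_6) (Nat.ble 6 c)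
noncomputable def oparTab_s_8_10 (c : Nat) : Nat := @Bool.rec (fun _ => Nat) (oparTab_8) (oparTab_9) (Nat.ble 9 c)
noncomputable def oparTab_s_7_10 (c : Nat) : Nat := @Bool.rec (fun _ => Nat) (oparTab_7) (oparTab_s_8_10 c) (Nat.ble 8 c)
noncomputable def oparTab_s_5_10 (c : Nat) : Nat := @Bool.rec (fun _ => Nat) (oparTab_s_5_7 c) (oparTab_s_7_10 c) (Nat.ble 7 c)
noncomputable def oparTab_s_0_10 (c : Nat) : Nat := @Bool.rec (fun _ => Nat) (oparTab_s_0_5 c) (oparTab_s_5_10 c) (Nat.ble 5 c)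
noncomputable def oparTab (i : Nat) : Nat := rdw 16 65535 (oparTab_s_0_10 (Nat.shiftRight i 12)) (Nat.land i 4095)
noncomputable def olabTab_s_0_2 (c : Nat) : Nat := @Bool.rec (fun _ => Nat) (olabTab_0) (olabTab_1) (Nat.ble 1 c)
noncomputable def olabTab (i : Nat) : Nat := rdw 2 3 (olabTab_s_0_2 (Nat.shiftRight i 15)) (Nat.land i 32767)
noncomputable def srcF (t : Nat) : Nat := Nat.land (Atab t) 65535
noncomputable def tgtF (t : Nat) : Nat := Nat.land (Nat.shiftRight (Atab t) 16) 65535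
noncomputable def ltF (t : Nat) : Nat := Nat.shiftRight (Atab t) 32
noncomputable def rhoF (t : Nat) : Nat := Nat.land (Btab (Nat.sub t 51745)) 127
noncomputable def rotF (t : Nat) : Nat := Nat.land (Nat.shiftRight (Btab (Nat.sub t 51745)) 7) 31
noncomputable def lenF (t : Nat) : Nat := Nat.land (Nat.shiftRight (Btab (Nat.sub t 51745)) 12) 31
noncomputable def offF (t : Nat) : Nat := Nat.shiftRight (Btab (Nat.sub t 51745)) 17
noncomputable def pfF (j : Nat) : Nat := Nat.shiftRight (Ptab j) 1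
noncomputable def pdF (j : Nat) : Nat := Nat.land (Ptab j) 1
noncomputable def tblF (i x : Nat) : Nat := @Bool.rec (fun _ => Nat) (@Bool.rec (fun _ => Nat) (@Bool.rec (fun _ => Nat) (@Bool.rec (fun _ => Nat) (col0 i) (col1 i) (Nat.ble 1 x)) (@Bool.rec (fun _ => Nat) (col2 i) (col3 i) (Nat.ble 3 x)) (Nat.ble 2 x)) (@Bool.rec (fun _ => Nat) (@Bool.rec (fun _ => Nat) (col4 i) (col5 i) (Nat.ble 5 x)) (@Bool.rec (fun _ => Nat) (col6 i) (@Bool.rec (fun _ => Nat) (col7 i) (col8 i) (Nat.ble 8 x)) (Nat.ble 7 x)) (Nat.ble 6 x)) (Nat.ble 4 x)) (@Bool.rec (fun _ => Nat) (@Bool.rec (fun _ => Nat) (@Bool.rec (fun _ => Nat) (col9 i) (col10 i) (Nat.ble 10 x)) (@Bool.rec (fun _ => Nat) (col11 i) (col12 i) (Nat.ble 12 x)) (Nat.ble 11 x)) (@Bool.rec (fun _ => Nat) (@Bool.rec (fun _ => Nat) (col13 i) (col14 i) (Nat.ble 14 x)) (@Bool.rec (fun _ => Nat) (col15 i) (@Bool.rec (fun _ => Nat) (col16 i) (col17 i) (Nat.ble 17 x)) (Nat.ble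 16 x)) (Nat.ble 15 x)) (Nat.ble 13 x)) (Nat.ble 9 x)
noncomputable def finE (i x : Nat) : Nat := finTab (Nat.add (Nat.mul i 18) x)
noncomputable def finFF (i x : Nat) : Nat := Nat.shiftRight (finE i x) 1
noncomputable def finDF (i x : Nat) : Nat := Nat.land (finE i x) 1

noncomputable def D : Log :=
  { k := 18, inv := invE 18 PSC3J3p3.invR, nR := 120, rBase := rBtab, rLen := rLtab, RR := RRtab,
    M := 51741, nB := 4, F := 388481, src := srcF, lt := ltF, tgt := tgtF, rho := rhoF, rot := rotF,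
    off := offF, len := lenF, pf := pfF, pd := pdF }

noncomputable def T : Tab :=
  { N := 36936, nameOf := nameTab, tbl := tblF, finF := finFF, finD := finDF, cls := clsTab }

def subs : List (List Nat) := [
  [0],
  [2] ]

def rw0 : List Nat := [0, 0, 0, 0, 0, 0, 0, 0, 0, 0, 0, 0, 0, 0, 0, 0, 0]
def rw1 : List Nat := [2, 2]
def rw2 : List Nat := [4, 4, 4, 4, 4, 4, 4, 4]
def rw3 : List Nat := [7, 2, 4, 2, 4, 4, 2, 4, 2, 5, 2, 5, 5, 2, 5]
def rw4 : List Nat := [9, 0, 2, 4, 4, 2, 4, 0, 4, 2, 4, 4, 2, 4, 1, 4]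
def rw5 : List Nat := [11, 0, 0, 4, 4, 2, 4, 4, 2, 4, 0, 4, 2, 4, 4, 2]
def rw6 : List Nat := [13, 0, 0, 2, 0, 5, 5, 2, 4, 0, 2, 0, 2, 1, 2, 4, 2]
def rw7 : List Nat := [15, 0, 0, 2, 0, 5, 5, 2, 4, 2, 0, 2, 1, 2, 1, 4, 2]
def rw8 : List Nat := [17, 0, 2, 0, 2, 5, 2, 0, 5, 2, 0, 5, 2, 0, 5, 2, 5]
def rw9 : List Nat := [6, 6, 6]
def rw10 : List Nat := [8, 8, 8]
def rw11 : List Nat := [10, 10, 10]
def rw12 : List Nat := [12, 12, 12]
def rw13 : List Nat := [14, 14, 14]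
def rw14 : List Nat := [16, 16, 16]
def rw15 : List Nat := [6, 0, 7, 1]
def rw16 : List Nat := [6, 2, 7, 3]
def rw17 : List Nat := [6, 4, 7, 5]
def rw18 : List Nat := [8, 0, 9, 1]
def rw19 : List Nat := [8, 2, 9, 3]
def rw20 : List Nat := [8, 4, 9, 5]
def rw21 : List Nat := [10, 0, 11, 1]
def rw22 : List Nat := [10, 2, 11, 3]
def rw23 : List Nat := [10, 4, 11, 5]
def rw24 : List Nat := [12, 0, 13, 1]
def rw25 : List Nat := [12, 2, 13, 3]
def rw26 : List Nat := [12, 4, 13, 5]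
def rw27 : List Nat := [14, 0, 15, 1]
def rw28 : List Nat := [14, 2, 15, 3]
def rw29 : List Nat := [14, 4, 15, 5]
def rw30 : List Nat := [16, 0, 17, 1]
def rw31 : List Nat := [16, 2, 17, 3]
def rw32 : List Nat := [16, 4, 17, 5]
def rw33 : List Nat := [0, 0, 0, 0, 0, 0, 0, 0, 0, 0, 0, 0, 0, 0, 0, 0, 0]
def rw34 : List Nat := [2, 2]
def rw35 : List Nat := [0, 0, 0, 2, 1, 2, 0, 2, 0, 0, 0, 2, 1, 2, 0, 2]
def rw36 : List Nat := [0, 0, 0, 0, 0, 2, 0, 0, 0, 0, 0, 2, 0, 0, 0, 0, 0, 2]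
def rw37 : List Nat := [4, 0, 5, 1, 1]
def rw38 : List Nat := [4, 4, 2, 5, 5, 1, 1, 3, 1, 3, 1, 3, 0, 0, 0]
def rw39 : List Nat := [4, 4, 0, 2, 0, 2, 0, 2, 5, 5, 1, 3, 1, 1, 1, 1, 1, 3]
def realLit : List (List Nat) := [rw0, rw1, rw2, rw3, rw4, rw5, rw6, rw7, rw8, rw9, rw10, rw11, rw12, rw13, rw14, rw15, rw16, rw17, rw18, rw19, rw20, rw21, rw22, rw23, rw24, rw25, rw26, rw27, rw28, rw29, rw30, rw31, rw32, rw33, rw34, rw35, rw36, rw37, rw38, rw39]
noncomputable def actR0 (i : Nat) : Nat := col1 (col1 (col1 (col1 (col1 (col1 (col1 (col1 (col1 (col1 (col1 (col1 (col1 (col1 (col1 (col1 (col1 (i)))))))))))))))))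
theorem actR0_eq (i : Nat) : actR0 i = Tab.act T D rw0 i := rfl
noncomputable def actR1 (i : Nat) : Nat := col3 (col3 (i))
theorem actR1_eq (i : Nat) : actR1 i = Tab.act T D rw1 i := rfl
noncomputable def actR2 (i : Nat) : Nat := col5 (col5 (col5 (col5 (col5 (col5 (col5 (col5 (i))))))))
theorem actR2_eq (i : Nat) : actR2 i = Tab.act T D rw2 i := rfl
noncomputable def actR3 (i : Nat) : Nat := col6 (col3 (col5 (col3 (col5 (col5 (col3 (col5 (col3 (col4 (col3 (col4 (col4 (col3 (col4 (i)))))))))))))))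
theorem actR3_eq (i : Nat) : actR3 i = Tab.act T D rw3 i := rfl
noncomputable def actR4 (i : Nat) : Nat := col8 (col1 (col3 (col5 (col5 (col3 (col5 (col1 (col5 (col3 (col5 (col5 (col3 (col5 (col0 (col5 (i))))))))))))))))
theorem actR4_eq (i : Nat) : actR4 i = Tab.act T D rw4 i := rfl
noncomputable def actR5 (i : Nat) : Nat := col10 (col1 (col1 (col5 (col5 (col3 (col5 (col5 (col3 (col5 (col1 (col5 (col3 (col5 (col5 (col3 (i))))))))))))))))
theorem actR5_eq (i : Nat) : actR5 i = Tab.act T D rw5 i := rfl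
noncomputable def actR6 (i : Nat) : Nat := col12 (col1 (col1 (col3 (col1 (col4 (col4 (col3 (col5 (col1 (col3 (col1 (col3 (col0 (col3 (col5 (col3 (i)))))))))))))))))
theorem actR6_eq (i : Nat) : actR6 i = Tab.act T D rw6 i := rfl
noncomputable def actR7 (i : Nat) : Nat := col14 (col1 (col1 (col3 (col1 (col4 (col4 (col3 (col5 (col3 (col1 (col3 (col0 (col3 (col0 (col5 (col3 (i)))))))))))))))))
theorem actR7_eq (i : Nat) : actR7 i = Tab.act T D rw7 i := rfl
noncomputable def actR8 (i : Nat) : Nat := col16 (col1 (col3 (col1 (col3 (col4 (col3 (col1 (col4 (col3 (col1 (col4 (col3 (col1 (col4 (col3 (col4 (i)))))))))))))))))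
theorem actR8_eq (i : Nat) : actR8 i = Tab.act T D rw8 i := rfl
noncomputable def actR9 (i : Nat) : Nat := col7 (col7 (col7 (i)))
theorem actR9_eq (i : Nat) : actR9 i = Tab.act T D rw9 i := rfl
noncomputable def actR10 (i : Nat) : Nat := col9 (col9 (col9 (i)))
theorem actR10_eq (i : Nat) : actR10 i = Tab.act T D rw10 i := rfl
noncomputable def actR11 (i : Nat) : Nat := col11 (col11 (col11 (i)))
theorem actR11_eq (i : Nat) : actR11 i = Tab.act T D rw11 i := rfl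
noncomputable def actR12 (i : Nat) : Nat := col13 (col13 (col13 (i)))
theorem actR12_eq (i : Nat) : actR12 i = Tab.act T D rw12 i := rfl
noncomputable def actR13 (i : Nat) : Nat := col15 (col15 (col15 (i)))
theorem actR13_eq (i : Nat) : actR13 i = Tab.act T D rw13 i := rfl
noncomputable def actR14 (i : Nat) : Nat := col17 (col17 (col17 (i)))
theorem actR14_eq (i : Nat) : actR14 i = Tab.act T D rw14 i := rfl
noncomputable def actR15 (i : Nat) : Nat := col7 (col1 (col6 (col0 (i))))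
theorem actR15_eq (i : Nat) : actR15 i = Tab.act T D rw15 i := rfl
noncomputable def actR16 (i : Nat) : Nat := col7 (col3 (col6 (col2 (i))))
theorem actR16_eq (i : Nat) : actR16 i = Tab.act T D rw16 i := rfl
noncomputable def actR17 (i : Nat) : Nat := col7 (col5 (col6 (col4 (i))))
theorem actR17_eq (i : Nat) : actR17 i = Tab.act T D rw17 i := rfl
noncomputable def actR18 (i : Nat) : Nat := col9 (col1 (col8 (col0 (i))))
theorem actR18_eq (i : Nat) : actR18 i = Tab.act T D rw18 i := rfl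
noncomputable def actR19 (i : Nat) : Nat := col9 (col3 (col8 (col2 (i))))
theorem actR19_eq (i : Nat) : actR19 i = Tab.act T D rw19 i := rfl
noncomputable def actR20 (i : Nat) : Nat := col9 (col5 (col8 (col4 (i))))
theorem actR20_eq (i : Nat) : actR20 i = Tab.act T D rw20 i := rfl
noncomputable def actR21 (i : Nat) : Nat := col11 (col1 (col10 (col0 (i))))
theorem actR21_eq (i : Nat) : actR21 i = Tab.act T D rw21 i := rfl
noncomputable def actR22 (i : Nat) : Nat := col11 (col3 (col10 (col2 (i))))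
theorem actR22_eq (i : Nat) : actR22 i = Tab.act T D rw22 i := rfl
noncomputable def actR23 (i : Nat) : Nat := col11 (col5 (col10 (col4 (i))))
theorem actR23_eq (i : Nat) : actR23 i = Tab.act T D rw23 i := rfl
noncomputable def actR24 (i : Nat) : Nat := col13 (col1 (col12 (col0 (i))))
theorem actR24_eq (i : Nat) : actR24 i = Tab.act T D rw24 i := rfl
noncomputable def actR25 (i : Nat) : Nat := col13 (col3 (col12 (col2 (i))))
theorem actR25_eq (i : Nat) : actR25 i = Tab.act T D rw25 i := rfl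
noncomputable def actR26 (i : Nat) : Nat := col13 (col5 (col12 (col4 (i))))
theorem actR26_eq (i : Nat) : actR26 i = Tab.act T D rw26 i := rfl
noncomputable def actR27 (i : Nat) : Nat := col15 (col1 (col14 (col0 (i))))
theorem actR27_eq (i : Nat) : actR27 i = Tab.act T D rw27 i := rfl
noncomputable def actR28 (i : Nat) : Nat := col15 (col3 (col14 (col2 (i))))
theorem actR28_eq (i : Nat) : actR28 i = Tab.act T D rw28 i := rfl
noncomputable def actR29 (i : Nat) : Nat := col15 (col5 (col14 (col4 (i))))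
theorem actR29_eq (i : Nat) : actR29 i = Tab.act T D rw29 i := rfl
noncomputable def actR30 (i : Nat) : Nat := col17 (col1 (col16 (col0 (i))))
theorem actR30_eq (i : Nat) : actR30 i = Tab.act T D rw30 i := rfl
noncomputable def actR31 (i : Nat) : Nat := col17 (col3 (col16 (col2 (i))))
theorem actR31_eq (i : Nat) : actR31 i = Tab.act T D rw31 i := rfl
noncomputable def actR32 (i : Nat) : Nat := col17 (col5 (col16 (col4 (i))))
theorem actR32_eq (i : Nat) : actR32 i = Tab.act T D rw32 i := rfl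
noncomputable def actR33 (i : Nat) : Nat := col1 (col1 (col1 (col1 (col1 (col1 (col1 (col1 (col1 (col1 (col1 (col1 (col1 (col1 (col1 (col1 (col1 (i)))))))))))))))))
theorem actR33_eq (i : Nat) : actR33 i = Tab.act T D rw33 i := rfl
noncomputable def actR34 (i : Nat) : Nat := col3 (col3 (i))
theorem actR34_eq (i : Nat) : actR34 i = Tab.act T D rw34 i := rfl
noncomputable def actR35 (i : Nat) : Nat := col1 (col1 (col1 (col3 (col0 (col3 (col1 (col3 (col1 (col1 (col1 (col3 (col0 (col3 (col1 (col3 (i))))))))))))))))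
theorem actR35_eq (i : Nat) : actR35 i = Tab.act T D rw35 i := rfl
noncomputable def actR36 (i : Nat) : Nat := col1 (col1 (col1 (col1 (col1 (col3 (col1 (col1 (col1 (col1 (col1 (col3 (col1 (col1 (col1 (col1 (col1 (col3 (i))))))))))))))))))
theorem actR36_eq (i : Nat) : actR36 i = Tab.act T D rw36 i := rfl
noncomputable def actR37 (i : Nat) : Nat := col5 (col1 (col4 (col0 (col0 (i)))))
theorem actR37_eq (i : Nat) : actR37 i = Tab.act T D rw37 i := rfl
noncomputable def actR38 (i : Nat) : Nat := col5 (col5 (col3 (col4 (col4 (col0 (col0 (col2 (col0 (col2 (col0 (col2 (col1 (col1 (col1 (i)))))))))))))))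
theorem actR38_eq (i : Nat) : actR38 i = Tab.act T D rw38 i := rfl
noncomputable def actR39 (i : Nat) : Nat := col5 (col5 (col1 (col3 (col1 (col3 (col1 (col3 (col4 (col4 (col0 (col2 (col0 (col0 (col0 (col0 (col0 (col2 (i))))))))))))))))))
theorem actR39_eq (i : Nat) : actR39 i = Tab.act T D rw39 i := rfl

end Cfsg.Agent.Lib.Helper4.TCD.SC3J3p3A
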