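import Cfsg.Agent.Lib.Helper4.TCD_SC3J3p3A_Acc

namespace Cfsg.Agent.Lib.Helper4.TCD.SC3J3p3A

open Cfsg.Agent.Lib.Helper4.TC

set_option maxRecDepth 100000
set_option Elab.async false

theorem c_zero : D.zeroOK = true := by decide +kernel
theorem c_base : allBelow D.baseOK 4 = true := by decide +kernel
theorem c_let : allBelow D.letOK 18 = true := by decide +kernel
theorem c_cls0 : T.cls 0 = 0 := by decide +kernel
theorem c_name0 : T.nameOf 0 = 0 := by decide +kernel
theorem c_tab : D.relTabOK 0 (baseRels 18 PSC3J3p3.invR PSC3J3p3.P.real subs ++ (baseRels 18 PSC3J3p3.invR PSC3J3p3.P.real subs).map (invWord D.inv)) = true := by decide +kernel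
theorem c_real : PSC3J3p3.P.real = realLit := by decide +kernel
theorem c_subfix : subs.all (fun u => Nat.beq (Tab.act T D u 0) 0) = true := by decide +kernel
theorem c_subs : subs.all (fun u => u.all (fun x => Nat.ble (Nat.succ x) 18)) = true := by decide +kernel
theorem c_names_0 : allRange D.nameOK 1 51740 = true := by decide +kernel
theorem c_cls_0 : allRange (T.clsOK D) 1 15000 = true := by decide +kernel
theorem c_cls_1 : allRange (T.clsOK D) 15001 15000 = true := by decide +kernel
theorem c_cls_2 : allRange (T.clsOK D) 30001 15000 = true := by decide +kernel
theorem c_cls_3 : allRange (T.clsOK D) 45001 6740 = true := by decide +kernel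
theorem c_rep_0 : allRange (T.repOK D) 0 30000 = true := by decide +kernel
theorem c_rep_1 : allRange (T.repOK D) 30000 6936 = true := by decide +kernel
theorem c_rel_0 : allRange D.relOK 51745 3521 = true := by decide +kernel
theorem c_rel_1 : allRange D.relOK 55266 3478 = true := by decide +kernel
theorem c_rel_2 : allRange D.relOK 58744 3446 = true := by decide +kernel
theorem c_rel_3 : allRange D.relOK 62190 3426 = true := by decide +kernel
theorem c_rel_4 : allRange D.relOK 65616 3479 = true := by decide +kernel
theorem c_rel_5 : allRange D.relOK 69095 3359 = true := by decide +kernel
theorem c_rel_6 : allRange D.relOK 72454 3504 = true := by decide +kernel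
theorem c_rel_7 : allRange D.relOK 75958 3296 = true := by decide +kernel
theorem c_rel_8 : allRange D.relOK 79254 3233 = true := by decide +kernel
theorem c_rel_9 : allRange D.relOK 82487 3204 = true := by decide +kernel
theorem c_rel_10 : allRange D.relOK 85691 3318 = true := by decide +kernel
theorem c_rel_11 : allRange D.relOK 89009 3477 = true := by decide +kernel
theorem c_rel_12 : allRange D.relOK 92486 3150 = true := by decide +kernel
theorem c_rel_13 : allRange D.relOK 95636 3337 = true := by decide +kernel
theorem c_rel_14 : allRange D.relOK 98973 3309 = true := by decide +kernel
theorem c_rel_15 : allRange D.relOK 102282 3292 = true := by decide +kernel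
theorem c_rel_16 : allRange D.relOK 105574 3344 = true := by decide +kernel
theorem c_rel_17 : allRange D.relOK 108918 3352 = true := by decide +kernel
theorem c_rel_18 : allRange D.relOK 112270 3262 = true := by decide +kernel
theorem c_rel_19 : allRange D.relOK 115532 3360 = true := by decide +kernel
theorem c_rel_20 : allRange D.relOK 118892 3032 = true := by decide +kernel
theorem c_rel_21 : allRange D.relOK 121924 3137 = true := by decide +kernel
theorem c_rel_22 : allRange D.relOK 125061 3303 = true := by decide +kernel
theorem c_rel_23 : allRange D.relOK 128364 3338 = true := by decide +kernel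
theorem c_rel_24 : allRange D.relOK 131702 2758 = true := by decide +kernel
theorem c_rel_25 : allRange D.relOK 134460 1704 = true := by decide +kernel
theorem c_rel_26 : allRange D.relOK 136164 1813 = true := by decide +kernel
theorem c_rel_27 : allRange D.relOK 137977 2818 = true := by decide +kernel
theorem c_rel_28 : allRange D.relOK 140795 2880 = true := by decide +kernel
theorem c_rel_29 : allRange D.relOK 143675 2871 = true := by decide +kernel
theorem c_rel_30 : allRange D.relOK 146546 2928 = true := by decide +kernel
theorem c_rel_31 : allRange D.relOK 149474 2835 = true := by decide +kernel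
theorem c_rel_32 : allRange D.relOK 152309 2600 = true := by decide +kernel
theorem c_rel_33 : allRange D.relOK 154909 2800 = true := by decide +kernel
theorem c_rel_34 : allRange D.relOK 157709 2873 = true := by decide +kernel
theorem c_rel_35 : allRange D.relOK 160582 2812 = true := by decide +kernel
theorem c_rel_36 : allRange D.relOK 163394 2853 = true := by decide +kernel
theorem c_rel_37 : allRange D.relOK 166247 2826 = true := by decide +kernel
theorem c_rel_38 : allRange D.relOK 169073 2800 = true := by decide +kernel
theorem c_rel_39 : allRange D.relOK 171873 2827 = true := by decide +kernel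
theorem c_rel_40 : allRange D.relOK 174700 2935 = true := by decide +kernel
theorem c_rel_41 : allRange D.relOK 177635 2891 = true := by decide +kernel
theorem c_rel_42 : allRange D.relOK 180526 2683 = true := by decide +kernel
theorem c_rel_43 : allRange D.relOK 183209 2754 = true := by decide +kernel
theorem c_rel_44 : allRange D.relOK 185963 2790 = true := by decide +kernel
theorem c_rel_45 : allRange D.relOK 188753 2866 = true := by decide +kernel
theorem c_rel_46 : allRange D.relOK 191619 2594 = true := by decide +kernel
theorem c_rel_47 : allRange D.relOK 194213 2600 = true := by decide +kernel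
theorem c_rel_48 : allRange D.relOK 196813 2256 = true := by decide +kernel
theorem c_rel_49 : allRange D.relOK 199069 2690 = true := by decide +kernel
theorem c_rel_50 : allRange D.relOK 201759 2841 = true := by decide +kernel
theorem c_rel_51 : allRange D.relOK 204600 2593 = true := by decide +kernel
theorem c_rel_52 : allRange D.relOK 207193 2778 = true := by decide +kernel
theorem c_rel_53 : allRange D.relOK 209971 2572 = true := by decide +kernel
theorem c_rel_54 : allRange D.relOK 212543 2514 = true := by decide +kernel
theorem c_rel_55 : allRange D.relOK 215057 2598 = true := by decide +kernel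
theorem c_rel_56 : allRange D.relOK 217655 2439 = true := by decide +kernel
theorem c_rel_57 : allRange D.relOK 220094 2568 = true := by decide +kernel
theorem c_rel_58 : allRange D.relOK 222662 2555 = true := by decide +kernel
theorem c_rel_59 : allRange D.relOK 225217 2468 = true := by decide +kernel
theorem c_rel_60 : allRange D.relOK 227685 2465 = true := by decide +kernel
theorem c_rel_61 : allRange D.relOK 230150 2465 = true := by decide +kernel
theorem c_rel_62 : allRange D.relOK 232615 2475 = true := by decide +kernel
theorem c_rel_63 : allRange D.relOK 235090 2532 = true := by decide +kernel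
theorem c_rel_64 : allRange D.relOK 237622 2287 = true := by decide +kernel
theorem c_rel_65 : allRange D.relOK 239909 2417 = true := by decide +kernel
theorem c_rel_66 : allRange D.relOK 242326 2534 = true := by decide +kernel
theorem c_rel_67 : allRange D.relOK 244860 2341 = true := by decide +kernel
theorem c_rel_68 : allRange D.relOK 247201 2347 = true := by decide +kernel
theorem c_rel_69 : allRange D.relOK 249548 2364 = true := by decide +kernel
theorem c_rel_70 : allRange D.relOK 251912 2544 = true := by decide +kernel
theorem c_rel_71 : allRange D.relOK 254456 2476 = true := by decide +kernel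
theorem c_rel_72 : allRange D.relOK 256932 2561 = true := by decide +kernel
theorem c_rel_73 : allRange D.relOK 259493 2384 = true := by decide +kernel
theorem c_rel_74 : allRange D.relOK 261877 2468 = true := by decide +kernel
theorem c_rel_75 : allRange D.relOK 264345 2391 = true := by decide +kernel
theorem c_rel_76 : allRange D.relOK 266736 2376 = true := by decide +kernel
theorem c_rel_77 : allRange D.relOK 269112 2396 = true := by decide +kernel
theorem c_rel_78 : allRange D.relOK 271508 2389 = true := by decide +kernel
theorem c_rel_79 : allRange D.relOK 273897 2274 = true := by decide +kernel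
theorem c_rel_80 : allRange D.relOK 276171 2288 = true := by decide +kernel
theorem c_rel_81 : allRange D.relOK 278459 2256 = true := by decide +kernel
theorem c_rel_82 : allRange D.relOK 280715 2267 = true := by decide +kernel
theorem c_rel_83 : allRange D.relOK 282982 2137 = true := by decide +kernel
theorem c_rel_84 : allRange D.relOK 285119 2354 = true := by decide +kernel
theorem c_rel_85 : allRange D.relOK 287473 2259 = true := by decide +kernel
theorem c_rel_86 : allRange D.relOK 289732 2172 = true := by decide +kernel
theorem c_rel_87 : allRange D.relOK 291904 2153 = true := by decide +kernel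

end Cfsg.Agent.Lib.Helper4.TCD.SC3J3p3A
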