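import Cfsg.Agent.Lib.Helper4.TC7
import Cfsg.Agent.Lib.Helper4.TCP_SC3McLp2
import Cfsg.Agent.Lib.Helper4.TCD_SC3McLp2A_D0
import Cfsg.Agent.Lib.Helper4.TCD_SC3McLp2A_D1
import Cfsg.Agent.Lib.Helper4.TCD_SC3McLp2A_D2
import Cfsg.Agent.Lib.Helper4.TCD_SC3McLp2A_D3
import Cfsg.Agent.Lib.Helper4.TCD_SC3McLp2A_D4
import Cfsg.Agent.Lib.Helper4.TCD_SC3McLp2A_D5
import Cfsg.Agent.Lib.Helper4.TCD_SC3McLp2A_D6
import Cfsg.Agent.Lib.Helper4.TCD_SC3McLp2A_D7
import Cfsg.Agent.Lib.Helper4.TCD_SC3McLp2A_D8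
import Cfsg.Agent.Lib.Helper4.TCD_SC3McLp2A_D9
import Cfsg.Agent.Lib.Helper4.TCD_SC3McLp2A_D10
import Cfsg.Agent.Lib.Helper4.TCD_SC3McLp2A_D11
import Cfsg.Agent.Lib.Helper4.TCD_SC3McLp2A_D12
import Cfsg.Agent.Lib.Helper4.TCD_SC3McLp2A_D13
import Cfsg.Agent.Lib.Helper4.TCD_SC3McLp2A_D14
import Cfsg.Agent.Lib.Helper4.TCD_SC3McLp2A_D15
import Cfsg.Agent.Lib.Helper4.TCD_SC3McLp2A_D16
import Cfsg.Agent.Lib.Helper4.TCD_SC3McLp2A_D17
import Cfsg.Agent.Lib.Helper4.TCD_SC3McLp2A_D18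
import Cfsg.Agent.Lib.Helper4.TCD_SC3McLp2A_D19
import Cfsg.Agent.Lib.Helper4.TCD_SC3McLp2A_D20
import Cfsg.Agent.Lib.Helper4.TCD_SC3McLp2A_D21
import Cfsg.Agent.Lib.Helper4.TCD_SC3McLp2A_D22
import Cfsg.Agent.Lib.Helper4.TCD_SC3McLp2A_D23
import Cfsg.Agent.Lib.Helper4.TCD_SC3McLp2A_D24
import Cfsg.Agent.Lib.Helper4.TCD_SC3McLp2A_D25
import Cfsg.Agent.Lib.Helper4.TCD_SC3McLp2A_D26
import Cfsg.Agent.Lib.Helper4.TCD_SC3McLp2A_D27
import Cfsg.Agent.Lib.Helper4.TCD_SC3McLp2A_D28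
import Cfsg.Agent.Lib.Helper4.TCD_SC3McLp2A_D29
import Cfsg.Agent.Lib.Helper4.TCD_SC3McLp2A_D30
import Cfsg.Agent.Lib.Helper4.TCD_SC3McLp2A_D31
import Cfsg.Agent.Lib.Helper4.TCD_SC3McLp2A_D32
import Cfsg.Agent.Lib.Helper4.TCD_SC3McLp2A_D33
import Cfsg.Agent.Lib.Helper4.TCD_SC3McLp2A_D34
import Cfsg.Agent.Lib.Helper4.TCD_SC3McLp2A_D35
import Cfsg.Agent.Lib.Helper4.TCD_SC3McLp2A_D36
import Cfsg.Agent.Lib.Helper4.TCD_SC3McLp2A_D37
import Cfsg.Agent.Lib.Helper4.TCD_SC3McLp2A_D38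
import Cfsg.Agent.Lib.Helper4.TCD_SC3McLp2A_D39
import Cfsg.Agent.Lib.Helper4.TCD_SC3McLp2A_D40
import Cfsg.Agent.Lib.Helper4.TCD_SC3McLp2A_D41
import Cfsg.Agent.Lib.Helper4.TCD_SC3McLp2A_D42
import Cfsg.Agent.Lib.Helper4.TCD_SC3McLp2A_D43
import Cfsg.Agent.Lib.Helper4.TCD_SC3McLp2A_D44
import Cfsg.Agent.Lib.Helper4.TCD_SC3McLp2A_D45
import Cfsg.Agent.Lib.Helper4.TCD_SC3McLp2A_D46
import Cfsg.Agent.Lib.Helper4.TCD_SC3McLp2A_D47
import Cfsg.Agent.Lib.Helper4.TCD_SC3McLp2A_D48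
import Cfsg.Agent.Lib.Helper4.TCD_SC3McLp2A_D49
import Cfsg.Agent.Lib.Helper4.TCD_SC3McLp2A_D50
import Cfsg.Agent.Lib.Helper4.TCD_SC3McLp2A_D51
import Cfsg.Agent.Lib.Helper4.TCD_SC3McLp2A_D52
import Cfsg.Agent.Lib.Helper4.TCD_SC3McLp2A_D53
import Cfsg.Agent.Lib.Helper4.TCD_SC3McLp2A_D54
import Cfsg.Agent.Lib.Helper4.TCD_SC3McLp2A_D55
import Cfsg.Agent.Lib.Helper4.TCD_SC3McLp2A_D56
import Cfsg.Agent.Lib.Helper4.TCD_SC3McLp2A_D57
import Cfsg.Agent.Lib.Helper4.TCD_SC3McLp2A_D58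

namespace Cfsg.Agent.Lib.Helper4.TCD.SC3McLp2A

open Cfsg.Agent.Lib.Helper4.TC

set_option maxRecDepth 100000

noncomputable def Atab_s_0_2 (c : Nat) : Nat := @Bool.rec (fun _ => Nat) (Atab_0) (Atab_1) (Nat.ble 1 c)
noncomputable def Atab_s_3_5 (c : Nat) : Nat := @Bool.rec (fun _ => Nat) (Atab_3) (Atab_4) (Nat.ble 4 c)
noncomputable def Atab_s_2_5 (c : Nat) : Nat := @Bool.rec (fun _ => Nat) (Atab_2) (Atab_s_3_5 c) (Nat.ble 3 c)
noncomputable def Atab_s_0_5 (c : Nat) : Nat := @Bool.rec (fun _ => Nat) (Atab_s_0_2 c) (Atab_s_2_5 c) (Nat.ble 2 c)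
noncomputable def Atab_s_6_8 (c : Nat) : Nat := @Bool.rec (fun _ => Nat) (Atab_6) (Atab_7) (Nat.ble 7 c)
noncomputable def Atab_s_5_8 (c : Nat) : Nat := @Bool.rec (fun _ => Nat) (Atab_5) (Atab_s_6_8 c) (Nat.ble 6 c)
noncomputable def Atab_s_9_11 (c : Nat) : Nat := @Bool.rec (fun _ => Nat) (Atab_9) (Atab_10) (Nat.ble 10 c)
noncomputable def Atab_s_8_11 (c : Nat) : Nat := @Bool.rec (fun _ => Nat) (Atab_8) (Atab_s_9_11 c) (Nat.ble 9 c)
noncomputable def Atab_s_5_11 (c : Nat) : Nat := @Bool.rec (fun _ => Nat) (Atab_s_5_8 c) (Atab_s_8_11 c) (Nat.ble 8 c)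
noncomputable def Atab_s_0_11 (c : Nat) : Nat := @Bool.rec (fun _ => Nat) (Atab_s_0_5 c) (Atab_s_5_11 c) (Nat.ble 5 c)
noncomputable def Atab_s_12_14 (c : Nat) : Nat := @Bool.rec (fun _ => Nat) (Atab_12) (Atab_13) (Nat.ble 13 c)
noncomputable def Atab_s_11_14 (c : Nat) : Nat := @Bool.rec (fun _ => Nat) (Atab_11) (Atab_s_12_14 c) (Nat.ble 12 c)
noncomputable def Atab_s_15_17 (c : Nat) : Nat := @Bool.rec (fun _ => Nat) (Atab_15) (Atab_16) (Nat.ble 16 c)
noncomputable def Atab_s_14_17 (c : Nat) : Nat := @Bool.rec (fun _ => Nat) (Atab_14) (Atab_s_15_17 c) (Nat.ble 15 c)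
noncomputable def Atab_s_11_17 (c : Nat) : Nat := @Bool.rec (fun _ => Nat) (Atab_s_11_14 c) (Atab_s_14_17 c) (Nat.ble 14 c)
noncomputable def Atab_s_18_20 (c : Nat) : Nat := @Bool.rec (fun _ => Nat) (Atab_18) (Atab_19) (Nat.ble 19 c)
noncomputable def Atab_s_17_20 (c : Nat) : Nat := @Bool.rec (fun _ => Nat) (Atab_17) (Atab_s_18_20 c) (Nat.ble 18 c)
noncomputable def Atab_s_21_23 (c : Nat) : Nat := @Bool.rec (fun _ => Nat) (Atab_21) (Atab_22) (Nat.ble 22 c)
noncomputable def Atab_s_20_23 (c : Nat) : Nat := @Bool.rec (fun _ => Nat) (Atab_20) (Atab_s_21_23 c) (Nat.ble 21 c)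
noncomputable def Atab_s_17_23 (c : Nat) : Nat := @Bool.rec (fun _ => Nat) (Atab_s_17_20 c) (Atab_s_20_23 c) (Nat.ble 20 c)
noncomputable def Atab_s_11_23 (c : Nat) : Nat := @Bool.rec (fun _ => Nat) (Atab_s_11_17 c) (Atab_s_17_23 c) (Nat.ble 17 c)
noncomputable def Atab_s_0_23 (c : Nat) : Nat := @Bool.rec (fun _ => Nat) (Atab_s_0_11 c) (Atab_s_11_23 c) (Nat.ble 11 c)
noncomputable def Atab_s_24_26 (c : Nat) : Nat := @Bool.rec (fun _ => Nat) (Atab_24) (Atab_25) (Nat.ble 25 c)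
noncomputable def Atab_s_23_26 (c : Nat) : Nat := @Bool.rec (fun _ => Nat) (Atab_23) (Atab_s_24_26 c) (Nat.ble 24 c)
noncomputable def Atab_s_27_29 (c : Nat) : Nat := @Bool.rec (fun _ => Nat) (Atab_27) (Atab_28) (Nat.ble 28 c)
noncomputable def Atab_s_26_29 (c : Nat) : Nat := @Bool.rec (fun _ => Nat) (Atab_26) (Atab_s_27_29 c) (Nat.ble 27 c)
noncomputable def Atab_s_23_29 (c : Nat) : Nat := @Bool.rec (fun _ => Nat) (Atab_s_23_26 c) (Atab_s_26_29 c) (Nat.ble 26 c)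
noncomputable def Atab_s_30_32 (c : Nat) : Nat := @Bool.rec (fun _ => Nat) (Atab_30) (Atab_31) (Nat.ble 31 c)
noncomputable def Atab_s_29_32 (c : Nat) : Nat := @Bool.rec (fun _ => Nat) (Atab_29) (Atab_s_30_32 c) (Nat.ble 30 c)
noncomputable def Atab_s_33_35 (c : Nat) : Nat := @Bool.rec (fun _ => Nat) (Atab_33) (Atab_34) (Nat.ble 34 c)
noncomputable def Atab_s_32_35 (c : Nat) : Nat := @Bool.rec (fun _ => Nat) (Atab_32) (Atab_s_33_35 c) (Nat.ble 33 c)
noncomputable def Atab_s_29_35 (c : Nat) : Nat := @Bool.rec (fun _ => Nat) (Atab_s_29_32 c) (Atab_s_32_35 c) (Nat.ble 32 c)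
noncomputable def Atab_s_23_35 (c : Nat) : Nat := @Bool.rec (fun _ => Nat) (Atab_s_23_29 c) (Atab_s_29_35 c) (Nat.ble 29 c)
noncomputable def Atab_s_36_38 (c : Nat) : Nat := @Bool.rec (fun _ => Nat) (Atab_36) (Atab_37) (Nat.ble 37 c)
noncomputable def Atab_s_35_38 (c : Nat) : Nat := @Bool.rec (fun _ => Nat) (Atab_35) (Atab_s_36_38 c) (Nat.ble 36 c)
noncomputable def Atab_s_39_41 (c : Nat) : Nat := @Bool.rec (fun _ => Nat) (Atab_39) (Atab_40) (Nat.ble 40 c)
noncomputable def Atab_s_38_41 (c : Nat) : Nat := @Bool.rec (fun _ => Nat) (Atab_38) (Atab_s_39_41 c) (Nat.ble 39 c)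
noncomputable def Atab_s_35_41 (c : Nat) : Nat := @Bool.rec (fun _ => Nat) (Atab_s_35_38 c) (Atab_s_38_41 c) (Nat.ble 38 c)
noncomputable def Atab_s_42_44 (c : Nat) : Nat := @Bool.rec (fun _ => Nat) (Atab_42) (Atab_43) (Nat.ble 43 c)
noncomputable def Atab_s_41_44 (c : Nat) : Nat := @Bool.rec (fun _ => Nat) (Atab_41) (Atab_s_42_44 c) (Nat.ble 42 c)
noncomputable def Atab_s_45_47 (c : Nat) : Nat := @Bool.rec (fun _ => Nat) (Atab_45) (Atab_46) (Nat.ble 46 c)
noncomputable def Atab_s_44_47 (c : Nat) : Nat := @Bool.rec (fun _ => Nat) (Atab_44) (Atab_s_45_47 c) (Nat.ble 45 c)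
noncomputable def Atab_s_41_47 (c : Nat) : Nat := @Bool.rec (fun _ => Nat) (Atab_s_41_44 c) (Atab_s_44_47 c) (Nat.ble 44 c)
noncomputable def Atab_s_35_47 (c : Nat) : Nat := @Bool.rec (fun _ => Nat) (Atab_s_35_41 c) (Atab_s_41_47 c) (Nat.ble 41 c)
noncomputable def Atab_s_23_47 (c : Nat) : Nat := @Bool.rec (fun _ => Nat) (Atab_s_23_35 c) (Atab_s_35_47 c) (Nat.ble 35 c)
noncomputable def Atab_s_0_47 (c : Nat) : Nat := @Bool.rec (fun _ => Nat) (Atab_s_0_23 c) (Atab_s_23_47 c) (Nat.ble 23 c)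
noncomputable def Atab_s_47_49 (c : Nat) : Nat := @Bool.rec (fun _ => Nat) (Atab_47) (Atab_48) (Nat.ble 48 c)
noncomputable def Atab_s_50_52 (c : Nat) : Nat := @Bool.rec (fun _ => Nat) (Atab_50) (Atab_51) (Nat.ble 51 c)
noncomputable def Atab_s_49_52 (c : Nat) : Nat := @Bool.rec (fun _ => Nat) (Atab_49) (Atab_s_50_52 c) (Nat.ble 50 c)
noncomputable def Atab_s_47_52 (c : Nat) : Nat := @Bool.rec (fun _ => Nat) (Atab_s_47_49 c) (Atab_s_49_52 c) (Nat.ble 49 c)
noncomputable def Atab_s_53_55 (c : Nat) : Nat := @Bool.rec (fun _ => Nat) (Atab_53) (Atab_54) (Nat.ble 54 c)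
noncomputable def Atab_s_52_55 (c : Nat) : Nat := @Bool.rec (fun _ => Nat) (Atab_52) (Atab_s_53_55 c) (Nat.ble 53 c)
noncomputable def Atab_s_56_58 (c : Nat) : Nat := @Bool.rec (fun _ => Nat) (Atab_56) (Atab_57) (Nat.ble 57 c)
noncomputable def Atab_s_55_58 (c : Nat) : Nat := @Bool.rec (fun _ => Nat) (Atab_55) (Atab_s_56_58 c) (Nat.ble 56 c)
noncomputable def Atab_s_52_58 (c : Nat) : Nat := @Bool.rec (fun _ => Nat) (Atab_s_52_55 c) (Atab_s_55_58 c) (Nat.ble 55 c)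
noncomputable def Atab_s_47_58 (c : Nat) : Nat := @Bool.rec (fun _ => Nat) (Atab_s_47_52 c) (Atab_s_52_58 c) (Nat.ble 52 c)
noncomputable def Atab_s_59_61 (c : Nat) : Nat := @Bool.rec (fun _ => Nat) (Atab_59) (Atab_60) (Nat.ble 60 c)
noncomputable def Atab_s_58_61 (c : Nat) : Nat := @Bool.rec (fun _ => Nat) (Atab_58) (Atab_s_59_61 c) (Nat.ble 59 c)
noncomputable def Atab_s_62_64 (c : Nat) : Nat := @Bool.rec (fun _ => Nat) (Atab_62) (Atab_63) (Nat.ble 63 c)
noncomputable def Atab_s_61_64 (c : Nat) : Nat := @Bool.rec (fun _ => Nat) (Atab_61) (Atab_s_62_64 c) (Nat.ble 62 c)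
noncomputable def Atab_s_58_64 (c : Nat) : Nat := @Bool.rec (fun _ => Nat) (Atab_s_58_61 c) (Atab_s_61_64 c) (Nat.ble 61 c)
noncomputable def Atab_s_65_67 (c : Nat) : Nat := @Bool.rec (fun _ => Nat) (Atab_65) (Atab_66) (Nat.ble 66 c)
noncomputable def Atab_s_64_67 (c : Nat) : Nat := @Bool.rec (fun _ => Nat) (Atab_64) (Atab_s_65_67 c) (Nat.ble 65 c)
noncomputable def Atab_s_68_70 (c : Nat) : Nat := @Bool.rec (fun _ => Nat) (Atab_68) (Atab_69) (Nat.ble 69 c)
noncomputable def Atab_s_67_70 (c : Nat) : Nat := @Bool.rec (fun _ => Nat) (Atab_67) (Atab_s_68_70 c) (Nat.ble 68 c)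
noncomputable def Atab_s_64_70 (c : Nat) : Nat := @Bool.rec (fun _ => Nat) (Atab_s_64_67 c) (Atab_s_67_70 c) (Nat.ble 67 c)
noncomputable def Atab_s_58_70 (c : Nat) : Nat := @Bool.rec (fun _ => Nat) (Atab_s_58_64 c) (Atab_s_64_70 c) (Nat.ble 64 c)
noncomputable def Atab_s_47_70 (c : Nat) : Nat := @Bool.rec (fun _ => Nat) (Atab_s_47_58 c) (Atab_s_58_70 c) (Nat.ble 58 c)
noncomputable def Atab_s_71_73 (c : Nat) : Nat := @Bool.rec (fun _ => Nat) (Atab_71) (Atab_72) (Nat.ble 72 c)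
noncomputable def Atab_s_70_73 (c : Nat) : Nat := @Bool.rec (fun _ => Nat) (Atab_70) (Atab_s_71_73 c) (Nat.ble 71 c)
noncomputable def Atab_s_74_76 (c : Nat) : Nat := @Bool.rec (fun _ => Nat) (Atab_74) (Atab_75) (Nat.ble 75 c)
noncomputable def Atab_s_73_76 (c : Nat) : Nat := @Bool.rec (fun _ => Nat) (Atab_73) (Atab_s_74_76 c) (Nat.ble 74 c)
noncomputable def Atab_s_70_76 (c : Nat) : Nat := @Bool.rec (fun _ => Nat) (Atab_s_70_73 c) (Atab_s_73_76 c) (Nat.ble 73 c)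
noncomputable def Atab_s_77_79 (c : Nat) : Nat := @Bool.rec (fun _ => Nat) (Atab_77) (Atab_78) (Nat.ble 78 c)
noncomputable def Atab_s_76_79 (c : Nat) : Nat := @Bool.rec (fun _ => Nat) (Atab_76) (Atab_s_77_79 c) (Nat.ble 77 c)
noncomputable def Atab_s_80_82 (c : Nat) : Nat := @Bool.rec (fun _ => Nat) (Atab_80) (Atab_81) (Nat.ble 81 c)
noncomputable def Atab_s_79_82 (c : Nat) : Nat := @Bool.rec (fun _ => Nat) (Atab_79) (Atab_s_80_82 c) (Nat.ble 80 c)
noncomputable def Atab_s_76_82 (c : Nat) : Nat := @Bool.rec (fun _ => Nat) (Atab_s_76_79 c) (Atab_s_79_82 c) (Nat.ble 79 c)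
noncomputable def Atab_s_70_82 (c : Nat) : Nat := @Bool.rec (fun _ => Nat) (Atab_s_70_76 c) (Atab_s_76_82 c) (Nat.ble 76 c)
noncomputable def Atab_s_83_85 (c : Nat) : Nat := @Bool.rec (fun _ => Nat) (Atab_83) (Atab_84) (Nat.ble 84 c)
noncomputable def Atab_s_82_85 (c : Nat) : Nat := @Bool.rec (fun _ => Nat) (Atab_82) (Atab_s_83_85 c) (Nat.ble 83 c)
noncomputable def Atab_s_86_88 (c : Nat) : Nat := @Bool.rec (fun _ => Nat) (Atab_86) (Atab_87) (Nat.ble 87 c)
noncomputable def Atab_s_85_88 (c : Nat) : Nat := @Bool.rec (fun _ => Nat) (Atab_85) (Atab_s_86_88 c) (Nat.ble 86 c)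
noncomputable def Atab_s_82_88 (c : Nat) : Nat := @Bool.rec (fun _ => Nat) (Atab_s_82_85 c) (Atab_s_85_88 c) (Nat.ble 85 c)
noncomputable def Atab_s_89_91 (c : Nat) : Nat := @Bool.rec (fun _ => Nat) (Atab_89) (Atab_90) (Nat.ble 90 c)
noncomputable def Atab_s_88_91 (c : Nat) : Nat := @Bool.rec (fun _ => Nat) (Atab_88) (Atab_s_89_91 c) (Nat.ble 89 c)
noncomputable def Atab_s_92_94 (c : Nat) : Nat := @Bool.rec (fun _ => Nat) (Atab_92) (Atab_93) (Nat.ble 93 c)
noncomputable def Atab_s_91_94 (c : Nat) : Nat := @Bool.rec (fun _ => Nat) (Atab_91) (Atab_s_92_94 c) (Nat.ble 92 c)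
noncomputable def Atab_s_88_94 (c : Nat) : Nat := @Bool.rec (fun _ => Nat) (Atab_s_88_91 c) (Atab_s_91_94 c) (Nat.ble 91 c)
noncomputable def Atab_s_82_94 (c : Nat) : Nat := @Bool.rec (fun _ => Nat) (Atab_s_82_88 c) (Atab_s_88_94 c) (Nat.ble 88 c)
noncomputable def Atab_s_70_94 (c : Nat) : Nat := @Bool.rec (fun _ => Nat) (Atab_s_70_82 c) (Atab_s_82_94 c) (Nat.ble 82 c)
noncomputable def Atab_s_47_94 (c : Nat) : Nat := @Bool.rec (fun _ => Nat) (Atab_s_47_70 c) (Atab_s_70_94 c) (Nat.ble 70 c)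
noncomputable def Atab_s_0_94 (c : Nat) : Nat := @Bool.rec (fun _ => Nat) (Atab_s_0_47 c) (Atab_s_47_94 c) (Nat.ble 47 c)
noncomputable def Atab_s_94_96 (c : Nat) : Nat := @Bool.rec (fun _ => Nat) (Atab_94) (Atab_95) (Nat.ble 95 c)
noncomputable def Atab_s_97_99 (c : Nat) : Nat := @Bool.rec (fun _ => Nat) (Atab_97) (Atab_98) (Nat.ble 98 c)
noncomputable def Atab_s_96_99 (c : Nat) : Nat := @Bool.rec (fun _ => Nat) (Atab_96) (Atab_s_97_99 c) (Nat.ble 97 c)
noncomputable def Atab_s_94_99 (c : Nat) : Nat := @Bool.rec (fun _ => Nat) (Atab_s_94_96 c) (Atab_s_96_99 c) (Nat.ble 96 c)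
noncomputable def Atab_s_100_102 (c : Nat) : Nat := @Bool.rec (fun _ => Nat) (Atab_100) (Atab_101) (Nat.ble 101 c)
noncomputable def Atab_s_99_102 (c : Nat) : Nat := @Bool.rec (fun _ => Nat) (Atab_99) (Atab_s_100_102 c) (Nat.ble 100 c)
noncomputable def Atab_s_103_105 (c : Nat) : Nat := @Bool.rec (fun _ => Nat) (Atab_103) (Atab_104) (Nat.ble 104 c)
noncomputable def Atab_s_102_105 (c : Nat) : Nat := @Bool.rec (fun _ => Nat) (Atab_102) (Atab_s_103_105 c) (Nat.ble 103 c)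
noncomputable def Atab_s_99_105 (c : Nat) : Nat := @Bool.rec (fun _ => Nat) (Atab_s_99_102 c) (Atab_s_102_105 c) (Nat.ble 102 c)
noncomputable def Atab_s_94_105 (c : Nat) : Nat := @Bool.rec (fun _ => Nat) (Atab_s_94_99 c) (Atab_s_99_105 c) (Nat.ble 99 c)
noncomputable def Atab_s_106_108 (c : Nat) : Nat := @Bool.rec (fun _ => Nat) (Atab_106) (Atab_107) (Nat.ble 107 c)
noncomputable def Atab_s_105_108 (c : Nat) : Nat := @Bool.rec (fun _ => Nat) (Atab_105) (Atab_s_106_108 c) (Nat.ble 106 c)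
noncomputable def Atab_s_109_111 (c : Nat) : Nat := @Bool.rec (fun _ => Nat) (Atab_109) (Atab_110) (Nat.ble 110 c)
noncomputable def Atab_s_108_111 (c : Nat) : Nat := @Bool.rec (fun _ => Nat) (Atab_108) (Atab_s_109_111 c) (Nat.ble 109 c)
noncomputable def Atab_s_105_111 (c : Nat) : Nat := @Bool.rec (fun _ => Nat) (Atab_s_105_108 c) (Atab_s_108_111 c) (Nat.ble 108 c)
noncomputable def Atab_s_112_114 (c : Nat) : Nat := @Bool.rec (fun _ => Nat) (Atab_112) (Atab_113) (Nat.ble 113 c)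
noncomputable def Atab_s_111_114 (c : Nat) : Nat := @Bool.rec (fun _ => Nat) (Atab_111) (Atab_s_112_114 c) (Nat.ble 112 c)
noncomputable def Atab_s_115_117 (c : Nat) : Nat := @Bool.rec (fun _ => Nat) (Atab_115) (Atab_116) (Nat.ble 116 c)
noncomputable def Atab_s_114_117 (c : Nat) : Nat := @Bool.rec (fun _ => Nat) (Atab_114) (Atab_s_115_117 c) (Nat.ble 115 c)
noncomputable def Atab_s_111_117 (c : Nat) : Nat := @Bool.rec (fun _ => Nat) (Atab_s_111_114 c) (Atab_s_114_117 c) (Nat.ble 114 c)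
noncomputable def Atab_s_105_117 (c : Nat) : Nat := @Bool.rec (fun _ => Nat) (Atab_s_105_111 c) (Atab_s_111_117 c) (Nat.ble 111 c)
noncomputable def Atab_s_94_117 (c : Nat) : Nat := @Bool.rec (fun _ => Nat) (Atab_s_94_105 c) (Atab_s_105_117 c) (Nat.ble 105 c)
noncomputable def Atab_s_118_120 (c : Nat) : Nat := @Bool.rec (fun _ => Nat) (Atab_118) (Atab_119) (Nat.ble 119 c)
noncomputable def Atab_s_117_120 (c : Nat) : Nat := @Bool.rec (fun _ => Nat) (Atab_117) (Atab_s_118_120 c) (Nat.ble 118 c)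
noncomputable def Atab_s_121_123 (c : Nat) : Nat := @Bool.rec (fun _ => Nat) (Atab_121) (Atab_122) (Nat.ble 122 c)
noncomputable def Atab_s_120_123 (c : Nat) : Nat := @Bool.rec (fun _ => Nat) (Atab_120) (Atab_s_121_123 c) (Nat.ble 121 c)
noncomputable def Atab_s_117_123 (c : Nat) : Nat := @Bool.rec (fun _ => Nat) (Atab_s_117_120 c) (Atab_s_120_123 c) (Nat.ble 120 c)
noncomputable def Atab_s_124_126 (c : Nat) : Nat := @Bool.rec (fun _ => Nat) (Atab_124) (Atab_125) (Nat.ble 125 c)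
noncomputable def Atab_s_123_126 (c : Nat) : Nat := @Bool.rec (fun _ => Nat) (Atab_123) (Atab_s_124_126 c) (Nat.ble 124 c)
noncomputable def Atab_s_127_129 (c : Nat) : Nat := @Bool.rec (fun _ => Nat) (Atab_127) (Atab_128) (Nat.ble 128 c)
noncomputable def Atab_s_126_129 (c : Nat) : Nat := @Bool.rec (fun _ => Nat) (Atab_126) (Atab_s_127_129 c) (Nat.ble 127 c)
noncomputable def Atab_s_123_129 (c : Nat) : Nat := @Bool.rec (fun _ => Nat) (Atab_s_123_126 c) (Atab_s_126_129 c) (Nat.ble 126 c)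
noncomputable def Atab_s_117_129 (c : Nat) : Nat := @Bool.rec (fun _ => Nat) (Atab_s_117_123 c) (Atab_s_123_129 c) (Nat.ble 123 c)
noncomputable def Atab_s_130_132 (c : Nat) : Nat := @Bool.rec (fun _ => Nat) (Atab_130) (Atab_131) (Nat.ble 131 c)
noncomputable def Atab_s_129_132 (c : Nat) : Nat := @Bool.rec (fun _ => Nat) (Atab_129) (Atab_s_130_132 c) (Nat.ble 130 c)
noncomputable def Atab_s_133_135 (c : Nat) : Nat := @Bool.rec (fun _ => Nat) (Atab_133) (Atab_134) (Nat.ble 134 c)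
noncomputable def Atab_s_132_135 (c : Nat) : Nat := @Bool.rec (fun _ => Nat) (Atab_132) (Atab_s_133_135 c) (Nat.ble 133 c)
noncomputable def Atab_s_129_135 (c : Nat) : Nat := @Bool.rec (fun _ => Nat) (Atab_s_129_132 c) (Atab_s_132_135 c) (Nat.ble 132 c)
noncomputable def Atab_s_136_138 (c : Nat) : Nat := @Bool.rec (fun _ => Nat) (Atab_136) (Atab_137) (Nat.ble 137 c)
noncomputable def Atab_s_135_138 (c : Nat) : Nat := @Bool.rec (fun _ => Nat) (Atab_135) (Atab_s_136_138 c) (Nat.ble 136 c)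
noncomputable def Atab_s_139_141 (c : Nat) : Nat := @Bool.rec (fun _ => Nat) (Atab_139) (Atab_140) (Nat.ble 140 c)
noncomputable def Atab_s_138_141 (c : Nat) : Nat := @Bool.rec (fun _ => Nat) (Atab_138) (Atab_s_139_141 c) (Nat.ble 139 c)
noncomputable def Atab_s_135_141 (c : Nat) : Nat := @Bool.rec (fun _ => Nat) (Atab_s_135_138 c) (Atab_s_138_141 c) (Nat.ble 138 c)
noncomputable def Atab_s_129_141 (c : Nat) : Nat := @Bool.rec (fun _ => Nat) (Atab_s_129_135 c) (Atab_s_135_141 c) (Nat.ble 135 c)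
noncomputable def Atab_s_117_141 (c : Nat) : Nat := @Bool.rec (fun _ => Nat) (Atab_s_117_129 c) (Atab_s_129_141 c) (Nat.ble 129 c)
noncomputable def Atab_s_94_141 (c : Nat) : Nat := @Bool.rec (fun _ => Nat) (Atab_s_94_117 c) (Atab_s_117_141 c) (Nat.ble 117 c)
noncomputable def Atab_s_141_143 (c : Nat) : Nat := @Bool.rec (fun _ => Nat) (Atab_141) (Atab_142) (Nat.ble 142 c)
noncomputable def Atab_s_144_146 (c : Nat) : Nat := @Bool.rec (fun _ => Nat) (Atab_144) (Atab_145) (Nat.ble 145 c)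
noncomputable def Atab_s_143_146 (c : Nat) : Nat := @Bool.rec (fun _ => Nat) (Atab_143) (Atab_s_144_146 c) (Nat.ble 144 c)
noncomputable def Atab_s_141_146 (c : Nat) : Nat := @Bool.rec (fun _ => Nat) (Atab_s_141_143 c) (Atab_s_143_146 c) (Nat.ble 143 c)
noncomputable def Atab_s_147_149 (c : Nat) : Nat := @Bool.rec (fun _ => Nat) (Atab_147) (Atab_148) (Nat.ble 148 c)
noncomputable def Atab_s_146_149 (c : Nat) : Nat := @Bool.rec (fun _ => Nat) (Atab_146) (Atab_s_147_149 c) (Nat.ble 147 c)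
noncomputable def Atab_s_150_152 (c : Nat) : Nat := @Bool.rec (fun _ => Nat) (Atab_150) (Atab_151) (Nat.ble 151 c)
noncomputable def Atab_s_149_152 (c : Nat) : Nat := @Bool.rec (fun _ => Nat) (Atab_149) (Atab_s_150_152 c) (Nat.ble 150 c)
noncomputable def Atab_s_146_152 (c : Nat) : Nat := @Bool.rec (fun _ => Nat) (Atab_s_146_149 c) (Atab_s_149_152 c) (Nat.ble 149 c)
noncomputable def Atab_s_141_152 (c : Nat) : Nat := @Bool.rec (fun _ => Nat) (Atab_s_141_146 c) (Atab_s_146_152 c) (Nat.ble 146 c)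
noncomputable def Atab_s_153_155 (c : Nat) : Nat := @Bool.rec (fun _ => Nat) (Atab_153) (Atab_154) (Nat.ble 154 c)
noncomputable def Atab_s_152_155 (c : Nat) : Nat := @Bool.rec (fun _ => Nat) (Atab_152) (Atab_s_153_155 c) (Nat.ble 153 c)
noncomputable def Atab_s_156_158 (c : Nat) : Nat := @Bool.rec (fun _ => Nat) (Atab_156) (Atab_157) (Nat.ble 157 c)
noncomputable def Atab_s_155_158 (c : Nat) : Nat := @Bool.rec (fun _ => Nat) (Atab_155) (Atab_s_156_158 c) (Nat.ble 156 c)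
noncomputable def Atab_s_152_158 (c : Nat) : Nat := @Bool.rec (fun _ => Nat) (Atab_s_152_155 c) (Atab_s_155_158 c) (Nat.ble 155 c)
noncomputable def Atab_s_159_161 (c : Nat) : Nat := @Bool.rec (fun _ => Nat) (Atab_159) (Atab_160) (Nat.ble 160 c)
noncomputable def Atab_s_158_161 (c : Nat) : Nat := @Bool.rec (fun _ => Nat) (Atab_158) (Atab_s_159_161 c) (Nat.ble 159 c)
noncomputable def Atab_s_162_164 (c : Nat) : Nat := @Bool.rec (fun _ => Nat) (Atab_162) (Atab_163) (Nat.ble 163 c)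
noncomputable def Atab_s_161_164 (c : Nat) : Nat := @Bool.rec (fun _ => Nat) (Atab_161) (Atab_s_162_164 c) (Nat.ble 162 c)
noncomputable def Atab_s_158_164 (c : Nat) : Nat := @Bool.rec (fun _ => Nat) (Atab_s_158_161 c) (Atab_s_161_164 c) (Nat.ble 161 c)
noncomputable def Atab_s_152_164 (c : Nat) : Nat := @Bool.rec (fun _ => Nat) (Atab_s_152_158 c) (Atab_s_158_164 c) (Nat.ble 158 c)
noncomputable def Atab_s_141_164 (c : Nat) : Nat := @Bool.rec (fun _ => Nat) (Atab_s_141_152 c) (Atab_s_152_164 c) (Nat.ble 152 c)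
noncomputable def Atab_s_165_167 (c : Nat) : Nat := @Bool.rec (fun _ => Nat) (Atab_165) (Atab_166) (Nat.ble 166 c)
noncomputable def Atab_s_164_167 (c : Nat) : Nat := @Bool.rec (fun _ => Nat) (Atab_164) (Atab_s_165_167 c) (Nat.ble 165 c)
noncomputable def Atab_s_168_170 (c : Nat) : Nat := @Bool.rec (fun _ => Nat) (Atab_168) (Atab_169) (Nat.ble 169 c)
noncomputable def Atab_s_167_170 (c : Nat) : Nat := @Bool.rec (fun _ => Nat) (Atab_167) (Atab_s_168_170 c) (Nat.ble 168 c)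
noncomputable def Atab_s_164_170 (c : Nat) : Nat := @Bool.rec (fun _ => Nat) (Atab_s_164_167 c) (Atab_s_167_170 c) (Nat.ble 167 c)
noncomputable def Atab_s_171_173 (c : Nat) : Nat := @Bool.rec (fun _ => Nat) (Atab_171) (Atab_172) (Nat.ble 172 c)
noncomputable def Atab_s_170_173 (c : Nat) : Nat := @Bool.rec (fun _ => Nat) (Atab_170) (Atab_s_171_173 c) (Nat.ble 171 c)
noncomputable def Atab_s_174_176 (c : Nat) : Nat := @Bool.rec (fun _ => Nat) (Atab_174) (Atab_175) (Nat.ble 175 c)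
noncomputable def Atab_s_173_176 (c : Nat) : Nat := @Bool.rec (fun _ => Nat) (Atab_173) (Atab_s_174_176 c) (Nat.ble 174 c)
noncomputable def Atab_s_170_176 (c : Nat) : Nat := @Bool.rec (fun _ => Nat) (Atab_s_170_173 c) (Atab_s_173_176 c) (Nat.ble 173 c)
noncomputable def Atab_s_164_176 (c : Nat) : Nat := @Bool.rec (fun _ => Nat) (Atab_s_164_170 c) (Atab_s_170_176 c) (Nat.ble 170 c)
noncomputable def Atab_s_177_179 (c : Nat) : Nat := @Bool.rec (fun _ => Nat) (Atab_177) (Atab_178) (Nat.ble 178 c)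
noncomputable def Atab_s_176_179 (c : Nat) : Nat := @Bool.rec (fun _ => Nat) (Atab_176) (Atab_s_177_179 c) (Nat.ble 177 c)
noncomputable def Atab_s_180_182 (c : Nat) : Nat := @Bool.rec (fun _ => Nat) (Atab_180) (Atab_181) (Nat.ble 181 c)
noncomputable def Atab_s_179_182 (c : Nat) : Nat := @Bool.rec (fun _ => Nat) (Atab_179) (Atab_s_180_182 c) (Nat.ble 180 c)
noncomputable def Atab_s_176_182 (c : Nat) : Nat := @Bool.rec (fun _ => Nat) (Atab_s_176_179 c) (Atab_s_179_182 c) (Nat.ble 179 c)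
noncomputable def Atab_s_183_185 (c : Nat) : Nat := @Bool.rec (fun _ => Nat) (Atab_183) (Atab_184) (Nat.ble 184 c)
noncomputable def Atab_s_182_185 (c : Nat) : Nat := @Bool.rec (fun _ => Nat) (Atab_182) (Atab_s_183_185 c) (Nat.ble 183 c)
noncomputable def Atab_s_186_188 (c : Nat) : Nat := @Bool.rec (fun _ => Nat) (Atab_186) (Atab_187) (Nat.ble 187 c)
noncomputable def Atab_s_185_188 (c : Nat) : Nat := @Bool.rec (fun _ => Nat) (Atab_185) (Atab_s_186_188 c) (Nat.ble 186 c)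
noncomputable def Atab_s_182_188 (c : Nat) : Nat := @Bool.rec (fun _ => Nat) (Atab_s_182_185 c) (Atab_s_185_188 c) (Nat.ble 185 c)
noncomputable def Atab_s_176_188 (c : Nat) : Nat := @Bool.rec (fun _ => Nat) (Atab_s_176_182 c) (Atab_s_182_188 c) (Nat.ble 182 c)
noncomputable def Atab_s_164_188 (c : Nat) : Nat := @Bool.rec (fun _ => Nat) (Atab_s_164_176 c) (Atab_s_176_188 c) (Nat.ble 176 c)
noncomputable def Atab_s_141_188 (c : Nat) : Nat := @Bool.rec (fun _ => Nat) (Atab_s_141_164 c) (Atab_s_164_188 c) (Nat.ble 164 c)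
noncomputable def Atab_s_94_188 (c : Nat) : Nat := @Bool.rec (fun _ => Nat) (Atab_s_94_141 c) (Atab_s_141_188 c) (Nat.ble 141 c)
noncomputable def Atab_s_0_188 (c : Nat) : Nat := @Bool.rec (fun _ => Nat) (Atab_s_0_94 c) (Atab_s_94_188 c) (Nat.ble 94 c)
noncomputable def Atab_s_188_190 (c : Nat) : Nat := @Bool.rec (fun _ => Nat) (Atab_188) (Atab_189) (Nat.ble 189 c)
noncomputable def Atab_s_191_193 (c : Nat) : Nat := @Bool.rec (fun _ => Nat) (Atab_191) (Atab_192) (Nat.ble 192 c)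
noncomputable def Atab_s_190_193 (c : Nat) : Nat := @Bool.rec (fun _ => Nat) (Atab_190) (Atab_s_191_193 c) (Nat.ble 191 c)
noncomputable def Atab_s_188_193 (c : Nat) : Nat := @Bool.rec (fun _ => Nat) (Atab_s_188_190 c) (Atab_s_190_193 c) (Nat.ble 190 c)
noncomputable def Atab_s_194_196 (c : Nat) : Nat := @Bool.rec (fun _ => Nat) (Atab_194) (Atab_195) (Nat.ble 195 c)
noncomputable def Atab_s_193_196 (c : Nat) : Nat := @Bool.rec (fun _ => Nat) (Atab_193) (Atab_s_194_196 c) (Nat.ble 194 c)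
noncomputable def Atab_s_197_199 (c : Nat) : Nat := @Bool.rec (fun _ => Nat) (Atab_197) (Atab_198) (Nat.ble 198 c)
noncomputable def Atab_s_196_199 (c : Nat) : Nat := @Bool.rec (fun _ => Nat) (Atab_196) (Atab_s_197_199 c) (Nat.ble 197 c)
noncomputable def Atab_s_193_199 (c : Nat) : Nat := @Bool.rec (fun _ => Nat) (Atab_s_193_196 c) (Atab_s_196_199 c) (Nat.ble 196 c)
noncomputable def Atab_s_188_199 (c : Nat) : Nat := @Bool.rec (fun _ => Nat) (Atab_s_188_193 c) (Atab_s_193_199 c) (Nat.ble 193 c)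
noncomputable def Atab_s_200_202 (c : Nat) : Nat := @Bool.rec (fun _ => Nat) (Atab_200) (Atab_201) (Nat.ble 201 c)
noncomputable def Atab_s_199_202 (c : Nat) : Nat := @Bool.rec (fun _ => Nat) (Atab_199) (Atab_s_200_202 c) (Nat.ble 200 c)
noncomputable def Atab_s_203_205 (c : Nat) : Nat := @Bool.rec (fun _ => Nat) (Atab_203) (Atab_204) (Nat.ble 204 c)
noncomputable def Atab_s_202_205 (c : Nat) : Nat := @Bool.rec (fun _ => Nat) (Atab_202) (Atab_s_203_205 c) (Nat.ble 203 c)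
noncomputable def Atab_s_199_205 (c : Nat) : Nat := @Bool.rec (fun _ => Nat) (Atab_s_199_202 c) (Atab_s_202_205 c) (Nat.ble 202 c)
noncomputable def Atab_s_206_208 (c : Nat) : Nat := @Bool.rec (fun _ => Nat) (Atab_206) (Atab_207) (Nat.ble 207 c)
noncomputable def Atab_s_205_208 (c : Nat) : Nat := @Bool.rec (fun _ => Nat) (Atab_205) (Atab_s_206_208 c) (Nat.ble 206 c)
noncomputable def Atab_s_209_211 (c : Nat) : Nat := @Bool.rec (fun _ => Nat) (Atab_209) (Atab_210) (Nat.ble 210 c)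
noncomputable def Atab_s_208_211 (c : Nat) : Nat := @Bool.rec (fun _ => Nat) (Atab_208) (Atab_s_209_211 c) (Nat.ble 209 c)
noncomputable def Atab_s_205_211 (c : Nat) : Nat := @Bool.rec (fun _ => Nat) (Atab_s_205_208 c) (Atab_s_208_211 c) (Nat.ble 208 c)
noncomputable def Atab_s_199_211 (c : Nat) : Nat := @Bool.rec (fun _ => Nat) (Atab_s_199_205 c) (Atab_s_205_211 c) (Nat.ble 205 c)
noncomputable def Atab_s_188_211 (c : Nat) : Nat := @Bool.rec (fun _ => Nat) (Atab_s_188_199 c) (Atab_s_199_211 c) (Nat.ble 199 c)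
noncomputable def Atab_s_212_214 (c : Nat) : Nat := @Bool.rec (fun _ => Nat) (Atab_212) (Atab_213) (Nat.ble 213 c)
noncomputable def Atab_s_211_214 (c : Nat) : Nat := @Bool.rec (fun _ => Nat) (Atab_211) (Atab_s_212_214 c) (Nat.ble 212 c)
noncomputable def Atab_s_215_217 (c : Nat) : Nat := @Bool.rec (fun _ => Nat) (Atab_215) (Atab_216) (Nat.ble 216 c)
noncomputable def Atab_s_214_217 (c : Nat) : Nat := @Bool.rec (fun _ => Nat) (Atab_214) (Atab_s_215_217 c) (Nat.ble 215 c)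
noncomputable def Atab_s_211_217 (c : Nat) : Nat := @Bool.rec (fun _ => Nat) (Atab_s_211_214 c) (Atab_s_214_217 c) (Nat.ble 214 c)
noncomputable def Atab_s_218_220 (c : Nat) : Nat := @Bool.rec (fun _ => Nat) (Atab_218) (Atab_219) (Nat.ble 219 c)
noncomputable def Atab_s_217_220 (c : Nat) : Nat := @Bool.rec (fun _ => Nat) (Atab_217) (Atab_s_218_220 c) (Nat.ble 218 c)
noncomputable def Atab_s_221_223 (c : Nat) : Nat := @Bool.rec (fun _ => Nat) (Atab_221) (Atab_222) (Nat.ble 222 c)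
noncomputable def Atab_s_220_223 (c : Nat) : Nat := @Bool.rec (fun _ => Nat) (Atab_220) (Atab_s_221_223 c) (Nat.ble 221 c)
noncomputable def Atab_s_217_223 (c : Nat) : Nat := @Bool.rec (fun _ => Nat) (Atab_s_217_220 c) (Atab_s_220_223 c) (Nat.ble 220 c)
noncomputable def Atab_s_211_223 (c : Nat) : Nat := @Bool.rec (fun _ => Nat) (Atab_s_211_217 c) (Atab_s_217_223 c) (Nat.ble 217 c)
noncomputable def Atab_s_224_226 (c : Nat) : Nat := @Bool.rec (fun _ => Nat) (Atab_224) (Atab_225) (Nat.ble 225 c)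
noncomputable def Atab_s_223_226 (c : Nat) : Nat := @Bool.rec (fun _ => Nat) (Atab_223) (Atab_s_224_226 c) (Nat.ble 224 c)
noncomputable def Atab_s_227_229 (c : Nat) : Nat := @Bool.rec (fun _ => Nat) (Atab_227) (Atab_228) (Nat.ble 228 c)
noncomputable def Atab_s_226_229 (c : Nat) : Nat := @Bool.rec (fun _ => Nat) (Atab_226) (Atab_s_227_229 c) (Nat.ble 227 c)
noncomputable def Atab_s_223_229 (c : Nat) : Nat := @Bool.rec (fun _ => Nat) (Atab_s_223_226 c) (Atab_s_226_229 c) (Nat.ble 226 c)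
noncomputable def Atab_s_230_232 (c : Nat) : Nat := @Bool.rec (fun _ => Nat) (Atab_230) (Atab_231) (Nat.ble 231 c)
noncomputable def Atab_s_229_232 (c : Nat) : Nat := @Bool.rec (fun _ => Nat) (Atab_229) (Atab_s_230_232 c) (Nat.ble 230 c)
noncomputable def Atab_s_233_235 (c : Nat) : Nat := @Bool.rec (fun _ => Nat) (Atab_233) (Atab_234) (Nat.ble 234 c)
noncomputable def Atab_s_232_235 (c : Nat) : Nat := @Bool.rec (fun _ => Nat) (Atab_232) (Atab_s_233_235 c) (Nat.ble 233 c)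
noncomputable def Atab_s_229_235 (c : Nat) : Nat := @Bool.rec (fun _ => Nat) (Atab_s_229_232 c) (Atab_s_232_235 c) (Nat.ble 232 c)
noncomputable def Atab_s_223_235 (c : Nat) : Nat := @Bool.rec (fun _ => Nat) (Atab_s_223_229 c) (Atab_s_229_235 c) (Nat.ble 229 c)
noncomputable def Atab_s_211_235 (c : Nat) : Nat := @Bool.rec (fun _ => Nat) (Atab_s_211_223 c) (Atab_s_223_235 c) (Nat.ble 223 c)
noncomputable def Atab_s_188_235 (c : Nat) : Nat := @Bool.rec (fun _ => Nat) (Atab_s_188_211 c) (Atab_s_211_235 c) (Nat.ble 211 c)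
noncomputable def Atab_s_235_237 (c : Nat) : Nat := @Bool.rec (fun _ => Nat) (Atab_235) (Atab_236) (Nat.ble 236 c)
noncomputable def Atab_s_238_240 (c : Nat) : Nat := @Bool.rec (fun _ => Nat) (Atab_238) (Atab_239) (Nat.ble 239 c)
noncomputable def Atab_s_237_240 (c : Nat) : Nat := @Bool.rec (fun _ => Nat) (Atab_237) (Atab_s_238_240 c) (Nat.ble 238 c)
noncomputable def Atab_s_235_240 (c : Nat) : Nat := @Bool.rec (fun _ => Nat) (Atab_s_235_237 c) (Atab_s_237_240 c) (Nat.ble 237 c)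
noncomputable def Atab_s_241_243 (c : Nat) : Nat := @Bool.rec (fun _ => Nat) (Atab_241) (Atab_242) (Nat.ble 242 c)
noncomputable def Atab_s_240_243 (c : Nat) : Nat := @Bool.rec (fun _ => Nat) (Atab_240) (Atab_s_241_243 c) (Nat.ble 241 c)
noncomputable def Atab_s_244_246 (c : Nat) : Nat := @Bool.rec (fun _ => Nat) (Atab_244) (Atab_245) (Nat.ble 245 c)
noncomputable def Atab_s_243_246 (c : Nat) : Nat := @Bool.rec (fun _ => Nat) (Atab_243) (Atab_s_244_246 c) (Nat.ble 244 c)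
noncomputable def Atab_s_240_246 (c : Nat) : Nat := @Bool.rec (fun _ => Nat) (Atab_s_240_243 c) (Atab_s_243_246 c) (Nat.ble 243 c)
noncomputable def Atab_s_235_246 (c : Nat) : Nat := @Bool.rec (fun _ => Nat) (Atab_s_235_240 c) (Atab_s_240_246 c) (Nat.ble 240 c)
noncomputable def Atab_s_247_249 (c : Nat) : Nat := @Bool.rec (fun _ => Nat) (Atab_247) (Atab_248) (Nat.ble 248 c)
noncomputable def Atab_s_246_249 (c : Nat) : Nat := @Bool.rec (fun _ => Nat) (Atab_246) (Atab_s_247_249 c) (Nat.ble 247 c)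
noncomputable def Atab_s_250_252 (c : Nat) : Nat := @Bool.rec (fun _ => Nat) (Atab_250) (Atab_251) (Nat.ble 251 c)
noncomputable def Atab_s_249_252 (c : Nat) : Nat := @Bool.rec (fun _ => Nat) (Atab_249) (Atab_s_250_252 c) (Nat.ble 250 c)
noncomputable def Atab_s_246_252 (c : Nat) : Nat := @Bool.rec (fun _ => Nat) (Atab_s_246_249 c) (Atab_s_249_252 c) (Nat.ble 249 c)
noncomputable def Atab_s_253_255 (c : Nat) : Nat := @Bool.rec (fun _ => Nat) (Atab_253) (Atab_254) (Nat.ble 254 c)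
noncomputable def Atab_s_252_255 (c : Nat) : Nat := @Bool.rec (fun _ => Nat) (Atab_252) (Atab_s_253_255 c) (Nat.ble 253 c)
noncomputable def Atab_s_256_258 (c : Nat) : Nat := @Bool.rec (fun _ => Nat) (Atab_256) (Atab_257) (Nat.ble 257 c)
noncomputable def Atab_s_255_258 (c : Nat) : Nat := @Bool.rec (fun _ => Nat) (Atab_255) (Atab_s_256_258 c) (Nat.ble 256 c)
noncomputable def Atab_s_252_258 (c : Nat) : Nat := @Bool.rec (fun _ => Nat) (Atab_s_252_255 c) (Atab_s_255_258 c) (Nat.ble 255 c)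
noncomputable def Atab_s_246_258 (c : Nat) : Nat := @Bool.rec (fun _ => Nat) (Atab_s_246_252 c) (Atab_s_252_258 c) (Nat.ble 252 c)
noncomputable def Atab_s_235_258 (c : Nat) : Nat := @Bool.rec (fun _ => Nat) (Atab_s_235_246 c) (Atab_s_246_258 c) (Nat.ble 246 c)
noncomputable def Atab_s_259_261 (c : Nat) : Nat := @Bool.rec (fun _ => Nat) (Atab_259) (Atab_260) (Nat.ble 260 c)
noncomputable def Atab_s_258_261 (c : Nat) : Nat := @Bool.rec (fun _ => Nat) (Atab_258) (Atab_s_259_261 c) (Nat.ble 259 c)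
noncomputable def Atab_s_262_264 (c : Nat) : Nat := @Bool.rec (fun _ => Nat) (Atab_262) (Atab_263) (Nat.ble 263 c)
noncomputable def Atab_s_261_264 (c : Nat) : Nat := @Bool.rec (fun _ => Nat) (Atab_261) (Atab_s_262_264 c) (Nat.ble 262 c)
noncomputable def Atab_s_258_264 (c : Nat) : Nat := @Bool.rec (fun _ => Nat) (Atab_s_258_261 c) (Atab_s_261_264 c) (Nat.ble 261 c)
noncomputable def Atab_s_265_267 (c : Nat) : Nat := @Bool.rec (fun _ => Nat) (Atab_265) (Atab_266) (Nat.ble 266 c)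
noncomputable def Atab_s_264_267 (c : Nat) : Nat := @Bool.rec (fun _ => Nat) (Atab_264) (Atab_s_265_267 c) (Nat.ble 265 c)
noncomputable def Atab_s_268_270 (c : Nat) : Nat := @Bool.rec (fun _ => Nat) (Atab_268) (Atab_269) (Nat.ble 269 c)
noncomputable def Atab_s_267_270 (c : Nat) : Nat := @Bool.rec (fun _ => Nat) (Atab_267) (Atab_s_268_270 c) (Nat.ble 268 c)
noncomputable def Atab_s_264_270 (c : Nat) : Nat := @Bool.rec (fun _ => Nat) (Atab_s_264_267 c) (Atab_s_267_270 c) (Nat.ble 267 c)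
noncomputable def Atab_s_258_270 (c : Nat) : Nat := @Bool.rec (fun _ => Nat) (Atab_s_258_264 c) (Atab_s_264_270 c) (Nat.ble 264 c)
noncomputable def Atab_s_271_273 (c : Nat) : Nat := @Bool.rec (fun _ => Nat) (Atab_271) (Atab_272) (Nat.ble 272 c)
noncomputable def Atab_s_270_273 (c : Nat) : Nat := @Bool.rec (fun _ => Nat) (Atab_270) (Atab_s_271_273 c) (Nat.ble 271 c)
noncomputable def Atab_s_274_276 (c : Nat) : Nat := @Bool.rec (fun _ => Nat) (Atab_274) (Atab_275) (Nat.ble 275 c)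
noncomputable def Atab_s_273_276 (c : Nat) : Nat := @Bool.rec (fun _ => Nat) (Atab_273) (Atab_s_274_276 c) (Nat.ble 274 c)
noncomputable def Atab_s_270_276 (c : Nat) : Nat := @Bool.rec (fun _ => Nat) (Atab_s_270_273 c) (Atab_s_273_276 c) (Nat.ble 273 c)
noncomputable def Atab_s_277_279 (c : Nat) : Nat := @Bool.rec (fun _ => Nat) (Atab_277) (Atab_278) (Nat.ble 278 c)
noncomputable def Atab_s_276_279 (c : Nat) : Nat := @Bool.rec (fun _ => Nat) (Atab_276) (Atab_s_277_279 c) (Nat.ble 277 c)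
noncomputable def Atab_s_280_282 (c : Nat) : Nat := @Bool.rec (fun _ => Nat) (Atab_280) (Atab_281) (Nat.ble 281 c)
noncomputable def Atab_s_279_282 (c : Nat) : Nat := @Bool.rec (fun _ => Nat) (Atab_279) (Atab_s_280_282 c) (Nat.ble 280 c)
noncomputable def Atab_s_276_282 (c : Nat) : Nat := @Bool.rec (fun _ => Nat) (Atab_s_276_279 c) (Atab_s_279_282 c) (Nat.ble 279 c)
noncomputable def Atab_s_270_282 (c : Nat) : Nat := @Bool.rec (fun _ => Nat) (Atab_s_270_276 c) (Atab_s_276_282 c) (Nat.ble 276 c)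
noncomputable def Atab_s_258_282 (c : Nat) : Nat := @Bool.rec (fun _ => Nat) (Atab_s_258_270 c) (Atab_s_270_282 c) (Nat.ble 270 c)
noncomputable def Atab_s_235_282 (c : Nat) : Nat := @Bool.rec (fun _ => Nat) (Atab_s_235_258 c) (Atab_s_258_282 c) (Nat.ble 258 c)
noncomputable def Atab_s_188_282 (c : Nat) : Nat := @Bool.rec (fun _ => Nat) (Atab_s_188_235 c) (Atab_s_235_282 c) (Nat.ble 235 c)
noncomputable def Atab_s_282_284 (c : Nat) : Nat := @Bool.rec (fun _ => Nat) (Atab_282) (Atab_283) (Nat.ble 283 c)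
noncomputable def Atab_s_285_287 (c : Nat) : Nat := @Bool.rec (fun _ => Nat) (Atab_285) (Atab_286) (Nat.ble 286 c)
noncomputable def Atab_s_284_287 (c : Nat) : Nat := @Bool.rec (fun _ => Nat) (Atab_284) (Atab_s_285_287 c) (Nat.ble 285 c)
noncomputable def Atab_s_282_287 (c : Nat) : Nat := @Bool.rec (fun _ => Nat) (Atab_s_282_284 c) (Atab_s_284_287 c) (Nat.ble 284 c)
noncomputable def Atab_s_288_290 (c : Nat) : Nat := @Bool.rec (fun _ => Nat) (Atab_288) (Atab_289) (Nat.ble 289 c)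
noncomputable def Atab_s_287_290 (c : Nat) : Nat := @Bool.rec (fun _ => Nat) (Atab_287) (Atab_s_288_290 c) (Nat.ble 288 c)
noncomputable def Atab_s_291_293 (c : Nat) : Nat := @Bool.rec (fun _ => Nat) (Atab_291) (Atab_292) (Nat.ble 292 c)
noncomputable def Atab_s_290_293 (c : Nat) : Nat := @Bool.rec (fun _ => Nat) (Atab_290) (Atab_s_291_293 c) (Nat.ble 291 c)
noncomputable def Atab_s_287_293 (c : Nat) : Nat := @Bool.rec (fun _ => Nat) (Atab_s_287_290 c) (Atab_s_290_293 c) (Nat.ble 290 c)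
noncomputable def Atab_s_282_293 (c : Nat) : Nat := @Bool.rec (fun _ => Nat) (Atab_s_282_287 c) (Atab_s_287_293 c) (Nat.ble 287 c)
noncomputable def Atab_s_294_296 (c : Nat) : Nat := @Bool.rec (fun _ => Nat) (Atab_294) (Atab_295) (Nat.ble 295 c)
noncomputable def Atab_s_293_296 (c : Nat) : Nat := @Bool.rec (fun _ => Nat) (Atab_293) (Atab_s_294_296 c) (Nat.ble 294 c)
noncomputable def Atab_s_297_299 (c : Nat) : Nat := @Bool.rec (fun _ => Nat) (Atab_297) (Atab_298) (Nat.ble 298 c)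
noncomputable def Atab_s_296_299 (c : Nat) : Nat := @Bool.rec (fun _ => Nat) (Atab_296) (Atab_s_297_299 c) (Nat.ble 297 c)
noncomputable def Atab_s_293_299 (c : Nat) : Nat := @Bool.rec (fun _ => Nat) (Atab_s_293_296 c) (Atab_s_296_299 c) (Nat.ble 296 c)
noncomputable def Atab_s_300_302 (c : Nat) : Nat := @Bool.rec (fun _ => Nat) (Atab_300) (Atab_301) (Nat.ble 301 c)
noncomputable def Atab_s_299_302 (c : Nat) : Nat := @Bool.rec (fun _ => Nat) (Atab_299) (Atab_s_300_302 c) (Nat.ble 300 c)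
noncomputable def Atab_s_303_305 (c : Nat) : Nat := @Bool.rec (fun _ => Nat) (Atab_303) (Atab_304) (Nat.ble 304 c)
noncomputable def Atab_s_302_305 (c : Nat) : Nat := @Bool.rec (fun _ => Nat) (Atab_302) (Atab_s_303_305 c) (Nat.ble 303 c)
noncomputable def Atab_s_299_305 (c : Nat) : Nat := @Bool.rec (fun _ => Nat) (Atab_s_299_302 c) (Atab_s_302_305 c) (Nat.ble 302 c)
noncomputable def Atab_s_293_305 (c : Nat) : Nat := @Bool.rec (fun _ => Nat) (Atab_s_293_299 c) (Atab_s_299_305 c) (Nat.ble 299 c)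
noncomputable def Atab_s_282_305 (c : Nat) : Nat := @Bool.rec (fun _ => Nat) (Atab_s_282_293 c) (Atab_s_293_305 c) (Nat.ble 293 c)
noncomputable def Atab_s_306_308 (c : Nat) : Nat := @Bool.rec (fun _ => Nat) (Atab_306) (Atab_307) (Nat.ble 307 c)
noncomputable def Atab_s_305_308 (c : Nat) : Nat := @Bool.rec (fun _ => Nat) (Atab_305) (Atab_s_306_308 c) (Nat.ble 306 c)
noncomputable def Atab_s_309_311 (c : Nat) : Nat := @Bool.rec (fun _ => Nat) (Atab_309) (Atab_310) (Nat.ble 310 c)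
noncomputable def Atab_s_308_311 (c : Nat) : Nat := @Bool.rec (fun _ => Nat) (Atab_308) (Atab_s_309_311 c) (Nat.ble 309 c)
noncomputable def Atab_s_305_311 (c : Nat) : Nat := @Bool.rec (fun _ => Nat) (Atab_s_305_308 c) (Atab_s_308_311 c) (Nat.ble 308 c)
noncomputable def Atab_s_312_314 (c : Nat) : Nat := @Bool.rec (fun _ => Nat) (Atab_312) (Atab_313) (Nat.ble 313 c)
noncomputable def Atab_s_311_314 (c : Nat) : Nat := @Bool.rec (fun _ => Nat) (Atab_311) (Atab_s_312_314 c) (Nat.ble 312 c)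
noncomputable def Atab_s_315_317 (c : Nat) : Nat := @Bool.rec (fun _ => Nat) (Atab_315) (Atab_316) (Nat.ble 316 c)
noncomputable def Atab_s_314_317 (c : Nat) : Nat := @Bool.rec (fun _ => Nat) (Atab_314) (Atab_s_315_317 c) (Nat.ble 315 c)
noncomputable def Atab_s_311_317 (c : Nat) : Nat := @Bool.rec (fun _ => Nat) (Atab_s_311_314 c) (Atab_s_314_317 c) (Nat.ble 314 c)
noncomputable def Atab_s_305_317 (c : Nat) : Nat := @Bool.rec (fun _ => Nat) (Atab_s_305_311 c) (Atab_s_311_317 c) (Nat.ble 311 c)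
noncomputable def Atab_s_318_320 (c : Nat) : Nat := @Bool.rec (fun _ => Nat) (Atab_318) (Atab_319) (Nat.ble 319 c)
noncomputable def Atab_s_317_320 (c : Nat) : Nat := @Bool.rec (fun _ => Nat) (Atab_317) (Atab_s_318_320 c) (Nat.ble 318 c)
noncomputable def Atab_s_321_323 (c : Nat) : Nat := @Bool.rec (fun _ => Nat) (Atab_321) (Atab_322) (Nat.ble 322 c)
noncomputable def Atab_s_320_323 (c : Nat) : Nat := @Bool.rec (fun _ => Nat) (Atab_320) (Atab_s_321_323 c) (Nat.ble 321 c)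
noncomputable def Atab_s_317_323 (c : Nat) : Nat := @Bool.rec (fun _ => Nat) (Atab_s_317_320 c) (Atab_s_320_323 c) (Nat.ble 320 c)
noncomputable def Atab_s_324_326 (c : Nat) : Nat := @Bool.rec (fun _ => Nat) (Atab_324) (Atab_325) (Nat.ble 325 c)
noncomputable def Atab_s_323_326 (c : Nat) : Nat := @Bool.rec (fun _ => Nat) (Atab_323) (Atab_s_324_326 c) (Nat.ble 324 c)
noncomputable def Atab_s_327_329 (c : Nat) : Nat := @Bool.rec (fun _ => Nat) (Atab_327) (Atab_328) (Nat.ble 328 c)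
noncomputable def Atab_s_326_329 (c : Nat) : Nat := @Bool.rec (fun _ => Nat) (Atab_326) (Atab_s_327_329 c) (Nat.ble 327 c)
noncomputable def Atab_s_323_329 (c : Nat) : Nat := @Bool.rec (fun _ => Nat) (Atab_s_323_326 c) (Atab_s_326_329 c) (Nat.ble 326 c)
noncomputable def Atab_s_317_329 (c : Nat) : Nat := @Bool.rec (fun _ => Nat) (Atab_s_317_323 c) (Atab_s_323_329 c) (Nat.ble 323 c)
noncomputable def Atab_s_305_329 (c : Nat) : Nat := @Bool.rec (fun _ => Nat) (Atab_s_305_317 c) (Atab_s_317_329 c) (Nat.ble 317 c)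
noncomputable def Atab_s_282_329 (c : Nat) : Nat := @Bool.rec (fun _ => Nat) (Atab_s_282_305 c) (Atab_s_305_329 c) (Nat.ble 305 c)
noncomputable def Atab_s_329_331 (c : Nat) : Nat := @Bool.rec (fun _ => Nat) (Atab_329) (Atab_330) (Nat.ble 330 c)
noncomputable def Atab_s_332_334 (c : Nat) : Nat := @Bool.rec (fun _ => Nat) (Atab_332) (Atab_333) (Nat.ble 333 c)
noncomputable def Atab_s_331_334 (c : Nat) : Nat := @Bool.rec (fun _ => Nat) (Atab_331) (Atab_s_332_334 c) (Nat.ble 332 c)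
noncomputable def Atab_s_329_334 (c : Nat) : Nat := @Bool.rec (fun _ => Nat) (Atab_s_329_331 c) (Atab_s_331_334 c) (Nat.ble 331 c)
noncomputable def Atab_s_335_337 (c : Nat) : Nat := @Bool.rec (fun _ => Nat) (Atab_335) (Atab_336) (Nat.ble 336 c)
noncomputable def Atab_s_334_337 (c : Nat) : Nat := @Bool.rec (fun _ => Nat) (Atab_334) (Atab_s_335_337 c) (Nat.ble 335 c)
noncomputable def Atab_s_338_340 (c : Nat) : Nat := @Bool.rec (fun _ => Nat) (Atab_338) (Atab_339) (Nat.ble 339 c)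
noncomputable def Atab_s_337_340 (c : Nat) : Nat := @Bool.rec (fun _ => Nat) (Atab_337) (Atab_s_338_340 c) (Nat.ble 338 c)
noncomputable def Atab_s_334_340 (c : Nat) : Nat := @Bool.rec (fun _ => Nat) (Atab_s_334_337 c) (Atab_s_337_340 c) (Nat.ble 337 c)
noncomputable def Atab_s_329_340 (c : Nat) : Nat := @Bool.rec (fun _ => Nat) (Atab_s_329_334 c) (Atab_s_334_340 c) (Nat.ble 334 c)
noncomputable def Atab_s_341_343 (c : Nat) : Nat := @Bool.rec (fun _ => Nat) (Atab_341) (Atab_342) (Nat.ble 342 c)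
noncomputable def Atab_s_340_343 (c : Nat) : Nat := @Bool.rec (fun _ => Nat) (Atab_340) (Atab_s_341_343 c) (Nat.ble 341 c)
noncomputable def Atab_s_344_346 (c : Nat) : Nat := @Bool.rec (fun _ => Nat) (Atab_344) (Atab_345) (Nat.ble 345 c)
noncomputable def Atab_s_343_346 (c : Nat) : Nat := @Bool.rec (fun _ => Nat) (Atab_343) (Atab_s_344_346 c) (Nat.ble 344 c)
noncomputable def Atab_s_340_346 (c : Nat) : Nat := @Bool.rec (fun _ => Nat) (Atab_s_340_343 c) (Atab_s_343_346 c) (Nat.ble 343 c)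
noncomputable def Atab_s_347_349 (c : Nat) : Nat := @Bool.rec (fun _ => Nat) (Atab_347) (Atab_348) (Nat.ble 348 c)
noncomputable def Atab_s_346_349 (c : Nat) : Nat := @Bool.rec (fun _ => Nat) (Atab_346) (Atab_s_347_349 c) (Nat.ble 347 c)
noncomputable def Atab_s_350_352 (c : Nat) : Nat := @Bool.rec (fun _ => Nat) (Atab_350) (Atab_351) (Nat.ble 351 c)
noncomputable def Atab_s_349_352 (c : Nat) : Nat := @Bool.rec (fun _ => Nat) (Atab_349) (Atab_s_350_352 c) (Nat.ble 350 c)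
noncomputable def Atab_s_346_352 (c : Nat) : Nat := @Bool.rec (fun _ => Nat) (Atab_s_346_349 c) (Atab_s_349_352 c) (Nat.ble 349 c)
noncomputable def Atab_s_340_352 (c : Nat) : Nat := @Bool.rec (fun _ => Nat) (Atab_s_340_346 c) (Atab_s_346_352 c) (Nat.ble 346 c)
noncomputable def Atab_s_329_352 (c : Nat) : Nat := @Bool.rec (fun _ => Nat) (Atab_s_329_340 c) (Atab_s_340_352 c) (Nat.ble 340 c)
noncomputable def Atab_s_353_355 (c : Nat) : Nat := @Bool.rec (fun _ => Nat) (Atab_353) (Atab_354) (Nat.ble 354 c)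
noncomputable def Atab_s_352_355 (c : Nat) : Nat := @Bool.rec (fun _ => Nat) (Atab_352) (Atab_s_353_355 c) (Nat.ble 353 c)
noncomputable def Atab_s_356_358 (c : Nat) : Nat := @Bool.rec (fun _ => Nat) (Atab_356) (Atab_357) (Nat.ble 357 c)
noncomputable def Atab_s_355_358 (c : Nat) : Nat := @Bool.rec (fun _ => Nat) (Atab_355) (Atab_s_356_358 c) (Nat.ble 356 c)
noncomputable def Atab_s_352_358 (c : Nat) : Nat := @Bool.rec (fun _ => Nat) (Atab_s_352_355 c) (Atab_s_355_358 c) (Nat.ble 355 c)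
noncomputable def Atab_s_359_361 (c : Nat) : Nat := @Bool.rec (fun _ => Nat) (Atab_359) (Atab_360) (Nat.ble 360 c)
noncomputable def Atab_s_358_361 (c : Nat) : Nat := @Bool.rec (fun _ => Nat) (Atab_358) (Atab_s_359_361 c) (Nat.ble 359 c)
noncomputable def Atab_s_362_364 (c : Nat) : Nat := @Bool.rec (fun _ => Nat) (Atab_362) (Atab_363) (Nat.ble 363 c)
noncomputable def Atab_s_361_364 (c : Nat) : Nat := @Bool.rec (fun _ => Nat) (Atab_361) (Atab_s_362_364 c) (Nat.ble 362 c)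
noncomputable def Atab_s_358_364 (c : Nat) : Nat := @Bool.rec (fun _ => Nat) (Atab_s_358_361 c) (Atab_s_361_364 c) (Nat.ble 361 c)
noncomputable def Atab_s_352_364 (c : Nat) : Nat := @Bool.rec (fun _ => Nat) (Atab_s_352_358 c) (Atab_s_358_364 c) (Nat.ble 358 c)
noncomputable def Atab_s_365_367 (c : Nat) : Nat := @Bool.rec (fun _ => Nat) (Atab_365) (Atab_366) (Nat.ble 366 c)
noncomputable def Atab_s_364_367 (c : Nat) : Nat := @Bool.rec (fun _ => Nat) (Atab_364) (Atab_s_365_367 c) (Nat.ble 365 c)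
noncomputable def Atab_s_368_370 (c : Nat) : Nat := @Bool.rec (fun _ => Nat) (Atab_368) (Atab_369) (Nat.ble 369 c)
noncomputable def Atab_s_367_370 (c : Nat) : Nat := @Bool.rec (fun _ => Nat) (Atab_367) (Atab_s_368_370 c) (Nat.ble 368 c)
noncomputable def Atab_s_364_370 (c : Nat) : Nat := @Bool.rec (fun _ => Nat) (Atab_s_364_367 c) (Atab_s_367_370 c) (Nat.ble 367 c)
noncomputable def Atab_s_371_373 (c : Nat) : Nat := @Bool.rec (fun _ => Nat) (Atab_371) (Atab_372) (Nat.ble 372 c)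
noncomputable def Atab_s_370_373 (c : Nat) : Nat := @Bool.rec (fun _ => Nat) (Atab_370) (Atab_s_371_373 c) (Nat.ble 371 c)
noncomputable def Atab_s_374_376 (c : Nat) : Nat := @Bool.rec (fun _ => Nat) (Atab_374) (Atab_375) (Nat.ble 375 c)
noncomputable def Atab_s_373_376 (c : Nat) : Nat := @Bool.rec (fun _ => Nat) (Atab_373) (Atab_s_374_376 c) (Nat.ble 374 c)
noncomputable def Atab_s_370_376 (c : Nat) : Nat := @Bool.rec (fun _ => Nat) (Atab_s_370_373 c) (Atab_s_373_376 c) (Nat.ble 373 c)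
noncomputable def Atab_s_364_376 (c : Nat) : Nat := @Bool.rec (fun _ => Nat) (Atab_s_364_370 c) (Atab_s_370_376 c) (Nat.ble 370 c)
noncomputable def Atab_s_352_376 (c : Nat) : Nat := @Bool.rec (fun _ => Nat) (Atab_s_352_364 c) (Atab_s_364_376 c) (Nat.ble 364 c)
noncomputable def Atab_s_329_376 (c : Nat) : Nat := @Bool.rec (fun _ => Nat) (Atab_s_329_352 c) (Atab_s_352_376 c) (Nat.ble 352 c)
noncomputable def Atab_s_282_376 (c : Nat) : Nat := @Bool.rec (fun _ => Nat) (Atab_s_282_329 c) (Atab_s_329_376 c) (Nat.ble 329 c)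
noncomputable def Atab_s_188_376 (c : Nat) : Nat := @Bool.rec (fun _ => Nat) (Atab_s_188_282 c) (Atab_s_282_376 c) (Nat.ble 282 c)
noncomputable def Atab_s_0_376 (c : Nat) : Nat := @Bool.rec (fun _ => Nat) (Atab_s_0_188 c) (Atab_s_188_376 c) (Nat.ble 188 c)
noncomputable def Atab_s_376_378 (c : Nat) : Nat := @Bool.rec (fun _ => Nat) (Atab_376) (Atab_377) (Nat.ble 377 c)
noncomputable def Atab_s_379_381 (c : Nat) : Nat := @Bool.rec (fun _ => Nat) (Atab_379) (Atab_380) (Nat.ble 380 c)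
noncomputable def Atab_s_378_381 (c : Nat) : Nat := @Bool.rec (fun _ => Nat) (Atab_378) (Atab_s_379_381 c) (Nat.ble 379 c)
noncomputable def Atab_s_376_381 (c : Nat) : Nat := @Bool.rec (fun _ => Nat) (Atab_s_376_378 c) (Atab_s_378_381 c) (Nat.ble 378 c)
noncomputable def Atab_s_382_384 (c : Nat) : Nat := @Bool.rec (fun _ => Nat) (Atab_382) (Atab_383) (Nat.ble 383 c)
noncomputable def Atab_s_381_384 (c : Nat) : Nat := @Bool.rec (fun _ => Nat) (Atab_381) (Atab_s_382_384 c) (Nat.ble 382 c)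
noncomputable def Atab_s_385_387 (c : Nat) : Nat := @Bool.rec (fun _ => Nat) (Atab_385) (Atab_386) (Nat.ble 386 c)
noncomputable def Atab_s_384_387 (c : Nat) : Nat := @Bool.rec (fun _ => Nat) (Atab_384) (Atab_s_385_387 c) (Nat.ble 385 c)
noncomputable def Atab_s_381_387 (c : Nat) : Nat := @Bool.rec (fun _ => Nat) (Atab_s_381_384 c) (Atab_s_384_387 c) (Nat.ble 384 c)
noncomputable def Atab_s_376_387 (c : Nat) : Nat := @Bool.rec (fun _ => Nat) (Atab_s_376_381 c) (Atab_s_381_387 c) (Nat.ble 381 c)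
noncomputable def Atab_s_388_390 (c : Nat) : Nat := @Bool.rec (fun _ => Nat) (Atab_388) (Atab_389) (Nat.ble 389 c)
noncomputable def Atab_s_387_390 (c : Nat) : Nat := @Bool.rec (fun _ => Nat) (Atab_387) (Atab_s_388_390 c) (Nat.ble 388 c)
noncomputable def Atab_s_391_393 (c : Nat) : Nat := @Bool.rec (fun _ => Nat) (Atab_391) (Atab_392) (Nat.ble 392 c)
noncomputable def Atab_s_390_393 (c : Nat) : Nat := @Bool.rec (fun _ => Nat) (Atab_390) (Atab_s_391_393 c) (Nat.ble 391 c)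
noncomputable def Atab_s_387_393 (c : Nat) : Nat := @Bool.rec (fun _ => Nat) (Atab_s_387_390 c) (Atab_s_390_393 c) (Nat.ble 390 c)
noncomputable def Atab_s_394_396 (c : Nat) : Nat := @Bool.rec (fun _ => Nat) (Atab_394) (Atab_395) (Nat.ble 395 c)
noncomputable def Atab_s_393_396 (c : Nat) : Nat := @Bool.rec (fun _ => Nat) (Atab_393) (Atab_s_394_396 c) (Nat.ble 394 c)
noncomputable def Atab_s_397_399 (c : Nat) : Nat := @Bool.rec (fun _ => Nat) (Atab_397) (Atab_398) (Nat.ble 398 c)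
noncomputable def Atab_s_396_399 (c : Nat) : Nat := @Bool.rec (fun _ => Nat) (Atab_396) (Atab_s_397_399 c) (Nat.ble 397 c)
noncomputable def Atab_s_393_399 (c : Nat) : Nat := @Bool.rec (fun _ => Nat) (Atab_s_393_396 c) (Atab_s_396_399 c) (Nat.ble 396 c)
noncomputable def Atab_s_387_399 (c : Nat) : Nat := @Bool.rec (fun _ => Nat) (Atab_s_387_393 c) (Atab_s_393_399 c) (Nat.ble 393 c)
noncomputable def Atab_s_376_399 (c : Nat) : Nat := @Bool.rec (fun _ => Nat) (Atab_s_376_387 c) (Atab_s_387_399 c) (Nat.ble 387 c)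
noncomputable def Atab_s_400_402 (c : Nat) : Nat := @Bool.rec (fun _ => Nat) (Atab_400) (Atab_401) (Nat.ble 401 c)
noncomputable def Atab_s_399_402 (c : Nat) : Nat := @Bool.rec (fun _ => Nat) (Atab_399) (Atab_s_400_402 c) (Nat.ble 400 c)
noncomputable def Atab_s_403_405 (c : Nat) : Nat := @Bool.rec (fun _ => Nat) (Atab_403) (Atab_404) (Nat.ble 404 c)
noncomputable def Atab_s_402_405 (c : Nat) : Nat := @Bool.rec (fun _ => Nat) (Atab_402) (Atab_s_403_405 c) (Nat.ble 403 c)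
noncomputable def Atab_s_399_405 (c : Nat) : Nat := @Bool.rec (fun _ => Nat) (Atab_s_399_402 c) (Atab_s_402_405 c) (Nat.ble 402 c)
noncomputable def Atab_s_406_408 (c : Nat) : Nat := @Bool.rec (fun _ => Nat) (Atab_406) (Atab_407) (Nat.ble 407 c)
noncomputable def Atab_s_405_408 (c : Nat) : Nat := @Bool.rec (fun _ => Nat) (Atab_405) (Atab_s_406_408 c) (Nat.ble 406 c)
noncomputable def Atab_s_409_411 (c : Nat) : Nat := @Bool.rec (fun _ => Nat) (Atab_409) (Atab_410) (Nat.ble 410 c)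
noncomputable def Atab_s_408_411 (c : Nat) : Nat := @Bool.rec (fun _ => Nat) (Atab_408) (Atab_s_409_411 c) (Nat.ble 409 c)
noncomputable def Atab_s_405_411 (c : Nat) : Nat := @Bool.rec (fun _ => Nat) (Atab_s_405_408 c) (Atab_s_408_411 c) (Nat.ble 408 c)
noncomputable def Atab_s_399_411 (c : Nat) : Nat := @Bool.rec (fun _ => Nat) (Atab_s_399_405 c) (Atab_s_405_411 c) (Nat.ble 405 c)
noncomputable def Atab_s_412_414 (c : Nat) : Nat := @Bool.rec (fun _ => Nat) (Atab_412) (Atab_413) (Nat.ble 413 c)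
noncomputable def Atab_s_411_414 (c : Nat) : Nat := @Bool.rec (fun _ => Nat) (Atab_411) (Atab_s_412_414 c) (Nat.ble 412 c)
noncomputable def Atab_s_415_417 (c : Nat) : Nat := @Bool.rec (fun _ => Nat) (Atab_415) (Atab_416) (Nat.ble 416 c)
noncomputable def Atab_s_414_417 (c : Nat) : Nat := @Bool.rec (fun _ => Nat) (Atab_414) (Atab_s_415_417 c) (Nat.ble 415 c)
noncomputable def Atab_s_411_417 (c : Nat) : Nat := @Bool.rec (fun _ => Nat) (Atab_s_411_414 c) (Atab_s_414_417 c) (Nat.ble 414 c)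
noncomputable def Atab_s_418_420 (c : Nat) : Nat := @Bool.rec (fun _ => Nat) (Atab_418) (Atab_419) (Nat.ble 419 c)
noncomputable def Atab_s_417_420 (c : Nat) : Nat := @Bool.rec (fun _ => Nat) (Atab_417) (Atab_s_418_420 c) (Nat.ble 418 c)
noncomputable def Atab_s_421_423 (c : Nat) : Nat := @Bool.rec (fun _ => Nat) (Atab_421) (Atab_422) (Nat.ble 422 c)
noncomputable def Atab_s_420_423 (c : Nat) : Nat := @Bool.rec (fun _ => Nat) (Atab_420) (Atab_s_421_423 c) (Nat.ble 421 c)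
noncomputable def Atab_s_417_423 (c : Nat) : Nat := @Bool.rec (fun _ => Nat) (Atab_s_417_420 c) (Atab_s_420_423 c) (Nat.ble 420 c)
noncomputable def Atab_s_411_423 (c : Nat) : Nat := @Bool.rec (fun _ => Nat) (Atab_s_411_417 c) (Atab_s_417_423 c) (Nat.ble 417 c)
noncomputable def Atab_s_399_423 (c : Nat) : Nat := @Bool.rec (fun _ => Nat) (Atab_s_399_411 c) (Atab_s_411_423 c) (Nat.ble 411 c)
noncomputable def Atab_s_376_423 (c : Nat) : Nat := @Bool.rec (fun _ => Nat) (Atab_s_376_399 c) (Atab_s_399_423 c) (Nat.ble 399 c)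
noncomputable def Atab_s_423_425 (c : Nat) : Nat := @Bool.rec (fun _ => Nat) (Atab_423) (Atab_424) (Nat.ble 424 c)
noncomputable def Atab_s_426_428 (c : Nat) : Nat := @Bool.rec (fun _ => Nat) (Atab_426) (Atab_427) (Nat.ble 427 c)
noncomputable def Atab_s_425_428 (c : Nat) : Nat := @Bool.rec (fun _ => Nat) (Atab_425) (Atab_s_426_428 c) (Nat.ble 426 c)
noncomputable def Atab_s_423_428 (c : Nat) : Nat := @Bool.rec (fun _ => Nat) (Atab_s_423_425 c) (Atab_s_425_428 c) (Nat.ble 425 c)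
noncomputable def Atab_s_429_431 (c : Nat) : Nat := @Bool.rec (fun _ => Nat) (Atab_429) (Atab_430) (Nat.ble 430 c)
noncomputable def Atab_s_428_431 (c : Nat) : Nat := @Bool.rec (fun _ => Nat) (Atab_428) (Atab_s_429_431 c) (Nat.ble 429 c)
noncomputable def Atab_s_432_434 (c : Nat) : Nat := @Bool.rec (fun _ => Nat) (Atab_432) (Atab_433) (Nat.ble 433 c)
noncomputable def Atab_s_431_434 (c : Nat) : Nat := @Bool.rec (fun _ => Nat) (Atab_431) (Atab_s_432_434 c) (Nat.ble 432 c)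
noncomputable def Atab_s_428_434 (c : Nat) : Nat := @Bool.rec (fun _ => Nat) (Atab_s_428_431 c) (Atab_s_431_434 c) (Nat.ble 431 c)
noncomputable def Atab_s_423_434 (c : Nat) : Nat := @Bool.rec (fun _ => Nat) (Atab_s_423_428 c) (Atab_s_428_434 c) (Nat.ble 428 c)
noncomputable def Atab_s_435_437 (c : Nat) : Nat := @Bool.rec (fun _ => Nat) (Atab_435) (Atab_436) (Nat.ble 436 c)
noncomputable def Atab_s_434_437 (c : Nat) : Nat := @Bool.rec (fun _ => Nat) (Atab_434) (Atab_s_435_437 c) (Nat.ble 435 c)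
noncomputable def Atab_s_438_440 (c : Nat) : Nat := @Bool.rec (fun _ => Nat) (Atab_438) (Atab_439) (Nat.ble 439 c)
noncomputable def Atab_s_437_440 (c : Nat) : Nat := @Bool.rec (fun _ => Nat) (Atab_437) (Atab_s_438_440 c) (Nat.ble 438 c)
noncomputable def Atab_s_434_440 (c : Nat) : Nat := @Bool.rec (fun _ => Nat) (Atab_s_434_437 c) (Atab_s_437_440 c) (Nat.ble 437 c)
noncomputable def Atab_s_441_443 (c : Nat) : Nat := @Bool.rec (fun _ => Nat) (Atab_441) (Atab_442) (Nat.ble 442 c)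
noncomputable def Atab_s_440_443 (c : Nat) : Nat := @Bool.rec (fun _ => Nat) (Atab_440) (Atab_s_441_443 c) (Nat.ble 441 c)
noncomputable def Atab_s_444_446 (c : Nat) : Nat := @Bool.rec (fun _ => Nat) (Atab_444) (Atab_445) (Nat.ble 445 c)
noncomputable def Atab_s_443_446 (c : Nat) : Nat := @Bool.rec (fun _ => Nat) (Atab_443) (Atab_s_444_446 c) (Nat.ble 444 c)
noncomputable def Atab_s_440_446 (c : Nat) : Nat := @Bool.rec (fun _ => Nat) (Atab_s_440_443 c) (Atab_s_443_446 c) (Nat.ble 443 c)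
noncomputable def Atab_s_434_446 (c : Nat) : Nat := @Bool.rec (fun _ => Nat) (Atab_s_434_440 c) (Atab_s_440_446 c) (Nat.ble 440 c)
noncomputable def Atab_s_423_446 (c : Nat) : Nat := @Bool.rec (fun _ => Nat) (Atab_s_423_434 c) (Atab_s_434_446 c) (Nat.ble 434 c)
noncomputable def Atab_s_447_449 (c : Nat) : Nat := @Bool.rec (fun _ => Nat) (Atab_447) (Atab_448) (Nat.ble 448 c)
noncomputable def Atab_s_446_449 (c : Nat) : Nat := @Bool.rec (fun _ => Nat) (Atab_446) (Atab_s_447_449 c) (Nat.ble 447 c)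
noncomputable def Atab_s_450_452 (c : Nat) : Nat := @Bool.rec (fun _ => Nat) (Atab_450) (Atab_451) (Nat.ble 451 c)
noncomputable def Atab_s_449_452 (c : Nat) : Nat := @Bool.rec (fun _ => Nat) (Atab_449) (Atab_s_450_452 c) (Nat.ble 450 c)
noncomputable def Atab_s_446_452 (c : Nat) : Nat := @Bool.rec (fun _ => Nat) (Atab_s_446_449 c) (Atab_s_449_452 c) (Nat.ble 449 c)
noncomputable def Atab_s_453_455 (c : Nat) : Nat := @Bool.rec (fun _ => Nat) (Atab_453) (Atab_454) (Nat.ble 454 c)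
noncomputable def Atab_s_452_455 (c : Nat) : Nat := @Bool.rec (fun _ => Nat) (Atab_452) (Atab_s_453_455 c) (Nat.ble 453 c)
noncomputable def Atab_s_456_458 (c : Nat) : Nat := @Bool.rec (fun _ => Nat) (Atab_456) (Atab_457) (Nat.ble 457 c)
noncomputable def Atab_s_455_458 (c : Nat) : Nat := @Bool.rec (fun _ => Nat) (Atab_455) (Atab_s_456_458 c) (Nat.ble 456 c)
noncomputable def Atab_s_452_458 (c : Nat) : Nat := @Bool.rec (fun _ => Nat) (Atab_s_452_455 c) (Atab_s_455_458 c) (Nat.ble 455 c)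
noncomputable def Atab_s_446_458 (c : Nat) : Nat := @Bool.rec (fun _ => Nat) (Atab_s_446_452 c) (Atab_s_452_458 c) (Nat.ble 452 c)
noncomputable def Atab_s_459_461 (c : Nat) : Nat := @Bool.rec (fun _ => Nat) (Atab_459) (Atab_460) (Nat.ble 460 c)
noncomputable def Atab_s_458_461 (c : Nat) : Nat := @Bool.rec (fun _ => Nat) (Atab_458) (Atab_s_459_461 c) (Nat.ble 459 c)
noncomputable def Atab_s_462_464 (c : Nat) : Nat := @Bool.rec (fun _ => Nat) (Atab_462) (Atab_463) (Nat.ble 463 c)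
noncomputable def Atab_s_461_464 (c : Nat) : Nat := @Bool.rec (fun _ => Nat) (Atab_461) (Atab_s_462_464 c) (Nat.ble 462 c)
noncomputable def Atab_s_458_464 (c : Nat) : Nat := @Bool.rec (fun _ => Nat) (Atab_s_458_461 c) (Atab_s_461_464 c) (Nat.ble 461 c)
noncomputable def Atab_s_465_467 (c : Nat) : Nat := @Bool.rec (fun _ => Nat) (Atab_465) (Atab_466) (Nat.ble 466 c)
noncomputable def Atab_s_464_467 (c : Nat) : Nat := @Bool.rec (fun _ => Nat) (Atab_464) (Atab_s_465_467 c) (Nat.ble 465 c)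
noncomputable def Atab_s_468_470 (c : Nat) : Nat := @Bool.rec (fun _ => Nat) (Atab_468) (Atab_469) (Nat.ble 469 c)
noncomputable def Atab_s_467_470 (c : Nat) : Nat := @Bool.rec (fun _ => Nat) (Atab_467) (Atab_s_468_470 c) (Nat.ble 468 c)
noncomputable def Atab_s_464_470 (c : Nat) : Nat := @Bool.rec (fun _ => Nat) (Atab_s_464_467 c) (Atab_s_467_470 c) (Nat.ble 467 c)
noncomputable def Atab_s_458_470 (c : Nat) : Nat := @Bool.rec (fun _ => Nat) (Atab_s_458_464 c) (Atab_s_464_470 c) (Nat.ble 464 c)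
noncomputable def Atab_s_446_470 (c : Nat) : Nat := @Bool.rec (fun _ => Nat) (Atab_s_446_458 c) (Atab_s_458_470 c) (Nat.ble 458 c)
noncomputable def Atab_s_423_470 (c : Nat) : Nat := @Bool.rec (fun _ => Nat) (Atab_s_423_446 c) (Atab_s_446_470 c) (Nat.ble 446 c)
noncomputable def Atab_s_376_470 (c : Nat) : Nat := @Bool.rec (fun _ => Nat) (Atab_s_376_423 c) (Atab_s_423_470 c) (Nat.ble 423 c)
noncomputable def Atab_s_470_472 (c : Nat) : Nat := @Bool.rec (fun _ => Nat) (Atab_470) (Atab_471) (Nat.ble 471 c)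
noncomputable def Atab_s_473_475 (c : Nat) : Nat := @Bool.rec (fun _ => Nat) (Atab_473) (Atab_474) (Nat.ble 474 c)
noncomputable def Atab_s_472_475 (c : Nat) : Nat := @Bool.rec (fun _ => Nat) (Atab_472) (Atab_s_473_475 c) (Nat.ble 473 c)
noncomputable def Atab_s_470_475 (c : Nat) : Nat := @Bool.rec (fun _ => Nat) (Atab_s_470_472 c) (Atab_s_472_475 c) (Nat.ble 472 c)
noncomputable def Atab_s_476_478 (c : Nat) : Nat := @Bool.rec (fun _ => Nat) (Atab_476) (Atab_477) (Nat.ble 477 c)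
noncomputable def Atab_s_475_478 (c : Nat) : Nat := @Bool.rec (fun _ => Nat) (Atab_475) (Atab_s_476_478 c) (Nat.ble 476 c)
noncomputable def Atab_s_479_481 (c : Nat) : Nat := @Bool.rec (fun _ => Nat) (Atab_479) (Atab_480) (Nat.ble 480 c)
noncomputable def Atab_s_478_481 (c : Nat) : Nat := @Bool.rec (fun _ => Nat) (Atab_478) (Atab_s_479_481 c) (Nat.ble 479 c)
noncomputable def Atab_s_475_481 (c : Nat) : Nat := @Bool.rec (fun _ => Nat) (Atab_s_475_478 c) (Atab_s_478_481 c) (Nat.ble 478 c)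
noncomputable def Atab_s_470_481 (c : Nat) : Nat := @Bool.rec (fun _ => Nat) (Atab_s_470_475 c) (Atab_s_475_481 c) (Nat.ble 475 c)
noncomputable def Atab_s_482_484 (c : Nat) : Nat := @Bool.rec (fun _ => Nat) (Atab_482) (Atab_483) (Nat.ble 483 c)
noncomputable def Atab_s_481_484 (c : Nat) : Nat := @Bool.rec (fun _ => Nat) (Atab_481) (Atab_s_482_484 c) (Nat.ble 482 c)
noncomputable def Atab_s_485_487 (c : Nat) : Nat := @Bool.rec (fun _ => Nat) (Atab_485) (Atab_486) (Nat.ble 486 c)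
noncomputable def Atab_s_484_487 (c : Nat) : Nat := @Bool.rec (fun _ => Nat) (Atab_484) (Atab_s_485_487 c) (Nat.ble 485 c)
noncomputable def Atab_s_481_487 (c : Nat) : Nat := @Bool.rec (fun _ => Nat) (Atab_s_481_484 c) (Atab_s_484_487 c) (Nat.ble 484 c)
noncomputable def Atab_s_488_490 (c : Nat) : Nat := @Bool.rec (fun _ => Nat) (Atab_488) (Atab_489) (Nat.ble 489 c)
noncomputable def Atab_s_487_490 (c : Nat) : Nat := @Bool.rec (fun _ => Nat) (Atab_487) (Atab_s_488_490 c) (Nat.ble 488 c)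
noncomputable def Atab_s_491_493 (c : Nat) : Nat := @Bool.rec (fun _ => Nat) (Atab_491) (Atab_492) (Nat.ble 492 c)
noncomputable def Atab_s_490_493 (c : Nat) : Nat := @Bool.rec (fun _ => Nat) (Atab_490) (Atab_s_491_493 c) (Nat.ble 491 c)
noncomputable def Atab_s_487_493 (c : Nat) : Nat := @Bool.rec (fun _ => Nat) (Atab_s_487_490 c) (Atab_s_490_493 c) (Nat.ble 490 c)
noncomputable def Atab_s_481_493 (c : Nat) : Nat := @Bool.rec (fun _ => Nat) (Atab_s_481_487 c) (Atab_s_487_493 c) (Nat.ble 487 c)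
noncomputable def Atab_s_470_493 (c : Nat) : Nat := @Bool.rec (fun _ => Nat) (Atab_s_470_481 c) (Atab_s_481_493 c) (Nat.ble 481 c)
noncomputable def Atab_s_494_496 (c : Nat) : Nat := @Bool.rec (fun _ => Nat) (Atab_494) (Atab_495) (Nat.ble 495 c)
noncomputable def Atab_s_493_496 (c : Nat) : Nat := @Bool.rec (fun _ => Nat) (Atab_493) (Atab_s_494_496 c) (Nat.ble 494 c)
noncomputable def Atab_s_497_499 (c : Nat) : Nat := @Bool.rec (fun _ => Nat) (Atab_497) (Atab_498) (Nat.ble 498 c)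
noncomputable def Atab_s_496_499 (c : Nat) : Nat := @Bool.rec (fun _ => Nat) (Atab_496) (Atab_s_497_499 c) (Nat.ble 497 c)
noncomputable def Atab_s_493_499 (c : Nat) : Nat := @Bool.rec (fun _ => Nat) (Atab_s_493_496 c) (Atab_s_496_499 c) (Nat.ble 496 c)
noncomputable def Atab_s_500_502 (c : Nat) : Nat := @Bool.rec (fun _ => Nat) (Atab_500) (Atab_501) (Nat.ble 501 c)
noncomputable def Atab_s_499_502 (c : Nat) : Nat := @Bool.rec (fun _ => Nat) (Atab_499) (Atab_s_500_502 c) (Nat.ble 500 c)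
noncomputable def Atab_s_503_505 (c : Nat) : Nat := @Bool.rec (fun _ => Nat) (Atab_503) (Atab_504) (Nat.ble 504 c)
noncomputable def Atab_s_502_505 (c : Nat) : Nat := @Bool.rec (fun _ => Nat) (Atab_502) (Atab_s_503_505 c) (Nat.ble 503 c)
noncomputable def Atab_s_499_505 (c : Nat) : Nat := @Bool.rec (fun _ => Nat) (Atab_s_499_502 c) (Atab_s_502_505 c) (Nat.ble 502 c)
noncomputable def Atab_s_493_505 (c : Nat) : Nat := @Bool.rec (fun _ => Nat) (Atab_s_493_499 c) (Atab_s_499_505 c) (Nat.ble 499 c)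
noncomputable def Atab_s_506_508 (c : Nat) : Nat := @Bool.rec (fun _ => Nat) (Atab_506) (Atab_507) (Nat.ble 507 c)
noncomputable def Atab_s_505_508 (c : Nat) : Nat := @Bool.rec (fun _ => Nat) (Atab_505) (Atab_s_506_508 c) (Nat.ble 506 c)
noncomputable def Atab_s_509_511 (c : Nat) : Nat := @Bool.rec (fun _ => Nat) (Atab_509) (Atab_510) (Nat.ble 510 c)
noncomputable def Atab_s_508_511 (c : Nat) : Nat := @Bool.rec (fun _ => Nat) (Atab_508) (Atab_s_509_511 c) (Nat.ble 509 c)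
noncomputable def Atab_s_505_511 (c : Nat) : Nat := @Bool.rec (fun _ => Nat) (Atab_s_505_508 c) (Atab_s_508_511 c) (Nat.ble 508 c)
noncomputable def Atab_s_512_514 (c : Nat) : Nat := @Bool.rec (fun _ => Nat) (Atab_512) (Atab_513) (Nat.ble 513 c)
noncomputable def Atab_s_511_514 (c : Nat) : Nat := @Bool.rec (fun _ => Nat) (Atab_511) (Atab_s_512_514 c) (Nat.ble 512 c)
noncomputable def Atab_s_515_517 (c : Nat) : Nat := @Bool.rec (fun _ => Nat) (Atab_515) (Atab_516) (Nat.ble 516 c)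
noncomputable def Atab_s_514_517 (c : Nat) : Nat := @Bool.rec (fun _ => Nat) (Atab_514) (Atab_s_515_517 c) (Nat.ble 515 c)
noncomputable def Atab_s_511_517 (c : Nat) : Nat := @Bool.rec (fun _ => Nat) (Atab_s_511_514 c) (Atab_s_514_517 c) (Nat.ble 514 c)
noncomputable def Atab_s_505_517 (c : Nat) : Nat := @Bool.rec (fun _ => Nat) (Atab_s_505_511 c) (Atab_s_511_517 c) (Nat.ble 511 c)
noncomputable def Atab_s_493_517 (c : Nat) : Nat := @Bool.rec (fun _ => Nat) (Atab_s_493_505 c) (Atab_s_505_517 c) (Nat.ble 505 c)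
noncomputable def Atab_s_470_517 (c : Nat) : Nat := @Bool.rec (fun _ => Nat) (Atab_s_470_493 c) (Atab_s_493_517 c) (Nat.ble 493 c)
noncomputable def Atab_s_517_519 (c : Nat) : Nat := @Bool.rec (fun _ => Nat) (Atab_517) (Atab_518) (Nat.ble 518 c)
noncomputable def Atab_s_520_522 (c : Nat) : Nat := @Bool.rec (fun _ => Nat) (Atab_520) (Atab_521) (Nat.ble 521 c)
noncomputable def Atab_s_519_522 (c : Nat) : Nat := @Bool.rec (fun _ => Nat) (Atab_519) (Atab_s_520_522 c) (Nat.ble 520 c)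
noncomputable def Atab_s_517_522 (c : Nat) : Nat := @Bool.rec (fun _ => Nat) (Atab_s_517_519 c) (Atab_s_519_522 c) (Nat.ble 519 c)
noncomputable def Atab_s_523_525 (c : Nat) : Nat := @Bool.rec (fun _ => Nat) (Atab_523) (Atab_524) (Nat.ble 524 c)
noncomputable def Atab_s_522_525 (c : Nat) : Nat := @Bool.rec (fun _ => Nat) (Atab_522) (Atab_s_523_525 c) (Nat.ble 523 c)
noncomputable def Atab_s_526_528 (c : Nat) : Nat := @Bool.rec (fun _ => Nat) (Atab_526) (Atab_527) (Nat.ble 527 c)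
noncomputable def Atab_s_525_528 (c : Nat) : Nat := @Bool.rec (fun _ => Nat) (Atab_525) (Atab_s_526_528 c) (Nat.ble 526 c)
noncomputable def Atab_s_522_528 (c : Nat) : Nat := @Bool.rec (fun _ => Nat) (Atab_s_522_525 c) (Atab_s_525_528 c) (Nat.ble 525 c)
noncomputable def Atab_s_517_528 (c : Nat) : Nat := @Bool.rec (fun _ => Nat) (Atab_s_517_522 c) (Atab_s_522_528 c) (Nat.ble 522 c)
noncomputable def Atab_s_529_531 (c : Nat) : Nat := @Bool.rec (fun _ => Nat) (Atab_529) (Atab_530) (Nat.ble 530 c)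
noncomputable def Atab_s_528_531 (c : Nat) : Nat := @Bool.rec (fun _ => Nat) (Atab_528) (Atab_s_529_531 c) (Nat.ble 529 c)
noncomputable def Atab_s_532_534 (c : Nat) : Nat := @Bool.rec (fun _ => Nat) (Atab_532) (Atab_533) (Nat.ble 533 c)
noncomputable def Atab_s_531_534 (c : Nat) : Nat := @Bool.rec (fun _ => Nat) (Atab_531) (Atab_s_532_534 c) (Nat.ble 532 c)
noncomputable def Atab_s_528_534 (c : Nat) : Nat := @Bool.rec (fun _ => Nat) (Atab_s_528_531 c) (Atab_s_531_534 c) (Nat.ble 531 c)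
noncomputable def Atab_s_535_537 (c : Nat) : Nat := @Bool.rec (fun _ => Nat) (Atab_535) (Atab_536) (Nat.ble 536 c)
noncomputable def Atab_s_534_537 (c : Nat) : Nat := @Bool.rec (fun _ => Nat) (Atab_534) (Atab_s_535_537 c) (Nat.ble 535 c)
noncomputable def Atab_s_538_540 (c : Nat) : Nat := @Bool.rec (fun _ => Nat) (Atab_538) (Atab_539) (Nat.ble 539 c)
noncomputable def Atab_s_537_540 (c : Nat) : Nat := @Bool.rec (fun _ => Nat) (Atab_537) (Atab_s_538_540 c) (Nat.ble 538 c)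
noncomputable def Atab_s_534_540 (c : Nat) : Nat := @Bool.rec (fun _ => Nat) (Atab_s_534_537 c) (Atab_s_537_540 c) (Nat.ble 537 c)
noncomputable def Atab_s_528_540 (c : Nat) : Nat := @Bool.rec (fun _ => Nat) (Atab_s_528_534 c) (Atab_s_534_540 c) (Nat.ble 534 c)
noncomputable def Atab_s_517_540 (c : Nat) : Nat := @Bool.rec (fun _ => Nat) (Atab_s_517_528 c) (Atab_s_528_540 c) (Nat.ble 528 c)
noncomputable def Atab_s_541_543 (c : Nat) : Nat := @Bool.rec (fun _ => Nat) (Atab_541) (Atab_542) (Nat.ble 542 c)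
noncomputable def Atab_s_540_543 (c : Nat) : Nat := @Bool.rec (fun _ => Nat) (Atab_540) (Atab_s_541_543 c) (Nat.ble 541 c)
noncomputable def Atab_s_544_546 (c : Nat) : Nat := @Bool.rec (fun _ => Nat) (Atab_544) (Atab_545) (Nat.ble 545 c)
noncomputable def Atab_s_543_546 (c : Nat) : Nat := @Bool.rec (fun _ => Nat) (Atab_543) (Atab_s_544_546 c) (Nat.ble 544 c)
noncomputable def Atab_s_540_546 (c : Nat) : Nat := @Bool.rec (fun _ => Nat) (Atab_s_540_543 c) (Atab_s_543_546 c) (Nat.ble 543 c)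
noncomputable def Atab_s_547_549 (c : Nat) : Nat := @Bool.rec (fun _ => Nat) (Atab_547) (Atab_548) (Nat.ble 548 c)
noncomputable def Atab_s_546_549 (c : Nat) : Nat := @Bool.rec (fun _ => Nat) (Atab_546) (Atab_s_547_549 c) (Nat.ble 547 c)
noncomputable def Atab_s_550_552 (c : Nat) : Nat := @Bool.rec (fun _ => Nat) (Atab_550) (Atab_551) (Nat.ble 551 c)
noncomputable def Atab_s_549_552 (c : Nat) : Nat := @Bool.rec (fun _ => Nat) (Atab_549) (Atab_s_550_552 c) (Nat.ble 550 c)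
noncomputable def Atab_s_546_552 (c : Nat) : Nat := @Bool.rec (fun _ => Nat) (Atab_s_546_549 c) (Atab_s_549_552 c) (Nat.ble 549 c)
noncomputable def Atab_s_540_552 (c : Nat) : Nat := @Bool.rec (fun _ => Nat) (Atab_s_540_546 c) (Atab_s_546_552 c) (Nat.ble 546 c)
noncomputable def Atab_s_553_555 (c : Nat) : Nat := @Bool.rec (fun _ => Nat) (Atab_553) (Atab_554) (Nat.ble 554 c)
noncomputable def Atab_s_552_555 (c : Nat) : Nat := @Bool.rec (fun _ => Nat) (Atab_552) (Atab_s_553_555 c) (Nat.ble 553 c)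
noncomputable def Atab_s_556_558 (c : Nat) : Nat := @Bool.rec (fun _ => Nat) (Atab_556) (Atab_557) (Nat.ble 557 c)
noncomputable def Atab_s_555_558 (c : Nat) : Nat := @Bool.rec (fun _ => Nat) (Atab_555) (Atab_s_556_558 c) (Nat.ble 556 c)
noncomputable def Atab_s_552_558 (c : Nat) : Nat := @Bool.rec (fun _ => Nat) (Atab_s_552_555 c) (Atab_s_555_558 c) (Nat.ble 555 c)
noncomputable def Atab_s_559_561 (c : Nat) : Nat := @Bool.rec (fun _ => Nat) (Atab_559) (Atab_560) (Nat.ble 560 c)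
noncomputable def Atab_s_558_561 (c : Nat) : Nat := @Bool.rec (fun _ => Nat) (Atab_558) (Atab_s_559_561 c) (Nat.ble 559 c)
noncomputable def Atab_s_562_564 (c : Nat) : Nat := @Bool.rec (fun _ => Nat) (Atab_562) (Atab_563) (Nat.ble 563 c)
noncomputable def Atab_s_561_564 (c : Nat) : Nat := @Bool.rec (fun _ => Nat) (Atab_561) (Atab_s_562_564 c) (Nat.ble 562 c)
noncomputable def Atab_s_558_564 (c : Nat) : Nat := @Bool.rec (fun _ => Nat) (Atab_s_558_561 c) (Atab_s_561_564 c) (Nat.ble 561 c)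
noncomputable def Atab_s_552_564 (c : Nat) : Nat := @Bool.rec (fun _ => Nat) (Atab_s_552_558 c) (Atab_s_558_564 c) (Nat.ble 558 c)
noncomputable def Atab_s_540_564 (c : Nat) : Nat := @Bool.rec (fun _ => Nat) (Atab_s_540_552 c) (Atab_s_552_564 c) (Nat.ble 552 c)
noncomputable def Atab_s_517_564 (c : Nat) : Nat := @Bool.rec (fun _ => Nat) (Atab_s_517_540 c) (Atab_s_540_564 c) (Nat.ble 540 c)
noncomputable def Atab_s_470_564 (c : Nat) : Nat := @Bool.rec (fun _ => Nat) (Atab_s_470_517 c) (Atab_s_517_564 c) (Nat.ble 517 c)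
noncomputable def Atab_s_376_564 (c : Nat) : Nat := @Bool.rec (fun _ => Nat) (Atab_s_376_470 c) (Atab_s_470_564 c) (Nat.ble 470 c)
noncomputable def Atab_s_564_566 (c : Nat) : Nat := @Bool.rec (fun _ => Nat) (Atab_564) (Atab_565) (Nat.ble 565 c)
noncomputable def Atab_s_567_569 (c : Nat) : Nat := @Bool.rec (fun _ => Nat) (Atab_567) (Atab_568) (Nat.ble 568 c)
noncomputable def Atab_s_566_569 (c : Nat) : Nat := @Bool.rec (fun _ => Nat) (Atab_566) (Atab_s_567_569 c) (Nat.ble 567 c)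
noncomputable def Atab_s_564_569 (c : Nat) : Nat := @Bool.rec (fun _ => Nat) (Atab_s_564_566 c) (Atab_s_566_569 c) (Nat.ble 566 c)
noncomputable def Atab_s_570_572 (c : Nat) : Nat := @Bool.rec (fun _ => Nat) (Atab_570) (Atab_571) (Nat.ble 571 c)
noncomputable def Atab_s_569_572 (c : Nat) : Nat := @Bool.rec (fun _ => Nat) (Atab_569) (Atab_s_570_572 c) (Nat.ble 570 c)
noncomputable def Atab_s_573_575 (c : Nat) : Nat := @Bool.rec (fun _ => Nat) (Atab_573) (Atab_574) (Nat.ble 574 c)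
noncomputable def Atab_s_572_575 (c : Nat) : Nat := @Bool.rec (fun _ => Nat) (Atab_572) (Atab_s_573_575 c) (Nat.ble 573 c)
noncomputable def Atab_s_569_575 (c : Nat) : Nat := @Bool.rec (fun _ => Nat) (Atab_s_569_572 c) (Atab_s_572_575 c) (Nat.ble 572 c)
noncomputable def Atab_s_564_575 (c : Nat) : Nat := @Bool.rec (fun _ => Nat) (Atab_s_564_569 c) (Atab_s_569_575 c) (Nat.ble 569 c)
noncomputable def Atab_s_576_578 (c : Nat) : Nat := @Bool.rec (fun _ => Nat) (Atab_576) (Atab_577) (Nat.ble 577 c)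
noncomputable def Atab_s_575_578 (c : Nat) : Nat := @Bool.rec (fun _ => Nat) (Atab_575) (Atab_s_576_578 c) (Nat.ble 576 c)
noncomputable def Atab_s_579_581 (c : Nat) : Nat := @Bool.rec (fun _ => Nat) (Atab_579) (Atab_580) (Nat.ble 580 c)
noncomputable def Atab_s_578_581 (c : Nat) : Nat := @Bool.rec (fun _ => Nat) (Atab_578) (Atab_s_579_581 c) (Nat.ble 579 c)
noncomputable def Atab_s_575_581 (c : Nat) : Nat := @Bool.rec (fun _ => Nat) (Atab_s_575_578 c) (Atab_s_578_581 c) (Nat.ble 578 c)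
noncomputable def Atab_s_582_584 (c : Nat) : Nat := @Bool.rec (fun _ => Nat) (Atab_582) (Atab_583) (Nat.ble 583 c)
noncomputable def Atab_s_581_584 (c : Nat) : Nat := @Bool.rec (fun _ => Nat) (Atab_581) (Atab_s_582_584 c) (Nat.ble 582 c)
noncomputable def Atab_s_585_587 (c : Nat) : Nat := @Bool.rec (fun _ => Nat) (Atab_585) (Atab_586) (Nat.ble 586 c)
noncomputable def Atab_s_584_587 (c : Nat) : Nat := @Bool.rec (fun _ => Nat) (Atab_584) (Atab_s_585_587 c) (Nat.ble 585 c)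
noncomputable def Atab_s_581_587 (c : Nat) : Nat := @Bool.rec (fun _ => Nat) (Atab_s_581_584 c) (Atab_s_584_587 c) (Nat.ble 584 c)
noncomputable def Atab_s_575_587 (c : Nat) : Nat := @Bool.rec (fun _ => Nat) (Atab_s_575_581 c) (Atab_s_581_587 c) (Nat.ble 581 c)
noncomputable def Atab_s_564_587 (c : Nat) : Nat := @Bool.rec (fun _ => Nat) (Atab_s_564_575 c) (Atab_s_575_587 c) (Nat.ble 575 c)
noncomputable def Atab_s_588_590 (c : Nat) : Nat := @Bool.rec (fun _ => Nat) (Atab_588) (Atab_589) (Nat.ble 589 c)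
noncomputable def Atab_s_587_590 (c : Nat) : Nat := @Bool.rec (fun _ => Nat) (Atab_587) (Atab_s_588_590 c) (Nat.ble 588 c)
noncomputable def Atab_s_591_593 (c : Nat) : Nat := @Bool.rec (fun _ => Nat) (Atab_591) (Atab_592) (Nat.ble 592 c)
noncomputable def Atab_s_590_593 (c : Nat) : Nat := @Bool.rec (fun _ => Nat) (Atab_590) (Atab_s_591_593 c) (Nat.ble 591 c)
noncomputable def Atab_s_587_593 (c : Nat) : Nat := @Bool.rec (fun _ => Nat) (Atab_s_587_590 c) (Atab_s_590_593 c) (Nat.ble 590 c)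
noncomputable def Atab_s_594_596 (c : Nat) : Nat := @Bool.rec (fun _ => Nat) (Atab_594) (Atab_595) (Nat.ble 595 c)
noncomputable def Atab_s_593_596 (c : Nat) : Nat := @Bool.rec (fun _ => Nat) (Atab_593) (Atab_s_594_596 c) (Nat.ble 594 c)
noncomputable def Atab_s_597_599 (c : Nat) : Nat := @Bool.rec (fun _ => Nat) (Atab_597) (Atab_598) (Nat.ble 598 c)
noncomputable def Atab_s_596_599 (c : Nat) : Nat := @Bool.rec (fun _ => Nat) (Atab_596) (Atab_s_597_599 c) (Nat.ble 597 c)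
noncomputable def Atab_s_593_599 (c : Nat) : Nat := @Bool.rec (fun _ => Nat) (Atab_s_593_596 c) (Atab_s_596_599 c) (Nat.ble 596 c)
noncomputable def Atab_s_587_599 (c : Nat) : Nat := @Bool.rec (fun _ => Nat) (Atab_s_587_593 c) (Atab_s_593_599 c) (Nat.ble 593 c)
noncomputable def Atab_s_600_602 (c : Nat) : Nat := @Bool.rec (fun _ => Nat) (Atab_600) (Atab_601) (Nat.ble 601 c)
noncomputable def Atab_s_599_602 (c : Nat) : Nat := @Bool.rec (fun _ => Nat) (Atab_599) (Atab_s_600_602 c) (Nat.ble 600 c)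
noncomputable def Atab_s_603_605 (c : Nat) : Nat := @Bool.rec (fun _ => Nat) (Atab_603) (Atab_604) (Nat.ble 604 c)
noncomputable def Atab_s_602_605 (c : Nat) : Nat := @Bool.rec (fun _ => Nat) (Atab_602) (Atab_s_603_605 c) (Nat.ble 603 c)
noncomputable def Atab_s_599_605 (c : Nat) : Nat := @Bool.rec (fun _ => Nat) (Atab_s_599_602 c) (Atab_s_602_605 c) (Nat.ble 602 c)
noncomputable def Atab_s_606_608 (c : Nat) : Nat := @Bool.rec (fun _ => Nat) (Atab_606) (Atab_607) (Nat.ble 607 c)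
noncomputable def Atab_s_605_608 (c : Nat) : Nat := @Bool.rec (fun _ => Nat) (Atab_605) (Atab_s_606_608 c) (Nat.ble 606 c)
noncomputable def Atab_s_609_611 (c : Nat) : Nat := @Bool.rec (fun _ => Nat) (Atab_609) (Atab_610) (Nat.ble 610 c)
noncomputable def Atab_s_608_611 (c : Nat) : Nat := @Bool.rec (fun _ => Nat) (Atab_608) (Atab_s_609_611 c) (Nat.ble 609 c)
noncomputable def Atab_s_605_611 (c : Nat) : Nat := @Bool.rec (fun _ => Nat) (Atab_s_605_608 c) (Atab_s_608_611 c) (Nat.ble 608 c)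
noncomputable def Atab_s_599_611 (c : Nat) : Nat := @Bool.rec (fun _ => Nat) (Atab_s_599_605 c) (Atab_s_605_611 c) (Nat.ble 605 c)
noncomputable def Atab_s_587_611 (c : Nat) : Nat := @Bool.rec (fun _ => Nat) (Atab_s_587_599 c) (Atab_s_599_611 c) (Nat.ble 599 c)
noncomputable def Atab_s_564_611 (c : Nat) : Nat := @Bool.rec (fun _ => Nat) (Atab_s_564_587 c) (Atab_s_587_611 c) (Nat.ble 587 c)
noncomputable def Atab_s_611_613 (c : Nat) : Nat := @Bool.rec (fun _ => Nat) (Atab_611) (Atab_612) (Nat.ble 612 c)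
noncomputable def Atab_s_614_616 (c : Nat) : Nat := @Bool.rec (fun _ => Nat) (Atab_614) (Atab_615) (Nat.ble 615 c)
noncomputable def Atab_s_613_616 (c : Nat) : Nat := @Bool.rec (fun _ => Nat) (Atab_613) (Atab_s_614_616 c) (Nat.ble 614 c)
noncomputable def Atab_s_611_616 (c : Nat) : Nat := @Bool.rec (fun _ => Nat) (Atab_s_611_613 c) (Atab_s_613_616 c) (Nat.ble 613 c)
noncomputable def Atab_s_617_619 (c : Nat) : Nat := @Bool.rec (fun _ => Nat) (Atab_617) (Atab_618) (Nat.ble 618 c)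
noncomputable def Atab_s_616_619 (c : Nat) : Nat := @Bool.rec (fun _ => Nat) (Atab_616) (Atab_s_617_619 c) (Nat.ble 617 c)
noncomputable def Atab_s_620_622 (c : Nat) : Nat := @Bool.rec (fun _ => Nat) (Atab_620) (Atab_621) (Nat.ble 621 c)
noncomputable def Atab_s_619_622 (c : Nat) : Nat := @Bool.rec (fun _ => Nat) (Atab_619) (Atab_s_620_622 c) (Nat.ble 620 c)
noncomputable def Atab_s_616_622 (c : Nat) : Nat := @Bool.rec (fun _ => Nat) (Atab_s_616_619 c) (Atab_s_619_622 c) (Nat.ble 619 c)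
noncomputable def Atab_s_611_622 (c : Nat) : Nat := @Bool.rec (fun _ => Nat) (Atab_s_611_616 c) (Atab_s_616_622 c) (Nat.ble 616 c)
noncomputable def Atab_s_623_625 (c : Nat) : Nat := @Bool.rec (fun _ => Nat) (Atab_623) (Atab_624) (Nat.ble 624 c)
noncomputable def Atab_s_622_625 (c : Nat) : Nat := @Bool.rec (fun _ => Nat) (Atab_622) (Atab_s_623_625 c) (Nat.ble 623 c)
noncomputable def Atab_s_626_628 (c : Nat) : Nat := @Bool.rec (fun _ => Nat) (Atab_626) (Atab_627) (Nat.ble 627 c)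
noncomputable def Atab_s_625_628 (c : Nat) : Nat := @Bool.rec (fun _ => Nat) (Atab_625) (Atab_s_626_628 c) (Nat.ble 626 c)
noncomputable def Atab_s_622_628 (c : Nat) : Nat := @Bool.rec (fun _ => Nat) (Atab_s_622_625 c) (Atab_s_625_628 c) (Nat.ble 625 c)
noncomputable def Atab_s_629_631 (c : Nat) : Nat := @Bool.rec (fun _ => Nat) (Atab_629) (Atab_630) (Nat.ble 630 c)
noncomputable def Atab_s_628_631 (c : Nat) : Nat := @Bool.rec (fun _ => Nat) (Atab_628) (Atab_s_629_631 c) (Nat.ble 629 c)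
noncomputable def Atab_s_632_634 (c : Nat) : Nat := @Bool.rec (fun _ => Nat) (Atab_632) (Atab_633) (Nat.ble 633 c)
noncomputable def Atab_s_631_634 (c : Nat) : Nat := @Bool.rec (fun _ => Nat) (Atab_631) (Atab_s_632_634 c) (Nat.ble 632 c)
noncomputable def Atab_s_628_634 (c : Nat) : Nat := @Bool.rec (fun _ => Nat) (Atab_s_628_631 c) (Atab_s_631_634 c) (Nat.ble 631 c)
noncomputable def Atab_s_622_634 (c : Nat) : Nat := @Bool.rec (fun _ => Nat) (Atab_s_622_628 c) (Atab_s_628_634 c) (Nat.ble 628 c)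
noncomputable def Atab_s_611_634 (c : Nat) : Nat := @Bool.rec (fun _ => Nat) (Atab_s_611_622 c) (Atab_s_622_634 c) (Nat.ble 622 c)
noncomputable def Atab_s_635_637 (c : Nat) : Nat := @Bool.rec (fun _ => Nat) (Atab_635) (Atab_636) (Nat.ble 636 c)
noncomputable def Atab_s_634_637 (c : Nat) : Nat := @Bool.rec (fun _ => Nat) (Atab_634) (Atab_s_635_637 c) (Nat.ble 635 c)
noncomputable def Atab_s_638_640 (c : Nat) : Nat := @Bool.rec (fun _ => Nat) (Atab_638) (Atab_639) (Nat.ble 639 c)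
noncomputable def Atab_s_637_640 (c : Nat) : Nat := @Bool.rec (fun _ => Nat) (Atab_637) (Atab_s_638_640 c) (Nat.ble 638 c)
noncomputable def Atab_s_634_640 (c : Nat) : Nat := @Bool.rec (fun _ => Nat) (Atab_s_634_637 c) (Atab_s_637_640 c) (Nat.ble 637 c)
noncomputable def Atab_s_641_643 (c : Nat) : Nat := @Bool.rec (fun _ => Nat) (Atab_641) (Atab_642) (Nat.ble 642 c)
noncomputable def Atab_s_640_643 (c : Nat) : Nat := @Bool.rec (fun _ => Nat) (Atab_640) (Atab_s_641_643 c) (Nat.ble 641 c)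
noncomputable def Atab_s_644_646 (c : Nat) : Nat := @Bool.rec (fun _ => Nat) (Atab_644) (Atab_645) (Nat.ble 645 c)
noncomputable def Atab_s_643_646 (c : Nat) : Nat := @Bool.rec (fun _ => Nat) (Atab_643) (Atab_s_644_646 c) (Nat.ble 644 c)
noncomputable def Atab_s_640_646 (c : Nat) : Nat := @Bool.rec (fun _ => Nat) (Atab_s_640_643 c) (Atab_s_643_646 c) (Nat.ble 643 c)
noncomputable def Atab_s_634_646 (c : Nat) : Nat := @Bool.rec (fun _ => Nat) (Atab_s_634_640 c) (Atab_s_640_646 c) (Nat.ble 640 c)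
noncomputable def Atab_s_647_649 (c : Nat) : Nat := @Bool.rec (fun _ => Nat) (Atab_647) (Atab_648) (Nat.ble 648 c)
noncomputable def Atab_s_646_649 (c : Nat) : Nat := @Bool.rec (fun _ => Nat) (Atab_646) (Atab_s_647_649 c) (Nat.ble 647 c)
noncomputable def Atab_s_650_652 (c : Nat) : Nat := @Bool.rec (fun _ => Nat) (Atab_650) (Atab_651) (Nat.ble 651 c)
noncomputable def Atab_s_649_652 (c : Nat) : Nat := @Bool.rec (fun _ => Nat) (Atab_649) (Atab_s_650_652 c) (Nat.ble 650 c)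
noncomputable def Atab_s_646_652 (c : Nat) : Nat := @Bool.rec (fun _ => Nat) (Atab_s_646_649 c) (Atab_s_649_652 c) (Nat.ble 649 c)
noncomputable def Atab_s_653_655 (c : Nat) : Nat := @Bool.rec (fun _ => Nat) (Atab_653) (Atab_654) (Nat.ble 654 c)
noncomputable def Atab_s_652_655 (c : Nat) : Nat := @Bool.rec (fun _ => Nat) (Atab_652) (Atab_s_653_655 c) (Nat.ble 653 c)
noncomputable def Atab_s_656_658 (c : Nat) : Nat := @Bool.rec (fun _ => Nat) (Atab_656) (Atab_657) (Nat.ble 657 c)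
noncomputable def Atab_s_655_658 (c : Nat) : Nat := @Bool.rec (fun _ => Nat) (Atab_655) (Atab_s_656_658 c) (Nat.ble 656 c)
noncomputable def Atab_s_652_658 (c : Nat) : Nat := @Bool.rec (fun _ => Nat) (Atab_s_652_655 c) (Atab_s_655_658 c) (Nat.ble 655 c)
noncomputable def Atab_s_646_658 (c : Nat) : Nat := @Bool.rec (fun _ => Nat) (Atab_s_646_652 c) (Atab_s_652_658 c) (Nat.ble 652 c)
noncomputable def Atab_s_634_658 (c : Nat) : Nat := @Bool.rec (fun _ => Nat) (Atab_s_634_646 c) (Atab_s_646_658 c) (Nat.ble 646 c)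
noncomputable def Atab_s_611_658 (c : Nat) : Nat := @Bool.rec (fun _ => Nat) (Atab_s_611_634 c) (Atab_s_634_658 c) (Nat.ble 634 c)
noncomputable def Atab_s_564_658 (c : Nat) : Nat := @Bool.rec (fun _ => Nat) (Atab_s_564_611 c) (Atab_s_611_658 c) (Nat.ble 611 c)
noncomputable def Atab_s_658_660 (c : Nat) : Nat := @Bool.rec (fun _ => Nat) (Atab_658) (Atab_659) (Nat.ble 659 c)
noncomputable def Atab_s_661_663 (c : Nat) : Nat := @Bool.rec (fun _ => Nat) (Atab_661) (Atab_662) (Nat.ble 662 c)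
noncomputable def Atab_s_660_663 (c : Nat) : Nat := @Bool.rec (fun _ => Nat) (Atab_660) (Atab_s_661_663 c) (Nat.ble 661 c)
noncomputable def Atab_s_658_663 (c : Nat) : Nat := @Bool.rec (fun _ => Nat) (Atab_s_658_660 c) (Atab_s_660_663 c) (Nat.ble 660 c)
noncomputable def Atab_s_664_666 (c : Nat) : Nat := @Bool.rec (fun _ => Nat) (Atab_664) (Atab_665) (Nat.ble 665 c)
noncomputable def Atab_s_663_666 (c : Nat) : Nat := @Bool.rec (fun _ => Nat) (Atab_663) (Atab_s_664_666 c) (Nat.ble 664 c)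
noncomputable def Atab_s_667_669 (c : Nat) : Nat := @Bool.rec (fun _ => Nat) (Atab_667) (Atab_668) (Nat.ble 668 c)
noncomputable def Atab_s_666_669 (c : Nat) : Nat := @Bool.rec (fun _ => Nat) (Atab_666) (Atab_s_667_669 c) (Nat.ble 667 c)
noncomputable def Atab_s_663_669 (c : Nat) : Nat := @Bool.rec (fun _ => Nat) (Atab_s_663_666 c) (Atab_s_666_669 c) (Nat.ble 666 c)
noncomputable def Atab_s_658_669 (c : Nat) : Nat := @Bool.rec (fun _ => Nat) (Atab_s_658_663 c) (Atab_s_663_669 c) (Nat.ble 663 c)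
noncomputable def Atab_s_670_672 (c : Nat) : Nat := @Bool.rec (fun _ => Nat) (Atab_670) (Atab_671) (Nat.ble 671 c)
noncomputable def Atab_s_669_672 (c : Nat) : Nat := @Bool.rec (fun _ => Nat) (Atab_669) (Atab_s_670_672 c) (Nat.ble 670 c)
noncomputable def Atab_s_673_675 (c : Nat) : Nat := @Bool.rec (fun _ => Nat) (Atab_673) (Atab_674) (Nat.ble 674 c)
noncomputable def Atab_s_672_675 (c : Nat) : Nat := @Bool.rec (fun _ => Nat) (Atab_672) (Atab_s_673_675 c) (Nat.ble 673 c)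
noncomputable def Atab_s_669_675 (c : Nat) : Nat := @Bool.rec (fun _ => Nat) (Atab_s_669_672 c) (Atab_s_672_675 c) (Nat.ble 672 c)
noncomputable def Atab_s_676_678 (c : Nat) : Nat := @Bool.rec (fun _ => Nat) (Atab_676) (Atab_677) (Nat.ble 677 c)
noncomputable def Atab_s_675_678 (c : Nat) : Nat := @Bool.rec (fun _ => Nat) (Atab_675) (Atab_s_676_678 c) (Nat.ble 676 c)
noncomputable def Atab_s_679_681 (c : Nat) : Nat := @Bool.rec (fun _ => Nat) (Atab_679) (Atab_680) (Nat.ble 680 c)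
noncomputable def Atab_s_678_681 (c : Nat) : Nat := @Bool.rec (fun _ => Nat) (Atab_678) (Atab_s_679_681 c) (Nat.ble 679 c)
noncomputable def Atab_s_675_681 (c : Nat) : Nat := @Bool.rec (fun _ => Nat) (Atab_s_675_678 c) (Atab_s_678_681 c) (Nat.ble 678 c)
noncomputable def Atab_s_669_681 (c : Nat) : Nat := @Bool.rec (fun _ => Nat) (Atab_s_669_675 c) (Atab_s_675_681 c) (Nat.ble 675 c)
noncomputable def Atab_s_658_681 (c : Nat) : Nat := @Bool.rec (fun _ => Nat) (Atab_s_658_669 c) (Atab_s_669_681 c) (Nat.ble 669 c)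
noncomputable def Atab_s_682_684 (c : Nat) : Nat := @Bool.rec (fun _ => Nat) (Atab_682) (Atab_683) (Nat.ble 683 c)
noncomputable def Atab_s_681_684 (c : Nat) : Nat := @Bool.rec (fun _ => Nat) (Atab_681) (Atab_s_682_684 c) (Nat.ble 682 c)
noncomputable def Atab_s_685_687 (c : Nat) : Nat := @Bool.rec (fun _ => Nat) (Atab_685) (Atab_686) (Nat.ble 686 c)
noncomputable def Atab_s_684_687 (c : Nat) : Nat := @Bool.rec (fun _ => Nat) (Atab_684) (Atab_s_685_687 c) (Nat.ble 685 c)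
noncomputable def Atab_s_681_687 (c : Nat) : Nat := @Bool.rec (fun _ => Nat) (Atab_s_681_684 c) (Atab_s_684_687 c) (Nat.ble 684 c)
noncomputable def Atab_s_688_690 (c : Nat) : Nat := @Bool.rec (fun _ => Nat) (Atab_688) (Atab_689) (Nat.ble 689 c)
noncomputable def Atab_s_687_690 (c : Nat) : Nat := @Bool.rec (fun _ => Nat) (Atab_687) (Atab_s_688_690 c) (Nat.ble 688 c)
noncomputable def Atab_s_691_693 (c : Nat) : Nat := @Bool.rec (fun _ => Nat) (Atab_691) (Atab_692) (Nat.ble 692 c)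
noncomputable def Atab_s_690_693 (c : Nat) : Nat := @Bool.rec (fun _ => Nat) (Atab_690) (Atab_s_691_693 c) (Nat.ble 691 c)
noncomputable def Atab_s_687_693 (c : Nat) : Nat := @Bool.rec (fun _ => Nat) (Atab_s_687_690 c) (Atab_s_690_693 c) (Nat.ble 690 c)
noncomputable def Atab_s_681_693 (c : Nat) : Nat := @Bool.rec (fun _ => Nat) (Atab_s_681_687 c) (Atab_s_687_693 c) (Nat.ble 687 c)
noncomputable def Atab_s_694_696 (c : Nat) : Nat := @Bool.rec (fun _ => Nat) (Atab_694) (Atab_695) (Nat.ble 695 c)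
noncomputable def Atab_s_693_696 (c : Nat) : Nat := @Bool.rec (fun _ => Nat) (Atab_693) (Atab_s_694_696 c) (Nat.ble 694 c)
noncomputable def Atab_s_697_699 (c : Nat) : Nat := @Bool.rec (fun _ => Nat) (Atab_697) (Atab_698) (Nat.ble 698 c)
noncomputable def Atab_s_696_699 (c : Nat) : Nat := @Bool.rec (fun _ => Nat) (Atab_696) (Atab_s_697_699 c) (Nat.ble 697 c)
noncomputable def Atab_s_693_699 (c : Nat) : Nat := @Bool.rec (fun _ => Nat) (Atab_s_693_696 c) (Atab_s_696_699 c) (Nat.ble 696 c)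
noncomputable def Atab_s_700_702 (c : Nat) : Nat := @Bool.rec (fun _ => Nat) (Atab_700) (Atab_701) (Nat.ble 701 c)
noncomputable def Atab_s_699_702 (c : Nat) : Nat := @Bool.rec (fun _ => Nat) (Atab_699) (Atab_s_700_702 c) (Nat.ble 700 c)
noncomputable def Atab_s_703_705 (c : Nat) : Nat := @Bool.rec (fun _ => Nat) (Atab_703) (Atab_704) (Nat.ble 704 c)
noncomputable def Atab_s_702_705 (c : Nat) : Nat := @Bool.rec (fun _ => Nat) (Atab_702) (Atab_s_703_705 c) (Nat.ble 703 c)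
noncomputable def Atab_s_699_705 (c : Nat) : Nat := @Bool.rec (fun _ => Nat) (Atab_s_699_702 c) (Atab_s_702_705 c) (Nat.ble 702 c)
noncomputable def Atab_s_693_705 (c : Nat) : Nat := @Bool.rec (fun _ => Nat) (Atab_s_693_699 c) (Atab_s_699_705 c) (Nat.ble 699 c)
noncomputable def Atab_s_681_705 (c : Nat) : Nat := @Bool.rec (fun _ => Nat) (Atab_s_681_693 c) (Atab_s_693_705 c) (Nat.ble 693 c)
noncomputable def Atab_s_658_705 (c : Nat) : Nat := @Bool.rec (fun _ => Nat) (Atab_s_658_681 c) (Atab_s_681_705 c) (Nat.ble 681 c)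
noncomputable def Atab_s_705_707 (c : Nat) : Nat := @Bool.rec (fun _ => Nat) (Atab_705) (Atab_706) (Nat.ble 706 c)
noncomputable def Atab_s_708_710 (c : Nat) : Nat := @Bool.rec (fun _ => Nat) (Atab_708) (Atab_709) (Nat.ble 709 c)
noncomputable def Atab_s_707_710 (c : Nat) : Nat := @Bool.rec (fun _ => Nat) (Atab_707) (Atab_s_708_710 c) (Nat.ble 708 c)
noncomputable def Atab_s_705_710 (c : Nat) : Nat := @Bool.rec (fun _ => Nat) (Atab_s_705_707 c) (Atab_s_707_710 c) (Nat.ble 707 c)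
noncomputable def Atab_s_711_713 (c : Nat) : Nat := @Bool.rec (fun _ => Nat) (Atab_711) (Atab_712) (Nat.ble 712 c)
noncomputable def Atab_s_710_713 (c : Nat) : Nat := @Bool.rec (fun _ => Nat) (Atab_710) (Atab_s_711_713 c) (Nat.ble 711 c)
noncomputable def Atab_s_714_716 (c : Nat) : Nat := @Bool.rec (fun _ => Nat) (Atab_714) (Atab_715) (Nat.ble 715 c)
noncomputable def Atab_s_713_716 (c : Nat) : Nat := @Bool.rec (fun _ => Nat) (Atab_713) (Atab_s_714_716 c) (Nat.ble 714 c)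
noncomputable def Atab_s_710_716 (c : Nat) : Nat := @Bool.rec (fun _ => Nat) (Atab_s_710_713 c) (Atab_s_713_716 c) (Nat.ble 713 c)
noncomputable def Atab_s_705_716 (c : Nat) : Nat := @Bool.rec (fun _ => Nat) (Atab_s_705_710 c) (Atab_s_710_716 c) (Nat.ble 710 c)
noncomputable def Atab_s_717_719 (c : Nat) : Nat := @Bool.rec (fun _ => Nat) (Atab_717) (Atab_718) (Nat.ble 718 c)
noncomputable def Atab_s_716_719 (c : Nat) : Nat := @Bool.rec (fun _ => Nat) (Atab_716) (Atab_s_717_719 c) (Nat.ble 717 c)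
noncomputable def Atab_s_720_722 (c : Nat) : Nat := @Bool.rec (fun _ => Nat) (Atab_720) (Atab_721) (Nat.ble 721 c)
noncomputable def Atab_s_719_722 (c : Nat) : Nat := @Bool.rec (fun _ => Nat) (Atab_719) (Atab_s_720_722 c) (Nat.ble 720 c)
noncomputable def Atab_s_716_722 (c : Nat) : Nat := @Bool.rec (fun _ => Nat) (Atab_s_716_719 c) (Atab_s_719_722 c) (Nat.ble 719 c)
noncomputable def Atab_s_723_725 (c : Nat) : Nat := @Bool.rec (fun _ => Nat) (Atab_723) (Atab_724) (Nat.ble 724 c)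
noncomputable def Atab_s_722_725 (c : Nat) : Nat := @Bool.rec (fun _ => Nat) (Atab_722) (Atab_s_723_725 c) (Nat.ble 723 c)
noncomputable def Atab_s_726_728 (c : Nat) : Nat := @Bool.rec (fun _ => Nat) (Atab_726) (Atab_727) (Nat.ble 727 c)
noncomputable def Atab_s_725_728 (c : Nat) : Nat := @Bool.rec (fun _ => Nat) (Atab_725) (Atab_s_726_728 c) (Nat.ble 726 c)
noncomputable def Atab_s_722_728 (c : Nat) : Nat := @Bool.rec (fun _ => Nat) (Atab_s_722_725 c) (Atab_s_725_728 c) (Nat.ble 725 c)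
noncomputable def Atab_s_716_728 (c : Nat) : Nat := @Bool.rec (fun _ => Nat) (Atab_s_716_722 c) (Atab_s_722_728 c) (Nat.ble 722 c)
noncomputable def Atab_s_705_728 (c : Nat) : Nat := @Bool.rec (fun _ => Nat) (Atab_s_705_716 c) (Atab_s_716_728 c) (Nat.ble 716 c)
noncomputable def Atab_s_729_731 (c : Nat) : Nat := @Bool.rec (fun _ => Nat) (Atab_729) (Atab_730) (Nat.ble 730 c)
noncomputable def Atab_s_728_731 (c : Nat) : Nat := @Bool.rec (fun _ => Nat) (Atab_728) (Atab_s_729_731 c) (Nat.ble 729 c)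
noncomputable def Atab_s_732_734 (c : Nat) : Nat := @Bool.rec (fun _ => Nat) (Atab_732) (Atab_733) (Nat.ble 733 c)
noncomputable def Atab_s_731_734 (c : Nat) : Nat := @Bool.rec (fun _ => Nat) (Atab_731) (Atab_s_732_734 c) (Nat.ble 732 c)
noncomputable def Atab_s_728_734 (c : Nat) : Nat := @Bool.rec (fun _ => Nat) (Atab_s_728_731 c) (Atab_s_731_734 c) (Nat.ble 731 c)
noncomputable def Atab_s_735_737 (c : Nat) : Nat := @Bool.rec (fun _ => Nat) (Atab_735) (Atab_736) (Nat.ble 736 c)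
noncomputable def Atab_s_734_737 (c : Nat) : Nat := @Bool.rec (fun _ => Nat) (Atab_734) (Atab_s_735_737 c) (Nat.ble 735 c)
noncomputable def Atab_s_738_740 (c : Nat) : Nat := @Bool.rec (fun _ => Nat) (Atab_738) (Atab_739) (Nat.ble 739 c)
noncomputable def Atab_s_737_740 (c : Nat) : Nat := @Bool.rec (fun _ => Nat) (Atab_737) (Atab_s_738_740 c) (Nat.ble 738 c)
noncomputable def Atab_s_734_740 (c : Nat) : Nat := @Bool.rec (fun _ => Nat) (Atab_s_734_737 c) (Atab_s_737_740 c) (Nat.ble 737 c)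
noncomputable def Atab_s_728_740 (c : Nat) : Nat := @Bool.rec (fun _ => Nat) (Atab_s_728_734 c) (Atab_s_734_740 c) (Nat.ble 734 c)
noncomputable def Atab_s_741_743 (c : Nat) : Nat := @Bool.rec (fun _ => Nat) (Atab_741) (Atab_742) (Nat.ble 742 c)
noncomputable def Atab_s_740_743 (c : Nat) : Nat := @Bool.rec (fun _ => Nat) (Atab_740) (Atab_s_741_743 c) (Nat.ble 741 c)
noncomputable def Atab_s_744_746 (c : Nat) : Nat := @Bool.rec (fun _ => Nat) (Atab_744) (Atab_745) (Nat.ble 745 c)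
noncomputable def Atab_s_743_746 (c : Nat) : Nat := @Bool.rec (fun _ => Nat) (Atab_743) (Atab_s_744_746 c) (Nat.ble 744 c)
noncomputable def Atab_s_740_746 (c : Nat) : Nat := @Bool.rec (fun _ => Nat) (Atab_s_740_743 c) (Atab_s_743_746 c) (Nat.ble 743 c)
noncomputable def Atab_s_747_749 (c : Nat) : Nat := @Bool.rec (fun _ => Nat) (Atab_747) (Atab_748) (Nat.ble 748 c)
noncomputable def Atab_s_746_749 (c : Nat) : Nat := @Bool.rec (fun _ => Nat) (Atab_746) (Atab_s_747_749 c) (Nat.ble 747 c)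
noncomputable def Atab_s_750_752 (c : Nat) : Nat := @Bool.rec (fun _ => Nat) (Atab_750) (Atab_751) (Nat.ble 751 c)
noncomputable def Atab_s_749_752 (c : Nat) : Nat := @Bool.rec (fun _ => Nat) (Atab_749) (Atab_s_750_752 c) (Nat.ble 750 c)
noncomputable def Atab_s_746_752 (c : Nat) : Nat := @Bool.rec (fun _ => Nat) (Atab_s_746_749 c) (Atab_s_749_752 c) (Nat.ble 749 c)
noncomputable def Atab_s_740_752 (c : Nat) : Nat := @Bool.rec (fun _ => Nat) (Atab_s_740_746 c) (Atab_s_746_752 c) (Nat.ble 746 c)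
noncomputable def Atab_s_728_752 (c : Nat) : Nat := @Bool.rec (fun _ => Nat) (Atab_s_728_740 c) (Atab_s_740_752 c) (Nat.ble 740 c)
noncomputable def Atab_s_705_752 (c : Nat) : Nat := @Bool.rec (fun _ => Nat) (Atab_s_705_728 c) (Atab_s_728_752 c) (Nat.ble 728 c)
noncomputable def Atab_s_658_752 (c : Nat) : Nat := @Bool.rec (fun _ => Nat) (Atab_s_658_705 c) (Atab_s_705_752 c) (Nat.ble 705 c)
noncomputable def Atab_s_564_752 (c : Nat) : Nat := @Bool.rec (fun _ => Nat) (Atab_s_564_658 c) (Atab_s_658_752 c) (Nat.ble 658 c)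
noncomputable def Atab_s_376_752 (c : Nat) : Nat := @Bool.rec (fun _ => Nat) (Atab_s_376_564 c) (Atab_s_564_752 c) (Nat.ble 564 c)
noncomputable def Atab_s_0_752 (c : Nat) : Nat := @Bool.rec (fun _ => Nat) (Atab_s_0_376 c) (Atab_s_376_752 c) (Nat.ble 376 c)
noncomputable def Atab (i : Nat) : Nat := rdw 40 1099511627775 (Atab_s_0_752 (Nat.shiftRight i 11)) (Nat.land i 2047)
noncomputable def Btab_s_0_2 (c : Nat) : Nat := @Bool.rec (fun _ => Nat) (Btab_0) (Btab_1) (Nat.ble 1 c)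
noncomputable def Btab_s_3_5 (c : Nat) : Nat := @Bool.rec (fun _ => Nat) (Btab_3) (Btab_4) (Nat.ble 4 c)
noncomputable def Btab_s_2_5 (c : Nat) : Nat := @Bool.rec (fun _ => Nat) (Btab_2) (Btab_s_3_5 c) (Nat.ble 3 c)
noncomputable def Btab_s_0_5 (c : Nat) : Nat := @Bool.rec (fun _ => Nat) (Btab_s_0_2 c) (Btab_s_2_5 c) (Nat.ble 2 c)
noncomputable def Btab_s_5_7 (c : Nat) : Nat := @Bool.rec (fun _ => Nat) (Btab_5) (Btab_6) (Nat.ble 6 c)
noncomputable def Btab_s_8_10 (c : Nat) : Nat := @Bool.rec (fun _ => Nat) (Btab_8) (Btab_9) (Nat.ble 9 c)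
noncomputable def Btab_s_7_10 (c : Nat) : Nat := @Bool.rec (fun _ => Nat) (Btab_7) (Btab_s_8_10 c) (Nat.ble 8 c)
noncomputable def Btab_s_5_10 (c : Nat) : Nat := @Bool.rec (fun _ => Nat) (Btab_s_5_7 c) (Btab_s_7_10 c) (Nat.ble 7 c)
noncomputable def Btab_s_0_10 (c : Nat) : Nat := @Bool.rec (fun _ => Nat) (Btab_s_0_5 c) (Btab_s_5_10 c) (Nat.ble 5 c)
noncomputable def Btab_s_10_12 (c : Nat) : Nat := @Bool.rec (fun _ => Nat) (Btab_10) (Btab_11) (Nat.ble 11 c)
noncomputable def Btab_s_13_15 (c : Nat) : Nat := @Bool.rec (fun _ => Nat) (Btab_13) (Btab_14) (Nat.ble 14 c)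
noncomputable def Btab_s_12_15 (c : Nat) : Nat := @Bool.rec (fun _ => Nat) (Btab_12) (Btab_s_13_15 c) (Nat.ble 13 c)
noncomputable def Btab_s_10_15 (c : Nat) : Nat := @Bool.rec (fun _ => Nat) (Btab_s_10_12 c) (Btab_s_12_15 c) (Nat.ble 12 c)
noncomputable def Btab_s_16_18 (c : Nat) : Nat := @Bool.rec (fun _ => Nat) (Btab_16) (Btab_17) (Nat.ble 17 c)
noncomputable def Btab_s_15_18 (c : Nat) : Nat := @Bool.rec (fun _ => Nat) (Btab_15) (Btab_s_16_18 c) (Nat.ble 16 c)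
noncomputable def Btab_s_19_21 (c : Nat) : Nat := @Bool.rec (fun _ => Nat) (Btab_19) (Btab_20) (Nat.ble 20 c)
noncomputable def Btab_s_18_21 (c : Nat) : Nat := @Bool.rec (fun _ => Nat) (Btab_18) (Btab_s_19_21 c) (Nat.ble 19 c)
noncomputable def Btab_s_15_21 (c : Nat) : Nat := @Bool.rec (fun _ => Nat) (Btab_s_15_18 c) (Btab_s_18_21 c) (Nat.ble 18 c)
noncomputable def Btab_s_10_21 (c : Nat) : Nat := @Bool.rec (fun _ => Nat) (Btab_s_10_15 c) (Btab_s_15_21 c) (Nat.ble 15 c)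
noncomputable def Btab_s_0_21 (c : Nat) : Nat := @Bool.rec (fun _ => Nat) (Btab_s_0_10 c) (Btab_s_10_21 c) (Nat.ble 10 c)
noncomputable def Btab_s_21_23 (c : Nat) : Nat := @Bool.rec (fun _ => Nat) (Btab_21) (Btab_22) (Nat.ble 22 c)
noncomputable def Btab_s_24_26 (c : Nat) : Nat := @Bool.rec (fun _ => Nat) (Btab_24) (Btab_25) (Nat.ble 25 c)
noncomputable def Btab_s_23_26 (c : Nat) : Nat := @Bool.rec (fun _ => Nat) (Btab_23) (Btab_s_24_26 c) (Nat.ble 24 c)
noncomputable def Btab_s_21_26 (c : Nat) : Nat := @Bool.rec (fun _ => Nat) (Btab_s_21_23 c) (Btab_s_23_26 c) (Nat.ble 23 c)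
noncomputable def Btab_s_27_29 (c : Nat) : Nat := @Bool.rec (fun _ => Nat) (Btab_27) (Btab_28) (Nat.ble 28 c)
noncomputable def Btab_s_26_29 (c : Nat) : Nat := @Bool.rec (fun _ => Nat) (Btab_26) (Btab_s_27_29 c) (Nat.ble 27 c)
noncomputable def Btab_s_30_32 (c : Nat) : Nat := @Bool.rec (fun _ => Nat) (Btab_30) (Btab_31) (Nat.ble 31 c)
noncomputable def Btab_s_29_32 (c : Nat) : Nat := @Bool.rec (fun _ => Nat) (Btab_29) (Btab_s_30_32 c) (Nat.ble 30 c)
noncomputable def Btab_s_26_32 (c : Nat) : Nat := @Bool.rec (fun _ => Nat) (Btab_s_26_29 c) (Btab_s_29_32 c) (Nat.ble 29 c)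
noncomputable def Btab_s_21_32 (c : Nat) : Nat := @Bool.rec (fun _ => Nat) (Btab_s_21_26 c) (Btab_s_26_32 c) (Nat.ble 26 c)
noncomputable def Btab_s_32_34 (c : Nat) : Nat := @Bool.rec (fun _ => Nat) (Btab_32) (Btab_33) (Nat.ble 33 c)
noncomputable def Btab_s_35_37 (c : Nat) : Nat := @Bool.rec (fun _ => Nat) (Btab_35) (Btab_36) (Nat.ble 36 c)
noncomputable def Btab_s_34_37 (c : Nat) : Nat := @Bool.rec (fun _ => Nat) (Btab_34) (Btab_s_35_37 c) (Nat.ble 35 c)
noncomputable def Btab_s_32_37 (c : Nat) : Nat := @Bool.rec (fun _ => Nat) (Btab_s_32_34 c) (Btab_s_34_37 c) (Nat.ble 34 c)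
noncomputable def Btab_s_38_40 (c : Nat) : Nat := @Bool.rec (fun _ => Nat) (Btab_38) (Btab_39) (Nat.ble 39 c)
noncomputable def Btab_s_37_40 (c : Nat) : Nat := @Bool.rec (fun _ => Nat) (Btab_37) (Btab_s_38_40 c) (Nat.ble 38 c)
noncomputable def Btab_s_41_43 (c : Nat) : Nat := @Bool.rec (fun _ => Nat) (Btab_41) (Btab_42) (Nat.ble 42 c)
noncomputable def Btab_s_40_43 (c : Nat) : Nat := @Bool.rec (fun _ => Nat) (Btab_40) (Btab_s_41_43 c) (Nat.ble 41 c)
noncomputable def Btab_s_37_43 (c : Nat) : Nat := @Bool.rec (fun _ => Nat) (Btab_s_37_40 c) (Btab_s_40_43 c) (Nat.ble 40 c)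
noncomputable def Btab_s_32_43 (c : Nat) : Nat := @Bool.rec (fun _ => Nat) (Btab_s_32_37 c) (Btab_s_37_43 c) (Nat.ble 37 c)
noncomputable def Btab_s_21_43 (c : Nat) : Nat := @Bool.rec (fun _ => Nat) (Btab_s_21_32 c) (Btab_s_32_43 c) (Nat.ble 32 c)
noncomputable def Btab_s_0_43 (c : Nat) : Nat := @Bool.rec (fun _ => Nat) (Btab_s_0_21 c) (Btab_s_21_43 c) (Nat.ble 21 c)
noncomputable def Btab_s_43_45 (c : Nat) : Nat := @Bool.rec (fun _ => Nat) (Btab_43) (Btab_44) (Nat.ble 44 c)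
noncomputable def Btab_s_46_48 (c : Nat) : Nat := @Bool.rec (fun _ => Nat) (Btab_46) (Btab_47) (Nat.ble 47 c)
noncomputable def Btab_s_45_48 (c : Nat) : Nat := @Bool.rec (fun _ => Nat) (Btab_45) (Btab_s_46_48 c) (Nat.ble 46 c)
noncomputable def Btab_s_43_48 (c : Nat) : Nat := @Bool.rec (fun _ => Nat) (Btab_s_43_45 c) (Btab_s_45_48 c) (Nat.ble 45 c)
noncomputable def Btab_s_48_50 (c : Nat) : Nat := @Bool.rec (fun _ => Nat) (Btab_48) (Btab_49) (Nat.ble 49 c)
noncomputable def Btab_s_51_53 (c : Nat) : Nat := @Bool.rec (fun _ => Nat) (Btab_51) (Btab_52) (Nat.ble 52 c)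
noncomputable def Btab_s_50_53 (c : Nat) : Nat := @Bool.rec (fun _ => Nat) (Btab_50) (Btab_s_51_53 c) (Nat.ble 51 c)
noncomputable def Btab_s_48_53 (c : Nat) : Nat := @Bool.rec (fun _ => Nat) (Btab_s_48_50 c) (Btab_s_50_53 c) (Nat.ble 50 c)
noncomputable def Btab_s_43_53 (c : Nat) : Nat := @Bool.rec (fun _ => Nat) (Btab_s_43_48 c) (Btab_s_48_53 c) (Nat.ble 48 c)
noncomputable def Btab_s_53_55 (c : Nat) : Nat := @Bool.rec (fun _ => Nat) (Btab_53) (Btab_54) (Nat.ble 54 c)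
noncomputable def Btab_s_56_58 (c : Nat) : Nat := @Bool.rec (fun _ => Nat) (Btab_56) (Btab_57) (Nat.ble 57 c)
noncomputable def Btab_s_55_58 (c : Nat) : Nat := @Bool.rec (fun _ => Nat) (Btab_55) (Btab_s_56_58 c) (Nat.ble 56 c)
noncomputable def Btab_s_53_58 (c : Nat) : Nat := @Bool.rec (fun _ => Nat) (Btab_s_53_55 c) (Btab_s_55_58 c) (Nat.ble 55 c)
noncomputable def Btab_s_59_61 (c : Nat) : Nat := @Bool.rec (fun _ => Nat) (Btab_59) (Btab_60) (Nat.ble 60 c)
noncomputable def Btab_s_58_61 (c : Nat) : Nat := @Bool.rec (fun _ => Nat) (Btab_58) (Btab_s_59_61 c) (Nat.ble 59 c)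
noncomputable def Btab_s_62_64 (c : Nat) : Nat := @Bool.rec (fun _ => Nat) (Btab_62) (Btab_63) (Nat.ble 63 c)
noncomputable def Btab_s_61_64 (c : Nat) : Nat := @Bool.rec (fun _ => Nat) (Btab_61) (Btab_s_62_64 c) (Nat.ble 62 c)
noncomputable def Btab_s_58_64 (c : Nat) : Nat := @Bool.rec (fun _ => Nat) (Btab_s_58_61 c) (Btab_s_61_64 c) (Nat.ble 61 c)
noncomputable def Btab_s_53_64 (c : Nat) : Nat := @Bool.rec (fun _ => Nat) (Btab_s_53_58 c) (Btab_s_58_64 c) (Nat.ble 58 c)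
noncomputable def Btab_s_43_64 (c : Nat) : Nat := @Bool.rec (fun _ => Nat) (Btab_s_43_53 c) (Btab_s_53_64 c) (Nat.ble 53 c)
noncomputable def Btab_s_64_66 (c : Nat) : Nat := @Bool.rec (fun _ => Nat) (Btab_64) (Btab_65) (Nat.ble 65 c)
noncomputable def Btab_s_67_69 (c : Nat) : Nat := @Bool.rec (fun _ => Nat) (Btab_67) (Btab_68) (Nat.ble 68 c)
noncomputable def Btab_s_66_69 (c : Nat) : Nat := @Bool.rec (fun _ => Nat) (Btab_66) (Btab_s_67_69 c) (Nat.ble 67 c)
noncomputable def Btab_s_64_69 (c : Nat) : Nat := @Bool.rec (fun _ => Nat) (Btab_s_64_66 c) (Btab_s_66_69 c) (Nat.ble 66 c)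
noncomputable def Btab_s_70_72 (c : Nat) : Nat := @Bool.rec (fun _ => Nat) (Btab_70) (Btab_71) (Nat.ble 71 c)
noncomputable def Btab_s_69_72 (c : Nat) : Nat := @Bool.rec (fun _ => Nat) (Btab_69) (Btab_s_70_72 c) (Nat.ble 70 c)
noncomputable def Btab_s_73_75 (c : Nat) : Nat := @Bool.rec (fun _ => Nat) (Btab_73) (Btab_74) (Nat.ble 74 c)
noncomputable def Btab_s_72_75 (c : Nat) : Nat := @Bool.rec (fun _ => Nat) (Btab_72) (Btab_s_73_75 c) (Nat.ble 73 c)
noncomputable def Btab_s_69_75 (c : Nat) : Nat := @Bool.rec (fun _ => Nat) (Btab_s_69_72 c) (Btab_s_72_75 c) (Nat.ble 72 c)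
noncomputable def Btab_s_64_75 (c : Nat) : Nat := @Bool.rec (fun _ => Nat) (Btab_s_64_69 c) (Btab_s_69_75 c) (Nat.ble 69 c)
noncomputable def Btab_s_75_77 (c : Nat) : Nat := @Bool.rec (fun _ => Nat) (Btab_75) (Btab_76) (Nat.ble 76 c)
noncomputable def Btab_s_78_80 (c : Nat) : Nat := @Bool.rec (fun _ => Nat) (Btab_78) (Btab_79) (Nat.ble 79 c)
noncomputable def Btab_s_77_80 (c : Nat) : Nat := @Bool.rec (fun _ => Nat) (Btab_77) (Btab_s_78_80 c) (Nat.ble 78 c)
noncomputable def Btab_s_75_80 (c : Nat) : Nat := @Bool.rec (fun _ => Nat) (Btab_s_75_77 c) (Btab_s_77_80 c) (Nat.ble 77 c)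
noncomputable def Btab_s_81_83 (c : Nat) : Nat := @Bool.rec (fun _ => Nat) (Btab_81) (Btab_82) (Nat.ble 82 c)
noncomputable def Btab_s_80_83 (c : Nat) : Nat := @Bool.rec (fun _ => Nat) (Btab_80) (Btab_s_81_83 c) (Nat.ble 81 c)
noncomputable def Btab_s_84_86 (c : Nat) : Nat := @Bool.rec (fun _ => Nat) (Btab_84) (Btab_85) (Nat.ble 85 c)
noncomputable def Btab_s_83_86 (c : Nat) : Nat := @Bool.rec (fun _ => Nat) (Btab_83) (Btab_s_84_86 c) (Nat.ble 84 c)
noncomputable def Btab_s_80_86 (c : Nat) : Nat := @Bool.rec (fun _ => Nat) (Btab_s_80_83 c) (Btab_s_83_86 c) (Nat.ble 83 c)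
noncomputable def Btab_s_75_86 (c : Nat) : Nat := @Bool.rec (fun _ => Nat) (Btab_s_75_80 c) (Btab_s_80_86 c) (Nat.ble 80 c)
noncomputable def Btab_s_64_86 (c : Nat) : Nat := @Bool.rec (fun _ => Nat) (Btab_s_64_75 c) (Btab_s_75_86 c) (Nat.ble 75 c)
noncomputable def Btab_s_43_86 (c : Nat) : Nat := @Bool.rec (fun _ => Nat) (Btab_s_43_64 c) (Btab_s_64_86 c) (Nat.ble 64 c)
noncomputable def Btab_s_0_86 (c : Nat) : Nat := @Bool.rec (fun _ => Nat) (Btab_s_0_43 c) (Btab_s_43_86 c) (Nat.ble 43 c)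
noncomputable def Btab_s_86_88 (c : Nat) : Nat := @Bool.rec (fun _ => Nat) (Btab_86) (Btab_87) (Nat.ble 87 c)
noncomputable def Btab_s_89_91 (c : Nat) : Nat := @Bool.rec (fun _ => Nat) (Btab_89) (Btab_90) (Nat.ble 90 c)
noncomputable def Btab_s_88_91 (c : Nat) : Nat := @Bool.rec (fun _ => Nat) (Btab_88) (Btab_s_89_91 c) (Nat.ble 89 c)
noncomputable def Btab_s_86_91 (c : Nat) : Nat := @Bool.rec (fun _ => Nat) (Btab_s_86_88 c) (Btab_s_88_91 c) (Nat.ble 88 c)
noncomputable def Btab_s_91_93 (c : Nat) : Nat := @Bool.rec (fun _ => Nat) (Btab_91) (Btab_92) (Nat.ble 92 c)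
noncomputable def Btab_s_94_96 (c : Nat) : Nat := @Bool.rec (fun _ => Nat) (Btab_94) (Btab_95) (Nat.ble 95 c)
noncomputable def Btab_s_93_96 (c : Nat) : Nat := @Bool.rec (fun _ => Nat) (Btab_93) (Btab_s_94_96 c) (Nat.ble 94 c)
noncomputable def Btab_s_91_96 (c : Nat) : Nat := @Bool.rec (fun _ => Nat) (Btab_s_91_93 c) (Btab_s_93_96 c) (Nat.ble 93 c)
noncomputable def Btab_s_86_96 (c : Nat) : Nat := @Bool.rec (fun _ => Nat) (Btab_s_86_91 c) (Btab_s_91_96 c) (Nat.ble 91 c)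
noncomputable def Btab_s_96_98 (c : Nat) : Nat := @Bool.rec (fun _ => Nat) (Btab_96) (Btab_97) (Nat.ble 97 c)
noncomputable def Btab_s_99_101 (c : Nat) : Nat := @Bool.rec (fun _ => Nat) (Btab_99) (Btab_100) (Nat.ble 100 c)
noncomputable def Btab_s_98_101 (c : Nat) : Nat := @Bool.rec (fun _ => Nat) (Btab_98) (Btab_s_99_101 c) (Nat.ble 99 c)
noncomputable def Btab_s_96_101 (c : Nat) : Nat := @Bool.rec (fun _ => Nat) (Btab_s_96_98 c) (Btab_s_98_101 c) (Nat.ble 98 c)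
noncomputable def Btab_s_102_104 (c : Nat) : Nat := @Bool.rec (fun _ => Nat) (Btab_102) (Btab_103) (Nat.ble 103 c)
noncomputable def Btab_s_101_104 (c : Nat) : Nat := @Bool.rec (fun _ => Nat) (Btab_101) (Btab_s_102_104 c) (Nat.ble 102 c)
noncomputable def Btab_s_105_107 (c : Nat) : Nat := @Bool.rec (fun _ => Nat) (Btab_105) (Btab_106) (Nat.ble 106 c)
noncomputable def Btab_s_104_107 (c : Nat) : Nat := @Bool.rec (fun _ => Nat) (Btab_104) (Btab_s_105_107 c) (Nat.ble 105 c)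
noncomputable def Btab_s_101_107 (c : Nat) : Nat := @Bool.rec (fun _ => Nat) (Btab_s_101_104 c) (Btab_s_104_107 c) (Nat.ble 104 c)
noncomputable def Btab_s_96_107 (c : Nat) : Nat := @Bool.rec (fun _ => Nat) (Btab_s_96_101 c) (Btab_s_101_107 c) (Nat.ble 101 c)
noncomputable def Btab_s_86_107 (c : Nat) : Nat := @Bool.rec (fun _ => Nat) (Btab_s_86_96 c) (Btab_s_96_107 c) (Nat.ble 96 c)
noncomputable def Btab_s_107_109 (c : Nat) : Nat := @Bool.rec (fun _ => Nat) (Btab_107) (Btab_108) (Nat.ble 108 c)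
noncomputable def Btab_s_110_112 (c : Nat) : Nat := @Bool.rec (fun _ => Nat) (Btab_110) (Btab_111) (Nat.ble 111 c)
noncomputable def Btab_s_109_112 (c : Nat) : Nat := @Bool.rec (fun _ => Nat) (Btab_109) (Btab_s_110_112 c) (Nat.ble 110 c)
noncomputable def Btab_s_107_112 (c : Nat) : Nat := @Bool.rec (fun _ => Nat) (Btab_s_107_109 c) (Btab_s_109_112 c) (Nat.ble 109 c)
noncomputable def Btab_s_113_115 (c : Nat) : Nat := @Bool.rec (fun _ => Nat) (Btab_113) (Btab_114) (Nat.ble 114 c)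
noncomputable def Btab_s_112_115 (c : Nat) : Nat := @Bool.rec (fun _ => Nat) (Btab_112) (Btab_s_113_115 c) (Nat.ble 113 c)
noncomputable def Btab_s_116_118 (c : Nat) : Nat := @Bool.rec (fun _ => Nat) (Btab_116) (Btab_117) (Nat.ble 117 c)
noncomputable def Btab_s_115_118 (c : Nat) : Nat := @Bool.rec (fun _ => Nat) (Btab_115) (Btab_s_116_118 c) (Nat.ble 116 c)
noncomputable def Btab_s_112_118 (c : Nat) : Nat := @Bool.rec (fun _ => Nat) (Btab_s_112_115 c) (Btab_s_115_118 c) (Nat.ble 115 c)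
noncomputable def Btab_s_107_118 (c : Nat) : Nat := @Bool.rec (fun _ => Nat) (Btab_s_107_112 c) (Btab_s_112_118 c) (Nat.ble 112 c)
noncomputable def Btab_s_118_120 (c : Nat) : Nat := @Bool.rec (fun _ => Nat) (Btab_118) (Btab_119) (Nat.ble 119 c)
noncomputable def Btab_s_121_123 (c : Nat) : Nat := @Bool.rec (fun _ => Nat) (Btab_121) (Btab_122) (Nat.ble 122 c)
noncomputable def Btab_s_120_123 (c : Nat) : Nat := @Bool.rec (fun _ => Nat) (Btab_120) (Btab_s_121_123 c) (Nat.ble 121 c)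
noncomputable def Btab_s_118_123 (c : Nat) : Nat := @Bool.rec (fun _ => Nat) (Btab_s_118_120 c) (Btab_s_120_123 c) (Nat.ble 120 c)
noncomputable def Btab_s_124_126 (c : Nat) : Nat := @Bool.rec (fun _ => Nat) (Btab_124) (Btab_125) (Nat.ble 125 c)
noncomputable def Btab_s_123_126 (c : Nat) : Nat := @Bool.rec (fun _ => Nat) (Btab_123) (Btab_s_124_126 c) (Nat.ble 124 c)
noncomputable def Btab_s_127_129 (c : Nat) : Nat := @Bool.rec (fun _ => Nat) (Btab_127) (Btab_128) (Nat.ble 128 c)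
noncomputable def Btab_s_126_129 (c : Nat) : Nat := @Bool.rec (fun _ => Nat) (Btab_126) (Btab_s_127_129 c) (Nat.ble 127 c)
noncomputable def Btab_s_123_129 (c : Nat) : Nat := @Bool.rec (fun _ => Nat) (Btab_s_123_126 c) (Btab_s_126_129 c) (Nat.ble 126 c)
noncomputable def Btab_s_118_129 (c : Nat) : Nat := @Bool.rec (fun _ => Nat) (Btab_s_118_123 c) (Btab_s_123_129 c) (Nat.ble 123 c)
noncomputable def Btab_s_107_129 (c : Nat) : Nat := @Bool.rec (fun _ => Nat) (Btab_s_107_118 c) (Btab_s_118_129 c) (Nat.ble 118 c)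
noncomputable def Btab_s_86_129 (c : Nat) : Nat := @Bool.rec (fun _ => Nat) (Btab_s_86_107 c) (Btab_s_107_129 c) (Nat.ble 107 c)
noncomputable def Btab_s_129_131 (c : Nat) : Nat := @Bool.rec (fun _ => Nat) (Btab_129) (Btab_130) (Nat.ble 130 c)
noncomputable def Btab_s_132_134 (c : Nat) : Nat := @Bool.rec (fun _ => Nat) (Btab_132) (Btab_133) (Nat.ble 133 c)
noncomputable def Btab_s_131_134 (c : Nat) : Nat := @Bool.rec (fun _ => Nat) (Btab_131) (Btab_s_132_134 c) (Nat.ble 132 c)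
noncomputable def Btab_s_129_134 (c : Nat) : Nat := @Bool.rec (fun _ => Nat) (Btab_s_129_131 c) (Btab_s_131_134 c) (Nat.ble 131 c)
noncomputable def Btab_s_135_137 (c : Nat) : Nat := @Bool.rec (fun _ => Nat) (Btab_135) (Btab_136) (Nat.ble 136 c)
noncomputable def Btab_s_134_137 (c : Nat) : Nat := @Bool.rec (fun _ => Nat) (Btab_134) (Btab_s_135_137 c) (Nat.ble 135 c)
noncomputable def Btab_s_138_140 (c : Nat) : Nat := @Bool.rec (fun _ => Nat) (Btab_138) (Btab_139) (Nat.ble 139 c)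
noncomputable def Btab_s_137_140 (c : Nat) : Nat := @Bool.rec (fun _ => Nat) (Btab_137) (Btab_s_138_140 c) (Nat.ble 138 c)
noncomputable def Btab_s_134_140 (c : Nat) : Nat := @Bool.rec (fun _ => Nat) (Btab_s_134_137 c) (Btab_s_137_140 c) (Nat.ble 137 c)
noncomputable def Btab_s_129_140 (c : Nat) : Nat := @Bool.rec (fun _ => Nat) (Btab_s_129_134 c) (Btab_s_134_140 c) (Nat.ble 134 c)
noncomputable def Btab_s_140_142 (c : Nat) : Nat := @Bool.rec (fun _ => Nat) (Btab_140) (Btab_141) (Nat.ble 141 c)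
noncomputable def Btab_s_143_145 (c : Nat) : Nat := @Bool.rec (fun _ => Nat) (Btab_143) (Btab_144) (Nat.ble 144 c)
noncomputable def Btab_s_142_145 (c : Nat) : Nat := @Bool.rec (fun _ => Nat) (Btab_142) (Btab_s_143_145 c) (Nat.ble 143 c)
noncomputable def Btab_s_140_145 (c : Nat) : Nat := @Bool.rec (fun _ => Nat) (Btab_s_140_142 c) (Btab_s_142_145 c) (Nat.ble 142 c)
noncomputable def Btab_s_146_148 (c : Nat) : Nat := @Bool.rec (fun _ => Nat) (Btab_146) (Btab_147) (Nat.ble 147 c)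
noncomputable def Btab_s_145_148 (c : Nat) : Nat := @Bool.rec (fun _ => Nat) (Btab_145) (Btab_s_146_148 c) (Nat.ble 146 c)
noncomputable def Btab_s_149_151 (c : Nat) : Nat := @Bool.rec (fun _ => Nat) (Btab_149) (Btab_150) (Nat.ble 150 c)
noncomputable def Btab_s_148_151 (c : Nat) : Nat := @Bool.rec (fun _ => Nat) (Btab_148) (Btab_s_149_151 c) (Nat.ble 149 c)
noncomputable def Btab_s_145_151 (c : Nat) : Nat := @Bool.rec (fun _ => Nat) (Btab_s_145_148 c) (Btab_s_148_151 c) (Nat.ble 148 c)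
noncomputable def Btab_s_140_151 (c : Nat) : Nat := @Bool.rec (fun _ => Nat) (Btab_s_140_145 c) (Btab_s_145_151 c) (Nat.ble 145 c)
noncomputable def Btab_s_129_151 (c : Nat) : Nat := @Bool.rec (fun _ => Nat) (Btab_s_129_140 c) (Btab_s_140_151 c) (Nat.ble 140 c)
noncomputable def Btab_s_151_153 (c : Nat) : Nat := @Bool.rec (fun _ => Nat) (Btab_151) (Btab_152) (Nat.ble 152 c)
noncomputable def Btab_s_154_156 (c : Nat) : Nat := @Bool.rec (fun _ => Nat) (Btab_154) (Btab_155) (Nat.ble 155 c)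
noncomputable def Btab_s_153_156 (c : Nat) : Nat := @Bool.rec (fun _ => Nat) (Btab_153) (Btab_s_154_156 c) (Nat.ble 154 c)
noncomputable def Btab_s_151_156 (c : Nat) : Nat := @Bool.rec (fun _ => Nat) (Btab_s_151_153 c) (Btab_s_153_156 c) (Nat.ble 153 c)
noncomputable def Btab_s_157_159 (c : Nat) : Nat := @Bool.rec (fun _ => Nat) (Btab_157) (Btab_158) (Nat.ble 158 c)
noncomputable def Btab_s_156_159 (c : Nat) : Nat := @Bool.rec (fun _ => Nat) (Btab_156) (Btab_s_157_159 c) (Nat.ble 157 c)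
noncomputable def Btab_s_160_162 (c : Nat) : Nat := @Bool.rec (fun _ => Nat) (Btab_160) (Btab_161) (Nat.ble 161 c)
noncomputable def Btab_s_159_162 (c : Nat) : Nat := @Bool.rec (fun _ => Nat) (Btab_159) (Btab_s_160_162 c) (Nat.ble 160 c)
noncomputable def Btab_s_156_162 (c : Nat) : Nat := @Bool.rec (fun _ => Nat) (Btab_s_156_159 c) (Btab_s_159_162 c) (Nat.ble 159 c)
noncomputable def Btab_s_151_162 (c : Nat) : Nat := @Bool.rec (fun _ => Nat) (Btab_s_151_156 c) (Btab_s_156_162 c) (Nat.ble 156 c)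
noncomputable def Btab_s_162_164 (c : Nat) : Nat := @Bool.rec (fun _ => Nat) (Btab_162) (Btab_163) (Nat.ble 163 c)
noncomputable def Btab_s_165_167 (c : Nat) : Nat := @Bool.rec (fun _ => Nat) (Btab_165) (Btab_166) (Nat.ble 166 c)
noncomputable def Btab_s_164_167 (c : Nat) : Nat := @Bool.rec (fun _ => Nat) (Btab_164) (Btab_s_165_167 c) (Nat.ble 165 c)
noncomputable def Btab_s_162_167 (c : Nat) : Nat := @Bool.rec (fun _ => Nat) (Btab_s_162_164 c) (Btab_s_164_167 c) (Nat.ble 164 c)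
noncomputable def Btab_s_168_170 (c : Nat) : Nat := @Bool.rec (fun _ => Nat) (Btab_168) (Btab_169) (Nat.ble 169 c)
noncomputable def Btab_s_167_170 (c : Nat) : Nat := @Bool.rec (fun _ => Nat) (Btab_167) (Btab_s_168_170 c) (Nat.ble 168 c)
noncomputable def Btab_s_171_173 (c : Nat) : Nat := @Bool.rec (fun _ => Nat) (Btab_171) (Btab_172) (Nat.ble 172 c)
noncomputable def Btab_s_170_173 (c : Nat) : Nat := @Bool.rec (fun _ => Nat) (Btab_170) (Btab_s_171_173 c) (Nat.ble 171 c)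
noncomputable def Btab_s_167_173 (c : Nat) : Nat := @Bool.rec (fun _ => Nat) (Btab_s_167_170 c) (Btab_s_170_173 c) (Nat.ble 170 c)
noncomputable def Btab_s_162_173 (c : Nat) : Nat := @Bool.rec (fun _ => Nat) (Btab_s_162_167 c) (Btab_s_167_173 c) (Nat.ble 167 c)
noncomputable def Btab_s_151_173 (c : Nat) : Nat := @Bool.rec (fun _ => Nat) (Btab_s_151_162 c) (Btab_s_162_173 c) (Nat.ble 162 c)
noncomputable def Btab_s_129_173 (c : Nat) : Nat := @Bool.rec (fun _ => Nat) (Btab_s_129_151 c) (Btab_s_151_173 c) (Nat.ble 151 c)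
noncomputable def Btab_s_86_173 (c : Nat) : Nat := @Bool.rec (fun _ => Nat) (Btab_s_86_129 c) (Btab_s_129_173 c) (Nat.ble 129 c)
noncomputable def Btab_s_0_173 (c : Nat) : Nat := @Bool.rec (fun _ => Nat) (Btab_s_0_86 c) (Btab_s_86_173 c) (Nat.ble 86 c)
noncomputable def Btab_s_173_175 (c : Nat) : Nat := @Bool.rec (fun _ => Nat) (Btab_173) (Btab_174) (Nat.ble 174 c)
noncomputable def Btab_s_176_178 (c : Nat) : Nat := @Bool.rec (fun _ => Nat) (Btab_176) (Btab_177) (Nat.ble 177 c)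
noncomputable def Btab_s_175_178 (c : Nat) : Nat := @Bool.rec (fun _ => Nat) (Btab_175) (Btab_s_176_178 c) (Nat.ble 176 c)
noncomputable def Btab_s_173_178 (c : Nat) : Nat := @Bool.rec (fun _ => Nat) (Btab_s_173_175 c) (Btab_s_175_178 c) (Nat.ble 175 c)
noncomputable def Btab_s_178_180 (c : Nat) : Nat := @Bool.rec (fun _ => Nat) (Btab_178) (Btab_179) (Nat.ble 179 c)
noncomputable def Btab_s_181_183 (c : Nat) : Nat := @Bool.rec (fun _ => Nat) (Btab_181) (Btab_182) (Nat.ble 182 c)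
noncomputable def Btab_s_180_183 (c : Nat) : Nat := @Bool.rec (fun _ => Nat) (Btab_180) (Btab_s_181_183 c) (Nat.ble 181 c)
noncomputable def Btab_s_178_183 (c : Nat) : Nat := @Bool.rec (fun _ => Nat) (Btab_s_178_180 c) (Btab_s_180_183 c) (Nat.ble 180 c)
noncomputable def Btab_s_173_183 (c : Nat) : Nat := @Bool.rec (fun _ => Nat) (Btab_s_173_178 c) (Btab_s_178_183 c) (Nat.ble 178 c)
noncomputable def Btab_s_183_185 (c : Nat) : Nat := @Bool.rec (fun _ => Nat) (Btab_183) (Btab_184) (Nat.ble 184 c)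
noncomputable def Btab_s_186_188 (c : Nat) : Nat := @Bool.rec (fun _ => Nat) (Btab_186) (Btab_187) (Nat.ble 187 c)
noncomputable def Btab_s_185_188 (c : Nat) : Nat := @Bool.rec (fun _ => Nat) (Btab_185) (Btab_s_186_188 c) (Nat.ble 186 c)
noncomputable def Btab_s_183_188 (c : Nat) : Nat := @Bool.rec (fun _ => Nat) (Btab_s_183_185 c) (Btab_s_185_188 c) (Nat.ble 185 c)
noncomputable def Btab_s_189_191 (c : Nat) : Nat := @Bool.rec (fun _ => Nat) (Btab_189) (Btab_190) (Nat.ble 190 c)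
noncomputable def Btab_s_188_191 (c : Nat) : Nat := @Bool.rec (fun _ => Nat) (Btab_188) (Btab_s_189_191 c) (Nat.ble 189 c)
noncomputable def Btab_s_192_194 (c : Nat) : Nat := @Bool.rec (fun _ => Nat) (Btab_192) (Btab_193) (Nat.ble 193 c)
noncomputable def Btab_s_191_194 (c : Nat) : Nat := @Bool.rec (fun _ => Nat) (Btab_191) (Btab_s_192_194 c) (Nat.ble 192 c)
noncomputable def Btab_s_188_194 (c : Nat) : Nat := @Bool.rec (fun _ => Nat) (Btab_s_188_191 c) (Btab_s_191_194 c) (Nat.ble 191 c)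
noncomputable def Btab_s_183_194 (c : Nat) : Nat := @Bool.rec (fun _ => Nat) (Btab_s_183_188 c) (Btab_s_188_194 c) (Nat.ble 188 c)
noncomputable def Btab_s_173_194 (c : Nat) : Nat := @Bool.rec (fun _ => Nat) (Btab_s_173_183 c) (Btab_s_183_194 c) (Nat.ble 183 c)
noncomputable def Btab_s_194_196 (c : Nat) : Nat := @Bool.rec (fun _ => Nat) (Btab_194) (Btab_195) (Nat.ble 195 c)
noncomputable def Btab_s_197_199 (c : Nat) : Nat := @Bool.rec (fun _ => Nat) (Btab_197) (Btab_198) (Nat.ble 198 c)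
noncomputable def Btab_s_196_199 (c : Nat) : Nat := @Bool.rec (fun _ => Nat) (Btab_196) (Btab_s_197_199 c) (Nat.ble 197 c)
noncomputable def Btab_s_194_199 (c : Nat) : Nat := @Bool.rec (fun _ => Nat) (Btab_s_194_196 c) (Btab_s_196_199 c) (Nat.ble 196 c)
noncomputable def Btab_s_200_202 (c : Nat) : Nat := @Bool.rec (fun _ => Nat) (Btab_200) (Btab_201) (Nat.ble 201 c)
noncomputable def Btab_s_199_202 (c : Nat) : Nat := @Bool.rec (fun _ => Nat) (Btab_199) (Btab_s_200_202 c) (Nat.ble 200 c)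
noncomputable def Btab_s_203_205 (c : Nat) : Nat := @Bool.rec (fun _ => Nat) (Btab_203) (Btab_204) (Nat.ble 204 c)
noncomputable def Btab_s_202_205 (c : Nat) : Nat := @Bool.rec (fun _ => Nat) (Btab_202) (Btab_s_203_205 c) (Nat.ble 203 c)
noncomputable def Btab_s_199_205 (c : Nat) : Nat := @Bool.rec (fun _ => Nat) (Btab_s_199_202 c) (Btab_s_202_205 c) (Nat.ble 202 c)
noncomputable def Btab_s_194_205 (c : Nat) : Nat := @Bool.rec (fun _ => Nat) (Btab_s_194_199 c) (Btab_s_199_205 c) (Nat.ble 199 c)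
noncomputable def Btab_s_205_207 (c : Nat) : Nat := @Bool.rec (fun _ => Nat) (Btab_205) (Btab_206) (Nat.ble 206 c)
noncomputable def Btab_s_208_210 (c : Nat) : Nat := @Bool.rec (fun _ => Nat) (Btab_208) (Btab_209) (Nat.ble 209 c)
noncomputable def Btab_s_207_210 (c : Nat) : Nat := @Bool.rec (fun _ => Nat) (Btab_207) (Btab_s_208_210 c) (Nat.ble 208 c)
noncomputable def Btab_s_205_210 (c : Nat) : Nat := @Bool.rec (fun _ => Nat) (Btab_s_205_207 c) (Btab_s_207_210 c) (Nat.ble 207 c)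
noncomputable def Btab_s_211_213 (c : Nat) : Nat := @Bool.rec (fun _ => Nat) (Btab_211) (Btab_212) (Nat.ble 212 c)
noncomputable def Btab_s_210_213 (c : Nat) : Nat := @Bool.rec (fun _ => Nat) (Btab_210) (Btab_s_211_213 c) (Nat.ble 211 c)
noncomputable def Btab_s_214_216 (c : Nat) : Nat := @Bool.rec (fun _ => Nat) (Btab_214) (Btab_215) (Nat.ble 215 c)
noncomputable def Btab_s_213_216 (c : Nat) : Nat := @Bool.rec (fun _ => Nat) (Btab_213) (Btab_s_214_216 c) (Nat.ble 214 c)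
noncomputable def Btab_s_210_216 (c : Nat) : Nat := @Bool.rec (fun _ => Nat) (Btab_s_210_213 c) (Btab_s_213_216 c) (Nat.ble 213 c)
noncomputable def Btab_s_205_216 (c : Nat) : Nat := @Bool.rec (fun _ => Nat) (Btab_s_205_210 c) (Btab_s_210_216 c) (Nat.ble 210 c)
noncomputable def Btab_s_194_216 (c : Nat) : Nat := @Bool.rec (fun _ => Nat) (Btab_s_194_205 c) (Btab_s_205_216 c) (Nat.ble 205 c)
noncomputable def Btab_s_173_216 (c : Nat) : Nat := @Bool.rec (fun _ => Nat) (Btab_s_173_194 c) (Btab_s_194_216 c) (Nat.ble 194 c)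
noncomputable def Btab_s_216_218 (c : Nat) : Nat := @Bool.rec (fun _ => Nat) (Btab_216) (Btab_217) (Nat.ble 217 c)
noncomputable def Btab_s_219_221 (c : Nat) : Nat := @Bool.rec (fun _ => Nat) (Btab_219) (Btab_220) (Nat.ble 220 c)
noncomputable def Btab_s_218_221 (c : Nat) : Nat := @Bool.rec (fun _ => Nat) (Btab_218) (Btab_s_219_221 c) (Nat.ble 219 c)
noncomputable def Btab_s_216_221 (c : Nat) : Nat := @Bool.rec (fun _ => Nat) (Btab_s_216_218 c) (Btab_s_218_221 c) (Nat.ble 218 c)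
noncomputable def Btab_s_221_223 (c : Nat) : Nat := @Bool.rec (fun _ => Nat) (Btab_221) (Btab_222) (Nat.ble 222 c)
noncomputable def Btab_s_224_226 (c : Nat) : Nat := @Bool.rec (fun _ => Nat) (Btab_224) (Btab_225) (Nat.ble 225 c)
noncomputable def Btab_s_223_226 (c : Nat) : Nat := @Bool.rec (fun _ => Nat) (Btab_223) (Btab_s_224_226 c) (Nat.ble 224 c)
noncomputable def Btab_s_221_226 (c : Nat) : Nat := @Bool.rec (fun _ => Nat) (Btab_s_221_223 c) (Btab_s_223_226 c) (Nat.ble 223 c)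
noncomputable def Btab_s_216_226 (c : Nat) : Nat := @Bool.rec (fun _ => Nat) (Btab_s_216_221 c) (Btab_s_221_226 c) (Nat.ble 221 c)
noncomputable def Btab_s_226_228 (c : Nat) : Nat := @Bool.rec (fun _ => Nat) (Btab_226) (Btab_227) (Nat.ble 227 c)
noncomputable def Btab_s_229_231 (c : Nat) : Nat := @Bool.rec (fun _ => Nat) (Btab_229) (Btab_230) (Nat.ble 230 c)
noncomputable def Btab_s_228_231 (c : Nat) : Nat := @Bool.rec (fun _ => Nat) (Btab_228) (Btab_s_229_231 c) (Nat.ble 229 c)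
noncomputable def Btab_s_226_231 (c : Nat) : Nat := @Bool.rec (fun _ => Nat) (Btab_s_226_228 c) (Btab_s_228_231 c) (Nat.ble 228 c)
noncomputable def Btab_s_232_234 (c : Nat) : Nat := @Bool.rec (fun _ => Nat) (Btab_232) (Btab_233) (Nat.ble 233 c)
noncomputable def Btab_s_231_234 (c : Nat) : Nat := @Bool.rec (fun _ => Nat) (Btab_231) (Btab_s_232_234 c) (Nat.ble 232 c)
noncomputable def Btab_s_235_237 (c : Nat) : Nat := @Bool.rec (fun _ => Nat) (Btab_235) (Btab_236) (Nat.ble 236 c)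
noncomputable def Btab_s_234_237 (c : Nat) : Nat := @Bool.rec (fun _ => Nat) (Btab_234) (Btab_s_235_237 c) (Nat.ble 235 c)
noncomputable def Btab_s_231_237 (c : Nat) : Nat := @Bool.rec (fun _ => Nat) (Btab_s_231_234 c) (Btab_s_234_237 c) (Nat.ble 234 c)
noncomputable def Btab_s_226_237 (c : Nat) : Nat := @Bool.rec (fun _ => Nat) (Btab_s_226_231 c) (Btab_s_231_237 c) (Nat.ble 231 c)
noncomputable def Btab_s_216_237 (c : Nat) : Nat := @Bool.rec (fun _ => Nat) (Btab_s_216_226 c) (Btab_s_226_237 c) (Nat.ble 226 c)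
noncomputable def Btab_s_237_239 (c : Nat) : Nat := @Bool.rec (fun _ => Nat) (Btab_237) (Btab_238) (Nat.ble 238 c)
noncomputable def Btab_s_240_242 (c : Nat) : Nat := @Bool.rec (fun _ => Nat) (Btab_240) (Btab_241) (Nat.ble 241 c)
noncomputable def Btab_s_239_242 (c : Nat) : Nat := @Bool.rec (fun _ => Nat) (Btab_239) (Btab_s_240_242 c) (Nat.ble 240 c)
noncomputable def Btab_s_237_242 (c : Nat) : Nat := @Bool.rec (fun _ => Nat) (Btab_s_237_239 c) (Btab_s_239_242 c) (Nat.ble 239 c)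
noncomputable def Btab_s_243_245 (c : Nat) : Nat := @Bool.rec (fun _ => Nat) (Btab_243) (Btab_244) (Nat.ble 244 c)
noncomputable def Btab_s_242_245 (c : Nat) : Nat := @Bool.rec (fun _ => Nat) (Btab_242) (Btab_s_243_245 c) (Nat.ble 243 c)
noncomputable def Btab_s_246_248 (c : Nat) : Nat := @Bool.rec (fun _ => Nat) (Btab_246) (Btab_247) (Nat.ble 247 c)
noncomputable def Btab_s_245_248 (c : Nat) : Nat := @Bool.rec (fun _ => Nat) (Btab_245) (Btab_s_246_248 c) (Nat.ble 246 c)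
noncomputable def Btab_s_242_248 (c : Nat) : Nat := @Bool.rec (fun _ => Nat) (Btab_s_242_245 c) (Btab_s_245_248 c) (Nat.ble 245 c)
noncomputable def Btab_s_237_248 (c : Nat) : Nat := @Bool.rec (fun _ => Nat) (Btab_s_237_242 c) (Btab_s_242_248 c) (Nat.ble 242 c)
noncomputable def Btab_s_248_250 (c : Nat) : Nat := @Bool.rec (fun _ => Nat) (Btab_248) (Btab_249) (Nat.ble 249 c)
noncomputable def Btab_s_251_253 (c : Nat) : Nat := @Bool.rec (fun _ => Nat) (Btab_251) (Btab_252) (Nat.ble 252 c)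
noncomputable def Btab_s_250_253 (c : Nat) : Nat := @Bool.rec (fun _ => Nat) (Btab_250) (Btab_s_251_253 c) (Nat.ble 251 c)
noncomputable def Btab_s_248_253 (c : Nat) : Nat := @Bool.rec (fun _ => Nat) (Btab_s_248_250 c) (Btab_s_250_253 c) (Nat.ble 250 c)
noncomputable def Btab_s_254_256 (c : Nat) : Nat := @Bool.rec (fun _ => Nat) (Btab_254) (Btab_255) (Nat.ble 255 c)
noncomputable def Btab_s_253_256 (c : Nat) : Nat := @Bool.rec (fun _ => Nat) (Btab_253) (Btab_s_254_256 c) (Nat.ble 254 c)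
noncomputable def Btab_s_257_259 (c : Nat) : Nat := @Bool.rec (fun _ => Nat) (Btab_257) (Btab_258) (Nat.ble 258 c)
noncomputable def Btab_s_256_259 (c : Nat) : Nat := @Bool.rec (fun _ => Nat) (Btab_256) (Btab_s_257_259 c) (Nat.ble 257 c)
noncomputable def Btab_s_253_259 (c : Nat) : Nat := @Bool.rec (fun _ => Nat) (Btab_s_253_256 c) (Btab_s_256_259 c) (Nat.ble 256 c)
noncomputable def Btab_s_248_259 (c : Nat) : Nat := @Bool.rec (fun _ => Nat) (Btab_s_248_253 c) (Btab_s_253_259 c) (Nat.ble 253 c)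
noncomputable def Btab_s_237_259 (c : Nat) : Nat := @Bool.rec (fun _ => Nat) (Btab_s_237_248 c) (Btab_s_248_259 c) (Nat.ble 248 c)
noncomputable def Btab_s_216_259 (c : Nat) : Nat := @Bool.rec (fun _ => Nat) (Btab_s_216_237 c) (Btab_s_237_259 c) (Nat.ble 237 c)
noncomputable def Btab_s_173_259 (c : Nat) : Nat := @Bool.rec (fun _ => Nat) (Btab_s_173_216 c) (Btab_s_216_259 c) (Nat.ble 216 c)
noncomputable def Btab_s_259_261 (c : Nat) : Nat := @Bool.rec (fun _ => Nat) (Btab_259) (Btab_260) (Nat.ble 260 c)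
noncomputable def Btab_s_262_264 (c : Nat) : Nat := @Bool.rec (fun _ => Nat) (Btab_262) (Btab_263) (Nat.ble 263 c)
noncomputable def Btab_s_261_264 (c : Nat) : Nat := @Bool.rec (fun _ => Nat) (Btab_261) (Btab_s_262_264 c) (Nat.ble 262 c)
noncomputable def Btab_s_259_264 (c : Nat) : Nat := @Bool.rec (fun _ => Nat) (Btab_s_259_261 c) (Btab_s_261_264 c) (Nat.ble 261 c)
noncomputable def Btab_s_264_266 (c : Nat) : Nat := @Bool.rec (fun _ => Nat) (Btab_264) (Btab_265) (Nat.ble 265 c)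
noncomputable def Btab_s_267_269 (c : Nat) : Nat := @Bool.rec (fun _ => Nat) (Btab_267) (Btab_268) (Nat.ble 268 c)
noncomputable def Btab_s_266_269 (c : Nat) : Nat := @Bool.rec (fun _ => Nat) (Btab_266) (Btab_s_267_269 c) (Nat.ble 267 c)
noncomputable def Btab_s_264_269 (c : Nat) : Nat := @Bool.rec (fun _ => Nat) (Btab_s_264_266 c) (Btab_s_266_269 c) (Nat.ble 266 c)
noncomputable def Btab_s_259_269 (c : Nat) : Nat := @Bool.rec (fun _ => Nat) (Btab_s_259_264 c) (Btab_s_264_269 c) (Nat.ble 264 c)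
noncomputable def Btab_s_269_271 (c : Nat) : Nat := @Bool.rec (fun _ => Nat) (Btab_269) (Btab_270) (Nat.ble 270 c)
noncomputable def Btab_s_272_274 (c : Nat) : Nat := @Bool.rec (fun _ => Nat) (Btab_272) (Btab_273) (Nat.ble 273 c)
noncomputable def Btab_s_271_274 (c : Nat) : Nat := @Bool.rec (fun _ => Nat) (Btab_271) (Btab_s_272_274 c) (Nat.ble 272 c)
noncomputable def Btab_s_269_274 (c : Nat) : Nat := @Bool.rec (fun _ => Nat) (Btab_s_269_271 c) (Btab_s_271_274 c) (Nat.ble 271 c)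
noncomputable def Btab_s_275_277 (c : Nat) : Nat := @Bool.rec (fun _ => Nat) (Btab_275) (Btab_276) (Nat.ble 276 c)
noncomputable def Btab_s_274_277 (c : Nat) : Nat := @Bool.rec (fun _ => Nat) (Btab_274) (Btab_s_275_277 c) (Nat.ble 275 c)
noncomputable def Btab_s_278_280 (c : Nat) : Nat := @Bool.rec (fun _ => Nat) (Btab_278) (Btab_279) (Nat.ble 279 c)
noncomputable def Btab_s_277_280 (c : Nat) : Nat := @Bool.rec (fun _ => Nat) (Btab_277) (Btab_s_278_280 c) (Nat.ble 278 c)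
noncomputable def Btab_s_274_280 (c : Nat) : Nat := @Bool.rec (fun _ => Nat) (Btab_s_274_277 c) (Btab_s_277_280 c) (Nat.ble 277 c)
noncomputable def Btab_s_269_280 (c : Nat) : Nat := @Bool.rec (fun _ => Nat) (Btab_s_269_274 c) (Btab_s_274_280 c) (Nat.ble 274 c)
noncomputable def Btab_s_259_280 (c : Nat) : Nat := @Bool.rec (fun _ => Nat) (Btab_s_259_269 c) (Btab_s_269_280 c) (Nat.ble 269 c)
noncomputable def Btab_s_280_282 (c : Nat) : Nat := @Bool.rec (fun _ => Nat) (Btab_280) (Btab_281) (Nat.ble 281 c)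
noncomputable def Btab_s_283_285 (c : Nat) : Nat := @Bool.rec (fun _ => Nat) (Btab_283) (Btab_284) (Nat.ble 284 c)
noncomputable def Btab_s_282_285 (c : Nat) : Nat := @Bool.rec (fun _ => Nat) (Btab_282) (Btab_s_283_285 c) (Nat.ble 283 c)
noncomputable def Btab_s_280_285 (c : Nat) : Nat := @Bool.rec (fun _ => Nat) (Btab_s_280_282 c) (Btab_s_282_285 c) (Nat.ble 282 c)
noncomputable def Btab_s_286_288 (c : Nat) : Nat := @Bool.rec (fun _ => Nat) (Btab_286) (Btab_287) (Nat.ble 287 c)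
noncomputable def Btab_s_285_288 (c : Nat) : Nat := @Bool.rec (fun _ => Nat) (Btab_285) (Btab_s_286_288 c) (Nat.ble 286 c)
noncomputable def Btab_s_289_291 (c : Nat) : Nat := @Bool.rec (fun _ => Nat) (Btab_289) (Btab_290) (Nat.ble 290 c)
noncomputable def Btab_s_288_291 (c : Nat) : Nat := @Bool.rec (fun _ => Nat) (Btab_288) (Btab_s_289_291 c) (Nat.ble 289 c)
noncomputable def Btab_s_285_291 (c : Nat) : Nat := @Bool.rec (fun _ => Nat) (Btab_s_285_288 c) (Btab_s_288_291 c) (Nat.ble 288 c)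
noncomputable def Btab_s_280_291 (c : Nat) : Nat := @Bool.rec (fun _ => Nat) (Btab_s_280_285 c) (Btab_s_285_291 c) (Nat.ble 285 c)
noncomputable def Btab_s_291_293 (c : Nat) : Nat := @Bool.rec (fun _ => Nat) (Btab_291) (Btab_292) (Nat.ble 292 c)
noncomputable def Btab_s_294_296 (c : Nat) : Nat := @Bool.rec (fun _ => Nat) (Btab_294) (Btab_295) (Nat.ble 295 c)
noncomputable def Btab_s_293_296 (c : Nat) : Nat := @Bool.rec (fun _ => Nat) (Btab_293) (Btab_s_294_296 c) (Nat.ble 294 c)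
noncomputable def Btab_s_291_296 (c : Nat) : Nat := @Bool.rec (fun _ => Nat) (Btab_s_291_293 c) (Btab_s_293_296 c) (Nat.ble 293 c)
noncomputable def Btab_s_297_299 (c : Nat) : Nat := @Bool.rec (fun _ => Nat) (Btab_297) (Btab_298) (Nat.ble 298 c)
noncomputable def Btab_s_296_299 (c : Nat) : Nat := @Bool.rec (fun _ => Nat) (Btab_296) (Btab_s_297_299 c) (Nat.ble 297 c)
noncomputable def Btab_s_300_302 (c : Nat) : Nat := @Bool.rec (fun _ => Nat) (Btab_300) (Btab_301) (Nat.ble 301 c)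
noncomputable def Btab_s_299_302 (c : Nat) : Nat := @Bool.rec (fun _ => Nat) (Btab_299) (Btab_s_300_302 c) (Nat.ble 300 c)
noncomputable def Btab_s_296_302 (c : Nat) : Nat := @Bool.rec (fun _ => Nat) (Btab_s_296_299 c) (Btab_s_299_302 c) (Nat.ble 299 c)
noncomputable def Btab_s_291_302 (c : Nat) : Nat := @Bool.rec (fun _ => Nat) (Btab_s_291_296 c) (Btab_s_296_302 c) (Nat.ble 296 c)
noncomputable def Btab_s_280_302 (c : Nat) : Nat := @Bool.rec (fun _ => Nat) (Btab_s_280_291 c) (Btab_s_291_302 c) (Nat.ble 291 c)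
noncomputable def Btab_s_259_302 (c : Nat) : Nat := @Bool.rec (fun _ => Nat) (Btab_s_259_280 c) (Btab_s_280_302 c) (Nat.ble 280 c)
noncomputable def Btab_s_302_304 (c : Nat) : Nat := @Bool.rec (fun _ => Nat) (Btab_302) (Btab_303) (Nat.ble 303 c)
noncomputable def Btab_s_305_307 (c : Nat) : Nat := @Bool.rec (fun _ => Nat) (Btab_305) (Btab_306) (Nat.ble 306 c)
noncomputable def Btab_s_304_307 (c : Nat) : Nat := @Bool.rec (fun _ => Nat) (Btab_304) (Btab_s_305_307 c) (Nat.ble 305 c)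
noncomputable def Btab_s_302_307 (c : Nat) : Nat := @Bool.rec (fun _ => Nat) (Btab_s_302_304 c) (Btab_s_304_307 c) (Nat.ble 304 c)
noncomputable def Btab_s_308_310 (c : Nat) : Nat := @Bool.rec (fun _ => Nat) (Btab_308) (Btab_309) (Nat.ble 309 c)
noncomputable def Btab_s_307_310 (c : Nat) : Nat := @Bool.rec (fun _ => Nat) (Btab_307) (Btab_s_308_310 c) (Nat.ble 308 c)
noncomputable def Btab_s_311_313 (c : Nat) : Nat := @Bool.rec (fun _ => Nat) (Btab_311) (Btab_312) (Nat.ble 312 c)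
noncomputable def Btab_s_310_313 (c : Nat) : Nat := @Bool.rec (fun _ => Nat) (Btab_310) (Btab_s_311_313 c) (Nat.ble 311 c)
noncomputable def Btab_s_307_313 (c : Nat) : Nat := @Bool.rec (fun _ => Nat) (Btab_s_307_310 c) (Btab_s_310_313 c) (Nat.ble 310 c)
noncomputable def Btab_s_302_313 (c : Nat) : Nat := @Bool.rec (fun _ => Nat) (Btab_s_302_307 c) (Btab_s_307_313 c) (Nat.ble 307 c)
noncomputable def Btab_s_313_315 (c : Nat) : Nat := @Bool.rec (fun _ => Nat) (Btab_313) (Btab_314) (Nat.ble 314 c)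
noncomputable def Btab_s_316_318 (c : Nat) : Nat := @Bool.rec (fun _ => Nat) (Btab_316) (Btab_317) (Nat.ble 317 c)
noncomputable def Btab_s_315_318 (c : Nat) : Nat := @Bool.rec (fun _ => Nat) (Btab_315) (Btab_s_316_318 c) (Nat.ble 316 c)
noncomputable def Btab_s_313_318 (c : Nat) : Nat := @Bool.rec (fun _ => Nat) (Btab_s_313_315 c) (Btab_s_315_318 c) (Nat.ble 315 c)
noncomputable def Btab_s_319_321 (c : Nat) : Nat := @Bool.rec (fun _ => Nat) (Btab_319) (Btab_320) (Nat.ble 320 c)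
noncomputable def Btab_s_318_321 (c : Nat) : Nat := @Bool.rec (fun _ => Nat) (Btab_318) (Btab_s_319_321 c) (Nat.ble 319 c)
noncomputable def Btab_s_322_324 (c : Nat) : Nat := @Bool.rec (fun _ => Nat) (Btab_322) (Btab_323) (Nat.ble 323 c)
noncomputable def Btab_s_321_324 (c : Nat) : Nat := @Bool.rec (fun _ => Nat) (Btab_321) (Btab_s_322_324 c) (Nat.ble 322 c)
noncomputable def Btab_s_318_324 (c : Nat) : Nat := @Bool.rec (fun _ => Nat) (Btab_s_318_321 c) (Btab_s_321_324 c) (Nat.ble 321 c)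
noncomputable def Btab_s_313_324 (c : Nat) : Nat := @Bool.rec (fun _ => Nat) (Btab_s_313_318 c) (Btab_s_318_324 c) (Nat.ble 318 c)
noncomputable def Btab_s_302_324 (c : Nat) : Nat := @Bool.rec (fun _ => Nat) (Btab_s_302_313 c) (Btab_s_313_324 c) (Nat.ble 313 c)
noncomputable def Btab_s_324_326 (c : Nat) : Nat := @Bool.rec (fun _ => Nat) (Btab_324) (Btab_325) (Nat.ble 325 c)
noncomputable def Btab_s_327_329 (c : Nat) : Nat := @Bool.rec (fun _ => Nat) (Btab_327) (Btab_328) (Nat.ble 328 c)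
noncomputable def Btab_s_326_329 (c : Nat) : Nat := @Bool.rec (fun _ => Nat) (Btab_326) (Btab_s_327_329 c) (Nat.ble 327 c)
noncomputable def Btab_s_324_329 (c : Nat) : Nat := @Bool.rec (fun _ => Nat) (Btab_s_324_326 c) (Btab_s_326_329 c) (Nat.ble 326 c)
noncomputable def Btab_s_330_332 (c : Nat) : Nat := @Bool.rec (fun _ => Nat) (Btab_330) (Btab_331) (Nat.ble 331 c)
noncomputable def Btab_s_329_332 (c : Nat) : Nat := @Bool.rec (fun _ => Nat) (Btab_329) (Btab_s_330_332 c) (Nat.ble 330 c)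
noncomputable def Btab_s_333_335 (c : Nat) : Nat := @Bool.rec (fun _ => Nat) (Btab_333) (Btab_334) (Nat.ble 334 c)
noncomputable def Btab_s_332_335 (c : Nat) : Nat := @Bool.rec (fun _ => Nat) (Btab_332) (Btab_s_333_335 c) (Nat.ble 333 c)
noncomputable def Btab_s_329_335 (c : Nat) : Nat := @Bool.rec (fun _ => Nat) (Btab_s_329_332 c) (Btab_s_332_335 c) (Nat.ble 332 c)
noncomputable def Btab_s_324_335 (c : Nat) : Nat := @Bool.rec (fun _ => Nat) (Btab_s_324_329 c) (Btab_s_329_335 c) (Nat.ble 329 c)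
noncomputable def Btab_s_335_337 (c : Nat) : Nat := @Bool.rec (fun _ => Nat) (Btab_335) (Btab_336) (Nat.ble 336 c)
noncomputable def Btab_s_338_340 (c : Nat) : Nat := @Bool.rec (fun _ => Nat) (Btab_338) (Btab_339) (Nat.ble 339 c)
noncomputable def Btab_s_337_340 (c : Nat) : Nat := @Bool.rec (fun _ => Nat) (Btab_337) (Btab_s_338_340 c) (Nat.ble 338 c)
noncomputable def Btab_s_335_340 (c : Nat) : Nat := @Bool.rec (fun _ => Nat) (Btab_s_335_337 c) (Btab_s_337_340 c) (Nat.ble 337 c)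
noncomputable def Btab_s_341_343 (c : Nat) : Nat := @Bool.rec (fun _ => Nat) (Btab_341) (Btab_342) (Nat.ble 342 c)
noncomputable def Btab_s_340_343 (c : Nat) : Nat := @Bool.rec (fun _ => Nat) (Btab_340) (Btab_s_341_343 c) (Nat.ble 341 c)
noncomputable def Btab_s_344_346 (c : Nat) : Nat := @Bool.rec (fun _ => Nat) (Btab_344) (Btab_345) (Nat.ble 345 c)
noncomputable def Btab_s_343_346 (c : Nat) : Nat := @Bool.rec (fun _ => Nat) (Btab_343) (Btab_s_344_346 c) (Nat.ble 344 c)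
noncomputable def Btab_s_340_346 (c : Nat) : Nat := @Bool.rec (fun _ => Nat) (Btab_s_340_343 c) (Btab_s_343_346 c) (Nat.ble 343 c)
noncomputable def Btab_s_335_346 (c : Nat) : Nat := @Bool.rec (fun _ => Nat) (Btab_s_335_340 c) (Btab_s_340_346 c) (Nat.ble 340 c)
noncomputable def Btab_s_324_346 (c : Nat) : Nat := @Bool.rec (fun _ => Nat) (Btab_s_324_335 c) (Btab_s_335_346 c) (Nat.ble 335 c)
noncomputable def Btab_s_302_346 (c : Nat) : Nat := @Bool.rec (fun _ => Nat) (Btab_s_302_324 c) (Btab_s_324_346 c) (Nat.ble 324 c)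
noncomputable def Btab_s_259_346 (c : Nat) : Nat := @Bool.rec (fun _ => Nat) (Btab_s_259_302 c) (Btab_s_302_346 c) (Nat.ble 302 c)
noncomputable def Btab_s_173_346 (c : Nat) : Nat := @Bool.rec (fun _ => Nat) (Btab_s_173_259 c) (Btab_s_259_346 c) (Nat.ble 259 c)
noncomputable def Btab_s_0_346 (c : Nat) : Nat := @Bool.rec (fun _ => Nat) (Btab_s_0_173 c) (Btab_s_173_346 c) (Nat.ble 173 c)
noncomputable def Btab_s_346_348 (c : Nat) : Nat := @Bool.rec (fun _ => Nat) (Btab_346) (Btab_347) (Nat.ble 347 c)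
noncomputable def Btab_s_349_351 (c : Nat) : Nat := @Bool.rec (fun _ => Nat) (Btab_349) (Btab_350) (Nat.ble 350 c)
noncomputable def Btab_s_348_351 (c : Nat) : Nat := @Bool.rec (fun _ => Nat) (Btab_348) (Btab_s_349_351 c) (Nat.ble 349 c)
noncomputable def Btab_s_346_351 (c : Nat) : Nat := @Bool.rec (fun _ => Nat) (Btab_s_346_348 c) (Btab_s_348_351 c) (Nat.ble 348 c)
noncomputable def Btab_s_351_353 (c : Nat) : Nat := @Bool.rec (fun _ => Nat) (Btab_351) (Btab_352) (Nat.ble 352 c)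
noncomputable def Btab_s_354_356 (c : Nat) : Nat := @Bool.rec (fun _ => Nat) (Btab_354) (Btab_355) (Nat.ble 355 c)
noncomputable def Btab_s_353_356 (c : Nat) : Nat := @Bool.rec (fun _ => Nat) (Btab_353) (Btab_s_354_356 c) (Nat.ble 354 c)
noncomputable def Btab_s_351_356 (c : Nat) : Nat := @Bool.rec (fun _ => Nat) (Btab_s_351_353 c) (Btab_s_353_356 c) (Nat.ble 353 c)
noncomputable def Btab_s_346_356 (c : Nat) : Nat := @Bool.rec (fun _ => Nat) (Btab_s_346_351 c) (Btab_s_351_356 c) (Nat.ble 351 c)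
noncomputable def Btab_s_356_358 (c : Nat) : Nat := @Bool.rec (fun _ => Nat) (Btab_356) (Btab_357) (Nat.ble 357 c)
noncomputable def Btab_s_359_361 (c : Nat) : Nat := @Bool.rec (fun _ => Nat) (Btab_359) (Btab_360) (Nat.ble 360 c)
noncomputable def Btab_s_358_361 (c : Nat) : Nat := @Bool.rec (fun _ => Nat) (Btab_358) (Btab_s_359_361 c) (Nat.ble 359 c)
noncomputable def Btab_s_356_361 (c : Nat) : Nat := @Bool.rec (fun _ => Nat) (Btab_s_356_358 c) (Btab_s_358_361 c) (Nat.ble 358 c)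
noncomputable def Btab_s_362_364 (c : Nat) : Nat := @Bool.rec (fun _ => Nat) (Btab_362) (Btab_363) (Nat.ble 363 c)
noncomputable def Btab_s_361_364 (c : Nat) : Nat := @Bool.rec (fun _ => Nat) (Btab_361) (Btab_s_362_364 c) (Nat.ble 362 c)
noncomputable def Btab_s_365_367 (c : Nat) : Nat := @Bool.rec (fun _ => Nat) (Btab_365) (Btab_366) (Nat.ble 366 c)
noncomputable def Btab_s_364_367 (c : Nat) : Nat := @Bool.rec (fun _ => Nat) (Btab_364) (Btab_s_365_367 c) (Nat.ble 365 c)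
noncomputable def Btab_s_361_367 (c : Nat) : Nat := @Bool.rec (fun _ => Nat) (Btab_s_361_364 c) (Btab_s_364_367 c) (Nat.ble 364 c)
noncomputable def Btab_s_356_367 (c : Nat) : Nat := @Bool.rec (fun _ => Nat) (Btab_s_356_361 c) (Btab_s_361_367 c) (Nat.ble 361 c)
noncomputable def Btab_s_346_367 (c : Nat) : Nat := @Bool.rec (fun _ => Nat) (Btab_s_346_356 c) (Btab_s_356_367 c) (Nat.ble 356 c)
noncomputable def Btab_s_367_369 (c : Nat) : Nat := @Bool.rec (fun _ => Nat) (Btab_367) (Btab_368) (Nat.ble 368 c)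
noncomputable def Btab_s_370_372 (c : Nat) : Nat := @Bool.rec (fun _ => Nat) (Btab_370) (Btab_371) (Nat.ble 371 c)
noncomputable def Btab_s_369_372 (c : Nat) : Nat := @Bool.rec (fun _ => Nat) (Btab_369) (Btab_s_370_372 c) (Nat.ble 370 c)
noncomputable def Btab_s_367_372 (c : Nat) : Nat := @Bool.rec (fun _ => Nat) (Btab_s_367_369 c) (Btab_s_369_372 c) (Nat.ble 369 c)
noncomputable def Btab_s_373_375 (c : Nat) : Nat := @Bool.rec (fun _ => Nat) (Btab_373) (Btab_374) (Nat.ble 374 c)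
noncomputable def Btab_s_372_375 (c : Nat) : Nat := @Bool.rec (fun _ => Nat) (Btab_372) (Btab_s_373_375 c) (Nat.ble 373 c)
noncomputable def Btab_s_376_378 (c : Nat) : Nat := @Bool.rec (fun _ => Nat) (Btab_376) (Btab_377) (Nat.ble 377 c)
noncomputable def Btab_s_375_378 (c : Nat) : Nat := @Bool.rec (fun _ => Nat) (Btab_375) (Btab_s_376_378 c) (Nat.ble 376 c)
noncomputable def Btab_s_372_378 (c : Nat) : Nat := @Bool.rec (fun _ => Nat) (Btab_s_372_375 c) (Btab_s_375_378 c) (Nat.ble 375 c)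
noncomputable def Btab_s_367_378 (c : Nat) : Nat := @Bool.rec (fun _ => Nat) (Btab_s_367_372 c) (Btab_s_372_378 c) (Nat.ble 372 c)
noncomputable def Btab_s_378_380 (c : Nat) : Nat := @Bool.rec (fun _ => Nat) (Btab_378) (Btab_379) (Nat.ble 379 c)
noncomputable def Btab_s_381_383 (c : Nat) : Nat := @Bool.rec (fun _ => Nat) (Btab_381) (Btab_382) (Nat.ble 382 c)
noncomputable def Btab_s_380_383 (c : Nat) : Nat := @Bool.rec (fun _ => Nat) (Btab_380) (Btab_s_381_383 c) (Nat.ble 381 c)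
noncomputable def Btab_s_378_383 (c : Nat) : Nat := @Bool.rec (fun _ => Nat) (Btab_s_378_380 c) (Btab_s_380_383 c) (Nat.ble 380 c)
noncomputable def Btab_s_384_386 (c : Nat) : Nat := @Bool.rec (fun _ => Nat) (Btab_384) (Btab_385) (Nat.ble 385 c)
noncomputable def Btab_s_383_386 (c : Nat) : Nat := @Bool.rec (fun _ => Nat) (Btab_383) (Btab_s_384_386 c) (Nat.ble 384 c)
noncomputable def Btab_s_387_389 (c : Nat) : Nat := @Bool.rec (fun _ => Nat) (Btab_387) (Btab_388) (Nat.ble 388 c)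
noncomputable def Btab_s_386_389 (c : Nat) : Nat := @Bool.rec (fun _ => Nat) (Btab_386) (Btab_s_387_389 c) (Nat.ble 387 c)
noncomputable def Btab_s_383_389 (c : Nat) : Nat := @Bool.rec (fun _ => Nat) (Btab_s_383_386 c) (Btab_s_386_389 c) (Nat.ble 386 c)
noncomputable def Btab_s_378_389 (c : Nat) : Nat := @Bool.rec (fun _ => Nat) (Btab_s_378_383 c) (Btab_s_383_389 c) (Nat.ble 383 c)
noncomputable def Btab_s_367_389 (c : Nat) : Nat := @Bool.rec (fun _ => Nat) (Btab_s_367_378 c) (Btab_s_378_389 c) (Nat.ble 378 c)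
noncomputable def Btab_s_346_389 (c : Nat) : Nat := @Bool.rec (fun _ => Nat) (Btab_s_346_367 c) (Btab_s_367_389 c) (Nat.ble 367 c)
noncomputable def Btab_s_389_391 (c : Nat) : Nat := @Bool.rec (fun _ => Nat) (Btab_389) (Btab_390) (Nat.ble 390 c)
noncomputable def Btab_s_392_394 (c : Nat) : Nat := @Bool.rec (fun _ => Nat) (Btab_392) (Btab_393) (Nat.ble 393 c)
noncomputable def Btab_s_391_394 (c : Nat) : Nat := @Bool.rec (fun _ => Nat) (Btab_391) (Btab_s_392_394 c) (Nat.ble 392 c)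
noncomputable def Btab_s_389_394 (c : Nat) : Nat := @Bool.rec (fun _ => Nat) (Btab_s_389_391 c) (Btab_s_391_394 c) (Nat.ble 391 c)
noncomputable def Btab_s_394_396 (c : Nat) : Nat := @Bool.rec (fun _ => Nat) (Btab_394) (Btab_395) (Nat.ble 395 c)
noncomputable def Btab_s_397_399 (c : Nat) : Nat := @Bool.rec (fun _ => Nat) (Btab_397) (Btab_398) (Nat.ble 398 c)
noncomputable def Btab_s_396_399 (c : Nat) : Nat := @Bool.rec (fun _ => Nat) (Btab_396) (Btab_s_397_399 c) (Nat.ble 397 c)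
noncomputable def Btab_s_394_399 (c : Nat) : Nat := @Bool.rec (fun _ => Nat) (Btab_s_394_396 c) (Btab_s_396_399 c) (Nat.ble 396 c)
noncomputable def Btab_s_389_399 (c : Nat) : Nat := @Bool.rec (fun _ => Nat) (Btab_s_389_394 c) (Btab_s_394_399 c) (Nat.ble 394 c)
noncomputable def Btab_s_399_401 (c : Nat) : Nat := @Bool.rec (fun _ => Nat) (Btab_399) (Btab_400) (Nat.ble 400 c)
noncomputable def Btab_s_402_404 (c : Nat) : Nat := @Bool.rec (fun _ => Nat) (Btab_402) (Btab_403) (Nat.ble 403 c)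
noncomputable def Btab_s_401_404 (c : Nat) : Nat := @Bool.rec (fun _ => Nat) (Btab_401) (Btab_s_402_404 c) (Nat.ble 402 c)
noncomputable def Btab_s_399_404 (c : Nat) : Nat := @Bool.rec (fun _ => Nat) (Btab_s_399_401 c) (Btab_s_401_404 c) (Nat.ble 401 c)
noncomputable def Btab_s_405_407 (c : Nat) : Nat := @Bool.rec (fun _ => Nat) (Btab_405) (Btab_406) (Nat.ble 406 c)
noncomputable def Btab_s_404_407 (c : Nat) : Nat := @Bool.rec (fun _ => Nat) (Btab_404) (Btab_s_405_407 c) (Nat.ble 405 c)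
noncomputable def Btab_s_408_410 (c : Nat) : Nat := @Bool.rec (fun _ => Nat) (Btab_408) (Btab_409) (Nat.ble 409 c)
noncomputable def Btab_s_407_410 (c : Nat) : Nat := @Bool.rec (fun _ => Nat) (Btab_407) (Btab_s_408_410 c) (Nat.ble 408 c)
noncomputable def Btab_s_404_410 (c : Nat) : Nat := @Bool.rec (fun _ => Nat) (Btab_s_404_407 c) (Btab_s_407_410 c) (Nat.ble 407 c)
noncomputable def Btab_s_399_410 (c : Nat) : Nat := @Bool.rec (fun _ => Nat) (Btab_s_399_404 c) (Btab_s_404_410 c) (Nat.ble 404 c)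
noncomputable def Btab_s_389_410 (c : Nat) : Nat := @Bool.rec (fun _ => Nat) (Btab_s_389_399 c) (Btab_s_399_410 c) (Nat.ble 399 c)
noncomputable def Btab_s_410_412 (c : Nat) : Nat := @Bool.rec (fun _ => Nat) (Btab_410) (Btab_411) (Nat.ble 411 c)
noncomputable def Btab_s_413_415 (c : Nat) : Nat := @Bool.rec (fun _ => Nat) (Btab_413) (Btab_414) (Nat.ble 414 c)
noncomputable def Btab_s_412_415 (c : Nat) : Nat := @Bool.rec (fun _ => Nat) (Btab_412) (Btab_s_413_415 c) (Nat.ble 413 c)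
noncomputable def Btab_s_410_415 (c : Nat) : Nat := @Bool.rec (fun _ => Nat) (Btab_s_410_412 c) (Btab_s_412_415 c) (Nat.ble 412 c)
noncomputable def Btab_s_416_418 (c : Nat) : Nat := @Bool.rec (fun _ => Nat) (Btab_416) (Btab_417) (Nat.ble 417 c)
noncomputable def Btab_s_415_418 (c : Nat) : Nat := @Bool.rec (fun _ => Nat) (Btab_415) (Btab_s_416_418 c) (Nat.ble 416 c)
noncomputable def Btab_s_419_421 (c : Nat) : Nat := @Bool.rec (fun _ => Nat) (Btab_419) (Btab_420) (Nat.ble 420 c)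
noncomputable def Btab_s_418_421 (c : Nat) : Nat := @Bool.rec (fun _ => Nat) (Btab_418) (Btab_s_419_421 c) (Nat.ble 419 c)
noncomputable def Btab_s_415_421 (c : Nat) : Nat := @Bool.rec (fun _ => Nat) (Btab_s_415_418 c) (Btab_s_418_421 c) (Nat.ble 418 c)
noncomputable def Btab_s_410_421 (c : Nat) : Nat := @Bool.rec (fun _ => Nat) (Btab_s_410_415 c) (Btab_s_415_421 c) (Nat.ble 415 c)
noncomputable def Btab_s_421_423 (c : Nat) : Nat := @Bool.rec (fun _ => Nat) (Btab_421) (Btab_422) (Nat.ble 422 c)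
noncomputable def Btab_s_424_426 (c : Nat) : Nat := @Bool.rec (fun _ => Nat) (Btab_424) (Btab_425) (Nat.ble 425 c)
noncomputable def Btab_s_423_426 (c : Nat) : Nat := @Bool.rec (fun _ => Nat) (Btab_423) (Btab_s_424_426 c) (Nat.ble 424 c)
noncomputable def Btab_s_421_426 (c : Nat) : Nat := @Bool.rec (fun _ => Nat) (Btab_s_421_423 c) (Btab_s_423_426 c) (Nat.ble 423 c)
noncomputable def Btab_s_427_429 (c : Nat) : Nat := @Bool.rec (fun _ => Nat) (Btab_427) (Btab_428) (Nat.ble 428 c)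
noncomputable def Btab_s_426_429 (c : Nat) : Nat := @Bool.rec (fun _ => Nat) (Btab_426) (Btab_s_427_429 c) (Nat.ble 427 c)
noncomputable def Btab_s_430_432 (c : Nat) : Nat := @Bool.rec (fun _ => Nat) (Btab_430) (Btab_431) (Nat.ble 431 c)
noncomputable def Btab_s_429_432 (c : Nat) : Nat := @Bool.rec (fun _ => Nat) (Btab_429) (Btab_s_430_432 c) (Nat.ble 430 c)
noncomputable def Btab_s_426_432 (c : Nat) : Nat := @Bool.rec (fun _ => Nat) (Btab_s_426_429 c) (Btab_s_429_432 c) (Nat.ble 429 c)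
noncomputable def Btab_s_421_432 (c : Nat) : Nat := @Bool.rec (fun _ => Nat) (Btab_s_421_426 c) (Btab_s_426_432 c) (Nat.ble 426 c)
noncomputable def Btab_s_410_432 (c : Nat) : Nat := @Bool.rec (fun _ => Nat) (Btab_s_410_421 c) (Btab_s_421_432 c) (Nat.ble 421 c)
noncomputable def Btab_s_389_432 (c : Nat) : Nat := @Bool.rec (fun _ => Nat) (Btab_s_389_410 c) (Btab_s_410_432 c) (Nat.ble 410 c)
noncomputable def Btab_s_346_432 (c : Nat) : Nat := @Bool.rec (fun _ => Nat) (Btab_s_346_389 c) (Btab_s_389_432 c) (Nat.ble 389 c)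
noncomputable def Btab_s_432_434 (c : Nat) : Nat := @Bool.rec (fun _ => Nat) (Btab_432) (Btab_433) (Nat.ble 433 c)
noncomputable def Btab_s_435_437 (c : Nat) : Nat := @Bool.rec (fun _ => Nat) (Btab_435) (Btab_436) (Nat.ble 436 c)
noncomputable def Btab_s_434_437 (c : Nat) : Nat := @Bool.rec (fun _ => Nat) (Btab_434) (Btab_s_435_437 c) (Nat.ble 435 c)
noncomputable def Btab_s_432_437 (c : Nat) : Nat := @Bool.rec (fun _ => Nat) (Btab_s_432_434 c) (Btab_s_434_437 c) (Nat.ble 434 c)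
noncomputable def Btab_s_437_439 (c : Nat) : Nat := @Bool.rec (fun _ => Nat) (Btab_437) (Btab_438) (Nat.ble 438 c)
noncomputable def Btab_s_440_442 (c : Nat) : Nat := @Bool.rec (fun _ => Nat) (Btab_440) (Btab_441) (Nat.ble 441 c)
noncomputable def Btab_s_439_442 (c : Nat) : Nat := @Bool.rec (fun _ => Nat) (Btab_439) (Btab_s_440_442 c) (Nat.ble 440 c)
noncomputable def Btab_s_437_442 (c : Nat) : Nat := @Bool.rec (fun _ => Nat) (Btab_s_437_439 c) (Btab_s_439_442 c) (Nat.ble 439 c)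
noncomputable def Btab_s_432_442 (c : Nat) : Nat := @Bool.rec (fun _ => Nat) (Btab_s_432_437 c) (Btab_s_437_442 c) (Nat.ble 437 c)
noncomputable def Btab_s_442_444 (c : Nat) : Nat := @Bool.rec (fun _ => Nat) (Btab_442) (Btab_443) (Nat.ble 443 c)
noncomputable def Btab_s_445_447 (c : Nat) : Nat := @Bool.rec (fun _ => Nat) (Btab_445) (Btab_446) (Nat.ble 446 c)
noncomputable def Btab_s_444_447 (c : Nat) : Nat := @Bool.rec (fun _ => Nat) (Btab_444) (Btab_s_445_447 c) (Nat.ble 445 c)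
noncomputable def Btab_s_442_447 (c : Nat) : Nat := @Bool.rec (fun _ => Nat) (Btab_s_442_444 c) (Btab_s_444_447 c) (Nat.ble 444 c)
noncomputable def Btab_s_448_450 (c : Nat) : Nat := @Bool.rec (fun _ => Nat) (Btab_448) (Btab_449) (Nat.ble 449 c)
noncomputable def Btab_s_447_450 (c : Nat) : Nat := @Bool.rec (fun _ => Nat) (Btab_447) (Btab_s_448_450 c) (Nat.ble 448 c)
noncomputable def Btab_s_451_453 (c : Nat) : Nat := @Bool.rec (fun _ => Nat) (Btab_451) (Btab_452) (Nat.ble 452 c)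
noncomputable def Btab_s_450_453 (c : Nat) : Nat := @Bool.rec (fun _ => Nat) (Btab_450) (Btab_s_451_453 c) (Nat.ble 451 c)
noncomputable def Btab_s_447_453 (c : Nat) : Nat := @Bool.rec (fun _ => Nat) (Btab_s_447_450 c) (Btab_s_450_453 c) (Nat.ble 450 c)
noncomputable def Btab_s_442_453 (c : Nat) : Nat := @Bool.rec (fun _ => Nat) (Btab_s_442_447 c) (Btab_s_447_453 c) (Nat.ble 447 c)
noncomputable def Btab_s_432_453 (c : Nat) : Nat := @Bool.rec (fun _ => Nat) (Btab_s_432_442 c) (Btab_s_442_453 c) (Nat.ble 442 c)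
noncomputable def Btab_s_453_455 (c : Nat) : Nat := @Bool.rec (fun _ => Nat) (Btab_453) (Btab_454) (Nat.ble 454 c)
noncomputable def Btab_s_456_458 (c : Nat) : Nat := @Bool.rec (fun _ => Nat) (Btab_456) (Btab_457) (Nat.ble 457 c)
noncomputable def Btab_s_455_458 (c : Nat) : Nat := @Bool.rec (fun _ => Nat) (Btab_455) (Btab_s_456_458 c) (Nat.ble 456 c)
noncomputable def Btab_s_453_458 (c : Nat) : Nat := @Bool.rec (fun _ => Nat) (Btab_s_453_455 c) (Btab_s_455_458 c) (Nat.ble 455 c)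
noncomputable def Btab_s_459_461 (c : Nat) : Nat := @Bool.rec (fun _ => Nat) (Btab_459) (Btab_460) (Nat.ble 460 c)
noncomputable def Btab_s_458_461 (c : Nat) : Nat := @Bool.rec (fun _ => Nat) (Btab_458) (Btab_s_459_461 c) (Nat.ble 459 c)
noncomputable def Btab_s_462_464 (c : Nat) : Nat := @Bool.rec (fun _ => Nat) (Btab_462) (Btab_463) (Nat.ble 463 c)
noncomputable def Btab_s_461_464 (c : Nat) : Nat := @Bool.rec (fun _ => Nat) (Btab_461) (Btab_s_462_464 c) (Nat.ble 462 c)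
noncomputable def Btab_s_458_464 (c : Nat) : Nat := @Bool.rec (fun _ => Nat) (Btab_s_458_461 c) (Btab_s_461_464 c) (Nat.ble 461 c)
noncomputable def Btab_s_453_464 (c : Nat) : Nat := @Bool.rec (fun _ => Nat) (Btab_s_453_458 c) (Btab_s_458_464 c) (Nat.ble 458 c)
noncomputable def Btab_s_464_466 (c : Nat) : Nat := @Bool.rec (fun _ => Nat) (Btab_464) (Btab_465) (Nat.ble 465 c)
noncomputable def Btab_s_467_469 (c : Nat) : Nat := @Bool.rec (fun _ => Nat) (Btab_467) (Btab_468) (Nat.ble 468 c)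
noncomputable def Btab_s_466_469 (c : Nat) : Nat := @Bool.rec (fun _ => Nat) (Btab_466) (Btab_s_467_469 c) (Nat.ble 467 c)
noncomputable def Btab_s_464_469 (c : Nat) : Nat := @Bool.rec (fun _ => Nat) (Btab_s_464_466 c) (Btab_s_466_469 c) (Nat.ble 466 c)
noncomputable def Btab_s_470_472 (c : Nat) : Nat := @Bool.rec (fun _ => Nat) (Btab_470) (Btab_471) (Nat.ble 471 c)
noncomputable def Btab_s_469_472 (c : Nat) : Nat := @Bool.rec (fun _ => Nat) (Btab_469) (Btab_s_470_472 c) (Nat.ble 470 c)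
noncomputable def Btab_s_473_475 (c : Nat) : Nat := @Bool.rec (fun _ => Nat) (Btab_473) (Btab_474) (Nat.ble 474 c)
noncomputable def Btab_s_472_475 (c : Nat) : Nat := @Bool.rec (fun _ => Nat) (Btab_472) (Btab_s_473_475 c) (Nat.ble 473 c)
noncomputable def Btab_s_469_475 (c : Nat) : Nat := @Bool.rec (fun _ => Nat) (Btab_s_469_472 c) (Btab_s_472_475 c) (Nat.ble 472 c)
noncomputable def Btab_s_464_475 (c : Nat) : Nat := @Bool.rec (fun _ => Nat) (Btab_s_464_469 c) (Btab_s_469_475 c) (Nat.ble 469 c)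
noncomputable def Btab_s_453_475 (c : Nat) : Nat := @Bool.rec (fun _ => Nat) (Btab_s_453_464 c) (Btab_s_464_475 c) (Nat.ble 464 c)
noncomputable def Btab_s_432_475 (c : Nat) : Nat := @Bool.rec (fun _ => Nat) (Btab_s_432_453 c) (Btab_s_453_475 c) (Nat.ble 453 c)
noncomputable def Btab_s_475_477 (c : Nat) : Nat := @Bool.rec (fun _ => Nat) (Btab_475) (Btab_476) (Nat.ble 476 c)
noncomputable def Btab_s_478_480 (c : Nat) : Nat := @Bool.rec (fun _ => Nat) (Btab_478) (Btab_479) (Nat.ble 479 c)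
noncomputable def Btab_s_477_480 (c : Nat) : Nat := @Bool.rec (fun _ => Nat) (Btab_477) (Btab_s_478_480 c) (Nat.ble 478 c)
noncomputable def Btab_s_475_480 (c : Nat) : Nat := @Bool.rec (fun _ => Nat) (Btab_s_475_477 c) (Btab_s_477_480 c) (Nat.ble 477 c)
noncomputable def Btab_s_481_483 (c : Nat) : Nat := @Bool.rec (fun _ => Nat) (Btab_481) (Btab_482) (Nat.ble 482 c)
noncomputable def Btab_s_480_483 (c : Nat) : Nat := @Bool.rec (fun _ => Nat) (Btab_480) (Btab_s_481_483 c) (Nat.ble 481 c)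
noncomputable def Btab_s_484_486 (c : Nat) : Nat := @Bool.rec (fun _ => Nat) (Btab_484) (Btab_485) (Nat.ble 485 c)
noncomputable def Btab_s_483_486 (c : Nat) : Nat := @Bool.rec (fun _ => Nat) (Btab_483) (Btab_s_484_486 c) (Nat.ble 484 c)
noncomputable def Btab_s_480_486 (c : Nat) : Nat := @Bool.rec (fun _ => Nat) (Btab_s_480_483 c) (Btab_s_483_486 c) (Nat.ble 483 c)
noncomputable def Btab_s_475_486 (c : Nat) : Nat := @Bool.rec (fun _ => Nat) (Btab_s_475_480 c) (Btab_s_480_486 c) (Nat.ble 480 c)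
noncomputable def Btab_s_486_488 (c : Nat) : Nat := @Bool.rec (fun _ => Nat) (Btab_486) (Btab_487) (Nat.ble 487 c)
noncomputable def Btab_s_489_491 (c : Nat) : Nat := @Bool.rec (fun _ => Nat) (Btab_489) (Btab_490) (Nat.ble 490 c)
noncomputable def Btab_s_488_491 (c : Nat) : Nat := @Bool.rec (fun _ => Nat) (Btab_488) (Btab_s_489_491 c) (Nat.ble 489 c)
noncomputable def Btab_s_486_491 (c : Nat) : Nat := @Bool.rec (fun _ => Nat) (Btab_s_486_488 c) (Btab_s_488_491 c) (Nat.ble 488 c)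
noncomputable def Btab_s_492_494 (c : Nat) : Nat := @Bool.rec (fun _ => Nat) (Btab_492) (Btab_493) (Nat.ble 493 c)
noncomputable def Btab_s_491_494 (c : Nat) : Nat := @Bool.rec (fun _ => Nat) (Btab_491) (Btab_s_492_494 c) (Nat.ble 492 c)
noncomputable def Btab_s_495_497 (c : Nat) : Nat := @Bool.rec (fun _ => Nat) (Btab_495) (Btab_496) (Nat.ble 496 c)
noncomputable def Btab_s_494_497 (c : Nat) : Nat := @Bool.rec (fun _ => Nat) (Btab_494) (Btab_s_495_497 c) (Nat.ble 495 c)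
noncomputable def Btab_s_491_497 (c : Nat) : Nat := @Bool.rec (fun _ => Nat) (Btab_s_491_494 c) (Btab_s_494_497 c) (Nat.ble 494 c)
noncomputable def Btab_s_486_497 (c : Nat) : Nat := @Bool.rec (fun _ => Nat) (Btab_s_486_491 c) (Btab_s_491_497 c) (Nat.ble 491 c)
noncomputable def Btab_s_475_497 (c : Nat) : Nat := @Bool.rec (fun _ => Nat) (Btab_s_475_486 c) (Btab_s_486_497 c) (Nat.ble 486 c)
noncomputable def Btab_s_497_499 (c : Nat) : Nat := @Bool.rec (fun _ => Nat) (Btab_497) (Btab_498) (Nat.ble 498 c)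
noncomputable def Btab_s_500_502 (c : Nat) : Nat := @Bool.rec (fun _ => Nat) (Btab_500) (Btab_501) (Nat.ble 501 c)
noncomputable def Btab_s_499_502 (c : Nat) : Nat := @Bool.rec (fun _ => Nat) (Btab_499) (Btab_s_500_502 c) (Nat.ble 500 c)
noncomputable def Btab_s_497_502 (c : Nat) : Nat := @Bool.rec (fun _ => Nat) (Btab_s_497_499 c) (Btab_s_499_502 c) (Nat.ble 499 c)
noncomputable def Btab_s_503_505 (c : Nat) : Nat := @Bool.rec (fun _ => Nat) (Btab_503) (Btab_504) (Nat.ble 504 c)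
noncomputable def Btab_s_502_505 (c : Nat) : Nat := @Bool.rec (fun _ => Nat) (Btab_502) (Btab_s_503_505 c) (Nat.ble 503 c)
noncomputable def Btab_s_506_508 (c : Nat) : Nat := @Bool.rec (fun _ => Nat) (Btab_506) (Btab_507) (Nat.ble 507 c)
noncomputable def Btab_s_505_508 (c : Nat) : Nat := @Bool.rec (fun _ => Nat) (Btab_505) (Btab_s_506_508 c) (Nat.ble 506 c)
noncomputable def Btab_s_502_508 (c : Nat) : Nat := @Bool.rec (fun _ => Nat) (Btab_s_502_505 c) (Btab_s_505_508 c) (Nat.ble 505 c)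
noncomputable def Btab_s_497_508 (c : Nat) : Nat := @Bool.rec (fun _ => Nat) (Btab_s_497_502 c) (Btab_s_502_508 c) (Nat.ble 502 c)
noncomputable def Btab_s_508_510 (c : Nat) : Nat := @Bool.rec (fun _ => Nat) (Btab_508) (Btab_509) (Nat.ble 509 c)
noncomputable def Btab_s_511_513 (c : Nat) : Nat := @Bool.rec (fun _ => Nat) (Btab_511) (Btab_512) (Nat.ble 512 c)
noncomputable def Btab_s_510_513 (c : Nat) : Nat := @Bool.rec (fun _ => Nat) (Btab_510) (Btab_s_511_513 c) (Nat.ble 511 c)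
noncomputable def Btab_s_508_513 (c : Nat) : Nat := @Bool.rec (fun _ => Nat) (Btab_s_508_510 c) (Btab_s_510_513 c) (Nat.ble 510 c)
noncomputable def Btab_s_514_516 (c : Nat) : Nat := @Bool.rec (fun _ => Nat) (Btab_514) (Btab_515) (Nat.ble 515 c)
noncomputable def Btab_s_513_516 (c : Nat) : Nat := @Bool.rec (fun _ => Nat) (Btab_513) (Btab_s_514_516 c) (Nat.ble 514 c)
noncomputable def Btab_s_517_519 (c : Nat) : Nat := @Bool.rec (fun _ => Nat) (Btab_517) (Btab_518) (Nat.ble 518 c)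
noncomputable def Btab_s_516_519 (c : Nat) : Nat := @Bool.rec (fun _ => Nat) (Btab_516) (Btab_s_517_519 c) (Nat.ble 517 c)
noncomputable def Btab_s_513_519 (c : Nat) : Nat := @Bool.rec (fun _ => Nat) (Btab_s_513_516 c) (Btab_s_516_519 c) (Nat.ble 516 c)
noncomputable def Btab_s_508_519 (c : Nat) : Nat := @Bool.rec (fun _ => Nat) (Btab_s_508_513 c) (Btab_s_513_519 c) (Nat.ble 513 c)
noncomputable def Btab_s_497_519 (c : Nat) : Nat := @Bool.rec (fun _ => Nat) (Btab_s_497_508 c) (Btab_s_508_519 c) (Nat.ble 508 c)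
noncomputable def Btab_s_475_519 (c : Nat) : Nat := @Bool.rec (fun _ => Nat) (Btab_s_475_497 c) (Btab_s_497_519 c) (Nat.ble 497 c)
noncomputable def Btab_s_432_519 (c : Nat) : Nat := @Bool.rec (fun _ => Nat) (Btab_s_432_475 c) (Btab_s_475_519 c) (Nat.ble 475 c)
noncomputable def Btab_s_346_519 (c : Nat) : Nat := @Bool.rec (fun _ => Nat) (Btab_s_346_432 c) (Btab_s_432_519 c) (Nat.ble 432 c)
noncomputable def Btab_s_519_521 (c : Nat) : Nat := @Bool.rec (fun _ => Nat) (Btab_519) (Btab_520) (Nat.ble 520 c)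
noncomputable def Btab_s_522_524 (c : Nat) : Nat := @Bool.rec (fun _ => Nat) (Btab_522) (Btab_523) (Nat.ble 523 c)
noncomputable def Btab_s_521_524 (c : Nat) : Nat := @Bool.rec (fun _ => Nat) (Btab_521) (Btab_s_522_524 c) (Nat.ble 522 c)
noncomputable def Btab_s_519_524 (c : Nat) : Nat := @Bool.rec (fun _ => Nat) (Btab_s_519_521 c) (Btab_s_521_524 c) (Nat.ble 521 c)
noncomputable def Btab_s_524_526 (c : Nat) : Nat := @Bool.rec (fun _ => Nat) (Btab_524) (Btab_525) (Nat.ble 525 c)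
noncomputable def Btab_s_527_529 (c : Nat) : Nat := @Bool.rec (fun _ => Nat) (Btab_527) (Btab_528) (Nat.ble 528 c)
noncomputable def Btab_s_526_529 (c : Nat) : Nat := @Bool.rec (fun _ => Nat) (Btab_526) (Btab_s_527_529 c) (Nat.ble 527 c)
noncomputable def Btab_s_524_529 (c : Nat) : Nat := @Bool.rec (fun _ => Nat) (Btab_s_524_526 c) (Btab_s_526_529 c) (Nat.ble 526 c)
noncomputable def Btab_s_519_529 (c : Nat) : Nat := @Bool.rec (fun _ => Nat) (Btab_s_519_524 c) (Btab_s_524_529 c) (Nat.ble 524 c)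
noncomputable def Btab_s_529_531 (c : Nat) : Nat := @Bool.rec (fun _ => Nat) (Btab_529) (Btab_530) (Nat.ble 530 c)
noncomputable def Btab_s_532_534 (c : Nat) : Nat := @Bool.rec (fun _ => Nat) (Btab_532) (Btab_533) (Nat.ble 533 c)
noncomputable def Btab_s_531_534 (c : Nat) : Nat := @Bool.rec (fun _ => Nat) (Btab_531) (Btab_s_532_534 c) (Nat.ble 532 c)
noncomputable def Btab_s_529_534 (c : Nat) : Nat := @Bool.rec (fun _ => Nat) (Btab_s_529_531 c) (Btab_s_531_534 c) (Nat.ble 531 c)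
noncomputable def Btab_s_535_537 (c : Nat) : Nat := @Bool.rec (fun _ => Nat) (Btab_535) (Btab_536) (Nat.ble 536 c)
noncomputable def Btab_s_534_537 (c : Nat) : Nat := @Bool.rec (fun _ => Nat) (Btab_534) (Btab_s_535_537 c) (Nat.ble 535 c)
noncomputable def Btab_s_538_540 (c : Nat) : Nat := @Bool.rec (fun _ => Nat) (Btab_538) (Btab_539) (Nat.ble 539 c)
noncomputable def Btab_s_537_540 (c : Nat) : Nat := @Bool.rec (fun _ => Nat) (Btab_537) (Btab_s_538_540 c) (Nat.ble 538 c)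
noncomputable def Btab_s_534_540 (c : Nat) : Nat := @Bool.rec (fun _ => Nat) (Btab_s_534_537 c) (Btab_s_537_540 c) (Nat.ble 537 c)
noncomputable def Btab_s_529_540 (c : Nat) : Nat := @Bool.rec (fun _ => Nat) (Btab_s_529_534 c) (Btab_s_534_540 c) (Nat.ble 534 c)
noncomputable def Btab_s_519_540 (c : Nat) : Nat := @Bool.rec (fun _ => Nat) (Btab_s_519_529 c) (Btab_s_529_540 c) (Nat.ble 529 c)
noncomputable def Btab_s_540_542 (c : Nat) : Nat := @Bool.rec (fun _ => Nat) (Btab_540) (Btab_541) (Nat.ble 541 c)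
noncomputable def Btab_s_543_545 (c : Nat) : Nat := @Bool.rec (fun _ => Nat) (Btab_543) (Btab_544) (Nat.ble 544 c)
noncomputable def Btab_s_542_545 (c : Nat) : Nat := @Bool.rec (fun _ => Nat) (Btab_542) (Btab_s_543_545 c) (Nat.ble 543 c)
noncomputable def Btab_s_540_545 (c : Nat) : Nat := @Bool.rec (fun _ => Nat) (Btab_s_540_542 c) (Btab_s_542_545 c) (Nat.ble 542 c)
noncomputable def Btab_s_546_548 (c : Nat) : Nat := @Bool.rec (fun _ => Nat) (Btab_546) (Btab_547) (Nat.ble 547 c)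
noncomputable def Btab_s_545_548 (c : Nat) : Nat := @Bool.rec (fun _ => Nat) (Btab_545) (Btab_s_546_548 c) (Nat.ble 546 c)
noncomputable def Btab_s_549_551 (c : Nat) : Nat := @Bool.rec (fun _ => Nat) (Btab_549) (Btab_550) (Nat.ble 550 c)
noncomputable def Btab_s_548_551 (c : Nat) : Nat := @Bool.rec (fun _ => Nat) (Btab_548) (Btab_s_549_551 c) (Nat.ble 549 c)
noncomputable def Btab_s_545_551 (c : Nat) : Nat := @Bool.rec (fun _ => Nat) (Btab_s_545_548 c) (Btab_s_548_551 c) (Nat.ble 548 c)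
noncomputable def Btab_s_540_551 (c : Nat) : Nat := @Bool.rec (fun _ => Nat) (Btab_s_540_545 c) (Btab_s_545_551 c) (Nat.ble 545 c)
noncomputable def Btab_s_551_553 (c : Nat) : Nat := @Bool.rec (fun _ => Nat) (Btab_551) (Btab_552) (Nat.ble 552 c)
noncomputable def Btab_s_554_556 (c : Nat) : Nat := @Bool.rec (fun _ => Nat) (Btab_554) (Btab_555) (Nat.ble 555 c)
noncomputable def Btab_s_553_556 (c : Nat) : Nat := @Bool.rec (fun _ => Nat) (Btab_553) (Btab_s_554_556 c) (Nat.ble 554 c)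
noncomputable def Btab_s_551_556 (c : Nat) : Nat := @Bool.rec (fun _ => Nat) (Btab_s_551_553 c) (Btab_s_553_556 c) (Nat.ble 553 c)
noncomputable def Btab_s_557_559 (c : Nat) : Nat := @Bool.rec (fun _ => Nat) (Btab_557) (Btab_558) (Nat.ble 558 c)
noncomputable def Btab_s_556_559 (c : Nat) : Nat := @Bool.rec (fun _ => Nat) (Btab_556) (Btab_s_557_559 c) (Nat.ble 557 c)
noncomputable def Btab_s_560_562 (c : Nat) : Nat := @Bool.rec (fun _ => Nat) (Btab_560) (Btab_561) (Nat.ble 561 c)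
noncomputable def Btab_s_559_562 (c : Nat) : Nat := @Bool.rec (fun _ => Nat) (Btab_559) (Btab_s_560_562 c) (Nat.ble 560 c)
noncomputable def Btab_s_556_562 (c : Nat) : Nat := @Bool.rec (fun _ => Nat) (Btab_s_556_559 c) (Btab_s_559_562 c) (Nat.ble 559 c)
noncomputable def Btab_s_551_562 (c : Nat) : Nat := @Bool.rec (fun _ => Nat) (Btab_s_551_556 c) (Btab_s_556_562 c) (Nat.ble 556 c)
noncomputable def Btab_s_540_562 (c : Nat) : Nat := @Bool.rec (fun _ => Nat) (Btab_s_540_551 c) (Btab_s_551_562 c) (Nat.ble 551 c)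
noncomputable def Btab_s_519_562 (c : Nat) : Nat := @Bool.rec (fun _ => Nat) (Btab_s_519_540 c) (Btab_s_540_562 c) (Nat.ble 540 c)
noncomputable def Btab_s_562_564 (c : Nat) : Nat := @Bool.rec (fun _ => Nat) (Btab_562) (Btab_563) (Nat.ble 563 c)
noncomputable def Btab_s_565_567 (c : Nat) : Nat := @Bool.rec (fun _ => Nat) (Btab_565) (Btab_566) (Nat.ble 566 c)
noncomputable def Btab_s_564_567 (c : Nat) : Nat := @Bool.rec (fun _ => Nat) (Btab_564) (Btab_s_565_567 c) (Nat.ble 565 c)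
noncomputable def Btab_s_562_567 (c : Nat) : Nat := @Bool.rec (fun _ => Nat) (Btab_s_562_564 c) (Btab_s_564_567 c) (Nat.ble 564 c)
noncomputable def Btab_s_568_570 (c : Nat) : Nat := @Bool.rec (fun _ => Nat) (Btab_568) (Btab_569) (Nat.ble 569 c)
noncomputable def Btab_s_567_570 (c : Nat) : Nat := @Bool.rec (fun _ => Nat) (Btab_567) (Btab_s_568_570 c) (Nat.ble 568 c)
noncomputable def Btab_s_571_573 (c : Nat) : Nat := @Bool.rec (fun _ => Nat) (Btab_571) (Btab_572) (Nat.ble 572 c)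
noncomputable def Btab_s_570_573 (c : Nat) : Nat := @Bool.rec (fun _ => Nat) (Btab_570) (Btab_s_571_573 c) (Nat.ble 571 c)
noncomputable def Btab_s_567_573 (c : Nat) : Nat := @Bool.rec (fun _ => Nat) (Btab_s_567_570 c) (Btab_s_570_573 c) (Nat.ble 570 c)
noncomputable def Btab_s_562_573 (c : Nat) : Nat := @Bool.rec (fun _ => Nat) (Btab_s_562_567 c) (Btab_s_567_573 c) (Nat.ble 567 c)
noncomputable def Btab_s_573_575 (c : Nat) : Nat := @Bool.rec (fun _ => Nat) (Btab_573) (Btab_574) (Nat.ble 574 c)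
noncomputable def Btab_s_576_578 (c : Nat) : Nat := @Bool.rec (fun _ => Nat) (Btab_576) (Btab_577) (Nat.ble 577 c)
noncomputable def Btab_s_575_578 (c : Nat) : Nat := @Bool.rec (fun _ => Nat) (Btab_575) (Btab_s_576_578 c) (Nat.ble 576 c)
noncomputable def Btab_s_573_578 (c : Nat) : Nat := @Bool.rec (fun _ => Nat) (Btab_s_573_575 c) (Btab_s_575_578 c) (Nat.ble 575 c)
noncomputable def Btab_s_579_581 (c : Nat) : Nat := @Bool.rec (fun _ => Nat) (Btab_579) (Btab_580) (Nat.ble 580 c)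
noncomputable def Btab_s_578_581 (c : Nat) : Nat := @Bool.rec (fun _ => Nat) (Btab_578) (Btab_s_579_581 c) (Nat.ble 579 c)
noncomputable def Btab_s_582_584 (c : Nat) : Nat := @Bool.rec (fun _ => Nat) (Btab_582) (Btab_583) (Nat.ble 583 c)
noncomputable def Btab_s_581_584 (c : Nat) : Nat := @Bool.rec (fun _ => Nat) (Btab_581) (Btab_s_582_584 c) (Nat.ble 582 c)
noncomputable def Btab_s_578_584 (c : Nat) : Nat := @Bool.rec (fun _ => Nat) (Btab_s_578_581 c) (Btab_s_581_584 c) (Nat.ble 581 c)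
noncomputable def Btab_s_573_584 (c : Nat) : Nat := @Bool.rec (fun _ => Nat) (Btab_s_573_578 c) (Btab_s_578_584 c) (Nat.ble 578 c)
noncomputable def Btab_s_562_584 (c : Nat) : Nat := @Bool.rec (fun _ => Nat) (Btab_s_562_573 c) (Btab_s_573_584 c) (Nat.ble 573 c)
noncomputable def Btab_s_584_586 (c : Nat) : Nat := @Bool.rec (fun _ => Nat) (Btab_584) (Btab_585) (Nat.ble 585 c)
noncomputable def Btab_s_587_589 (c : Nat) : Nat := @Bool.rec (fun _ => Nat) (Btab_587) (Btab_588) (Nat.ble 588 c)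
noncomputable def Btab_s_586_589 (c : Nat) : Nat := @Bool.rec (fun _ => Nat) (Btab_586) (Btab_s_587_589 c) (Nat.ble 587 c)
noncomputable def Btab_s_584_589 (c : Nat) : Nat := @Bool.rec (fun _ => Nat) (Btab_s_584_586 c) (Btab_s_586_589 c) (Nat.ble 586 c)
noncomputable def Btab_s_590_592 (c : Nat) : Nat := @Bool.rec (fun _ => Nat) (Btab_590) (Btab_591) (Nat.ble 591 c)
noncomputable def Btab_s_589_592 (c : Nat) : Nat := @Bool.rec (fun _ => Nat) (Btab_589) (Btab_s_590_592 c) (Nat.ble 590 c)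
noncomputable def Btab_s_593_595 (c : Nat) : Nat := @Bool.rec (fun _ => Nat) (Btab_593) (Btab_594) (Nat.ble 594 c)
noncomputable def Btab_s_592_595 (c : Nat) : Nat := @Bool.rec (fun _ => Nat) (Btab_592) (Btab_s_593_595 c) (Nat.ble 593 c)
noncomputable def Btab_s_589_595 (c : Nat) : Nat := @Bool.rec (fun _ => Nat) (Btab_s_589_592 c) (Btab_s_592_595 c) (Nat.ble 592 c)
noncomputable def Btab_s_584_595 (c : Nat) : Nat := @Bool.rec (fun _ => Nat) (Btab_s_584_589 c) (Btab_s_589_595 c) (Nat.ble 589 c)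
noncomputable def Btab_s_595_597 (c : Nat) : Nat := @Bool.rec (fun _ => Nat) (Btab_595) (Btab_596) (Nat.ble 596 c)
noncomputable def Btab_s_598_600 (c : Nat) : Nat := @Bool.rec (fun _ => Nat) (Btab_598) (Btab_599) (Nat.ble 599 c)
noncomputable def Btab_s_597_600 (c : Nat) : Nat := @Bool.rec (fun _ => Nat) (Btab_597) (Btab_s_598_600 c) (Nat.ble 598 c)
noncomputable def Btab_s_595_600 (c : Nat) : Nat := @Bool.rec (fun _ => Nat) (Btab_s_595_597 c) (Btab_s_597_600 c) (Nat.ble 597 c)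
noncomputable def Btab_s_601_603 (c : Nat) : Nat := @Bool.rec (fun _ => Nat) (Btab_601) (Btab_602) (Nat.ble 602 c)
noncomputable def Btab_s_600_603 (c : Nat) : Nat := @Bool.rec (fun _ => Nat) (Btab_600) (Btab_s_601_603 c) (Nat.ble 601 c)
noncomputable def Btab_s_604_606 (c : Nat) : Nat := @Bool.rec (fun _ => Nat) (Btab_604) (Btab_605) (Nat.ble 605 c)
noncomputable def Btab_s_603_606 (c : Nat) : Nat := @Bool.rec (fun _ => Nat) (Btab_603) (Btab_s_604_606 c) (Nat.ble 604 c)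
noncomputable def Btab_s_600_606 (c : Nat) : Nat := @Bool.rec (fun _ => Nat) (Btab_s_600_603 c) (Btab_s_603_606 c) (Nat.ble 603 c)
noncomputable def Btab_s_595_606 (c : Nat) : Nat := @Bool.rec (fun _ => Nat) (Btab_s_595_600 c) (Btab_s_600_606 c) (Nat.ble 600 c)
noncomputable def Btab_s_584_606 (c : Nat) : Nat := @Bool.rec (fun _ => Nat) (Btab_s_584_595 c) (Btab_s_595_606 c) (Nat.ble 595 c)
noncomputable def Btab_s_562_606 (c : Nat) : Nat := @Bool.rec (fun _ => Nat) (Btab_s_562_584 c) (Btab_s_584_606 c) (Nat.ble 584 c)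
noncomputable def Btab_s_519_606 (c : Nat) : Nat := @Bool.rec (fun _ => Nat) (Btab_s_519_562 c) (Btab_s_562_606 c) (Nat.ble 562 c)
noncomputable def Btab_s_606_608 (c : Nat) : Nat := @Bool.rec (fun _ => Nat) (Btab_606) (Btab_607) (Nat.ble 607 c)
noncomputable def Btab_s_609_611 (c : Nat) : Nat := @Bool.rec (fun _ => Nat) (Btab_609) (Btab_610) (Nat.ble 610 c)
noncomputable def Btab_s_608_611 (c : Nat) : Nat := @Bool.rec (fun _ => Nat) (Btab_608) (Btab_s_609_611 c) (Nat.ble 609 c)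
noncomputable def Btab_s_606_611 (c : Nat) : Nat := @Bool.rec (fun _ => Nat) (Btab_s_606_608 c) (Btab_s_608_611 c) (Nat.ble 608 c)
noncomputable def Btab_s_611_613 (c : Nat) : Nat := @Bool.rec (fun _ => Nat) (Btab_611) (Btab_612) (Nat.ble 612 c)
noncomputable def Btab_s_614_616 (c : Nat) : Nat := @Bool.rec (fun _ => Nat) (Btab_614) (Btab_615) (Nat.ble 615 c)
noncomputable def Btab_s_613_616 (c : Nat) : Nat := @Bool.rec (fun _ => Nat) (Btab_613) (Btab_s_614_616 c) (Nat.ble 614 c)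
noncomputable def Btab_s_611_616 (c : Nat) : Nat := @Bool.rec (fun _ => Nat) (Btab_s_611_613 c) (Btab_s_613_616 c) (Nat.ble 613 c)
noncomputable def Btab_s_606_616 (c : Nat) : Nat := @Bool.rec (fun _ => Nat) (Btab_s_606_611 c) (Btab_s_611_616 c) (Nat.ble 611 c)
noncomputable def Btab_s_616_618 (c : Nat) : Nat := @Bool.rec (fun _ => Nat) (Btab_616) (Btab_617) (Nat.ble 617 c)
noncomputable def Btab_s_619_621 (c : Nat) : Nat := @Bool.rec (fun _ => Nat) (Btab_619) (Btab_620) (Nat.ble 620 c)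
noncomputable def Btab_s_618_621 (c : Nat) : Nat := @Bool.rec (fun _ => Nat) (Btab_618) (Btab_s_619_621 c) (Nat.ble 619 c)
noncomputable def Btab_s_616_621 (c : Nat) : Nat := @Bool.rec (fun _ => Nat) (Btab_s_616_618 c) (Btab_s_618_621 c) (Nat.ble 618 c)
noncomputable def Btab_s_622_624 (c : Nat) : Nat := @Bool.rec (fun _ => Nat) (Btab_622) (Btab_623) (Nat.ble 623 c)
noncomputable def Btab_s_621_624 (c : Nat) : Nat := @Bool.rec (fun _ => Nat) (Btab_621) (Btab_s_622_624 c) (Nat.ble 622 c)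
noncomputable def Btab_s_625_627 (c : Nat) : Nat := @Bool.rec (fun _ => Nat) (Btab_625) (Btab_626) (Nat.ble 626 c)
noncomputable def Btab_s_624_627 (c : Nat) : Nat := @Bool.rec (fun _ => Nat) (Btab_624) (Btab_s_625_627 c) (Nat.ble 625 c)
noncomputable def Btab_s_621_627 (c : Nat) : Nat := @Bool.rec (fun _ => Nat) (Btab_s_621_624 c) (Btab_s_624_627 c) (Nat.ble 624 c)
noncomputable def Btab_s_616_627 (c : Nat) : Nat := @Bool.rec (fun _ => Nat) (Btab_s_616_621 c) (Btab_s_621_627 c) (Nat.ble 621 c)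
noncomputable def Btab_s_606_627 (c : Nat) : Nat := @Bool.rec (fun _ => Nat) (Btab_s_606_616 c) (Btab_s_616_627 c) (Nat.ble 616 c)
noncomputable def Btab_s_627_629 (c : Nat) : Nat := @Bool.rec (fun _ => Nat) (Btab_627) (Btab_628) (Nat.ble 628 c)
noncomputable def Btab_s_630_632 (c : Nat) : Nat := @Bool.rec (fun _ => Nat) (Btab_630) (Btab_631) (Nat.ble 631 c)
noncomputable def Btab_s_629_632 (c : Nat) : Nat := @Bool.rec (fun _ => Nat) (Btab_629) (Btab_s_630_632 c) (Nat.ble 630 c)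
noncomputable def Btab_s_627_632 (c : Nat) : Nat := @Bool.rec (fun _ => Nat) (Btab_s_627_629 c) (Btab_s_629_632 c) (Nat.ble 629 c)
noncomputable def Btab_s_633_635 (c : Nat) : Nat := @Bool.rec (fun _ => Nat) (Btab_633) (Btab_634) (Nat.ble 634 c)
noncomputable def Btab_s_632_635 (c : Nat) : Nat := @Bool.rec (fun _ => Nat) (Btab_632) (Btab_s_633_635 c) (Nat.ble 633 c)
noncomputable def Btab_s_636_638 (c : Nat) : Nat := @Bool.rec (fun _ => Nat) (Btab_636) (Btab_637) (Nat.ble 637 c)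
noncomputable def Btab_s_635_638 (c : Nat) : Nat := @Bool.rec (fun _ => Nat) (Btab_635) (Btab_s_636_638 c) (Nat.ble 636 c)
noncomputable def Btab_s_632_638 (c : Nat) : Nat := @Bool.rec (fun _ => Nat) (Btab_s_632_635 c) (Btab_s_635_638 c) (Nat.ble 635 c)
noncomputable def Btab_s_627_638 (c : Nat) : Nat := @Bool.rec (fun _ => Nat) (Btab_s_627_632 c) (Btab_s_632_638 c) (Nat.ble 632 c)
noncomputable def Btab_s_638_640 (c : Nat) : Nat := @Bool.rec (fun _ => Nat) (Btab_638) (Btab_639) (Nat.ble 639 c)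
noncomputable def Btab_s_641_643 (c : Nat) : Nat := @Bool.rec (fun _ => Nat) (Btab_641) (Btab_642) (Nat.ble 642 c)
noncomputable def Btab_s_640_643 (c : Nat) : Nat := @Bool.rec (fun _ => Nat) (Btab_640) (Btab_s_641_643 c) (Nat.ble 641 c)
noncomputable def Btab_s_638_643 (c : Nat) : Nat := @Bool.rec (fun _ => Nat) (Btab_s_638_640 c) (Btab_s_640_643 c) (Nat.ble 640 c)
noncomputable def Btab_s_644_646 (c : Nat) : Nat := @Bool.rec (fun _ => Nat) (Btab_644) (Btab_645) (Nat.ble 645 c)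
noncomputable def Btab_s_643_646 (c : Nat) : Nat := @Bool.rec (fun _ => Nat) (Btab_643) (Btab_s_644_646 c) (Nat.ble 644 c)
noncomputable def Btab_s_647_649 (c : Nat) : Nat := @Bool.rec (fun _ => Nat) (Btab_647) (Btab_648) (Nat.ble 648 c)
noncomputable def Btab_s_646_649 (c : Nat) : Nat := @Bool.rec (fun _ => Nat) (Btab_646) (Btab_s_647_649 c) (Nat.ble 647 c)
noncomputable def Btab_s_643_649 (c : Nat) : Nat := @Bool.rec (fun _ => Nat) (Btab_s_643_646 c) (Btab_s_646_649 c) (Nat.ble 646 c)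
noncomputable def Btab_s_638_649 (c : Nat) : Nat := @Bool.rec (fun _ => Nat) (Btab_s_638_643 c) (Btab_s_643_649 c) (Nat.ble 643 c)
noncomputable def Btab_s_627_649 (c : Nat) : Nat := @Bool.rec (fun _ => Nat) (Btab_s_627_638 c) (Btab_s_638_649 c) (Nat.ble 638 c)
noncomputable def Btab_s_606_649 (c : Nat) : Nat := @Bool.rec (fun _ => Nat) (Btab_s_606_627 c) (Btab_s_627_649 c) (Nat.ble 627 c)
noncomputable def Btab_s_649_651 (c : Nat) : Nat := @Bool.rec (fun _ => Nat) (Btab_649) (Btab_650) (Nat.ble 650 c)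
noncomputable def Btab_s_652_654 (c : Nat) : Nat := @Bool.rec (fun _ => Nat) (Btab_652) (Btab_653) (Nat.ble 653 c)
noncomputable def Btab_s_651_654 (c : Nat) : Nat := @Bool.rec (fun _ => Nat) (Btab_651) (Btab_s_652_654 c) (Nat.ble 652 c)
noncomputable def Btab_s_649_654 (c : Nat) : Nat := @Bool.rec (fun _ => Nat) (Btab_s_649_651 c) (Btab_s_651_654 c) (Nat.ble 651 c)
noncomputable def Btab_s_655_657 (c : Nat) : Nat := @Bool.rec (fun _ => Nat) (Btab_655) (Btab_656) (Nat.ble 656 c)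
noncomputable def Btab_s_654_657 (c : Nat) : Nat := @Bool.rec (fun _ => Nat) (Btab_654) (Btab_s_655_657 c) (Nat.ble 655 c)
noncomputable def Btab_s_658_660 (c : Nat) : Nat := @Bool.rec (fun _ => Nat) (Btab_658) (Btab_659) (Nat.ble 659 c)
noncomputable def Btab_s_657_660 (c : Nat) : Nat := @Bool.rec (fun _ => Nat) (Btab_657) (Btab_s_658_660 c) (Nat.ble 658 c)
noncomputable def Btab_s_654_660 (c : Nat) : Nat := @Bool.rec (fun _ => Nat) (Btab_s_654_657 c) (Btab_s_657_660 c) (Nat.ble 657 c)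
noncomputable def Btab_s_649_660 (c : Nat) : Nat := @Bool.rec (fun _ => Nat) (Btab_s_649_654 c) (Btab_s_654_660 c) (Nat.ble 654 c)
noncomputable def Btab_s_660_662 (c : Nat) : Nat := @Bool.rec (fun _ => Nat) (Btab_660) (Btab_661) (Nat.ble 661 c)
noncomputable def Btab_s_663_665 (c : Nat) : Nat := @Bool.rec (fun _ => Nat) (Btab_663) (Btab_664) (Nat.ble 664 c)
noncomputable def Btab_s_662_665 (c : Nat) : Nat := @Bool.rec (fun _ => Nat) (Btab_662) (Btab_s_663_665 c) (Nat.ble 663 c)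
noncomputable def Btab_s_660_665 (c : Nat) : Nat := @Bool.rec (fun _ => Nat) (Btab_s_660_662 c) (Btab_s_662_665 c) (Nat.ble 662 c)
noncomputable def Btab_s_666_668 (c : Nat) : Nat := @Bool.rec (fun _ => Nat) (Btab_666) (Btab_667) (Nat.ble 667 c)
noncomputable def Btab_s_665_668 (c : Nat) : Nat := @Bool.rec (fun _ => Nat) (Btab_665) (Btab_s_666_668 c) (Nat.ble 666 c)
noncomputable def Btab_s_669_671 (c : Nat) : Nat := @Bool.rec (fun _ => Nat) (Btab_669) (Btab_670) (Nat.ble 670 c)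
noncomputable def Btab_s_668_671 (c : Nat) : Nat := @Bool.rec (fun _ => Nat) (Btab_668) (Btab_s_669_671 c) (Nat.ble 669 c)
noncomputable def Btab_s_665_671 (c : Nat) : Nat := @Bool.rec (fun _ => Nat) (Btab_s_665_668 c) (Btab_s_668_671 c) (Nat.ble 668 c)
noncomputable def Btab_s_660_671 (c : Nat) : Nat := @Bool.rec (fun _ => Nat) (Btab_s_660_665 c) (Btab_s_665_671 c) (Nat.ble 665 c)
noncomputable def Btab_s_649_671 (c : Nat) : Nat := @Bool.rec (fun _ => Nat) (Btab_s_649_660 c) (Btab_s_660_671 c) (Nat.ble 660 c)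
noncomputable def Btab_s_671_673 (c : Nat) : Nat := @Bool.rec (fun _ => Nat) (Btab_671) (Btab_672) (Nat.ble 672 c)
noncomputable def Btab_s_674_676 (c : Nat) : Nat := @Bool.rec (fun _ => Nat) (Btab_674) (Btab_675) (Nat.ble 675 c)
noncomputable def Btab_s_673_676 (c : Nat) : Nat := @Bool.rec (fun _ => Nat) (Btab_673) (Btab_s_674_676 c) (Nat.ble 674 c)
noncomputable def Btab_s_671_676 (c : Nat) : Nat := @Bool.rec (fun _ => Nat) (Btab_s_671_673 c) (Btab_s_673_676 c) (Nat.ble 673 c)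
noncomputable def Btab_s_677_679 (c : Nat) : Nat := @Bool.rec (fun _ => Nat) (Btab_677) (Btab_678) (Nat.ble 678 c)
noncomputable def Btab_s_676_679 (c : Nat) : Nat := @Bool.rec (fun _ => Nat) (Btab_676) (Btab_s_677_679 c) (Nat.ble 677 c)
noncomputable def Btab_s_680_682 (c : Nat) : Nat := @Bool.rec (fun _ => Nat) (Btab_680) (Btab_681) (Nat.ble 681 c)
noncomputable def Btab_s_679_682 (c : Nat) : Nat := @Bool.rec (fun _ => Nat) (Btab_679) (Btab_s_680_682 c) (Nat.ble 680 c)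
noncomputable def Btab_s_676_682 (c : Nat) : Nat := @Bool.rec (fun _ => Nat) (Btab_s_676_679 c) (Btab_s_679_682 c) (Nat.ble 679 c)
noncomputable def Btab_s_671_682 (c : Nat) : Nat := @Bool.rec (fun _ => Nat) (Btab_s_671_676 c) (Btab_s_676_682 c) (Nat.ble 676 c)
noncomputable def Btab_s_682_684 (c : Nat) : Nat := @Bool.rec (fun _ => Nat) (Btab_682) (Btab_683) (Nat.ble 683 c)
noncomputable def Btab_s_685_687 (c : Nat) : Nat := @Bool.rec (fun _ => Nat) (Btab_685) (Btab_686) (Nat.ble 686 c)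
noncomputable def Btab_s_684_687 (c : Nat) : Nat := @Bool.rec (fun _ => Nat) (Btab_684) (Btab_s_685_687 c) (Nat.ble 685 c)
noncomputable def Btab_s_682_687 (c : Nat) : Nat := @Bool.rec (fun _ => Nat) (Btab_s_682_684 c) (Btab_s_684_687 c) (Nat.ble 684 c)
noncomputable def Btab_s_688_690 (c : Nat) : Nat := @Bool.rec (fun _ => Nat) (Btab_688) (Btab_689) (Nat.ble 689 c)
noncomputable def Btab_s_687_690 (c : Nat) : Nat := @Bool.rec (fun _ => Nat) (Btab_687) (Btab_s_688_690 c) (Nat.ble 688 c)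
noncomputable def Btab_s_691_693 (c : Nat) : Nat := @Bool.rec (fun _ => Nat) (Btab_691) (Btab_692) (Nat.ble 692 c)
noncomputable def Btab_s_690_693 (c : Nat) : Nat := @Bool.rec (fun _ => Nat) (Btab_690) (Btab_s_691_693 c) (Nat.ble 691 c)
noncomputable def Btab_s_687_693 (c : Nat) : Nat := @Bool.rec (fun _ => Nat) (Btab_s_687_690 c) (Btab_s_690_693 c) (Nat.ble 690 c)
noncomputable def Btab_s_682_693 (c : Nat) : Nat := @Bool.rec (fun _ => Nat) (Btab_s_682_687 c) (Btab_s_687_693 c) (Nat.ble 687 c)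
noncomputable def Btab_s_671_693 (c : Nat) : Nat := @Bool.rec (fun _ => Nat) (Btab_s_671_682 c) (Btab_s_682_693 c) (Nat.ble 682 c)
noncomputable def Btab_s_649_693 (c : Nat) : Nat := @Bool.rec (fun _ => Nat) (Btab_s_649_671 c) (Btab_s_671_693 c) (Nat.ble 671 c)
noncomputable def Btab_s_606_693 (c : Nat) : Nat := @Bool.rec (fun _ => Nat) (Btab_s_606_649 c) (Btab_s_649_693 c) (Nat.ble 649 c)
noncomputable def Btab_s_519_693 (c : Nat) : Nat := @Bool.rec (fun _ => Nat) (Btab_s_519_606 c) (Btab_s_606_693 c) (Nat.ble 606 c)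
noncomputable def Btab_s_346_693 (c : Nat) : Nat := @Bool.rec (fun _ => Nat) (Btab_s_346_519 c) (Btab_s_519_693 c) (Nat.ble 519 c)
noncomputable def Btab_s_0_693 (c : Nat) : Nat := @Bool.rec (fun _ => Nat) (Btab_s_0_346 c) (Btab_s_346_693 c) (Nat.ble 346 c)
noncomputable def Btab (i : Nat) : Nat := rdw 43 8796093022207 (Btab_s_0_693 (Nat.shiftRight i 11)) (Nat.land i 2047)
noncomputable def Ptab_s_0_2 (c : Nat) : Nat := @Bool.rec (fun _ => Nat) (Ptab_0) (Ptab_1) (Nat.ble 1 c)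
noncomputable def Ptab_s_3_5 (c : Nat) : Nat := @Bool.rec (fun _ => Nat) (Ptab_3) (Ptab_4) (Nat.ble 4 c)
noncomputable def Ptab_s_2_5 (c : Nat) : Nat := @Bool.rec (fun _ => Nat) (Ptab_2) (Ptab_s_3_5 c) (Nat.ble 3 c)
noncomputable def Ptab_s_0_5 (c : Nat) : Nat := @Bool.rec (fun _ => Nat) (Ptab_s_0_2 c) (Ptab_s_2_5 c) (Nat.ble 2 c)
noncomputable def Ptab_s_6_8 (c : Nat) : Nat := @Bool.rec (fun _ => Nat) (Ptab_6) (Ptab_7) (Nat.ble 7 c)
noncomputable def Ptab_s_5_8 (c : Nat) : Nat := @Bool.rec (fun _ => Nat) (Ptab_5) (Ptab_s_6_8 c) (Nat.ble 6 c)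
noncomputable def Ptab_s_9_11 (c : Nat) : Nat := @Bool.rec (fun _ => Nat) (Ptab_9) (Ptab_10) (Nat.ble 10 c)
noncomputable def Ptab_s_8_11 (c : Nat) : Nat := @Bool.rec (fun _ => Nat) (Ptab_8) (Ptab_s_9_11 c) (Nat.ble 9 c)
noncomputable def Ptab_s_5_11 (c : Nat) : Nat := @Bool.rec (fun _ => Nat) (Ptab_s_5_8 c) (Ptab_s_8_11 c) (Nat.ble 8 c)
noncomputable def Ptab_s_0_11 (c : Nat) : Nat := @Bool.rec (fun _ => Nat) (Ptab_s_0_5 c) (Ptab_s_5_11 c) (Nat.ble 5 c)
noncomputable def Ptab_s_12_14 (c : Nat) : Nat := @Bool.rec (fun _ => Nat) (Ptab_12) (Ptab_13) (Nat.ble 13 c)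
noncomputable def Ptab_s_11_14 (c : Nat) : Nat := @Bool.rec (fun _ => Nat) (Ptab_11) (Ptab_s_12_14 c) (Nat.ble 12 c)
noncomputable def Ptab_s_15_17 (c : Nat) : Nat := @Bool.rec (fun _ => Nat) (Ptab_15) (Ptab_16) (Nat.ble 16 c)
noncomputable def Ptab_s_14_17 (c : Nat) : Nat := @Bool.rec (fun _ => Nat) (Ptab_14) (Ptab_s_15_17 c) (Nat.ble 15 c)
noncomputable def Ptab_s_11_17 (c : Nat) : Nat := @Bool.rec (fun _ => Nat) (Ptab_s_11_14 c) (Ptab_s_14_17 c) (Nat.ble 14 c)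
noncomputable def Ptab_s_18_20 (c : Nat) : Nat := @Bool.rec (fun _ => Nat) (Ptab_18) (Ptab_19) (Nat.ble 19 c)
noncomputable def Ptab_s_17_20 (c : Nat) : Nat := @Bool.rec (fun _ => Nat) (Ptab_17) (Ptab_s_18_20 c) (Nat.ble 18 c)
noncomputable def Ptab_s_21_23 (c : Nat) : Nat := @Bool.rec (fun _ => Nat) (Ptab_21) (Ptab_22) (Nat.ble 22 c)
noncomputable def Ptab_s_20_23 (c : Nat) : Nat := @Bool.rec (fun _ => Nat) (Ptab_20) (Ptab_s_21_23 c) (Nat.ble 21 c)
noncomputable def Ptab_s_17_23 (c : Nat) : Nat := @Bool.rec (fun _ => Nat) (Ptab_s_17_20 c) (Ptab_s_20_23 c) (Nat.ble 20 c)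
noncomputable def Ptab_s_11_23 (c : Nat) : Nat := @Bool.rec (fun _ => Nat) (Ptab_s_11_17 c) (Ptab_s_17_23 c) (Nat.ble 17 c)
noncomputable def Ptab_s_0_23 (c : Nat) : Nat := @Bool.rec (fun _ => Nat) (Ptab_s_0_11 c) (Ptab_s_11_23 c) (Nat.ble 11 c)
noncomputable def Ptab_s_23_25 (c : Nat) : Nat := @Bool.rec (fun _ => Nat) (Ptab_23) (Ptab_24) (Nat.ble 24 c)
noncomputable def Ptab_s_26_28 (c : Nat) : Nat := @Bool.rec (fun _ => Nat) (Ptab_26) (Ptab_27) (Nat.ble 27 c)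
noncomputable def Ptab_s_25_28 (c : Nat) : Nat := @Bool.rec (fun _ => Nat) (Ptab_25) (Ptab_s_26_28 c) (Nat.ble 26 c)
noncomputable def Ptab_s_23_28 (c : Nat) : Nat := @Bool.rec (fun _ => Nat) (Ptab_s_23_25 c) (Ptab_s_25_28 c) (Nat.ble 25 c)
noncomputable def Ptab_s_29_31 (c : Nat) : Nat := @Bool.rec (fun _ => Nat) (Ptab_29) (Ptab_30) (Nat.ble 30 c)
noncomputable def Ptab_s_28_31 (c : Nat) : Nat := @Bool.rec (fun _ => Nat) (Ptab_28) (Ptab_s_29_31 c) (Nat.ble 29 c)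
noncomputable def Ptab_s_32_34 (c : Nat) : Nat := @Bool.rec (fun _ => Nat) (Ptab_32) (Ptab_33) (Nat.ble 33 c)
noncomputable def Ptab_s_31_34 (c : Nat) : Nat := @Bool.rec (fun _ => Nat) (Ptab_31) (Ptab_s_32_34 c) (Nat.ble 32 c)
noncomputable def Ptab_s_28_34 (c : Nat) : Nat := @Bool.rec (fun _ => Nat) (Ptab_s_28_31 c) (Ptab_s_31_34 c) (Nat.ble 31 c)
noncomputable def Ptab_s_23_34 (c : Nat) : Nat := @Bool.rec (fun _ => Nat) (Ptab_s_23_28 c) (Ptab_s_28_34 c) (Nat.ble 28 c)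
noncomputable def Ptab_s_35_37 (c : Nat) : Nat := @Bool.rec (fun _ => Nat) (Ptab_35) (Ptab_36) (Nat.ble 36 c)
noncomputable def Ptab_s_34_37 (c : Nat) : Nat := @Bool.rec (fun _ => Nat) (Ptab_34) (Ptab_s_35_37 c) (Nat.ble 35 c)
noncomputable def Ptab_s_38_40 (c : Nat) : Nat := @Bool.rec (fun _ => Nat) (Ptab_38) (Ptab_39) (Nat.ble 39 c)
noncomputable def Ptab_s_37_40 (c : Nat) : Nat := @Bool.rec (fun _ => Nat) (Ptab_37) (Ptab_s_38_40 c) (Nat.ble 38 c)
noncomputable def Ptab_s_34_40 (c : Nat) : Nat := @Bool.rec (fun _ => Nat) (Ptab_s_34_37 c) (Ptab_s_37_40 c) (Nat.ble 37 c)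
noncomputable def Ptab_s_41_43 (c : Nat) : Nat := @Bool.rec (fun _ => Nat) (Ptab_41) (Ptab_42) (Nat.ble 42 c)
noncomputable def Ptab_s_40_43 (c : Nat) : Nat := @Bool.rec (fun _ => Nat) (Ptab_40) (Ptab_s_41_43 c) (Nat.ble 41 c)
noncomputable def Ptab_s_44_46 (c : Nat) : Nat := @Bool.rec (fun _ => Nat) (Ptab_44) (Ptab_45) (Nat.ble 45 c)
noncomputable def Ptab_s_43_46 (c : Nat) : Nat := @Bool.rec (fun _ => Nat) (Ptab_43) (Ptab_s_44_46 c) (Nat.ble 44 c)
noncomputable def Ptab_s_40_46 (c : Nat) : Nat := @Bool.rec (fun _ => Nat) (Ptab_s_40_43 c) (Ptab_s_43_46 c) (Nat.ble 43 c)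
noncomputable def Ptab_s_34_46 (c : Nat) : Nat := @Bool.rec (fun _ => Nat) (Ptab_s_34_40 c) (Ptab_s_40_46 c) (Nat.ble 40 c)
noncomputable def Ptab_s_23_46 (c : Nat) : Nat := @Bool.rec (fun _ => Nat) (Ptab_s_23_34 c) (Ptab_s_34_46 c) (Nat.ble 34 c)
noncomputable def Ptab_s_0_46 (c : Nat) : Nat := @Bool.rec (fun _ => Nat) (Ptab_s_0_23 c) (Ptab_s_23_46 c) (Nat.ble 23 c)
noncomputable def Ptab_s_46_48 (c : Nat) : Nat := @Bool.rec (fun _ => Nat) (Ptab_46) (Ptab_47) (Nat.ble 47 c)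
noncomputable def Ptab_s_49_51 (c : Nat) : Nat := @Bool.rec (fun _ => Nat) (Ptab_49) (Ptab_50) (Nat.ble 50 c)
noncomputable def Ptab_s_48_51 (c : Nat) : Nat := @Bool.rec (fun _ => Nat) (Ptab_48) (Ptab_s_49_51 c) (Nat.ble 49 c)
noncomputable def Ptab_s_46_51 (c : Nat) : Nat := @Bool.rec (fun _ => Nat) (Ptab_s_46_48 c) (Ptab_s_48_51 c) (Nat.ble 48 c)
noncomputable def Ptab_s_52_54 (c : Nat) : Nat := @Bool.rec (fun _ => Nat) (Ptab_52) (Ptab_53) (Nat.ble 53 c)
noncomputable def Ptab_s_51_54 (c : Nat) : Nat := @Bool.rec (fun _ => Nat) (Ptab_51) (Ptab_s_52_54 c) (Nat.ble 52 c)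
noncomputable def Ptab_s_55_57 (c : Nat) : Nat := @Bool.rec (fun _ => Nat) (Ptab_55) (Ptab_56) (Nat.ble 56 c)
noncomputable def Ptab_s_54_57 (c : Nat) : Nat := @Bool.rec (fun _ => Nat) (Ptab_54) (Ptab_s_55_57 c) (Nat.ble 55 c)
noncomputable def Ptab_s_51_57 (c : Nat) : Nat := @Bool.rec (fun _ => Nat) (Ptab_s_51_54 c) (Ptab_s_54_57 c) (Nat.ble 54 c)
noncomputable def Ptab_s_46_57 (c : Nat) : Nat := @Bool.rec (fun _ => Nat) (Ptab_s_46_51 c) (Ptab_s_51_57 c) (Nat.ble 51 c)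
noncomputable def Ptab_s_58_60 (c : Nat) : Nat := @Bool.rec (fun _ => Nat) (Ptab_58) (Ptab_59) (Nat.ble 59 c)
noncomputable def Ptab_s_57_60 (c : Nat) : Nat := @Bool.rec (fun _ => Nat) (Ptab_57) (Ptab_s_58_60 c) (Nat.ble 58 c)
noncomputable def Ptab_s_61_63 (c : Nat) : Nat := @Bool.rec (fun _ => Nat) (Ptab_61) (Ptab_62) (Nat.ble 62 c)
noncomputable def Ptab_s_60_63 (c : Nat) : Nat := @Bool.rec (fun _ => Nat) (Ptab_60) (Ptab_s_61_63 c) (Nat.ble 61 c)
noncomputable def Ptab_s_57_63 (c : Nat) : Nat := @Bool.rec (fun _ => Nat) (Ptab_s_57_60 c) (Ptab_s_60_63 c) (Nat.ble 60 c)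
noncomputable def Ptab_s_64_66 (c : Nat) : Nat := @Bool.rec (fun _ => Nat) (Ptab_64) (Ptab_65) (Nat.ble 65 c)
noncomputable def Ptab_s_63_66 (c : Nat) : Nat := @Bool.rec (fun _ => Nat) (Ptab_63) (Ptab_s_64_66 c) (Nat.ble 64 c)
noncomputable def Ptab_s_67_69 (c : Nat) : Nat := @Bool.rec (fun _ => Nat) (Ptab_67) (Ptab_68) (Nat.ble 68 c)
noncomputable def Ptab_s_66_69 (c : Nat) : Nat := @Bool.rec (fun _ => Nat) (Ptab_66) (Ptab_s_67_69 c) (Nat.ble 67 c)
noncomputable def Ptab_s_63_69 (c : Nat) : Nat := @Bool.rec (fun _ => Nat) (Ptab_s_63_66 c) (Ptab_s_66_69 c) (Nat.ble 66 c)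
noncomputable def Ptab_s_57_69 (c : Nat) : Nat := @Bool.rec (fun _ => Nat) (Ptab_s_57_63 c) (Ptab_s_63_69 c) (Nat.ble 63 c)
noncomputable def Ptab_s_46_69 (c : Nat) : Nat := @Bool.rec (fun _ => Nat) (Ptab_s_46_57 c) (Ptab_s_57_69 c) (Nat.ble 57 c)
noncomputable def Ptab_s_69_71 (c : Nat) : Nat := @Bool.rec (fun _ => Nat) (Ptab_69) (Ptab_70) (Nat.ble 70 c)
noncomputable def Ptab_s_72_74 (c : Nat) : Nat := @Bool.rec (fun _ => Nat) (Ptab_72) (Ptab_73) (Nat.ble 73 c)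
noncomputable def Ptab_s_71_74 (c : Nat) : Nat := @Bool.rec (fun _ => Nat) (Ptab_71) (Ptab_s_72_74 c) (Nat.ble 72 c)
noncomputable def Ptab_s_69_74 (c : Nat) : Nat := @Bool.rec (fun _ => Nat) (Ptab_s_69_71 c) (Ptab_s_71_74 c) (Nat.ble 71 c)
noncomputable def Ptab_s_75_77 (c : Nat) : Nat := @Bool.rec (fun _ => Nat) (Ptab_75) (Ptab_76) (Nat.ble 76 c)
noncomputable def Ptab_s_74_77 (c : Nat) : Nat := @Bool.rec (fun _ => Nat) (Ptab_74) (Ptab_s_75_77 c) (Nat.ble 75 c)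
noncomputable def Ptab_s_78_80 (c : Nat) : Nat := @Bool.rec (fun _ => Nat) (Ptab_78) (Ptab_79) (Nat.ble 79 c)
noncomputable def Ptab_s_77_80 (c : Nat) : Nat := @Bool.rec (fun _ => Nat) (Ptab_77) (Ptab_s_78_80 c) (Nat.ble 78 c)
noncomputable def Ptab_s_74_80 (c : Nat) : Nat := @Bool.rec (fun _ => Nat) (Ptab_s_74_77 c) (Ptab_s_77_80 c) (Nat.ble 77 c)
noncomputable def Ptab_s_69_80 (c : Nat) : Nat := @Bool.rec (fun _ => Nat) (Ptab_s_69_74 c) (Ptab_s_74_80 c) (Nat.ble 74 c)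
noncomputable def Ptab_s_81_83 (c : Nat) : Nat := @Bool.rec (fun _ => Nat) (Ptab_81) (Ptab_82) (Nat.ble 82 c)
noncomputable def Ptab_s_80_83 (c : Nat) : Nat := @Bool.rec (fun _ => Nat) (Ptab_80) (Ptab_s_81_83 c) (Nat.ble 81 c)
noncomputable def Ptab_s_84_86 (c : Nat) : Nat := @Bool.rec (fun _ => Nat) (Ptab_84) (Ptab_85) (Nat.ble 85 c)
noncomputable def Ptab_s_83_86 (c : Nat) : Nat := @Bool.rec (fun _ => Nat) (Ptab_83) (Ptab_s_84_86 c) (Nat.ble 84 c)
noncomputable def Ptab_s_80_86 (c : Nat) : Nat := @Bool.rec (fun _ => Nat) (Ptab_s_80_83 c) (Ptab_s_83_86 c) (Nat.ble 83 c)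
noncomputable def Ptab_s_87_89 (c : Nat) : Nat := @Bool.rec (fun _ => Nat) (Ptab_87) (Ptab_88) (Nat.ble 88 c)
noncomputable def Ptab_s_86_89 (c : Nat) : Nat := @Bool.rec (fun _ => Nat) (Ptab_86) (Ptab_s_87_89 c) (Nat.ble 87 c)
noncomputable def Ptab_s_90_92 (c : Nat) : Nat := @Bool.rec (fun _ => Nat) (Ptab_90) (Ptab_91) (Nat.ble 91 c)
noncomputable def Ptab_s_89_92 (c : Nat) : Nat := @Bool.rec (fun _ => Nat) (Ptab_89) (Ptab_s_90_92 c) (Nat.ble 90 c)
noncomputable def Ptab_s_86_92 (c : Nat) : Nat := @Bool.rec (fun _ => Nat) (Ptab_s_86_89 c) (Ptab_s_89_92 c) (Nat.ble 89 c)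
noncomputable def Ptab_s_80_92 (c : Nat) : Nat := @Bool.rec (fun _ => Nat) (Ptab_s_80_86 c) (Ptab_s_86_92 c) (Nat.ble 86 c)
noncomputable def Ptab_s_69_92 (c : Nat) : Nat := @Bool.rec (fun _ => Nat) (Ptab_s_69_80 c) (Ptab_s_80_92 c) (Nat.ble 80 c)
noncomputable def Ptab_s_46_92 (c : Nat) : Nat := @Bool.rec (fun _ => Nat) (Ptab_s_46_69 c) (Ptab_s_69_92 c) (Nat.ble 69 c)
noncomputable def Ptab_s_0_92 (c : Nat) : Nat := @Bool.rec (fun _ => Nat) (Ptab_s_0_46 c) (Ptab_s_46_92 c) (Nat.ble 46 c)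
noncomputable def Ptab_s_92_94 (c : Nat) : Nat := @Bool.rec (fun _ => Nat) (Ptab_92) (Ptab_93) (Nat.ble 93 c)
noncomputable def Ptab_s_95_97 (c : Nat) : Nat := @Bool.rec (fun _ => Nat) (Ptab_95) (Ptab_96) (Nat.ble 96 c)
noncomputable def Ptab_s_94_97 (c : Nat) : Nat := @Bool.rec (fun _ => Nat) (Ptab_94) (Ptab_s_95_97 c) (Nat.ble 95 c)
noncomputable def Ptab_s_92_97 (c : Nat) : Nat := @Bool.rec (fun _ => Nat) (Ptab_s_92_94 c) (Ptab_s_94_97 c) (Nat.ble 94 c)
noncomputable def Ptab_s_98_100 (c : Nat) : Nat := @Bool.rec (fun _ => Nat) (Ptab_98) (Ptab_99) (Nat.ble 99 c)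
noncomputable def Ptab_s_97_100 (c : Nat) : Nat := @Bool.rec (fun _ => Nat) (Ptab_97) (Ptab_s_98_100 c) (Nat.ble 98 c)
noncomputable def Ptab_s_101_103 (c : Nat) : Nat := @Bool.rec (fun _ => Nat) (Ptab_101) (Ptab_102) (Nat.ble 102 c)
noncomputable def Ptab_s_100_103 (c : Nat) : Nat := @Bool.rec (fun _ => Nat) (Ptab_100) (Ptab_s_101_103 c) (Nat.ble 101 c)
noncomputable def Ptab_s_97_103 (c : Nat) : Nat := @Bool.rec (fun _ => Nat) (Ptab_s_97_100 c) (Ptab_s_100_103 c) (Nat.ble 100 c)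
noncomputable def Ptab_s_92_103 (c : Nat) : Nat := @Bool.rec (fun _ => Nat) (Ptab_s_92_97 c) (Ptab_s_97_103 c) (Nat.ble 97 c)
noncomputable def Ptab_s_104_106 (c : Nat) : Nat := @Bool.rec (fun _ => Nat) (Ptab_104) (Ptab_105) (Nat.ble 105 c)
noncomputable def Ptab_s_103_106 (c : Nat) : Nat := @Bool.rec (fun _ => Nat) (Ptab_103) (Ptab_s_104_106 c) (Nat.ble 104 c)
noncomputable def Ptab_s_107_109 (c : Nat) : Nat := @Bool.rec (fun _ => Nat) (Ptab_107) (Ptab_108) (Nat.ble 108 c)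
noncomputable def Ptab_s_106_109 (c : Nat) : Nat := @Bool.rec (fun _ => Nat) (Ptab_106) (Ptab_s_107_109 c) (Nat.ble 107 c)
noncomputable def Ptab_s_103_109 (c : Nat) : Nat := @Bool.rec (fun _ => Nat) (Ptab_s_103_106 c) (Ptab_s_106_109 c) (Nat.ble 106 c)
noncomputable def Ptab_s_110_112 (c : Nat) : Nat := @Bool.rec (fun _ => Nat) (Ptab_110) (Ptab_111) (Nat.ble 111 c)
noncomputable def Ptab_s_109_112 (c : Nat) : Nat := @Bool.rec (fun _ => Nat) (Ptab_109) (Ptab_s_110_112 c) (Nat.ble 110 c)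
noncomputable def Ptab_s_113_115 (c : Nat) : Nat := @Bool.rec (fun _ => Nat) (Ptab_113) (Ptab_114) (Nat.ble 114 c)
noncomputable def Ptab_s_112_115 (c : Nat) : Nat := @Bool.rec (fun _ => Nat) (Ptab_112) (Ptab_s_113_115 c) (Nat.ble 113 c)
noncomputable def Ptab_s_109_115 (c : Nat) : Nat := @Bool.rec (fun _ => Nat) (Ptab_s_109_112 c) (Ptab_s_112_115 c) (Nat.ble 112 c)
noncomputable def Ptab_s_103_115 (c : Nat) : Nat := @Bool.rec (fun _ => Nat) (Ptab_s_103_109 c) (Ptab_s_109_115 c) (Nat.ble 109 c)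
noncomputable def Ptab_s_92_115 (c : Nat) : Nat := @Bool.rec (fun _ => Nat) (Ptab_s_92_103 c) (Ptab_s_103_115 c) (Nat.ble 103 c)
noncomputable def Ptab_s_115_117 (c : Nat) : Nat := @Bool.rec (fun _ => Nat) (Ptab_115) (Ptab_116) (Nat.ble 116 c)
noncomputable def Ptab_s_118_120 (c : Nat) : Nat := @Bool.rec (fun _ => Nat) (Ptab_118) (Ptab_119) (Nat.ble 119 c)
noncomputable def Ptab_s_117_120 (c : Nat) : Nat := @Bool.rec (fun _ => Nat) (Ptab_117) (Ptab_s_118_120 c) (Nat.ble 118 c)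
noncomputable def Ptab_s_115_120 (c : Nat) : Nat := @Bool.rec (fun _ => Nat) (Ptab_s_115_117 c) (Ptab_s_117_120 c) (Nat.ble 117 c)
noncomputable def Ptab_s_121_123 (c : Nat) : Nat := @Bool.rec (fun _ => Nat) (Ptab_121) (Ptab_122) (Nat.ble 122 c)
noncomputable def Ptab_s_120_123 (c : Nat) : Nat := @Bool.rec (fun _ => Nat) (Ptab_120) (Ptab_s_121_123 c) (Nat.ble 121 c)
noncomputable def Ptab_s_124_126 (c : Nat) : Nat := @Bool.rec (fun _ => Nat) (Ptab_124) (Ptab_125) (Nat.ble 125 c)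
noncomputable def Ptab_s_123_126 (c : Nat) : Nat := @Bool.rec (fun _ => Nat) (Ptab_123) (Ptab_s_124_126 c) (Nat.ble 124 c)
noncomputable def Ptab_s_120_126 (c : Nat) : Nat := @Bool.rec (fun _ => Nat) (Ptab_s_120_123 c) (Ptab_s_123_126 c) (Nat.ble 123 c)
noncomputable def Ptab_s_115_126 (c : Nat) : Nat := @Bool.rec (fun _ => Nat) (Ptab_s_115_120 c) (Ptab_s_120_126 c) (Nat.ble 120 c)
noncomputable def Ptab_s_127_129 (c : Nat) : Nat := @Bool.rec (fun _ => Nat) (Ptab_127) (Ptab_128) (Nat.ble 128 c)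
noncomputable def Ptab_s_126_129 (c : Nat) : Nat := @Bool.rec (fun _ => Nat) (Ptab_126) (Ptab_s_127_129 c) (Nat.ble 127 c)
noncomputable def Ptab_s_130_132 (c : Nat) : Nat := @Bool.rec (fun _ => Nat) (Ptab_130) (Ptab_131) (Nat.ble 131 c)
noncomputable def Ptab_s_129_132 (c : Nat) : Nat := @Bool.rec (fun _ => Nat) (Ptab_129) (Ptab_s_130_132 c) (Nat.ble 130 c)
noncomputable def Ptab_s_126_132 (c : Nat) : Nat := @Bool.rec (fun _ => Nat) (Ptab_s_126_129 c) (Ptab_s_129_132 c) (Nat.ble 129 c)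
noncomputable def Ptab_s_133_135 (c : Nat) : Nat := @Bool.rec (fun _ => Nat) (Ptab_133) (Ptab_134) (Nat.ble 134 c)
noncomputable def Ptab_s_132_135 (c : Nat) : Nat := @Bool.rec (fun _ => Nat) (Ptab_132) (Ptab_s_133_135 c) (Nat.ble 133 c)
noncomputable def Ptab_s_136_138 (c : Nat) : Nat := @Bool.rec (fun _ => Nat) (Ptab_136) (Ptab_137) (Nat.ble 137 c)
noncomputable def Ptab_s_135_138 (c : Nat) : Nat := @Bool.rec (fun _ => Nat) (Ptab_135) (Ptab_s_136_138 c) (Nat.ble 136 c)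
noncomputable def Ptab_s_132_138 (c : Nat) : Nat := @Bool.rec (fun _ => Nat) (Ptab_s_132_135 c) (Ptab_s_135_138 c) (Nat.ble 135 c)
noncomputable def Ptab_s_126_138 (c : Nat) : Nat := @Bool.rec (fun _ => Nat) (Ptab_s_126_132 c) (Ptab_s_132_138 c) (Nat.ble 132 c)
noncomputable def Ptab_s_115_138 (c : Nat) : Nat := @Bool.rec (fun _ => Nat) (Ptab_s_115_126 c) (Ptab_s_126_138 c) (Nat.ble 126 c)
noncomputable def Ptab_s_92_138 (c : Nat) : Nat := @Bool.rec (fun _ => Nat) (Ptab_s_92_115 c) (Ptab_s_115_138 c) (Nat.ble 115 c)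
noncomputable def Ptab_s_138_140 (c : Nat) : Nat := @Bool.rec (fun _ => Nat) (Ptab_138) (Ptab_139) (Nat.ble 139 c)
noncomputable def Ptab_s_141_143 (c : Nat) : Nat := @Bool.rec (fun _ => Nat) (Ptab_141) (Ptab_142) (Nat.ble 142 c)
noncomputable def Ptab_s_140_143 (c : Nat) : Nat := @Bool.rec (fun _ => Nat) (Ptab_140) (Ptab_s_141_143 c) (Nat.ble 141 c)
noncomputable def Ptab_s_138_143 (c : Nat) : Nat := @Bool.rec (fun _ => Nat) (Ptab_s_138_140 c) (Ptab_s_140_143 c) (Nat.ble 140 c)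
noncomputable def Ptab_s_144_146 (c : Nat) : Nat := @Bool.rec (fun _ => Nat) (Ptab_144) (Ptab_145) (Nat.ble 145 c)
noncomputable def Ptab_s_143_146 (c : Nat) : Nat := @Bool.rec (fun _ => Nat) (Ptab_143) (Ptab_s_144_146 c) (Nat.ble 144 c)
noncomputable def Ptab_s_147_149 (c : Nat) : Nat := @Bool.rec (fun _ => Nat) (Ptab_147) (Ptab_148) (Nat.ble 148 c)
noncomputable def Ptab_s_146_149 (c : Nat) : Nat := @Bool.rec (fun _ => Nat) (Ptab_146) (Ptab_s_147_149 c) (Nat.ble 147 c)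
noncomputable def Ptab_s_143_149 (c : Nat) : Nat := @Bool.rec (fun _ => Nat) (Ptab_s_143_146 c) (Ptab_s_146_149 c) (Nat.ble 146 c)
noncomputable def Ptab_s_138_149 (c : Nat) : Nat := @Bool.rec (fun _ => Nat) (Ptab_s_138_143 c) (Ptab_s_143_149 c) (Nat.ble 143 c)
noncomputable def Ptab_s_150_152 (c : Nat) : Nat := @Bool.rec (fun _ => Nat) (Ptab_150) (Ptab_151) (Nat.ble 151 c)
noncomputable def Ptab_s_149_152 (c : Nat) : Nat := @Bool.rec (fun _ => Nat) (Ptab_149) (Ptab_s_150_152 c) (Nat.ble 150 c)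
noncomputable def Ptab_s_153_155 (c : Nat) : Nat := @Bool.rec (fun _ => Nat) (Ptab_153) (Ptab_154) (Nat.ble 154 c)
noncomputable def Ptab_s_152_155 (c : Nat) : Nat := @Bool.rec (fun _ => Nat) (Ptab_152) (Ptab_s_153_155 c) (Nat.ble 153 c)
noncomputable def Ptab_s_149_155 (c : Nat) : Nat := @Bool.rec (fun _ => Nat) (Ptab_s_149_152 c) (Ptab_s_152_155 c) (Nat.ble 152 c)
noncomputable def Ptab_s_156_158 (c : Nat) : Nat := @Bool.rec (fun _ => Nat) (Ptab_156) (Ptab_157) (Nat.ble 157 c)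
noncomputable def Ptab_s_155_158 (c : Nat) : Nat := @Bool.rec (fun _ => Nat) (Ptab_155) (Ptab_s_156_158 c) (Nat.ble 156 c)
noncomputable def Ptab_s_159_161 (c : Nat) : Nat := @Bool.rec (fun _ => Nat) (Ptab_159) (Ptab_160) (Nat.ble 160 c)
noncomputable def Ptab_s_158_161 (c : Nat) : Nat := @Bool.rec (fun _ => Nat) (Ptab_158) (Ptab_s_159_161 c) (Nat.ble 159 c)
noncomputable def Ptab_s_155_161 (c : Nat) : Nat := @Bool.rec (fun _ => Nat) (Ptab_s_155_158 c) (Ptab_s_158_161 c) (Nat.ble 158 c)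
noncomputable def Ptab_s_149_161 (c : Nat) : Nat := @Bool.rec (fun _ => Nat) (Ptab_s_149_155 c) (Ptab_s_155_161 c) (Nat.ble 155 c)
noncomputable def Ptab_s_138_161 (c : Nat) : Nat := @Bool.rec (fun _ => Nat) (Ptab_s_138_149 c) (Ptab_s_149_161 c) (Nat.ble 149 c)
noncomputable def Ptab_s_162_164 (c : Nat) : Nat := @Bool.rec (fun _ => Nat) (Ptab_162) (Ptab_163) (Nat.ble 163 c)
noncomputable def Ptab_s_161_164 (c : Nat) : Nat := @Bool.rec (fun _ => Nat) (Ptab_161) (Ptab_s_162_164 c) (Nat.ble 162 c)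
noncomputable def Ptab_s_165_167 (c : Nat) : Nat := @Bool.rec (fun _ => Nat) (Ptab_165) (Ptab_166) (Nat.ble 166 c)
noncomputable def Ptab_s_164_167 (c : Nat) : Nat := @Bool.rec (fun _ => Nat) (Ptab_164) (Ptab_s_165_167 c) (Nat.ble 165 c)
noncomputable def Ptab_s_161_167 (c : Nat) : Nat := @Bool.rec (fun _ => Nat) (Ptab_s_161_164 c) (Ptab_s_164_167 c) (Nat.ble 164 c)
noncomputable def Ptab_s_168_170 (c : Nat) : Nat := @Bool.rec (fun _ => Nat) (Ptab_168) (Ptab_169) (Nat.ble 169 c)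
noncomputable def Ptab_s_167_170 (c : Nat) : Nat := @Bool.rec (fun _ => Nat) (Ptab_167) (Ptab_s_168_170 c) (Nat.ble 168 c)
noncomputable def Ptab_s_171_173 (c : Nat) : Nat := @Bool.rec (fun _ => Nat) (Ptab_171) (Ptab_172) (Nat.ble 172 c)
noncomputable def Ptab_s_170_173 (c : Nat) : Nat := @Bool.rec (fun _ => Nat) (Ptab_170) (Ptab_s_171_173 c) (Nat.ble 171 c)
noncomputable def Ptab_s_167_173 (c : Nat) : Nat := @Bool.rec (fun _ => Nat) (Ptab_s_167_170 c) (Ptab_s_170_173 c) (Nat.ble 170 c)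
noncomputable def Ptab_s_161_173 (c : Nat) : Nat := @Bool.rec (fun _ => Nat) (Ptab_s_161_167 c) (Ptab_s_167_173 c) (Nat.ble 167 c)
noncomputable def Ptab_s_174_176 (c : Nat) : Nat := @Bool.rec (fun _ => Nat) (Ptab_174) (Ptab_175) (Nat.ble 175 c)
noncomputable def Ptab_s_173_176 (c : Nat) : Nat := @Bool.rec (fun _ => Nat) (Ptab_173) (Ptab_s_174_176 c) (Nat.ble 174 c)
noncomputable def Ptab_s_177_179 (c : Nat) : Nat := @Bool.rec (fun _ => Nat) (Ptab_177) (Ptab_178) (Nat.ble 178 c)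
noncomputable def Ptab_s_176_179 (c : Nat) : Nat := @Bool.rec (fun _ => Nat) (Ptab_176) (Ptab_s_177_179 c) (Nat.ble 177 c)
noncomputable def Ptab_s_173_179 (c : Nat) : Nat := @Bool.rec (fun _ => Nat) (Ptab_s_173_176 c) (Ptab_s_176_179 c) (Nat.ble 176 c)
noncomputable def Ptab_s_180_182 (c : Nat) : Nat := @Bool.rec (fun _ => Nat) (Ptab_180) (Ptab_181) (Nat.ble 181 c)
noncomputable def Ptab_s_179_182 (c : Nat) : Nat := @Bool.rec (fun _ => Nat) (Ptab_179) (Ptab_s_180_182 c) (Nat.ble 180 c)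
noncomputable def Ptab_s_183_185 (c : Nat) : Nat := @Bool.rec (fun _ => Nat) (Ptab_183) (Ptab_184) (Nat.ble 184 c)
noncomputable def Ptab_s_182_185 (c : Nat) : Nat := @Bool.rec (fun _ => Nat) (Ptab_182) (Ptab_s_183_185 c) (Nat.ble 183 c)
noncomputable def Ptab_s_179_185 (c : Nat) : Nat := @Bool.rec (fun _ => Nat) (Ptab_s_179_182 c) (Ptab_s_182_185 c) (Nat.ble 182 c)
noncomputable def Ptab_s_173_185 (c : Nat) : Nat := @Bool.rec (fun _ => Nat) (Ptab_s_173_179 c) (Ptab_s_179_185 c) (Nat.ble 179 c)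
noncomputable def Ptab_s_161_185 (c : Nat) : Nat := @Bool.rec (fun _ => Nat) (Ptab_s_161_173 c) (Ptab_s_173_185 c) (Nat.ble 173 c)
noncomputable def Ptab_s_138_185 (c : Nat) : Nat := @Bool.rec (fun _ => Nat) (Ptab_s_138_161 c) (Ptab_s_161_185 c) (Nat.ble 161 c)
noncomputable def Ptab_s_92_185 (c : Nat) : Nat := @Bool.rec (fun _ => Nat) (Ptab_s_92_138 c) (Ptab_s_138_185 c) (Nat.ble 138 c)
noncomputable def Ptab_s_0_185 (c : Nat) : Nat := @Bool.rec (fun _ => Nat) (Ptab_s_0_92 c) (Ptab_s_92_185 c) (Nat.ble 92 c)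
noncomputable def Ptab_s_185_187 (c : Nat) : Nat := @Bool.rec (fun _ => Nat) (Ptab_185) (Ptab_186) (Nat.ble 186 c)
noncomputable def Ptab_s_188_190 (c : Nat) : Nat := @Bool.rec (fun _ => Nat) (Ptab_188) (Ptab_189) (Nat.ble 189 c)
noncomputable def Ptab_s_187_190 (c : Nat) : Nat := @Bool.rec (fun _ => Nat) (Ptab_187) (Ptab_s_188_190 c) (Nat.ble 188 c)
noncomputable def Ptab_s_185_190 (c : Nat) : Nat := @Bool.rec (fun _ => Nat) (Ptab_s_185_187 c) (Ptab_s_187_190 c) (Nat.ble 187 c)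
noncomputable def Ptab_s_191_193 (c : Nat) : Nat := @Bool.rec (fun _ => Nat) (Ptab_191) (Ptab_192) (Nat.ble 192 c)
noncomputable def Ptab_s_190_193 (c : Nat) : Nat := @Bool.rec (fun _ => Nat) (Ptab_190) (Ptab_s_191_193 c) (Nat.ble 191 c)
noncomputable def Ptab_s_194_196 (c : Nat) : Nat := @Bool.rec (fun _ => Nat) (Ptab_194) (Ptab_195) (Nat.ble 195 c)
noncomputable def Ptab_s_193_196 (c : Nat) : Nat := @Bool.rec (fun _ => Nat) (Ptab_193) (Ptab_s_194_196 c) (Nat.ble 194 c)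
noncomputable def Ptab_s_190_196 (c : Nat) : Nat := @Bool.rec (fun _ => Nat) (Ptab_s_190_193 c) (Ptab_s_193_196 c) (Nat.ble 193 c)
noncomputable def Ptab_s_185_196 (c : Nat) : Nat := @Bool.rec (fun _ => Nat) (Ptab_s_185_190 c) (Ptab_s_190_196 c) (Nat.ble 190 c)
noncomputable def Ptab_s_197_199 (c : Nat) : Nat := @Bool.rec (fun _ => Nat) (Ptab_197) (Ptab_198) (Nat.ble 198 c)
noncomputable def Ptab_s_196_199 (c : Nat) : Nat := @Bool.rec (fun _ => Nat) (Ptab_196) (Ptab_s_197_199 c) (Nat.ble 197 c)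
noncomputable def Ptab_s_200_202 (c : Nat) : Nat := @Bool.rec (fun _ => Nat) (Ptab_200) (Ptab_201) (Nat.ble 201 c)
noncomputable def Ptab_s_199_202 (c : Nat) : Nat := @Bool.rec (fun _ => Nat) (Ptab_199) (Ptab_s_200_202 c) (Nat.ble 200 c)
noncomputable def Ptab_s_196_202 (c : Nat) : Nat := @Bool.rec (fun _ => Nat) (Ptab_s_196_199 c) (Ptab_s_199_202 c) (Nat.ble 199 c)
noncomputable def Ptab_s_203_205 (c : Nat) : Nat := @Bool.rec (fun _ => Nat) (Ptab_203) (Ptab_204) (Nat.ble 204 c)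
noncomputable def Ptab_s_202_205 (c : Nat) : Nat := @Bool.rec (fun _ => Nat) (Ptab_202) (Ptab_s_203_205 c) (Nat.ble 203 c)
noncomputable def Ptab_s_206_208 (c : Nat) : Nat := @Bool.rec (fun _ => Nat) (Ptab_206) (Ptab_207) (Nat.ble 207 c)
noncomputable def Ptab_s_205_208 (c : Nat) : Nat := @Bool.rec (fun _ => Nat) (Ptab_205) (Ptab_s_206_208 c) (Nat.ble 206 c)
noncomputable def Ptab_s_202_208 (c : Nat) : Nat := @Bool.rec (fun _ => Nat) (Ptab_s_202_205 c) (Ptab_s_205_208 c) (Nat.ble 205 c)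
noncomputable def Ptab_s_196_208 (c : Nat) : Nat := @Bool.rec (fun _ => Nat) (Ptab_s_196_202 c) (Ptab_s_202_208 c) (Nat.ble 202 c)
noncomputable def Ptab_s_185_208 (c : Nat) : Nat := @Bool.rec (fun _ => Nat) (Ptab_s_185_196 c) (Ptab_s_196_208 c) (Nat.ble 196 c)
noncomputable def Ptab_s_208_210 (c : Nat) : Nat := @Bool.rec (fun _ => Nat) (Ptab_208) (Ptab_209) (Nat.ble 209 c)
noncomputable def Ptab_s_211_213 (c : Nat) : Nat := @Bool.rec (fun _ => Nat) (Ptab_211) (Ptab_212) (Nat.ble 212 c)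
noncomputable def Ptab_s_210_213 (c : Nat) : Nat := @Bool.rec (fun _ => Nat) (Ptab_210) (Ptab_s_211_213 c) (Nat.ble 211 c)
noncomputable def Ptab_s_208_213 (c : Nat) : Nat := @Bool.rec (fun _ => Nat) (Ptab_s_208_210 c) (Ptab_s_210_213 c) (Nat.ble 210 c)
noncomputable def Ptab_s_214_216 (c : Nat) : Nat := @Bool.rec (fun _ => Nat) (Ptab_214) (Ptab_215) (Nat.ble 215 c)
noncomputable def Ptab_s_213_216 (c : Nat) : Nat := @Bool.rec (fun _ => Nat) (Ptab_213) (Ptab_s_214_216 c) (Nat.ble 214 c)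
noncomputable def Ptab_s_217_219 (c : Nat) : Nat := @Bool.rec (fun _ => Nat) (Ptab_217) (Ptab_218) (Nat.ble 218 c)
noncomputable def Ptab_s_216_219 (c : Nat) : Nat := @Bool.rec (fun _ => Nat) (Ptab_216) (Ptab_s_217_219 c) (Nat.ble 217 c)
noncomputable def Ptab_s_213_219 (c : Nat) : Nat := @Bool.rec (fun _ => Nat) (Ptab_s_213_216 c) (Ptab_s_216_219 c) (Nat.ble 216 c)
noncomputable def Ptab_s_208_219 (c : Nat) : Nat := @Bool.rec (fun _ => Nat) (Ptab_s_208_213 c) (Ptab_s_213_219 c) (Nat.ble 213 c)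
noncomputable def Ptab_s_220_222 (c : Nat) : Nat := @Bool.rec (fun _ => Nat) (Ptab_220) (Ptab_221) (Nat.ble 221 c)
noncomputable def Ptab_s_219_222 (c : Nat) : Nat := @Bool.rec (fun _ => Nat) (Ptab_219) (Ptab_s_220_222 c) (Nat.ble 220 c)
noncomputable def Ptab_s_223_225 (c : Nat) : Nat := @Bool.rec (fun _ => Nat) (Ptab_223) (Ptab_224) (Nat.ble 224 c)
noncomputable def Ptab_s_222_225 (c : Nat) : Nat := @Bool.rec (fun _ => Nat) (Ptab_222) (Ptab_s_223_225 c) (Nat.ble 223 c)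
noncomputable def Ptab_s_219_225 (c : Nat) : Nat := @Bool.rec (fun _ => Nat) (Ptab_s_219_222 c) (Ptab_s_222_225 c) (Nat.ble 222 c)
noncomputable def Ptab_s_226_228 (c : Nat) : Nat := @Bool.rec (fun _ => Nat) (Ptab_226) (Ptab_227) (Nat.ble 227 c)
noncomputable def Ptab_s_225_228 (c : Nat) : Nat := @Bool.rec (fun _ => Nat) (Ptab_225) (Ptab_s_226_228 c) (Nat.ble 226 c)
noncomputable def Ptab_s_229_231 (c : Nat) : Nat := @Bool.rec (fun _ => Nat) (Ptab_229) (Ptab_230) (Nat.ble 230 c)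
noncomputable def Ptab_s_228_231 (c : Nat) : Nat := @Bool.rec (fun _ => Nat) (Ptab_228) (Ptab_s_229_231 c) (Nat.ble 229 c)
noncomputable def Ptab_s_225_231 (c : Nat) : Nat := @Bool.rec (fun _ => Nat) (Ptab_s_225_228 c) (Ptab_s_228_231 c) (Nat.ble 228 c)
noncomputable def Ptab_s_219_231 (c : Nat) : Nat := @Bool.rec (fun _ => Nat) (Ptab_s_219_225 c) (Ptab_s_225_231 c) (Nat.ble 225 c)
noncomputable def Ptab_s_208_231 (c : Nat) : Nat := @Bool.rec (fun _ => Nat) (Ptab_s_208_219 c) (Ptab_s_219_231 c) (Nat.ble 219 c)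
noncomputable def Ptab_s_185_231 (c : Nat) : Nat := @Bool.rec (fun _ => Nat) (Ptab_s_185_208 c) (Ptab_s_208_231 c) (Nat.ble 208 c)
noncomputable def Ptab_s_231_233 (c : Nat) : Nat := @Bool.rec (fun _ => Nat) (Ptab_231) (Ptab_232) (Nat.ble 232 c)
noncomputable def Ptab_s_234_236 (c : Nat) : Nat := @Bool.rec (fun _ => Nat) (Ptab_234) (Ptab_235) (Nat.ble 235 c)
noncomputable def Ptab_s_233_236 (c : Nat) : Nat := @Bool.rec (fun _ => Nat) (Ptab_233) (Ptab_s_234_236 c) (Nat.ble 234 c)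
noncomputable def Ptab_s_231_236 (c : Nat) : Nat := @Bool.rec (fun _ => Nat) (Ptab_s_231_233 c) (Ptab_s_233_236 c) (Nat.ble 233 c)
noncomputable def Ptab_s_237_239 (c : Nat) : Nat := @Bool.rec (fun _ => Nat) (Ptab_237) (Ptab_238) (Nat.ble 238 c)
noncomputable def Ptab_s_236_239 (c : Nat) : Nat := @Bool.rec (fun _ => Nat) (Ptab_236) (Ptab_s_237_239 c) (Nat.ble 237 c)
noncomputable def Ptab_s_240_242 (c : Nat) : Nat := @Bool.rec (fun _ => Nat) (Ptab_240) (Ptab_241) (Nat.ble 241 c)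
noncomputable def Ptab_s_239_242 (c : Nat) : Nat := @Bool.rec (fun _ => Nat) (Ptab_239) (Ptab_s_240_242 c) (Nat.ble 240 c)
noncomputable def Ptab_s_236_242 (c : Nat) : Nat := @Bool.rec (fun _ => Nat) (Ptab_s_236_239 c) (Ptab_s_239_242 c) (Nat.ble 239 c)
noncomputable def Ptab_s_231_242 (c : Nat) : Nat := @Bool.rec (fun _ => Nat) (Ptab_s_231_236 c) (Ptab_s_236_242 c) (Nat.ble 236 c)
noncomputable def Ptab_s_243_245 (c : Nat) : Nat := @Bool.rec (fun _ => Nat) (Ptab_243) (Ptab_244) (Nat.ble 244 c)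
noncomputable def Ptab_s_242_245 (c : Nat) : Nat := @Bool.rec (fun _ => Nat) (Ptab_242) (Ptab_s_243_245 c) (Nat.ble 243 c)
noncomputable def Ptab_s_246_248 (c : Nat) : Nat := @Bool.rec (fun _ => Nat) (Ptab_246) (Ptab_247) (Nat.ble 247 c)
noncomputable def Ptab_s_245_248 (c : Nat) : Nat := @Bool.rec (fun _ => Nat) (Ptab_245) (Ptab_s_246_248 c) (Nat.ble 246 c)
noncomputable def Ptab_s_242_248 (c : Nat) : Nat := @Bool.rec (fun _ => Nat) (Ptab_s_242_245 c) (Ptab_s_245_248 c) (Nat.ble 245 c)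
noncomputable def Ptab_s_249_251 (c : Nat) : Nat := @Bool.rec (fun _ => Nat) (Ptab_249) (Ptab_250) (Nat.ble 250 c)
noncomputable def Ptab_s_248_251 (c : Nat) : Nat := @Bool.rec (fun _ => Nat) (Ptab_248) (Ptab_s_249_251 c) (Nat.ble 249 c)
noncomputable def Ptab_s_252_254 (c : Nat) : Nat := @Bool.rec (fun _ => Nat) (Ptab_252) (Ptab_253) (Nat.ble 253 c)
noncomputable def Ptab_s_251_254 (c : Nat) : Nat := @Bool.rec (fun _ => Nat) (Ptab_251) (Ptab_s_252_254 c) (Nat.ble 252 c)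
noncomputable def Ptab_s_248_254 (c : Nat) : Nat := @Bool.rec (fun _ => Nat) (Ptab_s_248_251 c) (Ptab_s_251_254 c) (Nat.ble 251 c)
noncomputable def Ptab_s_242_254 (c : Nat) : Nat := @Bool.rec (fun _ => Nat) (Ptab_s_242_248 c) (Ptab_s_248_254 c) (Nat.ble 248 c)
noncomputable def Ptab_s_231_254 (c : Nat) : Nat := @Bool.rec (fun _ => Nat) (Ptab_s_231_242 c) (Ptab_s_242_254 c) (Nat.ble 242 c)
noncomputable def Ptab_s_254_256 (c : Nat) : Nat := @Bool.rec (fun _ => Nat) (Ptab_254) (Ptab_255) (Nat.ble 255 c)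
noncomputable def Ptab_s_257_259 (c : Nat) : Nat := @Bool.rec (fun _ => Nat) (Ptab_257) (Ptab_258) (Nat.ble 258 c)
noncomputable def Ptab_s_256_259 (c : Nat) : Nat := @Bool.rec (fun _ => Nat) (Ptab_256) (Ptab_s_257_259 c) (Nat.ble 257 c)
noncomputable def Ptab_s_254_259 (c : Nat) : Nat := @Bool.rec (fun _ => Nat) (Ptab_s_254_256 c) (Ptab_s_256_259 c) (Nat.ble 256 c)
noncomputable def Ptab_s_260_262 (c : Nat) : Nat := @Bool.rec (fun _ => Nat) (Ptab_260) (Ptab_261) (Nat.ble 261 c)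
noncomputable def Ptab_s_259_262 (c : Nat) : Nat := @Bool.rec (fun _ => Nat) (Ptab_259) (Ptab_s_260_262 c) (Nat.ble 260 c)
noncomputable def Ptab_s_263_265 (c : Nat) : Nat := @Bool.rec (fun _ => Nat) (Ptab_263) (Ptab_264) (Nat.ble 264 c)
noncomputable def Ptab_s_262_265 (c : Nat) : Nat := @Bool.rec (fun _ => Nat) (Ptab_262) (Ptab_s_263_265 c) (Nat.ble 263 c)
noncomputable def Ptab_s_259_265 (c : Nat) : Nat := @Bool.rec (fun _ => Nat) (Ptab_s_259_262 c) (Ptab_s_262_265 c) (Nat.ble 262 c)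
noncomputable def Ptab_s_254_265 (c : Nat) : Nat := @Bool.rec (fun _ => Nat) (Ptab_s_254_259 c) (Ptab_s_259_265 c) (Nat.ble 259 c)
noncomputable def Ptab_s_266_268 (c : Nat) : Nat := @Bool.rec (fun _ => Nat) (Ptab_266) (Ptab_267) (Nat.ble 267 c)
noncomputable def Ptab_s_265_268 (c : Nat) : Nat := @Bool.rec (fun _ => Nat) (Ptab_265) (Ptab_s_266_268 c) (Nat.ble 266 c)
noncomputable def Ptab_s_269_271 (c : Nat) : Nat := @Bool.rec (fun _ => Nat) (Ptab_269) (Ptab_270) (Nat.ble 270 c)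
noncomputable def Ptab_s_268_271 (c : Nat) : Nat := @Bool.rec (fun _ => Nat) (Ptab_268) (Ptab_s_269_271 c) (Nat.ble 269 c)
noncomputable def Ptab_s_265_271 (c : Nat) : Nat := @Bool.rec (fun _ => Nat) (Ptab_s_265_268 c) (Ptab_s_268_271 c) (Nat.ble 268 c)
noncomputable def Ptab_s_272_274 (c : Nat) : Nat := @Bool.rec (fun _ => Nat) (Ptab_272) (Ptab_273) (Nat.ble 273 c)
noncomputable def Ptab_s_271_274 (c : Nat) : Nat := @Bool.rec (fun _ => Nat) (Ptab_271) (Ptab_s_272_274 c) (Nat.ble 272 c)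
noncomputable def Ptab_s_275_277 (c : Nat) : Nat := @Bool.rec (fun _ => Nat) (Ptab_275) (Ptab_276) (Nat.ble 276 c)
noncomputable def Ptab_s_274_277 (c : Nat) : Nat := @Bool.rec (fun _ => Nat) (Ptab_274) (Ptab_s_275_277 c) (Nat.ble 275 c)
noncomputable def Ptab_s_271_277 (c : Nat) : Nat := @Bool.rec (fun _ => Nat) (Ptab_s_271_274 c) (Ptab_s_274_277 c) (Nat.ble 274 c)
noncomputable def Ptab_s_265_277 (c : Nat) : Nat := @Bool.rec (fun _ => Nat) (Ptab_s_265_271 c) (Ptab_s_271_277 c) (Nat.ble 271 c)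
noncomputable def Ptab_s_254_277 (c : Nat) : Nat := @Bool.rec (fun _ => Nat) (Ptab_s_254_265 c) (Ptab_s_265_277 c) (Nat.ble 265 c)
noncomputable def Ptab_s_231_277 (c : Nat) : Nat := @Bool.rec (fun _ => Nat) (Ptab_s_231_254 c) (Ptab_s_254_277 c) (Nat.ble 254 c)
noncomputable def Ptab_s_185_277 (c : Nat) : Nat := @Bool.rec (fun _ => Nat) (Ptab_s_185_231 c) (Ptab_s_231_277 c) (Nat.ble 231 c)
noncomputable def Ptab_s_277_279 (c : Nat) : Nat := @Bool.rec (fun _ => Nat) (Ptab_277) (Ptab_278) (Nat.ble 278 c)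
noncomputable def Ptab_s_280_282 (c : Nat) : Nat := @Bool.rec (fun _ => Nat) (Ptab_280) (Ptab_281) (Nat.ble 281 c)
noncomputable def Ptab_s_279_282 (c : Nat) : Nat := @Bool.rec (fun _ => Nat) (Ptab_279) (Ptab_s_280_282 c) (Nat.ble 280 c)
noncomputable def Ptab_s_277_282 (c : Nat) : Nat := @Bool.rec (fun _ => Nat) (Ptab_s_277_279 c) (Ptab_s_279_282 c) (Nat.ble 279 c)
noncomputable def Ptab_s_283_285 (c : Nat) : Nat := @Bool.rec (fun _ => Nat) (Ptab_283) (Ptab_284) (Nat.ble 284 c)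
noncomputable def Ptab_s_282_285 (c : Nat) : Nat := @Bool.rec (fun _ => Nat) (Ptab_282) (Ptab_s_283_285 c) (Nat.ble 283 c)
noncomputable def Ptab_s_286_288 (c : Nat) : Nat := @Bool.rec (fun _ => Nat) (Ptab_286) (Ptab_287) (Nat.ble 287 c)
noncomputable def Ptab_s_285_288 (c : Nat) : Nat := @Bool.rec (fun _ => Nat) (Ptab_285) (Ptab_s_286_288 c) (Nat.ble 286 c)
noncomputable def Ptab_s_282_288 (c : Nat) : Nat := @Bool.rec (fun _ => Nat) (Ptab_s_282_285 c) (Ptab_s_285_288 c) (Nat.ble 285 c)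
noncomputable def Ptab_s_277_288 (c : Nat) : Nat := @Bool.rec (fun _ => Nat) (Ptab_s_277_282 c) (Ptab_s_282_288 c) (Nat.ble 282 c)
noncomputable def Ptab_s_289_291 (c : Nat) : Nat := @Bool.rec (fun _ => Nat) (Ptab_289) (Ptab_290) (Nat.ble 290 c)
noncomputable def Ptab_s_288_291 (c : Nat) : Nat := @Bool.rec (fun _ => Nat) (Ptab_288) (Ptab_s_289_291 c) (Nat.ble 289 c)
noncomputable def Ptab_s_292_294 (c : Nat) : Nat := @Bool.rec (fun _ => Nat) (Ptab_292) (Ptab_293) (Nat.ble 293 c)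
noncomputable def Ptab_s_291_294 (c : Nat) : Nat := @Bool.rec (fun _ => Nat) (Ptab_291) (Ptab_s_292_294 c) (Nat.ble 292 c)
noncomputable def Ptab_s_288_294 (c : Nat) : Nat := @Bool.rec (fun _ => Nat) (Ptab_s_288_291 c) (Ptab_s_291_294 c) (Nat.ble 291 c)
noncomputable def Ptab_s_295_297 (c : Nat) : Nat := @Bool.rec (fun _ => Nat) (Ptab_295) (Ptab_296) (Nat.ble 296 c)
noncomputable def Ptab_s_294_297 (c : Nat) : Nat := @Bool.rec (fun _ => Nat) (Ptab_294) (Ptab_s_295_297 c) (Nat.ble 295 c)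
noncomputable def Ptab_s_298_300 (c : Nat) : Nat := @Bool.rec (fun _ => Nat) (Ptab_298) (Ptab_299) (Nat.ble 299 c)
noncomputable def Ptab_s_297_300 (c : Nat) : Nat := @Bool.rec (fun _ => Nat) (Ptab_297) (Ptab_s_298_300 c) (Nat.ble 298 c)
noncomputable def Ptab_s_294_300 (c : Nat) : Nat := @Bool.rec (fun _ => Nat) (Ptab_s_294_297 c) (Ptab_s_297_300 c) (Nat.ble 297 c)
noncomputable def Ptab_s_288_300 (c : Nat) : Nat := @Bool.rec (fun _ => Nat) (Ptab_s_288_294 c) (Ptab_s_294_300 c) (Nat.ble 294 c)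
noncomputable def Ptab_s_277_300 (c : Nat) : Nat := @Bool.rec (fun _ => Nat) (Ptab_s_277_288 c) (Ptab_s_288_300 c) (Nat.ble 288 c)
noncomputable def Ptab_s_300_302 (c : Nat) : Nat := @Bool.rec (fun _ => Nat) (Ptab_300) (Ptab_301) (Nat.ble 301 c)
noncomputable def Ptab_s_303_305 (c : Nat) : Nat := @Bool.rec (fun _ => Nat) (Ptab_303) (Ptab_304) (Nat.ble 304 c)
noncomputable def Ptab_s_302_305 (c : Nat) : Nat := @Bool.rec (fun _ => Nat) (Ptab_302) (Ptab_s_303_305 c) (Nat.ble 303 c)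
noncomputable def Ptab_s_300_305 (c : Nat) : Nat := @Bool.rec (fun _ => Nat) (Ptab_s_300_302 c) (Ptab_s_302_305 c) (Nat.ble 302 c)
noncomputable def Ptab_s_306_308 (c : Nat) : Nat := @Bool.rec (fun _ => Nat) (Ptab_306) (Ptab_307) (Nat.ble 307 c)
noncomputable def Ptab_s_305_308 (c : Nat) : Nat := @Bool.rec (fun _ => Nat) (Ptab_305) (Ptab_s_306_308 c) (Nat.ble 306 c)
noncomputable def Ptab_s_309_311 (c : Nat) : Nat := @Bool.rec (fun _ => Nat) (Ptab_309) (Ptab_310) (Nat.ble 310 c)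
noncomputable def Ptab_s_308_311 (c : Nat) : Nat := @Bool.rec (fun _ => Nat) (Ptab_308) (Ptab_s_309_311 c) (Nat.ble 309 c)
noncomputable def Ptab_s_305_311 (c : Nat) : Nat := @Bool.rec (fun _ => Nat) (Ptab_s_305_308 c) (Ptab_s_308_311 c) (Nat.ble 308 c)
noncomputable def Ptab_s_300_311 (c : Nat) : Nat := @Bool.rec (fun _ => Nat) (Ptab_s_300_305 c) (Ptab_s_305_311 c) (Nat.ble 305 c)
noncomputable def Ptab_s_312_314 (c : Nat) : Nat := @Bool.rec (fun _ => Nat) (Ptab_312) (Ptab_313) (Nat.ble 313 c)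
noncomputable def Ptab_s_311_314 (c : Nat) : Nat := @Bool.rec (fun _ => Nat) (Ptab_311) (Ptab_s_312_314 c) (Nat.ble 312 c)
noncomputable def Ptab_s_315_317 (c : Nat) : Nat := @Bool.rec (fun _ => Nat) (Ptab_315) (Ptab_316) (Nat.ble 316 c)
noncomputable def Ptab_s_314_317 (c : Nat) : Nat := @Bool.rec (fun _ => Nat) (Ptab_314) (Ptab_s_315_317 c) (Nat.ble 315 c)
noncomputable def Ptab_s_311_317 (c : Nat) : Nat := @Bool.rec (fun _ => Nat) (Ptab_s_311_314 c) (Ptab_s_314_317 c) (Nat.ble 314 c)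
noncomputable def Ptab_s_318_320 (c : Nat) : Nat := @Bool.rec (fun _ => Nat) (Ptab_318) (Ptab_319) (Nat.ble 319 c)
noncomputable def Ptab_s_317_320 (c : Nat) : Nat := @Bool.rec (fun _ => Nat) (Ptab_317) (Ptab_s_318_320 c) (Nat.ble 318 c)
noncomputable def Ptab_s_321_323 (c : Nat) : Nat := @Bool.rec (fun _ => Nat) (Ptab_321) (Ptab_322) (Nat.ble 322 c)
noncomputable def Ptab_s_320_323 (c : Nat) : Nat := @Bool.rec (fun _ => Nat) (Ptab_320) (Ptab_s_321_323 c) (Nat.ble 321 c)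
noncomputable def Ptab_s_317_323 (c : Nat) : Nat := @Bool.rec (fun _ => Nat) (Ptab_s_317_320 c) (Ptab_s_320_323 c) (Nat.ble 320 c)
noncomputable def Ptab_s_311_323 (c : Nat) : Nat := @Bool.rec (fun _ => Nat) (Ptab_s_311_317 c) (Ptab_s_317_323 c) (Nat.ble 317 c)
noncomputable def Ptab_s_300_323 (c : Nat) : Nat := @Bool.rec (fun _ => Nat) (Ptab_s_300_311 c) (Ptab_s_311_323 c) (Nat.ble 311 c)
noncomputable def Ptab_s_277_323 (c : Nat) : Nat := @Bool.rec (fun _ => Nat) (Ptab_s_277_300 c) (Ptab_s_300_323 c) (Nat.ble 300 c)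
noncomputable def Ptab_s_323_325 (c : Nat) : Nat := @Bool.rec (fun _ => Nat) (Ptab_323) (Ptab_324) (Nat.ble 324 c)
noncomputable def Ptab_s_326_328 (c : Nat) : Nat := @Bool.rec (fun _ => Nat) (Ptab_326) (Ptab_327) (Nat.ble 327 c)
noncomputable def Ptab_s_325_328 (c : Nat) : Nat := @Bool.rec (fun _ => Nat) (Ptab_325) (Ptab_s_326_328 c) (Nat.ble 326 c)
noncomputable def Ptab_s_323_328 (c : Nat) : Nat := @Bool.rec (fun _ => Nat) (Ptab_s_323_325 c) (Ptab_s_325_328 c) (Nat.ble 325 c)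
noncomputable def Ptab_s_329_331 (c : Nat) : Nat := @Bool.rec (fun _ => Nat) (Ptab_329) (Ptab_330) (Nat.ble 330 c)
noncomputable def Ptab_s_328_331 (c : Nat) : Nat := @Bool.rec (fun _ => Nat) (Ptab_328) (Ptab_s_329_331 c) (Nat.ble 329 c)
noncomputable def Ptab_s_332_334 (c : Nat) : Nat := @Bool.rec (fun _ => Nat) (Ptab_332) (Ptab_333) (Nat.ble 333 c)
noncomputable def Ptab_s_331_334 (c : Nat) : Nat := @Bool.rec (fun _ => Nat) (Ptab_331) (Ptab_s_332_334 c) (Nat.ble 332 c)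
noncomputable def Ptab_s_328_334 (c : Nat) : Nat := @Bool.rec (fun _ => Nat) (Ptab_s_328_331 c) (Ptab_s_331_334 c) (Nat.ble 331 c)
noncomputable def Ptab_s_323_334 (c : Nat) : Nat := @Bool.rec (fun _ => Nat) (Ptab_s_323_328 c) (Ptab_s_328_334 c) (Nat.ble 328 c)
noncomputable def Ptab_s_335_337 (c : Nat) : Nat := @Bool.rec (fun _ => Nat) (Ptab_335) (Ptab_336) (Nat.ble 336 c)
noncomputable def Ptab_s_334_337 (c : Nat) : Nat := @Bool.rec (fun _ => Nat) (Ptab_334) (Ptab_s_335_337 c) (Nat.ble 335 c)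
noncomputable def Ptab_s_338_340 (c : Nat) : Nat := @Bool.rec (fun _ => Nat) (Ptab_338) (Ptab_339) (Nat.ble 339 c)
noncomputable def Ptab_s_337_340 (c : Nat) : Nat := @Bool.rec (fun _ => Nat) (Ptab_337) (Ptab_s_338_340 c) (Nat.ble 338 c)
noncomputable def Ptab_s_334_340 (c : Nat) : Nat := @Bool.rec (fun _ => Nat) (Ptab_s_334_337 c) (Ptab_s_337_340 c) (Nat.ble 337 c)
noncomputable def Ptab_s_341_343 (c : Nat) : Nat := @Bool.rec (fun _ => Nat) (Ptab_341) (Ptab_342) (Nat.ble 342 c)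
noncomputable def Ptab_s_340_343 (c : Nat) : Nat := @Bool.rec (fun _ => Nat) (Ptab_340) (Ptab_s_341_343 c) (Nat.ble 341 c)
noncomputable def Ptab_s_344_346 (c : Nat) : Nat := @Bool.rec (fun _ => Nat) (Ptab_344) (Ptab_345) (Nat.ble 345 c)
noncomputable def Ptab_s_343_346 (c : Nat) : Nat := @Bool.rec (fun _ => Nat) (Ptab_343) (Ptab_s_344_346 c) (Nat.ble 344 c)
noncomputable def Ptab_s_340_346 (c : Nat) : Nat := @Bool.rec (fun _ => Nat) (Ptab_s_340_343 c) (Ptab_s_343_346 c) (Nat.ble 343 c)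
noncomputable def Ptab_s_334_346 (c : Nat) : Nat := @Bool.rec (fun _ => Nat) (Ptab_s_334_340 c) (Ptab_s_340_346 c) (Nat.ble 340 c)
noncomputable def Ptab_s_323_346 (c : Nat) : Nat := @Bool.rec (fun _ => Nat) (Ptab_s_323_334 c) (Ptab_s_334_346 c) (Nat.ble 334 c)
noncomputable def Ptab_s_347_349 (c : Nat) : Nat := @Bool.rec (fun _ => Nat) (Ptab_347) (Ptab_348) (Nat.ble 348 c)
noncomputable def Ptab_s_346_349 (c : Nat) : Nat := @Bool.rec (fun _ => Nat) (Ptab_346) (Ptab_s_347_349 c) (Nat.ble 347 c)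
noncomputable def Ptab_s_350_352 (c : Nat) : Nat := @Bool.rec (fun _ => Nat) (Ptab_350) (Ptab_351) (Nat.ble 351 c)
noncomputable def Ptab_s_349_352 (c : Nat) : Nat := @Bool.rec (fun _ => Nat) (Ptab_349) (Ptab_s_350_352 c) (Nat.ble 350 c)
noncomputable def Ptab_s_346_352 (c : Nat) : Nat := @Bool.rec (fun _ => Nat) (Ptab_s_346_349 c) (Ptab_s_349_352 c) (Nat.ble 349 c)
noncomputable def Ptab_s_353_355 (c : Nat) : Nat := @Bool.rec (fun _ => Nat) (Ptab_353) (Ptab_354) (Nat.ble 354 c)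
noncomputable def Ptab_s_352_355 (c : Nat) : Nat := @Bool.rec (fun _ => Nat) (Ptab_352) (Ptab_s_353_355 c) (Nat.ble 353 c)
noncomputable def Ptab_s_356_358 (c : Nat) : Nat := @Bool.rec (fun _ => Nat) (Ptab_356) (Ptab_357) (Nat.ble 357 c)
noncomputable def Ptab_s_355_358 (c : Nat) : Nat := @Bool.rec (fun _ => Nat) (Ptab_355) (Ptab_s_356_358 c) (Nat.ble 356 c)
noncomputable def Ptab_s_352_358 (c : Nat) : Nat := @Bool.rec (fun _ => Nat) (Ptab_s_352_355 c) (Ptab_s_355_358 c) (Nat.ble 355 c)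
noncomputable def Ptab_s_346_358 (c : Nat) : Nat := @Bool.rec (fun _ => Nat) (Ptab_s_346_352 c) (Ptab_s_352_358 c) (Nat.ble 352 c)
noncomputable def Ptab_s_359_361 (c : Nat) : Nat := @Bool.rec (fun _ => Nat) (Ptab_359) (Ptab_360) (Nat.ble 360 c)
noncomputable def Ptab_s_358_361 (c : Nat) : Nat := @Bool.rec (fun _ => Nat) (Ptab_358) (Ptab_s_359_361 c) (Nat.ble 359 c)
noncomputable def Ptab_s_362_364 (c : Nat) : Nat := @Bool.rec (fun _ => Nat) (Ptab_362) (Ptab_363) (Nat.ble 363 c)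
noncomputable def Ptab_s_361_364 (c : Nat) : Nat := @Bool.rec (fun _ => Nat) (Ptab_361) (Ptab_s_362_364 c) (Nat.ble 362 c)
noncomputable def Ptab_s_358_364 (c : Nat) : Nat := @Bool.rec (fun _ => Nat) (Ptab_s_358_361 c) (Ptab_s_361_364 c) (Nat.ble 361 c)
noncomputable def Ptab_s_365_367 (c : Nat) : Nat := @Bool.rec (fun _ => Nat) (Ptab_365) (Ptab_366) (Nat.ble 366 c)
noncomputable def Ptab_s_364_367 (c : Nat) : Nat := @Bool.rec (fun _ => Nat) (Ptab_364) (Ptab_s_365_367 c) (Nat.ble 365 c)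
noncomputable def Ptab_s_368_370 (c : Nat) : Nat := @Bool.rec (fun _ => Nat) (Ptab_368) (Ptab_369) (Nat.ble 369 c)
noncomputable def Ptab_s_367_370 (c : Nat) : Nat := @Bool.rec (fun _ => Nat) (Ptab_367) (Ptab_s_368_370 c) (Nat.ble 368 c)
noncomputable def Ptab_s_364_370 (c : Nat) : Nat := @Bool.rec (fun _ => Nat) (Ptab_s_364_367 c) (Ptab_s_367_370 c) (Nat.ble 367 c)
noncomputable def Ptab_s_358_370 (c : Nat) : Nat := @Bool.rec (fun _ => Nat) (Ptab_s_358_364 c) (Ptab_s_364_370 c) (Nat.ble 364 c)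
noncomputable def Ptab_s_346_370 (c : Nat) : Nat := @Bool.rec (fun _ => Nat) (Ptab_s_346_358 c) (Ptab_s_358_370 c) (Nat.ble 358 c)
noncomputable def Ptab_s_323_370 (c : Nat) : Nat := @Bool.rec (fun _ => Nat) (Ptab_s_323_346 c) (Ptab_s_346_370 c) (Nat.ble 346 c)
noncomputable def Ptab_s_277_370 (c : Nat) : Nat := @Bool.rec (fun _ => Nat) (Ptab_s_277_323 c) (Ptab_s_323_370 c) (Nat.ble 323 c)
noncomputable def Ptab_s_185_370 (c : Nat) : Nat := @Bool.rec (fun _ => Nat) (Ptab_s_185_277 c) (Ptab_s_277_370 c) (Nat.ble 277 c)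
noncomputable def Ptab_s_0_370 (c : Nat) : Nat := @Bool.rec (fun _ => Nat) (Ptab_s_0_185 c) (Ptab_s_185_370 c) (Nat.ble 185 c)
noncomputable def Ptab_s_370_372 (c : Nat) : Nat := @Bool.rec (fun _ => Nat) (Ptab_370) (Ptab_371) (Nat.ble 371 c)
noncomputable def Ptab_s_373_375 (c : Nat) : Nat := @Bool.rec (fun _ => Nat) (Ptab_373) (Ptab_374) (Nat.ble 374 c)
noncomputable def Ptab_s_372_375 (c : Nat) : Nat := @Bool.rec (fun _ => Nat) (Ptab_372) (Ptab_s_373_375 c) (Nat.ble 373 c)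
noncomputable def Ptab_s_370_375 (c : Nat) : Nat := @Bool.rec (fun _ => Nat) (Ptab_s_370_372 c) (Ptab_s_372_375 c) (Nat.ble 372 c)
noncomputable def Ptab_s_376_378 (c : Nat) : Nat := @Bool.rec (fun _ => Nat) (Ptab_376) (Ptab_377) (Nat.ble 377 c)
noncomputable def Ptab_s_375_378 (c : Nat) : Nat := @Bool.rec (fun _ => Nat) (Ptab_375) (Ptab_s_376_378 c) (Nat.ble 376 c)
noncomputable def Ptab_s_379_381 (c : Nat) : Nat := @Bool.rec (fun _ => Nat) (Ptab_379) (Ptab_380) (Nat.ble 380 c)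
noncomputable def Ptab_s_378_381 (c : Nat) : Nat := @Bool.rec (fun _ => Nat) (Ptab_378) (Ptab_s_379_381 c) (Nat.ble 379 c)
noncomputable def Ptab_s_375_381 (c : Nat) : Nat := @Bool.rec (fun _ => Nat) (Ptab_s_375_378 c) (Ptab_s_378_381 c) (Nat.ble 378 c)
noncomputable def Ptab_s_370_381 (c : Nat) : Nat := @Bool.rec (fun _ => Nat) (Ptab_s_370_375 c) (Ptab_s_375_381 c) (Nat.ble 375 c)
noncomputable def Ptab_s_382_384 (c : Nat) : Nat := @Bool.rec (fun _ => Nat) (Ptab_382) (Ptab_383) (Nat.ble 383 c)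
noncomputable def Ptab_s_381_384 (c : Nat) : Nat := @Bool.rec (fun _ => Nat) (Ptab_381) (Ptab_s_382_384 c) (Nat.ble 382 c)
noncomputable def Ptab_s_385_387 (c : Nat) : Nat := @Bool.rec (fun _ => Nat) (Ptab_385) (Ptab_386) (Nat.ble 386 c)
noncomputable def Ptab_s_384_387 (c : Nat) : Nat := @Bool.rec (fun _ => Nat) (Ptab_384) (Ptab_s_385_387 c) (Nat.ble 385 c)
noncomputable def Ptab_s_381_387 (c : Nat) : Nat := @Bool.rec (fun _ => Nat) (Ptab_s_381_384 c) (Ptab_s_384_387 c) (Nat.ble 384 c)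
noncomputable def Ptab_s_388_390 (c : Nat) : Nat := @Bool.rec (fun _ => Nat) (Ptab_388) (Ptab_389) (Nat.ble 389 c)
noncomputable def Ptab_s_387_390 (c : Nat) : Nat := @Bool.rec (fun _ => Nat) (Ptab_387) (Ptab_s_388_390 c) (Nat.ble 388 c)
noncomputable def Ptab_s_391_393 (c : Nat) : Nat := @Bool.rec (fun _ => Nat) (Ptab_391) (Ptab_392) (Nat.ble 392 c)
noncomputable def Ptab_s_390_393 (c : Nat) : Nat := @Bool.rec (fun _ => Nat) (Ptab_390) (Ptab_s_391_393 c) (Nat.ble 391 c)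
noncomputable def Ptab_s_387_393 (c : Nat) : Nat := @Bool.rec (fun _ => Nat) (Ptab_s_387_390 c) (Ptab_s_390_393 c) (Nat.ble 390 c)
noncomputable def Ptab_s_381_393 (c : Nat) : Nat := @Bool.rec (fun _ => Nat) (Ptab_s_381_387 c) (Ptab_s_387_393 c) (Nat.ble 387 c)
noncomputable def Ptab_s_370_393 (c : Nat) : Nat := @Bool.rec (fun _ => Nat) (Ptab_s_370_381 c) (Ptab_s_381_393 c) (Nat.ble 381 c)
noncomputable def Ptab_s_393_395 (c : Nat) : Nat := @Bool.rec (fun _ => Nat) (Ptab_393) (Ptab_394) (Nat.ble 394 c)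
noncomputable def Ptab_s_396_398 (c : Nat) : Nat := @Bool.rec (fun _ => Nat) (Ptab_396) (Ptab_397) (Nat.ble 397 c)
noncomputable def Ptab_s_395_398 (c : Nat) : Nat := @Bool.rec (fun _ => Nat) (Ptab_395) (Ptab_s_396_398 c) (Nat.ble 396 c)
noncomputable def Ptab_s_393_398 (c : Nat) : Nat := @Bool.rec (fun _ => Nat) (Ptab_s_393_395 c) (Ptab_s_395_398 c) (Nat.ble 395 c)
noncomputable def Ptab_s_399_401 (c : Nat) : Nat := @Bool.rec (fun _ => Nat) (Ptab_399) (Ptab_400) (Nat.ble 400 c)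
noncomputable def Ptab_s_398_401 (c : Nat) : Nat := @Bool.rec (fun _ => Nat) (Ptab_398) (Ptab_s_399_401 c) (Nat.ble 399 c)
noncomputable def Ptab_s_402_404 (c : Nat) : Nat := @Bool.rec (fun _ => Nat) (Ptab_402) (Ptab_403) (Nat.ble 403 c)
noncomputable def Ptab_s_401_404 (c : Nat) : Nat := @Bool.rec (fun _ => Nat) (Ptab_401) (Ptab_s_402_404 c) (Nat.ble 402 c)
noncomputable def Ptab_s_398_404 (c : Nat) : Nat := @Bool.rec (fun _ => Nat) (Ptab_s_398_401 c) (Ptab_s_401_404 c) (Nat.ble 401 c)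
noncomputable def Ptab_s_393_404 (c : Nat) : Nat := @Bool.rec (fun _ => Nat) (Ptab_s_393_398 c) (Ptab_s_398_404 c) (Nat.ble 398 c)
noncomputable def Ptab_s_405_407 (c : Nat) : Nat := @Bool.rec (fun _ => Nat) (Ptab_405) (Ptab_406) (Nat.ble 406 c)
noncomputable def Ptab_s_404_407 (c : Nat) : Nat := @Bool.rec (fun _ => Nat) (Ptab_404) (Ptab_s_405_407 c) (Nat.ble 405 c)
noncomputable def Ptab_s_408_410 (c : Nat) : Nat := @Bool.rec (fun _ => Nat) (Ptab_408) (Ptab_409) (Nat.ble 409 c)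
noncomputable def Ptab_s_407_410 (c : Nat) : Nat := @Bool.rec (fun _ => Nat) (Ptab_407) (Ptab_s_408_410 c) (Nat.ble 408 c)
noncomputable def Ptab_s_404_410 (c : Nat) : Nat := @Bool.rec (fun _ => Nat) (Ptab_s_404_407 c) (Ptab_s_407_410 c) (Nat.ble 407 c)
noncomputable def Ptab_s_411_413 (c : Nat) : Nat := @Bool.rec (fun _ => Nat) (Ptab_411) (Ptab_412) (Nat.ble 412 c)
noncomputable def Ptab_s_410_413 (c : Nat) : Nat := @Bool.rec (fun _ => Nat) (Ptab_410) (Ptab_s_411_413 c) (Nat.ble 411 c)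
noncomputable def Ptab_s_414_416 (c : Nat) : Nat := @Bool.rec (fun _ => Nat) (Ptab_414) (Ptab_415) (Nat.ble 415 c)
noncomputable def Ptab_s_413_416 (c : Nat) : Nat := @Bool.rec (fun _ => Nat) (Ptab_413) (Ptab_s_414_416 c) (Nat.ble 414 c)
noncomputable def Ptab_s_410_416 (c : Nat) : Nat := @Bool.rec (fun _ => Nat) (Ptab_s_410_413 c) (Ptab_s_413_416 c) (Nat.ble 413 c)
noncomputable def Ptab_s_404_416 (c : Nat) : Nat := @Bool.rec (fun _ => Nat) (Ptab_s_404_410 c) (Ptab_s_410_416 c) (Nat.ble 410 c)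
noncomputable def Ptab_s_393_416 (c : Nat) : Nat := @Bool.rec (fun _ => Nat) (Ptab_s_393_404 c) (Ptab_s_404_416 c) (Nat.ble 404 c)
noncomputable def Ptab_s_370_416 (c : Nat) : Nat := @Bool.rec (fun _ => Nat) (Ptab_s_370_393 c) (Ptab_s_393_416 c) (Nat.ble 393 c)
noncomputable def Ptab_s_416_418 (c : Nat) : Nat := @Bool.rec (fun _ => Nat) (Ptab_416) (Ptab_417) (Nat.ble 417 c)
noncomputable def Ptab_s_419_421 (c : Nat) : Nat := @Bool.rec (fun _ => Nat) (Ptab_419) (Ptab_420) (Nat.ble 420 c)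
noncomputable def Ptab_s_418_421 (c : Nat) : Nat := @Bool.rec (fun _ => Nat) (Ptab_418) (Ptab_s_419_421 c) (Nat.ble 419 c)
noncomputable def Ptab_s_416_421 (c : Nat) : Nat := @Bool.rec (fun _ => Nat) (Ptab_s_416_418 c) (Ptab_s_418_421 c) (Nat.ble 418 c)
noncomputable def Ptab_s_422_424 (c : Nat) : Nat := @Bool.rec (fun _ => Nat) (Ptab_422) (Ptab_423) (Nat.ble 423 c)
noncomputable def Ptab_s_421_424 (c : Nat) : Nat := @Bool.rec (fun _ => Nat) (Ptab_421) (Ptab_s_422_424 c) (Nat.ble 422 c)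
noncomputable def Ptab_s_425_427 (c : Nat) : Nat := @Bool.rec (fun _ => Nat) (Ptab_425) (Ptab_426) (Nat.ble 426 c)
noncomputable def Ptab_s_424_427 (c : Nat) : Nat := @Bool.rec (fun _ => Nat) (Ptab_424) (Ptab_s_425_427 c) (Nat.ble 425 c)
noncomputable def Ptab_s_421_427 (c : Nat) : Nat := @Bool.rec (fun _ => Nat) (Ptab_s_421_424 c) (Ptab_s_424_427 c) (Nat.ble 424 c)
noncomputable def Ptab_s_416_427 (c : Nat) : Nat := @Bool.rec (fun _ => Nat) (Ptab_s_416_421 c) (Ptab_s_421_427 c) (Nat.ble 421 c)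
noncomputable def Ptab_s_428_430 (c : Nat) : Nat := @Bool.rec (fun _ => Nat) (Ptab_428) (Ptab_429) (Nat.ble 429 c)
noncomputable def Ptab_s_427_430 (c : Nat) : Nat := @Bool.rec (fun _ => Nat) (Ptab_427) (Ptab_s_428_430 c) (Nat.ble 428 c)
noncomputable def Ptab_s_431_433 (c : Nat) : Nat := @Bool.rec (fun _ => Nat) (Ptab_431) (Ptab_432) (Nat.ble 432 c)
noncomputable def Ptab_s_430_433 (c : Nat) : Nat := @Bool.rec (fun _ => Nat) (Ptab_430) (Ptab_s_431_433 c) (Nat.ble 431 c)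
noncomputable def Ptab_s_427_433 (c : Nat) : Nat := @Bool.rec (fun _ => Nat) (Ptab_s_427_430 c) (Ptab_s_430_433 c) (Nat.ble 430 c)
noncomputable def Ptab_s_434_436 (c : Nat) : Nat := @Bool.rec (fun _ => Nat) (Ptab_434) (Ptab_435) (Nat.ble 435 c)
noncomputable def Ptab_s_433_436 (c : Nat) : Nat := @Bool.rec (fun _ => Nat) (Ptab_433) (Ptab_s_434_436 c) (Nat.ble 434 c)
noncomputable def Ptab_s_437_439 (c : Nat) : Nat := @Bool.rec (fun _ => Nat) (Ptab_437) (Ptab_438) (Nat.ble 438 c)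
noncomputable def Ptab_s_436_439 (c : Nat) : Nat := @Bool.rec (fun _ => Nat) (Ptab_436) (Ptab_s_437_439 c) (Nat.ble 437 c)
noncomputable def Ptab_s_433_439 (c : Nat) : Nat := @Bool.rec (fun _ => Nat) (Ptab_s_433_436 c) (Ptab_s_436_439 c) (Nat.ble 436 c)
noncomputable def Ptab_s_427_439 (c : Nat) : Nat := @Bool.rec (fun _ => Nat) (Ptab_s_427_433 c) (Ptab_s_433_439 c) (Nat.ble 433 c)
noncomputable def Ptab_s_416_439 (c : Nat) : Nat := @Bool.rec (fun _ => Nat) (Ptab_s_416_427 c) (Ptab_s_427_439 c) (Nat.ble 427 c)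
noncomputable def Ptab_s_439_441 (c : Nat) : Nat := @Bool.rec (fun _ => Nat) (Ptab_439) (Ptab_440) (Nat.ble 440 c)
noncomputable def Ptab_s_442_444 (c : Nat) : Nat := @Bool.rec (fun _ => Nat) (Ptab_442) (Ptab_443) (Nat.ble 443 c)
noncomputable def Ptab_s_441_444 (c : Nat) : Nat := @Bool.rec (fun _ => Nat) (Ptab_441) (Ptab_s_442_444 c) (Nat.ble 442 c)
noncomputable def Ptab_s_439_444 (c : Nat) : Nat := @Bool.rec (fun _ => Nat) (Ptab_s_439_441 c) (Ptab_s_441_444 c) (Nat.ble 441 c)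
noncomputable def Ptab_s_445_447 (c : Nat) : Nat := @Bool.rec (fun _ => Nat) (Ptab_445) (Ptab_446) (Nat.ble 446 c)
noncomputable def Ptab_s_444_447 (c : Nat) : Nat := @Bool.rec (fun _ => Nat) (Ptab_444) (Ptab_s_445_447 c) (Nat.ble 445 c)
noncomputable def Ptab_s_448_450 (c : Nat) : Nat := @Bool.rec (fun _ => Nat) (Ptab_448) (Ptab_449) (Nat.ble 449 c)
noncomputable def Ptab_s_447_450 (c : Nat) : Nat := @Bool.rec (fun _ => Nat) (Ptab_447) (Ptab_s_448_450 c) (Nat.ble 448 c)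
noncomputable def Ptab_s_444_450 (c : Nat) : Nat := @Bool.rec (fun _ => Nat) (Ptab_s_444_447 c) (Ptab_s_447_450 c) (Nat.ble 447 c)
noncomputable def Ptab_s_439_450 (c : Nat) : Nat := @Bool.rec (fun _ => Nat) (Ptab_s_439_444 c) (Ptab_s_444_450 c) (Nat.ble 444 c)
noncomputable def Ptab_s_451_453 (c : Nat) : Nat := @Bool.rec (fun _ => Nat) (Ptab_451) (Ptab_452) (Nat.ble 452 c)
noncomputable def Ptab_s_450_453 (c : Nat) : Nat := @Bool.rec (fun _ => Nat) (Ptab_450) (Ptab_s_451_453 c) (Nat.ble 451 c)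
noncomputable def Ptab_s_454_456 (c : Nat) : Nat := @Bool.rec (fun _ => Nat) (Ptab_454) (Ptab_455) (Nat.ble 455 c)
noncomputable def Ptab_s_453_456 (c : Nat) : Nat := @Bool.rec (fun _ => Nat) (Ptab_453) (Ptab_s_454_456 c) (Nat.ble 454 c)
noncomputable def Ptab_s_450_456 (c : Nat) : Nat := @Bool.rec (fun _ => Nat) (Ptab_s_450_453 c) (Ptab_s_453_456 c) (Nat.ble 453 c)
noncomputable def Ptab_s_457_459 (c : Nat) : Nat := @Bool.rec (fun _ => Nat) (Ptab_457) (Ptab_458) (Nat.ble 458 c)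
noncomputable def Ptab_s_456_459 (c : Nat) : Nat := @Bool.rec (fun _ => Nat) (Ptab_456) (Ptab_s_457_459 c) (Nat.ble 457 c)
noncomputable def Ptab_s_460_462 (c : Nat) : Nat := @Bool.rec (fun _ => Nat) (Ptab_460) (Ptab_461) (Nat.ble 461 c)
noncomputable def Ptab_s_459_462 (c : Nat) : Nat := @Bool.rec (fun _ => Nat) (Ptab_459) (Ptab_s_460_462 c) (Nat.ble 460 c)
noncomputable def Ptab_s_456_462 (c : Nat) : Nat := @Bool.rec (fun _ => Nat) (Ptab_s_456_459 c) (Ptab_s_459_462 c) (Nat.ble 459 c)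
noncomputable def Ptab_s_450_462 (c : Nat) : Nat := @Bool.rec (fun _ => Nat) (Ptab_s_450_456 c) (Ptab_s_456_462 c) (Nat.ble 456 c)
noncomputable def Ptab_s_439_462 (c : Nat) : Nat := @Bool.rec (fun _ => Nat) (Ptab_s_439_450 c) (Ptab_s_450_462 c) (Nat.ble 450 c)
noncomputable def Ptab_s_416_462 (c : Nat) : Nat := @Bool.rec (fun _ => Nat) (Ptab_s_416_439 c) (Ptab_s_439_462 c) (Nat.ble 439 c)
noncomputable def Ptab_s_370_462 (c : Nat) : Nat := @Bool.rec (fun _ => Nat) (Ptab_s_370_416 c) (Ptab_s_416_462 c) (Nat.ble 416 c)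
noncomputable def Ptab_s_462_464 (c : Nat) : Nat := @Bool.rec (fun _ => Nat) (Ptab_462) (Ptab_463) (Nat.ble 463 c)
noncomputable def Ptab_s_465_467 (c : Nat) : Nat := @Bool.rec (fun _ => Nat) (Ptab_465) (Ptab_466) (Nat.ble 466 c)
noncomputable def Ptab_s_464_467 (c : Nat) : Nat := @Bool.rec (fun _ => Nat) (Ptab_464) (Ptab_s_465_467 c) (Nat.ble 465 c)
noncomputable def Ptab_s_462_467 (c : Nat) : Nat := @Bool.rec (fun _ => Nat) (Ptab_s_462_464 c) (Ptab_s_464_467 c) (Nat.ble 464 c)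
noncomputable def Ptab_s_468_470 (c : Nat) : Nat := @Bool.rec (fun _ => Nat) (Ptab_468) (Ptab_469) (Nat.ble 469 c)
noncomputable def Ptab_s_467_470 (c : Nat) : Nat := @Bool.rec (fun _ => Nat) (Ptab_467) (Ptab_s_468_470 c) (Nat.ble 468 c)
noncomputable def Ptab_s_471_473 (c : Nat) : Nat := @Bool.rec (fun _ => Nat) (Ptab_471) (Ptab_472) (Nat.ble 472 c)
noncomputable def Ptab_s_470_473 (c : Nat) : Nat := @Bool.rec (fun _ => Nat) (Ptab_470) (Ptab_s_471_473 c) (Nat.ble 471 c)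
noncomputable def Ptab_s_467_473 (c : Nat) : Nat := @Bool.rec (fun _ => Nat) (Ptab_s_467_470 c) (Ptab_s_470_473 c) (Nat.ble 470 c)
noncomputable def Ptab_s_462_473 (c : Nat) : Nat := @Bool.rec (fun _ => Nat) (Ptab_s_462_467 c) (Ptab_s_467_473 c) (Nat.ble 467 c)
noncomputable def Ptab_s_474_476 (c : Nat) : Nat := @Bool.rec (fun _ => Nat) (Ptab_474) (Ptab_475) (Nat.ble 475 c)
noncomputable def Ptab_s_473_476 (c : Nat) : Nat := @Bool.rec (fun _ => Nat) (Ptab_473) (Ptab_s_474_476 c) (Nat.ble 474 c)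
noncomputable def Ptab_s_477_479 (c : Nat) : Nat := @Bool.rec (fun _ => Nat) (Ptab_477) (Ptab_478) (Nat.ble 478 c)
noncomputable def Ptab_s_476_479 (c : Nat) : Nat := @Bool.rec (fun _ => Nat) (Ptab_476) (Ptab_s_477_479 c) (Nat.ble 477 c)
noncomputable def Ptab_s_473_479 (c : Nat) : Nat := @Bool.rec (fun _ => Nat) (Ptab_s_473_476 c) (Ptab_s_476_479 c) (Nat.ble 476 c)
noncomputable def Ptab_s_480_482 (c : Nat) : Nat := @Bool.rec (fun _ => Nat) (Ptab_480) (Ptab_481) (Nat.ble 481 c)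
noncomputable def Ptab_s_479_482 (c : Nat) : Nat := @Bool.rec (fun _ => Nat) (Ptab_479) (Ptab_s_480_482 c) (Nat.ble 480 c)
noncomputable def Ptab_s_483_485 (c : Nat) : Nat := @Bool.rec (fun _ => Nat) (Ptab_483) (Ptab_484) (Nat.ble 484 c)
noncomputable def Ptab_s_482_485 (c : Nat) : Nat := @Bool.rec (fun _ => Nat) (Ptab_482) (Ptab_s_483_485 c) (Nat.ble 483 c)
noncomputable def Ptab_s_479_485 (c : Nat) : Nat := @Bool.rec (fun _ => Nat) (Ptab_s_479_482 c) (Ptab_s_482_485 c) (Nat.ble 482 c)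
noncomputable def Ptab_s_473_485 (c : Nat) : Nat := @Bool.rec (fun _ => Nat) (Ptab_s_473_479 c) (Ptab_s_479_485 c) (Nat.ble 479 c)
noncomputable def Ptab_s_462_485 (c : Nat) : Nat := @Bool.rec (fun _ => Nat) (Ptab_s_462_473 c) (Ptab_s_473_485 c) (Nat.ble 473 c)
noncomputable def Ptab_s_485_487 (c : Nat) : Nat := @Bool.rec (fun _ => Nat) (Ptab_485) (Ptab_486) (Nat.ble 486 c)
noncomputable def Ptab_s_488_490 (c : Nat) : Nat := @Bool.rec (fun _ => Nat) (Ptab_488) (Ptab_489) (Nat.ble 489 c)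
noncomputable def Ptab_s_487_490 (c : Nat) : Nat := @Bool.rec (fun _ => Nat) (Ptab_487) (Ptab_s_488_490 c) (Nat.ble 488 c)
noncomputable def Ptab_s_485_490 (c : Nat) : Nat := @Bool.rec (fun _ => Nat) (Ptab_s_485_487 c) (Ptab_s_487_490 c) (Nat.ble 487 c)
noncomputable def Ptab_s_491_493 (c : Nat) : Nat := @Bool.rec (fun _ => Nat) (Ptab_491) (Ptab_492) (Nat.ble 492 c)
noncomputable def Ptab_s_490_493 (c : Nat) : Nat := @Bool.rec (fun _ => Nat) (Ptab_490) (Ptab_s_491_493 c) (Nat.ble 491 c)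
noncomputable def Ptab_s_494_496 (c : Nat) : Nat := @Bool.rec (fun _ => Nat) (Ptab_494) (Ptab_495) (Nat.ble 495 c)
noncomputable def Ptab_s_493_496 (c : Nat) : Nat := @Bool.rec (fun _ => Nat) (Ptab_493) (Ptab_s_494_496 c) (Nat.ble 494 c)
noncomputable def Ptab_s_490_496 (c : Nat) : Nat := @Bool.rec (fun _ => Nat) (Ptab_s_490_493 c) (Ptab_s_493_496 c) (Nat.ble 493 c)
noncomputable def Ptab_s_485_496 (c : Nat) : Nat := @Bool.rec (fun _ => Nat) (Ptab_s_485_490 c) (Ptab_s_490_496 c) (Nat.ble 490 c)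
noncomputable def Ptab_s_497_499 (c : Nat) : Nat := @Bool.rec (fun _ => Nat) (Ptab_497) (Ptab_498) (Nat.ble 498 c)
noncomputable def Ptab_s_496_499 (c : Nat) : Nat := @Bool.rec (fun _ => Nat) (Ptab_496) (Ptab_s_497_499 c) (Nat.ble 497 c)
noncomputable def Ptab_s_500_502 (c : Nat) : Nat := @Bool.rec (fun _ => Nat) (Ptab_500) (Ptab_501) (Nat.ble 501 c)
noncomputable def Ptab_s_499_502 (c : Nat) : Nat := @Bool.rec (fun _ => Nat) (Ptab_499) (Ptab_s_500_502 c) (Nat.ble 500 c)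
noncomputable def Ptab_s_496_502 (c : Nat) : Nat := @Bool.rec (fun _ => Nat) (Ptab_s_496_499 c) (Ptab_s_499_502 c) (Nat.ble 499 c)
noncomputable def Ptab_s_503_505 (c : Nat) : Nat := @Bool.rec (fun _ => Nat) (Ptab_503) (Ptab_504) (Nat.ble 504 c)
noncomputable def Ptab_s_502_505 (c : Nat) : Nat := @Bool.rec (fun _ => Nat) (Ptab_502) (Ptab_s_503_505 c) (Nat.ble 503 c)
noncomputable def Ptab_s_506_508 (c : Nat) : Nat := @Bool.rec (fun _ => Nat) (Ptab_506) (Ptab_507) (Nat.ble 507 c)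
noncomputable def Ptab_s_505_508 (c : Nat) : Nat := @Bool.rec (fun _ => Nat) (Ptab_505) (Ptab_s_506_508 c) (Nat.ble 506 c)
noncomputable def Ptab_s_502_508 (c : Nat) : Nat := @Bool.rec (fun _ => Nat) (Ptab_s_502_505 c) (Ptab_s_505_508 c) (Nat.ble 505 c)
noncomputable def Ptab_s_496_508 (c : Nat) : Nat := @Bool.rec (fun _ => Nat) (Ptab_s_496_502 c) (Ptab_s_502_508 c) (Nat.ble 502 c)
noncomputable def Ptab_s_485_508 (c : Nat) : Nat := @Bool.rec (fun _ => Nat) (Ptab_s_485_496 c) (Ptab_s_496_508 c) (Nat.ble 496 c)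
noncomputable def Ptab_s_462_508 (c : Nat) : Nat := @Bool.rec (fun _ => Nat) (Ptab_s_462_485 c) (Ptab_s_485_508 c) (Nat.ble 485 c)
noncomputable def Ptab_s_508_510 (c : Nat) : Nat := @Bool.rec (fun _ => Nat) (Ptab_508) (Ptab_509) (Nat.ble 509 c)
noncomputable def Ptab_s_511_513 (c : Nat) : Nat := @Bool.rec (fun _ => Nat) (Ptab_511) (Ptab_512) (Nat.ble 512 c)
noncomputable def Ptab_s_510_513 (c : Nat) : Nat := @Bool.rec (fun _ => Nat) (Ptab_510) (Ptab_s_511_513 c) (Nat.ble 511 c)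
noncomputable def Ptab_s_508_513 (c : Nat) : Nat := @Bool.rec (fun _ => Nat) (Ptab_s_508_510 c) (Ptab_s_510_513 c) (Nat.ble 510 c)
noncomputable def Ptab_s_514_516 (c : Nat) : Nat := @Bool.rec (fun _ => Nat) (Ptab_514) (Ptab_515) (Nat.ble 515 c)
noncomputable def Ptab_s_513_516 (c : Nat) : Nat := @Bool.rec (fun _ => Nat) (Ptab_513) (Ptab_s_514_516 c) (Nat.ble 514 c)
noncomputable def Ptab_s_517_519 (c : Nat) : Nat := @Bool.rec (fun _ => Nat) (Ptab_517) (Ptab_518) (Nat.ble 518 c)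
noncomputable def Ptab_s_516_519 (c : Nat) : Nat := @Bool.rec (fun _ => Nat) (Ptab_516) (Ptab_s_517_519 c) (Nat.ble 517 c)
noncomputable def Ptab_s_513_519 (c : Nat) : Nat := @Bool.rec (fun _ => Nat) (Ptab_s_513_516 c) (Ptab_s_516_519 c) (Nat.ble 516 c)
noncomputable def Ptab_s_508_519 (c : Nat) : Nat := @Bool.rec (fun _ => Nat) (Ptab_s_508_513 c) (Ptab_s_513_519 c) (Nat.ble 513 c)
noncomputable def Ptab_s_520_522 (c : Nat) : Nat := @Bool.rec (fun _ => Nat) (Ptab_520) (Ptab_521) (Nat.ble 521 c)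
noncomputable def Ptab_s_519_522 (c : Nat) : Nat := @Bool.rec (fun _ => Nat) (Ptab_519) (Ptab_s_520_522 c) (Nat.ble 520 c)
noncomputable def Ptab_s_523_525 (c : Nat) : Nat := @Bool.rec (fun _ => Nat) (Ptab_523) (Ptab_524) (Nat.ble 524 c)
noncomputable def Ptab_s_522_525 (c : Nat) : Nat := @Bool.rec (fun _ => Nat) (Ptab_522) (Ptab_s_523_525 c) (Nat.ble 523 c)
noncomputable def Ptab_s_519_525 (c : Nat) : Nat := @Bool.rec (fun _ => Nat) (Ptab_s_519_522 c) (Ptab_s_522_525 c) (Nat.ble 522 c)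
noncomputable def Ptab_s_526_528 (c : Nat) : Nat := @Bool.rec (fun _ => Nat) (Ptab_526) (Ptab_527) (Nat.ble 527 c)
noncomputable def Ptab_s_525_528 (c : Nat) : Nat := @Bool.rec (fun _ => Nat) (Ptab_525) (Ptab_s_526_528 c) (Nat.ble 526 c)
noncomputable def Ptab_s_529_531 (c : Nat) : Nat := @Bool.rec (fun _ => Nat) (Ptab_529) (Ptab_530) (Nat.ble 530 c)
noncomputable def Ptab_s_528_531 (c : Nat) : Nat := @Bool.rec (fun _ => Nat) (Ptab_528) (Ptab_s_529_531 c) (Nat.ble 529 c)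
noncomputable def Ptab_s_525_531 (c : Nat) : Nat := @Bool.rec (fun _ => Nat) (Ptab_s_525_528 c) (Ptab_s_528_531 c) (Nat.ble 528 c)
noncomputable def Ptab_s_519_531 (c : Nat) : Nat := @Bool.rec (fun _ => Nat) (Ptab_s_519_525 c) (Ptab_s_525_531 c) (Nat.ble 525 c)
noncomputable def Ptab_s_508_531 (c : Nat) : Nat := @Bool.rec (fun _ => Nat) (Ptab_s_508_519 c) (Ptab_s_519_531 c) (Nat.ble 519 c)
noncomputable def Ptab_s_532_534 (c : Nat) : Nat := @Bool.rec (fun _ => Nat) (Ptab_532) (Ptab_533) (Nat.ble 533 c)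
noncomputable def Ptab_s_531_534 (c : Nat) : Nat := @Bool.rec (fun _ => Nat) (Ptab_531) (Ptab_s_532_534 c) (Nat.ble 532 c)
noncomputable def Ptab_s_535_537 (c : Nat) : Nat := @Bool.rec (fun _ => Nat) (Ptab_535) (Ptab_536) (Nat.ble 536 c)
noncomputable def Ptab_s_534_537 (c : Nat) : Nat := @Bool.rec (fun _ => Nat) (Ptab_534) (Ptab_s_535_537 c) (Nat.ble 535 c)
noncomputable def Ptab_s_531_537 (c : Nat) : Nat := @Bool.rec (fun _ => Nat) (Ptab_s_531_534 c) (Ptab_s_534_537 c) (Nat.ble 534 c)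
noncomputable def Ptab_s_538_540 (c : Nat) : Nat := @Bool.rec (fun _ => Nat) (Ptab_538) (Ptab_539) (Nat.ble 539 c)
noncomputable def Ptab_s_537_540 (c : Nat) : Nat := @Bool.rec (fun _ => Nat) (Ptab_537) (Ptab_s_538_540 c) (Nat.ble 538 c)
noncomputable def Ptab_s_541_543 (c : Nat) : Nat := @Bool.rec (fun _ => Nat) (Ptab_541) (Ptab_542) (Nat.ble 542 c)
noncomputable def Ptab_s_540_543 (c : Nat) : Nat := @Bool.rec (fun _ => Nat) (Ptab_540) (Ptab_s_541_543 c) (Nat.ble 541 c)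
noncomputable def Ptab_s_537_543 (c : Nat) : Nat := @Bool.rec (fun _ => Nat) (Ptab_s_537_540 c) (Ptab_s_540_543 c) (Nat.ble 540 c)
noncomputable def Ptab_s_531_543 (c : Nat) : Nat := @Bool.rec (fun _ => Nat) (Ptab_s_531_537 c) (Ptab_s_537_543 c) (Nat.ble 537 c)
noncomputable def Ptab_s_544_546 (c : Nat) : Nat := @Bool.rec (fun _ => Nat) (Ptab_544) (Ptab_545) (Nat.ble 545 c)
noncomputable def Ptab_s_543_546 (c : Nat) : Nat := @Bool.rec (fun _ => Nat) (Ptab_543) (Ptab_s_544_546 c) (Nat.ble 544 c)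
noncomputable def Ptab_s_547_549 (c : Nat) : Nat := @Bool.rec (fun _ => Nat) (Ptab_547) (Ptab_548) (Nat.ble 548 c)
noncomputable def Ptab_s_546_549 (c : Nat) : Nat := @Bool.rec (fun _ => Nat) (Ptab_546) (Ptab_s_547_549 c) (Nat.ble 547 c)
noncomputable def Ptab_s_543_549 (c : Nat) : Nat := @Bool.rec (fun _ => Nat) (Ptab_s_543_546 c) (Ptab_s_546_549 c) (Nat.ble 546 c)
noncomputable def Ptab_s_550_552 (c : Nat) : Nat := @Bool.rec (fun _ => Nat) (Ptab_550) (Ptab_551) (Nat.ble 551 c)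
noncomputable def Ptab_s_549_552 (c : Nat) : Nat := @Bool.rec (fun _ => Nat) (Ptab_549) (Ptab_s_550_552 c) (Nat.ble 550 c)
noncomputable def Ptab_s_553_555 (c : Nat) : Nat := @Bool.rec (fun _ => Nat) (Ptab_553) (Ptab_554) (Nat.ble 554 c)
noncomputable def Ptab_s_552_555 (c : Nat) : Nat := @Bool.rec (fun _ => Nat) (Ptab_552) (Ptab_s_553_555 c) (Nat.ble 553 c)
noncomputable def Ptab_s_549_555 (c : Nat) : Nat := @Bool.rec (fun _ => Nat) (Ptab_s_549_552 c) (Ptab_s_552_555 c) (Nat.ble 552 c)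
noncomputable def Ptab_s_543_555 (c : Nat) : Nat := @Bool.rec (fun _ => Nat) (Ptab_s_543_549 c) (Ptab_s_549_555 c) (Nat.ble 549 c)
noncomputable def Ptab_s_531_555 (c : Nat) : Nat := @Bool.rec (fun _ => Nat) (Ptab_s_531_543 c) (Ptab_s_543_555 c) (Nat.ble 543 c)
noncomputable def Ptab_s_508_555 (c : Nat) : Nat := @Bool.rec (fun _ => Nat) (Ptab_s_508_531 c) (Ptab_s_531_555 c) (Nat.ble 531 c)
noncomputable def Ptab_s_462_555 (c : Nat) : Nat := @Bool.rec (fun _ => Nat) (Ptab_s_462_508 c) (Ptab_s_508_555 c) (Nat.ble 508 c)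
noncomputable def Ptab_s_370_555 (c : Nat) : Nat := @Bool.rec (fun _ => Nat) (Ptab_s_370_462 c) (Ptab_s_462_555 c) (Nat.ble 462 c)
noncomputable def Ptab_s_555_557 (c : Nat) : Nat := @Bool.rec (fun _ => Nat) (Ptab_555) (Ptab_556) (Nat.ble 556 c)
noncomputable def Ptab_s_558_560 (c : Nat) : Nat := @Bool.rec (fun _ => Nat) (Ptab_558) (Ptab_559) (Nat.ble 559 c)
noncomputable def Ptab_s_557_560 (c : Nat) : Nat := @Bool.rec (fun _ => Nat) (Ptab_557) (Ptab_s_558_560 c) (Nat.ble 558 c)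
noncomputable def Ptab_s_555_560 (c : Nat) : Nat := @Bool.rec (fun _ => Nat) (Ptab_s_555_557 c) (Ptab_s_557_560 c) (Nat.ble 557 c)
noncomputable def Ptab_s_561_563 (c : Nat) : Nat := @Bool.rec (fun _ => Nat) (Ptab_561) (Ptab_562) (Nat.ble 562 c)
noncomputable def Ptab_s_560_563 (c : Nat) : Nat := @Bool.rec (fun _ => Nat) (Ptab_560) (Ptab_s_561_563 c) (Nat.ble 561 c)
noncomputable def Ptab_s_564_566 (c : Nat) : Nat := @Bool.rec (fun _ => Nat) (Ptab_564) (Ptab_565) (Nat.ble 565 c)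
noncomputable def Ptab_s_563_566 (c : Nat) : Nat := @Bool.rec (fun _ => Nat) (Ptab_563) (Ptab_s_564_566 c) (Nat.ble 564 c)
noncomputable def Ptab_s_560_566 (c : Nat) : Nat := @Bool.rec (fun _ => Nat) (Ptab_s_560_563 c) (Ptab_s_563_566 c) (Nat.ble 563 c)
noncomputable def Ptab_s_555_566 (c : Nat) : Nat := @Bool.rec (fun _ => Nat) (Ptab_s_555_560 c) (Ptab_s_560_566 c) (Nat.ble 560 c)
noncomputable def Ptab_s_567_569 (c : Nat) : Nat := @Bool.rec (fun _ => Nat) (Ptab_567) (Ptab_568) (Nat.ble 568 c)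
noncomputable def Ptab_s_566_569 (c : Nat) : Nat := @Bool.rec (fun _ => Nat) (Ptab_566) (Ptab_s_567_569 c) (Nat.ble 567 c)
noncomputable def Ptab_s_570_572 (c : Nat) : Nat := @Bool.rec (fun _ => Nat) (Ptab_570) (Ptab_571) (Nat.ble 571 c)
noncomputable def Ptab_s_569_572 (c : Nat) : Nat := @Bool.rec (fun _ => Nat) (Ptab_569) (Ptab_s_570_572 c) (Nat.ble 570 c)
noncomputable def Ptab_s_566_572 (c : Nat) : Nat := @Bool.rec (fun _ => Nat) (Ptab_s_566_569 c) (Ptab_s_569_572 c) (Nat.ble 569 c)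
noncomputable def Ptab_s_573_575 (c : Nat) : Nat := @Bool.rec (fun _ => Nat) (Ptab_573) (Ptab_574) (Nat.ble 574 c)
noncomputable def Ptab_s_572_575 (c : Nat) : Nat := @Bool.rec (fun _ => Nat) (Ptab_572) (Ptab_s_573_575 c) (Nat.ble 573 c)
noncomputable def Ptab_s_576_578 (c : Nat) : Nat := @Bool.rec (fun _ => Nat) (Ptab_576) (Ptab_577) (Nat.ble 577 c)
noncomputable def Ptab_s_575_578 (c : Nat) : Nat := @Bool.rec (fun _ => Nat) (Ptab_575) (Ptab_s_576_578 c) (Nat.ble 576 c)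
noncomputable def Ptab_s_572_578 (c : Nat) : Nat := @Bool.rec (fun _ => Nat) (Ptab_s_572_575 c) (Ptab_s_575_578 c) (Nat.ble 575 c)
noncomputable def Ptab_s_566_578 (c : Nat) : Nat := @Bool.rec (fun _ => Nat) (Ptab_s_566_572 c) (Ptab_s_572_578 c) (Nat.ble 572 c)
noncomputable def Ptab_s_555_578 (c : Nat) : Nat := @Bool.rec (fun _ => Nat) (Ptab_s_555_566 c) (Ptab_s_566_578 c) (Nat.ble 566 c)
noncomputable def Ptab_s_578_580 (c : Nat) : Nat := @Bool.rec (fun _ => Nat) (Ptab_578) (Ptab_579) (Nat.ble 579 c)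
noncomputable def Ptab_s_581_583 (c : Nat) : Nat := @Bool.rec (fun _ => Nat) (Ptab_581) (Ptab_582) (Nat.ble 582 c)
noncomputable def Ptab_s_580_583 (c : Nat) : Nat := @Bool.rec (fun _ => Nat) (Ptab_580) (Ptab_s_581_583 c) (Nat.ble 581 c)
noncomputable def Ptab_s_578_583 (c : Nat) : Nat := @Bool.rec (fun _ => Nat) (Ptab_s_578_580 c) (Ptab_s_580_583 c) (Nat.ble 580 c)
noncomputable def Ptab_s_584_586 (c : Nat) : Nat := @Bool.rec (fun _ => Nat) (Ptab_584) (Ptab_585) (Nat.ble 585 c)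
noncomputable def Ptab_s_583_586 (c : Nat) : Nat := @Bool.rec (fun _ => Nat) (Ptab_583) (Ptab_s_584_586 c) (Nat.ble 584 c)
noncomputable def Ptab_s_587_589 (c : Nat) : Nat := @Bool.rec (fun _ => Nat) (Ptab_587) (Ptab_588) (Nat.ble 588 c)
noncomputable def Ptab_s_586_589 (c : Nat) : Nat := @Bool.rec (fun _ => Nat) (Ptab_586) (Ptab_s_587_589 c) (Nat.ble 587 c)
noncomputable def Ptab_s_583_589 (c : Nat) : Nat := @Bool.rec (fun _ => Nat) (Ptab_s_583_586 c) (Ptab_s_586_589 c) (Nat.ble 586 c)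
noncomputable def Ptab_s_578_589 (c : Nat) : Nat := @Bool.rec (fun _ => Nat) (Ptab_s_578_583 c) (Ptab_s_583_589 c) (Nat.ble 583 c)
noncomputable def Ptab_s_590_592 (c : Nat) : Nat := @Bool.rec (fun _ => Nat) (Ptab_590) (Ptab_591) (Nat.ble 591 c)
noncomputable def Ptab_s_589_592 (c : Nat) : Nat := @Bool.rec (fun _ => Nat) (Ptab_589) (Ptab_s_590_592 c) (Nat.ble 590 c)
noncomputable def Ptab_s_593_595 (c : Nat) : Nat := @Bool.rec (fun _ => Nat) (Ptab_593) (Ptab_594) (Nat.ble 594 c)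
noncomputable def Ptab_s_592_595 (c : Nat) : Nat := @Bool.rec (fun _ => Nat) (Ptab_592) (Ptab_s_593_595 c) (Nat.ble 593 c)
noncomputable def Ptab_s_589_595 (c : Nat) : Nat := @Bool.rec (fun _ => Nat) (Ptab_s_589_592 c) (Ptab_s_592_595 c) (Nat.ble 592 c)
noncomputable def Ptab_s_596_598 (c : Nat) : Nat := @Bool.rec (fun _ => Nat) (Ptab_596) (Ptab_597) (Nat.ble 597 c)
noncomputable def Ptab_s_595_598 (c : Nat) : Nat := @Bool.rec (fun _ => Nat) (Ptab_595) (Ptab_s_596_598 c) (Nat.ble 596 c)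
noncomputable def Ptab_s_599_601 (c : Nat) : Nat := @Bool.rec (fun _ => Nat) (Ptab_599) (Ptab_600) (Nat.ble 600 c)
noncomputable def Ptab_s_598_601 (c : Nat) : Nat := @Bool.rec (fun _ => Nat) (Ptab_598) (Ptab_s_599_601 c) (Nat.ble 599 c)
noncomputable def Ptab_s_595_601 (c : Nat) : Nat := @Bool.rec (fun _ => Nat) (Ptab_s_595_598 c) (Ptab_s_598_601 c) (Nat.ble 598 c)
noncomputable def Ptab_s_589_601 (c : Nat) : Nat := @Bool.rec (fun _ => Nat) (Ptab_s_589_595 c) (Ptab_s_595_601 c) (Nat.ble 595 c)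
noncomputable def Ptab_s_578_601 (c : Nat) : Nat := @Bool.rec (fun _ => Nat) (Ptab_s_578_589 c) (Ptab_s_589_601 c) (Nat.ble 589 c)
noncomputable def Ptab_s_555_601 (c : Nat) : Nat := @Bool.rec (fun _ => Nat) (Ptab_s_555_578 c) (Ptab_s_578_601 c) (Nat.ble 578 c)
noncomputable def Ptab_s_601_603 (c : Nat) : Nat := @Bool.rec (fun _ => Nat) (Ptab_601) (Ptab_602) (Nat.ble 602 c)
noncomputable def Ptab_s_604_606 (c : Nat) : Nat := @Bool.rec (fun _ => Nat) (Ptab_604) (Ptab_605) (Nat.ble 605 c)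
noncomputable def Ptab_s_603_606 (c : Nat) : Nat := @Bool.rec (fun _ => Nat) (Ptab_603) (Ptab_s_604_606 c) (Nat.ble 604 c)
noncomputable def Ptab_s_601_606 (c : Nat) : Nat := @Bool.rec (fun _ => Nat) (Ptab_s_601_603 c) (Ptab_s_603_606 c) (Nat.ble 603 c)
noncomputable def Ptab_s_607_609 (c : Nat) : Nat := @Bool.rec (fun _ => Nat) (Ptab_607) (Ptab_608) (Nat.ble 608 c)
noncomputable def Ptab_s_606_609 (c : Nat) : Nat := @Bool.rec (fun _ => Nat) (Ptab_606) (Ptab_s_607_609 c) (Nat.ble 607 c)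
noncomputable def Ptab_s_610_612 (c : Nat) : Nat := @Bool.rec (fun _ => Nat) (Ptab_610) (Ptab_611) (Nat.ble 611 c)
noncomputable def Ptab_s_609_612 (c : Nat) : Nat := @Bool.rec (fun _ => Nat) (Ptab_609) (Ptab_s_610_612 c) (Nat.ble 610 c)
noncomputable def Ptab_s_606_612 (c : Nat) : Nat := @Bool.rec (fun _ => Nat) (Ptab_s_606_609 c) (Ptab_s_609_612 c) (Nat.ble 609 c)
noncomputable def Ptab_s_601_612 (c : Nat) : Nat := @Bool.rec (fun _ => Nat) (Ptab_s_601_606 c) (Ptab_s_606_612 c) (Nat.ble 606 c)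
noncomputable def Ptab_s_613_615 (c : Nat) : Nat := @Bool.rec (fun _ => Nat) (Ptab_613) (Ptab_614) (Nat.ble 614 c)
noncomputable def Ptab_s_612_615 (c : Nat) : Nat := @Bool.rec (fun _ => Nat) (Ptab_612) (Ptab_s_613_615 c) (Nat.ble 613 c)
noncomputable def Ptab_s_616_618 (c : Nat) : Nat := @Bool.rec (fun _ => Nat) (Ptab_616) (Ptab_617) (Nat.ble 617 c)
noncomputable def Ptab_s_615_618 (c : Nat) : Nat := @Bool.rec (fun _ => Nat) (Ptab_615) (Ptab_s_616_618 c) (Nat.ble 616 c)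
noncomputable def Ptab_s_612_618 (c : Nat) : Nat := @Bool.rec (fun _ => Nat) (Ptab_s_612_615 c) (Ptab_s_615_618 c) (Nat.ble 615 c)
noncomputable def Ptab_s_619_621 (c : Nat) : Nat := @Bool.rec (fun _ => Nat) (Ptab_619) (Ptab_620) (Nat.ble 620 c)
noncomputable def Ptab_s_618_621 (c : Nat) : Nat := @Bool.rec (fun _ => Nat) (Ptab_618) (Ptab_s_619_621 c) (Nat.ble 619 c)
noncomputable def Ptab_s_622_624 (c : Nat) : Nat := @Bool.rec (fun _ => Nat) (Ptab_622) (Ptab_623) (Nat.ble 623 c)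
noncomputable def Ptab_s_621_624 (c : Nat) : Nat := @Bool.rec (fun _ => Nat) (Ptab_621) (Ptab_s_622_624 c) (Nat.ble 622 c)
noncomputable def Ptab_s_618_624 (c : Nat) : Nat := @Bool.rec (fun _ => Nat) (Ptab_s_618_621 c) (Ptab_s_621_624 c) (Nat.ble 621 c)
noncomputable def Ptab_s_612_624 (c : Nat) : Nat := @Bool.rec (fun _ => Nat) (Ptab_s_612_618 c) (Ptab_s_618_624 c) (Nat.ble 618 c)
noncomputable def Ptab_s_601_624 (c : Nat) : Nat := @Bool.rec (fun _ => Nat) (Ptab_s_601_612 c) (Ptab_s_612_624 c) (Nat.ble 612 c)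
noncomputable def Ptab_s_624_626 (c : Nat) : Nat := @Bool.rec (fun _ => Nat) (Ptab_624) (Ptab_625) (Nat.ble 625 c)
noncomputable def Ptab_s_627_629 (c : Nat) : Nat := @Bool.rec (fun _ => Nat) (Ptab_627) (Ptab_628) (Nat.ble 628 c)
noncomputable def Ptab_s_626_629 (c : Nat) : Nat := @Bool.rec (fun _ => Nat) (Ptab_626) (Ptab_s_627_629 c) (Nat.ble 627 c)
noncomputable def Ptab_s_624_629 (c : Nat) : Nat := @Bool.rec (fun _ => Nat) (Ptab_s_624_626 c) (Ptab_s_626_629 c) (Nat.ble 626 c)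
noncomputable def Ptab_s_630_632 (c : Nat) : Nat := @Bool.rec (fun _ => Nat) (Ptab_630) (Ptab_631) (Nat.ble 631 c)
noncomputable def Ptab_s_629_632 (c : Nat) : Nat := @Bool.rec (fun _ => Nat) (Ptab_629) (Ptab_s_630_632 c) (Nat.ble 630 c)
noncomputable def Ptab_s_633_635 (c : Nat) : Nat := @Bool.rec (fun _ => Nat) (Ptab_633) (Ptab_634) (Nat.ble 634 c)
noncomputable def Ptab_s_632_635 (c : Nat) : Nat := @Bool.rec (fun _ => Nat) (Ptab_632) (Ptab_s_633_635 c) (Nat.ble 633 c)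
noncomputable def Ptab_s_629_635 (c : Nat) : Nat := @Bool.rec (fun _ => Nat) (Ptab_s_629_632 c) (Ptab_s_632_635 c) (Nat.ble 632 c)
noncomputable def Ptab_s_624_635 (c : Nat) : Nat := @Bool.rec (fun _ => Nat) (Ptab_s_624_629 c) (Ptab_s_629_635 c) (Nat.ble 629 c)
noncomputable def Ptab_s_636_638 (c : Nat) : Nat := @Bool.rec (fun _ => Nat) (Ptab_636) (Ptab_637) (Nat.ble 637 c)
noncomputable def Ptab_s_635_638 (c : Nat) : Nat := @Bool.rec (fun _ => Nat) (Ptab_635) (Ptab_s_636_638 c) (Nat.ble 636 c)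
noncomputable def Ptab_s_639_641 (c : Nat) : Nat := @Bool.rec (fun _ => Nat) (Ptab_639) (Ptab_640) (Nat.ble 640 c)
noncomputable def Ptab_s_638_641 (c : Nat) : Nat := @Bool.rec (fun _ => Nat) (Ptab_638) (Ptab_s_639_641 c) (Nat.ble 639 c)
noncomputable def Ptab_s_635_641 (c : Nat) : Nat := @Bool.rec (fun _ => Nat) (Ptab_s_635_638 c) (Ptab_s_638_641 c) (Nat.ble 638 c)
noncomputable def Ptab_s_642_644 (c : Nat) : Nat := @Bool.rec (fun _ => Nat) (Ptab_642) (Ptab_643) (Nat.ble 643 c)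
noncomputable def Ptab_s_641_644 (c : Nat) : Nat := @Bool.rec (fun _ => Nat) (Ptab_641) (Ptab_s_642_644 c) (Nat.ble 642 c)
noncomputable def Ptab_s_645_647 (c : Nat) : Nat := @Bool.rec (fun _ => Nat) (Ptab_645) (Ptab_646) (Nat.ble 646 c)
noncomputable def Ptab_s_644_647 (c : Nat) : Nat := @Bool.rec (fun _ => Nat) (Ptab_644) (Ptab_s_645_647 c) (Nat.ble 645 c)
noncomputable def Ptab_s_641_647 (c : Nat) : Nat := @Bool.rec (fun _ => Nat) (Ptab_s_641_644 c) (Ptab_s_644_647 c) (Nat.ble 644 c)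
noncomputable def Ptab_s_635_647 (c : Nat) : Nat := @Bool.rec (fun _ => Nat) (Ptab_s_635_641 c) (Ptab_s_641_647 c) (Nat.ble 641 c)
noncomputable def Ptab_s_624_647 (c : Nat) : Nat := @Bool.rec (fun _ => Nat) (Ptab_s_624_635 c) (Ptab_s_635_647 c) (Nat.ble 635 c)
noncomputable def Ptab_s_601_647 (c : Nat) : Nat := @Bool.rec (fun _ => Nat) (Ptab_s_601_624 c) (Ptab_s_624_647 c) (Nat.ble 624 c)
noncomputable def Ptab_s_555_647 (c : Nat) : Nat := @Bool.rec (fun _ => Nat) (Ptab_s_555_601 c) (Ptab_s_601_647 c) (Nat.ble 601 c)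
noncomputable def Ptab_s_647_649 (c : Nat) : Nat := @Bool.rec (fun _ => Nat) (Ptab_647) (Ptab_648) (Nat.ble 648 c)
noncomputable def Ptab_s_650_652 (c : Nat) : Nat := @Bool.rec (fun _ => Nat) (Ptab_650) (Ptab_651) (Nat.ble 651 c)
noncomputable def Ptab_s_649_652 (c : Nat) : Nat := @Bool.rec (fun _ => Nat) (Ptab_649) (Ptab_s_650_652 c) (Nat.ble 650 c)
noncomputable def Ptab_s_647_652 (c : Nat) : Nat := @Bool.rec (fun _ => Nat) (Ptab_s_647_649 c) (Ptab_s_649_652 c) (Nat.ble 649 c)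
noncomputable def Ptab_s_653_655 (c : Nat) : Nat := @Bool.rec (fun _ => Nat) (Ptab_653) (Ptab_654) (Nat.ble 654 c)
noncomputable def Ptab_s_652_655 (c : Nat) : Nat := @Bool.rec (fun _ => Nat) (Ptab_652) (Ptab_s_653_655 c) (Nat.ble 653 c)
noncomputable def Ptab_s_656_658 (c : Nat) : Nat := @Bool.rec (fun _ => Nat) (Ptab_656) (Ptab_657) (Nat.ble 657 c)
noncomputable def Ptab_s_655_658 (c : Nat) : Nat := @Bool.rec (fun _ => Nat) (Ptab_655) (Ptab_s_656_658 c) (Nat.ble 656 c)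
noncomputable def Ptab_s_652_658 (c : Nat) : Nat := @Bool.rec (fun _ => Nat) (Ptab_s_652_655 c) (Ptab_s_655_658 c) (Nat.ble 655 c)
noncomputable def Ptab_s_647_658 (c : Nat) : Nat := @Bool.rec (fun _ => Nat) (Ptab_s_647_652 c) (Ptab_s_652_658 c) (Nat.ble 652 c)
noncomputable def Ptab_s_659_661 (c : Nat) : Nat := @Bool.rec (fun _ => Nat) (Ptab_659) (Ptab_660) (Nat.ble 660 c)
noncomputable def Ptab_s_658_661 (c : Nat) : Nat := @Bool.rec (fun _ => Nat) (Ptab_658) (Ptab_s_659_661 c) (Nat.ble 659 c)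
noncomputable def Ptab_s_662_664 (c : Nat) : Nat := @Bool.rec (fun _ => Nat) (Ptab_662) (Ptab_663) (Nat.ble 663 c)
noncomputable def Ptab_s_661_664 (c : Nat) : Nat := @Bool.rec (fun _ => Nat) (Ptab_661) (Ptab_s_662_664 c) (Nat.ble 662 c)
noncomputable def Ptab_s_658_664 (c : Nat) : Nat := @Bool.rec (fun _ => Nat) (Ptab_s_658_661 c) (Ptab_s_661_664 c) (Nat.ble 661 c)
noncomputable def Ptab_s_665_667 (c : Nat) : Nat := @Bool.rec (fun _ => Nat) (Ptab_665) (Ptab_666) (Nat.ble 666 c)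
noncomputable def Ptab_s_664_667 (c : Nat) : Nat := @Bool.rec (fun _ => Nat) (Ptab_664) (Ptab_s_665_667 c) (Nat.ble 665 c)
noncomputable def Ptab_s_668_670 (c : Nat) : Nat := @Bool.rec (fun _ => Nat) (Ptab_668) (Ptab_669) (Nat.ble 669 c)
noncomputable def Ptab_s_667_670 (c : Nat) : Nat := @Bool.rec (fun _ => Nat) (Ptab_667) (Ptab_s_668_670 c) (Nat.ble 668 c)
noncomputable def Ptab_s_664_670 (c : Nat) : Nat := @Bool.rec (fun _ => Nat) (Ptab_s_664_667 c) (Ptab_s_667_670 c) (Nat.ble 667 c)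
noncomputable def Ptab_s_658_670 (c : Nat) : Nat := @Bool.rec (fun _ => Nat) (Ptab_s_658_664 c) (Ptab_s_664_670 c) (Nat.ble 664 c)
noncomputable def Ptab_s_647_670 (c : Nat) : Nat := @Bool.rec (fun _ => Nat) (Ptab_s_647_658 c) (Ptab_s_658_670 c) (Nat.ble 658 c)
noncomputable def Ptab_s_670_672 (c : Nat) : Nat := @Bool.rec (fun _ => Nat) (Ptab_670) (Ptab_671) (Nat.ble 671 c)
noncomputable def Ptab_s_673_675 (c : Nat) : Nat := @Bool.rec (fun _ => Nat) (Ptab_673) (Ptab_674) (Nat.ble 674 c)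
noncomputable def Ptab_s_672_675 (c : Nat) : Nat := @Bool.rec (fun _ => Nat) (Ptab_672) (Ptab_s_673_675 c) (Nat.ble 673 c)
noncomputable def Ptab_s_670_675 (c : Nat) : Nat := @Bool.rec (fun _ => Nat) (Ptab_s_670_672 c) (Ptab_s_672_675 c) (Nat.ble 672 c)
noncomputable def Ptab_s_676_678 (c : Nat) : Nat := @Bool.rec (fun _ => Nat) (Ptab_676) (Ptab_677) (Nat.ble 677 c)
noncomputable def Ptab_s_675_678 (c : Nat) : Nat := @Bool.rec (fun _ => Nat) (Ptab_675) (Ptab_s_676_678 c) (Nat.ble 676 c)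
noncomputable def Ptab_s_679_681 (c : Nat) : Nat := @Bool.rec (fun _ => Nat) (Ptab_679) (Ptab_680) (Nat.ble 680 c)
noncomputable def Ptab_s_678_681 (c : Nat) : Nat := @Bool.rec (fun _ => Nat) (Ptab_678) (Ptab_s_679_681 c) (Nat.ble 679 c)
noncomputable def Ptab_s_675_681 (c : Nat) : Nat := @Bool.rec (fun _ => Nat) (Ptab_s_675_678 c) (Ptab_s_678_681 c) (Nat.ble 678 c)
noncomputable def Ptab_s_670_681 (c : Nat) : Nat := @Bool.rec (fun _ => Nat) (Ptab_s_670_675 c) (Ptab_s_675_681 c) (Nat.ble 675 c)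
noncomputable def Ptab_s_682_684 (c : Nat) : Nat := @Bool.rec (fun _ => Nat) (Ptab_682) (Ptab_683) (Nat.ble 683 c)
noncomputable def Ptab_s_681_684 (c : Nat) : Nat := @Bool.rec (fun _ => Nat) (Ptab_681) (Ptab_s_682_684 c) (Nat.ble 682 c)
noncomputable def Ptab_s_685_687 (c : Nat) : Nat := @Bool.rec (fun _ => Nat) (Ptab_685) (Ptab_686) (Nat.ble 686 c)
noncomputable def Ptab_s_684_687 (c : Nat) : Nat := @Bool.rec (fun _ => Nat) (Ptab_684) (Ptab_s_685_687 c) (Nat.ble 685 c)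
noncomputable def Ptab_s_681_687 (c : Nat) : Nat := @Bool.rec (fun _ => Nat) (Ptab_s_681_684 c) (Ptab_s_684_687 c) (Nat.ble 684 c)
noncomputable def Ptab_s_688_690 (c : Nat) : Nat := @Bool.rec (fun _ => Nat) (Ptab_688) (Ptab_689) (Nat.ble 689 c)
noncomputable def Ptab_s_687_690 (c : Nat) : Nat := @Bool.rec (fun _ => Nat) (Ptab_687) (Ptab_s_688_690 c) (Nat.ble 688 c)
noncomputable def Ptab_s_691_693 (c : Nat) : Nat := @Bool.rec (fun _ => Nat) (Ptab_691) (Ptab_692) (Nat.ble 692 c)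
noncomputable def Ptab_s_690_693 (c : Nat) : Nat := @Bool.rec (fun _ => Nat) (Ptab_690) (Ptab_s_691_693 c) (Nat.ble 691 c)
noncomputable def Ptab_s_687_693 (c : Nat) : Nat := @Bool.rec (fun _ => Nat) (Ptab_s_687_690 c) (Ptab_s_690_693 c) (Nat.ble 690 c)
noncomputable def Ptab_s_681_693 (c : Nat) : Nat := @Bool.rec (fun _ => Nat) (Ptab_s_681_687 c) (Ptab_s_687_693 c) (Nat.ble 687 c)
noncomputable def Ptab_s_670_693 (c : Nat) : Nat := @Bool.rec (fun _ => Nat) (Ptab_s_670_681 c) (Ptab_s_681_693 c) (Nat.ble 681 c)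
noncomputable def Ptab_s_647_693 (c : Nat) : Nat := @Bool.rec (fun _ => Nat) (Ptab_s_647_670 c) (Ptab_s_670_693 c) (Nat.ble 670 c)
noncomputable def Ptab_s_693_695 (c : Nat) : Nat := @Bool.rec (fun _ => Nat) (Ptab_693) (Ptab_694) (Nat.ble 694 c)
noncomputable def Ptab_s_696_698 (c : Nat) : Nat := @Bool.rec (fun _ => Nat) (Ptab_696) (Ptab_697) (Nat.ble 697 c)
noncomputable def Ptab_s_695_698 (c : Nat) : Nat := @Bool.rec (fun _ => Nat) (Ptab_695) (Ptab_s_696_698 c) (Nat.ble 696 c)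
noncomputable def Ptab_s_693_698 (c : Nat) : Nat := @Bool.rec (fun _ => Nat) (Ptab_s_693_695 c) (Ptab_s_695_698 c) (Nat.ble 695 c)
noncomputable def Ptab_s_699_701 (c : Nat) : Nat := @Bool.rec (fun _ => Nat) (Ptab_699) (Ptab_700) (Nat.ble 700 c)
noncomputable def Ptab_s_698_701 (c : Nat) : Nat := @Bool.rec (fun _ => Nat) (Ptab_698) (Ptab_s_699_701 c) (Nat.ble 699 c)
noncomputable def Ptab_s_702_704 (c : Nat) : Nat := @Bool.rec (fun _ => Nat) (Ptab_702) (Ptab_703) (Nat.ble 703 c)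
noncomputable def Ptab_s_701_704 (c : Nat) : Nat := @Bool.rec (fun _ => Nat) (Ptab_701) (Ptab_s_702_704 c) (Nat.ble 702 c)
noncomputable def Ptab_s_698_704 (c : Nat) : Nat := @Bool.rec (fun _ => Nat) (Ptab_s_698_701 c) (Ptab_s_701_704 c) (Nat.ble 701 c)
noncomputable def Ptab_s_693_704 (c : Nat) : Nat := @Bool.rec (fun _ => Nat) (Ptab_s_693_698 c) (Ptab_s_698_704 c) (Nat.ble 698 c)
noncomputable def Ptab_s_705_707 (c : Nat) : Nat := @Bool.rec (fun _ => Nat) (Ptab_705) (Ptab_706) (Nat.ble 706 c)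
noncomputable def Ptab_s_704_707 (c : Nat) : Nat := @Bool.rec (fun _ => Nat) (Ptab_704) (Ptab_s_705_707 c) (Nat.ble 705 c)
noncomputable def Ptab_s_708_710 (c : Nat) : Nat := @Bool.rec (fun _ => Nat) (Ptab_708) (Ptab_709) (Nat.ble 709 c)
noncomputable def Ptab_s_707_710 (c : Nat) : Nat := @Bool.rec (fun _ => Nat) (Ptab_707) (Ptab_s_708_710 c) (Nat.ble 708 c)
noncomputable def Ptab_s_704_710 (c : Nat) : Nat := @Bool.rec (fun _ => Nat) (Ptab_s_704_707 c) (Ptab_s_707_710 c) (Nat.ble 707 c)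
noncomputable def Ptab_s_711_713 (c : Nat) : Nat := @Bool.rec (fun _ => Nat) (Ptab_711) (Ptab_712) (Nat.ble 712 c)
noncomputable def Ptab_s_710_713 (c : Nat) : Nat := @Bool.rec (fun _ => Nat) (Ptab_710) (Ptab_s_711_713 c) (Nat.ble 711 c)
noncomputable def Ptab_s_714_716 (c : Nat) : Nat := @Bool.rec (fun _ => Nat) (Ptab_714) (Ptab_715) (Nat.ble 715 c)
noncomputable def Ptab_s_713_716 (c : Nat) : Nat := @Bool.rec (fun _ => Nat) (Ptab_713) (Ptab_s_714_716 c) (Nat.ble 714 c)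
noncomputable def Ptab_s_710_716 (c : Nat) : Nat := @Bool.rec (fun _ => Nat) (Ptab_s_710_713 c) (Ptab_s_713_716 c) (Nat.ble 713 c)
noncomputable def Ptab_s_704_716 (c : Nat) : Nat := @Bool.rec (fun _ => Nat) (Ptab_s_704_710 c) (Ptab_s_710_716 c) (Nat.ble 710 c)
noncomputable def Ptab_s_693_716 (c : Nat) : Nat := @Bool.rec (fun _ => Nat) (Ptab_s_693_704 c) (Ptab_s_704_716 c) (Nat.ble 704 c)
noncomputable def Ptab_s_717_719 (c : Nat) : Nat := @Bool.rec (fun _ => Nat) (Ptab_717) (Ptab_718) (Nat.ble 718 c)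
noncomputable def Ptab_s_716_719 (c : Nat) : Nat := @Bool.rec (fun _ => Nat) (Ptab_716) (Ptab_s_717_719 c) (Nat.ble 717 c)
noncomputable def Ptab_s_720_722 (c : Nat) : Nat := @Bool.rec (fun _ => Nat) (Ptab_720) (Ptab_721) (Nat.ble 721 c)
noncomputable def Ptab_s_719_722 (c : Nat) : Nat := @Bool.rec (fun _ => Nat) (Ptab_719) (Ptab_s_720_722 c) (Nat.ble 720 c)
noncomputable def Ptab_s_716_722 (c : Nat) : Nat := @Bool.rec (fun _ => Nat) (Ptab_s_716_719 c) (Ptab_s_719_722 c) (Nat.ble 719 c)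
noncomputable def Ptab_s_723_725 (c : Nat) : Nat := @Bool.rec (fun _ => Nat) (Ptab_723) (Ptab_724) (Nat.ble 724 c)
noncomputable def Ptab_s_722_725 (c : Nat) : Nat := @Bool.rec (fun _ => Nat) (Ptab_722) (Ptab_s_723_725 c) (Nat.ble 723 c)
noncomputable def Ptab_s_726_728 (c : Nat) : Nat := @Bool.rec (fun _ => Nat) (Ptab_726) (Ptab_727) (Nat.ble 727 c)
noncomputable def Ptab_s_725_728 (c : Nat) : Nat := @Bool.rec (fun _ => Nat) (Ptab_725) (Ptab_s_726_728 c) (Nat.ble 726 c)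
noncomputable def Ptab_s_722_728 (c : Nat) : Nat := @Bool.rec (fun _ => Nat) (Ptab_s_722_725 c) (Ptab_s_725_728 c) (Nat.ble 725 c)
noncomputable def Ptab_s_716_728 (c : Nat) : Nat := @Bool.rec (fun _ => Nat) (Ptab_s_716_722 c) (Ptab_s_722_728 c) (Nat.ble 722 c)
noncomputable def Ptab_s_729_731 (c : Nat) : Nat := @Bool.rec (fun _ => Nat) (Ptab_729) (Ptab_730) (Nat.ble 730 c)
noncomputable def Ptab_s_728_731 (c : Nat) : Nat := @Bool.rec (fun _ => Nat) (Ptab_728) (Ptab_s_729_731 c) (Nat.ble 729 c)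
noncomputable def Ptab_s_732_734 (c : Nat) : Nat := @Bool.rec (fun _ => Nat) (Ptab_732) (Ptab_733) (Nat.ble 733 c)
noncomputable def Ptab_s_731_734 (c : Nat) : Nat := @Bool.rec (fun _ => Nat) (Ptab_731) (Ptab_s_732_734 c) (Nat.ble 732 c)
noncomputable def Ptab_s_728_734 (c : Nat) : Nat := @Bool.rec (fun _ => Nat) (Ptab_s_728_731 c) (Ptab_s_731_734 c) (Nat.ble 731 c)
noncomputable def Ptab_s_735_737 (c : Nat) : Nat := @Bool.rec (fun _ => Nat) (Ptab_735) (Ptab_736) (Nat.ble 736 c)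
noncomputable def Ptab_s_734_737 (c : Nat) : Nat := @Bool.rec (fun _ => Nat) (Ptab_734) (Ptab_s_735_737 c) (Nat.ble 735 c)
noncomputable def Ptab_s_738_740 (c : Nat) : Nat := @Bool.rec (fun _ => Nat) (Ptab_738) (Ptab_739) (Nat.ble 739 c)
noncomputable def Ptab_s_737_740 (c : Nat) : Nat := @Bool.rec (fun _ => Nat) (Ptab_737) (Ptab_s_738_740 c) (Nat.ble 738 c)
noncomputable def Ptab_s_734_740 (c : Nat) : Nat := @Bool.rec (fun _ => Nat) (Ptab_s_734_737 c) (Ptab_s_737_740 c) (Nat.ble 737 c)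
noncomputable def Ptab_s_728_740 (c : Nat) : Nat := @Bool.rec (fun _ => Nat) (Ptab_s_728_734 c) (Ptab_s_734_740 c) (Nat.ble 734 c)
noncomputable def Ptab_s_716_740 (c : Nat) : Nat := @Bool.rec (fun _ => Nat) (Ptab_s_716_728 c) (Ptab_s_728_740 c) (Nat.ble 728 c)
noncomputable def Ptab_s_693_740 (c : Nat) : Nat := @Bool.rec (fun _ => Nat) (Ptab_s_693_716 c) (Ptab_s_716_740 c) (Nat.ble 716 c)
noncomputable def Ptab_s_647_740 (c : Nat) : Nat := @Bool.rec (fun _ => Nat) (Ptab_s_647_693 c) (Ptab_s_693_740 c) (Nat.ble 693 c)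
noncomputable def Ptab_s_555_740 (c : Nat) : Nat := @Bool.rec (fun _ => Nat) (Ptab_s_555_647 c) (Ptab_s_647_740 c) (Nat.ble 647 c)
noncomputable def Ptab_s_370_740 (c : Nat) : Nat := @Bool.rec (fun _ => Nat) (Ptab_s_370_555 c) (Ptab_s_555_740 c) (Nat.ble 555 c)
noncomputable def Ptab_s_0_740 (c : Nat) : Nat := @Bool.rec (fun _ => Nat) (Ptab_s_0_370 c) (Ptab_s_370_740 c) (Nat.ble 370 c)
noncomputable def Ptab_s_740_742 (c : Nat) : Nat := @Bool.rec (fun _ => Nat) (Ptab_740) (Ptab_741) (Nat.ble 741 c)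
noncomputable def Ptab_s_743_745 (c : Nat) : Nat := @Bool.rec (fun _ => Nat) (Ptab_743) (Ptab_744) (Nat.ble 744 c)
noncomputable def Ptab_s_742_745 (c : Nat) : Nat := @Bool.rec (fun _ => Nat) (Ptab_742) (Ptab_s_743_745 c) (Nat.ble 743 c)
noncomputable def Ptab_s_740_745 (c : Nat) : Nat := @Bool.rec (fun _ => Nat) (Ptab_s_740_742 c) (Ptab_s_742_745 c) (Nat.ble 742 c)
noncomputable def Ptab_s_746_748 (c : Nat) : Nat := @Bool.rec (fun _ => Nat) (Ptab_746) (Ptab_747) (Nat.ble 747 c)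
noncomputable def Ptab_s_745_748 (c : Nat) : Nat := @Bool.rec (fun _ => Nat) (Ptab_745) (Ptab_s_746_748 c) (Nat.ble 746 c)
noncomputable def Ptab_s_749_751 (c : Nat) : Nat := @Bool.rec (fun _ => Nat) (Ptab_749) (Ptab_750) (Nat.ble 750 c)
noncomputable def Ptab_s_748_751 (c : Nat) : Nat := @Bool.rec (fun _ => Nat) (Ptab_748) (Ptab_s_749_751 c) (Nat.ble 749 c)
noncomputable def Ptab_s_745_751 (c : Nat) : Nat := @Bool.rec (fun _ => Nat) (Ptab_s_745_748 c) (Ptab_s_748_751 c) (Nat.ble 748 c)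
noncomputable def Ptab_s_740_751 (c : Nat) : Nat := @Bool.rec (fun _ => Nat) (Ptab_s_740_745 c) (Ptab_s_745_751 c) (Nat.ble 745 c)
noncomputable def Ptab_s_752_754 (c : Nat) : Nat := @Bool.rec (fun _ => Nat) (Ptab_752) (Ptab_753) (Nat.ble 753 c)
noncomputable def Ptab_s_751_754 (c : Nat) : Nat := @Bool.rec (fun _ => Nat) (Ptab_751) (Ptab_s_752_754 c) (Nat.ble 752 c)
noncomputable def Ptab_s_755_757 (c : Nat) : Nat := @Bool.rec (fun _ => Nat) (Ptab_755) (Ptab_756) (Nat.ble 756 c)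
noncomputable def Ptab_s_754_757 (c : Nat) : Nat := @Bool.rec (fun _ => Nat) (Ptab_754) (Ptab_s_755_757 c) (Nat.ble 755 c)
noncomputable def Ptab_s_751_757 (c : Nat) : Nat := @Bool.rec (fun _ => Nat) (Ptab_s_751_754 c) (Ptab_s_754_757 c) (Nat.ble 754 c)
noncomputable def Ptab_s_758_760 (c : Nat) : Nat := @Bool.rec (fun _ => Nat) (Ptab_758) (Ptab_759) (Nat.ble 759 c)
noncomputable def Ptab_s_757_760 (c : Nat) : Nat := @Bool.rec (fun _ => Nat) (Ptab_757) (Ptab_s_758_760 c) (Nat.ble 758 c)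
noncomputable def Ptab_s_761_763 (c : Nat) : Nat := @Bool.rec (fun _ => Nat) (Ptab_761) (Ptab_762) (Nat.ble 762 c)
noncomputable def Ptab_s_760_763 (c : Nat) : Nat := @Bool.rec (fun _ => Nat) (Ptab_760) (Ptab_s_761_763 c) (Nat.ble 761 c)
noncomputable def Ptab_s_757_763 (c : Nat) : Nat := @Bool.rec (fun _ => Nat) (Ptab_s_757_760 c) (Ptab_s_760_763 c) (Nat.ble 760 c)
noncomputable def Ptab_s_751_763 (c : Nat) : Nat := @Bool.rec (fun _ => Nat) (Ptab_s_751_757 c) (Ptab_s_757_763 c) (Nat.ble 757 c)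
noncomputable def Ptab_s_740_763 (c : Nat) : Nat := @Bool.rec (fun _ => Nat) (Ptab_s_740_751 c) (Ptab_s_751_763 c) (Nat.ble 751 c)
noncomputable def Ptab_s_763_765 (c : Nat) : Nat := @Bool.rec (fun _ => Nat) (Ptab_763) (Ptab_764) (Nat.ble 764 c)
noncomputable def Ptab_s_766_768 (c : Nat) : Nat := @Bool.rec (fun _ => Nat) (Ptab_766) (Ptab_767) (Nat.ble 767 c)
noncomputable def Ptab_s_765_768 (c : Nat) : Nat := @Bool.rec (fun _ => Nat) (Ptab_765) (Ptab_s_766_768 c) (Nat.ble 766 c)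
noncomputable def Ptab_s_763_768 (c : Nat) : Nat := @Bool.rec (fun _ => Nat) (Ptab_s_763_765 c) (Ptab_s_765_768 c) (Nat.ble 765 c)
noncomputable def Ptab_s_769_771 (c : Nat) : Nat := @Bool.rec (fun _ => Nat) (Ptab_769) (Ptab_770) (Nat.ble 770 c)
noncomputable def Ptab_s_768_771 (c : Nat) : Nat := @Bool.rec (fun _ => Nat) (Ptab_768) (Ptab_s_769_771 c) (Nat.ble 769 c)
noncomputable def Ptab_s_772_774 (c : Nat) : Nat := @Bool.rec (fun _ => Nat) (Ptab_772) (Ptab_773) (Nat.ble 773 c)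
noncomputable def Ptab_s_771_774 (c : Nat) : Nat := @Bool.rec (fun _ => Nat) (Ptab_771) (Ptab_s_772_774 c) (Nat.ble 772 c)
noncomputable def Ptab_s_768_774 (c : Nat) : Nat := @Bool.rec (fun _ => Nat) (Ptab_s_768_771 c) (Ptab_s_771_774 c) (Nat.ble 771 c)
noncomputable def Ptab_s_763_774 (c : Nat) : Nat := @Bool.rec (fun _ => Nat) (Ptab_s_763_768 c) (Ptab_s_768_774 c) (Nat.ble 768 c)
noncomputable def Ptab_s_775_777 (c : Nat) : Nat := @Bool.rec (fun _ => Nat) (Ptab_775) (Ptab_776) (Nat.ble 776 c)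
noncomputable def Ptab_s_774_777 (c : Nat) : Nat := @Bool.rec (fun _ => Nat) (Ptab_774) (Ptab_s_775_777 c) (Nat.ble 775 c)
noncomputable def Ptab_s_778_780 (c : Nat) : Nat := @Bool.rec (fun _ => Nat) (Ptab_778) (Ptab_779) (Nat.ble 779 c)
noncomputable def Ptab_s_777_780 (c : Nat) : Nat := @Bool.rec (fun _ => Nat) (Ptab_777) (Ptab_s_778_780 c) (Nat.ble 778 c)
noncomputable def Ptab_s_774_780 (c : Nat) : Nat := @Bool.rec (fun _ => Nat) (Ptab_s_774_777 c) (Ptab_s_777_780 c) (Nat.ble 777 c)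
noncomputable def Ptab_s_781_783 (c : Nat) : Nat := @Bool.rec (fun _ => Nat) (Ptab_781) (Ptab_782) (Nat.ble 782 c)
noncomputable def Ptab_s_780_783 (c : Nat) : Nat := @Bool.rec (fun _ => Nat) (Ptab_780) (Ptab_s_781_783 c) (Nat.ble 781 c)
noncomputable def Ptab_s_784_786 (c : Nat) : Nat := @Bool.rec (fun _ => Nat) (Ptab_784) (Ptab_785) (Nat.ble 785 c)
noncomputable def Ptab_s_783_786 (c : Nat) : Nat := @Bool.rec (fun _ => Nat) (Ptab_783) (Ptab_s_784_786 c) (Nat.ble 784 c)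
noncomputable def Ptab_s_780_786 (c : Nat) : Nat := @Bool.rec (fun _ => Nat) (Ptab_s_780_783 c) (Ptab_s_783_786 c) (Nat.ble 783 c)
noncomputable def Ptab_s_774_786 (c : Nat) : Nat := @Bool.rec (fun _ => Nat) (Ptab_s_774_780 c) (Ptab_s_780_786 c) (Nat.ble 780 c)
noncomputable def Ptab_s_763_786 (c : Nat) : Nat := @Bool.rec (fun _ => Nat) (Ptab_s_763_774 c) (Ptab_s_774_786 c) (Nat.ble 774 c)
noncomputable def Ptab_s_740_786 (c : Nat) : Nat := @Bool.rec (fun _ => Nat) (Ptab_s_740_763 c) (Ptab_s_763_786 c) (Nat.ble 763 c)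
noncomputable def Ptab_s_786_788 (c : Nat) : Nat := @Bool.rec (fun _ => Nat) (Ptab_786) (Ptab_787) (Nat.ble 787 c)
noncomputable def Ptab_s_789_791 (c : Nat) : Nat := @Bool.rec (fun _ => Nat) (Ptab_789) (Ptab_790) (Nat.ble 790 c)
noncomputable def Ptab_s_788_791 (c : Nat) : Nat := @Bool.rec (fun _ => Nat) (Ptab_788) (Ptab_s_789_791 c) (Nat.ble 789 c)
noncomputable def Ptab_s_786_791 (c : Nat) : Nat := @Bool.rec (fun _ => Nat) (Ptab_s_786_788 c) (Ptab_s_788_791 c) (Nat.ble 788 c)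
noncomputable def Ptab_s_792_794 (c : Nat) : Nat := @Bool.rec (fun _ => Nat) (Ptab_792) (Ptab_793) (Nat.ble 793 c)
noncomputable def Ptab_s_791_794 (c : Nat) : Nat := @Bool.rec (fun _ => Nat) (Ptab_791) (Ptab_s_792_794 c) (Nat.ble 792 c)
noncomputable def Ptab_s_795_797 (c : Nat) : Nat := @Bool.rec (fun _ => Nat) (Ptab_795) (Ptab_796) (Nat.ble 796 c)
noncomputable def Ptab_s_794_797 (c : Nat) : Nat := @Bool.rec (fun _ => Nat) (Ptab_794) (Ptab_s_795_797 c) (Nat.ble 795 c)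
noncomputable def Ptab_s_791_797 (c : Nat) : Nat := @Bool.rec (fun _ => Nat) (Ptab_s_791_794 c) (Ptab_s_794_797 c) (Nat.ble 794 c)
noncomputable def Ptab_s_786_797 (c : Nat) : Nat := @Bool.rec (fun _ => Nat) (Ptab_s_786_791 c) (Ptab_s_791_797 c) (Nat.ble 791 c)
noncomputable def Ptab_s_798_800 (c : Nat) : Nat := @Bool.rec (fun _ => Nat) (Ptab_798) (Ptab_799) (Nat.ble 799 c)
noncomputable def Ptab_s_797_800 (c : Nat) : Nat := @Bool.rec (fun _ => Nat) (Ptab_797) (Ptab_s_798_800 c) (Nat.ble 798 c)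
noncomputable def Ptab_s_801_803 (c : Nat) : Nat := @Bool.rec (fun _ => Nat) (Ptab_801) (Ptab_802) (Nat.ble 802 c)
noncomputable def Ptab_s_800_803 (c : Nat) : Nat := @Bool.rec (fun _ => Nat) (Ptab_800) (Ptab_s_801_803 c) (Nat.ble 801 c)
noncomputable def Ptab_s_797_803 (c : Nat) : Nat := @Bool.rec (fun _ => Nat) (Ptab_s_797_800 c) (Ptab_s_800_803 c) (Nat.ble 800 c)
noncomputable def Ptab_s_804_806 (c : Nat) : Nat := @Bool.rec (fun _ => Nat) (Ptab_804) (Ptab_805) (Nat.ble 805 c)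
noncomputable def Ptab_s_803_806 (c : Nat) : Nat := @Bool.rec (fun _ => Nat) (Ptab_803) (Ptab_s_804_806 c) (Nat.ble 804 c)
noncomputable def Ptab_s_807_809 (c : Nat) : Nat := @Bool.rec (fun _ => Nat) (Ptab_807) (Ptab_808) (Nat.ble 808 c)
noncomputable def Ptab_s_806_809 (c : Nat) : Nat := @Bool.rec (fun _ => Nat) (Ptab_806) (Ptab_s_807_809 c) (Nat.ble 807 c)
noncomputable def Ptab_s_803_809 (c : Nat) : Nat := @Bool.rec (fun _ => Nat) (Ptab_s_803_806 c) (Ptab_s_806_809 c) (Nat.ble 806 c)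
noncomputable def Ptab_s_797_809 (c : Nat) : Nat := @Bool.rec (fun _ => Nat) (Ptab_s_797_803 c) (Ptab_s_803_809 c) (Nat.ble 803 c)
noncomputable def Ptab_s_786_809 (c : Nat) : Nat := @Bool.rec (fun _ => Nat) (Ptab_s_786_797 c) (Ptab_s_797_809 c) (Nat.ble 797 c)
noncomputable def Ptab_s_809_811 (c : Nat) : Nat := @Bool.rec (fun _ => Nat) (Ptab_809) (Ptab_810) (Nat.ble 810 c)
noncomputable def Ptab_s_812_814 (c : Nat) : Nat := @Bool.rec (fun _ => Nat) (Ptab_812) (Ptab_813) (Nat.ble 813 c)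
noncomputable def Ptab_s_811_814 (c : Nat) : Nat := @Bool.rec (fun _ => Nat) (Ptab_811) (Ptab_s_812_814 c) (Nat.ble 812 c)
noncomputable def Ptab_s_809_814 (c : Nat) : Nat := @Bool.rec (fun _ => Nat) (Ptab_s_809_811 c) (Ptab_s_811_814 c) (Nat.ble 811 c)
noncomputable def Ptab_s_815_817 (c : Nat) : Nat := @Bool.rec (fun _ => Nat) (Ptab_815) (Ptab_816) (Nat.ble 816 c)
noncomputable def Ptab_s_814_817 (c : Nat) : Nat := @Bool.rec (fun _ => Nat) (Ptab_814) (Ptab_s_815_817 c) (Nat.ble 815 c)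
noncomputable def Ptab_s_818_820 (c : Nat) : Nat := @Bool.rec (fun _ => Nat) (Ptab_818) (Ptab_819) (Nat.ble 819 c)
noncomputable def Ptab_s_817_820 (c : Nat) : Nat := @Bool.rec (fun _ => Nat) (Ptab_817) (Ptab_s_818_820 c) (Nat.ble 818 c)
noncomputable def Ptab_s_814_820 (c : Nat) : Nat := @Bool.rec (fun _ => Nat) (Ptab_s_814_817 c) (Ptab_s_817_820 c) (Nat.ble 817 c)
noncomputable def Ptab_s_809_820 (c : Nat) : Nat := @Bool.rec (fun _ => Nat) (Ptab_s_809_814 c) (Ptab_s_814_820 c) (Nat.ble 814 c)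
noncomputable def Ptab_s_821_823 (c : Nat) : Nat := @Bool.rec (fun _ => Nat) (Ptab_821) (Ptab_822) (Nat.ble 822 c)
noncomputable def Ptab_s_820_823 (c : Nat) : Nat := @Bool.rec (fun _ => Nat) (Ptab_820) (Ptab_s_821_823 c) (Nat.ble 821 c)
noncomputable def Ptab_s_824_826 (c : Nat) : Nat := @Bool.rec (fun _ => Nat) (Ptab_824) (Ptab_825) (Nat.ble 825 c)
noncomputable def Ptab_s_823_826 (c : Nat) : Nat := @Bool.rec (fun _ => Nat) (Ptab_823) (Ptab_s_824_826 c) (Nat.ble 824 c)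
noncomputable def Ptab_s_820_826 (c : Nat) : Nat := @Bool.rec (fun _ => Nat) (Ptab_s_820_823 c) (Ptab_s_823_826 c) (Nat.ble 823 c)
noncomputable def Ptab_s_827_829 (c : Nat) : Nat := @Bool.rec (fun _ => Nat) (Ptab_827) (Ptab_828) (Nat.ble 828 c)
noncomputable def Ptab_s_826_829 (c : Nat) : Nat := @Bool.rec (fun _ => Nat) (Ptab_826) (Ptab_s_827_829 c) (Nat.ble 827 c)
noncomputable def Ptab_s_830_832 (c : Nat) : Nat := @Bool.rec (fun _ => Nat) (Ptab_830) (Ptab_831) (Nat.ble 831 c)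
noncomputable def Ptab_s_829_832 (c : Nat) : Nat := @Bool.rec (fun _ => Nat) (Ptab_829) (Ptab_s_830_832 c) (Nat.ble 830 c)
noncomputable def Ptab_s_826_832 (c : Nat) : Nat := @Bool.rec (fun _ => Nat) (Ptab_s_826_829 c) (Ptab_s_829_832 c) (Nat.ble 829 c)
noncomputable def Ptab_s_820_832 (c : Nat) : Nat := @Bool.rec (fun _ => Nat) (Ptab_s_820_826 c) (Ptab_s_826_832 c) (Nat.ble 826 c)
noncomputable def Ptab_s_809_832 (c : Nat) : Nat := @Bool.rec (fun _ => Nat) (Ptab_s_809_820 c) (Ptab_s_820_832 c) (Nat.ble 820 c)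
noncomputable def Ptab_s_786_832 (c : Nat) : Nat := @Bool.rec (fun _ => Nat) (Ptab_s_786_809 c) (Ptab_s_809_832 c) (Nat.ble 809 c)
noncomputable def Ptab_s_740_832 (c : Nat) : Nat := @Bool.rec (fun _ => Nat) (Ptab_s_740_786 c) (Ptab_s_786_832 c) (Nat.ble 786 c)
noncomputable def Ptab_s_832_834 (c : Nat) : Nat := @Bool.rec (fun _ => Nat) (Ptab_832) (Ptab_833) (Nat.ble 833 c)
noncomputable def Ptab_s_835_837 (c : Nat) : Nat := @Bool.rec (fun _ => Nat) (Ptab_835) (Ptab_836) (Nat.ble 836 c)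
noncomputable def Ptab_s_834_837 (c : Nat) : Nat := @Bool.rec (fun _ => Nat) (Ptab_834) (Ptab_s_835_837 c) (Nat.ble 835 c)
noncomputable def Ptab_s_832_837 (c : Nat) : Nat := @Bool.rec (fun _ => Nat) (Ptab_s_832_834 c) (Ptab_s_834_837 c) (Nat.ble 834 c)
noncomputable def Ptab_s_838_840 (c : Nat) : Nat := @Bool.rec (fun _ => Nat) (Ptab_838) (Ptab_839) (Nat.ble 839 c)
noncomputable def Ptab_s_837_840 (c : Nat) : Nat := @Bool.rec (fun _ => Nat) (Ptab_837) (Ptab_s_838_840 c) (Nat.ble 838 c)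
noncomputable def Ptab_s_841_843 (c : Nat) : Nat := @Bool.rec (fun _ => Nat) (Ptab_841) (Ptab_842) (Nat.ble 842 c)
noncomputable def Ptab_s_840_843 (c : Nat) : Nat := @Bool.rec (fun _ => Nat) (Ptab_840) (Ptab_s_841_843 c) (Nat.ble 841 c)
noncomputable def Ptab_s_837_843 (c : Nat) : Nat := @Bool.rec (fun _ => Nat) (Ptab_s_837_840 c) (Ptab_s_840_843 c) (Nat.ble 840 c)
noncomputable def Ptab_s_832_843 (c : Nat) : Nat := @Bool.rec (fun _ => Nat) (Ptab_s_832_837 c) (Ptab_s_837_843 c) (Nat.ble 837 c)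
noncomputable def Ptab_s_844_846 (c : Nat) : Nat := @Bool.rec (fun _ => Nat) (Ptab_844) (Ptab_845) (Nat.ble 845 c)
noncomputable def Ptab_s_843_846 (c : Nat) : Nat := @Bool.rec (fun _ => Nat) (Ptab_843) (Ptab_s_844_846 c) (Nat.ble 844 c)
noncomputable def Ptab_s_847_849 (c : Nat) : Nat := @Bool.rec (fun _ => Nat) (Ptab_847) (Ptab_848) (Nat.ble 848 c)
noncomputable def Ptab_s_846_849 (c : Nat) : Nat := @Bool.rec (fun _ => Nat) (Ptab_846) (Ptab_s_847_849 c) (Nat.ble 847 c)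
noncomputable def Ptab_s_843_849 (c : Nat) : Nat := @Bool.rec (fun _ => Nat) (Ptab_s_843_846 c) (Ptab_s_846_849 c) (Nat.ble 846 c)
noncomputable def Ptab_s_850_852 (c : Nat) : Nat := @Bool.rec (fun _ => Nat) (Ptab_850) (Ptab_851) (Nat.ble 851 c)
noncomputable def Ptab_s_849_852 (c : Nat) : Nat := @Bool.rec (fun _ => Nat) (Ptab_849) (Ptab_s_850_852 c) (Nat.ble 850 c)
noncomputable def Ptab_s_853_855 (c : Nat) : Nat := @Bool.rec (fun _ => Nat) (Ptab_853) (Ptab_854) (Nat.ble 854 c)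
noncomputable def Ptab_s_852_855 (c : Nat) : Nat := @Bool.rec (fun _ => Nat) (Ptab_852) (Ptab_s_853_855 c) (Nat.ble 853 c)
noncomputable def Ptab_s_849_855 (c : Nat) : Nat := @Bool.rec (fun _ => Nat) (Ptab_s_849_852 c) (Ptab_s_852_855 c) (Nat.ble 852 c)
noncomputable def Ptab_s_843_855 (c : Nat) : Nat := @Bool.rec (fun _ => Nat) (Ptab_s_843_849 c) (Ptab_s_849_855 c) (Nat.ble 849 c)
noncomputable def Ptab_s_832_855 (c : Nat) : Nat := @Bool.rec (fun _ => Nat) (Ptab_s_832_843 c) (Ptab_s_843_855 c) (Nat.ble 843 c)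
noncomputable def Ptab_s_855_857 (c : Nat) : Nat := @Bool.rec (fun _ => Nat) (Ptab_855) (Ptab_856) (Nat.ble 856 c)
noncomputable def Ptab_s_858_860 (c : Nat) : Nat := @Bool.rec (fun _ => Nat) (Ptab_858) (Ptab_859) (Nat.ble 859 c)
noncomputable def Ptab_s_857_860 (c : Nat) : Nat := @Bool.rec (fun _ => Nat) (Ptab_857) (Ptab_s_858_860 c) (Nat.ble 858 c)
noncomputable def Ptab_s_855_860 (c : Nat) : Nat := @Bool.rec (fun _ => Nat) (Ptab_s_855_857 c) (Ptab_s_857_860 c) (Nat.ble 857 c)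
noncomputable def Ptab_s_861_863 (c : Nat) : Nat := @Bool.rec (fun _ => Nat) (Ptab_861) (Ptab_862) (Nat.ble 862 c)
noncomputable def Ptab_s_860_863 (c : Nat) : Nat := @Bool.rec (fun _ => Nat) (Ptab_860) (Ptab_s_861_863 c) (Nat.ble 861 c)
noncomputable def Ptab_s_864_866 (c : Nat) : Nat := @Bool.rec (fun _ => Nat) (Ptab_864) (Ptab_865) (Nat.ble 865 c)
noncomputable def Ptab_s_863_866 (c : Nat) : Nat := @Bool.rec (fun _ => Nat) (Ptab_863) (Ptab_s_864_866 c) (Nat.ble 864 c)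
noncomputable def Ptab_s_860_866 (c : Nat) : Nat := @Bool.rec (fun _ => Nat) (Ptab_s_860_863 c) (Ptab_s_863_866 c) (Nat.ble 863 c)
noncomputable def Ptab_s_855_866 (c : Nat) : Nat := @Bool.rec (fun _ => Nat) (Ptab_s_855_860 c) (Ptab_s_860_866 c) (Nat.ble 860 c)
noncomputable def Ptab_s_867_869 (c : Nat) : Nat := @Bool.rec (fun _ => Nat) (Ptab_867) (Ptab_868) (Nat.ble 868 c)
noncomputable def Ptab_s_866_869 (c : Nat) : Nat := @Bool.rec (fun _ => Nat) (Ptab_866) (Ptab_s_867_869 c) (Nat.ble 867 c)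
noncomputable def Ptab_s_870_872 (c : Nat) : Nat := @Bool.rec (fun _ => Nat) (Ptab_870) (Ptab_871) (Nat.ble 871 c)
noncomputable def Ptab_s_869_872 (c : Nat) : Nat := @Bool.rec (fun _ => Nat) (Ptab_869) (Ptab_s_870_872 c) (Nat.ble 870 c)
noncomputable def Ptab_s_866_872 (c : Nat) : Nat := @Bool.rec (fun _ => Nat) (Ptab_s_866_869 c) (Ptab_s_869_872 c) (Nat.ble 869 c)
noncomputable def Ptab_s_873_875 (c : Nat) : Nat := @Bool.rec (fun _ => Nat) (Ptab_873) (Ptab_874) (Nat.ble 874 c)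
noncomputable def Ptab_s_872_875 (c : Nat) : Nat := @Bool.rec (fun _ => Nat) (Ptab_872) (Ptab_s_873_875 c) (Nat.ble 873 c)
noncomputable def Ptab_s_876_878 (c : Nat) : Nat := @Bool.rec (fun _ => Nat) (Ptab_876) (Ptab_877) (Nat.ble 877 c)
noncomputable def Ptab_s_875_878 (c : Nat) : Nat := @Bool.rec (fun _ => Nat) (Ptab_875) (Ptab_s_876_878 c) (Nat.ble 876 c)
noncomputable def Ptab_s_872_878 (c : Nat) : Nat := @Bool.rec (fun _ => Nat) (Ptab_s_872_875 c) (Ptab_s_875_878 c) (Nat.ble 875 c)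
noncomputable def Ptab_s_866_878 (c : Nat) : Nat := @Bool.rec (fun _ => Nat) (Ptab_s_866_872 c) (Ptab_s_872_878 c) (Nat.ble 872 c)
noncomputable def Ptab_s_855_878 (c : Nat) : Nat := @Bool.rec (fun _ => Nat) (Ptab_s_855_866 c) (Ptab_s_866_878 c) (Nat.ble 866 c)
noncomputable def Ptab_s_832_878 (c : Nat) : Nat := @Bool.rec (fun _ => Nat) (Ptab_s_832_855 c) (Ptab_s_855_878 c) (Nat.ble 855 c)
noncomputable def Ptab_s_878_880 (c : Nat) : Nat := @Bool.rec (fun _ => Nat) (Ptab_878) (Ptab_879) (Nat.ble 879 c)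
noncomputable def Ptab_s_881_883 (c : Nat) : Nat := @Bool.rec (fun _ => Nat) (Ptab_881) (Ptab_882) (Nat.ble 882 c)
noncomputable def Ptab_s_880_883 (c : Nat) : Nat := @Bool.rec (fun _ => Nat) (Ptab_880) (Ptab_s_881_883 c) (Nat.ble 881 c)
noncomputable def Ptab_s_878_883 (c : Nat) : Nat := @Bool.rec (fun _ => Nat) (Ptab_s_878_880 c) (Ptab_s_880_883 c) (Nat.ble 880 c)
noncomputable def Ptab_s_884_886 (c : Nat) : Nat := @Bool.rec (fun _ => Nat) (Ptab_884) (Ptab_885) (Nat.ble 885 c)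
noncomputable def Ptab_s_883_886 (c : Nat) : Nat := @Bool.rec (fun _ => Nat) (Ptab_883) (Ptab_s_884_886 c) (Nat.ble 884 c)
noncomputable def Ptab_s_887_889 (c : Nat) : Nat := @Bool.rec (fun _ => Nat) (Ptab_887) (Ptab_888) (Nat.ble 888 c)
noncomputable def Ptab_s_886_889 (c : Nat) : Nat := @Bool.rec (fun _ => Nat) (Ptab_886) (Ptab_s_887_889 c) (Nat.ble 887 c)
noncomputable def Ptab_s_883_889 (c : Nat) : Nat := @Bool.rec (fun _ => Nat) (Ptab_s_883_886 c) (Ptab_s_886_889 c) (Nat.ble 886 c)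
noncomputable def Ptab_s_878_889 (c : Nat) : Nat := @Bool.rec (fun _ => Nat) (Ptab_s_878_883 c) (Ptab_s_883_889 c) (Nat.ble 883 c)
noncomputable def Ptab_s_890_892 (c : Nat) : Nat := @Bool.rec (fun _ => Nat) (Ptab_890) (Ptab_891) (Nat.ble 891 c)
noncomputable def Ptab_s_889_892 (c : Nat) : Nat := @Bool.rec (fun _ => Nat) (Ptab_889) (Ptab_s_890_892 c) (Nat.ble 890 c)
noncomputable def Ptab_s_893_895 (c : Nat) : Nat := @Bool.rec (fun _ => Nat) (Ptab_893) (Ptab_894) (Nat.ble 894 c)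
noncomputable def Ptab_s_892_895 (c : Nat) : Nat := @Bool.rec (fun _ => Nat) (Ptab_892) (Ptab_s_893_895 c) (Nat.ble 893 c)
noncomputable def Ptab_s_889_895 (c : Nat) : Nat := @Bool.rec (fun _ => Nat) (Ptab_s_889_892 c) (Ptab_s_892_895 c) (Nat.ble 892 c)
noncomputable def Ptab_s_896_898 (c : Nat) : Nat := @Bool.rec (fun _ => Nat) (Ptab_896) (Ptab_897) (Nat.ble 897 c)
noncomputable def Ptab_s_895_898 (c : Nat) : Nat := @Bool.rec (fun _ => Nat) (Ptab_895) (Ptab_s_896_898 c) (Nat.ble 896 c)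
noncomputable def Ptab_s_899_901 (c : Nat) : Nat := @Bool.rec (fun _ => Nat) (Ptab_899) (Ptab_900) (Nat.ble 900 c)
noncomputable def Ptab_s_898_901 (c : Nat) : Nat := @Bool.rec (fun _ => Nat) (Ptab_898) (Ptab_s_899_901 c) (Nat.ble 899 c)
noncomputable def Ptab_s_895_901 (c : Nat) : Nat := @Bool.rec (fun _ => Nat) (Ptab_s_895_898 c) (Ptab_s_898_901 c) (Nat.ble 898 c)
noncomputable def Ptab_s_889_901 (c : Nat) : Nat := @Bool.rec (fun _ => Nat) (Ptab_s_889_895 c) (Ptab_s_895_901 c) (Nat.ble 895 c)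
noncomputable def Ptab_s_878_901 (c : Nat) : Nat := @Bool.rec (fun _ => Nat) (Ptab_s_878_889 c) (Ptab_s_889_901 c) (Nat.ble 889 c)
noncomputable def Ptab_s_902_904 (c : Nat) : Nat := @Bool.rec (fun _ => Nat) (Ptab_902) (Ptab_903) (Nat.ble 903 c)
noncomputable def Ptab_s_901_904 (c : Nat) : Nat := @Bool.rec (fun _ => Nat) (Ptab_901) (Ptab_s_902_904 c) (Nat.ble 902 c)
noncomputable def Ptab_s_905_907 (c : Nat) : Nat := @Bool.rec (fun _ => Nat) (Ptab_905) (Ptab_906) (Nat.ble 906 c)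
noncomputable def Ptab_s_904_907 (c : Nat) : Nat := @Bool.rec (fun _ => Nat) (Ptab_904) (Ptab_s_905_907 c) (Nat.ble 905 c)
noncomputable def Ptab_s_901_907 (c : Nat) : Nat := @Bool.rec (fun _ => Nat) (Ptab_s_901_904 c) (Ptab_s_904_907 c) (Nat.ble 904 c)
noncomputable def Ptab_s_908_910 (c : Nat) : Nat := @Bool.rec (fun _ => Nat) (Ptab_908) (Ptab_909) (Nat.ble 909 c)
noncomputable def Ptab_s_907_910 (c : Nat) : Nat := @Bool.rec (fun _ => Nat) (Ptab_907) (Ptab_s_908_910 c) (Nat.ble 908 c)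
noncomputable def Ptab_s_911_913 (c : Nat) : Nat := @Bool.rec (fun _ => Nat) (Ptab_911) (Ptab_912) (Nat.ble 912 c)
noncomputable def Ptab_s_910_913 (c : Nat) : Nat := @Bool.rec (fun _ => Nat) (Ptab_910) (Ptab_s_911_913 c) (Nat.ble 911 c)
noncomputable def Ptab_s_907_913 (c : Nat) : Nat := @Bool.rec (fun _ => Nat) (Ptab_s_907_910 c) (Ptab_s_910_913 c) (Nat.ble 910 c)
noncomputable def Ptab_s_901_913 (c : Nat) : Nat := @Bool.rec (fun _ => Nat) (Ptab_s_901_907 c) (Ptab_s_907_913 c) (Nat.ble 907 c)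
noncomputable def Ptab_s_914_916 (c : Nat) : Nat := @Bool.rec (fun _ => Nat) (Ptab_914) (Ptab_915) (Nat.ble 915 c)
noncomputable def Ptab_s_913_916 (c : Nat) : Nat := @Bool.rec (fun _ => Nat) (Ptab_913) (Ptab_s_914_916 c) (Nat.ble 914 c)
noncomputable def Ptab_s_917_919 (c : Nat) : Nat := @Bool.rec (fun _ => Nat) (Ptab_917) (Ptab_918) (Nat.ble 918 c)
noncomputable def Ptab_s_916_919 (c : Nat) : Nat := @Bool.rec (fun _ => Nat) (Ptab_916) (Ptab_s_917_919 c) (Nat.ble 917 c)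
noncomputable def Ptab_s_913_919 (c : Nat) : Nat := @Bool.rec (fun _ => Nat) (Ptab_s_913_916 c) (Ptab_s_916_919 c) (Nat.ble 916 c)
noncomputable def Ptab_s_920_922 (c : Nat) : Nat := @Bool.rec (fun _ => Nat) (Ptab_920) (Ptab_921) (Nat.ble 921 c)
noncomputable def Ptab_s_919_922 (c : Nat) : Nat := @Bool.rec (fun _ => Nat) (Ptab_919) (Ptab_s_920_922 c) (Nat.ble 920 c)
noncomputable def Ptab_s_923_925 (c : Nat) : Nat := @Bool.rec (fun _ => Nat) (Ptab_923) (Ptab_924) (Nat.ble 924 c)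
noncomputable def Ptab_s_922_925 (c : Nat) : Nat := @Bool.rec (fun _ => Nat) (Ptab_922) (Ptab_s_923_925 c) (Nat.ble 923 c)
noncomputable def Ptab_s_919_925 (c : Nat) : Nat := @Bool.rec (fun _ => Nat) (Ptab_s_919_922 c) (Ptab_s_922_925 c) (Nat.ble 922 c)
noncomputable def Ptab_s_913_925 (c : Nat) : Nat := @Bool.rec (fun _ => Nat) (Ptab_s_913_919 c) (Ptab_s_919_925 c) (Nat.ble 919 c)
noncomputable def Ptab_s_901_925 (c : Nat) : Nat := @Bool.rec (fun _ => Nat) (Ptab_s_901_913 c) (Ptab_s_913_925 c) (Nat.ble 913 c)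
noncomputable def Ptab_s_878_925 (c : Nat) : Nat := @Bool.rec (fun _ => Nat) (Ptab_s_878_901 c) (Ptab_s_901_925 c) (Nat.ble 901 c)
noncomputable def Ptab_s_832_925 (c : Nat) : Nat := @Bool.rec (fun _ => Nat) (Ptab_s_832_878 c) (Ptab_s_878_925 c) (Nat.ble 878 c)
noncomputable def Ptab_s_740_925 (c : Nat) : Nat := @Bool.rec (fun _ => Nat) (Ptab_s_740_832 c) (Ptab_s_832_925 c) (Nat.ble 832 c)
noncomputable def Ptab_s_925_927 (c : Nat) : Nat := @Bool.rec (fun _ => Nat) (Ptab_925) (Ptab_926) (Nat.ble 926 c)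
noncomputable def Ptab_s_928_930 (c : Nat) : Nat := @Bool.rec (fun _ => Nat) (Ptab_928) (Ptab_929) (Nat.ble 929 c)
noncomputable def Ptab_s_927_930 (c : Nat) : Nat := @Bool.rec (fun _ => Nat) (Ptab_927) (Ptab_s_928_930 c) (Nat.ble 928 c)
noncomputable def Ptab_s_925_930 (c : Nat) : Nat := @Bool.rec (fun _ => Nat) (Ptab_s_925_927 c) (Ptab_s_927_930 c) (Nat.ble 927 c)
noncomputable def Ptab_s_931_933 (c : Nat) : Nat := @Bool.rec (fun _ => Nat) (Ptab_931) (Ptab_932) (Nat.ble 932 c)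
noncomputable def Ptab_s_930_933 (c : Nat) : Nat := @Bool.rec (fun _ => Nat) (Ptab_930) (Ptab_s_931_933 c) (Nat.ble 931 c)
noncomputable def Ptab_s_934_936 (c : Nat) : Nat := @Bool.rec (fun _ => Nat) (Ptab_934) (Ptab_935) (Nat.ble 935 c)
noncomputable def Ptab_s_933_936 (c : Nat) : Nat := @Bool.rec (fun _ => Nat) (Ptab_933) (Ptab_s_934_936 c) (Nat.ble 934 c)
noncomputable def Ptab_s_930_936 (c : Nat) : Nat := @Bool.rec (fun _ => Nat) (Ptab_s_930_933 c) (Ptab_s_933_936 c) (Nat.ble 933 c)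
noncomputable def Ptab_s_925_936 (c : Nat) : Nat := @Bool.rec (fun _ => Nat) (Ptab_s_925_930 c) (Ptab_s_930_936 c) (Nat.ble 930 c)
noncomputable def Ptab_s_937_939 (c : Nat) : Nat := @Bool.rec (fun _ => Nat) (Ptab_937) (Ptab_938) (Nat.ble 938 c)
noncomputable def Ptab_s_936_939 (c : Nat) : Nat := @Bool.rec (fun _ => Nat) (Ptab_936) (Ptab_s_937_939 c) (Nat.ble 937 c)
noncomputable def Ptab_s_940_942 (c : Nat) : Nat := @Bool.rec (fun _ => Nat) (Ptab_940) (Ptab_941) (Nat.ble 941 c)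
noncomputable def Ptab_s_939_942 (c : Nat) : Nat := @Bool.rec (fun _ => Nat) (Ptab_939) (Ptab_s_940_942 c) (Nat.ble 940 c)
noncomputable def Ptab_s_936_942 (c : Nat) : Nat := @Bool.rec (fun _ => Nat) (Ptab_s_936_939 c) (Ptab_s_939_942 c) (Nat.ble 939 c)
noncomputable def Ptab_s_943_945 (c : Nat) : Nat := @Bool.rec (fun _ => Nat) (Ptab_943) (Ptab_944) (Nat.ble 944 c)
noncomputable def Ptab_s_942_945 (c : Nat) : Nat := @Bool.rec (fun _ => Nat) (Ptab_942) (Ptab_s_943_945 c) (Nat.ble 943 c)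
noncomputable def Ptab_s_946_948 (c : Nat) : Nat := @Bool.rec (fun _ => Nat) (Ptab_946) (Ptab_947) (Nat.ble 947 c)
noncomputable def Ptab_s_945_948 (c : Nat) : Nat := @Bool.rec (fun _ => Nat) (Ptab_945) (Ptab_s_946_948 c) (Nat.ble 946 c)
noncomputable def Ptab_s_942_948 (c : Nat) : Nat := @Bool.rec (fun _ => Nat) (Ptab_s_942_945 c) (Ptab_s_945_948 c) (Nat.ble 945 c)
noncomputable def Ptab_s_936_948 (c : Nat) : Nat := @Bool.rec (fun _ => Nat) (Ptab_s_936_942 c) (Ptab_s_942_948 c) (Nat.ble 942 c)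
noncomputable def Ptab_s_925_948 (c : Nat) : Nat := @Bool.rec (fun _ => Nat) (Ptab_s_925_936 c) (Ptab_s_936_948 c) (Nat.ble 936 c)
noncomputable def Ptab_s_948_950 (c : Nat) : Nat := @Bool.rec (fun _ => Nat) (Ptab_948) (Ptab_949) (Nat.ble 949 c)
noncomputable def Ptab_s_951_953 (c : Nat) : Nat := @Bool.rec (fun _ => Nat) (Ptab_951) (Ptab_952) (Nat.ble 952 c)
noncomputable def Ptab_s_950_953 (c : Nat) : Nat := @Bool.rec (fun _ => Nat) (Ptab_950) (Ptab_s_951_953 c) (Nat.ble 951 c)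
noncomputable def Ptab_s_948_953 (c : Nat) : Nat := @Bool.rec (fun _ => Nat) (Ptab_s_948_950 c) (Ptab_s_950_953 c) (Nat.ble 950 c)
noncomputable def Ptab_s_954_956 (c : Nat) : Nat := @Bool.rec (fun _ => Nat) (Ptab_954) (Ptab_955) (Nat.ble 955 c)
noncomputable def Ptab_s_953_956 (c : Nat) : Nat := @Bool.rec (fun _ => Nat) (Ptab_953) (Ptab_s_954_956 c) (Nat.ble 954 c)
noncomputable def Ptab_s_957_959 (c : Nat) : Nat := @Bool.rec (fun _ => Nat) (Ptab_957) (Ptab_958) (Nat.ble 958 c)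
noncomputable def Ptab_s_956_959 (c : Nat) : Nat := @Bool.rec (fun _ => Nat) (Ptab_956) (Ptab_s_957_959 c) (Nat.ble 957 c)
noncomputable def Ptab_s_953_959 (c : Nat) : Nat := @Bool.rec (fun _ => Nat) (Ptab_s_953_956 c) (Ptab_s_956_959 c) (Nat.ble 956 c)
noncomputable def Ptab_s_948_959 (c : Nat) : Nat := @Bool.rec (fun _ => Nat) (Ptab_s_948_953 c) (Ptab_s_953_959 c) (Nat.ble 953 c)
noncomputable def Ptab_s_960_962 (c : Nat) : Nat := @Bool.rec (fun _ => Nat) (Ptab_960) (Ptab_961) (Nat.ble 961 c)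
noncomputable def Ptab_s_959_962 (c : Nat) : Nat := @Bool.rec (fun _ => Nat) (Ptab_959) (Ptab_s_960_962 c) (Nat.ble 960 c)
noncomputable def Ptab_s_963_965 (c : Nat) : Nat := @Bool.rec (fun _ => Nat) (Ptab_963) (Ptab_964) (Nat.ble 964 c)
noncomputable def Ptab_s_962_965 (c : Nat) : Nat := @Bool.rec (fun _ => Nat) (Ptab_962) (Ptab_s_963_965 c) (Nat.ble 963 c)
noncomputable def Ptab_s_959_965 (c : Nat) : Nat := @Bool.rec (fun _ => Nat) (Ptab_s_959_962 c) (Ptab_s_962_965 c) (Nat.ble 962 c)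
noncomputable def Ptab_s_966_968 (c : Nat) : Nat := @Bool.rec (fun _ => Nat) (Ptab_966) (Ptab_967) (Nat.ble 967 c)
noncomputable def Ptab_s_965_968 (c : Nat) : Nat := @Bool.rec (fun _ => Nat) (Ptab_965) (Ptab_s_966_968 c) (Nat.ble 966 c)
noncomputable def Ptab_s_969_971 (c : Nat) : Nat := @Bool.rec (fun _ => Nat) (Ptab_969) (Ptab_970) (Nat.ble 970 c)
noncomputable def Ptab_s_968_971 (c : Nat) : Nat := @Bool.rec (fun _ => Nat) (Ptab_968) (Ptab_s_969_971 c) (Nat.ble 969 c)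
noncomputable def Ptab_s_965_971 (c : Nat) : Nat := @Bool.rec (fun _ => Nat) (Ptab_s_965_968 c) (Ptab_s_968_971 c) (Nat.ble 968 c)
noncomputable def Ptab_s_959_971 (c : Nat) : Nat := @Bool.rec (fun _ => Nat) (Ptab_s_959_965 c) (Ptab_s_965_971 c) (Nat.ble 965 c)
noncomputable def Ptab_s_948_971 (c : Nat) : Nat := @Bool.rec (fun _ => Nat) (Ptab_s_948_959 c) (Ptab_s_959_971 c) (Nat.ble 959 c)
noncomputable def Ptab_s_925_971 (c : Nat) : Nat := @Bool.rec (fun _ => Nat) (Ptab_s_925_948 c) (Ptab_s_948_971 c) (Nat.ble 948 c)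
noncomputable def Ptab_s_971_973 (c : Nat) : Nat := @Bool.rec (fun _ => Nat) (Ptab_971) (Ptab_972) (Nat.ble 972 c)
noncomputable def Ptab_s_974_976 (c : Nat) : Nat := @Bool.rec (fun _ => Nat) (Ptab_974) (Ptab_975) (Nat.ble 975 c)
noncomputable def Ptab_s_973_976 (c : Nat) : Nat := @Bool.rec (fun _ => Nat) (Ptab_973) (Ptab_s_974_976 c) (Nat.ble 974 c)
noncomputable def Ptab_s_971_976 (c : Nat) : Nat := @Bool.rec (fun _ => Nat) (Ptab_s_971_973 c) (Ptab_s_973_976 c) (Nat.ble 973 c)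
noncomputable def Ptab_s_977_979 (c : Nat) : Nat := @Bool.rec (fun _ => Nat) (Ptab_977) (Ptab_978) (Nat.ble 978 c)
noncomputable def Ptab_s_976_979 (c : Nat) : Nat := @Bool.rec (fun _ => Nat) (Ptab_976) (Ptab_s_977_979 c) (Nat.ble 977 c)
noncomputable def Ptab_s_980_982 (c : Nat) : Nat := @Bool.rec (fun _ => Nat) (Ptab_980) (Ptab_981) (Nat.ble 981 c)
noncomputable def Ptab_s_979_982 (c : Nat) : Nat := @Bool.rec (fun _ => Nat) (Ptab_979) (Ptab_s_980_982 c) (Nat.ble 980 c)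
noncomputable def Ptab_s_976_982 (c : Nat) : Nat := @Bool.rec (fun _ => Nat) (Ptab_s_976_979 c) (Ptab_s_979_982 c) (Nat.ble 979 c)
noncomputable def Ptab_s_971_982 (c : Nat) : Nat := @Bool.rec (fun _ => Nat) (Ptab_s_971_976 c) (Ptab_s_976_982 c) (Nat.ble 976 c)
noncomputable def Ptab_s_983_985 (c : Nat) : Nat := @Bool.rec (fun _ => Nat) (Ptab_983) (Ptab_984) (Nat.ble 984 c)
noncomputable def Ptab_s_982_985 (c : Nat) : Nat := @Bool.rec (fun _ => Nat) (Ptab_982) (Ptab_s_983_985 c) (Nat.ble 983 c)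
noncomputable def Ptab_s_986_988 (c : Nat) : Nat := @Bool.rec (fun _ => Nat) (Ptab_986) (Ptab_987) (Nat.ble 987 c)
noncomputable def Ptab_s_985_988 (c : Nat) : Nat := @Bool.rec (fun _ => Nat) (Ptab_985) (Ptab_s_986_988 c) (Nat.ble 986 c)
noncomputable def Ptab_s_982_988 (c : Nat) : Nat := @Bool.rec (fun _ => Nat) (Ptab_s_982_985 c) (Ptab_s_985_988 c) (Nat.ble 985 c)
noncomputable def Ptab_s_989_991 (c : Nat) : Nat := @Bool.rec (fun _ => Nat) (Ptab_989) (Ptab_990) (Nat.ble 990 c)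
noncomputable def Ptab_s_988_991 (c : Nat) : Nat := @Bool.rec (fun _ => Nat) (Ptab_988) (Ptab_s_989_991 c) (Nat.ble 989 c)
noncomputable def Ptab_s_992_994 (c : Nat) : Nat := @Bool.rec (fun _ => Nat) (Ptab_992) (Ptab_993) (Nat.ble 993 c)
noncomputable def Ptab_s_991_994 (c : Nat) : Nat := @Bool.rec (fun _ => Nat) (Ptab_991) (Ptab_s_992_994 c) (Nat.ble 992 c)
noncomputable def Ptab_s_988_994 (c : Nat) : Nat := @Bool.rec (fun _ => Nat) (Ptab_s_988_991 c) (Ptab_s_991_994 c) (Nat.ble 991 c)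
noncomputable def Ptab_s_982_994 (c : Nat) : Nat := @Bool.rec (fun _ => Nat) (Ptab_s_982_988 c) (Ptab_s_988_994 c) (Nat.ble 988 c)
noncomputable def Ptab_s_971_994 (c : Nat) : Nat := @Bool.rec (fun _ => Nat) (Ptab_s_971_982 c) (Ptab_s_982_994 c) (Nat.ble 982 c)
noncomputable def Ptab_s_994_996 (c : Nat) : Nat := @Bool.rec (fun _ => Nat) (Ptab_994) (Ptab_995) (Nat.ble 995 c)
noncomputable def Ptab_s_997_999 (c : Nat) : Nat := @Bool.rec (fun _ => Nat) (Ptab_997) (Ptab_998) (Nat.ble 998 c)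
noncomputable def Ptab_s_996_999 (c : Nat) : Nat := @Bool.rec (fun _ => Nat) (Ptab_996) (Ptab_s_997_999 c) (Nat.ble 997 c)
noncomputable def Ptab_s_994_999 (c : Nat) : Nat := @Bool.rec (fun _ => Nat) (Ptab_s_994_996 c) (Ptab_s_996_999 c) (Nat.ble 996 c)
noncomputable def Ptab_s_1000_1002 (c : Nat) : Nat := @Bool.rec (fun _ => Nat) (Ptab_1000) (Ptab_1001) (Nat.ble 1001 c)
noncomputable def Ptab_s_999_1002 (c : Nat) : Nat := @Bool.rec (fun _ => Nat) (Ptab_999) (Ptab_s_1000_1002 c) (Nat.ble 1000 c)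
noncomputable def Ptab_s_1003_1005 (c : Nat) : Nat := @Bool.rec (fun _ => Nat) (Ptab_1003) (Ptab_1004) (Nat.ble 1004 c)
noncomputable def Ptab_s_1002_1005 (c : Nat) : Nat := @Bool.rec (fun _ => Nat) (Ptab_1002) (Ptab_s_1003_1005 c) (Nat.ble 1003 c)
noncomputable def Ptab_s_999_1005 (c : Nat) : Nat := @Bool.rec (fun _ => Nat) (Ptab_s_999_1002 c) (Ptab_s_1002_1005 c) (Nat.ble 1002 c)
noncomputable def Ptab_s_994_1005 (c : Nat) : Nat := @Bool.rec (fun _ => Nat) (Ptab_s_994_999 c) (Ptab_s_999_1005 c) (Nat.ble 999 c)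
noncomputable def Ptab_s_1006_1008 (c : Nat) : Nat := @Bool.rec (fun _ => Nat) (Ptab_1006) (Ptab_1007) (Nat.ble 1007 c)
noncomputable def Ptab_s_1005_1008 (c : Nat) : Nat := @Bool.rec (fun _ => Nat) (Ptab_1005) (Ptab_s_1006_1008 c) (Nat.ble 1006 c)
noncomputable def Ptab_s_1009_1011 (c : Nat) : Nat := @Bool.rec (fun _ => Nat) (Ptab_1009) (Ptab_1010) (Nat.ble 1010 c)
noncomputable def Ptab_s_1008_1011 (c : Nat) : Nat := @Bool.rec (fun _ => Nat) (Ptab_1008) (Ptab_s_1009_1011 c) (Nat.ble 1009 c)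
noncomputable def Ptab_s_1005_1011 (c : Nat) : Nat := @Bool.rec (fun _ => Nat) (Ptab_s_1005_1008 c) (Ptab_s_1008_1011 c) (Nat.ble 1008 c)
noncomputable def Ptab_s_1012_1014 (c : Nat) : Nat := @Bool.rec (fun _ => Nat) (Ptab_1012) (Ptab_1013) (Nat.ble 1013 c)
noncomputable def Ptab_s_1011_1014 (c : Nat) : Nat := @Bool.rec (fun _ => Nat) (Ptab_1011) (Ptab_s_1012_1014 c) (Nat.ble 1012 c)
noncomputable def Ptab_s_1015_1017 (c : Nat) : Nat := @Bool.rec (fun _ => Nat) (Ptab_1015) (Ptab_1016) (Nat.ble 1016 c)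
noncomputable def Ptab_s_1014_1017 (c : Nat) : Nat := @Bool.rec (fun _ => Nat) (Ptab_1014) (Ptab_s_1015_1017 c) (Nat.ble 1015 c)
noncomputable def Ptab_s_1011_1017 (c : Nat) : Nat := @Bool.rec (fun _ => Nat) (Ptab_s_1011_1014 c) (Ptab_s_1014_1017 c) (Nat.ble 1014 c)
noncomputable def Ptab_s_1005_1017 (c : Nat) : Nat := @Bool.rec (fun _ => Nat) (Ptab_s_1005_1011 c) (Ptab_s_1011_1017 c) (Nat.ble 1011 c)
noncomputable def Ptab_s_994_1017 (c : Nat) : Nat := @Bool.rec (fun _ => Nat) (Ptab_s_994_1005 c) (Ptab_s_1005_1017 c) (Nat.ble 1005 c)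
noncomputable def Ptab_s_971_1017 (c : Nat) : Nat := @Bool.rec (fun _ => Nat) (Ptab_s_971_994 c) (Ptab_s_994_1017 c) (Nat.ble 994 c)
noncomputable def Ptab_s_925_1017 (c : Nat) : Nat := @Bool.rec (fun _ => Nat) (Ptab_s_925_971 c) (Ptab_s_971_1017 c) (Nat.ble 971 c)
noncomputable def Ptab_s_1017_1019 (c : Nat) : Nat := @Bool.rec (fun _ => Nat) (Ptab_1017) (Ptab_1018) (Nat.ble 1018 c)
noncomputable def Ptab_s_1020_1022 (c : Nat) : Nat := @Bool.rec (fun _ => Nat) (Ptab_1020) (Ptab_1021) (Nat.ble 1021 c)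
noncomputable def Ptab_s_1019_1022 (c : Nat) : Nat := @Bool.rec (fun _ => Nat) (Ptab_1019) (Ptab_s_1020_1022 c) (Nat.ble 1020 c)
noncomputable def Ptab_s_1017_1022 (c : Nat) : Nat := @Bool.rec (fun _ => Nat) (Ptab_s_1017_1019 c) (Ptab_s_1019_1022 c) (Nat.ble 1019 c)
noncomputable def Ptab_s_1023_1025 (c : Nat) : Nat := @Bool.rec (fun _ => Nat) (Ptab_1023) (Ptab_1024) (Nat.ble 1024 c)
noncomputable def Ptab_s_1022_1025 (c : Nat) : Nat := @Bool.rec (fun _ => Nat) (Ptab_1022) (Ptab_s_1023_1025 c) (Nat.ble 1023 c)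
noncomputable def Ptab_s_1026_1028 (c : Nat) : Nat := @Bool.rec (fun _ => Nat) (Ptab_1026) (Ptab_1027) (Nat.ble 1027 c)
noncomputable def Ptab_s_1025_1028 (c : Nat) : Nat := @Bool.rec (fun _ => Nat) (Ptab_1025) (Ptab_s_1026_1028 c) (Nat.ble 1026 c)
noncomputable def Ptab_s_1022_1028 (c : Nat) : Nat := @Bool.rec (fun _ => Nat) (Ptab_s_1022_1025 c) (Ptab_s_1025_1028 c) (Nat.ble 1025 c)
noncomputable def Ptab_s_1017_1028 (c : Nat) : Nat := @Bool.rec (fun _ => Nat) (Ptab_s_1017_1022 c) (Ptab_s_1022_1028 c) (Nat.ble 1022 c)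
noncomputable def Ptab_s_1029_1031 (c : Nat) : Nat := @Bool.rec (fun _ => Nat) (Ptab_1029) (Ptab_1030) (Nat.ble 1030 c)
noncomputable def Ptab_s_1028_1031 (c : Nat) : Nat := @Bool.rec (fun _ => Nat) (Ptab_1028) (Ptab_s_1029_1031 c) (Nat.ble 1029 c)
noncomputable def Ptab_s_1032_1034 (c : Nat) : Nat := @Bool.rec (fun _ => Nat) (Ptab_1032) (Ptab_1033) (Nat.ble 1033 c)
noncomputable def Ptab_s_1031_1034 (c : Nat) : Nat := @Bool.rec (fun _ => Nat) (Ptab_1031) (Ptab_s_1032_1034 c) (Nat.ble 1032 c)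
noncomputable def Ptab_s_1028_1034 (c : Nat) : Nat := @Bool.rec (fun _ => Nat) (Ptab_s_1028_1031 c) (Ptab_s_1031_1034 c) (Nat.ble 1031 c)
noncomputable def Ptab_s_1035_1037 (c : Nat) : Nat := @Bool.rec (fun _ => Nat) (Ptab_1035) (Ptab_1036) (Nat.ble 1036 c)
noncomputable def Ptab_s_1034_1037 (c : Nat) : Nat := @Bool.rec (fun _ => Nat) (Ptab_1034) (Ptab_s_1035_1037 c) (Nat.ble 1035 c)
noncomputable def Ptab_s_1038_1040 (c : Nat) : Nat := @Bool.rec (fun _ => Nat) (Ptab_1038) (Ptab_1039) (Nat.ble 1039 c)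
noncomputable def Ptab_s_1037_1040 (c : Nat) : Nat := @Bool.rec (fun _ => Nat) (Ptab_1037) (Ptab_s_1038_1040 c) (Nat.ble 1038 c)
noncomputable def Ptab_s_1034_1040 (c : Nat) : Nat := @Bool.rec (fun _ => Nat) (Ptab_s_1034_1037 c) (Ptab_s_1037_1040 c) (Nat.ble 1037 c)
noncomputable def Ptab_s_1028_1040 (c : Nat) : Nat := @Bool.rec (fun _ => Nat) (Ptab_s_1028_1034 c) (Ptab_s_1034_1040 c) (Nat.ble 1034 c)
noncomputable def Ptab_s_1017_1040 (c : Nat) : Nat := @Bool.rec (fun _ => Nat) (Ptab_s_1017_1028 c) (Ptab_s_1028_1040 c) (Nat.ble 1028 c)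
noncomputable def Ptab_s_1040_1042 (c : Nat) : Nat := @Bool.rec (fun _ => Nat) (Ptab_1040) (Ptab_1041) (Nat.ble 1041 c)
noncomputable def Ptab_s_1043_1045 (c : Nat) : Nat := @Bool.rec (fun _ => Nat) (Ptab_1043) (Ptab_1044) (Nat.ble 1044 c)
noncomputable def Ptab_s_1042_1045 (c : Nat) : Nat := @Bool.rec (fun _ => Nat) (Ptab_1042) (Ptab_s_1043_1045 c) (Nat.ble 1043 c)
noncomputable def Ptab_s_1040_1045 (c : Nat) : Nat := @Bool.rec (fun _ => Nat) (Ptab_s_1040_1042 c) (Ptab_s_1042_1045 c) (Nat.ble 1042 c)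
noncomputable def Ptab_s_1046_1048 (c : Nat) : Nat := @Bool.rec (fun _ => Nat) (Ptab_1046) (Ptab_1047) (Nat.ble 1047 c)
noncomputable def Ptab_s_1045_1048 (c : Nat) : Nat := @Bool.rec (fun _ => Nat) (Ptab_1045) (Ptab_s_1046_1048 c) (Nat.ble 1046 c)
noncomputable def Ptab_s_1049_1051 (c : Nat) : Nat := @Bool.rec (fun _ => Nat) (Ptab_1049) (Ptab_1050) (Nat.ble 1050 c)
noncomputable def Ptab_s_1048_1051 (c : Nat) : Nat := @Bool.rec (fun _ => Nat) (Ptab_1048) (Ptab_s_1049_1051 c) (Nat.ble 1049 c)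
noncomputable def Ptab_s_1045_1051 (c : Nat) : Nat := @Bool.rec (fun _ => Nat) (Ptab_s_1045_1048 c) (Ptab_s_1048_1051 c) (Nat.ble 1048 c)
noncomputable def Ptab_s_1040_1051 (c : Nat) : Nat := @Bool.rec (fun _ => Nat) (Ptab_s_1040_1045 c) (Ptab_s_1045_1051 c) (Nat.ble 1045 c)
noncomputable def Ptab_s_1052_1054 (c : Nat) : Nat := @Bool.rec (fun _ => Nat) (Ptab_1052) (Ptab_1053) (Nat.ble 1053 c)
noncomputable def Ptab_s_1051_1054 (c : Nat) : Nat := @Bool.rec (fun _ => Nat) (Ptab_1051) (Ptab_s_1052_1054 c) (Nat.ble 1052 c)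
noncomputable def Ptab_s_1055_1057 (c : Nat) : Nat := @Bool.rec (fun _ => Nat) (Ptab_1055) (Ptab_1056) (Nat.ble 1056 c)
noncomputable def Ptab_s_1054_1057 (c : Nat) : Nat := @Bool.rec (fun _ => Nat) (Ptab_1054) (Ptab_s_1055_1057 c) (Nat.ble 1055 c)
noncomputable def Ptab_s_1051_1057 (c : Nat) : Nat := @Bool.rec (fun _ => Nat) (Ptab_s_1051_1054 c) (Ptab_s_1054_1057 c) (Nat.ble 1054 c)
noncomputable def Ptab_s_1058_1060 (c : Nat) : Nat := @Bool.rec (fun _ => Nat) (Ptab_1058) (Ptab_1059) (Nat.ble 1059 c)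
noncomputable def Ptab_s_1057_1060 (c : Nat) : Nat := @Bool.rec (fun _ => Nat) (Ptab_1057) (Ptab_s_1058_1060 c) (Nat.ble 1058 c)
noncomputable def Ptab_s_1061_1063 (c : Nat) : Nat := @Bool.rec (fun _ => Nat) (Ptab_1061) (Ptab_1062) (Nat.ble 1062 c)
noncomputable def Ptab_s_1060_1063 (c : Nat) : Nat := @Bool.rec (fun _ => Nat) (Ptab_1060) (Ptab_s_1061_1063 c) (Nat.ble 1061 c)
noncomputable def Ptab_s_1057_1063 (c : Nat) : Nat := @Bool.rec (fun _ => Nat) (Ptab_s_1057_1060 c) (Ptab_s_1060_1063 c) (Nat.ble 1060 c)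
noncomputable def Ptab_s_1051_1063 (c : Nat) : Nat := @Bool.rec (fun _ => Nat) (Ptab_s_1051_1057 c) (Ptab_s_1057_1063 c) (Nat.ble 1057 c)
noncomputable def Ptab_s_1040_1063 (c : Nat) : Nat := @Bool.rec (fun _ => Nat) (Ptab_s_1040_1051 c) (Ptab_s_1051_1063 c) (Nat.ble 1051 c)
noncomputable def Ptab_s_1017_1063 (c : Nat) : Nat := @Bool.rec (fun _ => Nat) (Ptab_s_1017_1040 c) (Ptab_s_1040_1063 c) (Nat.ble 1040 c)
noncomputable def Ptab_s_1063_1065 (c : Nat) : Nat := @Bool.rec (fun _ => Nat) (Ptab_1063) (Ptab_1064) (Nat.ble 1064 c)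
noncomputable def Ptab_s_1066_1068 (c : Nat) : Nat := @Bool.rec (fun _ => Nat) (Ptab_1066) (Ptab_1067) (Nat.ble 1067 c)
noncomputable def Ptab_s_1065_1068 (c : Nat) : Nat := @Bool.rec (fun _ => Nat) (Ptab_1065) (Ptab_s_1066_1068 c) (Nat.ble 1066 c)
noncomputable def Ptab_s_1063_1068 (c : Nat) : Nat := @Bool.rec (fun _ => Nat) (Ptab_s_1063_1065 c) (Ptab_s_1065_1068 c) (Nat.ble 1065 c)
noncomputable def Ptab_s_1069_1071 (c : Nat) : Nat := @Bool.rec (fun _ => Nat) (Ptab_1069) (Ptab_1070) (Nat.ble 1070 c)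
noncomputable def Ptab_s_1068_1071 (c : Nat) : Nat := @Bool.rec (fun _ => Nat) (Ptab_1068) (Ptab_s_1069_1071 c) (Nat.ble 1069 c)
noncomputable def Ptab_s_1072_1074 (c : Nat) : Nat := @Bool.rec (fun _ => Nat) (Ptab_1072) (Ptab_1073) (Nat.ble 1073 c)
noncomputable def Ptab_s_1071_1074 (c : Nat) : Nat := @Bool.rec (fun _ => Nat) (Ptab_1071) (Ptab_s_1072_1074 c) (Nat.ble 1072 c)
noncomputable def Ptab_s_1068_1074 (c : Nat) : Nat := @Bool.rec (fun _ => Nat) (Ptab_s_1068_1071 c) (Ptab_s_1071_1074 c) (Nat.ble 1071 c)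
noncomputable def Ptab_s_1063_1074 (c : Nat) : Nat := @Bool.rec (fun _ => Nat) (Ptab_s_1063_1068 c) (Ptab_s_1068_1074 c) (Nat.ble 1068 c)
noncomputable def Ptab_s_1075_1077 (c : Nat) : Nat := @Bool.rec (fun _ => Nat) (Ptab_1075) (Ptab_1076) (Nat.ble 1076 c)
noncomputable def Ptab_s_1074_1077 (c : Nat) : Nat := @Bool.rec (fun _ => Nat) (Ptab_1074) (Ptab_s_1075_1077 c) (Nat.ble 1075 c)
noncomputable def Ptab_s_1078_1080 (c : Nat) : Nat := @Bool.rec (fun _ => Nat) (Ptab_1078) (Ptab_1079) (Nat.ble 1079 c)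
noncomputable def Ptab_s_1077_1080 (c : Nat) : Nat := @Bool.rec (fun _ => Nat) (Ptab_1077) (Ptab_s_1078_1080 c) (Nat.ble 1078 c)
noncomputable def Ptab_s_1074_1080 (c : Nat) : Nat := @Bool.rec (fun _ => Nat) (Ptab_s_1074_1077 c) (Ptab_s_1077_1080 c) (Nat.ble 1077 c)
noncomputable def Ptab_s_1081_1083 (c : Nat) : Nat := @Bool.rec (fun _ => Nat) (Ptab_1081) (Ptab_1082) (Nat.ble 1082 c)
noncomputable def Ptab_s_1080_1083 (c : Nat) : Nat := @Bool.rec (fun _ => Nat) (Ptab_1080) (Ptab_s_1081_1083 c) (Nat.ble 1081 c)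
noncomputable def Ptab_s_1084_1086 (c : Nat) : Nat := @Bool.rec (fun _ => Nat) (Ptab_1084) (Ptab_1085) (Nat.ble 1085 c)
noncomputable def Ptab_s_1083_1086 (c : Nat) : Nat := @Bool.rec (fun _ => Nat) (Ptab_1083) (Ptab_s_1084_1086 c) (Nat.ble 1084 c)
noncomputable def Ptab_s_1080_1086 (c : Nat) : Nat := @Bool.rec (fun _ => Nat) (Ptab_s_1080_1083 c) (Ptab_s_1083_1086 c) (Nat.ble 1083 c)
noncomputable def Ptab_s_1074_1086 (c : Nat) : Nat := @Bool.rec (fun _ => Nat) (Ptab_s_1074_1080 c) (Ptab_s_1080_1086 c) (Nat.ble 1080 c)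
noncomputable def Ptab_s_1063_1086 (c : Nat) : Nat := @Bool.rec (fun _ => Nat) (Ptab_s_1063_1074 c) (Ptab_s_1074_1086 c) (Nat.ble 1074 c)
noncomputable def Ptab_s_1087_1089 (c : Nat) : Nat := @Bool.rec (fun _ => Nat) (Ptab_1087) (Ptab_1088) (Nat.ble 1088 c)
noncomputable def Ptab_s_1086_1089 (c : Nat) : Nat := @Bool.rec (fun _ => Nat) (Ptab_1086) (Ptab_s_1087_1089 c) (Nat.ble 1087 c)
noncomputable def Ptab_s_1090_1092 (c : Nat) : Nat := @Bool.rec (fun _ => Nat) (Ptab_1090) (Ptab_1091) (Nat.ble 1091 c)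
noncomputable def Ptab_s_1089_1092 (c : Nat) : Nat := @Bool.rec (fun _ => Nat) (Ptab_1089) (Ptab_s_1090_1092 c) (Nat.ble 1090 c)
noncomputable def Ptab_s_1086_1092 (c : Nat) : Nat := @Bool.rec (fun _ => Nat) (Ptab_s_1086_1089 c) (Ptab_s_1089_1092 c) (Nat.ble 1089 c)
noncomputable def Ptab_s_1093_1095 (c : Nat) : Nat := @Bool.rec (fun _ => Nat) (Ptab_1093) (Ptab_1094) (Nat.ble 1094 c)
noncomputable def Ptab_s_1092_1095 (c : Nat) : Nat := @Bool.rec (fun _ => Nat) (Ptab_1092) (Ptab_s_1093_1095 c) (Nat.ble 1093 c)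
noncomputable def Ptab_s_1096_1098 (c : Nat) : Nat := @Bool.rec (fun _ => Nat) (Ptab_1096) (Ptab_1097) (Nat.ble 1097 c)
noncomputable def Ptab_s_1095_1098 (c : Nat) : Nat := @Bool.rec (fun _ => Nat) (Ptab_1095) (Ptab_s_1096_1098 c) (Nat.ble 1096 c)
noncomputable def Ptab_s_1092_1098 (c : Nat) : Nat := @Bool.rec (fun _ => Nat) (Ptab_s_1092_1095 c) (Ptab_s_1095_1098 c) (Nat.ble 1095 c)
noncomputable def Ptab_s_1086_1098 (c : Nat) : Nat := @Bool.rec (fun _ => Nat) (Ptab_s_1086_1092 c) (Ptab_s_1092_1098 c) (Nat.ble 1092 c)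
noncomputable def Ptab_s_1099_1101 (c : Nat) : Nat := @Bool.rec (fun _ => Nat) (Ptab_1099) (Ptab_1100) (Nat.ble 1100 c)
noncomputable def Ptab_s_1098_1101 (c : Nat) : Nat := @Bool.rec (fun _ => Nat) (Ptab_1098) (Ptab_s_1099_1101 c) (Nat.ble 1099 c)
noncomputable def Ptab_s_1102_1104 (c : Nat) : Nat := @Bool.rec (fun _ => Nat) (Ptab_1102) (Ptab_1103) (Nat.ble 1103 c)
noncomputable def Ptab_s_1101_1104 (c : Nat) : Nat := @Bool.rec (fun _ => Nat) (Ptab_1101) (Ptab_s_1102_1104 c) (Nat.ble 1102 c)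
noncomputable def Ptab_s_1098_1104 (c : Nat) : Nat := @Bool.rec (fun _ => Nat) (Ptab_s_1098_1101 c) (Ptab_s_1101_1104 c) (Nat.ble 1101 c)
noncomputable def Ptab_s_1105_1107 (c : Nat) : Nat := @Bool.rec (fun _ => Nat) (Ptab_1105) (Ptab_1106) (Nat.ble 1106 c)
noncomputable def Ptab_s_1104_1107 (c : Nat) : Nat := @Bool.rec (fun _ => Nat) (Ptab_1104) (Ptab_s_1105_1107 c) (Nat.ble 1105 c)
noncomputable def Ptab_s_1108_1110 (c : Nat) : Nat := @Bool.rec (fun _ => Nat) (Ptab_1108) (Ptab_1109) (Nat.ble 1109 c)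
noncomputable def Ptab_s_1107_1110 (c : Nat) : Nat := @Bool.rec (fun _ => Nat) (Ptab_1107) (Ptab_s_1108_1110 c) (Nat.ble 1108 c)
noncomputable def Ptab_s_1104_1110 (c : Nat) : Nat := @Bool.rec (fun _ => Nat) (Ptab_s_1104_1107 c) (Ptab_s_1107_1110 c) (Nat.ble 1107 c)
noncomputable def Ptab_s_1098_1110 (c : Nat) : Nat := @Bool.rec (fun _ => Nat) (Ptab_s_1098_1104 c) (Ptab_s_1104_1110 c) (Nat.ble 1104 c)
noncomputable def Ptab_s_1086_1110 (c : Nat) : Nat := @Bool.rec (fun _ => Nat) (Ptab_s_1086_1098 c) (Ptab_s_1098_1110 c) (Nat.ble 1098 c)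
noncomputable def Ptab_s_1063_1110 (c : Nat) : Nat := @Bool.rec (fun _ => Nat) (Ptab_s_1063_1086 c) (Ptab_s_1086_1110 c) (Nat.ble 1086 c)
noncomputable def Ptab_s_1017_1110 (c : Nat) : Nat := @Bool.rec (fun _ => Nat) (Ptab_s_1017_1063 c) (Ptab_s_1063_1110 c) (Nat.ble 1063 c)
noncomputable def Ptab_s_925_1110 (c : Nat) : Nat := @Bool.rec (fun _ => Nat) (Ptab_s_925_1017 c) (Ptab_s_1017_1110 c) (Nat.ble 1017 c)
noncomputable def Ptab_s_740_1110 (c : Nat) : Nat := @Bool.rec (fun _ => Nat) (Ptab_s_740_925 c) (Ptab_s_925_1110 c) (Nat.ble 925 c)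
noncomputable def Ptab_s_1110_1112 (c : Nat) : Nat := @Bool.rec (fun _ => Nat) (Ptab_1110) (Ptab_1111) (Nat.ble 1111 c)
noncomputable def Ptab_s_1113_1115 (c : Nat) : Nat := @Bool.rec (fun _ => Nat) (Ptab_1113) (Ptab_1114) (Nat.ble 1114 c)
noncomputable def Ptab_s_1112_1115 (c : Nat) : Nat := @Bool.rec (fun _ => Nat) (Ptab_1112) (Ptab_s_1113_1115 c) (Nat.ble 1113 c)
noncomputable def Ptab_s_1110_1115 (c : Nat) : Nat := @Bool.rec (fun _ => Nat) (Ptab_s_1110_1112 c) (Ptab_s_1112_1115 c) (Nat.ble 1112 c)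
noncomputable def Ptab_s_1116_1118 (c : Nat) : Nat := @Bool.rec (fun _ => Nat) (Ptab_1116) (Ptab_1117) (Nat.ble 1117 c)
noncomputable def Ptab_s_1115_1118 (c : Nat) : Nat := @Bool.rec (fun _ => Nat) (Ptab_1115) (Ptab_s_1116_1118 c) (Nat.ble 1116 c)
noncomputable def Ptab_s_1119_1121 (c : Nat) : Nat := @Bool.rec (fun _ => Nat) (Ptab_1119) (Ptab_1120) (Nat.ble 1120 c)
noncomputable def Ptab_s_1118_1121 (c : Nat) : Nat := @Bool.rec (fun _ => Nat) (Ptab_1118) (Ptab_s_1119_1121 c) (Nat.ble 1119 c)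
noncomputable def Ptab_s_1115_1121 (c : Nat) : Nat := @Bool.rec (fun _ => Nat) (Ptab_s_1115_1118 c) (Ptab_s_1118_1121 c) (Nat.ble 1118 c)
noncomputable def Ptab_s_1110_1121 (c : Nat) : Nat := @Bool.rec (fun _ => Nat) (Ptab_s_1110_1115 c) (Ptab_s_1115_1121 c) (Nat.ble 1115 c)
noncomputable def Ptab_s_1122_1124 (c : Nat) : Nat := @Bool.rec (fun _ => Nat) (Ptab_1122) (Ptab_1123) (Nat.ble 1123 c)
noncomputable def Ptab_s_1121_1124 (c : Nat) : Nat := @Bool.rec (fun _ => Nat) (Ptab_1121) (Ptab_s_1122_1124 c) (Nat.ble 1122 c)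
noncomputable def Ptab_s_1125_1127 (c : Nat) : Nat := @Bool.rec (fun _ => Nat) (Ptab_1125) (Ptab_1126) (Nat.ble 1126 c)
noncomputable def Ptab_s_1124_1127 (c : Nat) : Nat := @Bool.rec (fun _ => Nat) (Ptab_1124) (Ptab_s_1125_1127 c) (Nat.ble 1125 c)
noncomputable def Ptab_s_1121_1127 (c : Nat) : Nat := @Bool.rec (fun _ => Nat) (Ptab_s_1121_1124 c) (Ptab_s_1124_1127 c) (Nat.ble 1124 c)
noncomputable def Ptab_s_1128_1130 (c : Nat) : Nat := @Bool.rec (fun _ => Nat) (Ptab_1128) (Ptab_1129) (Nat.ble 1129 c)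
noncomputable def Ptab_s_1127_1130 (c : Nat) : Nat := @Bool.rec (fun _ => Nat) (Ptab_1127) (Ptab_s_1128_1130 c) (Nat.ble 1128 c)
noncomputable def Ptab_s_1131_1133 (c : Nat) : Nat := @Bool.rec (fun _ => Nat) (Ptab_1131) (Ptab_1132) (Nat.ble 1132 c)
noncomputable def Ptab_s_1130_1133 (c : Nat) : Nat := @Bool.rec (fun _ => Nat) (Ptab_1130) (Ptab_s_1131_1133 c) (Nat.ble 1131 c)
noncomputable def Ptab_s_1127_1133 (c : Nat) : Nat := @Bool.rec (fun _ => Nat) (Ptab_s_1127_1130 c) (Ptab_s_1130_1133 c) (Nat.ble 1130 c)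
noncomputable def Ptab_s_1121_1133 (c : Nat) : Nat := @Bool.rec (fun _ => Nat) (Ptab_s_1121_1127 c) (Ptab_s_1127_1133 c) (Nat.ble 1127 c)
noncomputable def Ptab_s_1110_1133 (c : Nat) : Nat := @Bool.rec (fun _ => Nat) (Ptab_s_1110_1121 c) (Ptab_s_1121_1133 c) (Nat.ble 1121 c)
noncomputable def Ptab_s_1133_1135 (c : Nat) : Nat := @Bool.rec (fun _ => Nat) (Ptab_1133) (Ptab_1134) (Nat.ble 1134 c)
noncomputable def Ptab_s_1136_1138 (c : Nat) : Nat := @Bool.rec (fun _ => Nat) (Ptab_1136) (Ptab_1137) (Nat.ble 1137 c)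
noncomputable def Ptab_s_1135_1138 (c : Nat) : Nat := @Bool.rec (fun _ => Nat) (Ptab_1135) (Ptab_s_1136_1138 c) (Nat.ble 1136 c)
noncomputable def Ptab_s_1133_1138 (c : Nat) : Nat := @Bool.rec (fun _ => Nat) (Ptab_s_1133_1135 c) (Ptab_s_1135_1138 c) (Nat.ble 1135 c)
noncomputable def Ptab_s_1139_1141 (c : Nat) : Nat := @Bool.rec (fun _ => Nat) (Ptab_1139) (Ptab_1140) (Nat.ble 1140 c)
noncomputable def Ptab_s_1138_1141 (c : Nat) : Nat := @Bool.rec (fun _ => Nat) (Ptab_1138) (Ptab_s_1139_1141 c) (Nat.ble 1139 c)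
noncomputable def Ptab_s_1142_1144 (c : Nat) : Nat := @Bool.rec (fun _ => Nat) (Ptab_1142) (Ptab_1143) (Nat.ble 1143 c)
noncomputable def Ptab_s_1141_1144 (c : Nat) : Nat := @Bool.rec (fun _ => Nat) (Ptab_1141) (Ptab_s_1142_1144 c) (Nat.ble 1142 c)
noncomputable def Ptab_s_1138_1144 (c : Nat) : Nat := @Bool.rec (fun _ => Nat) (Ptab_s_1138_1141 c) (Ptab_s_1141_1144 c) (Nat.ble 1141 c)
noncomputable def Ptab_s_1133_1144 (c : Nat) : Nat := @Bool.rec (fun _ => Nat) (Ptab_s_1133_1138 c) (Ptab_s_1138_1144 c) (Nat.ble 1138 c)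
noncomputable def Ptab_s_1145_1147 (c : Nat) : Nat := @Bool.rec (fun _ => Nat) (Ptab_1145) (Ptab_1146) (Nat.ble 1146 c)
noncomputable def Ptab_s_1144_1147 (c : Nat) : Nat := @Bool.rec (fun _ => Nat) (Ptab_1144) (Ptab_s_1145_1147 c) (Nat.ble 1145 c)
noncomputable def Ptab_s_1148_1150 (c : Nat) : Nat := @Bool.rec (fun _ => Nat) (Ptab_1148) (Ptab_1149) (Nat.ble 1149 c)
noncomputable def Ptab_s_1147_1150 (c : Nat) : Nat := @Bool.rec (fun _ => Nat) (Ptab_1147) (Ptab_s_1148_1150 c) (Nat.ble 1148 c)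
noncomputable def Ptab_s_1144_1150 (c : Nat) : Nat := @Bool.rec (fun _ => Nat) (Ptab_s_1144_1147 c) (Ptab_s_1147_1150 c) (Nat.ble 1147 c)
noncomputable def Ptab_s_1151_1153 (c : Nat) : Nat := @Bool.rec (fun _ => Nat) (Ptab_1151) (Ptab_1152) (Nat.ble 1152 c)
noncomputable def Ptab_s_1150_1153 (c : Nat) : Nat := @Bool.rec (fun _ => Nat) (Ptab_1150) (Ptab_s_1151_1153 c) (Nat.ble 1151 c)
noncomputable def Ptab_s_1154_1156 (c : Nat) : Nat := @Bool.rec (fun _ => Nat) (Ptab_1154) (Ptab_1155) (Nat.ble 1155 c)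
noncomputable def Ptab_s_1153_1156 (c : Nat) : Nat := @Bool.rec (fun _ => Nat) (Ptab_1153) (Ptab_s_1154_1156 c) (Nat.ble 1154 c)
noncomputable def Ptab_s_1150_1156 (c : Nat) : Nat := @Bool.rec (fun _ => Nat) (Ptab_s_1150_1153 c) (Ptab_s_1153_1156 c) (Nat.ble 1153 c)
noncomputable def Ptab_s_1144_1156 (c : Nat) : Nat := @Bool.rec (fun _ => Nat) (Ptab_s_1144_1150 c) (Ptab_s_1150_1156 c) (Nat.ble 1150 c)
noncomputable def Ptab_s_1133_1156 (c : Nat) : Nat := @Bool.rec (fun _ => Nat) (Ptab_s_1133_1144 c) (Ptab_s_1144_1156 c) (Nat.ble 1144 c)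
noncomputable def Ptab_s_1110_1156 (c : Nat) : Nat := @Bool.rec (fun _ => Nat) (Ptab_s_1110_1133 c) (Ptab_s_1133_1156 c) (Nat.ble 1133 c)
noncomputable def Ptab_s_1156_1158 (c : Nat) : Nat := @Bool.rec (fun _ => Nat) (Ptab_1156) (Ptab_1157) (Nat.ble 1157 c)
noncomputable def Ptab_s_1159_1161 (c : Nat) : Nat := @Bool.rec (fun _ => Nat) (Ptab_1159) (Ptab_1160) (Nat.ble 1160 c)
noncomputable def Ptab_s_1158_1161 (c : Nat) : Nat := @Bool.rec (fun _ => Nat) (Ptab_1158) (Ptab_s_1159_1161 c) (Nat.ble 1159 c)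
noncomputable def Ptab_s_1156_1161 (c : Nat) : Nat := @Bool.rec (fun _ => Nat) (Ptab_s_1156_1158 c) (Ptab_s_1158_1161 c) (Nat.ble 1158 c)
noncomputable def Ptab_s_1162_1164 (c : Nat) : Nat := @Bool.rec (fun _ => Nat) (Ptab_1162) (Ptab_1163) (Nat.ble 1163 c)
noncomputable def Ptab_s_1161_1164 (c : Nat) : Nat := @Bool.rec (fun _ => Nat) (Ptab_1161) (Ptab_s_1162_1164 c) (Nat.ble 1162 c)
noncomputable def Ptab_s_1165_1167 (c : Nat) : Nat := @Bool.rec (fun _ => Nat) (Ptab_1165) (Ptab_1166) (Nat.ble 1166 c)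
noncomputable def Ptab_s_1164_1167 (c : Nat) : Nat := @Bool.rec (fun _ => Nat) (Ptab_1164) (Ptab_s_1165_1167 c) (Nat.ble 1165 c)
noncomputable def Ptab_s_1161_1167 (c : Nat) : Nat := @Bool.rec (fun _ => Nat) (Ptab_s_1161_1164 c) (Ptab_s_1164_1167 c) (Nat.ble 1164 c)
noncomputable def Ptab_s_1156_1167 (c : Nat) : Nat := @Bool.rec (fun _ => Nat) (Ptab_s_1156_1161 c) (Ptab_s_1161_1167 c) (Nat.ble 1161 c)
noncomputable def Ptab_s_1168_1170 (c : Nat) : Nat := @Bool.rec (fun _ => Nat) (Ptab_1168) (Ptab_1169) (Nat.ble 1169 c)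
noncomputable def Ptab_s_1167_1170 (c : Nat) : Nat := @Bool.rec (fun _ => Nat) (Ptab_1167) (Ptab_s_1168_1170 c) (Nat.ble 1168 c)
noncomputable def Ptab_s_1171_1173 (c : Nat) : Nat := @Bool.rec (fun _ => Nat) (Ptab_1171) (Ptab_1172) (Nat.ble 1172 c)
noncomputable def Ptab_s_1170_1173 (c : Nat) : Nat := @Bool.rec (fun _ => Nat) (Ptab_1170) (Ptab_s_1171_1173 c) (Nat.ble 1171 c)
noncomputable def Ptab_s_1167_1173 (c : Nat) : Nat := @Bool.rec (fun _ => Nat) (Ptab_s_1167_1170 c) (Ptab_s_1170_1173 c) (Nat.ble 1170 c)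
noncomputable def Ptab_s_1174_1176 (c : Nat) : Nat := @Bool.rec (fun _ => Nat) (Ptab_1174) (Ptab_1175) (Nat.ble 1175 c)
noncomputable def Ptab_s_1173_1176 (c : Nat) : Nat := @Bool.rec (fun _ => Nat) (Ptab_1173) (Ptab_s_1174_1176 c) (Nat.ble 1174 c)
noncomputable def Ptab_s_1177_1179 (c : Nat) : Nat := @Bool.rec (fun _ => Nat) (Ptab_1177) (Ptab_1178) (Nat.ble 1178 c)
noncomputable def Ptab_s_1176_1179 (c : Nat) : Nat := @Bool.rec (fun _ => Nat) (Ptab_1176) (Ptab_s_1177_1179 c) (Nat.ble 1177 c)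
noncomputable def Ptab_s_1173_1179 (c : Nat) : Nat := @Bool.rec (fun _ => Nat) (Ptab_s_1173_1176 c) (Ptab_s_1176_1179 c) (Nat.ble 1176 c)
noncomputable def Ptab_s_1167_1179 (c : Nat) : Nat := @Bool.rec (fun _ => Nat) (Ptab_s_1167_1173 c) (Ptab_s_1173_1179 c) (Nat.ble 1173 c)
noncomputable def Ptab_s_1156_1179 (c : Nat) : Nat := @Bool.rec (fun _ => Nat) (Ptab_s_1156_1167 c) (Ptab_s_1167_1179 c) (Nat.ble 1167 c)
noncomputable def Ptab_s_1179_1181 (c : Nat) : Nat := @Bool.rec (fun _ => Nat) (Ptab_1179) (Ptab_1180) (Nat.ble 1180 c)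
noncomputable def Ptab_s_1182_1184 (c : Nat) : Nat := @Bool.rec (fun _ => Nat) (Ptab_1182) (Ptab_1183) (Nat.ble 1183 c)
noncomputable def Ptab_s_1181_1184 (c : Nat) : Nat := @Bool.rec (fun _ => Nat) (Ptab_1181) (Ptab_s_1182_1184 c) (Nat.ble 1182 c)
noncomputable def Ptab_s_1179_1184 (c : Nat) : Nat := @Bool.rec (fun _ => Nat) (Ptab_s_1179_1181 c) (Ptab_s_1181_1184 c) (Nat.ble 1181 c)
noncomputable def Ptab_s_1185_1187 (c : Nat) : Nat := @Bool.rec (fun _ => Nat) (Ptab_1185) (Ptab_1186) (Nat.ble 1186 c)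
noncomputable def Ptab_s_1184_1187 (c : Nat) : Nat := @Bool.rec (fun _ => Nat) (Ptab_1184) (Ptab_s_1185_1187 c) (Nat.ble 1185 c)
noncomputable def Ptab_s_1188_1190 (c : Nat) : Nat := @Bool.rec (fun _ => Nat) (Ptab_1188) (Ptab_1189) (Nat.ble 1189 c)
noncomputable def Ptab_s_1187_1190 (c : Nat) : Nat := @Bool.rec (fun _ => Nat) (Ptab_1187) (Ptab_s_1188_1190 c) (Nat.ble 1188 c)
noncomputable def Ptab_s_1184_1190 (c : Nat) : Nat := @Bool.rec (fun _ => Nat) (Ptab_s_1184_1187 c) (Ptab_s_1187_1190 c) (Nat.ble 1187 c)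
noncomputable def Ptab_s_1179_1190 (c : Nat) : Nat := @Bool.rec (fun _ => Nat) (Ptab_s_1179_1184 c) (Ptab_s_1184_1190 c) (Nat.ble 1184 c)
noncomputable def Ptab_s_1191_1193 (c : Nat) : Nat := @Bool.rec (fun _ => Nat) (Ptab_1191) (Ptab_1192) (Nat.ble 1192 c)
noncomputable def Ptab_s_1190_1193 (c : Nat) : Nat := @Bool.rec (fun _ => Nat) (Ptab_1190) (Ptab_s_1191_1193 c) (Nat.ble 1191 c)
noncomputable def Ptab_s_1194_1196 (c : Nat) : Nat := @Bool.rec (fun _ => Nat) (Ptab_1194) (Ptab_1195) (Nat.ble 1195 c)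
noncomputable def Ptab_s_1193_1196 (c : Nat) : Nat := @Bool.rec (fun _ => Nat) (Ptab_1193) (Ptab_s_1194_1196 c) (Nat.ble 1194 c)
noncomputable def Ptab_s_1190_1196 (c : Nat) : Nat := @Bool.rec (fun _ => Nat) (Ptab_s_1190_1193 c) (Ptab_s_1193_1196 c) (Nat.ble 1193 c)
noncomputable def Ptab_s_1197_1199 (c : Nat) : Nat := @Bool.rec (fun _ => Nat) (Ptab_1197) (Ptab_1198) (Nat.ble 1198 c)
noncomputable def Ptab_s_1196_1199 (c : Nat) : Nat := @Bool.rec (fun _ => Nat) (Ptab_1196) (Ptab_s_1197_1199 c) (Nat.ble 1197 c)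
noncomputable def Ptab_s_1200_1202 (c : Nat) : Nat := @Bool.rec (fun _ => Nat) (Ptab_1200) (Ptab_1201) (Nat.ble 1201 c)
noncomputable def Ptab_s_1199_1202 (c : Nat) : Nat := @Bool.rec (fun _ => Nat) (Ptab_1199) (Ptab_s_1200_1202 c) (Nat.ble 1200 c)
noncomputable def Ptab_s_1196_1202 (c : Nat) : Nat := @Bool.rec (fun _ => Nat) (Ptab_s_1196_1199 c) (Ptab_s_1199_1202 c) (Nat.ble 1199 c)
noncomputable def Ptab_s_1190_1202 (c : Nat) : Nat := @Bool.rec (fun _ => Nat) (Ptab_s_1190_1196 c) (Ptab_s_1196_1202 c) (Nat.ble 1196 c)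
noncomputable def Ptab_s_1179_1202 (c : Nat) : Nat := @Bool.rec (fun _ => Nat) (Ptab_s_1179_1190 c) (Ptab_s_1190_1202 c) (Nat.ble 1190 c)
noncomputable def Ptab_s_1156_1202 (c : Nat) : Nat := @Bool.rec (fun _ => Nat) (Ptab_s_1156_1179 c) (Ptab_s_1179_1202 c) (Nat.ble 1179 c)
noncomputable def Ptab_s_1110_1202 (c : Nat) : Nat := @Bool.rec (fun _ => Nat) (Ptab_s_1110_1156 c) (Ptab_s_1156_1202 c) (Nat.ble 1156 c)
noncomputable def Ptab_s_1202_1204 (c : Nat) : Nat := @Bool.rec (fun _ => Nat) (Ptab_1202) (Ptab_1203) (Nat.ble 1203 c)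
noncomputable def Ptab_s_1205_1207 (c : Nat) : Nat := @Bool.rec (fun _ => Nat) (Ptab_1205) (Ptab_1206) (Nat.ble 1206 c)
noncomputable def Ptab_s_1204_1207 (c : Nat) : Nat := @Bool.rec (fun _ => Nat) (Ptab_1204) (Ptab_s_1205_1207 c) (Nat.ble 1205 c)
noncomputable def Ptab_s_1202_1207 (c : Nat) : Nat := @Bool.rec (fun _ => Nat) (Ptab_s_1202_1204 c) (Ptab_s_1204_1207 c) (Nat.ble 1204 c)
noncomputable def Ptab_s_1208_1210 (c : Nat) : Nat := @Bool.rec (fun _ => Nat) (Ptab_1208) (Ptab_1209) (Nat.ble 1209 c)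
noncomputable def Ptab_s_1207_1210 (c : Nat) : Nat := @Bool.rec (fun _ => Nat) (Ptab_1207) (Ptab_s_1208_1210 c) (Nat.ble 1208 c)
noncomputable def Ptab_s_1211_1213 (c : Nat) : Nat := @Bool.rec (fun _ => Nat) (Ptab_1211) (Ptab_1212) (Nat.ble 1212 c)
noncomputable def Ptab_s_1210_1213 (c : Nat) : Nat := @Bool.rec (fun _ => Nat) (Ptab_1210) (Ptab_s_1211_1213 c) (Nat.ble 1211 c)
noncomputable def Ptab_s_1207_1213 (c : Nat) : Nat := @Bool.rec (fun _ => Nat) (Ptab_s_1207_1210 c) (Ptab_s_1210_1213 c) (Nat.ble 1210 c)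
noncomputable def Ptab_s_1202_1213 (c : Nat) : Nat := @Bool.rec (fun _ => Nat) (Ptab_s_1202_1207 c) (Ptab_s_1207_1213 c) (Nat.ble 1207 c)
noncomputable def Ptab_s_1214_1216 (c : Nat) : Nat := @Bool.rec (fun _ => Nat) (Ptab_1214) (Ptab_1215) (Nat.ble 1215 c)
noncomputable def Ptab_s_1213_1216 (c : Nat) : Nat := @Bool.rec (fun _ => Nat) (Ptab_1213) (Ptab_s_1214_1216 c) (Nat.ble 1214 c)
noncomputable def Ptab_s_1217_1219 (c : Nat) : Nat := @Bool.rec (fun _ => Nat) (Ptab_1217) (Ptab_1218) (Nat.ble 1218 c)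
noncomputable def Ptab_s_1216_1219 (c : Nat) : Nat := @Bool.rec (fun _ => Nat) (Ptab_1216) (Ptab_s_1217_1219 c) (Nat.ble 1217 c)
noncomputable def Ptab_s_1213_1219 (c : Nat) : Nat := @Bool.rec (fun _ => Nat) (Ptab_s_1213_1216 c) (Ptab_s_1216_1219 c) (Nat.ble 1216 c)
noncomputable def Ptab_s_1220_1222 (c : Nat) : Nat := @Bool.rec (fun _ => Nat) (Ptab_1220) (Ptab_1221) (Nat.ble 1221 c)
noncomputable def Ptab_s_1219_1222 (c : Nat) : Nat := @Bool.rec (fun _ => Nat) (Ptab_1219) (Ptab_s_1220_1222 c) (Nat.ble 1220 c)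
noncomputable def Ptab_s_1223_1225 (c : Nat) : Nat := @Bool.rec (fun _ => Nat) (Ptab_1223) (Ptab_1224) (Nat.ble 1224 c)
noncomputable def Ptab_s_1222_1225 (c : Nat) : Nat := @Bool.rec (fun _ => Nat) (Ptab_1222) (Ptab_s_1223_1225 c) (Nat.ble 1223 c)
noncomputable def Ptab_s_1219_1225 (c : Nat) : Nat := @Bool.rec (fun _ => Nat) (Ptab_s_1219_1222 c) (Ptab_s_1222_1225 c) (Nat.ble 1222 c)
noncomputable def Ptab_s_1213_1225 (c : Nat) : Nat := @Bool.rec (fun _ => Nat) (Ptab_s_1213_1219 c) (Ptab_s_1219_1225 c) (Nat.ble 1219 c)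
noncomputable def Ptab_s_1202_1225 (c : Nat) : Nat := @Bool.rec (fun _ => Nat) (Ptab_s_1202_1213 c) (Ptab_s_1213_1225 c) (Nat.ble 1213 c)
noncomputable def Ptab_s_1225_1227 (c : Nat) : Nat := @Bool.rec (fun _ => Nat) (Ptab_1225) (Ptab_1226) (Nat.ble 1226 c)
noncomputable def Ptab_s_1228_1230 (c : Nat) : Nat := @Bool.rec (fun _ => Nat) (Ptab_1228) (Ptab_1229) (Nat.ble 1229 c)
noncomputable def Ptab_s_1227_1230 (c : Nat) : Nat := @Bool.rec (fun _ => Nat) (Ptab_1227) (Ptab_s_1228_1230 c) (Nat.ble 1228 c)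
noncomputable def Ptab_s_1225_1230 (c : Nat) : Nat := @Bool.rec (fun _ => Nat) (Ptab_s_1225_1227 c) (Ptab_s_1227_1230 c) (Nat.ble 1227 c)
noncomputable def Ptab_s_1231_1233 (c : Nat) : Nat := @Bool.rec (fun _ => Nat) (Ptab_1231) (Ptab_1232) (Nat.ble 1232 c)
noncomputable def Ptab_s_1230_1233 (c : Nat) : Nat := @Bool.rec (fun _ => Nat) (Ptab_1230) (Ptab_s_1231_1233 c) (Nat.ble 1231 c)
noncomputable def Ptab_s_1234_1236 (c : Nat) : Nat := @Bool.rec (fun _ => Nat) (Ptab_1234) (Ptab_1235) (Nat.ble 1235 c)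
noncomputable def Ptab_s_1233_1236 (c : Nat) : Nat := @Bool.rec (fun _ => Nat) (Ptab_1233) (Ptab_s_1234_1236 c) (Nat.ble 1234 c)
noncomputable def Ptab_s_1230_1236 (c : Nat) : Nat := @Bool.rec (fun _ => Nat) (Ptab_s_1230_1233 c) (Ptab_s_1233_1236 c) (Nat.ble 1233 c)
noncomputable def Ptab_s_1225_1236 (c : Nat) : Nat := @Bool.rec (fun _ => Nat) (Ptab_s_1225_1230 c) (Ptab_s_1230_1236 c) (Nat.ble 1230 c)
noncomputable def Ptab_s_1237_1239 (c : Nat) : Nat := @Bool.rec (fun _ => Nat) (Ptab_1237) (Ptab_1238) (Nat.ble 1238 c)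
noncomputable def Ptab_s_1236_1239 (c : Nat) : Nat := @Bool.rec (fun _ => Nat) (Ptab_1236) (Ptab_s_1237_1239 c) (Nat.ble 1237 c)
noncomputable def Ptab_s_1240_1242 (c : Nat) : Nat := @Bool.rec (fun _ => Nat) (Ptab_1240) (Ptab_1241) (Nat.ble 1241 c)
noncomputable def Ptab_s_1239_1242 (c : Nat) : Nat := @Bool.rec (fun _ => Nat) (Ptab_1239) (Ptab_s_1240_1242 c) (Nat.ble 1240 c)
noncomputable def Ptab_s_1236_1242 (c : Nat) : Nat := @Bool.rec (fun _ => Nat) (Ptab_s_1236_1239 c) (Ptab_s_1239_1242 c) (Nat.ble 1239 c)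
noncomputable def Ptab_s_1243_1245 (c : Nat) : Nat := @Bool.rec (fun _ => Nat) (Ptab_1243) (Ptab_1244) (Nat.ble 1244 c)
noncomputable def Ptab_s_1242_1245 (c : Nat) : Nat := @Bool.rec (fun _ => Nat) (Ptab_1242) (Ptab_s_1243_1245 c) (Nat.ble 1243 c)
noncomputable def Ptab_s_1246_1248 (c : Nat) : Nat := @Bool.rec (fun _ => Nat) (Ptab_1246) (Ptab_1247) (Nat.ble 1247 c)
noncomputable def Ptab_s_1245_1248 (c : Nat) : Nat := @Bool.rec (fun _ => Nat) (Ptab_1245) (Ptab_s_1246_1248 c) (Nat.ble 1246 c)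
noncomputable def Ptab_s_1242_1248 (c : Nat) : Nat := @Bool.rec (fun _ => Nat) (Ptab_s_1242_1245 c) (Ptab_s_1245_1248 c) (Nat.ble 1245 c)
noncomputable def Ptab_s_1236_1248 (c : Nat) : Nat := @Bool.rec (fun _ => Nat) (Ptab_s_1236_1242 c) (Ptab_s_1242_1248 c) (Nat.ble 1242 c)
noncomputable def Ptab_s_1225_1248 (c : Nat) : Nat := @Bool.rec (fun _ => Nat) (Ptab_s_1225_1236 c) (Ptab_s_1236_1248 c) (Nat.ble 1236 c)
noncomputable def Ptab_s_1202_1248 (c : Nat) : Nat := @Bool.rec (fun _ => Nat) (Ptab_s_1202_1225 c) (Ptab_s_1225_1248 c) (Nat.ble 1225 c)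
noncomputable def Ptab_s_1248_1250 (c : Nat) : Nat := @Bool.rec (fun _ => Nat) (Ptab_1248) (Ptab_1249) (Nat.ble 1249 c)
noncomputable def Ptab_s_1251_1253 (c : Nat) : Nat := @Bool.rec (fun _ => Nat) (Ptab_1251) (Ptab_1252) (Nat.ble 1252 c)
noncomputable def Ptab_s_1250_1253 (c : Nat) : Nat := @Bool.rec (fun _ => Nat) (Ptab_1250) (Ptab_s_1251_1253 c) (Nat.ble 1251 c)
noncomputable def Ptab_s_1248_1253 (c : Nat) : Nat := @Bool.rec (fun _ => Nat) (Ptab_s_1248_1250 c) (Ptab_s_1250_1253 c) (Nat.ble 1250 c)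
noncomputable def Ptab_s_1254_1256 (c : Nat) : Nat := @Bool.rec (fun _ => Nat) (Ptab_1254) (Ptab_1255) (Nat.ble 1255 c)
noncomputable def Ptab_s_1253_1256 (c : Nat) : Nat := @Bool.rec (fun _ => Nat) (Ptab_1253) (Ptab_s_1254_1256 c) (Nat.ble 1254 c)
noncomputable def Ptab_s_1257_1259 (c : Nat) : Nat := @Bool.rec (fun _ => Nat) (Ptab_1257) (Ptab_1258) (Nat.ble 1258 c)
noncomputable def Ptab_s_1256_1259 (c : Nat) : Nat := @Bool.rec (fun _ => Nat) (Ptab_1256) (Ptab_s_1257_1259 c) (Nat.ble 1257 c)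
noncomputable def Ptab_s_1253_1259 (c : Nat) : Nat := @Bool.rec (fun _ => Nat) (Ptab_s_1253_1256 c) (Ptab_s_1256_1259 c) (Nat.ble 1256 c)
noncomputable def Ptab_s_1248_1259 (c : Nat) : Nat := @Bool.rec (fun _ => Nat) (Ptab_s_1248_1253 c) (Ptab_s_1253_1259 c) (Nat.ble 1253 c)
noncomputable def Ptab_s_1260_1262 (c : Nat) : Nat := @Bool.rec (fun _ => Nat) (Ptab_1260) (Ptab_1261) (Nat.ble 1261 c)
noncomputable def Ptab_s_1259_1262 (c : Nat) : Nat := @Bool.rec (fun _ => Nat) (Ptab_1259) (Ptab_s_1260_1262 c) (Nat.ble 1260 c)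
noncomputable def Ptab_s_1263_1265 (c : Nat) : Nat := @Bool.rec (fun _ => Nat) (Ptab_1263) (Ptab_1264) (Nat.ble 1264 c)
noncomputable def Ptab_s_1262_1265 (c : Nat) : Nat := @Bool.rec (fun _ => Nat) (Ptab_1262) (Ptab_s_1263_1265 c) (Nat.ble 1263 c)
noncomputable def Ptab_s_1259_1265 (c : Nat) : Nat := @Bool.rec (fun _ => Nat) (Ptab_s_1259_1262 c) (Ptab_s_1262_1265 c) (Nat.ble 1262 c)
noncomputable def Ptab_s_1266_1268 (c : Nat) : Nat := @Bool.rec (fun _ => Nat) (Ptab_1266) (Ptab_1267) (Nat.ble 1267 c)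
noncomputable def Ptab_s_1265_1268 (c : Nat) : Nat := @Bool.rec (fun _ => Nat) (Ptab_1265) (Ptab_s_1266_1268 c) (Nat.ble 1266 c)
noncomputable def Ptab_s_1269_1271 (c : Nat) : Nat := @Bool.rec (fun _ => Nat) (Ptab_1269) (Ptab_1270) (Nat.ble 1270 c)
noncomputable def Ptab_s_1268_1271 (c : Nat) : Nat := @Bool.rec (fun _ => Nat) (Ptab_1268) (Ptab_s_1269_1271 c) (Nat.ble 1269 c)
noncomputable def Ptab_s_1265_1271 (c : Nat) : Nat := @Bool.rec (fun _ => Nat) (Ptab_s_1265_1268 c) (Ptab_s_1268_1271 c) (Nat.ble 1268 c)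
noncomputable def Ptab_s_1259_1271 (c : Nat) : Nat := @Bool.rec (fun _ => Nat) (Ptab_s_1259_1265 c) (Ptab_s_1265_1271 c) (Nat.ble 1265 c)
noncomputable def Ptab_s_1248_1271 (c : Nat) : Nat := @Bool.rec (fun _ => Nat) (Ptab_s_1248_1259 c) (Ptab_s_1259_1271 c) (Nat.ble 1259 c)
noncomputable def Ptab_s_1272_1274 (c : Nat) : Nat := @Bool.rec (fun _ => Nat) (Ptab_1272) (Ptab_1273) (Nat.ble 1273 c)
noncomputable def Ptab_s_1271_1274 (c : Nat) : Nat := @Bool.rec (fun _ => Nat) (Ptab_1271) (Ptab_s_1272_1274 c) (Nat.ble 1272 c)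
noncomputable def Ptab_s_1275_1277 (c : Nat) : Nat := @Bool.rec (fun _ => Nat) (Ptab_1275) (Ptab_1276) (Nat.ble 1276 c)
noncomputable def Ptab_s_1274_1277 (c : Nat) : Nat := @Bool.rec (fun _ => Nat) (Ptab_1274) (Ptab_s_1275_1277 c) (Nat.ble 1275 c)
noncomputable def Ptab_s_1271_1277 (c : Nat) : Nat := @Bool.rec (fun _ => Nat) (Ptab_s_1271_1274 c) (Ptab_s_1274_1277 c) (Nat.ble 1274 c)
noncomputable def Ptab_s_1278_1280 (c : Nat) : Nat := @Bool.rec (fun _ => Nat) (Ptab_1278) (Ptab_1279) (Nat.ble 1279 c)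
noncomputable def Ptab_s_1277_1280 (c : Nat) : Nat := @Bool.rec (fun _ => Nat) (Ptab_1277) (Ptab_s_1278_1280 c) (Nat.ble 1278 c)
noncomputable def Ptab_s_1281_1283 (c : Nat) : Nat := @Bool.rec (fun _ => Nat) (Ptab_1281) (Ptab_1282) (Nat.ble 1282 c)
noncomputable def Ptab_s_1280_1283 (c : Nat) : Nat := @Bool.rec (fun _ => Nat) (Ptab_1280) (Ptab_s_1281_1283 c) (Nat.ble 1281 c)
noncomputable def Ptab_s_1277_1283 (c : Nat) : Nat := @Bool.rec (fun _ => Nat) (Ptab_s_1277_1280 c) (Ptab_s_1280_1283 c) (Nat.ble 1280 c)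
noncomputable def Ptab_s_1271_1283 (c : Nat) : Nat := @Bool.rec (fun _ => Nat) (Ptab_s_1271_1277 c) (Ptab_s_1277_1283 c) (Nat.ble 1277 c)
noncomputable def Ptab_s_1284_1286 (c : Nat) : Nat := @Bool.rec (fun _ => Nat) (Ptab_1284) (Ptab_1285) (Nat.ble 1285 c)
noncomputable def Ptab_s_1283_1286 (c : Nat) : Nat := @Bool.rec (fun _ => Nat) (Ptab_1283) (Ptab_s_1284_1286 c) (Nat.ble 1284 c)
noncomputable def Ptab_s_1287_1289 (c : Nat) : Nat := @Bool.rec (fun _ => Nat) (Ptab_1287) (Ptab_1288) (Nat.ble 1288 c)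
noncomputable def Ptab_s_1286_1289 (c : Nat) : Nat := @Bool.rec (fun _ => Nat) (Ptab_1286) (Ptab_s_1287_1289 c) (Nat.ble 1287 c)
noncomputable def Ptab_s_1283_1289 (c : Nat) : Nat := @Bool.rec (fun _ => Nat) (Ptab_s_1283_1286 c) (Ptab_s_1286_1289 c) (Nat.ble 1286 c)
noncomputable def Ptab_s_1290_1292 (c : Nat) : Nat := @Bool.rec (fun _ => Nat) (Ptab_1290) (Ptab_1291) (Nat.ble 1291 c)
noncomputable def Ptab_s_1289_1292 (c : Nat) : Nat := @Bool.rec (fun _ => Nat) (Ptab_1289) (Ptab_s_1290_1292 c) (Nat.ble 1290 c)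
noncomputable def Ptab_s_1293_1295 (c : Nat) : Nat := @Bool.rec (fun _ => Nat) (Ptab_1293) (Ptab_1294) (Nat.ble 1294 c)
noncomputable def Ptab_s_1292_1295 (c : Nat) : Nat := @Bool.rec (fun _ => Nat) (Ptab_1292) (Ptab_s_1293_1295 c) (Nat.ble 1293 c)
noncomputable def Ptab_s_1289_1295 (c : Nat) : Nat := @Bool.rec (fun _ => Nat) (Ptab_s_1289_1292 c) (Ptab_s_1292_1295 c) (Nat.ble 1292 c)
noncomputable def Ptab_s_1283_1295 (c : Nat) : Nat := @Bool.rec (fun _ => Nat) (Ptab_s_1283_1289 c) (Ptab_s_1289_1295 c) (Nat.ble 1289 c)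
noncomputable def Ptab_s_1271_1295 (c : Nat) : Nat := @Bool.rec (fun _ => Nat) (Ptab_s_1271_1283 c) (Ptab_s_1283_1295 c) (Nat.ble 1283 c)
noncomputable def Ptab_s_1248_1295 (c : Nat) : Nat := @Bool.rec (fun _ => Nat) (Ptab_s_1248_1271 c) (Ptab_s_1271_1295 c) (Nat.ble 1271 c)
noncomputable def Ptab_s_1202_1295 (c : Nat) : Nat := @Bool.rec (fun _ => Nat) (Ptab_s_1202_1248 c) (Ptab_s_1248_1295 c) (Nat.ble 1248 c)
noncomputable def Ptab_s_1110_1295 (c : Nat) : Nat := @Bool.rec (fun _ => Nat) (Ptab_s_1110_1202 c) (Ptab_s_1202_1295 c) (Nat.ble 1202 c)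
noncomputable def Ptab_s_1295_1297 (c : Nat) : Nat := @Bool.rec (fun _ => Nat) (Ptab_1295) (Ptab_1296) (Nat.ble 1296 c)
noncomputable def Ptab_s_1298_1300 (c : Nat) : Nat := @Bool.rec (fun _ => Nat) (Ptab_1298) (Ptab_1299) (Nat.ble 1299 c)
noncomputable def Ptab_s_1297_1300 (c : Nat) : Nat := @Bool.rec (fun _ => Nat) (Ptab_1297) (Ptab_s_1298_1300 c) (Nat.ble 1298 c)
noncomputable def Ptab_s_1295_1300 (c : Nat) : Nat := @Bool.rec (fun _ => Nat) (Ptab_s_1295_1297 c) (Ptab_s_1297_1300 c) (Nat.ble 1297 c)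
noncomputable def Ptab_s_1301_1303 (c : Nat) : Nat := @Bool.rec (fun _ => Nat) (Ptab_1301) (Ptab_1302) (Nat.ble 1302 c)
noncomputable def Ptab_s_1300_1303 (c : Nat) : Nat := @Bool.rec (fun _ => Nat) (Ptab_1300) (Ptab_s_1301_1303 c) (Nat.ble 1301 c)
noncomputable def Ptab_s_1304_1306 (c : Nat) : Nat := @Bool.rec (fun _ => Nat) (Ptab_1304) (Ptab_1305) (Nat.ble 1305 c)
noncomputable def Ptab_s_1303_1306 (c : Nat) : Nat := @Bool.rec (fun _ => Nat) (Ptab_1303) (Ptab_s_1304_1306 c) (Nat.ble 1304 c)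
noncomputable def Ptab_s_1300_1306 (c : Nat) : Nat := @Bool.rec (fun _ => Nat) (Ptab_s_1300_1303 c) (Ptab_s_1303_1306 c) (Nat.ble 1303 c)
noncomputable def Ptab_s_1295_1306 (c : Nat) : Nat := @Bool.rec (fun _ => Nat) (Ptab_s_1295_1300 c) (Ptab_s_1300_1306 c) (Nat.ble 1300 c)
noncomputable def Ptab_s_1307_1309 (c : Nat) : Nat := @Bool.rec (fun _ => Nat) (Ptab_1307) (Ptab_1308) (Nat.ble 1308 c)
noncomputable def Ptab_s_1306_1309 (c : Nat) : Nat := @Bool.rec (fun _ => Nat) (Ptab_1306) (Ptab_s_1307_1309 c) (Nat.ble 1307 c)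
noncomputable def Ptab_s_1310_1312 (c : Nat) : Nat := @Bool.rec (fun _ => Nat) (Ptab_1310) (Ptab_1311) (Nat.ble 1311 c)
noncomputable def Ptab_s_1309_1312 (c : Nat) : Nat := @Bool.rec (fun _ => Nat) (Ptab_1309) (Ptab_s_1310_1312 c) (Nat.ble 1310 c)
noncomputable def Ptab_s_1306_1312 (c : Nat) : Nat := @Bool.rec (fun _ => Nat) (Ptab_s_1306_1309 c) (Ptab_s_1309_1312 c) (Nat.ble 1309 c)
noncomputable def Ptab_s_1313_1315 (c : Nat) : Nat := @Bool.rec (fun _ => Nat) (Ptab_1313) (Ptab_1314) (Nat.ble 1314 c)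
noncomputable def Ptab_s_1312_1315 (c : Nat) : Nat := @Bool.rec (fun _ => Nat) (Ptab_1312) (Ptab_s_1313_1315 c) (Nat.ble 1313 c)
noncomputable def Ptab_s_1316_1318 (c : Nat) : Nat := @Bool.rec (fun _ => Nat) (Ptab_1316) (Ptab_1317) (Nat.ble 1317 c)
noncomputable def Ptab_s_1315_1318 (c : Nat) : Nat := @Bool.rec (fun _ => Nat) (Ptab_1315) (Ptab_s_1316_1318 c) (Nat.ble 1316 c)
noncomputable def Ptab_s_1312_1318 (c : Nat) : Nat := @Bool.rec (fun _ => Nat) (Ptab_s_1312_1315 c) (Ptab_s_1315_1318 c) (Nat.ble 1315 c)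
noncomputable def Ptab_s_1306_1318 (c : Nat) : Nat := @Bool.rec (fun _ => Nat) (Ptab_s_1306_1312 c) (Ptab_s_1312_1318 c) (Nat.ble 1312 c)
noncomputable def Ptab_s_1295_1318 (c : Nat) : Nat := @Bool.rec (fun _ => Nat) (Ptab_s_1295_1306 c) (Ptab_s_1306_1318 c) (Nat.ble 1306 c)
noncomputable def Ptab_s_1318_1320 (c : Nat) : Nat := @Bool.rec (fun _ => Nat) (Ptab_1318) (Ptab_1319) (Nat.ble 1319 c)
noncomputable def Ptab_s_1321_1323 (c : Nat) : Nat := @Bool.rec (fun _ => Nat) (Ptab_1321) (Ptab_1322) (Nat.ble 1322 c)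
noncomputable def Ptab_s_1320_1323 (c : Nat) : Nat := @Bool.rec (fun _ => Nat) (Ptab_1320) (Ptab_s_1321_1323 c) (Nat.ble 1321 c)
noncomputable def Ptab_s_1318_1323 (c : Nat) : Nat := @Bool.rec (fun _ => Nat) (Ptab_s_1318_1320 c) (Ptab_s_1320_1323 c) (Nat.ble 1320 c)
noncomputable def Ptab_s_1324_1326 (c : Nat) : Nat := @Bool.rec (fun _ => Nat) (Ptab_1324) (Ptab_1325) (Nat.ble 1325 c)
noncomputable def Ptab_s_1323_1326 (c : Nat) : Nat := @Bool.rec (fun _ => Nat) (Ptab_1323) (Ptab_s_1324_1326 c) (Nat.ble 1324 c)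
noncomputable def Ptab_s_1327_1329 (c : Nat) : Nat := @Bool.rec (fun _ => Nat) (Ptab_1327) (Ptab_1328) (Nat.ble 1328 c)
noncomputable def Ptab_s_1326_1329 (c : Nat) : Nat := @Bool.rec (fun _ => Nat) (Ptab_1326) (Ptab_s_1327_1329 c) (Nat.ble 1327 c)
noncomputable def Ptab_s_1323_1329 (c : Nat) : Nat := @Bool.rec (fun _ => Nat) (Ptab_s_1323_1326 c) (Ptab_s_1326_1329 c) (Nat.ble 1326 c)
noncomputable def Ptab_s_1318_1329 (c : Nat) : Nat := @Bool.rec (fun _ => Nat) (Ptab_s_1318_1323 c) (Ptab_s_1323_1329 c) (Nat.ble 1323 c)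
noncomputable def Ptab_s_1330_1332 (c : Nat) : Nat := @Bool.rec (fun _ => Nat) (Ptab_1330) (Ptab_1331) (Nat.ble 1331 c)
noncomputable def Ptab_s_1329_1332 (c : Nat) : Nat := @Bool.rec (fun _ => Nat) (Ptab_1329) (Ptab_s_1330_1332 c) (Nat.ble 1330 c)
noncomputable def Ptab_s_1333_1335 (c : Nat) : Nat := @Bool.rec (fun _ => Nat) (Ptab_1333) (Ptab_1334) (Nat.ble 1334 c)
noncomputable def Ptab_s_1332_1335 (c : Nat) : Nat := @Bool.rec (fun _ => Nat) (Ptab_1332) (Ptab_s_1333_1335 c) (Nat.ble 1333 c)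
noncomputable def Ptab_s_1329_1335 (c : Nat) : Nat := @Bool.rec (fun _ => Nat) (Ptab_s_1329_1332 c) (Ptab_s_1332_1335 c) (Nat.ble 1332 c)
noncomputable def Ptab_s_1336_1338 (c : Nat) : Nat := @Bool.rec (fun _ => Nat) (Ptab_1336) (Ptab_1337) (Nat.ble 1337 c)
noncomputable def Ptab_s_1335_1338 (c : Nat) : Nat := @Bool.rec (fun _ => Nat) (Ptab_1335) (Ptab_s_1336_1338 c) (Nat.ble 1336 c)
noncomputable def Ptab_s_1339_1341 (c : Nat) : Nat := @Bool.rec (fun _ => Nat) (Ptab_1339) (Ptab_1340) (Nat.ble 1340 c)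
noncomputable def Ptab_s_1338_1341 (c : Nat) : Nat := @Bool.rec (fun _ => Nat) (Ptab_1338) (Ptab_s_1339_1341 c) (Nat.ble 1339 c)
noncomputable def Ptab_s_1335_1341 (c : Nat) : Nat := @Bool.rec (fun _ => Nat) (Ptab_s_1335_1338 c) (Ptab_s_1338_1341 c) (Nat.ble 1338 c)
noncomputable def Ptab_s_1329_1341 (c : Nat) : Nat := @Bool.rec (fun _ => Nat) (Ptab_s_1329_1335 c) (Ptab_s_1335_1341 c) (Nat.ble 1335 c)
noncomputable def Ptab_s_1318_1341 (c : Nat) : Nat := @Bool.rec (fun _ => Nat) (Ptab_s_1318_1329 c) (Ptab_s_1329_1341 c) (Nat.ble 1329 c)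
noncomputable def Ptab_s_1295_1341 (c : Nat) : Nat := @Bool.rec (fun _ => Nat) (Ptab_s_1295_1318 c) (Ptab_s_1318_1341 c) (Nat.ble 1318 c)
noncomputable def Ptab_s_1341_1343 (c : Nat) : Nat := @Bool.rec (fun _ => Nat) (Ptab_1341) (Ptab_1342) (Nat.ble 1342 c)
noncomputable def Ptab_s_1344_1346 (c : Nat) : Nat := @Bool.rec (fun _ => Nat) (Ptab_1344) (Ptab_1345) (Nat.ble 1345 c)
noncomputable def Ptab_s_1343_1346 (c : Nat) : Nat := @Bool.rec (fun _ => Nat) (Ptab_1343) (Ptab_s_1344_1346 c) (Nat.ble 1344 c)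
noncomputable def Ptab_s_1341_1346 (c : Nat) : Nat := @Bool.rec (fun _ => Nat) (Ptab_s_1341_1343 c) (Ptab_s_1343_1346 c) (Nat.ble 1343 c)
noncomputable def Ptab_s_1347_1349 (c : Nat) : Nat := @Bool.rec (fun _ => Nat) (Ptab_1347) (Ptab_1348) (Nat.ble 1348 c)
noncomputable def Ptab_s_1346_1349 (c : Nat) : Nat := @Bool.rec (fun _ => Nat) (Ptab_1346) (Ptab_s_1347_1349 c) (Nat.ble 1347 c)
noncomputable def Ptab_s_1350_1352 (c : Nat) : Nat := @Bool.rec (fun _ => Nat) (Ptab_1350) (Ptab_1351) (Nat.ble 1351 c)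
noncomputable def Ptab_s_1349_1352 (c : Nat) : Nat := @Bool.rec (fun _ => Nat) (Ptab_1349) (Ptab_s_1350_1352 c) (Nat.ble 1350 c)
noncomputable def Ptab_s_1346_1352 (c : Nat) : Nat := @Bool.rec (fun _ => Nat) (Ptab_s_1346_1349 c) (Ptab_s_1349_1352 c) (Nat.ble 1349 c)
noncomputable def Ptab_s_1341_1352 (c : Nat) : Nat := @Bool.rec (fun _ => Nat) (Ptab_s_1341_1346 c) (Ptab_s_1346_1352 c) (Nat.ble 1346 c)
noncomputable def Ptab_s_1353_1355 (c : Nat) : Nat := @Bool.rec (fun _ => Nat) (Ptab_1353) (Ptab_1354) (Nat.ble 1354 c)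
noncomputable def Ptab_s_1352_1355 (c : Nat) : Nat := @Bool.rec (fun _ => Nat) (Ptab_1352) (Ptab_s_1353_1355 c) (Nat.ble 1353 c)
noncomputable def Ptab_s_1356_1358 (c : Nat) : Nat := @Bool.rec (fun _ => Nat) (Ptab_1356) (Ptab_1357) (Nat.ble 1357 c)
noncomputable def Ptab_s_1355_1358 (c : Nat) : Nat := @Bool.rec (fun _ => Nat) (Ptab_1355) (Ptab_s_1356_1358 c) (Nat.ble 1356 c)
noncomputable def Ptab_s_1352_1358 (c : Nat) : Nat := @Bool.rec (fun _ => Nat) (Ptab_s_1352_1355 c) (Ptab_s_1355_1358 c) (Nat.ble 1355 c)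
noncomputable def Ptab_s_1359_1361 (c : Nat) : Nat := @Bool.rec (fun _ => Nat) (Ptab_1359) (Ptab_1360) (Nat.ble 1360 c)
noncomputable def Ptab_s_1358_1361 (c : Nat) : Nat := @Bool.rec (fun _ => Nat) (Ptab_1358) (Ptab_s_1359_1361 c) (Nat.ble 1359 c)
noncomputable def Ptab_s_1362_1364 (c : Nat) : Nat := @Bool.rec (fun _ => Nat) (Ptab_1362) (Ptab_1363) (Nat.ble 1363 c)
noncomputable def Ptab_s_1361_1364 (c : Nat) : Nat := @Bool.rec (fun _ => Nat) (Ptab_1361) (Ptab_s_1362_1364 c) (Nat.ble 1362 c)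
noncomputable def Ptab_s_1358_1364 (c : Nat) : Nat := @Bool.rec (fun _ => Nat) (Ptab_s_1358_1361 c) (Ptab_s_1361_1364 c) (Nat.ble 1361 c)
noncomputable def Ptab_s_1352_1364 (c : Nat) : Nat := @Bool.rec (fun _ => Nat) (Ptab_s_1352_1358 c) (Ptab_s_1358_1364 c) (Nat.ble 1358 c)
noncomputable def Ptab_s_1341_1364 (c : Nat) : Nat := @Bool.rec (fun _ => Nat) (Ptab_s_1341_1352 c) (Ptab_s_1352_1364 c) (Nat.ble 1352 c)
noncomputable def Ptab_s_1365_1367 (c : Nat) : Nat := @Bool.rec (fun _ => Nat) (Ptab_1365) (Ptab_1366) (Nat.ble 1366 c)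
noncomputable def Ptab_s_1364_1367 (c : Nat) : Nat := @Bool.rec (fun _ => Nat) (Ptab_1364) (Ptab_s_1365_1367 c) (Nat.ble 1365 c)
noncomputable def Ptab_s_1368_1370 (c : Nat) : Nat := @Bool.rec (fun _ => Nat) (Ptab_1368) (Ptab_1369) (Nat.ble 1369 c)
noncomputable def Ptab_s_1367_1370 (c : Nat) : Nat := @Bool.rec (fun _ => Nat) (Ptab_1367) (Ptab_s_1368_1370 c) (Nat.ble 1368 c)
noncomputable def Ptab_s_1364_1370 (c : Nat) : Nat := @Bool.rec (fun _ => Nat) (Ptab_s_1364_1367 c) (Ptab_s_1367_1370 c) (Nat.ble 1367 c)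
noncomputable def Ptab_s_1371_1373 (c : Nat) : Nat := @Bool.rec (fun _ => Nat) (Ptab_1371) (Ptab_1372) (Nat.ble 1372 c)
noncomputable def Ptab_s_1370_1373 (c : Nat) : Nat := @Bool.rec (fun _ => Nat) (Ptab_1370) (Ptab_s_1371_1373 c) (Nat.ble 1371 c)
noncomputable def Ptab_s_1374_1376 (c : Nat) : Nat := @Bool.rec (fun _ => Nat) (Ptab_1374) (Ptab_1375) (Nat.ble 1375 c)
noncomputable def Ptab_s_1373_1376 (c : Nat) : Nat := @Bool.rec (fun _ => Nat) (Ptab_1373) (Ptab_s_1374_1376 c) (Nat.ble 1374 c)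
noncomputable def Ptab_s_1370_1376 (c : Nat) : Nat := @Bool.rec (fun _ => Nat) (Ptab_s_1370_1373 c) (Ptab_s_1373_1376 c) (Nat.ble 1373 c)
noncomputable def Ptab_s_1364_1376 (c : Nat) : Nat := @Bool.rec (fun _ => Nat) (Ptab_s_1364_1370 c) (Ptab_s_1370_1376 c) (Nat.ble 1370 c)
noncomputable def Ptab_s_1377_1379 (c : Nat) : Nat := @Bool.rec (fun _ => Nat) (Ptab_1377) (Ptab_1378) (Nat.ble 1378 c)
noncomputable def Ptab_s_1376_1379 (c : Nat) : Nat := @Bool.rec (fun _ => Nat) (Ptab_1376) (Ptab_s_1377_1379 c) (Nat.ble 1377 c)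
noncomputable def Ptab_s_1380_1382 (c : Nat) : Nat := @Bool.rec (fun _ => Nat) (Ptab_1380) (Ptab_1381) (Nat.ble 1381 c)
noncomputable def Ptab_s_1379_1382 (c : Nat) : Nat := @Bool.rec (fun _ => Nat) (Ptab_1379) (Ptab_s_1380_1382 c) (Nat.ble 1380 c)
noncomputable def Ptab_s_1376_1382 (c : Nat) : Nat := @Bool.rec (fun _ => Nat) (Ptab_s_1376_1379 c) (Ptab_s_1379_1382 c) (Nat.ble 1379 c)
noncomputable def Ptab_s_1383_1385 (c : Nat) : Nat := @Bool.rec (fun _ => Nat) (Ptab_1383) (Ptab_1384) (Nat.ble 1384 c)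
noncomputable def Ptab_s_1382_1385 (c : Nat) : Nat := @Bool.rec (fun _ => Nat) (Ptab_1382) (Ptab_s_1383_1385 c) (Nat.ble 1383 c)
noncomputable def Ptab_s_1386_1388 (c : Nat) : Nat := @Bool.rec (fun _ => Nat) (Ptab_1386) (Ptab_1387) (Nat.ble 1387 c)
noncomputable def Ptab_s_1385_1388 (c : Nat) : Nat := @Bool.rec (fun _ => Nat) (Ptab_1385) (Ptab_s_1386_1388 c) (Nat.ble 1386 c)
noncomputable def Ptab_s_1382_1388 (c : Nat) : Nat := @Bool.rec (fun _ => Nat) (Ptab_s_1382_1385 c) (Ptab_s_1385_1388 c) (Nat.ble 1385 c)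
noncomputable def Ptab_s_1376_1388 (c : Nat) : Nat := @Bool.rec (fun _ => Nat) (Ptab_s_1376_1382 c) (Ptab_s_1382_1388 c) (Nat.ble 1382 c)
noncomputable def Ptab_s_1364_1388 (c : Nat) : Nat := @Bool.rec (fun _ => Nat) (Ptab_s_1364_1376 c) (Ptab_s_1376_1388 c) (Nat.ble 1376 c)
noncomputable def Ptab_s_1341_1388 (c : Nat) : Nat := @Bool.rec (fun _ => Nat) (Ptab_s_1341_1364 c) (Ptab_s_1364_1388 c) (Nat.ble 1364 c)
noncomputable def Ptab_s_1295_1388 (c : Nat) : Nat := @Bool.rec (fun _ => Nat) (Ptab_s_1295_1341 c) (Ptab_s_1341_1388 c) (Nat.ble 1341 c)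
noncomputable def Ptab_s_1388_1390 (c : Nat) : Nat := @Bool.rec (fun _ => Nat) (Ptab_1388) (Ptab_1389) (Nat.ble 1389 c)
noncomputable def Ptab_s_1391_1393 (c : Nat) : Nat := @Bool.rec (fun _ => Nat) (Ptab_1391) (Ptab_1392) (Nat.ble 1392 c)
noncomputable def Ptab_s_1390_1393 (c : Nat) : Nat := @Bool.rec (fun _ => Nat) (Ptab_1390) (Ptab_s_1391_1393 c) (Nat.ble 1391 c)
noncomputable def Ptab_s_1388_1393 (c : Nat) : Nat := @Bool.rec (fun _ => Nat) (Ptab_s_1388_1390 c) (Ptab_s_1390_1393 c) (Nat.ble 1390 c)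
noncomputable def Ptab_s_1394_1396 (c : Nat) : Nat := @Bool.rec (fun _ => Nat) (Ptab_1394) (Ptab_1395) (Nat.ble 1395 c)
noncomputable def Ptab_s_1393_1396 (c : Nat) : Nat := @Bool.rec (fun _ => Nat) (Ptab_1393) (Ptab_s_1394_1396 c) (Nat.ble 1394 c)
noncomputable def Ptab_s_1397_1399 (c : Nat) : Nat := @Bool.rec (fun _ => Nat) (Ptab_1397) (Ptab_1398) (Nat.ble 1398 c)
noncomputable def Ptab_s_1396_1399 (c : Nat) : Nat := @Bool.rec (fun _ => Nat) (Ptab_1396) (Ptab_s_1397_1399 c) (Nat.ble 1397 c)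
noncomputable def Ptab_s_1393_1399 (c : Nat) : Nat := @Bool.rec (fun _ => Nat) (Ptab_s_1393_1396 c) (Ptab_s_1396_1399 c) (Nat.ble 1396 c)
noncomputable def Ptab_s_1388_1399 (c : Nat) : Nat := @Bool.rec (fun _ => Nat) (Ptab_s_1388_1393 c) (Ptab_s_1393_1399 c) (Nat.ble 1393 c)
noncomputable def Ptab_s_1400_1402 (c : Nat) : Nat := @Bool.rec (fun _ => Nat) (Ptab_1400) (Ptab_1401) (Nat.ble 1401 c)
noncomputable def Ptab_s_1399_1402 (c : Nat) : Nat := @Bool.rec (fun _ => Nat) (Ptab_1399) (Ptab_s_1400_1402 c) (Nat.ble 1400 c)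
noncomputable def Ptab_s_1403_1405 (c : Nat) : Nat := @Bool.rec (fun _ => Nat) (Ptab_1403) (Ptab_1404) (Nat.ble 1404 c)
noncomputable def Ptab_s_1402_1405 (c : Nat) : Nat := @Bool.rec (fun _ => Nat) (Ptab_1402) (Ptab_s_1403_1405 c) (Nat.ble 1403 c)
noncomputable def Ptab_s_1399_1405 (c : Nat) : Nat := @Bool.rec (fun _ => Nat) (Ptab_s_1399_1402 c) (Ptab_s_1402_1405 c) (Nat.ble 1402 c)
noncomputable def Ptab_s_1406_1408 (c : Nat) : Nat := @Bool.rec (fun _ => Nat) (Ptab_1406) (Ptab_1407) (Nat.ble 1407 c)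
noncomputable def Ptab_s_1405_1408 (c : Nat) : Nat := @Bool.rec (fun _ => Nat) (Ptab_1405) (Ptab_s_1406_1408 c) (Nat.ble 1406 c)
noncomputable def Ptab_s_1409_1411 (c : Nat) : Nat := @Bool.rec (fun _ => Nat) (Ptab_1409) (Ptab_1410) (Nat.ble 1410 c)
noncomputable def Ptab_s_1408_1411 (c : Nat) : Nat := @Bool.rec (fun _ => Nat) (Ptab_1408) (Ptab_s_1409_1411 c) (Nat.ble 1409 c)
noncomputable def Ptab_s_1405_1411 (c : Nat) : Nat := @Bool.rec (fun _ => Nat) (Ptab_s_1405_1408 c) (Ptab_s_1408_1411 c) (Nat.ble 1408 c)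
noncomputable def Ptab_s_1399_1411 (c : Nat) : Nat := @Bool.rec (fun _ => Nat) (Ptab_s_1399_1405 c) (Ptab_s_1405_1411 c) (Nat.ble 1405 c)
noncomputable def Ptab_s_1388_1411 (c : Nat) : Nat := @Bool.rec (fun _ => Nat) (Ptab_s_1388_1399 c) (Ptab_s_1399_1411 c) (Nat.ble 1399 c)
noncomputable def Ptab_s_1411_1413 (c : Nat) : Nat := @Bool.rec (fun _ => Nat) (Ptab_1411) (Ptab_1412) (Nat.ble 1412 c)
noncomputable def Ptab_s_1414_1416 (c : Nat) : Nat := @Bool.rec (fun _ => Nat) (Ptab_1414) (Ptab_1415) (Nat.ble 1415 c)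
noncomputable def Ptab_s_1413_1416 (c : Nat) : Nat := @Bool.rec (fun _ => Nat) (Ptab_1413) (Ptab_s_1414_1416 c) (Nat.ble 1414 c)
noncomputable def Ptab_s_1411_1416 (c : Nat) : Nat := @Bool.rec (fun _ => Nat) (Ptab_s_1411_1413 c) (Ptab_s_1413_1416 c) (Nat.ble 1413 c)
noncomputable def Ptab_s_1417_1419 (c : Nat) : Nat := @Bool.rec (fun _ => Nat) (Ptab_1417) (Ptab_1418) (Nat.ble 1418 c)
noncomputable def Ptab_s_1416_1419 (c : Nat) : Nat := @Bool.rec (fun _ => Nat) (Ptab_1416) (Ptab_s_1417_1419 c) (Nat.ble 1417 c)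
noncomputable def Ptab_s_1420_1422 (c : Nat) : Nat := @Bool.rec (fun _ => Nat) (Ptab_1420) (Ptab_1421) (Nat.ble 1421 c)
noncomputable def Ptab_s_1419_1422 (c : Nat) : Nat := @Bool.rec (fun _ => Nat) (Ptab_1419) (Ptab_s_1420_1422 c) (Nat.ble 1420 c)
noncomputable def Ptab_s_1416_1422 (c : Nat) : Nat := @Bool.rec (fun _ => Nat) (Ptab_s_1416_1419 c) (Ptab_s_1419_1422 c) (Nat.ble 1419 c)
noncomputable def Ptab_s_1411_1422 (c : Nat) : Nat := @Bool.rec (fun _ => Nat) (Ptab_s_1411_1416 c) (Ptab_s_1416_1422 c) (Nat.ble 1416 c)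
noncomputable def Ptab_s_1423_1425 (c : Nat) : Nat := @Bool.rec (fun _ => Nat) (Ptab_1423) (Ptab_1424) (Nat.ble 1424 c)
noncomputable def Ptab_s_1422_1425 (c : Nat) : Nat := @Bool.rec (fun _ => Nat) (Ptab_1422) (Ptab_s_1423_1425 c) (Nat.ble 1423 c)
noncomputable def Ptab_s_1426_1428 (c : Nat) : Nat := @Bool.rec (fun _ => Nat) (Ptab_1426) (Ptab_1427) (Nat.ble 1427 c)
noncomputable def Ptab_s_1425_1428 (c : Nat) : Nat := @Bool.rec (fun _ => Nat) (Ptab_1425) (Ptab_s_1426_1428 c) (Nat.ble 1426 c)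
noncomputable def Ptab_s_1422_1428 (c : Nat) : Nat := @Bool.rec (fun _ => Nat) (Ptab_s_1422_1425 c) (Ptab_s_1425_1428 c) (Nat.ble 1425 c)
noncomputable def Ptab_s_1429_1431 (c : Nat) : Nat := @Bool.rec (fun _ => Nat) (Ptab_1429) (Ptab_1430) (Nat.ble 1430 c)
noncomputable def Ptab_s_1428_1431 (c : Nat) : Nat := @Bool.rec (fun _ => Nat) (Ptab_1428) (Ptab_s_1429_1431 c) (Nat.ble 1429 c)
noncomputable def Ptab_s_1432_1434 (c : Nat) : Nat := @Bool.rec (fun _ => Nat) (Ptab_1432) (Ptab_1433) (Nat.ble 1433 c)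
noncomputable def Ptab_s_1431_1434 (c : Nat) : Nat := @Bool.rec (fun _ => Nat) (Ptab_1431) (Ptab_s_1432_1434 c) (Nat.ble 1432 c)
noncomputable def Ptab_s_1428_1434 (c : Nat) : Nat := @Bool.rec (fun _ => Nat) (Ptab_s_1428_1431 c) (Ptab_s_1431_1434 c) (Nat.ble 1431 c)
noncomputable def Ptab_s_1422_1434 (c : Nat) : Nat := @Bool.rec (fun _ => Nat) (Ptab_s_1422_1428 c) (Ptab_s_1428_1434 c) (Nat.ble 1428 c)
noncomputable def Ptab_s_1411_1434 (c : Nat) : Nat := @Bool.rec (fun _ => Nat) (Ptab_s_1411_1422 c) (Ptab_s_1422_1434 c) (Nat.ble 1422 c)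
noncomputable def Ptab_s_1388_1434 (c : Nat) : Nat := @Bool.rec (fun _ => Nat) (Ptab_s_1388_1411 c) (Ptab_s_1411_1434 c) (Nat.ble 1411 c)
noncomputable def Ptab_s_1434_1436 (c : Nat) : Nat := @Bool.rec (fun _ => Nat) (Ptab_1434) (Ptab_1435) (Nat.ble 1435 c)
noncomputable def Ptab_s_1437_1439 (c : Nat) : Nat := @Bool.rec (fun _ => Nat) (Ptab_1437) (Ptab_1438) (Nat.ble 1438 c)
noncomputable def Ptab_s_1436_1439 (c : Nat) : Nat := @Bool.rec (fun _ => Nat) (Ptab_1436) (Ptab_s_1437_1439 c) (Nat.ble 1437 c)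
noncomputable def Ptab_s_1434_1439 (c : Nat) : Nat := @Bool.rec (fun _ => Nat) (Ptab_s_1434_1436 c) (Ptab_s_1436_1439 c) (Nat.ble 1436 c)
noncomputable def Ptab_s_1440_1442 (c : Nat) : Nat := @Bool.rec (fun _ => Nat) (Ptab_1440) (Ptab_1441) (Nat.ble 1441 c)
noncomputable def Ptab_s_1439_1442 (c : Nat) : Nat := @Bool.rec (fun _ => Nat) (Ptab_1439) (Ptab_s_1440_1442 c) (Nat.ble 1440 c)
noncomputable def Ptab_s_1443_1445 (c : Nat) : Nat := @Bool.rec (fun _ => Nat) (Ptab_1443) (Ptab_1444) (Nat.ble 1444 c)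
noncomputable def Ptab_s_1442_1445 (c : Nat) : Nat := @Bool.rec (fun _ => Nat) (Ptab_1442) (Ptab_s_1443_1445 c) (Nat.ble 1443 c)
noncomputable def Ptab_s_1439_1445 (c : Nat) : Nat := @Bool.rec (fun _ => Nat) (Ptab_s_1439_1442 c) (Ptab_s_1442_1445 c) (Nat.ble 1442 c)
noncomputable def Ptab_s_1434_1445 (c : Nat) : Nat := @Bool.rec (fun _ => Nat) (Ptab_s_1434_1439 c) (Ptab_s_1439_1445 c) (Nat.ble 1439 c)
noncomputable def Ptab_s_1446_1448 (c : Nat) : Nat := @Bool.rec (fun _ => Nat) (Ptab_1446) (Ptab_1447) (Nat.ble 1447 c)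
noncomputable def Ptab_s_1445_1448 (c : Nat) : Nat := @Bool.rec (fun _ => Nat) (Ptab_1445) (Ptab_s_1446_1448 c) (Nat.ble 1446 c)
noncomputable def Ptab_s_1449_1451 (c : Nat) : Nat := @Bool.rec (fun _ => Nat) (Ptab_1449) (Ptab_1450) (Nat.ble 1450 c)
noncomputable def Ptab_s_1448_1451 (c : Nat) : Nat := @Bool.rec (fun _ => Nat) (Ptab_1448) (Ptab_s_1449_1451 c) (Nat.ble 1449 c)
noncomputable def Ptab_s_1445_1451 (c : Nat) : Nat := @Bool.rec (fun _ => Nat) (Ptab_s_1445_1448 c) (Ptab_s_1448_1451 c) (Nat.ble 1448 c)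
noncomputable def Ptab_s_1452_1454 (c : Nat) : Nat := @Bool.rec (fun _ => Nat) (Ptab_1452) (Ptab_1453) (Nat.ble 1453 c)
noncomputable def Ptab_s_1451_1454 (c : Nat) : Nat := @Bool.rec (fun _ => Nat) (Ptab_1451) (Ptab_s_1452_1454 c) (Nat.ble 1452 c)
noncomputable def Ptab_s_1455_1457 (c : Nat) : Nat := @Bool.rec (fun _ => Nat) (Ptab_1455) (Ptab_1456) (Nat.ble 1456 c)
noncomputable def Ptab_s_1454_1457 (c : Nat) : Nat := @Bool.rec (fun _ => Nat) (Ptab_1454) (Ptab_s_1455_1457 c) (Nat.ble 1455 c)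
noncomputable def Ptab_s_1451_1457 (c : Nat) : Nat := @Bool.rec (fun _ => Nat) (Ptab_s_1451_1454 c) (Ptab_s_1454_1457 c) (Nat.ble 1454 c)
noncomputable def Ptab_s_1445_1457 (c : Nat) : Nat := @Bool.rec (fun _ => Nat) (Ptab_s_1445_1451 c) (Ptab_s_1451_1457 c) (Nat.ble 1451 c)
noncomputable def Ptab_s_1434_1457 (c : Nat) : Nat := @Bool.rec (fun _ => Nat) (Ptab_s_1434_1445 c) (Ptab_s_1445_1457 c) (Nat.ble 1445 c)
noncomputable def Ptab_s_1458_1460 (c : Nat) : Nat := @Bool.rec (fun _ => Nat) (Ptab_1458) (Ptab_1459) (Nat.ble 1459 c)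
noncomputable def Ptab_s_1457_1460 (c : Nat) : Nat := @Bool.rec (fun _ => Nat) (Ptab_1457) (Ptab_s_1458_1460 c) (Nat.ble 1458 c)
noncomputable def Ptab_s_1461_1463 (c : Nat) : Nat := @Bool.rec (fun _ => Nat) (Ptab_1461) (Ptab_1462) (Nat.ble 1462 c)
noncomputable def Ptab_s_1460_1463 (c : Nat) : Nat := @Bool.rec (fun _ => Nat) (Ptab_1460) (Ptab_s_1461_1463 c) (Nat.ble 1461 c)
noncomputable def Ptab_s_1457_1463 (c : Nat) : Nat := @Bool.rec (fun _ => Nat) (Ptab_s_1457_1460 c) (Ptab_s_1460_1463 c) (Nat.ble 1460 c)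
noncomputable def Ptab_s_1464_1466 (c : Nat) : Nat := @Bool.rec (fun _ => Nat) (Ptab_1464) (Ptab_1465) (Nat.ble 1465 c)
noncomputable def Ptab_s_1463_1466 (c : Nat) : Nat := @Bool.rec (fun _ => Nat) (Ptab_1463) (Ptab_s_1464_1466 c) (Nat.ble 1464 c)
noncomputable def Ptab_s_1467_1469 (c : Nat) : Nat := @Bool.rec (fun _ => Nat) (Ptab_1467) (Ptab_1468) (Nat.ble 1468 c)
noncomputable def Ptab_s_1466_1469 (c : Nat) : Nat := @Bool.rec (fun _ => Nat) (Ptab_1466) (Ptab_s_1467_1469 c) (Nat.ble 1467 c)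
noncomputable def Ptab_s_1463_1469 (c : Nat) : Nat := @Bool.rec (fun _ => Nat) (Ptab_s_1463_1466 c) (Ptab_s_1466_1469 c) (Nat.ble 1466 c)
noncomputable def Ptab_s_1457_1469 (c : Nat) : Nat := @Bool.rec (fun _ => Nat) (Ptab_s_1457_1463 c) (Ptab_s_1463_1469 c) (Nat.ble 1463 c)
noncomputable def Ptab_s_1470_1472 (c : Nat) : Nat := @Bool.rec (fun _ => Nat) (Ptab_1470) (Ptab_1471) (Nat.ble 1471 c)
noncomputable def Ptab_s_1469_1472 (c : Nat) : Nat := @Bool.rec (fun _ => Nat) (Ptab_1469) (Ptab_s_1470_1472 c) (Nat.ble 1470 c)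
noncomputable def Ptab_s_1473_1475 (c : Nat) : Nat := @Bool.rec (fun _ => Nat) (Ptab_1473) (Ptab_1474) (Nat.ble 1474 c)
noncomputable def Ptab_s_1472_1475 (c : Nat) : Nat := @Bool.rec (fun _ => Nat) (Ptab_1472) (Ptab_s_1473_1475 c) (Nat.ble 1473 c)
noncomputable def Ptab_s_1469_1475 (c : Nat) : Nat := @Bool.rec (fun _ => Nat) (Ptab_s_1469_1472 c) (Ptab_s_1472_1475 c) (Nat.ble 1472 c)
noncomputable def Ptab_s_1476_1478 (c : Nat) : Nat := @Bool.rec (fun _ => Nat) (Ptab_1476) (Ptab_1477) (Nat.ble 1477 c)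
noncomputable def Ptab_s_1475_1478 (c : Nat) : Nat := @Bool.rec (fun _ => Nat) (Ptab_1475) (Ptab_s_1476_1478 c) (Nat.ble 1476 c)
noncomputable def Ptab_s_1479_1481 (c : Nat) : Nat := @Bool.rec (fun _ => Nat) (Ptab_1479) (Ptab_1480) (Nat.ble 1480 c)
noncomputable def Ptab_s_1478_1481 (c : Nat) : Nat := @Bool.rec (fun _ => Nat) (Ptab_1478) (Ptab_s_1479_1481 c) (Nat.ble 1479 c)
noncomputable def Ptab_s_1475_1481 (c : Nat) : Nat := @Bool.rec (fun _ => Nat) (Ptab_s_1475_1478 c) (Ptab_s_1478_1481 c) (Nat.ble 1478 c)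
noncomputable def Ptab_s_1469_1481 (c : Nat) : Nat := @Bool.rec (fun _ => Nat) (Ptab_s_1469_1475 c) (Ptab_s_1475_1481 c) (Nat.ble 1475 c)
noncomputable def Ptab_s_1457_1481 (c : Nat) : Nat := @Bool.rec (fun _ => Nat) (Ptab_s_1457_1469 c) (Ptab_s_1469_1481 c) (Nat.ble 1469 c)
noncomputable def Ptab_s_1434_1481 (c : Nat) : Nat := @Bool.rec (fun _ => Nat) (Ptab_s_1434_1457 c) (Ptab_s_1457_1481 c) (Nat.ble 1457 c)
noncomputable def Ptab_s_1388_1481 (c : Nat) : Nat := @Bool.rec (fun _ => Nat) (Ptab_s_1388_1434 c) (Ptab_s_1434_1481 c) (Nat.ble 1434 c)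
noncomputable def Ptab_s_1295_1481 (c : Nat) : Nat := @Bool.rec (fun _ => Nat) (Ptab_s_1295_1388 c) (Ptab_s_1388_1481 c) (Nat.ble 1388 c)
noncomputable def Ptab_s_1110_1481 (c : Nat) : Nat := @Bool.rec (fun _ => Nat) (Ptab_s_1110_1295 c) (Ptab_s_1295_1481 c) (Nat.ble 1295 c)
noncomputable def Ptab_s_740_1481 (c : Nat) : Nat := @Bool.rec (fun _ => Nat) (Ptab_s_740_1110 c) (Ptab_s_1110_1481 c) (Nat.ble 1110 c)
noncomputable def Ptab_s_0_1481 (c : Nat) : Nat := @Bool.rec (fun _ => Nat) (Ptab_s_0_740 c) (Ptab_s_740_1481 c) (Nat.ble 740 c)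
noncomputable def Ptab (i : Nat) : Nat := rdw 22 4194303 (Ptab_s_0_1481 (Nat.shiftRight i 12)) (Nat.land i 4095)
noncomputable def RRtab (i : Nat) : Nat := rdw 6 63 RRtab_0 i
noncomputable def rBtab (i : Nat) : Nat := rdw 12 4095 rBtab_0 i
noncomputable def rLtab (i : Nat) : Nat := rdw 5 31 rLtab_0 i
noncomputable def nameTab_s_0_2 (c : Nat) : Nat := @Bool.rec (fun _ => Nat) (nameTab_0) (nameTab_1) (Nat.ble 1 c)
noncomputable def nameTab_s_2_4 (c : Nat) : Nat := @Bool.rec (fun _ => Nat) (nameTab_2) (nameTab_3) (Nat.ble 3 c)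
noncomputable def nameTab_s_0_4 (c : Nat) : Nat := @Bool.rec (fun _ => Nat) (nameTab_s_0_2 c) (nameTab_s_2_4 c) (Nat.ble 2 c)
noncomputable def nameTab_s_4_6 (c : Nat) : Nat := @Bool.rec (fun _ => Nat) (nameTab_4) (nameTab_5) (Nat.ble 5 c)
noncomputable def nameTab_s_6_8 (c : Nat) : Nat := @Bool.rec (fun _ => Nat) (nameTab_6) (nameTab_7) (Nat.ble 7 c)
noncomputable def nameTab_s_4_8 (c : Nat) : Nat := @Bool.rec (fun _ => Nat) (nameTab_s_4_6 c) (nameTab_s_6_8 c) (Nat.ble 6 c)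
noncomputable def nameTab_s_0_8 (c : Nat) : Nat := @Bool.rec (fun _ => Nat) (nameTab_s_0_4 c) (nameTab_s_4_8 c) (Nat.ble 4 c)
noncomputable def nameTab_s_8_10 (c : Nat) : Nat := @Bool.rec (fun _ => Nat) (nameTab_8) (nameTab_9) (Nat.ble 9 c)
noncomputable def nameTab_s_10_12 (c : Nat) : Nat := @Bool.rec (fun _ => Nat) (nameTab_10) (nameTab_11) (Nat.ble 11 c)
noncomputable def nameTab_s_8_12 (c : Nat) : Nat := @Bool.rec (fun _ => Nat) (nameTab_s_8_10 c) (nameTab_s_10_12 c) (Nat.ble 10 c)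
noncomputable def nameTab_s_12_14 (c : Nat) : Nat := @Bool.rec (fun _ => Nat) (nameTab_12) (nameTab_13) (Nat.ble 13 c)
noncomputable def nameTab_s_15_17 (c : Nat) : Nat := @Bool.rec (fun _ => Nat) (nameTab_15) (nameTab_16) (Nat.ble 16 c)
noncomputable def nameTab_s_14_17 (c : Nat) : Nat := @Bool.rec (fun _ => Nat) (nameTab_14) (nameTab_s_15_17 c) (Nat.ble 15 c)
noncomputable def nameTab_s_12_17 (c : Nat) : Nat := @Bool.rec (fun _ => Nat) (nameTab_s_12_14 c) (nameTab_s_14_17 c) (Nat.ble 14 c)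
noncomputable def nameTab_s_8_17 (c : Nat) : Nat := @Bool.rec (fun _ => Nat) (nameTab_s_8_12 c) (nameTab_s_12_17 c) (Nat.ble 12 c)
noncomputable def nameTab_s_0_17 (c : Nat) : Nat := @Bool.rec (fun _ => Nat) (nameTab_s_0_8 c) (nameTab_s_8_17 c) (Nat.ble 8 c)
noncomputable def nameTab (i : Nat) : Nat := rdw 17 131071 (nameTab_s_0_17 (Nat.shiftRight i 12)) (Nat.land i 4095)
noncomputable def col0_s_0_2 (c : Nat) : Nat := @Bool.rec (fun _ => Nat) (col0_0) (col0_1) (Nat.ble 1 c)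
noncomputable def col0_s_2_4 (c : Nat) : Nat := @Bool.rec (fun _ => Nat) (col0_2) (col0_3) (Nat.ble 3 c)
noncomputable def col0_s_0_4 (c : Nat) : Nat := @Bool.rec (fun _ => Nat) (col0_s_0_2 c) (col0_s_2_4 c) (Nat.ble 2 c)
noncomputable def col0_s_4_6 (c : Nat) : Nat := @Bool.rec (fun _ => Nat) (col0_4) (col0_5) (Nat.ble 5 c)
noncomputable def col0_s_6_8 (c : Nat) : Nat := @Bool.rec (fun _ => Nat) (col0_6) (col0_7) (Nat.ble 7 c)
noncomputable def col0_s_4_8 (c : Nat) : Nat := @Bool.rec (fun _ => Nat) (col0_s_4_6 c) (col0_s_6_8 c) (Nat.ble 6 c)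
noncomputable def col0_s_0_8 (c : Nat) : Nat := @Bool.rec (fun _ => Nat) (col0_s_0_4 c) (col0_s_4_8 c) (Nat.ble 4 c)
noncomputable def col0_s_8_10 (c : Nat) : Nat := @Bool.rec (fun _ => Nat) (col0_8) (col0_9) (Nat.ble 9 c)
noncomputable def col0_s_10_12 (c : Nat) : Nat := @Bool.rec (fun _ => Nat) (col0_10) (col0_11) (Nat.ble 11 c)
noncomputable def col0_s_8_12 (c : Nat) : Nat := @Bool.rec (fun _ => Nat) (col0_s_8_10 c) (col0_s_10_12 c) (Nat.ble 10 c)
noncomputable def col0_s_12_14 (c : Nat) : Nat := @Bool.rec (fun _ => Nat) (col0_12) (col0_13) (Nat.ble 13 c)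
noncomputable def col0_s_15_17 (c : Nat) : Nat := @Bool.rec (fun _ => Nat) (col0_15) (col0_16) (Nat.ble 16 c)
noncomputable def col0_s_14_17 (c : Nat) : Nat := @Bool.rec (fun _ => Nat) (col0_14) (col0_s_15_17 c) (Nat.ble 15 c)
noncomputable def col0_s_12_17 (c : Nat) : Nat := @Bool.rec (fun _ => Nat) (col0_s_12_14 c) (col0_s_14_17 c) (Nat.ble 14 c)
noncomputable def col0_s_8_17 (c : Nat) : Nat := @Bool.rec (fun _ => Nat) (col0_s_8_12 c) (col0_s_12_17 c) (Nat.ble 12 c)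
noncomputable def col0_s_0_17 (c : Nat) : Nat := @Bool.rec (fun _ => Nat) (col0_s_0_8 c) (col0_s_8_17 c) (Nat.ble 8 c)
noncomputable def col0 (i : Nat) : Nat := rdw 17 131071 (col0_s_0_17 (Nat.shiftRight i 12)) (Nat.land i 4095)
noncomputable def col1_s_0_2 (c : Nat) : Nat := @Bool.rec (fun _ => Nat) (col1_0) (col1_1) (Nat.ble 1 c)
noncomputable def col1_s_2_4 (c : Nat) : Nat := @Bool.rec (fun _ => Nat) (col1_2) (col1_3) (Nat.ble 3 c)
noncomputable def col1_s_0_4 (c : Nat) : Nat := @Bool.rec (fun _ => Nat) (col1_s_0_2 c) (col1_s_2_4 c) (Nat.ble 2 c)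
noncomputable def col1_s_4_6 (c : Nat) : Nat := @Bool.rec (fun _ => Nat) (col1_4) (col1_5) (Nat.ble 5 c)
noncomputable def col1_s_6_8 (c : Nat) : Nat := @Bool.rec (fun _ => Nat) (col1_6) (col1_7) (Nat.ble 7 c)
noncomputable def col1_s_4_8 (c : Nat) : Nat := @Bool.rec (fun _ => Nat) (col1_s_4_6 c) (col1_s_6_8 c) (Nat.ble 6 c)
noncomputable def col1_s_0_8 (c : Nat) : Nat := @Bool.rec (fun _ => Nat) (col1_s_0_4 c) (col1_s_4_8 c) (Nat.ble 4 c)
noncomputable def col1_s_8_10 (c : Nat) : Nat := @Bool.rec (fun _ => Nat) (col1_8) (col1_9) (Nat.ble 9 c)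
noncomputable def col1_s_10_12 (c : Nat) : Nat := @Bool.rec (fun _ => Nat) (col1_10) (col1_11) (Nat.ble 11 c)
noncomputable def col1_s_8_12 (c : Nat) : Nat := @Bool.rec (fun _ => Nat) (col1_s_8_10 c) (col1_s_10_12 c) (Nat.ble 10 c)
noncomputable def col1_s_12_14 (c : Nat) : Nat := @Bool.rec (fun _ => Nat) (col1_12) (col1_13) (Nat.ble 13 c)
noncomputable def col1_s_15_17 (c : Nat) : Nat := @Bool.rec (fun _ => Nat) (col1_15) (col1_16) (Nat.ble 16 c)
noncomputable def col1_s_14_17 (c : Nat) : Nat := @Bool.rec (fun _ => Nat) (col1_14) (col1_s_15_17 c) (Nat.ble 15 c)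
noncomputable def col1_s_12_17 (c : Nat) : Nat := @Bool.rec (fun _ => Nat) (col1_s_12_14 c) (col1_s_14_17 c) (Nat.ble 14 c)
noncomputable def col1_s_8_17 (c : Nat) : Nat := @Bool.rec (fun _ => Nat) (col1_s_8_12 c) (col1_s_12_17 c) (Nat.ble 12 c)
noncomputable def col1_s_0_17 (c : Nat) : Nat := @Bool.rec (fun _ => Nat) (col1_s_0_8 c) (col1_s_8_17 c) (Nat.ble 8 c)
noncomputable def col1 (i : Nat) : Nat := rdw 17 131071 (col1_s_0_17 (Nat.shiftRight i 12)) (Nat.land i 4095)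
noncomputable def col2_s_0_2 (c : Nat) : Nat := @Bool.rec (fun _ => Nat) (col2_0) (col2_1) (Nat.ble 1 c)
noncomputable def col2_s_2_4 (c : Nat) : Nat := @Bool.rec (fun _ => Nat) (col2_2) (col2_3) (Nat.ble 3 c)
noncomputable def col2_s_0_4 (c : Nat) : Nat := @Bool.rec (fun _ => Nat) (col2_s_0_2 c) (col2_s_2_4 c) (Nat.ble 2 c)
noncomputable def col2_s_4_6 (c : Nat) : Nat := @Bool.rec (fun _ => Nat) (col2_4) (col2_5) (Nat.ble 5 c)
noncomputable def col2_s_6_8 (c : Nat) : Nat := @Bool.rec (fun _ => Nat) (col2_6) (col2_7) (Nat.ble 7 c)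
noncomputable def col2_s_4_8 (c : Nat) : Nat := @Bool.rec (fun _ => Nat) (col2_s_4_6 c) (col2_s_6_8 c) (Nat.ble 6 c)
noncomputable def col2_s_0_8 (c : Nat) : Nat := @Bool.rec (fun _ => Nat) (col2_s_0_4 c) (col2_s_4_8 c) (Nat.ble 4 c)
noncomputable def col2_s_8_10 (c : Nat) : Nat := @Bool.rec (fun _ => Nat) (col2_8) (col2_9) (Nat.ble 9 c)
noncomputable def col2_s_10_12 (c : Nat) : Nat := @Bool.rec (fun _ => Nat) (col2_10) (col2_11) (Nat.ble 11 c)
noncomputable def col2_s_8_12 (c : Nat) : Nat := @Bool.rec (fun _ => Nat) (col2_s_8_10 c) (col2_s_10_12 c) (Nat.ble 10 c)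
noncomputable def col2_s_12_14 (c : Nat) : Nat := @Bool.rec (fun _ => Nat) (col2_12) (col2_13) (Nat.ble 13 c)
noncomputable def col2_s_15_17 (c : Nat) : Nat := @Bool.rec (fun _ => Nat) (col2_15) (col2_16) (Nat.ble 16 c)
noncomputable def col2_s_14_17 (c : Nat) : Nat := @Bool.rec (fun _ => Nat) (col2_14) (col2_s_15_17 c) (Nat.ble 15 c)
noncomputable def col2_s_12_17 (c : Nat) : Nat := @Bool.rec (fun _ => Nat) (col2_s_12_14 c) (col2_s_14_17 c) (Nat.ble 14 c)
noncomputable def col2_s_8_17 (c : Nat) : Nat := @Bool.rec (fun _ => Nat) (col2_s_8_12 c) (col2_s_12_17 c) (Nat.ble 12 c)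
noncomputable def col2_s_0_17 (c : Nat) : Nat := @Bool.rec (fun _ => Nat) (col2_s_0_8 c) (col2_s_8_17 c) (Nat.ble 8 c)
noncomputable def col2 (i : Nat) : Nat := rdw 17 131071 (col2_s_0_17 (Nat.shiftRight i 12)) (Nat.land i 4095)
noncomputable def col3_s_0_2 (c : Nat) : Nat := @Bool.rec (fun _ => Nat) (col3_0) (col3_1) (Nat.ble 1 c)
noncomputable def col3_s_2_4 (c : Nat) : Nat := @Bool.rec (fun _ => Nat) (col3_2) (col3_3) (Nat.ble 3 c)
noncomputable def col3_s_0_4 (c : Nat) : Nat := @Bool.rec (fun _ => Nat) (col3_s_0_2 c) (col3_s_2_4 c) (Nat.ble 2 c)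
noncomputable def col3_s_4_6 (c : Nat) : Nat := @Bool.rec (fun _ => Nat) (col3_4) (col3_5) (Nat.ble 5 c)
noncomputable def col3_s_6_8 (c : Nat) : Nat := @Bool.rec (fun _ => Nat) (col3_6) (col3_7) (Nat.ble 7 c)
noncomputable def col3_s_4_8 (c : Nat) : Nat := @Bool.rec (fun _ => Nat) (col3_s_4_6 c) (col3_s_6_8 c) (Nat.ble 6 c)
noncomputable def col3_s_0_8 (c : Nat) : Nat := @Bool.rec (fun _ => Nat) (col3_s_0_4 c) (col3_s_4_8 c) (Nat.ble 4 c)
noncomputable def col3_s_8_10 (c : Nat) : Nat := @Bool.rec (fun _ => Nat) (col3_8) (col3_9) (Nat.ble 9 c)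
noncomputable def col3_s_10_12 (c : Nat) : Nat := @Bool.rec (fun _ => Nat) (col3_10) (col3_11) (Nat.ble 11 c)
noncomputable def col3_s_8_12 (c : Nat) : Nat := @Bool.rec (fun _ => Nat) (col3_s_8_10 c) (col3_s_10_12 c) (Nat.ble 10 c)
noncomputable def col3_s_12_14 (c : Nat) : Nat := @Bool.rec (fun _ => Nat) (col3_12) (col3_13) (Nat.ble 13 c)
noncomputable def col3_s_15_17 (c : Nat) : Nat := @Bool.rec (fun _ => Nat) (col3_15) (col3_16) (Nat.ble 16 c)
noncomputable def col3_s_14_17 (c : Nat) : Nat := @Bool.rec (fun _ => Nat) (col3_14) (col3_s_15_17 c) (Nat.ble 15 c)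
noncomputable def col3_s_12_17 (c : Nat) : Nat := @Bool.rec (fun _ => Nat) (col3_s_12_14 c) (col3_s_14_17 c) (Nat.ble 14 c)
noncomputable def col3_s_8_17 (c : Nat) : Nat := @Bool.rec (fun _ => Nat) (col3_s_8_12 c) (col3_s_12_17 c) (Nat.ble 12 c)
noncomputable def col3_s_0_17 (c : Nat) : Nat := @Bool.rec (fun _ => Nat) (col3_s_0_8 c) (col3_s_8_17 c) (Nat.ble 8 c)
noncomputable def col3 (i : Nat) : Nat := rdw 17 131071 (col3_s_0_17 (Nat.shiftRight i 12)) (Nat.land i 4095)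
noncomputable def col4_s_0_2 (c : Nat) : Nat := @Bool.rec (fun _ => Nat) (col4_0) (col4_1) (Nat.ble 1 c)
noncomputable def col4_s_2_4 (c : Nat) : Nat := @Bool.rec (fun _ => Nat) (col4_2) (col4_3) (Nat.ble 3 c)
noncomputable def col4_s_0_4 (c : Nat) : Nat := @Bool.rec (fun _ => Nat) (col4_s_0_2 c) (col4_s_2_4 c) (Nat.ble 2 c)
noncomputable def col4_s_4_6 (c : Nat) : Nat := @Bool.rec (fun _ => Nat) (col4_4) (col4_5) (Nat.ble 5 c)
noncomputable def col4_s_6_8 (c : Nat) : Nat := @Bool.rec (fun _ => Nat) (col4_6) (col4_7) (Nat.ble 7 c)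
noncomputable def col4_s_4_8 (c : Nat) : Nat := @Bool.rec (fun _ => Nat) (col4_s_4_6 c) (col4_s_6_8 c) (Nat.ble 6 c)
noncomputable def col4_s_0_8 (c : Nat) : Nat := @Bool.rec (fun _ => Nat) (col4_s_0_4 c) (col4_s_4_8 c) (Nat.ble 4 c)
noncomputable def col4_s_8_10 (c : Nat) : Nat := @Bool.rec (fun _ => Nat) (col4_8) (col4_9) (Nat.ble 9 c)
noncomputable def col4_s_10_12 (c : Nat) : Nat := @Bool.rec (fun _ => Nat) (col4_10) (col4_11) (Nat.ble 11 c)
noncomputable def col4_s_8_12 (c : Nat) : Nat := @Bool.rec (fun _ => Nat) (col4_s_8_10 c) (col4_s_10_12 c) (Nat.ble 10 c)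
noncomputable def col4_s_12_14 (c : Nat) : Nat := @Bool.rec (fun _ => Nat) (col4_12) (col4_13) (Nat.ble 13 c)
noncomputable def col4_s_15_17 (c : Nat) : Nat := @Bool.rec (fun _ => Nat) (col4_15) (col4_16) (Nat.ble 16 c)
noncomputable def col4_s_14_17 (c : Nat) : Nat := @Bool.rec (fun _ => Nat) (col4_14) (col4_s_15_17 c) (Nat.ble 15 c)
noncomputable def col4_s_12_17 (c : Nat) : Nat := @Bool.rec (fun _ => Nat) (col4_s_12_14 c) (col4_s_14_17 c) (Nat.ble 14 c)
noncomputable def col4_s_8_17 (c : Nat) : Nat := @Bool.rec (fun _ => Nat) (col4_s_8_12 c) (col4_s_12_17 c) (Nat.ble 12 c)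
noncomputable def col4_s_0_17 (c : Nat) : Nat := @Bool.rec (fun _ => Nat) (col4_s_0_8 c) (col4_s_8_17 c) (Nat.ble 8 c)
noncomputable def col4 (i : Nat) : Nat := rdw 17 131071 (col4_s_0_17 (Nat.shiftRight i 12)) (Nat.land i 4095)
noncomputable def col5_s_0_2 (c : Nat) : Nat := @Bool.rec (fun _ => Nat) (col5_0) (col5_1) (Nat.ble 1 c)
noncomputable def col5_s_2_4 (c : Nat) : Nat := @Bool.rec (fun _ => Nat) (col5_2) (col5_3) (Nat.ble 3 c)
noncomputable def col5_s_0_4 (c : Nat) : Nat := @Bool.rec (fun _ => Nat) (col5_s_0_2 c) (col5_s_2_4 c) (Nat.ble 2 c)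
noncomputable def col5_s_4_6 (c : Nat) : Nat := @Bool.rec (fun _ => Nat) (col5_4) (col5_5) (Nat.ble 5 c)
noncomputable def col5_s_6_8 (c : Nat) : Nat := @Bool.rec (fun _ => Nat) (col5_6) (col5_7) (Nat.ble 7 c)
noncomputable def col5_s_4_8 (c : Nat) : Nat := @Bool.rec (fun _ => Nat) (col5_s_4_6 c) (col5_s_6_8 c) (Nat.ble 6 c)
noncomputable def col5_s_0_8 (c : Nat) : Nat := @Bool.rec (fun _ => Nat) (col5_s_0_4 c) (col5_s_4_8 c) (Nat.ble 4 c)
noncomputable def col5_s_8_10 (c : Nat) : Nat := @Bool.rec (fun _ => Nat) (col5_8) (col5_9) (Nat.ble 9 c)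
noncomputable def col5_s_10_12 (c : Nat) : Nat := @Bool.rec (fun _ => Nat) (col5_10) (col5_11) (Nat.ble 11 c)
noncomputable def col5_s_8_12 (c : Nat) : Nat := @Bool.rec (fun _ => Nat) (col5_s_8_10 c) (col5_s_10_12 c) (Nat.ble 10 c)
noncomputable def col5_s_12_14 (c : Nat) : Nat := @Bool.rec (fun _ => Nat) (col5_12) (col5_13) (Nat.ble 13 c)
noncomputable def col5_s_15_17 (c : Nat) : Nat := @Bool.rec (fun _ => Nat) (col5_15) (col5_16) (Nat.ble 16 c)
noncomputable def col5_s_14_17 (c : Nat) : Nat := @Bool.rec (fun _ => Nat) (col5_14) (col5_s_15_17 c) (Nat.ble 15 c)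
noncomputable def col5_s_12_17 (c : Nat) : Nat := @Bool.rec (fun _ => Nat) (col5_s_12_14 c) (col5_s_14_17 c) (Nat.ble 14 c)
noncomputable def col5_s_8_17 (c : Nat) : Nat := @Bool.rec (fun _ => Nat) (col5_s_8_12 c) (col5_s_12_17 c) (Nat.ble 12 c)
noncomputable def col5_s_0_17 (c : Nat) : Nat := @Bool.rec (fun _ => Nat) (col5_s_0_8 c) (col5_s_8_17 c) (Nat.ble 8 c)
noncomputable def col5 (i : Nat) : Nat := rdw 17 131071 (col5_s_0_17 (Nat.shiftRight i 12)) (Nat.land i 4095)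
noncomputable def col6_s_0_2 (c : Nat) : Nat := @Bool.rec (fun _ => Nat) (col6_0) (col6_1) (Nat.ble 1 c)
noncomputable def col6_s_2_4 (c : Nat) : Nat := @Bool.rec (fun _ => Nat) (col6_2) (col6_3) (Nat.ble 3 c)
noncomputable def col6_s_0_4 (c : Nat) : Nat := @Bool.rec (fun _ => Nat) (col6_s_0_2 c) (col6_s_2_4 c) (Nat.ble 2 c)
noncomputable def col6_s_4_6 (c : Nat) : Nat := @Bool.rec (fun _ => Nat) (col6_4) (col6_5) (Nat.ble 5 c)
noncomputable def col6_s_6_8 (c : Nat) : Nat := @Bool.rec (fun _ => Nat) (col6_6) (col6_7) (Nat.ble 7 c)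
noncomputable def col6_s_4_8 (c : Nat) : Nat := @Bool.rec (fun _ => Nat) (col6_s_4_6 c) (col6_s_6_8 c) (Nat.ble 6 c)
noncomputable def col6_s_0_8 (c : Nat) : Nat := @Bool.rec (fun _ => Nat) (col6_s_0_4 c) (col6_s_4_8 c) (Nat.ble 4 c)
noncomputable def col6_s_8_10 (c : Nat) : Nat := @Bool.rec (fun _ => Nat) (col6_8) (col6_9) (Nat.ble 9 c)
noncomputable def col6_s_10_12 (c : Nat) : Nat := @Bool.rec (fun _ => Nat) (col6_10) (col6_11) (Nat.ble 11 c)
noncomputable def col6_s_8_12 (c : Nat) : Nat := @Bool.rec (fun _ => Nat) (col6_s_8_10 c) (col6_s_10_12 c) (Nat.ble 10 c)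
noncomputable def col6_s_12_14 (c : Nat) : Nat := @Bool.rec (fun _ => Nat) (col6_12) (col6_13) (Nat.ble 13 c)
noncomputable def col6_s_15_17 (c : Nat) : Nat := @Bool.rec (fun _ => Nat) (col6_15) (col6_16) (Nat.ble 16 c)
noncomputable def col6_s_14_17 (c : Nat) : Nat := @Bool.rec (fun _ => Nat) (col6_14) (col6_s_15_17 c) (Nat.ble 15 c)
noncomputable def col6_s_12_17 (c : Nat) : Nat := @Bool.rec (fun _ => Nat) (col6_s_12_14 c) (col6_s_14_17 c) (Nat.ble 14 c)
noncomputable def col6_s_8_17 (c : Nat) : Nat := @Bool.rec (fun _ => Nat) (col6_s_8_12 c) (col6_s_12_17 c) (Nat.ble 12 c)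
noncomputable def col6_s_0_17 (c : Nat) : Nat := @Bool.rec (fun _ => Nat) (col6_s_0_8 c) (col6_s_8_17 c) (Nat.ble 8 c)
noncomputable def col6 (i : Nat) : Nat := rdw 17 131071 (col6_s_0_17 (Nat.shiftRight i 12)) (Nat.land i 4095)
noncomputable def col7_s_0_2 (c : Nat) : Nat := @Bool.rec (fun _ => Nat) (col7_0) (col7_1) (Nat.ble 1 c)
noncomputable def col7_s_2_4 (c : Nat) : Nat := @Bool.rec (fun _ => Nat) (col7_2) (col7_3) (Nat.ble 3 c)
noncomputable def col7_s_0_4 (c : Nat) : Nat := @Bool.rec (fun _ => Nat) (col7_s_0_2 c) (col7_s_2_4 c) (Nat.ble 2 c)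
noncomputable def col7_s_4_6 (c : Nat) : Nat := @Bool.rec (fun _ => Nat) (col7_4) (col7_5) (Nat.ble 5 c)
noncomputable def col7_s_6_8 (c : Nat) : Nat := @Bool.rec (fun _ => Nat) (col7_6) (col7_7) (Nat.ble 7 c)
noncomputable def col7_s_4_8 (c : Nat) : Nat := @Bool.rec (fun _ => Nat) (col7_s_4_6 c) (col7_s_6_8 c) (Nat.ble 6 c)
noncomputable def col7_s_0_8 (c : Nat) : Nat := @Bool.rec (fun _ => Nat) (col7_s_0_4 c) (col7_s_4_8 c) (Nat.ble 4 c)
noncomputable def col7_s_8_10 (c : Nat) : Nat := @Bool.rec (fun _ => Nat) (col7_8) (col7_9) (Nat.ble 9 c)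
noncomputable def col7_s_10_12 (c : Nat) : Nat := @Bool.rec (fun _ => Nat) (col7_10) (col7_11) (Nat.ble 11 c)
noncomputable def col7_s_8_12 (c : Nat) : Nat := @Bool.rec (fun _ => Nat) (col7_s_8_10 c) (col7_s_10_12 c) (Nat.ble 10 c)
noncomputable def col7_s_12_14 (c : Nat) : Nat := @Bool.rec (fun _ => Nat) (col7_12) (col7_13) (Nat.ble 13 c)
noncomputable def col7_s_15_17 (c : Nat) : Nat := @Bool.rec (fun _ => Nat) (col7_15) (col7_16) (Nat.ble 16 c)
noncomputable def col7_s_14_17 (c : Nat) : Nat := @Bool.rec (fun _ => Nat) (col7_14) (col7_s_15_17 c) (Nat.ble 15 c)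
noncomputable def col7_s_12_17 (c : Nat) : Nat := @Bool.rec (fun _ => Nat) (col7_s_12_14 c) (col7_s_14_17 c) (Nat.ble 14 c)
noncomputable def col7_s_8_17 (c : Nat) : Nat := @Bool.rec (fun _ => Nat) (col7_s_8_12 c) (col7_s_12_17 c) (Nat.ble 12 c)
noncomputable def col7_s_0_17 (c : Nat) : Nat := @Bool.rec (fun _ => Nat) (col7_s_0_8 c) (col7_s_8_17 c) (Nat.ble 8 c)
noncomputable def col7 (i : Nat) : Nat := rdw 17 131071 (col7_s_0_17 (Nat.shiftRight i 12)) (Nat.land i 4095)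
noncomputable def col8_s_0_2 (c : Nat) : Nat := @Bool.rec (fun _ => Nat) (col8_0) (col8_1) (Nat.ble 1 c)
noncomputable def col8_s_2_4 (c : Nat) : Nat := @Bool.rec (fun _ => Nat) (col8_2) (col8_3) (Nat.ble 3 c)
noncomputable def col8_s_0_4 (c : Nat) : Nat := @Bool.rec (fun _ => Nat) (col8_s_0_2 c) (col8_s_2_4 c) (Nat.ble 2 c)
noncomputable def col8_s_4_6 (c : Nat) : Nat := @Bool.rec (fun _ => Nat) (col8_4) (col8_5) (Nat.ble 5 c)
noncomputable def col8_s_6_8 (c : Nat) : Nat := @Bool.rec (fun _ => Nat) (col8_6) (col8_7) (Nat.ble 7 c)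
noncomputable def col8_s_4_8 (c : Nat) : Nat := @Bool.rec (fun _ => Nat) (col8_s_4_6 c) (col8_s_6_8 c) (Nat.ble 6 c)
noncomputable def col8_s_0_8 (c : Nat) : Nat := @Bool.rec (fun _ => Nat) (col8_s_0_4 c) (col8_s_4_8 c) (Nat.ble 4 c)
noncomputable def col8_s_8_10 (c : Nat) : Nat := @Bool.rec (fun _ => Nat) (col8_8) (col8_9) (Nat.ble 9 c)
noncomputable def col8_s_10_12 (c : Nat) : Nat := @Bool.rec (fun _ => Nat) (col8_10) (col8_11) (Nat.ble 11 c)
noncomputable def col8_s_8_12 (c : Nat) : Nat := @Bool.rec (fun _ => Nat) (col8_s_8_10 c) (col8_s_10_12 c) (Nat.ble 10 c)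
noncomputable def col8_s_12_14 (c : Nat) : Nat := @Bool.rec (fun _ => Nat) (col8_12) (col8_13) (Nat.ble 13 c)
noncomputable def col8_s_15_17 (c : Nat) : Nat := @Bool.rec (fun _ => Nat) (col8_15) (col8_16) (Nat.ble 16 c)
noncomputable def col8_s_14_17 (c : Nat) : Nat := @Bool.rec (fun _ => Nat) (col8_14) (col8_s_15_17 c) (Nat.ble 15 c)
noncomputable def col8_s_12_17 (c : Nat) : Nat := @Bool.rec (fun _ => Nat) (col8_s_12_14 c) (col8_s_14_17 c) (Nat.ble 14 c)
noncomputable def col8_s_8_17 (c : Nat) : Nat := @Bool.rec (fun _ => Nat) (col8_s_8_12 c) (col8_s_12_17 c) (Nat.ble 12 c)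
noncomputable def col8_s_0_17 (c : Nat) : Nat := @Bool.rec (fun _ => Nat) (col8_s_0_8 c) (col8_s_8_17 c) (Nat.ble 8 c)
noncomputable def col8 (i : Nat) : Nat := rdw 17 131071 (col8_s_0_17 (Nat.shiftRight i 12)) (Nat.land i 4095)
noncomputable def col9_s_0_2 (c : Nat) : Nat := @Bool.rec (fun _ => Nat) (col9_0) (col9_1) (Nat.ble 1 c)
noncomputable def col9_s_2_4 (c : Nat) : Nat := @Bool.rec (fun _ => Nat) (col9_2) (col9_3) (Nat.ble 3 c)
noncomputable def col9_s_0_4 (c : Nat) : Nat := @Bool.rec (fun _ => Nat) (col9_s_0_2 c) (col9_s_2_4 c) (Nat.ble 2 c)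
noncomputable def col9_s_4_6 (c : Nat) : Nat := @Bool.rec (fun _ => Nat) (col9_4) (col9_5) (Nat.ble 5 c)
noncomputable def col9_s_6_8 (c : Nat) : Nat := @Bool.rec (fun _ => Nat) (col9_6) (col9_7) (Nat.ble 7 c)
noncomputable def col9_s_4_8 (c : Nat) : Nat := @Bool.rec (fun _ => Nat) (col9_s_4_6 c) (col9_s_6_8 c) (Nat.ble 6 c)
noncomputable def col9_s_0_8 (c : Nat) : Nat := @Bool.rec (fun _ => Nat) (col9_s_0_4 c) (col9_s_4_8 c) (Nat.ble 4 c)
noncomputable def col9_s_8_10 (c : Nat) : Nat := @Bool.rec (fun _ => Nat) (col9_8) (col9_9) (Nat.ble 9 c)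
noncomputable def col9_s_10_12 (c : Nat) : Nat := @Bool.rec (fun _ => Nat) (col9_10) (col9_11) (Nat.ble 11 c)
noncomputable def col9_s_8_12 (c : Nat) : Nat := @Bool.rec (fun _ => Nat) (col9_s_8_10 c) (col9_s_10_12 c) (Nat.ble 10 c)
noncomputable def col9_s_12_14 (c : Nat) : Nat := @Bool.rec (fun _ => Nat) (col9_12) (col9_13) (Nat.ble 13 c)
noncomputable def col9_s_15_17 (c : Nat) : Nat := @Bool.rec (fun _ => Nat) (col9_15) (col9_16) (Nat.ble 16 c)
noncomputable def col9_s_14_17 (c : Nat) : Nat := @Bool.rec (fun _ => Nat) (col9_14) (col9_s_15_17 c) (Nat.ble 15 c)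
noncomputable def col9_s_12_17 (c : Nat) : Nat := @Bool.rec (fun _ => Nat) (col9_s_12_14 c) (col9_s_14_17 c) (Nat.ble 14 c)
noncomputable def col9_s_8_17 (c : Nat) : Nat := @Bool.rec (fun _ => Nat) (col9_s_8_12 c) (col9_s_12_17 c) (Nat.ble 12 c)
noncomputable def col9_s_0_17 (c : Nat) : Nat := @Bool.rec (fun _ => Nat) (col9_s_0_8 c) (col9_s_8_17 c) (Nat.ble 8 c)
noncomputable def col9 (i : Nat) : Nat := rdw 17 131071 (col9_s_0_17 (Nat.shiftRight i 12)) (Nat.land i 4095)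
noncomputable def col10_s_0_2 (c : Nat) : Nat := @Bool.rec (fun _ => Nat) (col10_0) (col10_1) (Nat.ble 1 c)
noncomputable def col10_s_2_4 (c : Nat) : Nat := @Bool.rec (fun _ => Nat) (col10_2) (col10_3) (Nat.ble 3 c)
noncomputable def col10_s_0_4 (c : Nat) : Nat := @Bool.rec (fun _ => Nat) (col10_s_0_2 c) (col10_s_2_4 c) (Nat.ble 2 c)
noncomputable def col10_s_4_6 (c : Nat) : Nat := @Bool.rec (fun _ => Nat) (col10_4) (col10_5) (Nat.ble 5 c)
noncomputable def col10_s_6_8 (c : Nat) : Nat := @Bool.rec (fun _ => Nat) (col10_6) (col10_7) (Nat.ble 7 c)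
noncomputable def col10_s_4_8 (c : Nat) : Nat := @Bool.rec (fun _ => Nat) (col10_s_4_6 c) (col10_s_6_8 c) (Nat.ble 6 c)
noncomputable def col10_s_0_8 (c : Nat) : Nat := @Bool.rec (fun _ => Nat) (col10_s_0_4 c) (col10_s_4_8 c) (Nat.ble 4 c)
noncomputable def col10_s_8_10 (c : Nat) : Nat := @Bool.rec (fun _ => Nat) (col10_8) (col10_9) (Nat.ble 9 c)
noncomputable def col10_s_10_12 (c : Nat) : Nat := @Bool.rec (fun _ => Nat) (col10_10) (col10_11) (Nat.ble 11 c)
noncomputable def col10_s_8_12 (c : Nat) : Nat := @Bool.rec (fun _ => Nat) (col10_s_8_10 c) (col10_s_10_12 c) (Nat.ble 10 c)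
noncomputable def col10_s_12_14 (c : Nat) : Nat := @Bool.rec (fun _ => Nat) (col10_12) (col10_13) (Nat.ble 13 c)
noncomputable def col10_s_15_17 (c : Nat) : Nat := @Bool.rec (fun _ => Nat) (col10_15) (col10_16) (Nat.ble 16 c)
noncomputable def col10_s_14_17 (c : Nat) : Nat := @Bool.rec (fun _ => Nat) (col10_14) (col10_s_15_17 c) (Nat.ble 15 c)
noncomputable def col10_s_12_17 (c : Nat) : Nat := @Bool.rec (fun _ => Nat) (col10_s_12_14 c) (col10_s_14_17 c) (Nat.ble 14 c)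
noncomputable def col10_s_8_17 (c : Nat) : Nat := @Bool.rec (fun _ => Nat) (col10_s_8_12 c) (col10_s_12_17 c) (Nat.ble 12 c)
noncomputable def col10_s_0_17 (c : Nat) : Nat := @Bool.rec (fun _ => Nat) (col10_s_0_8 c) (col10_s_8_17 c) (Nat.ble 8 c)
noncomputable def col10 (i : Nat) : Nat := rdw 17 131071 (col10_s_0_17 (Nat.shiftRight i 12)) (Nat.land i 4095)
noncomputable def col11_s_0_2 (c : Nat) : Nat := @Bool.rec (fun _ => Nat) (col11_0) (col11_1) (Nat.ble 1 c)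
noncomputable def col11_s_2_4 (c : Nat) : Nat := @Bool.rec (fun _ => Nat) (col11_2) (col11_3) (Nat.ble 3 c)
noncomputable def col11_s_0_4 (c : Nat) : Nat := @Bool.rec (fun _ => Nat) (col11_s_0_2 c) (col11_s_2_4 c) (Nat.ble 2 c)
noncomputable def col11_s_4_6 (c : Nat) : Nat := @Bool.rec (fun _ => Nat) (col11_4) (col11_5) (Nat.ble 5 c)
noncomputable def col11_s_6_8 (c : Nat) : Nat := @Bool.rec (fun _ => Nat) (col11_6) (col11_7) (Nat.ble 7 c)
noncomputable def col11_s_4_8 (c : Nat) : Nat := @Bool.rec (fun _ => Nat) (col11_s_4_6 c) (col11_s_6_8 c) (Nat.ble 6 c)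
noncomputable def col11_s_0_8 (c : Nat) : Nat := @Bool.rec (fun _ => Nat) (col11_s_0_4 c) (col11_s_4_8 c) (Nat.ble 4 c)
noncomputable def col11_s_8_10 (c : Nat) : Nat := @Bool.rec (fun _ => Nat) (col11_8) (col11_9) (Nat.ble 9 c)
noncomputable def col11_s_10_12 (c : Nat) : Nat := @Bool.rec (fun _ => Nat) (col11_10) (col11_11) (Nat.ble 11 c)
noncomputable def col11_s_8_12 (c : Nat) : Nat := @Bool.rec (fun _ => Nat) (col11_s_8_10 c) (col11_s_10_12 c) (Nat.ble 10 c)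
noncomputable def col11_s_12_14 (c : Nat) : Nat := @Bool.rec (fun _ => Nat) (col11_12) (col11_13) (Nat.ble 13 c)
noncomputable def col11_s_15_17 (c : Nat) : Nat := @Bool.rec (fun _ => Nat) (col11_15) (col11_16) (Nat.ble 16 c)
noncomputable def col11_s_14_17 (c : Nat) : Nat := @Bool.rec (fun _ => Nat) (col11_14) (col11_s_15_17 c) (Nat.ble 15 c)
noncomputable def col11_s_12_17 (c : Nat) : Nat := @Bool.rec (fun _ => Nat) (col11_s_12_14 c) (col11_s_14_17 c) (Nat.ble 14 c)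
noncomputable def col11_s_8_17 (c : Nat) : Nat := @Bool.rec (fun _ => Nat) (col11_s_8_12 c) (col11_s_12_17 c) (Nat.ble 12 c)
noncomputable def col11_s_0_17 (c : Nat) : Nat := @Bool.rec (fun _ => Nat) (col11_s_0_8 c) (col11_s_8_17 c) (Nat.ble 8 c)
noncomputable def col11 (i : Nat) : Nat := rdw 17 131071 (col11_s_0_17 (Nat.shiftRight i 12)) (Nat.land i 4095)
noncomputable def col12_s_0_2 (c : Nat) : Nat := @Bool.rec (fun _ => Nat) (col12_0) (col12_1) (Nat.ble 1 c)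
noncomputable def col12_s_2_4 (c : Nat) : Nat := @Bool.rec (fun _ => Nat) (col12_2) (col12_3) (Nat.ble 3 c)
noncomputable def col12_s_0_4 (c : Nat) : Nat := @Bool.rec (fun _ => Nat) (col12_s_0_2 c) (col12_s_2_4 c) (Nat.ble 2 c)
noncomputable def col12_s_4_6 (c : Nat) : Nat := @Bool.rec (fun _ => Nat) (col12_4) (col12_5) (Nat.ble 5 c)
noncomputable def col12_s_6_8 (c : Nat) : Nat := @Bool.rec (fun _ => Nat) (col12_6) (col12_7) (Nat.ble 7 c)
noncomputable def col12_s_4_8 (c : Nat) : Nat := @Bool.rec (fun _ => Nat) (col12_s_4_6 c) (col12_s_6_8 c) (Nat.ble 6 c)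
noncomputable def col12_s_0_8 (c : Nat) : Nat := @Bool.rec (fun _ => Nat) (col12_s_0_4 c) (col12_s_4_8 c) (Nat.ble 4 c)
noncomputable def col12_s_8_10 (c : Nat) : Nat := @Bool.rec (fun _ => Nat) (col12_8) (col12_9) (Nat.ble 9 c)
noncomputable def col12_s_10_12 (c : Nat) : Nat := @Bool.rec (fun _ => Nat) (col12_10) (col12_11) (Nat.ble 11 c)
noncomputable def col12_s_8_12 (c : Nat) : Nat := @Bool.rec (fun _ => Nat) (col12_s_8_10 c) (col12_s_10_12 c) (Nat.ble 10 c)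
noncomputable def col12_s_12_14 (c : Nat) : Nat := @Bool.rec (fun _ => Nat) (col12_12) (col12_13) (Nat.ble 13 c)
noncomputable def col12_s_15_17 (c : Nat) : Nat := @Bool.rec (fun _ => Nat) (col12_15) (col12_16) (Nat.ble 16 c)
noncomputable def col12_s_14_17 (c : Nat) : Nat := @Bool.rec (fun _ => Nat) (col12_14) (col12_s_15_17 c) (Nat.ble 15 c)
noncomputable def col12_s_12_17 (c : Nat) : Nat := @Bool.rec (fun _ => Nat) (col12_s_12_14 c) (col12_s_14_17 c) (Nat.ble 14 c)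
noncomputable def col12_s_8_17 (c : Nat) : Nat := @Bool.rec (fun _ => Nat) (col12_s_8_12 c) (col12_s_12_17 c) (Nat.ble 12 c)
noncomputable def col12_s_0_17 (c : Nat) : Nat := @Bool.rec (fun _ => Nat) (col12_s_0_8 c) (col12_s_8_17 c) (Nat.ble 8 c)
noncomputable def col12 (i : Nat) : Nat := rdw 17 131071 (col12_s_0_17 (Nat.shiftRight i 12)) (Nat.land i 4095)
noncomputable def col13_s_0_2 (c : Nat) : Nat := @Bool.rec (fun _ => Nat) (col13_0) (col13_1) (Nat.ble 1 c)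
noncomputable def col13_s_2_4 (c : Nat) : Nat := @Bool.rec (fun _ => Nat) (col13_2) (col13_3) (Nat.ble 3 c)
noncomputable def col13_s_0_4 (c : Nat) : Nat := @Bool.rec (fun _ => Nat) (col13_s_0_2 c) (col13_s_2_4 c) (Nat.ble 2 c)
noncomputable def col13_s_4_6 (c : Nat) : Nat := @Bool.rec (fun _ => Nat) (col13_4) (col13_5) (Nat.ble 5 c)
noncomputable def col13_s_6_8 (c : Nat) : Nat := @Bool.rec (fun _ => Nat) (col13_6) (col13_7) (Nat.ble 7 c)
noncomputable def col13_s_4_8 (c : Nat) : Nat := @Bool.rec (fun _ => Nat) (col13_s_4_6 c) (col13_s_6_8 c) (Nat.ble 6 c)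
noncomputable def col13_s_0_8 (c : Nat) : Nat := @Bool.rec (fun _ => Nat) (col13_s_0_4 c) (col13_s_4_8 c) (Nat.ble 4 c)
noncomputable def col13_s_8_10 (c : Nat) : Nat := @Bool.rec (fun _ => Nat) (col13_8) (col13_9) (Nat.ble 9 c)
noncomputable def col13_s_10_12 (c : Nat) : Nat := @Bool.rec (fun _ => Nat) (col13_10) (col13_11) (Nat.ble 11 c)
noncomputable def col13_s_8_12 (c : Nat) : Nat := @Bool.rec (fun _ => Nat) (col13_s_8_10 c) (col13_s_10_12 c) (Nat.ble 10 c)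
noncomputable def col13_s_12_14 (c : Nat) : Nat := @Bool.rec (fun _ => Nat) (col13_12) (col13_13) (Nat.ble 13 c)
noncomputable def col13_s_15_17 (c : Nat) : Nat := @Bool.rec (fun _ => Nat) (col13_15) (col13_16) (Nat.ble 16 c)
noncomputable def col13_s_14_17 (c : Nat) : Nat := @Bool.rec (fun _ => Nat) (col13_14) (col13_s_15_17 c) (Nat.ble 15 c)
noncomputable def col13_s_12_17 (c : Nat) : Nat := @Bool.rec (fun _ => Nat) (col13_s_12_14 c) (col13_s_14_17 c) (Nat.ble 14 c)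
noncomputable def col13_s_8_17 (c : Nat) : Nat := @Bool.rec (fun _ => Nat) (col13_s_8_12 c) (col13_s_12_17 c) (Nat.ble 12 c)
noncomputable def col13_s_0_17 (c : Nat) : Nat := @Bool.rec (fun _ => Nat) (col13_s_0_8 c) (col13_s_8_17 c) (Nat.ble 8 c)
noncomputable def col13 (i : Nat) : Nat := rdw 17 131071 (col13_s_0_17 (Nat.shiftRight i 12)) (Nat.land i 4095)
noncomputable def col14_s_0_2 (c : Nat) : Nat := @Bool.rec (fun _ => Nat) (col14_0) (col14_1) (Nat.ble 1 c)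
noncomputable def col14_s_2_4 (c : Nat) : Nat := @Bool.rec (fun _ => Nat) (col14_2) (col14_3) (Nat.ble 3 c)
noncomputable def col14_s_0_4 (c : Nat) : Nat := @Bool.rec (fun _ => Nat) (col14_s_0_2 c) (col14_s_2_4 c) (Nat.ble 2 c)
noncomputable def col14_s_4_6 (c : Nat) : Nat := @Bool.rec (fun _ => Nat) (col14_4) (col14_5) (Nat.ble 5 c)
noncomputable def col14_s_6_8 (c : Nat) : Nat := @Bool.rec (fun _ => Nat) (col14_6) (col14_7) (Nat.ble 7 c)
noncomputable def col14_s_4_8 (c : Nat) : Nat := @Bool.rec (fun _ => Nat) (col14_s_4_6 c) (col14_s_6_8 c) (Nat.ble 6 c)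
noncomputable def col14_s_0_8 (c : Nat) : Nat := @Bool.rec (fun _ => Nat) (col14_s_0_4 c) (col14_s_4_8 c) (Nat.ble 4 c)
noncomputable def col14_s_8_10 (c : Nat) : Nat := @Bool.rec (fun _ => Nat) (col14_8) (col14_9) (Nat.ble 9 c)
noncomputable def col14_s_10_12 (c : Nat) : Nat := @Bool.rec (fun _ => Nat) (col14_10) (col14_11) (Nat.ble 11 c)
noncomputable def col14_s_8_12 (c : Nat) : Nat := @Bool.rec (fun _ => Nat) (col14_s_8_10 c) (col14_s_10_12 c) (Nat.ble 10 c)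
noncomputable def col14_s_12_14 (c : Nat) : Nat := @Bool.rec (fun _ => Nat) (col14_12) (col14_13) (Nat.ble 13 c)
noncomputable def col14_s_15_17 (c : Nat) : Nat := @Bool.rec (fun _ => Nat) (col14_15) (col14_16) (Nat.ble 16 c)
noncomputable def col14_s_14_17 (c : Nat) : Nat := @Bool.rec (fun _ => Nat) (col14_14) (col14_s_15_17 c) (Nat.ble 15 c)
noncomputable def col14_s_12_17 (c : Nat) : Nat := @Bool.rec (fun _ => Nat) (col14_s_12_14 c) (col14_s_14_17 c) (Nat.ble 14 c)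
noncomputable def col14_s_8_17 (c : Nat) : Nat := @Bool.rec (fun _ => Nat) (col14_s_8_12 c) (col14_s_12_17 c) (Nat.ble 12 c)
noncomputable def col14_s_0_17 (c : Nat) : Nat := @Bool.rec (fun _ => Nat) (col14_s_0_8 c) (col14_s_8_17 c) (Nat.ble 8 c)
noncomputable def col14 (i : Nat) : Nat := rdw 17 131071 (col14_s_0_17 (Nat.shiftRight i 12)) (Nat.land i 4095)
noncomputable def col15_s_0_2 (c : Nat) : Nat := @Bool.rec (fun _ => Nat) (col15_0) (col15_1) (Nat.ble 1 c)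
noncomputable def col15_s_2_4 (c : Nat) : Nat := @Bool.rec (fun _ => Nat) (col15_2) (col15_3) (Nat.ble 3 c)
noncomputable def col15_s_0_4 (c : Nat) : Nat := @Bool.rec (fun _ => Nat) (col15_s_0_2 c) (col15_s_2_4 c) (Nat.ble 2 c)
noncomputable def col15_s_4_6 (c : Nat) : Nat := @Bool.rec (fun _ => Nat) (col15_4) (col15_5) (Nat.ble 5 c)
noncomputable def col15_s_6_8 (c : Nat) : Nat := @Bool.rec (fun _ => Nat) (col15_6) (col15_7) (Nat.ble 7 c)
noncomputable def col15_s_4_8 (c : Nat) : Nat := @Bool.rec (fun _ => Nat) (col15_s_4_6 c) (col15_s_6_8 c) (Nat.ble 6 c)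
noncomputable def col15_s_0_8 (c : Nat) : Nat := @Bool.rec (fun _ => Nat) (col15_s_0_4 c) (col15_s_4_8 c) (Nat.ble 4 c)
noncomputable def col15_s_8_10 (c : Nat) : Nat := @Bool.rec (fun _ => Nat) (col15_8) (col15_9) (Nat.ble 9 c)
noncomputable def col15_s_10_12 (c : Nat) : Nat := @Bool.rec (fun _ => Nat) (col15_10) (col15_11) (Nat.ble 11 c)
noncomputable def col15_s_8_12 (c : Nat) : Nat := @Bool.rec (fun _ => Nat) (col15_s_8_10 c) (col15_s_10_12 c) (Nat.ble 10 c)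
noncomputable def col15_s_12_14 (c : Nat) : Nat := @Bool.rec (fun _ => Nat) (col15_12) (col15_13) (Nat.ble 13 c)
noncomputable def col15_s_15_17 (c : Nat) : Nat := @Bool.rec (fun _ => Nat) (col15_15) (col15_16) (Nat.ble 16 c)
noncomputable def col15_s_14_17 (c : Nat) : Nat := @Bool.rec (fun _ => Nat) (col15_14) (col15_s_15_17 c) (Nat.ble 15 c)
noncomputable def col15_s_12_17 (c : Nat) : Nat := @Bool.rec (fun _ => Nat) (col15_s_12_14 c) (col15_s_14_17 c) (Nat.ble 14 c)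
noncomputable def col15_s_8_17 (c : Nat) : Nat := @Bool.rec (fun _ => Nat) (col15_s_8_12 c) (col15_s_12_17 c) (Nat.ble 12 c)
noncomputable def col15_s_0_17 (c : Nat) : Nat := @Bool.rec (fun _ => Nat) (col15_s_0_8 c) (col15_s_8_17 c) (Nat.ble 8 c)
noncomputable def col15 (i : Nat) : Nat := rdw 17 131071 (col15_s_0_17 (Nat.shiftRight i 12)) (Nat.land i 4095)
noncomputable def col16_s_0_2 (c : Nat) : Nat := @Bool.rec (fun _ => Nat) (col16_0) (col16_1) (Nat.ble 1 c)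
noncomputable def col16_s_2_4 (c : Nat) : Nat := @Bool.rec (fun _ => Nat) (col16_2) (col16_3) (Nat.ble 3 c)
noncomputable def col16_s_0_4 (c : Nat) : Nat := @Bool.rec (fun _ => Nat) (col16_s_0_2 c) (col16_s_2_4 c) (Nat.ble 2 c)
noncomputable def col16_s_4_6 (c : Nat) : Nat := @Bool.rec (fun _ => Nat) (col16_4) (col16_5) (Nat.ble 5 c)
noncomputable def col16_s_6_8 (c : Nat) : Nat := @Bool.rec (fun _ => Nat) (col16_6) (col16_7) (Nat.ble 7 c)
noncomputable def col16_s_4_8 (c : Nat) : Nat := @Bool.rec (fun _ => Nat) (col16_s_4_6 c) (col16_s_6_8 c) (Nat.ble 6 c)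
noncomputable def col16_s_0_8 (c : Nat) : Nat := @Bool.rec (fun _ => Nat) (col16_s_0_4 c) (col16_s_4_8 c) (Nat.ble 4 c)
noncomputable def col16_s_8_10 (c : Nat) : Nat := @Bool.rec (fun _ => Nat) (col16_8) (col16_9) (Nat.ble 9 c)
noncomputable def col16_s_10_12 (c : Nat) : Nat := @Bool.rec (fun _ => Nat) (col16_10) (col16_11) (Nat.ble 11 c)
noncomputable def col16_s_8_12 (c : Nat) : Nat := @Bool.rec (fun _ => Nat) (col16_s_8_10 c) (col16_s_10_12 c) (Nat.ble 10 c)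
noncomputable def col16_s_12_14 (c : Nat) : Nat := @Bool.rec (fun _ => Nat) (col16_12) (col16_13) (Nat.ble 13 c)
noncomputable def col16_s_15_17 (c : Nat) : Nat := @Bool.rec (fun _ => Nat) (col16_15) (col16_16) (Nat.ble 16 c)
noncomputable def col16_s_14_17 (c : Nat) : Nat := @Bool.rec (fun _ => Nat) (col16_14) (col16_s_15_17 c) (Nat.ble 15 c)
noncomputable def col16_s_12_17 (c : Nat) : Nat := @Bool.rec (fun _ => Nat) (col16_s_12_14 c) (col16_s_14_17 c) (Nat.ble 14 c)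
noncomputable def col16_s_8_17 (c : Nat) : Nat := @Bool.rec (fun _ => Nat) (col16_s_8_12 c) (col16_s_12_17 c) (Nat.ble 12 c)
noncomputable def col16_s_0_17 (c : Nat) : Nat := @Bool.rec (fun _ => Nat) (col16_s_0_8 c) (col16_s_8_17 c) (Nat.ble 8 c)
noncomputable def col16 (i : Nat) : Nat := rdw 17 131071 (col16_s_0_17 (Nat.shiftRight i 12)) (Nat.land i 4095)
noncomputable def col17_s_0_2 (c : Nat) : Nat := @Bool.rec (fun _ => Nat) (col17_0) (col17_1) (Nat.ble 1 c)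
noncomputable def col17_s_2_4 (c : Nat) : Nat := @Bool.rec (fun _ => Nat) (col17_2) (col17_3) (Nat.ble 3 c)
noncomputable def col17_s_0_4 (c : Nat) : Nat := @Bool.rec (fun _ => Nat) (col17_s_0_2 c) (col17_s_2_4 c) (Nat.ble 2 c)
noncomputable def col17_s_4_6 (c : Nat) : Nat := @Bool.rec (fun _ => Nat) (col17_4) (col17_5) (Nat.ble 5 c)
noncomputable def col17_s_6_8 (c : Nat) : Nat := @Bool.rec (fun _ => Nat) (col17_6) (col17_7) (Nat.ble 7 c)
noncomputable def col17_s_4_8 (c : Nat) : Nat := @Bool.rec (fun _ => Nat) (col17_s_4_6 c) (col17_s_6_8 c) (Nat.ble 6 c)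
noncomputable def col17_s_0_8 (c : Nat) : Nat := @Bool.rec (fun _ => Nat) (col17_s_0_4 c) (col17_s_4_8 c) (Nat.ble 4 c)
noncomputable def col17_s_8_10 (c : Nat) : Nat := @Bool.rec (fun _ => Nat) (col17_8) (col17_9) (Nat.ble 9 c)
noncomputable def col17_s_10_12 (c : Nat) : Nat := @Bool.rec (fun _ => Nat) (col17_10) (col17_11) (Nat.ble 11 c)
noncomputable def col17_s_8_12 (c : Nat) : Nat := @Bool.rec (fun _ => Nat) (col17_s_8_10 c) (col17_s_10_12 c) (Nat.ble 10 c)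
noncomputable def col17_s_12_14 (c : Nat) : Nat := @Bool.rec (fun _ => Nat) (col17_12) (col17_13) (Nat.ble 13 c)
noncomputable def col17_s_15_17 (c : Nat) : Nat := @Bool.rec (fun _ => Nat) (col17_15) (col17_16) (Nat.ble 16 c)
noncomputable def col17_s_14_17 (c : Nat) : Nat := @Bool.rec (fun _ => Nat) (col17_14) (col17_s_15_17 c) (Nat.ble 15 c)
noncomputable def col17_s_12_17 (c : Nat) : Nat := @Bool.rec (fun _ => Nat) (col17_s_12_14 c) (col17_s_14_17 c) (Nat.ble 14 c)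
noncomputable def col17_s_8_17 (c : Nat) : Nat := @Bool.rec (fun _ => Nat) (col17_s_8_12 c) (col17_s_12_17 c) (Nat.ble 12 c)
noncomputable def col17_s_0_17 (c : Nat) : Nat := @Bool.rec (fun _ => Nat) (col17_s_0_8 c) (col17_s_8_17 c) (Nat.ble 8 c)
noncomputable def col17 (i : Nat) : Nat := rdw 17 131071 (col17_s_0_17 (Nat.shiftRight i 12)) (Nat.land i 4095)
noncomputable def col18_s_0_2 (c : Nat) : Nat := @Bool.rec (fun _ => Nat) (col18_0) (col18_1) (Nat.ble 1 c)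
noncomputable def col18_s_2_4 (c : Nat) : Nat := @Bool.rec (fun _ => Nat) (col18_2) (col18_3) (Nat.ble 3 c)
noncomputable def col18_s_0_4 (c : Nat) : Nat := @Bool.rec (fun _ => Nat) (col18_s_0_2 c) (col18_s_2_4 c) (Nat.ble 2 c)
noncomputable def col18_s_4_6 (c : Nat) : Nat := @Bool.rec (fun _ => Nat) (col18_4) (col18_5) (Nat.ble 5 c)
noncomputable def col18_s_6_8 (c : Nat) : Nat := @Bool.rec (fun _ => Nat) (col18_6) (col18_7) (Nat.ble 7 c)
noncomputable def col18_s_4_8 (c : Nat) : Nat := @Bool.rec (fun _ => Nat) (col18_s_4_6 c) (col18_s_6_8 c) (Nat.ble 6 c)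
noncomputable def col18_s_0_8 (c : Nat) : Nat := @Bool.rec (fun _ => Nat) (col18_s_0_4 c) (col18_s_4_8 c) (Nat.ble 4 c)
noncomputable def col18_s_8_10 (c : Nat) : Nat := @Bool.rec (fun _ => Nat) (col18_8) (col18_9) (Nat.ble 9 c)
noncomputable def col18_s_10_12 (c : Nat) : Nat := @Bool.rec (fun _ => Nat) (col18_10) (col18_11) (Nat.ble 11 c)
noncomputable def col18_s_8_12 (c : Nat) : Nat := @Bool.rec (fun _ => Nat) (col18_s_8_10 c) (col18_s_10_12 c) (Nat.ble 10 c)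
noncomputable def col18_s_12_14 (c : Nat) : Nat := @Bool.rec (fun _ => Nat) (col18_12) (col18_13) (Nat.ble 13 c)
noncomputable def col18_s_15_17 (c : Nat) : Nat := @Bool.rec (fun _ => Nat) (col18_15) (col18_16) (Nat.ble 16 c)
noncomputable def col18_s_14_17 (c : Nat) : Nat := @Bool.rec (fun _ => Nat) (col18_14) (col18_s_15_17 c) (Nat.ble 15 c)
noncomputable def col18_s_12_17 (c : Nat) : Nat := @Bool.rec (fun _ => Nat) (col18_s_12_14 c) (col18_s_14_17 c) (Nat.ble 14 c)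
noncomputable def col18_s_8_17 (c : Nat) : Nat := @Bool.rec (fun _ => Nat) (col18_s_8_12 c) (col18_s_12_17 c) (Nat.ble 12 c)
noncomputable def col18_s_0_17 (c : Nat) : Nat := @Bool.rec (fun _ => Nat) (col18_s_0_8 c) (col18_s_8_17 c) (Nat.ble 8 c)
noncomputable def col18 (i : Nat) : Nat := rdw 17 131071 (col18_s_0_17 (Nat.shiftRight i 12)) (Nat.land i 4095)
noncomputable def col19_s_0_2 (c : Nat) : Nat := @Bool.rec (fun _ => Nat) (col19_0) (col19_1) (Nat.ble 1 c)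
noncomputable def col19_s_2_4 (c : Nat) : Nat := @Bool.rec (fun _ => Nat) (col19_2) (col19_3) (Nat.ble 3 c)
noncomputable def col19_s_0_4 (c : Nat) : Nat := @Bool.rec (fun _ => Nat) (col19_s_0_2 c) (col19_s_2_4 c) (Nat.ble 2 c)
noncomputable def col19_s_4_6 (c : Nat) : Nat := @Bool.rec (fun _ => Nat) (col19_4) (col19_5) (Nat.ble 5 c)
noncomputable def col19_s_6_8 (c : Nat) : Nat := @Bool.rec (fun _ => Nat) (col19_6) (col19_7) (Nat.ble 7 c)
noncomputable def col19_s_4_8 (c : Nat) : Nat := @Bool.rec (fun _ => Nat) (col19_s_4_6 c) (col19_s_6_8 c) (Nat.ble 6 c)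
noncomputable def col19_s_0_8 (c : Nat) : Nat := @Bool.rec (fun _ => Nat) (col19_s_0_4 c) (col19_s_4_8 c) (Nat.ble 4 c)
noncomputable def col19_s_8_10 (c : Nat) : Nat := @Bool.rec (fun _ => Nat) (col19_8) (col19_9) (Nat.ble 9 c)
noncomputable def col19_s_10_12 (c : Nat) : Nat := @Bool.rec (fun _ => Nat) (col19_10) (col19_11) (Nat.ble 11 c)
noncomputable def col19_s_8_12 (c : Nat) : Nat := @Bool.rec (fun _ => Nat) (col19_s_8_10 c) (col19_s_10_12 c) (Nat.ble 10 c)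
noncomputable def col19_s_12_14 (c : Nat) : Nat := @Bool.rec (fun _ => Nat) (col19_12) (col19_13) (Nat.ble 13 c)
noncomputable def col19_s_15_17 (c : Nat) : Nat := @Bool.rec (fun _ => Nat) (col19_15) (col19_16) (Nat.ble 16 c)
noncomputable def col19_s_14_17 (c : Nat) : Nat := @Bool.rec (fun _ => Nat) (col19_14) (col19_s_15_17 c) (Nat.ble 15 c)
noncomputable def col19_s_12_17 (c : Nat) : Nat := @Bool.rec (fun _ => Nat) (col19_s_12_14 c) (col19_s_14_17 c) (Nat.ble 14 c)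
noncomputable def col19_s_8_17 (c : Nat) : Nat := @Bool.rec (fun _ => Nat) (col19_s_8_12 c) (col19_s_12_17 c) (Nat.ble 12 c)
noncomputable def col19_s_0_17 (c : Nat) : Nat := @Bool.rec (fun _ => Nat) (col19_s_0_8 c) (col19_s_8_17 c) (Nat.ble 8 c)
noncomputable def col19 (i : Nat) : Nat := rdw 17 131071 (col19_s_0_17 (Nat.shiftRight i 12)) (Nat.land i 4095)
noncomputable def col20_s_0_2 (c : Nat) : Nat := @Bool.rec (fun _ => Nat) (col20_0) (col20_1) (Nat.ble 1 c)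
noncomputable def col20_s_2_4 (c : Nat) : Nat := @Bool.rec (fun _ => Nat) (col20_2) (col20_3) (Nat.ble 3 c)
noncomputable def col20_s_0_4 (c : Nat) : Nat := @Bool.rec (fun _ => Nat) (col20_s_0_2 c) (col20_s_2_4 c) (Nat.ble 2 c)
noncomputable def col20_s_4_6 (c : Nat) : Nat := @Bool.rec (fun _ => Nat) (col20_4) (col20_5) (Nat.ble 5 c)
noncomputable def col20_s_6_8 (c : Nat) : Nat := @Bool.rec (fun _ => Nat) (col20_6) (col20_7) (Nat.ble 7 c)
noncomputable def col20_s_4_8 (c : Nat) : Nat := @Bool.rec (fun _ => Nat) (col20_s_4_6 c) (col20_s_6_8 c) (Nat.ble 6 c)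
noncomputable def col20_s_0_8 (c : Nat) : Nat := @Bool.rec (fun _ => Nat) (col20_s_0_4 c) (col20_s_4_8 c) (Nat.ble 4 c)
noncomputable def col20_s_8_10 (c : Nat) : Nat := @Bool.rec (fun _ => Nat) (col20_8) (col20_9) (Nat.ble 9 c)
noncomputable def col20_s_10_12 (c : Nat) : Nat := @Bool.rec (fun _ => Nat) (col20_10) (col20_11) (Nat.ble 11 c)
noncomputable def col20_s_8_12 (c : Nat) : Nat := @Bool.rec (fun _ => Nat) (col20_s_8_10 c) (col20_s_10_12 c) (Nat.ble 10 c)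
noncomputable def col20_s_12_14 (c : Nat) : Nat := @Bool.rec (fun _ => Nat) (col20_12) (col20_13) (Nat.ble 13 c)
noncomputable def col20_s_15_17 (c : Nat) : Nat := @Bool.rec (fun _ => Nat) (col20_15) (col20_16) (Nat.ble 16 c)
noncomputable def col20_s_14_17 (c : Nat) : Nat := @Bool.rec (fun _ => Nat) (col20_14) (col20_s_15_17 c) (Nat.ble 15 c)
noncomputable def col20_s_12_17 (c : Nat) : Nat := @Bool.rec (fun _ => Nat) (col20_s_12_14 c) (col20_s_14_17 c) (Nat.ble 14 c)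
noncomputable def col20_s_8_17 (c : Nat) : Nat := @Bool.rec (fun _ => Nat) (col20_s_8_12 c) (col20_s_12_17 c) (Nat.ble 12 c)
noncomputable def col20_s_0_17 (c : Nat) : Nat := @Bool.rec (fun _ => Nat) (col20_s_0_8 c) (col20_s_8_17 c) (Nat.ble 8 c)
noncomputable def col20 (i : Nat) : Nat := rdw 17 131071 (col20_s_0_17 (Nat.shiftRight i 12)) (Nat.land i 4095)
noncomputable def col21_s_0_2 (c : Nat) : Nat := @Bool.rec (fun _ => Nat) (col21_0) (col21_1) (Nat.ble 1 c)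
noncomputable def col21_s_2_4 (c : Nat) : Nat := @Bool.rec (fun _ => Nat) (col21_2) (col21_3) (Nat.ble 3 c)
noncomputable def col21_s_0_4 (c : Nat) : Nat := @Bool.rec (fun _ => Nat) (col21_s_0_2 c) (col21_s_2_4 c) (Nat.ble 2 c)
noncomputable def col21_s_4_6 (c : Nat) : Nat := @Bool.rec (fun _ => Nat) (col21_4) (col21_5) (Nat.ble 5 c)
noncomputable def col21_s_6_8 (c : Nat) : Nat := @Bool.rec (fun _ => Nat) (col21_6) (col21_7) (Nat.ble 7 c)
noncomputable def col21_s_4_8 (c : Nat) : Nat := @Bool.rec (fun _ => Nat) (col21_s_4_6 c) (col21_s_6_8 c) (Nat.ble 6 c)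
noncomputable def col21_s_0_8 (c : Nat) : Nat := @Bool.rec (fun _ => Nat) (col21_s_0_4 c) (col21_s_4_8 c) (Nat.ble 4 c)
noncomputable def col21_s_8_10 (c : Nat) : Nat := @Bool.rec (fun _ => Nat) (col21_8) (col21_9) (Nat.ble 9 c)
noncomputable def col21_s_10_12 (c : Nat) : Nat := @Bool.rec (fun _ => Nat) (col21_10) (col21_11) (Nat.ble 11 c)
noncomputable def col21_s_8_12 (c : Nat) : Nat := @Bool.rec (fun _ => Nat) (col21_s_8_10 c) (col21_s_10_12 c) (Nat.ble 10 c)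
noncomputable def col21_s_12_14 (c : Nat) : Nat := @Bool.rec (fun _ => Nat) (col21_12) (col21_13) (Nat.ble 13 c)
noncomputable def col21_s_15_17 (c : Nat) : Nat := @Bool.rec (fun _ => Nat) (col21_15) (col21_16) (Nat.ble 16 c)
noncomputable def col21_s_14_17 (c : Nat) : Nat := @Bool.rec (fun _ => Nat) (col21_14) (col21_s_15_17 c) (Nat.ble 15 c)
noncomputable def col21_s_12_17 (c : Nat) : Nat := @Bool.rec (fun _ => Nat) (col21_s_12_14 c) (col21_s_14_17 c) (Nat.ble 14 c)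
noncomputable def col21_s_8_17 (c : Nat) : Nat := @Bool.rec (fun _ => Nat) (col21_s_8_12 c) (col21_s_12_17 c) (Nat.ble 12 c)
noncomputable def col21_s_0_17 (c : Nat) : Nat := @Bool.rec (fun _ => Nat) (col21_s_0_8 c) (col21_s_8_17 c) (Nat.ble 8 c)
noncomputable def col21 (i : Nat) : Nat := rdw 17 131071 (col21_s_0_17 (Nat.shiftRight i 12)) (Nat.land i 4095)
noncomputable def col22_s_0_2 (c : Nat) : Nat := @Bool.rec (fun _ => Nat) (col22_0) (col22_1) (Nat.ble 1 c)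
noncomputable def col22_s_2_4 (c : Nat) : Nat := @Bool.rec (fun _ => Nat) (col22_2) (col22_3) (Nat.ble 3 c)
noncomputable def col22_s_0_4 (c : Nat) : Nat := @Bool.rec (fun _ => Nat) (col22_s_0_2 c) (col22_s_2_4 c) (Nat.ble 2 c)
noncomputable def col22_s_4_6 (c : Nat) : Nat := @Bool.rec (fun _ => Nat) (col22_4) (col22_5) (Nat.ble 5 c)
noncomputable def col22_s_6_8 (c : Nat) : Nat := @Bool.rec (fun _ => Nat) (col22_6) (col22_7) (Nat.ble 7 c)
noncomputable def col22_s_4_8 (c : Nat) : Nat := @Bool.rec (fun _ => Nat) (col22_s_4_6 c) (col22_s_6_8 c) (Nat.ble 6 c)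
noncomputable def col22_s_0_8 (c : Nat) : Nat := @Bool.rec (fun _ => Nat) (col22_s_0_4 c) (col22_s_4_8 c) (Nat.ble 4 c)
noncomputable def col22_s_8_10 (c : Nat) : Nat := @Bool.rec (fun _ => Nat) (col22_8) (col22_9) (Nat.ble 9 c)
noncomputable def col22_s_10_12 (c : Nat) : Nat := @Bool.rec (fun _ => Nat) (col22_10) (col22_11) (Nat.ble 11 c)
noncomputable def col22_s_8_12 (c : Nat) : Nat := @Bool.rec (fun _ => Nat) (col22_s_8_10 c) (col22_s_10_12 c) (Nat.ble 10 c)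
noncomputable def col22_s_12_14 (c : Nat) : Nat := @Bool.rec (fun _ => Nat) (col22_12) (col22_13) (Nat.ble 13 c)
noncomputable def col22_s_15_17 (c : Nat) : Nat := @Bool.rec (fun _ => Nat) (col22_15) (col22_16) (Nat.ble 16 c)
noncomputable def col22_s_14_17 (c : Nat) : Nat := @Bool.rec (fun _ => Nat) (col22_14) (col22_s_15_17 c) (Nat.ble 15 c)
noncomputable def col22_s_12_17 (c : Nat) : Nat := @Bool.rec (fun _ => Nat) (col22_s_12_14 c) (col22_s_14_17 c) (Nat.ble 14 c)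
noncomputable def col22_s_8_17 (c : Nat) : Nat := @Bool.rec (fun _ => Nat) (col22_s_8_12 c) (col22_s_12_17 c) (Nat.ble 12 c)
noncomputable def col22_s_0_17 (c : Nat) : Nat := @Bool.rec (fun _ => Nat) (col22_s_0_8 c) (col22_s_8_17 c) (Nat.ble 8 c)
noncomputable def col22 (i : Nat) : Nat := rdw 17 131071 (col22_s_0_17 (Nat.shiftRight i 12)) (Nat.land i 4095)
noncomputable def col23_s_0_2 (c : Nat) : Nat := @Bool.rec (fun _ => Nat) (col23_0) (col23_1) (Nat.ble 1 c)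
noncomputable def col23_s_2_4 (c : Nat) : Nat := @Bool.rec (fun _ => Nat) (col23_2) (col23_3) (Nat.ble 3 c)
noncomputable def col23_s_0_4 (c : Nat) : Nat := @Bool.rec (fun _ => Nat) (col23_s_0_2 c) (col23_s_2_4 c) (Nat.ble 2 c)
noncomputable def col23_s_4_6 (c : Nat) : Nat := @Bool.rec (fun _ => Nat) (col23_4) (col23_5) (Nat.ble 5 c)
noncomputable def col23_s_6_8 (c : Nat) : Nat := @Bool.rec (fun _ => Nat) (col23_6) (col23_7) (Nat.ble 7 c)
noncomputable def col23_s_4_8 (c : Nat) : Nat := @Bool.rec (fun _ => Nat) (col23_s_4_6 c) (col23_s_6_8 c) (Nat.ble 6 c)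
noncomputable def col23_s_0_8 (c : Nat) : Nat := @Bool.rec (fun _ => Nat) (col23_s_0_4 c) (col23_s_4_8 c) (Nat.ble 4 c)
noncomputable def col23_s_8_10 (c : Nat) : Nat := @Bool.rec (fun _ => Nat) (col23_8) (col23_9) (Nat.ble 9 c)
noncomputable def col23_s_10_12 (c : Nat) : Nat := @Bool.rec (fun _ => Nat) (col23_10) (col23_11) (Nat.ble 11 c)
noncomputable def col23_s_8_12 (c : Nat) : Nat := @Bool.rec (fun _ => Nat) (col23_s_8_10 c) (col23_s_10_12 c) (Nat.ble 10 c)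
noncomputable def col23_s_12_14 (c : Nat) : Nat := @Bool.rec (fun _ => Nat) (col23_12) (col23_13) (Nat.ble 13 c)
noncomputable def col23_s_15_17 (c : Nat) : Nat := @Bool.rec (fun _ => Nat) (col23_15) (col23_16) (Nat.ble 16 c)
noncomputable def col23_s_14_17 (c : Nat) : Nat := @Bool.rec (fun _ => Nat) (col23_14) (col23_s_15_17 c) (Nat.ble 15 c)
noncomputable def col23_s_12_17 (c : Nat) : Nat := @Bool.rec (fun _ => Nat) (col23_s_12_14 c) (col23_s_14_17 c) (Nat.ble 14 c)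
noncomputable def col23_s_8_17 (c : Nat) : Nat := @Bool.rec (fun _ => Nat) (col23_s_8_12 c) (col23_s_12_17 c) (Nat.ble 12 c)
noncomputable def col23_s_0_17 (c : Nat) : Nat := @Bool.rec (fun _ => Nat) (col23_s_0_8 c) (col23_s_8_17 c) (Nat.ble 8 c)
noncomputable def col23 (i : Nat) : Nat := rdw 17 131071 (col23_s_0_17 (Nat.shiftRight i 12)) (Nat.land i 4095)
noncomputable def col24_s_0_2 (c : Nat) : Nat := @Bool.rec (fun _ => Nat) (col24_0) (col24_1) (Nat.ble 1 c)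
noncomputable def col24_s_2_4 (c : Nat) : Nat := @Bool.rec (fun _ => Nat) (col24_2) (col24_3) (Nat.ble 3 c)
noncomputable def col24_s_0_4 (c : Nat) : Nat := @Bool.rec (fun _ => Nat) (col24_s_0_2 c) (col24_s_2_4 c) (Nat.ble 2 c)
noncomputable def col24_s_4_6 (c : Nat) : Nat := @Bool.rec (fun _ => Nat) (col24_4) (col24_5) (Nat.ble 5 c)
noncomputable def col24_s_6_8 (c : Nat) : Nat := @Bool.rec (fun _ => Nat) (col24_6) (col24_7) (Nat.ble 7 c)
noncomputable def col24_s_4_8 (c : Nat) : Nat := @Bool.rec (fun _ => Nat) (col24_s_4_6 c) (col24_s_6_8 c) (Nat.ble 6 c)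
noncomputable def col24_s_0_8 (c : Nat) : Nat := @Bool.rec (fun _ => Nat) (col24_s_0_4 c) (col24_s_4_8 c) (Nat.ble 4 c)
noncomputable def col24_s_8_10 (c : Nat) : Nat := @Bool.rec (fun _ => Nat) (col24_8) (col24_9) (Nat.ble 9 c)
noncomputable def col24_s_10_12 (c : Nat) : Nat := @Bool.rec (fun _ => Nat) (col24_10) (col24_11) (Nat.ble 11 c)
noncomputable def col24_s_8_12 (c : Nat) : Nat := @Bool.rec (fun _ => Nat) (col24_s_8_10 c) (col24_s_10_12 c) (Nat.ble 10 c)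
noncomputable def col24_s_12_14 (c : Nat) : Nat := @Bool.rec (fun _ => Nat) (col24_12) (col24_13) (Nat.ble 13 c)
noncomputable def col24_s_15_17 (c : Nat) : Nat := @Bool.rec (fun _ => Nat) (col24_15) (col24_16) (Nat.ble 16 c)
noncomputable def col24_s_14_17 (c : Nat) : Nat := @Bool.rec (fun _ => Nat) (col24_14) (col24_s_15_17 c) (Nat.ble 15 c)
noncomputable def col24_s_12_17 (c : Nat) : Nat := @Bool.rec (fun _ => Nat) (col24_s_12_14 c) (col24_s_14_17 c) (Nat.ble 14 c)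
noncomputable def col24_s_8_17 (c : Nat) : Nat := @Bool.rec (fun _ => Nat) (col24_s_8_12 c) (col24_s_12_17 c) (Nat.ble 12 c)
noncomputable def col24_s_0_17 (c : Nat) : Nat := @Bool.rec (fun _ => Nat) (col24_s_0_8 c) (col24_s_8_17 c) (Nat.ble 8 c)
noncomputable def col24 (i : Nat) : Nat := rdw 17 131071 (col24_s_0_17 (Nat.shiftRight i 12)) (Nat.land i 4095)
noncomputable def col25_s_0_2 (c : Nat) : Nat := @Bool.rec (fun _ => Nat) (col25_0) (col25_1) (Nat.ble 1 c)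
noncomputable def col25_s_2_4 (c : Nat) : Nat := @Bool.rec (fun _ => Nat) (col25_2) (col25_3) (Nat.ble 3 c)
noncomputable def col25_s_0_4 (c : Nat) : Nat := @Bool.rec (fun _ => Nat) (col25_s_0_2 c) (col25_s_2_4 c) (Nat.ble 2 c)
noncomputable def col25_s_4_6 (c : Nat) : Nat := @Bool.rec (fun _ => Nat) (col25_4) (col25_5) (Nat.ble 5 c)
noncomputable def col25_s_6_8 (c : Nat) : Nat := @Bool.rec (fun _ => Nat) (col25_6) (col25_7) (Nat.ble 7 c)
noncomputable def col25_s_4_8 (c : Nat) : Nat := @Bool.rec (fun _ => Nat) (col25_s_4_6 c) (col25_s_6_8 c) (Nat.ble 6 c)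
noncomputable def col25_s_0_8 (c : Nat) : Nat := @Bool.rec (fun _ => Nat) (col25_s_0_4 c) (col25_s_4_8 c) (Nat.ble 4 c)
noncomputable def col25_s_8_10 (c : Nat) : Nat := @Bool.rec (fun _ => Nat) (col25_8) (col25_9) (Nat.ble 9 c)
noncomputable def col25_s_10_12 (c : Nat) : Nat := @Bool.rec (fun _ => Nat) (col25_10) (col25_11) (Nat.ble 11 c)
noncomputable def col25_s_8_12 (c : Nat) : Nat := @Bool.rec (fun _ => Nat) (col25_s_8_10 c) (col25_s_10_12 c) (Nat.ble 10 c)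
noncomputable def col25_s_12_14 (c : Nat) : Nat := @Bool.rec (fun _ => Nat) (col25_12) (col25_13) (Nat.ble 13 c)
noncomputable def col25_s_15_17 (c : Nat) : Nat := @Bool.rec (fun _ => Nat) (col25_15) (col25_16) (Nat.ble 16 c)
noncomputable def col25_s_14_17 (c : Nat) : Nat := @Bool.rec (fun _ => Nat) (col25_14) (col25_s_15_17 c) (Nat.ble 15 c)
noncomputable def col25_s_12_17 (c : Nat) : Nat := @Bool.rec (fun _ => Nat) (col25_s_12_14 c) (col25_s_14_17 c) (Nat.ble 14 c)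
noncomputable def col25_s_8_17 (c : Nat) : Nat := @Bool.rec (fun _ => Nat) (col25_s_8_12 c) (col25_s_12_17 c) (Nat.ble 12 c)
noncomputable def col25_s_0_17 (c : Nat) : Nat := @Bool.rec (fun _ => Nat) (col25_s_0_8 c) (col25_s_8_17 c) (Nat.ble 8 c)
noncomputable def col25 (i : Nat) : Nat := rdw 17 131071 (col25_s_0_17 (Nat.shiftRight i 12)) (Nat.land i 4095)
noncomputable def col26_s_0_2 (c : Nat) : Nat := @Bool.rec (fun _ => Nat) (col26_0) (col26_1) (Nat.ble 1 c)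
noncomputable def col26_s_2_4 (c : Nat) : Nat := @Bool.rec (fun _ => Nat) (col26_2) (col26_3) (Nat.ble 3 c)
noncomputable def col26_s_0_4 (c : Nat) : Nat := @Bool.rec (fun _ => Nat) (col26_s_0_2 c) (col26_s_2_4 c) (Nat.ble 2 c)
noncomputable def col26_s_4_6 (c : Nat) : Nat := @Bool.rec (fun _ => Nat) (col26_4) (col26_5) (Nat.ble 5 c)
noncomputable def col26_s_6_8 (c : Nat) : Nat := @Bool.rec (fun _ => Nat) (col26_6) (col26_7) (Nat.ble 7 c)
noncomputable def col26_s_4_8 (c : Nat) : Nat := @Bool.rec (fun _ => Nat) (col26_s_4_6 c) (col26_s_6_8 c) (Nat.ble 6 c)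
noncomputable def col26_s_0_8 (c : Nat) : Nat := @Bool.rec (fun _ => Nat) (col26_s_0_4 c) (col26_s_4_8 c) (Nat.ble 4 c)
noncomputable def col26_s_8_10 (c : Nat) : Nat := @Bool.rec (fun _ => Nat) (col26_8) (col26_9) (Nat.ble 9 c)
noncomputable def col26_s_10_12 (c : Nat) : Nat := @Bool.rec (fun _ => Nat) (col26_10) (col26_11) (Nat.ble 11 c)
noncomputable def col26_s_8_12 (c : Nat) : Nat := @Bool.rec (fun _ => Nat) (col26_s_8_10 c) (col26_s_10_12 c) (Nat.ble 10 c)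
noncomputable def col26_s_12_14 (c : Nat) : Nat := @Bool.rec (fun _ => Nat) (col26_12) (col26_13) (Nat.ble 13 c)
noncomputable def col26_s_15_17 (c : Nat) : Nat := @Bool.rec (fun _ => Nat) (col26_15) (col26_16) (Nat.ble 16 c)
noncomputable def col26_s_14_17 (c : Nat) : Nat := @Bool.rec (fun _ => Nat) (col26_14) (col26_s_15_17 c) (Nat.ble 15 c)
noncomputable def col26_s_12_17 (c : Nat) : Nat := @Bool.rec (fun _ => Nat) (col26_s_12_14 c) (col26_s_14_17 c) (Nat.ble 14 c)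
noncomputable def col26_s_8_17 (c : Nat) : Nat := @Bool.rec (fun _ => Nat) (col26_s_8_12 c) (col26_s_12_17 c) (Nat.ble 12 c)
noncomputable def col26_s_0_17 (c : Nat) : Nat := @Bool.rec (fun _ => Nat) (col26_s_0_8 c) (col26_s_8_17 c) (Nat.ble 8 c)
noncomputable def col26 (i : Nat) : Nat := rdw 17 131071 (col26_s_0_17 (Nat.shiftRight i 12)) (Nat.land i 4095)
noncomputable def col27_s_0_2 (c : Nat) : Nat := @Bool.rec (fun _ => Nat) (col27_0) (col27_1) (Nat.ble 1 c)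
noncomputable def col27_s_2_4 (c : Nat) : Nat := @Bool.rec (fun _ => Nat) (col27_2) (col27_3) (Nat.ble 3 c)
noncomputable def col27_s_0_4 (c : Nat) : Nat := @Bool.rec (fun _ => Nat) (col27_s_0_2 c) (col27_s_2_4 c) (Nat.ble 2 c)
noncomputable def col27_s_4_6 (c : Nat) : Nat := @Bool.rec (fun _ => Nat) (col27_4) (col27_5) (Nat.ble 5 c)
noncomputable def col27_s_6_8 (c : Nat) : Nat := @Bool.rec (fun _ => Nat) (col27_6) (col27_7) (Nat.ble 7 c)
noncomputable def col27_s_4_8 (c : Nat) : Nat := @Bool.rec (fun _ => Nat) (col27_s_4_6 c) (col27_s_6_8 c) (Nat.ble 6 c)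
noncomputable def col27_s_0_8 (c : Nat) : Nat := @Bool.rec (fun _ => Nat) (col27_s_0_4 c) (col27_s_4_8 c) (Nat.ble 4 c)
noncomputable def col27_s_8_10 (c : Nat) : Nat := @Bool.rec (fun _ => Nat) (col27_8) (col27_9) (Nat.ble 9 c)
noncomputable def col27_s_10_12 (c : Nat) : Nat := @Bool.rec (fun _ => Nat) (col27_10) (col27_11) (Nat.ble 11 c)
noncomputable def col27_s_8_12 (c : Nat) : Nat := @Bool.rec (fun _ => Nat) (col27_s_8_10 c) (col27_s_10_12 c) (Nat.ble 10 c)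
noncomputable def col27_s_12_14 (c : Nat) : Nat := @Bool.rec (fun _ => Nat) (col27_12) (col27_13) (Nat.ble 13 c)
noncomputable def col27_s_15_17 (c : Nat) : Nat := @Bool.rec (fun _ => Nat) (col27_15) (col27_16) (Nat.ble 16 c)
noncomputable def col27_s_14_17 (c : Nat) : Nat := @Bool.rec (fun _ => Nat) (col27_14) (col27_s_15_17 c) (Nat.ble 15 c)
noncomputable def col27_s_12_17 (c : Nat) : Nat := @Bool.rec (fun _ => Nat) (col27_s_12_14 c) (col27_s_14_17 c) (Nat.ble 14 c)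
noncomputable def col27_s_8_17 (c : Nat) : Nat := @Bool.rec (fun _ => Nat) (col27_s_8_12 c) (col27_s_12_17 c) (Nat.ble 12 c)
noncomputable def col27_s_0_17 (c : Nat) : Nat := @Bool.rec (fun _ => Nat) (col27_s_0_8 c) (col27_s_8_17 c) (Nat.ble 8 c)
noncomputable def col27 (i : Nat) : Nat := rdw 17 131071 (col27_s_0_17 (Nat.shiftRight i 12)) (Nat.land i 4095)
noncomputable def col28_s_0_2 (c : Nat) : Nat := @Bool.rec (fun _ => Nat) (col28_0) (col28_1) (Nat.ble 1 c)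
noncomputable def col28_s_2_4 (c : Nat) : Nat := @Bool.rec (fun _ => Nat) (col28_2) (col28_3) (Nat.ble 3 c)
noncomputable def col28_s_0_4 (c : Nat) : Nat := @Bool.rec (fun _ => Nat) (col28_s_0_2 c) (col28_s_2_4 c) (Nat.ble 2 c)
noncomputable def col28_s_4_6 (c : Nat) : Nat := @Bool.rec (fun _ => Nat) (col28_4) (col28_5) (Nat.ble 5 c)
noncomputable def col28_s_6_8 (c : Nat) : Nat := @Bool.rec (fun _ => Nat) (col28_6) (col28_7) (Nat.ble 7 c)
noncomputable def col28_s_4_8 (c : Nat) : Nat := @Bool.rec (fun _ => Nat) (col28_s_4_6 c) (col28_s_6_8 c) (Nat.ble 6 c)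
noncomputable def col28_s_0_8 (c : Nat) : Nat := @Bool.rec (fun _ => Nat) (col28_s_0_4 c) (col28_s_4_8 c) (Nat.ble 4 c)
noncomputable def col28_s_8_10 (c : Nat) : Nat := @Bool.rec (fun _ => Nat) (col28_8) (col28_9) (Nat.ble 9 c)
noncomputable def col28_s_10_12 (c : Nat) : Nat := @Bool.rec (fun _ => Nat) (col28_10) (col28_11) (Nat.ble 11 c)
noncomputable def col28_s_8_12 (c : Nat) : Nat := @Bool.rec (fun _ => Nat) (col28_s_8_10 c) (col28_s_10_12 c) (Nat.ble 10 c)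
noncomputable def col28_s_12_14 (c : Nat) : Nat := @Bool.rec (fun _ => Nat) (col28_12) (col28_13) (Nat.ble 13 c)
noncomputable def col28_s_15_17 (c : Nat) : Nat := @Bool.rec (fun _ => Nat) (col28_15) (col28_16) (Nat.ble 16 c)
noncomputable def col28_s_14_17 (c : Nat) : Nat := @Bool.rec (fun _ => Nat) (col28_14) (col28_s_15_17 c) (Nat.ble 15 c)
noncomputable def col28_s_12_17 (c : Nat) : Nat := @Bool.rec (fun _ => Nat) (col28_s_12_14 c) (col28_s_14_17 c) (Nat.ble 14 c)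
noncomputable def col28_s_8_17 (c : Nat) : Nat := @Bool.rec (fun _ => Nat) (col28_s_8_12 c) (col28_s_12_17 c) (Nat.ble 12 c)
noncomputable def col28_s_0_17 (c : Nat) : Nat := @Bool.rec (fun _ => Nat) (col28_s_0_8 c) (col28_s_8_17 c) (Nat.ble 8 c)
noncomputable def col28 (i : Nat) : Nat := rdw 17 131071 (col28_s_0_17 (Nat.shiftRight i 12)) (Nat.land i 4095)
noncomputable def col29_s_0_2 (c : Nat) : Nat := @Bool.rec (fun _ => Nat) (col29_0) (col29_1) (Nat.ble 1 c)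
noncomputable def col29_s_2_4 (c : Nat) : Nat := @Bool.rec (fun _ => Nat) (col29_2) (col29_3) (Nat.ble 3 c)
noncomputable def col29_s_0_4 (c : Nat) : Nat := @Bool.rec (fun _ => Nat) (col29_s_0_2 c) (col29_s_2_4 c) (Nat.ble 2 c)
noncomputable def col29_s_4_6 (c : Nat) : Nat := @Bool.rec (fun _ => Nat) (col29_4) (col29_5) (Nat.ble 5 c)
noncomputable def col29_s_6_8 (c : Nat) : Nat := @Bool.rec (fun _ => Nat) (col29_6) (col29_7) (Nat.ble 7 c)
noncomputable def col29_s_4_8 (c : Nat) : Nat := @Bool.rec (fun _ => Nat) (col29_s_4_6 c) (col29_s_6_8 c) (Nat.ble 6 c)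
noncomputable def col29_s_0_8 (c : Nat) : Nat := @Bool.rec (fun _ => Nat) (col29_s_0_4 c) (col29_s_4_8 c) (Nat.ble 4 c)
noncomputable def col29_s_8_10 (c : Nat) : Nat := @Bool.rec (fun _ => Nat) (col29_8) (col29_9) (Nat.ble 9 c)
noncomputable def col29_s_10_12 (c : Nat) : Nat := @Bool.rec (fun _ => Nat) (col29_10) (col29_11) (Nat.ble 11 c)
noncomputable def col29_s_8_12 (c : Nat) : Nat := @Bool.rec (fun _ => Nat) (col29_s_8_10 c) (col29_s_10_12 c) (Nat.ble 10 c)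
noncomputable def col29_s_12_14 (c : Nat) : Nat := @Bool.rec (fun _ => Nat) (col29_12) (col29_13) (Nat.ble 13 c)
noncomputable def col29_s_15_17 (c : Nat) : Nat := @Bool.rec (fun _ => Nat) (col29_15) (col29_16) (Nat.ble 16 c)
noncomputable def col29_s_14_17 (c : Nat) : Nat := @Bool.rec (fun _ => Nat) (col29_14) (col29_s_15_17 c) (Nat.ble 15 c)
noncomputable def col29_s_12_17 (c : Nat) : Nat := @Bool.rec (fun _ => Nat) (col29_s_12_14 c) (col29_s_14_17 c) (Nat.ble 14 c)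
noncomputable def col29_s_8_17 (c : Nat) : Nat := @Bool.rec (fun _ => Nat) (col29_s_8_12 c) (col29_s_12_17 c) (Nat.ble 12 c)
noncomputable def col29_s_0_17 (c : Nat) : Nat := @Bool.rec (fun _ => Nat) (col29_s_0_8 c) (col29_s_8_17 c) (Nat.ble 8 c)
noncomputable def col29 (i : Nat) : Nat := rdw 17 131071 (col29_s_0_17 (Nat.shiftRight i 12)) (Nat.land i 4095)
noncomputable def col30_s_0_2 (c : Nat) : Nat := @Bool.rec (fun _ => Nat) (col30_0) (col30_1) (Nat.ble 1 c)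
noncomputable def col30_s_2_4 (c : Nat) : Nat := @Bool.rec (fun _ => Nat) (col30_2) (col30_3) (Nat.ble 3 c)
noncomputable def col30_s_0_4 (c : Nat) : Nat := @Bool.rec (fun _ => Nat) (col30_s_0_2 c) (col30_s_2_4 c) (Nat.ble 2 c)
noncomputable def col30_s_4_6 (c : Nat) : Nat := @Bool.rec (fun _ => Nat) (col30_4) (col30_5) (Nat.ble 5 c)
noncomputable def col30_s_6_8 (c : Nat) : Nat := @Bool.rec (fun _ => Nat) (col30_6) (col30_7) (Nat.ble 7 c)
noncomputable def col30_s_4_8 (c : Nat) : Nat := @Bool.rec (fun _ => Nat) (col30_s_4_6 c) (col30_s_6_8 c) (Nat.ble 6 c)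
noncomputable def col30_s_0_8 (c : Nat) : Nat := @Bool.rec (fun _ => Nat) (col30_s_0_4 c) (col30_s_4_8 c) (Nat.ble 4 c)
noncomputable def col30_s_8_10 (c : Nat) : Nat := @Bool.rec (fun _ => Nat) (col30_8) (col30_9) (Nat.ble 9 c)
noncomputable def col30_s_10_12 (c : Nat) : Nat := @Bool.rec (fun _ => Nat) (col30_10) (col30_11) (Nat.ble 11 c)
noncomputable def col30_s_8_12 (c : Nat) : Nat := @Bool.rec (fun _ => Nat) (col30_s_8_10 c) (col30_s_10_12 c) (Nat.ble 10 c)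
noncomputable def col30_s_12_14 (c : Nat) : Nat := @Bool.rec (fun _ => Nat) (col30_12) (col30_13) (Nat.ble 13 c)
noncomputable def col30_s_15_17 (c : Nat) : Nat := @Bool.rec (fun _ => Nat) (col30_15) (col30_16) (Nat.ble 16 c)
noncomputable def col30_s_14_17 (c : Nat) : Nat := @Bool.rec (fun _ => Nat) (col30_14) (col30_s_15_17 c) (Nat.ble 15 c)
noncomputable def col30_s_12_17 (c : Nat) : Nat := @Bool.rec (fun _ => Nat) (col30_s_12_14 c) (col30_s_14_17 c) (Nat.ble 14 c)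
noncomputable def col30_s_8_17 (c : Nat) : Nat := @Bool.rec (fun _ => Nat) (col30_s_8_12 c) (col30_s_12_17 c) (Nat.ble 12 c)
noncomputable def col30_s_0_17 (c : Nat) : Nat := @Bool.rec (fun _ => Nat) (col30_s_0_8 c) (col30_s_8_17 c) (Nat.ble 8 c)
noncomputable def col30 (i : Nat) : Nat := rdw 17 131071 (col30_s_0_17 (Nat.shiftRight i 12)) (Nat.land i 4095)
noncomputable def col31_s_0_2 (c : Nat) : Nat := @Bool.rec (fun _ => Nat) (col31_0) (col31_1) (Nat.ble 1 c)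
noncomputable def col31_s_2_4 (c : Nat) : Nat := @Bool.rec (fun _ => Nat) (col31_2) (col31_3) (Nat.ble 3 c)
noncomputable def col31_s_0_4 (c : Nat) : Nat := @Bool.rec (fun _ => Nat) (col31_s_0_2 c) (col31_s_2_4 c) (Nat.ble 2 c)
noncomputable def col31_s_4_6 (c : Nat) : Nat := @Bool.rec (fun _ => Nat) (col31_4) (col31_5) (Nat.ble 5 c)
noncomputable def col31_s_6_8 (c : Nat) : Nat := @Bool.rec (fun _ => Nat) (col31_6) (col31_7) (Nat.ble 7 c)
noncomputable def col31_s_4_8 (c : Nat) : Nat := @Bool.rec (fun _ => Nat) (col31_s_4_6 c) (col31_s_6_8 c) (Nat.ble 6 c)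
noncomputable def col31_s_0_8 (c : Nat) : Nat := @Bool.rec (fun _ => Nat) (col31_s_0_4 c) (col31_s_4_8 c) (Nat.ble 4 c)
noncomputable def col31_s_8_10 (c : Nat) : Nat := @Bool.rec (fun _ => Nat) (col31_8) (col31_9) (Nat.ble 9 c)
noncomputable def col31_s_10_12 (c : Nat) : Nat := @Bool.rec (fun _ => Nat) (col31_10) (col31_11) (Nat.ble 11 c)
noncomputable def col31_s_8_12 (c : Nat) : Nat := @Bool.rec (fun _ => Nat) (col31_s_8_10 c) (col31_s_10_12 c) (Nat.ble 10 c)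
noncomputable def col31_s_12_14 (c : Nat) : Nat := @Bool.rec (fun _ => Nat) (col31_12) (col31_13) (Nat.ble 13 c)
noncomputable def col31_s_15_17 (c : Nat) : Nat := @Bool.rec (fun _ => Nat) (col31_15) (col31_16) (Nat.ble 16 c)
noncomputable def col31_s_14_17 (c : Nat) : Nat := @Bool.rec (fun _ => Nat) (col31_14) (col31_s_15_17 c) (Nat.ble 15 c)
noncomputable def col31_s_12_17 (c : Nat) : Nat := @Bool.rec (fun _ => Nat) (col31_s_12_14 c) (col31_s_14_17 c) (Nat.ble 14 c)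
noncomputable def col31_s_8_17 (c : Nat) : Nat := @Bool.rec (fun _ => Nat) (col31_s_8_12 c) (col31_s_12_17 c) (Nat.ble 12 c)
noncomputable def col31_s_0_17 (c : Nat) : Nat := @Bool.rec (fun _ => Nat) (col31_s_0_8 c) (col31_s_8_17 c) (Nat.ble 8 c)
noncomputable def col31 (i : Nat) : Nat := rdw 17 131071 (col31_s_0_17 (Nat.shiftRight i 12)) (Nat.land i 4095)
noncomputable def col32_s_0_2 (c : Nat) : Nat := @Bool.rec (fun _ => Nat) (col32_0) (col32_1) (Nat.ble 1 c)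
noncomputable def col32_s_2_4 (c : Nat) : Nat := @Bool.rec (fun _ => Nat) (col32_2) (col32_3) (Nat.ble 3 c)
noncomputable def col32_s_0_4 (c : Nat) : Nat := @Bool.rec (fun _ => Nat) (col32_s_0_2 c) (col32_s_2_4 c) (Nat.ble 2 c)
noncomputable def col32_s_4_6 (c : Nat) : Nat := @Bool.rec (fun _ => Nat) (col32_4) (col32_5) (Nat.ble 5 c)
noncomputable def col32_s_6_8 (c : Nat) : Nat := @Bool.rec (fun _ => Nat) (col32_6) (col32_7) (Nat.ble 7 c)
noncomputable def col32_s_4_8 (c : Nat) : Nat := @Bool.rec (fun _ => Nat) (col32_s_4_6 c) (col32_s_6_8 c) (Nat.ble 6 c)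
noncomputable def col32_s_0_8 (c : Nat) : Nat := @Bool.rec (fun _ => Nat) (col32_s_0_4 c) (col32_s_4_8 c) (Nat.ble 4 c)
noncomputable def col32_s_8_10 (c : Nat) : Nat := @Bool.rec (fun _ => Nat) (col32_8) (col32_9) (Nat.ble 9 c)
noncomputable def col32_s_10_12 (c : Nat) : Nat := @Bool.rec (fun _ => Nat) (col32_10) (col32_11) (Nat.ble 11 c)
noncomputable def col32_s_8_12 (c : Nat) : Nat := @Bool.rec (fun _ => Nat) (col32_s_8_10 c) (col32_s_10_12 c) (Nat.ble 10 c)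
noncomputable def col32_s_12_14 (c : Nat) : Nat := @Bool.rec (fun _ => Nat) (col32_12) (col32_13) (Nat.ble 13 c)
noncomputable def col32_s_15_17 (c : Nat) : Nat := @Bool.rec (fun _ => Nat) (col32_15) (col32_16) (Nat.ble 16 c)
noncomputable def col32_s_14_17 (c : Nat) : Nat := @Bool.rec (fun _ => Nat) (col32_14) (col32_s_15_17 c) (Nat.ble 15 c)
noncomputable def col32_s_12_17 (c : Nat) : Nat := @Bool.rec (fun _ => Nat) (col32_s_12_14 c) (col32_s_14_17 c) (Nat.ble 14 c)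
noncomputable def col32_s_8_17 (c : Nat) : Nat := @Bool.rec (fun _ => Nat) (col32_s_8_12 c) (col32_s_12_17 c) (Nat.ble 12 c)
noncomputable def col32_s_0_17 (c : Nat) : Nat := @Bool.rec (fun _ => Nat) (col32_s_0_8 c) (col32_s_8_17 c) (Nat.ble 8 c)
noncomputable def col32 (i : Nat) : Nat := rdw 17 131071 (col32_s_0_17 (Nat.shiftRight i 12)) (Nat.land i 4095)
noncomputable def col33_s_0_2 (c : Nat) : Nat := @Bool.rec (fun _ => Nat) (col33_0) (col33_1) (Nat.ble 1 c)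
noncomputable def col33_s_2_4 (c : Nat) : Nat := @Bool.rec (fun _ => Nat) (col33_2) (col33_3) (Nat.ble 3 c)
noncomputable def col33_s_0_4 (c : Nat) : Nat := @Bool.rec (fun _ => Nat) (col33_s_0_2 c) (col33_s_2_4 c) (Nat.ble 2 c)
noncomputable def col33_s_4_6 (c : Nat) : Nat := @Bool.rec (fun _ => Nat) (col33_4) (col33_5) (Nat.ble 5 c)
noncomputable def col33_s_6_8 (c : Nat) : Nat := @Bool.rec (fun _ => Nat) (col33_6) (col33_7) (Nat.ble 7 c)
noncomputable def col33_s_4_8 (c : Nat) : Nat := @Bool.rec (fun _ => Nat) (col33_s_4_6 c) (col33_s_6_8 c) (Nat.ble 6 c)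
noncomputable def col33_s_0_8 (c : Nat) : Nat := @Bool.rec (fun _ => Nat) (col33_s_0_4 c) (col33_s_4_8 c) (Nat.ble 4 c)
noncomputable def col33_s_8_10 (c : Nat) : Nat := @Bool.rec (fun _ => Nat) (col33_8) (col33_9) (Nat.ble 9 c)
noncomputable def col33_s_10_12 (c : Nat) : Nat := @Bool.rec (fun _ => Nat) (col33_10) (col33_11) (Nat.ble 11 c)
noncomputable def col33_s_8_12 (c : Nat) : Nat := @Bool.rec (fun _ => Nat) (col33_s_8_10 c) (col33_s_10_12 c) (Nat.ble 10 c)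
noncomputable def col33_s_12_14 (c : Nat) : Nat := @Bool.rec (fun _ => Nat) (col33_12) (col33_13) (Nat.ble 13 c)
noncomputable def col33_s_15_17 (c : Nat) : Nat := @Bool.rec (fun _ => Nat) (col33_15) (col33_16) (Nat.ble 16 c)
noncomputable def col33_s_14_17 (c : Nat) : Nat := @Bool.rec (fun _ => Nat) (col33_14) (col33_s_15_17 c) (Nat.ble 15 c)
noncomputable def col33_s_12_17 (c : Nat) : Nat := @Bool.rec (fun _ => Nat) (col33_s_12_14 c) (col33_s_14_17 c) (Nat.ble 14 c)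
noncomputable def col33_s_8_17 (c : Nat) : Nat := @Bool.rec (fun _ => Nat) (col33_s_8_12 c) (col33_s_12_17 c) (Nat.ble 12 c)
noncomputable def col33_s_0_17 (c : Nat) : Nat := @Bool.rec (fun _ => Nat) (col33_s_0_8 c) (col33_s_8_17 c) (Nat.ble 8 c)
noncomputable def col33 (i : Nat) : Nat := rdw 17 131071 (col33_s_0_17 (Nat.shiftRight i 12)) (Nat.land i 4095)
noncomputable def finTab_s_0_2 (c : Nat) : Nat := @Bool.rec (fun _ => Nat) (finTab_0) (finTab_1) (Nat.ble 1 c)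
noncomputable def finTab_s_2_4 (c : Nat) : Nat := @Bool.rec (fun _ => Nat) (finTab_2) (finTab_3) (Nat.ble 3 c)
noncomputable def finTab_s_0_4 (c : Nat) : Nat := @Bool.rec (fun _ => Nat) (finTab_s_0_2 c) (finTab_s_2_4 c) (Nat.ble 2 c)
noncomputable def finTab_s_4_6 (c : Nat) : Nat := @Bool.rec (fun _ => Nat) (finTab_4) (finTab_5) (Nat.ble 5 c)
noncomputable def finTab_s_6_8 (c : Nat) : Nat := @Bool.rec (fun _ => Nat) (finTab_6) (finTab_7) (Nat.ble 7 c)
noncomputable def finTab_s_4_8 (c : Nat) : Nat := @Bool.rec (fun _ => Nat) (finTab_s_4_6 c) (finTab_s_6_8 c) (Nat.ble 6 c)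
noncomputable def finTab_s_0_8 (c : Nat) : Nat := @Bool.rec (fun _ => Nat) (finTab_s_0_4 c) (finTab_s_4_8 c) (Nat.ble 4 c)
noncomputable def finTab_s_8_10 (c : Nat) : Nat := @Bool.rec (fun _ => Nat) (finTab_8) (finTab_9) (Nat.ble 9 c)
noncomputable def finTab_s_10_12 (c : Nat) : Nat := @Bool.rec (fun _ => Nat) (finTab_10) (finTab_11) (Nat.ble 11 c)
noncomputable def finTab_s_8_12 (c : Nat) : Nat := @Bool.rec (fun _ => Nat) (finTab_s_8_10 c) (finTab_s_10_12 c) (Nat.ble 10 c)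
noncomputable def finTab_s_12_14 (c : Nat) : Nat := @Bool.rec (fun _ => Nat) (finTab_12) (finTab_13) (Nat.ble 13 c)
noncomputable def finTab_s_15_17 (c : Nat) : Nat := @Bool.rec (fun _ => Nat) (finTab_15) (finTab_16) (Nat.ble 16 c)
noncomputable def finTab_s_14_17 (c : Nat) : Nat := @Bool.rec (fun _ => Nat) (finTab_14) (finTab_s_15_17 c) (Nat.ble 15 c)
noncomputable def finTab_s_12_17 (c : Nat) : Nat := @Bool.rec (fun _ => Nat) (finTab_s_12_14 c) (finTab_s_14_17 c) (Nat.ble 14 c)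
noncomputable def finTab_s_8_17 (c : Nat) : Nat := @Bool.rec (fun _ => Nat) (finTab_s_8_12 c) (finTab_s_12_17 c) (Nat.ble 12 c)
noncomputable def finTab_s_0_17 (c : Nat) : Nat := @Bool.rec (fun _ => Nat) (finTab_s_0_8 c) (finTab_s_8_17 c) (Nat.ble 8 c)
noncomputable def finTab_s_17_19 (c : Nat) : Nat := @Bool.rec (fun _ => Nat) (finTab_17) (finTab_18) (Nat.ble 18 c)
noncomputable def finTab_s_19_21 (c : Nat) : Nat := @Bool.rec (fun _ => Nat) (finTab_19) (finTab_20) (Nat.ble 20 c)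
noncomputable def finTab_s_17_21 (c : Nat) : Nat := @Bool.rec (fun _ => Nat) (finTab_s_17_19 c) (finTab_s_19_21 c) (Nat.ble 19 c)
noncomputable def finTab_s_21_23 (c : Nat) : Nat := @Bool.rec (fun _ => Nat) (finTab_21) (finTab_22) (Nat.ble 22 c)
noncomputable def finTab_s_23_25 (c : Nat) : Nat := @Bool.rec (fun _ => Nat) (finTab_23) (finTab_24) (Nat.ble 24 c)
noncomputable def finTab_s_21_25 (c : Nat) : Nat := @Bool.rec (fun _ => Nat) (finTab_s_21_23 c) (finTab_s_23_25 c) (Nat.ble 23 c)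
noncomputable def finTab_s_17_25 (c : Nat) : Nat := @Bool.rec (fun _ => Nat) (finTab_s_17_21 c) (finTab_s_21_25 c) (Nat.ble 21 c)
noncomputable def finTab_s_25_27 (c : Nat) : Nat := @Bool.rec (fun _ => Nat) (finTab_25) (finTab_26) (Nat.ble 26 c)
noncomputable def finTab_s_27_29 (c : Nat) : Nat := @Bool.rec (fun _ => Nat) (finTab_27) (finTab_28) (Nat.ble 28 c)
noncomputable def finTab_s_25_29 (c : Nat) : Nat := @Bool.rec (fun _ => Nat) (finTab_s_25_27 c) (finTab_s_27_29 c) (Nat.ble 27 c)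
noncomputable def finTab_s_29_31 (c : Nat) : Nat := @Bool.rec (fun _ => Nat) (finTab_29) (finTab_30) (Nat.ble 30 c)
noncomputable def finTab_s_32_34 (c : Nat) : Nat := @Bool.rec (fun _ => Nat) (finTab_32) (finTab_33) (Nat.ble 33 c)
noncomputable def finTab_s_31_34 (c : Nat) : Nat := @Bool.rec (fun _ => Nat) (finTab_31) (finTab_s_32_34 c) (Nat.ble 32 c)
noncomputable def finTab_s_29_34 (c : Nat) : Nat := @Bool.rec (fun _ => Nat) (finTab_s_29_31 c) (finTab_s_31_34 c) (Nat.ble 31 c)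
noncomputable def finTab_s_25_34 (c : Nat) : Nat := @Bool.rec (fun _ => Nat) (finTab_s_25_29 c) (finTab_s_29_34 c) (Nat.ble 29 c)
noncomputable def finTab_s_17_34 (c : Nat) : Nat := @Bool.rec (fun _ => Nat) (finTab_s_17_25 c) (finTab_s_25_34 c) (Nat.ble 25 c)
noncomputable def finTab_s_0_34 (c : Nat) : Nat := @Bool.rec (fun _ => Nat) (finTab_s_0_17 c) (finTab_s_17_34 c) (Nat.ble 17 c)
noncomputable def finTab_s_34_36 (c : Nat) : Nat := @Bool.rec (fun _ => Nat) (finTab_34) (finTab_35) (Nat.ble 35 c)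
noncomputable def finTab_s_36_38 (c : Nat) : Nat := @Bool.rec (fun _ => Nat) (finTab_36) (finTab_37) (Nat.ble 37 c)
noncomputable def finTab_s_34_38 (c : Nat) : Nat := @Bool.rec (fun _ => Nat) (finTab_s_34_36 c) (finTab_s_36_38 c) (Nat.ble 36 c)
noncomputable def finTab_s_38_40 (c : Nat) : Nat := @Bool.rec (fun _ => Nat) (finTab_38) (finTab_39) (Nat.ble 39 c)
noncomputable def finTab_s_40_42 (c : Nat) : Nat := @Bool.rec (fun _ => Nat) (finTab_40) (finTab_41) (Nat.ble 41 c)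
noncomputable def finTab_s_38_42 (c : Nat) : Nat := @Bool.rec (fun _ => Nat) (finTab_s_38_40 c) (finTab_s_40_42 c) (Nat.ble 40 c)
noncomputable def finTab_s_34_42 (c : Nat) : Nat := @Bool.rec (fun _ => Nat) (finTab_s_34_38 c) (finTab_s_38_42 c) (Nat.ble 38 c)
noncomputable def finTab_s_42_44 (c : Nat) : Nat := @Bool.rec (fun _ => Nat) (finTab_42) (finTab_43) (Nat.ble 43 c)
noncomputable def finTab_s_44_46 (c : Nat) : Nat := @Bool.rec (fun _ => Nat) (finTab_44) (finTab_45) (Nat.ble 45 c)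
noncomputable def finTab_s_42_46 (c : Nat) : Nat := @Bool.rec (fun _ => Nat) (finTab_s_42_44 c) (finTab_s_44_46 c) (Nat.ble 44 c)
noncomputable def finTab_s_46_48 (c : Nat) : Nat := @Bool.rec (fun _ => Nat) (finTab_46) (finTab_47) (Nat.ble 47 c)
noncomputable def finTab_s_49_51 (c : Nat) : Nat := @Bool.rec (fun _ => Nat) (finTab_49) (finTab_50) (Nat.ble 50 c)
noncomputable def finTab_s_48_51 (c : Nat) : Nat := @Bool.rec (fun _ => Nat) (finTab_48) (finTab_s_49_51 c) (Nat.ble 49 c)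
noncomputable def finTab_s_46_51 (c : Nat) : Nat := @Bool.rec (fun _ => Nat) (finTab_s_46_48 c) (finTab_s_48_51 c) (Nat.ble 48 c)
noncomputable def finTab_s_42_51 (c : Nat) : Nat := @Bool.rec (fun _ => Nat) (finTab_s_42_46 c) (finTab_s_46_51 c) (Nat.ble 46 c)
noncomputable def finTab_s_34_51 (c : Nat) : Nat := @Bool.rec (fun _ => Nat) (finTab_s_34_42 c) (finTab_s_42_51 c) (Nat.ble 42 c)
noncomputable def finTab_s_51_53 (c : Nat) : Nat := @Bool.rec (fun _ => Nat) (finTab_51) (finTab_52) (Nat.ble 52 c)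
noncomputable def finTab_s_53_55 (c : Nat) : Nat := @Bool.rec (fun _ => Nat) (finTab_53) (finTab_54) (Nat.ble 54 c)
noncomputable def finTab_s_51_55 (c : Nat) : Nat := @Bool.rec (fun _ => Nat) (finTab_s_51_53 c) (finTab_s_53_55 c) (Nat.ble 53 c)
noncomputable def finTab_s_55_57 (c : Nat) : Nat := @Bool.rec (fun _ => Nat) (finTab_55) (finTab_56) (Nat.ble 56 c)
noncomputable def finTab_s_58_60 (c : Nat) : Nat := @Bool.rec (fun _ => Nat) (finTab_58) (finTab_59) (Nat.ble 59 c)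
noncomputable def finTab_s_57_60 (c : Nat) : Nat := @Bool.rec (fun _ => Nat) (finTab_57) (finTab_s_58_60 c) (Nat.ble 58 c)
noncomputable def finTab_s_55_60 (c : Nat) : Nat := @Bool.rec (fun _ => Nat) (finTab_s_55_57 c) (finTab_s_57_60 c) (Nat.ble 57 c)
noncomputable def finTab_s_51_60 (c : Nat) : Nat := @Bool.rec (fun _ => Nat) (finTab_s_51_55 c) (finTab_s_55_60 c) (Nat.ble 55 c)
noncomputable def finTab_s_60_62 (c : Nat) : Nat := @Bool.rec (fun _ => Nat) (finTab_60) (finTab_61) (Nat.ble 61 c)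
noncomputable def finTab_s_62_64 (c : Nat) : Nat := @Bool.rec (fun _ => Nat) (finTab_62) (finTab_63) (Nat.ble 63 c)
noncomputable def finTab_s_60_64 (c : Nat) : Nat := @Bool.rec (fun _ => Nat) (finTab_s_60_62 c) (finTab_s_62_64 c) (Nat.ble 62 c)
noncomputable def finTab_s_64_66 (c : Nat) : Nat := @Bool.rec (fun _ => Nat) (finTab_64) (finTab_65) (Nat.ble 65 c)
noncomputable def finTab_s_67_69 (c : Nat) : Nat := @Bool.rec (fun _ => Nat) (finTab_67) (finTab_68) (Nat.ble 68 c)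
noncomputable def finTab_s_66_69 (c : Nat) : Nat := @Bool.rec (fun _ => Nat) (finTab_66) (finTab_s_67_69 c) (Nat.ble 67 c)
noncomputable def finTab_s_64_69 (c : Nat) : Nat := @Bool.rec (fun _ => Nat) (finTab_s_64_66 c) (finTab_s_66_69 c) (Nat.ble 66 c)
noncomputable def finTab_s_60_69 (c : Nat) : Nat := @Bool.rec (fun _ => Nat) (finTab_s_60_64 c) (finTab_s_64_69 c) (Nat.ble 64 c)
noncomputable def finTab_s_51_69 (c : Nat) : Nat := @Bool.rec (fun _ => Nat) (finTab_s_51_60 c) (finTab_s_60_69 c) (Nat.ble 60 c)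
noncomputable def finTab_s_34_69 (c : Nat) : Nat := @Bool.rec (fun _ => Nat) (finTab_s_34_51 c) (finTab_s_51_69 c) (Nat.ble 51 c)
noncomputable def finTab_s_0_69 (c : Nat) : Nat := @Bool.rec (fun _ => Nat) (finTab_s_0_34 c) (finTab_s_34_69 c) (Nat.ble 34 c)
noncomputable def finTab_s_69_71 (c : Nat) : Nat := @Bool.rec (fun _ => Nat) (finTab_69) (finTab_70) (Nat.ble 70 c)
noncomputable def finTab_s_71_73 (c : Nat) : Nat := @Bool.rec (fun _ => Nat) (finTab_71) (finTab_72) (Nat.ble 72 c)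
noncomputable def finTab_s_69_73 (c : Nat) : Nat := @Bool.rec (fun _ => Nat) (finTab_s_69_71 c) (finTab_s_71_73 c) (Nat.ble 71 c)
noncomputable def finTab_s_73_75 (c : Nat) : Nat := @Bool.rec (fun _ => Nat) (finTab_73) (finTab_74) (Nat.ble 74 c)
noncomputable def finTab_s_75_77 (c : Nat) : Nat := @Bool.rec (fun _ => Nat) (finTab_75) (finTab_76) (Nat.ble 76 c)
noncomputable def finTab_s_73_77 (c : Nat) : Nat := @Bool.rec (fun _ => Nat) (finTab_s_73_75 c) (finTab_s_75_77 c) (Nat.ble 75 c)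
noncomputable def finTab_s_69_77 (c : Nat) : Nat := @Bool.rec (fun _ => Nat) (finTab_s_69_73 c) (finTab_s_73_77 c) (Nat.ble 73 c)
noncomputable def finTab_s_77_79 (c : Nat) : Nat := @Bool.rec (fun _ => Nat) (finTab_77) (finTab_78) (Nat.ble 78 c)
noncomputable def finTab_s_79_81 (c : Nat) : Nat := @Bool.rec (fun _ => Nat) (finTab_79) (finTab_80) (Nat.ble 80 c)
noncomputable def finTab_s_77_81 (c : Nat) : Nat := @Bool.rec (fun _ => Nat) (finTab_s_77_79 c) (finTab_s_79_81 c) (Nat.ble 79 c)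
noncomputable def finTab_s_81_83 (c : Nat) : Nat := @Bool.rec (fun _ => Nat) (finTab_81) (finTab_82) (Nat.ble 82 c)
noncomputable def finTab_s_84_86 (c : Nat) : Nat := @Bool.rec (fun _ => Nat) (finTab_84) (finTab_85) (Nat.ble 85 c)
noncomputable def finTab_s_83_86 (c : Nat) : Nat := @Bool.rec (fun _ => Nat) (finTab_83) (finTab_s_84_86 c) (Nat.ble 84 c)
noncomputable def finTab_s_81_86 (c : Nat) : Nat := @Bool.rec (fun _ => Nat) (finTab_s_81_83 c) (finTab_s_83_86 c) (Nat.ble 83 c)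
noncomputable def finTab_s_77_86 (c : Nat) : Nat := @Bool.rec (fun _ => Nat) (finTab_s_77_81 c) (finTab_s_81_86 c) (Nat.ble 81 c)
noncomputable def finTab_s_69_86 (c : Nat) : Nat := @Bool.rec (fun _ => Nat) (finTab_s_69_77 c) (finTab_s_77_86 c) (Nat.ble 77 c)
noncomputable def finTab_s_86_88 (c : Nat) : Nat := @Bool.rec (fun _ => Nat) (finTab_86) (finTab_87) (Nat.ble 87 c)
noncomputable def finTab_s_88_90 (c : Nat) : Nat := @Bool.rec (fun _ => Nat) (finTab_88) (finTab_89) (Nat.ble 89 c)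
noncomputable def finTab_s_86_90 (c : Nat) : Nat := @Bool.rec (fun _ => Nat) (finTab_s_86_88 c) (finTab_s_88_90 c) (Nat.ble 88 c)
noncomputable def finTab_s_90_92 (c : Nat) : Nat := @Bool.rec (fun _ => Nat) (finTab_90) (finTab_91) (Nat.ble 91 c)
noncomputable def finTab_s_92_94 (c : Nat) : Nat := @Bool.rec (fun _ => Nat) (finTab_92) (finTab_93) (Nat.ble 93 c)
noncomputable def finTab_s_90_94 (c : Nat) : Nat := @Bool.rec (fun _ => Nat) (finTab_s_90_92 c) (finTab_s_92_94 c) (Nat.ble 92 c)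
noncomputable def finTab_s_86_94 (c : Nat) : Nat := @Bool.rec (fun _ => Nat) (finTab_s_86_90 c) (finTab_s_90_94 c) (Nat.ble 90 c)
noncomputable def finTab_s_94_96 (c : Nat) : Nat := @Bool.rec (fun _ => Nat) (finTab_94) (finTab_95) (Nat.ble 95 c)
noncomputable def finTab_s_96_98 (c : Nat) : Nat := @Bool.rec (fun _ => Nat) (finTab_96) (finTab_97) (Nat.ble 97 c)
noncomputable def finTab_s_94_98 (c : Nat) : Nat := @Bool.rec (fun _ => Nat) (finTab_s_94_96 c) (finTab_s_96_98 c) (Nat.ble 96 c)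
noncomputable def finTab_s_98_100 (c : Nat) : Nat := @Bool.rec (fun _ => Nat) (finTab_98) (finTab_99) (Nat.ble 99 c)
noncomputable def finTab_s_101_103 (c : Nat) : Nat := @Bool.rec (fun _ => Nat) (finTab_101) (finTab_102) (Nat.ble 102 c)
noncomputable def finTab_s_100_103 (c : Nat) : Nat := @Bool.rec (fun _ => Nat) (finTab_100) (finTab_s_101_103 c) (Nat.ble 101 c)
noncomputable def finTab_s_98_103 (c : Nat) : Nat := @Bool.rec (fun _ => Nat) (finTab_s_98_100 c) (finTab_s_100_103 c) (Nat.ble 100 c)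
noncomputable def finTab_s_94_103 (c : Nat) : Nat := @Bool.rec (fun _ => Nat) (finTab_s_94_98 c) (finTab_s_98_103 c) (Nat.ble 98 c)
noncomputable def finTab_s_86_103 (c : Nat) : Nat := @Bool.rec (fun _ => Nat) (finTab_s_86_94 c) (finTab_s_94_103 c) (Nat.ble 94 c)
noncomputable def finTab_s_69_103 (c : Nat) : Nat := @Bool.rec (fun _ => Nat) (finTab_s_69_86 c) (finTab_s_86_103 c) (Nat.ble 86 c)
noncomputable def finTab_s_103_105 (c : Nat) : Nat := @Bool.rec (fun _ => Nat) (finTab_103) (finTab_104) (Nat.ble 104 c)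
noncomputable def finTab_s_105_107 (c : Nat) : Nat := @Bool.rec (fun _ => Nat) (finTab_105) (finTab_106) (Nat.ble 106 c)
noncomputable def finTab_s_103_107 (c : Nat) : Nat := @Bool.rec (fun _ => Nat) (finTab_s_103_105 c) (finTab_s_105_107 c) (Nat.ble 105 c)
noncomputable def finTab_s_107_109 (c : Nat) : Nat := @Bool.rec (fun _ => Nat) (finTab_107) (finTab_108) (Nat.ble 108 c)
noncomputable def finTab_s_109_111 (c : Nat) : Nat := @Bool.rec (fun _ => Nat) (finTab_109) (finTab_110) (Nat.ble 110 c)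
noncomputable def finTab_s_107_111 (c : Nat) : Nat := @Bool.rec (fun _ => Nat) (finTab_s_107_109 c) (finTab_s_109_111 c) (Nat.ble 109 c)
noncomputable def finTab_s_103_111 (c : Nat) : Nat := @Bool.rec (fun _ => Nat) (finTab_s_103_107 c) (finTab_s_107_111 c) (Nat.ble 107 c)
noncomputable def finTab_s_111_113 (c : Nat) : Nat := @Bool.rec (fun _ => Nat) (finTab_111) (finTab_112) (Nat.ble 112 c)
noncomputable def finTab_s_113_115 (c : Nat) : Nat := @Bool.rec (fun _ => Nat) (finTab_113) (finTab_114) (Nat.ble 114 c)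
noncomputable def finTab_s_111_115 (c : Nat) : Nat := @Bool.rec (fun _ => Nat) (finTab_s_111_113 c) (finTab_s_113_115 c) (Nat.ble 113 c)
noncomputable def finTab_s_115_117 (c : Nat) : Nat := @Bool.rec (fun _ => Nat) (finTab_115) (finTab_116) (Nat.ble 116 c)
noncomputable def finTab_s_118_120 (c : Nat) : Nat := @Bool.rec (fun _ => Nat) (finTab_118) (finTab_119) (Nat.ble 119 c)
noncomputable def finTab_s_117_120 (c : Nat) : Nat := @Bool.rec (fun _ => Nat) (finTab_117) (finTab_s_118_120 c) (Nat.ble 118 c)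
noncomputable def finTab_s_115_120 (c : Nat) : Nat := @Bool.rec (fun _ => Nat) (finTab_s_115_117 c) (finTab_s_117_120 c) (Nat.ble 117 c)
noncomputable def finTab_s_111_120 (c : Nat) : Nat := @Bool.rec (fun _ => Nat) (finTab_s_111_115 c) (finTab_s_115_120 c) (Nat.ble 115 c)
noncomputable def finTab_s_103_120 (c : Nat) : Nat := @Bool.rec (fun _ => Nat) (finTab_s_103_111 c) (finTab_s_111_120 c) (Nat.ble 111 c)
noncomputable def finTab_s_120_122 (c : Nat) : Nat := @Bool.rec (fun _ => Nat) (finTab_120) (finTab_121) (Nat.ble 121 c)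
noncomputable def finTab_s_122_124 (c : Nat) : Nat := @Bool.rec (fun _ => Nat) (finTab_122) (finTab_123) (Nat.ble 123 c)
noncomputable def finTab_s_120_124 (c : Nat) : Nat := @Bool.rec (fun _ => Nat) (finTab_s_120_122 c) (finTab_s_122_124 c) (Nat.ble 122 c)
noncomputable def finTab_s_124_126 (c : Nat) : Nat := @Bool.rec (fun _ => Nat) (finTab_124) (finTab_125) (Nat.ble 125 c)
noncomputable def finTab_s_127_129 (c : Nat) : Nat := @Bool.rec (fun _ => Nat) (finTab_127) (finTab_128) (Nat.ble 128 c)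
noncomputable def finTab_s_126_129 (c : Nat) : Nat := @Bool.rec (fun _ => Nat) (finTab_126) (finTab_s_127_129 c) (Nat.ble 127 c)
noncomputable def finTab_s_124_129 (c : Nat) : Nat := @Bool.rec (fun _ => Nat) (finTab_s_124_126 c) (finTab_s_126_129 c) (Nat.ble 126 c)
noncomputable def finTab_s_120_129 (c : Nat) : Nat := @Bool.rec (fun _ => Nat) (finTab_s_120_124 c) (finTab_s_124_129 c) (Nat.ble 124 c)
noncomputable def finTab_s_129_131 (c : Nat) : Nat := @Bool.rec (fun _ => Nat) (finTab_129) (finTab_130) (Nat.ble 130 c)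
noncomputable def finTab_s_131_133 (c : Nat) : Nat := @Bool.rec (fun _ => Nat) (finTab_131) (finTab_132) (Nat.ble 132 c)
noncomputable def finTab_s_129_133 (c : Nat) : Nat := @Bool.rec (fun _ => Nat) (finTab_s_129_131 c) (finTab_s_131_133 c) (Nat.ble 131 c)
noncomputable def finTab_s_133_135 (c : Nat) : Nat := @Bool.rec (fun _ => Nat) (finTab_133) (finTab_134) (Nat.ble 134 c)
noncomputable def finTab_s_136_138 (c : Nat) : Nat := @Bool.rec (fun _ => Nat) (finTab_136) (finTab_137) (Nat.ble 137 c)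
noncomputable def finTab_s_135_138 (c : Nat) : Nat := @Bool.rec (fun _ => Nat) (finTab_135) (finTab_s_136_138 c) (Nat.ble 136 c)
noncomputable def finTab_s_133_138 (c : Nat) : Nat := @Bool.rec (fun _ => Nat) (finTab_s_133_135 c) (finTab_s_135_138 c) (Nat.ble 135 c)
noncomputable def finTab_s_129_138 (c : Nat) : Nat := @Bool.rec (fun _ => Nat) (finTab_s_129_133 c) (finTab_s_133_138 c) (Nat.ble 133 c)
noncomputable def finTab_s_120_138 (c : Nat) : Nat := @Bool.rec (fun _ => Nat) (finTab_s_120_129 c) (finTab_s_129_138 c) (Nat.ble 129 c)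
noncomputable def finTab_s_103_138 (c : Nat) : Nat := @Bool.rec (fun _ => Nat) (finTab_s_103_120 c) (finTab_s_120_138 c) (Nat.ble 120 c)
noncomputable def finTab_s_69_138 (c : Nat) : Nat := @Bool.rec (fun _ => Nat) (finTab_s_69_103 c) (finTab_s_103_138 c) (Nat.ble 103 c)
noncomputable def finTab_s_0_138 (c : Nat) : Nat := @Bool.rec (fun _ => Nat) (finTab_s_0_69 c) (finTab_s_69_138 c) (Nat.ble 69 c)
noncomputable def finTab_s_138_140 (c : Nat) : Nat := @Bool.rec (fun _ => Nat) (finTab_138) (finTab_139) (Nat.ble 139 c)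
noncomputable def finTab_s_140_142 (c : Nat) : Nat := @Bool.rec (fun _ => Nat) (finTab_140) (finTab_141) (Nat.ble 141 c)
noncomputable def finTab_s_138_142 (c : Nat) : Nat := @Bool.rec (fun _ => Nat) (finTab_s_138_140 c) (finTab_s_140_142 c) (Nat.ble 140 c)
noncomputable def finTab_s_142_144 (c : Nat) : Nat := @Bool.rec (fun _ => Nat) (finTab_142) (finTab_143) (Nat.ble 143 c)
noncomputable def finTab_s_144_146 (c : Nat) : Nat := @Bool.rec (fun _ => Nat) (finTab_144) (finTab_145) (Nat.ble 145 c)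
noncomputable def finTab_s_142_146 (c : Nat) : Nat := @Bool.rec (fun _ => Nat) (finTab_s_142_144 c) (finTab_s_144_146 c) (Nat.ble 144 c)
noncomputable def finTab_s_138_146 (c : Nat) : Nat := @Bool.rec (fun _ => Nat) (finTab_s_138_142 c) (finTab_s_142_146 c) (Nat.ble 142 c)
noncomputable def finTab_s_146_148 (c : Nat) : Nat := @Bool.rec (fun _ => Nat) (finTab_146) (finTab_147) (Nat.ble 147 c)
noncomputable def finTab_s_148_150 (c : Nat) : Nat := @Bool.rec (fun _ => Nat) (finTab_148) (finTab_149) (Nat.ble 149 c)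
noncomputable def finTab_s_146_150 (c : Nat) : Nat := @Bool.rec (fun _ => Nat) (finTab_s_146_148 c) (finTab_s_148_150 c) (Nat.ble 148 c)
noncomputable def finTab_s_150_152 (c : Nat) : Nat := @Bool.rec (fun _ => Nat) (finTab_150) (finTab_151) (Nat.ble 151 c)
noncomputable def finTab_s_153_155 (c : Nat) : Nat := @Bool.rec (fun _ => Nat) (finTab_153) (finTab_154) (Nat.ble 154 c)
noncomputable def finTab_s_152_155 (c : Nat) : Nat := @Bool.rec (fun _ => Nat) (finTab_152) (finTab_s_153_155 c) (Nat.ble 153 c)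
noncomputable def finTab_s_150_155 (c : Nat) : Nat := @Bool.rec (fun _ => Nat) (finTab_s_150_152 c) (finTab_s_152_155 c) (Nat.ble 152 c)
noncomputable def finTab_s_146_155 (c : Nat) : Nat := @Bool.rec (fun _ => Nat) (finTab_s_146_150 c) (finTab_s_150_155 c) (Nat.ble 150 c)
noncomputable def finTab_s_138_155 (c : Nat) : Nat := @Bool.rec (fun _ => Nat) (finTab_s_138_146 c) (finTab_s_146_155 c) (Nat.ble 146 c)
noncomputable def finTab_s_155_157 (c : Nat) : Nat := @Bool.rec (fun _ => Nat) (finTab_155) (finTab_156) (Nat.ble 156 c)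
noncomputable def finTab_s_157_159 (c : Nat) : Nat := @Bool.rec (fun _ => Nat) (finTab_157) (finTab_158) (Nat.ble 158 c)
noncomputable def finTab_s_155_159 (c : Nat) : Nat := @Bool.rec (fun _ => Nat) (finTab_s_155_157 c) (finTab_s_157_159 c) (Nat.ble 157 c)
noncomputable def finTab_s_159_161 (c : Nat) : Nat := @Bool.rec (fun _ => Nat) (finTab_159) (finTab_160) (Nat.ble 160 c)
noncomputable def finTab_s_161_163 (c : Nat) : Nat := @Bool.rec (fun _ => Nat) (finTab_161) (finTab_162) (Nat.ble 162 c)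
noncomputable def finTab_s_159_163 (c : Nat) : Nat := @Bool.rec (fun _ => Nat) (finTab_s_159_161 c) (finTab_s_161_163 c) (Nat.ble 161 c)
noncomputable def finTab_s_155_163 (c : Nat) : Nat := @Bool.rec (fun _ => Nat) (finTab_s_155_159 c) (finTab_s_159_163 c) (Nat.ble 159 c)
noncomputable def finTab_s_163_165 (c : Nat) : Nat := @Bool.rec (fun _ => Nat) (finTab_163) (finTab_164) (Nat.ble 164 c)
noncomputable def finTab_s_165_167 (c : Nat) : Nat := @Bool.rec (fun _ => Nat) (finTab_165) (finTab_166) (Nat.ble 166 c)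
noncomputable def finTab_s_163_167 (c : Nat) : Nat := @Bool.rec (fun _ => Nat) (finTab_s_163_165 c) (finTab_s_165_167 c) (Nat.ble 165 c)
noncomputable def finTab_s_167_169 (c : Nat) : Nat := @Bool.rec (fun _ => Nat) (finTab_167) (finTab_168) (Nat.ble 168 c)
noncomputable def finTab_s_170_172 (c : Nat) : Nat := @Bool.rec (fun _ => Nat) (finTab_170) (finTab_171) (Nat.ble 171 c)
noncomputable def finTab_s_169_172 (c : Nat) : Nat := @Bool.rec (fun _ => Nat) (finTab_169) (finTab_s_170_172 c) (Nat.ble 170 c)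
noncomputable def finTab_s_167_172 (c : Nat) : Nat := @Bool.rec (fun _ => Nat) (finTab_s_167_169 c) (finTab_s_169_172 c) (Nat.ble 169 c)
noncomputable def finTab_s_163_172 (c : Nat) : Nat := @Bool.rec (fun _ => Nat) (finTab_s_163_167 c) (finTab_s_167_172 c) (Nat.ble 167 c)
noncomputable def finTab_s_155_172 (c : Nat) : Nat := @Bool.rec (fun _ => Nat) (finTab_s_155_163 c) (finTab_s_163_172 c) (Nat.ble 163 c)
noncomputable def finTab_s_138_172 (c : Nat) : Nat := @Bool.rec (fun _ => Nat) (finTab_s_138_155 c) (finTab_s_155_172 c) (Nat.ble 155 c)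
noncomputable def finTab_s_172_174 (c : Nat) : Nat := @Bool.rec (fun _ => Nat) (finTab_172) (finTab_173) (Nat.ble 173 c)
noncomputable def finTab_s_174_176 (c : Nat) : Nat := @Bool.rec (fun _ => Nat) (finTab_174) (finTab_175) (Nat.ble 175 c)
noncomputable def finTab_s_172_176 (c : Nat) : Nat := @Bool.rec (fun _ => Nat) (finTab_s_172_174 c) (finTab_s_174_176 c) (Nat.ble 174 c)
noncomputable def finTab_s_176_178 (c : Nat) : Nat := @Bool.rec (fun _ => Nat) (finTab_176) (finTab_177) (Nat.ble 177 c)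
noncomputable def finTab_s_178_180 (c : Nat) : Nat := @Bool.rec (fun _ => Nat) (finTab_178) (finTab_179) (Nat.ble 179 c)
noncomputable def finTab_s_176_180 (c : Nat) : Nat := @Bool.rec (fun _ => Nat) (finTab_s_176_178 c) (finTab_s_178_180 c) (Nat.ble 178 c)
noncomputable def finTab_s_172_180 (c : Nat) : Nat := @Bool.rec (fun _ => Nat) (finTab_s_172_176 c) (finTab_s_176_180 c) (Nat.ble 176 c)
noncomputable def finTab_s_180_182 (c : Nat) : Nat := @Bool.rec (fun _ => Nat) (finTab_180) (finTab_181) (Nat.ble 181 c)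
noncomputable def finTab_s_182_184 (c : Nat) : Nat := @Bool.rec (fun _ => Nat) (finTab_182) (finTab_183) (Nat.ble 183 c)
noncomputable def finTab_s_180_184 (c : Nat) : Nat := @Bool.rec (fun _ => Nat) (finTab_s_180_182 c) (finTab_s_182_184 c) (Nat.ble 182 c)
noncomputable def finTab_s_184_186 (c : Nat) : Nat := @Bool.rec (fun _ => Nat) (finTab_184) (finTab_185) (Nat.ble 185 c)
noncomputable def finTab_s_187_189 (c : Nat) : Nat := @Bool.rec (fun _ => Nat) (finTab_187) (finTab_188) (Nat.ble 188 c)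
noncomputable def finTab_s_186_189 (c : Nat) : Nat := @Bool.rec (fun _ => Nat) (finTab_186) (finTab_s_187_189 c) (Nat.ble 187 c)
noncomputable def finTab_s_184_189 (c : Nat) : Nat := @Bool.rec (fun _ => Nat) (finTab_s_184_186 c) (finTab_s_186_189 c) (Nat.ble 186 c)
noncomputable def finTab_s_180_189 (c : Nat) : Nat := @Bool.rec (fun _ => Nat) (finTab_s_180_184 c) (finTab_s_184_189 c) (Nat.ble 184 c)
noncomputable def finTab_s_172_189 (c : Nat) : Nat := @Bool.rec (fun _ => Nat) (finTab_s_172_180 c) (finTab_s_180_189 c) (Nat.ble 180 c)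
noncomputable def finTab_s_189_191 (c : Nat) : Nat := @Bool.rec (fun _ => Nat) (finTab_189) (finTab_190) (Nat.ble 190 c)
noncomputable def finTab_s_191_193 (c : Nat) : Nat := @Bool.rec (fun _ => Nat) (finTab_191) (finTab_192) (Nat.ble 192 c)
noncomputable def finTab_s_189_193 (c : Nat) : Nat := @Bool.rec (fun _ => Nat) (finTab_s_189_191 c) (finTab_s_191_193 c) (Nat.ble 191 c)
noncomputable def finTab_s_193_195 (c : Nat) : Nat := @Bool.rec (fun _ => Nat) (finTab_193) (finTab_194) (Nat.ble 194 c)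
noncomputable def finTab_s_196_198 (c : Nat) : Nat := @Bool.rec (fun _ => Nat) (finTab_196) (finTab_197) (Nat.ble 197 c)
noncomputable def finTab_s_195_198 (c : Nat) : Nat := @Bool.rec (fun _ => Nat) (finTab_195) (finTab_s_196_198 c) (Nat.ble 196 c)
noncomputable def finTab_s_193_198 (c : Nat) : Nat := @Bool.rec (fun _ => Nat) (finTab_s_193_195 c) (finTab_s_195_198 c) (Nat.ble 195 c)
noncomputable def finTab_s_189_198 (c : Nat) : Nat := @Bool.rec (fun _ => Nat) (finTab_s_189_193 c) (finTab_s_193_198 c) (Nat.ble 193 c)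
noncomputable def finTab_s_198_200 (c : Nat) : Nat := @Bool.rec (fun _ => Nat) (finTab_198) (finTab_199) (Nat.ble 199 c)
noncomputable def finTab_s_200_202 (c : Nat) : Nat := @Bool.rec (fun _ => Nat) (finTab_200) (finTab_201) (Nat.ble 201 c)
noncomputable def finTab_s_198_202 (c : Nat) : Nat := @Bool.rec (fun _ => Nat) (finTab_s_198_200 c) (finTab_s_200_202 c) (Nat.ble 200 c)
noncomputable def finTab_s_202_204 (c : Nat) : Nat := @Bool.rec (fun _ => Nat) (finTab_202) (finTab_203) (Nat.ble 203 c)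
noncomputable def finTab_s_205_207 (c : Nat) : Nat := @Bool.rec (fun _ => Nat) (finTab_205) (finTab_206) (Nat.ble 206 c)
noncomputable def finTab_s_204_207 (c : Nat) : Nat := @Bool.rec (fun _ => Nat) (finTab_204) (finTab_s_205_207 c) (Nat.ble 205 c)
noncomputable def finTab_s_202_207 (c : Nat) : Nat := @Bool.rec (fun _ => Nat) (finTab_s_202_204 c) (finTab_s_204_207 c) (Nat.ble 204 c)
noncomputable def finTab_s_198_207 (c : Nat) : Nat := @Bool.rec (fun _ => Nat) (finTab_s_198_202 c) (finTab_s_202_207 c) (Nat.ble 202 c)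
noncomputable def finTab_s_189_207 (c : Nat) : Nat := @Bool.rec (fun _ => Nat) (finTab_s_189_198 c) (finTab_s_198_207 c) (Nat.ble 198 c)
noncomputable def finTab_s_172_207 (c : Nat) : Nat := @Bool.rec (fun _ => Nat) (finTab_s_172_189 c) (finTab_s_189_207 c) (Nat.ble 189 c)
noncomputable def finTab_s_138_207 (c : Nat) : Nat := @Bool.rec (fun _ => Nat) (finTab_s_138_172 c) (finTab_s_172_207 c) (Nat.ble 172 c)
noncomputable def finTab_s_207_209 (c : Nat) : Nat := @Bool.rec (fun _ => Nat) (finTab_207) (finTab_208) (Nat.ble 208 c)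
noncomputable def finTab_s_209_211 (c : Nat) : Nat := @Bool.rec (fun _ => Nat) (finTab_209) (finTab_210) (Nat.ble 210 c)
noncomputable def finTab_s_207_211 (c : Nat) : Nat := @Bool.rec (fun _ => Nat) (finTab_s_207_209 c) (finTab_s_209_211 c) (Nat.ble 209 c)
noncomputable def finTab_s_211_213 (c : Nat) : Nat := @Bool.rec (fun _ => Nat) (finTab_211) (finTab_212) (Nat.ble 212 c)
noncomputable def finTab_s_213_215 (c : Nat) : Nat := @Bool.rec (fun _ => Nat) (finTab_213) (finTab_214) (Nat.ble 214 c)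
noncomputable def finTab_s_211_215 (c : Nat) : Nat := @Bool.rec (fun _ => Nat) (finTab_s_211_213 c) (finTab_s_213_215 c) (Nat.ble 213 c)
noncomputable def finTab_s_207_215 (c : Nat) : Nat := @Bool.rec (fun _ => Nat) (finTab_s_207_211 c) (finTab_s_211_215 c) (Nat.ble 211 c)
noncomputable def finTab_s_215_217 (c : Nat) : Nat := @Bool.rec (fun _ => Nat) (finTab_215) (finTab_216) (Nat.ble 216 c)
noncomputable def finTab_s_217_219 (c : Nat) : Nat := @Bool.rec (fun _ => Nat) (finTab_217) (finTab_218) (Nat.ble 218 c)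
noncomputable def finTab_s_215_219 (c : Nat) : Nat := @Bool.rec (fun _ => Nat) (finTab_s_215_217 c) (finTab_s_217_219 c) (Nat.ble 217 c)
noncomputable def finTab_s_219_221 (c : Nat) : Nat := @Bool.rec (fun _ => Nat) (finTab_219) (finTab_220) (Nat.ble 220 c)
noncomputable def finTab_s_222_224 (c : Nat) : Nat := @Bool.rec (fun _ => Nat) (finTab_222) (finTab_223) (Nat.ble 223 c)
noncomputable def finTab_s_221_224 (c : Nat) : Nat := @Bool.rec (fun _ => Nat) (finTab_221) (finTab_s_222_224 c) (Nat.ble 222 c)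
noncomputable def finTab_s_219_224 (c : Nat) : Nat := @Bool.rec (fun _ => Nat) (finTab_s_219_221 c) (finTab_s_221_224 c) (Nat.ble 221 c)
noncomputable def finTab_s_215_224 (c : Nat) : Nat := @Bool.rec (fun _ => Nat) (finTab_s_215_219 c) (finTab_s_219_224 c) (Nat.ble 219 c)
noncomputable def finTab_s_207_224 (c : Nat) : Nat := @Bool.rec (fun _ => Nat) (finTab_s_207_215 c) (finTab_s_215_224 c) (Nat.ble 215 c)
noncomputable def finTab_s_224_226 (c : Nat) : Nat := @Bool.rec (fun _ => Nat) (finTab_224) (finTab_225) (Nat.ble 225 c)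
noncomputable def finTab_s_226_228 (c : Nat) : Nat := @Bool.rec (fun _ => Nat) (finTab_226) (finTab_227) (Nat.ble 227 c)
noncomputable def finTab_s_224_228 (c : Nat) : Nat := @Bool.rec (fun _ => Nat) (finTab_s_224_226 c) (finTab_s_226_228 c) (Nat.ble 226 c)
noncomputable def finTab_s_228_230 (c : Nat) : Nat := @Bool.rec (fun _ => Nat) (finTab_228) (finTab_229) (Nat.ble 229 c)
noncomputable def finTab_s_231_233 (c : Nat) : Nat := @Bool.rec (fun _ => Nat) (finTab_231) (finTab_232) (Nat.ble 232 c)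
noncomputable def finTab_s_230_233 (c : Nat) : Nat := @Bool.rec (fun _ => Nat) (finTab_230) (finTab_s_231_233 c) (Nat.ble 231 c)
noncomputable def finTab_s_228_233 (c : Nat) : Nat := @Bool.rec (fun _ => Nat) (finTab_s_228_230 c) (finTab_s_230_233 c) (Nat.ble 230 c)
noncomputable def finTab_s_224_233 (c : Nat) : Nat := @Bool.rec (fun _ => Nat) (finTab_s_224_228 c) (finTab_s_228_233 c) (Nat.ble 228 c)
noncomputable def finTab_s_233_235 (c : Nat) : Nat := @Bool.rec (fun _ => Nat) (finTab_233) (finTab_234) (Nat.ble 234 c)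
noncomputable def finTab_s_235_237 (c : Nat) : Nat := @Bool.rec (fun _ => Nat) (finTab_235) (finTab_236) (Nat.ble 236 c)
noncomputable def finTab_s_233_237 (c : Nat) : Nat := @Bool.rec (fun _ => Nat) (finTab_s_233_235 c) (finTab_s_235_237 c) (Nat.ble 235 c)
noncomputable def finTab_s_237_239 (c : Nat) : Nat := @Bool.rec (fun _ => Nat) (finTab_237) (finTab_238) (Nat.ble 238 c)
noncomputable def finTab_s_240_242 (c : Nat) : Nat := @Bool.rec (fun _ => Nat) (finTab_240) (finTab_241) (Nat.ble 241 c)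
noncomputable def finTab_s_239_242 (c : Nat) : Nat := @Bool.rec (fun _ => Nat) (finTab_239) (finTab_s_240_242 c) (Nat.ble 240 c)
noncomputable def finTab_s_237_242 (c : Nat) : Nat := @Bool.rec (fun _ => Nat) (finTab_s_237_239 c) (finTab_s_239_242 c) (Nat.ble 239 c)
noncomputable def finTab_s_233_242 (c : Nat) : Nat := @Bool.rec (fun _ => Nat) (finTab_s_233_237 c) (finTab_s_237_242 c) (Nat.ble 237 c)
noncomputable def finTab_s_224_242 (c : Nat) : Nat := @Bool.rec (fun _ => Nat) (finTab_s_224_233 c) (finTab_s_233_242 c) (Nat.ble 233 c)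
noncomputable def finTab_s_207_242 (c : Nat) : Nat := @Bool.rec (fun _ => Nat) (finTab_s_207_224 c) (finTab_s_224_242 c) (Nat.ble 224 c)
noncomputable def finTab_s_242_244 (c : Nat) : Nat := @Bool.rec (fun _ => Nat) (finTab_242) (finTab_243) (Nat.ble 243 c)
noncomputable def finTab_s_244_246 (c : Nat) : Nat := @Bool.rec (fun _ => Nat) (finTab_244) (finTab_245) (Nat.ble 245 c)
noncomputable def finTab_s_242_246 (c : Nat) : Nat := @Bool.rec (fun _ => Nat) (finTab_s_242_244 c) (finTab_s_244_246 c) (Nat.ble 244 c)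
noncomputable def finTab_s_246_248 (c : Nat) : Nat := @Bool.rec (fun _ => Nat) (finTab_246) (finTab_247) (Nat.ble 247 c)
noncomputable def finTab_s_248_250 (c : Nat) : Nat := @Bool.rec (fun _ => Nat) (finTab_248) (finTab_249) (Nat.ble 249 c)
noncomputable def finTab_s_246_250 (c : Nat) : Nat := @Bool.rec (fun _ => Nat) (finTab_s_246_248 c) (finTab_s_248_250 c) (Nat.ble 248 c)
noncomputable def finTab_s_242_250 (c : Nat) : Nat := @Bool.rec (fun _ => Nat) (finTab_s_242_246 c) (finTab_s_246_250 c) (Nat.ble 246 c)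
noncomputable def finTab_s_250_252 (c : Nat) : Nat := @Bool.rec (fun _ => Nat) (finTab_250) (finTab_251) (Nat.ble 251 c)
noncomputable def finTab_s_252_254 (c : Nat) : Nat := @Bool.rec (fun _ => Nat) (finTab_252) (finTab_253) (Nat.ble 253 c)
noncomputable def finTab_s_250_254 (c : Nat) : Nat := @Bool.rec (fun _ => Nat) (finTab_s_250_252 c) (finTab_s_252_254 c) (Nat.ble 252 c)
noncomputable def finTab_s_254_256 (c : Nat) : Nat := @Bool.rec (fun _ => Nat) (finTab_254) (finTab_255) (Nat.ble 255 c)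
noncomputable def finTab_s_257_259 (c : Nat) : Nat := @Bool.rec (fun _ => Nat) (finTab_257) (finTab_258) (Nat.ble 258 c)
noncomputable def finTab_s_256_259 (c : Nat) : Nat := @Bool.rec (fun _ => Nat) (finTab_256) (finTab_s_257_259 c) (Nat.ble 257 c)
noncomputable def finTab_s_254_259 (c : Nat) : Nat := @Bool.rec (fun _ => Nat) (finTab_s_254_256 c) (finTab_s_256_259 c) (Nat.ble 256 c)
noncomputable def finTab_s_250_259 (c : Nat) : Nat := @Bool.rec (fun _ => Nat) (finTab_s_250_254 c) (finTab_s_254_259 c) (Nat.ble 254 c)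
noncomputable def finTab_s_242_259 (c : Nat) : Nat := @Bool.rec (fun _ => Nat) (finTab_s_242_250 c) (finTab_s_250_259 c) (Nat.ble 250 c)
noncomputable def finTab_s_259_261 (c : Nat) : Nat := @Bool.rec (fun _ => Nat) (finTab_259) (finTab_260) (Nat.ble 260 c)
noncomputable def finTab_s_261_263 (c : Nat) : Nat := @Bool.rec (fun _ => Nat) (finTab_261) (finTab_262) (Nat.ble 262 c)
noncomputable def finTab_s_259_263 (c : Nat) : Nat := @Bool.rec (fun _ => Nat) (finTab_s_259_261 c) (finTab_s_261_263 c) (Nat.ble 261 c)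
noncomputable def finTab_s_263_265 (c : Nat) : Nat := @Bool.rec (fun _ => Nat) (finTab_263) (finTab_264) (Nat.ble 264 c)
noncomputable def finTab_s_266_268 (c : Nat) : Nat := @Bool.rec (fun _ => Nat) (finTab_266) (finTab_267) (Nat.ble 267 c)
noncomputable def finTab_s_265_268 (c : Nat) : Nat := @Bool.rec (fun _ => Nat) (finTab_265) (finTab_s_266_268 c) (Nat.ble 266 c)
noncomputable def finTab_s_263_268 (c : Nat) : Nat := @Bool.rec (fun _ => Nat) (finTab_s_263_265 c) (finTab_s_265_268 c) (Nat.ble 265 c)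
noncomputable def finTab_s_259_268 (c : Nat) : Nat := @Bool.rec (fun _ => Nat) (finTab_s_259_263 c) (finTab_s_263_268 c) (Nat.ble 263 c)
noncomputable def finTab_s_268_270 (c : Nat) : Nat := @Bool.rec (fun _ => Nat) (finTab_268) (finTab_269) (Nat.ble 269 c)
noncomputable def finTab_s_270_272 (c : Nat) : Nat := @Bool.rec (fun _ => Nat) (finTab_270) (finTab_271) (Nat.ble 271 c)
noncomputable def finTab_s_268_272 (c : Nat) : Nat := @Bool.rec (fun _ => Nat) (finTab_s_268_270 c) (finTab_s_270_272 c) (Nat.ble 270 c)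
noncomputable def finTab_s_272_274 (c : Nat) : Nat := @Bool.rec (fun _ => Nat) (finTab_272) (finTab_273) (Nat.ble 273 c)
noncomputable def finTab_s_275_277 (c : Nat) : Nat := @Bool.rec (fun _ => Nat) (finTab_275) (finTab_276) (Nat.ble 276 c)
noncomputable def finTab_s_274_277 (c : Nat) : Nat := @Bool.rec (fun _ => Nat) (finTab_274) (finTab_s_275_277 c) (Nat.ble 275 c)
noncomputable def finTab_s_272_277 (c : Nat) : Nat := @Bool.rec (fun _ => Nat) (finTab_s_272_274 c) (finTab_s_274_277 c) (Nat.ble 274 c)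
noncomputable def finTab_s_268_277 (c : Nat) : Nat := @Bool.rec (fun _ => Nat) (finTab_s_268_272 c) (finTab_s_272_277 c) (Nat.ble 272 c)
noncomputable def finTab_s_259_277 (c : Nat) : Nat := @Bool.rec (fun _ => Nat) (finTab_s_259_268 c) (finTab_s_268_277 c) (Nat.ble 268 c)
noncomputable def finTab_s_242_277 (c : Nat) : Nat := @Bool.rec (fun _ => Nat) (finTab_s_242_259 c) (finTab_s_259_277 c) (Nat.ble 259 c)
noncomputable def finTab_s_207_277 (c : Nat) : Nat := @Bool.rec (fun _ => Nat) (finTab_s_207_242 c) (finTab_s_242_277 c) (Nat.ble 242 c)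
noncomputable def finTab_s_138_277 (c : Nat) : Nat := @Bool.rec (fun _ => Nat) (finTab_s_138_207 c) (finTab_s_207_277 c) (Nat.ble 207 c)
noncomputable def finTab_s_0_277 (c : Nat) : Nat := @Bool.rec (fun _ => Nat) (finTab_s_0_138 c) (finTab_s_138_277 c) (Nat.ble 138 c)
noncomputable def finTab_s_277_279 (c : Nat) : Nat := @Bool.rec (fun _ => Nat) (finTab_277) (finTab_278) (Nat.ble 278 c)
noncomputable def finTab_s_279_281 (c : Nat) : Nat := @Bool.rec (fun _ => Nat) (finTab_279) (finTab_280) (Nat.ble 280 c)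
noncomputable def finTab_s_277_281 (c : Nat) : Nat := @Bool.rec (fun _ => Nat) (finTab_s_277_279 c) (finTab_s_279_281 c) (Nat.ble 279 c)
noncomputable def finTab_s_281_283 (c : Nat) : Nat := @Bool.rec (fun _ => Nat) (finTab_281) (finTab_282) (Nat.ble 282 c)
noncomputable def finTab_s_283_285 (c : Nat) : Nat := @Bool.rec (fun _ => Nat) (finTab_283) (finTab_284) (Nat.ble 284 c)
noncomputable def finTab_s_281_285 (c : Nat) : Nat := @Bool.rec (fun _ => Nat) (finTab_s_281_283 c) (finTab_s_283_285 c) (Nat.ble 283 c)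
noncomputable def finTab_s_277_285 (c : Nat) : Nat := @Bool.rec (fun _ => Nat) (finTab_s_277_281 c) (finTab_s_281_285 c) (Nat.ble 281 c)
noncomputable def finTab_s_285_287 (c : Nat) : Nat := @Bool.rec (fun _ => Nat) (finTab_285) (finTab_286) (Nat.ble 286 c)
noncomputable def finTab_s_287_289 (c : Nat) : Nat := @Bool.rec (fun _ => Nat) (finTab_287) (finTab_288) (Nat.ble 288 c)
noncomputable def finTab_s_285_289 (c : Nat) : Nat := @Bool.rec (fun _ => Nat) (finTab_s_285_287 c) (finTab_s_287_289 c) (Nat.ble 287 c)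
noncomputable def finTab_s_289_291 (c : Nat) : Nat := @Bool.rec (fun _ => Nat) (finTab_289) (finTab_290) (Nat.ble 290 c)
noncomputable def finTab_s_292_294 (c : Nat) : Nat := @Bool.rec (fun _ => Nat) (finTab_292) (finTab_293) (Nat.ble 293 c)
noncomputable def finTab_s_291_294 (c : Nat) : Nat := @Bool.rec (fun _ => Nat) (finTab_291) (finTab_s_292_294 c) (Nat.ble 292 c)
noncomputable def finTab_s_289_294 (c : Nat) : Nat := @Bool.rec (fun _ => Nat) (finTab_s_289_291 c) (finTab_s_291_294 c) (Nat.ble 291 c)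
noncomputable def finTab_s_285_294 (c : Nat) : Nat := @Bool.rec (fun _ => Nat) (finTab_s_285_289 c) (finTab_s_289_294 c) (Nat.ble 289 c)
noncomputable def finTab_s_277_294 (c : Nat) : Nat := @Bool.rec (fun _ => Nat) (finTab_s_277_285 c) (finTab_s_285_294 c) (Nat.ble 285 c)
noncomputable def finTab_s_294_296 (c : Nat) : Nat := @Bool.rec (fun _ => Nat) (finTab_294) (finTab_295) (Nat.ble 295 c)
noncomputable def finTab_s_296_298 (c : Nat) : Nat := @Bool.rec (fun _ => Nat) (finTab_296) (finTab_297) (Nat.ble 297 c)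
noncomputable def finTab_s_294_298 (c : Nat) : Nat := @Bool.rec (fun _ => Nat) (finTab_s_294_296 c) (finTab_s_296_298 c) (Nat.ble 296 c)
noncomputable def finTab_s_298_300 (c : Nat) : Nat := @Bool.rec (fun _ => Nat) (finTab_298) (finTab_299) (Nat.ble 299 c)
noncomputable def finTab_s_300_302 (c : Nat) : Nat := @Bool.rec (fun _ => Nat) (finTab_300) (finTab_301) (Nat.ble 301 c)
noncomputable def finTab_s_298_302 (c : Nat) : Nat := @Bool.rec (fun _ => Nat) (finTab_s_298_300 c) (finTab_s_300_302 c) (Nat.ble 300 c)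
noncomputable def finTab_s_294_302 (c : Nat) : Nat := @Bool.rec (fun _ => Nat) (finTab_s_294_298 c) (finTab_s_298_302 c) (Nat.ble 298 c)
noncomputable def finTab_s_302_304 (c : Nat) : Nat := @Bool.rec (fun _ => Nat) (finTab_302) (finTab_303) (Nat.ble 303 c)
noncomputable def finTab_s_304_306 (c : Nat) : Nat := @Bool.rec (fun _ => Nat) (finTab_304) (finTab_305) (Nat.ble 305 c)
noncomputable def finTab_s_302_306 (c : Nat) : Nat := @Bool.rec (fun _ => Nat) (finTab_s_302_304 c) (finTab_s_304_306 c) (Nat.ble 304 c)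
noncomputable def finTab_s_306_308 (c : Nat) : Nat := @Bool.rec (fun _ => Nat) (finTab_306) (finTab_307) (Nat.ble 307 c)
noncomputable def finTab_s_309_311 (c : Nat) : Nat := @Bool.rec (fun _ => Nat) (finTab_309) (finTab_310) (Nat.ble 310 c)
noncomputable def finTab_s_308_311 (c : Nat) : Nat := @Bool.rec (fun _ => Nat) (finTab_308) (finTab_s_309_311 c) (Nat.ble 309 c)
noncomputable def finTab_s_306_311 (c : Nat) : Nat := @Bool.rec (fun _ => Nat) (finTab_s_306_308 c) (finTab_s_308_311 c) (Nat.ble 308 c)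
noncomputable def finTab_s_302_311 (c : Nat) : Nat := @Bool.rec (fun _ => Nat) (finTab_s_302_306 c) (finTab_s_306_311 c) (Nat.ble 306 c)
noncomputable def finTab_s_294_311 (c : Nat) : Nat := @Bool.rec (fun _ => Nat) (finTab_s_294_302 c) (finTab_s_302_311 c) (Nat.ble 302 c)
noncomputable def finTab_s_277_311 (c : Nat) : Nat := @Bool.rec (fun _ => Nat) (finTab_s_277_294 c) (finTab_s_294_311 c) (Nat.ble 294 c)
noncomputable def finTab_s_311_313 (c : Nat) : Nat := @Bool.rec (fun _ => Nat) (finTab_311) (finTab_312) (Nat.ble 312 c)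
noncomputable def finTab_s_313_315 (c : Nat) : Nat := @Bool.rec (fun _ => Nat) (finTab_313) (finTab_314) (Nat.ble 314 c)
noncomputable def finTab_s_311_315 (c : Nat) : Nat := @Bool.rec (fun _ => Nat) (finTab_s_311_313 c) (finTab_s_313_315 c) (Nat.ble 313 c)
noncomputable def finTab_s_315_317 (c : Nat) : Nat := @Bool.rec (fun _ => Nat) (finTab_315) (finTab_316) (Nat.ble 316 c)
noncomputable def finTab_s_317_319 (c : Nat) : Nat := @Bool.rec (fun _ => Nat) (finTab_317) (finTab_318) (Nat.ble 318 c)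
noncomputable def finTab_s_315_319 (c : Nat) : Nat := @Bool.rec (fun _ => Nat) (finTab_s_315_317 c) (finTab_s_317_319 c) (Nat.ble 317 c)
noncomputable def finTab_s_311_319 (c : Nat) : Nat := @Bool.rec (fun _ => Nat) (finTab_s_311_315 c) (finTab_s_315_319 c) (Nat.ble 315 c)
noncomputable def finTab_s_319_321 (c : Nat) : Nat := @Bool.rec (fun _ => Nat) (finTab_319) (finTab_320) (Nat.ble 320 c)
noncomputable def finTab_s_321_323 (c : Nat) : Nat := @Bool.rec (fun _ => Nat) (finTab_321) (finTab_322) (Nat.ble 322 c)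
noncomputable def finTab_s_319_323 (c : Nat) : Nat := @Bool.rec (fun _ => Nat) (finTab_s_319_321 c) (finTab_s_321_323 c) (Nat.ble 321 c)
noncomputable def finTab_s_323_325 (c : Nat) : Nat := @Bool.rec (fun _ => Nat) (finTab_323) (finTab_324) (Nat.ble 324 c)
noncomputable def finTab_s_326_328 (c : Nat) : Nat := @Bool.rec (fun _ => Nat) (finTab_326) (finTab_327) (Nat.ble 327 c)
noncomputable def finTab_s_325_328 (c : Nat) : Nat := @Bool.rec (fun _ => Nat) (finTab_325) (finTab_s_326_328 c) (Nat.ble 326 c)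
noncomputable def finTab_s_323_328 (c : Nat) : Nat := @Bool.rec (fun _ => Nat) (finTab_s_323_325 c) (finTab_s_325_328 c) (Nat.ble 325 c)
noncomputable def finTab_s_319_328 (c : Nat) : Nat := @Bool.rec (fun _ => Nat) (finTab_s_319_323 c) (finTab_s_323_328 c) (Nat.ble 323 c)
noncomputable def finTab_s_311_328 (c : Nat) : Nat := @Bool.rec (fun _ => Nat) (finTab_s_311_319 c) (finTab_s_319_328 c) (Nat.ble 319 c)
noncomputable def finTab_s_328_330 (c : Nat) : Nat := @Bool.rec (fun _ => Nat) (finTab_328) (finTab_329) (Nat.ble 329 c)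
noncomputable def finTab_s_330_332 (c : Nat) : Nat := @Bool.rec (fun _ => Nat) (finTab_330) (finTab_331) (Nat.ble 331 c)
noncomputable def finTab_s_328_332 (c : Nat) : Nat := @Bool.rec (fun _ => Nat) (finTab_s_328_330 c) (finTab_s_330_332 c) (Nat.ble 330 c)
noncomputable def finTab_s_332_334 (c : Nat) : Nat := @Bool.rec (fun _ => Nat) (finTab_332) (finTab_333) (Nat.ble 333 c)
noncomputable def finTab_s_335_337 (c : Nat) : Nat := @Bool.rec (fun _ => Nat) (finTab_335) (finTab_336) (Nat.ble 336 c)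
noncomputable def finTab_s_334_337 (c : Nat) : Nat := @Bool.rec (fun _ => Nat) (finTab_334) (finTab_s_335_337 c) (Nat.ble 335 c)
noncomputable def finTab_s_332_337 (c : Nat) : Nat := @Bool.rec (fun _ => Nat) (finTab_s_332_334 c) (finTab_s_334_337 c) (Nat.ble 334 c)
noncomputable def finTab_s_328_337 (c : Nat) : Nat := @Bool.rec (fun _ => Nat) (finTab_s_328_332 c) (finTab_s_332_337 c) (Nat.ble 332 c)
noncomputable def finTab_s_337_339 (c : Nat) : Nat := @Bool.rec (fun _ => Nat) (finTab_337) (finTab_338) (Nat.ble 338 c)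
noncomputable def finTab_s_339_341 (c : Nat) : Nat := @Bool.rec (fun _ => Nat) (finTab_339) (finTab_340) (Nat.ble 340 c)
noncomputable def finTab_s_337_341 (c : Nat) : Nat := @Bool.rec (fun _ => Nat) (finTab_s_337_339 c) (finTab_s_339_341 c) (Nat.ble 339 c)
noncomputable def finTab_s_341_343 (c : Nat) : Nat := @Bool.rec (fun _ => Nat) (finTab_341) (finTab_342) (Nat.ble 342 c)
noncomputable def finTab_s_344_346 (c : Nat) : Nat := @Bool.rec (fun _ => Nat) (finTab_344) (finTab_345) (Nat.ble 345 c)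
noncomputable def finTab_s_343_346 (c : Nat) : Nat := @Bool.rec (fun _ => Nat) (finTab_343) (finTab_s_344_346 c) (Nat.ble 344 c)
noncomputable def finTab_s_341_346 (c : Nat) : Nat := @Bool.rec (fun _ => Nat) (finTab_s_341_343 c) (finTab_s_343_346 c) (Nat.ble 343 c)
noncomputable def finTab_s_337_346 (c : Nat) : Nat := @Bool.rec (fun _ => Nat) (finTab_s_337_341 c) (finTab_s_341_346 c) (Nat.ble 341 c)
noncomputable def finTab_s_328_346 (c : Nat) : Nat := @Bool.rec (fun _ => Nat) (finTab_s_328_337 c) (finTab_s_337_346 c) (Nat.ble 337 c)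
noncomputable def finTab_s_311_346 (c : Nat) : Nat := @Bool.rec (fun _ => Nat) (finTab_s_311_328 c) (finTab_s_328_346 c) (Nat.ble 328 c)
noncomputable def finTab_s_277_346 (c : Nat) : Nat := @Bool.rec (fun _ => Nat) (finTab_s_277_311 c) (finTab_s_311_346 c) (Nat.ble 311 c)
noncomputable def finTab_s_346_348 (c : Nat) : Nat := @Bool.rec (fun _ => Nat) (finTab_346) (finTab_347) (Nat.ble 347 c)
noncomputable def finTab_s_348_350 (c : Nat) : Nat := @Bool.rec (fun _ => Nat) (finTab_348) (finTab_349) (Nat.ble 349 c)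
noncomputable def finTab_s_346_350 (c : Nat) : Nat := @Bool.rec (fun _ => Nat) (finTab_s_346_348 c) (finTab_s_348_350 c) (Nat.ble 348 c)
noncomputable def finTab_s_350_352 (c : Nat) : Nat := @Bool.rec (fun _ => Nat) (finTab_350) (finTab_351) (Nat.ble 351 c)
noncomputable def finTab_s_352_354 (c : Nat) : Nat := @Bool.rec (fun _ => Nat) (finTab_352) (finTab_353) (Nat.ble 353 c)
noncomputable def finTab_s_350_354 (c : Nat) : Nat := @Bool.rec (fun _ => Nat) (finTab_s_350_352 c) (finTab_s_352_354 c) (Nat.ble 352 c)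
noncomputable def finTab_s_346_354 (c : Nat) : Nat := @Bool.rec (fun _ => Nat) (finTab_s_346_350 c) (finTab_s_350_354 c) (Nat.ble 350 c)
noncomputable def finTab_s_354_356 (c : Nat) : Nat := @Bool.rec (fun _ => Nat) (finTab_354) (finTab_355) (Nat.ble 355 c)
noncomputable def finTab_s_356_358 (c : Nat) : Nat := @Bool.rec (fun _ => Nat) (finTab_356) (finTab_357) (Nat.ble 357 c)
noncomputable def finTab_s_354_358 (c : Nat) : Nat := @Bool.rec (fun _ => Nat) (finTab_s_354_356 c) (finTab_s_356_358 c) (Nat.ble 356 c)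
noncomputable def finTab_s_358_360 (c : Nat) : Nat := @Bool.rec (fun _ => Nat) (finTab_358) (finTab_359) (Nat.ble 359 c)
noncomputable def finTab_s_361_363 (c : Nat) : Nat := @Bool.rec (fun _ => Nat) (finTab_361) (finTab_362) (Nat.ble 362 c)
noncomputable def finTab_s_360_363 (c : Nat) : Nat := @Bool.rec (fun _ => Nat) (finTab_360) (finTab_s_361_363 c) (Nat.ble 361 c)
noncomputable def finTab_s_358_363 (c : Nat) : Nat := @Bool.rec (fun _ => Nat) (finTab_s_358_360 c) (finTab_s_360_363 c) (Nat.ble 360 c)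
noncomputable def finTab_s_354_363 (c : Nat) : Nat := @Bool.rec (fun _ => Nat) (finTab_s_354_358 c) (finTab_s_358_363 c) (Nat.ble 358 c)
noncomputable def finTab_s_346_363 (c : Nat) : Nat := @Bool.rec (fun _ => Nat) (finTab_s_346_354 c) (finTab_s_354_363 c) (Nat.ble 354 c)
noncomputable def finTab_s_363_365 (c : Nat) : Nat := @Bool.rec (fun _ => Nat) (finTab_363) (finTab_364) (Nat.ble 364 c)
noncomputable def finTab_s_365_367 (c : Nat) : Nat := @Bool.rec (fun _ => Nat) (finTab_365) (finTab_366) (Nat.ble 366 c)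
noncomputable def finTab_s_363_367 (c : Nat) : Nat := @Bool.rec (fun _ => Nat) (finTab_s_363_365 c) (finTab_s_365_367 c) (Nat.ble 365 c)
noncomputable def finTab_s_367_369 (c : Nat) : Nat := @Bool.rec (fun _ => Nat) (finTab_367) (finTab_368) (Nat.ble 368 c)
noncomputable def finTab_s_370_372 (c : Nat) : Nat := @Bool.rec (fun _ => Nat) (finTab_370) (finTab_371) (Nat.ble 371 c)
noncomputable def finTab_s_369_372 (c : Nat) : Nat := @Bool.rec (fun _ => Nat) (finTab_369) (finTab_s_370_372 c) (Nat.ble 370 c)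
noncomputable def finTab_s_367_372 (c : Nat) : Nat := @Bool.rec (fun _ => Nat) (finTab_s_367_369 c) (finTab_s_369_372 c) (Nat.ble 369 c)
noncomputable def finTab_s_363_372 (c : Nat) : Nat := @Bool.rec (fun _ => Nat) (finTab_s_363_367 c) (finTab_s_367_372 c) (Nat.ble 367 c)
noncomputable def finTab_s_372_374 (c : Nat) : Nat := @Bool.rec (fun _ => Nat) (finTab_372) (finTab_373) (Nat.ble 373 c)
noncomputable def finTab_s_374_376 (c : Nat) : Nat := @Bool.rec (fun _ => Nat) (finTab_374) (finTab_375) (Nat.ble 375 c)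
noncomputable def finTab_s_372_376 (c : Nat) : Nat := @Bool.rec (fun _ => Nat) (finTab_s_372_374 c) (finTab_s_374_376 c) (Nat.ble 374 c)
noncomputable def finTab_s_376_378 (c : Nat) : Nat := @Bool.rec (fun _ => Nat) (finTab_376) (finTab_377) (Nat.ble 377 c)
noncomputable def finTab_s_379_381 (c : Nat) : Nat := @Bool.rec (fun _ => Nat) (finTab_379) (finTab_380) (Nat.ble 380 c)
noncomputable def finTab_s_378_381 (c : Nat) : Nat := @Bool.rec (fun _ => Nat) (finTab_378) (finTab_s_379_381 c) (Nat.ble 379 c)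
noncomputable def finTab_s_376_381 (c : Nat) : Nat := @Bool.rec (fun _ => Nat) (finTab_s_376_378 c) (finTab_s_378_381 c) (Nat.ble 378 c)
noncomputable def finTab_s_372_381 (c : Nat) : Nat := @Bool.rec (fun _ => Nat) (finTab_s_372_376 c) (finTab_s_376_381 c) (Nat.ble 376 c)
noncomputable def finTab_s_363_381 (c : Nat) : Nat := @Bool.rec (fun _ => Nat) (finTab_s_363_372 c) (finTab_s_372_381 c) (Nat.ble 372 c)
noncomputable def finTab_s_346_381 (c : Nat) : Nat := @Bool.rec (fun _ => Nat) (finTab_s_346_363 c) (finTab_s_363_381 c) (Nat.ble 363 c)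
noncomputable def finTab_s_381_383 (c : Nat) : Nat := @Bool.rec (fun _ => Nat) (finTab_381) (finTab_382) (Nat.ble 382 c)
noncomputable def finTab_s_383_385 (c : Nat) : Nat := @Bool.rec (fun _ => Nat) (finTab_383) (finTab_384) (Nat.ble 384 c)
noncomputable def finTab_s_381_385 (c : Nat) : Nat := @Bool.rec (fun _ => Nat) (finTab_s_381_383 c) (finTab_s_383_385 c) (Nat.ble 383 c)
noncomputable def finTab_s_385_387 (c : Nat) : Nat := @Bool.rec (fun _ => Nat) (finTab_385) (finTab_386) (Nat.ble 386 c)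
noncomputable def finTab_s_387_389 (c : Nat) : Nat := @Bool.rec (fun _ => Nat) (finTab_387) (finTab_388) (Nat.ble 388 c)
noncomputable def finTab_s_385_389 (c : Nat) : Nat := @Bool.rec (fun _ => Nat) (finTab_s_385_387 c) (finTab_s_387_389 c) (Nat.ble 387 c)
noncomputable def finTab_s_381_389 (c : Nat) : Nat := @Bool.rec (fun _ => Nat) (finTab_s_381_385 c) (finTab_s_385_389 c) (Nat.ble 385 c)
noncomputable def finTab_s_389_391 (c : Nat) : Nat := @Bool.rec (fun _ => Nat) (finTab_389) (finTab_390) (Nat.ble 390 c)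
noncomputable def finTab_s_391_393 (c : Nat) : Nat := @Bool.rec (fun _ => Nat) (finTab_391) (finTab_392) (Nat.ble 392 c)
noncomputable def finTab_s_389_393 (c : Nat) : Nat := @Bool.rec (fun _ => Nat) (finTab_s_389_391 c) (finTab_s_391_393 c) (Nat.ble 391 c)
noncomputable def finTab_s_393_395 (c : Nat) : Nat := @Bool.rec (fun _ => Nat) (finTab_393) (finTab_394) (Nat.ble 394 c)
noncomputable def finTab_s_396_398 (c : Nat) : Nat := @Bool.rec (fun _ => Nat) (finTab_396) (finTab_397) (Nat.ble 397 c)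
noncomputable def finTab_s_395_398 (c : Nat) : Nat := @Bool.rec (fun _ => Nat) (finTab_395) (finTab_s_396_398 c) (Nat.ble 396 c)
noncomputable def finTab_s_393_398 (c : Nat) : Nat := @Bool.rec (fun _ => Nat) (finTab_s_393_395 c) (finTab_s_395_398 c) (Nat.ble 395 c)
noncomputable def finTab_s_389_398 (c : Nat) : Nat := @Bool.rec (fun _ => Nat) (finTab_s_389_393 c) (finTab_s_393_398 c) (Nat.ble 393 c)
noncomputable def finTab_s_381_398 (c : Nat) : Nat := @Bool.rec (fun _ => Nat) (finTab_s_381_389 c) (finTab_s_389_398 c) (Nat.ble 389 c)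
noncomputable def finTab_s_398_400 (c : Nat) : Nat := @Bool.rec (fun _ => Nat) (finTab_398) (finTab_399) (Nat.ble 399 c)
noncomputable def finTab_s_400_402 (c : Nat) : Nat := @Bool.rec (fun _ => Nat) (finTab_400) (finTab_401) (Nat.ble 401 c)
noncomputable def finTab_s_398_402 (c : Nat) : Nat := @Bool.rec (fun _ => Nat) (finTab_s_398_400 c) (finTab_s_400_402 c) (Nat.ble 400 c)
noncomputable def finTab_s_402_404 (c : Nat) : Nat := @Bool.rec (fun _ => Nat) (finTab_402) (finTab_403) (Nat.ble 403 c)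
noncomputable def finTab_s_405_407 (c : Nat) : Nat := @Bool.rec (fun _ => Nat) (finTab_405) (finTab_406) (Nat.ble 406 c)
noncomputable def finTab_s_404_407 (c : Nat) : Nat := @Bool.rec (fun _ => Nat) (finTab_404) (finTab_s_405_407 c) (Nat.ble 405 c)
noncomputable def finTab_s_402_407 (c : Nat) : Nat := @Bool.rec (fun _ => Nat) (finTab_s_402_404 c) (finTab_s_404_407 c) (Nat.ble 404 c)
noncomputable def finTab_s_398_407 (c : Nat) : Nat := @Bool.rec (fun _ => Nat) (finTab_s_398_402 c) (finTab_s_402_407 c) (Nat.ble 402 c)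
noncomputable def finTab_s_407_409 (c : Nat) : Nat := @Bool.rec (fun _ => Nat) (finTab_407) (finTab_408) (Nat.ble 408 c)
noncomputable def finTab_s_409_411 (c : Nat) : Nat := @Bool.rec (fun _ => Nat) (finTab_409) (finTab_410) (Nat.ble 410 c)
noncomputable def finTab_s_407_411 (c : Nat) : Nat := @Bool.rec (fun _ => Nat) (finTab_s_407_409 c) (finTab_s_409_411 c) (Nat.ble 409 c)
noncomputable def finTab_s_411_413 (c : Nat) : Nat := @Bool.rec (fun _ => Nat) (finTab_411) (finTab_412) (Nat.ble 412 c)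
noncomputable def finTab_s_414_416 (c : Nat) : Nat := @Bool.rec (fun _ => Nat) (finTab_414) (finTab_415) (Nat.ble 415 c)
noncomputable def finTab_s_413_416 (c : Nat) : Nat := @Bool.rec (fun _ => Nat) (finTab_413) (finTab_s_414_416 c) (Nat.ble 414 c)
noncomputable def finTab_s_411_416 (c : Nat) : Nat := @Bool.rec (fun _ => Nat) (finTab_s_411_413 c) (finTab_s_413_416 c) (Nat.ble 413 c)
noncomputable def finTab_s_407_416 (c : Nat) : Nat := @Bool.rec (fun _ => Nat) (finTab_s_407_411 c) (finTab_s_411_416 c) (Nat.ble 411 c)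
noncomputable def finTab_s_398_416 (c : Nat) : Nat := @Bool.rec (fun _ => Nat) (finTab_s_398_407 c) (finTab_s_407_416 c) (Nat.ble 407 c)
noncomputable def finTab_s_381_416 (c : Nat) : Nat := @Bool.rec (fun _ => Nat) (finTab_s_381_398 c) (finTab_s_398_416 c) (Nat.ble 398 c)
noncomputable def finTab_s_346_416 (c : Nat) : Nat := @Bool.rec (fun _ => Nat) (finTab_s_346_381 c) (finTab_s_381_416 c) (Nat.ble 381 c)
noncomputable def finTab_s_277_416 (c : Nat) : Nat := @Bool.rec (fun _ => Nat) (finTab_s_277_346 c) (finTab_s_346_416 c) (Nat.ble 346 c)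
noncomputable def finTab_s_416_418 (c : Nat) : Nat := @Bool.rec (fun _ => Nat) (finTab_416) (finTab_417) (Nat.ble 417 c)
noncomputable def finTab_s_418_420 (c : Nat) : Nat := @Bool.rec (fun _ => Nat) (finTab_418) (finTab_419) (Nat.ble 419 c)
noncomputable def finTab_s_416_420 (c : Nat) : Nat := @Bool.rec (fun _ => Nat) (finTab_s_416_418 c) (finTab_s_418_420 c) (Nat.ble 418 c)
noncomputable def finTab_s_420_422 (c : Nat) : Nat := @Bool.rec (fun _ => Nat) (finTab_420) (finTab_421) (Nat.ble 421 c)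
noncomputable def finTab_s_422_424 (c : Nat) : Nat := @Bool.rec (fun _ => Nat) (finTab_422) (finTab_423) (Nat.ble 423 c)
noncomputable def finTab_s_420_424 (c : Nat) : Nat := @Bool.rec (fun _ => Nat) (finTab_s_420_422 c) (finTab_s_422_424 c) (Nat.ble 422 c)
noncomputable def finTab_s_416_424 (c : Nat) : Nat := @Bool.rec (fun _ => Nat) (finTab_s_416_420 c) (finTab_s_420_424 c) (Nat.ble 420 c)
noncomputable def finTab_s_424_426 (c : Nat) : Nat := @Bool.rec (fun _ => Nat) (finTab_424) (finTab_425) (Nat.ble 425 c)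
noncomputable def finTab_s_426_428 (c : Nat) : Nat := @Bool.rec (fun _ => Nat) (finTab_426) (finTab_427) (Nat.ble 427 c)
noncomputable def finTab_s_424_428 (c : Nat) : Nat := @Bool.rec (fun _ => Nat) (finTab_s_424_426 c) (finTab_s_426_428 c) (Nat.ble 426 c)
noncomputable def finTab_s_428_430 (c : Nat) : Nat := @Bool.rec (fun _ => Nat) (finTab_428) (finTab_429) (Nat.ble 429 c)
noncomputable def finTab_s_431_433 (c : Nat) : Nat := @Bool.rec (fun _ => Nat) (finTab_431) (finTab_432) (Nat.ble 432 c)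
noncomputable def finTab_s_430_433 (c : Nat) : Nat := @Bool.rec (fun _ => Nat) (finTab_430) (finTab_s_431_433 c) (Nat.ble 431 c)
noncomputable def finTab_s_428_433 (c : Nat) : Nat := @Bool.rec (fun _ => Nat) (finTab_s_428_430 c) (finTab_s_430_433 c) (Nat.ble 430 c)
noncomputable def finTab_s_424_433 (c : Nat) : Nat := @Bool.rec (fun _ => Nat) (finTab_s_424_428 c) (finTab_s_428_433 c) (Nat.ble 428 c)
noncomputable def finTab_s_416_433 (c : Nat) : Nat := @Bool.rec (fun _ => Nat) (finTab_s_416_424 c) (finTab_s_424_433 c) (Nat.ble 424 c)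
noncomputable def finTab_s_433_435 (c : Nat) : Nat := @Bool.rec (fun _ => Nat) (finTab_433) (finTab_434) (Nat.ble 434 c)
noncomputable def finTab_s_435_437 (c : Nat) : Nat := @Bool.rec (fun _ => Nat) (finTab_435) (finTab_436) (Nat.ble 436 c)
noncomputable def finTab_s_433_437 (c : Nat) : Nat := @Bool.rec (fun _ => Nat) (finTab_s_433_435 c) (finTab_s_435_437 c) (Nat.ble 435 c)
noncomputable def finTab_s_437_439 (c : Nat) : Nat := @Bool.rec (fun _ => Nat) (finTab_437) (finTab_438) (Nat.ble 438 c)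
noncomputable def finTab_s_439_441 (c : Nat) : Nat := @Bool.rec (fun _ => Nat) (finTab_439) (finTab_440) (Nat.ble 440 c)
noncomputable def finTab_s_437_441 (c : Nat) : Nat := @Bool.rec (fun _ => Nat) (finTab_s_437_439 c) (finTab_s_439_441 c) (Nat.ble 439 c)
noncomputable def finTab_s_433_441 (c : Nat) : Nat := @Bool.rec (fun _ => Nat) (finTab_s_433_437 c) (finTab_s_437_441 c) (Nat.ble 437 c)
noncomputable def finTab_s_441_443 (c : Nat) : Nat := @Bool.rec (fun _ => Nat) (finTab_441) (finTab_442) (Nat.ble 442 c)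
noncomputable def finTab_s_443_445 (c : Nat) : Nat := @Bool.rec (fun _ => Nat) (finTab_443) (finTab_444) (Nat.ble 444 c)
noncomputable def finTab_s_441_445 (c : Nat) : Nat := @Bool.rec (fun _ => Nat) (finTab_s_441_443 c) (finTab_s_443_445 c) (Nat.ble 443 c)
noncomputable def finTab_s_445_447 (c : Nat) : Nat := @Bool.rec (fun _ => Nat) (finTab_445) (finTab_446) (Nat.ble 446 c)
noncomputable def finTab_s_448_450 (c : Nat) : Nat := @Bool.rec (fun _ => Nat) (finTab_448) (finTab_449) (Nat.ble 449 c)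
noncomputable def finTab_s_447_450 (c : Nat) : Nat := @Bool.rec (fun _ => Nat) (finTab_447) (finTab_s_448_450 c) (Nat.ble 448 c)
noncomputable def finTab_s_445_450 (c : Nat) : Nat := @Bool.rec (fun _ => Nat) (finTab_s_445_447 c) (finTab_s_447_450 c) (Nat.ble 447 c)
noncomputable def finTab_s_441_450 (c : Nat) : Nat := @Bool.rec (fun _ => Nat) (finTab_s_441_445 c) (finTab_s_445_450 c) (Nat.ble 445 c)
noncomputable def finTab_s_433_450 (c : Nat) : Nat := @Bool.rec (fun _ => Nat) (finTab_s_433_441 c) (finTab_s_441_450 c) (Nat.ble 441 c)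
noncomputable def finTab_s_416_450 (c : Nat) : Nat := @Bool.rec (fun _ => Nat) (finTab_s_416_433 c) (finTab_s_433_450 c) (Nat.ble 433 c)
noncomputable def finTab_s_450_452 (c : Nat) : Nat := @Bool.rec (fun _ => Nat) (finTab_450) (finTab_451) (Nat.ble 451 c)
noncomputable def finTab_s_452_454 (c : Nat) : Nat := @Bool.rec (fun _ => Nat) (finTab_452) (finTab_453) (Nat.ble 453 c)
noncomputable def finTab_s_450_454 (c : Nat) : Nat := @Bool.rec (fun _ => Nat) (finTab_s_450_452 c) (finTab_s_452_454 c) (Nat.ble 452 c)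
noncomputable def finTab_s_454_456 (c : Nat) : Nat := @Bool.rec (fun _ => Nat) (finTab_454) (finTab_455) (Nat.ble 455 c)
noncomputable def finTab_s_456_458 (c : Nat) : Nat := @Bool.rec (fun _ => Nat) (finTab_456) (finTab_457) (Nat.ble 457 c)
noncomputable def finTab_s_454_458 (c : Nat) : Nat := @Bool.rec (fun _ => Nat) (finTab_s_454_456 c) (finTab_s_456_458 c) (Nat.ble 456 c)
noncomputable def finTab_s_450_458 (c : Nat) : Nat := @Bool.rec (fun _ => Nat) (finTab_s_450_454 c) (finTab_s_454_458 c) (Nat.ble 454 c)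
noncomputable def finTab_s_458_460 (c : Nat) : Nat := @Bool.rec (fun _ => Nat) (finTab_458) (finTab_459) (Nat.ble 459 c)
noncomputable def finTab_s_460_462 (c : Nat) : Nat := @Bool.rec (fun _ => Nat) (finTab_460) (finTab_461) (Nat.ble 461 c)
noncomputable def finTab_s_458_462 (c : Nat) : Nat := @Bool.rec (fun _ => Nat) (finTab_s_458_460 c) (finTab_s_460_462 c) (Nat.ble 460 c)
noncomputable def finTab_s_462_464 (c : Nat) : Nat := @Bool.rec (fun _ => Nat) (finTab_462) (finTab_463) (Nat.ble 463 c)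
noncomputable def finTab_s_465_467 (c : Nat) : Nat := @Bool.rec (fun _ => Nat) (finTab_465) (finTab_466) (Nat.ble 466 c)
noncomputable def finTab_s_464_467 (c : Nat) : Nat := @Bool.rec (fun _ => Nat) (finTab_464) (finTab_s_465_467 c) (Nat.ble 465 c)
noncomputable def finTab_s_462_467 (c : Nat) : Nat := @Bool.rec (fun _ => Nat) (finTab_s_462_464 c) (finTab_s_464_467 c) (Nat.ble 464 c)
noncomputable def finTab_s_458_467 (c : Nat) : Nat := @Bool.rec (fun _ => Nat) (finTab_s_458_462 c) (finTab_s_462_467 c) (Nat.ble 462 c)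
noncomputable def finTab_s_450_467 (c : Nat) : Nat := @Bool.rec (fun _ => Nat) (finTab_s_450_458 c) (finTab_s_458_467 c) (Nat.ble 458 c)
noncomputable def finTab_s_467_469 (c : Nat) : Nat := @Bool.rec (fun _ => Nat) (finTab_467) (finTab_468) (Nat.ble 468 c)
noncomputable def finTab_s_469_471 (c : Nat) : Nat := @Bool.rec (fun _ => Nat) (finTab_469) (finTab_470) (Nat.ble 470 c)
noncomputable def finTab_s_467_471 (c : Nat) : Nat := @Bool.rec (fun _ => Nat) (finTab_s_467_469 c) (finTab_s_469_471 c) (Nat.ble 469 c)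
noncomputable def finTab_s_471_473 (c : Nat) : Nat := @Bool.rec (fun _ => Nat) (finTab_471) (finTab_472) (Nat.ble 472 c)
noncomputable def finTab_s_474_476 (c : Nat) : Nat := @Bool.rec (fun _ => Nat) (finTab_474) (finTab_475) (Nat.ble 475 c)
noncomputable def finTab_s_473_476 (c : Nat) : Nat := @Bool.rec (fun _ => Nat) (finTab_473) (finTab_s_474_476 c) (Nat.ble 474 c)
noncomputable def finTab_s_471_476 (c : Nat) : Nat := @Bool.rec (fun _ => Nat) (finTab_s_471_473 c) (finTab_s_473_476 c) (Nat.ble 473 c)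
noncomputable def finTab_s_467_476 (c : Nat) : Nat := @Bool.rec (fun _ => Nat) (finTab_s_467_471 c) (finTab_s_471_476 c) (Nat.ble 471 c)
noncomputable def finTab_s_476_478 (c : Nat) : Nat := @Bool.rec (fun _ => Nat) (finTab_476) (finTab_477) (Nat.ble 477 c)
noncomputable def finTab_s_478_480 (c : Nat) : Nat := @Bool.rec (fun _ => Nat) (finTab_478) (finTab_479) (Nat.ble 479 c)
noncomputable def finTab_s_476_480 (c : Nat) : Nat := @Bool.rec (fun _ => Nat) (finTab_s_476_478 c) (finTab_s_478_480 c) (Nat.ble 478 c)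
noncomputable def finTab_s_480_482 (c : Nat) : Nat := @Bool.rec (fun _ => Nat) (finTab_480) (finTab_481) (Nat.ble 481 c)
noncomputable def finTab_s_483_485 (c : Nat) : Nat := @Bool.rec (fun _ => Nat) (finTab_483) (finTab_484) (Nat.ble 484 c)
noncomputable def finTab_s_482_485 (c : Nat) : Nat := @Bool.rec (fun _ => Nat) (finTab_482) (finTab_s_483_485 c) (Nat.ble 483 c)
noncomputable def finTab_s_480_485 (c : Nat) : Nat := @Bool.rec (fun _ => Nat) (finTab_s_480_482 c) (finTab_s_482_485 c) (Nat.ble 482 c)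
noncomputable def finTab_s_476_485 (c : Nat) : Nat := @Bool.rec (fun _ => Nat) (finTab_s_476_480 c) (finTab_s_480_485 c) (Nat.ble 480 c)
noncomputable def finTab_s_467_485 (c : Nat) : Nat := @Bool.rec (fun _ => Nat) (finTab_s_467_476 c) (finTab_s_476_485 c) (Nat.ble 476 c)
noncomputable def finTab_s_450_485 (c : Nat) : Nat := @Bool.rec (fun _ => Nat) (finTab_s_450_467 c) (finTab_s_467_485 c) (Nat.ble 467 c)
noncomputable def finTab_s_416_485 (c : Nat) : Nat := @Bool.rec (fun _ => Nat) (finTab_s_416_450 c) (finTab_s_450_485 c) (Nat.ble 450 c)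
noncomputable def finTab_s_485_487 (c : Nat) : Nat := @Bool.rec (fun _ => Nat) (finTab_485) (finTab_486) (Nat.ble 486 c)
noncomputable def finTab_s_487_489 (c : Nat) : Nat := @Bool.rec (fun _ => Nat) (finTab_487) (finTab_488) (Nat.ble 488 c)
noncomputable def finTab_s_485_489 (c : Nat) : Nat := @Bool.rec (fun _ => Nat) (finTab_s_485_487 c) (finTab_s_487_489 c) (Nat.ble 487 c)
noncomputable def finTab_s_489_491 (c : Nat) : Nat := @Bool.rec (fun _ => Nat) (finTab_489) (finTab_490) (Nat.ble 490 c)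
noncomputable def finTab_s_491_493 (c : Nat) : Nat := @Bool.rec (fun _ => Nat) (finTab_491) (finTab_492) (Nat.ble 492 c)
noncomputable def finTab_s_489_493 (c : Nat) : Nat := @Bool.rec (fun _ => Nat) (finTab_s_489_491 c) (finTab_s_491_493 c) (Nat.ble 491 c)
noncomputable def finTab_s_485_493 (c : Nat) : Nat := @Bool.rec (fun _ => Nat) (finTab_s_485_489 c) (finTab_s_489_493 c) (Nat.ble 489 c)
noncomputable def finTab_s_493_495 (c : Nat) : Nat := @Bool.rec (fun _ => Nat) (finTab_493) (finTab_494) (Nat.ble 494 c)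
noncomputable def finTab_s_495_497 (c : Nat) : Nat := @Bool.rec (fun _ => Nat) (finTab_495) (finTab_496) (Nat.ble 496 c)
noncomputable def finTab_s_493_497 (c : Nat) : Nat := @Bool.rec (fun _ => Nat) (finTab_s_493_495 c) (finTab_s_495_497 c) (Nat.ble 495 c)
noncomputable def finTab_s_497_499 (c : Nat) : Nat := @Bool.rec (fun _ => Nat) (finTab_497) (finTab_498) (Nat.ble 498 c)
noncomputable def finTab_s_500_502 (c : Nat) : Nat := @Bool.rec (fun _ => Nat) (finTab_500) (finTab_501) (Nat.ble 501 c)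
noncomputable def finTab_s_499_502 (c : Nat) : Nat := @Bool.rec (fun _ => Nat) (finTab_499) (finTab_s_500_502 c) (Nat.ble 500 c)
noncomputable def finTab_s_497_502 (c : Nat) : Nat := @Bool.rec (fun _ => Nat) (finTab_s_497_499 c) (finTab_s_499_502 c) (Nat.ble 499 c)
noncomputable def finTab_s_493_502 (c : Nat) : Nat := @Bool.rec (fun _ => Nat) (finTab_s_493_497 c) (finTab_s_497_502 c) (Nat.ble 497 c)
noncomputable def finTab_s_485_502 (c : Nat) : Nat := @Bool.rec (fun _ => Nat) (finTab_s_485_493 c) (finTab_s_493_502 c) (Nat.ble 493 c)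
noncomputable def finTab_s_502_504 (c : Nat) : Nat := @Bool.rec (fun _ => Nat) (finTab_502) (finTab_503) (Nat.ble 503 c)
noncomputable def finTab_s_504_506 (c : Nat) : Nat := @Bool.rec (fun _ => Nat) (finTab_504) (finTab_505) (Nat.ble 505 c)
noncomputable def finTab_s_502_506 (c : Nat) : Nat := @Bool.rec (fun _ => Nat) (finTab_s_502_504 c) (finTab_s_504_506 c) (Nat.ble 504 c)
noncomputable def finTab_s_506_508 (c : Nat) : Nat := @Bool.rec (fun _ => Nat) (finTab_506) (finTab_507) (Nat.ble 507 c)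
noncomputable def finTab_s_509_511 (c : Nat) : Nat := @Bool.rec (fun _ => Nat) (finTab_509) (finTab_510) (Nat.ble 510 c)
noncomputable def finTab_s_508_511 (c : Nat) : Nat := @Bool.rec (fun _ => Nat) (finTab_508) (finTab_s_509_511 c) (Nat.ble 509 c)
noncomputable def finTab_s_506_511 (c : Nat) : Nat := @Bool.rec (fun _ => Nat) (finTab_s_506_508 c) (finTab_s_508_511 c) (Nat.ble 508 c)
noncomputable def finTab_s_502_511 (c : Nat) : Nat := @Bool.rec (fun _ => Nat) (finTab_s_502_506 c) (finTab_s_506_511 c) (Nat.ble 506 c)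
noncomputable def finTab_s_511_513 (c : Nat) : Nat := @Bool.rec (fun _ => Nat) (finTab_511) (finTab_512) (Nat.ble 512 c)
noncomputable def finTab_s_513_515 (c : Nat) : Nat := @Bool.rec (fun _ => Nat) (finTab_513) (finTab_514) (Nat.ble 514 c)
noncomputable def finTab_s_511_515 (c : Nat) : Nat := @Bool.rec (fun _ => Nat) (finTab_s_511_513 c) (finTab_s_513_515 c) (Nat.ble 513 c)
noncomputable def finTab_s_515_517 (c : Nat) : Nat := @Bool.rec (fun _ => Nat) (finTab_515) (finTab_516) (Nat.ble 516 c)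
noncomputable def finTab_s_518_520 (c : Nat) : Nat := @Bool.rec (fun _ => Nat) (finTab_518) (finTab_519) (Nat.ble 519 c)
noncomputable def finTab_s_517_520 (c : Nat) : Nat := @Bool.rec (fun _ => Nat) (finTab_517) (finTab_s_518_520 c) (Nat.ble 518 c)
noncomputable def finTab_s_515_520 (c : Nat) : Nat := @Bool.rec (fun _ => Nat) (finTab_s_515_517 c) (finTab_s_517_520 c) (Nat.ble 517 c)
noncomputable def finTab_s_511_520 (c : Nat) : Nat := @Bool.rec (fun _ => Nat) (finTab_s_511_515 c) (finTab_s_515_520 c) (Nat.ble 515 c)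
noncomputable def finTab_s_502_520 (c : Nat) : Nat := @Bool.rec (fun _ => Nat) (finTab_s_502_511 c) (finTab_s_511_520 c) (Nat.ble 511 c)
noncomputable def finTab_s_485_520 (c : Nat) : Nat := @Bool.rec (fun _ => Nat) (finTab_s_485_502 c) (finTab_s_502_520 c) (Nat.ble 502 c)
noncomputable def finTab_s_520_522 (c : Nat) : Nat := @Bool.rec (fun _ => Nat) (finTab_520) (finTab_521) (Nat.ble 521 c)
noncomputable def finTab_s_522_524 (c : Nat) : Nat := @Bool.rec (fun _ => Nat) (finTab_522) (finTab_523) (Nat.ble 523 c)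
noncomputable def finTab_s_520_524 (c : Nat) : Nat := @Bool.rec (fun _ => Nat) (finTab_s_520_522 c) (finTab_s_522_524 c) (Nat.ble 522 c)
noncomputable def finTab_s_524_526 (c : Nat) : Nat := @Bool.rec (fun _ => Nat) (finTab_524) (finTab_525) (Nat.ble 525 c)
noncomputable def finTab_s_526_528 (c : Nat) : Nat := @Bool.rec (fun _ => Nat) (finTab_526) (finTab_527) (Nat.ble 527 c)
noncomputable def finTab_s_524_528 (c : Nat) : Nat := @Bool.rec (fun _ => Nat) (finTab_s_524_526 c) (finTab_s_526_528 c) (Nat.ble 526 c)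
noncomputable def finTab_s_520_528 (c : Nat) : Nat := @Bool.rec (fun _ => Nat) (finTab_s_520_524 c) (finTab_s_524_528 c) (Nat.ble 524 c)
noncomputable def finTab_s_528_530 (c : Nat) : Nat := @Bool.rec (fun _ => Nat) (finTab_528) (finTab_529) (Nat.ble 529 c)
noncomputable def finTab_s_530_532 (c : Nat) : Nat := @Bool.rec (fun _ => Nat) (finTab_530) (finTab_531) (Nat.ble 531 c)
noncomputable def finTab_s_528_532 (c : Nat) : Nat := @Bool.rec (fun _ => Nat) (finTab_s_528_530 c) (finTab_s_530_532 c) (Nat.ble 530 c)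
noncomputable def finTab_s_532_534 (c : Nat) : Nat := @Bool.rec (fun _ => Nat) (finTab_532) (finTab_533) (Nat.ble 533 c)
noncomputable def finTab_s_535_537 (c : Nat) : Nat := @Bool.rec (fun _ => Nat) (finTab_535) (finTab_536) (Nat.ble 536 c)
noncomputable def finTab_s_534_537 (c : Nat) : Nat := @Bool.rec (fun _ => Nat) (finTab_534) (finTab_s_535_537 c) (Nat.ble 535 c)
noncomputable def finTab_s_532_537 (c : Nat) : Nat := @Bool.rec (fun _ => Nat) (finTab_s_532_534 c) (finTab_s_534_537 c) (Nat.ble 534 c)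
noncomputable def finTab_s_528_537 (c : Nat) : Nat := @Bool.rec (fun _ => Nat) (finTab_s_528_532 c) (finTab_s_532_537 c) (Nat.ble 532 c)
noncomputable def finTab_s_520_537 (c : Nat) : Nat := @Bool.rec (fun _ => Nat) (finTab_s_520_528 c) (finTab_s_528_537 c) (Nat.ble 528 c)
noncomputable def finTab_s_537_539 (c : Nat) : Nat := @Bool.rec (fun _ => Nat) (finTab_537) (finTab_538) (Nat.ble 538 c)
noncomputable def finTab_s_539_541 (c : Nat) : Nat := @Bool.rec (fun _ => Nat) (finTab_539) (finTab_540) (Nat.ble 540 c)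
noncomputable def finTab_s_537_541 (c : Nat) : Nat := @Bool.rec (fun _ => Nat) (finTab_s_537_539 c) (finTab_s_539_541 c) (Nat.ble 539 c)
noncomputable def finTab_s_541_543 (c : Nat) : Nat := @Bool.rec (fun _ => Nat) (finTab_541) (finTab_542) (Nat.ble 542 c)
noncomputable def finTab_s_544_546 (c : Nat) : Nat := @Bool.rec (fun _ => Nat) (finTab_544) (finTab_545) (Nat.ble 545 c)
noncomputable def finTab_s_543_546 (c : Nat) : Nat := @Bool.rec (fun _ => Nat) (finTab_543) (finTab_s_544_546 c) (Nat.ble 544 c)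
noncomputable def finTab_s_541_546 (c : Nat) : Nat := @Bool.rec (fun _ => Nat) (finTab_s_541_543 c) (finTab_s_543_546 c) (Nat.ble 543 c)
noncomputable def finTab_s_537_546 (c : Nat) : Nat := @Bool.rec (fun _ => Nat) (finTab_s_537_541 c) (finTab_s_541_546 c) (Nat.ble 541 c)
noncomputable def finTab_s_546_548 (c : Nat) : Nat := @Bool.rec (fun _ => Nat) (finTab_546) (finTab_547) (Nat.ble 547 c)
noncomputable def finTab_s_548_550 (c : Nat) : Nat := @Bool.rec (fun _ => Nat) (finTab_548) (finTab_549) (Nat.ble 549 c)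
noncomputable def finTab_s_546_550 (c : Nat) : Nat := @Bool.rec (fun _ => Nat) (finTab_s_546_548 c) (finTab_s_548_550 c) (Nat.ble 548 c)
noncomputable def finTab_s_550_552 (c : Nat) : Nat := @Bool.rec (fun _ => Nat) (finTab_550) (finTab_551) (Nat.ble 551 c)
noncomputable def finTab_s_553_555 (c : Nat) : Nat := @Bool.rec (fun _ => Nat) (finTab_553) (finTab_554) (Nat.ble 554 c)
noncomputable def finTab_s_552_555 (c : Nat) : Nat := @Bool.rec (fun _ => Nat) (finTab_552) (finTab_s_553_555 c) (Nat.ble 553 c)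
noncomputable def finTab_s_550_555 (c : Nat) : Nat := @Bool.rec (fun _ => Nat) (finTab_s_550_552 c) (finTab_s_552_555 c) (Nat.ble 552 c)
noncomputable def finTab_s_546_555 (c : Nat) : Nat := @Bool.rec (fun _ => Nat) (finTab_s_546_550 c) (finTab_s_550_555 c) (Nat.ble 550 c)
noncomputable def finTab_s_537_555 (c : Nat) : Nat := @Bool.rec (fun _ => Nat) (finTab_s_537_546 c) (finTab_s_546_555 c) (Nat.ble 546 c)
noncomputable def finTab_s_520_555 (c : Nat) : Nat := @Bool.rec (fun _ => Nat) (finTab_s_520_537 c) (finTab_s_537_555 c) (Nat.ble 537 c)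
noncomputable def finTab_s_485_555 (c : Nat) : Nat := @Bool.rec (fun _ => Nat) (finTab_s_485_520 c) (finTab_s_520_555 c) (Nat.ble 520 c)
noncomputable def finTab_s_416_555 (c : Nat) : Nat := @Bool.rec (fun _ => Nat) (finTab_s_416_485 c) (finTab_s_485_555 c) (Nat.ble 485 c)
noncomputable def finTab_s_277_555 (c : Nat) : Nat := @Bool.rec (fun _ => Nat) (finTab_s_277_416 c) (finTab_s_416_555 c) (Nat.ble 416 c)
noncomputable def finTab_s_0_555 (c : Nat) : Nat := @Bool.rec (fun _ => Nat) (finTab_s_0_277 c) (finTab_s_277_555 c) (Nat.ble 277 c)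
noncomputable def finTab (i : Nat) : Nat := rdw 22 4194303 (finTab_s_0_555 (Nat.shiftRight i 12)) (Nat.land i 4095)
noncomputable def clsTab_s_1_3 (c : Nat) : Nat := @Bool.rec (fun _ => Nat) (clsTab_1) (clsTab_2) (Nat.ble 2 c)
noncomputable def clsTab_s_0_3 (c : Nat) : Nat := @Bool.rec (fun _ => Nat) (clsTab_0) (clsTab_s_1_3 c) (Nat.ble 1 c)
noncomputable def clsTab_s_3_5 (c : Nat) : Nat := @Bool.rec (fun _ => Nat) (clsTab_3) (clsTab_4) (Nat.ble 4 c)
noncomputable def clsTab_s_5_7 (c : Nat) : Nat := @Bool.rec (fun _ => Nat) (clsTab_5) (clsTab_6) (Nat.ble 6 c)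
noncomputable def clsTab_s_3_7 (c : Nat) : Nat := @Bool.rec (fun _ => Nat) (clsTab_s_3_5 c) (clsTab_s_5_7 c) (Nat.ble 5 c)
noncomputable def clsTab_s_0_7 (c : Nat) : Nat := @Bool.rec (fun _ => Nat) (clsTab_s_0_3 c) (clsTab_s_3_7 c) (Nat.ble 3 c)
noncomputable def clsTab_s_7_9 (c : Nat) : Nat := @Bool.rec (fun _ => Nat) (clsTab_7) (clsTab_8) (Nat.ble 8 c)
noncomputable def clsTab_s_9_11 (c : Nat) : Nat := @Bool.rec (fun _ => Nat) (clsTab_9) (clsTab_10) (Nat.ble 10 c)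
noncomputable def clsTab_s_7_11 (c : Nat) : Nat := @Bool.rec (fun _ => Nat) (clsTab_s_7_9 c) (clsTab_s_9_11 c) (Nat.ble 9 c)
noncomputable def clsTab_s_11_13 (c : Nat) : Nat := @Bool.rec (fun _ => Nat) (clsTab_11) (clsTab_12) (Nat.ble 12 c)
noncomputable def clsTab_s_13_15 (c : Nat) : Nat := @Bool.rec (fun _ => Nat) (clsTab_13) (clsTab_14) (Nat.ble 14 c)
noncomputable def clsTab_s_11_15 (c : Nat) : Nat := @Bool.rec (fun _ => Nat) (clsTab_s_11_13 c) (clsTab_s_13_15 c) (Nat.ble 13 c)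
noncomputable def clsTab_s_7_15 (c : Nat) : Nat := @Bool.rec (fun _ => Nat) (clsTab_s_7_11 c) (clsTab_s_11_15 c) (Nat.ble 11 c)
noncomputable def clsTab_s_0_15 (c : Nat) : Nat := @Bool.rec (fun _ => Nat) (clsTab_s_0_7 c) (clsTab_s_7_15 c) (Nat.ble 7 c)
noncomputable def clsTab_s_16_18 (c : Nat) : Nat := @Bool.rec (fun _ => Nat) (clsTab_16) (clsTab_17) (Nat.ble 17 c)
noncomputable def clsTab_s_15_18 (c : Nat) : Nat := @Bool.rec (fun _ => Nat) (clsTab_15) (clsTab_s_16_18 c) (Nat.ble 16 c)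
noncomputable def clsTab_s_18_20 (c : Nat) : Nat := @Bool.rec (fun _ => Nat) (clsTab_18) (clsTab_19) (Nat.ble 19 c)
noncomputable def clsTab_s_20_22 (c : Nat) : Nat := @Bool.rec (fun _ => Nat) (clsTab_20) (clsTab_21) (Nat.ble 21 c)
noncomputable def clsTab_s_18_22 (c : Nat) : Nat := @Bool.rec (fun _ => Nat) (clsTab_s_18_20 c) (clsTab_s_20_22 c) (Nat.ble 20 c)
noncomputable def clsTab_s_15_22 (c : Nat) : Nat := @Bool.rec (fun _ => Nat) (clsTab_s_15_18 c) (clsTab_s_18_22 c) (Nat.ble 18 c)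
noncomputable def clsTab_s_22_24 (c : Nat) : Nat := @Bool.rec (fun _ => Nat) (clsTab_22) (clsTab_23) (Nat.ble 23 c)
noncomputable def clsTab_s_24_26 (c : Nat) : Nat := @Bool.rec (fun _ => Nat) (clsTab_24) (clsTab_25) (Nat.ble 25 c)
noncomputable def clsTab_s_22_26 (c : Nat) : Nat := @Bool.rec (fun _ => Nat) (clsTab_s_22_24 c) (clsTab_s_24_26 c) (Nat.ble 24 c)
noncomputable def clsTab_s_26_28 (c : Nat) : Nat := @Bool.rec (fun _ => Nat) (clsTab_26) (clsTab_27) (Nat.ble 27 c)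
noncomputable def clsTab_s_28_30 (c : Nat) : Nat := @Bool.rec (fun _ => Nat) (clsTab_28) (clsTab_29) (Nat.ble 29 c)
noncomputable def clsTab_s_26_30 (c : Nat) : Nat := @Bool.rec (fun _ => Nat) (clsTab_s_26_28 c) (clsTab_s_28_30 c) (Nat.ble 28 c)
noncomputable def clsTab_s_22_30 (c : Nat) : Nat := @Bool.rec (fun _ => Nat) (clsTab_s_22_26 c) (clsTab_s_26_30 c) (Nat.ble 26 c)
noncomputable def clsTab_s_15_30 (c : Nat) : Nat := @Bool.rec (fun _ => Nat) (clsTab_s_15_22 c) (clsTab_s_22_30 c) (Nat.ble 22 c)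
noncomputable def clsTab_s_0_30 (c : Nat) : Nat := @Bool.rec (fun _ => Nat) (clsTab_s_0_15 c) (clsTab_s_15_30 c) (Nat.ble 15 c)
noncomputable def clsTab (i : Nat) : Nat := rdw 17 131071 (clsTab_s_0_30 (Nat.shiftRight i 12)) (Nat.land i 4095)
noncomputable def oparTab_s_0_2 (c : Nat) : Nat := @Bool.rec (fun _ => Nat) (oparTab_0) (oparTab_1) (Nat.ble 1 c)
noncomputable def oparTab_s_2_4 (c : Nat) : Nat := @Bool.rec (fun _ => Nat) (oparTab_2) (oparTab_3) (Nat.ble 3 c)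
noncomputable def oparTab_s_0_4 (c : Nat) : Nat := @Bool.rec (fun _ => Nat) (oparTab_s_0_2 c) (oparTab_s_2_4 c) (Nat.ble 2 c)
noncomputable def oparTab_s_4_6 (c : Nat) : Nat := @Bool.rec (fun _ => Nat) (oparTab_4) (oparTab_5) (Nat.ble 5 c)
noncomputable def oparTab_s_6_8 (c : Nat) : Nat := @Bool.rec (fun _ => Nat) (oparTab_6) (oparTab_7) (Nat.ble 7 c)
noncomputable def oparTab_s_4_8 (c : Nat) : Nat := @Bool.rec (fun _ => Nat) (oparTab_s_4_6 c) (oparTab_s_6_8 c) (Nat.ble 6 c)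
noncomputable def oparTab_s_0_8 (c : Nat) : Nat := @Bool.rec (fun _ => Nat) (oparTab_s_0_4 c) (oparTab_s_4_8 c) (Nat.ble 4 c)
noncomputable def oparTab_s_8_10 (c : Nat) : Nat := @Bool.rec (fun _ => Nat) (oparTab_8) (oparTab_9) (Nat.ble 9 c)
noncomputable def oparTab_s_10_12 (c : Nat) : Nat := @Bool.rec (fun _ => Nat) (oparTab_10) (oparTab_11) (Nat.ble 11 c)
noncomputable def oparTab_s_8_12 (c : Nat) : Nat := @Bool.rec (fun _ => Nat) (oparTab_s_8_10 c) (oparTab_s_10_12 c) (Nat.ble 10 c)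
noncomputable def oparTab_s_12_14 (c : Nat) : Nat := @Bool.rec (fun _ => Nat) (oparTab_12) (oparTab_13) (Nat.ble 13 c)
noncomputable def oparTab_s_15_17 (c : Nat) : Nat := @Bool.rec (fun _ => Nat) (oparTab_15) (oparTab_16) (Nat.ble 16 c)
noncomputable def oparTab_s_14_17 (c : Nat) : Nat := @Bool.rec (fun _ => Nat) (oparTab_14) (oparTab_s_15_17 c) (Nat.ble 15 c)
noncomputable def oparTab_s_12_17 (c : Nat) : Nat := @Bool.rec (fun _ => Nat) (oparTab_s_12_14 c) (oparTab_s_14_17 c) (Nat.ble 14 c)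
noncomputable def oparTab_s_8_17 (c : Nat) : Nat := @Bool.rec (fun _ => Nat) (oparTab_s_8_12 c) (oparTab_s_12_17 c) (Nat.ble 12 c)
noncomputable def oparTab_s_0_17 (c : Nat) : Nat := @Bool.rec (fun _ => Nat) (oparTab_s_0_8 c) (oparTab_s_8_17 c) (Nat.ble 8 c)
noncomputable def oparTab (i : Nat) : Nat := rdw 17 131071 (oparTab_s_0_17 (Nat.shiftRight i 12)) (Nat.land i 4095)
noncomputable def olabTab_s_1_3 (c : Nat) : Nat := @Bool.rec (fun _ => Nat) (olabTab_1) (olabTab_2) (Nat.ble 2 c)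
noncomputable def olabTab_s_0_3 (c : Nat) : Nat := @Bool.rec (fun _ => Nat) (olabTab_0) (olabTab_s_1_3 c) (Nat.ble 1 c)
noncomputable def olabTab (i : Nat) : Nat := rdw 2 3 (olabTab_s_0_3 (Nat.shiftRight i 15)) (Nat.land i 32767)
noncomputable def srcF (t : Nat) : Nat := Nat.land (Atab t) 131071
noncomputable def tgtF (t : Nat) : Nat := Nat.land (Nat.shiftRight (Atab t) 17) 131071
noncomputable def ltF (t : Nat) : Nat := Nat.shiftRight (Atab t) 34
noncomputable def rhoF (t : Nat) : Nat := Nat.land (Btab (Nat.sub t 120803)) 255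
noncomputable def rotF (t : Nat) : Nat := Nat.land (Nat.shiftRight (Btab (Nat.sub t 120803)) 8) 31
noncomputable def lenF (t : Nat) : Nat := Nat.land (Nat.shiftRight (Btab (Nat.sub t 120803)) 13) 127
noncomputable def offF (t : Nat) : Nat := Nat.shiftRight (Btab (Nat.sub t 120803)) 20
noncomputable def pfF (j : Nat) : Nat := Nat.shiftRight (Ptab j) 1
noncomputable def pdF (j : Nat) : Nat := Nat.land (Ptab j) 1
noncomputable def tblF (i x : Nat) : Nat := @Bool.rec (fun _ => Nat) (@Bool.rec (fun _ => Nat) (@Bool.rec (fun _ => Nat) (@Bool.rec (fun _ => Nat) (@Bool.rec (fun _ => Nat) (col0 i) (col1 i) (Nat.ble 1 x)) (@Bool.rec (fun _ => Nat) (col2 i) (col3 i) (Nat.ble 3 x)) (Nat.ble 2 x)) (@Bool.rec (fun _ => Nat) (@Bool.rec (fun _ => Nat) (col4 i) (col5 i) (Nat.ble 5 x)) (@Bool.rec (fun _ => Nat) (col6 i) (col7 i) (Nat.ble 7 x)) (Nat.ble 6 x)) (Nat.ble 4 x)) (@Bool.rec (fun _ => Nat) (@Bool.rec (fun _ => Nat) (@Bool.rec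 (fun _ => Nat) (col8 i) (col9 i) (Nat.ble 9 x)) (@Bool.rec (fun _ => Nat) (col10 i) (col11 i) (Nat.ble 11 x)) (Nat.ble 10 x)) (@Bool.rec (fun _ => Nat) (@Bool.rec (fun _ => Nat) (col12 i) (col13 i) (Nat.ble 13 x)) (@Bool.rec (fun _ => Nat) (col14 i) (@Bool.rec (fun _ => Nat) (col15 i) (col16 i) (Nat.ble 16 x)) (Nat.ble 15 x)) (Nat.ble 14 x)) (Nat.ble 12 x)) (Nat.ble 8 x)) (@Bool.rec (fun _ => Nat) (@Bool.rec (fun _ => Nat) (@Bool.rec (fun _ => Nat) (@Bool.rec (fun _ => Nat) (col17 i) (col18 i) (Nat.ble 18 x)) (@Bool.rec (fun _ => Nat) (col19 i) (col20 i) (Nat.ble 20 x)) (Nat.ble 19 x)) (@Bool.rec (fun _ => Nat) (@Bool.rec (fun _ => Nat) (col21 i) (col22 i) (Nat.ble 22 x)) (@Bool.rec (fun _ => Nat) (col23 i) (col24 i) (Nat.ble 24 x)) (Nat.ble 23 x)) (Nat.ble 21 x)) (@Bool.rec (fun _ => Nat) (@Bool.rec (fun _ => Nat) (@Bool.rec (fun _ => Nat) (col25 i) (col26 i) (Nat.ble 26 x)) (@Bool.rec (fun _ => Nat) (col27 i) (col28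 i) (Nat.ble 28 x)) (Nat.ble 27 x)) (@Bool.rec (fun _ => Nat) (@Bool.rec (fun _ => Nat) (col29 i) (col30 i) (Nat.ble 30 x)) (@Bool.rec (fun _ => Nat) (col31 i) (@Bool.rec (fun _ => Nat) (col32 i) (col33 i) (Nat.ble 33 x)) (Nat.ble 32 x)) (Nat.ble 31 x)) (Nat.ble 29 x)) (Nat.ble 25 x)) (Nat.ble 17 x)
noncomputable def finE (i x : Nat) : Nat := finTab (Nat.add (Nat.mul i 34) x)
noncomputable def finFF (i x : Nat) : Nat := Nat.shiftRight (finE i x) 1
noncomputable def finDF (i x : Nat) : Nat := Nat.land (finE i x) 1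

noncomputable def D : Log :=
  { k := 34, inv := invE 34 PSC3McLp2.invR, nR := 244, rBase := rBtab, rLen := rLtab, RR := RRtab,
    M := 120799, nB := 4, F := 1539033, src := srcF, lt := ltF, tgt := tgtF, rho := rhoF, rot := rotF,
    off := offF, len := lenF, pf := pfF, pd := pdF }

noncomputable def T : Tab :=
  { N := 66825, nameOf := nameTab, tbl := tblF, finF := finFF, finD := finDF, cls := clsTab }

def subs : List (List Nat) := [
  [0],
  [2] ]

def rw0 : List Nat := [0, 0, 0, 0, 0, 0, 0]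
def rw1 : List Nat := [2, 2, 2, 2, 2, 2, 2]
def rw2 : List Nat := [4, 4, 4]
def rw3 : List Nat := [7, 0, 0, 0, 3, 4, 1, 1, 3, 0, 3, 0, 5, 3, 3, 0, 2]
def rw4 : List Nat := [9, 0, 0, 3, 0, 2, 2, 5, 0, 2, 1, 3, 1, 5, 2, 0, 3]
def rw5 : List Nat := [11, 0, 0, 2, 1, 3, 0, 2, 0, 5, 2, 2, 0, 2, 0, 5, 3, 6]
def rw6 : List Nat := [13, 0, 0, 0, 3, 1, 1, 3, 1, 1, 3, 1, 5, 2, 1, 1, 2, 5, 6]
def rw7 : List Nat := [15, 0, 0, 2, 0, 3, 5, 0, 2, 0, 0, 4, 1, 4, 0, 0, 3, 3]
def rw8 : List Nat := [17, 0, 0, 3, 1, 2, 1, 4, 2, 0, 2, 1, 1, 2, 1, 5, 3, 7]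
def rw9 : List Nat := [19, 0, 0, 4, 1, 2, 5, 3, 1, 4, 0, 5, 1, 3, 3, 0, 3]
def rw10 : List Nat := [21, 0, 0, 0, 2, 1, 1, 3, 5, 1, 3, 3, 1, 1, 1, 2, 1, 4, 7]
def rw11 : List Nat := [23, 0, 0, 0, 0, 3, 1, 5, 2, 1, 1, 1, 2, 2, 1, 5, 0, 5]
def rw12 : List Nat := [25, 0, 0, 2, 0, 2, 0, 3, 0, 0, 3, 4, 1, 3, 3, 1, 1, 4, 3, 7]
def rw13 : List Nat := [27, 6, 6, 6]
def rw14 : List Nat := [29, 7, 1, 6, 0]
def rw15 : List Nat := [31, 7, 3, 6, 2]
def rw16 : List Nat := [33, 7, 5, 6, 4]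
def rw17 : List Nat := [8, 8]
def rw18 : List Nat := [10, 10]
def rw19 : List Nat := [12, 12]
def rw20 : List Nat := [14, 14]
def rw21 : List Nat := [16, 16]
def rw22 : List Nat := [18, 18]
def rw23 : List Nat := [20, 20]
def rw24 : List Nat := [22, 22]
def rw25 : List Nat := [24, 24]
def rw26 : List Nat := [26, 26]
def rw27 : List Nat := [28, 28]
def rw28 : List Nat := [30, 30]
def rw29 : List Nat := [32, 32]
def rw30 : List Nat := [8, 0, 9, 1]
def rw31 : List Nat := [8, 2, 9, 3]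
def rw32 : List Nat := [8, 4, 9, 5]
def rw33 : List Nat := [8, 6, 9, 7]
def rw34 : List Nat := [10, 0, 11, 1]
def rw35 : List Nat := [10, 2, 11, 3]
def rw36 : List Nat := [10, 4, 11, 5]
def rw37 : List Nat := [10, 6, 11, 7]
def rw38 : List Nat := [12, 0, 13, 1]
def rw39 : List Nat := [12, 2, 13, 3]
def rw40 : List Nat := [12, 4, 13, 5]
def rw41 : List Nat := [12, 6, 13, 7]
def rw42 : List Nat := [14, 0, 15, 1]
def rw43 : List Nat := [14, 2, 15, 3]
def rw44 : List Nat := [14, 4, 15, 5]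
def rw45 : List Nat := [14, 6, 15, 7]
def rw46 : List Nat := [16, 0, 17, 1]
def rw47 : List Nat := [16, 2, 17, 3]
def rw48 : List Nat := [16, 4, 17, 5]
def rw49 : List Nat := [16, 6, 17, 7]
def rw50 : List Nat := [18, 0, 19, 1]
def rw51 : List Nat := [18, 2, 19, 3]
def rw52 : List Nat := [18, 4, 19, 5]
def rw53 : List Nat := [18, 6, 19, 7]
def rw54 : List Nat := [20, 0, 21, 1]
def rw55 : List Nat := [20, 2, 21, 3]
def rw56 : List Nat := [20, 4, 21, 5]
def rw57 : List Nat := [20, 6, 21, 7]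
def rw58 : List Nat := [22, 0, 23, 1]
def rw59 : List Nat := [22, 2, 23, 3]
def rw60 : List Nat := [22, 4, 23, 5]
def rw61 : List Nat := [22, 6, 23, 7]
def rw62 : List Nat := [24, 0, 25, 1]
def rw63 : List Nat := [24, 2, 25, 3]
def rw64 : List Nat := [24, 4, 25, 5]
def rw65 : List Nat := [24, 6, 25, 7]
def rw66 : List Nat := [26, 0, 27, 1]
def rw67 : List Nat := [26, 2, 27, 3]
def rw68 : List Nat := [26, 4, 27, 5]
def rw69 : List Nat := [26, 6, 27, 7]
def rw70 : List Nat := [28, 0, 29, 1]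
def rw71 : List Nat := [28, 2, 29, 3]
def rw72 : List Nat := [28, 4, 29, 5]
def rw73 : List Nat := [28, 6, 29, 7]
def rw74 : List Nat := [30, 0, 31, 1]
def rw75 : List Nat := [30, 2, 31, 3]
def rw76 : List Nat := [30, 4, 31, 5]
def rw77 : List Nat := [30, 6, 31, 7]
def rw78 : List Nat := [32, 0, 33, 1]
def rw79 : List Nat := [32, 2, 33, 3]
def rw80 : List Nat := [32, 4, 33, 5]
def rw81 : List Nat := [32, 6, 33, 7]
def rw82 : List Nat := [0, 0, 0, 0, 0, 0, 0]
def rw83 : List Nat := [2, 2, 2, 2, 2, 2, 2]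
def rw84 : List Nat := [0, 0, 2, 0, 2, 2, 2, 1, 2, 2, 1, 2]
def rw85 : List Nat := [0, 2, 0, 3, 1, 3, 3, 1, 2, 0, 2, 2]
def realLit : List (List Nat) := [rw0, rw1, rw2, rw3, rw4, rw5, rw6, rw7, rw8, rw9, rw10, rw11, rw12, rw13, rw14, rw15, rw16, rw17, rw18, rw19, rw20, rw21, rw22, rw23, rw24, rw25, rw26, rw27, rw28, rw29, rw30, rw31, rw32, rw33, rw34, rw35, rw36, rw37, rw38, rw39, rw40, rw41, rw42, rw43, rw44, rw45, rw46, rw47, rw48, rw49, rw50, rw51, rw52, rw53, rw54, rw55, rw56, rw57, rw58, rw59, rw60, rw61, rw62, rw63, rw64, rw65, rw66, rw67, rw68, rw69, rw70, rw71, rw72, rw73, rw74, rw75, rw76, rw77, rw78, rw79, rw80, rw81, rw82, rw83, rw84, rw85]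
noncomputable def actR0 (i : Nat) : Nat := col1 (col1 (col1 (col1 (col1 (col1 (col1 (i)))))))
theorem actR0_eq (i : Nat) : actR0 i = Tab.act T D rw0 i := rfl
noncomputable def actR1 (i : Nat) : Nat := col3 (col3 (col3 (col3 (col3 (col3 (col3 (i)))))))
theorem actR1_eq (i : Nat) : actR1 i = Tab.act T D rw1 i := rfl
noncomputable def actR2 (i : Nat) : Nat := col5 (col5 (col5 (i)))
theorem actR2_eq (i : Nat) : actR2 i = Tab.act T D rw2 i := rfl
noncomputable def actR3 (i : Nat) : Nat := col6 (col1 (col1 (col1 (col2 (col5 (col0 (col0 (col2 (col1 (col2 (col1 (col4 (col2 (col2 (col1 (col3 (i)))))))))))))))))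
theorem actR3_eq (i : Nat) : actR3 i = Tab.act T D rw3 i := rfl
noncomputable def actR4 (i : Nat) : Nat := col8 (col1 (col1 (col2 (col1 (col3 (col3 (col4 (col1 (col3 (col0 (col2 (col0 (col4 (col3 (col1 (col2 (i)))))))))))))))))
theorem actR4_eq (i : Nat) : actR4 i = Tab.act T D rw4 i := rfl
noncomputable def actR5 (i : Nat) : Nat := col10 (col1 (col1 (col3 (col0 (col2 (col1 (col3 (col1 (col4 (col3 (col3 (col1 (col3 (col1 (col4 (col2 (col7 (i))))))))))))))))))
theorem actR5_eq (i : Nat) : actR5 i = Tab.act T D rw5 i := rfl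
noncomputable def actR6 (i : Nat) : Nat := col12 (col1 (col1 (col1 (col2 (col0 (col0 (col2 (col0 (col0 (col2 (col0 (col4 (col3 (col0 (col0 (col3 (col4 (col7 (i)))))))))))))))))))
theorem actR6_eq (i : Nat) : actR6 i = Tab.act T D rw6 i := rfl
noncomputable def actR7 (i : Nat) : Nat := col14 (col1 (col1 (col3 (col1 (col2 (col4 (col1 (col3 (col1 (col1 (col5 (col0 (col5 (col1 (col1 (col2 (col2 (i))))))))))))))))))
theorem actR7_eq (i : Nat) : actR7 i = Tab.act T D rw7 i := rfl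
noncomputable def actR8 (i : Nat) : Nat := col16 (col1 (col1 (col2 (col0 (col3 (col0 (col5 (col3 (col1 (col3 (col0 (col0 (col3 (col0 (col4 (col2 (col6 (i))))))))))))))))))
theorem actR8_eq (i : Nat) : actR8 i = Tab.act T D rw8 i := rfl
noncomputable def actR9 (i : Nat) : Nat := col18 (col1 (col1 (col5 (col0 (col3 (col4 (col2 (col0 (col5 (col1 (col4 (col0 (col2 (col2 (col1 (col2 (i)))))))))))))))))
theorem actR9_eq (i : Nat) : actR9 i = Tab.act T D rw9 i := rfl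
noncomputable def actR10 (i : Nat) : Nat := col20 (col1 (col1 (col1 (col3 (col0 (col0 (col2 (col4 (col0 (col2 (col2 (col0 (col0 (col0 (col3 (col0 (col5 (col6 (i)))))))))))))))))))
theorem actR10_eq (i : Nat) : actR10 i = Tab.act T D rw10 i := rfl
noncomputable def actR11 (i : Nat) : Nat := col22 (col1 (col1 (col1 (col1 (col2 (col0 (col4 (col3 (col0 (col0 (col0 (col3 (col3 (col0 (col4 (col1 (col4 (i))))))))))))))))))
theorem actR11_eq (i : Nat) : actR11 i = Tab.act T D rw11 i := rfl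
noncomputable def actR12 (i : Nat) : Nat := col24 (col1 (col1 (col3 (col1 (col3 (col1 (col2 (col1 (col1 (col2 (col5 (col0 (col2 (col2 (col0 (col0 (col5 (col2 (col6 (i))))))))))))))))))))
theorem actR12_eq (i : Nat) : actR12 i = Tab.act T D rw12 i := rfl
noncomputable def actR13 (i : Nat) : Nat := col26 (col7 (col7 (col7 (i))))
theorem actR13_eq (i : Nat) : actR13 i = Tab.act T D rw13 i := rfl
noncomputable def actR14 (i : Nat) : Nat := col28 (col6 (col0 (col7 (col1 (i)))))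
theorem actR14_eq (i : Nat) : actR14 i = Tab.act T D rw14 i := rfl
noncomputable def actR15 (i : Nat) : Nat := col30 (col6 (col2 (col7 (col3 (i)))))
theorem actR15_eq (i : Nat) : actR15 i = Tab.act T D rw15 i := rfl
noncomputable def actR16 (i : Nat) : Nat := col32 (col6 (col4 (col7 (col5 (i)))))
theorem actR16_eq (i : Nat) : actR16 i = Tab.act T D rw16 i := rfl
noncomputable def actR17 (i : Nat) : Nat := col9 (col9 (i))
theorem actR17_eq (i : Nat) : actR17 i = Tab.act T D rw17 i := rfl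
noncomputable def actR18 (i : Nat) : Nat := col11 (col11 (i))
theorem actR18_eq (i : Nat) : actR18 i = Tab.act T D rw18 i := rfl
noncomputable def actR19 (i : Nat) : Nat := col13 (col13 (i))
theorem actR19_eq (i : Nat) : actR19 i = Tab.act T D rw19 i := rfl
noncomputable def actR20 (i : Nat) : Nat := col15 (col15 (i))
theorem actR20_eq (i : Nat) : actR20 i = Tab.act T D rw20 i := rfl
noncomputable def actR21 (i : Nat) : Nat := col17 (col17 (i))
theorem actR21_eq (i : Nat) : actR21 i = Tab.act T D rw21 i := rfl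
noncomputable def actR22 (i : Nat) : Nat := col19 (col19 (i))
theorem actR22_eq (i : Nat) : actR22 i = Tab.act T D rw22 i := rfl
noncomputable def actR23 (i : Nat) : Nat := col21 (col21 (i))
theorem actR23_eq (i : Nat) : actR23 i = Tab.act T D rw23 i := rfl
noncomputable def actR24 (i : Nat) : Nat := col23 (col23 (i))
theorem actR24_eq (i : Nat) : actR24 i = Tab.act T D rw24 i := rfl
noncomputable def actR25 (i : Nat) : Nat := col25 (col25 (i))
theorem actR25_eq (i : Nat) : actR25 i = Tab.act T D rw25 i := rfl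
noncomputable def actR26 (i : Nat) : Nat := col27 (col27 (i))
theorem actR26_eq (i : Nat) : actR26 i = Tab.act T D rw26 i := rfl
noncomputable def actR27 (i : Nat) : Nat := col29 (col29 (i))
theorem actR27_eq (i : Nat) : actR27 i = Tab.act T D rw27 i := rfl
noncomputable def actR28 (i : Nat) : Nat := col31 (col31 (i))
theorem actR28_eq (i : Nat) : actR28 i = Tab.act T D rw28 i := rfl
noncomputable def actR29 (i : Nat) : Nat := col33 (col33 (i))
theorem actR29_eq (i : Nat) : actR29 i = Tab.act T D rw29 i := rfl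
noncomputable def actR30 (i : Nat) : Nat := col9 (col1 (col8 (col0 (i))))
theorem actR30_eq (i : Nat) : actR30 i = Tab.act T D rw30 i := rfl
noncomputable def actR31 (i : Nat) : Nat := col9 (col3 (col8 (col2 (i))))
theorem actR31_eq (i : Nat) : actR31 i = Tab.act T D rw31 i := rfl
noncomputable def actR32 (i : Nat) : Nat := col9 (col5 (col8 (col4 (i))))
theorem actR32_eq (i : Nat) : actR32 i = Tab.act T D rw32 i := rfl
noncomputable def actR33 (i : Nat) : Nat := col9 (col7 (col8 (col6 (i))))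
theorem actR33_eq (i : Nat) : actR33 i = Tab.act T D rw33 i := rfl
noncomputable def actR34 (i : Nat) : Nat := col11 (col1 (col10 (col0 (i))))
theorem actR34_eq (i : Nat) : actR34 i = Tab.act T D rw34 i := rfl
noncomputable def actR35 (i : Nat) : Nat := col11 (col3 (col10 (col2 (i))))
theorem actR35_eq (i : Nat) : actR35 i = Tab.act T D rw35 i := rfl
noncomputable def actR36 (i : Nat) : Nat := col11 (col5 (col10 (col4 (i))))
theorem actR36_eq (i : Nat) : actR36 i = Tab.act T D rw36 i := rfl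
noncomputable def actR37 (i : Nat) : Nat := col11 (col7 (col10 (col6 (i))))
theorem actR37_eq (i : Nat) : actR37 i = Tab.act T D rw37 i := rfl
noncomputable def actR38 (i : Nat) : Nat := col13 (col1 (col12 (col0 (i))))
theorem actR38_eq (i : Nat) : actR38 i = Tab.act T D rw38 i := rfl
noncomputable def actR39 (i : Nat) : Nat := col13 (col3 (col12 (col2 (i))))
theorem actR39_eq (i : Nat) : actR39 i = Tab.act T D rw39 i := rfl
noncomputable def actR40 (i : Nat) : Nat := col13 (col5 (col12 (col4 (i))))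
theorem actR40_eq (i : Nat) : actR40 i = Tab.act T D rw40 i := rfl
noncomputable def actR41 (i : Nat) : Nat := col13 (col7 (col12 (col6 (i))))
theorem actR41_eq (i : Nat) : actR41 i = Tab.act T D rw41 i := rfl
noncomputable def actR42 (i : Nat) : Nat := col15 (col1 (col14 (col0 (i))))
theorem actR42_eq (i : Nat) : actR42 i = Tab.act T D rw42 i := rfl
noncomputable def actR43 (i : Nat) : Nat := col15 (col3 (col14 (col2 (i))))
theorem actR43_eq (i : Nat) : actR43 i = Tab.act T D rw43 i := rfl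
noncomputable def actR44 (i : Nat) : Nat := col15 (col5 (col14 (col4 (i))))
theorem actR44_eq (i : Nat) : actR44 i = Tab.act T D rw44 i := rfl
noncomputable def actR45 (i : Nat) : Nat := col15 (col7 (col14 (col6 (i))))
theorem actR45_eq (i : Nat) : actR45 i = Tab.act T D rw45 i := rfl
noncomputable def actR46 (i : Nat) : Nat := col17 (col1 (col16 (col0 (i))))
theorem actR46_eq (i : Nat) : actR46 i = Tab.act T D rw46 i := rfl
noncomputable def actR47 (i : Nat) : Nat := col17 (col3 (col16 (col2 (i))))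
theorem actR47_eq (i : Nat) : actR47 i = Tab.act T D rw47 i := rfl
noncomputable def actR48 (i : Nat) : Nat := col17 (col5 (col16 (col4 (i))))
theorem actR48_eq (i : Nat) : actR48 i = Tab.act T D rw48 i := rfl
noncomputable def actR49 (i : Nat) : Nat := col17 (col7 (col16 (col6 (i))))
theorem actR49_eq (i : Nat) : actR49 i = Tab.act T D rw49 i := rfl
noncomputable def actR50 (i : Nat) : Nat := col19 (col1 (col18 (col0 (i))))
theorem actR50_eq (i : Nat) : actR50 i = Tab.act T D rw50 i := rfl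
noncomputable def actR51 (i : Nat) : Nat := col19 (col3 (col18 (col2 (i))))
theorem actR51_eq (i : Nat) : actR51 i = Tab.act T D rw51 i := rfl
noncomputable def actR52 (i : Nat) : Nat := col19 (col5 (col18 (col4 (i))))
theorem actR52_eq (i : Nat) : actR52 i = Tab.act T D rw52 i := rfl
noncomputable def actR53 (i : Nat) : Nat := col19 (col7 (col18 (col6 (i))))
theorem actR53_eq (i : Nat) : actR53 i = Tab.act T D rw53 i := rfl
noncomputable def actR54 (i : Nat) : Nat := col21 (col1 (col20 (col0 (i))))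
theorem actR54_eq (i : Nat) : actR54 i = Tab.act T D rw54 i := rfl
noncomputable def actR55 (i : Nat) : Nat := col21 (col3 (col20 (col2 (i))))
theorem actR55_eq (i : Nat) : actR55 i = Tab.act T D rw55 i := rfl
noncomputable def actR56 (i : Nat) : Nat := col21 (col5 (col20 (col4 (i))))
theorem actR56_eq (i : Nat) : actR56 i = Tab.act T D rw56 i := rfl
noncomputable def actR57 (i : Nat) : Nat := col21 (col7 (col20 (col6 (i))))
theorem actR57_eq (i : Nat) : actR57 i = Tab.act T D rw57 i := rfl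
noncomputable def actR58 (i : Nat) : Nat := col23 (col1 (col22 (col0 (i))))
theorem actR58_eq (i : Nat) : actR58 i = Tab.act T D rw58 i := rfl
noncomputable def actR59 (i : Nat) : Nat := col23 (col3 (col22 (col2 (i))))
theorem actR59_eq (i : Nat) : actR59 i = Tab.act T D rw59 i := rfl
noncomputable def actR60 (i : Nat) : Nat := col23 (col5 (col22 (col4 (i))))
theorem actR60_eq (i : Nat) : actR60 i = Tab.act T D rw60 i := rfl
noncomputable def actR61 (i : Nat) : Nat := col23 (col7 (col22 (col6 (i))))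
theorem actR61_eq (i : Nat) : actR61 i = Tab.act T D rw61 i := rfl
noncomputable def actR62 (i : Nat) : Nat := col25 (col1 (col24 (col0 (i))))
theorem actR62_eq (i : Nat) : actR62 i = Tab.act T D rw62 i := rfl
noncomputable def actR63 (i : Nat) : Nat := col25 (col3 (col24 (col2 (i))))
theorem actR63_eq (i : Nat) : actR63 i = Tab.act T D rw63 i := rfl
noncomputable def actR64 (i : Nat) : Nat := col25 (col5 (col24 (col4 (i))))
theorem actR64_eq (i : Nat) : actR64 i = Tab.act T D rw64 i := rfl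
noncomputable def actR65 (i : Nat) : Nat := col25 (col7 (col24 (col6 (i))))
theorem actR65_eq (i : Nat) : actR65 i = Tab.act T D rw65 i := rfl
noncomputable def actR66 (i : Nat) : Nat := col27 (col1 (col26 (col0 (i))))
theorem actR66_eq (i : Nat) : actR66 i = Tab.act T D rw66 i := rfl
noncomputable def actR67 (i : Nat) : Nat := col27 (col3 (col26 (col2 (i))))
theorem actR67_eq (i : Nat) : actR67 i = Tab.act T D rw67 i := rfl
noncomputable def actR68 (i : Nat) : Nat := col27 (col5 (col26 (col4 (i))))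
theorem actR68_eq (i : Nat) : actR68 i = Tab.act T D rw68 i := rfl
noncomputable def actR69 (i : Nat) : Nat := col27 (col7 (col26 (col6 (i))))
theorem actR69_eq (i : Nat) : actR69 i = Tab.act T D rw69 i := rfl
noncomputable def actR70 (i : Nat) : Nat := col29 (col1 (col28 (col0 (i))))
theorem actR70_eq (i : Nat) : actR70 i = Tab.act T D rw70 i := rfl
noncomputable def actR71 (i : Nat) : Nat := col29 (col3 (col28 (col2 (i))))
theorem actR71_eq (i : Nat) : actR71 i = Tab.act T D rw71 i := rfl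
noncomputable def actR72 (i : Nat) : Nat := col29 (col5 (col28 (col4 (i))))
theorem actR72_eq (i : Nat) : actR72 i = Tab.act T D rw72 i := rfl
noncomputable def actR73 (i : Nat) : Nat := col29 (col7 (col28 (col6 (i))))
theorem actR73_eq (i : Nat) : actR73 i = Tab.act T D rw73 i := rfl
noncomputable def actR74 (i : Nat) : Nat := col31 (col1 (col30 (col0 (i))))
theorem actR74_eq (i : Nat) : actR74 i = Tab.act T D rw74 i := rfl
noncomputable def actR75 (i : Nat) : Nat := col31 (col3 (col30 (col2 (i))))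
theorem actR75_eq (i : Nat) : actR75 i = Tab.act T D rw75 i := rfl
noncomputable def actR76 (i : Nat) : Nat := col31 (col5 (col30 (col4 (i))))
theorem actR76_eq (i : Nat) : actR76 i = Tab.act T D rw76 i := rfl
noncomputable def actR77 (i : Nat) : Nat := col31 (col7 (col30 (col6 (i))))
theorem actR77_eq (i : Nat) : actR77 i = Tab.act T D rw77 i := rfl
noncomputable def actR78 (i : Nat) : Nat := col33 (col1 (col32 (col0 (i))))
theorem actR78_eq (i : Nat) : actR78 i = Tab.act T D rw78 i := rfl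
noncomputable def actR79 (i : Nat) : Nat := col33 (col3 (col32 (col2 (i))))
theorem actR79_eq (i : Nat) : actR79 i = Tab.act T D rw79 i := rfl
noncomputable def actR80 (i : Nat) : Nat := col33 (col5 (col32 (col4 (i))))
theorem actR80_eq (i : Nat) : actR80 i = Tab.act T D rw80 i := rfl
noncomputable def actR81 (i : Nat) : Nat := col33 (col7 (col32 (col6 (i))))
theorem actR81_eq (i : Nat) : actR81 i = Tab.act T D rw81 i := rfl
noncomputable def actR82 (i : Nat) : Nat := col1 (col1 (col1 (col1 (col1 (col1 (col1 (i)))))))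
theorem actR82_eq (i : Nat) : actR82 i = Tab.act T D rw82 i := rfl
noncomputable def actR83 (i : Nat) : Nat := col3 (col3 (col3 (col3 (col3 (col3 (col3 (i)))))))
theorem actR83_eq (i : Nat) : actR83 i = Tab.act T D rw83 i := rfl
noncomputable def actR84 (i : Nat) : Nat := col1 (col1 (col3 (col1 (col3 (col3 (col3 (col0 (col3 (col3 (col0 (col3 (i))))))))))))
theorem actR84_eq (i : Nat) : actR84 i = Tab.act T D rw84 i := rfl
noncomputable def actR85 (i : Nat) : Nat := col1 (col3 (col1 (col2 (col0 (col2 (col2 (col0 (col3 (col1 (col3 (col3 (i))))))))))))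
theorem actR85_eq (i : Nat) : actR85 i = Tab.act T D rw85 i := rfl

end Cfsg.Agent.Lib.Helper4.TCD.SC3McLp2A
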