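import Cfsg.Agent.Lib.Helper4.TCD_SC3McLp2A_Acc

namespace Cfsg.Agent.Lib.Helper4.TCD.SC3McLp2A

open Cfsg.Agent.Lib.Helper4.TC

set_option maxRecDepth 100000
set_option Elab.async false

theorem c_zero : D.zeroOK = true := by decide +kernel
theorem c_base : allBelow D.baseOK 4 = true := by decide +kernel
theorem c_let : allBelow D.letOK 34 = true := by decide +kernel
theorem c_cls0 : T.cls 0 = 0 := by decide +kernel
theorem c_name0 : T.nameOf 0 = 0 := by decide +kernel
theorem c_tab : D.relTabOK 0 (baseRels 34 PSC3McLp2.invR PSC3McLp2.P.real subs ++ (baseRels 34 PSC3McLp2.invR PSC3McLp2.P.real subs).map (invWord D.inv)) = true := by decide +kernel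
theorem c_real : PSC3McLp2.P.real = realLit := by decide +kernel
theorem c_subfix : subs.all (fun u => Nat.beq (Tab.act T D u 0) 0) = true := by decide +kernel
theorem c_subs : subs.all (fun u => u.all (fun x => Nat.ble (Nat.succ x) 34)) = true := by decide +kernel
theorem c_names_0 : allRange D.nameOK 1 60000 = true := by decide +kernel
theorem c_names_1 : allRange D.nameOK 60001 60000 = true := by decide +kernel
theorem c_names_2 : allRange D.nameOK 120001 798 = true := by decide +kernel
theorem c_cls_0 : allRange (T.clsOK D) 1 15000 = true := by decide +kernel
theorem c_cls_1 : allRange (T.clsOK D) 15001 15000 = true := by decide +kernel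
theorem c_cls_2 : allRange (T.clsOK D) 30001 15000 = true := by decide +kernel
theorem c_cls_3 : allRange (T.clsOK D) 45001 15000 = true := by decide +kernel
theorem c_cls_4 : allRange (T.clsOK D) 60001 15000 = true := by decide +kernel
theorem c_cls_5 : allRange (T.clsOK D) 75001 15000 = true := by decide +kernel
theorem c_cls_6 : allRange (T.clsOK D) 90001 15000 = true := by decide +kernel
theorem c_cls_7 : allRange (T.clsOK D) 105001 15000 = true := by decide +kernel
theorem c_cls_8 : allRange (T.clsOK D) 120001 798 = true := by decide +kernel
theorem c_rep_0 : allRange (T.repOK D) 0 30000 = true := by decide +kernel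
theorem c_rep_1 : allRange (T.repOK D) 30000 30000 = true := by decide +kernel
theorem c_rep_2 : allRange (T.repOK D) 60000 6825 = true := by decide +kernel
theorem c_rel_0 : allRange D.relOK 120803 3404 = true := by decide +kernel
theorem c_rel_1 : allRange D.relOK 124207 3458 = true := by decide +kernel
theorem c_rel_2 : allRange D.relOK 127665 3515 = true := by decide +kernel
theorem c_rel_3 : allRange D.relOK 131180 3569 = true := by decide +kernel
theorem c_rel_4 : allRange D.relOK 134749 3447 = true := by decide +kernel
theorem c_rel_5 : allRange D.relOK 138196 3502 = true := by decide +kernel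
theorem c_rel_6 : allRange D.relOK 141698 3386 = true := by decide +kernel
theorem c_rel_7 : allRange D.relOK 145084 3478 = true := by decide +kernel
theorem c_rel_8 : allRange D.relOK 148562 3400 = true := by decide +kernel
theorem c_rel_9 : allRange D.relOK 151962 3342 = true := by decide +kernel
theorem c_rel_10 : allRange D.relOK 155304 3424 = true := by decide +kernel
theorem c_rel_11 : allRange D.relOK 158728 3538 = true := by decide +kernel
theorem c_rel_12 : allRange D.relOK 162266 3398 = true := by decide +kernel
theorem c_rel_13 : allRange D.relOK 165664 3314 = true := by decide +kernel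
theorem c_rel_14 : allRange D.relOK 168978 3468 = true := by decide +kernel
theorem c_rel_15 : allRange D.relOK 172446 3306 = true := by decide +kernel
theorem c_rel_16 : allRange D.relOK 175752 3436 = true := by decide +kernel
theorem c_rel_17 : allRange D.relOK 179188 3394 = true := by decide +kernel
theorem c_rel_18 : allRange D.relOK 182582 3423 = true := by decide +kernel
theorem c_rel_19 : allRange D.relOK 186005 3337 = true := by decide +kernel
theorem c_rel_20 : allRange D.relOK 189342 3389 = true := by decide +kernel
theorem c_rel_21 : allRange D.relOK 192731 3462 = true := by decide +kernel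
theorem c_rel_22 : allRange D.relOK 196193 3343 = true := by decide +kernel
theorem c_rel_23 : allRange D.relOK 199536 3450 = true := by decide +kernel
theorem c_rel_24 : allRange D.relOK 202986 3437 = true := by decide +kernel
theorem c_rel_25 : allRange D.relOK 206423 3336 = true := by decide +kernel
theorem c_rel_26 : allRange D.relOK 209759 3389 = true := by decide +kernel
theorem c_rel_27 : allRange D.relOK 213148 3402 = true := by decide +kernel
theorem c_rel_28 : allRange D.relOK 216550 3408 = true := by decide +kernel
theorem c_rel_29 : allRange D.relOK 219958 3379 = true := by decide +kernel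
theorem c_rel_30 : allRange D.relOK 223337 3384 = true := by decide +kernel
theorem c_rel_31 : allRange D.relOK 226721 3327 = true := by decide +kernel
theorem c_rel_32 : allRange D.relOK 230048 3367 = true := by decide +kernel
theorem c_rel_33 : allRange D.relOK 233415 3270 = true := by decide +kernel
theorem c_rel_34 : allRange D.relOK 236685 3445 = true := by decide +kernel
theorem c_rel_35 : allRange D.relOK 240130 3369 = true := by decide +kernel
theorem c_rel_36 : allRange D.relOK 243499 3423 = true := by decide +kernel
theorem c_rel_37 : allRange D.relOK 246922 3398 = true := by decide +kernel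
theorem c_rel_38 : allRange D.relOK 250320 3325 = true := by decide +kernel
theorem c_rel_39 : allRange D.relOK 253645 3250 = true := by decide +kernel
theorem c_rel_40 : allRange D.relOK 256895 3281 = true := by decide +kernel
theorem c_rel_41 : allRange D.relOK 260176 3457 = true := by decide +kernel
theorem c_rel_42 : allRange D.relOK 263633 3431 = true := by decide +kernel
theorem c_rel_43 : allRange D.relOK 267064 3350 = true := by decide +kernel
theorem c_rel_44 : allRange D.relOK 270414 3194 = true := by decide +kernel
theorem c_rel_45 : allRange D.relOK 273608 3254 = true := by decide +kernel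
theorem c_rel_46 : allRange D.relOK 276862 3387 = true := by decide +kernel
theorem c_rel_47 : allRange D.relOK 280249 3309 = true := by decide +kernel
theorem c_rel_48 : allRange D.relOK 283558 3609 = true := by decide +kernel
theorem c_rel_49 : allRange D.relOK 287167 3225 = true := by decide +kernel
theorem c_rel_50 : allRange D.relOK 290392 3590 = true := by decide +kernel
theorem c_rel_51 : allRange D.relOK 293982 3468 = true := by decide +kernel
theorem c_rel_52 : allRange D.relOK 297450 3398 = true := by decide +kernel
theorem c_rel_53 : allRange D.relOK 300848 3172 = true := by decide +kernel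
theorem c_rel_54 : allRange D.relOK 304020 3131 = true := by decide +kernel
theorem c_rel_55 : allRange D.relOK 307151 2806 = true := by decide +kernel
theorem c_rel_56 : allRange D.relOK 309957 2632 = true := by decide +kernel
theorem c_rel_57 : allRange D.relOK 312589 2886 = true := by decide +kernel
theorem c_rel_58 : allRange D.relOK 315475 3023 = true := by decide +kernel
theorem c_rel_59 : allRange D.relOK 318498 2625 = true := by decide +kernel
theorem c_rel_60 : allRange D.relOK 321123 2696 = true := by decide +kernel
theorem c_rel_61 : allRange D.relOK 323819 3002 = true := by decide +kernel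
theorem c_rel_62 : allRange D.relOK 326821 3220 = true := by decide +kernel
theorem c_rel_63 : allRange D.relOK 330041 3269 = true := by decide +kernel
theorem c_rel_64 : allRange D.relOK 333310 3354 = true := by decide +kernel
theorem c_rel_65 : allRange D.relOK 336664 3515 = true := by decide +kernel
theorem c_rel_66 : allRange D.relOK 340179 3510 = true := by decide +kernel
theorem c_rel_67 : allRange D.relOK 343689 3569 = true := by decide +kernel
theorem c_rel_68 : allRange D.relOK 347258 3357 = true := by decide +kernel
theorem c_rel_69 : allRange D.relOK 350615 3362 = true := by decide +kernel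
theorem c_rel_70 : allRange D.relOK 353977 3324 = true := by decide +kernel
theorem c_rel_71 : allRange D.relOK 357301 3469 = true := by decide +kernel
theorem c_rel_72 : allRange D.relOK 360770 3509 = true := by decide +kernel
theorem c_rel_73 : allRange D.relOK 364279 3571 = true := by decide +kernel
theorem c_rel_74 : allRange D.relOK 367850 3501 = true := by decide +kernel

end Cfsg.Agent.Lib.Helper4.TCD.SC3McLp2A
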