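import Cfsg.Agent.Lib.Helper4.TCD_SC3McLp2A_Acc

namespace Cfsg.Agent.Lib.Helper4.TCD.SC3McLp2A

open Cfsg.Agent.Lib.Helper4.TC

set_option maxRecDepth 100000
set_option Elab.async false

theorem c_act5_13 : allRange (fun i => Nat.beq (actR5 i) i) 43329 3333 = true := by decide +kernel
theorem c_act5_14 : allRange (fun i => Nat.beq (actR5 i) i) 46662 3333 = true := by decide +kernel
theorem c_act5_15 : allRange (fun i => Nat.beq (actR5 i) i) 49995 3333 = true := by decide +kernel
theorem c_act5_16 : allRange (fun i => Nat.beq (actR5 i) i) 53328 3333 = true := by decide +kernel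
theorem c_act5_17 : allRange (fun i => Nat.beq (actR5 i) i) 56661 3333 = true := by decide +kernel
theorem c_act5_18 : allRange (fun i => Nat.beq (actR5 i) i) 59994 3333 = true := by decide +kernel
theorem c_act5_19 : allRange (fun i => Nat.beq (actR5 i) i) 63327 3333 = true := by decide +kernel
theorem c_act5_20 : allRange (fun i => Nat.beq (actR5 i) i) 66660 165 = true := by decide +kernel
theorem c_act6_0 : allRange (fun i => Nat.beq (actR6 i) i) 0 3157 = true := by decide +kernel
theorem c_act6_1 : allRange (fun i => Nat.beq (actR6 i) i) 3157 3157 = true := by decide +kernel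
theorem c_act6_2 : allRange (fun i => Nat.beq (actR6 i) i) 6314 3157 = true := by decide +kernel
theorem c_act6_3 : allRange (fun i => Nat.beq (actR6 i) i) 9471 3157 = true := by decide +kernel
theorem c_act6_4 : allRange (fun i => Nat.beq (actR6 i) i) 12628 3157 = true := by decide +kernel
theorem c_act6_5 : allRange (fun i => Nat.beq (actR6 i) i) 15785 3157 = true := by decide +kernel
theorem c_act6_6 : allRange (fun i => Nat.beq (actR6 i) i) 18942 3157 = true := by decide +kernel
theorem c_act6_7 : allRange (fun i => Nat.beq (actR6 i) i) 22099 3157 = true := by decide +kernel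
theorem c_act6_8 : allRange (fun i => Nat.beq (actR6 i) i) 25256 3157 = true := by decide +kernel
theorem c_act6_9 : allRange (fun i => Nat.beq (actR6 i) i) 28413 3157 = true := by decide +kernel
theorem c_act6_10 : allRange (fun i => Nat.beq (actR6 i) i) 31570 3157 = true := by decide +kernel
theorem c_act6_11 : allRange (fun i => Nat.beq (actR6 i) i) 34727 3157 = true := by decide +kernel
theorem c_act6_12 : allRange (fun i => Nat.beq (actR6 i) i) 37884 3157 = true := by decide +kernel
theorem c_act6_13 : allRange (fun i => Nat.beq (actR6 i) i) 41041 3157 = true := by decide +kernel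
theorem c_act6_14 : allRange (fun i => Nat.beq (actR6 i) i) 44198 3157 = true := by decide +kernel
theorem c_act6_15 : allRange (fun i => Nat.beq (actR6 i) i) 47355 3157 = true := by decide +kernel
theorem c_act6_16 : allRange (fun i => Nat.beq (actR6 i) i) 50512 3157 = true := by decide +kernel
theorem c_act6_17 : allRange (fun i => Nat.beq (actR6 i) i) 53669 3157 = true := by decide +kernel
theorem c_act6_18 : allRange (fun i => Nat.beq (actR6 i) i) 56826 3157 = true := by decide +kernel
theorem c_act6_19 : allRange (fun i => Nat.beq (actR6 i) i) 59983 3157 = true := by decide +kernel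
theorem c_act6_20 : allRange (fun i => Nat.beq (actR6 i) i) 63140 3157 = true := by decide +kernel
theorem c_act6_21 : allRange (fun i => Nat.beq (actR6 i) i) 66297 528 = true := by decide +kernel
theorem c_act7_0 : allRange (fun i => Nat.beq (actR7 i) i) 0 3333 = true := by decide +kernel
theorem c_act7_1 : allRange (fun i => Nat.beq (actR7 i) i) 3333 3333 = true := by decide +kernel
theorem c_act7_2 : allRange (fun i => Nat.beq (actR7 i) i) 6666 3333 = true := by decide +kernel
theorem c_act7_3 : allRange (fun i => Nat.beq (actR7 i) i) 9999 3333 = true := by decide +kernel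
theorem c_act7_4 : allRange (fun i => Nat.beq (actR7 i) i) 13332 3333 = true := by decide +kernel
theorem c_act7_5 : allRange (fun i => Nat.beq (actR7 i) i) 16665 3333 = true := by decide +kernel
theorem c_act7_6 : allRange (fun i => Nat.beq (actR7 i) i) 19998 3333 = true := by decide +kernel
theorem c_act7_7 : allRange (fun i => Nat.beq (actR7 i) i) 23331 3333 = true := by decide +kernel
theorem c_act7_8 : allRange (fun i => Nat.beq (actR7 i) i) 26664 3333 = true := by decide +kernel
theorem c_act7_9 : allRange (fun i => Nat.beq (actR7 i) i) 29997 3333 = true := by decide +kernel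
theorem c_act7_10 : allRange (fun i => Nat.beq (actR7 i) i) 33330 3333 = true := by decide +kernel
theorem c_act7_11 : allRange (fun i => Nat.beq (actR7 i) i) 36663 3333 = true := by decide +kernel
theorem c_act7_12 : allRange (fun i => Nat.beq (actR7 i) i) 39996 3333 = true := by decide +kernel
theorem c_act7_13 : allRange (fun i => Nat.beq (actR7 i) i) 43329 3333 = true := by decide +kernel
theorem c_act7_14 : allRange (fun i => Nat.beq (actR7 i) i) 46662 3333 = true := by decide +kernel
theorem c_act7_15 : allRange (fun i => Nat.beq (actR7 i) i) 49995 3333 = true := by decide +kernel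
theorem c_act7_16 : allRange (fun i => Nat.beq (actR7 i) i) 53328 3333 = true := by decide +kernel
theorem c_act7_17 : allRange (fun i => Nat.beq (actR7 i) i) 56661 3333 = true := by decide +kernel
theorem c_act7_18 : allRange (fun i => Nat.beq (actR7 i) i) 59994 3333 = true := by decide +kernel
theorem c_act7_19 : allRange (fun i => Nat.beq (actR7 i) i) 63327 3333 = true := by decide +kernel
theorem c_act7_20 : allRange (fun i => Nat.beq (actR7 i) i) 66660 165 = true := by decide +kernel
theorem c_act8_0 : allRange (fun i => Nat.beq (actR8 i) i) 0 3333 = true := by decide +kernel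

end Cfsg.Agent.Lib.Helper4.TCD.SC3McLp2A
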