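import Cfsg.Agent.Lib.Helper4.TCD_SC3McLp3A_Acc

namespace Cfsg.Agent.Lib.Helper4.TCD.SC3McLp3A

open Cfsg.Agent.Lib.Helper4.TC

set_option maxRecDepth 100000
set_option Elab.async false

theorem c_zero : D.zeroOK = true := by decide +kernel
theorem c_base : allBelow D.baseOK 4 = true := by decide +kernel
theorem c_let : allBelow D.letOK 30 = true := by decide +kernel
theorem c_cls0 : T.cls 0 = 0 := by decide +kernel
theorem c_name0 : T.nameOf 0 = 0 := by decide +kernel
theorem c_tab : D.relTabOK 0 (baseRels 30 PSC3McLp3.invR PSC3McLp3.P.real subs ++ (baseRels 30 PSC3McLp3.invR PSC3McLp3.P.real subs).map (invWord D.inv)) = true := by decide +kernel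
theorem c_real : PSC3McLp3.P.real = realLit := by decide +kernel
theorem c_subfix : subs.all (fun u => Nat.beq (Tab.act T D u 0) 0) = true := by decide +kernel
theorem c_subs : subs.all (fun u => u.all (fun x => Nat.ble (Nat.succ x) 30)) = true := by decide +kernel
theorem c_names_0 : allRange D.nameOK 1 60000 = true := by decide +kernel
theorem c_names_1 : allRange D.nameOK 60001 60000 = true := by decide +kernel
theorem c_names_2 : allRange D.nameOK 120001 60000 = true := by decide +kernel
theorem c_names_3 : allRange D.nameOK 180001 11619 = true := by decide +kernel
theorem c_cls_0 : allRange (T.clsOK D) 1 15000 = true := by decide +kernel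
theorem c_cls_1 : allRange (T.clsOK D) 15001 15000 = true := by decide +kernel
theorem c_cls_2 : allRange (T.clsOK D) 30001 15000 = true := by decide +kernel
theorem c_cls_3 : allRange (T.clsOK D) 45001 15000 = true := by decide +kernel
theorem c_cls_4 : allRange (T.clsOK D) 60001 15000 = true := by decide +kernel
theorem c_cls_5 : allRange (T.clsOK D) 75001 15000 = true := by decide +kernel
theorem c_cls_6 : allRange (T.clsOK D) 90001 15000 = true := by decide +kernel
theorem c_cls_7 : allRange (T.clsOK D) 105001 15000 = true := by decide +kernel
theorem c_cls_8 : allRange (T.clsOK D) 120001 15000 = true := by decide +kernel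
theorem c_cls_9 : allRange (T.clsOK D) 135001 15000 = true := by decide +kernel
theorem c_cls_10 : allRange (T.clsOK D) 150001 15000 = true := by decide +kernel
theorem c_cls_11 : allRange (T.clsOK D) 165001 15000 = true := by decide +kernel
theorem c_cls_12 : allRange (T.clsOK D) 180001 11619 = true := by decide +kernel
theorem c_rep_0 : allRange (T.repOK D) 0 30000 = true := by decide +kernel
theorem c_rep_1 : allRange (T.repOK D) 30000 30000 = true := by decide +kernel
theorem c_rep_2 : allRange (T.repOK D) 60000 6825 = true := by decide +kernel
theorem c_rel_0 : allRange D.relOK 191624 3299 = true := by decide +kernel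
theorem c_rel_1 : allRange D.relOK 194923 3323 = true := by decide +kernel
theorem c_rel_2 : allRange D.relOK 198246 3230 = true := by decide +kernel
theorem c_rel_3 : allRange D.relOK 201476 3161 = true := by decide +kernel
theorem c_rel_4 : allRange D.relOK 204637 3197 = true := by decide +kernel
theorem c_rel_5 : allRange D.relOK 207834 3540 = true := by decide +kernel
theorem c_rel_6 : allRange D.relOK 211374 3583 = true := by decide +kernel
theorem c_rel_7 : allRange D.relOK 214957 3231 = true := by decide +kernel
theorem c_rel_8 : allRange D.relOK 218188 3568 = true := by decide +kernel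
theorem c_rel_9 : allRange D.relOK 221756 3008 = true := by decide +kernel
theorem c_rel_10 : allRange D.relOK 224764 3614 = true := by decide +kernel
theorem c_rel_11 : allRange D.relOK 228378 3513 = true := by decide +kernel
theorem c_rel_12 : allRange D.relOK 231891 3201 = true := by decide +kernel
theorem c_rel_13 : allRange D.relOK 235092 3408 = true := by decide +kernel
theorem c_rel_14 : allRange D.relOK 238500 3552 = true := by decide +kernel
theorem c_rel_15 : allRange D.relOK 242052 3223 = true := by decide +kernel
theorem c_rel_16 : allRange D.relOK 245275 3241 = true := by decide +kernel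
theorem c_rel_17 : allRange D.relOK 248516 3259 = true := by decide +kernel
theorem c_rel_18 : allRange D.relOK 251775 3547 = true := by decide +kernel
theorem c_rel_19 : allRange D.relOK 255322 3524 = true := by decide +kernel
theorem c_rel_20 : allRange D.relOK 258846 3387 = true := by decide +kernel
theorem c_rel_21 : allRange D.relOK 262233 3441 = true := by decide +kernel
theorem c_rel_22 : allRange D.relOK 265674 3234 = true := by decide +kernel
theorem c_rel_23 : allRange D.relOK 268908 3206 = true := by decide +kernel
theorem c_rel_24 : allRange D.relOK 272114 3218 = true := by decide +kernel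
theorem c_rel_25 : allRange D.relOK 275332 3117 = true := by decide +kernel
theorem c_rel_26 : allRange D.relOK 278449 3138 = true := by decide +kernel
theorem c_rel_27 : allRange D.relOK 281587 3275 = true := by decide +kernel
theorem c_rel_28 : allRange D.relOK 284862 3363 = true := by decide +kernel
theorem c_rel_29 : allRange D.relOK 288225 3276 = true := by decide +kernel
theorem c_rel_30 : allRange D.relOK 291501 3315 = true := by decide +kernel
theorem c_rel_31 : allRange D.relOK 294816 3324 = true := by decide +kernel
theorem c_rel_32 : allRange D.relOK 298140 3270 = true := by decide +kernel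
theorem c_rel_33 : allRange D.relOK 301410 3302 = true := by decide +kernel
theorem c_rel_34 : allRange D.relOK 304712 3163 = true := by decide +kernel
theorem c_rel_35 : allRange D.relOK 307875 3107 = true := by decide +kernel
theorem c_rel_36 : allRange D.relOK 310982 3231 = true := by decide +kernel
theorem c_rel_37 : allRange D.relOK 314213 3270 = true := by decide +kernel
theorem c_rel_38 : allRange D.relOK 317483 3322 = true := by decide +kernel
theorem c_rel_39 : allRange D.relOK 320805 3236 = true := by decide +kernel
theorem c_rel_40 : allRange D.relOK 324041 3301 = true := by decide +kernel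
theorem c_rel_41 : allRange D.relOK 327342 3266 = true := by decide +kernel
theorem c_rel_42 : allRange D.relOK 330608 3258 = true := by decide +kernel
theorem c_rel_43 : allRange D.relOK 333866 3187 = true := by decide +kernel
theorem c_rel_44 : allRange D.relOK 337053 3184 = true := by decide +kernel
theorem c_rel_45 : allRange D.relOK 340237 3216 = true := by decide +kernel
theorem c_rel_46 : allRange D.relOK 343453 3290 = true := by decide +kernel
theorem c_rel_47 : allRange D.relOK 346743 3290 = true := by decide +kernel
theorem c_rel_48 : allRange D.relOK 350033 3256 = true := by decide +kernel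
theorem c_rel_49 : allRange D.relOK 353289 3174 = true := by decide +kernel
theorem c_rel_50 : allRange D.relOK 356463 3230 = true := by decide +kernel
theorem c_rel_51 : allRange D.relOK 359693 3190 = true := by decide +kernel
theorem c_rel_52 : allRange D.relOK 362883 3232 = true := by decide +kernel
theorem c_rel_53 : allRange D.relOK 366115 3297 = true := by decide +kernel
theorem c_rel_54 : allRange D.relOK 369412 3131 = true := by decide +kernel
theorem c_rel_55 : allRange D.relOK 372543 3503 = true := by decide +kernel
theorem c_rel_56 : allRange D.relOK 376046 3562 = true := by decide +kernel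
theorem c_rel_57 : allRange D.relOK 379608 3574 = true := by decide +kernel
theorem c_rel_58 : allRange D.relOK 383182 3573 = true := by decide +kernel
theorem c_rel_59 : allRange D.relOK 386755 3451 = true := by decide +kernel
theorem c_rel_60 : allRange D.relOK 390206 3256 = true := by decide +kernel
theorem c_rel_61 : allRange D.relOK 393462 3293 = true := by decide +kernel
theorem c_rel_62 : allRange D.relOK 396755 3247 = true := by decide +kernel

end Cfsg.Agent.Lib.Helper4.TCD.SC3McLp3A
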