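import Cfsg.Agent.Lib.Helper4.TCD_SC3McLp3A_Acc

namespace Cfsg.Agent.Lib.Helper4.TCD.SC3McLp3A

open Cfsg.Agent.Lib.Helper4.TC

set_option maxRecDepth 100000
set_option Elab.async false

theorem c_perm_48 : allGrid (T.permOK1 D) 48000 1000 30 = true := by decide +kernel
theorem c_perm_49 : allGrid (T.permOK1 D) 49000 1000 30 = true := by decide +kernel
theorem c_perm_50 : allGrid (T.permOK1 D) 50000 1000 30 = true := by decide +kernel
theorem c_perm_51 : allGrid (T.permOK1 D) 51000 1000 30 = true := by decide +kernel
theorem c_perm_52 : allGrid (T.permOK1 D) 52000 1000 30 = true := by decide +kernel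
theorem c_perm_53 : allGrid (T.permOK1 D) 53000 1000 30 = true := by decide +kernel
theorem c_perm_54 : allGrid (T.permOK1 D) 54000 1000 30 = true := by decide +kernel
theorem c_perm_55 : allGrid (T.permOK1 D) 55000 1000 30 = true := by decide +kernel
theorem c_perm_56 : allGrid (T.permOK1 D) 56000 1000 30 = true := by decide +kernel
theorem c_perm_57 : allGrid (T.permOK1 D) 57000 1000 30 = true := by decide +kernel
theorem c_perm_58 : allGrid (T.permOK1 D) 58000 1000 30 = true := by decide +kernel
theorem c_perm_59 : allGrid (T.permOK1 D) 59000 1000 30 = true := by decide +kernel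
theorem c_perm_60 : allGrid (T.permOK1 D) 60000 1000 30 = true := by decide +kernel
theorem c_perm_61 : allGrid (T.permOK1 D) 61000 1000 30 = true := by decide +kernel
theorem c_perm_62 : allGrid (T.permOK1 D) 62000 1000 30 = true := by decide +kernel
theorem c_perm_63 : allGrid (T.permOK1 D) 63000 1000 30 = true := by decide +kernel
theorem c_perm_64 : allGrid (T.permOK1 D) 64000 1000 30 = true := by decide +kernel
theorem c_perm_65 : allGrid (T.permOK1 D) 65000 1000 30 = true := by decide +kernel
theorem c_perm_66 : allGrid (T.permOK1 D) 66000 825 30 = true := by decide +kernel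
theorem c_act0_0 : allRange (fun i => Nat.beq (actR0 i) i) 0 8571 = true := by decide +kernel
theorem c_act0_1 : allRange (fun i => Nat.beq (actR0 i) i) 8571 8571 = true := by decide +kernel
theorem c_act0_2 : allRange (fun i => Nat.beq (actR0 i) i) 17142 8571 = true := by decide +kernel
theorem c_act0_3 : allRange (fun i => Nat.beq (actR0 i) i) 25713 8571 = true := by decide +kernel
theorem c_act0_4 : allRange (fun i => Nat.beq (actR0 i) i) 34284 8571 = true := by decide +kernel
theorem c_act0_5 : allRange (fun i => Nat.beq (actR0 i) i) 42855 8571 = true := by decide +kernel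
theorem c_act0_6 : allRange (fun i => Nat.beq (actR0 i) i) 51426 8571 = true := by decide +kernel
theorem c_act0_7 : allRange (fun i => Nat.beq (actR0 i) i) 59997 6828 = true := by decide +kernel
theorem c_act1_0 : allRange (fun i => Nat.beq (actR1 i) i) 0 8571 = true := by decide +kernel
theorem c_act1_1 : allRange (fun i => Nat.beq (actR1 i) i) 8571 8571 = true := by decide +kernel
theorem c_act1_2 : allRange (fun i => Nat.beq (actR1 i) i) 17142 8571 = true := by decide +kernel
theorem c_act1_3 : allRange (fun i => Nat.beq (actR1 i) i) 25713 8571 = true := by decide +kernel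
theorem c_act1_4 : allRange (fun i => Nat.beq (actR1 i) i) 34284 8571 = true := by decide +kernel
theorem c_act1_5 : allRange (fun i => Nat.beq (actR1 i) i) 42855 8571 = true := by decide +kernel
theorem c_act1_6 : allRange (fun i => Nat.beq (actR1 i) i) 51426 8571 = true := by decide +kernel
theorem c_act1_7 : allRange (fun i => Nat.beq (actR1 i) i) 59997 6828 = true := by decide +kernel
theorem c_act2_0 : allRange (fun i => Nat.beq (actR2 i) i) 0 5454 = true := by decide +kernel
theorem c_act2_1 : allRange (fun i => Nat.beq (actR2 i) i) 5454 5454 = true := by decide +kernel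
theorem c_act2_2 : allRange (fun i => Nat.beq (actR2 i) i) 10908 5454 = true := by decide +kernel
theorem c_act2_3 : allRange (fun i => Nat.beq (actR2 i) i) 16362 5454 = true := by decide +kernel
theorem c_act2_4 : allRange (fun i => Nat.beq (actR2 i) i) 21816 5454 = true := by decide +kernel
theorem c_act2_5 : allRange (fun i => Nat.beq (actR2 i) i) 27270 5454 = true := by decide +kernel
theorem c_act2_6 : allRange (fun i => Nat.beq (actR2 i) i) 32724 5454 = true := by decide +kernel
theorem c_act2_7 : allRange (fun i => Nat.beq (actR2 i) i) 38178 5454 = true := by decide +kernel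
theorem c_act2_8 : allRange (fun i => Nat.beq (actR2 i) i) 43632 5454 = true := by decide +kernel
theorem c_act2_9 : allRange (fun i => Nat.beq (actR2 i) i) 49086 5454 = true := by decide +kernel
theorem c_act2_10 : allRange (fun i => Nat.beq (actR2 i) i) 54540 5454 = true := by decide +kernel
theorem c_act2_11 : allRange (fun i => Nat.beq (actR2 i) i) 59994 5454 = true := by decide +kernel
theorem c_act2_12 : allRange (fun i => Nat.beq (actR2 i) i) 65448 1377 = true := by decide +kernel
theorem c_act3_0 : allRange (fun i => Nat.beq (actR3 i) i) 0 20000 = true := by decide +kernel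
theorem c_act3_1 : allRange (fun i => Nat.beq (actR3 i) i) 20000 20000 = true := by decide +kernel
theorem c_act3_2 : allRange (fun i => Nat.beq (actR3 i) i) 40000 20000 = true := by decide +kernel

end Cfsg.Agent.Lib.Helper4.TCD.SC3McLp3A
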