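import Cfsg.Agent.Lib.Helper4.TCD_SC3McLp3A_Acc

namespace Cfsg.Agent.Lib.Helper4.TCD.SC3McLp3A

open Cfsg.Agent.Lib.Helper4.TC

set_option maxRecDepth 100000
set_option Elab.async false

theorem c_act86_10 : allRange (fun i => Nat.beq (actR86 i) i) 33330 3333 = true := by decide +kernel
theorem c_act86_11 : allRange (fun i => Nat.beq (actR86 i) i) 36663 3333 = true := by decide +kernel
theorem c_act86_12 : allRange (fun i => Nat.beq (actR86 i) i) 39996 3333 = true := by decide +kernel
theorem c_act86_13 : allRange (fun i => Nat.beq (actR86 i) i) 43329 3333 = true := by decide +kernel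
theorem c_act86_14 : allRange (fun i => Nat.beq (actR86 i) i) 46662 3333 = true := by decide +kernel
theorem c_act86_15 : allRange (fun i => Nat.beq (actR86 i) i) 49995 3333 = true := by decide +kernel
theorem c_act86_16 : allRange (fun i => Nat.beq (actR86 i) i) 53328 3333 = true := by decide +kernel
theorem c_act86_17 : allRange (fun i => Nat.beq (actR86 i) i) 56661 3333 = true := by decide +kernel
theorem c_act86_18 : allRange (fun i => Nat.beq (actR86 i) i) 59994 3333 = true := by decide +kernel
theorem c_act86_19 : allRange (fun i => Nat.beq (actR86 i) i) 63327 3333 = true := by decide +kernel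
theorem c_act86_20 : allRange (fun i => Nat.beq (actR86 i) i) 66660 165 = true := by decide +kernel
theorem c_act87_0 : allRange (fun i => Nat.beq (actR87 i) i) 0 3333 = true := by decide +kernel
theorem c_act87_1 : allRange (fun i => Nat.beq (actR87 i) i) 3333 3333 = true := by decide +kernel
theorem c_act87_2 : allRange (fun i => Nat.beq (actR87 i) i) 6666 3333 = true := by decide +kernel
theorem c_act87_3 : allRange (fun i => Nat.beq (actR87 i) i) 9999 3333 = true := by decide +kernel
theorem c_act87_4 : allRange (fun i => Nat.beq (actR87 i) i) 13332 3333 = true := by decide +kernel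
theorem c_act87_5 : allRange (fun i => Nat.beq (actR87 i) i) 16665 3333 = true := by decide +kernel
theorem c_act87_6 : allRange (fun i => Nat.beq (actR87 i) i) 19998 3333 = true := by decide +kernel
theorem c_act87_7 : allRange (fun i => Nat.beq (actR87 i) i) 23331 3333 = true := by decide +kernel
theorem c_act87_8 : allRange (fun i => Nat.beq (actR87 i) i) 26664 3333 = true := by decide +kernel
theorem c_act87_9 : allRange (fun i => Nat.beq (actR87 i) i) 29997 3333 = true := by decide +kernel
theorem c_act87_10 : allRange (fun i => Nat.beq (actR87 i) i) 33330 3333 = true := by decide +kernel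
theorem c_act87_11 : allRange (fun i => Nat.beq (actR87 i) i) 36663 3333 = true := by decide +kernel
theorem c_act87_12 : allRange (fun i => Nat.beq (actR87 i) i) 39996 3333 = true := by decide +kernel
theorem c_act87_13 : allRange (fun i => Nat.beq (actR87 i) i) 43329 3333 = true := by decide +kernel
theorem c_act87_14 : allRange (fun i => Nat.beq (actR87 i) i) 46662 3333 = true := by decide +kernel
theorem c_act87_15 : allRange (fun i => Nat.beq (actR87 i) i) 49995 3333 = true := by decide +kernel
theorem c_act87_16 : allRange (fun i => Nat.beq (actR87 i) i) 53328 3333 = true := by decide +kernel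
theorem c_act87_17 : allRange (fun i => Nat.beq (actR87 i) i) 56661 3333 = true := by decide +kernel
theorem c_act87_18 : allRange (fun i => Nat.beq (actR87 i) i) 59994 3333 = true := by decide +kernel
theorem c_act87_19 : allRange (fun i => Nat.beq (actR87 i) i) 63327 3333 = true := by decide +kernel
theorem c_act87_20 : allRange (fun i => Nat.beq (actR87 i) i) 66660 165 = true := by decide +kernel
theorem c_act88_0 : allRange (fun i => Nat.beq (actR88 i) i) 0 3333 = true := by decide +kernel
theorem c_act88_1 : allRange (fun i => Nat.beq (actR88 i) i) 3333 3333 = true := by decide +kernel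
theorem c_act88_2 : allRange (fun i => Nat.beq (actR88 i) i) 6666 3333 = true := by decide +kernel
theorem c_act88_3 : allRange (fun i => Nat.beq (actR88 i) i) 9999 3333 = true := by decide +kernel
theorem c_act88_4 : allRange (fun i => Nat.beq (actR88 i) i) 13332 3333 = true := by decide +kernel
theorem c_act88_5 : allRange (fun i => Nat.beq (actR88 i) i) 16665 3333 = true := by decide +kernel
theorem c_act88_6 : allRange (fun i => Nat.beq (actR88 i) i) 19998 3333 = true := by decide +kernel
theorem c_act88_7 : allRange (fun i => Nat.beq (actR88 i) i) 23331 3333 = true := by decide +kernel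
theorem c_act88_8 : allRange (fun i => Nat.beq (actR88 i) i) 26664 3333 = true := by decide +kernel
theorem c_act88_9 : allRange (fun i => Nat.beq (actR88 i) i) 29997 3333 = true := by decide +kernel
theorem c_act88_10 : allRange (fun i => Nat.beq (actR88 i) i) 33330 3333 = true := by decide +kernel
theorem c_act88_11 : allRange (fun i => Nat.beq (actR88 i) i) 36663 3333 = true := by decide +kernel
theorem c_act88_12 : allRange (fun i => Nat.beq (actR88 i) i) 39996 3333 = true := by decide +kernel
theorem c_act88_13 : allRange (fun i => Nat.beq (actR88 i) i) 43329 3333 = true := by decide +kernel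
theorem c_act88_14 : allRange (fun i => Nat.beq (actR88 i) i) 46662 3333 = true := by decide +kernel
theorem c_act88_15 : allRange (fun i => Nat.beq (actR88 i) i) 49995 3333 = true := by decide +kernel
theorem c_act88_16 : allRange (fun i => Nat.beq (actR88 i) i) 53328 3333 = true := by decide +kernel
theorem c_act88_17 : allRange (fun i => Nat.beq (actR88 i) i) 56661 3333 = true := by decide +kernel
theorem c_act88_18 : allRange (fun i => Nat.beq (actR88 i) i) 59994 3333 = true := by decide +kernel

end Cfsg.Agent.Lib.Helper4.TCD.SC3McLp3A
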