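import Cfsg.Agent.Lib.Helper4.TCD_C3McLR_Acc
import Cfsg.Agent.Lib.Helper4.TC13

namespace Cfsg.Agent.Lib.Helper4.TCD.SC3McLp3W

open Cfsg.Agent.Lib.Helper4.TC Cfsg.Agent.Lib.Helper4.TCD.C3McLR

set_option maxRecDepth 100000
set_option Elab.async false

def chk3 : List Nat := [4, 3, 2, 5]
noncomputable def act3 (i : Nat) : Nat := col5 (col2 (col3 (col4 (i))))
theorem act3_eq (i : Nat) : act3 i = Tab.act T D chk3 i := rfl
theorem c3_0 : allRange (fun i => Nat.beq (act3 i) i) 0 10000 = true := by decide +kernel
theorem c3_1 : allRange (fun i => Nat.beq (act3 i) i) 10000 10000 = true := by decide +kernel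
theorem c3_2 : allRange (fun i => Nat.beq (act3 i) i) 20000 10000 = true := by decide +kernel
theorem c3_3 : allRange (fun i => Nat.beq (act3 i) i) 30000 10000 = true := by decide +kernel
theorem c3_4 : allRange (fun i => Nat.beq (act3 i) i) 40000 10000 = true := by decide +kernel
theorem c3_5 : allRange (fun i => Nat.beq (act3 i) i) 50000 10000 = true := by decide +kernel
theorem c3_6 : allRange (fun i => Nat.beq (act3 i) i) 60000 6825 = true := by decide +kernel
theorem h3 : ∀ i, i < T.N → Tab.relActOK T D chk3 i = true := by
  intro i hi
  rw [Tab.relActOK, ← act3_eq]
  exact (range_glue (range_of_allRange c3_0) (range_glue (range_of_allRange c3_1) (range_glue (range_of_allRange c3_2) (range_glue (range_of_allRange c3_3) (range_glue (range_of_allRange c3_4) (range_glue (range_of_allRange c3_5) (range_of_allRange c3_6))))))) i (Nat.zero_le _) hi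

def chk5 : List Nat := [4, 4, 4]
noncomputable def act5 (i : Nat) : Nat := col5 (col5 (col5 (i)))
theorem act5_eq (i : Nat) : act5 i = Tab.act T D chk5 i := rfl
theorem c5_0 : allRange (fun i => Nat.beq (act5 i) i) 0 12000 = true := by decide +kernel
theorem c5_1 : allRange (fun i => Nat.beq (act5 i) i) 12000 12000 = true := by decide +kernel
theorem c5_2 : allRange (fun i => Nat.beq (act5 i) i) 24000 12000 = true := by decide +kernel
theorem c5_3 : allRange (fun i => Nat.beq (act5 i) i) 36000 12000 = true := by decide +kernel
theorem c5_4 : allRange (fun i => Nat.beq (act5 i) i) 48000 12000 = true := by decide +kernel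
theorem c5_5 : allRange (fun i => Nat.beq (act5 i) i) 60000 6825 = true := by decide +kernel
theorem h5 : ∀ i, i < T.N → Tab.relActOK T D chk5 i = true := by
  intro i hi
  rw [Tab.relActOK, ← act5_eq]
  exact (range_glue (range_of_allRange c5_0) (range_glue (range_of_allRange c5_1) (range_glue (range_of_allRange c5_2) (range_glue (range_of_allRange c5_3) (range_glue (range_of_allRange c5_4) (range_of_allRange c5_5)))))) i (Nat.zero_le _) hi

def chk10 : List Nat := [0, 0, 0, 0, 3, 1, 5, 2, 1, 1, 1, 2, 2, 1, 5, 0, 5]
noncomputable def act10 (i : Nat) : Nat := col1 (col1 (col1 (col1 (col2 (col0 (col4 (col3 (col0 (col0 (col0 (col3 (col3 (col0 (col4 (col1 (col4 (i)))))))))))))))))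
theorem act10_eq (i : Nat) : act10 i = Tab.act T D chk10 i := rfl
theorem c10_0 : allRange (fun i => Nat.beq (act10 i) i) 0 3157 = true := by decide +kernel
theorem c10_1 : allRange (fun i => Nat.beq (act10 i) i) 3157 3157 = true := by decide +kernel
theorem c10_2 : allRange (fun i => Nat.beq (act10 i) i) 6314 3157 = true := by decide +kernel
theorem c10_3 : allRange (fun i => Nat.beq (act10 i) i) 9471 3157 = true := by decide +kernel
theorem c10_4 : allRange (fun i => Nat.beq (act10 i) i) 12628 3157 = true := by decide +kernel
theorem c10_5 : allRange (fun i => Nat.beq (act10 i) i) 15785 3157 = true := by decide +kernel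
theorem c10_6 : allRange (fun i => Nat.beq (act10 i) i) 18942 3157 = true := by decide +kernel
theorem c10_7 : allRange (fun i => Nat.beq (act10 i) i) 22099 3157 = true := by decide +kernel
theorem c10_8 : allRange (fun i => Nat.beq (act10 i) i) 25256 3157 = true := by decide +kernel
theorem c10_9 : allRange (fun i => Nat.beq (act10 i) i) 28413 3157 = true := by decide +kernel
theorem c10_10 : allRange (fun i => Nat.beq (act10 i) i) 31570 3157 = true := by decide +kernel
theorem c10_11 : allRange (fun i => Nat.beq (act10 i) i) 34727 3157 = true := by decide +kernel
theorem c10_12 : allRange (fun i => Nat.beq (act10 i) i) 37884 3157 = true := by decide +kernel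
theorem c10_13 : allRange (fun i => Nat.beq (act10 i) i) 41041 3157 = true := by decide +kernel
theorem c10_14 : allRange (fun i => Nat.beq (act10 i) i) 44198 3157 = true := by decide +kernel
theorem c10_15 : allRange (fun i => Nat.beq (act10 i) i) 47355 3157 = true := by decide +kernel
theorem c10_16 : allRange (fun i => Nat.beq (act10 i) i) 50512 3157 = true := by decide +kernel
theorem c10_17 : allRange (fun i => Nat.beq (act10 i) i) 53669 3157 = true := by decide +kernel
theorem c10_18 : allRange (fun i => Nat.beq (act10 i) i) 56826 3157 = true := by decide +kernel
theorem c10_19 : allRange (fun i => Nat.beq (act10 i) i) 59983 3157 = true := by decide +kernel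
theorem c10_20 : allRange (fun i => Nat.beq (act10 i) i) 63140 3157 = true := by decide +kernel
theorem c10_21 : allRange (fun i => Nat.beq (act10 i) i) 66297 528 = true := by decide +kernel
theorem h10 : ∀ i, i < T.N → Tab.relActOK T D chk10 i = true := by
  intro i hi
  rw [Tab.relActOK, ← act10_eq]
  exact (range_glue (range_of_allRange c10_0) (range_glue (range_of_allRange c10_1) (range_glue (range_of_allRange c10_2) (range_glue (range_of_allRange c10_3) (range_glue (range_of_allRange c10_4) (range_glue (range_of_allRange c10_5) (range_glue (range_of_allRange c10_6) (range_glue (range_of_allRange c10_7) (range_glue (range_of_allRange c10_8) (range_glue (range_of_allRange c10_9) (range_glue (range_of_allRange c10_10) (range_glue (range_of_allRange c10_11) (range_glue (range_of_allRange c10_12) (range_glue (range_of_allRange c10_13) (range_glue (range_of_allRange c10_14) (range_glue (range_of_allRange c10_15) (range_glue (range_of_allRange c10_16) (range_glue (range_of_allRange c10_17) (range_glue (range_of_allRange c10_18) (range_glue (range_of_allRange c10_19) (range_glue (range_of_allRange c10_20) (range_of_allRange c10_21))))))))))))))))))))))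 i (Nat.zero_le _) hi

def chk33 : List Nat := [0, 0, 3, 3, 0, 0, 0, 2, 0, 2, 0, 0, 3, 3, 0, 0, 0, 2, 0, 2, 0, 0, 3, 3, 0, 0, 0, 2, 0, 2, 0, 0, 3, 3, 0, 0, 0, 2, 0, 2]
noncomputable def act33 (i : Nat) : Nat := col1 (col1 (col2 (col2 (col1 (col1 (col1 (col3 (col1 (col3 (col1 (col1 (col2 (col2 (col1 (col1 (col1 (col3 (col1 (col3 (col1 (col1 (col2 (col2 (col1 (col1 (col1 (col3 (col1 (col3 (col1 (col1 (col2 (col2 (col1 (col1 (col1 (col3 (col1 (col3 (i))))))))))))))))))))))))))))))))))))))))
theorem act33_eq (i : Nat) : act33 i = Tab.act T D chk33 i := rfl
theorem c33_0 : allRange (fun i => Nat.beq (act33 i) i) 0 1428 = true := by decide +kernel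
theorem c33_1 : allRange (fun i => Nat.beq (act33 i) i) 1428 1428 = true := by decide +kernel
theorem c33_2 : allRange (fun i => Nat.beq (act33 i) i) 2856 1428 = true := by decide +kernel
theorem c33_3 : allRange (fun i => Nat.beq (act33 i) i) 4284 1428 = true := by decide +kernel
theorem c33_4 : allRange (fun i => Nat.beq (act33 i) i) 5712 1428 = true := by decide +kernel
theorem c33_5 : allRange (fun i => Nat.beq (act33 i) i) 7140 1428 = true := by decide +kernel
theorem c33_6 : allRange (fun i => Nat.beq (act33 i) i) 8568 1428 = true := by decide +kernel
theorem c33_7 : allRange (fun i => Nat.beq (act33 i) i) 9996 1428 = true := by decide +kernel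
theorem c33_8 : allRange (fun i => Nat.beq (act33 i) i) 11424 1428 = true := by decide +kernel
theorem c33_9 : allRange (fun i => Nat.beq (act33 i) i) 12852 1428 = true := by decide +kernel
theorem c33_10 : allRange (fun i => Nat.beq (act33 i) i) 14280 1428 = true := by decide +kernel
theorem c33_11 : allRange (fun i => Nat.beq (act33 i) i) 15708 1428 = true := by decide +kernel
theorem c33_12 : allRange (fun i => Nat.beq (act33 i) i) 17136 1428 = true := by decide +kernel
theorem c33_13 : allRange (fun i => Nat.beq (act33 i) i) 18564 1428 = true := by decide +kernel
theorem c33_14 : allRange (fun i => Nat.beq (act33 i) i) 19992 1428 = true := by decide +kernel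
theorem c33_15 : allRange (fun i => Nat.beq (act33 i) i) 21420 1428 = true := by decide +kernel
theorem c33_16 : allRange (fun i => Nat.beq (act33 i) i) 22848 1428 = true := by decide +kernel
theorem c33_17 : allRange (fun i => Nat.beq (act33 i) i) 24276 1428 = true := by decide +kernel
theorem c33_18 : allRange (fun i => Nat.beq (act33 i) i) 25704 1428 = true := by decide +kernel
theorem c33_19 : allRange (fun i => Nat.beq (act33 i) i) 27132 1428 = true := by decide +kernel
theorem c33_20 : allRange (fun i => Nat.beq (act33 i) i) 28560 1428 = true := by decide +kernel
theorem c33_21 : allRange (fun i => Nat.beq (act33 i) i) 29988 1428 = true := by decide +kernel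
theorem c33_22 : allRange (fun i => Nat.beq (act33 i) i) 31416 1428 = true := by decide +kernel
theorem c33_23 : allRange (fun i => Nat.beq (act33 i) i) 32844 1428 = true := by decide +kernel
theorem c33_24 : allRange (fun i => Nat.beq (act33 i) i) 34272 1428 = true := by decide +kernel
theorem c33_25 : allRange (fun i => Nat.beq (act33 i) i) 35700 1428 = true := by decide +kernel
theorem c33_26 : allRange (fun i => Nat.beq (act33 i) i) 37128 1428 = true := by decide +kernel
theorem c33_27 : allRange (fun i => Nat.beq (act33 i) i) 38556 1428 = true := by decide +kernel
theorem c33_28 : allRange (fun i => Nat.beq (act33 i) i) 39984 1428 = true := by decide +kernel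
theorem c33_29 : allRange (fun i => Nat.beq (act33 i) i) 41412 1428 = true := by decide +kernel
theorem c33_30 : allRange (fun i => Nat.beq (act33 i) i) 42840 1428 = true := by decide +kernel
theorem c33_31 : allRange (fun i => Nat.beq (act33 i) i) 44268 1428 = true := by decide +kernel
theorem c33_32 : allRange (fun i => Nat.beq (act33 i) i) 45696 1428 = true := by decide +kernel
theorem c33_33 : allRange (fun i => Nat.beq (act33 i) i) 47124 1428 = true := by decide +kernel
theorem c33_34 : allRange (fun i => Nat.beq (act33 i) i) 48552 1428 = true := by decide +kernel
theorem c33_35 : allRange (fun i => Nat.beq (act33 i) i) 49980 1428 = true := by decide +kernel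
theorem c33_36 : allRange (fun i => Nat.beq (act33 i) i) 51408 1428 = true := by decide +kernel
theorem c33_37 : allRange (fun i => Nat.beq (act33 i) i) 52836 1428 = true := by decide +kernel
theorem c33_38 : allRange (fun i => Nat.beq (act33 i) i) 54264 1428 = true := by decide +kernel
theorem c33_39 : allRange (fun i => Nat.beq (act33 i) i) 55692 1428 = true := by decide +kernel
theorem c33_40 : allRange (fun i => Nat.beq (act33 i) i) 57120 1428 = true := by decide +kernel
theorem c33_41 : allRange (fun i => Nat.beq (act33 i) i) 58548 1428 = true := by decide +kernel
theorem c33_42 : allRange (fun i => Nat.beq (act33 i) i) 59976 1428 = true := by decide +kernel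
theorem c33_43 : allRange (fun i => Nat.beq (act33 i) i) 61404 1428 = true := by decide +kernel
theorem c33_44 : allRange (fun i => Nat.beq (act33 i) i) 62832 1428 = true := by decide +kernel
theorem c33_45 : allRange (fun i => Nat.beq (act33 i) i) 64260 1428 = true := by decide +kernel
theorem c33_46 : allRange (fun i => Nat.beq (act33 i) i) 65688 1137 = true := by decide +kernel
theorem h33 : ∀ i, i < T.N → Tab.relActOK T D chk33 i = true := by
  intro i hi
  rw [Tab.relActOK, ← act33_eq]
  exact (range_glue (range_of_allRange c33_0) (range_glue (range_of_allRange c33_1) (range_glue (range_of_allRange c33_2) (range_glue (range_of_allRange c33_3) (range_glue (range_of_allRange c33_4) (range_glue (range_of_allRange c33_5) (range_glue (range_of_allRange c33_6) (range_glue (range_of_allRange c33_7) (range_glue (range_of_allRange c33_8) (range_glue (range_of_allRange c33_9) (range_glue (range_of_allRange c33_10) (range_glue (range_of_allRange c33_11) (range_glue (range_of_allRange c33_12) (range_glue (range_of_allRange c33_13) (range_glue (range_of_allRange c33_14) (range_glue (range_of_allRange c33_15) (range_glue (range_of_allRange c33_16) (range_glue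 (range_of_allRange c33_17) (range_glue (range_of_allRange c33_18) (range_glue (range_of_allRange c33_19) (range_glue (range_of_allRange c33_20) (range_glue (range_of_allRange c33_21) (range_glue (range_of_allRange c33_22) (range_glue (range_of_allRange c33_23) (range_glue (range_of_allRange c33_24) (range_glue (range_of_allRange c33_25) (range_glue (range_of_allRange c33_26) (range_glue (range_of_allRange c33_27) (range_glue (range_of_allRange c33_28) (range_glue (range_of_allRange c33_29) (range_glue (range_of_allRange c33_30) (range_glue (range_of_allRange c33_31) (range_glue (range_of_allRange c33_32) (range_glue (range_of_allRange c33_33) (range_glue (range_of_allRange c33_34) (range_glue (range_of_allRange c33_35) (range_glue (range_of_allRange c33_36) (range_glue (range_of_allRange c33_37) (range_glue (range_of_allRange c33_38) (range_glue (range_of_allRange c33_39) (range_glue (range_of_allRange c33_40) (range_glue (range_of_allRange c33_41) (range_glue (range_of_allRange c33_42) (range_glue (range_of_allRange c33_43) (range_glue (range_of_allRange c33_44) (range_glue (range_of_allRange c33_45) (range_of_allRange c33_46)))))))))))))))))))))))))))))))))))))))))))))))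 i (Nat.zero_le _) hi

def chk35 : List Nat := [2, 2, 0, 3, 1, 1, 2, 2, 0, 3, 1, 1, 2, 2, 0, 3, 1, 1, 2, 2, 0, 3, 1, 1]
noncomputable def act35 (i : Nat) : Nat := col3 (col3 (col1 (col2 (col0 (col0 (col3 (col3 (col1 (col2 (col0 (col0 (col3 (col3 (col1 (col2 (col0 (col0 (col3 (col3 (col1 (col2 (col0 (col0 (i))))))))))))))))))))))))
theorem act35_eq (i : Nat) : act35 i = Tab.act T D chk35 i := rfl
theorem c35_0 : allRange (fun i => Nat.beq (act35 i) i) 0 2307 = true := by decide +kernel
theorem c35_1 : allRange (fun i => Nat.beq (act35 i) i) 2307 2307 = true := by decide +kernel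
theorem c35_2 : allRange (fun i => Nat.beq (act35 i) i) 4614 2307 = true := by decide +kernel
theorem c35_3 : allRange (fun i => Nat.beq (act35 i) i) 6921 2307 = true := by decide +kernel
theorem c35_4 : allRange (fun i => Nat.beq (act35 i) i) 9228 2307 = true := by decide +kernel
theorem c35_5 : allRange (fun i => Nat.beq (act35 i) i) 11535 2307 = true := by decide +kernel
theorem c35_6 : allRange (fun i => Nat.beq (act35 i) i) 13842 2307 = true := by decide +kernel
theorem c35_7 : allRange (fun i => Nat.beq (act35 i) i) 16149 2307 = true := by decide +kernel
theorem c35_8 : allRange (fun i => Nat.beq (act35 i) i) 18456 2307 = true := by decide +kernel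
theorem c35_9 : allRange (fun i => Nat.beq (act35 i) i) 20763 2307 = true := by decide +kernel
theorem c35_10 : allRange (fun i => Nat.beq (act35 i) i) 23070 2307 = true := by decide +kernel
theorem c35_11 : allRange (fun i => Nat.beq (act35 i) i) 25377 2307 = true := by decide +kernel
theorem c35_12 : allRange (fun i => Nat.beq (act35 i) i) 27684 2307 = true := by decide +kernel
theorem c35_13 : allRange (fun i => Nat.beq (act35 i) i) 29991 2307 = true := by decide +kernel
theorem c35_14 : allRange (fun i => Nat.beq (act35 i) i) 32298 2307 = true := by decide +kernel
theorem c35_15 : allRange (fun i => Nat.beq (act35 i) i) 34605 2307 = true := by decide +kernel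
theorem c35_16 : allRange (fun i => Nat.beq (act35 i) i) 36912 2307 = true := by decide +kernel
theorem c35_17 : allRange (fun i => Nat.beq (act35 i) i) 39219 2307 = true := by decide +kernel
theorem c35_18 : allRange (fun i => Nat.beq (act35 i) i) 41526 2307 = true := by decide +kernel
theorem c35_19 : allRange (fun i => Nat.beq (act35 i) i) 43833 2307 = true := by decide +kernel
theorem c35_20 : allRange (fun i => Nat.beq (act35 i) i) 46140 2307 = true := by decide +kernel
theorem c35_21 : allRange (fun i => Nat.beq (act35 i) i) 48447 2307 = true := by decide +kernel
theorem c35_22 : allRange (fun i => Nat.beq (act35 i) i) 50754 2307 = true := by decide +kernel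
theorem c35_23 : allRange (fun i => Nat.beq (act35 i) i) 53061 2307 = true := by decide +kernel
theorem c35_24 : allRange (fun i => Nat.beq (act35 i) i) 55368 2307 = true := by decide +kernel
theorem c35_25 : allRange (fun i => Nat.beq (act35 i) i) 57675 2307 = true := by decide +kernel
theorem c35_26 : allRange (fun i => Nat.beq (act35 i) i) 59982 2307 = true := by decide +kernel
theorem c35_27 : allRange (fun i => Nat.beq (act35 i) i) 62289 2307 = true := by decide +kernel
theorem c35_28 : allRange (fun i => Nat.beq (act35 i) i) 64596 2229 = true := by decide +kernel
theorem h35 : ∀ i, i < T.N → Tab.relActOK T D chk35 i = true := by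
  intro i hi
  rw [Tab.relActOK, ← act35_eq]
  exact (range_glue (range_of_allRange c35_0) (range_glue (range_of_allRange c35_1) (range_glue (range_of_allRange c35_2) (range_glue (range_of_allRange c35_3) (range_glue (range_of_allRange c35_4) (range_glue (range_of_allRange c35_5) (range_glue (range_of_allRange c35_6) (range_glue (range_of_allRange c35_7) (range_glue (range_of_allRange c35_8) (range_glue (range_of_allRange c35_9) (range_glue (range_of_allRange c35_10) (range_glue (range_of_allRange c35_11) (range_glue (range_of_allRange c35_12) (range_glue (range_of_allRange c35_13) (range_glue (range_of_allRange c35_14) (range_glue (range_of_allRange c35_15) (range_glue (range_of_allRange c35_16) (range_glue (range_of_allRange c35_17) (range_glue (range_of_allRange c35_18) (range_glue (range_of_allRange c35_19) (range_glue (range_of_allRange c35_20) (range_glue (range_of_allRange c35_21) (range_glue (range_of_allRange c35_22) (range_glue (range_of_allRange c35_23) (range_glue (range_of_allRange c35_24) (range_glue (range_of_allRange c35_25) (range_glue (range_of_allRange c35_26) (range_glue (range_of_allRange c35_27) (range_of_allRange c35_28)))))))))))))))))))))))))))))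 i (Nat.zero_le _) hi

def chk46 : List Nat := [5, 1, 1, 3, 1, 1, 3, 1, 2, 1, 4, 2, 1, 3, 0, 0, 2, 0]
noncomputable def act46 (i : Nat) : Nat := col4 (col0 (col0 (col2 (col0 (col0 (col2 (col0 (col3 (col0 (col5 (col3 (col0 (col2 (col1 (col1 (col3 (col1 (i))))))))))))))))))
theorem act46_eq (i : Nat) : act46 i = Tab.act T D chk46 i := rfl
theorem c46_0 : allRange (fun i => Nat.beq (act46 i) i) 0 3000 = true := by decide +kernel
theorem c46_1 : allRange (fun i => Nat.beq (act46 i) i) 3000 3000 = true := by decide +kernel
theorem c46_2 : allRange (fun i => Nat.beq (act46 i) i) 6000 3000 = true := by decide +kernel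
theorem c46_3 : allRange (fun i => Nat.beq (act46 i) i) 9000 3000 = true := by decide +kernel
theorem c46_4 : allRange (fun i => Nat.beq (act46 i) i) 12000 3000 = true := by decide +kernel
theorem c46_5 : allRange (fun i => Nat.beq (act46 i) i) 15000 3000 = true := by decide +kernel
theorem c46_6 : allRange (fun i => Nat.beq (act46 i) i) 18000 3000 = true := by decide +kernel
theorem c46_7 : allRange (fun i => Nat.beq (act46 i) i) 21000 3000 = true := by decide +kernel
theorem c46_8 : allRange (fun i => Nat.beq (act46 i) i) 24000 3000 = true := by decide +kernel
theorem c46_9 : allRange (fun i => Nat.beq (act46 i) i) 27000 3000 = true := by decide +kernel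
theorem c46_10 : allRange (fun i => Nat.beq (act46 i) i) 30000 3000 = true := by decide +kernel
theorem c46_11 : allRange (fun i => Nat.beq (act46 i) i) 33000 3000 = true := by decide +kernel
theorem c46_12 : allRange (fun i => Nat.beq (act46 i) i) 36000 3000 = true := by decide +kernel
theorem c46_13 : allRange (fun i => Nat.beq (act46 i) i) 39000 3000 = true := by decide +kernel
theorem c46_14 : allRange (fun i => Nat.beq (act46 i) i) 42000 3000 = true := by decide +kernel
theorem c46_15 : allRange (fun i => Nat.beq (act46 i) i) 45000 3000 = true := by decide +kernel
theorem c46_16 : allRange (fun i => Nat.beq (act46 i) i) 48000 3000 = true := by decide +kernel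
theorem c46_17 : allRange (fun i => Nat.beq (act46 i) i) 51000 3000 = true := by decide +kernel
theorem c46_18 : allRange (fun i => Nat.beq (act46 i) i) 54000 3000 = true := by decide +kernel
theorem c46_19 : allRange (fun i => Nat.beq (act46 i) i) 57000 3000 = true := by decide +kernel
theorem c46_20 : allRange (fun i => Nat.beq (act46 i) i) 60000 3000 = true := by decide +kernel
theorem c46_21 : allRange (fun i => Nat.beq (act46 i) i) 63000 3000 = true := by decide +kernel
theorem c46_22 : allRange (fun i => Nat.beq (act46 i) i) 66000 825 = true := by decide +kernel
theorem h46 : ∀ i, i < T.N → Tab.relActOK T D chk46 i = true := by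
  intro i hi
  rw [Tab.relActOK, ← act46_eq]
  exact (range_glue (range_of_allRange c46_0) (range_glue (range_of_allRange c46_1) (range_glue (range_of_allRange c46_2) (range_glue (range_of_allRange c46_3) (range_glue (range_of_allRange c46_4) (range_glue (range_of_allRange c46_5) (range_glue (range_of_allRange c46_6) (range_glue (range_of_allRange c46_7) (range_glue (range_of_allRange c46_8) (range_glue (range_of_allRange c46_9) (range_glue (range_of_allRange c46_10) (range_glue (range_of_allRange c46_11) (range_glue (range_of_allRange c46_12) (range_glue (range_of_allRange c46_13) (range_glue (range_of_allRange c46_14) (range_glue (range_of_allRange c46_15) (range_glue (range_of_allRange c46_16) (range_glue (range_of_allRange c46_17) (range_glue (range_of_allRange c46_18) (range_glue (range_of_allRange c46_19) (range_glue (range_of_allRange c46_20) (range_glue (range_of_allRange c46_21) (range_of_allRange c46_22))))))))))))))))))))))) i (Nat.zero_le _) hi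

def chk54 : List Nat := [2, 2, 0, 3, 1, 1, 2, 2, 0, 3, 1, 1, 2, 2, 0, 3, 1, 1, 2, 2, 0, 3, 1, 1]
noncomputable def act54 (i : Nat) : Nat := col3 (col3 (col1 (col2 (col0 (col0 (col3 (col3 (col1 (col2 (col0 (col0 (col3 (col3 (col1 (col2 (col0 (col0 (col3 (col3 (col1 (col2 (col0 (col0 (i))))))))))))))))))))))))
theorem act54_eq (i : Nat) : act54 i = Tab.act T D chk54 i := rfl
theorem c54_0 : allRange (fun i => Nat.beq (act54 i) i) 0 2307 = true := by decide +kernel
theorem c54_1 : allRange (fun i => Nat.beq (act54 i) i) 2307 2307 = true := by decide +kernel
theorem c54_2 : allRange (fun i => Nat.beq (act54 i) i) 4614 2307 = true := by decide +kernel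
theorem c54_3 : allRange (fun i => Nat.beq (act54 i) i) 6921 2307 = true := by decide +kernel
theorem c54_4 : allRange (fun i => Nat.beq (act54 i) i) 9228 2307 = true := by decide +kernel
theorem c54_5 : allRange (fun i => Nat.beq (act54 i) i) 11535 2307 = true := by decide +kernel
theorem c54_6 : allRange (fun i => Nat.beq (act54 i) i) 13842 2307 = true := by decide +kernel
theorem c54_7 : allRange (fun i => Nat.beq (act54 i) i) 16149 2307 = true := by decide +kernel
theorem c54_8 : allRange (fun i => Nat.beq (act54 i) i) 18456 2307 = true := by decide +kernel
theorem c54_9 : allRange (fun i => Nat.beq (act54 i) i) 20763 2307 = true := by decide +kernel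
theorem c54_10 : allRange (fun i => Nat.beq (act54 i) i) 23070 2307 = true := by decide +kernel
theorem c54_11 : allRange (fun i => Nat.beq (act54 i) i) 25377 2307 = true := by decide +kernel
theorem c54_12 : allRange (fun i => Nat.beq (act54 i) i) 27684 2307 = true := by decide +kernel
theorem c54_13 : allRange (fun i => Nat.beq (act54 i) i) 29991 2307 = true := by decide +kernel
theorem c54_14 : allRange (fun i => Nat.beq (act54 i) i) 32298 2307 = true := by decide +kernel
theorem c54_15 : allRange (fun i => Nat.beq (act54 i) i) 34605 2307 = true := by decide +kernel
theorem c54_16 : allRange (fun i => Nat.beq (act54 i) i) 36912 2307 = true := by decide +kernel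
theorem c54_17 : allRange (fun i => Nat.beq (act54 i) i) 39219 2307 = true := by decide +kernel
theorem c54_18 : allRange (fun i => Nat.beq (act54 i) i) 41526 2307 = true := by decide +kernel
theorem c54_19 : allRange (fun i => Nat.beq (act54 i) i) 43833 2307 = true := by decide +kernel
theorem c54_20 : allRange (fun i => Nat.beq (act54 i) i) 46140 2307 = true := by decide +kernel
theorem c54_21 : allRange (fun i => Nat.beq (act54 i) i) 48447 2307 = true := by decide +kernel
theorem c54_22 : allRange (fun i => Nat.beq (act54 i) i) 50754 2307 = true := by decide +kernel
theorem c54_23 : allRange (fun i => Nat.beq (act54 i) i) 53061 2307 = true := by decide +kernel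
theorem c54_24 : allRange (fun i => Nat.beq (act54 i) i) 55368 2307 = true := by decide +kernel
theorem c54_25 : allRange (fun i => Nat.beq (act54 i) i) 57675 2307 = true := by decide +kernel
theorem c54_26 : allRange (fun i => Nat.beq (act54 i) i) 59982 2307 = true := by decide +kernel
theorem c54_27 : allRange (fun i => Nat.beq (act54 i) i) 62289 2307 = true := by decide +kernel
theorem c54_28 : allRange (fun i => Nat.beq (act54 i) i) 64596 2229 = true := by decide +kernel
theorem h54 : ∀ i, i < T.N → Tab.relActOK T D chk54 i = true := by
  intro i hi
  rw [Tab.relActOK, ← act54_eq]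
  exact (range_glue (range_of_allRange c54_0) (range_glue (range_of_allRange c54_1) (range_glue (range_of_allRange c54_2) (range_glue (range_of_allRange c54_3) (range_glue (range_of_allRange c54_4) (range_glue (range_of_allRange c54_5) (range_glue (range_of_allRange c54_6) (range_glue (range_of_allRange c54_7) (range_glue (range_of_allRange c54_8) (range_glue (range_of_allRange c54_9) (range_glue (range_of_allRange c54_10) (range_glue (range_of_allRange c54_11) (range_glue (range_of_allRange c54_12) (range_glue (range_of_allRange c54_13) (range_glue (range_of_allRange c54_14) (range_glue (range_of_allRange c54_15) (range_glue (range_of_allRange c54_16) (range_glue (range_of_allRange c54_17) (range_glue (range_of_allRange c54_18) (range_glue (range_of_allRange c54_19) (range_glue (range_of_allRange c54_20) (range_glue (range_of_allRange c54_21) (range_glue (range_of_allRange c54_22) (range_glue (range_of_allRange c54_23) (range_glue (range_of_allRange c54_24) (range_glue (range_of_allRange c54_25) (range_glue (range_of_allRange c54_26) (range_glue (range_of_allRange c54_27) (range_of_allRange c54_28))))))))))))))))))))))))))))) i (Nat.zero_le _) hi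

def chk77 : List Nat := [0, 0, 2, 1, 2, 2, 0, 3, 0, 0, 2, 1, 2, 2, 0, 3, 0, 0, 2, 1, 2, 2, 0, 3, 0, 0, 2, 1, 2, 2, 0, 3]
noncomputable def act77 (i : Nat) : Nat := col1 (col1 (col3 (col0 (col3 (col3 (col1 (col2 (col1 (col1 (col3 (col0 (col3 (col3 (col1 (col2 (col1 (col1 (col3 (col0 (col3 (col3 (col1 (col2 (col1 (col1 (col3 (col0 (col3 (col3 (col1 (col2 (i))))))))))))))))))))))))))))))))
theorem act77_eq (i : Nat) : act77 i = Tab.act T D chk77 i := rfl
theorem c77_0 : allRange (fun i => Nat.beq (act77 i) i) 0 1764 = true := by decide +kernel
theorem c77_1 : allRange (fun i => Nat.beq (act77 i) i) 1764 1764 = true := by decide +kernel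
theorem c77_2 : allRange (fun i => Nat.beq (act77 i) i) 3528 1764 = true := by decide +kernel
theorem c77_3 : allRange (fun i => Nat.beq (act77 i) i) 5292 1764 = true := by decide +kernel
theorem c77_4 : allRange (fun i => Nat.beq (act77 i) i) 7056 1764 = true := by decide +kernel
theorem c77_5 : allRange (fun i => Nat.beq (act77 i) i) 8820 1764 = true := by decide +kernel
theorem c77_6 : allRange (fun i => Nat.beq (act77 i) i) 10584 1764 = true := by decide +kernel
theorem c77_7 : allRange (fun i => Nat.beq (act77 i) i) 12348 1764 = true := by decide +kernel
theorem c77_8 : allRange (fun i => Nat.beq (act77 i) i) 14112 1764 = true := by decide +kernel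
theorem c77_9 : allRange (fun i => Nat.beq (act77 i) i) 15876 1764 = true := by decide +kernel
theorem c77_10 : allRange (fun i => Nat.beq (act77 i) i) 17640 1764 = true := by decide +kernel
theorem c77_11 : allRange (fun i => Nat.beq (act77 i) i) 19404 1764 = true := by decide +kernel
theorem c77_12 : allRange (fun i => Nat.beq (act77 i) i) 21168 1764 = true := by decide +kernel
theorem c77_13 : allRange (fun i => Nat.beq (act77 i) i) 22932 1764 = true := by decide +kernel
theorem c77_14 : allRange (fun i => Nat.beq (act77 i) i) 24696 1764 = true := by decide +kernel
theorem c77_15 : allRange (fun i => Nat.beq (act77 i) i) 26460 1764 = true := by decide +kernel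
theorem c77_16 : allRange (fun i => Nat.beq (act77 i) i) 28224 1764 = true := by decide +kernel
theorem c77_17 : allRange (fun i => Nat.beq (act77 i) i) 29988 1764 = true := by decide +kernel
theorem c77_18 : allRange (fun i => Nat.beq (act77 i) i) 31752 1764 = true := by decide +kernel
theorem c77_19 : allRange (fun i => Nat.beq (act77 i) i) 33516 1764 = true := by decide +kernel
theorem c77_20 : allRange (fun i => Nat.beq (act77 i) i) 35280 1764 = true := by decide +kernel
theorem c77_21 : allRange (fun i => Nat.beq (act77 i) i) 37044 1764 = true := by decide +kernel
theorem c77_22 : allRange (fun i => Nat.beq (act77 i) i) 38808 1764 = true := by decide +kernel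
theorem c77_23 : allRange (fun i => Nat.beq (act77 i) i) 40572 1764 = true := by decide +kernel
theorem c77_24 : allRange (fun i => Nat.beq (act77 i) i) 42336 1764 = true := by decide +kernel
theorem c77_25 : allRange (fun i => Nat.beq (act77 i) i) 44100 1764 = true := by decide +kernel
theorem c77_26 : allRange (fun i => Nat.beq (act77 i) i) 45864 1764 = true := by decide +kernel
theorem c77_27 : allRange (fun i => Nat.beq (act77 i) i) 47628 1764 = true := by decide +kernel
theorem c77_28 : allRange (fun i => Nat.beq (act77 i) i) 49392 1764 = true := by decide +kernel
theorem c77_29 : allRange (fun i => Nat.beq (act77 i) i) 51156 1764 = true := by decide +kernel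
theorem c77_30 : allRange (fun i => Nat.beq (act77 i) i) 52920 1764 = true := by decide +kernel
theorem c77_31 : allRange (fun i => Nat.beq (act77 i) i) 54684 1764 = true := by decide +kernel
theorem c77_32 : allRange (fun i => Nat.beq (act77 i) i) 56448 1764 = true := by decide +kernel
theorem c77_33 : allRange (fun i => Nat.beq (act77 i) i) 58212 1764 = true := by decide +kernel
theorem c77_34 : allRange (fun i => Nat.beq (act77 i) i) 59976 1764 = true := by decide +kernel
theorem c77_35 : allRange (fun i => Nat.beq (act77 i) i) 61740 1764 = true := by decide +kernel
theorem c77_36 : allRange (fun i => Nat.beq (act77 i) i) 63504 1764 = true := by decide +kernel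
theorem c77_37 : allRange (fun i => Nat.beq (act77 i) i) 65268 1557 = true := by decide +kernel
theorem h77 : ∀ i, i < T.N → Tab.relActOK T D chk77 i = true := by
  intro i hi
  rw [Tab.relActOK, ← act77_eq]
  exact (range_glue (range_of_allRange c77_0) (range_glue (range_of_allRange c77_1) (range_glue (range_of_allRange c77_2) (range_glue (range_of_allRange c77_3) (range_glue (range_of_allRange c77_4) (range_glue (range_of_allRange c77_5) (range_glue (range_of_allRange c77_6) (range_glue (range_of_allRange c77_7) (range_glue (range_of_allRange c77_8) (range_glue (range_of_allRange c77_9) (range_glue (range_of_allRange c77_10) (range_glue (range_of_allRange c77_11) (range_glue (range_of_allRange c77_12) (range_glue (range_of_allRange c77_13) (range_glue (range_of_allRange c77_14) (range_glue (range_of_allRange c77_15) (range_glue (range_of_allRange c77_16) (range_glue (range_of_allRange c77_17) (range_glue (range_of_allRange c77_18) (range_glue (range_of_allRange c77_19) (range_glue (range_of_allRange c77_20) (range_glue (range_of_allRange c77_21) (range_glue (range_of_allRange c77_22) (range_glue (range_of_allRange c77_23) (range_glue (range_of_allRange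 c77_24) (range_glue (range_of_allRange c77_25) (range_glue (range_of_allRange c77_26) (range_glue (range_of_allRange c77_27) (range_glue (range_of_allRange c77_28) (range_glue (range_of_allRange c77_29) (range_glue (range_of_allRange c77_30) (range_glue (range_of_allRange c77_31) (range_glue (range_of_allRange c77_32) (range_glue (range_of_allRange c77_33) (range_glue (range_of_allRange c77_34) (range_glue (range_of_allRange c77_35) (range_glue (range_of_allRange c77_36) (range_of_allRange c77_37)))))))))))))))))))))))))))))))))))))) i (Nat.zero_le _) hi

def chk108 : List Nat := [2, 0, 0, 0, 3, 0, 2, 0, 0, 2, 0, 0, 0, 3, 0, 2, 0, 0, 2, 0, 0, 0, 3, 0, 2, 0, 0, 2, 0, 0, 0, 3, 0, 2, 0, 0]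
noncomputable def act108 (i : Nat) : Nat := col3 (col1 (col1 (col1 (col2 (col1 (col3 (col1 (col1 (col3 (col1 (col1 (col1 (col2 (col1 (col3 (col1 (col1 (col3 (col1 (col1 (col1 (col2 (col1 (col3 (col1 (col1 (col3 (col1 (col1 (col1 (col2 (col1 (col3 (col1 (col1 (i))))))))))))))))))))))))))))))))))))
theorem act108_eq (i : Nat) : act108 i = Tab.act T D chk108 i := rfl
theorem c108_0 : allRange (fun i => Nat.beq (act108 i) i) 0 1578 = true := by decide +kernel
theorem c108_1 : allRange (fun i => Nat.beq (act108 i) i) 1578 1578 = true := by decide +kernel
theorem c108_2 : allRange (fun i => Nat.beq (act108 i) i) 3156 1578 = true := by decide +kernel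
theorem c108_3 : allRange (fun i => Nat.beq (act108 i) i) 4734 1578 = true := by decide +kernel
theorem c108_4 : allRange (fun i => Nat.beq (act108 i) i) 6312 1578 = true := by decide +kernel
theorem c108_5 : allRange (fun i => Nat.beq (act108 i) i) 7890 1578 = true := by decide +kernel
theorem c108_6 : allRange (fun i => Nat.beq (act108 i) i) 9468 1578 = true := by decide +kernel
theorem c108_7 : allRange (fun i => Nat.beq (act108 i) i) 11046 1578 = true := by decide +kernel
theorem c108_8 : allRange (fun i => Nat.beq (act108 i) i) 12624 1578 = true := by decide +kernel
theorem c108_9 : allRange (fun i => Nat.beq (act108 i) i) 14202 1578 = true := by decide +kernel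
theorem c108_10 : allRange (fun i => Nat.beq (act108 i) i) 15780 1578 = true := by decide +kernel
theorem c108_11 : allRange (fun i => Nat.beq (act108 i) i) 17358 1578 = true := by decide +kernel
theorem c108_12 : allRange (fun i => Nat.beq (act108 i) i) 18936 1578 = true := by decide +kernel
theorem c108_13 : allRange (fun i => Nat.beq (act108 i) i) 20514 1578 = true := by decide +kernel
theorem c108_14 : allRange (fun i => Nat.beq (act108 i) i) 22092 1578 = true := by decide +kernel
theorem c108_15 : allRange (fun i => Nat.beq (act108 i) i) 23670 1578 = true := by decide +kernel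
theorem c108_16 : allRange (fun i => Nat.beq (act108 i) i) 25248 1578 = true := by decide +kernel
theorem c108_17 : allRange (fun i => Nat.beq (act108 i) i) 26826 1578 = true := by decide +kernel
theorem c108_18 : allRange (fun i => Nat.beq (act108 i) i) 28404 1578 = true := by decide +kernel
theorem c108_19 : allRange (fun i => Nat.beq (act108 i) i) 29982 1578 = true := by decide +kernel
theorem c108_20 : allRange (fun i => Nat.beq (act108 i) i) 31560 1578 = true := by decide +kernel
theorem c108_21 : allRange (fun i => Nat.beq (act108 i) i) 33138 1578 = true := by decide +kernel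
theorem c108_22 : allRange (fun i => Nat.beq (act108 i) i) 34716 1578 = true := by decide +kernel
theorem c108_23 : allRange (fun i => Nat.beq (act108 i) i) 36294 1578 = true := by decide +kernel
theorem c108_24 : allRange (fun i => Nat.beq (act108 i) i) 37872 1578 = true := by decide +kernel
theorem c108_25 : allRange (fun i => Nat.beq (act108 i) i) 39450 1578 = true := by decide +kernel
theorem c108_26 : allRange (fun i => Nat.beq (act108 i) i) 41028 1578 = true := by decide +kernel
theorem c108_27 : allRange (fun i => Nat.beq (act108 i) i) 42606 1578 = true := by decide +kernel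
theorem c108_28 : allRange (fun i => Nat.beq (act108 i) i) 44184 1578 = true := by decide +kernel
theorem c108_29 : allRange (fun i => Nat.beq (act108 i) i) 45762 1578 = true := by decide +kernel
theorem c108_30 : allRange (fun i => Nat.beq (act108 i) i) 47340 1578 = true := by decide +kernel
theorem c108_31 : allRange (fun i => Nat.beq (act108 i) i) 48918 1578 = true := by decide +kernel
theorem c108_32 : allRange (fun i => Nat.beq (act108 i) i) 50496 1578 = true := by decide +kernel
theorem c108_33 : allRange (fun i => Nat.beq (act108 i) i) 52074 1578 = true := by decide +kernel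
theorem c108_34 : allRange (fun i => Nat.beq (act108 i) i) 53652 1578 = true := by decide +kernel
theorem c108_35 : allRange (fun i => Nat.beq (act108 i) i) 55230 1578 = true := by decide +kernel
theorem c108_36 : allRange (fun i => Nat.beq (act108 i) i) 56808 1578 = true := by decide +kernel
theorem c108_37 : allRange (fun i => Nat.beq (act108 i) i) 58386 1578 = true := by decide +kernel
theorem c108_38 : allRange (fun i => Nat.beq (act108 i) i) 59964 1578 = true := by decide +kernel
theorem c108_39 : allRange (fun i => Nat.beq (act108 i) i) 61542 1578 = true := by decide +kernel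
theorem c108_40 : allRange (fun i => Nat.beq (act108 i) i) 63120 1578 = true := by decide +kernel
theorem c108_41 : allRange (fun i => Nat.beq (act108 i) i) 64698 1578 = true := by decide +kernel
theorem c108_42 : allRange (fun i => Nat.beq (act108 i) i) 66276 549 = true := by decide +kernel
theorem h108 : ∀ i, i < T.N → Tab.relActOK T D chk108 i = true := by
  intro i hi
  rw [Tab.relActOK, ← act108_eq]
  exact (range_glue (range_of_allRange c108_0) (range_glue (range_of_allRange c108_1) (range_glue (range_of_allRange c108_2) (range_glue (range_of_allRange c108_3) (range_glue (range_of_allRange c108_4) (range_glue (range_of_allRange c108_5) (range_glue (range_of_allRange c108_6) (range_glue (range_of_allRange c108_7) (range_glue (range_of_allRange c108_8) (range_glue (range_of_allRange c108_9) (range_glue (range_of_allRange c108_10) (range_glue (range_of_allRange c108_11) (range_glue (range_of_allRange c108_12) (range_glue (range_of_allRange c108_13) (range_glue (range_of_allRange c108_14) (range_glue (range_of_allRange c108_15) (range_glue (range_of_allRange c108_16) (range_glue (range_of_allRange c108_17) (range_glue (range_of_allRange c108_18)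 (range_glue (range_of_allRange c108_19) (range_glue (range_of_allRange c108_20) (range_glue (range_of_allRange c108_21) (range_glue (range_of_allRange c108_22) (range_glue (range_of_allRange c108_23) (range_glue (range_of_allRange c108_24) (range_glue (range_of_allRange c108_25) (range_glue (range_of_allRange c108_26) (range_glue (range_of_allRange c108_27) (range_glue (range_of_allRange c108_28) (range_glue (range_of_allRange c108_29) (range_glue (range_of_allRange c108_30) (range_glue (range_of_allRange c108_31) (range_glue (range_of_allRange c108_32) (range_glue (range_of_allRange c108_33) (range_glue (range_of_allRange c108_34) (range_glue (range_of_allRange c108_35) (range_glue (range_of_allRange c108_36) (range_glue (range_of_allRange c108_37) (range_glue (range_of_allRange c108_38) (range_glue (range_of_allRange c108_39) (range_glue (range_of_allRange c108_40) (range_glue (range_of_allRange c108_41) (range_of_allRange c108_42))))))))))))))))))))))))))))))))))))))))))) i (Nat.zero_le _) hi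

def chk110 : List Nat := [3, 3, 0, 3, 0, 3, 3, 3, 0, 3, 0, 3, 3, 3, 0, 3, 0, 3, 3, 3, 0, 3, 0, 3]
noncomputable def act110 (i : Nat) : Nat := col2 (col2 (col1 (col2 (col1 (col2 (col2 (col2 (col1 (col2 (col1 (col2 (col2 (col2 (col1 (col2 (col1 (col2 (col2 (col2 (col1 (col2 (col1 (col2 (i))))))))))))))))))))))))
theorem act110_eq (i : Nat) : act110 i = Tab.act T D chk110 i := rfl
theorem c110_0 : allRange (fun i => Nat.beq (act110 i) i) 0 2307 = true := by decide +kernel
theorem c110_1 : allRange (fun i => Nat.beq (act110 i) i) 2307 2307 = true := by decide +kernel
theorem c110_2 : allRange (fun i => Nat.beq (act110 i) i) 4614 2307 = true := by decide +kernel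
theorem c110_3 : allRange (fun i => Nat.beq (act110 i) i) 6921 2307 = true := by decide +kernel
theorem c110_4 : allRange (fun i => Nat.beq (act110 i) i) 9228 2307 = true := by decide +kernel
theorem c110_5 : allRange (fun i => Nat.beq (act110 i) i) 11535 2307 = true := by decide +kernel
theorem c110_6 : allRange (fun i => Nat.beq (act110 i) i) 13842 2307 = true := by decide +kernel
theorem c110_7 : allRange (fun i => Nat.beq (act110 i) i) 16149 2307 = true := by decide +kernel
theorem c110_8 : allRange (fun i => Nat.beq (act110 i) i) 18456 2307 = true := by decide +kernel
theorem c110_9 : allRange (fun i => Nat.beq (act110 i) i) 20763 2307 = true := by decide +kernel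
theorem c110_10 : allRange (fun i => Nat.beq (act110 i) i) 23070 2307 = true := by decide +kernel
theorem c110_11 : allRange (fun i => Nat.beq (act110 i) i) 25377 2307 = true := by decide +kernel
theorem c110_12 : allRange (fun i => Nat.beq (act110 i) i) 27684 2307 = true := by decide +kernel
theorem c110_13 : allRange (fun i => Nat.beq (act110 i) i) 29991 2307 = true := by decide +kernel
theorem c110_14 : allRange (fun i => Nat.beq (act110 i) i) 32298 2307 = true := by decide +kernel
theorem c110_15 : allRange (fun i => Nat.beq (act110 i) i) 34605 2307 = true := by decide +kernel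
theorem c110_16 : allRange (fun i => Nat.beq (act110 i) i) 36912 2307 = true := by decide +kernel
theorem c110_17 : allRange (fun i => Nat.beq (act110 i) i) 39219 2307 = true := by decide +kernel
theorem c110_18 : allRange (fun i => Nat.beq (act110 i) i) 41526 2307 = true := by decide +kernel
theorem c110_19 : allRange (fun i => Nat.beq (act110 i) i) 43833 2307 = true := by decide +kernel
theorem c110_20 : allRange (fun i => Nat.beq (act110 i) i) 46140 2307 = true := by decide +kernel
theorem c110_21 : allRange (fun i => Nat.beq (act110 i) i) 48447 2307 = true := by decide +kernel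
theorem c110_22 : allRange (fun i => Nat.beq (act110 i) i) 50754 2307 = true := by decide +kernel
theorem c110_23 : allRange (fun i => Nat.beq (act110 i) i) 53061 2307 = true := by decide +kernel
theorem c110_24 : allRange (fun i => Nat.beq (act110 i) i) 55368 2307 = true := by decide +kernel
theorem c110_25 : allRange (fun i => Nat.beq (act110 i) i) 57675 2307 = true := by decide +kernel
theorem c110_26 : allRange (fun i => Nat.beq (act110 i) i) 59982 2307 = true := by decide +kernel
theorem c110_27 : allRange (fun i => Nat.beq (act110 i) i) 62289 2307 = true := by decide +kernel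
theorem c110_28 : allRange (fun i => Nat.beq (act110 i) i) 64596 2229 = true := by decide +kernel
theorem h110 : ∀ i, i < T.N → Tab.relActOK T D chk110 i = true := by
  intro i hi
  rw [Tab.relActOK, ← act110_eq]
  exact (range_glue (range_of_allRange c110_0) (range_glue (range_of_allRange c110_1) (range_glue (range_of_allRange c110_2) (range_glue (range_of_allRange c110_3) (range_glue (range_of_allRange c110_4) (range_glue (range_of_allRange c110_5) (range_glue (range_of_allRange c110_6) (range_glue (range_of_allRange c110_7) (range_glue (range_of_allRange c110_8) (range_glue (range_of_allRange c110_9) (range_glue (range_of_allRange c110_10) (range_glue (range_of_allRange c110_11) (range_glue (range_of_allRange c110_12) (range_glue (range_of_allRange c110_13) (range_glue (range_of_allRange c110_14) (range_glue (range_of_allRange c110_15) (range_glue (range_of_allRange c110_16) (range_glue (range_of_allRange c110_17) (range_glue (range_of_allRange c110_18) (range_glue (range_of_allRange c110_19) (range_glue (range_of_allRange c110_20) (range_glue (range_of_allRange c110_21) (range_glue (range_of_allRange c110_22) (range_glue (range_of_allRange c110_23)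 (range_glue (range_of_allRange c110_24) (range_glue (range_of_allRange c110_25) (range_glue (range_of_allRange c110_26) (range_glue (range_of_allRange c110_27) (range_of_allRange c110_28))))))))))))))))))))))))))))) i (Nat.zero_le _) hi

def chk112 : List Nat := [5, 3, 0, 3, 1, 1, 1, 3, 0, 2, 2, 4, 1, 3, 1, 1, 2, 0, 3]
noncomputable def act112 (i : Nat) : Nat := col4 (col2 (col1 (col2 (col0 (col0 (col0 (col2 (col1 (col3 (col3 (col5 (col0 (col2 (col0 (col0 (col3 (col1 (col2 (i)))))))))))))))))))
theorem act112_eq (i : Nat) : act112 i = Tab.act T D chk112 i := rfl
theorem c112_0 : allRange (fun i => Nat.beq (act112 i) i) 0 2857 = true := by decide +kernel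
theorem c112_1 : allRange (fun i => Nat.beq (act112 i) i) 2857 2857 = true := by decide +kernel
theorem c112_2 : allRange (fun i => Nat.beq (act112 i) i) 5714 2857 = true := by decide +kernel
theorem c112_3 : allRange (fun i => Nat.beq (act112 i) i) 8571 2857 = true := by decide +kernel
theorem c112_4 : allRange (fun i => Nat.beq (act112 i) i) 11428 2857 = true := by decide +kernel
theorem c112_5 : allRange (fun i => Nat.beq (act112 i) i) 14285 2857 = true := by decide +kernel
theorem c112_6 : allRange (fun i => Nat.beq (act112 i) i) 17142 2857 = true := by decide +kernel
theorem c112_7 : allRange (fun i => Nat.beq (act112 i) i) 19999 2857 = true := by decide +kernel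
theorem c112_8 : allRange (fun i => Nat.beq (act112 i) i) 22856 2857 = true := by decide +kernel
theorem c112_9 : allRange (fun i => Nat.beq (act112 i) i) 25713 2857 = true := by decide +kernel
theorem c112_10 : allRange (fun i => Nat.beq (act112 i) i) 28570 2857 = true := by decide +kernel
theorem c112_11 : allRange (fun i => Nat.beq (act112 i) i) 31427 2857 = true := by decide +kernel
theorem c112_12 : allRange (fun i => Nat.beq (act112 i) i) 34284 2857 = true := by decide +kernel
theorem c112_13 : allRange (fun i => Nat.beq (act112 i) i) 37141 2857 = true := by decide +kernel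
theorem c112_14 : allRange (fun i => Nat.beq (act112 i) i) 39998 2857 = true := by decide +kernel
theorem c112_15 : allRange (fun i => Nat.beq (act112 i) i) 42855 2857 = true := by decide +kernel
theorem c112_16 : allRange (fun i => Nat.beq (act112 i) i) 45712 2857 = true := by decide +kernel
theorem c112_17 : allRange (fun i => Nat.beq (act112 i) i) 48569 2857 = true := by decide +kernel
theorem c112_18 : allRange (fun i => Nat.beq (act112 i) i) 51426 2857 = true := by decide +kernel
theorem c112_19 : allRange (fun i => Nat.beq (act112 i) i) 54283 2857 = true := by decide +kernel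
theorem c112_20 : allRange (fun i => Nat.beq (act112 i) i) 57140 2857 = true := by decide +kernel
theorem c112_21 : allRange (fun i => Nat.beq (act112 i) i) 59997 2857 = true := by decide +kernel
theorem c112_22 : allRange (fun i => Nat.beq (act112 i) i) 62854 2857 = true := by decide +kernel
theorem c112_23 : allRange (fun i => Nat.beq (act112 i) i) 65711 1114 = true := by decide +kernel
theorem h112 : ∀ i, i < T.N → Tab.relActOK T D chk112 i = true := by
  intro i hi
  rw [Tab.relActOK, ← act112_eq]
  exact (range_glue (range_of_allRange c112_0) (range_glue (range_of_allRange c112_1) (range_glue (range_of_allRange c112_2) (range_glue (range_of_allRange c112_3) (range_glue (range_of_allRange c112_4) (range_glue (range_of_allRange c112_5) (range_glue (range_of_allRange c112_6) (range_glue (range_of_allRange c112_7) (range_glue (range_of_allRange c112_8) (range_glue (range_of_allRange c112_9) (range_glue (range_of_allRange c112_10) (range_glue (range_of_allRange c112_11) (range_glue (range_of_allRange c112_12) (range_glue (range_of_allRange c112_13) (range_glue (range_of_allRange c112_14) (range_glue (range_of_allRange c112_15) (range_glue (range_of_allRange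 c112_16) (range_glue (range_of_allRange c112_17) (range_glue (range_of_allRange c112_18) (range_glue (range_of_allRange c112_19) (range_glue (range_of_allRange c112_20) (range_glue (range_of_allRange c112_21) (range_glue (range_of_allRange c112_22) (range_of_allRange c112_23)))))))))))))))))))))))) i (Nat.zero_le _) hi

def chk113 : List Nat := [0, 3, 1, 1, 1, 3, 0, 2, 0, 3, 1, 1, 1, 3, 0, 2, 0, 3, 1, 1, 1, 3, 0, 2, 0, 3, 1, 1, 1, 3, 0, 2]
noncomputable def act113 (i : Nat) : Nat := col1 (col2 (col0 (col0 (col0 (col2 (col1 (col3 (col1 (col2 (col0 (col0 (col0 (col2 (col1 (col3 (col1 (col2 (col0 (col0 (col0 (col2 (col1 (col3 (col1 (col2 (col0 (col0 (col0 (col2 (col1 (col3 (i))))))))))))))))))))))))))))))))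
theorem act113_eq (i : Nat) : act113 i = Tab.act T D chk113 i := rfl
theorem c113_0 : allRange (fun i => Nat.beq (act113 i) i) 0 1764 = true := by decide +kernel
theorem c113_1 : allRange (fun i => Nat.beq (act113 i) i) 1764 1764 = true := by decide +kernel
theorem c113_2 : allRange (fun i => Nat.beq (act113 i) i) 3528 1764 = true := by decide +kernel
theorem c113_3 : allRange (fun i => Nat.beq (act113 i) i) 5292 1764 = true := by decide +kernel
theorem c113_4 : allRange (fun i => Nat.beq (act113 i) i) 7056 1764 = true := by decide +kernel
theorem c113_5 : allRange (fun i => Nat.beq (act113 i) i) 8820 1764 = true := by decide +kernel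
theorem c113_6 : allRange (fun i => Nat.beq (act113 i) i) 10584 1764 = true := by decide +kernel
theorem c113_7 : allRange (fun i => Nat.beq (act113 i) i) 12348 1764 = true := by decide +kernel
theorem c113_8 : allRange (fun i => Nat.beq (act113 i) i) 14112 1764 = true := by decide +kernel
theorem c113_9 : allRange (fun i => Nat.beq (act113 i) i) 15876 1764 = true := by decide +kernel
theorem c113_10 : allRange (fun i => Nat.beq (act113 i) i) 17640 1764 = true := by decide +kernel
theorem c113_11 : allRange (fun i => Nat.beq (act113 i) i) 19404 1764 = true := by decide +kernel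
theorem c113_12 : allRange (fun i => Nat.beq (act113 i) i) 21168 1764 = true := by decide +kernel
theorem c113_13 : allRange (fun i => Nat.beq (act113 i) i) 22932 1764 = true := by decide +kernel
theorem c113_14 : allRange (fun i => Nat.beq (act113 i) i) 24696 1764 = true := by decide +kernel
theorem c113_15 : allRange (fun i => Nat.beq (act113 i) i) 26460 1764 = true := by decide +kernel
theorem c113_16 : allRange (fun i => Nat.beq (act113 i) i) 28224 1764 = true := by decide +kernel
theorem c113_17 : allRange (fun i => Nat.beq (act113 i) i) 29988 1764 = true := by decide +kernel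
theorem c113_18 : allRange (fun i => Nat.beq (act113 i) i) 31752 1764 = true := by decide +kernel
theorem c113_19 : allRange (fun i => Nat.beq (act113 i) i) 33516 1764 = true := by decide +kernel
theorem c113_20 : allRange (fun i => Nat.beq (act113 i) i) 35280 1764 = true := by decide +kernel
theorem c113_21 : allRange (fun i => Nat.beq (act113 i) i) 37044 1764 = true := by decide +kernel
theorem c113_22 : allRange (fun i => Nat.beq (act113 i) i) 38808 1764 = true := by decide +kernel
theorem c113_23 : allRange (fun i => Nat.beq (act113 i) i) 40572 1764 = true := by decide +kernel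
theorem c113_24 : allRange (fun i => Nat.beq (act113 i) i) 42336 1764 = true := by decide +kernel
theorem c113_25 : allRange (fun i => Nat.beq (act113 i) i) 44100 1764 = true := by decide +kernel
theorem c113_26 : allRange (fun i => Nat.beq (act113 i) i) 45864 1764 = true := by decide +kernel
theorem c113_27 : allRange (fun i => Nat.beq (act113 i) i) 47628 1764 = true := by decide +kernel
theorem c113_28 : allRange (fun i => Nat.beq (act113 i) i) 49392 1764 = true := by decide +kernel
theorem c113_29 : allRange (fun i => Nat.beq (act113 i) i) 51156 1764 = true := by decide +kernel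
theorem c113_30 : allRange (fun i => Nat.beq (act113 i) i) 52920 1764 = true := by decide +kernel
theorem c113_31 : allRange (fun i => Nat.beq (act113 i) i) 54684 1764 = true := by decide +kernel
theorem c113_32 : allRange (fun i => Nat.beq (act113 i) i) 56448 1764 = true := by decide +kernel
theorem c113_33 : allRange (fun i => Nat.beq (act113 i) i) 58212 1764 = true := by decide +kernel
theorem c113_34 : allRange (fun i => Nat.beq (act113 i) i) 59976 1764 = true := by decide +kernel
theorem c113_35 : allRange (fun i => Nat.beq (act113 i) i) 61740 1764 = true := by decide +kernel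
theorem c113_36 : allRange (fun i => Nat.beq (act113 i) i) 63504 1764 = true := by decide +kernel
theorem c113_37 : allRange (fun i => Nat.beq (act113 i) i) 65268 1557 = true := by decide +kernel
theorem h113 : ∀ i, i < T.N → Tab.relActOK T D chk113 i = true := by
  intro i hi
  rw [Tab.relActOK, ← act113_eq]
  exact (range_glue (range_of_allRange c113_0) (range_glue (range_of_allRange c113_1) (range_glue (range_of_allRange c113_2) (range_glue (range_of_allRange c113_3) (range_glue (range_of_allRange c113_4) (range_glue (range_of_allRange c113_5) (range_glue (range_of_allRange c113_6) (range_glue (range_of_allRange c113_7) (range_glue (range_of_allRange c113_8) (range_glue (range_of_allRange c113_9) (range_glue (range_of_allRange c113_10) (range_glue (range_of_allRange c113_11) (range_glue (range_of_allRange c113_12) (range_glue (range_of_allRange c113_13) (range_glue (range_of_allRange c113_14) (range_glue (range_of_allRange c113_15) (range_glue (range_of_allRange c113_16) (range_glue (range_of_allRange c113_17) (range_glue (range_of_allRange c113_18) (range_glue (range_of_allRange c113_19) (range_glue (range_of_allRange c113_20) (range_glue (range_of_allRange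 c113_21) (range_glue (range_of_allRange c113_22) (range_glue (range_of_allRange c113_23) (range_glue (range_of_allRange c113_24) (range_glue (range_of_allRange c113_25) (range_glue (range_of_allRange c113_26) (range_glue (range_of_allRange c113_27) (range_glue (range_of_allRange c113_28) (range_glue (range_of_allRange c113_29) (range_glue (range_of_allRange c113_30) (range_glue (range_of_allRange c113_31) (range_glue (range_of_allRange c113_32) (range_glue (range_of_allRange c113_33) (range_glue (range_of_allRange c113_34) (range_glue (range_of_allRange c113_35) (range_glue (range_of_allRange c113_36) (range_of_allRange c113_37)))))))))))))))))))))))))))))))))))))) i (Nat.zero_le _) hi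

end Cfsg.Agent.Lib.Helper4.TCD.SC3McLp3W
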