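import Cfsg.Agent.Lib.Helper4.TC7
import Cfsg.Agent.Lib.Helper4.TCP_SC3McLp5
import Cfsg.Agent.Lib.Helper4.TCD_SC3McLp5A_D0
import Cfsg.Agent.Lib.Helper4.TCD_SC3McLp5A_D1
import Cfsg.Agent.Lib.Helper4.TCD_SC3McLp5A_D2
import Cfsg.Agent.Lib.Helper4.TCD_SC3McLp5A_D3
import Cfsg.Agent.Lib.Helper4.TCD_SC3McLp5A_D4
import Cfsg.Agent.Lib.Helper4.TCD_SC3McLp5A_D5
import Cfsg.Agent.Lib.Helper4.TCD_SC3McLp5A_D6
import Cfsg.Agent.Lib.Helper4.TCD_SC3McLp5A_D7
import Cfsg.Agent.Lib.Helper4.TCD_SC3McLp5A_D8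
import Cfsg.Agent.Lib.Helper4.TCD_SC3McLp5A_D9
import Cfsg.Agent.Lib.Helper4.TCD_SC3McLp5A_D10
import Cfsg.Agent.Lib.Helper4.TCD_SC3McLp5A_D11
import Cfsg.Agent.Lib.Helper4.TCD_SC3McLp5A_D12
import Cfsg.Agent.Lib.Helper4.TCD_SC3McLp5A_D13
import Cfsg.Agent.Lib.Helper4.TCD_SC3McLp5A_D14
import Cfsg.Agent.Lib.Helper4.TCD_SC3McLp5A_D15
import Cfsg.Agent.Lib.Helper4.TCD_SC3McLp5A_D16
import Cfsg.Agent.Lib.Helper4.TCD_SC3McLp5A_D17
import Cfsg.Agent.Lib.Helper4.TCD_SC3McLp5A_D18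
import Cfsg.Agent.Lib.Helper4.TCD_SC3McLp5A_D19
import Cfsg.Agent.Lib.Helper4.TCD_SC3McLp5A_D20
import Cfsg.Agent.Lib.Helper4.TCD_SC3McLp5A_D21
import Cfsg.Agent.Lib.Helper4.TCD_SC3McLp5A_D22
import Cfsg.Agent.Lib.Helper4.TCD_SC3McLp5A_D23
import Cfsg.Agent.Lib.Helper4.TCD_SC3McLp5A_D24
import Cfsg.Agent.Lib.Helper4.TCD_SC3McLp5A_D25
import Cfsg.Agent.Lib.Helper4.TCD_SC3McLp5A_D26
import Cfsg.Agent.Lib.Helper4.TCD_SC3McLp5A_D27
import Cfsg.Agent.Lib.Helper4.TCD_SC3McLp5A_D28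
import Cfsg.Agent.Lib.Helper4.TCD_SC3McLp5A_D29
import Cfsg.Agent.Lib.Helper4.TCD_SC3McLp5A_D30
import Cfsg.Agent.Lib.Helper4.TCD_SC3McLp5A_D31
import Cfsg.Agent.Lib.Helper4.TCD_SC3McLp5A_D32
import Cfsg.Agent.Lib.Helper4.TCD_SC3McLp5A_D33
import Cfsg.Agent.Lib.Helper4.TCD_SC3McLp5A_D34
import Cfsg.Agent.Lib.Helper4.TCD_SC3McLp5A_D35

namespace Cfsg.Agent.Lib.Helper4.TCD.SC3McLp5A

open Cfsg.Agent.Lib.Helper4.TC

set_option maxRecDepth 100000

noncomputable def Atab_s_1_3 (c : Nat) : Nat := @Bool.rec (fun _ => Nat) (Atab_1) (Atab_2) (Nat.ble 2 c)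
noncomputable def Atab_s_0_3 (c : Nat) : Nat := @Bool.rec (fun _ => Nat) (Atab_0) (Atab_s_1_3 c) (Nat.ble 1 c)
noncomputable def Atab_s_3_5 (c : Nat) : Nat := @Bool.rec (fun _ => Nat) (Atab_3) (Atab_4) (Nat.ble 4 c)
noncomputable def Atab_s_5_7 (c : Nat) : Nat := @Bool.rec (fun _ => Nat) (Atab_5) (Atab_6) (Nat.ble 6 c)
noncomputable def Atab_s_3_7 (c : Nat) : Nat := @Bool.rec (fun _ => Nat) (Atab_s_3_5 c) (Atab_s_5_7 c) (Nat.ble 5 c)
noncomputable def Atab_s_0_7 (c : Nat) : Nat := @Bool.rec (fun _ => Nat) (Atab_s_0_3 c) (Atab_s_3_7 c) (Nat.ble 3 c)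
noncomputable def Atab_s_8_10 (c : Nat) : Nat := @Bool.rec (fun _ => Nat) (Atab_8) (Atab_9) (Nat.ble 9 c)
noncomputable def Atab_s_7_10 (c : Nat) : Nat := @Bool.rec (fun _ => Nat) (Atab_7) (Atab_s_8_10 c) (Nat.ble 8 c)
noncomputable def Atab_s_10_12 (c : Nat) : Nat := @Bool.rec (fun _ => Nat) (Atab_10) (Atab_11) (Nat.ble 11 c)
noncomputable def Atab_s_12_14 (c : Nat) : Nat := @Bool.rec (fun _ => Nat) (Atab_12) (Atab_13) (Nat.ble 13 c)
noncomputable def Atab_s_10_14 (c : Nat) : Nat := @Bool.rec (fun _ => Nat) (Atab_s_10_12 c) (Atab_s_12_14 c) (Nat.ble 12 c)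
noncomputable def Atab_s_7_14 (c : Nat) : Nat := @Bool.rec (fun _ => Nat) (Atab_s_7_10 c) (Atab_s_10_14 c) (Nat.ble 10 c)
noncomputable def Atab_s_0_14 (c : Nat) : Nat := @Bool.rec (fun _ => Nat) (Atab_s_0_7 c) (Atab_s_7_14 c) (Nat.ble 7 c)
noncomputable def Atab_s_15_17 (c : Nat) : Nat := @Bool.rec (fun _ => Nat) (Atab_15) (Atab_16) (Nat.ble 16 c)
noncomputable def Atab_s_14_17 (c : Nat) : Nat := @Bool.rec (fun _ => Nat) (Atab_14) (Atab_s_15_17 c) (Nat.ble 15 c)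
noncomputable def Atab_s_17_19 (c : Nat) : Nat := @Bool.rec (fun _ => Nat) (Atab_17) (Atab_18) (Nat.ble 18 c)
noncomputable def Atab_s_19_21 (c : Nat) : Nat := @Bool.rec (fun _ => Nat) (Atab_19) (Atab_20) (Nat.ble 20 c)
noncomputable def Atab_s_17_21 (c : Nat) : Nat := @Bool.rec (fun _ => Nat) (Atab_s_17_19 c) (Atab_s_19_21 c) (Nat.ble 19 c)
noncomputable def Atab_s_14_21 (c : Nat) : Nat := @Bool.rec (fun _ => Nat) (Atab_s_14_17 c) (Atab_s_17_21 c) (Nat.ble 17 c)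
noncomputable def Atab_s_22_24 (c : Nat) : Nat := @Bool.rec (fun _ => Nat) (Atab_22) (Atab_23) (Nat.ble 23 c)
noncomputable def Atab_s_21_24 (c : Nat) : Nat := @Bool.rec (fun _ => Nat) (Atab_21) (Atab_s_22_24 c) (Nat.ble 22 c)
noncomputable def Atab_s_24_26 (c : Nat) : Nat := @Bool.rec (fun _ => Nat) (Atab_24) (Atab_25) (Nat.ble 25 c)
noncomputable def Atab_s_26_28 (c : Nat) : Nat := @Bool.rec (fun _ => Nat) (Atab_26) (Atab_27) (Nat.ble 27 c)
noncomputable def Atab_s_24_28 (c : Nat) : Nat := @Bool.rec (fun _ => Nat) (Atab_s_24_26 c) (Atab_s_26_28 c) (Nat.ble 26 c)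
noncomputable def Atab_s_21_28 (c : Nat) : Nat := @Bool.rec (fun _ => Nat) (Atab_s_21_24 c) (Atab_s_24_28 c) (Nat.ble 24 c)
noncomputable def Atab_s_14_28 (c : Nat) : Nat := @Bool.rec (fun _ => Nat) (Atab_s_14_21 c) (Atab_s_21_28 c) (Nat.ble 21 c)
noncomputable def Atab_s_0_28 (c : Nat) : Nat := @Bool.rec (fun _ => Nat) (Atab_s_0_14 c) (Atab_s_14_28 c) (Nat.ble 14 c)
noncomputable def Atab_s_29_31 (c : Nat) : Nat := @Bool.rec (fun _ => Nat) (Atab_29) (Atab_30) (Nat.ble 30 c)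
noncomputable def Atab_s_28_31 (c : Nat) : Nat := @Bool.rec (fun _ => Nat) (Atab_28) (Atab_s_29_31 c) (Nat.ble 29 c)
noncomputable def Atab_s_31_33 (c : Nat) : Nat := @Bool.rec (fun _ => Nat) (Atab_31) (Atab_32) (Nat.ble 32 c)
noncomputable def Atab_s_33_35 (c : Nat) : Nat := @Bool.rec (fun _ => Nat) (Atab_33) (Atab_34) (Nat.ble 34 c)
noncomputable def Atab_s_31_35 (c : Nat) : Nat := @Bool.rec (fun _ => Nat) (Atab_s_31_33 c) (Atab_s_33_35 c) (Nat.ble 33 c)
noncomputable def Atab_s_28_35 (c : Nat) : Nat := @Bool.rec (fun _ => Nat) (Atab_s_28_31 c) (Atab_s_31_35 c) (Nat.ble 31 c)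
noncomputable def Atab_s_36_38 (c : Nat) : Nat := @Bool.rec (fun _ => Nat) (Atab_36) (Atab_37) (Nat.ble 37 c)
noncomputable def Atab_s_35_38 (c : Nat) : Nat := @Bool.rec (fun _ => Nat) (Atab_35) (Atab_s_36_38 c) (Nat.ble 36 c)
noncomputable def Atab_s_38_40 (c : Nat) : Nat := @Bool.rec (fun _ => Nat) (Atab_38) (Atab_39) (Nat.ble 39 c)
noncomputable def Atab_s_40_42 (c : Nat) : Nat := @Bool.rec (fun _ => Nat) (Atab_40) (Atab_41) (Nat.ble 41 c)
noncomputable def Atab_s_38_42 (c : Nat) : Nat := @Bool.rec (fun _ => Nat) (Atab_s_38_40 c) (Atab_s_40_42 c) (Nat.ble 40 c)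
noncomputable def Atab_s_35_42 (c : Nat) : Nat := @Bool.rec (fun _ => Nat) (Atab_s_35_38 c) (Atab_s_38_42 c) (Nat.ble 38 c)
noncomputable def Atab_s_28_42 (c : Nat) : Nat := @Bool.rec (fun _ => Nat) (Atab_s_28_35 c) (Atab_s_35_42 c) (Nat.ble 35 c)
noncomputable def Atab_s_43_45 (c : Nat) : Nat := @Bool.rec (fun _ => Nat) (Atab_43) (Atab_44) (Nat.ble 44 c)
noncomputable def Atab_s_42_45 (c : Nat) : Nat := @Bool.rec (fun _ => Nat) (Atab_42) (Atab_s_43_45 c) (Nat.ble 43 c)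
noncomputable def Atab_s_45_47 (c : Nat) : Nat := @Bool.rec (fun _ => Nat) (Atab_45) (Atab_46) (Nat.ble 46 c)
noncomputable def Atab_s_47_49 (c : Nat) : Nat := @Bool.rec (fun _ => Nat) (Atab_47) (Atab_48) (Nat.ble 48 c)
noncomputable def Atab_s_45_49 (c : Nat) : Nat := @Bool.rec (fun _ => Nat) (Atab_s_45_47 c) (Atab_s_47_49 c) (Nat.ble 47 c)
noncomputable def Atab_s_42_49 (c : Nat) : Nat := @Bool.rec (fun _ => Nat) (Atab_s_42_45 c) (Atab_s_45_49 c) (Nat.ble 45 c)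
noncomputable def Atab_s_50_52 (c : Nat) : Nat := @Bool.rec (fun _ => Nat) (Atab_50) (Atab_51) (Nat.ble 51 c)
noncomputable def Atab_s_49_52 (c : Nat) : Nat := @Bool.rec (fun _ => Nat) (Atab_49) (Atab_s_50_52 c) (Nat.ble 50 c)
noncomputable def Atab_s_52_54 (c : Nat) : Nat := @Bool.rec (fun _ => Nat) (Atab_52) (Atab_53) (Nat.ble 53 c)
noncomputable def Atab_s_54_56 (c : Nat) : Nat := @Bool.rec (fun _ => Nat) (Atab_54) (Atab_55) (Nat.ble 55 c)
noncomputable def Atab_s_52_56 (c : Nat) : Nat := @Bool.rec (fun _ => Nat) (Atab_s_52_54 c) (Atab_s_54_56 c) (Nat.ble 54 c)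
noncomputable def Atab_s_49_56 (c : Nat) : Nat := @Bool.rec (fun _ => Nat) (Atab_s_49_52 c) (Atab_s_52_56 c) (Nat.ble 52 c)
noncomputable def Atab_s_42_56 (c : Nat) : Nat := @Bool.rec (fun _ => Nat) (Atab_s_42_49 c) (Atab_s_49_56 c) (Nat.ble 49 c)
noncomputable def Atab_s_28_56 (c : Nat) : Nat := @Bool.rec (fun _ => Nat) (Atab_s_28_42 c) (Atab_s_42_56 c) (Nat.ble 42 c)
noncomputable def Atab_s_0_56 (c : Nat) : Nat := @Bool.rec (fun _ => Nat) (Atab_s_0_28 c) (Atab_s_28_56 c) (Nat.ble 28 c)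
noncomputable def Atab_s_57_59 (c : Nat) : Nat := @Bool.rec (fun _ => Nat) (Atab_57) (Atab_58) (Nat.ble 58 c)
noncomputable def Atab_s_56_59 (c : Nat) : Nat := @Bool.rec (fun _ => Nat) (Atab_56) (Atab_s_57_59 c) (Nat.ble 57 c)
noncomputable def Atab_s_59_61 (c : Nat) : Nat := @Bool.rec (fun _ => Nat) (Atab_59) (Atab_60) (Nat.ble 60 c)
noncomputable def Atab_s_61_63 (c : Nat) : Nat := @Bool.rec (fun _ => Nat) (Atab_61) (Atab_62) (Nat.ble 62 c)
noncomputable def Atab_s_59_63 (c : Nat) : Nat := @Bool.rec (fun _ => Nat) (Atab_s_59_61 c) (Atab_s_61_63 c) (Nat.ble 61 c)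
noncomputable def Atab_s_56_63 (c : Nat) : Nat := @Bool.rec (fun _ => Nat) (Atab_s_56_59 c) (Atab_s_59_63 c) (Nat.ble 59 c)
noncomputable def Atab_s_64_66 (c : Nat) : Nat := @Bool.rec (fun _ => Nat) (Atab_64) (Atab_65) (Nat.ble 65 c)
noncomputable def Atab_s_63_66 (c : Nat) : Nat := @Bool.rec (fun _ => Nat) (Atab_63) (Atab_s_64_66 c) (Nat.ble 64 c)
noncomputable def Atab_s_66_68 (c : Nat) : Nat := @Bool.rec (fun _ => Nat) (Atab_66) (Atab_67) (Nat.ble 67 c)
noncomputable def Atab_s_68_70 (c : Nat) : Nat := @Bool.rec (fun _ => Nat) (Atab_68) (Atab_69) (Nat.ble 69 c)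
noncomputable def Atab_s_66_70 (c : Nat) : Nat := @Bool.rec (fun _ => Nat) (Atab_s_66_68 c) (Atab_s_68_70 c) (Nat.ble 68 c)
noncomputable def Atab_s_63_70 (c : Nat) : Nat := @Bool.rec (fun _ => Nat) (Atab_s_63_66 c) (Atab_s_66_70 c) (Nat.ble 66 c)
noncomputable def Atab_s_56_70 (c : Nat) : Nat := @Bool.rec (fun _ => Nat) (Atab_s_56_63 c) (Atab_s_63_70 c) (Nat.ble 63 c)
noncomputable def Atab_s_71_73 (c : Nat) : Nat := @Bool.rec (fun _ => Nat) (Atab_71) (Atab_72) (Nat.ble 72 c)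
noncomputable def Atab_s_70_73 (c : Nat) : Nat := @Bool.rec (fun _ => Nat) (Atab_70) (Atab_s_71_73 c) (Nat.ble 71 c)
noncomputable def Atab_s_73_75 (c : Nat) : Nat := @Bool.rec (fun _ => Nat) (Atab_73) (Atab_74) (Nat.ble 74 c)
noncomputable def Atab_s_75_77 (c : Nat) : Nat := @Bool.rec (fun _ => Nat) (Atab_75) (Atab_76) (Nat.ble 76 c)
noncomputable def Atab_s_73_77 (c : Nat) : Nat := @Bool.rec (fun _ => Nat) (Atab_s_73_75 c) (Atab_s_75_77 c) (Nat.ble 75 c)
noncomputable def Atab_s_70_77 (c : Nat) : Nat := @Bool.rec (fun _ => Nat) (Atab_s_70_73 c) (Atab_s_73_77 c) (Nat.ble 73 c)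
noncomputable def Atab_s_78_80 (c : Nat) : Nat := @Bool.rec (fun _ => Nat) (Atab_78) (Atab_79) (Nat.ble 79 c)
noncomputable def Atab_s_77_80 (c : Nat) : Nat := @Bool.rec (fun _ => Nat) (Atab_77) (Atab_s_78_80 c) (Nat.ble 78 c)
noncomputable def Atab_s_80_82 (c : Nat) : Nat := @Bool.rec (fun _ => Nat) (Atab_80) (Atab_81) (Nat.ble 81 c)
noncomputable def Atab_s_82_84 (c : Nat) : Nat := @Bool.rec (fun _ => Nat) (Atab_82) (Atab_83) (Nat.ble 83 c)
noncomputable def Atab_s_80_84 (c : Nat) : Nat := @Bool.rec (fun _ => Nat) (Atab_s_80_82 c) (Atab_s_82_84 c) (Nat.ble 82 c)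
noncomputable def Atab_s_77_84 (c : Nat) : Nat := @Bool.rec (fun _ => Nat) (Atab_s_77_80 c) (Atab_s_80_84 c) (Nat.ble 80 c)
noncomputable def Atab_s_70_84 (c : Nat) : Nat := @Bool.rec (fun _ => Nat) (Atab_s_70_77 c) (Atab_s_77_84 c) (Nat.ble 77 c)
noncomputable def Atab_s_56_84 (c : Nat) : Nat := @Bool.rec (fun _ => Nat) (Atab_s_56_70 c) (Atab_s_70_84 c) (Nat.ble 70 c)
noncomputable def Atab_s_85_87 (c : Nat) : Nat := @Bool.rec (fun _ => Nat) (Atab_85) (Atab_86) (Nat.ble 86 c)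
noncomputable def Atab_s_84_87 (c : Nat) : Nat := @Bool.rec (fun _ => Nat) (Atab_84) (Atab_s_85_87 c) (Nat.ble 85 c)
noncomputable def Atab_s_87_89 (c : Nat) : Nat := @Bool.rec (fun _ => Nat) (Atab_87) (Atab_88) (Nat.ble 88 c)
noncomputable def Atab_s_89_91 (c : Nat) : Nat := @Bool.rec (fun _ => Nat) (Atab_89) (Atab_90) (Nat.ble 90 c)
noncomputable def Atab_s_87_91 (c : Nat) : Nat := @Bool.rec (fun _ => Nat) (Atab_s_87_89 c) (Atab_s_89_91 c) (Nat.ble 89 c)
noncomputable def Atab_s_84_91 (c : Nat) : Nat := @Bool.rec (fun _ => Nat) (Atab_s_84_87 c) (Atab_s_87_91 c) (Nat.ble 87 c)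
noncomputable def Atab_s_92_94 (c : Nat) : Nat := @Bool.rec (fun _ => Nat) (Atab_92) (Atab_93) (Nat.ble 93 c)
noncomputable def Atab_s_91_94 (c : Nat) : Nat := @Bool.rec (fun _ => Nat) (Atab_91) (Atab_s_92_94 c) (Nat.ble 92 c)
noncomputable def Atab_s_94_96 (c : Nat) : Nat := @Bool.rec (fun _ => Nat) (Atab_94) (Atab_95) (Nat.ble 95 c)
noncomputable def Atab_s_96_98 (c : Nat) : Nat := @Bool.rec (fun _ => Nat) (Atab_96) (Atab_97) (Nat.ble 97 c)
noncomputable def Atab_s_94_98 (c : Nat) : Nat := @Bool.rec (fun _ => Nat) (Atab_s_94_96 c) (Atab_s_96_98 c) (Nat.ble 96 c)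
noncomputable def Atab_s_91_98 (c : Nat) : Nat := @Bool.rec (fun _ => Nat) (Atab_s_91_94 c) (Atab_s_94_98 c) (Nat.ble 94 c)
noncomputable def Atab_s_84_98 (c : Nat) : Nat := @Bool.rec (fun _ => Nat) (Atab_s_84_91 c) (Atab_s_91_98 c) (Nat.ble 91 c)
noncomputable def Atab_s_99_101 (c : Nat) : Nat := @Bool.rec (fun _ => Nat) (Atab_99) (Atab_100) (Nat.ble 100 c)
noncomputable def Atab_s_98_101 (c : Nat) : Nat := @Bool.rec (fun _ => Nat) (Atab_98) (Atab_s_99_101 c) (Nat.ble 99 c)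
noncomputable def Atab_s_101_103 (c : Nat) : Nat := @Bool.rec (fun _ => Nat) (Atab_101) (Atab_102) (Nat.ble 102 c)
noncomputable def Atab_s_103_105 (c : Nat) : Nat := @Bool.rec (fun _ => Nat) (Atab_103) (Atab_104) (Nat.ble 104 c)
noncomputable def Atab_s_101_105 (c : Nat) : Nat := @Bool.rec (fun _ => Nat) (Atab_s_101_103 c) (Atab_s_103_105 c) (Nat.ble 103 c)
noncomputable def Atab_s_98_105 (c : Nat) : Nat := @Bool.rec (fun _ => Nat) (Atab_s_98_101 c) (Atab_s_101_105 c) (Nat.ble 101 c)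
noncomputable def Atab_s_106_108 (c : Nat) : Nat := @Bool.rec (fun _ => Nat) (Atab_106) (Atab_107) (Nat.ble 107 c)
noncomputable def Atab_s_105_108 (c : Nat) : Nat := @Bool.rec (fun _ => Nat) (Atab_105) (Atab_s_106_108 c) (Nat.ble 106 c)
noncomputable def Atab_s_108_110 (c : Nat) : Nat := @Bool.rec (fun _ => Nat) (Atab_108) (Atab_109) (Nat.ble 109 c)
noncomputable def Atab_s_110_112 (c : Nat) : Nat := @Bool.rec (fun _ => Nat) (Atab_110) (Atab_111) (Nat.ble 111 c)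
noncomputable def Atab_s_108_112 (c : Nat) : Nat := @Bool.rec (fun _ => Nat) (Atab_s_108_110 c) (Atab_s_110_112 c) (Nat.ble 110 c)
noncomputable def Atab_s_105_112 (c : Nat) : Nat := @Bool.rec (fun _ => Nat) (Atab_s_105_108 c) (Atab_s_108_112 c) (Nat.ble 108 c)
noncomputable def Atab_s_98_112 (c : Nat) : Nat := @Bool.rec (fun _ => Nat) (Atab_s_98_105 c) (Atab_s_105_112 c) (Nat.ble 105 c)
noncomputable def Atab_s_84_112 (c : Nat) : Nat := @Bool.rec (fun _ => Nat) (Atab_s_84_98 c) (Atab_s_98_112 c) (Nat.ble 98 c)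
noncomputable def Atab_s_56_112 (c : Nat) : Nat := @Bool.rec (fun _ => Nat) (Atab_s_56_84 c) (Atab_s_84_112 c) (Nat.ble 84 c)
noncomputable def Atab_s_0_112 (c : Nat) : Nat := @Bool.rec (fun _ => Nat) (Atab_s_0_56 c) (Atab_s_56_112 c) (Nat.ble 56 c)
noncomputable def Atab_s_113_115 (c : Nat) : Nat := @Bool.rec (fun _ => Nat) (Atab_113) (Atab_114) (Nat.ble 114 c)
noncomputable def Atab_s_112_115 (c : Nat) : Nat := @Bool.rec (fun _ => Nat) (Atab_112) (Atab_s_113_115 c) (Nat.ble 113 c)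
noncomputable def Atab_s_115_117 (c : Nat) : Nat := @Bool.rec (fun _ => Nat) (Atab_115) (Atab_116) (Nat.ble 116 c)
noncomputable def Atab_s_117_119 (c : Nat) : Nat := @Bool.rec (fun _ => Nat) (Atab_117) (Atab_118) (Nat.ble 118 c)
noncomputable def Atab_s_115_119 (c : Nat) : Nat := @Bool.rec (fun _ => Nat) (Atab_s_115_117 c) (Atab_s_117_119 c) (Nat.ble 117 c)
noncomputable def Atab_s_112_119 (c : Nat) : Nat := @Bool.rec (fun _ => Nat) (Atab_s_112_115 c) (Atab_s_115_119 c) (Nat.ble 115 c)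
noncomputable def Atab_s_120_122 (c : Nat) : Nat := @Bool.rec (fun _ => Nat) (Atab_120) (Atab_121) (Nat.ble 121 c)
noncomputable def Atab_s_119_122 (c : Nat) : Nat := @Bool.rec (fun _ => Nat) (Atab_119) (Atab_s_120_122 c) (Nat.ble 120 c)
noncomputable def Atab_s_122_124 (c : Nat) : Nat := @Bool.rec (fun _ => Nat) (Atab_122) (Atab_123) (Nat.ble 123 c)
noncomputable def Atab_s_124_126 (c : Nat) : Nat := @Bool.rec (fun _ => Nat) (Atab_124) (Atab_125) (Nat.ble 125 c)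
noncomputable def Atab_s_122_126 (c : Nat) : Nat := @Bool.rec (fun _ => Nat) (Atab_s_122_124 c) (Atab_s_124_126 c) (Nat.ble 124 c)
noncomputable def Atab_s_119_126 (c : Nat) : Nat := @Bool.rec (fun _ => Nat) (Atab_s_119_122 c) (Atab_s_122_126 c) (Nat.ble 122 c)
noncomputable def Atab_s_112_126 (c : Nat) : Nat := @Bool.rec (fun _ => Nat) (Atab_s_112_119 c) (Atab_s_119_126 c) (Nat.ble 119 c)
noncomputable def Atab_s_127_129 (c : Nat) : Nat := @Bool.rec (fun _ => Nat) (Atab_127) (Atab_128) (Nat.ble 128 c)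
noncomputable def Atab_s_126_129 (c : Nat) : Nat := @Bool.rec (fun _ => Nat) (Atab_126) (Atab_s_127_129 c) (Nat.ble 127 c)
noncomputable def Atab_s_129_131 (c : Nat) : Nat := @Bool.rec (fun _ => Nat) (Atab_129) (Atab_130) (Nat.ble 130 c)
noncomputable def Atab_s_131_133 (c : Nat) : Nat := @Bool.rec (fun _ => Nat) (Atab_131) (Atab_132) (Nat.ble 132 c)
noncomputable def Atab_s_129_133 (c : Nat) : Nat := @Bool.rec (fun _ => Nat) (Atab_s_129_131 c) (Atab_s_131_133 c) (Nat.ble 131 c)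
noncomputable def Atab_s_126_133 (c : Nat) : Nat := @Bool.rec (fun _ => Nat) (Atab_s_126_129 c) (Atab_s_129_133 c) (Nat.ble 129 c)
noncomputable def Atab_s_134_136 (c : Nat) : Nat := @Bool.rec (fun _ => Nat) (Atab_134) (Atab_135) (Nat.ble 135 c)
noncomputable def Atab_s_133_136 (c : Nat) : Nat := @Bool.rec (fun _ => Nat) (Atab_133) (Atab_s_134_136 c) (Nat.ble 134 c)
noncomputable def Atab_s_136_138 (c : Nat) : Nat := @Bool.rec (fun _ => Nat) (Atab_136) (Atab_137) (Nat.ble 137 c)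
noncomputable def Atab_s_138_140 (c : Nat) : Nat := @Bool.rec (fun _ => Nat) (Atab_138) (Atab_139) (Nat.ble 139 c)
noncomputable def Atab_s_136_140 (c : Nat) : Nat := @Bool.rec (fun _ => Nat) (Atab_s_136_138 c) (Atab_s_138_140 c) (Nat.ble 138 c)
noncomputable def Atab_s_133_140 (c : Nat) : Nat := @Bool.rec (fun _ => Nat) (Atab_s_133_136 c) (Atab_s_136_140 c) (Nat.ble 136 c)
noncomputable def Atab_s_126_140 (c : Nat) : Nat := @Bool.rec (fun _ => Nat) (Atab_s_126_133 c) (Atab_s_133_140 c) (Nat.ble 133 c)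
noncomputable def Atab_s_112_140 (c : Nat) : Nat := @Bool.rec (fun _ => Nat) (Atab_s_112_126 c) (Atab_s_126_140 c) (Nat.ble 126 c)
noncomputable def Atab_s_141_143 (c : Nat) : Nat := @Bool.rec (fun _ => Nat) (Atab_141) (Atab_142) (Nat.ble 142 c)
noncomputable def Atab_s_140_143 (c : Nat) : Nat := @Bool.rec (fun _ => Nat) (Atab_140) (Atab_s_141_143 c) (Nat.ble 141 c)
noncomputable def Atab_s_143_145 (c : Nat) : Nat := @Bool.rec (fun _ => Nat) (Atab_143) (Atab_144) (Nat.ble 144 c)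
noncomputable def Atab_s_145_147 (c : Nat) : Nat := @Bool.rec (fun _ => Nat) (Atab_145) (Atab_146) (Nat.ble 146 c)
noncomputable def Atab_s_143_147 (c : Nat) : Nat := @Bool.rec (fun _ => Nat) (Atab_s_143_145 c) (Atab_s_145_147 c) (Nat.ble 145 c)
noncomputable def Atab_s_140_147 (c : Nat) : Nat := @Bool.rec (fun _ => Nat) (Atab_s_140_143 c) (Atab_s_143_147 c) (Nat.ble 143 c)
noncomputable def Atab_s_148_150 (c : Nat) : Nat := @Bool.rec (fun _ => Nat) (Atab_148) (Atab_149) (Nat.ble 149 c)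
noncomputable def Atab_s_147_150 (c : Nat) : Nat := @Bool.rec (fun _ => Nat) (Atab_147) (Atab_s_148_150 c) (Nat.ble 148 c)
noncomputable def Atab_s_150_152 (c : Nat) : Nat := @Bool.rec (fun _ => Nat) (Atab_150) (Atab_151) (Nat.ble 151 c)
noncomputable def Atab_s_152_154 (c : Nat) : Nat := @Bool.rec (fun _ => Nat) (Atab_152) (Atab_153) (Nat.ble 153 c)
noncomputable def Atab_s_150_154 (c : Nat) : Nat := @Bool.rec (fun _ => Nat) (Atab_s_150_152 c) (Atab_s_152_154 c) (Nat.ble 152 c)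
noncomputable def Atab_s_147_154 (c : Nat) : Nat := @Bool.rec (fun _ => Nat) (Atab_s_147_150 c) (Atab_s_150_154 c) (Nat.ble 150 c)
noncomputable def Atab_s_140_154 (c : Nat) : Nat := @Bool.rec (fun _ => Nat) (Atab_s_140_147 c) (Atab_s_147_154 c) (Nat.ble 147 c)
noncomputable def Atab_s_155_157 (c : Nat) : Nat := @Bool.rec (fun _ => Nat) (Atab_155) (Atab_156) (Nat.ble 156 c)
noncomputable def Atab_s_154_157 (c : Nat) : Nat := @Bool.rec (fun _ => Nat) (Atab_154) (Atab_s_155_157 c) (Nat.ble 155 c)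
noncomputable def Atab_s_157_159 (c : Nat) : Nat := @Bool.rec (fun _ => Nat) (Atab_157) (Atab_158) (Nat.ble 158 c)
noncomputable def Atab_s_159_161 (c : Nat) : Nat := @Bool.rec (fun _ => Nat) (Atab_159) (Atab_160) (Nat.ble 160 c)
noncomputable def Atab_s_157_161 (c : Nat) : Nat := @Bool.rec (fun _ => Nat) (Atab_s_157_159 c) (Atab_s_159_161 c) (Nat.ble 159 c)
noncomputable def Atab_s_154_161 (c : Nat) : Nat := @Bool.rec (fun _ => Nat) (Atab_s_154_157 c) (Atab_s_157_161 c) (Nat.ble 157 c)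
noncomputable def Atab_s_162_164 (c : Nat) : Nat := @Bool.rec (fun _ => Nat) (Atab_162) (Atab_163) (Nat.ble 163 c)
noncomputable def Atab_s_161_164 (c : Nat) : Nat := @Bool.rec (fun _ => Nat) (Atab_161) (Atab_s_162_164 c) (Nat.ble 162 c)
noncomputable def Atab_s_164_166 (c : Nat) : Nat := @Bool.rec (fun _ => Nat) (Atab_164) (Atab_165) (Nat.ble 165 c)
noncomputable def Atab_s_166_168 (c : Nat) : Nat := @Bool.rec (fun _ => Nat) (Atab_166) (Atab_167) (Nat.ble 167 c)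
noncomputable def Atab_s_164_168 (c : Nat) : Nat := @Bool.rec (fun _ => Nat) (Atab_s_164_166 c) (Atab_s_166_168 c) (Nat.ble 166 c)
noncomputable def Atab_s_161_168 (c : Nat) : Nat := @Bool.rec (fun _ => Nat) (Atab_s_161_164 c) (Atab_s_164_168 c) (Nat.ble 164 c)
noncomputable def Atab_s_154_168 (c : Nat) : Nat := @Bool.rec (fun _ => Nat) (Atab_s_154_161 c) (Atab_s_161_168 c) (Nat.ble 161 c)
noncomputable def Atab_s_140_168 (c : Nat) : Nat := @Bool.rec (fun _ => Nat) (Atab_s_140_154 c) (Atab_s_154_168 c) (Nat.ble 154 c)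
noncomputable def Atab_s_112_168 (c : Nat) : Nat := @Bool.rec (fun _ => Nat) (Atab_s_112_140 c) (Atab_s_140_168 c) (Nat.ble 140 c)
noncomputable def Atab_s_169_171 (c : Nat) : Nat := @Bool.rec (fun _ => Nat) (Atab_169) (Atab_170) (Nat.ble 170 c)
noncomputable def Atab_s_168_171 (c : Nat) : Nat := @Bool.rec (fun _ => Nat) (Atab_168) (Atab_s_169_171 c) (Nat.ble 169 c)
noncomputable def Atab_s_171_173 (c : Nat) : Nat := @Bool.rec (fun _ => Nat) (Atab_171) (Atab_172) (Nat.ble 172 c)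
noncomputable def Atab_s_173_175 (c : Nat) : Nat := @Bool.rec (fun _ => Nat) (Atab_173) (Atab_174) (Nat.ble 174 c)
noncomputable def Atab_s_171_175 (c : Nat) : Nat := @Bool.rec (fun _ => Nat) (Atab_s_171_173 c) (Atab_s_173_175 c) (Nat.ble 173 c)
noncomputable def Atab_s_168_175 (c : Nat) : Nat := @Bool.rec (fun _ => Nat) (Atab_s_168_171 c) (Atab_s_171_175 c) (Nat.ble 171 c)
noncomputable def Atab_s_176_178 (c : Nat) : Nat := @Bool.rec (fun _ => Nat) (Atab_176) (Atab_177) (Nat.ble 177 c)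
noncomputable def Atab_s_175_178 (c : Nat) : Nat := @Bool.rec (fun _ => Nat) (Atab_175) (Atab_s_176_178 c) (Nat.ble 176 c)
noncomputable def Atab_s_178_180 (c : Nat) : Nat := @Bool.rec (fun _ => Nat) (Atab_178) (Atab_179) (Nat.ble 179 c)
noncomputable def Atab_s_180_182 (c : Nat) : Nat := @Bool.rec (fun _ => Nat) (Atab_180) (Atab_181) (Nat.ble 181 c)
noncomputable def Atab_s_178_182 (c : Nat) : Nat := @Bool.rec (fun _ => Nat) (Atab_s_178_180 c) (Atab_s_180_182 c) (Nat.ble 180 c)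
noncomputable def Atab_s_175_182 (c : Nat) : Nat := @Bool.rec (fun _ => Nat) (Atab_s_175_178 c) (Atab_s_178_182 c) (Nat.ble 178 c)
noncomputable def Atab_s_168_182 (c : Nat) : Nat := @Bool.rec (fun _ => Nat) (Atab_s_168_175 c) (Atab_s_175_182 c) (Nat.ble 175 c)
noncomputable def Atab_s_183_185 (c : Nat) : Nat := @Bool.rec (fun _ => Nat) (Atab_183) (Atab_184) (Nat.ble 184 c)
noncomputable def Atab_s_182_185 (c : Nat) : Nat := @Bool.rec (fun _ => Nat) (Atab_182) (Atab_s_183_185 c) (Nat.ble 183 c)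
noncomputable def Atab_s_185_187 (c : Nat) : Nat := @Bool.rec (fun _ => Nat) (Atab_185) (Atab_186) (Nat.ble 186 c)
noncomputable def Atab_s_187_189 (c : Nat) : Nat := @Bool.rec (fun _ => Nat) (Atab_187) (Atab_188) (Nat.ble 188 c)
noncomputable def Atab_s_185_189 (c : Nat) : Nat := @Bool.rec (fun _ => Nat) (Atab_s_185_187 c) (Atab_s_187_189 c) (Nat.ble 187 c)
noncomputable def Atab_s_182_189 (c : Nat) : Nat := @Bool.rec (fun _ => Nat) (Atab_s_182_185 c) (Atab_s_185_189 c) (Nat.ble 185 c)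
noncomputable def Atab_s_190_192 (c : Nat) : Nat := @Bool.rec (fun _ => Nat) (Atab_190) (Atab_191) (Nat.ble 191 c)
noncomputable def Atab_s_189_192 (c : Nat) : Nat := @Bool.rec (fun _ => Nat) (Atab_189) (Atab_s_190_192 c) (Nat.ble 190 c)
noncomputable def Atab_s_192_194 (c : Nat) : Nat := @Bool.rec (fun _ => Nat) (Atab_192) (Atab_193) (Nat.ble 193 c)
noncomputable def Atab_s_194_196 (c : Nat) : Nat := @Bool.rec (fun _ => Nat) (Atab_194) (Atab_195) (Nat.ble 195 c)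
noncomputable def Atab_s_192_196 (c : Nat) : Nat := @Bool.rec (fun _ => Nat) (Atab_s_192_194 c) (Atab_s_194_196 c) (Nat.ble 194 c)
noncomputable def Atab_s_189_196 (c : Nat) : Nat := @Bool.rec (fun _ => Nat) (Atab_s_189_192 c) (Atab_s_192_196 c) (Nat.ble 192 c)
noncomputable def Atab_s_182_196 (c : Nat) : Nat := @Bool.rec (fun _ => Nat) (Atab_s_182_189 c) (Atab_s_189_196 c) (Nat.ble 189 c)
noncomputable def Atab_s_168_196 (c : Nat) : Nat := @Bool.rec (fun _ => Nat) (Atab_s_168_182 c) (Atab_s_182_196 c) (Nat.ble 182 c)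
noncomputable def Atab_s_197_199 (c : Nat) : Nat := @Bool.rec (fun _ => Nat) (Atab_197) (Atab_198) (Nat.ble 198 c)
noncomputable def Atab_s_196_199 (c : Nat) : Nat := @Bool.rec (fun _ => Nat) (Atab_196) (Atab_s_197_199 c) (Nat.ble 197 c)
noncomputable def Atab_s_199_201 (c : Nat) : Nat := @Bool.rec (fun _ => Nat) (Atab_199) (Atab_200) (Nat.ble 200 c)
noncomputable def Atab_s_201_203 (c : Nat) : Nat := @Bool.rec (fun _ => Nat) (Atab_201) (Atab_202) (Nat.ble 202 c)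
noncomputable def Atab_s_199_203 (c : Nat) : Nat := @Bool.rec (fun _ => Nat) (Atab_s_199_201 c) (Atab_s_201_203 c) (Nat.ble 201 c)
noncomputable def Atab_s_196_203 (c : Nat) : Nat := @Bool.rec (fun _ => Nat) (Atab_s_196_199 c) (Atab_s_199_203 c) (Nat.ble 199 c)
noncomputable def Atab_s_204_206 (c : Nat) : Nat := @Bool.rec (fun _ => Nat) (Atab_204) (Atab_205) (Nat.ble 205 c)
noncomputable def Atab_s_203_206 (c : Nat) : Nat := @Bool.rec (fun _ => Nat) (Atab_203) (Atab_s_204_206 c) (Nat.ble 204 c)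
noncomputable def Atab_s_206_208 (c : Nat) : Nat := @Bool.rec (fun _ => Nat) (Atab_206) (Atab_207) (Nat.ble 207 c)
noncomputable def Atab_s_208_210 (c : Nat) : Nat := @Bool.rec (fun _ => Nat) (Atab_208) (Atab_209) (Nat.ble 209 c)
noncomputable def Atab_s_206_210 (c : Nat) : Nat := @Bool.rec (fun _ => Nat) (Atab_s_206_208 c) (Atab_s_208_210 c) (Nat.ble 208 c)
noncomputable def Atab_s_203_210 (c : Nat) : Nat := @Bool.rec (fun _ => Nat) (Atab_s_203_206 c) (Atab_s_206_210 c) (Nat.ble 206 c)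
noncomputable def Atab_s_196_210 (c : Nat) : Nat := @Bool.rec (fun _ => Nat) (Atab_s_196_203 c) (Atab_s_203_210 c) (Nat.ble 203 c)
noncomputable def Atab_s_211_213 (c : Nat) : Nat := @Bool.rec (fun _ => Nat) (Atab_211) (Atab_212) (Nat.ble 212 c)
noncomputable def Atab_s_210_213 (c : Nat) : Nat := @Bool.rec (fun _ => Nat) (Atab_210) (Atab_s_211_213 c) (Nat.ble 211 c)
noncomputable def Atab_s_213_215 (c : Nat) : Nat := @Bool.rec (fun _ => Nat) (Atab_213) (Atab_214) (Nat.ble 214 c)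
noncomputable def Atab_s_215_217 (c : Nat) : Nat := @Bool.rec (fun _ => Nat) (Atab_215) (Atab_216) (Nat.ble 216 c)
noncomputable def Atab_s_213_217 (c : Nat) : Nat := @Bool.rec (fun _ => Nat) (Atab_s_213_215 c) (Atab_s_215_217 c) (Nat.ble 215 c)
noncomputable def Atab_s_210_217 (c : Nat) : Nat := @Bool.rec (fun _ => Nat) (Atab_s_210_213 c) (Atab_s_213_217 c) (Nat.ble 213 c)
noncomputable def Atab_s_218_220 (c : Nat) : Nat := @Bool.rec (fun _ => Nat) (Atab_218) (Atab_219) (Nat.ble 219 c)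
noncomputable def Atab_s_217_220 (c : Nat) : Nat := @Bool.rec (fun _ => Nat) (Atab_217) (Atab_s_218_220 c) (Nat.ble 218 c)
noncomputable def Atab_s_220_222 (c : Nat) : Nat := @Bool.rec (fun _ => Nat) (Atab_220) (Atab_221) (Nat.ble 221 c)
noncomputable def Atab_s_222_224 (c : Nat) : Nat := @Bool.rec (fun _ => Nat) (Atab_222) (Atab_223) (Nat.ble 223 c)
noncomputable def Atab_s_220_224 (c : Nat) : Nat := @Bool.rec (fun _ => Nat) (Atab_s_220_222 c) (Atab_s_222_224 c) (Nat.ble 222 c)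
noncomputable def Atab_s_217_224 (c : Nat) : Nat := @Bool.rec (fun _ => Nat) (Atab_s_217_220 c) (Atab_s_220_224 c) (Nat.ble 220 c)
noncomputable def Atab_s_210_224 (c : Nat) : Nat := @Bool.rec (fun _ => Nat) (Atab_s_210_217 c) (Atab_s_217_224 c) (Nat.ble 217 c)
noncomputable def Atab_s_196_224 (c : Nat) : Nat := @Bool.rec (fun _ => Nat) (Atab_s_196_210 c) (Atab_s_210_224 c) (Nat.ble 210 c)
noncomputable def Atab_s_168_224 (c : Nat) : Nat := @Bool.rec (fun _ => Nat) (Atab_s_168_196 c) (Atab_s_196_224 c) (Nat.ble 196 c)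
noncomputable def Atab_s_112_224 (c : Nat) : Nat := @Bool.rec (fun _ => Nat) (Atab_s_112_168 c) (Atab_s_168_224 c) (Nat.ble 168 c)
noncomputable def Atab_s_0_224 (c : Nat) : Nat := @Bool.rec (fun _ => Nat) (Atab_s_0_112 c) (Atab_s_112_224 c) (Nat.ble 112 c)
noncomputable def Atab_s_225_227 (c : Nat) : Nat := @Bool.rec (fun _ => Nat) (Atab_225) (Atab_226) (Nat.ble 226 c)
noncomputable def Atab_s_224_227 (c : Nat) : Nat := @Bool.rec (fun _ => Nat) (Atab_224) (Atab_s_225_227 c) (Nat.ble 225 c)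
noncomputable def Atab_s_227_229 (c : Nat) : Nat := @Bool.rec (fun _ => Nat) (Atab_227) (Atab_228) (Nat.ble 228 c)
noncomputable def Atab_s_229_231 (c : Nat) : Nat := @Bool.rec (fun _ => Nat) (Atab_229) (Atab_230) (Nat.ble 230 c)
noncomputable def Atab_s_227_231 (c : Nat) : Nat := @Bool.rec (fun _ => Nat) (Atab_s_227_229 c) (Atab_s_229_231 c) (Nat.ble 229 c)
noncomputable def Atab_s_224_231 (c : Nat) : Nat := @Bool.rec (fun _ => Nat) (Atab_s_224_227 c) (Atab_s_227_231 c) (Nat.ble 227 c)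
noncomputable def Atab_s_232_234 (c : Nat) : Nat := @Bool.rec (fun _ => Nat) (Atab_232) (Atab_233) (Nat.ble 233 c)
noncomputable def Atab_s_231_234 (c : Nat) : Nat := @Bool.rec (fun _ => Nat) (Atab_231) (Atab_s_232_234 c) (Nat.ble 232 c)
noncomputable def Atab_s_234_236 (c : Nat) : Nat := @Bool.rec (fun _ => Nat) (Atab_234) (Atab_235) (Nat.ble 235 c)
noncomputable def Atab_s_236_238 (c : Nat) : Nat := @Bool.rec (fun _ => Nat) (Atab_236) (Atab_237) (Nat.ble 237 c)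
noncomputable def Atab_s_234_238 (c : Nat) : Nat := @Bool.rec (fun _ => Nat) (Atab_s_234_236 c) (Atab_s_236_238 c) (Nat.ble 236 c)
noncomputable def Atab_s_231_238 (c : Nat) : Nat := @Bool.rec (fun _ => Nat) (Atab_s_231_234 c) (Atab_s_234_238 c) (Nat.ble 234 c)
noncomputable def Atab_s_224_238 (c : Nat) : Nat := @Bool.rec (fun _ => Nat) (Atab_s_224_231 c) (Atab_s_231_238 c) (Nat.ble 231 c)
noncomputable def Atab_s_239_241 (c : Nat) : Nat := @Bool.rec (fun _ => Nat) (Atab_239) (Atab_240) (Nat.ble 240 c)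
noncomputable def Atab_s_238_241 (c : Nat) : Nat := @Bool.rec (fun _ => Nat) (Atab_238) (Atab_s_239_241 c) (Nat.ble 239 c)
noncomputable def Atab_s_241_243 (c : Nat) : Nat := @Bool.rec (fun _ => Nat) (Atab_241) (Atab_242) (Nat.ble 242 c)
noncomputable def Atab_s_243_245 (c : Nat) : Nat := @Bool.rec (fun _ => Nat) (Atab_243) (Atab_244) (Nat.ble 244 c)
noncomputable def Atab_s_241_245 (c : Nat) : Nat := @Bool.rec (fun _ => Nat) (Atab_s_241_243 c) (Atab_s_243_245 c) (Nat.ble 243 c)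
noncomputable def Atab_s_238_245 (c : Nat) : Nat := @Bool.rec (fun _ => Nat) (Atab_s_238_241 c) (Atab_s_241_245 c) (Nat.ble 241 c)
noncomputable def Atab_s_246_248 (c : Nat) : Nat := @Bool.rec (fun _ => Nat) (Atab_246) (Atab_247) (Nat.ble 247 c)
noncomputable def Atab_s_245_248 (c : Nat) : Nat := @Bool.rec (fun _ => Nat) (Atab_245) (Atab_s_246_248 c) (Nat.ble 246 c)
noncomputable def Atab_s_248_250 (c : Nat) : Nat := @Bool.rec (fun _ => Nat) (Atab_248) (Atab_249) (Nat.ble 249 c)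
noncomputable def Atab_s_250_252 (c : Nat) : Nat := @Bool.rec (fun _ => Nat) (Atab_250) (Atab_251) (Nat.ble 251 c)
noncomputable def Atab_s_248_252 (c : Nat) : Nat := @Bool.rec (fun _ => Nat) (Atab_s_248_250 c) (Atab_s_250_252 c) (Nat.ble 250 c)
noncomputable def Atab_s_245_252 (c : Nat) : Nat := @Bool.rec (fun _ => Nat) (Atab_s_245_248 c) (Atab_s_248_252 c) (Nat.ble 248 c)
noncomputable def Atab_s_238_252 (c : Nat) : Nat := @Bool.rec (fun _ => Nat) (Atab_s_238_245 c) (Atab_s_245_252 c) (Nat.ble 245 c)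
noncomputable def Atab_s_224_252 (c : Nat) : Nat := @Bool.rec (fun _ => Nat) (Atab_s_224_238 c) (Atab_s_238_252 c) (Nat.ble 238 c)
noncomputable def Atab_s_253_255 (c : Nat) : Nat := @Bool.rec (fun _ => Nat) (Atab_253) (Atab_254) (Nat.ble 254 c)
noncomputable def Atab_s_252_255 (c : Nat) : Nat := @Bool.rec (fun _ => Nat) (Atab_252) (Atab_s_253_255 c) (Nat.ble 253 c)
noncomputable def Atab_s_255_257 (c : Nat) : Nat := @Bool.rec (fun _ => Nat) (Atab_255) (Atab_256) (Nat.ble 256 c)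
noncomputable def Atab_s_257_259 (c : Nat) : Nat := @Bool.rec (fun _ => Nat) (Atab_257) (Atab_258) (Nat.ble 258 c)
noncomputable def Atab_s_255_259 (c : Nat) : Nat := @Bool.rec (fun _ => Nat) (Atab_s_255_257 c) (Atab_s_257_259 c) (Nat.ble 257 c)
noncomputable def Atab_s_252_259 (c : Nat) : Nat := @Bool.rec (fun _ => Nat) (Atab_s_252_255 c) (Atab_s_255_259 c) (Nat.ble 255 c)
noncomputable def Atab_s_260_262 (c : Nat) : Nat := @Bool.rec (fun _ => Nat) (Atab_260) (Atab_261) (Nat.ble 261 c)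
noncomputable def Atab_s_259_262 (c : Nat) : Nat := @Bool.rec (fun _ => Nat) (Atab_259) (Atab_s_260_262 c) (Nat.ble 260 c)
noncomputable def Atab_s_262_264 (c : Nat) : Nat := @Bool.rec (fun _ => Nat) (Atab_262) (Atab_263) (Nat.ble 263 c)
noncomputable def Atab_s_264_266 (c : Nat) : Nat := @Bool.rec (fun _ => Nat) (Atab_264) (Atab_265) (Nat.ble 265 c)
noncomputable def Atab_s_262_266 (c : Nat) : Nat := @Bool.rec (fun _ => Nat) (Atab_s_262_264 c) (Atab_s_264_266 c) (Nat.ble 264 c)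
noncomputable def Atab_s_259_266 (c : Nat) : Nat := @Bool.rec (fun _ => Nat) (Atab_s_259_262 c) (Atab_s_262_266 c) (Nat.ble 262 c)
noncomputable def Atab_s_252_266 (c : Nat) : Nat := @Bool.rec (fun _ => Nat) (Atab_s_252_259 c) (Atab_s_259_266 c) (Nat.ble 259 c)
noncomputable def Atab_s_267_269 (c : Nat) : Nat := @Bool.rec (fun _ => Nat) (Atab_267) (Atab_268) (Nat.ble 268 c)
noncomputable def Atab_s_266_269 (c : Nat) : Nat := @Bool.rec (fun _ => Nat) (Atab_266) (Atab_s_267_269 c) (Nat.ble 267 c)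
noncomputable def Atab_s_269_271 (c : Nat) : Nat := @Bool.rec (fun _ => Nat) (Atab_269) (Atab_270) (Nat.ble 270 c)
noncomputable def Atab_s_271_273 (c : Nat) : Nat := @Bool.rec (fun _ => Nat) (Atab_271) (Atab_272) (Nat.ble 272 c)
noncomputable def Atab_s_269_273 (c : Nat) : Nat := @Bool.rec (fun _ => Nat) (Atab_s_269_271 c) (Atab_s_271_273 c) (Nat.ble 271 c)
noncomputable def Atab_s_266_273 (c : Nat) : Nat := @Bool.rec (fun _ => Nat) (Atab_s_266_269 c) (Atab_s_269_273 c) (Nat.ble 269 c)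
noncomputable def Atab_s_274_276 (c : Nat) : Nat := @Bool.rec (fun _ => Nat) (Atab_274) (Atab_275) (Nat.ble 275 c)
noncomputable def Atab_s_273_276 (c : Nat) : Nat := @Bool.rec (fun _ => Nat) (Atab_273) (Atab_s_274_276 c) (Nat.ble 274 c)
noncomputable def Atab_s_276_278 (c : Nat) : Nat := @Bool.rec (fun _ => Nat) (Atab_276) (Atab_277) (Nat.ble 277 c)
noncomputable def Atab_s_278_280 (c : Nat) : Nat := @Bool.rec (fun _ => Nat) (Atab_278) (Atab_279) (Nat.ble 279 c)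
noncomputable def Atab_s_276_280 (c : Nat) : Nat := @Bool.rec (fun _ => Nat) (Atab_s_276_278 c) (Atab_s_278_280 c) (Nat.ble 278 c)
noncomputable def Atab_s_273_280 (c : Nat) : Nat := @Bool.rec (fun _ => Nat) (Atab_s_273_276 c) (Atab_s_276_280 c) (Nat.ble 276 c)
noncomputable def Atab_s_266_280 (c : Nat) : Nat := @Bool.rec (fun _ => Nat) (Atab_s_266_273 c) (Atab_s_273_280 c) (Nat.ble 273 c)
noncomputable def Atab_s_252_280 (c : Nat) : Nat := @Bool.rec (fun _ => Nat) (Atab_s_252_266 c) (Atab_s_266_280 c) (Nat.ble 266 c)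
noncomputable def Atab_s_224_280 (c : Nat) : Nat := @Bool.rec (fun _ => Nat) (Atab_s_224_252 c) (Atab_s_252_280 c) (Nat.ble 252 c)
noncomputable def Atab_s_281_283 (c : Nat) : Nat := @Bool.rec (fun _ => Nat) (Atab_281) (Atab_282) (Nat.ble 282 c)
noncomputable def Atab_s_280_283 (c : Nat) : Nat := @Bool.rec (fun _ => Nat) (Atab_280) (Atab_s_281_283 c) (Nat.ble 281 c)
noncomputable def Atab_s_283_285 (c : Nat) : Nat := @Bool.rec (fun _ => Nat) (Atab_283) (Atab_284) (Nat.ble 284 c)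
noncomputable def Atab_s_285_287 (c : Nat) : Nat := @Bool.rec (fun _ => Nat) (Atab_285) (Atab_286) (Nat.ble 286 c)
noncomputable def Atab_s_283_287 (c : Nat) : Nat := @Bool.rec (fun _ => Nat) (Atab_s_283_285 c) (Atab_s_285_287 c) (Nat.ble 285 c)
noncomputable def Atab_s_280_287 (c : Nat) : Nat := @Bool.rec (fun _ => Nat) (Atab_s_280_283 c) (Atab_s_283_287 c) (Nat.ble 283 c)
noncomputable def Atab_s_288_290 (c : Nat) : Nat := @Bool.rec (fun _ => Nat) (Atab_288) (Atab_289) (Nat.ble 289 c)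
noncomputable def Atab_s_287_290 (c : Nat) : Nat := @Bool.rec (fun _ => Nat) (Atab_287) (Atab_s_288_290 c) (Nat.ble 288 c)
noncomputable def Atab_s_290_292 (c : Nat) : Nat := @Bool.rec (fun _ => Nat) (Atab_290) (Atab_291) (Nat.ble 291 c)
noncomputable def Atab_s_292_294 (c : Nat) : Nat := @Bool.rec (fun _ => Nat) (Atab_292) (Atab_293) (Nat.ble 293 c)
noncomputable def Atab_s_290_294 (c : Nat) : Nat := @Bool.rec (fun _ => Nat) (Atab_s_290_292 c) (Atab_s_292_294 c) (Nat.ble 292 c)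
noncomputable def Atab_s_287_294 (c : Nat) : Nat := @Bool.rec (fun _ => Nat) (Atab_s_287_290 c) (Atab_s_290_294 c) (Nat.ble 290 c)
noncomputable def Atab_s_280_294 (c : Nat) : Nat := @Bool.rec (fun _ => Nat) (Atab_s_280_287 c) (Atab_s_287_294 c) (Nat.ble 287 c)
noncomputable def Atab_s_295_297 (c : Nat) : Nat := @Bool.rec (fun _ => Nat) (Atab_295) (Atab_296) (Nat.ble 296 c)
noncomputable def Atab_s_294_297 (c : Nat) : Nat := @Bool.rec (fun _ => Nat) (Atab_294) (Atab_s_295_297 c) (Nat.ble 295 c)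
noncomputable def Atab_s_297_299 (c : Nat) : Nat := @Bool.rec (fun _ => Nat) (Atab_297) (Atab_298) (Nat.ble 298 c)
noncomputable def Atab_s_299_301 (c : Nat) : Nat := @Bool.rec (fun _ => Nat) (Atab_299) (Atab_300) (Nat.ble 300 c)
noncomputable def Atab_s_297_301 (c : Nat) : Nat := @Bool.rec (fun _ => Nat) (Atab_s_297_299 c) (Atab_s_299_301 c) (Nat.ble 299 c)
noncomputable def Atab_s_294_301 (c : Nat) : Nat := @Bool.rec (fun _ => Nat) (Atab_s_294_297 c) (Atab_s_297_301 c) (Nat.ble 297 c)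
noncomputable def Atab_s_302_304 (c : Nat) : Nat := @Bool.rec (fun _ => Nat) (Atab_302) (Atab_303) (Nat.ble 303 c)
noncomputable def Atab_s_301_304 (c : Nat) : Nat := @Bool.rec (fun _ => Nat) (Atab_301) (Atab_s_302_304 c) (Nat.ble 302 c)
noncomputable def Atab_s_304_306 (c : Nat) : Nat := @Bool.rec (fun _ => Nat) (Atab_304) (Atab_305) (Nat.ble 305 c)
noncomputable def Atab_s_306_308 (c : Nat) : Nat := @Bool.rec (fun _ => Nat) (Atab_306) (Atab_307) (Nat.ble 307 c)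
noncomputable def Atab_s_304_308 (c : Nat) : Nat := @Bool.rec (fun _ => Nat) (Atab_s_304_306 c) (Atab_s_306_308 c) (Nat.ble 306 c)
noncomputable def Atab_s_301_308 (c : Nat) : Nat := @Bool.rec (fun _ => Nat) (Atab_s_301_304 c) (Atab_s_304_308 c) (Nat.ble 304 c)
noncomputable def Atab_s_294_308 (c : Nat) : Nat := @Bool.rec (fun _ => Nat) (Atab_s_294_301 c) (Atab_s_301_308 c) (Nat.ble 301 c)
noncomputable def Atab_s_280_308 (c : Nat) : Nat := @Bool.rec (fun _ => Nat) (Atab_s_280_294 c) (Atab_s_294_308 c) (Nat.ble 294 c)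
noncomputable def Atab_s_309_311 (c : Nat) : Nat := @Bool.rec (fun _ => Nat) (Atab_309) (Atab_310) (Nat.ble 310 c)
noncomputable def Atab_s_308_311 (c : Nat) : Nat := @Bool.rec (fun _ => Nat) (Atab_308) (Atab_s_309_311 c) (Nat.ble 309 c)
noncomputable def Atab_s_311_313 (c : Nat) : Nat := @Bool.rec (fun _ => Nat) (Atab_311) (Atab_312) (Nat.ble 312 c)
noncomputable def Atab_s_313_315 (c : Nat) : Nat := @Bool.rec (fun _ => Nat) (Atab_313) (Atab_314) (Nat.ble 314 c)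
noncomputable def Atab_s_311_315 (c : Nat) : Nat := @Bool.rec (fun _ => Nat) (Atab_s_311_313 c) (Atab_s_313_315 c) (Nat.ble 313 c)
noncomputable def Atab_s_308_315 (c : Nat) : Nat := @Bool.rec (fun _ => Nat) (Atab_s_308_311 c) (Atab_s_311_315 c) (Nat.ble 311 c)
noncomputable def Atab_s_316_318 (c : Nat) : Nat := @Bool.rec (fun _ => Nat) (Atab_316) (Atab_317) (Nat.ble 317 c)
noncomputable def Atab_s_315_318 (c : Nat) : Nat := @Bool.rec (fun _ => Nat) (Atab_315) (Atab_s_316_318 c) (Nat.ble 316 c)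
noncomputable def Atab_s_318_320 (c : Nat) : Nat := @Bool.rec (fun _ => Nat) (Atab_318) (Atab_319) (Nat.ble 319 c)
noncomputable def Atab_s_320_322 (c : Nat) : Nat := @Bool.rec (fun _ => Nat) (Atab_320) (Atab_321) (Nat.ble 321 c)
noncomputable def Atab_s_318_322 (c : Nat) : Nat := @Bool.rec (fun _ => Nat) (Atab_s_318_320 c) (Atab_s_320_322 c) (Nat.ble 320 c)
noncomputable def Atab_s_315_322 (c : Nat) : Nat := @Bool.rec (fun _ => Nat) (Atab_s_315_318 c) (Atab_s_318_322 c) (Nat.ble 318 c)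
noncomputable def Atab_s_308_322 (c : Nat) : Nat := @Bool.rec (fun _ => Nat) (Atab_s_308_315 c) (Atab_s_315_322 c) (Nat.ble 315 c)
noncomputable def Atab_s_323_325 (c : Nat) : Nat := @Bool.rec (fun _ => Nat) (Atab_323) (Atab_324) (Nat.ble 324 c)
noncomputable def Atab_s_322_325 (c : Nat) : Nat := @Bool.rec (fun _ => Nat) (Atab_322) (Atab_s_323_325 c) (Nat.ble 323 c)
noncomputable def Atab_s_325_327 (c : Nat) : Nat := @Bool.rec (fun _ => Nat) (Atab_325) (Atab_326) (Nat.ble 326 c)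
noncomputable def Atab_s_327_329 (c : Nat) : Nat := @Bool.rec (fun _ => Nat) (Atab_327) (Atab_328) (Nat.ble 328 c)
noncomputable def Atab_s_325_329 (c : Nat) : Nat := @Bool.rec (fun _ => Nat) (Atab_s_325_327 c) (Atab_s_327_329 c) (Nat.ble 327 c)
noncomputable def Atab_s_322_329 (c : Nat) : Nat := @Bool.rec (fun _ => Nat) (Atab_s_322_325 c) (Atab_s_325_329 c) (Nat.ble 325 c)
noncomputable def Atab_s_330_332 (c : Nat) : Nat := @Bool.rec (fun _ => Nat) (Atab_330) (Atab_331) (Nat.ble 331 c)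
noncomputable def Atab_s_329_332 (c : Nat) : Nat := @Bool.rec (fun _ => Nat) (Atab_329) (Atab_s_330_332 c) (Nat.ble 330 c)
noncomputable def Atab_s_332_334 (c : Nat) : Nat := @Bool.rec (fun _ => Nat) (Atab_332) (Atab_333) (Nat.ble 333 c)
noncomputable def Atab_s_334_336 (c : Nat) : Nat := @Bool.rec (fun _ => Nat) (Atab_334) (Atab_335) (Nat.ble 335 c)
noncomputable def Atab_s_332_336 (c : Nat) : Nat := @Bool.rec (fun _ => Nat) (Atab_s_332_334 c) (Atab_s_334_336 c) (Nat.ble 334 c)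
noncomputable def Atab_s_329_336 (c : Nat) : Nat := @Bool.rec (fun _ => Nat) (Atab_s_329_332 c) (Atab_s_332_336 c) (Nat.ble 332 c)
noncomputable def Atab_s_322_336 (c : Nat) : Nat := @Bool.rec (fun _ => Nat) (Atab_s_322_329 c) (Atab_s_329_336 c) (Nat.ble 329 c)
noncomputable def Atab_s_308_336 (c : Nat) : Nat := @Bool.rec (fun _ => Nat) (Atab_s_308_322 c) (Atab_s_322_336 c) (Nat.ble 322 c)
noncomputable def Atab_s_280_336 (c : Nat) : Nat := @Bool.rec (fun _ => Nat) (Atab_s_280_308 c) (Atab_s_308_336 c) (Nat.ble 308 c)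
noncomputable def Atab_s_224_336 (c : Nat) : Nat := @Bool.rec (fun _ => Nat) (Atab_s_224_280 c) (Atab_s_280_336 c) (Nat.ble 280 c)
noncomputable def Atab_s_337_339 (c : Nat) : Nat := @Bool.rec (fun _ => Nat) (Atab_337) (Atab_338) (Nat.ble 338 c)
noncomputable def Atab_s_336_339 (c : Nat) : Nat := @Bool.rec (fun _ => Nat) (Atab_336) (Atab_s_337_339 c) (Nat.ble 337 c)
noncomputable def Atab_s_339_341 (c : Nat) : Nat := @Bool.rec (fun _ => Nat) (Atab_339) (Atab_340) (Nat.ble 340 c)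
noncomputable def Atab_s_341_343 (c : Nat) : Nat := @Bool.rec (fun _ => Nat) (Atab_341) (Atab_342) (Nat.ble 342 c)
noncomputable def Atab_s_339_343 (c : Nat) : Nat := @Bool.rec (fun _ => Nat) (Atab_s_339_341 c) (Atab_s_341_343 c) (Nat.ble 341 c)
noncomputable def Atab_s_336_343 (c : Nat) : Nat := @Bool.rec (fun _ => Nat) (Atab_s_336_339 c) (Atab_s_339_343 c) (Nat.ble 339 c)
noncomputable def Atab_s_344_346 (c : Nat) : Nat := @Bool.rec (fun _ => Nat) (Atab_344) (Atab_345) (Nat.ble 345 c)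
noncomputable def Atab_s_343_346 (c : Nat) : Nat := @Bool.rec (fun _ => Nat) (Atab_343) (Atab_s_344_346 c) (Nat.ble 344 c)
noncomputable def Atab_s_346_348 (c : Nat) : Nat := @Bool.rec (fun _ => Nat) (Atab_346) (Atab_347) (Nat.ble 347 c)
noncomputable def Atab_s_348_350 (c : Nat) : Nat := @Bool.rec (fun _ => Nat) (Atab_348) (Atab_349) (Nat.ble 349 c)
noncomputable def Atab_s_346_350 (c : Nat) : Nat := @Bool.rec (fun _ => Nat) (Atab_s_346_348 c) (Atab_s_348_350 c) (Nat.ble 348 c)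
noncomputable def Atab_s_343_350 (c : Nat) : Nat := @Bool.rec (fun _ => Nat) (Atab_s_343_346 c) (Atab_s_346_350 c) (Nat.ble 346 c)
noncomputable def Atab_s_336_350 (c : Nat) : Nat := @Bool.rec (fun _ => Nat) (Atab_s_336_343 c) (Atab_s_343_350 c) (Nat.ble 343 c)
noncomputable def Atab_s_351_353 (c : Nat) : Nat := @Bool.rec (fun _ => Nat) (Atab_351) (Atab_352) (Nat.ble 352 c)
noncomputable def Atab_s_350_353 (c : Nat) : Nat := @Bool.rec (fun _ => Nat) (Atab_350) (Atab_s_351_353 c) (Nat.ble 351 c)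
noncomputable def Atab_s_353_355 (c : Nat) : Nat := @Bool.rec (fun _ => Nat) (Atab_353) (Atab_354) (Nat.ble 354 c)
noncomputable def Atab_s_355_357 (c : Nat) : Nat := @Bool.rec (fun _ => Nat) (Atab_355) (Atab_356) (Nat.ble 356 c)
noncomputable def Atab_s_353_357 (c : Nat) : Nat := @Bool.rec (fun _ => Nat) (Atab_s_353_355 c) (Atab_s_355_357 c) (Nat.ble 355 c)
noncomputable def Atab_s_350_357 (c : Nat) : Nat := @Bool.rec (fun _ => Nat) (Atab_s_350_353 c) (Atab_s_353_357 c) (Nat.ble 353 c)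
noncomputable def Atab_s_358_360 (c : Nat) : Nat := @Bool.rec (fun _ => Nat) (Atab_358) (Atab_359) (Nat.ble 359 c)
noncomputable def Atab_s_357_360 (c : Nat) : Nat := @Bool.rec (fun _ => Nat) (Atab_357) (Atab_s_358_360 c) (Nat.ble 358 c)
noncomputable def Atab_s_360_362 (c : Nat) : Nat := @Bool.rec (fun _ => Nat) (Atab_360) (Atab_361) (Nat.ble 361 c)
noncomputable def Atab_s_362_364 (c : Nat) : Nat := @Bool.rec (fun _ => Nat) (Atab_362) (Atab_363) (Nat.ble 363 c)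
noncomputable def Atab_s_360_364 (c : Nat) : Nat := @Bool.rec (fun _ => Nat) (Atab_s_360_362 c) (Atab_s_362_364 c) (Nat.ble 362 c)
noncomputable def Atab_s_357_364 (c : Nat) : Nat := @Bool.rec (fun _ => Nat) (Atab_s_357_360 c) (Atab_s_360_364 c) (Nat.ble 360 c)
noncomputable def Atab_s_350_364 (c : Nat) : Nat := @Bool.rec (fun _ => Nat) (Atab_s_350_357 c) (Atab_s_357_364 c) (Nat.ble 357 c)
noncomputable def Atab_s_336_364 (c : Nat) : Nat := @Bool.rec (fun _ => Nat) (Atab_s_336_350 c) (Atab_s_350_364 c) (Nat.ble 350 c)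
noncomputable def Atab_s_365_367 (c : Nat) : Nat := @Bool.rec (fun _ => Nat) (Atab_365) (Atab_366) (Nat.ble 366 c)
noncomputable def Atab_s_364_367 (c : Nat) : Nat := @Bool.rec (fun _ => Nat) (Atab_364) (Atab_s_365_367 c) (Nat.ble 365 c)
noncomputable def Atab_s_367_369 (c : Nat) : Nat := @Bool.rec (fun _ => Nat) (Atab_367) (Atab_368) (Nat.ble 368 c)
noncomputable def Atab_s_369_371 (c : Nat) : Nat := @Bool.rec (fun _ => Nat) (Atab_369) (Atab_370) (Nat.ble 370 c)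
noncomputable def Atab_s_367_371 (c : Nat) : Nat := @Bool.rec (fun _ => Nat) (Atab_s_367_369 c) (Atab_s_369_371 c) (Nat.ble 369 c)
noncomputable def Atab_s_364_371 (c : Nat) : Nat := @Bool.rec (fun _ => Nat) (Atab_s_364_367 c) (Atab_s_367_371 c) (Nat.ble 367 c)
noncomputable def Atab_s_372_374 (c : Nat) : Nat := @Bool.rec (fun _ => Nat) (Atab_372) (Atab_373) (Nat.ble 373 c)
noncomputable def Atab_s_371_374 (c : Nat) : Nat := @Bool.rec (fun _ => Nat) (Atab_371) (Atab_s_372_374 c) (Nat.ble 372 c)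
noncomputable def Atab_s_374_376 (c : Nat) : Nat := @Bool.rec (fun _ => Nat) (Atab_374) (Atab_375) (Nat.ble 375 c)
noncomputable def Atab_s_376_378 (c : Nat) : Nat := @Bool.rec (fun _ => Nat) (Atab_376) (Atab_377) (Nat.ble 377 c)
noncomputable def Atab_s_374_378 (c : Nat) : Nat := @Bool.rec (fun _ => Nat) (Atab_s_374_376 c) (Atab_s_376_378 c) (Nat.ble 376 c)
noncomputable def Atab_s_371_378 (c : Nat) : Nat := @Bool.rec (fun _ => Nat) (Atab_s_371_374 c) (Atab_s_374_378 c) (Nat.ble 374 c)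
noncomputable def Atab_s_364_378 (c : Nat) : Nat := @Bool.rec (fun _ => Nat) (Atab_s_364_371 c) (Atab_s_371_378 c) (Nat.ble 371 c)
noncomputable def Atab_s_379_381 (c : Nat) : Nat := @Bool.rec (fun _ => Nat) (Atab_379) (Atab_380) (Nat.ble 380 c)
noncomputable def Atab_s_378_381 (c : Nat) : Nat := @Bool.rec (fun _ => Nat) (Atab_378) (Atab_s_379_381 c) (Nat.ble 379 c)
noncomputable def Atab_s_381_383 (c : Nat) : Nat := @Bool.rec (fun _ => Nat) (Atab_381) (Atab_382) (Nat.ble 382 c)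
noncomputable def Atab_s_383_385 (c : Nat) : Nat := @Bool.rec (fun _ => Nat) (Atab_383) (Atab_384) (Nat.ble 384 c)
noncomputable def Atab_s_381_385 (c : Nat) : Nat := @Bool.rec (fun _ => Nat) (Atab_s_381_383 c) (Atab_s_383_385 c) (Nat.ble 383 c)
noncomputable def Atab_s_378_385 (c : Nat) : Nat := @Bool.rec (fun _ => Nat) (Atab_s_378_381 c) (Atab_s_381_385 c) (Nat.ble 381 c)
noncomputable def Atab_s_386_388 (c : Nat) : Nat := @Bool.rec (fun _ => Nat) (Atab_386) (Atab_387) (Nat.ble 387 c)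
noncomputable def Atab_s_385_388 (c : Nat) : Nat := @Bool.rec (fun _ => Nat) (Atab_385) (Atab_s_386_388 c) (Nat.ble 386 c)
noncomputable def Atab_s_388_390 (c : Nat) : Nat := @Bool.rec (fun _ => Nat) (Atab_388) (Atab_389) (Nat.ble 389 c)
noncomputable def Atab_s_390_392 (c : Nat) : Nat := @Bool.rec (fun _ => Nat) (Atab_390) (Atab_391) (Nat.ble 391 c)
noncomputable def Atab_s_388_392 (c : Nat) : Nat := @Bool.rec (fun _ => Nat) (Atab_s_388_390 c) (Atab_s_390_392 c) (Nat.ble 390 c)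
noncomputable def Atab_s_385_392 (c : Nat) : Nat := @Bool.rec (fun _ => Nat) (Atab_s_385_388 c) (Atab_s_388_392 c) (Nat.ble 388 c)
noncomputable def Atab_s_378_392 (c : Nat) : Nat := @Bool.rec (fun _ => Nat) (Atab_s_378_385 c) (Atab_s_385_392 c) (Nat.ble 385 c)
noncomputable def Atab_s_364_392 (c : Nat) : Nat := @Bool.rec (fun _ => Nat) (Atab_s_364_378 c) (Atab_s_378_392 c) (Nat.ble 378 c)
noncomputable def Atab_s_336_392 (c : Nat) : Nat := @Bool.rec (fun _ => Nat) (Atab_s_336_364 c) (Atab_s_364_392 c) (Nat.ble 364 c)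
noncomputable def Atab_s_393_395 (c : Nat) : Nat := @Bool.rec (fun _ => Nat) (Atab_393) (Atab_394) (Nat.ble 394 c)
noncomputable def Atab_s_392_395 (c : Nat) : Nat := @Bool.rec (fun _ => Nat) (Atab_392) (Atab_s_393_395 c) (Nat.ble 393 c)
noncomputable def Atab_s_395_397 (c : Nat) : Nat := @Bool.rec (fun _ => Nat) (Atab_395) (Atab_396) (Nat.ble 396 c)
noncomputable def Atab_s_397_399 (c : Nat) : Nat := @Bool.rec (fun _ => Nat) (Atab_397) (Atab_398) (Nat.ble 398 c)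
noncomputable def Atab_s_395_399 (c : Nat) : Nat := @Bool.rec (fun _ => Nat) (Atab_s_395_397 c) (Atab_s_397_399 c) (Nat.ble 397 c)
noncomputable def Atab_s_392_399 (c : Nat) : Nat := @Bool.rec (fun _ => Nat) (Atab_s_392_395 c) (Atab_s_395_399 c) (Nat.ble 395 c)
noncomputable def Atab_s_400_402 (c : Nat) : Nat := @Bool.rec (fun _ => Nat) (Atab_400) (Atab_401) (Nat.ble 401 c)
noncomputable def Atab_s_399_402 (c : Nat) : Nat := @Bool.rec (fun _ => Nat) (Atab_399) (Atab_s_400_402 c) (Nat.ble 400 c)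
noncomputable def Atab_s_402_404 (c : Nat) : Nat := @Bool.rec (fun _ => Nat) (Atab_402) (Atab_403) (Nat.ble 403 c)
noncomputable def Atab_s_404_406 (c : Nat) : Nat := @Bool.rec (fun _ => Nat) (Atab_404) (Atab_405) (Nat.ble 405 c)
noncomputable def Atab_s_402_406 (c : Nat) : Nat := @Bool.rec (fun _ => Nat) (Atab_s_402_404 c) (Atab_s_404_406 c) (Nat.ble 404 c)
noncomputable def Atab_s_399_406 (c : Nat) : Nat := @Bool.rec (fun _ => Nat) (Atab_s_399_402 c) (Atab_s_402_406 c) (Nat.ble 402 c)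
noncomputable def Atab_s_392_406 (c : Nat) : Nat := @Bool.rec (fun _ => Nat) (Atab_s_392_399 c) (Atab_s_399_406 c) (Nat.ble 399 c)
noncomputable def Atab_s_407_409 (c : Nat) : Nat := @Bool.rec (fun _ => Nat) (Atab_407) (Atab_408) (Nat.ble 408 c)
noncomputable def Atab_s_406_409 (c : Nat) : Nat := @Bool.rec (fun _ => Nat) (Atab_406) (Atab_s_407_409 c) (Nat.ble 407 c)
noncomputable def Atab_s_409_411 (c : Nat) : Nat := @Bool.rec (fun _ => Nat) (Atab_409) (Atab_410) (Nat.ble 410 c)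
noncomputable def Atab_s_411_413 (c : Nat) : Nat := @Bool.rec (fun _ => Nat) (Atab_411) (Atab_412) (Nat.ble 412 c)
noncomputable def Atab_s_409_413 (c : Nat) : Nat := @Bool.rec (fun _ => Nat) (Atab_s_409_411 c) (Atab_s_411_413 c) (Nat.ble 411 c)
noncomputable def Atab_s_406_413 (c : Nat) : Nat := @Bool.rec (fun _ => Nat) (Atab_s_406_409 c) (Atab_s_409_413 c) (Nat.ble 409 c)
noncomputable def Atab_s_414_416 (c : Nat) : Nat := @Bool.rec (fun _ => Nat) (Atab_414) (Atab_415) (Nat.ble 415 c)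
noncomputable def Atab_s_413_416 (c : Nat) : Nat := @Bool.rec (fun _ => Nat) (Atab_413) (Atab_s_414_416 c) (Nat.ble 414 c)
noncomputable def Atab_s_416_418 (c : Nat) : Nat := @Bool.rec (fun _ => Nat) (Atab_416) (Atab_417) (Nat.ble 417 c)
noncomputable def Atab_s_418_420 (c : Nat) : Nat := @Bool.rec (fun _ => Nat) (Atab_418) (Atab_419) (Nat.ble 419 c)
noncomputable def Atab_s_416_420 (c : Nat) : Nat := @Bool.rec (fun _ => Nat) (Atab_s_416_418 c) (Atab_s_418_420 c) (Nat.ble 418 c)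
noncomputable def Atab_s_413_420 (c : Nat) : Nat := @Bool.rec (fun _ => Nat) (Atab_s_413_416 c) (Atab_s_416_420 c) (Nat.ble 416 c)
noncomputable def Atab_s_406_420 (c : Nat) : Nat := @Bool.rec (fun _ => Nat) (Atab_s_406_413 c) (Atab_s_413_420 c) (Nat.ble 413 c)
noncomputable def Atab_s_392_420 (c : Nat) : Nat := @Bool.rec (fun _ => Nat) (Atab_s_392_406 c) (Atab_s_406_420 c) (Nat.ble 406 c)
noncomputable def Atab_s_421_423 (c : Nat) : Nat := @Bool.rec (fun _ => Nat) (Atab_421) (Atab_422) (Nat.ble 422 c)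
noncomputable def Atab_s_420_423 (c : Nat) : Nat := @Bool.rec (fun _ => Nat) (Atab_420) (Atab_s_421_423 c) (Nat.ble 421 c)
noncomputable def Atab_s_423_425 (c : Nat) : Nat := @Bool.rec (fun _ => Nat) (Atab_423) (Atab_424) (Nat.ble 424 c)
noncomputable def Atab_s_425_427 (c : Nat) : Nat := @Bool.rec (fun _ => Nat) (Atab_425) (Atab_426) (Nat.ble 426 c)
noncomputable def Atab_s_423_427 (c : Nat) : Nat := @Bool.rec (fun _ => Nat) (Atab_s_423_425 c) (Atab_s_425_427 c) (Nat.ble 425 c)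
noncomputable def Atab_s_420_427 (c : Nat) : Nat := @Bool.rec (fun _ => Nat) (Atab_s_420_423 c) (Atab_s_423_427 c) (Nat.ble 423 c)
noncomputable def Atab_s_428_430 (c : Nat) : Nat := @Bool.rec (fun _ => Nat) (Atab_428) (Atab_429) (Nat.ble 429 c)
noncomputable def Atab_s_427_430 (c : Nat) : Nat := @Bool.rec (fun _ => Nat) (Atab_427) (Atab_s_428_430 c) (Nat.ble 428 c)
noncomputable def Atab_s_430_432 (c : Nat) : Nat := @Bool.rec (fun _ => Nat) (Atab_430) (Atab_431) (Nat.ble 431 c)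
noncomputable def Atab_s_432_434 (c : Nat) : Nat := @Bool.rec (fun _ => Nat) (Atab_432) (Atab_433) (Nat.ble 433 c)
noncomputable def Atab_s_430_434 (c : Nat) : Nat := @Bool.rec (fun _ => Nat) (Atab_s_430_432 c) (Atab_s_432_434 c) (Nat.ble 432 c)
noncomputable def Atab_s_427_434 (c : Nat) : Nat := @Bool.rec (fun _ => Nat) (Atab_s_427_430 c) (Atab_s_430_434 c) (Nat.ble 430 c)
noncomputable def Atab_s_420_434 (c : Nat) : Nat := @Bool.rec (fun _ => Nat) (Atab_s_420_427 c) (Atab_s_427_434 c) (Nat.ble 427 c)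
noncomputable def Atab_s_435_437 (c : Nat) : Nat := @Bool.rec (fun _ => Nat) (Atab_435) (Atab_436) (Nat.ble 436 c)
noncomputable def Atab_s_434_437 (c : Nat) : Nat := @Bool.rec (fun _ => Nat) (Atab_434) (Atab_s_435_437 c) (Nat.ble 435 c)
noncomputable def Atab_s_437_439 (c : Nat) : Nat := @Bool.rec (fun _ => Nat) (Atab_437) (Atab_438) (Nat.ble 438 c)
noncomputable def Atab_s_439_441 (c : Nat) : Nat := @Bool.rec (fun _ => Nat) (Atab_439) (Atab_440) (Nat.ble 440 c)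
noncomputable def Atab_s_437_441 (c : Nat) : Nat := @Bool.rec (fun _ => Nat) (Atab_s_437_439 c) (Atab_s_439_441 c) (Nat.ble 439 c)
noncomputable def Atab_s_434_441 (c : Nat) : Nat := @Bool.rec (fun _ => Nat) (Atab_s_434_437 c) (Atab_s_437_441 c) (Nat.ble 437 c)
noncomputable def Atab_s_441_443 (c : Nat) : Nat := @Bool.rec (fun _ => Nat) (Atab_441) (Atab_442) (Nat.ble 442 c)
noncomputable def Atab_s_443_445 (c : Nat) : Nat := @Bool.rec (fun _ => Nat) (Atab_443) (Atab_444) (Nat.ble 444 c)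
noncomputable def Atab_s_441_445 (c : Nat) : Nat := @Bool.rec (fun _ => Nat) (Atab_s_441_443 c) (Atab_s_443_445 c) (Nat.ble 443 c)
noncomputable def Atab_s_445_447 (c : Nat) : Nat := @Bool.rec (fun _ => Nat) (Atab_445) (Atab_446) (Nat.ble 446 c)
noncomputable def Atab_s_447_449 (c : Nat) : Nat := @Bool.rec (fun _ => Nat) (Atab_447) (Atab_448) (Nat.ble 448 c)
noncomputable def Atab_s_445_449 (c : Nat) : Nat := @Bool.rec (fun _ => Nat) (Atab_s_445_447 c) (Atab_s_447_449 c) (Nat.ble 447 c)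
noncomputable def Atab_s_441_449 (c : Nat) : Nat := @Bool.rec (fun _ => Nat) (Atab_s_441_445 c) (Atab_s_445_449 c) (Nat.ble 445 c)
noncomputable def Atab_s_434_449 (c : Nat) : Nat := @Bool.rec (fun _ => Nat) (Atab_s_434_441 c) (Atab_s_441_449 c) (Nat.ble 441 c)
noncomputable def Atab_s_420_449 (c : Nat) : Nat := @Bool.rec (fun _ => Nat) (Atab_s_420_434 c) (Atab_s_434_449 c) (Nat.ble 434 c)
noncomputable def Atab_s_392_449 (c : Nat) : Nat := @Bool.rec (fun _ => Nat) (Atab_s_392_420 c) (Atab_s_420_449 c) (Nat.ble 420 c)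
noncomputable def Atab_s_336_449 (c : Nat) : Nat := @Bool.rec (fun _ => Nat) (Atab_s_336_392 c) (Atab_s_392_449 c) (Nat.ble 392 c)
noncomputable def Atab_s_224_449 (c : Nat) : Nat := @Bool.rec (fun _ => Nat) (Atab_s_224_336 c) (Atab_s_336_449 c) (Nat.ble 336 c)
noncomputable def Atab_s_0_449 (c : Nat) : Nat := @Bool.rec (fun _ => Nat) (Atab_s_0_224 c) (Atab_s_224_449 c) (Nat.ble 224 c)
noncomputable def Atab (i : Nat) : Nat := rdw 39 549755813887 (Atab_s_0_449 (Nat.shiftRight i 11)) (Nat.land i 2047)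
noncomputable def Btab_s_1_3 (c : Nat) : Nat := @Bool.rec (fun _ => Nat) (Btab_1) (Btab_2) (Nat.ble 2 c)
noncomputable def Btab_s_0_3 (c : Nat) : Nat := @Bool.rec (fun _ => Nat) (Btab_0) (Btab_s_1_3 c) (Nat.ble 1 c)
noncomputable def Btab_s_4_6 (c : Nat) : Nat := @Bool.rec (fun _ => Nat) (Btab_4) (Btab_5) (Nat.ble 5 c)
noncomputable def Btab_s_3_6 (c : Nat) : Nat := @Bool.rec (fun _ => Nat) (Btab_3) (Btab_s_4_6 c) (Nat.ble 4 c)
noncomputable def Btab_s_0_6 (c : Nat) : Nat := @Bool.rec (fun _ => Nat) (Btab_s_0_3 c) (Btab_s_3_6 c) (Nat.ble 3 c)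
noncomputable def Btab_s_7_9 (c : Nat) : Nat := @Bool.rec (fun _ => Nat) (Btab_7) (Btab_8) (Nat.ble 8 c)
noncomputable def Btab_s_6_9 (c : Nat) : Nat := @Bool.rec (fun _ => Nat) (Btab_6) (Btab_s_7_9 c) (Nat.ble 7 c)
noncomputable def Btab_s_10_12 (c : Nat) : Nat := @Bool.rec (fun _ => Nat) (Btab_10) (Btab_11) (Nat.ble 11 c)
noncomputable def Btab_s_9_12 (c : Nat) : Nat := @Bool.rec (fun _ => Nat) (Btab_9) (Btab_s_10_12 c) (Nat.ble 10 c)
noncomputable def Btab_s_6_12 (c : Nat) : Nat := @Bool.rec (fun _ => Nat) (Btab_s_6_9 c) (Btab_s_9_12 c) (Nat.ble 9 c)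
noncomputable def Btab_s_0_12 (c : Nat) : Nat := @Bool.rec (fun _ => Nat) (Btab_s_0_6 c) (Btab_s_6_12 c) (Nat.ble 6 c)
noncomputable def Btab_s_13_15 (c : Nat) : Nat := @Bool.rec (fun _ => Nat) (Btab_13) (Btab_14) (Nat.ble 14 c)
noncomputable def Btab_s_12_15 (c : Nat) : Nat := @Bool.rec (fun _ => Nat) (Btab_12) (Btab_s_13_15 c) (Nat.ble 13 c)
noncomputable def Btab_s_16_18 (c : Nat) : Nat := @Bool.rec (fun _ => Nat) (Btab_16) (Btab_17) (Nat.ble 17 c)
noncomputable def Btab_s_15_18 (c : Nat) : Nat := @Bool.rec (fun _ => Nat) (Btab_15) (Btab_s_16_18 c) (Nat.ble 16 c)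
noncomputable def Btab_s_12_18 (c : Nat) : Nat := @Bool.rec (fun _ => Nat) (Btab_s_12_15 c) (Btab_s_15_18 c) (Nat.ble 15 c)
noncomputable def Btab_s_19_21 (c : Nat) : Nat := @Bool.rec (fun _ => Nat) (Btab_19) (Btab_20) (Nat.ble 20 c)
noncomputable def Btab_s_18_21 (c : Nat) : Nat := @Bool.rec (fun _ => Nat) (Btab_18) (Btab_s_19_21 c) (Nat.ble 19 c)
noncomputable def Btab_s_21_23 (c : Nat) : Nat := @Bool.rec (fun _ => Nat) (Btab_21) (Btab_22) (Nat.ble 22 c)
noncomputable def Btab_s_23_25 (c : Nat) : Nat := @Bool.rec (fun _ => Nat) (Btab_23) (Btab_24) (Nat.ble 24 c)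
noncomputable def Btab_s_21_25 (c : Nat) : Nat := @Bool.rec (fun _ => Nat) (Btab_s_21_23 c) (Btab_s_23_25 c) (Nat.ble 23 c)
noncomputable def Btab_s_18_25 (c : Nat) : Nat := @Bool.rec (fun _ => Nat) (Btab_s_18_21 c) (Btab_s_21_25 c) (Nat.ble 21 c)
noncomputable def Btab_s_12_25 (c : Nat) : Nat := @Bool.rec (fun _ => Nat) (Btab_s_12_18 c) (Btab_s_18_25 c) (Nat.ble 18 c)
noncomputable def Btab_s_0_25 (c : Nat) : Nat := @Bool.rec (fun _ => Nat) (Btab_s_0_12 c) (Btab_s_12_25 c) (Nat.ble 12 c)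
noncomputable def Btab_s_26_28 (c : Nat) : Nat := @Bool.rec (fun _ => Nat) (Btab_26) (Btab_27) (Nat.ble 27 c)
noncomputable def Btab_s_25_28 (c : Nat) : Nat := @Bool.rec (fun _ => Nat) (Btab_25) (Btab_s_26_28 c) (Nat.ble 26 c)
noncomputable def Btab_s_29_31 (c : Nat) : Nat := @Bool.rec (fun _ => Nat) (Btab_29) (Btab_30) (Nat.ble 30 c)
noncomputable def Btab_s_28_31 (c : Nat) : Nat := @Bool.rec (fun _ => Nat) (Btab_28) (Btab_s_29_31 c) (Nat.ble 29 c)
noncomputable def Btab_s_25_31 (c : Nat) : Nat := @Bool.rec (fun _ => Nat) (Btab_s_25_28 c) (Btab_s_28_31 c) (Nat.ble 28 c)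
noncomputable def Btab_s_32_34 (c : Nat) : Nat := @Bool.rec (fun _ => Nat) (Btab_32) (Btab_33) (Nat.ble 33 c)
noncomputable def Btab_s_31_34 (c : Nat) : Nat := @Bool.rec (fun _ => Nat) (Btab_31) (Btab_s_32_34 c) (Nat.ble 32 c)
noncomputable def Btab_s_35_37 (c : Nat) : Nat := @Bool.rec (fun _ => Nat) (Btab_35) (Btab_36) (Nat.ble 36 c)
noncomputable def Btab_s_34_37 (c : Nat) : Nat := @Bool.rec (fun _ => Nat) (Btab_34) (Btab_s_35_37 c) (Nat.ble 35 c)
noncomputable def Btab_s_31_37 (c : Nat) : Nat := @Bool.rec (fun _ => Nat) (Btab_s_31_34 c) (Btab_s_34_37 c) (Nat.ble 34 c)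
noncomputable def Btab_s_25_37 (c : Nat) : Nat := @Bool.rec (fun _ => Nat) (Btab_s_25_31 c) (Btab_s_31_37 c) (Nat.ble 31 c)
noncomputable def Btab_s_38_40 (c : Nat) : Nat := @Bool.rec (fun _ => Nat) (Btab_38) (Btab_39) (Nat.ble 39 c)
noncomputable def Btab_s_37_40 (c : Nat) : Nat := @Bool.rec (fun _ => Nat) (Btab_37) (Btab_s_38_40 c) (Nat.ble 38 c)
noncomputable def Btab_s_41_43 (c : Nat) : Nat := @Bool.rec (fun _ => Nat) (Btab_41) (Btab_42) (Nat.ble 42 c)
noncomputable def Btab_s_40_43 (c : Nat) : Nat := @Bool.rec (fun _ => Nat) (Btab_40) (Btab_s_41_43 c) (Nat.ble 41 c)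
noncomputable def Btab_s_37_43 (c : Nat) : Nat := @Bool.rec (fun _ => Nat) (Btab_s_37_40 c) (Btab_s_40_43 c) (Nat.ble 40 c)
noncomputable def Btab_s_44_46 (c : Nat) : Nat := @Bool.rec (fun _ => Nat) (Btab_44) (Btab_45) (Nat.ble 45 c)
noncomputable def Btab_s_43_46 (c : Nat) : Nat := @Bool.rec (fun _ => Nat) (Btab_43) (Btab_s_44_46 c) (Nat.ble 44 c)
noncomputable def Btab_s_46_48 (c : Nat) : Nat := @Bool.rec (fun _ => Nat) (Btab_46) (Btab_47) (Nat.ble 47 c)
noncomputable def Btab_s_48_50 (c : Nat) : Nat := @Bool.rec (fun _ => Nat) (Btab_48) (Btab_49) (Nat.ble 49 c)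
noncomputable def Btab_s_46_50 (c : Nat) : Nat := @Bool.rec (fun _ => Nat) (Btab_s_46_48 c) (Btab_s_48_50 c) (Nat.ble 48 c)
noncomputable def Btab_s_43_50 (c : Nat) : Nat := @Bool.rec (fun _ => Nat) (Btab_s_43_46 c) (Btab_s_46_50 c) (Nat.ble 46 c)
noncomputable def Btab_s_37_50 (c : Nat) : Nat := @Bool.rec (fun _ => Nat) (Btab_s_37_43 c) (Btab_s_43_50 c) (Nat.ble 43 c)
noncomputable def Btab_s_25_50 (c : Nat) : Nat := @Bool.rec (fun _ => Nat) (Btab_s_25_37 c) (Btab_s_37_50 c) (Nat.ble 37 c)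
noncomputable def Btab_s_0_50 (c : Nat) : Nat := @Bool.rec (fun _ => Nat) (Btab_s_0_25 c) (Btab_s_25_50 c) (Nat.ble 25 c)
noncomputable def Btab_s_51_53 (c : Nat) : Nat := @Bool.rec (fun _ => Nat) (Btab_51) (Btab_52) (Nat.ble 52 c)
noncomputable def Btab_s_50_53 (c : Nat) : Nat := @Bool.rec (fun _ => Nat) (Btab_50) (Btab_s_51_53 c) (Nat.ble 51 c)
noncomputable def Btab_s_54_56 (c : Nat) : Nat := @Bool.rec (fun _ => Nat) (Btab_54) (Btab_55) (Nat.ble 55 c)
noncomputable def Btab_s_53_56 (c : Nat) : Nat := @Bool.rec (fun _ => Nat) (Btab_53) (Btab_s_54_56 c) (Nat.ble 54 c)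
noncomputable def Btab_s_50_56 (c : Nat) : Nat := @Bool.rec (fun _ => Nat) (Btab_s_50_53 c) (Btab_s_53_56 c) (Nat.ble 53 c)
noncomputable def Btab_s_57_59 (c : Nat) : Nat := @Bool.rec (fun _ => Nat) (Btab_57) (Btab_58) (Nat.ble 58 c)
noncomputable def Btab_s_56_59 (c : Nat) : Nat := @Bool.rec (fun _ => Nat) (Btab_56) (Btab_s_57_59 c) (Nat.ble 57 c)
noncomputable def Btab_s_60_62 (c : Nat) : Nat := @Bool.rec (fun _ => Nat) (Btab_60) (Btab_61) (Nat.ble 61 c)
noncomputable def Btab_s_59_62 (c : Nat) : Nat := @Bool.rec (fun _ => Nat) (Btab_59) (Btab_s_60_62 c) (Nat.ble 60 c)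
noncomputable def Btab_s_56_62 (c : Nat) : Nat := @Bool.rec (fun _ => Nat) (Btab_s_56_59 c) (Btab_s_59_62 c) (Nat.ble 59 c)
noncomputable def Btab_s_50_62 (c : Nat) : Nat := @Bool.rec (fun _ => Nat) (Btab_s_50_56 c) (Btab_s_56_62 c) (Nat.ble 56 c)
noncomputable def Btab_s_63_65 (c : Nat) : Nat := @Bool.rec (fun _ => Nat) (Btab_63) (Btab_64) (Nat.ble 64 c)
noncomputable def Btab_s_62_65 (c : Nat) : Nat := @Bool.rec (fun _ => Nat) (Btab_62) (Btab_s_63_65 c) (Nat.ble 63 c)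
noncomputable def Btab_s_66_68 (c : Nat) : Nat := @Bool.rec (fun _ => Nat) (Btab_66) (Btab_67) (Nat.ble 67 c)
noncomputable def Btab_s_65_68 (c : Nat) : Nat := @Bool.rec (fun _ => Nat) (Btab_65) (Btab_s_66_68 c) (Nat.ble 66 c)
noncomputable def Btab_s_62_68 (c : Nat) : Nat := @Bool.rec (fun _ => Nat) (Btab_s_62_65 c) (Btab_s_65_68 c) (Nat.ble 65 c)
noncomputable def Btab_s_69_71 (c : Nat) : Nat := @Bool.rec (fun _ => Nat) (Btab_69) (Btab_70) (Nat.ble 70 c)
noncomputable def Btab_s_68_71 (c : Nat) : Nat := @Bool.rec (fun _ => Nat) (Btab_68) (Btab_s_69_71 c) (Nat.ble 69 c)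
noncomputable def Btab_s_71_73 (c : Nat) : Nat := @Bool.rec (fun _ => Nat) (Btab_71) (Btab_72) (Nat.ble 72 c)
noncomputable def Btab_s_73_75 (c : Nat) : Nat := @Bool.rec (fun _ => Nat) (Btab_73) (Btab_74) (Nat.ble 74 c)
noncomputable def Btab_s_71_75 (c : Nat) : Nat := @Bool.rec (fun _ => Nat) (Btab_s_71_73 c) (Btab_s_73_75 c) (Nat.ble 73 c)
noncomputable def Btab_s_68_75 (c : Nat) : Nat := @Bool.rec (fun _ => Nat) (Btab_s_68_71 c) (Btab_s_71_75 c) (Nat.ble 71 c)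
noncomputable def Btab_s_62_75 (c : Nat) : Nat := @Bool.rec (fun _ => Nat) (Btab_s_62_68 c) (Btab_s_68_75 c) (Nat.ble 68 c)
noncomputable def Btab_s_50_75 (c : Nat) : Nat := @Bool.rec (fun _ => Nat) (Btab_s_50_62 c) (Btab_s_62_75 c) (Nat.ble 62 c)
noncomputable def Btab_s_76_78 (c : Nat) : Nat := @Bool.rec (fun _ => Nat) (Btab_76) (Btab_77) (Nat.ble 77 c)
noncomputable def Btab_s_75_78 (c : Nat) : Nat := @Bool.rec (fun _ => Nat) (Btab_75) (Btab_s_76_78 c) (Nat.ble 76 c)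
noncomputable def Btab_s_79_81 (c : Nat) : Nat := @Bool.rec (fun _ => Nat) (Btab_79) (Btab_80) (Nat.ble 80 c)
noncomputable def Btab_s_78_81 (c : Nat) : Nat := @Bool.rec (fun _ => Nat) (Btab_78) (Btab_s_79_81 c) (Nat.ble 79 c)
noncomputable def Btab_s_75_81 (c : Nat) : Nat := @Bool.rec (fun _ => Nat) (Btab_s_75_78 c) (Btab_s_78_81 c) (Nat.ble 78 c)
noncomputable def Btab_s_82_84 (c : Nat) : Nat := @Bool.rec (fun _ => Nat) (Btab_82) (Btab_83) (Nat.ble 83 c)
noncomputable def Btab_s_81_84 (c : Nat) : Nat := @Bool.rec (fun _ => Nat) (Btab_81) (Btab_s_82_84 c) (Nat.ble 82 c)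
noncomputable def Btab_s_84_86 (c : Nat) : Nat := @Bool.rec (fun _ => Nat) (Btab_84) (Btab_85) (Nat.ble 85 c)
noncomputable def Btab_s_86_88 (c : Nat) : Nat := @Bool.rec (fun _ => Nat) (Btab_86) (Btab_87) (Nat.ble 87 c)
noncomputable def Btab_s_84_88 (c : Nat) : Nat := @Bool.rec (fun _ => Nat) (Btab_s_84_86 c) (Btab_s_86_88 c) (Nat.ble 86 c)
noncomputable def Btab_s_81_88 (c : Nat) : Nat := @Bool.rec (fun _ => Nat) (Btab_s_81_84 c) (Btab_s_84_88 c) (Nat.ble 84 c)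
noncomputable def Btab_s_75_88 (c : Nat) : Nat := @Bool.rec (fun _ => Nat) (Btab_s_75_81 c) (Btab_s_81_88 c) (Nat.ble 81 c)
noncomputable def Btab_s_89_91 (c : Nat) : Nat := @Bool.rec (fun _ => Nat) (Btab_89) (Btab_90) (Nat.ble 90 c)
noncomputable def Btab_s_88_91 (c : Nat) : Nat := @Bool.rec (fun _ => Nat) (Btab_88) (Btab_s_89_91 c) (Nat.ble 89 c)
noncomputable def Btab_s_92_94 (c : Nat) : Nat := @Bool.rec (fun _ => Nat) (Btab_92) (Btab_93) (Nat.ble 93 c)
noncomputable def Btab_s_91_94 (c : Nat) : Nat := @Bool.rec (fun _ => Nat) (Btab_91) (Btab_s_92_94 c) (Nat.ble 92 c)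
noncomputable def Btab_s_88_94 (c : Nat) : Nat := @Bool.rec (fun _ => Nat) (Btab_s_88_91 c) (Btab_s_91_94 c) (Nat.ble 91 c)
noncomputable def Btab_s_95_97 (c : Nat) : Nat := @Bool.rec (fun _ => Nat) (Btab_95) (Btab_96) (Nat.ble 96 c)
noncomputable def Btab_s_94_97 (c : Nat) : Nat := @Bool.rec (fun _ => Nat) (Btab_94) (Btab_s_95_97 c) (Nat.ble 95 c)
noncomputable def Btab_s_97_99 (c : Nat) : Nat := @Bool.rec (fun _ => Nat) (Btab_97) (Btab_98) (Nat.ble 98 c)
noncomputable def Btab_s_99_101 (c : Nat) : Nat := @Bool.rec (fun _ => Nat) (Btab_99) (Btab_100) (Nat.ble 100 c)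
noncomputable def Btab_s_97_101 (c : Nat) : Nat := @Bool.rec (fun _ => Nat) (Btab_s_97_99 c) (Btab_s_99_101 c) (Nat.ble 99 c)
noncomputable def Btab_s_94_101 (c : Nat) : Nat := @Bool.rec (fun _ => Nat) (Btab_s_94_97 c) (Btab_s_97_101 c) (Nat.ble 97 c)
noncomputable def Btab_s_88_101 (c : Nat) : Nat := @Bool.rec (fun _ => Nat) (Btab_s_88_94 c) (Btab_s_94_101 c) (Nat.ble 94 c)
noncomputable def Btab_s_75_101 (c : Nat) : Nat := @Bool.rec (fun _ => Nat) (Btab_s_75_88 c) (Btab_s_88_101 c) (Nat.ble 88 c)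
noncomputable def Btab_s_50_101 (c : Nat) : Nat := @Bool.rec (fun _ => Nat) (Btab_s_50_75 c) (Btab_s_75_101 c) (Nat.ble 75 c)
noncomputable def Btab_s_0_101 (c : Nat) : Nat := @Bool.rec (fun _ => Nat) (Btab_s_0_50 c) (Btab_s_50_101 c) (Nat.ble 50 c)
noncomputable def Btab_s_102_104 (c : Nat) : Nat := @Bool.rec (fun _ => Nat) (Btab_102) (Btab_103) (Nat.ble 103 c)
noncomputable def Btab_s_101_104 (c : Nat) : Nat := @Bool.rec (fun _ => Nat) (Btab_101) (Btab_s_102_104 c) (Nat.ble 102 c)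
noncomputable def Btab_s_105_107 (c : Nat) : Nat := @Bool.rec (fun _ => Nat) (Btab_105) (Btab_106) (Nat.ble 106 c)
noncomputable def Btab_s_104_107 (c : Nat) : Nat := @Bool.rec (fun _ => Nat) (Btab_104) (Btab_s_105_107 c) (Nat.ble 105 c)
noncomputable def Btab_s_101_107 (c : Nat) : Nat := @Bool.rec (fun _ => Nat) (Btab_s_101_104 c) (Btab_s_104_107 c) (Nat.ble 104 c)
noncomputable def Btab_s_108_110 (c : Nat) : Nat := @Bool.rec (fun _ => Nat) (Btab_108) (Btab_109) (Nat.ble 109 c)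
noncomputable def Btab_s_107_110 (c : Nat) : Nat := @Bool.rec (fun _ => Nat) (Btab_107) (Btab_s_108_110 c) (Nat.ble 108 c)
noncomputable def Btab_s_111_113 (c : Nat) : Nat := @Bool.rec (fun _ => Nat) (Btab_111) (Btab_112) (Nat.ble 112 c)
noncomputable def Btab_s_110_113 (c : Nat) : Nat := @Bool.rec (fun _ => Nat) (Btab_110) (Btab_s_111_113 c) (Nat.ble 111 c)
noncomputable def Btab_s_107_113 (c : Nat) : Nat := @Bool.rec (fun _ => Nat) (Btab_s_107_110 c) (Btab_s_110_113 c) (Nat.ble 110 c)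
noncomputable def Btab_s_101_113 (c : Nat) : Nat := @Bool.rec (fun _ => Nat) (Btab_s_101_107 c) (Btab_s_107_113 c) (Nat.ble 107 c)
noncomputable def Btab_s_114_116 (c : Nat) : Nat := @Bool.rec (fun _ => Nat) (Btab_114) (Btab_115) (Nat.ble 115 c)
noncomputable def Btab_s_113_116 (c : Nat) : Nat := @Bool.rec (fun _ => Nat) (Btab_113) (Btab_s_114_116 c) (Nat.ble 114 c)
noncomputable def Btab_s_117_119 (c : Nat) : Nat := @Bool.rec (fun _ => Nat) (Btab_117) (Btab_118) (Nat.ble 118 c)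
noncomputable def Btab_s_116_119 (c : Nat) : Nat := @Bool.rec (fun _ => Nat) (Btab_116) (Btab_s_117_119 c) (Nat.ble 117 c)
noncomputable def Btab_s_113_119 (c : Nat) : Nat := @Bool.rec (fun _ => Nat) (Btab_s_113_116 c) (Btab_s_116_119 c) (Nat.ble 116 c)
noncomputable def Btab_s_120_122 (c : Nat) : Nat := @Bool.rec (fun _ => Nat) (Btab_120) (Btab_121) (Nat.ble 121 c)
noncomputable def Btab_s_119_122 (c : Nat) : Nat := @Bool.rec (fun _ => Nat) (Btab_119) (Btab_s_120_122 c) (Nat.ble 120 c)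
noncomputable def Btab_s_122_124 (c : Nat) : Nat := @Bool.rec (fun _ => Nat) (Btab_122) (Btab_123) (Nat.ble 123 c)
noncomputable def Btab_s_124_126 (c : Nat) : Nat := @Bool.rec (fun _ => Nat) (Btab_124) (Btab_125) (Nat.ble 125 c)
noncomputable def Btab_s_122_126 (c : Nat) : Nat := @Bool.rec (fun _ => Nat) (Btab_s_122_124 c) (Btab_s_124_126 c) (Nat.ble 124 c)
noncomputable def Btab_s_119_126 (c : Nat) : Nat := @Bool.rec (fun _ => Nat) (Btab_s_119_122 c) (Btab_s_122_126 c) (Nat.ble 122 c)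
noncomputable def Btab_s_113_126 (c : Nat) : Nat := @Bool.rec (fun _ => Nat) (Btab_s_113_119 c) (Btab_s_119_126 c) (Nat.ble 119 c)
noncomputable def Btab_s_101_126 (c : Nat) : Nat := @Bool.rec (fun _ => Nat) (Btab_s_101_113 c) (Btab_s_113_126 c) (Nat.ble 113 c)
noncomputable def Btab_s_127_129 (c : Nat) : Nat := @Bool.rec (fun _ => Nat) (Btab_127) (Btab_128) (Nat.ble 128 c)
noncomputable def Btab_s_126_129 (c : Nat) : Nat := @Bool.rec (fun _ => Nat) (Btab_126) (Btab_s_127_129 c) (Nat.ble 127 c)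
noncomputable def Btab_s_130_132 (c : Nat) : Nat := @Bool.rec (fun _ => Nat) (Btab_130) (Btab_131) (Nat.ble 131 c)
noncomputable def Btab_s_129_132 (c : Nat) : Nat := @Bool.rec (fun _ => Nat) (Btab_129) (Btab_s_130_132 c) (Nat.ble 130 c)
noncomputable def Btab_s_126_132 (c : Nat) : Nat := @Bool.rec (fun _ => Nat) (Btab_s_126_129 c) (Btab_s_129_132 c) (Nat.ble 129 c)
noncomputable def Btab_s_133_135 (c : Nat) : Nat := @Bool.rec (fun _ => Nat) (Btab_133) (Btab_134) (Nat.ble 134 c)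
noncomputable def Btab_s_132_135 (c : Nat) : Nat := @Bool.rec (fun _ => Nat) (Btab_132) (Btab_s_133_135 c) (Nat.ble 133 c)
noncomputable def Btab_s_135_137 (c : Nat) : Nat := @Bool.rec (fun _ => Nat) (Btab_135) (Btab_136) (Nat.ble 136 c)
noncomputable def Btab_s_137_139 (c : Nat) : Nat := @Bool.rec (fun _ => Nat) (Btab_137) (Btab_138) (Nat.ble 138 c)
noncomputable def Btab_s_135_139 (c : Nat) : Nat := @Bool.rec (fun _ => Nat) (Btab_s_135_137 c) (Btab_s_137_139 c) (Nat.ble 137 c)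
noncomputable def Btab_s_132_139 (c : Nat) : Nat := @Bool.rec (fun _ => Nat) (Btab_s_132_135 c) (Btab_s_135_139 c) (Nat.ble 135 c)
noncomputable def Btab_s_126_139 (c : Nat) : Nat := @Bool.rec (fun _ => Nat) (Btab_s_126_132 c) (Btab_s_132_139 c) (Nat.ble 132 c)
noncomputable def Btab_s_140_142 (c : Nat) : Nat := @Bool.rec (fun _ => Nat) (Btab_140) (Btab_141) (Nat.ble 141 c)
noncomputable def Btab_s_139_142 (c : Nat) : Nat := @Bool.rec (fun _ => Nat) (Btab_139) (Btab_s_140_142 c) (Nat.ble 140 c)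
noncomputable def Btab_s_143_145 (c : Nat) : Nat := @Bool.rec (fun _ => Nat) (Btab_143) (Btab_144) (Nat.ble 144 c)
noncomputable def Btab_s_142_145 (c : Nat) : Nat := @Bool.rec (fun _ => Nat) (Btab_142) (Btab_s_143_145 c) (Nat.ble 143 c)
noncomputable def Btab_s_139_145 (c : Nat) : Nat := @Bool.rec (fun _ => Nat) (Btab_s_139_142 c) (Btab_s_142_145 c) (Nat.ble 142 c)
noncomputable def Btab_s_146_148 (c : Nat) : Nat := @Bool.rec (fun _ => Nat) (Btab_146) (Btab_147) (Nat.ble 147 c)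
noncomputable def Btab_s_145_148 (c : Nat) : Nat := @Bool.rec (fun _ => Nat) (Btab_145) (Btab_s_146_148 c) (Nat.ble 146 c)
noncomputable def Btab_s_148_150 (c : Nat) : Nat := @Bool.rec (fun _ => Nat) (Btab_148) (Btab_149) (Nat.ble 149 c)
noncomputable def Btab_s_150_152 (c : Nat) : Nat := @Bool.rec (fun _ => Nat) (Btab_150) (Btab_151) (Nat.ble 151 c)
noncomputable def Btab_s_148_152 (c : Nat) : Nat := @Bool.rec (fun _ => Nat) (Btab_s_148_150 c) (Btab_s_150_152 c) (Nat.ble 150 c)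
noncomputable def Btab_s_145_152 (c : Nat) : Nat := @Bool.rec (fun _ => Nat) (Btab_s_145_148 c) (Btab_s_148_152 c) (Nat.ble 148 c)
noncomputable def Btab_s_139_152 (c : Nat) : Nat := @Bool.rec (fun _ => Nat) (Btab_s_139_145 c) (Btab_s_145_152 c) (Nat.ble 145 c)
noncomputable def Btab_s_126_152 (c : Nat) : Nat := @Bool.rec (fun _ => Nat) (Btab_s_126_139 c) (Btab_s_139_152 c) (Nat.ble 139 c)
noncomputable def Btab_s_101_152 (c : Nat) : Nat := @Bool.rec (fun _ => Nat) (Btab_s_101_126 c) (Btab_s_126_152 c) (Nat.ble 126 c)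
noncomputable def Btab_s_153_155 (c : Nat) : Nat := @Bool.rec (fun _ => Nat) (Btab_153) (Btab_154) (Nat.ble 154 c)
noncomputable def Btab_s_152_155 (c : Nat) : Nat := @Bool.rec (fun _ => Nat) (Btab_152) (Btab_s_153_155 c) (Nat.ble 153 c)
noncomputable def Btab_s_156_158 (c : Nat) : Nat := @Bool.rec (fun _ => Nat) (Btab_156) (Btab_157) (Nat.ble 157 c)
noncomputable def Btab_s_155_158 (c : Nat) : Nat := @Bool.rec (fun _ => Nat) (Btab_155) (Btab_s_156_158 c) (Nat.ble 156 c)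
noncomputable def Btab_s_152_158 (c : Nat) : Nat := @Bool.rec (fun _ => Nat) (Btab_s_152_155 c) (Btab_s_155_158 c) (Nat.ble 155 c)
noncomputable def Btab_s_159_161 (c : Nat) : Nat := @Bool.rec (fun _ => Nat) (Btab_159) (Btab_160) (Nat.ble 160 c)
noncomputable def Btab_s_158_161 (c : Nat) : Nat := @Bool.rec (fun _ => Nat) (Btab_158) (Btab_s_159_161 c) (Nat.ble 159 c)
noncomputable def Btab_s_162_164 (c : Nat) : Nat := @Bool.rec (fun _ => Nat) (Btab_162) (Btab_163) (Nat.ble 163 c)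
noncomputable def Btab_s_161_164 (c : Nat) : Nat := @Bool.rec (fun _ => Nat) (Btab_161) (Btab_s_162_164 c) (Nat.ble 162 c)
noncomputable def Btab_s_158_164 (c : Nat) : Nat := @Bool.rec (fun _ => Nat) (Btab_s_158_161 c) (Btab_s_161_164 c) (Nat.ble 161 c)
noncomputable def Btab_s_152_164 (c : Nat) : Nat := @Bool.rec (fun _ => Nat) (Btab_s_152_158 c) (Btab_s_158_164 c) (Nat.ble 158 c)
noncomputable def Btab_s_165_167 (c : Nat) : Nat := @Bool.rec (fun _ => Nat) (Btab_165) (Btab_166) (Nat.ble 166 c)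
noncomputable def Btab_s_164_167 (c : Nat) : Nat := @Bool.rec (fun _ => Nat) (Btab_164) (Btab_s_165_167 c) (Nat.ble 165 c)
noncomputable def Btab_s_168_170 (c : Nat) : Nat := @Bool.rec (fun _ => Nat) (Btab_168) (Btab_169) (Nat.ble 169 c)
noncomputable def Btab_s_167_170 (c : Nat) : Nat := @Bool.rec (fun _ => Nat) (Btab_167) (Btab_s_168_170 c) (Nat.ble 168 c)
noncomputable def Btab_s_164_170 (c : Nat) : Nat := @Bool.rec (fun _ => Nat) (Btab_s_164_167 c) (Btab_s_167_170 c) (Nat.ble 167 c)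
noncomputable def Btab_s_171_173 (c : Nat) : Nat := @Bool.rec (fun _ => Nat) (Btab_171) (Btab_172) (Nat.ble 172 c)
noncomputable def Btab_s_170_173 (c : Nat) : Nat := @Bool.rec (fun _ => Nat) (Btab_170) (Btab_s_171_173 c) (Nat.ble 171 c)
noncomputable def Btab_s_173_175 (c : Nat) : Nat := @Bool.rec (fun _ => Nat) (Btab_173) (Btab_174) (Nat.ble 174 c)
noncomputable def Btab_s_175_177 (c : Nat) : Nat := @Bool.rec (fun _ => Nat) (Btab_175) (Btab_176) (Nat.ble 176 c)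
noncomputable def Btab_s_173_177 (c : Nat) : Nat := @Bool.rec (fun _ => Nat) (Btab_s_173_175 c) (Btab_s_175_177 c) (Nat.ble 175 c)
noncomputable def Btab_s_170_177 (c : Nat) : Nat := @Bool.rec (fun _ => Nat) (Btab_s_170_173 c) (Btab_s_173_177 c) (Nat.ble 173 c)
noncomputable def Btab_s_164_177 (c : Nat) : Nat := @Bool.rec (fun _ => Nat) (Btab_s_164_170 c) (Btab_s_170_177 c) (Nat.ble 170 c)
noncomputable def Btab_s_152_177 (c : Nat) : Nat := @Bool.rec (fun _ => Nat) (Btab_s_152_164 c) (Btab_s_164_177 c) (Nat.ble 164 c)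
noncomputable def Btab_s_178_180 (c : Nat) : Nat := @Bool.rec (fun _ => Nat) (Btab_178) (Btab_179) (Nat.ble 179 c)
noncomputable def Btab_s_177_180 (c : Nat) : Nat := @Bool.rec (fun _ => Nat) (Btab_177) (Btab_s_178_180 c) (Nat.ble 178 c)
noncomputable def Btab_s_181_183 (c : Nat) : Nat := @Bool.rec (fun _ => Nat) (Btab_181) (Btab_182) (Nat.ble 182 c)
noncomputable def Btab_s_180_183 (c : Nat) : Nat := @Bool.rec (fun _ => Nat) (Btab_180) (Btab_s_181_183 c) (Nat.ble 181 c)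
noncomputable def Btab_s_177_183 (c : Nat) : Nat := @Bool.rec (fun _ => Nat) (Btab_s_177_180 c) (Btab_s_180_183 c) (Nat.ble 180 c)
noncomputable def Btab_s_184_186 (c : Nat) : Nat := @Bool.rec (fun _ => Nat) (Btab_184) (Btab_185) (Nat.ble 185 c)
noncomputable def Btab_s_183_186 (c : Nat) : Nat := @Bool.rec (fun _ => Nat) (Btab_183) (Btab_s_184_186 c) (Nat.ble 184 c)
noncomputable def Btab_s_186_188 (c : Nat) : Nat := @Bool.rec (fun _ => Nat) (Btab_186) (Btab_187) (Nat.ble 187 c)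
noncomputable def Btab_s_188_190 (c : Nat) : Nat := @Bool.rec (fun _ => Nat) (Btab_188) (Btab_189) (Nat.ble 189 c)
noncomputable def Btab_s_186_190 (c : Nat) : Nat := @Bool.rec (fun _ => Nat) (Btab_s_186_188 c) (Btab_s_188_190 c) (Nat.ble 188 c)
noncomputable def Btab_s_183_190 (c : Nat) : Nat := @Bool.rec (fun _ => Nat) (Btab_s_183_186 c) (Btab_s_186_190 c) (Nat.ble 186 c)
noncomputable def Btab_s_177_190 (c : Nat) : Nat := @Bool.rec (fun _ => Nat) (Btab_s_177_183 c) (Btab_s_183_190 c) (Nat.ble 183 c)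
noncomputable def Btab_s_191_193 (c : Nat) : Nat := @Bool.rec (fun _ => Nat) (Btab_191) (Btab_192) (Nat.ble 192 c)
noncomputable def Btab_s_190_193 (c : Nat) : Nat := @Bool.rec (fun _ => Nat) (Btab_190) (Btab_s_191_193 c) (Nat.ble 191 c)
noncomputable def Btab_s_194_196 (c : Nat) : Nat := @Bool.rec (fun _ => Nat) (Btab_194) (Btab_195) (Nat.ble 195 c)
noncomputable def Btab_s_193_196 (c : Nat) : Nat := @Bool.rec (fun _ => Nat) (Btab_193) (Btab_s_194_196 c) (Nat.ble 194 c)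
noncomputable def Btab_s_190_196 (c : Nat) : Nat := @Bool.rec (fun _ => Nat) (Btab_s_190_193 c) (Btab_s_193_196 c) (Nat.ble 193 c)
noncomputable def Btab_s_197_199 (c : Nat) : Nat := @Bool.rec (fun _ => Nat) (Btab_197) (Btab_198) (Nat.ble 198 c)
noncomputable def Btab_s_196_199 (c : Nat) : Nat := @Bool.rec (fun _ => Nat) (Btab_196) (Btab_s_197_199 c) (Nat.ble 197 c)
noncomputable def Btab_s_199_201 (c : Nat) : Nat := @Bool.rec (fun _ => Nat) (Btab_199) (Btab_200) (Nat.ble 200 c)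
noncomputable def Btab_s_201_203 (c : Nat) : Nat := @Bool.rec (fun _ => Nat) (Btab_201) (Btab_202) (Nat.ble 202 c)
noncomputable def Btab_s_199_203 (c : Nat) : Nat := @Bool.rec (fun _ => Nat) (Btab_s_199_201 c) (Btab_s_201_203 c) (Nat.ble 201 c)
noncomputable def Btab_s_196_203 (c : Nat) : Nat := @Bool.rec (fun _ => Nat) (Btab_s_196_199 c) (Btab_s_199_203 c) (Nat.ble 199 c)
noncomputable def Btab_s_190_203 (c : Nat) : Nat := @Bool.rec (fun _ => Nat) (Btab_s_190_196 c) (Btab_s_196_203 c) (Nat.ble 196 c)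
noncomputable def Btab_s_177_203 (c : Nat) : Nat := @Bool.rec (fun _ => Nat) (Btab_s_177_190 c) (Btab_s_190_203 c) (Nat.ble 190 c)
noncomputable def Btab_s_152_203 (c : Nat) : Nat := @Bool.rec (fun _ => Nat) (Btab_s_152_177 c) (Btab_s_177_203 c) (Nat.ble 177 c)
noncomputable def Btab_s_101_203 (c : Nat) : Nat := @Bool.rec (fun _ => Nat) (Btab_s_101_152 c) (Btab_s_152_203 c) (Nat.ble 152 c)
noncomputable def Btab_s_0_203 (c : Nat) : Nat := @Bool.rec (fun _ => Nat) (Btab_s_0_101 c) (Btab_s_101_203 c) (Nat.ble 101 c)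
noncomputable def Btab_s_204_206 (c : Nat) : Nat := @Bool.rec (fun _ => Nat) (Btab_204) (Btab_205) (Nat.ble 205 c)
noncomputable def Btab_s_203_206 (c : Nat) : Nat := @Bool.rec (fun _ => Nat) (Btab_203) (Btab_s_204_206 c) (Nat.ble 204 c)
noncomputable def Btab_s_207_209 (c : Nat) : Nat := @Bool.rec (fun _ => Nat) (Btab_207) (Btab_208) (Nat.ble 208 c)
noncomputable def Btab_s_206_209 (c : Nat) : Nat := @Bool.rec (fun _ => Nat) (Btab_206) (Btab_s_207_209 c) (Nat.ble 207 c)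
noncomputable def Btab_s_203_209 (c : Nat) : Nat := @Bool.rec (fun _ => Nat) (Btab_s_203_206 c) (Btab_s_206_209 c) (Nat.ble 206 c)
noncomputable def Btab_s_210_212 (c : Nat) : Nat := @Bool.rec (fun _ => Nat) (Btab_210) (Btab_211) (Nat.ble 211 c)
noncomputable def Btab_s_209_212 (c : Nat) : Nat := @Bool.rec (fun _ => Nat) (Btab_209) (Btab_s_210_212 c) (Nat.ble 210 c)
noncomputable def Btab_s_213_215 (c : Nat) : Nat := @Bool.rec (fun _ => Nat) (Btab_213) (Btab_214) (Nat.ble 214 c)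
noncomputable def Btab_s_212_215 (c : Nat) : Nat := @Bool.rec (fun _ => Nat) (Btab_212) (Btab_s_213_215 c) (Nat.ble 213 c)
noncomputable def Btab_s_209_215 (c : Nat) : Nat := @Bool.rec (fun _ => Nat) (Btab_s_209_212 c) (Btab_s_212_215 c) (Nat.ble 212 c)
noncomputable def Btab_s_203_215 (c : Nat) : Nat := @Bool.rec (fun _ => Nat) (Btab_s_203_209 c) (Btab_s_209_215 c) (Nat.ble 209 c)
noncomputable def Btab_s_216_218 (c : Nat) : Nat := @Bool.rec (fun _ => Nat) (Btab_216) (Btab_217) (Nat.ble 217 c)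
noncomputable def Btab_s_215_218 (c : Nat) : Nat := @Bool.rec (fun _ => Nat) (Btab_215) (Btab_s_216_218 c) (Nat.ble 216 c)
noncomputable def Btab_s_219_221 (c : Nat) : Nat := @Bool.rec (fun _ => Nat) (Btab_219) (Btab_220) (Nat.ble 220 c)
noncomputable def Btab_s_218_221 (c : Nat) : Nat := @Bool.rec (fun _ => Nat) (Btab_218) (Btab_s_219_221 c) (Nat.ble 219 c)
noncomputable def Btab_s_215_221 (c : Nat) : Nat := @Bool.rec (fun _ => Nat) (Btab_s_215_218 c) (Btab_s_218_221 c) (Nat.ble 218 c)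
noncomputable def Btab_s_222_224 (c : Nat) : Nat := @Bool.rec (fun _ => Nat) (Btab_222) (Btab_223) (Nat.ble 223 c)
noncomputable def Btab_s_221_224 (c : Nat) : Nat := @Bool.rec (fun _ => Nat) (Btab_221) (Btab_s_222_224 c) (Nat.ble 222 c)
noncomputable def Btab_s_224_226 (c : Nat) : Nat := @Bool.rec (fun _ => Nat) (Btab_224) (Btab_225) (Nat.ble 225 c)
noncomputable def Btab_s_226_228 (c : Nat) : Nat := @Bool.rec (fun _ => Nat) (Btab_226) (Btab_227) (Nat.ble 227 c)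
noncomputable def Btab_s_224_228 (c : Nat) : Nat := @Bool.rec (fun _ => Nat) (Btab_s_224_226 c) (Btab_s_226_228 c) (Nat.ble 226 c)
noncomputable def Btab_s_221_228 (c : Nat) : Nat := @Bool.rec (fun _ => Nat) (Btab_s_221_224 c) (Btab_s_224_228 c) (Nat.ble 224 c)
noncomputable def Btab_s_215_228 (c : Nat) : Nat := @Bool.rec (fun _ => Nat) (Btab_s_215_221 c) (Btab_s_221_228 c) (Nat.ble 221 c)
noncomputable def Btab_s_203_228 (c : Nat) : Nat := @Bool.rec (fun _ => Nat) (Btab_s_203_215 c) (Btab_s_215_228 c) (Nat.ble 215 c)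
noncomputable def Btab_s_229_231 (c : Nat) : Nat := @Bool.rec (fun _ => Nat) (Btab_229) (Btab_230) (Nat.ble 230 c)
noncomputable def Btab_s_228_231 (c : Nat) : Nat := @Bool.rec (fun _ => Nat) (Btab_228) (Btab_s_229_231 c) (Nat.ble 229 c)
noncomputable def Btab_s_232_234 (c : Nat) : Nat := @Bool.rec (fun _ => Nat) (Btab_232) (Btab_233) (Nat.ble 233 c)
noncomputable def Btab_s_231_234 (c : Nat) : Nat := @Bool.rec (fun _ => Nat) (Btab_231) (Btab_s_232_234 c) (Nat.ble 232 c)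
noncomputable def Btab_s_228_234 (c : Nat) : Nat := @Bool.rec (fun _ => Nat) (Btab_s_228_231 c) (Btab_s_231_234 c) (Nat.ble 231 c)
noncomputable def Btab_s_235_237 (c : Nat) : Nat := @Bool.rec (fun _ => Nat) (Btab_235) (Btab_236) (Nat.ble 236 c)
noncomputable def Btab_s_234_237 (c : Nat) : Nat := @Bool.rec (fun _ => Nat) (Btab_234) (Btab_s_235_237 c) (Nat.ble 235 c)
noncomputable def Btab_s_238_240 (c : Nat) : Nat := @Bool.rec (fun _ => Nat) (Btab_238) (Btab_239) (Nat.ble 239 c)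
noncomputable def Btab_s_237_240 (c : Nat) : Nat := @Bool.rec (fun _ => Nat) (Btab_237) (Btab_s_238_240 c) (Nat.ble 238 c)
noncomputable def Btab_s_234_240 (c : Nat) : Nat := @Bool.rec (fun _ => Nat) (Btab_s_234_237 c) (Btab_s_237_240 c) (Nat.ble 237 c)
noncomputable def Btab_s_228_240 (c : Nat) : Nat := @Bool.rec (fun _ => Nat) (Btab_s_228_234 c) (Btab_s_234_240 c) (Nat.ble 234 c)
noncomputable def Btab_s_241_243 (c : Nat) : Nat := @Bool.rec (fun _ => Nat) (Btab_241) (Btab_242) (Nat.ble 242 c)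
noncomputable def Btab_s_240_243 (c : Nat) : Nat := @Bool.rec (fun _ => Nat) (Btab_240) (Btab_s_241_243 c) (Nat.ble 241 c)
noncomputable def Btab_s_244_246 (c : Nat) : Nat := @Bool.rec (fun _ => Nat) (Btab_244) (Btab_245) (Nat.ble 245 c)
noncomputable def Btab_s_243_246 (c : Nat) : Nat := @Bool.rec (fun _ => Nat) (Btab_243) (Btab_s_244_246 c) (Nat.ble 244 c)
noncomputable def Btab_s_240_246 (c : Nat) : Nat := @Bool.rec (fun _ => Nat) (Btab_s_240_243 c) (Btab_s_243_246 c) (Nat.ble 243 c)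
noncomputable def Btab_s_247_249 (c : Nat) : Nat := @Bool.rec (fun _ => Nat) (Btab_247) (Btab_248) (Nat.ble 248 c)
noncomputable def Btab_s_246_249 (c : Nat) : Nat := @Bool.rec (fun _ => Nat) (Btab_246) (Btab_s_247_249 c) (Nat.ble 247 c)
noncomputable def Btab_s_249_251 (c : Nat) : Nat := @Bool.rec (fun _ => Nat) (Btab_249) (Btab_250) (Nat.ble 250 c)
noncomputable def Btab_s_251_253 (c : Nat) : Nat := @Bool.rec (fun _ => Nat) (Btab_251) (Btab_252) (Nat.ble 252 c)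
noncomputable def Btab_s_249_253 (c : Nat) : Nat := @Bool.rec (fun _ => Nat) (Btab_s_249_251 c) (Btab_s_251_253 c) (Nat.ble 251 c)
noncomputable def Btab_s_246_253 (c : Nat) : Nat := @Bool.rec (fun _ => Nat) (Btab_s_246_249 c) (Btab_s_249_253 c) (Nat.ble 249 c)
noncomputable def Btab_s_240_253 (c : Nat) : Nat := @Bool.rec (fun _ => Nat) (Btab_s_240_246 c) (Btab_s_246_253 c) (Nat.ble 246 c)
noncomputable def Btab_s_228_253 (c : Nat) : Nat := @Bool.rec (fun _ => Nat) (Btab_s_228_240 c) (Btab_s_240_253 c) (Nat.ble 240 c)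
noncomputable def Btab_s_203_253 (c : Nat) : Nat := @Bool.rec (fun _ => Nat) (Btab_s_203_228 c) (Btab_s_228_253 c) (Nat.ble 228 c)
noncomputable def Btab_s_254_256 (c : Nat) : Nat := @Bool.rec (fun _ => Nat) (Btab_254) (Btab_255) (Nat.ble 255 c)
noncomputable def Btab_s_253_256 (c : Nat) : Nat := @Bool.rec (fun _ => Nat) (Btab_253) (Btab_s_254_256 c) (Nat.ble 254 c)
noncomputable def Btab_s_257_259 (c : Nat) : Nat := @Bool.rec (fun _ => Nat) (Btab_257) (Btab_258) (Nat.ble 258 c)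
noncomputable def Btab_s_256_259 (c : Nat) : Nat := @Bool.rec (fun _ => Nat) (Btab_256) (Btab_s_257_259 c) (Nat.ble 257 c)
noncomputable def Btab_s_253_259 (c : Nat) : Nat := @Bool.rec (fun _ => Nat) (Btab_s_253_256 c) (Btab_s_256_259 c) (Nat.ble 256 c)
noncomputable def Btab_s_260_262 (c : Nat) : Nat := @Bool.rec (fun _ => Nat) (Btab_260) (Btab_261) (Nat.ble 261 c)
noncomputable def Btab_s_259_262 (c : Nat) : Nat := @Bool.rec (fun _ => Nat) (Btab_259) (Btab_s_260_262 c) (Nat.ble 260 c)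
noncomputable def Btab_s_263_265 (c : Nat) : Nat := @Bool.rec (fun _ => Nat) (Btab_263) (Btab_264) (Nat.ble 264 c)
noncomputable def Btab_s_262_265 (c : Nat) : Nat := @Bool.rec (fun _ => Nat) (Btab_262) (Btab_s_263_265 c) (Nat.ble 263 c)
noncomputable def Btab_s_259_265 (c : Nat) : Nat := @Bool.rec (fun _ => Nat) (Btab_s_259_262 c) (Btab_s_262_265 c) (Nat.ble 262 c)
noncomputable def Btab_s_253_265 (c : Nat) : Nat := @Bool.rec (fun _ => Nat) (Btab_s_253_259 c) (Btab_s_259_265 c) (Nat.ble 259 c)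
noncomputable def Btab_s_266_268 (c : Nat) : Nat := @Bool.rec (fun _ => Nat) (Btab_266) (Btab_267) (Nat.ble 267 c)
noncomputable def Btab_s_265_268 (c : Nat) : Nat := @Bool.rec (fun _ => Nat) (Btab_265) (Btab_s_266_268 c) (Nat.ble 266 c)
noncomputable def Btab_s_269_271 (c : Nat) : Nat := @Bool.rec (fun _ => Nat) (Btab_269) (Btab_270) (Nat.ble 270 c)
noncomputable def Btab_s_268_271 (c : Nat) : Nat := @Bool.rec (fun _ => Nat) (Btab_268) (Btab_s_269_271 c) (Nat.ble 269 c)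
noncomputable def Btab_s_265_271 (c : Nat) : Nat := @Bool.rec (fun _ => Nat) (Btab_s_265_268 c) (Btab_s_268_271 c) (Nat.ble 268 c)
noncomputable def Btab_s_272_274 (c : Nat) : Nat := @Bool.rec (fun _ => Nat) (Btab_272) (Btab_273) (Nat.ble 273 c)
noncomputable def Btab_s_271_274 (c : Nat) : Nat := @Bool.rec (fun _ => Nat) (Btab_271) (Btab_s_272_274 c) (Nat.ble 272 c)
noncomputable def Btab_s_274_276 (c : Nat) : Nat := @Bool.rec (fun _ => Nat) (Btab_274) (Btab_275) (Nat.ble 275 c)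
noncomputable def Btab_s_276_278 (c : Nat) : Nat := @Bool.rec (fun _ => Nat) (Btab_276) (Btab_277) (Nat.ble 277 c)
noncomputable def Btab_s_274_278 (c : Nat) : Nat := @Bool.rec (fun _ => Nat) (Btab_s_274_276 c) (Btab_s_276_278 c) (Nat.ble 276 c)
noncomputable def Btab_s_271_278 (c : Nat) : Nat := @Bool.rec (fun _ => Nat) (Btab_s_271_274 c) (Btab_s_274_278 c) (Nat.ble 274 c)
noncomputable def Btab_s_265_278 (c : Nat) : Nat := @Bool.rec (fun _ => Nat) (Btab_s_265_271 c) (Btab_s_271_278 c) (Nat.ble 271 c)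
noncomputable def Btab_s_253_278 (c : Nat) : Nat := @Bool.rec (fun _ => Nat) (Btab_s_253_265 c) (Btab_s_265_278 c) (Nat.ble 265 c)
noncomputable def Btab_s_279_281 (c : Nat) : Nat := @Bool.rec (fun _ => Nat) (Btab_279) (Btab_280) (Nat.ble 280 c)
noncomputable def Btab_s_278_281 (c : Nat) : Nat := @Bool.rec (fun _ => Nat) (Btab_278) (Btab_s_279_281 c) (Nat.ble 279 c)
noncomputable def Btab_s_282_284 (c : Nat) : Nat := @Bool.rec (fun _ => Nat) (Btab_282) (Btab_283) (Nat.ble 283 c)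
noncomputable def Btab_s_281_284 (c : Nat) : Nat := @Bool.rec (fun _ => Nat) (Btab_281) (Btab_s_282_284 c) (Nat.ble 282 c)
noncomputable def Btab_s_278_284 (c : Nat) : Nat := @Bool.rec (fun _ => Nat) (Btab_s_278_281 c) (Btab_s_281_284 c) (Nat.ble 281 c)
noncomputable def Btab_s_285_287 (c : Nat) : Nat := @Bool.rec (fun _ => Nat) (Btab_285) (Btab_286) (Nat.ble 286 c)
noncomputable def Btab_s_284_287 (c : Nat) : Nat := @Bool.rec (fun _ => Nat) (Btab_284) (Btab_s_285_287 c) (Nat.ble 285 c)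
noncomputable def Btab_s_287_289 (c : Nat) : Nat := @Bool.rec (fun _ => Nat) (Btab_287) (Btab_288) (Nat.ble 288 c)
noncomputable def Btab_s_289_291 (c : Nat) : Nat := @Bool.rec (fun _ => Nat) (Btab_289) (Btab_290) (Nat.ble 290 c)
noncomputable def Btab_s_287_291 (c : Nat) : Nat := @Bool.rec (fun _ => Nat) (Btab_s_287_289 c) (Btab_s_289_291 c) (Nat.ble 289 c)
noncomputable def Btab_s_284_291 (c : Nat) : Nat := @Bool.rec (fun _ => Nat) (Btab_s_284_287 c) (Btab_s_287_291 c) (Nat.ble 287 c)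
noncomputable def Btab_s_278_291 (c : Nat) : Nat := @Bool.rec (fun _ => Nat) (Btab_s_278_284 c) (Btab_s_284_291 c) (Nat.ble 284 c)
noncomputable def Btab_s_292_294 (c : Nat) : Nat := @Bool.rec (fun _ => Nat) (Btab_292) (Btab_293) (Nat.ble 293 c)
noncomputable def Btab_s_291_294 (c : Nat) : Nat := @Bool.rec (fun _ => Nat) (Btab_291) (Btab_s_292_294 c) (Nat.ble 292 c)
noncomputable def Btab_s_295_297 (c : Nat) : Nat := @Bool.rec (fun _ => Nat) (Btab_295) (Btab_296) (Nat.ble 296 c)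
noncomputable def Btab_s_294_297 (c : Nat) : Nat := @Bool.rec (fun _ => Nat) (Btab_294) (Btab_s_295_297 c) (Nat.ble 295 c)
noncomputable def Btab_s_291_297 (c : Nat) : Nat := @Bool.rec (fun _ => Nat) (Btab_s_291_294 c) (Btab_s_294_297 c) (Nat.ble 294 c)
noncomputable def Btab_s_298_300 (c : Nat) : Nat := @Bool.rec (fun _ => Nat) (Btab_298) (Btab_299) (Nat.ble 299 c)
noncomputable def Btab_s_297_300 (c : Nat) : Nat := @Bool.rec (fun _ => Nat) (Btab_297) (Btab_s_298_300 c) (Nat.ble 298 c)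
noncomputable def Btab_s_300_302 (c : Nat) : Nat := @Bool.rec (fun _ => Nat) (Btab_300) (Btab_301) (Nat.ble 301 c)
noncomputable def Btab_s_302_304 (c : Nat) : Nat := @Bool.rec (fun _ => Nat) (Btab_302) (Btab_303) (Nat.ble 303 c)
noncomputable def Btab_s_300_304 (c : Nat) : Nat := @Bool.rec (fun _ => Nat) (Btab_s_300_302 c) (Btab_s_302_304 c) (Nat.ble 302 c)
noncomputable def Btab_s_297_304 (c : Nat) : Nat := @Bool.rec (fun _ => Nat) (Btab_s_297_300 c) (Btab_s_300_304 c) (Nat.ble 300 c)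
noncomputable def Btab_s_291_304 (c : Nat) : Nat := @Bool.rec (fun _ => Nat) (Btab_s_291_297 c) (Btab_s_297_304 c) (Nat.ble 297 c)
noncomputable def Btab_s_278_304 (c : Nat) : Nat := @Bool.rec (fun _ => Nat) (Btab_s_278_291 c) (Btab_s_291_304 c) (Nat.ble 291 c)
noncomputable def Btab_s_253_304 (c : Nat) : Nat := @Bool.rec (fun _ => Nat) (Btab_s_253_278 c) (Btab_s_278_304 c) (Nat.ble 278 c)
noncomputable def Btab_s_203_304 (c : Nat) : Nat := @Bool.rec (fun _ => Nat) (Btab_s_203_253 c) (Btab_s_253_304 c) (Nat.ble 253 c)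
noncomputable def Btab_s_305_307 (c : Nat) : Nat := @Bool.rec (fun _ => Nat) (Btab_305) (Btab_306) (Nat.ble 306 c)
noncomputable def Btab_s_304_307 (c : Nat) : Nat := @Bool.rec (fun _ => Nat) (Btab_304) (Btab_s_305_307 c) (Nat.ble 305 c)
noncomputable def Btab_s_308_310 (c : Nat) : Nat := @Bool.rec (fun _ => Nat) (Btab_308) (Btab_309) (Nat.ble 309 c)
noncomputable def Btab_s_307_310 (c : Nat) : Nat := @Bool.rec (fun _ => Nat) (Btab_307) (Btab_s_308_310 c) (Nat.ble 308 c)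
noncomputable def Btab_s_304_310 (c : Nat) : Nat := @Bool.rec (fun _ => Nat) (Btab_s_304_307 c) (Btab_s_307_310 c) (Nat.ble 307 c)
noncomputable def Btab_s_311_313 (c : Nat) : Nat := @Bool.rec (fun _ => Nat) (Btab_311) (Btab_312) (Nat.ble 312 c)
noncomputable def Btab_s_310_313 (c : Nat) : Nat := @Bool.rec (fun _ => Nat) (Btab_310) (Btab_s_311_313 c) (Nat.ble 311 c)
noncomputable def Btab_s_314_316 (c : Nat) : Nat := @Bool.rec (fun _ => Nat) (Btab_314) (Btab_315) (Nat.ble 315 c)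
noncomputable def Btab_s_313_316 (c : Nat) : Nat := @Bool.rec (fun _ => Nat) (Btab_313) (Btab_s_314_316 c) (Nat.ble 314 c)
noncomputable def Btab_s_310_316 (c : Nat) : Nat := @Bool.rec (fun _ => Nat) (Btab_s_310_313 c) (Btab_s_313_316 c) (Nat.ble 313 c)
noncomputable def Btab_s_304_316 (c : Nat) : Nat := @Bool.rec (fun _ => Nat) (Btab_s_304_310 c) (Btab_s_310_316 c) (Nat.ble 310 c)
noncomputable def Btab_s_317_319 (c : Nat) : Nat := @Bool.rec (fun _ => Nat) (Btab_317) (Btab_318) (Nat.ble 318 c)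
noncomputable def Btab_s_316_319 (c : Nat) : Nat := @Bool.rec (fun _ => Nat) (Btab_316) (Btab_s_317_319 c) (Nat.ble 317 c)
noncomputable def Btab_s_320_322 (c : Nat) : Nat := @Bool.rec (fun _ => Nat) (Btab_320) (Btab_321) (Nat.ble 321 c)
noncomputable def Btab_s_319_322 (c : Nat) : Nat := @Bool.rec (fun _ => Nat) (Btab_319) (Btab_s_320_322 c) (Nat.ble 320 c)
noncomputable def Btab_s_316_322 (c : Nat) : Nat := @Bool.rec (fun _ => Nat) (Btab_s_316_319 c) (Btab_s_319_322 c) (Nat.ble 319 c)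
noncomputable def Btab_s_323_325 (c : Nat) : Nat := @Bool.rec (fun _ => Nat) (Btab_323) (Btab_324) (Nat.ble 324 c)
noncomputable def Btab_s_322_325 (c : Nat) : Nat := @Bool.rec (fun _ => Nat) (Btab_322) (Btab_s_323_325 c) (Nat.ble 323 c)
noncomputable def Btab_s_325_327 (c : Nat) : Nat := @Bool.rec (fun _ => Nat) (Btab_325) (Btab_326) (Nat.ble 326 c)
noncomputable def Btab_s_327_329 (c : Nat) : Nat := @Bool.rec (fun _ => Nat) (Btab_327) (Btab_328) (Nat.ble 328 c)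
noncomputable def Btab_s_325_329 (c : Nat) : Nat := @Bool.rec (fun _ => Nat) (Btab_s_325_327 c) (Btab_s_327_329 c) (Nat.ble 327 c)
noncomputable def Btab_s_322_329 (c : Nat) : Nat := @Bool.rec (fun _ => Nat) (Btab_s_322_325 c) (Btab_s_325_329 c) (Nat.ble 325 c)
noncomputable def Btab_s_316_329 (c : Nat) : Nat := @Bool.rec (fun _ => Nat) (Btab_s_316_322 c) (Btab_s_322_329 c) (Nat.ble 322 c)
noncomputable def Btab_s_304_329 (c : Nat) : Nat := @Bool.rec (fun _ => Nat) (Btab_s_304_316 c) (Btab_s_316_329 c) (Nat.ble 316 c)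
noncomputable def Btab_s_330_332 (c : Nat) : Nat := @Bool.rec (fun _ => Nat) (Btab_330) (Btab_331) (Nat.ble 331 c)
noncomputable def Btab_s_329_332 (c : Nat) : Nat := @Bool.rec (fun _ => Nat) (Btab_329) (Btab_s_330_332 c) (Nat.ble 330 c)
noncomputable def Btab_s_333_335 (c : Nat) : Nat := @Bool.rec (fun _ => Nat) (Btab_333) (Btab_334) (Nat.ble 334 c)
noncomputable def Btab_s_332_335 (c : Nat) : Nat := @Bool.rec (fun _ => Nat) (Btab_332) (Btab_s_333_335 c) (Nat.ble 333 c)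
noncomputable def Btab_s_329_335 (c : Nat) : Nat := @Bool.rec (fun _ => Nat) (Btab_s_329_332 c) (Btab_s_332_335 c) (Nat.ble 332 c)
noncomputable def Btab_s_336_338 (c : Nat) : Nat := @Bool.rec (fun _ => Nat) (Btab_336) (Btab_337) (Nat.ble 337 c)
noncomputable def Btab_s_335_338 (c : Nat) : Nat := @Bool.rec (fun _ => Nat) (Btab_335) (Btab_s_336_338 c) (Nat.ble 336 c)
noncomputable def Btab_s_338_340 (c : Nat) : Nat := @Bool.rec (fun _ => Nat) (Btab_338) (Btab_339) (Nat.ble 339 c)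
noncomputable def Btab_s_340_342 (c : Nat) : Nat := @Bool.rec (fun _ => Nat) (Btab_340) (Btab_341) (Nat.ble 341 c)
noncomputable def Btab_s_338_342 (c : Nat) : Nat := @Bool.rec (fun _ => Nat) (Btab_s_338_340 c) (Btab_s_340_342 c) (Nat.ble 340 c)
noncomputable def Btab_s_335_342 (c : Nat) : Nat := @Bool.rec (fun _ => Nat) (Btab_s_335_338 c) (Btab_s_338_342 c) (Nat.ble 338 c)
noncomputable def Btab_s_329_342 (c : Nat) : Nat := @Bool.rec (fun _ => Nat) (Btab_s_329_335 c) (Btab_s_335_342 c) (Nat.ble 335 c)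
noncomputable def Btab_s_343_345 (c : Nat) : Nat := @Bool.rec (fun _ => Nat) (Btab_343) (Btab_344) (Nat.ble 344 c)
noncomputable def Btab_s_342_345 (c : Nat) : Nat := @Bool.rec (fun _ => Nat) (Btab_342) (Btab_s_343_345 c) (Nat.ble 343 c)
noncomputable def Btab_s_346_348 (c : Nat) : Nat := @Bool.rec (fun _ => Nat) (Btab_346) (Btab_347) (Nat.ble 347 c)
noncomputable def Btab_s_345_348 (c : Nat) : Nat := @Bool.rec (fun _ => Nat) (Btab_345) (Btab_s_346_348 c) (Nat.ble 346 c)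
noncomputable def Btab_s_342_348 (c : Nat) : Nat := @Bool.rec (fun _ => Nat) (Btab_s_342_345 c) (Btab_s_345_348 c) (Nat.ble 345 c)
noncomputable def Btab_s_349_351 (c : Nat) : Nat := @Bool.rec (fun _ => Nat) (Btab_349) (Btab_350) (Nat.ble 350 c)
noncomputable def Btab_s_348_351 (c : Nat) : Nat := @Bool.rec (fun _ => Nat) (Btab_348) (Btab_s_349_351 c) (Nat.ble 349 c)
noncomputable def Btab_s_351_353 (c : Nat) : Nat := @Bool.rec (fun _ => Nat) (Btab_351) (Btab_352) (Nat.ble 352 c)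
noncomputable def Btab_s_353_355 (c : Nat) : Nat := @Bool.rec (fun _ => Nat) (Btab_353) (Btab_354) (Nat.ble 354 c)
noncomputable def Btab_s_351_355 (c : Nat) : Nat := @Bool.rec (fun _ => Nat) (Btab_s_351_353 c) (Btab_s_353_355 c) (Nat.ble 353 c)
noncomputable def Btab_s_348_355 (c : Nat) : Nat := @Bool.rec (fun _ => Nat) (Btab_s_348_351 c) (Btab_s_351_355 c) (Nat.ble 351 c)
noncomputable def Btab_s_342_355 (c : Nat) : Nat := @Bool.rec (fun _ => Nat) (Btab_s_342_348 c) (Btab_s_348_355 c) (Nat.ble 348 c)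
noncomputable def Btab_s_329_355 (c : Nat) : Nat := @Bool.rec (fun _ => Nat) (Btab_s_329_342 c) (Btab_s_342_355 c) (Nat.ble 342 c)
noncomputable def Btab_s_304_355 (c : Nat) : Nat := @Bool.rec (fun _ => Nat) (Btab_s_304_329 c) (Btab_s_329_355 c) (Nat.ble 329 c)
noncomputable def Btab_s_356_358 (c : Nat) : Nat := @Bool.rec (fun _ => Nat) (Btab_356) (Btab_357) (Nat.ble 357 c)
noncomputable def Btab_s_355_358 (c : Nat) : Nat := @Bool.rec (fun _ => Nat) (Btab_355) (Btab_s_356_358 c) (Nat.ble 356 c)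
noncomputable def Btab_s_359_361 (c : Nat) : Nat := @Bool.rec (fun _ => Nat) (Btab_359) (Btab_360) (Nat.ble 360 c)
noncomputable def Btab_s_358_361 (c : Nat) : Nat := @Bool.rec (fun _ => Nat) (Btab_358) (Btab_s_359_361 c) (Nat.ble 359 c)
noncomputable def Btab_s_355_361 (c : Nat) : Nat := @Bool.rec (fun _ => Nat) (Btab_s_355_358 c) (Btab_s_358_361 c) (Nat.ble 358 c)
noncomputable def Btab_s_362_364 (c : Nat) : Nat := @Bool.rec (fun _ => Nat) (Btab_362) (Btab_363) (Nat.ble 363 c)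
noncomputable def Btab_s_361_364 (c : Nat) : Nat := @Bool.rec (fun _ => Nat) (Btab_361) (Btab_s_362_364 c) (Nat.ble 362 c)
noncomputable def Btab_s_365_367 (c : Nat) : Nat := @Bool.rec (fun _ => Nat) (Btab_365) (Btab_366) (Nat.ble 366 c)
noncomputable def Btab_s_364_367 (c : Nat) : Nat := @Bool.rec (fun _ => Nat) (Btab_364) (Btab_s_365_367 c) (Nat.ble 365 c)
noncomputable def Btab_s_361_367 (c : Nat) : Nat := @Bool.rec (fun _ => Nat) (Btab_s_361_364 c) (Btab_s_364_367 c) (Nat.ble 364 c)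
noncomputable def Btab_s_355_367 (c : Nat) : Nat := @Bool.rec (fun _ => Nat) (Btab_s_355_361 c) (Btab_s_361_367 c) (Nat.ble 361 c)
noncomputable def Btab_s_368_370 (c : Nat) : Nat := @Bool.rec (fun _ => Nat) (Btab_368) (Btab_369) (Nat.ble 369 c)
noncomputable def Btab_s_367_370 (c : Nat) : Nat := @Bool.rec (fun _ => Nat) (Btab_367) (Btab_s_368_370 c) (Nat.ble 368 c)
noncomputable def Btab_s_371_373 (c : Nat) : Nat := @Bool.rec (fun _ => Nat) (Btab_371) (Btab_372) (Nat.ble 372 c)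
noncomputable def Btab_s_370_373 (c : Nat) : Nat := @Bool.rec (fun _ => Nat) (Btab_370) (Btab_s_371_373 c) (Nat.ble 371 c)
noncomputable def Btab_s_367_373 (c : Nat) : Nat := @Bool.rec (fun _ => Nat) (Btab_s_367_370 c) (Btab_s_370_373 c) (Nat.ble 370 c)
noncomputable def Btab_s_374_376 (c : Nat) : Nat := @Bool.rec (fun _ => Nat) (Btab_374) (Btab_375) (Nat.ble 375 c)
noncomputable def Btab_s_373_376 (c : Nat) : Nat := @Bool.rec (fun _ => Nat) (Btab_373) (Btab_s_374_376 c) (Nat.ble 374 c)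
noncomputable def Btab_s_376_378 (c : Nat) : Nat := @Bool.rec (fun _ => Nat) (Btab_376) (Btab_377) (Nat.ble 377 c)
noncomputable def Btab_s_378_380 (c : Nat) : Nat := @Bool.rec (fun _ => Nat) (Btab_378) (Btab_379) (Nat.ble 379 c)
noncomputable def Btab_s_376_380 (c : Nat) : Nat := @Bool.rec (fun _ => Nat) (Btab_s_376_378 c) (Btab_s_378_380 c) (Nat.ble 378 c)
noncomputable def Btab_s_373_380 (c : Nat) : Nat := @Bool.rec (fun _ => Nat) (Btab_s_373_376 c) (Btab_s_376_380 c) (Nat.ble 376 c)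
noncomputable def Btab_s_367_380 (c : Nat) : Nat := @Bool.rec (fun _ => Nat) (Btab_s_367_373 c) (Btab_s_373_380 c) (Nat.ble 373 c)
noncomputable def Btab_s_355_380 (c : Nat) : Nat := @Bool.rec (fun _ => Nat) (Btab_s_355_367 c) (Btab_s_367_380 c) (Nat.ble 367 c)
noncomputable def Btab_s_381_383 (c : Nat) : Nat := @Bool.rec (fun _ => Nat) (Btab_381) (Btab_382) (Nat.ble 382 c)
noncomputable def Btab_s_380_383 (c : Nat) : Nat := @Bool.rec (fun _ => Nat) (Btab_380) (Btab_s_381_383 c) (Nat.ble 381 c)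
noncomputable def Btab_s_384_386 (c : Nat) : Nat := @Bool.rec (fun _ => Nat) (Btab_384) (Btab_385) (Nat.ble 385 c)
noncomputable def Btab_s_383_386 (c : Nat) : Nat := @Bool.rec (fun _ => Nat) (Btab_383) (Btab_s_384_386 c) (Nat.ble 384 c)
noncomputable def Btab_s_380_386 (c : Nat) : Nat := @Bool.rec (fun _ => Nat) (Btab_s_380_383 c) (Btab_s_383_386 c) (Nat.ble 383 c)
noncomputable def Btab_s_387_389 (c : Nat) : Nat := @Bool.rec (fun _ => Nat) (Btab_387) (Btab_388) (Nat.ble 388 c)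
noncomputable def Btab_s_386_389 (c : Nat) : Nat := @Bool.rec (fun _ => Nat) (Btab_386) (Btab_s_387_389 c) (Nat.ble 387 c)
noncomputable def Btab_s_389_391 (c : Nat) : Nat := @Bool.rec (fun _ => Nat) (Btab_389) (Btab_390) (Nat.ble 390 c)
noncomputable def Btab_s_391_393 (c : Nat) : Nat := @Bool.rec (fun _ => Nat) (Btab_391) (Btab_392) (Nat.ble 392 c)
noncomputable def Btab_s_389_393 (c : Nat) : Nat := @Bool.rec (fun _ => Nat) (Btab_s_389_391 c) (Btab_s_391_393 c) (Nat.ble 391 c)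
noncomputable def Btab_s_386_393 (c : Nat) : Nat := @Bool.rec (fun _ => Nat) (Btab_s_386_389 c) (Btab_s_389_393 c) (Nat.ble 389 c)
noncomputable def Btab_s_380_393 (c : Nat) : Nat := @Bool.rec (fun _ => Nat) (Btab_s_380_386 c) (Btab_s_386_393 c) (Nat.ble 386 c)
noncomputable def Btab_s_394_396 (c : Nat) : Nat := @Bool.rec (fun _ => Nat) (Btab_394) (Btab_395) (Nat.ble 395 c)
noncomputable def Btab_s_393_396 (c : Nat) : Nat := @Bool.rec (fun _ => Nat) (Btab_393) (Btab_s_394_396 c) (Nat.ble 394 c)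
noncomputable def Btab_s_397_399 (c : Nat) : Nat := @Bool.rec (fun _ => Nat) (Btab_397) (Btab_398) (Nat.ble 398 c)
noncomputable def Btab_s_396_399 (c : Nat) : Nat := @Bool.rec (fun _ => Nat) (Btab_396) (Btab_s_397_399 c) (Nat.ble 397 c)
noncomputable def Btab_s_393_399 (c : Nat) : Nat := @Bool.rec (fun _ => Nat) (Btab_s_393_396 c) (Btab_s_396_399 c) (Nat.ble 396 c)
noncomputable def Btab_s_400_402 (c : Nat) : Nat := @Bool.rec (fun _ => Nat) (Btab_400) (Btab_401) (Nat.ble 401 c)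
noncomputable def Btab_s_399_402 (c : Nat) : Nat := @Bool.rec (fun _ => Nat) (Btab_399) (Btab_s_400_402 c) (Nat.ble 400 c)
noncomputable def Btab_s_402_404 (c : Nat) : Nat := @Bool.rec (fun _ => Nat) (Btab_402) (Btab_403) (Nat.ble 403 c)
noncomputable def Btab_s_404_406 (c : Nat) : Nat := @Bool.rec (fun _ => Nat) (Btab_404) (Btab_405) (Nat.ble 405 c)
noncomputable def Btab_s_402_406 (c : Nat) : Nat := @Bool.rec (fun _ => Nat) (Btab_s_402_404 c) (Btab_s_404_406 c) (Nat.ble 404 c)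
noncomputable def Btab_s_399_406 (c : Nat) : Nat := @Bool.rec (fun _ => Nat) (Btab_s_399_402 c) (Btab_s_402_406 c) (Nat.ble 402 c)
noncomputable def Btab_s_393_406 (c : Nat) : Nat := @Bool.rec (fun _ => Nat) (Btab_s_393_399 c) (Btab_s_399_406 c) (Nat.ble 399 c)
noncomputable def Btab_s_380_406 (c : Nat) : Nat := @Bool.rec (fun _ => Nat) (Btab_s_380_393 c) (Btab_s_393_406 c) (Nat.ble 393 c)
noncomputable def Btab_s_355_406 (c : Nat) : Nat := @Bool.rec (fun _ => Nat) (Btab_s_355_380 c) (Btab_s_380_406 c) (Nat.ble 380 c)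
noncomputable def Btab_s_304_406 (c : Nat) : Nat := @Bool.rec (fun _ => Nat) (Btab_s_304_355 c) (Btab_s_355_406 c) (Nat.ble 355 c)
noncomputable def Btab_s_203_406 (c : Nat) : Nat := @Bool.rec (fun _ => Nat) (Btab_s_203_304 c) (Btab_s_304_406 c) (Nat.ble 304 c)
noncomputable def Btab_s_0_406 (c : Nat) : Nat := @Bool.rec (fun _ => Nat) (Btab_s_0_203 c) (Btab_s_203_406 c) (Nat.ble 203 c)
noncomputable def Btab (i : Nat) : Nat := rdw 41 2199023255551 (Btab_s_0_406 (Nat.shiftRight i 11)) (Nat.land i 2047)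
noncomputable def Ptab_s_1_3 (c : Nat) : Nat := @Bool.rec (fun _ => Nat) (Ptab_1) (Ptab_2) (Nat.ble 2 c)
noncomputable def Ptab_s_0_3 (c : Nat) : Nat := @Bool.rec (fun _ => Nat) (Ptab_0) (Ptab_s_1_3 c) (Nat.ble 1 c)
noncomputable def Ptab_s_3_5 (c : Nat) : Nat := @Bool.rec (fun _ => Nat) (Ptab_3) (Ptab_4) (Nat.ble 4 c)
noncomputable def Ptab_s_5_7 (c : Nat) : Nat := @Bool.rec (fun _ => Nat) (Ptab_5) (Ptab_6) (Nat.ble 6 c)
noncomputable def Ptab_s_3_7 (c : Nat) : Nat := @Bool.rec (fun _ => Nat) (Ptab_s_3_5 c) (Ptab_s_5_7 c) (Nat.ble 5 c)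
noncomputable def Ptab_s_0_7 (c : Nat) : Nat := @Bool.rec (fun _ => Nat) (Ptab_s_0_3 c) (Ptab_s_3_7 c) (Nat.ble 3 c)
noncomputable def Ptab_s_8_10 (c : Nat) : Nat := @Bool.rec (fun _ => Nat) (Ptab_8) (Ptab_9) (Nat.ble 9 c)
noncomputable def Ptab_s_7_10 (c : Nat) : Nat := @Bool.rec (fun _ => Nat) (Ptab_7) (Ptab_s_8_10 c) (Nat.ble 8 c)
noncomputable def Ptab_s_10_12 (c : Nat) : Nat := @Bool.rec (fun _ => Nat) (Ptab_10) (Ptab_11) (Nat.ble 11 c)
noncomputable def Ptab_s_12_14 (c : Nat) : Nat := @Bool.rec (fun _ => Nat) (Ptab_12) (Ptab_13) (Nat.ble 13 c)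
noncomputable def Ptab_s_10_14 (c : Nat) : Nat := @Bool.rec (fun _ => Nat) (Ptab_s_10_12 c) (Ptab_s_12_14 c) (Nat.ble 12 c)
noncomputable def Ptab_s_7_14 (c : Nat) : Nat := @Bool.rec (fun _ => Nat) (Ptab_s_7_10 c) (Ptab_s_10_14 c) (Nat.ble 10 c)
noncomputable def Ptab_s_0_14 (c : Nat) : Nat := @Bool.rec (fun _ => Nat) (Ptab_s_0_7 c) (Ptab_s_7_14 c) (Nat.ble 7 c)
noncomputable def Ptab_s_15_17 (c : Nat) : Nat := @Bool.rec (fun _ => Nat) (Ptab_15) (Ptab_16) (Nat.ble 16 c)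
noncomputable def Ptab_s_14_17 (c : Nat) : Nat := @Bool.rec (fun _ => Nat) (Ptab_14) (Ptab_s_15_17 c) (Nat.ble 15 c)
noncomputable def Ptab_s_17_19 (c : Nat) : Nat := @Bool.rec (fun _ => Nat) (Ptab_17) (Ptab_18) (Nat.ble 18 c)
noncomputable def Ptab_s_19_21 (c : Nat) : Nat := @Bool.rec (fun _ => Nat) (Ptab_19) (Ptab_20) (Nat.ble 20 c)
noncomputable def Ptab_s_17_21 (c : Nat) : Nat := @Bool.rec (fun _ => Nat) (Ptab_s_17_19 c) (Ptab_s_19_21 c) (Nat.ble 19 c)
noncomputable def Ptab_s_14_21 (c : Nat) : Nat := @Bool.rec (fun _ => Nat) (Ptab_s_14_17 c) (Ptab_s_17_21 c) (Nat.ble 17 c)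
noncomputable def Ptab_s_21_23 (c : Nat) : Nat := @Bool.rec (fun _ => Nat) (Ptab_21) (Ptab_22) (Nat.ble 22 c)
noncomputable def Ptab_s_23_25 (c : Nat) : Nat := @Bool.rec (fun _ => Nat) (Ptab_23) (Ptab_24) (Nat.ble 24 c)
noncomputable def Ptab_s_21_25 (c : Nat) : Nat := @Bool.rec (fun _ => Nat) (Ptab_s_21_23 c) (Ptab_s_23_25 c) (Nat.ble 23 c)
noncomputable def Ptab_s_25_27 (c : Nat) : Nat := @Bool.rec (fun _ => Nat) (Ptab_25) (Ptab_26) (Nat.ble 26 c)
noncomputable def Ptab_s_27_29 (c : Nat) : Nat := @Bool.rec (fun _ => Nat) (Ptab_27) (Ptab_28) (Nat.ble 28 c)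
noncomputable def Ptab_s_25_29 (c : Nat) : Nat := @Bool.rec (fun _ => Nat) (Ptab_s_25_27 c) (Ptab_s_27_29 c) (Nat.ble 27 c)
noncomputable def Ptab_s_21_29 (c : Nat) : Nat := @Bool.rec (fun _ => Nat) (Ptab_s_21_25 c) (Ptab_s_25_29 c) (Nat.ble 25 c)
noncomputable def Ptab_s_14_29 (c : Nat) : Nat := @Bool.rec (fun _ => Nat) (Ptab_s_14_21 c) (Ptab_s_21_29 c) (Nat.ble 21 c)
noncomputable def Ptab_s_0_29 (c : Nat) : Nat := @Bool.rec (fun _ => Nat) (Ptab_s_0_14 c) (Ptab_s_14_29 c) (Nat.ble 14 c)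
noncomputable def Ptab_s_30_32 (c : Nat) : Nat := @Bool.rec (fun _ => Nat) (Ptab_30) (Ptab_31) (Nat.ble 31 c)
noncomputable def Ptab_s_29_32 (c : Nat) : Nat := @Bool.rec (fun _ => Nat) (Ptab_29) (Ptab_s_30_32 c) (Nat.ble 30 c)
noncomputable def Ptab_s_32_34 (c : Nat) : Nat := @Bool.rec (fun _ => Nat) (Ptab_32) (Ptab_33) (Nat.ble 33 c)
noncomputable def Ptab_s_34_36 (c : Nat) : Nat := @Bool.rec (fun _ => Nat) (Ptab_34) (Ptab_35) (Nat.ble 35 c)
noncomputable def Ptab_s_32_36 (c : Nat) : Nat := @Bool.rec (fun _ => Nat) (Ptab_s_32_34 c) (Ptab_s_34_36 c) (Nat.ble 34 c)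
noncomputable def Ptab_s_29_36 (c : Nat) : Nat := @Bool.rec (fun _ => Nat) (Ptab_s_29_32 c) (Ptab_s_32_36 c) (Nat.ble 32 c)
noncomputable def Ptab_s_36_38 (c : Nat) : Nat := @Bool.rec (fun _ => Nat) (Ptab_36) (Ptab_37) (Nat.ble 37 c)
noncomputable def Ptab_s_38_40 (c : Nat) : Nat := @Bool.rec (fun _ => Nat) (Ptab_38) (Ptab_39) (Nat.ble 39 c)
noncomputable def Ptab_s_36_40 (c : Nat) : Nat := @Bool.rec (fun _ => Nat) (Ptab_s_36_38 c) (Ptab_s_38_40 c) (Nat.ble 38 c)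
noncomputable def Ptab_s_40_42 (c : Nat) : Nat := @Bool.rec (fun _ => Nat) (Ptab_40) (Ptab_41) (Nat.ble 41 c)
noncomputable def Ptab_s_42_44 (c : Nat) : Nat := @Bool.rec (fun _ => Nat) (Ptab_42) (Ptab_43) (Nat.ble 43 c)
noncomputable def Ptab_s_40_44 (c : Nat) : Nat := @Bool.rec (fun _ => Nat) (Ptab_s_40_42 c) (Ptab_s_42_44 c) (Nat.ble 42 c)
noncomputable def Ptab_s_36_44 (c : Nat) : Nat := @Bool.rec (fun _ => Nat) (Ptab_s_36_40 c) (Ptab_s_40_44 c) (Nat.ble 40 c)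
noncomputable def Ptab_s_29_44 (c : Nat) : Nat := @Bool.rec (fun _ => Nat) (Ptab_s_29_36 c) (Ptab_s_36_44 c) (Nat.ble 36 c)
noncomputable def Ptab_s_45_47 (c : Nat) : Nat := @Bool.rec (fun _ => Nat) (Ptab_45) (Ptab_46) (Nat.ble 46 c)
noncomputable def Ptab_s_44_47 (c : Nat) : Nat := @Bool.rec (fun _ => Nat) (Ptab_44) (Ptab_s_45_47 c) (Nat.ble 45 c)
noncomputable def Ptab_s_47_49 (c : Nat) : Nat := @Bool.rec (fun _ => Nat) (Ptab_47) (Ptab_48) (Nat.ble 48 c)
noncomputable def Ptab_s_49_51 (c : Nat) : Nat := @Bool.rec (fun _ => Nat) (Ptab_49) (Ptab_50) (Nat.ble 50 c)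
noncomputable def Ptab_s_47_51 (c : Nat) : Nat := @Bool.rec (fun _ => Nat) (Ptab_s_47_49 c) (Ptab_s_49_51 c) (Nat.ble 49 c)
noncomputable def Ptab_s_44_51 (c : Nat) : Nat := @Bool.rec (fun _ => Nat) (Ptab_s_44_47 c) (Ptab_s_47_51 c) (Nat.ble 47 c)
noncomputable def Ptab_s_51_53 (c : Nat) : Nat := @Bool.rec (fun _ => Nat) (Ptab_51) (Ptab_52) (Nat.ble 52 c)
noncomputable def Ptab_s_53_55 (c : Nat) : Nat := @Bool.rec (fun _ => Nat) (Ptab_53) (Ptab_54) (Nat.ble 54 c)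
noncomputable def Ptab_s_51_55 (c : Nat) : Nat := @Bool.rec (fun _ => Nat) (Ptab_s_51_53 c) (Ptab_s_53_55 c) (Nat.ble 53 c)
noncomputable def Ptab_s_55_57 (c : Nat) : Nat := @Bool.rec (fun _ => Nat) (Ptab_55) (Ptab_56) (Nat.ble 56 c)
noncomputable def Ptab_s_57_59 (c : Nat) : Nat := @Bool.rec (fun _ => Nat) (Ptab_57) (Ptab_58) (Nat.ble 58 c)
noncomputable def Ptab_s_55_59 (c : Nat) : Nat := @Bool.rec (fun _ => Nat) (Ptab_s_55_57 c) (Ptab_s_57_59 c) (Nat.ble 57 c)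
noncomputable def Ptab_s_51_59 (c : Nat) : Nat := @Bool.rec (fun _ => Nat) (Ptab_s_51_55 c) (Ptab_s_55_59 c) (Nat.ble 55 c)
noncomputable def Ptab_s_44_59 (c : Nat) : Nat := @Bool.rec (fun _ => Nat) (Ptab_s_44_51 c) (Ptab_s_51_59 c) (Nat.ble 51 c)
noncomputable def Ptab_s_29_59 (c : Nat) : Nat := @Bool.rec (fun _ => Nat) (Ptab_s_29_44 c) (Ptab_s_44_59 c) (Nat.ble 44 c)
noncomputable def Ptab_s_0_59 (c : Nat) : Nat := @Bool.rec (fun _ => Nat) (Ptab_s_0_29 c) (Ptab_s_29_59 c) (Nat.ble 29 c)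
noncomputable def Ptab_s_60_62 (c : Nat) : Nat := @Bool.rec (fun _ => Nat) (Ptab_60) (Ptab_61) (Nat.ble 61 c)
noncomputable def Ptab_s_59_62 (c : Nat) : Nat := @Bool.rec (fun _ => Nat) (Ptab_59) (Ptab_s_60_62 c) (Nat.ble 60 c)
noncomputable def Ptab_s_62_64 (c : Nat) : Nat := @Bool.rec (fun _ => Nat) (Ptab_62) (Ptab_63) (Nat.ble 63 c)
noncomputable def Ptab_s_64_66 (c : Nat) : Nat := @Bool.rec (fun _ => Nat) (Ptab_64) (Ptab_65) (Nat.ble 65 c)
noncomputable def Ptab_s_62_66 (c : Nat) : Nat := @Bool.rec (fun _ => Nat) (Ptab_s_62_64 c) (Ptab_s_64_66 c) (Nat.ble 64 c)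
noncomputable def Ptab_s_59_66 (c : Nat) : Nat := @Bool.rec (fun _ => Nat) (Ptab_s_59_62 c) (Ptab_s_62_66 c) (Nat.ble 62 c)
noncomputable def Ptab_s_66_68 (c : Nat) : Nat := @Bool.rec (fun _ => Nat) (Ptab_66) (Ptab_67) (Nat.ble 67 c)
noncomputable def Ptab_s_68_70 (c : Nat) : Nat := @Bool.rec (fun _ => Nat) (Ptab_68) (Ptab_69) (Nat.ble 69 c)
noncomputable def Ptab_s_66_70 (c : Nat) : Nat := @Bool.rec (fun _ => Nat) (Ptab_s_66_68 c) (Ptab_s_68_70 c) (Nat.ble 68 c)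
noncomputable def Ptab_s_70_72 (c : Nat) : Nat := @Bool.rec (fun _ => Nat) (Ptab_70) (Ptab_71) (Nat.ble 71 c)
noncomputable def Ptab_s_72_74 (c : Nat) : Nat := @Bool.rec (fun _ => Nat) (Ptab_72) (Ptab_73) (Nat.ble 73 c)
noncomputable def Ptab_s_70_74 (c : Nat) : Nat := @Bool.rec (fun _ => Nat) (Ptab_s_70_72 c) (Ptab_s_72_74 c) (Nat.ble 72 c)
noncomputable def Ptab_s_66_74 (c : Nat) : Nat := @Bool.rec (fun _ => Nat) (Ptab_s_66_70 c) (Ptab_s_70_74 c) (Nat.ble 70 c)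
noncomputable def Ptab_s_59_74 (c : Nat) : Nat := @Bool.rec (fun _ => Nat) (Ptab_s_59_66 c) (Ptab_s_66_74 c) (Nat.ble 66 c)
noncomputable def Ptab_s_75_77 (c : Nat) : Nat := @Bool.rec (fun _ => Nat) (Ptab_75) (Ptab_76) (Nat.ble 76 c)
noncomputable def Ptab_s_74_77 (c : Nat) : Nat := @Bool.rec (fun _ => Nat) (Ptab_74) (Ptab_s_75_77 c) (Nat.ble 75 c)
noncomputable def Ptab_s_77_79 (c : Nat) : Nat := @Bool.rec (fun _ => Nat) (Ptab_77) (Ptab_78) (Nat.ble 78 c)
noncomputable def Ptab_s_79_81 (c : Nat) : Nat := @Bool.rec (fun _ => Nat) (Ptab_79) (Ptab_80) (Nat.ble 80 c)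
noncomputable def Ptab_s_77_81 (c : Nat) : Nat := @Bool.rec (fun _ => Nat) (Ptab_s_77_79 c) (Ptab_s_79_81 c) (Nat.ble 79 c)
noncomputable def Ptab_s_74_81 (c : Nat) : Nat := @Bool.rec (fun _ => Nat) (Ptab_s_74_77 c) (Ptab_s_77_81 c) (Nat.ble 77 c)
noncomputable def Ptab_s_81_83 (c : Nat) : Nat := @Bool.rec (fun _ => Nat) (Ptab_81) (Ptab_82) (Nat.ble 82 c)
noncomputable def Ptab_s_83_85 (c : Nat) : Nat := @Bool.rec (fun _ => Nat) (Ptab_83) (Ptab_84) (Nat.ble 84 c)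
noncomputable def Ptab_s_81_85 (c : Nat) : Nat := @Bool.rec (fun _ => Nat) (Ptab_s_81_83 c) (Ptab_s_83_85 c) (Nat.ble 83 c)
noncomputable def Ptab_s_85_87 (c : Nat) : Nat := @Bool.rec (fun _ => Nat) (Ptab_85) (Ptab_86) (Nat.ble 86 c)
noncomputable def Ptab_s_87_89 (c : Nat) : Nat := @Bool.rec (fun _ => Nat) (Ptab_87) (Ptab_88) (Nat.ble 88 c)
noncomputable def Ptab_s_85_89 (c : Nat) : Nat := @Bool.rec (fun _ => Nat) (Ptab_s_85_87 c) (Ptab_s_87_89 c) (Nat.ble 87 c)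
noncomputable def Ptab_s_81_89 (c : Nat) : Nat := @Bool.rec (fun _ => Nat) (Ptab_s_81_85 c) (Ptab_s_85_89 c) (Nat.ble 85 c)
noncomputable def Ptab_s_74_89 (c : Nat) : Nat := @Bool.rec (fun _ => Nat) (Ptab_s_74_81 c) (Ptab_s_81_89 c) (Nat.ble 81 c)
noncomputable def Ptab_s_59_89 (c : Nat) : Nat := @Bool.rec (fun _ => Nat) (Ptab_s_59_74 c) (Ptab_s_74_89 c) (Nat.ble 74 c)
noncomputable def Ptab_s_90_92 (c : Nat) : Nat := @Bool.rec (fun _ => Nat) (Ptab_90) (Ptab_91) (Nat.ble 91 c)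
noncomputable def Ptab_s_89_92 (c : Nat) : Nat := @Bool.rec (fun _ => Nat) (Ptab_89) (Ptab_s_90_92 c) (Nat.ble 90 c)
noncomputable def Ptab_s_92_94 (c : Nat) : Nat := @Bool.rec (fun _ => Nat) (Ptab_92) (Ptab_93) (Nat.ble 93 c)
noncomputable def Ptab_s_94_96 (c : Nat) : Nat := @Bool.rec (fun _ => Nat) (Ptab_94) (Ptab_95) (Nat.ble 95 c)
noncomputable def Ptab_s_92_96 (c : Nat) : Nat := @Bool.rec (fun _ => Nat) (Ptab_s_92_94 c) (Ptab_s_94_96 c) (Nat.ble 94 c)
noncomputable def Ptab_s_89_96 (c : Nat) : Nat := @Bool.rec (fun _ => Nat) (Ptab_s_89_92 c) (Ptab_s_92_96 c) (Nat.ble 92 c)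
noncomputable def Ptab_s_96_98 (c : Nat) : Nat := @Bool.rec (fun _ => Nat) (Ptab_96) (Ptab_97) (Nat.ble 97 c)
noncomputable def Ptab_s_98_100 (c : Nat) : Nat := @Bool.rec (fun _ => Nat) (Ptab_98) (Ptab_99) (Nat.ble 99 c)
noncomputable def Ptab_s_96_100 (c : Nat) : Nat := @Bool.rec (fun _ => Nat) (Ptab_s_96_98 c) (Ptab_s_98_100 c) (Nat.ble 98 c)
noncomputable def Ptab_s_100_102 (c : Nat) : Nat := @Bool.rec (fun _ => Nat) (Ptab_100) (Ptab_101) (Nat.ble 101 c)
noncomputable def Ptab_s_102_104 (c : Nat) : Nat := @Bool.rec (fun _ => Nat) (Ptab_102) (Ptab_103) (Nat.ble 103 c)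
noncomputable def Ptab_s_100_104 (c : Nat) : Nat := @Bool.rec (fun _ => Nat) (Ptab_s_100_102 c) (Ptab_s_102_104 c) (Nat.ble 102 c)
noncomputable def Ptab_s_96_104 (c : Nat) : Nat := @Bool.rec (fun _ => Nat) (Ptab_s_96_100 c) (Ptab_s_100_104 c) (Nat.ble 100 c)
noncomputable def Ptab_s_89_104 (c : Nat) : Nat := @Bool.rec (fun _ => Nat) (Ptab_s_89_96 c) (Ptab_s_96_104 c) (Nat.ble 96 c)
noncomputable def Ptab_s_105_107 (c : Nat) : Nat := @Bool.rec (fun _ => Nat) (Ptab_105) (Ptab_106) (Nat.ble 106 c)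
noncomputable def Ptab_s_104_107 (c : Nat) : Nat := @Bool.rec (fun _ => Nat) (Ptab_104) (Ptab_s_105_107 c) (Nat.ble 105 c)
noncomputable def Ptab_s_107_109 (c : Nat) : Nat := @Bool.rec (fun _ => Nat) (Ptab_107) (Ptab_108) (Nat.ble 108 c)
noncomputable def Ptab_s_109_111 (c : Nat) : Nat := @Bool.rec (fun _ => Nat) (Ptab_109) (Ptab_110) (Nat.ble 110 c)
noncomputable def Ptab_s_107_111 (c : Nat) : Nat := @Bool.rec (fun _ => Nat) (Ptab_s_107_109 c) (Ptab_s_109_111 c) (Nat.ble 109 c)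
noncomputable def Ptab_s_104_111 (c : Nat) : Nat := @Bool.rec (fun _ => Nat) (Ptab_s_104_107 c) (Ptab_s_107_111 c) (Nat.ble 107 c)
noncomputable def Ptab_s_111_113 (c : Nat) : Nat := @Bool.rec (fun _ => Nat) (Ptab_111) (Ptab_112) (Nat.ble 112 c)
noncomputable def Ptab_s_113_115 (c : Nat) : Nat := @Bool.rec (fun _ => Nat) (Ptab_113) (Ptab_114) (Nat.ble 114 c)
noncomputable def Ptab_s_111_115 (c : Nat) : Nat := @Bool.rec (fun _ => Nat) (Ptab_s_111_113 c) (Ptab_s_113_115 c) (Nat.ble 113 c)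
noncomputable def Ptab_s_115_117 (c : Nat) : Nat := @Bool.rec (fun _ => Nat) (Ptab_115) (Ptab_116) (Nat.ble 116 c)
noncomputable def Ptab_s_117_119 (c : Nat) : Nat := @Bool.rec (fun _ => Nat) (Ptab_117) (Ptab_118) (Nat.ble 118 c)
noncomputable def Ptab_s_115_119 (c : Nat) : Nat := @Bool.rec (fun _ => Nat) (Ptab_s_115_117 c) (Ptab_s_117_119 c) (Nat.ble 117 c)
noncomputable def Ptab_s_111_119 (c : Nat) : Nat := @Bool.rec (fun _ => Nat) (Ptab_s_111_115 c) (Ptab_s_115_119 c) (Nat.ble 115 c)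
noncomputable def Ptab_s_104_119 (c : Nat) : Nat := @Bool.rec (fun _ => Nat) (Ptab_s_104_111 c) (Ptab_s_111_119 c) (Nat.ble 111 c)
noncomputable def Ptab_s_89_119 (c : Nat) : Nat := @Bool.rec (fun _ => Nat) (Ptab_s_89_104 c) (Ptab_s_104_119 c) (Nat.ble 104 c)
noncomputable def Ptab_s_59_119 (c : Nat) : Nat := @Bool.rec (fun _ => Nat) (Ptab_s_59_89 c) (Ptab_s_89_119 c) (Nat.ble 89 c)
noncomputable def Ptab_s_0_119 (c : Nat) : Nat := @Bool.rec (fun _ => Nat) (Ptab_s_0_59 c) (Ptab_s_59_119 c) (Nat.ble 59 c)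
noncomputable def Ptab_s_120_122 (c : Nat) : Nat := @Bool.rec (fun _ => Nat) (Ptab_120) (Ptab_121) (Nat.ble 121 c)
noncomputable def Ptab_s_119_122 (c : Nat) : Nat := @Bool.rec (fun _ => Nat) (Ptab_119) (Ptab_s_120_122 c) (Nat.ble 120 c)
noncomputable def Ptab_s_122_124 (c : Nat) : Nat := @Bool.rec (fun _ => Nat) (Ptab_122) (Ptab_123) (Nat.ble 123 c)
noncomputable def Ptab_s_124_126 (c : Nat) : Nat := @Bool.rec (fun _ => Nat) (Ptab_124) (Ptab_125) (Nat.ble 125 c)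
noncomputable def Ptab_s_122_126 (c : Nat) : Nat := @Bool.rec (fun _ => Nat) (Ptab_s_122_124 c) (Ptab_s_124_126 c) (Nat.ble 124 c)
noncomputable def Ptab_s_119_126 (c : Nat) : Nat := @Bool.rec (fun _ => Nat) (Ptab_s_119_122 c) (Ptab_s_122_126 c) (Nat.ble 122 c)
noncomputable def Ptab_s_126_128 (c : Nat) : Nat := @Bool.rec (fun _ => Nat) (Ptab_126) (Ptab_127) (Nat.ble 127 c)
noncomputable def Ptab_s_128_130 (c : Nat) : Nat := @Bool.rec (fun _ => Nat) (Ptab_128) (Ptab_129) (Nat.ble 129 c)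
noncomputable def Ptab_s_126_130 (c : Nat) : Nat := @Bool.rec (fun _ => Nat) (Ptab_s_126_128 c) (Ptab_s_128_130 c) (Nat.ble 128 c)
noncomputable def Ptab_s_130_132 (c : Nat) : Nat := @Bool.rec (fun _ => Nat) (Ptab_130) (Ptab_131) (Nat.ble 131 c)
noncomputable def Ptab_s_132_134 (c : Nat) : Nat := @Bool.rec (fun _ => Nat) (Ptab_132) (Ptab_133) (Nat.ble 133 c)
noncomputable def Ptab_s_130_134 (c : Nat) : Nat := @Bool.rec (fun _ => Nat) (Ptab_s_130_132 c) (Ptab_s_132_134 c) (Nat.ble 132 c)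
noncomputable def Ptab_s_126_134 (c : Nat) : Nat := @Bool.rec (fun _ => Nat) (Ptab_s_126_130 c) (Ptab_s_130_134 c) (Nat.ble 130 c)
noncomputable def Ptab_s_119_134 (c : Nat) : Nat := @Bool.rec (fun _ => Nat) (Ptab_s_119_126 c) (Ptab_s_126_134 c) (Nat.ble 126 c)
noncomputable def Ptab_s_135_137 (c : Nat) : Nat := @Bool.rec (fun _ => Nat) (Ptab_135) (Ptab_136) (Nat.ble 136 c)
noncomputable def Ptab_s_134_137 (c : Nat) : Nat := @Bool.rec (fun _ => Nat) (Ptab_134) (Ptab_s_135_137 c) (Nat.ble 135 c)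
noncomputable def Ptab_s_137_139 (c : Nat) : Nat := @Bool.rec (fun _ => Nat) (Ptab_137) (Ptab_138) (Nat.ble 138 c)
noncomputable def Ptab_s_139_141 (c : Nat) : Nat := @Bool.rec (fun _ => Nat) (Ptab_139) (Ptab_140) (Nat.ble 140 c)
noncomputable def Ptab_s_137_141 (c : Nat) : Nat := @Bool.rec (fun _ => Nat) (Ptab_s_137_139 c) (Ptab_s_139_141 c) (Nat.ble 139 c)
noncomputable def Ptab_s_134_141 (c : Nat) : Nat := @Bool.rec (fun _ => Nat) (Ptab_s_134_137 c) (Ptab_s_137_141 c) (Nat.ble 137 c)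
noncomputable def Ptab_s_141_143 (c : Nat) : Nat := @Bool.rec (fun _ => Nat) (Ptab_141) (Ptab_142) (Nat.ble 142 c)
noncomputable def Ptab_s_143_145 (c : Nat) : Nat := @Bool.rec (fun _ => Nat) (Ptab_143) (Ptab_144) (Nat.ble 144 c)
noncomputable def Ptab_s_141_145 (c : Nat) : Nat := @Bool.rec (fun _ => Nat) (Ptab_s_141_143 c) (Ptab_s_143_145 c) (Nat.ble 143 c)
noncomputable def Ptab_s_145_147 (c : Nat) : Nat := @Bool.rec (fun _ => Nat) (Ptab_145) (Ptab_146) (Nat.ble 146 c)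
noncomputable def Ptab_s_147_149 (c : Nat) : Nat := @Bool.rec (fun _ => Nat) (Ptab_147) (Ptab_148) (Nat.ble 148 c)
noncomputable def Ptab_s_145_149 (c : Nat) : Nat := @Bool.rec (fun _ => Nat) (Ptab_s_145_147 c) (Ptab_s_147_149 c) (Nat.ble 147 c)
noncomputable def Ptab_s_141_149 (c : Nat) : Nat := @Bool.rec (fun _ => Nat) (Ptab_s_141_145 c) (Ptab_s_145_149 c) (Nat.ble 145 c)
noncomputable def Ptab_s_134_149 (c : Nat) : Nat := @Bool.rec (fun _ => Nat) (Ptab_s_134_141 c) (Ptab_s_141_149 c) (Nat.ble 141 c)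
noncomputable def Ptab_s_119_149 (c : Nat) : Nat := @Bool.rec (fun _ => Nat) (Ptab_s_119_134 c) (Ptab_s_134_149 c) (Nat.ble 134 c)
noncomputable def Ptab_s_150_152 (c : Nat) : Nat := @Bool.rec (fun _ => Nat) (Ptab_150) (Ptab_151) (Nat.ble 151 c)
noncomputable def Ptab_s_149_152 (c : Nat) : Nat := @Bool.rec (fun _ => Nat) (Ptab_149) (Ptab_s_150_152 c) (Nat.ble 150 c)
noncomputable def Ptab_s_152_154 (c : Nat) : Nat := @Bool.rec (fun _ => Nat) (Ptab_152) (Ptab_153) (Nat.ble 153 c)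
noncomputable def Ptab_s_154_156 (c : Nat) : Nat := @Bool.rec (fun _ => Nat) (Ptab_154) (Ptab_155) (Nat.ble 155 c)
noncomputable def Ptab_s_152_156 (c : Nat) : Nat := @Bool.rec (fun _ => Nat) (Ptab_s_152_154 c) (Ptab_s_154_156 c) (Nat.ble 154 c)
noncomputable def Ptab_s_149_156 (c : Nat) : Nat := @Bool.rec (fun _ => Nat) (Ptab_s_149_152 c) (Ptab_s_152_156 c) (Nat.ble 152 c)
noncomputable def Ptab_s_156_158 (c : Nat) : Nat := @Bool.rec (fun _ => Nat) (Ptab_156) (Ptab_157) (Nat.ble 157 c)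
noncomputable def Ptab_s_158_160 (c : Nat) : Nat := @Bool.rec (fun _ => Nat) (Ptab_158) (Ptab_159) (Nat.ble 159 c)
noncomputable def Ptab_s_156_160 (c : Nat) : Nat := @Bool.rec (fun _ => Nat) (Ptab_s_156_158 c) (Ptab_s_158_160 c) (Nat.ble 158 c)
noncomputable def Ptab_s_160_162 (c : Nat) : Nat := @Bool.rec (fun _ => Nat) (Ptab_160) (Ptab_161) (Nat.ble 161 c)
noncomputable def Ptab_s_162_164 (c : Nat) : Nat := @Bool.rec (fun _ => Nat) (Ptab_162) (Ptab_163) (Nat.ble 163 c)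
noncomputable def Ptab_s_160_164 (c : Nat) : Nat := @Bool.rec (fun _ => Nat) (Ptab_s_160_162 c) (Ptab_s_162_164 c) (Nat.ble 162 c)
noncomputable def Ptab_s_156_164 (c : Nat) : Nat := @Bool.rec (fun _ => Nat) (Ptab_s_156_160 c) (Ptab_s_160_164 c) (Nat.ble 160 c)
noncomputable def Ptab_s_149_164 (c : Nat) : Nat := @Bool.rec (fun _ => Nat) (Ptab_s_149_156 c) (Ptab_s_156_164 c) (Nat.ble 156 c)
noncomputable def Ptab_s_165_167 (c : Nat) : Nat := @Bool.rec (fun _ => Nat) (Ptab_165) (Ptab_166) (Nat.ble 166 c)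
noncomputable def Ptab_s_164_167 (c : Nat) : Nat := @Bool.rec (fun _ => Nat) (Ptab_164) (Ptab_s_165_167 c) (Nat.ble 165 c)
noncomputable def Ptab_s_167_169 (c : Nat) : Nat := @Bool.rec (fun _ => Nat) (Ptab_167) (Ptab_168) (Nat.ble 168 c)
noncomputable def Ptab_s_169_171 (c : Nat) : Nat := @Bool.rec (fun _ => Nat) (Ptab_169) (Ptab_170) (Nat.ble 170 c)
noncomputable def Ptab_s_167_171 (c : Nat) : Nat := @Bool.rec (fun _ => Nat) (Ptab_s_167_169 c) (Ptab_s_169_171 c) (Nat.ble 169 c)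
noncomputable def Ptab_s_164_171 (c : Nat) : Nat := @Bool.rec (fun _ => Nat) (Ptab_s_164_167 c) (Ptab_s_167_171 c) (Nat.ble 167 c)
noncomputable def Ptab_s_171_173 (c : Nat) : Nat := @Bool.rec (fun _ => Nat) (Ptab_171) (Ptab_172) (Nat.ble 172 c)
noncomputable def Ptab_s_173_175 (c : Nat) : Nat := @Bool.rec (fun _ => Nat) (Ptab_173) (Ptab_174) (Nat.ble 174 c)
noncomputable def Ptab_s_171_175 (c : Nat) : Nat := @Bool.rec (fun _ => Nat) (Ptab_s_171_173 c) (Ptab_s_173_175 c) (Nat.ble 173 c)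
noncomputable def Ptab_s_175_177 (c : Nat) : Nat := @Bool.rec (fun _ => Nat) (Ptab_175) (Ptab_176) (Nat.ble 176 c)
noncomputable def Ptab_s_177_179 (c : Nat) : Nat := @Bool.rec (fun _ => Nat) (Ptab_177) (Ptab_178) (Nat.ble 178 c)
noncomputable def Ptab_s_175_179 (c : Nat) : Nat := @Bool.rec (fun _ => Nat) (Ptab_s_175_177 c) (Ptab_s_177_179 c) (Nat.ble 177 c)
noncomputable def Ptab_s_171_179 (c : Nat) : Nat := @Bool.rec (fun _ => Nat) (Ptab_s_171_175 c) (Ptab_s_175_179 c) (Nat.ble 175 c)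
noncomputable def Ptab_s_164_179 (c : Nat) : Nat := @Bool.rec (fun _ => Nat) (Ptab_s_164_171 c) (Ptab_s_171_179 c) (Nat.ble 171 c)
noncomputable def Ptab_s_149_179 (c : Nat) : Nat := @Bool.rec (fun _ => Nat) (Ptab_s_149_164 c) (Ptab_s_164_179 c) (Nat.ble 164 c)
noncomputable def Ptab_s_119_179 (c : Nat) : Nat := @Bool.rec (fun _ => Nat) (Ptab_s_119_149 c) (Ptab_s_149_179 c) (Nat.ble 149 c)
noncomputable def Ptab_s_180_182 (c : Nat) : Nat := @Bool.rec (fun _ => Nat) (Ptab_180) (Ptab_181) (Nat.ble 181 c)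
noncomputable def Ptab_s_179_182 (c : Nat) : Nat := @Bool.rec (fun _ => Nat) (Ptab_179) (Ptab_s_180_182 c) (Nat.ble 180 c)
noncomputable def Ptab_s_182_184 (c : Nat) : Nat := @Bool.rec (fun _ => Nat) (Ptab_182) (Ptab_183) (Nat.ble 183 c)
noncomputable def Ptab_s_184_186 (c : Nat) : Nat := @Bool.rec (fun _ => Nat) (Ptab_184) (Ptab_185) (Nat.ble 185 c)
noncomputable def Ptab_s_182_186 (c : Nat) : Nat := @Bool.rec (fun _ => Nat) (Ptab_s_182_184 c) (Ptab_s_184_186 c) (Nat.ble 184 c)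
noncomputable def Ptab_s_179_186 (c : Nat) : Nat := @Bool.rec (fun _ => Nat) (Ptab_s_179_182 c) (Ptab_s_182_186 c) (Nat.ble 182 c)
noncomputable def Ptab_s_186_188 (c : Nat) : Nat := @Bool.rec (fun _ => Nat) (Ptab_186) (Ptab_187) (Nat.ble 187 c)
noncomputable def Ptab_s_188_190 (c : Nat) : Nat := @Bool.rec (fun _ => Nat) (Ptab_188) (Ptab_189) (Nat.ble 189 c)
noncomputable def Ptab_s_186_190 (c : Nat) : Nat := @Bool.rec (fun _ => Nat) (Ptab_s_186_188 c) (Ptab_s_188_190 c) (Nat.ble 188 c)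
noncomputable def Ptab_s_190_192 (c : Nat) : Nat := @Bool.rec (fun _ => Nat) (Ptab_190) (Ptab_191) (Nat.ble 191 c)
noncomputable def Ptab_s_192_194 (c : Nat) : Nat := @Bool.rec (fun _ => Nat) (Ptab_192) (Ptab_193) (Nat.ble 193 c)
noncomputable def Ptab_s_190_194 (c : Nat) : Nat := @Bool.rec (fun _ => Nat) (Ptab_s_190_192 c) (Ptab_s_192_194 c) (Nat.ble 192 c)
noncomputable def Ptab_s_186_194 (c : Nat) : Nat := @Bool.rec (fun _ => Nat) (Ptab_s_186_190 c) (Ptab_s_190_194 c) (Nat.ble 190 c)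
noncomputable def Ptab_s_179_194 (c : Nat) : Nat := @Bool.rec (fun _ => Nat) (Ptab_s_179_186 c) (Ptab_s_186_194 c) (Nat.ble 186 c)
noncomputable def Ptab_s_195_197 (c : Nat) : Nat := @Bool.rec (fun _ => Nat) (Ptab_195) (Ptab_196) (Nat.ble 196 c)
noncomputable def Ptab_s_194_197 (c : Nat) : Nat := @Bool.rec (fun _ => Nat) (Ptab_194) (Ptab_s_195_197 c) (Nat.ble 195 c)
noncomputable def Ptab_s_197_199 (c : Nat) : Nat := @Bool.rec (fun _ => Nat) (Ptab_197) (Ptab_198) (Nat.ble 198 c)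
noncomputable def Ptab_s_199_201 (c : Nat) : Nat := @Bool.rec (fun _ => Nat) (Ptab_199) (Ptab_200) (Nat.ble 200 c)
noncomputable def Ptab_s_197_201 (c : Nat) : Nat := @Bool.rec (fun _ => Nat) (Ptab_s_197_199 c) (Ptab_s_199_201 c) (Nat.ble 199 c)
noncomputable def Ptab_s_194_201 (c : Nat) : Nat := @Bool.rec (fun _ => Nat) (Ptab_s_194_197 c) (Ptab_s_197_201 c) (Nat.ble 197 c)
noncomputable def Ptab_s_201_203 (c : Nat) : Nat := @Bool.rec (fun _ => Nat) (Ptab_201) (Ptab_202) (Nat.ble 202 c)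
noncomputable def Ptab_s_203_205 (c : Nat) : Nat := @Bool.rec (fun _ => Nat) (Ptab_203) (Ptab_204) (Nat.ble 204 c)
noncomputable def Ptab_s_201_205 (c : Nat) : Nat := @Bool.rec (fun _ => Nat) (Ptab_s_201_203 c) (Ptab_s_203_205 c) (Nat.ble 203 c)
noncomputable def Ptab_s_205_207 (c : Nat) : Nat := @Bool.rec (fun _ => Nat) (Ptab_205) (Ptab_206) (Nat.ble 206 c)
noncomputable def Ptab_s_207_209 (c : Nat) : Nat := @Bool.rec (fun _ => Nat) (Ptab_207) (Ptab_208) (Nat.ble 208 c)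
noncomputable def Ptab_s_205_209 (c : Nat) : Nat := @Bool.rec (fun _ => Nat) (Ptab_s_205_207 c) (Ptab_s_207_209 c) (Nat.ble 207 c)
noncomputable def Ptab_s_201_209 (c : Nat) : Nat := @Bool.rec (fun _ => Nat) (Ptab_s_201_205 c) (Ptab_s_205_209 c) (Nat.ble 205 c)
noncomputable def Ptab_s_194_209 (c : Nat) : Nat := @Bool.rec (fun _ => Nat) (Ptab_s_194_201 c) (Ptab_s_201_209 c) (Nat.ble 201 c)
noncomputable def Ptab_s_179_209 (c : Nat) : Nat := @Bool.rec (fun _ => Nat) (Ptab_s_179_194 c) (Ptab_s_194_209 c) (Nat.ble 194 c)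
noncomputable def Ptab_s_210_212 (c : Nat) : Nat := @Bool.rec (fun _ => Nat) (Ptab_210) (Ptab_211) (Nat.ble 211 c)
noncomputable def Ptab_s_209_212 (c : Nat) : Nat := @Bool.rec (fun _ => Nat) (Ptab_209) (Ptab_s_210_212 c) (Nat.ble 210 c)
noncomputable def Ptab_s_212_214 (c : Nat) : Nat := @Bool.rec (fun _ => Nat) (Ptab_212) (Ptab_213) (Nat.ble 213 c)
noncomputable def Ptab_s_214_216 (c : Nat) : Nat := @Bool.rec (fun _ => Nat) (Ptab_214) (Ptab_215) (Nat.ble 215 c)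
noncomputable def Ptab_s_212_216 (c : Nat) : Nat := @Bool.rec (fun _ => Nat) (Ptab_s_212_214 c) (Ptab_s_214_216 c) (Nat.ble 214 c)
noncomputable def Ptab_s_209_216 (c : Nat) : Nat := @Bool.rec (fun _ => Nat) (Ptab_s_209_212 c) (Ptab_s_212_216 c) (Nat.ble 212 c)
noncomputable def Ptab_s_216_218 (c : Nat) : Nat := @Bool.rec (fun _ => Nat) (Ptab_216) (Ptab_217) (Nat.ble 217 c)
noncomputable def Ptab_s_218_220 (c : Nat) : Nat := @Bool.rec (fun _ => Nat) (Ptab_218) (Ptab_219) (Nat.ble 219 c)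
noncomputable def Ptab_s_216_220 (c : Nat) : Nat := @Bool.rec (fun _ => Nat) (Ptab_s_216_218 c) (Ptab_s_218_220 c) (Nat.ble 218 c)
noncomputable def Ptab_s_220_222 (c : Nat) : Nat := @Bool.rec (fun _ => Nat) (Ptab_220) (Ptab_221) (Nat.ble 221 c)
noncomputable def Ptab_s_222_224 (c : Nat) : Nat := @Bool.rec (fun _ => Nat) (Ptab_222) (Ptab_223) (Nat.ble 223 c)
noncomputable def Ptab_s_220_224 (c : Nat) : Nat := @Bool.rec (fun _ => Nat) (Ptab_s_220_222 c) (Ptab_s_222_224 c) (Nat.ble 222 c)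
noncomputable def Ptab_s_216_224 (c : Nat) : Nat := @Bool.rec (fun _ => Nat) (Ptab_s_216_220 c) (Ptab_s_220_224 c) (Nat.ble 220 c)
noncomputable def Ptab_s_209_224 (c : Nat) : Nat := @Bool.rec (fun _ => Nat) (Ptab_s_209_216 c) (Ptab_s_216_224 c) (Nat.ble 216 c)
noncomputable def Ptab_s_225_227 (c : Nat) : Nat := @Bool.rec (fun _ => Nat) (Ptab_225) (Ptab_226) (Nat.ble 226 c)
noncomputable def Ptab_s_224_227 (c : Nat) : Nat := @Bool.rec (fun _ => Nat) (Ptab_224) (Ptab_s_225_227 c) (Nat.ble 225 c)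
noncomputable def Ptab_s_227_229 (c : Nat) : Nat := @Bool.rec (fun _ => Nat) (Ptab_227) (Ptab_228) (Nat.ble 228 c)
noncomputable def Ptab_s_229_231 (c : Nat) : Nat := @Bool.rec (fun _ => Nat) (Ptab_229) (Ptab_230) (Nat.ble 230 c)
noncomputable def Ptab_s_227_231 (c : Nat) : Nat := @Bool.rec (fun _ => Nat) (Ptab_s_227_229 c) (Ptab_s_229_231 c) (Nat.ble 229 c)
noncomputable def Ptab_s_224_231 (c : Nat) : Nat := @Bool.rec (fun _ => Nat) (Ptab_s_224_227 c) (Ptab_s_227_231 c) (Nat.ble 227 c)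
noncomputable def Ptab_s_231_233 (c : Nat) : Nat := @Bool.rec (fun _ => Nat) (Ptab_231) (Ptab_232) (Nat.ble 232 c)
noncomputable def Ptab_s_233_235 (c : Nat) : Nat := @Bool.rec (fun _ => Nat) (Ptab_233) (Ptab_234) (Nat.ble 234 c)
noncomputable def Ptab_s_231_235 (c : Nat) : Nat := @Bool.rec (fun _ => Nat) (Ptab_s_231_233 c) (Ptab_s_233_235 c) (Nat.ble 233 c)
noncomputable def Ptab_s_235_237 (c : Nat) : Nat := @Bool.rec (fun _ => Nat) (Ptab_235) (Ptab_236) (Nat.ble 236 c)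
noncomputable def Ptab_s_237_239 (c : Nat) : Nat := @Bool.rec (fun _ => Nat) (Ptab_237) (Ptab_238) (Nat.ble 238 c)
noncomputable def Ptab_s_235_239 (c : Nat) : Nat := @Bool.rec (fun _ => Nat) (Ptab_s_235_237 c) (Ptab_s_237_239 c) (Nat.ble 237 c)
noncomputable def Ptab_s_231_239 (c : Nat) : Nat := @Bool.rec (fun _ => Nat) (Ptab_s_231_235 c) (Ptab_s_235_239 c) (Nat.ble 235 c)
noncomputable def Ptab_s_224_239 (c : Nat) : Nat := @Bool.rec (fun _ => Nat) (Ptab_s_224_231 c) (Ptab_s_231_239 c) (Nat.ble 231 c)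
noncomputable def Ptab_s_209_239 (c : Nat) : Nat := @Bool.rec (fun _ => Nat) (Ptab_s_209_224 c) (Ptab_s_224_239 c) (Nat.ble 224 c)
noncomputable def Ptab_s_179_239 (c : Nat) : Nat := @Bool.rec (fun _ => Nat) (Ptab_s_179_209 c) (Ptab_s_209_239 c) (Nat.ble 209 c)
noncomputable def Ptab_s_119_239 (c : Nat) : Nat := @Bool.rec (fun _ => Nat) (Ptab_s_119_179 c) (Ptab_s_179_239 c) (Nat.ble 179 c)
noncomputable def Ptab_s_0_239 (c : Nat) : Nat := @Bool.rec (fun _ => Nat) (Ptab_s_0_119 c) (Ptab_s_119_239 c) (Nat.ble 119 c)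
noncomputable def Ptab_s_240_242 (c : Nat) : Nat := @Bool.rec (fun _ => Nat) (Ptab_240) (Ptab_241) (Nat.ble 241 c)
noncomputable def Ptab_s_239_242 (c : Nat) : Nat := @Bool.rec (fun _ => Nat) (Ptab_239) (Ptab_s_240_242 c) (Nat.ble 240 c)
noncomputable def Ptab_s_242_244 (c : Nat) : Nat := @Bool.rec (fun _ => Nat) (Ptab_242) (Ptab_243) (Nat.ble 243 c)
noncomputable def Ptab_s_244_246 (c : Nat) : Nat := @Bool.rec (fun _ => Nat) (Ptab_244) (Ptab_245) (Nat.ble 245 c)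
noncomputable def Ptab_s_242_246 (c : Nat) : Nat := @Bool.rec (fun _ => Nat) (Ptab_s_242_244 c) (Ptab_s_244_246 c) (Nat.ble 244 c)
noncomputable def Ptab_s_239_246 (c : Nat) : Nat := @Bool.rec (fun _ => Nat) (Ptab_s_239_242 c) (Ptab_s_242_246 c) (Nat.ble 242 c)
noncomputable def Ptab_s_247_249 (c : Nat) : Nat := @Bool.rec (fun _ => Nat) (Ptab_247) (Ptab_248) (Nat.ble 248 c)
noncomputable def Ptab_s_246_249 (c : Nat) : Nat := @Bool.rec (fun _ => Nat) (Ptab_246) (Ptab_s_247_249 c) (Nat.ble 247 c)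
noncomputable def Ptab_s_249_251 (c : Nat) : Nat := @Bool.rec (fun _ => Nat) (Ptab_249) (Ptab_250) (Nat.ble 250 c)
noncomputable def Ptab_s_251_253 (c : Nat) : Nat := @Bool.rec (fun _ => Nat) (Ptab_251) (Ptab_252) (Nat.ble 252 c)
noncomputable def Ptab_s_249_253 (c : Nat) : Nat := @Bool.rec (fun _ => Nat) (Ptab_s_249_251 c) (Ptab_s_251_253 c) (Nat.ble 251 c)
noncomputable def Ptab_s_246_253 (c : Nat) : Nat := @Bool.rec (fun _ => Nat) (Ptab_s_246_249 c) (Ptab_s_249_253 c) (Nat.ble 249 c)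
noncomputable def Ptab_s_239_253 (c : Nat) : Nat := @Bool.rec (fun _ => Nat) (Ptab_s_239_246 c) (Ptab_s_246_253 c) (Nat.ble 246 c)
noncomputable def Ptab_s_254_256 (c : Nat) : Nat := @Bool.rec (fun _ => Nat) (Ptab_254) (Ptab_255) (Nat.ble 255 c)
noncomputable def Ptab_s_253_256 (c : Nat) : Nat := @Bool.rec (fun _ => Nat) (Ptab_253) (Ptab_s_254_256 c) (Nat.ble 254 c)
noncomputable def Ptab_s_256_258 (c : Nat) : Nat := @Bool.rec (fun _ => Nat) (Ptab_256) (Ptab_257) (Nat.ble 257 c)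
noncomputable def Ptab_s_258_260 (c : Nat) : Nat := @Bool.rec (fun _ => Nat) (Ptab_258) (Ptab_259) (Nat.ble 259 c)
noncomputable def Ptab_s_256_260 (c : Nat) : Nat := @Bool.rec (fun _ => Nat) (Ptab_s_256_258 c) (Ptab_s_258_260 c) (Nat.ble 258 c)
noncomputable def Ptab_s_253_260 (c : Nat) : Nat := @Bool.rec (fun _ => Nat) (Ptab_s_253_256 c) (Ptab_s_256_260 c) (Nat.ble 256 c)
noncomputable def Ptab_s_260_262 (c : Nat) : Nat := @Bool.rec (fun _ => Nat) (Ptab_260) (Ptab_261) (Nat.ble 261 c)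
noncomputable def Ptab_s_262_264 (c : Nat) : Nat := @Bool.rec (fun _ => Nat) (Ptab_262) (Ptab_263) (Nat.ble 263 c)
noncomputable def Ptab_s_260_264 (c : Nat) : Nat := @Bool.rec (fun _ => Nat) (Ptab_s_260_262 c) (Ptab_s_262_264 c) (Nat.ble 262 c)
noncomputable def Ptab_s_264_266 (c : Nat) : Nat := @Bool.rec (fun _ => Nat) (Ptab_264) (Ptab_265) (Nat.ble 265 c)
noncomputable def Ptab_s_266_268 (c : Nat) : Nat := @Bool.rec (fun _ => Nat) (Ptab_266) (Ptab_267) (Nat.ble 267 c)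
noncomputable def Ptab_s_264_268 (c : Nat) : Nat := @Bool.rec (fun _ => Nat) (Ptab_s_264_266 c) (Ptab_s_266_268 c) (Nat.ble 266 c)
noncomputable def Ptab_s_260_268 (c : Nat) : Nat := @Bool.rec (fun _ => Nat) (Ptab_s_260_264 c) (Ptab_s_264_268 c) (Nat.ble 264 c)
noncomputable def Ptab_s_253_268 (c : Nat) : Nat := @Bool.rec (fun _ => Nat) (Ptab_s_253_260 c) (Ptab_s_260_268 c) (Nat.ble 260 c)
noncomputable def Ptab_s_239_268 (c : Nat) : Nat := @Bool.rec (fun _ => Nat) (Ptab_s_239_253 c) (Ptab_s_253_268 c) (Nat.ble 253 c)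
noncomputable def Ptab_s_269_271 (c : Nat) : Nat := @Bool.rec (fun _ => Nat) (Ptab_269) (Ptab_270) (Nat.ble 270 c)
noncomputable def Ptab_s_268_271 (c : Nat) : Nat := @Bool.rec (fun _ => Nat) (Ptab_268) (Ptab_s_269_271 c) (Nat.ble 269 c)
noncomputable def Ptab_s_271_273 (c : Nat) : Nat := @Bool.rec (fun _ => Nat) (Ptab_271) (Ptab_272) (Nat.ble 272 c)
noncomputable def Ptab_s_273_275 (c : Nat) : Nat := @Bool.rec (fun _ => Nat) (Ptab_273) (Ptab_274) (Nat.ble 274 c)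
noncomputable def Ptab_s_271_275 (c : Nat) : Nat := @Bool.rec (fun _ => Nat) (Ptab_s_271_273 c) (Ptab_s_273_275 c) (Nat.ble 273 c)
noncomputable def Ptab_s_268_275 (c : Nat) : Nat := @Bool.rec (fun _ => Nat) (Ptab_s_268_271 c) (Ptab_s_271_275 c) (Nat.ble 271 c)
noncomputable def Ptab_s_275_277 (c : Nat) : Nat := @Bool.rec (fun _ => Nat) (Ptab_275) (Ptab_276) (Nat.ble 276 c)
noncomputable def Ptab_s_277_279 (c : Nat) : Nat := @Bool.rec (fun _ => Nat) (Ptab_277) (Ptab_278) (Nat.ble 278 c)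
noncomputable def Ptab_s_275_279 (c : Nat) : Nat := @Bool.rec (fun _ => Nat) (Ptab_s_275_277 c) (Ptab_s_277_279 c) (Nat.ble 277 c)
noncomputable def Ptab_s_279_281 (c : Nat) : Nat := @Bool.rec (fun _ => Nat) (Ptab_279) (Ptab_280) (Nat.ble 280 c)
noncomputable def Ptab_s_281_283 (c : Nat) : Nat := @Bool.rec (fun _ => Nat) (Ptab_281) (Ptab_282) (Nat.ble 282 c)
noncomputable def Ptab_s_279_283 (c : Nat) : Nat := @Bool.rec (fun _ => Nat) (Ptab_s_279_281 c) (Ptab_s_281_283 c) (Nat.ble 281 c)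
noncomputable def Ptab_s_275_283 (c : Nat) : Nat := @Bool.rec (fun _ => Nat) (Ptab_s_275_279 c) (Ptab_s_279_283 c) (Nat.ble 279 c)
noncomputable def Ptab_s_268_283 (c : Nat) : Nat := @Bool.rec (fun _ => Nat) (Ptab_s_268_275 c) (Ptab_s_275_283 c) (Nat.ble 275 c)
noncomputable def Ptab_s_284_286 (c : Nat) : Nat := @Bool.rec (fun _ => Nat) (Ptab_284) (Ptab_285) (Nat.ble 285 c)
noncomputable def Ptab_s_283_286 (c : Nat) : Nat := @Bool.rec (fun _ => Nat) (Ptab_283) (Ptab_s_284_286 c) (Nat.ble 284 c)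
noncomputable def Ptab_s_286_288 (c : Nat) : Nat := @Bool.rec (fun _ => Nat) (Ptab_286) (Ptab_287) (Nat.ble 287 c)
noncomputable def Ptab_s_288_290 (c : Nat) : Nat := @Bool.rec (fun _ => Nat) (Ptab_288) (Ptab_289) (Nat.ble 289 c)
noncomputable def Ptab_s_286_290 (c : Nat) : Nat := @Bool.rec (fun _ => Nat) (Ptab_s_286_288 c) (Ptab_s_288_290 c) (Nat.ble 288 c)
noncomputable def Ptab_s_283_290 (c : Nat) : Nat := @Bool.rec (fun _ => Nat) (Ptab_s_283_286 c) (Ptab_s_286_290 c) (Nat.ble 286 c)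
noncomputable def Ptab_s_290_292 (c : Nat) : Nat := @Bool.rec (fun _ => Nat) (Ptab_290) (Ptab_291) (Nat.ble 291 c)
noncomputable def Ptab_s_292_294 (c : Nat) : Nat := @Bool.rec (fun _ => Nat) (Ptab_292) (Ptab_293) (Nat.ble 293 c)
noncomputable def Ptab_s_290_294 (c : Nat) : Nat := @Bool.rec (fun _ => Nat) (Ptab_s_290_292 c) (Ptab_s_292_294 c) (Nat.ble 292 c)
noncomputable def Ptab_s_294_296 (c : Nat) : Nat := @Bool.rec (fun _ => Nat) (Ptab_294) (Ptab_295) (Nat.ble 295 c)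
noncomputable def Ptab_s_296_298 (c : Nat) : Nat := @Bool.rec (fun _ => Nat) (Ptab_296) (Ptab_297) (Nat.ble 297 c)
noncomputable def Ptab_s_294_298 (c : Nat) : Nat := @Bool.rec (fun _ => Nat) (Ptab_s_294_296 c) (Ptab_s_296_298 c) (Nat.ble 296 c)
noncomputable def Ptab_s_290_298 (c : Nat) : Nat := @Bool.rec (fun _ => Nat) (Ptab_s_290_294 c) (Ptab_s_294_298 c) (Nat.ble 294 c)
noncomputable def Ptab_s_283_298 (c : Nat) : Nat := @Bool.rec (fun _ => Nat) (Ptab_s_283_290 c) (Ptab_s_290_298 c) (Nat.ble 290 c)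
noncomputable def Ptab_s_268_298 (c : Nat) : Nat := @Bool.rec (fun _ => Nat) (Ptab_s_268_283 c) (Ptab_s_283_298 c) (Nat.ble 283 c)
noncomputable def Ptab_s_239_298 (c : Nat) : Nat := @Bool.rec (fun _ => Nat) (Ptab_s_239_268 c) (Ptab_s_268_298 c) (Nat.ble 268 c)
noncomputable def Ptab_s_299_301 (c : Nat) : Nat := @Bool.rec (fun _ => Nat) (Ptab_299) (Ptab_300) (Nat.ble 300 c)
noncomputable def Ptab_s_298_301 (c : Nat) : Nat := @Bool.rec (fun _ => Nat) (Ptab_298) (Ptab_s_299_301 c) (Nat.ble 299 c)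
noncomputable def Ptab_s_301_303 (c : Nat) : Nat := @Bool.rec (fun _ => Nat) (Ptab_301) (Ptab_302) (Nat.ble 302 c)
noncomputable def Ptab_s_303_305 (c : Nat) : Nat := @Bool.rec (fun _ => Nat) (Ptab_303) (Ptab_304) (Nat.ble 304 c)
noncomputable def Ptab_s_301_305 (c : Nat) : Nat := @Bool.rec (fun _ => Nat) (Ptab_s_301_303 c) (Ptab_s_303_305 c) (Nat.ble 303 c)
noncomputable def Ptab_s_298_305 (c : Nat) : Nat := @Bool.rec (fun _ => Nat) (Ptab_s_298_301 c) (Ptab_s_301_305 c) (Nat.ble 301 c)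
noncomputable def Ptab_s_305_307 (c : Nat) : Nat := @Bool.rec (fun _ => Nat) (Ptab_305) (Ptab_306) (Nat.ble 306 c)
noncomputable def Ptab_s_307_309 (c : Nat) : Nat := @Bool.rec (fun _ => Nat) (Ptab_307) (Ptab_308) (Nat.ble 308 c)
noncomputable def Ptab_s_305_309 (c : Nat) : Nat := @Bool.rec (fun _ => Nat) (Ptab_s_305_307 c) (Ptab_s_307_309 c) (Nat.ble 307 c)
noncomputable def Ptab_s_309_311 (c : Nat) : Nat := @Bool.rec (fun _ => Nat) (Ptab_309) (Ptab_310) (Nat.ble 310 c)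
noncomputable def Ptab_s_311_313 (c : Nat) : Nat := @Bool.rec (fun _ => Nat) (Ptab_311) (Ptab_312) (Nat.ble 312 c)
noncomputable def Ptab_s_309_313 (c : Nat) : Nat := @Bool.rec (fun _ => Nat) (Ptab_s_309_311 c) (Ptab_s_311_313 c) (Nat.ble 311 c)
noncomputable def Ptab_s_305_313 (c : Nat) : Nat := @Bool.rec (fun _ => Nat) (Ptab_s_305_309 c) (Ptab_s_309_313 c) (Nat.ble 309 c)
noncomputable def Ptab_s_298_313 (c : Nat) : Nat := @Bool.rec (fun _ => Nat) (Ptab_s_298_305 c) (Ptab_s_305_313 c) (Nat.ble 305 c)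
noncomputable def Ptab_s_314_316 (c : Nat) : Nat := @Bool.rec (fun _ => Nat) (Ptab_314) (Ptab_315) (Nat.ble 315 c)
noncomputable def Ptab_s_313_316 (c : Nat) : Nat := @Bool.rec (fun _ => Nat) (Ptab_313) (Ptab_s_314_316 c) (Nat.ble 314 c)
noncomputable def Ptab_s_316_318 (c : Nat) : Nat := @Bool.rec (fun _ => Nat) (Ptab_316) (Ptab_317) (Nat.ble 317 c)
noncomputable def Ptab_s_318_320 (c : Nat) : Nat := @Bool.rec (fun _ => Nat) (Ptab_318) (Ptab_319) (Nat.ble 319 c)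
noncomputable def Ptab_s_316_320 (c : Nat) : Nat := @Bool.rec (fun _ => Nat) (Ptab_s_316_318 c) (Ptab_s_318_320 c) (Nat.ble 318 c)
noncomputable def Ptab_s_313_320 (c : Nat) : Nat := @Bool.rec (fun _ => Nat) (Ptab_s_313_316 c) (Ptab_s_316_320 c) (Nat.ble 316 c)
noncomputable def Ptab_s_320_322 (c : Nat) : Nat := @Bool.rec (fun _ => Nat) (Ptab_320) (Ptab_321) (Nat.ble 321 c)
noncomputable def Ptab_s_322_324 (c : Nat) : Nat := @Bool.rec (fun _ => Nat) (Ptab_322) (Ptab_323) (Nat.ble 323 c)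
noncomputable def Ptab_s_320_324 (c : Nat) : Nat := @Bool.rec (fun _ => Nat) (Ptab_s_320_322 c) (Ptab_s_322_324 c) (Nat.ble 322 c)
noncomputable def Ptab_s_324_326 (c : Nat) : Nat := @Bool.rec (fun _ => Nat) (Ptab_324) (Ptab_325) (Nat.ble 325 c)
noncomputable def Ptab_s_326_328 (c : Nat) : Nat := @Bool.rec (fun _ => Nat) (Ptab_326) (Ptab_327) (Nat.ble 327 c)
noncomputable def Ptab_s_324_328 (c : Nat) : Nat := @Bool.rec (fun _ => Nat) (Ptab_s_324_326 c) (Ptab_s_326_328 c) (Nat.ble 326 c)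
noncomputable def Ptab_s_320_328 (c : Nat) : Nat := @Bool.rec (fun _ => Nat) (Ptab_s_320_324 c) (Ptab_s_324_328 c) (Nat.ble 324 c)
noncomputable def Ptab_s_313_328 (c : Nat) : Nat := @Bool.rec (fun _ => Nat) (Ptab_s_313_320 c) (Ptab_s_320_328 c) (Nat.ble 320 c)
noncomputable def Ptab_s_298_328 (c : Nat) : Nat := @Bool.rec (fun _ => Nat) (Ptab_s_298_313 c) (Ptab_s_313_328 c) (Nat.ble 313 c)
noncomputable def Ptab_s_329_331 (c : Nat) : Nat := @Bool.rec (fun _ => Nat) (Ptab_329) (Ptab_330) (Nat.ble 330 c)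
noncomputable def Ptab_s_328_331 (c : Nat) : Nat := @Bool.rec (fun _ => Nat) (Ptab_328) (Ptab_s_329_331 c) (Nat.ble 329 c)
noncomputable def Ptab_s_331_333 (c : Nat) : Nat := @Bool.rec (fun _ => Nat) (Ptab_331) (Ptab_332) (Nat.ble 332 c)
noncomputable def Ptab_s_333_335 (c : Nat) : Nat := @Bool.rec (fun _ => Nat) (Ptab_333) (Ptab_334) (Nat.ble 334 c)
noncomputable def Ptab_s_331_335 (c : Nat) : Nat := @Bool.rec (fun _ => Nat) (Ptab_s_331_333 c) (Ptab_s_333_335 c) (Nat.ble 333 c)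
noncomputable def Ptab_s_328_335 (c : Nat) : Nat := @Bool.rec (fun _ => Nat) (Ptab_s_328_331 c) (Ptab_s_331_335 c) (Nat.ble 331 c)
noncomputable def Ptab_s_335_337 (c : Nat) : Nat := @Bool.rec (fun _ => Nat) (Ptab_335) (Ptab_336) (Nat.ble 336 c)
noncomputable def Ptab_s_337_339 (c : Nat) : Nat := @Bool.rec (fun _ => Nat) (Ptab_337) (Ptab_338) (Nat.ble 338 c)
noncomputable def Ptab_s_335_339 (c : Nat) : Nat := @Bool.rec (fun _ => Nat) (Ptab_s_335_337 c) (Ptab_s_337_339 c) (Nat.ble 337 c)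
noncomputable def Ptab_s_339_341 (c : Nat) : Nat := @Bool.rec (fun _ => Nat) (Ptab_339) (Ptab_340) (Nat.ble 340 c)
noncomputable def Ptab_s_341_343 (c : Nat) : Nat := @Bool.rec (fun _ => Nat) (Ptab_341) (Ptab_342) (Nat.ble 342 c)
noncomputable def Ptab_s_339_343 (c : Nat) : Nat := @Bool.rec (fun _ => Nat) (Ptab_s_339_341 c) (Ptab_s_341_343 c) (Nat.ble 341 c)
noncomputable def Ptab_s_335_343 (c : Nat) : Nat := @Bool.rec (fun _ => Nat) (Ptab_s_335_339 c) (Ptab_s_339_343 c) (Nat.ble 339 c)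
noncomputable def Ptab_s_328_343 (c : Nat) : Nat := @Bool.rec (fun _ => Nat) (Ptab_s_328_335 c) (Ptab_s_335_343 c) (Nat.ble 335 c)
noncomputable def Ptab_s_344_346 (c : Nat) : Nat := @Bool.rec (fun _ => Nat) (Ptab_344) (Ptab_345) (Nat.ble 345 c)
noncomputable def Ptab_s_343_346 (c : Nat) : Nat := @Bool.rec (fun _ => Nat) (Ptab_343) (Ptab_s_344_346 c) (Nat.ble 344 c)
noncomputable def Ptab_s_346_348 (c : Nat) : Nat := @Bool.rec (fun _ => Nat) (Ptab_346) (Ptab_347) (Nat.ble 347 c)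
noncomputable def Ptab_s_348_350 (c : Nat) : Nat := @Bool.rec (fun _ => Nat) (Ptab_348) (Ptab_349) (Nat.ble 349 c)
noncomputable def Ptab_s_346_350 (c : Nat) : Nat := @Bool.rec (fun _ => Nat) (Ptab_s_346_348 c) (Ptab_s_348_350 c) (Nat.ble 348 c)
noncomputable def Ptab_s_343_350 (c : Nat) : Nat := @Bool.rec (fun _ => Nat) (Ptab_s_343_346 c) (Ptab_s_346_350 c) (Nat.ble 346 c)
noncomputable def Ptab_s_350_352 (c : Nat) : Nat := @Bool.rec (fun _ => Nat) (Ptab_350) (Ptab_351) (Nat.ble 351 c)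
noncomputable def Ptab_s_352_354 (c : Nat) : Nat := @Bool.rec (fun _ => Nat) (Ptab_352) (Ptab_353) (Nat.ble 353 c)
noncomputable def Ptab_s_350_354 (c : Nat) : Nat := @Bool.rec (fun _ => Nat) (Ptab_s_350_352 c) (Ptab_s_352_354 c) (Nat.ble 352 c)
noncomputable def Ptab_s_354_356 (c : Nat) : Nat := @Bool.rec (fun _ => Nat) (Ptab_354) (Ptab_355) (Nat.ble 355 c)
noncomputable def Ptab_s_356_358 (c : Nat) : Nat := @Bool.rec (fun _ => Nat) (Ptab_356) (Ptab_357) (Nat.ble 357 c)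
noncomputable def Ptab_s_354_358 (c : Nat) : Nat := @Bool.rec (fun _ => Nat) (Ptab_s_354_356 c) (Ptab_s_356_358 c) (Nat.ble 356 c)
noncomputable def Ptab_s_350_358 (c : Nat) : Nat := @Bool.rec (fun _ => Nat) (Ptab_s_350_354 c) (Ptab_s_354_358 c) (Nat.ble 354 c)
noncomputable def Ptab_s_343_358 (c : Nat) : Nat := @Bool.rec (fun _ => Nat) (Ptab_s_343_350 c) (Ptab_s_350_358 c) (Nat.ble 350 c)
noncomputable def Ptab_s_328_358 (c : Nat) : Nat := @Bool.rec (fun _ => Nat) (Ptab_s_328_343 c) (Ptab_s_343_358 c) (Nat.ble 343 c)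
noncomputable def Ptab_s_298_358 (c : Nat) : Nat := @Bool.rec (fun _ => Nat) (Ptab_s_298_328 c) (Ptab_s_328_358 c) (Nat.ble 328 c)
noncomputable def Ptab_s_239_358 (c : Nat) : Nat := @Bool.rec (fun _ => Nat) (Ptab_s_239_298 c) (Ptab_s_298_358 c) (Nat.ble 298 c)
noncomputable def Ptab_s_359_361 (c : Nat) : Nat := @Bool.rec (fun _ => Nat) (Ptab_359) (Ptab_360) (Nat.ble 360 c)
noncomputable def Ptab_s_358_361 (c : Nat) : Nat := @Bool.rec (fun _ => Nat) (Ptab_358) (Ptab_s_359_361 c) (Nat.ble 359 c)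
noncomputable def Ptab_s_361_363 (c : Nat) : Nat := @Bool.rec (fun _ => Nat) (Ptab_361) (Ptab_362) (Nat.ble 362 c)
noncomputable def Ptab_s_363_365 (c : Nat) : Nat := @Bool.rec (fun _ => Nat) (Ptab_363) (Ptab_364) (Nat.ble 364 c)
noncomputable def Ptab_s_361_365 (c : Nat) : Nat := @Bool.rec (fun _ => Nat) (Ptab_s_361_363 c) (Ptab_s_363_365 c) (Nat.ble 363 c)
noncomputable def Ptab_s_358_365 (c : Nat) : Nat := @Bool.rec (fun _ => Nat) (Ptab_s_358_361 c) (Ptab_s_361_365 c) (Nat.ble 361 c)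
noncomputable def Ptab_s_365_367 (c : Nat) : Nat := @Bool.rec (fun _ => Nat) (Ptab_365) (Ptab_366) (Nat.ble 366 c)
noncomputable def Ptab_s_367_369 (c : Nat) : Nat := @Bool.rec (fun _ => Nat) (Ptab_367) (Ptab_368) (Nat.ble 368 c)
noncomputable def Ptab_s_365_369 (c : Nat) : Nat := @Bool.rec (fun _ => Nat) (Ptab_s_365_367 c) (Ptab_s_367_369 c) (Nat.ble 367 c)
noncomputable def Ptab_s_369_371 (c : Nat) : Nat := @Bool.rec (fun _ => Nat) (Ptab_369) (Ptab_370) (Nat.ble 370 c)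
noncomputable def Ptab_s_371_373 (c : Nat) : Nat := @Bool.rec (fun _ => Nat) (Ptab_371) (Ptab_372) (Nat.ble 372 c)
noncomputable def Ptab_s_369_373 (c : Nat) : Nat := @Bool.rec (fun _ => Nat) (Ptab_s_369_371 c) (Ptab_s_371_373 c) (Nat.ble 371 c)
noncomputable def Ptab_s_365_373 (c : Nat) : Nat := @Bool.rec (fun _ => Nat) (Ptab_s_365_369 c) (Ptab_s_369_373 c) (Nat.ble 369 c)
noncomputable def Ptab_s_358_373 (c : Nat) : Nat := @Bool.rec (fun _ => Nat) (Ptab_s_358_365 c) (Ptab_s_365_373 c) (Nat.ble 365 c)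
noncomputable def Ptab_s_374_376 (c : Nat) : Nat := @Bool.rec (fun _ => Nat) (Ptab_374) (Ptab_375) (Nat.ble 375 c)
noncomputable def Ptab_s_373_376 (c : Nat) : Nat := @Bool.rec (fun _ => Nat) (Ptab_373) (Ptab_s_374_376 c) (Nat.ble 374 c)
noncomputable def Ptab_s_376_378 (c : Nat) : Nat := @Bool.rec (fun _ => Nat) (Ptab_376) (Ptab_377) (Nat.ble 377 c)
noncomputable def Ptab_s_378_380 (c : Nat) : Nat := @Bool.rec (fun _ => Nat) (Ptab_378) (Ptab_379) (Nat.ble 379 c)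
noncomputable def Ptab_s_376_380 (c : Nat) : Nat := @Bool.rec (fun _ => Nat) (Ptab_s_376_378 c) (Ptab_s_378_380 c) (Nat.ble 378 c)
noncomputable def Ptab_s_373_380 (c : Nat) : Nat := @Bool.rec (fun _ => Nat) (Ptab_s_373_376 c) (Ptab_s_376_380 c) (Nat.ble 376 c)
noncomputable def Ptab_s_380_382 (c : Nat) : Nat := @Bool.rec (fun _ => Nat) (Ptab_380) (Ptab_381) (Nat.ble 381 c)
noncomputable def Ptab_s_382_384 (c : Nat) : Nat := @Bool.rec (fun _ => Nat) (Ptab_382) (Ptab_383) (Nat.ble 383 c)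
noncomputable def Ptab_s_380_384 (c : Nat) : Nat := @Bool.rec (fun _ => Nat) (Ptab_s_380_382 c) (Ptab_s_382_384 c) (Nat.ble 382 c)
noncomputable def Ptab_s_384_386 (c : Nat) : Nat := @Bool.rec (fun _ => Nat) (Ptab_384) (Ptab_385) (Nat.ble 385 c)
noncomputable def Ptab_s_386_388 (c : Nat) : Nat := @Bool.rec (fun _ => Nat) (Ptab_386) (Ptab_387) (Nat.ble 387 c)
noncomputable def Ptab_s_384_388 (c : Nat) : Nat := @Bool.rec (fun _ => Nat) (Ptab_s_384_386 c) (Ptab_s_386_388 c) (Nat.ble 386 c)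
noncomputable def Ptab_s_380_388 (c : Nat) : Nat := @Bool.rec (fun _ => Nat) (Ptab_s_380_384 c) (Ptab_s_384_388 c) (Nat.ble 384 c)
noncomputable def Ptab_s_373_388 (c : Nat) : Nat := @Bool.rec (fun _ => Nat) (Ptab_s_373_380 c) (Ptab_s_380_388 c) (Nat.ble 380 c)
noncomputable def Ptab_s_358_388 (c : Nat) : Nat := @Bool.rec (fun _ => Nat) (Ptab_s_358_373 c) (Ptab_s_373_388 c) (Nat.ble 373 c)
noncomputable def Ptab_s_389_391 (c : Nat) : Nat := @Bool.rec (fun _ => Nat) (Ptab_389) (Ptab_390) (Nat.ble 390 c)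
noncomputable def Ptab_s_388_391 (c : Nat) : Nat := @Bool.rec (fun _ => Nat) (Ptab_388) (Ptab_s_389_391 c) (Nat.ble 389 c)
noncomputable def Ptab_s_391_393 (c : Nat) : Nat := @Bool.rec (fun _ => Nat) (Ptab_391) (Ptab_392) (Nat.ble 392 c)
noncomputable def Ptab_s_393_395 (c : Nat) : Nat := @Bool.rec (fun _ => Nat) (Ptab_393) (Ptab_394) (Nat.ble 394 c)
noncomputable def Ptab_s_391_395 (c : Nat) : Nat := @Bool.rec (fun _ => Nat) (Ptab_s_391_393 c) (Ptab_s_393_395 c) (Nat.ble 393 c)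
noncomputable def Ptab_s_388_395 (c : Nat) : Nat := @Bool.rec (fun _ => Nat) (Ptab_s_388_391 c) (Ptab_s_391_395 c) (Nat.ble 391 c)
noncomputable def Ptab_s_395_397 (c : Nat) : Nat := @Bool.rec (fun _ => Nat) (Ptab_395) (Ptab_396) (Nat.ble 396 c)
noncomputable def Ptab_s_397_399 (c : Nat) : Nat := @Bool.rec (fun _ => Nat) (Ptab_397) (Ptab_398) (Nat.ble 398 c)
noncomputable def Ptab_s_395_399 (c : Nat) : Nat := @Bool.rec (fun _ => Nat) (Ptab_s_395_397 c) (Ptab_s_397_399 c) (Nat.ble 397 c)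
noncomputable def Ptab_s_399_401 (c : Nat) : Nat := @Bool.rec (fun _ => Nat) (Ptab_399) (Ptab_400) (Nat.ble 400 c)
noncomputable def Ptab_s_401_403 (c : Nat) : Nat := @Bool.rec (fun _ => Nat) (Ptab_401) (Ptab_402) (Nat.ble 402 c)
noncomputable def Ptab_s_399_403 (c : Nat) : Nat := @Bool.rec (fun _ => Nat) (Ptab_s_399_401 c) (Ptab_s_401_403 c) (Nat.ble 401 c)
noncomputable def Ptab_s_395_403 (c : Nat) : Nat := @Bool.rec (fun _ => Nat) (Ptab_s_395_399 c) (Ptab_s_399_403 c) (Nat.ble 399 c)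
noncomputable def Ptab_s_388_403 (c : Nat) : Nat := @Bool.rec (fun _ => Nat) (Ptab_s_388_395 c) (Ptab_s_395_403 c) (Nat.ble 395 c)
noncomputable def Ptab_s_404_406 (c : Nat) : Nat := @Bool.rec (fun _ => Nat) (Ptab_404) (Ptab_405) (Nat.ble 405 c)
noncomputable def Ptab_s_403_406 (c : Nat) : Nat := @Bool.rec (fun _ => Nat) (Ptab_403) (Ptab_s_404_406 c) (Nat.ble 404 c)
noncomputable def Ptab_s_406_408 (c : Nat) : Nat := @Bool.rec (fun _ => Nat) (Ptab_406) (Ptab_407) (Nat.ble 407 c)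
noncomputable def Ptab_s_408_410 (c : Nat) : Nat := @Bool.rec (fun _ => Nat) (Ptab_408) (Ptab_409) (Nat.ble 409 c)
noncomputable def Ptab_s_406_410 (c : Nat) : Nat := @Bool.rec (fun _ => Nat) (Ptab_s_406_408 c) (Ptab_s_408_410 c) (Nat.ble 408 c)
noncomputable def Ptab_s_403_410 (c : Nat) : Nat := @Bool.rec (fun _ => Nat) (Ptab_s_403_406 c) (Ptab_s_406_410 c) (Nat.ble 406 c)
noncomputable def Ptab_s_410_412 (c : Nat) : Nat := @Bool.rec (fun _ => Nat) (Ptab_410) (Ptab_411) (Nat.ble 411 c)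
noncomputable def Ptab_s_412_414 (c : Nat) : Nat := @Bool.rec (fun _ => Nat) (Ptab_412) (Ptab_413) (Nat.ble 413 c)
noncomputable def Ptab_s_410_414 (c : Nat) : Nat := @Bool.rec (fun _ => Nat) (Ptab_s_410_412 c) (Ptab_s_412_414 c) (Nat.ble 412 c)
noncomputable def Ptab_s_414_416 (c : Nat) : Nat := @Bool.rec (fun _ => Nat) (Ptab_414) (Ptab_415) (Nat.ble 415 c)
noncomputable def Ptab_s_416_418 (c : Nat) : Nat := @Bool.rec (fun _ => Nat) (Ptab_416) (Ptab_417) (Nat.ble 417 c)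
noncomputable def Ptab_s_414_418 (c : Nat) : Nat := @Bool.rec (fun _ => Nat) (Ptab_s_414_416 c) (Ptab_s_416_418 c) (Nat.ble 416 c)
noncomputable def Ptab_s_410_418 (c : Nat) : Nat := @Bool.rec (fun _ => Nat) (Ptab_s_410_414 c) (Ptab_s_414_418 c) (Nat.ble 414 c)
noncomputable def Ptab_s_403_418 (c : Nat) : Nat := @Bool.rec (fun _ => Nat) (Ptab_s_403_410 c) (Ptab_s_410_418 c) (Nat.ble 410 c)
noncomputable def Ptab_s_388_418 (c : Nat) : Nat := @Bool.rec (fun _ => Nat) (Ptab_s_388_403 c) (Ptab_s_403_418 c) (Nat.ble 403 c)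
noncomputable def Ptab_s_358_418 (c : Nat) : Nat := @Bool.rec (fun _ => Nat) (Ptab_s_358_388 c) (Ptab_s_388_418 c) (Nat.ble 388 c)
noncomputable def Ptab_s_419_421 (c : Nat) : Nat := @Bool.rec (fun _ => Nat) (Ptab_419) (Ptab_420) (Nat.ble 420 c)
noncomputable def Ptab_s_418_421 (c : Nat) : Nat := @Bool.rec (fun _ => Nat) (Ptab_418) (Ptab_s_419_421 c) (Nat.ble 419 c)
noncomputable def Ptab_s_421_423 (c : Nat) : Nat := @Bool.rec (fun _ => Nat) (Ptab_421) (Ptab_422) (Nat.ble 422 c)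
noncomputable def Ptab_s_423_425 (c : Nat) : Nat := @Bool.rec (fun _ => Nat) (Ptab_423) (Ptab_424) (Nat.ble 424 c)
noncomputable def Ptab_s_421_425 (c : Nat) : Nat := @Bool.rec (fun _ => Nat) (Ptab_s_421_423 c) (Ptab_s_423_425 c) (Nat.ble 423 c)
noncomputable def Ptab_s_418_425 (c : Nat) : Nat := @Bool.rec (fun _ => Nat) (Ptab_s_418_421 c) (Ptab_s_421_425 c) (Nat.ble 421 c)
noncomputable def Ptab_s_425_427 (c : Nat) : Nat := @Bool.rec (fun _ => Nat) (Ptab_425) (Ptab_426) (Nat.ble 426 c)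
noncomputable def Ptab_s_427_429 (c : Nat) : Nat := @Bool.rec (fun _ => Nat) (Ptab_427) (Ptab_428) (Nat.ble 428 c)
noncomputable def Ptab_s_425_429 (c : Nat) : Nat := @Bool.rec (fun _ => Nat) (Ptab_s_425_427 c) (Ptab_s_427_429 c) (Nat.ble 427 c)
noncomputable def Ptab_s_429_431 (c : Nat) : Nat := @Bool.rec (fun _ => Nat) (Ptab_429) (Ptab_430) (Nat.ble 430 c)
noncomputable def Ptab_s_431_433 (c : Nat) : Nat := @Bool.rec (fun _ => Nat) (Ptab_431) (Ptab_432) (Nat.ble 432 c)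
noncomputable def Ptab_s_429_433 (c : Nat) : Nat := @Bool.rec (fun _ => Nat) (Ptab_s_429_431 c) (Ptab_s_431_433 c) (Nat.ble 431 c)
noncomputable def Ptab_s_425_433 (c : Nat) : Nat := @Bool.rec (fun _ => Nat) (Ptab_s_425_429 c) (Ptab_s_429_433 c) (Nat.ble 429 c)
noncomputable def Ptab_s_418_433 (c : Nat) : Nat := @Bool.rec (fun _ => Nat) (Ptab_s_418_425 c) (Ptab_s_425_433 c) (Nat.ble 425 c)
noncomputable def Ptab_s_434_436 (c : Nat) : Nat := @Bool.rec (fun _ => Nat) (Ptab_434) (Ptab_435) (Nat.ble 435 c)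
noncomputable def Ptab_s_433_436 (c : Nat) : Nat := @Bool.rec (fun _ => Nat) (Ptab_433) (Ptab_s_434_436 c) (Nat.ble 434 c)
noncomputable def Ptab_s_436_438 (c : Nat) : Nat := @Bool.rec (fun _ => Nat) (Ptab_436) (Ptab_437) (Nat.ble 437 c)
noncomputable def Ptab_s_438_440 (c : Nat) : Nat := @Bool.rec (fun _ => Nat) (Ptab_438) (Ptab_439) (Nat.ble 439 c)
noncomputable def Ptab_s_436_440 (c : Nat) : Nat := @Bool.rec (fun _ => Nat) (Ptab_s_436_438 c) (Ptab_s_438_440 c) (Nat.ble 438 c)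
noncomputable def Ptab_s_433_440 (c : Nat) : Nat := @Bool.rec (fun _ => Nat) (Ptab_s_433_436 c) (Ptab_s_436_440 c) (Nat.ble 436 c)
noncomputable def Ptab_s_440_442 (c : Nat) : Nat := @Bool.rec (fun _ => Nat) (Ptab_440) (Ptab_441) (Nat.ble 441 c)
noncomputable def Ptab_s_442_444 (c : Nat) : Nat := @Bool.rec (fun _ => Nat) (Ptab_442) (Ptab_443) (Nat.ble 443 c)
noncomputable def Ptab_s_440_444 (c : Nat) : Nat := @Bool.rec (fun _ => Nat) (Ptab_s_440_442 c) (Ptab_s_442_444 c) (Nat.ble 442 c)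
noncomputable def Ptab_s_444_446 (c : Nat) : Nat := @Bool.rec (fun _ => Nat) (Ptab_444) (Ptab_445) (Nat.ble 445 c)
noncomputable def Ptab_s_446_448 (c : Nat) : Nat := @Bool.rec (fun _ => Nat) (Ptab_446) (Ptab_447) (Nat.ble 447 c)
noncomputable def Ptab_s_444_448 (c : Nat) : Nat := @Bool.rec (fun _ => Nat) (Ptab_s_444_446 c) (Ptab_s_446_448 c) (Nat.ble 446 c)
noncomputable def Ptab_s_440_448 (c : Nat) : Nat := @Bool.rec (fun _ => Nat) (Ptab_s_440_444 c) (Ptab_s_444_448 c) (Nat.ble 444 c)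
noncomputable def Ptab_s_433_448 (c : Nat) : Nat := @Bool.rec (fun _ => Nat) (Ptab_s_433_440 c) (Ptab_s_440_448 c) (Nat.ble 440 c)
noncomputable def Ptab_s_418_448 (c : Nat) : Nat := @Bool.rec (fun _ => Nat) (Ptab_s_418_433 c) (Ptab_s_433_448 c) (Nat.ble 433 c)
noncomputable def Ptab_s_449_451 (c : Nat) : Nat := @Bool.rec (fun _ => Nat) (Ptab_449) (Ptab_450) (Nat.ble 450 c)
noncomputable def Ptab_s_448_451 (c : Nat) : Nat := @Bool.rec (fun _ => Nat) (Ptab_448) (Ptab_s_449_451 c) (Nat.ble 449 c)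
noncomputable def Ptab_s_451_453 (c : Nat) : Nat := @Bool.rec (fun _ => Nat) (Ptab_451) (Ptab_452) (Nat.ble 452 c)
noncomputable def Ptab_s_453_455 (c : Nat) : Nat := @Bool.rec (fun _ => Nat) (Ptab_453) (Ptab_454) (Nat.ble 454 c)
noncomputable def Ptab_s_451_455 (c : Nat) : Nat := @Bool.rec (fun _ => Nat) (Ptab_s_451_453 c) (Ptab_s_453_455 c) (Nat.ble 453 c)
noncomputable def Ptab_s_448_455 (c : Nat) : Nat := @Bool.rec (fun _ => Nat) (Ptab_s_448_451 c) (Ptab_s_451_455 c) (Nat.ble 451 c)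
noncomputable def Ptab_s_455_457 (c : Nat) : Nat := @Bool.rec (fun _ => Nat) (Ptab_455) (Ptab_456) (Nat.ble 456 c)
noncomputable def Ptab_s_457_459 (c : Nat) : Nat := @Bool.rec (fun _ => Nat) (Ptab_457) (Ptab_458) (Nat.ble 458 c)
noncomputable def Ptab_s_455_459 (c : Nat) : Nat := @Bool.rec (fun _ => Nat) (Ptab_s_455_457 c) (Ptab_s_457_459 c) (Nat.ble 457 c)
noncomputable def Ptab_s_459_461 (c : Nat) : Nat := @Bool.rec (fun _ => Nat) (Ptab_459) (Ptab_460) (Nat.ble 460 c)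
noncomputable def Ptab_s_461_463 (c : Nat) : Nat := @Bool.rec (fun _ => Nat) (Ptab_461) (Ptab_462) (Nat.ble 462 c)
noncomputable def Ptab_s_459_463 (c : Nat) : Nat := @Bool.rec (fun _ => Nat) (Ptab_s_459_461 c) (Ptab_s_461_463 c) (Nat.ble 461 c)
noncomputable def Ptab_s_455_463 (c : Nat) : Nat := @Bool.rec (fun _ => Nat) (Ptab_s_455_459 c) (Ptab_s_459_463 c) (Nat.ble 459 c)
noncomputable def Ptab_s_448_463 (c : Nat) : Nat := @Bool.rec (fun _ => Nat) (Ptab_s_448_455 c) (Ptab_s_455_463 c) (Nat.ble 455 c)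
noncomputable def Ptab_s_464_466 (c : Nat) : Nat := @Bool.rec (fun _ => Nat) (Ptab_464) (Ptab_465) (Nat.ble 465 c)
noncomputable def Ptab_s_463_466 (c : Nat) : Nat := @Bool.rec (fun _ => Nat) (Ptab_463) (Ptab_s_464_466 c) (Nat.ble 464 c)
noncomputable def Ptab_s_466_468 (c : Nat) : Nat := @Bool.rec (fun _ => Nat) (Ptab_466) (Ptab_467) (Nat.ble 467 c)
noncomputable def Ptab_s_468_470 (c : Nat) : Nat := @Bool.rec (fun _ => Nat) (Ptab_468) (Ptab_469) (Nat.ble 469 c)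
noncomputable def Ptab_s_466_470 (c : Nat) : Nat := @Bool.rec (fun _ => Nat) (Ptab_s_466_468 c) (Ptab_s_468_470 c) (Nat.ble 468 c)
noncomputable def Ptab_s_463_470 (c : Nat) : Nat := @Bool.rec (fun _ => Nat) (Ptab_s_463_466 c) (Ptab_s_466_470 c) (Nat.ble 466 c)
noncomputable def Ptab_s_470_472 (c : Nat) : Nat := @Bool.rec (fun _ => Nat) (Ptab_470) (Ptab_471) (Nat.ble 471 c)
noncomputable def Ptab_s_472_474 (c : Nat) : Nat := @Bool.rec (fun _ => Nat) (Ptab_472) (Ptab_473) (Nat.ble 473 c)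
noncomputable def Ptab_s_470_474 (c : Nat) : Nat := @Bool.rec (fun _ => Nat) (Ptab_s_470_472 c) (Ptab_s_472_474 c) (Nat.ble 472 c)
noncomputable def Ptab_s_474_476 (c : Nat) : Nat := @Bool.rec (fun _ => Nat) (Ptab_474) (Ptab_475) (Nat.ble 475 c)
noncomputable def Ptab_s_476_478 (c : Nat) : Nat := @Bool.rec (fun _ => Nat) (Ptab_476) (Ptab_477) (Nat.ble 477 c)
noncomputable def Ptab_s_474_478 (c : Nat) : Nat := @Bool.rec (fun _ => Nat) (Ptab_s_474_476 c) (Ptab_s_476_478 c) (Nat.ble 476 c)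
noncomputable def Ptab_s_470_478 (c : Nat) : Nat := @Bool.rec (fun _ => Nat) (Ptab_s_470_474 c) (Ptab_s_474_478 c) (Nat.ble 474 c)
noncomputable def Ptab_s_463_478 (c : Nat) : Nat := @Bool.rec (fun _ => Nat) (Ptab_s_463_470 c) (Ptab_s_470_478 c) (Nat.ble 470 c)
noncomputable def Ptab_s_448_478 (c : Nat) : Nat := @Bool.rec (fun _ => Nat) (Ptab_s_448_463 c) (Ptab_s_463_478 c) (Nat.ble 463 c)
noncomputable def Ptab_s_418_478 (c : Nat) : Nat := @Bool.rec (fun _ => Nat) (Ptab_s_418_448 c) (Ptab_s_448_478 c) (Nat.ble 448 c)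
noncomputable def Ptab_s_358_478 (c : Nat) : Nat := @Bool.rec (fun _ => Nat) (Ptab_s_358_418 c) (Ptab_s_418_478 c) (Nat.ble 418 c)
noncomputable def Ptab_s_239_478 (c : Nat) : Nat := @Bool.rec (fun _ => Nat) (Ptab_s_239_358 c) (Ptab_s_358_478 c) (Nat.ble 358 c)
noncomputable def Ptab_s_0_478 (c : Nat) : Nat := @Bool.rec (fun _ => Nat) (Ptab_s_0_239 c) (Ptab_s_239_478 c) (Nat.ble 239 c)
noncomputable def Ptab_s_479_481 (c : Nat) : Nat := @Bool.rec (fun _ => Nat) (Ptab_479) (Ptab_480) (Nat.ble 480 c)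
noncomputable def Ptab_s_478_481 (c : Nat) : Nat := @Bool.rec (fun _ => Nat) (Ptab_478) (Ptab_s_479_481 c) (Nat.ble 479 c)
noncomputable def Ptab_s_481_483 (c : Nat) : Nat := @Bool.rec (fun _ => Nat) (Ptab_481) (Ptab_482) (Nat.ble 482 c)
noncomputable def Ptab_s_483_485 (c : Nat) : Nat := @Bool.rec (fun _ => Nat) (Ptab_483) (Ptab_484) (Nat.ble 484 c)
noncomputable def Ptab_s_481_485 (c : Nat) : Nat := @Bool.rec (fun _ => Nat) (Ptab_s_481_483 c) (Ptab_s_483_485 c) (Nat.ble 483 c)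
noncomputable def Ptab_s_478_485 (c : Nat) : Nat := @Bool.rec (fun _ => Nat) (Ptab_s_478_481 c) (Ptab_s_481_485 c) (Nat.ble 481 c)
noncomputable def Ptab_s_486_488 (c : Nat) : Nat := @Bool.rec (fun _ => Nat) (Ptab_486) (Ptab_487) (Nat.ble 487 c)
noncomputable def Ptab_s_485_488 (c : Nat) : Nat := @Bool.rec (fun _ => Nat) (Ptab_485) (Ptab_s_486_488 c) (Nat.ble 486 c)
noncomputable def Ptab_s_488_490 (c : Nat) : Nat := @Bool.rec (fun _ => Nat) (Ptab_488) (Ptab_489) (Nat.ble 489 c)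
noncomputable def Ptab_s_490_492 (c : Nat) : Nat := @Bool.rec (fun _ => Nat) (Ptab_490) (Ptab_491) (Nat.ble 491 c)
noncomputable def Ptab_s_488_492 (c : Nat) : Nat := @Bool.rec (fun _ => Nat) (Ptab_s_488_490 c) (Ptab_s_490_492 c) (Nat.ble 490 c)
noncomputable def Ptab_s_485_492 (c : Nat) : Nat := @Bool.rec (fun _ => Nat) (Ptab_s_485_488 c) (Ptab_s_488_492 c) (Nat.ble 488 c)
noncomputable def Ptab_s_478_492 (c : Nat) : Nat := @Bool.rec (fun _ => Nat) (Ptab_s_478_485 c) (Ptab_s_485_492 c) (Nat.ble 485 c)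
noncomputable def Ptab_s_493_495 (c : Nat) : Nat := @Bool.rec (fun _ => Nat) (Ptab_493) (Ptab_494) (Nat.ble 494 c)
noncomputable def Ptab_s_492_495 (c : Nat) : Nat := @Bool.rec (fun _ => Nat) (Ptab_492) (Ptab_s_493_495 c) (Nat.ble 493 c)
noncomputable def Ptab_s_495_497 (c : Nat) : Nat := @Bool.rec (fun _ => Nat) (Ptab_495) (Ptab_496) (Nat.ble 496 c)
noncomputable def Ptab_s_497_499 (c : Nat) : Nat := @Bool.rec (fun _ => Nat) (Ptab_497) (Ptab_498) (Nat.ble 498 c)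
noncomputable def Ptab_s_495_499 (c : Nat) : Nat := @Bool.rec (fun _ => Nat) (Ptab_s_495_497 c) (Ptab_s_497_499 c) (Nat.ble 497 c)
noncomputable def Ptab_s_492_499 (c : Nat) : Nat := @Bool.rec (fun _ => Nat) (Ptab_s_492_495 c) (Ptab_s_495_499 c) (Nat.ble 495 c)
noncomputable def Ptab_s_499_501 (c : Nat) : Nat := @Bool.rec (fun _ => Nat) (Ptab_499) (Ptab_500) (Nat.ble 500 c)
noncomputable def Ptab_s_501_503 (c : Nat) : Nat := @Bool.rec (fun _ => Nat) (Ptab_501) (Ptab_502) (Nat.ble 502 c)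
noncomputable def Ptab_s_499_503 (c : Nat) : Nat := @Bool.rec (fun _ => Nat) (Ptab_s_499_501 c) (Ptab_s_501_503 c) (Nat.ble 501 c)
noncomputable def Ptab_s_503_505 (c : Nat) : Nat := @Bool.rec (fun _ => Nat) (Ptab_503) (Ptab_504) (Nat.ble 504 c)
noncomputable def Ptab_s_505_507 (c : Nat) : Nat := @Bool.rec (fun _ => Nat) (Ptab_505) (Ptab_506) (Nat.ble 506 c)
noncomputable def Ptab_s_503_507 (c : Nat) : Nat := @Bool.rec (fun _ => Nat) (Ptab_s_503_505 c) (Ptab_s_505_507 c) (Nat.ble 505 c)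
noncomputable def Ptab_s_499_507 (c : Nat) : Nat := @Bool.rec (fun _ => Nat) (Ptab_s_499_503 c) (Ptab_s_503_507 c) (Nat.ble 503 c)
noncomputable def Ptab_s_492_507 (c : Nat) : Nat := @Bool.rec (fun _ => Nat) (Ptab_s_492_499 c) (Ptab_s_499_507 c) (Nat.ble 499 c)
noncomputable def Ptab_s_478_507 (c : Nat) : Nat := @Bool.rec (fun _ => Nat) (Ptab_s_478_492 c) (Ptab_s_492_507 c) (Nat.ble 492 c)
noncomputable def Ptab_s_508_510 (c : Nat) : Nat := @Bool.rec (fun _ => Nat) (Ptab_508) (Ptab_509) (Nat.ble 509 c)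
noncomputable def Ptab_s_507_510 (c : Nat) : Nat := @Bool.rec (fun _ => Nat) (Ptab_507) (Ptab_s_508_510 c) (Nat.ble 508 c)
noncomputable def Ptab_s_510_512 (c : Nat) : Nat := @Bool.rec (fun _ => Nat) (Ptab_510) (Ptab_511) (Nat.ble 511 c)
noncomputable def Ptab_s_512_514 (c : Nat) : Nat := @Bool.rec (fun _ => Nat) (Ptab_512) (Ptab_513) (Nat.ble 513 c)
noncomputable def Ptab_s_510_514 (c : Nat) : Nat := @Bool.rec (fun _ => Nat) (Ptab_s_510_512 c) (Ptab_s_512_514 c) (Nat.ble 512 c)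
noncomputable def Ptab_s_507_514 (c : Nat) : Nat := @Bool.rec (fun _ => Nat) (Ptab_s_507_510 c) (Ptab_s_510_514 c) (Nat.ble 510 c)
noncomputable def Ptab_s_514_516 (c : Nat) : Nat := @Bool.rec (fun _ => Nat) (Ptab_514) (Ptab_515) (Nat.ble 515 c)
noncomputable def Ptab_s_516_518 (c : Nat) : Nat := @Bool.rec (fun _ => Nat) (Ptab_516) (Ptab_517) (Nat.ble 517 c)
noncomputable def Ptab_s_514_518 (c : Nat) : Nat := @Bool.rec (fun _ => Nat) (Ptab_s_514_516 c) (Ptab_s_516_518 c) (Nat.ble 516 c)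
noncomputable def Ptab_s_518_520 (c : Nat) : Nat := @Bool.rec (fun _ => Nat) (Ptab_518) (Ptab_519) (Nat.ble 519 c)
noncomputable def Ptab_s_520_522 (c : Nat) : Nat := @Bool.rec (fun _ => Nat) (Ptab_520) (Ptab_521) (Nat.ble 521 c)
noncomputable def Ptab_s_518_522 (c : Nat) : Nat := @Bool.rec (fun _ => Nat) (Ptab_s_518_520 c) (Ptab_s_520_522 c) (Nat.ble 520 c)
noncomputable def Ptab_s_514_522 (c : Nat) : Nat := @Bool.rec (fun _ => Nat) (Ptab_s_514_518 c) (Ptab_s_518_522 c) (Nat.ble 518 c)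
noncomputable def Ptab_s_507_522 (c : Nat) : Nat := @Bool.rec (fun _ => Nat) (Ptab_s_507_514 c) (Ptab_s_514_522 c) (Nat.ble 514 c)
noncomputable def Ptab_s_523_525 (c : Nat) : Nat := @Bool.rec (fun _ => Nat) (Ptab_523) (Ptab_524) (Nat.ble 524 c)
noncomputable def Ptab_s_522_525 (c : Nat) : Nat := @Bool.rec (fun _ => Nat) (Ptab_522) (Ptab_s_523_525 c) (Nat.ble 523 c)
noncomputable def Ptab_s_525_527 (c : Nat) : Nat := @Bool.rec (fun _ => Nat) (Ptab_525) (Ptab_526) (Nat.ble 526 c)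
noncomputable def Ptab_s_527_529 (c : Nat) : Nat := @Bool.rec (fun _ => Nat) (Ptab_527) (Ptab_528) (Nat.ble 528 c)
noncomputable def Ptab_s_525_529 (c : Nat) : Nat := @Bool.rec (fun _ => Nat) (Ptab_s_525_527 c) (Ptab_s_527_529 c) (Nat.ble 527 c)
noncomputable def Ptab_s_522_529 (c : Nat) : Nat := @Bool.rec (fun _ => Nat) (Ptab_s_522_525 c) (Ptab_s_525_529 c) (Nat.ble 525 c)
noncomputable def Ptab_s_529_531 (c : Nat) : Nat := @Bool.rec (fun _ => Nat) (Ptab_529) (Ptab_530) (Nat.ble 530 c)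
noncomputable def Ptab_s_531_533 (c : Nat) : Nat := @Bool.rec (fun _ => Nat) (Ptab_531) (Ptab_532) (Nat.ble 532 c)
noncomputable def Ptab_s_529_533 (c : Nat) : Nat := @Bool.rec (fun _ => Nat) (Ptab_s_529_531 c) (Ptab_s_531_533 c) (Nat.ble 531 c)
noncomputable def Ptab_s_533_535 (c : Nat) : Nat := @Bool.rec (fun _ => Nat) (Ptab_533) (Ptab_534) (Nat.ble 534 c)
noncomputable def Ptab_s_535_537 (c : Nat) : Nat := @Bool.rec (fun _ => Nat) (Ptab_535) (Ptab_536) (Nat.ble 536 c)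
noncomputable def Ptab_s_533_537 (c : Nat) : Nat := @Bool.rec (fun _ => Nat) (Ptab_s_533_535 c) (Ptab_s_535_537 c) (Nat.ble 535 c)
noncomputable def Ptab_s_529_537 (c : Nat) : Nat := @Bool.rec (fun _ => Nat) (Ptab_s_529_533 c) (Ptab_s_533_537 c) (Nat.ble 533 c)
noncomputable def Ptab_s_522_537 (c : Nat) : Nat := @Bool.rec (fun _ => Nat) (Ptab_s_522_529 c) (Ptab_s_529_537 c) (Nat.ble 529 c)
noncomputable def Ptab_s_507_537 (c : Nat) : Nat := @Bool.rec (fun _ => Nat) (Ptab_s_507_522 c) (Ptab_s_522_537 c) (Nat.ble 522 c)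
noncomputable def Ptab_s_478_537 (c : Nat) : Nat := @Bool.rec (fun _ => Nat) (Ptab_s_478_507 c) (Ptab_s_507_537 c) (Nat.ble 507 c)
noncomputable def Ptab_s_538_540 (c : Nat) : Nat := @Bool.rec (fun _ => Nat) (Ptab_538) (Ptab_539) (Nat.ble 539 c)
noncomputable def Ptab_s_537_540 (c : Nat) : Nat := @Bool.rec (fun _ => Nat) (Ptab_537) (Ptab_s_538_540 c) (Nat.ble 538 c)
noncomputable def Ptab_s_540_542 (c : Nat) : Nat := @Bool.rec (fun _ => Nat) (Ptab_540) (Ptab_541) (Nat.ble 541 c)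
noncomputable def Ptab_s_542_544 (c : Nat) : Nat := @Bool.rec (fun _ => Nat) (Ptab_542) (Ptab_543) (Nat.ble 543 c)
noncomputable def Ptab_s_540_544 (c : Nat) : Nat := @Bool.rec (fun _ => Nat) (Ptab_s_540_542 c) (Ptab_s_542_544 c) (Nat.ble 542 c)
noncomputable def Ptab_s_537_544 (c : Nat) : Nat := @Bool.rec (fun _ => Nat) (Ptab_s_537_540 c) (Ptab_s_540_544 c) (Nat.ble 540 c)
noncomputable def Ptab_s_544_546 (c : Nat) : Nat := @Bool.rec (fun _ => Nat) (Ptab_544) (Ptab_545) (Nat.ble 545 c)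
noncomputable def Ptab_s_546_548 (c : Nat) : Nat := @Bool.rec (fun _ => Nat) (Ptab_546) (Ptab_547) (Nat.ble 547 c)
noncomputable def Ptab_s_544_548 (c : Nat) : Nat := @Bool.rec (fun _ => Nat) (Ptab_s_544_546 c) (Ptab_s_546_548 c) (Nat.ble 546 c)
noncomputable def Ptab_s_548_550 (c : Nat) : Nat := @Bool.rec (fun _ => Nat) (Ptab_548) (Ptab_549) (Nat.ble 549 c)
noncomputable def Ptab_s_550_552 (c : Nat) : Nat := @Bool.rec (fun _ => Nat) (Ptab_550) (Ptab_551) (Nat.ble 551 c)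
noncomputable def Ptab_s_548_552 (c : Nat) : Nat := @Bool.rec (fun _ => Nat) (Ptab_s_548_550 c) (Ptab_s_550_552 c) (Nat.ble 550 c)
noncomputable def Ptab_s_544_552 (c : Nat) : Nat := @Bool.rec (fun _ => Nat) (Ptab_s_544_548 c) (Ptab_s_548_552 c) (Nat.ble 548 c)
noncomputable def Ptab_s_537_552 (c : Nat) : Nat := @Bool.rec (fun _ => Nat) (Ptab_s_537_544 c) (Ptab_s_544_552 c) (Nat.ble 544 c)
noncomputable def Ptab_s_553_555 (c : Nat) : Nat := @Bool.rec (fun _ => Nat) (Ptab_553) (Ptab_554) (Nat.ble 554 c)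
noncomputable def Ptab_s_552_555 (c : Nat) : Nat := @Bool.rec (fun _ => Nat) (Ptab_552) (Ptab_s_553_555 c) (Nat.ble 553 c)
noncomputable def Ptab_s_555_557 (c : Nat) : Nat := @Bool.rec (fun _ => Nat) (Ptab_555) (Ptab_556) (Nat.ble 556 c)
noncomputable def Ptab_s_557_559 (c : Nat) : Nat := @Bool.rec (fun _ => Nat) (Ptab_557) (Ptab_558) (Nat.ble 558 c)
noncomputable def Ptab_s_555_559 (c : Nat) : Nat := @Bool.rec (fun _ => Nat) (Ptab_s_555_557 c) (Ptab_s_557_559 c) (Nat.ble 557 c)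
noncomputable def Ptab_s_552_559 (c : Nat) : Nat := @Bool.rec (fun _ => Nat) (Ptab_s_552_555 c) (Ptab_s_555_559 c) (Nat.ble 555 c)
noncomputable def Ptab_s_559_561 (c : Nat) : Nat := @Bool.rec (fun _ => Nat) (Ptab_559) (Ptab_560) (Nat.ble 560 c)
noncomputable def Ptab_s_561_563 (c : Nat) : Nat := @Bool.rec (fun _ => Nat) (Ptab_561) (Ptab_562) (Nat.ble 562 c)
noncomputable def Ptab_s_559_563 (c : Nat) : Nat := @Bool.rec (fun _ => Nat) (Ptab_s_559_561 c) (Ptab_s_561_563 c) (Nat.ble 561 c)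
noncomputable def Ptab_s_563_565 (c : Nat) : Nat := @Bool.rec (fun _ => Nat) (Ptab_563) (Ptab_564) (Nat.ble 564 c)
noncomputable def Ptab_s_565_567 (c : Nat) : Nat := @Bool.rec (fun _ => Nat) (Ptab_565) (Ptab_566) (Nat.ble 566 c)
noncomputable def Ptab_s_563_567 (c : Nat) : Nat := @Bool.rec (fun _ => Nat) (Ptab_s_563_565 c) (Ptab_s_565_567 c) (Nat.ble 565 c)
noncomputable def Ptab_s_559_567 (c : Nat) : Nat := @Bool.rec (fun _ => Nat) (Ptab_s_559_563 c) (Ptab_s_563_567 c) (Nat.ble 563 c)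
noncomputable def Ptab_s_552_567 (c : Nat) : Nat := @Bool.rec (fun _ => Nat) (Ptab_s_552_559 c) (Ptab_s_559_567 c) (Nat.ble 559 c)
noncomputable def Ptab_s_537_567 (c : Nat) : Nat := @Bool.rec (fun _ => Nat) (Ptab_s_537_552 c) (Ptab_s_552_567 c) (Nat.ble 552 c)
noncomputable def Ptab_s_568_570 (c : Nat) : Nat := @Bool.rec (fun _ => Nat) (Ptab_568) (Ptab_569) (Nat.ble 569 c)
noncomputable def Ptab_s_567_570 (c : Nat) : Nat := @Bool.rec (fun _ => Nat) (Ptab_567) (Ptab_s_568_570 c) (Nat.ble 568 c)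
noncomputable def Ptab_s_570_572 (c : Nat) : Nat := @Bool.rec (fun _ => Nat) (Ptab_570) (Ptab_571) (Nat.ble 571 c)
noncomputable def Ptab_s_572_574 (c : Nat) : Nat := @Bool.rec (fun _ => Nat) (Ptab_572) (Ptab_573) (Nat.ble 573 c)
noncomputable def Ptab_s_570_574 (c : Nat) : Nat := @Bool.rec (fun _ => Nat) (Ptab_s_570_572 c) (Ptab_s_572_574 c) (Nat.ble 572 c)
noncomputable def Ptab_s_567_574 (c : Nat) : Nat := @Bool.rec (fun _ => Nat) (Ptab_s_567_570 c) (Ptab_s_570_574 c) (Nat.ble 570 c)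
noncomputable def Ptab_s_574_576 (c : Nat) : Nat := @Bool.rec (fun _ => Nat) (Ptab_574) (Ptab_575) (Nat.ble 575 c)
noncomputable def Ptab_s_576_578 (c : Nat) : Nat := @Bool.rec (fun _ => Nat) (Ptab_576) (Ptab_577) (Nat.ble 577 c)
noncomputable def Ptab_s_574_578 (c : Nat) : Nat := @Bool.rec (fun _ => Nat) (Ptab_s_574_576 c) (Ptab_s_576_578 c) (Nat.ble 576 c)
noncomputable def Ptab_s_578_580 (c : Nat) : Nat := @Bool.rec (fun _ => Nat) (Ptab_578) (Ptab_579) (Nat.ble 579 c)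
noncomputable def Ptab_s_580_582 (c : Nat) : Nat := @Bool.rec (fun _ => Nat) (Ptab_580) (Ptab_581) (Nat.ble 581 c)
noncomputable def Ptab_s_578_582 (c : Nat) : Nat := @Bool.rec (fun _ => Nat) (Ptab_s_578_580 c) (Ptab_s_580_582 c) (Nat.ble 580 c)
noncomputable def Ptab_s_574_582 (c : Nat) : Nat := @Bool.rec (fun _ => Nat) (Ptab_s_574_578 c) (Ptab_s_578_582 c) (Nat.ble 578 c)
noncomputable def Ptab_s_567_582 (c : Nat) : Nat := @Bool.rec (fun _ => Nat) (Ptab_s_567_574 c) (Ptab_s_574_582 c) (Nat.ble 574 c)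
noncomputable def Ptab_s_583_585 (c : Nat) : Nat := @Bool.rec (fun _ => Nat) (Ptab_583) (Ptab_584) (Nat.ble 584 c)
noncomputable def Ptab_s_582_585 (c : Nat) : Nat := @Bool.rec (fun _ => Nat) (Ptab_582) (Ptab_s_583_585 c) (Nat.ble 583 c)
noncomputable def Ptab_s_585_587 (c : Nat) : Nat := @Bool.rec (fun _ => Nat) (Ptab_585) (Ptab_586) (Nat.ble 586 c)
noncomputable def Ptab_s_587_589 (c : Nat) : Nat := @Bool.rec (fun _ => Nat) (Ptab_587) (Ptab_588) (Nat.ble 588 c)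
noncomputable def Ptab_s_585_589 (c : Nat) : Nat := @Bool.rec (fun _ => Nat) (Ptab_s_585_587 c) (Ptab_s_587_589 c) (Nat.ble 587 c)
noncomputable def Ptab_s_582_589 (c : Nat) : Nat := @Bool.rec (fun _ => Nat) (Ptab_s_582_585 c) (Ptab_s_585_589 c) (Nat.ble 585 c)
noncomputable def Ptab_s_589_591 (c : Nat) : Nat := @Bool.rec (fun _ => Nat) (Ptab_589) (Ptab_590) (Nat.ble 590 c)
noncomputable def Ptab_s_591_593 (c : Nat) : Nat := @Bool.rec (fun _ => Nat) (Ptab_591) (Ptab_592) (Nat.ble 592 c)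
noncomputable def Ptab_s_589_593 (c : Nat) : Nat := @Bool.rec (fun _ => Nat) (Ptab_s_589_591 c) (Ptab_s_591_593 c) (Nat.ble 591 c)
noncomputable def Ptab_s_593_595 (c : Nat) : Nat := @Bool.rec (fun _ => Nat) (Ptab_593) (Ptab_594) (Nat.ble 594 c)
noncomputable def Ptab_s_595_597 (c : Nat) : Nat := @Bool.rec (fun _ => Nat) (Ptab_595) (Ptab_596) (Nat.ble 596 c)
noncomputable def Ptab_s_593_597 (c : Nat) : Nat := @Bool.rec (fun _ => Nat) (Ptab_s_593_595 c) (Ptab_s_595_597 c) (Nat.ble 595 c)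
noncomputable def Ptab_s_589_597 (c : Nat) : Nat := @Bool.rec (fun _ => Nat) (Ptab_s_589_593 c) (Ptab_s_593_597 c) (Nat.ble 593 c)
noncomputable def Ptab_s_582_597 (c : Nat) : Nat := @Bool.rec (fun _ => Nat) (Ptab_s_582_589 c) (Ptab_s_589_597 c) (Nat.ble 589 c)
noncomputable def Ptab_s_567_597 (c : Nat) : Nat := @Bool.rec (fun _ => Nat) (Ptab_s_567_582 c) (Ptab_s_582_597 c) (Nat.ble 582 c)
noncomputable def Ptab_s_537_597 (c : Nat) : Nat := @Bool.rec (fun _ => Nat) (Ptab_s_537_567 c) (Ptab_s_567_597 c) (Nat.ble 567 c)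
noncomputable def Ptab_s_478_597 (c : Nat) : Nat := @Bool.rec (fun _ => Nat) (Ptab_s_478_537 c) (Ptab_s_537_597 c) (Nat.ble 537 c)
noncomputable def Ptab_s_598_600 (c : Nat) : Nat := @Bool.rec (fun _ => Nat) (Ptab_598) (Ptab_599) (Nat.ble 599 c)
noncomputable def Ptab_s_597_600 (c : Nat) : Nat := @Bool.rec (fun _ => Nat) (Ptab_597) (Ptab_s_598_600 c) (Nat.ble 598 c)
noncomputable def Ptab_s_600_602 (c : Nat) : Nat := @Bool.rec (fun _ => Nat) (Ptab_600) (Ptab_601) (Nat.ble 601 c)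
noncomputable def Ptab_s_602_604 (c : Nat) : Nat := @Bool.rec (fun _ => Nat) (Ptab_602) (Ptab_603) (Nat.ble 603 c)
noncomputable def Ptab_s_600_604 (c : Nat) : Nat := @Bool.rec (fun _ => Nat) (Ptab_s_600_602 c) (Ptab_s_602_604 c) (Nat.ble 602 c)
noncomputable def Ptab_s_597_604 (c : Nat) : Nat := @Bool.rec (fun _ => Nat) (Ptab_s_597_600 c) (Ptab_s_600_604 c) (Nat.ble 600 c)
noncomputable def Ptab_s_604_606 (c : Nat) : Nat := @Bool.rec (fun _ => Nat) (Ptab_604) (Ptab_605) (Nat.ble 605 c)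
noncomputable def Ptab_s_606_608 (c : Nat) : Nat := @Bool.rec (fun _ => Nat) (Ptab_606) (Ptab_607) (Nat.ble 607 c)
noncomputable def Ptab_s_604_608 (c : Nat) : Nat := @Bool.rec (fun _ => Nat) (Ptab_s_604_606 c) (Ptab_s_606_608 c) (Nat.ble 606 c)
noncomputable def Ptab_s_608_610 (c : Nat) : Nat := @Bool.rec (fun _ => Nat) (Ptab_608) (Ptab_609) (Nat.ble 609 c)
noncomputable def Ptab_s_610_612 (c : Nat) : Nat := @Bool.rec (fun _ => Nat) (Ptab_610) (Ptab_611) (Nat.ble 611 c)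
noncomputable def Ptab_s_608_612 (c : Nat) : Nat := @Bool.rec (fun _ => Nat) (Ptab_s_608_610 c) (Ptab_s_610_612 c) (Nat.ble 610 c)
noncomputable def Ptab_s_604_612 (c : Nat) : Nat := @Bool.rec (fun _ => Nat) (Ptab_s_604_608 c) (Ptab_s_608_612 c) (Nat.ble 608 c)
noncomputable def Ptab_s_597_612 (c : Nat) : Nat := @Bool.rec (fun _ => Nat) (Ptab_s_597_604 c) (Ptab_s_604_612 c) (Nat.ble 604 c)
noncomputable def Ptab_s_613_615 (c : Nat) : Nat := @Bool.rec (fun _ => Nat) (Ptab_613) (Ptab_614) (Nat.ble 614 c)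
noncomputable def Ptab_s_612_615 (c : Nat) : Nat := @Bool.rec (fun _ => Nat) (Ptab_612) (Ptab_s_613_615 c) (Nat.ble 613 c)
noncomputable def Ptab_s_615_617 (c : Nat) : Nat := @Bool.rec (fun _ => Nat) (Ptab_615) (Ptab_616) (Nat.ble 616 c)
noncomputable def Ptab_s_617_619 (c : Nat) : Nat := @Bool.rec (fun _ => Nat) (Ptab_617) (Ptab_618) (Nat.ble 618 c)
noncomputable def Ptab_s_615_619 (c : Nat) : Nat := @Bool.rec (fun _ => Nat) (Ptab_s_615_617 c) (Ptab_s_617_619 c) (Nat.ble 617 c)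
noncomputable def Ptab_s_612_619 (c : Nat) : Nat := @Bool.rec (fun _ => Nat) (Ptab_s_612_615 c) (Ptab_s_615_619 c) (Nat.ble 615 c)
noncomputable def Ptab_s_619_621 (c : Nat) : Nat := @Bool.rec (fun _ => Nat) (Ptab_619) (Ptab_620) (Nat.ble 620 c)
noncomputable def Ptab_s_621_623 (c : Nat) : Nat := @Bool.rec (fun _ => Nat) (Ptab_621) (Ptab_622) (Nat.ble 622 c)
noncomputable def Ptab_s_619_623 (c : Nat) : Nat := @Bool.rec (fun _ => Nat) (Ptab_s_619_621 c) (Ptab_s_621_623 c) (Nat.ble 621 c)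
noncomputable def Ptab_s_623_625 (c : Nat) : Nat := @Bool.rec (fun _ => Nat) (Ptab_623) (Ptab_624) (Nat.ble 624 c)
noncomputable def Ptab_s_625_627 (c : Nat) : Nat := @Bool.rec (fun _ => Nat) (Ptab_625) (Ptab_626) (Nat.ble 626 c)
noncomputable def Ptab_s_623_627 (c : Nat) : Nat := @Bool.rec (fun _ => Nat) (Ptab_s_623_625 c) (Ptab_s_625_627 c) (Nat.ble 625 c)
noncomputable def Ptab_s_619_627 (c : Nat) : Nat := @Bool.rec (fun _ => Nat) (Ptab_s_619_623 c) (Ptab_s_623_627 c) (Nat.ble 623 c)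
noncomputable def Ptab_s_612_627 (c : Nat) : Nat := @Bool.rec (fun _ => Nat) (Ptab_s_612_619 c) (Ptab_s_619_627 c) (Nat.ble 619 c)
noncomputable def Ptab_s_597_627 (c : Nat) : Nat := @Bool.rec (fun _ => Nat) (Ptab_s_597_612 c) (Ptab_s_612_627 c) (Nat.ble 612 c)
noncomputable def Ptab_s_628_630 (c : Nat) : Nat := @Bool.rec (fun _ => Nat) (Ptab_628) (Ptab_629) (Nat.ble 629 c)
noncomputable def Ptab_s_627_630 (c : Nat) : Nat := @Bool.rec (fun _ => Nat) (Ptab_627) (Ptab_s_628_630 c) (Nat.ble 628 c)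
noncomputable def Ptab_s_630_632 (c : Nat) : Nat := @Bool.rec (fun _ => Nat) (Ptab_630) (Ptab_631) (Nat.ble 631 c)
noncomputable def Ptab_s_632_634 (c : Nat) : Nat := @Bool.rec (fun _ => Nat) (Ptab_632) (Ptab_633) (Nat.ble 633 c)
noncomputable def Ptab_s_630_634 (c : Nat) : Nat := @Bool.rec (fun _ => Nat) (Ptab_s_630_632 c) (Ptab_s_632_634 c) (Nat.ble 632 c)
noncomputable def Ptab_s_627_634 (c : Nat) : Nat := @Bool.rec (fun _ => Nat) (Ptab_s_627_630 c) (Ptab_s_630_634 c) (Nat.ble 630 c)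
noncomputable def Ptab_s_634_636 (c : Nat) : Nat := @Bool.rec (fun _ => Nat) (Ptab_634) (Ptab_635) (Nat.ble 635 c)
noncomputable def Ptab_s_636_638 (c : Nat) : Nat := @Bool.rec (fun _ => Nat) (Ptab_636) (Ptab_637) (Nat.ble 637 c)
noncomputable def Ptab_s_634_638 (c : Nat) : Nat := @Bool.rec (fun _ => Nat) (Ptab_s_634_636 c) (Ptab_s_636_638 c) (Nat.ble 636 c)
noncomputable def Ptab_s_638_640 (c : Nat) : Nat := @Bool.rec (fun _ => Nat) (Ptab_638) (Ptab_639) (Nat.ble 639 c)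
noncomputable def Ptab_s_640_642 (c : Nat) : Nat := @Bool.rec (fun _ => Nat) (Ptab_640) (Ptab_641) (Nat.ble 641 c)
noncomputable def Ptab_s_638_642 (c : Nat) : Nat := @Bool.rec (fun _ => Nat) (Ptab_s_638_640 c) (Ptab_s_640_642 c) (Nat.ble 640 c)
noncomputable def Ptab_s_634_642 (c : Nat) : Nat := @Bool.rec (fun _ => Nat) (Ptab_s_634_638 c) (Ptab_s_638_642 c) (Nat.ble 638 c)
noncomputable def Ptab_s_627_642 (c : Nat) : Nat := @Bool.rec (fun _ => Nat) (Ptab_s_627_634 c) (Ptab_s_634_642 c) (Nat.ble 634 c)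
noncomputable def Ptab_s_643_645 (c : Nat) : Nat := @Bool.rec (fun _ => Nat) (Ptab_643) (Ptab_644) (Nat.ble 644 c)
noncomputable def Ptab_s_642_645 (c : Nat) : Nat := @Bool.rec (fun _ => Nat) (Ptab_642) (Ptab_s_643_645 c) (Nat.ble 643 c)
noncomputable def Ptab_s_645_647 (c : Nat) : Nat := @Bool.rec (fun _ => Nat) (Ptab_645) (Ptab_646) (Nat.ble 646 c)
noncomputable def Ptab_s_647_649 (c : Nat) : Nat := @Bool.rec (fun _ => Nat) (Ptab_647) (Ptab_648) (Nat.ble 648 c)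
noncomputable def Ptab_s_645_649 (c : Nat) : Nat := @Bool.rec (fun _ => Nat) (Ptab_s_645_647 c) (Ptab_s_647_649 c) (Nat.ble 647 c)
noncomputable def Ptab_s_642_649 (c : Nat) : Nat := @Bool.rec (fun _ => Nat) (Ptab_s_642_645 c) (Ptab_s_645_649 c) (Nat.ble 645 c)
noncomputable def Ptab_s_649_651 (c : Nat) : Nat := @Bool.rec (fun _ => Nat) (Ptab_649) (Ptab_650) (Nat.ble 650 c)
noncomputable def Ptab_s_651_653 (c : Nat) : Nat := @Bool.rec (fun _ => Nat) (Ptab_651) (Ptab_652) (Nat.ble 652 c)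
noncomputable def Ptab_s_649_653 (c : Nat) : Nat := @Bool.rec (fun _ => Nat) (Ptab_s_649_651 c) (Ptab_s_651_653 c) (Nat.ble 651 c)
noncomputable def Ptab_s_653_655 (c : Nat) : Nat := @Bool.rec (fun _ => Nat) (Ptab_653) (Ptab_654) (Nat.ble 654 c)
noncomputable def Ptab_s_655_657 (c : Nat) : Nat := @Bool.rec (fun _ => Nat) (Ptab_655) (Ptab_656) (Nat.ble 656 c)
noncomputable def Ptab_s_653_657 (c : Nat) : Nat := @Bool.rec (fun _ => Nat) (Ptab_s_653_655 c) (Ptab_s_655_657 c) (Nat.ble 655 c)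
noncomputable def Ptab_s_649_657 (c : Nat) : Nat := @Bool.rec (fun _ => Nat) (Ptab_s_649_653 c) (Ptab_s_653_657 c) (Nat.ble 653 c)
noncomputable def Ptab_s_642_657 (c : Nat) : Nat := @Bool.rec (fun _ => Nat) (Ptab_s_642_649 c) (Ptab_s_649_657 c) (Nat.ble 649 c)
noncomputable def Ptab_s_627_657 (c : Nat) : Nat := @Bool.rec (fun _ => Nat) (Ptab_s_627_642 c) (Ptab_s_642_657 c) (Nat.ble 642 c)
noncomputable def Ptab_s_597_657 (c : Nat) : Nat := @Bool.rec (fun _ => Nat) (Ptab_s_597_627 c) (Ptab_s_627_657 c) (Nat.ble 627 c)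
noncomputable def Ptab_s_658_660 (c : Nat) : Nat := @Bool.rec (fun _ => Nat) (Ptab_658) (Ptab_659) (Nat.ble 659 c)
noncomputable def Ptab_s_657_660 (c : Nat) : Nat := @Bool.rec (fun _ => Nat) (Ptab_657) (Ptab_s_658_660 c) (Nat.ble 658 c)
noncomputable def Ptab_s_660_662 (c : Nat) : Nat := @Bool.rec (fun _ => Nat) (Ptab_660) (Ptab_661) (Nat.ble 661 c)
noncomputable def Ptab_s_662_664 (c : Nat) : Nat := @Bool.rec (fun _ => Nat) (Ptab_662) (Ptab_663) (Nat.ble 663 c)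
noncomputable def Ptab_s_660_664 (c : Nat) : Nat := @Bool.rec (fun _ => Nat) (Ptab_s_660_662 c) (Ptab_s_662_664 c) (Nat.ble 662 c)
noncomputable def Ptab_s_657_664 (c : Nat) : Nat := @Bool.rec (fun _ => Nat) (Ptab_s_657_660 c) (Ptab_s_660_664 c) (Nat.ble 660 c)
noncomputable def Ptab_s_664_666 (c : Nat) : Nat := @Bool.rec (fun _ => Nat) (Ptab_664) (Ptab_665) (Nat.ble 665 c)
noncomputable def Ptab_s_666_668 (c : Nat) : Nat := @Bool.rec (fun _ => Nat) (Ptab_666) (Ptab_667) (Nat.ble 667 c)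
noncomputable def Ptab_s_664_668 (c : Nat) : Nat := @Bool.rec (fun _ => Nat) (Ptab_s_664_666 c) (Ptab_s_666_668 c) (Nat.ble 666 c)
noncomputable def Ptab_s_668_670 (c : Nat) : Nat := @Bool.rec (fun _ => Nat) (Ptab_668) (Ptab_669) (Nat.ble 669 c)
noncomputable def Ptab_s_670_672 (c : Nat) : Nat := @Bool.rec (fun _ => Nat) (Ptab_670) (Ptab_671) (Nat.ble 671 c)
noncomputable def Ptab_s_668_672 (c : Nat) : Nat := @Bool.rec (fun _ => Nat) (Ptab_s_668_670 c) (Ptab_s_670_672 c) (Nat.ble 670 c)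
noncomputable def Ptab_s_664_672 (c : Nat) : Nat := @Bool.rec (fun _ => Nat) (Ptab_s_664_668 c) (Ptab_s_668_672 c) (Nat.ble 668 c)
noncomputable def Ptab_s_657_672 (c : Nat) : Nat := @Bool.rec (fun _ => Nat) (Ptab_s_657_664 c) (Ptab_s_664_672 c) (Nat.ble 664 c)
noncomputable def Ptab_s_673_675 (c : Nat) : Nat := @Bool.rec (fun _ => Nat) (Ptab_673) (Ptab_674) (Nat.ble 674 c)
noncomputable def Ptab_s_672_675 (c : Nat) : Nat := @Bool.rec (fun _ => Nat) (Ptab_672) (Ptab_s_673_675 c) (Nat.ble 673 c)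
noncomputable def Ptab_s_675_677 (c : Nat) : Nat := @Bool.rec (fun _ => Nat) (Ptab_675) (Ptab_676) (Nat.ble 676 c)
noncomputable def Ptab_s_677_679 (c : Nat) : Nat := @Bool.rec (fun _ => Nat) (Ptab_677) (Ptab_678) (Nat.ble 678 c)
noncomputable def Ptab_s_675_679 (c : Nat) : Nat := @Bool.rec (fun _ => Nat) (Ptab_s_675_677 c) (Ptab_s_677_679 c) (Nat.ble 677 c)
noncomputable def Ptab_s_672_679 (c : Nat) : Nat := @Bool.rec (fun _ => Nat) (Ptab_s_672_675 c) (Ptab_s_675_679 c) (Nat.ble 675 c)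
noncomputable def Ptab_s_679_681 (c : Nat) : Nat := @Bool.rec (fun _ => Nat) (Ptab_679) (Ptab_680) (Nat.ble 680 c)
noncomputable def Ptab_s_681_683 (c : Nat) : Nat := @Bool.rec (fun _ => Nat) (Ptab_681) (Ptab_682) (Nat.ble 682 c)
noncomputable def Ptab_s_679_683 (c : Nat) : Nat := @Bool.rec (fun _ => Nat) (Ptab_s_679_681 c) (Ptab_s_681_683 c) (Nat.ble 681 c)
noncomputable def Ptab_s_683_685 (c : Nat) : Nat := @Bool.rec (fun _ => Nat) (Ptab_683) (Ptab_684) (Nat.ble 684 c)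
noncomputable def Ptab_s_685_687 (c : Nat) : Nat := @Bool.rec (fun _ => Nat) (Ptab_685) (Ptab_686) (Nat.ble 686 c)
noncomputable def Ptab_s_683_687 (c : Nat) : Nat := @Bool.rec (fun _ => Nat) (Ptab_s_683_685 c) (Ptab_s_685_687 c) (Nat.ble 685 c)
noncomputable def Ptab_s_679_687 (c : Nat) : Nat := @Bool.rec (fun _ => Nat) (Ptab_s_679_683 c) (Ptab_s_683_687 c) (Nat.ble 683 c)
noncomputable def Ptab_s_672_687 (c : Nat) : Nat := @Bool.rec (fun _ => Nat) (Ptab_s_672_679 c) (Ptab_s_679_687 c) (Nat.ble 679 c)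
noncomputable def Ptab_s_657_687 (c : Nat) : Nat := @Bool.rec (fun _ => Nat) (Ptab_s_657_672 c) (Ptab_s_672_687 c) (Nat.ble 672 c)
noncomputable def Ptab_s_688_690 (c : Nat) : Nat := @Bool.rec (fun _ => Nat) (Ptab_688) (Ptab_689) (Nat.ble 689 c)
noncomputable def Ptab_s_687_690 (c : Nat) : Nat := @Bool.rec (fun _ => Nat) (Ptab_687) (Ptab_s_688_690 c) (Nat.ble 688 c)
noncomputable def Ptab_s_690_692 (c : Nat) : Nat := @Bool.rec (fun _ => Nat) (Ptab_690) (Ptab_691) (Nat.ble 691 c)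
noncomputable def Ptab_s_692_694 (c : Nat) : Nat := @Bool.rec (fun _ => Nat) (Ptab_692) (Ptab_693) (Nat.ble 693 c)
noncomputable def Ptab_s_690_694 (c : Nat) : Nat := @Bool.rec (fun _ => Nat) (Ptab_s_690_692 c) (Ptab_s_692_694 c) (Nat.ble 692 c)
noncomputable def Ptab_s_687_694 (c : Nat) : Nat := @Bool.rec (fun _ => Nat) (Ptab_s_687_690 c) (Ptab_s_690_694 c) (Nat.ble 690 c)
noncomputable def Ptab_s_694_696 (c : Nat) : Nat := @Bool.rec (fun _ => Nat) (Ptab_694) (Ptab_695) (Nat.ble 695 c)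
noncomputable def Ptab_s_696_698 (c : Nat) : Nat := @Bool.rec (fun _ => Nat) (Ptab_696) (Ptab_697) (Nat.ble 697 c)
noncomputable def Ptab_s_694_698 (c : Nat) : Nat := @Bool.rec (fun _ => Nat) (Ptab_s_694_696 c) (Ptab_s_696_698 c) (Nat.ble 696 c)
noncomputable def Ptab_s_698_700 (c : Nat) : Nat := @Bool.rec (fun _ => Nat) (Ptab_698) (Ptab_699) (Nat.ble 699 c)
noncomputable def Ptab_s_700_702 (c : Nat) : Nat := @Bool.rec (fun _ => Nat) (Ptab_700) (Ptab_701) (Nat.ble 701 c)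
noncomputable def Ptab_s_698_702 (c : Nat) : Nat := @Bool.rec (fun _ => Nat) (Ptab_s_698_700 c) (Ptab_s_700_702 c) (Nat.ble 700 c)
noncomputable def Ptab_s_694_702 (c : Nat) : Nat := @Bool.rec (fun _ => Nat) (Ptab_s_694_698 c) (Ptab_s_698_702 c) (Nat.ble 698 c)
noncomputable def Ptab_s_687_702 (c : Nat) : Nat := @Bool.rec (fun _ => Nat) (Ptab_s_687_694 c) (Ptab_s_694_702 c) (Nat.ble 694 c)
noncomputable def Ptab_s_703_705 (c : Nat) : Nat := @Bool.rec (fun _ => Nat) (Ptab_703) (Ptab_704) (Nat.ble 704 c)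
noncomputable def Ptab_s_702_705 (c : Nat) : Nat := @Bool.rec (fun _ => Nat) (Ptab_702) (Ptab_s_703_705 c) (Nat.ble 703 c)
noncomputable def Ptab_s_705_707 (c : Nat) : Nat := @Bool.rec (fun _ => Nat) (Ptab_705) (Ptab_706) (Nat.ble 706 c)
noncomputable def Ptab_s_707_709 (c : Nat) : Nat := @Bool.rec (fun _ => Nat) (Ptab_707) (Ptab_708) (Nat.ble 708 c)
noncomputable def Ptab_s_705_709 (c : Nat) : Nat := @Bool.rec (fun _ => Nat) (Ptab_s_705_707 c) (Ptab_s_707_709 c) (Nat.ble 707 c)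
noncomputable def Ptab_s_702_709 (c : Nat) : Nat := @Bool.rec (fun _ => Nat) (Ptab_s_702_705 c) (Ptab_s_705_709 c) (Nat.ble 705 c)
noncomputable def Ptab_s_709_711 (c : Nat) : Nat := @Bool.rec (fun _ => Nat) (Ptab_709) (Ptab_710) (Nat.ble 710 c)
noncomputable def Ptab_s_711_713 (c : Nat) : Nat := @Bool.rec (fun _ => Nat) (Ptab_711) (Ptab_712) (Nat.ble 712 c)
noncomputable def Ptab_s_709_713 (c : Nat) : Nat := @Bool.rec (fun _ => Nat) (Ptab_s_709_711 c) (Ptab_s_711_713 c) (Nat.ble 711 c)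
noncomputable def Ptab_s_713_715 (c : Nat) : Nat := @Bool.rec (fun _ => Nat) (Ptab_713) (Ptab_714) (Nat.ble 714 c)
noncomputable def Ptab_s_715_717 (c : Nat) : Nat := @Bool.rec (fun _ => Nat) (Ptab_715) (Ptab_716) (Nat.ble 716 c)
noncomputable def Ptab_s_713_717 (c : Nat) : Nat := @Bool.rec (fun _ => Nat) (Ptab_s_713_715 c) (Ptab_s_715_717 c) (Nat.ble 715 c)
noncomputable def Ptab_s_709_717 (c : Nat) : Nat := @Bool.rec (fun _ => Nat) (Ptab_s_709_713 c) (Ptab_s_713_717 c) (Nat.ble 713 c)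
noncomputable def Ptab_s_702_717 (c : Nat) : Nat := @Bool.rec (fun _ => Nat) (Ptab_s_702_709 c) (Ptab_s_709_717 c) (Nat.ble 709 c)
noncomputable def Ptab_s_687_717 (c : Nat) : Nat := @Bool.rec (fun _ => Nat) (Ptab_s_687_702 c) (Ptab_s_702_717 c) (Nat.ble 702 c)
noncomputable def Ptab_s_657_717 (c : Nat) : Nat := @Bool.rec (fun _ => Nat) (Ptab_s_657_687 c) (Ptab_s_687_717 c) (Nat.ble 687 c)
noncomputable def Ptab_s_597_717 (c : Nat) : Nat := @Bool.rec (fun _ => Nat) (Ptab_s_597_657 c) (Ptab_s_657_717 c) (Nat.ble 657 c)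
noncomputable def Ptab_s_478_717 (c : Nat) : Nat := @Bool.rec (fun _ => Nat) (Ptab_s_478_597 c) (Ptab_s_597_717 c) (Nat.ble 597 c)
noncomputable def Ptab_s_718_720 (c : Nat) : Nat := @Bool.rec (fun _ => Nat) (Ptab_718) (Ptab_719) (Nat.ble 719 c)
noncomputable def Ptab_s_717_720 (c : Nat) : Nat := @Bool.rec (fun _ => Nat) (Ptab_717) (Ptab_s_718_720 c) (Nat.ble 718 c)
noncomputable def Ptab_s_720_722 (c : Nat) : Nat := @Bool.rec (fun _ => Nat) (Ptab_720) (Ptab_721) (Nat.ble 721 c)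
noncomputable def Ptab_s_722_724 (c : Nat) : Nat := @Bool.rec (fun _ => Nat) (Ptab_722) (Ptab_723) (Nat.ble 723 c)
noncomputable def Ptab_s_720_724 (c : Nat) : Nat := @Bool.rec (fun _ => Nat) (Ptab_s_720_722 c) (Ptab_s_722_724 c) (Nat.ble 722 c)
noncomputable def Ptab_s_717_724 (c : Nat) : Nat := @Bool.rec (fun _ => Nat) (Ptab_s_717_720 c) (Ptab_s_720_724 c) (Nat.ble 720 c)
noncomputable def Ptab_s_724_726 (c : Nat) : Nat := @Bool.rec (fun _ => Nat) (Ptab_724) (Ptab_725) (Nat.ble 725 c)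
noncomputable def Ptab_s_726_728 (c : Nat) : Nat := @Bool.rec (fun _ => Nat) (Ptab_726) (Ptab_727) (Nat.ble 727 c)
noncomputable def Ptab_s_724_728 (c : Nat) : Nat := @Bool.rec (fun _ => Nat) (Ptab_s_724_726 c) (Ptab_s_726_728 c) (Nat.ble 726 c)
noncomputable def Ptab_s_728_730 (c : Nat) : Nat := @Bool.rec (fun _ => Nat) (Ptab_728) (Ptab_729) (Nat.ble 729 c)
noncomputable def Ptab_s_730_732 (c : Nat) : Nat := @Bool.rec (fun _ => Nat) (Ptab_730) (Ptab_731) (Nat.ble 731 c)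
noncomputable def Ptab_s_728_732 (c : Nat) : Nat := @Bool.rec (fun _ => Nat) (Ptab_s_728_730 c) (Ptab_s_730_732 c) (Nat.ble 730 c)
noncomputable def Ptab_s_724_732 (c : Nat) : Nat := @Bool.rec (fun _ => Nat) (Ptab_s_724_728 c) (Ptab_s_728_732 c) (Nat.ble 728 c)
noncomputable def Ptab_s_717_732 (c : Nat) : Nat := @Bool.rec (fun _ => Nat) (Ptab_s_717_724 c) (Ptab_s_724_732 c) (Nat.ble 724 c)
noncomputable def Ptab_s_733_735 (c : Nat) : Nat := @Bool.rec (fun _ => Nat) (Ptab_733) (Ptab_734) (Nat.ble 734 c)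
noncomputable def Ptab_s_732_735 (c : Nat) : Nat := @Bool.rec (fun _ => Nat) (Ptab_732) (Ptab_s_733_735 c) (Nat.ble 733 c)
noncomputable def Ptab_s_735_737 (c : Nat) : Nat := @Bool.rec (fun _ => Nat) (Ptab_735) (Ptab_736) (Nat.ble 736 c)
noncomputable def Ptab_s_737_739 (c : Nat) : Nat := @Bool.rec (fun _ => Nat) (Ptab_737) (Ptab_738) (Nat.ble 738 c)
noncomputable def Ptab_s_735_739 (c : Nat) : Nat := @Bool.rec (fun _ => Nat) (Ptab_s_735_737 c) (Ptab_s_737_739 c) (Nat.ble 737 c)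
noncomputable def Ptab_s_732_739 (c : Nat) : Nat := @Bool.rec (fun _ => Nat) (Ptab_s_732_735 c) (Ptab_s_735_739 c) (Nat.ble 735 c)
noncomputable def Ptab_s_739_741 (c : Nat) : Nat := @Bool.rec (fun _ => Nat) (Ptab_739) (Ptab_740) (Nat.ble 740 c)
noncomputable def Ptab_s_741_743 (c : Nat) : Nat := @Bool.rec (fun _ => Nat) (Ptab_741) (Ptab_742) (Nat.ble 742 c)
noncomputable def Ptab_s_739_743 (c : Nat) : Nat := @Bool.rec (fun _ => Nat) (Ptab_s_739_741 c) (Ptab_s_741_743 c) (Nat.ble 741 c)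
noncomputable def Ptab_s_743_745 (c : Nat) : Nat := @Bool.rec (fun _ => Nat) (Ptab_743) (Ptab_744) (Nat.ble 744 c)
noncomputable def Ptab_s_745_747 (c : Nat) : Nat := @Bool.rec (fun _ => Nat) (Ptab_745) (Ptab_746) (Nat.ble 746 c)
noncomputable def Ptab_s_743_747 (c : Nat) : Nat := @Bool.rec (fun _ => Nat) (Ptab_s_743_745 c) (Ptab_s_745_747 c) (Nat.ble 745 c)
noncomputable def Ptab_s_739_747 (c : Nat) : Nat := @Bool.rec (fun _ => Nat) (Ptab_s_739_743 c) (Ptab_s_743_747 c) (Nat.ble 743 c)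
noncomputable def Ptab_s_732_747 (c : Nat) : Nat := @Bool.rec (fun _ => Nat) (Ptab_s_732_739 c) (Ptab_s_739_747 c) (Nat.ble 739 c)
noncomputable def Ptab_s_717_747 (c : Nat) : Nat := @Bool.rec (fun _ => Nat) (Ptab_s_717_732 c) (Ptab_s_732_747 c) (Nat.ble 732 c)
noncomputable def Ptab_s_748_750 (c : Nat) : Nat := @Bool.rec (fun _ => Nat) (Ptab_748) (Ptab_749) (Nat.ble 749 c)
noncomputable def Ptab_s_747_750 (c : Nat) : Nat := @Bool.rec (fun _ => Nat) (Ptab_747) (Ptab_s_748_750 c) (Nat.ble 748 c)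
noncomputable def Ptab_s_750_752 (c : Nat) : Nat := @Bool.rec (fun _ => Nat) (Ptab_750) (Ptab_751) (Nat.ble 751 c)
noncomputable def Ptab_s_752_754 (c : Nat) : Nat := @Bool.rec (fun _ => Nat) (Ptab_752) (Ptab_753) (Nat.ble 753 c)
noncomputable def Ptab_s_750_754 (c : Nat) : Nat := @Bool.rec (fun _ => Nat) (Ptab_s_750_752 c) (Ptab_s_752_754 c) (Nat.ble 752 c)
noncomputable def Ptab_s_747_754 (c : Nat) : Nat := @Bool.rec (fun _ => Nat) (Ptab_s_747_750 c) (Ptab_s_750_754 c) (Nat.ble 750 c)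
noncomputable def Ptab_s_754_756 (c : Nat) : Nat := @Bool.rec (fun _ => Nat) (Ptab_754) (Ptab_755) (Nat.ble 755 c)
noncomputable def Ptab_s_756_758 (c : Nat) : Nat := @Bool.rec (fun _ => Nat) (Ptab_756) (Ptab_757) (Nat.ble 757 c)
noncomputable def Ptab_s_754_758 (c : Nat) : Nat := @Bool.rec (fun _ => Nat) (Ptab_s_754_756 c) (Ptab_s_756_758 c) (Nat.ble 756 c)
noncomputable def Ptab_s_758_760 (c : Nat) : Nat := @Bool.rec (fun _ => Nat) (Ptab_758) (Ptab_759) (Nat.ble 759 c)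
noncomputable def Ptab_s_760_762 (c : Nat) : Nat := @Bool.rec (fun _ => Nat) (Ptab_760) (Ptab_761) (Nat.ble 761 c)
noncomputable def Ptab_s_758_762 (c : Nat) : Nat := @Bool.rec (fun _ => Nat) (Ptab_s_758_760 c) (Ptab_s_760_762 c) (Nat.ble 760 c)
noncomputable def Ptab_s_754_762 (c : Nat) : Nat := @Bool.rec (fun _ => Nat) (Ptab_s_754_758 c) (Ptab_s_758_762 c) (Nat.ble 758 c)
noncomputable def Ptab_s_747_762 (c : Nat) : Nat := @Bool.rec (fun _ => Nat) (Ptab_s_747_754 c) (Ptab_s_754_762 c) (Nat.ble 754 c)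
noncomputable def Ptab_s_763_765 (c : Nat) : Nat := @Bool.rec (fun _ => Nat) (Ptab_763) (Ptab_764) (Nat.ble 764 c)
noncomputable def Ptab_s_762_765 (c : Nat) : Nat := @Bool.rec (fun _ => Nat) (Ptab_762) (Ptab_s_763_765 c) (Nat.ble 763 c)
noncomputable def Ptab_s_765_767 (c : Nat) : Nat := @Bool.rec (fun _ => Nat) (Ptab_765) (Ptab_766) (Nat.ble 766 c)
noncomputable def Ptab_s_767_769 (c : Nat) : Nat := @Bool.rec (fun _ => Nat) (Ptab_767) (Ptab_768) (Nat.ble 768 c)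
noncomputable def Ptab_s_765_769 (c : Nat) : Nat := @Bool.rec (fun _ => Nat) (Ptab_s_765_767 c) (Ptab_s_767_769 c) (Nat.ble 767 c)
noncomputable def Ptab_s_762_769 (c : Nat) : Nat := @Bool.rec (fun _ => Nat) (Ptab_s_762_765 c) (Ptab_s_765_769 c) (Nat.ble 765 c)
noncomputable def Ptab_s_769_771 (c : Nat) : Nat := @Bool.rec (fun _ => Nat) (Ptab_769) (Ptab_770) (Nat.ble 770 c)
noncomputable def Ptab_s_771_773 (c : Nat) : Nat := @Bool.rec (fun _ => Nat) (Ptab_771) (Ptab_772) (Nat.ble 772 c)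
noncomputable def Ptab_s_769_773 (c : Nat) : Nat := @Bool.rec (fun _ => Nat) (Ptab_s_769_771 c) (Ptab_s_771_773 c) (Nat.ble 771 c)
noncomputable def Ptab_s_773_775 (c : Nat) : Nat := @Bool.rec (fun _ => Nat) (Ptab_773) (Ptab_774) (Nat.ble 774 c)
noncomputable def Ptab_s_775_777 (c : Nat) : Nat := @Bool.rec (fun _ => Nat) (Ptab_775) (Ptab_776) (Nat.ble 776 c)
noncomputable def Ptab_s_773_777 (c : Nat) : Nat := @Bool.rec (fun _ => Nat) (Ptab_s_773_775 c) (Ptab_s_775_777 c) (Nat.ble 775 c)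
noncomputable def Ptab_s_769_777 (c : Nat) : Nat := @Bool.rec (fun _ => Nat) (Ptab_s_769_773 c) (Ptab_s_773_777 c) (Nat.ble 773 c)
noncomputable def Ptab_s_762_777 (c : Nat) : Nat := @Bool.rec (fun _ => Nat) (Ptab_s_762_769 c) (Ptab_s_769_777 c) (Nat.ble 769 c)
noncomputable def Ptab_s_747_777 (c : Nat) : Nat := @Bool.rec (fun _ => Nat) (Ptab_s_747_762 c) (Ptab_s_762_777 c) (Nat.ble 762 c)
noncomputable def Ptab_s_717_777 (c : Nat) : Nat := @Bool.rec (fun _ => Nat) (Ptab_s_717_747 c) (Ptab_s_747_777 c) (Nat.ble 747 c)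
noncomputable def Ptab_s_778_780 (c : Nat) : Nat := @Bool.rec (fun _ => Nat) (Ptab_778) (Ptab_779) (Nat.ble 779 c)
noncomputable def Ptab_s_777_780 (c : Nat) : Nat := @Bool.rec (fun _ => Nat) (Ptab_777) (Ptab_s_778_780 c) (Nat.ble 778 c)
noncomputable def Ptab_s_780_782 (c : Nat) : Nat := @Bool.rec (fun _ => Nat) (Ptab_780) (Ptab_781) (Nat.ble 781 c)
noncomputable def Ptab_s_782_784 (c : Nat) : Nat := @Bool.rec (fun _ => Nat) (Ptab_782) (Ptab_783) (Nat.ble 783 c)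
noncomputable def Ptab_s_780_784 (c : Nat) : Nat := @Bool.rec (fun _ => Nat) (Ptab_s_780_782 c) (Ptab_s_782_784 c) (Nat.ble 782 c)
noncomputable def Ptab_s_777_784 (c : Nat) : Nat := @Bool.rec (fun _ => Nat) (Ptab_s_777_780 c) (Ptab_s_780_784 c) (Nat.ble 780 c)
noncomputable def Ptab_s_784_786 (c : Nat) : Nat := @Bool.rec (fun _ => Nat) (Ptab_784) (Ptab_785) (Nat.ble 785 c)
noncomputable def Ptab_s_786_788 (c : Nat) : Nat := @Bool.rec (fun _ => Nat) (Ptab_786) (Ptab_787) (Nat.ble 787 c)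
noncomputable def Ptab_s_784_788 (c : Nat) : Nat := @Bool.rec (fun _ => Nat) (Ptab_s_784_786 c) (Ptab_s_786_788 c) (Nat.ble 786 c)
noncomputable def Ptab_s_788_790 (c : Nat) : Nat := @Bool.rec (fun _ => Nat) (Ptab_788) (Ptab_789) (Nat.ble 789 c)
noncomputable def Ptab_s_790_792 (c : Nat) : Nat := @Bool.rec (fun _ => Nat) (Ptab_790) (Ptab_791) (Nat.ble 791 c)
noncomputable def Ptab_s_788_792 (c : Nat) : Nat := @Bool.rec (fun _ => Nat) (Ptab_s_788_790 c) (Ptab_s_790_792 c) (Nat.ble 790 c)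
noncomputable def Ptab_s_784_792 (c : Nat) : Nat := @Bool.rec (fun _ => Nat) (Ptab_s_784_788 c) (Ptab_s_788_792 c) (Nat.ble 788 c)
noncomputable def Ptab_s_777_792 (c : Nat) : Nat := @Bool.rec (fun _ => Nat) (Ptab_s_777_784 c) (Ptab_s_784_792 c) (Nat.ble 784 c)
noncomputable def Ptab_s_793_795 (c : Nat) : Nat := @Bool.rec (fun _ => Nat) (Ptab_793) (Ptab_794) (Nat.ble 794 c)
noncomputable def Ptab_s_792_795 (c : Nat) : Nat := @Bool.rec (fun _ => Nat) (Ptab_792) (Ptab_s_793_795 c) (Nat.ble 793 c)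
noncomputable def Ptab_s_795_797 (c : Nat) : Nat := @Bool.rec (fun _ => Nat) (Ptab_795) (Ptab_796) (Nat.ble 796 c)
noncomputable def Ptab_s_797_799 (c : Nat) : Nat := @Bool.rec (fun _ => Nat) (Ptab_797) (Ptab_798) (Nat.ble 798 c)
noncomputable def Ptab_s_795_799 (c : Nat) : Nat := @Bool.rec (fun _ => Nat) (Ptab_s_795_797 c) (Ptab_s_797_799 c) (Nat.ble 797 c)
noncomputable def Ptab_s_792_799 (c : Nat) : Nat := @Bool.rec (fun _ => Nat) (Ptab_s_792_795 c) (Ptab_s_795_799 c) (Nat.ble 795 c)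
noncomputable def Ptab_s_799_801 (c : Nat) : Nat := @Bool.rec (fun _ => Nat) (Ptab_799) (Ptab_800) (Nat.ble 800 c)
noncomputable def Ptab_s_801_803 (c : Nat) : Nat := @Bool.rec (fun _ => Nat) (Ptab_801) (Ptab_802) (Nat.ble 802 c)
noncomputable def Ptab_s_799_803 (c : Nat) : Nat := @Bool.rec (fun _ => Nat) (Ptab_s_799_801 c) (Ptab_s_801_803 c) (Nat.ble 801 c)
noncomputable def Ptab_s_803_805 (c : Nat) : Nat := @Bool.rec (fun _ => Nat) (Ptab_803) (Ptab_804) (Nat.ble 804 c)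
noncomputable def Ptab_s_805_807 (c : Nat) : Nat := @Bool.rec (fun _ => Nat) (Ptab_805) (Ptab_806) (Nat.ble 806 c)
noncomputable def Ptab_s_803_807 (c : Nat) : Nat := @Bool.rec (fun _ => Nat) (Ptab_s_803_805 c) (Ptab_s_805_807 c) (Nat.ble 805 c)
noncomputable def Ptab_s_799_807 (c : Nat) : Nat := @Bool.rec (fun _ => Nat) (Ptab_s_799_803 c) (Ptab_s_803_807 c) (Nat.ble 803 c)
noncomputable def Ptab_s_792_807 (c : Nat) : Nat := @Bool.rec (fun _ => Nat) (Ptab_s_792_799 c) (Ptab_s_799_807 c) (Nat.ble 799 c)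
noncomputable def Ptab_s_777_807 (c : Nat) : Nat := @Bool.rec (fun _ => Nat) (Ptab_s_777_792 c) (Ptab_s_792_807 c) (Nat.ble 792 c)
noncomputable def Ptab_s_808_810 (c : Nat) : Nat := @Bool.rec (fun _ => Nat) (Ptab_808) (Ptab_809) (Nat.ble 809 c)
noncomputable def Ptab_s_807_810 (c : Nat) : Nat := @Bool.rec (fun _ => Nat) (Ptab_807) (Ptab_s_808_810 c) (Nat.ble 808 c)
noncomputable def Ptab_s_810_812 (c : Nat) : Nat := @Bool.rec (fun _ => Nat) (Ptab_810) (Ptab_811) (Nat.ble 811 c)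
noncomputable def Ptab_s_812_814 (c : Nat) : Nat := @Bool.rec (fun _ => Nat) (Ptab_812) (Ptab_813) (Nat.ble 813 c)
noncomputable def Ptab_s_810_814 (c : Nat) : Nat := @Bool.rec (fun _ => Nat) (Ptab_s_810_812 c) (Ptab_s_812_814 c) (Nat.ble 812 c)
noncomputable def Ptab_s_807_814 (c : Nat) : Nat := @Bool.rec (fun _ => Nat) (Ptab_s_807_810 c) (Ptab_s_810_814 c) (Nat.ble 810 c)
noncomputable def Ptab_s_814_816 (c : Nat) : Nat := @Bool.rec (fun _ => Nat) (Ptab_814) (Ptab_815) (Nat.ble 815 c)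
noncomputable def Ptab_s_816_818 (c : Nat) : Nat := @Bool.rec (fun _ => Nat) (Ptab_816) (Ptab_817) (Nat.ble 817 c)
noncomputable def Ptab_s_814_818 (c : Nat) : Nat := @Bool.rec (fun _ => Nat) (Ptab_s_814_816 c) (Ptab_s_816_818 c) (Nat.ble 816 c)
noncomputable def Ptab_s_818_820 (c : Nat) : Nat := @Bool.rec (fun _ => Nat) (Ptab_818) (Ptab_819) (Nat.ble 819 c)
noncomputable def Ptab_s_820_822 (c : Nat) : Nat := @Bool.rec (fun _ => Nat) (Ptab_820) (Ptab_821) (Nat.ble 821 c)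
noncomputable def Ptab_s_818_822 (c : Nat) : Nat := @Bool.rec (fun _ => Nat) (Ptab_s_818_820 c) (Ptab_s_820_822 c) (Nat.ble 820 c)
noncomputable def Ptab_s_814_822 (c : Nat) : Nat := @Bool.rec (fun _ => Nat) (Ptab_s_814_818 c) (Ptab_s_818_822 c) (Nat.ble 818 c)
noncomputable def Ptab_s_807_822 (c : Nat) : Nat := @Bool.rec (fun _ => Nat) (Ptab_s_807_814 c) (Ptab_s_814_822 c) (Nat.ble 814 c)
noncomputable def Ptab_s_823_825 (c : Nat) : Nat := @Bool.rec (fun _ => Nat) (Ptab_823) (Ptab_824) (Nat.ble 824 c)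
noncomputable def Ptab_s_822_825 (c : Nat) : Nat := @Bool.rec (fun _ => Nat) (Ptab_822) (Ptab_s_823_825 c) (Nat.ble 823 c)
noncomputable def Ptab_s_825_827 (c : Nat) : Nat := @Bool.rec (fun _ => Nat) (Ptab_825) (Ptab_826) (Nat.ble 826 c)
noncomputable def Ptab_s_827_829 (c : Nat) : Nat := @Bool.rec (fun _ => Nat) (Ptab_827) (Ptab_828) (Nat.ble 828 c)
noncomputable def Ptab_s_825_829 (c : Nat) : Nat := @Bool.rec (fun _ => Nat) (Ptab_s_825_827 c) (Ptab_s_827_829 c) (Nat.ble 827 c)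
noncomputable def Ptab_s_822_829 (c : Nat) : Nat := @Bool.rec (fun _ => Nat) (Ptab_s_822_825 c) (Ptab_s_825_829 c) (Nat.ble 825 c)
noncomputable def Ptab_s_829_831 (c : Nat) : Nat := @Bool.rec (fun _ => Nat) (Ptab_829) (Ptab_830) (Nat.ble 830 c)
noncomputable def Ptab_s_831_833 (c : Nat) : Nat := @Bool.rec (fun _ => Nat) (Ptab_831) (Ptab_832) (Nat.ble 832 c)
noncomputable def Ptab_s_829_833 (c : Nat) : Nat := @Bool.rec (fun _ => Nat) (Ptab_s_829_831 c) (Ptab_s_831_833 c) (Nat.ble 831 c)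
noncomputable def Ptab_s_833_835 (c : Nat) : Nat := @Bool.rec (fun _ => Nat) (Ptab_833) (Ptab_834) (Nat.ble 834 c)
noncomputable def Ptab_s_835_837 (c : Nat) : Nat := @Bool.rec (fun _ => Nat) (Ptab_835) (Ptab_836) (Nat.ble 836 c)
noncomputable def Ptab_s_833_837 (c : Nat) : Nat := @Bool.rec (fun _ => Nat) (Ptab_s_833_835 c) (Ptab_s_835_837 c) (Nat.ble 835 c)
noncomputable def Ptab_s_829_837 (c : Nat) : Nat := @Bool.rec (fun _ => Nat) (Ptab_s_829_833 c) (Ptab_s_833_837 c) (Nat.ble 833 c)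
noncomputable def Ptab_s_822_837 (c : Nat) : Nat := @Bool.rec (fun _ => Nat) (Ptab_s_822_829 c) (Ptab_s_829_837 c) (Nat.ble 829 c)
noncomputable def Ptab_s_807_837 (c : Nat) : Nat := @Bool.rec (fun _ => Nat) (Ptab_s_807_822 c) (Ptab_s_822_837 c) (Nat.ble 822 c)
noncomputable def Ptab_s_777_837 (c : Nat) : Nat := @Bool.rec (fun _ => Nat) (Ptab_s_777_807 c) (Ptab_s_807_837 c) (Nat.ble 807 c)
noncomputable def Ptab_s_717_837 (c : Nat) : Nat := @Bool.rec (fun _ => Nat) (Ptab_s_717_777 c) (Ptab_s_777_837 c) (Nat.ble 777 c)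
noncomputable def Ptab_s_838_840 (c : Nat) : Nat := @Bool.rec (fun _ => Nat) (Ptab_838) (Ptab_839) (Nat.ble 839 c)
noncomputable def Ptab_s_837_840 (c : Nat) : Nat := @Bool.rec (fun _ => Nat) (Ptab_837) (Ptab_s_838_840 c) (Nat.ble 838 c)
noncomputable def Ptab_s_840_842 (c : Nat) : Nat := @Bool.rec (fun _ => Nat) (Ptab_840) (Ptab_841) (Nat.ble 841 c)
noncomputable def Ptab_s_842_844 (c : Nat) : Nat := @Bool.rec (fun _ => Nat) (Ptab_842) (Ptab_843) (Nat.ble 843 c)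
noncomputable def Ptab_s_840_844 (c : Nat) : Nat := @Bool.rec (fun _ => Nat) (Ptab_s_840_842 c) (Ptab_s_842_844 c) (Nat.ble 842 c)
noncomputable def Ptab_s_837_844 (c : Nat) : Nat := @Bool.rec (fun _ => Nat) (Ptab_s_837_840 c) (Ptab_s_840_844 c) (Nat.ble 840 c)
noncomputable def Ptab_s_844_846 (c : Nat) : Nat := @Bool.rec (fun _ => Nat) (Ptab_844) (Ptab_845) (Nat.ble 845 c)
noncomputable def Ptab_s_846_848 (c : Nat) : Nat := @Bool.rec (fun _ => Nat) (Ptab_846) (Ptab_847) (Nat.ble 847 c)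
noncomputable def Ptab_s_844_848 (c : Nat) : Nat := @Bool.rec (fun _ => Nat) (Ptab_s_844_846 c) (Ptab_s_846_848 c) (Nat.ble 846 c)
noncomputable def Ptab_s_848_850 (c : Nat) : Nat := @Bool.rec (fun _ => Nat) (Ptab_848) (Ptab_849) (Nat.ble 849 c)
noncomputable def Ptab_s_850_852 (c : Nat) : Nat := @Bool.rec (fun _ => Nat) (Ptab_850) (Ptab_851) (Nat.ble 851 c)
noncomputable def Ptab_s_848_852 (c : Nat) : Nat := @Bool.rec (fun _ => Nat) (Ptab_s_848_850 c) (Ptab_s_850_852 c) (Nat.ble 850 c)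
noncomputable def Ptab_s_844_852 (c : Nat) : Nat := @Bool.rec (fun _ => Nat) (Ptab_s_844_848 c) (Ptab_s_848_852 c) (Nat.ble 848 c)
noncomputable def Ptab_s_837_852 (c : Nat) : Nat := @Bool.rec (fun _ => Nat) (Ptab_s_837_844 c) (Ptab_s_844_852 c) (Nat.ble 844 c)
noncomputable def Ptab_s_853_855 (c : Nat) : Nat := @Bool.rec (fun _ => Nat) (Ptab_853) (Ptab_854) (Nat.ble 854 c)
noncomputable def Ptab_s_852_855 (c : Nat) : Nat := @Bool.rec (fun _ => Nat) (Ptab_852) (Ptab_s_853_855 c) (Nat.ble 853 c)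
noncomputable def Ptab_s_855_857 (c : Nat) : Nat := @Bool.rec (fun _ => Nat) (Ptab_855) (Ptab_856) (Nat.ble 856 c)
noncomputable def Ptab_s_857_859 (c : Nat) : Nat := @Bool.rec (fun _ => Nat) (Ptab_857) (Ptab_858) (Nat.ble 858 c)
noncomputable def Ptab_s_855_859 (c : Nat) : Nat := @Bool.rec (fun _ => Nat) (Ptab_s_855_857 c) (Ptab_s_857_859 c) (Nat.ble 857 c)
noncomputable def Ptab_s_852_859 (c : Nat) : Nat := @Bool.rec (fun _ => Nat) (Ptab_s_852_855 c) (Ptab_s_855_859 c) (Nat.ble 855 c)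
noncomputable def Ptab_s_859_861 (c : Nat) : Nat := @Bool.rec (fun _ => Nat) (Ptab_859) (Ptab_860) (Nat.ble 860 c)
noncomputable def Ptab_s_861_863 (c : Nat) : Nat := @Bool.rec (fun _ => Nat) (Ptab_861) (Ptab_862) (Nat.ble 862 c)
noncomputable def Ptab_s_859_863 (c : Nat) : Nat := @Bool.rec (fun _ => Nat) (Ptab_s_859_861 c) (Ptab_s_861_863 c) (Nat.ble 861 c)
noncomputable def Ptab_s_863_865 (c : Nat) : Nat := @Bool.rec (fun _ => Nat) (Ptab_863) (Ptab_864) (Nat.ble 864 c)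
noncomputable def Ptab_s_865_867 (c : Nat) : Nat := @Bool.rec (fun _ => Nat) (Ptab_865) (Ptab_866) (Nat.ble 866 c)
noncomputable def Ptab_s_863_867 (c : Nat) : Nat := @Bool.rec (fun _ => Nat) (Ptab_s_863_865 c) (Ptab_s_865_867 c) (Nat.ble 865 c)
noncomputable def Ptab_s_859_867 (c : Nat) : Nat := @Bool.rec (fun _ => Nat) (Ptab_s_859_863 c) (Ptab_s_863_867 c) (Nat.ble 863 c)
noncomputable def Ptab_s_852_867 (c : Nat) : Nat := @Bool.rec (fun _ => Nat) (Ptab_s_852_859 c) (Ptab_s_859_867 c) (Nat.ble 859 c)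
noncomputable def Ptab_s_837_867 (c : Nat) : Nat := @Bool.rec (fun _ => Nat) (Ptab_s_837_852 c) (Ptab_s_852_867 c) (Nat.ble 852 c)
noncomputable def Ptab_s_868_870 (c : Nat) : Nat := @Bool.rec (fun _ => Nat) (Ptab_868) (Ptab_869) (Nat.ble 869 c)
noncomputable def Ptab_s_867_870 (c : Nat) : Nat := @Bool.rec (fun _ => Nat) (Ptab_867) (Ptab_s_868_870 c) (Nat.ble 868 c)
noncomputable def Ptab_s_870_872 (c : Nat) : Nat := @Bool.rec (fun _ => Nat) (Ptab_870) (Ptab_871) (Nat.ble 871 c)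
noncomputable def Ptab_s_872_874 (c : Nat) : Nat := @Bool.rec (fun _ => Nat) (Ptab_872) (Ptab_873) (Nat.ble 873 c)
noncomputable def Ptab_s_870_874 (c : Nat) : Nat := @Bool.rec (fun _ => Nat) (Ptab_s_870_872 c) (Ptab_s_872_874 c) (Nat.ble 872 c)
noncomputable def Ptab_s_867_874 (c : Nat) : Nat := @Bool.rec (fun _ => Nat) (Ptab_s_867_870 c) (Ptab_s_870_874 c) (Nat.ble 870 c)
noncomputable def Ptab_s_874_876 (c : Nat) : Nat := @Bool.rec (fun _ => Nat) (Ptab_874) (Ptab_875) (Nat.ble 875 c)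
noncomputable def Ptab_s_876_878 (c : Nat) : Nat := @Bool.rec (fun _ => Nat) (Ptab_876) (Ptab_877) (Nat.ble 877 c)
noncomputable def Ptab_s_874_878 (c : Nat) : Nat := @Bool.rec (fun _ => Nat) (Ptab_s_874_876 c) (Ptab_s_876_878 c) (Nat.ble 876 c)
noncomputable def Ptab_s_878_880 (c : Nat) : Nat := @Bool.rec (fun _ => Nat) (Ptab_878) (Ptab_879) (Nat.ble 879 c)
noncomputable def Ptab_s_880_882 (c : Nat) : Nat := @Bool.rec (fun _ => Nat) (Ptab_880) (Ptab_881) (Nat.ble 881 c)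
noncomputable def Ptab_s_878_882 (c : Nat) : Nat := @Bool.rec (fun _ => Nat) (Ptab_s_878_880 c) (Ptab_s_880_882 c) (Nat.ble 880 c)
noncomputable def Ptab_s_874_882 (c : Nat) : Nat := @Bool.rec (fun _ => Nat) (Ptab_s_874_878 c) (Ptab_s_878_882 c) (Nat.ble 878 c)
noncomputable def Ptab_s_867_882 (c : Nat) : Nat := @Bool.rec (fun _ => Nat) (Ptab_s_867_874 c) (Ptab_s_874_882 c) (Nat.ble 874 c)
noncomputable def Ptab_s_883_885 (c : Nat) : Nat := @Bool.rec (fun _ => Nat) (Ptab_883) (Ptab_884) (Nat.ble 884 c)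
noncomputable def Ptab_s_882_885 (c : Nat) : Nat := @Bool.rec (fun _ => Nat) (Ptab_882) (Ptab_s_883_885 c) (Nat.ble 883 c)
noncomputable def Ptab_s_885_887 (c : Nat) : Nat := @Bool.rec (fun _ => Nat) (Ptab_885) (Ptab_886) (Nat.ble 886 c)
noncomputable def Ptab_s_887_889 (c : Nat) : Nat := @Bool.rec (fun _ => Nat) (Ptab_887) (Ptab_888) (Nat.ble 888 c)
noncomputable def Ptab_s_885_889 (c : Nat) : Nat := @Bool.rec (fun _ => Nat) (Ptab_s_885_887 c) (Ptab_s_887_889 c) (Nat.ble 887 c)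
noncomputable def Ptab_s_882_889 (c : Nat) : Nat := @Bool.rec (fun _ => Nat) (Ptab_s_882_885 c) (Ptab_s_885_889 c) (Nat.ble 885 c)
noncomputable def Ptab_s_889_891 (c : Nat) : Nat := @Bool.rec (fun _ => Nat) (Ptab_889) (Ptab_890) (Nat.ble 890 c)
noncomputable def Ptab_s_891_893 (c : Nat) : Nat := @Bool.rec (fun _ => Nat) (Ptab_891) (Ptab_892) (Nat.ble 892 c)
noncomputable def Ptab_s_889_893 (c : Nat) : Nat := @Bool.rec (fun _ => Nat) (Ptab_s_889_891 c) (Ptab_s_891_893 c) (Nat.ble 891 c)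
noncomputable def Ptab_s_893_895 (c : Nat) : Nat := @Bool.rec (fun _ => Nat) (Ptab_893) (Ptab_894) (Nat.ble 894 c)
noncomputable def Ptab_s_895_897 (c : Nat) : Nat := @Bool.rec (fun _ => Nat) (Ptab_895) (Ptab_896) (Nat.ble 896 c)
noncomputable def Ptab_s_893_897 (c : Nat) : Nat := @Bool.rec (fun _ => Nat) (Ptab_s_893_895 c) (Ptab_s_895_897 c) (Nat.ble 895 c)
noncomputable def Ptab_s_889_897 (c : Nat) : Nat := @Bool.rec (fun _ => Nat) (Ptab_s_889_893 c) (Ptab_s_893_897 c) (Nat.ble 893 c)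
noncomputable def Ptab_s_882_897 (c : Nat) : Nat := @Bool.rec (fun _ => Nat) (Ptab_s_882_889 c) (Ptab_s_889_897 c) (Nat.ble 889 c)
noncomputable def Ptab_s_867_897 (c : Nat) : Nat := @Bool.rec (fun _ => Nat) (Ptab_s_867_882 c) (Ptab_s_882_897 c) (Nat.ble 882 c)
noncomputable def Ptab_s_837_897 (c : Nat) : Nat := @Bool.rec (fun _ => Nat) (Ptab_s_837_867 c) (Ptab_s_867_897 c) (Nat.ble 867 c)
noncomputable def Ptab_s_898_900 (c : Nat) : Nat := @Bool.rec (fun _ => Nat) (Ptab_898) (Ptab_899) (Nat.ble 899 c)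
noncomputable def Ptab_s_897_900 (c : Nat) : Nat := @Bool.rec (fun _ => Nat) (Ptab_897) (Ptab_s_898_900 c) (Nat.ble 898 c)
noncomputable def Ptab_s_900_902 (c : Nat) : Nat := @Bool.rec (fun _ => Nat) (Ptab_900) (Ptab_901) (Nat.ble 901 c)
noncomputable def Ptab_s_902_904 (c : Nat) : Nat := @Bool.rec (fun _ => Nat) (Ptab_902) (Ptab_903) (Nat.ble 903 c)
noncomputable def Ptab_s_900_904 (c : Nat) : Nat := @Bool.rec (fun _ => Nat) (Ptab_s_900_902 c) (Ptab_s_902_904 c) (Nat.ble 902 c)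
noncomputable def Ptab_s_897_904 (c : Nat) : Nat := @Bool.rec (fun _ => Nat) (Ptab_s_897_900 c) (Ptab_s_900_904 c) (Nat.ble 900 c)
noncomputable def Ptab_s_904_906 (c : Nat) : Nat := @Bool.rec (fun _ => Nat) (Ptab_904) (Ptab_905) (Nat.ble 905 c)
noncomputable def Ptab_s_906_908 (c : Nat) : Nat := @Bool.rec (fun _ => Nat) (Ptab_906) (Ptab_907) (Nat.ble 907 c)
noncomputable def Ptab_s_904_908 (c : Nat) : Nat := @Bool.rec (fun _ => Nat) (Ptab_s_904_906 c) (Ptab_s_906_908 c) (Nat.ble 906 c)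
noncomputable def Ptab_s_908_910 (c : Nat) : Nat := @Bool.rec (fun _ => Nat) (Ptab_908) (Ptab_909) (Nat.ble 909 c)
noncomputable def Ptab_s_910_912 (c : Nat) : Nat := @Bool.rec (fun _ => Nat) (Ptab_910) (Ptab_911) (Nat.ble 911 c)
noncomputable def Ptab_s_908_912 (c : Nat) : Nat := @Bool.rec (fun _ => Nat) (Ptab_s_908_910 c) (Ptab_s_910_912 c) (Nat.ble 910 c)
noncomputable def Ptab_s_904_912 (c : Nat) : Nat := @Bool.rec (fun _ => Nat) (Ptab_s_904_908 c) (Ptab_s_908_912 c) (Nat.ble 908 c)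
noncomputable def Ptab_s_897_912 (c : Nat) : Nat := @Bool.rec (fun _ => Nat) (Ptab_s_897_904 c) (Ptab_s_904_912 c) (Nat.ble 904 c)
noncomputable def Ptab_s_913_915 (c : Nat) : Nat := @Bool.rec (fun _ => Nat) (Ptab_913) (Ptab_914) (Nat.ble 914 c)
noncomputable def Ptab_s_912_915 (c : Nat) : Nat := @Bool.rec (fun _ => Nat) (Ptab_912) (Ptab_s_913_915 c) (Nat.ble 913 c)
noncomputable def Ptab_s_915_917 (c : Nat) : Nat := @Bool.rec (fun _ => Nat) (Ptab_915) (Ptab_916) (Nat.ble 916 c)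
noncomputable def Ptab_s_917_919 (c : Nat) : Nat := @Bool.rec (fun _ => Nat) (Ptab_917) (Ptab_918) (Nat.ble 918 c)
noncomputable def Ptab_s_915_919 (c : Nat) : Nat := @Bool.rec (fun _ => Nat) (Ptab_s_915_917 c) (Ptab_s_917_919 c) (Nat.ble 917 c)
noncomputable def Ptab_s_912_919 (c : Nat) : Nat := @Bool.rec (fun _ => Nat) (Ptab_s_912_915 c) (Ptab_s_915_919 c) (Nat.ble 915 c)
noncomputable def Ptab_s_919_921 (c : Nat) : Nat := @Bool.rec (fun _ => Nat) (Ptab_919) (Ptab_920) (Nat.ble 920 c)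
noncomputable def Ptab_s_921_923 (c : Nat) : Nat := @Bool.rec (fun _ => Nat) (Ptab_921) (Ptab_922) (Nat.ble 922 c)
noncomputable def Ptab_s_919_923 (c : Nat) : Nat := @Bool.rec (fun _ => Nat) (Ptab_s_919_921 c) (Ptab_s_921_923 c) (Nat.ble 921 c)
noncomputable def Ptab_s_923_925 (c : Nat) : Nat := @Bool.rec (fun _ => Nat) (Ptab_923) (Ptab_924) (Nat.ble 924 c)
noncomputable def Ptab_s_925_927 (c : Nat) : Nat := @Bool.rec (fun _ => Nat) (Ptab_925) (Ptab_926) (Nat.ble 926 c)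
noncomputable def Ptab_s_923_927 (c : Nat) : Nat := @Bool.rec (fun _ => Nat) (Ptab_s_923_925 c) (Ptab_s_925_927 c) (Nat.ble 925 c)
noncomputable def Ptab_s_919_927 (c : Nat) : Nat := @Bool.rec (fun _ => Nat) (Ptab_s_919_923 c) (Ptab_s_923_927 c) (Nat.ble 923 c)
noncomputable def Ptab_s_912_927 (c : Nat) : Nat := @Bool.rec (fun _ => Nat) (Ptab_s_912_919 c) (Ptab_s_919_927 c) (Nat.ble 919 c)
noncomputable def Ptab_s_897_927 (c : Nat) : Nat := @Bool.rec (fun _ => Nat) (Ptab_s_897_912 c) (Ptab_s_912_927 c) (Nat.ble 912 c)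
noncomputable def Ptab_s_928_930 (c : Nat) : Nat := @Bool.rec (fun _ => Nat) (Ptab_928) (Ptab_929) (Nat.ble 929 c)
noncomputable def Ptab_s_927_930 (c : Nat) : Nat := @Bool.rec (fun _ => Nat) (Ptab_927) (Ptab_s_928_930 c) (Nat.ble 928 c)
noncomputable def Ptab_s_930_932 (c : Nat) : Nat := @Bool.rec (fun _ => Nat) (Ptab_930) (Ptab_931) (Nat.ble 931 c)
noncomputable def Ptab_s_932_934 (c : Nat) : Nat := @Bool.rec (fun _ => Nat) (Ptab_932) (Ptab_933) (Nat.ble 933 c)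
noncomputable def Ptab_s_930_934 (c : Nat) : Nat := @Bool.rec (fun _ => Nat) (Ptab_s_930_932 c) (Ptab_s_932_934 c) (Nat.ble 932 c)
noncomputable def Ptab_s_927_934 (c : Nat) : Nat := @Bool.rec (fun _ => Nat) (Ptab_s_927_930 c) (Ptab_s_930_934 c) (Nat.ble 930 c)
noncomputable def Ptab_s_934_936 (c : Nat) : Nat := @Bool.rec (fun _ => Nat) (Ptab_934) (Ptab_935) (Nat.ble 935 c)
noncomputable def Ptab_s_936_938 (c : Nat) : Nat := @Bool.rec (fun _ => Nat) (Ptab_936) (Ptab_937) (Nat.ble 937 c)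
noncomputable def Ptab_s_934_938 (c : Nat) : Nat := @Bool.rec (fun _ => Nat) (Ptab_s_934_936 c) (Ptab_s_936_938 c) (Nat.ble 936 c)
noncomputable def Ptab_s_938_940 (c : Nat) : Nat := @Bool.rec (fun _ => Nat) (Ptab_938) (Ptab_939) (Nat.ble 939 c)
noncomputable def Ptab_s_940_942 (c : Nat) : Nat := @Bool.rec (fun _ => Nat) (Ptab_940) (Ptab_941) (Nat.ble 941 c)
noncomputable def Ptab_s_938_942 (c : Nat) : Nat := @Bool.rec (fun _ => Nat) (Ptab_s_938_940 c) (Ptab_s_940_942 c) (Nat.ble 940 c)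
noncomputable def Ptab_s_934_942 (c : Nat) : Nat := @Bool.rec (fun _ => Nat) (Ptab_s_934_938 c) (Ptab_s_938_942 c) (Nat.ble 938 c)
noncomputable def Ptab_s_927_942 (c : Nat) : Nat := @Bool.rec (fun _ => Nat) (Ptab_s_927_934 c) (Ptab_s_934_942 c) (Nat.ble 934 c)
noncomputable def Ptab_s_943_945 (c : Nat) : Nat := @Bool.rec (fun _ => Nat) (Ptab_943) (Ptab_944) (Nat.ble 944 c)
noncomputable def Ptab_s_942_945 (c : Nat) : Nat := @Bool.rec (fun _ => Nat) (Ptab_942) (Ptab_s_943_945 c) (Nat.ble 943 c)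
noncomputable def Ptab_s_945_947 (c : Nat) : Nat := @Bool.rec (fun _ => Nat) (Ptab_945) (Ptab_946) (Nat.ble 946 c)
noncomputable def Ptab_s_947_949 (c : Nat) : Nat := @Bool.rec (fun _ => Nat) (Ptab_947) (Ptab_948) (Nat.ble 948 c)
noncomputable def Ptab_s_945_949 (c : Nat) : Nat := @Bool.rec (fun _ => Nat) (Ptab_s_945_947 c) (Ptab_s_947_949 c) (Nat.ble 947 c)
noncomputable def Ptab_s_942_949 (c : Nat) : Nat := @Bool.rec (fun _ => Nat) (Ptab_s_942_945 c) (Ptab_s_945_949 c) (Nat.ble 945 c)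
noncomputable def Ptab_s_949_951 (c : Nat) : Nat := @Bool.rec (fun _ => Nat) (Ptab_949) (Ptab_950) (Nat.ble 950 c)
noncomputable def Ptab_s_951_953 (c : Nat) : Nat := @Bool.rec (fun _ => Nat) (Ptab_951) (Ptab_952) (Nat.ble 952 c)
noncomputable def Ptab_s_949_953 (c : Nat) : Nat := @Bool.rec (fun _ => Nat) (Ptab_s_949_951 c) (Ptab_s_951_953 c) (Nat.ble 951 c)
noncomputable def Ptab_s_953_955 (c : Nat) : Nat := @Bool.rec (fun _ => Nat) (Ptab_953) (Ptab_954) (Nat.ble 954 c)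
noncomputable def Ptab_s_955_957 (c : Nat) : Nat := @Bool.rec (fun _ => Nat) (Ptab_955) (Ptab_956) (Nat.ble 956 c)
noncomputable def Ptab_s_953_957 (c : Nat) : Nat := @Bool.rec (fun _ => Nat) (Ptab_s_953_955 c) (Ptab_s_955_957 c) (Nat.ble 955 c)
noncomputable def Ptab_s_949_957 (c : Nat) : Nat := @Bool.rec (fun _ => Nat) (Ptab_s_949_953 c) (Ptab_s_953_957 c) (Nat.ble 953 c)
noncomputable def Ptab_s_942_957 (c : Nat) : Nat := @Bool.rec (fun _ => Nat) (Ptab_s_942_949 c) (Ptab_s_949_957 c) (Nat.ble 949 c)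
noncomputable def Ptab_s_927_957 (c : Nat) : Nat := @Bool.rec (fun _ => Nat) (Ptab_s_927_942 c) (Ptab_s_942_957 c) (Nat.ble 942 c)
noncomputable def Ptab_s_897_957 (c : Nat) : Nat := @Bool.rec (fun _ => Nat) (Ptab_s_897_927 c) (Ptab_s_927_957 c) (Nat.ble 927 c)
noncomputable def Ptab_s_837_957 (c : Nat) : Nat := @Bool.rec (fun _ => Nat) (Ptab_s_837_897 c) (Ptab_s_897_957 c) (Nat.ble 897 c)
noncomputable def Ptab_s_717_957 (c : Nat) : Nat := @Bool.rec (fun _ => Nat) (Ptab_s_717_837 c) (Ptab_s_837_957 c) (Nat.ble 837 c)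
noncomputable def Ptab_s_478_957 (c : Nat) : Nat := @Bool.rec (fun _ => Nat) (Ptab_s_478_717 c) (Ptab_s_717_957 c) (Nat.ble 717 c)
noncomputable def Ptab_s_0_957 (c : Nat) : Nat := @Bool.rec (fun _ => Nat) (Ptab_s_0_478 c) (Ptab_s_478_957 c) (Nat.ble 478 c)
noncomputable def Ptab (i : Nat) : Nat := rdw 21 2097151 (Ptab_s_0_957 (Nat.shiftRight i 12)) (Nat.land i 4095)
noncomputable def RRtab (i : Nat) : Nat := rdw 5 31 RRtab_0 i
noncomputable def rBtab (i : Nat) : Nat := rdw 11 2047 rBtab_0 i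
noncomputable def rLtab (i : Nat) : Nat := rdw 5 31 rLtab_0 i
noncomputable def nameTab_s_0_2 (c : Nat) : Nat := @Bool.rec (fun _ => Nat) (nameTab_0) (nameTab_1) (Nat.ble 1 c)
noncomputable def nameTab_s_2_4 (c : Nat) : Nat := @Bool.rec (fun _ => Nat) (nameTab_2) (nameTab_3) (Nat.ble 3 c)
noncomputable def nameTab_s_0_4 (c : Nat) : Nat := @Bool.rec (fun _ => Nat) (nameTab_s_0_2 c) (nameTab_s_2_4 c) (Nat.ble 2 c)
noncomputable def nameTab_s_4_6 (c : Nat) : Nat := @Bool.rec (fun _ => Nat) (nameTab_4) (nameTab_5) (Nat.ble 5 c)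
noncomputable def nameTab_s_6_8 (c : Nat) : Nat := @Bool.rec (fun _ => Nat) (nameTab_6) (nameTab_7) (Nat.ble 7 c)
noncomputable def nameTab_s_4_8 (c : Nat) : Nat := @Bool.rec (fun _ => Nat) (nameTab_s_4_6 c) (nameTab_s_6_8 c) (Nat.ble 6 c)
noncomputable def nameTab_s_0_8 (c : Nat) : Nat := @Bool.rec (fun _ => Nat) (nameTab_s_0_4 c) (nameTab_s_4_8 c) (Nat.ble 4 c)
noncomputable def nameTab_s_8_10 (c : Nat) : Nat := @Bool.rec (fun _ => Nat) (nameTab_8) (nameTab_9) (Nat.ble 9 c)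
noncomputable def nameTab_s_10_12 (c : Nat) : Nat := @Bool.rec (fun _ => Nat) (nameTab_10) (nameTab_11) (Nat.ble 11 c)
noncomputable def nameTab_s_8_12 (c : Nat) : Nat := @Bool.rec (fun _ => Nat) (nameTab_s_8_10 c) (nameTab_s_10_12 c) (Nat.ble 10 c)
noncomputable def nameTab_s_12_14 (c : Nat) : Nat := @Bool.rec (fun _ => Nat) (nameTab_12) (nameTab_13) (Nat.ble 13 c)
noncomputable def nameTab_s_15_17 (c : Nat) : Nat := @Bool.rec (fun _ => Nat) (nameTab_15) (nameTab_16) (Nat.ble 16 c)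
noncomputable def nameTab_s_14_17 (c : Nat) : Nat := @Bool.rec (fun _ => Nat) (nameTab_14) (nameTab_s_15_17 c) (Nat.ble 15 c)
noncomputable def nameTab_s_12_17 (c : Nat) : Nat := @Bool.rec (fun _ => Nat) (nameTab_s_12_14 c) (nameTab_s_14_17 c) (Nat.ble 14 c)
noncomputable def nameTab_s_8_17 (c : Nat) : Nat := @Bool.rec (fun _ => Nat) (nameTab_s_8_12 c) (nameTab_s_12_17 c) (Nat.ble 12 c)
noncomputable def nameTab_s_0_17 (c : Nat) : Nat := @Bool.rec (fun _ => Nat) (nameTab_s_0_8 c) (nameTab_s_8_17 c) (Nat.ble 8 c)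
noncomputable def nameTab (i : Nat) : Nat := rdw 17 131071 (nameTab_s_0_17 (Nat.shiftRight i 12)) (Nat.land i 4095)
noncomputable def col0_s_0_2 (c : Nat) : Nat := @Bool.rec (fun _ => Nat) (col0_0) (col0_1) (Nat.ble 1 c)
noncomputable def col0_s_2_4 (c : Nat) : Nat := @Bool.rec (fun _ => Nat) (col0_2) (col0_3) (Nat.ble 3 c)
noncomputable def col0_s_0_4 (c : Nat) : Nat := @Bool.rec (fun _ => Nat) (col0_s_0_2 c) (col0_s_2_4 c) (Nat.ble 2 c)
noncomputable def col0_s_4_6 (c : Nat) : Nat := @Bool.rec (fun _ => Nat) (col0_4) (col0_5) (Nat.ble 5 c)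
noncomputable def col0_s_6_8 (c : Nat) : Nat := @Bool.rec (fun _ => Nat) (col0_6) (col0_7) (Nat.ble 7 c)
noncomputable def col0_s_4_8 (c : Nat) : Nat := @Bool.rec (fun _ => Nat) (col0_s_4_6 c) (col0_s_6_8 c) (Nat.ble 6 c)
noncomputable def col0_s_0_8 (c : Nat) : Nat := @Bool.rec (fun _ => Nat) (col0_s_0_4 c) (col0_s_4_8 c) (Nat.ble 4 c)
noncomputable def col0_s_8_10 (c : Nat) : Nat := @Bool.rec (fun _ => Nat) (col0_8) (col0_9) (Nat.ble 9 c)
noncomputable def col0_s_10_12 (c : Nat) : Nat := @Bool.rec (fun _ => Nat) (col0_10) (col0_11) (Nat.ble 11 c)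
noncomputable def col0_s_8_12 (c : Nat) : Nat := @Bool.rec (fun _ => Nat) (col0_s_8_10 c) (col0_s_10_12 c) (Nat.ble 10 c)
noncomputable def col0_s_12_14 (c : Nat) : Nat := @Bool.rec (fun _ => Nat) (col0_12) (col0_13) (Nat.ble 13 c)
noncomputable def col0_s_15_17 (c : Nat) : Nat := @Bool.rec (fun _ => Nat) (col0_15) (col0_16) (Nat.ble 16 c)
noncomputable def col0_s_14_17 (c : Nat) : Nat := @Bool.rec (fun _ => Nat) (col0_14) (col0_s_15_17 c) (Nat.ble 15 c)
noncomputable def col0_s_12_17 (c : Nat) : Nat := @Bool.rec (fun _ => Nat) (col0_s_12_14 c) (col0_s_14_17 c) (Nat.ble 14 c)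
noncomputable def col0_s_8_17 (c : Nat) : Nat := @Bool.rec (fun _ => Nat) (col0_s_8_12 c) (col0_s_12_17 c) (Nat.ble 12 c)
noncomputable def col0_s_0_17 (c : Nat) : Nat := @Bool.rec (fun _ => Nat) (col0_s_0_8 c) (col0_s_8_17 c) (Nat.ble 8 c)
noncomputable def col0 (i : Nat) : Nat := rdw 17 131071 (col0_s_0_17 (Nat.shiftRight i 12)) (Nat.land i 4095)
noncomputable def col1_s_0_2 (c : Nat) : Nat := @Bool.rec (fun _ => Nat) (col1_0) (col1_1) (Nat.ble 1 c)
noncomputable def col1_s_2_4 (c : Nat) : Nat := @Bool.rec (fun _ => Nat) (col1_2) (col1_3) (Nat.ble 3 c)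
noncomputable def col1_s_0_4 (c : Nat) : Nat := @Bool.rec (fun _ => Nat) (col1_s_0_2 c) (col1_s_2_4 c) (Nat.ble 2 c)
noncomputable def col1_s_4_6 (c : Nat) : Nat := @Bool.rec (fun _ => Nat) (col1_4) (col1_5) (Nat.ble 5 c)
noncomputable def col1_s_6_8 (c : Nat) : Nat := @Bool.rec (fun _ => Nat) (col1_6) (col1_7) (Nat.ble 7 c)
noncomputable def col1_s_4_8 (c : Nat) : Nat := @Bool.rec (fun _ => Nat) (col1_s_4_6 c) (col1_s_6_8 c) (Nat.ble 6 c)
noncomputable def col1_s_0_8 (c : Nat) : Nat := @Bool.rec (fun _ => Nat) (col1_s_0_4 c) (col1_s_4_8 c) (Nat.ble 4 c)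
noncomputable def col1_s_8_10 (c : Nat) : Nat := @Bool.rec (fun _ => Nat) (col1_8) (col1_9) (Nat.ble 9 c)
noncomputable def col1_s_10_12 (c : Nat) : Nat := @Bool.rec (fun _ => Nat) (col1_10) (col1_11) (Nat.ble 11 c)
noncomputable def col1_s_8_12 (c : Nat) : Nat := @Bool.rec (fun _ => Nat) (col1_s_8_10 c) (col1_s_10_12 c) (Nat.ble 10 c)
noncomputable def col1_s_12_14 (c : Nat) : Nat := @Bool.rec (fun _ => Nat) (col1_12) (col1_13) (Nat.ble 13 c)
noncomputable def col1_s_15_17 (c : Nat) : Nat := @Bool.rec (fun _ => Nat) (col1_15) (col1_16) (Nat.ble 16 c)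
noncomputable def col1_s_14_17 (c : Nat) : Nat := @Bool.rec (fun _ => Nat) (col1_14) (col1_s_15_17 c) (Nat.ble 15 c)
noncomputable def col1_s_12_17 (c : Nat) : Nat := @Bool.rec (fun _ => Nat) (col1_s_12_14 c) (col1_s_14_17 c) (Nat.ble 14 c)
noncomputable def col1_s_8_17 (c : Nat) : Nat := @Bool.rec (fun _ => Nat) (col1_s_8_12 c) (col1_s_12_17 c) (Nat.ble 12 c)
noncomputable def col1_s_0_17 (c : Nat) : Nat := @Bool.rec (fun _ => Nat) (col1_s_0_8 c) (col1_s_8_17 c) (Nat.ble 8 c)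
noncomputable def col1 (i : Nat) : Nat := rdw 17 131071 (col1_s_0_17 (Nat.shiftRight i 12)) (Nat.land i 4095)
noncomputable def col2_s_0_2 (c : Nat) : Nat := @Bool.rec (fun _ => Nat) (col2_0) (col2_1) (Nat.ble 1 c)
noncomputable def col2_s_2_4 (c : Nat) : Nat := @Bool.rec (fun _ => Nat) (col2_2) (col2_3) (Nat.ble 3 c)
noncomputable def col2_s_0_4 (c : Nat) : Nat := @Bool.rec (fun _ => Nat) (col2_s_0_2 c) (col2_s_2_4 c) (Nat.ble 2 c)
noncomputable def col2_s_4_6 (c : Nat) : Nat := @Bool.rec (fun _ => Nat) (col2_4) (col2_5) (Nat.ble 5 c)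
noncomputable def col2_s_6_8 (c : Nat) : Nat := @Bool.rec (fun _ => Nat) (col2_6) (col2_7) (Nat.ble 7 c)
noncomputable def col2_s_4_8 (c : Nat) : Nat := @Bool.rec (fun _ => Nat) (col2_s_4_6 c) (col2_s_6_8 c) (Nat.ble 6 c)
noncomputable def col2_s_0_8 (c : Nat) : Nat := @Bool.rec (fun _ => Nat) (col2_s_0_4 c) (col2_s_4_8 c) (Nat.ble 4 c)
noncomputable def col2_s_8_10 (c : Nat) : Nat := @Bool.rec (fun _ => Nat) (col2_8) (col2_9) (Nat.ble 9 c)
noncomputable def col2_s_10_12 (c : Nat) : Nat := @Bool.rec (fun _ => Nat) (col2_10) (col2_11) (Nat.ble 11 c)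
noncomputable def col2_s_8_12 (c : Nat) : Nat := @Bool.rec (fun _ => Nat) (col2_s_8_10 c) (col2_s_10_12 c) (Nat.ble 10 c)
noncomputable def col2_s_12_14 (c : Nat) : Nat := @Bool.rec (fun _ => Nat) (col2_12) (col2_13) (Nat.ble 13 c)
noncomputable def col2_s_15_17 (c : Nat) : Nat := @Bool.rec (fun _ => Nat) (col2_15) (col2_16) (Nat.ble 16 c)
noncomputable def col2_s_14_17 (c : Nat) : Nat := @Bool.rec (fun _ => Nat) (col2_14) (col2_s_15_17 c) (Nat.ble 15 c)
noncomputable def col2_s_12_17 (c : Nat) : Nat := @Bool.rec (fun _ => Nat) (col2_s_12_14 c) (col2_s_14_17 c) (Nat.ble 14 c)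
noncomputable def col2_s_8_17 (c : Nat) : Nat := @Bool.rec (fun _ => Nat) (col2_s_8_12 c) (col2_s_12_17 c) (Nat.ble 12 c)
noncomputable def col2_s_0_17 (c : Nat) : Nat := @Bool.rec (fun _ => Nat) (col2_s_0_8 c) (col2_s_8_17 c) (Nat.ble 8 c)
noncomputable def col2 (i : Nat) : Nat := rdw 17 131071 (col2_s_0_17 (Nat.shiftRight i 12)) (Nat.land i 4095)
noncomputable def col3_s_0_2 (c : Nat) : Nat := @Bool.rec (fun _ => Nat) (col3_0) (col3_1) (Nat.ble 1 c)
noncomputable def col3_s_2_4 (c : Nat) : Nat := @Bool.rec (fun _ => Nat) (col3_2) (col3_3) (Nat.ble 3 c)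
noncomputable def col3_s_0_4 (c : Nat) : Nat := @Bool.rec (fun _ => Nat) (col3_s_0_2 c) (col3_s_2_4 c) (Nat.ble 2 c)
noncomputable def col3_s_4_6 (c : Nat) : Nat := @Bool.rec (fun _ => Nat) (col3_4) (col3_5) (Nat.ble 5 c)
noncomputable def col3_s_6_8 (c : Nat) : Nat := @Bool.rec (fun _ => Nat) (col3_6) (col3_7) (Nat.ble 7 c)
noncomputable def col3_s_4_8 (c : Nat) : Nat := @Bool.rec (fun _ => Nat) (col3_s_4_6 c) (col3_s_6_8 c) (Nat.ble 6 c)
noncomputable def col3_s_0_8 (c : Nat) : Nat := @Bool.rec (fun _ => Nat) (col3_s_0_4 c) (col3_s_4_8 c) (Nat.ble 4 c)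
noncomputable def col3_s_8_10 (c : Nat) : Nat := @Bool.rec (fun _ => Nat) (col3_8) (col3_9) (Nat.ble 9 c)
noncomputable def col3_s_10_12 (c : Nat) : Nat := @Bool.rec (fun _ => Nat) (col3_10) (col3_11) (Nat.ble 11 c)
noncomputable def col3_s_8_12 (c : Nat) : Nat := @Bool.rec (fun _ => Nat) (col3_s_8_10 c) (col3_s_10_12 c) (Nat.ble 10 c)
noncomputable def col3_s_12_14 (c : Nat) : Nat := @Bool.rec (fun _ => Nat) (col3_12) (col3_13) (Nat.ble 13 c)
noncomputable def col3_s_15_17 (c : Nat) : Nat := @Bool.rec (fun _ => Nat) (col3_15) (col3_16) (Nat.ble 16 c)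
noncomputable def col3_s_14_17 (c : Nat) : Nat := @Bool.rec (fun _ => Nat) (col3_14) (col3_s_15_17 c) (Nat.ble 15 c)
noncomputable def col3_s_12_17 (c : Nat) : Nat := @Bool.rec (fun _ => Nat) (col3_s_12_14 c) (col3_s_14_17 c) (Nat.ble 14 c)
noncomputable def col3_s_8_17 (c : Nat) : Nat := @Bool.rec (fun _ => Nat) (col3_s_8_12 c) (col3_s_12_17 c) (Nat.ble 12 c)
noncomputable def col3_s_0_17 (c : Nat) : Nat := @Bool.rec (fun _ => Nat) (col3_s_0_8 c) (col3_s_8_17 c) (Nat.ble 8 c)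
noncomputable def col3 (i : Nat) : Nat := rdw 17 131071 (col3_s_0_17 (Nat.shiftRight i 12)) (Nat.land i 4095)
noncomputable def col4_s_0_2 (c : Nat) : Nat := @Bool.rec (fun _ => Nat) (col4_0) (col4_1) (Nat.ble 1 c)
noncomputable def col4_s_2_4 (c : Nat) : Nat := @Bool.rec (fun _ => Nat) (col4_2) (col4_3) (Nat.ble 3 c)
noncomputable def col4_s_0_4 (c : Nat) : Nat := @Bool.rec (fun _ => Nat) (col4_s_0_2 c) (col4_s_2_4 c) (Nat.ble 2 c)
noncomputable def col4_s_4_6 (c : Nat) : Nat := @Bool.rec (fun _ => Nat) (col4_4) (col4_5) (Nat.ble 5 c)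
noncomputable def col4_s_6_8 (c : Nat) : Nat := @Bool.rec (fun _ => Nat) (col4_6) (col4_7) (Nat.ble 7 c)
noncomputable def col4_s_4_8 (c : Nat) : Nat := @Bool.rec (fun _ => Nat) (col4_s_4_6 c) (col4_s_6_8 c) (Nat.ble 6 c)
noncomputable def col4_s_0_8 (c : Nat) : Nat := @Bool.rec (fun _ => Nat) (col4_s_0_4 c) (col4_s_4_8 c) (Nat.ble 4 c)
noncomputable def col4_s_8_10 (c : Nat) : Nat := @Bool.rec (fun _ => Nat) (col4_8) (col4_9) (Nat.ble 9 c)
noncomputable def col4_s_10_12 (c : Nat) : Nat := @Bool.rec (fun _ => Nat) (col4_10) (col4_11) (Nat.ble 11 c)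
noncomputable def col4_s_8_12 (c : Nat) : Nat := @Bool.rec (fun _ => Nat) (col4_s_8_10 c) (col4_s_10_12 c) (Nat.ble 10 c)
noncomputable def col4_s_12_14 (c : Nat) : Nat := @Bool.rec (fun _ => Nat) (col4_12) (col4_13) (Nat.ble 13 c)
noncomputable def col4_s_15_17 (c : Nat) : Nat := @Bool.rec (fun _ => Nat) (col4_15) (col4_16) (Nat.ble 16 c)
noncomputable def col4_s_14_17 (c : Nat) : Nat := @Bool.rec (fun _ => Nat) (col4_14) (col4_s_15_17 c) (Nat.ble 15 c)
noncomputable def col4_s_12_17 (c : Nat) : Nat := @Bool.rec (fun _ => Nat) (col4_s_12_14 c) (col4_s_14_17 c) (Nat.ble 14 c)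
noncomputable def col4_s_8_17 (c : Nat) : Nat := @Bool.rec (fun _ => Nat) (col4_s_8_12 c) (col4_s_12_17 c) (Nat.ble 12 c)
noncomputable def col4_s_0_17 (c : Nat) : Nat := @Bool.rec (fun _ => Nat) (col4_s_0_8 c) (col4_s_8_17 c) (Nat.ble 8 c)
noncomputable def col4 (i : Nat) : Nat := rdw 17 131071 (col4_s_0_17 (Nat.shiftRight i 12)) (Nat.land i 4095)
noncomputable def col5_s_0_2 (c : Nat) : Nat := @Bool.rec (fun _ => Nat) (col5_0) (col5_1) (Nat.ble 1 c)
noncomputable def col5_s_2_4 (c : Nat) : Nat := @Bool.rec (fun _ => Nat) (col5_2) (col5_3) (Nat.ble 3 c)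
noncomputable def col5_s_0_4 (c : Nat) : Nat := @Bool.rec (fun _ => Nat) (col5_s_0_2 c) (col5_s_2_4 c) (Nat.ble 2 c)
noncomputable def col5_s_4_6 (c : Nat) : Nat := @Bool.rec (fun _ => Nat) (col5_4) (col5_5) (Nat.ble 5 c)
noncomputable def col5_s_6_8 (c : Nat) : Nat := @Bool.rec (fun _ => Nat) (col5_6) (col5_7) (Nat.ble 7 c)
noncomputable def col5_s_4_8 (c : Nat) : Nat := @Bool.rec (fun _ => Nat) (col5_s_4_6 c) (col5_s_6_8 c) (Nat.ble 6 c)
noncomputable def col5_s_0_8 (c : Nat) : Nat := @Bool.rec (fun _ => Nat) (col5_s_0_4 c) (col5_s_4_8 c) (Nat.ble 4 c)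
noncomputable def col5_s_8_10 (c : Nat) : Nat := @Bool.rec (fun _ => Nat) (col5_8) (col5_9) (Nat.ble 9 c)
noncomputable def col5_s_10_12 (c : Nat) : Nat := @Bool.rec (fun _ => Nat) (col5_10) (col5_11) (Nat.ble 11 c)
noncomputable def col5_s_8_12 (c : Nat) : Nat := @Bool.rec (fun _ => Nat) (col5_s_8_10 c) (col5_s_10_12 c) (Nat.ble 10 c)
noncomputable def col5_s_12_14 (c : Nat) : Nat := @Bool.rec (fun _ => Nat) (col5_12) (col5_13) (Nat.ble 13 c)
noncomputable def col5_s_15_17 (c : Nat) : Nat := @Bool.rec (fun _ => Nat) (col5_15) (col5_16) (Nat.ble 16 c)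
noncomputable def col5_s_14_17 (c : Nat) : Nat := @Bool.rec (fun _ => Nat) (col5_14) (col5_s_15_17 c) (Nat.ble 15 c)
noncomputable def col5_s_12_17 (c : Nat) : Nat := @Bool.rec (fun _ => Nat) (col5_s_12_14 c) (col5_s_14_17 c) (Nat.ble 14 c)
noncomputable def col5_s_8_17 (c : Nat) : Nat := @Bool.rec (fun _ => Nat) (col5_s_8_12 c) (col5_s_12_17 c) (Nat.ble 12 c)
noncomputable def col5_s_0_17 (c : Nat) : Nat := @Bool.rec (fun _ => Nat) (col5_s_0_8 c) (col5_s_8_17 c) (Nat.ble 8 c)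
noncomputable def col5 (i : Nat) : Nat := rdw 17 131071 (col5_s_0_17 (Nat.shiftRight i 12)) (Nat.land i 4095)
noncomputable def col6_s_0_2 (c : Nat) : Nat := @Bool.rec (fun _ => Nat) (col6_0) (col6_1) (Nat.ble 1 c)
noncomputable def col6_s_2_4 (c : Nat) : Nat := @Bool.rec (fun _ => Nat) (col6_2) (col6_3) (Nat.ble 3 c)
noncomputable def col6_s_0_4 (c : Nat) : Nat := @Bool.rec (fun _ => Nat) (col6_s_0_2 c) (col6_s_2_4 c) (Nat.ble 2 c)
noncomputable def col6_s_4_6 (c : Nat) : Nat := @Bool.rec (fun _ => Nat) (col6_4) (col6_5) (Nat.ble 5 c)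
noncomputable def col6_s_6_8 (c : Nat) : Nat := @Bool.rec (fun _ => Nat) (col6_6) (col6_7) (Nat.ble 7 c)
noncomputable def col6_s_4_8 (c : Nat) : Nat := @Bool.rec (fun _ => Nat) (col6_s_4_6 c) (col6_s_6_8 c) (Nat.ble 6 c)
noncomputable def col6_s_0_8 (c : Nat) : Nat := @Bool.rec (fun _ => Nat) (col6_s_0_4 c) (col6_s_4_8 c) (Nat.ble 4 c)
noncomputable def col6_s_8_10 (c : Nat) : Nat := @Bool.rec (fun _ => Nat) (col6_8) (col6_9) (Nat.ble 9 c)
noncomputable def col6_s_10_12 (c : Nat) : Nat := @Bool.rec (fun _ => Nat) (col6_10) (col6_11) (Nat.ble 11 c)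
noncomputable def col6_s_8_12 (c : Nat) : Nat := @Bool.rec (fun _ => Nat) (col6_s_8_10 c) (col6_s_10_12 c) (Nat.ble 10 c)
noncomputable def col6_s_12_14 (c : Nat) : Nat := @Bool.rec (fun _ => Nat) (col6_12) (col6_13) (Nat.ble 13 c)
noncomputable def col6_s_15_17 (c : Nat) : Nat := @Bool.rec (fun _ => Nat) (col6_15) (col6_16) (Nat.ble 16 c)
noncomputable def col6_s_14_17 (c : Nat) : Nat := @Bool.rec (fun _ => Nat) (col6_14) (col6_s_15_17 c) (Nat.ble 15 c)
noncomputable def col6_s_12_17 (c : Nat) : Nat := @Bool.rec (fun _ => Nat) (col6_s_12_14 c) (col6_s_14_17 c) (Nat.ble 14 c)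
noncomputable def col6_s_8_17 (c : Nat) : Nat := @Bool.rec (fun _ => Nat) (col6_s_8_12 c) (col6_s_12_17 c) (Nat.ble 12 c)
noncomputable def col6_s_0_17 (c : Nat) : Nat := @Bool.rec (fun _ => Nat) (col6_s_0_8 c) (col6_s_8_17 c) (Nat.ble 8 c)
noncomputable def col6 (i : Nat) : Nat := rdw 17 131071 (col6_s_0_17 (Nat.shiftRight i 12)) (Nat.land i 4095)
noncomputable def col7_s_0_2 (c : Nat) : Nat := @Bool.rec (fun _ => Nat) (col7_0) (col7_1) (Nat.ble 1 c)
noncomputable def col7_s_2_4 (c : Nat) : Nat := @Bool.rec (fun _ => Nat) (col7_2) (col7_3) (Nat.ble 3 c)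
noncomputable def col7_s_0_4 (c : Nat) : Nat := @Bool.rec (fun _ => Nat) (col7_s_0_2 c) (col7_s_2_4 c) (Nat.ble 2 c)
noncomputable def col7_s_4_6 (c : Nat) : Nat := @Bool.rec (fun _ => Nat) (col7_4) (col7_5) (Nat.ble 5 c)
noncomputable def col7_s_6_8 (c : Nat) : Nat := @Bool.rec (fun _ => Nat) (col7_6) (col7_7) (Nat.ble 7 c)
noncomputable def col7_s_4_8 (c : Nat) : Nat := @Bool.rec (fun _ => Nat) (col7_s_4_6 c) (col7_s_6_8 c) (Nat.ble 6 c)
noncomputable def col7_s_0_8 (c : Nat) : Nat := @Bool.rec (fun _ => Nat) (col7_s_0_4 c) (col7_s_4_8 c) (Nat.ble 4 c)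
noncomputable def col7_s_8_10 (c : Nat) : Nat := @Bool.rec (fun _ => Nat) (col7_8) (col7_9) (Nat.ble 9 c)
noncomputable def col7_s_10_12 (c : Nat) : Nat := @Bool.rec (fun _ => Nat) (col7_10) (col7_11) (Nat.ble 11 c)
noncomputable def col7_s_8_12 (c : Nat) : Nat := @Bool.rec (fun _ => Nat) (col7_s_8_10 c) (col7_s_10_12 c) (Nat.ble 10 c)
noncomputable def col7_s_12_14 (c : Nat) : Nat := @Bool.rec (fun _ => Nat) (col7_12) (col7_13) (Nat.ble 13 c)
noncomputable def col7_s_15_17 (c : Nat) : Nat := @Bool.rec (fun _ => Nat) (col7_15) (col7_16) (Nat.ble 16 c)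
noncomputable def col7_s_14_17 (c : Nat) : Nat := @Bool.rec (fun _ => Nat) (col7_14) (col7_s_15_17 c) (Nat.ble 15 c)
noncomputable def col7_s_12_17 (c : Nat) : Nat := @Bool.rec (fun _ => Nat) (col7_s_12_14 c) (col7_s_14_17 c) (Nat.ble 14 c)
noncomputable def col7_s_8_17 (c : Nat) : Nat := @Bool.rec (fun _ => Nat) (col7_s_8_12 c) (col7_s_12_17 c) (Nat.ble 12 c)
noncomputable def col7_s_0_17 (c : Nat) : Nat := @Bool.rec (fun _ => Nat) (col7_s_0_8 c) (col7_s_8_17 c) (Nat.ble 8 c)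
noncomputable def col7 (i : Nat) : Nat := rdw 17 131071 (col7_s_0_17 (Nat.shiftRight i 12)) (Nat.land i 4095)
noncomputable def col8_s_0_2 (c : Nat) : Nat := @Bool.rec (fun _ => Nat) (col8_0) (col8_1) (Nat.ble 1 c)
noncomputable def col8_s_2_4 (c : Nat) : Nat := @Bool.rec (fun _ => Nat) (col8_2) (col8_3) (Nat.ble 3 c)
noncomputable def col8_s_0_4 (c : Nat) : Nat := @Bool.rec (fun _ => Nat) (col8_s_0_2 c) (col8_s_2_4 c) (Nat.ble 2 c)
noncomputable def col8_s_4_6 (c : Nat) : Nat := @Bool.rec (fun _ => Nat) (col8_4) (col8_5) (Nat.ble 5 c)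
noncomputable def col8_s_6_8 (c : Nat) : Nat := @Bool.rec (fun _ => Nat) (col8_6) (col8_7) (Nat.ble 7 c)
noncomputable def col8_s_4_8 (c : Nat) : Nat := @Bool.rec (fun _ => Nat) (col8_s_4_6 c) (col8_s_6_8 c) (Nat.ble 6 c)
noncomputable def col8_s_0_8 (c : Nat) : Nat := @Bool.rec (fun _ => Nat) (col8_s_0_4 c) (col8_s_4_8 c) (Nat.ble 4 c)
noncomputable def col8_s_8_10 (c : Nat) : Nat := @Bool.rec (fun _ => Nat) (col8_8) (col8_9) (Nat.ble 9 c)
noncomputable def col8_s_10_12 (c : Nat) : Nat := @Bool.rec (fun _ => Nat) (col8_10) (col8_11) (Nat.ble 11 c)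
noncomputable def col8_s_8_12 (c : Nat) : Nat := @Bool.rec (fun _ => Nat) (col8_s_8_10 c) (col8_s_10_12 c) (Nat.ble 10 c)
noncomputable def col8_s_12_14 (c : Nat) : Nat := @Bool.rec (fun _ => Nat) (col8_12) (col8_13) (Nat.ble 13 c)
noncomputable def col8_s_15_17 (c : Nat) : Nat := @Bool.rec (fun _ => Nat) (col8_15) (col8_16) (Nat.ble 16 c)
noncomputable def col8_s_14_17 (c : Nat) : Nat := @Bool.rec (fun _ => Nat) (col8_14) (col8_s_15_17 c) (Nat.ble 15 c)
noncomputable def col8_s_12_17 (c : Nat) : Nat := @Bool.rec (fun _ => Nat) (col8_s_12_14 c) (col8_s_14_17 c) (Nat.ble 14 c)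
noncomputable def col8_s_8_17 (c : Nat) : Nat := @Bool.rec (fun _ => Nat) (col8_s_8_12 c) (col8_s_12_17 c) (Nat.ble 12 c)
noncomputable def col8_s_0_17 (c : Nat) : Nat := @Bool.rec (fun _ => Nat) (col8_s_0_8 c) (col8_s_8_17 c) (Nat.ble 8 c)
noncomputable def col8 (i : Nat) : Nat := rdw 17 131071 (col8_s_0_17 (Nat.shiftRight i 12)) (Nat.land i 4095)
noncomputable def col9_s_0_2 (c : Nat) : Nat := @Bool.rec (fun _ => Nat) (col9_0) (col9_1) (Nat.ble 1 c)
noncomputable def col9_s_2_4 (c : Nat) : Nat := @Bool.rec (fun _ => Nat) (col9_2) (col9_3) (Nat.ble 3 c)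
noncomputable def col9_s_0_4 (c : Nat) : Nat := @Bool.rec (fun _ => Nat) (col9_s_0_2 c) (col9_s_2_4 c) (Nat.ble 2 c)
noncomputable def col9_s_4_6 (c : Nat) : Nat := @Bool.rec (fun _ => Nat) (col9_4) (col9_5) (Nat.ble 5 c)
noncomputable def col9_s_6_8 (c : Nat) : Nat := @Bool.rec (fun _ => Nat) (col9_6) (col9_7) (Nat.ble 7 c)
noncomputable def col9_s_4_8 (c : Nat) : Nat := @Bool.rec (fun _ => Nat) (col9_s_4_6 c) (col9_s_6_8 c) (Nat.ble 6 c)
noncomputable def col9_s_0_8 (c : Nat) : Nat := @Bool.rec (fun _ => Nat) (col9_s_0_4 c) (col9_s_4_8 c) (Nat.ble 4 c)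
noncomputable def col9_s_8_10 (c : Nat) : Nat := @Bool.rec (fun _ => Nat) (col9_8) (col9_9) (Nat.ble 9 c)
noncomputable def col9_s_10_12 (c : Nat) : Nat := @Bool.rec (fun _ => Nat) (col9_10) (col9_11) (Nat.ble 11 c)
noncomputable def col9_s_8_12 (c : Nat) : Nat := @Bool.rec (fun _ => Nat) (col9_s_8_10 c) (col9_s_10_12 c) (Nat.ble 10 c)
noncomputable def col9_s_12_14 (c : Nat) : Nat := @Bool.rec (fun _ => Nat) (col9_12) (col9_13) (Nat.ble 13 c)
noncomputable def col9_s_15_17 (c : Nat) : Nat := @Bool.rec (fun _ => Nat) (col9_15) (col9_16) (Nat.ble 16 c)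
noncomputable def col9_s_14_17 (c : Nat) : Nat := @Bool.rec (fun _ => Nat) (col9_14) (col9_s_15_17 c) (Nat.ble 15 c)
noncomputable def col9_s_12_17 (c : Nat) : Nat := @Bool.rec (fun _ => Nat) (col9_s_12_14 c) (col9_s_14_17 c) (Nat.ble 14 c)
noncomputable def col9_s_8_17 (c : Nat) : Nat := @Bool.rec (fun _ => Nat) (col9_s_8_12 c) (col9_s_12_17 c) (Nat.ble 12 c)
noncomputable def col9_s_0_17 (c : Nat) : Nat := @Bool.rec (fun _ => Nat) (col9_s_0_8 c) (col9_s_8_17 c) (Nat.ble 8 c)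
noncomputable def col9 (i : Nat) : Nat := rdw 17 131071 (col9_s_0_17 (Nat.shiftRight i 12)) (Nat.land i 4095)
noncomputable def col10_s_0_2 (c : Nat) : Nat := @Bool.rec (fun _ => Nat) (col10_0) (col10_1) (Nat.ble 1 c)
noncomputable def col10_s_2_4 (c : Nat) : Nat := @Bool.rec (fun _ => Nat) (col10_2) (col10_3) (Nat.ble 3 c)
noncomputable def col10_s_0_4 (c : Nat) : Nat := @Bool.rec (fun _ => Nat) (col10_s_0_2 c) (col10_s_2_4 c) (Nat.ble 2 c)
noncomputable def col10_s_4_6 (c : Nat) : Nat := @Bool.rec (fun _ => Nat) (col10_4) (col10_5) (Nat.ble 5 c)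
noncomputable def col10_s_6_8 (c : Nat) : Nat := @Bool.rec (fun _ => Nat) (col10_6) (col10_7) (Nat.ble 7 c)
noncomputable def col10_s_4_8 (c : Nat) : Nat := @Bool.rec (fun _ => Nat) (col10_s_4_6 c) (col10_s_6_8 c) (Nat.ble 6 c)
noncomputable def col10_s_0_8 (c : Nat) : Nat := @Bool.rec (fun _ => Nat) (col10_s_0_4 c) (col10_s_4_8 c) (Nat.ble 4 c)
noncomputable def col10_s_8_10 (c : Nat) : Nat := @Bool.rec (fun _ => Nat) (col10_8) (col10_9) (Nat.ble 9 c)
noncomputable def col10_s_10_12 (c : Nat) : Nat := @Bool.rec (fun _ => Nat) (col10_10) (col10_11) (Nat.ble 11 c)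
noncomputable def col10_s_8_12 (c : Nat) : Nat := @Bool.rec (fun _ => Nat) (col10_s_8_10 c) (col10_s_10_12 c) (Nat.ble 10 c)
noncomputable def col10_s_12_14 (c : Nat) : Nat := @Bool.rec (fun _ => Nat) (col10_12) (col10_13) (Nat.ble 13 c)
noncomputable def col10_s_15_17 (c : Nat) : Nat := @Bool.rec (fun _ => Nat) (col10_15) (col10_16) (Nat.ble 16 c)
noncomputable def col10_s_14_17 (c : Nat) : Nat := @Bool.rec (fun _ => Nat) (col10_14) (col10_s_15_17 c) (Nat.ble 15 c)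
noncomputable def col10_s_12_17 (c : Nat) : Nat := @Bool.rec (fun _ => Nat) (col10_s_12_14 c) (col10_s_14_17 c) (Nat.ble 14 c)
noncomputable def col10_s_8_17 (c : Nat) : Nat := @Bool.rec (fun _ => Nat) (col10_s_8_12 c) (col10_s_12_17 c) (Nat.ble 12 c)
noncomputable def col10_s_0_17 (c : Nat) : Nat := @Bool.rec (fun _ => Nat) (col10_s_0_8 c) (col10_s_8_17 c) (Nat.ble 8 c)
noncomputable def col10 (i : Nat) : Nat := rdw 17 131071 (col10_s_0_17 (Nat.shiftRight i 12)) (Nat.land i 4095)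
noncomputable def col11_s_0_2 (c : Nat) : Nat := @Bool.rec (fun _ => Nat) (col11_0) (col11_1) (Nat.ble 1 c)
noncomputable def col11_s_2_4 (c : Nat) : Nat := @Bool.rec (fun _ => Nat) (col11_2) (col11_3) (Nat.ble 3 c)
noncomputable def col11_s_0_4 (c : Nat) : Nat := @Bool.rec (fun _ => Nat) (col11_s_0_2 c) (col11_s_2_4 c) (Nat.ble 2 c)
noncomputable def col11_s_4_6 (c : Nat) : Nat := @Bool.rec (fun _ => Nat) (col11_4) (col11_5) (Nat.ble 5 c)
noncomputable def col11_s_6_8 (c : Nat) : Nat := @Bool.rec (fun _ => Nat) (col11_6) (col11_7) (Nat.ble 7 c)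
noncomputable def col11_s_4_8 (c : Nat) : Nat := @Bool.rec (fun _ => Nat) (col11_s_4_6 c) (col11_s_6_8 c) (Nat.ble 6 c)
noncomputable def col11_s_0_8 (c : Nat) : Nat := @Bool.rec (fun _ => Nat) (col11_s_0_4 c) (col11_s_4_8 c) (Nat.ble 4 c)
noncomputable def col11_s_8_10 (c : Nat) : Nat := @Bool.rec (fun _ => Nat) (col11_8) (col11_9) (Nat.ble 9 c)
noncomputable def col11_s_10_12 (c : Nat) : Nat := @Bool.rec (fun _ => Nat) (col11_10) (col11_11) (Nat.ble 11 c)
noncomputable def col11_s_8_12 (c : Nat) : Nat := @Bool.rec (fun _ => Nat) (col11_s_8_10 c) (col11_s_10_12 c) (Nat.ble 10 c)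
noncomputable def col11_s_12_14 (c : Nat) : Nat := @Bool.rec (fun _ => Nat) (col11_12) (col11_13) (Nat.ble 13 c)
noncomputable def col11_s_15_17 (c : Nat) : Nat := @Bool.rec (fun _ => Nat) (col11_15) (col11_16) (Nat.ble 16 c)
noncomputable def col11_s_14_17 (c : Nat) : Nat := @Bool.rec (fun _ => Nat) (col11_14) (col11_s_15_17 c) (Nat.ble 15 c)
noncomputable def col11_s_12_17 (c : Nat) : Nat := @Bool.rec (fun _ => Nat) (col11_s_12_14 c) (col11_s_14_17 c) (Nat.ble 14 c)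
noncomputable def col11_s_8_17 (c : Nat) : Nat := @Bool.rec (fun _ => Nat) (col11_s_8_12 c) (col11_s_12_17 c) (Nat.ble 12 c)
noncomputable def col11_s_0_17 (c : Nat) : Nat := @Bool.rec (fun _ => Nat) (col11_s_0_8 c) (col11_s_8_17 c) (Nat.ble 8 c)
noncomputable def col11 (i : Nat) : Nat := rdw 17 131071 (col11_s_0_17 (Nat.shiftRight i 12)) (Nat.land i 4095)
noncomputable def col12_s_0_2 (c : Nat) : Nat := @Bool.rec (fun _ => Nat) (col12_0) (col12_1) (Nat.ble 1 c)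
noncomputable def col12_s_2_4 (c : Nat) : Nat := @Bool.rec (fun _ => Nat) (col12_2) (col12_3) (Nat.ble 3 c)
noncomputable def col12_s_0_4 (c : Nat) : Nat := @Bool.rec (fun _ => Nat) (col12_s_0_2 c) (col12_s_2_4 c) (Nat.ble 2 c)
noncomputable def col12_s_4_6 (c : Nat) : Nat := @Bool.rec (fun _ => Nat) (col12_4) (col12_5) (Nat.ble 5 c)
noncomputable def col12_s_6_8 (c : Nat) : Nat := @Bool.rec (fun _ => Nat) (col12_6) (col12_7) (Nat.ble 7 c)
noncomputable def col12_s_4_8 (c : Nat) : Nat := @Bool.rec (fun _ => Nat) (col12_s_4_6 c) (col12_s_6_8 c) (Nat.ble 6 c)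
noncomputable def col12_s_0_8 (c : Nat) : Nat := @Bool.rec (fun _ => Nat) (col12_s_0_4 c) (col12_s_4_8 c) (Nat.ble 4 c)
noncomputable def col12_s_8_10 (c : Nat) : Nat := @Bool.rec (fun _ => Nat) (col12_8) (col12_9) (Nat.ble 9 c)
noncomputable def col12_s_10_12 (c : Nat) : Nat := @Bool.rec (fun _ => Nat) (col12_10) (col12_11) (Nat.ble 11 c)
noncomputable def col12_s_8_12 (c : Nat) : Nat := @Bool.rec (fun _ => Nat) (col12_s_8_10 c) (col12_s_10_12 c) (Nat.ble 10 c)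
noncomputable def col12_s_12_14 (c : Nat) : Nat := @Bool.rec (fun _ => Nat) (col12_12) (col12_13) (Nat.ble 13 c)
noncomputable def col12_s_15_17 (c : Nat) : Nat := @Bool.rec (fun _ => Nat) (col12_15) (col12_16) (Nat.ble 16 c)
noncomputable def col12_s_14_17 (c : Nat) : Nat := @Bool.rec (fun _ => Nat) (col12_14) (col12_s_15_17 c) (Nat.ble 15 c)
noncomputable def col12_s_12_17 (c : Nat) : Nat := @Bool.rec (fun _ => Nat) (col12_s_12_14 c) (col12_s_14_17 c) (Nat.ble 14 c)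
noncomputable def col12_s_8_17 (c : Nat) : Nat := @Bool.rec (fun _ => Nat) (col12_s_8_12 c) (col12_s_12_17 c) (Nat.ble 12 c)
noncomputable def col12_s_0_17 (c : Nat) : Nat := @Bool.rec (fun _ => Nat) (col12_s_0_8 c) (col12_s_8_17 c) (Nat.ble 8 c)
noncomputable def col12 (i : Nat) : Nat := rdw 17 131071 (col12_s_0_17 (Nat.shiftRight i 12)) (Nat.land i 4095)
noncomputable def col13_s_0_2 (c : Nat) : Nat := @Bool.rec (fun _ => Nat) (col13_0) (col13_1) (Nat.ble 1 c)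
noncomputable def col13_s_2_4 (c : Nat) : Nat := @Bool.rec (fun _ => Nat) (col13_2) (col13_3) (Nat.ble 3 c)
noncomputable def col13_s_0_4 (c : Nat) : Nat := @Bool.rec (fun _ => Nat) (col13_s_0_2 c) (col13_s_2_4 c) (Nat.ble 2 c)
noncomputable def col13_s_4_6 (c : Nat) : Nat := @Bool.rec (fun _ => Nat) (col13_4) (col13_5) (Nat.ble 5 c)
noncomputable def col13_s_6_8 (c : Nat) : Nat := @Bool.rec (fun _ => Nat) (col13_6) (col13_7) (Nat.ble 7 c)
noncomputable def col13_s_4_8 (c : Nat) : Nat := @Bool.rec (fun _ => Nat) (col13_s_4_6 c) (col13_s_6_8 c) (Nat.ble 6 c)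
noncomputable def col13_s_0_8 (c : Nat) : Nat := @Bool.rec (fun _ => Nat) (col13_s_0_4 c) (col13_s_4_8 c) (Nat.ble 4 c)
noncomputable def col13_s_8_10 (c : Nat) : Nat := @Bool.rec (fun _ => Nat) (col13_8) (col13_9) (Nat.ble 9 c)
noncomputable def col13_s_10_12 (c : Nat) : Nat := @Bool.rec (fun _ => Nat) (col13_10) (col13_11) (Nat.ble 11 c)
noncomputable def col13_s_8_12 (c : Nat) : Nat := @Bool.rec (fun _ => Nat) (col13_s_8_10 c) (col13_s_10_12 c) (Nat.ble 10 c)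
noncomputable def col13_s_12_14 (c : Nat) : Nat := @Bool.rec (fun _ => Nat) (col13_12) (col13_13) (Nat.ble 13 c)
noncomputable def col13_s_15_17 (c : Nat) : Nat := @Bool.rec (fun _ => Nat) (col13_15) (col13_16) (Nat.ble 16 c)
noncomputable def col13_s_14_17 (c : Nat) : Nat := @Bool.rec (fun _ => Nat) (col13_14) (col13_s_15_17 c) (Nat.ble 15 c)
noncomputable def col13_s_12_17 (c : Nat) : Nat := @Bool.rec (fun _ => Nat) (col13_s_12_14 c) (col13_s_14_17 c) (Nat.ble 14 c)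
noncomputable def col13_s_8_17 (c : Nat) : Nat := @Bool.rec (fun _ => Nat) (col13_s_8_12 c) (col13_s_12_17 c) (Nat.ble 12 c)
noncomputable def col13_s_0_17 (c : Nat) : Nat := @Bool.rec (fun _ => Nat) (col13_s_0_8 c) (col13_s_8_17 c) (Nat.ble 8 c)
noncomputable def col13 (i : Nat) : Nat := rdw 17 131071 (col13_s_0_17 (Nat.shiftRight i 12)) (Nat.land i 4095)
noncomputable def col14_s_0_2 (c : Nat) : Nat := @Bool.rec (fun _ => Nat) (col14_0) (col14_1) (Nat.ble 1 c)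
noncomputable def col14_s_2_4 (c : Nat) : Nat := @Bool.rec (fun _ => Nat) (col14_2) (col14_3) (Nat.ble 3 c)
noncomputable def col14_s_0_4 (c : Nat) : Nat := @Bool.rec (fun _ => Nat) (col14_s_0_2 c) (col14_s_2_4 c) (Nat.ble 2 c)
noncomputable def col14_s_4_6 (c : Nat) : Nat := @Bool.rec (fun _ => Nat) (col14_4) (col14_5) (Nat.ble 5 c)
noncomputable def col14_s_6_8 (c : Nat) : Nat := @Bool.rec (fun _ => Nat) (col14_6) (col14_7) (Nat.ble 7 c)
noncomputable def col14_s_4_8 (c : Nat) : Nat := @Bool.rec (fun _ => Nat) (col14_s_4_6 c) (col14_s_6_8 c) (Nat.ble 6 c)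
noncomputable def col14_s_0_8 (c : Nat) : Nat := @Bool.rec (fun _ => Nat) (col14_s_0_4 c) (col14_s_4_8 c) (Nat.ble 4 c)
noncomputable def col14_s_8_10 (c : Nat) : Nat := @Bool.rec (fun _ => Nat) (col14_8) (col14_9) (Nat.ble 9 c)
noncomputable def col14_s_10_12 (c : Nat) : Nat := @Bool.rec (fun _ => Nat) (col14_10) (col14_11) (Nat.ble 11 c)
noncomputable def col14_s_8_12 (c : Nat) : Nat := @Bool.rec (fun _ => Nat) (col14_s_8_10 c) (col14_s_10_12 c) (Nat.ble 10 c)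
noncomputable def col14_s_12_14 (c : Nat) : Nat := @Bool.rec (fun _ => Nat) (col14_12) (col14_13) (Nat.ble 13 c)
noncomputable def col14_s_15_17 (c : Nat) : Nat := @Bool.rec (fun _ => Nat) (col14_15) (col14_16) (Nat.ble 16 c)
noncomputable def col14_s_14_17 (c : Nat) : Nat := @Bool.rec (fun _ => Nat) (col14_14) (col14_s_15_17 c) (Nat.ble 15 c)
noncomputable def col14_s_12_17 (c : Nat) : Nat := @Bool.rec (fun _ => Nat) (col14_s_12_14 c) (col14_s_14_17 c) (Nat.ble 14 c)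
noncomputable def col14_s_8_17 (c : Nat) : Nat := @Bool.rec (fun _ => Nat) (col14_s_8_12 c) (col14_s_12_17 c) (Nat.ble 12 c)
noncomputable def col14_s_0_17 (c : Nat) : Nat := @Bool.rec (fun _ => Nat) (col14_s_0_8 c) (col14_s_8_17 c) (Nat.ble 8 c)
noncomputable def col14 (i : Nat) : Nat := rdw 17 131071 (col14_s_0_17 (Nat.shiftRight i 12)) (Nat.land i 4095)
noncomputable def col15_s_0_2 (c : Nat) : Nat := @Bool.rec (fun _ => Nat) (col15_0) (col15_1) (Nat.ble 1 c)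
noncomputable def col15_s_2_4 (c : Nat) : Nat := @Bool.rec (fun _ => Nat) (col15_2) (col15_3) (Nat.ble 3 c)
noncomputable def col15_s_0_4 (c : Nat) : Nat := @Bool.rec (fun _ => Nat) (col15_s_0_2 c) (col15_s_2_4 c) (Nat.ble 2 c)
noncomputable def col15_s_4_6 (c : Nat) : Nat := @Bool.rec (fun _ => Nat) (col15_4) (col15_5) (Nat.ble 5 c)
noncomputable def col15_s_6_8 (c : Nat) : Nat := @Bool.rec (fun _ => Nat) (col15_6) (col15_7) (Nat.ble 7 c)
noncomputable def col15_s_4_8 (c : Nat) : Nat := @Bool.rec (fun _ => Nat) (col15_s_4_6 c) (col15_s_6_8 c) (Nat.ble 6 c)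
noncomputable def col15_s_0_8 (c : Nat) : Nat := @Bool.rec (fun _ => Nat) (col15_s_0_4 c) (col15_s_4_8 c) (Nat.ble 4 c)
noncomputable def col15_s_8_10 (c : Nat) : Nat := @Bool.rec (fun _ => Nat) (col15_8) (col15_9) (Nat.ble 9 c)
noncomputable def col15_s_10_12 (c : Nat) : Nat := @Bool.rec (fun _ => Nat) (col15_10) (col15_11) (Nat.ble 11 c)
noncomputable def col15_s_8_12 (c : Nat) : Nat := @Bool.rec (fun _ => Nat) (col15_s_8_10 c) (col15_s_10_12 c) (Nat.ble 10 c)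
noncomputable def col15_s_12_14 (c : Nat) : Nat := @Bool.rec (fun _ => Nat) (col15_12) (col15_13) (Nat.ble 13 c)
noncomputable def col15_s_15_17 (c : Nat) : Nat := @Bool.rec (fun _ => Nat) (col15_15) (col15_16) (Nat.ble 16 c)
noncomputable def col15_s_14_17 (c : Nat) : Nat := @Bool.rec (fun _ => Nat) (col15_14) (col15_s_15_17 c) (Nat.ble 15 c)
noncomputable def col15_s_12_17 (c : Nat) : Nat := @Bool.rec (fun _ => Nat) (col15_s_12_14 c) (col15_s_14_17 c) (Nat.ble 14 c)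
noncomputable def col15_s_8_17 (c : Nat) : Nat := @Bool.rec (fun _ => Nat) (col15_s_8_12 c) (col15_s_12_17 c) (Nat.ble 12 c)
noncomputable def col15_s_0_17 (c : Nat) : Nat := @Bool.rec (fun _ => Nat) (col15_s_0_8 c) (col15_s_8_17 c) (Nat.ble 8 c)
noncomputable def col15 (i : Nat) : Nat := rdw 17 131071 (col15_s_0_17 (Nat.shiftRight i 12)) (Nat.land i 4095)
noncomputable def col16_s_0_2 (c : Nat) : Nat := @Bool.rec (fun _ => Nat) (col16_0) (col16_1) (Nat.ble 1 c)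
noncomputable def col16_s_2_4 (c : Nat) : Nat := @Bool.rec (fun _ => Nat) (col16_2) (col16_3) (Nat.ble 3 c)
noncomputable def col16_s_0_4 (c : Nat) : Nat := @Bool.rec (fun _ => Nat) (col16_s_0_2 c) (col16_s_2_4 c) (Nat.ble 2 c)
noncomputable def col16_s_4_6 (c : Nat) : Nat := @Bool.rec (fun _ => Nat) (col16_4) (col16_5) (Nat.ble 5 c)
noncomputable def col16_s_6_8 (c : Nat) : Nat := @Bool.rec (fun _ => Nat) (col16_6) (col16_7) (Nat.ble 7 c)
noncomputable def col16_s_4_8 (c : Nat) : Nat := @Bool.rec (fun _ => Nat) (col16_s_4_6 c) (col16_s_6_8 c) (Nat.ble 6 c)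
noncomputable def col16_s_0_8 (c : Nat) : Nat := @Bool.rec (fun _ => Nat) (col16_s_0_4 c) (col16_s_4_8 c) (Nat.ble 4 c)
noncomputable def col16_s_8_10 (c : Nat) : Nat := @Bool.rec (fun _ => Nat) (col16_8) (col16_9) (Nat.ble 9 c)
noncomputable def col16_s_10_12 (c : Nat) : Nat := @Bool.rec (fun _ => Nat) (col16_10) (col16_11) (Nat.ble 11 c)
noncomputable def col16_s_8_12 (c : Nat) : Nat := @Bool.rec (fun _ => Nat) (col16_s_8_10 c) (col16_s_10_12 c) (Nat.ble 10 c)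
noncomputable def col16_s_12_14 (c : Nat) : Nat := @Bool.rec (fun _ => Nat) (col16_12) (col16_13) (Nat.ble 13 c)
noncomputable def col16_s_15_17 (c : Nat) : Nat := @Bool.rec (fun _ => Nat) (col16_15) (col16_16) (Nat.ble 16 c)
noncomputable def col16_s_14_17 (c : Nat) : Nat := @Bool.rec (fun _ => Nat) (col16_14) (col16_s_15_17 c) (Nat.ble 15 c)
noncomputable def col16_s_12_17 (c : Nat) : Nat := @Bool.rec (fun _ => Nat) (col16_s_12_14 c) (col16_s_14_17 c) (Nat.ble 14 c)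
noncomputable def col16_s_8_17 (c : Nat) : Nat := @Bool.rec (fun _ => Nat) (col16_s_8_12 c) (col16_s_12_17 c) (Nat.ble 12 c)
noncomputable def col16_s_0_17 (c : Nat) : Nat := @Bool.rec (fun _ => Nat) (col16_s_0_8 c) (col16_s_8_17 c) (Nat.ble 8 c)
noncomputable def col16 (i : Nat) : Nat := rdw 17 131071 (col16_s_0_17 (Nat.shiftRight i 12)) (Nat.land i 4095)
noncomputable def col17_s_0_2 (c : Nat) : Nat := @Bool.rec (fun _ => Nat) (col17_0) (col17_1) (Nat.ble 1 c)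
noncomputable def col17_s_2_4 (c : Nat) : Nat := @Bool.rec (fun _ => Nat) (col17_2) (col17_3) (Nat.ble 3 c)
noncomputable def col17_s_0_4 (c : Nat) : Nat := @Bool.rec (fun _ => Nat) (col17_s_0_2 c) (col17_s_2_4 c) (Nat.ble 2 c)
noncomputable def col17_s_4_6 (c : Nat) : Nat := @Bool.rec (fun _ => Nat) (col17_4) (col17_5) (Nat.ble 5 c)
noncomputable def col17_s_6_8 (c : Nat) : Nat := @Bool.rec (fun _ => Nat) (col17_6) (col17_7) (Nat.ble 7 c)
noncomputable def col17_s_4_8 (c : Nat) : Nat := @Bool.rec (fun _ => Nat) (col17_s_4_6 c) (col17_s_6_8 c) (Nat.ble 6 c)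
noncomputable def col17_s_0_8 (c : Nat) : Nat := @Bool.rec (fun _ => Nat) (col17_s_0_4 c) (col17_s_4_8 c) (Nat.ble 4 c)
noncomputable def col17_s_8_10 (c : Nat) : Nat := @Bool.rec (fun _ => Nat) (col17_8) (col17_9) (Nat.ble 9 c)
noncomputable def col17_s_10_12 (c : Nat) : Nat := @Bool.rec (fun _ => Nat) (col17_10) (col17_11) (Nat.ble 11 c)
noncomputable def col17_s_8_12 (c : Nat) : Nat := @Bool.rec (fun _ => Nat) (col17_s_8_10 c) (col17_s_10_12 c) (Nat.ble 10 c)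
noncomputable def col17_s_12_14 (c : Nat) : Nat := @Bool.rec (fun _ => Nat) (col17_12) (col17_13) (Nat.ble 13 c)
noncomputable def col17_s_15_17 (c : Nat) : Nat := @Bool.rec (fun _ => Nat) (col17_15) (col17_16) (Nat.ble 16 c)
noncomputable def col17_s_14_17 (c : Nat) : Nat := @Bool.rec (fun _ => Nat) (col17_14) (col17_s_15_17 c) (Nat.ble 15 c)
noncomputable def col17_s_12_17 (c : Nat) : Nat := @Bool.rec (fun _ => Nat) (col17_s_12_14 c) (col17_s_14_17 c) (Nat.ble 14 c)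
noncomputable def col17_s_8_17 (c : Nat) : Nat := @Bool.rec (fun _ => Nat) (col17_s_8_12 c) (col17_s_12_17 c) (Nat.ble 12 c)
noncomputable def col17_s_0_17 (c : Nat) : Nat := @Bool.rec (fun _ => Nat) (col17_s_0_8 c) (col17_s_8_17 c) (Nat.ble 8 c)
noncomputable def col17 (i : Nat) : Nat := rdw 17 131071 (col17_s_0_17 (Nat.shiftRight i 12)) (Nat.land i 4095)
noncomputable def col18_s_0_2 (c : Nat) : Nat := @Bool.rec (fun _ => Nat) (col18_0) (col18_1) (Nat.ble 1 c)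
noncomputable def col18_s_2_4 (c : Nat) : Nat := @Bool.rec (fun _ => Nat) (col18_2) (col18_3) (Nat.ble 3 c)
noncomputable def col18_s_0_4 (c : Nat) : Nat := @Bool.rec (fun _ => Nat) (col18_s_0_2 c) (col18_s_2_4 c) (Nat.ble 2 c)
noncomputable def col18_s_4_6 (c : Nat) : Nat := @Bool.rec (fun _ => Nat) (col18_4) (col18_5) (Nat.ble 5 c)
noncomputable def col18_s_6_8 (c : Nat) : Nat := @Bool.rec (fun _ => Nat) (col18_6) (col18_7) (Nat.ble 7 c)
noncomputable def col18_s_4_8 (c : Nat) : Nat := @Bool.rec (fun _ => Nat) (col18_s_4_6 c) (col18_s_6_8 c) (Nat.ble 6 c)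
noncomputable def col18_s_0_8 (c : Nat) : Nat := @Bool.rec (fun _ => Nat) (col18_s_0_4 c) (col18_s_4_8 c) (Nat.ble 4 c)
noncomputable def col18_s_8_10 (c : Nat) : Nat := @Bool.rec (fun _ => Nat) (col18_8) (col18_9) (Nat.ble 9 c)
noncomputable def col18_s_10_12 (c : Nat) : Nat := @Bool.rec (fun _ => Nat) (col18_10) (col18_11) (Nat.ble 11 c)
noncomputable def col18_s_8_12 (c : Nat) : Nat := @Bool.rec (fun _ => Nat) (col18_s_8_10 c) (col18_s_10_12 c) (Nat.ble 10 c)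
noncomputable def col18_s_12_14 (c : Nat) : Nat := @Bool.rec (fun _ => Nat) (col18_12) (col18_13) (Nat.ble 13 c)
noncomputable def col18_s_15_17 (c : Nat) : Nat := @Bool.rec (fun _ => Nat) (col18_15) (col18_16) (Nat.ble 16 c)
noncomputable def col18_s_14_17 (c : Nat) : Nat := @Bool.rec (fun _ => Nat) (col18_14) (col18_s_15_17 c) (Nat.ble 15 c)
noncomputable def col18_s_12_17 (c : Nat) : Nat := @Bool.rec (fun _ => Nat) (col18_s_12_14 c) (col18_s_14_17 c) (Nat.ble 14 c)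
noncomputable def col18_s_8_17 (c : Nat) : Nat := @Bool.rec (fun _ => Nat) (col18_s_8_12 c) (col18_s_12_17 c) (Nat.ble 12 c)
noncomputable def col18_s_0_17 (c : Nat) : Nat := @Bool.rec (fun _ => Nat) (col18_s_0_8 c) (col18_s_8_17 c) (Nat.ble 8 c)
noncomputable def col18 (i : Nat) : Nat := rdw 17 131071 (col18_s_0_17 (Nat.shiftRight i 12)) (Nat.land i 4095)
noncomputable def col19_s_0_2 (c : Nat) : Nat := @Bool.rec (fun _ => Nat) (col19_0) (col19_1) (Nat.ble 1 c)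
noncomputable def col19_s_2_4 (c : Nat) : Nat := @Bool.rec (fun _ => Nat) (col19_2) (col19_3) (Nat.ble 3 c)
noncomputable def col19_s_0_4 (c : Nat) : Nat := @Bool.rec (fun _ => Nat) (col19_s_0_2 c) (col19_s_2_4 c) (Nat.ble 2 c)
noncomputable def col19_s_4_6 (c : Nat) : Nat := @Bool.rec (fun _ => Nat) (col19_4) (col19_5) (Nat.ble 5 c)
noncomputable def col19_s_6_8 (c : Nat) : Nat := @Bool.rec (fun _ => Nat) (col19_6) (col19_7) (Nat.ble 7 c)
noncomputable def col19_s_4_8 (c : Nat) : Nat := @Bool.rec (fun _ => Nat) (col19_s_4_6 c) (col19_s_6_8 c) (Nat.ble 6 c)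
noncomputable def col19_s_0_8 (c : Nat) : Nat := @Bool.rec (fun _ => Nat) (col19_s_0_4 c) (col19_s_4_8 c) (Nat.ble 4 c)
noncomputable def col19_s_8_10 (c : Nat) : Nat := @Bool.rec (fun _ => Nat) (col19_8) (col19_9) (Nat.ble 9 c)
noncomputable def col19_s_10_12 (c : Nat) : Nat := @Bool.rec (fun _ => Nat) (col19_10) (col19_11) (Nat.ble 11 c)
noncomputable def col19_s_8_12 (c : Nat) : Nat := @Bool.rec (fun _ => Nat) (col19_s_8_10 c) (col19_s_10_12 c) (Nat.ble 10 c)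
noncomputable def col19_s_12_14 (c : Nat) : Nat := @Bool.rec (fun _ => Nat) (col19_12) (col19_13) (Nat.ble 13 c)
noncomputable def col19_s_15_17 (c : Nat) : Nat := @Bool.rec (fun _ => Nat) (col19_15) (col19_16) (Nat.ble 16 c)
noncomputable def col19_s_14_17 (c : Nat) : Nat := @Bool.rec (fun _ => Nat) (col19_14) (col19_s_15_17 c) (Nat.ble 15 c)
noncomputable def col19_s_12_17 (c : Nat) : Nat := @Bool.rec (fun _ => Nat) (col19_s_12_14 c) (col19_s_14_17 c) (Nat.ble 14 c)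
noncomputable def col19_s_8_17 (c : Nat) : Nat := @Bool.rec (fun _ => Nat) (col19_s_8_12 c) (col19_s_12_17 c) (Nat.ble 12 c)
noncomputable def col19_s_0_17 (c : Nat) : Nat := @Bool.rec (fun _ => Nat) (col19_s_0_8 c) (col19_s_8_17 c) (Nat.ble 8 c)
noncomputable def col19 (i : Nat) : Nat := rdw 17 131071 (col19_s_0_17 (Nat.shiftRight i 12)) (Nat.land i 4095)
noncomputable def col20_s_0_2 (c : Nat) : Nat := @Bool.rec (fun _ => Nat) (col20_0) (col20_1) (Nat.ble 1 c)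
noncomputable def col20_s_2_4 (c : Nat) : Nat := @Bool.rec (fun _ => Nat) (col20_2) (col20_3) (Nat.ble 3 c)
noncomputable def col20_s_0_4 (c : Nat) : Nat := @Bool.rec (fun _ => Nat) (col20_s_0_2 c) (col20_s_2_4 c) (Nat.ble 2 c)
noncomputable def col20_s_4_6 (c : Nat) : Nat := @Bool.rec (fun _ => Nat) (col20_4) (col20_5) (Nat.ble 5 c)
noncomputable def col20_s_6_8 (c : Nat) : Nat := @Bool.rec (fun _ => Nat) (col20_6) (col20_7) (Nat.ble 7 c)
noncomputable def col20_s_4_8 (c : Nat) : Nat := @Bool.rec (fun _ => Nat) (col20_s_4_6 c) (col20_s_6_8 c) (Nat.ble 6 c)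
noncomputable def col20_s_0_8 (c : Nat) : Nat := @Bool.rec (fun _ => Nat) (col20_s_0_4 c) (col20_s_4_8 c) (Nat.ble 4 c)
noncomputable def col20_s_8_10 (c : Nat) : Nat := @Bool.rec (fun _ => Nat) (col20_8) (col20_9) (Nat.ble 9 c)
noncomputable def col20_s_10_12 (c : Nat) : Nat := @Bool.rec (fun _ => Nat) (col20_10) (col20_11) (Nat.ble 11 c)
noncomputable def col20_s_8_12 (c : Nat) : Nat := @Bool.rec (fun _ => Nat) (col20_s_8_10 c) (col20_s_10_12 c) (Nat.ble 10 c)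
noncomputable def col20_s_12_14 (c : Nat) : Nat := @Bool.rec (fun _ => Nat) (col20_12) (col20_13) (Nat.ble 13 c)
noncomputable def col20_s_15_17 (c : Nat) : Nat := @Bool.rec (fun _ => Nat) (col20_15) (col20_16) (Nat.ble 16 c)
noncomputable def col20_s_14_17 (c : Nat) : Nat := @Bool.rec (fun _ => Nat) (col20_14) (col20_s_15_17 c) (Nat.ble 15 c)
noncomputable def col20_s_12_17 (c : Nat) : Nat := @Bool.rec (fun _ => Nat) (col20_s_12_14 c) (col20_s_14_17 c) (Nat.ble 14 c)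
noncomputable def col20_s_8_17 (c : Nat) : Nat := @Bool.rec (fun _ => Nat) (col20_s_8_12 c) (col20_s_12_17 c) (Nat.ble 12 c)
noncomputable def col20_s_0_17 (c : Nat) : Nat := @Bool.rec (fun _ => Nat) (col20_s_0_8 c) (col20_s_8_17 c) (Nat.ble 8 c)
noncomputable def col20 (i : Nat) : Nat := rdw 17 131071 (col20_s_0_17 (Nat.shiftRight i 12)) (Nat.land i 4095)
noncomputable def col21_s_0_2 (c : Nat) : Nat := @Bool.rec (fun _ => Nat) (col21_0) (col21_1) (Nat.ble 1 c)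
noncomputable def col21_s_2_4 (c : Nat) : Nat := @Bool.rec (fun _ => Nat) (col21_2) (col21_3) (Nat.ble 3 c)
noncomputable def col21_s_0_4 (c : Nat) : Nat := @Bool.rec (fun _ => Nat) (col21_s_0_2 c) (col21_s_2_4 c) (Nat.ble 2 c)
noncomputable def col21_s_4_6 (c : Nat) : Nat := @Bool.rec (fun _ => Nat) (col21_4) (col21_5) (Nat.ble 5 c)
noncomputable def col21_s_6_8 (c : Nat) : Nat := @Bool.rec (fun _ => Nat) (col21_6) (col21_7) (Nat.ble 7 c)
noncomputable def col21_s_4_8 (c : Nat) : Nat := @Bool.rec (fun _ => Nat) (col21_s_4_6 c) (col21_s_6_8 c) (Nat.ble 6 c)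
noncomputable def col21_s_0_8 (c : Nat) : Nat := @Bool.rec (fun _ => Nat) (col21_s_0_4 c) (col21_s_4_8 c) (Nat.ble 4 c)
noncomputable def col21_s_8_10 (c : Nat) : Nat := @Bool.rec (fun _ => Nat) (col21_8) (col21_9) (Nat.ble 9 c)
noncomputable def col21_s_10_12 (c : Nat) : Nat := @Bool.rec (fun _ => Nat) (col21_10) (col21_11) (Nat.ble 11 c)
noncomputable def col21_s_8_12 (c : Nat) : Nat := @Bool.rec (fun _ => Nat) (col21_s_8_10 c) (col21_s_10_12 c) (Nat.ble 10 c)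
noncomputable def col21_s_12_14 (c : Nat) : Nat := @Bool.rec (fun _ => Nat) (col21_12) (col21_13) (Nat.ble 13 c)
noncomputable def col21_s_15_17 (c : Nat) : Nat := @Bool.rec (fun _ => Nat) (col21_15) (col21_16) (Nat.ble 16 c)
noncomputable def col21_s_14_17 (c : Nat) : Nat := @Bool.rec (fun _ => Nat) (col21_14) (col21_s_15_17 c) (Nat.ble 15 c)
noncomputable def col21_s_12_17 (c : Nat) : Nat := @Bool.rec (fun _ => Nat) (col21_s_12_14 c) (col21_s_14_17 c) (Nat.ble 14 c)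
noncomputable def col21_s_8_17 (c : Nat) : Nat := @Bool.rec (fun _ => Nat) (col21_s_8_12 c) (col21_s_12_17 c) (Nat.ble 12 c)
noncomputable def col21_s_0_17 (c : Nat) : Nat := @Bool.rec (fun _ => Nat) (col21_s_0_8 c) (col21_s_8_17 c) (Nat.ble 8 c)
noncomputable def col21 (i : Nat) : Nat := rdw 17 131071 (col21_s_0_17 (Nat.shiftRight i 12)) (Nat.land i 4095)
noncomputable def finTab_s_0_2 (c : Nat) : Nat := @Bool.rec (fun _ => Nat) (finTab_0) (finTab_1) (Nat.ble 1 c)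
noncomputable def finTab_s_3_5 (c : Nat) : Nat := @Bool.rec (fun _ => Nat) (finTab_3) (finTab_4) (Nat.ble 4 c)
noncomputable def finTab_s_2_5 (c : Nat) : Nat := @Bool.rec (fun _ => Nat) (finTab_2) (finTab_s_3_5 c) (Nat.ble 3 c)
noncomputable def finTab_s_0_5 (c : Nat) : Nat := @Bool.rec (fun _ => Nat) (finTab_s_0_2 c) (finTab_s_2_5 c) (Nat.ble 2 c)
noncomputable def finTab_s_6_8 (c : Nat) : Nat := @Bool.rec (fun _ => Nat) (finTab_6) (finTab_7) (Nat.ble 7 c)
noncomputable def finTab_s_5_8 (c : Nat) : Nat := @Bool.rec (fun _ => Nat) (finTab_5) (finTab_s_6_8 c) (Nat.ble 6 c)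
noncomputable def finTab_s_9_11 (c : Nat) : Nat := @Bool.rec (fun _ => Nat) (finTab_9) (finTab_10) (Nat.ble 10 c)
noncomputable def finTab_s_8_11 (c : Nat) : Nat := @Bool.rec (fun _ => Nat) (finTab_8) (finTab_s_9_11 c) (Nat.ble 9 c)
noncomputable def finTab_s_5_11 (c : Nat) : Nat := @Bool.rec (fun _ => Nat) (finTab_s_5_8 c) (finTab_s_8_11 c) (Nat.ble 8 c)
noncomputable def finTab_s_0_11 (c : Nat) : Nat := @Bool.rec (fun _ => Nat) (finTab_s_0_5 c) (finTab_s_5_11 c) (Nat.ble 5 c)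
noncomputable def finTab_s_11_13 (c : Nat) : Nat := @Bool.rec (fun _ => Nat) (finTab_11) (finTab_12) (Nat.ble 12 c)
noncomputable def finTab_s_14_16 (c : Nat) : Nat := @Bool.rec (fun _ => Nat) (finTab_14) (finTab_15) (Nat.ble 15 c)
noncomputable def finTab_s_13_16 (c : Nat) : Nat := @Bool.rec (fun _ => Nat) (finTab_13) (finTab_s_14_16 c) (Nat.ble 14 c)
noncomputable def finTab_s_11_16 (c : Nat) : Nat := @Bool.rec (fun _ => Nat) (finTab_s_11_13 c) (finTab_s_13_16 c) (Nat.ble 13 c)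
noncomputable def finTab_s_17_19 (c : Nat) : Nat := @Bool.rec (fun _ => Nat) (finTab_17) (finTab_18) (Nat.ble 18 c)
noncomputable def finTab_s_16_19 (c : Nat) : Nat := @Bool.rec (fun _ => Nat) (finTab_16) (finTab_s_17_19 c) (Nat.ble 17 c)
noncomputable def finTab_s_20_22 (c : Nat) : Nat := @Bool.rec (fun _ => Nat) (finTab_20) (finTab_21) (Nat.ble 21 c)
noncomputable def finTab_s_19_22 (c : Nat) : Nat := @Bool.rec (fun _ => Nat) (finTab_19) (finTab_s_20_22 c) (Nat.ble 20 c)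
noncomputable def finTab_s_16_22 (c : Nat) : Nat := @Bool.rec (fun _ => Nat) (finTab_s_16_19 c) (finTab_s_19_22 c) (Nat.ble 19 c)
noncomputable def finTab_s_11_22 (c : Nat) : Nat := @Bool.rec (fun _ => Nat) (finTab_s_11_16 c) (finTab_s_16_22 c) (Nat.ble 16 c)
noncomputable def finTab_s_0_22 (c : Nat) : Nat := @Bool.rec (fun _ => Nat) (finTab_s_0_11 c) (finTab_s_11_22 c) (Nat.ble 11 c)
noncomputable def finTab_s_22_24 (c : Nat) : Nat := @Bool.rec (fun _ => Nat) (finTab_22) (finTab_23) (Nat.ble 23 c)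
noncomputable def finTab_s_25_27 (c : Nat) : Nat := @Bool.rec (fun _ => Nat) (finTab_25) (finTab_26) (Nat.ble 26 c)
noncomputable def finTab_s_24_27 (c : Nat) : Nat := @Bool.rec (fun _ => Nat) (finTab_24) (finTab_s_25_27 c) (Nat.ble 25 c)
noncomputable def finTab_s_22_27 (c : Nat) : Nat := @Bool.rec (fun _ => Nat) (finTab_s_22_24 c) (finTab_s_24_27 c) (Nat.ble 24 c)
noncomputable def finTab_s_28_30 (c : Nat) : Nat := @Bool.rec (fun _ => Nat) (finTab_28) (finTab_29) (Nat.ble 29 c)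
noncomputable def finTab_s_27_30 (c : Nat) : Nat := @Bool.rec (fun _ => Nat) (finTab_27) (finTab_s_28_30 c) (Nat.ble 28 c)
noncomputable def finTab_s_31_33 (c : Nat) : Nat := @Bool.rec (fun _ => Nat) (finTab_31) (finTab_32) (Nat.ble 32 c)
noncomputable def finTab_s_30_33 (c : Nat) : Nat := @Bool.rec (fun _ => Nat) (finTab_30) (finTab_s_31_33 c) (Nat.ble 31 c)
noncomputable def finTab_s_27_33 (c : Nat) : Nat := @Bool.rec (fun _ => Nat) (finTab_s_27_30 c) (finTab_s_30_33 c) (Nat.ble 30 c)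
noncomputable def finTab_s_22_33 (c : Nat) : Nat := @Bool.rec (fun _ => Nat) (finTab_s_22_27 c) (finTab_s_27_33 c) (Nat.ble 27 c)
noncomputable def finTab_s_33_35 (c : Nat) : Nat := @Bool.rec (fun _ => Nat) (finTab_33) (finTab_34) (Nat.ble 34 c)
noncomputable def finTab_s_36_38 (c : Nat) : Nat := @Bool.rec (fun _ => Nat) (finTab_36) (finTab_37) (Nat.ble 37 c)
noncomputable def finTab_s_35_38 (c : Nat) : Nat := @Bool.rec (fun _ => Nat) (finTab_35) (finTab_s_36_38 c) (Nat.ble 36 c)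
noncomputable def finTab_s_33_38 (c : Nat) : Nat := @Bool.rec (fun _ => Nat) (finTab_s_33_35 c) (finTab_s_35_38 c) (Nat.ble 35 c)
noncomputable def finTab_s_39_41 (c : Nat) : Nat := @Bool.rec (fun _ => Nat) (finTab_39) (finTab_40) (Nat.ble 40 c)
noncomputable def finTab_s_38_41 (c : Nat) : Nat := @Bool.rec (fun _ => Nat) (finTab_38) (finTab_s_39_41 c) (Nat.ble 39 c)
noncomputable def finTab_s_42_44 (c : Nat) : Nat := @Bool.rec (fun _ => Nat) (finTab_42) (finTab_43) (Nat.ble 43 c)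
noncomputable def finTab_s_41_44 (c : Nat) : Nat := @Bool.rec (fun _ => Nat) (finTab_41) (finTab_s_42_44 c) (Nat.ble 42 c)
noncomputable def finTab_s_38_44 (c : Nat) : Nat := @Bool.rec (fun _ => Nat) (finTab_s_38_41 c) (finTab_s_41_44 c) (Nat.ble 41 c)
noncomputable def finTab_s_33_44 (c : Nat) : Nat := @Bool.rec (fun _ => Nat) (finTab_s_33_38 c) (finTab_s_38_44 c) (Nat.ble 38 c)
noncomputable def finTab_s_22_44 (c : Nat) : Nat := @Bool.rec (fun _ => Nat) (finTab_s_22_33 c) (finTab_s_33_44 c) (Nat.ble 33 c)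
noncomputable def finTab_s_0_44 (c : Nat) : Nat := @Bool.rec (fun _ => Nat) (finTab_s_0_22 c) (finTab_s_22_44 c) (Nat.ble 22 c)
noncomputable def finTab_s_44_46 (c : Nat) : Nat := @Bool.rec (fun _ => Nat) (finTab_44) (finTab_45) (Nat.ble 45 c)
noncomputable def finTab_s_47_49 (c : Nat) : Nat := @Bool.rec (fun _ => Nat) (finTab_47) (finTab_48) (Nat.ble 48 c)
noncomputable def finTab_s_46_49 (c : Nat) : Nat := @Bool.rec (fun _ => Nat) (finTab_46) (finTab_s_47_49 c) (Nat.ble 47 c)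
noncomputable def finTab_s_44_49 (c : Nat) : Nat := @Bool.rec (fun _ => Nat) (finTab_s_44_46 c) (finTab_s_46_49 c) (Nat.ble 46 c)
noncomputable def finTab_s_50_52 (c : Nat) : Nat := @Bool.rec (fun _ => Nat) (finTab_50) (finTab_51) (Nat.ble 51 c)
noncomputable def finTab_s_49_52 (c : Nat) : Nat := @Bool.rec (fun _ => Nat) (finTab_49) (finTab_s_50_52 c) (Nat.ble 50 c)
noncomputable def finTab_s_53_55 (c : Nat) : Nat := @Bool.rec (fun _ => Nat) (finTab_53) (finTab_54) (Nat.ble 54 c)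
noncomputable def finTab_s_52_55 (c : Nat) : Nat := @Bool.rec (fun _ => Nat) (finTab_52) (finTab_s_53_55 c) (Nat.ble 53 c)
noncomputable def finTab_s_49_55 (c : Nat) : Nat := @Bool.rec (fun _ => Nat) (finTab_s_49_52 c) (finTab_s_52_55 c) (Nat.ble 52 c)
noncomputable def finTab_s_44_55 (c : Nat) : Nat := @Bool.rec (fun _ => Nat) (finTab_s_44_49 c) (finTab_s_49_55 c) (Nat.ble 49 c)
noncomputable def finTab_s_55_57 (c : Nat) : Nat := @Bool.rec (fun _ => Nat) (finTab_55) (finTab_56) (Nat.ble 56 c)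
noncomputable def finTab_s_58_60 (c : Nat) : Nat := @Bool.rec (fun _ => Nat) (finTab_58) (finTab_59) (Nat.ble 59 c)
noncomputable def finTab_s_57_60 (c : Nat) : Nat := @Bool.rec (fun _ => Nat) (finTab_57) (finTab_s_58_60 c) (Nat.ble 58 c)
noncomputable def finTab_s_55_60 (c : Nat) : Nat := @Bool.rec (fun _ => Nat) (finTab_s_55_57 c) (finTab_s_57_60 c) (Nat.ble 57 c)
noncomputable def finTab_s_61_63 (c : Nat) : Nat := @Bool.rec (fun _ => Nat) (finTab_61) (finTab_62) (Nat.ble 62 c)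
noncomputable def finTab_s_60_63 (c : Nat) : Nat := @Bool.rec (fun _ => Nat) (finTab_60) (finTab_s_61_63 c) (Nat.ble 61 c)
noncomputable def finTab_s_64_66 (c : Nat) : Nat := @Bool.rec (fun _ => Nat) (finTab_64) (finTab_65) (Nat.ble 65 c)
noncomputable def finTab_s_63_66 (c : Nat) : Nat := @Bool.rec (fun _ => Nat) (finTab_63) (finTab_s_64_66 c) (Nat.ble 64 c)
noncomputable def finTab_s_60_66 (c : Nat) : Nat := @Bool.rec (fun _ => Nat) (finTab_s_60_63 c) (finTab_s_63_66 c) (Nat.ble 63 c)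
noncomputable def finTab_s_55_66 (c : Nat) : Nat := @Bool.rec (fun _ => Nat) (finTab_s_55_60 c) (finTab_s_60_66 c) (Nat.ble 60 c)
noncomputable def finTab_s_44_66 (c : Nat) : Nat := @Bool.rec (fun _ => Nat) (finTab_s_44_55 c) (finTab_s_55_66 c) (Nat.ble 55 c)
noncomputable def finTab_s_66_68 (c : Nat) : Nat := @Bool.rec (fun _ => Nat) (finTab_66) (finTab_67) (Nat.ble 67 c)
noncomputable def finTab_s_69_71 (c : Nat) : Nat := @Bool.rec (fun _ => Nat) (finTab_69) (finTab_70) (Nat.ble 70 c)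
noncomputable def finTab_s_68_71 (c : Nat) : Nat := @Bool.rec (fun _ => Nat) (finTab_68) (finTab_s_69_71 c) (Nat.ble 69 c)
noncomputable def finTab_s_66_71 (c : Nat) : Nat := @Bool.rec (fun _ => Nat) (finTab_s_66_68 c) (finTab_s_68_71 c) (Nat.ble 68 c)
noncomputable def finTab_s_72_74 (c : Nat) : Nat := @Bool.rec (fun _ => Nat) (finTab_72) (finTab_73) (Nat.ble 73 c)
noncomputable def finTab_s_71_74 (c : Nat) : Nat := @Bool.rec (fun _ => Nat) (finTab_71) (finTab_s_72_74 c) (Nat.ble 72 c)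
noncomputable def finTab_s_75_77 (c : Nat) : Nat := @Bool.rec (fun _ => Nat) (finTab_75) (finTab_76) (Nat.ble 76 c)
noncomputable def finTab_s_74_77 (c : Nat) : Nat := @Bool.rec (fun _ => Nat) (finTab_74) (finTab_s_75_77 c) (Nat.ble 75 c)
noncomputable def finTab_s_71_77 (c : Nat) : Nat := @Bool.rec (fun _ => Nat) (finTab_s_71_74 c) (finTab_s_74_77 c) (Nat.ble 74 c)
noncomputable def finTab_s_66_77 (c : Nat) : Nat := @Bool.rec (fun _ => Nat) (finTab_s_66_71 c) (finTab_s_71_77 c) (Nat.ble 71 c)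
noncomputable def finTab_s_78_80 (c : Nat) : Nat := @Bool.rec (fun _ => Nat) (finTab_78) (finTab_79) (Nat.ble 79 c)
noncomputable def finTab_s_77_80 (c : Nat) : Nat := @Bool.rec (fun _ => Nat) (finTab_77) (finTab_s_78_80 c) (Nat.ble 78 c)
noncomputable def finTab_s_81_83 (c : Nat) : Nat := @Bool.rec (fun _ => Nat) (finTab_81) (finTab_82) (Nat.ble 82 c)
noncomputable def finTab_s_80_83 (c : Nat) : Nat := @Bool.rec (fun _ => Nat) (finTab_80) (finTab_s_81_83 c) (Nat.ble 81 c)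
noncomputable def finTab_s_77_83 (c : Nat) : Nat := @Bool.rec (fun _ => Nat) (finTab_s_77_80 c) (finTab_s_80_83 c) (Nat.ble 80 c)
noncomputable def finTab_s_84_86 (c : Nat) : Nat := @Bool.rec (fun _ => Nat) (finTab_84) (finTab_85) (Nat.ble 85 c)
noncomputable def finTab_s_83_86 (c : Nat) : Nat := @Bool.rec (fun _ => Nat) (finTab_83) (finTab_s_84_86 c) (Nat.ble 84 c)
noncomputable def finTab_s_87_89 (c : Nat) : Nat := @Bool.rec (fun _ => Nat) (finTab_87) (finTab_88) (Nat.ble 88 c)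
noncomputable def finTab_s_86_89 (c : Nat) : Nat := @Bool.rec (fun _ => Nat) (finTab_86) (finTab_s_87_89 c) (Nat.ble 87 c)
noncomputable def finTab_s_83_89 (c : Nat) : Nat := @Bool.rec (fun _ => Nat) (finTab_s_83_86 c) (finTab_s_86_89 c) (Nat.ble 86 c)
noncomputable def finTab_s_77_89 (c : Nat) : Nat := @Bool.rec (fun _ => Nat) (finTab_s_77_83 c) (finTab_s_83_89 c) (Nat.ble 83 c)
noncomputable def finTab_s_66_89 (c : Nat) : Nat := @Bool.rec (fun _ => Nat) (finTab_s_66_77 c) (finTab_s_77_89 c) (Nat.ble 77 c)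
noncomputable def finTab_s_44_89 (c : Nat) : Nat := @Bool.rec (fun _ => Nat) (finTab_s_44_66 c) (finTab_s_66_89 c) (Nat.ble 66 c)
noncomputable def finTab_s_0_89 (c : Nat) : Nat := @Bool.rec (fun _ => Nat) (finTab_s_0_44 c) (finTab_s_44_89 c) (Nat.ble 44 c)
noncomputable def finTab_s_89_91 (c : Nat) : Nat := @Bool.rec (fun _ => Nat) (finTab_89) (finTab_90) (Nat.ble 90 c)
noncomputable def finTab_s_92_94 (c : Nat) : Nat := @Bool.rec (fun _ => Nat) (finTab_92) (finTab_93) (Nat.ble 93 c)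
noncomputable def finTab_s_91_94 (c : Nat) : Nat := @Bool.rec (fun _ => Nat) (finTab_91) (finTab_s_92_94 c) (Nat.ble 92 c)
noncomputable def finTab_s_89_94 (c : Nat) : Nat := @Bool.rec (fun _ => Nat) (finTab_s_89_91 c) (finTab_s_91_94 c) (Nat.ble 91 c)
noncomputable def finTab_s_95_97 (c : Nat) : Nat := @Bool.rec (fun _ => Nat) (finTab_95) (finTab_96) (Nat.ble 96 c)
noncomputable def finTab_s_94_97 (c : Nat) : Nat := @Bool.rec (fun _ => Nat) (finTab_94) (finTab_s_95_97 c) (Nat.ble 95 c)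
noncomputable def finTab_s_98_100 (c : Nat) : Nat := @Bool.rec (fun _ => Nat) (finTab_98) (finTab_99) (Nat.ble 99 c)
noncomputable def finTab_s_97_100 (c : Nat) : Nat := @Bool.rec (fun _ => Nat) (finTab_97) (finTab_s_98_100 c) (Nat.ble 98 c)
noncomputable def finTab_s_94_100 (c : Nat) : Nat := @Bool.rec (fun _ => Nat) (finTab_s_94_97 c) (finTab_s_97_100 c) (Nat.ble 97 c)
noncomputable def finTab_s_89_100 (c : Nat) : Nat := @Bool.rec (fun _ => Nat) (finTab_s_89_94 c) (finTab_s_94_100 c) (Nat.ble 94 c)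
noncomputable def finTab_s_100_102 (c : Nat) : Nat := @Bool.rec (fun _ => Nat) (finTab_100) (finTab_101) (Nat.ble 101 c)
noncomputable def finTab_s_103_105 (c : Nat) : Nat := @Bool.rec (fun _ => Nat) (finTab_103) (finTab_104) (Nat.ble 104 c)
noncomputable def finTab_s_102_105 (c : Nat) : Nat := @Bool.rec (fun _ => Nat) (finTab_102) (finTab_s_103_105 c) (Nat.ble 103 c)
noncomputable def finTab_s_100_105 (c : Nat) : Nat := @Bool.rec (fun _ => Nat) (finTab_s_100_102 c) (finTab_s_102_105 c) (Nat.ble 102 c)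
noncomputable def finTab_s_106_108 (c : Nat) : Nat := @Bool.rec (fun _ => Nat) (finTab_106) (finTab_107) (Nat.ble 107 c)
noncomputable def finTab_s_105_108 (c : Nat) : Nat := @Bool.rec (fun _ => Nat) (finTab_105) (finTab_s_106_108 c) (Nat.ble 106 c)
noncomputable def finTab_s_109_111 (c : Nat) : Nat := @Bool.rec (fun _ => Nat) (finTab_109) (finTab_110) (Nat.ble 110 c)
noncomputable def finTab_s_108_111 (c : Nat) : Nat := @Bool.rec (fun _ => Nat) (finTab_108) (finTab_s_109_111 c) (Nat.ble 109 c)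
noncomputable def finTab_s_105_111 (c : Nat) : Nat := @Bool.rec (fun _ => Nat) (finTab_s_105_108 c) (finTab_s_108_111 c) (Nat.ble 108 c)
noncomputable def finTab_s_100_111 (c : Nat) : Nat := @Bool.rec (fun _ => Nat) (finTab_s_100_105 c) (finTab_s_105_111 c) (Nat.ble 105 c)
noncomputable def finTab_s_89_111 (c : Nat) : Nat := @Bool.rec (fun _ => Nat) (finTab_s_89_100 c) (finTab_s_100_111 c) (Nat.ble 100 c)
noncomputable def finTab_s_111_113 (c : Nat) : Nat := @Bool.rec (fun _ => Nat) (finTab_111) (finTab_112) (Nat.ble 112 c)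
noncomputable def finTab_s_114_116 (c : Nat) : Nat := @Bool.rec (fun _ => Nat) (finTab_114) (finTab_115) (Nat.ble 115 c)
noncomputable def finTab_s_113_116 (c : Nat) : Nat := @Bool.rec (fun _ => Nat) (finTab_113) (finTab_s_114_116 c) (Nat.ble 114 c)
noncomputable def finTab_s_111_116 (c : Nat) : Nat := @Bool.rec (fun _ => Nat) (finTab_s_111_113 c) (finTab_s_113_116 c) (Nat.ble 113 c)
noncomputable def finTab_s_117_119 (c : Nat) : Nat := @Bool.rec (fun _ => Nat) (finTab_117) (finTab_118) (Nat.ble 118 c)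
noncomputable def finTab_s_116_119 (c : Nat) : Nat := @Bool.rec (fun _ => Nat) (finTab_116) (finTab_s_117_119 c) (Nat.ble 117 c)
noncomputable def finTab_s_120_122 (c : Nat) : Nat := @Bool.rec (fun _ => Nat) (finTab_120) (finTab_121) (Nat.ble 121 c)
noncomputable def finTab_s_119_122 (c : Nat) : Nat := @Bool.rec (fun _ => Nat) (finTab_119) (finTab_s_120_122 c) (Nat.ble 120 c)
noncomputable def finTab_s_116_122 (c : Nat) : Nat := @Bool.rec (fun _ => Nat) (finTab_s_116_119 c) (finTab_s_119_122 c) (Nat.ble 119 c)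
noncomputable def finTab_s_111_122 (c : Nat) : Nat := @Bool.rec (fun _ => Nat) (finTab_s_111_116 c) (finTab_s_116_122 c) (Nat.ble 116 c)
noncomputable def finTab_s_123_125 (c : Nat) : Nat := @Bool.rec (fun _ => Nat) (finTab_123) (finTab_124) (Nat.ble 124 c)
noncomputable def finTab_s_122_125 (c : Nat) : Nat := @Bool.rec (fun _ => Nat) (finTab_122) (finTab_s_123_125 c) (Nat.ble 123 c)
noncomputable def finTab_s_126_128 (c : Nat) : Nat := @Bool.rec (fun _ => Nat) (finTab_126) (finTab_127) (Nat.ble 127 c)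
noncomputable def finTab_s_125_128 (c : Nat) : Nat := @Bool.rec (fun _ => Nat) (finTab_125) (finTab_s_126_128 c) (Nat.ble 126 c)
noncomputable def finTab_s_122_128 (c : Nat) : Nat := @Bool.rec (fun _ => Nat) (finTab_s_122_125 c) (finTab_s_125_128 c) (Nat.ble 125 c)
noncomputable def finTab_s_129_131 (c : Nat) : Nat := @Bool.rec (fun _ => Nat) (finTab_129) (finTab_130) (Nat.ble 130 c)
noncomputable def finTab_s_128_131 (c : Nat) : Nat := @Bool.rec (fun _ => Nat) (finTab_128) (finTab_s_129_131 c) (Nat.ble 129 c)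
noncomputable def finTab_s_132_134 (c : Nat) : Nat := @Bool.rec (fun _ => Nat) (finTab_132) (finTab_133) (Nat.ble 133 c)
noncomputable def finTab_s_131_134 (c : Nat) : Nat := @Bool.rec (fun _ => Nat) (finTab_131) (finTab_s_132_134 c) (Nat.ble 132 c)
noncomputable def finTab_s_128_134 (c : Nat) : Nat := @Bool.rec (fun _ => Nat) (finTab_s_128_131 c) (finTab_s_131_134 c) (Nat.ble 131 c)
noncomputable def finTab_s_122_134 (c : Nat) : Nat := @Bool.rec (fun _ => Nat) (finTab_s_122_128 c) (finTab_s_128_134 c) (Nat.ble 128 c)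
noncomputable def finTab_s_111_134 (c : Nat) : Nat := @Bool.rec (fun _ => Nat) (finTab_s_111_122 c) (finTab_s_122_134 c) (Nat.ble 122 c)
noncomputable def finTab_s_89_134 (c : Nat) : Nat := @Bool.rec (fun _ => Nat) (finTab_s_89_111 c) (finTab_s_111_134 c) (Nat.ble 111 c)
noncomputable def finTab_s_134_136 (c : Nat) : Nat := @Bool.rec (fun _ => Nat) (finTab_134) (finTab_135) (Nat.ble 135 c)
noncomputable def finTab_s_137_139 (c : Nat) : Nat := @Bool.rec (fun _ => Nat) (finTab_137) (finTab_138) (Nat.ble 138 c)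
noncomputable def finTab_s_136_139 (c : Nat) : Nat := @Bool.rec (fun _ => Nat) (finTab_136) (finTab_s_137_139 c) (Nat.ble 137 c)
noncomputable def finTab_s_134_139 (c : Nat) : Nat := @Bool.rec (fun _ => Nat) (finTab_s_134_136 c) (finTab_s_136_139 c) (Nat.ble 136 c)
noncomputable def finTab_s_140_142 (c : Nat) : Nat := @Bool.rec (fun _ => Nat) (finTab_140) (finTab_141) (Nat.ble 141 c)
noncomputable def finTab_s_139_142 (c : Nat) : Nat := @Bool.rec (fun _ => Nat) (finTab_139) (finTab_s_140_142 c) (Nat.ble 140 c)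
noncomputable def finTab_s_143_145 (c : Nat) : Nat := @Bool.rec (fun _ => Nat) (finTab_143) (finTab_144) (Nat.ble 144 c)
noncomputable def finTab_s_142_145 (c : Nat) : Nat := @Bool.rec (fun _ => Nat) (finTab_142) (finTab_s_143_145 c) (Nat.ble 143 c)
noncomputable def finTab_s_139_145 (c : Nat) : Nat := @Bool.rec (fun _ => Nat) (finTab_s_139_142 c) (finTab_s_142_145 c) (Nat.ble 142 c)
noncomputable def finTab_s_134_145 (c : Nat) : Nat := @Bool.rec (fun _ => Nat) (finTab_s_134_139 c) (finTab_s_139_145 c) (Nat.ble 139 c)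
noncomputable def finTab_s_145_147 (c : Nat) : Nat := @Bool.rec (fun _ => Nat) (finTab_145) (finTab_146) (Nat.ble 146 c)
noncomputable def finTab_s_148_150 (c : Nat) : Nat := @Bool.rec (fun _ => Nat) (finTab_148) (finTab_149) (Nat.ble 149 c)
noncomputable def finTab_s_147_150 (c : Nat) : Nat := @Bool.rec (fun _ => Nat) (finTab_147) (finTab_s_148_150 c) (Nat.ble 148 c)
noncomputable def finTab_s_145_150 (c : Nat) : Nat := @Bool.rec (fun _ => Nat) (finTab_s_145_147 c) (finTab_s_147_150 c) (Nat.ble 147 c)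
noncomputable def finTab_s_151_153 (c : Nat) : Nat := @Bool.rec (fun _ => Nat) (finTab_151) (finTab_152) (Nat.ble 152 c)
noncomputable def finTab_s_150_153 (c : Nat) : Nat := @Bool.rec (fun _ => Nat) (finTab_150) (finTab_s_151_153 c) (Nat.ble 151 c)
noncomputable def finTab_s_154_156 (c : Nat) : Nat := @Bool.rec (fun _ => Nat) (finTab_154) (finTab_155) (Nat.ble 155 c)
noncomputable def finTab_s_153_156 (c : Nat) : Nat := @Bool.rec (fun _ => Nat) (finTab_153) (finTab_s_154_156 c) (Nat.ble 154 c)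
noncomputable def finTab_s_150_156 (c : Nat) : Nat := @Bool.rec (fun _ => Nat) (finTab_s_150_153 c) (finTab_s_153_156 c) (Nat.ble 153 c)
noncomputable def finTab_s_145_156 (c : Nat) : Nat := @Bool.rec (fun _ => Nat) (finTab_s_145_150 c) (finTab_s_150_156 c) (Nat.ble 150 c)
noncomputable def finTab_s_134_156 (c : Nat) : Nat := @Bool.rec (fun _ => Nat) (finTab_s_134_145 c) (finTab_s_145_156 c) (Nat.ble 145 c)
noncomputable def finTab_s_156_158 (c : Nat) : Nat := @Bool.rec (fun _ => Nat) (finTab_156) (finTab_157) (Nat.ble 157 c)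
noncomputable def finTab_s_159_161 (c : Nat) : Nat := @Bool.rec (fun _ => Nat) (finTab_159) (finTab_160) (Nat.ble 160 c)
noncomputable def finTab_s_158_161 (c : Nat) : Nat := @Bool.rec (fun _ => Nat) (finTab_158) (finTab_s_159_161 c) (Nat.ble 159 c)
noncomputable def finTab_s_156_161 (c : Nat) : Nat := @Bool.rec (fun _ => Nat) (finTab_s_156_158 c) (finTab_s_158_161 c) (Nat.ble 158 c)
noncomputable def finTab_s_162_164 (c : Nat) : Nat := @Bool.rec (fun _ => Nat) (finTab_162) (finTab_163) (Nat.ble 163 c)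
noncomputable def finTab_s_161_164 (c : Nat) : Nat := @Bool.rec (fun _ => Nat) (finTab_161) (finTab_s_162_164 c) (Nat.ble 162 c)
noncomputable def finTab_s_165_167 (c : Nat) : Nat := @Bool.rec (fun _ => Nat) (finTab_165) (finTab_166) (Nat.ble 166 c)
noncomputable def finTab_s_164_167 (c : Nat) : Nat := @Bool.rec (fun _ => Nat) (finTab_164) (finTab_s_165_167 c) (Nat.ble 165 c)
noncomputable def finTab_s_161_167 (c : Nat) : Nat := @Bool.rec (fun _ => Nat) (finTab_s_161_164 c) (finTab_s_164_167 c) (Nat.ble 164 c)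
noncomputable def finTab_s_156_167 (c : Nat) : Nat := @Bool.rec (fun _ => Nat) (finTab_s_156_161 c) (finTab_s_161_167 c) (Nat.ble 161 c)
noncomputable def finTab_s_168_170 (c : Nat) : Nat := @Bool.rec (fun _ => Nat) (finTab_168) (finTab_169) (Nat.ble 169 c)
noncomputable def finTab_s_167_170 (c : Nat) : Nat := @Bool.rec (fun _ => Nat) (finTab_167) (finTab_s_168_170 c) (Nat.ble 168 c)
noncomputable def finTab_s_171_173 (c : Nat) : Nat := @Bool.rec (fun _ => Nat) (finTab_171) (finTab_172) (Nat.ble 172 c)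
noncomputable def finTab_s_170_173 (c : Nat) : Nat := @Bool.rec (fun _ => Nat) (finTab_170) (finTab_s_171_173 c) (Nat.ble 171 c)
noncomputable def finTab_s_167_173 (c : Nat) : Nat := @Bool.rec (fun _ => Nat) (finTab_s_167_170 c) (finTab_s_170_173 c) (Nat.ble 170 c)
noncomputable def finTab_s_174_176 (c : Nat) : Nat := @Bool.rec (fun _ => Nat) (finTab_174) (finTab_175) (Nat.ble 175 c)
noncomputable def finTab_s_173_176 (c : Nat) : Nat := @Bool.rec (fun _ => Nat) (finTab_173) (finTab_s_174_176 c) (Nat.ble 174 c)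
noncomputable def finTab_s_177_179 (c : Nat) : Nat := @Bool.rec (fun _ => Nat) (finTab_177) (finTab_178) (Nat.ble 178 c)
noncomputable def finTab_s_176_179 (c : Nat) : Nat := @Bool.rec (fun _ => Nat) (finTab_176) (finTab_s_177_179 c) (Nat.ble 177 c)
noncomputable def finTab_s_173_179 (c : Nat) : Nat := @Bool.rec (fun _ => Nat) (finTab_s_173_176 c) (finTab_s_176_179 c) (Nat.ble 176 c)
noncomputable def finTab_s_167_179 (c : Nat) : Nat := @Bool.rec (fun _ => Nat) (finTab_s_167_173 c) (finTab_s_173_179 c) (Nat.ble 173 c)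
noncomputable def finTab_s_156_179 (c : Nat) : Nat := @Bool.rec (fun _ => Nat) (finTab_s_156_167 c) (finTab_s_167_179 c) (Nat.ble 167 c)
noncomputable def finTab_s_134_179 (c : Nat) : Nat := @Bool.rec (fun _ => Nat) (finTab_s_134_156 c) (finTab_s_156_179 c) (Nat.ble 156 c)
noncomputable def finTab_s_89_179 (c : Nat) : Nat := @Bool.rec (fun _ => Nat) (finTab_s_89_134 c) (finTab_s_134_179 c) (Nat.ble 134 c)
noncomputable def finTab_s_0_179 (c : Nat) : Nat := @Bool.rec (fun _ => Nat) (finTab_s_0_89 c) (finTab_s_89_179 c) (Nat.ble 89 c)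
noncomputable def finTab_s_179_181 (c : Nat) : Nat := @Bool.rec (fun _ => Nat) (finTab_179) (finTab_180) (Nat.ble 180 c)
noncomputable def finTab_s_182_184 (c : Nat) : Nat := @Bool.rec (fun _ => Nat) (finTab_182) (finTab_183) (Nat.ble 183 c)
noncomputable def finTab_s_181_184 (c : Nat) : Nat := @Bool.rec (fun _ => Nat) (finTab_181) (finTab_s_182_184 c) (Nat.ble 182 c)
noncomputable def finTab_s_179_184 (c : Nat) : Nat := @Bool.rec (fun _ => Nat) (finTab_s_179_181 c) (finTab_s_181_184 c) (Nat.ble 181 c)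
noncomputable def finTab_s_185_187 (c : Nat) : Nat := @Bool.rec (fun _ => Nat) (finTab_185) (finTab_186) (Nat.ble 186 c)
noncomputable def finTab_s_184_187 (c : Nat) : Nat := @Bool.rec (fun _ => Nat) (finTab_184) (finTab_s_185_187 c) (Nat.ble 185 c)
noncomputable def finTab_s_188_190 (c : Nat) : Nat := @Bool.rec (fun _ => Nat) (finTab_188) (finTab_189) (Nat.ble 189 c)
noncomputable def finTab_s_187_190 (c : Nat) : Nat := @Bool.rec (fun _ => Nat) (finTab_187) (finTab_s_188_190 c) (Nat.ble 188 c)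
noncomputable def finTab_s_184_190 (c : Nat) : Nat := @Bool.rec (fun _ => Nat) (finTab_s_184_187 c) (finTab_s_187_190 c) (Nat.ble 187 c)
noncomputable def finTab_s_179_190 (c : Nat) : Nat := @Bool.rec (fun _ => Nat) (finTab_s_179_184 c) (finTab_s_184_190 c) (Nat.ble 184 c)
noncomputable def finTab_s_190_192 (c : Nat) : Nat := @Bool.rec (fun _ => Nat) (finTab_190) (finTab_191) (Nat.ble 191 c)
noncomputable def finTab_s_193_195 (c : Nat) : Nat := @Bool.rec (fun _ => Nat) (finTab_193) (finTab_194) (Nat.ble 194 c)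
noncomputable def finTab_s_192_195 (c : Nat) : Nat := @Bool.rec (fun _ => Nat) (finTab_192) (finTab_s_193_195 c) (Nat.ble 193 c)
noncomputable def finTab_s_190_195 (c : Nat) : Nat := @Bool.rec (fun _ => Nat) (finTab_s_190_192 c) (finTab_s_192_195 c) (Nat.ble 192 c)
noncomputable def finTab_s_196_198 (c : Nat) : Nat := @Bool.rec (fun _ => Nat) (finTab_196) (finTab_197) (Nat.ble 197 c)
noncomputable def finTab_s_195_198 (c : Nat) : Nat := @Bool.rec (fun _ => Nat) (finTab_195) (finTab_s_196_198 c) (Nat.ble 196 c)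
noncomputable def finTab_s_199_201 (c : Nat) : Nat := @Bool.rec (fun _ => Nat) (finTab_199) (finTab_200) (Nat.ble 200 c)
noncomputable def finTab_s_198_201 (c : Nat) : Nat := @Bool.rec (fun _ => Nat) (finTab_198) (finTab_s_199_201 c) (Nat.ble 199 c)
noncomputable def finTab_s_195_201 (c : Nat) : Nat := @Bool.rec (fun _ => Nat) (finTab_s_195_198 c) (finTab_s_198_201 c) (Nat.ble 198 c)
noncomputable def finTab_s_190_201 (c : Nat) : Nat := @Bool.rec (fun _ => Nat) (finTab_s_190_195 c) (finTab_s_195_201 c) (Nat.ble 195 c)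
noncomputable def finTab_s_179_201 (c : Nat) : Nat := @Bool.rec (fun _ => Nat) (finTab_s_179_190 c) (finTab_s_190_201 c) (Nat.ble 190 c)
noncomputable def finTab_s_201_203 (c : Nat) : Nat := @Bool.rec (fun _ => Nat) (finTab_201) (finTab_202) (Nat.ble 202 c)
noncomputable def finTab_s_204_206 (c : Nat) : Nat := @Bool.rec (fun _ => Nat) (finTab_204) (finTab_205) (Nat.ble 205 c)
noncomputable def finTab_s_203_206 (c : Nat) : Nat := @Bool.rec (fun _ => Nat) (finTab_203) (finTab_s_204_206 c) (Nat.ble 204 c)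
noncomputable def finTab_s_201_206 (c : Nat) : Nat := @Bool.rec (fun _ => Nat) (finTab_s_201_203 c) (finTab_s_203_206 c) (Nat.ble 203 c)
noncomputable def finTab_s_207_209 (c : Nat) : Nat := @Bool.rec (fun _ => Nat) (finTab_207) (finTab_208) (Nat.ble 208 c)
noncomputable def finTab_s_206_209 (c : Nat) : Nat := @Bool.rec (fun _ => Nat) (finTab_206) (finTab_s_207_209 c) (Nat.ble 207 c)
noncomputable def finTab_s_210_212 (c : Nat) : Nat := @Bool.rec (fun _ => Nat) (finTab_210) (finTab_211) (Nat.ble 211 c)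
noncomputable def finTab_s_209_212 (c : Nat) : Nat := @Bool.rec (fun _ => Nat) (finTab_209) (finTab_s_210_212 c) (Nat.ble 210 c)
noncomputable def finTab_s_206_212 (c : Nat) : Nat := @Bool.rec (fun _ => Nat) (finTab_s_206_209 c) (finTab_s_209_212 c) (Nat.ble 209 c)
noncomputable def finTab_s_201_212 (c : Nat) : Nat := @Bool.rec (fun _ => Nat) (finTab_s_201_206 c) (finTab_s_206_212 c) (Nat.ble 206 c)
noncomputable def finTab_s_213_215 (c : Nat) : Nat := @Bool.rec (fun _ => Nat) (finTab_213) (finTab_214) (Nat.ble 214 c)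
noncomputable def finTab_s_212_215 (c : Nat) : Nat := @Bool.rec (fun _ => Nat) (finTab_212) (finTab_s_213_215 c) (Nat.ble 213 c)
noncomputable def finTab_s_216_218 (c : Nat) : Nat := @Bool.rec (fun _ => Nat) (finTab_216) (finTab_217) (Nat.ble 217 c)
noncomputable def finTab_s_215_218 (c : Nat) : Nat := @Bool.rec (fun _ => Nat) (finTab_215) (finTab_s_216_218 c) (Nat.ble 216 c)
noncomputable def finTab_s_212_218 (c : Nat) : Nat := @Bool.rec (fun _ => Nat) (finTab_s_212_215 c) (finTab_s_215_218 c) (Nat.ble 215 c)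
noncomputable def finTab_s_219_221 (c : Nat) : Nat := @Bool.rec (fun _ => Nat) (finTab_219) (finTab_220) (Nat.ble 220 c)
noncomputable def finTab_s_218_221 (c : Nat) : Nat := @Bool.rec (fun _ => Nat) (finTab_218) (finTab_s_219_221 c) (Nat.ble 219 c)
noncomputable def finTab_s_222_224 (c : Nat) : Nat := @Bool.rec (fun _ => Nat) (finTab_222) (finTab_223) (Nat.ble 223 c)
noncomputable def finTab_s_221_224 (c : Nat) : Nat := @Bool.rec (fun _ => Nat) (finTab_221) (finTab_s_222_224 c) (Nat.ble 222 c)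
noncomputable def finTab_s_218_224 (c : Nat) : Nat := @Bool.rec (fun _ => Nat) (finTab_s_218_221 c) (finTab_s_221_224 c) (Nat.ble 221 c)
noncomputable def finTab_s_212_224 (c : Nat) : Nat := @Bool.rec (fun _ => Nat) (finTab_s_212_218 c) (finTab_s_218_224 c) (Nat.ble 218 c)
noncomputable def finTab_s_201_224 (c : Nat) : Nat := @Bool.rec (fun _ => Nat) (finTab_s_201_212 c) (finTab_s_212_224 c) (Nat.ble 212 c)
noncomputable def finTab_s_179_224 (c : Nat) : Nat := @Bool.rec (fun _ => Nat) (finTab_s_179_201 c) (finTab_s_201_224 c) (Nat.ble 201 c)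
noncomputable def finTab_s_224_226 (c : Nat) : Nat := @Bool.rec (fun _ => Nat) (finTab_224) (finTab_225) (Nat.ble 225 c)
noncomputable def finTab_s_227_229 (c : Nat) : Nat := @Bool.rec (fun _ => Nat) (finTab_227) (finTab_228) (Nat.ble 228 c)
noncomputable def finTab_s_226_229 (c : Nat) : Nat := @Bool.rec (fun _ => Nat) (finTab_226) (finTab_s_227_229 c) (Nat.ble 227 c)
noncomputable def finTab_s_224_229 (c : Nat) : Nat := @Bool.rec (fun _ => Nat) (finTab_s_224_226 c) (finTab_s_226_229 c) (Nat.ble 226 c)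
noncomputable def finTab_s_230_232 (c : Nat) : Nat := @Bool.rec (fun _ => Nat) (finTab_230) (finTab_231) (Nat.ble 231 c)
noncomputable def finTab_s_229_232 (c : Nat) : Nat := @Bool.rec (fun _ => Nat) (finTab_229) (finTab_s_230_232 c) (Nat.ble 230 c)
noncomputable def finTab_s_233_235 (c : Nat) : Nat := @Bool.rec (fun _ => Nat) (finTab_233) (finTab_234) (Nat.ble 234 c)
noncomputable def finTab_s_232_235 (c : Nat) : Nat := @Bool.rec (fun _ => Nat) (finTab_232) (finTab_s_233_235 c) (Nat.ble 233 c)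
noncomputable def finTab_s_229_235 (c : Nat) : Nat := @Bool.rec (fun _ => Nat) (finTab_s_229_232 c) (finTab_s_232_235 c) (Nat.ble 232 c)
noncomputable def finTab_s_224_235 (c : Nat) : Nat := @Bool.rec (fun _ => Nat) (finTab_s_224_229 c) (finTab_s_229_235 c) (Nat.ble 229 c)
noncomputable def finTab_s_235_237 (c : Nat) : Nat := @Bool.rec (fun _ => Nat) (finTab_235) (finTab_236) (Nat.ble 236 c)
noncomputable def finTab_s_238_240 (c : Nat) : Nat := @Bool.rec (fun _ => Nat) (finTab_238) (finTab_239) (Nat.ble 239 c)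
noncomputable def finTab_s_237_240 (c : Nat) : Nat := @Bool.rec (fun _ => Nat) (finTab_237) (finTab_s_238_240 c) (Nat.ble 238 c)
noncomputable def finTab_s_235_240 (c : Nat) : Nat := @Bool.rec (fun _ => Nat) (finTab_s_235_237 c) (finTab_s_237_240 c) (Nat.ble 237 c)
noncomputable def finTab_s_241_243 (c : Nat) : Nat := @Bool.rec (fun _ => Nat) (finTab_241) (finTab_242) (Nat.ble 242 c)
noncomputable def finTab_s_240_243 (c : Nat) : Nat := @Bool.rec (fun _ => Nat) (finTab_240) (finTab_s_241_243 c) (Nat.ble 241 c)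
noncomputable def finTab_s_244_246 (c : Nat) : Nat := @Bool.rec (fun _ => Nat) (finTab_244) (finTab_245) (Nat.ble 245 c)
noncomputable def finTab_s_243_246 (c : Nat) : Nat := @Bool.rec (fun _ => Nat) (finTab_243) (finTab_s_244_246 c) (Nat.ble 244 c)
noncomputable def finTab_s_240_246 (c : Nat) : Nat := @Bool.rec (fun _ => Nat) (finTab_s_240_243 c) (finTab_s_243_246 c) (Nat.ble 243 c)
noncomputable def finTab_s_235_246 (c : Nat) : Nat := @Bool.rec (fun _ => Nat) (finTab_s_235_240 c) (finTab_s_240_246 c) (Nat.ble 240 c)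
noncomputable def finTab_s_224_246 (c : Nat) : Nat := @Bool.rec (fun _ => Nat) (finTab_s_224_235 c) (finTab_s_235_246 c) (Nat.ble 235 c)
noncomputable def finTab_s_246_248 (c : Nat) : Nat := @Bool.rec (fun _ => Nat) (finTab_246) (finTab_247) (Nat.ble 247 c)
noncomputable def finTab_s_249_251 (c : Nat) : Nat := @Bool.rec (fun _ => Nat) (finTab_249) (finTab_250) (Nat.ble 250 c)
noncomputable def finTab_s_248_251 (c : Nat) : Nat := @Bool.rec (fun _ => Nat) (finTab_248) (finTab_s_249_251 c) (Nat.ble 249 c)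
noncomputable def finTab_s_246_251 (c : Nat) : Nat := @Bool.rec (fun _ => Nat) (finTab_s_246_248 c) (finTab_s_248_251 c) (Nat.ble 248 c)
noncomputable def finTab_s_252_254 (c : Nat) : Nat := @Bool.rec (fun _ => Nat) (finTab_252) (finTab_253) (Nat.ble 253 c)
noncomputable def finTab_s_251_254 (c : Nat) : Nat := @Bool.rec (fun _ => Nat) (finTab_251) (finTab_s_252_254 c) (Nat.ble 252 c)
noncomputable def finTab_s_255_257 (c : Nat) : Nat := @Bool.rec (fun _ => Nat) (finTab_255) (finTab_256) (Nat.ble 256 c)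
noncomputable def finTab_s_254_257 (c : Nat) : Nat := @Bool.rec (fun _ => Nat) (finTab_254) (finTab_s_255_257 c) (Nat.ble 255 c)
noncomputable def finTab_s_251_257 (c : Nat) : Nat := @Bool.rec (fun _ => Nat) (finTab_s_251_254 c) (finTab_s_254_257 c) (Nat.ble 254 c)
noncomputable def finTab_s_246_257 (c : Nat) : Nat := @Bool.rec (fun _ => Nat) (finTab_s_246_251 c) (finTab_s_251_257 c) (Nat.ble 251 c)
noncomputable def finTab_s_258_260 (c : Nat) : Nat := @Bool.rec (fun _ => Nat) (finTab_258) (finTab_259) (Nat.ble 259 c)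
noncomputable def finTab_s_257_260 (c : Nat) : Nat := @Bool.rec (fun _ => Nat) (finTab_257) (finTab_s_258_260 c) (Nat.ble 258 c)
noncomputable def finTab_s_261_263 (c : Nat) : Nat := @Bool.rec (fun _ => Nat) (finTab_261) (finTab_262) (Nat.ble 262 c)
noncomputable def finTab_s_260_263 (c : Nat) : Nat := @Bool.rec (fun _ => Nat) (finTab_260) (finTab_s_261_263 c) (Nat.ble 261 c)
noncomputable def finTab_s_257_263 (c : Nat) : Nat := @Bool.rec (fun _ => Nat) (finTab_s_257_260 c) (finTab_s_260_263 c) (Nat.ble 260 c)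
noncomputable def finTab_s_264_266 (c : Nat) : Nat := @Bool.rec (fun _ => Nat) (finTab_264) (finTab_265) (Nat.ble 265 c)
noncomputable def finTab_s_263_266 (c : Nat) : Nat := @Bool.rec (fun _ => Nat) (finTab_263) (finTab_s_264_266 c) (Nat.ble 264 c)
noncomputable def finTab_s_267_269 (c : Nat) : Nat := @Bool.rec (fun _ => Nat) (finTab_267) (finTab_268) (Nat.ble 268 c)
noncomputable def finTab_s_266_269 (c : Nat) : Nat := @Bool.rec (fun _ => Nat) (finTab_266) (finTab_s_267_269 c) (Nat.ble 267 c)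
noncomputable def finTab_s_263_269 (c : Nat) : Nat := @Bool.rec (fun _ => Nat) (finTab_s_263_266 c) (finTab_s_266_269 c) (Nat.ble 266 c)
noncomputable def finTab_s_257_269 (c : Nat) : Nat := @Bool.rec (fun _ => Nat) (finTab_s_257_263 c) (finTab_s_263_269 c) (Nat.ble 263 c)
noncomputable def finTab_s_246_269 (c : Nat) : Nat := @Bool.rec (fun _ => Nat) (finTab_s_246_257 c) (finTab_s_257_269 c) (Nat.ble 257 c)
noncomputable def finTab_s_224_269 (c : Nat) : Nat := @Bool.rec (fun _ => Nat) (finTab_s_224_246 c) (finTab_s_246_269 c) (Nat.ble 246 c)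
noncomputable def finTab_s_179_269 (c : Nat) : Nat := @Bool.rec (fun _ => Nat) (finTab_s_179_224 c) (finTab_s_224_269 c) (Nat.ble 224 c)
noncomputable def finTab_s_269_271 (c : Nat) : Nat := @Bool.rec (fun _ => Nat) (finTab_269) (finTab_270) (Nat.ble 270 c)
noncomputable def finTab_s_272_274 (c : Nat) : Nat := @Bool.rec (fun _ => Nat) (finTab_272) (finTab_273) (Nat.ble 273 c)
noncomputable def finTab_s_271_274 (c : Nat) : Nat := @Bool.rec (fun _ => Nat) (finTab_271) (finTab_s_272_274 c) (Nat.ble 272 c)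
noncomputable def finTab_s_269_274 (c : Nat) : Nat := @Bool.rec (fun _ => Nat) (finTab_s_269_271 c) (finTab_s_271_274 c) (Nat.ble 271 c)
noncomputable def finTab_s_275_277 (c : Nat) : Nat := @Bool.rec (fun _ => Nat) (finTab_275) (finTab_276) (Nat.ble 276 c)
noncomputable def finTab_s_274_277 (c : Nat) : Nat := @Bool.rec (fun _ => Nat) (finTab_274) (finTab_s_275_277 c) (Nat.ble 275 c)
noncomputable def finTab_s_278_280 (c : Nat) : Nat := @Bool.rec (fun _ => Nat) (finTab_278) (finTab_279) (Nat.ble 279 c)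
noncomputable def finTab_s_277_280 (c : Nat) : Nat := @Bool.rec (fun _ => Nat) (finTab_277) (finTab_s_278_280 c) (Nat.ble 278 c)
noncomputable def finTab_s_274_280 (c : Nat) : Nat := @Bool.rec (fun _ => Nat) (finTab_s_274_277 c) (finTab_s_277_280 c) (Nat.ble 277 c)
noncomputable def finTab_s_269_280 (c : Nat) : Nat := @Bool.rec (fun _ => Nat) (finTab_s_269_274 c) (finTab_s_274_280 c) (Nat.ble 274 c)
noncomputable def finTab_s_280_282 (c : Nat) : Nat := @Bool.rec (fun _ => Nat) (finTab_280) (finTab_281) (Nat.ble 281 c)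
noncomputable def finTab_s_283_285 (c : Nat) : Nat := @Bool.rec (fun _ => Nat) (finTab_283) (finTab_284) (Nat.ble 284 c)
noncomputable def finTab_s_282_285 (c : Nat) : Nat := @Bool.rec (fun _ => Nat) (finTab_282) (finTab_s_283_285 c) (Nat.ble 283 c)
noncomputable def finTab_s_280_285 (c : Nat) : Nat := @Bool.rec (fun _ => Nat) (finTab_s_280_282 c) (finTab_s_282_285 c) (Nat.ble 282 c)
noncomputable def finTab_s_286_288 (c : Nat) : Nat := @Bool.rec (fun _ => Nat) (finTab_286) (finTab_287) (Nat.ble 287 c)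
noncomputable def finTab_s_285_288 (c : Nat) : Nat := @Bool.rec (fun _ => Nat) (finTab_285) (finTab_s_286_288 c) (Nat.ble 286 c)
noncomputable def finTab_s_289_291 (c : Nat) : Nat := @Bool.rec (fun _ => Nat) (finTab_289) (finTab_290) (Nat.ble 290 c)
noncomputable def finTab_s_288_291 (c : Nat) : Nat := @Bool.rec (fun _ => Nat) (finTab_288) (finTab_s_289_291 c) (Nat.ble 289 c)
noncomputable def finTab_s_285_291 (c : Nat) : Nat := @Bool.rec (fun _ => Nat) (finTab_s_285_288 c) (finTab_s_288_291 c) (Nat.ble 288 c)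
noncomputable def finTab_s_280_291 (c : Nat) : Nat := @Bool.rec (fun _ => Nat) (finTab_s_280_285 c) (finTab_s_285_291 c) (Nat.ble 285 c)
noncomputable def finTab_s_269_291 (c : Nat) : Nat := @Bool.rec (fun _ => Nat) (finTab_s_269_280 c) (finTab_s_280_291 c) (Nat.ble 280 c)
noncomputable def finTab_s_291_293 (c : Nat) : Nat := @Bool.rec (fun _ => Nat) (finTab_291) (finTab_292) (Nat.ble 292 c)
noncomputable def finTab_s_294_296 (c : Nat) : Nat := @Bool.rec (fun _ => Nat) (finTab_294) (finTab_295) (Nat.ble 295 c)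
noncomputable def finTab_s_293_296 (c : Nat) : Nat := @Bool.rec (fun _ => Nat) (finTab_293) (finTab_s_294_296 c) (Nat.ble 294 c)
noncomputable def finTab_s_291_296 (c : Nat) : Nat := @Bool.rec (fun _ => Nat) (finTab_s_291_293 c) (finTab_s_293_296 c) (Nat.ble 293 c)
noncomputable def finTab_s_297_299 (c : Nat) : Nat := @Bool.rec (fun _ => Nat) (finTab_297) (finTab_298) (Nat.ble 298 c)
noncomputable def finTab_s_296_299 (c : Nat) : Nat := @Bool.rec (fun _ => Nat) (finTab_296) (finTab_s_297_299 c) (Nat.ble 297 c)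
noncomputable def finTab_s_300_302 (c : Nat) : Nat := @Bool.rec (fun _ => Nat) (finTab_300) (finTab_301) (Nat.ble 301 c)
noncomputable def finTab_s_299_302 (c : Nat) : Nat := @Bool.rec (fun _ => Nat) (finTab_299) (finTab_s_300_302 c) (Nat.ble 300 c)
noncomputable def finTab_s_296_302 (c : Nat) : Nat := @Bool.rec (fun _ => Nat) (finTab_s_296_299 c) (finTab_s_299_302 c) (Nat.ble 299 c)
noncomputable def finTab_s_291_302 (c : Nat) : Nat := @Bool.rec (fun _ => Nat) (finTab_s_291_296 c) (finTab_s_296_302 c) (Nat.ble 296 c)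
noncomputable def finTab_s_303_305 (c : Nat) : Nat := @Bool.rec (fun _ => Nat) (finTab_303) (finTab_304) (Nat.ble 304 c)
noncomputable def finTab_s_302_305 (c : Nat) : Nat := @Bool.rec (fun _ => Nat) (finTab_302) (finTab_s_303_305 c) (Nat.ble 303 c)
noncomputable def finTab_s_306_308 (c : Nat) : Nat := @Bool.rec (fun _ => Nat) (finTab_306) (finTab_307) (Nat.ble 307 c)
noncomputable def finTab_s_305_308 (c : Nat) : Nat := @Bool.rec (fun _ => Nat) (finTab_305) (finTab_s_306_308 c) (Nat.ble 306 c)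
noncomputable def finTab_s_302_308 (c : Nat) : Nat := @Bool.rec (fun _ => Nat) (finTab_s_302_305 c) (finTab_s_305_308 c) (Nat.ble 305 c)
noncomputable def finTab_s_309_311 (c : Nat) : Nat := @Bool.rec (fun _ => Nat) (finTab_309) (finTab_310) (Nat.ble 310 c)
noncomputable def finTab_s_308_311 (c : Nat) : Nat := @Bool.rec (fun _ => Nat) (finTab_308) (finTab_s_309_311 c) (Nat.ble 309 c)
noncomputable def finTab_s_312_314 (c : Nat) : Nat := @Bool.rec (fun _ => Nat) (finTab_312) (finTab_313) (Nat.ble 313 c)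
noncomputable def finTab_s_311_314 (c : Nat) : Nat := @Bool.rec (fun _ => Nat) (finTab_311) (finTab_s_312_314 c) (Nat.ble 312 c)
noncomputable def finTab_s_308_314 (c : Nat) : Nat := @Bool.rec (fun _ => Nat) (finTab_s_308_311 c) (finTab_s_311_314 c) (Nat.ble 311 c)
noncomputable def finTab_s_302_314 (c : Nat) : Nat := @Bool.rec (fun _ => Nat) (finTab_s_302_308 c) (finTab_s_308_314 c) (Nat.ble 308 c)
noncomputable def finTab_s_291_314 (c : Nat) : Nat := @Bool.rec (fun _ => Nat) (finTab_s_291_302 c) (finTab_s_302_314 c) (Nat.ble 302 c)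
noncomputable def finTab_s_269_314 (c : Nat) : Nat := @Bool.rec (fun _ => Nat) (finTab_s_269_291 c) (finTab_s_291_314 c) (Nat.ble 291 c)
noncomputable def finTab_s_314_316 (c : Nat) : Nat := @Bool.rec (fun _ => Nat) (finTab_314) (finTab_315) (Nat.ble 315 c)
noncomputable def finTab_s_317_319 (c : Nat) : Nat := @Bool.rec (fun _ => Nat) (finTab_317) (finTab_318) (Nat.ble 318 c)
noncomputable def finTab_s_316_319 (c : Nat) : Nat := @Bool.rec (fun _ => Nat) (finTab_316) (finTab_s_317_319 c) (Nat.ble 317 c)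
noncomputable def finTab_s_314_319 (c : Nat) : Nat := @Bool.rec (fun _ => Nat) (finTab_s_314_316 c) (finTab_s_316_319 c) (Nat.ble 316 c)
noncomputable def finTab_s_320_322 (c : Nat) : Nat := @Bool.rec (fun _ => Nat) (finTab_320) (finTab_321) (Nat.ble 321 c)
noncomputable def finTab_s_319_322 (c : Nat) : Nat := @Bool.rec (fun _ => Nat) (finTab_319) (finTab_s_320_322 c) (Nat.ble 320 c)
noncomputable def finTab_s_323_325 (c : Nat) : Nat := @Bool.rec (fun _ => Nat) (finTab_323) (finTab_324) (Nat.ble 324 c)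
noncomputable def finTab_s_322_325 (c : Nat) : Nat := @Bool.rec (fun _ => Nat) (finTab_322) (finTab_s_323_325 c) (Nat.ble 323 c)
noncomputable def finTab_s_319_325 (c : Nat) : Nat := @Bool.rec (fun _ => Nat) (finTab_s_319_322 c) (finTab_s_322_325 c) (Nat.ble 322 c)
noncomputable def finTab_s_314_325 (c : Nat) : Nat := @Bool.rec (fun _ => Nat) (finTab_s_314_319 c) (finTab_s_319_325 c) (Nat.ble 319 c)
noncomputable def finTab_s_325_327 (c : Nat) : Nat := @Bool.rec (fun _ => Nat) (finTab_325) (finTab_326) (Nat.ble 326 c)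
noncomputable def finTab_s_328_330 (c : Nat) : Nat := @Bool.rec (fun _ => Nat) (finTab_328) (finTab_329) (Nat.ble 329 c)
noncomputable def finTab_s_327_330 (c : Nat) : Nat := @Bool.rec (fun _ => Nat) (finTab_327) (finTab_s_328_330 c) (Nat.ble 328 c)
noncomputable def finTab_s_325_330 (c : Nat) : Nat := @Bool.rec (fun _ => Nat) (finTab_s_325_327 c) (finTab_s_327_330 c) (Nat.ble 327 c)
noncomputable def finTab_s_331_333 (c : Nat) : Nat := @Bool.rec (fun _ => Nat) (finTab_331) (finTab_332) (Nat.ble 332 c)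
noncomputable def finTab_s_330_333 (c : Nat) : Nat := @Bool.rec (fun _ => Nat) (finTab_330) (finTab_s_331_333 c) (Nat.ble 331 c)
noncomputable def finTab_s_334_336 (c : Nat) : Nat := @Bool.rec (fun _ => Nat) (finTab_334) (finTab_335) (Nat.ble 335 c)
noncomputable def finTab_s_333_336 (c : Nat) : Nat := @Bool.rec (fun _ => Nat) (finTab_333) (finTab_s_334_336 c) (Nat.ble 334 c)
noncomputable def finTab_s_330_336 (c : Nat) : Nat := @Bool.rec (fun _ => Nat) (finTab_s_330_333 c) (finTab_s_333_336 c) (Nat.ble 333 c)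
noncomputable def finTab_s_325_336 (c : Nat) : Nat := @Bool.rec (fun _ => Nat) (finTab_s_325_330 c) (finTab_s_330_336 c) (Nat.ble 330 c)
noncomputable def finTab_s_314_336 (c : Nat) : Nat := @Bool.rec (fun _ => Nat) (finTab_s_314_325 c) (finTab_s_325_336 c) (Nat.ble 325 c)
noncomputable def finTab_s_336_338 (c : Nat) : Nat := @Bool.rec (fun _ => Nat) (finTab_336) (finTab_337) (Nat.ble 337 c)
noncomputable def finTab_s_339_341 (c : Nat) : Nat := @Bool.rec (fun _ => Nat) (finTab_339) (finTab_340) (Nat.ble 340 c)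
noncomputable def finTab_s_338_341 (c : Nat) : Nat := @Bool.rec (fun _ => Nat) (finTab_338) (finTab_s_339_341 c) (Nat.ble 339 c)
noncomputable def finTab_s_336_341 (c : Nat) : Nat := @Bool.rec (fun _ => Nat) (finTab_s_336_338 c) (finTab_s_338_341 c) (Nat.ble 338 c)
noncomputable def finTab_s_342_344 (c : Nat) : Nat := @Bool.rec (fun _ => Nat) (finTab_342) (finTab_343) (Nat.ble 343 c)
noncomputable def finTab_s_341_344 (c : Nat) : Nat := @Bool.rec (fun _ => Nat) (finTab_341) (finTab_s_342_344 c) (Nat.ble 342 c)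
noncomputable def finTab_s_345_347 (c : Nat) : Nat := @Bool.rec (fun _ => Nat) (finTab_345) (finTab_346) (Nat.ble 346 c)
noncomputable def finTab_s_344_347 (c : Nat) : Nat := @Bool.rec (fun _ => Nat) (finTab_344) (finTab_s_345_347 c) (Nat.ble 345 c)
noncomputable def finTab_s_341_347 (c : Nat) : Nat := @Bool.rec (fun _ => Nat) (finTab_s_341_344 c) (finTab_s_344_347 c) (Nat.ble 344 c)
noncomputable def finTab_s_336_347 (c : Nat) : Nat := @Bool.rec (fun _ => Nat) (finTab_s_336_341 c) (finTab_s_341_347 c) (Nat.ble 341 c)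
noncomputable def finTab_s_348_350 (c : Nat) : Nat := @Bool.rec (fun _ => Nat) (finTab_348) (finTab_349) (Nat.ble 349 c)
noncomputable def finTab_s_347_350 (c : Nat) : Nat := @Bool.rec (fun _ => Nat) (finTab_347) (finTab_s_348_350 c) (Nat.ble 348 c)
noncomputable def finTab_s_351_353 (c : Nat) : Nat := @Bool.rec (fun _ => Nat) (finTab_351) (finTab_352) (Nat.ble 352 c)
noncomputable def finTab_s_350_353 (c : Nat) : Nat := @Bool.rec (fun _ => Nat) (finTab_350) (finTab_s_351_353 c) (Nat.ble 351 c)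
noncomputable def finTab_s_347_353 (c : Nat) : Nat := @Bool.rec (fun _ => Nat) (finTab_s_347_350 c) (finTab_s_350_353 c) (Nat.ble 350 c)
noncomputable def finTab_s_354_356 (c : Nat) : Nat := @Bool.rec (fun _ => Nat) (finTab_354) (finTab_355) (Nat.ble 355 c)
noncomputable def finTab_s_353_356 (c : Nat) : Nat := @Bool.rec (fun _ => Nat) (finTab_353) (finTab_s_354_356 c) (Nat.ble 354 c)
noncomputable def finTab_s_357_359 (c : Nat) : Nat := @Bool.rec (fun _ => Nat) (finTab_357) (finTab_358) (Nat.ble 358 c)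
noncomputable def finTab_s_356_359 (c : Nat) : Nat := @Bool.rec (fun _ => Nat) (finTab_356) (finTab_s_357_359 c) (Nat.ble 357 c)
noncomputable def finTab_s_353_359 (c : Nat) : Nat := @Bool.rec (fun _ => Nat) (finTab_s_353_356 c) (finTab_s_356_359 c) (Nat.ble 356 c)
noncomputable def finTab_s_347_359 (c : Nat) : Nat := @Bool.rec (fun _ => Nat) (finTab_s_347_353 c) (finTab_s_353_359 c) (Nat.ble 353 c)
noncomputable def finTab_s_336_359 (c : Nat) : Nat := @Bool.rec (fun _ => Nat) (finTab_s_336_347 c) (finTab_s_347_359 c) (Nat.ble 347 c)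
noncomputable def finTab_s_314_359 (c : Nat) : Nat := @Bool.rec (fun _ => Nat) (finTab_s_314_336 c) (finTab_s_336_359 c) (Nat.ble 336 c)
noncomputable def finTab_s_269_359 (c : Nat) : Nat := @Bool.rec (fun _ => Nat) (finTab_s_269_314 c) (finTab_s_314_359 c) (Nat.ble 314 c)
noncomputable def finTab_s_179_359 (c : Nat) : Nat := @Bool.rec (fun _ => Nat) (finTab_s_179_269 c) (finTab_s_269_359 c) (Nat.ble 269 c)
noncomputable def finTab_s_0_359 (c : Nat) : Nat := @Bool.rec (fun _ => Nat) (finTab_s_0_179 c) (finTab_s_179_359 c) (Nat.ble 179 c)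
noncomputable def finTab (i : Nat) : Nat := rdw 21 2097151 (finTab_s_0_359 (Nat.shiftRight i 12)) (Nat.land i 4095)
noncomputable def clsTab_s_0_2 (c : Nat) : Nat := @Bool.rec (fun _ => Nat) (clsTab_0) (clsTab_1) (Nat.ble 1 c)
noncomputable def clsTab_s_3_5 (c : Nat) : Nat := @Bool.rec (fun _ => Nat) (clsTab_3) (clsTab_4) (Nat.ble 4 c)
noncomputable def clsTab_s_2_5 (c : Nat) : Nat := @Bool.rec (fun _ => Nat) (clsTab_2) (clsTab_s_3_5 c) (Nat.ble 3 c)
noncomputable def clsTab_s_0_5 (c : Nat) : Nat := @Bool.rec (fun _ => Nat) (clsTab_s_0_2 c) (clsTab_s_2_5 c) (Nat.ble 2 c)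
noncomputable def clsTab_s_6_8 (c : Nat) : Nat := @Bool.rec (fun _ => Nat) (clsTab_6) (clsTab_7) (Nat.ble 7 c)
noncomputable def clsTab_s_5_8 (c : Nat) : Nat := @Bool.rec (fun _ => Nat) (clsTab_5) (clsTab_s_6_8 c) (Nat.ble 6 c)
noncomputable def clsTab_s_9_11 (c : Nat) : Nat := @Bool.rec (fun _ => Nat) (clsTab_9) (clsTab_10) (Nat.ble 10 c)
noncomputable def clsTab_s_8_11 (c : Nat) : Nat := @Bool.rec (fun _ => Nat) (clsTab_8) (clsTab_s_9_11 c) (Nat.ble 9 c)
noncomputable def clsTab_s_5_11 (c : Nat) : Nat := @Bool.rec (fun _ => Nat) (clsTab_s_5_8 c) (clsTab_s_8_11 c) (Nat.ble 8 c)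
noncomputable def clsTab_s_0_11 (c : Nat) : Nat := @Bool.rec (fun _ => Nat) (clsTab_s_0_5 c) (clsTab_s_5_11 c) (Nat.ble 5 c)
noncomputable def clsTab_s_11_13 (c : Nat) : Nat := @Bool.rec (fun _ => Nat) (clsTab_11) (clsTab_12) (Nat.ble 12 c)
noncomputable def clsTab_s_14_16 (c : Nat) : Nat := @Bool.rec (fun _ => Nat) (clsTab_14) (clsTab_15) (Nat.ble 15 c)
noncomputable def clsTab_s_13_16 (c : Nat) : Nat := @Bool.rec (fun _ => Nat) (clsTab_13) (clsTab_s_14_16 c) (Nat.ble 14 c)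
noncomputable def clsTab_s_11_16 (c : Nat) : Nat := @Bool.rec (fun _ => Nat) (clsTab_s_11_13 c) (clsTab_s_13_16 c) (Nat.ble 13 c)
noncomputable def clsTab_s_17_19 (c : Nat) : Nat := @Bool.rec (fun _ => Nat) (clsTab_17) (clsTab_18) (Nat.ble 18 c)
noncomputable def clsTab_s_16_19 (c : Nat) : Nat := @Bool.rec (fun _ => Nat) (clsTab_16) (clsTab_s_17_19 c) (Nat.ble 17 c)
noncomputable def clsTab_s_20_22 (c : Nat) : Nat := @Bool.rec (fun _ => Nat) (clsTab_20) (clsTab_21) (Nat.ble 21 c)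
noncomputable def clsTab_s_19_22 (c : Nat) : Nat := @Bool.rec (fun _ => Nat) (clsTab_19) (clsTab_s_20_22 c) (Nat.ble 20 c)
noncomputable def clsTab_s_16_22 (c : Nat) : Nat := @Bool.rec (fun _ => Nat) (clsTab_s_16_19 c) (clsTab_s_19_22 c) (Nat.ble 19 c)
noncomputable def clsTab_s_11_22 (c : Nat) : Nat := @Bool.rec (fun _ => Nat) (clsTab_s_11_16 c) (clsTab_s_16_22 c) (Nat.ble 16 c)
noncomputable def clsTab_s_0_22 (c : Nat) : Nat := @Bool.rec (fun _ => Nat) (clsTab_s_0_11 c) (clsTab_s_11_22 c) (Nat.ble 11 c)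
noncomputable def clsTab (i : Nat) : Nat := rdw 17 131071 (clsTab_s_0_22 (Nat.shiftRight i 12)) (Nat.land i 4095)
noncomputable def oparTab_s_0_2 (c : Nat) : Nat := @Bool.rec (fun _ => Nat) (oparTab_0) (oparTab_1) (Nat.ble 1 c)
noncomputable def oparTab_s_2_4 (c : Nat) : Nat := @Bool.rec (fun _ => Nat) (oparTab_2) (oparTab_3) (Nat.ble 3 c)
noncomputable def oparTab_s_0_4 (c : Nat) : Nat := @Bool.rec (fun _ => Nat) (oparTab_s_0_2 c) (oparTab_s_2_4 c) (Nat.ble 2 c)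
noncomputable def oparTab_s_4_6 (c : Nat) : Nat := @Bool.rec (fun _ => Nat) (oparTab_4) (oparTab_5) (Nat.ble 5 c)
noncomputable def oparTab_s_6_8 (c : Nat) : Nat := @Bool.rec (fun _ => Nat) (oparTab_6) (oparTab_7) (Nat.ble 7 c)
noncomputable def oparTab_s_4_8 (c : Nat) : Nat := @Bool.rec (fun _ => Nat) (oparTab_s_4_6 c) (oparTab_s_6_8 c) (Nat.ble 6 c)
noncomputable def oparTab_s_0_8 (c : Nat) : Nat := @Bool.rec (fun _ => Nat) (oparTab_s_0_4 c) (oparTab_s_4_8 c) (Nat.ble 4 c)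
noncomputable def oparTab_s_8_10 (c : Nat) : Nat := @Bool.rec (fun _ => Nat) (oparTab_8) (oparTab_9) (Nat.ble 9 c)
noncomputable def oparTab_s_10_12 (c : Nat) : Nat := @Bool.rec (fun _ => Nat) (oparTab_10) (oparTab_11) (Nat.ble 11 c)
noncomputable def oparTab_s_8_12 (c : Nat) : Nat := @Bool.rec (fun _ => Nat) (oparTab_s_8_10 c) (oparTab_s_10_12 c) (Nat.ble 10 c)
noncomputable def oparTab_s_12_14 (c : Nat) : Nat := @Bool.rec (fun _ => Nat) (oparTab_12) (oparTab_13) (Nat.ble 13 c)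
noncomputable def oparTab_s_15_17 (c : Nat) : Nat := @Bool.rec (fun _ => Nat) (oparTab_15) (oparTab_16) (Nat.ble 16 c)
noncomputable def oparTab_s_14_17 (c : Nat) : Nat := @Bool.rec (fun _ => Nat) (oparTab_14) (oparTab_s_15_17 c) (Nat.ble 15 c)
noncomputable def oparTab_s_12_17 (c : Nat) : Nat := @Bool.rec (fun _ => Nat) (oparTab_s_12_14 c) (oparTab_s_14_17 c) (Nat.ble 14 c)
noncomputable def oparTab_s_8_17 (c : Nat) : Nat := @Bool.rec (fun _ => Nat) (oparTab_s_8_12 c) (oparTab_s_12_17 c) (Nat.ble 12 c)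
noncomputable def oparTab_s_0_17 (c : Nat) : Nat := @Bool.rec (fun _ => Nat) (oparTab_s_0_8 c) (oparTab_s_8_17 c) (Nat.ble 8 c)
noncomputable def oparTab (i : Nat) : Nat := rdw 17 131071 (oparTab_s_0_17 (Nat.shiftRight i 12)) (Nat.land i 4095)
noncomputable def olabTab_s_1_3 (c : Nat) : Nat := @Bool.rec (fun _ => Nat) (olabTab_1) (olabTab_2) (Nat.ble 2 c)
noncomputable def olabTab_s_0_3 (c : Nat) : Nat := @Bool.rec (fun _ => Nat) (olabTab_0) (olabTab_s_1_3 c) (Nat.ble 1 c)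
noncomputable def olabTab (i : Nat) : Nat := rdw 2 3 (olabTab_s_0_3 (Nat.shiftRight i 15)) (Nat.land i 32767)
noncomputable def srcF (t : Nat) : Nat := Nat.land (Atab t) 131071
noncomputable def tgtF (t : Nat) : Nat := Nat.land (Nat.shiftRight (Atab t) 17) 131071
noncomputable def ltF (t : Nat) : Nat := Nat.shiftRight (Atab t) 34
noncomputable def rhoF (t : Nat) : Nat := Nat.land (Btab (Nat.sub t 88119)) 255
noncomputable def rotF (t : Nat) : Nat := Nat.land (Nat.shiftRight (Btab (Nat.sub t 88119)) 8) 31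
noncomputable def lenF (t : Nat) : Nat := Nat.land (Nat.shiftRight (Btab (Nat.sub t 88119)) 13) 63
noncomputable def offF (t : Nat) : Nat := Nat.shiftRight (Btab (Nat.sub t 88119)) 19
noncomputable def pfF (j : Nat) : Nat := Nat.shiftRight (Ptab j) 1
noncomputable def pdF (j : Nat) : Nat := Nat.land (Ptab j) 1
noncomputable def tblF (i x : Nat) : Nat := @Bool.rec (fun _ => Nat) (@Bool.rec (fun _ => Nat) (@Bool.rec (fun _ => Nat) (@Bool.rec (fun _ => Nat) (col0 i) (col1 i) (Nat.ble 1 x)) (@Bool.rec (fun _ => Nat) (col2 i) (@Bool.rec (fun _ => Nat) (col3 i) (col4 i) (Nat.ble 4 x)) (Nat.ble 3 x)) (Nat.ble 2 x)) (@Bool.rec (fun _ => Nat) (@Bool.rec (fun _ => Nat) (col5 i) (@Bool.rec (fun _ => Nat) (col6 i) (col7 i) (Nat.ble 7 x)) (Nat.ble 6 x)) (@Bool.rec (fun _ => Nat) (col8 i) (@Bool.rec (fun _ => Nat) (col9 i) (col10 i) (Nat.ble 10 x)) (Nat.ble 9 x)) (Nat.ble 8 x)) (Nat.ble 5 x)) (@Bool.rec (fun _ => Nat) (@Bool.rec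 (fun _ => Nat) (@Bool.rec (fun _ => Nat) (col11 i) (col12 i) (Nat.ble 12 x)) (@Bool.rec (fun _ => Nat) (col13 i) (@Bool.rec (fun _ => Nat) (col14 i) (col15 i) (Nat.ble 15 x)) (Nat.ble 14 x)) (Nat.ble 13 x)) (@Bool.rec (fun _ => Nat) (@Bool.rec (fun _ => Nat) (col16 i) (@Bool.rec (fun _ => Nat) (col17 i) (col18 i) (Nat.ble 18 x)) (Nat.ble 17 x)) (@Bool.rec (fun _ => Nat) (col19 i) (@Bool.rec (fun _ => Nat) (col20 i) (col21 i) (Nat.ble 21 x)) (Nat.ble 20 x)) (Nat.ble 19 x)) (Nat.ble 16 x)) (Nat.ble 11 x)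
noncomputable def finE (i x : Nat) : Nat := finTab (Nat.add (Nat.mul i 22) x)
noncomputable def finFF (i x : Nat) : Nat := Nat.shiftRight (finE i x) 1
noncomputable def finDF (i x : Nat) : Nat := Nat.land (finE i x) 1

noncomputable def D : Log :=
  { k := 22, inv := invE 22 PSC3McLp5.invR, nR := 164, rBase := rBtab, rLen := rLtab, RR := RRtab,
    M := 88115, nB := 4, F := 919392, src := srcF, lt := ltF, tgt := tgtF, rho := rhoF, rot := rotF,
    off := offF, len := lenF, pf := pfF, pd := pdF }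

noncomputable def T : Tab :=
  { N := 66825, nameOf := nameTab, tbl := tblF, finF := finFF, finD := finDF, cls := clsTab }

def subs : List (List Nat) := [
  [0],
  [2] ]

def rw0 : List Nat := [0, 0, 0, 0, 0, 0, 0]
def rw1 : List Nat := [2, 2, 2, 2, 2, 2, 2]
def rw2 : List Nat := [4, 4, 4]
def rw3 : List Nat := [7, 0, 0, 0, 3, 4, 1, 1, 3, 0, 3, 0, 5, 3, 3, 0, 2]
def rw4 : List Nat := [9, 0, 0, 3, 0, 2, 2, 5, 0, 2, 1, 3, 1, 5, 2, 0, 3]
def rw5 : List Nat := [11, 0, 0, 2, 1, 3, 0, 2, 0, 5, 2, 2, 0, 2, 0, 5, 3, 6]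
def rw6 : List Nat := [13, 0, 0, 2, 0, 3, 5, 0, 2, 0, 0, 4, 1, 4, 0, 0, 3, 3]
def rw7 : List Nat := [15, 6, 6, 6]
def rw8 : List Nat := [17, 7, 1, 6, 0]
def rw9 : List Nat := [19, 7, 3, 6, 2]
def rw10 : List Nat := [21, 7, 5, 6, 4]
def rw11 : List Nat := [8, 8, 8, 8, 8]
def rw12 : List Nat := [10, 10, 10, 10, 10]
def rw13 : List Nat := [12, 12, 12, 12, 12]
def rw14 : List Nat := [14, 14, 14, 14, 14]
def rw15 : List Nat := [16, 16, 16, 16, 16]
def rw16 : List Nat := [18, 18, 18, 18, 18]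
def rw17 : List Nat := [20, 20, 20, 20, 20]
def rw18 : List Nat := [8, 0, 9, 1]
def rw19 : List Nat := [8, 2, 9, 3]
def rw20 : List Nat := [8, 4, 9, 5]
def rw21 : List Nat := [8, 6, 9, 7]
def rw22 : List Nat := [10, 0, 11, 1]
def rw23 : List Nat := [10, 2, 11, 3]
def rw24 : List Nat := [10, 4, 11, 5]
def rw25 : List Nat := [10, 6, 11, 7]
def rw26 : List Nat := [12, 0, 13, 1]
def rw27 : List Nat := [12, 2, 13, 3]
def rw28 : List Nat := [12, 4, 13, 5]
def rw29 : List Nat := [12, 6, 13, 7]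
def rw30 : List Nat := [14, 0, 15, 1]
def rw31 : List Nat := [14, 2, 15, 3]
def rw32 : List Nat := [14, 4, 15, 5]
def rw33 : List Nat := [14, 6, 15, 7]
def rw34 : List Nat := [16, 0, 17, 1]
def rw35 : List Nat := [16, 2, 17, 3]
def rw36 : List Nat := [16, 4, 17, 5]
def rw37 : List Nat := [16, 6, 17, 7]
def rw38 : List Nat := [18, 0, 19, 1]
def rw39 : List Nat := [18, 2, 19, 3]
def rw40 : List Nat := [18, 4, 19, 5]
def rw41 : List Nat := [18, 6, 19, 7]
def rw42 : List Nat := [20, 0, 21, 1]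
def rw43 : List Nat := [20, 2, 21, 3]
def rw44 : List Nat := [20, 4, 21, 5]
def rw45 : List Nat := [20, 6, 21, 7]
def rw46 : List Nat := [0, 0, 0, 0, 0, 0, 0]
def rw47 : List Nat := [2, 2, 2, 2, 2, 2, 2]
def rw48 : List Nat := [0, 0, 2, 0, 2, 2, 2, 1, 2, 2, 1, 2]
def rw49 : List Nat := [0, 2, 0, 3, 1, 3, 3, 1, 2, 0, 2, 2]
def rw50 : List Nat := [4, 1, 3, 1, 1, 2, 0, 3, 5, 0, 3, 0, 2, 0, 0, 2, 0, 0]
def rw51 : List Nat := [4, 2, 1, 3, 0, 0, 2, 0, 5, 1, 3, 1, 3, 0, 3, 3, 1, 1]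
def rw52 : List Nat := [4, 0, 2, 0, 2, 1, 1, 3, 3, 5, 1, 3, 1, 1, 1, 2, 1, 1]
def rw53 : List Nat := [4, 2, 2, 0, 0, 3, 1, 3, 1, 5, 0, 0, 3, 0, 0, 0, 2, 0]
def rw54 : List Nat := [5, 0, 0, 2, 1, 3, 3, 4, 3, 1, 3, 1, 1, 1, 2, 2, 1, 1]
def rw55 : List Nat := [5, 2, 2, 0, 3, 1, 1, 4, 1, 2, 0, 3, 1, 2, 2, 0, 3, 0]
def rw56 : List Nat := [5, 0, 0, 3, 0, 0, 0, 2, 0, 4, 2, 2, 0, 0, 3, 1, 3, 1]
def rw57 : List Nat := [5, 1, 3, 1, 1, 1, 2, 1, 1, 4, 0, 2, 0, 2, 1, 1, 3, 3]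
def realLit : List (List Nat) := [rw0, rw1, rw2, rw3, rw4, rw5, rw6, rw7, rw8, rw9, rw10, rw11, rw12, rw13, rw14, rw15, rw16, rw17, rw18, rw19, rw20, rw21, rw22, rw23, rw24, rw25, rw26, rw27, rw28, rw29, rw30, rw31, rw32, rw33, rw34, rw35, rw36, rw37, rw38, rw39, rw40, rw41, rw42, rw43, rw44, rw45, rw46, rw47, rw48, rw49, rw50, rw51, rw52, rw53, rw54, rw55, rw56, rw57]
noncomputable def actR0 (i : Nat) : Nat := col1 (col1 (col1 (col1 (col1 (col1 (col1 (i)))))))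
theorem actR0_eq (i : Nat) : actR0 i = Tab.act T D rw0 i := rfl
noncomputable def actR1 (i : Nat) : Nat := col3 (col3 (col3 (col3 (col3 (col3 (col3 (i)))))))
theorem actR1_eq (i : Nat) : actR1 i = Tab.act T D rw1 i := rfl
noncomputable def actR2 (i : Nat) : Nat := col5 (col5 (col5 (i)))
theorem actR2_eq (i : Nat) : actR2 i = Tab.act T D rw2 i := rfl
noncomputable def actR3 (i : Nat) : Nat := col6 (col1 (col1 (col1 (col2 (col5 (col0 (col0 (col2 (col1 (col2 (col1 (col4 (col2 (col2 (col1 (col3 (i)))))))))))))))))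
theorem actR3_eq (i : Nat) : actR3 i = Tab.act T D rw3 i := rfl
noncomputable def actR4 (i : Nat) : Nat := col8 (col1 (col1 (col2 (col1 (col3 (col3 (col4 (col1 (col3 (col0 (col2 (col0 (col4 (col3 (col1 (col2 (i)))))))))))))))))
theorem actR4_eq (i : Nat) : actR4 i = Tab.act T D rw4 i := rfl
noncomputable def actR5 (i : Nat) : Nat := col10 (col1 (col1 (col3 (col0 (col2 (col1 (col3 (col1 (col4 (col3 (col3 (col1 (col3 (col1 (col4 (col2 (col7 (i))))))))))))))))))
theorem actR5_eq (i : Nat) : actR5 i = Tab.act T D rw5 i := rfl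
noncomputable def actR6 (i : Nat) : Nat := col12 (col1 (col1 (col3 (col1 (col2 (col4 (col1 (col3 (col1 (col1 (col5 (col0 (col5 (col1 (col1 (col2 (col2 (i))))))))))))))))))
theorem actR6_eq (i : Nat) : actR6 i = Tab.act T D rw6 i := rfl
noncomputable def actR7 (i : Nat) : Nat := col14 (col7 (col7 (col7 (i))))
theorem actR7_eq (i : Nat) : actR7 i = Tab.act T D rw7 i := rfl
noncomputable def actR8 (i : Nat) : Nat := col16 (col6 (col0 (col7 (col1 (i)))))
theorem actR8_eq (i : Nat) : actR8 i = Tab.act T D rw8 i := rfl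
noncomputable def actR9 (i : Nat) : Nat := col18 (col6 (col2 (col7 (col3 (i)))))
theorem actR9_eq (i : Nat) : actR9 i = Tab.act T D rw9 i := rfl
noncomputable def actR10 (i : Nat) : Nat := col20 (col6 (col4 (col7 (col5 (i)))))
theorem actR10_eq (i : Nat) : actR10 i = Tab.act T D rw10 i := rfl
noncomputable def actR11 (i : Nat) : Nat := col9 (col9 (col9 (col9 (col9 (i)))))
theorem actR11_eq (i : Nat) : actR11 i = Tab.act T D rw11 i := rfl
noncomputable def actR12 (i : Nat) : Nat := col11 (col11 (col11 (col11 (col11 (i)))))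
theorem actR12_eq (i : Nat) : actR12 i = Tab.act T D rw12 i := rfl
noncomputable def actR13 (i : Nat) : Nat := col13 (col13 (col13 (col13 (col13 (i)))))
theorem actR13_eq (i : Nat) : actR13 i = Tab.act T D rw13 i := rfl
noncomputable def actR14 (i : Nat) : Nat := col15 (col15 (col15 (col15 (col15 (i)))))
theorem actR14_eq (i : Nat) : actR14 i = Tab.act T D rw14 i := rfl
noncomputable def actR15 (i : Nat) : Nat := col17 (col17 (col17 (col17 (col17 (i)))))
theorem actR15_eq (i : Nat) : actR15 i = Tab.act T D rw15 i := rfl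
noncomputable def actR16 (i : Nat) : Nat := col19 (col19 (col19 (col19 (col19 (i)))))
theorem actR16_eq (i : Nat) : actR16 i = Tab.act T D rw16 i := rfl
noncomputable def actR17 (i : Nat) : Nat := col21 (col21 (col21 (col21 (col21 (i)))))
theorem actR17_eq (i : Nat) : actR17 i = Tab.act T D rw17 i := rfl
noncomputable def actR18 (i : Nat) : Nat := col9 (col1 (col8 (col0 (i))))
theorem actR18_eq (i : Nat) : actR18 i = Tab.act T D rw18 i := rfl
noncomputable def actR19 (i : Nat) : Nat := col9 (col3 (col8 (col2 (i))))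
theorem actR19_eq (i : Nat) : actR19 i = Tab.act T D rw19 i := rfl
noncomputable def actR20 (i : Nat) : Nat := col9 (col5 (col8 (col4 (i))))
theorem actR20_eq (i : Nat) : actR20 i = Tab.act T D rw20 i := rfl
noncomputable def actR21 (i : Nat) : Nat := col9 (col7 (col8 (col6 (i))))
theorem actR21_eq (i : Nat) : actR21 i = Tab.act T D rw21 i := rfl
noncomputable def actR22 (i : Nat) : Nat := col11 (col1 (col10 (col0 (i))))
theorem actR22_eq (i : Nat) : actR22 i = Tab.act T D rw22 i := rfl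
noncomputable def actR23 (i : Nat) : Nat := col11 (col3 (col10 (col2 (i))))
theorem actR23_eq (i : Nat) : actR23 i = Tab.act T D rw23 i := rfl
noncomputable def actR24 (i : Nat) : Nat := col11 (col5 (col10 (col4 (i))))
theorem actR24_eq (i : Nat) : actR24 i = Tab.act T D rw24 i := rfl
noncomputable def actR25 (i : Nat) : Nat := col11 (col7 (col10 (col6 (i))))
theorem actR25_eq (i : Nat) : actR25 i = Tab.act T D rw25 i := rfl
noncomputable def actR26 (i : Nat) : Nat := col13 (col1 (col12 (col0 (i))))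
theorem actR26_eq (i : Nat) : actR26 i = Tab.act T D rw26 i := rfl
noncomputable def actR27 (i : Nat) : Nat := col13 (col3 (col12 (col2 (i))))
theorem actR27_eq (i : Nat) : actR27 i = Tab.act T D rw27 i := rfl
noncomputable def actR28 (i : Nat) : Nat := col13 (col5 (col12 (col4 (i))))
theorem actR28_eq (i : Nat) : actR28 i = Tab.act T D rw28 i := rfl
noncomputable def actR29 (i : Nat) : Nat := col13 (col7 (col12 (col6 (i))))
theorem actR29_eq (i : Nat) : actR29 i = Tab.act T D rw29 i := rfl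
noncomputable def actR30 (i : Nat) : Nat := col15 (col1 (col14 (col0 (i))))
theorem actR30_eq (i : Nat) : actR30 i = Tab.act T D rw30 i := rfl
noncomputable def actR31 (i : Nat) : Nat := col15 (col3 (col14 (col2 (i))))
theorem actR31_eq (i : Nat) : actR31 i = Tab.act T D rw31 i := rfl
noncomputable def actR32 (i : Nat) : Nat := col15 (col5 (col14 (col4 (i))))
theorem actR32_eq (i : Nat) : actR32 i = Tab.act T D rw32 i := rfl
noncomputable def actR33 (i : Nat) : Nat := col15 (col7 (col14 (col6 (i))))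
theorem actR33_eq (i : Nat) : actR33 i = Tab.act T D rw33 i := rfl
noncomputable def actR34 (i : Nat) : Nat := col17 (col1 (col16 (col0 (i))))
theorem actR34_eq (i : Nat) : actR34 i = Tab.act T D rw34 i := rfl
noncomputable def actR35 (i : Nat) : Nat := col17 (col3 (col16 (col2 (i))))
theorem actR35_eq (i : Nat) : actR35 i = Tab.act T D rw35 i := rfl
noncomputable def actR36 (i : Nat) : Nat := col17 (col5 (col16 (col4 (i))))
theorem actR36_eq (i : Nat) : actR36 i = Tab.act T D rw36 i := rfl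
noncomputable def actR37 (i : Nat) : Nat := col17 (col7 (col16 (col6 (i))))
theorem actR37_eq (i : Nat) : actR37 i = Tab.act T D rw37 i := rfl
noncomputable def actR38 (i : Nat) : Nat := col19 (col1 (col18 (col0 (i))))
theorem actR38_eq (i : Nat) : actR38 i = Tab.act T D rw38 i := rfl
noncomputable def actR39 (i : Nat) : Nat := col19 (col3 (col18 (col2 (i))))
theorem actR39_eq (i : Nat) : actR39 i = Tab.act T D rw39 i := rfl
noncomputable def actR40 (i : Nat) : Nat := col19 (col5 (col18 (col4 (i))))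
theorem actR40_eq (i : Nat) : actR40 i = Tab.act T D rw40 i := rfl
noncomputable def actR41 (i : Nat) : Nat := col19 (col7 (col18 (col6 (i))))
theorem actR41_eq (i : Nat) : actR41 i = Tab.act T D rw41 i := rfl
noncomputable def actR42 (i : Nat) : Nat := col21 (col1 (col20 (col0 (i))))
theorem actR42_eq (i : Nat) : actR42 i = Tab.act T D rw42 i := rfl
noncomputable def actR43 (i : Nat) : Nat := col21 (col3 (col20 (col2 (i))))
theorem actR43_eq (i : Nat) : actR43 i = Tab.act T D rw43 i := rfl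
noncomputable def actR44 (i : Nat) : Nat := col21 (col5 (col20 (col4 (i))))
theorem actR44_eq (i : Nat) : actR44 i = Tab.act T D rw44 i := rfl
noncomputable def actR45 (i : Nat) : Nat := col21 (col7 (col20 (col6 (i))))
theorem actR45_eq (i : Nat) : actR45 i = Tab.act T D rw45 i := rfl
noncomputable def actR46 (i : Nat) : Nat := col1 (col1 (col1 (col1 (col1 (col1 (col1 (i)))))))
theorem actR46_eq (i : Nat) : actR46 i = Tab.act T D rw46 i := rfl
noncomputable def actR47 (i : Nat) : Nat := col3 (col3 (col3 (col3 (col3 (col3 (col3 (i)))))))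
theorem actR47_eq (i : Nat) : actR47 i = Tab.act T D rw47 i := rfl
noncomputable def actR48 (i : Nat) : Nat := col1 (col1 (col3 (col1 (col3 (col3 (col3 (col0 (col3 (col3 (col0 (col3 (i))))))))))))
theorem actR48_eq (i : Nat) : actR48 i = Tab.act T D rw48 i := rfl
noncomputable def actR49 (i : Nat) : Nat := col1 (col3 (col1 (col2 (col0 (col2 (col2 (col0 (col3 (col1 (col3 (col3 (i))))))))))))
theorem actR49_eq (i : Nat) : actR49 i = Tab.act T D rw49 i := rfl
noncomputable def actR50 (i : Nat) : Nat := col5 (col0 (col2 (col0 (col0 (col3 (col1 (col2 (col4 (col1 (col2 (col1 (col3 (col1 (col1 (col3 (col1 (col1 (i))))))))))))))))))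
theorem actR50_eq (i : Nat) : actR50 i = Tab.act T D rw50 i := rfl
noncomputable def actR51 (i : Nat) : Nat := col5 (col3 (col0 (col2 (col1 (col1 (col3 (col1 (col4 (col0 (col2 (col0 (col2 (col1 (col2 (col2 (col0 (col0 (i))))))))))))))))))
theorem actR51_eq (i : Nat) : actR51 i = Tab.act T D rw51 i := rfl
noncomputable def actR52 (i : Nat) : Nat := col5 (col1 (col3 (col1 (col3 (col0 (col0 (col2 (col2 (col4 (col0 (col2 (col0 (col0 (col0 (col3 (col0 (col0 (i))))))))))))))))))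
theorem actR52_eq (i : Nat) : actR52 i = Tab.act T D rw52 i := rfl
noncomputable def actR53 (i : Nat) : Nat := col5 (col3 (col3 (col1 (col1 (col2 (col0 (col2 (col0 (col4 (col1 (col1 (col2 (col1 (col1 (col1 (col3 (col1 (i))))))))))))))))))
theorem actR53_eq (i : Nat) : actR53 i = Tab.act T D rw53 i := rfl
noncomputable def actR54 (i : Nat) : Nat := col4 (col1 (col1 (col3 (col0 (col2 (col2 (col5 (col2 (col0 (col2 (col0 (col0 (col0 (col3 (col3 (col0 (col0 (i))))))))))))))))))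
theorem actR54_eq (i : Nat) : actR54 i = Tab.act T D rw54 i := rfl
noncomputable def actR55 (i : Nat) : Nat := col4 (col3 (col3 (col1 (col2 (col0 (col0 (col5 (col0 (col3 (col1 (col2 (col0 (col3 (col3 (col1 (col2 (col1 (i))))))))))))))))))
theorem actR55_eq (i : Nat) : actR55 i = Tab.act T D rw55 i := rfl
noncomputable def actR56 (i : Nat) : Nat := col4 (col1 (col1 (col2 (col1 (col1 (col1 (col3 (col1 (col5 (col3 (col3 (col1 (col1 (col2 (col0 (col2 (col0 (i))))))))))))))))))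
theorem actR56_eq (i : Nat) : actR56 i = Tab.act T D rw56 i := rfl
noncomputable def actR57 (i : Nat) : Nat := col4 (col0 (col2 (col0 (col0 (col0 (col3 (col0 (col0 (col5 (col1 (col3 (col1 (col3 (col0 (col0 (col2 (col2 (i))))))))))))))))))
theorem actR57_eq (i : Nat) : actR57 i = Tab.act T D rw57 i := rfl

end Cfsg.Agent.Lib.Helper4.TCD.SC3McLp5A
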