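import Cfsg.Agent.Lib.Helper4.TCD_SC3McLp5A_Acc

namespace Cfsg.Agent.Lib.Helper4.TCD.SC3McLp5A

open Cfsg.Agent.Lib.Helper4.TC

set_option maxRecDepth 100000
set_option Elab.async false

theorem c_zero : D.zeroOK = true := by decide +kernel
theorem c_base : allBelow D.baseOK 4 = true := by decide +kernel
theorem c_let : allBelow D.letOK 22 = true := by decide +kernel
theorem c_cls0 : T.cls 0 = 0 := by decide +kernel
theorem c_name0 : T.nameOf 0 = 0 := by decide +kernel
theorem c_tab : D.relTabOK 0 (baseRels 22 PSC3McLp5.invR PSC3McLp5.P.real subs ++ (baseRels 22 PSC3McLp5.invR PSC3McLp5.P.real subs).map (invWord D.inv)) = true := by decide +kernel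
theorem c_real : PSC3McLp5.P.real = realLit := by decide +kernel
theorem c_subfix : subs.all (fun u => Nat.beq (Tab.act T D u 0) 0) = true := by decide +kernel
theorem c_subs : subs.all (fun u => u.all (fun x => Nat.ble (Nat.succ x) 22)) = true := by decide +kernel
theorem c_names_0 : allRange D.nameOK 1 60000 = true := by decide +kernel
theorem c_names_1 : allRange D.nameOK 60001 28114 = true := by decide +kernel
theorem c_cls_0 : allRange (T.clsOK D) 1 15000 = true := by decide +kernel
theorem c_cls_1 : allRange (T.clsOK D) 15001 15000 = true := by decide +kernel
theorem c_cls_2 : allRange (T.clsOK D) 30001 15000 = true := by decide +kernel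
theorem c_cls_3 : allRange (T.clsOK D) 45001 15000 = true := by decide +kernel
theorem c_cls_4 : allRange (T.clsOK D) 60001 15000 = true := by decide +kernel
theorem c_cls_5 : allRange (T.clsOK D) 75001 13114 = true := by decide +kernel
theorem c_rep_0 : allRange (T.repOK D) 0 30000 = true := by decide +kernel
theorem c_rep_1 : allRange (T.repOK D) 30000 30000 = true := by decide +kernel
theorem c_rep_2 : allRange (T.repOK D) 60000 6825 = true := by decide +kernel
theorem c_rel_0 : allRange D.relOK 88119 3330 = true := by decide +kernel
theorem c_rel_1 : allRange D.relOK 91449 3323 = true := by decide +kernel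
theorem c_rel_2 : allRange D.relOK 94772 3248 = true := by decide +kernel
theorem c_rel_3 : allRange D.relOK 98020 3185 = true := by decide +kernel
theorem c_rel_4 : allRange D.relOK 101205 3257 = true := by decide +kernel
theorem c_rel_5 : allRange D.relOK 104462 3222 = true := by decide +kernel
theorem c_rel_6 : allRange D.relOK 107684 3192 = true := by decide +kernel
theorem c_rel_7 : allRange D.relOK 110876 3452 = true := by decide +kernel
theorem c_rel_8 : allRange D.relOK 114328 3456 = true := by decide +kernel
theorem c_rel_9 : allRange D.relOK 117784 3711 = true := by decide +kernel
theorem c_rel_10 : allRange D.relOK 121495 2896 = true := by decide +kernel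
theorem c_rel_11 : allRange D.relOK 124391 3137 = true := by decide +kernel
theorem c_rel_12 : allRange D.relOK 127528 2895 = true := by decide +kernel
theorem c_rel_13 : allRange D.relOK 130423 3070 = true := by decide +kernel
theorem c_rel_14 : allRange D.relOK 133493 3336 = true := by decide +kernel
theorem c_rel_15 : allRange D.relOK 136829 3206 = true := by decide +kernel
theorem c_rel_16 : allRange D.relOK 140035 3297 = true := by decide +kernel
theorem c_rel_17 : allRange D.relOK 143332 3594 = true := by decide +kernel
theorem c_rel_18 : allRange D.relOK 146926 3150 = true := by decide +kernel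
theorem c_rel_19 : allRange D.relOK 150076 3545 = true := by decide +kernel
theorem c_rel_20 : allRange D.relOK 153621 3387 = true := by decide +kernel
theorem c_rel_21 : allRange D.relOK 157008 3416 = true := by decide +kernel
theorem c_rel_22 : allRange D.relOK 160424 3568 = true := by decide +kernel
theorem c_rel_23 : allRange D.relOK 163992 3121 = true := by decide +kernel
theorem c_rel_24 : allRange D.relOK 167113 2993 = true := by decide +kernel
theorem c_rel_25 : allRange D.relOK 170106 2901 = true := by decide +kernel
theorem c_rel_26 : allRange D.relOK 173007 2999 = true := by decide +kernel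
theorem c_rel_27 : allRange D.relOK 176006 2965 = true := by decide +kernel
theorem c_rel_28 : allRange D.relOK 178971 2976 = true := by decide +kernel
theorem c_rel_29 : allRange D.relOK 181947 3264 = true := by decide +kernel
theorem c_rel_30 : allRange D.relOK 185211 3554 = true := by decide +kernel
theorem c_rel_31 : allRange D.relOK 188765 3330 = true := by decide +kernel
theorem c_rel_32 : allRange D.relOK 192095 3561 = true := by decide +kernel
theorem c_rel_33 : allRange D.relOK 195656 3333 = true := by decide +kernel
theorem c_rel_34 : allRange D.relOK 198989 3585 = true := by decide +kernel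
theorem c_rel_35 : allRange D.relOK 202574 3170 = true := by decide +kernel
theorem c_rel_36 : allRange D.relOK 205744 2887 = true := by decide +kernel
theorem c_rel_37 : allRange D.relOK 208631 2871 = true := by decide +kernel
theorem c_rel_38 : allRange D.relOK 211502 2785 = true := by decide +kernel
theorem c_rel_39 : allRange D.relOK 214287 2833 = true := by decide +kernel
theorem c_rel_40 : allRange D.relOK 217120 3101 = true := by decide +kernel
theorem c_rel_41 : allRange D.relOK 220221 3466 = true := by decide +kernel
theorem c_rel_42 : allRange D.relOK 223687 3310 = true := by decide +kernel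
theorem c_rel_43 : allRange D.relOK 226997 3458 = true := by decide +kernel
theorem c_rel_44 : allRange D.relOK 230455 3376 = true := by decide +kernel
theorem c_rel_45 : allRange D.relOK 233831 3359 = true := by decide +kernel
theorem c_rel_46 : allRange D.relOK 237190 3387 = true := by decide +kernel
theorem c_rel_47 : allRange D.relOK 240577 3404 = true := by decide +kernel
theorem c_rel_48 : allRange D.relOK 243981 3478 = true := by decide +kernel
theorem c_rel_49 : allRange D.relOK 247459 2880 = true := by decide +kernel
theorem c_rel_50 : allRange D.relOK 250339 2845 = true := by decide +kernel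
theorem c_rel_51 : allRange D.relOK 253184 2879 = true := by decide +kernel
theorem c_rel_52 : allRange D.relOK 256063 3567 = true := by decide +kernel
theorem c_rel_53 : allRange D.relOK 259630 3397 = true := by decide +kernel
theorem c_rel_54 : allRange D.relOK 263027 3578 = true := by decide +kernel
theorem c_rel_55 : allRange D.relOK 266605 3355 = true := by decide +kernel
theorem c_rel_56 : allRange D.relOK 269960 3484 = true := by decide +kernel
theorem c_rel_57 : allRange D.relOK 273444 2723 = true := by decide +kernel
theorem c_rel_58 : allRange D.relOK 276167 2598 = true := by decide +kernel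
theorem c_rel_59 : allRange D.relOK 278765 2972 = true := by decide +kernel
theorem c_rel_60 : allRange D.relOK 281737 3469 = true := by decide +kernel
theorem c_rel_61 : allRange D.relOK 285206 3202 = true := by decide +kernel
theorem c_rel_62 : allRange D.relOK 288408 3402 = true := by decide +kernel
theorem c_rel_63 : allRange D.relOK 291810 3367 = true := by decide +kernel
theorem c_rel_64 : allRange D.relOK 295177 3276 = true := by decide +kernel
theorem c_rel_65 : allRange D.relOK 298453 3513 = true := by decide +kernel
theorem c_rel_66 : allRange D.relOK 301966 2979 = true := by decide +kernel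
theorem c_rel_67 : allRange D.relOK 304945 2550 = true := by decide +kernel
theorem c_rel_68 : allRange D.relOK 307495 2905 = true := by decide +kernel
theorem c_rel_69 : allRange D.relOK 310400 2509 = true := by decide +kernel
theorem c_rel_70 : allRange D.relOK 312909 2967 = true := by decide +kernel
theorem c_rel_71 : allRange D.relOK 315876 3044 = true := by decide +kernel
theorem c_rel_72 : allRange D.relOK 318920 3051 = true := by decide +kernel
theorem c_rel_73 : allRange D.relOK 321971 2699 = true := by decide +kernel
theorem c_rel_74 : allRange D.relOK 324670 2708 = true := by decide +kernel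
theorem c_rel_75 : allRange D.relOK 327378 2972 = true := by decide +kernel
theorem c_rel_76 : allRange D.relOK 330350 3088 = true := by decide +kernel
theorem c_rel_77 : allRange D.relOK 333438 3568 = true := by decide +kernel
theorem c_rel_78 : allRange D.relOK 337006 3274 = true := by decide +kernel
theorem c_rel_79 : allRange D.relOK 340280 3565 = true := by decide +kernel

end Cfsg.Agent.Lib.Helper4.TCD.SC3McLp5A
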