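import Cfsg.Agent.Lib.Helper4.TC7
import Cfsg.Agent.Lib.Helper4.TCP_SC3Suzp3
import Cfsg.Agent.Lib.Helper4.TCD_SC3Suzp3A_D0
import Cfsg.Agent.Lib.Helper4.TCD_SC3Suzp3A_D1
import Cfsg.Agent.Lib.Helper4.TCD_SC3Suzp3A_D2
import Cfsg.Agent.Lib.Helper4.TCD_SC3Suzp3A_D3
import Cfsg.Agent.Lib.Helper4.TCD_SC3Suzp3A_D4
import Cfsg.Agent.Lib.Helper4.TCD_SC3Suzp3A_D5
import Cfsg.Agent.Lib.Helper4.TCD_SC3Suzp3A_D6
import Cfsg.Agent.Lib.Helper4.TCD_SC3Suzp3A_D7
import Cfsg.Agent.Lib.Helper4.TCD_SC3Suzp3A_D8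
import Cfsg.Agent.Lib.Helper4.TCD_SC3Suzp3A_D9

namespace Cfsg.Agent.Lib.Helper4.TCD.SC3Suzp3A

open Cfsg.Agent.Lib.Helper4.TC

set_option maxRecDepth 100000

noncomputable def Atab_s_0_2 (c : Nat) : Nat := @Bool.rec (fun _ => Nat) (Atab_0) (Atab_1) (Nat.ble 1 c)
noncomputable def Atab_s_3_5 (c : Nat) : Nat := @Bool.rec (fun _ => Nat) (Atab_3) (Atab_4) (Nat.ble 4 c)
noncomputable def Atab_s_2_5 (c : Nat) : Nat := @Bool.rec (fun _ => Nat) (Atab_2) (Atab_s_3_5 c) (Nat.ble 3 c)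
noncomputable def Atab_s_0_5 (c : Nat) : Nat := @Bool.rec (fun _ => Nat) (Atab_s_0_2 c) (Atab_s_2_5 c) (Nat.ble 2 c)
noncomputable def Atab_s_5_7 (c : Nat) : Nat := @Bool.rec (fun _ => Nat) (Atab_5) (Atab_6) (Nat.ble 6 c)
noncomputable def Atab_s_8_10 (c : Nat) : Nat := @Bool.rec (fun _ => Nat) (Atab_8) (Atab_9) (Nat.ble 9 c)
noncomputable def Atab_s_7_10 (c : Nat) : Nat := @Bool.rec (fun _ => Nat) (Atab_7) (Atab_s_8_10 c) (Nat.ble 8 c)
noncomputable def Atab_s_5_10 (c : Nat) : Nat := @Bool.rec (fun _ => Nat) (Atab_s_5_7 c) (Atab_s_7_10 c) (Nat.ble 7 c)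
noncomputable def Atab_s_0_10 (c : Nat) : Nat := @Bool.rec (fun _ => Nat) (Atab_s_0_5 c) (Atab_s_5_10 c) (Nat.ble 5 c)
noncomputable def Atab_s_10_12 (c : Nat) : Nat := @Bool.rec (fun _ => Nat) (Atab_10) (Atab_11) (Nat.ble 11 c)
noncomputable def Atab_s_13_15 (c : Nat) : Nat := @Bool.rec (fun _ => Nat) (Atab_13) (Atab_14) (Nat.ble 14 c)
noncomputable def Atab_s_12_15 (c : Nat) : Nat := @Bool.rec (fun _ => Nat) (Atab_12) (Atab_s_13_15 c) (Nat.ble 13 c)
noncomputable def Atab_s_10_15 (c : Nat) : Nat := @Bool.rec (fun _ => Nat) (Atab_s_10_12 c) (Atab_s_12_15 c) (Nat.ble 12 c)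
noncomputable def Atab_s_16_18 (c : Nat) : Nat := @Bool.rec (fun _ => Nat) (Atab_16) (Atab_17) (Nat.ble 17 c)
noncomputable def Atab_s_15_18 (c : Nat) : Nat := @Bool.rec (fun _ => Nat) (Atab_15) (Atab_s_16_18 c) (Nat.ble 16 c)
noncomputable def Atab_s_19_21 (c : Nat) : Nat := @Bool.rec (fun _ => Nat) (Atab_19) (Atab_20) (Nat.ble 20 c)
noncomputable def Atab_s_18_21 (c : Nat) : Nat := @Bool.rec (fun _ => Nat) (Atab_18) (Atab_s_19_21 c) (Nat.ble 19 c)
noncomputable def Atab_s_15_21 (c : Nat) : Nat := @Bool.rec (fun _ => Nat) (Atab_s_15_18 c) (Atab_s_18_21 c) (Nat.ble 18 c)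
noncomputable def Atab_s_10_21 (c : Nat) : Nat := @Bool.rec (fun _ => Nat) (Atab_s_10_15 c) (Atab_s_15_21 c) (Nat.ble 15 c)
noncomputable def Atab_s_0_21 (c : Nat) : Nat := @Bool.rec (fun _ => Nat) (Atab_s_0_10 c) (Atab_s_10_21 c) (Nat.ble 10 c)
noncomputable def Atab_s_21_23 (c : Nat) : Nat := @Bool.rec (fun _ => Nat) (Atab_21) (Atab_22) (Nat.ble 22 c)
noncomputable def Atab_s_24_26 (c : Nat) : Nat := @Bool.rec (fun _ => Nat) (Atab_24) (Atab_25) (Nat.ble 25 c)
noncomputable def Atab_s_23_26 (c : Nat) : Nat := @Bool.rec (fun _ => Nat) (Atab_23) (Atab_s_24_26 c) (Nat.ble 24 c)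
noncomputable def Atab_s_21_26 (c : Nat) : Nat := @Bool.rec (fun _ => Nat) (Atab_s_21_23 c) (Atab_s_23_26 c) (Nat.ble 23 c)
noncomputable def Atab_s_26_28 (c : Nat) : Nat := @Bool.rec (fun _ => Nat) (Atab_26) (Atab_27) (Nat.ble 27 c)
noncomputable def Atab_s_29_31 (c : Nat) : Nat := @Bool.rec (fun _ => Nat) (Atab_29) (Atab_30) (Nat.ble 30 c)
noncomputable def Atab_s_28_31 (c : Nat) : Nat := @Bool.rec (fun _ => Nat) (Atab_28) (Atab_s_29_31 c) (Nat.ble 29 c)
noncomputable def Atab_s_26_31 (c : Nat) : Nat := @Bool.rec (fun _ => Nat) (Atab_s_26_28 c) (Atab_s_28_31 c) (Nat.ble 28 c)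
noncomputable def Atab_s_21_31 (c : Nat) : Nat := @Bool.rec (fun _ => Nat) (Atab_s_21_26 c) (Atab_s_26_31 c) (Nat.ble 26 c)
noncomputable def Atab_s_31_33 (c : Nat) : Nat := @Bool.rec (fun _ => Nat) (Atab_31) (Atab_32) (Nat.ble 32 c)
noncomputable def Atab_s_34_36 (c : Nat) : Nat := @Bool.rec (fun _ => Nat) (Atab_34) (Atab_35) (Nat.ble 35 c)
noncomputable def Atab_s_33_36 (c : Nat) : Nat := @Bool.rec (fun _ => Nat) (Atab_33) (Atab_s_34_36 c) (Nat.ble 34 c)
noncomputable def Atab_s_31_36 (c : Nat) : Nat := @Bool.rec (fun _ => Nat) (Atab_s_31_33 c) (Atab_s_33_36 c) (Nat.ble 33 c)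
noncomputable def Atab_s_37_39 (c : Nat) : Nat := @Bool.rec (fun _ => Nat) (Atab_37) (Atab_38) (Nat.ble 38 c)
noncomputable def Atab_s_36_39 (c : Nat) : Nat := @Bool.rec (fun _ => Nat) (Atab_36) (Atab_s_37_39 c) (Nat.ble 37 c)
noncomputable def Atab_s_40_42 (c : Nat) : Nat := @Bool.rec (fun _ => Nat) (Atab_40) (Atab_41) (Nat.ble 41 c)
noncomputable def Atab_s_39_42 (c : Nat) : Nat := @Bool.rec (fun _ => Nat) (Atab_39) (Atab_s_40_42 c) (Nat.ble 40 c)
noncomputable def Atab_s_36_42 (c : Nat) : Nat := @Bool.rec (fun _ => Nat) (Atab_s_36_39 c) (Atab_s_39_42 c) (Nat.ble 39 c)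
noncomputable def Atab_s_31_42 (c : Nat) : Nat := @Bool.rec (fun _ => Nat) (Atab_s_31_36 c) (Atab_s_36_42 c) (Nat.ble 36 c)
noncomputable def Atab_s_21_42 (c : Nat) : Nat := @Bool.rec (fun _ => Nat) (Atab_s_21_31 c) (Atab_s_31_42 c) (Nat.ble 31 c)
noncomputable def Atab_s_0_42 (c : Nat) : Nat := @Bool.rec (fun _ => Nat) (Atab_s_0_21 c) (Atab_s_21_42 c) (Nat.ble 21 c)
noncomputable def Atab_s_42_44 (c : Nat) : Nat := @Bool.rec (fun _ => Nat) (Atab_42) (Atab_43) (Nat.ble 43 c)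
noncomputable def Atab_s_45_47 (c : Nat) : Nat := @Bool.rec (fun _ => Nat) (Atab_45) (Atab_46) (Nat.ble 46 c)
noncomputable def Atab_s_44_47 (c : Nat) : Nat := @Bool.rec (fun _ => Nat) (Atab_44) (Atab_s_45_47 c) (Nat.ble 45 c)
noncomputable def Atab_s_42_47 (c : Nat) : Nat := @Bool.rec (fun _ => Nat) (Atab_s_42_44 c) (Atab_s_44_47 c) (Nat.ble 44 c)
noncomputable def Atab_s_47_49 (c : Nat) : Nat := @Bool.rec (fun _ => Nat) (Atab_47) (Atab_48) (Nat.ble 48 c)
noncomputable def Atab_s_50_52 (c : Nat) : Nat := @Bool.rec (fun _ => Nat) (Atab_50) (Atab_51) (Nat.ble 51 c)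
noncomputable def Atab_s_49_52 (c : Nat) : Nat := @Bool.rec (fun _ => Nat) (Atab_49) (Atab_s_50_52 c) (Nat.ble 50 c)
noncomputable def Atab_s_47_52 (c : Nat) : Nat := @Bool.rec (fun _ => Nat) (Atab_s_47_49 c) (Atab_s_49_52 c) (Nat.ble 49 c)
noncomputable def Atab_s_42_52 (c : Nat) : Nat := @Bool.rec (fun _ => Nat) (Atab_s_42_47 c) (Atab_s_47_52 c) (Nat.ble 47 c)
noncomputable def Atab_s_52_54 (c : Nat) : Nat := @Bool.rec (fun _ => Nat) (Atab_52) (Atab_53) (Nat.ble 53 c)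
noncomputable def Atab_s_55_57 (c : Nat) : Nat := @Bool.rec (fun _ => Nat) (Atab_55) (Atab_56) (Nat.ble 56 c)
noncomputable def Atab_s_54_57 (c : Nat) : Nat := @Bool.rec (fun _ => Nat) (Atab_54) (Atab_s_55_57 c) (Nat.ble 55 c)
noncomputable def Atab_s_52_57 (c : Nat) : Nat := @Bool.rec (fun _ => Nat) (Atab_s_52_54 c) (Atab_s_54_57 c) (Nat.ble 54 c)
noncomputable def Atab_s_58_60 (c : Nat) : Nat := @Bool.rec (fun _ => Nat) (Atab_58) (Atab_59) (Nat.ble 59 c)
noncomputable def Atab_s_57_60 (c : Nat) : Nat := @Bool.rec (fun _ => Nat) (Atab_57) (Atab_s_58_60 c) (Nat.ble 58 c)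
noncomputable def Atab_s_61_63 (c : Nat) : Nat := @Bool.rec (fun _ => Nat) (Atab_61) (Atab_62) (Nat.ble 62 c)
noncomputable def Atab_s_60_63 (c : Nat) : Nat := @Bool.rec (fun _ => Nat) (Atab_60) (Atab_s_61_63 c) (Nat.ble 61 c)
noncomputable def Atab_s_57_63 (c : Nat) : Nat := @Bool.rec (fun _ => Nat) (Atab_s_57_60 c) (Atab_s_60_63 c) (Nat.ble 60 c)
noncomputable def Atab_s_52_63 (c : Nat) : Nat := @Bool.rec (fun _ => Nat) (Atab_s_52_57 c) (Atab_s_57_63 c) (Nat.ble 57 c)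
noncomputable def Atab_s_42_63 (c : Nat) : Nat := @Bool.rec (fun _ => Nat) (Atab_s_42_52 c) (Atab_s_52_63 c) (Nat.ble 52 c)
noncomputable def Atab_s_63_65 (c : Nat) : Nat := @Bool.rec (fun _ => Nat) (Atab_63) (Atab_64) (Nat.ble 64 c)
noncomputable def Atab_s_66_68 (c : Nat) : Nat := @Bool.rec (fun _ => Nat) (Atab_66) (Atab_67) (Nat.ble 67 c)
noncomputable def Atab_s_65_68 (c : Nat) : Nat := @Bool.rec (fun _ => Nat) (Atab_65) (Atab_s_66_68 c) (Nat.ble 66 c)
noncomputable def Atab_s_63_68 (c : Nat) : Nat := @Bool.rec (fun _ => Nat) (Atab_s_63_65 c) (Atab_s_65_68 c) (Nat.ble 65 c)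
noncomputable def Atab_s_68_70 (c : Nat) : Nat := @Bool.rec (fun _ => Nat) (Atab_68) (Atab_69) (Nat.ble 69 c)
noncomputable def Atab_s_71_73 (c : Nat) : Nat := @Bool.rec (fun _ => Nat) (Atab_71) (Atab_72) (Nat.ble 72 c)
noncomputable def Atab_s_70_73 (c : Nat) : Nat := @Bool.rec (fun _ => Nat) (Atab_70) (Atab_s_71_73 c) (Nat.ble 71 c)
noncomputable def Atab_s_68_73 (c : Nat) : Nat := @Bool.rec (fun _ => Nat) (Atab_s_68_70 c) (Atab_s_70_73 c) (Nat.ble 70 c)
noncomputable def Atab_s_63_73 (c : Nat) : Nat := @Bool.rec (fun _ => Nat) (Atab_s_63_68 c) (Atab_s_68_73 c) (Nat.ble 68 c)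
noncomputable def Atab_s_73_75 (c : Nat) : Nat := @Bool.rec (fun _ => Nat) (Atab_73) (Atab_74) (Nat.ble 74 c)
noncomputable def Atab_s_76_78 (c : Nat) : Nat := @Bool.rec (fun _ => Nat) (Atab_76) (Atab_77) (Nat.ble 77 c)
noncomputable def Atab_s_75_78 (c : Nat) : Nat := @Bool.rec (fun _ => Nat) (Atab_75) (Atab_s_76_78 c) (Nat.ble 76 c)
noncomputable def Atab_s_73_78 (c : Nat) : Nat := @Bool.rec (fun _ => Nat) (Atab_s_73_75 c) (Atab_s_75_78 c) (Nat.ble 75 c)
noncomputable def Atab_s_79_81 (c : Nat) : Nat := @Bool.rec (fun _ => Nat) (Atab_79) (Atab_80) (Nat.ble 80 c)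
noncomputable def Atab_s_78_81 (c : Nat) : Nat := @Bool.rec (fun _ => Nat) (Atab_78) (Atab_s_79_81 c) (Nat.ble 79 c)
noncomputable def Atab_s_82_84 (c : Nat) : Nat := @Bool.rec (fun _ => Nat) (Atab_82) (Atab_83) (Nat.ble 83 c)
noncomputable def Atab_s_81_84 (c : Nat) : Nat := @Bool.rec (fun _ => Nat) (Atab_81) (Atab_s_82_84 c) (Nat.ble 82 c)
noncomputable def Atab_s_78_84 (c : Nat) : Nat := @Bool.rec (fun _ => Nat) (Atab_s_78_81 c) (Atab_s_81_84 c) (Nat.ble 81 c)
noncomputable def Atab_s_73_84 (c : Nat) : Nat := @Bool.rec (fun _ => Nat) (Atab_s_73_78 c) (Atab_s_78_84 c) (Nat.ble 78 c)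
noncomputable def Atab_s_63_84 (c : Nat) : Nat := @Bool.rec (fun _ => Nat) (Atab_s_63_73 c) (Atab_s_73_84 c) (Nat.ble 73 c)
noncomputable def Atab_s_42_84 (c : Nat) : Nat := @Bool.rec (fun _ => Nat) (Atab_s_42_63 c) (Atab_s_63_84 c) (Nat.ble 63 c)
noncomputable def Atab_s_0_84 (c : Nat) : Nat := @Bool.rec (fun _ => Nat) (Atab_s_0_42 c) (Atab_s_42_84 c) (Nat.ble 42 c)
noncomputable def Atab_s_84_86 (c : Nat) : Nat := @Bool.rec (fun _ => Nat) (Atab_84) (Atab_85) (Nat.ble 85 c)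
noncomputable def Atab_s_87_89 (c : Nat) : Nat := @Bool.rec (fun _ => Nat) (Atab_87) (Atab_88) (Nat.ble 88 c)
noncomputable def Atab_s_86_89 (c : Nat) : Nat := @Bool.rec (fun _ => Nat) (Atab_86) (Atab_s_87_89 c) (Nat.ble 87 c)
noncomputable def Atab_s_84_89 (c : Nat) : Nat := @Bool.rec (fun _ => Nat) (Atab_s_84_86 c) (Atab_s_86_89 c) (Nat.ble 86 c)
noncomputable def Atab_s_89_91 (c : Nat) : Nat := @Bool.rec (fun _ => Nat) (Atab_89) (Atab_90) (Nat.ble 90 c)
noncomputable def Atab_s_92_94 (c : Nat) : Nat := @Bool.rec (fun _ => Nat) (Atab_92) (Atab_93) (Nat.ble 93 c)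
noncomputable def Atab_s_91_94 (c : Nat) : Nat := @Bool.rec (fun _ => Nat) (Atab_91) (Atab_s_92_94 c) (Nat.ble 92 c)
noncomputable def Atab_s_89_94 (c : Nat) : Nat := @Bool.rec (fun _ => Nat) (Atab_s_89_91 c) (Atab_s_91_94 c) (Nat.ble 91 c)
noncomputable def Atab_s_84_94 (c : Nat) : Nat := @Bool.rec (fun _ => Nat) (Atab_s_84_89 c) (Atab_s_89_94 c) (Nat.ble 89 c)
noncomputable def Atab_s_94_96 (c : Nat) : Nat := @Bool.rec (fun _ => Nat) (Atab_94) (Atab_95) (Nat.ble 95 c)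
noncomputable def Atab_s_97_99 (c : Nat) : Nat := @Bool.rec (fun _ => Nat) (Atab_97) (Atab_98) (Nat.ble 98 c)
noncomputable def Atab_s_96_99 (c : Nat) : Nat := @Bool.rec (fun _ => Nat) (Atab_96) (Atab_s_97_99 c) (Nat.ble 97 c)
noncomputable def Atab_s_94_99 (c : Nat) : Nat := @Bool.rec (fun _ => Nat) (Atab_s_94_96 c) (Atab_s_96_99 c) (Nat.ble 96 c)
noncomputable def Atab_s_100_102 (c : Nat) : Nat := @Bool.rec (fun _ => Nat) (Atab_100) (Atab_101) (Nat.ble 101 c)
noncomputable def Atab_s_99_102 (c : Nat) : Nat := @Bool.rec (fun _ => Nat) (Atab_99) (Atab_s_100_102 c) (Nat.ble 100 c)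
noncomputable def Atab_s_103_105 (c : Nat) : Nat := @Bool.rec (fun _ => Nat) (Atab_103) (Atab_104) (Nat.ble 104 c)
noncomputable def Atab_s_102_105 (c : Nat) : Nat := @Bool.rec (fun _ => Nat) (Atab_102) (Atab_s_103_105 c) (Nat.ble 103 c)
noncomputable def Atab_s_99_105 (c : Nat) : Nat := @Bool.rec (fun _ => Nat) (Atab_s_99_102 c) (Atab_s_102_105 c) (Nat.ble 102 c)
noncomputable def Atab_s_94_105 (c : Nat) : Nat := @Bool.rec (fun _ => Nat) (Atab_s_94_99 c) (Atab_s_99_105 c) (Nat.ble 99 c)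
noncomputable def Atab_s_84_105 (c : Nat) : Nat := @Bool.rec (fun _ => Nat) (Atab_s_84_94 c) (Atab_s_94_105 c) (Nat.ble 94 c)
noncomputable def Atab_s_105_107 (c : Nat) : Nat := @Bool.rec (fun _ => Nat) (Atab_105) (Atab_106) (Nat.ble 106 c)
noncomputable def Atab_s_108_110 (c : Nat) : Nat := @Bool.rec (fun _ => Nat) (Atab_108) (Atab_109) (Nat.ble 109 c)
noncomputable def Atab_s_107_110 (c : Nat) : Nat := @Bool.rec (fun _ => Nat) (Atab_107) (Atab_s_108_110 c) (Nat.ble 108 c)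
noncomputable def Atab_s_105_110 (c : Nat) : Nat := @Bool.rec (fun _ => Nat) (Atab_s_105_107 c) (Atab_s_107_110 c) (Nat.ble 107 c)
noncomputable def Atab_s_110_112 (c : Nat) : Nat := @Bool.rec (fun _ => Nat) (Atab_110) (Atab_111) (Nat.ble 111 c)
noncomputable def Atab_s_113_115 (c : Nat) : Nat := @Bool.rec (fun _ => Nat) (Atab_113) (Atab_114) (Nat.ble 114 c)
noncomputable def Atab_s_112_115 (c : Nat) : Nat := @Bool.rec (fun _ => Nat) (Atab_112) (Atab_s_113_115 c) (Nat.ble 113 c)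
noncomputable def Atab_s_110_115 (c : Nat) : Nat := @Bool.rec (fun _ => Nat) (Atab_s_110_112 c) (Atab_s_112_115 c) (Nat.ble 112 c)
noncomputable def Atab_s_105_115 (c : Nat) : Nat := @Bool.rec (fun _ => Nat) (Atab_s_105_110 c) (Atab_s_110_115 c) (Nat.ble 110 c)
noncomputable def Atab_s_115_117 (c : Nat) : Nat := @Bool.rec (fun _ => Nat) (Atab_115) (Atab_116) (Nat.ble 116 c)
noncomputable def Atab_s_118_120 (c : Nat) : Nat := @Bool.rec (fun _ => Nat) (Atab_118) (Atab_119) (Nat.ble 119 c)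
noncomputable def Atab_s_117_120 (c : Nat) : Nat := @Bool.rec (fun _ => Nat) (Atab_117) (Atab_s_118_120 c) (Nat.ble 118 c)
noncomputable def Atab_s_115_120 (c : Nat) : Nat := @Bool.rec (fun _ => Nat) (Atab_s_115_117 c) (Atab_s_117_120 c) (Nat.ble 117 c)
noncomputable def Atab_s_121_123 (c : Nat) : Nat := @Bool.rec (fun _ => Nat) (Atab_121) (Atab_122) (Nat.ble 122 c)
noncomputable def Atab_s_120_123 (c : Nat) : Nat := @Bool.rec (fun _ => Nat) (Atab_120) (Atab_s_121_123 c) (Nat.ble 121 c)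
noncomputable def Atab_s_124_126 (c : Nat) : Nat := @Bool.rec (fun _ => Nat) (Atab_124) (Atab_125) (Nat.ble 125 c)
noncomputable def Atab_s_123_126 (c : Nat) : Nat := @Bool.rec (fun _ => Nat) (Atab_123) (Atab_s_124_126 c) (Nat.ble 124 c)
noncomputable def Atab_s_120_126 (c : Nat) : Nat := @Bool.rec (fun _ => Nat) (Atab_s_120_123 c) (Atab_s_123_126 c) (Nat.ble 123 c)
noncomputable def Atab_s_115_126 (c : Nat) : Nat := @Bool.rec (fun _ => Nat) (Atab_s_115_120 c) (Atab_s_120_126 c) (Nat.ble 120 c)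
noncomputable def Atab_s_105_126 (c : Nat) : Nat := @Bool.rec (fun _ => Nat) (Atab_s_105_115 c) (Atab_s_115_126 c) (Nat.ble 115 c)
noncomputable def Atab_s_84_126 (c : Nat) : Nat := @Bool.rec (fun _ => Nat) (Atab_s_84_105 c) (Atab_s_105_126 c) (Nat.ble 105 c)
noncomputable def Atab_s_126_128 (c : Nat) : Nat := @Bool.rec (fun _ => Nat) (Atab_126) (Atab_127) (Nat.ble 127 c)
noncomputable def Atab_s_129_131 (c : Nat) : Nat := @Bool.rec (fun _ => Nat) (Atab_129) (Atab_130) (Nat.ble 130 c)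
noncomputable def Atab_s_128_131 (c : Nat) : Nat := @Bool.rec (fun _ => Nat) (Atab_128) (Atab_s_129_131 c) (Nat.ble 129 c)
noncomputable def Atab_s_126_131 (c : Nat) : Nat := @Bool.rec (fun _ => Nat) (Atab_s_126_128 c) (Atab_s_128_131 c) (Nat.ble 128 c)
noncomputable def Atab_s_131_133 (c : Nat) : Nat := @Bool.rec (fun _ => Nat) (Atab_131) (Atab_132) (Nat.ble 132 c)
noncomputable def Atab_s_134_136 (c : Nat) : Nat := @Bool.rec (fun _ => Nat) (Atab_134) (Atab_135) (Nat.ble 135 c)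
noncomputable def Atab_s_133_136 (c : Nat) : Nat := @Bool.rec (fun _ => Nat) (Atab_133) (Atab_s_134_136 c) (Nat.ble 134 c)
noncomputable def Atab_s_131_136 (c : Nat) : Nat := @Bool.rec (fun _ => Nat) (Atab_s_131_133 c) (Atab_s_133_136 c) (Nat.ble 133 c)
noncomputable def Atab_s_126_136 (c : Nat) : Nat := @Bool.rec (fun _ => Nat) (Atab_s_126_131 c) (Atab_s_131_136 c) (Nat.ble 131 c)
noncomputable def Atab_s_136_138 (c : Nat) : Nat := @Bool.rec (fun _ => Nat) (Atab_136) (Atab_137) (Nat.ble 137 c)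
noncomputable def Atab_s_139_141 (c : Nat) : Nat := @Bool.rec (fun _ => Nat) (Atab_139) (Atab_140) (Nat.ble 140 c)
noncomputable def Atab_s_138_141 (c : Nat) : Nat := @Bool.rec (fun _ => Nat) (Atab_138) (Atab_s_139_141 c) (Nat.ble 139 c)
noncomputable def Atab_s_136_141 (c : Nat) : Nat := @Bool.rec (fun _ => Nat) (Atab_s_136_138 c) (Atab_s_138_141 c) (Nat.ble 138 c)
noncomputable def Atab_s_142_144 (c : Nat) : Nat := @Bool.rec (fun _ => Nat) (Atab_142) (Atab_143) (Nat.ble 143 c)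
noncomputable def Atab_s_141_144 (c : Nat) : Nat := @Bool.rec (fun _ => Nat) (Atab_141) (Atab_s_142_144 c) (Nat.ble 142 c)
noncomputable def Atab_s_145_147 (c : Nat) : Nat := @Bool.rec (fun _ => Nat) (Atab_145) (Atab_146) (Nat.ble 146 c)
noncomputable def Atab_s_144_147 (c : Nat) : Nat := @Bool.rec (fun _ => Nat) (Atab_144) (Atab_s_145_147 c) (Nat.ble 145 c)
noncomputable def Atab_s_141_147 (c : Nat) : Nat := @Bool.rec (fun _ => Nat) (Atab_s_141_144 c) (Atab_s_144_147 c) (Nat.ble 144 c)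
noncomputable def Atab_s_136_147 (c : Nat) : Nat := @Bool.rec (fun _ => Nat) (Atab_s_136_141 c) (Atab_s_141_147 c) (Nat.ble 141 c)
noncomputable def Atab_s_126_147 (c : Nat) : Nat := @Bool.rec (fun _ => Nat) (Atab_s_126_136 c) (Atab_s_136_147 c) (Nat.ble 136 c)
noncomputable def Atab_s_147_149 (c : Nat) : Nat := @Bool.rec (fun _ => Nat) (Atab_147) (Atab_148) (Nat.ble 148 c)
noncomputable def Atab_s_150_152 (c : Nat) : Nat := @Bool.rec (fun _ => Nat) (Atab_150) (Atab_151) (Nat.ble 151 c)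
noncomputable def Atab_s_149_152 (c : Nat) : Nat := @Bool.rec (fun _ => Nat) (Atab_149) (Atab_s_150_152 c) (Nat.ble 150 c)
noncomputable def Atab_s_147_152 (c : Nat) : Nat := @Bool.rec (fun _ => Nat) (Atab_s_147_149 c) (Atab_s_149_152 c) (Nat.ble 149 c)
noncomputable def Atab_s_152_154 (c : Nat) : Nat := @Bool.rec (fun _ => Nat) (Atab_152) (Atab_153) (Nat.ble 153 c)
noncomputable def Atab_s_155_157 (c : Nat) : Nat := @Bool.rec (fun _ => Nat) (Atab_155) (Atab_156) (Nat.ble 156 c)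
noncomputable def Atab_s_154_157 (c : Nat) : Nat := @Bool.rec (fun _ => Nat) (Atab_154) (Atab_s_155_157 c) (Nat.ble 155 c)
noncomputable def Atab_s_152_157 (c : Nat) : Nat := @Bool.rec (fun _ => Nat) (Atab_s_152_154 c) (Atab_s_154_157 c) (Nat.ble 154 c)
noncomputable def Atab_s_147_157 (c : Nat) : Nat := @Bool.rec (fun _ => Nat) (Atab_s_147_152 c) (Atab_s_152_157 c) (Nat.ble 152 c)
noncomputable def Atab_s_157_159 (c : Nat) : Nat := @Bool.rec (fun _ => Nat) (Atab_157) (Atab_158) (Nat.ble 158 c)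
noncomputable def Atab_s_160_162 (c : Nat) : Nat := @Bool.rec (fun _ => Nat) (Atab_160) (Atab_161) (Nat.ble 161 c)
noncomputable def Atab_s_159_162 (c : Nat) : Nat := @Bool.rec (fun _ => Nat) (Atab_159) (Atab_s_160_162 c) (Nat.ble 160 c)
noncomputable def Atab_s_157_162 (c : Nat) : Nat := @Bool.rec (fun _ => Nat) (Atab_s_157_159 c) (Atab_s_159_162 c) (Nat.ble 159 c)
noncomputable def Atab_s_163_165 (c : Nat) : Nat := @Bool.rec (fun _ => Nat) (Atab_163) (Atab_164) (Nat.ble 164 c)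
noncomputable def Atab_s_162_165 (c : Nat) : Nat := @Bool.rec (fun _ => Nat) (Atab_162) (Atab_s_163_165 c) (Nat.ble 163 c)
noncomputable def Atab_s_166_168 (c : Nat) : Nat := @Bool.rec (fun _ => Nat) (Atab_166) (Atab_167) (Nat.ble 167 c)
noncomputable def Atab_s_165_168 (c : Nat) : Nat := @Bool.rec (fun _ => Nat) (Atab_165) (Atab_s_166_168 c) (Nat.ble 166 c)
noncomputable def Atab_s_162_168 (c : Nat) : Nat := @Bool.rec (fun _ => Nat) (Atab_s_162_165 c) (Atab_s_165_168 c) (Nat.ble 165 c)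
noncomputable def Atab_s_157_168 (c : Nat) : Nat := @Bool.rec (fun _ => Nat) (Atab_s_157_162 c) (Atab_s_162_168 c) (Nat.ble 162 c)
noncomputable def Atab_s_147_168 (c : Nat) : Nat := @Bool.rec (fun _ => Nat) (Atab_s_147_157 c) (Atab_s_157_168 c) (Nat.ble 157 c)
noncomputable def Atab_s_126_168 (c : Nat) : Nat := @Bool.rec (fun _ => Nat) (Atab_s_126_147 c) (Atab_s_147_168 c) (Nat.ble 147 c)
noncomputable def Atab_s_84_168 (c : Nat) : Nat := @Bool.rec (fun _ => Nat) (Atab_s_84_126 c) (Atab_s_126_168 c) (Nat.ble 126 c)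
noncomputable def Atab_s_0_168 (c : Nat) : Nat := @Bool.rec (fun _ => Nat) (Atab_s_0_84 c) (Atab_s_84_168 c) (Nat.ble 84 c)
noncomputable def Atab (i : Nat) : Nat := rdw 38 274877906943 (Atab_s_0_168 (Nat.shiftRight i 11)) (Nat.land i 2047)
noncomputable def Btab_s_0_2 (c : Nat) : Nat := @Bool.rec (fun _ => Nat) (Btab_0) (Btab_1) (Nat.ble 1 c)
noncomputable def Btab_s_2_4 (c : Nat) : Nat := @Bool.rec (fun _ => Nat) (Btab_2) (Btab_3) (Nat.ble 3 c)
noncomputable def Btab_s_0_4 (c : Nat) : Nat := @Bool.rec (fun _ => Nat) (Btab_s_0_2 c) (Btab_s_2_4 c) (Nat.ble 2 c)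
noncomputable def Btab_s_4_6 (c : Nat) : Nat := @Bool.rec (fun _ => Nat) (Btab_4) (Btab_5) (Nat.ble 5 c)
noncomputable def Btab_s_6_8 (c : Nat) : Nat := @Bool.rec (fun _ => Nat) (Btab_6) (Btab_7) (Nat.ble 7 c)
noncomputable def Btab_s_4_8 (c : Nat) : Nat := @Bool.rec (fun _ => Nat) (Btab_s_4_6 c) (Btab_s_6_8 c) (Nat.ble 6 c)
noncomputable def Btab_s_0_8 (c : Nat) : Nat := @Bool.rec (fun _ => Nat) (Btab_s_0_4 c) (Btab_s_4_8 c) (Nat.ble 4 c)
noncomputable def Btab_s_8_10 (c : Nat) : Nat := @Bool.rec (fun _ => Nat) (Btab_8) (Btab_9) (Nat.ble 9 c)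
noncomputable def Btab_s_10_12 (c : Nat) : Nat := @Bool.rec (fun _ => Nat) (Btab_10) (Btab_11) (Nat.ble 11 c)
noncomputable def Btab_s_8_12 (c : Nat) : Nat := @Bool.rec (fun _ => Nat) (Btab_s_8_10 c) (Btab_s_10_12 c) (Nat.ble 10 c)
noncomputable def Btab_s_12_14 (c : Nat) : Nat := @Bool.rec (fun _ => Nat) (Btab_12) (Btab_13) (Nat.ble 13 c)
noncomputable def Btab_s_15_17 (c : Nat) : Nat := @Bool.rec (fun _ => Nat) (Btab_15) (Btab_16) (Nat.ble 16 c)
noncomputable def Btab_s_14_17 (c : Nat) : Nat := @Bool.rec (fun _ => Nat) (Btab_14) (Btab_s_15_17 c) (Nat.ble 15 c)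
noncomputable def Btab_s_12_17 (c : Nat) : Nat := @Bool.rec (fun _ => Nat) (Btab_s_12_14 c) (Btab_s_14_17 c) (Nat.ble 14 c)
noncomputable def Btab_s_8_17 (c : Nat) : Nat := @Bool.rec (fun _ => Nat) (Btab_s_8_12 c) (Btab_s_12_17 c) (Nat.ble 12 c)
noncomputable def Btab_s_0_17 (c : Nat) : Nat := @Bool.rec (fun _ => Nat) (Btab_s_0_8 c) (Btab_s_8_17 c) (Nat.ble 8 c)
noncomputable def Btab_s_17_19 (c : Nat) : Nat := @Bool.rec (fun _ => Nat) (Btab_17) (Btab_18) (Nat.ble 18 c)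
noncomputable def Btab_s_19_21 (c : Nat) : Nat := @Bool.rec (fun _ => Nat) (Btab_19) (Btab_20) (Nat.ble 20 c)
noncomputable def Btab_s_17_21 (c : Nat) : Nat := @Bool.rec (fun _ => Nat) (Btab_s_17_19 c) (Btab_s_19_21 c) (Nat.ble 19 c)
noncomputable def Btab_s_21_23 (c : Nat) : Nat := @Bool.rec (fun _ => Nat) (Btab_21) (Btab_22) (Nat.ble 22 c)
noncomputable def Btab_s_23_25 (c : Nat) : Nat := @Bool.rec (fun _ => Nat) (Btab_23) (Btab_24) (Nat.ble 24 c)
noncomputable def Btab_s_21_25 (c : Nat) : Nat := @Bool.rec (fun _ => Nat) (Btab_s_21_23 c) (Btab_s_23_25 c) (Nat.ble 23 c)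
noncomputable def Btab_s_17_25 (c : Nat) : Nat := @Bool.rec (fun _ => Nat) (Btab_s_17_21 c) (Btab_s_21_25 c) (Nat.ble 21 c)
noncomputable def Btab_s_25_27 (c : Nat) : Nat := @Bool.rec (fun _ => Nat) (Btab_25) (Btab_26) (Nat.ble 26 c)
noncomputable def Btab_s_27_29 (c : Nat) : Nat := @Bool.rec (fun _ => Nat) (Btab_27) (Btab_28) (Nat.ble 28 c)
noncomputable def Btab_s_25_29 (c : Nat) : Nat := @Bool.rec (fun _ => Nat) (Btab_s_25_27 c) (Btab_s_27_29 c) (Nat.ble 27 c)
noncomputable def Btab_s_29_31 (c : Nat) : Nat := @Bool.rec (fun _ => Nat) (Btab_29) (Btab_30) (Nat.ble 30 c)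
noncomputable def Btab_s_32_34 (c : Nat) : Nat := @Bool.rec (fun _ => Nat) (Btab_32) (Btab_33) (Nat.ble 33 c)
noncomputable def Btab_s_31_34 (c : Nat) : Nat := @Bool.rec (fun _ => Nat) (Btab_31) (Btab_s_32_34 c) (Nat.ble 32 c)
noncomputable def Btab_s_29_34 (c : Nat) : Nat := @Bool.rec (fun _ => Nat) (Btab_s_29_31 c) (Btab_s_31_34 c) (Nat.ble 31 c)
noncomputable def Btab_s_25_34 (c : Nat) : Nat := @Bool.rec (fun _ => Nat) (Btab_s_25_29 c) (Btab_s_29_34 c) (Nat.ble 29 c)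
noncomputable def Btab_s_17_34 (c : Nat) : Nat := @Bool.rec (fun _ => Nat) (Btab_s_17_25 c) (Btab_s_25_34 c) (Nat.ble 25 c)
noncomputable def Btab_s_0_34 (c : Nat) : Nat := @Bool.rec (fun _ => Nat) (Btab_s_0_17 c) (Btab_s_17_34 c) (Nat.ble 17 c)
noncomputable def Btab_s_34_36 (c : Nat) : Nat := @Bool.rec (fun _ => Nat) (Btab_34) (Btab_35) (Nat.ble 35 c)
noncomputable def Btab_s_36_38 (c : Nat) : Nat := @Bool.rec (fun _ => Nat) (Btab_36) (Btab_37) (Nat.ble 37 c)
noncomputable def Btab_s_34_38 (c : Nat) : Nat := @Bool.rec (fun _ => Nat) (Btab_s_34_36 c) (Btab_s_36_38 c) (Nat.ble 36 c)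
noncomputable def Btab_s_38_40 (c : Nat) : Nat := @Bool.rec (fun _ => Nat) (Btab_38) (Btab_39) (Nat.ble 39 c)
noncomputable def Btab_s_40_42 (c : Nat) : Nat := @Bool.rec (fun _ => Nat) (Btab_40) (Btab_41) (Nat.ble 41 c)
noncomputable def Btab_s_38_42 (c : Nat) : Nat := @Bool.rec (fun _ => Nat) (Btab_s_38_40 c) (Btab_s_40_42 c) (Nat.ble 40 c)
noncomputable def Btab_s_34_42 (c : Nat) : Nat := @Bool.rec (fun _ => Nat) (Btab_s_34_38 c) (Btab_s_38_42 c) (Nat.ble 38 c)
noncomputable def Btab_s_42_44 (c : Nat) : Nat := @Bool.rec (fun _ => Nat) (Btab_42) (Btab_43) (Nat.ble 43 c)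
noncomputable def Btab_s_44_46 (c : Nat) : Nat := @Bool.rec (fun _ => Nat) (Btab_44) (Btab_45) (Nat.ble 45 c)
noncomputable def Btab_s_42_46 (c : Nat) : Nat := @Bool.rec (fun _ => Nat) (Btab_s_42_44 c) (Btab_s_44_46 c) (Nat.ble 44 c)
noncomputable def Btab_s_46_48 (c : Nat) : Nat := @Bool.rec (fun _ => Nat) (Btab_46) (Btab_47) (Nat.ble 47 c)
noncomputable def Btab_s_49_51 (c : Nat) : Nat := @Bool.rec (fun _ => Nat) (Btab_49) (Btab_50) (Nat.ble 50 c)
noncomputable def Btab_s_48_51 (c : Nat) : Nat := @Bool.rec (fun _ => Nat) (Btab_48) (Btab_s_49_51 c) (Nat.ble 49 c)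
noncomputable def Btab_s_46_51 (c : Nat) : Nat := @Bool.rec (fun _ => Nat) (Btab_s_46_48 c) (Btab_s_48_51 c) (Nat.ble 48 c)
noncomputable def Btab_s_42_51 (c : Nat) : Nat := @Bool.rec (fun _ => Nat) (Btab_s_42_46 c) (Btab_s_46_51 c) (Nat.ble 46 c)
noncomputable def Btab_s_34_51 (c : Nat) : Nat := @Bool.rec (fun _ => Nat) (Btab_s_34_42 c) (Btab_s_42_51 c) (Nat.ble 42 c)
noncomputable def Btab_s_51_53 (c : Nat) : Nat := @Bool.rec (fun _ => Nat) (Btab_51) (Btab_52) (Nat.ble 52 c)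
noncomputable def Btab_s_53_55 (c : Nat) : Nat := @Bool.rec (fun _ => Nat) (Btab_53) (Btab_54) (Nat.ble 54 c)
noncomputable def Btab_s_51_55 (c : Nat) : Nat := @Bool.rec (fun _ => Nat) (Btab_s_51_53 c) (Btab_s_53_55 c) (Nat.ble 53 c)
noncomputable def Btab_s_55_57 (c : Nat) : Nat := @Bool.rec (fun _ => Nat) (Btab_55) (Btab_56) (Nat.ble 56 c)
noncomputable def Btab_s_58_60 (c : Nat) : Nat := @Bool.rec (fun _ => Nat) (Btab_58) (Btab_59) (Nat.ble 59 c)
noncomputable def Btab_s_57_60 (c : Nat) : Nat := @Bool.rec (fun _ => Nat) (Btab_57) (Btab_s_58_60 c) (Nat.ble 58 c)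
noncomputable def Btab_s_55_60 (c : Nat) : Nat := @Bool.rec (fun _ => Nat) (Btab_s_55_57 c) (Btab_s_57_60 c) (Nat.ble 57 c)
noncomputable def Btab_s_51_60 (c : Nat) : Nat := @Bool.rec (fun _ => Nat) (Btab_s_51_55 c) (Btab_s_55_60 c) (Nat.ble 55 c)
noncomputable def Btab_s_60_62 (c : Nat) : Nat := @Bool.rec (fun _ => Nat) (Btab_60) (Btab_61) (Nat.ble 61 c)
noncomputable def Btab_s_62_64 (c : Nat) : Nat := @Bool.rec (fun _ => Nat) (Btab_62) (Btab_63) (Nat.ble 63 c)
noncomputable def Btab_s_60_64 (c : Nat) : Nat := @Bool.rec (fun _ => Nat) (Btab_s_60_62 c) (Btab_s_62_64 c) (Nat.ble 62 c)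
noncomputable def Btab_s_64_66 (c : Nat) : Nat := @Bool.rec (fun _ => Nat) (Btab_64) (Btab_65) (Nat.ble 65 c)
noncomputable def Btab_s_67_69 (c : Nat) : Nat := @Bool.rec (fun _ => Nat) (Btab_67) (Btab_68) (Nat.ble 68 c)
noncomputable def Btab_s_66_69 (c : Nat) : Nat := @Bool.rec (fun _ => Nat) (Btab_66) (Btab_s_67_69 c) (Nat.ble 67 c)
noncomputable def Btab_s_64_69 (c : Nat) : Nat := @Bool.rec (fun _ => Nat) (Btab_s_64_66 c) (Btab_s_66_69 c) (Nat.ble 66 c)
noncomputable def Btab_s_60_69 (c : Nat) : Nat := @Bool.rec (fun _ => Nat) (Btab_s_60_64 c) (Btab_s_64_69 c) (Nat.ble 64 c)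
noncomputable def Btab_s_51_69 (c : Nat) : Nat := @Bool.rec (fun _ => Nat) (Btab_s_51_60 c) (Btab_s_60_69 c) (Nat.ble 60 c)
noncomputable def Btab_s_34_69 (c : Nat) : Nat := @Bool.rec (fun _ => Nat) (Btab_s_34_51 c) (Btab_s_51_69 c) (Nat.ble 51 c)
noncomputable def Btab_s_0_69 (c : Nat) : Nat := @Bool.rec (fun _ => Nat) (Btab_s_0_34 c) (Btab_s_34_69 c) (Nat.ble 34 c)
noncomputable def Btab_s_69_71 (c : Nat) : Nat := @Bool.rec (fun _ => Nat) (Btab_69) (Btab_70) (Nat.ble 70 c)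
noncomputable def Btab_s_71_73 (c : Nat) : Nat := @Bool.rec (fun _ => Nat) (Btab_71) (Btab_72) (Nat.ble 72 c)
noncomputable def Btab_s_69_73 (c : Nat) : Nat := @Bool.rec (fun _ => Nat) (Btab_s_69_71 c) (Btab_s_71_73 c) (Nat.ble 71 c)
noncomputable def Btab_s_73_75 (c : Nat) : Nat := @Bool.rec (fun _ => Nat) (Btab_73) (Btab_74) (Nat.ble 74 c)
noncomputable def Btab_s_75_77 (c : Nat) : Nat := @Bool.rec (fun _ => Nat) (Btab_75) (Btab_76) (Nat.ble 76 c)
noncomputable def Btab_s_73_77 (c : Nat) : Nat := @Bool.rec (fun _ => Nat) (Btab_s_73_75 c) (Btab_s_75_77 c) (Nat.ble 75 c)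
noncomputable def Btab_s_69_77 (c : Nat) : Nat := @Bool.rec (fun _ => Nat) (Btab_s_69_73 c) (Btab_s_73_77 c) (Nat.ble 73 c)
noncomputable def Btab_s_77_79 (c : Nat) : Nat := @Bool.rec (fun _ => Nat) (Btab_77) (Btab_78) (Nat.ble 78 c)
noncomputable def Btab_s_79_81 (c : Nat) : Nat := @Bool.rec (fun _ => Nat) (Btab_79) (Btab_80) (Nat.ble 80 c)
noncomputable def Btab_s_77_81 (c : Nat) : Nat := @Bool.rec (fun _ => Nat) (Btab_s_77_79 c) (Btab_s_79_81 c) (Nat.ble 79 c)
noncomputable def Btab_s_81_83 (c : Nat) : Nat := @Bool.rec (fun _ => Nat) (Btab_81) (Btab_82) (Nat.ble 82 c)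
noncomputable def Btab_s_84_86 (c : Nat) : Nat := @Bool.rec (fun _ => Nat) (Btab_84) (Btab_85) (Nat.ble 85 c)
noncomputable def Btab_s_83_86 (c : Nat) : Nat := @Bool.rec (fun _ => Nat) (Btab_83) (Btab_s_84_86 c) (Nat.ble 84 c)
noncomputable def Btab_s_81_86 (c : Nat) : Nat := @Bool.rec (fun _ => Nat) (Btab_s_81_83 c) (Btab_s_83_86 c) (Nat.ble 83 c)
noncomputable def Btab_s_77_86 (c : Nat) : Nat := @Bool.rec (fun _ => Nat) (Btab_s_77_81 c) (Btab_s_81_86 c) (Nat.ble 81 c)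
noncomputable def Btab_s_69_86 (c : Nat) : Nat := @Bool.rec (fun _ => Nat) (Btab_s_69_77 c) (Btab_s_77_86 c) (Nat.ble 77 c)
noncomputable def Btab_s_86_88 (c : Nat) : Nat := @Bool.rec (fun _ => Nat) (Btab_86) (Btab_87) (Nat.ble 87 c)
noncomputable def Btab_s_88_90 (c : Nat) : Nat := @Bool.rec (fun _ => Nat) (Btab_88) (Btab_89) (Nat.ble 89 c)
noncomputable def Btab_s_86_90 (c : Nat) : Nat := @Bool.rec (fun _ => Nat) (Btab_s_86_88 c) (Btab_s_88_90 c) (Nat.ble 88 c)
noncomputable def Btab_s_90_92 (c : Nat) : Nat := @Bool.rec (fun _ => Nat) (Btab_90) (Btab_91) (Nat.ble 91 c)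
noncomputable def Btab_s_92_94 (c : Nat) : Nat := @Bool.rec (fun _ => Nat) (Btab_92) (Btab_93) (Nat.ble 93 c)
noncomputable def Btab_s_90_94 (c : Nat) : Nat := @Bool.rec (fun _ => Nat) (Btab_s_90_92 c) (Btab_s_92_94 c) (Nat.ble 92 c)
noncomputable def Btab_s_86_94 (c : Nat) : Nat := @Bool.rec (fun _ => Nat) (Btab_s_86_90 c) (Btab_s_90_94 c) (Nat.ble 90 c)
noncomputable def Btab_s_94_96 (c : Nat) : Nat := @Bool.rec (fun _ => Nat) (Btab_94) (Btab_95) (Nat.ble 95 c)
noncomputable def Btab_s_96_98 (c : Nat) : Nat := @Bool.rec (fun _ => Nat) (Btab_96) (Btab_97) (Nat.ble 97 c)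
noncomputable def Btab_s_94_98 (c : Nat) : Nat := @Bool.rec (fun _ => Nat) (Btab_s_94_96 c) (Btab_s_96_98 c) (Nat.ble 96 c)
noncomputable def Btab_s_98_100 (c : Nat) : Nat := @Bool.rec (fun _ => Nat) (Btab_98) (Btab_99) (Nat.ble 99 c)
noncomputable def Btab_s_101_103 (c : Nat) : Nat := @Bool.rec (fun _ => Nat) (Btab_101) (Btab_102) (Nat.ble 102 c)
noncomputable def Btab_s_100_103 (c : Nat) : Nat := @Bool.rec (fun _ => Nat) (Btab_100) (Btab_s_101_103 c) (Nat.ble 101 c)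
noncomputable def Btab_s_98_103 (c : Nat) : Nat := @Bool.rec (fun _ => Nat) (Btab_s_98_100 c) (Btab_s_100_103 c) (Nat.ble 100 c)
noncomputable def Btab_s_94_103 (c : Nat) : Nat := @Bool.rec (fun _ => Nat) (Btab_s_94_98 c) (Btab_s_98_103 c) (Nat.ble 98 c)
noncomputable def Btab_s_86_103 (c : Nat) : Nat := @Bool.rec (fun _ => Nat) (Btab_s_86_94 c) (Btab_s_94_103 c) (Nat.ble 94 c)
noncomputable def Btab_s_69_103 (c : Nat) : Nat := @Bool.rec (fun _ => Nat) (Btab_s_69_86 c) (Btab_s_86_103 c) (Nat.ble 86 c)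
noncomputable def Btab_s_103_105 (c : Nat) : Nat := @Bool.rec (fun _ => Nat) (Btab_103) (Btab_104) (Nat.ble 104 c)
noncomputable def Btab_s_105_107 (c : Nat) : Nat := @Bool.rec (fun _ => Nat) (Btab_105) (Btab_106) (Nat.ble 106 c)
noncomputable def Btab_s_103_107 (c : Nat) : Nat := @Bool.rec (fun _ => Nat) (Btab_s_103_105 c) (Btab_s_105_107 c) (Nat.ble 105 c)
noncomputable def Btab_s_107_109 (c : Nat) : Nat := @Bool.rec (fun _ => Nat) (Btab_107) (Btab_108) (Nat.ble 108 c)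
noncomputable def Btab_s_109_111 (c : Nat) : Nat := @Bool.rec (fun _ => Nat) (Btab_109) (Btab_110) (Nat.ble 110 c)
noncomputable def Btab_s_107_111 (c : Nat) : Nat := @Bool.rec (fun _ => Nat) (Btab_s_107_109 c) (Btab_s_109_111 c) (Nat.ble 109 c)
noncomputable def Btab_s_103_111 (c : Nat) : Nat := @Bool.rec (fun _ => Nat) (Btab_s_103_107 c) (Btab_s_107_111 c) (Nat.ble 107 c)
noncomputable def Btab_s_111_113 (c : Nat) : Nat := @Bool.rec (fun _ => Nat) (Btab_111) (Btab_112) (Nat.ble 112 c)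
noncomputable def Btab_s_113_115 (c : Nat) : Nat := @Bool.rec (fun _ => Nat) (Btab_113) (Btab_114) (Nat.ble 114 c)
noncomputable def Btab_s_111_115 (c : Nat) : Nat := @Bool.rec (fun _ => Nat) (Btab_s_111_113 c) (Btab_s_113_115 c) (Nat.ble 113 c)
noncomputable def Btab_s_115_117 (c : Nat) : Nat := @Bool.rec (fun _ => Nat) (Btab_115) (Btab_116) (Nat.ble 116 c)
noncomputable def Btab_s_118_120 (c : Nat) : Nat := @Bool.rec (fun _ => Nat) (Btab_118) (Btab_119) (Nat.ble 119 c)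
noncomputable def Btab_s_117_120 (c : Nat) : Nat := @Bool.rec (fun _ => Nat) (Btab_117) (Btab_s_118_120 c) (Nat.ble 118 c)
noncomputable def Btab_s_115_120 (c : Nat) : Nat := @Bool.rec (fun _ => Nat) (Btab_s_115_117 c) (Btab_s_117_120 c) (Nat.ble 117 c)
noncomputable def Btab_s_111_120 (c : Nat) : Nat := @Bool.rec (fun _ => Nat) (Btab_s_111_115 c) (Btab_s_115_120 c) (Nat.ble 115 c)
noncomputable def Btab_s_103_120 (c : Nat) : Nat := @Bool.rec (fun _ => Nat) (Btab_s_103_111 c) (Btab_s_111_120 c) (Nat.ble 111 c)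
noncomputable def Btab_s_120_122 (c : Nat) : Nat := @Bool.rec (fun _ => Nat) (Btab_120) (Btab_121) (Nat.ble 121 c)
noncomputable def Btab_s_122_124 (c : Nat) : Nat := @Bool.rec (fun _ => Nat) (Btab_122) (Btab_123) (Nat.ble 123 c)
noncomputable def Btab_s_120_124 (c : Nat) : Nat := @Bool.rec (fun _ => Nat) (Btab_s_120_122 c) (Btab_s_122_124 c) (Nat.ble 122 c)
noncomputable def Btab_s_124_126 (c : Nat) : Nat := @Bool.rec (fun _ => Nat) (Btab_124) (Btab_125) (Nat.ble 125 c)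
noncomputable def Btab_s_127_129 (c : Nat) : Nat := @Bool.rec (fun _ => Nat) (Btab_127) (Btab_128) (Nat.ble 128 c)
noncomputable def Btab_s_126_129 (c : Nat) : Nat := @Bool.rec (fun _ => Nat) (Btab_126) (Btab_s_127_129 c) (Nat.ble 127 c)
noncomputable def Btab_s_124_129 (c : Nat) : Nat := @Bool.rec (fun _ => Nat) (Btab_s_124_126 c) (Btab_s_126_129 c) (Nat.ble 126 c)
noncomputable def Btab_s_120_129 (c : Nat) : Nat := @Bool.rec (fun _ => Nat) (Btab_s_120_124 c) (Btab_s_124_129 c) (Nat.ble 124 c)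
noncomputable def Btab_s_129_131 (c : Nat) : Nat := @Bool.rec (fun _ => Nat) (Btab_129) (Btab_130) (Nat.ble 130 c)
noncomputable def Btab_s_131_133 (c : Nat) : Nat := @Bool.rec (fun _ => Nat) (Btab_131) (Btab_132) (Nat.ble 132 c)
noncomputable def Btab_s_129_133 (c : Nat) : Nat := @Bool.rec (fun _ => Nat) (Btab_s_129_131 c) (Btab_s_131_133 c) (Nat.ble 131 c)
noncomputable def Btab_s_133_135 (c : Nat) : Nat := @Bool.rec (fun _ => Nat) (Btab_133) (Btab_134) (Nat.ble 134 c)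
noncomputable def Btab_s_136_138 (c : Nat) : Nat := @Bool.rec (fun _ => Nat) (Btab_136) (Btab_137) (Nat.ble 137 c)
noncomputable def Btab_s_135_138 (c : Nat) : Nat := @Bool.rec (fun _ => Nat) (Btab_135) (Btab_s_136_138 c) (Nat.ble 136 c)
noncomputable def Btab_s_133_138 (c : Nat) : Nat := @Bool.rec (fun _ => Nat) (Btab_s_133_135 c) (Btab_s_135_138 c) (Nat.ble 135 c)
noncomputable def Btab_s_129_138 (c : Nat) : Nat := @Bool.rec (fun _ => Nat) (Btab_s_129_133 c) (Btab_s_133_138 c) (Nat.ble 133 c)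
noncomputable def Btab_s_120_138 (c : Nat) : Nat := @Bool.rec (fun _ => Nat) (Btab_s_120_129 c) (Btab_s_129_138 c) (Nat.ble 129 c)
noncomputable def Btab_s_103_138 (c : Nat) : Nat := @Bool.rec (fun _ => Nat) (Btab_s_103_120 c) (Btab_s_120_138 c) (Nat.ble 120 c)
noncomputable def Btab_s_69_138 (c : Nat) : Nat := @Bool.rec (fun _ => Nat) (Btab_s_69_103 c) (Btab_s_103_138 c) (Nat.ble 103 c)
noncomputable def Btab_s_0_138 (c : Nat) : Nat := @Bool.rec (fun _ => Nat) (Btab_s_0_69 c) (Btab_s_69_138 c) (Nat.ble 69 c)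
noncomputable def Btab (i : Nat) : Nat := rdw 42 4398046511103 (Btab_s_0_138 (Nat.shiftRight i 11)) (Nat.land i 2047)
noncomputable def Ptab_s_1_3 (c : Nat) : Nat := @Bool.rec (fun _ => Nat) (Ptab_1) (Ptab_2) (Nat.ble 2 c)
noncomputable def Ptab_s_0_3 (c : Nat) : Nat := @Bool.rec (fun _ => Nat) (Ptab_0) (Ptab_s_1_3 c) (Nat.ble 1 c)
noncomputable def Ptab_s_3_5 (c : Nat) : Nat := @Bool.rec (fun _ => Nat) (Ptab_3) (Ptab_4) (Nat.ble 4 c)
noncomputable def Ptab_s_5_7 (c : Nat) : Nat := @Bool.rec (fun _ => Nat) (Ptab_5) (Ptab_6) (Nat.ble 6 c)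
noncomputable def Ptab_s_3_7 (c : Nat) : Nat := @Bool.rec (fun _ => Nat) (Ptab_s_3_5 c) (Ptab_s_5_7 c) (Nat.ble 5 c)
noncomputable def Ptab_s_0_7 (c : Nat) : Nat := @Bool.rec (fun _ => Nat) (Ptab_s_0_3 c) (Ptab_s_3_7 c) (Nat.ble 3 c)
noncomputable def Ptab_s_8_10 (c : Nat) : Nat := @Bool.rec (fun _ => Nat) (Ptab_8) (Ptab_9) (Nat.ble 9 c)
noncomputable def Ptab_s_7_10 (c : Nat) : Nat := @Bool.rec (fun _ => Nat) (Ptab_7) (Ptab_s_8_10 c) (Nat.ble 8 c)
noncomputable def Ptab_s_10_12 (c : Nat) : Nat := @Bool.rec (fun _ => Nat) (Ptab_10) (Ptab_11) (Nat.ble 11 c)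
noncomputable def Ptab_s_12_14 (c : Nat) : Nat := @Bool.rec (fun _ => Nat) (Ptab_12) (Ptab_13) (Nat.ble 13 c)
noncomputable def Ptab_s_10_14 (c : Nat) : Nat := @Bool.rec (fun _ => Nat) (Ptab_s_10_12 c) (Ptab_s_12_14 c) (Nat.ble 12 c)
noncomputable def Ptab_s_7_14 (c : Nat) : Nat := @Bool.rec (fun _ => Nat) (Ptab_s_7_10 c) (Ptab_s_10_14 c) (Nat.ble 10 c)
noncomputable def Ptab_s_0_14 (c : Nat) : Nat := @Bool.rec (fun _ => Nat) (Ptab_s_0_7 c) (Ptab_s_7_14 c) (Nat.ble 7 c)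
noncomputable def Ptab_s_15_17 (c : Nat) : Nat := @Bool.rec (fun _ => Nat) (Ptab_15) (Ptab_16) (Nat.ble 16 c)
noncomputable def Ptab_s_14_17 (c : Nat) : Nat := @Bool.rec (fun _ => Nat) (Ptab_14) (Ptab_s_15_17 c) (Nat.ble 15 c)
noncomputable def Ptab_s_17_19 (c : Nat) : Nat := @Bool.rec (fun _ => Nat) (Ptab_17) (Ptab_18) (Nat.ble 18 c)
noncomputable def Ptab_s_19_21 (c : Nat) : Nat := @Bool.rec (fun _ => Nat) (Ptab_19) (Ptab_20) (Nat.ble 20 c)
noncomputable def Ptab_s_17_21 (c : Nat) : Nat := @Bool.rec (fun _ => Nat) (Ptab_s_17_19 c) (Ptab_s_19_21 c) (Nat.ble 19 c)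
noncomputable def Ptab_s_14_21 (c : Nat) : Nat := @Bool.rec (fun _ => Nat) (Ptab_s_14_17 c) (Ptab_s_17_21 c) (Nat.ble 17 c)
noncomputable def Ptab_s_21_23 (c : Nat) : Nat := @Bool.rec (fun _ => Nat) (Ptab_21) (Ptab_22) (Nat.ble 22 c)
noncomputable def Ptab_s_23_25 (c : Nat) : Nat := @Bool.rec (fun _ => Nat) (Ptab_23) (Ptab_24) (Nat.ble 24 c)
noncomputable def Ptab_s_21_25 (c : Nat) : Nat := @Bool.rec (fun _ => Nat) (Ptab_s_21_23 c) (Ptab_s_23_25 c) (Nat.ble 23 c)
noncomputable def Ptab_s_25_27 (c : Nat) : Nat := @Bool.rec (fun _ => Nat) (Ptab_25) (Ptab_26) (Nat.ble 26 c)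
noncomputable def Ptab_s_27_29 (c : Nat) : Nat := @Bool.rec (fun _ => Nat) (Ptab_27) (Ptab_28) (Nat.ble 28 c)
noncomputable def Ptab_s_25_29 (c : Nat) : Nat := @Bool.rec (fun _ => Nat) (Ptab_s_25_27 c) (Ptab_s_27_29 c) (Nat.ble 27 c)
noncomputable def Ptab_s_21_29 (c : Nat) : Nat := @Bool.rec (fun _ => Nat) (Ptab_s_21_25 c) (Ptab_s_25_29 c) (Nat.ble 25 c)
noncomputable def Ptab_s_14_29 (c : Nat) : Nat := @Bool.rec (fun _ => Nat) (Ptab_s_14_21 c) (Ptab_s_21_29 c) (Nat.ble 21 c)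
noncomputable def Ptab_s_0_29 (c : Nat) : Nat := @Bool.rec (fun _ => Nat) (Ptab_s_0_14 c) (Ptab_s_14_29 c) (Nat.ble 14 c)
noncomputable def Ptab_s_30_32 (c : Nat) : Nat := @Bool.rec (fun _ => Nat) (Ptab_30) (Ptab_31) (Nat.ble 31 c)
noncomputable def Ptab_s_29_32 (c : Nat) : Nat := @Bool.rec (fun _ => Nat) (Ptab_29) (Ptab_s_30_32 c) (Nat.ble 30 c)
noncomputable def Ptab_s_32_34 (c : Nat) : Nat := @Bool.rec (fun _ => Nat) (Ptab_32) (Ptab_33) (Nat.ble 33 c)
noncomputable def Ptab_s_34_36 (c : Nat) : Nat := @Bool.rec (fun _ => Nat) (Ptab_34) (Ptab_35) (Nat.ble 35 c)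
noncomputable def Ptab_s_32_36 (c : Nat) : Nat := @Bool.rec (fun _ => Nat) (Ptab_s_32_34 c) (Ptab_s_34_36 c) (Nat.ble 34 c)
noncomputable def Ptab_s_29_36 (c : Nat) : Nat := @Bool.rec (fun _ => Nat) (Ptab_s_29_32 c) (Ptab_s_32_36 c) (Nat.ble 32 c)
noncomputable def Ptab_s_36_38 (c : Nat) : Nat := @Bool.rec (fun _ => Nat) (Ptab_36) (Ptab_37) (Nat.ble 37 c)
noncomputable def Ptab_s_38_40 (c : Nat) : Nat := @Bool.rec (fun _ => Nat) (Ptab_38) (Ptab_39) (Nat.ble 39 c)
noncomputable def Ptab_s_36_40 (c : Nat) : Nat := @Bool.rec (fun _ => Nat) (Ptab_s_36_38 c) (Ptab_s_38_40 c) (Nat.ble 38 c)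
noncomputable def Ptab_s_40_42 (c : Nat) : Nat := @Bool.rec (fun _ => Nat) (Ptab_40) (Ptab_41) (Nat.ble 41 c)
noncomputable def Ptab_s_42_44 (c : Nat) : Nat := @Bool.rec (fun _ => Nat) (Ptab_42) (Ptab_43) (Nat.ble 43 c)
noncomputable def Ptab_s_40_44 (c : Nat) : Nat := @Bool.rec (fun _ => Nat) (Ptab_s_40_42 c) (Ptab_s_42_44 c) (Nat.ble 42 c)
noncomputable def Ptab_s_36_44 (c : Nat) : Nat := @Bool.rec (fun _ => Nat) (Ptab_s_36_40 c) (Ptab_s_40_44 c) (Nat.ble 40 c)
noncomputable def Ptab_s_29_44 (c : Nat) : Nat := @Bool.rec (fun _ => Nat) (Ptab_s_29_36 c) (Ptab_s_36_44 c) (Nat.ble 36 c)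
noncomputable def Ptab_s_45_47 (c : Nat) : Nat := @Bool.rec (fun _ => Nat) (Ptab_45) (Ptab_46) (Nat.ble 46 c)
noncomputable def Ptab_s_44_47 (c : Nat) : Nat := @Bool.rec (fun _ => Nat) (Ptab_44) (Ptab_s_45_47 c) (Nat.ble 45 c)
noncomputable def Ptab_s_47_49 (c : Nat) : Nat := @Bool.rec (fun _ => Nat) (Ptab_47) (Ptab_48) (Nat.ble 48 c)
noncomputable def Ptab_s_49_51 (c : Nat) : Nat := @Bool.rec (fun _ => Nat) (Ptab_49) (Ptab_50) (Nat.ble 50 c)
noncomputable def Ptab_s_47_51 (c : Nat) : Nat := @Bool.rec (fun _ => Nat) (Ptab_s_47_49 c) (Ptab_s_49_51 c) (Nat.ble 49 c)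
noncomputable def Ptab_s_44_51 (c : Nat) : Nat := @Bool.rec (fun _ => Nat) (Ptab_s_44_47 c) (Ptab_s_47_51 c) (Nat.ble 47 c)
noncomputable def Ptab_s_51_53 (c : Nat) : Nat := @Bool.rec (fun _ => Nat) (Ptab_51) (Ptab_52) (Nat.ble 52 c)
noncomputable def Ptab_s_53_55 (c : Nat) : Nat := @Bool.rec (fun _ => Nat) (Ptab_53) (Ptab_54) (Nat.ble 54 c)
noncomputable def Ptab_s_51_55 (c : Nat) : Nat := @Bool.rec (fun _ => Nat) (Ptab_s_51_53 c) (Ptab_s_53_55 c) (Nat.ble 53 c)
noncomputable def Ptab_s_55_57 (c : Nat) : Nat := @Bool.rec (fun _ => Nat) (Ptab_55) (Ptab_56) (Nat.ble 56 c)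
noncomputable def Ptab_s_57_59 (c : Nat) : Nat := @Bool.rec (fun _ => Nat) (Ptab_57) (Ptab_58) (Nat.ble 58 c)
noncomputable def Ptab_s_55_59 (c : Nat) : Nat := @Bool.rec (fun _ => Nat) (Ptab_s_55_57 c) (Ptab_s_57_59 c) (Nat.ble 57 c)
noncomputable def Ptab_s_51_59 (c : Nat) : Nat := @Bool.rec (fun _ => Nat) (Ptab_s_51_55 c) (Ptab_s_55_59 c) (Nat.ble 55 c)
noncomputable def Ptab_s_44_59 (c : Nat) : Nat := @Bool.rec (fun _ => Nat) (Ptab_s_44_51 c) (Ptab_s_51_59 c) (Nat.ble 51 c)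
noncomputable def Ptab_s_29_59 (c : Nat) : Nat := @Bool.rec (fun _ => Nat) (Ptab_s_29_44 c) (Ptab_s_44_59 c) (Nat.ble 44 c)
noncomputable def Ptab_s_0_59 (c : Nat) : Nat := @Bool.rec (fun _ => Nat) (Ptab_s_0_29 c) (Ptab_s_29_59 c) (Nat.ble 29 c)
noncomputable def Ptab_s_60_62 (c : Nat) : Nat := @Bool.rec (fun _ => Nat) (Ptab_60) (Ptab_61) (Nat.ble 61 c)
noncomputable def Ptab_s_59_62 (c : Nat) : Nat := @Bool.rec (fun _ => Nat) (Ptab_59) (Ptab_s_60_62 c) (Nat.ble 60 c)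
noncomputable def Ptab_s_62_64 (c : Nat) : Nat := @Bool.rec (fun _ => Nat) (Ptab_62) (Ptab_63) (Nat.ble 63 c)
noncomputable def Ptab_s_64_66 (c : Nat) : Nat := @Bool.rec (fun _ => Nat) (Ptab_64) (Ptab_65) (Nat.ble 65 c)
noncomputable def Ptab_s_62_66 (c : Nat) : Nat := @Bool.rec (fun _ => Nat) (Ptab_s_62_64 c) (Ptab_s_64_66 c) (Nat.ble 64 c)
noncomputable def Ptab_s_59_66 (c : Nat) : Nat := @Bool.rec (fun _ => Nat) (Ptab_s_59_62 c) (Ptab_s_62_66 c) (Nat.ble 62 c)
noncomputable def Ptab_s_67_69 (c : Nat) : Nat := @Bool.rec (fun _ => Nat) (Ptab_67) (Ptab_68) (Nat.ble 68 c)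
noncomputable def Ptab_s_66_69 (c : Nat) : Nat := @Bool.rec (fun _ => Nat) (Ptab_66) (Ptab_s_67_69 c) (Nat.ble 67 c)
noncomputable def Ptab_s_69_71 (c : Nat) : Nat := @Bool.rec (fun _ => Nat) (Ptab_69) (Ptab_70) (Nat.ble 70 c)
noncomputable def Ptab_s_71_73 (c : Nat) : Nat := @Bool.rec (fun _ => Nat) (Ptab_71) (Ptab_72) (Nat.ble 72 c)
noncomputable def Ptab_s_69_73 (c : Nat) : Nat := @Bool.rec (fun _ => Nat) (Ptab_s_69_71 c) (Ptab_s_71_73 c) (Nat.ble 71 c)
noncomputable def Ptab_s_66_73 (c : Nat) : Nat := @Bool.rec (fun _ => Nat) (Ptab_s_66_69 c) (Ptab_s_69_73 c) (Nat.ble 69 c)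
noncomputable def Ptab_s_59_73 (c : Nat) : Nat := @Bool.rec (fun _ => Nat) (Ptab_s_59_66 c) (Ptab_s_66_73 c) (Nat.ble 66 c)
noncomputable def Ptab_s_74_76 (c : Nat) : Nat := @Bool.rec (fun _ => Nat) (Ptab_74) (Ptab_75) (Nat.ble 75 c)
noncomputable def Ptab_s_73_76 (c : Nat) : Nat := @Bool.rec (fun _ => Nat) (Ptab_73) (Ptab_s_74_76 c) (Nat.ble 74 c)
noncomputable def Ptab_s_76_78 (c : Nat) : Nat := @Bool.rec (fun _ => Nat) (Ptab_76) (Ptab_77) (Nat.ble 77 c)
noncomputable def Ptab_s_78_80 (c : Nat) : Nat := @Bool.rec (fun _ => Nat) (Ptab_78) (Ptab_79) (Nat.ble 79 c)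
noncomputable def Ptab_s_76_80 (c : Nat) : Nat := @Bool.rec (fun _ => Nat) (Ptab_s_76_78 c) (Ptab_s_78_80 c) (Nat.ble 78 c)
noncomputable def Ptab_s_73_80 (c : Nat) : Nat := @Bool.rec (fun _ => Nat) (Ptab_s_73_76 c) (Ptab_s_76_80 c) (Nat.ble 76 c)
noncomputable def Ptab_s_80_82 (c : Nat) : Nat := @Bool.rec (fun _ => Nat) (Ptab_80) (Ptab_81) (Nat.ble 81 c)
noncomputable def Ptab_s_82_84 (c : Nat) : Nat := @Bool.rec (fun _ => Nat) (Ptab_82) (Ptab_83) (Nat.ble 83 c)
noncomputable def Ptab_s_80_84 (c : Nat) : Nat := @Bool.rec (fun _ => Nat) (Ptab_s_80_82 c) (Ptab_s_82_84 c) (Nat.ble 82 c)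
noncomputable def Ptab_s_84_86 (c : Nat) : Nat := @Bool.rec (fun _ => Nat) (Ptab_84) (Ptab_85) (Nat.ble 85 c)
noncomputable def Ptab_s_86_88 (c : Nat) : Nat := @Bool.rec (fun _ => Nat) (Ptab_86) (Ptab_87) (Nat.ble 87 c)
noncomputable def Ptab_s_84_88 (c : Nat) : Nat := @Bool.rec (fun _ => Nat) (Ptab_s_84_86 c) (Ptab_s_86_88 c) (Nat.ble 86 c)
noncomputable def Ptab_s_80_88 (c : Nat) : Nat := @Bool.rec (fun _ => Nat) (Ptab_s_80_84 c) (Ptab_s_84_88 c) (Nat.ble 84 c)
noncomputable def Ptab_s_73_88 (c : Nat) : Nat := @Bool.rec (fun _ => Nat) (Ptab_s_73_80 c) (Ptab_s_80_88 c) (Nat.ble 80 c)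
noncomputable def Ptab_s_59_88 (c : Nat) : Nat := @Bool.rec (fun _ => Nat) (Ptab_s_59_73 c) (Ptab_s_73_88 c) (Nat.ble 73 c)
noncomputable def Ptab_s_89_91 (c : Nat) : Nat := @Bool.rec (fun _ => Nat) (Ptab_89) (Ptab_90) (Nat.ble 90 c)
noncomputable def Ptab_s_88_91 (c : Nat) : Nat := @Bool.rec (fun _ => Nat) (Ptab_88) (Ptab_s_89_91 c) (Nat.ble 89 c)
noncomputable def Ptab_s_91_93 (c : Nat) : Nat := @Bool.rec (fun _ => Nat) (Ptab_91) (Ptab_92) (Nat.ble 92 c)
noncomputable def Ptab_s_93_95 (c : Nat) : Nat := @Bool.rec (fun _ => Nat) (Ptab_93) (Ptab_94) (Nat.ble 94 c)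
noncomputable def Ptab_s_91_95 (c : Nat) : Nat := @Bool.rec (fun _ => Nat) (Ptab_s_91_93 c) (Ptab_s_93_95 c) (Nat.ble 93 c)
noncomputable def Ptab_s_88_95 (c : Nat) : Nat := @Bool.rec (fun _ => Nat) (Ptab_s_88_91 c) (Ptab_s_91_95 c) (Nat.ble 91 c)
noncomputable def Ptab_s_95_97 (c : Nat) : Nat := @Bool.rec (fun _ => Nat) (Ptab_95) (Ptab_96) (Nat.ble 96 c)
noncomputable def Ptab_s_97_99 (c : Nat) : Nat := @Bool.rec (fun _ => Nat) (Ptab_97) (Ptab_98) (Nat.ble 98 c)
noncomputable def Ptab_s_95_99 (c : Nat) : Nat := @Bool.rec (fun _ => Nat) (Ptab_s_95_97 c) (Ptab_s_97_99 c) (Nat.ble 97 c)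
noncomputable def Ptab_s_99_101 (c : Nat) : Nat := @Bool.rec (fun _ => Nat) (Ptab_99) (Ptab_100) (Nat.ble 100 c)
noncomputable def Ptab_s_101_103 (c : Nat) : Nat := @Bool.rec (fun _ => Nat) (Ptab_101) (Ptab_102) (Nat.ble 102 c)
noncomputable def Ptab_s_99_103 (c : Nat) : Nat := @Bool.rec (fun _ => Nat) (Ptab_s_99_101 c) (Ptab_s_101_103 c) (Nat.ble 101 c)
noncomputable def Ptab_s_95_103 (c : Nat) : Nat := @Bool.rec (fun _ => Nat) (Ptab_s_95_99 c) (Ptab_s_99_103 c) (Nat.ble 99 c)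
noncomputable def Ptab_s_88_103 (c : Nat) : Nat := @Bool.rec (fun _ => Nat) (Ptab_s_88_95 c) (Ptab_s_95_103 c) (Nat.ble 95 c)
noncomputable def Ptab_s_104_106 (c : Nat) : Nat := @Bool.rec (fun _ => Nat) (Ptab_104) (Ptab_105) (Nat.ble 105 c)
noncomputable def Ptab_s_103_106 (c : Nat) : Nat := @Bool.rec (fun _ => Nat) (Ptab_103) (Ptab_s_104_106 c) (Nat.ble 104 c)
noncomputable def Ptab_s_106_108 (c : Nat) : Nat := @Bool.rec (fun _ => Nat) (Ptab_106) (Ptab_107) (Nat.ble 107 c)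
noncomputable def Ptab_s_108_110 (c : Nat) : Nat := @Bool.rec (fun _ => Nat) (Ptab_108) (Ptab_109) (Nat.ble 109 c)
noncomputable def Ptab_s_106_110 (c : Nat) : Nat := @Bool.rec (fun _ => Nat) (Ptab_s_106_108 c) (Ptab_s_108_110 c) (Nat.ble 108 c)
noncomputable def Ptab_s_103_110 (c : Nat) : Nat := @Bool.rec (fun _ => Nat) (Ptab_s_103_106 c) (Ptab_s_106_110 c) (Nat.ble 106 c)
noncomputable def Ptab_s_110_112 (c : Nat) : Nat := @Bool.rec (fun _ => Nat) (Ptab_110) (Ptab_111) (Nat.ble 111 c)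
noncomputable def Ptab_s_112_114 (c : Nat) : Nat := @Bool.rec (fun _ => Nat) (Ptab_112) (Ptab_113) (Nat.ble 113 c)
noncomputable def Ptab_s_110_114 (c : Nat) : Nat := @Bool.rec (fun _ => Nat) (Ptab_s_110_112 c) (Ptab_s_112_114 c) (Nat.ble 112 c)
noncomputable def Ptab_s_114_116 (c : Nat) : Nat := @Bool.rec (fun _ => Nat) (Ptab_114) (Ptab_115) (Nat.ble 115 c)
noncomputable def Ptab_s_116_118 (c : Nat) : Nat := @Bool.rec (fun _ => Nat) (Ptab_116) (Ptab_117) (Nat.ble 117 c)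
noncomputable def Ptab_s_114_118 (c : Nat) : Nat := @Bool.rec (fun _ => Nat) (Ptab_s_114_116 c) (Ptab_s_116_118 c) (Nat.ble 116 c)
noncomputable def Ptab_s_110_118 (c : Nat) : Nat := @Bool.rec (fun _ => Nat) (Ptab_s_110_114 c) (Ptab_s_114_118 c) (Nat.ble 114 c)
noncomputable def Ptab_s_103_118 (c : Nat) : Nat := @Bool.rec (fun _ => Nat) (Ptab_s_103_110 c) (Ptab_s_110_118 c) (Nat.ble 110 c)
noncomputable def Ptab_s_88_118 (c : Nat) : Nat := @Bool.rec (fun _ => Nat) (Ptab_s_88_103 c) (Ptab_s_103_118 c) (Nat.ble 103 c)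
noncomputable def Ptab_s_59_118 (c : Nat) : Nat := @Bool.rec (fun _ => Nat) (Ptab_s_59_88 c) (Ptab_s_88_118 c) (Nat.ble 88 c)
noncomputable def Ptab_s_0_118 (c : Nat) : Nat := @Bool.rec (fun _ => Nat) (Ptab_s_0_59 c) (Ptab_s_59_118 c) (Nat.ble 59 c)
noncomputable def Ptab_s_119_121 (c : Nat) : Nat := @Bool.rec (fun _ => Nat) (Ptab_119) (Ptab_120) (Nat.ble 120 c)
noncomputable def Ptab_s_118_121 (c : Nat) : Nat := @Bool.rec (fun _ => Nat) (Ptab_118) (Ptab_s_119_121 c) (Nat.ble 119 c)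
noncomputable def Ptab_s_121_123 (c : Nat) : Nat := @Bool.rec (fun _ => Nat) (Ptab_121) (Ptab_122) (Nat.ble 122 c)
noncomputable def Ptab_s_123_125 (c : Nat) : Nat := @Bool.rec (fun _ => Nat) (Ptab_123) (Ptab_124) (Nat.ble 124 c)
noncomputable def Ptab_s_121_125 (c : Nat) : Nat := @Bool.rec (fun _ => Nat) (Ptab_s_121_123 c) (Ptab_s_123_125 c) (Nat.ble 123 c)
noncomputable def Ptab_s_118_125 (c : Nat) : Nat := @Bool.rec (fun _ => Nat) (Ptab_s_118_121 c) (Ptab_s_121_125 c) (Nat.ble 121 c)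
noncomputable def Ptab_s_126_128 (c : Nat) : Nat := @Bool.rec (fun _ => Nat) (Ptab_126) (Ptab_127) (Nat.ble 127 c)
noncomputable def Ptab_s_125_128 (c : Nat) : Nat := @Bool.rec (fun _ => Nat) (Ptab_125) (Ptab_s_126_128 c) (Nat.ble 126 c)
noncomputable def Ptab_s_128_130 (c : Nat) : Nat := @Bool.rec (fun _ => Nat) (Ptab_128) (Ptab_129) (Nat.ble 129 c)
noncomputable def Ptab_s_130_132 (c : Nat) : Nat := @Bool.rec (fun _ => Nat) (Ptab_130) (Ptab_131) (Nat.ble 131 c)
noncomputable def Ptab_s_128_132 (c : Nat) : Nat := @Bool.rec (fun _ => Nat) (Ptab_s_128_130 c) (Ptab_s_130_132 c) (Nat.ble 130 c)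
noncomputable def Ptab_s_125_132 (c : Nat) : Nat := @Bool.rec (fun _ => Nat) (Ptab_s_125_128 c) (Ptab_s_128_132 c) (Nat.ble 128 c)
noncomputable def Ptab_s_118_132 (c : Nat) : Nat := @Bool.rec (fun _ => Nat) (Ptab_s_118_125 c) (Ptab_s_125_132 c) (Nat.ble 125 c)
noncomputable def Ptab_s_133_135 (c : Nat) : Nat := @Bool.rec (fun _ => Nat) (Ptab_133) (Ptab_134) (Nat.ble 134 c)
noncomputable def Ptab_s_132_135 (c : Nat) : Nat := @Bool.rec (fun _ => Nat) (Ptab_132) (Ptab_s_133_135 c) (Nat.ble 133 c)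
noncomputable def Ptab_s_135_137 (c : Nat) : Nat := @Bool.rec (fun _ => Nat) (Ptab_135) (Ptab_136) (Nat.ble 136 c)
noncomputable def Ptab_s_137_139 (c : Nat) : Nat := @Bool.rec (fun _ => Nat) (Ptab_137) (Ptab_138) (Nat.ble 138 c)
noncomputable def Ptab_s_135_139 (c : Nat) : Nat := @Bool.rec (fun _ => Nat) (Ptab_s_135_137 c) (Ptab_s_137_139 c) (Nat.ble 137 c)
noncomputable def Ptab_s_132_139 (c : Nat) : Nat := @Bool.rec (fun _ => Nat) (Ptab_s_132_135 c) (Ptab_s_135_139 c) (Nat.ble 135 c)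
noncomputable def Ptab_s_139_141 (c : Nat) : Nat := @Bool.rec (fun _ => Nat) (Ptab_139) (Ptab_140) (Nat.ble 140 c)
noncomputable def Ptab_s_141_143 (c : Nat) : Nat := @Bool.rec (fun _ => Nat) (Ptab_141) (Ptab_142) (Nat.ble 142 c)
noncomputable def Ptab_s_139_143 (c : Nat) : Nat := @Bool.rec (fun _ => Nat) (Ptab_s_139_141 c) (Ptab_s_141_143 c) (Nat.ble 141 c)
noncomputable def Ptab_s_143_145 (c : Nat) : Nat := @Bool.rec (fun _ => Nat) (Ptab_143) (Ptab_144) (Nat.ble 144 c)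
noncomputable def Ptab_s_145_147 (c : Nat) : Nat := @Bool.rec (fun _ => Nat) (Ptab_145) (Ptab_146) (Nat.ble 146 c)
noncomputable def Ptab_s_143_147 (c : Nat) : Nat := @Bool.rec (fun _ => Nat) (Ptab_s_143_145 c) (Ptab_s_145_147 c) (Nat.ble 145 c)
noncomputable def Ptab_s_139_147 (c : Nat) : Nat := @Bool.rec (fun _ => Nat) (Ptab_s_139_143 c) (Ptab_s_143_147 c) (Nat.ble 143 c)
noncomputable def Ptab_s_132_147 (c : Nat) : Nat := @Bool.rec (fun _ => Nat) (Ptab_s_132_139 c) (Ptab_s_139_147 c) (Nat.ble 139 c)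
noncomputable def Ptab_s_118_147 (c : Nat) : Nat := @Bool.rec (fun _ => Nat) (Ptab_s_118_132 c) (Ptab_s_132_147 c) (Nat.ble 132 c)
noncomputable def Ptab_s_148_150 (c : Nat) : Nat := @Bool.rec (fun _ => Nat) (Ptab_148) (Ptab_149) (Nat.ble 149 c)
noncomputable def Ptab_s_147_150 (c : Nat) : Nat := @Bool.rec (fun _ => Nat) (Ptab_147) (Ptab_s_148_150 c) (Nat.ble 148 c)
noncomputable def Ptab_s_150_152 (c : Nat) : Nat := @Bool.rec (fun _ => Nat) (Ptab_150) (Ptab_151) (Nat.ble 151 c)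
noncomputable def Ptab_s_152_154 (c : Nat) : Nat := @Bool.rec (fun _ => Nat) (Ptab_152) (Ptab_153) (Nat.ble 153 c)
noncomputable def Ptab_s_150_154 (c : Nat) : Nat := @Bool.rec (fun _ => Nat) (Ptab_s_150_152 c) (Ptab_s_152_154 c) (Nat.ble 152 c)
noncomputable def Ptab_s_147_154 (c : Nat) : Nat := @Bool.rec (fun _ => Nat) (Ptab_s_147_150 c) (Ptab_s_150_154 c) (Nat.ble 150 c)
noncomputable def Ptab_s_154_156 (c : Nat) : Nat := @Bool.rec (fun _ => Nat) (Ptab_154) (Ptab_155) (Nat.ble 155 c)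
noncomputable def Ptab_s_156_158 (c : Nat) : Nat := @Bool.rec (fun _ => Nat) (Ptab_156) (Ptab_157) (Nat.ble 157 c)
noncomputable def Ptab_s_154_158 (c : Nat) : Nat := @Bool.rec (fun _ => Nat) (Ptab_s_154_156 c) (Ptab_s_156_158 c) (Nat.ble 156 c)
noncomputable def Ptab_s_158_160 (c : Nat) : Nat := @Bool.rec (fun _ => Nat) (Ptab_158) (Ptab_159) (Nat.ble 159 c)
noncomputable def Ptab_s_160_162 (c : Nat) : Nat := @Bool.rec (fun _ => Nat) (Ptab_160) (Ptab_161) (Nat.ble 161 c)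
noncomputable def Ptab_s_158_162 (c : Nat) : Nat := @Bool.rec (fun _ => Nat) (Ptab_s_158_160 c) (Ptab_s_160_162 c) (Nat.ble 160 c)
noncomputable def Ptab_s_154_162 (c : Nat) : Nat := @Bool.rec (fun _ => Nat) (Ptab_s_154_158 c) (Ptab_s_158_162 c) (Nat.ble 158 c)
noncomputable def Ptab_s_147_162 (c : Nat) : Nat := @Bool.rec (fun _ => Nat) (Ptab_s_147_154 c) (Ptab_s_154_162 c) (Nat.ble 154 c)
noncomputable def Ptab_s_163_165 (c : Nat) : Nat := @Bool.rec (fun _ => Nat) (Ptab_163) (Ptab_164) (Nat.ble 164 c)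
noncomputable def Ptab_s_162_165 (c : Nat) : Nat := @Bool.rec (fun _ => Nat) (Ptab_162) (Ptab_s_163_165 c) (Nat.ble 163 c)
noncomputable def Ptab_s_165_167 (c : Nat) : Nat := @Bool.rec (fun _ => Nat) (Ptab_165) (Ptab_166) (Nat.ble 166 c)
noncomputable def Ptab_s_167_169 (c : Nat) : Nat := @Bool.rec (fun _ => Nat) (Ptab_167) (Ptab_168) (Nat.ble 168 c)
noncomputable def Ptab_s_165_169 (c : Nat) : Nat := @Bool.rec (fun _ => Nat) (Ptab_s_165_167 c) (Ptab_s_167_169 c) (Nat.ble 167 c)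
noncomputable def Ptab_s_162_169 (c : Nat) : Nat := @Bool.rec (fun _ => Nat) (Ptab_s_162_165 c) (Ptab_s_165_169 c) (Nat.ble 165 c)
noncomputable def Ptab_s_169_171 (c : Nat) : Nat := @Bool.rec (fun _ => Nat) (Ptab_169) (Ptab_170) (Nat.ble 170 c)
noncomputable def Ptab_s_171_173 (c : Nat) : Nat := @Bool.rec (fun _ => Nat) (Ptab_171) (Ptab_172) (Nat.ble 172 c)
noncomputable def Ptab_s_169_173 (c : Nat) : Nat := @Bool.rec (fun _ => Nat) (Ptab_s_169_171 c) (Ptab_s_171_173 c) (Nat.ble 171 c)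
noncomputable def Ptab_s_173_175 (c : Nat) : Nat := @Bool.rec (fun _ => Nat) (Ptab_173) (Ptab_174) (Nat.ble 174 c)
noncomputable def Ptab_s_175_177 (c : Nat) : Nat := @Bool.rec (fun _ => Nat) (Ptab_175) (Ptab_176) (Nat.ble 176 c)
noncomputable def Ptab_s_173_177 (c : Nat) : Nat := @Bool.rec (fun _ => Nat) (Ptab_s_173_175 c) (Ptab_s_175_177 c) (Nat.ble 175 c)
noncomputable def Ptab_s_169_177 (c : Nat) : Nat := @Bool.rec (fun _ => Nat) (Ptab_s_169_173 c) (Ptab_s_173_177 c) (Nat.ble 173 c)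
noncomputable def Ptab_s_162_177 (c : Nat) : Nat := @Bool.rec (fun _ => Nat) (Ptab_s_162_169 c) (Ptab_s_169_177 c) (Nat.ble 169 c)
noncomputable def Ptab_s_147_177 (c : Nat) : Nat := @Bool.rec (fun _ => Nat) (Ptab_s_147_162 c) (Ptab_s_162_177 c) (Nat.ble 162 c)
noncomputable def Ptab_s_118_177 (c : Nat) : Nat := @Bool.rec (fun _ => Nat) (Ptab_s_118_147 c) (Ptab_s_147_177 c) (Nat.ble 147 c)
noncomputable def Ptab_s_178_180 (c : Nat) : Nat := @Bool.rec (fun _ => Nat) (Ptab_178) (Ptab_179) (Nat.ble 179 c)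
noncomputable def Ptab_s_177_180 (c : Nat) : Nat := @Bool.rec (fun _ => Nat) (Ptab_177) (Ptab_s_178_180 c) (Nat.ble 178 c)
noncomputable def Ptab_s_180_182 (c : Nat) : Nat := @Bool.rec (fun _ => Nat) (Ptab_180) (Ptab_181) (Nat.ble 181 c)
noncomputable def Ptab_s_182_184 (c : Nat) : Nat := @Bool.rec (fun _ => Nat) (Ptab_182) (Ptab_183) (Nat.ble 183 c)
noncomputable def Ptab_s_180_184 (c : Nat) : Nat := @Bool.rec (fun _ => Nat) (Ptab_s_180_182 c) (Ptab_s_182_184 c) (Nat.ble 182 c)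
noncomputable def Ptab_s_177_184 (c : Nat) : Nat := @Bool.rec (fun _ => Nat) (Ptab_s_177_180 c) (Ptab_s_180_184 c) (Nat.ble 180 c)
noncomputable def Ptab_s_184_186 (c : Nat) : Nat := @Bool.rec (fun _ => Nat) (Ptab_184) (Ptab_185) (Nat.ble 185 c)
noncomputable def Ptab_s_186_188 (c : Nat) : Nat := @Bool.rec (fun _ => Nat) (Ptab_186) (Ptab_187) (Nat.ble 187 c)
noncomputable def Ptab_s_184_188 (c : Nat) : Nat := @Bool.rec (fun _ => Nat) (Ptab_s_184_186 c) (Ptab_s_186_188 c) (Nat.ble 186 c)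
noncomputable def Ptab_s_188_190 (c : Nat) : Nat := @Bool.rec (fun _ => Nat) (Ptab_188) (Ptab_189) (Nat.ble 189 c)
noncomputable def Ptab_s_190_192 (c : Nat) : Nat := @Bool.rec (fun _ => Nat) (Ptab_190) (Ptab_191) (Nat.ble 191 c)
noncomputable def Ptab_s_188_192 (c : Nat) : Nat := @Bool.rec (fun _ => Nat) (Ptab_s_188_190 c) (Ptab_s_190_192 c) (Nat.ble 190 c)
noncomputable def Ptab_s_184_192 (c : Nat) : Nat := @Bool.rec (fun _ => Nat) (Ptab_s_184_188 c) (Ptab_s_188_192 c) (Nat.ble 188 c)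
noncomputable def Ptab_s_177_192 (c : Nat) : Nat := @Bool.rec (fun _ => Nat) (Ptab_s_177_184 c) (Ptab_s_184_192 c) (Nat.ble 184 c)
noncomputable def Ptab_s_193_195 (c : Nat) : Nat := @Bool.rec (fun _ => Nat) (Ptab_193) (Ptab_194) (Nat.ble 194 c)
noncomputable def Ptab_s_192_195 (c : Nat) : Nat := @Bool.rec (fun _ => Nat) (Ptab_192) (Ptab_s_193_195 c) (Nat.ble 193 c)
noncomputable def Ptab_s_195_197 (c : Nat) : Nat := @Bool.rec (fun _ => Nat) (Ptab_195) (Ptab_196) (Nat.ble 196 c)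
noncomputable def Ptab_s_197_199 (c : Nat) : Nat := @Bool.rec (fun _ => Nat) (Ptab_197) (Ptab_198) (Nat.ble 198 c)
noncomputable def Ptab_s_195_199 (c : Nat) : Nat := @Bool.rec (fun _ => Nat) (Ptab_s_195_197 c) (Ptab_s_197_199 c) (Nat.ble 197 c)
noncomputable def Ptab_s_192_199 (c : Nat) : Nat := @Bool.rec (fun _ => Nat) (Ptab_s_192_195 c) (Ptab_s_195_199 c) (Nat.ble 195 c)
noncomputable def Ptab_s_199_201 (c : Nat) : Nat := @Bool.rec (fun _ => Nat) (Ptab_199) (Ptab_200) (Nat.ble 200 c)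
noncomputable def Ptab_s_201_203 (c : Nat) : Nat := @Bool.rec (fun _ => Nat) (Ptab_201) (Ptab_202) (Nat.ble 202 c)
noncomputable def Ptab_s_199_203 (c : Nat) : Nat := @Bool.rec (fun _ => Nat) (Ptab_s_199_201 c) (Ptab_s_201_203 c) (Nat.ble 201 c)
noncomputable def Ptab_s_203_205 (c : Nat) : Nat := @Bool.rec (fun _ => Nat) (Ptab_203) (Ptab_204) (Nat.ble 204 c)
noncomputable def Ptab_s_205_207 (c : Nat) : Nat := @Bool.rec (fun _ => Nat) (Ptab_205) (Ptab_206) (Nat.ble 206 c)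
noncomputable def Ptab_s_203_207 (c : Nat) : Nat := @Bool.rec (fun _ => Nat) (Ptab_s_203_205 c) (Ptab_s_205_207 c) (Nat.ble 205 c)
noncomputable def Ptab_s_199_207 (c : Nat) : Nat := @Bool.rec (fun _ => Nat) (Ptab_s_199_203 c) (Ptab_s_203_207 c) (Nat.ble 203 c)
noncomputable def Ptab_s_192_207 (c : Nat) : Nat := @Bool.rec (fun _ => Nat) (Ptab_s_192_199 c) (Ptab_s_199_207 c) (Nat.ble 199 c)
noncomputable def Ptab_s_177_207 (c : Nat) : Nat := @Bool.rec (fun _ => Nat) (Ptab_s_177_192 c) (Ptab_s_192_207 c) (Nat.ble 192 c)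
noncomputable def Ptab_s_208_210 (c : Nat) : Nat := @Bool.rec (fun _ => Nat) (Ptab_208) (Ptab_209) (Nat.ble 209 c)
noncomputable def Ptab_s_207_210 (c : Nat) : Nat := @Bool.rec (fun _ => Nat) (Ptab_207) (Ptab_s_208_210 c) (Nat.ble 208 c)
noncomputable def Ptab_s_210_212 (c : Nat) : Nat := @Bool.rec (fun _ => Nat) (Ptab_210) (Ptab_211) (Nat.ble 211 c)
noncomputable def Ptab_s_212_214 (c : Nat) : Nat := @Bool.rec (fun _ => Nat) (Ptab_212) (Ptab_213) (Nat.ble 213 c)
noncomputable def Ptab_s_210_214 (c : Nat) : Nat := @Bool.rec (fun _ => Nat) (Ptab_s_210_212 c) (Ptab_s_212_214 c) (Nat.ble 212 c)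
noncomputable def Ptab_s_207_214 (c : Nat) : Nat := @Bool.rec (fun _ => Nat) (Ptab_s_207_210 c) (Ptab_s_210_214 c) (Nat.ble 210 c)
noncomputable def Ptab_s_214_216 (c : Nat) : Nat := @Bool.rec (fun _ => Nat) (Ptab_214) (Ptab_215) (Nat.ble 215 c)
noncomputable def Ptab_s_216_218 (c : Nat) : Nat := @Bool.rec (fun _ => Nat) (Ptab_216) (Ptab_217) (Nat.ble 217 c)
noncomputable def Ptab_s_214_218 (c : Nat) : Nat := @Bool.rec (fun _ => Nat) (Ptab_s_214_216 c) (Ptab_s_216_218 c) (Nat.ble 216 c)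
noncomputable def Ptab_s_218_220 (c : Nat) : Nat := @Bool.rec (fun _ => Nat) (Ptab_218) (Ptab_219) (Nat.ble 219 c)
noncomputable def Ptab_s_220_222 (c : Nat) : Nat := @Bool.rec (fun _ => Nat) (Ptab_220) (Ptab_221) (Nat.ble 221 c)
noncomputable def Ptab_s_218_222 (c : Nat) : Nat := @Bool.rec (fun _ => Nat) (Ptab_s_218_220 c) (Ptab_s_220_222 c) (Nat.ble 220 c)
noncomputable def Ptab_s_214_222 (c : Nat) : Nat := @Bool.rec (fun _ => Nat) (Ptab_s_214_218 c) (Ptab_s_218_222 c) (Nat.ble 218 c)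
noncomputable def Ptab_s_207_222 (c : Nat) : Nat := @Bool.rec (fun _ => Nat) (Ptab_s_207_214 c) (Ptab_s_214_222 c) (Nat.ble 214 c)
noncomputable def Ptab_s_223_225 (c : Nat) : Nat := @Bool.rec (fun _ => Nat) (Ptab_223) (Ptab_224) (Nat.ble 224 c)
noncomputable def Ptab_s_222_225 (c : Nat) : Nat := @Bool.rec (fun _ => Nat) (Ptab_222) (Ptab_s_223_225 c) (Nat.ble 223 c)
noncomputable def Ptab_s_225_227 (c : Nat) : Nat := @Bool.rec (fun _ => Nat) (Ptab_225) (Ptab_226) (Nat.ble 226 c)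
noncomputable def Ptab_s_227_229 (c : Nat) : Nat := @Bool.rec (fun _ => Nat) (Ptab_227) (Ptab_228) (Nat.ble 228 c)
noncomputable def Ptab_s_225_229 (c : Nat) : Nat := @Bool.rec (fun _ => Nat) (Ptab_s_225_227 c) (Ptab_s_227_229 c) (Nat.ble 227 c)
noncomputable def Ptab_s_222_229 (c : Nat) : Nat := @Bool.rec (fun _ => Nat) (Ptab_s_222_225 c) (Ptab_s_225_229 c) (Nat.ble 225 c)
noncomputable def Ptab_s_229_231 (c : Nat) : Nat := @Bool.rec (fun _ => Nat) (Ptab_229) (Ptab_230) (Nat.ble 230 c)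
noncomputable def Ptab_s_231_233 (c : Nat) : Nat := @Bool.rec (fun _ => Nat) (Ptab_231) (Ptab_232) (Nat.ble 232 c)
noncomputable def Ptab_s_229_233 (c : Nat) : Nat := @Bool.rec (fun _ => Nat) (Ptab_s_229_231 c) (Ptab_s_231_233 c) (Nat.ble 231 c)
noncomputable def Ptab_s_233_235 (c : Nat) : Nat := @Bool.rec (fun _ => Nat) (Ptab_233) (Ptab_234) (Nat.ble 234 c)
noncomputable def Ptab_s_235_237 (c : Nat) : Nat := @Bool.rec (fun _ => Nat) (Ptab_235) (Ptab_236) (Nat.ble 236 c)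
noncomputable def Ptab_s_233_237 (c : Nat) : Nat := @Bool.rec (fun _ => Nat) (Ptab_s_233_235 c) (Ptab_s_235_237 c) (Nat.ble 235 c)
noncomputable def Ptab_s_229_237 (c : Nat) : Nat := @Bool.rec (fun _ => Nat) (Ptab_s_229_233 c) (Ptab_s_233_237 c) (Nat.ble 233 c)
noncomputable def Ptab_s_222_237 (c : Nat) : Nat := @Bool.rec (fun _ => Nat) (Ptab_s_222_229 c) (Ptab_s_229_237 c) (Nat.ble 229 c)
noncomputable def Ptab_s_207_237 (c : Nat) : Nat := @Bool.rec (fun _ => Nat) (Ptab_s_207_222 c) (Ptab_s_222_237 c) (Nat.ble 222 c)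
noncomputable def Ptab_s_177_237 (c : Nat) : Nat := @Bool.rec (fun _ => Nat) (Ptab_s_177_207 c) (Ptab_s_207_237 c) (Nat.ble 207 c)
noncomputable def Ptab_s_118_237 (c : Nat) : Nat := @Bool.rec (fun _ => Nat) (Ptab_s_118_177 c) (Ptab_s_177_237 c) (Nat.ble 177 c)
noncomputable def Ptab_s_0_237 (c : Nat) : Nat := @Bool.rec (fun _ => Nat) (Ptab_s_0_118 c) (Ptab_s_118_237 c) (Nat.ble 118 c)
noncomputable def Ptab (i : Nat) : Nat := rdw 20 1048575 (Ptab_s_0_237 (Nat.shiftRight i 12)) (Nat.land i 4095)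
noncomputable def RRtab (i : Nat) : Nat := rdw 6 63 RRtab_0 i
noncomputable def rBtab (i : Nat) : Nat := rdw 12 4095 rBtab_0 i
noncomputable def rLtab (i : Nat) : Nat := rdw 6 63 rLtab_0 i
noncomputable def nameTab_s_0_2 (c : Nat) : Nat := @Bool.rec (fun _ => Nat) (nameTab_0) (nameTab_1) (Nat.ble 1 c)
noncomputable def nameTab (i : Nat) : Nat := rdw 16 65535 (nameTab_s_0_2 (Nat.shiftRight i 12)) (Nat.land i 4095)
noncomputable def col0_s_0_2 (c : Nat) : Nat := @Bool.rec (fun _ => Nat) (col0_0) (col0_1) (Nat.ble 1 c)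
noncomputable def col0 (i : Nat) : Nat := rdw 13 8191 (col0_s_0_2 (Nat.shiftRight i 12)) (Nat.land i 4095)
noncomputable def col1_s_0_2 (c : Nat) : Nat := @Bool.rec (fun _ => Nat) (col1_0) (col1_1) (Nat.ble 1 c)
noncomputable def col1 (i : Nat) : Nat := rdw 13 8191 (col1_s_0_2 (Nat.shiftRight i 12)) (Nat.land i 4095)
noncomputable def col2_s_0_2 (c : Nat) : Nat := @Bool.rec (fun _ => Nat) (col2_0) (col2_1) (Nat.ble 1 c)
noncomputable def col2 (i : Nat) : Nat := rdw 13 8191 (col2_s_0_2 (Nat.shiftRight i 12)) (Nat.land i 4095)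
noncomputable def col3_s_0_2 (c : Nat) : Nat := @Bool.rec (fun _ => Nat) (col3_0) (col3_1) (Nat.ble 1 c)
noncomputable def col3 (i : Nat) : Nat := rdw 13 8191 (col3_s_0_2 (Nat.shiftRight i 12)) (Nat.land i 4095)
noncomputable def col4_s_0_2 (c : Nat) : Nat := @Bool.rec (fun _ => Nat) (col4_0) (col4_1) (Nat.ble 1 c)
noncomputable def col4 (i : Nat) : Nat := rdw 13 8191 (col4_s_0_2 (Nat.shiftRight i 12)) (Nat.land i 4095)
noncomputable def col5_s_0_2 (c : Nat) : Nat := @Bool.rec (fun _ => Nat) (col5_0) (col5_1) (Nat.ble 1 c)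
noncomputable def col5 (i : Nat) : Nat := rdw 13 8191 (col5_s_0_2 (Nat.shiftRight i 12)) (Nat.land i 4095)
noncomputable def col6_s_0_2 (c : Nat) : Nat := @Bool.rec (fun _ => Nat) (col6_0) (col6_1) (Nat.ble 1 c)
noncomputable def col6 (i : Nat) : Nat := rdw 13 8191 (col6_s_0_2 (Nat.shiftRight i 12)) (Nat.land i 4095)
noncomputable def col7_s_0_2 (c : Nat) : Nat := @Bool.rec (fun _ => Nat) (col7_0) (col7_1) (Nat.ble 1 c)
noncomputable def col7 (i : Nat) : Nat := rdw 13 8191 (col7_s_0_2 (Nat.shiftRight i 12)) (Nat.land i 4095)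
noncomputable def col8_s_0_2 (c : Nat) : Nat := @Bool.rec (fun _ => Nat) (col8_0) (col8_1) (Nat.ble 1 c)
noncomputable def col8 (i : Nat) : Nat := rdw 13 8191 (col8_s_0_2 (Nat.shiftRight i 12)) (Nat.land i 4095)
noncomputable def col9_s_0_2 (c : Nat) : Nat := @Bool.rec (fun _ => Nat) (col9_0) (col9_1) (Nat.ble 1 c)
noncomputable def col9 (i : Nat) : Nat := rdw 13 8191 (col9_s_0_2 (Nat.shiftRight i 12)) (Nat.land i 4095)
noncomputable def col10_s_0_2 (c : Nat) : Nat := @Bool.rec (fun _ => Nat) (col10_0) (col10_1) (Nat.ble 1 c)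
noncomputable def col10 (i : Nat) : Nat := rdw 13 8191 (col10_s_0_2 (Nat.shiftRight i 12)) (Nat.land i 4095)
noncomputable def col11_s_0_2 (c : Nat) : Nat := @Bool.rec (fun _ => Nat) (col11_0) (col11_1) (Nat.ble 1 c)
noncomputable def col11 (i : Nat) : Nat := rdw 13 8191 (col11_s_0_2 (Nat.shiftRight i 12)) (Nat.land i 4095)
noncomputable def col12_s_0_2 (c : Nat) : Nat := @Bool.rec (fun _ => Nat) (col12_0) (col12_1) (Nat.ble 1 c)
noncomputable def col12 (i : Nat) : Nat := rdw 13 8191 (col12_s_0_2 (Nat.shiftRight i 12)) (Nat.land i 4095)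
noncomputable def col13_s_0_2 (c : Nat) : Nat := @Bool.rec (fun _ => Nat) (col13_0) (col13_1) (Nat.ble 1 c)
noncomputable def col13 (i : Nat) : Nat := rdw 13 8191 (col13_s_0_2 (Nat.shiftRight i 12)) (Nat.land i 4095)
noncomputable def col14_s_0_2 (c : Nat) : Nat := @Bool.rec (fun _ => Nat) (col14_0) (col14_1) (Nat.ble 1 c)
noncomputable def col14 (i : Nat) : Nat := rdw 13 8191 (col14_s_0_2 (Nat.shiftRight i 12)) (Nat.land i 4095)
noncomputable def col15_s_0_2 (c : Nat) : Nat := @Bool.rec (fun _ => Nat) (col15_0) (col15_1) (Nat.ble 1 c)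
noncomputable def col15 (i : Nat) : Nat := rdw 13 8191 (col15_s_0_2 (Nat.shiftRight i 12)) (Nat.land i 4095)
noncomputable def col16_s_0_2 (c : Nat) : Nat := @Bool.rec (fun _ => Nat) (col16_0) (col16_1) (Nat.ble 1 c)
noncomputable def col16 (i : Nat) : Nat := rdw 13 8191 (col16_s_0_2 (Nat.shiftRight i 12)) (Nat.land i 4095)
noncomputable def col17_s_0_2 (c : Nat) : Nat := @Bool.rec (fun _ => Nat) (col17_0) (col17_1) (Nat.ble 1 c)
noncomputable def col17 (i : Nat) : Nat := rdw 13 8191 (col17_s_0_2 (Nat.shiftRight i 12)) (Nat.land i 4095)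
noncomputable def col18_s_0_2 (c : Nat) : Nat := @Bool.rec (fun _ => Nat) (col18_0) (col18_1) (Nat.ble 1 c)
noncomputable def col18 (i : Nat) : Nat := rdw 13 8191 (col18_s_0_2 (Nat.shiftRight i 12)) (Nat.land i 4095)
noncomputable def col19_s_0_2 (c : Nat) : Nat := @Bool.rec (fun _ => Nat) (col19_0) (col19_1) (Nat.ble 1 c)
noncomputable def col19 (i : Nat) : Nat := rdw 13 8191 (col19_s_0_2 (Nat.shiftRight i 12)) (Nat.land i 4095)
noncomputable def col20_s_0_2 (c : Nat) : Nat := @Bool.rec (fun _ => Nat) (col20_0) (col20_1) (Nat.ble 1 c)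
noncomputable def col20 (i : Nat) : Nat := rdw 13 8191 (col20_s_0_2 (Nat.shiftRight i 12)) (Nat.land i 4095)
noncomputable def col21_s_0_2 (c : Nat) : Nat := @Bool.rec (fun _ => Nat) (col21_0) (col21_1) (Nat.ble 1 c)
noncomputable def col21 (i : Nat) : Nat := rdw 13 8191 (col21_s_0_2 (Nat.shiftRight i 12)) (Nat.land i 4095)
noncomputable def col22_s_0_2 (c : Nat) : Nat := @Bool.rec (fun _ => Nat) (col22_0) (col22_1) (Nat.ble 1 c)
noncomputable def col22 (i : Nat) : Nat := rdw 13 8191 (col22_s_0_2 (Nat.shiftRight i 12)) (Nat.land i 4095)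
noncomputable def col23_s_0_2 (c : Nat) : Nat := @Bool.rec (fun _ => Nat) (col23_0) (col23_1) (Nat.ble 1 c)
noncomputable def col23 (i : Nat) : Nat := rdw 13 8191 (col23_s_0_2 (Nat.shiftRight i 12)) (Nat.land i 4095)
noncomputable def col24_s_0_2 (c : Nat) : Nat := @Bool.rec (fun _ => Nat) (col24_0) (col24_1) (Nat.ble 1 c)
noncomputable def col24 (i : Nat) : Nat := rdw 13 8191 (col24_s_0_2 (Nat.shiftRight i 12)) (Nat.land i 4095)
noncomputable def col25_s_0_2 (c : Nat) : Nat := @Bool.rec (fun _ => Nat) (col25_0) (col25_1) (Nat.ble 1 c)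
noncomputable def col25 (i : Nat) : Nat := rdw 13 8191 (col25_s_0_2 (Nat.shiftRight i 12)) (Nat.land i 4095)
noncomputable def col26_s_0_2 (c : Nat) : Nat := @Bool.rec (fun _ => Nat) (col26_0) (col26_1) (Nat.ble 1 c)
noncomputable def col26 (i : Nat) : Nat := rdw 13 8191 (col26_s_0_2 (Nat.shiftRight i 12)) (Nat.land i 4095)
noncomputable def col27_s_0_2 (c : Nat) : Nat := @Bool.rec (fun _ => Nat) (col27_0) (col27_1) (Nat.ble 1 c)
noncomputable def col27 (i : Nat) : Nat := rdw 13 8191 (col27_s_0_2 (Nat.shiftRight i 12)) (Nat.land i 4095)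
noncomputable def col28_s_0_2 (c : Nat) : Nat := @Bool.rec (fun _ => Nat) (col28_0) (col28_1) (Nat.ble 1 c)
noncomputable def col28 (i : Nat) : Nat := rdw 13 8191 (col28_s_0_2 (Nat.shiftRight i 12)) (Nat.land i 4095)
noncomputable def col29_s_0_2 (c : Nat) : Nat := @Bool.rec (fun _ => Nat) (col29_0) (col29_1) (Nat.ble 1 c)
noncomputable def col29 (i : Nat) : Nat := rdw 13 8191 (col29_s_0_2 (Nat.shiftRight i 12)) (Nat.land i 4095)
noncomputable def col30_s_0_2 (c : Nat) : Nat := @Bool.rec (fun _ => Nat) (col30_0) (col30_1) (Nat.ble 1 c)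
noncomputable def col30 (i : Nat) : Nat := rdw 13 8191 (col30_s_0_2 (Nat.shiftRight i 12)) (Nat.land i 4095)
noncomputable def col31_s_0_2 (c : Nat) : Nat := @Bool.rec (fun _ => Nat) (col31_0) (col31_1) (Nat.ble 1 c)
noncomputable def col31 (i : Nat) : Nat := rdw 13 8191 (col31_s_0_2 (Nat.shiftRight i 12)) (Nat.land i 4095)
noncomputable def col32_s_0_2 (c : Nat) : Nat := @Bool.rec (fun _ => Nat) (col32_0) (col32_1) (Nat.ble 1 c)
noncomputable def col32 (i : Nat) : Nat := rdw 13 8191 (col32_s_0_2 (Nat.shiftRight i 12)) (Nat.land i 4095)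
noncomputable def col33_s_0_2 (c : Nat) : Nat := @Bool.rec (fun _ => Nat) (col33_0) (col33_1) (Nat.ble 1 c)
noncomputable def col33 (i : Nat) : Nat := rdw 13 8191 (col33_s_0_2 (Nat.shiftRight i 12)) (Nat.land i 4095)
noncomputable def col34_s_0_2 (c : Nat) : Nat := @Bool.rec (fun _ => Nat) (col34_0) (col34_1) (Nat.ble 1 c)
noncomputable def col34 (i : Nat) : Nat := rdw 13 8191 (col34_s_0_2 (Nat.shiftRight i 12)) (Nat.land i 4095)
noncomputable def col35_s_0_2 (c : Nat) : Nat := @Bool.rec (fun _ => Nat) (col35_0) (col35_1) (Nat.ble 1 c)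
noncomputable def col35 (i : Nat) : Nat := rdw 13 8191 (col35_s_0_2 (Nat.shiftRight i 12)) (Nat.land i 4095)
noncomputable def col36_s_0_2 (c : Nat) : Nat := @Bool.rec (fun _ => Nat) (col36_0) (col36_1) (Nat.ble 1 c)
noncomputable def col36 (i : Nat) : Nat := rdw 13 8191 (col36_s_0_2 (Nat.shiftRight i 12)) (Nat.land i 4095)
noncomputable def col37_s_0_2 (c : Nat) : Nat := @Bool.rec (fun _ => Nat) (col37_0) (col37_1) (Nat.ble 1 c)
noncomputable def col37 (i : Nat) : Nat := rdw 13 8191 (col37_s_0_2 (Nat.shiftRight i 12)) (Nat.land i 4095)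
noncomputable def col38_s_0_2 (c : Nat) : Nat := @Bool.rec (fun _ => Nat) (col38_0) (col38_1) (Nat.ble 1 c)
noncomputable def col38 (i : Nat) : Nat := rdw 13 8191 (col38_s_0_2 (Nat.shiftRight i 12)) (Nat.land i 4095)
noncomputable def col39_s_0_2 (c : Nat) : Nat := @Bool.rec (fun _ => Nat) (col39_0) (col39_1) (Nat.ble 1 c)
noncomputable def col39 (i : Nat) : Nat := rdw 13 8191 (col39_s_0_2 (Nat.shiftRight i 12)) (Nat.land i 4095)
noncomputable def col40_s_0_2 (c : Nat) : Nat := @Bool.rec (fun _ => Nat) (col40_0) (col40_1) (Nat.ble 1 c)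
noncomputable def col40 (i : Nat) : Nat := rdw 13 8191 (col40_s_0_2 (Nat.shiftRight i 12)) (Nat.land i 4095)
noncomputable def col41_s_0_2 (c : Nat) : Nat := @Bool.rec (fun _ => Nat) (col41_0) (col41_1) (Nat.ble 1 c)
noncomputable def col41 (i : Nat) : Nat := rdw 13 8191 (col41_s_0_2 (Nat.shiftRight i 12)) (Nat.land i 4095)
noncomputable def col42_s_0_2 (c : Nat) : Nat := @Bool.rec (fun _ => Nat) (col42_0) (col42_1) (Nat.ble 1 c)
noncomputable def col42 (i : Nat) : Nat := rdw 13 8191 (col42_s_0_2 (Nat.shiftRight i 12)) (Nat.land i 4095)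
noncomputable def col43_s_0_2 (c : Nat) : Nat := @Bool.rec (fun _ => Nat) (col43_0) (col43_1) (Nat.ble 1 c)
noncomputable def col43 (i : Nat) : Nat := rdw 13 8191 (col43_s_0_2 (Nat.shiftRight i 12)) (Nat.land i 4095)
noncomputable def col44_s_0_2 (c : Nat) : Nat := @Bool.rec (fun _ => Nat) (col44_0) (col44_1) (Nat.ble 1 c)
noncomputable def col44 (i : Nat) : Nat := rdw 13 8191 (col44_s_0_2 (Nat.shiftRight i 12)) (Nat.land i 4095)
noncomputable def col45_s_0_2 (c : Nat) : Nat := @Bool.rec (fun _ => Nat) (col45_0) (col45_1) (Nat.ble 1 c)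
noncomputable def col45 (i : Nat) : Nat := rdw 13 8191 (col45_s_0_2 (Nat.shiftRight i 12)) (Nat.land i 4095)
noncomputable def col46_s_0_2 (c : Nat) : Nat := @Bool.rec (fun _ => Nat) (col46_0) (col46_1) (Nat.ble 1 c)
noncomputable def col46 (i : Nat) : Nat := rdw 13 8191 (col46_s_0_2 (Nat.shiftRight i 12)) (Nat.land i 4095)
noncomputable def col47_s_0_2 (c : Nat) : Nat := @Bool.rec (fun _ => Nat) (col47_0) (col47_1) (Nat.ble 1 c)
noncomputable def col47 (i : Nat) : Nat := rdw 13 8191 (col47_s_0_2 (Nat.shiftRight i 12)) (Nat.land i 4095)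
noncomputable def col48_s_0_2 (c : Nat) : Nat := @Bool.rec (fun _ => Nat) (col48_0) (col48_1) (Nat.ble 1 c)
noncomputable def col48 (i : Nat) : Nat := rdw 13 8191 (col48_s_0_2 (Nat.shiftRight i 12)) (Nat.land i 4095)
noncomputable def col49_s_0_2 (c : Nat) : Nat := @Bool.rec (fun _ => Nat) (col49_0) (col49_1) (Nat.ble 1 c)
noncomputable def col49 (i : Nat) : Nat := rdw 13 8191 (col49_s_0_2 (Nat.shiftRight i 12)) (Nat.land i 4095)
noncomputable def finTab_s_0_2 (c : Nat) : Nat := @Bool.rec (fun _ => Nat) (finTab_0) (finTab_1) (Nat.ble 1 c)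
noncomputable def finTab_s_2_4 (c : Nat) : Nat := @Bool.rec (fun _ => Nat) (finTab_2) (finTab_3) (Nat.ble 3 c)
noncomputable def finTab_s_0_4 (c : Nat) : Nat := @Bool.rec (fun _ => Nat) (finTab_s_0_2 c) (finTab_s_2_4 c) (Nat.ble 2 c)
noncomputable def finTab_s_4_6 (c : Nat) : Nat := @Bool.rec (fun _ => Nat) (finTab_4) (finTab_5) (Nat.ble 5 c)
noncomputable def finTab_s_6_8 (c : Nat) : Nat := @Bool.rec (fun _ => Nat) (finTab_6) (finTab_7) (Nat.ble 7 c)
noncomputable def finTab_s_4_8 (c : Nat) : Nat := @Bool.rec (fun _ => Nat) (finTab_s_4_6 c) (finTab_s_6_8 c) (Nat.ble 6 c)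
noncomputable def finTab_s_0_8 (c : Nat) : Nat := @Bool.rec (fun _ => Nat) (finTab_s_0_4 c) (finTab_s_4_8 c) (Nat.ble 4 c)
noncomputable def finTab_s_8_10 (c : Nat) : Nat := @Bool.rec (fun _ => Nat) (finTab_8) (finTab_9) (Nat.ble 9 c)
noncomputable def finTab_s_10_12 (c : Nat) : Nat := @Bool.rec (fun _ => Nat) (finTab_10) (finTab_11) (Nat.ble 11 c)
noncomputable def finTab_s_8_12 (c : Nat) : Nat := @Bool.rec (fun _ => Nat) (finTab_s_8_10 c) (finTab_s_10_12 c) (Nat.ble 10 c)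
noncomputable def finTab_s_12_14 (c : Nat) : Nat := @Bool.rec (fun _ => Nat) (finTab_12) (finTab_13) (Nat.ble 13 c)
noncomputable def finTab_s_14_16 (c : Nat) : Nat := @Bool.rec (fun _ => Nat) (finTab_14) (finTab_15) (Nat.ble 15 c)
noncomputable def finTab_s_12_16 (c : Nat) : Nat := @Bool.rec (fun _ => Nat) (finTab_s_12_14 c) (finTab_s_14_16 c) (Nat.ble 14 c)
noncomputable def finTab_s_8_16 (c : Nat) : Nat := @Bool.rec (fun _ => Nat) (finTab_s_8_12 c) (finTab_s_12_16 c) (Nat.ble 12 c)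
noncomputable def finTab_s_0_16 (c : Nat) : Nat := @Bool.rec (fun _ => Nat) (finTab_s_0_8 c) (finTab_s_8_16 c) (Nat.ble 8 c)
noncomputable def finTab_s_16_18 (c : Nat) : Nat := @Bool.rec (fun _ => Nat) (finTab_16) (finTab_17) (Nat.ble 17 c)
noncomputable def finTab_s_18_20 (c : Nat) : Nat := @Bool.rec (fun _ => Nat) (finTab_18) (finTab_19) (Nat.ble 19 c)
noncomputable def finTab_s_16_20 (c : Nat) : Nat := @Bool.rec (fun _ => Nat) (finTab_s_16_18 c) (finTab_s_18_20 c) (Nat.ble 18 c)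
noncomputable def finTab_s_20_22 (c : Nat) : Nat := @Bool.rec (fun _ => Nat) (finTab_20) (finTab_21) (Nat.ble 21 c)
noncomputable def finTab_s_22_24 (c : Nat) : Nat := @Bool.rec (fun _ => Nat) (finTab_22) (finTab_23) (Nat.ble 23 c)
noncomputable def finTab_s_20_24 (c : Nat) : Nat := @Bool.rec (fun _ => Nat) (finTab_s_20_22 c) (finTab_s_22_24 c) (Nat.ble 22 c)
noncomputable def finTab_s_16_24 (c : Nat) : Nat := @Bool.rec (fun _ => Nat) (finTab_s_16_20 c) (finTab_s_20_24 c) (Nat.ble 20 c)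
noncomputable def finTab_s_24_26 (c : Nat) : Nat := @Bool.rec (fun _ => Nat) (finTab_24) (finTab_25) (Nat.ble 25 c)
noncomputable def finTab_s_26_28 (c : Nat) : Nat := @Bool.rec (fun _ => Nat) (finTab_26) (finTab_27) (Nat.ble 27 c)
noncomputable def finTab_s_24_28 (c : Nat) : Nat := @Bool.rec (fun _ => Nat) (finTab_s_24_26 c) (finTab_s_26_28 c) (Nat.ble 26 c)
noncomputable def finTab_s_28_30 (c : Nat) : Nat := @Bool.rec (fun _ => Nat) (finTab_28) (finTab_29) (Nat.ble 29 c)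
noncomputable def finTab_s_31_33 (c : Nat) : Nat := @Bool.rec (fun _ => Nat) (finTab_31) (finTab_32) (Nat.ble 32 c)
noncomputable def finTab_s_30_33 (c : Nat) : Nat := @Bool.rec (fun _ => Nat) (finTab_30) (finTab_s_31_33 c) (Nat.ble 31 c)
noncomputable def finTab_s_28_33 (c : Nat) : Nat := @Bool.rec (fun _ => Nat) (finTab_s_28_30 c) (finTab_s_30_33 c) (Nat.ble 30 c)
noncomputable def finTab_s_24_33 (c : Nat) : Nat := @Bool.rec (fun _ => Nat) (finTab_s_24_28 c) (finTab_s_28_33 c) (Nat.ble 28 c)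
noncomputable def finTab_s_16_33 (c : Nat) : Nat := @Bool.rec (fun _ => Nat) (finTab_s_16_24 c) (finTab_s_24_33 c) (Nat.ble 24 c)
noncomputable def finTab_s_0_33 (c : Nat) : Nat := @Bool.rec (fun _ => Nat) (finTab_s_0_16 c) (finTab_s_16_33 c) (Nat.ble 16 c)
noncomputable def finTab_s_33_35 (c : Nat) : Nat := @Bool.rec (fun _ => Nat) (finTab_33) (finTab_34) (Nat.ble 34 c)
noncomputable def finTab_s_35_37 (c : Nat) : Nat := @Bool.rec (fun _ => Nat) (finTab_35) (finTab_36) (Nat.ble 36 c)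
noncomputable def finTab_s_33_37 (c : Nat) : Nat := @Bool.rec (fun _ => Nat) (finTab_s_33_35 c) (finTab_s_35_37 c) (Nat.ble 35 c)
noncomputable def finTab_s_37_39 (c : Nat) : Nat := @Bool.rec (fun _ => Nat) (finTab_37) (finTab_38) (Nat.ble 38 c)
noncomputable def finTab_s_39_41 (c : Nat) : Nat := @Bool.rec (fun _ => Nat) (finTab_39) (finTab_40) (Nat.ble 40 c)
noncomputable def finTab_s_37_41 (c : Nat) : Nat := @Bool.rec (fun _ => Nat) (finTab_s_37_39 c) (finTab_s_39_41 c) (Nat.ble 39 c)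
noncomputable def finTab_s_33_41 (c : Nat) : Nat := @Bool.rec (fun _ => Nat) (finTab_s_33_37 c) (finTab_s_37_41 c) (Nat.ble 37 c)
noncomputable def finTab_s_41_43 (c : Nat) : Nat := @Bool.rec (fun _ => Nat) (finTab_41) (finTab_42) (Nat.ble 42 c)
noncomputable def finTab_s_43_45 (c : Nat) : Nat := @Bool.rec (fun _ => Nat) (finTab_43) (finTab_44) (Nat.ble 44 c)
noncomputable def finTab_s_41_45 (c : Nat) : Nat := @Bool.rec (fun _ => Nat) (finTab_s_41_43 c) (finTab_s_43_45 c) (Nat.ble 43 c)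
noncomputable def finTab_s_45_47 (c : Nat) : Nat := @Bool.rec (fun _ => Nat) (finTab_45) (finTab_46) (Nat.ble 46 c)
noncomputable def finTab_s_47_49 (c : Nat) : Nat := @Bool.rec (fun _ => Nat) (finTab_47) (finTab_48) (Nat.ble 48 c)
noncomputable def finTab_s_45_49 (c : Nat) : Nat := @Bool.rec (fun _ => Nat) (finTab_s_45_47 c) (finTab_s_47_49 c) (Nat.ble 47 c)
noncomputable def finTab_s_41_49 (c : Nat) : Nat := @Bool.rec (fun _ => Nat) (finTab_s_41_45 c) (finTab_s_45_49 c) (Nat.ble 45 c)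
noncomputable def finTab_s_33_49 (c : Nat) : Nat := @Bool.rec (fun _ => Nat) (finTab_s_33_41 c) (finTab_s_41_49 c) (Nat.ble 41 c)
noncomputable def finTab_s_49_51 (c : Nat) : Nat := @Bool.rec (fun _ => Nat) (finTab_49) (finTab_50) (Nat.ble 50 c)
noncomputable def finTab_s_51_53 (c : Nat) : Nat := @Bool.rec (fun _ => Nat) (finTab_51) (finTab_52) (Nat.ble 52 c)
noncomputable def finTab_s_49_53 (c : Nat) : Nat := @Bool.rec (fun _ => Nat) (finTab_s_49_51 c) (finTab_s_51_53 c) (Nat.ble 51 c)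
noncomputable def finTab_s_53_55 (c : Nat) : Nat := @Bool.rec (fun _ => Nat) (finTab_53) (finTab_54) (Nat.ble 54 c)
noncomputable def finTab_s_55_57 (c : Nat) : Nat := @Bool.rec (fun _ => Nat) (finTab_55) (finTab_56) (Nat.ble 56 c)
noncomputable def finTab_s_53_57 (c : Nat) : Nat := @Bool.rec (fun _ => Nat) (finTab_s_53_55 c) (finTab_s_55_57 c) (Nat.ble 55 c)
noncomputable def finTab_s_49_57 (c : Nat) : Nat := @Bool.rec (fun _ => Nat) (finTab_s_49_53 c) (finTab_s_53_57 c) (Nat.ble 53 c)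
noncomputable def finTab_s_57_59 (c : Nat) : Nat := @Bool.rec (fun _ => Nat) (finTab_57) (finTab_58) (Nat.ble 58 c)
noncomputable def finTab_s_59_61 (c : Nat) : Nat := @Bool.rec (fun _ => Nat) (finTab_59) (finTab_60) (Nat.ble 60 c)
noncomputable def finTab_s_57_61 (c : Nat) : Nat := @Bool.rec (fun _ => Nat) (finTab_s_57_59 c) (finTab_s_59_61 c) (Nat.ble 59 c)
noncomputable def finTab_s_61_63 (c : Nat) : Nat := @Bool.rec (fun _ => Nat) (finTab_61) (finTab_62) (Nat.ble 62 c)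
noncomputable def finTab_s_64_66 (c : Nat) : Nat := @Bool.rec (fun _ => Nat) (finTab_64) (finTab_65) (Nat.ble 65 c)
noncomputable def finTab_s_63_66 (c : Nat) : Nat := @Bool.rec (fun _ => Nat) (finTab_63) (finTab_s_64_66 c) (Nat.ble 64 c)
noncomputable def finTab_s_61_66 (c : Nat) : Nat := @Bool.rec (fun _ => Nat) (finTab_s_61_63 c) (finTab_s_63_66 c) (Nat.ble 63 c)
noncomputable def finTab_s_57_66 (c : Nat) : Nat := @Bool.rec (fun _ => Nat) (finTab_s_57_61 c) (finTab_s_61_66 c) (Nat.ble 61 c)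
noncomputable def finTab_s_49_66 (c : Nat) : Nat := @Bool.rec (fun _ => Nat) (finTab_s_49_57 c) (finTab_s_57_66 c) (Nat.ble 57 c)
noncomputable def finTab_s_33_66 (c : Nat) : Nat := @Bool.rec (fun _ => Nat) (finTab_s_33_49 c) (finTab_s_49_66 c) (Nat.ble 49 c)
noncomputable def finTab_s_0_66 (c : Nat) : Nat := @Bool.rec (fun _ => Nat) (finTab_s_0_33 c) (finTab_s_33_66 c) (Nat.ble 33 c)
noncomputable def finTab (i : Nat) : Nat := rdw 20 1048575 (finTab_s_0_66 (Nat.shiftRight i 12)) (Nat.land i 4095)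
noncomputable def clsTab_s_0_2 (c : Nat) : Nat := @Bool.rec (fun _ => Nat) (clsTab_0) (clsTab_1) (Nat.ble 1 c)
noncomputable def clsTab_s_2_4 (c : Nat) : Nat := @Bool.rec (fun _ => Nat) (clsTab_2) (clsTab_3) (Nat.ble 3 c)
noncomputable def clsTab_s_0_4 (c : Nat) : Nat := @Bool.rec (fun _ => Nat) (clsTab_s_0_2 c) (clsTab_s_2_4 c) (Nat.ble 2 c)
noncomputable def clsTab_s_4_6 (c : Nat) : Nat := @Bool.rec (fun _ => Nat) (clsTab_4) (clsTab_5) (Nat.ble 5 c)
noncomputable def clsTab_s_6_8 (c : Nat) : Nat := @Bool.rec (fun _ => Nat) (clsTab_6) (clsTab_7) (Nat.ble 7 c)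
noncomputable def clsTab_s_4_8 (c : Nat) : Nat := @Bool.rec (fun _ => Nat) (clsTab_s_4_6 c) (clsTab_s_6_8 c) (Nat.ble 6 c)
noncomputable def clsTab_s_0_8 (c : Nat) : Nat := @Bool.rec (fun _ => Nat) (clsTab_s_0_4 c) (clsTab_s_4_8 c) (Nat.ble 4 c)
noncomputable def clsTab_s_8_10 (c : Nat) : Nat := @Bool.rec (fun _ => Nat) (clsTab_8) (clsTab_9) (Nat.ble 9 c)
noncomputable def clsTab_s_10_12 (c : Nat) : Nat := @Bool.rec (fun _ => Nat) (clsTab_10) (clsTab_11) (Nat.ble 11 c)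
noncomputable def clsTab_s_8_12 (c : Nat) : Nat := @Bool.rec (fun _ => Nat) (clsTab_s_8_10 c) (clsTab_s_10_12 c) (Nat.ble 10 c)
noncomputable def clsTab_s_12_14 (c : Nat) : Nat := @Bool.rec (fun _ => Nat) (clsTab_12) (clsTab_13) (Nat.ble 13 c)
noncomputable def clsTab_s_14_16 (c : Nat) : Nat := @Bool.rec (fun _ => Nat) (clsTab_14) (clsTab_15) (Nat.ble 15 c)
noncomputable def clsTab_s_12_16 (c : Nat) : Nat := @Bool.rec (fun _ => Nat) (clsTab_s_12_14 c) (clsTab_s_14_16 c) (Nat.ble 14 c)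
noncomputable def clsTab_s_8_16 (c : Nat) : Nat := @Bool.rec (fun _ => Nat) (clsTab_s_8_12 c) (clsTab_s_12_16 c) (Nat.ble 12 c)
noncomputable def clsTab_s_0_16 (c : Nat) : Nat := @Bool.rec (fun _ => Nat) (clsTab_s_0_8 c) (clsTab_s_8_16 c) (Nat.ble 8 c)
noncomputable def clsTab (i : Nat) : Nat := rdw 13 8191 (clsTab_s_0_16 (Nat.shiftRight i 12)) (Nat.land i 4095)
noncomputable def oparTab_s_0_2 (c : Nat) : Nat := @Bool.rec (fun _ => Nat) (oparTab_0) (oparTab_1) (Nat.ble 1 c)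
noncomputable def oparTab (i : Nat) : Nat := rdw 13 8191 (oparTab_s_0_2 (Nat.shiftRight i 12)) (Nat.land i 4095)
noncomputable def olabTab (i : Nat) : Nat := rdw 3 7 olabTab_0 i
noncomputable def srcF (t : Nat) : Nat := Nat.land (Atab t) 65535
noncomputable def tgtF (t : Nat) : Nat := Nat.land (Nat.shiftRight (Atab t) 16) 65535
noncomputable def ltF (t : Nat) : Nat := Nat.shiftRight (Atab t) 32
noncomputable def rhoF (t : Nat) : Nat := Nat.land (Btab (Nat.sub t 61879)) 511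
noncomputable def rotF (t : Nat) : Nat := Nat.land (Nat.shiftRight (Btab (Nat.sub t 61879)) 9) 63
noncomputable def lenF (t : Nat) : Nat := Nat.land (Nat.shiftRight (Btab (Nat.sub t 61879)) 15) 127
noncomputable def offF (t : Nat) : Nat := Nat.shiftRight (Btab (Nat.sub t 61879)) 22
noncomputable def pfF (j : Nat) : Nat := Nat.shiftRight (Ptab j) 1
noncomputable def pdF (j : Nat) : Nat := Nat.land (Ptab j) 1
noncomputable def tblF (i x : Nat) : Nat := @Bool.rec (fun _ => Nat) (@Bool.rec (fun _ => Nat) (@Bool.rec (fun _ => Nat) (@Bool.rec (fun _ => Nat) (@Bool.rec (fun _ => Nat) (col0 i) (@Bool.rec (fun _ => Nat) (col1 i) (col2 i) (Nat.ble 2 x)) (Nat.ble 1 x)) (@Bool.rec (fun _ => Nat) (col3 i) (@Bool.rec (fun _ => Nat) (col4 i) (col5 i) (Nat.ble 5 x)) (Nat.ble 4 x)) (Nat.ble 3 x)) (@Bool.rec (fun _ => Nat) (@Bool.rec (fun _ => Nat) (col6 i) (@Bool.rec (fun _ => Nat) (col7 i) (col8 i) (Nat.ble 8 x)) (Nat.ble 7 x)) (@Bool.rec (fun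 _ => Nat) (col9 i) (@Bool.rec (fun _ => Nat) (col10 i) (col11 i) (Nat.ble 11 x)) (Nat.ble 10 x)) (Nat.ble 9 x)) (Nat.ble 6 x)) (@Bool.rec (fun _ => Nat) (@Bool.rec (fun _ => Nat) (@Bool.rec (fun _ => Nat) (col12 i) (@Bool.rec (fun _ => Nat) (col13 i) (col14 i) (Nat.ble 14 x)) (Nat.ble 13 x)) (@Bool.rec (fun _ => Nat) (col15 i) (@Bool.rec (fun _ => Nat) (col16 i) (col17 i) (Nat.ble 17 x)) (Nat.ble 16 x)) (Nat.ble 15 x)) (@Bool.rec (fun _ => Nat) (@Bool.rec (fun _ => Nat) (col18 i) (@Bool.rec (fun _ => Nat) (col19 i) (col20 i) (Nat.ble 20 x)) (Nat.ble 19 x)) (@Bool.rec (fun _ => Nat) (@Bool.rec (fun _ => Nat) (col21 i) (col22 i) (Nat.ble 22 x)) (@Bool.rec (fun _ => Nat) (col23 i) (col24 i) (Nat.ble 24 x)) (Nat.ble 23 x)) (Nat.ble 21 x)) (Nat.ble 18 x)) (Nat.ble 12 x)) (@Bool.rec (fun _ => Nat) (@Bool.rec (fun _ => Nat) (@Bool.rec (fun _ => Nat) (@Bool.rec (fun _ => Nat) (col25 i) (@Bool.rec (fun _ => Nat) (col26 i) (col27 i) (Nat.ble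 27 x)) (Nat.ble 26 x)) (@Bool.rec (fun _ => Nat) (col28 i) (@Bool.rec (fun _ => Nat) (col29 i) (col30 i) (Nat.ble 30 x)) (Nat.ble 29 x)) (Nat.ble 28 x)) (@Bool.rec (fun _ => Nat) (@Bool.rec (fun _ => Nat) (col31 i) (@Bool.rec (fun _ => Nat) (col32 i) (col33 i) (Nat.ble 33 x)) (Nat.ble 32 x)) (@Bool.rec (fun _ => Nat) (col34 i) (@Bool.rec (fun _ => Nat) (col35 i) (col36 i) (Nat.ble 36 x)) (Nat.ble 35 x)) (Nat.ble 34 x)) (Nat.ble 31 x)) (@Bool.rec (fun _ => Nat) (@Bool.rec (fun _ => Nat) (@Bool.rec (fun _ => Nat) (col37 i) (@Bool.rec (fun _ => Nat) (col38 i) (col39 i) (Nat.ble 39 x)) (Nat.ble 38 x)) (@Bool.rec (fun _ => Nat) (col40 i) (@Bool.rec (fun _ => Nat) (col41 i) (col42 i) (Nat.ble 42 x)) (Nat.ble 41 x)) (Nat.ble 40 x)) (@Bool.rec (fun _ => Nat) (@Bool.rec (fun _ => Nat) (col43 i) (@Bool.rec (fun _ => Nat) (col44 i) (col45 i) (Nat.ble 45 x)) (Nat.ble 44 x)) (@Bool.rec (fun _ => Nat) (@Bool.rec (fun _ => Nat) (col46 i) (col47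 i) (Nat.ble 47 x)) (@Bool.rec (fun _ => Nat) (col48 i) (col49 i) (Nat.ble 49 x)) (Nat.ble 48 x)) (Nat.ble 46 x)) (Nat.ble 43 x)) (Nat.ble 37 x)) (Nat.ble 25 x)
noncomputable def finE (i x : Nat) : Nat := finTab (Nat.add (Nat.mul i 50) x)
noncomputable def finFF (i x : Nat) : Nat := Nat.shiftRight (finE i x) 1
noncomputable def finDF (i x : Nat) : Nat := Nat.land (finE i x) 1

noncomputable def D : Log :=
  { k := 50, inv := invE 50 PSC3Suzp3.invR, nR := 446, rBase := rBtab, rLen := rLtab, RR := RRtab,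
    M := 61871, nB := 8, F := 343349, src := srcF, lt := ltF, tgt := tgtF, rho := rhoF, rot := rotF,
    off := offF, len := lenF, pf := pfF, pd := pdF }

noncomputable def T : Tab :=
  { N := 5346, nameOf := nameTab, tbl := tblF, finF := finFF, finD := finDF, cls := clsTab }

def subs : List (List Nat) := [
  [0],
  [2],
  [4],
  [6] ]

def rw0 : List Nat := [0, 0, 0, 0, 0, 0, 0]
def rw1 : List Nat := [2, 2, 2, 2]
def rw2 : List Nat := [4, 4]
def rw3 : List Nat := [6, 6]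
def rw4 : List Nat := [8, 8]
def rw5 : List Nat := [11, 2, 8, 4, 6, 2, 8, 4, 6, 2, 8, 4, 6, 2, 8, 4, 6, 2, 8, 4, 6, 2, 8, 4, 6, 2, 8, 4, 6, 2, 8, 4, 6]
def rw6 : List Nat := [13, 0, 8, 1, 3, 4, 3, 8, 2, 4, 2]
def rw7 : List Nat := [15, 0, 3, 8, 2, 1, 3, 0, 4, 8, 4, 1, 2]
def rw8 : List Nat := [17, 0, 8, 1, 2, 8, 3, 0, 8, 1, 2, 8, 3]
def rw9 : List Nat := [19, 0, 0, 4, 3, 3, 1, 8, 0, 2, 2, 4, 1, 1, 8]
def rw10 : List Nat := [21, 0, 0, 4, 2, 2, 1, 8, 0, 2, 2, 4, 1, 1, 8]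
def rw11 : List Nat := [23, 0, 0, 3, 8, 1, 4, 8, 4, 0, 8, 1, 3, 1, 3]
def rw12 : List Nat := [25, 0, 2, 1, 4, 0, 8, 1, 6, 2, 6, 0, 8, 1, 4]
def rw13 : List Nat := [27, 0, 3, 0, 3, 8, 2, 1, 2, 1, 2, 0, 8, 1, 3]
def rw14 : List Nat := [29, 0, 0, 2, 0, 0, 2, 8, 3, 1, 1, 3, 1, 1, 8]
def rw15 : List Nat := [31, 0, 4, 2, 8, 3, 4, 1, 2, 4, 0, 8, 1, 4, 3]
def rw16 : List Nat := [33, 0, 0, 0, 3, 4, 8, 4, 2, 1, 1, 1, 4, 8, 4]
def rw17 : List Nat := [35, 0, 4, 8, 4, 8, 2, 2, 8, 4, 8, 4, 1, 2, 2]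
def rw18 : List Nat := [37, 0, 2, 8, 6, 8, 4, 8, 6, 8, 0, 4, 1, 4, 2]
def rw19 : List Nat := [39, 10, 10, 10]
def rw20 : List Nat := [41, 11, 1, 10, 0]
def rw21 : List Nat := [43, 11, 3, 10, 2]
def rw22 : List Nat := [45, 11, 5, 10, 4]
def rw23 : List Nat := [47, 11, 7, 10, 6]
def rw24 : List Nat := [49, 11, 9, 10, 8]
def rw25 : List Nat := [12, 12, 12]
def rw26 : List Nat := [14, 14, 14]
def rw27 : List Nat := [16, 16, 16]
def rw28 : List Nat := [18, 18, 18]
def rw29 : List Nat := [20, 20, 20]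
def rw30 : List Nat := [22, 22, 22]
def rw31 : List Nat := [24, 24, 24]
def rw32 : List Nat := [26, 26, 26]
def rw33 : List Nat := [28, 28, 28]
def rw34 : List Nat := [30, 30, 30]
def rw35 : List Nat := [32, 32, 32]
def rw36 : List Nat := [34, 34, 34]
def rw37 : List Nat := [36, 36, 36]
def rw38 : List Nat := [38, 38, 38]
def rw39 : List Nat := [40, 40, 40]
def rw40 : List Nat := [42, 42, 42]
def rw41 : List Nat := [44, 44, 44]
def rw42 : List Nat := [46, 46, 46]
def rw43 : List Nat := [48, 48, 48]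
def rw44 : List Nat := [12, 0, 13, 1]
def rw45 : List Nat := [12, 2, 13, 3]
def rw46 : List Nat := [12, 4, 13, 5]
def rw47 : List Nat := [12, 6, 13, 7]
def rw48 : List Nat := [12, 8, 13, 9]
def rw49 : List Nat := [12, 10, 13, 11]
def rw50 : List Nat := [14, 0, 15, 1]
def rw51 : List Nat := [14, 2, 15, 3]
def rw52 : List Nat := [14, 4, 15, 5]
def rw53 : List Nat := [14, 6, 15, 7]
def rw54 : List Nat := [14, 8, 15, 9]
def rw55 : List Nat := [14, 10, 15, 11]
def rw56 : List Nat := [16, 0, 17, 1]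
def rw57 : List Nat := [16, 2, 17, 3]
def rw58 : List Nat := [16, 4, 17, 5]
def rw59 : List Nat := [16, 6, 17, 7]
def rw60 : List Nat := [16, 8, 17, 9]
def rw61 : List Nat := [16, 10, 17, 11]
def rw62 : List Nat := [18, 0, 19, 1]
def rw63 : List Nat := [18, 2, 19, 3]
def rw64 : List Nat := [18, 4, 19, 5]
def rw65 : List Nat := [18, 6, 19, 7]
def rw66 : List Nat := [18, 8, 19, 9]
def rw67 : List Nat := [18, 10, 19, 11]
def rw68 : List Nat := [20, 0, 21, 1]
def rw69 : List Nat := [20, 2, 21, 3]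
def rw70 : List Nat := [20, 4, 21, 5]
def rw71 : List Nat := [20, 6, 21, 7]
def rw72 : List Nat := [20, 8, 21, 9]
def rw73 : List Nat := [20, 10, 21, 11]
def rw74 : List Nat := [22, 0, 23, 1]
def rw75 : List Nat := [22, 2, 23, 3]
def rw76 : List Nat := [22, 4, 23, 5]
def rw77 : List Nat := [22, 6, 23, 7]
def rw78 : List Nat := [22, 8, 23, 9]
def rw79 : List Nat := [22, 10, 23, 11]
def rw80 : List Nat := [24, 0, 25, 1]
def rw81 : List Nat := [24, 2, 25, 3]
def rw82 : List Nat := [24, 4, 25, 5]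
def rw83 : List Nat := [24, 6, 25, 7]
def rw84 : List Nat := [24, 8, 25, 9]
def rw85 : List Nat := [24, 10, 25, 11]
def rw86 : List Nat := [26, 0, 27, 1]
def rw87 : List Nat := [26, 2, 27, 3]
def rw88 : List Nat := [26, 4, 27, 5]
def rw89 : List Nat := [26, 6, 27, 7]
def rw90 : List Nat := [26, 8, 27, 9]
def rw91 : List Nat := [26, 10, 27, 11]
def rw92 : List Nat := [28, 0, 29, 1]
def rw93 : List Nat := [28, 2, 29, 3]
def rw94 : List Nat := [28, 4, 29, 5]
def rw95 : List Nat := [28, 6, 29, 7]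
def rw96 : List Nat := [28, 8, 29, 9]
def rw97 : List Nat := [28, 10, 29, 11]
def rw98 : List Nat := [30, 0, 31, 1]
def rw99 : List Nat := [30, 2, 31, 3]
def rw100 : List Nat := [30, 4, 31, 5]
def rw101 : List Nat := [30, 6, 31, 7]
def rw102 : List Nat := [30, 8, 31, 9]
def rw103 : List Nat := [30, 10, 31, 11]
def rw104 : List Nat := [32, 0, 33, 1]
def rw105 : List Nat := [32, 2, 33, 3]
def rw106 : List Nat := [32, 4, 33, 5]
def rw107 : List Nat := [32, 6, 33, 7]
def rw108 : List Nat := [32, 8, 33, 9]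
def rw109 : List Nat := [32, 10, 33, 11]
def rw110 : List Nat := [34, 0, 35, 1]
def rw111 : List Nat := [34, 2, 35, 3]
def rw112 : List Nat := [34, 4, 35, 5]
def rw113 : List Nat := [34, 6, 35, 7]
def rw114 : List Nat := [34, 8, 35, 9]
def rw115 : List Nat := [34, 10, 35, 11]
def rw116 : List Nat := [36, 0, 37, 1]
def rw117 : List Nat := [36, 2, 37, 3]
def rw118 : List Nat := [36, 4, 37, 5]
def rw119 : List Nat := [36, 6, 37, 7]
def rw120 : List Nat := [36, 8, 37, 9]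
def rw121 : List Nat := [36, 10, 37, 11]
def rw122 : List Nat := [38, 0, 39, 1]
def rw123 : List Nat := [38, 2, 39, 3]
def rw124 : List Nat := [38, 4, 39, 5]
def rw125 : List Nat := [38, 6, 39, 7]
def rw126 : List Nat := [38, 8, 39, 9]
def rw127 : List Nat := [38, 10, 39, 11]
def rw128 : List Nat := [40, 0, 41, 1]
def rw129 : List Nat := [40, 2, 41, 3]
def rw130 : List Nat := [40, 4, 41, 5]
def rw131 : List Nat := [40, 6, 41, 7]
def rw132 : List Nat := [40, 8, 41, 9]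
def rw133 : List Nat := [40, 10, 41, 11]
def rw134 : List Nat := [42, 0, 43, 1]
def rw135 : List Nat := [42, 2, 43, 3]
def rw136 : List Nat := [42, 4, 43, 5]
def rw137 : List Nat := [42, 6, 43, 7]
def rw138 : List Nat := [42, 8, 43, 9]
def rw139 : List Nat := [42, 10, 43, 11]
def rw140 : List Nat := [44, 0, 45, 1]
def rw141 : List Nat := [44, 2, 45, 3]
def rw142 : List Nat := [44, 4, 45, 5]
def rw143 : List Nat := [44, 6, 45, 7]
def rw144 : List Nat := [44, 8, 45, 9]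
def rw145 : List Nat := [44, 10, 45, 11]
def rw146 : List Nat := [46, 0, 47, 1]
def rw147 : List Nat := [46, 2, 47, 3]
def rw148 : List Nat := [46, 4, 47, 5]
def rw149 : List Nat := [46, 6, 47, 7]
def rw150 : List Nat := [46, 8, 47, 9]
def rw151 : List Nat := [46, 10, 47, 11]
def rw152 : List Nat := [48, 0, 49, 1]
def rw153 : List Nat := [48, 2, 49, 3]
def rw154 : List Nat := [48, 4, 49, 5]
def rw155 : List Nat := [48, 6, 49, 7]
def rw156 : List Nat := [48, 8, 49, 9]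
def rw157 : List Nat := [48, 10, 49, 11]
def rw158 : List Nat := [0, 0, 0, 0, 0, 0, 0]
def rw159 : List Nat := [0, 0, 2, 1, 2, 0, 3, 0, 2, 1, 2]
def rw160 : List Nat := [0, 0, 0, 2, 0, 0, 0, 2, 0, 0, 0, 2]
def rw161 : List Nat := [0, 0, 2, 2, 0, 0, 3, 3, 0, 0, 3, 3]
def rw162 : List Nat := [4, 4]
def rw163 : List Nat := [0, 4, 3, 4, 2, 1, 2, 1, 1, 4, 2]
def rw164 : List Nat := [0, 4, 1, 3, 1, 3, 0, 4, 1, 3, 1, 3]
def rw165 : List Nat := [6, 6]
def rw166 : List Nat := [0, 2, 1, 4, 6, 2, 7, 4]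
def rw167 : List Nat := [0, 2, 1, 7, 4, 1, 2, 0, 4, 6]
def rw168 : List Nat := [0, 0, 4, 3, 1, 3, 1, 4, 2, 4, 3, 0, 6, 0, 6, 4, 7]
def realLit : List (List Nat) := [rw0, rw1, rw2, rw3, rw4, rw5, rw6, rw7, rw8, rw9, rw10, rw11, rw12, rw13, rw14, rw15, rw16, rw17, rw18, rw19, rw20, rw21, rw22, rw23, rw24, rw25, rw26, rw27, rw28, rw29, rw30, rw31, rw32, rw33, rw34, rw35, rw36, rw37, rw38, rw39, rw40, rw41, rw42, rw43, rw44, rw45, rw46, rw47, rw48, rw49, rw50, rw51, rw52, rw53, rw54, rw55, rw56, rw57, rw58, rw59, rw60, rw61, rw62, rw63, rw64, rw65, rw66, rw67, rw68, rw69, rw70, rw71, rw72, rw73, rw74, rw75, rw76, rw77, rw78, rw79, rw80, rw81, rw82, rw83, rw84, rw85, rw86, rw87, rw88, rw89, rw90, rw91, rw92, rw93, rw94, rw95, rw96, rw97, rw98, rw99, rw100, rw101, rw102, rw103, rw104, rw105, rw106, rw107, rw108, rw109, rw110, rw111, rw112, rw113, rw114, rw115, rw116, rw117, rw118, rw119, rw120, rw121, rw122, rw123, rw124, rw125, rw126,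 rw127, rw128, rw129, rw130, rw131, rw132, rw133, rw134, rw135, rw136, rw137, rw138, rw139, rw140, rw141, rw142, rw143, rw144, rw145, rw146, rw147, rw148, rw149, rw150, rw151, rw152, rw153, rw154, rw155, rw156, rw157, rw158, rw159, rw160, rw161, rw162, rw163, rw164, rw165, rw166, rw167, rw168]
noncomputable def actR0 (i : Nat) : Nat := col1 (col1 (col1 (col1 (col1 (col1 (col1 (i)))))))
theorem actR0_eq (i : Nat) : actR0 i = Tab.act T D rw0 i := rfl
noncomputable def actR1 (i : Nat) : Nat := col3 (col3 (col3 (col3 (i))))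
theorem actR1_eq (i : Nat) : actR1 i = Tab.act T D rw1 i := rfl
noncomputable def actR2 (i : Nat) : Nat := col5 (col5 (i))
theorem actR2_eq (i : Nat) : actR2 i = Tab.act T D rw2 i := rfl
noncomputable def actR3 (i : Nat) : Nat := col7 (col7 (i))
theorem actR3_eq (i : Nat) : actR3 i = Tab.act T D rw3 i := rfl
noncomputable def actR4 (i : Nat) : Nat := col9 (col9 (i))
theorem actR4_eq (i : Nat) : actR4 i = Tab.act T D rw4 i := rfl
noncomputable def actR5 (i : Nat) : Nat := col10 (col3 (col9 (col5 (col7 (col3 (col9 (col5 (col7 (col3 (col9 (col5 (col7 (col3 (col9 (col5 (col7 (col3 (col9 (col5 (col7 (col3 (col9 (col5 (col7 (col3 (col9 (col5 (col7 (col3 (col9 (col5 (col7 (i)))))))))))))))))))))))))))))))))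
theorem actR5_eq (i : Nat) : actR5 i = Tab.act T D rw5 i := rfl
noncomputable def actR6 (i : Nat) : Nat := col12 (col1 (col9 (col0 (col2 (col5 (col2 (col9 (col3 (col5 (col3 (i)))))))))))
theorem actR6_eq (i : Nat) : actR6 i = Tab.act T D rw6 i := rfl
noncomputable def actR7 (i : Nat) : Nat := col14 (col1 (col2 (col9 (col3 (col0 (col2 (col1 (col5 (col9 (col5 (col0 (col3 (i)))))))))))))
theorem actR7_eq (i : Nat) : actR7 i = Tab.act T D rw7 i := rfl
noncomputable def actR8 (i : Nat) : Nat := col16 (col1 (col9 (col0 (col3 (col9 (col2 (col1 (col9 (col0 (col3 (col9 (col2 (i)))))))))))))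
theorem actR8_eq (i : Nat) : actR8 i = Tab.act T D rw8 i := rfl
noncomputable def actR9 (i : Nat) : Nat := col18 (col1 (col1 (col5 (col2 (col2 (col0 (col9 (col1 (col3 (col3 (col5 (col0 (col0 (col9 (i)))))))))))))))
theorem actR9_eq (i : Nat) : actR9 i = Tab.act T D rw9 i := rfl
noncomputable def actR10 (i : Nat) : Nat := col20 (col1 (col1 (col5 (col3 (col3 (col0 (col9 (col1 (col3 (col3 (col5 (col0 (col0 (col9 (i)))))))))))))))
theorem actR10_eq (i : Nat) : actR10 i = Tab.act T D rw10 i := rfl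
noncomputable def actR11 (i : Nat) : Nat := col22 (col1 (col1 (col2 (col9 (col0 (col5 (col9 (col5 (col1 (col9 (col0 (col2 (col0 (col2 (i)))))))))))))))
theorem actR11_eq (i : Nat) : actR11 i = Tab.act T D rw11 i := rfl
noncomputable def actR12 (i : Nat) : Nat := col24 (col1 (col3 (col0 (col5 (col1 (col9 (col0 (col7 (col3 (col7 (col1 (col9 (col0 (col5 (i)))))))))))))))
theorem actR12_eq (i : Nat) : actR12 i = Tab.act T D rw12 i := rfl
noncomputable def actR13 (i : Nat) : Nat := col26 (col1 (col2 (col1 (col2 (col9 (col3 (col0 (col3 (col0 (col3 (col1 (col9 (col0 (col2 (i)))))))))))))))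
theorem actR13_eq (i : Nat) : actR13 i = Tab.act T D rw13 i := rfl
noncomputable def actR14 (i : Nat) : Nat := col28 (col1 (col1 (col3 (col1 (col1 (col3 (col9 (col2 (col0 (col0 (col2 (col0 (col0 (col9 (i)))))))))))))))
theorem actR14_eq (i : Nat) : actR14 i = Tab.act T D rw14 i := rfl
noncomputable def actR15 (i : Nat) : Nat := col30 (col1 (col5 (col3 (col9 (col2 (col5 (col0 (col3 (col5 (col1 (col9 (col0 (col5 (col2 (i)))))))))))))))
theorem actR15_eq (i : Nat) : actR15 i = Tab.act T D rw15 i := rfl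
noncomputable def actR16 (i : Nat) : Nat := col32 (col1 (col1 (col1 (col2 (col5 (col9 (col5 (col3 (col0 (col0 (col0 (col5 (col9 (col5 (i)))))))))))))))
theorem actR16_eq (i : Nat) : actR16 i = Tab.act T D rw16 i := rfl
noncomputable def actR17 (i : Nat) : Nat := col34 (col1 (col5 (col9 (col5 (col9 (col3 (col3 (col9 (col5 (col9 (col5 (col0 (col3 (col3 (i)))))))))))))))
theorem actR17_eq (i : Nat) : actR17 i = Tab.act T D rw17 i := rfl
noncomputable def actR18 (i : Nat) : Nat := col36 (col1 (col3 (col9 (col7 (col9 (col5 (col9 (col7 (col9 (col1 (col5 (col0 (col5 (col3 (i)))))))))))))))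
theorem actR18_eq (i : Nat) : actR18 i = Tab.act T D rw18 i := rfl
noncomputable def actR19 (i : Nat) : Nat := col38 (col11 (col11 (col11 (i))))
theorem actR19_eq (i : Nat) : actR19 i = Tab.act T D rw19 i := rfl
noncomputable def actR20 (i : Nat) : Nat := col40 (col10 (col0 (col11 (col1 (i)))))
theorem actR20_eq (i : Nat) : actR20 i = Tab.act T D rw20 i := rfl
noncomputable def actR21 (i : Nat) : Nat := col42 (col10 (col2 (col11 (col3 (i)))))
theorem actR21_eq (i : Nat) : actR21 i = Tab.act T D rw21 i := rfl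
noncomputable def actR22 (i : Nat) : Nat := col44 (col10 (col4 (col11 (col5 (i)))))
theorem actR22_eq (i : Nat) : actR22 i = Tab.act T D rw22 i := rfl
noncomputable def actR23 (i : Nat) : Nat := col46 (col10 (col6 (col11 (col7 (i)))))
theorem actR23_eq (i : Nat) : actR23 i = Tab.act T D rw23 i := rfl
noncomputable def actR24 (i : Nat) : Nat := col48 (col10 (col8 (col11 (col9 (i)))))
theorem actR24_eq (i : Nat) : actR24 i = Tab.act T D rw24 i := rfl
noncomputable def actR25 (i : Nat) : Nat := col13 (col13 (col13 (i)))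
theorem actR25_eq (i : Nat) : actR25 i = Tab.act T D rw25 i := rfl
noncomputable def actR26 (i : Nat) : Nat := col15 (col15 (col15 (i)))
theorem actR26_eq (i : Nat) : actR26 i = Tab.act T D rw26 i := rfl
noncomputable def actR27 (i : Nat) : Nat := col17 (col17 (col17 (i)))
theorem actR27_eq (i : Nat) : actR27 i = Tab.act T D rw27 i := rfl
noncomputable def actR28 (i : Nat) : Nat := col19 (col19 (col19 (i)))
theorem actR28_eq (i : Nat) : actR28 i = Tab.act T D rw28 i := rfl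
noncomputable def actR29 (i : Nat) : Nat := col21 (col21 (col21 (i)))
theorem actR29_eq (i : Nat) : actR29 i = Tab.act T D rw29 i := rfl
noncomputable def actR30 (i : Nat) : Nat := col23 (col23 (col23 (i)))
theorem actR30_eq (i : Nat) : actR30 i = Tab.act T D rw30 i := rfl
noncomputable def actR31 (i : Nat) : Nat := col25 (col25 (col25 (i)))
theorem actR31_eq (i : Nat) : actR31 i = Tab.act T D rw31 i := rfl
noncomputable def actR32 (i : Nat) : Nat := col27 (col27 (col27 (i)))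
theorem actR32_eq (i : Nat) : actR32 i = Tab.act T D rw32 i := rfl
noncomputable def actR33 (i : Nat) : Nat := col29 (col29 (col29 (i)))
theorem actR33_eq (i : Nat) : actR33 i = Tab.act T D rw33 i := rfl
noncomputable def actR34 (i : Nat) : Nat := col31 (col31 (col31 (i)))
theorem actR34_eq (i : Nat) : actR34 i = Tab.act T D rw34 i := rfl
noncomputable def actR35 (i : Nat) : Nat := col33 (col33 (col33 (i)))
theorem actR35_eq (i : Nat) : actR35 i = Tab.act T D rw35 i := rfl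
noncomputable def actR36 (i : Nat) : Nat := col35 (col35 (col35 (i)))
theorem actR36_eq (i : Nat) : actR36 i = Tab.act T D rw36 i := rfl
noncomputable def actR37 (i : Nat) : Nat := col37 (col37 (col37 (i)))
theorem actR37_eq (i : Nat) : actR37 i = Tab.act T D rw37 i := rfl
noncomputable def actR38 (i : Nat) : Nat := col39 (col39 (col39 (i)))
theorem actR38_eq (i : Nat) : actR38 i = Tab.act T D rw38 i := rfl
noncomputable def actR39 (i : Nat) : Nat := col41 (col41 (col41 (i)))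
theorem actR39_eq (i : Nat) : actR39 i = Tab.act T D rw39 i := rfl
noncomputable def actR40 (i : Nat) : Nat := col43 (col43 (col43 (i)))
theorem actR40_eq (i : Nat) : actR40 i = Tab.act T D rw40 i := rfl
noncomputable def actR41 (i : Nat) : Nat := col45 (col45 (col45 (i)))
theorem actR41_eq (i : Nat) : actR41 i = Tab.act T D rw41 i := rfl
noncomputable def actR42 (i : Nat) : Nat := col47 (col47 (col47 (i)))
theorem actR42_eq (i : Nat) : actR42 i = Tab.act T D rw42 i := rfl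
noncomputable def actR43 (i : Nat) : Nat := col49 (col49 (col49 (i)))
theorem actR43_eq (i : Nat) : actR43 i = Tab.act T D rw43 i := rfl
noncomputable def actR44 (i : Nat) : Nat := col13 (col1 (col12 (col0 (i))))
theorem actR44_eq (i : Nat) : actR44 i = Tab.act T D rw44 i := rfl
noncomputable def actR45 (i : Nat) : Nat := col13 (col3 (col12 (col2 (i))))
theorem actR45_eq (i : Nat) : actR45 i = Tab.act T D rw45 i := rfl
noncomputable def actR46 (i : Nat) : Nat := col13 (col5 (col12 (col4 (i))))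
theorem actR46_eq (i : Nat) : actR46 i = Tab.act T D rw46 i := rfl
noncomputable def actR47 (i : Nat) : Nat := col13 (col7 (col12 (col6 (i))))
theorem actR47_eq (i : Nat) : actR47 i = Tab.act T D rw47 i := rfl
noncomputable def actR48 (i : Nat) : Nat := col13 (col9 (col12 (col8 (i))))
theorem actR48_eq (i : Nat) : actR48 i = Tab.act T D rw48 i := rfl
noncomputable def actR49 (i : Nat) : Nat := col13 (col11 (col12 (col10 (i))))
theorem actR49_eq (i : Nat) : actR49 i = Tab.act T D rw49 i := rfl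
noncomputable def actR50 (i : Nat) : Nat := col15 (col1 (col14 (col0 (i))))
theorem actR50_eq (i : Nat) : actR50 i = Tab.act T D rw50 i := rfl
noncomputable def actR51 (i : Nat) : Nat := col15 (col3 (col14 (col2 (i))))
theorem actR51_eq (i : Nat) : actR51 i = Tab.act T D rw51 i := rfl
noncomputable def actR52 (i : Nat) : Nat := col15 (col5 (col14 (col4 (i))))
theorem actR52_eq (i : Nat) : actR52 i = Tab.act T D rw52 i := rfl
noncomputable def actR53 (i : Nat) : Nat := col15 (col7 (col14 (col6 (i))))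
theorem actR53_eq (i : Nat) : actR53 i = Tab.act T D rw53 i := rfl
noncomputable def actR54 (i : Nat) : Nat := col15 (col9 (col14 (col8 (i))))
theorem actR54_eq (i : Nat) : actR54 i = Tab.act T D rw54 i := rfl
noncomputable def actR55 (i : Nat) : Nat := col15 (col11 (col14 (col10 (i))))
theorem actR55_eq (i : Nat) : actR55 i = Tab.act T D rw55 i := rfl
noncomputable def actR56 (i : Nat) : Nat := col17 (col1 (col16 (col0 (i))))
theorem actR56_eq (i : Nat) : actR56 i = Tab.act T D rw56 i := rfl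
noncomputable def actR57 (i : Nat) : Nat := col17 (col3 (col16 (col2 (i))))
theorem actR57_eq (i : Nat) : actR57 i = Tab.act T D rw57 i := rfl
noncomputable def actR58 (i : Nat) : Nat := col17 (col5 (col16 (col4 (i))))
theorem actR58_eq (i : Nat) : actR58 i = Tab.act T D rw58 i := rfl
noncomputable def actR59 (i : Nat) : Nat := col17 (col7 (col16 (col6 (i))))
theorem actR59_eq (i : Nat) : actR59 i = Tab.act T D rw59 i := rfl
noncomputable def actR60 (i : Nat) : Nat := col17 (col9 (col16 (col8 (i))))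
theorem actR60_eq (i : Nat) : actR60 i = Tab.act T D rw60 i := rfl
noncomputable def actR61 (i : Nat) : Nat := col17 (col11 (col16 (col10 (i))))
theorem actR61_eq (i : Nat) : actR61 i = Tab.act T D rw61 i := rfl
noncomputable def actR62 (i : Nat) : Nat := col19 (col1 (col18 (col0 (i))))
theorem actR62_eq (i : Nat) : actR62 i = Tab.act T D rw62 i := rfl
noncomputable def actR63 (i : Nat) : Nat := col19 (col3 (col18 (col2 (i))))
theorem actR63_eq (i : Nat) : actR63 i = Tab.act T D rw63 i := rfl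
noncomputable def actR64 (i : Nat) : Nat := col19 (col5 (col18 (col4 (i))))
theorem actR64_eq (i : Nat) : actR64 i = Tab.act T D rw64 i := rfl
noncomputable def actR65 (i : Nat) : Nat := col19 (col7 (col18 (col6 (i))))
theorem actR65_eq (i : Nat) : actR65 i = Tab.act T D rw65 i := rfl
noncomputable def actR66 (i : Nat) : Nat := col19 (col9 (col18 (col8 (i))))
theorem actR66_eq (i : Nat) : actR66 i = Tab.act T D rw66 i := rfl
noncomputable def actR67 (i : Nat) : Nat := col19 (col11 (col18 (col10 (i))))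
theorem actR67_eq (i : Nat) : actR67 i = Tab.act T D rw67 i := rfl
noncomputable def actR68 (i : Nat) : Nat := col21 (col1 (col20 (col0 (i))))
theorem actR68_eq (i : Nat) : actR68 i = Tab.act T D rw68 i := rfl
noncomputable def actR69 (i : Nat) : Nat := col21 (col3 (col20 (col2 (i))))
theorem actR69_eq (i : Nat) : actR69 i = Tab.act T D rw69 i := rfl
noncomputable def actR70 (i : Nat) : Nat := col21 (col5 (col20 (col4 (i))))
theorem actR70_eq (i : Nat) : actR70 i = Tab.act T D rw70 i := rfl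
noncomputable def actR71 (i : Nat) : Nat := col21 (col7 (col20 (col6 (i))))
theorem actR71_eq (i : Nat) : actR71 i = Tab.act T D rw71 i := rfl
noncomputable def actR72 (i : Nat) : Nat := col21 (col9 (col20 (col8 (i))))
theorem actR72_eq (i : Nat) : actR72 i = Tab.act T D rw72 i := rfl
noncomputable def actR73 (i : Nat) : Nat := col21 (col11 (col20 (col10 (i))))
theorem actR73_eq (i : Nat) : actR73 i = Tab.act T D rw73 i := rfl
noncomputable def actR74 (i : Nat) : Nat := col23 (col1 (col22 (col0 (i))))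
theorem actR74_eq (i : Nat) : actR74 i = Tab.act T D rw74 i := rfl
noncomputable def actR75 (i : Nat) : Nat := col23 (col3 (col22 (col2 (i))))
theorem actR75_eq (i : Nat) : actR75 i = Tab.act T D rw75 i := rfl
noncomputable def actR76 (i : Nat) : Nat := col23 (col5 (col22 (col4 (i))))
theorem actR76_eq (i : Nat) : actR76 i = Tab.act T D rw76 i := rfl
noncomputable def actR77 (i : Nat) : Nat := col23 (col7 (col22 (col6 (i))))
theorem actR77_eq (i : Nat) : actR77 i = Tab.act T D rw77 i := rfl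
noncomputable def actR78 (i : Nat) : Nat := col23 (col9 (col22 (col8 (i))))
theorem actR78_eq (i : Nat) : actR78 i = Tab.act T D rw78 i := rfl
noncomputable def actR79 (i : Nat) : Nat := col23 (col11 (col22 (col10 (i))))
theorem actR79_eq (i : Nat) : actR79 i = Tab.act T D rw79 i := rfl
noncomputable def actR80 (i : Nat) : Nat := col25 (col1 (col24 (col0 (i))))
theorem actR80_eq (i : Nat) : actR80 i = Tab.act T D rw80 i := rfl
noncomputable def actR81 (i : Nat) : Nat := col25 (col3 (col24 (col2 (i))))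
theorem actR81_eq (i : Nat) : actR81 i = Tab.act T D rw81 i := rfl
noncomputable def actR82 (i : Nat) : Nat := col25 (col5 (col24 (col4 (i))))
theorem actR82_eq (i : Nat) : actR82 i = Tab.act T D rw82 i := rfl
noncomputable def actR83 (i : Nat) : Nat := col25 (col7 (col24 (col6 (i))))
theorem actR83_eq (i : Nat) : actR83 i = Tab.act T D rw83 i := rfl
noncomputable def actR84 (i : Nat) : Nat := col25 (col9 (col24 (col8 (i))))
theorem actR84_eq (i : Nat) : actR84 i = Tab.act T D rw84 i := rfl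
noncomputable def actR85 (i : Nat) : Nat := col25 (col11 (col24 (col10 (i))))
theorem actR85_eq (i : Nat) : actR85 i = Tab.act T D rw85 i := rfl
noncomputable def actR86 (i : Nat) : Nat := col27 (col1 (col26 (col0 (i))))
theorem actR86_eq (i : Nat) : actR86 i = Tab.act T D rw86 i := rfl
noncomputable def actR87 (i : Nat) : Nat := col27 (col3 (col26 (col2 (i))))
theorem actR87_eq (i : Nat) : actR87 i = Tab.act T D rw87 i := rfl
noncomputable def actR88 (i : Nat) : Nat := col27 (col5 (col26 (col4 (i))))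
theorem actR88_eq (i : Nat) : actR88 i = Tab.act T D rw88 i := rfl
noncomputable def actR89 (i : Nat) : Nat := col27 (col7 (col26 (col6 (i))))
theorem actR89_eq (i : Nat) : actR89 i = Tab.act T D rw89 i := rfl
noncomputable def actR90 (i : Nat) : Nat := col27 (col9 (col26 (col8 (i))))
theorem actR90_eq (i : Nat) : actR90 i = Tab.act T D rw90 i := rfl
noncomputable def actR91 (i : Nat) : Nat := col27 (col11 (col26 (col10 (i))))
theorem actR91_eq (i : Nat) : actR91 i = Tab.act T D rw91 i := rfl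
noncomputable def actR92 (i : Nat) : Nat := col29 (col1 (col28 (col0 (i))))
theorem actR92_eq (i : Nat) : actR92 i = Tab.act T D rw92 i := rfl
noncomputable def actR93 (i : Nat) : Nat := col29 (col3 (col28 (col2 (i))))
theorem actR93_eq (i : Nat) : actR93 i = Tab.act T D rw93 i := rfl
noncomputable def actR94 (i : Nat) : Nat := col29 (col5 (col28 (col4 (i))))
theorem actR94_eq (i : Nat) : actR94 i = Tab.act T D rw94 i := rfl
noncomputable def actR95 (i : Nat) : Nat := col29 (col7 (col28 (col6 (i))))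
theorem actR95_eq (i : Nat) : actR95 i = Tab.act T D rw95 i := rfl
noncomputable def actR96 (i : Nat) : Nat := col29 (col9 (col28 (col8 (i))))
theorem actR96_eq (i : Nat) : actR96 i = Tab.act T D rw96 i := rfl
noncomputable def actR97 (i : Nat) : Nat := col29 (col11 (col28 (col10 (i))))
theorem actR97_eq (i : Nat) : actR97 i = Tab.act T D rw97 i := rfl
noncomputable def actR98 (i : Nat) : Nat := col31 (col1 (col30 (col0 (i))))
theorem actR98_eq (i : Nat) : actR98 i = Tab.act T D rw98 i := rfl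
noncomputable def actR99 (i : Nat) : Nat := col31 (col3 (col30 (col2 (i))))
theorem actR99_eq (i : Nat) : actR99 i = Tab.act T D rw99 i := rfl
noncomputable def actR100 (i : Nat) : Nat := col31 (col5 (col30 (col4 (i))))
theorem actR100_eq (i : Nat) : actR100 i = Tab.act T D rw100 i := rfl
noncomputable def actR101 (i : Nat) : Nat := col31 (col7 (col30 (col6 (i))))
theorem actR101_eq (i : Nat) : actR101 i = Tab.act T D rw101 i := rfl
noncomputable def actR102 (i : Nat) : Nat := col31 (col9 (col30 (col8 (i))))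
theorem actR102_eq (i : Nat) : actR102 i = Tab.act T D rw102 i := rfl
noncomputable def actR103 (i : Nat) : Nat := col31 (col11 (col30 (col10 (i))))
theorem actR103_eq (i : Nat) : actR103 i = Tab.act T D rw103 i := rfl
noncomputable def actR104 (i : Nat) : Nat := col33 (col1 (col32 (col0 (i))))
theorem actR104_eq (i : Nat) : actR104 i = Tab.act T D rw104 i := rfl
noncomputable def actR105 (i : Nat) : Nat := col33 (col3 (col32 (col2 (i))))
theorem actR105_eq (i : Nat) : actR105 i = Tab.act T D rw105 i := rfl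
noncomputable def actR106 (i : Nat) : Nat := col33 (col5 (col32 (col4 (i))))
theorem actR106_eq (i : Nat) : actR106 i = Tab.act T D rw106 i := rfl
noncomputable def actR107 (i : Nat) : Nat := col33 (col7 (col32 (col6 (i))))
theorem actR107_eq (i : Nat) : actR107 i = Tab.act T D rw107 i := rfl
noncomputable def actR108 (i : Nat) : Nat := col33 (col9 (col32 (col8 (i))))
theorem actR108_eq (i : Nat) : actR108 i = Tab.act T D rw108 i := rfl
noncomputable def actR109 (i : Nat) : Nat := col33 (col11 (col32 (col10 (i))))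
theorem actR109_eq (i : Nat) : actR109 i = Tab.act T D rw109 i := rfl
noncomputable def actR110 (i : Nat) : Nat := col35 (col1 (col34 (col0 (i))))
theorem actR110_eq (i : Nat) : actR110 i = Tab.act T D rw110 i := rfl
noncomputable def actR111 (i : Nat) : Nat := col35 (col3 (col34 (col2 (i))))
theorem actR111_eq (i : Nat) : actR111 i = Tab.act T D rw111 i := rfl
noncomputable def actR112 (i : Nat) : Nat := col35 (col5 (col34 (col4 (i))))
theorem actR112_eq (i : Nat) : actR112 i = Tab.act T D rw112 i := rfl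
noncomputable def actR113 (i : Nat) : Nat := col35 (col7 (col34 (col6 (i))))
theorem actR113_eq (i : Nat) : actR113 i = Tab.act T D rw113 i := rfl
noncomputable def actR114 (i : Nat) : Nat := col35 (col9 (col34 (col8 (i))))
theorem actR114_eq (i : Nat) : actR114 i = Tab.act T D rw114 i := rfl
noncomputable def actR115 (i : Nat) : Nat := col35 (col11 (col34 (col10 (i))))
theorem actR115_eq (i : Nat) : actR115 i = Tab.act T D rw115 i := rfl
noncomputable def actR116 (i : Nat) : Nat := col37 (col1 (col36 (col0 (i))))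
theorem actR116_eq (i : Nat) : actR116 i = Tab.act T D rw116 i := rfl
noncomputable def actR117 (i : Nat) : Nat := col37 (col3 (col36 (col2 (i))))
theorem actR117_eq (i : Nat) : actR117 i = Tab.act T D rw117 i := rfl
noncomputable def actR118 (i : Nat) : Nat := col37 (col5 (col36 (col4 (i))))
theorem actR118_eq (i : Nat) : actR118 i = Tab.act T D rw118 i := rfl
noncomputable def actR119 (i : Nat) : Nat := col37 (col7 (col36 (col6 (i))))
theorem actR119_eq (i : Nat) : actR119 i = Tab.act T D rw119 i := rfl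
noncomputable def actR120 (i : Nat) : Nat := col37 (col9 (col36 (col8 (i))))
theorem actR120_eq (i : Nat) : actR120 i = Tab.act T D rw120 i := rfl
noncomputable def actR121 (i : Nat) : Nat := col37 (col11 (col36 (col10 (i))))
theorem actR121_eq (i : Nat) : actR121 i = Tab.act T D rw121 i := rfl
noncomputable def actR122 (i : Nat) : Nat := col39 (col1 (col38 (col0 (i))))
theorem actR122_eq (i : Nat) : actR122 i = Tab.act T D rw122 i := rfl
noncomputable def actR123 (i : Nat) : Nat := col39 (col3 (col38 (col2 (i))))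
theorem actR123_eq (i : Nat) : actR123 i = Tab.act T D rw123 i := rfl
noncomputable def actR124 (i : Nat) : Nat := col39 (col5 (col38 (col4 (i))))
theorem actR124_eq (i : Nat) : actR124 i = Tab.act T D rw124 i := rfl
noncomputable def actR125 (i : Nat) : Nat := col39 (col7 (col38 (col6 (i))))
theorem actR125_eq (i : Nat) : actR125 i = Tab.act T D rw125 i := rfl
noncomputable def actR126 (i : Nat) : Nat := col39 (col9 (col38 (col8 (i))))
theorem actR126_eq (i : Nat) : actR126 i = Tab.act T D rw126 i := rfl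
noncomputable def actR127 (i : Nat) : Nat := col39 (col11 (col38 (col10 (i))))
theorem actR127_eq (i : Nat) : actR127 i = Tab.act T D rw127 i := rfl
noncomputable def actR128 (i : Nat) : Nat := col41 (col1 (col40 (col0 (i))))
theorem actR128_eq (i : Nat) : actR128 i = Tab.act T D rw128 i := rfl
noncomputable def actR129 (i : Nat) : Nat := col41 (col3 (col40 (col2 (i))))
theorem actR129_eq (i : Nat) : actR129 i = Tab.act T D rw129 i := rfl
noncomputable def actR130 (i : Nat) : Nat := col41 (col5 (col40 (col4 (i))))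
theorem actR130_eq (i : Nat) : actR130 i = Tab.act T D rw130 i := rfl
noncomputable def actR131 (i : Nat) : Nat := col41 (col7 (col40 (col6 (i))))
theorem actR131_eq (i : Nat) : actR131 i = Tab.act T D rw131 i := rfl
noncomputable def actR132 (i : Nat) : Nat := col41 (col9 (col40 (col8 (i))))
theorem actR132_eq (i : Nat) : actR132 i = Tab.act T D rw132 i := rfl
noncomputable def actR133 (i : Nat) : Nat := col41 (col11 (col40 (col10 (i))))
theorem actR133_eq (i : Nat) : actR133 i = Tab.act T D rw133 i := rfl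
noncomputable def actR134 (i : Nat) : Nat := col43 (col1 (col42 (col0 (i))))
theorem actR134_eq (i : Nat) : actR134 i = Tab.act T D rw134 i := rfl
noncomputable def actR135 (i : Nat) : Nat := col43 (col3 (col42 (col2 (i))))
theorem actR135_eq (i : Nat) : actR135 i = Tab.act T D rw135 i := rfl
noncomputable def actR136 (i : Nat) : Nat := col43 (col5 (col42 (col4 (i))))
theorem actR136_eq (i : Nat) : actR136 i = Tab.act T D rw136 i := rfl
noncomputable def actR137 (i : Nat) : Nat := col43 (col7 (col42 (col6 (i))))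
theorem actR137_eq (i : Nat) : actR137 i = Tab.act T D rw137 i := rfl
noncomputable def actR138 (i : Nat) : Nat := col43 (col9 (col42 (col8 (i))))
theorem actR138_eq (i : Nat) : actR138 i = Tab.act T D rw138 i := rfl
noncomputable def actR139 (i : Nat) : Nat := col43 (col11 (col42 (col10 (i))))
theorem actR139_eq (i : Nat) : actR139 i = Tab.act T D rw139 i := rfl
noncomputable def actR140 (i : Nat) : Nat := col45 (col1 (col44 (col0 (i))))
theorem actR140_eq (i : Nat) : actR140 i = Tab.act T D rw140 i := rfl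
noncomputable def actR141 (i : Nat) : Nat := col45 (col3 (col44 (col2 (i))))
theorem actR141_eq (i : Nat) : actR141 i = Tab.act T D rw141 i := rfl
noncomputable def actR142 (i : Nat) : Nat := col45 (col5 (col44 (col4 (i))))
theorem actR142_eq (i : Nat) : actR142 i = Tab.act T D rw142 i := rfl
noncomputable def actR143 (i : Nat) : Nat := col45 (col7 (col44 (col6 (i))))
theorem actR143_eq (i : Nat) : actR143 i = Tab.act T D rw143 i := rfl
noncomputable def actR144 (i : Nat) : Nat := col45 (col9 (col44 (col8 (i))))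
theorem actR144_eq (i : Nat) : actR144 i = Tab.act T D rw144 i := rfl
noncomputable def actR145 (i : Nat) : Nat := col45 (col11 (col44 (col10 (i))))
theorem actR145_eq (i : Nat) : actR145 i = Tab.act T D rw145 i := rfl
noncomputable def actR146 (i : Nat) : Nat := col47 (col1 (col46 (col0 (i))))
theorem actR146_eq (i : Nat) : actR146 i = Tab.act T D rw146 i := rfl
noncomputable def actR147 (i : Nat) : Nat := col47 (col3 (col46 (col2 (i))))
theorem actR147_eq (i : Nat) : actR147 i = Tab.act T D rw147 i := rfl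
noncomputable def actR148 (i : Nat) : Nat := col47 (col5 (col46 (col4 (i))))
theorem actR148_eq (i : Nat) : actR148 i = Tab.act T D rw148 i := rfl
noncomputable def actR149 (i : Nat) : Nat := col47 (col7 (col46 (col6 (i))))
theorem actR149_eq (i : Nat) : actR149 i = Tab.act T D rw149 i := rfl
noncomputable def actR150 (i : Nat) : Nat := col47 (col9 (col46 (col8 (i))))
theorem actR150_eq (i : Nat) : actR150 i = Tab.act T D rw150 i := rfl
noncomputable def actR151 (i : Nat) : Nat := col47 (col11 (col46 (col10 (i))))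
theorem actR151_eq (i : Nat) : actR151 i = Tab.act T D rw151 i := rfl
noncomputable def actR152 (i : Nat) : Nat := col49 (col1 (col48 (col0 (i))))
theorem actR152_eq (i : Nat) : actR152 i = Tab.act T D rw152 i := rfl
noncomputable def actR153 (i : Nat) : Nat := col49 (col3 (col48 (col2 (i))))
theorem actR153_eq (i : Nat) : actR153 i = Tab.act T D rw153 i := rfl
noncomputable def actR154 (i : Nat) : Nat := col49 (col5 (col48 (col4 (i))))
theorem actR154_eq (i : Nat) : actR154 i = Tab.act T D rw154 i := rfl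
noncomputable def actR155 (i : Nat) : Nat := col49 (col7 (col48 (col6 (i))))
theorem actR155_eq (i : Nat) : actR155 i = Tab.act T D rw155 i := rfl
noncomputable def actR156 (i : Nat) : Nat := col49 (col9 (col48 (col8 (i))))
theorem actR156_eq (i : Nat) : actR156 i = Tab.act T D rw156 i := rfl
noncomputable def actR157 (i : Nat) : Nat := col49 (col11 (col48 (col10 (i))))
theorem actR157_eq (i : Nat) : actR157 i = Tab.act T D rw157 i := rfl
noncomputable def actR158 (i : Nat) : Nat := col1 (col1 (col1 (col1 (col1 (col1 (col1 (i)))))))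
theorem actR158_eq (i : Nat) : actR158 i = Tab.act T D rw158 i := rfl
noncomputable def actR159 (i : Nat) : Nat := col1 (col1 (col3 (col0 (col3 (col1 (col2 (col1 (col3 (col0 (col3 (i)))))))))))
theorem actR159_eq (i : Nat) : actR159 i = Tab.act T D rw159 i := rfl
noncomputable def actR160 (i : Nat) : Nat := col1 (col1 (col1 (col3 (col1 (col1 (col1 (col3 (col1 (col1 (col1 (col3 (i))))))))))))
theorem actR160_eq (i : Nat) : actR160 i = Tab.act T D rw160 i := rfl
noncomputable def actR161 (i : Nat) : Nat := col1 (col1 (col3 (col3 (col1 (col1 (col2 (col2 (col1 (col1 (col2 (col2 (i))))))))))))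
theorem actR161_eq (i : Nat) : actR161 i = Tab.act T D rw161 i := rfl
noncomputable def actR162 (i : Nat) : Nat := col5 (col5 (i))
theorem actR162_eq (i : Nat) : actR162 i = Tab.act T D rw162 i := rfl
noncomputable def actR163 (i : Nat) : Nat := col1 (col5 (col2 (col5 (col3 (col0 (col3 (col0 (col0 (col5 (col3 (i)))))))))))
theorem actR163_eq (i : Nat) : actR163 i = Tab.act T D rw163 i := rfl
noncomputable def actR164 (i : Nat) : Nat := col1 (col5 (col0 (col2 (col0 (col2 (col1 (col5 (col0 (col2 (col0 (col2 (i))))))))))))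
theorem actR164_eq (i : Nat) : actR164 i = Tab.act T D rw164 i := rfl
noncomputable def actR165 (i : Nat) : Nat := col7 (col7 (i))
theorem actR165_eq (i : Nat) : actR165 i = Tab.act T D rw165 i := rfl
noncomputable def actR166 (i : Nat) : Nat := col1 (col3 (col0 (col5 (col7 (col3 (col6 (col5 (i))))))))
theorem actR166_eq (i : Nat) : actR166 i = Tab.act T D rw166 i := rfl
noncomputable def actR167 (i : Nat) : Nat := col1 (col3 (col0 (col6 (col5 (col0 (col3 (col1 (col5 (col7 (i))))))))))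
theorem actR167_eq (i : Nat) : actR167 i = Tab.act T D rw167 i := rfl
noncomputable def actR168 (i : Nat) : Nat := col1 (col1 (col5 (col2 (col0 (col2 (col0 (col5 (col3 (col5 (col2 (col1 (col7 (col1 (col7 (col5 (col6 (i)))))))))))))))))
theorem actR168_eq (i : Nat) : actR168 i = Tab.act T D rw168 i := rfl

end Cfsg.Agent.Lib.Helper4.TCD.SC3Suzp3A
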