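import Cfsg.Agent.Lib.Helper4.TCD_SC3Suzp3A_Acc

namespace Cfsg.Agent.Lib.Helper4.TCD.SC3Suzp3A

open Cfsg.Agent.Lib.Helper4.TC

set_option maxRecDepth 100000
set_option Elab.async false

theorem c_zero : D.zeroOK = true := by decide +kernel
theorem c_base : allBelow D.baseOK 8 = true := by decide +kernel
theorem c_let : allBelow D.letOK 50 = true := by decide +kernel
theorem c_cls0 : T.cls 0 = 0 := by decide +kernel
theorem c_name0 : T.nameOf 0 = 0 := by decide +kernel
theorem c_tab : D.relTabOK 0 (baseRels 50 PSC3Suzp3.invR PSC3Suzp3.P.real subs ++ (baseRels 50 PSC3Suzp3.invR PSC3Suzp3.P.real subs).map (invWord D.inv)) = true := by decide +kernel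
theorem c_real : PSC3Suzp3.P.real = realLit := by decide +kernel
theorem c_subfix : subs.all (fun u => Nat.beq (Tab.act T D u 0) 0) = true := by decide +kernel
theorem c_subs : subs.all (fun u => u.all (fun x => Nat.ble (Nat.succ x) 50)) = true := by decide +kernel
theorem c_names_0 : allRange D.nameOK 1 60000 = true := by decide +kernel
theorem c_names_1 : allRange D.nameOK 60001 1870 = true := by decide +kernel
theorem c_cls_0 : allRange (T.clsOK D) 1 15000 = true := by decide +kernel
theorem c_cls_1 : allRange (T.clsOK D) 15001 15000 = true := by decide +kernel
theorem c_cls_2 : allRange (T.clsOK D) 30001 15000 = true := by decide +kernel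
theorem c_cls_3 : allRange (T.clsOK D) 45001 15000 = true := by decide +kernel
theorem c_cls_4 : allRange (T.clsOK D) 60001 1870 = true := by decide +kernel
theorem c_rep_0 : allRange (T.repOK D) 0 5346 = true := by decide +kernel
theorem c_rel_0 : allRange D.relOK 61879 3545 = true := by decide +kernel
theorem c_rel_1 : allRange D.relOK 65424 3474 = true := by decide +kernel
theorem c_rel_2 : allRange D.relOK 68898 3747 = true := by decide +kernel
theorem c_rel_3 : allRange D.relOK 72645 3744 = true := by decide +kernel
theorem c_rel_4 : allRange D.relOK 76389 3583 = true := by decide +kernel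
theorem c_rel_5 : allRange D.relOK 79972 3746 = true := by decide +kernel
theorem c_rel_6 : allRange D.relOK 83718 3761 = true := by decide +kernel
theorem c_rel_7 : allRange D.relOK 87479 3749 = true := by decide +kernel
theorem c_rel_8 : allRange D.relOK 91228 3738 = true := by decide +kernel
theorem c_rel_9 : allRange D.relOK 94966 3758 = true := by decide +kernel
theorem c_rel_10 : allRange D.relOK 98724 3722 = true := by decide +kernel
theorem c_rel_11 : allRange D.relOK 102446 3762 = true := by decide +kernel
theorem c_rel_12 : allRange D.relOK 106208 3734 = true := by decide +kernel
theorem c_rel_13 : allRange D.relOK 109942 3744 = true := by decide +kernel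
theorem c_rel_14 : allRange D.relOK 113686 3729 = true := by decide +kernel
theorem c_rel_15 : allRange D.relOK 117415 1787 = true := by decide +kernel
theorem c_rel_16 : allRange D.relOK 119202 1516 = true := by decide +kernel
theorem c_rel_17 : allRange D.relOK 120718 1966 = true := by decide +kernel
theorem c_rel_18 : allRange D.relOK 122684 3567 = true := by decide +kernel
theorem c_rel_19 : allRange D.relOK 126251 3370 = true := by decide +kernel
theorem c_rel_20 : allRange D.relOK 129621 3566 = true := by decide +kernel
theorem c_rel_21 : allRange D.relOK 133187 3619 = true := by decide +kernel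
theorem c_rel_22 : allRange D.relOK 136806 3714 = true := by decide +kernel
theorem c_rel_23 : allRange D.relOK 140520 3748 = true := by decide +kernel
theorem c_rel_24 : allRange D.relOK 144268 3563 = true := by decide +kernel
theorem c_rel_25 : allRange D.relOK 147831 3346 = true := by decide +kernel
theorem c_rel_26 : allRange D.relOK 151177 3461 = true := by decide +kernel
theorem c_rel_27 : allRange D.relOK 154638 3373 = true := by decide +kernel
theorem c_rel_28 : allRange D.relOK 158011 3377 = true := by decide +kernel
theorem c_rel_29 : allRange D.relOK 161388 3530 = true := by decide +kernel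
theorem c_rel_30 : allRange D.relOK 164918 3702 = true := by decide +kernel
theorem c_rel_31 : allRange D.relOK 168620 3574 = true := by decide +kernel
theorem c_rel_32 : allRange D.relOK 172194 3431 = true := by decide +kernel
theorem c_rel_33 : allRange D.relOK 175625 3701 = true := by decide +kernel
theorem c_rel_34 : allRange D.relOK 179326 2674 = true := by decide +kernel
theorem c_rel_35 : allRange D.relOK 182000 2090 = true := by decide +kernel
theorem c_rel_36 : allRange D.relOK 184090 2271 = true := by decide +kernel
theorem c_rel_37 : allRange D.relOK 186361 2856 = true := by decide +kernel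
theorem c_rel_38 : allRange D.relOK 189217 2686 = true := by decide +kernel
theorem c_rel_39 : allRange D.relOK 191903 2870 = true := by decide +kernel
theorem c_rel_40 : allRange D.relOK 194773 2902 = true := by decide +kernel
theorem c_rel_41 : allRange D.relOK 197675 3026 = true := by decide +kernel
theorem c_rel_42 : allRange D.relOK 200701 2984 = true := by decide +kernel
theorem c_rel_43 : allRange D.relOK 203685 2832 = true := by decide +kernel
theorem c_rel_44 : allRange D.relOK 206517 2934 = true := by decide +kernel
theorem c_rel_45 : allRange D.relOK 209451 2966 = true := by decide +kernel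
theorem c_rel_46 : allRange D.relOK 212417 3209 = true := by decide +kernel
theorem c_rel_47 : allRange D.relOK 215626 2953 = true := by decide +kernel
theorem c_rel_48 : allRange D.relOK 218579 3067 = true := by decide +kernel
theorem c_rel_49 : allRange D.relOK 221646 3231 = true := by decide +kernel
theorem c_rel_50 : allRange D.relOK 224877 3171 = true := by decide +kernel
theorem c_rel_51 : allRange D.relOK 228048 3226 = true := by decide +kernel
theorem c_rel_52 : allRange D.relOK 231274 3227 = true := by decide +kernel
theorem c_rel_53 : allRange D.relOK 234501 3046 = true := by decide +kernel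
theorem c_rel_54 : allRange D.relOK 237547 2930 = true := by decide +kernel
theorem c_rel_55 : allRange D.relOK 240477 2892 = true := by decide +kernel
theorem c_rel_56 : allRange D.relOK 243369 3215 = true := by decide +kernel
theorem c_rel_57 : allRange D.relOK 246584 3495 = true := by decide +kernel
theorem c_rel_58 : allRange D.relOK 250079 3383 = true := by decide +kernel
theorem c_rel_59 : allRange D.relOK 253462 3390 = true := by decide +kernel
theorem c_rel_60 : allRange D.relOK 256852 3356 = true := by decide +kernel
theorem c_rel_61 : allRange D.relOK 260208 3361 = true := by decide +kernel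
theorem c_rel_62 : allRange D.relOK 263569 3322 = true := by decide +kernel
theorem c_rel_63 : allRange D.relOK 266891 3251 = true := by decide +kernel
theorem c_rel_64 : allRange D.relOK 270142 3167 = true := by decide +kernel
theorem c_rel_65 : allRange D.relOK 273309 2942 = true := by decide +kernel
theorem c_rel_66 : allRange D.relOK 276251 2805 = true := by decide +kernel
theorem c_rel_67 : allRange D.relOK 279056 2599 = true := by decide +kernel
theorem c_rel_68 : allRange D.relOK 281655 2567 = true := by decide +kernel
theorem c_rel_69 : allRange D.relOK 284222 2630 = true := by decide +kernel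
theorem c_rel_70 : allRange D.relOK 286852 2816 = true := by decide +kernel
theorem c_rel_71 : allRange D.relOK 289668 2964 = true := by decide +kernel
theorem c_rel_72 : allRange D.relOK 292632 2858 = true := by decide +kernel
theorem c_rel_73 : allRange D.relOK 295490 4935 = true := by decide +kernel
theorem c_rel_74 : allRange D.relOK 300425 4685 = true := by decide +kernel
theorem c_rel_75 : allRange D.relOK 305110 4649 = true := by decide +kernel
theorem c_rel_76 : allRange D.relOK 309759 4572 = true := by decide +kernel
theorem c_rel_77 : allRange D.relOK 314331 4539 = true := by decide +kernel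
theorem c_rel_78 : allRange D.relOK 318870 4483 = true := by decide +kernel
theorem c_rel_79 : allRange D.relOK 323353 4477 = true := by decide +kernel
theorem c_rel_80 : allRange D.relOK 327830 4505 = true := by decide +kernel
theorem c_rel_81 : allRange D.relOK 332335 4511 = true := by decide +kernel
theorem c_rel_82 : allRange D.relOK 336846 4546 = true := by decide +kernel
theorem c_rel_83 : allRange D.relOK 341392 1957 = true := by decide +kernel
theorem c_fin_0 : allGrid (T.finOK D) 0 240 50 = true := by decide +kernel
theorem c_fin_1 : allGrid (T.finOK D) 240 240 50 = true := by decide +kernel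

end Cfsg.Agent.Lib.Helper4.TCD.SC3Suzp3A
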