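import Cfsg.Agent.Lib.Helper4.TC7
import Cfsg.Agent.Lib.Helper4.TCP_SC3U62p3
import Cfsg.Agent.Lib.Helper4.TCD_SC3U62p3A_D0
import Cfsg.Agent.Lib.Helper4.TCD_SC3U62p3A_D1
import Cfsg.Agent.Lib.Helper4.TCD_SC3U62p3A_D2
import Cfsg.Agent.Lib.Helper4.TCD_SC3U62p3A_D3
import Cfsg.Agent.Lib.Helper4.TCD_SC3U62p3A_D4
import Cfsg.Agent.Lib.Helper4.TCD_SC3U62p3A_D5
import Cfsg.Agent.Lib.Helper4.TCD_SC3U62p3A_D6
import Cfsg.Agent.Lib.Helper4.TCD_SC3U62p3A_D7

namespace Cfsg.Agent.Lib.Helper4.TCD.SC3U62p3A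

open Cfsg.Agent.Lib.Helper4.TC

set_option maxRecDepth 100000

noncomputable def Atab_s_0_2 (c : Nat) : Nat := @Bool.rec (fun _ => Nat) (Atab_0) (Atab_1) (Nat.ble 1 c)
noncomputable def Atab_s_3_5 (c : Nat) : Nat := @Bool.rec (fun _ => Nat) (Atab_3) (Atab_4) (Nat.ble 4 c)
noncomputable def Atab_s_2_5 (c : Nat) : Nat := @Bool.rec (fun _ => Nat) (Atab_2) (Atab_s_3_5 c) (Nat.ble 3 c)
noncomputable def Atab_s_0_5 (c : Nat) : Nat := @Bool.rec (fun _ => Nat) (Atab_s_0_2 c) (Atab_s_2_5 c) (Nat.ble 2 c)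
noncomputable def Atab_s_5_7 (c : Nat) : Nat := @Bool.rec (fun _ => Nat) (Atab_5) (Atab_6) (Nat.ble 6 c)
noncomputable def Atab_s_8_10 (c : Nat) : Nat := @Bool.rec (fun _ => Nat) (Atab_8) (Atab_9) (Nat.ble 9 c)
noncomputable def Atab_s_7_10 (c : Nat) : Nat := @Bool.rec (fun _ => Nat) (Atab_7) (Atab_s_8_10 c) (Nat.ble 8 c)
noncomputable def Atab_s_5_10 (c : Nat) : Nat := @Bool.rec (fun _ => Nat) (Atab_s_5_7 c) (Atab_s_7_10 c) (Nat.ble 7 c)
noncomputable def Atab_s_0_10 (c : Nat) : Nat := @Bool.rec (fun _ => Nat) (Atab_s_0_5 c) (Atab_s_5_10 c) (Nat.ble 5 c)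
noncomputable def Atab_s_10_12 (c : Nat) : Nat := @Bool.rec (fun _ => Nat) (Atab_10) (Atab_11) (Nat.ble 11 c)
noncomputable def Atab_s_13_15 (c : Nat) : Nat := @Bool.rec (fun _ => Nat) (Atab_13) (Atab_14) (Nat.ble 14 c)
noncomputable def Atab_s_12_15 (c : Nat) : Nat := @Bool.rec (fun _ => Nat) (Atab_12) (Atab_s_13_15 c) (Nat.ble 13 c)
noncomputable def Atab_s_10_15 (c : Nat) : Nat := @Bool.rec (fun _ => Nat) (Atab_s_10_12 c) (Atab_s_12_15 c) (Nat.ble 12 c)
noncomputable def Atab_s_15_17 (c : Nat) : Nat := @Bool.rec (fun _ => Nat) (Atab_15) (Atab_16) (Nat.ble 16 c)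
noncomputable def Atab_s_18_20 (c : Nat) : Nat := @Bool.rec (fun _ => Nat) (Atab_18) (Atab_19) (Nat.ble 19 c)
noncomputable def Atab_s_17_20 (c : Nat) : Nat := @Bool.rec (fun _ => Nat) (Atab_17) (Atab_s_18_20 c) (Nat.ble 18 c)
noncomputable def Atab_s_15_20 (c : Nat) : Nat := @Bool.rec (fun _ => Nat) (Atab_s_15_17 c) (Atab_s_17_20 c) (Nat.ble 17 c)
noncomputable def Atab_s_10_20 (c : Nat) : Nat := @Bool.rec (fun _ => Nat) (Atab_s_10_15 c) (Atab_s_15_20 c) (Nat.ble 15 c)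
noncomputable def Atab_s_0_20 (c : Nat) : Nat := @Bool.rec (fun _ => Nat) (Atab_s_0_10 c) (Atab_s_10_20 c) (Nat.ble 10 c)
noncomputable def Atab_s_20_22 (c : Nat) : Nat := @Bool.rec (fun _ => Nat) (Atab_20) (Atab_21) (Nat.ble 21 c)
noncomputable def Atab_s_23_25 (c : Nat) : Nat := @Bool.rec (fun _ => Nat) (Atab_23) (Atab_24) (Nat.ble 24 c)
noncomputable def Atab_s_22_25 (c : Nat) : Nat := @Bool.rec (fun _ => Nat) (Atab_22) (Atab_s_23_25 c) (Nat.ble 23 c)
noncomputable def Atab_s_20_25 (c : Nat) : Nat := @Bool.rec (fun _ => Nat) (Atab_s_20_22 c) (Atab_s_22_25 c) (Nat.ble 22 c)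
noncomputable def Atab_s_25_27 (c : Nat) : Nat := @Bool.rec (fun _ => Nat) (Atab_25) (Atab_26) (Nat.ble 26 c)
noncomputable def Atab_s_28_30 (c : Nat) : Nat := @Bool.rec (fun _ => Nat) (Atab_28) (Atab_29) (Nat.ble 29 c)
noncomputable def Atab_s_27_30 (c : Nat) : Nat := @Bool.rec (fun _ => Nat) (Atab_27) (Atab_s_28_30 c) (Nat.ble 28 c)
noncomputable def Atab_s_25_30 (c : Nat) : Nat := @Bool.rec (fun _ => Nat) (Atab_s_25_27 c) (Atab_s_27_30 c) (Nat.ble 27 c)
noncomputable def Atab_s_20_30 (c : Nat) : Nat := @Bool.rec (fun _ => Nat) (Atab_s_20_25 c) (Atab_s_25_30 c) (Nat.ble 25 c)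
noncomputable def Atab_s_30_32 (c : Nat) : Nat := @Bool.rec (fun _ => Nat) (Atab_30) (Atab_31) (Nat.ble 31 c)
noncomputable def Atab_s_33_35 (c : Nat) : Nat := @Bool.rec (fun _ => Nat) (Atab_33) (Atab_34) (Nat.ble 34 c)
noncomputable def Atab_s_32_35 (c : Nat) : Nat := @Bool.rec (fun _ => Nat) (Atab_32) (Atab_s_33_35 c) (Nat.ble 33 c)
noncomputable def Atab_s_30_35 (c : Nat) : Nat := @Bool.rec (fun _ => Nat) (Atab_s_30_32 c) (Atab_s_32_35 c) (Nat.ble 32 c)
noncomputable def Atab_s_35_37 (c : Nat) : Nat := @Bool.rec (fun _ => Nat) (Atab_35) (Atab_36) (Nat.ble 36 c)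
noncomputable def Atab_s_38_40 (c : Nat) : Nat := @Bool.rec (fun _ => Nat) (Atab_38) (Atab_39) (Nat.ble 39 c)
noncomputable def Atab_s_37_40 (c : Nat) : Nat := @Bool.rec (fun _ => Nat) (Atab_37) (Atab_s_38_40 c) (Nat.ble 38 c)
noncomputable def Atab_s_35_40 (c : Nat) : Nat := @Bool.rec (fun _ => Nat) (Atab_s_35_37 c) (Atab_s_37_40 c) (Nat.ble 37 c)
noncomputable def Atab_s_30_40 (c : Nat) : Nat := @Bool.rec (fun _ => Nat) (Atab_s_30_35 c) (Atab_s_35_40 c) (Nat.ble 35 c)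
noncomputable def Atab_s_20_40 (c : Nat) : Nat := @Bool.rec (fun _ => Nat) (Atab_s_20_30 c) (Atab_s_30_40 c) (Nat.ble 30 c)
noncomputable def Atab_s_0_40 (c : Nat) : Nat := @Bool.rec (fun _ => Nat) (Atab_s_0_20 c) (Atab_s_20_40 c) (Nat.ble 20 c)
noncomputable def Atab_s_40_42 (c : Nat) : Nat := @Bool.rec (fun _ => Nat) (Atab_40) (Atab_41) (Nat.ble 41 c)
noncomputable def Atab_s_43_45 (c : Nat) : Nat := @Bool.rec (fun _ => Nat) (Atab_43) (Atab_44) (Nat.ble 44 c)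
noncomputable def Atab_s_42_45 (c : Nat) : Nat := @Bool.rec (fun _ => Nat) (Atab_42) (Atab_s_43_45 c) (Nat.ble 43 c)
noncomputable def Atab_s_40_45 (c : Nat) : Nat := @Bool.rec (fun _ => Nat) (Atab_s_40_42 c) (Atab_s_42_45 c) (Nat.ble 42 c)
noncomputable def Atab_s_45_47 (c : Nat) : Nat := @Bool.rec (fun _ => Nat) (Atab_45) (Atab_46) (Nat.ble 46 c)
noncomputable def Atab_s_48_50 (c : Nat) : Nat := @Bool.rec (fun _ => Nat) (Atab_48) (Atab_49) (Nat.ble 49 c)
noncomputable def Atab_s_47_50 (c : Nat) : Nat := @Bool.rec (fun _ => Nat) (Atab_47) (Atab_s_48_50 c) (Nat.ble 48 c)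
noncomputable def Atab_s_45_50 (c : Nat) : Nat := @Bool.rec (fun _ => Nat) (Atab_s_45_47 c) (Atab_s_47_50 c) (Nat.ble 47 c)
noncomputable def Atab_s_40_50 (c : Nat) : Nat := @Bool.rec (fun _ => Nat) (Atab_s_40_45 c) (Atab_s_45_50 c) (Nat.ble 45 c)
noncomputable def Atab_s_50_52 (c : Nat) : Nat := @Bool.rec (fun _ => Nat) (Atab_50) (Atab_51) (Nat.ble 51 c)
noncomputable def Atab_s_53_55 (c : Nat) : Nat := @Bool.rec (fun _ => Nat) (Atab_53) (Atab_54) (Nat.ble 54 c)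
noncomputable def Atab_s_52_55 (c : Nat) : Nat := @Bool.rec (fun _ => Nat) (Atab_52) (Atab_s_53_55 c) (Nat.ble 53 c)
noncomputable def Atab_s_50_55 (c : Nat) : Nat := @Bool.rec (fun _ => Nat) (Atab_s_50_52 c) (Atab_s_52_55 c) (Nat.ble 52 c)
noncomputable def Atab_s_55_57 (c : Nat) : Nat := @Bool.rec (fun _ => Nat) (Atab_55) (Atab_56) (Nat.ble 56 c)
noncomputable def Atab_s_58_60 (c : Nat) : Nat := @Bool.rec (fun _ => Nat) (Atab_58) (Atab_59) (Nat.ble 59 c)
noncomputable def Atab_s_57_60 (c : Nat) : Nat := @Bool.rec (fun _ => Nat) (Atab_57) (Atab_s_58_60 c) (Nat.ble 58 c)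
noncomputable def Atab_s_55_60 (c : Nat) : Nat := @Bool.rec (fun _ => Nat) (Atab_s_55_57 c) (Atab_s_57_60 c) (Nat.ble 57 c)
noncomputable def Atab_s_50_60 (c : Nat) : Nat := @Bool.rec (fun _ => Nat) (Atab_s_50_55 c) (Atab_s_55_60 c) (Nat.ble 55 c)
noncomputable def Atab_s_40_60 (c : Nat) : Nat := @Bool.rec (fun _ => Nat) (Atab_s_40_50 c) (Atab_s_50_60 c) (Nat.ble 50 c)
noncomputable def Atab_s_60_62 (c : Nat) : Nat := @Bool.rec (fun _ => Nat) (Atab_60) (Atab_61) (Nat.ble 61 c)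
noncomputable def Atab_s_63_65 (c : Nat) : Nat := @Bool.rec (fun _ => Nat) (Atab_63) (Atab_64) (Nat.ble 64 c)
noncomputable def Atab_s_62_65 (c : Nat) : Nat := @Bool.rec (fun _ => Nat) (Atab_62) (Atab_s_63_65 c) (Nat.ble 63 c)
noncomputable def Atab_s_60_65 (c : Nat) : Nat := @Bool.rec (fun _ => Nat) (Atab_s_60_62 c) (Atab_s_62_65 c) (Nat.ble 62 c)
noncomputable def Atab_s_65_67 (c : Nat) : Nat := @Bool.rec (fun _ => Nat) (Atab_65) (Atab_66) (Nat.ble 66 c)
noncomputable def Atab_s_68_70 (c : Nat) : Nat := @Bool.rec (fun _ => Nat) (Atab_68) (Atab_69) (Nat.ble 69 c)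
noncomputable def Atab_s_67_70 (c : Nat) : Nat := @Bool.rec (fun _ => Nat) (Atab_67) (Atab_s_68_70 c) (Nat.ble 68 c)
noncomputable def Atab_s_65_70 (c : Nat) : Nat := @Bool.rec (fun _ => Nat) (Atab_s_65_67 c) (Atab_s_67_70 c) (Nat.ble 67 c)
noncomputable def Atab_s_60_70 (c : Nat) : Nat := @Bool.rec (fun _ => Nat) (Atab_s_60_65 c) (Atab_s_65_70 c) (Nat.ble 65 c)
noncomputable def Atab_s_70_72 (c : Nat) : Nat := @Bool.rec (fun _ => Nat) (Atab_70) (Atab_71) (Nat.ble 71 c)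
noncomputable def Atab_s_73_75 (c : Nat) : Nat := @Bool.rec (fun _ => Nat) (Atab_73) (Atab_74) (Nat.ble 74 c)
noncomputable def Atab_s_72_75 (c : Nat) : Nat := @Bool.rec (fun _ => Nat) (Atab_72) (Atab_s_73_75 c) (Nat.ble 73 c)
noncomputable def Atab_s_70_75 (c : Nat) : Nat := @Bool.rec (fun _ => Nat) (Atab_s_70_72 c) (Atab_s_72_75 c) (Nat.ble 72 c)
noncomputable def Atab_s_75_77 (c : Nat) : Nat := @Bool.rec (fun _ => Nat) (Atab_75) (Atab_76) (Nat.ble 76 c)
noncomputable def Atab_s_78_80 (c : Nat) : Nat := @Bool.rec (fun _ => Nat) (Atab_78) (Atab_79) (Nat.ble 79 c)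
noncomputable def Atab_s_77_80 (c : Nat) : Nat := @Bool.rec (fun _ => Nat) (Atab_77) (Atab_s_78_80 c) (Nat.ble 78 c)
noncomputable def Atab_s_75_80 (c : Nat) : Nat := @Bool.rec (fun _ => Nat) (Atab_s_75_77 c) (Atab_s_77_80 c) (Nat.ble 77 c)
noncomputable def Atab_s_70_80 (c : Nat) : Nat := @Bool.rec (fun _ => Nat) (Atab_s_70_75 c) (Atab_s_75_80 c) (Nat.ble 75 c)
noncomputable def Atab_s_60_80 (c : Nat) : Nat := @Bool.rec (fun _ => Nat) (Atab_s_60_70 c) (Atab_s_70_80 c) (Nat.ble 70 c)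
noncomputable def Atab_s_40_80 (c : Nat) : Nat := @Bool.rec (fun _ => Nat) (Atab_s_40_60 c) (Atab_s_60_80 c) (Nat.ble 60 c)
noncomputable def Atab_s_0_80 (c : Nat) : Nat := @Bool.rec (fun _ => Nat) (Atab_s_0_40 c) (Atab_s_40_80 c) (Nat.ble 40 c)
noncomputable def Atab_s_80_82 (c : Nat) : Nat := @Bool.rec (fun _ => Nat) (Atab_80) (Atab_81) (Nat.ble 81 c)
noncomputable def Atab_s_83_85 (c : Nat) : Nat := @Bool.rec (fun _ => Nat) (Atab_83) (Atab_84) (Nat.ble 84 c)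
noncomputable def Atab_s_82_85 (c : Nat) : Nat := @Bool.rec (fun _ => Nat) (Atab_82) (Atab_s_83_85 c) (Nat.ble 83 c)
noncomputable def Atab_s_80_85 (c : Nat) : Nat := @Bool.rec (fun _ => Nat) (Atab_s_80_82 c) (Atab_s_82_85 c) (Nat.ble 82 c)
noncomputable def Atab_s_85_87 (c : Nat) : Nat := @Bool.rec (fun _ => Nat) (Atab_85) (Atab_86) (Nat.ble 86 c)
noncomputable def Atab_s_88_90 (c : Nat) : Nat := @Bool.rec (fun _ => Nat) (Atab_88) (Atab_89) (Nat.ble 89 c)
noncomputable def Atab_s_87_90 (c : Nat) : Nat := @Bool.rec (fun _ => Nat) (Atab_87) (Atab_s_88_90 c) (Nat.ble 88 c)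
noncomputable def Atab_s_85_90 (c : Nat) : Nat := @Bool.rec (fun _ => Nat) (Atab_s_85_87 c) (Atab_s_87_90 c) (Nat.ble 87 c)
noncomputable def Atab_s_80_90 (c : Nat) : Nat := @Bool.rec (fun _ => Nat) (Atab_s_80_85 c) (Atab_s_85_90 c) (Nat.ble 85 c)
noncomputable def Atab_s_90_92 (c : Nat) : Nat := @Bool.rec (fun _ => Nat) (Atab_90) (Atab_91) (Nat.ble 91 c)
noncomputable def Atab_s_93_95 (c : Nat) : Nat := @Bool.rec (fun _ => Nat) (Atab_93) (Atab_94) (Nat.ble 94 c)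
noncomputable def Atab_s_92_95 (c : Nat) : Nat := @Bool.rec (fun _ => Nat) (Atab_92) (Atab_s_93_95 c) (Nat.ble 93 c)
noncomputable def Atab_s_90_95 (c : Nat) : Nat := @Bool.rec (fun _ => Nat) (Atab_s_90_92 c) (Atab_s_92_95 c) (Nat.ble 92 c)
noncomputable def Atab_s_95_97 (c : Nat) : Nat := @Bool.rec (fun _ => Nat) (Atab_95) (Atab_96) (Nat.ble 96 c)
noncomputable def Atab_s_98_100 (c : Nat) : Nat := @Bool.rec (fun _ => Nat) (Atab_98) (Atab_99) (Nat.ble 99 c)
noncomputable def Atab_s_97_100 (c : Nat) : Nat := @Bool.rec (fun _ => Nat) (Atab_97) (Atab_s_98_100 c) (Nat.ble 98 c)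
noncomputable def Atab_s_95_100 (c : Nat) : Nat := @Bool.rec (fun _ => Nat) (Atab_s_95_97 c) (Atab_s_97_100 c) (Nat.ble 97 c)
noncomputable def Atab_s_90_100 (c : Nat) : Nat := @Bool.rec (fun _ => Nat) (Atab_s_90_95 c) (Atab_s_95_100 c) (Nat.ble 95 c)
noncomputable def Atab_s_80_100 (c : Nat) : Nat := @Bool.rec (fun _ => Nat) (Atab_s_80_90 c) (Atab_s_90_100 c) (Nat.ble 90 c)
noncomputable def Atab_s_100_102 (c : Nat) : Nat := @Bool.rec (fun _ => Nat) (Atab_100) (Atab_101) (Nat.ble 101 c)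
noncomputable def Atab_s_103_105 (c : Nat) : Nat := @Bool.rec (fun _ => Nat) (Atab_103) (Atab_104) (Nat.ble 104 c)
noncomputable def Atab_s_102_105 (c : Nat) : Nat := @Bool.rec (fun _ => Nat) (Atab_102) (Atab_s_103_105 c) (Nat.ble 103 c)
noncomputable def Atab_s_100_105 (c : Nat) : Nat := @Bool.rec (fun _ => Nat) (Atab_s_100_102 c) (Atab_s_102_105 c) (Nat.ble 102 c)
noncomputable def Atab_s_105_107 (c : Nat) : Nat := @Bool.rec (fun _ => Nat) (Atab_105) (Atab_106) (Nat.ble 106 c)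
noncomputable def Atab_s_108_110 (c : Nat) : Nat := @Bool.rec (fun _ => Nat) (Atab_108) (Atab_109) (Nat.ble 109 c)
noncomputable def Atab_s_107_110 (c : Nat) : Nat := @Bool.rec (fun _ => Nat) (Atab_107) (Atab_s_108_110 c) (Nat.ble 108 c)
noncomputable def Atab_s_105_110 (c : Nat) : Nat := @Bool.rec (fun _ => Nat) (Atab_s_105_107 c) (Atab_s_107_110 c) (Nat.ble 107 c)
noncomputable def Atab_s_100_110 (c : Nat) : Nat := @Bool.rec (fun _ => Nat) (Atab_s_100_105 c) (Atab_s_105_110 c) (Nat.ble 105 c)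
noncomputable def Atab_s_110_112 (c : Nat) : Nat := @Bool.rec (fun _ => Nat) (Atab_110) (Atab_111) (Nat.ble 111 c)
noncomputable def Atab_s_113_115 (c : Nat) : Nat := @Bool.rec (fun _ => Nat) (Atab_113) (Atab_114) (Nat.ble 114 c)
noncomputable def Atab_s_112_115 (c : Nat) : Nat := @Bool.rec (fun _ => Nat) (Atab_112) (Atab_s_113_115 c) (Nat.ble 113 c)
noncomputable def Atab_s_110_115 (c : Nat) : Nat := @Bool.rec (fun _ => Nat) (Atab_s_110_112 c) (Atab_s_112_115 c) (Nat.ble 112 c)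
noncomputable def Atab_s_115_117 (c : Nat) : Nat := @Bool.rec (fun _ => Nat) (Atab_115) (Atab_116) (Nat.ble 116 c)
noncomputable def Atab_s_118_120 (c : Nat) : Nat := @Bool.rec (fun _ => Nat) (Atab_118) (Atab_119) (Nat.ble 119 c)
noncomputable def Atab_s_117_120 (c : Nat) : Nat := @Bool.rec (fun _ => Nat) (Atab_117) (Atab_s_118_120 c) (Nat.ble 118 c)
noncomputable def Atab_s_115_120 (c : Nat) : Nat := @Bool.rec (fun _ => Nat) (Atab_s_115_117 c) (Atab_s_117_120 c) (Nat.ble 117 c)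
noncomputable def Atab_s_110_120 (c : Nat) : Nat := @Bool.rec (fun _ => Nat) (Atab_s_110_115 c) (Atab_s_115_120 c) (Nat.ble 115 c)
noncomputable def Atab_s_100_120 (c : Nat) : Nat := @Bool.rec (fun _ => Nat) (Atab_s_100_110 c) (Atab_s_110_120 c) (Nat.ble 110 c)
noncomputable def Atab_s_80_120 (c : Nat) : Nat := @Bool.rec (fun _ => Nat) (Atab_s_80_100 c) (Atab_s_100_120 c) (Nat.ble 100 c)
noncomputable def Atab_s_120_122 (c : Nat) : Nat := @Bool.rec (fun _ => Nat) (Atab_120) (Atab_121) (Nat.ble 121 c)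
noncomputable def Atab_s_123_125 (c : Nat) : Nat := @Bool.rec (fun _ => Nat) (Atab_123) (Atab_124) (Nat.ble 124 c)
noncomputable def Atab_s_122_125 (c : Nat) : Nat := @Bool.rec (fun _ => Nat) (Atab_122) (Atab_s_123_125 c) (Nat.ble 123 c)
noncomputable def Atab_s_120_125 (c : Nat) : Nat := @Bool.rec (fun _ => Nat) (Atab_s_120_122 c) (Atab_s_122_125 c) (Nat.ble 122 c)
noncomputable def Atab_s_125_127 (c : Nat) : Nat := @Bool.rec (fun _ => Nat) (Atab_125) (Atab_126) (Nat.ble 126 c)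
noncomputable def Atab_s_128_130 (c : Nat) : Nat := @Bool.rec (fun _ => Nat) (Atab_128) (Atab_129) (Nat.ble 129 c)
noncomputable def Atab_s_127_130 (c : Nat) : Nat := @Bool.rec (fun _ => Nat) (Atab_127) (Atab_s_128_130 c) (Nat.ble 128 c)
noncomputable def Atab_s_125_130 (c : Nat) : Nat := @Bool.rec (fun _ => Nat) (Atab_s_125_127 c) (Atab_s_127_130 c) (Nat.ble 127 c)
noncomputable def Atab_s_120_130 (c : Nat) : Nat := @Bool.rec (fun _ => Nat) (Atab_s_120_125 c) (Atab_s_125_130 c) (Nat.ble 125 c)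
noncomputable def Atab_s_130_132 (c : Nat) : Nat := @Bool.rec (fun _ => Nat) (Atab_130) (Atab_131) (Nat.ble 131 c)
noncomputable def Atab_s_133_135 (c : Nat) : Nat := @Bool.rec (fun _ => Nat) (Atab_133) (Atab_134) (Nat.ble 134 c)
noncomputable def Atab_s_132_135 (c : Nat) : Nat := @Bool.rec (fun _ => Nat) (Atab_132) (Atab_s_133_135 c) (Nat.ble 133 c)
noncomputable def Atab_s_130_135 (c : Nat) : Nat := @Bool.rec (fun _ => Nat) (Atab_s_130_132 c) (Atab_s_132_135 c) (Nat.ble 132 c)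
noncomputable def Atab_s_135_137 (c : Nat) : Nat := @Bool.rec (fun _ => Nat) (Atab_135) (Atab_136) (Nat.ble 136 c)
noncomputable def Atab_s_138_140 (c : Nat) : Nat := @Bool.rec (fun _ => Nat) (Atab_138) (Atab_139) (Nat.ble 139 c)
noncomputable def Atab_s_137_140 (c : Nat) : Nat := @Bool.rec (fun _ => Nat) (Atab_137) (Atab_s_138_140 c) (Nat.ble 138 c)
noncomputable def Atab_s_135_140 (c : Nat) : Nat := @Bool.rec (fun _ => Nat) (Atab_s_135_137 c) (Atab_s_137_140 c) (Nat.ble 137 c)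
noncomputable def Atab_s_130_140 (c : Nat) : Nat := @Bool.rec (fun _ => Nat) (Atab_s_130_135 c) (Atab_s_135_140 c) (Nat.ble 135 c)
noncomputable def Atab_s_120_140 (c : Nat) : Nat := @Bool.rec (fun _ => Nat) (Atab_s_120_130 c) (Atab_s_130_140 c) (Nat.ble 130 c)
noncomputable def Atab_s_140_142 (c : Nat) : Nat := @Bool.rec (fun _ => Nat) (Atab_140) (Atab_141) (Nat.ble 141 c)
noncomputable def Atab_s_143_145 (c : Nat) : Nat := @Bool.rec (fun _ => Nat) (Atab_143) (Atab_144) (Nat.ble 144 c)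
noncomputable def Atab_s_142_145 (c : Nat) : Nat := @Bool.rec (fun _ => Nat) (Atab_142) (Atab_s_143_145 c) (Nat.ble 143 c)
noncomputable def Atab_s_140_145 (c : Nat) : Nat := @Bool.rec (fun _ => Nat) (Atab_s_140_142 c) (Atab_s_142_145 c) (Nat.ble 142 c)
noncomputable def Atab_s_145_147 (c : Nat) : Nat := @Bool.rec (fun _ => Nat) (Atab_145) (Atab_146) (Nat.ble 146 c)
noncomputable def Atab_s_148_150 (c : Nat) : Nat := @Bool.rec (fun _ => Nat) (Atab_148) (Atab_149) (Nat.ble 149 c)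
noncomputable def Atab_s_147_150 (c : Nat) : Nat := @Bool.rec (fun _ => Nat) (Atab_147) (Atab_s_148_150 c) (Nat.ble 148 c)
noncomputable def Atab_s_145_150 (c : Nat) : Nat := @Bool.rec (fun _ => Nat) (Atab_s_145_147 c) (Atab_s_147_150 c) (Nat.ble 147 c)
noncomputable def Atab_s_140_150 (c : Nat) : Nat := @Bool.rec (fun _ => Nat) (Atab_s_140_145 c) (Atab_s_145_150 c) (Nat.ble 145 c)
noncomputable def Atab_s_150_152 (c : Nat) : Nat := @Bool.rec (fun _ => Nat) (Atab_150) (Atab_151) (Nat.ble 151 c)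
noncomputable def Atab_s_153_155 (c : Nat) : Nat := @Bool.rec (fun _ => Nat) (Atab_153) (Atab_154) (Nat.ble 154 c)
noncomputable def Atab_s_152_155 (c : Nat) : Nat := @Bool.rec (fun _ => Nat) (Atab_152) (Atab_s_153_155 c) (Nat.ble 153 c)
noncomputable def Atab_s_150_155 (c : Nat) : Nat := @Bool.rec (fun _ => Nat) (Atab_s_150_152 c) (Atab_s_152_155 c) (Nat.ble 152 c)
noncomputable def Atab_s_156_158 (c : Nat) : Nat := @Bool.rec (fun _ => Nat) (Atab_156) (Atab_157) (Nat.ble 157 c)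
noncomputable def Atab_s_155_158 (c : Nat) : Nat := @Bool.rec (fun _ => Nat) (Atab_155) (Atab_s_156_158 c) (Nat.ble 156 c)
noncomputable def Atab_s_159_161 (c : Nat) : Nat := @Bool.rec (fun _ => Nat) (Atab_159) (Atab_160) (Nat.ble 160 c)
noncomputable def Atab_s_158_161 (c : Nat) : Nat := @Bool.rec (fun _ => Nat) (Atab_158) (Atab_s_159_161 c) (Nat.ble 159 c)
noncomputable def Atab_s_155_161 (c : Nat) : Nat := @Bool.rec (fun _ => Nat) (Atab_s_155_158 c) (Atab_s_158_161 c) (Nat.ble 158 c)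
noncomputable def Atab_s_150_161 (c : Nat) : Nat := @Bool.rec (fun _ => Nat) (Atab_s_150_155 c) (Atab_s_155_161 c) (Nat.ble 155 c)
noncomputable def Atab_s_140_161 (c : Nat) : Nat := @Bool.rec (fun _ => Nat) (Atab_s_140_150 c) (Atab_s_150_161 c) (Nat.ble 150 c)
noncomputable def Atab_s_120_161 (c : Nat) : Nat := @Bool.rec (fun _ => Nat) (Atab_s_120_140 c) (Atab_s_140_161 c) (Nat.ble 140 c)
noncomputable def Atab_s_80_161 (c : Nat) : Nat := @Bool.rec (fun _ => Nat) (Atab_s_80_120 c) (Atab_s_120_161 c) (Nat.ble 120 c)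
noncomputable def Atab_s_0_161 (c : Nat) : Nat := @Bool.rec (fun _ => Nat) (Atab_s_0_80 c) (Atab_s_80_161 c) (Nat.ble 80 c)
noncomputable def Atab (i : Nat) : Nat := rdw 40 1099511627775 (Atab_s_0_161 (Nat.shiftRight i 11)) (Nat.land i 2047)
noncomputable def Btab_s_0_2 (c : Nat) : Nat := @Bool.rec (fun _ => Nat) (Btab_0) (Btab_1) (Nat.ble 1 c)
noncomputable def Btab_s_2_4 (c : Nat) : Nat := @Bool.rec (fun _ => Nat) (Btab_2) (Btab_3) (Nat.ble 3 c)
noncomputable def Btab_s_0_4 (c : Nat) : Nat := @Bool.rec (fun _ => Nat) (Btab_s_0_2 c) (Btab_s_2_4 c) (Nat.ble 2 c)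
noncomputable def Btab_s_4_6 (c : Nat) : Nat := @Bool.rec (fun _ => Nat) (Btab_4) (Btab_5) (Nat.ble 5 c)
noncomputable def Btab_s_6_8 (c : Nat) : Nat := @Bool.rec (fun _ => Nat) (Btab_6) (Btab_7) (Nat.ble 7 c)
noncomputable def Btab_s_4_8 (c : Nat) : Nat := @Bool.rec (fun _ => Nat) (Btab_s_4_6 c) (Btab_s_6_8 c) (Nat.ble 6 c)
noncomputable def Btab_s_0_8 (c : Nat) : Nat := @Bool.rec (fun _ => Nat) (Btab_s_0_4 c) (Btab_s_4_8 c) (Nat.ble 4 c)
noncomputable def Btab_s_8_10 (c : Nat) : Nat := @Bool.rec (fun _ => Nat) (Btab_8) (Btab_9) (Nat.ble 9 c)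
noncomputable def Btab_s_10_12 (c : Nat) : Nat := @Bool.rec (fun _ => Nat) (Btab_10) (Btab_11) (Nat.ble 11 c)
noncomputable def Btab_s_8_12 (c : Nat) : Nat := @Bool.rec (fun _ => Nat) (Btab_s_8_10 c) (Btab_s_10_12 c) (Nat.ble 10 c)
noncomputable def Btab_s_12_14 (c : Nat) : Nat := @Bool.rec (fun _ => Nat) (Btab_12) (Btab_13) (Nat.ble 13 c)
noncomputable def Btab_s_14_16 (c : Nat) : Nat := @Bool.rec (fun _ => Nat) (Btab_14) (Btab_15) (Nat.ble 15 c)
noncomputable def Btab_s_12_16 (c : Nat) : Nat := @Bool.rec (fun _ => Nat) (Btab_s_12_14 c) (Btab_s_14_16 c) (Nat.ble 14 c)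
noncomputable def Btab_s_8_16 (c : Nat) : Nat := @Bool.rec (fun _ => Nat) (Btab_s_8_12 c) (Btab_s_12_16 c) (Nat.ble 12 c)
noncomputable def Btab_s_0_16 (c : Nat) : Nat := @Bool.rec (fun _ => Nat) (Btab_s_0_8 c) (Btab_s_8_16 c) (Nat.ble 8 c)
noncomputable def Btab_s_16_18 (c : Nat) : Nat := @Bool.rec (fun _ => Nat) (Btab_16) (Btab_17) (Nat.ble 17 c)
noncomputable def Btab_s_18_20 (c : Nat) : Nat := @Bool.rec (fun _ => Nat) (Btab_18) (Btab_19) (Nat.ble 19 c)
noncomputable def Btab_s_16_20 (c : Nat) : Nat := @Bool.rec (fun _ => Nat) (Btab_s_16_18 c) (Btab_s_18_20 c) (Nat.ble 18 c)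
noncomputable def Btab_s_20_22 (c : Nat) : Nat := @Bool.rec (fun _ => Nat) (Btab_20) (Btab_21) (Nat.ble 21 c)
noncomputable def Btab_s_22_24 (c : Nat) : Nat := @Bool.rec (fun _ => Nat) (Btab_22) (Btab_23) (Nat.ble 23 c)
noncomputable def Btab_s_20_24 (c : Nat) : Nat := @Bool.rec (fun _ => Nat) (Btab_s_20_22 c) (Btab_s_22_24 c) (Nat.ble 22 c)
noncomputable def Btab_s_16_24 (c : Nat) : Nat := @Bool.rec (fun _ => Nat) (Btab_s_16_20 c) (Btab_s_20_24 c) (Nat.ble 20 c)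
noncomputable def Btab_s_24_26 (c : Nat) : Nat := @Bool.rec (fun _ => Nat) (Btab_24) (Btab_25) (Nat.ble 25 c)
noncomputable def Btab_s_26_28 (c : Nat) : Nat := @Bool.rec (fun _ => Nat) (Btab_26) (Btab_27) (Nat.ble 27 c)
noncomputable def Btab_s_24_28 (c : Nat) : Nat := @Bool.rec (fun _ => Nat) (Btab_s_24_26 c) (Btab_s_26_28 c) (Nat.ble 26 c)
noncomputable def Btab_s_28_30 (c : Nat) : Nat := @Bool.rec (fun _ => Nat) (Btab_28) (Btab_29) (Nat.ble 29 c)
noncomputable def Btab_s_30_32 (c : Nat) : Nat := @Bool.rec (fun _ => Nat) (Btab_30) (Btab_31) (Nat.ble 31 c)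
noncomputable def Btab_s_28_32 (c : Nat) : Nat := @Bool.rec (fun _ => Nat) (Btab_s_28_30 c) (Btab_s_30_32 c) (Nat.ble 30 c)
noncomputable def Btab_s_24_32 (c : Nat) : Nat := @Bool.rec (fun _ => Nat) (Btab_s_24_28 c) (Btab_s_28_32 c) (Nat.ble 28 c)
noncomputable def Btab_s_16_32 (c : Nat) : Nat := @Bool.rec (fun _ => Nat) (Btab_s_16_24 c) (Btab_s_24_32 c) (Nat.ble 24 c)
noncomputable def Btab_s_0_32 (c : Nat) : Nat := @Bool.rec (fun _ => Nat) (Btab_s_0_16 c) (Btab_s_16_32 c) (Nat.ble 16 c)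
noncomputable def Btab_s_32_34 (c : Nat) : Nat := @Bool.rec (fun _ => Nat) (Btab_32) (Btab_33) (Nat.ble 33 c)
noncomputable def Btab_s_34_36 (c : Nat) : Nat := @Bool.rec (fun _ => Nat) (Btab_34) (Btab_35) (Nat.ble 35 c)
noncomputable def Btab_s_32_36 (c : Nat) : Nat := @Bool.rec (fun _ => Nat) (Btab_s_32_34 c) (Btab_s_34_36 c) (Nat.ble 34 c)
noncomputable def Btab_s_36_38 (c : Nat) : Nat := @Bool.rec (fun _ => Nat) (Btab_36) (Btab_37) (Nat.ble 37 c)
noncomputable def Btab_s_38_40 (c : Nat) : Nat := @Bool.rec (fun _ => Nat) (Btab_38) (Btab_39) (Nat.ble 39 c)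
noncomputable def Btab_s_36_40 (c : Nat) : Nat := @Bool.rec (fun _ => Nat) (Btab_s_36_38 c) (Btab_s_38_40 c) (Nat.ble 38 c)
noncomputable def Btab_s_32_40 (c : Nat) : Nat := @Bool.rec (fun _ => Nat) (Btab_s_32_36 c) (Btab_s_36_40 c) (Nat.ble 36 c)
noncomputable def Btab_s_40_42 (c : Nat) : Nat := @Bool.rec (fun _ => Nat) (Btab_40) (Btab_41) (Nat.ble 41 c)
noncomputable def Btab_s_42_44 (c : Nat) : Nat := @Bool.rec (fun _ => Nat) (Btab_42) (Btab_43) (Nat.ble 43 c)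
noncomputable def Btab_s_40_44 (c : Nat) : Nat := @Bool.rec (fun _ => Nat) (Btab_s_40_42 c) (Btab_s_42_44 c) (Nat.ble 42 c)
noncomputable def Btab_s_44_46 (c : Nat) : Nat := @Bool.rec (fun _ => Nat) (Btab_44) (Btab_45) (Nat.ble 45 c)
noncomputable def Btab_s_46_48 (c : Nat) : Nat := @Bool.rec (fun _ => Nat) (Btab_46) (Btab_47) (Nat.ble 47 c)
noncomputable def Btab_s_44_48 (c : Nat) : Nat := @Bool.rec (fun _ => Nat) (Btab_s_44_46 c) (Btab_s_46_48 c) (Nat.ble 46 c)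
noncomputable def Btab_s_40_48 (c : Nat) : Nat := @Bool.rec (fun _ => Nat) (Btab_s_40_44 c) (Btab_s_44_48 c) (Nat.ble 44 c)
noncomputable def Btab_s_32_48 (c : Nat) : Nat := @Bool.rec (fun _ => Nat) (Btab_s_32_40 c) (Btab_s_40_48 c) (Nat.ble 40 c)
noncomputable def Btab_s_48_50 (c : Nat) : Nat := @Bool.rec (fun _ => Nat) (Btab_48) (Btab_49) (Nat.ble 49 c)
noncomputable def Btab_s_50_52 (c : Nat) : Nat := @Bool.rec (fun _ => Nat) (Btab_50) (Btab_51) (Nat.ble 51 c)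
noncomputable def Btab_s_48_52 (c : Nat) : Nat := @Bool.rec (fun _ => Nat) (Btab_s_48_50 c) (Btab_s_50_52 c) (Nat.ble 50 c)
noncomputable def Btab_s_52_54 (c : Nat) : Nat := @Bool.rec (fun _ => Nat) (Btab_52) (Btab_53) (Nat.ble 53 c)
noncomputable def Btab_s_54_56 (c : Nat) : Nat := @Bool.rec (fun _ => Nat) (Btab_54) (Btab_55) (Nat.ble 55 c)
noncomputable def Btab_s_52_56 (c : Nat) : Nat := @Bool.rec (fun _ => Nat) (Btab_s_52_54 c) (Btab_s_54_56 c) (Nat.ble 54 c)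
noncomputable def Btab_s_48_56 (c : Nat) : Nat := @Bool.rec (fun _ => Nat) (Btab_s_48_52 c) (Btab_s_52_56 c) (Nat.ble 52 c)
noncomputable def Btab_s_56_58 (c : Nat) : Nat := @Bool.rec (fun _ => Nat) (Btab_56) (Btab_57) (Nat.ble 57 c)
noncomputable def Btab_s_58_60 (c : Nat) : Nat := @Bool.rec (fun _ => Nat) (Btab_58) (Btab_59) (Nat.ble 59 c)
noncomputable def Btab_s_56_60 (c : Nat) : Nat := @Bool.rec (fun _ => Nat) (Btab_s_56_58 c) (Btab_s_58_60 c) (Nat.ble 58 c)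
noncomputable def Btab_s_60_62 (c : Nat) : Nat := @Bool.rec (fun _ => Nat) (Btab_60) (Btab_61) (Nat.ble 61 c)
noncomputable def Btab_s_62_64 (c : Nat) : Nat := @Bool.rec (fun _ => Nat) (Btab_62) (Btab_63) (Nat.ble 63 c)
noncomputable def Btab_s_60_64 (c : Nat) : Nat := @Bool.rec (fun _ => Nat) (Btab_s_60_62 c) (Btab_s_62_64 c) (Nat.ble 62 c)
noncomputable def Btab_s_56_64 (c : Nat) : Nat := @Bool.rec (fun _ => Nat) (Btab_s_56_60 c) (Btab_s_60_64 c) (Nat.ble 60 c)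
noncomputable def Btab_s_48_64 (c : Nat) : Nat := @Bool.rec (fun _ => Nat) (Btab_s_48_56 c) (Btab_s_56_64 c) (Nat.ble 56 c)
noncomputable def Btab_s_32_64 (c : Nat) : Nat := @Bool.rec (fun _ => Nat) (Btab_s_32_48 c) (Btab_s_48_64 c) (Nat.ble 48 c)
noncomputable def Btab_s_0_64 (c : Nat) : Nat := @Bool.rec (fun _ => Nat) (Btab_s_0_32 c) (Btab_s_32_64 c) (Nat.ble 32 c)
noncomputable def Btab_s_64_66 (c : Nat) : Nat := @Bool.rec (fun _ => Nat) (Btab_64) (Btab_65) (Nat.ble 65 c)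
noncomputable def Btab_s_66_68 (c : Nat) : Nat := @Bool.rec (fun _ => Nat) (Btab_66) (Btab_67) (Nat.ble 67 c)
noncomputable def Btab_s_64_68 (c : Nat) : Nat := @Bool.rec (fun _ => Nat) (Btab_s_64_66 c) (Btab_s_66_68 c) (Nat.ble 66 c)
noncomputable def Btab_s_68_70 (c : Nat) : Nat := @Bool.rec (fun _ => Nat) (Btab_68) (Btab_69) (Nat.ble 69 c)
noncomputable def Btab_s_70_72 (c : Nat) : Nat := @Bool.rec (fun _ => Nat) (Btab_70) (Btab_71) (Nat.ble 71 c)
noncomputable def Btab_s_68_72 (c : Nat) : Nat := @Bool.rec (fun _ => Nat) (Btab_s_68_70 c) (Btab_s_70_72 c) (Nat.ble 70 c)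
noncomputable def Btab_s_64_72 (c : Nat) : Nat := @Bool.rec (fun _ => Nat) (Btab_s_64_68 c) (Btab_s_68_72 c) (Nat.ble 68 c)
noncomputable def Btab_s_72_74 (c : Nat) : Nat := @Bool.rec (fun _ => Nat) (Btab_72) (Btab_73) (Nat.ble 73 c)
noncomputable def Btab_s_74_76 (c : Nat) : Nat := @Bool.rec (fun _ => Nat) (Btab_74) (Btab_75) (Nat.ble 75 c)
noncomputable def Btab_s_72_76 (c : Nat) : Nat := @Bool.rec (fun _ => Nat) (Btab_s_72_74 c) (Btab_s_74_76 c) (Nat.ble 74 c)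
noncomputable def Btab_s_76_78 (c : Nat) : Nat := @Bool.rec (fun _ => Nat) (Btab_76) (Btab_77) (Nat.ble 77 c)
noncomputable def Btab_s_78_80 (c : Nat) : Nat := @Bool.rec (fun _ => Nat) (Btab_78) (Btab_79) (Nat.ble 79 c)
noncomputable def Btab_s_76_80 (c : Nat) : Nat := @Bool.rec (fun _ => Nat) (Btab_s_76_78 c) (Btab_s_78_80 c) (Nat.ble 78 c)
noncomputable def Btab_s_72_80 (c : Nat) : Nat := @Bool.rec (fun _ => Nat) (Btab_s_72_76 c) (Btab_s_76_80 c) (Nat.ble 76 c)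
noncomputable def Btab_s_64_80 (c : Nat) : Nat := @Bool.rec (fun _ => Nat) (Btab_s_64_72 c) (Btab_s_72_80 c) (Nat.ble 72 c)
noncomputable def Btab_s_80_82 (c : Nat) : Nat := @Bool.rec (fun _ => Nat) (Btab_80) (Btab_81) (Nat.ble 81 c)
noncomputable def Btab_s_82_84 (c : Nat) : Nat := @Bool.rec (fun _ => Nat) (Btab_82) (Btab_83) (Nat.ble 83 c)
noncomputable def Btab_s_80_84 (c : Nat) : Nat := @Bool.rec (fun _ => Nat) (Btab_s_80_82 c) (Btab_s_82_84 c) (Nat.ble 82 c)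
noncomputable def Btab_s_84_86 (c : Nat) : Nat := @Bool.rec (fun _ => Nat) (Btab_84) (Btab_85) (Nat.ble 85 c)
noncomputable def Btab_s_86_88 (c : Nat) : Nat := @Bool.rec (fun _ => Nat) (Btab_86) (Btab_87) (Nat.ble 87 c)
noncomputable def Btab_s_84_88 (c : Nat) : Nat := @Bool.rec (fun _ => Nat) (Btab_s_84_86 c) (Btab_s_86_88 c) (Nat.ble 86 c)
noncomputable def Btab_s_80_88 (c : Nat) : Nat := @Bool.rec (fun _ => Nat) (Btab_s_80_84 c) (Btab_s_84_88 c) (Nat.ble 84 c)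
noncomputable def Btab_s_88_90 (c : Nat) : Nat := @Bool.rec (fun _ => Nat) (Btab_88) (Btab_89) (Nat.ble 89 c)
noncomputable def Btab_s_90_92 (c : Nat) : Nat := @Bool.rec (fun _ => Nat) (Btab_90) (Btab_91) (Nat.ble 91 c)
noncomputable def Btab_s_88_92 (c : Nat) : Nat := @Bool.rec (fun _ => Nat) (Btab_s_88_90 c) (Btab_s_90_92 c) (Nat.ble 90 c)
noncomputable def Btab_s_92_94 (c : Nat) : Nat := @Bool.rec (fun _ => Nat) (Btab_92) (Btab_93) (Nat.ble 93 c)
noncomputable def Btab_s_94_96 (c : Nat) : Nat := @Bool.rec (fun _ => Nat) (Btab_94) (Btab_95) (Nat.ble 95 c)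
noncomputable def Btab_s_92_96 (c : Nat) : Nat := @Bool.rec (fun _ => Nat) (Btab_s_92_94 c) (Btab_s_94_96 c) (Nat.ble 94 c)
noncomputable def Btab_s_88_96 (c : Nat) : Nat := @Bool.rec (fun _ => Nat) (Btab_s_88_92 c) (Btab_s_92_96 c) (Nat.ble 92 c)
noncomputable def Btab_s_80_96 (c : Nat) : Nat := @Bool.rec (fun _ => Nat) (Btab_s_80_88 c) (Btab_s_88_96 c) (Nat.ble 88 c)
noncomputable def Btab_s_64_96 (c : Nat) : Nat := @Bool.rec (fun _ => Nat) (Btab_s_64_80 c) (Btab_s_80_96 c) (Nat.ble 80 c)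
noncomputable def Btab_s_96_98 (c : Nat) : Nat := @Bool.rec (fun _ => Nat) (Btab_96) (Btab_97) (Nat.ble 97 c)
noncomputable def Btab_s_98_100 (c : Nat) : Nat := @Bool.rec (fun _ => Nat) (Btab_98) (Btab_99) (Nat.ble 99 c)
noncomputable def Btab_s_96_100 (c : Nat) : Nat := @Bool.rec (fun _ => Nat) (Btab_s_96_98 c) (Btab_s_98_100 c) (Nat.ble 98 c)
noncomputable def Btab_s_100_102 (c : Nat) : Nat := @Bool.rec (fun _ => Nat) (Btab_100) (Btab_101) (Nat.ble 101 c)
noncomputable def Btab_s_102_104 (c : Nat) : Nat := @Bool.rec (fun _ => Nat) (Btab_102) (Btab_103) (Nat.ble 103 c)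
noncomputable def Btab_s_100_104 (c : Nat) : Nat := @Bool.rec (fun _ => Nat) (Btab_s_100_102 c) (Btab_s_102_104 c) (Nat.ble 102 c)
noncomputable def Btab_s_96_104 (c : Nat) : Nat := @Bool.rec (fun _ => Nat) (Btab_s_96_100 c) (Btab_s_100_104 c) (Nat.ble 100 c)
noncomputable def Btab_s_104_106 (c : Nat) : Nat := @Bool.rec (fun _ => Nat) (Btab_104) (Btab_105) (Nat.ble 105 c)
noncomputable def Btab_s_106_108 (c : Nat) : Nat := @Bool.rec (fun _ => Nat) (Btab_106) (Btab_107) (Nat.ble 107 c)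
noncomputable def Btab_s_104_108 (c : Nat) : Nat := @Bool.rec (fun _ => Nat) (Btab_s_104_106 c) (Btab_s_106_108 c) (Nat.ble 106 c)
noncomputable def Btab_s_108_110 (c : Nat) : Nat := @Bool.rec (fun _ => Nat) (Btab_108) (Btab_109) (Nat.ble 109 c)
noncomputable def Btab_s_110_112 (c : Nat) : Nat := @Bool.rec (fun _ => Nat) (Btab_110) (Btab_111) (Nat.ble 111 c)
noncomputable def Btab_s_108_112 (c : Nat) : Nat := @Bool.rec (fun _ => Nat) (Btab_s_108_110 c) (Btab_s_110_112 c) (Nat.ble 110 c)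
noncomputable def Btab_s_104_112 (c : Nat) : Nat := @Bool.rec (fun _ => Nat) (Btab_s_104_108 c) (Btab_s_108_112 c) (Nat.ble 108 c)
noncomputable def Btab_s_96_112 (c : Nat) : Nat := @Bool.rec (fun _ => Nat) (Btab_s_96_104 c) (Btab_s_104_112 c) (Nat.ble 104 c)
noncomputable def Btab_s_112_114 (c : Nat) : Nat := @Bool.rec (fun _ => Nat) (Btab_112) (Btab_113) (Nat.ble 113 c)
noncomputable def Btab_s_114_116 (c : Nat) : Nat := @Bool.rec (fun _ => Nat) (Btab_114) (Btab_115) (Nat.ble 115 c)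
noncomputable def Btab_s_112_116 (c : Nat) : Nat := @Bool.rec (fun _ => Nat) (Btab_s_112_114 c) (Btab_s_114_116 c) (Nat.ble 114 c)
noncomputable def Btab_s_116_118 (c : Nat) : Nat := @Bool.rec (fun _ => Nat) (Btab_116) (Btab_117) (Nat.ble 117 c)
noncomputable def Btab_s_118_120 (c : Nat) : Nat := @Bool.rec (fun _ => Nat) (Btab_118) (Btab_119) (Nat.ble 119 c)
noncomputable def Btab_s_116_120 (c : Nat) : Nat := @Bool.rec (fun _ => Nat) (Btab_s_116_118 c) (Btab_s_118_120 c) (Nat.ble 118 c)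
noncomputable def Btab_s_112_120 (c : Nat) : Nat := @Bool.rec (fun _ => Nat) (Btab_s_112_116 c) (Btab_s_116_120 c) (Nat.ble 116 c)
noncomputable def Btab_s_120_122 (c : Nat) : Nat := @Bool.rec (fun _ => Nat) (Btab_120) (Btab_121) (Nat.ble 121 c)
noncomputable def Btab_s_122_124 (c : Nat) : Nat := @Bool.rec (fun _ => Nat) (Btab_122) (Btab_123) (Nat.ble 123 c)
noncomputable def Btab_s_120_124 (c : Nat) : Nat := @Bool.rec (fun _ => Nat) (Btab_s_120_122 c) (Btab_s_122_124 c) (Nat.ble 122 c)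
noncomputable def Btab_s_124_126 (c : Nat) : Nat := @Bool.rec (fun _ => Nat) (Btab_124) (Btab_125) (Nat.ble 125 c)
noncomputable def Btab_s_126_128 (c : Nat) : Nat := @Bool.rec (fun _ => Nat) (Btab_126) (Btab_127) (Nat.ble 127 c)
noncomputable def Btab_s_124_128 (c : Nat) : Nat := @Bool.rec (fun _ => Nat) (Btab_s_124_126 c) (Btab_s_126_128 c) (Nat.ble 126 c)
noncomputable def Btab_s_120_128 (c : Nat) : Nat := @Bool.rec (fun _ => Nat) (Btab_s_120_124 c) (Btab_s_124_128 c) (Nat.ble 124 c)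
noncomputable def Btab_s_112_128 (c : Nat) : Nat := @Bool.rec (fun _ => Nat) (Btab_s_112_120 c) (Btab_s_120_128 c) (Nat.ble 120 c)
noncomputable def Btab_s_96_128 (c : Nat) : Nat := @Bool.rec (fun _ => Nat) (Btab_s_96_112 c) (Btab_s_112_128 c) (Nat.ble 112 c)
noncomputable def Btab_s_64_128 (c : Nat) : Nat := @Bool.rec (fun _ => Nat) (Btab_s_64_96 c) (Btab_s_96_128 c) (Nat.ble 96 c)
noncomputable def Btab_s_0_128 (c : Nat) : Nat := @Bool.rec (fun _ => Nat) (Btab_s_0_64 c) (Btab_s_64_128 c) (Nat.ble 64 c)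
noncomputable def Btab (i : Nat) : Nat := rdw 42 4398046511103 (Btab_s_0_128 (Nat.shiftRight i 11)) (Nat.land i 2047)
noncomputable def Ptab_s_1_3 (c : Nat) : Nat := @Bool.rec (fun _ => Nat) (Ptab_1) (Ptab_2) (Nat.ble 2 c)
noncomputable def Ptab_s_0_3 (c : Nat) : Nat := @Bool.rec (fun _ => Nat) (Ptab_0) (Ptab_s_1_3 c) (Nat.ble 1 c)
noncomputable def Ptab_s_3_5 (c : Nat) : Nat := @Bool.rec (fun _ => Nat) (Ptab_3) (Ptab_4) (Nat.ble 4 c)
noncomputable def Ptab_s_5_7 (c : Nat) : Nat := @Bool.rec (fun _ => Nat) (Ptab_5) (Ptab_6) (Nat.ble 6 c)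
noncomputable def Ptab_s_3_7 (c : Nat) : Nat := @Bool.rec (fun _ => Nat) (Ptab_s_3_5 c) (Ptab_s_5_7 c) (Nat.ble 5 c)
noncomputable def Ptab_s_0_7 (c : Nat) : Nat := @Bool.rec (fun _ => Nat) (Ptab_s_0_3 c) (Ptab_s_3_7 c) (Nat.ble 3 c)
noncomputable def Ptab_s_7_9 (c : Nat) : Nat := @Bool.rec (fun _ => Nat) (Ptab_7) (Ptab_8) (Nat.ble 8 c)
noncomputable def Ptab_s_9_11 (c : Nat) : Nat := @Bool.rec (fun _ => Nat) (Ptab_9) (Ptab_10) (Nat.ble 10 c)
noncomputable def Ptab_s_7_11 (c : Nat) : Nat := @Bool.rec (fun _ => Nat) (Ptab_s_7_9 c) (Ptab_s_9_11 c) (Nat.ble 9 c)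
noncomputable def Ptab_s_11_13 (c : Nat) : Nat := @Bool.rec (fun _ => Nat) (Ptab_11) (Ptab_12) (Nat.ble 12 c)
noncomputable def Ptab_s_13_15 (c : Nat) : Nat := @Bool.rec (fun _ => Nat) (Ptab_13) (Ptab_14) (Nat.ble 14 c)
noncomputable def Ptab_s_11_15 (c : Nat) : Nat := @Bool.rec (fun _ => Nat) (Ptab_s_11_13 c) (Ptab_s_13_15 c) (Nat.ble 13 c)
noncomputable def Ptab_s_7_15 (c : Nat) : Nat := @Bool.rec (fun _ => Nat) (Ptab_s_7_11 c) (Ptab_s_11_15 c) (Nat.ble 11 c)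
noncomputable def Ptab_s_0_15 (c : Nat) : Nat := @Bool.rec (fun _ => Nat) (Ptab_s_0_7 c) (Ptab_s_7_15 c) (Nat.ble 7 c)
noncomputable def Ptab_s_16_18 (c : Nat) : Nat := @Bool.rec (fun _ => Nat) (Ptab_16) (Ptab_17) (Nat.ble 17 c)
noncomputable def Ptab_s_15_18 (c : Nat) : Nat := @Bool.rec (fun _ => Nat) (Ptab_15) (Ptab_s_16_18 c) (Nat.ble 16 c)
noncomputable def Ptab_s_18_20 (c : Nat) : Nat := @Bool.rec (fun _ => Nat) (Ptab_18) (Ptab_19) (Nat.ble 19 c)
noncomputable def Ptab_s_20_22 (c : Nat) : Nat := @Bool.rec (fun _ => Nat) (Ptab_20) (Ptab_21) (Nat.ble 21 c)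
noncomputable def Ptab_s_18_22 (c : Nat) : Nat := @Bool.rec (fun _ => Nat) (Ptab_s_18_20 c) (Ptab_s_20_22 c) (Nat.ble 20 c)
noncomputable def Ptab_s_15_22 (c : Nat) : Nat := @Bool.rec (fun _ => Nat) (Ptab_s_15_18 c) (Ptab_s_18_22 c) (Nat.ble 18 c)
noncomputable def Ptab_s_22_24 (c : Nat) : Nat := @Bool.rec (fun _ => Nat) (Ptab_22) (Ptab_23) (Nat.ble 23 c)
noncomputable def Ptab_s_24_26 (c : Nat) : Nat := @Bool.rec (fun _ => Nat) (Ptab_24) (Ptab_25) (Nat.ble 25 c)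
noncomputable def Ptab_s_22_26 (c : Nat) : Nat := @Bool.rec (fun _ => Nat) (Ptab_s_22_24 c) (Ptab_s_24_26 c) (Nat.ble 24 c)
noncomputable def Ptab_s_26_28 (c : Nat) : Nat := @Bool.rec (fun _ => Nat) (Ptab_26) (Ptab_27) (Nat.ble 27 c)
noncomputable def Ptab_s_28_30 (c : Nat) : Nat := @Bool.rec (fun _ => Nat) (Ptab_28) (Ptab_29) (Nat.ble 29 c)
noncomputable def Ptab_s_26_30 (c : Nat) : Nat := @Bool.rec (fun _ => Nat) (Ptab_s_26_28 c) (Ptab_s_28_30 c) (Nat.ble 28 c)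
noncomputable def Ptab_s_22_30 (c : Nat) : Nat := @Bool.rec (fun _ => Nat) (Ptab_s_22_26 c) (Ptab_s_26_30 c) (Nat.ble 26 c)
noncomputable def Ptab_s_15_30 (c : Nat) : Nat := @Bool.rec (fun _ => Nat) (Ptab_s_15_22 c) (Ptab_s_22_30 c) (Nat.ble 22 c)
noncomputable def Ptab_s_0_30 (c : Nat) : Nat := @Bool.rec (fun _ => Nat) (Ptab_s_0_15 c) (Ptab_s_15_30 c) (Nat.ble 15 c)
noncomputable def Ptab_s_31_33 (c : Nat) : Nat := @Bool.rec (fun _ => Nat) (Ptab_31) (Ptab_32) (Nat.ble 32 c)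
noncomputable def Ptab_s_30_33 (c : Nat) : Nat := @Bool.rec (fun _ => Nat) (Ptab_30) (Ptab_s_31_33 c) (Nat.ble 31 c)
noncomputable def Ptab_s_33_35 (c : Nat) : Nat := @Bool.rec (fun _ => Nat) (Ptab_33) (Ptab_34) (Nat.ble 34 c)
noncomputable def Ptab_s_35_37 (c : Nat) : Nat := @Bool.rec (fun _ => Nat) (Ptab_35) (Ptab_36) (Nat.ble 36 c)
noncomputable def Ptab_s_33_37 (c : Nat) : Nat := @Bool.rec (fun _ => Nat) (Ptab_s_33_35 c) (Ptab_s_35_37 c) (Nat.ble 35 c)
noncomputable def Ptab_s_30_37 (c : Nat) : Nat := @Bool.rec (fun _ => Nat) (Ptab_s_30_33 c) (Ptab_s_33_37 c) (Nat.ble 33 c)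
noncomputable def Ptab_s_37_39 (c : Nat) : Nat := @Bool.rec (fun _ => Nat) (Ptab_37) (Ptab_38) (Nat.ble 38 c)
noncomputable def Ptab_s_39_41 (c : Nat) : Nat := @Bool.rec (fun _ => Nat) (Ptab_39) (Ptab_40) (Nat.ble 40 c)
noncomputable def Ptab_s_37_41 (c : Nat) : Nat := @Bool.rec (fun _ => Nat) (Ptab_s_37_39 c) (Ptab_s_39_41 c) (Nat.ble 39 c)
noncomputable def Ptab_s_41_43 (c : Nat) : Nat := @Bool.rec (fun _ => Nat) (Ptab_41) (Ptab_42) (Nat.ble 42 c)
noncomputable def Ptab_s_43_45 (c : Nat) : Nat := @Bool.rec (fun _ => Nat) (Ptab_43) (Ptab_44) (Nat.ble 44 c)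
noncomputable def Ptab_s_41_45 (c : Nat) : Nat := @Bool.rec (fun _ => Nat) (Ptab_s_41_43 c) (Ptab_s_43_45 c) (Nat.ble 43 c)
noncomputable def Ptab_s_37_45 (c : Nat) : Nat := @Bool.rec (fun _ => Nat) (Ptab_s_37_41 c) (Ptab_s_41_45 c) (Nat.ble 41 c)
noncomputable def Ptab_s_30_45 (c : Nat) : Nat := @Bool.rec (fun _ => Nat) (Ptab_s_30_37 c) (Ptab_s_37_45 c) (Nat.ble 37 c)
noncomputable def Ptab_s_45_47 (c : Nat) : Nat := @Bool.rec (fun _ => Nat) (Ptab_45) (Ptab_46) (Nat.ble 46 c)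
noncomputable def Ptab_s_47_49 (c : Nat) : Nat := @Bool.rec (fun _ => Nat) (Ptab_47) (Ptab_48) (Nat.ble 48 c)
noncomputable def Ptab_s_45_49 (c : Nat) : Nat := @Bool.rec (fun _ => Nat) (Ptab_s_45_47 c) (Ptab_s_47_49 c) (Nat.ble 47 c)
noncomputable def Ptab_s_49_51 (c : Nat) : Nat := @Bool.rec (fun _ => Nat) (Ptab_49) (Ptab_50) (Nat.ble 50 c)
noncomputable def Ptab_s_51_53 (c : Nat) : Nat := @Bool.rec (fun _ => Nat) (Ptab_51) (Ptab_52) (Nat.ble 52 c)
noncomputable def Ptab_s_49_53 (c : Nat) : Nat := @Bool.rec (fun _ => Nat) (Ptab_s_49_51 c) (Ptab_s_51_53 c) (Nat.ble 51 c)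
noncomputable def Ptab_s_45_53 (c : Nat) : Nat := @Bool.rec (fun _ => Nat) (Ptab_s_45_49 c) (Ptab_s_49_53 c) (Nat.ble 49 c)
noncomputable def Ptab_s_53_55 (c : Nat) : Nat := @Bool.rec (fun _ => Nat) (Ptab_53) (Ptab_54) (Nat.ble 54 c)
noncomputable def Ptab_s_55_57 (c : Nat) : Nat := @Bool.rec (fun _ => Nat) (Ptab_55) (Ptab_56) (Nat.ble 56 c)
noncomputable def Ptab_s_53_57 (c : Nat) : Nat := @Bool.rec (fun _ => Nat) (Ptab_s_53_55 c) (Ptab_s_55_57 c) (Nat.ble 55 c)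
noncomputable def Ptab_s_57_59 (c : Nat) : Nat := @Bool.rec (fun _ => Nat) (Ptab_57) (Ptab_58) (Nat.ble 58 c)
noncomputable def Ptab_s_59_61 (c : Nat) : Nat := @Bool.rec (fun _ => Nat) (Ptab_59) (Ptab_60) (Nat.ble 60 c)
noncomputable def Ptab_s_57_61 (c : Nat) : Nat := @Bool.rec (fun _ => Nat) (Ptab_s_57_59 c) (Ptab_s_59_61 c) (Nat.ble 59 c)
noncomputable def Ptab_s_53_61 (c : Nat) : Nat := @Bool.rec (fun _ => Nat) (Ptab_s_53_57 c) (Ptab_s_57_61 c) (Nat.ble 57 c)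
noncomputable def Ptab_s_45_61 (c : Nat) : Nat := @Bool.rec (fun _ => Nat) (Ptab_s_45_53 c) (Ptab_s_53_61 c) (Nat.ble 53 c)
noncomputable def Ptab_s_30_61 (c : Nat) : Nat := @Bool.rec (fun _ => Nat) (Ptab_s_30_45 c) (Ptab_s_45_61 c) (Nat.ble 45 c)
noncomputable def Ptab_s_0_61 (c : Nat) : Nat := @Bool.rec (fun _ => Nat) (Ptab_s_0_30 c) (Ptab_s_30_61 c) (Nat.ble 30 c)
noncomputable def Ptab_s_62_64 (c : Nat) : Nat := @Bool.rec (fun _ => Nat) (Ptab_62) (Ptab_63) (Nat.ble 63 c)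
noncomputable def Ptab_s_61_64 (c : Nat) : Nat := @Bool.rec (fun _ => Nat) (Ptab_61) (Ptab_s_62_64 c) (Nat.ble 62 c)
noncomputable def Ptab_s_64_66 (c : Nat) : Nat := @Bool.rec (fun _ => Nat) (Ptab_64) (Ptab_65) (Nat.ble 65 c)
noncomputable def Ptab_s_66_68 (c : Nat) : Nat := @Bool.rec (fun _ => Nat) (Ptab_66) (Ptab_67) (Nat.ble 67 c)
noncomputable def Ptab_s_64_68 (c : Nat) : Nat := @Bool.rec (fun _ => Nat) (Ptab_s_64_66 c) (Ptab_s_66_68 c) (Nat.ble 66 c)
noncomputable def Ptab_s_61_68 (c : Nat) : Nat := @Bool.rec (fun _ => Nat) (Ptab_s_61_64 c) (Ptab_s_64_68 c) (Nat.ble 64 c)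
noncomputable def Ptab_s_68_70 (c : Nat) : Nat := @Bool.rec (fun _ => Nat) (Ptab_68) (Ptab_69) (Nat.ble 69 c)
noncomputable def Ptab_s_70_72 (c : Nat) : Nat := @Bool.rec (fun _ => Nat) (Ptab_70) (Ptab_71) (Nat.ble 71 c)
noncomputable def Ptab_s_68_72 (c : Nat) : Nat := @Bool.rec (fun _ => Nat) (Ptab_s_68_70 c) (Ptab_s_70_72 c) (Nat.ble 70 c)
noncomputable def Ptab_s_72_74 (c : Nat) : Nat := @Bool.rec (fun _ => Nat) (Ptab_72) (Ptab_73) (Nat.ble 73 c)
noncomputable def Ptab_s_74_76 (c : Nat) : Nat := @Bool.rec (fun _ => Nat) (Ptab_74) (Ptab_75) (Nat.ble 75 c)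
noncomputable def Ptab_s_72_76 (c : Nat) : Nat := @Bool.rec (fun _ => Nat) (Ptab_s_72_74 c) (Ptab_s_74_76 c) (Nat.ble 74 c)
noncomputable def Ptab_s_68_76 (c : Nat) : Nat := @Bool.rec (fun _ => Nat) (Ptab_s_68_72 c) (Ptab_s_72_76 c) (Nat.ble 72 c)
noncomputable def Ptab_s_61_76 (c : Nat) : Nat := @Bool.rec (fun _ => Nat) (Ptab_s_61_68 c) (Ptab_s_68_76 c) (Nat.ble 68 c)
noncomputable def Ptab_s_76_78 (c : Nat) : Nat := @Bool.rec (fun _ => Nat) (Ptab_76) (Ptab_77) (Nat.ble 77 c)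
noncomputable def Ptab_s_78_80 (c : Nat) : Nat := @Bool.rec (fun _ => Nat) (Ptab_78) (Ptab_79) (Nat.ble 79 c)
noncomputable def Ptab_s_76_80 (c : Nat) : Nat := @Bool.rec (fun _ => Nat) (Ptab_s_76_78 c) (Ptab_s_78_80 c) (Nat.ble 78 c)
noncomputable def Ptab_s_80_82 (c : Nat) : Nat := @Bool.rec (fun _ => Nat) (Ptab_80) (Ptab_81) (Nat.ble 81 c)
noncomputable def Ptab_s_82_84 (c : Nat) : Nat := @Bool.rec (fun _ => Nat) (Ptab_82) (Ptab_83) (Nat.ble 83 c)
noncomputable def Ptab_s_80_84 (c : Nat) : Nat := @Bool.rec (fun _ => Nat) (Ptab_s_80_82 c) (Ptab_s_82_84 c) (Nat.ble 82 c)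
noncomputable def Ptab_s_76_84 (c : Nat) : Nat := @Bool.rec (fun _ => Nat) (Ptab_s_76_80 c) (Ptab_s_80_84 c) (Nat.ble 80 c)
noncomputable def Ptab_s_84_86 (c : Nat) : Nat := @Bool.rec (fun _ => Nat) (Ptab_84) (Ptab_85) (Nat.ble 85 c)
noncomputable def Ptab_s_86_88 (c : Nat) : Nat := @Bool.rec (fun _ => Nat) (Ptab_86) (Ptab_87) (Nat.ble 87 c)
noncomputable def Ptab_s_84_88 (c : Nat) : Nat := @Bool.rec (fun _ => Nat) (Ptab_s_84_86 c) (Ptab_s_86_88 c) (Nat.ble 86 c)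
noncomputable def Ptab_s_88_90 (c : Nat) : Nat := @Bool.rec (fun _ => Nat) (Ptab_88) (Ptab_89) (Nat.ble 89 c)
noncomputable def Ptab_s_90_92 (c : Nat) : Nat := @Bool.rec (fun _ => Nat) (Ptab_90) (Ptab_91) (Nat.ble 91 c)
noncomputable def Ptab_s_88_92 (c : Nat) : Nat := @Bool.rec (fun _ => Nat) (Ptab_s_88_90 c) (Ptab_s_90_92 c) (Nat.ble 90 c)
noncomputable def Ptab_s_84_92 (c : Nat) : Nat := @Bool.rec (fun _ => Nat) (Ptab_s_84_88 c) (Ptab_s_88_92 c) (Nat.ble 88 c)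
noncomputable def Ptab_s_76_92 (c : Nat) : Nat := @Bool.rec (fun _ => Nat) (Ptab_s_76_84 c) (Ptab_s_84_92 c) (Nat.ble 84 c)
noncomputable def Ptab_s_61_92 (c : Nat) : Nat := @Bool.rec (fun _ => Nat) (Ptab_s_61_76 c) (Ptab_s_76_92 c) (Nat.ble 76 c)
noncomputable def Ptab_s_93_95 (c : Nat) : Nat := @Bool.rec (fun _ => Nat) (Ptab_93) (Ptab_94) (Nat.ble 94 c)
noncomputable def Ptab_s_92_95 (c : Nat) : Nat := @Bool.rec (fun _ => Nat) (Ptab_92) (Ptab_s_93_95 c) (Nat.ble 93 c)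
noncomputable def Ptab_s_95_97 (c : Nat) : Nat := @Bool.rec (fun _ => Nat) (Ptab_95) (Ptab_96) (Nat.ble 96 c)
noncomputable def Ptab_s_97_99 (c : Nat) : Nat := @Bool.rec (fun _ => Nat) (Ptab_97) (Ptab_98) (Nat.ble 98 c)
noncomputable def Ptab_s_95_99 (c : Nat) : Nat := @Bool.rec (fun _ => Nat) (Ptab_s_95_97 c) (Ptab_s_97_99 c) (Nat.ble 97 c)
noncomputable def Ptab_s_92_99 (c : Nat) : Nat := @Bool.rec (fun _ => Nat) (Ptab_s_92_95 c) (Ptab_s_95_99 c) (Nat.ble 95 c)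
noncomputable def Ptab_s_99_101 (c : Nat) : Nat := @Bool.rec (fun _ => Nat) (Ptab_99) (Ptab_100) (Nat.ble 100 c)
noncomputable def Ptab_s_101_103 (c : Nat) : Nat := @Bool.rec (fun _ => Nat) (Ptab_101) (Ptab_102) (Nat.ble 102 c)
noncomputable def Ptab_s_99_103 (c : Nat) : Nat := @Bool.rec (fun _ => Nat) (Ptab_s_99_101 c) (Ptab_s_101_103 c) (Nat.ble 101 c)
noncomputable def Ptab_s_103_105 (c : Nat) : Nat := @Bool.rec (fun _ => Nat) (Ptab_103) (Ptab_104) (Nat.ble 104 c)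
noncomputable def Ptab_s_105_107 (c : Nat) : Nat := @Bool.rec (fun _ => Nat) (Ptab_105) (Ptab_106) (Nat.ble 106 c)
noncomputable def Ptab_s_103_107 (c : Nat) : Nat := @Bool.rec (fun _ => Nat) (Ptab_s_103_105 c) (Ptab_s_105_107 c) (Nat.ble 105 c)
noncomputable def Ptab_s_99_107 (c : Nat) : Nat := @Bool.rec (fun _ => Nat) (Ptab_s_99_103 c) (Ptab_s_103_107 c) (Nat.ble 103 c)
noncomputable def Ptab_s_92_107 (c : Nat) : Nat := @Bool.rec (fun _ => Nat) (Ptab_s_92_99 c) (Ptab_s_99_107 c) (Nat.ble 99 c)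
noncomputable def Ptab_s_107_109 (c : Nat) : Nat := @Bool.rec (fun _ => Nat) (Ptab_107) (Ptab_108) (Nat.ble 108 c)
noncomputable def Ptab_s_109_111 (c : Nat) : Nat := @Bool.rec (fun _ => Nat) (Ptab_109) (Ptab_110) (Nat.ble 110 c)
noncomputable def Ptab_s_107_111 (c : Nat) : Nat := @Bool.rec (fun _ => Nat) (Ptab_s_107_109 c) (Ptab_s_109_111 c) (Nat.ble 109 c)
noncomputable def Ptab_s_111_113 (c : Nat) : Nat := @Bool.rec (fun _ => Nat) (Ptab_111) (Ptab_112) (Nat.ble 112 c)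
noncomputable def Ptab_s_113_115 (c : Nat) : Nat := @Bool.rec (fun _ => Nat) (Ptab_113) (Ptab_114) (Nat.ble 114 c)
noncomputable def Ptab_s_111_115 (c : Nat) : Nat := @Bool.rec (fun _ => Nat) (Ptab_s_111_113 c) (Ptab_s_113_115 c) (Nat.ble 113 c)
noncomputable def Ptab_s_107_115 (c : Nat) : Nat := @Bool.rec (fun _ => Nat) (Ptab_s_107_111 c) (Ptab_s_111_115 c) (Nat.ble 111 c)
noncomputable def Ptab_s_115_117 (c : Nat) : Nat := @Bool.rec (fun _ => Nat) (Ptab_115) (Ptab_116) (Nat.ble 116 c)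
noncomputable def Ptab_s_117_119 (c : Nat) : Nat := @Bool.rec (fun _ => Nat) (Ptab_117) (Ptab_118) (Nat.ble 118 c)
noncomputable def Ptab_s_115_119 (c : Nat) : Nat := @Bool.rec (fun _ => Nat) (Ptab_s_115_117 c) (Ptab_s_117_119 c) (Nat.ble 117 c)
noncomputable def Ptab_s_119_121 (c : Nat) : Nat := @Bool.rec (fun _ => Nat) (Ptab_119) (Ptab_120) (Nat.ble 120 c)
noncomputable def Ptab_s_121_123 (c : Nat) : Nat := @Bool.rec (fun _ => Nat) (Ptab_121) (Ptab_122) (Nat.ble 122 c)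
noncomputable def Ptab_s_119_123 (c : Nat) : Nat := @Bool.rec (fun _ => Nat) (Ptab_s_119_121 c) (Ptab_s_121_123 c) (Nat.ble 121 c)
noncomputable def Ptab_s_115_123 (c : Nat) : Nat := @Bool.rec (fun _ => Nat) (Ptab_s_115_119 c) (Ptab_s_119_123 c) (Nat.ble 119 c)
noncomputable def Ptab_s_107_123 (c : Nat) : Nat := @Bool.rec (fun _ => Nat) (Ptab_s_107_115 c) (Ptab_s_115_123 c) (Nat.ble 115 c)
noncomputable def Ptab_s_92_123 (c : Nat) : Nat := @Bool.rec (fun _ => Nat) (Ptab_s_92_107 c) (Ptab_s_107_123 c) (Nat.ble 107 c)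
noncomputable def Ptab_s_61_123 (c : Nat) : Nat := @Bool.rec (fun _ => Nat) (Ptab_s_61_92 c) (Ptab_s_92_123 c) (Nat.ble 92 c)
noncomputable def Ptab_s_0_123 (c : Nat) : Nat := @Bool.rec (fun _ => Nat) (Ptab_s_0_61 c) (Ptab_s_61_123 c) (Nat.ble 61 c)
noncomputable def Ptab_s_124_126 (c : Nat) : Nat := @Bool.rec (fun _ => Nat) (Ptab_124) (Ptab_125) (Nat.ble 125 c)
noncomputable def Ptab_s_123_126 (c : Nat) : Nat := @Bool.rec (fun _ => Nat) (Ptab_123) (Ptab_s_124_126 c) (Nat.ble 124 c)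
noncomputable def Ptab_s_126_128 (c : Nat) : Nat := @Bool.rec (fun _ => Nat) (Ptab_126) (Ptab_127) (Nat.ble 127 c)
noncomputable def Ptab_s_128_130 (c : Nat) : Nat := @Bool.rec (fun _ => Nat) (Ptab_128) (Ptab_129) (Nat.ble 129 c)
noncomputable def Ptab_s_126_130 (c : Nat) : Nat := @Bool.rec (fun _ => Nat) (Ptab_s_126_128 c) (Ptab_s_128_130 c) (Nat.ble 128 c)
noncomputable def Ptab_s_123_130 (c : Nat) : Nat := @Bool.rec (fun _ => Nat) (Ptab_s_123_126 c) (Ptab_s_126_130 c) (Nat.ble 126 c)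
noncomputable def Ptab_s_130_132 (c : Nat) : Nat := @Bool.rec (fun _ => Nat) (Ptab_130) (Ptab_131) (Nat.ble 131 c)
noncomputable def Ptab_s_132_134 (c : Nat) : Nat := @Bool.rec (fun _ => Nat) (Ptab_132) (Ptab_133) (Nat.ble 133 c)
noncomputable def Ptab_s_130_134 (c : Nat) : Nat := @Bool.rec (fun _ => Nat) (Ptab_s_130_132 c) (Ptab_s_132_134 c) (Nat.ble 132 c)
noncomputable def Ptab_s_134_136 (c : Nat) : Nat := @Bool.rec (fun _ => Nat) (Ptab_134) (Ptab_135) (Nat.ble 135 c)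
noncomputable def Ptab_s_136_138 (c : Nat) : Nat := @Bool.rec (fun _ => Nat) (Ptab_136) (Ptab_137) (Nat.ble 137 c)
noncomputable def Ptab_s_134_138 (c : Nat) : Nat := @Bool.rec (fun _ => Nat) (Ptab_s_134_136 c) (Ptab_s_136_138 c) (Nat.ble 136 c)
noncomputable def Ptab_s_130_138 (c : Nat) : Nat := @Bool.rec (fun _ => Nat) (Ptab_s_130_134 c) (Ptab_s_134_138 c) (Nat.ble 134 c)
noncomputable def Ptab_s_123_138 (c : Nat) : Nat := @Bool.rec (fun _ => Nat) (Ptab_s_123_130 c) (Ptab_s_130_138 c) (Nat.ble 130 c)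
noncomputable def Ptab_s_139_141 (c : Nat) : Nat := @Bool.rec (fun _ => Nat) (Ptab_139) (Ptab_140) (Nat.ble 140 c)
noncomputable def Ptab_s_138_141 (c : Nat) : Nat := @Bool.rec (fun _ => Nat) (Ptab_138) (Ptab_s_139_141 c) (Nat.ble 139 c)
noncomputable def Ptab_s_141_143 (c : Nat) : Nat := @Bool.rec (fun _ => Nat) (Ptab_141) (Ptab_142) (Nat.ble 142 c)
noncomputable def Ptab_s_143_145 (c : Nat) : Nat := @Bool.rec (fun _ => Nat) (Ptab_143) (Ptab_144) (Nat.ble 144 c)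
noncomputable def Ptab_s_141_145 (c : Nat) : Nat := @Bool.rec (fun _ => Nat) (Ptab_s_141_143 c) (Ptab_s_143_145 c) (Nat.ble 143 c)
noncomputable def Ptab_s_138_145 (c : Nat) : Nat := @Bool.rec (fun _ => Nat) (Ptab_s_138_141 c) (Ptab_s_141_145 c) (Nat.ble 141 c)
noncomputable def Ptab_s_145_147 (c : Nat) : Nat := @Bool.rec (fun _ => Nat) (Ptab_145) (Ptab_146) (Nat.ble 146 c)
noncomputable def Ptab_s_147_149 (c : Nat) : Nat := @Bool.rec (fun _ => Nat) (Ptab_147) (Ptab_148) (Nat.ble 148 c)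
noncomputable def Ptab_s_145_149 (c : Nat) : Nat := @Bool.rec (fun _ => Nat) (Ptab_s_145_147 c) (Ptab_s_147_149 c) (Nat.ble 147 c)
noncomputable def Ptab_s_149_151 (c : Nat) : Nat := @Bool.rec (fun _ => Nat) (Ptab_149) (Ptab_150) (Nat.ble 150 c)
noncomputable def Ptab_s_151_153 (c : Nat) : Nat := @Bool.rec (fun _ => Nat) (Ptab_151) (Ptab_152) (Nat.ble 152 c)
noncomputable def Ptab_s_149_153 (c : Nat) : Nat := @Bool.rec (fun _ => Nat) (Ptab_s_149_151 c) (Ptab_s_151_153 c) (Nat.ble 151 c)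
noncomputable def Ptab_s_145_153 (c : Nat) : Nat := @Bool.rec (fun _ => Nat) (Ptab_s_145_149 c) (Ptab_s_149_153 c) (Nat.ble 149 c)
noncomputable def Ptab_s_138_153 (c : Nat) : Nat := @Bool.rec (fun _ => Nat) (Ptab_s_138_145 c) (Ptab_s_145_153 c) (Nat.ble 145 c)
noncomputable def Ptab_s_123_153 (c : Nat) : Nat := @Bool.rec (fun _ => Nat) (Ptab_s_123_138 c) (Ptab_s_138_153 c) (Nat.ble 138 c)
noncomputable def Ptab_s_154_156 (c : Nat) : Nat := @Bool.rec (fun _ => Nat) (Ptab_154) (Ptab_155) (Nat.ble 155 c)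
noncomputable def Ptab_s_153_156 (c : Nat) : Nat := @Bool.rec (fun _ => Nat) (Ptab_153) (Ptab_s_154_156 c) (Nat.ble 154 c)
noncomputable def Ptab_s_156_158 (c : Nat) : Nat := @Bool.rec (fun _ => Nat) (Ptab_156) (Ptab_157) (Nat.ble 157 c)
noncomputable def Ptab_s_158_160 (c : Nat) : Nat := @Bool.rec (fun _ => Nat) (Ptab_158) (Ptab_159) (Nat.ble 159 c)
noncomputable def Ptab_s_156_160 (c : Nat) : Nat := @Bool.rec (fun _ => Nat) (Ptab_s_156_158 c) (Ptab_s_158_160 c) (Nat.ble 158 c)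
noncomputable def Ptab_s_153_160 (c : Nat) : Nat := @Bool.rec (fun _ => Nat) (Ptab_s_153_156 c) (Ptab_s_156_160 c) (Nat.ble 156 c)
noncomputable def Ptab_s_160_162 (c : Nat) : Nat := @Bool.rec (fun _ => Nat) (Ptab_160) (Ptab_161) (Nat.ble 161 c)
noncomputable def Ptab_s_162_164 (c : Nat) : Nat := @Bool.rec (fun _ => Nat) (Ptab_162) (Ptab_163) (Nat.ble 163 c)
noncomputable def Ptab_s_160_164 (c : Nat) : Nat := @Bool.rec (fun _ => Nat) (Ptab_s_160_162 c) (Ptab_s_162_164 c) (Nat.ble 162 c)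
noncomputable def Ptab_s_164_166 (c : Nat) : Nat := @Bool.rec (fun _ => Nat) (Ptab_164) (Ptab_165) (Nat.ble 165 c)
noncomputable def Ptab_s_166_168 (c : Nat) : Nat := @Bool.rec (fun _ => Nat) (Ptab_166) (Ptab_167) (Nat.ble 167 c)
noncomputable def Ptab_s_164_168 (c : Nat) : Nat := @Bool.rec (fun _ => Nat) (Ptab_s_164_166 c) (Ptab_s_166_168 c) (Nat.ble 166 c)
noncomputable def Ptab_s_160_168 (c : Nat) : Nat := @Bool.rec (fun _ => Nat) (Ptab_s_160_164 c) (Ptab_s_164_168 c) (Nat.ble 164 c)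
noncomputable def Ptab_s_153_168 (c : Nat) : Nat := @Bool.rec (fun _ => Nat) (Ptab_s_153_160 c) (Ptab_s_160_168 c) (Nat.ble 160 c)
noncomputable def Ptab_s_168_170 (c : Nat) : Nat := @Bool.rec (fun _ => Nat) (Ptab_168) (Ptab_169) (Nat.ble 169 c)
noncomputable def Ptab_s_170_172 (c : Nat) : Nat := @Bool.rec (fun _ => Nat) (Ptab_170) (Ptab_171) (Nat.ble 171 c)
noncomputable def Ptab_s_168_172 (c : Nat) : Nat := @Bool.rec (fun _ => Nat) (Ptab_s_168_170 c) (Ptab_s_170_172 c) (Nat.ble 170 c)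
noncomputable def Ptab_s_172_174 (c : Nat) : Nat := @Bool.rec (fun _ => Nat) (Ptab_172) (Ptab_173) (Nat.ble 173 c)
noncomputable def Ptab_s_174_176 (c : Nat) : Nat := @Bool.rec (fun _ => Nat) (Ptab_174) (Ptab_175) (Nat.ble 175 c)
noncomputable def Ptab_s_172_176 (c : Nat) : Nat := @Bool.rec (fun _ => Nat) (Ptab_s_172_174 c) (Ptab_s_174_176 c) (Nat.ble 174 c)
noncomputable def Ptab_s_168_176 (c : Nat) : Nat := @Bool.rec (fun _ => Nat) (Ptab_s_168_172 c) (Ptab_s_172_176 c) (Nat.ble 172 c)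
noncomputable def Ptab_s_176_178 (c : Nat) : Nat := @Bool.rec (fun _ => Nat) (Ptab_176) (Ptab_177) (Nat.ble 177 c)
noncomputable def Ptab_s_178_180 (c : Nat) : Nat := @Bool.rec (fun _ => Nat) (Ptab_178) (Ptab_179) (Nat.ble 179 c)
noncomputable def Ptab_s_176_180 (c : Nat) : Nat := @Bool.rec (fun _ => Nat) (Ptab_s_176_178 c) (Ptab_s_178_180 c) (Nat.ble 178 c)
noncomputable def Ptab_s_180_182 (c : Nat) : Nat := @Bool.rec (fun _ => Nat) (Ptab_180) (Ptab_181) (Nat.ble 181 c)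
noncomputable def Ptab_s_182_184 (c : Nat) : Nat := @Bool.rec (fun _ => Nat) (Ptab_182) (Ptab_183) (Nat.ble 183 c)
noncomputable def Ptab_s_180_184 (c : Nat) : Nat := @Bool.rec (fun _ => Nat) (Ptab_s_180_182 c) (Ptab_s_182_184 c) (Nat.ble 182 c)
noncomputable def Ptab_s_176_184 (c : Nat) : Nat := @Bool.rec (fun _ => Nat) (Ptab_s_176_180 c) (Ptab_s_180_184 c) (Nat.ble 180 c)
noncomputable def Ptab_s_168_184 (c : Nat) : Nat := @Bool.rec (fun _ => Nat) (Ptab_s_168_176 c) (Ptab_s_176_184 c) (Nat.ble 176 c)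
noncomputable def Ptab_s_153_184 (c : Nat) : Nat := @Bool.rec (fun _ => Nat) (Ptab_s_153_168 c) (Ptab_s_168_184 c) (Nat.ble 168 c)
noncomputable def Ptab_s_123_184 (c : Nat) : Nat := @Bool.rec (fun _ => Nat) (Ptab_s_123_153 c) (Ptab_s_153_184 c) (Nat.ble 153 c)
noncomputable def Ptab_s_185_187 (c : Nat) : Nat := @Bool.rec (fun _ => Nat) (Ptab_185) (Ptab_186) (Nat.ble 186 c)
noncomputable def Ptab_s_184_187 (c : Nat) : Nat := @Bool.rec (fun _ => Nat) (Ptab_184) (Ptab_s_185_187 c) (Nat.ble 185 c)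
noncomputable def Ptab_s_187_189 (c : Nat) : Nat := @Bool.rec (fun _ => Nat) (Ptab_187) (Ptab_188) (Nat.ble 188 c)
noncomputable def Ptab_s_189_191 (c : Nat) : Nat := @Bool.rec (fun _ => Nat) (Ptab_189) (Ptab_190) (Nat.ble 190 c)
noncomputable def Ptab_s_187_191 (c : Nat) : Nat := @Bool.rec (fun _ => Nat) (Ptab_s_187_189 c) (Ptab_s_189_191 c) (Nat.ble 189 c)
noncomputable def Ptab_s_184_191 (c : Nat) : Nat := @Bool.rec (fun _ => Nat) (Ptab_s_184_187 c) (Ptab_s_187_191 c) (Nat.ble 187 c)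
noncomputable def Ptab_s_191_193 (c : Nat) : Nat := @Bool.rec (fun _ => Nat) (Ptab_191) (Ptab_192) (Nat.ble 192 c)
noncomputable def Ptab_s_193_195 (c : Nat) : Nat := @Bool.rec (fun _ => Nat) (Ptab_193) (Ptab_194) (Nat.ble 194 c)
noncomputable def Ptab_s_191_195 (c : Nat) : Nat := @Bool.rec (fun _ => Nat) (Ptab_s_191_193 c) (Ptab_s_193_195 c) (Nat.ble 193 c)
noncomputable def Ptab_s_195_197 (c : Nat) : Nat := @Bool.rec (fun _ => Nat) (Ptab_195) (Ptab_196) (Nat.ble 196 c)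
noncomputable def Ptab_s_197_199 (c : Nat) : Nat := @Bool.rec (fun _ => Nat) (Ptab_197) (Ptab_198) (Nat.ble 198 c)
noncomputable def Ptab_s_195_199 (c : Nat) : Nat := @Bool.rec (fun _ => Nat) (Ptab_s_195_197 c) (Ptab_s_197_199 c) (Nat.ble 197 c)
noncomputable def Ptab_s_191_199 (c : Nat) : Nat := @Bool.rec (fun _ => Nat) (Ptab_s_191_195 c) (Ptab_s_195_199 c) (Nat.ble 195 c)
noncomputable def Ptab_s_184_199 (c : Nat) : Nat := @Bool.rec (fun _ => Nat) (Ptab_s_184_191 c) (Ptab_s_191_199 c) (Nat.ble 191 c)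
noncomputable def Ptab_s_199_201 (c : Nat) : Nat := @Bool.rec (fun _ => Nat) (Ptab_199) (Ptab_200) (Nat.ble 200 c)
noncomputable def Ptab_s_201_203 (c : Nat) : Nat := @Bool.rec (fun _ => Nat) (Ptab_201) (Ptab_202) (Nat.ble 202 c)
noncomputable def Ptab_s_199_203 (c : Nat) : Nat := @Bool.rec (fun _ => Nat) (Ptab_s_199_201 c) (Ptab_s_201_203 c) (Nat.ble 201 c)
noncomputable def Ptab_s_203_205 (c : Nat) : Nat := @Bool.rec (fun _ => Nat) (Ptab_203) (Ptab_204) (Nat.ble 204 c)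
noncomputable def Ptab_s_205_207 (c : Nat) : Nat := @Bool.rec (fun _ => Nat) (Ptab_205) (Ptab_206) (Nat.ble 206 c)
noncomputable def Ptab_s_203_207 (c : Nat) : Nat := @Bool.rec (fun _ => Nat) (Ptab_s_203_205 c) (Ptab_s_205_207 c) (Nat.ble 205 c)
noncomputable def Ptab_s_199_207 (c : Nat) : Nat := @Bool.rec (fun _ => Nat) (Ptab_s_199_203 c) (Ptab_s_203_207 c) (Nat.ble 203 c)
noncomputable def Ptab_s_207_209 (c : Nat) : Nat := @Bool.rec (fun _ => Nat) (Ptab_207) (Ptab_208) (Nat.ble 208 c)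
noncomputable def Ptab_s_209_211 (c : Nat) : Nat := @Bool.rec (fun _ => Nat) (Ptab_209) (Ptab_210) (Nat.ble 210 c)
noncomputable def Ptab_s_207_211 (c : Nat) : Nat := @Bool.rec (fun _ => Nat) (Ptab_s_207_209 c) (Ptab_s_209_211 c) (Nat.ble 209 c)
noncomputable def Ptab_s_211_213 (c : Nat) : Nat := @Bool.rec (fun _ => Nat) (Ptab_211) (Ptab_212) (Nat.ble 212 c)
noncomputable def Ptab_s_213_215 (c : Nat) : Nat := @Bool.rec (fun _ => Nat) (Ptab_213) (Ptab_214) (Nat.ble 214 c)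
noncomputable def Ptab_s_211_215 (c : Nat) : Nat := @Bool.rec (fun _ => Nat) (Ptab_s_211_213 c) (Ptab_s_213_215 c) (Nat.ble 213 c)
noncomputable def Ptab_s_207_215 (c : Nat) : Nat := @Bool.rec (fun _ => Nat) (Ptab_s_207_211 c) (Ptab_s_211_215 c) (Nat.ble 211 c)
noncomputable def Ptab_s_199_215 (c : Nat) : Nat := @Bool.rec (fun _ => Nat) (Ptab_s_199_207 c) (Ptab_s_207_215 c) (Nat.ble 207 c)
noncomputable def Ptab_s_184_215 (c : Nat) : Nat := @Bool.rec (fun _ => Nat) (Ptab_s_184_199 c) (Ptab_s_199_215 c) (Nat.ble 199 c)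
noncomputable def Ptab_s_216_218 (c : Nat) : Nat := @Bool.rec (fun _ => Nat) (Ptab_216) (Ptab_217) (Nat.ble 217 c)
noncomputable def Ptab_s_215_218 (c : Nat) : Nat := @Bool.rec (fun _ => Nat) (Ptab_215) (Ptab_s_216_218 c) (Nat.ble 216 c)
noncomputable def Ptab_s_218_220 (c : Nat) : Nat := @Bool.rec (fun _ => Nat) (Ptab_218) (Ptab_219) (Nat.ble 219 c)
noncomputable def Ptab_s_220_222 (c : Nat) : Nat := @Bool.rec (fun _ => Nat) (Ptab_220) (Ptab_221) (Nat.ble 221 c)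
noncomputable def Ptab_s_218_222 (c : Nat) : Nat := @Bool.rec (fun _ => Nat) (Ptab_s_218_220 c) (Ptab_s_220_222 c) (Nat.ble 220 c)
noncomputable def Ptab_s_215_222 (c : Nat) : Nat := @Bool.rec (fun _ => Nat) (Ptab_s_215_218 c) (Ptab_s_218_222 c) (Nat.ble 218 c)
noncomputable def Ptab_s_222_224 (c : Nat) : Nat := @Bool.rec (fun _ => Nat) (Ptab_222) (Ptab_223) (Nat.ble 223 c)
noncomputable def Ptab_s_224_226 (c : Nat) : Nat := @Bool.rec (fun _ => Nat) (Ptab_224) (Ptab_225) (Nat.ble 225 c)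
noncomputable def Ptab_s_222_226 (c : Nat) : Nat := @Bool.rec (fun _ => Nat) (Ptab_s_222_224 c) (Ptab_s_224_226 c) (Nat.ble 224 c)
noncomputable def Ptab_s_226_228 (c : Nat) : Nat := @Bool.rec (fun _ => Nat) (Ptab_226) (Ptab_227) (Nat.ble 227 c)
noncomputable def Ptab_s_228_230 (c : Nat) : Nat := @Bool.rec (fun _ => Nat) (Ptab_228) (Ptab_229) (Nat.ble 229 c)
noncomputable def Ptab_s_226_230 (c : Nat) : Nat := @Bool.rec (fun _ => Nat) (Ptab_s_226_228 c) (Ptab_s_228_230 c) (Nat.ble 228 c)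
noncomputable def Ptab_s_222_230 (c : Nat) : Nat := @Bool.rec (fun _ => Nat) (Ptab_s_222_226 c) (Ptab_s_226_230 c) (Nat.ble 226 c)
noncomputable def Ptab_s_215_230 (c : Nat) : Nat := @Bool.rec (fun _ => Nat) (Ptab_s_215_222 c) (Ptab_s_222_230 c) (Nat.ble 222 c)
noncomputable def Ptab_s_230_232 (c : Nat) : Nat := @Bool.rec (fun _ => Nat) (Ptab_230) (Ptab_231) (Nat.ble 231 c)
noncomputable def Ptab_s_232_234 (c : Nat) : Nat := @Bool.rec (fun _ => Nat) (Ptab_232) (Ptab_233) (Nat.ble 233 c)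
noncomputable def Ptab_s_230_234 (c : Nat) : Nat := @Bool.rec (fun _ => Nat) (Ptab_s_230_232 c) (Ptab_s_232_234 c) (Nat.ble 232 c)
noncomputable def Ptab_s_234_236 (c : Nat) : Nat := @Bool.rec (fun _ => Nat) (Ptab_234) (Ptab_235) (Nat.ble 235 c)
noncomputable def Ptab_s_236_238 (c : Nat) : Nat := @Bool.rec (fun _ => Nat) (Ptab_236) (Ptab_237) (Nat.ble 237 c)
noncomputable def Ptab_s_234_238 (c : Nat) : Nat := @Bool.rec (fun _ => Nat) (Ptab_s_234_236 c) (Ptab_s_236_238 c) (Nat.ble 236 c)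
noncomputable def Ptab_s_230_238 (c : Nat) : Nat := @Bool.rec (fun _ => Nat) (Ptab_s_230_234 c) (Ptab_s_234_238 c) (Nat.ble 234 c)
noncomputable def Ptab_s_238_240 (c : Nat) : Nat := @Bool.rec (fun _ => Nat) (Ptab_238) (Ptab_239) (Nat.ble 239 c)
noncomputable def Ptab_s_240_242 (c : Nat) : Nat := @Bool.rec (fun _ => Nat) (Ptab_240) (Ptab_241) (Nat.ble 241 c)
noncomputable def Ptab_s_238_242 (c : Nat) : Nat := @Bool.rec (fun _ => Nat) (Ptab_s_238_240 c) (Ptab_s_240_242 c) (Nat.ble 240 c)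
noncomputable def Ptab_s_242_244 (c : Nat) : Nat := @Bool.rec (fun _ => Nat) (Ptab_242) (Ptab_243) (Nat.ble 243 c)
noncomputable def Ptab_s_244_246 (c : Nat) : Nat := @Bool.rec (fun _ => Nat) (Ptab_244) (Ptab_245) (Nat.ble 245 c)
noncomputable def Ptab_s_242_246 (c : Nat) : Nat := @Bool.rec (fun _ => Nat) (Ptab_s_242_244 c) (Ptab_s_244_246 c) (Nat.ble 244 c)
noncomputable def Ptab_s_238_246 (c : Nat) : Nat := @Bool.rec (fun _ => Nat) (Ptab_s_238_242 c) (Ptab_s_242_246 c) (Nat.ble 242 c)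
noncomputable def Ptab_s_230_246 (c : Nat) : Nat := @Bool.rec (fun _ => Nat) (Ptab_s_230_238 c) (Ptab_s_238_246 c) (Nat.ble 238 c)
noncomputable def Ptab_s_215_246 (c : Nat) : Nat := @Bool.rec (fun _ => Nat) (Ptab_s_215_230 c) (Ptab_s_230_246 c) (Nat.ble 230 c)
noncomputable def Ptab_s_184_246 (c : Nat) : Nat := @Bool.rec (fun _ => Nat) (Ptab_s_184_215 c) (Ptab_s_215_246 c) (Nat.ble 215 c)
noncomputable def Ptab_s_123_246 (c : Nat) : Nat := @Bool.rec (fun _ => Nat) (Ptab_s_123_184 c) (Ptab_s_184_246 c) (Nat.ble 184 c)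
noncomputable def Ptab_s_0_246 (c : Nat) : Nat := @Bool.rec (fun _ => Nat) (Ptab_s_0_123 c) (Ptab_s_123_246 c) (Nat.ble 123 c)
noncomputable def Ptab (i : Nat) : Nat := rdw 20 1048575 (Ptab_s_0_246 (Nat.shiftRight i 12)) (Nat.land i 4095)
noncomputable def RRtab (i : Nat) : Nat := rdw 6 63 RRtab_0 i
noncomputable def rBtab (i : Nat) : Nat := rdw 12 4095 rBtab_0 i
noncomputable def rLtab (i : Nat) : Nat := rdw 5 31 rLtab_0 i
noncomputable def nameTab (i : Nat) : Nat := rdw 17 131071 nameTab_0 i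
noncomputable def col0 (i : Nat) : Nat := rdw 11 2047 col0_0 i
noncomputable def col1 (i : Nat) : Nat := rdw 11 2047 col1_0 i
noncomputable def col2 (i : Nat) : Nat := rdw 11 2047 col2_0 i
noncomputable def col3 (i : Nat) : Nat := rdw 11 2047 col3_0 i
noncomputable def col4 (i : Nat) : Nat := rdw 11 2047 col4_0 i
noncomputable def col5 (i : Nat) : Nat := rdw 11 2047 col5_0 i
noncomputable def col6 (i : Nat) : Nat := rdw 11 2047 col6_0 i
noncomputable def col7 (i : Nat) : Nat := rdw 11 2047 col7_0 i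
noncomputable def col8 (i : Nat) : Nat := rdw 11 2047 col8_0 i
noncomputable def col9 (i : Nat) : Nat := rdw 11 2047 col9_0 i
noncomputable def col10 (i : Nat) : Nat := rdw 11 2047 col10_0 i
noncomputable def col11 (i : Nat) : Nat := rdw 11 2047 col11_0 i
noncomputable def col12 (i : Nat) : Nat := rdw 11 2047 col12_0 i
noncomputable def col13 (i : Nat) : Nat := rdw 11 2047 col13_0 i
noncomputable def col14 (i : Nat) : Nat := rdw 11 2047 col14_0 i
noncomputable def col15 (i : Nat) : Nat := rdw 11 2047 col15_0 i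
noncomputable def col16 (i : Nat) : Nat := rdw 11 2047 col16_0 i
noncomputable def col17 (i : Nat) : Nat := rdw 11 2047 col17_0 i
noncomputable def col18 (i : Nat) : Nat := rdw 11 2047 col18_0 i
noncomputable def col19 (i : Nat) : Nat := rdw 11 2047 col19_0 i
noncomputable def col20 (i : Nat) : Nat := rdw 11 2047 col20_0 i
noncomputable def col21 (i : Nat) : Nat := rdw 11 2047 col21_0 i
noncomputable def col22 (i : Nat) : Nat := rdw 11 2047 col22_0 i
noncomputable def col23 (i : Nat) : Nat := rdw 11 2047 col23_0 i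
noncomputable def col24 (i : Nat) : Nat := rdw 11 2047 col24_0 i
noncomputable def col25 (i : Nat) : Nat := rdw 11 2047 col25_0 i
noncomputable def col26 (i : Nat) : Nat := rdw 11 2047 col26_0 i
noncomputable def col27 (i : Nat) : Nat := rdw 11 2047 col27_0 i
noncomputable def col28 (i : Nat) : Nat := rdw 11 2047 col28_0 i
noncomputable def col29 (i : Nat) : Nat := rdw 11 2047 col29_0 i
noncomputable def col30 (i : Nat) : Nat := rdw 11 2047 col30_0 i
noncomputable def col31 (i : Nat) : Nat := rdw 11 2047 col31_0 i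
noncomputable def finTab_s_0_2 (c : Nat) : Nat := @Bool.rec (fun _ => Nat) (finTab_0) (finTab_1) (Nat.ble 1 c)
noncomputable def finTab_s_2_4 (c : Nat) : Nat := @Bool.rec (fun _ => Nat) (finTab_2) (finTab_3) (Nat.ble 3 c)
noncomputable def finTab_s_0_4 (c : Nat) : Nat := @Bool.rec (fun _ => Nat) (finTab_s_0_2 c) (finTab_s_2_4 c) (Nat.ble 2 c)
noncomputable def finTab_s_4_6 (c : Nat) : Nat := @Bool.rec (fun _ => Nat) (finTab_4) (finTab_5) (Nat.ble 5 c)
noncomputable def finTab_s_6_8 (c : Nat) : Nat := @Bool.rec (fun _ => Nat) (finTab_6) (finTab_7) (Nat.ble 7 c)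
noncomputable def finTab_s_4_8 (c : Nat) : Nat := @Bool.rec (fun _ => Nat) (finTab_s_4_6 c) (finTab_s_6_8 c) (Nat.ble 6 c)
noncomputable def finTab_s_0_8 (c : Nat) : Nat := @Bool.rec (fun _ => Nat) (finTab_s_0_4 c) (finTab_s_4_8 c) (Nat.ble 4 c)
noncomputable def finTab_s_8_10 (c : Nat) : Nat := @Bool.rec (fun _ => Nat) (finTab_8) (finTab_9) (Nat.ble 9 c)
noncomputable def finTab_s_10_12 (c : Nat) : Nat := @Bool.rec (fun _ => Nat) (finTab_10) (finTab_11) (Nat.ble 11 c)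
noncomputable def finTab_s_8_12 (c : Nat) : Nat := @Bool.rec (fun _ => Nat) (finTab_s_8_10 c) (finTab_s_10_12 c) (Nat.ble 10 c)
noncomputable def finTab_s_12_14 (c : Nat) : Nat := @Bool.rec (fun _ => Nat) (finTab_12) (finTab_13) (Nat.ble 13 c)
noncomputable def finTab_s_14_16 (c : Nat) : Nat := @Bool.rec (fun _ => Nat) (finTab_14) (finTab_15) (Nat.ble 15 c)
noncomputable def finTab_s_12_16 (c : Nat) : Nat := @Bool.rec (fun _ => Nat) (finTab_s_12_14 c) (finTab_s_14_16 c) (Nat.ble 14 c)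
noncomputable def finTab_s_8_16 (c : Nat) : Nat := @Bool.rec (fun _ => Nat) (finTab_s_8_12 c) (finTab_s_12_16 c) (Nat.ble 12 c)
noncomputable def finTab_s_0_16 (c : Nat) : Nat := @Bool.rec (fun _ => Nat) (finTab_s_0_8 c) (finTab_s_8_16 c) (Nat.ble 8 c)
noncomputable def finTab (i : Nat) : Nat := rdw 20 1048575 (finTab_s_0_16 (Nat.shiftRight i 12)) (Nat.land i 4095)
noncomputable def clsTab_s_0_2 (c : Nat) : Nat := @Bool.rec (fun _ => Nat) (clsTab_0) (clsTab_1) (Nat.ble 1 c)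
noncomputable def clsTab_s_2_4 (c : Nat) : Nat := @Bool.rec (fun _ => Nat) (clsTab_2) (clsTab_3) (Nat.ble 3 c)
noncomputable def clsTab_s_0_4 (c : Nat) : Nat := @Bool.rec (fun _ => Nat) (clsTab_s_0_2 c) (clsTab_s_2_4 c) (Nat.ble 2 c)
noncomputable def clsTab_s_4_6 (c : Nat) : Nat := @Bool.rec (fun _ => Nat) (clsTab_4) (clsTab_5) (Nat.ble 5 c)
noncomputable def clsTab_s_7_9 (c : Nat) : Nat := @Bool.rec (fun _ => Nat) (clsTab_7) (clsTab_8) (Nat.ble 8 c)
noncomputable def clsTab_s_6_9 (c : Nat) : Nat := @Bool.rec (fun _ => Nat) (clsTab_6) (clsTab_s_7_9 c) (Nat.ble 7 c)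
noncomputable def clsTab_s_4_9 (c : Nat) : Nat := @Bool.rec (fun _ => Nat) (clsTab_s_4_6 c) (clsTab_s_6_9 c) (Nat.ble 6 c)
noncomputable def clsTab_s_0_9 (c : Nat) : Nat := @Bool.rec (fun _ => Nat) (clsTab_s_0_4 c) (clsTab_s_4_9 c) (Nat.ble 4 c)
noncomputable def clsTab (i : Nat) : Nat := rdw 11 2047 (clsTab_s_0_9 (Nat.shiftRight i 13)) (Nat.land i 8191)
noncomputable def oparTab (i : Nat) : Nat := rdw 11 2047 oparTab_0 i
noncomputable def olabTab (i : Nat) : Nat := rdw 3 7 olabTab_0 i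
noncomputable def srcF (t : Nat) : Nat := Nat.land (Atab t) 131071
noncomputable def tgtF (t : Nat) : Nat := Nat.land (Nat.shiftRight (Atab t) 17) 131071
noncomputable def ltF (t : Nat) : Nat := Nat.shiftRight (Atab t) 34
noncomputable def rhoF (t : Nat) : Nat := Nat.land (Btab (Nat.sub t 65820)) 511
noncomputable def rotF (t : Nat) : Nat := Nat.land (Nat.shiftRight (Btab (Nat.sub t 65820)) 9) 31
noncomputable def lenF (t : Nat) : Nat := Nat.land (Nat.shiftRight (Btab (Nat.sub t 65820)) 14) 255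
noncomputable def offF (t : Nat) : Nat := Nat.shiftRight (Btab (Nat.sub t 65820)) 22
noncomputable def pfF (j : Nat) : Nat := Nat.shiftRight (Ptab j) 1
noncomputable def pdF (j : Nat) : Nat := Nat.land (Ptab j) 1
noncomputable def tblF (i x : Nat) : Nat := @Bool.rec (fun _ => Nat) (@Bool.rec (fun _ => Nat) (@Bool.rec (fun _ => Nat) (@Bool.rec (fun _ => Nat) (@Bool.rec (fun _ => Nat) (col0 i) (col1 i) (Nat.ble 1 x)) (@Bool.rec (fun _ => Nat) (col2 i) (col3 i) (Nat.ble 3 x)) (Nat.ble 2 x)) (@Bool.rec (fun _ => Nat) (@Bool.rec (fun _ => Nat) (col4 i) (col5 i) (Nat.ble 5 x)) (@Bool.rec (fun _ => Nat) (col6 i) (col7 i) (Nat.ble 7 x)) (Nat.ble 6 x)) (Nat.ble 4 x)) (@Bool.rec (fun _ => Nat) (@Bool.rec (fun _ => Nat) (@Bool.rec (fun _ => Nat) (col8 i) (col9 i) (Nat.ble 9 x)) (@Bool.rec (fun _ => Nat) (col10 i) (col11 i) (Nat.ble 11 x)) (Nat.ble 10 x)) (@Bool.rec (fun _ => Nat) (@Bool.rec (fun _ => Nat) (col12 i) (col13 i)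 (Nat.ble 13 x)) (@Bool.rec (fun _ => Nat) (col14 i) (col15 i) (Nat.ble 15 x)) (Nat.ble 14 x)) (Nat.ble 12 x)) (Nat.ble 8 x)) (@Bool.rec (fun _ => Nat) (@Bool.rec (fun _ => Nat) (@Bool.rec (fun _ => Nat) (@Bool.rec (fun _ => Nat) (col16 i) (col17 i) (Nat.ble 17 x)) (@Bool.rec (fun _ => Nat) (col18 i) (col19 i) (Nat.ble 19 x)) (Nat.ble 18 x)) (@Bool.rec (fun _ => Nat) (@Bool.rec (fun _ => Nat) (col20 i) (col21 i) (Nat.ble 21 x)) (@Bool.rec (fun _ => Nat) (col22 i) (col23 i) (Nat.ble 23 x)) (Nat.ble 22 x)) (Nat.ble 20 x)) (@Bool.rec (fun _ => Nat) (@Bool.rec (fun _ => Nat) (@Bool.rec (fun _ => Nat) (col24 i) (col25 i) (Nat.ble 25 x)) (@Bool.rec (fun _ => Nat) (col26 i) (col27 i) (Nat.ble 27 x)) (Nat.ble 26 x)) (@Bool.rec (fun _ => Nat) (@Bool.rec (fun _ => Nat) (col28 i) (col29 i) (Nat.ble 29 x)) (@Bool.rec (fun _ => Nat) (col30 i) (col31 i) (Nat.ble 31 x)) (Nat.ble 30 x)) (Nat.ble 28 x)) (Nat.ble 24 x)) (Nat.ble 16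 x)
noncomputable def finE (i x : Nat) : Nat := finTab (Nat.add (Nat.mul i 32) x)
noncomputable def finFF (i x : Nat) : Nat := Nat.shiftRight (finE i x) 1
noncomputable def finDF (i x : Nat) : Nat := Nat.land (finE i x) 1

noncomputable def D : Log :=
  { k := 32, inv := invE 32 PSC3U62p3.invR, nR := 270, rBase := rBtab, rLen := rLtab, RR := RRtab,
    M := 65812, nB := 8, F := 327879, src := srcF, lt := ltF, tgt := tgtF, rho := rhoF, rot := rotF,
    off := offF, len := lenF, pf := pfF, pd := pdF }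

noncomputable def T : Tab :=
  { N := 2016, nameOf := nameTab, tbl := tblF, finF := finFF, finD := finDF, cls := clsTab }

def subs : List (List Nat) := [
  [0],
  [2],
  [4],
  [6] ]

def rw0 : List Nat := [0, 0]
def rw1 : List Nat := [2, 2, 2, 2, 2]
def rw2 : List Nat := [4, 4, 4]
def rw3 : List Nat := [6, 6]
def rw4 : List Nat := [8, 8, 8, 8, 8, 8, 8]
def rw5 : List Nat := [11, 8, 7, 2]
def rw6 : List Nat := [13, 0, 2, 0, 2, 0, 2, 0, 10, 4, 10, 2, 0, 3, 0, 3, 0, 2, 2]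
def rw7 : List Nat := [15, 10, 10, 10]
def rw8 : List Nat := [17, 0, 2, 0, 2, 0, 2, 4, 6, 2, 0, 10, 2, 0, 3, 11, 0, 3]
def rw9 : List Nat := [19, 0, 2, 0, 2, 0, 2, 0, 3, 3, 0, 3, 4, 6, 2, 2, 6, 0, 3, 10, 6, 10, 5, 2, 6, 11, 3, 3]
def rw10 : List Nat := [21, 12, 12, 12]
def rw11 : List Nat := [23, 13, 1, 12, 0]
def rw12 : List Nat := [25, 13, 3, 12, 2]
def rw13 : List Nat := [27, 13, 5, 12, 4]
def rw14 : List Nat := [29, 13, 7, 12, 6]
def rw15 : List Nat := [31, 13, 11, 12, 10]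
def rw16 : List Nat := [14, 14, 14]
def rw17 : List Nat := [16, 16, 16]
def rw18 : List Nat := [18, 18, 18]
def rw19 : List Nat := [20, 20, 20]
def rw20 : List Nat := [22, 22, 22]
def rw21 : List Nat := [24, 24, 24]
def rw22 : List Nat := [26, 26, 26]
def rw23 : List Nat := [28, 28, 28]
def rw24 : List Nat := [30, 30, 30]
def rw25 : List Nat := [14, 0, 15, 1]
def rw26 : List Nat := [14, 2, 15, 3]
def rw27 : List Nat := [14, 4, 15, 5]
def rw28 : List Nat := [14, 6, 15, 7]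
def rw29 : List Nat := [14, 8, 15, 9]
def rw30 : List Nat := [14, 10, 15, 11]
def rw31 : List Nat := [14, 12, 15, 13]
def rw32 : List Nat := [16, 0, 17, 1]
def rw33 : List Nat := [16, 2, 17, 3]
def rw34 : List Nat := [16, 4, 17, 5]
def rw35 : List Nat := [16, 6, 17, 7]
def rw36 : List Nat := [16, 8, 17, 9]
def rw37 : List Nat := [16, 10, 17, 11]
def rw38 : List Nat := [16, 12, 17, 13]
def rw39 : List Nat := [18, 0, 19, 1]
def rw40 : List Nat := [18, 2, 19, 3]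
def rw41 : List Nat := [18, 4, 19, 5]
def rw42 : List Nat := [18, 6, 19, 7]
def rw43 : List Nat := [18, 8, 19, 9]
def rw44 : List Nat := [18, 10, 19, 11]
def rw45 : List Nat := [18, 12, 19, 13]
def rw46 : List Nat := [20, 0, 21, 1]
def rw47 : List Nat := [20, 2, 21, 3]
def rw48 : List Nat := [20, 4, 21, 5]
def rw49 : List Nat := [20, 6, 21, 7]
def rw50 : List Nat := [20, 8, 21, 9]
def rw51 : List Nat := [20, 10, 21, 11]
def rw52 : List Nat := [20, 12, 21, 13]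
def rw53 : List Nat := [22, 0, 23, 1]
def rw54 : List Nat := [22, 2, 23, 3]
def rw55 : List Nat := [22, 4, 23, 5]
def rw56 : List Nat := [22, 6, 23, 7]
def rw57 : List Nat := [22, 8, 23, 9]
def rw58 : List Nat := [22, 10, 23, 11]
def rw59 : List Nat := [22, 12, 23, 13]
def rw60 : List Nat := [24, 0, 25, 1]
def rw61 : List Nat := [24, 2, 25, 3]
def rw62 : List Nat := [24, 4, 25, 5]
def rw63 : List Nat := [24, 6, 25, 7]
def rw64 : List Nat := [24, 8, 25, 9]
def rw65 : List Nat := [24, 10, 25, 11]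
def rw66 : List Nat := [24, 12, 25, 13]
def rw67 : List Nat := [26, 0, 27, 1]
def rw68 : List Nat := [26, 2, 27, 3]
def rw69 : List Nat := [26, 4, 27, 5]
def rw70 : List Nat := [26, 6, 27, 7]
def rw71 : List Nat := [26, 8, 27, 9]
def rw72 : List Nat := [26, 10, 27, 11]
def rw73 : List Nat := [26, 12, 27, 13]
def rw74 : List Nat := [28, 0, 29, 1]
def rw75 : List Nat := [28, 2, 29, 3]
def rw76 : List Nat := [28, 4, 29, 5]
def rw77 : List Nat := [28, 6, 29, 7]
def rw78 : List Nat := [28, 8, 29, 9]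
def rw79 : List Nat := [28, 10, 29, 11]
def rw80 : List Nat := [28, 12, 29, 13]
def rw81 : List Nat := [30, 0, 31, 1]
def rw82 : List Nat := [30, 2, 31, 3]
def rw83 : List Nat := [30, 4, 31, 5]
def rw84 : List Nat := [30, 6, 31, 7]
def rw85 : List Nat := [30, 8, 31, 9]
def rw86 : List Nat := [30, 10, 31, 11]
def rw87 : List Nat := [30, 12, 31, 13]
def rw88 : List Nat := [0, 0]
def rw89 : List Nat := [2, 2, 2, 2, 2]
def rw90 : List Nat := [0, 2, 0, 2, 0, 2, 0, 2, 0, 2, 0, 2, 0, 2, 0, 2, 0, 2]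
def rw91 : List Nat := [1, 3, 0, 2, 1, 3, 0, 2, 1, 3, 0, 2]
def rw92 : List Nat := [1, 3, 1, 3, 0, 2, 0, 2, 1, 3, 1, 3, 0, 2, 0, 2]
def rw93 : List Nat := [4, 4, 4]
def rw94 : List Nat := [5, 1, 4, 0]
def rw95 : List Nat := [5, 3, 4, 2]
def rw96 : List Nat := [6, 6]
def rw97 : List Nat := [0, 6, 0, 6, 0, 6]
def rw98 : List Nat := [0, 2, 0, 2, 4, 6, 0, 2, 6]
def realLit : List (List Nat) := [rw0, rw1, rw2, rw3, rw4, rw5, rw6, rw7, rw8, rw9, rw10, rw11, rw12, rw13, rw14, rw15, rw16, rw17, rw18, rw19, rw20, rw21, rw22, rw23, rw24, rw25, rw26, rw27, rw28, rw29, rw30, rw31, rw32, rw33, rw34, rw35, rw36, rw37, rw38, rw39, rw40, rw41, rw42, rw43, rw44, rw45, rw46, rw47, rw48, rw49, rw50, rw51, rw52, rw53, rw54, rw55, rw56, rw57, rw58, rw59, rw60, rw61, rw62, rw63, rw64, rw65, rw66, rw67, rw68, rw69, rw70, rw71, rw72, rw73, rw74, rw75, rw76, rw77, rw78, rw79, rw80, rw81, rw82, rw83, rw84, rw85, rw86, rw87, rw88, rw89, rw90,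 rw91, rw92, rw93, rw94, rw95, rw96, rw97, rw98]
noncomputable def actR0 (i : Nat) : Nat := col1 (col1 (i))
theorem actR0_eq (i : Nat) : actR0 i = Tab.act T D rw0 i := rfl
noncomputable def actR1 (i : Nat) : Nat := col3 (col3 (col3 (col3 (col3 (i)))))
theorem actR1_eq (i : Nat) : actR1 i = Tab.act T D rw1 i := rfl
noncomputable def actR2 (i : Nat) : Nat := col5 (col5 (col5 (i)))
theorem actR2_eq (i : Nat) : actR2 i = Tab.act T D rw2 i := rfl
noncomputable def actR3 (i : Nat) : Nat := col7 (col7 (i))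
theorem actR3_eq (i : Nat) : actR3 i = Tab.act T D rw3 i := rfl
noncomputable def actR4 (i : Nat) : Nat := col9 (col9 (col9 (col9 (col9 (col9 (col9 (i)))))))
theorem actR4_eq (i : Nat) : actR4 i = Tab.act T D rw4 i := rfl
noncomputable def actR5 (i : Nat) : Nat := col10 (col9 (col6 (col3 (i))))
theorem actR5_eq (i : Nat) : actR5 i = Tab.act T D rw5 i := rfl
noncomputable def actR6 (i : Nat) : Nat := col12 (col1 (col3 (col1 (col3 (col1 (col3 (col1 (col11 (col5 (col11 (col3 (col1 (col2 (col1 (col2 (col1 (col3 (col3 (i)))))))))))))))))))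
theorem actR6_eq (i : Nat) : actR6 i = Tab.act T D rw6 i := rfl
noncomputable def actR7 (i : Nat) : Nat := col14 (col11 (col11 (col11 (i))))
theorem actR7_eq (i : Nat) : actR7 i = Tab.act T D rw7 i := rfl
noncomputable def actR8 (i : Nat) : Nat := col16 (col1 (col3 (col1 (col3 (col1 (col3 (col5 (col7 (col3 (col1 (col11 (col3 (col1 (col2 (col10 (col1 (col2 (i))))))))))))))))))
theorem actR8_eq (i : Nat) : actR8 i = Tab.act T D rw8 i := rfl
noncomputable def actR9 (i : Nat) : Nat := col18 (col1 (col3 (col1 (col3 (col1 (col3 (col1 (col2 (col2 (col1 (col2 (col5 (col7 (col3 (col3 (col7 (col1 (col2 (col11 (col7 (col11 (col4 (col3 (col7 (col10 (col2 (col2 (i))))))))))))))))))))))))))))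
theorem actR9_eq (i : Nat) : actR9 i = Tab.act T D rw9 i := rfl
noncomputable def actR10 (i : Nat) : Nat := col20 (col13 (col13 (col13 (i))))
theorem actR10_eq (i : Nat) : actR10 i = Tab.act T D rw10 i := rfl
noncomputable def actR11 (i : Nat) : Nat := col22 (col12 (col0 (col13 (col1 (i)))))
theorem actR11_eq (i : Nat) : actR11 i = Tab.act T D rw11 i := rfl
noncomputable def actR12 (i : Nat) : Nat := col24 (col12 (col2 (col13 (col3 (i)))))
theorem actR12_eq (i : Nat) : actR12 i = Tab.act T D rw12 i := rfl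
noncomputable def actR13 (i : Nat) : Nat := col26 (col12 (col4 (col13 (col5 (i)))))
theorem actR13_eq (i : Nat) : actR13 i = Tab.act T D rw13 i := rfl
noncomputable def actR14 (i : Nat) : Nat := col28 (col12 (col6 (col13 (col7 (i)))))
theorem actR14_eq (i : Nat) : actR14 i = Tab.act T D rw14 i := rfl
noncomputable def actR15 (i : Nat) : Nat := col30 (col12 (col10 (col13 (col11 (i)))))
theorem actR15_eq (i : Nat) : actR15 i = Tab.act T D rw15 i := rfl
noncomputable def actR16 (i : Nat) : Nat := col15 (col15 (col15 (i)))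
theorem actR16_eq (i : Nat) : actR16 i = Tab.act T D rw16 i := rfl
noncomputable def actR17 (i : Nat) : Nat := col17 (col17 (col17 (i)))
theorem actR17_eq (i : Nat) : actR17 i = Tab.act T D rw17 i := rfl
noncomputable def actR18 (i : Nat) : Nat := col19 (col19 (col19 (i)))
theorem actR18_eq (i : Nat) : actR18 i = Tab.act T D rw18 i := rfl
noncomputable def actR19 (i : Nat) : Nat := col21 (col21 (col21 (i)))
theorem actR19_eq (i : Nat) : actR19 i = Tab.act T D rw19 i := rfl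
noncomputable def actR20 (i : Nat) : Nat := col23 (col23 (col23 (i)))
theorem actR20_eq (i : Nat) : actR20 i = Tab.act T D rw20 i := rfl
noncomputable def actR21 (i : Nat) : Nat := col25 (col25 (col25 (i)))
theorem actR21_eq (i : Nat) : actR21 i = Tab.act T D rw21 i := rfl
noncomputable def actR22 (i : Nat) : Nat := col27 (col27 (col27 (i)))
theorem actR22_eq (i : Nat) : actR22 i = Tab.act T D rw22 i := rfl
noncomputable def actR23 (i : Nat) : Nat := col29 (col29 (col29 (i)))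
theorem actR23_eq (i : Nat) : actR23 i = Tab.act T D rw23 i := rfl
noncomputable def actR24 (i : Nat) : Nat := col31 (col31 (col31 (i)))
theorem actR24_eq (i : Nat) : actR24 i = Tab.act T D rw24 i := rfl
noncomputable def actR25 (i : Nat) : Nat := col15 (col1 (col14 (col0 (i))))
theorem actR25_eq (i : Nat) : actR25 i = Tab.act T D rw25 i := rfl
noncomputable def actR26 (i : Nat) : Nat := col15 (col3 (col14 (col2 (i))))
theorem actR26_eq (i : Nat) : actR26 i = Tab.act T D rw26 i := rfl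
noncomputable def actR27 (i : Nat) : Nat := col15 (col5 (col14 (col4 (i))))
theorem actR27_eq (i : Nat) : actR27 i = Tab.act T D rw27 i := rfl
noncomputable def actR28 (i : Nat) : Nat := col15 (col7 (col14 (col6 (i))))
theorem actR28_eq (i : Nat) : actR28 i = Tab.act T D rw28 i := rfl
noncomputable def actR29 (i : Nat) : Nat := col15 (col9 (col14 (col8 (i))))
theorem actR29_eq (i : Nat) : actR29 i = Tab.act T D rw29 i := rfl
noncomputable def actR30 (i : Nat) : Nat := col15 (col11 (col14 (col10 (i))))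
theorem actR30_eq (i : Nat) : actR30 i = Tab.act T D rw30 i := rfl
noncomputable def actR31 (i : Nat) : Nat := col15 (col13 (col14 (col12 (i))))
theorem actR31_eq (i : Nat) : actR31 i = Tab.act T D rw31 i := rfl
noncomputable def actR32 (i : Nat) : Nat := col17 (col1 (col16 (col0 (i))))
theorem actR32_eq (i : Nat) : actR32 i = Tab.act T D rw32 i := rfl
noncomputable def actR33 (i : Nat) : Nat := col17 (col3 (col16 (col2 (i))))
theorem actR33_eq (i : Nat) : actR33 i = Tab.act T D rw33 i := rfl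
noncomputable def actR34 (i : Nat) : Nat := col17 (col5 (col16 (col4 (i))))
theorem actR34_eq (i : Nat) : actR34 i = Tab.act T D rw34 i := rfl
noncomputable def actR35 (i : Nat) : Nat := col17 (col7 (col16 (col6 (i))))
theorem actR35_eq (i : Nat) : actR35 i = Tab.act T D rw35 i := rfl
noncomputable def actR36 (i : Nat) : Nat := col17 (col9 (col16 (col8 (i))))
theorem actR36_eq (i : Nat) : actR36 i = Tab.act T D rw36 i := rfl
noncomputable def actR37 (i : Nat) : Nat := col17 (col11 (col16 (col10 (i))))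
theorem actR37_eq (i : Nat) : actR37 i = Tab.act T D rw37 i := rfl
noncomputable def actR38 (i : Nat) : Nat := col17 (col13 (col16 (col12 (i))))
theorem actR38_eq (i : Nat) : actR38 i = Tab.act T D rw38 i := rfl
noncomputable def actR39 (i : Nat) : Nat := col19 (col1 (col18 (col0 (i))))
theorem actR39_eq (i : Nat) : actR39 i = Tab.act T D rw39 i := rfl
noncomputable def actR40 (i : Nat) : Nat := col19 (col3 (col18 (col2 (i))))
theorem actR40_eq (i : Nat) : actR40 i = Tab.act T D rw40 i := rfl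
noncomputable def actR41 (i : Nat) : Nat := col19 (col5 (col18 (col4 (i))))
theorem actR41_eq (i : Nat) : actR41 i = Tab.act T D rw41 i := rfl
noncomputable def actR42 (i : Nat) : Nat := col19 (col7 (col18 (col6 (i))))
theorem actR42_eq (i : Nat) : actR42 i = Tab.act T D rw42 i := rfl
noncomputable def actR43 (i : Nat) : Nat := col19 (col9 (col18 (col8 (i))))
theorem actR43_eq (i : Nat) : actR43 i = Tab.act T D rw43 i := rfl
noncomputable def actR44 (i : Nat) : Nat := col19 (col11 (col18 (col10 (i))))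
theorem actR44_eq (i : Nat) : actR44 i = Tab.act T D rw44 i := rfl
noncomputable def actR45 (i : Nat) : Nat := col19 (col13 (col18 (col12 (i))))
theorem actR45_eq (i : Nat) : actR45 i = Tab.act T D rw45 i := rfl
noncomputable def actR46 (i : Nat) : Nat := col21 (col1 (col20 (col0 (i))))
theorem actR46_eq (i : Nat) : actR46 i = Tab.act T D rw46 i := rfl
noncomputable def actR47 (i : Nat) : Nat := col21 (col3 (col20 (col2 (i))))
theorem actR47_eq (i : Nat) : actR47 i = Tab.act T D rw47 i := rfl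
noncomputable def actR48 (i : Nat) : Nat := col21 (col5 (col20 (col4 (i))))
theorem actR48_eq (i : Nat) : actR48 i = Tab.act T D rw48 i := rfl
noncomputable def actR49 (i : Nat) : Nat := col21 (col7 (col20 (col6 (i))))
theorem actR49_eq (i : Nat) : actR49 i = Tab.act T D rw49 i := rfl
noncomputable def actR50 (i : Nat) : Nat := col21 (col9 (col20 (col8 (i))))
theorem actR50_eq (i : Nat) : actR50 i = Tab.act T D rw50 i := rfl
noncomputable def actR51 (i : Nat) : Nat := col21 (col11 (col20 (col10 (i))))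
theorem actR51_eq (i : Nat) : actR51 i = Tab.act T D rw51 i := rfl
noncomputable def actR52 (i : Nat) : Nat := col21 (col13 (col20 (col12 (i))))
theorem actR52_eq (i : Nat) : actR52 i = Tab.act T D rw52 i := rfl
noncomputable def actR53 (i : Nat) : Nat := col23 (col1 (col22 (col0 (i))))
theorem actR53_eq (i : Nat) : actR53 i = Tab.act T D rw53 i := rfl
noncomputable def actR54 (i : Nat) : Nat := col23 (col3 (col22 (col2 (i))))
theorem actR54_eq (i : Nat) : actR54 i = Tab.act T D rw54 i := rfl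
noncomputable def actR55 (i : Nat) : Nat := col23 (col5 (col22 (col4 (i))))
theorem actR55_eq (i : Nat) : actR55 i = Tab.act T D rw55 i := rfl
noncomputable def actR56 (i : Nat) : Nat := col23 (col7 (col22 (col6 (i))))
theorem actR56_eq (i : Nat) : actR56 i = Tab.act T D rw56 i := rfl
noncomputable def actR57 (i : Nat) : Nat := col23 (col9 (col22 (col8 (i))))
theorem actR57_eq (i : Nat) : actR57 i = Tab.act T D rw57 i := rfl
noncomputable def actR58 (i : Nat) : Nat := col23 (col11 (col22 (col10 (i))))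
theorem actR58_eq (i : Nat) : actR58 i = Tab.act T D rw58 i := rfl
noncomputable def actR59 (i : Nat) : Nat := col23 (col13 (col22 (col12 (i))))
theorem actR59_eq (i : Nat) : actR59 i = Tab.act T D rw59 i := rfl
noncomputable def actR60 (i : Nat) : Nat := col25 (col1 (col24 (col0 (i))))
theorem actR60_eq (i : Nat) : actR60 i = Tab.act T D rw60 i := rfl
noncomputable def actR61 (i : Nat) : Nat := col25 (col3 (col24 (col2 (i))))
theorem actR61_eq (i : Nat) : actR61 i = Tab.act T D rw61 i := rfl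
noncomputable def actR62 (i : Nat) : Nat := col25 (col5 (col24 (col4 (i))))
theorem actR62_eq (i : Nat) : actR62 i = Tab.act T D rw62 i := rfl
noncomputable def actR63 (i : Nat) : Nat := col25 (col7 (col24 (col6 (i))))
theorem actR63_eq (i : Nat) : actR63 i = Tab.act T D rw63 i := rfl
noncomputable def actR64 (i : Nat) : Nat := col25 (col9 (col24 (col8 (i))))
theorem actR64_eq (i : Nat) : actR64 i = Tab.act T D rw64 i := rfl
noncomputable def actR65 (i : Nat) : Nat := col25 (col11 (col24 (col10 (i))))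
theorem actR65_eq (i : Nat) : actR65 i = Tab.act T D rw65 i := rfl
noncomputable def actR66 (i : Nat) : Nat := col25 (col13 (col24 (col12 (i))))
theorem actR66_eq (i : Nat) : actR66 i = Tab.act T D rw66 i := rfl
noncomputable def actR67 (i : Nat) : Nat := col27 (col1 (col26 (col0 (i))))
theorem actR67_eq (i : Nat) : actR67 i = Tab.act T D rw67 i := rfl
noncomputable def actR68 (i : Nat) : Nat := col27 (col3 (col26 (col2 (i))))
theorem actR68_eq (i : Nat) : actR68 i = Tab.act T D rw68 i := rfl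
noncomputable def actR69 (i : Nat) : Nat := col27 (col5 (col26 (col4 (i))))
theorem actR69_eq (i : Nat) : actR69 i = Tab.act T D rw69 i := rfl
noncomputable def actR70 (i : Nat) : Nat := col27 (col7 (col26 (col6 (i))))
theorem actR70_eq (i : Nat) : actR70 i = Tab.act T D rw70 i := rfl
noncomputable def actR71 (i : Nat) : Nat := col27 (col9 (col26 (col8 (i))))
theorem actR71_eq (i : Nat) : actR71 i = Tab.act T D rw71 i := rfl
noncomputable def actR72 (i : Nat) : Nat := col27 (col11 (col26 (col10 (i))))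
theorem actR72_eq (i : Nat) : actR72 i = Tab.act T D rw72 i := rfl
noncomputable def actR73 (i : Nat) : Nat := col27 (col13 (col26 (col12 (i))))
theorem actR73_eq (i : Nat) : actR73 i = Tab.act T D rw73 i := rfl
noncomputable def actR74 (i : Nat) : Nat := col29 (col1 (col28 (col0 (i))))
theorem actR74_eq (i : Nat) : actR74 i = Tab.act T D rw74 i := rfl
noncomputable def actR75 (i : Nat) : Nat := col29 (col3 (col28 (col2 (i))))
theorem actR75_eq (i : Nat) : actR75 i = Tab.act T D rw75 i := rfl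
noncomputable def actR76 (i : Nat) : Nat := col29 (col5 (col28 (col4 (i))))
theorem actR76_eq (i : Nat) : actR76 i = Tab.act T D rw76 i := rfl
noncomputable def actR77 (i : Nat) : Nat := col29 (col7 (col28 (col6 (i))))
theorem actR77_eq (i : Nat) : actR77 i = Tab.act T D rw77 i := rfl
noncomputable def actR78 (i : Nat) : Nat := col29 (col9 (col28 (col8 (i))))
theorem actR78_eq (i : Nat) : actR78 i = Tab.act T D rw78 i := rfl
noncomputable def actR79 (i : Nat) : Nat := col29 (col11 (col28 (col10 (i))))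
theorem actR79_eq (i : Nat) : actR79 i = Tab.act T D rw79 i := rfl
noncomputable def actR80 (i : Nat) : Nat := col29 (col13 (col28 (col12 (i))))
theorem actR80_eq (i : Nat) : actR80 i = Tab.act T D rw80 i := rfl
noncomputable def actR81 (i : Nat) : Nat := col31 (col1 (col30 (col0 (i))))
theorem actR81_eq (i : Nat) : actR81 i = Tab.act T D rw81 i := rfl
noncomputable def actR82 (i : Nat) : Nat := col31 (col3 (col30 (col2 (i))))
theorem actR82_eq (i : Nat) : actR82 i = Tab.act T D rw82 i := rfl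
noncomputable def actR83 (i : Nat) : Nat := col31 (col5 (col30 (col4 (i))))
theorem actR83_eq (i : Nat) : actR83 i = Tab.act T D rw83 i := rfl
noncomputable def actR84 (i : Nat) : Nat := col31 (col7 (col30 (col6 (i))))
theorem actR84_eq (i : Nat) : actR84 i = Tab.act T D rw84 i := rfl
noncomputable def actR85 (i : Nat) : Nat := col31 (col9 (col30 (col8 (i))))
theorem actR85_eq (i : Nat) : actR85 i = Tab.act T D rw85 i := rfl
noncomputable def actR86 (i : Nat) : Nat := col31 (col11 (col30 (col10 (i))))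
theorem actR86_eq (i : Nat) : actR86 i = Tab.act T D rw86 i := rfl
noncomputable def actR87 (i : Nat) : Nat := col31 (col13 (col30 (col12 (i))))
theorem actR87_eq (i : Nat) : actR87 i = Tab.act T D rw87 i := rfl
noncomputable def actR88 (i : Nat) : Nat := col1 (col1 (i))
theorem actR88_eq (i : Nat) : actR88 i = Tab.act T D rw88 i := rfl
noncomputable def actR89 (i : Nat) : Nat := col3 (col3 (col3 (col3 (col3 (i)))))
theorem actR89_eq (i : Nat) : actR89 i = Tab.act T D rw89 i := rfl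
noncomputable def actR90 (i : Nat) : Nat := col1 (col3 (col1 (col3 (col1 (col3 (col1 (col3 (col1 (col3 (col1 (col3 (col1 (col3 (col1 (col3 (col1 (col3 (i))))))))))))))))))
theorem actR90_eq (i : Nat) : actR90 i = Tab.act T D rw90 i := rfl
noncomputable def actR91 (i : Nat) : Nat := col0 (col2 (col1 (col3 (col0 (col2 (col1 (col3 (col0 (col2 (col1 (col3 (i))))))))))))
theorem actR91_eq (i : Nat) : actR91 i = Tab.act T D rw91 i := rfl
noncomputable def actR92 (i : Nat) : Nat := col0 (col2 (col0 (col2 (col1 (col3 (col1 (col3 (col0 (col2 (col0 (col2 (col1 (col3 (col1 (col3 (i))))))))))))))))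
theorem actR92_eq (i : Nat) : actR92 i = Tab.act T D rw92 i := rfl
noncomputable def actR93 (i : Nat) : Nat := col5 (col5 (col5 (i)))
theorem actR93_eq (i : Nat) : actR93 i = Tab.act T D rw93 i := rfl
noncomputable def actR94 (i : Nat) : Nat := col4 (col0 (col5 (col1 (i))))
theorem actR94_eq (i : Nat) : actR94 i = Tab.act T D rw94 i := rfl
noncomputable def actR95 (i : Nat) : Nat := col4 (col2 (col5 (col3 (i))))
theorem actR95_eq (i : Nat) : actR95 i = Tab.act T D rw95 i := rfl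
noncomputable def actR96 (i : Nat) : Nat := col7 (col7 (i))
theorem actR96_eq (i : Nat) : actR96 i = Tab.act T D rw96 i := rfl
noncomputable def actR97 (i : Nat) : Nat := col1 (col7 (col1 (col7 (col1 (col7 (i))))))
theorem actR97_eq (i : Nat) : actR97 i = Tab.act T D rw97 i := rfl
noncomputable def actR98 (i : Nat) : Nat := col1 (col3 (col1 (col3 (col5 (col7 (col1 (col3 (col7 (i)))))))))
theorem actR98_eq (i : Nat) : actR98 i = Tab.act T D rw98 i := rfl

end Cfsg.Agent.Lib.Helper4.TCD.SC3U62p3A
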