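import Cfsg.Agent.Lib.Helper4.TCD_SC3U62p3A_Acc

namespace Cfsg.Agent.Lib.Helper4.TCD.SC3U62p3A

open Cfsg.Agent.Lib.Helper4.TC

set_option maxRecDepth 100000
set_option Elab.async false

theorem c_zero : D.zeroOK = true := by decide +kernel
theorem c_base : allBelow D.baseOK 8 = true := by decide +kernel
theorem c_let : allBelow D.letOK 32 = true := by decide +kernel
theorem c_cls0 : T.cls 0 = 0 := by decide +kernel
theorem c_name0 : T.nameOf 0 = 0 := by decide +kernel
theorem c_tab : D.relTabOK 0 (baseRels 32 PSC3U62p3.invR PSC3U62p3.P.real subs ++ (baseRels 32 PSC3U62p3.invR PSC3U62p3.P.real subs).map (invWord D.inv)) = true := by decide +kernel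
theorem c_real : PSC3U62p3.P.real = realLit := by decide +kernel
theorem c_subfix : subs.all (fun u => Nat.beq (Tab.act T D u 0) 0) = true := by decide +kernel
theorem c_subs : subs.all (fun u => u.all (fun x => Nat.ble (Nat.succ x) 32)) = true := by decide +kernel
theorem c_names_0 : allRange D.nameOK 1 60000 = true := by decide +kernel
theorem c_names_1 : allRange D.nameOK 60001 5811 = true := by decide +kernel
theorem c_cls_0 : allRange (T.clsOK D) 1 15000 = true := by decide +kernel
theorem c_cls_1 : allRange (T.clsOK D) 15001 15000 = true := by decide +kernel
theorem c_cls_2 : allRange (T.clsOK D) 30001 15000 = true := by decide +kernel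
theorem c_cls_3 : allRange (T.clsOK D) 45001 15000 = true := by decide +kernel
theorem c_cls_4 : allRange (T.clsOK D) 60001 5811 = true := by decide +kernel
theorem c_rep_0 : allRange (T.repOK D) 0 2016 = true := by decide +kernel
theorem c_rel_0 : allRange D.relOK 65820 3711 = true := by decide +kernel
theorem c_rel_1 : allRange D.relOK 69531 3634 = true := by decide +kernel
theorem c_rel_2 : allRange D.relOK 73165 3651 = true := by decide +kernel
theorem c_rel_3 : allRange D.relOK 76816 3656 = true := by decide +kernel
theorem c_rel_4 : allRange D.relOK 80472 3638 = true := by decide +kernel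
theorem c_rel_5 : allRange D.relOK 84110 3629 = true := by decide +kernel
theorem c_rel_6 : allRange D.relOK 87739 3635 = true := by decide +kernel
theorem c_rel_7 : allRange D.relOK 91374 3564 = true := by decide +kernel
theorem c_rel_8 : allRange D.relOK 94938 3564 = true := by decide +kernel
theorem c_rel_9 : allRange D.relOK 98502 3621 = true := by decide +kernel
theorem c_rel_10 : allRange D.relOK 102123 3566 = true := by decide +kernel
theorem c_rel_11 : allRange D.relOK 105689 3516 = true := by decide +kernel
theorem c_rel_12 : allRange D.relOK 109205 3382 = true := by decide +kernel
theorem c_rel_13 : allRange D.relOK 112587 3519 = true := by decide +kernel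
theorem c_rel_14 : allRange D.relOK 116106 3529 = true := by decide +kernel
theorem c_rel_15 : allRange D.relOK 119635 3441 = true := by decide +kernel
theorem c_rel_16 : allRange D.relOK 123076 3484 = true := by decide +kernel
theorem c_rel_17 : allRange D.relOK 126560 3347 = true := by decide +kernel
theorem c_rel_18 : allRange D.relOK 129907 3516 = true := by decide +kernel
theorem c_rel_19 : allRange D.relOK 133423 3430 = true := by decide +kernel
theorem c_rel_20 : allRange D.relOK 136853 3380 = true := by decide +kernel
theorem c_rel_21 : allRange D.relOK 140233 3332 = true := by decide +kernel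
theorem c_rel_22 : allRange D.relOK 143565 3312 = true := by decide +kernel
theorem c_rel_23 : allRange D.relOK 146877 3302 = true := by decide +kernel
theorem c_rel_24 : allRange D.relOK 150179 3388 = true := by decide +kernel
theorem c_rel_25 : allRange D.relOK 153567 3341 = true := by decide +kernel
theorem c_rel_26 : allRange D.relOK 156908 3196 = true := by decide +kernel
theorem c_rel_27 : allRange D.relOK 160104 3479 = true := by decide +kernel
theorem c_rel_28 : allRange D.relOK 163583 3182 = true := by decide +kernel
theorem c_rel_29 : allRange D.relOK 166765 3418 = true := by decide +kernel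
theorem c_rel_30 : allRange D.relOK 170183 3436 = true := by decide +kernel
theorem c_rel_31 : allRange D.relOK 173619 3379 = true := by decide +kernel
theorem c_rel_32 : allRange D.relOK 176998 3330 = true := by decide +kernel
theorem c_rel_33 : allRange D.relOK 180328 3780 = true := by decide +kernel
theorem c_rel_34 : allRange D.relOK 184108 3662 = true := by decide +kernel
theorem c_rel_35 : allRange D.relOK 187770 2981 = true := by decide +kernel
theorem c_rel_36 : allRange D.relOK 190751 2654 = true := by decide +kernel
theorem c_rel_37 : allRange D.relOK 193405 2879 = true := by decide +kernel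
theorem c_rel_38 : allRange D.relOK 196284 2974 = true := by decide +kernel
theorem c_rel_39 : allRange D.relOK 199258 3015 = true := by decide +kernel
theorem c_rel_40 : allRange D.relOK 202273 2821 = true := by decide +kernel
theorem c_rel_41 : allRange D.relOK 205094 3222 = true := by decide +kernel
theorem c_rel_42 : allRange D.relOK 208316 3024 = true := by decide +kernel
theorem c_rel_43 : allRange D.relOK 211340 3067 = true := by decide +kernel
theorem c_rel_44 : allRange D.relOK 214407 2960 = true := by decide +kernel
theorem c_rel_45 : allRange D.relOK 217367 3264 = true := by decide +kernel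
theorem c_rel_46 : allRange D.relOK 220631 3162 = true := by decide +kernel
theorem c_rel_47 : allRange D.relOK 223793 3393 = true := by decide +kernel
theorem c_rel_48 : allRange D.relOK 227186 3106 = true := by decide +kernel
theorem c_rel_49 : allRange D.relOK 230292 2917 = true := by decide +kernel
theorem c_rel_50 : allRange D.relOK 233209 2965 = true := by decide +kernel
theorem c_rel_51 : allRange D.relOK 236174 3124 = true := by decide +kernel
theorem c_rel_52 : allRange D.relOK 239298 2958 = true := by decide +kernel
theorem c_rel_53 : allRange D.relOK 242256 2925 = true := by decide +kernel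
theorem c_rel_54 : allRange D.relOK 245181 3337 = true := by decide +kernel
theorem c_rel_55 : allRange D.relOK 248518 3476 = true := by decide +kernel
theorem c_rel_56 : allRange D.relOK 251994 3372 = true := by decide +kernel
theorem c_rel_57 : allRange D.relOK 255366 2981 = true := by decide +kernel
theorem c_rel_58 : allRange D.relOK 258347 2765 = true := by decide +kernel
theorem c_rel_59 : allRange D.relOK 261112 2809 = true := by decide +kernel
theorem c_rel_60 : allRange D.relOK 263921 2007 = true := by decide +kernel
theorem c_rel_61 : allRange D.relOK 265928 1965 = true := by decide +kernel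
theorem c_rel_62 : allRange D.relOK 267893 2655 = true := by decide +kernel
theorem c_rel_63 : allRange D.relOK 270548 2455 = true := by decide +kernel
theorem c_rel_64 : allRange D.relOK 273003 1575 = true := by decide +kernel
theorem c_rel_65 : allRange D.relOK 274578 2899 = true := by decide +kernel
theorem c_rel_66 : allRange D.relOK 277477 2241 = true := by decide +kernel
theorem c_rel_67 : allRange D.relOK 279718 2188 = true := by decide +kernel
theorem c_rel_68 : allRange D.relOK 281906 2311 = true := by decide +kernel
theorem c_rel_69 : allRange D.relOK 284217 2516 = true := by decide +kernel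
theorem c_rel_70 : allRange D.relOK 286733 2447 = true := by decide +kernel
theorem c_rel_71 : allRange D.relOK 289180 2342 = true := by decide +kernel
theorem c_rel_72 : allRange D.relOK 291522 780 = true := by decide +kernel
theorem c_rel_73 : allRange D.relOK 292302 2377 = true := by decide +kernel
theorem c_rel_74 : allRange D.relOK 294679 3460 = true := by decide +kernel
theorem c_rel_75 : allRange D.relOK 298139 3349 = true := by decide +kernel
theorem c_rel_76 : allRange D.relOK 301488 3286 = true := by decide +kernel
theorem c_rel_77 : allRange D.relOK 304774 3019 = true := by decide +kernel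
theorem c_rel_78 : allRange D.relOK 307793 3309 = true := by decide +kernel
theorem c_rel_79 : allRange D.relOK 311102 3141 = true := by decide +kernel
theorem c_rel_80 : allRange D.relOK 314243 3044 = true := by decide +kernel
theorem c_rel_81 : allRange D.relOK 317287 3086 = true := by decide +kernel
theorem c_rel_82 : allRange D.relOK 320373 3078 = true := by decide +kernel
theorem c_rel_83 : allRange D.relOK 323451 2986 = true := by decide +kernel
theorem c_rel_84 : allRange D.relOK 326437 1442 = true := by decide +kernel
theorem c_fin_0 : allGrid (T.finOK D) 0 375 32 = true := by decide +kernel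
theorem c_fin_1 : allGrid (T.finOK D) 375 375 32 = true := by decide +kernel

end Cfsg.Agent.Lib.Helper4.TCD.SC3U62p3A
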