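import Cfsg.Agent.Lib.Helper4.TCD_C48L34R_Acc
import Cfsg.Agent.Lib.Helper4.TC13

namespace Cfsg.Agent.Lib.Helper4.TCD.SC48L34p2W

open Cfsg.Agent.Lib.Helper4.TC Cfsg.Agent.Lib.Helper4.TCD.C48L34R

set_option maxRecDepth 100000
set_option Elab.async false

def chk18 : List Nat := [7, 1, 6, 0]
noncomputable def act18 (i : Nat) : Nat := col6 (col0 (col7 (col1 (i))))
theorem act18_eq (i : Nat) : act18 i = Tab.act T D chk18 i := rfl
theorem c18_0 : allRange (fun i => Nat.beq (act18 i) i) 0 10000 = true := by decide +kernel
theorem c18_1 : allRange (fun i => Nat.beq (act18 i) i) 10000 10000 = true := by decide +kernel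
theorem c18_2 : allRange (fun i => Nat.beq (act18 i) i) 20000 10000 = true := by decide +kernel
theorem c18_3 : allRange (fun i => Nat.beq (act18 i) i) 30000 10000 = true := by decide +kernel
theorem c18_4 : allRange (fun i => Nat.beq (act18 i) i) 40000 6080 = true := by decide +kernel
theorem h18 : ∀ i, i < T.N → Tab.relActOK T D chk18 i = true := by
  intro i hi
  rw [Tab.relActOK, ← act18_eq]
  exact (range_glue (range_of_allRange c18_0) (range_glue (range_of_allRange c18_1) (range_glue (range_of_allRange c18_2) (range_glue (range_of_allRange c18_3) (range_of_allRange c18_4))))) i (Nat.zero_le _) hi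

def chk28 : List Nat := [0, 4, 4, 4, 4, 4, 7, 2, 0, 2, 0, 3, 0, 2, 5, 5, 5, 5, 5, 6, 6, 2, 0, 2, 0, 3, 0, 2, 5, 5, 5, 5, 5, 6, 6, 0, 4, 4, 4, 4, 4, 7, 2, 0, 2, 0, 3, 0, 2, 5, 5, 5, 5, 5, 6, 6, 2, 0, 2, 0, 3, 0, 2, 5, 5, 5, 5, 5, 6, 6, 0, 4, 4, 4, 4, 4, 7, 2, 0, 2, 0, 3, 0, 2, 5, 5, 5, 5, 5, 6, 6, 2, 0, 2, 0, 3, 0, 2, 5, 5, 5, 5, 5, 6, 6, 0, 4, 4, 4, 4, 4, 7, 2, 0, 2, 0, 3, 0, 2, 5, 5, 5, 5, 5, 6, 6, 2, 0, 2, 0, 3, 0, 2, 5, 5, 5, 5, 5, 6, 6, 0, 4, 4, 4, 4, 4, 7, 2, 0, 2, 0, 3, 0, 2, 5, 5, 5, 5, 5, 6, 6, 2, 0, 2, 0, 3, 0, 2, 5, 5, 5, 5, 5, 6, 6]
noncomputable def act28 (i : Nat) : Nat := col1 (col5 (col5 (col5 (col5 (col5 (col6 (col3 (col1 (col3 (col1 (col2 (col1 (col3 (col4 (col4 (col4 (col4 (col4 (col7 (col7 (col3 (col1 (col3 (col1 (col2 (col1 (col3 (col4 (col4 (col4 (col4 (col4 (col7 (col7 (col1 (col5 (col5 (col5 (col5 (col5 (col6 (col3 (col1 (col3 (col1 (col2 (col1 (col3 (col4 (col4 (col4 (col4 (col4 (col7 (col7 (col3 (col1 (col3 (col1 (col2 (col1 (col3 (col4 (col4 (col4 (col4 (col4 (col7 (col7 (col1 (col5 (col5 (col5 (col5 (col5 (col6 (col3 (col1 (col3 (col1 (col2 (col1 (col3 (col4 (col4 (col4 (col4 (col4 (col7 (col7 (col3 (col1 (col3 (col1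 (col2 (col1 (col3 (col4 (col4 (col4 (col4 (col4 (col7 (col7 (col1 (col5 (col5 (col5 (col5 (col5 (col6 (col3 (col1 (col3 (col1 (col2 (col1 (col3 (col4 (col4 (col4 (col4 (col4 (col7 (col7 (col3 (col1 (col3 (col1 (col2 (col1 (col3 (col4 (col4 (col4 (col4 (col4 (col7 (col7 (col1 (col5 (col5 (col5 (col5 (col5 (col6 (col3 (col1 (col3 (col1 (col2 (col1 (col3 (col4 (col4 (col4 (col4 (col4 (col7 (col7 (col3 (col1 (col3 (col1 (col2 (col1 (col3 (col4 (col4 (col4 (col4 (col4 (col7 (col7 (i)))))))))))))))))))))))))))))))))))))))))))))))))))))))))))))))))))))))))))))))))))))))))))))))))))))))))))))))))))))))))))))))))))))))))))))))))))))))))))))))))))))))))))))))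
theorem act28_eq (i : Nat) : act28 i = Tab.act T D chk28 i := rfl
theorem c28_0 : allRange (fun i => Nat.beq (act28 i) i) 0 338 = true := by decide +kernel
theorem c28_1 : allRange (fun i => Nat.beq (act28 i) i) 338 338 = true := by decide +kernel
theorem c28_2 : allRange (fun i => Nat.beq (act28 i) i) 676 338 = true := by decide +kernel
theorem c28_3 : allRange (fun i => Nat.beq (act28 i) i) 1014 338 = true := by decide +kernel
theorem c28_4 : allRange (fun i => Nat.beq (act28 i) i) 1352 338 = true := by decide +kernel
theorem c28_5 : allRange (fun i => Nat.beq (act28 i) i) 1690 338 = true := by decide +kernel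
theorem c28_6 : allRange (fun i => Nat.beq (act28 i) i) 2028 338 = true := by decide +kernel
theorem c28_7 : allRange (fun i => Nat.beq (act28 i) i) 2366 338 = true := by decide +kernel
theorem c28_8 : allRange (fun i => Nat.beq (act28 i) i) 2704 338 = true := by decide +kernel
theorem c28_9 : allRange (fun i => Nat.beq (act28 i) i) 3042 338 = true := by decide +kernel
theorem c28_10 : allRange (fun i => Nat.beq (act28 i) i) 3380 338 = true := by decide +kernel
theorem c28_11 : allRange (fun i => Nat.beq (act28 i) i) 3718 338 = true := by decide +kernel
theorem c28_12 : allRange (fun i => Nat.beq (act28 i) i) 4056 338 = true := by decide +kernel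
theorem c28_13 : allRange (fun i => Nat.beq (act28 i) i) 4394 338 = true := by decide +kernel
theorem c28_14 : allRange (fun i => Nat.beq (act28 i) i) 4732 338 = true := by decide +kernel
theorem c28_15 : allRange (fun i => Nat.beq (act28 i) i) 5070 338 = true := by decide +kernel
theorem c28_16 : allRange (fun i => Nat.beq (act28 i) i) 5408 338 = true := by decide +kernel
theorem c28_17 : allRange (fun i => Nat.beq (act28 i) i) 5746 338 = true := by decide +kernel
theorem c28_18 : allRange (fun i => Nat.beq (act28 i) i) 6084 338 = true := by decide +kernel
theorem c28_19 : allRange (fun i => Nat.beq (act28 i) i) 6422 338 = true := by decide +kernel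
theorem c28_20 : allRange (fun i => Nat.beq (act28 i) i) 6760 338 = true := by decide +kernel
theorem c28_21 : allRange (fun i => Nat.beq (act28 i) i) 7098 338 = true := by decide +kernel
theorem c28_22 : allRange (fun i => Nat.beq (act28 i) i) 7436 338 = true := by decide +kernel
theorem c28_23 : allRange (fun i => Nat.beq (act28 i) i) 7774 338 = true := by decide +kernel
theorem c28_24 : allRange (fun i => Nat.beq (act28 i) i) 8112 338 = true := by decide +kernel
theorem c28_25 : allRange (fun i => Nat.beq (act28 i) i) 8450 338 = true := by decide +kernel
theorem c28_26 : allRange (fun i => Nat.beq (act28 i) i) 8788 338 = true := by decide +kernel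
theorem c28_27 : allRange (fun i => Nat.beq (act28 i) i) 9126 338 = true := by decide +kernel
theorem c28_28 : allRange (fun i => Nat.beq (act28 i) i) 9464 338 = true := by decide +kernel
theorem c28_29 : allRange (fun i => Nat.beq (act28 i) i) 9802 338 = true := by decide +kernel
theorem c28_30 : allRange (fun i => Nat.beq (act28 i) i) 10140 338 = true := by decide +kernel
theorem c28_31 : allRange (fun i => Nat.beq (act28 i) i) 10478 338 = true := by decide +kernel
theorem c28_32 : allRange (fun i => Nat.beq (act28 i) i) 10816 338 = true := by decide +kernel
theorem c28_33 : allRange (fun i => Nat.beq (act28 i) i) 11154 338 = true := by decide +kernel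
theorem c28_34 : allRange (fun i => Nat.beq (act28 i) i) 11492 338 = true := by decide +kernel
theorem c28_35 : allRange (fun i => Nat.beq (act28 i) i) 11830 338 = true := by decide +kernel
theorem c28_36 : allRange (fun i => Nat.beq (act28 i) i) 12168 338 = true := by decide +kernel
theorem c28_37 : allRange (fun i => Nat.beq (act28 i) i) 12506 338 = true := by decide +kernel
theorem c28_38 : allRange (fun i => Nat.beq (act28 i) i) 12844 338 = true := by decide +kernel
theorem c28_39 : allRange (fun i => Nat.beq (act28 i) i) 13182 338 = true := by decide +kernel
theorem c28_40 : allRange (fun i => Nat.beq (act28 i) i) 13520 338 = true := by decide +kernel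
theorem c28_41 : allRange (fun i => Nat.beq (act28 i) i) 13858 338 = true := by decide +kernel
theorem c28_42 : allRange (fun i => Nat.beq (act28 i) i) 14196 338 = true := by decide +kernel
theorem c28_43 : allRange (fun i => Nat.beq (act28 i) i) 14534 338 = true := by decide +kernel
theorem c28_44 : allRange (fun i => Nat.beq (act28 i) i) 14872 338 = true := by decide +kernel
theorem c28_45 : allRange (fun i => Nat.beq (act28 i) i) 15210 338 = true := by decide +kernel
theorem c28_46 : allRange (fun i => Nat.beq (act28 i) i) 15548 338 = true := by decide +kernel
theorem c28_47 : allRange (fun i => Nat.beq (act28 i) i) 15886 338 = true := by decide +kernel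
theorem c28_48 : allRange (fun i => Nat.beq (act28 i) i) 16224 338 = true := by decide +kernel
theorem c28_49 : allRange (fun i => Nat.beq (act28 i) i) 16562 338 = true := by decide +kernel
theorem c28_50 : allRange (fun i => Nat.beq (act28 i) i) 16900 338 = true := by decide +kernel
theorem c28_51 : allRange (fun i => Nat.beq (act28 i) i) 17238 338 = true := by decide +kernel
theorem c28_52 : allRange (fun i => Nat.beq (act28 i) i) 17576 338 = true := by decide +kernel
theorem c28_53 : allRange (fun i => Nat.beq (act28 i) i) 17914 338 = true := by decide +kernel
theorem c28_54 : allRange (fun i => Nat.beq (act28 i) i) 18252 338 = true := by decide +kernel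
theorem c28_55 : allRange (fun i => Nat.beq (act28 i) i) 18590 338 = true := by decide +kernel
theorem c28_56 : allRange (fun i => Nat.beq (act28 i) i) 18928 338 = true := by decide +kernel
theorem c28_57 : allRange (fun i => Nat.beq (act28 i) i) 19266 338 = true := by decide +kernel
theorem c28_58 : allRange (fun i => Nat.beq (act28 i) i) 19604 338 = true := by decide +kernel
theorem c28_59 : allRange (fun i => Nat.beq (act28 i) i) 19942 338 = true := by decide +kernel
theorem c28_60 : allRange (fun i => Nat.beq (act28 i) i) 20280 338 = true := by decide +kernel
theorem c28_61 : allRange (fun i => Nat.beq (act28 i) i) 20618 338 = true := by decide +kernel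
theorem c28_62 : allRange (fun i => Nat.beq (act28 i) i) 20956 338 = true := by decide +kernel
theorem c28_63 : allRange (fun i => Nat.beq (act28 i) i) 21294 338 = true := by decide +kernel
theorem c28_64 : allRange (fun i => Nat.beq (act28 i) i) 21632 338 = true := by decide +kernel
theorem c28_65 : allRange (fun i => Nat.beq (act28 i) i) 21970 338 = true := by decide +kernel
theorem c28_66 : allRange (fun i => Nat.beq (act28 i) i) 22308 338 = true := by decide +kernel
theorem c28_67 : allRange (fun i => Nat.beq (act28 i) i) 22646 338 = true := by decide +kernel
theorem c28_68 : allRange (fun i => Nat.beq (act28 i) i) 22984 338 = true := by decide +kernel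
theorem c28_69 : allRange (fun i => Nat.beq (act28 i) i) 23322 338 = true := by decide +kernel
theorem c28_70 : allRange (fun i => Nat.beq (act28 i) i) 23660 338 = true := by decide +kernel
theorem c28_71 : allRange (fun i => Nat.beq (act28 i) i) 23998 338 = true := by decide +kernel
theorem c28_72 : allRange (fun i => Nat.beq (act28 i) i) 24336 338 = true := by decide +kernel
theorem c28_73 : allRange (fun i => Nat.beq (act28 i) i) 24674 338 = true := by decide +kernel
theorem c28_74 : allRange (fun i => Nat.beq (act28 i) i) 25012 338 = true := by decide +kernel
theorem c28_75 : allRange (fun i => Nat.beq (act28 i) i) 25350 338 = true := by decide +kernel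
theorem c28_76 : allRange (fun i => Nat.beq (act28 i) i) 25688 338 = true := by decide +kernel
theorem c28_77 : allRange (fun i => Nat.beq (act28 i) i) 26026 338 = true := by decide +kernel
theorem c28_78 : allRange (fun i => Nat.beq (act28 i) i) 26364 338 = true := by decide +kernel
theorem c28_79 : allRange (fun i => Nat.beq (act28 i) i) 26702 338 = true := by decide +kernel
theorem c28_80 : allRange (fun i => Nat.beq (act28 i) i) 27040 338 = true := by decide +kernel
theorem c28_81 : allRange (fun i => Nat.beq (act28 i) i) 27378 338 = true := by decide +kernel
theorem c28_82 : allRange (fun i => Nat.beq (act28 i) i) 27716 338 = true := by decide +kernel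
theorem c28_83 : allRange (fun i => Nat.beq (act28 i) i) 28054 338 = true := by decide +kernel
theorem c28_84 : allRange (fun i => Nat.beq (act28 i) i) 28392 338 = true := by decide +kernel
theorem c28_85 : allRange (fun i => Nat.beq (act28 i) i) 28730 338 = true := by decide +kernel
theorem c28_86 : allRange (fun i => Nat.beq (act28 i) i) 29068 338 = true := by decide +kernel
theorem c28_87 : allRange (fun i => Nat.beq (act28 i) i) 29406 338 = true := by decide +kernel
theorem c28_88 : allRange (fun i => Nat.beq (act28 i) i) 29744 338 = true := by decide +kernel
theorem c28_89 : allRange (fun i => Nat.beq (act28 i) i) 30082 338 = true := by decide +kernel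
theorem c28_90 : allRange (fun i => Nat.beq (act28 i) i) 30420 338 = true := by decide +kernel
theorem c28_91 : allRange (fun i => Nat.beq (act28 i) i) 30758 338 = true := by decide +kernel
theorem c28_92 : allRange (fun i => Nat.beq (act28 i) i) 31096 338 = true := by decide +kernel
theorem c28_93 : allRange (fun i => Nat.beq (act28 i) i) 31434 338 = true := by decide +kernel
theorem c28_94 : allRange (fun i => Nat.beq (act28 i) i) 31772 338 = true := by decide +kernel
theorem c28_95 : allRange (fun i => Nat.beq (act28 i) i) 32110 338 = true := by decide +kernel
theorem c28_96 : allRange (fun i => Nat.beq (act28 i) i) 32448 338 = true := by decide +kernel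
theorem c28_97 : allRange (fun i => Nat.beq (act28 i) i) 32786 338 = true := by decide +kernel
theorem c28_98 : allRange (fun i => Nat.beq (act28 i) i) 33124 338 = true := by decide +kernel
theorem c28_99 : allRange (fun i => Nat.beq (act28 i) i) 33462 338 = true := by decide +kernel
theorem c28_100 : allRange (fun i => Nat.beq (act28 i) i) 33800 338 = true := by decide +kernel
theorem c28_101 : allRange (fun i => Nat.beq (act28 i) i) 34138 338 = true := by decide +kernel
theorem c28_102 : allRange (fun i => Nat.beq (act28 i) i) 34476 338 = true := by decide +kernel
theorem c28_103 : allRange (fun i => Nat.beq (act28 i) i) 34814 338 = true := by decide +kernel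
theorem c28_104 : allRange (fun i => Nat.beq (act28 i) i) 35152 338 = true := by decide +kernel
theorem c28_105 : allRange (fun i => Nat.beq (act28 i) i) 35490 338 = true := by decide +kernel
theorem c28_106 : allRange (fun i => Nat.beq (act28 i) i) 35828 338 = true := by decide +kernel
theorem c28_107 : allRange (fun i => Nat.beq (act28 i) i) 36166 338 = true := by decide +kernel
theorem c28_108 : allRange (fun i => Nat.beq (act28 i) i) 36504 338 = true := by decide +kernel
theorem c28_109 : allRange (fun i => Nat.beq (act28 i) i) 36842 338 = true := by decide +kernel
theorem c28_110 : allRange (fun i => Nat.beq (act28 i) i) 37180 338 = true := by decide +kernel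
theorem c28_111 : allRange (fun i => Nat.beq (act28 i) i) 37518 338 = true := by decide +kernel
theorem c28_112 : allRange (fun i => Nat.beq (act28 i) i) 37856 338 = true := by decide +kernel
theorem c28_113 : allRange (fun i => Nat.beq (act28 i) i) 38194 338 = true := by decide +kernel
theorem c28_114 : allRange (fun i => Nat.beq (act28 i) i) 38532 338 = true := by decide +kernel
theorem c28_115 : allRange (fun i => Nat.beq (act28 i) i) 38870 338 = true := by decide +kernel
theorem c28_116 : allRange (fun i => Nat.beq (act28 i) i) 39208 338 = true := by decide +kernel
theorem c28_117 : allRange (fun i => Nat.beq (act28 i) i) 39546 338 = true := by decide +kernel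
theorem c28_118 : allRange (fun i => Nat.beq (act28 i) i) 39884 338 = true := by decide +kernel
theorem c28_119 : allRange (fun i => Nat.beq (act28 i) i) 40222 338 = true := by decide +kernel
theorem c28_120 : allRange (fun i => Nat.beq (act28 i) i) 40560 338 = true := by decide +kernel
theorem c28_121 : allRange (fun i => Nat.beq (act28 i) i) 40898 338 = true := by decide +kernel
theorem c28_122 : allRange (fun i => Nat.beq (act28 i) i) 41236 338 = true := by decide +kernel
theorem c28_123 : allRange (fun i => Nat.beq (act28 i) i) 41574 338 = true := by decide +kernel
theorem c28_124 : allRange (fun i => Nat.beq (act28 i) i) 41912 338 = true := by decide +kernel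
theorem c28_125 : allRange (fun i => Nat.beq (act28 i) i) 42250 338 = true := by decide +kernel
theorem c28_126 : allRange (fun i => Nat.beq (act28 i) i) 42588 338 = true := by decide +kernel
theorem c28_127 : allRange (fun i => Nat.beq (act28 i) i) 42926 338 = true := by decide +kernel
theorem c28_128 : allRange (fun i => Nat.beq (act28 i) i) 43264 338 = true := by decide +kernel
theorem c28_129 : allRange (fun i => Nat.beq (act28 i) i) 43602 338 = true := by decide +kernel
theorem c28_130 : allRange (fun i => Nat.beq (act28 i) i) 43940 338 = true := by decide +kernel
theorem c28_131 : allRange (fun i => Nat.beq (act28 i) i) 44278 338 = true := by decide +kernel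
theorem c28_132 : allRange (fun i => Nat.beq (act28 i) i) 44616 338 = true := by decide +kernel
theorem c28_133 : allRange (fun i => Nat.beq (act28 i) i) 44954 338 = true := by decide +kernel
theorem c28_134 : allRange (fun i => Nat.beq (act28 i) i) 45292 338 = true := by decide +kernel
theorem c28_135 : allRange (fun i => Nat.beq (act28 i) i) 45630 338 = true := by decide +kernel
theorem c28_136 : allRange (fun i => Nat.beq (act28 i) i) 45968 112 = true := by decide +kernel
theorem h28 : ∀ i, i < T.N → Tab.relActOK T D chk28 i = true := by
  intro i hi
  rw [Tab.relActOK, ← act28_eq]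
  exact (range_glue (range_of_allRange c28_0) (range_glue (range_of_allRange c28_1) (range_glue (range_of_allRange c28_2) (range_glue (range_of_allRange c28_3) (range_glue (range_of_allRange c28_4) (range_glue (range_of_allRange c28_5) (range_glue (range_of_allRange c28_6) (range_glue (range_of_allRange c28_7) (range_glue (range_of_allRange c28_8) (range_glue (range_of_allRange c28_9) (range_glue (range_of_allRange c28_10) (range_glue (range_of_allRange c28_11) (range_glue (range_of_allRange c28_12) (range_glue (range_of_allRange c28_13) (range_glue (range_of_allRange c28_14) (range_glue (range_of_allRange c28_15) (range_glue (range_of_allRange c28_16) (range_glue (range_of_allRange c28_17) (range_glue (range_of_allRange c28_18) (range_glue (range_of_allRange c28_19) (range_glue (range_of_allRange c28_20) (range_glue (range_of_allRange c28_21) (range_glue (range_of_allRange c28_22) (range_glue (range_of_allRange c28_23) (range_glue (range_of_allRange c28_24) (range_glue (range_of_allRange c28_25) (range_glue (range_of_allRange c28_26) (range_glue (range_of_allRange c28_27) (range_glue (range_of_allRange c28_28) (range_glue (range_of_allRange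 c28_29) (range_glue (range_of_allRange c28_30) (range_glue (range_of_allRange c28_31) (range_glue (range_of_allRange c28_32) (range_glue (range_of_allRange c28_33) (range_glue (range_of_allRange c28_34) (range_glue (range_of_allRange c28_35) (range_glue (range_of_allRange c28_36) (range_glue (range_of_allRange c28_37) (range_glue (range_of_allRange c28_38) (range_glue (range_of_allRange c28_39) (range_glue (range_of_allRange c28_40) (range_glue (range_of_allRange c28_41) (range_glue (range_of_allRange c28_42) (range_glue (range_of_allRange c28_43) (range_glue (range_of_allRange c28_44) (range_glue (range_of_allRange c28_45) (range_glue (range_of_allRange c28_46) (range_glue (range_of_allRange c28_47) (range_glue (range_of_allRange c28_48) (range_glue (range_of_allRange c28_49) (range_glue (range_of_allRange c28_50) (range_glue (range_of_allRange c28_51) (range_glue (range_of_allRange c28_52) (range_glue (range_of_allRange c28_53) (range_glue (range_of_allRange c28_54) (range_glue (range_of_allRange c28_55) (range_glue (range_of_allRange c28_56) (range_glue (range_of_allRange c28_57) (range_glue (range_of_allRange c28_58) (range_glue (range_of_allRange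 c28_59) (range_glue (range_of_allRange c28_60) (range_glue (range_of_allRange c28_61) (range_glue (range_of_allRange c28_62) (range_glue (range_of_allRange c28_63) (range_glue (range_of_allRange c28_64) (range_glue (range_of_allRange c28_65) (range_glue (range_of_allRange c28_66) (range_glue (range_of_allRange c28_67) (range_glue (range_of_allRange c28_68) (range_glue (range_of_allRange c28_69) (range_glue (range_of_allRange c28_70) (range_glue (range_of_allRange c28_71) (range_glue (range_of_allRange c28_72) (range_glue (range_of_allRange c28_73) (range_glue (range_of_allRange c28_74) (range_glue (range_of_allRange c28_75) (range_glue (range_of_allRange c28_76) (range_glue (range_of_allRange c28_77) (range_glue (range_of_allRange c28_78) (range_glue (range_of_allRange c28_79) (range_glue (range_of_allRange c28_80) (range_glue (range_of_allRange c28_81) (range_glue (range_of_allRange c28_82) (range_glue (range_of_allRange c28_83) (range_glue (range_of_allRange c28_84) (range_glue (range_of_allRange c28_85) (range_glue (range_of_allRange c28_86) (range_glue (range_of_allRange c28_87) (range_glue (range_of_allRange c28_88) (range_glue (range_of_allRange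 c28_89) (range_glue (range_of_allRange c28_90) (range_glue (range_of_allRange c28_91) (range_glue (range_of_allRange c28_92) (range_glue (range_of_allRange c28_93) (range_glue (range_of_allRange c28_94) (range_glue (range_of_allRange c28_95) (range_glue (range_of_allRange c28_96) (range_glue (range_of_allRange c28_97) (range_glue (range_of_allRange c28_98) (range_glue (range_of_allRange c28_99) (range_glue (range_of_allRange c28_100) (range_glue (range_of_allRange c28_101) (range_glue (range_of_allRange c28_102) (range_glue (range_of_allRange c28_103) (range_glue (range_of_allRange c28_104) (range_glue (range_of_allRange c28_105) (range_glue (range_of_allRange c28_106) (range_glue (range_of_allRange c28_107) (range_glue (range_of_allRange c28_108) (range_glue (range_of_allRange c28_109) (range_glue (range_of_allRange c28_110) (range_glue (range_of_allRange c28_111) (range_glue (range_of_allRange c28_112) (range_glue (range_of_allRange c28_113) (range_glue (range_of_allRange c28_114) (range_glue (range_of_allRange c28_115) (range_glue (range_of_allRange c28_116) (range_glue (range_of_allRange c28_117) (range_glue (range_of_allRange c28_118) (range_glue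 (range_of_allRange c28_119) (range_glue (range_of_allRange c28_120) (range_glue (range_of_allRange c28_121) (range_glue (range_of_allRange c28_122) (range_glue (range_of_allRange c28_123) (range_glue (range_of_allRange c28_124) (range_glue (range_of_allRange c28_125) (range_glue (range_of_allRange c28_126) (range_glue (range_of_allRange c28_127) (range_glue (range_of_allRange c28_128) (range_glue (range_of_allRange c28_129) (range_glue (range_of_allRange c28_130) (range_glue (range_of_allRange c28_131) (range_glue (range_of_allRange c28_132) (range_glue (range_of_allRange c28_133) (range_glue (range_of_allRange c28_134) (range_glue (range_of_allRange c28_135) (range_of_allRange c28_136))))))))))))))))))))))))))))))))))))))))))))))))))))))))))))))))))))))))))))))))))))))))))))))))))))))))))))))))))))))))))))))))))))))))) i (Nat.zero_le _) hi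

end Cfsg.Agent.Lib.Helper4.TCD.SC48L34p2W
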