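import Cfsg.Agent.Lib.Helper4.TC7
import Cfsg.Agent.Lib.Helper4.TCP_SC4Sz8p2
import Cfsg.Agent.Lib.Helper4.TCD_SC4Sz8p2A_D0
import Cfsg.Agent.Lib.Helper4.TCD_SC4Sz8p2A_D1
import Cfsg.Agent.Lib.Helper4.TCD_SC4Sz8p2A_D2
import Cfsg.Agent.Lib.Helper4.TCD_SC4Sz8p2A_D3
import Cfsg.Agent.Lib.Helper4.TCD_SC4Sz8p2A_D4
import Cfsg.Agent.Lib.Helper4.TCD_SC4Sz8p2A_D5
import Cfsg.Agent.Lib.Helper4.TCD_SC4Sz8p2A_D6
import Cfsg.Agent.Lib.Helper4.TCD_SC4Sz8p2A_D7
import Cfsg.Agent.Lib.Helper4.TCD_SC4Sz8p2A_D8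
import Cfsg.Agent.Lib.Helper4.TCD_SC4Sz8p2A_D9
import Cfsg.Agent.Lib.Helper4.TCD_SC4Sz8p2A_D10
import Cfsg.Agent.Lib.Helper4.TCD_SC4Sz8p2A_D11
import Cfsg.Agent.Lib.Helper4.TCD_SC4Sz8p2A_D12
import Cfsg.Agent.Lib.Helper4.TCD_SC4Sz8p2A_D13
import Cfsg.Agent.Lib.Helper4.TCD_SC4Sz8p2A_D14
import Cfsg.Agent.Lib.Helper4.TCD_SC4Sz8p2A_D15
import Cfsg.Agent.Lib.Helper4.TCD_SC4Sz8p2A_D16

namespace Cfsg.Agent.Lib.Helper4.TCD.SC4Sz8p2A

open Cfsg.Agent.Lib.Helper4.TC

set_option maxRecDepth 100000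

noncomputable def Atab_s_0_2 (c : Nat) : Nat := @Bool.rec (fun _ => Nat) (Atab_0) (Atab_1) (Nat.ble 1 c)
noncomputable def Atab_s_2_4 (c : Nat) : Nat := @Bool.rec (fun _ => Nat) (Atab_2) (Atab_3) (Nat.ble 3 c)
noncomputable def Atab_s_0_4 (c : Nat) : Nat := @Bool.rec (fun _ => Nat) (Atab_s_0_2 c) (Atab_s_2_4 c) (Nat.ble 2 c)
noncomputable def Atab_s_4_6 (c : Nat) : Nat := @Bool.rec (fun _ => Nat) (Atab_4) (Atab_5) (Nat.ble 5 c)
noncomputable def Atab_s_7_9 (c : Nat) : Nat := @Bool.rec (fun _ => Nat) (Atab_7) (Atab_8) (Nat.ble 8 c)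
noncomputable def Atab_s_6_9 (c : Nat) : Nat := @Bool.rec (fun _ => Nat) (Atab_6) (Atab_s_7_9 c) (Nat.ble 7 c)
noncomputable def Atab_s_4_9 (c : Nat) : Nat := @Bool.rec (fun _ => Nat) (Atab_s_4_6 c) (Atab_s_6_9 c) (Nat.ble 6 c)
noncomputable def Atab_s_0_9 (c : Nat) : Nat := @Bool.rec (fun _ => Nat) (Atab_s_0_4 c) (Atab_s_4_9 c) (Nat.ble 4 c)
noncomputable def Atab_s_9_11 (c : Nat) : Nat := @Bool.rec (fun _ => Nat) (Atab_9) (Atab_10) (Nat.ble 10 c)
noncomputable def Atab_s_12_14 (c : Nat) : Nat := @Bool.rec (fun _ => Nat) (Atab_12) (Atab_13) (Nat.ble 13 c)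
noncomputable def Atab_s_11_14 (c : Nat) : Nat := @Bool.rec (fun _ => Nat) (Atab_11) (Atab_s_12_14 c) (Nat.ble 12 c)
noncomputable def Atab_s_9_14 (c : Nat) : Nat := @Bool.rec (fun _ => Nat) (Atab_s_9_11 c) (Atab_s_11_14 c) (Nat.ble 11 c)
noncomputable def Atab_s_14_16 (c : Nat) : Nat := @Bool.rec (fun _ => Nat) (Atab_14) (Atab_15) (Nat.ble 15 c)
noncomputable def Atab_s_17_19 (c : Nat) : Nat := @Bool.rec (fun _ => Nat) (Atab_17) (Atab_18) (Nat.ble 18 c)
noncomputable def Atab_s_16_19 (c : Nat) : Nat := @Bool.rec (fun _ => Nat) (Atab_16) (Atab_s_17_19 c) (Nat.ble 17 c)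
noncomputable def Atab_s_14_19 (c : Nat) : Nat := @Bool.rec (fun _ => Nat) (Atab_s_14_16 c) (Atab_s_16_19 c) (Nat.ble 16 c)
noncomputable def Atab_s_9_19 (c : Nat) : Nat := @Bool.rec (fun _ => Nat) (Atab_s_9_14 c) (Atab_s_14_19 c) (Nat.ble 14 c)
noncomputable def Atab_s_0_19 (c : Nat) : Nat := @Bool.rec (fun _ => Nat) (Atab_s_0_9 c) (Atab_s_9_19 c) (Nat.ble 9 c)
noncomputable def Atab_s_19_21 (c : Nat) : Nat := @Bool.rec (fun _ => Nat) (Atab_19) (Atab_20) (Nat.ble 20 c)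
noncomputable def Atab_s_21_23 (c : Nat) : Nat := @Bool.rec (fun _ => Nat) (Atab_21) (Atab_22) (Nat.ble 22 c)
noncomputable def Atab_s_19_23 (c : Nat) : Nat := @Bool.rec (fun _ => Nat) (Atab_s_19_21 c) (Atab_s_21_23 c) (Nat.ble 21 c)
noncomputable def Atab_s_23_25 (c : Nat) : Nat := @Bool.rec (fun _ => Nat) (Atab_23) (Atab_24) (Nat.ble 24 c)
noncomputable def Atab_s_26_28 (c : Nat) : Nat := @Bool.rec (fun _ => Nat) (Atab_26) (Atab_27) (Nat.ble 27 c)
noncomputable def Atab_s_25_28 (c : Nat) : Nat := @Bool.rec (fun _ => Nat) (Atab_25) (Atab_s_26_28 c) (Nat.ble 26 c)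
noncomputable def Atab_s_23_28 (c : Nat) : Nat := @Bool.rec (fun _ => Nat) (Atab_s_23_25 c) (Atab_s_25_28 c) (Nat.ble 25 c)
noncomputable def Atab_s_19_28 (c : Nat) : Nat := @Bool.rec (fun _ => Nat) (Atab_s_19_23 c) (Atab_s_23_28 c) (Nat.ble 23 c)
noncomputable def Atab_s_28_30 (c : Nat) : Nat := @Bool.rec (fun _ => Nat) (Atab_28) (Atab_29) (Nat.ble 29 c)
noncomputable def Atab_s_31_33 (c : Nat) : Nat := @Bool.rec (fun _ => Nat) (Atab_31) (Atab_32) (Nat.ble 32 c)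
noncomputable def Atab_s_30_33 (c : Nat) : Nat := @Bool.rec (fun _ => Nat) (Atab_30) (Atab_s_31_33 c) (Nat.ble 31 c)
noncomputable def Atab_s_28_33 (c : Nat) : Nat := @Bool.rec (fun _ => Nat) (Atab_s_28_30 c) (Atab_s_30_33 c) (Nat.ble 30 c)
noncomputable def Atab_s_33_35 (c : Nat) : Nat := @Bool.rec (fun _ => Nat) (Atab_33) (Atab_34) (Nat.ble 34 c)
noncomputable def Atab_s_36_38 (c : Nat) : Nat := @Bool.rec (fun _ => Nat) (Atab_36) (Atab_37) (Nat.ble 37 c)
noncomputable def Atab_s_35_38 (c : Nat) : Nat := @Bool.rec (fun _ => Nat) (Atab_35) (Atab_s_36_38 c) (Nat.ble 36 c)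
noncomputable def Atab_s_33_38 (c : Nat) : Nat := @Bool.rec (fun _ => Nat) (Atab_s_33_35 c) (Atab_s_35_38 c) (Nat.ble 35 c)
noncomputable def Atab_s_28_38 (c : Nat) : Nat := @Bool.rec (fun _ => Nat) (Atab_s_28_33 c) (Atab_s_33_38 c) (Nat.ble 33 c)
noncomputable def Atab_s_19_38 (c : Nat) : Nat := @Bool.rec (fun _ => Nat) (Atab_s_19_28 c) (Atab_s_28_38 c) (Nat.ble 28 c)
noncomputable def Atab_s_0_38 (c : Nat) : Nat := @Bool.rec (fun _ => Nat) (Atab_s_0_19 c) (Atab_s_19_38 c) (Nat.ble 19 c)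
noncomputable def Atab_s_38_40 (c : Nat) : Nat := @Bool.rec (fun _ => Nat) (Atab_38) (Atab_39) (Nat.ble 39 c)
noncomputable def Atab_s_40_42 (c : Nat) : Nat := @Bool.rec (fun _ => Nat) (Atab_40) (Atab_41) (Nat.ble 41 c)
noncomputable def Atab_s_38_42 (c : Nat) : Nat := @Bool.rec (fun _ => Nat) (Atab_s_38_40 c) (Atab_s_40_42 c) (Nat.ble 40 c)
noncomputable def Atab_s_42_44 (c : Nat) : Nat := @Bool.rec (fun _ => Nat) (Atab_42) (Atab_43) (Nat.ble 43 c)
noncomputable def Atab_s_45_47 (c : Nat) : Nat := @Bool.rec (fun _ => Nat) (Atab_45) (Atab_46) (Nat.ble 46 c)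
noncomputable def Atab_s_44_47 (c : Nat) : Nat := @Bool.rec (fun _ => Nat) (Atab_44) (Atab_s_45_47 c) (Nat.ble 45 c)
noncomputable def Atab_s_42_47 (c : Nat) : Nat := @Bool.rec (fun _ => Nat) (Atab_s_42_44 c) (Atab_s_44_47 c) (Nat.ble 44 c)
noncomputable def Atab_s_38_47 (c : Nat) : Nat := @Bool.rec (fun _ => Nat) (Atab_s_38_42 c) (Atab_s_42_47 c) (Nat.ble 42 c)
noncomputable def Atab_s_47_49 (c : Nat) : Nat := @Bool.rec (fun _ => Nat) (Atab_47) (Atab_48) (Nat.ble 48 c)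
noncomputable def Atab_s_50_52 (c : Nat) : Nat := @Bool.rec (fun _ => Nat) (Atab_50) (Atab_51) (Nat.ble 51 c)
noncomputable def Atab_s_49_52 (c : Nat) : Nat := @Bool.rec (fun _ => Nat) (Atab_49) (Atab_s_50_52 c) (Nat.ble 50 c)
noncomputable def Atab_s_47_52 (c : Nat) : Nat := @Bool.rec (fun _ => Nat) (Atab_s_47_49 c) (Atab_s_49_52 c) (Nat.ble 49 c)
noncomputable def Atab_s_52_54 (c : Nat) : Nat := @Bool.rec (fun _ => Nat) (Atab_52) (Atab_53) (Nat.ble 53 c)
noncomputable def Atab_s_55_57 (c : Nat) : Nat := @Bool.rec (fun _ => Nat) (Atab_55) (Atab_56) (Nat.ble 56 c)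
noncomputable def Atab_s_54_57 (c : Nat) : Nat := @Bool.rec (fun _ => Nat) (Atab_54) (Atab_s_55_57 c) (Nat.ble 55 c)
noncomputable def Atab_s_52_57 (c : Nat) : Nat := @Bool.rec (fun _ => Nat) (Atab_s_52_54 c) (Atab_s_54_57 c) (Nat.ble 54 c)
noncomputable def Atab_s_47_57 (c : Nat) : Nat := @Bool.rec (fun _ => Nat) (Atab_s_47_52 c) (Atab_s_52_57 c) (Nat.ble 52 c)
noncomputable def Atab_s_38_57 (c : Nat) : Nat := @Bool.rec (fun _ => Nat) (Atab_s_38_47 c) (Atab_s_47_57 c) (Nat.ble 47 c)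
noncomputable def Atab_s_57_59 (c : Nat) : Nat := @Bool.rec (fun _ => Nat) (Atab_57) (Atab_58) (Nat.ble 58 c)
noncomputable def Atab_s_59_61 (c : Nat) : Nat := @Bool.rec (fun _ => Nat) (Atab_59) (Atab_60) (Nat.ble 60 c)
noncomputable def Atab_s_57_61 (c : Nat) : Nat := @Bool.rec (fun _ => Nat) (Atab_s_57_59 c) (Atab_s_59_61 c) (Nat.ble 59 c)
noncomputable def Atab_s_61_63 (c : Nat) : Nat := @Bool.rec (fun _ => Nat) (Atab_61) (Atab_62) (Nat.ble 62 c)
noncomputable def Atab_s_64_66 (c : Nat) : Nat := @Bool.rec (fun _ => Nat) (Atab_64) (Atab_65) (Nat.ble 65 c)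
noncomputable def Atab_s_63_66 (c : Nat) : Nat := @Bool.rec (fun _ => Nat) (Atab_63) (Atab_s_64_66 c) (Nat.ble 64 c)
noncomputable def Atab_s_61_66 (c : Nat) : Nat := @Bool.rec (fun _ => Nat) (Atab_s_61_63 c) (Atab_s_63_66 c) (Nat.ble 63 c)
noncomputable def Atab_s_57_66 (c : Nat) : Nat := @Bool.rec (fun _ => Nat) (Atab_s_57_61 c) (Atab_s_61_66 c) (Nat.ble 61 c)
noncomputable def Atab_s_66_68 (c : Nat) : Nat := @Bool.rec (fun _ => Nat) (Atab_66) (Atab_67) (Nat.ble 67 c)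
noncomputable def Atab_s_69_71 (c : Nat) : Nat := @Bool.rec (fun _ => Nat) (Atab_69) (Atab_70) (Nat.ble 70 c)
noncomputable def Atab_s_68_71 (c : Nat) : Nat := @Bool.rec (fun _ => Nat) (Atab_68) (Atab_s_69_71 c) (Nat.ble 69 c)
noncomputable def Atab_s_66_71 (c : Nat) : Nat := @Bool.rec (fun _ => Nat) (Atab_s_66_68 c) (Atab_s_68_71 c) (Nat.ble 68 c)
noncomputable def Atab_s_71_73 (c : Nat) : Nat := @Bool.rec (fun _ => Nat) (Atab_71) (Atab_72) (Nat.ble 72 c)
noncomputable def Atab_s_74_76 (c : Nat) : Nat := @Bool.rec (fun _ => Nat) (Atab_74) (Atab_75) (Nat.ble 75 c)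
noncomputable def Atab_s_73_76 (c : Nat) : Nat := @Bool.rec (fun _ => Nat) (Atab_73) (Atab_s_74_76 c) (Nat.ble 74 c)
noncomputable def Atab_s_71_76 (c : Nat) : Nat := @Bool.rec (fun _ => Nat) (Atab_s_71_73 c) (Atab_s_73_76 c) (Nat.ble 73 c)
noncomputable def Atab_s_66_76 (c : Nat) : Nat := @Bool.rec (fun _ => Nat) (Atab_s_66_71 c) (Atab_s_71_76 c) (Nat.ble 71 c)
noncomputable def Atab_s_57_76 (c : Nat) : Nat := @Bool.rec (fun _ => Nat) (Atab_s_57_66 c) (Atab_s_66_76 c) (Nat.ble 66 c)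
noncomputable def Atab_s_38_76 (c : Nat) : Nat := @Bool.rec (fun _ => Nat) (Atab_s_38_57 c) (Atab_s_57_76 c) (Nat.ble 57 c)
noncomputable def Atab_s_0_76 (c : Nat) : Nat := @Bool.rec (fun _ => Nat) (Atab_s_0_38 c) (Atab_s_38_76 c) (Nat.ble 38 c)
noncomputable def Atab_s_76_78 (c : Nat) : Nat := @Bool.rec (fun _ => Nat) (Atab_76) (Atab_77) (Nat.ble 77 c)
noncomputable def Atab_s_78_80 (c : Nat) : Nat := @Bool.rec (fun _ => Nat) (Atab_78) (Atab_79) (Nat.ble 79 c)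
noncomputable def Atab_s_76_80 (c : Nat) : Nat := @Bool.rec (fun _ => Nat) (Atab_s_76_78 c) (Atab_s_78_80 c) (Nat.ble 78 c)
noncomputable def Atab_s_80_82 (c : Nat) : Nat := @Bool.rec (fun _ => Nat) (Atab_80) (Atab_81) (Nat.ble 81 c)
noncomputable def Atab_s_83_85 (c : Nat) : Nat := @Bool.rec (fun _ => Nat) (Atab_83) (Atab_84) (Nat.ble 84 c)
noncomputable def Atab_s_82_85 (c : Nat) : Nat := @Bool.rec (fun _ => Nat) (Atab_82) (Atab_s_83_85 c) (Nat.ble 83 c)
noncomputable def Atab_s_80_85 (c : Nat) : Nat := @Bool.rec (fun _ => Nat) (Atab_s_80_82 c) (Atab_s_82_85 c) (Nat.ble 82 c)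
noncomputable def Atab_s_76_85 (c : Nat) : Nat := @Bool.rec (fun _ => Nat) (Atab_s_76_80 c) (Atab_s_80_85 c) (Nat.ble 80 c)
noncomputable def Atab_s_85_87 (c : Nat) : Nat := @Bool.rec (fun _ => Nat) (Atab_85) (Atab_86) (Nat.ble 86 c)
noncomputable def Atab_s_88_90 (c : Nat) : Nat := @Bool.rec (fun _ => Nat) (Atab_88) (Atab_89) (Nat.ble 89 c)
noncomputable def Atab_s_87_90 (c : Nat) : Nat := @Bool.rec (fun _ => Nat) (Atab_87) (Atab_s_88_90 c) (Nat.ble 88 c)
noncomputable def Atab_s_85_90 (c : Nat) : Nat := @Bool.rec (fun _ => Nat) (Atab_s_85_87 c) (Atab_s_87_90 c) (Nat.ble 87 c)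
noncomputable def Atab_s_90_92 (c : Nat) : Nat := @Bool.rec (fun _ => Nat) (Atab_90) (Atab_91) (Nat.ble 91 c)
noncomputable def Atab_s_93_95 (c : Nat) : Nat := @Bool.rec (fun _ => Nat) (Atab_93) (Atab_94) (Nat.ble 94 c)
noncomputable def Atab_s_92_95 (c : Nat) : Nat := @Bool.rec (fun _ => Nat) (Atab_92) (Atab_s_93_95 c) (Nat.ble 93 c)
noncomputable def Atab_s_90_95 (c : Nat) : Nat := @Bool.rec (fun _ => Nat) (Atab_s_90_92 c) (Atab_s_92_95 c) (Nat.ble 92 c)
noncomputable def Atab_s_85_95 (c : Nat) : Nat := @Bool.rec (fun _ => Nat) (Atab_s_85_90 c) (Atab_s_90_95 c) (Nat.ble 90 c)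
noncomputable def Atab_s_76_95 (c : Nat) : Nat := @Bool.rec (fun _ => Nat) (Atab_s_76_85 c) (Atab_s_85_95 c) (Nat.ble 85 c)
noncomputable def Atab_s_95_97 (c : Nat) : Nat := @Bool.rec (fun _ => Nat) (Atab_95) (Atab_96) (Nat.ble 96 c)
noncomputable def Atab_s_97_99 (c : Nat) : Nat := @Bool.rec (fun _ => Nat) (Atab_97) (Atab_98) (Nat.ble 98 c)
noncomputable def Atab_s_95_99 (c : Nat) : Nat := @Bool.rec (fun _ => Nat) (Atab_s_95_97 c) (Atab_s_97_99 c) (Nat.ble 97 c)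
noncomputable def Atab_s_99_101 (c : Nat) : Nat := @Bool.rec (fun _ => Nat) (Atab_99) (Atab_100) (Nat.ble 100 c)
noncomputable def Atab_s_102_104 (c : Nat) : Nat := @Bool.rec (fun _ => Nat) (Atab_102) (Atab_103) (Nat.ble 103 c)
noncomputable def Atab_s_101_104 (c : Nat) : Nat := @Bool.rec (fun _ => Nat) (Atab_101) (Atab_s_102_104 c) (Nat.ble 102 c)
noncomputable def Atab_s_99_104 (c : Nat) : Nat := @Bool.rec (fun _ => Nat) (Atab_s_99_101 c) (Atab_s_101_104 c) (Nat.ble 101 c)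
noncomputable def Atab_s_95_104 (c : Nat) : Nat := @Bool.rec (fun _ => Nat) (Atab_s_95_99 c) (Atab_s_99_104 c) (Nat.ble 99 c)
noncomputable def Atab_s_104_106 (c : Nat) : Nat := @Bool.rec (fun _ => Nat) (Atab_104) (Atab_105) (Nat.ble 105 c)
noncomputable def Atab_s_107_109 (c : Nat) : Nat := @Bool.rec (fun _ => Nat) (Atab_107) (Atab_108) (Nat.ble 108 c)
noncomputable def Atab_s_106_109 (c : Nat) : Nat := @Bool.rec (fun _ => Nat) (Atab_106) (Atab_s_107_109 c) (Nat.ble 107 c)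
noncomputable def Atab_s_104_109 (c : Nat) : Nat := @Bool.rec (fun _ => Nat) (Atab_s_104_106 c) (Atab_s_106_109 c) (Nat.ble 106 c)
noncomputable def Atab_s_109_111 (c : Nat) : Nat := @Bool.rec (fun _ => Nat) (Atab_109) (Atab_110) (Nat.ble 110 c)
noncomputable def Atab_s_112_114 (c : Nat) : Nat := @Bool.rec (fun _ => Nat) (Atab_112) (Atab_113) (Nat.ble 113 c)
noncomputable def Atab_s_111_114 (c : Nat) : Nat := @Bool.rec (fun _ => Nat) (Atab_111) (Atab_s_112_114 c) (Nat.ble 112 c)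
noncomputable def Atab_s_109_114 (c : Nat) : Nat := @Bool.rec (fun _ => Nat) (Atab_s_109_111 c) (Atab_s_111_114 c) (Nat.ble 111 c)
noncomputable def Atab_s_104_114 (c : Nat) : Nat := @Bool.rec (fun _ => Nat) (Atab_s_104_109 c) (Atab_s_109_114 c) (Nat.ble 109 c)
noncomputable def Atab_s_95_114 (c : Nat) : Nat := @Bool.rec (fun _ => Nat) (Atab_s_95_104 c) (Atab_s_104_114 c) (Nat.ble 104 c)
noncomputable def Atab_s_76_114 (c : Nat) : Nat := @Bool.rec (fun _ => Nat) (Atab_s_76_95 c) (Atab_s_95_114 c) (Nat.ble 95 c)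
noncomputable def Atab_s_114_116 (c : Nat) : Nat := @Bool.rec (fun _ => Nat) (Atab_114) (Atab_115) (Nat.ble 115 c)
noncomputable def Atab_s_116_118 (c : Nat) : Nat := @Bool.rec (fun _ => Nat) (Atab_116) (Atab_117) (Nat.ble 117 c)
noncomputable def Atab_s_114_118 (c : Nat) : Nat := @Bool.rec (fun _ => Nat) (Atab_s_114_116 c) (Atab_s_116_118 c) (Nat.ble 116 c)
noncomputable def Atab_s_118_120 (c : Nat) : Nat := @Bool.rec (fun _ => Nat) (Atab_118) (Atab_119) (Nat.ble 119 c)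
noncomputable def Atab_s_121_123 (c : Nat) : Nat := @Bool.rec (fun _ => Nat) (Atab_121) (Atab_122) (Nat.ble 122 c)
noncomputable def Atab_s_120_123 (c : Nat) : Nat := @Bool.rec (fun _ => Nat) (Atab_120) (Atab_s_121_123 c) (Nat.ble 121 c)
noncomputable def Atab_s_118_123 (c : Nat) : Nat := @Bool.rec (fun _ => Nat) (Atab_s_118_120 c) (Atab_s_120_123 c) (Nat.ble 120 c)
noncomputable def Atab_s_114_123 (c : Nat) : Nat := @Bool.rec (fun _ => Nat) (Atab_s_114_118 c) (Atab_s_118_123 c) (Nat.ble 118 c)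
noncomputable def Atab_s_123_125 (c : Nat) : Nat := @Bool.rec (fun _ => Nat) (Atab_123) (Atab_124) (Nat.ble 124 c)
noncomputable def Atab_s_126_128 (c : Nat) : Nat := @Bool.rec (fun _ => Nat) (Atab_126) (Atab_127) (Nat.ble 127 c)
noncomputable def Atab_s_125_128 (c : Nat) : Nat := @Bool.rec (fun _ => Nat) (Atab_125) (Atab_s_126_128 c) (Nat.ble 126 c)
noncomputable def Atab_s_123_128 (c : Nat) : Nat := @Bool.rec (fun _ => Nat) (Atab_s_123_125 c) (Atab_s_125_128 c) (Nat.ble 125 c)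
noncomputable def Atab_s_128_130 (c : Nat) : Nat := @Bool.rec (fun _ => Nat) (Atab_128) (Atab_129) (Nat.ble 129 c)
noncomputable def Atab_s_131_133 (c : Nat) : Nat := @Bool.rec (fun _ => Nat) (Atab_131) (Atab_132) (Nat.ble 132 c)
noncomputable def Atab_s_130_133 (c : Nat) : Nat := @Bool.rec (fun _ => Nat) (Atab_130) (Atab_s_131_133 c) (Nat.ble 131 c)
noncomputable def Atab_s_128_133 (c : Nat) : Nat := @Bool.rec (fun _ => Nat) (Atab_s_128_130 c) (Atab_s_130_133 c) (Nat.ble 130 c)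
noncomputable def Atab_s_123_133 (c : Nat) : Nat := @Bool.rec (fun _ => Nat) (Atab_s_123_128 c) (Atab_s_128_133 c) (Nat.ble 128 c)
noncomputable def Atab_s_114_133 (c : Nat) : Nat := @Bool.rec (fun _ => Nat) (Atab_s_114_123 c) (Atab_s_123_133 c) (Nat.ble 123 c)
noncomputable def Atab_s_133_135 (c : Nat) : Nat := @Bool.rec (fun _ => Nat) (Atab_133) (Atab_134) (Nat.ble 134 c)
noncomputable def Atab_s_135_137 (c : Nat) : Nat := @Bool.rec (fun _ => Nat) (Atab_135) (Atab_136) (Nat.ble 136 c)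
noncomputable def Atab_s_133_137 (c : Nat) : Nat := @Bool.rec (fun _ => Nat) (Atab_s_133_135 c) (Atab_s_135_137 c) (Nat.ble 135 c)
noncomputable def Atab_s_137_139 (c : Nat) : Nat := @Bool.rec (fun _ => Nat) (Atab_137) (Atab_138) (Nat.ble 138 c)
noncomputable def Atab_s_140_142 (c : Nat) : Nat := @Bool.rec (fun _ => Nat) (Atab_140) (Atab_141) (Nat.ble 141 c)
noncomputable def Atab_s_139_142 (c : Nat) : Nat := @Bool.rec (fun _ => Nat) (Atab_139) (Atab_s_140_142 c) (Nat.ble 140 c)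
noncomputable def Atab_s_137_142 (c : Nat) : Nat := @Bool.rec (fun _ => Nat) (Atab_s_137_139 c) (Atab_s_139_142 c) (Nat.ble 139 c)
noncomputable def Atab_s_133_142 (c : Nat) : Nat := @Bool.rec (fun _ => Nat) (Atab_s_133_137 c) (Atab_s_137_142 c) (Nat.ble 137 c)
noncomputable def Atab_s_142_144 (c : Nat) : Nat := @Bool.rec (fun _ => Nat) (Atab_142) (Atab_143) (Nat.ble 143 c)
noncomputable def Atab_s_145_147 (c : Nat) : Nat := @Bool.rec (fun _ => Nat) (Atab_145) (Atab_146) (Nat.ble 146 c)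
noncomputable def Atab_s_144_147 (c : Nat) : Nat := @Bool.rec (fun _ => Nat) (Atab_144) (Atab_s_145_147 c) (Nat.ble 145 c)
noncomputable def Atab_s_142_147 (c : Nat) : Nat := @Bool.rec (fun _ => Nat) (Atab_s_142_144 c) (Atab_s_144_147 c) (Nat.ble 144 c)
noncomputable def Atab_s_147_149 (c : Nat) : Nat := @Bool.rec (fun _ => Nat) (Atab_147) (Atab_148) (Nat.ble 148 c)
noncomputable def Atab_s_150_152 (c : Nat) : Nat := @Bool.rec (fun _ => Nat) (Atab_150) (Atab_151) (Nat.ble 151 c)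
noncomputable def Atab_s_149_152 (c : Nat) : Nat := @Bool.rec (fun _ => Nat) (Atab_149) (Atab_s_150_152 c) (Nat.ble 150 c)
noncomputable def Atab_s_147_152 (c : Nat) : Nat := @Bool.rec (fun _ => Nat) (Atab_s_147_149 c) (Atab_s_149_152 c) (Nat.ble 149 c)
noncomputable def Atab_s_142_152 (c : Nat) : Nat := @Bool.rec (fun _ => Nat) (Atab_s_142_147 c) (Atab_s_147_152 c) (Nat.ble 147 c)
noncomputable def Atab_s_133_152 (c : Nat) : Nat := @Bool.rec (fun _ => Nat) (Atab_s_133_142 c) (Atab_s_142_152 c) (Nat.ble 142 c)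
noncomputable def Atab_s_114_152 (c : Nat) : Nat := @Bool.rec (fun _ => Nat) (Atab_s_114_133 c) (Atab_s_133_152 c) (Nat.ble 133 c)
noncomputable def Atab_s_76_152 (c : Nat) : Nat := @Bool.rec (fun _ => Nat) (Atab_s_76_114 c) (Atab_s_114_152 c) (Nat.ble 114 c)
noncomputable def Atab_s_0_152 (c : Nat) : Nat := @Bool.rec (fun _ => Nat) (Atab_s_0_76 c) (Atab_s_76_152 c) (Nat.ble 76 c)
noncomputable def Atab_s_152_154 (c : Nat) : Nat := @Bool.rec (fun _ => Nat) (Atab_152) (Atab_153) (Nat.ble 153 c)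
noncomputable def Atab_s_154_156 (c : Nat) : Nat := @Bool.rec (fun _ => Nat) (Atab_154) (Atab_155) (Nat.ble 155 c)
noncomputable def Atab_s_152_156 (c : Nat) : Nat := @Bool.rec (fun _ => Nat) (Atab_s_152_154 c) (Atab_s_154_156 c) (Nat.ble 154 c)
noncomputable def Atab_s_156_158 (c : Nat) : Nat := @Bool.rec (fun _ => Nat) (Atab_156) (Atab_157) (Nat.ble 157 c)
noncomputable def Atab_s_159_161 (c : Nat) : Nat := @Bool.rec (fun _ => Nat) (Atab_159) (Atab_160) (Nat.ble 160 c)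
noncomputable def Atab_s_158_161 (c : Nat) : Nat := @Bool.rec (fun _ => Nat) (Atab_158) (Atab_s_159_161 c) (Nat.ble 159 c)
noncomputable def Atab_s_156_161 (c : Nat) : Nat := @Bool.rec (fun _ => Nat) (Atab_s_156_158 c) (Atab_s_158_161 c) (Nat.ble 158 c)
noncomputable def Atab_s_152_161 (c : Nat) : Nat := @Bool.rec (fun _ => Nat) (Atab_s_152_156 c) (Atab_s_156_161 c) (Nat.ble 156 c)
noncomputable def Atab_s_161_163 (c : Nat) : Nat := @Bool.rec (fun _ => Nat) (Atab_161) (Atab_162) (Nat.ble 162 c)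
noncomputable def Atab_s_164_166 (c : Nat) : Nat := @Bool.rec (fun _ => Nat) (Atab_164) (Atab_165) (Nat.ble 165 c)
noncomputable def Atab_s_163_166 (c : Nat) : Nat := @Bool.rec (fun _ => Nat) (Atab_163) (Atab_s_164_166 c) (Nat.ble 164 c)
noncomputable def Atab_s_161_166 (c : Nat) : Nat := @Bool.rec (fun _ => Nat) (Atab_s_161_163 c) (Atab_s_163_166 c) (Nat.ble 163 c)
noncomputable def Atab_s_166_168 (c : Nat) : Nat := @Bool.rec (fun _ => Nat) (Atab_166) (Atab_167) (Nat.ble 167 c)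
noncomputable def Atab_s_169_171 (c : Nat) : Nat := @Bool.rec (fun _ => Nat) (Atab_169) (Atab_170) (Nat.ble 170 c)
noncomputable def Atab_s_168_171 (c : Nat) : Nat := @Bool.rec (fun _ => Nat) (Atab_168) (Atab_s_169_171 c) (Nat.ble 169 c)
noncomputable def Atab_s_166_171 (c : Nat) : Nat := @Bool.rec (fun _ => Nat) (Atab_s_166_168 c) (Atab_s_168_171 c) (Nat.ble 168 c)
noncomputable def Atab_s_161_171 (c : Nat) : Nat := @Bool.rec (fun _ => Nat) (Atab_s_161_166 c) (Atab_s_166_171 c) (Nat.ble 166 c)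
noncomputable def Atab_s_152_171 (c : Nat) : Nat := @Bool.rec (fun _ => Nat) (Atab_s_152_161 c) (Atab_s_161_171 c) (Nat.ble 161 c)
noncomputable def Atab_s_171_173 (c : Nat) : Nat := @Bool.rec (fun _ => Nat) (Atab_171) (Atab_172) (Nat.ble 172 c)
noncomputable def Atab_s_173_175 (c : Nat) : Nat := @Bool.rec (fun _ => Nat) (Atab_173) (Atab_174) (Nat.ble 174 c)
noncomputable def Atab_s_171_175 (c : Nat) : Nat := @Bool.rec (fun _ => Nat) (Atab_s_171_173 c) (Atab_s_173_175 c) (Nat.ble 173 c)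
noncomputable def Atab_s_175_177 (c : Nat) : Nat := @Bool.rec (fun _ => Nat) (Atab_175) (Atab_176) (Nat.ble 176 c)
noncomputable def Atab_s_178_180 (c : Nat) : Nat := @Bool.rec (fun _ => Nat) (Atab_178) (Atab_179) (Nat.ble 179 c)
noncomputable def Atab_s_177_180 (c : Nat) : Nat := @Bool.rec (fun _ => Nat) (Atab_177) (Atab_s_178_180 c) (Nat.ble 178 c)
noncomputable def Atab_s_175_180 (c : Nat) : Nat := @Bool.rec (fun _ => Nat) (Atab_s_175_177 c) (Atab_s_177_180 c) (Nat.ble 177 c)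
noncomputable def Atab_s_171_180 (c : Nat) : Nat := @Bool.rec (fun _ => Nat) (Atab_s_171_175 c) (Atab_s_175_180 c) (Nat.ble 175 c)
noncomputable def Atab_s_180_182 (c : Nat) : Nat := @Bool.rec (fun _ => Nat) (Atab_180) (Atab_181) (Nat.ble 181 c)
noncomputable def Atab_s_183_185 (c : Nat) : Nat := @Bool.rec (fun _ => Nat) (Atab_183) (Atab_184) (Nat.ble 184 c)
noncomputable def Atab_s_182_185 (c : Nat) : Nat := @Bool.rec (fun _ => Nat) (Atab_182) (Atab_s_183_185 c) (Nat.ble 183 c)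
noncomputable def Atab_s_180_185 (c : Nat) : Nat := @Bool.rec (fun _ => Nat) (Atab_s_180_182 c) (Atab_s_182_185 c) (Nat.ble 182 c)
noncomputable def Atab_s_185_187 (c : Nat) : Nat := @Bool.rec (fun _ => Nat) (Atab_185) (Atab_186) (Nat.ble 186 c)
noncomputable def Atab_s_188_190 (c : Nat) : Nat := @Bool.rec (fun _ => Nat) (Atab_188) (Atab_189) (Nat.ble 189 c)
noncomputable def Atab_s_187_190 (c : Nat) : Nat := @Bool.rec (fun _ => Nat) (Atab_187) (Atab_s_188_190 c) (Nat.ble 188 c)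
noncomputable def Atab_s_185_190 (c : Nat) : Nat := @Bool.rec (fun _ => Nat) (Atab_s_185_187 c) (Atab_s_187_190 c) (Nat.ble 187 c)
noncomputable def Atab_s_180_190 (c : Nat) : Nat := @Bool.rec (fun _ => Nat) (Atab_s_180_185 c) (Atab_s_185_190 c) (Nat.ble 185 c)
noncomputable def Atab_s_171_190 (c : Nat) : Nat := @Bool.rec (fun _ => Nat) (Atab_s_171_180 c) (Atab_s_180_190 c) (Nat.ble 180 c)
noncomputable def Atab_s_152_190 (c : Nat) : Nat := @Bool.rec (fun _ => Nat) (Atab_s_152_171 c) (Atab_s_171_190 c) (Nat.ble 171 c)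
noncomputable def Atab_s_190_192 (c : Nat) : Nat := @Bool.rec (fun _ => Nat) (Atab_190) (Atab_191) (Nat.ble 191 c)
noncomputable def Atab_s_192_194 (c : Nat) : Nat := @Bool.rec (fun _ => Nat) (Atab_192) (Atab_193) (Nat.ble 193 c)
noncomputable def Atab_s_190_194 (c : Nat) : Nat := @Bool.rec (fun _ => Nat) (Atab_s_190_192 c) (Atab_s_192_194 c) (Nat.ble 192 c)
noncomputable def Atab_s_194_196 (c : Nat) : Nat := @Bool.rec (fun _ => Nat) (Atab_194) (Atab_195) (Nat.ble 195 c)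
noncomputable def Atab_s_197_199 (c : Nat) : Nat := @Bool.rec (fun _ => Nat) (Atab_197) (Atab_198) (Nat.ble 198 c)
noncomputable def Atab_s_196_199 (c : Nat) : Nat := @Bool.rec (fun _ => Nat) (Atab_196) (Atab_s_197_199 c) (Nat.ble 197 c)
noncomputable def Atab_s_194_199 (c : Nat) : Nat := @Bool.rec (fun _ => Nat) (Atab_s_194_196 c) (Atab_s_196_199 c) (Nat.ble 196 c)
noncomputable def Atab_s_190_199 (c : Nat) : Nat := @Bool.rec (fun _ => Nat) (Atab_s_190_194 c) (Atab_s_194_199 c) (Nat.ble 194 c)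
noncomputable def Atab_s_199_201 (c : Nat) : Nat := @Bool.rec (fun _ => Nat) (Atab_199) (Atab_200) (Nat.ble 200 c)
noncomputable def Atab_s_202_204 (c : Nat) : Nat := @Bool.rec (fun _ => Nat) (Atab_202) (Atab_203) (Nat.ble 203 c)
noncomputable def Atab_s_201_204 (c : Nat) : Nat := @Bool.rec (fun _ => Nat) (Atab_201) (Atab_s_202_204 c) (Nat.ble 202 c)
noncomputable def Atab_s_199_204 (c : Nat) : Nat := @Bool.rec (fun _ => Nat) (Atab_s_199_201 c) (Atab_s_201_204 c) (Nat.ble 201 c)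
noncomputable def Atab_s_204_206 (c : Nat) : Nat := @Bool.rec (fun _ => Nat) (Atab_204) (Atab_205) (Nat.ble 205 c)
noncomputable def Atab_s_207_209 (c : Nat) : Nat := @Bool.rec (fun _ => Nat) (Atab_207) (Atab_208) (Nat.ble 208 c)
noncomputable def Atab_s_206_209 (c : Nat) : Nat := @Bool.rec (fun _ => Nat) (Atab_206) (Atab_s_207_209 c) (Nat.ble 207 c)
noncomputable def Atab_s_204_209 (c : Nat) : Nat := @Bool.rec (fun _ => Nat) (Atab_s_204_206 c) (Atab_s_206_209 c) (Nat.ble 206 c)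
noncomputable def Atab_s_199_209 (c : Nat) : Nat := @Bool.rec (fun _ => Nat) (Atab_s_199_204 c) (Atab_s_204_209 c) (Nat.ble 204 c)
noncomputable def Atab_s_190_209 (c : Nat) : Nat := @Bool.rec (fun _ => Nat) (Atab_s_190_199 c) (Atab_s_199_209 c) (Nat.ble 199 c)
noncomputable def Atab_s_209_211 (c : Nat) : Nat := @Bool.rec (fun _ => Nat) (Atab_209) (Atab_210) (Nat.ble 210 c)
noncomputable def Atab_s_211_213 (c : Nat) : Nat := @Bool.rec (fun _ => Nat) (Atab_211) (Atab_212) (Nat.ble 212 c)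
noncomputable def Atab_s_209_213 (c : Nat) : Nat := @Bool.rec (fun _ => Nat) (Atab_s_209_211 c) (Atab_s_211_213 c) (Nat.ble 211 c)
noncomputable def Atab_s_213_215 (c : Nat) : Nat := @Bool.rec (fun _ => Nat) (Atab_213) (Atab_214) (Nat.ble 214 c)
noncomputable def Atab_s_216_218 (c : Nat) : Nat := @Bool.rec (fun _ => Nat) (Atab_216) (Atab_217) (Nat.ble 217 c)
noncomputable def Atab_s_215_218 (c : Nat) : Nat := @Bool.rec (fun _ => Nat) (Atab_215) (Atab_s_216_218 c) (Nat.ble 216 c)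
noncomputable def Atab_s_213_218 (c : Nat) : Nat := @Bool.rec (fun _ => Nat) (Atab_s_213_215 c) (Atab_s_215_218 c) (Nat.ble 215 c)
noncomputable def Atab_s_209_218 (c : Nat) : Nat := @Bool.rec (fun _ => Nat) (Atab_s_209_213 c) (Atab_s_213_218 c) (Nat.ble 213 c)
noncomputable def Atab_s_218_220 (c : Nat) : Nat := @Bool.rec (fun _ => Nat) (Atab_218) (Atab_219) (Nat.ble 219 c)
noncomputable def Atab_s_221_223 (c : Nat) : Nat := @Bool.rec (fun _ => Nat) (Atab_221) (Atab_222) (Nat.ble 222 c)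
noncomputable def Atab_s_220_223 (c : Nat) : Nat := @Bool.rec (fun _ => Nat) (Atab_220) (Atab_s_221_223 c) (Nat.ble 221 c)
noncomputable def Atab_s_218_223 (c : Nat) : Nat := @Bool.rec (fun _ => Nat) (Atab_s_218_220 c) (Atab_s_220_223 c) (Nat.ble 220 c)
noncomputable def Atab_s_223_225 (c : Nat) : Nat := @Bool.rec (fun _ => Nat) (Atab_223) (Atab_224) (Nat.ble 224 c)
noncomputable def Atab_s_226_228 (c : Nat) : Nat := @Bool.rec (fun _ => Nat) (Atab_226) (Atab_227) (Nat.ble 227 c)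
noncomputable def Atab_s_225_228 (c : Nat) : Nat := @Bool.rec (fun _ => Nat) (Atab_225) (Atab_s_226_228 c) (Nat.ble 226 c)
noncomputable def Atab_s_223_228 (c : Nat) : Nat := @Bool.rec (fun _ => Nat) (Atab_s_223_225 c) (Atab_s_225_228 c) (Nat.ble 225 c)
noncomputable def Atab_s_218_228 (c : Nat) : Nat := @Bool.rec (fun _ => Nat) (Atab_s_218_223 c) (Atab_s_223_228 c) (Nat.ble 223 c)
noncomputable def Atab_s_209_228 (c : Nat) : Nat := @Bool.rec (fun _ => Nat) (Atab_s_209_218 c) (Atab_s_218_228 c) (Nat.ble 218 c)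
noncomputable def Atab_s_190_228 (c : Nat) : Nat := @Bool.rec (fun _ => Nat) (Atab_s_190_209 c) (Atab_s_209_228 c) (Nat.ble 209 c)
noncomputable def Atab_s_152_228 (c : Nat) : Nat := @Bool.rec (fun _ => Nat) (Atab_s_152_190 c) (Atab_s_190_228 c) (Nat.ble 190 c)
noncomputable def Atab_s_228_230 (c : Nat) : Nat := @Bool.rec (fun _ => Nat) (Atab_228) (Atab_229) (Nat.ble 229 c)
noncomputable def Atab_s_230_232 (c : Nat) : Nat := @Bool.rec (fun _ => Nat) (Atab_230) (Atab_231) (Nat.ble 231 c)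
noncomputable def Atab_s_228_232 (c : Nat) : Nat := @Bool.rec (fun _ => Nat) (Atab_s_228_230 c) (Atab_s_230_232 c) (Nat.ble 230 c)
noncomputable def Atab_s_232_234 (c : Nat) : Nat := @Bool.rec (fun _ => Nat) (Atab_232) (Atab_233) (Nat.ble 233 c)
noncomputable def Atab_s_235_237 (c : Nat) : Nat := @Bool.rec (fun _ => Nat) (Atab_235) (Atab_236) (Nat.ble 236 c)
noncomputable def Atab_s_234_237 (c : Nat) : Nat := @Bool.rec (fun _ => Nat) (Atab_234) (Atab_s_235_237 c) (Nat.ble 235 c)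
noncomputable def Atab_s_232_237 (c : Nat) : Nat := @Bool.rec (fun _ => Nat) (Atab_s_232_234 c) (Atab_s_234_237 c) (Nat.ble 234 c)
noncomputable def Atab_s_228_237 (c : Nat) : Nat := @Bool.rec (fun _ => Nat) (Atab_s_228_232 c) (Atab_s_232_237 c) (Nat.ble 232 c)
noncomputable def Atab_s_237_239 (c : Nat) : Nat := @Bool.rec (fun _ => Nat) (Atab_237) (Atab_238) (Nat.ble 238 c)
noncomputable def Atab_s_240_242 (c : Nat) : Nat := @Bool.rec (fun _ => Nat) (Atab_240) (Atab_241) (Nat.ble 241 c)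
noncomputable def Atab_s_239_242 (c : Nat) : Nat := @Bool.rec (fun _ => Nat) (Atab_239) (Atab_s_240_242 c) (Nat.ble 240 c)
noncomputable def Atab_s_237_242 (c : Nat) : Nat := @Bool.rec (fun _ => Nat) (Atab_s_237_239 c) (Atab_s_239_242 c) (Nat.ble 239 c)
noncomputable def Atab_s_242_244 (c : Nat) : Nat := @Bool.rec (fun _ => Nat) (Atab_242) (Atab_243) (Nat.ble 243 c)
noncomputable def Atab_s_245_247 (c : Nat) : Nat := @Bool.rec (fun _ => Nat) (Atab_245) (Atab_246) (Nat.ble 246 c)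
noncomputable def Atab_s_244_247 (c : Nat) : Nat := @Bool.rec (fun _ => Nat) (Atab_244) (Atab_s_245_247 c) (Nat.ble 245 c)
noncomputable def Atab_s_242_247 (c : Nat) : Nat := @Bool.rec (fun _ => Nat) (Atab_s_242_244 c) (Atab_s_244_247 c) (Nat.ble 244 c)
noncomputable def Atab_s_237_247 (c : Nat) : Nat := @Bool.rec (fun _ => Nat) (Atab_s_237_242 c) (Atab_s_242_247 c) (Nat.ble 242 c)
noncomputable def Atab_s_228_247 (c : Nat) : Nat := @Bool.rec (fun _ => Nat) (Atab_s_228_237 c) (Atab_s_237_247 c) (Nat.ble 237 c)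
noncomputable def Atab_s_247_249 (c : Nat) : Nat := @Bool.rec (fun _ => Nat) (Atab_247) (Atab_248) (Nat.ble 248 c)
noncomputable def Atab_s_249_251 (c : Nat) : Nat := @Bool.rec (fun _ => Nat) (Atab_249) (Atab_250) (Nat.ble 250 c)
noncomputable def Atab_s_247_251 (c : Nat) : Nat := @Bool.rec (fun _ => Nat) (Atab_s_247_249 c) (Atab_s_249_251 c) (Nat.ble 249 c)
noncomputable def Atab_s_251_253 (c : Nat) : Nat := @Bool.rec (fun _ => Nat) (Atab_251) (Atab_252) (Nat.ble 252 c)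
noncomputable def Atab_s_254_256 (c : Nat) : Nat := @Bool.rec (fun _ => Nat) (Atab_254) (Atab_255) (Nat.ble 255 c)
noncomputable def Atab_s_253_256 (c : Nat) : Nat := @Bool.rec (fun _ => Nat) (Atab_253) (Atab_s_254_256 c) (Nat.ble 254 c)
noncomputable def Atab_s_251_256 (c : Nat) : Nat := @Bool.rec (fun _ => Nat) (Atab_s_251_253 c) (Atab_s_253_256 c) (Nat.ble 253 c)
noncomputable def Atab_s_247_256 (c : Nat) : Nat := @Bool.rec (fun _ => Nat) (Atab_s_247_251 c) (Atab_s_251_256 c) (Nat.ble 251 c)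
noncomputable def Atab_s_256_258 (c : Nat) : Nat := @Bool.rec (fun _ => Nat) (Atab_256) (Atab_257) (Nat.ble 257 c)
noncomputable def Atab_s_259_261 (c : Nat) : Nat := @Bool.rec (fun _ => Nat) (Atab_259) (Atab_260) (Nat.ble 260 c)
noncomputable def Atab_s_258_261 (c : Nat) : Nat := @Bool.rec (fun _ => Nat) (Atab_258) (Atab_s_259_261 c) (Nat.ble 259 c)
noncomputable def Atab_s_256_261 (c : Nat) : Nat := @Bool.rec (fun _ => Nat) (Atab_s_256_258 c) (Atab_s_258_261 c) (Nat.ble 258 c)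
noncomputable def Atab_s_261_263 (c : Nat) : Nat := @Bool.rec (fun _ => Nat) (Atab_261) (Atab_262) (Nat.ble 262 c)
noncomputable def Atab_s_264_266 (c : Nat) : Nat := @Bool.rec (fun _ => Nat) (Atab_264) (Atab_265) (Nat.ble 265 c)
noncomputable def Atab_s_263_266 (c : Nat) : Nat := @Bool.rec (fun _ => Nat) (Atab_263) (Atab_s_264_266 c) (Nat.ble 264 c)
noncomputable def Atab_s_261_266 (c : Nat) : Nat := @Bool.rec (fun _ => Nat) (Atab_s_261_263 c) (Atab_s_263_266 c) (Nat.ble 263 c)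
noncomputable def Atab_s_256_266 (c : Nat) : Nat := @Bool.rec (fun _ => Nat) (Atab_s_256_261 c) (Atab_s_261_266 c) (Nat.ble 261 c)
noncomputable def Atab_s_247_266 (c : Nat) : Nat := @Bool.rec (fun _ => Nat) (Atab_s_247_256 c) (Atab_s_256_266 c) (Nat.ble 256 c)
noncomputable def Atab_s_228_266 (c : Nat) : Nat := @Bool.rec (fun _ => Nat) (Atab_s_228_247 c) (Atab_s_247_266 c) (Nat.ble 247 c)
noncomputable def Atab_s_266_268 (c : Nat) : Nat := @Bool.rec (fun _ => Nat) (Atab_266) (Atab_267) (Nat.ble 267 c)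
noncomputable def Atab_s_268_270 (c : Nat) : Nat := @Bool.rec (fun _ => Nat) (Atab_268) (Atab_269) (Nat.ble 269 c)
noncomputable def Atab_s_266_270 (c : Nat) : Nat := @Bool.rec (fun _ => Nat) (Atab_s_266_268 c) (Atab_s_268_270 c) (Nat.ble 268 c)
noncomputable def Atab_s_270_272 (c : Nat) : Nat := @Bool.rec (fun _ => Nat) (Atab_270) (Atab_271) (Nat.ble 271 c)
noncomputable def Atab_s_273_275 (c : Nat) : Nat := @Bool.rec (fun _ => Nat) (Atab_273) (Atab_274) (Nat.ble 274 c)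
noncomputable def Atab_s_272_275 (c : Nat) : Nat := @Bool.rec (fun _ => Nat) (Atab_272) (Atab_s_273_275 c) (Nat.ble 273 c)
noncomputable def Atab_s_270_275 (c : Nat) : Nat := @Bool.rec (fun _ => Nat) (Atab_s_270_272 c) (Atab_s_272_275 c) (Nat.ble 272 c)
noncomputable def Atab_s_266_275 (c : Nat) : Nat := @Bool.rec (fun _ => Nat) (Atab_s_266_270 c) (Atab_s_270_275 c) (Nat.ble 270 c)
noncomputable def Atab_s_275_277 (c : Nat) : Nat := @Bool.rec (fun _ => Nat) (Atab_275) (Atab_276) (Nat.ble 276 c)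
noncomputable def Atab_s_278_280 (c : Nat) : Nat := @Bool.rec (fun _ => Nat) (Atab_278) (Atab_279) (Nat.ble 279 c)
noncomputable def Atab_s_277_280 (c : Nat) : Nat := @Bool.rec (fun _ => Nat) (Atab_277) (Atab_s_278_280 c) (Nat.ble 278 c)
noncomputable def Atab_s_275_280 (c : Nat) : Nat := @Bool.rec (fun _ => Nat) (Atab_s_275_277 c) (Atab_s_277_280 c) (Nat.ble 277 c)
noncomputable def Atab_s_280_282 (c : Nat) : Nat := @Bool.rec (fun _ => Nat) (Atab_280) (Atab_281) (Nat.ble 281 c)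
noncomputable def Atab_s_283_285 (c : Nat) : Nat := @Bool.rec (fun _ => Nat) (Atab_283) (Atab_284) (Nat.ble 284 c)
noncomputable def Atab_s_282_285 (c : Nat) : Nat := @Bool.rec (fun _ => Nat) (Atab_282) (Atab_s_283_285 c) (Nat.ble 283 c)
noncomputable def Atab_s_280_285 (c : Nat) : Nat := @Bool.rec (fun _ => Nat) (Atab_s_280_282 c) (Atab_s_282_285 c) (Nat.ble 282 c)
noncomputable def Atab_s_275_285 (c : Nat) : Nat := @Bool.rec (fun _ => Nat) (Atab_s_275_280 c) (Atab_s_280_285 c) (Nat.ble 280 c)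
noncomputable def Atab_s_266_285 (c : Nat) : Nat := @Bool.rec (fun _ => Nat) (Atab_s_266_275 c) (Atab_s_275_285 c) (Nat.ble 275 c)
noncomputable def Atab_s_285_287 (c : Nat) : Nat := @Bool.rec (fun _ => Nat) (Atab_285) (Atab_286) (Nat.ble 286 c)
noncomputable def Atab_s_287_289 (c : Nat) : Nat := @Bool.rec (fun _ => Nat) (Atab_287) (Atab_288) (Nat.ble 288 c)
noncomputable def Atab_s_285_289 (c : Nat) : Nat := @Bool.rec (fun _ => Nat) (Atab_s_285_287 c) (Atab_s_287_289 c) (Nat.ble 287 c)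
noncomputable def Atab_s_289_291 (c : Nat) : Nat := @Bool.rec (fun _ => Nat) (Atab_289) (Atab_290) (Nat.ble 290 c)
noncomputable def Atab_s_292_294 (c : Nat) : Nat := @Bool.rec (fun _ => Nat) (Atab_292) (Atab_293) (Nat.ble 293 c)
noncomputable def Atab_s_291_294 (c : Nat) : Nat := @Bool.rec (fun _ => Nat) (Atab_291) (Atab_s_292_294 c) (Nat.ble 292 c)
noncomputable def Atab_s_289_294 (c : Nat) : Nat := @Bool.rec (fun _ => Nat) (Atab_s_289_291 c) (Atab_s_291_294 c) (Nat.ble 291 c)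
noncomputable def Atab_s_285_294 (c : Nat) : Nat := @Bool.rec (fun _ => Nat) (Atab_s_285_289 c) (Atab_s_289_294 c) (Nat.ble 289 c)
noncomputable def Atab_s_294_296 (c : Nat) : Nat := @Bool.rec (fun _ => Nat) (Atab_294) (Atab_295) (Nat.ble 295 c)
noncomputable def Atab_s_297_299 (c : Nat) : Nat := @Bool.rec (fun _ => Nat) (Atab_297) (Atab_298) (Nat.ble 298 c)
noncomputable def Atab_s_296_299 (c : Nat) : Nat := @Bool.rec (fun _ => Nat) (Atab_296) (Atab_s_297_299 c) (Nat.ble 297 c)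
noncomputable def Atab_s_294_299 (c : Nat) : Nat := @Bool.rec (fun _ => Nat) (Atab_s_294_296 c) (Atab_s_296_299 c) (Nat.ble 296 c)
noncomputable def Atab_s_299_301 (c : Nat) : Nat := @Bool.rec (fun _ => Nat) (Atab_299) (Atab_300) (Nat.ble 300 c)
noncomputable def Atab_s_302_304 (c : Nat) : Nat := @Bool.rec (fun _ => Nat) (Atab_302) (Atab_303) (Nat.ble 303 c)
noncomputable def Atab_s_301_304 (c : Nat) : Nat := @Bool.rec (fun _ => Nat) (Atab_301) (Atab_s_302_304 c) (Nat.ble 302 c)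
noncomputable def Atab_s_299_304 (c : Nat) : Nat := @Bool.rec (fun _ => Nat) (Atab_s_299_301 c) (Atab_s_301_304 c) (Nat.ble 301 c)
noncomputable def Atab_s_294_304 (c : Nat) : Nat := @Bool.rec (fun _ => Nat) (Atab_s_294_299 c) (Atab_s_299_304 c) (Nat.ble 299 c)
noncomputable def Atab_s_285_304 (c : Nat) : Nat := @Bool.rec (fun _ => Nat) (Atab_s_285_294 c) (Atab_s_294_304 c) (Nat.ble 294 c)
noncomputable def Atab_s_266_304 (c : Nat) : Nat := @Bool.rec (fun _ => Nat) (Atab_s_266_285 c) (Atab_s_285_304 c) (Nat.ble 285 c)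
noncomputable def Atab_s_228_304 (c : Nat) : Nat := @Bool.rec (fun _ => Nat) (Atab_s_228_266 c) (Atab_s_266_304 c) (Nat.ble 266 c)
noncomputable def Atab_s_152_304 (c : Nat) : Nat := @Bool.rec (fun _ => Nat) (Atab_s_152_228 c) (Atab_s_228_304 c) (Nat.ble 228 c)
noncomputable def Atab_s_0_304 (c : Nat) : Nat := @Bool.rec (fun _ => Nat) (Atab_s_0_152 c) (Atab_s_152_304 c) (Nat.ble 152 c)
noncomputable def Atab (i : Nat) : Nat := rdw 40 1099511627775 (Atab_s_0_304 (Nat.shiftRight i 11)) (Nat.land i 2047)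
noncomputable def Btab_s_0_2 (c : Nat) : Nat := @Bool.rec (fun _ => Nat) (Btab_0) (Btab_1) (Nat.ble 1 c)
noncomputable def Btab_s_2_4 (c : Nat) : Nat := @Bool.rec (fun _ => Nat) (Btab_2) (Btab_3) (Nat.ble 3 c)
noncomputable def Btab_s_0_4 (c : Nat) : Nat := @Bool.rec (fun _ => Nat) (Btab_s_0_2 c) (Btab_s_2_4 c) (Nat.ble 2 c)
noncomputable def Btab_s_4_6 (c : Nat) : Nat := @Bool.rec (fun _ => Nat) (Btab_4) (Btab_5) (Nat.ble 5 c)
noncomputable def Btab_s_6_8 (c : Nat) : Nat := @Bool.rec (fun _ => Nat) (Btab_6) (Btab_7) (Nat.ble 7 c)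
noncomputable def Btab_s_4_8 (c : Nat) : Nat := @Bool.rec (fun _ => Nat) (Btab_s_4_6 c) (Btab_s_6_8 c) (Nat.ble 6 c)
noncomputable def Btab_s_0_8 (c : Nat) : Nat := @Bool.rec (fun _ => Nat) (Btab_s_0_4 c) (Btab_s_4_8 c) (Nat.ble 4 c)
noncomputable def Btab_s_8_10 (c : Nat) : Nat := @Bool.rec (fun _ => Nat) (Btab_8) (Btab_9) (Nat.ble 9 c)
noncomputable def Btab_s_10_12 (c : Nat) : Nat := @Bool.rec (fun _ => Nat) (Btab_10) (Btab_11) (Nat.ble 11 c)
noncomputable def Btab_s_8_12 (c : Nat) : Nat := @Bool.rec (fun _ => Nat) (Btab_s_8_10 c) (Btab_s_10_12 c) (Nat.ble 10 c)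
noncomputable def Btab_s_12_14 (c : Nat) : Nat := @Bool.rec (fun _ => Nat) (Btab_12) (Btab_13) (Nat.ble 13 c)
noncomputable def Btab_s_14_16 (c : Nat) : Nat := @Bool.rec (fun _ => Nat) (Btab_14) (Btab_15) (Nat.ble 15 c)
noncomputable def Btab_s_12_16 (c : Nat) : Nat := @Bool.rec (fun _ => Nat) (Btab_s_12_14 c) (Btab_s_14_16 c) (Nat.ble 14 c)
noncomputable def Btab_s_8_16 (c : Nat) : Nat := @Bool.rec (fun _ => Nat) (Btab_s_8_12 c) (Btab_s_12_16 c) (Nat.ble 12 c)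
noncomputable def Btab_s_0_16 (c : Nat) : Nat := @Bool.rec (fun _ => Nat) (Btab_s_0_8 c) (Btab_s_8_16 c) (Nat.ble 8 c)
noncomputable def Btab_s_16_18 (c : Nat) : Nat := @Bool.rec (fun _ => Nat) (Btab_16) (Btab_17) (Nat.ble 17 c)
noncomputable def Btab_s_18_20 (c : Nat) : Nat := @Bool.rec (fun _ => Nat) (Btab_18) (Btab_19) (Nat.ble 19 c)
noncomputable def Btab_s_16_20 (c : Nat) : Nat := @Bool.rec (fun _ => Nat) (Btab_s_16_18 c) (Btab_s_18_20 c) (Nat.ble 18 c)
noncomputable def Btab_s_20_22 (c : Nat) : Nat := @Bool.rec (fun _ => Nat) (Btab_20) (Btab_21) (Nat.ble 21 c)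
noncomputable def Btab_s_22_24 (c : Nat) : Nat := @Bool.rec (fun _ => Nat) (Btab_22) (Btab_23) (Nat.ble 23 c)
noncomputable def Btab_s_20_24 (c : Nat) : Nat := @Bool.rec (fun _ => Nat) (Btab_s_20_22 c) (Btab_s_22_24 c) (Nat.ble 22 c)
noncomputable def Btab_s_16_24 (c : Nat) : Nat := @Bool.rec (fun _ => Nat) (Btab_s_16_20 c) (Btab_s_20_24 c) (Nat.ble 20 c)
noncomputable def Btab_s_24_26 (c : Nat) : Nat := @Bool.rec (fun _ => Nat) (Btab_24) (Btab_25) (Nat.ble 25 c)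
noncomputable def Btab_s_26_28 (c : Nat) : Nat := @Bool.rec (fun _ => Nat) (Btab_26) (Btab_27) (Nat.ble 27 c)
noncomputable def Btab_s_24_28 (c : Nat) : Nat := @Bool.rec (fun _ => Nat) (Btab_s_24_26 c) (Btab_s_26_28 c) (Nat.ble 26 c)
noncomputable def Btab_s_28_30 (c : Nat) : Nat := @Bool.rec (fun _ => Nat) (Btab_28) (Btab_29) (Nat.ble 29 c)
noncomputable def Btab_s_30_32 (c : Nat) : Nat := @Bool.rec (fun _ => Nat) (Btab_30) (Btab_31) (Nat.ble 31 c)
noncomputable def Btab_s_28_32 (c : Nat) : Nat := @Bool.rec (fun _ => Nat) (Btab_s_28_30 c) (Btab_s_30_32 c) (Nat.ble 30 c)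
noncomputable def Btab_s_24_32 (c : Nat) : Nat := @Bool.rec (fun _ => Nat) (Btab_s_24_28 c) (Btab_s_28_32 c) (Nat.ble 28 c)
noncomputable def Btab_s_16_32 (c : Nat) : Nat := @Bool.rec (fun _ => Nat) (Btab_s_16_24 c) (Btab_s_24_32 c) (Nat.ble 24 c)
noncomputable def Btab_s_0_32 (c : Nat) : Nat := @Bool.rec (fun _ => Nat) (Btab_s_0_16 c) (Btab_s_16_32 c) (Nat.ble 16 c)
noncomputable def Btab_s_32_34 (c : Nat) : Nat := @Bool.rec (fun _ => Nat) (Btab_32) (Btab_33) (Nat.ble 33 c)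
noncomputable def Btab_s_34_36 (c : Nat) : Nat := @Bool.rec (fun _ => Nat) (Btab_34) (Btab_35) (Nat.ble 35 c)
noncomputable def Btab_s_32_36 (c : Nat) : Nat := @Bool.rec (fun _ => Nat) (Btab_s_32_34 c) (Btab_s_34_36 c) (Nat.ble 34 c)
noncomputable def Btab_s_36_38 (c : Nat) : Nat := @Bool.rec (fun _ => Nat) (Btab_36) (Btab_37) (Nat.ble 37 c)
noncomputable def Btab_s_38_40 (c : Nat) : Nat := @Bool.rec (fun _ => Nat) (Btab_38) (Btab_39) (Nat.ble 39 c)
noncomputable def Btab_s_36_40 (c : Nat) : Nat := @Bool.rec (fun _ => Nat) (Btab_s_36_38 c) (Btab_s_38_40 c) (Nat.ble 38 c)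
noncomputable def Btab_s_32_40 (c : Nat) : Nat := @Bool.rec (fun _ => Nat) (Btab_s_32_36 c) (Btab_s_36_40 c) (Nat.ble 36 c)
noncomputable def Btab_s_40_42 (c : Nat) : Nat := @Bool.rec (fun _ => Nat) (Btab_40) (Btab_41) (Nat.ble 41 c)
noncomputable def Btab_s_42_44 (c : Nat) : Nat := @Bool.rec (fun _ => Nat) (Btab_42) (Btab_43) (Nat.ble 43 c)
noncomputable def Btab_s_40_44 (c : Nat) : Nat := @Bool.rec (fun _ => Nat) (Btab_s_40_42 c) (Btab_s_42_44 c) (Nat.ble 42 c)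
noncomputable def Btab_s_44_46 (c : Nat) : Nat := @Bool.rec (fun _ => Nat) (Btab_44) (Btab_45) (Nat.ble 45 c)
noncomputable def Btab_s_46_48 (c : Nat) : Nat := @Bool.rec (fun _ => Nat) (Btab_46) (Btab_47) (Nat.ble 47 c)
noncomputable def Btab_s_44_48 (c : Nat) : Nat := @Bool.rec (fun _ => Nat) (Btab_s_44_46 c) (Btab_s_46_48 c) (Nat.ble 46 c)
noncomputable def Btab_s_40_48 (c : Nat) : Nat := @Bool.rec (fun _ => Nat) (Btab_s_40_44 c) (Btab_s_44_48 c) (Nat.ble 44 c)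
noncomputable def Btab_s_32_48 (c : Nat) : Nat := @Bool.rec (fun _ => Nat) (Btab_s_32_40 c) (Btab_s_40_48 c) (Nat.ble 40 c)
noncomputable def Btab_s_48_50 (c : Nat) : Nat := @Bool.rec (fun _ => Nat) (Btab_48) (Btab_49) (Nat.ble 49 c)
noncomputable def Btab_s_50_52 (c : Nat) : Nat := @Bool.rec (fun _ => Nat) (Btab_50) (Btab_51) (Nat.ble 51 c)
noncomputable def Btab_s_48_52 (c : Nat) : Nat := @Bool.rec (fun _ => Nat) (Btab_s_48_50 c) (Btab_s_50_52 c) (Nat.ble 50 c)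
noncomputable def Btab_s_52_54 (c : Nat) : Nat := @Bool.rec (fun _ => Nat) (Btab_52) (Btab_53) (Nat.ble 53 c)
noncomputable def Btab_s_54_56 (c : Nat) : Nat := @Bool.rec (fun _ => Nat) (Btab_54) (Btab_55) (Nat.ble 55 c)
noncomputable def Btab_s_52_56 (c : Nat) : Nat := @Bool.rec (fun _ => Nat) (Btab_s_52_54 c) (Btab_s_54_56 c) (Nat.ble 54 c)
noncomputable def Btab_s_48_56 (c : Nat) : Nat := @Bool.rec (fun _ => Nat) (Btab_s_48_52 c) (Btab_s_52_56 c) (Nat.ble 52 c)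
noncomputable def Btab_s_56_58 (c : Nat) : Nat := @Bool.rec (fun _ => Nat) (Btab_56) (Btab_57) (Nat.ble 57 c)
noncomputable def Btab_s_58_60 (c : Nat) : Nat := @Bool.rec (fun _ => Nat) (Btab_58) (Btab_59) (Nat.ble 59 c)
noncomputable def Btab_s_56_60 (c : Nat) : Nat := @Bool.rec (fun _ => Nat) (Btab_s_56_58 c) (Btab_s_58_60 c) (Nat.ble 58 c)
noncomputable def Btab_s_60_62 (c : Nat) : Nat := @Bool.rec (fun _ => Nat) (Btab_60) (Btab_61) (Nat.ble 61 c)
noncomputable def Btab_s_63_65 (c : Nat) : Nat := @Bool.rec (fun _ => Nat) (Btab_63) (Btab_64) (Nat.ble 64 c)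
noncomputable def Btab_s_62_65 (c : Nat) : Nat := @Bool.rec (fun _ => Nat) (Btab_62) (Btab_s_63_65 c) (Nat.ble 63 c)
noncomputable def Btab_s_60_65 (c : Nat) : Nat := @Bool.rec (fun _ => Nat) (Btab_s_60_62 c) (Btab_s_62_65 c) (Nat.ble 62 c)
noncomputable def Btab_s_56_65 (c : Nat) : Nat := @Bool.rec (fun _ => Nat) (Btab_s_56_60 c) (Btab_s_60_65 c) (Nat.ble 60 c)
noncomputable def Btab_s_48_65 (c : Nat) : Nat := @Bool.rec (fun _ => Nat) (Btab_s_48_56 c) (Btab_s_56_65 c) (Nat.ble 56 c)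
noncomputable def Btab_s_32_65 (c : Nat) : Nat := @Bool.rec (fun _ => Nat) (Btab_s_32_48 c) (Btab_s_48_65 c) (Nat.ble 48 c)
noncomputable def Btab_s_0_65 (c : Nat) : Nat := @Bool.rec (fun _ => Nat) (Btab_s_0_32 c) (Btab_s_32_65 c) (Nat.ble 32 c)
noncomputable def Btab_s_65_67 (c : Nat) : Nat := @Bool.rec (fun _ => Nat) (Btab_65) (Btab_66) (Nat.ble 66 c)
noncomputable def Btab_s_67_69 (c : Nat) : Nat := @Bool.rec (fun _ => Nat) (Btab_67) (Btab_68) (Nat.ble 68 c)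
noncomputable def Btab_s_65_69 (c : Nat) : Nat := @Bool.rec (fun _ => Nat) (Btab_s_65_67 c) (Btab_s_67_69 c) (Nat.ble 67 c)
noncomputable def Btab_s_69_71 (c : Nat) : Nat := @Bool.rec (fun _ => Nat) (Btab_69) (Btab_70) (Nat.ble 70 c)
noncomputable def Btab_s_71_73 (c : Nat) : Nat := @Bool.rec (fun _ => Nat) (Btab_71) (Btab_72) (Nat.ble 72 c)
noncomputable def Btab_s_69_73 (c : Nat) : Nat := @Bool.rec (fun _ => Nat) (Btab_s_69_71 c) (Btab_s_71_73 c) (Nat.ble 71 c)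
noncomputable def Btab_s_65_73 (c : Nat) : Nat := @Bool.rec (fun _ => Nat) (Btab_s_65_69 c) (Btab_s_69_73 c) (Nat.ble 69 c)
noncomputable def Btab_s_73_75 (c : Nat) : Nat := @Bool.rec (fun _ => Nat) (Btab_73) (Btab_74) (Nat.ble 74 c)
noncomputable def Btab_s_75_77 (c : Nat) : Nat := @Bool.rec (fun _ => Nat) (Btab_75) (Btab_76) (Nat.ble 76 c)
noncomputable def Btab_s_73_77 (c : Nat) : Nat := @Bool.rec (fun _ => Nat) (Btab_s_73_75 c) (Btab_s_75_77 c) (Nat.ble 75 c)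
noncomputable def Btab_s_77_79 (c : Nat) : Nat := @Bool.rec (fun _ => Nat) (Btab_77) (Btab_78) (Nat.ble 78 c)
noncomputable def Btab_s_79_81 (c : Nat) : Nat := @Bool.rec (fun _ => Nat) (Btab_79) (Btab_80) (Nat.ble 80 c)
noncomputable def Btab_s_77_81 (c : Nat) : Nat := @Bool.rec (fun _ => Nat) (Btab_s_77_79 c) (Btab_s_79_81 c) (Nat.ble 79 c)
noncomputable def Btab_s_73_81 (c : Nat) : Nat := @Bool.rec (fun _ => Nat) (Btab_s_73_77 c) (Btab_s_77_81 c) (Nat.ble 77 c)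
noncomputable def Btab_s_65_81 (c : Nat) : Nat := @Bool.rec (fun _ => Nat) (Btab_s_65_73 c) (Btab_s_73_81 c) (Nat.ble 73 c)
noncomputable def Btab_s_81_83 (c : Nat) : Nat := @Bool.rec (fun _ => Nat) (Btab_81) (Btab_82) (Nat.ble 82 c)
noncomputable def Btab_s_83_85 (c : Nat) : Nat := @Bool.rec (fun _ => Nat) (Btab_83) (Btab_84) (Nat.ble 84 c)
noncomputable def Btab_s_81_85 (c : Nat) : Nat := @Bool.rec (fun _ => Nat) (Btab_s_81_83 c) (Btab_s_83_85 c) (Nat.ble 83 c)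
noncomputable def Btab_s_85_87 (c : Nat) : Nat := @Bool.rec (fun _ => Nat) (Btab_85) (Btab_86) (Nat.ble 86 c)
noncomputable def Btab_s_87_89 (c : Nat) : Nat := @Bool.rec (fun _ => Nat) (Btab_87) (Btab_88) (Nat.ble 88 c)
noncomputable def Btab_s_85_89 (c : Nat) : Nat := @Bool.rec (fun _ => Nat) (Btab_s_85_87 c) (Btab_s_87_89 c) (Nat.ble 87 c)
noncomputable def Btab_s_81_89 (c : Nat) : Nat := @Bool.rec (fun _ => Nat) (Btab_s_81_85 c) (Btab_s_85_89 c) (Nat.ble 85 c)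
noncomputable def Btab_s_89_91 (c : Nat) : Nat := @Bool.rec (fun _ => Nat) (Btab_89) (Btab_90) (Nat.ble 90 c)
noncomputable def Btab_s_91_93 (c : Nat) : Nat := @Bool.rec (fun _ => Nat) (Btab_91) (Btab_92) (Nat.ble 92 c)
noncomputable def Btab_s_89_93 (c : Nat) : Nat := @Bool.rec (fun _ => Nat) (Btab_s_89_91 c) (Btab_s_91_93 c) (Nat.ble 91 c)
noncomputable def Btab_s_93_95 (c : Nat) : Nat := @Bool.rec (fun _ => Nat) (Btab_93) (Btab_94) (Nat.ble 94 c)
noncomputable def Btab_s_96_98 (c : Nat) : Nat := @Bool.rec (fun _ => Nat) (Btab_96) (Btab_97) (Nat.ble 97 c)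
noncomputable def Btab_s_95_98 (c : Nat) : Nat := @Bool.rec (fun _ => Nat) (Btab_95) (Btab_s_96_98 c) (Nat.ble 96 c)
noncomputable def Btab_s_93_98 (c : Nat) : Nat := @Bool.rec (fun _ => Nat) (Btab_s_93_95 c) (Btab_s_95_98 c) (Nat.ble 95 c)
noncomputable def Btab_s_89_98 (c : Nat) : Nat := @Bool.rec (fun _ => Nat) (Btab_s_89_93 c) (Btab_s_93_98 c) (Nat.ble 93 c)
noncomputable def Btab_s_81_98 (c : Nat) : Nat := @Bool.rec (fun _ => Nat) (Btab_s_81_89 c) (Btab_s_89_98 c) (Nat.ble 89 c)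
noncomputable def Btab_s_65_98 (c : Nat) : Nat := @Bool.rec (fun _ => Nat) (Btab_s_65_81 c) (Btab_s_81_98 c) (Nat.ble 81 c)
noncomputable def Btab_s_98_100 (c : Nat) : Nat := @Bool.rec (fun _ => Nat) (Btab_98) (Btab_99) (Nat.ble 99 c)
noncomputable def Btab_s_100_102 (c : Nat) : Nat := @Bool.rec (fun _ => Nat) (Btab_100) (Btab_101) (Nat.ble 101 c)
noncomputable def Btab_s_98_102 (c : Nat) : Nat := @Bool.rec (fun _ => Nat) (Btab_s_98_100 c) (Btab_s_100_102 c) (Nat.ble 100 c)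
noncomputable def Btab_s_102_104 (c : Nat) : Nat := @Bool.rec (fun _ => Nat) (Btab_102) (Btab_103) (Nat.ble 103 c)
noncomputable def Btab_s_104_106 (c : Nat) : Nat := @Bool.rec (fun _ => Nat) (Btab_104) (Btab_105) (Nat.ble 105 c)
noncomputable def Btab_s_102_106 (c : Nat) : Nat := @Bool.rec (fun _ => Nat) (Btab_s_102_104 c) (Btab_s_104_106 c) (Nat.ble 104 c)
noncomputable def Btab_s_98_106 (c : Nat) : Nat := @Bool.rec (fun _ => Nat) (Btab_s_98_102 c) (Btab_s_102_106 c) (Nat.ble 102 c)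
noncomputable def Btab_s_106_108 (c : Nat) : Nat := @Bool.rec (fun _ => Nat) (Btab_106) (Btab_107) (Nat.ble 107 c)
noncomputable def Btab_s_108_110 (c : Nat) : Nat := @Bool.rec (fun _ => Nat) (Btab_108) (Btab_109) (Nat.ble 109 c)
noncomputable def Btab_s_106_110 (c : Nat) : Nat := @Bool.rec (fun _ => Nat) (Btab_s_106_108 c) (Btab_s_108_110 c) (Nat.ble 108 c)
noncomputable def Btab_s_110_112 (c : Nat) : Nat := @Bool.rec (fun _ => Nat) (Btab_110) (Btab_111) (Nat.ble 111 c)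
noncomputable def Btab_s_112_114 (c : Nat) : Nat := @Bool.rec (fun _ => Nat) (Btab_112) (Btab_113) (Nat.ble 113 c)
noncomputable def Btab_s_110_114 (c : Nat) : Nat := @Bool.rec (fun _ => Nat) (Btab_s_110_112 c) (Btab_s_112_114 c) (Nat.ble 112 c)
noncomputable def Btab_s_106_114 (c : Nat) : Nat := @Bool.rec (fun _ => Nat) (Btab_s_106_110 c) (Btab_s_110_114 c) (Nat.ble 110 c)
noncomputable def Btab_s_98_114 (c : Nat) : Nat := @Bool.rec (fun _ => Nat) (Btab_s_98_106 c) (Btab_s_106_114 c) (Nat.ble 106 c)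
noncomputable def Btab_s_114_116 (c : Nat) : Nat := @Bool.rec (fun _ => Nat) (Btab_114) (Btab_115) (Nat.ble 115 c)
noncomputable def Btab_s_116_118 (c : Nat) : Nat := @Bool.rec (fun _ => Nat) (Btab_116) (Btab_117) (Nat.ble 117 c)
noncomputable def Btab_s_114_118 (c : Nat) : Nat := @Bool.rec (fun _ => Nat) (Btab_s_114_116 c) (Btab_s_116_118 c) (Nat.ble 116 c)
noncomputable def Btab_s_118_120 (c : Nat) : Nat := @Bool.rec (fun _ => Nat) (Btab_118) (Btab_119) (Nat.ble 119 c)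
noncomputable def Btab_s_120_122 (c : Nat) : Nat := @Bool.rec (fun _ => Nat) (Btab_120) (Btab_121) (Nat.ble 121 c)
noncomputable def Btab_s_118_122 (c : Nat) : Nat := @Bool.rec (fun _ => Nat) (Btab_s_118_120 c) (Btab_s_120_122 c) (Nat.ble 120 c)
noncomputable def Btab_s_114_122 (c : Nat) : Nat := @Bool.rec (fun _ => Nat) (Btab_s_114_118 c) (Btab_s_118_122 c) (Nat.ble 118 c)
noncomputable def Btab_s_122_124 (c : Nat) : Nat := @Bool.rec (fun _ => Nat) (Btab_122) (Btab_123) (Nat.ble 123 c)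
noncomputable def Btab_s_124_126 (c : Nat) : Nat := @Bool.rec (fun _ => Nat) (Btab_124) (Btab_125) (Nat.ble 125 c)
noncomputable def Btab_s_122_126 (c : Nat) : Nat := @Bool.rec (fun _ => Nat) (Btab_s_122_124 c) (Btab_s_124_126 c) (Nat.ble 124 c)
noncomputable def Btab_s_126_128 (c : Nat) : Nat := @Bool.rec (fun _ => Nat) (Btab_126) (Btab_127) (Nat.ble 127 c)
noncomputable def Btab_s_129_131 (c : Nat) : Nat := @Bool.rec (fun _ => Nat) (Btab_129) (Btab_130) (Nat.ble 130 c)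
noncomputable def Btab_s_128_131 (c : Nat) : Nat := @Bool.rec (fun _ => Nat) (Btab_128) (Btab_s_129_131 c) (Nat.ble 129 c)
noncomputable def Btab_s_126_131 (c : Nat) : Nat := @Bool.rec (fun _ => Nat) (Btab_s_126_128 c) (Btab_s_128_131 c) (Nat.ble 128 c)
noncomputable def Btab_s_122_131 (c : Nat) : Nat := @Bool.rec (fun _ => Nat) (Btab_s_122_126 c) (Btab_s_126_131 c) (Nat.ble 126 c)
noncomputable def Btab_s_114_131 (c : Nat) : Nat := @Bool.rec (fun _ => Nat) (Btab_s_114_122 c) (Btab_s_122_131 c) (Nat.ble 122 c)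
noncomputable def Btab_s_98_131 (c : Nat) : Nat := @Bool.rec (fun _ => Nat) (Btab_s_98_114 c) (Btab_s_114_131 c) (Nat.ble 114 c)
noncomputable def Btab_s_65_131 (c : Nat) : Nat := @Bool.rec (fun _ => Nat) (Btab_s_65_98 c) (Btab_s_98_131 c) (Nat.ble 98 c)
noncomputable def Btab_s_0_131 (c : Nat) : Nat := @Bool.rec (fun _ => Nat) (Btab_s_0_65 c) (Btab_s_65_131 c) (Nat.ble 65 c)
noncomputable def Btab_s_131_133 (c : Nat) : Nat := @Bool.rec (fun _ => Nat) (Btab_131) (Btab_132) (Nat.ble 132 c)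
noncomputable def Btab_s_133_135 (c : Nat) : Nat := @Bool.rec (fun _ => Nat) (Btab_133) (Btab_134) (Nat.ble 134 c)
noncomputable def Btab_s_131_135 (c : Nat) : Nat := @Bool.rec (fun _ => Nat) (Btab_s_131_133 c) (Btab_s_133_135 c) (Nat.ble 133 c)
noncomputable def Btab_s_135_137 (c : Nat) : Nat := @Bool.rec (fun _ => Nat) (Btab_135) (Btab_136) (Nat.ble 136 c)
noncomputable def Btab_s_137_139 (c : Nat) : Nat := @Bool.rec (fun _ => Nat) (Btab_137) (Btab_138) (Nat.ble 138 c)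
noncomputable def Btab_s_135_139 (c : Nat) : Nat := @Bool.rec (fun _ => Nat) (Btab_s_135_137 c) (Btab_s_137_139 c) (Nat.ble 137 c)
noncomputable def Btab_s_131_139 (c : Nat) : Nat := @Bool.rec (fun _ => Nat) (Btab_s_131_135 c) (Btab_s_135_139 c) (Nat.ble 135 c)
noncomputable def Btab_s_139_141 (c : Nat) : Nat := @Bool.rec (fun _ => Nat) (Btab_139) (Btab_140) (Nat.ble 140 c)
noncomputable def Btab_s_141_143 (c : Nat) : Nat := @Bool.rec (fun _ => Nat) (Btab_141) (Btab_142) (Nat.ble 142 c)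
noncomputable def Btab_s_139_143 (c : Nat) : Nat := @Bool.rec (fun _ => Nat) (Btab_s_139_141 c) (Btab_s_141_143 c) (Nat.ble 141 c)
noncomputable def Btab_s_143_145 (c : Nat) : Nat := @Bool.rec (fun _ => Nat) (Btab_143) (Btab_144) (Nat.ble 144 c)
noncomputable def Btab_s_145_147 (c : Nat) : Nat := @Bool.rec (fun _ => Nat) (Btab_145) (Btab_146) (Nat.ble 146 c)
noncomputable def Btab_s_143_147 (c : Nat) : Nat := @Bool.rec (fun _ => Nat) (Btab_s_143_145 c) (Btab_s_145_147 c) (Nat.ble 145 c)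
noncomputable def Btab_s_139_147 (c : Nat) : Nat := @Bool.rec (fun _ => Nat) (Btab_s_139_143 c) (Btab_s_143_147 c) (Nat.ble 143 c)
noncomputable def Btab_s_131_147 (c : Nat) : Nat := @Bool.rec (fun _ => Nat) (Btab_s_131_139 c) (Btab_s_139_147 c) (Nat.ble 139 c)
noncomputable def Btab_s_147_149 (c : Nat) : Nat := @Bool.rec (fun _ => Nat) (Btab_147) (Btab_148) (Nat.ble 148 c)
noncomputable def Btab_s_149_151 (c : Nat) : Nat := @Bool.rec (fun _ => Nat) (Btab_149) (Btab_150) (Nat.ble 150 c)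
noncomputable def Btab_s_147_151 (c : Nat) : Nat := @Bool.rec (fun _ => Nat) (Btab_s_147_149 c) (Btab_s_149_151 c) (Nat.ble 149 c)
noncomputable def Btab_s_151_153 (c : Nat) : Nat := @Bool.rec (fun _ => Nat) (Btab_151) (Btab_152) (Nat.ble 152 c)
noncomputable def Btab_s_153_155 (c : Nat) : Nat := @Bool.rec (fun _ => Nat) (Btab_153) (Btab_154) (Nat.ble 154 c)
noncomputable def Btab_s_151_155 (c : Nat) : Nat := @Bool.rec (fun _ => Nat) (Btab_s_151_153 c) (Btab_s_153_155 c) (Nat.ble 153 c)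
noncomputable def Btab_s_147_155 (c : Nat) : Nat := @Bool.rec (fun _ => Nat) (Btab_s_147_151 c) (Btab_s_151_155 c) (Nat.ble 151 c)
noncomputable def Btab_s_155_157 (c : Nat) : Nat := @Bool.rec (fun _ => Nat) (Btab_155) (Btab_156) (Nat.ble 156 c)
noncomputable def Btab_s_157_159 (c : Nat) : Nat := @Bool.rec (fun _ => Nat) (Btab_157) (Btab_158) (Nat.ble 158 c)
noncomputable def Btab_s_155_159 (c : Nat) : Nat := @Bool.rec (fun _ => Nat) (Btab_s_155_157 c) (Btab_s_157_159 c) (Nat.ble 157 c)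
noncomputable def Btab_s_159_161 (c : Nat) : Nat := @Bool.rec (fun _ => Nat) (Btab_159) (Btab_160) (Nat.ble 160 c)
noncomputable def Btab_s_162_164 (c : Nat) : Nat := @Bool.rec (fun _ => Nat) (Btab_162) (Btab_163) (Nat.ble 163 c)
noncomputable def Btab_s_161_164 (c : Nat) : Nat := @Bool.rec (fun _ => Nat) (Btab_161) (Btab_s_162_164 c) (Nat.ble 162 c)
noncomputable def Btab_s_159_164 (c : Nat) : Nat := @Bool.rec (fun _ => Nat) (Btab_s_159_161 c) (Btab_s_161_164 c) (Nat.ble 161 c)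
noncomputable def Btab_s_155_164 (c : Nat) : Nat := @Bool.rec (fun _ => Nat) (Btab_s_155_159 c) (Btab_s_159_164 c) (Nat.ble 159 c)
noncomputable def Btab_s_147_164 (c : Nat) : Nat := @Bool.rec (fun _ => Nat) (Btab_s_147_155 c) (Btab_s_155_164 c) (Nat.ble 155 c)
noncomputable def Btab_s_131_164 (c : Nat) : Nat := @Bool.rec (fun _ => Nat) (Btab_s_131_147 c) (Btab_s_147_164 c) (Nat.ble 147 c)
noncomputable def Btab_s_164_166 (c : Nat) : Nat := @Bool.rec (fun _ => Nat) (Btab_164) (Btab_165) (Nat.ble 165 c)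
noncomputable def Btab_s_166_168 (c : Nat) : Nat := @Bool.rec (fun _ => Nat) (Btab_166) (Btab_167) (Nat.ble 167 c)
noncomputable def Btab_s_164_168 (c : Nat) : Nat := @Bool.rec (fun _ => Nat) (Btab_s_164_166 c) (Btab_s_166_168 c) (Nat.ble 166 c)
noncomputable def Btab_s_168_170 (c : Nat) : Nat := @Bool.rec (fun _ => Nat) (Btab_168) (Btab_169) (Nat.ble 169 c)
noncomputable def Btab_s_170_172 (c : Nat) : Nat := @Bool.rec (fun _ => Nat) (Btab_170) (Btab_171) (Nat.ble 171 c)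
noncomputable def Btab_s_168_172 (c : Nat) : Nat := @Bool.rec (fun _ => Nat) (Btab_s_168_170 c) (Btab_s_170_172 c) (Nat.ble 170 c)
noncomputable def Btab_s_164_172 (c : Nat) : Nat := @Bool.rec (fun _ => Nat) (Btab_s_164_168 c) (Btab_s_168_172 c) (Nat.ble 168 c)
noncomputable def Btab_s_172_174 (c : Nat) : Nat := @Bool.rec (fun _ => Nat) (Btab_172) (Btab_173) (Nat.ble 173 c)
noncomputable def Btab_s_174_176 (c : Nat) : Nat := @Bool.rec (fun _ => Nat) (Btab_174) (Btab_175) (Nat.ble 175 c)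
noncomputable def Btab_s_172_176 (c : Nat) : Nat := @Bool.rec (fun _ => Nat) (Btab_s_172_174 c) (Btab_s_174_176 c) (Nat.ble 174 c)
noncomputable def Btab_s_176_178 (c : Nat) : Nat := @Bool.rec (fun _ => Nat) (Btab_176) (Btab_177) (Nat.ble 177 c)
noncomputable def Btab_s_178_180 (c : Nat) : Nat := @Bool.rec (fun _ => Nat) (Btab_178) (Btab_179) (Nat.ble 179 c)
noncomputable def Btab_s_176_180 (c : Nat) : Nat := @Bool.rec (fun _ => Nat) (Btab_s_176_178 c) (Btab_s_178_180 c) (Nat.ble 178 c)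
noncomputable def Btab_s_172_180 (c : Nat) : Nat := @Bool.rec (fun _ => Nat) (Btab_s_172_176 c) (Btab_s_176_180 c) (Nat.ble 176 c)
noncomputable def Btab_s_164_180 (c : Nat) : Nat := @Bool.rec (fun _ => Nat) (Btab_s_164_172 c) (Btab_s_172_180 c) (Nat.ble 172 c)
noncomputable def Btab_s_180_182 (c : Nat) : Nat := @Bool.rec (fun _ => Nat) (Btab_180) (Btab_181) (Nat.ble 181 c)
noncomputable def Btab_s_182_184 (c : Nat) : Nat := @Bool.rec (fun _ => Nat) (Btab_182) (Btab_183) (Nat.ble 183 c)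
noncomputable def Btab_s_180_184 (c : Nat) : Nat := @Bool.rec (fun _ => Nat) (Btab_s_180_182 c) (Btab_s_182_184 c) (Nat.ble 182 c)
noncomputable def Btab_s_184_186 (c : Nat) : Nat := @Bool.rec (fun _ => Nat) (Btab_184) (Btab_185) (Nat.ble 185 c)
noncomputable def Btab_s_186_188 (c : Nat) : Nat := @Bool.rec (fun _ => Nat) (Btab_186) (Btab_187) (Nat.ble 187 c)
noncomputable def Btab_s_184_188 (c : Nat) : Nat := @Bool.rec (fun _ => Nat) (Btab_s_184_186 c) (Btab_s_186_188 c) (Nat.ble 186 c)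
noncomputable def Btab_s_180_188 (c : Nat) : Nat := @Bool.rec (fun _ => Nat) (Btab_s_180_184 c) (Btab_s_184_188 c) (Nat.ble 184 c)
noncomputable def Btab_s_188_190 (c : Nat) : Nat := @Bool.rec (fun _ => Nat) (Btab_188) (Btab_189) (Nat.ble 189 c)
noncomputable def Btab_s_190_192 (c : Nat) : Nat := @Bool.rec (fun _ => Nat) (Btab_190) (Btab_191) (Nat.ble 191 c)
noncomputable def Btab_s_188_192 (c : Nat) : Nat := @Bool.rec (fun _ => Nat) (Btab_s_188_190 c) (Btab_s_190_192 c) (Nat.ble 190 c)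
noncomputable def Btab_s_192_194 (c : Nat) : Nat := @Bool.rec (fun _ => Nat) (Btab_192) (Btab_193) (Nat.ble 193 c)
noncomputable def Btab_s_195_197 (c : Nat) : Nat := @Bool.rec (fun _ => Nat) (Btab_195) (Btab_196) (Nat.ble 196 c)
noncomputable def Btab_s_194_197 (c : Nat) : Nat := @Bool.rec (fun _ => Nat) (Btab_194) (Btab_s_195_197 c) (Nat.ble 195 c)
noncomputable def Btab_s_192_197 (c : Nat) : Nat := @Bool.rec (fun _ => Nat) (Btab_s_192_194 c) (Btab_s_194_197 c) (Nat.ble 194 c)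
noncomputable def Btab_s_188_197 (c : Nat) : Nat := @Bool.rec (fun _ => Nat) (Btab_s_188_192 c) (Btab_s_192_197 c) (Nat.ble 192 c)
noncomputable def Btab_s_180_197 (c : Nat) : Nat := @Bool.rec (fun _ => Nat) (Btab_s_180_188 c) (Btab_s_188_197 c) (Nat.ble 188 c)
noncomputable def Btab_s_164_197 (c : Nat) : Nat := @Bool.rec (fun _ => Nat) (Btab_s_164_180 c) (Btab_s_180_197 c) (Nat.ble 180 c)
noncomputable def Btab_s_131_197 (c : Nat) : Nat := @Bool.rec (fun _ => Nat) (Btab_s_131_164 c) (Btab_s_164_197 c) (Nat.ble 164 c)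
noncomputable def Btab_s_197_199 (c : Nat) : Nat := @Bool.rec (fun _ => Nat) (Btab_197) (Btab_198) (Nat.ble 198 c)
noncomputable def Btab_s_199_201 (c : Nat) : Nat := @Bool.rec (fun _ => Nat) (Btab_199) (Btab_200) (Nat.ble 200 c)
noncomputable def Btab_s_197_201 (c : Nat) : Nat := @Bool.rec (fun _ => Nat) (Btab_s_197_199 c) (Btab_s_199_201 c) (Nat.ble 199 c)
noncomputable def Btab_s_201_203 (c : Nat) : Nat := @Bool.rec (fun _ => Nat) (Btab_201) (Btab_202) (Nat.ble 202 c)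
noncomputable def Btab_s_203_205 (c : Nat) : Nat := @Bool.rec (fun _ => Nat) (Btab_203) (Btab_204) (Nat.ble 204 c)
noncomputable def Btab_s_201_205 (c : Nat) : Nat := @Bool.rec (fun _ => Nat) (Btab_s_201_203 c) (Btab_s_203_205 c) (Nat.ble 203 c)
noncomputable def Btab_s_197_205 (c : Nat) : Nat := @Bool.rec (fun _ => Nat) (Btab_s_197_201 c) (Btab_s_201_205 c) (Nat.ble 201 c)
noncomputable def Btab_s_205_207 (c : Nat) : Nat := @Bool.rec (fun _ => Nat) (Btab_205) (Btab_206) (Nat.ble 206 c)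
noncomputable def Btab_s_207_209 (c : Nat) : Nat := @Bool.rec (fun _ => Nat) (Btab_207) (Btab_208) (Nat.ble 208 c)
noncomputable def Btab_s_205_209 (c : Nat) : Nat := @Bool.rec (fun _ => Nat) (Btab_s_205_207 c) (Btab_s_207_209 c) (Nat.ble 207 c)
noncomputable def Btab_s_209_211 (c : Nat) : Nat := @Bool.rec (fun _ => Nat) (Btab_209) (Btab_210) (Nat.ble 210 c)
noncomputable def Btab_s_211_213 (c : Nat) : Nat := @Bool.rec (fun _ => Nat) (Btab_211) (Btab_212) (Nat.ble 212 c)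
noncomputable def Btab_s_209_213 (c : Nat) : Nat := @Bool.rec (fun _ => Nat) (Btab_s_209_211 c) (Btab_s_211_213 c) (Nat.ble 211 c)
noncomputable def Btab_s_205_213 (c : Nat) : Nat := @Bool.rec (fun _ => Nat) (Btab_s_205_209 c) (Btab_s_209_213 c) (Nat.ble 209 c)
noncomputable def Btab_s_197_213 (c : Nat) : Nat := @Bool.rec (fun _ => Nat) (Btab_s_197_205 c) (Btab_s_205_213 c) (Nat.ble 205 c)
noncomputable def Btab_s_213_215 (c : Nat) : Nat := @Bool.rec (fun _ => Nat) (Btab_213) (Btab_214) (Nat.ble 214 c)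
noncomputable def Btab_s_215_217 (c : Nat) : Nat := @Bool.rec (fun _ => Nat) (Btab_215) (Btab_216) (Nat.ble 216 c)
noncomputable def Btab_s_213_217 (c : Nat) : Nat := @Bool.rec (fun _ => Nat) (Btab_s_213_215 c) (Btab_s_215_217 c) (Nat.ble 215 c)
noncomputable def Btab_s_217_219 (c : Nat) : Nat := @Bool.rec (fun _ => Nat) (Btab_217) (Btab_218) (Nat.ble 218 c)
noncomputable def Btab_s_219_221 (c : Nat) : Nat := @Bool.rec (fun _ => Nat) (Btab_219) (Btab_220) (Nat.ble 220 c)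
noncomputable def Btab_s_217_221 (c : Nat) : Nat := @Bool.rec (fun _ => Nat) (Btab_s_217_219 c) (Btab_s_219_221 c) (Nat.ble 219 c)
noncomputable def Btab_s_213_221 (c : Nat) : Nat := @Bool.rec (fun _ => Nat) (Btab_s_213_217 c) (Btab_s_217_221 c) (Nat.ble 217 c)
noncomputable def Btab_s_221_223 (c : Nat) : Nat := @Bool.rec (fun _ => Nat) (Btab_221) (Btab_222) (Nat.ble 222 c)
noncomputable def Btab_s_223_225 (c : Nat) : Nat := @Bool.rec (fun _ => Nat) (Btab_223) (Btab_224) (Nat.ble 224 c)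
noncomputable def Btab_s_221_225 (c : Nat) : Nat := @Bool.rec (fun _ => Nat) (Btab_s_221_223 c) (Btab_s_223_225 c) (Nat.ble 223 c)
noncomputable def Btab_s_225_227 (c : Nat) : Nat := @Bool.rec (fun _ => Nat) (Btab_225) (Btab_226) (Nat.ble 226 c)
noncomputable def Btab_s_228_230 (c : Nat) : Nat := @Bool.rec (fun _ => Nat) (Btab_228) (Btab_229) (Nat.ble 229 c)
noncomputable def Btab_s_227_230 (c : Nat) : Nat := @Bool.rec (fun _ => Nat) (Btab_227) (Btab_s_228_230 c) (Nat.ble 228 c)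
noncomputable def Btab_s_225_230 (c : Nat) : Nat := @Bool.rec (fun _ => Nat) (Btab_s_225_227 c) (Btab_s_227_230 c) (Nat.ble 227 c)
noncomputable def Btab_s_221_230 (c : Nat) : Nat := @Bool.rec (fun _ => Nat) (Btab_s_221_225 c) (Btab_s_225_230 c) (Nat.ble 225 c)
noncomputable def Btab_s_213_230 (c : Nat) : Nat := @Bool.rec (fun _ => Nat) (Btab_s_213_221 c) (Btab_s_221_230 c) (Nat.ble 221 c)
noncomputable def Btab_s_197_230 (c : Nat) : Nat := @Bool.rec (fun _ => Nat) (Btab_s_197_213 c) (Btab_s_213_230 c) (Nat.ble 213 c)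
noncomputable def Btab_s_230_232 (c : Nat) : Nat := @Bool.rec (fun _ => Nat) (Btab_230) (Btab_231) (Nat.ble 231 c)
noncomputable def Btab_s_232_234 (c : Nat) : Nat := @Bool.rec (fun _ => Nat) (Btab_232) (Btab_233) (Nat.ble 233 c)
noncomputable def Btab_s_230_234 (c : Nat) : Nat := @Bool.rec (fun _ => Nat) (Btab_s_230_232 c) (Btab_s_232_234 c) (Nat.ble 232 c)
noncomputable def Btab_s_234_236 (c : Nat) : Nat := @Bool.rec (fun _ => Nat) (Btab_234) (Btab_235) (Nat.ble 235 c)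
noncomputable def Btab_s_236_238 (c : Nat) : Nat := @Bool.rec (fun _ => Nat) (Btab_236) (Btab_237) (Nat.ble 237 c)
noncomputable def Btab_s_234_238 (c : Nat) : Nat := @Bool.rec (fun _ => Nat) (Btab_s_234_236 c) (Btab_s_236_238 c) (Nat.ble 236 c)
noncomputable def Btab_s_230_238 (c : Nat) : Nat := @Bool.rec (fun _ => Nat) (Btab_s_230_234 c) (Btab_s_234_238 c) (Nat.ble 234 c)
noncomputable def Btab_s_238_240 (c : Nat) : Nat := @Bool.rec (fun _ => Nat) (Btab_238) (Btab_239) (Nat.ble 239 c)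
noncomputable def Btab_s_240_242 (c : Nat) : Nat := @Bool.rec (fun _ => Nat) (Btab_240) (Btab_241) (Nat.ble 241 c)
noncomputable def Btab_s_238_242 (c : Nat) : Nat := @Bool.rec (fun _ => Nat) (Btab_s_238_240 c) (Btab_s_240_242 c) (Nat.ble 240 c)
noncomputable def Btab_s_242_244 (c : Nat) : Nat := @Bool.rec (fun _ => Nat) (Btab_242) (Btab_243) (Nat.ble 243 c)
noncomputable def Btab_s_244_246 (c : Nat) : Nat := @Bool.rec (fun _ => Nat) (Btab_244) (Btab_245) (Nat.ble 245 c)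
noncomputable def Btab_s_242_246 (c : Nat) : Nat := @Bool.rec (fun _ => Nat) (Btab_s_242_244 c) (Btab_s_244_246 c) (Nat.ble 244 c)
noncomputable def Btab_s_238_246 (c : Nat) : Nat := @Bool.rec (fun _ => Nat) (Btab_s_238_242 c) (Btab_s_242_246 c) (Nat.ble 242 c)
noncomputable def Btab_s_230_246 (c : Nat) : Nat := @Bool.rec (fun _ => Nat) (Btab_s_230_238 c) (Btab_s_238_246 c) (Nat.ble 238 c)
noncomputable def Btab_s_246_248 (c : Nat) : Nat := @Bool.rec (fun _ => Nat) (Btab_246) (Btab_247) (Nat.ble 247 c)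
noncomputable def Btab_s_248_250 (c : Nat) : Nat := @Bool.rec (fun _ => Nat) (Btab_248) (Btab_249) (Nat.ble 249 c)
noncomputable def Btab_s_246_250 (c : Nat) : Nat := @Bool.rec (fun _ => Nat) (Btab_s_246_248 c) (Btab_s_248_250 c) (Nat.ble 248 c)
noncomputable def Btab_s_250_252 (c : Nat) : Nat := @Bool.rec (fun _ => Nat) (Btab_250) (Btab_251) (Nat.ble 251 c)
noncomputable def Btab_s_252_254 (c : Nat) : Nat := @Bool.rec (fun _ => Nat) (Btab_252) (Btab_253) (Nat.ble 253 c)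
noncomputable def Btab_s_250_254 (c : Nat) : Nat := @Bool.rec (fun _ => Nat) (Btab_s_250_252 c) (Btab_s_252_254 c) (Nat.ble 252 c)
noncomputable def Btab_s_246_254 (c : Nat) : Nat := @Bool.rec (fun _ => Nat) (Btab_s_246_250 c) (Btab_s_250_254 c) (Nat.ble 250 c)
noncomputable def Btab_s_254_256 (c : Nat) : Nat := @Bool.rec (fun _ => Nat) (Btab_254) (Btab_255) (Nat.ble 255 c)
noncomputable def Btab_s_256_258 (c : Nat) : Nat := @Bool.rec (fun _ => Nat) (Btab_256) (Btab_257) (Nat.ble 257 c)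
noncomputable def Btab_s_254_258 (c : Nat) : Nat := @Bool.rec (fun _ => Nat) (Btab_s_254_256 c) (Btab_s_256_258 c) (Nat.ble 256 c)
noncomputable def Btab_s_258_260 (c : Nat) : Nat := @Bool.rec (fun _ => Nat) (Btab_258) (Btab_259) (Nat.ble 259 c)
noncomputable def Btab_s_261_263 (c : Nat) : Nat := @Bool.rec (fun _ => Nat) (Btab_261) (Btab_262) (Nat.ble 262 c)
noncomputable def Btab_s_260_263 (c : Nat) : Nat := @Bool.rec (fun _ => Nat) (Btab_260) (Btab_s_261_263 c) (Nat.ble 261 c)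
noncomputable def Btab_s_258_263 (c : Nat) : Nat := @Bool.rec (fun _ => Nat) (Btab_s_258_260 c) (Btab_s_260_263 c) (Nat.ble 260 c)
noncomputable def Btab_s_254_263 (c : Nat) : Nat := @Bool.rec (fun _ => Nat) (Btab_s_254_258 c) (Btab_s_258_263 c) (Nat.ble 258 c)
noncomputable def Btab_s_246_263 (c : Nat) : Nat := @Bool.rec (fun _ => Nat) (Btab_s_246_254 c) (Btab_s_254_263 c) (Nat.ble 254 c)
noncomputable def Btab_s_230_263 (c : Nat) : Nat := @Bool.rec (fun _ => Nat) (Btab_s_230_246 c) (Btab_s_246_263 c) (Nat.ble 246 c)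
noncomputable def Btab_s_197_263 (c : Nat) : Nat := @Bool.rec (fun _ => Nat) (Btab_s_197_230 c) (Btab_s_230_263 c) (Nat.ble 230 c)
noncomputable def Btab_s_131_263 (c : Nat) : Nat := @Bool.rec (fun _ => Nat) (Btab_s_131_197 c) (Btab_s_197_263 c) (Nat.ble 197 c)
noncomputable def Btab_s_0_263 (c : Nat) : Nat := @Bool.rec (fun _ => Nat) (Btab_s_0_131 c) (Btab_s_131_263 c) (Nat.ble 131 c)
noncomputable def Btab (i : Nat) : Nat := rdw 45 35184372088831 (Btab_s_0_263 (Nat.shiftRight i 11)) (Nat.land i 2047)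
noncomputable def Ptab_s_1_3 (c : Nat) : Nat := @Bool.rec (fun _ => Nat) (Ptab_1) (Ptab_2) (Nat.ble 2 c)
noncomputable def Ptab_s_0_3 (c : Nat) : Nat := @Bool.rec (fun _ => Nat) (Ptab_0) (Ptab_s_1_3 c) (Nat.ble 1 c)
noncomputable def Ptab_s_4_6 (c : Nat) : Nat := @Bool.rec (fun _ => Nat) (Ptab_4) (Ptab_5) (Nat.ble 5 c)
noncomputable def Ptab_s_3_6 (c : Nat) : Nat := @Bool.rec (fun _ => Nat) (Ptab_3) (Ptab_s_4_6 c) (Nat.ble 4 c)
noncomputable def Ptab_s_0_6 (c : Nat) : Nat := @Bool.rec (fun _ => Nat) (Ptab_s_0_3 c) (Ptab_s_3_6 c) (Nat.ble 3 c)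
noncomputable def Ptab_s_7_9 (c : Nat) : Nat := @Bool.rec (fun _ => Nat) (Ptab_7) (Ptab_8) (Nat.ble 8 c)
noncomputable def Ptab_s_6_9 (c : Nat) : Nat := @Bool.rec (fun _ => Nat) (Ptab_6) (Ptab_s_7_9 c) (Nat.ble 7 c)
noncomputable def Ptab_s_9_11 (c : Nat) : Nat := @Bool.rec (fun _ => Nat) (Ptab_9) (Ptab_10) (Nat.ble 10 c)
noncomputable def Ptab_s_11_13 (c : Nat) : Nat := @Bool.rec (fun _ => Nat) (Ptab_11) (Ptab_12) (Nat.ble 12 c)
noncomputable def Ptab_s_9_13 (c : Nat) : Nat := @Bool.rec (fun _ => Nat) (Ptab_s_9_11 c) (Ptab_s_11_13 c) (Nat.ble 11 c)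
noncomputable def Ptab_s_6_13 (c : Nat) : Nat := @Bool.rec (fun _ => Nat) (Ptab_s_6_9 c) (Ptab_s_9_13 c) (Nat.ble 9 c)
noncomputable def Ptab_s_0_13 (c : Nat) : Nat := @Bool.rec (fun _ => Nat) (Ptab_s_0_6 c) (Ptab_s_6_13 c) (Nat.ble 6 c)
noncomputable def Ptab_s_14_16 (c : Nat) : Nat := @Bool.rec (fun _ => Nat) (Ptab_14) (Ptab_15) (Nat.ble 15 c)
noncomputable def Ptab_s_13_16 (c : Nat) : Nat := @Bool.rec (fun _ => Nat) (Ptab_13) (Ptab_s_14_16 c) (Nat.ble 14 c)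
noncomputable def Ptab_s_17_19 (c : Nat) : Nat := @Bool.rec (fun _ => Nat) (Ptab_17) (Ptab_18) (Nat.ble 18 c)
noncomputable def Ptab_s_16_19 (c : Nat) : Nat := @Bool.rec (fun _ => Nat) (Ptab_16) (Ptab_s_17_19 c) (Nat.ble 17 c)
noncomputable def Ptab_s_13_19 (c : Nat) : Nat := @Bool.rec (fun _ => Nat) (Ptab_s_13_16 c) (Ptab_s_16_19 c) (Nat.ble 16 c)
noncomputable def Ptab_s_20_22 (c : Nat) : Nat := @Bool.rec (fun _ => Nat) (Ptab_20) (Ptab_21) (Nat.ble 21 c)
noncomputable def Ptab_s_19_22 (c : Nat) : Nat := @Bool.rec (fun _ => Nat) (Ptab_19) (Ptab_s_20_22 c) (Nat.ble 20 c)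
noncomputable def Ptab_s_22_24 (c : Nat) : Nat := @Bool.rec (fun _ => Nat) (Ptab_22) (Ptab_23) (Nat.ble 23 c)
noncomputable def Ptab_s_24_26 (c : Nat) : Nat := @Bool.rec (fun _ => Nat) (Ptab_24) (Ptab_25) (Nat.ble 25 c)
noncomputable def Ptab_s_22_26 (c : Nat) : Nat := @Bool.rec (fun _ => Nat) (Ptab_s_22_24 c) (Ptab_s_24_26 c) (Nat.ble 24 c)
noncomputable def Ptab_s_19_26 (c : Nat) : Nat := @Bool.rec (fun _ => Nat) (Ptab_s_19_22 c) (Ptab_s_22_26 c) (Nat.ble 22 c)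
noncomputable def Ptab_s_13_26 (c : Nat) : Nat := @Bool.rec (fun _ => Nat) (Ptab_s_13_19 c) (Ptab_s_19_26 c) (Nat.ble 19 c)
noncomputable def Ptab_s_0_26 (c : Nat) : Nat := @Bool.rec (fun _ => Nat) (Ptab_s_0_13 c) (Ptab_s_13_26 c) (Nat.ble 13 c)
noncomputable def Ptab_s_27_29 (c : Nat) : Nat := @Bool.rec (fun _ => Nat) (Ptab_27) (Ptab_28) (Nat.ble 28 c)
noncomputable def Ptab_s_26_29 (c : Nat) : Nat := @Bool.rec (fun _ => Nat) (Ptab_26) (Ptab_s_27_29 c) (Nat.ble 27 c)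
noncomputable def Ptab_s_30_32 (c : Nat) : Nat := @Bool.rec (fun _ => Nat) (Ptab_30) (Ptab_31) (Nat.ble 31 c)
noncomputable def Ptab_s_29_32 (c : Nat) : Nat := @Bool.rec (fun _ => Nat) (Ptab_29) (Ptab_s_30_32 c) (Nat.ble 30 c)
noncomputable def Ptab_s_26_32 (c : Nat) : Nat := @Bool.rec (fun _ => Nat) (Ptab_s_26_29 c) (Ptab_s_29_32 c) (Nat.ble 29 c)
noncomputable def Ptab_s_33_35 (c : Nat) : Nat := @Bool.rec (fun _ => Nat) (Ptab_33) (Ptab_34) (Nat.ble 34 c)
noncomputable def Ptab_s_32_35 (c : Nat) : Nat := @Bool.rec (fun _ => Nat) (Ptab_32) (Ptab_s_33_35 c) (Nat.ble 33 c)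
noncomputable def Ptab_s_35_37 (c : Nat) : Nat := @Bool.rec (fun _ => Nat) (Ptab_35) (Ptab_36) (Nat.ble 36 c)
noncomputable def Ptab_s_37_39 (c : Nat) : Nat := @Bool.rec (fun _ => Nat) (Ptab_37) (Ptab_38) (Nat.ble 38 c)
noncomputable def Ptab_s_35_39 (c : Nat) : Nat := @Bool.rec (fun _ => Nat) (Ptab_s_35_37 c) (Ptab_s_37_39 c) (Nat.ble 37 c)
noncomputable def Ptab_s_32_39 (c : Nat) : Nat := @Bool.rec (fun _ => Nat) (Ptab_s_32_35 c) (Ptab_s_35_39 c) (Nat.ble 35 c)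
noncomputable def Ptab_s_26_39 (c : Nat) : Nat := @Bool.rec (fun _ => Nat) (Ptab_s_26_32 c) (Ptab_s_32_39 c) (Nat.ble 32 c)
noncomputable def Ptab_s_40_42 (c : Nat) : Nat := @Bool.rec (fun _ => Nat) (Ptab_40) (Ptab_41) (Nat.ble 41 c)
noncomputable def Ptab_s_39_42 (c : Nat) : Nat := @Bool.rec (fun _ => Nat) (Ptab_39) (Ptab_s_40_42 c) (Nat.ble 40 c)
noncomputable def Ptab_s_43_45 (c : Nat) : Nat := @Bool.rec (fun _ => Nat) (Ptab_43) (Ptab_44) (Nat.ble 44 c)
noncomputable def Ptab_s_42_45 (c : Nat) : Nat := @Bool.rec (fun _ => Nat) (Ptab_42) (Ptab_s_43_45 c) (Nat.ble 43 c)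
noncomputable def Ptab_s_39_45 (c : Nat) : Nat := @Bool.rec (fun _ => Nat) (Ptab_s_39_42 c) (Ptab_s_42_45 c) (Nat.ble 42 c)
noncomputable def Ptab_s_46_48 (c : Nat) : Nat := @Bool.rec (fun _ => Nat) (Ptab_46) (Ptab_47) (Nat.ble 47 c)
noncomputable def Ptab_s_45_48 (c : Nat) : Nat := @Bool.rec (fun _ => Nat) (Ptab_45) (Ptab_s_46_48 c) (Nat.ble 46 c)
noncomputable def Ptab_s_48_50 (c : Nat) : Nat := @Bool.rec (fun _ => Nat) (Ptab_48) (Ptab_49) (Nat.ble 49 c)
noncomputable def Ptab_s_50_52 (c : Nat) : Nat := @Bool.rec (fun _ => Nat) (Ptab_50) (Ptab_51) (Nat.ble 51 c)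
noncomputable def Ptab_s_48_52 (c : Nat) : Nat := @Bool.rec (fun _ => Nat) (Ptab_s_48_50 c) (Ptab_s_50_52 c) (Nat.ble 50 c)
noncomputable def Ptab_s_45_52 (c : Nat) : Nat := @Bool.rec (fun _ => Nat) (Ptab_s_45_48 c) (Ptab_s_48_52 c) (Nat.ble 48 c)
noncomputable def Ptab_s_39_52 (c : Nat) : Nat := @Bool.rec (fun _ => Nat) (Ptab_s_39_45 c) (Ptab_s_45_52 c) (Nat.ble 45 c)
noncomputable def Ptab_s_26_52 (c : Nat) : Nat := @Bool.rec (fun _ => Nat) (Ptab_s_26_39 c) (Ptab_s_39_52 c) (Nat.ble 39 c)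
noncomputable def Ptab_s_0_52 (c : Nat) : Nat := @Bool.rec (fun _ => Nat) (Ptab_s_0_26 c) (Ptab_s_26_52 c) (Nat.ble 26 c)
noncomputable def Ptab_s_53_55 (c : Nat) : Nat := @Bool.rec (fun _ => Nat) (Ptab_53) (Ptab_54) (Nat.ble 54 c)
noncomputable def Ptab_s_52_55 (c : Nat) : Nat := @Bool.rec (fun _ => Nat) (Ptab_52) (Ptab_s_53_55 c) (Nat.ble 53 c)
noncomputable def Ptab_s_56_58 (c : Nat) : Nat := @Bool.rec (fun _ => Nat) (Ptab_56) (Ptab_57) (Nat.ble 57 c)
noncomputable def Ptab_s_55_58 (c : Nat) : Nat := @Bool.rec (fun _ => Nat) (Ptab_55) (Ptab_s_56_58 c) (Nat.ble 56 c)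
noncomputable def Ptab_s_52_58 (c : Nat) : Nat := @Bool.rec (fun _ => Nat) (Ptab_s_52_55 c) (Ptab_s_55_58 c) (Nat.ble 55 c)
noncomputable def Ptab_s_59_61 (c : Nat) : Nat := @Bool.rec (fun _ => Nat) (Ptab_59) (Ptab_60) (Nat.ble 60 c)
noncomputable def Ptab_s_58_61 (c : Nat) : Nat := @Bool.rec (fun _ => Nat) (Ptab_58) (Ptab_s_59_61 c) (Nat.ble 59 c)
noncomputable def Ptab_s_61_63 (c : Nat) : Nat := @Bool.rec (fun _ => Nat) (Ptab_61) (Ptab_62) (Nat.ble 62 c)
noncomputable def Ptab_s_63_65 (c : Nat) : Nat := @Bool.rec (fun _ => Nat) (Ptab_63) (Ptab_64) (Nat.ble 64 c)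
noncomputable def Ptab_s_61_65 (c : Nat) : Nat := @Bool.rec (fun _ => Nat) (Ptab_s_61_63 c) (Ptab_s_63_65 c) (Nat.ble 63 c)
noncomputable def Ptab_s_58_65 (c : Nat) : Nat := @Bool.rec (fun _ => Nat) (Ptab_s_58_61 c) (Ptab_s_61_65 c) (Nat.ble 61 c)
noncomputable def Ptab_s_52_65 (c : Nat) : Nat := @Bool.rec (fun _ => Nat) (Ptab_s_52_58 c) (Ptab_s_58_65 c) (Nat.ble 58 c)
noncomputable def Ptab_s_66_68 (c : Nat) : Nat := @Bool.rec (fun _ => Nat) (Ptab_66) (Ptab_67) (Nat.ble 67 c)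
noncomputable def Ptab_s_65_68 (c : Nat) : Nat := @Bool.rec (fun _ => Nat) (Ptab_65) (Ptab_s_66_68 c) (Nat.ble 66 c)
noncomputable def Ptab_s_69_71 (c : Nat) : Nat := @Bool.rec (fun _ => Nat) (Ptab_69) (Ptab_70) (Nat.ble 70 c)
noncomputable def Ptab_s_68_71 (c : Nat) : Nat := @Bool.rec (fun _ => Nat) (Ptab_68) (Ptab_s_69_71 c) (Nat.ble 69 c)
noncomputable def Ptab_s_65_71 (c : Nat) : Nat := @Bool.rec (fun _ => Nat) (Ptab_s_65_68 c) (Ptab_s_68_71 c) (Nat.ble 68 c)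
noncomputable def Ptab_s_72_74 (c : Nat) : Nat := @Bool.rec (fun _ => Nat) (Ptab_72) (Ptab_73) (Nat.ble 73 c)
noncomputable def Ptab_s_71_74 (c : Nat) : Nat := @Bool.rec (fun _ => Nat) (Ptab_71) (Ptab_s_72_74 c) (Nat.ble 72 c)
noncomputable def Ptab_s_74_76 (c : Nat) : Nat := @Bool.rec (fun _ => Nat) (Ptab_74) (Ptab_75) (Nat.ble 75 c)
noncomputable def Ptab_s_76_78 (c : Nat) : Nat := @Bool.rec (fun _ => Nat) (Ptab_76) (Ptab_77) (Nat.ble 77 c)
noncomputable def Ptab_s_74_78 (c : Nat) : Nat := @Bool.rec (fun _ => Nat) (Ptab_s_74_76 c) (Ptab_s_76_78 c) (Nat.ble 76 c)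
noncomputable def Ptab_s_71_78 (c : Nat) : Nat := @Bool.rec (fun _ => Nat) (Ptab_s_71_74 c) (Ptab_s_74_78 c) (Nat.ble 74 c)
noncomputable def Ptab_s_65_78 (c : Nat) : Nat := @Bool.rec (fun _ => Nat) (Ptab_s_65_71 c) (Ptab_s_71_78 c) (Nat.ble 71 c)
noncomputable def Ptab_s_52_78 (c : Nat) : Nat := @Bool.rec (fun _ => Nat) (Ptab_s_52_65 c) (Ptab_s_65_78 c) (Nat.ble 65 c)
noncomputable def Ptab_s_79_81 (c : Nat) : Nat := @Bool.rec (fun _ => Nat) (Ptab_79) (Ptab_80) (Nat.ble 80 c)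
noncomputable def Ptab_s_78_81 (c : Nat) : Nat := @Bool.rec (fun _ => Nat) (Ptab_78) (Ptab_s_79_81 c) (Nat.ble 79 c)
noncomputable def Ptab_s_82_84 (c : Nat) : Nat := @Bool.rec (fun _ => Nat) (Ptab_82) (Ptab_83) (Nat.ble 83 c)
noncomputable def Ptab_s_81_84 (c : Nat) : Nat := @Bool.rec (fun _ => Nat) (Ptab_81) (Ptab_s_82_84 c) (Nat.ble 82 c)
noncomputable def Ptab_s_78_84 (c : Nat) : Nat := @Bool.rec (fun _ => Nat) (Ptab_s_78_81 c) (Ptab_s_81_84 c) (Nat.ble 81 c)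
noncomputable def Ptab_s_85_87 (c : Nat) : Nat := @Bool.rec (fun _ => Nat) (Ptab_85) (Ptab_86) (Nat.ble 86 c)
noncomputable def Ptab_s_84_87 (c : Nat) : Nat := @Bool.rec (fun _ => Nat) (Ptab_84) (Ptab_s_85_87 c) (Nat.ble 85 c)
noncomputable def Ptab_s_87_89 (c : Nat) : Nat := @Bool.rec (fun _ => Nat) (Ptab_87) (Ptab_88) (Nat.ble 88 c)
noncomputable def Ptab_s_89_91 (c : Nat) : Nat := @Bool.rec (fun _ => Nat) (Ptab_89) (Ptab_90) (Nat.ble 90 c)
noncomputable def Ptab_s_87_91 (c : Nat) : Nat := @Bool.rec (fun _ => Nat) (Ptab_s_87_89 c) (Ptab_s_89_91 c) (Nat.ble 89 c)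
noncomputable def Ptab_s_84_91 (c : Nat) : Nat := @Bool.rec (fun _ => Nat) (Ptab_s_84_87 c) (Ptab_s_87_91 c) (Nat.ble 87 c)
noncomputable def Ptab_s_78_91 (c : Nat) : Nat := @Bool.rec (fun _ => Nat) (Ptab_s_78_84 c) (Ptab_s_84_91 c) (Nat.ble 84 c)
noncomputable def Ptab_s_92_94 (c : Nat) : Nat := @Bool.rec (fun _ => Nat) (Ptab_92) (Ptab_93) (Nat.ble 93 c)
noncomputable def Ptab_s_91_94 (c : Nat) : Nat := @Bool.rec (fun _ => Nat) (Ptab_91) (Ptab_s_92_94 c) (Nat.ble 92 c)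
noncomputable def Ptab_s_94_96 (c : Nat) : Nat := @Bool.rec (fun _ => Nat) (Ptab_94) (Ptab_95) (Nat.ble 95 c)
noncomputable def Ptab_s_96_98 (c : Nat) : Nat := @Bool.rec (fun _ => Nat) (Ptab_96) (Ptab_97) (Nat.ble 97 c)
noncomputable def Ptab_s_94_98 (c : Nat) : Nat := @Bool.rec (fun _ => Nat) (Ptab_s_94_96 c) (Ptab_s_96_98 c) (Nat.ble 96 c)
noncomputable def Ptab_s_91_98 (c : Nat) : Nat := @Bool.rec (fun _ => Nat) (Ptab_s_91_94 c) (Ptab_s_94_98 c) (Nat.ble 94 c)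
noncomputable def Ptab_s_99_101 (c : Nat) : Nat := @Bool.rec (fun _ => Nat) (Ptab_99) (Ptab_100) (Nat.ble 100 c)
noncomputable def Ptab_s_98_101 (c : Nat) : Nat := @Bool.rec (fun _ => Nat) (Ptab_98) (Ptab_s_99_101 c) (Nat.ble 99 c)
noncomputable def Ptab_s_101_103 (c : Nat) : Nat := @Bool.rec (fun _ => Nat) (Ptab_101) (Ptab_102) (Nat.ble 102 c)
noncomputable def Ptab_s_103_105 (c : Nat) : Nat := @Bool.rec (fun _ => Nat) (Ptab_103) (Ptab_104) (Nat.ble 104 c)
noncomputable def Ptab_s_101_105 (c : Nat) : Nat := @Bool.rec (fun _ => Nat) (Ptab_s_101_103 c) (Ptab_s_103_105 c) (Nat.ble 103 c)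
noncomputable def Ptab_s_98_105 (c : Nat) : Nat := @Bool.rec (fun _ => Nat) (Ptab_s_98_101 c) (Ptab_s_101_105 c) (Nat.ble 101 c)
noncomputable def Ptab_s_91_105 (c : Nat) : Nat := @Bool.rec (fun _ => Nat) (Ptab_s_91_98 c) (Ptab_s_98_105 c) (Nat.ble 98 c)
noncomputable def Ptab_s_78_105 (c : Nat) : Nat := @Bool.rec (fun _ => Nat) (Ptab_s_78_91 c) (Ptab_s_91_105 c) (Nat.ble 91 c)
noncomputable def Ptab_s_52_105 (c : Nat) : Nat := @Bool.rec (fun _ => Nat) (Ptab_s_52_78 c) (Ptab_s_78_105 c) (Nat.ble 78 c)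
noncomputable def Ptab_s_0_105 (c : Nat) : Nat := @Bool.rec (fun _ => Nat) (Ptab_s_0_52 c) (Ptab_s_52_105 c) (Nat.ble 52 c)
noncomputable def Ptab_s_106_108 (c : Nat) : Nat := @Bool.rec (fun _ => Nat) (Ptab_106) (Ptab_107) (Nat.ble 107 c)
noncomputable def Ptab_s_105_108 (c : Nat) : Nat := @Bool.rec (fun _ => Nat) (Ptab_105) (Ptab_s_106_108 c) (Nat.ble 106 c)
noncomputable def Ptab_s_109_111 (c : Nat) : Nat := @Bool.rec (fun _ => Nat) (Ptab_109) (Ptab_110) (Nat.ble 110 c)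
noncomputable def Ptab_s_108_111 (c : Nat) : Nat := @Bool.rec (fun _ => Nat) (Ptab_108) (Ptab_s_109_111 c) (Nat.ble 109 c)
noncomputable def Ptab_s_105_111 (c : Nat) : Nat := @Bool.rec (fun _ => Nat) (Ptab_s_105_108 c) (Ptab_s_108_111 c) (Nat.ble 108 c)
noncomputable def Ptab_s_112_114 (c : Nat) : Nat := @Bool.rec (fun _ => Nat) (Ptab_112) (Ptab_113) (Nat.ble 113 c)
noncomputable def Ptab_s_111_114 (c : Nat) : Nat := @Bool.rec (fun _ => Nat) (Ptab_111) (Ptab_s_112_114 c) (Nat.ble 112 c)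
noncomputable def Ptab_s_114_116 (c : Nat) : Nat := @Bool.rec (fun _ => Nat) (Ptab_114) (Ptab_115) (Nat.ble 115 c)
noncomputable def Ptab_s_116_118 (c : Nat) : Nat := @Bool.rec (fun _ => Nat) (Ptab_116) (Ptab_117) (Nat.ble 117 c)
noncomputable def Ptab_s_114_118 (c : Nat) : Nat := @Bool.rec (fun _ => Nat) (Ptab_s_114_116 c) (Ptab_s_116_118 c) (Nat.ble 116 c)
noncomputable def Ptab_s_111_118 (c : Nat) : Nat := @Bool.rec (fun _ => Nat) (Ptab_s_111_114 c) (Ptab_s_114_118 c) (Nat.ble 114 c)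
noncomputable def Ptab_s_105_118 (c : Nat) : Nat := @Bool.rec (fun _ => Nat) (Ptab_s_105_111 c) (Ptab_s_111_118 c) (Nat.ble 111 c)
noncomputable def Ptab_s_119_121 (c : Nat) : Nat := @Bool.rec (fun _ => Nat) (Ptab_119) (Ptab_120) (Nat.ble 120 c)
noncomputable def Ptab_s_118_121 (c : Nat) : Nat := @Bool.rec (fun _ => Nat) (Ptab_118) (Ptab_s_119_121 c) (Nat.ble 119 c)
noncomputable def Ptab_s_122_124 (c : Nat) : Nat := @Bool.rec (fun _ => Nat) (Ptab_122) (Ptab_123) (Nat.ble 123 c)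
noncomputable def Ptab_s_121_124 (c : Nat) : Nat := @Bool.rec (fun _ => Nat) (Ptab_121) (Ptab_s_122_124 c) (Nat.ble 122 c)
noncomputable def Ptab_s_118_124 (c : Nat) : Nat := @Bool.rec (fun _ => Nat) (Ptab_s_118_121 c) (Ptab_s_121_124 c) (Nat.ble 121 c)
noncomputable def Ptab_s_125_127 (c : Nat) : Nat := @Bool.rec (fun _ => Nat) (Ptab_125) (Ptab_126) (Nat.ble 126 c)
noncomputable def Ptab_s_124_127 (c : Nat) : Nat := @Bool.rec (fun _ => Nat) (Ptab_124) (Ptab_s_125_127 c) (Nat.ble 125 c)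
noncomputable def Ptab_s_127_129 (c : Nat) : Nat := @Bool.rec (fun _ => Nat) (Ptab_127) (Ptab_128) (Nat.ble 128 c)
noncomputable def Ptab_s_129_131 (c : Nat) : Nat := @Bool.rec (fun _ => Nat) (Ptab_129) (Ptab_130) (Nat.ble 130 c)
noncomputable def Ptab_s_127_131 (c : Nat) : Nat := @Bool.rec (fun _ => Nat) (Ptab_s_127_129 c) (Ptab_s_129_131 c) (Nat.ble 129 c)
noncomputable def Ptab_s_124_131 (c : Nat) : Nat := @Bool.rec (fun _ => Nat) (Ptab_s_124_127 c) (Ptab_s_127_131 c) (Nat.ble 127 c)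
noncomputable def Ptab_s_118_131 (c : Nat) : Nat := @Bool.rec (fun _ => Nat) (Ptab_s_118_124 c) (Ptab_s_124_131 c) (Nat.ble 124 c)
noncomputable def Ptab_s_105_131 (c : Nat) : Nat := @Bool.rec (fun _ => Nat) (Ptab_s_105_118 c) (Ptab_s_118_131 c) (Nat.ble 118 c)
noncomputable def Ptab_s_132_134 (c : Nat) : Nat := @Bool.rec (fun _ => Nat) (Ptab_132) (Ptab_133) (Nat.ble 133 c)
noncomputable def Ptab_s_131_134 (c : Nat) : Nat := @Bool.rec (fun _ => Nat) (Ptab_131) (Ptab_s_132_134 c) (Nat.ble 132 c)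
noncomputable def Ptab_s_135_137 (c : Nat) : Nat := @Bool.rec (fun _ => Nat) (Ptab_135) (Ptab_136) (Nat.ble 136 c)
noncomputable def Ptab_s_134_137 (c : Nat) : Nat := @Bool.rec (fun _ => Nat) (Ptab_134) (Ptab_s_135_137 c) (Nat.ble 135 c)
noncomputable def Ptab_s_131_137 (c : Nat) : Nat := @Bool.rec (fun _ => Nat) (Ptab_s_131_134 c) (Ptab_s_134_137 c) (Nat.ble 134 c)
noncomputable def Ptab_s_138_140 (c : Nat) : Nat := @Bool.rec (fun _ => Nat) (Ptab_138) (Ptab_139) (Nat.ble 139 c)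
noncomputable def Ptab_s_137_140 (c : Nat) : Nat := @Bool.rec (fun _ => Nat) (Ptab_137) (Ptab_s_138_140 c) (Nat.ble 138 c)
noncomputable def Ptab_s_140_142 (c : Nat) : Nat := @Bool.rec (fun _ => Nat) (Ptab_140) (Ptab_141) (Nat.ble 141 c)
noncomputable def Ptab_s_142_144 (c : Nat) : Nat := @Bool.rec (fun _ => Nat) (Ptab_142) (Ptab_143) (Nat.ble 143 c)
noncomputable def Ptab_s_140_144 (c : Nat) : Nat := @Bool.rec (fun _ => Nat) (Ptab_s_140_142 c) (Ptab_s_142_144 c) (Nat.ble 142 c)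
noncomputable def Ptab_s_137_144 (c : Nat) : Nat := @Bool.rec (fun _ => Nat) (Ptab_s_137_140 c) (Ptab_s_140_144 c) (Nat.ble 140 c)
noncomputable def Ptab_s_131_144 (c : Nat) : Nat := @Bool.rec (fun _ => Nat) (Ptab_s_131_137 c) (Ptab_s_137_144 c) (Nat.ble 137 c)
noncomputable def Ptab_s_145_147 (c : Nat) : Nat := @Bool.rec (fun _ => Nat) (Ptab_145) (Ptab_146) (Nat.ble 146 c)
noncomputable def Ptab_s_144_147 (c : Nat) : Nat := @Bool.rec (fun _ => Nat) (Ptab_144) (Ptab_s_145_147 c) (Nat.ble 145 c)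
noncomputable def Ptab_s_147_149 (c : Nat) : Nat := @Bool.rec (fun _ => Nat) (Ptab_147) (Ptab_148) (Nat.ble 148 c)
noncomputable def Ptab_s_149_151 (c : Nat) : Nat := @Bool.rec (fun _ => Nat) (Ptab_149) (Ptab_150) (Nat.ble 150 c)
noncomputable def Ptab_s_147_151 (c : Nat) : Nat := @Bool.rec (fun _ => Nat) (Ptab_s_147_149 c) (Ptab_s_149_151 c) (Nat.ble 149 c)
noncomputable def Ptab_s_144_151 (c : Nat) : Nat := @Bool.rec (fun _ => Nat) (Ptab_s_144_147 c) (Ptab_s_147_151 c) (Nat.ble 147 c)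
noncomputable def Ptab_s_152_154 (c : Nat) : Nat := @Bool.rec (fun _ => Nat) (Ptab_152) (Ptab_153) (Nat.ble 153 c)
noncomputable def Ptab_s_151_154 (c : Nat) : Nat := @Bool.rec (fun _ => Nat) (Ptab_151) (Ptab_s_152_154 c) (Nat.ble 152 c)
noncomputable def Ptab_s_154_156 (c : Nat) : Nat := @Bool.rec (fun _ => Nat) (Ptab_154) (Ptab_155) (Nat.ble 155 c)
noncomputable def Ptab_s_156_158 (c : Nat) : Nat := @Bool.rec (fun _ => Nat) (Ptab_156) (Ptab_157) (Nat.ble 157 c)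
noncomputable def Ptab_s_154_158 (c : Nat) : Nat := @Bool.rec (fun _ => Nat) (Ptab_s_154_156 c) (Ptab_s_156_158 c) (Nat.ble 156 c)
noncomputable def Ptab_s_151_158 (c : Nat) : Nat := @Bool.rec (fun _ => Nat) (Ptab_s_151_154 c) (Ptab_s_154_158 c) (Nat.ble 154 c)
noncomputable def Ptab_s_144_158 (c : Nat) : Nat := @Bool.rec (fun _ => Nat) (Ptab_s_144_151 c) (Ptab_s_151_158 c) (Nat.ble 151 c)
noncomputable def Ptab_s_131_158 (c : Nat) : Nat := @Bool.rec (fun _ => Nat) (Ptab_s_131_144 c) (Ptab_s_144_158 c) (Nat.ble 144 c)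
noncomputable def Ptab_s_105_158 (c : Nat) : Nat := @Bool.rec (fun _ => Nat) (Ptab_s_105_131 c) (Ptab_s_131_158 c) (Nat.ble 131 c)
noncomputable def Ptab_s_159_161 (c : Nat) : Nat := @Bool.rec (fun _ => Nat) (Ptab_159) (Ptab_160) (Nat.ble 160 c)
noncomputable def Ptab_s_158_161 (c : Nat) : Nat := @Bool.rec (fun _ => Nat) (Ptab_158) (Ptab_s_159_161 c) (Nat.ble 159 c)
noncomputable def Ptab_s_162_164 (c : Nat) : Nat := @Bool.rec (fun _ => Nat) (Ptab_162) (Ptab_163) (Nat.ble 163 c)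
noncomputable def Ptab_s_161_164 (c : Nat) : Nat := @Bool.rec (fun _ => Nat) (Ptab_161) (Ptab_s_162_164 c) (Nat.ble 162 c)
noncomputable def Ptab_s_158_164 (c : Nat) : Nat := @Bool.rec (fun _ => Nat) (Ptab_s_158_161 c) (Ptab_s_161_164 c) (Nat.ble 161 c)
noncomputable def Ptab_s_165_167 (c : Nat) : Nat := @Bool.rec (fun _ => Nat) (Ptab_165) (Ptab_166) (Nat.ble 166 c)
noncomputable def Ptab_s_164_167 (c : Nat) : Nat := @Bool.rec (fun _ => Nat) (Ptab_164) (Ptab_s_165_167 c) (Nat.ble 165 c)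
noncomputable def Ptab_s_167_169 (c : Nat) : Nat := @Bool.rec (fun _ => Nat) (Ptab_167) (Ptab_168) (Nat.ble 168 c)
noncomputable def Ptab_s_169_171 (c : Nat) : Nat := @Bool.rec (fun _ => Nat) (Ptab_169) (Ptab_170) (Nat.ble 170 c)
noncomputable def Ptab_s_167_171 (c : Nat) : Nat := @Bool.rec (fun _ => Nat) (Ptab_s_167_169 c) (Ptab_s_169_171 c) (Nat.ble 169 c)
noncomputable def Ptab_s_164_171 (c : Nat) : Nat := @Bool.rec (fun _ => Nat) (Ptab_s_164_167 c) (Ptab_s_167_171 c) (Nat.ble 167 c)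
noncomputable def Ptab_s_158_171 (c : Nat) : Nat := @Bool.rec (fun _ => Nat) (Ptab_s_158_164 c) (Ptab_s_164_171 c) (Nat.ble 164 c)
noncomputable def Ptab_s_172_174 (c : Nat) : Nat := @Bool.rec (fun _ => Nat) (Ptab_172) (Ptab_173) (Nat.ble 173 c)
noncomputable def Ptab_s_171_174 (c : Nat) : Nat := @Bool.rec (fun _ => Nat) (Ptab_171) (Ptab_s_172_174 c) (Nat.ble 172 c)
noncomputable def Ptab_s_175_177 (c : Nat) : Nat := @Bool.rec (fun _ => Nat) (Ptab_175) (Ptab_176) (Nat.ble 176 c)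
noncomputable def Ptab_s_174_177 (c : Nat) : Nat := @Bool.rec (fun _ => Nat) (Ptab_174) (Ptab_s_175_177 c) (Nat.ble 175 c)
noncomputable def Ptab_s_171_177 (c : Nat) : Nat := @Bool.rec (fun _ => Nat) (Ptab_s_171_174 c) (Ptab_s_174_177 c) (Nat.ble 174 c)
noncomputable def Ptab_s_178_180 (c : Nat) : Nat := @Bool.rec (fun _ => Nat) (Ptab_178) (Ptab_179) (Nat.ble 179 c)
noncomputable def Ptab_s_177_180 (c : Nat) : Nat := @Bool.rec (fun _ => Nat) (Ptab_177) (Ptab_s_178_180 c) (Nat.ble 178 c)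
noncomputable def Ptab_s_180_182 (c : Nat) : Nat := @Bool.rec (fun _ => Nat) (Ptab_180) (Ptab_181) (Nat.ble 181 c)
noncomputable def Ptab_s_182_184 (c : Nat) : Nat := @Bool.rec (fun _ => Nat) (Ptab_182) (Ptab_183) (Nat.ble 183 c)
noncomputable def Ptab_s_180_184 (c : Nat) : Nat := @Bool.rec (fun _ => Nat) (Ptab_s_180_182 c) (Ptab_s_182_184 c) (Nat.ble 182 c)
noncomputable def Ptab_s_177_184 (c : Nat) : Nat := @Bool.rec (fun _ => Nat) (Ptab_s_177_180 c) (Ptab_s_180_184 c) (Nat.ble 180 c)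
noncomputable def Ptab_s_171_184 (c : Nat) : Nat := @Bool.rec (fun _ => Nat) (Ptab_s_171_177 c) (Ptab_s_177_184 c) (Nat.ble 177 c)
noncomputable def Ptab_s_158_184 (c : Nat) : Nat := @Bool.rec (fun _ => Nat) (Ptab_s_158_171 c) (Ptab_s_171_184 c) (Nat.ble 171 c)
noncomputable def Ptab_s_185_187 (c : Nat) : Nat := @Bool.rec (fun _ => Nat) (Ptab_185) (Ptab_186) (Nat.ble 186 c)
noncomputable def Ptab_s_184_187 (c : Nat) : Nat := @Bool.rec (fun _ => Nat) (Ptab_184) (Ptab_s_185_187 c) (Nat.ble 185 c)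
noncomputable def Ptab_s_188_190 (c : Nat) : Nat := @Bool.rec (fun _ => Nat) (Ptab_188) (Ptab_189) (Nat.ble 189 c)
noncomputable def Ptab_s_187_190 (c : Nat) : Nat := @Bool.rec (fun _ => Nat) (Ptab_187) (Ptab_s_188_190 c) (Nat.ble 188 c)
noncomputable def Ptab_s_184_190 (c : Nat) : Nat := @Bool.rec (fun _ => Nat) (Ptab_s_184_187 c) (Ptab_s_187_190 c) (Nat.ble 187 c)
noncomputable def Ptab_s_191_193 (c : Nat) : Nat := @Bool.rec (fun _ => Nat) (Ptab_191) (Ptab_192) (Nat.ble 192 c)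
noncomputable def Ptab_s_190_193 (c : Nat) : Nat := @Bool.rec (fun _ => Nat) (Ptab_190) (Ptab_s_191_193 c) (Nat.ble 191 c)
noncomputable def Ptab_s_193_195 (c : Nat) : Nat := @Bool.rec (fun _ => Nat) (Ptab_193) (Ptab_194) (Nat.ble 194 c)
noncomputable def Ptab_s_195_197 (c : Nat) : Nat := @Bool.rec (fun _ => Nat) (Ptab_195) (Ptab_196) (Nat.ble 196 c)
noncomputable def Ptab_s_193_197 (c : Nat) : Nat := @Bool.rec (fun _ => Nat) (Ptab_s_193_195 c) (Ptab_s_195_197 c) (Nat.ble 195 c)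
noncomputable def Ptab_s_190_197 (c : Nat) : Nat := @Bool.rec (fun _ => Nat) (Ptab_s_190_193 c) (Ptab_s_193_197 c) (Nat.ble 193 c)
noncomputable def Ptab_s_184_197 (c : Nat) : Nat := @Bool.rec (fun _ => Nat) (Ptab_s_184_190 c) (Ptab_s_190_197 c) (Nat.ble 190 c)
noncomputable def Ptab_s_198_200 (c : Nat) : Nat := @Bool.rec (fun _ => Nat) (Ptab_198) (Ptab_199) (Nat.ble 199 c)
noncomputable def Ptab_s_197_200 (c : Nat) : Nat := @Bool.rec (fun _ => Nat) (Ptab_197) (Ptab_s_198_200 c) (Nat.ble 198 c)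
noncomputable def Ptab_s_200_202 (c : Nat) : Nat := @Bool.rec (fun _ => Nat) (Ptab_200) (Ptab_201) (Nat.ble 201 c)
noncomputable def Ptab_s_202_204 (c : Nat) : Nat := @Bool.rec (fun _ => Nat) (Ptab_202) (Ptab_203) (Nat.ble 203 c)
noncomputable def Ptab_s_200_204 (c : Nat) : Nat := @Bool.rec (fun _ => Nat) (Ptab_s_200_202 c) (Ptab_s_202_204 c) (Nat.ble 202 c)
noncomputable def Ptab_s_197_204 (c : Nat) : Nat := @Bool.rec (fun _ => Nat) (Ptab_s_197_200 c) (Ptab_s_200_204 c) (Nat.ble 200 c)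
noncomputable def Ptab_s_205_207 (c : Nat) : Nat := @Bool.rec (fun _ => Nat) (Ptab_205) (Ptab_206) (Nat.ble 206 c)
noncomputable def Ptab_s_204_207 (c : Nat) : Nat := @Bool.rec (fun _ => Nat) (Ptab_204) (Ptab_s_205_207 c) (Nat.ble 205 c)
noncomputable def Ptab_s_207_209 (c : Nat) : Nat := @Bool.rec (fun _ => Nat) (Ptab_207) (Ptab_208) (Nat.ble 208 c)
noncomputable def Ptab_s_209_211 (c : Nat) : Nat := @Bool.rec (fun _ => Nat) (Ptab_209) (Ptab_210) (Nat.ble 210 c)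
noncomputable def Ptab_s_207_211 (c : Nat) : Nat := @Bool.rec (fun _ => Nat) (Ptab_s_207_209 c) (Ptab_s_209_211 c) (Nat.ble 209 c)
noncomputable def Ptab_s_204_211 (c : Nat) : Nat := @Bool.rec (fun _ => Nat) (Ptab_s_204_207 c) (Ptab_s_207_211 c) (Nat.ble 207 c)
noncomputable def Ptab_s_197_211 (c : Nat) : Nat := @Bool.rec (fun _ => Nat) (Ptab_s_197_204 c) (Ptab_s_204_211 c) (Nat.ble 204 c)
noncomputable def Ptab_s_184_211 (c : Nat) : Nat := @Bool.rec (fun _ => Nat) (Ptab_s_184_197 c) (Ptab_s_197_211 c) (Nat.ble 197 c)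
noncomputable def Ptab_s_158_211 (c : Nat) : Nat := @Bool.rec (fun _ => Nat) (Ptab_s_158_184 c) (Ptab_s_184_211 c) (Nat.ble 184 c)
noncomputable def Ptab_s_105_211 (c : Nat) : Nat := @Bool.rec (fun _ => Nat) (Ptab_s_105_158 c) (Ptab_s_158_211 c) (Nat.ble 158 c)
noncomputable def Ptab_s_0_211 (c : Nat) : Nat := @Bool.rec (fun _ => Nat) (Ptab_s_0_105 c) (Ptab_s_105_211 c) (Nat.ble 105 c)
noncomputable def Ptab_s_212_214 (c : Nat) : Nat := @Bool.rec (fun _ => Nat) (Ptab_212) (Ptab_213) (Nat.ble 213 c)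
noncomputable def Ptab_s_211_214 (c : Nat) : Nat := @Bool.rec (fun _ => Nat) (Ptab_211) (Ptab_s_212_214 c) (Nat.ble 212 c)
noncomputable def Ptab_s_215_217 (c : Nat) : Nat := @Bool.rec (fun _ => Nat) (Ptab_215) (Ptab_216) (Nat.ble 216 c)
noncomputable def Ptab_s_214_217 (c : Nat) : Nat := @Bool.rec (fun _ => Nat) (Ptab_214) (Ptab_s_215_217 c) (Nat.ble 215 c)
noncomputable def Ptab_s_211_217 (c : Nat) : Nat := @Bool.rec (fun _ => Nat) (Ptab_s_211_214 c) (Ptab_s_214_217 c) (Nat.ble 214 c)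
noncomputable def Ptab_s_218_220 (c : Nat) : Nat := @Bool.rec (fun _ => Nat) (Ptab_218) (Ptab_219) (Nat.ble 219 c)
noncomputable def Ptab_s_217_220 (c : Nat) : Nat := @Bool.rec (fun _ => Nat) (Ptab_217) (Ptab_s_218_220 c) (Nat.ble 218 c)
noncomputable def Ptab_s_220_222 (c : Nat) : Nat := @Bool.rec (fun _ => Nat) (Ptab_220) (Ptab_221) (Nat.ble 221 c)
noncomputable def Ptab_s_222_224 (c : Nat) : Nat := @Bool.rec (fun _ => Nat) (Ptab_222) (Ptab_223) (Nat.ble 223 c)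
noncomputable def Ptab_s_220_224 (c : Nat) : Nat := @Bool.rec (fun _ => Nat) (Ptab_s_220_222 c) (Ptab_s_222_224 c) (Nat.ble 222 c)
noncomputable def Ptab_s_217_224 (c : Nat) : Nat := @Bool.rec (fun _ => Nat) (Ptab_s_217_220 c) (Ptab_s_220_224 c) (Nat.ble 220 c)
noncomputable def Ptab_s_211_224 (c : Nat) : Nat := @Bool.rec (fun _ => Nat) (Ptab_s_211_217 c) (Ptab_s_217_224 c) (Nat.ble 217 c)
noncomputable def Ptab_s_225_227 (c : Nat) : Nat := @Bool.rec (fun _ => Nat) (Ptab_225) (Ptab_226) (Nat.ble 226 c)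
noncomputable def Ptab_s_224_227 (c : Nat) : Nat := @Bool.rec (fun _ => Nat) (Ptab_224) (Ptab_s_225_227 c) (Nat.ble 225 c)
noncomputable def Ptab_s_228_230 (c : Nat) : Nat := @Bool.rec (fun _ => Nat) (Ptab_228) (Ptab_229) (Nat.ble 229 c)
noncomputable def Ptab_s_227_230 (c : Nat) : Nat := @Bool.rec (fun _ => Nat) (Ptab_227) (Ptab_s_228_230 c) (Nat.ble 228 c)
noncomputable def Ptab_s_224_230 (c : Nat) : Nat := @Bool.rec (fun _ => Nat) (Ptab_s_224_227 c) (Ptab_s_227_230 c) (Nat.ble 227 c)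
noncomputable def Ptab_s_231_233 (c : Nat) : Nat := @Bool.rec (fun _ => Nat) (Ptab_231) (Ptab_232) (Nat.ble 232 c)
noncomputable def Ptab_s_230_233 (c : Nat) : Nat := @Bool.rec (fun _ => Nat) (Ptab_230) (Ptab_s_231_233 c) (Nat.ble 231 c)
noncomputable def Ptab_s_233_235 (c : Nat) : Nat := @Bool.rec (fun _ => Nat) (Ptab_233) (Ptab_234) (Nat.ble 234 c)
noncomputable def Ptab_s_235_237 (c : Nat) : Nat := @Bool.rec (fun _ => Nat) (Ptab_235) (Ptab_236) (Nat.ble 236 c)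
noncomputable def Ptab_s_233_237 (c : Nat) : Nat := @Bool.rec (fun _ => Nat) (Ptab_s_233_235 c) (Ptab_s_235_237 c) (Nat.ble 235 c)
noncomputable def Ptab_s_230_237 (c : Nat) : Nat := @Bool.rec (fun _ => Nat) (Ptab_s_230_233 c) (Ptab_s_233_237 c) (Nat.ble 233 c)
noncomputable def Ptab_s_224_237 (c : Nat) : Nat := @Bool.rec (fun _ => Nat) (Ptab_s_224_230 c) (Ptab_s_230_237 c) (Nat.ble 230 c)
noncomputable def Ptab_s_211_237 (c : Nat) : Nat := @Bool.rec (fun _ => Nat) (Ptab_s_211_224 c) (Ptab_s_224_237 c) (Nat.ble 224 c)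
noncomputable def Ptab_s_238_240 (c : Nat) : Nat := @Bool.rec (fun _ => Nat) (Ptab_238) (Ptab_239) (Nat.ble 239 c)
noncomputable def Ptab_s_237_240 (c : Nat) : Nat := @Bool.rec (fun _ => Nat) (Ptab_237) (Ptab_s_238_240 c) (Nat.ble 238 c)
noncomputable def Ptab_s_241_243 (c : Nat) : Nat := @Bool.rec (fun _ => Nat) (Ptab_241) (Ptab_242) (Nat.ble 242 c)
noncomputable def Ptab_s_240_243 (c : Nat) : Nat := @Bool.rec (fun _ => Nat) (Ptab_240) (Ptab_s_241_243 c) (Nat.ble 241 c)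
noncomputable def Ptab_s_237_243 (c : Nat) : Nat := @Bool.rec (fun _ => Nat) (Ptab_s_237_240 c) (Ptab_s_240_243 c) (Nat.ble 240 c)
noncomputable def Ptab_s_244_246 (c : Nat) : Nat := @Bool.rec (fun _ => Nat) (Ptab_244) (Ptab_245) (Nat.ble 245 c)
noncomputable def Ptab_s_243_246 (c : Nat) : Nat := @Bool.rec (fun _ => Nat) (Ptab_243) (Ptab_s_244_246 c) (Nat.ble 244 c)
noncomputable def Ptab_s_246_248 (c : Nat) : Nat := @Bool.rec (fun _ => Nat) (Ptab_246) (Ptab_247) (Nat.ble 247 c)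
noncomputable def Ptab_s_248_250 (c : Nat) : Nat := @Bool.rec (fun _ => Nat) (Ptab_248) (Ptab_249) (Nat.ble 249 c)
noncomputable def Ptab_s_246_250 (c : Nat) : Nat := @Bool.rec (fun _ => Nat) (Ptab_s_246_248 c) (Ptab_s_248_250 c) (Nat.ble 248 c)
noncomputable def Ptab_s_243_250 (c : Nat) : Nat := @Bool.rec (fun _ => Nat) (Ptab_s_243_246 c) (Ptab_s_246_250 c) (Nat.ble 246 c)
noncomputable def Ptab_s_237_250 (c : Nat) : Nat := @Bool.rec (fun _ => Nat) (Ptab_s_237_243 c) (Ptab_s_243_250 c) (Nat.ble 243 c)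
noncomputable def Ptab_s_251_253 (c : Nat) : Nat := @Bool.rec (fun _ => Nat) (Ptab_251) (Ptab_252) (Nat.ble 252 c)
noncomputable def Ptab_s_250_253 (c : Nat) : Nat := @Bool.rec (fun _ => Nat) (Ptab_250) (Ptab_s_251_253 c) (Nat.ble 251 c)
noncomputable def Ptab_s_254_256 (c : Nat) : Nat := @Bool.rec (fun _ => Nat) (Ptab_254) (Ptab_255) (Nat.ble 255 c)
noncomputable def Ptab_s_253_256 (c : Nat) : Nat := @Bool.rec (fun _ => Nat) (Ptab_253) (Ptab_s_254_256 c) (Nat.ble 254 c)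
noncomputable def Ptab_s_250_256 (c : Nat) : Nat := @Bool.rec (fun _ => Nat) (Ptab_s_250_253 c) (Ptab_s_253_256 c) (Nat.ble 253 c)
noncomputable def Ptab_s_257_259 (c : Nat) : Nat := @Bool.rec (fun _ => Nat) (Ptab_257) (Ptab_258) (Nat.ble 258 c)
noncomputable def Ptab_s_256_259 (c : Nat) : Nat := @Bool.rec (fun _ => Nat) (Ptab_256) (Ptab_s_257_259 c) (Nat.ble 257 c)
noncomputable def Ptab_s_259_261 (c : Nat) : Nat := @Bool.rec (fun _ => Nat) (Ptab_259) (Ptab_260) (Nat.ble 260 c)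
noncomputable def Ptab_s_261_263 (c : Nat) : Nat := @Bool.rec (fun _ => Nat) (Ptab_261) (Ptab_262) (Nat.ble 262 c)
noncomputable def Ptab_s_259_263 (c : Nat) : Nat := @Bool.rec (fun _ => Nat) (Ptab_s_259_261 c) (Ptab_s_261_263 c) (Nat.ble 261 c)
noncomputable def Ptab_s_256_263 (c : Nat) : Nat := @Bool.rec (fun _ => Nat) (Ptab_s_256_259 c) (Ptab_s_259_263 c) (Nat.ble 259 c)
noncomputable def Ptab_s_250_263 (c : Nat) : Nat := @Bool.rec (fun _ => Nat) (Ptab_s_250_256 c) (Ptab_s_256_263 c) (Nat.ble 256 c)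
noncomputable def Ptab_s_237_263 (c : Nat) : Nat := @Bool.rec (fun _ => Nat) (Ptab_s_237_250 c) (Ptab_s_250_263 c) (Nat.ble 250 c)
noncomputable def Ptab_s_211_263 (c : Nat) : Nat := @Bool.rec (fun _ => Nat) (Ptab_s_211_237 c) (Ptab_s_237_263 c) (Nat.ble 237 c)
noncomputable def Ptab_s_264_266 (c : Nat) : Nat := @Bool.rec (fun _ => Nat) (Ptab_264) (Ptab_265) (Nat.ble 265 c)
noncomputable def Ptab_s_263_266 (c : Nat) : Nat := @Bool.rec (fun _ => Nat) (Ptab_263) (Ptab_s_264_266 c) (Nat.ble 264 c)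
noncomputable def Ptab_s_267_269 (c : Nat) : Nat := @Bool.rec (fun _ => Nat) (Ptab_267) (Ptab_268) (Nat.ble 268 c)
noncomputable def Ptab_s_266_269 (c : Nat) : Nat := @Bool.rec (fun _ => Nat) (Ptab_266) (Ptab_s_267_269 c) (Nat.ble 267 c)
noncomputable def Ptab_s_263_269 (c : Nat) : Nat := @Bool.rec (fun _ => Nat) (Ptab_s_263_266 c) (Ptab_s_266_269 c) (Nat.ble 266 c)
noncomputable def Ptab_s_270_272 (c : Nat) : Nat := @Bool.rec (fun _ => Nat) (Ptab_270) (Ptab_271) (Nat.ble 271 c)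
noncomputable def Ptab_s_269_272 (c : Nat) : Nat := @Bool.rec (fun _ => Nat) (Ptab_269) (Ptab_s_270_272 c) (Nat.ble 270 c)
noncomputable def Ptab_s_272_274 (c : Nat) : Nat := @Bool.rec (fun _ => Nat) (Ptab_272) (Ptab_273) (Nat.ble 273 c)
noncomputable def Ptab_s_274_276 (c : Nat) : Nat := @Bool.rec (fun _ => Nat) (Ptab_274) (Ptab_275) (Nat.ble 275 c)
noncomputable def Ptab_s_272_276 (c : Nat) : Nat := @Bool.rec (fun _ => Nat) (Ptab_s_272_274 c) (Ptab_s_274_276 c) (Nat.ble 274 c)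
noncomputable def Ptab_s_269_276 (c : Nat) : Nat := @Bool.rec (fun _ => Nat) (Ptab_s_269_272 c) (Ptab_s_272_276 c) (Nat.ble 272 c)
noncomputable def Ptab_s_263_276 (c : Nat) : Nat := @Bool.rec (fun _ => Nat) (Ptab_s_263_269 c) (Ptab_s_269_276 c) (Nat.ble 269 c)
noncomputable def Ptab_s_277_279 (c : Nat) : Nat := @Bool.rec (fun _ => Nat) (Ptab_277) (Ptab_278) (Nat.ble 278 c)
noncomputable def Ptab_s_276_279 (c : Nat) : Nat := @Bool.rec (fun _ => Nat) (Ptab_276) (Ptab_s_277_279 c) (Nat.ble 277 c)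
noncomputable def Ptab_s_280_282 (c : Nat) : Nat := @Bool.rec (fun _ => Nat) (Ptab_280) (Ptab_281) (Nat.ble 281 c)
noncomputable def Ptab_s_279_282 (c : Nat) : Nat := @Bool.rec (fun _ => Nat) (Ptab_279) (Ptab_s_280_282 c) (Nat.ble 280 c)
noncomputable def Ptab_s_276_282 (c : Nat) : Nat := @Bool.rec (fun _ => Nat) (Ptab_s_276_279 c) (Ptab_s_279_282 c) (Nat.ble 279 c)
noncomputable def Ptab_s_283_285 (c : Nat) : Nat := @Bool.rec (fun _ => Nat) (Ptab_283) (Ptab_284) (Nat.ble 284 c)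
noncomputable def Ptab_s_282_285 (c : Nat) : Nat := @Bool.rec (fun _ => Nat) (Ptab_282) (Ptab_s_283_285 c) (Nat.ble 283 c)
noncomputable def Ptab_s_285_287 (c : Nat) : Nat := @Bool.rec (fun _ => Nat) (Ptab_285) (Ptab_286) (Nat.ble 286 c)
noncomputable def Ptab_s_287_289 (c : Nat) : Nat := @Bool.rec (fun _ => Nat) (Ptab_287) (Ptab_288) (Nat.ble 288 c)
noncomputable def Ptab_s_285_289 (c : Nat) : Nat := @Bool.rec (fun _ => Nat) (Ptab_s_285_287 c) (Ptab_s_287_289 c) (Nat.ble 287 c)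
noncomputable def Ptab_s_282_289 (c : Nat) : Nat := @Bool.rec (fun _ => Nat) (Ptab_s_282_285 c) (Ptab_s_285_289 c) (Nat.ble 285 c)
noncomputable def Ptab_s_276_289 (c : Nat) : Nat := @Bool.rec (fun _ => Nat) (Ptab_s_276_282 c) (Ptab_s_282_289 c) (Nat.ble 282 c)
noncomputable def Ptab_s_263_289 (c : Nat) : Nat := @Bool.rec (fun _ => Nat) (Ptab_s_263_276 c) (Ptab_s_276_289 c) (Nat.ble 276 c)
noncomputable def Ptab_s_290_292 (c : Nat) : Nat := @Bool.rec (fun _ => Nat) (Ptab_290) (Ptab_291) (Nat.ble 291 c)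
noncomputable def Ptab_s_289_292 (c : Nat) : Nat := @Bool.rec (fun _ => Nat) (Ptab_289) (Ptab_s_290_292 c) (Nat.ble 290 c)
noncomputable def Ptab_s_293_295 (c : Nat) : Nat := @Bool.rec (fun _ => Nat) (Ptab_293) (Ptab_294) (Nat.ble 294 c)
noncomputable def Ptab_s_292_295 (c : Nat) : Nat := @Bool.rec (fun _ => Nat) (Ptab_292) (Ptab_s_293_295 c) (Nat.ble 293 c)
noncomputable def Ptab_s_289_295 (c : Nat) : Nat := @Bool.rec (fun _ => Nat) (Ptab_s_289_292 c) (Ptab_s_292_295 c) (Nat.ble 292 c)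
noncomputable def Ptab_s_296_298 (c : Nat) : Nat := @Bool.rec (fun _ => Nat) (Ptab_296) (Ptab_297) (Nat.ble 297 c)
noncomputable def Ptab_s_295_298 (c : Nat) : Nat := @Bool.rec (fun _ => Nat) (Ptab_295) (Ptab_s_296_298 c) (Nat.ble 296 c)
noncomputable def Ptab_s_298_300 (c : Nat) : Nat := @Bool.rec (fun _ => Nat) (Ptab_298) (Ptab_299) (Nat.ble 299 c)
noncomputable def Ptab_s_300_302 (c : Nat) : Nat := @Bool.rec (fun _ => Nat) (Ptab_300) (Ptab_301) (Nat.ble 301 c)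
noncomputable def Ptab_s_298_302 (c : Nat) : Nat := @Bool.rec (fun _ => Nat) (Ptab_s_298_300 c) (Ptab_s_300_302 c) (Nat.ble 300 c)
noncomputable def Ptab_s_295_302 (c : Nat) : Nat := @Bool.rec (fun _ => Nat) (Ptab_s_295_298 c) (Ptab_s_298_302 c) (Nat.ble 298 c)
noncomputable def Ptab_s_289_302 (c : Nat) : Nat := @Bool.rec (fun _ => Nat) (Ptab_s_289_295 c) (Ptab_s_295_302 c) (Nat.ble 295 c)
noncomputable def Ptab_s_303_305 (c : Nat) : Nat := @Bool.rec (fun _ => Nat) (Ptab_303) (Ptab_304) (Nat.ble 304 c)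
noncomputable def Ptab_s_302_305 (c : Nat) : Nat := @Bool.rec (fun _ => Nat) (Ptab_302) (Ptab_s_303_305 c) (Nat.ble 303 c)
noncomputable def Ptab_s_305_307 (c : Nat) : Nat := @Bool.rec (fun _ => Nat) (Ptab_305) (Ptab_306) (Nat.ble 306 c)
noncomputable def Ptab_s_307_309 (c : Nat) : Nat := @Bool.rec (fun _ => Nat) (Ptab_307) (Ptab_308) (Nat.ble 308 c)
noncomputable def Ptab_s_305_309 (c : Nat) : Nat := @Bool.rec (fun _ => Nat) (Ptab_s_305_307 c) (Ptab_s_307_309 c) (Nat.ble 307 c)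
noncomputable def Ptab_s_302_309 (c : Nat) : Nat := @Bool.rec (fun _ => Nat) (Ptab_s_302_305 c) (Ptab_s_305_309 c) (Nat.ble 305 c)
noncomputable def Ptab_s_310_312 (c : Nat) : Nat := @Bool.rec (fun _ => Nat) (Ptab_310) (Ptab_311) (Nat.ble 311 c)
noncomputable def Ptab_s_309_312 (c : Nat) : Nat := @Bool.rec (fun _ => Nat) (Ptab_309) (Ptab_s_310_312 c) (Nat.ble 310 c)
noncomputable def Ptab_s_312_314 (c : Nat) : Nat := @Bool.rec (fun _ => Nat) (Ptab_312) (Ptab_313) (Nat.ble 313 c)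
noncomputable def Ptab_s_314_316 (c : Nat) : Nat := @Bool.rec (fun _ => Nat) (Ptab_314) (Ptab_315) (Nat.ble 315 c)
noncomputable def Ptab_s_312_316 (c : Nat) : Nat := @Bool.rec (fun _ => Nat) (Ptab_s_312_314 c) (Ptab_s_314_316 c) (Nat.ble 314 c)
noncomputable def Ptab_s_309_316 (c : Nat) : Nat := @Bool.rec (fun _ => Nat) (Ptab_s_309_312 c) (Ptab_s_312_316 c) (Nat.ble 312 c)
noncomputable def Ptab_s_302_316 (c : Nat) : Nat := @Bool.rec (fun _ => Nat) (Ptab_s_302_309 c) (Ptab_s_309_316 c) (Nat.ble 309 c)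
noncomputable def Ptab_s_289_316 (c : Nat) : Nat := @Bool.rec (fun _ => Nat) (Ptab_s_289_302 c) (Ptab_s_302_316 c) (Nat.ble 302 c)
noncomputable def Ptab_s_263_316 (c : Nat) : Nat := @Bool.rec (fun _ => Nat) (Ptab_s_263_289 c) (Ptab_s_289_316 c) (Nat.ble 289 c)
noncomputable def Ptab_s_211_316 (c : Nat) : Nat := @Bool.rec (fun _ => Nat) (Ptab_s_211_263 c) (Ptab_s_263_316 c) (Nat.ble 263 c)
noncomputable def Ptab_s_317_319 (c : Nat) : Nat := @Bool.rec (fun _ => Nat) (Ptab_317) (Ptab_318) (Nat.ble 318 c)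
noncomputable def Ptab_s_316_319 (c : Nat) : Nat := @Bool.rec (fun _ => Nat) (Ptab_316) (Ptab_s_317_319 c) (Nat.ble 317 c)
noncomputable def Ptab_s_320_322 (c : Nat) : Nat := @Bool.rec (fun _ => Nat) (Ptab_320) (Ptab_321) (Nat.ble 321 c)
noncomputable def Ptab_s_319_322 (c : Nat) : Nat := @Bool.rec (fun _ => Nat) (Ptab_319) (Ptab_s_320_322 c) (Nat.ble 320 c)
noncomputable def Ptab_s_316_322 (c : Nat) : Nat := @Bool.rec (fun _ => Nat) (Ptab_s_316_319 c) (Ptab_s_319_322 c) (Nat.ble 319 c)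
noncomputable def Ptab_s_323_325 (c : Nat) : Nat := @Bool.rec (fun _ => Nat) (Ptab_323) (Ptab_324) (Nat.ble 324 c)
noncomputable def Ptab_s_322_325 (c : Nat) : Nat := @Bool.rec (fun _ => Nat) (Ptab_322) (Ptab_s_323_325 c) (Nat.ble 323 c)
noncomputable def Ptab_s_325_327 (c : Nat) : Nat := @Bool.rec (fun _ => Nat) (Ptab_325) (Ptab_326) (Nat.ble 326 c)
noncomputable def Ptab_s_327_329 (c : Nat) : Nat := @Bool.rec (fun _ => Nat) (Ptab_327) (Ptab_328) (Nat.ble 328 c)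
noncomputable def Ptab_s_325_329 (c : Nat) : Nat := @Bool.rec (fun _ => Nat) (Ptab_s_325_327 c) (Ptab_s_327_329 c) (Nat.ble 327 c)
noncomputable def Ptab_s_322_329 (c : Nat) : Nat := @Bool.rec (fun _ => Nat) (Ptab_s_322_325 c) (Ptab_s_325_329 c) (Nat.ble 325 c)
noncomputable def Ptab_s_316_329 (c : Nat) : Nat := @Bool.rec (fun _ => Nat) (Ptab_s_316_322 c) (Ptab_s_322_329 c) (Nat.ble 322 c)
noncomputable def Ptab_s_330_332 (c : Nat) : Nat := @Bool.rec (fun _ => Nat) (Ptab_330) (Ptab_331) (Nat.ble 331 c)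
noncomputable def Ptab_s_329_332 (c : Nat) : Nat := @Bool.rec (fun _ => Nat) (Ptab_329) (Ptab_s_330_332 c) (Nat.ble 330 c)
noncomputable def Ptab_s_333_335 (c : Nat) : Nat := @Bool.rec (fun _ => Nat) (Ptab_333) (Ptab_334) (Nat.ble 334 c)
noncomputable def Ptab_s_332_335 (c : Nat) : Nat := @Bool.rec (fun _ => Nat) (Ptab_332) (Ptab_s_333_335 c) (Nat.ble 333 c)
noncomputable def Ptab_s_329_335 (c : Nat) : Nat := @Bool.rec (fun _ => Nat) (Ptab_s_329_332 c) (Ptab_s_332_335 c) (Nat.ble 332 c)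
noncomputable def Ptab_s_336_338 (c : Nat) : Nat := @Bool.rec (fun _ => Nat) (Ptab_336) (Ptab_337) (Nat.ble 337 c)
noncomputable def Ptab_s_335_338 (c : Nat) : Nat := @Bool.rec (fun _ => Nat) (Ptab_335) (Ptab_s_336_338 c) (Nat.ble 336 c)
noncomputable def Ptab_s_338_340 (c : Nat) : Nat := @Bool.rec (fun _ => Nat) (Ptab_338) (Ptab_339) (Nat.ble 339 c)
noncomputable def Ptab_s_340_342 (c : Nat) : Nat := @Bool.rec (fun _ => Nat) (Ptab_340) (Ptab_341) (Nat.ble 341 c)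
noncomputable def Ptab_s_338_342 (c : Nat) : Nat := @Bool.rec (fun _ => Nat) (Ptab_s_338_340 c) (Ptab_s_340_342 c) (Nat.ble 340 c)
noncomputable def Ptab_s_335_342 (c : Nat) : Nat := @Bool.rec (fun _ => Nat) (Ptab_s_335_338 c) (Ptab_s_338_342 c) (Nat.ble 338 c)
noncomputable def Ptab_s_329_342 (c : Nat) : Nat := @Bool.rec (fun _ => Nat) (Ptab_s_329_335 c) (Ptab_s_335_342 c) (Nat.ble 335 c)
noncomputable def Ptab_s_316_342 (c : Nat) : Nat := @Bool.rec (fun _ => Nat) (Ptab_s_316_329 c) (Ptab_s_329_342 c) (Nat.ble 329 c)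
noncomputable def Ptab_s_343_345 (c : Nat) : Nat := @Bool.rec (fun _ => Nat) (Ptab_343) (Ptab_344) (Nat.ble 344 c)
noncomputable def Ptab_s_342_345 (c : Nat) : Nat := @Bool.rec (fun _ => Nat) (Ptab_342) (Ptab_s_343_345 c) (Nat.ble 343 c)
noncomputable def Ptab_s_346_348 (c : Nat) : Nat := @Bool.rec (fun _ => Nat) (Ptab_346) (Ptab_347) (Nat.ble 347 c)
noncomputable def Ptab_s_345_348 (c : Nat) : Nat := @Bool.rec (fun _ => Nat) (Ptab_345) (Ptab_s_346_348 c) (Nat.ble 346 c)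
noncomputable def Ptab_s_342_348 (c : Nat) : Nat := @Bool.rec (fun _ => Nat) (Ptab_s_342_345 c) (Ptab_s_345_348 c) (Nat.ble 345 c)
noncomputable def Ptab_s_349_351 (c : Nat) : Nat := @Bool.rec (fun _ => Nat) (Ptab_349) (Ptab_350) (Nat.ble 350 c)
noncomputable def Ptab_s_348_351 (c : Nat) : Nat := @Bool.rec (fun _ => Nat) (Ptab_348) (Ptab_s_349_351 c) (Nat.ble 349 c)
noncomputable def Ptab_s_351_353 (c : Nat) : Nat := @Bool.rec (fun _ => Nat) (Ptab_351) (Ptab_352) (Nat.ble 352 c)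
noncomputable def Ptab_s_353_355 (c : Nat) : Nat := @Bool.rec (fun _ => Nat) (Ptab_353) (Ptab_354) (Nat.ble 354 c)
noncomputable def Ptab_s_351_355 (c : Nat) : Nat := @Bool.rec (fun _ => Nat) (Ptab_s_351_353 c) (Ptab_s_353_355 c) (Nat.ble 353 c)
noncomputable def Ptab_s_348_355 (c : Nat) : Nat := @Bool.rec (fun _ => Nat) (Ptab_s_348_351 c) (Ptab_s_351_355 c) (Nat.ble 351 c)
noncomputable def Ptab_s_342_355 (c : Nat) : Nat := @Bool.rec (fun _ => Nat) (Ptab_s_342_348 c) (Ptab_s_348_355 c) (Nat.ble 348 c)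
noncomputable def Ptab_s_356_358 (c : Nat) : Nat := @Bool.rec (fun _ => Nat) (Ptab_356) (Ptab_357) (Nat.ble 357 c)
noncomputable def Ptab_s_355_358 (c : Nat) : Nat := @Bool.rec (fun _ => Nat) (Ptab_355) (Ptab_s_356_358 c) (Nat.ble 356 c)
noncomputable def Ptab_s_358_360 (c : Nat) : Nat := @Bool.rec (fun _ => Nat) (Ptab_358) (Ptab_359) (Nat.ble 359 c)
noncomputable def Ptab_s_360_362 (c : Nat) : Nat := @Bool.rec (fun _ => Nat) (Ptab_360) (Ptab_361) (Nat.ble 361 c)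
noncomputable def Ptab_s_358_362 (c : Nat) : Nat := @Bool.rec (fun _ => Nat) (Ptab_s_358_360 c) (Ptab_s_360_362 c) (Nat.ble 360 c)
noncomputable def Ptab_s_355_362 (c : Nat) : Nat := @Bool.rec (fun _ => Nat) (Ptab_s_355_358 c) (Ptab_s_358_362 c) (Nat.ble 358 c)
noncomputable def Ptab_s_363_365 (c : Nat) : Nat := @Bool.rec (fun _ => Nat) (Ptab_363) (Ptab_364) (Nat.ble 364 c)
noncomputable def Ptab_s_362_365 (c : Nat) : Nat := @Bool.rec (fun _ => Nat) (Ptab_362) (Ptab_s_363_365 c) (Nat.ble 363 c)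
noncomputable def Ptab_s_365_367 (c : Nat) : Nat := @Bool.rec (fun _ => Nat) (Ptab_365) (Ptab_366) (Nat.ble 366 c)
noncomputable def Ptab_s_367_369 (c : Nat) : Nat := @Bool.rec (fun _ => Nat) (Ptab_367) (Ptab_368) (Nat.ble 368 c)
noncomputable def Ptab_s_365_369 (c : Nat) : Nat := @Bool.rec (fun _ => Nat) (Ptab_s_365_367 c) (Ptab_s_367_369 c) (Nat.ble 367 c)
noncomputable def Ptab_s_362_369 (c : Nat) : Nat := @Bool.rec (fun _ => Nat) (Ptab_s_362_365 c) (Ptab_s_365_369 c) (Nat.ble 365 c)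
noncomputable def Ptab_s_355_369 (c : Nat) : Nat := @Bool.rec (fun _ => Nat) (Ptab_s_355_362 c) (Ptab_s_362_369 c) (Nat.ble 362 c)
noncomputable def Ptab_s_342_369 (c : Nat) : Nat := @Bool.rec (fun _ => Nat) (Ptab_s_342_355 c) (Ptab_s_355_369 c) (Nat.ble 355 c)
noncomputable def Ptab_s_316_369 (c : Nat) : Nat := @Bool.rec (fun _ => Nat) (Ptab_s_316_342 c) (Ptab_s_342_369 c) (Nat.ble 342 c)
noncomputable def Ptab_s_370_372 (c : Nat) : Nat := @Bool.rec (fun _ => Nat) (Ptab_370) (Ptab_371) (Nat.ble 371 c)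
noncomputable def Ptab_s_369_372 (c : Nat) : Nat := @Bool.rec (fun _ => Nat) (Ptab_369) (Ptab_s_370_372 c) (Nat.ble 370 c)
noncomputable def Ptab_s_373_375 (c : Nat) : Nat := @Bool.rec (fun _ => Nat) (Ptab_373) (Ptab_374) (Nat.ble 374 c)
noncomputable def Ptab_s_372_375 (c : Nat) : Nat := @Bool.rec (fun _ => Nat) (Ptab_372) (Ptab_s_373_375 c) (Nat.ble 373 c)
noncomputable def Ptab_s_369_375 (c : Nat) : Nat := @Bool.rec (fun _ => Nat) (Ptab_s_369_372 c) (Ptab_s_372_375 c) (Nat.ble 372 c)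
noncomputable def Ptab_s_376_378 (c : Nat) : Nat := @Bool.rec (fun _ => Nat) (Ptab_376) (Ptab_377) (Nat.ble 377 c)
noncomputable def Ptab_s_375_378 (c : Nat) : Nat := @Bool.rec (fun _ => Nat) (Ptab_375) (Ptab_s_376_378 c) (Nat.ble 376 c)
noncomputable def Ptab_s_378_380 (c : Nat) : Nat := @Bool.rec (fun _ => Nat) (Ptab_378) (Ptab_379) (Nat.ble 379 c)
noncomputable def Ptab_s_380_382 (c : Nat) : Nat := @Bool.rec (fun _ => Nat) (Ptab_380) (Ptab_381) (Nat.ble 381 c)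
noncomputable def Ptab_s_378_382 (c : Nat) : Nat := @Bool.rec (fun _ => Nat) (Ptab_s_378_380 c) (Ptab_s_380_382 c) (Nat.ble 380 c)
noncomputable def Ptab_s_375_382 (c : Nat) : Nat := @Bool.rec (fun _ => Nat) (Ptab_s_375_378 c) (Ptab_s_378_382 c) (Nat.ble 378 c)
noncomputable def Ptab_s_369_382 (c : Nat) : Nat := @Bool.rec (fun _ => Nat) (Ptab_s_369_375 c) (Ptab_s_375_382 c) (Nat.ble 375 c)
noncomputable def Ptab_s_383_385 (c : Nat) : Nat := @Bool.rec (fun _ => Nat) (Ptab_383) (Ptab_384) (Nat.ble 384 c)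
noncomputable def Ptab_s_382_385 (c : Nat) : Nat := @Bool.rec (fun _ => Nat) (Ptab_382) (Ptab_s_383_385 c) (Nat.ble 383 c)
noncomputable def Ptab_s_386_388 (c : Nat) : Nat := @Bool.rec (fun _ => Nat) (Ptab_386) (Ptab_387) (Nat.ble 387 c)
noncomputable def Ptab_s_385_388 (c : Nat) : Nat := @Bool.rec (fun _ => Nat) (Ptab_385) (Ptab_s_386_388 c) (Nat.ble 386 c)
noncomputable def Ptab_s_382_388 (c : Nat) : Nat := @Bool.rec (fun _ => Nat) (Ptab_s_382_385 c) (Ptab_s_385_388 c) (Nat.ble 385 c)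
noncomputable def Ptab_s_389_391 (c : Nat) : Nat := @Bool.rec (fun _ => Nat) (Ptab_389) (Ptab_390) (Nat.ble 390 c)
noncomputable def Ptab_s_388_391 (c : Nat) : Nat := @Bool.rec (fun _ => Nat) (Ptab_388) (Ptab_s_389_391 c) (Nat.ble 389 c)
noncomputable def Ptab_s_391_393 (c : Nat) : Nat := @Bool.rec (fun _ => Nat) (Ptab_391) (Ptab_392) (Nat.ble 392 c)
noncomputable def Ptab_s_393_395 (c : Nat) : Nat := @Bool.rec (fun _ => Nat) (Ptab_393) (Ptab_394) (Nat.ble 394 c)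
noncomputable def Ptab_s_391_395 (c : Nat) : Nat := @Bool.rec (fun _ => Nat) (Ptab_s_391_393 c) (Ptab_s_393_395 c) (Nat.ble 393 c)
noncomputable def Ptab_s_388_395 (c : Nat) : Nat := @Bool.rec (fun _ => Nat) (Ptab_s_388_391 c) (Ptab_s_391_395 c) (Nat.ble 391 c)
noncomputable def Ptab_s_382_395 (c : Nat) : Nat := @Bool.rec (fun _ => Nat) (Ptab_s_382_388 c) (Ptab_s_388_395 c) (Nat.ble 388 c)
noncomputable def Ptab_s_369_395 (c : Nat) : Nat := @Bool.rec (fun _ => Nat) (Ptab_s_369_382 c) (Ptab_s_382_395 c) (Nat.ble 382 c)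
noncomputable def Ptab_s_396_398 (c : Nat) : Nat := @Bool.rec (fun _ => Nat) (Ptab_396) (Ptab_397) (Nat.ble 397 c)
noncomputable def Ptab_s_395_398 (c : Nat) : Nat := @Bool.rec (fun _ => Nat) (Ptab_395) (Ptab_s_396_398 c) (Nat.ble 396 c)
noncomputable def Ptab_s_399_401 (c : Nat) : Nat := @Bool.rec (fun _ => Nat) (Ptab_399) (Ptab_400) (Nat.ble 400 c)
noncomputable def Ptab_s_398_401 (c : Nat) : Nat := @Bool.rec (fun _ => Nat) (Ptab_398) (Ptab_s_399_401 c) (Nat.ble 399 c)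
noncomputable def Ptab_s_395_401 (c : Nat) : Nat := @Bool.rec (fun _ => Nat) (Ptab_s_395_398 c) (Ptab_s_398_401 c) (Nat.ble 398 c)
noncomputable def Ptab_s_402_404 (c : Nat) : Nat := @Bool.rec (fun _ => Nat) (Ptab_402) (Ptab_403) (Nat.ble 403 c)
noncomputable def Ptab_s_401_404 (c : Nat) : Nat := @Bool.rec (fun _ => Nat) (Ptab_401) (Ptab_s_402_404 c) (Nat.ble 402 c)
noncomputable def Ptab_s_404_406 (c : Nat) : Nat := @Bool.rec (fun _ => Nat) (Ptab_404) (Ptab_405) (Nat.ble 405 c)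
noncomputable def Ptab_s_406_408 (c : Nat) : Nat := @Bool.rec (fun _ => Nat) (Ptab_406) (Ptab_407) (Nat.ble 407 c)
noncomputable def Ptab_s_404_408 (c : Nat) : Nat := @Bool.rec (fun _ => Nat) (Ptab_s_404_406 c) (Ptab_s_406_408 c) (Nat.ble 406 c)
noncomputable def Ptab_s_401_408 (c : Nat) : Nat := @Bool.rec (fun _ => Nat) (Ptab_s_401_404 c) (Ptab_s_404_408 c) (Nat.ble 404 c)
noncomputable def Ptab_s_395_408 (c : Nat) : Nat := @Bool.rec (fun _ => Nat) (Ptab_s_395_401 c) (Ptab_s_401_408 c) (Nat.ble 401 c)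
noncomputable def Ptab_s_409_411 (c : Nat) : Nat := @Bool.rec (fun _ => Nat) (Ptab_409) (Ptab_410) (Nat.ble 410 c)
noncomputable def Ptab_s_408_411 (c : Nat) : Nat := @Bool.rec (fun _ => Nat) (Ptab_408) (Ptab_s_409_411 c) (Nat.ble 409 c)
noncomputable def Ptab_s_411_413 (c : Nat) : Nat := @Bool.rec (fun _ => Nat) (Ptab_411) (Ptab_412) (Nat.ble 412 c)
noncomputable def Ptab_s_413_415 (c : Nat) : Nat := @Bool.rec (fun _ => Nat) (Ptab_413) (Ptab_414) (Nat.ble 414 c)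
noncomputable def Ptab_s_411_415 (c : Nat) : Nat := @Bool.rec (fun _ => Nat) (Ptab_s_411_413 c) (Ptab_s_413_415 c) (Nat.ble 413 c)
noncomputable def Ptab_s_408_415 (c : Nat) : Nat := @Bool.rec (fun _ => Nat) (Ptab_s_408_411 c) (Ptab_s_411_415 c) (Nat.ble 411 c)
noncomputable def Ptab_s_416_418 (c : Nat) : Nat := @Bool.rec (fun _ => Nat) (Ptab_416) (Ptab_417) (Nat.ble 417 c)
noncomputable def Ptab_s_415_418 (c : Nat) : Nat := @Bool.rec (fun _ => Nat) (Ptab_415) (Ptab_s_416_418 c) (Nat.ble 416 c)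
noncomputable def Ptab_s_418_420 (c : Nat) : Nat := @Bool.rec (fun _ => Nat) (Ptab_418) (Ptab_419) (Nat.ble 419 c)
noncomputable def Ptab_s_420_422 (c : Nat) : Nat := @Bool.rec (fun _ => Nat) (Ptab_420) (Ptab_421) (Nat.ble 421 c)
noncomputable def Ptab_s_418_422 (c : Nat) : Nat := @Bool.rec (fun _ => Nat) (Ptab_s_418_420 c) (Ptab_s_420_422 c) (Nat.ble 420 c)
noncomputable def Ptab_s_415_422 (c : Nat) : Nat := @Bool.rec (fun _ => Nat) (Ptab_s_415_418 c) (Ptab_s_418_422 c) (Nat.ble 418 c)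
noncomputable def Ptab_s_408_422 (c : Nat) : Nat := @Bool.rec (fun _ => Nat) (Ptab_s_408_415 c) (Ptab_s_415_422 c) (Nat.ble 415 c)
noncomputable def Ptab_s_395_422 (c : Nat) : Nat := @Bool.rec (fun _ => Nat) (Ptab_s_395_408 c) (Ptab_s_408_422 c) (Nat.ble 408 c)
noncomputable def Ptab_s_369_422 (c : Nat) : Nat := @Bool.rec (fun _ => Nat) (Ptab_s_369_395 c) (Ptab_s_395_422 c) (Nat.ble 395 c)
noncomputable def Ptab_s_316_422 (c : Nat) : Nat := @Bool.rec (fun _ => Nat) (Ptab_s_316_369 c) (Ptab_s_369_422 c) (Nat.ble 369 c)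
noncomputable def Ptab_s_211_422 (c : Nat) : Nat := @Bool.rec (fun _ => Nat) (Ptab_s_211_316 c) (Ptab_s_316_422 c) (Nat.ble 316 c)
noncomputable def Ptab_s_0_422 (c : Nat) : Nat := @Bool.rec (fun _ => Nat) (Ptab_s_0_211 c) (Ptab_s_211_422 c) (Nat.ble 211 c)
noncomputable def Ptab (i : Nat) : Nat := rdw 21 2097151 (Ptab_s_0_422 (Nat.shiftRight i 12)) (Nat.land i 4095)
noncomputable def RRtab (i : Nat) : Nat := rdw 6 63 RRtab_0 i
noncomputable def rBtab (i : Nat) : Nat := rdw 12 4095 rBtab_0 i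
noncomputable def rLtab (i : Nat) : Nat := rdw 7 127 rLtab_0 i
noncomputable def nameTab_s_1_3 (c : Nat) : Nat := @Bool.rec (fun _ => Nat) (nameTab_1) (nameTab_2) (Nat.ble 2 c)
noncomputable def nameTab_s_0_3 (c : Nat) : Nat := @Bool.rec (fun _ => Nat) (nameTab_0) (nameTab_s_1_3 c) (Nat.ble 1 c)
noncomputable def nameTab (i : Nat) : Nat := rdw 17 131071 (nameTab_s_0_3 (Nat.shiftRight i 12)) (Nat.land i 4095)
noncomputable def col0_s_1_3 (c : Nat) : Nat := @Bool.rec (fun _ => Nat) (col0_1) (col0_2) (Nat.ble 2 c)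
noncomputable def col0_s_0_3 (c : Nat) : Nat := @Bool.rec (fun _ => Nat) (col0_0) (col0_s_1_3 c) (Nat.ble 1 c)
noncomputable def col0 (i : Nat) : Nat := rdw 14 16383 (col0_s_0_3 (Nat.shiftRight i 12)) (Nat.land i 4095)
noncomputable def col1_s_1_3 (c : Nat) : Nat := @Bool.rec (fun _ => Nat) (col1_1) (col1_2) (Nat.ble 2 c)
noncomputable def col1_s_0_3 (c : Nat) : Nat := @Bool.rec (fun _ => Nat) (col1_0) (col1_s_1_3 c) (Nat.ble 1 c)
noncomputable def col1 (i : Nat) : Nat := rdw 14 16383 (col1_s_0_3 (Nat.shiftRight i 12)) (Nat.land i 4095)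
noncomputable def col2_s_1_3 (c : Nat) : Nat := @Bool.rec (fun _ => Nat) (col2_1) (col2_2) (Nat.ble 2 c)
noncomputable def col2_s_0_3 (c : Nat) : Nat := @Bool.rec (fun _ => Nat) (col2_0) (col2_s_1_3 c) (Nat.ble 1 c)
noncomputable def col2 (i : Nat) : Nat := rdw 14 16383 (col2_s_0_3 (Nat.shiftRight i 12)) (Nat.land i 4095)
noncomputable def col3_s_1_3 (c : Nat) : Nat := @Bool.rec (fun _ => Nat) (col3_1) (col3_2) (Nat.ble 2 c)
noncomputable def col3_s_0_3 (c : Nat) : Nat := @Bool.rec (fun _ => Nat) (col3_0) (col3_s_1_3 c) (Nat.ble 1 c)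
noncomputable def col3 (i : Nat) : Nat := rdw 14 16383 (col3_s_0_3 (Nat.shiftRight i 12)) (Nat.land i 4095)
noncomputable def col4_s_1_3 (c : Nat) : Nat := @Bool.rec (fun _ => Nat) (col4_1) (col4_2) (Nat.ble 2 c)
noncomputable def col4_s_0_3 (c : Nat) : Nat := @Bool.rec (fun _ => Nat) (col4_0) (col4_s_1_3 c) (Nat.ble 1 c)
noncomputable def col4 (i : Nat) : Nat := rdw 14 16383 (col4_s_0_3 (Nat.shiftRight i 12)) (Nat.land i 4095)
noncomputable def col5_s_1_3 (c : Nat) : Nat := @Bool.rec (fun _ => Nat) (col5_1) (col5_2) (Nat.ble 2 c)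
noncomputable def col5_s_0_3 (c : Nat) : Nat := @Bool.rec (fun _ => Nat) (col5_0) (col5_s_1_3 c) (Nat.ble 1 c)
noncomputable def col5 (i : Nat) : Nat := rdw 14 16383 (col5_s_0_3 (Nat.shiftRight i 12)) (Nat.land i 4095)
noncomputable def col6_s_1_3 (c : Nat) : Nat := @Bool.rec (fun _ => Nat) (col6_1) (col6_2) (Nat.ble 2 c)
noncomputable def col6_s_0_3 (c : Nat) : Nat := @Bool.rec (fun _ => Nat) (col6_0) (col6_s_1_3 c) (Nat.ble 1 c)
noncomputable def col6 (i : Nat) : Nat := rdw 14 16383 (col6_s_0_3 (Nat.shiftRight i 12)) (Nat.land i 4095)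
noncomputable def col7_s_1_3 (c : Nat) : Nat := @Bool.rec (fun _ => Nat) (col7_1) (col7_2) (Nat.ble 2 c)
noncomputable def col7_s_0_3 (c : Nat) : Nat := @Bool.rec (fun _ => Nat) (col7_0) (col7_s_1_3 c) (Nat.ble 1 c)
noncomputable def col7 (i : Nat) : Nat := rdw 14 16383 (col7_s_0_3 (Nat.shiftRight i 12)) (Nat.land i 4095)
noncomputable def col8_s_1_3 (c : Nat) : Nat := @Bool.rec (fun _ => Nat) (col8_1) (col8_2) (Nat.ble 2 c)
noncomputable def col8_s_0_3 (c : Nat) : Nat := @Bool.rec (fun _ => Nat) (col8_0) (col8_s_1_3 c) (Nat.ble 1 c)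
noncomputable def col8 (i : Nat) : Nat := rdw 14 16383 (col8_s_0_3 (Nat.shiftRight i 12)) (Nat.land i 4095)
noncomputable def col9_s_1_3 (c : Nat) : Nat := @Bool.rec (fun _ => Nat) (col9_1) (col9_2) (Nat.ble 2 c)
noncomputable def col9_s_0_3 (c : Nat) : Nat := @Bool.rec (fun _ => Nat) (col9_0) (col9_s_1_3 c) (Nat.ble 1 c)
noncomputable def col9 (i : Nat) : Nat := rdw 14 16383 (col9_s_0_3 (Nat.shiftRight i 12)) (Nat.land i 4095)
noncomputable def col10_s_1_3 (c : Nat) : Nat := @Bool.rec (fun _ => Nat) (col10_1) (col10_2) (Nat.ble 2 c)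
noncomputable def col10_s_0_3 (c : Nat) : Nat := @Bool.rec (fun _ => Nat) (col10_0) (col10_s_1_3 c) (Nat.ble 1 c)
noncomputable def col10 (i : Nat) : Nat := rdw 14 16383 (col10_s_0_3 (Nat.shiftRight i 12)) (Nat.land i 4095)
noncomputable def col11_s_1_3 (c : Nat) : Nat := @Bool.rec (fun _ => Nat) (col11_1) (col11_2) (Nat.ble 2 c)
noncomputable def col11_s_0_3 (c : Nat) : Nat := @Bool.rec (fun _ => Nat) (col11_0) (col11_s_1_3 c) (Nat.ble 1 c)
noncomputable def col11 (i : Nat) : Nat := rdw 14 16383 (col11_s_0_3 (Nat.shiftRight i 12)) (Nat.land i 4095)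
noncomputable def col12_s_1_3 (c : Nat) : Nat := @Bool.rec (fun _ => Nat) (col12_1) (col12_2) (Nat.ble 2 c)
noncomputable def col12_s_0_3 (c : Nat) : Nat := @Bool.rec (fun _ => Nat) (col12_0) (col12_s_1_3 c) (Nat.ble 1 c)
noncomputable def col12 (i : Nat) : Nat := rdw 14 16383 (col12_s_0_3 (Nat.shiftRight i 12)) (Nat.land i 4095)
noncomputable def col13_s_1_3 (c : Nat) : Nat := @Bool.rec (fun _ => Nat) (col13_1) (col13_2) (Nat.ble 2 c)
noncomputable def col13_s_0_3 (c : Nat) : Nat := @Bool.rec (fun _ => Nat) (col13_0) (col13_s_1_3 c) (Nat.ble 1 c)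
noncomputable def col13 (i : Nat) : Nat := rdw 14 16383 (col13_s_0_3 (Nat.shiftRight i 12)) (Nat.land i 4095)
noncomputable def col14_s_1_3 (c : Nat) : Nat := @Bool.rec (fun _ => Nat) (col14_1) (col14_2) (Nat.ble 2 c)
noncomputable def col14_s_0_3 (c : Nat) : Nat := @Bool.rec (fun _ => Nat) (col14_0) (col14_s_1_3 c) (Nat.ble 1 c)
noncomputable def col14 (i : Nat) : Nat := rdw 14 16383 (col14_s_0_3 (Nat.shiftRight i 12)) (Nat.land i 4095)
noncomputable def col15_s_1_3 (c : Nat) : Nat := @Bool.rec (fun _ => Nat) (col15_1) (col15_2) (Nat.ble 2 c)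
noncomputable def col15_s_0_3 (c : Nat) : Nat := @Bool.rec (fun _ => Nat) (col15_0) (col15_s_1_3 c) (Nat.ble 1 c)
noncomputable def col15 (i : Nat) : Nat := rdw 14 16383 (col15_s_0_3 (Nat.shiftRight i 12)) (Nat.land i 4095)
noncomputable def col16_s_1_3 (c : Nat) : Nat := @Bool.rec (fun _ => Nat) (col16_1) (col16_2) (Nat.ble 2 c)
noncomputable def col16_s_0_3 (c : Nat) : Nat := @Bool.rec (fun _ => Nat) (col16_0) (col16_s_1_3 c) (Nat.ble 1 c)
noncomputable def col16 (i : Nat) : Nat := rdw 14 16383 (col16_s_0_3 (Nat.shiftRight i 12)) (Nat.land i 4095)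
noncomputable def col17_s_1_3 (c : Nat) : Nat := @Bool.rec (fun _ => Nat) (col17_1) (col17_2) (Nat.ble 2 c)
noncomputable def col17_s_0_3 (c : Nat) : Nat := @Bool.rec (fun _ => Nat) (col17_0) (col17_s_1_3 c) (Nat.ble 1 c)
noncomputable def col17 (i : Nat) : Nat := rdw 14 16383 (col17_s_0_3 (Nat.shiftRight i 12)) (Nat.land i 4095)
noncomputable def col18_s_1_3 (c : Nat) : Nat := @Bool.rec (fun _ => Nat) (col18_1) (col18_2) (Nat.ble 2 c)
noncomputable def col18_s_0_3 (c : Nat) : Nat := @Bool.rec (fun _ => Nat) (col18_0) (col18_s_1_3 c) (Nat.ble 1 c)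
noncomputable def col18 (i : Nat) : Nat := rdw 14 16383 (col18_s_0_3 (Nat.shiftRight i 12)) (Nat.land i 4095)
noncomputable def col19_s_1_3 (c : Nat) : Nat := @Bool.rec (fun _ => Nat) (col19_1) (col19_2) (Nat.ble 2 c)
noncomputable def col19_s_0_3 (c : Nat) : Nat := @Bool.rec (fun _ => Nat) (col19_0) (col19_s_1_3 c) (Nat.ble 1 c)
noncomputable def col19 (i : Nat) : Nat := rdw 14 16383 (col19_s_0_3 (Nat.shiftRight i 12)) (Nat.land i 4095)
noncomputable def col20_s_1_3 (c : Nat) : Nat := @Bool.rec (fun _ => Nat) (col20_1) (col20_2) (Nat.ble 2 c)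
noncomputable def col20_s_0_3 (c : Nat) : Nat := @Bool.rec (fun _ => Nat) (col20_0) (col20_s_1_3 c) (Nat.ble 1 c)
noncomputable def col20 (i : Nat) : Nat := rdw 14 16383 (col20_s_0_3 (Nat.shiftRight i 12)) (Nat.land i 4095)
noncomputable def col21_s_1_3 (c : Nat) : Nat := @Bool.rec (fun _ => Nat) (col21_1) (col21_2) (Nat.ble 2 c)
noncomputable def col21_s_0_3 (c : Nat) : Nat := @Bool.rec (fun _ => Nat) (col21_0) (col21_s_1_3 c) (Nat.ble 1 c)
noncomputable def col21 (i : Nat) : Nat := rdw 14 16383 (col21_s_0_3 (Nat.shiftRight i 12)) (Nat.land i 4095)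
noncomputable def col22_s_1_3 (c : Nat) : Nat := @Bool.rec (fun _ => Nat) (col22_1) (col22_2) (Nat.ble 2 c)
noncomputable def col22_s_0_3 (c : Nat) : Nat := @Bool.rec (fun _ => Nat) (col22_0) (col22_s_1_3 c) (Nat.ble 1 c)
noncomputable def col22 (i : Nat) : Nat := rdw 14 16383 (col22_s_0_3 (Nat.shiftRight i 12)) (Nat.land i 4095)
noncomputable def col23_s_1_3 (c : Nat) : Nat := @Bool.rec (fun _ => Nat) (col23_1) (col23_2) (Nat.ble 2 c)
noncomputable def col23_s_0_3 (c : Nat) : Nat := @Bool.rec (fun _ => Nat) (col23_0) (col23_s_1_3 c) (Nat.ble 1 c)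
noncomputable def col23 (i : Nat) : Nat := rdw 14 16383 (col23_s_0_3 (Nat.shiftRight i 12)) (Nat.land i 4095)
noncomputable def col24_s_1_3 (c : Nat) : Nat := @Bool.rec (fun _ => Nat) (col24_1) (col24_2) (Nat.ble 2 c)
noncomputable def col24_s_0_3 (c : Nat) : Nat := @Bool.rec (fun _ => Nat) (col24_0) (col24_s_1_3 c) (Nat.ble 1 c)
noncomputable def col24 (i : Nat) : Nat := rdw 14 16383 (col24_s_0_3 (Nat.shiftRight i 12)) (Nat.land i 4095)
noncomputable def col25_s_1_3 (c : Nat) : Nat := @Bool.rec (fun _ => Nat) (col25_1) (col25_2) (Nat.ble 2 c)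
noncomputable def col25_s_0_3 (c : Nat) : Nat := @Bool.rec (fun _ => Nat) (col25_0) (col25_s_1_3 c) (Nat.ble 1 c)
noncomputable def col25 (i : Nat) : Nat := rdw 14 16383 (col25_s_0_3 (Nat.shiftRight i 12)) (Nat.land i 4095)
noncomputable def col26_s_1_3 (c : Nat) : Nat := @Bool.rec (fun _ => Nat) (col26_1) (col26_2) (Nat.ble 2 c)
noncomputable def col26_s_0_3 (c : Nat) : Nat := @Bool.rec (fun _ => Nat) (col26_0) (col26_s_1_3 c) (Nat.ble 1 c)
noncomputable def col26 (i : Nat) : Nat := rdw 14 16383 (col26_s_0_3 (Nat.shiftRight i 12)) (Nat.land i 4095)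
noncomputable def col27_s_1_3 (c : Nat) : Nat := @Bool.rec (fun _ => Nat) (col27_1) (col27_2) (Nat.ble 2 c)
noncomputable def col27_s_0_3 (c : Nat) : Nat := @Bool.rec (fun _ => Nat) (col27_0) (col27_s_1_3 c) (Nat.ble 1 c)
noncomputable def col27 (i : Nat) : Nat := rdw 14 16383 (col27_s_0_3 (Nat.shiftRight i 12)) (Nat.land i 4095)
noncomputable def col28_s_1_3 (c : Nat) : Nat := @Bool.rec (fun _ => Nat) (col28_1) (col28_2) (Nat.ble 2 c)
noncomputable def col28_s_0_3 (c : Nat) : Nat := @Bool.rec (fun _ => Nat) (col28_0) (col28_s_1_3 c) (Nat.ble 1 c)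
noncomputable def col28 (i : Nat) : Nat := rdw 14 16383 (col28_s_0_3 (Nat.shiftRight i 12)) (Nat.land i 4095)
noncomputable def col29_s_1_3 (c : Nat) : Nat := @Bool.rec (fun _ => Nat) (col29_1) (col29_2) (Nat.ble 2 c)
noncomputable def col29_s_0_3 (c : Nat) : Nat := @Bool.rec (fun _ => Nat) (col29_0) (col29_s_1_3 c) (Nat.ble 1 c)
noncomputable def col29 (i : Nat) : Nat := rdw 14 16383 (col29_s_0_3 (Nat.shiftRight i 12)) (Nat.land i 4095)
noncomputable def col30_s_1_3 (c : Nat) : Nat := @Bool.rec (fun _ => Nat) (col30_1) (col30_2) (Nat.ble 2 c)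
noncomputable def col30_s_0_3 (c : Nat) : Nat := @Bool.rec (fun _ => Nat) (col30_0) (col30_s_1_3 c) (Nat.ble 1 c)
noncomputable def col30 (i : Nat) : Nat := rdw 14 16383 (col30_s_0_3 (Nat.shiftRight i 12)) (Nat.land i 4095)
noncomputable def col31_s_1_3 (c : Nat) : Nat := @Bool.rec (fun _ => Nat) (col31_1) (col31_2) (Nat.ble 2 c)
noncomputable def col31_s_0_3 (c : Nat) : Nat := @Bool.rec (fun _ => Nat) (col31_0) (col31_s_1_3 c) (Nat.ble 1 c)
noncomputable def col31 (i : Nat) : Nat := rdw 14 16383 (col31_s_0_3 (Nat.shiftRight i 12)) (Nat.land i 4095)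
noncomputable def col32_s_1_3 (c : Nat) : Nat := @Bool.rec (fun _ => Nat) (col32_1) (col32_2) (Nat.ble 2 c)
noncomputable def col32_s_0_3 (c : Nat) : Nat := @Bool.rec (fun _ => Nat) (col32_0) (col32_s_1_3 c) (Nat.ble 1 c)
noncomputable def col32 (i : Nat) : Nat := rdw 14 16383 (col32_s_0_3 (Nat.shiftRight i 12)) (Nat.land i 4095)
noncomputable def col33_s_1_3 (c : Nat) : Nat := @Bool.rec (fun _ => Nat) (col33_1) (col33_2) (Nat.ble 2 c)
noncomputable def col33_s_0_3 (c : Nat) : Nat := @Bool.rec (fun _ => Nat) (col33_0) (col33_s_1_3 c) (Nat.ble 1 c)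
noncomputable def col33 (i : Nat) : Nat := rdw 14 16383 (col33_s_0_3 (Nat.shiftRight i 12)) (Nat.land i 4095)
noncomputable def finTab_s_0_2 (c : Nat) : Nat := @Bool.rec (fun _ => Nat) (finTab_0) (finTab_1) (Nat.ble 1 c)
noncomputable def finTab_s_2_4 (c : Nat) : Nat := @Bool.rec (fun _ => Nat) (finTab_2) (finTab_3) (Nat.ble 3 c)
noncomputable def finTab_s_0_4 (c : Nat) : Nat := @Bool.rec (fun _ => Nat) (finTab_s_0_2 c) (finTab_s_2_4 c) (Nat.ble 2 c)
noncomputable def finTab_s_4_6 (c : Nat) : Nat := @Bool.rec (fun _ => Nat) (finTab_4) (finTab_5) (Nat.ble 5 c)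
noncomputable def finTab_s_7_9 (c : Nat) : Nat := @Bool.rec (fun _ => Nat) (finTab_7) (finTab_8) (Nat.ble 8 c)
noncomputable def finTab_s_6_9 (c : Nat) : Nat := @Bool.rec (fun _ => Nat) (finTab_6) (finTab_s_7_9 c) (Nat.ble 7 c)
noncomputable def finTab_s_4_9 (c : Nat) : Nat := @Bool.rec (fun _ => Nat) (finTab_s_4_6 c) (finTab_s_6_9 c) (Nat.ble 6 c)
noncomputable def finTab_s_0_9 (c : Nat) : Nat := @Bool.rec (fun _ => Nat) (finTab_s_0_4 c) (finTab_s_4_9 c) (Nat.ble 4 c)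
noncomputable def finTab_s_9_11 (c : Nat) : Nat := @Bool.rec (fun _ => Nat) (finTab_9) (finTab_10) (Nat.ble 10 c)
noncomputable def finTab_s_11_13 (c : Nat) : Nat := @Bool.rec (fun _ => Nat) (finTab_11) (finTab_12) (Nat.ble 12 c)
noncomputable def finTab_s_9_13 (c : Nat) : Nat := @Bool.rec (fun _ => Nat) (finTab_s_9_11 c) (finTab_s_11_13 c) (Nat.ble 11 c)
noncomputable def finTab_s_13_15 (c : Nat) : Nat := @Bool.rec (fun _ => Nat) (finTab_13) (finTab_14) (Nat.ble 14 c)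
noncomputable def finTab_s_16_18 (c : Nat) : Nat := @Bool.rec (fun _ => Nat) (finTab_16) (finTab_17) (Nat.ble 17 c)
noncomputable def finTab_s_15_18 (c : Nat) : Nat := @Bool.rec (fun _ => Nat) (finTab_15) (finTab_s_16_18 c) (Nat.ble 16 c)
noncomputable def finTab_s_13_18 (c : Nat) : Nat := @Bool.rec (fun _ => Nat) (finTab_s_13_15 c) (finTab_s_15_18 c) (Nat.ble 15 c)
noncomputable def finTab_s_9_18 (c : Nat) : Nat := @Bool.rec (fun _ => Nat) (finTab_s_9_13 c) (finTab_s_13_18 c) (Nat.ble 13 c)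
noncomputable def finTab_s_0_18 (c : Nat) : Nat := @Bool.rec (fun _ => Nat) (finTab_s_0_9 c) (finTab_s_9_18 c) (Nat.ble 9 c)
noncomputable def finTab_s_18_20 (c : Nat) : Nat := @Bool.rec (fun _ => Nat) (finTab_18) (finTab_19) (Nat.ble 19 c)
noncomputable def finTab_s_20_22 (c : Nat) : Nat := @Bool.rec (fun _ => Nat) (finTab_20) (finTab_21) (Nat.ble 21 c)
noncomputable def finTab_s_18_22 (c : Nat) : Nat := @Bool.rec (fun _ => Nat) (finTab_s_18_20 c) (finTab_s_20_22 c) (Nat.ble 20 c)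
noncomputable def finTab_s_22_24 (c : Nat) : Nat := @Bool.rec (fun _ => Nat) (finTab_22) (finTab_23) (Nat.ble 23 c)
noncomputable def finTab_s_25_27 (c : Nat) : Nat := @Bool.rec (fun _ => Nat) (finTab_25) (finTab_26) (Nat.ble 26 c)
noncomputable def finTab_s_24_27 (c : Nat) : Nat := @Bool.rec (fun _ => Nat) (finTab_24) (finTab_s_25_27 c) (Nat.ble 25 c)
noncomputable def finTab_s_22_27 (c : Nat) : Nat := @Bool.rec (fun _ => Nat) (finTab_s_22_24 c) (finTab_s_24_27 c) (Nat.ble 24 c)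
noncomputable def finTab_s_18_27 (c : Nat) : Nat := @Bool.rec (fun _ => Nat) (finTab_s_18_22 c) (finTab_s_22_27 c) (Nat.ble 22 c)
noncomputable def finTab_s_27_29 (c : Nat) : Nat := @Bool.rec (fun _ => Nat) (finTab_27) (finTab_28) (Nat.ble 28 c)
noncomputable def finTab_s_30_32 (c : Nat) : Nat := @Bool.rec (fun _ => Nat) (finTab_30) (finTab_31) (Nat.ble 31 c)
noncomputable def finTab_s_29_32 (c : Nat) : Nat := @Bool.rec (fun _ => Nat) (finTab_29) (finTab_s_30_32 c) (Nat.ble 30 c)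
noncomputable def finTab_s_27_32 (c : Nat) : Nat := @Bool.rec (fun _ => Nat) (finTab_s_27_29 c) (finTab_s_29_32 c) (Nat.ble 29 c)
noncomputable def finTab_s_32_34 (c : Nat) : Nat := @Bool.rec (fun _ => Nat) (finTab_32) (finTab_33) (Nat.ble 33 c)
noncomputable def finTab_s_35_37 (c : Nat) : Nat := @Bool.rec (fun _ => Nat) (finTab_35) (finTab_36) (Nat.ble 36 c)
noncomputable def finTab_s_34_37 (c : Nat) : Nat := @Bool.rec (fun _ => Nat) (finTab_34) (finTab_s_35_37 c) (Nat.ble 35 c)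
noncomputable def finTab_s_32_37 (c : Nat) : Nat := @Bool.rec (fun _ => Nat) (finTab_s_32_34 c) (finTab_s_34_37 c) (Nat.ble 34 c)
noncomputable def finTab_s_27_37 (c : Nat) : Nat := @Bool.rec (fun _ => Nat) (finTab_s_27_32 c) (finTab_s_32_37 c) (Nat.ble 32 c)
noncomputable def finTab_s_18_37 (c : Nat) : Nat := @Bool.rec (fun _ => Nat) (finTab_s_18_27 c) (finTab_s_27_37 c) (Nat.ble 27 c)
noncomputable def finTab_s_0_37 (c : Nat) : Nat := @Bool.rec (fun _ => Nat) (finTab_s_0_18 c) (finTab_s_18_37 c) (Nat.ble 18 c)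
noncomputable def finTab_s_37_39 (c : Nat) : Nat := @Bool.rec (fun _ => Nat) (finTab_37) (finTab_38) (Nat.ble 38 c)
noncomputable def finTab_s_39_41 (c : Nat) : Nat := @Bool.rec (fun _ => Nat) (finTab_39) (finTab_40) (Nat.ble 40 c)
noncomputable def finTab_s_37_41 (c : Nat) : Nat := @Bool.rec (fun _ => Nat) (finTab_s_37_39 c) (finTab_s_39_41 c) (Nat.ble 39 c)
noncomputable def finTab_s_41_43 (c : Nat) : Nat := @Bool.rec (fun _ => Nat) (finTab_41) (finTab_42) (Nat.ble 42 c)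
noncomputable def finTab_s_44_46 (c : Nat) : Nat := @Bool.rec (fun _ => Nat) (finTab_44) (finTab_45) (Nat.ble 45 c)
noncomputable def finTab_s_43_46 (c : Nat) : Nat := @Bool.rec (fun _ => Nat) (finTab_43) (finTab_s_44_46 c) (Nat.ble 44 c)
noncomputable def finTab_s_41_46 (c : Nat) : Nat := @Bool.rec (fun _ => Nat) (finTab_s_41_43 c) (finTab_s_43_46 c) (Nat.ble 43 c)
noncomputable def finTab_s_37_46 (c : Nat) : Nat := @Bool.rec (fun _ => Nat) (finTab_s_37_41 c) (finTab_s_41_46 c) (Nat.ble 41 c)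
noncomputable def finTab_s_46_48 (c : Nat) : Nat := @Bool.rec (fun _ => Nat) (finTab_46) (finTab_47) (Nat.ble 47 c)
noncomputable def finTab_s_49_51 (c : Nat) : Nat := @Bool.rec (fun _ => Nat) (finTab_49) (finTab_50) (Nat.ble 50 c)
noncomputable def finTab_s_48_51 (c : Nat) : Nat := @Bool.rec (fun _ => Nat) (finTab_48) (finTab_s_49_51 c) (Nat.ble 49 c)
noncomputable def finTab_s_46_51 (c : Nat) : Nat := @Bool.rec (fun _ => Nat) (finTab_s_46_48 c) (finTab_s_48_51 c) (Nat.ble 48 c)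
noncomputable def finTab_s_51_53 (c : Nat) : Nat := @Bool.rec (fun _ => Nat) (finTab_51) (finTab_52) (Nat.ble 52 c)
noncomputable def finTab_s_54_56 (c : Nat) : Nat := @Bool.rec (fun _ => Nat) (finTab_54) (finTab_55) (Nat.ble 55 c)
noncomputable def finTab_s_53_56 (c : Nat) : Nat := @Bool.rec (fun _ => Nat) (finTab_53) (finTab_s_54_56 c) (Nat.ble 54 c)
noncomputable def finTab_s_51_56 (c : Nat) : Nat := @Bool.rec (fun _ => Nat) (finTab_s_51_53 c) (finTab_s_53_56 c) (Nat.ble 53 c)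
noncomputable def finTab_s_46_56 (c : Nat) : Nat := @Bool.rec (fun _ => Nat) (finTab_s_46_51 c) (finTab_s_51_56 c) (Nat.ble 51 c)
noncomputable def finTab_s_37_56 (c : Nat) : Nat := @Bool.rec (fun _ => Nat) (finTab_s_37_46 c) (finTab_s_46_56 c) (Nat.ble 46 c)
noncomputable def finTab_s_56_58 (c : Nat) : Nat := @Bool.rec (fun _ => Nat) (finTab_56) (finTab_57) (Nat.ble 57 c)
noncomputable def finTab_s_58_60 (c : Nat) : Nat := @Bool.rec (fun _ => Nat) (finTab_58) (finTab_59) (Nat.ble 59 c)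
noncomputable def finTab_s_56_60 (c : Nat) : Nat := @Bool.rec (fun _ => Nat) (finTab_s_56_58 c) (finTab_s_58_60 c) (Nat.ble 58 c)
noncomputable def finTab_s_60_62 (c : Nat) : Nat := @Bool.rec (fun _ => Nat) (finTab_60) (finTab_61) (Nat.ble 61 c)
noncomputable def finTab_s_63_65 (c : Nat) : Nat := @Bool.rec (fun _ => Nat) (finTab_63) (finTab_64) (Nat.ble 64 c)
noncomputable def finTab_s_62_65 (c : Nat) : Nat := @Bool.rec (fun _ => Nat) (finTab_62) (finTab_s_63_65 c) (Nat.ble 63 c)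
noncomputable def finTab_s_60_65 (c : Nat) : Nat := @Bool.rec (fun _ => Nat) (finTab_s_60_62 c) (finTab_s_62_65 c) (Nat.ble 62 c)
noncomputable def finTab_s_56_65 (c : Nat) : Nat := @Bool.rec (fun _ => Nat) (finTab_s_56_60 c) (finTab_s_60_65 c) (Nat.ble 60 c)
noncomputable def finTab_s_65_67 (c : Nat) : Nat := @Bool.rec (fun _ => Nat) (finTab_65) (finTab_66) (Nat.ble 66 c)
noncomputable def finTab_s_68_70 (c : Nat) : Nat := @Bool.rec (fun _ => Nat) (finTab_68) (finTab_69) (Nat.ble 69 c)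
noncomputable def finTab_s_67_70 (c : Nat) : Nat := @Bool.rec (fun _ => Nat) (finTab_67) (finTab_s_68_70 c) (Nat.ble 68 c)
noncomputable def finTab_s_65_70 (c : Nat) : Nat := @Bool.rec (fun _ => Nat) (finTab_s_65_67 c) (finTab_s_67_70 c) (Nat.ble 67 c)
noncomputable def finTab_s_70_72 (c : Nat) : Nat := @Bool.rec (fun _ => Nat) (finTab_70) (finTab_71) (Nat.ble 71 c)
noncomputable def finTab_s_73_75 (c : Nat) : Nat := @Bool.rec (fun _ => Nat) (finTab_73) (finTab_74) (Nat.ble 74 c)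
noncomputable def finTab_s_72_75 (c : Nat) : Nat := @Bool.rec (fun _ => Nat) (finTab_72) (finTab_s_73_75 c) (Nat.ble 73 c)
noncomputable def finTab_s_70_75 (c : Nat) : Nat := @Bool.rec (fun _ => Nat) (finTab_s_70_72 c) (finTab_s_72_75 c) (Nat.ble 72 c)
noncomputable def finTab_s_65_75 (c : Nat) : Nat := @Bool.rec (fun _ => Nat) (finTab_s_65_70 c) (finTab_s_70_75 c) (Nat.ble 70 c)
noncomputable def finTab_s_56_75 (c : Nat) : Nat := @Bool.rec (fun _ => Nat) (finTab_s_56_65 c) (finTab_s_65_75 c) (Nat.ble 65 c)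
noncomputable def finTab_s_37_75 (c : Nat) : Nat := @Bool.rec (fun _ => Nat) (finTab_s_37_56 c) (finTab_s_56_75 c) (Nat.ble 56 c)
noncomputable def finTab_s_0_75 (c : Nat) : Nat := @Bool.rec (fun _ => Nat) (finTab_s_0_37 c) (finTab_s_37_75 c) (Nat.ble 37 c)
noncomputable def finTab (i : Nat) : Nat := rdw 21 2097151 (finTab_s_0_75 (Nat.shiftRight i 12)) (Nat.land i 4095)
noncomputable def clsTab_s_0_2 (c : Nat) : Nat := @Bool.rec (fun _ => Nat) (clsTab_0) (clsTab_1) (Nat.ble 1 c)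
noncomputable def clsTab_s_3_5 (c : Nat) : Nat := @Bool.rec (fun _ => Nat) (clsTab_3) (clsTab_4) (Nat.ble 4 c)
noncomputable def clsTab_s_2_5 (c : Nat) : Nat := @Bool.rec (fun _ => Nat) (clsTab_2) (clsTab_s_3_5 c) (Nat.ble 3 c)
noncomputable def clsTab_s_0_5 (c : Nat) : Nat := @Bool.rec (fun _ => Nat) (clsTab_s_0_2 c) (clsTab_s_2_5 c) (Nat.ble 2 c)
noncomputable def clsTab_s_5_7 (c : Nat) : Nat := @Bool.rec (fun _ => Nat) (clsTab_5) (clsTab_6) (Nat.ble 6 c)
noncomputable def clsTab_s_8_10 (c : Nat) : Nat := @Bool.rec (fun _ => Nat) (clsTab_8) (clsTab_9) (Nat.ble 9 c)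
noncomputable def clsTab_s_7_10 (c : Nat) : Nat := @Bool.rec (fun _ => Nat) (clsTab_7) (clsTab_s_8_10 c) (Nat.ble 8 c)
noncomputable def clsTab_s_5_10 (c : Nat) : Nat := @Bool.rec (fun _ => Nat) (clsTab_s_5_7 c) (clsTab_s_7_10 c) (Nat.ble 7 c)
noncomputable def clsTab_s_0_10 (c : Nat) : Nat := @Bool.rec (fun _ => Nat) (clsTab_s_0_5 c) (clsTab_s_5_10 c) (Nat.ble 5 c)
noncomputable def clsTab_s_10_12 (c : Nat) : Nat := @Bool.rec (fun _ => Nat) (clsTab_10) (clsTab_11) (Nat.ble 11 c)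
noncomputable def clsTab_s_13_15 (c : Nat) : Nat := @Bool.rec (fun _ => Nat) (clsTab_13) (clsTab_14) (Nat.ble 14 c)
noncomputable def clsTab_s_12_15 (c : Nat) : Nat := @Bool.rec (fun _ => Nat) (clsTab_12) (clsTab_s_13_15 c) (Nat.ble 13 c)
noncomputable def clsTab_s_10_15 (c : Nat) : Nat := @Bool.rec (fun _ => Nat) (clsTab_s_10_12 c) (clsTab_s_12_15 c) (Nat.ble 12 c)
noncomputable def clsTab_s_16_18 (c : Nat) : Nat := @Bool.rec (fun _ => Nat) (clsTab_16) (clsTab_17) (Nat.ble 17 c)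
noncomputable def clsTab_s_15_18 (c : Nat) : Nat := @Bool.rec (fun _ => Nat) (clsTab_15) (clsTab_s_16_18 c) (Nat.ble 16 c)
noncomputable def clsTab_s_19_21 (c : Nat) : Nat := @Bool.rec (fun _ => Nat) (clsTab_19) (clsTab_20) (Nat.ble 20 c)
noncomputable def clsTab_s_18_21 (c : Nat) : Nat := @Bool.rec (fun _ => Nat) (clsTab_18) (clsTab_s_19_21 c) (Nat.ble 19 c)
noncomputable def clsTab_s_15_21 (c : Nat) : Nat := @Bool.rec (fun _ => Nat) (clsTab_s_15_18 c) (clsTab_s_18_21 c) (Nat.ble 18 c)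
noncomputable def clsTab_s_10_21 (c : Nat) : Nat := @Bool.rec (fun _ => Nat) (clsTab_s_10_15 c) (clsTab_s_15_21 c) (Nat.ble 15 c)
noncomputable def clsTab_s_0_21 (c : Nat) : Nat := @Bool.rec (fun _ => Nat) (clsTab_s_0_10 c) (clsTab_s_10_21 c) (Nat.ble 10 c)
noncomputable def clsTab (i : Nat) : Nat := rdw 14 16383 (clsTab_s_0_21 (Nat.shiftRight i 12)) (Nat.land i 4095)
noncomputable def oparTab_s_1_3 (c : Nat) : Nat := @Bool.rec (fun _ => Nat) (oparTab_1) (oparTab_2) (Nat.ble 2 c)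
noncomputable def oparTab_s_0_3 (c : Nat) : Nat := @Bool.rec (fun _ => Nat) (oparTab_0) (oparTab_s_1_3 c) (Nat.ble 1 c)
noncomputable def oparTab (i : Nat) : Nat := rdw 14 16383 (oparTab_s_0_3 (Nat.shiftRight i 12)) (Nat.land i 4095)
noncomputable def olabTab (i : Nat) : Nat := rdw 1 1 olabTab_0 i
noncomputable def srcF (t : Nat) : Nat := Nat.land (Atab t) 131071
noncomputable def tgtF (t : Nat) : Nat := Nat.land (Nat.shiftRight (Atab t) 17) 131071
noncomputable def ltF (t : Nat) : Nat := Nat.shiftRight (Atab t) 34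
noncomputable def rhoF (t : Nat) : Nat := Nat.land (Btab (Nat.sub t 83482)) 511
noncomputable def rotF (t : Nat) : Nat := Nat.land (Nat.shiftRight (Btab (Nat.sub t 83482)) 9) 127
noncomputable def lenF (t : Nat) : Nat := Nat.land (Nat.shiftRight (Btab (Nat.sub t 83482)) 16) 255
noncomputable def offF (t : Nat) : Nat := Nat.shiftRight (Btab (Nat.sub t 83482)) 24
noncomputable def pfF (j : Nat) : Nat := Nat.shiftRight (Ptab j) 1
noncomputable def pdF (j : Nat) : Nat := Nat.land (Ptab j) 1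
noncomputable def tblF (i x : Nat) : Nat := @Bool.rec (fun _ => Nat) (@Bool.rec (fun _ => Nat) (@Bool.rec (fun _ => Nat) (@Bool.rec (fun _ => Nat) (@Bool.rec (fun _ => Nat) (col0 i) (col1 i) (Nat.ble 1 x)) (@Bool.rec (fun _ => Nat) (col2 i) (col3 i) (Nat.ble 3 x)) (Nat.ble 2 x)) (@Bool.rec (fun _ => Nat) (@Bool.rec (fun _ => Nat) (col4 i) (col5 i) (Nat.ble 5 x)) (@Bool.rec (fun _ => Nat) (col6 i) (col7 i) (Nat.ble 7 x)) (Nat.ble 6 x)) (Nat.ble 4 x)) (@Bool.rec (fun _ => Nat) (@Bool.rec (fun _ => Nat) (@Bool.rec (fun _ => Nat) (col8 i) (col9 i) (Nat.ble 9 x)) (@Bool.rec (fun _ => Nat) (col10 i) (col11 i) (Nat.ble 11 x)) (Nat.ble 10 x)) (@Bool.rec (fun _ => Nat) (@Bool.rec (fun _ => Nat) (col12 i) (col13 i) (Nat.ble 13 x)) (@Bool.rec (fun _ => Nat) (col14 i) (@Bool.rec (fun _ => Nat) (col15 i) (col16 i) (Nat.ble 16 x)) (Nat.ble 15 x)) (Nat.ble 14 x)) (Nat.ble 12 x)) (Nat.ble 8 x)) (@Bool.rec (fun _ => Nat) (@Bool.rec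 (fun _ => Nat) (@Bool.rec (fun _ => Nat) (@Bool.rec (fun _ => Nat) (col17 i) (col18 i) (Nat.ble 18 x)) (@Bool.rec (fun _ => Nat) (col19 i) (col20 i) (Nat.ble 20 x)) (Nat.ble 19 x)) (@Bool.rec (fun _ => Nat) (@Bool.rec (fun _ => Nat) (col21 i) (col22 i) (Nat.ble 22 x)) (@Bool.rec (fun _ => Nat) (col23 i) (col24 i) (Nat.ble 24 x)) (Nat.ble 23 x)) (Nat.ble 21 x)) (@Bool.rec (fun _ => Nat) (@Bool.rec (fun _ => Nat) (@Bool.rec (fun _ => Nat) (col25 i) (col26 i) (Nat.ble 26 x)) (@Bool.rec (fun _ => Nat) (col27 i) (col28 i) (Nat.ble 28 x)) (Nat.ble 27 x)) (@Bool.rec (fun _ => Nat) (@Bool.rec (fun _ => Nat) (col29 i) (col30 i) (Nat.ble 30 x)) (@Bool.rec (fun _ => Nat) (col31 i) (@Bool.rec (fun _ => Nat) (col32 i) (col33 i) (Nat.ble 33 x)) (Nat.ble 32 x)) (Nat.ble 31 x)) (Nat.ble 29 x)) (Nat.ble 25 x)) (Nat.ble 17 x)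
noncomputable def finE (i x : Nat) : Nat := finTab (Nat.add (Nat.mul i 34) x)
noncomputable def finFF (i x : Nat) : Nat := Nat.shiftRight (finE i x) 1
noncomputable def finDF (i x : Nat) : Nat := Nat.land (finE i x) 1

noncomputable def D : Log :=
  { k := 34, inv := invE 34 PSC4Sz8p2.invR, nR := 266, rBase := rBtab, rLen := rLtab, RR := RRtab,
    M := 83480, nB := 2, F := 621423, src := srcF, lt := ltF, tgt := tgtF, rho := rhoF, rot := rotF,
    off := offF, len := lenF, pf := pfF, pd := pdF }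

noncomputable def T : Tab :=
  { N := 8960, nameOf := nameTab, tbl := tblF, finF := finFF, finD := finDF, cls := clsTab }

def subs : List (List Nat) := [
  [0] ]

def rw0 : List Nat := [0, 0, 0, 0, 0, 0, 0, 0, 0, 0, 0, 0, 0]
def rw1 : List Nat := [2, 2, 2, 2, 2]
def rw2 : List Nat := [4, 4, 4, 4, 4, 4, 4]
def rw3 : List Nat := [7, 3, 4]
def rw4 : List Nat := [9, 2, 7]
def rw5 : List Nat := [11, 8, 6, 8, 7, 8, 6, 8, 7, 8, 6, 8, 7, 8, 6, 8, 7, 8, 6, 8, 7, 8, 6, 8, 7, 8, 6, 8, 7, 8, 6, 8, 7, 8, 6, 8, 7, 8, 6, 8, 7, 8, 6, 8, 7, 8, 6, 8, 7, 8, 6, 8, 7]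
def rw6 : List Nat := [13, 8, 6, 8, 6, 6, 8, 6, 6, 6, 8, 6, 8, 6, 6, 8, 6, 6, 6, 8, 6, 8, 6, 6, 8, 6, 6, 6, 8, 6, 8, 6, 6, 8, 6, 6, 6, 8, 6, 8, 6, 6, 8, 6, 6, 6, 8, 6, 8, 6, 6, 8, 6, 6, 6, 8, 6, 8, 6, 6, 8, 6, 6, 6]
def rw7 : List Nat := [15, 1, 8, 6, 8, 7, 8, 6, 8, 7]
def rw8 : List Nat := [17, 8, 8]
def rw9 : List Nat := [19, 6, 6, 6, 6]
def rw10 : List Nat := [21, 10, 10]
def rw11 : List Nat := [23, 12, 12]
def rw12 : List Nat := [25, 11, 9, 10, 8]
def rw13 : List Nat := [27, 11, 7, 10, 6]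
def rw14 : List Nat := [29, 13, 9, 12, 8]
def rw15 : List Nat := [31, 13, 7, 12, 6]
def rw16 : List Nat := [33, 11, 13, 10, 12]
def rw17 : List Nat := [14, 14]
def rw18 : List Nat := [16, 16]
def rw19 : List Nat := [18, 18]
def rw20 : List Nat := [20, 20]
def rw21 : List Nat := [22, 22]
def rw22 : List Nat := [24, 24]
def rw23 : List Nat := [26, 26]
def rw24 : List Nat := [28, 28]
def rw25 : List Nat := [30, 30]
def rw26 : List Nat := [32, 32]
def rw27 : List Nat := [14, 0, 15, 1]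
def rw28 : List Nat := [14, 2, 15, 3]
def rw29 : List Nat := [14, 4, 15, 5]
def rw30 : List Nat := [14, 6, 15, 7]
def rw31 : List Nat := [14, 8, 15, 9]
def rw32 : List Nat := [14, 10, 15, 11]
def rw33 : List Nat := [14, 12, 15, 13]
def rw34 : List Nat := [16, 0, 17, 1]
def rw35 : List Nat := [16, 2, 17, 3]
def rw36 : List Nat := [16, 4, 17, 5]
def rw37 : List Nat := [16, 6, 17, 7]
def rw38 : List Nat := [16, 8, 17, 9]
def rw39 : List Nat := [16, 10, 17, 11]
def rw40 : List Nat := [16, 12, 17, 13]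
def rw41 : List Nat := [18, 0, 19, 1]
def rw42 : List Nat := [18, 2, 19, 3]
def rw43 : List Nat := [18, 4, 19, 5]
def rw44 : List Nat := [18, 6, 19, 7]
def rw45 : List Nat := [18, 8, 19, 9]
def rw46 : List Nat := [18, 10, 19, 11]
def rw47 : List Nat := [18, 12, 19, 13]
def rw48 : List Nat := [20, 0, 21, 1]
def rw49 : List Nat := [20, 2, 21, 3]
def rw50 : List Nat := [20, 4, 21, 5]
def rw51 : List Nat := [20, 6, 21, 7]
def rw52 : List Nat := [20, 8, 21, 9]
def rw53 : List Nat := [20, 10, 21, 11]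
def rw54 : List Nat := [20, 12, 21, 13]
def rw55 : List Nat := [22, 0, 23, 1]
def rw56 : List Nat := [22, 2, 23, 3]
def rw57 : List Nat := [22, 4, 23, 5]
def rw58 : List Nat := [22, 6, 23, 7]
def rw59 : List Nat := [22, 8, 23, 9]
def rw60 : List Nat := [22, 10, 23, 11]
def rw61 : List Nat := [22, 12, 23, 13]
def rw62 : List Nat := [24, 0, 25, 1]
def rw63 : List Nat := [24, 2, 25, 3]
def rw64 : List Nat := [24, 4, 25, 5]
def rw65 : List Nat := [24, 6, 25, 7]
def rw66 : List Nat := [24, 8, 25, 9]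
def rw67 : List Nat := [24, 10, 25, 11]
def rw68 : List Nat := [24, 12, 25, 13]
def rw69 : List Nat := [26, 0, 27, 1]
def rw70 : List Nat := [26, 2, 27, 3]
def rw71 : List Nat := [26, 4, 27, 5]
def rw72 : List Nat := [26, 6, 27, 7]
def rw73 : List Nat := [26, 8, 27, 9]
def rw74 : List Nat := [26, 10, 27, 11]
def rw75 : List Nat := [26, 12, 27, 13]
def rw76 : List Nat := [28, 0, 29, 1]
def rw77 : List Nat := [28, 2, 29, 3]
def rw78 : List Nat := [28, 4, 29, 5]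
def rw79 : List Nat := [28, 6, 29, 7]
def rw80 : List Nat := [28, 8, 29, 9]
def rw81 : List Nat := [28, 10, 29, 11]
def rw82 : List Nat := [28, 12, 29, 13]
def rw83 : List Nat := [30, 0, 31, 1]
def rw84 : List Nat := [30, 2, 31, 3]
def rw85 : List Nat := [30, 4, 31, 5]
def rw86 : List Nat := [30, 6, 31, 7]
def rw87 : List Nat := [30, 8, 31, 9]
def rw88 : List Nat := [30, 10, 31, 11]
def rw89 : List Nat := [30, 12, 31, 13]
def rw90 : List Nat := [32, 0, 33, 1]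
def rw91 : List Nat := [32, 2, 33, 3]
def rw92 : List Nat := [32, 4, 33, 5]
def rw93 : List Nat := [32, 6, 33, 7]
def rw94 : List Nat := [32, 8, 33, 9]
def rw95 : List Nat := [32, 10, 33, 11]
def rw96 : List Nat := [32, 12, 33, 13]
def rw97 : List Nat := [0, 0, 0, 0, 0, 0, 0, 0, 0, 0, 0, 0, 0]
def realLit : List (List Nat) := [rw0, rw1, rw2, rw3, rw4, rw5, rw6, rw7, rw8, rw9, rw10, rw11, rw12, rw13, rw14, rw15, rw16, rw17, rw18, rw19, rw20, rw21, rw22, rw23, rw24, rw25, rw26, rw27, rw28, rw29, rw30, rw31, rw32, rw33, rw34, rw35, rw36, rw37, rw38, rw39, rw40, rw41, rw42, rw43, rw44, rw45, rw46, rw47, rw48, rw49, rw50, rw51, rw52, rw53, rw54, rw55, rw56, rw57, rw58, rw59, rw60, rw61, rw62, rw63, rw64, rw65, rw66, rw67, rw68, rw69, rw70, rw71, rw72, rw73, rw74, rw75, rw76, rw77, rw78, rw79, rw80, rw81, rw82, rw83, rw84, rw85, rw86, rw87, rw88, rw89, rw90, rw91, rw92, rw93, rw94, rw95, rw96, rw97]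
noncomputable def actR0 (i : Nat) : Nat := col1 (col1 (col1 (col1 (col1 (col1 (col1 (col1 (col1 (col1 (col1 (col1 (col1 (i)))))))))))))
theorem actR0_eq (i : Nat) : actR0 i = Tab.act T D rw0 i := rfl
noncomputable def actR1 (i : Nat) : Nat := col3 (col3 (col3 (col3 (col3 (i)))))
theorem actR1_eq (i : Nat) : actR1 i = Tab.act T D rw1 i := rfl
noncomputable def actR2 (i : Nat) : Nat := col5 (col5 (col5 (col5 (col5 (col5 (col5 (i)))))))
theorem actR2_eq (i : Nat) : actR2 i = Tab.act T D rw2 i := rfl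
noncomputable def actR3 (i : Nat) : Nat := col6 (col2 (col5 (i)))
theorem actR3_eq (i : Nat) : actR3 i = Tab.act T D rw3 i := rfl
noncomputable def actR4 (i : Nat) : Nat := col8 (col3 (col6 (i)))
theorem actR4_eq (i : Nat) : actR4 i = Tab.act T D rw4 i := rfl
noncomputable def actR5 (i : Nat) : Nat := col10 (col9 (col7 (col9 (col6 (col9 (col7 (col9 (col6 (col9 (col7 (col9 (col6 (col9 (col7 (col9 (col6 (col9 (col7 (col9 (col6 (col9 (col7 (col9 (col6 (col9 (col7 (col9 (col6 (col9 (col7 (col9 (col6 (col9 (col7 (col9 (col6 (col9 (col7 (col9 (col6 (col9 (col7 (col9 (col6 (col9 (col7 (col9 (col6 (col9 (col7 (col9 (col6 (i)))))))))))))))))))))))))))))))))))))))))))))))))))))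
theorem actR5_eq (i : Nat) : actR5 i = Tab.act T D rw5 i := rfl
noncomputable def actR6 (i : Nat) : Nat := col12 (col9 (col7 (col9 (col7 (col7 (col9 (col7 (col7 (col7 (col9 (col7 (col9 (col7 (col7 (col9 (col7 (col7 (col7 (col9 (col7 (col9 (col7 (col7 (col9 (col7 (col7 (col7 (col9 (col7 (col9 (col7 (col7 (col9 (col7 (col7 (col7 (col9 (col7 (col9 (col7 (col7 (col9 (col7 (col7 (col7 (col9 (col7 (col9 (col7 (col7 (col9 (col7 (col7 (col7 (col9 (col7 (col9 (col7 (col7 (col9 (col7 (col7 (col7 (i))))))))))))))))))))))))))))))))))))))))))))))))))))))))))))))))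
theorem actR6_eq (i : Nat) : actR6 i = Tab.act T D rw6 i := rfl
noncomputable def actR7 (i : Nat) : Nat := col14 (col0 (col9 (col7 (col9 (col6 (col9 (col7 (col9 (col6 (i))))))))))
theorem actR7_eq (i : Nat) : actR7 i = Tab.act T D rw7 i := rfl
noncomputable def actR8 (i : Nat) : Nat := col16 (col9 (col9 (i)))
theorem actR8_eq (i : Nat) : actR8 i = Tab.act T D rw8 i := rfl
noncomputable def actR9 (i : Nat) : Nat := col18 (col7 (col7 (col7 (col7 (i)))))
theorem actR9_eq (i : Nat) : actR9 i = Tab.act T D rw9 i := rfl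
noncomputable def actR10 (i : Nat) : Nat := col20 (col11 (col11 (i)))
theorem actR10_eq (i : Nat) : actR10 i = Tab.act T D rw10 i := rfl
noncomputable def actR11 (i : Nat) : Nat := col22 (col13 (col13 (i)))
theorem actR11_eq (i : Nat) : actR11 i = Tab.act T D rw11 i := rfl
noncomputable def actR12 (i : Nat) : Nat := col24 (col10 (col8 (col11 (col9 (i)))))
theorem actR12_eq (i : Nat) : actR12 i = Tab.act T D rw12 i := rfl
noncomputable def actR13 (i : Nat) : Nat := col26 (col10 (col6 (col11 (col7 (i)))))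
theorem actR13_eq (i : Nat) : actR13 i = Tab.act T D rw13 i := rfl
noncomputable def actR14 (i : Nat) : Nat := col28 (col12 (col8 (col13 (col9 (i)))))
theorem actR14_eq (i : Nat) : actR14 i = Tab.act T D rw14 i := rfl
noncomputable def actR15 (i : Nat) : Nat := col30 (col12 (col6 (col13 (col7 (i)))))
theorem actR15_eq (i : Nat) : actR15 i = Tab.act T D rw15 i := rfl
noncomputable def actR16 (i : Nat) : Nat := col32 (col10 (col12 (col11 (col13 (i)))))
theorem actR16_eq (i : Nat) : actR16 i = Tab.act T D rw16 i := rfl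
noncomputable def actR17 (i : Nat) : Nat := col15 (col15 (i))
theorem actR17_eq (i : Nat) : actR17 i = Tab.act T D rw17 i := rfl
noncomputable def actR18 (i : Nat) : Nat := col17 (col17 (i))
theorem actR18_eq (i : Nat) : actR18 i = Tab.act T D rw18 i := rfl
noncomputable def actR19 (i : Nat) : Nat := col19 (col19 (i))
theorem actR19_eq (i : Nat) : actR19 i = Tab.act T D rw19 i := rfl
noncomputable def actR20 (i : Nat) : Nat := col21 (col21 (i))
theorem actR20_eq (i : Nat) : actR20 i = Tab.act T D rw20 i := rfl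
noncomputable def actR21 (i : Nat) : Nat := col23 (col23 (i))
theorem actR21_eq (i : Nat) : actR21 i = Tab.act T D rw21 i := rfl
noncomputable def actR22 (i : Nat) : Nat := col25 (col25 (i))
theorem actR22_eq (i : Nat) : actR22 i = Tab.act T D rw22 i := rfl
noncomputable def actR23 (i : Nat) : Nat := col27 (col27 (i))
theorem actR23_eq (i : Nat) : actR23 i = Tab.act T D rw23 i := rfl
noncomputable def actR24 (i : Nat) : Nat := col29 (col29 (i))
theorem actR24_eq (i : Nat) : actR24 i = Tab.act T D rw24 i := rfl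
noncomputable def actR25 (i : Nat) : Nat := col31 (col31 (i))
theorem actR25_eq (i : Nat) : actR25 i = Tab.act T D rw25 i := rfl
noncomputable def actR26 (i : Nat) : Nat := col33 (col33 (i))
theorem actR26_eq (i : Nat) : actR26 i = Tab.act T D rw26 i := rfl
noncomputable def actR27 (i : Nat) : Nat := col15 (col1 (col14 (col0 (i))))
theorem actR27_eq (i : Nat) : actR27 i = Tab.act T D rw27 i := rfl
noncomputable def actR28 (i : Nat) : Nat := col15 (col3 (col14 (col2 (i))))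
theorem actR28_eq (i : Nat) : actR28 i = Tab.act T D rw28 i := rfl
noncomputable def actR29 (i : Nat) : Nat := col15 (col5 (col14 (col4 (i))))
theorem actR29_eq (i : Nat) : actR29 i = Tab.act T D rw29 i := rfl
noncomputable def actR30 (i : Nat) : Nat := col15 (col7 (col14 (col6 (i))))
theorem actR30_eq (i : Nat) : actR30 i = Tab.act T D rw30 i := rfl
noncomputable def actR31 (i : Nat) : Nat := col15 (col9 (col14 (col8 (i))))
theorem actR31_eq (i : Nat) : actR31 i = Tab.act T D rw31 i := rfl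
noncomputable def actR32 (i : Nat) : Nat := col15 (col11 (col14 (col10 (i))))
theorem actR32_eq (i : Nat) : actR32 i = Tab.act T D rw32 i := rfl
noncomputable def actR33 (i : Nat) : Nat := col15 (col13 (col14 (col12 (i))))
theorem actR33_eq (i : Nat) : actR33 i = Tab.act T D rw33 i := rfl
noncomputable def actR34 (i : Nat) : Nat := col17 (col1 (col16 (col0 (i))))
theorem actR34_eq (i : Nat) : actR34 i = Tab.act T D rw34 i := rfl
noncomputable def actR35 (i : Nat) : Nat := col17 (col3 (col16 (col2 (i))))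
theorem actR35_eq (i : Nat) : actR35 i = Tab.act T D rw35 i := rfl
noncomputable def actR36 (i : Nat) : Nat := col17 (col5 (col16 (col4 (i))))
theorem actR36_eq (i : Nat) : actR36 i = Tab.act T D rw36 i := rfl
noncomputable def actR37 (i : Nat) : Nat := col17 (col7 (col16 (col6 (i))))
theorem actR37_eq (i : Nat) : actR37 i = Tab.act T D rw37 i := rfl
noncomputable def actR38 (i : Nat) : Nat := col17 (col9 (col16 (col8 (i))))
theorem actR38_eq (i : Nat) : actR38 i = Tab.act T D rw38 i := rfl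
noncomputable def actR39 (i : Nat) : Nat := col17 (col11 (col16 (col10 (i))))
theorem actR39_eq (i : Nat) : actR39 i = Tab.act T D rw39 i := rfl
noncomputable def actR40 (i : Nat) : Nat := col17 (col13 (col16 (col12 (i))))
theorem actR40_eq (i : Nat) : actR40 i = Tab.act T D rw40 i := rfl
noncomputable def actR41 (i : Nat) : Nat := col19 (col1 (col18 (col0 (i))))
theorem actR41_eq (i : Nat) : actR41 i = Tab.act T D rw41 i := rfl
noncomputable def actR42 (i : Nat) : Nat := col19 (col3 (col18 (col2 (i))))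
theorem actR42_eq (i : Nat) : actR42 i = Tab.act T D rw42 i := rfl
noncomputable def actR43 (i : Nat) : Nat := col19 (col5 (col18 (col4 (i))))
theorem actR43_eq (i : Nat) : actR43 i = Tab.act T D rw43 i := rfl
noncomputable def actR44 (i : Nat) : Nat := col19 (col7 (col18 (col6 (i))))
theorem actR44_eq (i : Nat) : actR44 i = Tab.act T D rw44 i := rfl
noncomputable def actR45 (i : Nat) : Nat := col19 (col9 (col18 (col8 (i))))
theorem actR45_eq (i : Nat) : actR45 i = Tab.act T D rw45 i := rfl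
noncomputable def actR46 (i : Nat) : Nat := col19 (col11 (col18 (col10 (i))))
theorem actR46_eq (i : Nat) : actR46 i = Tab.act T D rw46 i := rfl
noncomputable def actR47 (i : Nat) : Nat := col19 (col13 (col18 (col12 (i))))
theorem actR47_eq (i : Nat) : actR47 i = Tab.act T D rw47 i := rfl
noncomputable def actR48 (i : Nat) : Nat := col21 (col1 (col20 (col0 (i))))
theorem actR48_eq (i : Nat) : actR48 i = Tab.act T D rw48 i := rfl
noncomputable def actR49 (i : Nat) : Nat := col21 (col3 (col20 (col2 (i))))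
theorem actR49_eq (i : Nat) : actR49 i = Tab.act T D rw49 i := rfl
noncomputable def actR50 (i : Nat) : Nat := col21 (col5 (col20 (col4 (i))))
theorem actR50_eq (i : Nat) : actR50 i = Tab.act T D rw50 i := rfl
noncomputable def actR51 (i : Nat) : Nat := col21 (col7 (col20 (col6 (i))))
theorem actR51_eq (i : Nat) : actR51 i = Tab.act T D rw51 i := rfl
noncomputable def actR52 (i : Nat) : Nat := col21 (col9 (col20 (col8 (i))))
theorem actR52_eq (i : Nat) : actR52 i = Tab.act T D rw52 i := rfl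
noncomputable def actR53 (i : Nat) : Nat := col21 (col11 (col20 (col10 (i))))
theorem actR53_eq (i : Nat) : actR53 i = Tab.act T D rw53 i := rfl
noncomputable def actR54 (i : Nat) : Nat := col21 (col13 (col20 (col12 (i))))
theorem actR54_eq (i : Nat) : actR54 i = Tab.act T D rw54 i := rfl
noncomputable def actR55 (i : Nat) : Nat := col23 (col1 (col22 (col0 (i))))
theorem actR55_eq (i : Nat) : actR55 i = Tab.act T D rw55 i := rfl
noncomputable def actR56 (i : Nat) : Nat := col23 (col3 (col22 (col2 (i))))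
theorem actR56_eq (i : Nat) : actR56 i = Tab.act T D rw56 i := rfl
noncomputable def actR57 (i : Nat) : Nat := col23 (col5 (col22 (col4 (i))))
theorem actR57_eq (i : Nat) : actR57 i = Tab.act T D rw57 i := rfl
noncomputable def actR58 (i : Nat) : Nat := col23 (col7 (col22 (col6 (i))))
theorem actR58_eq (i : Nat) : actR58 i = Tab.act T D rw58 i := rfl
noncomputable def actR59 (i : Nat) : Nat := col23 (col9 (col22 (col8 (i))))
theorem actR59_eq (i : Nat) : actR59 i = Tab.act T D rw59 i := rfl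
noncomputable def actR60 (i : Nat) : Nat := col23 (col11 (col22 (col10 (i))))
theorem actR60_eq (i : Nat) : actR60 i = Tab.act T D rw60 i := rfl
noncomputable def actR61 (i : Nat) : Nat := col23 (col13 (col22 (col12 (i))))
theorem actR61_eq (i : Nat) : actR61 i = Tab.act T D rw61 i := rfl
noncomputable def actR62 (i : Nat) : Nat := col25 (col1 (col24 (col0 (i))))
theorem actR62_eq (i : Nat) : actR62 i = Tab.act T D rw62 i := rfl
noncomputable def actR63 (i : Nat) : Nat := col25 (col3 (col24 (col2 (i))))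
theorem actR63_eq (i : Nat) : actR63 i = Tab.act T D rw63 i := rfl
noncomputable def actR64 (i : Nat) : Nat := col25 (col5 (col24 (col4 (i))))
theorem actR64_eq (i : Nat) : actR64 i = Tab.act T D rw64 i := rfl
noncomputable def actR65 (i : Nat) : Nat := col25 (col7 (col24 (col6 (i))))
theorem actR65_eq (i : Nat) : actR65 i = Tab.act T D rw65 i := rfl
noncomputable def actR66 (i : Nat) : Nat := col25 (col9 (col24 (col8 (i))))
theorem actR66_eq (i : Nat) : actR66 i = Tab.act T D rw66 i := rfl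
noncomputable def actR67 (i : Nat) : Nat := col25 (col11 (col24 (col10 (i))))
theorem actR67_eq (i : Nat) : actR67 i = Tab.act T D rw67 i := rfl
noncomputable def actR68 (i : Nat) : Nat := col25 (col13 (col24 (col12 (i))))
theorem actR68_eq (i : Nat) : actR68 i = Tab.act T D rw68 i := rfl
noncomputable def actR69 (i : Nat) : Nat := col27 (col1 (col26 (col0 (i))))
theorem actR69_eq (i : Nat) : actR69 i = Tab.act T D rw69 i := rfl
noncomputable def actR70 (i : Nat) : Nat := col27 (col3 (col26 (col2 (i))))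
theorem actR70_eq (i : Nat) : actR70 i = Tab.act T D rw70 i := rfl
noncomputable def actR71 (i : Nat) : Nat := col27 (col5 (col26 (col4 (i))))
theorem actR71_eq (i : Nat) : actR71 i = Tab.act T D rw71 i := rfl
noncomputable def actR72 (i : Nat) : Nat := col27 (col7 (col26 (col6 (i))))
theorem actR72_eq (i : Nat) : actR72 i = Tab.act T D rw72 i := rfl
noncomputable def actR73 (i : Nat) : Nat := col27 (col9 (col26 (col8 (i))))
theorem actR73_eq (i : Nat) : actR73 i = Tab.act T D rw73 i := rfl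
noncomputable def actR74 (i : Nat) : Nat := col27 (col11 (col26 (col10 (i))))
theorem actR74_eq (i : Nat) : actR74 i = Tab.act T D rw74 i := rfl
noncomputable def actR75 (i : Nat) : Nat := col27 (col13 (col26 (col12 (i))))
theorem actR75_eq (i : Nat) : actR75 i = Tab.act T D rw75 i := rfl
noncomputable def actR76 (i : Nat) : Nat := col29 (col1 (col28 (col0 (i))))
theorem actR76_eq (i : Nat) : actR76 i = Tab.act T D rw76 i := rfl
noncomputable def actR77 (i : Nat) : Nat := col29 (col3 (col28 (col2 (i))))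
theorem actR77_eq (i : Nat) : actR77 i = Tab.act T D rw77 i := rfl
noncomputable def actR78 (i : Nat) : Nat := col29 (col5 (col28 (col4 (i))))
theorem actR78_eq (i : Nat) : actR78 i = Tab.act T D rw78 i := rfl
noncomputable def actR79 (i : Nat) : Nat := col29 (col7 (col28 (col6 (i))))
theorem actR79_eq (i : Nat) : actR79 i = Tab.act T D rw79 i := rfl
noncomputable def actR80 (i : Nat) : Nat := col29 (col9 (col28 (col8 (i))))
theorem actR80_eq (i : Nat) : actR80 i = Tab.act T D rw80 i := rfl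
noncomputable def actR81 (i : Nat) : Nat := col29 (col11 (col28 (col10 (i))))
theorem actR81_eq (i : Nat) : actR81 i = Tab.act T D rw81 i := rfl
noncomputable def actR82 (i : Nat) : Nat := col29 (col13 (col28 (col12 (i))))
theorem actR82_eq (i : Nat) : actR82 i = Tab.act T D rw82 i := rfl
noncomputable def actR83 (i : Nat) : Nat := col31 (col1 (col30 (col0 (i))))
theorem actR83_eq (i : Nat) : actR83 i = Tab.act T D rw83 i := rfl
noncomputable def actR84 (i : Nat) : Nat := col31 (col3 (col30 (col2 (i))))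
theorem actR84_eq (i : Nat) : actR84 i = Tab.act T D rw84 i := rfl
noncomputable def actR85 (i : Nat) : Nat := col31 (col5 (col30 (col4 (i))))
theorem actR85_eq (i : Nat) : actR85 i = Tab.act T D rw85 i := rfl
noncomputable def actR86 (i : Nat) : Nat := col31 (col7 (col30 (col6 (i))))
theorem actR86_eq (i : Nat) : actR86 i = Tab.act T D rw86 i := rfl
noncomputable def actR87 (i : Nat) : Nat := col31 (col9 (col30 (col8 (i))))
theorem actR87_eq (i : Nat) : actR87 i = Tab.act T D rw87 i := rfl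
noncomputable def actR88 (i : Nat) : Nat := col31 (col11 (col30 (col10 (i))))
theorem actR88_eq (i : Nat) : actR88 i = Tab.act T D rw88 i := rfl
noncomputable def actR89 (i : Nat) : Nat := col31 (col13 (col30 (col12 (i))))
theorem actR89_eq (i : Nat) : actR89 i = Tab.act T D rw89 i := rfl
noncomputable def actR90 (i : Nat) : Nat := col33 (col1 (col32 (col0 (i))))
theorem actR90_eq (i : Nat) : actR90 i = Tab.act T D rw90 i := rfl
noncomputable def actR91 (i : Nat) : Nat := col33 (col3 (col32 (col2 (i))))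
theorem actR91_eq (i : Nat) : actR91 i = Tab.act T D rw91 i := rfl
noncomputable def actR92 (i : Nat) : Nat := col33 (col5 (col32 (col4 (i))))
theorem actR92_eq (i : Nat) : actR92 i = Tab.act T D rw92 i := rfl
noncomputable def actR93 (i : Nat) : Nat := col33 (col7 (col32 (col6 (i))))
theorem actR93_eq (i : Nat) : actR93 i = Tab.act T D rw93 i := rfl
noncomputable def actR94 (i : Nat) : Nat := col33 (col9 (col32 (col8 (i))))
theorem actR94_eq (i : Nat) : actR94 i = Tab.act T D rw94 i := rfl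
noncomputable def actR95 (i : Nat) : Nat := col33 (col11 (col32 (col10 (i))))
theorem actR95_eq (i : Nat) : actR95 i = Tab.act T D rw95 i := rfl
noncomputable def actR96 (i : Nat) : Nat := col33 (col13 (col32 (col12 (i))))
theorem actR96_eq (i : Nat) : actR96 i = Tab.act T D rw96 i := rfl
noncomputable def actR97 (i : Nat) : Nat := col1 (col1 (col1 (col1 (col1 (col1 (col1 (col1 (col1 (col1 (col1 (col1 (col1 (i)))))))))))))
theorem actR97_eq (i : Nat) : actR97 i = Tab.act T D rw97 i := rfl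

end Cfsg.Agent.Lib.Helper4.TCD.SC4Sz8p2A
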