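import Cfsg.Agent.Lib.Helper4.TCD_SC4Sz8p2A_Acc

namespace Cfsg.Agent.Lib.Helper4.TCD.SC4Sz8p2A

open Cfsg.Agent.Lib.Helper4.TC

set_option maxRecDepth 100000
set_option Elab.async false

theorem c_zero : D.zeroOK = true := by decide +kernel
theorem c_base : allBelow D.baseOK 2 = true := by decide +kernel
theorem c_let : allBelow D.letOK 34 = true := by decide +kernel
theorem c_cls0 : T.cls 0 = 0 := by decide +kernel
theorem c_name0 : T.nameOf 0 = 0 := by decide +kernel
theorem c_tab : D.relTabOK 0 (baseRels 34 PSC4Sz8p2.invR PSC4Sz8p2.P.real subs ++ (baseRels 34 PSC4Sz8p2.invR PSC4Sz8p2.P.real subs).map (invWord D.inv)) = true := by decide +kernel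
theorem c_real : PSC4Sz8p2.P.real = realLit := by decide +kernel
theorem c_subfix : subs.all (fun u => Nat.beq (Tab.act T D u 0) 0) = true := by decide +kernel
theorem c_subs : subs.all (fun u => u.all (fun x => Nat.ble (Nat.succ x) 34)) = true := by decide +kernel
theorem c_names_0 : allRange D.nameOK 1 60000 = true := by decide +kernel
theorem c_names_1 : allRange D.nameOK 60001 23479 = true := by decide +kernel
theorem c_cls_0 : allRange (T.clsOK D) 1 15000 = true := by decide +kernel
theorem c_cls_1 : allRange (T.clsOK D) 15001 15000 = true := by decide +kernel
theorem c_cls_2 : allRange (T.clsOK D) 30001 15000 = true := by decide +kernel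
theorem c_cls_3 : allRange (T.clsOK D) 45001 15000 = true := by decide +kernel
theorem c_cls_4 : allRange (T.clsOK D) 60001 15000 = true := by decide +kernel
theorem c_cls_5 : allRange (T.clsOK D) 75001 8479 = true := by decide +kernel
theorem c_rep_0 : allRange (T.repOK D) 0 8960 = true := by decide +kernel
theorem c_rel_0 : allRange D.relOK 83482 3949 = true := by decide +kernel
theorem c_rel_1 : allRange D.relOK 87431 3747 = true := by decide +kernel
theorem c_rel_2 : allRange D.relOK 91178 3694 = true := by decide +kernel
theorem c_rel_3 : allRange D.relOK 94872 3688 = true := by decide +kernel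
theorem c_rel_4 : allRange D.relOK 98560 3426 = true := by decide +kernel
theorem c_rel_5 : allRange D.relOK 101986 3248 = true := by decide +kernel
theorem c_rel_6 : allRange D.relOK 105234 3351 = true := by decide +kernel
theorem c_rel_7 : allRange D.relOK 108585 3576 = true := by decide +kernel
theorem c_rel_8 : allRange D.relOK 112161 3675 = true := by decide +kernel
theorem c_rel_9 : allRange D.relOK 115836 3434 = true := by decide +kernel
theorem c_rel_10 : allRange D.relOK 119270 3636 = true := by decide +kernel
theorem c_rel_11 : allRange D.relOK 122906 3618 = true := by decide +kernel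
theorem c_rel_12 : allRange D.relOK 126524 3734 = true := by decide +kernel
theorem c_rel_13 : allRange D.relOK 130258 3585 = true := by decide +kernel
theorem c_rel_14 : allRange D.relOK 133843 3616 = true := by decide +kernel
theorem c_rel_15 : allRange D.relOK 137459 3611 = true := by decide +kernel
theorem c_rel_16 : allRange D.relOK 141070 3429 = true := by decide +kernel
theorem c_rel_17 : allRange D.relOK 144499 3514 = true := by decide +kernel
theorem c_rel_18 : allRange D.relOK 148013 3639 = true := by decide +kernel
theorem c_rel_19 : allRange D.relOK 151652 3662 = true := by decide +kernel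
theorem c_rel_20 : allRange D.relOK 155314 3580 = true := by decide +kernel
theorem c_rel_21 : allRange D.relOK 158894 3654 = true := by decide +kernel
theorem c_rel_22 : allRange D.relOK 162548 3755 = true := by decide +kernel
theorem c_rel_23 : allRange D.relOK 166303 3670 = true := by decide +kernel
theorem c_rel_24 : allRange D.relOK 169973 3554 = true := by decide +kernel
theorem c_rel_25 : allRange D.relOK 173527 3689 = true := by decide +kernel
theorem c_rel_26 : allRange D.relOK 177216 3703 = true := by decide +kernel
theorem c_rel_27 : allRange D.relOK 180919 3636 = true := by decide +kernel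
theorem c_rel_28 : allRange D.relOK 184555 3648 = true := by decide +kernel
theorem c_rel_29 : allRange D.relOK 188203 3566 = true := by decide +kernel
theorem c_rel_30 : allRange D.relOK 191769 3603 = true := by decide +kernel
theorem c_rel_31 : allRange D.relOK 195372 3571 = true := by decide +kernel
theorem c_rel_32 : allRange D.relOK 198943 3670 = true := by decide +kernel
theorem c_rel_33 : allRange D.relOK 202613 3680 = true := by decide +kernel
theorem c_rel_34 : allRange D.relOK 206293 3581 = true := by decide +kernel
theorem c_rel_35 : allRange D.relOK 209874 3651 = true := by decide +kernel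
theorem c_rel_36 : allRange D.relOK 213525 3475 = true := by decide +kernel
theorem c_rel_37 : allRange D.relOK 217000 3603 = true := by decide +kernel
theorem c_rel_38 : allRange D.relOK 220603 3415 = true := by decide +kernel
theorem c_rel_39 : allRange D.relOK 224018 3621 = true := by decide +kernel
theorem c_rel_40 : allRange D.relOK 227639 3714 = true := by decide +kernel
theorem c_rel_41 : allRange D.relOK 231353 3553 = true := by decide +kernel
theorem c_rel_42 : allRange D.relOK 234906 3590 = true := by decide +kernel
theorem c_rel_43 : allRange D.relOK 238496 3568 = true := by decide +kernel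
theorem c_rel_44 : allRange D.relOK 242064 3568 = true := by decide +kernel
theorem c_rel_45 : allRange D.relOK 245632 3485 = true := by decide +kernel
theorem c_rel_46 : allRange D.relOK 249117 3654 = true := by decide +kernel
theorem c_rel_47 : allRange D.relOK 252771 3605 = true := by decide +kernel
theorem c_rel_48 : allRange D.relOK 256376 3626 = true := by decide +kernel
theorem c_rel_49 : allRange D.relOK 260002 3546 = true := by decide +kernel
theorem c_rel_50 : allRange D.relOK 263548 3578 = true := by decide +kernel
theorem c_rel_51 : allRange D.relOK 267126 3611 = true := by decide +kernel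
theorem c_rel_52 : allRange D.relOK 270737 3514 = true := by decide +kernel
theorem c_rel_53 : allRange D.relOK 274251 3590 = true := by decide +kernel
theorem c_rel_54 : allRange D.relOK 277841 3580 = true := by decide +kernel
theorem c_rel_55 : allRange D.relOK 281421 3734 = true := by decide +kernel
theorem c_rel_56 : allRange D.relOK 285155 3623 = true := by decide +kernel
theorem c_rel_57 : allRange D.relOK 288778 3748 = true := by decide +kernel
theorem c_rel_58 : allRange D.relOK 292526 3570 = true := by decide +kernel
theorem c_rel_59 : allRange D.relOK 296096 3551 = true := by decide +kernel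
theorem c_rel_60 : allRange D.relOK 299647 3549 = true := by decide +kernel
theorem c_rel_61 : allRange D.relOK 303196 3651 = true := by decide +kernel
theorem c_rel_62 : allRange D.relOK 306847 3455 = true := by decide +kernel
theorem c_rel_63 : allRange D.relOK 310302 3597 = true := by decide +kernel
theorem c_rel_64 : allRange D.relOK 313899 3545 = true := by decide +kernel
theorem c_rel_65 : allRange D.relOK 317444 3431 = true := by decide +kernel
theorem c_rel_66 : allRange D.relOK 320875 3486 = true := by decide +kernel
theorem c_rel_67 : allRange D.relOK 324361 3370 = true := by decide +kernel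
theorem c_rel_68 : allRange D.relOK 327731 3470 = true := by decide +kernel
theorem c_rel_69 : allRange D.relOK 331201 3532 = true := by decide +kernel
theorem c_rel_70 : allRange D.relOK 334733 3413 = true := by decide +kernel
theorem c_rel_71 : allRange D.relOK 338146 3516 = true := by decide +kernel
theorem c_rel_72 : allRange D.relOK 341662 3534 = true := by decide +kernel
theorem c_rel_73 : allRange D.relOK 345196 3488 = true := by decide +kernel
theorem c_rel_74 : allRange D.relOK 348684 3418 = true := by decide +kernel
theorem c_rel_75 : allRange D.relOK 352102 3436 = true := by decide +kernel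
theorem c_rel_76 : allRange D.relOK 355538 3444 = true := by decide +kernel
theorem c_rel_77 : allRange D.relOK 358982 3377 = true := by decide +kernel
theorem c_rel_78 : allRange D.relOK 362359 3549 = true := by decide +kernel
theorem c_rel_79 : allRange D.relOK 365908 3424 = true := by decide +kernel
theorem c_rel_80 : allRange D.relOK 369332 3370 = true := by decide +kernel
theorem c_rel_81 : allRange D.relOK 372702 3390 = true := by decide +kernel
theorem c_rel_82 : allRange D.relOK 376092 3259 = true := by decide +kernel
theorem c_rel_83 : allRange D.relOK 379351 3294 = true := by decide +kernel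
theorem c_rel_84 : allRange D.relOK 382645 3243 = true := by decide +kernel

end Cfsg.Agent.Lib.Helper4.TCD.SC4Sz8p2A
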