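import Cfsg.Agent.Lib.Helper4.TC7
import Cfsg.Agent.Lib.Helper4.TCP_SC4U43p2
import Cfsg.Agent.Lib.Helper4.TCD_SC4U43p2A_D0
import Cfsg.Agent.Lib.Helper4.TCD_SC4U43p2A_D1

namespace Cfsg.Agent.Lib.Helper4.TCD.SC4U43p2A

open Cfsg.Agent.Lib.Helper4.TC

set_option maxRecDepth 100000

noncomputable def Atab_s_1_3 (c : Nat) : Nat := @Bool.rec (fun _ => Nat) (Atab_1) (Atab_2) (Nat.ble 2 c)
noncomputable def Atab_s_0_3 (c : Nat) : Nat := @Bool.rec (fun _ => Nat) (Atab_0) (Atab_s_1_3 c) (Nat.ble 1 c)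
noncomputable def Atab_s_3_5 (c : Nat) : Nat := @Bool.rec (fun _ => Nat) (Atab_3) (Atab_4) (Nat.ble 4 c)
noncomputable def Atab_s_5_7 (c : Nat) : Nat := @Bool.rec (fun _ => Nat) (Atab_5) (Atab_6) (Nat.ble 6 c)
noncomputable def Atab_s_3_7 (c : Nat) : Nat := @Bool.rec (fun _ => Nat) (Atab_s_3_5 c) (Atab_s_5_7 c) (Nat.ble 5 c)
noncomputable def Atab_s_0_7 (c : Nat) : Nat := @Bool.rec (fun _ => Nat) (Atab_s_0_3 c) (Atab_s_3_7 c) (Nat.ble 3 c)
noncomputable def Atab_s_8_10 (c : Nat) : Nat := @Bool.rec (fun _ => Nat) (Atab_8) (Atab_9) (Nat.ble 9 c)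
noncomputable def Atab_s_7_10 (c : Nat) : Nat := @Bool.rec (fun _ => Nat) (Atab_7) (Atab_s_8_10 c) (Nat.ble 8 c)
noncomputable def Atab_s_10_12 (c : Nat) : Nat := @Bool.rec (fun _ => Nat) (Atab_10) (Atab_11) (Nat.ble 11 c)
noncomputable def Atab_s_12_14 (c : Nat) : Nat := @Bool.rec (fun _ => Nat) (Atab_12) (Atab_13) (Nat.ble 13 c)
noncomputable def Atab_s_10_14 (c : Nat) : Nat := @Bool.rec (fun _ => Nat) (Atab_s_10_12 c) (Atab_s_12_14 c) (Nat.ble 12 c)
noncomputable def Atab_s_7_14 (c : Nat) : Nat := @Bool.rec (fun _ => Nat) (Atab_s_7_10 c) (Atab_s_10_14 c) (Nat.ble 10 c)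
noncomputable def Atab_s_0_14 (c : Nat) : Nat := @Bool.rec (fun _ => Nat) (Atab_s_0_7 c) (Atab_s_7_14 c) (Nat.ble 7 c)
noncomputable def Atab_s_15_17 (c : Nat) : Nat := @Bool.rec (fun _ => Nat) (Atab_15) (Atab_16) (Nat.ble 16 c)
noncomputable def Atab_s_14_17 (c : Nat) : Nat := @Bool.rec (fun _ => Nat) (Atab_14) (Atab_s_15_17 c) (Nat.ble 15 c)
noncomputable def Atab_s_17_19 (c : Nat) : Nat := @Bool.rec (fun _ => Nat) (Atab_17) (Atab_18) (Nat.ble 18 c)
noncomputable def Atab_s_19_21 (c : Nat) : Nat := @Bool.rec (fun _ => Nat) (Atab_19) (Atab_20) (Nat.ble 20 c)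
noncomputable def Atab_s_17_21 (c : Nat) : Nat := @Bool.rec (fun _ => Nat) (Atab_s_17_19 c) (Atab_s_19_21 c) (Nat.ble 19 c)
noncomputable def Atab_s_14_21 (c : Nat) : Nat := @Bool.rec (fun _ => Nat) (Atab_s_14_17 c) (Atab_s_17_21 c) (Nat.ble 17 c)
noncomputable def Atab_s_21_23 (c : Nat) : Nat := @Bool.rec (fun _ => Nat) (Atab_21) (Atab_22) (Nat.ble 22 c)
noncomputable def Atab_s_23_25 (c : Nat) : Nat := @Bool.rec (fun _ => Nat) (Atab_23) (Atab_24) (Nat.ble 24 c)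
noncomputable def Atab_s_21_25 (c : Nat) : Nat := @Bool.rec (fun _ => Nat) (Atab_s_21_23 c) (Atab_s_23_25 c) (Nat.ble 23 c)
noncomputable def Atab_s_25_27 (c : Nat) : Nat := @Bool.rec (fun _ => Nat) (Atab_25) (Atab_26) (Nat.ble 26 c)
noncomputable def Atab_s_27_29 (c : Nat) : Nat := @Bool.rec (fun _ => Nat) (Atab_27) (Atab_28) (Nat.ble 28 c)
noncomputable def Atab_s_25_29 (c : Nat) : Nat := @Bool.rec (fun _ => Nat) (Atab_s_25_27 c) (Atab_s_27_29 c) (Nat.ble 27 c)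
noncomputable def Atab_s_21_29 (c : Nat) : Nat := @Bool.rec (fun _ => Nat) (Atab_s_21_25 c) (Atab_s_25_29 c) (Nat.ble 25 c)
noncomputable def Atab_s_14_29 (c : Nat) : Nat := @Bool.rec (fun _ => Nat) (Atab_s_14_21 c) (Atab_s_21_29 c) (Nat.ble 21 c)
noncomputable def Atab_s_0_29 (c : Nat) : Nat := @Bool.rec (fun _ => Nat) (Atab_s_0_14 c) (Atab_s_14_29 c) (Nat.ble 14 c)
noncomputable def Atab (i : Nat) : Nat := rdw 32 4294967295 (Atab_s_0_29 (Nat.shiftRight i 11)) (Nat.land i 2047)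
noncomputable def Btab_s_1_3 (c : Nat) : Nat := @Bool.rec (fun _ => Nat) (Btab_1) (Btab_2) (Nat.ble 2 c)
noncomputable def Btab_s_0_3 (c : Nat) : Nat := @Bool.rec (fun _ => Nat) (Btab_0) (Btab_s_1_3 c) (Nat.ble 1 c)
noncomputable def Btab_s_4_6 (c : Nat) : Nat := @Bool.rec (fun _ => Nat) (Btab_4) (Btab_5) (Nat.ble 5 c)
noncomputable def Btab_s_3_6 (c : Nat) : Nat := @Bool.rec (fun _ => Nat) (Btab_3) (Btab_s_4_6 c) (Nat.ble 4 c)
noncomputable def Btab_s_0_6 (c : Nat) : Nat := @Bool.rec (fun _ => Nat) (Btab_s_0_3 c) (Btab_s_3_6 c) (Nat.ble 3 c)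
noncomputable def Btab_s_7_9 (c : Nat) : Nat := @Bool.rec (fun _ => Nat) (Btab_7) (Btab_8) (Nat.ble 8 c)
noncomputable def Btab_s_6_9 (c : Nat) : Nat := @Bool.rec (fun _ => Nat) (Btab_6) (Btab_s_7_9 c) (Nat.ble 7 c)
noncomputable def Btab_s_9_11 (c : Nat) : Nat := @Bool.rec (fun _ => Nat) (Btab_9) (Btab_10) (Nat.ble 10 c)
noncomputable def Btab_s_11_13 (c : Nat) : Nat := @Bool.rec (fun _ => Nat) (Btab_11) (Btab_12) (Nat.ble 12 c)
noncomputable def Btab_s_9_13 (c : Nat) : Nat := @Bool.rec (fun _ => Nat) (Btab_s_9_11 c) (Btab_s_11_13 c) (Nat.ble 11 c)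
noncomputable def Btab_s_6_13 (c : Nat) : Nat := @Bool.rec (fun _ => Nat) (Btab_s_6_9 c) (Btab_s_9_13 c) (Nat.ble 9 c)
noncomputable def Btab_s_0_13 (c : Nat) : Nat := @Bool.rec (fun _ => Nat) (Btab_s_0_6 c) (Btab_s_6_13 c) (Nat.ble 6 c)
noncomputable def Btab_s_14_16 (c : Nat) : Nat := @Bool.rec (fun _ => Nat) (Btab_14) (Btab_15) (Nat.ble 15 c)
noncomputable def Btab_s_13_16 (c : Nat) : Nat := @Bool.rec (fun _ => Nat) (Btab_13) (Btab_s_14_16 c) (Nat.ble 14 c)
noncomputable def Btab_s_16_18 (c : Nat) : Nat := @Bool.rec (fun _ => Nat) (Btab_16) (Btab_17) (Nat.ble 17 c)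
noncomputable def Btab_s_18_20 (c : Nat) : Nat := @Bool.rec (fun _ => Nat) (Btab_18) (Btab_19) (Nat.ble 19 c)
noncomputable def Btab_s_16_20 (c : Nat) : Nat := @Bool.rec (fun _ => Nat) (Btab_s_16_18 c) (Btab_s_18_20 c) (Nat.ble 18 c)
noncomputable def Btab_s_13_20 (c : Nat) : Nat := @Bool.rec (fun _ => Nat) (Btab_s_13_16 c) (Btab_s_16_20 c) (Nat.ble 16 c)
noncomputable def Btab_s_21_23 (c : Nat) : Nat := @Bool.rec (fun _ => Nat) (Btab_21) (Btab_22) (Nat.ble 22 c)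
noncomputable def Btab_s_20_23 (c : Nat) : Nat := @Bool.rec (fun _ => Nat) (Btab_20) (Btab_s_21_23 c) (Nat.ble 21 c)
noncomputable def Btab_s_23_25 (c : Nat) : Nat := @Bool.rec (fun _ => Nat) (Btab_23) (Btab_24) (Nat.ble 24 c)
noncomputable def Btab_s_25_27 (c : Nat) : Nat := @Bool.rec (fun _ => Nat) (Btab_25) (Btab_26) (Nat.ble 26 c)
noncomputable def Btab_s_23_27 (c : Nat) : Nat := @Bool.rec (fun _ => Nat) (Btab_s_23_25 c) (Btab_s_25_27 c) (Nat.ble 25 c)
noncomputable def Btab_s_20_27 (c : Nat) : Nat := @Bool.rec (fun _ => Nat) (Btab_s_20_23 c) (Btab_s_23_27 c) (Nat.ble 23 c)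
noncomputable def Btab_s_13_27 (c : Nat) : Nat := @Bool.rec (fun _ => Nat) (Btab_s_13_20 c) (Btab_s_20_27 c) (Nat.ble 20 c)
noncomputable def Btab_s_0_27 (c : Nat) : Nat := @Bool.rec (fun _ => Nat) (Btab_s_0_13 c) (Btab_s_13_27 c) (Nat.ble 13 c)
noncomputable def Btab (i : Nat) : Nat := rdw 38 274877906943 (Btab_s_0_27 (Nat.shiftRight i 11)) (Nat.land i 2047)
noncomputable def Ptab_s_1_3 (c : Nat) : Nat := @Bool.rec (fun _ => Nat) (Ptab_1) (Ptab_2) (Nat.ble 2 c)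
noncomputable def Ptab_s_0_3 (c : Nat) : Nat := @Bool.rec (fun _ => Nat) (Ptab_0) (Ptab_s_1_3 c) (Nat.ble 1 c)
noncomputable def Ptab_s_4_6 (c : Nat) : Nat := @Bool.rec (fun _ => Nat) (Ptab_4) (Ptab_5) (Nat.ble 5 c)
noncomputable def Ptab_s_3_6 (c : Nat) : Nat := @Bool.rec (fun _ => Nat) (Ptab_3) (Ptab_s_4_6 c) (Nat.ble 4 c)
noncomputable def Ptab_s_0_6 (c : Nat) : Nat := @Bool.rec (fun _ => Nat) (Ptab_s_0_3 c) (Ptab_s_3_6 c) (Nat.ble 3 c)
noncomputable def Ptab_s_7_9 (c : Nat) : Nat := @Bool.rec (fun _ => Nat) (Ptab_7) (Ptab_8) (Nat.ble 8 c)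
noncomputable def Ptab_s_6_9 (c : Nat) : Nat := @Bool.rec (fun _ => Nat) (Ptab_6) (Ptab_s_7_9 c) (Nat.ble 7 c)
noncomputable def Ptab_s_9_11 (c : Nat) : Nat := @Bool.rec (fun _ => Nat) (Ptab_9) (Ptab_10) (Nat.ble 10 c)
noncomputable def Ptab_s_11_13 (c : Nat) : Nat := @Bool.rec (fun _ => Nat) (Ptab_11) (Ptab_12) (Nat.ble 12 c)
noncomputable def Ptab_s_9_13 (c : Nat) : Nat := @Bool.rec (fun _ => Nat) (Ptab_s_9_11 c) (Ptab_s_11_13 c) (Nat.ble 11 c)
noncomputable def Ptab_s_6_13 (c : Nat) : Nat := @Bool.rec (fun _ => Nat) (Ptab_s_6_9 c) (Ptab_s_9_13 c) (Nat.ble 9 c)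
noncomputable def Ptab_s_0_13 (c : Nat) : Nat := @Bool.rec (fun _ => Nat) (Ptab_s_0_6 c) (Ptab_s_6_13 c) (Nat.ble 6 c)
noncomputable def Ptab_s_14_16 (c : Nat) : Nat := @Bool.rec (fun _ => Nat) (Ptab_14) (Ptab_15) (Nat.ble 15 c)
noncomputable def Ptab_s_13_16 (c : Nat) : Nat := @Bool.rec (fun _ => Nat) (Ptab_13) (Ptab_s_14_16 c) (Nat.ble 14 c)
noncomputable def Ptab_s_16_18 (c : Nat) : Nat := @Bool.rec (fun _ => Nat) (Ptab_16) (Ptab_17) (Nat.ble 17 c)
noncomputable def Ptab_s_18_20 (c : Nat) : Nat := @Bool.rec (fun _ => Nat) (Ptab_18) (Ptab_19) (Nat.ble 19 c)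
noncomputable def Ptab_s_16_20 (c : Nat) : Nat := @Bool.rec (fun _ => Nat) (Ptab_s_16_18 c) (Ptab_s_18_20 c) (Nat.ble 18 c)
noncomputable def Ptab_s_13_20 (c : Nat) : Nat := @Bool.rec (fun _ => Nat) (Ptab_s_13_16 c) (Ptab_s_16_20 c) (Nat.ble 16 c)
noncomputable def Ptab_s_21_23 (c : Nat) : Nat := @Bool.rec (fun _ => Nat) (Ptab_21) (Ptab_22) (Nat.ble 22 c)
noncomputable def Ptab_s_20_23 (c : Nat) : Nat := @Bool.rec (fun _ => Nat) (Ptab_20) (Ptab_s_21_23 c) (Nat.ble 21 c)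
noncomputable def Ptab_s_23_25 (c : Nat) : Nat := @Bool.rec (fun _ => Nat) (Ptab_23) (Ptab_24) (Nat.ble 24 c)
noncomputable def Ptab_s_25_27 (c : Nat) : Nat := @Bool.rec (fun _ => Nat) (Ptab_25) (Ptab_26) (Nat.ble 26 c)
noncomputable def Ptab_s_23_27 (c : Nat) : Nat := @Bool.rec (fun _ => Nat) (Ptab_s_23_25 c) (Ptab_s_25_27 c) (Nat.ble 25 c)
noncomputable def Ptab_s_20_27 (c : Nat) : Nat := @Bool.rec (fun _ => Nat) (Ptab_s_20_23 c) (Ptab_s_23_27 c) (Nat.ble 23 c)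
noncomputable def Ptab_s_13_27 (c : Nat) : Nat := @Bool.rec (fun _ => Nat) (Ptab_s_13_20 c) (Ptab_s_20_27 c) (Nat.ble 20 c)
noncomputable def Ptab_s_0_27 (c : Nat) : Nat := @Bool.rec (fun _ => Nat) (Ptab_s_0_13 c) (Ptab_s_13_27 c) (Nat.ble 13 c)
noncomputable def Ptab_s_28_30 (c : Nat) : Nat := @Bool.rec (fun _ => Nat) (Ptab_28) (Ptab_29) (Nat.ble 29 c)
noncomputable def Ptab_s_27_30 (c : Nat) : Nat := @Bool.rec (fun _ => Nat) (Ptab_27) (Ptab_s_28_30 c) (Nat.ble 28 c)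
noncomputable def Ptab_s_30_32 (c : Nat) : Nat := @Bool.rec (fun _ => Nat) (Ptab_30) (Ptab_31) (Nat.ble 31 c)
noncomputable def Ptab_s_32_34 (c : Nat) : Nat := @Bool.rec (fun _ => Nat) (Ptab_32) (Ptab_33) (Nat.ble 33 c)
noncomputable def Ptab_s_30_34 (c : Nat) : Nat := @Bool.rec (fun _ => Nat) (Ptab_s_30_32 c) (Ptab_s_32_34 c) (Nat.ble 32 c)
noncomputable def Ptab_s_27_34 (c : Nat) : Nat := @Bool.rec (fun _ => Nat) (Ptab_s_27_30 c) (Ptab_s_30_34 c) (Nat.ble 30 c)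
noncomputable def Ptab_s_35_37 (c : Nat) : Nat := @Bool.rec (fun _ => Nat) (Ptab_35) (Ptab_36) (Nat.ble 36 c)
noncomputable def Ptab_s_34_37 (c : Nat) : Nat := @Bool.rec (fun _ => Nat) (Ptab_34) (Ptab_s_35_37 c) (Nat.ble 35 c)
noncomputable def Ptab_s_37_39 (c : Nat) : Nat := @Bool.rec (fun _ => Nat) (Ptab_37) (Ptab_38) (Nat.ble 38 c)
noncomputable def Ptab_s_39_41 (c : Nat) : Nat := @Bool.rec (fun _ => Nat) (Ptab_39) (Ptab_40) (Nat.ble 40 c)
noncomputable def Ptab_s_37_41 (c : Nat) : Nat := @Bool.rec (fun _ => Nat) (Ptab_s_37_39 c) (Ptab_s_39_41 c) (Nat.ble 39 c)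
noncomputable def Ptab_s_34_41 (c : Nat) : Nat := @Bool.rec (fun _ => Nat) (Ptab_s_34_37 c) (Ptab_s_37_41 c) (Nat.ble 37 c)
noncomputable def Ptab_s_27_41 (c : Nat) : Nat := @Bool.rec (fun _ => Nat) (Ptab_s_27_34 c) (Ptab_s_34_41 c) (Nat.ble 34 c)
noncomputable def Ptab_s_42_44 (c : Nat) : Nat := @Bool.rec (fun _ => Nat) (Ptab_42) (Ptab_43) (Nat.ble 43 c)
noncomputable def Ptab_s_41_44 (c : Nat) : Nat := @Bool.rec (fun _ => Nat) (Ptab_41) (Ptab_s_42_44 c) (Nat.ble 42 c)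
noncomputable def Ptab_s_44_46 (c : Nat) : Nat := @Bool.rec (fun _ => Nat) (Ptab_44) (Ptab_45) (Nat.ble 45 c)
noncomputable def Ptab_s_46_48 (c : Nat) : Nat := @Bool.rec (fun _ => Nat) (Ptab_46) (Ptab_47) (Nat.ble 47 c)
noncomputable def Ptab_s_44_48 (c : Nat) : Nat := @Bool.rec (fun _ => Nat) (Ptab_s_44_46 c) (Ptab_s_46_48 c) (Nat.ble 46 c)
noncomputable def Ptab_s_41_48 (c : Nat) : Nat := @Bool.rec (fun _ => Nat) (Ptab_s_41_44 c) (Ptab_s_44_48 c) (Nat.ble 44 c)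
noncomputable def Ptab_s_49_51 (c : Nat) : Nat := @Bool.rec (fun _ => Nat) (Ptab_49) (Ptab_50) (Nat.ble 50 c)
noncomputable def Ptab_s_48_51 (c : Nat) : Nat := @Bool.rec (fun _ => Nat) (Ptab_48) (Ptab_s_49_51 c) (Nat.ble 49 c)
noncomputable def Ptab_s_51_53 (c : Nat) : Nat := @Bool.rec (fun _ => Nat) (Ptab_51) (Ptab_52) (Nat.ble 52 c)
noncomputable def Ptab_s_53_55 (c : Nat) : Nat := @Bool.rec (fun _ => Nat) (Ptab_53) (Ptab_54) (Nat.ble 54 c)
noncomputable def Ptab_s_51_55 (c : Nat) : Nat := @Bool.rec (fun _ => Nat) (Ptab_s_51_53 c) (Ptab_s_53_55 c) (Nat.ble 53 c)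
noncomputable def Ptab_s_48_55 (c : Nat) : Nat := @Bool.rec (fun _ => Nat) (Ptab_s_48_51 c) (Ptab_s_51_55 c) (Nat.ble 51 c)
noncomputable def Ptab_s_41_55 (c : Nat) : Nat := @Bool.rec (fun _ => Nat) (Ptab_s_41_48 c) (Ptab_s_48_55 c) (Nat.ble 48 c)
noncomputable def Ptab_s_27_55 (c : Nat) : Nat := @Bool.rec (fun _ => Nat) (Ptab_s_27_41 c) (Ptab_s_41_55 c) (Nat.ble 41 c)
noncomputable def Ptab_s_0_55 (c : Nat) : Nat := @Bool.rec (fun _ => Nat) (Ptab_s_0_27 c) (Ptab_s_27_55 c) (Nat.ble 27 c)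
noncomputable def Ptab (i : Nat) : Nat := rdw 17 131071 (Ptab_s_0_55 (Nat.shiftRight i 12)) (Nat.land i 4095)
noncomputable def RRtab (i : Nat) : Nat := rdw 6 63 RRtab_0 i
noncomputable def rBtab (i : Nat) : Nat := rdw 13 8191 rBtab_0 i
noncomputable def rLtab (i : Nat) : Nat := rdw 5 31 rLtab_0 i
noncomputable def nameTab (i : Nat) : Nat := rdw 13 8191 nameTab_0 i
noncomputable def col0 (i : Nat) : Nat := rdw 12 4095 col0_0 i
noncomputable def col1 (i : Nat) : Nat := rdw 12 4095 col1_0 i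
noncomputable def col2 (i : Nat) : Nat := rdw 12 4095 col2_0 i
noncomputable def col3 (i : Nat) : Nat := rdw 12 4095 col3_0 i
noncomputable def col4 (i : Nat) : Nat := rdw 12 4095 col4_0 i
noncomputable def col5 (i : Nat) : Nat := rdw 12 4095 col5_0 i
noncomputable def col6 (i : Nat) : Nat := rdw 12 4095 col6_0 i
noncomputable def col7 (i : Nat) : Nat := rdw 12 4095 col7_0 i
noncomputable def col8 (i : Nat) : Nat := rdw 12 4095 col8_0 i
noncomputable def col9 (i : Nat) : Nat := rdw 12 4095 col9_0 i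
noncomputable def col10 (i : Nat) : Nat := rdw 12 4095 col10_0 i
noncomputable def col11 (i : Nat) : Nat := rdw 12 4095 col11_0 i
noncomputable def col12 (i : Nat) : Nat := rdw 12 4095 col12_0 i
noncomputable def col13 (i : Nat) : Nat := rdw 12 4095 col13_0 i
noncomputable def col14 (i : Nat) : Nat := rdw 12 4095 col14_0 i
noncomputable def col15 (i : Nat) : Nat := rdw 12 4095 col15_0 i
noncomputable def col16 (i : Nat) : Nat := rdw 12 4095 col16_0 i
noncomputable def col17 (i : Nat) : Nat := rdw 12 4095 col17_0 i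
noncomputable def col18 (i : Nat) : Nat := rdw 12 4095 col18_0 i
noncomputable def col19 (i : Nat) : Nat := rdw 12 4095 col19_0 i
noncomputable def col20 (i : Nat) : Nat := rdw 12 4095 col20_0 i
noncomputable def col21 (i : Nat) : Nat := rdw 12 4095 col21_0 i
noncomputable def col22 (i : Nat) : Nat := rdw 12 4095 col22_0 i
noncomputable def col23 (i : Nat) : Nat := rdw 12 4095 col23_0 i
noncomputable def col24 (i : Nat) : Nat := rdw 12 4095 col24_0 i
noncomputable def col25 (i : Nat) : Nat := rdw 12 4095 col25_0 i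
noncomputable def col26 (i : Nat) : Nat := rdw 12 4095 col26_0 i
noncomputable def col27 (i : Nat) : Nat := rdw 12 4095 col27_0 i
noncomputable def col28 (i : Nat) : Nat := rdw 12 4095 col28_0 i
noncomputable def col29 (i : Nat) : Nat := rdw 12 4095 col29_0 i
noncomputable def finTab_s_0_2 (c : Nat) : Nat := @Bool.rec (fun _ => Nat) (finTab_0) (finTab_1) (Nat.ble 1 c)
noncomputable def finTab_s_2_4 (c : Nat) : Nat := @Bool.rec (fun _ => Nat) (finTab_2) (finTab_3) (Nat.ble 3 c)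
noncomputable def finTab_s_0_4 (c : Nat) : Nat := @Bool.rec (fun _ => Nat) (finTab_s_0_2 c) (finTab_s_2_4 c) (Nat.ble 2 c)
noncomputable def finTab_s_4_6 (c : Nat) : Nat := @Bool.rec (fun _ => Nat) (finTab_4) (finTab_5) (Nat.ble 5 c)
noncomputable def finTab_s_6_8 (c : Nat) : Nat := @Bool.rec (fun _ => Nat) (finTab_6) (finTab_7) (Nat.ble 7 c)
noncomputable def finTab_s_4_8 (c : Nat) : Nat := @Bool.rec (fun _ => Nat) (finTab_s_4_6 c) (finTab_s_6_8 c) (Nat.ble 6 c)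
noncomputable def finTab_s_0_8 (c : Nat) : Nat := @Bool.rec (fun _ => Nat) (finTab_s_0_4 c) (finTab_s_4_8 c) (Nat.ble 4 c)
noncomputable def finTab_s_8_10 (c : Nat) : Nat := @Bool.rec (fun _ => Nat) (finTab_8) (finTab_9) (Nat.ble 9 c)
noncomputable def finTab_s_10_12 (c : Nat) : Nat := @Bool.rec (fun _ => Nat) (finTab_10) (finTab_11) (Nat.ble 11 c)
noncomputable def finTab_s_8_12 (c : Nat) : Nat := @Bool.rec (fun _ => Nat) (finTab_s_8_10 c) (finTab_s_10_12 c) (Nat.ble 10 c)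
noncomputable def finTab_s_12_14 (c : Nat) : Nat := @Bool.rec (fun _ => Nat) (finTab_12) (finTab_13) (Nat.ble 13 c)
noncomputable def finTab_s_14_16 (c : Nat) : Nat := @Bool.rec (fun _ => Nat) (finTab_14) (finTab_15) (Nat.ble 15 c)
noncomputable def finTab_s_12_16 (c : Nat) : Nat := @Bool.rec (fun _ => Nat) (finTab_s_12_14 c) (finTab_s_14_16 c) (Nat.ble 14 c)
noncomputable def finTab_s_8_16 (c : Nat) : Nat := @Bool.rec (fun _ => Nat) (finTab_s_8_12 c) (finTab_s_12_16 c) (Nat.ble 12 c)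
noncomputable def finTab_s_0_16 (c : Nat) : Nat := @Bool.rec (fun _ => Nat) (finTab_s_0_8 c) (finTab_s_8_16 c) (Nat.ble 8 c)
noncomputable def finTab (i : Nat) : Nat := rdw 17 131071 (finTab_s_0_16 (Nat.shiftRight i 12)) (Nat.land i 4095)
noncomputable def clsTab (i : Nat) : Nat := rdw 12 4095 clsTab_0 i
noncomputable def oparTab (i : Nat) : Nat := rdw 12 4095 oparTab_0 i
noncomputable def olabTab (i : Nat) : Nat := rdw 2 3 olabTab_0 i
noncomputable def srcF (t : Nat) : Nat := Nat.land (Atab t) 8191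
noncomputable def tgtF (t : Nat) : Nat := Nat.land (Nat.shiftRight (Atab t) 13) 8191
noncomputable def ltF (t : Nat) : Nat := Nat.shiftRight (Atab t) 26
noncomputable def rhoF (t : Nat) : Nat := Nat.land (Btab (Nat.sub t 4665)) 511
noncomputable def rotF (t : Nat) : Nat := Nat.land (Nat.shiftRight (Btab (Nat.sub t 4665)) 9) 31
noncomputable def lenF (t : Nat) : Nat := Nat.land (Nat.shiftRight (Btab (Nat.sub t 4665)) 14) 63
noncomputable def offF (t : Nat) : Nat := Nat.shiftRight (Btab (Nat.sub t 4665)) 20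
noncomputable def pfF (j : Nat) : Nat := Nat.shiftRight (Ptab j) 1
noncomputable def pdF (j : Nat) : Nat := Nat.land (Ptab j) 1
noncomputable def tblF (i x : Nat) : Nat := @Bool.rec (fun _ => Nat) (@Bool.rec (fun _ => Nat) (@Bool.rec (fun _ => Nat) (@Bool.rec (fun _ => Nat) (col0 i) (@Bool.rec (fun _ => Nat) (col1 i) (col2 i) (Nat.ble 2 x)) (Nat.ble 1 x)) (@Bool.rec (fun _ => Nat) (@Bool.rec (fun _ => Nat) (col3 i) (col4 i) (Nat.ble 4 x)) (@Bool.rec (fun _ => Nat) (col5 i) (col6 i) (Nat.ble 6 x)) (Nat.ble 5 x)) (Nat.ble 3 x)) (@Bool.rec (fun _ => Nat) (@Bool.rec (fun _ => Nat) (@Bool.rec (fun _ => Nat) (col7 i) (col8 i) (Nat.ble 8 x)) (@Bool.rec (fun _ => Nat) (col9 i) (col10 i) (Nat.ble 10 x)) (Nat.ble 9 x)) (@Bool.rec (fun _ => Nat) (@Bool.rec (fun _ => Nat) (col11 i) (col12 i) (Nat.ble 12 x)) (@Bool.rec (fun _ => Nat) (col13 i) (col14 i) (Nat.ble 14 x)) (Nat.ble 13 x)) (Nat.ble 11 x)) (Nat.ble 7 x)) (@Bool.rec (fun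 _ => Nat) (@Bool.rec (fun _ => Nat) (@Bool.rec (fun _ => Nat) (col15 i) (@Bool.rec (fun _ => Nat) (col16 i) (col17 i) (Nat.ble 17 x)) (Nat.ble 16 x)) (@Bool.rec (fun _ => Nat) (@Bool.rec (fun _ => Nat) (col18 i) (col19 i) (Nat.ble 19 x)) (@Bool.rec (fun _ => Nat) (col20 i) (col21 i) (Nat.ble 21 x)) (Nat.ble 20 x)) (Nat.ble 18 x)) (@Bool.rec (fun _ => Nat) (@Bool.rec (fun _ => Nat) (@Bool.rec (fun _ => Nat) (col22 i) (col23 i) (Nat.ble 23 x)) (@Bool.rec (fun _ => Nat) (col24 i) (col25 i) (Nat.ble 25 x)) (Nat.ble 24 x)) (@Bool.rec (fun _ => Nat) (@Bool.rec (fun _ => Nat) (col26 i) (col27 i) (Nat.ble 27 x)) (@Bool.rec (fun _ => Nat) (col28 i) (col29 i) (Nat.ble 29 x)) (Nat.ble 28 x)) (Nat.ble 26 x)) (Nat.ble 22 x)) (Nat.ble 15 x)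
noncomputable def finE (i x : Nat) : Nat := finTab (Nat.add (Nat.mul i 30) x)
noncomputable def finFF (i x : Nat) : Nat := Nat.shiftRight (finE i x) 1
noncomputable def finDF (i x : Nat) : Nat := Nat.land (finE i x) 1

noncomputable def D : Log :=
  { k := 30, inv := invE 30 PSC4U43p2.invR, nR := 292, rBase := rBtab, rLen := rLtab, RR := RRtab,
    M := 4661, nB := 4, F := 58649, src := srcF, lt := ltF, tgt := tgtF, rho := rhoF, rot := rotF,
    off := offF, len := lenF, pf := pfF, pd := pdF }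

noncomputable def T : Tab :=
  { N := 2160, nameOf := nameTab, tbl := tblF, finF := finFF, finD := finDF, cls := clsTab }

def subs : List (List Nat) := [
  [0],
  [2] ]

def rw0 : List Nat := [0, 0, 0, 0, 0, 0, 0]
def rw1 : List Nat := [2, 2, 2, 2]
def rw2 : List Nat := [4, 4, 4, 4, 4, 4, 4]
def rw3 : List Nat := [7, 0, 0, 0, 3, 4, 1, 3, 4, 1, 3]
def rw4 : List Nat := [9, 2, 4, 2, 4, 2, 4, 2, 4, 7, 7]
def rw5 : List Nat := [11, 0, 2, 0, 2, 1, 5, 1, 3, 1, 3, 4, 7, 7, 7]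
def rw6 : List Nat := [13, 0, 0, 0, 0, 5, 1, 2, 0, 0, 0, 2, 5, 7, 7, 7]
def rw7 : List Nat := [15, 0, 0, 0, 2, 1, 2, 1, 1, 1, 5, 1, 3, 5, 7, 7]
def rw8 : List Nat := [17, 0, 0, 3, 1, 3, 0, 0, 4, 2, 1, 1, 5, 2, 7]
def rw9 : List Nat := [19, 0, 0, 2, 0, 0, 3, 0, 5, 0, 5, 5, 5, 0, 5, 3, 7, 7]
def rw10 : List Nat := [21, 0, 0, 2, 4, 0, 5, 1, 1, 5, 3, 5, 2, 0, 2, 2]
def rw11 : List Nat := [23, 6, 6, 6, 6]
def rw12 : List Nat := [25, 7, 1, 6, 0]
def rw13 : List Nat := [27, 7, 3, 6, 2]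
def rw14 : List Nat := [29, 7, 5, 6, 4]
def rw15 : List Nat := [8, 8]
def rw16 : List Nat := [10, 10]
def rw17 : List Nat := [12, 12]
def rw18 : List Nat := [14, 14]
def rw19 : List Nat := [16, 16]
def rw20 : List Nat := [18, 18]
def rw21 : List Nat := [20, 20]
def rw22 : List Nat := [22, 22]
def rw23 : List Nat := [24, 24]
def rw24 : List Nat := [26, 26]
def rw25 : List Nat := [28, 28]
def rw26 : List Nat := [8, 0, 9, 1]
def rw27 : List Nat := [8, 2, 9, 3]
def rw28 : List Nat := [8, 4, 9, 5]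
def rw29 : List Nat := [8, 6, 9, 7]
def rw30 : List Nat := [10, 0, 11, 1]
def rw31 : List Nat := [10, 2, 11, 3]
def rw32 : List Nat := [10, 4, 11, 5]
def rw33 : List Nat := [10, 6, 11, 7]
def rw34 : List Nat := [12, 0, 13, 1]
def rw35 : List Nat := [12, 2, 13, 3]
def rw36 : List Nat := [12, 4, 13, 5]
def rw37 : List Nat := [12, 6, 13, 7]
def rw38 : List Nat := [14, 0, 15, 1]
def rw39 : List Nat := [14, 2, 15, 3]
def rw40 : List Nat := [14, 4, 15, 5]
def rw41 : List Nat := [14, 6, 15, 7]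
def rw42 : List Nat := [16, 0, 17, 1]
def rw43 : List Nat := [16, 2, 17, 3]
def rw44 : List Nat := [16, 4, 17, 5]
def rw45 : List Nat := [16, 6, 17, 7]
def rw46 : List Nat := [18, 0, 19, 1]
def rw47 : List Nat := [18, 2, 19, 3]
def rw48 : List Nat := [18, 4, 19, 5]
def rw49 : List Nat := [18, 6, 19, 7]
def rw50 : List Nat := [20, 0, 21, 1]
def rw51 : List Nat := [20, 2, 21, 3]
def rw52 : List Nat := [20, 4, 21, 5]
def rw53 : List Nat := [20, 6, 21, 7]
def rw54 : List Nat := [22, 0, 23, 1]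
def rw55 : List Nat := [22, 2, 23, 3]
def rw56 : List Nat := [22, 4, 23, 5]
def rw57 : List Nat := [22, 6, 23, 7]
def rw58 : List Nat := [24, 0, 25, 1]
def rw59 : List Nat := [24, 2, 25, 3]
def rw60 : List Nat := [24, 4, 25, 5]
def rw61 : List Nat := [24, 6, 25, 7]
def rw62 : List Nat := [26, 0, 27, 1]
def rw63 : List Nat := [26, 2, 27, 3]
def rw64 : List Nat := [26, 4, 27, 5]
def rw65 : List Nat := [26, 6, 27, 7]
def rw66 : List Nat := [28, 0, 29, 1]
def rw67 : List Nat := [28, 2, 29, 3]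
def rw68 : List Nat := [28, 4, 29, 5]
def rw69 : List Nat := [28, 6, 29, 7]
def rw70 : List Nat := [0, 0, 0, 0, 0, 0, 0]
def rw71 : List Nat := [0, 0, 2, 1, 2, 0, 3, 0, 2, 1, 2]
def rw72 : List Nat := [0, 0, 0, 2, 0, 0, 0, 2, 0, 0, 0, 2]
def rw73 : List Nat := [0, 0, 2, 2, 0, 0, 3, 3, 0, 0, 3, 3]
def rw74 : List Nat := [4, 0, 3, 1, 3, 0, 3, 5, 1, 2, 1, 2, 0, 2]
def rw75 : List Nat := [4, 1, 2, 0, 2, 1, 2, 5, 3, 1, 3, 0, 3, 0]
def rw76 : List Nat := [5, 1, 2, 1, 2, 0, 2, 4, 3, 0, 3, 1, 3, 0]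
def rw77 : List Nat := [5, 3, 1, 3, 0, 3, 0, 4, 2, 1, 2, 0, 2, 1]
def rw78 : List Nat := [4, 0, 1, 2, 1, 2, 0, 2, 1, 5, 3, 1, 3, 0, 3, 0]
def rw79 : List Nat := [4, 0, 3, 1, 3, 0, 3, 0, 1, 5, 1, 2, 1, 2, 0, 2]
def rw80 : List Nat := [4, 1, 0, 3, 0, 3, 1, 3, 0, 5, 1, 2, 1, 2, 0, 2]
def rw81 : List Nat := [4, 1, 2, 0, 2, 1, 2, 1, 0, 5, 3, 1, 3, 0, 3, 0]
def rw82 : List Nat := [4, 2, 0, 3, 1, 3, 0, 3, 3, 5, 1, 2, 1, 2, 0, 2]
def rw83 : List Nat := [4, 2, 1, 2, 0, 2, 1, 2, 3, 5, 3, 1, 3, 0, 3, 0]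
def rw84 : List Nat := [4, 3, 0, 3, 1, 3, 0, 3, 2, 5, 1, 2, 1, 2, 0, 2]
def rw85 : List Nat := [4, 3, 1, 2, 0, 2, 1, 2, 2, 5, 3, 1, 3, 0, 3, 0]
def rw86 : List Nat := [5, 3, 1, 3, 0, 3, 0, 3, 2, 4, 2, 1, 2, 0, 2, 1]
def rw87 : List Nat := [5, 3, 2, 1, 2, 1, 2, 0, 2, 4, 3, 0, 3, 1, 3, 0]
def rw88 : List Nat := [4, 0, 0, 3, 0, 3, 1, 3, 1, 5, 3, 3, 0, 2, 1, 2, 1, 3]
def rw89 : List Nat := [4, 0, 2, 0, 2, 1, 2, 1, 1, 5, 2, 0, 3, 0, 3, 1, 3, 3]
def rw90 : List Nat := [4, 1, 2, 0, 3, 1, 2, 0, 3, 5, 3, 1, 2, 0, 3, 1, 2, 0]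
def rw91 : List Nat := [4, 2, 1, 3, 0, 2, 1, 3, 0, 5, 1, 3, 0, 2, 1, 3, 0, 2]
def rw92 : List Nat := [5, 1, 3, 0, 2, 1, 3, 0, 2, 4, 2, 1, 3, 0, 2, 1, 3, 0]
def rw93 : List Nat := [5, 2, 0, 3, 0, 3, 1, 2, 2, 4, 0, 2, 0, 2, 1, 2, 1, 1]
def rw94 : List Nat := [5, 2, 2, 0, 2, 1, 2, 1, 3, 4, 0, 0, 3, 0, 3, 1, 3, 1]
def rw95 : List Nat := [5, 3, 1, 2, 0, 3, 1, 2, 0, 4, 1, 2, 0, 3, 1, 2, 0, 3]
def rw96 : List Nat := [4, 0, 0, 3, 0, 3, 1, 3, 1, 5, 3, 3, 0, 2, 1, 2, 1, 3]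
def rw97 : List Nat := [4, 0, 2, 0, 2, 1, 2, 1, 1, 5, 2, 0, 3, 0, 3, 1, 3, 3]
def rw98 : List Nat := [4, 3, 0, 0, 2, 0, 0, 2, 2, 5, 3, 3, 0, 2, 1, 2, 1, 3]
def rw99 : List Nat := [4, 3, 3, 1, 1, 3, 1, 1, 2, 5, 2, 0, 3, 0, 3, 1, 3, 3]
def rw100 : List Nat := [4, 4, 2, 0, 3, 0, 3, 1, 2, 2, 5, 5, 0, 0, 2, 0, 0, 2]
def rw101 : List Nat := [4, 4, 2, 2, 0, 2, 1, 2, 1, 3, 5, 5, 3, 1, 1, 3, 1, 1]
def rw102 : List Nat := [5, 0, 1, 1, 2, 1, 2, 0, 2, 0, 1, 4, 3, 0, 3, 1, 3, 0]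
def rw103 : List Nat := [5, 0, 1, 3, 1, 3, 0, 3, 0, 0, 1, 4, 2, 1, 2, 0, 2, 1]
def rw104 : List Nat := [5, 5, 0, 0, 2, 0, 0, 2, 4, 4, 2, 0, 3, 0, 3, 1, 3, 3]
def rw105 : List Nat := [5, 5, 3, 1, 1, 3, 1, 1, 4, 4, 3, 3, 0, 2, 1, 2, 1, 3]
def rw106 : List Nat := [4, 0, 2, 1, 3, 0, 2, 1, 3, 5, 2, 0, 3, 1, 3, 3, 0, 3, 3, 1]
def rw107 : List Nat := [4, 2, 0, 3, 1, 2, 0, 3, 1, 5, 1, 2, 1, 2, 0, 3, 3, 1, 1, 1]
def rw108 : List Nat := [4, 0, 0, 3, 1, 2, 0, 3, 1, 2, 1, 5, 1, 3, 0, 2, 1, 3, 0, 2]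
def rw109 : List Nat := [4, 0, 3, 0, 2, 1, 3, 0, 2, 1, 1, 5, 3, 1, 2, 0, 3, 1, 2, 0]
def rw110 : List Nat := [4, 1, 0, 2, 1, 3, 0, 2, 1, 3, 0, 5, 1, 3, 0, 2, 1, 3, 0, 2]
def rw111 : List Nat := [4, 1, 2, 0, 3, 1, 2, 0, 3, 1, 0, 5, 3, 1, 2, 0, 3, 1, 2, 0]
def rw112 : List Nat := [4, 2, 1, 1, 2, 1, 2, 0, 2, 0, 3, 5, 2, 0, 3, 0, 3, 1, 3, 3]
def rw113 : List Nat := [4, 2, 1, 3, 0, 2, 1, 3, 0, 2, 3, 5, 1, 3, 0, 2, 1, 3, 0, 2]
def realLit : List (List Nat) := [rw0, rw1, rw2, rw3, rw4, rw5, rw6, rw7, rw8, rw9, rw10, rw11, rw12, rw13, rw14, rw15, rw16, rw17, rw18, rw19, rw20, rw21, rw22, rw23, rw24, rw25, rw26, rw27, rw28, rw29, rw30, rw31, rw32, rw33, rw34, rw35, rw36, rw37, rw38, rw39, rw40, rw41, rw42, rw43, rw44, rw45, rw46, rw47, rw48, rw49, rw50, rw51, rw52, rw53, rw54, rw55, rw56, rw57, rw58, rw59, rw60, rw61, rw62, rw63, rw64, rw65, rw66, rw67, rw68, rw69, rw70, rw71, rw72, rw73, rw74, rw75, rw76, rw77, rw78, rw79, rw80,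 rw81, rw82, rw83, rw84, rw85, rw86, rw87, rw88, rw89, rw90, rw91, rw92, rw93, rw94, rw95, rw96, rw97, rw98, rw99, rw100, rw101, rw102, rw103, rw104, rw105, rw106, rw107, rw108, rw109, rw110, rw111, rw112, rw113]
noncomputable def actR0 (i : Nat) : Nat := col1 (col1 (col1 (col1 (col1 (col1 (col1 (i)))))))
theorem actR0_eq (i : Nat) : actR0 i = Tab.act T D rw0 i := rfl
noncomputable def actR1 (i : Nat) : Nat := col3 (col3 (col3 (col3 (i))))
theorem actR1_eq (i : Nat) : actR1 i = Tab.act T D rw1 i := rfl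
noncomputable def actR2 (i : Nat) : Nat := col5 (col5 (col5 (col5 (col5 (col5 (col5 (i)))))))
theorem actR2_eq (i : Nat) : actR2 i = Tab.act T D rw2 i := rfl
noncomputable def actR3 (i : Nat) : Nat := col6 (col1 (col1 (col1 (col2 (col5 (col0 (col2 (col5 (col0 (col2 (i)))))))))))
theorem actR3_eq (i : Nat) : actR3 i = Tab.act T D rw3 i := rfl
noncomputable def actR4 (i : Nat) : Nat := col8 (col3 (col5 (col3 (col5 (col3 (col5 (col3 (col5 (col6 (col6 (i)))))))))))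
theorem actR4_eq (i : Nat) : actR4 i = Tab.act T D rw4 i := rfl
noncomputable def actR5 (i : Nat) : Nat := col10 (col1 (col3 (col1 (col3 (col0 (col4 (col0 (col2 (col0 (col2 (col5 (col6 (col6 (col6 (i)))))))))))))))
theorem actR5_eq (i : Nat) : actR5 i = Tab.act T D rw5 i := rfl
noncomputable def actR6 (i : Nat) : Nat := col12 (col1 (col1 (col1 (col1 (col4 (col0 (col3 (col1 (col1 (col1 (col3 (col4 (col6 (col6 (col6 (i))))))))))))))))
theorem actR6_eq (i : Nat) : actR6 i = Tab.act T D rw6 i := rfl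
noncomputable def actR7 (i : Nat) : Nat := col14 (col1 (col1 (col1 (col3 (col0 (col3 (col0 (col0 (col0 (col4 (col0 (col2 (col4 (col6 (col6 (i))))))))))))))))
theorem actR7_eq (i : Nat) : actR7 i = Tab.act T D rw7 i := rfl
noncomputable def actR8 (i : Nat) : Nat := col16 (col1 (col1 (col2 (col0 (col2 (col1 (col1 (col5 (col3 (col0 (col0 (col4 (col3 (col6 (i)))))))))))))))
theorem actR8_eq (i : Nat) : actR8 i = Tab.act T D rw8 i := rfl
noncomputable def actR9 (i : Nat) : Nat := col18 (col1 (col1 (col3 (col1 (col1 (col2 (col1 (col4 (col1 (col4 (col4 (col4 (col1 (col4 (col2 (col6 (col6 (i))))))))))))))))))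
theorem actR9_eq (i : Nat) : actR9 i = Tab.act T D rw9 i := rfl
noncomputable def actR10 (i : Nat) : Nat := col20 (col1 (col1 (col3 (col5 (col1 (col4 (col0 (col0 (col4 (col2 (col4 (col3 (col1 (col3 (col3 (i))))))))))))))))
theorem actR10_eq (i : Nat) : actR10 i = Tab.act T D rw10 i := rfl
noncomputable def actR11 (i : Nat) : Nat := col22 (col7 (col7 (col7 (col7 (i)))))
theorem actR11_eq (i : Nat) : actR11 i = Tab.act T D rw11 i := rfl
noncomputable def actR12 (i : Nat) : Nat := col24 (col6 (col0 (col7 (col1 (i)))))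
theorem actR12_eq (i : Nat) : actR12 i = Tab.act T D rw12 i := rfl
noncomputable def actR13 (i : Nat) : Nat := col26 (col6 (col2 (col7 (col3 (i)))))
theorem actR13_eq (i : Nat) : actR13 i = Tab.act T D rw13 i := rfl
noncomputable def actR14 (i : Nat) : Nat := col28 (col6 (col4 (col7 (col5 (i)))))
theorem actR14_eq (i : Nat) : actR14 i = Tab.act T D rw14 i := rfl
noncomputable def actR15 (i : Nat) : Nat := col9 (col9 (i))
theorem actR15_eq (i : Nat) : actR15 i = Tab.act T D rw15 i := rfl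
noncomputable def actR16 (i : Nat) : Nat := col11 (col11 (i))
theorem actR16_eq (i : Nat) : actR16 i = Tab.act T D rw16 i := rfl
noncomputable def actR17 (i : Nat) : Nat := col13 (col13 (i))
theorem actR17_eq (i : Nat) : actR17 i = Tab.act T D rw17 i := rfl
noncomputable def actR18 (i : Nat) : Nat := col15 (col15 (i))
theorem actR18_eq (i : Nat) : actR18 i = Tab.act T D rw18 i := rfl
noncomputable def actR19 (i : Nat) : Nat := col17 (col17 (i))
theorem actR19_eq (i : Nat) : actR19 i = Tab.act T D rw19 i := rfl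
noncomputable def actR20 (i : Nat) : Nat := col19 (col19 (i))
theorem actR20_eq (i : Nat) : actR20 i = Tab.act T D rw20 i := rfl
noncomputable def actR21 (i : Nat) : Nat := col21 (col21 (i))
theorem actR21_eq (i : Nat) : actR21 i = Tab.act T D rw21 i := rfl
noncomputable def actR22 (i : Nat) : Nat := col23 (col23 (i))
theorem actR22_eq (i : Nat) : actR22 i = Tab.act T D rw22 i := rfl
noncomputable def actR23 (i : Nat) : Nat := col25 (col25 (i))
theorem actR23_eq (i : Nat) : actR23 i = Tab.act T D rw23 i := rfl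
noncomputable def actR24 (i : Nat) : Nat := col27 (col27 (i))
theorem actR24_eq (i : Nat) : actR24 i = Tab.act T D rw24 i := rfl
noncomputable def actR25 (i : Nat) : Nat := col29 (col29 (i))
theorem actR25_eq (i : Nat) : actR25 i = Tab.act T D rw25 i := rfl
noncomputable def actR26 (i : Nat) : Nat := col9 (col1 (col8 (col0 (i))))
theorem actR26_eq (i : Nat) : actR26 i = Tab.act T D rw26 i := rfl
noncomputable def actR27 (i : Nat) : Nat := col9 (col3 (col8 (col2 (i))))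
theorem actR27_eq (i : Nat) : actR27 i = Tab.act T D rw27 i := rfl
noncomputable def actR28 (i : Nat) : Nat := col9 (col5 (col8 (col4 (i))))
theorem actR28_eq (i : Nat) : actR28 i = Tab.act T D rw28 i := rfl
noncomputable def actR29 (i : Nat) : Nat := col9 (col7 (col8 (col6 (i))))
theorem actR29_eq (i : Nat) : actR29 i = Tab.act T D rw29 i := rfl
noncomputable def actR30 (i : Nat) : Nat := col11 (col1 (col10 (col0 (i))))
theorem actR30_eq (i : Nat) : actR30 i = Tab.act T D rw30 i := rfl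
noncomputable def actR31 (i : Nat) : Nat := col11 (col3 (col10 (col2 (i))))
theorem actR31_eq (i : Nat) : actR31 i = Tab.act T D rw31 i := rfl
noncomputable def actR32 (i : Nat) : Nat := col11 (col5 (col10 (col4 (i))))
theorem actR32_eq (i : Nat) : actR32 i = Tab.act T D rw32 i := rfl
noncomputable def actR33 (i : Nat) : Nat := col11 (col7 (col10 (col6 (i))))
theorem actR33_eq (i : Nat) : actR33 i = Tab.act T D rw33 i := rfl
noncomputable def actR34 (i : Nat) : Nat := col13 (col1 (col12 (col0 (i))))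
theorem actR34_eq (i : Nat) : actR34 i = Tab.act T D rw34 i := rfl
noncomputable def actR35 (i : Nat) : Nat := col13 (col3 (col12 (col2 (i))))
theorem actR35_eq (i : Nat) : actR35 i = Tab.act T D rw35 i := rfl
noncomputable def actR36 (i : Nat) : Nat := col13 (col5 (col12 (col4 (i))))
theorem actR36_eq (i : Nat) : actR36 i = Tab.act T D rw36 i := rfl
noncomputable def actR37 (i : Nat) : Nat := col13 (col7 (col12 (col6 (i))))
theorem actR37_eq (i : Nat) : actR37 i = Tab.act T D rw37 i := rfl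
noncomputable def actR38 (i : Nat) : Nat := col15 (col1 (col14 (col0 (i))))
theorem actR38_eq (i : Nat) : actR38 i = Tab.act T D rw38 i := rfl
noncomputable def actR39 (i : Nat) : Nat := col15 (col3 (col14 (col2 (i))))
theorem actR39_eq (i : Nat) : actR39 i = Tab.act T D rw39 i := rfl
noncomputable def actR40 (i : Nat) : Nat := col15 (col5 (col14 (col4 (i))))
theorem actR40_eq (i : Nat) : actR40 i = Tab.act T D rw40 i := rfl
noncomputable def actR41 (i : Nat) : Nat := col15 (col7 (col14 (col6 (i))))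
theorem actR41_eq (i : Nat) : actR41 i = Tab.act T D rw41 i := rfl
noncomputable def actR42 (i : Nat) : Nat := col17 (col1 (col16 (col0 (i))))
theorem actR42_eq (i : Nat) : actR42 i = Tab.act T D rw42 i := rfl
noncomputable def actR43 (i : Nat) : Nat := col17 (col3 (col16 (col2 (i))))
theorem actR43_eq (i : Nat) : actR43 i = Tab.act T D rw43 i := rfl
noncomputable def actR44 (i : Nat) : Nat := col17 (col5 (col16 (col4 (i))))
theorem actR44_eq (i : Nat) : actR44 i = Tab.act T D rw44 i := rfl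
noncomputable def actR45 (i : Nat) : Nat := col17 (col7 (col16 (col6 (i))))
theorem actR45_eq (i : Nat) : actR45 i = Tab.act T D rw45 i := rfl
noncomputable def actR46 (i : Nat) : Nat := col19 (col1 (col18 (col0 (i))))
theorem actR46_eq (i : Nat) : actR46 i = Tab.act T D rw46 i := rfl
noncomputable def actR47 (i : Nat) : Nat := col19 (col3 (col18 (col2 (i))))
theorem actR47_eq (i : Nat) : actR47 i = Tab.act T D rw47 i := rfl
noncomputable def actR48 (i : Nat) : Nat := col19 (col5 (col18 (col4 (i))))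
theorem actR48_eq (i : Nat) : actR48 i = Tab.act T D rw48 i := rfl
noncomputable def actR49 (i : Nat) : Nat := col19 (col7 (col18 (col6 (i))))
theorem actR49_eq (i : Nat) : actR49 i = Tab.act T D rw49 i := rfl
noncomputable def actR50 (i : Nat) : Nat := col21 (col1 (col20 (col0 (i))))
theorem actR50_eq (i : Nat) : actR50 i = Tab.act T D rw50 i := rfl
noncomputable def actR51 (i : Nat) : Nat := col21 (col3 (col20 (col2 (i))))
theorem actR51_eq (i : Nat) : actR51 i = Tab.act T D rw51 i := rfl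
noncomputable def actR52 (i : Nat) : Nat := col21 (col5 (col20 (col4 (i))))
theorem actR52_eq (i : Nat) : actR52 i = Tab.act T D rw52 i := rfl
noncomputable def actR53 (i : Nat) : Nat := col21 (col7 (col20 (col6 (i))))
theorem actR53_eq (i : Nat) : actR53 i = Tab.act T D rw53 i := rfl
noncomputable def actR54 (i : Nat) : Nat := col23 (col1 (col22 (col0 (i))))
theorem actR54_eq (i : Nat) : actR54 i = Tab.act T D rw54 i := rfl
noncomputable def actR55 (i : Nat) : Nat := col23 (col3 (col22 (col2 (i))))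
theorem actR55_eq (i : Nat) : actR55 i = Tab.act T D rw55 i := rfl
noncomputable def actR56 (i : Nat) : Nat := col23 (col5 (col22 (col4 (i))))
theorem actR56_eq (i : Nat) : actR56 i = Tab.act T D rw56 i := rfl
noncomputable def actR57 (i : Nat) : Nat := col23 (col7 (col22 (col6 (i))))
theorem actR57_eq (i : Nat) : actR57 i = Tab.act T D rw57 i := rfl
noncomputable def actR58 (i : Nat) : Nat := col25 (col1 (col24 (col0 (i))))
theorem actR58_eq (i : Nat) : actR58 i = Tab.act T D rw58 i := rfl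
noncomputable def actR59 (i : Nat) : Nat := col25 (col3 (col24 (col2 (i))))
theorem actR59_eq (i : Nat) : actR59 i = Tab.act T D rw59 i := rfl
noncomputable def actR60 (i : Nat) : Nat := col25 (col5 (col24 (col4 (i))))
theorem actR60_eq (i : Nat) : actR60 i = Tab.act T D rw60 i := rfl
noncomputable def actR61 (i : Nat) : Nat := col25 (col7 (col24 (col6 (i))))
theorem actR61_eq (i : Nat) : actR61 i = Tab.act T D rw61 i := rfl
noncomputable def actR62 (i : Nat) : Nat := col27 (col1 (col26 (col0 (i))))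
theorem actR62_eq (i : Nat) : actR62 i = Tab.act T D rw62 i := rfl
noncomputable def actR63 (i : Nat) : Nat := col27 (col3 (col26 (col2 (i))))
theorem actR63_eq (i : Nat) : actR63 i = Tab.act T D rw63 i := rfl
noncomputable def actR64 (i : Nat) : Nat := col27 (col5 (col26 (col4 (i))))
theorem actR64_eq (i : Nat) : actR64 i = Tab.act T D rw64 i := rfl
noncomputable def actR65 (i : Nat) : Nat := col27 (col7 (col26 (col6 (i))))
theorem actR65_eq (i : Nat) : actR65 i = Tab.act T D rw65 i := rfl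
noncomputable def actR66 (i : Nat) : Nat := col29 (col1 (col28 (col0 (i))))
theorem actR66_eq (i : Nat) : actR66 i = Tab.act T D rw66 i := rfl
noncomputable def actR67 (i : Nat) : Nat := col29 (col3 (col28 (col2 (i))))
theorem actR67_eq (i : Nat) : actR67 i = Tab.act T D rw67 i := rfl
noncomputable def actR68 (i : Nat) : Nat := col29 (col5 (col28 (col4 (i))))
theorem actR68_eq (i : Nat) : actR68 i = Tab.act T D rw68 i := rfl
noncomputable def actR69 (i : Nat) : Nat := col29 (col7 (col28 (col6 (i))))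
theorem actR69_eq (i : Nat) : actR69 i = Tab.act T D rw69 i := rfl
noncomputable def actR70 (i : Nat) : Nat := col1 (col1 (col1 (col1 (col1 (col1 (col1 (i)))))))
theorem actR70_eq (i : Nat) : actR70 i = Tab.act T D rw70 i := rfl
noncomputable def actR71 (i : Nat) : Nat := col1 (col1 (col3 (col0 (col3 (col1 (col2 (col1 (col3 (col0 (col3 (i)))))))))))
theorem actR71_eq (i : Nat) : actR71 i = Tab.act T D rw71 i := rfl
noncomputable def actR72 (i : Nat) : Nat := col1 (col1 (col1 (col3 (col1 (col1 (col1 (col3 (col1 (col1 (col1 (col3 (i))))))))))))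
theorem actR72_eq (i : Nat) : actR72 i = Tab.act T D rw72 i := rfl
noncomputable def actR73 (i : Nat) : Nat := col1 (col1 (col3 (col3 (col1 (col1 (col2 (col2 (col1 (col1 (col2 (col2 (i))))))))))))
theorem actR73_eq (i : Nat) : actR73 i = Tab.act T D rw73 i := rfl
noncomputable def actR74 (i : Nat) : Nat := col5 (col1 (col2 (col0 (col2 (col1 (col2 (col4 (col0 (col3 (col0 (col3 (col1 (col3 (i))))))))))))))
theorem actR74_eq (i : Nat) : actR74 i = Tab.act T D rw74 i := rfl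
noncomputable def actR75 (i : Nat) : Nat := col5 (col0 (col3 (col1 (col3 (col0 (col3 (col4 (col2 (col0 (col2 (col1 (col2 (col1 (i))))))))))))))
theorem actR75_eq (i : Nat) : actR75 i = Tab.act T D rw75 i := rfl
noncomputable def actR76 (i : Nat) : Nat := col4 (col0 (col3 (col0 (col3 (col1 (col3 (col5 (col2 (col1 (col2 (col0 (col2 (col1 (i))))))))))))))
theorem actR76_eq (i : Nat) : actR76 i = Tab.act T D rw76 i := rfl
noncomputable def actR77 (i : Nat) : Nat := col4 (col2 (col0 (col2 (col1 (col2 (col1 (col5 (col3 (col0 (col3 (col1 (col3 (col0 (i))))))))))))))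
theorem actR77_eq (i : Nat) : actR77 i = Tab.act T D rw77 i := rfl
noncomputable def actR78 (i : Nat) : Nat := col5 (col1 (col0 (col3 (col0 (col3 (col1 (col3 (col0 (col4 (col2 (col0 (col2 (col1 (col2 (col1 (i))))))))))))))))
theorem actR78_eq (i : Nat) : actR78 i = Tab.act T D rw78 i := rfl
noncomputable def actR79 (i : Nat) : Nat := col5 (col1 (col2 (col0 (col2 (col1 (col2 (col1 (col0 (col4 (col0 (col3 (col0 (col3 (col1 (col3 (i))))))))))))))))
theorem actR79_eq (i : Nat) : actR79 i = Tab.act T D rw79 i := rfl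
noncomputable def actR80 (i : Nat) : Nat := col5 (col0 (col1 (col2 (col1 (col2 (col0 (col2 (col1 (col4 (col0 (col3 (col0 (col3 (col1 (col3 (i))))))))))))))))
theorem actR80_eq (i : Nat) : actR80 i = Tab.act T D rw80 i := rfl
noncomputable def actR81 (i : Nat) : Nat := col5 (col0 (col3 (col1 (col3 (col0 (col3 (col0 (col1 (col4 (col2 (col0 (col2 (col1 (col2 (col1 (i))))))))))))))))
theorem actR81_eq (i : Nat) : actR81 i = Tab.act T D rw81 i := rfl
noncomputable def actR82 (i : Nat) : Nat := col5 (col3 (col1 (col2 (col0 (col2 (col1 (col2 (col2 (col4 (col0 (col3 (col0 (col3 (col1 (col3 (i))))))))))))))))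
theorem actR82_eq (i : Nat) : actR82 i = Tab.act T D rw82 i := rfl
noncomputable def actR83 (i : Nat) : Nat := col5 (col3 (col0 (col3 (col1 (col3 (col0 (col3 (col2 (col4 (col2 (col0 (col2 (col1 (col2 (col1 (i))))))))))))))))
theorem actR83_eq (i : Nat) : actR83 i = Tab.act T D rw83 i := rfl
noncomputable def actR84 (i : Nat) : Nat := col5 (col2 (col1 (col2 (col0 (col2 (col1 (col2 (col3 (col4 (col0 (col3 (col0 (col3 (col1 (col3 (i))))))))))))))))
theorem actR84_eq (i : Nat) : actR84 i = Tab.act T D rw84 i := rfl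
noncomputable def actR85 (i : Nat) : Nat := col5 (col2 (col0 (col3 (col1 (col3 (col0 (col3 (col3 (col4 (col2 (col0 (col2 (col1 (col2 (col1 (i))))))))))))))))
theorem actR85_eq (i : Nat) : actR85 i = Tab.act T D rw85 i := rfl
noncomputable def actR86 (i : Nat) : Nat := col4 (col2 (col0 (col2 (col1 (col2 (col1 (col2 (col3 (col5 (col3 (col0 (col3 (col1 (col3 (col0 (i))))))))))))))))
theorem actR86_eq (i : Nat) : actR86 i = Tab.act T D rw86 i := rfl
noncomputable def actR87 (i : Nat) : Nat := col4 (col2 (col3 (col0 (col3 (col0 (col3 (col1 (col3 (col5 (col2 (col1 (col2 (col0 (col2 (col1 (i))))))))))))))))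
theorem actR87_eq (i : Nat) : actR87 i = Tab.act T D rw87 i := rfl
noncomputable def actR88 (i : Nat) : Nat := col5 (col1 (col1 (col2 (col1 (col2 (col0 (col2 (col0 (col4 (col2 (col2 (col1 (col3 (col0 (col3 (col0 (col2 (i))))))))))))))))))
theorem actR88_eq (i : Nat) : actR88 i = Tab.act T D rw88 i := rfl
noncomputable def actR89 (i : Nat) : Nat := col5 (col1 (col3 (col1 (col3 (col0 (col3 (col0 (col0 (col4 (col3 (col1 (col2 (col1 (col2 (col0 (col2 (col2 (i))))))))))))))))))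
theorem actR89_eq (i : Nat) : actR89 i = Tab.act T D rw89 i := rfl
noncomputable def actR90 (i : Nat) : Nat := col5 (col0 (col3 (col1 (col2 (col0 (col3 (col1 (col2 (col4 (col2 (col0 (col3 (col1 (col2 (col0 (col3 (col1 (i))))))))))))))))))
theorem actR90_eq (i : Nat) : actR90 i = Tab.act T D rw90 i := rfl
noncomputable def actR91 (i : Nat) : Nat := col5 (col3 (col0 (col2 (col1 (col3 (col0 (col2 (col1 (col4 (col0 (col2 (col1 (col3 (col0 (col2 (col1 (col3 (i))))))))))))))))))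
theorem actR91_eq (i : Nat) : actR91 i = Tab.act T D rw91 i := rfl
noncomputable def actR92 (i : Nat) : Nat := col4 (col0 (col2 (col1 (col3 (col0 (col2 (col1 (col3 (col5 (col3 (col0 (col2 (col1 (col3 (col0 (col2 (col1 (i))))))))))))))))))
theorem actR92_eq (i : Nat) : actR92 i = Tab.act T D rw92 i := rfl
noncomputable def actR93 (i : Nat) : Nat := col4 (col3 (col1 (col2 (col1 (col2 (col0 (col3 (col3 (col5 (col1 (col3 (col1 (col3 (col0 (col3 (col0 (col0 (i))))))))))))))))))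
theorem actR93_eq (i : Nat) : actR93 i = Tab.act T D rw93 i := rfl
noncomputable def actR94 (i : Nat) : Nat := col4 (col3 (col3 (col1 (col3 (col0 (col3 (col0 (col2 (col5 (col1 (col1 (col2 (col1 (col2 (col0 (col2 (col0 (i))))))))))))))))))
theorem actR94_eq (i : Nat) : actR94 i = Tab.act T D rw94 i := rfl
noncomputable def actR95 (i : Nat) : Nat := col4 (col2 (col0 (col3 (col1 (col2 (col0 (col3 (col1 (col5 (col0 (col3 (col1 (col2 (col0 (col3 (col1 (col2 (i))))))))))))))))))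
theorem actR95_eq (i : Nat) : actR95 i = Tab.act T D rw95 i := rfl
noncomputable def actR96 (i : Nat) : Nat := col5 (col1 (col1 (col2 (col1 (col2 (col0 (col2 (col0 (col4 (col2 (col2 (col1 (col3 (col0 (col3 (col0 (col2 (i))))))))))))))))))
theorem actR96_eq (i : Nat) : actR96 i = Tab.act T D rw96 i := rfl
noncomputable def actR97 (i : Nat) : Nat := col5 (col1 (col3 (col1 (col3 (col0 (col3 (col0 (col0 (col4 (col3 (col1 (col2 (col1 (col2 (col0 (col2 (col2 (i))))))))))))))))))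
theorem actR97_eq (i : Nat) : actR97 i = Tab.act T D rw97 i := rfl
noncomputable def actR98 (i : Nat) : Nat := col5 (col2 (col1 (col1 (col3 (col1 (col1 (col3 (col3 (col4 (col2 (col2 (col1 (col3 (col0 (col3 (col0 (col2 (i))))))))))))))))))
theorem actR98_eq (i : Nat) : actR98 i = Tab.act T D rw98 i := rfl
noncomputable def actR99 (i : Nat) : Nat := col5 (col2 (col2 (col0 (col0 (col2 (col0 (col0 (col3 (col4 (col3 (col1 (col2 (col1 (col2 (col0 (col2 (col2 (i))))))))))))))))))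
theorem actR99_eq (i : Nat) : actR99 i = Tab.act T D rw99 i := rfl
noncomputable def actR100 (i : Nat) : Nat := col5 (col5 (col3 (col1 (col2 (col1 (col2 (col0 (col3 (col3 (col4 (col4 (col1 (col1 (col3 (col1 (col1 (col3 (i))))))))))))))))))
theorem actR100_eq (i : Nat) : actR100 i = Tab.act T D rw100 i := rfl
noncomputable def actR101 (i : Nat) : Nat := col5 (col5 (col3 (col3 (col1 (col3 (col0 (col3 (col0 (col2 (col4 (col4 (col2 (col0 (col0 (col2 (col0 (col0 (i))))))))))))))))))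
theorem actR101_eq (i : Nat) : actR101 i = Tab.act T D rw101 i := rfl
noncomputable def actR102 (i : Nat) : Nat := col4 (col1 (col0 (col0 (col3 (col0 (col3 (col1 (col3 (col1 (col0 (col5 (col2 (col1 (col2 (col0 (col2 (col1 (i))))))))))))))))))
theorem actR102_eq (i : Nat) : actR102 i = Tab.act T D rw102 i := rfl
noncomputable def actR103 (i : Nat) : Nat := col4 (col1 (col0 (col2 (col0 (col2 (col1 (col2 (col1 (col1 (col0 (col5 (col3 (col0 (col3 (col1 (col3 (col0 (i))))))))))))))))))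
theorem actR103_eq (i : Nat) : actR103 i = Tab.act T D rw103 i := rfl
noncomputable def actR104 (i : Nat) : Nat := col4 (col4 (col1 (col1 (col3 (col1 (col1 (col3 (col5 (col5 (col3 (col1 (col2 (col1 (col2 (col0 (col2 (col2 (i))))))))))))))))))
theorem actR104_eq (i : Nat) : actR104 i = Tab.act T D rw104 i := rfl
noncomputable def actR105 (i : Nat) : Nat := col4 (col4 (col2 (col0 (col0 (col2 (col0 (col0 (col5 (col5 (col2 (col2 (col1 (col3 (col0 (col3 (col0 (col2 (i))))))))))))))))))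
theorem actR105_eq (i : Nat) : actR105 i = Tab.act T D rw105 i := rfl
noncomputable def actR106 (i : Nat) : Nat := col5 (col1 (col3 (col0 (col2 (col1 (col3 (col0 (col2 (col4 (col3 (col1 (col2 (col0 (col2 (col2 (col1 (col2 (col2 (col0 (i))))))))))))))))))))
theorem actR106_eq (i : Nat) : actR106 i = Tab.act T D rw106 i := rfl
noncomputable def actR107 (i : Nat) : Nat := col5 (col3 (col1 (col2 (col0 (col3 (col1 (col2 (col0 (col4 (col0 (col3 (col0 (col3 (col1 (col2 (col2 (col0 (col0 (col0 (i))))))))))))))))))))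
theorem actR107_eq (i : Nat) : actR107 i = Tab.act T D rw107 i := rfl
noncomputable def actR108 (i : Nat) : Nat := col5 (col1 (col1 (col2 (col0 (col3 (col1 (col2 (col0 (col3 (col0 (col4 (col0 (col2 (col1 (col3 (col0 (col2 (col1 (col3 (i))))))))))))))))))))
theorem actR108_eq (i : Nat) : actR108 i = Tab.act T D rw108 i := rfl
noncomputable def actR109 (i : Nat) : Nat := col5 (col1 (col2 (col1 (col3 (col0 (col2 (col1 (col3 (col0 (col0 (col4 (col2 (col0 (col3 (col1 (col2 (col0 (col3 (col1 (i))))))))))))))))))))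
theorem actR109_eq (i : Nat) : actR109 i = Tab.act T D rw109 i := rfl
noncomputable def actR110 (i : Nat) : Nat := col5 (col0 (col1 (col3 (col0 (col2 (col1 (col3 (col0 (col2 (col1 (col4 (col0 (col2 (col1 (col3 (col0 (col2 (col1 (col3 (i))))))))))))))))))))
theorem actR110_eq (i : Nat) : actR110 i = Tab.act T D rw110 i := rfl
noncomputable def actR111 (i : Nat) : Nat := col5 (col0 (col3 (col1 (col2 (col0 (col3 (col1 (col2 (col0 (col1 (col4 (col2 (col0 (col3 (col1 (col2 (col0 (col3 (col1 (i))))))))))))))))))))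
theorem actR111_eq (i : Nat) : actR111 i = Tab.act T D rw111 i := rfl
noncomputable def actR112 (i : Nat) : Nat := col5 (col3 (col0 (col0 (col3 (col0 (col3 (col1 (col3 (col1 (col2 (col4 (col3 (col1 (col2 (col1 (col2 (col0 (col2 (col2 (i))))))))))))))))))))
theorem actR112_eq (i : Nat) : actR112 i = Tab.act T D rw112 i := rfl
noncomputable def actR113 (i : Nat) : Nat := col5 (col3 (col0 (col2 (col1 (col3 (col0 (col2 (col1 (col3 (col2 (col4 (col0 (col2 (col1 (col3 (col0 (col2 (col1 (col3 (i))))))))))))))))))))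
theorem actR113_eq (i : Nat) : actR113 i = Tab.act T D rw113 i := rfl

end Cfsg.Agent.Lib.Helper4.TCD.SC4U43p2A
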