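import Cfsg.Agent.Lib.Helper4.TCD_SC4U62p2A_Acc

namespace Cfsg.Agent.Lib.Helper4.TCD.SC4U62p2A

open Cfsg.Agent.Lib.Helper4.TC

set_option maxRecDepth 100000
set_option Elab.async false

theorem c_zero : D.zeroOK = true := by decide +kernel
theorem c_base : allBelow D.baseOK 8 = true := by decide +kernel
theorem c_let : allBelow D.letOK 42 = true := by decide +kernel
theorem c_cls0 : T.cls 0 = 0 := by decide +kernel
theorem c_name0 : T.nameOf 0 = 0 := by decide +kernel
theorem c_tab : D.relTabOK 0 (baseRels 42 PSC4U62p2.invR PSC4U62p2.P.real subs ++ (baseRels 42 PSC4U62p2.invR PSC4U62p2.P.real subs).map (invWord D.inv)) = true := by decide +kernel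
theorem c_real : PSC4U62p2.P.real = realLit := by decide +kernel
theorem c_subfix : subs.all (fun u => Nat.beq (Tab.act T D u 0) 0) = true := by decide +kernel
theorem c_subs : subs.all (fun u => u.all (fun x => Nat.ble (Nat.succ x) 42)) = true := by decide +kernel
theorem c_names_0 : allRange D.nameOK 1 26164 = true := by decide +kernel
theorem c_cls_0 : allRange (T.clsOK D) 1 15000 = true := by decide +kernel
theorem c_cls_1 : allRange (T.clsOK D) 15001 11164 = true := by decide +kernel
theorem c_rep_0 : allRange (T.repOK D) 0 2688 = true := by decide +kernel
theorem c_rel_0 : allRange D.relOK 26173 3628 = true := by decide +kernel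
theorem c_rel_1 : allRange D.relOK 29801 3646 = true := by decide +kernel
theorem c_rel_2 : allRange D.relOK 33447 3687 = true := by decide +kernel
theorem c_rel_3 : allRange D.relOK 37134 3634 = true := by decide +kernel
theorem c_rel_4 : allRange D.relOK 40768 3631 = true := by decide +kernel
theorem c_rel_5 : allRange D.relOK 44399 3623 = true := by decide +kernel
theorem c_rel_6 : allRange D.relOK 48022 3692 = true := by decide +kernel
theorem c_rel_7 : allRange D.relOK 51714 3684 = true := by decide +kernel
theorem c_rel_8 : allRange D.relOK 55398 3630 = true := by decide +kernel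
theorem c_rel_9 : allRange D.relOK 59028 3646 = true := by decide +kernel
theorem c_rel_10 : allRange D.relOK 62674 3677 = true := by decide +kernel
theorem c_rel_11 : allRange D.relOK 66351 3690 = true := by decide +kernel
theorem c_rel_12 : allRange D.relOK 70041 3656 = true := by decide +kernel
theorem c_rel_13 : allRange D.relOK 73697 3630 = true := by decide +kernel
theorem c_rel_14 : allRange D.relOK 77327 3676 = true := by decide +kernel
theorem c_rel_15 : allRange D.relOK 81003 3453 = true := by decide +kernel
theorem c_rel_16 : allRange D.relOK 84456 3512 = true := by decide +kernel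
theorem c_rel_17 : allRange D.relOK 87968 3475 = true := by decide +kernel
theorem c_rel_18 : allRange D.relOK 91443 3687 = true := by decide +kernel
theorem c_rel_19 : allRange D.relOK 95130 3563 = true := by decide +kernel
theorem c_rel_20 : allRange D.relOK 98693 3616 = true := by decide +kernel
theorem c_rel_21 : allRange D.relOK 102309 2829 = true := by decide +kernel
theorem c_rel_22 : allRange D.relOK 105138 3312 = true := by decide +kernel
theorem c_rel_23 : allRange D.relOK 108450 3302 = true := by decide +kernel
theorem c_rel_24 : allRange D.relOK 111752 3342 = true := by decide +kernel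
theorem c_rel_25 : allRange D.relOK 115094 3308 = true := by decide +kernel
theorem c_rel_26 : allRange D.relOK 118402 3628 = true := by decide +kernel
theorem c_rel_27 : allRange D.relOK 122030 3404 = true := by decide +kernel
theorem c_rel_28 : allRange D.relOK 125434 3217 = true := by decide +kernel
theorem c_rel_29 : allRange D.relOK 128651 3346 = true := by decide +kernel
theorem c_rel_30 : allRange D.relOK 131997 3340 = true := by decide +kernel
theorem c_rel_31 : allRange D.relOK 135337 3342 = true := by decide +kernel
theorem c_rel_32 : allRange D.relOK 138679 3435 = true := by decide +kernel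
theorem c_rel_33 : allRange D.relOK 142114 3360 = true := by decide +kernel
theorem c_rel_34 : allRange D.relOK 145474 3011 = true := by decide +kernel
theorem c_rel_35 : allRange D.relOK 148485 3029 = true := by decide +kernel
theorem c_rel_36 : allRange D.relOK 151514 3091 = true := by decide +kernel
theorem c_rel_37 : allRange D.relOK 154605 3350 = true := by decide +kernel
theorem c_rel_38 : allRange D.relOK 157955 3016 = true := by decide +kernel
theorem c_rel_39 : allRange D.relOK 160971 3366 = true := by decide +kernel
theorem c_rel_40 : allRange D.relOK 164337 3186 = true := by decide +kernel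
theorem c_rel_41 : allRange D.relOK 167523 3176 = true := by decide +kernel
theorem c_rel_42 : allRange D.relOK 170699 3070 = true := by decide +kernel
theorem c_rel_43 : allRange D.relOK 173769 3059 = true := by decide +kernel
theorem c_rel_44 : allRange D.relOK 176828 3087 = true := by decide +kernel
theorem c_rel_45 : allRange D.relOK 179915 2848 = true := by decide +kernel
theorem c_rel_46 : allRange D.relOK 182763 2996 = true := by decide +kernel
theorem c_rel_47 : allRange D.relOK 185759 3045 = true := by decide +kernel
theorem c_rel_48 : allRange D.relOK 188804 3002 = true := by decide +kernel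
theorem c_rel_49 : allRange D.relOK 191806 3140 = true := by decide +kernel
theorem c_rel_50 : allRange D.relOK 194946 2826 = true := by decide +kernel
theorem c_rel_51 : allRange D.relOK 197772 3332 = true := by decide +kernel
theorem c_rel_52 : allRange D.relOK 201104 3547 = true := by decide +kernel
theorem c_rel_53 : allRange D.relOK 204651 3095 = true := by decide +kernel
theorem c_rel_54 : allRange D.relOK 207746 2915 = true := by decide +kernel
theorem c_rel_55 : allRange D.relOK 210661 2796 = true := by decide +kernel
theorem c_rel_56 : allRange D.relOK 213457 2203 = true := by decide +kernel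
theorem c_rel_57 : allRange D.relOK 215660 1174 = true := by decide +kernel
theorem c_rel_58 : allRange D.relOK 216834 637 = true := by decide +kernel
theorem c_rel_59 : allRange D.relOK 217471 2752 = true := by decide +kernel
theorem c_rel_60 : allRange D.relOK 220223 4192 = true := by decide +kernel
theorem c_rel_61 : allRange D.relOK 224415 4125 = true := by decide +kernel
theorem c_rel_62 : allRange D.relOK 228540 4125 = true := by decide +kernel
theorem c_rel_63 : allRange D.relOK 232665 4053 = true := by decide +kernel
theorem c_rel_64 : allRange D.relOK 236718 4069 = true := by decide +kernel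
theorem c_rel_65 : allRange D.relOK 240787 3920 = true := by decide +kernel
theorem c_rel_66 : allRange D.relOK 244707 3995 = true := by decide +kernel
theorem c_rel_67 : allRange D.relOK 248702 678 = true := by decide +kernel
theorem c_fin_0 : allGrid (T.finOK D) 0 285 42 = true := by decide +kernel
theorem c_fin_1 : allGrid (T.finOK D) 285 285 42 = true := by decide +kernel
theorem c_fin_2 : allGrid (T.finOK D) 570 285 42 = true := by decide +kernel
theorem c_fin_3 : allGrid (T.finOK D) 855 285 42 = true := by decide +kernel
theorem c_fin_4 : allGrid (T.finOK D) 1140 285 42 = true := by decide +kernel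
theorem c_fin_5 : allGrid (T.finOK D) 1425 285 42 = true := by decide +kernel
theorem c_fin_6 : allGrid (T.finOK D) 1710 285 42 = true := by decide +kernel
theorem c_fin_7 : allGrid (T.finOK D) 1995 285 42 = true := by decide +kernel
theorem c_fin_8 : allGrid (T.finOK D) 2280 285 42 = true := by decide +kernel
theorem c_fin_9 : allGrid (T.finOK D) 2565 123 42 = true := by decide +kernel
theorem c_perm_0 : allGrid (T.permOK1 D) 0 714 42 = true := by decide +kernel
theorem c_perm_1 : allGrid (T.permOK1 D) 714 714 42 = true := by decide +kernel
theorem c_perm_2 : allGrid (T.permOK1 D) 1428 714 42 = true := by decide +kernel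
theorem c_perm_3 : allGrid (T.permOK1 D) 2142 546 42 = true := by decide +kernel
theorem c_act0_0 : allRange (fun i => Nat.beq (actR0 i) i) 0 2688 = true := by decide +kernel
theorem c_act1_0 : allRange (fun i => Nat.beq (actR1 i) i) 0 2688 = true := by decide +kernel
theorem c_act2_0 : allRange (fun i => Nat.beq (actR2 i) i) 0 2688 = true := by decide +kernel
theorem c_act3_0 : allRange (fun i => Nat.beq (actR3 i) i) 0 2688 = true := by decide +kernel
theorem c_act4_0 : allRange (fun i => Nat.beq (actR4 i) i) 0 2688 = true := by decide +kernel

end Cfsg.Agent.Lib.Helper4.TCD.SC4U62p2A
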