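import Cfsg.Agent.Lib.Helper4.TCD_SC9U43p3A_Acc

namespace Cfsg.Agent.Lib.Helper4.TCD.SC9U43p3A

open Cfsg.Agent.Lib.Helper4.TC

set_option maxRecDepth 100000
set_option Elab.async false

theorem c_zero : D.zeroOK = true := by decide +kernel
theorem c_base : allBelow D.baseOK 4 = true := by decide +kernel
theorem c_let : allBelow D.letOK 40 = true := by decide +kernel
theorem c_cls0 : T.cls 0 = 0 := by decide +kernel
theorem c_name0 : T.nameOf 0 = 0 := by decide +kernel
theorem c_tab : D.relTabOK 0 (baseRels 40 PSC9U43p3.invR PSC9U43p3.P.real subs ++ (baseRels 40 PSC9U43p3.invR PSC9U43p3.P.real subs).map (invWord D.inv)) = true := by decide +kernel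
theorem c_real : PSC9U43p3.P.real = realLit := by decide +kernel
theorem c_subfix : subs.all (fun u => Nat.beq (Tab.act T D u 0) 0) = true := by decide +kernel
theorem c_subs : subs.all (fun u => u.all (fun x => Nat.ble (Nat.succ x) 40)) = true := by decide +kernel
theorem c_names_0 : allRange D.nameOK 1 15212 = true := by decide +kernel
theorem c_cls_0 : allRange (T.clsOK D) 1 15000 = true := by decide +kernel
theorem c_cls_1 : allRange (T.clsOK D) 15001 212 = true := by decide +kernel
theorem c_rep_0 : allRange (T.repOK D) 0 4860 = true := by decide +kernel
theorem c_rel_0 : allRange D.relOK 15217 3415 = true := by decide +kernel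
theorem c_rel_1 : allRange D.relOK 18632 3560 = true := by decide +kernel
theorem c_rel_2 : allRange D.relOK 22192 3580 = true := by decide +kernel
theorem c_rel_3 : allRange D.relOK 25772 3438 = true := by decide +kernel
theorem c_rel_4 : allRange D.relOK 29210 3508 = true := by decide +kernel
theorem c_rel_5 : allRange D.relOK 32718 3574 = true := by decide +kernel
theorem c_rel_6 : allRange D.relOK 36292 3323 = true := by decide +kernel
theorem c_rel_7 : allRange D.relOK 39615 3463 = true := by decide +kernel
theorem c_rel_8 : allRange D.relOK 43078 3424 = true := by decide +kernel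
theorem c_rel_9 : allRange D.relOK 46502 3451 = true := by decide +kernel
theorem c_rel_10 : allRange D.relOK 49953 3318 = true := by decide +kernel
theorem c_rel_11 : allRange D.relOK 53271 3367 = true := by decide +kernel
theorem c_rel_12 : allRange D.relOK 56638 3284 = true := by decide +kernel
theorem c_rel_13 : allRange D.relOK 59922 3267 = true := by decide +kernel
theorem c_rel_14 : allRange D.relOK 63189 3478 = true := by decide +kernel
theorem c_rel_15 : allRange D.relOK 66667 3524 = true := by decide +kernel
theorem c_rel_16 : allRange D.relOK 70191 3304 = true := by decide +kernel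
theorem c_rel_17 : allRange D.relOK 73495 3123 = true := by decide +kernel
theorem c_rel_18 : allRange D.relOK 76618 3184 = true := by decide +kernel
theorem c_rel_19 : allRange D.relOK 79802 3252 = true := by decide +kernel
theorem c_rel_20 : allRange D.relOK 83054 3217 = true := by decide +kernel
theorem c_rel_21 : allRange D.relOK 86271 3432 = true := by decide +kernel
theorem c_rel_22 : allRange D.relOK 89703 3392 = true := by decide +kernel
theorem c_rel_23 : allRange D.relOK 93095 3414 = true := by decide +kernel
theorem c_rel_24 : allRange D.relOK 96509 3189 = true := by decide +kernel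
theorem c_rel_25 : allRange D.relOK 99698 3455 = true := by decide +kernel
theorem c_rel_26 : allRange D.relOK 103153 3720 = true := by decide +kernel
theorem c_rel_27 : allRange D.relOK 106873 3110 = true := by decide +kernel
theorem c_rel_28 : allRange D.relOK 109983 3270 = true := by decide +kernel
theorem c_rel_29 : allRange D.relOK 113253 3102 = true := by decide +kernel
theorem c_rel_30 : allRange D.relOK 116355 3254 = true := by decide +kernel
theorem c_rel_31 : allRange D.relOK 119609 3339 = true := by decide +kernel
theorem c_rel_32 : allRange D.relOK 122948 3132 = true := by decide +kernel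
theorem c_rel_33 : allRange D.relOK 126080 2222 = true := by decide +kernel
theorem c_rel_34 : allRange D.relOK 128302 1810 = true := by decide +kernel
theorem c_rel_35 : allRange D.relOK 130112 2497 = true := by decide +kernel
theorem c_rel_36 : allRange D.relOK 132609 2277 = true := by decide +kernel
theorem c_rel_37 : allRange D.relOK 134886 1475 = true := by decide +kernel
theorem c_rel_38 : allRange D.relOK 136361 1701 = true := by decide +kernel
theorem c_rel_39 : allRange D.relOK 138062 1793 = true := by decide +kernel
theorem c_rel_40 : allRange D.relOK 139855 1975 = true := by decide +kernel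
theorem c_rel_41 : allRange D.relOK 141830 2355 = true := by decide +kernel
theorem c_rel_42 : allRange D.relOK 144185 2530 = true := by decide +kernel
theorem c_rel_43 : allRange D.relOK 146715 2411 = true := by decide +kernel
theorem c_rel_44 : allRange D.relOK 149126 2291 = true := by decide +kernel
theorem c_rel_45 : allRange D.relOK 151417 2515 = true := by decide +kernel
theorem c_rel_46 : allRange D.relOK 153932 2440 = true := by decide +kernel
theorem c_rel_47 : allRange D.relOK 156372 2338 = true := by decide +kernel
theorem c_rel_48 : allRange D.relOK 158710 2354 = true := by decide +kernel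
theorem c_rel_49 : allRange D.relOK 161064 2314 = true := by decide +kernel
theorem c_rel_50 : allRange D.relOK 163378 2205 = true := by decide +kernel
theorem c_rel_51 : allRange D.relOK 165583 4127 = true := by decide +kernel
theorem c_rel_52 : allRange D.relOK 169710 4284 = true := by decide +kernel
theorem c_rel_53 : allRange D.relOK 173994 4229 = true := by decide +kernel
theorem c_rel_54 : allRange D.relOK 178223 4196 = true := by decide +kernel
theorem c_rel_55 : allRange D.relOK 182419 4164 = true := by decide +kernel
theorem c_rel_56 : allRange D.relOK 186583 4237 = true := by decide +kernel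
theorem c_rel_57 : allRange D.relOK 190820 294 = true := by decide +kernel
theorem c_fin_0 : allGrid (T.finOK D) 0 300 40 = true := by decide +kernel
theorem c_fin_1 : allGrid (T.finOK D) 300 300 40 = true := by decide +kernel
theorem c_fin_2 : allGrid (T.finOK D) 600 300 40 = true := by decide +kernel
theorem c_fin_3 : allGrid (T.finOK D) 900 300 40 = true := by decide +kernel
theorem c_fin_4 : allGrid (T.finOK D) 1200 300 40 = true := by decide +kernel
theorem c_fin_5 : allGrid (T.finOK D) 1500 300 40 = true := by decide +kernel
theorem c_fin_6 : allGrid (T.finOK D) 1800 300 40 = true := by decide +kernel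
theorem c_fin_7 : allGrid (T.finOK D) 2100 300 40 = true := by decide +kernel
theorem c_fin_8 : allGrid (T.finOK D) 2400 300 40 = true := by decide +kernel
theorem c_fin_9 : allGrid (T.finOK D) 2700 300 40 = true := by decide +kernel
theorem c_fin_10 : allGrid (T.finOK D) 3000 300 40 = true := by decide +kernel
theorem c_fin_11 : allGrid (T.finOK D) 3300 300 40 = true := by decide +kernel
theorem c_fin_12 : allGrid (T.finOK D) 3600 300 40 = true := by decide +kernel
theorem c_fin_13 : allGrid (T.finOK D) 3900 300 40 = true := by decide +kernel
theorem c_fin_14 : allGrid (T.finOK D) 4200 300 40 = true := by decide +kernel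
theorem c_fin_15 : allGrid (T.finOK D) 4500 300 40 = true := by decide +kernel
theorem c_fin_16 : allGrid (T.finOK D) 4800 60 40 = true := by decide +kernel
theorem c_perm_0 : allGrid (T.permOK1 D) 0 750 40 = true := by decide +kernel
theorem c_perm_1 : allGrid (T.permOK1 D) 750 750 40 = true := by decide +kernel
theorem c_perm_2 : allGrid (T.permOK1 D) 1500 750 40 = true := by decide +kernel

end Cfsg.Agent.Lib.Helper4.TCD.SC9U43p3A
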