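import Cfsg.Agent.Lib.Helper4.TC7
import Cfsg.Agent.Lib.Helper4.TCP_SCo3pp2
import Cfsg.Agent.Lib.Helper4.TCD_SCo3pp2A_D0
import Cfsg.Agent.Lib.Helper4.TCD_SCo3pp2A_D1
import Cfsg.Agent.Lib.Helper4.TCD_SCo3pp2A_D2
import Cfsg.Agent.Lib.Helper4.TCD_SCo3pp2A_D3
import Cfsg.Agent.Lib.Helper4.TCD_SCo3pp2A_D4
import Cfsg.Agent.Lib.Helper4.TCD_SCo3pp2A_D5
import Cfsg.Agent.Lib.Helper4.TCD_SCo3pp2A_D6
import Cfsg.Agent.Lib.Helper4.TCD_SCo3pp2A_D7
import Cfsg.Agent.Lib.Helper4.TCD_SCo3pp2A_D8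
import Cfsg.Agent.Lib.Helper4.TCD_SCo3pp2A_D9
import Cfsg.Agent.Lib.Helper4.TCD_SCo3pp2A_D10
import Cfsg.Agent.Lib.Helper4.TCD_SCo3pp2A_D11
import Cfsg.Agent.Lib.Helper4.TCD_SCo3pp2A_D12
import Cfsg.Agent.Lib.Helper4.TCD_SCo3pp2A_D13
import Cfsg.Agent.Lib.Helper4.TCD_SCo3pp2A_D14
import Cfsg.Agent.Lib.Helper4.TCD_SCo3pp2A_D15
import Cfsg.Agent.Lib.Helper4.TCD_SCo3pp2A_D16
import Cfsg.Agent.Lib.Helper4.TCD_SCo3pp2A_D17
import Cfsg.Agent.Lib.Helper4.TCD_SCo3pp2A_D18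
import Cfsg.Agent.Lib.Helper4.TCD_SCo3pp2A_D19
import Cfsg.Agent.Lib.Helper4.TCD_SCo3pp2A_D20
import Cfsg.Agent.Lib.Helper4.TCD_SCo3pp2A_D21
import Cfsg.Agent.Lib.Helper4.TCD_SCo3pp2A_D22
import Cfsg.Agent.Lib.Helper4.TCD_SCo3pp2A_D23
import Cfsg.Agent.Lib.Helper4.TCD_SCo3pp2A_D24
import Cfsg.Agent.Lib.Helper4.TCD_SCo3pp2A_D25
import Cfsg.Agent.Lib.Helper4.TCD_SCo3pp2A_D26
import Cfsg.Agent.Lib.Helper4.TCD_SCo3pp2A_D27

namespace Cfsg.Agent.Lib.Helper4.TCD.SCo3pp2A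

open Cfsg.Agent.Lib.Helper4.TC

set_option maxRecDepth 100000

noncomputable def Atab_s_0_2 (c : Nat) : Nat := @Bool.rec (fun _ => Nat) (Atab_0) (Atab_1) (Nat.ble 1 c)
noncomputable def Atab_s_3_5 (c : Nat) : Nat := @Bool.rec (fun _ => Nat) (Atab_3) (Atab_4) (Nat.ble 4 c)
noncomputable def Atab_s_2_5 (c : Nat) : Nat := @Bool.rec (fun _ => Nat) (Atab_2) (Atab_s_3_5 c) (Nat.ble 3 c)
noncomputable def Atab_s_0_5 (c : Nat) : Nat := @Bool.rec (fun _ => Nat) (Atab_s_0_2 c) (Atab_s_2_5 c) (Nat.ble 2 c)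
noncomputable def Atab_s_5_7 (c : Nat) : Nat := @Bool.rec (fun _ => Nat) (Atab_5) (Atab_6) (Nat.ble 6 c)
noncomputable def Atab_s_8_10 (c : Nat) : Nat := @Bool.rec (fun _ => Nat) (Atab_8) (Atab_9) (Nat.ble 9 c)
noncomputable def Atab_s_7_10 (c : Nat) : Nat := @Bool.rec (fun _ => Nat) (Atab_7) (Atab_s_8_10 c) (Nat.ble 8 c)
noncomputable def Atab_s_5_10 (c : Nat) : Nat := @Bool.rec (fun _ => Nat) (Atab_s_5_7 c) (Atab_s_7_10 c) (Nat.ble 7 c)
noncomputable def Atab_s_0_10 (c : Nat) : Nat := @Bool.rec (fun _ => Nat) (Atab_s_0_5 c) (Atab_s_5_10 c) (Nat.ble 5 c)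
noncomputable def Atab_s_10_12 (c : Nat) : Nat := @Bool.rec (fun _ => Nat) (Atab_10) (Atab_11) (Nat.ble 11 c)
noncomputable def Atab_s_13_15 (c : Nat) : Nat := @Bool.rec (fun _ => Nat) (Atab_13) (Atab_14) (Nat.ble 14 c)
noncomputable def Atab_s_12_15 (c : Nat) : Nat := @Bool.rec (fun _ => Nat) (Atab_12) (Atab_s_13_15 c) (Nat.ble 13 c)
noncomputable def Atab_s_10_15 (c : Nat) : Nat := @Bool.rec (fun _ => Nat) (Atab_s_10_12 c) (Atab_s_12_15 c) (Nat.ble 12 c)
noncomputable def Atab_s_15_17 (c : Nat) : Nat := @Bool.rec (fun _ => Nat) (Atab_15) (Atab_16) (Nat.ble 16 c)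
noncomputable def Atab_s_18_20 (c : Nat) : Nat := @Bool.rec (fun _ => Nat) (Atab_18) (Atab_19) (Nat.ble 19 c)
noncomputable def Atab_s_17_20 (c : Nat) : Nat := @Bool.rec (fun _ => Nat) (Atab_17) (Atab_s_18_20 c) (Nat.ble 18 c)
noncomputable def Atab_s_15_20 (c : Nat) : Nat := @Bool.rec (fun _ => Nat) (Atab_s_15_17 c) (Atab_s_17_20 c) (Nat.ble 17 c)
noncomputable def Atab_s_10_20 (c : Nat) : Nat := @Bool.rec (fun _ => Nat) (Atab_s_10_15 c) (Atab_s_15_20 c) (Nat.ble 15 c)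
noncomputable def Atab_s_0_20 (c : Nat) : Nat := @Bool.rec (fun _ => Nat) (Atab_s_0_10 c) (Atab_s_10_20 c) (Nat.ble 10 c)
noncomputable def Atab_s_20_22 (c : Nat) : Nat := @Bool.rec (fun _ => Nat) (Atab_20) (Atab_21) (Nat.ble 21 c)
noncomputable def Atab_s_23_25 (c : Nat) : Nat := @Bool.rec (fun _ => Nat) (Atab_23) (Atab_24) (Nat.ble 24 c)
noncomputable def Atab_s_22_25 (c : Nat) : Nat := @Bool.rec (fun _ => Nat) (Atab_22) (Atab_s_23_25 c) (Nat.ble 23 c)
noncomputable def Atab_s_20_25 (c : Nat) : Nat := @Bool.rec (fun _ => Nat) (Atab_s_20_22 c) (Atab_s_22_25 c) (Nat.ble 22 c)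
noncomputable def Atab_s_25_27 (c : Nat) : Nat := @Bool.rec (fun _ => Nat) (Atab_25) (Atab_26) (Nat.ble 26 c)
noncomputable def Atab_s_28_30 (c : Nat) : Nat := @Bool.rec (fun _ => Nat) (Atab_28) (Atab_29) (Nat.ble 29 c)
noncomputable def Atab_s_27_30 (c : Nat) : Nat := @Bool.rec (fun _ => Nat) (Atab_27) (Atab_s_28_30 c) (Nat.ble 28 c)
noncomputable def Atab_s_25_30 (c : Nat) : Nat := @Bool.rec (fun _ => Nat) (Atab_s_25_27 c) (Atab_s_27_30 c) (Nat.ble 27 c)
noncomputable def Atab_s_20_30 (c : Nat) : Nat := @Bool.rec (fun _ => Nat) (Atab_s_20_25 c) (Atab_s_25_30 c) (Nat.ble 25 c)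
noncomputable def Atab_s_30_32 (c : Nat) : Nat := @Bool.rec (fun _ => Nat) (Atab_30) (Atab_31) (Nat.ble 31 c)
noncomputable def Atab_s_33_35 (c : Nat) : Nat := @Bool.rec (fun _ => Nat) (Atab_33) (Atab_34) (Nat.ble 34 c)
noncomputable def Atab_s_32_35 (c : Nat) : Nat := @Bool.rec (fun _ => Nat) (Atab_32) (Atab_s_33_35 c) (Nat.ble 33 c)
noncomputable def Atab_s_30_35 (c : Nat) : Nat := @Bool.rec (fun _ => Nat) (Atab_s_30_32 c) (Atab_s_32_35 c) (Nat.ble 32 c)
noncomputable def Atab_s_35_37 (c : Nat) : Nat := @Bool.rec (fun _ => Nat) (Atab_35) (Atab_36) (Nat.ble 36 c)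
noncomputable def Atab_s_38_40 (c : Nat) : Nat := @Bool.rec (fun _ => Nat) (Atab_38) (Atab_39) (Nat.ble 39 c)
noncomputable def Atab_s_37_40 (c : Nat) : Nat := @Bool.rec (fun _ => Nat) (Atab_37) (Atab_s_38_40 c) (Nat.ble 38 c)
noncomputable def Atab_s_35_40 (c : Nat) : Nat := @Bool.rec (fun _ => Nat) (Atab_s_35_37 c) (Atab_s_37_40 c) (Nat.ble 37 c)
noncomputable def Atab_s_30_40 (c : Nat) : Nat := @Bool.rec (fun _ => Nat) (Atab_s_30_35 c) (Atab_s_35_40 c) (Nat.ble 35 c)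
noncomputable def Atab_s_20_40 (c : Nat) : Nat := @Bool.rec (fun _ => Nat) (Atab_s_20_30 c) (Atab_s_30_40 c) (Nat.ble 30 c)
noncomputable def Atab_s_0_40 (c : Nat) : Nat := @Bool.rec (fun _ => Nat) (Atab_s_0_20 c) (Atab_s_20_40 c) (Nat.ble 20 c)
noncomputable def Atab_s_40_42 (c : Nat) : Nat := @Bool.rec (fun _ => Nat) (Atab_40) (Atab_41) (Nat.ble 41 c)
noncomputable def Atab_s_43_45 (c : Nat) : Nat := @Bool.rec (fun _ => Nat) (Atab_43) (Atab_44) (Nat.ble 44 c)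
noncomputable def Atab_s_42_45 (c : Nat) : Nat := @Bool.rec (fun _ => Nat) (Atab_42) (Atab_s_43_45 c) (Nat.ble 43 c)
noncomputable def Atab_s_40_45 (c : Nat) : Nat := @Bool.rec (fun _ => Nat) (Atab_s_40_42 c) (Atab_s_42_45 c) (Nat.ble 42 c)
noncomputable def Atab_s_45_47 (c : Nat) : Nat := @Bool.rec (fun _ => Nat) (Atab_45) (Atab_46) (Nat.ble 46 c)
noncomputable def Atab_s_48_50 (c : Nat) : Nat := @Bool.rec (fun _ => Nat) (Atab_48) (Atab_49) (Nat.ble 49 c)
noncomputable def Atab_s_47_50 (c : Nat) : Nat := @Bool.rec (fun _ => Nat) (Atab_47) (Atab_s_48_50 c) (Nat.ble 48 c)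
noncomputable def Atab_s_45_50 (c : Nat) : Nat := @Bool.rec (fun _ => Nat) (Atab_s_45_47 c) (Atab_s_47_50 c) (Nat.ble 47 c)
noncomputable def Atab_s_40_50 (c : Nat) : Nat := @Bool.rec (fun _ => Nat) (Atab_s_40_45 c) (Atab_s_45_50 c) (Nat.ble 45 c)
noncomputable def Atab_s_50_52 (c : Nat) : Nat := @Bool.rec (fun _ => Nat) (Atab_50) (Atab_51) (Nat.ble 51 c)
noncomputable def Atab_s_53_55 (c : Nat) : Nat := @Bool.rec (fun _ => Nat) (Atab_53) (Atab_54) (Nat.ble 54 c)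
noncomputable def Atab_s_52_55 (c : Nat) : Nat := @Bool.rec (fun _ => Nat) (Atab_52) (Atab_s_53_55 c) (Nat.ble 53 c)
noncomputable def Atab_s_50_55 (c : Nat) : Nat := @Bool.rec (fun _ => Nat) (Atab_s_50_52 c) (Atab_s_52_55 c) (Nat.ble 52 c)
noncomputable def Atab_s_55_57 (c : Nat) : Nat := @Bool.rec (fun _ => Nat) (Atab_55) (Atab_56) (Nat.ble 56 c)
noncomputable def Atab_s_58_60 (c : Nat) : Nat := @Bool.rec (fun _ => Nat) (Atab_58) (Atab_59) (Nat.ble 59 c)
noncomputable def Atab_s_57_60 (c : Nat) : Nat := @Bool.rec (fun _ => Nat) (Atab_57) (Atab_s_58_60 c) (Nat.ble 58 c)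
noncomputable def Atab_s_55_60 (c : Nat) : Nat := @Bool.rec (fun _ => Nat) (Atab_s_55_57 c) (Atab_s_57_60 c) (Nat.ble 57 c)
noncomputable def Atab_s_50_60 (c : Nat) : Nat := @Bool.rec (fun _ => Nat) (Atab_s_50_55 c) (Atab_s_55_60 c) (Nat.ble 55 c)
noncomputable def Atab_s_40_60 (c : Nat) : Nat := @Bool.rec (fun _ => Nat) (Atab_s_40_50 c) (Atab_s_50_60 c) (Nat.ble 50 c)
noncomputable def Atab_s_60_62 (c : Nat) : Nat := @Bool.rec (fun _ => Nat) (Atab_60) (Atab_61) (Nat.ble 61 c)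
noncomputable def Atab_s_63_65 (c : Nat) : Nat := @Bool.rec (fun _ => Nat) (Atab_63) (Atab_64) (Nat.ble 64 c)
noncomputable def Atab_s_62_65 (c : Nat) : Nat := @Bool.rec (fun _ => Nat) (Atab_62) (Atab_s_63_65 c) (Nat.ble 63 c)
noncomputable def Atab_s_60_65 (c : Nat) : Nat := @Bool.rec (fun _ => Nat) (Atab_s_60_62 c) (Atab_s_62_65 c) (Nat.ble 62 c)
noncomputable def Atab_s_65_67 (c : Nat) : Nat := @Bool.rec (fun _ => Nat) (Atab_65) (Atab_66) (Nat.ble 66 c)
noncomputable def Atab_s_68_70 (c : Nat) : Nat := @Bool.rec (fun _ => Nat) (Atab_68) (Atab_69) (Nat.ble 69 c)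
noncomputable def Atab_s_67_70 (c : Nat) : Nat := @Bool.rec (fun _ => Nat) (Atab_67) (Atab_s_68_70 c) (Nat.ble 68 c)
noncomputable def Atab_s_65_70 (c : Nat) : Nat := @Bool.rec (fun _ => Nat) (Atab_s_65_67 c) (Atab_s_67_70 c) (Nat.ble 67 c)
noncomputable def Atab_s_60_70 (c : Nat) : Nat := @Bool.rec (fun _ => Nat) (Atab_s_60_65 c) (Atab_s_65_70 c) (Nat.ble 65 c)
noncomputable def Atab_s_70_72 (c : Nat) : Nat := @Bool.rec (fun _ => Nat) (Atab_70) (Atab_71) (Nat.ble 71 c)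
noncomputable def Atab_s_73_75 (c : Nat) : Nat := @Bool.rec (fun _ => Nat) (Atab_73) (Atab_74) (Nat.ble 74 c)
noncomputable def Atab_s_72_75 (c : Nat) : Nat := @Bool.rec (fun _ => Nat) (Atab_72) (Atab_s_73_75 c) (Nat.ble 73 c)
noncomputable def Atab_s_70_75 (c : Nat) : Nat := @Bool.rec (fun _ => Nat) (Atab_s_70_72 c) (Atab_s_72_75 c) (Nat.ble 72 c)
noncomputable def Atab_s_75_77 (c : Nat) : Nat := @Bool.rec (fun _ => Nat) (Atab_75) (Atab_76) (Nat.ble 76 c)
noncomputable def Atab_s_78_80 (c : Nat) : Nat := @Bool.rec (fun _ => Nat) (Atab_78) (Atab_79) (Nat.ble 79 c)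
noncomputable def Atab_s_77_80 (c : Nat) : Nat := @Bool.rec (fun _ => Nat) (Atab_77) (Atab_s_78_80 c) (Nat.ble 78 c)
noncomputable def Atab_s_75_80 (c : Nat) : Nat := @Bool.rec (fun _ => Nat) (Atab_s_75_77 c) (Atab_s_77_80 c) (Nat.ble 77 c)
noncomputable def Atab_s_70_80 (c : Nat) : Nat := @Bool.rec (fun _ => Nat) (Atab_s_70_75 c) (Atab_s_75_80 c) (Nat.ble 75 c)
noncomputable def Atab_s_60_80 (c : Nat) : Nat := @Bool.rec (fun _ => Nat) (Atab_s_60_70 c) (Atab_s_70_80 c) (Nat.ble 70 c)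
noncomputable def Atab_s_40_80 (c : Nat) : Nat := @Bool.rec (fun _ => Nat) (Atab_s_40_60 c) (Atab_s_60_80 c) (Nat.ble 60 c)
noncomputable def Atab_s_0_80 (c : Nat) : Nat := @Bool.rec (fun _ => Nat) (Atab_s_0_40 c) (Atab_s_40_80 c) (Nat.ble 40 c)
noncomputable def Atab_s_80_82 (c : Nat) : Nat := @Bool.rec (fun _ => Nat) (Atab_80) (Atab_81) (Nat.ble 81 c)
noncomputable def Atab_s_83_85 (c : Nat) : Nat := @Bool.rec (fun _ => Nat) (Atab_83) (Atab_84) (Nat.ble 84 c)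
noncomputable def Atab_s_82_85 (c : Nat) : Nat := @Bool.rec (fun _ => Nat) (Atab_82) (Atab_s_83_85 c) (Nat.ble 83 c)
noncomputable def Atab_s_80_85 (c : Nat) : Nat := @Bool.rec (fun _ => Nat) (Atab_s_80_82 c) (Atab_s_82_85 c) (Nat.ble 82 c)
noncomputable def Atab_s_85_87 (c : Nat) : Nat := @Bool.rec (fun _ => Nat) (Atab_85) (Atab_86) (Nat.ble 86 c)
noncomputable def Atab_s_88_90 (c : Nat) : Nat := @Bool.rec (fun _ => Nat) (Atab_88) (Atab_89) (Nat.ble 89 c)
noncomputable def Atab_s_87_90 (c : Nat) : Nat := @Bool.rec (fun _ => Nat) (Atab_87) (Atab_s_88_90 c) (Nat.ble 88 c)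
noncomputable def Atab_s_85_90 (c : Nat) : Nat := @Bool.rec (fun _ => Nat) (Atab_s_85_87 c) (Atab_s_87_90 c) (Nat.ble 87 c)
noncomputable def Atab_s_80_90 (c : Nat) : Nat := @Bool.rec (fun _ => Nat) (Atab_s_80_85 c) (Atab_s_85_90 c) (Nat.ble 85 c)
noncomputable def Atab_s_90_92 (c : Nat) : Nat := @Bool.rec (fun _ => Nat) (Atab_90) (Atab_91) (Nat.ble 91 c)
noncomputable def Atab_s_93_95 (c : Nat) : Nat := @Bool.rec (fun _ => Nat) (Atab_93) (Atab_94) (Nat.ble 94 c)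
noncomputable def Atab_s_92_95 (c : Nat) : Nat := @Bool.rec (fun _ => Nat) (Atab_92) (Atab_s_93_95 c) (Nat.ble 93 c)
noncomputable def Atab_s_90_95 (c : Nat) : Nat := @Bool.rec (fun _ => Nat) (Atab_s_90_92 c) (Atab_s_92_95 c) (Nat.ble 92 c)
noncomputable def Atab_s_95_97 (c : Nat) : Nat := @Bool.rec (fun _ => Nat) (Atab_95) (Atab_96) (Nat.ble 96 c)
noncomputable def Atab_s_98_100 (c : Nat) : Nat := @Bool.rec (fun _ => Nat) (Atab_98) (Atab_99) (Nat.ble 99 c)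
noncomputable def Atab_s_97_100 (c : Nat) : Nat := @Bool.rec (fun _ => Nat) (Atab_97) (Atab_s_98_100 c) (Nat.ble 98 c)
noncomputable def Atab_s_95_100 (c : Nat) : Nat := @Bool.rec (fun _ => Nat) (Atab_s_95_97 c) (Atab_s_97_100 c) (Nat.ble 97 c)
noncomputable def Atab_s_90_100 (c : Nat) : Nat := @Bool.rec (fun _ => Nat) (Atab_s_90_95 c) (Atab_s_95_100 c) (Nat.ble 95 c)
noncomputable def Atab_s_80_100 (c : Nat) : Nat := @Bool.rec (fun _ => Nat) (Atab_s_80_90 c) (Atab_s_90_100 c) (Nat.ble 90 c)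
noncomputable def Atab_s_100_102 (c : Nat) : Nat := @Bool.rec (fun _ => Nat) (Atab_100) (Atab_101) (Nat.ble 101 c)
noncomputable def Atab_s_103_105 (c : Nat) : Nat := @Bool.rec (fun _ => Nat) (Atab_103) (Atab_104) (Nat.ble 104 c)
noncomputable def Atab_s_102_105 (c : Nat) : Nat := @Bool.rec (fun _ => Nat) (Atab_102) (Atab_s_103_105 c) (Nat.ble 103 c)
noncomputable def Atab_s_100_105 (c : Nat) : Nat := @Bool.rec (fun _ => Nat) (Atab_s_100_102 c) (Atab_s_102_105 c) (Nat.ble 102 c)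
noncomputable def Atab_s_105_107 (c : Nat) : Nat := @Bool.rec (fun _ => Nat) (Atab_105) (Atab_106) (Nat.ble 106 c)
noncomputable def Atab_s_108_110 (c : Nat) : Nat := @Bool.rec (fun _ => Nat) (Atab_108) (Atab_109) (Nat.ble 109 c)
noncomputable def Atab_s_107_110 (c : Nat) : Nat := @Bool.rec (fun _ => Nat) (Atab_107) (Atab_s_108_110 c) (Nat.ble 108 c)
noncomputable def Atab_s_105_110 (c : Nat) : Nat := @Bool.rec (fun _ => Nat) (Atab_s_105_107 c) (Atab_s_107_110 c) (Nat.ble 107 c)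
noncomputable def Atab_s_100_110 (c : Nat) : Nat := @Bool.rec (fun _ => Nat) (Atab_s_100_105 c) (Atab_s_105_110 c) (Nat.ble 105 c)
noncomputable def Atab_s_110_112 (c : Nat) : Nat := @Bool.rec (fun _ => Nat) (Atab_110) (Atab_111) (Nat.ble 111 c)
noncomputable def Atab_s_113_115 (c : Nat) : Nat := @Bool.rec (fun _ => Nat) (Atab_113) (Atab_114) (Nat.ble 114 c)
noncomputable def Atab_s_112_115 (c : Nat) : Nat := @Bool.rec (fun _ => Nat) (Atab_112) (Atab_s_113_115 c) (Nat.ble 113 c)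
noncomputable def Atab_s_110_115 (c : Nat) : Nat := @Bool.rec (fun _ => Nat) (Atab_s_110_112 c) (Atab_s_112_115 c) (Nat.ble 112 c)
noncomputable def Atab_s_115_117 (c : Nat) : Nat := @Bool.rec (fun _ => Nat) (Atab_115) (Atab_116) (Nat.ble 116 c)
noncomputable def Atab_s_118_120 (c : Nat) : Nat := @Bool.rec (fun _ => Nat) (Atab_118) (Atab_119) (Nat.ble 119 c)
noncomputable def Atab_s_117_120 (c : Nat) : Nat := @Bool.rec (fun _ => Nat) (Atab_117) (Atab_s_118_120 c) (Nat.ble 118 c)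
noncomputable def Atab_s_115_120 (c : Nat) : Nat := @Bool.rec (fun _ => Nat) (Atab_s_115_117 c) (Atab_s_117_120 c) (Nat.ble 117 c)
noncomputable def Atab_s_110_120 (c : Nat) : Nat := @Bool.rec (fun _ => Nat) (Atab_s_110_115 c) (Atab_s_115_120 c) (Nat.ble 115 c)
noncomputable def Atab_s_100_120 (c : Nat) : Nat := @Bool.rec (fun _ => Nat) (Atab_s_100_110 c) (Atab_s_110_120 c) (Nat.ble 110 c)
noncomputable def Atab_s_80_120 (c : Nat) : Nat := @Bool.rec (fun _ => Nat) (Atab_s_80_100 c) (Atab_s_100_120 c) (Nat.ble 100 c)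
noncomputable def Atab_s_120_122 (c : Nat) : Nat := @Bool.rec (fun _ => Nat) (Atab_120) (Atab_121) (Nat.ble 121 c)
noncomputable def Atab_s_123_125 (c : Nat) : Nat := @Bool.rec (fun _ => Nat) (Atab_123) (Atab_124) (Nat.ble 124 c)
noncomputable def Atab_s_122_125 (c : Nat) : Nat := @Bool.rec (fun _ => Nat) (Atab_122) (Atab_s_123_125 c) (Nat.ble 123 c)
noncomputable def Atab_s_120_125 (c : Nat) : Nat := @Bool.rec (fun _ => Nat) (Atab_s_120_122 c) (Atab_s_122_125 c) (Nat.ble 122 c)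
noncomputable def Atab_s_125_127 (c : Nat) : Nat := @Bool.rec (fun _ => Nat) (Atab_125) (Atab_126) (Nat.ble 126 c)
noncomputable def Atab_s_128_130 (c : Nat) : Nat := @Bool.rec (fun _ => Nat) (Atab_128) (Atab_129) (Nat.ble 129 c)
noncomputable def Atab_s_127_130 (c : Nat) : Nat := @Bool.rec (fun _ => Nat) (Atab_127) (Atab_s_128_130 c) (Nat.ble 128 c)
noncomputable def Atab_s_125_130 (c : Nat) : Nat := @Bool.rec (fun _ => Nat) (Atab_s_125_127 c) (Atab_s_127_130 c) (Nat.ble 127 c)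
noncomputable def Atab_s_120_130 (c : Nat) : Nat := @Bool.rec (fun _ => Nat) (Atab_s_120_125 c) (Atab_s_125_130 c) (Nat.ble 125 c)
noncomputable def Atab_s_130_132 (c : Nat) : Nat := @Bool.rec (fun _ => Nat) (Atab_130) (Atab_131) (Nat.ble 131 c)
noncomputable def Atab_s_133_135 (c : Nat) : Nat := @Bool.rec (fun _ => Nat) (Atab_133) (Atab_134) (Nat.ble 134 c)
noncomputable def Atab_s_132_135 (c : Nat) : Nat := @Bool.rec (fun _ => Nat) (Atab_132) (Atab_s_133_135 c) (Nat.ble 133 c)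
noncomputable def Atab_s_130_135 (c : Nat) : Nat := @Bool.rec (fun _ => Nat) (Atab_s_130_132 c) (Atab_s_132_135 c) (Nat.ble 132 c)
noncomputable def Atab_s_135_137 (c : Nat) : Nat := @Bool.rec (fun _ => Nat) (Atab_135) (Atab_136) (Nat.ble 136 c)
noncomputable def Atab_s_138_140 (c : Nat) : Nat := @Bool.rec (fun _ => Nat) (Atab_138) (Atab_139) (Nat.ble 139 c)
noncomputable def Atab_s_137_140 (c : Nat) : Nat := @Bool.rec (fun _ => Nat) (Atab_137) (Atab_s_138_140 c) (Nat.ble 138 c)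
noncomputable def Atab_s_135_140 (c : Nat) : Nat := @Bool.rec (fun _ => Nat) (Atab_s_135_137 c) (Atab_s_137_140 c) (Nat.ble 137 c)
noncomputable def Atab_s_130_140 (c : Nat) : Nat := @Bool.rec (fun _ => Nat) (Atab_s_130_135 c) (Atab_s_135_140 c) (Nat.ble 135 c)
noncomputable def Atab_s_120_140 (c : Nat) : Nat := @Bool.rec (fun _ => Nat) (Atab_s_120_130 c) (Atab_s_130_140 c) (Nat.ble 130 c)
noncomputable def Atab_s_140_142 (c : Nat) : Nat := @Bool.rec (fun _ => Nat) (Atab_140) (Atab_141) (Nat.ble 141 c)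
noncomputable def Atab_s_143_145 (c : Nat) : Nat := @Bool.rec (fun _ => Nat) (Atab_143) (Atab_144) (Nat.ble 144 c)
noncomputable def Atab_s_142_145 (c : Nat) : Nat := @Bool.rec (fun _ => Nat) (Atab_142) (Atab_s_143_145 c) (Nat.ble 143 c)
noncomputable def Atab_s_140_145 (c : Nat) : Nat := @Bool.rec (fun _ => Nat) (Atab_s_140_142 c) (Atab_s_142_145 c) (Nat.ble 142 c)
noncomputable def Atab_s_145_147 (c : Nat) : Nat := @Bool.rec (fun _ => Nat) (Atab_145) (Atab_146) (Nat.ble 146 c)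
noncomputable def Atab_s_148_150 (c : Nat) : Nat := @Bool.rec (fun _ => Nat) (Atab_148) (Atab_149) (Nat.ble 149 c)
noncomputable def Atab_s_147_150 (c : Nat) : Nat := @Bool.rec (fun _ => Nat) (Atab_147) (Atab_s_148_150 c) (Nat.ble 148 c)
noncomputable def Atab_s_145_150 (c : Nat) : Nat := @Bool.rec (fun _ => Nat) (Atab_s_145_147 c) (Atab_s_147_150 c) (Nat.ble 147 c)
noncomputable def Atab_s_140_150 (c : Nat) : Nat := @Bool.rec (fun _ => Nat) (Atab_s_140_145 c) (Atab_s_145_150 c) (Nat.ble 145 c)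
noncomputable def Atab_s_150_152 (c : Nat) : Nat := @Bool.rec (fun _ => Nat) (Atab_150) (Atab_151) (Nat.ble 151 c)
noncomputable def Atab_s_153_155 (c : Nat) : Nat := @Bool.rec (fun _ => Nat) (Atab_153) (Atab_154) (Nat.ble 154 c)
noncomputable def Atab_s_152_155 (c : Nat) : Nat := @Bool.rec (fun _ => Nat) (Atab_152) (Atab_s_153_155 c) (Nat.ble 153 c)
noncomputable def Atab_s_150_155 (c : Nat) : Nat := @Bool.rec (fun _ => Nat) (Atab_s_150_152 c) (Atab_s_152_155 c) (Nat.ble 152 c)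
noncomputable def Atab_s_155_157 (c : Nat) : Nat := @Bool.rec (fun _ => Nat) (Atab_155) (Atab_156) (Nat.ble 156 c)
noncomputable def Atab_s_158_160 (c : Nat) : Nat := @Bool.rec (fun _ => Nat) (Atab_158) (Atab_159) (Nat.ble 159 c)
noncomputable def Atab_s_157_160 (c : Nat) : Nat := @Bool.rec (fun _ => Nat) (Atab_157) (Atab_s_158_160 c) (Nat.ble 158 c)
noncomputable def Atab_s_155_160 (c : Nat) : Nat := @Bool.rec (fun _ => Nat) (Atab_s_155_157 c) (Atab_s_157_160 c) (Nat.ble 157 c)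
noncomputable def Atab_s_150_160 (c : Nat) : Nat := @Bool.rec (fun _ => Nat) (Atab_s_150_155 c) (Atab_s_155_160 c) (Nat.ble 155 c)
noncomputable def Atab_s_140_160 (c : Nat) : Nat := @Bool.rec (fun _ => Nat) (Atab_s_140_150 c) (Atab_s_150_160 c) (Nat.ble 150 c)
noncomputable def Atab_s_120_160 (c : Nat) : Nat := @Bool.rec (fun _ => Nat) (Atab_s_120_140 c) (Atab_s_140_160 c) (Nat.ble 140 c)
noncomputable def Atab_s_80_160 (c : Nat) : Nat := @Bool.rec (fun _ => Nat) (Atab_s_80_120 c) (Atab_s_120_160 c) (Nat.ble 120 c)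
noncomputable def Atab_s_0_160 (c : Nat) : Nat := @Bool.rec (fun _ => Nat) (Atab_s_0_80 c) (Atab_s_80_160 c) (Nat.ble 80 c)
noncomputable def Atab_s_160_162 (c : Nat) : Nat := @Bool.rec (fun _ => Nat) (Atab_160) (Atab_161) (Nat.ble 161 c)
noncomputable def Atab_s_163_165 (c : Nat) : Nat := @Bool.rec (fun _ => Nat) (Atab_163) (Atab_164) (Nat.ble 164 c)
noncomputable def Atab_s_162_165 (c : Nat) : Nat := @Bool.rec (fun _ => Nat) (Atab_162) (Atab_s_163_165 c) (Nat.ble 163 c)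
noncomputable def Atab_s_160_165 (c : Nat) : Nat := @Bool.rec (fun _ => Nat) (Atab_s_160_162 c) (Atab_s_162_165 c) (Nat.ble 162 c)
noncomputable def Atab_s_165_167 (c : Nat) : Nat := @Bool.rec (fun _ => Nat) (Atab_165) (Atab_166) (Nat.ble 166 c)
noncomputable def Atab_s_168_170 (c : Nat) : Nat := @Bool.rec (fun _ => Nat) (Atab_168) (Atab_169) (Nat.ble 169 c)
noncomputable def Atab_s_167_170 (c : Nat) : Nat := @Bool.rec (fun _ => Nat) (Atab_167) (Atab_s_168_170 c) (Nat.ble 168 c)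
noncomputable def Atab_s_165_170 (c : Nat) : Nat := @Bool.rec (fun _ => Nat) (Atab_s_165_167 c) (Atab_s_167_170 c) (Nat.ble 167 c)
noncomputable def Atab_s_160_170 (c : Nat) : Nat := @Bool.rec (fun _ => Nat) (Atab_s_160_165 c) (Atab_s_165_170 c) (Nat.ble 165 c)
noncomputable def Atab_s_170_172 (c : Nat) : Nat := @Bool.rec (fun _ => Nat) (Atab_170) (Atab_171) (Nat.ble 171 c)
noncomputable def Atab_s_173_175 (c : Nat) : Nat := @Bool.rec (fun _ => Nat) (Atab_173) (Atab_174) (Nat.ble 174 c)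
noncomputable def Atab_s_172_175 (c : Nat) : Nat := @Bool.rec (fun _ => Nat) (Atab_172) (Atab_s_173_175 c) (Nat.ble 173 c)
noncomputable def Atab_s_170_175 (c : Nat) : Nat := @Bool.rec (fun _ => Nat) (Atab_s_170_172 c) (Atab_s_172_175 c) (Nat.ble 172 c)
noncomputable def Atab_s_175_177 (c : Nat) : Nat := @Bool.rec (fun _ => Nat) (Atab_175) (Atab_176) (Nat.ble 176 c)
noncomputable def Atab_s_178_180 (c : Nat) : Nat := @Bool.rec (fun _ => Nat) (Atab_178) (Atab_179) (Nat.ble 179 c)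
noncomputable def Atab_s_177_180 (c : Nat) : Nat := @Bool.rec (fun _ => Nat) (Atab_177) (Atab_s_178_180 c) (Nat.ble 178 c)
noncomputable def Atab_s_175_180 (c : Nat) : Nat := @Bool.rec (fun _ => Nat) (Atab_s_175_177 c) (Atab_s_177_180 c) (Nat.ble 177 c)
noncomputable def Atab_s_170_180 (c : Nat) : Nat := @Bool.rec (fun _ => Nat) (Atab_s_170_175 c) (Atab_s_175_180 c) (Nat.ble 175 c)
noncomputable def Atab_s_160_180 (c : Nat) : Nat := @Bool.rec (fun _ => Nat) (Atab_s_160_170 c) (Atab_s_170_180 c) (Nat.ble 170 c)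
noncomputable def Atab_s_180_182 (c : Nat) : Nat := @Bool.rec (fun _ => Nat) (Atab_180) (Atab_181) (Nat.ble 181 c)
noncomputable def Atab_s_183_185 (c : Nat) : Nat := @Bool.rec (fun _ => Nat) (Atab_183) (Atab_184) (Nat.ble 184 c)
noncomputable def Atab_s_182_185 (c : Nat) : Nat := @Bool.rec (fun _ => Nat) (Atab_182) (Atab_s_183_185 c) (Nat.ble 183 c)
noncomputable def Atab_s_180_185 (c : Nat) : Nat := @Bool.rec (fun _ => Nat) (Atab_s_180_182 c) (Atab_s_182_185 c) (Nat.ble 182 c)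
noncomputable def Atab_s_185_187 (c : Nat) : Nat := @Bool.rec (fun _ => Nat) (Atab_185) (Atab_186) (Nat.ble 186 c)
noncomputable def Atab_s_188_190 (c : Nat) : Nat := @Bool.rec (fun _ => Nat) (Atab_188) (Atab_189) (Nat.ble 189 c)
noncomputable def Atab_s_187_190 (c : Nat) : Nat := @Bool.rec (fun _ => Nat) (Atab_187) (Atab_s_188_190 c) (Nat.ble 188 c)
noncomputable def Atab_s_185_190 (c : Nat) : Nat := @Bool.rec (fun _ => Nat) (Atab_s_185_187 c) (Atab_s_187_190 c) (Nat.ble 187 c)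
noncomputable def Atab_s_180_190 (c : Nat) : Nat := @Bool.rec (fun _ => Nat) (Atab_s_180_185 c) (Atab_s_185_190 c) (Nat.ble 185 c)
noncomputable def Atab_s_190_192 (c : Nat) : Nat := @Bool.rec (fun _ => Nat) (Atab_190) (Atab_191) (Nat.ble 191 c)
noncomputable def Atab_s_193_195 (c : Nat) : Nat := @Bool.rec (fun _ => Nat) (Atab_193) (Atab_194) (Nat.ble 194 c)
noncomputable def Atab_s_192_195 (c : Nat) : Nat := @Bool.rec (fun _ => Nat) (Atab_192) (Atab_s_193_195 c) (Nat.ble 193 c)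
noncomputable def Atab_s_190_195 (c : Nat) : Nat := @Bool.rec (fun _ => Nat) (Atab_s_190_192 c) (Atab_s_192_195 c) (Nat.ble 192 c)
noncomputable def Atab_s_195_197 (c : Nat) : Nat := @Bool.rec (fun _ => Nat) (Atab_195) (Atab_196) (Nat.ble 196 c)
noncomputable def Atab_s_198_200 (c : Nat) : Nat := @Bool.rec (fun _ => Nat) (Atab_198) (Atab_199) (Nat.ble 199 c)
noncomputable def Atab_s_197_200 (c : Nat) : Nat := @Bool.rec (fun _ => Nat) (Atab_197) (Atab_s_198_200 c) (Nat.ble 198 c)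
noncomputable def Atab_s_195_200 (c : Nat) : Nat := @Bool.rec (fun _ => Nat) (Atab_s_195_197 c) (Atab_s_197_200 c) (Nat.ble 197 c)
noncomputable def Atab_s_190_200 (c : Nat) : Nat := @Bool.rec (fun _ => Nat) (Atab_s_190_195 c) (Atab_s_195_200 c) (Nat.ble 195 c)
noncomputable def Atab_s_180_200 (c : Nat) : Nat := @Bool.rec (fun _ => Nat) (Atab_s_180_190 c) (Atab_s_190_200 c) (Nat.ble 190 c)
noncomputable def Atab_s_160_200 (c : Nat) : Nat := @Bool.rec (fun _ => Nat) (Atab_s_160_180 c) (Atab_s_180_200 c) (Nat.ble 180 c)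
noncomputable def Atab_s_200_202 (c : Nat) : Nat := @Bool.rec (fun _ => Nat) (Atab_200) (Atab_201) (Nat.ble 201 c)
noncomputable def Atab_s_203_205 (c : Nat) : Nat := @Bool.rec (fun _ => Nat) (Atab_203) (Atab_204) (Nat.ble 204 c)
noncomputable def Atab_s_202_205 (c : Nat) : Nat := @Bool.rec (fun _ => Nat) (Atab_202) (Atab_s_203_205 c) (Nat.ble 203 c)
noncomputable def Atab_s_200_205 (c : Nat) : Nat := @Bool.rec (fun _ => Nat) (Atab_s_200_202 c) (Atab_s_202_205 c) (Nat.ble 202 c)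
noncomputable def Atab_s_205_207 (c : Nat) : Nat := @Bool.rec (fun _ => Nat) (Atab_205) (Atab_206) (Nat.ble 206 c)
noncomputable def Atab_s_208_210 (c : Nat) : Nat := @Bool.rec (fun _ => Nat) (Atab_208) (Atab_209) (Nat.ble 209 c)
noncomputable def Atab_s_207_210 (c : Nat) : Nat := @Bool.rec (fun _ => Nat) (Atab_207) (Atab_s_208_210 c) (Nat.ble 208 c)
noncomputable def Atab_s_205_210 (c : Nat) : Nat := @Bool.rec (fun _ => Nat) (Atab_s_205_207 c) (Atab_s_207_210 c) (Nat.ble 207 c)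
noncomputable def Atab_s_200_210 (c : Nat) : Nat := @Bool.rec (fun _ => Nat) (Atab_s_200_205 c) (Atab_s_205_210 c) (Nat.ble 205 c)
noncomputable def Atab_s_210_212 (c : Nat) : Nat := @Bool.rec (fun _ => Nat) (Atab_210) (Atab_211) (Nat.ble 211 c)
noncomputable def Atab_s_213_215 (c : Nat) : Nat := @Bool.rec (fun _ => Nat) (Atab_213) (Atab_214) (Nat.ble 214 c)
noncomputable def Atab_s_212_215 (c : Nat) : Nat := @Bool.rec (fun _ => Nat) (Atab_212) (Atab_s_213_215 c) (Nat.ble 213 c)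
noncomputable def Atab_s_210_215 (c : Nat) : Nat := @Bool.rec (fun _ => Nat) (Atab_s_210_212 c) (Atab_s_212_215 c) (Nat.ble 212 c)
noncomputable def Atab_s_215_217 (c : Nat) : Nat := @Bool.rec (fun _ => Nat) (Atab_215) (Atab_216) (Nat.ble 216 c)
noncomputable def Atab_s_218_220 (c : Nat) : Nat := @Bool.rec (fun _ => Nat) (Atab_218) (Atab_219) (Nat.ble 219 c)
noncomputable def Atab_s_217_220 (c : Nat) : Nat := @Bool.rec (fun _ => Nat) (Atab_217) (Atab_s_218_220 c) (Nat.ble 218 c)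
noncomputable def Atab_s_215_220 (c : Nat) : Nat := @Bool.rec (fun _ => Nat) (Atab_s_215_217 c) (Atab_s_217_220 c) (Nat.ble 217 c)
noncomputable def Atab_s_210_220 (c : Nat) : Nat := @Bool.rec (fun _ => Nat) (Atab_s_210_215 c) (Atab_s_215_220 c) (Nat.ble 215 c)
noncomputable def Atab_s_200_220 (c : Nat) : Nat := @Bool.rec (fun _ => Nat) (Atab_s_200_210 c) (Atab_s_210_220 c) (Nat.ble 210 c)
noncomputable def Atab_s_220_222 (c : Nat) : Nat := @Bool.rec (fun _ => Nat) (Atab_220) (Atab_221) (Nat.ble 221 c)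
noncomputable def Atab_s_223_225 (c : Nat) : Nat := @Bool.rec (fun _ => Nat) (Atab_223) (Atab_224) (Nat.ble 224 c)
noncomputable def Atab_s_222_225 (c : Nat) : Nat := @Bool.rec (fun _ => Nat) (Atab_222) (Atab_s_223_225 c) (Nat.ble 223 c)
noncomputable def Atab_s_220_225 (c : Nat) : Nat := @Bool.rec (fun _ => Nat) (Atab_s_220_222 c) (Atab_s_222_225 c) (Nat.ble 222 c)
noncomputable def Atab_s_225_227 (c : Nat) : Nat := @Bool.rec (fun _ => Nat) (Atab_225) (Atab_226) (Nat.ble 226 c)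
noncomputable def Atab_s_228_230 (c : Nat) : Nat := @Bool.rec (fun _ => Nat) (Atab_228) (Atab_229) (Nat.ble 229 c)
noncomputable def Atab_s_227_230 (c : Nat) : Nat := @Bool.rec (fun _ => Nat) (Atab_227) (Atab_s_228_230 c) (Nat.ble 228 c)
noncomputable def Atab_s_225_230 (c : Nat) : Nat := @Bool.rec (fun _ => Nat) (Atab_s_225_227 c) (Atab_s_227_230 c) (Nat.ble 227 c)
noncomputable def Atab_s_220_230 (c : Nat) : Nat := @Bool.rec (fun _ => Nat) (Atab_s_220_225 c) (Atab_s_225_230 c) (Nat.ble 225 c)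
noncomputable def Atab_s_230_232 (c : Nat) : Nat := @Bool.rec (fun _ => Nat) (Atab_230) (Atab_231) (Nat.ble 231 c)
noncomputable def Atab_s_233_235 (c : Nat) : Nat := @Bool.rec (fun _ => Nat) (Atab_233) (Atab_234) (Nat.ble 234 c)
noncomputable def Atab_s_232_235 (c : Nat) : Nat := @Bool.rec (fun _ => Nat) (Atab_232) (Atab_s_233_235 c) (Nat.ble 233 c)
noncomputable def Atab_s_230_235 (c : Nat) : Nat := @Bool.rec (fun _ => Nat) (Atab_s_230_232 c) (Atab_s_232_235 c) (Nat.ble 232 c)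
noncomputable def Atab_s_235_237 (c : Nat) : Nat := @Bool.rec (fun _ => Nat) (Atab_235) (Atab_236) (Nat.ble 236 c)
noncomputable def Atab_s_238_240 (c : Nat) : Nat := @Bool.rec (fun _ => Nat) (Atab_238) (Atab_239) (Nat.ble 239 c)
noncomputable def Atab_s_237_240 (c : Nat) : Nat := @Bool.rec (fun _ => Nat) (Atab_237) (Atab_s_238_240 c) (Nat.ble 238 c)
noncomputable def Atab_s_235_240 (c : Nat) : Nat := @Bool.rec (fun _ => Nat) (Atab_s_235_237 c) (Atab_s_237_240 c) (Nat.ble 237 c)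
noncomputable def Atab_s_230_240 (c : Nat) : Nat := @Bool.rec (fun _ => Nat) (Atab_s_230_235 c) (Atab_s_235_240 c) (Nat.ble 235 c)
noncomputable def Atab_s_220_240 (c : Nat) : Nat := @Bool.rec (fun _ => Nat) (Atab_s_220_230 c) (Atab_s_230_240 c) (Nat.ble 230 c)
noncomputable def Atab_s_200_240 (c : Nat) : Nat := @Bool.rec (fun _ => Nat) (Atab_s_200_220 c) (Atab_s_220_240 c) (Nat.ble 220 c)
noncomputable def Atab_s_160_240 (c : Nat) : Nat := @Bool.rec (fun _ => Nat) (Atab_s_160_200 c) (Atab_s_200_240 c) (Nat.ble 200 c)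
noncomputable def Atab_s_240_242 (c : Nat) : Nat := @Bool.rec (fun _ => Nat) (Atab_240) (Atab_241) (Nat.ble 241 c)
noncomputable def Atab_s_243_245 (c : Nat) : Nat := @Bool.rec (fun _ => Nat) (Atab_243) (Atab_244) (Nat.ble 244 c)
noncomputable def Atab_s_242_245 (c : Nat) : Nat := @Bool.rec (fun _ => Nat) (Atab_242) (Atab_s_243_245 c) (Nat.ble 243 c)
noncomputable def Atab_s_240_245 (c : Nat) : Nat := @Bool.rec (fun _ => Nat) (Atab_s_240_242 c) (Atab_s_242_245 c) (Nat.ble 242 c)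
noncomputable def Atab_s_245_247 (c : Nat) : Nat := @Bool.rec (fun _ => Nat) (Atab_245) (Atab_246) (Nat.ble 246 c)
noncomputable def Atab_s_248_250 (c : Nat) : Nat := @Bool.rec (fun _ => Nat) (Atab_248) (Atab_249) (Nat.ble 249 c)
noncomputable def Atab_s_247_250 (c : Nat) : Nat := @Bool.rec (fun _ => Nat) (Atab_247) (Atab_s_248_250 c) (Nat.ble 248 c)
noncomputable def Atab_s_245_250 (c : Nat) : Nat := @Bool.rec (fun _ => Nat) (Atab_s_245_247 c) (Atab_s_247_250 c) (Nat.ble 247 c)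
noncomputable def Atab_s_240_250 (c : Nat) : Nat := @Bool.rec (fun _ => Nat) (Atab_s_240_245 c) (Atab_s_245_250 c) (Nat.ble 245 c)
noncomputable def Atab_s_250_252 (c : Nat) : Nat := @Bool.rec (fun _ => Nat) (Atab_250) (Atab_251) (Nat.ble 251 c)
noncomputable def Atab_s_253_255 (c : Nat) : Nat := @Bool.rec (fun _ => Nat) (Atab_253) (Atab_254) (Nat.ble 254 c)
noncomputable def Atab_s_252_255 (c : Nat) : Nat := @Bool.rec (fun _ => Nat) (Atab_252) (Atab_s_253_255 c) (Nat.ble 253 c)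
noncomputable def Atab_s_250_255 (c : Nat) : Nat := @Bool.rec (fun _ => Nat) (Atab_s_250_252 c) (Atab_s_252_255 c) (Nat.ble 252 c)
noncomputable def Atab_s_255_257 (c : Nat) : Nat := @Bool.rec (fun _ => Nat) (Atab_255) (Atab_256) (Nat.ble 256 c)
noncomputable def Atab_s_258_260 (c : Nat) : Nat := @Bool.rec (fun _ => Nat) (Atab_258) (Atab_259) (Nat.ble 259 c)
noncomputable def Atab_s_257_260 (c : Nat) : Nat := @Bool.rec (fun _ => Nat) (Atab_257) (Atab_s_258_260 c) (Nat.ble 258 c)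
noncomputable def Atab_s_255_260 (c : Nat) : Nat := @Bool.rec (fun _ => Nat) (Atab_s_255_257 c) (Atab_s_257_260 c) (Nat.ble 257 c)
noncomputable def Atab_s_250_260 (c : Nat) : Nat := @Bool.rec (fun _ => Nat) (Atab_s_250_255 c) (Atab_s_255_260 c) (Nat.ble 255 c)
noncomputable def Atab_s_240_260 (c : Nat) : Nat := @Bool.rec (fun _ => Nat) (Atab_s_240_250 c) (Atab_s_250_260 c) (Nat.ble 250 c)
noncomputable def Atab_s_260_262 (c : Nat) : Nat := @Bool.rec (fun _ => Nat) (Atab_260) (Atab_261) (Nat.ble 261 c)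
noncomputable def Atab_s_263_265 (c : Nat) : Nat := @Bool.rec (fun _ => Nat) (Atab_263) (Atab_264) (Nat.ble 264 c)
noncomputable def Atab_s_262_265 (c : Nat) : Nat := @Bool.rec (fun _ => Nat) (Atab_262) (Atab_s_263_265 c) (Nat.ble 263 c)
noncomputable def Atab_s_260_265 (c : Nat) : Nat := @Bool.rec (fun _ => Nat) (Atab_s_260_262 c) (Atab_s_262_265 c) (Nat.ble 262 c)
noncomputable def Atab_s_265_267 (c : Nat) : Nat := @Bool.rec (fun _ => Nat) (Atab_265) (Atab_266) (Nat.ble 266 c)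
noncomputable def Atab_s_268_270 (c : Nat) : Nat := @Bool.rec (fun _ => Nat) (Atab_268) (Atab_269) (Nat.ble 269 c)
noncomputable def Atab_s_267_270 (c : Nat) : Nat := @Bool.rec (fun _ => Nat) (Atab_267) (Atab_s_268_270 c) (Nat.ble 268 c)
noncomputable def Atab_s_265_270 (c : Nat) : Nat := @Bool.rec (fun _ => Nat) (Atab_s_265_267 c) (Atab_s_267_270 c) (Nat.ble 267 c)
noncomputable def Atab_s_260_270 (c : Nat) : Nat := @Bool.rec (fun _ => Nat) (Atab_s_260_265 c) (Atab_s_265_270 c) (Nat.ble 265 c)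
noncomputable def Atab_s_270_272 (c : Nat) : Nat := @Bool.rec (fun _ => Nat) (Atab_270) (Atab_271) (Nat.ble 271 c)
noncomputable def Atab_s_273_275 (c : Nat) : Nat := @Bool.rec (fun _ => Nat) (Atab_273) (Atab_274) (Nat.ble 274 c)
noncomputable def Atab_s_272_275 (c : Nat) : Nat := @Bool.rec (fun _ => Nat) (Atab_272) (Atab_s_273_275 c) (Nat.ble 273 c)
noncomputable def Atab_s_270_275 (c : Nat) : Nat := @Bool.rec (fun _ => Nat) (Atab_s_270_272 c) (Atab_s_272_275 c) (Nat.ble 272 c)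
noncomputable def Atab_s_275_277 (c : Nat) : Nat := @Bool.rec (fun _ => Nat) (Atab_275) (Atab_276) (Nat.ble 276 c)
noncomputable def Atab_s_278_280 (c : Nat) : Nat := @Bool.rec (fun _ => Nat) (Atab_278) (Atab_279) (Nat.ble 279 c)
noncomputable def Atab_s_277_280 (c : Nat) : Nat := @Bool.rec (fun _ => Nat) (Atab_277) (Atab_s_278_280 c) (Nat.ble 278 c)
noncomputable def Atab_s_275_280 (c : Nat) : Nat := @Bool.rec (fun _ => Nat) (Atab_s_275_277 c) (Atab_s_277_280 c) (Nat.ble 277 c)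
noncomputable def Atab_s_270_280 (c : Nat) : Nat := @Bool.rec (fun _ => Nat) (Atab_s_270_275 c) (Atab_s_275_280 c) (Nat.ble 275 c)
noncomputable def Atab_s_260_280 (c : Nat) : Nat := @Bool.rec (fun _ => Nat) (Atab_s_260_270 c) (Atab_s_270_280 c) (Nat.ble 270 c)
noncomputable def Atab_s_240_280 (c : Nat) : Nat := @Bool.rec (fun _ => Nat) (Atab_s_240_260 c) (Atab_s_260_280 c) (Nat.ble 260 c)
noncomputable def Atab_s_280_282 (c : Nat) : Nat := @Bool.rec (fun _ => Nat) (Atab_280) (Atab_281) (Nat.ble 281 c)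
noncomputable def Atab_s_283_285 (c : Nat) : Nat := @Bool.rec (fun _ => Nat) (Atab_283) (Atab_284) (Nat.ble 284 c)
noncomputable def Atab_s_282_285 (c : Nat) : Nat := @Bool.rec (fun _ => Nat) (Atab_282) (Atab_s_283_285 c) (Nat.ble 283 c)
noncomputable def Atab_s_280_285 (c : Nat) : Nat := @Bool.rec (fun _ => Nat) (Atab_s_280_282 c) (Atab_s_282_285 c) (Nat.ble 282 c)
noncomputable def Atab_s_285_287 (c : Nat) : Nat := @Bool.rec (fun _ => Nat) (Atab_285) (Atab_286) (Nat.ble 286 c)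
noncomputable def Atab_s_288_290 (c : Nat) : Nat := @Bool.rec (fun _ => Nat) (Atab_288) (Atab_289) (Nat.ble 289 c)
noncomputable def Atab_s_287_290 (c : Nat) : Nat := @Bool.rec (fun _ => Nat) (Atab_287) (Atab_s_288_290 c) (Nat.ble 288 c)
noncomputable def Atab_s_285_290 (c : Nat) : Nat := @Bool.rec (fun _ => Nat) (Atab_s_285_287 c) (Atab_s_287_290 c) (Nat.ble 287 c)
noncomputable def Atab_s_280_290 (c : Nat) : Nat := @Bool.rec (fun _ => Nat) (Atab_s_280_285 c) (Atab_s_285_290 c) (Nat.ble 285 c)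
noncomputable def Atab_s_290_292 (c : Nat) : Nat := @Bool.rec (fun _ => Nat) (Atab_290) (Atab_291) (Nat.ble 291 c)
noncomputable def Atab_s_293_295 (c : Nat) : Nat := @Bool.rec (fun _ => Nat) (Atab_293) (Atab_294) (Nat.ble 294 c)
noncomputable def Atab_s_292_295 (c : Nat) : Nat := @Bool.rec (fun _ => Nat) (Atab_292) (Atab_s_293_295 c) (Nat.ble 293 c)
noncomputable def Atab_s_290_295 (c : Nat) : Nat := @Bool.rec (fun _ => Nat) (Atab_s_290_292 c) (Atab_s_292_295 c) (Nat.ble 292 c)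
noncomputable def Atab_s_295_297 (c : Nat) : Nat := @Bool.rec (fun _ => Nat) (Atab_295) (Atab_296) (Nat.ble 296 c)
noncomputable def Atab_s_298_300 (c : Nat) : Nat := @Bool.rec (fun _ => Nat) (Atab_298) (Atab_299) (Nat.ble 299 c)
noncomputable def Atab_s_297_300 (c : Nat) : Nat := @Bool.rec (fun _ => Nat) (Atab_297) (Atab_s_298_300 c) (Nat.ble 298 c)
noncomputable def Atab_s_295_300 (c : Nat) : Nat := @Bool.rec (fun _ => Nat) (Atab_s_295_297 c) (Atab_s_297_300 c) (Nat.ble 297 c)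
noncomputable def Atab_s_290_300 (c : Nat) : Nat := @Bool.rec (fun _ => Nat) (Atab_s_290_295 c) (Atab_s_295_300 c) (Nat.ble 295 c)
noncomputable def Atab_s_280_300 (c : Nat) : Nat := @Bool.rec (fun _ => Nat) (Atab_s_280_290 c) (Atab_s_290_300 c) (Nat.ble 290 c)
noncomputable def Atab_s_300_302 (c : Nat) : Nat := @Bool.rec (fun _ => Nat) (Atab_300) (Atab_301) (Nat.ble 301 c)
noncomputable def Atab_s_303_305 (c : Nat) : Nat := @Bool.rec (fun _ => Nat) (Atab_303) (Atab_304) (Nat.ble 304 c)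
noncomputable def Atab_s_302_305 (c : Nat) : Nat := @Bool.rec (fun _ => Nat) (Atab_302) (Atab_s_303_305 c) (Nat.ble 303 c)
noncomputable def Atab_s_300_305 (c : Nat) : Nat := @Bool.rec (fun _ => Nat) (Atab_s_300_302 c) (Atab_s_302_305 c) (Nat.ble 302 c)
noncomputable def Atab_s_305_307 (c : Nat) : Nat := @Bool.rec (fun _ => Nat) (Atab_305) (Atab_306) (Nat.ble 306 c)
noncomputable def Atab_s_308_310 (c : Nat) : Nat := @Bool.rec (fun _ => Nat) (Atab_308) (Atab_309) (Nat.ble 309 c)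
noncomputable def Atab_s_307_310 (c : Nat) : Nat := @Bool.rec (fun _ => Nat) (Atab_307) (Atab_s_308_310 c) (Nat.ble 308 c)
noncomputable def Atab_s_305_310 (c : Nat) : Nat := @Bool.rec (fun _ => Nat) (Atab_s_305_307 c) (Atab_s_307_310 c) (Nat.ble 307 c)
noncomputable def Atab_s_300_310 (c : Nat) : Nat := @Bool.rec (fun _ => Nat) (Atab_s_300_305 c) (Atab_s_305_310 c) (Nat.ble 305 c)
noncomputable def Atab_s_310_312 (c : Nat) : Nat := @Bool.rec (fun _ => Nat) (Atab_310) (Atab_311) (Nat.ble 311 c)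
noncomputable def Atab_s_313_315 (c : Nat) : Nat := @Bool.rec (fun _ => Nat) (Atab_313) (Atab_314) (Nat.ble 314 c)
noncomputable def Atab_s_312_315 (c : Nat) : Nat := @Bool.rec (fun _ => Nat) (Atab_312) (Atab_s_313_315 c) (Nat.ble 313 c)
noncomputable def Atab_s_310_315 (c : Nat) : Nat := @Bool.rec (fun _ => Nat) (Atab_s_310_312 c) (Atab_s_312_315 c) (Nat.ble 312 c)
noncomputable def Atab_s_315_317 (c : Nat) : Nat := @Bool.rec (fun _ => Nat) (Atab_315) (Atab_316) (Nat.ble 316 c)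
noncomputable def Atab_s_318_320 (c : Nat) : Nat := @Bool.rec (fun _ => Nat) (Atab_318) (Atab_319) (Nat.ble 319 c)
noncomputable def Atab_s_317_320 (c : Nat) : Nat := @Bool.rec (fun _ => Nat) (Atab_317) (Atab_s_318_320 c) (Nat.ble 318 c)
noncomputable def Atab_s_315_320 (c : Nat) : Nat := @Bool.rec (fun _ => Nat) (Atab_s_315_317 c) (Atab_s_317_320 c) (Nat.ble 317 c)
noncomputable def Atab_s_310_320 (c : Nat) : Nat := @Bool.rec (fun _ => Nat) (Atab_s_310_315 c) (Atab_s_315_320 c) (Nat.ble 315 c)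
noncomputable def Atab_s_300_320 (c : Nat) : Nat := @Bool.rec (fun _ => Nat) (Atab_s_300_310 c) (Atab_s_310_320 c) (Nat.ble 310 c)
noncomputable def Atab_s_280_320 (c : Nat) : Nat := @Bool.rec (fun _ => Nat) (Atab_s_280_300 c) (Atab_s_300_320 c) (Nat.ble 300 c)
noncomputable def Atab_s_240_320 (c : Nat) : Nat := @Bool.rec (fun _ => Nat) (Atab_s_240_280 c) (Atab_s_280_320 c) (Nat.ble 280 c)
noncomputable def Atab_s_160_320 (c : Nat) : Nat := @Bool.rec (fun _ => Nat) (Atab_s_160_240 c) (Atab_s_240_320 c) (Nat.ble 240 c)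
noncomputable def Atab_s_0_320 (c : Nat) : Nat := @Bool.rec (fun _ => Nat) (Atab_s_0_160 c) (Atab_s_160_320 c) (Nat.ble 160 c)
noncomputable def Atab (i : Nat) : Nat := rdw 39 549755813887 (Atab_s_0_320 (Nat.shiftRight i 11)) (Nat.land i 2047)
noncomputable def Btab_s_0_2 (c : Nat) : Nat := @Bool.rec (fun _ => Nat) (Btab_0) (Btab_1) (Nat.ble 1 c)
noncomputable def Btab_s_2_4 (c : Nat) : Nat := @Bool.rec (fun _ => Nat) (Btab_2) (Btab_3) (Nat.ble 3 c)
noncomputable def Btab_s_0_4 (c : Nat) : Nat := @Bool.rec (fun _ => Nat) (Btab_s_0_2 c) (Btab_s_2_4 c) (Nat.ble 2 c)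
noncomputable def Btab_s_4_6 (c : Nat) : Nat := @Bool.rec (fun _ => Nat) (Btab_4) (Btab_5) (Nat.ble 5 c)
noncomputable def Btab_s_6_8 (c : Nat) : Nat := @Bool.rec (fun _ => Nat) (Btab_6) (Btab_7) (Nat.ble 7 c)
noncomputable def Btab_s_4_8 (c : Nat) : Nat := @Bool.rec (fun _ => Nat) (Btab_s_4_6 c) (Btab_s_6_8 c) (Nat.ble 6 c)
noncomputable def Btab_s_0_8 (c : Nat) : Nat := @Bool.rec (fun _ => Nat) (Btab_s_0_4 c) (Btab_s_4_8 c) (Nat.ble 4 c)
noncomputable def Btab_s_8_10 (c : Nat) : Nat := @Bool.rec (fun _ => Nat) (Btab_8) (Btab_9) (Nat.ble 9 c)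
noncomputable def Btab_s_10_12 (c : Nat) : Nat := @Bool.rec (fun _ => Nat) (Btab_10) (Btab_11) (Nat.ble 11 c)
noncomputable def Btab_s_8_12 (c : Nat) : Nat := @Bool.rec (fun _ => Nat) (Btab_s_8_10 c) (Btab_s_10_12 c) (Nat.ble 10 c)
noncomputable def Btab_s_12_14 (c : Nat) : Nat := @Bool.rec (fun _ => Nat) (Btab_12) (Btab_13) (Nat.ble 13 c)
noncomputable def Btab_s_15_17 (c : Nat) : Nat := @Bool.rec (fun _ => Nat) (Btab_15) (Btab_16) (Nat.ble 16 c)
noncomputable def Btab_s_14_17 (c : Nat) : Nat := @Bool.rec (fun _ => Nat) (Btab_14) (Btab_s_15_17 c) (Nat.ble 15 c)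
noncomputable def Btab_s_12_17 (c : Nat) : Nat := @Bool.rec (fun _ => Nat) (Btab_s_12_14 c) (Btab_s_14_17 c) (Nat.ble 14 c)
noncomputable def Btab_s_8_17 (c : Nat) : Nat := @Bool.rec (fun _ => Nat) (Btab_s_8_12 c) (Btab_s_12_17 c) (Nat.ble 12 c)
noncomputable def Btab_s_0_17 (c : Nat) : Nat := @Bool.rec (fun _ => Nat) (Btab_s_0_8 c) (Btab_s_8_17 c) (Nat.ble 8 c)
noncomputable def Btab_s_17_19 (c : Nat) : Nat := @Bool.rec (fun _ => Nat) (Btab_17) (Btab_18) (Nat.ble 18 c)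
noncomputable def Btab_s_19_21 (c : Nat) : Nat := @Bool.rec (fun _ => Nat) (Btab_19) (Btab_20) (Nat.ble 20 c)
noncomputable def Btab_s_17_21 (c : Nat) : Nat := @Bool.rec (fun _ => Nat) (Btab_s_17_19 c) (Btab_s_19_21 c) (Nat.ble 19 c)
noncomputable def Btab_s_21_23 (c : Nat) : Nat := @Bool.rec (fun _ => Nat) (Btab_21) (Btab_22) (Nat.ble 22 c)
noncomputable def Btab_s_24_26 (c : Nat) : Nat := @Bool.rec (fun _ => Nat) (Btab_24) (Btab_25) (Nat.ble 25 c)
noncomputable def Btab_s_23_26 (c : Nat) : Nat := @Bool.rec (fun _ => Nat) (Btab_23) (Btab_s_24_26 c) (Nat.ble 24 c)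
noncomputable def Btab_s_21_26 (c : Nat) : Nat := @Bool.rec (fun _ => Nat) (Btab_s_21_23 c) (Btab_s_23_26 c) (Nat.ble 23 c)
noncomputable def Btab_s_17_26 (c : Nat) : Nat := @Bool.rec (fun _ => Nat) (Btab_s_17_21 c) (Btab_s_21_26 c) (Nat.ble 21 c)
noncomputable def Btab_s_26_28 (c : Nat) : Nat := @Bool.rec (fun _ => Nat) (Btab_26) (Btab_27) (Nat.ble 27 c)
noncomputable def Btab_s_28_30 (c : Nat) : Nat := @Bool.rec (fun _ => Nat) (Btab_28) (Btab_29) (Nat.ble 29 c)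
noncomputable def Btab_s_26_30 (c : Nat) : Nat := @Bool.rec (fun _ => Nat) (Btab_s_26_28 c) (Btab_s_28_30 c) (Nat.ble 28 c)
noncomputable def Btab_s_30_32 (c : Nat) : Nat := @Bool.rec (fun _ => Nat) (Btab_30) (Btab_31) (Nat.ble 31 c)
noncomputable def Btab_s_33_35 (c : Nat) : Nat := @Bool.rec (fun _ => Nat) (Btab_33) (Btab_34) (Nat.ble 34 c)
noncomputable def Btab_s_32_35 (c : Nat) : Nat := @Bool.rec (fun _ => Nat) (Btab_32) (Btab_s_33_35 c) (Nat.ble 33 c)
noncomputable def Btab_s_30_35 (c : Nat) : Nat := @Bool.rec (fun _ => Nat) (Btab_s_30_32 c) (Btab_s_32_35 c) (Nat.ble 32 c)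
noncomputable def Btab_s_26_35 (c : Nat) : Nat := @Bool.rec (fun _ => Nat) (Btab_s_26_30 c) (Btab_s_30_35 c) (Nat.ble 30 c)
noncomputable def Btab_s_17_35 (c : Nat) : Nat := @Bool.rec (fun _ => Nat) (Btab_s_17_26 c) (Btab_s_26_35 c) (Nat.ble 26 c)
noncomputable def Btab_s_0_35 (c : Nat) : Nat := @Bool.rec (fun _ => Nat) (Btab_s_0_17 c) (Btab_s_17_35 c) (Nat.ble 17 c)
noncomputable def Btab_s_35_37 (c : Nat) : Nat := @Bool.rec (fun _ => Nat) (Btab_35) (Btab_36) (Nat.ble 36 c)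
noncomputable def Btab_s_37_39 (c : Nat) : Nat := @Bool.rec (fun _ => Nat) (Btab_37) (Btab_38) (Nat.ble 38 c)
noncomputable def Btab_s_35_39 (c : Nat) : Nat := @Bool.rec (fun _ => Nat) (Btab_s_35_37 c) (Btab_s_37_39 c) (Nat.ble 37 c)
noncomputable def Btab_s_39_41 (c : Nat) : Nat := @Bool.rec (fun _ => Nat) (Btab_39) (Btab_40) (Nat.ble 40 c)
noncomputable def Btab_s_41_43 (c : Nat) : Nat := @Bool.rec (fun _ => Nat) (Btab_41) (Btab_42) (Nat.ble 42 c)
noncomputable def Btab_s_39_43 (c : Nat) : Nat := @Bool.rec (fun _ => Nat) (Btab_s_39_41 c) (Btab_s_41_43 c) (Nat.ble 41 c)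
noncomputable def Btab_s_35_43 (c : Nat) : Nat := @Bool.rec (fun _ => Nat) (Btab_s_35_39 c) (Btab_s_39_43 c) (Nat.ble 39 c)
noncomputable def Btab_s_43_45 (c : Nat) : Nat := @Bool.rec (fun _ => Nat) (Btab_43) (Btab_44) (Nat.ble 44 c)
noncomputable def Btab_s_45_47 (c : Nat) : Nat := @Bool.rec (fun _ => Nat) (Btab_45) (Btab_46) (Nat.ble 46 c)
noncomputable def Btab_s_43_47 (c : Nat) : Nat := @Bool.rec (fun _ => Nat) (Btab_s_43_45 c) (Btab_s_45_47 c) (Nat.ble 45 c)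
noncomputable def Btab_s_47_49 (c : Nat) : Nat := @Bool.rec (fun _ => Nat) (Btab_47) (Btab_48) (Nat.ble 48 c)
noncomputable def Btab_s_50_52 (c : Nat) : Nat := @Bool.rec (fun _ => Nat) (Btab_50) (Btab_51) (Nat.ble 51 c)
noncomputable def Btab_s_49_52 (c : Nat) : Nat := @Bool.rec (fun _ => Nat) (Btab_49) (Btab_s_50_52 c) (Nat.ble 50 c)
noncomputable def Btab_s_47_52 (c : Nat) : Nat := @Bool.rec (fun _ => Nat) (Btab_s_47_49 c) (Btab_s_49_52 c) (Nat.ble 49 c)
noncomputable def Btab_s_43_52 (c : Nat) : Nat := @Bool.rec (fun _ => Nat) (Btab_s_43_47 c) (Btab_s_47_52 c) (Nat.ble 47 c)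
noncomputable def Btab_s_35_52 (c : Nat) : Nat := @Bool.rec (fun _ => Nat) (Btab_s_35_43 c) (Btab_s_43_52 c) (Nat.ble 43 c)
noncomputable def Btab_s_52_54 (c : Nat) : Nat := @Bool.rec (fun _ => Nat) (Btab_52) (Btab_53) (Nat.ble 53 c)
noncomputable def Btab_s_54_56 (c : Nat) : Nat := @Bool.rec (fun _ => Nat) (Btab_54) (Btab_55) (Nat.ble 55 c)
noncomputable def Btab_s_52_56 (c : Nat) : Nat := @Bool.rec (fun _ => Nat) (Btab_s_52_54 c) (Btab_s_54_56 c) (Nat.ble 54 c)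
noncomputable def Btab_s_56_58 (c : Nat) : Nat := @Bool.rec (fun _ => Nat) (Btab_56) (Btab_57) (Nat.ble 57 c)
noncomputable def Btab_s_59_61 (c : Nat) : Nat := @Bool.rec (fun _ => Nat) (Btab_59) (Btab_60) (Nat.ble 60 c)
noncomputable def Btab_s_58_61 (c : Nat) : Nat := @Bool.rec (fun _ => Nat) (Btab_58) (Btab_s_59_61 c) (Nat.ble 59 c)
noncomputable def Btab_s_56_61 (c : Nat) : Nat := @Bool.rec (fun _ => Nat) (Btab_s_56_58 c) (Btab_s_58_61 c) (Nat.ble 58 c)
noncomputable def Btab_s_52_61 (c : Nat) : Nat := @Bool.rec (fun _ => Nat) (Btab_s_52_56 c) (Btab_s_56_61 c) (Nat.ble 56 c)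
noncomputable def Btab_s_61_63 (c : Nat) : Nat := @Bool.rec (fun _ => Nat) (Btab_61) (Btab_62) (Nat.ble 62 c)
noncomputable def Btab_s_63_65 (c : Nat) : Nat := @Bool.rec (fun _ => Nat) (Btab_63) (Btab_64) (Nat.ble 64 c)
noncomputable def Btab_s_61_65 (c : Nat) : Nat := @Bool.rec (fun _ => Nat) (Btab_s_61_63 c) (Btab_s_63_65 c) (Nat.ble 63 c)
noncomputable def Btab_s_65_67 (c : Nat) : Nat := @Bool.rec (fun _ => Nat) (Btab_65) (Btab_66) (Nat.ble 66 c)
noncomputable def Btab_s_68_70 (c : Nat) : Nat := @Bool.rec (fun _ => Nat) (Btab_68) (Btab_69) (Nat.ble 69 c)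
noncomputable def Btab_s_67_70 (c : Nat) : Nat := @Bool.rec (fun _ => Nat) (Btab_67) (Btab_s_68_70 c) (Nat.ble 68 c)
noncomputable def Btab_s_65_70 (c : Nat) : Nat := @Bool.rec (fun _ => Nat) (Btab_s_65_67 c) (Btab_s_67_70 c) (Nat.ble 67 c)
noncomputable def Btab_s_61_70 (c : Nat) : Nat := @Bool.rec (fun _ => Nat) (Btab_s_61_65 c) (Btab_s_65_70 c) (Nat.ble 65 c)
noncomputable def Btab_s_52_70 (c : Nat) : Nat := @Bool.rec (fun _ => Nat) (Btab_s_52_61 c) (Btab_s_61_70 c) (Nat.ble 61 c)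
noncomputable def Btab_s_35_70 (c : Nat) : Nat := @Bool.rec (fun _ => Nat) (Btab_s_35_52 c) (Btab_s_52_70 c) (Nat.ble 52 c)
noncomputable def Btab_s_0_70 (c : Nat) : Nat := @Bool.rec (fun _ => Nat) (Btab_s_0_35 c) (Btab_s_35_70 c) (Nat.ble 35 c)
noncomputable def Btab_s_70_72 (c : Nat) : Nat := @Bool.rec (fun _ => Nat) (Btab_70) (Btab_71) (Nat.ble 71 c)
noncomputable def Btab_s_72_74 (c : Nat) : Nat := @Bool.rec (fun _ => Nat) (Btab_72) (Btab_73) (Nat.ble 73 c)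
noncomputable def Btab_s_70_74 (c : Nat) : Nat := @Bool.rec (fun _ => Nat) (Btab_s_70_72 c) (Btab_s_72_74 c) (Nat.ble 72 c)
noncomputable def Btab_s_74_76 (c : Nat) : Nat := @Bool.rec (fun _ => Nat) (Btab_74) (Btab_75) (Nat.ble 75 c)
noncomputable def Btab_s_76_78 (c : Nat) : Nat := @Bool.rec (fun _ => Nat) (Btab_76) (Btab_77) (Nat.ble 77 c)
noncomputable def Btab_s_74_78 (c : Nat) : Nat := @Bool.rec (fun _ => Nat) (Btab_s_74_76 c) (Btab_s_76_78 c) (Nat.ble 76 c)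
noncomputable def Btab_s_70_78 (c : Nat) : Nat := @Bool.rec (fun _ => Nat) (Btab_s_70_74 c) (Btab_s_74_78 c) (Nat.ble 74 c)
noncomputable def Btab_s_78_80 (c : Nat) : Nat := @Bool.rec (fun _ => Nat) (Btab_78) (Btab_79) (Nat.ble 79 c)
noncomputable def Btab_s_80_82 (c : Nat) : Nat := @Bool.rec (fun _ => Nat) (Btab_80) (Btab_81) (Nat.ble 81 c)
noncomputable def Btab_s_78_82 (c : Nat) : Nat := @Bool.rec (fun _ => Nat) (Btab_s_78_80 c) (Btab_s_80_82 c) (Nat.ble 80 c)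
noncomputable def Btab_s_82_84 (c : Nat) : Nat := @Bool.rec (fun _ => Nat) (Btab_82) (Btab_83) (Nat.ble 83 c)
noncomputable def Btab_s_85_87 (c : Nat) : Nat := @Bool.rec (fun _ => Nat) (Btab_85) (Btab_86) (Nat.ble 86 c)
noncomputable def Btab_s_84_87 (c : Nat) : Nat := @Bool.rec (fun _ => Nat) (Btab_84) (Btab_s_85_87 c) (Nat.ble 85 c)
noncomputable def Btab_s_82_87 (c : Nat) : Nat := @Bool.rec (fun _ => Nat) (Btab_s_82_84 c) (Btab_s_84_87 c) (Nat.ble 84 c)
noncomputable def Btab_s_78_87 (c : Nat) : Nat := @Bool.rec (fun _ => Nat) (Btab_s_78_82 c) (Btab_s_82_87 c) (Nat.ble 82 c)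
noncomputable def Btab_s_70_87 (c : Nat) : Nat := @Bool.rec (fun _ => Nat) (Btab_s_70_78 c) (Btab_s_78_87 c) (Nat.ble 78 c)
noncomputable def Btab_s_87_89 (c : Nat) : Nat := @Bool.rec (fun _ => Nat) (Btab_87) (Btab_88) (Nat.ble 88 c)
noncomputable def Btab_s_89_91 (c : Nat) : Nat := @Bool.rec (fun _ => Nat) (Btab_89) (Btab_90) (Nat.ble 90 c)
noncomputable def Btab_s_87_91 (c : Nat) : Nat := @Bool.rec (fun _ => Nat) (Btab_s_87_89 c) (Btab_s_89_91 c) (Nat.ble 89 c)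
noncomputable def Btab_s_91_93 (c : Nat) : Nat := @Bool.rec (fun _ => Nat) (Btab_91) (Btab_92) (Nat.ble 92 c)
noncomputable def Btab_s_94_96 (c : Nat) : Nat := @Bool.rec (fun _ => Nat) (Btab_94) (Btab_95) (Nat.ble 95 c)
noncomputable def Btab_s_93_96 (c : Nat) : Nat := @Bool.rec (fun _ => Nat) (Btab_93) (Btab_s_94_96 c) (Nat.ble 94 c)
noncomputable def Btab_s_91_96 (c : Nat) : Nat := @Bool.rec (fun _ => Nat) (Btab_s_91_93 c) (Btab_s_93_96 c) (Nat.ble 93 c)
noncomputable def Btab_s_87_96 (c : Nat) : Nat := @Bool.rec (fun _ => Nat) (Btab_s_87_91 c) (Btab_s_91_96 c) (Nat.ble 91 c)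
noncomputable def Btab_s_96_98 (c : Nat) : Nat := @Bool.rec (fun _ => Nat) (Btab_96) (Btab_97) (Nat.ble 97 c)
noncomputable def Btab_s_98_100 (c : Nat) : Nat := @Bool.rec (fun _ => Nat) (Btab_98) (Btab_99) (Nat.ble 99 c)
noncomputable def Btab_s_96_100 (c : Nat) : Nat := @Bool.rec (fun _ => Nat) (Btab_s_96_98 c) (Btab_s_98_100 c) (Nat.ble 98 c)
noncomputable def Btab_s_100_102 (c : Nat) : Nat := @Bool.rec (fun _ => Nat) (Btab_100) (Btab_101) (Nat.ble 101 c)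
noncomputable def Btab_s_103_105 (c : Nat) : Nat := @Bool.rec (fun _ => Nat) (Btab_103) (Btab_104) (Nat.ble 104 c)
noncomputable def Btab_s_102_105 (c : Nat) : Nat := @Bool.rec (fun _ => Nat) (Btab_102) (Btab_s_103_105 c) (Nat.ble 103 c)
noncomputable def Btab_s_100_105 (c : Nat) : Nat := @Bool.rec (fun _ => Nat) (Btab_s_100_102 c) (Btab_s_102_105 c) (Nat.ble 102 c)
noncomputable def Btab_s_96_105 (c : Nat) : Nat := @Bool.rec (fun _ => Nat) (Btab_s_96_100 c) (Btab_s_100_105 c) (Nat.ble 100 c)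
noncomputable def Btab_s_87_105 (c : Nat) : Nat := @Bool.rec (fun _ => Nat) (Btab_s_87_96 c) (Btab_s_96_105 c) (Nat.ble 96 c)
noncomputable def Btab_s_70_105 (c : Nat) : Nat := @Bool.rec (fun _ => Nat) (Btab_s_70_87 c) (Btab_s_87_105 c) (Nat.ble 87 c)
noncomputable def Btab_s_105_107 (c : Nat) : Nat := @Bool.rec (fun _ => Nat) (Btab_105) (Btab_106) (Nat.ble 106 c)
noncomputable def Btab_s_107_109 (c : Nat) : Nat := @Bool.rec (fun _ => Nat) (Btab_107) (Btab_108) (Nat.ble 108 c)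
noncomputable def Btab_s_105_109 (c : Nat) : Nat := @Bool.rec (fun _ => Nat) (Btab_s_105_107 c) (Btab_s_107_109 c) (Nat.ble 107 c)
noncomputable def Btab_s_109_111 (c : Nat) : Nat := @Bool.rec (fun _ => Nat) (Btab_109) (Btab_110) (Nat.ble 110 c)
noncomputable def Btab_s_111_113 (c : Nat) : Nat := @Bool.rec (fun _ => Nat) (Btab_111) (Btab_112) (Nat.ble 112 c)
noncomputable def Btab_s_109_113 (c : Nat) : Nat := @Bool.rec (fun _ => Nat) (Btab_s_109_111 c) (Btab_s_111_113 c) (Nat.ble 111 c)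
noncomputable def Btab_s_105_113 (c : Nat) : Nat := @Bool.rec (fun _ => Nat) (Btab_s_105_109 c) (Btab_s_109_113 c) (Nat.ble 109 c)
noncomputable def Btab_s_113_115 (c : Nat) : Nat := @Bool.rec (fun _ => Nat) (Btab_113) (Btab_114) (Nat.ble 114 c)
noncomputable def Btab_s_115_117 (c : Nat) : Nat := @Bool.rec (fun _ => Nat) (Btab_115) (Btab_116) (Nat.ble 116 c)
noncomputable def Btab_s_113_117 (c : Nat) : Nat := @Bool.rec (fun _ => Nat) (Btab_s_113_115 c) (Btab_s_115_117 c) (Nat.ble 115 c)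
noncomputable def Btab_s_117_119 (c : Nat) : Nat := @Bool.rec (fun _ => Nat) (Btab_117) (Btab_118) (Nat.ble 118 c)
noncomputable def Btab_s_120_122 (c : Nat) : Nat := @Bool.rec (fun _ => Nat) (Btab_120) (Btab_121) (Nat.ble 121 c)
noncomputable def Btab_s_119_122 (c : Nat) : Nat := @Bool.rec (fun _ => Nat) (Btab_119) (Btab_s_120_122 c) (Nat.ble 120 c)
noncomputable def Btab_s_117_122 (c : Nat) : Nat := @Bool.rec (fun _ => Nat) (Btab_s_117_119 c) (Btab_s_119_122 c) (Nat.ble 119 c)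
noncomputable def Btab_s_113_122 (c : Nat) : Nat := @Bool.rec (fun _ => Nat) (Btab_s_113_117 c) (Btab_s_117_122 c) (Nat.ble 117 c)
noncomputable def Btab_s_105_122 (c : Nat) : Nat := @Bool.rec (fun _ => Nat) (Btab_s_105_113 c) (Btab_s_113_122 c) (Nat.ble 113 c)
noncomputable def Btab_s_122_124 (c : Nat) : Nat := @Bool.rec (fun _ => Nat) (Btab_122) (Btab_123) (Nat.ble 123 c)
noncomputable def Btab_s_124_126 (c : Nat) : Nat := @Bool.rec (fun _ => Nat) (Btab_124) (Btab_125) (Nat.ble 125 c)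
noncomputable def Btab_s_122_126 (c : Nat) : Nat := @Bool.rec (fun _ => Nat) (Btab_s_122_124 c) (Btab_s_124_126 c) (Nat.ble 124 c)
noncomputable def Btab_s_126_128 (c : Nat) : Nat := @Bool.rec (fun _ => Nat) (Btab_126) (Btab_127) (Nat.ble 127 c)
noncomputable def Btab_s_129_131 (c : Nat) : Nat := @Bool.rec (fun _ => Nat) (Btab_129) (Btab_130) (Nat.ble 130 c)
noncomputable def Btab_s_128_131 (c : Nat) : Nat := @Bool.rec (fun _ => Nat) (Btab_128) (Btab_s_129_131 c) (Nat.ble 129 c)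
noncomputable def Btab_s_126_131 (c : Nat) : Nat := @Bool.rec (fun _ => Nat) (Btab_s_126_128 c) (Btab_s_128_131 c) (Nat.ble 128 c)
noncomputable def Btab_s_122_131 (c : Nat) : Nat := @Bool.rec (fun _ => Nat) (Btab_s_122_126 c) (Btab_s_126_131 c) (Nat.ble 126 c)
noncomputable def Btab_s_131_133 (c : Nat) : Nat := @Bool.rec (fun _ => Nat) (Btab_131) (Btab_132) (Nat.ble 132 c)
noncomputable def Btab_s_133_135 (c : Nat) : Nat := @Bool.rec (fun _ => Nat) (Btab_133) (Btab_134) (Nat.ble 134 c)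
noncomputable def Btab_s_131_135 (c : Nat) : Nat := @Bool.rec (fun _ => Nat) (Btab_s_131_133 c) (Btab_s_133_135 c) (Nat.ble 133 c)
noncomputable def Btab_s_135_137 (c : Nat) : Nat := @Bool.rec (fun _ => Nat) (Btab_135) (Btab_136) (Nat.ble 136 c)
noncomputable def Btab_s_138_140 (c : Nat) : Nat := @Bool.rec (fun _ => Nat) (Btab_138) (Btab_139) (Nat.ble 139 c)
noncomputable def Btab_s_137_140 (c : Nat) : Nat := @Bool.rec (fun _ => Nat) (Btab_137) (Btab_s_138_140 c) (Nat.ble 138 c)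
noncomputable def Btab_s_135_140 (c : Nat) : Nat := @Bool.rec (fun _ => Nat) (Btab_s_135_137 c) (Btab_s_137_140 c) (Nat.ble 137 c)
noncomputable def Btab_s_131_140 (c : Nat) : Nat := @Bool.rec (fun _ => Nat) (Btab_s_131_135 c) (Btab_s_135_140 c) (Nat.ble 135 c)
noncomputable def Btab_s_122_140 (c : Nat) : Nat := @Bool.rec (fun _ => Nat) (Btab_s_122_131 c) (Btab_s_131_140 c) (Nat.ble 131 c)
noncomputable def Btab_s_105_140 (c : Nat) : Nat := @Bool.rec (fun _ => Nat) (Btab_s_105_122 c) (Btab_s_122_140 c) (Nat.ble 122 c)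
noncomputable def Btab_s_70_140 (c : Nat) : Nat := @Bool.rec (fun _ => Nat) (Btab_s_70_105 c) (Btab_s_105_140 c) (Nat.ble 105 c)
noncomputable def Btab_s_0_140 (c : Nat) : Nat := @Bool.rec (fun _ => Nat) (Btab_s_0_70 c) (Btab_s_70_140 c) (Nat.ble 70 c)
noncomputable def Btab_s_140_142 (c : Nat) : Nat := @Bool.rec (fun _ => Nat) (Btab_140) (Btab_141) (Nat.ble 141 c)
noncomputable def Btab_s_142_144 (c : Nat) : Nat := @Bool.rec (fun _ => Nat) (Btab_142) (Btab_143) (Nat.ble 143 c)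
noncomputable def Btab_s_140_144 (c : Nat) : Nat := @Bool.rec (fun _ => Nat) (Btab_s_140_142 c) (Btab_s_142_144 c) (Nat.ble 142 c)
noncomputable def Btab_s_144_146 (c : Nat) : Nat := @Bool.rec (fun _ => Nat) (Btab_144) (Btab_145) (Nat.ble 145 c)
noncomputable def Btab_s_146_148 (c : Nat) : Nat := @Bool.rec (fun _ => Nat) (Btab_146) (Btab_147) (Nat.ble 147 c)
noncomputable def Btab_s_144_148 (c : Nat) : Nat := @Bool.rec (fun _ => Nat) (Btab_s_144_146 c) (Btab_s_146_148 c) (Nat.ble 146 c)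
noncomputable def Btab_s_140_148 (c : Nat) : Nat := @Bool.rec (fun _ => Nat) (Btab_s_140_144 c) (Btab_s_144_148 c) (Nat.ble 144 c)
noncomputable def Btab_s_148_150 (c : Nat) : Nat := @Bool.rec (fun _ => Nat) (Btab_148) (Btab_149) (Nat.ble 149 c)
noncomputable def Btab_s_150_152 (c : Nat) : Nat := @Bool.rec (fun _ => Nat) (Btab_150) (Btab_151) (Nat.ble 151 c)
noncomputable def Btab_s_148_152 (c : Nat) : Nat := @Bool.rec (fun _ => Nat) (Btab_s_148_150 c) (Btab_s_150_152 c) (Nat.ble 150 c)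
noncomputable def Btab_s_152_154 (c : Nat) : Nat := @Bool.rec (fun _ => Nat) (Btab_152) (Btab_153) (Nat.ble 153 c)
noncomputable def Btab_s_155_157 (c : Nat) : Nat := @Bool.rec (fun _ => Nat) (Btab_155) (Btab_156) (Nat.ble 156 c)
noncomputable def Btab_s_154_157 (c : Nat) : Nat := @Bool.rec (fun _ => Nat) (Btab_154) (Btab_s_155_157 c) (Nat.ble 155 c)
noncomputable def Btab_s_152_157 (c : Nat) : Nat := @Bool.rec (fun _ => Nat) (Btab_s_152_154 c) (Btab_s_154_157 c) (Nat.ble 154 c)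
noncomputable def Btab_s_148_157 (c : Nat) : Nat := @Bool.rec (fun _ => Nat) (Btab_s_148_152 c) (Btab_s_152_157 c) (Nat.ble 152 c)
noncomputable def Btab_s_140_157 (c : Nat) : Nat := @Bool.rec (fun _ => Nat) (Btab_s_140_148 c) (Btab_s_148_157 c) (Nat.ble 148 c)
noncomputable def Btab_s_157_159 (c : Nat) : Nat := @Bool.rec (fun _ => Nat) (Btab_157) (Btab_158) (Nat.ble 158 c)
noncomputable def Btab_s_159_161 (c : Nat) : Nat := @Bool.rec (fun _ => Nat) (Btab_159) (Btab_160) (Nat.ble 160 c)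
noncomputable def Btab_s_157_161 (c : Nat) : Nat := @Bool.rec (fun _ => Nat) (Btab_s_157_159 c) (Btab_s_159_161 c) (Nat.ble 159 c)
noncomputable def Btab_s_161_163 (c : Nat) : Nat := @Bool.rec (fun _ => Nat) (Btab_161) (Btab_162) (Nat.ble 162 c)
noncomputable def Btab_s_164_166 (c : Nat) : Nat := @Bool.rec (fun _ => Nat) (Btab_164) (Btab_165) (Nat.ble 165 c)
noncomputable def Btab_s_163_166 (c : Nat) : Nat := @Bool.rec (fun _ => Nat) (Btab_163) (Btab_s_164_166 c) (Nat.ble 164 c)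
noncomputable def Btab_s_161_166 (c : Nat) : Nat := @Bool.rec (fun _ => Nat) (Btab_s_161_163 c) (Btab_s_163_166 c) (Nat.ble 163 c)
noncomputable def Btab_s_157_166 (c : Nat) : Nat := @Bool.rec (fun _ => Nat) (Btab_s_157_161 c) (Btab_s_161_166 c) (Nat.ble 161 c)
noncomputable def Btab_s_166_168 (c : Nat) : Nat := @Bool.rec (fun _ => Nat) (Btab_166) (Btab_167) (Nat.ble 167 c)
noncomputable def Btab_s_168_170 (c : Nat) : Nat := @Bool.rec (fun _ => Nat) (Btab_168) (Btab_169) (Nat.ble 169 c)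
noncomputable def Btab_s_166_170 (c : Nat) : Nat := @Bool.rec (fun _ => Nat) (Btab_s_166_168 c) (Btab_s_168_170 c) (Nat.ble 168 c)
noncomputable def Btab_s_170_172 (c : Nat) : Nat := @Bool.rec (fun _ => Nat) (Btab_170) (Btab_171) (Nat.ble 171 c)
noncomputable def Btab_s_173_175 (c : Nat) : Nat := @Bool.rec (fun _ => Nat) (Btab_173) (Btab_174) (Nat.ble 174 c)
noncomputable def Btab_s_172_175 (c : Nat) : Nat := @Bool.rec (fun _ => Nat) (Btab_172) (Btab_s_173_175 c) (Nat.ble 173 c)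
noncomputable def Btab_s_170_175 (c : Nat) : Nat := @Bool.rec (fun _ => Nat) (Btab_s_170_172 c) (Btab_s_172_175 c) (Nat.ble 172 c)
noncomputable def Btab_s_166_175 (c : Nat) : Nat := @Bool.rec (fun _ => Nat) (Btab_s_166_170 c) (Btab_s_170_175 c) (Nat.ble 170 c)
noncomputable def Btab_s_157_175 (c : Nat) : Nat := @Bool.rec (fun _ => Nat) (Btab_s_157_166 c) (Btab_s_166_175 c) (Nat.ble 166 c)
noncomputable def Btab_s_140_175 (c : Nat) : Nat := @Bool.rec (fun _ => Nat) (Btab_s_140_157 c) (Btab_s_157_175 c) (Nat.ble 157 c)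
noncomputable def Btab_s_175_177 (c : Nat) : Nat := @Bool.rec (fun _ => Nat) (Btab_175) (Btab_176) (Nat.ble 176 c)
noncomputable def Btab_s_177_179 (c : Nat) : Nat := @Bool.rec (fun _ => Nat) (Btab_177) (Btab_178) (Nat.ble 178 c)
noncomputable def Btab_s_175_179 (c : Nat) : Nat := @Bool.rec (fun _ => Nat) (Btab_s_175_177 c) (Btab_s_177_179 c) (Nat.ble 177 c)
noncomputable def Btab_s_179_181 (c : Nat) : Nat := @Bool.rec (fun _ => Nat) (Btab_179) (Btab_180) (Nat.ble 180 c)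
noncomputable def Btab_s_181_183 (c : Nat) : Nat := @Bool.rec (fun _ => Nat) (Btab_181) (Btab_182) (Nat.ble 182 c)
noncomputable def Btab_s_179_183 (c : Nat) : Nat := @Bool.rec (fun _ => Nat) (Btab_s_179_181 c) (Btab_s_181_183 c) (Nat.ble 181 c)
noncomputable def Btab_s_175_183 (c : Nat) : Nat := @Bool.rec (fun _ => Nat) (Btab_s_175_179 c) (Btab_s_179_183 c) (Nat.ble 179 c)
noncomputable def Btab_s_183_185 (c : Nat) : Nat := @Bool.rec (fun _ => Nat) (Btab_183) (Btab_184) (Nat.ble 184 c)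
noncomputable def Btab_s_185_187 (c : Nat) : Nat := @Bool.rec (fun _ => Nat) (Btab_185) (Btab_186) (Nat.ble 186 c)
noncomputable def Btab_s_183_187 (c : Nat) : Nat := @Bool.rec (fun _ => Nat) (Btab_s_183_185 c) (Btab_s_185_187 c) (Nat.ble 185 c)
noncomputable def Btab_s_187_189 (c : Nat) : Nat := @Bool.rec (fun _ => Nat) (Btab_187) (Btab_188) (Nat.ble 188 c)
noncomputable def Btab_s_190_192 (c : Nat) : Nat := @Bool.rec (fun _ => Nat) (Btab_190) (Btab_191) (Nat.ble 191 c)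
noncomputable def Btab_s_189_192 (c : Nat) : Nat := @Bool.rec (fun _ => Nat) (Btab_189) (Btab_s_190_192 c) (Nat.ble 190 c)
noncomputable def Btab_s_187_192 (c : Nat) : Nat := @Bool.rec (fun _ => Nat) (Btab_s_187_189 c) (Btab_s_189_192 c) (Nat.ble 189 c)
noncomputable def Btab_s_183_192 (c : Nat) : Nat := @Bool.rec (fun _ => Nat) (Btab_s_183_187 c) (Btab_s_187_192 c) (Nat.ble 187 c)
noncomputable def Btab_s_175_192 (c : Nat) : Nat := @Bool.rec (fun _ => Nat) (Btab_s_175_183 c) (Btab_s_183_192 c) (Nat.ble 183 c)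
noncomputable def Btab_s_192_194 (c : Nat) : Nat := @Bool.rec (fun _ => Nat) (Btab_192) (Btab_193) (Nat.ble 193 c)
noncomputable def Btab_s_194_196 (c : Nat) : Nat := @Bool.rec (fun _ => Nat) (Btab_194) (Btab_195) (Nat.ble 195 c)
noncomputable def Btab_s_192_196 (c : Nat) : Nat := @Bool.rec (fun _ => Nat) (Btab_s_192_194 c) (Btab_s_194_196 c) (Nat.ble 194 c)
noncomputable def Btab_s_196_198 (c : Nat) : Nat := @Bool.rec (fun _ => Nat) (Btab_196) (Btab_197) (Nat.ble 197 c)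
noncomputable def Btab_s_199_201 (c : Nat) : Nat := @Bool.rec (fun _ => Nat) (Btab_199) (Btab_200) (Nat.ble 200 c)
noncomputable def Btab_s_198_201 (c : Nat) : Nat := @Bool.rec (fun _ => Nat) (Btab_198) (Btab_s_199_201 c) (Nat.ble 199 c)
noncomputable def Btab_s_196_201 (c : Nat) : Nat := @Bool.rec (fun _ => Nat) (Btab_s_196_198 c) (Btab_s_198_201 c) (Nat.ble 198 c)
noncomputable def Btab_s_192_201 (c : Nat) : Nat := @Bool.rec (fun _ => Nat) (Btab_s_192_196 c) (Btab_s_196_201 c) (Nat.ble 196 c)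
noncomputable def Btab_s_201_203 (c : Nat) : Nat := @Bool.rec (fun _ => Nat) (Btab_201) (Btab_202) (Nat.ble 202 c)
noncomputable def Btab_s_203_205 (c : Nat) : Nat := @Bool.rec (fun _ => Nat) (Btab_203) (Btab_204) (Nat.ble 204 c)
noncomputable def Btab_s_201_205 (c : Nat) : Nat := @Bool.rec (fun _ => Nat) (Btab_s_201_203 c) (Btab_s_203_205 c) (Nat.ble 203 c)
noncomputable def Btab_s_205_207 (c : Nat) : Nat := @Bool.rec (fun _ => Nat) (Btab_205) (Btab_206) (Nat.ble 206 c)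
noncomputable def Btab_s_208_210 (c : Nat) : Nat := @Bool.rec (fun _ => Nat) (Btab_208) (Btab_209) (Nat.ble 209 c)
noncomputable def Btab_s_207_210 (c : Nat) : Nat := @Bool.rec (fun _ => Nat) (Btab_207) (Btab_s_208_210 c) (Nat.ble 208 c)
noncomputable def Btab_s_205_210 (c : Nat) : Nat := @Bool.rec (fun _ => Nat) (Btab_s_205_207 c) (Btab_s_207_210 c) (Nat.ble 207 c)
noncomputable def Btab_s_201_210 (c : Nat) : Nat := @Bool.rec (fun _ => Nat) (Btab_s_201_205 c) (Btab_s_205_210 c) (Nat.ble 205 c)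
noncomputable def Btab_s_192_210 (c : Nat) : Nat := @Bool.rec (fun _ => Nat) (Btab_s_192_201 c) (Btab_s_201_210 c) (Nat.ble 201 c)
noncomputable def Btab_s_175_210 (c : Nat) : Nat := @Bool.rec (fun _ => Nat) (Btab_s_175_192 c) (Btab_s_192_210 c) (Nat.ble 192 c)
noncomputable def Btab_s_140_210 (c : Nat) : Nat := @Bool.rec (fun _ => Nat) (Btab_s_140_175 c) (Btab_s_175_210 c) (Nat.ble 175 c)
noncomputable def Btab_s_210_212 (c : Nat) : Nat := @Bool.rec (fun _ => Nat) (Btab_210) (Btab_211) (Nat.ble 211 c)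
noncomputable def Btab_s_212_214 (c : Nat) : Nat := @Bool.rec (fun _ => Nat) (Btab_212) (Btab_213) (Nat.ble 213 c)
noncomputable def Btab_s_210_214 (c : Nat) : Nat := @Bool.rec (fun _ => Nat) (Btab_s_210_212 c) (Btab_s_212_214 c) (Nat.ble 212 c)
noncomputable def Btab_s_214_216 (c : Nat) : Nat := @Bool.rec (fun _ => Nat) (Btab_214) (Btab_215) (Nat.ble 215 c)
noncomputable def Btab_s_216_218 (c : Nat) : Nat := @Bool.rec (fun _ => Nat) (Btab_216) (Btab_217) (Nat.ble 217 c)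
noncomputable def Btab_s_214_218 (c : Nat) : Nat := @Bool.rec (fun _ => Nat) (Btab_s_214_216 c) (Btab_s_216_218 c) (Nat.ble 216 c)
noncomputable def Btab_s_210_218 (c : Nat) : Nat := @Bool.rec (fun _ => Nat) (Btab_s_210_214 c) (Btab_s_214_218 c) (Nat.ble 214 c)
noncomputable def Btab_s_218_220 (c : Nat) : Nat := @Bool.rec (fun _ => Nat) (Btab_218) (Btab_219) (Nat.ble 219 c)
noncomputable def Btab_s_220_222 (c : Nat) : Nat := @Bool.rec (fun _ => Nat) (Btab_220) (Btab_221) (Nat.ble 221 c)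
noncomputable def Btab_s_218_222 (c : Nat) : Nat := @Bool.rec (fun _ => Nat) (Btab_s_218_220 c) (Btab_s_220_222 c) (Nat.ble 220 c)
noncomputable def Btab_s_222_224 (c : Nat) : Nat := @Bool.rec (fun _ => Nat) (Btab_222) (Btab_223) (Nat.ble 223 c)
noncomputable def Btab_s_225_227 (c : Nat) : Nat := @Bool.rec (fun _ => Nat) (Btab_225) (Btab_226) (Nat.ble 226 c)
noncomputable def Btab_s_224_227 (c : Nat) : Nat := @Bool.rec (fun _ => Nat) (Btab_224) (Btab_s_225_227 c) (Nat.ble 225 c)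
noncomputable def Btab_s_222_227 (c : Nat) : Nat := @Bool.rec (fun _ => Nat) (Btab_s_222_224 c) (Btab_s_224_227 c) (Nat.ble 224 c)
noncomputable def Btab_s_218_227 (c : Nat) : Nat := @Bool.rec (fun _ => Nat) (Btab_s_218_222 c) (Btab_s_222_227 c) (Nat.ble 222 c)
noncomputable def Btab_s_210_227 (c : Nat) : Nat := @Bool.rec (fun _ => Nat) (Btab_s_210_218 c) (Btab_s_218_227 c) (Nat.ble 218 c)
noncomputable def Btab_s_227_229 (c : Nat) : Nat := @Bool.rec (fun _ => Nat) (Btab_227) (Btab_228) (Nat.ble 228 c)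
noncomputable def Btab_s_229_231 (c : Nat) : Nat := @Bool.rec (fun _ => Nat) (Btab_229) (Btab_230) (Nat.ble 230 c)
noncomputable def Btab_s_227_231 (c : Nat) : Nat := @Bool.rec (fun _ => Nat) (Btab_s_227_229 c) (Btab_s_229_231 c) (Nat.ble 229 c)
noncomputable def Btab_s_231_233 (c : Nat) : Nat := @Bool.rec (fun _ => Nat) (Btab_231) (Btab_232) (Nat.ble 232 c)
noncomputable def Btab_s_234_236 (c : Nat) : Nat := @Bool.rec (fun _ => Nat) (Btab_234) (Btab_235) (Nat.ble 235 c)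
noncomputable def Btab_s_233_236 (c : Nat) : Nat := @Bool.rec (fun _ => Nat) (Btab_233) (Btab_s_234_236 c) (Nat.ble 234 c)
noncomputable def Btab_s_231_236 (c : Nat) : Nat := @Bool.rec (fun _ => Nat) (Btab_s_231_233 c) (Btab_s_233_236 c) (Nat.ble 233 c)
noncomputable def Btab_s_227_236 (c : Nat) : Nat := @Bool.rec (fun _ => Nat) (Btab_s_227_231 c) (Btab_s_231_236 c) (Nat.ble 231 c)
noncomputable def Btab_s_236_238 (c : Nat) : Nat := @Bool.rec (fun _ => Nat) (Btab_236) (Btab_237) (Nat.ble 237 c)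
noncomputable def Btab_s_238_240 (c : Nat) : Nat := @Bool.rec (fun _ => Nat) (Btab_238) (Btab_239) (Nat.ble 239 c)
noncomputable def Btab_s_236_240 (c : Nat) : Nat := @Bool.rec (fun _ => Nat) (Btab_s_236_238 c) (Btab_s_238_240 c) (Nat.ble 238 c)
noncomputable def Btab_s_240_242 (c : Nat) : Nat := @Bool.rec (fun _ => Nat) (Btab_240) (Btab_241) (Nat.ble 241 c)
noncomputable def Btab_s_243_245 (c : Nat) : Nat := @Bool.rec (fun _ => Nat) (Btab_243) (Btab_244) (Nat.ble 244 c)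
noncomputable def Btab_s_242_245 (c : Nat) : Nat := @Bool.rec (fun _ => Nat) (Btab_242) (Btab_s_243_245 c) (Nat.ble 243 c)
noncomputable def Btab_s_240_245 (c : Nat) : Nat := @Bool.rec (fun _ => Nat) (Btab_s_240_242 c) (Btab_s_242_245 c) (Nat.ble 242 c)
noncomputable def Btab_s_236_245 (c : Nat) : Nat := @Bool.rec (fun _ => Nat) (Btab_s_236_240 c) (Btab_s_240_245 c) (Nat.ble 240 c)
noncomputable def Btab_s_227_245 (c : Nat) : Nat := @Bool.rec (fun _ => Nat) (Btab_s_227_236 c) (Btab_s_236_245 c) (Nat.ble 236 c)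
noncomputable def Btab_s_210_245 (c : Nat) : Nat := @Bool.rec (fun _ => Nat) (Btab_s_210_227 c) (Btab_s_227_245 c) (Nat.ble 227 c)
noncomputable def Btab_s_245_247 (c : Nat) : Nat := @Bool.rec (fun _ => Nat) (Btab_245) (Btab_246) (Nat.ble 246 c)
noncomputable def Btab_s_247_249 (c : Nat) : Nat := @Bool.rec (fun _ => Nat) (Btab_247) (Btab_248) (Nat.ble 248 c)
noncomputable def Btab_s_245_249 (c : Nat) : Nat := @Bool.rec (fun _ => Nat) (Btab_s_245_247 c) (Btab_s_247_249 c) (Nat.ble 247 c)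
noncomputable def Btab_s_249_251 (c : Nat) : Nat := @Bool.rec (fun _ => Nat) (Btab_249) (Btab_250) (Nat.ble 250 c)
noncomputable def Btab_s_251_253 (c : Nat) : Nat := @Bool.rec (fun _ => Nat) (Btab_251) (Btab_252) (Nat.ble 252 c)
noncomputable def Btab_s_249_253 (c : Nat) : Nat := @Bool.rec (fun _ => Nat) (Btab_s_249_251 c) (Btab_s_251_253 c) (Nat.ble 251 c)
noncomputable def Btab_s_245_253 (c : Nat) : Nat := @Bool.rec (fun _ => Nat) (Btab_s_245_249 c) (Btab_s_249_253 c) (Nat.ble 249 c)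
noncomputable def Btab_s_253_255 (c : Nat) : Nat := @Bool.rec (fun _ => Nat) (Btab_253) (Btab_254) (Nat.ble 254 c)
noncomputable def Btab_s_255_257 (c : Nat) : Nat := @Bool.rec (fun _ => Nat) (Btab_255) (Btab_256) (Nat.ble 256 c)
noncomputable def Btab_s_253_257 (c : Nat) : Nat := @Bool.rec (fun _ => Nat) (Btab_s_253_255 c) (Btab_s_255_257 c) (Nat.ble 255 c)
noncomputable def Btab_s_257_259 (c : Nat) : Nat := @Bool.rec (fun _ => Nat) (Btab_257) (Btab_258) (Nat.ble 258 c)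
noncomputable def Btab_s_260_262 (c : Nat) : Nat := @Bool.rec (fun _ => Nat) (Btab_260) (Btab_261) (Nat.ble 261 c)
noncomputable def Btab_s_259_262 (c : Nat) : Nat := @Bool.rec (fun _ => Nat) (Btab_259) (Btab_s_260_262 c) (Nat.ble 260 c)
noncomputable def Btab_s_257_262 (c : Nat) : Nat := @Bool.rec (fun _ => Nat) (Btab_s_257_259 c) (Btab_s_259_262 c) (Nat.ble 259 c)
noncomputable def Btab_s_253_262 (c : Nat) : Nat := @Bool.rec (fun _ => Nat) (Btab_s_253_257 c) (Btab_s_257_262 c) (Nat.ble 257 c)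
noncomputable def Btab_s_245_262 (c : Nat) : Nat := @Bool.rec (fun _ => Nat) (Btab_s_245_253 c) (Btab_s_253_262 c) (Nat.ble 253 c)
noncomputable def Btab_s_262_264 (c : Nat) : Nat := @Bool.rec (fun _ => Nat) (Btab_262) (Btab_263) (Nat.ble 263 c)
noncomputable def Btab_s_264_266 (c : Nat) : Nat := @Bool.rec (fun _ => Nat) (Btab_264) (Btab_265) (Nat.ble 265 c)
noncomputable def Btab_s_262_266 (c : Nat) : Nat := @Bool.rec (fun _ => Nat) (Btab_s_262_264 c) (Btab_s_264_266 c) (Nat.ble 264 c)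
noncomputable def Btab_s_266_268 (c : Nat) : Nat := @Bool.rec (fun _ => Nat) (Btab_266) (Btab_267) (Nat.ble 267 c)
noncomputable def Btab_s_269_271 (c : Nat) : Nat := @Bool.rec (fun _ => Nat) (Btab_269) (Btab_270) (Nat.ble 270 c)
noncomputable def Btab_s_268_271 (c : Nat) : Nat := @Bool.rec (fun _ => Nat) (Btab_268) (Btab_s_269_271 c) (Nat.ble 269 c)
noncomputable def Btab_s_266_271 (c : Nat) : Nat := @Bool.rec (fun _ => Nat) (Btab_s_266_268 c) (Btab_s_268_271 c) (Nat.ble 268 c)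
noncomputable def Btab_s_262_271 (c : Nat) : Nat := @Bool.rec (fun _ => Nat) (Btab_s_262_266 c) (Btab_s_266_271 c) (Nat.ble 266 c)
noncomputable def Btab_s_271_273 (c : Nat) : Nat := @Bool.rec (fun _ => Nat) (Btab_271) (Btab_272) (Nat.ble 272 c)
noncomputable def Btab_s_273_275 (c : Nat) : Nat := @Bool.rec (fun _ => Nat) (Btab_273) (Btab_274) (Nat.ble 274 c)
noncomputable def Btab_s_271_275 (c : Nat) : Nat := @Bool.rec (fun _ => Nat) (Btab_s_271_273 c) (Btab_s_273_275 c) (Nat.ble 273 c)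
noncomputable def Btab_s_275_277 (c : Nat) : Nat := @Bool.rec (fun _ => Nat) (Btab_275) (Btab_276) (Nat.ble 276 c)
noncomputable def Btab_s_278_280 (c : Nat) : Nat := @Bool.rec (fun _ => Nat) (Btab_278) (Btab_279) (Nat.ble 279 c)
noncomputable def Btab_s_277_280 (c : Nat) : Nat := @Bool.rec (fun _ => Nat) (Btab_277) (Btab_s_278_280 c) (Nat.ble 278 c)
noncomputable def Btab_s_275_280 (c : Nat) : Nat := @Bool.rec (fun _ => Nat) (Btab_s_275_277 c) (Btab_s_277_280 c) (Nat.ble 277 c)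
noncomputable def Btab_s_271_280 (c : Nat) : Nat := @Bool.rec (fun _ => Nat) (Btab_s_271_275 c) (Btab_s_275_280 c) (Nat.ble 275 c)
noncomputable def Btab_s_262_280 (c : Nat) : Nat := @Bool.rec (fun _ => Nat) (Btab_s_262_271 c) (Btab_s_271_280 c) (Nat.ble 271 c)
noncomputable def Btab_s_245_280 (c : Nat) : Nat := @Bool.rec (fun _ => Nat) (Btab_s_245_262 c) (Btab_s_262_280 c) (Nat.ble 262 c)
noncomputable def Btab_s_210_280 (c : Nat) : Nat := @Bool.rec (fun _ => Nat) (Btab_s_210_245 c) (Btab_s_245_280 c) (Nat.ble 245 c)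
noncomputable def Btab_s_140_280 (c : Nat) : Nat := @Bool.rec (fun _ => Nat) (Btab_s_140_210 c) (Btab_s_210_280 c) (Nat.ble 210 c)
noncomputable def Btab_s_0_280 (c : Nat) : Nat := @Bool.rec (fun _ => Nat) (Btab_s_0_140 c) (Btab_s_140_280 c) (Nat.ble 140 c)
noncomputable def Btab (i : Nat) : Nat := rdw 41 2199023255551 (Btab_s_0_280 (Nat.shiftRight i 11)) (Nat.land i 2047)
noncomputable def Ptab_s_1_3 (c : Nat) : Nat := @Bool.rec (fun _ => Nat) (Ptab_1) (Ptab_2) (Nat.ble 2 c)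
noncomputable def Ptab_s_0_3 (c : Nat) : Nat := @Bool.rec (fun _ => Nat) (Ptab_0) (Ptab_s_1_3 c) (Nat.ble 1 c)
noncomputable def Ptab_s_4_6 (c : Nat) : Nat := @Bool.rec (fun _ => Nat) (Ptab_4) (Ptab_5) (Nat.ble 5 c)
noncomputable def Ptab_s_3_6 (c : Nat) : Nat := @Bool.rec (fun _ => Nat) (Ptab_3) (Ptab_s_4_6 c) (Nat.ble 4 c)
noncomputable def Ptab_s_0_6 (c : Nat) : Nat := @Bool.rec (fun _ => Nat) (Ptab_s_0_3 c) (Ptab_s_3_6 c) (Nat.ble 3 c)
noncomputable def Ptab_s_7_9 (c : Nat) : Nat := @Bool.rec (fun _ => Nat) (Ptab_7) (Ptab_8) (Nat.ble 8 c)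
noncomputable def Ptab_s_6_9 (c : Nat) : Nat := @Bool.rec (fun _ => Nat) (Ptab_6) (Ptab_s_7_9 c) (Nat.ble 7 c)
noncomputable def Ptab_s_9_11 (c : Nat) : Nat := @Bool.rec (fun _ => Nat) (Ptab_9) (Ptab_10) (Nat.ble 10 c)
noncomputable def Ptab_s_11_13 (c : Nat) : Nat := @Bool.rec (fun _ => Nat) (Ptab_11) (Ptab_12) (Nat.ble 12 c)
noncomputable def Ptab_s_9_13 (c : Nat) : Nat := @Bool.rec (fun _ => Nat) (Ptab_s_9_11 c) (Ptab_s_11_13 c) (Nat.ble 11 c)
noncomputable def Ptab_s_6_13 (c : Nat) : Nat := @Bool.rec (fun _ => Nat) (Ptab_s_6_9 c) (Ptab_s_9_13 c) (Nat.ble 9 c)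
noncomputable def Ptab_s_0_13 (c : Nat) : Nat := @Bool.rec (fun _ => Nat) (Ptab_s_0_6 c) (Ptab_s_6_13 c) (Nat.ble 6 c)
noncomputable def Ptab_s_14_16 (c : Nat) : Nat := @Bool.rec (fun _ => Nat) (Ptab_14) (Ptab_15) (Nat.ble 15 c)
noncomputable def Ptab_s_13_16 (c : Nat) : Nat := @Bool.rec (fun _ => Nat) (Ptab_13) (Ptab_s_14_16 c) (Nat.ble 14 c)
noncomputable def Ptab_s_17_19 (c : Nat) : Nat := @Bool.rec (fun _ => Nat) (Ptab_17) (Ptab_18) (Nat.ble 18 c)
noncomputable def Ptab_s_16_19 (c : Nat) : Nat := @Bool.rec (fun _ => Nat) (Ptab_16) (Ptab_s_17_19 c) (Nat.ble 17 c)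
noncomputable def Ptab_s_13_19 (c : Nat) : Nat := @Bool.rec (fun _ => Nat) (Ptab_s_13_16 c) (Ptab_s_16_19 c) (Nat.ble 16 c)
noncomputable def Ptab_s_20_22 (c : Nat) : Nat := @Bool.rec (fun _ => Nat) (Ptab_20) (Ptab_21) (Nat.ble 21 c)
noncomputable def Ptab_s_19_22 (c : Nat) : Nat := @Bool.rec (fun _ => Nat) (Ptab_19) (Ptab_s_20_22 c) (Nat.ble 20 c)
noncomputable def Ptab_s_22_24 (c : Nat) : Nat := @Bool.rec (fun _ => Nat) (Ptab_22) (Ptab_23) (Nat.ble 23 c)
noncomputable def Ptab_s_24_26 (c : Nat) : Nat := @Bool.rec (fun _ => Nat) (Ptab_24) (Ptab_25) (Nat.ble 25 c)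
noncomputable def Ptab_s_22_26 (c : Nat) : Nat := @Bool.rec (fun _ => Nat) (Ptab_s_22_24 c) (Ptab_s_24_26 c) (Nat.ble 24 c)
noncomputable def Ptab_s_19_26 (c : Nat) : Nat := @Bool.rec (fun _ => Nat) (Ptab_s_19_22 c) (Ptab_s_22_26 c) (Nat.ble 22 c)
noncomputable def Ptab_s_13_26 (c : Nat) : Nat := @Bool.rec (fun _ => Nat) (Ptab_s_13_19 c) (Ptab_s_19_26 c) (Nat.ble 19 c)
noncomputable def Ptab_s_0_26 (c : Nat) : Nat := @Bool.rec (fun _ => Nat) (Ptab_s_0_13 c) (Ptab_s_13_26 c) (Nat.ble 13 c)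
noncomputable def Ptab_s_27_29 (c : Nat) : Nat := @Bool.rec (fun _ => Nat) (Ptab_27) (Ptab_28) (Nat.ble 28 c)
noncomputable def Ptab_s_26_29 (c : Nat) : Nat := @Bool.rec (fun _ => Nat) (Ptab_26) (Ptab_s_27_29 c) (Nat.ble 27 c)
noncomputable def Ptab_s_30_32 (c : Nat) : Nat := @Bool.rec (fun _ => Nat) (Ptab_30) (Ptab_31) (Nat.ble 31 c)
noncomputable def Ptab_s_29_32 (c : Nat) : Nat := @Bool.rec (fun _ => Nat) (Ptab_29) (Ptab_s_30_32 c) (Nat.ble 30 c)
noncomputable def Ptab_s_26_32 (c : Nat) : Nat := @Bool.rec (fun _ => Nat) (Ptab_s_26_29 c) (Ptab_s_29_32 c) (Nat.ble 29 c)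
noncomputable def Ptab_s_33_35 (c : Nat) : Nat := @Bool.rec (fun _ => Nat) (Ptab_33) (Ptab_34) (Nat.ble 34 c)
noncomputable def Ptab_s_32_35 (c : Nat) : Nat := @Bool.rec (fun _ => Nat) (Ptab_32) (Ptab_s_33_35 c) (Nat.ble 33 c)
noncomputable def Ptab_s_35_37 (c : Nat) : Nat := @Bool.rec (fun _ => Nat) (Ptab_35) (Ptab_36) (Nat.ble 36 c)
noncomputable def Ptab_s_37_39 (c : Nat) : Nat := @Bool.rec (fun _ => Nat) (Ptab_37) (Ptab_38) (Nat.ble 38 c)
noncomputable def Ptab_s_35_39 (c : Nat) : Nat := @Bool.rec (fun _ => Nat) (Ptab_s_35_37 c) (Ptab_s_37_39 c) (Nat.ble 37 c)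
noncomputable def Ptab_s_32_39 (c : Nat) : Nat := @Bool.rec (fun _ => Nat) (Ptab_s_32_35 c) (Ptab_s_35_39 c) (Nat.ble 35 c)
noncomputable def Ptab_s_26_39 (c : Nat) : Nat := @Bool.rec (fun _ => Nat) (Ptab_s_26_32 c) (Ptab_s_32_39 c) (Nat.ble 32 c)
noncomputable def Ptab_s_40_42 (c : Nat) : Nat := @Bool.rec (fun _ => Nat) (Ptab_40) (Ptab_41) (Nat.ble 41 c)
noncomputable def Ptab_s_39_42 (c : Nat) : Nat := @Bool.rec (fun _ => Nat) (Ptab_39) (Ptab_s_40_42 c) (Nat.ble 40 c)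
noncomputable def Ptab_s_42_44 (c : Nat) : Nat := @Bool.rec (fun _ => Nat) (Ptab_42) (Ptab_43) (Nat.ble 43 c)
noncomputable def Ptab_s_44_46 (c : Nat) : Nat := @Bool.rec (fun _ => Nat) (Ptab_44) (Ptab_45) (Nat.ble 45 c)
noncomputable def Ptab_s_42_46 (c : Nat) : Nat := @Bool.rec (fun _ => Nat) (Ptab_s_42_44 c) (Ptab_s_44_46 c) (Nat.ble 44 c)
noncomputable def Ptab_s_39_46 (c : Nat) : Nat := @Bool.rec (fun _ => Nat) (Ptab_s_39_42 c) (Ptab_s_42_46 c) (Nat.ble 42 c)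
noncomputable def Ptab_s_47_49 (c : Nat) : Nat := @Bool.rec (fun _ => Nat) (Ptab_47) (Ptab_48) (Nat.ble 48 c)
noncomputable def Ptab_s_46_49 (c : Nat) : Nat := @Bool.rec (fun _ => Nat) (Ptab_46) (Ptab_s_47_49 c) (Nat.ble 47 c)
noncomputable def Ptab_s_49_51 (c : Nat) : Nat := @Bool.rec (fun _ => Nat) (Ptab_49) (Ptab_50) (Nat.ble 50 c)
noncomputable def Ptab_s_51_53 (c : Nat) : Nat := @Bool.rec (fun _ => Nat) (Ptab_51) (Ptab_52) (Nat.ble 52 c)
noncomputable def Ptab_s_49_53 (c : Nat) : Nat := @Bool.rec (fun _ => Nat) (Ptab_s_49_51 c) (Ptab_s_51_53 c) (Nat.ble 51 c)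
noncomputable def Ptab_s_46_53 (c : Nat) : Nat := @Bool.rec (fun _ => Nat) (Ptab_s_46_49 c) (Ptab_s_49_53 c) (Nat.ble 49 c)
noncomputable def Ptab_s_39_53 (c : Nat) : Nat := @Bool.rec (fun _ => Nat) (Ptab_s_39_46 c) (Ptab_s_46_53 c) (Nat.ble 46 c)
noncomputable def Ptab_s_26_53 (c : Nat) : Nat := @Bool.rec (fun _ => Nat) (Ptab_s_26_39 c) (Ptab_s_39_53 c) (Nat.ble 39 c)
noncomputable def Ptab_s_0_53 (c : Nat) : Nat := @Bool.rec (fun _ => Nat) (Ptab_s_0_26 c) (Ptab_s_26_53 c) (Nat.ble 26 c)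
noncomputable def Ptab_s_54_56 (c : Nat) : Nat := @Bool.rec (fun _ => Nat) (Ptab_54) (Ptab_55) (Nat.ble 55 c)
noncomputable def Ptab_s_53_56 (c : Nat) : Nat := @Bool.rec (fun _ => Nat) (Ptab_53) (Ptab_s_54_56 c) (Nat.ble 54 c)
noncomputable def Ptab_s_57_59 (c : Nat) : Nat := @Bool.rec (fun _ => Nat) (Ptab_57) (Ptab_58) (Nat.ble 58 c)
noncomputable def Ptab_s_56_59 (c : Nat) : Nat := @Bool.rec (fun _ => Nat) (Ptab_56) (Ptab_s_57_59 c) (Nat.ble 57 c)
noncomputable def Ptab_s_53_59 (c : Nat) : Nat := @Bool.rec (fun _ => Nat) (Ptab_s_53_56 c) (Ptab_s_56_59 c) (Nat.ble 56 c)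
noncomputable def Ptab_s_60_62 (c : Nat) : Nat := @Bool.rec (fun _ => Nat) (Ptab_60) (Ptab_61) (Nat.ble 61 c)
noncomputable def Ptab_s_59_62 (c : Nat) : Nat := @Bool.rec (fun _ => Nat) (Ptab_59) (Ptab_s_60_62 c) (Nat.ble 60 c)
noncomputable def Ptab_s_62_64 (c : Nat) : Nat := @Bool.rec (fun _ => Nat) (Ptab_62) (Ptab_63) (Nat.ble 63 c)
noncomputable def Ptab_s_64_66 (c : Nat) : Nat := @Bool.rec (fun _ => Nat) (Ptab_64) (Ptab_65) (Nat.ble 65 c)
noncomputable def Ptab_s_62_66 (c : Nat) : Nat := @Bool.rec (fun _ => Nat) (Ptab_s_62_64 c) (Ptab_s_64_66 c) (Nat.ble 64 c)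
noncomputable def Ptab_s_59_66 (c : Nat) : Nat := @Bool.rec (fun _ => Nat) (Ptab_s_59_62 c) (Ptab_s_62_66 c) (Nat.ble 62 c)
noncomputable def Ptab_s_53_66 (c : Nat) : Nat := @Bool.rec (fun _ => Nat) (Ptab_s_53_59 c) (Ptab_s_59_66 c) (Nat.ble 59 c)
noncomputable def Ptab_s_67_69 (c : Nat) : Nat := @Bool.rec (fun _ => Nat) (Ptab_67) (Ptab_68) (Nat.ble 68 c)
noncomputable def Ptab_s_66_69 (c : Nat) : Nat := @Bool.rec (fun _ => Nat) (Ptab_66) (Ptab_s_67_69 c) (Nat.ble 67 c)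
noncomputable def Ptab_s_70_72 (c : Nat) : Nat := @Bool.rec (fun _ => Nat) (Ptab_70) (Ptab_71) (Nat.ble 71 c)
noncomputable def Ptab_s_69_72 (c : Nat) : Nat := @Bool.rec (fun _ => Nat) (Ptab_69) (Ptab_s_70_72 c) (Nat.ble 70 c)
noncomputable def Ptab_s_66_72 (c : Nat) : Nat := @Bool.rec (fun _ => Nat) (Ptab_s_66_69 c) (Ptab_s_69_72 c) (Nat.ble 69 c)
noncomputable def Ptab_s_73_75 (c : Nat) : Nat := @Bool.rec (fun _ => Nat) (Ptab_73) (Ptab_74) (Nat.ble 74 c)
noncomputable def Ptab_s_72_75 (c : Nat) : Nat := @Bool.rec (fun _ => Nat) (Ptab_72) (Ptab_s_73_75 c) (Nat.ble 73 c)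
noncomputable def Ptab_s_75_77 (c : Nat) : Nat := @Bool.rec (fun _ => Nat) (Ptab_75) (Ptab_76) (Nat.ble 76 c)
noncomputable def Ptab_s_77_79 (c : Nat) : Nat := @Bool.rec (fun _ => Nat) (Ptab_77) (Ptab_78) (Nat.ble 78 c)
noncomputable def Ptab_s_75_79 (c : Nat) : Nat := @Bool.rec (fun _ => Nat) (Ptab_s_75_77 c) (Ptab_s_77_79 c) (Nat.ble 77 c)
noncomputable def Ptab_s_72_79 (c : Nat) : Nat := @Bool.rec (fun _ => Nat) (Ptab_s_72_75 c) (Ptab_s_75_79 c) (Nat.ble 75 c)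
noncomputable def Ptab_s_66_79 (c : Nat) : Nat := @Bool.rec (fun _ => Nat) (Ptab_s_66_72 c) (Ptab_s_72_79 c) (Nat.ble 72 c)
noncomputable def Ptab_s_53_79 (c : Nat) : Nat := @Bool.rec (fun _ => Nat) (Ptab_s_53_66 c) (Ptab_s_66_79 c) (Nat.ble 66 c)
noncomputable def Ptab_s_80_82 (c : Nat) : Nat := @Bool.rec (fun _ => Nat) (Ptab_80) (Ptab_81) (Nat.ble 81 c)
noncomputable def Ptab_s_79_82 (c : Nat) : Nat := @Bool.rec (fun _ => Nat) (Ptab_79) (Ptab_s_80_82 c) (Nat.ble 80 c)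
noncomputable def Ptab_s_83_85 (c : Nat) : Nat := @Bool.rec (fun _ => Nat) (Ptab_83) (Ptab_84) (Nat.ble 84 c)
noncomputable def Ptab_s_82_85 (c : Nat) : Nat := @Bool.rec (fun _ => Nat) (Ptab_82) (Ptab_s_83_85 c) (Nat.ble 83 c)
noncomputable def Ptab_s_79_85 (c : Nat) : Nat := @Bool.rec (fun _ => Nat) (Ptab_s_79_82 c) (Ptab_s_82_85 c) (Nat.ble 82 c)
noncomputable def Ptab_s_86_88 (c : Nat) : Nat := @Bool.rec (fun _ => Nat) (Ptab_86) (Ptab_87) (Nat.ble 87 c)
noncomputable def Ptab_s_85_88 (c : Nat) : Nat := @Bool.rec (fun _ => Nat) (Ptab_85) (Ptab_s_86_88 c) (Nat.ble 86 c)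
noncomputable def Ptab_s_88_90 (c : Nat) : Nat := @Bool.rec (fun _ => Nat) (Ptab_88) (Ptab_89) (Nat.ble 89 c)
noncomputable def Ptab_s_90_92 (c : Nat) : Nat := @Bool.rec (fun _ => Nat) (Ptab_90) (Ptab_91) (Nat.ble 91 c)
noncomputable def Ptab_s_88_92 (c : Nat) : Nat := @Bool.rec (fun _ => Nat) (Ptab_s_88_90 c) (Ptab_s_90_92 c) (Nat.ble 90 c)
noncomputable def Ptab_s_85_92 (c : Nat) : Nat := @Bool.rec (fun _ => Nat) (Ptab_s_85_88 c) (Ptab_s_88_92 c) (Nat.ble 88 c)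
noncomputable def Ptab_s_79_92 (c : Nat) : Nat := @Bool.rec (fun _ => Nat) (Ptab_s_79_85 c) (Ptab_s_85_92 c) (Nat.ble 85 c)
noncomputable def Ptab_s_93_95 (c : Nat) : Nat := @Bool.rec (fun _ => Nat) (Ptab_93) (Ptab_94) (Nat.ble 94 c)
noncomputable def Ptab_s_92_95 (c : Nat) : Nat := @Bool.rec (fun _ => Nat) (Ptab_92) (Ptab_s_93_95 c) (Nat.ble 93 c)
noncomputable def Ptab_s_95_97 (c : Nat) : Nat := @Bool.rec (fun _ => Nat) (Ptab_95) (Ptab_96) (Nat.ble 96 c)
noncomputable def Ptab_s_97_99 (c : Nat) : Nat := @Bool.rec (fun _ => Nat) (Ptab_97) (Ptab_98) (Nat.ble 98 c)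
noncomputable def Ptab_s_95_99 (c : Nat) : Nat := @Bool.rec (fun _ => Nat) (Ptab_s_95_97 c) (Ptab_s_97_99 c) (Nat.ble 97 c)
noncomputable def Ptab_s_92_99 (c : Nat) : Nat := @Bool.rec (fun _ => Nat) (Ptab_s_92_95 c) (Ptab_s_95_99 c) (Nat.ble 95 c)
noncomputable def Ptab_s_100_102 (c : Nat) : Nat := @Bool.rec (fun _ => Nat) (Ptab_100) (Ptab_101) (Nat.ble 101 c)
noncomputable def Ptab_s_99_102 (c : Nat) : Nat := @Bool.rec (fun _ => Nat) (Ptab_99) (Ptab_s_100_102 c) (Nat.ble 100 c)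
noncomputable def Ptab_s_102_104 (c : Nat) : Nat := @Bool.rec (fun _ => Nat) (Ptab_102) (Ptab_103) (Nat.ble 103 c)
noncomputable def Ptab_s_104_106 (c : Nat) : Nat := @Bool.rec (fun _ => Nat) (Ptab_104) (Ptab_105) (Nat.ble 105 c)
noncomputable def Ptab_s_102_106 (c : Nat) : Nat := @Bool.rec (fun _ => Nat) (Ptab_s_102_104 c) (Ptab_s_104_106 c) (Nat.ble 104 c)
noncomputable def Ptab_s_99_106 (c : Nat) : Nat := @Bool.rec (fun _ => Nat) (Ptab_s_99_102 c) (Ptab_s_102_106 c) (Nat.ble 102 c)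
noncomputable def Ptab_s_92_106 (c : Nat) : Nat := @Bool.rec (fun _ => Nat) (Ptab_s_92_99 c) (Ptab_s_99_106 c) (Nat.ble 99 c)
noncomputable def Ptab_s_79_106 (c : Nat) : Nat := @Bool.rec (fun _ => Nat) (Ptab_s_79_92 c) (Ptab_s_92_106 c) (Nat.ble 92 c)
noncomputable def Ptab_s_53_106 (c : Nat) : Nat := @Bool.rec (fun _ => Nat) (Ptab_s_53_79 c) (Ptab_s_79_106 c) (Nat.ble 79 c)
noncomputable def Ptab_s_0_106 (c : Nat) : Nat := @Bool.rec (fun _ => Nat) (Ptab_s_0_53 c) (Ptab_s_53_106 c) (Nat.ble 53 c)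
noncomputable def Ptab_s_107_109 (c : Nat) : Nat := @Bool.rec (fun _ => Nat) (Ptab_107) (Ptab_108) (Nat.ble 108 c)
noncomputable def Ptab_s_106_109 (c : Nat) : Nat := @Bool.rec (fun _ => Nat) (Ptab_106) (Ptab_s_107_109 c) (Nat.ble 107 c)
noncomputable def Ptab_s_110_112 (c : Nat) : Nat := @Bool.rec (fun _ => Nat) (Ptab_110) (Ptab_111) (Nat.ble 111 c)
noncomputable def Ptab_s_109_112 (c : Nat) : Nat := @Bool.rec (fun _ => Nat) (Ptab_109) (Ptab_s_110_112 c) (Nat.ble 110 c)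
noncomputable def Ptab_s_106_112 (c : Nat) : Nat := @Bool.rec (fun _ => Nat) (Ptab_s_106_109 c) (Ptab_s_109_112 c) (Nat.ble 109 c)
noncomputable def Ptab_s_113_115 (c : Nat) : Nat := @Bool.rec (fun _ => Nat) (Ptab_113) (Ptab_114) (Nat.ble 114 c)
noncomputable def Ptab_s_112_115 (c : Nat) : Nat := @Bool.rec (fun _ => Nat) (Ptab_112) (Ptab_s_113_115 c) (Nat.ble 113 c)
noncomputable def Ptab_s_115_117 (c : Nat) : Nat := @Bool.rec (fun _ => Nat) (Ptab_115) (Ptab_116) (Nat.ble 116 c)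
noncomputable def Ptab_s_117_119 (c : Nat) : Nat := @Bool.rec (fun _ => Nat) (Ptab_117) (Ptab_118) (Nat.ble 118 c)
noncomputable def Ptab_s_115_119 (c : Nat) : Nat := @Bool.rec (fun _ => Nat) (Ptab_s_115_117 c) (Ptab_s_117_119 c) (Nat.ble 117 c)
noncomputable def Ptab_s_112_119 (c : Nat) : Nat := @Bool.rec (fun _ => Nat) (Ptab_s_112_115 c) (Ptab_s_115_119 c) (Nat.ble 115 c)
noncomputable def Ptab_s_106_119 (c : Nat) : Nat := @Bool.rec (fun _ => Nat) (Ptab_s_106_112 c) (Ptab_s_112_119 c) (Nat.ble 112 c)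
noncomputable def Ptab_s_120_122 (c : Nat) : Nat := @Bool.rec (fun _ => Nat) (Ptab_120) (Ptab_121) (Nat.ble 121 c)
noncomputable def Ptab_s_119_122 (c : Nat) : Nat := @Bool.rec (fun _ => Nat) (Ptab_119) (Ptab_s_120_122 c) (Nat.ble 120 c)
noncomputable def Ptab_s_123_125 (c : Nat) : Nat := @Bool.rec (fun _ => Nat) (Ptab_123) (Ptab_124) (Nat.ble 124 c)
noncomputable def Ptab_s_122_125 (c : Nat) : Nat := @Bool.rec (fun _ => Nat) (Ptab_122) (Ptab_s_123_125 c) (Nat.ble 123 c)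
noncomputable def Ptab_s_119_125 (c : Nat) : Nat := @Bool.rec (fun _ => Nat) (Ptab_s_119_122 c) (Ptab_s_122_125 c) (Nat.ble 122 c)
noncomputable def Ptab_s_126_128 (c : Nat) : Nat := @Bool.rec (fun _ => Nat) (Ptab_126) (Ptab_127) (Nat.ble 127 c)
noncomputable def Ptab_s_125_128 (c : Nat) : Nat := @Bool.rec (fun _ => Nat) (Ptab_125) (Ptab_s_126_128 c) (Nat.ble 126 c)
noncomputable def Ptab_s_128_130 (c : Nat) : Nat := @Bool.rec (fun _ => Nat) (Ptab_128) (Ptab_129) (Nat.ble 129 c)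
noncomputable def Ptab_s_130_132 (c : Nat) : Nat := @Bool.rec (fun _ => Nat) (Ptab_130) (Ptab_131) (Nat.ble 131 c)
noncomputable def Ptab_s_128_132 (c : Nat) : Nat := @Bool.rec (fun _ => Nat) (Ptab_s_128_130 c) (Ptab_s_130_132 c) (Nat.ble 130 c)
noncomputable def Ptab_s_125_132 (c : Nat) : Nat := @Bool.rec (fun _ => Nat) (Ptab_s_125_128 c) (Ptab_s_128_132 c) (Nat.ble 128 c)
noncomputable def Ptab_s_119_132 (c : Nat) : Nat := @Bool.rec (fun _ => Nat) (Ptab_s_119_125 c) (Ptab_s_125_132 c) (Nat.ble 125 c)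
noncomputable def Ptab_s_106_132 (c : Nat) : Nat := @Bool.rec (fun _ => Nat) (Ptab_s_106_119 c) (Ptab_s_119_132 c) (Nat.ble 119 c)
noncomputable def Ptab_s_133_135 (c : Nat) : Nat := @Bool.rec (fun _ => Nat) (Ptab_133) (Ptab_134) (Nat.ble 134 c)
noncomputable def Ptab_s_132_135 (c : Nat) : Nat := @Bool.rec (fun _ => Nat) (Ptab_132) (Ptab_s_133_135 c) (Nat.ble 133 c)
noncomputable def Ptab_s_136_138 (c : Nat) : Nat := @Bool.rec (fun _ => Nat) (Ptab_136) (Ptab_137) (Nat.ble 137 c)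
noncomputable def Ptab_s_135_138 (c : Nat) : Nat := @Bool.rec (fun _ => Nat) (Ptab_135) (Ptab_s_136_138 c) (Nat.ble 136 c)
noncomputable def Ptab_s_132_138 (c : Nat) : Nat := @Bool.rec (fun _ => Nat) (Ptab_s_132_135 c) (Ptab_s_135_138 c) (Nat.ble 135 c)
noncomputable def Ptab_s_139_141 (c : Nat) : Nat := @Bool.rec (fun _ => Nat) (Ptab_139) (Ptab_140) (Nat.ble 140 c)
noncomputable def Ptab_s_138_141 (c : Nat) : Nat := @Bool.rec (fun _ => Nat) (Ptab_138) (Ptab_s_139_141 c) (Nat.ble 139 c)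
noncomputable def Ptab_s_141_143 (c : Nat) : Nat := @Bool.rec (fun _ => Nat) (Ptab_141) (Ptab_142) (Nat.ble 142 c)
noncomputable def Ptab_s_143_145 (c : Nat) : Nat := @Bool.rec (fun _ => Nat) (Ptab_143) (Ptab_144) (Nat.ble 144 c)
noncomputable def Ptab_s_141_145 (c : Nat) : Nat := @Bool.rec (fun _ => Nat) (Ptab_s_141_143 c) (Ptab_s_143_145 c) (Nat.ble 143 c)
noncomputable def Ptab_s_138_145 (c : Nat) : Nat := @Bool.rec (fun _ => Nat) (Ptab_s_138_141 c) (Ptab_s_141_145 c) (Nat.ble 141 c)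
noncomputable def Ptab_s_132_145 (c : Nat) : Nat := @Bool.rec (fun _ => Nat) (Ptab_s_132_138 c) (Ptab_s_138_145 c) (Nat.ble 138 c)
noncomputable def Ptab_s_146_148 (c : Nat) : Nat := @Bool.rec (fun _ => Nat) (Ptab_146) (Ptab_147) (Nat.ble 147 c)
noncomputable def Ptab_s_145_148 (c : Nat) : Nat := @Bool.rec (fun _ => Nat) (Ptab_145) (Ptab_s_146_148 c) (Nat.ble 146 c)
noncomputable def Ptab_s_148_150 (c : Nat) : Nat := @Bool.rec (fun _ => Nat) (Ptab_148) (Ptab_149) (Nat.ble 149 c)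
noncomputable def Ptab_s_150_152 (c : Nat) : Nat := @Bool.rec (fun _ => Nat) (Ptab_150) (Ptab_151) (Nat.ble 151 c)
noncomputable def Ptab_s_148_152 (c : Nat) : Nat := @Bool.rec (fun _ => Nat) (Ptab_s_148_150 c) (Ptab_s_150_152 c) (Nat.ble 150 c)
noncomputable def Ptab_s_145_152 (c : Nat) : Nat := @Bool.rec (fun _ => Nat) (Ptab_s_145_148 c) (Ptab_s_148_152 c) (Nat.ble 148 c)
noncomputable def Ptab_s_153_155 (c : Nat) : Nat := @Bool.rec (fun _ => Nat) (Ptab_153) (Ptab_154) (Nat.ble 154 c)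
noncomputable def Ptab_s_152_155 (c : Nat) : Nat := @Bool.rec (fun _ => Nat) (Ptab_152) (Ptab_s_153_155 c) (Nat.ble 153 c)
noncomputable def Ptab_s_155_157 (c : Nat) : Nat := @Bool.rec (fun _ => Nat) (Ptab_155) (Ptab_156) (Nat.ble 156 c)
noncomputable def Ptab_s_157_159 (c : Nat) : Nat := @Bool.rec (fun _ => Nat) (Ptab_157) (Ptab_158) (Nat.ble 158 c)
noncomputable def Ptab_s_155_159 (c : Nat) : Nat := @Bool.rec (fun _ => Nat) (Ptab_s_155_157 c) (Ptab_s_157_159 c) (Nat.ble 157 c)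
noncomputable def Ptab_s_152_159 (c : Nat) : Nat := @Bool.rec (fun _ => Nat) (Ptab_s_152_155 c) (Ptab_s_155_159 c) (Nat.ble 155 c)
noncomputable def Ptab_s_145_159 (c : Nat) : Nat := @Bool.rec (fun _ => Nat) (Ptab_s_145_152 c) (Ptab_s_152_159 c) (Nat.ble 152 c)
noncomputable def Ptab_s_132_159 (c : Nat) : Nat := @Bool.rec (fun _ => Nat) (Ptab_s_132_145 c) (Ptab_s_145_159 c) (Nat.ble 145 c)
noncomputable def Ptab_s_106_159 (c : Nat) : Nat := @Bool.rec (fun _ => Nat) (Ptab_s_106_132 c) (Ptab_s_132_159 c) (Nat.ble 132 c)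
noncomputable def Ptab_s_160_162 (c : Nat) : Nat := @Bool.rec (fun _ => Nat) (Ptab_160) (Ptab_161) (Nat.ble 161 c)
noncomputable def Ptab_s_159_162 (c : Nat) : Nat := @Bool.rec (fun _ => Nat) (Ptab_159) (Ptab_s_160_162 c) (Nat.ble 160 c)
noncomputable def Ptab_s_163_165 (c : Nat) : Nat := @Bool.rec (fun _ => Nat) (Ptab_163) (Ptab_164) (Nat.ble 164 c)
noncomputable def Ptab_s_162_165 (c : Nat) : Nat := @Bool.rec (fun _ => Nat) (Ptab_162) (Ptab_s_163_165 c) (Nat.ble 163 c)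
noncomputable def Ptab_s_159_165 (c : Nat) : Nat := @Bool.rec (fun _ => Nat) (Ptab_s_159_162 c) (Ptab_s_162_165 c) (Nat.ble 162 c)
noncomputable def Ptab_s_166_168 (c : Nat) : Nat := @Bool.rec (fun _ => Nat) (Ptab_166) (Ptab_167) (Nat.ble 167 c)
noncomputable def Ptab_s_165_168 (c : Nat) : Nat := @Bool.rec (fun _ => Nat) (Ptab_165) (Ptab_s_166_168 c) (Nat.ble 166 c)
noncomputable def Ptab_s_168_170 (c : Nat) : Nat := @Bool.rec (fun _ => Nat) (Ptab_168) (Ptab_169) (Nat.ble 169 c)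
noncomputable def Ptab_s_170_172 (c : Nat) : Nat := @Bool.rec (fun _ => Nat) (Ptab_170) (Ptab_171) (Nat.ble 171 c)
noncomputable def Ptab_s_168_172 (c : Nat) : Nat := @Bool.rec (fun _ => Nat) (Ptab_s_168_170 c) (Ptab_s_170_172 c) (Nat.ble 170 c)
noncomputable def Ptab_s_165_172 (c : Nat) : Nat := @Bool.rec (fun _ => Nat) (Ptab_s_165_168 c) (Ptab_s_168_172 c) (Nat.ble 168 c)
noncomputable def Ptab_s_159_172 (c : Nat) : Nat := @Bool.rec (fun _ => Nat) (Ptab_s_159_165 c) (Ptab_s_165_172 c) (Nat.ble 165 c)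
noncomputable def Ptab_s_173_175 (c : Nat) : Nat := @Bool.rec (fun _ => Nat) (Ptab_173) (Ptab_174) (Nat.ble 174 c)
noncomputable def Ptab_s_172_175 (c : Nat) : Nat := @Bool.rec (fun _ => Nat) (Ptab_172) (Ptab_s_173_175 c) (Nat.ble 173 c)
noncomputable def Ptab_s_176_178 (c : Nat) : Nat := @Bool.rec (fun _ => Nat) (Ptab_176) (Ptab_177) (Nat.ble 177 c)
noncomputable def Ptab_s_175_178 (c : Nat) : Nat := @Bool.rec (fun _ => Nat) (Ptab_175) (Ptab_s_176_178 c) (Nat.ble 176 c)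
noncomputable def Ptab_s_172_178 (c : Nat) : Nat := @Bool.rec (fun _ => Nat) (Ptab_s_172_175 c) (Ptab_s_175_178 c) (Nat.ble 175 c)
noncomputable def Ptab_s_179_181 (c : Nat) : Nat := @Bool.rec (fun _ => Nat) (Ptab_179) (Ptab_180) (Nat.ble 180 c)
noncomputable def Ptab_s_178_181 (c : Nat) : Nat := @Bool.rec (fun _ => Nat) (Ptab_178) (Ptab_s_179_181 c) (Nat.ble 179 c)
noncomputable def Ptab_s_181_183 (c : Nat) : Nat := @Bool.rec (fun _ => Nat) (Ptab_181) (Ptab_182) (Nat.ble 182 c)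
noncomputable def Ptab_s_183_185 (c : Nat) : Nat := @Bool.rec (fun _ => Nat) (Ptab_183) (Ptab_184) (Nat.ble 184 c)
noncomputable def Ptab_s_181_185 (c : Nat) : Nat := @Bool.rec (fun _ => Nat) (Ptab_s_181_183 c) (Ptab_s_183_185 c) (Nat.ble 183 c)
noncomputable def Ptab_s_178_185 (c : Nat) : Nat := @Bool.rec (fun _ => Nat) (Ptab_s_178_181 c) (Ptab_s_181_185 c) (Nat.ble 181 c)
noncomputable def Ptab_s_172_185 (c : Nat) : Nat := @Bool.rec (fun _ => Nat) (Ptab_s_172_178 c) (Ptab_s_178_185 c) (Nat.ble 178 c)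
noncomputable def Ptab_s_159_185 (c : Nat) : Nat := @Bool.rec (fun _ => Nat) (Ptab_s_159_172 c) (Ptab_s_172_185 c) (Nat.ble 172 c)
noncomputable def Ptab_s_186_188 (c : Nat) : Nat := @Bool.rec (fun _ => Nat) (Ptab_186) (Ptab_187) (Nat.ble 187 c)
noncomputable def Ptab_s_185_188 (c : Nat) : Nat := @Bool.rec (fun _ => Nat) (Ptab_185) (Ptab_s_186_188 c) (Nat.ble 186 c)
noncomputable def Ptab_s_189_191 (c : Nat) : Nat := @Bool.rec (fun _ => Nat) (Ptab_189) (Ptab_190) (Nat.ble 190 c)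
noncomputable def Ptab_s_188_191 (c : Nat) : Nat := @Bool.rec (fun _ => Nat) (Ptab_188) (Ptab_s_189_191 c) (Nat.ble 189 c)
noncomputable def Ptab_s_185_191 (c : Nat) : Nat := @Bool.rec (fun _ => Nat) (Ptab_s_185_188 c) (Ptab_s_188_191 c) (Nat.ble 188 c)
noncomputable def Ptab_s_192_194 (c : Nat) : Nat := @Bool.rec (fun _ => Nat) (Ptab_192) (Ptab_193) (Nat.ble 193 c)
noncomputable def Ptab_s_191_194 (c : Nat) : Nat := @Bool.rec (fun _ => Nat) (Ptab_191) (Ptab_s_192_194 c) (Nat.ble 192 c)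
noncomputable def Ptab_s_194_196 (c : Nat) : Nat := @Bool.rec (fun _ => Nat) (Ptab_194) (Ptab_195) (Nat.ble 195 c)
noncomputable def Ptab_s_196_198 (c : Nat) : Nat := @Bool.rec (fun _ => Nat) (Ptab_196) (Ptab_197) (Nat.ble 197 c)
noncomputable def Ptab_s_194_198 (c : Nat) : Nat := @Bool.rec (fun _ => Nat) (Ptab_s_194_196 c) (Ptab_s_196_198 c) (Nat.ble 196 c)
noncomputable def Ptab_s_191_198 (c : Nat) : Nat := @Bool.rec (fun _ => Nat) (Ptab_s_191_194 c) (Ptab_s_194_198 c) (Nat.ble 194 c)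
noncomputable def Ptab_s_185_198 (c : Nat) : Nat := @Bool.rec (fun _ => Nat) (Ptab_s_185_191 c) (Ptab_s_191_198 c) (Nat.ble 191 c)
noncomputable def Ptab_s_199_201 (c : Nat) : Nat := @Bool.rec (fun _ => Nat) (Ptab_199) (Ptab_200) (Nat.ble 200 c)
noncomputable def Ptab_s_198_201 (c : Nat) : Nat := @Bool.rec (fun _ => Nat) (Ptab_198) (Ptab_s_199_201 c) (Nat.ble 199 c)
noncomputable def Ptab_s_201_203 (c : Nat) : Nat := @Bool.rec (fun _ => Nat) (Ptab_201) (Ptab_202) (Nat.ble 202 c)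
noncomputable def Ptab_s_203_205 (c : Nat) : Nat := @Bool.rec (fun _ => Nat) (Ptab_203) (Ptab_204) (Nat.ble 204 c)
noncomputable def Ptab_s_201_205 (c : Nat) : Nat := @Bool.rec (fun _ => Nat) (Ptab_s_201_203 c) (Ptab_s_203_205 c) (Nat.ble 203 c)
noncomputable def Ptab_s_198_205 (c : Nat) : Nat := @Bool.rec (fun _ => Nat) (Ptab_s_198_201 c) (Ptab_s_201_205 c) (Nat.ble 201 c)
noncomputable def Ptab_s_206_208 (c : Nat) : Nat := @Bool.rec (fun _ => Nat) (Ptab_206) (Ptab_207) (Nat.ble 207 c)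
noncomputable def Ptab_s_205_208 (c : Nat) : Nat := @Bool.rec (fun _ => Nat) (Ptab_205) (Ptab_s_206_208 c) (Nat.ble 206 c)
noncomputable def Ptab_s_208_210 (c : Nat) : Nat := @Bool.rec (fun _ => Nat) (Ptab_208) (Ptab_209) (Nat.ble 209 c)
noncomputable def Ptab_s_210_212 (c : Nat) : Nat := @Bool.rec (fun _ => Nat) (Ptab_210) (Ptab_211) (Nat.ble 211 c)
noncomputable def Ptab_s_208_212 (c : Nat) : Nat := @Bool.rec (fun _ => Nat) (Ptab_s_208_210 c) (Ptab_s_210_212 c) (Nat.ble 210 c)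
noncomputable def Ptab_s_205_212 (c : Nat) : Nat := @Bool.rec (fun _ => Nat) (Ptab_s_205_208 c) (Ptab_s_208_212 c) (Nat.ble 208 c)
noncomputable def Ptab_s_198_212 (c : Nat) : Nat := @Bool.rec (fun _ => Nat) (Ptab_s_198_205 c) (Ptab_s_205_212 c) (Nat.ble 205 c)
noncomputable def Ptab_s_185_212 (c : Nat) : Nat := @Bool.rec (fun _ => Nat) (Ptab_s_185_198 c) (Ptab_s_198_212 c) (Nat.ble 198 c)
noncomputable def Ptab_s_159_212 (c : Nat) : Nat := @Bool.rec (fun _ => Nat) (Ptab_s_159_185 c) (Ptab_s_185_212 c) (Nat.ble 185 c)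
noncomputable def Ptab_s_106_212 (c : Nat) : Nat := @Bool.rec (fun _ => Nat) (Ptab_s_106_159 c) (Ptab_s_159_212 c) (Nat.ble 159 c)
noncomputable def Ptab_s_0_212 (c : Nat) : Nat := @Bool.rec (fun _ => Nat) (Ptab_s_0_106 c) (Ptab_s_106_212 c) (Nat.ble 106 c)
noncomputable def Ptab_s_213_215 (c : Nat) : Nat := @Bool.rec (fun _ => Nat) (Ptab_213) (Ptab_214) (Nat.ble 214 c)
noncomputable def Ptab_s_212_215 (c : Nat) : Nat := @Bool.rec (fun _ => Nat) (Ptab_212) (Ptab_s_213_215 c) (Nat.ble 213 c)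
noncomputable def Ptab_s_216_218 (c : Nat) : Nat := @Bool.rec (fun _ => Nat) (Ptab_216) (Ptab_217) (Nat.ble 217 c)
noncomputable def Ptab_s_215_218 (c : Nat) : Nat := @Bool.rec (fun _ => Nat) (Ptab_215) (Ptab_s_216_218 c) (Nat.ble 216 c)
noncomputable def Ptab_s_212_218 (c : Nat) : Nat := @Bool.rec (fun _ => Nat) (Ptab_s_212_215 c) (Ptab_s_215_218 c) (Nat.ble 215 c)
noncomputable def Ptab_s_219_221 (c : Nat) : Nat := @Bool.rec (fun _ => Nat) (Ptab_219) (Ptab_220) (Nat.ble 220 c)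
noncomputable def Ptab_s_218_221 (c : Nat) : Nat := @Bool.rec (fun _ => Nat) (Ptab_218) (Ptab_s_219_221 c) (Nat.ble 219 c)
noncomputable def Ptab_s_221_223 (c : Nat) : Nat := @Bool.rec (fun _ => Nat) (Ptab_221) (Ptab_222) (Nat.ble 222 c)
noncomputable def Ptab_s_223_225 (c : Nat) : Nat := @Bool.rec (fun _ => Nat) (Ptab_223) (Ptab_224) (Nat.ble 224 c)
noncomputable def Ptab_s_221_225 (c : Nat) : Nat := @Bool.rec (fun _ => Nat) (Ptab_s_221_223 c) (Ptab_s_223_225 c) (Nat.ble 223 c)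
noncomputable def Ptab_s_218_225 (c : Nat) : Nat := @Bool.rec (fun _ => Nat) (Ptab_s_218_221 c) (Ptab_s_221_225 c) (Nat.ble 221 c)
noncomputable def Ptab_s_212_225 (c : Nat) : Nat := @Bool.rec (fun _ => Nat) (Ptab_s_212_218 c) (Ptab_s_218_225 c) (Nat.ble 218 c)
noncomputable def Ptab_s_226_228 (c : Nat) : Nat := @Bool.rec (fun _ => Nat) (Ptab_226) (Ptab_227) (Nat.ble 227 c)
noncomputable def Ptab_s_225_228 (c : Nat) : Nat := @Bool.rec (fun _ => Nat) (Ptab_225) (Ptab_s_226_228 c) (Nat.ble 226 c)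
noncomputable def Ptab_s_229_231 (c : Nat) : Nat := @Bool.rec (fun _ => Nat) (Ptab_229) (Ptab_230) (Nat.ble 230 c)
noncomputable def Ptab_s_228_231 (c : Nat) : Nat := @Bool.rec (fun _ => Nat) (Ptab_228) (Ptab_s_229_231 c) (Nat.ble 229 c)
noncomputable def Ptab_s_225_231 (c : Nat) : Nat := @Bool.rec (fun _ => Nat) (Ptab_s_225_228 c) (Ptab_s_228_231 c) (Nat.ble 228 c)
noncomputable def Ptab_s_232_234 (c : Nat) : Nat := @Bool.rec (fun _ => Nat) (Ptab_232) (Ptab_233) (Nat.ble 233 c)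
noncomputable def Ptab_s_231_234 (c : Nat) : Nat := @Bool.rec (fun _ => Nat) (Ptab_231) (Ptab_s_232_234 c) (Nat.ble 232 c)
noncomputable def Ptab_s_234_236 (c : Nat) : Nat := @Bool.rec (fun _ => Nat) (Ptab_234) (Ptab_235) (Nat.ble 235 c)
noncomputable def Ptab_s_236_238 (c : Nat) : Nat := @Bool.rec (fun _ => Nat) (Ptab_236) (Ptab_237) (Nat.ble 237 c)
noncomputable def Ptab_s_234_238 (c : Nat) : Nat := @Bool.rec (fun _ => Nat) (Ptab_s_234_236 c) (Ptab_s_236_238 c) (Nat.ble 236 c)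
noncomputable def Ptab_s_231_238 (c : Nat) : Nat := @Bool.rec (fun _ => Nat) (Ptab_s_231_234 c) (Ptab_s_234_238 c) (Nat.ble 234 c)
noncomputable def Ptab_s_225_238 (c : Nat) : Nat := @Bool.rec (fun _ => Nat) (Ptab_s_225_231 c) (Ptab_s_231_238 c) (Nat.ble 231 c)
noncomputable def Ptab_s_212_238 (c : Nat) : Nat := @Bool.rec (fun _ => Nat) (Ptab_s_212_225 c) (Ptab_s_225_238 c) (Nat.ble 225 c)
noncomputable def Ptab_s_239_241 (c : Nat) : Nat := @Bool.rec (fun _ => Nat) (Ptab_239) (Ptab_240) (Nat.ble 240 c)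
noncomputable def Ptab_s_238_241 (c : Nat) : Nat := @Bool.rec (fun _ => Nat) (Ptab_238) (Ptab_s_239_241 c) (Nat.ble 239 c)
noncomputable def Ptab_s_242_244 (c : Nat) : Nat := @Bool.rec (fun _ => Nat) (Ptab_242) (Ptab_243) (Nat.ble 243 c)
noncomputable def Ptab_s_241_244 (c : Nat) : Nat := @Bool.rec (fun _ => Nat) (Ptab_241) (Ptab_s_242_244 c) (Nat.ble 242 c)
noncomputable def Ptab_s_238_244 (c : Nat) : Nat := @Bool.rec (fun _ => Nat) (Ptab_s_238_241 c) (Ptab_s_241_244 c) (Nat.ble 241 c)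
noncomputable def Ptab_s_245_247 (c : Nat) : Nat := @Bool.rec (fun _ => Nat) (Ptab_245) (Ptab_246) (Nat.ble 246 c)
noncomputable def Ptab_s_244_247 (c : Nat) : Nat := @Bool.rec (fun _ => Nat) (Ptab_244) (Ptab_s_245_247 c) (Nat.ble 245 c)
noncomputable def Ptab_s_247_249 (c : Nat) : Nat := @Bool.rec (fun _ => Nat) (Ptab_247) (Ptab_248) (Nat.ble 248 c)
noncomputable def Ptab_s_249_251 (c : Nat) : Nat := @Bool.rec (fun _ => Nat) (Ptab_249) (Ptab_250) (Nat.ble 250 c)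
noncomputable def Ptab_s_247_251 (c : Nat) : Nat := @Bool.rec (fun _ => Nat) (Ptab_s_247_249 c) (Ptab_s_249_251 c) (Nat.ble 249 c)
noncomputable def Ptab_s_244_251 (c : Nat) : Nat := @Bool.rec (fun _ => Nat) (Ptab_s_244_247 c) (Ptab_s_247_251 c) (Nat.ble 247 c)
noncomputable def Ptab_s_238_251 (c : Nat) : Nat := @Bool.rec (fun _ => Nat) (Ptab_s_238_244 c) (Ptab_s_244_251 c) (Nat.ble 244 c)
noncomputable def Ptab_s_252_254 (c : Nat) : Nat := @Bool.rec (fun _ => Nat) (Ptab_252) (Ptab_253) (Nat.ble 253 c)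
noncomputable def Ptab_s_251_254 (c : Nat) : Nat := @Bool.rec (fun _ => Nat) (Ptab_251) (Ptab_s_252_254 c) (Nat.ble 252 c)
noncomputable def Ptab_s_254_256 (c : Nat) : Nat := @Bool.rec (fun _ => Nat) (Ptab_254) (Ptab_255) (Nat.ble 255 c)
noncomputable def Ptab_s_256_258 (c : Nat) : Nat := @Bool.rec (fun _ => Nat) (Ptab_256) (Ptab_257) (Nat.ble 257 c)
noncomputable def Ptab_s_254_258 (c : Nat) : Nat := @Bool.rec (fun _ => Nat) (Ptab_s_254_256 c) (Ptab_s_256_258 c) (Nat.ble 256 c)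
noncomputable def Ptab_s_251_258 (c : Nat) : Nat := @Bool.rec (fun _ => Nat) (Ptab_s_251_254 c) (Ptab_s_254_258 c) (Nat.ble 254 c)
noncomputable def Ptab_s_259_261 (c : Nat) : Nat := @Bool.rec (fun _ => Nat) (Ptab_259) (Ptab_260) (Nat.ble 260 c)
noncomputable def Ptab_s_258_261 (c : Nat) : Nat := @Bool.rec (fun _ => Nat) (Ptab_258) (Ptab_s_259_261 c) (Nat.ble 259 c)
noncomputable def Ptab_s_261_263 (c : Nat) : Nat := @Bool.rec (fun _ => Nat) (Ptab_261) (Ptab_262) (Nat.ble 262 c)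
noncomputable def Ptab_s_263_265 (c : Nat) : Nat := @Bool.rec (fun _ => Nat) (Ptab_263) (Ptab_264) (Nat.ble 264 c)
noncomputable def Ptab_s_261_265 (c : Nat) : Nat := @Bool.rec (fun _ => Nat) (Ptab_s_261_263 c) (Ptab_s_263_265 c) (Nat.ble 263 c)
noncomputable def Ptab_s_258_265 (c : Nat) : Nat := @Bool.rec (fun _ => Nat) (Ptab_s_258_261 c) (Ptab_s_261_265 c) (Nat.ble 261 c)
noncomputable def Ptab_s_251_265 (c : Nat) : Nat := @Bool.rec (fun _ => Nat) (Ptab_s_251_258 c) (Ptab_s_258_265 c) (Nat.ble 258 c)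
noncomputable def Ptab_s_238_265 (c : Nat) : Nat := @Bool.rec (fun _ => Nat) (Ptab_s_238_251 c) (Ptab_s_251_265 c) (Nat.ble 251 c)
noncomputable def Ptab_s_212_265 (c : Nat) : Nat := @Bool.rec (fun _ => Nat) (Ptab_s_212_238 c) (Ptab_s_238_265 c) (Nat.ble 238 c)
noncomputable def Ptab_s_266_268 (c : Nat) : Nat := @Bool.rec (fun _ => Nat) (Ptab_266) (Ptab_267) (Nat.ble 267 c)
noncomputable def Ptab_s_265_268 (c : Nat) : Nat := @Bool.rec (fun _ => Nat) (Ptab_265) (Ptab_s_266_268 c) (Nat.ble 266 c)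
noncomputable def Ptab_s_269_271 (c : Nat) : Nat := @Bool.rec (fun _ => Nat) (Ptab_269) (Ptab_270) (Nat.ble 270 c)
noncomputable def Ptab_s_268_271 (c : Nat) : Nat := @Bool.rec (fun _ => Nat) (Ptab_268) (Ptab_s_269_271 c) (Nat.ble 269 c)
noncomputable def Ptab_s_265_271 (c : Nat) : Nat := @Bool.rec (fun _ => Nat) (Ptab_s_265_268 c) (Ptab_s_268_271 c) (Nat.ble 268 c)
noncomputable def Ptab_s_272_274 (c : Nat) : Nat := @Bool.rec (fun _ => Nat) (Ptab_272) (Ptab_273) (Nat.ble 273 c)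
noncomputable def Ptab_s_271_274 (c : Nat) : Nat := @Bool.rec (fun _ => Nat) (Ptab_271) (Ptab_s_272_274 c) (Nat.ble 272 c)
noncomputable def Ptab_s_274_276 (c : Nat) : Nat := @Bool.rec (fun _ => Nat) (Ptab_274) (Ptab_275) (Nat.ble 275 c)
noncomputable def Ptab_s_276_278 (c : Nat) : Nat := @Bool.rec (fun _ => Nat) (Ptab_276) (Ptab_277) (Nat.ble 277 c)
noncomputable def Ptab_s_274_278 (c : Nat) : Nat := @Bool.rec (fun _ => Nat) (Ptab_s_274_276 c) (Ptab_s_276_278 c) (Nat.ble 276 c)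
noncomputable def Ptab_s_271_278 (c : Nat) : Nat := @Bool.rec (fun _ => Nat) (Ptab_s_271_274 c) (Ptab_s_274_278 c) (Nat.ble 274 c)
noncomputable def Ptab_s_265_278 (c : Nat) : Nat := @Bool.rec (fun _ => Nat) (Ptab_s_265_271 c) (Ptab_s_271_278 c) (Nat.ble 271 c)
noncomputable def Ptab_s_279_281 (c : Nat) : Nat := @Bool.rec (fun _ => Nat) (Ptab_279) (Ptab_280) (Nat.ble 280 c)
noncomputable def Ptab_s_278_281 (c : Nat) : Nat := @Bool.rec (fun _ => Nat) (Ptab_278) (Ptab_s_279_281 c) (Nat.ble 279 c)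
noncomputable def Ptab_s_282_284 (c : Nat) : Nat := @Bool.rec (fun _ => Nat) (Ptab_282) (Ptab_283) (Nat.ble 283 c)
noncomputable def Ptab_s_281_284 (c : Nat) : Nat := @Bool.rec (fun _ => Nat) (Ptab_281) (Ptab_s_282_284 c) (Nat.ble 282 c)
noncomputable def Ptab_s_278_284 (c : Nat) : Nat := @Bool.rec (fun _ => Nat) (Ptab_s_278_281 c) (Ptab_s_281_284 c) (Nat.ble 281 c)
noncomputable def Ptab_s_285_287 (c : Nat) : Nat := @Bool.rec (fun _ => Nat) (Ptab_285) (Ptab_286) (Nat.ble 286 c)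
noncomputable def Ptab_s_284_287 (c : Nat) : Nat := @Bool.rec (fun _ => Nat) (Ptab_284) (Ptab_s_285_287 c) (Nat.ble 285 c)
noncomputable def Ptab_s_287_289 (c : Nat) : Nat := @Bool.rec (fun _ => Nat) (Ptab_287) (Ptab_288) (Nat.ble 288 c)
noncomputable def Ptab_s_289_291 (c : Nat) : Nat := @Bool.rec (fun _ => Nat) (Ptab_289) (Ptab_290) (Nat.ble 290 c)
noncomputable def Ptab_s_287_291 (c : Nat) : Nat := @Bool.rec (fun _ => Nat) (Ptab_s_287_289 c) (Ptab_s_289_291 c) (Nat.ble 289 c)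
noncomputable def Ptab_s_284_291 (c : Nat) : Nat := @Bool.rec (fun _ => Nat) (Ptab_s_284_287 c) (Ptab_s_287_291 c) (Nat.ble 287 c)
noncomputable def Ptab_s_278_291 (c : Nat) : Nat := @Bool.rec (fun _ => Nat) (Ptab_s_278_284 c) (Ptab_s_284_291 c) (Nat.ble 284 c)
noncomputable def Ptab_s_265_291 (c : Nat) : Nat := @Bool.rec (fun _ => Nat) (Ptab_s_265_278 c) (Ptab_s_278_291 c) (Nat.ble 278 c)
noncomputable def Ptab_s_292_294 (c : Nat) : Nat := @Bool.rec (fun _ => Nat) (Ptab_292) (Ptab_293) (Nat.ble 293 c)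
noncomputable def Ptab_s_291_294 (c : Nat) : Nat := @Bool.rec (fun _ => Nat) (Ptab_291) (Ptab_s_292_294 c) (Nat.ble 292 c)
noncomputable def Ptab_s_295_297 (c : Nat) : Nat := @Bool.rec (fun _ => Nat) (Ptab_295) (Ptab_296) (Nat.ble 296 c)
noncomputable def Ptab_s_294_297 (c : Nat) : Nat := @Bool.rec (fun _ => Nat) (Ptab_294) (Ptab_s_295_297 c) (Nat.ble 295 c)
noncomputable def Ptab_s_291_297 (c : Nat) : Nat := @Bool.rec (fun _ => Nat) (Ptab_s_291_294 c) (Ptab_s_294_297 c) (Nat.ble 294 c)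
noncomputable def Ptab_s_298_300 (c : Nat) : Nat := @Bool.rec (fun _ => Nat) (Ptab_298) (Ptab_299) (Nat.ble 299 c)
noncomputable def Ptab_s_297_300 (c : Nat) : Nat := @Bool.rec (fun _ => Nat) (Ptab_297) (Ptab_s_298_300 c) (Nat.ble 298 c)
noncomputable def Ptab_s_300_302 (c : Nat) : Nat := @Bool.rec (fun _ => Nat) (Ptab_300) (Ptab_301) (Nat.ble 301 c)
noncomputable def Ptab_s_302_304 (c : Nat) : Nat := @Bool.rec (fun _ => Nat) (Ptab_302) (Ptab_303) (Nat.ble 303 c)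
noncomputable def Ptab_s_300_304 (c : Nat) : Nat := @Bool.rec (fun _ => Nat) (Ptab_s_300_302 c) (Ptab_s_302_304 c) (Nat.ble 302 c)
noncomputable def Ptab_s_297_304 (c : Nat) : Nat := @Bool.rec (fun _ => Nat) (Ptab_s_297_300 c) (Ptab_s_300_304 c) (Nat.ble 300 c)
noncomputable def Ptab_s_291_304 (c : Nat) : Nat := @Bool.rec (fun _ => Nat) (Ptab_s_291_297 c) (Ptab_s_297_304 c) (Nat.ble 297 c)
noncomputable def Ptab_s_305_307 (c : Nat) : Nat := @Bool.rec (fun _ => Nat) (Ptab_305) (Ptab_306) (Nat.ble 306 c)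
noncomputable def Ptab_s_304_307 (c : Nat) : Nat := @Bool.rec (fun _ => Nat) (Ptab_304) (Ptab_s_305_307 c) (Nat.ble 305 c)
noncomputable def Ptab_s_307_309 (c : Nat) : Nat := @Bool.rec (fun _ => Nat) (Ptab_307) (Ptab_308) (Nat.ble 308 c)
noncomputable def Ptab_s_309_311 (c : Nat) : Nat := @Bool.rec (fun _ => Nat) (Ptab_309) (Ptab_310) (Nat.ble 310 c)
noncomputable def Ptab_s_307_311 (c : Nat) : Nat := @Bool.rec (fun _ => Nat) (Ptab_s_307_309 c) (Ptab_s_309_311 c) (Nat.ble 309 c)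
noncomputable def Ptab_s_304_311 (c : Nat) : Nat := @Bool.rec (fun _ => Nat) (Ptab_s_304_307 c) (Ptab_s_307_311 c) (Nat.ble 307 c)
noncomputable def Ptab_s_312_314 (c : Nat) : Nat := @Bool.rec (fun _ => Nat) (Ptab_312) (Ptab_313) (Nat.ble 313 c)
noncomputable def Ptab_s_311_314 (c : Nat) : Nat := @Bool.rec (fun _ => Nat) (Ptab_311) (Ptab_s_312_314 c) (Nat.ble 312 c)
noncomputable def Ptab_s_314_316 (c : Nat) : Nat := @Bool.rec (fun _ => Nat) (Ptab_314) (Ptab_315) (Nat.ble 315 c)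
noncomputable def Ptab_s_316_318 (c : Nat) : Nat := @Bool.rec (fun _ => Nat) (Ptab_316) (Ptab_317) (Nat.ble 317 c)
noncomputable def Ptab_s_314_318 (c : Nat) : Nat := @Bool.rec (fun _ => Nat) (Ptab_s_314_316 c) (Ptab_s_316_318 c) (Nat.ble 316 c)
noncomputable def Ptab_s_311_318 (c : Nat) : Nat := @Bool.rec (fun _ => Nat) (Ptab_s_311_314 c) (Ptab_s_314_318 c) (Nat.ble 314 c)
noncomputable def Ptab_s_304_318 (c : Nat) : Nat := @Bool.rec (fun _ => Nat) (Ptab_s_304_311 c) (Ptab_s_311_318 c) (Nat.ble 311 c)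
noncomputable def Ptab_s_291_318 (c : Nat) : Nat := @Bool.rec (fun _ => Nat) (Ptab_s_291_304 c) (Ptab_s_304_318 c) (Nat.ble 304 c)
noncomputable def Ptab_s_265_318 (c : Nat) : Nat := @Bool.rec (fun _ => Nat) (Ptab_s_265_291 c) (Ptab_s_291_318 c) (Nat.ble 291 c)
noncomputable def Ptab_s_212_318 (c : Nat) : Nat := @Bool.rec (fun _ => Nat) (Ptab_s_212_265 c) (Ptab_s_265_318 c) (Nat.ble 265 c)
noncomputable def Ptab_s_319_321 (c : Nat) : Nat := @Bool.rec (fun _ => Nat) (Ptab_319) (Ptab_320) (Nat.ble 320 c)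
noncomputable def Ptab_s_318_321 (c : Nat) : Nat := @Bool.rec (fun _ => Nat) (Ptab_318) (Ptab_s_319_321 c) (Nat.ble 319 c)
noncomputable def Ptab_s_322_324 (c : Nat) : Nat := @Bool.rec (fun _ => Nat) (Ptab_322) (Ptab_323) (Nat.ble 323 c)
noncomputable def Ptab_s_321_324 (c : Nat) : Nat := @Bool.rec (fun _ => Nat) (Ptab_321) (Ptab_s_322_324 c) (Nat.ble 322 c)
noncomputable def Ptab_s_318_324 (c : Nat) : Nat := @Bool.rec (fun _ => Nat) (Ptab_s_318_321 c) (Ptab_s_321_324 c) (Nat.ble 321 c)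
noncomputable def Ptab_s_325_327 (c : Nat) : Nat := @Bool.rec (fun _ => Nat) (Ptab_325) (Ptab_326) (Nat.ble 326 c)
noncomputable def Ptab_s_324_327 (c : Nat) : Nat := @Bool.rec (fun _ => Nat) (Ptab_324) (Ptab_s_325_327 c) (Nat.ble 325 c)
noncomputable def Ptab_s_327_329 (c : Nat) : Nat := @Bool.rec (fun _ => Nat) (Ptab_327) (Ptab_328) (Nat.ble 328 c)
noncomputable def Ptab_s_329_331 (c : Nat) : Nat := @Bool.rec (fun _ => Nat) (Ptab_329) (Ptab_330) (Nat.ble 330 c)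
noncomputable def Ptab_s_327_331 (c : Nat) : Nat := @Bool.rec (fun _ => Nat) (Ptab_s_327_329 c) (Ptab_s_329_331 c) (Nat.ble 329 c)
noncomputable def Ptab_s_324_331 (c : Nat) : Nat := @Bool.rec (fun _ => Nat) (Ptab_s_324_327 c) (Ptab_s_327_331 c) (Nat.ble 327 c)
noncomputable def Ptab_s_318_331 (c : Nat) : Nat := @Bool.rec (fun _ => Nat) (Ptab_s_318_324 c) (Ptab_s_324_331 c) (Nat.ble 324 c)
noncomputable def Ptab_s_332_334 (c : Nat) : Nat := @Bool.rec (fun _ => Nat) (Ptab_332) (Ptab_333) (Nat.ble 333 c)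
noncomputable def Ptab_s_331_334 (c : Nat) : Nat := @Bool.rec (fun _ => Nat) (Ptab_331) (Ptab_s_332_334 c) (Nat.ble 332 c)
noncomputable def Ptab_s_335_337 (c : Nat) : Nat := @Bool.rec (fun _ => Nat) (Ptab_335) (Ptab_336) (Nat.ble 336 c)
noncomputable def Ptab_s_334_337 (c : Nat) : Nat := @Bool.rec (fun _ => Nat) (Ptab_334) (Ptab_s_335_337 c) (Nat.ble 335 c)
noncomputable def Ptab_s_331_337 (c : Nat) : Nat := @Bool.rec (fun _ => Nat) (Ptab_s_331_334 c) (Ptab_s_334_337 c) (Nat.ble 334 c)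
noncomputable def Ptab_s_338_340 (c : Nat) : Nat := @Bool.rec (fun _ => Nat) (Ptab_338) (Ptab_339) (Nat.ble 339 c)
noncomputable def Ptab_s_337_340 (c : Nat) : Nat := @Bool.rec (fun _ => Nat) (Ptab_337) (Ptab_s_338_340 c) (Nat.ble 338 c)
noncomputable def Ptab_s_340_342 (c : Nat) : Nat := @Bool.rec (fun _ => Nat) (Ptab_340) (Ptab_341) (Nat.ble 341 c)
noncomputable def Ptab_s_342_344 (c : Nat) : Nat := @Bool.rec (fun _ => Nat) (Ptab_342) (Ptab_343) (Nat.ble 343 c)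
noncomputable def Ptab_s_340_344 (c : Nat) : Nat := @Bool.rec (fun _ => Nat) (Ptab_s_340_342 c) (Ptab_s_342_344 c) (Nat.ble 342 c)
noncomputable def Ptab_s_337_344 (c : Nat) : Nat := @Bool.rec (fun _ => Nat) (Ptab_s_337_340 c) (Ptab_s_340_344 c) (Nat.ble 340 c)
noncomputable def Ptab_s_331_344 (c : Nat) : Nat := @Bool.rec (fun _ => Nat) (Ptab_s_331_337 c) (Ptab_s_337_344 c) (Nat.ble 337 c)
noncomputable def Ptab_s_318_344 (c : Nat) : Nat := @Bool.rec (fun _ => Nat) (Ptab_s_318_331 c) (Ptab_s_331_344 c) (Nat.ble 331 c)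
noncomputable def Ptab_s_345_347 (c : Nat) : Nat := @Bool.rec (fun _ => Nat) (Ptab_345) (Ptab_346) (Nat.ble 346 c)
noncomputable def Ptab_s_344_347 (c : Nat) : Nat := @Bool.rec (fun _ => Nat) (Ptab_344) (Ptab_s_345_347 c) (Nat.ble 345 c)
noncomputable def Ptab_s_348_350 (c : Nat) : Nat := @Bool.rec (fun _ => Nat) (Ptab_348) (Ptab_349) (Nat.ble 349 c)
noncomputable def Ptab_s_347_350 (c : Nat) : Nat := @Bool.rec (fun _ => Nat) (Ptab_347) (Ptab_s_348_350 c) (Nat.ble 348 c)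
noncomputable def Ptab_s_344_350 (c : Nat) : Nat := @Bool.rec (fun _ => Nat) (Ptab_s_344_347 c) (Ptab_s_347_350 c) (Nat.ble 347 c)
noncomputable def Ptab_s_351_353 (c : Nat) : Nat := @Bool.rec (fun _ => Nat) (Ptab_351) (Ptab_352) (Nat.ble 352 c)
noncomputable def Ptab_s_350_353 (c : Nat) : Nat := @Bool.rec (fun _ => Nat) (Ptab_350) (Ptab_s_351_353 c) (Nat.ble 351 c)
noncomputable def Ptab_s_353_355 (c : Nat) : Nat := @Bool.rec (fun _ => Nat) (Ptab_353) (Ptab_354) (Nat.ble 354 c)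
noncomputable def Ptab_s_355_357 (c : Nat) : Nat := @Bool.rec (fun _ => Nat) (Ptab_355) (Ptab_356) (Nat.ble 356 c)
noncomputable def Ptab_s_353_357 (c : Nat) : Nat := @Bool.rec (fun _ => Nat) (Ptab_s_353_355 c) (Ptab_s_355_357 c) (Nat.ble 355 c)
noncomputable def Ptab_s_350_357 (c : Nat) : Nat := @Bool.rec (fun _ => Nat) (Ptab_s_350_353 c) (Ptab_s_353_357 c) (Nat.ble 353 c)
noncomputable def Ptab_s_344_357 (c : Nat) : Nat := @Bool.rec (fun _ => Nat) (Ptab_s_344_350 c) (Ptab_s_350_357 c) (Nat.ble 350 c)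
noncomputable def Ptab_s_358_360 (c : Nat) : Nat := @Bool.rec (fun _ => Nat) (Ptab_358) (Ptab_359) (Nat.ble 359 c)
noncomputable def Ptab_s_357_360 (c : Nat) : Nat := @Bool.rec (fun _ => Nat) (Ptab_357) (Ptab_s_358_360 c) (Nat.ble 358 c)
noncomputable def Ptab_s_360_362 (c : Nat) : Nat := @Bool.rec (fun _ => Nat) (Ptab_360) (Ptab_361) (Nat.ble 361 c)
noncomputable def Ptab_s_362_364 (c : Nat) : Nat := @Bool.rec (fun _ => Nat) (Ptab_362) (Ptab_363) (Nat.ble 363 c)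
noncomputable def Ptab_s_360_364 (c : Nat) : Nat := @Bool.rec (fun _ => Nat) (Ptab_s_360_362 c) (Ptab_s_362_364 c) (Nat.ble 362 c)
noncomputable def Ptab_s_357_364 (c : Nat) : Nat := @Bool.rec (fun _ => Nat) (Ptab_s_357_360 c) (Ptab_s_360_364 c) (Nat.ble 360 c)
noncomputable def Ptab_s_365_367 (c : Nat) : Nat := @Bool.rec (fun _ => Nat) (Ptab_365) (Ptab_366) (Nat.ble 366 c)
noncomputable def Ptab_s_364_367 (c : Nat) : Nat := @Bool.rec (fun _ => Nat) (Ptab_364) (Ptab_s_365_367 c) (Nat.ble 365 c)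
noncomputable def Ptab_s_367_369 (c : Nat) : Nat := @Bool.rec (fun _ => Nat) (Ptab_367) (Ptab_368) (Nat.ble 368 c)
noncomputable def Ptab_s_369_371 (c : Nat) : Nat := @Bool.rec (fun _ => Nat) (Ptab_369) (Ptab_370) (Nat.ble 370 c)
noncomputable def Ptab_s_367_371 (c : Nat) : Nat := @Bool.rec (fun _ => Nat) (Ptab_s_367_369 c) (Ptab_s_369_371 c) (Nat.ble 369 c)
noncomputable def Ptab_s_364_371 (c : Nat) : Nat := @Bool.rec (fun _ => Nat) (Ptab_s_364_367 c) (Ptab_s_367_371 c) (Nat.ble 367 c)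
noncomputable def Ptab_s_357_371 (c : Nat) : Nat := @Bool.rec (fun _ => Nat) (Ptab_s_357_364 c) (Ptab_s_364_371 c) (Nat.ble 364 c)
noncomputable def Ptab_s_344_371 (c : Nat) : Nat := @Bool.rec (fun _ => Nat) (Ptab_s_344_357 c) (Ptab_s_357_371 c) (Nat.ble 357 c)
noncomputable def Ptab_s_318_371 (c : Nat) : Nat := @Bool.rec (fun _ => Nat) (Ptab_s_318_344 c) (Ptab_s_344_371 c) (Nat.ble 344 c)
noncomputable def Ptab_s_372_374 (c : Nat) : Nat := @Bool.rec (fun _ => Nat) (Ptab_372) (Ptab_373) (Nat.ble 373 c)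
noncomputable def Ptab_s_371_374 (c : Nat) : Nat := @Bool.rec (fun _ => Nat) (Ptab_371) (Ptab_s_372_374 c) (Nat.ble 372 c)
noncomputable def Ptab_s_375_377 (c : Nat) : Nat := @Bool.rec (fun _ => Nat) (Ptab_375) (Ptab_376) (Nat.ble 376 c)
noncomputable def Ptab_s_374_377 (c : Nat) : Nat := @Bool.rec (fun _ => Nat) (Ptab_374) (Ptab_s_375_377 c) (Nat.ble 375 c)
noncomputable def Ptab_s_371_377 (c : Nat) : Nat := @Bool.rec (fun _ => Nat) (Ptab_s_371_374 c) (Ptab_s_374_377 c) (Nat.ble 374 c)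
noncomputable def Ptab_s_378_380 (c : Nat) : Nat := @Bool.rec (fun _ => Nat) (Ptab_378) (Ptab_379) (Nat.ble 379 c)
noncomputable def Ptab_s_377_380 (c : Nat) : Nat := @Bool.rec (fun _ => Nat) (Ptab_377) (Ptab_s_378_380 c) (Nat.ble 378 c)
noncomputable def Ptab_s_380_382 (c : Nat) : Nat := @Bool.rec (fun _ => Nat) (Ptab_380) (Ptab_381) (Nat.ble 381 c)
noncomputable def Ptab_s_382_384 (c : Nat) : Nat := @Bool.rec (fun _ => Nat) (Ptab_382) (Ptab_383) (Nat.ble 383 c)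
noncomputable def Ptab_s_380_384 (c : Nat) : Nat := @Bool.rec (fun _ => Nat) (Ptab_s_380_382 c) (Ptab_s_382_384 c) (Nat.ble 382 c)
noncomputable def Ptab_s_377_384 (c : Nat) : Nat := @Bool.rec (fun _ => Nat) (Ptab_s_377_380 c) (Ptab_s_380_384 c) (Nat.ble 380 c)
noncomputable def Ptab_s_371_384 (c : Nat) : Nat := @Bool.rec (fun _ => Nat) (Ptab_s_371_377 c) (Ptab_s_377_384 c) (Nat.ble 377 c)
noncomputable def Ptab_s_385_387 (c : Nat) : Nat := @Bool.rec (fun _ => Nat) (Ptab_385) (Ptab_386) (Nat.ble 386 c)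
noncomputable def Ptab_s_384_387 (c : Nat) : Nat := @Bool.rec (fun _ => Nat) (Ptab_384) (Ptab_s_385_387 c) (Nat.ble 385 c)
noncomputable def Ptab_s_388_390 (c : Nat) : Nat := @Bool.rec (fun _ => Nat) (Ptab_388) (Ptab_389) (Nat.ble 389 c)
noncomputable def Ptab_s_387_390 (c : Nat) : Nat := @Bool.rec (fun _ => Nat) (Ptab_387) (Ptab_s_388_390 c) (Nat.ble 388 c)
noncomputable def Ptab_s_384_390 (c : Nat) : Nat := @Bool.rec (fun _ => Nat) (Ptab_s_384_387 c) (Ptab_s_387_390 c) (Nat.ble 387 c)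
noncomputable def Ptab_s_391_393 (c : Nat) : Nat := @Bool.rec (fun _ => Nat) (Ptab_391) (Ptab_392) (Nat.ble 392 c)
noncomputable def Ptab_s_390_393 (c : Nat) : Nat := @Bool.rec (fun _ => Nat) (Ptab_390) (Ptab_s_391_393 c) (Nat.ble 391 c)
noncomputable def Ptab_s_393_395 (c : Nat) : Nat := @Bool.rec (fun _ => Nat) (Ptab_393) (Ptab_394) (Nat.ble 394 c)
noncomputable def Ptab_s_395_397 (c : Nat) : Nat := @Bool.rec (fun _ => Nat) (Ptab_395) (Ptab_396) (Nat.ble 396 c)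
noncomputable def Ptab_s_393_397 (c : Nat) : Nat := @Bool.rec (fun _ => Nat) (Ptab_s_393_395 c) (Ptab_s_395_397 c) (Nat.ble 395 c)
noncomputable def Ptab_s_390_397 (c : Nat) : Nat := @Bool.rec (fun _ => Nat) (Ptab_s_390_393 c) (Ptab_s_393_397 c) (Nat.ble 393 c)
noncomputable def Ptab_s_384_397 (c : Nat) : Nat := @Bool.rec (fun _ => Nat) (Ptab_s_384_390 c) (Ptab_s_390_397 c) (Nat.ble 390 c)
noncomputable def Ptab_s_371_397 (c : Nat) : Nat := @Bool.rec (fun _ => Nat) (Ptab_s_371_384 c) (Ptab_s_384_397 c) (Nat.ble 384 c)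
noncomputable def Ptab_s_398_400 (c : Nat) : Nat := @Bool.rec (fun _ => Nat) (Ptab_398) (Ptab_399) (Nat.ble 399 c)
noncomputable def Ptab_s_397_400 (c : Nat) : Nat := @Bool.rec (fun _ => Nat) (Ptab_397) (Ptab_s_398_400 c) (Nat.ble 398 c)
noncomputable def Ptab_s_401_403 (c : Nat) : Nat := @Bool.rec (fun _ => Nat) (Ptab_401) (Ptab_402) (Nat.ble 402 c)
noncomputable def Ptab_s_400_403 (c : Nat) : Nat := @Bool.rec (fun _ => Nat) (Ptab_400) (Ptab_s_401_403 c) (Nat.ble 401 c)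
noncomputable def Ptab_s_397_403 (c : Nat) : Nat := @Bool.rec (fun _ => Nat) (Ptab_s_397_400 c) (Ptab_s_400_403 c) (Nat.ble 400 c)
noncomputable def Ptab_s_404_406 (c : Nat) : Nat := @Bool.rec (fun _ => Nat) (Ptab_404) (Ptab_405) (Nat.ble 405 c)
noncomputable def Ptab_s_403_406 (c : Nat) : Nat := @Bool.rec (fun _ => Nat) (Ptab_403) (Ptab_s_404_406 c) (Nat.ble 404 c)
noncomputable def Ptab_s_406_408 (c : Nat) : Nat := @Bool.rec (fun _ => Nat) (Ptab_406) (Ptab_407) (Nat.ble 407 c)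
noncomputable def Ptab_s_408_410 (c : Nat) : Nat := @Bool.rec (fun _ => Nat) (Ptab_408) (Ptab_409) (Nat.ble 409 c)
noncomputable def Ptab_s_406_410 (c : Nat) : Nat := @Bool.rec (fun _ => Nat) (Ptab_s_406_408 c) (Ptab_s_408_410 c) (Nat.ble 408 c)
noncomputable def Ptab_s_403_410 (c : Nat) : Nat := @Bool.rec (fun _ => Nat) (Ptab_s_403_406 c) (Ptab_s_406_410 c) (Nat.ble 406 c)
noncomputable def Ptab_s_397_410 (c : Nat) : Nat := @Bool.rec (fun _ => Nat) (Ptab_s_397_403 c) (Ptab_s_403_410 c) (Nat.ble 403 c)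
noncomputable def Ptab_s_411_413 (c : Nat) : Nat := @Bool.rec (fun _ => Nat) (Ptab_411) (Ptab_412) (Nat.ble 412 c)
noncomputable def Ptab_s_410_413 (c : Nat) : Nat := @Bool.rec (fun _ => Nat) (Ptab_410) (Ptab_s_411_413 c) (Nat.ble 411 c)
noncomputable def Ptab_s_413_415 (c : Nat) : Nat := @Bool.rec (fun _ => Nat) (Ptab_413) (Ptab_414) (Nat.ble 414 c)
noncomputable def Ptab_s_415_417 (c : Nat) : Nat := @Bool.rec (fun _ => Nat) (Ptab_415) (Ptab_416) (Nat.ble 416 c)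
noncomputable def Ptab_s_413_417 (c : Nat) : Nat := @Bool.rec (fun _ => Nat) (Ptab_s_413_415 c) (Ptab_s_415_417 c) (Nat.ble 415 c)
noncomputable def Ptab_s_410_417 (c : Nat) : Nat := @Bool.rec (fun _ => Nat) (Ptab_s_410_413 c) (Ptab_s_413_417 c) (Nat.ble 413 c)
noncomputable def Ptab_s_418_420 (c : Nat) : Nat := @Bool.rec (fun _ => Nat) (Ptab_418) (Ptab_419) (Nat.ble 419 c)
noncomputable def Ptab_s_417_420 (c : Nat) : Nat := @Bool.rec (fun _ => Nat) (Ptab_417) (Ptab_s_418_420 c) (Nat.ble 418 c)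
noncomputable def Ptab_s_420_422 (c : Nat) : Nat := @Bool.rec (fun _ => Nat) (Ptab_420) (Ptab_421) (Nat.ble 421 c)
noncomputable def Ptab_s_422_424 (c : Nat) : Nat := @Bool.rec (fun _ => Nat) (Ptab_422) (Ptab_423) (Nat.ble 423 c)
noncomputable def Ptab_s_420_424 (c : Nat) : Nat := @Bool.rec (fun _ => Nat) (Ptab_s_420_422 c) (Ptab_s_422_424 c) (Nat.ble 422 c)
noncomputable def Ptab_s_417_424 (c : Nat) : Nat := @Bool.rec (fun _ => Nat) (Ptab_s_417_420 c) (Ptab_s_420_424 c) (Nat.ble 420 c)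
noncomputable def Ptab_s_410_424 (c : Nat) : Nat := @Bool.rec (fun _ => Nat) (Ptab_s_410_417 c) (Ptab_s_417_424 c) (Nat.ble 417 c)
noncomputable def Ptab_s_397_424 (c : Nat) : Nat := @Bool.rec (fun _ => Nat) (Ptab_s_397_410 c) (Ptab_s_410_424 c) (Nat.ble 410 c)
noncomputable def Ptab_s_371_424 (c : Nat) : Nat := @Bool.rec (fun _ => Nat) (Ptab_s_371_397 c) (Ptab_s_397_424 c) (Nat.ble 397 c)
noncomputable def Ptab_s_318_424 (c : Nat) : Nat := @Bool.rec (fun _ => Nat) (Ptab_s_318_371 c) (Ptab_s_371_424 c) (Nat.ble 371 c)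
noncomputable def Ptab_s_212_424 (c : Nat) : Nat := @Bool.rec (fun _ => Nat) (Ptab_s_212_318 c) (Ptab_s_318_424 c) (Nat.ble 318 c)
noncomputable def Ptab_s_0_424 (c : Nat) : Nat := @Bool.rec (fun _ => Nat) (Ptab_s_0_212 c) (Ptab_s_212_424 c) (Nat.ble 212 c)
noncomputable def Ptab_s_425_427 (c : Nat) : Nat := @Bool.rec (fun _ => Nat) (Ptab_425) (Ptab_426) (Nat.ble 426 c)
noncomputable def Ptab_s_424_427 (c : Nat) : Nat := @Bool.rec (fun _ => Nat) (Ptab_424) (Ptab_s_425_427 c) (Nat.ble 425 c)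
noncomputable def Ptab_s_428_430 (c : Nat) : Nat := @Bool.rec (fun _ => Nat) (Ptab_428) (Ptab_429) (Nat.ble 429 c)
noncomputable def Ptab_s_427_430 (c : Nat) : Nat := @Bool.rec (fun _ => Nat) (Ptab_427) (Ptab_s_428_430 c) (Nat.ble 428 c)
noncomputable def Ptab_s_424_430 (c : Nat) : Nat := @Bool.rec (fun _ => Nat) (Ptab_s_424_427 c) (Ptab_s_427_430 c) (Nat.ble 427 c)
noncomputable def Ptab_s_431_433 (c : Nat) : Nat := @Bool.rec (fun _ => Nat) (Ptab_431) (Ptab_432) (Nat.ble 432 c)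
noncomputable def Ptab_s_430_433 (c : Nat) : Nat := @Bool.rec (fun _ => Nat) (Ptab_430) (Ptab_s_431_433 c) (Nat.ble 431 c)
noncomputable def Ptab_s_433_435 (c : Nat) : Nat := @Bool.rec (fun _ => Nat) (Ptab_433) (Ptab_434) (Nat.ble 434 c)
noncomputable def Ptab_s_435_437 (c : Nat) : Nat := @Bool.rec (fun _ => Nat) (Ptab_435) (Ptab_436) (Nat.ble 436 c)
noncomputable def Ptab_s_433_437 (c : Nat) : Nat := @Bool.rec (fun _ => Nat) (Ptab_s_433_435 c) (Ptab_s_435_437 c) (Nat.ble 435 c)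
noncomputable def Ptab_s_430_437 (c : Nat) : Nat := @Bool.rec (fun _ => Nat) (Ptab_s_430_433 c) (Ptab_s_433_437 c) (Nat.ble 433 c)
noncomputable def Ptab_s_424_437 (c : Nat) : Nat := @Bool.rec (fun _ => Nat) (Ptab_s_424_430 c) (Ptab_s_430_437 c) (Nat.ble 430 c)
noncomputable def Ptab_s_438_440 (c : Nat) : Nat := @Bool.rec (fun _ => Nat) (Ptab_438) (Ptab_439) (Nat.ble 439 c)
noncomputable def Ptab_s_437_440 (c : Nat) : Nat := @Bool.rec (fun _ => Nat) (Ptab_437) (Ptab_s_438_440 c) (Nat.ble 438 c)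
noncomputable def Ptab_s_441_443 (c : Nat) : Nat := @Bool.rec (fun _ => Nat) (Ptab_441) (Ptab_442) (Nat.ble 442 c)
noncomputable def Ptab_s_440_443 (c : Nat) : Nat := @Bool.rec (fun _ => Nat) (Ptab_440) (Ptab_s_441_443 c) (Nat.ble 441 c)
noncomputable def Ptab_s_437_443 (c : Nat) : Nat := @Bool.rec (fun _ => Nat) (Ptab_s_437_440 c) (Ptab_s_440_443 c) (Nat.ble 440 c)
noncomputable def Ptab_s_444_446 (c : Nat) : Nat := @Bool.rec (fun _ => Nat) (Ptab_444) (Ptab_445) (Nat.ble 445 c)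
noncomputable def Ptab_s_443_446 (c : Nat) : Nat := @Bool.rec (fun _ => Nat) (Ptab_443) (Ptab_s_444_446 c) (Nat.ble 444 c)
noncomputable def Ptab_s_446_448 (c : Nat) : Nat := @Bool.rec (fun _ => Nat) (Ptab_446) (Ptab_447) (Nat.ble 447 c)
noncomputable def Ptab_s_448_450 (c : Nat) : Nat := @Bool.rec (fun _ => Nat) (Ptab_448) (Ptab_449) (Nat.ble 449 c)
noncomputable def Ptab_s_446_450 (c : Nat) : Nat := @Bool.rec (fun _ => Nat) (Ptab_s_446_448 c) (Ptab_s_448_450 c) (Nat.ble 448 c)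
noncomputable def Ptab_s_443_450 (c : Nat) : Nat := @Bool.rec (fun _ => Nat) (Ptab_s_443_446 c) (Ptab_s_446_450 c) (Nat.ble 446 c)
noncomputable def Ptab_s_437_450 (c : Nat) : Nat := @Bool.rec (fun _ => Nat) (Ptab_s_437_443 c) (Ptab_s_443_450 c) (Nat.ble 443 c)
noncomputable def Ptab_s_424_450 (c : Nat) : Nat := @Bool.rec (fun _ => Nat) (Ptab_s_424_437 c) (Ptab_s_437_450 c) (Nat.ble 437 c)
noncomputable def Ptab_s_451_453 (c : Nat) : Nat := @Bool.rec (fun _ => Nat) (Ptab_451) (Ptab_452) (Nat.ble 452 c)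
noncomputable def Ptab_s_450_453 (c : Nat) : Nat := @Bool.rec (fun _ => Nat) (Ptab_450) (Ptab_s_451_453 c) (Nat.ble 451 c)
noncomputable def Ptab_s_454_456 (c : Nat) : Nat := @Bool.rec (fun _ => Nat) (Ptab_454) (Ptab_455) (Nat.ble 455 c)
noncomputable def Ptab_s_453_456 (c : Nat) : Nat := @Bool.rec (fun _ => Nat) (Ptab_453) (Ptab_s_454_456 c) (Nat.ble 454 c)
noncomputable def Ptab_s_450_456 (c : Nat) : Nat := @Bool.rec (fun _ => Nat) (Ptab_s_450_453 c) (Ptab_s_453_456 c) (Nat.ble 453 c)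
noncomputable def Ptab_s_457_459 (c : Nat) : Nat := @Bool.rec (fun _ => Nat) (Ptab_457) (Ptab_458) (Nat.ble 458 c)
noncomputable def Ptab_s_456_459 (c : Nat) : Nat := @Bool.rec (fun _ => Nat) (Ptab_456) (Ptab_s_457_459 c) (Nat.ble 457 c)
noncomputable def Ptab_s_459_461 (c : Nat) : Nat := @Bool.rec (fun _ => Nat) (Ptab_459) (Ptab_460) (Nat.ble 460 c)
noncomputable def Ptab_s_461_463 (c : Nat) : Nat := @Bool.rec (fun _ => Nat) (Ptab_461) (Ptab_462) (Nat.ble 462 c)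
noncomputable def Ptab_s_459_463 (c : Nat) : Nat := @Bool.rec (fun _ => Nat) (Ptab_s_459_461 c) (Ptab_s_461_463 c) (Nat.ble 461 c)
noncomputable def Ptab_s_456_463 (c : Nat) : Nat := @Bool.rec (fun _ => Nat) (Ptab_s_456_459 c) (Ptab_s_459_463 c) (Nat.ble 459 c)
noncomputable def Ptab_s_450_463 (c : Nat) : Nat := @Bool.rec (fun _ => Nat) (Ptab_s_450_456 c) (Ptab_s_456_463 c) (Nat.ble 456 c)
noncomputable def Ptab_s_464_466 (c : Nat) : Nat := @Bool.rec (fun _ => Nat) (Ptab_464) (Ptab_465) (Nat.ble 465 c)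
noncomputable def Ptab_s_463_466 (c : Nat) : Nat := @Bool.rec (fun _ => Nat) (Ptab_463) (Ptab_s_464_466 c) (Nat.ble 464 c)
noncomputable def Ptab_s_466_468 (c : Nat) : Nat := @Bool.rec (fun _ => Nat) (Ptab_466) (Ptab_467) (Nat.ble 467 c)
noncomputable def Ptab_s_468_470 (c : Nat) : Nat := @Bool.rec (fun _ => Nat) (Ptab_468) (Ptab_469) (Nat.ble 469 c)
noncomputable def Ptab_s_466_470 (c : Nat) : Nat := @Bool.rec (fun _ => Nat) (Ptab_s_466_468 c) (Ptab_s_468_470 c) (Nat.ble 468 c)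
noncomputable def Ptab_s_463_470 (c : Nat) : Nat := @Bool.rec (fun _ => Nat) (Ptab_s_463_466 c) (Ptab_s_466_470 c) (Nat.ble 466 c)
noncomputable def Ptab_s_471_473 (c : Nat) : Nat := @Bool.rec (fun _ => Nat) (Ptab_471) (Ptab_472) (Nat.ble 472 c)
noncomputable def Ptab_s_470_473 (c : Nat) : Nat := @Bool.rec (fun _ => Nat) (Ptab_470) (Ptab_s_471_473 c) (Nat.ble 471 c)
noncomputable def Ptab_s_473_475 (c : Nat) : Nat := @Bool.rec (fun _ => Nat) (Ptab_473) (Ptab_474) (Nat.ble 474 c)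
noncomputable def Ptab_s_475_477 (c : Nat) : Nat := @Bool.rec (fun _ => Nat) (Ptab_475) (Ptab_476) (Nat.ble 476 c)
noncomputable def Ptab_s_473_477 (c : Nat) : Nat := @Bool.rec (fun _ => Nat) (Ptab_s_473_475 c) (Ptab_s_475_477 c) (Nat.ble 475 c)
noncomputable def Ptab_s_470_477 (c : Nat) : Nat := @Bool.rec (fun _ => Nat) (Ptab_s_470_473 c) (Ptab_s_473_477 c) (Nat.ble 473 c)
noncomputable def Ptab_s_463_477 (c : Nat) : Nat := @Bool.rec (fun _ => Nat) (Ptab_s_463_470 c) (Ptab_s_470_477 c) (Nat.ble 470 c)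
noncomputable def Ptab_s_450_477 (c : Nat) : Nat := @Bool.rec (fun _ => Nat) (Ptab_s_450_463 c) (Ptab_s_463_477 c) (Nat.ble 463 c)
noncomputable def Ptab_s_424_477 (c : Nat) : Nat := @Bool.rec (fun _ => Nat) (Ptab_s_424_450 c) (Ptab_s_450_477 c) (Nat.ble 450 c)
noncomputable def Ptab_s_478_480 (c : Nat) : Nat := @Bool.rec (fun _ => Nat) (Ptab_478) (Ptab_479) (Nat.ble 479 c)
noncomputable def Ptab_s_477_480 (c : Nat) : Nat := @Bool.rec (fun _ => Nat) (Ptab_477) (Ptab_s_478_480 c) (Nat.ble 478 c)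
noncomputable def Ptab_s_481_483 (c : Nat) : Nat := @Bool.rec (fun _ => Nat) (Ptab_481) (Ptab_482) (Nat.ble 482 c)
noncomputable def Ptab_s_480_483 (c : Nat) : Nat := @Bool.rec (fun _ => Nat) (Ptab_480) (Ptab_s_481_483 c) (Nat.ble 481 c)
noncomputable def Ptab_s_477_483 (c : Nat) : Nat := @Bool.rec (fun _ => Nat) (Ptab_s_477_480 c) (Ptab_s_480_483 c) (Nat.ble 480 c)
noncomputable def Ptab_s_484_486 (c : Nat) : Nat := @Bool.rec (fun _ => Nat) (Ptab_484) (Ptab_485) (Nat.ble 485 c)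
noncomputable def Ptab_s_483_486 (c : Nat) : Nat := @Bool.rec (fun _ => Nat) (Ptab_483) (Ptab_s_484_486 c) (Nat.ble 484 c)
noncomputable def Ptab_s_486_488 (c : Nat) : Nat := @Bool.rec (fun _ => Nat) (Ptab_486) (Ptab_487) (Nat.ble 487 c)
noncomputable def Ptab_s_488_490 (c : Nat) : Nat := @Bool.rec (fun _ => Nat) (Ptab_488) (Ptab_489) (Nat.ble 489 c)
noncomputable def Ptab_s_486_490 (c : Nat) : Nat := @Bool.rec (fun _ => Nat) (Ptab_s_486_488 c) (Ptab_s_488_490 c) (Nat.ble 488 c)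
noncomputable def Ptab_s_483_490 (c : Nat) : Nat := @Bool.rec (fun _ => Nat) (Ptab_s_483_486 c) (Ptab_s_486_490 c) (Nat.ble 486 c)
noncomputable def Ptab_s_477_490 (c : Nat) : Nat := @Bool.rec (fun _ => Nat) (Ptab_s_477_483 c) (Ptab_s_483_490 c) (Nat.ble 483 c)
noncomputable def Ptab_s_491_493 (c : Nat) : Nat := @Bool.rec (fun _ => Nat) (Ptab_491) (Ptab_492) (Nat.ble 492 c)
noncomputable def Ptab_s_490_493 (c : Nat) : Nat := @Bool.rec (fun _ => Nat) (Ptab_490) (Ptab_s_491_493 c) (Nat.ble 491 c)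
noncomputable def Ptab_s_494_496 (c : Nat) : Nat := @Bool.rec (fun _ => Nat) (Ptab_494) (Ptab_495) (Nat.ble 495 c)
noncomputable def Ptab_s_493_496 (c : Nat) : Nat := @Bool.rec (fun _ => Nat) (Ptab_493) (Ptab_s_494_496 c) (Nat.ble 494 c)
noncomputable def Ptab_s_490_496 (c : Nat) : Nat := @Bool.rec (fun _ => Nat) (Ptab_s_490_493 c) (Ptab_s_493_496 c) (Nat.ble 493 c)
noncomputable def Ptab_s_497_499 (c : Nat) : Nat := @Bool.rec (fun _ => Nat) (Ptab_497) (Ptab_498) (Nat.ble 498 c)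
noncomputable def Ptab_s_496_499 (c : Nat) : Nat := @Bool.rec (fun _ => Nat) (Ptab_496) (Ptab_s_497_499 c) (Nat.ble 497 c)
noncomputable def Ptab_s_499_501 (c : Nat) : Nat := @Bool.rec (fun _ => Nat) (Ptab_499) (Ptab_500) (Nat.ble 500 c)
noncomputable def Ptab_s_501_503 (c : Nat) : Nat := @Bool.rec (fun _ => Nat) (Ptab_501) (Ptab_502) (Nat.ble 502 c)
noncomputable def Ptab_s_499_503 (c : Nat) : Nat := @Bool.rec (fun _ => Nat) (Ptab_s_499_501 c) (Ptab_s_501_503 c) (Nat.ble 501 c)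
noncomputable def Ptab_s_496_503 (c : Nat) : Nat := @Bool.rec (fun _ => Nat) (Ptab_s_496_499 c) (Ptab_s_499_503 c) (Nat.ble 499 c)
noncomputable def Ptab_s_490_503 (c : Nat) : Nat := @Bool.rec (fun _ => Nat) (Ptab_s_490_496 c) (Ptab_s_496_503 c) (Nat.ble 496 c)
noncomputable def Ptab_s_477_503 (c : Nat) : Nat := @Bool.rec (fun _ => Nat) (Ptab_s_477_490 c) (Ptab_s_490_503 c) (Nat.ble 490 c)
noncomputable def Ptab_s_504_506 (c : Nat) : Nat := @Bool.rec (fun _ => Nat) (Ptab_504) (Ptab_505) (Nat.ble 505 c)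
noncomputable def Ptab_s_503_506 (c : Nat) : Nat := @Bool.rec (fun _ => Nat) (Ptab_503) (Ptab_s_504_506 c) (Nat.ble 504 c)
noncomputable def Ptab_s_507_509 (c : Nat) : Nat := @Bool.rec (fun _ => Nat) (Ptab_507) (Ptab_508) (Nat.ble 508 c)
noncomputable def Ptab_s_506_509 (c : Nat) : Nat := @Bool.rec (fun _ => Nat) (Ptab_506) (Ptab_s_507_509 c) (Nat.ble 507 c)
noncomputable def Ptab_s_503_509 (c : Nat) : Nat := @Bool.rec (fun _ => Nat) (Ptab_s_503_506 c) (Ptab_s_506_509 c) (Nat.ble 506 c)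
noncomputable def Ptab_s_510_512 (c : Nat) : Nat := @Bool.rec (fun _ => Nat) (Ptab_510) (Ptab_511) (Nat.ble 511 c)
noncomputable def Ptab_s_509_512 (c : Nat) : Nat := @Bool.rec (fun _ => Nat) (Ptab_509) (Ptab_s_510_512 c) (Nat.ble 510 c)
noncomputable def Ptab_s_512_514 (c : Nat) : Nat := @Bool.rec (fun _ => Nat) (Ptab_512) (Ptab_513) (Nat.ble 513 c)
noncomputable def Ptab_s_514_516 (c : Nat) : Nat := @Bool.rec (fun _ => Nat) (Ptab_514) (Ptab_515) (Nat.ble 515 c)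
noncomputable def Ptab_s_512_516 (c : Nat) : Nat := @Bool.rec (fun _ => Nat) (Ptab_s_512_514 c) (Ptab_s_514_516 c) (Nat.ble 514 c)
noncomputable def Ptab_s_509_516 (c : Nat) : Nat := @Bool.rec (fun _ => Nat) (Ptab_s_509_512 c) (Ptab_s_512_516 c) (Nat.ble 512 c)
noncomputable def Ptab_s_503_516 (c : Nat) : Nat := @Bool.rec (fun _ => Nat) (Ptab_s_503_509 c) (Ptab_s_509_516 c) (Nat.ble 509 c)
noncomputable def Ptab_s_517_519 (c : Nat) : Nat := @Bool.rec (fun _ => Nat) (Ptab_517) (Ptab_518) (Nat.ble 518 c)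
noncomputable def Ptab_s_516_519 (c : Nat) : Nat := @Bool.rec (fun _ => Nat) (Ptab_516) (Ptab_s_517_519 c) (Nat.ble 517 c)
noncomputable def Ptab_s_519_521 (c : Nat) : Nat := @Bool.rec (fun _ => Nat) (Ptab_519) (Ptab_520) (Nat.ble 520 c)
noncomputable def Ptab_s_521_523 (c : Nat) : Nat := @Bool.rec (fun _ => Nat) (Ptab_521) (Ptab_522) (Nat.ble 522 c)
noncomputable def Ptab_s_519_523 (c : Nat) : Nat := @Bool.rec (fun _ => Nat) (Ptab_s_519_521 c) (Ptab_s_521_523 c) (Nat.ble 521 c)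
noncomputable def Ptab_s_516_523 (c : Nat) : Nat := @Bool.rec (fun _ => Nat) (Ptab_s_516_519 c) (Ptab_s_519_523 c) (Nat.ble 519 c)
noncomputable def Ptab_s_524_526 (c : Nat) : Nat := @Bool.rec (fun _ => Nat) (Ptab_524) (Ptab_525) (Nat.ble 525 c)
noncomputable def Ptab_s_523_526 (c : Nat) : Nat := @Bool.rec (fun _ => Nat) (Ptab_523) (Ptab_s_524_526 c) (Nat.ble 524 c)
noncomputable def Ptab_s_526_528 (c : Nat) : Nat := @Bool.rec (fun _ => Nat) (Ptab_526) (Ptab_527) (Nat.ble 527 c)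
noncomputable def Ptab_s_528_530 (c : Nat) : Nat := @Bool.rec (fun _ => Nat) (Ptab_528) (Ptab_529) (Nat.ble 529 c)
noncomputable def Ptab_s_526_530 (c : Nat) : Nat := @Bool.rec (fun _ => Nat) (Ptab_s_526_528 c) (Ptab_s_528_530 c) (Nat.ble 528 c)
noncomputable def Ptab_s_523_530 (c : Nat) : Nat := @Bool.rec (fun _ => Nat) (Ptab_s_523_526 c) (Ptab_s_526_530 c) (Nat.ble 526 c)
noncomputable def Ptab_s_516_530 (c : Nat) : Nat := @Bool.rec (fun _ => Nat) (Ptab_s_516_523 c) (Ptab_s_523_530 c) (Nat.ble 523 c)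
noncomputable def Ptab_s_503_530 (c : Nat) : Nat := @Bool.rec (fun _ => Nat) (Ptab_s_503_516 c) (Ptab_s_516_530 c) (Nat.ble 516 c)
noncomputable def Ptab_s_477_530 (c : Nat) : Nat := @Bool.rec (fun _ => Nat) (Ptab_s_477_503 c) (Ptab_s_503_530 c) (Nat.ble 503 c)
noncomputable def Ptab_s_424_530 (c : Nat) : Nat := @Bool.rec (fun _ => Nat) (Ptab_s_424_477 c) (Ptab_s_477_530 c) (Nat.ble 477 c)
noncomputable def Ptab_s_531_533 (c : Nat) : Nat := @Bool.rec (fun _ => Nat) (Ptab_531) (Ptab_532) (Nat.ble 532 c)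
noncomputable def Ptab_s_530_533 (c : Nat) : Nat := @Bool.rec (fun _ => Nat) (Ptab_530) (Ptab_s_531_533 c) (Nat.ble 531 c)
noncomputable def Ptab_s_534_536 (c : Nat) : Nat := @Bool.rec (fun _ => Nat) (Ptab_534) (Ptab_535) (Nat.ble 535 c)
noncomputable def Ptab_s_533_536 (c : Nat) : Nat := @Bool.rec (fun _ => Nat) (Ptab_533) (Ptab_s_534_536 c) (Nat.ble 534 c)
noncomputable def Ptab_s_530_536 (c : Nat) : Nat := @Bool.rec (fun _ => Nat) (Ptab_s_530_533 c) (Ptab_s_533_536 c) (Nat.ble 533 c)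
noncomputable def Ptab_s_537_539 (c : Nat) : Nat := @Bool.rec (fun _ => Nat) (Ptab_537) (Ptab_538) (Nat.ble 538 c)
noncomputable def Ptab_s_536_539 (c : Nat) : Nat := @Bool.rec (fun _ => Nat) (Ptab_536) (Ptab_s_537_539 c) (Nat.ble 537 c)
noncomputable def Ptab_s_539_541 (c : Nat) : Nat := @Bool.rec (fun _ => Nat) (Ptab_539) (Ptab_540) (Nat.ble 540 c)
noncomputable def Ptab_s_541_543 (c : Nat) : Nat := @Bool.rec (fun _ => Nat) (Ptab_541) (Ptab_542) (Nat.ble 542 c)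
noncomputable def Ptab_s_539_543 (c : Nat) : Nat := @Bool.rec (fun _ => Nat) (Ptab_s_539_541 c) (Ptab_s_541_543 c) (Nat.ble 541 c)
noncomputable def Ptab_s_536_543 (c : Nat) : Nat := @Bool.rec (fun _ => Nat) (Ptab_s_536_539 c) (Ptab_s_539_543 c) (Nat.ble 539 c)
noncomputable def Ptab_s_530_543 (c : Nat) : Nat := @Bool.rec (fun _ => Nat) (Ptab_s_530_536 c) (Ptab_s_536_543 c) (Nat.ble 536 c)
noncomputable def Ptab_s_544_546 (c : Nat) : Nat := @Bool.rec (fun _ => Nat) (Ptab_544) (Ptab_545) (Nat.ble 545 c)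
noncomputable def Ptab_s_543_546 (c : Nat) : Nat := @Bool.rec (fun _ => Nat) (Ptab_543) (Ptab_s_544_546 c) (Nat.ble 544 c)
noncomputable def Ptab_s_547_549 (c : Nat) : Nat := @Bool.rec (fun _ => Nat) (Ptab_547) (Ptab_548) (Nat.ble 548 c)
noncomputable def Ptab_s_546_549 (c : Nat) : Nat := @Bool.rec (fun _ => Nat) (Ptab_546) (Ptab_s_547_549 c) (Nat.ble 547 c)
noncomputable def Ptab_s_543_549 (c : Nat) : Nat := @Bool.rec (fun _ => Nat) (Ptab_s_543_546 c) (Ptab_s_546_549 c) (Nat.ble 546 c)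
noncomputable def Ptab_s_550_552 (c : Nat) : Nat := @Bool.rec (fun _ => Nat) (Ptab_550) (Ptab_551) (Nat.ble 551 c)
noncomputable def Ptab_s_549_552 (c : Nat) : Nat := @Bool.rec (fun _ => Nat) (Ptab_549) (Ptab_s_550_552 c) (Nat.ble 550 c)
noncomputable def Ptab_s_552_554 (c : Nat) : Nat := @Bool.rec (fun _ => Nat) (Ptab_552) (Ptab_553) (Nat.ble 553 c)
noncomputable def Ptab_s_554_556 (c : Nat) : Nat := @Bool.rec (fun _ => Nat) (Ptab_554) (Ptab_555) (Nat.ble 555 c)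
noncomputable def Ptab_s_552_556 (c : Nat) : Nat := @Bool.rec (fun _ => Nat) (Ptab_s_552_554 c) (Ptab_s_554_556 c) (Nat.ble 554 c)
noncomputable def Ptab_s_549_556 (c : Nat) : Nat := @Bool.rec (fun _ => Nat) (Ptab_s_549_552 c) (Ptab_s_552_556 c) (Nat.ble 552 c)
noncomputable def Ptab_s_543_556 (c : Nat) : Nat := @Bool.rec (fun _ => Nat) (Ptab_s_543_549 c) (Ptab_s_549_556 c) (Nat.ble 549 c)
noncomputable def Ptab_s_530_556 (c : Nat) : Nat := @Bool.rec (fun _ => Nat) (Ptab_s_530_543 c) (Ptab_s_543_556 c) (Nat.ble 543 c)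
noncomputable def Ptab_s_557_559 (c : Nat) : Nat := @Bool.rec (fun _ => Nat) (Ptab_557) (Ptab_558) (Nat.ble 558 c)
noncomputable def Ptab_s_556_559 (c : Nat) : Nat := @Bool.rec (fun _ => Nat) (Ptab_556) (Ptab_s_557_559 c) (Nat.ble 557 c)
noncomputable def Ptab_s_560_562 (c : Nat) : Nat := @Bool.rec (fun _ => Nat) (Ptab_560) (Ptab_561) (Nat.ble 561 c)
noncomputable def Ptab_s_559_562 (c : Nat) : Nat := @Bool.rec (fun _ => Nat) (Ptab_559) (Ptab_s_560_562 c) (Nat.ble 560 c)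
noncomputable def Ptab_s_556_562 (c : Nat) : Nat := @Bool.rec (fun _ => Nat) (Ptab_s_556_559 c) (Ptab_s_559_562 c) (Nat.ble 559 c)
noncomputable def Ptab_s_563_565 (c : Nat) : Nat := @Bool.rec (fun _ => Nat) (Ptab_563) (Ptab_564) (Nat.ble 564 c)
noncomputable def Ptab_s_562_565 (c : Nat) : Nat := @Bool.rec (fun _ => Nat) (Ptab_562) (Ptab_s_563_565 c) (Nat.ble 563 c)
noncomputable def Ptab_s_565_567 (c : Nat) : Nat := @Bool.rec (fun _ => Nat) (Ptab_565) (Ptab_566) (Nat.ble 566 c)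
noncomputable def Ptab_s_567_569 (c : Nat) : Nat := @Bool.rec (fun _ => Nat) (Ptab_567) (Ptab_568) (Nat.ble 568 c)
noncomputable def Ptab_s_565_569 (c : Nat) : Nat := @Bool.rec (fun _ => Nat) (Ptab_s_565_567 c) (Ptab_s_567_569 c) (Nat.ble 567 c)
noncomputable def Ptab_s_562_569 (c : Nat) : Nat := @Bool.rec (fun _ => Nat) (Ptab_s_562_565 c) (Ptab_s_565_569 c) (Nat.ble 565 c)
noncomputable def Ptab_s_556_569 (c : Nat) : Nat := @Bool.rec (fun _ => Nat) (Ptab_s_556_562 c) (Ptab_s_562_569 c) (Nat.ble 562 c)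
noncomputable def Ptab_s_570_572 (c : Nat) : Nat := @Bool.rec (fun _ => Nat) (Ptab_570) (Ptab_571) (Nat.ble 571 c)
noncomputable def Ptab_s_569_572 (c : Nat) : Nat := @Bool.rec (fun _ => Nat) (Ptab_569) (Ptab_s_570_572 c) (Nat.ble 570 c)
noncomputable def Ptab_s_572_574 (c : Nat) : Nat := @Bool.rec (fun _ => Nat) (Ptab_572) (Ptab_573) (Nat.ble 573 c)
noncomputable def Ptab_s_574_576 (c : Nat) : Nat := @Bool.rec (fun _ => Nat) (Ptab_574) (Ptab_575) (Nat.ble 575 c)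
noncomputable def Ptab_s_572_576 (c : Nat) : Nat := @Bool.rec (fun _ => Nat) (Ptab_s_572_574 c) (Ptab_s_574_576 c) (Nat.ble 574 c)
noncomputable def Ptab_s_569_576 (c : Nat) : Nat := @Bool.rec (fun _ => Nat) (Ptab_s_569_572 c) (Ptab_s_572_576 c) (Nat.ble 572 c)
noncomputable def Ptab_s_577_579 (c : Nat) : Nat := @Bool.rec (fun _ => Nat) (Ptab_577) (Ptab_578) (Nat.ble 578 c)
noncomputable def Ptab_s_576_579 (c : Nat) : Nat := @Bool.rec (fun _ => Nat) (Ptab_576) (Ptab_s_577_579 c) (Nat.ble 577 c)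
noncomputable def Ptab_s_579_581 (c : Nat) : Nat := @Bool.rec (fun _ => Nat) (Ptab_579) (Ptab_580) (Nat.ble 580 c)
noncomputable def Ptab_s_581_583 (c : Nat) : Nat := @Bool.rec (fun _ => Nat) (Ptab_581) (Ptab_582) (Nat.ble 582 c)
noncomputable def Ptab_s_579_583 (c : Nat) : Nat := @Bool.rec (fun _ => Nat) (Ptab_s_579_581 c) (Ptab_s_581_583 c) (Nat.ble 581 c)
noncomputable def Ptab_s_576_583 (c : Nat) : Nat := @Bool.rec (fun _ => Nat) (Ptab_s_576_579 c) (Ptab_s_579_583 c) (Nat.ble 579 c)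
noncomputable def Ptab_s_569_583 (c : Nat) : Nat := @Bool.rec (fun _ => Nat) (Ptab_s_569_576 c) (Ptab_s_576_583 c) (Nat.ble 576 c)
noncomputable def Ptab_s_556_583 (c : Nat) : Nat := @Bool.rec (fun _ => Nat) (Ptab_s_556_569 c) (Ptab_s_569_583 c) (Nat.ble 569 c)
noncomputable def Ptab_s_530_583 (c : Nat) : Nat := @Bool.rec (fun _ => Nat) (Ptab_s_530_556 c) (Ptab_s_556_583 c) (Nat.ble 556 c)
noncomputable def Ptab_s_584_586 (c : Nat) : Nat := @Bool.rec (fun _ => Nat) (Ptab_584) (Ptab_585) (Nat.ble 585 c)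
noncomputable def Ptab_s_583_586 (c : Nat) : Nat := @Bool.rec (fun _ => Nat) (Ptab_583) (Ptab_s_584_586 c) (Nat.ble 584 c)
noncomputable def Ptab_s_587_589 (c : Nat) : Nat := @Bool.rec (fun _ => Nat) (Ptab_587) (Ptab_588) (Nat.ble 588 c)
noncomputable def Ptab_s_586_589 (c : Nat) : Nat := @Bool.rec (fun _ => Nat) (Ptab_586) (Ptab_s_587_589 c) (Nat.ble 587 c)
noncomputable def Ptab_s_583_589 (c : Nat) : Nat := @Bool.rec (fun _ => Nat) (Ptab_s_583_586 c) (Ptab_s_586_589 c) (Nat.ble 586 c)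
noncomputable def Ptab_s_590_592 (c : Nat) : Nat := @Bool.rec (fun _ => Nat) (Ptab_590) (Ptab_591) (Nat.ble 591 c)
noncomputable def Ptab_s_589_592 (c : Nat) : Nat := @Bool.rec (fun _ => Nat) (Ptab_589) (Ptab_s_590_592 c) (Nat.ble 590 c)
noncomputable def Ptab_s_592_594 (c : Nat) : Nat := @Bool.rec (fun _ => Nat) (Ptab_592) (Ptab_593) (Nat.ble 593 c)
noncomputable def Ptab_s_594_596 (c : Nat) : Nat := @Bool.rec (fun _ => Nat) (Ptab_594) (Ptab_595) (Nat.ble 595 c)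
noncomputable def Ptab_s_592_596 (c : Nat) : Nat := @Bool.rec (fun _ => Nat) (Ptab_s_592_594 c) (Ptab_s_594_596 c) (Nat.ble 594 c)
noncomputable def Ptab_s_589_596 (c : Nat) : Nat := @Bool.rec (fun _ => Nat) (Ptab_s_589_592 c) (Ptab_s_592_596 c) (Nat.ble 592 c)
noncomputable def Ptab_s_583_596 (c : Nat) : Nat := @Bool.rec (fun _ => Nat) (Ptab_s_583_589 c) (Ptab_s_589_596 c) (Nat.ble 589 c)
noncomputable def Ptab_s_597_599 (c : Nat) : Nat := @Bool.rec (fun _ => Nat) (Ptab_597) (Ptab_598) (Nat.ble 598 c)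
noncomputable def Ptab_s_596_599 (c : Nat) : Nat := @Bool.rec (fun _ => Nat) (Ptab_596) (Ptab_s_597_599 c) (Nat.ble 597 c)
noncomputable def Ptab_s_600_602 (c : Nat) : Nat := @Bool.rec (fun _ => Nat) (Ptab_600) (Ptab_601) (Nat.ble 601 c)
noncomputable def Ptab_s_599_602 (c : Nat) : Nat := @Bool.rec (fun _ => Nat) (Ptab_599) (Ptab_s_600_602 c) (Nat.ble 600 c)
noncomputable def Ptab_s_596_602 (c : Nat) : Nat := @Bool.rec (fun _ => Nat) (Ptab_s_596_599 c) (Ptab_s_599_602 c) (Nat.ble 599 c)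
noncomputable def Ptab_s_603_605 (c : Nat) : Nat := @Bool.rec (fun _ => Nat) (Ptab_603) (Ptab_604) (Nat.ble 604 c)
noncomputable def Ptab_s_602_605 (c : Nat) : Nat := @Bool.rec (fun _ => Nat) (Ptab_602) (Ptab_s_603_605 c) (Nat.ble 603 c)
noncomputable def Ptab_s_605_607 (c : Nat) : Nat := @Bool.rec (fun _ => Nat) (Ptab_605) (Ptab_606) (Nat.ble 606 c)
noncomputable def Ptab_s_607_609 (c : Nat) : Nat := @Bool.rec (fun _ => Nat) (Ptab_607) (Ptab_608) (Nat.ble 608 c)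
noncomputable def Ptab_s_605_609 (c : Nat) : Nat := @Bool.rec (fun _ => Nat) (Ptab_s_605_607 c) (Ptab_s_607_609 c) (Nat.ble 607 c)
noncomputable def Ptab_s_602_609 (c : Nat) : Nat := @Bool.rec (fun _ => Nat) (Ptab_s_602_605 c) (Ptab_s_605_609 c) (Nat.ble 605 c)
noncomputable def Ptab_s_596_609 (c : Nat) : Nat := @Bool.rec (fun _ => Nat) (Ptab_s_596_602 c) (Ptab_s_602_609 c) (Nat.ble 602 c)
noncomputable def Ptab_s_583_609 (c : Nat) : Nat := @Bool.rec (fun _ => Nat) (Ptab_s_583_596 c) (Ptab_s_596_609 c) (Nat.ble 596 c)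
noncomputable def Ptab_s_610_612 (c : Nat) : Nat := @Bool.rec (fun _ => Nat) (Ptab_610) (Ptab_611) (Nat.ble 611 c)
noncomputable def Ptab_s_609_612 (c : Nat) : Nat := @Bool.rec (fun _ => Nat) (Ptab_609) (Ptab_s_610_612 c) (Nat.ble 610 c)
noncomputable def Ptab_s_613_615 (c : Nat) : Nat := @Bool.rec (fun _ => Nat) (Ptab_613) (Ptab_614) (Nat.ble 614 c)
noncomputable def Ptab_s_612_615 (c : Nat) : Nat := @Bool.rec (fun _ => Nat) (Ptab_612) (Ptab_s_613_615 c) (Nat.ble 613 c)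
noncomputable def Ptab_s_609_615 (c : Nat) : Nat := @Bool.rec (fun _ => Nat) (Ptab_s_609_612 c) (Ptab_s_612_615 c) (Nat.ble 612 c)
noncomputable def Ptab_s_616_618 (c : Nat) : Nat := @Bool.rec (fun _ => Nat) (Ptab_616) (Ptab_617) (Nat.ble 617 c)
noncomputable def Ptab_s_615_618 (c : Nat) : Nat := @Bool.rec (fun _ => Nat) (Ptab_615) (Ptab_s_616_618 c) (Nat.ble 616 c)
noncomputable def Ptab_s_618_620 (c : Nat) : Nat := @Bool.rec (fun _ => Nat) (Ptab_618) (Ptab_619) (Nat.ble 619 c)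
noncomputable def Ptab_s_620_622 (c : Nat) : Nat := @Bool.rec (fun _ => Nat) (Ptab_620) (Ptab_621) (Nat.ble 621 c)
noncomputable def Ptab_s_618_622 (c : Nat) : Nat := @Bool.rec (fun _ => Nat) (Ptab_s_618_620 c) (Ptab_s_620_622 c) (Nat.ble 620 c)
noncomputable def Ptab_s_615_622 (c : Nat) : Nat := @Bool.rec (fun _ => Nat) (Ptab_s_615_618 c) (Ptab_s_618_622 c) (Nat.ble 618 c)
noncomputable def Ptab_s_609_622 (c : Nat) : Nat := @Bool.rec (fun _ => Nat) (Ptab_s_609_615 c) (Ptab_s_615_622 c) (Nat.ble 615 c)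
noncomputable def Ptab_s_623_625 (c : Nat) : Nat := @Bool.rec (fun _ => Nat) (Ptab_623) (Ptab_624) (Nat.ble 624 c)
noncomputable def Ptab_s_622_625 (c : Nat) : Nat := @Bool.rec (fun _ => Nat) (Ptab_622) (Ptab_s_623_625 c) (Nat.ble 623 c)
noncomputable def Ptab_s_625_627 (c : Nat) : Nat := @Bool.rec (fun _ => Nat) (Ptab_625) (Ptab_626) (Nat.ble 626 c)
noncomputable def Ptab_s_627_629 (c : Nat) : Nat := @Bool.rec (fun _ => Nat) (Ptab_627) (Ptab_628) (Nat.ble 628 c)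
noncomputable def Ptab_s_625_629 (c : Nat) : Nat := @Bool.rec (fun _ => Nat) (Ptab_s_625_627 c) (Ptab_s_627_629 c) (Nat.ble 627 c)
noncomputable def Ptab_s_622_629 (c : Nat) : Nat := @Bool.rec (fun _ => Nat) (Ptab_s_622_625 c) (Ptab_s_625_629 c) (Nat.ble 625 c)
noncomputable def Ptab_s_630_632 (c : Nat) : Nat := @Bool.rec (fun _ => Nat) (Ptab_630) (Ptab_631) (Nat.ble 631 c)
noncomputable def Ptab_s_629_632 (c : Nat) : Nat := @Bool.rec (fun _ => Nat) (Ptab_629) (Ptab_s_630_632 c) (Nat.ble 630 c)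
noncomputable def Ptab_s_632_634 (c : Nat) : Nat := @Bool.rec (fun _ => Nat) (Ptab_632) (Ptab_633) (Nat.ble 633 c)
noncomputable def Ptab_s_634_636 (c : Nat) : Nat := @Bool.rec (fun _ => Nat) (Ptab_634) (Ptab_635) (Nat.ble 635 c)
noncomputable def Ptab_s_632_636 (c : Nat) : Nat := @Bool.rec (fun _ => Nat) (Ptab_s_632_634 c) (Ptab_s_634_636 c) (Nat.ble 634 c)
noncomputable def Ptab_s_629_636 (c : Nat) : Nat := @Bool.rec (fun _ => Nat) (Ptab_s_629_632 c) (Ptab_s_632_636 c) (Nat.ble 632 c)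
noncomputable def Ptab_s_622_636 (c : Nat) : Nat := @Bool.rec (fun _ => Nat) (Ptab_s_622_629 c) (Ptab_s_629_636 c) (Nat.ble 629 c)
noncomputable def Ptab_s_609_636 (c : Nat) : Nat := @Bool.rec (fun _ => Nat) (Ptab_s_609_622 c) (Ptab_s_622_636 c) (Nat.ble 622 c)
noncomputable def Ptab_s_583_636 (c : Nat) : Nat := @Bool.rec (fun _ => Nat) (Ptab_s_583_609 c) (Ptab_s_609_636 c) (Nat.ble 609 c)
noncomputable def Ptab_s_530_636 (c : Nat) : Nat := @Bool.rec (fun _ => Nat) (Ptab_s_530_583 c) (Ptab_s_583_636 c) (Nat.ble 583 c)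
noncomputable def Ptab_s_424_636 (c : Nat) : Nat := @Bool.rec (fun _ => Nat) (Ptab_s_424_530 c) (Ptab_s_530_636 c) (Nat.ble 530 c)
noncomputable def Ptab_s_637_639 (c : Nat) : Nat := @Bool.rec (fun _ => Nat) (Ptab_637) (Ptab_638) (Nat.ble 638 c)
noncomputable def Ptab_s_636_639 (c : Nat) : Nat := @Bool.rec (fun _ => Nat) (Ptab_636) (Ptab_s_637_639 c) (Nat.ble 637 c)
noncomputable def Ptab_s_640_642 (c : Nat) : Nat := @Bool.rec (fun _ => Nat) (Ptab_640) (Ptab_641) (Nat.ble 641 c)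
noncomputable def Ptab_s_639_642 (c : Nat) : Nat := @Bool.rec (fun _ => Nat) (Ptab_639) (Ptab_s_640_642 c) (Nat.ble 640 c)
noncomputable def Ptab_s_636_642 (c : Nat) : Nat := @Bool.rec (fun _ => Nat) (Ptab_s_636_639 c) (Ptab_s_639_642 c) (Nat.ble 639 c)
noncomputable def Ptab_s_643_645 (c : Nat) : Nat := @Bool.rec (fun _ => Nat) (Ptab_643) (Ptab_644) (Nat.ble 644 c)
noncomputable def Ptab_s_642_645 (c : Nat) : Nat := @Bool.rec (fun _ => Nat) (Ptab_642) (Ptab_s_643_645 c) (Nat.ble 643 c)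
noncomputable def Ptab_s_645_647 (c : Nat) : Nat := @Bool.rec (fun _ => Nat) (Ptab_645) (Ptab_646) (Nat.ble 646 c)
noncomputable def Ptab_s_647_649 (c : Nat) : Nat := @Bool.rec (fun _ => Nat) (Ptab_647) (Ptab_648) (Nat.ble 648 c)
noncomputable def Ptab_s_645_649 (c : Nat) : Nat := @Bool.rec (fun _ => Nat) (Ptab_s_645_647 c) (Ptab_s_647_649 c) (Nat.ble 647 c)
noncomputable def Ptab_s_642_649 (c : Nat) : Nat := @Bool.rec (fun _ => Nat) (Ptab_s_642_645 c) (Ptab_s_645_649 c) (Nat.ble 645 c)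
noncomputable def Ptab_s_636_649 (c : Nat) : Nat := @Bool.rec (fun _ => Nat) (Ptab_s_636_642 c) (Ptab_s_642_649 c) (Nat.ble 642 c)
noncomputable def Ptab_s_650_652 (c : Nat) : Nat := @Bool.rec (fun _ => Nat) (Ptab_650) (Ptab_651) (Nat.ble 651 c)
noncomputable def Ptab_s_649_652 (c : Nat) : Nat := @Bool.rec (fun _ => Nat) (Ptab_649) (Ptab_s_650_652 c) (Nat.ble 650 c)
noncomputable def Ptab_s_653_655 (c : Nat) : Nat := @Bool.rec (fun _ => Nat) (Ptab_653) (Ptab_654) (Nat.ble 654 c)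
noncomputable def Ptab_s_652_655 (c : Nat) : Nat := @Bool.rec (fun _ => Nat) (Ptab_652) (Ptab_s_653_655 c) (Nat.ble 653 c)
noncomputable def Ptab_s_649_655 (c : Nat) : Nat := @Bool.rec (fun _ => Nat) (Ptab_s_649_652 c) (Ptab_s_652_655 c) (Nat.ble 652 c)
noncomputable def Ptab_s_656_658 (c : Nat) : Nat := @Bool.rec (fun _ => Nat) (Ptab_656) (Ptab_657) (Nat.ble 657 c)
noncomputable def Ptab_s_655_658 (c : Nat) : Nat := @Bool.rec (fun _ => Nat) (Ptab_655) (Ptab_s_656_658 c) (Nat.ble 656 c)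
noncomputable def Ptab_s_658_660 (c : Nat) : Nat := @Bool.rec (fun _ => Nat) (Ptab_658) (Ptab_659) (Nat.ble 659 c)
noncomputable def Ptab_s_660_662 (c : Nat) : Nat := @Bool.rec (fun _ => Nat) (Ptab_660) (Ptab_661) (Nat.ble 661 c)
noncomputable def Ptab_s_658_662 (c : Nat) : Nat := @Bool.rec (fun _ => Nat) (Ptab_s_658_660 c) (Ptab_s_660_662 c) (Nat.ble 660 c)
noncomputable def Ptab_s_655_662 (c : Nat) : Nat := @Bool.rec (fun _ => Nat) (Ptab_s_655_658 c) (Ptab_s_658_662 c) (Nat.ble 658 c)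
noncomputable def Ptab_s_649_662 (c : Nat) : Nat := @Bool.rec (fun _ => Nat) (Ptab_s_649_655 c) (Ptab_s_655_662 c) (Nat.ble 655 c)
noncomputable def Ptab_s_636_662 (c : Nat) : Nat := @Bool.rec (fun _ => Nat) (Ptab_s_636_649 c) (Ptab_s_649_662 c) (Nat.ble 649 c)
noncomputable def Ptab_s_663_665 (c : Nat) : Nat := @Bool.rec (fun _ => Nat) (Ptab_663) (Ptab_664) (Nat.ble 664 c)
noncomputable def Ptab_s_662_665 (c : Nat) : Nat := @Bool.rec (fun _ => Nat) (Ptab_662) (Ptab_s_663_665 c) (Nat.ble 663 c)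
noncomputable def Ptab_s_666_668 (c : Nat) : Nat := @Bool.rec (fun _ => Nat) (Ptab_666) (Ptab_667) (Nat.ble 667 c)
noncomputable def Ptab_s_665_668 (c : Nat) : Nat := @Bool.rec (fun _ => Nat) (Ptab_665) (Ptab_s_666_668 c) (Nat.ble 666 c)
noncomputable def Ptab_s_662_668 (c : Nat) : Nat := @Bool.rec (fun _ => Nat) (Ptab_s_662_665 c) (Ptab_s_665_668 c) (Nat.ble 665 c)
noncomputable def Ptab_s_669_671 (c : Nat) : Nat := @Bool.rec (fun _ => Nat) (Ptab_669) (Ptab_670) (Nat.ble 670 c)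
noncomputable def Ptab_s_668_671 (c : Nat) : Nat := @Bool.rec (fun _ => Nat) (Ptab_668) (Ptab_s_669_671 c) (Nat.ble 669 c)
noncomputable def Ptab_s_671_673 (c : Nat) : Nat := @Bool.rec (fun _ => Nat) (Ptab_671) (Ptab_672) (Nat.ble 672 c)
noncomputable def Ptab_s_673_675 (c : Nat) : Nat := @Bool.rec (fun _ => Nat) (Ptab_673) (Ptab_674) (Nat.ble 674 c)
noncomputable def Ptab_s_671_675 (c : Nat) : Nat := @Bool.rec (fun _ => Nat) (Ptab_s_671_673 c) (Ptab_s_673_675 c) (Nat.ble 673 c)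
noncomputable def Ptab_s_668_675 (c : Nat) : Nat := @Bool.rec (fun _ => Nat) (Ptab_s_668_671 c) (Ptab_s_671_675 c) (Nat.ble 671 c)
noncomputable def Ptab_s_662_675 (c : Nat) : Nat := @Bool.rec (fun _ => Nat) (Ptab_s_662_668 c) (Ptab_s_668_675 c) (Nat.ble 668 c)
noncomputable def Ptab_s_676_678 (c : Nat) : Nat := @Bool.rec (fun _ => Nat) (Ptab_676) (Ptab_677) (Nat.ble 677 c)
noncomputable def Ptab_s_675_678 (c : Nat) : Nat := @Bool.rec (fun _ => Nat) (Ptab_675) (Ptab_s_676_678 c) (Nat.ble 676 c)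
noncomputable def Ptab_s_678_680 (c : Nat) : Nat := @Bool.rec (fun _ => Nat) (Ptab_678) (Ptab_679) (Nat.ble 679 c)
noncomputable def Ptab_s_680_682 (c : Nat) : Nat := @Bool.rec (fun _ => Nat) (Ptab_680) (Ptab_681) (Nat.ble 681 c)
noncomputable def Ptab_s_678_682 (c : Nat) : Nat := @Bool.rec (fun _ => Nat) (Ptab_s_678_680 c) (Ptab_s_680_682 c) (Nat.ble 680 c)
noncomputable def Ptab_s_675_682 (c : Nat) : Nat := @Bool.rec (fun _ => Nat) (Ptab_s_675_678 c) (Ptab_s_678_682 c) (Nat.ble 678 c)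
noncomputable def Ptab_s_683_685 (c : Nat) : Nat := @Bool.rec (fun _ => Nat) (Ptab_683) (Ptab_684) (Nat.ble 684 c)
noncomputable def Ptab_s_682_685 (c : Nat) : Nat := @Bool.rec (fun _ => Nat) (Ptab_682) (Ptab_s_683_685 c) (Nat.ble 683 c)
noncomputable def Ptab_s_685_687 (c : Nat) : Nat := @Bool.rec (fun _ => Nat) (Ptab_685) (Ptab_686) (Nat.ble 686 c)
noncomputable def Ptab_s_687_689 (c : Nat) : Nat := @Bool.rec (fun _ => Nat) (Ptab_687) (Ptab_688) (Nat.ble 688 c)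
noncomputable def Ptab_s_685_689 (c : Nat) : Nat := @Bool.rec (fun _ => Nat) (Ptab_s_685_687 c) (Ptab_s_687_689 c) (Nat.ble 687 c)
noncomputable def Ptab_s_682_689 (c : Nat) : Nat := @Bool.rec (fun _ => Nat) (Ptab_s_682_685 c) (Ptab_s_685_689 c) (Nat.ble 685 c)
noncomputable def Ptab_s_675_689 (c : Nat) : Nat := @Bool.rec (fun _ => Nat) (Ptab_s_675_682 c) (Ptab_s_682_689 c) (Nat.ble 682 c)
noncomputable def Ptab_s_662_689 (c : Nat) : Nat := @Bool.rec (fun _ => Nat) (Ptab_s_662_675 c) (Ptab_s_675_689 c) (Nat.ble 675 c)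
noncomputable def Ptab_s_636_689 (c : Nat) : Nat := @Bool.rec (fun _ => Nat) (Ptab_s_636_662 c) (Ptab_s_662_689 c) (Nat.ble 662 c)
noncomputable def Ptab_s_690_692 (c : Nat) : Nat := @Bool.rec (fun _ => Nat) (Ptab_690) (Ptab_691) (Nat.ble 691 c)
noncomputable def Ptab_s_689_692 (c : Nat) : Nat := @Bool.rec (fun _ => Nat) (Ptab_689) (Ptab_s_690_692 c) (Nat.ble 690 c)
noncomputable def Ptab_s_693_695 (c : Nat) : Nat := @Bool.rec (fun _ => Nat) (Ptab_693) (Ptab_694) (Nat.ble 694 c)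
noncomputable def Ptab_s_692_695 (c : Nat) : Nat := @Bool.rec (fun _ => Nat) (Ptab_692) (Ptab_s_693_695 c) (Nat.ble 693 c)
noncomputable def Ptab_s_689_695 (c : Nat) : Nat := @Bool.rec (fun _ => Nat) (Ptab_s_689_692 c) (Ptab_s_692_695 c) (Nat.ble 692 c)
noncomputable def Ptab_s_696_698 (c : Nat) : Nat := @Bool.rec (fun _ => Nat) (Ptab_696) (Ptab_697) (Nat.ble 697 c)
noncomputable def Ptab_s_695_698 (c : Nat) : Nat := @Bool.rec (fun _ => Nat) (Ptab_695) (Ptab_s_696_698 c) (Nat.ble 696 c)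
noncomputable def Ptab_s_698_700 (c : Nat) : Nat := @Bool.rec (fun _ => Nat) (Ptab_698) (Ptab_699) (Nat.ble 699 c)
noncomputable def Ptab_s_700_702 (c : Nat) : Nat := @Bool.rec (fun _ => Nat) (Ptab_700) (Ptab_701) (Nat.ble 701 c)
noncomputable def Ptab_s_698_702 (c : Nat) : Nat := @Bool.rec (fun _ => Nat) (Ptab_s_698_700 c) (Ptab_s_700_702 c) (Nat.ble 700 c)
noncomputable def Ptab_s_695_702 (c : Nat) : Nat := @Bool.rec (fun _ => Nat) (Ptab_s_695_698 c) (Ptab_s_698_702 c) (Nat.ble 698 c)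
noncomputable def Ptab_s_689_702 (c : Nat) : Nat := @Bool.rec (fun _ => Nat) (Ptab_s_689_695 c) (Ptab_s_695_702 c) (Nat.ble 695 c)
noncomputable def Ptab_s_703_705 (c : Nat) : Nat := @Bool.rec (fun _ => Nat) (Ptab_703) (Ptab_704) (Nat.ble 704 c)
noncomputable def Ptab_s_702_705 (c : Nat) : Nat := @Bool.rec (fun _ => Nat) (Ptab_702) (Ptab_s_703_705 c) (Nat.ble 703 c)
noncomputable def Ptab_s_706_708 (c : Nat) : Nat := @Bool.rec (fun _ => Nat) (Ptab_706) (Ptab_707) (Nat.ble 707 c)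
noncomputable def Ptab_s_705_708 (c : Nat) : Nat := @Bool.rec (fun _ => Nat) (Ptab_705) (Ptab_s_706_708 c) (Nat.ble 706 c)
noncomputable def Ptab_s_702_708 (c : Nat) : Nat := @Bool.rec (fun _ => Nat) (Ptab_s_702_705 c) (Ptab_s_705_708 c) (Nat.ble 705 c)
noncomputable def Ptab_s_709_711 (c : Nat) : Nat := @Bool.rec (fun _ => Nat) (Ptab_709) (Ptab_710) (Nat.ble 710 c)
noncomputable def Ptab_s_708_711 (c : Nat) : Nat := @Bool.rec (fun _ => Nat) (Ptab_708) (Ptab_s_709_711 c) (Nat.ble 709 c)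
noncomputable def Ptab_s_711_713 (c : Nat) : Nat := @Bool.rec (fun _ => Nat) (Ptab_711) (Ptab_712) (Nat.ble 712 c)
noncomputable def Ptab_s_713_715 (c : Nat) : Nat := @Bool.rec (fun _ => Nat) (Ptab_713) (Ptab_714) (Nat.ble 714 c)
noncomputable def Ptab_s_711_715 (c : Nat) : Nat := @Bool.rec (fun _ => Nat) (Ptab_s_711_713 c) (Ptab_s_713_715 c) (Nat.ble 713 c)
noncomputable def Ptab_s_708_715 (c : Nat) : Nat := @Bool.rec (fun _ => Nat) (Ptab_s_708_711 c) (Ptab_s_711_715 c) (Nat.ble 711 c)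
noncomputable def Ptab_s_702_715 (c : Nat) : Nat := @Bool.rec (fun _ => Nat) (Ptab_s_702_708 c) (Ptab_s_708_715 c) (Nat.ble 708 c)
noncomputable def Ptab_s_689_715 (c : Nat) : Nat := @Bool.rec (fun _ => Nat) (Ptab_s_689_702 c) (Ptab_s_702_715 c) (Nat.ble 702 c)
noncomputable def Ptab_s_716_718 (c : Nat) : Nat := @Bool.rec (fun _ => Nat) (Ptab_716) (Ptab_717) (Nat.ble 717 c)
noncomputable def Ptab_s_715_718 (c : Nat) : Nat := @Bool.rec (fun _ => Nat) (Ptab_715) (Ptab_s_716_718 c) (Nat.ble 716 c)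
noncomputable def Ptab_s_719_721 (c : Nat) : Nat := @Bool.rec (fun _ => Nat) (Ptab_719) (Ptab_720) (Nat.ble 720 c)
noncomputable def Ptab_s_718_721 (c : Nat) : Nat := @Bool.rec (fun _ => Nat) (Ptab_718) (Ptab_s_719_721 c) (Nat.ble 719 c)
noncomputable def Ptab_s_715_721 (c : Nat) : Nat := @Bool.rec (fun _ => Nat) (Ptab_s_715_718 c) (Ptab_s_718_721 c) (Nat.ble 718 c)
noncomputable def Ptab_s_722_724 (c : Nat) : Nat := @Bool.rec (fun _ => Nat) (Ptab_722) (Ptab_723) (Nat.ble 723 c)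
noncomputable def Ptab_s_721_724 (c : Nat) : Nat := @Bool.rec (fun _ => Nat) (Ptab_721) (Ptab_s_722_724 c) (Nat.ble 722 c)
noncomputable def Ptab_s_724_726 (c : Nat) : Nat := @Bool.rec (fun _ => Nat) (Ptab_724) (Ptab_725) (Nat.ble 725 c)
noncomputable def Ptab_s_726_728 (c : Nat) : Nat := @Bool.rec (fun _ => Nat) (Ptab_726) (Ptab_727) (Nat.ble 727 c)
noncomputable def Ptab_s_724_728 (c : Nat) : Nat := @Bool.rec (fun _ => Nat) (Ptab_s_724_726 c) (Ptab_s_726_728 c) (Nat.ble 726 c)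
noncomputable def Ptab_s_721_728 (c : Nat) : Nat := @Bool.rec (fun _ => Nat) (Ptab_s_721_724 c) (Ptab_s_724_728 c) (Nat.ble 724 c)
noncomputable def Ptab_s_715_728 (c : Nat) : Nat := @Bool.rec (fun _ => Nat) (Ptab_s_715_721 c) (Ptab_s_721_728 c) (Nat.ble 721 c)
noncomputable def Ptab_s_729_731 (c : Nat) : Nat := @Bool.rec (fun _ => Nat) (Ptab_729) (Ptab_730) (Nat.ble 730 c)
noncomputable def Ptab_s_728_731 (c : Nat) : Nat := @Bool.rec (fun _ => Nat) (Ptab_728) (Ptab_s_729_731 c) (Nat.ble 729 c)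
noncomputable def Ptab_s_731_733 (c : Nat) : Nat := @Bool.rec (fun _ => Nat) (Ptab_731) (Ptab_732) (Nat.ble 732 c)
noncomputable def Ptab_s_733_735 (c : Nat) : Nat := @Bool.rec (fun _ => Nat) (Ptab_733) (Ptab_734) (Nat.ble 734 c)
noncomputable def Ptab_s_731_735 (c : Nat) : Nat := @Bool.rec (fun _ => Nat) (Ptab_s_731_733 c) (Ptab_s_733_735 c) (Nat.ble 733 c)
noncomputable def Ptab_s_728_735 (c : Nat) : Nat := @Bool.rec (fun _ => Nat) (Ptab_s_728_731 c) (Ptab_s_731_735 c) (Nat.ble 731 c)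
noncomputable def Ptab_s_736_738 (c : Nat) : Nat := @Bool.rec (fun _ => Nat) (Ptab_736) (Ptab_737) (Nat.ble 737 c)
noncomputable def Ptab_s_735_738 (c : Nat) : Nat := @Bool.rec (fun _ => Nat) (Ptab_735) (Ptab_s_736_738 c) (Nat.ble 736 c)
noncomputable def Ptab_s_738_740 (c : Nat) : Nat := @Bool.rec (fun _ => Nat) (Ptab_738) (Ptab_739) (Nat.ble 739 c)
noncomputable def Ptab_s_740_742 (c : Nat) : Nat := @Bool.rec (fun _ => Nat) (Ptab_740) (Ptab_741) (Nat.ble 741 c)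
noncomputable def Ptab_s_738_742 (c : Nat) : Nat := @Bool.rec (fun _ => Nat) (Ptab_s_738_740 c) (Ptab_s_740_742 c) (Nat.ble 740 c)
noncomputable def Ptab_s_735_742 (c : Nat) : Nat := @Bool.rec (fun _ => Nat) (Ptab_s_735_738 c) (Ptab_s_738_742 c) (Nat.ble 738 c)
noncomputable def Ptab_s_728_742 (c : Nat) : Nat := @Bool.rec (fun _ => Nat) (Ptab_s_728_735 c) (Ptab_s_735_742 c) (Nat.ble 735 c)
noncomputable def Ptab_s_715_742 (c : Nat) : Nat := @Bool.rec (fun _ => Nat) (Ptab_s_715_728 c) (Ptab_s_728_742 c) (Nat.ble 728 c)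
noncomputable def Ptab_s_689_742 (c : Nat) : Nat := @Bool.rec (fun _ => Nat) (Ptab_s_689_715 c) (Ptab_s_715_742 c) (Nat.ble 715 c)
noncomputable def Ptab_s_636_742 (c : Nat) : Nat := @Bool.rec (fun _ => Nat) (Ptab_s_636_689 c) (Ptab_s_689_742 c) (Nat.ble 689 c)
noncomputable def Ptab_s_743_745 (c : Nat) : Nat := @Bool.rec (fun _ => Nat) (Ptab_743) (Ptab_744) (Nat.ble 744 c)
noncomputable def Ptab_s_742_745 (c : Nat) : Nat := @Bool.rec (fun _ => Nat) (Ptab_742) (Ptab_s_743_745 c) (Nat.ble 743 c)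
noncomputable def Ptab_s_746_748 (c : Nat) : Nat := @Bool.rec (fun _ => Nat) (Ptab_746) (Ptab_747) (Nat.ble 747 c)
noncomputable def Ptab_s_745_748 (c : Nat) : Nat := @Bool.rec (fun _ => Nat) (Ptab_745) (Ptab_s_746_748 c) (Nat.ble 746 c)
noncomputable def Ptab_s_742_748 (c : Nat) : Nat := @Bool.rec (fun _ => Nat) (Ptab_s_742_745 c) (Ptab_s_745_748 c) (Nat.ble 745 c)
noncomputable def Ptab_s_749_751 (c : Nat) : Nat := @Bool.rec (fun _ => Nat) (Ptab_749) (Ptab_750) (Nat.ble 750 c)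
noncomputable def Ptab_s_748_751 (c : Nat) : Nat := @Bool.rec (fun _ => Nat) (Ptab_748) (Ptab_s_749_751 c) (Nat.ble 749 c)
noncomputable def Ptab_s_751_753 (c : Nat) : Nat := @Bool.rec (fun _ => Nat) (Ptab_751) (Ptab_752) (Nat.ble 752 c)
noncomputable def Ptab_s_753_755 (c : Nat) : Nat := @Bool.rec (fun _ => Nat) (Ptab_753) (Ptab_754) (Nat.ble 754 c)
noncomputable def Ptab_s_751_755 (c : Nat) : Nat := @Bool.rec (fun _ => Nat) (Ptab_s_751_753 c) (Ptab_s_753_755 c) (Nat.ble 753 c)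
noncomputable def Ptab_s_748_755 (c : Nat) : Nat := @Bool.rec (fun _ => Nat) (Ptab_s_748_751 c) (Ptab_s_751_755 c) (Nat.ble 751 c)
noncomputable def Ptab_s_742_755 (c : Nat) : Nat := @Bool.rec (fun _ => Nat) (Ptab_s_742_748 c) (Ptab_s_748_755 c) (Nat.ble 748 c)
noncomputable def Ptab_s_756_758 (c : Nat) : Nat := @Bool.rec (fun _ => Nat) (Ptab_756) (Ptab_757) (Nat.ble 757 c)
noncomputable def Ptab_s_755_758 (c : Nat) : Nat := @Bool.rec (fun _ => Nat) (Ptab_755) (Ptab_s_756_758 c) (Nat.ble 756 c)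
noncomputable def Ptab_s_759_761 (c : Nat) : Nat := @Bool.rec (fun _ => Nat) (Ptab_759) (Ptab_760) (Nat.ble 760 c)
noncomputable def Ptab_s_758_761 (c : Nat) : Nat := @Bool.rec (fun _ => Nat) (Ptab_758) (Ptab_s_759_761 c) (Nat.ble 759 c)
noncomputable def Ptab_s_755_761 (c : Nat) : Nat := @Bool.rec (fun _ => Nat) (Ptab_s_755_758 c) (Ptab_s_758_761 c) (Nat.ble 758 c)
noncomputable def Ptab_s_762_764 (c : Nat) : Nat := @Bool.rec (fun _ => Nat) (Ptab_762) (Ptab_763) (Nat.ble 763 c)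
noncomputable def Ptab_s_761_764 (c : Nat) : Nat := @Bool.rec (fun _ => Nat) (Ptab_761) (Ptab_s_762_764 c) (Nat.ble 762 c)
noncomputable def Ptab_s_764_766 (c : Nat) : Nat := @Bool.rec (fun _ => Nat) (Ptab_764) (Ptab_765) (Nat.ble 765 c)
noncomputable def Ptab_s_766_768 (c : Nat) : Nat := @Bool.rec (fun _ => Nat) (Ptab_766) (Ptab_767) (Nat.ble 767 c)
noncomputable def Ptab_s_764_768 (c : Nat) : Nat := @Bool.rec (fun _ => Nat) (Ptab_s_764_766 c) (Ptab_s_766_768 c) (Nat.ble 766 c)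
noncomputable def Ptab_s_761_768 (c : Nat) : Nat := @Bool.rec (fun _ => Nat) (Ptab_s_761_764 c) (Ptab_s_764_768 c) (Nat.ble 764 c)
noncomputable def Ptab_s_755_768 (c : Nat) : Nat := @Bool.rec (fun _ => Nat) (Ptab_s_755_761 c) (Ptab_s_761_768 c) (Nat.ble 761 c)
noncomputable def Ptab_s_742_768 (c : Nat) : Nat := @Bool.rec (fun _ => Nat) (Ptab_s_742_755 c) (Ptab_s_755_768 c) (Nat.ble 755 c)
noncomputable def Ptab_s_769_771 (c : Nat) : Nat := @Bool.rec (fun _ => Nat) (Ptab_769) (Ptab_770) (Nat.ble 770 c)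
noncomputable def Ptab_s_768_771 (c : Nat) : Nat := @Bool.rec (fun _ => Nat) (Ptab_768) (Ptab_s_769_771 c) (Nat.ble 769 c)
noncomputable def Ptab_s_772_774 (c : Nat) : Nat := @Bool.rec (fun _ => Nat) (Ptab_772) (Ptab_773) (Nat.ble 773 c)
noncomputable def Ptab_s_771_774 (c : Nat) : Nat := @Bool.rec (fun _ => Nat) (Ptab_771) (Ptab_s_772_774 c) (Nat.ble 772 c)
noncomputable def Ptab_s_768_774 (c : Nat) : Nat := @Bool.rec (fun _ => Nat) (Ptab_s_768_771 c) (Ptab_s_771_774 c) (Nat.ble 771 c)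
noncomputable def Ptab_s_775_777 (c : Nat) : Nat := @Bool.rec (fun _ => Nat) (Ptab_775) (Ptab_776) (Nat.ble 776 c)
noncomputable def Ptab_s_774_777 (c : Nat) : Nat := @Bool.rec (fun _ => Nat) (Ptab_774) (Ptab_s_775_777 c) (Nat.ble 775 c)
noncomputable def Ptab_s_777_779 (c : Nat) : Nat := @Bool.rec (fun _ => Nat) (Ptab_777) (Ptab_778) (Nat.ble 778 c)
noncomputable def Ptab_s_779_781 (c : Nat) : Nat := @Bool.rec (fun _ => Nat) (Ptab_779) (Ptab_780) (Nat.ble 780 c)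
noncomputable def Ptab_s_777_781 (c : Nat) : Nat := @Bool.rec (fun _ => Nat) (Ptab_s_777_779 c) (Ptab_s_779_781 c) (Nat.ble 779 c)
noncomputable def Ptab_s_774_781 (c : Nat) : Nat := @Bool.rec (fun _ => Nat) (Ptab_s_774_777 c) (Ptab_s_777_781 c) (Nat.ble 777 c)
noncomputable def Ptab_s_768_781 (c : Nat) : Nat := @Bool.rec (fun _ => Nat) (Ptab_s_768_774 c) (Ptab_s_774_781 c) (Nat.ble 774 c)
noncomputable def Ptab_s_782_784 (c : Nat) : Nat := @Bool.rec (fun _ => Nat) (Ptab_782) (Ptab_783) (Nat.ble 783 c)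
noncomputable def Ptab_s_781_784 (c : Nat) : Nat := @Bool.rec (fun _ => Nat) (Ptab_781) (Ptab_s_782_784 c) (Nat.ble 782 c)
noncomputable def Ptab_s_784_786 (c : Nat) : Nat := @Bool.rec (fun _ => Nat) (Ptab_784) (Ptab_785) (Nat.ble 785 c)
noncomputable def Ptab_s_786_788 (c : Nat) : Nat := @Bool.rec (fun _ => Nat) (Ptab_786) (Ptab_787) (Nat.ble 787 c)
noncomputable def Ptab_s_784_788 (c : Nat) : Nat := @Bool.rec (fun _ => Nat) (Ptab_s_784_786 c) (Ptab_s_786_788 c) (Nat.ble 786 c)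
noncomputable def Ptab_s_781_788 (c : Nat) : Nat := @Bool.rec (fun _ => Nat) (Ptab_s_781_784 c) (Ptab_s_784_788 c) (Nat.ble 784 c)
noncomputable def Ptab_s_789_791 (c : Nat) : Nat := @Bool.rec (fun _ => Nat) (Ptab_789) (Ptab_790) (Nat.ble 790 c)
noncomputable def Ptab_s_788_791 (c : Nat) : Nat := @Bool.rec (fun _ => Nat) (Ptab_788) (Ptab_s_789_791 c) (Nat.ble 789 c)
noncomputable def Ptab_s_791_793 (c : Nat) : Nat := @Bool.rec (fun _ => Nat) (Ptab_791) (Ptab_792) (Nat.ble 792 c)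
noncomputable def Ptab_s_793_795 (c : Nat) : Nat := @Bool.rec (fun _ => Nat) (Ptab_793) (Ptab_794) (Nat.ble 794 c)
noncomputable def Ptab_s_791_795 (c : Nat) : Nat := @Bool.rec (fun _ => Nat) (Ptab_s_791_793 c) (Ptab_s_793_795 c) (Nat.ble 793 c)
noncomputable def Ptab_s_788_795 (c : Nat) : Nat := @Bool.rec (fun _ => Nat) (Ptab_s_788_791 c) (Ptab_s_791_795 c) (Nat.ble 791 c)
noncomputable def Ptab_s_781_795 (c : Nat) : Nat := @Bool.rec (fun _ => Nat) (Ptab_s_781_788 c) (Ptab_s_788_795 c) (Nat.ble 788 c)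
noncomputable def Ptab_s_768_795 (c : Nat) : Nat := @Bool.rec (fun _ => Nat) (Ptab_s_768_781 c) (Ptab_s_781_795 c) (Nat.ble 781 c)
noncomputable def Ptab_s_742_795 (c : Nat) : Nat := @Bool.rec (fun _ => Nat) (Ptab_s_742_768 c) (Ptab_s_768_795 c) (Nat.ble 768 c)
noncomputable def Ptab_s_796_798 (c : Nat) : Nat := @Bool.rec (fun _ => Nat) (Ptab_796) (Ptab_797) (Nat.ble 797 c)
noncomputable def Ptab_s_795_798 (c : Nat) : Nat := @Bool.rec (fun _ => Nat) (Ptab_795) (Ptab_s_796_798 c) (Nat.ble 796 c)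
noncomputable def Ptab_s_799_801 (c : Nat) : Nat := @Bool.rec (fun _ => Nat) (Ptab_799) (Ptab_800) (Nat.ble 800 c)
noncomputable def Ptab_s_798_801 (c : Nat) : Nat := @Bool.rec (fun _ => Nat) (Ptab_798) (Ptab_s_799_801 c) (Nat.ble 799 c)
noncomputable def Ptab_s_795_801 (c : Nat) : Nat := @Bool.rec (fun _ => Nat) (Ptab_s_795_798 c) (Ptab_s_798_801 c) (Nat.ble 798 c)
noncomputable def Ptab_s_802_804 (c : Nat) : Nat := @Bool.rec (fun _ => Nat) (Ptab_802) (Ptab_803) (Nat.ble 803 c)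
noncomputable def Ptab_s_801_804 (c : Nat) : Nat := @Bool.rec (fun _ => Nat) (Ptab_801) (Ptab_s_802_804 c) (Nat.ble 802 c)
noncomputable def Ptab_s_804_806 (c : Nat) : Nat := @Bool.rec (fun _ => Nat) (Ptab_804) (Ptab_805) (Nat.ble 805 c)
noncomputable def Ptab_s_806_808 (c : Nat) : Nat := @Bool.rec (fun _ => Nat) (Ptab_806) (Ptab_807) (Nat.ble 807 c)
noncomputable def Ptab_s_804_808 (c : Nat) : Nat := @Bool.rec (fun _ => Nat) (Ptab_s_804_806 c) (Ptab_s_806_808 c) (Nat.ble 806 c)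
noncomputable def Ptab_s_801_808 (c : Nat) : Nat := @Bool.rec (fun _ => Nat) (Ptab_s_801_804 c) (Ptab_s_804_808 c) (Nat.ble 804 c)
noncomputable def Ptab_s_795_808 (c : Nat) : Nat := @Bool.rec (fun _ => Nat) (Ptab_s_795_801 c) (Ptab_s_801_808 c) (Nat.ble 801 c)
noncomputable def Ptab_s_809_811 (c : Nat) : Nat := @Bool.rec (fun _ => Nat) (Ptab_809) (Ptab_810) (Nat.ble 810 c)
noncomputable def Ptab_s_808_811 (c : Nat) : Nat := @Bool.rec (fun _ => Nat) (Ptab_808) (Ptab_s_809_811 c) (Nat.ble 809 c)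
noncomputable def Ptab_s_812_814 (c : Nat) : Nat := @Bool.rec (fun _ => Nat) (Ptab_812) (Ptab_813) (Nat.ble 813 c)
noncomputable def Ptab_s_811_814 (c : Nat) : Nat := @Bool.rec (fun _ => Nat) (Ptab_811) (Ptab_s_812_814 c) (Nat.ble 812 c)
noncomputable def Ptab_s_808_814 (c : Nat) : Nat := @Bool.rec (fun _ => Nat) (Ptab_s_808_811 c) (Ptab_s_811_814 c) (Nat.ble 811 c)
noncomputable def Ptab_s_815_817 (c : Nat) : Nat := @Bool.rec (fun _ => Nat) (Ptab_815) (Ptab_816) (Nat.ble 816 c)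
noncomputable def Ptab_s_814_817 (c : Nat) : Nat := @Bool.rec (fun _ => Nat) (Ptab_814) (Ptab_s_815_817 c) (Nat.ble 815 c)
noncomputable def Ptab_s_817_819 (c : Nat) : Nat := @Bool.rec (fun _ => Nat) (Ptab_817) (Ptab_818) (Nat.ble 818 c)
noncomputable def Ptab_s_819_821 (c : Nat) : Nat := @Bool.rec (fun _ => Nat) (Ptab_819) (Ptab_820) (Nat.ble 820 c)
noncomputable def Ptab_s_817_821 (c : Nat) : Nat := @Bool.rec (fun _ => Nat) (Ptab_s_817_819 c) (Ptab_s_819_821 c) (Nat.ble 819 c)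
noncomputable def Ptab_s_814_821 (c : Nat) : Nat := @Bool.rec (fun _ => Nat) (Ptab_s_814_817 c) (Ptab_s_817_821 c) (Nat.ble 817 c)
noncomputable def Ptab_s_808_821 (c : Nat) : Nat := @Bool.rec (fun _ => Nat) (Ptab_s_808_814 c) (Ptab_s_814_821 c) (Nat.ble 814 c)
noncomputable def Ptab_s_795_821 (c : Nat) : Nat := @Bool.rec (fun _ => Nat) (Ptab_s_795_808 c) (Ptab_s_808_821 c) (Nat.ble 808 c)
noncomputable def Ptab_s_822_824 (c : Nat) : Nat := @Bool.rec (fun _ => Nat) (Ptab_822) (Ptab_823) (Nat.ble 823 c)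
noncomputable def Ptab_s_821_824 (c : Nat) : Nat := @Bool.rec (fun _ => Nat) (Ptab_821) (Ptab_s_822_824 c) (Nat.ble 822 c)
noncomputable def Ptab_s_825_827 (c : Nat) : Nat := @Bool.rec (fun _ => Nat) (Ptab_825) (Ptab_826) (Nat.ble 826 c)
noncomputable def Ptab_s_824_827 (c : Nat) : Nat := @Bool.rec (fun _ => Nat) (Ptab_824) (Ptab_s_825_827 c) (Nat.ble 825 c)
noncomputable def Ptab_s_821_827 (c : Nat) : Nat := @Bool.rec (fun _ => Nat) (Ptab_s_821_824 c) (Ptab_s_824_827 c) (Nat.ble 824 c)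
noncomputable def Ptab_s_828_830 (c : Nat) : Nat := @Bool.rec (fun _ => Nat) (Ptab_828) (Ptab_829) (Nat.ble 829 c)
noncomputable def Ptab_s_827_830 (c : Nat) : Nat := @Bool.rec (fun _ => Nat) (Ptab_827) (Ptab_s_828_830 c) (Nat.ble 828 c)
noncomputable def Ptab_s_830_832 (c : Nat) : Nat := @Bool.rec (fun _ => Nat) (Ptab_830) (Ptab_831) (Nat.ble 831 c)
noncomputable def Ptab_s_832_834 (c : Nat) : Nat := @Bool.rec (fun _ => Nat) (Ptab_832) (Ptab_833) (Nat.ble 833 c)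
noncomputable def Ptab_s_830_834 (c : Nat) : Nat := @Bool.rec (fun _ => Nat) (Ptab_s_830_832 c) (Ptab_s_832_834 c) (Nat.ble 832 c)
noncomputable def Ptab_s_827_834 (c : Nat) : Nat := @Bool.rec (fun _ => Nat) (Ptab_s_827_830 c) (Ptab_s_830_834 c) (Nat.ble 830 c)
noncomputable def Ptab_s_821_834 (c : Nat) : Nat := @Bool.rec (fun _ => Nat) (Ptab_s_821_827 c) (Ptab_s_827_834 c) (Nat.ble 827 c)
noncomputable def Ptab_s_835_837 (c : Nat) : Nat := @Bool.rec (fun _ => Nat) (Ptab_835) (Ptab_836) (Nat.ble 836 c)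
noncomputable def Ptab_s_834_837 (c : Nat) : Nat := @Bool.rec (fun _ => Nat) (Ptab_834) (Ptab_s_835_837 c) (Nat.ble 835 c)
noncomputable def Ptab_s_837_839 (c : Nat) : Nat := @Bool.rec (fun _ => Nat) (Ptab_837) (Ptab_838) (Nat.ble 838 c)
noncomputable def Ptab_s_839_841 (c : Nat) : Nat := @Bool.rec (fun _ => Nat) (Ptab_839) (Ptab_840) (Nat.ble 840 c)
noncomputable def Ptab_s_837_841 (c : Nat) : Nat := @Bool.rec (fun _ => Nat) (Ptab_s_837_839 c) (Ptab_s_839_841 c) (Nat.ble 839 c)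
noncomputable def Ptab_s_834_841 (c : Nat) : Nat := @Bool.rec (fun _ => Nat) (Ptab_s_834_837 c) (Ptab_s_837_841 c) (Nat.ble 837 c)
noncomputable def Ptab_s_842_844 (c : Nat) : Nat := @Bool.rec (fun _ => Nat) (Ptab_842) (Ptab_843) (Nat.ble 843 c)
noncomputable def Ptab_s_841_844 (c : Nat) : Nat := @Bool.rec (fun _ => Nat) (Ptab_841) (Ptab_s_842_844 c) (Nat.ble 842 c)
noncomputable def Ptab_s_844_846 (c : Nat) : Nat := @Bool.rec (fun _ => Nat) (Ptab_844) (Ptab_845) (Nat.ble 845 c)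
noncomputable def Ptab_s_846_848 (c : Nat) : Nat := @Bool.rec (fun _ => Nat) (Ptab_846) (Ptab_847) (Nat.ble 847 c)
noncomputable def Ptab_s_844_848 (c : Nat) : Nat := @Bool.rec (fun _ => Nat) (Ptab_s_844_846 c) (Ptab_s_846_848 c) (Nat.ble 846 c)
noncomputable def Ptab_s_841_848 (c : Nat) : Nat := @Bool.rec (fun _ => Nat) (Ptab_s_841_844 c) (Ptab_s_844_848 c) (Nat.ble 844 c)
noncomputable def Ptab_s_834_848 (c : Nat) : Nat := @Bool.rec (fun _ => Nat) (Ptab_s_834_841 c) (Ptab_s_841_848 c) (Nat.ble 841 c)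
noncomputable def Ptab_s_821_848 (c : Nat) : Nat := @Bool.rec (fun _ => Nat) (Ptab_s_821_834 c) (Ptab_s_834_848 c) (Nat.ble 834 c)
noncomputable def Ptab_s_795_848 (c : Nat) : Nat := @Bool.rec (fun _ => Nat) (Ptab_s_795_821 c) (Ptab_s_821_848 c) (Nat.ble 821 c)
noncomputable def Ptab_s_742_848 (c : Nat) : Nat := @Bool.rec (fun _ => Nat) (Ptab_s_742_795 c) (Ptab_s_795_848 c) (Nat.ble 795 c)
noncomputable def Ptab_s_636_848 (c : Nat) : Nat := @Bool.rec (fun _ => Nat) (Ptab_s_636_742 c) (Ptab_s_742_848 c) (Nat.ble 742 c)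
noncomputable def Ptab_s_424_848 (c : Nat) : Nat := @Bool.rec (fun _ => Nat) (Ptab_s_424_636 c) (Ptab_s_636_848 c) (Nat.ble 636 c)
noncomputable def Ptab_s_0_848 (c : Nat) : Nat := @Bool.rec (fun _ => Nat) (Ptab_s_0_424 c) (Ptab_s_424_848 c) (Nat.ble 424 c)
noncomputable def Ptab (i : Nat) : Nat := rdw 21 2097151 (Ptab_s_0_848 (Nat.shiftRight i 12)) (Nat.land i 4095)
noncomputable def RRtab (i : Nat) : Nat := rdw 5 31 RRtab_0 i
noncomputable def rBtab (i : Nat) : Nat := rdw 12 4095 rBtab_0 i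
noncomputable def rLtab (i : Nat) : Nat := rdw 5 31 rLtab_0 i
noncomputable def nameTab_s_1_3 (c : Nat) : Nat := @Bool.rec (fun _ => Nat) (nameTab_1) (nameTab_2) (Nat.ble 2 c)
noncomputable def nameTab_s_0_3 (c : Nat) : Nat := @Bool.rec (fun _ => Nat) (nameTab_0) (nameTab_s_1_3 c) (Nat.ble 1 c)
noncomputable def nameTab_s_4_6 (c : Nat) : Nat := @Bool.rec (fun _ => Nat) (nameTab_4) (nameTab_5) (Nat.ble 5 c)
noncomputable def nameTab_s_3_6 (c : Nat) : Nat := @Bool.rec (fun _ => Nat) (nameTab_3) (nameTab_s_4_6 c) (Nat.ble 4 c)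
noncomputable def nameTab_s_0_6 (c : Nat) : Nat := @Bool.rec (fun _ => Nat) (nameTab_s_0_3 c) (nameTab_s_3_6 c) (Nat.ble 3 c)
noncomputable def nameTab_s_7_9 (c : Nat) : Nat := @Bool.rec (fun _ => Nat) (nameTab_7) (nameTab_8) (Nat.ble 8 c)
noncomputable def nameTab_s_6_9 (c : Nat) : Nat := @Bool.rec (fun _ => Nat) (nameTab_6) (nameTab_s_7_9 c) (Nat.ble 7 c)
noncomputable def nameTab_s_10_12 (c : Nat) : Nat := @Bool.rec (fun _ => Nat) (nameTab_10) (nameTab_11) (Nat.ble 11 c)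
noncomputable def nameTab_s_9_12 (c : Nat) : Nat := @Bool.rec (fun _ => Nat) (nameTab_9) (nameTab_s_10_12 c) (Nat.ble 10 c)
noncomputable def nameTab_s_6_12 (c : Nat) : Nat := @Bool.rec (fun _ => Nat) (nameTab_s_6_9 c) (nameTab_s_9_12 c) (Nat.ble 9 c)
noncomputable def nameTab_s_0_12 (c : Nat) : Nat := @Bool.rec (fun _ => Nat) (nameTab_s_0_6 c) (nameTab_s_6_12 c) (Nat.ble 6 c)
noncomputable def nameTab (i : Nat) : Nat := rdw 17 131071 (nameTab_s_0_12 (Nat.shiftRight i 12)) (Nat.land i 4095)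
noncomputable def col0_s_1_3 (c : Nat) : Nat := @Bool.rec (fun _ => Nat) (col0_1) (col0_2) (Nat.ble 2 c)
noncomputable def col0_s_0_3 (c : Nat) : Nat := @Bool.rec (fun _ => Nat) (col0_0) (col0_s_1_3 c) (Nat.ble 1 c)
noncomputable def col0_s_4_6 (c : Nat) : Nat := @Bool.rec (fun _ => Nat) (col0_4) (col0_5) (Nat.ble 5 c)
noncomputable def col0_s_3_6 (c : Nat) : Nat := @Bool.rec (fun _ => Nat) (col0_3) (col0_s_4_6 c) (Nat.ble 4 c)
noncomputable def col0_s_0_6 (c : Nat) : Nat := @Bool.rec (fun _ => Nat) (col0_s_0_3 c) (col0_s_3_6 c) (Nat.ble 3 c)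
noncomputable def col0_s_7_9 (c : Nat) : Nat := @Bool.rec (fun _ => Nat) (col0_7) (col0_8) (Nat.ble 8 c)
noncomputable def col0_s_6_9 (c : Nat) : Nat := @Bool.rec (fun _ => Nat) (col0_6) (col0_s_7_9 c) (Nat.ble 7 c)
noncomputable def col0_s_10_12 (c : Nat) : Nat := @Bool.rec (fun _ => Nat) (col0_10) (col0_11) (Nat.ble 11 c)
noncomputable def col0_s_9_12 (c : Nat) : Nat := @Bool.rec (fun _ => Nat) (col0_9) (col0_s_10_12 c) (Nat.ble 10 c)
noncomputable def col0_s_6_12 (c : Nat) : Nat := @Bool.rec (fun _ => Nat) (col0_s_6_9 c) (col0_s_9_12 c) (Nat.ble 9 c)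
noncomputable def col0_s_0_12 (c : Nat) : Nat := @Bool.rec (fun _ => Nat) (col0_s_0_6 c) (col0_s_6_12 c) (Nat.ble 6 c)
noncomputable def col0 (i : Nat) : Nat := rdw 16 65535 (col0_s_0_12 (Nat.shiftRight i 12)) (Nat.land i 4095)
noncomputable def col1_s_1_3 (c : Nat) : Nat := @Bool.rec (fun _ => Nat) (col1_1) (col1_2) (Nat.ble 2 c)
noncomputable def col1_s_0_3 (c : Nat) : Nat := @Bool.rec (fun _ => Nat) (col1_0) (col1_s_1_3 c) (Nat.ble 1 c)
noncomputable def col1_s_4_6 (c : Nat) : Nat := @Bool.rec (fun _ => Nat) (col1_4) (col1_5) (Nat.ble 5 c)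
noncomputable def col1_s_3_6 (c : Nat) : Nat := @Bool.rec (fun _ => Nat) (col1_3) (col1_s_4_6 c) (Nat.ble 4 c)
noncomputable def col1_s_0_6 (c : Nat) : Nat := @Bool.rec (fun _ => Nat) (col1_s_0_3 c) (col1_s_3_6 c) (Nat.ble 3 c)
noncomputable def col1_s_7_9 (c : Nat) : Nat := @Bool.rec (fun _ => Nat) (col1_7) (col1_8) (Nat.ble 8 c)
noncomputable def col1_s_6_9 (c : Nat) : Nat := @Bool.rec (fun _ => Nat) (col1_6) (col1_s_7_9 c) (Nat.ble 7 c)
noncomputable def col1_s_10_12 (c : Nat) : Nat := @Bool.rec (fun _ => Nat) (col1_10) (col1_11) (Nat.ble 11 c)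
noncomputable def col1_s_9_12 (c : Nat) : Nat := @Bool.rec (fun _ => Nat) (col1_9) (col1_s_10_12 c) (Nat.ble 10 c)
noncomputable def col1_s_6_12 (c : Nat) : Nat := @Bool.rec (fun _ => Nat) (col1_s_6_9 c) (col1_s_9_12 c) (Nat.ble 9 c)
noncomputable def col1_s_0_12 (c : Nat) : Nat := @Bool.rec (fun _ => Nat) (col1_s_0_6 c) (col1_s_6_12 c) (Nat.ble 6 c)
noncomputable def col1 (i : Nat) : Nat := rdw 16 65535 (col1_s_0_12 (Nat.shiftRight i 12)) (Nat.land i 4095)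
noncomputable def col2_s_1_3 (c : Nat) : Nat := @Bool.rec (fun _ => Nat) (col2_1) (col2_2) (Nat.ble 2 c)
noncomputable def col2_s_0_3 (c : Nat) : Nat := @Bool.rec (fun _ => Nat) (col2_0) (col2_s_1_3 c) (Nat.ble 1 c)
noncomputable def col2_s_4_6 (c : Nat) : Nat := @Bool.rec (fun _ => Nat) (col2_4) (col2_5) (Nat.ble 5 c)
noncomputable def col2_s_3_6 (c : Nat) : Nat := @Bool.rec (fun _ => Nat) (col2_3) (col2_s_4_6 c) (Nat.ble 4 c)
noncomputable def col2_s_0_6 (c : Nat) : Nat := @Bool.rec (fun _ => Nat) (col2_s_0_3 c) (col2_s_3_6 c) (Nat.ble 3 c)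
noncomputable def col2_s_7_9 (c : Nat) : Nat := @Bool.rec (fun _ => Nat) (col2_7) (col2_8) (Nat.ble 8 c)
noncomputable def col2_s_6_9 (c : Nat) : Nat := @Bool.rec (fun _ => Nat) (col2_6) (col2_s_7_9 c) (Nat.ble 7 c)
noncomputable def col2_s_10_12 (c : Nat) : Nat := @Bool.rec (fun _ => Nat) (col2_10) (col2_11) (Nat.ble 11 c)
noncomputable def col2_s_9_12 (c : Nat) : Nat := @Bool.rec (fun _ => Nat) (col2_9) (col2_s_10_12 c) (Nat.ble 10 c)
noncomputable def col2_s_6_12 (c : Nat) : Nat := @Bool.rec (fun _ => Nat) (col2_s_6_9 c) (col2_s_9_12 c) (Nat.ble 9 c)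
noncomputable def col2_s_0_12 (c : Nat) : Nat := @Bool.rec (fun _ => Nat) (col2_s_0_6 c) (col2_s_6_12 c) (Nat.ble 6 c)
noncomputable def col2 (i : Nat) : Nat := rdw 16 65535 (col2_s_0_12 (Nat.shiftRight i 12)) (Nat.land i 4095)
noncomputable def col3_s_1_3 (c : Nat) : Nat := @Bool.rec (fun _ => Nat) (col3_1) (col3_2) (Nat.ble 2 c)
noncomputable def col3_s_0_3 (c : Nat) : Nat := @Bool.rec (fun _ => Nat) (col3_0) (col3_s_1_3 c) (Nat.ble 1 c)
noncomputable def col3_s_4_6 (c : Nat) : Nat := @Bool.rec (fun _ => Nat) (col3_4) (col3_5) (Nat.ble 5 c)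
noncomputable def col3_s_3_6 (c : Nat) : Nat := @Bool.rec (fun _ => Nat) (col3_3) (col3_s_4_6 c) (Nat.ble 4 c)
noncomputable def col3_s_0_6 (c : Nat) : Nat := @Bool.rec (fun _ => Nat) (col3_s_0_3 c) (col3_s_3_6 c) (Nat.ble 3 c)
noncomputable def col3_s_7_9 (c : Nat) : Nat := @Bool.rec (fun _ => Nat) (col3_7) (col3_8) (Nat.ble 8 c)
noncomputable def col3_s_6_9 (c : Nat) : Nat := @Bool.rec (fun _ => Nat) (col3_6) (col3_s_7_9 c) (Nat.ble 7 c)
noncomputable def col3_s_10_12 (c : Nat) : Nat := @Bool.rec (fun _ => Nat) (col3_10) (col3_11) (Nat.ble 11 c)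
noncomputable def col3_s_9_12 (c : Nat) : Nat := @Bool.rec (fun _ => Nat) (col3_9) (col3_s_10_12 c) (Nat.ble 10 c)
noncomputable def col3_s_6_12 (c : Nat) : Nat := @Bool.rec (fun _ => Nat) (col3_s_6_9 c) (col3_s_9_12 c) (Nat.ble 9 c)
noncomputable def col3_s_0_12 (c : Nat) : Nat := @Bool.rec (fun _ => Nat) (col3_s_0_6 c) (col3_s_6_12 c) (Nat.ble 6 c)
noncomputable def col3 (i : Nat) : Nat := rdw 16 65535 (col3_s_0_12 (Nat.shiftRight i 12)) (Nat.land i 4095)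
noncomputable def col4_s_1_3 (c : Nat) : Nat := @Bool.rec (fun _ => Nat) (col4_1) (col4_2) (Nat.ble 2 c)
noncomputable def col4_s_0_3 (c : Nat) : Nat := @Bool.rec (fun _ => Nat) (col4_0) (col4_s_1_3 c) (Nat.ble 1 c)
noncomputable def col4_s_4_6 (c : Nat) : Nat := @Bool.rec (fun _ => Nat) (col4_4) (col4_5) (Nat.ble 5 c)
noncomputable def col4_s_3_6 (c : Nat) : Nat := @Bool.rec (fun _ => Nat) (col4_3) (col4_s_4_6 c) (Nat.ble 4 c)
noncomputable def col4_s_0_6 (c : Nat) : Nat := @Bool.rec (fun _ => Nat) (col4_s_0_3 c) (col4_s_3_6 c) (Nat.ble 3 c)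
noncomputable def col4_s_7_9 (c : Nat) : Nat := @Bool.rec (fun _ => Nat) (col4_7) (col4_8) (Nat.ble 8 c)
noncomputable def col4_s_6_9 (c : Nat) : Nat := @Bool.rec (fun _ => Nat) (col4_6) (col4_s_7_9 c) (Nat.ble 7 c)
noncomputable def col4_s_10_12 (c : Nat) : Nat := @Bool.rec (fun _ => Nat) (col4_10) (col4_11) (Nat.ble 11 c)
noncomputable def col4_s_9_12 (c : Nat) : Nat := @Bool.rec (fun _ => Nat) (col4_9) (col4_s_10_12 c) (Nat.ble 10 c)
noncomputable def col4_s_6_12 (c : Nat) : Nat := @Bool.rec (fun _ => Nat) (col4_s_6_9 c) (col4_s_9_12 c) (Nat.ble 9 c)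
noncomputable def col4_s_0_12 (c : Nat) : Nat := @Bool.rec (fun _ => Nat) (col4_s_0_6 c) (col4_s_6_12 c) (Nat.ble 6 c)
noncomputable def col4 (i : Nat) : Nat := rdw 16 65535 (col4_s_0_12 (Nat.shiftRight i 12)) (Nat.land i 4095)
noncomputable def col5_s_1_3 (c : Nat) : Nat := @Bool.rec (fun _ => Nat) (col5_1) (col5_2) (Nat.ble 2 c)
noncomputable def col5_s_0_3 (c : Nat) : Nat := @Bool.rec (fun _ => Nat) (col5_0) (col5_s_1_3 c) (Nat.ble 1 c)
noncomputable def col5_s_4_6 (c : Nat) : Nat := @Bool.rec (fun _ => Nat) (col5_4) (col5_5) (Nat.ble 5 c)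
noncomputable def col5_s_3_6 (c : Nat) : Nat := @Bool.rec (fun _ => Nat) (col5_3) (col5_s_4_6 c) (Nat.ble 4 c)
noncomputable def col5_s_0_6 (c : Nat) : Nat := @Bool.rec (fun _ => Nat) (col5_s_0_3 c) (col5_s_3_6 c) (Nat.ble 3 c)
noncomputable def col5_s_7_9 (c : Nat) : Nat := @Bool.rec (fun _ => Nat) (col5_7) (col5_8) (Nat.ble 8 c)
noncomputable def col5_s_6_9 (c : Nat) : Nat := @Bool.rec (fun _ => Nat) (col5_6) (col5_s_7_9 c) (Nat.ble 7 c)
noncomputable def col5_s_10_12 (c : Nat) : Nat := @Bool.rec (fun _ => Nat) (col5_10) (col5_11) (Nat.ble 11 c)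
noncomputable def col5_s_9_12 (c : Nat) : Nat := @Bool.rec (fun _ => Nat) (col5_9) (col5_s_10_12 c) (Nat.ble 10 c)
noncomputable def col5_s_6_12 (c : Nat) : Nat := @Bool.rec (fun _ => Nat) (col5_s_6_9 c) (col5_s_9_12 c) (Nat.ble 9 c)
noncomputable def col5_s_0_12 (c : Nat) : Nat := @Bool.rec (fun _ => Nat) (col5_s_0_6 c) (col5_s_6_12 c) (Nat.ble 6 c)
noncomputable def col5 (i : Nat) : Nat := rdw 16 65535 (col5_s_0_12 (Nat.shiftRight i 12)) (Nat.land i 4095)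
noncomputable def col6_s_1_3 (c : Nat) : Nat := @Bool.rec (fun _ => Nat) (col6_1) (col6_2) (Nat.ble 2 c)
noncomputable def col6_s_0_3 (c : Nat) : Nat := @Bool.rec (fun _ => Nat) (col6_0) (col6_s_1_3 c) (Nat.ble 1 c)
noncomputable def col6_s_4_6 (c : Nat) : Nat := @Bool.rec (fun _ => Nat) (col6_4) (col6_5) (Nat.ble 5 c)
noncomputable def col6_s_3_6 (c : Nat) : Nat := @Bool.rec (fun _ => Nat) (col6_3) (col6_s_4_6 c) (Nat.ble 4 c)
noncomputable def col6_s_0_6 (c : Nat) : Nat := @Bool.rec (fun _ => Nat) (col6_s_0_3 c) (col6_s_3_6 c) (Nat.ble 3 c)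
noncomputable def col6_s_7_9 (c : Nat) : Nat := @Bool.rec (fun _ => Nat) (col6_7) (col6_8) (Nat.ble 8 c)
noncomputable def col6_s_6_9 (c : Nat) : Nat := @Bool.rec (fun _ => Nat) (col6_6) (col6_s_7_9 c) (Nat.ble 7 c)
noncomputable def col6_s_10_12 (c : Nat) : Nat := @Bool.rec (fun _ => Nat) (col6_10) (col6_11) (Nat.ble 11 c)
noncomputable def col6_s_9_12 (c : Nat) : Nat := @Bool.rec (fun _ => Nat) (col6_9) (col6_s_10_12 c) (Nat.ble 10 c)
noncomputable def col6_s_6_12 (c : Nat) : Nat := @Bool.rec (fun _ => Nat) (col6_s_6_9 c) (col6_s_9_12 c) (Nat.ble 9 c)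
noncomputable def col6_s_0_12 (c : Nat) : Nat := @Bool.rec (fun _ => Nat) (col6_s_0_6 c) (col6_s_6_12 c) (Nat.ble 6 c)
noncomputable def col6 (i : Nat) : Nat := rdw 16 65535 (col6_s_0_12 (Nat.shiftRight i 12)) (Nat.land i 4095)
noncomputable def col7_s_1_3 (c : Nat) : Nat := @Bool.rec (fun _ => Nat) (col7_1) (col7_2) (Nat.ble 2 c)
noncomputable def col7_s_0_3 (c : Nat) : Nat := @Bool.rec (fun _ => Nat) (col7_0) (col7_s_1_3 c) (Nat.ble 1 c)
noncomputable def col7_s_4_6 (c : Nat) : Nat := @Bool.rec (fun _ => Nat) (col7_4) (col7_5) (Nat.ble 5 c)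
noncomputable def col7_s_3_6 (c : Nat) : Nat := @Bool.rec (fun _ => Nat) (col7_3) (col7_s_4_6 c) (Nat.ble 4 c)
noncomputable def col7_s_0_6 (c : Nat) : Nat := @Bool.rec (fun _ => Nat) (col7_s_0_3 c) (col7_s_3_6 c) (Nat.ble 3 c)
noncomputable def col7_s_7_9 (c : Nat) : Nat := @Bool.rec (fun _ => Nat) (col7_7) (col7_8) (Nat.ble 8 c)
noncomputable def col7_s_6_9 (c : Nat) : Nat := @Bool.rec (fun _ => Nat) (col7_6) (col7_s_7_9 c) (Nat.ble 7 c)
noncomputable def col7_s_10_12 (c : Nat) : Nat := @Bool.rec (fun _ => Nat) (col7_10) (col7_11) (Nat.ble 11 c)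
noncomputable def col7_s_9_12 (c : Nat) : Nat := @Bool.rec (fun _ => Nat) (col7_9) (col7_s_10_12 c) (Nat.ble 10 c)
noncomputable def col7_s_6_12 (c : Nat) : Nat := @Bool.rec (fun _ => Nat) (col7_s_6_9 c) (col7_s_9_12 c) (Nat.ble 9 c)
noncomputable def col7_s_0_12 (c : Nat) : Nat := @Bool.rec (fun _ => Nat) (col7_s_0_6 c) (col7_s_6_12 c) (Nat.ble 6 c)
noncomputable def col7 (i : Nat) : Nat := rdw 16 65535 (col7_s_0_12 (Nat.shiftRight i 12)) (Nat.land i 4095)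
noncomputable def col8_s_1_3 (c : Nat) : Nat := @Bool.rec (fun _ => Nat) (col8_1) (col8_2) (Nat.ble 2 c)
noncomputable def col8_s_0_3 (c : Nat) : Nat := @Bool.rec (fun _ => Nat) (col8_0) (col8_s_1_3 c) (Nat.ble 1 c)
noncomputable def col8_s_4_6 (c : Nat) : Nat := @Bool.rec (fun _ => Nat) (col8_4) (col8_5) (Nat.ble 5 c)
noncomputable def col8_s_3_6 (c : Nat) : Nat := @Bool.rec (fun _ => Nat) (col8_3) (col8_s_4_6 c) (Nat.ble 4 c)
noncomputable def col8_s_0_6 (c : Nat) : Nat := @Bool.rec (fun _ => Nat) (col8_s_0_3 c) (col8_s_3_6 c) (Nat.ble 3 c)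
noncomputable def col8_s_7_9 (c : Nat) : Nat := @Bool.rec (fun _ => Nat) (col8_7) (col8_8) (Nat.ble 8 c)
noncomputable def col8_s_6_9 (c : Nat) : Nat := @Bool.rec (fun _ => Nat) (col8_6) (col8_s_7_9 c) (Nat.ble 7 c)
noncomputable def col8_s_10_12 (c : Nat) : Nat := @Bool.rec (fun _ => Nat) (col8_10) (col8_11) (Nat.ble 11 c)
noncomputable def col8_s_9_12 (c : Nat) : Nat := @Bool.rec (fun _ => Nat) (col8_9) (col8_s_10_12 c) (Nat.ble 10 c)
noncomputable def col8_s_6_12 (c : Nat) : Nat := @Bool.rec (fun _ => Nat) (col8_s_6_9 c) (col8_s_9_12 c) (Nat.ble 9 c)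
noncomputable def col8_s_0_12 (c : Nat) : Nat := @Bool.rec (fun _ => Nat) (col8_s_0_6 c) (col8_s_6_12 c) (Nat.ble 6 c)
noncomputable def col8 (i : Nat) : Nat := rdw 16 65535 (col8_s_0_12 (Nat.shiftRight i 12)) (Nat.land i 4095)
noncomputable def col9_s_1_3 (c : Nat) : Nat := @Bool.rec (fun _ => Nat) (col9_1) (col9_2) (Nat.ble 2 c)
noncomputable def col9_s_0_3 (c : Nat) : Nat := @Bool.rec (fun _ => Nat) (col9_0) (col9_s_1_3 c) (Nat.ble 1 c)
noncomputable def col9_s_4_6 (c : Nat) : Nat := @Bool.rec (fun _ => Nat) (col9_4) (col9_5) (Nat.ble 5 c)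
noncomputable def col9_s_3_6 (c : Nat) : Nat := @Bool.rec (fun _ => Nat) (col9_3) (col9_s_4_6 c) (Nat.ble 4 c)
noncomputable def col9_s_0_6 (c : Nat) : Nat := @Bool.rec (fun _ => Nat) (col9_s_0_3 c) (col9_s_3_6 c) (Nat.ble 3 c)
noncomputable def col9_s_7_9 (c : Nat) : Nat := @Bool.rec (fun _ => Nat) (col9_7) (col9_8) (Nat.ble 8 c)
noncomputable def col9_s_6_9 (c : Nat) : Nat := @Bool.rec (fun _ => Nat) (col9_6) (col9_s_7_9 c) (Nat.ble 7 c)
noncomputable def col9_s_10_12 (c : Nat) : Nat := @Bool.rec (fun _ => Nat) (col9_10) (col9_11) (Nat.ble 11 c)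
noncomputable def col9_s_9_12 (c : Nat) : Nat := @Bool.rec (fun _ => Nat) (col9_9) (col9_s_10_12 c) (Nat.ble 10 c)
noncomputable def col9_s_6_12 (c : Nat) : Nat := @Bool.rec (fun _ => Nat) (col9_s_6_9 c) (col9_s_9_12 c) (Nat.ble 9 c)
noncomputable def col9_s_0_12 (c : Nat) : Nat := @Bool.rec (fun _ => Nat) (col9_s_0_6 c) (col9_s_6_12 c) (Nat.ble 6 c)
noncomputable def col9 (i : Nat) : Nat := rdw 16 65535 (col9_s_0_12 (Nat.shiftRight i 12)) (Nat.land i 4095)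
noncomputable def col10_s_1_3 (c : Nat) : Nat := @Bool.rec (fun _ => Nat) (col10_1) (col10_2) (Nat.ble 2 c)
noncomputable def col10_s_0_3 (c : Nat) : Nat := @Bool.rec (fun _ => Nat) (col10_0) (col10_s_1_3 c) (Nat.ble 1 c)
noncomputable def col10_s_4_6 (c : Nat) : Nat := @Bool.rec (fun _ => Nat) (col10_4) (col10_5) (Nat.ble 5 c)
noncomputable def col10_s_3_6 (c : Nat) : Nat := @Bool.rec (fun _ => Nat) (col10_3) (col10_s_4_6 c) (Nat.ble 4 c)
noncomputable def col10_s_0_6 (c : Nat) : Nat := @Bool.rec (fun _ => Nat) (col10_s_0_3 c) (col10_s_3_6 c) (Nat.ble 3 c)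
noncomputable def col10_s_7_9 (c : Nat) : Nat := @Bool.rec (fun _ => Nat) (col10_7) (col10_8) (Nat.ble 8 c)
noncomputable def col10_s_6_9 (c : Nat) : Nat := @Bool.rec (fun _ => Nat) (col10_6) (col10_s_7_9 c) (Nat.ble 7 c)
noncomputable def col10_s_10_12 (c : Nat) : Nat := @Bool.rec (fun _ => Nat) (col10_10) (col10_11) (Nat.ble 11 c)
noncomputable def col10_s_9_12 (c : Nat) : Nat := @Bool.rec (fun _ => Nat) (col10_9) (col10_s_10_12 c) (Nat.ble 10 c)
noncomputable def col10_s_6_12 (c : Nat) : Nat := @Bool.rec (fun _ => Nat) (col10_s_6_9 c) (col10_s_9_12 c) (Nat.ble 9 c)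
noncomputable def col10_s_0_12 (c : Nat) : Nat := @Bool.rec (fun _ => Nat) (col10_s_0_6 c) (col10_s_6_12 c) (Nat.ble 6 c)
noncomputable def col10 (i : Nat) : Nat := rdw 16 65535 (col10_s_0_12 (Nat.shiftRight i 12)) (Nat.land i 4095)
noncomputable def col11_s_1_3 (c : Nat) : Nat := @Bool.rec (fun _ => Nat) (col11_1) (col11_2) (Nat.ble 2 c)
noncomputable def col11_s_0_3 (c : Nat) : Nat := @Bool.rec (fun _ => Nat) (col11_0) (col11_s_1_3 c) (Nat.ble 1 c)
noncomputable def col11_s_4_6 (c : Nat) : Nat := @Bool.rec (fun _ => Nat) (col11_4) (col11_5) (Nat.ble 5 c)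
noncomputable def col11_s_3_6 (c : Nat) : Nat := @Bool.rec (fun _ => Nat) (col11_3) (col11_s_4_6 c) (Nat.ble 4 c)
noncomputable def col11_s_0_6 (c : Nat) : Nat := @Bool.rec (fun _ => Nat) (col11_s_0_3 c) (col11_s_3_6 c) (Nat.ble 3 c)
noncomputable def col11_s_7_9 (c : Nat) : Nat := @Bool.rec (fun _ => Nat) (col11_7) (col11_8) (Nat.ble 8 c)
noncomputable def col11_s_6_9 (c : Nat) : Nat := @Bool.rec (fun _ => Nat) (col11_6) (col11_s_7_9 c) (Nat.ble 7 c)
noncomputable def col11_s_10_12 (c : Nat) : Nat := @Bool.rec (fun _ => Nat) (col11_10) (col11_11) (Nat.ble 11 c)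
noncomputable def col11_s_9_12 (c : Nat) : Nat := @Bool.rec (fun _ => Nat) (col11_9) (col11_s_10_12 c) (Nat.ble 10 c)
noncomputable def col11_s_6_12 (c : Nat) : Nat := @Bool.rec (fun _ => Nat) (col11_s_6_9 c) (col11_s_9_12 c) (Nat.ble 9 c)
noncomputable def col11_s_0_12 (c : Nat) : Nat := @Bool.rec (fun _ => Nat) (col11_s_0_6 c) (col11_s_6_12 c) (Nat.ble 6 c)
noncomputable def col11 (i : Nat) : Nat := rdw 16 65535 (col11_s_0_12 (Nat.shiftRight i 12)) (Nat.land i 4095)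
noncomputable def col12_s_1_3 (c : Nat) : Nat := @Bool.rec (fun _ => Nat) (col12_1) (col12_2) (Nat.ble 2 c)
noncomputable def col12_s_0_3 (c : Nat) : Nat := @Bool.rec (fun _ => Nat) (col12_0) (col12_s_1_3 c) (Nat.ble 1 c)
noncomputable def col12_s_4_6 (c : Nat) : Nat := @Bool.rec (fun _ => Nat) (col12_4) (col12_5) (Nat.ble 5 c)
noncomputable def col12_s_3_6 (c : Nat) : Nat := @Bool.rec (fun _ => Nat) (col12_3) (col12_s_4_6 c) (Nat.ble 4 c)
noncomputable def col12_s_0_6 (c : Nat) : Nat := @Bool.rec (fun _ => Nat) (col12_s_0_3 c) (col12_s_3_6 c) (Nat.ble 3 c)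
noncomputable def col12_s_7_9 (c : Nat) : Nat := @Bool.rec (fun _ => Nat) (col12_7) (col12_8) (Nat.ble 8 c)
noncomputable def col12_s_6_9 (c : Nat) : Nat := @Bool.rec (fun _ => Nat) (col12_6) (col12_s_7_9 c) (Nat.ble 7 c)
noncomputable def col12_s_10_12 (c : Nat) : Nat := @Bool.rec (fun _ => Nat) (col12_10) (col12_11) (Nat.ble 11 c)
noncomputable def col12_s_9_12 (c : Nat) : Nat := @Bool.rec (fun _ => Nat) (col12_9) (col12_s_10_12 c) (Nat.ble 10 c)
noncomputable def col12_s_6_12 (c : Nat) : Nat := @Bool.rec (fun _ => Nat) (col12_s_6_9 c) (col12_s_9_12 c) (Nat.ble 9 c)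
noncomputable def col12_s_0_12 (c : Nat) : Nat := @Bool.rec (fun _ => Nat) (col12_s_0_6 c) (col12_s_6_12 c) (Nat.ble 6 c)
noncomputable def col12 (i : Nat) : Nat := rdw 16 65535 (col12_s_0_12 (Nat.shiftRight i 12)) (Nat.land i 4095)
noncomputable def col13_s_1_3 (c : Nat) : Nat := @Bool.rec (fun _ => Nat) (col13_1) (col13_2) (Nat.ble 2 c)
noncomputable def col13_s_0_3 (c : Nat) : Nat := @Bool.rec (fun _ => Nat) (col13_0) (col13_s_1_3 c) (Nat.ble 1 c)
noncomputable def col13_s_4_6 (c : Nat) : Nat := @Bool.rec (fun _ => Nat) (col13_4) (col13_5) (Nat.ble 5 c)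
noncomputable def col13_s_3_6 (c : Nat) : Nat := @Bool.rec (fun _ => Nat) (col13_3) (col13_s_4_6 c) (Nat.ble 4 c)
noncomputable def col13_s_0_6 (c : Nat) : Nat := @Bool.rec (fun _ => Nat) (col13_s_0_3 c) (col13_s_3_6 c) (Nat.ble 3 c)
noncomputable def col13_s_7_9 (c : Nat) : Nat := @Bool.rec (fun _ => Nat) (col13_7) (col13_8) (Nat.ble 8 c)
noncomputable def col13_s_6_9 (c : Nat) : Nat := @Bool.rec (fun _ => Nat) (col13_6) (col13_s_7_9 c) (Nat.ble 7 c)
noncomputable def col13_s_10_12 (c : Nat) : Nat := @Bool.rec (fun _ => Nat) (col13_10) (col13_11) (Nat.ble 11 c)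
noncomputable def col13_s_9_12 (c : Nat) : Nat := @Bool.rec (fun _ => Nat) (col13_9) (col13_s_10_12 c) (Nat.ble 10 c)
noncomputable def col13_s_6_12 (c : Nat) : Nat := @Bool.rec (fun _ => Nat) (col13_s_6_9 c) (col13_s_9_12 c) (Nat.ble 9 c)
noncomputable def col13_s_0_12 (c : Nat) : Nat := @Bool.rec (fun _ => Nat) (col13_s_0_6 c) (col13_s_6_12 c) (Nat.ble 6 c)
noncomputable def col13 (i : Nat) : Nat := rdw 16 65535 (col13_s_0_12 (Nat.shiftRight i 12)) (Nat.land i 4095)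
noncomputable def col14_s_1_3 (c : Nat) : Nat := @Bool.rec (fun _ => Nat) (col14_1) (col14_2) (Nat.ble 2 c)
noncomputable def col14_s_0_3 (c : Nat) : Nat := @Bool.rec (fun _ => Nat) (col14_0) (col14_s_1_3 c) (Nat.ble 1 c)
noncomputable def col14_s_4_6 (c : Nat) : Nat := @Bool.rec (fun _ => Nat) (col14_4) (col14_5) (Nat.ble 5 c)
noncomputable def col14_s_3_6 (c : Nat) : Nat := @Bool.rec (fun _ => Nat) (col14_3) (col14_s_4_6 c) (Nat.ble 4 c)
noncomputable def col14_s_0_6 (c : Nat) : Nat := @Bool.rec (fun _ => Nat) (col14_s_0_3 c) (col14_s_3_6 c) (Nat.ble 3 c)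
noncomputable def col14_s_7_9 (c : Nat) : Nat := @Bool.rec (fun _ => Nat) (col14_7) (col14_8) (Nat.ble 8 c)
noncomputable def col14_s_6_9 (c : Nat) : Nat := @Bool.rec (fun _ => Nat) (col14_6) (col14_s_7_9 c) (Nat.ble 7 c)
noncomputable def col14_s_10_12 (c : Nat) : Nat := @Bool.rec (fun _ => Nat) (col14_10) (col14_11) (Nat.ble 11 c)
noncomputable def col14_s_9_12 (c : Nat) : Nat := @Bool.rec (fun _ => Nat) (col14_9) (col14_s_10_12 c) (Nat.ble 10 c)
noncomputable def col14_s_6_12 (c : Nat) : Nat := @Bool.rec (fun _ => Nat) (col14_s_6_9 c) (col14_s_9_12 c) (Nat.ble 9 c)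
noncomputable def col14_s_0_12 (c : Nat) : Nat := @Bool.rec (fun _ => Nat) (col14_s_0_6 c) (col14_s_6_12 c) (Nat.ble 6 c)
noncomputable def col14 (i : Nat) : Nat := rdw 16 65535 (col14_s_0_12 (Nat.shiftRight i 12)) (Nat.land i 4095)
noncomputable def col15_s_1_3 (c : Nat) : Nat := @Bool.rec (fun _ => Nat) (col15_1) (col15_2) (Nat.ble 2 c)
noncomputable def col15_s_0_3 (c : Nat) : Nat := @Bool.rec (fun _ => Nat) (col15_0) (col15_s_1_3 c) (Nat.ble 1 c)
noncomputable def col15_s_4_6 (c : Nat) : Nat := @Bool.rec (fun _ => Nat) (col15_4) (col15_5) (Nat.ble 5 c)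
noncomputable def col15_s_3_6 (c : Nat) : Nat := @Bool.rec (fun _ => Nat) (col15_3) (col15_s_4_6 c) (Nat.ble 4 c)
noncomputable def col15_s_0_6 (c : Nat) : Nat := @Bool.rec (fun _ => Nat) (col15_s_0_3 c) (col15_s_3_6 c) (Nat.ble 3 c)
noncomputable def col15_s_7_9 (c : Nat) : Nat := @Bool.rec (fun _ => Nat) (col15_7) (col15_8) (Nat.ble 8 c)
noncomputable def col15_s_6_9 (c : Nat) : Nat := @Bool.rec (fun _ => Nat) (col15_6) (col15_s_7_9 c) (Nat.ble 7 c)
noncomputable def col15_s_10_12 (c : Nat) : Nat := @Bool.rec (fun _ => Nat) (col15_10) (col15_11) (Nat.ble 11 c)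
noncomputable def col15_s_9_12 (c : Nat) : Nat := @Bool.rec (fun _ => Nat) (col15_9) (col15_s_10_12 c) (Nat.ble 10 c)
noncomputable def col15_s_6_12 (c : Nat) : Nat := @Bool.rec (fun _ => Nat) (col15_s_6_9 c) (col15_s_9_12 c) (Nat.ble 9 c)
noncomputable def col15_s_0_12 (c : Nat) : Nat := @Bool.rec (fun _ => Nat) (col15_s_0_6 c) (col15_s_6_12 c) (Nat.ble 6 c)
noncomputable def col15 (i : Nat) : Nat := rdw 16 65535 (col15_s_0_12 (Nat.shiftRight i 12)) (Nat.land i 4095)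
noncomputable def col16_s_1_3 (c : Nat) : Nat := @Bool.rec (fun _ => Nat) (col16_1) (col16_2) (Nat.ble 2 c)
noncomputable def col16_s_0_3 (c : Nat) : Nat := @Bool.rec (fun _ => Nat) (col16_0) (col16_s_1_3 c) (Nat.ble 1 c)
noncomputable def col16_s_4_6 (c : Nat) : Nat := @Bool.rec (fun _ => Nat) (col16_4) (col16_5) (Nat.ble 5 c)
noncomputable def col16_s_3_6 (c : Nat) : Nat := @Bool.rec (fun _ => Nat) (col16_3) (col16_s_4_6 c) (Nat.ble 4 c)
noncomputable def col16_s_0_6 (c : Nat) : Nat := @Bool.rec (fun _ => Nat) (col16_s_0_3 c) (col16_s_3_6 c) (Nat.ble 3 c)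
noncomputable def col16_s_7_9 (c : Nat) : Nat := @Bool.rec (fun _ => Nat) (col16_7) (col16_8) (Nat.ble 8 c)
noncomputable def col16_s_6_9 (c : Nat) : Nat := @Bool.rec (fun _ => Nat) (col16_6) (col16_s_7_9 c) (Nat.ble 7 c)
noncomputable def col16_s_10_12 (c : Nat) : Nat := @Bool.rec (fun _ => Nat) (col16_10) (col16_11) (Nat.ble 11 c)
noncomputable def col16_s_9_12 (c : Nat) : Nat := @Bool.rec (fun _ => Nat) (col16_9) (col16_s_10_12 c) (Nat.ble 10 c)
noncomputable def col16_s_6_12 (c : Nat) : Nat := @Bool.rec (fun _ => Nat) (col16_s_6_9 c) (col16_s_9_12 c) (Nat.ble 9 c)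
noncomputable def col16_s_0_12 (c : Nat) : Nat := @Bool.rec (fun _ => Nat) (col16_s_0_6 c) (col16_s_6_12 c) (Nat.ble 6 c)
noncomputable def col16 (i : Nat) : Nat := rdw 16 65535 (col16_s_0_12 (Nat.shiftRight i 12)) (Nat.land i 4095)
noncomputable def col17_s_1_3 (c : Nat) : Nat := @Bool.rec (fun _ => Nat) (col17_1) (col17_2) (Nat.ble 2 c)
noncomputable def col17_s_0_3 (c : Nat) : Nat := @Bool.rec (fun _ => Nat) (col17_0) (col17_s_1_3 c) (Nat.ble 1 c)
noncomputable def col17_s_4_6 (c : Nat) : Nat := @Bool.rec (fun _ => Nat) (col17_4) (col17_5) (Nat.ble 5 c)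
noncomputable def col17_s_3_6 (c : Nat) : Nat := @Bool.rec (fun _ => Nat) (col17_3) (col17_s_4_6 c) (Nat.ble 4 c)
noncomputable def col17_s_0_6 (c : Nat) : Nat := @Bool.rec (fun _ => Nat) (col17_s_0_3 c) (col17_s_3_6 c) (Nat.ble 3 c)
noncomputable def col17_s_7_9 (c : Nat) : Nat := @Bool.rec (fun _ => Nat) (col17_7) (col17_8) (Nat.ble 8 c)
noncomputable def col17_s_6_9 (c : Nat) : Nat := @Bool.rec (fun _ => Nat) (col17_6) (col17_s_7_9 c) (Nat.ble 7 c)
noncomputable def col17_s_10_12 (c : Nat) : Nat := @Bool.rec (fun _ => Nat) (col17_10) (col17_11) (Nat.ble 11 c)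
noncomputable def col17_s_9_12 (c : Nat) : Nat := @Bool.rec (fun _ => Nat) (col17_9) (col17_s_10_12 c) (Nat.ble 10 c)
noncomputable def col17_s_6_12 (c : Nat) : Nat := @Bool.rec (fun _ => Nat) (col17_s_6_9 c) (col17_s_9_12 c) (Nat.ble 9 c)
noncomputable def col17_s_0_12 (c : Nat) : Nat := @Bool.rec (fun _ => Nat) (col17_s_0_6 c) (col17_s_6_12 c) (Nat.ble 6 c)
noncomputable def col17 (i : Nat) : Nat := rdw 16 65535 (col17_s_0_12 (Nat.shiftRight i 12)) (Nat.land i 4095)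
noncomputable def col18_s_1_3 (c : Nat) : Nat := @Bool.rec (fun _ => Nat) (col18_1) (col18_2) (Nat.ble 2 c)
noncomputable def col18_s_0_3 (c : Nat) : Nat := @Bool.rec (fun _ => Nat) (col18_0) (col18_s_1_3 c) (Nat.ble 1 c)
noncomputable def col18_s_4_6 (c : Nat) : Nat := @Bool.rec (fun _ => Nat) (col18_4) (col18_5) (Nat.ble 5 c)
noncomputable def col18_s_3_6 (c : Nat) : Nat := @Bool.rec (fun _ => Nat) (col18_3) (col18_s_4_6 c) (Nat.ble 4 c)
noncomputable def col18_s_0_6 (c : Nat) : Nat := @Bool.rec (fun _ => Nat) (col18_s_0_3 c) (col18_s_3_6 c) (Nat.ble 3 c)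
noncomputable def col18_s_7_9 (c : Nat) : Nat := @Bool.rec (fun _ => Nat) (col18_7) (col18_8) (Nat.ble 8 c)
noncomputable def col18_s_6_9 (c : Nat) : Nat := @Bool.rec (fun _ => Nat) (col18_6) (col18_s_7_9 c) (Nat.ble 7 c)
noncomputable def col18_s_10_12 (c : Nat) : Nat := @Bool.rec (fun _ => Nat) (col18_10) (col18_11) (Nat.ble 11 c)
noncomputable def col18_s_9_12 (c : Nat) : Nat := @Bool.rec (fun _ => Nat) (col18_9) (col18_s_10_12 c) (Nat.ble 10 c)
noncomputable def col18_s_6_12 (c : Nat) : Nat := @Bool.rec (fun _ => Nat) (col18_s_6_9 c) (col18_s_9_12 c) (Nat.ble 9 c)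
noncomputable def col18_s_0_12 (c : Nat) : Nat := @Bool.rec (fun _ => Nat) (col18_s_0_6 c) (col18_s_6_12 c) (Nat.ble 6 c)
noncomputable def col18 (i : Nat) : Nat := rdw 16 65535 (col18_s_0_12 (Nat.shiftRight i 12)) (Nat.land i 4095)
noncomputable def col19_s_1_3 (c : Nat) : Nat := @Bool.rec (fun _ => Nat) (col19_1) (col19_2) (Nat.ble 2 c)
noncomputable def col19_s_0_3 (c : Nat) : Nat := @Bool.rec (fun _ => Nat) (col19_0) (col19_s_1_3 c) (Nat.ble 1 c)
noncomputable def col19_s_4_6 (c : Nat) : Nat := @Bool.rec (fun _ => Nat) (col19_4) (col19_5) (Nat.ble 5 c)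
noncomputable def col19_s_3_6 (c : Nat) : Nat := @Bool.rec (fun _ => Nat) (col19_3) (col19_s_4_6 c) (Nat.ble 4 c)
noncomputable def col19_s_0_6 (c : Nat) : Nat := @Bool.rec (fun _ => Nat) (col19_s_0_3 c) (col19_s_3_6 c) (Nat.ble 3 c)
noncomputable def col19_s_7_9 (c : Nat) : Nat := @Bool.rec (fun _ => Nat) (col19_7) (col19_8) (Nat.ble 8 c)
noncomputable def col19_s_6_9 (c : Nat) : Nat := @Bool.rec (fun _ => Nat) (col19_6) (col19_s_7_9 c) (Nat.ble 7 c)
noncomputable def col19_s_10_12 (c : Nat) : Nat := @Bool.rec (fun _ => Nat) (col19_10) (col19_11) (Nat.ble 11 c)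
noncomputable def col19_s_9_12 (c : Nat) : Nat := @Bool.rec (fun _ => Nat) (col19_9) (col19_s_10_12 c) (Nat.ble 10 c)
noncomputable def col19_s_6_12 (c : Nat) : Nat := @Bool.rec (fun _ => Nat) (col19_s_6_9 c) (col19_s_9_12 c) (Nat.ble 9 c)
noncomputable def col19_s_0_12 (c : Nat) : Nat := @Bool.rec (fun _ => Nat) (col19_s_0_6 c) (col19_s_6_12 c) (Nat.ble 6 c)
noncomputable def col19 (i : Nat) : Nat := rdw 16 65535 (col19_s_0_12 (Nat.shiftRight i 12)) (Nat.land i 4095)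
noncomputable def finTab_s_1_3 (c : Nat) : Nat := @Bool.rec (fun _ => Nat) (finTab_1) (finTab_2) (Nat.ble 2 c)
noncomputable def finTab_s_0_3 (c : Nat) : Nat := @Bool.rec (fun _ => Nat) (finTab_0) (finTab_s_1_3 c) (Nat.ble 1 c)
noncomputable def finTab_s_3_5 (c : Nat) : Nat := @Bool.rec (fun _ => Nat) (finTab_3) (finTab_4) (Nat.ble 4 c)
noncomputable def finTab_s_5_7 (c : Nat) : Nat := @Bool.rec (fun _ => Nat) (finTab_5) (finTab_6) (Nat.ble 6 c)
noncomputable def finTab_s_3_7 (c : Nat) : Nat := @Bool.rec (fun _ => Nat) (finTab_s_3_5 c) (finTab_s_5_7 c) (Nat.ble 5 c)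
noncomputable def finTab_s_0_7 (c : Nat) : Nat := @Bool.rec (fun _ => Nat) (finTab_s_0_3 c) (finTab_s_3_7 c) (Nat.ble 3 c)
noncomputable def finTab_s_8_10 (c : Nat) : Nat := @Bool.rec (fun _ => Nat) (finTab_8) (finTab_9) (Nat.ble 9 c)
noncomputable def finTab_s_7_10 (c : Nat) : Nat := @Bool.rec (fun _ => Nat) (finTab_7) (finTab_s_8_10 c) (Nat.ble 8 c)
noncomputable def finTab_s_10_12 (c : Nat) : Nat := @Bool.rec (fun _ => Nat) (finTab_10) (finTab_11) (Nat.ble 11 c)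
noncomputable def finTab_s_12_14 (c : Nat) : Nat := @Bool.rec (fun _ => Nat) (finTab_12) (finTab_13) (Nat.ble 13 c)
noncomputable def finTab_s_10_14 (c : Nat) : Nat := @Bool.rec (fun _ => Nat) (finTab_s_10_12 c) (finTab_s_12_14 c) (Nat.ble 12 c)
noncomputable def finTab_s_7_14 (c : Nat) : Nat := @Bool.rec (fun _ => Nat) (finTab_s_7_10 c) (finTab_s_10_14 c) (Nat.ble 10 c)
noncomputable def finTab_s_0_14 (c : Nat) : Nat := @Bool.rec (fun _ => Nat) (finTab_s_0_7 c) (finTab_s_7_14 c) (Nat.ble 7 c)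
noncomputable def finTab_s_15_17 (c : Nat) : Nat := @Bool.rec (fun _ => Nat) (finTab_15) (finTab_16) (Nat.ble 16 c)
noncomputable def finTab_s_14_17 (c : Nat) : Nat := @Bool.rec (fun _ => Nat) (finTab_14) (finTab_s_15_17 c) (Nat.ble 15 c)
noncomputable def finTab_s_17_19 (c : Nat) : Nat := @Bool.rec (fun _ => Nat) (finTab_17) (finTab_18) (Nat.ble 18 c)
noncomputable def finTab_s_19_21 (c : Nat) : Nat := @Bool.rec (fun _ => Nat) (finTab_19) (finTab_20) (Nat.ble 20 c)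
noncomputable def finTab_s_17_21 (c : Nat) : Nat := @Bool.rec (fun _ => Nat) (finTab_s_17_19 c) (finTab_s_19_21 c) (Nat.ble 19 c)
noncomputable def finTab_s_14_21 (c : Nat) : Nat := @Bool.rec (fun _ => Nat) (finTab_s_14_17 c) (finTab_s_17_21 c) (Nat.ble 17 c)
noncomputable def finTab_s_21_23 (c : Nat) : Nat := @Bool.rec (fun _ => Nat) (finTab_21) (finTab_22) (Nat.ble 22 c)
noncomputable def finTab_s_23_25 (c : Nat) : Nat := @Bool.rec (fun _ => Nat) (finTab_23) (finTab_24) (Nat.ble 24 c)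
noncomputable def finTab_s_21_25 (c : Nat) : Nat := @Bool.rec (fun _ => Nat) (finTab_s_21_23 c) (finTab_s_23_25 c) (Nat.ble 23 c)
noncomputable def finTab_s_25_27 (c : Nat) : Nat := @Bool.rec (fun _ => Nat) (finTab_25) (finTab_26) (Nat.ble 26 c)
noncomputable def finTab_s_27_29 (c : Nat) : Nat := @Bool.rec (fun _ => Nat) (finTab_27) (finTab_28) (Nat.ble 28 c)
noncomputable def finTab_s_25_29 (c : Nat) : Nat := @Bool.rec (fun _ => Nat) (finTab_s_25_27 c) (finTab_s_27_29 c) (Nat.ble 27 c)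
noncomputable def finTab_s_21_29 (c : Nat) : Nat := @Bool.rec (fun _ => Nat) (finTab_s_21_25 c) (finTab_s_25_29 c) (Nat.ble 25 c)
noncomputable def finTab_s_14_29 (c : Nat) : Nat := @Bool.rec (fun _ => Nat) (finTab_s_14_21 c) (finTab_s_21_29 c) (Nat.ble 21 c)
noncomputable def finTab_s_0_29 (c : Nat) : Nat := @Bool.rec (fun _ => Nat) (finTab_s_0_14 c) (finTab_s_14_29 c) (Nat.ble 14 c)
noncomputable def finTab_s_30_32 (c : Nat) : Nat := @Bool.rec (fun _ => Nat) (finTab_30) (finTab_31) (Nat.ble 31 c)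
noncomputable def finTab_s_29_32 (c : Nat) : Nat := @Bool.rec (fun _ => Nat) (finTab_29) (finTab_s_30_32 c) (Nat.ble 30 c)
noncomputable def finTab_s_32_34 (c : Nat) : Nat := @Bool.rec (fun _ => Nat) (finTab_32) (finTab_33) (Nat.ble 33 c)
noncomputable def finTab_s_34_36 (c : Nat) : Nat := @Bool.rec (fun _ => Nat) (finTab_34) (finTab_35) (Nat.ble 35 c)
noncomputable def finTab_s_32_36 (c : Nat) : Nat := @Bool.rec (fun _ => Nat) (finTab_s_32_34 c) (finTab_s_34_36 c) (Nat.ble 34 c)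
noncomputable def finTab_s_29_36 (c : Nat) : Nat := @Bool.rec (fun _ => Nat) (finTab_s_29_32 c) (finTab_s_32_36 c) (Nat.ble 32 c)
noncomputable def finTab_s_36_38 (c : Nat) : Nat := @Bool.rec (fun _ => Nat) (finTab_36) (finTab_37) (Nat.ble 37 c)
noncomputable def finTab_s_38_40 (c : Nat) : Nat := @Bool.rec (fun _ => Nat) (finTab_38) (finTab_39) (Nat.ble 39 c)
noncomputable def finTab_s_36_40 (c : Nat) : Nat := @Bool.rec (fun _ => Nat) (finTab_s_36_38 c) (finTab_s_38_40 c) (Nat.ble 38 c)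
noncomputable def finTab_s_40_42 (c : Nat) : Nat := @Bool.rec (fun _ => Nat) (finTab_40) (finTab_41) (Nat.ble 41 c)
noncomputable def finTab_s_42_44 (c : Nat) : Nat := @Bool.rec (fun _ => Nat) (finTab_42) (finTab_43) (Nat.ble 43 c)
noncomputable def finTab_s_40_44 (c : Nat) : Nat := @Bool.rec (fun _ => Nat) (finTab_s_40_42 c) (finTab_s_42_44 c) (Nat.ble 42 c)
noncomputable def finTab_s_36_44 (c : Nat) : Nat := @Bool.rec (fun _ => Nat) (finTab_s_36_40 c) (finTab_s_40_44 c) (Nat.ble 40 c)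
noncomputable def finTab_s_29_44 (c : Nat) : Nat := @Bool.rec (fun _ => Nat) (finTab_s_29_36 c) (finTab_s_36_44 c) (Nat.ble 36 c)
noncomputable def finTab_s_45_47 (c : Nat) : Nat := @Bool.rec (fun _ => Nat) (finTab_45) (finTab_46) (Nat.ble 46 c)
noncomputable def finTab_s_44_47 (c : Nat) : Nat := @Bool.rec (fun _ => Nat) (finTab_44) (finTab_s_45_47 c) (Nat.ble 45 c)
noncomputable def finTab_s_47_49 (c : Nat) : Nat := @Bool.rec (fun _ => Nat) (finTab_47) (finTab_48) (Nat.ble 48 c)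
noncomputable def finTab_s_49_51 (c : Nat) : Nat := @Bool.rec (fun _ => Nat) (finTab_49) (finTab_50) (Nat.ble 50 c)
noncomputable def finTab_s_47_51 (c : Nat) : Nat := @Bool.rec (fun _ => Nat) (finTab_s_47_49 c) (finTab_s_49_51 c) (Nat.ble 49 c)
noncomputable def finTab_s_44_51 (c : Nat) : Nat := @Bool.rec (fun _ => Nat) (finTab_s_44_47 c) (finTab_s_47_51 c) (Nat.ble 47 c)
noncomputable def finTab_s_51_53 (c : Nat) : Nat := @Bool.rec (fun _ => Nat) (finTab_51) (finTab_52) (Nat.ble 52 c)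
noncomputable def finTab_s_53_55 (c : Nat) : Nat := @Bool.rec (fun _ => Nat) (finTab_53) (finTab_54) (Nat.ble 54 c)
noncomputable def finTab_s_51_55 (c : Nat) : Nat := @Bool.rec (fun _ => Nat) (finTab_s_51_53 c) (finTab_s_53_55 c) (Nat.ble 53 c)
noncomputable def finTab_s_55_57 (c : Nat) : Nat := @Bool.rec (fun _ => Nat) (finTab_55) (finTab_56) (Nat.ble 56 c)
noncomputable def finTab_s_57_59 (c : Nat) : Nat := @Bool.rec (fun _ => Nat) (finTab_57) (finTab_58) (Nat.ble 58 c)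
noncomputable def finTab_s_55_59 (c : Nat) : Nat := @Bool.rec (fun _ => Nat) (finTab_s_55_57 c) (finTab_s_57_59 c) (Nat.ble 57 c)
noncomputable def finTab_s_51_59 (c : Nat) : Nat := @Bool.rec (fun _ => Nat) (finTab_s_51_55 c) (finTab_s_55_59 c) (Nat.ble 55 c)
noncomputable def finTab_s_44_59 (c : Nat) : Nat := @Bool.rec (fun _ => Nat) (finTab_s_44_51 c) (finTab_s_51_59 c) (Nat.ble 51 c)
noncomputable def finTab_s_29_59 (c : Nat) : Nat := @Bool.rec (fun _ => Nat) (finTab_s_29_44 c) (finTab_s_44_59 c) (Nat.ble 44 c)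
noncomputable def finTab_s_0_59 (c : Nat) : Nat := @Bool.rec (fun _ => Nat) (finTab_s_0_29 c) (finTab_s_29_59 c) (Nat.ble 29 c)
noncomputable def finTab_s_60_62 (c : Nat) : Nat := @Bool.rec (fun _ => Nat) (finTab_60) (finTab_61) (Nat.ble 61 c)
noncomputable def finTab_s_59_62 (c : Nat) : Nat := @Bool.rec (fun _ => Nat) (finTab_59) (finTab_s_60_62 c) (Nat.ble 60 c)
noncomputable def finTab_s_62_64 (c : Nat) : Nat := @Bool.rec (fun _ => Nat) (finTab_62) (finTab_63) (Nat.ble 63 c)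
noncomputable def finTab_s_64_66 (c : Nat) : Nat := @Bool.rec (fun _ => Nat) (finTab_64) (finTab_65) (Nat.ble 65 c)
noncomputable def finTab_s_62_66 (c : Nat) : Nat := @Bool.rec (fun _ => Nat) (finTab_s_62_64 c) (finTab_s_64_66 c) (Nat.ble 64 c)
noncomputable def finTab_s_59_66 (c : Nat) : Nat := @Bool.rec (fun _ => Nat) (finTab_s_59_62 c) (finTab_s_62_66 c) (Nat.ble 62 c)
noncomputable def finTab_s_66_68 (c : Nat) : Nat := @Bool.rec (fun _ => Nat) (finTab_66) (finTab_67) (Nat.ble 67 c)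
noncomputable def finTab_s_68_70 (c : Nat) : Nat := @Bool.rec (fun _ => Nat) (finTab_68) (finTab_69) (Nat.ble 69 c)
noncomputable def finTab_s_66_70 (c : Nat) : Nat := @Bool.rec (fun _ => Nat) (finTab_s_66_68 c) (finTab_s_68_70 c) (Nat.ble 68 c)
noncomputable def finTab_s_70_72 (c : Nat) : Nat := @Bool.rec (fun _ => Nat) (finTab_70) (finTab_71) (Nat.ble 71 c)
noncomputable def finTab_s_72_74 (c : Nat) : Nat := @Bool.rec (fun _ => Nat) (finTab_72) (finTab_73) (Nat.ble 73 c)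
noncomputable def finTab_s_70_74 (c : Nat) : Nat := @Bool.rec (fun _ => Nat) (finTab_s_70_72 c) (finTab_s_72_74 c) (Nat.ble 72 c)
noncomputable def finTab_s_66_74 (c : Nat) : Nat := @Bool.rec (fun _ => Nat) (finTab_s_66_70 c) (finTab_s_70_74 c) (Nat.ble 70 c)
noncomputable def finTab_s_59_74 (c : Nat) : Nat := @Bool.rec (fun _ => Nat) (finTab_s_59_66 c) (finTab_s_66_74 c) (Nat.ble 66 c)
noncomputable def finTab_s_75_77 (c : Nat) : Nat := @Bool.rec (fun _ => Nat) (finTab_75) (finTab_76) (Nat.ble 76 c)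
noncomputable def finTab_s_74_77 (c : Nat) : Nat := @Bool.rec (fun _ => Nat) (finTab_74) (finTab_s_75_77 c) (Nat.ble 75 c)
noncomputable def finTab_s_77_79 (c : Nat) : Nat := @Bool.rec (fun _ => Nat) (finTab_77) (finTab_78) (Nat.ble 78 c)
noncomputable def finTab_s_79_81 (c : Nat) : Nat := @Bool.rec (fun _ => Nat) (finTab_79) (finTab_80) (Nat.ble 80 c)
noncomputable def finTab_s_77_81 (c : Nat) : Nat := @Bool.rec (fun _ => Nat) (finTab_s_77_79 c) (finTab_s_79_81 c) (Nat.ble 79 c)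
noncomputable def finTab_s_74_81 (c : Nat) : Nat := @Bool.rec (fun _ => Nat) (finTab_s_74_77 c) (finTab_s_77_81 c) (Nat.ble 77 c)
noncomputable def finTab_s_81_83 (c : Nat) : Nat := @Bool.rec (fun _ => Nat) (finTab_81) (finTab_82) (Nat.ble 82 c)
noncomputable def finTab_s_83_85 (c : Nat) : Nat := @Bool.rec (fun _ => Nat) (finTab_83) (finTab_84) (Nat.ble 84 c)
noncomputable def finTab_s_81_85 (c : Nat) : Nat := @Bool.rec (fun _ => Nat) (finTab_s_81_83 c) (finTab_s_83_85 c) (Nat.ble 83 c)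
noncomputable def finTab_s_85_87 (c : Nat) : Nat := @Bool.rec (fun _ => Nat) (finTab_85) (finTab_86) (Nat.ble 86 c)
noncomputable def finTab_s_87_89 (c : Nat) : Nat := @Bool.rec (fun _ => Nat) (finTab_87) (finTab_88) (Nat.ble 88 c)
noncomputable def finTab_s_85_89 (c : Nat) : Nat := @Bool.rec (fun _ => Nat) (finTab_s_85_87 c) (finTab_s_87_89 c) (Nat.ble 87 c)
noncomputable def finTab_s_81_89 (c : Nat) : Nat := @Bool.rec (fun _ => Nat) (finTab_s_81_85 c) (finTab_s_85_89 c) (Nat.ble 85 c)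
noncomputable def finTab_s_74_89 (c : Nat) : Nat := @Bool.rec (fun _ => Nat) (finTab_s_74_81 c) (finTab_s_81_89 c) (Nat.ble 81 c)
noncomputable def finTab_s_59_89 (c : Nat) : Nat := @Bool.rec (fun _ => Nat) (finTab_s_59_74 c) (finTab_s_74_89 c) (Nat.ble 74 c)
noncomputable def finTab_s_90_92 (c : Nat) : Nat := @Bool.rec (fun _ => Nat) (finTab_90) (finTab_91) (Nat.ble 91 c)
noncomputable def finTab_s_89_92 (c : Nat) : Nat := @Bool.rec (fun _ => Nat) (finTab_89) (finTab_s_90_92 c) (Nat.ble 90 c)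
noncomputable def finTab_s_92_94 (c : Nat) : Nat := @Bool.rec (fun _ => Nat) (finTab_92) (finTab_93) (Nat.ble 93 c)
noncomputable def finTab_s_94_96 (c : Nat) : Nat := @Bool.rec (fun _ => Nat) (finTab_94) (finTab_95) (Nat.ble 95 c)
noncomputable def finTab_s_92_96 (c : Nat) : Nat := @Bool.rec (fun _ => Nat) (finTab_s_92_94 c) (finTab_s_94_96 c) (Nat.ble 94 c)
noncomputable def finTab_s_89_96 (c : Nat) : Nat := @Bool.rec (fun _ => Nat) (finTab_s_89_92 c) (finTab_s_92_96 c) (Nat.ble 92 c)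
noncomputable def finTab_s_96_98 (c : Nat) : Nat := @Bool.rec (fun _ => Nat) (finTab_96) (finTab_97) (Nat.ble 97 c)
noncomputable def finTab_s_98_100 (c : Nat) : Nat := @Bool.rec (fun _ => Nat) (finTab_98) (finTab_99) (Nat.ble 99 c)
noncomputable def finTab_s_96_100 (c : Nat) : Nat := @Bool.rec (fun _ => Nat) (finTab_s_96_98 c) (finTab_s_98_100 c) (Nat.ble 98 c)
noncomputable def finTab_s_100_102 (c : Nat) : Nat := @Bool.rec (fun _ => Nat) (finTab_100) (finTab_101) (Nat.ble 101 c)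
noncomputable def finTab_s_102_104 (c : Nat) : Nat := @Bool.rec (fun _ => Nat) (finTab_102) (finTab_103) (Nat.ble 103 c)
noncomputable def finTab_s_100_104 (c : Nat) : Nat := @Bool.rec (fun _ => Nat) (finTab_s_100_102 c) (finTab_s_102_104 c) (Nat.ble 102 c)
noncomputable def finTab_s_96_104 (c : Nat) : Nat := @Bool.rec (fun _ => Nat) (finTab_s_96_100 c) (finTab_s_100_104 c) (Nat.ble 100 c)
noncomputable def finTab_s_89_104 (c : Nat) : Nat := @Bool.rec (fun _ => Nat) (finTab_s_89_96 c) (finTab_s_96_104 c) (Nat.ble 96 c)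
noncomputable def finTab_s_105_107 (c : Nat) : Nat := @Bool.rec (fun _ => Nat) (finTab_105) (finTab_106) (Nat.ble 106 c)
noncomputable def finTab_s_104_107 (c : Nat) : Nat := @Bool.rec (fun _ => Nat) (finTab_104) (finTab_s_105_107 c) (Nat.ble 105 c)
noncomputable def finTab_s_107_109 (c : Nat) : Nat := @Bool.rec (fun _ => Nat) (finTab_107) (finTab_108) (Nat.ble 108 c)
noncomputable def finTab_s_109_111 (c : Nat) : Nat := @Bool.rec (fun _ => Nat) (finTab_109) (finTab_110) (Nat.ble 110 c)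
noncomputable def finTab_s_107_111 (c : Nat) : Nat := @Bool.rec (fun _ => Nat) (finTab_s_107_109 c) (finTab_s_109_111 c) (Nat.ble 109 c)
noncomputable def finTab_s_104_111 (c : Nat) : Nat := @Bool.rec (fun _ => Nat) (finTab_s_104_107 c) (finTab_s_107_111 c) (Nat.ble 107 c)
noncomputable def finTab_s_111_113 (c : Nat) : Nat := @Bool.rec (fun _ => Nat) (finTab_111) (finTab_112) (Nat.ble 112 c)
noncomputable def finTab_s_113_115 (c : Nat) : Nat := @Bool.rec (fun _ => Nat) (finTab_113) (finTab_114) (Nat.ble 114 c)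
noncomputable def finTab_s_111_115 (c : Nat) : Nat := @Bool.rec (fun _ => Nat) (finTab_s_111_113 c) (finTab_s_113_115 c) (Nat.ble 113 c)
noncomputable def finTab_s_115_117 (c : Nat) : Nat := @Bool.rec (fun _ => Nat) (finTab_115) (finTab_116) (Nat.ble 116 c)
noncomputable def finTab_s_117_119 (c : Nat) : Nat := @Bool.rec (fun _ => Nat) (finTab_117) (finTab_118) (Nat.ble 118 c)
noncomputable def finTab_s_115_119 (c : Nat) : Nat := @Bool.rec (fun _ => Nat) (finTab_s_115_117 c) (finTab_s_117_119 c) (Nat.ble 117 c)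
noncomputable def finTab_s_111_119 (c : Nat) : Nat := @Bool.rec (fun _ => Nat) (finTab_s_111_115 c) (finTab_s_115_119 c) (Nat.ble 115 c)
noncomputable def finTab_s_104_119 (c : Nat) : Nat := @Bool.rec (fun _ => Nat) (finTab_s_104_111 c) (finTab_s_111_119 c) (Nat.ble 111 c)
noncomputable def finTab_s_89_119 (c : Nat) : Nat := @Bool.rec (fun _ => Nat) (finTab_s_89_104 c) (finTab_s_104_119 c) (Nat.ble 104 c)
noncomputable def finTab_s_59_119 (c : Nat) : Nat := @Bool.rec (fun _ => Nat) (finTab_s_59_89 c) (finTab_s_89_119 c) (Nat.ble 89 c)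
noncomputable def finTab_s_0_119 (c : Nat) : Nat := @Bool.rec (fun _ => Nat) (finTab_s_0_59 c) (finTab_s_59_119 c) (Nat.ble 59 c)
noncomputable def finTab_s_120_122 (c : Nat) : Nat := @Bool.rec (fun _ => Nat) (finTab_120) (finTab_121) (Nat.ble 121 c)
noncomputable def finTab_s_119_122 (c : Nat) : Nat := @Bool.rec (fun _ => Nat) (finTab_119) (finTab_s_120_122 c) (Nat.ble 120 c)
noncomputable def finTab_s_122_124 (c : Nat) : Nat := @Bool.rec (fun _ => Nat) (finTab_122) (finTab_123) (Nat.ble 123 c)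
noncomputable def finTab_s_124_126 (c : Nat) : Nat := @Bool.rec (fun _ => Nat) (finTab_124) (finTab_125) (Nat.ble 125 c)
noncomputable def finTab_s_122_126 (c : Nat) : Nat := @Bool.rec (fun _ => Nat) (finTab_s_122_124 c) (finTab_s_124_126 c) (Nat.ble 124 c)
noncomputable def finTab_s_119_126 (c : Nat) : Nat := @Bool.rec (fun _ => Nat) (finTab_s_119_122 c) (finTab_s_122_126 c) (Nat.ble 122 c)
noncomputable def finTab_s_127_129 (c : Nat) : Nat := @Bool.rec (fun _ => Nat) (finTab_127) (finTab_128) (Nat.ble 128 c)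
noncomputable def finTab_s_126_129 (c : Nat) : Nat := @Bool.rec (fun _ => Nat) (finTab_126) (finTab_s_127_129 c) (Nat.ble 127 c)
noncomputable def finTab_s_129_131 (c : Nat) : Nat := @Bool.rec (fun _ => Nat) (finTab_129) (finTab_130) (Nat.ble 130 c)
noncomputable def finTab_s_131_133 (c : Nat) : Nat := @Bool.rec (fun _ => Nat) (finTab_131) (finTab_132) (Nat.ble 132 c)
noncomputable def finTab_s_129_133 (c : Nat) : Nat := @Bool.rec (fun _ => Nat) (finTab_s_129_131 c) (finTab_s_131_133 c) (Nat.ble 131 c)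
noncomputable def finTab_s_126_133 (c : Nat) : Nat := @Bool.rec (fun _ => Nat) (finTab_s_126_129 c) (finTab_s_129_133 c) (Nat.ble 129 c)
noncomputable def finTab_s_119_133 (c : Nat) : Nat := @Bool.rec (fun _ => Nat) (finTab_s_119_126 c) (finTab_s_126_133 c) (Nat.ble 126 c)
noncomputable def finTab_s_134_136 (c : Nat) : Nat := @Bool.rec (fun _ => Nat) (finTab_134) (finTab_135) (Nat.ble 135 c)
noncomputable def finTab_s_133_136 (c : Nat) : Nat := @Bool.rec (fun _ => Nat) (finTab_133) (finTab_s_134_136 c) (Nat.ble 134 c)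
noncomputable def finTab_s_136_138 (c : Nat) : Nat := @Bool.rec (fun _ => Nat) (finTab_136) (finTab_137) (Nat.ble 137 c)
noncomputable def finTab_s_138_140 (c : Nat) : Nat := @Bool.rec (fun _ => Nat) (finTab_138) (finTab_139) (Nat.ble 139 c)
noncomputable def finTab_s_136_140 (c : Nat) : Nat := @Bool.rec (fun _ => Nat) (finTab_s_136_138 c) (finTab_s_138_140 c) (Nat.ble 138 c)
noncomputable def finTab_s_133_140 (c : Nat) : Nat := @Bool.rec (fun _ => Nat) (finTab_s_133_136 c) (finTab_s_136_140 c) (Nat.ble 136 c)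
noncomputable def finTab_s_140_142 (c : Nat) : Nat := @Bool.rec (fun _ => Nat) (finTab_140) (finTab_141) (Nat.ble 141 c)
noncomputable def finTab_s_142_144 (c : Nat) : Nat := @Bool.rec (fun _ => Nat) (finTab_142) (finTab_143) (Nat.ble 143 c)
noncomputable def finTab_s_140_144 (c : Nat) : Nat := @Bool.rec (fun _ => Nat) (finTab_s_140_142 c) (finTab_s_142_144 c) (Nat.ble 142 c)
noncomputable def finTab_s_144_146 (c : Nat) : Nat := @Bool.rec (fun _ => Nat) (finTab_144) (finTab_145) (Nat.ble 145 c)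
noncomputable def finTab_s_146_148 (c : Nat) : Nat := @Bool.rec (fun _ => Nat) (finTab_146) (finTab_147) (Nat.ble 147 c)
noncomputable def finTab_s_144_148 (c : Nat) : Nat := @Bool.rec (fun _ => Nat) (finTab_s_144_146 c) (finTab_s_146_148 c) (Nat.ble 146 c)
noncomputable def finTab_s_140_148 (c : Nat) : Nat := @Bool.rec (fun _ => Nat) (finTab_s_140_144 c) (finTab_s_144_148 c) (Nat.ble 144 c)
noncomputable def finTab_s_133_148 (c : Nat) : Nat := @Bool.rec (fun _ => Nat) (finTab_s_133_140 c) (finTab_s_140_148 c) (Nat.ble 140 c)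
noncomputable def finTab_s_119_148 (c : Nat) : Nat := @Bool.rec (fun _ => Nat) (finTab_s_119_133 c) (finTab_s_133_148 c) (Nat.ble 133 c)
noncomputable def finTab_s_149_151 (c : Nat) : Nat := @Bool.rec (fun _ => Nat) (finTab_149) (finTab_150) (Nat.ble 150 c)
noncomputable def finTab_s_148_151 (c : Nat) : Nat := @Bool.rec (fun _ => Nat) (finTab_148) (finTab_s_149_151 c) (Nat.ble 149 c)
noncomputable def finTab_s_151_153 (c : Nat) : Nat := @Bool.rec (fun _ => Nat) (finTab_151) (finTab_152) (Nat.ble 152 c)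
noncomputable def finTab_s_153_155 (c : Nat) : Nat := @Bool.rec (fun _ => Nat) (finTab_153) (finTab_154) (Nat.ble 154 c)
noncomputable def finTab_s_151_155 (c : Nat) : Nat := @Bool.rec (fun _ => Nat) (finTab_s_151_153 c) (finTab_s_153_155 c) (Nat.ble 153 c)
noncomputable def finTab_s_148_155 (c : Nat) : Nat := @Bool.rec (fun _ => Nat) (finTab_s_148_151 c) (finTab_s_151_155 c) (Nat.ble 151 c)
noncomputable def finTab_s_155_157 (c : Nat) : Nat := @Bool.rec (fun _ => Nat) (finTab_155) (finTab_156) (Nat.ble 156 c)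
noncomputable def finTab_s_157_159 (c : Nat) : Nat := @Bool.rec (fun _ => Nat) (finTab_157) (finTab_158) (Nat.ble 158 c)
noncomputable def finTab_s_155_159 (c : Nat) : Nat := @Bool.rec (fun _ => Nat) (finTab_s_155_157 c) (finTab_s_157_159 c) (Nat.ble 157 c)
noncomputable def finTab_s_159_161 (c : Nat) : Nat := @Bool.rec (fun _ => Nat) (finTab_159) (finTab_160) (Nat.ble 160 c)
noncomputable def finTab_s_161_163 (c : Nat) : Nat := @Bool.rec (fun _ => Nat) (finTab_161) (finTab_162) (Nat.ble 162 c)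
noncomputable def finTab_s_159_163 (c : Nat) : Nat := @Bool.rec (fun _ => Nat) (finTab_s_159_161 c) (finTab_s_161_163 c) (Nat.ble 161 c)
noncomputable def finTab_s_155_163 (c : Nat) : Nat := @Bool.rec (fun _ => Nat) (finTab_s_155_159 c) (finTab_s_159_163 c) (Nat.ble 159 c)
noncomputable def finTab_s_148_163 (c : Nat) : Nat := @Bool.rec (fun _ => Nat) (finTab_s_148_155 c) (finTab_s_155_163 c) (Nat.ble 155 c)
noncomputable def finTab_s_164_166 (c : Nat) : Nat := @Bool.rec (fun _ => Nat) (finTab_164) (finTab_165) (Nat.ble 165 c)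
noncomputable def finTab_s_163_166 (c : Nat) : Nat := @Bool.rec (fun _ => Nat) (finTab_163) (finTab_s_164_166 c) (Nat.ble 164 c)
noncomputable def finTab_s_166_168 (c : Nat) : Nat := @Bool.rec (fun _ => Nat) (finTab_166) (finTab_167) (Nat.ble 167 c)
noncomputable def finTab_s_168_170 (c : Nat) : Nat := @Bool.rec (fun _ => Nat) (finTab_168) (finTab_169) (Nat.ble 169 c)
noncomputable def finTab_s_166_170 (c : Nat) : Nat := @Bool.rec (fun _ => Nat) (finTab_s_166_168 c) (finTab_s_168_170 c) (Nat.ble 168 c)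
noncomputable def finTab_s_163_170 (c : Nat) : Nat := @Bool.rec (fun _ => Nat) (finTab_s_163_166 c) (finTab_s_166_170 c) (Nat.ble 166 c)
noncomputable def finTab_s_170_172 (c : Nat) : Nat := @Bool.rec (fun _ => Nat) (finTab_170) (finTab_171) (Nat.ble 171 c)
noncomputable def finTab_s_172_174 (c : Nat) : Nat := @Bool.rec (fun _ => Nat) (finTab_172) (finTab_173) (Nat.ble 173 c)
noncomputable def finTab_s_170_174 (c : Nat) : Nat := @Bool.rec (fun _ => Nat) (finTab_s_170_172 c) (finTab_s_172_174 c) (Nat.ble 172 c)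
noncomputable def finTab_s_174_176 (c : Nat) : Nat := @Bool.rec (fun _ => Nat) (finTab_174) (finTab_175) (Nat.ble 175 c)
noncomputable def finTab_s_176_178 (c : Nat) : Nat := @Bool.rec (fun _ => Nat) (finTab_176) (finTab_177) (Nat.ble 177 c)
noncomputable def finTab_s_174_178 (c : Nat) : Nat := @Bool.rec (fun _ => Nat) (finTab_s_174_176 c) (finTab_s_176_178 c) (Nat.ble 176 c)
noncomputable def finTab_s_170_178 (c : Nat) : Nat := @Bool.rec (fun _ => Nat) (finTab_s_170_174 c) (finTab_s_174_178 c) (Nat.ble 174 c)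
noncomputable def finTab_s_163_178 (c : Nat) : Nat := @Bool.rec (fun _ => Nat) (finTab_s_163_170 c) (finTab_s_170_178 c) (Nat.ble 170 c)
noncomputable def finTab_s_148_178 (c : Nat) : Nat := @Bool.rec (fun _ => Nat) (finTab_s_148_163 c) (finTab_s_163_178 c) (Nat.ble 163 c)
noncomputable def finTab_s_119_178 (c : Nat) : Nat := @Bool.rec (fun _ => Nat) (finTab_s_119_148 c) (finTab_s_148_178 c) (Nat.ble 148 c)
noncomputable def finTab_s_179_181 (c : Nat) : Nat := @Bool.rec (fun _ => Nat) (finTab_179) (finTab_180) (Nat.ble 180 c)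
noncomputable def finTab_s_178_181 (c : Nat) : Nat := @Bool.rec (fun _ => Nat) (finTab_178) (finTab_s_179_181 c) (Nat.ble 179 c)
noncomputable def finTab_s_181_183 (c : Nat) : Nat := @Bool.rec (fun _ => Nat) (finTab_181) (finTab_182) (Nat.ble 182 c)
noncomputable def finTab_s_183_185 (c : Nat) : Nat := @Bool.rec (fun _ => Nat) (finTab_183) (finTab_184) (Nat.ble 184 c)
noncomputable def finTab_s_181_185 (c : Nat) : Nat := @Bool.rec (fun _ => Nat) (finTab_s_181_183 c) (finTab_s_183_185 c) (Nat.ble 183 c)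
noncomputable def finTab_s_178_185 (c : Nat) : Nat := @Bool.rec (fun _ => Nat) (finTab_s_178_181 c) (finTab_s_181_185 c) (Nat.ble 181 c)
noncomputable def finTab_s_185_187 (c : Nat) : Nat := @Bool.rec (fun _ => Nat) (finTab_185) (finTab_186) (Nat.ble 186 c)
noncomputable def finTab_s_187_189 (c : Nat) : Nat := @Bool.rec (fun _ => Nat) (finTab_187) (finTab_188) (Nat.ble 188 c)
noncomputable def finTab_s_185_189 (c : Nat) : Nat := @Bool.rec (fun _ => Nat) (finTab_s_185_187 c) (finTab_s_187_189 c) (Nat.ble 187 c)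
noncomputable def finTab_s_189_191 (c : Nat) : Nat := @Bool.rec (fun _ => Nat) (finTab_189) (finTab_190) (Nat.ble 190 c)
noncomputable def finTab_s_191_193 (c : Nat) : Nat := @Bool.rec (fun _ => Nat) (finTab_191) (finTab_192) (Nat.ble 192 c)
noncomputable def finTab_s_189_193 (c : Nat) : Nat := @Bool.rec (fun _ => Nat) (finTab_s_189_191 c) (finTab_s_191_193 c) (Nat.ble 191 c)
noncomputable def finTab_s_185_193 (c : Nat) : Nat := @Bool.rec (fun _ => Nat) (finTab_s_185_189 c) (finTab_s_189_193 c) (Nat.ble 189 c)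
noncomputable def finTab_s_178_193 (c : Nat) : Nat := @Bool.rec (fun _ => Nat) (finTab_s_178_185 c) (finTab_s_185_193 c) (Nat.ble 185 c)
noncomputable def finTab_s_194_196 (c : Nat) : Nat := @Bool.rec (fun _ => Nat) (finTab_194) (finTab_195) (Nat.ble 195 c)
noncomputable def finTab_s_193_196 (c : Nat) : Nat := @Bool.rec (fun _ => Nat) (finTab_193) (finTab_s_194_196 c) (Nat.ble 194 c)
noncomputable def finTab_s_196_198 (c : Nat) : Nat := @Bool.rec (fun _ => Nat) (finTab_196) (finTab_197) (Nat.ble 197 c)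
noncomputable def finTab_s_198_200 (c : Nat) : Nat := @Bool.rec (fun _ => Nat) (finTab_198) (finTab_199) (Nat.ble 199 c)
noncomputable def finTab_s_196_200 (c : Nat) : Nat := @Bool.rec (fun _ => Nat) (finTab_s_196_198 c) (finTab_s_198_200 c) (Nat.ble 198 c)
noncomputable def finTab_s_193_200 (c : Nat) : Nat := @Bool.rec (fun _ => Nat) (finTab_s_193_196 c) (finTab_s_196_200 c) (Nat.ble 196 c)
noncomputable def finTab_s_200_202 (c : Nat) : Nat := @Bool.rec (fun _ => Nat) (finTab_200) (finTab_201) (Nat.ble 201 c)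
noncomputable def finTab_s_202_204 (c : Nat) : Nat := @Bool.rec (fun _ => Nat) (finTab_202) (finTab_203) (Nat.ble 203 c)
noncomputable def finTab_s_200_204 (c : Nat) : Nat := @Bool.rec (fun _ => Nat) (finTab_s_200_202 c) (finTab_s_202_204 c) (Nat.ble 202 c)
noncomputable def finTab_s_204_206 (c : Nat) : Nat := @Bool.rec (fun _ => Nat) (finTab_204) (finTab_205) (Nat.ble 205 c)
noncomputable def finTab_s_206_208 (c : Nat) : Nat := @Bool.rec (fun _ => Nat) (finTab_206) (finTab_207) (Nat.ble 207 c)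
noncomputable def finTab_s_204_208 (c : Nat) : Nat := @Bool.rec (fun _ => Nat) (finTab_s_204_206 c) (finTab_s_206_208 c) (Nat.ble 206 c)
noncomputable def finTab_s_200_208 (c : Nat) : Nat := @Bool.rec (fun _ => Nat) (finTab_s_200_204 c) (finTab_s_204_208 c) (Nat.ble 204 c)
noncomputable def finTab_s_193_208 (c : Nat) : Nat := @Bool.rec (fun _ => Nat) (finTab_s_193_200 c) (finTab_s_200_208 c) (Nat.ble 200 c)
noncomputable def finTab_s_178_208 (c : Nat) : Nat := @Bool.rec (fun _ => Nat) (finTab_s_178_193 c) (finTab_s_193_208 c) (Nat.ble 193 c)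
noncomputable def finTab_s_209_211 (c : Nat) : Nat := @Bool.rec (fun _ => Nat) (finTab_209) (finTab_210) (Nat.ble 210 c)
noncomputable def finTab_s_208_211 (c : Nat) : Nat := @Bool.rec (fun _ => Nat) (finTab_208) (finTab_s_209_211 c) (Nat.ble 209 c)
noncomputable def finTab_s_211_213 (c : Nat) : Nat := @Bool.rec (fun _ => Nat) (finTab_211) (finTab_212) (Nat.ble 212 c)
noncomputable def finTab_s_213_215 (c : Nat) : Nat := @Bool.rec (fun _ => Nat) (finTab_213) (finTab_214) (Nat.ble 214 c)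
noncomputable def finTab_s_211_215 (c : Nat) : Nat := @Bool.rec (fun _ => Nat) (finTab_s_211_213 c) (finTab_s_213_215 c) (Nat.ble 213 c)
noncomputable def finTab_s_208_215 (c : Nat) : Nat := @Bool.rec (fun _ => Nat) (finTab_s_208_211 c) (finTab_s_211_215 c) (Nat.ble 211 c)
noncomputable def finTab_s_215_217 (c : Nat) : Nat := @Bool.rec (fun _ => Nat) (finTab_215) (finTab_216) (Nat.ble 216 c)
noncomputable def finTab_s_217_219 (c : Nat) : Nat := @Bool.rec (fun _ => Nat) (finTab_217) (finTab_218) (Nat.ble 218 c)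
noncomputable def finTab_s_215_219 (c : Nat) : Nat := @Bool.rec (fun _ => Nat) (finTab_s_215_217 c) (finTab_s_217_219 c) (Nat.ble 217 c)
noncomputable def finTab_s_219_221 (c : Nat) : Nat := @Bool.rec (fun _ => Nat) (finTab_219) (finTab_220) (Nat.ble 220 c)
noncomputable def finTab_s_221_223 (c : Nat) : Nat := @Bool.rec (fun _ => Nat) (finTab_221) (finTab_222) (Nat.ble 222 c)
noncomputable def finTab_s_219_223 (c : Nat) : Nat := @Bool.rec (fun _ => Nat) (finTab_s_219_221 c) (finTab_s_221_223 c) (Nat.ble 221 c)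
noncomputable def finTab_s_215_223 (c : Nat) : Nat := @Bool.rec (fun _ => Nat) (finTab_s_215_219 c) (finTab_s_219_223 c) (Nat.ble 219 c)
noncomputable def finTab_s_208_223 (c : Nat) : Nat := @Bool.rec (fun _ => Nat) (finTab_s_208_215 c) (finTab_s_215_223 c) (Nat.ble 215 c)
noncomputable def finTab_s_224_226 (c : Nat) : Nat := @Bool.rec (fun _ => Nat) (finTab_224) (finTab_225) (Nat.ble 225 c)
noncomputable def finTab_s_223_226 (c : Nat) : Nat := @Bool.rec (fun _ => Nat) (finTab_223) (finTab_s_224_226 c) (Nat.ble 224 c)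
noncomputable def finTab_s_226_228 (c : Nat) : Nat := @Bool.rec (fun _ => Nat) (finTab_226) (finTab_227) (Nat.ble 227 c)
noncomputable def finTab_s_228_230 (c : Nat) : Nat := @Bool.rec (fun _ => Nat) (finTab_228) (finTab_229) (Nat.ble 229 c)
noncomputable def finTab_s_226_230 (c : Nat) : Nat := @Bool.rec (fun _ => Nat) (finTab_s_226_228 c) (finTab_s_228_230 c) (Nat.ble 228 c)
noncomputable def finTab_s_223_230 (c : Nat) : Nat := @Bool.rec (fun _ => Nat) (finTab_s_223_226 c) (finTab_s_226_230 c) (Nat.ble 226 c)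
noncomputable def finTab_s_230_232 (c : Nat) : Nat := @Bool.rec (fun _ => Nat) (finTab_230) (finTab_231) (Nat.ble 231 c)
noncomputable def finTab_s_232_234 (c : Nat) : Nat := @Bool.rec (fun _ => Nat) (finTab_232) (finTab_233) (Nat.ble 233 c)
noncomputable def finTab_s_230_234 (c : Nat) : Nat := @Bool.rec (fun _ => Nat) (finTab_s_230_232 c) (finTab_s_232_234 c) (Nat.ble 232 c)
noncomputable def finTab_s_234_236 (c : Nat) : Nat := @Bool.rec (fun _ => Nat) (finTab_234) (finTab_235) (Nat.ble 235 c)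
noncomputable def finTab_s_236_238 (c : Nat) : Nat := @Bool.rec (fun _ => Nat) (finTab_236) (finTab_237) (Nat.ble 237 c)
noncomputable def finTab_s_234_238 (c : Nat) : Nat := @Bool.rec (fun _ => Nat) (finTab_s_234_236 c) (finTab_s_236_238 c) (Nat.ble 236 c)
noncomputable def finTab_s_230_238 (c : Nat) : Nat := @Bool.rec (fun _ => Nat) (finTab_s_230_234 c) (finTab_s_234_238 c) (Nat.ble 234 c)
noncomputable def finTab_s_223_238 (c : Nat) : Nat := @Bool.rec (fun _ => Nat) (finTab_s_223_230 c) (finTab_s_230_238 c) (Nat.ble 230 c)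
noncomputable def finTab_s_208_238 (c : Nat) : Nat := @Bool.rec (fun _ => Nat) (finTab_s_208_223 c) (finTab_s_223_238 c) (Nat.ble 223 c)
noncomputable def finTab_s_178_238 (c : Nat) : Nat := @Bool.rec (fun _ => Nat) (finTab_s_178_208 c) (finTab_s_208_238 c) (Nat.ble 208 c)
noncomputable def finTab_s_119_238 (c : Nat) : Nat := @Bool.rec (fun _ => Nat) (finTab_s_119_178 c) (finTab_s_178_238 c) (Nat.ble 178 c)
noncomputable def finTab_s_0_238 (c : Nat) : Nat := @Bool.rec (fun _ => Nat) (finTab_s_0_119 c) (finTab_s_119_238 c) (Nat.ble 119 c)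
noncomputable def finTab (i : Nat) : Nat := rdw 21 2097151 (finTab_s_0_238 (Nat.shiftRight i 12)) (Nat.land i 4095)
noncomputable def clsTab_s_0_2 (c : Nat) : Nat := @Bool.rec (fun _ => Nat) (clsTab_0) (clsTab_1) (Nat.ble 1 c)
noncomputable def clsTab_s_3_5 (c : Nat) : Nat := @Bool.rec (fun _ => Nat) (clsTab_3) (clsTab_4) (Nat.ble 4 c)
noncomputable def clsTab_s_2_5 (c : Nat) : Nat := @Bool.rec (fun _ => Nat) (clsTab_2) (clsTab_s_3_5 c) (Nat.ble 3 c)
noncomputable def clsTab_s_0_5 (c : Nat) : Nat := @Bool.rec (fun _ => Nat) (clsTab_s_0_2 c) (clsTab_s_2_5 c) (Nat.ble 2 c)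
noncomputable def clsTab_s_5_7 (c : Nat) : Nat := @Bool.rec (fun _ => Nat) (clsTab_5) (clsTab_6) (Nat.ble 6 c)
noncomputable def clsTab_s_8_10 (c : Nat) : Nat := @Bool.rec (fun _ => Nat) (clsTab_8) (clsTab_9) (Nat.ble 9 c)
noncomputable def clsTab_s_7_10 (c : Nat) : Nat := @Bool.rec (fun _ => Nat) (clsTab_7) (clsTab_s_8_10 c) (Nat.ble 8 c)
noncomputable def clsTab_s_5_10 (c : Nat) : Nat := @Bool.rec (fun _ => Nat) (clsTab_s_5_7 c) (clsTab_s_7_10 c) (Nat.ble 7 c)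
noncomputable def clsTab_s_0_10 (c : Nat) : Nat := @Bool.rec (fun _ => Nat) (clsTab_s_0_5 c) (clsTab_s_5_10 c) (Nat.ble 5 c)
noncomputable def clsTab_s_10_12 (c : Nat) : Nat := @Bool.rec (fun _ => Nat) (clsTab_10) (clsTab_11) (Nat.ble 11 c)
noncomputable def clsTab_s_13_15 (c : Nat) : Nat := @Bool.rec (fun _ => Nat) (clsTab_13) (clsTab_14) (Nat.ble 14 c)
noncomputable def clsTab_s_12_15 (c : Nat) : Nat := @Bool.rec (fun _ => Nat) (clsTab_12) (clsTab_s_13_15 c) (Nat.ble 13 c)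
noncomputable def clsTab_s_10_15 (c : Nat) : Nat := @Bool.rec (fun _ => Nat) (clsTab_s_10_12 c) (clsTab_s_12_15 c) (Nat.ble 12 c)
noncomputable def clsTab_s_15_17 (c : Nat) : Nat := @Bool.rec (fun _ => Nat) (clsTab_15) (clsTab_16) (Nat.ble 16 c)
noncomputable def clsTab_s_18_20 (c : Nat) : Nat := @Bool.rec (fun _ => Nat) (clsTab_18) (clsTab_19) (Nat.ble 19 c)
noncomputable def clsTab_s_17_20 (c : Nat) : Nat := @Bool.rec (fun _ => Nat) (clsTab_17) (clsTab_s_18_20 c) (Nat.ble 18 c)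
noncomputable def clsTab_s_15_20 (c : Nat) : Nat := @Bool.rec (fun _ => Nat) (clsTab_s_15_17 c) (clsTab_s_17_20 c) (Nat.ble 17 c)
noncomputable def clsTab_s_10_20 (c : Nat) : Nat := @Bool.rec (fun _ => Nat) (clsTab_s_10_15 c) (clsTab_s_15_20 c) (Nat.ble 15 c)
noncomputable def clsTab_s_0_20 (c : Nat) : Nat := @Bool.rec (fun _ => Nat) (clsTab_s_0_10 c) (clsTab_s_10_20 c) (Nat.ble 10 c)
noncomputable def clsTab (i : Nat) : Nat := rdw 16 65535 (clsTab_s_0_20 (Nat.shiftRight i 12)) (Nat.land i 4095)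
noncomputable def oparTab_s_1_3 (c : Nat) : Nat := @Bool.rec (fun _ => Nat) (oparTab_1) (oparTab_2) (Nat.ble 2 c)
noncomputable def oparTab_s_0_3 (c : Nat) : Nat := @Bool.rec (fun _ => Nat) (oparTab_0) (oparTab_s_1_3 c) (Nat.ble 1 c)
noncomputable def oparTab_s_4_6 (c : Nat) : Nat := @Bool.rec (fun _ => Nat) (oparTab_4) (oparTab_5) (Nat.ble 5 c)
noncomputable def oparTab_s_3_6 (c : Nat) : Nat := @Bool.rec (fun _ => Nat) (oparTab_3) (oparTab_s_4_6 c) (Nat.ble 4 c)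
noncomputable def oparTab_s_0_6 (c : Nat) : Nat := @Bool.rec (fun _ => Nat) (oparTab_s_0_3 c) (oparTab_s_3_6 c) (Nat.ble 3 c)
noncomputable def oparTab_s_7_9 (c : Nat) : Nat := @Bool.rec (fun _ => Nat) (oparTab_7) (oparTab_8) (Nat.ble 8 c)
noncomputable def oparTab_s_6_9 (c : Nat) : Nat := @Bool.rec (fun _ => Nat) (oparTab_6) (oparTab_s_7_9 c) (Nat.ble 7 c)
noncomputable def oparTab_s_10_12 (c : Nat) : Nat := @Bool.rec (fun _ => Nat) (oparTab_10) (oparTab_11) (Nat.ble 11 c)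
noncomputable def oparTab_s_9_12 (c : Nat) : Nat := @Bool.rec (fun _ => Nat) (oparTab_9) (oparTab_s_10_12 c) (Nat.ble 10 c)
noncomputable def oparTab_s_6_12 (c : Nat) : Nat := @Bool.rec (fun _ => Nat) (oparTab_s_6_9 c) (oparTab_s_9_12 c) (Nat.ble 9 c)
noncomputable def oparTab_s_0_12 (c : Nat) : Nat := @Bool.rec (fun _ => Nat) (oparTab_s_0_6 c) (oparTab_s_6_12 c) (Nat.ble 6 c)
noncomputable def oparTab (i : Nat) : Nat := rdw 16 65535 (oparTab_s_0_12 (Nat.shiftRight i 12)) (Nat.land i 4095)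
noncomputable def olabTab_s_0_2 (c : Nat) : Nat := @Bool.rec (fun _ => Nat) (olabTab_0) (olabTab_1) (Nat.ble 1 c)
noncomputable def olabTab (i : Nat) : Nat := rdw 2 3 (olabTab_s_0_2 (Nat.shiftRight i 15)) (Nat.land i 32767)
noncomputable def srcF (t : Nat) : Nat := Nat.land (Atab t) 131071
noncomputable def tgtF (t : Nat) : Nat := Nat.land (Nat.shiftRight (Atab t) 17) 131071
noncomputable def ltF (t : Nat) : Nat := Nat.shiftRight (Atab t) 34
noncomputable def rhoF (t : Nat) : Nat := Nat.land (Btab (Nat.sub t 81791)) 255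
noncomputable def rotF (t : Nat) : Nat := Nat.land (Nat.shiftRight (Btab (Nat.sub t 81791)) 8) 31
noncomputable def lenF (t : Nat) : Nat := Nat.land (Nat.shiftRight (Btab (Nat.sub t 81791)) 13) 63
noncomputable def offF (t : Nat) : Nat := Nat.shiftRight (Btab (Nat.sub t 81791)) 19
noncomputable def pfF (j : Nat) : Nat := Nat.shiftRight (Ptab j) 1
noncomputable def pdF (j : Nat) : Nat := Nat.land (Ptab j) 1
noncomputable def tblF (i x : Nat) : Nat := @Bool.rec (fun _ => Nat) (@Bool.rec (fun _ => Nat) (@Bool.rec (fun _ => Nat) (@Bool.rec (fun _ => Nat) (col0 i) (col1 i) (Nat.ble 1 x)) (@Bool.rec (fun _ => Nat) (col2 i) (@Bool.rec (fun _ => Nat) (col3 i) (col4 i) (Nat.ble 4 x)) (Nat.ble 3 x)) (Nat.ble 2 x)) (@Bool.rec (fun _ => Nat) (@Bool.rec (fun _ => Nat) (col5 i) (col6 i) (Nat.ble 6 x)) (@Bool.rec (fun _ => Nat) (col7 i) (@Bool.rec (fun _ => Nat) (col8 i) (col9 i) (Nat.ble 9 x)) (Nat.ble 8 x)) (Nat.ble 7 x))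 (Nat.ble 5 x)) (@Bool.rec (fun _ => Nat) (@Bool.rec (fun _ => Nat) (@Bool.rec (fun _ => Nat) (col10 i) (col11 i) (Nat.ble 11 x)) (@Bool.rec (fun _ => Nat) (col12 i) (@Bool.rec (fun _ => Nat) (col13 i) (col14 i) (Nat.ble 14 x)) (Nat.ble 13 x)) (Nat.ble 12 x)) (@Bool.rec (fun _ => Nat) (@Bool.rec (fun _ => Nat) (col15 i) (col16 i) (Nat.ble 16 x)) (@Bool.rec (fun _ => Nat) (col17 i) (@Bool.rec (fun _ => Nat) (col18 i) (col19 i) (Nat.ble 19 x)) (Nat.ble 18 x)) (Nat.ble 17 x)) (Nat.ble 15 x)) (Nat.ble 10 x)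
noncomputable def finE (i x : Nat) : Nat := finTab (Nat.add (Nat.mul i 20) x)
noncomputable def finFF (i x : Nat) : Nat := Nat.shiftRight (finE i x) 1
noncomputable def finDF (i x : Nat) : Nat := Nat.land (finE i x) 1

noncomputable def D : Log :=
  { k := 20, inv := invE 20 PSCo3pp2.invR, nR := 162, rBase := rBtab, rLen := rLtab, RR := RRtab,
    M := 81785, nB := 6, F := 654542, src := srcF, lt := ltF, tgt := tgtF, rho := rhoF, rot := rotF,
    off := offF, len := lenF, pf := pfF, pd := pdF }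

noncomputable def T : Tab :=
  { N := 48600, nameOf := nameTab, tbl := tblF, finF := finFF, finD := finDF, cls := clsTab }

def subs : List (List Nat) := [
  [0],
  [2],
  [4] ]

def rw0 : List Nat := [0, 0]
def rw1 : List Nat := [2, 2, 2, 2]
def rw2 : List Nat := [4, 4, 4, 4, 4, 4, 4, 4, 4, 4, 4, 4, 4, 4, 4, 4, 4, 4, 4, 4, 4, 4, 4]
def rw3 : List Nat := [6, 6, 6, 6, 6]
def rw4 : List Nat := [9, 6, 0]
def rw5 : List Nat := [11, 8, 8]
def rw6 : List Nat := [13, 0, 2, 0, 2, 2, 0, 2, 0, 2, 2, 0, 2, 5, 0, 8, 5, 8, 5, 0, 8, 3]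
def rw7 : List Nat := [15, 0, 2, 0, 2, 5, 3, 5, 0, 8, 5, 0, 4, 8, 2, 2, 0, 2, 2, 0, 3, 0, 2, 2]
def rw8 : List Nat := [17, 0, 2, 0, 3, 3, 0, 2, 0, 3, 3, 0, 8, 5, 2, 5, 0, 3, 3, 8, 0, 4, 4, 2, 5]
def rw9 : List Nat := [19, 0, 2, 0, 2, 0, 3, 3, 0, 3, 3, 8, 4, 0, 3, 5, 0, 8, 3, 4, 3, 5, 0, 4, 3, 3, 0, 3]
def rw10 : List Nat := [10, 10]
def rw11 : List Nat := [12, 12]
def rw12 : List Nat := [14, 14]
def rw13 : List Nat := [16, 16]
def rw14 : List Nat := [18, 18]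
def rw15 : List Nat := [10, 0, 11, 1]
def rw16 : List Nat := [10, 2, 11, 3]
def rw17 : List Nat := [10, 4, 11, 5]
def rw18 : List Nat := [10, 6, 11, 7]
def rw19 : List Nat := [10, 8, 11, 9]
def rw20 : List Nat := [12, 0, 13, 1]
def rw21 : List Nat := [12, 2, 13, 3]
def rw22 : List Nat := [12, 4, 13, 5]
def rw23 : List Nat := [12, 6, 13, 7]
def rw24 : List Nat := [12, 8, 13, 9]
def rw25 : List Nat := [14, 0, 15, 1]
def rw26 : List Nat := [14, 2, 15, 3]
def rw27 : List Nat := [14, 4, 15, 5]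
def rw28 : List Nat := [14, 6, 15, 7]
def rw29 : List Nat := [14, 8, 15, 9]
def rw30 : List Nat := [16, 0, 17, 1]
def rw31 : List Nat := [16, 2, 17, 3]
def rw32 : List Nat := [16, 4, 17, 5]
def rw33 : List Nat := [16, 6, 17, 7]
def rw34 : List Nat := [16, 8, 17, 9]
def rw35 : List Nat := [18, 0, 19, 1]
def rw36 : List Nat := [18, 2, 19, 3]
def rw37 : List Nat := [18, 4, 19, 5]
def rw38 : List Nat := [18, 6, 19, 7]
def rw39 : List Nat := [18, 8, 19, 9]
def rw40 : List Nat := [0, 0]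
def rw41 : List Nat := [2, 2, 2, 2]
def rw42 : List Nat := [0, 2, 0, 2, 0, 2, 0, 2, 0, 2, 0, 2, 0, 2, 0, 2, 0, 2, 0, 2, 0, 2]
def rw43 : List Nat := [0, 2, 2, 0, 2, 2, 0, 2, 2, 0, 2, 2, 0, 2, 2, 0, 2, 2]
def rw44 : List Nat := [0, 2, 0, 2, 0, 3, 0, 2, 0, 2, 2, 0, 3, 0, 2, 0, 3, 0, 3]
def rw45 : List Nat := [4, 4, 4, 4, 4, 4, 4, 4, 4, 4, 4, 4, 4, 4, 4, 4, 4, 4, 4, 4, 4, 4, 4]
def rw46 : List Nat := [0, 2, 4, 3, 1, 5, 5]
def rw47 : List Nat := [0, 4, 0, 4, 3, 4, 0, 4, 4, 3, 5, 5]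
def rw48 : List Nat := [0, 4, 0, 5, 0, 4, 0, 5, 1, 4, 1, 5]
def rw49 : List Nat := [0, 2, 0, 4, 4, 2, 0, 4, 4, 2, 5, 3, 5, 2, 2]
def rw50 : List Nat := [0, 2, 5, 0, 4, 2, 5, 5, 1, 5, 1, 4, 2, 2, 5]
def rw51 : List Nat := [0, 3, 5, 1, 4, 3, 4, 3, 3, 5, 0, 4, 3, 4, 3]
def rw52 : List Nat := [8, 4, 0, 4, 3, 4, 4, 4, 2, 4, 3, 9, 5, 3, 3, 4, 3, 4, 2, 1, 3, 3]
def rw53 : List Nat := [8, 5, 2, 2, 5, 5, 3, 5, 2, 5, 9, 4, 2, 4, 2, 4, 1, 3, 3, 1, 2, 1]
def rw54 : List Nat := [8, 5, 2, 5, 0, 3, 3, 9, 1, 4, 4, 2, 5, 1, 2, 1, 3, 3, 1, 2, 1, 3, 3, 1]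
def rw55 : List Nat := [8, 0, 3, 4, 2, 2, 4, 3, 9, 2, 4, 2, 1, 3, 5, 2, 1, 2, 1, 2, 1, 3, 1, 2]
def rw56 : List Nat := [8, 3, 4, 2, 5, 5, 5, 3, 4, 0, 9, 5, 5, 5, 1, 4, 1, 2, 1, 2, 1, 2, 1, 3]
def rw57 : List Nat := [8, 2, 2, 0, 3, 4, 3, 3, 4, 2, 9, 2, 4, 2, 4, 4, 3, 1, 3, 3, 1, 2, 1, 3, 3]
def realLit : List (List Nat) := [rw0, rw1, rw2, rw3, rw4, rw5, rw6, rw7, rw8, rw9, rw10, rw11, rw12, rw13, rw14, rw15, rw16, rw17, rw18, rw19, rw20, rw21, rw22, rw23, rw24, rw25, rw26, rw27, rw28, rw29, rw30, rw31, rw32, rw33, rw34, rw35, rw36, rw37, rw38, rw39, rw40, rw41, rw42, rw43, rw44, rw45, rw46, rw47, rw48, rw49, rw50, rw51, rw52, rw53, rw54, rw55, rw56, rw57]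
noncomputable def actR0 (i : Nat) : Nat := col1 (col1 (i))
theorem actR0_eq (i : Nat) : actR0 i = Tab.act T D rw0 i := rfl
noncomputable def actR1 (i : Nat) : Nat := col3 (col3 (col3 (col3 (i))))
theorem actR1_eq (i : Nat) : actR1 i = Tab.act T D rw1 i := rfl
noncomputable def actR2 (i : Nat) : Nat := col5 (col5 (col5 (col5 (col5 (col5 (col5 (col5 (col5 (col5 (col5 (col5 (col5 (col5 (col5 (col5 (col5 (col5 (col5 (col5 (col5 (col5 (col5 (i)))))))))))))))))))))))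
theorem actR2_eq (i : Nat) : actR2 i = Tab.act T D rw2 i := rfl
noncomputable def actR3 (i : Nat) : Nat := col7 (col7 (col7 (col7 (col7 (i)))))
theorem actR3_eq (i : Nat) : actR3 i = Tab.act T D rw3 i := rfl
noncomputable def actR4 (i : Nat) : Nat := col8 (col7 (col1 (i)))
theorem actR4_eq (i : Nat) : actR4 i = Tab.act T D rw4 i := rfl
noncomputable def actR5 (i : Nat) : Nat := col10 (col9 (col9 (i)))
theorem actR5_eq (i : Nat) : actR5 i = Tab.act T D rw5 i := rfl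
noncomputable def actR6 (i : Nat) : Nat := col12 (col1 (col3 (col1 (col3 (col3 (col1 (col3 (col1 (col3 (col3 (col1 (col3 (col4 (col1 (col9 (col4 (col9 (col4 (col1 (col9 (col2 (i))))))))))))))))))))))
theorem actR6_eq (i : Nat) : actR6 i = Tab.act T D rw6 i := rfl
noncomputable def actR7 (i : Nat) : Nat := col14 (col1 (col3 (col1 (col3 (col4 (col2 (col4 (col1 (col9 (col4 (col1 (col5 (col9 (col3 (col3 (col1 (col3 (col3 (col1 (col2 (col1 (col3 (col3 (i))))))))))))))))))))))))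
theorem actR7_eq (i : Nat) : actR7 i = Tab.act T D rw7 i := rfl
noncomputable def actR8 (i : Nat) : Nat := col16 (col1 (col3 (col1 (col2 (col2 (col1 (col3 (col1 (col2 (col2 (col1 (col9 (col4 (col3 (col4 (col1 (col2 (col2 (col9 (col1 (col5 (col5 (col3 (col4 (i)))))))))))))))))))))))))
theorem actR8_eq (i : Nat) : actR8 i = Tab.act T D rw8 i := rfl
noncomputable def actR9 (i : Nat) : Nat := col18 (col1 (col3 (col1 (col3 (col1 (col2 (col2 (col1 (col2 (col2 (col9 (col5 (col1 (col2 (col4 (col1 (col9 (col2 (col5 (col2 (col4 (col1 (col5 (col2 (col2 (col1 (col2 (i))))))))))))))))))))))))))))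
theorem actR9_eq (i : Nat) : actR9 i = Tab.act T D rw9 i := rfl
noncomputable def actR10 (i : Nat) : Nat := col11 (col11 (i))
theorem actR10_eq (i : Nat) : actR10 i = Tab.act T D rw10 i := rfl
noncomputable def actR11 (i : Nat) : Nat := col13 (col13 (i))
theorem actR11_eq (i : Nat) : actR11 i = Tab.act T D rw11 i := rfl
noncomputable def actR12 (i : Nat) : Nat := col15 (col15 (i))
theorem actR12_eq (i : Nat) : actR12 i = Tab.act T D rw12 i := rfl
noncomputable def actR13 (i : Nat) : Nat := col17 (col17 (i))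
theorem actR13_eq (i : Nat) : actR13 i = Tab.act T D rw13 i := rfl
noncomputable def actR14 (i : Nat) : Nat := col19 (col19 (i))
theorem actR14_eq (i : Nat) : actR14 i = Tab.act T D rw14 i := rfl
noncomputable def actR15 (i : Nat) : Nat := col11 (col1 (col10 (col0 (i))))
theorem actR15_eq (i : Nat) : actR15 i = Tab.act T D rw15 i := rfl
noncomputable def actR16 (i : Nat) : Nat := col11 (col3 (col10 (col2 (i))))
theorem actR16_eq (i : Nat) : actR16 i = Tab.act T D rw16 i := rfl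
noncomputable def actR17 (i : Nat) : Nat := col11 (col5 (col10 (col4 (i))))
theorem actR17_eq (i : Nat) : actR17 i = Tab.act T D rw17 i := rfl
noncomputable def actR18 (i : Nat) : Nat := col11 (col7 (col10 (col6 (i))))
theorem actR18_eq (i : Nat) : actR18 i = Tab.act T D rw18 i := rfl
noncomputable def actR19 (i : Nat) : Nat := col11 (col9 (col10 (col8 (i))))
theorem actR19_eq (i : Nat) : actR19 i = Tab.act T D rw19 i := rfl
noncomputable def actR20 (i : Nat) : Nat := col13 (col1 (col12 (col0 (i))))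
theorem actR20_eq (i : Nat) : actR20 i = Tab.act T D rw20 i := rfl
noncomputable def actR21 (i : Nat) : Nat := col13 (col3 (col12 (col2 (i))))
theorem actR21_eq (i : Nat) : actR21 i = Tab.act T D rw21 i := rfl
noncomputable def actR22 (i : Nat) : Nat := col13 (col5 (col12 (col4 (i))))
theorem actR22_eq (i : Nat) : actR22 i = Tab.act T D rw22 i := rfl
noncomputable def actR23 (i : Nat) : Nat := col13 (col7 (col12 (col6 (i))))
theorem actR23_eq (i : Nat) : actR23 i = Tab.act T D rw23 i := rfl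
noncomputable def actR24 (i : Nat) : Nat := col13 (col9 (col12 (col8 (i))))
theorem actR24_eq (i : Nat) : actR24 i = Tab.act T D rw24 i := rfl
noncomputable def actR25 (i : Nat) : Nat := col15 (col1 (col14 (col0 (i))))
theorem actR25_eq (i : Nat) : actR25 i = Tab.act T D rw25 i := rfl
noncomputable def actR26 (i : Nat) : Nat := col15 (col3 (col14 (col2 (i))))
theorem actR26_eq (i : Nat) : actR26 i = Tab.act T D rw26 i := rfl
noncomputable def actR27 (i : Nat) : Nat := col15 (col5 (col14 (col4 (i))))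
theorem actR27_eq (i : Nat) : actR27 i = Tab.act T D rw27 i := rfl
noncomputable def actR28 (i : Nat) : Nat := col15 (col7 (col14 (col6 (i))))
theorem actR28_eq (i : Nat) : actR28 i = Tab.act T D rw28 i := rfl
noncomputable def actR29 (i : Nat) : Nat := col15 (col9 (col14 (col8 (i))))
theorem actR29_eq (i : Nat) : actR29 i = Tab.act T D rw29 i := rfl
noncomputable def actR30 (i : Nat) : Nat := col17 (col1 (col16 (col0 (i))))
theorem actR30_eq (i : Nat) : actR30 i = Tab.act T D rw30 i := rfl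
noncomputable def actR31 (i : Nat) : Nat := col17 (col3 (col16 (col2 (i))))
theorem actR31_eq (i : Nat) : actR31 i = Tab.act T D rw31 i := rfl
noncomputable def actR32 (i : Nat) : Nat := col17 (col5 (col16 (col4 (i))))
theorem actR32_eq (i : Nat) : actR32 i = Tab.act T D rw32 i := rfl
noncomputable def actR33 (i : Nat) : Nat := col17 (col7 (col16 (col6 (i))))
theorem actR33_eq (i : Nat) : actR33 i = Tab.act T D rw33 i := rfl
noncomputable def actR34 (i : Nat) : Nat := col17 (col9 (col16 (col8 (i))))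
theorem actR34_eq (i : Nat) : actR34 i = Tab.act T D rw34 i := rfl
noncomputable def actR35 (i : Nat) : Nat := col19 (col1 (col18 (col0 (i))))
theorem actR35_eq (i : Nat) : actR35 i = Tab.act T D rw35 i := rfl
noncomputable def actR36 (i : Nat) : Nat := col19 (col3 (col18 (col2 (i))))
theorem actR36_eq (i : Nat) : actR36 i = Tab.act T D rw36 i := rfl
noncomputable def actR37 (i : Nat) : Nat := col19 (col5 (col18 (col4 (i))))
theorem actR37_eq (i : Nat) : actR37 i = Tab.act T D rw37 i := rfl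
noncomputable def actR38 (i : Nat) : Nat := col19 (col7 (col18 (col6 (i))))
theorem actR38_eq (i : Nat) : actR38 i = Tab.act T D rw38 i := rfl
noncomputable def actR39 (i : Nat) : Nat := col19 (col9 (col18 (col8 (i))))
theorem actR39_eq (i : Nat) : actR39 i = Tab.act T D rw39 i := rfl
noncomputable def actR40 (i : Nat) : Nat := col1 (col1 (i))
theorem actR40_eq (i : Nat) : actR40 i = Tab.act T D rw40 i := rfl
noncomputable def actR41 (i : Nat) : Nat := col3 (col3 (col3 (col3 (i))))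
theorem actR41_eq (i : Nat) : actR41 i = Tab.act T D rw41 i := rfl
noncomputable def actR42 (i : Nat) : Nat := col1 (col3 (col1 (col3 (col1 (col3 (col1 (col3 (col1 (col3 (col1 (col3 (col1 (col3 (col1 (col3 (col1 (col3 (col1 (col3 (col1 (col3 (i))))))))))))))))))))))
theorem actR42_eq (i : Nat) : actR42 i = Tab.act T D rw42 i := rfl
noncomputable def actR43 (i : Nat) : Nat := col1 (col3 (col3 (col1 (col3 (col3 (col1 (col3 (col3 (col1 (col3 (col3 (col1 (col3 (col3 (col1 (col3 (col3 (i))))))))))))))))))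
theorem actR43_eq (i : Nat) : actR43 i = Tab.act T D rw43 i := rfl
noncomputable def actR44 (i : Nat) : Nat := col1 (col3 (col1 (col3 (col1 (col2 (col1 (col3 (col1 (col3 (col3 (col1 (col2 (col1 (col3 (col1 (col2 (col1 (col2 (i)))))))))))))))))))
theorem actR44_eq (i : Nat) : actR44 i = Tab.act T D rw44 i := rfl
noncomputable def actR45 (i : Nat) : Nat := col5 (col5 (col5 (col5 (col5 (col5 (col5 (col5 (col5 (col5 (col5 (col5 (col5 (col5 (col5 (col5 (col5 (col5 (col5 (col5 (col5 (col5 (col5 (i)))))))))))))))))))))))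
theorem actR45_eq (i : Nat) : actR45 i = Tab.act T D rw45 i := rfl
noncomputable def actR46 (i : Nat) : Nat := col1 (col3 (col5 (col2 (col0 (col4 (col4 (i)))))))
theorem actR46_eq (i : Nat) : actR46 i = Tab.act T D rw46 i := rfl
noncomputable def actR47 (i : Nat) : Nat := col1 (col5 (col1 (col5 (col2 (col5 (col1 (col5 (col5 (col2 (col4 (col4 (i))))))))))))
theorem actR47_eq (i : Nat) : actR47 i = Tab.act T D rw47 i := rfl
noncomputable def actR48 (i : Nat) : Nat := col1 (col5 (col1 (col4 (col1 (col5 (col1 (col4 (col0 (col5 (col0 (col4 (i))))))))))))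
theorem actR48_eq (i : Nat) : actR48 i = Tab.act T D rw48 i := rfl
noncomputable def actR49 (i : Nat) : Nat := col1 (col3 (col1 (col5 (col5 (col3 (col1 (col5 (col5 (col3 (col4 (col2 (col4 (col3 (col3 (i)))))))))))))))
theorem actR49_eq (i : Nat) : actR49 i = Tab.act T D rw49 i := rfl
noncomputable def actR50 (i : Nat) : Nat := col1 (col3 (col4 (col1 (col5 (col3 (col4 (col4 (col0 (col4 (col0 (col5 (col3 (col3 (col4 (i)))))))))))))))
theorem actR50_eq (i : Nat) : actR50 i = Tab.act T D rw50 i := rfl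
noncomputable def actR51 (i : Nat) : Nat := col1 (col2 (col4 (col0 (col5 (col2 (col5 (col2 (col2 (col4 (col1 (col5 (col2 (col5 (col2 (i)))))))))))))))
theorem actR51_eq (i : Nat) : actR51 i = Tab.act T D rw51 i := rfl
noncomputable def actR52 (i : Nat) : Nat := col9 (col5 (col1 (col5 (col2 (col5 (col5 (col5 (col3 (col5 (col2 (col8 (col4 (col2 (col2 (col5 (col2 (col5 (col3 (col0 (col2 (col2 (i))))))))))))))))))))))
theorem actR52_eq (i : Nat) : actR52 i = Tab.act T D rw52 i := rfl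
noncomputable def actR53 (i : Nat) : Nat := col9 (col4 (col3 (col3 (col4 (col4 (col2 (col4 (col3 (col4 (col8 (col5 (col3 (col5 (col3 (col5 (col0 (col2 (col2 (col0 (col3 (col0 (i))))))))))))))))))))))
theorem actR53_eq (i : Nat) : actR53 i = Tab.act T D rw53 i := rfl
noncomputable def actR54 (i : Nat) : Nat := col9 (col4 (col3 (col4 (col1 (col2 (col2 (col8 (col0 (col5 (col5 (col3 (col4 (col0 (col3 (col0 (col2 (col2 (col0 (col3 (col0 (col2 (col2 (col0 (i))))))))))))))))))))))))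
theorem actR54_eq (i : Nat) : actR54 i = Tab.act T D rw54 i := rfl
noncomputable def actR55 (i : Nat) : Nat := col9 (col1 (col2 (col5 (col3 (col3 (col5 (col2 (col8 (col3 (col5 (col3 (col0 (col2 (col4 (col3 (col0 (col3 (col0 (col3 (col0 (col2 (col0 (col3 (i))))))))))))))))))))))))
theorem actR55_eq (i : Nat) : actR55 i = Tab.act T D rw55 i := rfl
noncomputable def actR56 (i : Nat) : Nat := col9 (col2 (col5 (col3 (col4 (col4 (col4 (col2 (col5 (col1 (col8 (col4 (col4 (col4 (col0 (col5 (col0 (col3 (col0 (col3 (col0 (col3 (col0 (col2 (i))))))))))))))))))))))))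
theorem actR56_eq (i : Nat) : actR56 i = Tab.act T D rw56 i := rfl
noncomputable def actR57 (i : Nat) : Nat := col9 (col3 (col3 (col1 (col2 (col5 (col2 (col2 (col5 (col3 (col8 (col3 (col5 (col3 (col5 (col5 (col2 (col0 (col2 (col2 (col0 (col3 (col0 (col2 (col2 (i)))))))))))))))))))))))))
theorem actR57_eq (i : Nat) : actR57 i = Tab.act T D rw57 i := rfl

end Cfsg.Agent.Lib.Helper4.TCD.SCo3pp2A
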