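import Cfsg.Agent.Lib.Helper4.TCD_SCo3pp2A_Acc

namespace Cfsg.Agent.Lib.Helper4.TCD.SCo3pp2A

open Cfsg.Agent.Lib.Helper4.TC

set_option maxRecDepth 100000
set_option Elab.async false

theorem c_zero : D.zeroOK = true := by decide +kernel
theorem c_base : allBelow D.baseOK 6 = true := by decide +kernel
theorem c_let : allBelow D.letOK 20 = true := by decide +kernel
theorem c_cls0 : T.cls 0 = 0 := by decide +kernel
theorem c_name0 : T.nameOf 0 = 0 := by decide +kernel
theorem c_tab : D.relTabOK 0 (baseRels 20 PSCo3pp2.invR PSCo3pp2.P.real subs ++ (baseRels 20 PSCo3pp2.invR PSCo3pp2.P.real subs).map (invWord D.inv)) = true := by decide +kernel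
theorem c_real : PSCo3pp2.P.real = realLit := by decide +kernel
theorem c_subfix : subs.all (fun u => Nat.beq (Tab.act T D u 0) 0) = true := by decide +kernel
theorem c_subs : subs.all (fun u => u.all (fun x => Nat.ble (Nat.succ x) 20)) = true := by decide +kernel
theorem c_names_0 : allRange D.nameOK 1 60000 = true := by decide +kernel
theorem c_names_1 : allRange D.nameOK 60001 21784 = true := by decide +kernel
theorem c_cls_0 : allRange (T.clsOK D) 1 15000 = true := by decide +kernel
theorem c_cls_1 : allRange (T.clsOK D) 15001 15000 = true := by decide +kernel
theorem c_cls_2 : allRange (T.clsOK D) 30001 15000 = true := by decide +kernel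
theorem c_cls_3 : allRange (T.clsOK D) 45001 15000 = true := by decide +kernel
theorem c_cls_4 : allRange (T.clsOK D) 60001 15000 = true := by decide +kernel
theorem c_cls_5 : allRange (T.clsOK D) 75001 6784 = true := by decide +kernel
theorem c_rep_0 : allRange (T.repOK D) 0 30000 = true := by decide +kernel
theorem c_rep_1 : allRange (T.repOK D) 30000 18600 = true := by decide +kernel
theorem c_rel_0 : allRange D.relOK 81791 3946 = true := by decide +kernel
theorem c_rel_1 : allRange D.relOK 85737 4097 = true := by decide +kernel
theorem c_rel_2 : allRange D.relOK 89834 4087 = true := by decide +kernel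
theorem c_rel_3 : allRange D.relOK 93921 4086 = true := by decide +kernel
theorem c_rel_4 : allRange D.relOK 98007 4092 = true := by decide +kernel
theorem c_rel_5 : allRange D.relOK 102099 4113 = true := by decide +kernel
theorem c_rel_6 : allRange D.relOK 106212 4134 = true := by decide +kernel
theorem c_rel_7 : allRange D.relOK 110346 3537 = true := by decide +kernel
theorem c_rel_8 : allRange D.relOK 113883 3050 = true := by decide +kernel
theorem c_rel_9 : allRange D.relOK 116933 3458 = true := by decide +kernel
theorem c_rel_10 : allRange D.relOK 120391 3040 = true := by decide +kernel
theorem c_rel_11 : allRange D.relOK 123431 3402 = true := by decide +kernel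
theorem c_rel_12 : allRange D.relOK 126833 4054 = true := by decide +kernel
theorem c_rel_13 : allRange D.relOK 130887 4008 = true := by decide +kernel
theorem c_rel_14 : allRange D.relOK 134895 4031 = true := by decide +kernel
theorem c_rel_15 : allRange D.relOK 138926 3989 = true := by decide +kernel
theorem c_rel_16 : allRange D.relOK 142915 4011 = true := by decide +kernel
theorem c_rel_17 : allRange D.relOK 146926 4060 = true := by decide +kernel
theorem c_rel_18 : allRange D.relOK 150986 4084 = true := by decide +kernel
theorem c_rel_19 : allRange D.relOK 155070 4025 = true := by decide +kernel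
theorem c_rel_20 : allRange D.relOK 159095 2533 = true := by decide +kernel
theorem c_rel_21 : allRange D.relOK 161628 1969 = true := by decide +kernel
theorem c_rel_22 : allRange D.relOK 163597 3450 = true := by decide +kernel
theorem c_rel_23 : allRange D.relOK 167047 1553 = true := by decide +kernel
theorem c_rel_24 : allRange D.relOK 168600 1116 = true := by decide +kernel
theorem c_rel_25 : allRange D.relOK 169716 1077 = true := by decide +kernel
theorem c_rel_26 : allRange D.relOK 170793 1150 = true := by decide +kernel
theorem c_rel_27 : allRange D.relOK 171943 1276 = true := by decide +kernel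
theorem c_rel_28 : allRange D.relOK 173219 1185 = true := by decide +kernel
theorem c_rel_29 : allRange D.relOK 174404 1343 = true := by decide +kernel
theorem c_rel_30 : allRange D.relOK 175747 2376 = true := by decide +kernel
theorem c_rel_31 : allRange D.relOK 178123 3052 = true := by decide +kernel
theorem c_rel_32 : allRange D.relOK 181175 2737 = true := by decide +kernel
theorem c_rel_33 : allRange D.relOK 183912 2351 = true := by decide +kernel
theorem c_rel_34 : allRange D.relOK 186263 1974 = true := by decide +kernel
theorem c_rel_35 : allRange D.relOK 188237 2137 = true := by decide +kernel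
theorem c_rel_36 : allRange D.relOK 190374 1599 = true := by decide +kernel
theorem c_rel_37 : allRange D.relOK 191973 2090 = true := by decide +kernel
theorem c_rel_38 : allRange D.relOK 194063 2249 = true := by decide +kernel
theorem c_rel_39 : allRange D.relOK 196312 2219 = true := by decide +kernel
theorem c_rel_40 : allRange D.relOK 198531 1943 = true := by decide +kernel
theorem c_rel_41 : allRange D.relOK 200474 2926 = true := by decide +kernel
theorem c_rel_42 : allRange D.relOK 203400 2961 = true := by decide +kernel
theorem c_rel_43 : allRange D.relOK 206361 2064 = true := by decide +kernel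
theorem c_rel_44 : allRange D.relOK 208425 2542 = true := by decide +kernel
theorem c_rel_45 : allRange D.relOK 210967 2062 = true := by decide +kernel
theorem c_rel_46 : allRange D.relOK 213029 2215 = true := by decide +kernel
theorem c_rel_47 : allRange D.relOK 215244 2254 = true := by decide +kernel
theorem c_rel_48 : allRange D.relOK 217498 1964 = true := by decide +kernel
theorem c_rel_49 : allRange D.relOK 219462 1996 = true := by decide +kernel
theorem c_rel_50 : allRange D.relOK 221458 1919 = true := by decide +kernel
theorem c_rel_51 : allRange D.relOK 223377 2334 = true := by decide +kernel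
theorem c_rel_52 : allRange D.relOK 225711 2385 = true := by decide +kernel
theorem c_rel_53 : allRange D.relOK 228096 2153 = true := by decide +kernel
theorem c_rel_54 : allRange D.relOK 230249 1490 = true := by decide +kernel
theorem c_rel_55 : allRange D.relOK 231739 2015 = true := by decide +kernel
theorem c_rel_56 : allRange D.relOK 233754 1805 = true := by decide +kernel
theorem c_rel_57 : allRange D.relOK 235559 1769 = true := by decide +kernel
theorem c_rel_58 : allRange D.relOK 237328 1580 = true := by decide +kernel
theorem c_rel_59 : allRange D.relOK 238908 1664 = true := by decide +kernel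
theorem c_rel_60 : allRange D.relOK 240572 1927 = true := by decide +kernel
theorem c_rel_61 : allRange D.relOK 242499 1804 = true := by decide +kernel
theorem c_rel_62 : allRange D.relOK 244303 1976 = true := by decide +kernel
theorem c_rel_63 : allRange D.relOK 246279 2235 = true := by decide +kernel
theorem c_rel_64 : allRange D.relOK 248514 1564 = true := by decide +kernel
theorem c_rel_65 : allRange D.relOK 250078 1970 = true := by decide +kernel
theorem c_rel_66 : allRange D.relOK 252048 1546 = true := by decide +kernel
theorem c_rel_67 : allRange D.relOK 253594 1961 = true := by decide +kernel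
theorem c_rel_68 : allRange D.relOK 255555 1677 = true := by decide +kernel
theorem c_rel_69 : allRange D.relOK 257232 2168 = true := by decide +kernel
theorem c_rel_70 : allRange D.relOK 259400 2373 = true := by decide +kernel
theorem c_rel_71 : allRange D.relOK 261773 1668 = true := by decide +kernel
theorem c_rel_72 : allRange D.relOK 263441 2152 = true := by decide +kernel
theorem c_rel_73 : allRange D.relOK 265593 1846 = true := by decide +kernel
theorem c_rel_74 : allRange D.relOK 267439 2137 = true := by decide +kernel
theorem c_rel_75 : allRange D.relOK 269576 1877 = true := by decide +kernel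
theorem c_rel_76 : allRange D.relOK 271453 2293 = true := by decide +kernel
theorem c_rel_77 : allRange D.relOK 273746 2046 = true := by decide +kernel
theorem c_rel_78 : allRange D.relOK 275792 2199 = true := by decide +kernel
theorem c_rel_79 : allRange D.relOK 277991 2051 = true := by decide +kernel
theorem c_rel_80 : allRange D.relOK 280042 1899 = true := by decide +kernel
theorem c_rel_81 : allRange D.relOK 281941 2155 = true := by decide +kernel
theorem c_rel_82 : allRange D.relOK 284096 2413 = true := by decide +kernel

end Cfsg.Agent.Lib.Helper4.TCD.SCo3pp2A
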