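import Cfsg.Agent.Lib.Helper4.TCD_SCo3pp2A_Acc

namespace Cfsg.Agent.Lib.Helper4.TCD.SCo3pp2A

open Cfsg.Agent.Lib.Helper4.TC

set_option maxRecDepth 100000
set_option Elab.async false

theorem c_act52_4 : allRange (fun i => Nat.beq (actR52 i) i) 10908 2727 = true := by decide +kernel
theorem c_act52_5 : allRange (fun i => Nat.beq (actR52 i) i) 13635 2727 = true := by decide +kernel
theorem c_act52_6 : allRange (fun i => Nat.beq (actR52 i) i) 16362 2727 = true := by decide +kernel
theorem c_act52_7 : allRange (fun i => Nat.beq (actR52 i) i) 19089 2727 = true := by decide +kernel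
theorem c_act52_8 : allRange (fun i => Nat.beq (actR52 i) i) 21816 2727 = true := by decide +kernel
theorem c_act52_9 : allRange (fun i => Nat.beq (actR52 i) i) 24543 2727 = true := by decide +kernel
theorem c_act52_10 : allRange (fun i => Nat.beq (actR52 i) i) 27270 2727 = true := by decide +kernel
theorem c_act52_11 : allRange (fun i => Nat.beq (actR52 i) i) 29997 2727 = true := by decide +kernel
theorem c_act52_12 : allRange (fun i => Nat.beq (actR52 i) i) 32724 2727 = true := by decide +kernel
theorem c_act52_13 : allRange (fun i => Nat.beq (actR52 i) i) 35451 2727 = true := by decide +kernel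
theorem c_act52_14 : allRange (fun i => Nat.beq (actR52 i) i) 38178 2727 = true := by decide +kernel
theorem c_act52_15 : allRange (fun i => Nat.beq (actR52 i) i) 40905 2727 = true := by decide +kernel
theorem c_act52_16 : allRange (fun i => Nat.beq (actR52 i) i) 43632 2727 = true := by decide +kernel
theorem c_act52_17 : allRange (fun i => Nat.beq (actR52 i) i) 46359 2241 = true := by decide +kernel
theorem c_act53_0 : allRange (fun i => Nat.beq (actR53 i) i) 0 2727 = true := by decide +kernel
theorem c_act53_1 : allRange (fun i => Nat.beq (actR53 i) i) 2727 2727 = true := by decide +kernel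
theorem c_act53_2 : allRange (fun i => Nat.beq (actR53 i) i) 5454 2727 = true := by decide +kernel
theorem c_act53_3 : allRange (fun i => Nat.beq (actR53 i) i) 8181 2727 = true := by decide +kernel
theorem c_act53_4 : allRange (fun i => Nat.beq (actR53 i) i) 10908 2727 = true := by decide +kernel
theorem c_act53_5 : allRange (fun i => Nat.beq (actR53 i) i) 13635 2727 = true := by decide +kernel
theorem c_act53_6 : allRange (fun i => Nat.beq (actR53 i) i) 16362 2727 = true := by decide +kernel
theorem c_act53_7 : allRange (fun i => Nat.beq (actR53 i) i) 19089 2727 = true := by decide +kernel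
theorem c_act53_8 : allRange (fun i => Nat.beq (actR53 i) i) 21816 2727 = true := by decide +kernel
theorem c_act53_9 : allRange (fun i => Nat.beq (actR53 i) i) 24543 2727 = true := by decide +kernel
theorem c_act53_10 : allRange (fun i => Nat.beq (actR53 i) i) 27270 2727 = true := by decide +kernel
theorem c_act53_11 : allRange (fun i => Nat.beq (actR53 i) i) 29997 2727 = true := by decide +kernel
theorem c_act53_12 : allRange (fun i => Nat.beq (actR53 i) i) 32724 2727 = true := by decide +kernel
theorem c_act53_13 : allRange (fun i => Nat.beq (actR53 i) i) 35451 2727 = true := by decide +kernel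
theorem c_act53_14 : allRange (fun i => Nat.beq (actR53 i) i) 38178 2727 = true := by decide +kernel
theorem c_act53_15 : allRange (fun i => Nat.beq (actR53 i) i) 40905 2727 = true := by decide +kernel
theorem c_act53_16 : allRange (fun i => Nat.beq (actR53 i) i) 43632 2727 = true := by decide +kernel
theorem c_act53_17 : allRange (fun i => Nat.beq (actR53 i) i) 46359 2241 = true := by decide +kernel
theorem c_act54_0 : allRange (fun i => Nat.beq (actR54 i) i) 0 2500 = true := by decide +kernel
theorem c_act54_1 : allRange (fun i => Nat.beq (actR54 i) i) 2500 2500 = true := by decide +kernel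
theorem c_act54_2 : allRange (fun i => Nat.beq (actR54 i) i) 5000 2500 = true := by decide +kernel
theorem c_act54_3 : allRange (fun i => Nat.beq (actR54 i) i) 7500 2500 = true := by decide +kernel
theorem c_act54_4 : allRange (fun i => Nat.beq (actR54 i) i) 10000 2500 = true := by decide +kernel
theorem c_act54_5 : allRange (fun i => Nat.beq (actR54 i) i) 12500 2500 = true := by decide +kernel
theorem c_act54_6 : allRange (fun i => Nat.beq (actR54 i) i) 15000 2500 = true := by decide +kernel
theorem c_act54_7 : allRange (fun i => Nat.beq (actR54 i) i) 17500 2500 = true := by decide +kernel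
theorem c_act54_8 : allRange (fun i => Nat.beq (actR54 i) i) 20000 2500 = true := by decide +kernel
theorem c_act54_9 : allRange (fun i => Nat.beq (actR54 i) i) 22500 2500 = true := by decide +kernel
theorem c_act54_10 : allRange (fun i => Nat.beq (actR54 i) i) 25000 2500 = true := by decide +kernel
theorem c_act54_11 : allRange (fun i => Nat.beq (actR54 i) i) 27500 2500 = true := by decide +kernel
theorem c_act54_12 : allRange (fun i => Nat.beq (actR54 i) i) 30000 2500 = true := by decide +kernel
theorem c_act54_13 : allRange (fun i => Nat.beq (actR54 i) i) 32500 2500 = true := by decide +kernel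
theorem c_act54_14 : allRange (fun i => Nat.beq (actR54 i) i) 35000 2500 = true := by decide +kernel
theorem c_act54_15 : allRange (fun i => Nat.beq (actR54 i) i) 37500 2500 = true := by decide +kernel
theorem c_act54_16 : allRange (fun i => Nat.beq (actR54 i) i) 40000 2500 = true := by decide +kernel
theorem c_act54_17 : allRange (fun i => Nat.beq (actR54 i) i) 42500 2500 = true := by decide +kernel

end Cfsg.Agent.Lib.Helper4.TCD.SCo3pp2A
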