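import Cfsg.Agent.Lib.Helper4.TC7
import Cfsg.Agent.Lib.Helper4.TCP_SCo3pp3
import Cfsg.Agent.Lib.Helper4.TCD_SCo3pp3A_D0
import Cfsg.Agent.Lib.Helper4.TCD_SCo3pp3A_D1
import Cfsg.Agent.Lib.Helper4.TCD_SCo3pp3A_D2
import Cfsg.Agent.Lib.Helper4.TCD_SCo3pp3A_D3
import Cfsg.Agent.Lib.Helper4.TCD_SCo3pp3A_D4
import Cfsg.Agent.Lib.Helper4.TCD_SCo3pp3A_D5
import Cfsg.Agent.Lib.Helper4.TCD_SCo3pp3A_D6
import Cfsg.Agent.Lib.Helper4.TCD_SCo3pp3A_D7
import Cfsg.Agent.Lib.Helper4.TCD_SCo3pp3A_D8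
import Cfsg.Agent.Lib.Helper4.TCD_SCo3pp3A_D9
import Cfsg.Agent.Lib.Helper4.TCD_SCo3pp3A_D10
import Cfsg.Agent.Lib.Helper4.TCD_SCo3pp3A_D11
import Cfsg.Agent.Lib.Helper4.TCD_SCo3pp3A_D12
import Cfsg.Agent.Lib.Helper4.TCD_SCo3pp3A_D13
import Cfsg.Agent.Lib.Helper4.TCD_SCo3pp3A_D14
import Cfsg.Agent.Lib.Helper4.TCD_SCo3pp3A_D15
import Cfsg.Agent.Lib.Helper4.TCD_SCo3pp3A_D16
import Cfsg.Agent.Lib.Helper4.TCD_SCo3pp3A_D17
import Cfsg.Agent.Lib.Helper4.TCD_SCo3pp3A_D18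
import Cfsg.Agent.Lib.Helper4.TCD_SCo3pp3A_D19
import Cfsg.Agent.Lib.Helper4.TCD_SCo3pp3A_D20

namespace Cfsg.Agent.Lib.Helper4.TCD.SCo3pp3A

open Cfsg.Agent.Lib.Helper4.TC

set_option maxRecDepth 100000

noncomputable def Atab_s_1_3 (c : Nat) : Nat := @Bool.rec (fun _ => Nat) (Atab_1) (Atab_2) (Nat.ble 2 c)
noncomputable def Atab_s_0_3 (c : Nat) : Nat := @Bool.rec (fun _ => Nat) (Atab_0) (Atab_s_1_3 c) (Nat.ble 1 c)
noncomputable def Atab_s_3_5 (c : Nat) : Nat := @Bool.rec (fun _ => Nat) (Atab_3) (Atab_4) (Nat.ble 4 c)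
noncomputable def Atab_s_5_7 (c : Nat) : Nat := @Bool.rec (fun _ => Nat) (Atab_5) (Atab_6) (Nat.ble 6 c)
noncomputable def Atab_s_3_7 (c : Nat) : Nat := @Bool.rec (fun _ => Nat) (Atab_s_3_5 c) (Atab_s_5_7 c) (Nat.ble 5 c)
noncomputable def Atab_s_0_7 (c : Nat) : Nat := @Bool.rec (fun _ => Nat) (Atab_s_0_3 c) (Atab_s_3_7 c) (Nat.ble 3 c)
noncomputable def Atab_s_8_10 (c : Nat) : Nat := @Bool.rec (fun _ => Nat) (Atab_8) (Atab_9) (Nat.ble 9 c)
noncomputable def Atab_s_7_10 (c : Nat) : Nat := @Bool.rec (fun _ => Nat) (Atab_7) (Atab_s_8_10 c) (Nat.ble 8 c)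
noncomputable def Atab_s_10_12 (c : Nat) : Nat := @Bool.rec (fun _ => Nat) (Atab_10) (Atab_11) (Nat.ble 11 c)
noncomputable def Atab_s_12_14 (c : Nat) : Nat := @Bool.rec (fun _ => Nat) (Atab_12) (Atab_13) (Nat.ble 13 c)
noncomputable def Atab_s_10_14 (c : Nat) : Nat := @Bool.rec (fun _ => Nat) (Atab_s_10_12 c) (Atab_s_12_14 c) (Nat.ble 12 c)
noncomputable def Atab_s_7_14 (c : Nat) : Nat := @Bool.rec (fun _ => Nat) (Atab_s_7_10 c) (Atab_s_10_14 c) (Nat.ble 10 c)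
noncomputable def Atab_s_0_14 (c : Nat) : Nat := @Bool.rec (fun _ => Nat) (Atab_s_0_7 c) (Atab_s_7_14 c) (Nat.ble 7 c)
noncomputable def Atab_s_15_17 (c : Nat) : Nat := @Bool.rec (fun _ => Nat) (Atab_15) (Atab_16) (Nat.ble 16 c)
noncomputable def Atab_s_14_17 (c : Nat) : Nat := @Bool.rec (fun _ => Nat) (Atab_14) (Atab_s_15_17 c) (Nat.ble 15 c)
noncomputable def Atab_s_17_19 (c : Nat) : Nat := @Bool.rec (fun _ => Nat) (Atab_17) (Atab_18) (Nat.ble 18 c)
noncomputable def Atab_s_19_21 (c : Nat) : Nat := @Bool.rec (fun _ => Nat) (Atab_19) (Atab_20) (Nat.ble 20 c)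
noncomputable def Atab_s_17_21 (c : Nat) : Nat := @Bool.rec (fun _ => Nat) (Atab_s_17_19 c) (Atab_s_19_21 c) (Nat.ble 19 c)
noncomputable def Atab_s_14_21 (c : Nat) : Nat := @Bool.rec (fun _ => Nat) (Atab_s_14_17 c) (Atab_s_17_21 c) (Nat.ble 17 c)
noncomputable def Atab_s_22_24 (c : Nat) : Nat := @Bool.rec (fun _ => Nat) (Atab_22) (Atab_23) (Nat.ble 23 c)
noncomputable def Atab_s_21_24 (c : Nat) : Nat := @Bool.rec (fun _ => Nat) (Atab_21) (Atab_s_22_24 c) (Nat.ble 22 c)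
noncomputable def Atab_s_24_26 (c : Nat) : Nat := @Bool.rec (fun _ => Nat) (Atab_24) (Atab_25) (Nat.ble 25 c)
noncomputable def Atab_s_26_28 (c : Nat) : Nat := @Bool.rec (fun _ => Nat) (Atab_26) (Atab_27) (Nat.ble 27 c)
noncomputable def Atab_s_24_28 (c : Nat) : Nat := @Bool.rec (fun _ => Nat) (Atab_s_24_26 c) (Atab_s_26_28 c) (Nat.ble 26 c)
noncomputable def Atab_s_21_28 (c : Nat) : Nat := @Bool.rec (fun _ => Nat) (Atab_s_21_24 c) (Atab_s_24_28 c) (Nat.ble 24 c)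
noncomputable def Atab_s_14_28 (c : Nat) : Nat := @Bool.rec (fun _ => Nat) (Atab_s_14_21 c) (Atab_s_21_28 c) (Nat.ble 21 c)
noncomputable def Atab_s_0_28 (c : Nat) : Nat := @Bool.rec (fun _ => Nat) (Atab_s_0_14 c) (Atab_s_14_28 c) (Nat.ble 14 c)
noncomputable def Atab_s_29_31 (c : Nat) : Nat := @Bool.rec (fun _ => Nat) (Atab_29) (Atab_30) (Nat.ble 30 c)
noncomputable def Atab_s_28_31 (c : Nat) : Nat := @Bool.rec (fun _ => Nat) (Atab_28) (Atab_s_29_31 c) (Nat.ble 29 c)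
noncomputable def Atab_s_31_33 (c : Nat) : Nat := @Bool.rec (fun _ => Nat) (Atab_31) (Atab_32) (Nat.ble 32 c)
noncomputable def Atab_s_33_35 (c : Nat) : Nat := @Bool.rec (fun _ => Nat) (Atab_33) (Atab_34) (Nat.ble 34 c)
noncomputable def Atab_s_31_35 (c : Nat) : Nat := @Bool.rec (fun _ => Nat) (Atab_s_31_33 c) (Atab_s_33_35 c) (Nat.ble 33 c)
noncomputable def Atab_s_28_35 (c : Nat) : Nat := @Bool.rec (fun _ => Nat) (Atab_s_28_31 c) (Atab_s_31_35 c) (Nat.ble 31 c)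
noncomputable def Atab_s_36_38 (c : Nat) : Nat := @Bool.rec (fun _ => Nat) (Atab_36) (Atab_37) (Nat.ble 37 c)
noncomputable def Atab_s_35_38 (c : Nat) : Nat := @Bool.rec (fun _ => Nat) (Atab_35) (Atab_s_36_38 c) (Nat.ble 36 c)
noncomputable def Atab_s_38_40 (c : Nat) : Nat := @Bool.rec (fun _ => Nat) (Atab_38) (Atab_39) (Nat.ble 39 c)
noncomputable def Atab_s_40_42 (c : Nat) : Nat := @Bool.rec (fun _ => Nat) (Atab_40) (Atab_41) (Nat.ble 41 c)
noncomputable def Atab_s_38_42 (c : Nat) : Nat := @Bool.rec (fun _ => Nat) (Atab_s_38_40 c) (Atab_s_40_42 c) (Nat.ble 40 c)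
noncomputable def Atab_s_35_42 (c : Nat) : Nat := @Bool.rec (fun _ => Nat) (Atab_s_35_38 c) (Atab_s_38_42 c) (Nat.ble 38 c)
noncomputable def Atab_s_28_42 (c : Nat) : Nat := @Bool.rec (fun _ => Nat) (Atab_s_28_35 c) (Atab_s_35_42 c) (Nat.ble 35 c)
noncomputable def Atab_s_43_45 (c : Nat) : Nat := @Bool.rec (fun _ => Nat) (Atab_43) (Atab_44) (Nat.ble 44 c)
noncomputable def Atab_s_42_45 (c : Nat) : Nat := @Bool.rec (fun _ => Nat) (Atab_42) (Atab_s_43_45 c) (Nat.ble 43 c)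
noncomputable def Atab_s_45_47 (c : Nat) : Nat := @Bool.rec (fun _ => Nat) (Atab_45) (Atab_46) (Nat.ble 46 c)
noncomputable def Atab_s_47_49 (c : Nat) : Nat := @Bool.rec (fun _ => Nat) (Atab_47) (Atab_48) (Nat.ble 48 c)
noncomputable def Atab_s_45_49 (c : Nat) : Nat := @Bool.rec (fun _ => Nat) (Atab_s_45_47 c) (Atab_s_47_49 c) (Nat.ble 47 c)
noncomputable def Atab_s_42_49 (c : Nat) : Nat := @Bool.rec (fun _ => Nat) (Atab_s_42_45 c) (Atab_s_45_49 c) (Nat.ble 45 c)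
noncomputable def Atab_s_50_52 (c : Nat) : Nat := @Bool.rec (fun _ => Nat) (Atab_50) (Atab_51) (Nat.ble 51 c)
noncomputable def Atab_s_49_52 (c : Nat) : Nat := @Bool.rec (fun _ => Nat) (Atab_49) (Atab_s_50_52 c) (Nat.ble 50 c)
noncomputable def Atab_s_52_54 (c : Nat) : Nat := @Bool.rec (fun _ => Nat) (Atab_52) (Atab_53) (Nat.ble 53 c)
noncomputable def Atab_s_54_56 (c : Nat) : Nat := @Bool.rec (fun _ => Nat) (Atab_54) (Atab_55) (Nat.ble 55 c)
noncomputable def Atab_s_52_56 (c : Nat) : Nat := @Bool.rec (fun _ => Nat) (Atab_s_52_54 c) (Atab_s_54_56 c) (Nat.ble 54 c)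
noncomputable def Atab_s_49_56 (c : Nat) : Nat := @Bool.rec (fun _ => Nat) (Atab_s_49_52 c) (Atab_s_52_56 c) (Nat.ble 52 c)
noncomputable def Atab_s_42_56 (c : Nat) : Nat := @Bool.rec (fun _ => Nat) (Atab_s_42_49 c) (Atab_s_49_56 c) (Nat.ble 49 c)
noncomputable def Atab_s_28_56 (c : Nat) : Nat := @Bool.rec (fun _ => Nat) (Atab_s_28_42 c) (Atab_s_42_56 c) (Nat.ble 42 c)
noncomputable def Atab_s_0_56 (c : Nat) : Nat := @Bool.rec (fun _ => Nat) (Atab_s_0_28 c) (Atab_s_28_56 c) (Nat.ble 28 c)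
noncomputable def Atab_s_57_59 (c : Nat) : Nat := @Bool.rec (fun _ => Nat) (Atab_57) (Atab_58) (Nat.ble 58 c)
noncomputable def Atab_s_56_59 (c : Nat) : Nat := @Bool.rec (fun _ => Nat) (Atab_56) (Atab_s_57_59 c) (Nat.ble 57 c)
noncomputable def Atab_s_59_61 (c : Nat) : Nat := @Bool.rec (fun _ => Nat) (Atab_59) (Atab_60) (Nat.ble 60 c)
noncomputable def Atab_s_61_63 (c : Nat) : Nat := @Bool.rec (fun _ => Nat) (Atab_61) (Atab_62) (Nat.ble 62 c)
noncomputable def Atab_s_59_63 (c : Nat) : Nat := @Bool.rec (fun _ => Nat) (Atab_s_59_61 c) (Atab_s_61_63 c) (Nat.ble 61 c)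
noncomputable def Atab_s_56_63 (c : Nat) : Nat := @Bool.rec (fun _ => Nat) (Atab_s_56_59 c) (Atab_s_59_63 c) (Nat.ble 59 c)
noncomputable def Atab_s_64_66 (c : Nat) : Nat := @Bool.rec (fun _ => Nat) (Atab_64) (Atab_65) (Nat.ble 65 c)
noncomputable def Atab_s_63_66 (c : Nat) : Nat := @Bool.rec (fun _ => Nat) (Atab_63) (Atab_s_64_66 c) (Nat.ble 64 c)
noncomputable def Atab_s_66_68 (c : Nat) : Nat := @Bool.rec (fun _ => Nat) (Atab_66) (Atab_67) (Nat.ble 67 c)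
noncomputable def Atab_s_68_70 (c : Nat) : Nat := @Bool.rec (fun _ => Nat) (Atab_68) (Atab_69) (Nat.ble 69 c)
noncomputable def Atab_s_66_70 (c : Nat) : Nat := @Bool.rec (fun _ => Nat) (Atab_s_66_68 c) (Atab_s_68_70 c) (Nat.ble 68 c)
noncomputable def Atab_s_63_70 (c : Nat) : Nat := @Bool.rec (fun _ => Nat) (Atab_s_63_66 c) (Atab_s_66_70 c) (Nat.ble 66 c)
noncomputable def Atab_s_56_70 (c : Nat) : Nat := @Bool.rec (fun _ => Nat) (Atab_s_56_63 c) (Atab_s_63_70 c) (Nat.ble 63 c)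
noncomputable def Atab_s_71_73 (c : Nat) : Nat := @Bool.rec (fun _ => Nat) (Atab_71) (Atab_72) (Nat.ble 72 c)
noncomputable def Atab_s_70_73 (c : Nat) : Nat := @Bool.rec (fun _ => Nat) (Atab_70) (Atab_s_71_73 c) (Nat.ble 71 c)
noncomputable def Atab_s_73_75 (c : Nat) : Nat := @Bool.rec (fun _ => Nat) (Atab_73) (Atab_74) (Nat.ble 74 c)
noncomputable def Atab_s_75_77 (c : Nat) : Nat := @Bool.rec (fun _ => Nat) (Atab_75) (Atab_76) (Nat.ble 76 c)
noncomputable def Atab_s_73_77 (c : Nat) : Nat := @Bool.rec (fun _ => Nat) (Atab_s_73_75 c) (Atab_s_75_77 c) (Nat.ble 75 c)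
noncomputable def Atab_s_70_77 (c : Nat) : Nat := @Bool.rec (fun _ => Nat) (Atab_s_70_73 c) (Atab_s_73_77 c) (Nat.ble 73 c)
noncomputable def Atab_s_78_80 (c : Nat) : Nat := @Bool.rec (fun _ => Nat) (Atab_78) (Atab_79) (Nat.ble 79 c)
noncomputable def Atab_s_77_80 (c : Nat) : Nat := @Bool.rec (fun _ => Nat) (Atab_77) (Atab_s_78_80 c) (Nat.ble 78 c)
noncomputable def Atab_s_80_82 (c : Nat) : Nat := @Bool.rec (fun _ => Nat) (Atab_80) (Atab_81) (Nat.ble 81 c)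
noncomputable def Atab_s_82_84 (c : Nat) : Nat := @Bool.rec (fun _ => Nat) (Atab_82) (Atab_83) (Nat.ble 83 c)
noncomputable def Atab_s_80_84 (c : Nat) : Nat := @Bool.rec (fun _ => Nat) (Atab_s_80_82 c) (Atab_s_82_84 c) (Nat.ble 82 c)
noncomputable def Atab_s_77_84 (c : Nat) : Nat := @Bool.rec (fun _ => Nat) (Atab_s_77_80 c) (Atab_s_80_84 c) (Nat.ble 80 c)
noncomputable def Atab_s_70_84 (c : Nat) : Nat := @Bool.rec (fun _ => Nat) (Atab_s_70_77 c) (Atab_s_77_84 c) (Nat.ble 77 c)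
noncomputable def Atab_s_56_84 (c : Nat) : Nat := @Bool.rec (fun _ => Nat) (Atab_s_56_70 c) (Atab_s_70_84 c) (Nat.ble 70 c)
noncomputable def Atab_s_85_87 (c : Nat) : Nat := @Bool.rec (fun _ => Nat) (Atab_85) (Atab_86) (Nat.ble 86 c)
noncomputable def Atab_s_84_87 (c : Nat) : Nat := @Bool.rec (fun _ => Nat) (Atab_84) (Atab_s_85_87 c) (Nat.ble 85 c)
noncomputable def Atab_s_87_89 (c : Nat) : Nat := @Bool.rec (fun _ => Nat) (Atab_87) (Atab_88) (Nat.ble 88 c)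
noncomputable def Atab_s_89_91 (c : Nat) : Nat := @Bool.rec (fun _ => Nat) (Atab_89) (Atab_90) (Nat.ble 90 c)
noncomputable def Atab_s_87_91 (c : Nat) : Nat := @Bool.rec (fun _ => Nat) (Atab_s_87_89 c) (Atab_s_89_91 c) (Nat.ble 89 c)
noncomputable def Atab_s_84_91 (c : Nat) : Nat := @Bool.rec (fun _ => Nat) (Atab_s_84_87 c) (Atab_s_87_91 c) (Nat.ble 87 c)
noncomputable def Atab_s_92_94 (c : Nat) : Nat := @Bool.rec (fun _ => Nat) (Atab_92) (Atab_93) (Nat.ble 93 c)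
noncomputable def Atab_s_91_94 (c : Nat) : Nat := @Bool.rec (fun _ => Nat) (Atab_91) (Atab_s_92_94 c) (Nat.ble 92 c)
noncomputable def Atab_s_94_96 (c : Nat) : Nat := @Bool.rec (fun _ => Nat) (Atab_94) (Atab_95) (Nat.ble 95 c)
noncomputable def Atab_s_96_98 (c : Nat) : Nat := @Bool.rec (fun _ => Nat) (Atab_96) (Atab_97) (Nat.ble 97 c)
noncomputable def Atab_s_94_98 (c : Nat) : Nat := @Bool.rec (fun _ => Nat) (Atab_s_94_96 c) (Atab_s_96_98 c) (Nat.ble 96 c)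
noncomputable def Atab_s_91_98 (c : Nat) : Nat := @Bool.rec (fun _ => Nat) (Atab_s_91_94 c) (Atab_s_94_98 c) (Nat.ble 94 c)
noncomputable def Atab_s_84_98 (c : Nat) : Nat := @Bool.rec (fun _ => Nat) (Atab_s_84_91 c) (Atab_s_91_98 c) (Nat.ble 91 c)
noncomputable def Atab_s_99_101 (c : Nat) : Nat := @Bool.rec (fun _ => Nat) (Atab_99) (Atab_100) (Nat.ble 100 c)
noncomputable def Atab_s_98_101 (c : Nat) : Nat := @Bool.rec (fun _ => Nat) (Atab_98) (Atab_s_99_101 c) (Nat.ble 99 c)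
noncomputable def Atab_s_101_103 (c : Nat) : Nat := @Bool.rec (fun _ => Nat) (Atab_101) (Atab_102) (Nat.ble 102 c)
noncomputable def Atab_s_103_105 (c : Nat) : Nat := @Bool.rec (fun _ => Nat) (Atab_103) (Atab_104) (Nat.ble 104 c)
noncomputable def Atab_s_101_105 (c : Nat) : Nat := @Bool.rec (fun _ => Nat) (Atab_s_101_103 c) (Atab_s_103_105 c) (Nat.ble 103 c)
noncomputable def Atab_s_98_105 (c : Nat) : Nat := @Bool.rec (fun _ => Nat) (Atab_s_98_101 c) (Atab_s_101_105 c) (Nat.ble 101 c)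
noncomputable def Atab_s_105_107 (c : Nat) : Nat := @Bool.rec (fun _ => Nat) (Atab_105) (Atab_106) (Nat.ble 106 c)
noncomputable def Atab_s_107_109 (c : Nat) : Nat := @Bool.rec (fun _ => Nat) (Atab_107) (Atab_108) (Nat.ble 108 c)
noncomputable def Atab_s_105_109 (c : Nat) : Nat := @Bool.rec (fun _ => Nat) (Atab_s_105_107 c) (Atab_s_107_109 c) (Nat.ble 107 c)
noncomputable def Atab_s_109_111 (c : Nat) : Nat := @Bool.rec (fun _ => Nat) (Atab_109) (Atab_110) (Nat.ble 110 c)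
noncomputable def Atab_s_111_113 (c : Nat) : Nat := @Bool.rec (fun _ => Nat) (Atab_111) (Atab_112) (Nat.ble 112 c)
noncomputable def Atab_s_109_113 (c : Nat) : Nat := @Bool.rec (fun _ => Nat) (Atab_s_109_111 c) (Atab_s_111_113 c) (Nat.ble 111 c)
noncomputable def Atab_s_105_113 (c : Nat) : Nat := @Bool.rec (fun _ => Nat) (Atab_s_105_109 c) (Atab_s_109_113 c) (Nat.ble 109 c)
noncomputable def Atab_s_98_113 (c : Nat) : Nat := @Bool.rec (fun _ => Nat) (Atab_s_98_105 c) (Atab_s_105_113 c) (Nat.ble 105 c)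
noncomputable def Atab_s_84_113 (c : Nat) : Nat := @Bool.rec (fun _ => Nat) (Atab_s_84_98 c) (Atab_s_98_113 c) (Nat.ble 98 c)
noncomputable def Atab_s_56_113 (c : Nat) : Nat := @Bool.rec (fun _ => Nat) (Atab_s_56_84 c) (Atab_s_84_113 c) (Nat.ble 84 c)
noncomputable def Atab_s_0_113 (c : Nat) : Nat := @Bool.rec (fun _ => Nat) (Atab_s_0_56 c) (Atab_s_56_113 c) (Nat.ble 56 c)
noncomputable def Atab_s_114_116 (c : Nat) : Nat := @Bool.rec (fun _ => Nat) (Atab_114) (Atab_115) (Nat.ble 115 c)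
noncomputable def Atab_s_113_116 (c : Nat) : Nat := @Bool.rec (fun _ => Nat) (Atab_113) (Atab_s_114_116 c) (Nat.ble 114 c)
noncomputable def Atab_s_116_118 (c : Nat) : Nat := @Bool.rec (fun _ => Nat) (Atab_116) (Atab_117) (Nat.ble 117 c)
noncomputable def Atab_s_118_120 (c : Nat) : Nat := @Bool.rec (fun _ => Nat) (Atab_118) (Atab_119) (Nat.ble 119 c)
noncomputable def Atab_s_116_120 (c : Nat) : Nat := @Bool.rec (fun _ => Nat) (Atab_s_116_118 c) (Atab_s_118_120 c) (Nat.ble 118 c)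
noncomputable def Atab_s_113_120 (c : Nat) : Nat := @Bool.rec (fun _ => Nat) (Atab_s_113_116 c) (Atab_s_116_120 c) (Nat.ble 116 c)
noncomputable def Atab_s_121_123 (c : Nat) : Nat := @Bool.rec (fun _ => Nat) (Atab_121) (Atab_122) (Nat.ble 122 c)
noncomputable def Atab_s_120_123 (c : Nat) : Nat := @Bool.rec (fun _ => Nat) (Atab_120) (Atab_s_121_123 c) (Nat.ble 121 c)
noncomputable def Atab_s_123_125 (c : Nat) : Nat := @Bool.rec (fun _ => Nat) (Atab_123) (Atab_124) (Nat.ble 124 c)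
noncomputable def Atab_s_125_127 (c : Nat) : Nat := @Bool.rec (fun _ => Nat) (Atab_125) (Atab_126) (Nat.ble 126 c)
noncomputable def Atab_s_123_127 (c : Nat) : Nat := @Bool.rec (fun _ => Nat) (Atab_s_123_125 c) (Atab_s_125_127 c) (Nat.ble 125 c)
noncomputable def Atab_s_120_127 (c : Nat) : Nat := @Bool.rec (fun _ => Nat) (Atab_s_120_123 c) (Atab_s_123_127 c) (Nat.ble 123 c)
noncomputable def Atab_s_113_127 (c : Nat) : Nat := @Bool.rec (fun _ => Nat) (Atab_s_113_120 c) (Atab_s_120_127 c) (Nat.ble 120 c)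
noncomputable def Atab_s_128_130 (c : Nat) : Nat := @Bool.rec (fun _ => Nat) (Atab_128) (Atab_129) (Nat.ble 129 c)
noncomputable def Atab_s_127_130 (c : Nat) : Nat := @Bool.rec (fun _ => Nat) (Atab_127) (Atab_s_128_130 c) (Nat.ble 128 c)
noncomputable def Atab_s_130_132 (c : Nat) : Nat := @Bool.rec (fun _ => Nat) (Atab_130) (Atab_131) (Nat.ble 131 c)
noncomputable def Atab_s_132_134 (c : Nat) : Nat := @Bool.rec (fun _ => Nat) (Atab_132) (Atab_133) (Nat.ble 133 c)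
noncomputable def Atab_s_130_134 (c : Nat) : Nat := @Bool.rec (fun _ => Nat) (Atab_s_130_132 c) (Atab_s_132_134 c) (Nat.ble 132 c)
noncomputable def Atab_s_127_134 (c : Nat) : Nat := @Bool.rec (fun _ => Nat) (Atab_s_127_130 c) (Atab_s_130_134 c) (Nat.ble 130 c)
noncomputable def Atab_s_135_137 (c : Nat) : Nat := @Bool.rec (fun _ => Nat) (Atab_135) (Atab_136) (Nat.ble 136 c)
noncomputable def Atab_s_134_137 (c : Nat) : Nat := @Bool.rec (fun _ => Nat) (Atab_134) (Atab_s_135_137 c) (Nat.ble 135 c)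
noncomputable def Atab_s_137_139 (c : Nat) : Nat := @Bool.rec (fun _ => Nat) (Atab_137) (Atab_138) (Nat.ble 138 c)
noncomputable def Atab_s_139_141 (c : Nat) : Nat := @Bool.rec (fun _ => Nat) (Atab_139) (Atab_140) (Nat.ble 140 c)
noncomputable def Atab_s_137_141 (c : Nat) : Nat := @Bool.rec (fun _ => Nat) (Atab_s_137_139 c) (Atab_s_139_141 c) (Nat.ble 139 c)
noncomputable def Atab_s_134_141 (c : Nat) : Nat := @Bool.rec (fun _ => Nat) (Atab_s_134_137 c) (Atab_s_137_141 c) (Nat.ble 137 c)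
noncomputable def Atab_s_127_141 (c : Nat) : Nat := @Bool.rec (fun _ => Nat) (Atab_s_127_134 c) (Atab_s_134_141 c) (Nat.ble 134 c)
noncomputable def Atab_s_113_141 (c : Nat) : Nat := @Bool.rec (fun _ => Nat) (Atab_s_113_127 c) (Atab_s_127_141 c) (Nat.ble 127 c)
noncomputable def Atab_s_142_144 (c : Nat) : Nat := @Bool.rec (fun _ => Nat) (Atab_142) (Atab_143) (Nat.ble 143 c)
noncomputable def Atab_s_141_144 (c : Nat) : Nat := @Bool.rec (fun _ => Nat) (Atab_141) (Atab_s_142_144 c) (Nat.ble 142 c)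
noncomputable def Atab_s_144_146 (c : Nat) : Nat := @Bool.rec (fun _ => Nat) (Atab_144) (Atab_145) (Nat.ble 145 c)
noncomputable def Atab_s_146_148 (c : Nat) : Nat := @Bool.rec (fun _ => Nat) (Atab_146) (Atab_147) (Nat.ble 147 c)
noncomputable def Atab_s_144_148 (c : Nat) : Nat := @Bool.rec (fun _ => Nat) (Atab_s_144_146 c) (Atab_s_146_148 c) (Nat.ble 146 c)
noncomputable def Atab_s_141_148 (c : Nat) : Nat := @Bool.rec (fun _ => Nat) (Atab_s_141_144 c) (Atab_s_144_148 c) (Nat.ble 144 c)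
noncomputable def Atab_s_149_151 (c : Nat) : Nat := @Bool.rec (fun _ => Nat) (Atab_149) (Atab_150) (Nat.ble 150 c)
noncomputable def Atab_s_148_151 (c : Nat) : Nat := @Bool.rec (fun _ => Nat) (Atab_148) (Atab_s_149_151 c) (Nat.ble 149 c)
noncomputable def Atab_s_151_153 (c : Nat) : Nat := @Bool.rec (fun _ => Nat) (Atab_151) (Atab_152) (Nat.ble 152 c)
noncomputable def Atab_s_153_155 (c : Nat) : Nat := @Bool.rec (fun _ => Nat) (Atab_153) (Atab_154) (Nat.ble 154 c)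
noncomputable def Atab_s_151_155 (c : Nat) : Nat := @Bool.rec (fun _ => Nat) (Atab_s_151_153 c) (Atab_s_153_155 c) (Nat.ble 153 c)
noncomputable def Atab_s_148_155 (c : Nat) : Nat := @Bool.rec (fun _ => Nat) (Atab_s_148_151 c) (Atab_s_151_155 c) (Nat.ble 151 c)
noncomputable def Atab_s_141_155 (c : Nat) : Nat := @Bool.rec (fun _ => Nat) (Atab_s_141_148 c) (Atab_s_148_155 c) (Nat.ble 148 c)
noncomputable def Atab_s_156_158 (c : Nat) : Nat := @Bool.rec (fun _ => Nat) (Atab_156) (Atab_157) (Nat.ble 157 c)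
noncomputable def Atab_s_155_158 (c : Nat) : Nat := @Bool.rec (fun _ => Nat) (Atab_155) (Atab_s_156_158 c) (Nat.ble 156 c)
noncomputable def Atab_s_158_160 (c : Nat) : Nat := @Bool.rec (fun _ => Nat) (Atab_158) (Atab_159) (Nat.ble 159 c)
noncomputable def Atab_s_160_162 (c : Nat) : Nat := @Bool.rec (fun _ => Nat) (Atab_160) (Atab_161) (Nat.ble 161 c)
noncomputable def Atab_s_158_162 (c : Nat) : Nat := @Bool.rec (fun _ => Nat) (Atab_s_158_160 c) (Atab_s_160_162 c) (Nat.ble 160 c)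
noncomputable def Atab_s_155_162 (c : Nat) : Nat := @Bool.rec (fun _ => Nat) (Atab_s_155_158 c) (Atab_s_158_162 c) (Nat.ble 158 c)
noncomputable def Atab_s_163_165 (c : Nat) : Nat := @Bool.rec (fun _ => Nat) (Atab_163) (Atab_164) (Nat.ble 164 c)
noncomputable def Atab_s_162_165 (c : Nat) : Nat := @Bool.rec (fun _ => Nat) (Atab_162) (Atab_s_163_165 c) (Nat.ble 163 c)
noncomputable def Atab_s_165_167 (c : Nat) : Nat := @Bool.rec (fun _ => Nat) (Atab_165) (Atab_166) (Nat.ble 166 c)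
noncomputable def Atab_s_167_169 (c : Nat) : Nat := @Bool.rec (fun _ => Nat) (Atab_167) (Atab_168) (Nat.ble 168 c)
noncomputable def Atab_s_165_169 (c : Nat) : Nat := @Bool.rec (fun _ => Nat) (Atab_s_165_167 c) (Atab_s_167_169 c) (Nat.ble 167 c)
noncomputable def Atab_s_162_169 (c : Nat) : Nat := @Bool.rec (fun _ => Nat) (Atab_s_162_165 c) (Atab_s_165_169 c) (Nat.ble 165 c)
noncomputable def Atab_s_155_169 (c : Nat) : Nat := @Bool.rec (fun _ => Nat) (Atab_s_155_162 c) (Atab_s_162_169 c) (Nat.ble 162 c)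
noncomputable def Atab_s_141_169 (c : Nat) : Nat := @Bool.rec (fun _ => Nat) (Atab_s_141_155 c) (Atab_s_155_169 c) (Nat.ble 155 c)
noncomputable def Atab_s_113_169 (c : Nat) : Nat := @Bool.rec (fun _ => Nat) (Atab_s_113_141 c) (Atab_s_141_169 c) (Nat.ble 141 c)
noncomputable def Atab_s_170_172 (c : Nat) : Nat := @Bool.rec (fun _ => Nat) (Atab_170) (Atab_171) (Nat.ble 171 c)
noncomputable def Atab_s_169_172 (c : Nat) : Nat := @Bool.rec (fun _ => Nat) (Atab_169) (Atab_s_170_172 c) (Nat.ble 170 c)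
noncomputable def Atab_s_172_174 (c : Nat) : Nat := @Bool.rec (fun _ => Nat) (Atab_172) (Atab_173) (Nat.ble 173 c)
noncomputable def Atab_s_174_176 (c : Nat) : Nat := @Bool.rec (fun _ => Nat) (Atab_174) (Atab_175) (Nat.ble 175 c)
noncomputable def Atab_s_172_176 (c : Nat) : Nat := @Bool.rec (fun _ => Nat) (Atab_s_172_174 c) (Atab_s_174_176 c) (Nat.ble 174 c)
noncomputable def Atab_s_169_176 (c : Nat) : Nat := @Bool.rec (fun _ => Nat) (Atab_s_169_172 c) (Atab_s_172_176 c) (Nat.ble 172 c)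
noncomputable def Atab_s_177_179 (c : Nat) : Nat := @Bool.rec (fun _ => Nat) (Atab_177) (Atab_178) (Nat.ble 178 c)
noncomputable def Atab_s_176_179 (c : Nat) : Nat := @Bool.rec (fun _ => Nat) (Atab_176) (Atab_s_177_179 c) (Nat.ble 177 c)
noncomputable def Atab_s_179_181 (c : Nat) : Nat := @Bool.rec (fun _ => Nat) (Atab_179) (Atab_180) (Nat.ble 180 c)
noncomputable def Atab_s_181_183 (c : Nat) : Nat := @Bool.rec (fun _ => Nat) (Atab_181) (Atab_182) (Nat.ble 182 c)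
noncomputable def Atab_s_179_183 (c : Nat) : Nat := @Bool.rec (fun _ => Nat) (Atab_s_179_181 c) (Atab_s_181_183 c) (Nat.ble 181 c)
noncomputable def Atab_s_176_183 (c : Nat) : Nat := @Bool.rec (fun _ => Nat) (Atab_s_176_179 c) (Atab_s_179_183 c) (Nat.ble 179 c)
noncomputable def Atab_s_169_183 (c : Nat) : Nat := @Bool.rec (fun _ => Nat) (Atab_s_169_176 c) (Atab_s_176_183 c) (Nat.ble 176 c)
noncomputable def Atab_s_184_186 (c : Nat) : Nat := @Bool.rec (fun _ => Nat) (Atab_184) (Atab_185) (Nat.ble 185 c)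
noncomputable def Atab_s_183_186 (c : Nat) : Nat := @Bool.rec (fun _ => Nat) (Atab_183) (Atab_s_184_186 c) (Nat.ble 184 c)
noncomputable def Atab_s_186_188 (c : Nat) : Nat := @Bool.rec (fun _ => Nat) (Atab_186) (Atab_187) (Nat.ble 187 c)
noncomputable def Atab_s_188_190 (c : Nat) : Nat := @Bool.rec (fun _ => Nat) (Atab_188) (Atab_189) (Nat.ble 189 c)
noncomputable def Atab_s_186_190 (c : Nat) : Nat := @Bool.rec (fun _ => Nat) (Atab_s_186_188 c) (Atab_s_188_190 c) (Nat.ble 188 c)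
noncomputable def Atab_s_183_190 (c : Nat) : Nat := @Bool.rec (fun _ => Nat) (Atab_s_183_186 c) (Atab_s_186_190 c) (Nat.ble 186 c)
noncomputable def Atab_s_191_193 (c : Nat) : Nat := @Bool.rec (fun _ => Nat) (Atab_191) (Atab_192) (Nat.ble 192 c)
noncomputable def Atab_s_190_193 (c : Nat) : Nat := @Bool.rec (fun _ => Nat) (Atab_190) (Atab_s_191_193 c) (Nat.ble 191 c)
noncomputable def Atab_s_193_195 (c : Nat) : Nat := @Bool.rec (fun _ => Nat) (Atab_193) (Atab_194) (Nat.ble 194 c)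
noncomputable def Atab_s_195_197 (c : Nat) : Nat := @Bool.rec (fun _ => Nat) (Atab_195) (Atab_196) (Nat.ble 196 c)
noncomputable def Atab_s_193_197 (c : Nat) : Nat := @Bool.rec (fun _ => Nat) (Atab_s_193_195 c) (Atab_s_195_197 c) (Nat.ble 195 c)
noncomputable def Atab_s_190_197 (c : Nat) : Nat := @Bool.rec (fun _ => Nat) (Atab_s_190_193 c) (Atab_s_193_197 c) (Nat.ble 193 c)
noncomputable def Atab_s_183_197 (c : Nat) : Nat := @Bool.rec (fun _ => Nat) (Atab_s_183_190 c) (Atab_s_190_197 c) (Nat.ble 190 c)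
noncomputable def Atab_s_169_197 (c : Nat) : Nat := @Bool.rec (fun _ => Nat) (Atab_s_169_183 c) (Atab_s_183_197 c) (Nat.ble 183 c)
noncomputable def Atab_s_198_200 (c : Nat) : Nat := @Bool.rec (fun _ => Nat) (Atab_198) (Atab_199) (Nat.ble 199 c)
noncomputable def Atab_s_197_200 (c : Nat) : Nat := @Bool.rec (fun _ => Nat) (Atab_197) (Atab_s_198_200 c) (Nat.ble 198 c)
noncomputable def Atab_s_200_202 (c : Nat) : Nat := @Bool.rec (fun _ => Nat) (Atab_200) (Atab_201) (Nat.ble 201 c)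
noncomputable def Atab_s_202_204 (c : Nat) : Nat := @Bool.rec (fun _ => Nat) (Atab_202) (Atab_203) (Nat.ble 203 c)
noncomputable def Atab_s_200_204 (c : Nat) : Nat := @Bool.rec (fun _ => Nat) (Atab_s_200_202 c) (Atab_s_202_204 c) (Nat.ble 202 c)
noncomputable def Atab_s_197_204 (c : Nat) : Nat := @Bool.rec (fun _ => Nat) (Atab_s_197_200 c) (Atab_s_200_204 c) (Nat.ble 200 c)
noncomputable def Atab_s_205_207 (c : Nat) : Nat := @Bool.rec (fun _ => Nat) (Atab_205) (Atab_206) (Nat.ble 206 c)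
noncomputable def Atab_s_204_207 (c : Nat) : Nat := @Bool.rec (fun _ => Nat) (Atab_204) (Atab_s_205_207 c) (Nat.ble 205 c)
noncomputable def Atab_s_207_209 (c : Nat) : Nat := @Bool.rec (fun _ => Nat) (Atab_207) (Atab_208) (Nat.ble 208 c)
noncomputable def Atab_s_209_211 (c : Nat) : Nat := @Bool.rec (fun _ => Nat) (Atab_209) (Atab_210) (Nat.ble 210 c)
noncomputable def Atab_s_207_211 (c : Nat) : Nat := @Bool.rec (fun _ => Nat) (Atab_s_207_209 c) (Atab_s_209_211 c) (Nat.ble 209 c)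
noncomputable def Atab_s_204_211 (c : Nat) : Nat := @Bool.rec (fun _ => Nat) (Atab_s_204_207 c) (Atab_s_207_211 c) (Nat.ble 207 c)
noncomputable def Atab_s_197_211 (c : Nat) : Nat := @Bool.rec (fun _ => Nat) (Atab_s_197_204 c) (Atab_s_204_211 c) (Nat.ble 204 c)
noncomputable def Atab_s_212_214 (c : Nat) : Nat := @Bool.rec (fun _ => Nat) (Atab_212) (Atab_213) (Nat.ble 213 c)
noncomputable def Atab_s_211_214 (c : Nat) : Nat := @Bool.rec (fun _ => Nat) (Atab_211) (Atab_s_212_214 c) (Nat.ble 212 c)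
noncomputable def Atab_s_214_216 (c : Nat) : Nat := @Bool.rec (fun _ => Nat) (Atab_214) (Atab_215) (Nat.ble 215 c)
noncomputable def Atab_s_216_218 (c : Nat) : Nat := @Bool.rec (fun _ => Nat) (Atab_216) (Atab_217) (Nat.ble 217 c)
noncomputable def Atab_s_214_218 (c : Nat) : Nat := @Bool.rec (fun _ => Nat) (Atab_s_214_216 c) (Atab_s_216_218 c) (Nat.ble 216 c)
noncomputable def Atab_s_211_218 (c : Nat) : Nat := @Bool.rec (fun _ => Nat) (Atab_s_211_214 c) (Atab_s_214_218 c) (Nat.ble 214 c)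
noncomputable def Atab_s_218_220 (c : Nat) : Nat := @Bool.rec (fun _ => Nat) (Atab_218) (Atab_219) (Nat.ble 219 c)
noncomputable def Atab_s_220_222 (c : Nat) : Nat := @Bool.rec (fun _ => Nat) (Atab_220) (Atab_221) (Nat.ble 221 c)
noncomputable def Atab_s_218_222 (c : Nat) : Nat := @Bool.rec (fun _ => Nat) (Atab_s_218_220 c) (Atab_s_220_222 c) (Nat.ble 220 c)
noncomputable def Atab_s_222_224 (c : Nat) : Nat := @Bool.rec (fun _ => Nat) (Atab_222) (Atab_223) (Nat.ble 223 c)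
noncomputable def Atab_s_224_226 (c : Nat) : Nat := @Bool.rec (fun _ => Nat) (Atab_224) (Atab_225) (Nat.ble 225 c)
noncomputable def Atab_s_222_226 (c : Nat) : Nat := @Bool.rec (fun _ => Nat) (Atab_s_222_224 c) (Atab_s_224_226 c) (Nat.ble 224 c)
noncomputable def Atab_s_218_226 (c : Nat) : Nat := @Bool.rec (fun _ => Nat) (Atab_s_218_222 c) (Atab_s_222_226 c) (Nat.ble 222 c)
noncomputable def Atab_s_211_226 (c : Nat) : Nat := @Bool.rec (fun _ => Nat) (Atab_s_211_218 c) (Atab_s_218_226 c) (Nat.ble 218 c)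
noncomputable def Atab_s_197_226 (c : Nat) : Nat := @Bool.rec (fun _ => Nat) (Atab_s_197_211 c) (Atab_s_211_226 c) (Nat.ble 211 c)
noncomputable def Atab_s_169_226 (c : Nat) : Nat := @Bool.rec (fun _ => Nat) (Atab_s_169_197 c) (Atab_s_197_226 c) (Nat.ble 197 c)
noncomputable def Atab_s_113_226 (c : Nat) : Nat := @Bool.rec (fun _ => Nat) (Atab_s_113_169 c) (Atab_s_169_226 c) (Nat.ble 169 c)
noncomputable def Atab_s_0_226 (c : Nat) : Nat := @Bool.rec (fun _ => Nat) (Atab_s_0_113 c) (Atab_s_113_226 c) (Nat.ble 113 c)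
noncomputable def Atab (i : Nat) : Nat := rdw 37 137438953471 (Atab_s_0_226 (Nat.shiftRight i 11)) (Nat.land i 2047)
noncomputable def Btab_s_1_3 (c : Nat) : Nat := @Bool.rec (fun _ => Nat) (Btab_1) (Btab_2) (Nat.ble 2 c)
noncomputable def Btab_s_0_3 (c : Nat) : Nat := @Bool.rec (fun _ => Nat) (Btab_0) (Btab_s_1_3 c) (Nat.ble 1 c)
noncomputable def Btab_s_4_6 (c : Nat) : Nat := @Bool.rec (fun _ => Nat) (Btab_4) (Btab_5) (Nat.ble 5 c)
noncomputable def Btab_s_3_6 (c : Nat) : Nat := @Bool.rec (fun _ => Nat) (Btab_3) (Btab_s_4_6 c) (Nat.ble 4 c)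
noncomputable def Btab_s_0_6 (c : Nat) : Nat := @Bool.rec (fun _ => Nat) (Btab_s_0_3 c) (Btab_s_3_6 c) (Nat.ble 3 c)
noncomputable def Btab_s_7_9 (c : Nat) : Nat := @Bool.rec (fun _ => Nat) (Btab_7) (Btab_8) (Nat.ble 8 c)
noncomputable def Btab_s_6_9 (c : Nat) : Nat := @Bool.rec (fun _ => Nat) (Btab_6) (Btab_s_7_9 c) (Nat.ble 7 c)
noncomputable def Btab_s_10_12 (c : Nat) : Nat := @Bool.rec (fun _ => Nat) (Btab_10) (Btab_11) (Nat.ble 11 c)
noncomputable def Btab_s_9_12 (c : Nat) : Nat := @Bool.rec (fun _ => Nat) (Btab_9) (Btab_s_10_12 c) (Nat.ble 10 c)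
noncomputable def Btab_s_6_12 (c : Nat) : Nat := @Bool.rec (fun _ => Nat) (Btab_s_6_9 c) (Btab_s_9_12 c) (Nat.ble 9 c)
noncomputable def Btab_s_0_12 (c : Nat) : Nat := @Bool.rec (fun _ => Nat) (Btab_s_0_6 c) (Btab_s_6_12 c) (Nat.ble 6 c)
noncomputable def Btab_s_13_15 (c : Nat) : Nat := @Bool.rec (fun _ => Nat) (Btab_13) (Btab_14) (Nat.ble 14 c)
noncomputable def Btab_s_12_15 (c : Nat) : Nat := @Bool.rec (fun _ => Nat) (Btab_12) (Btab_s_13_15 c) (Nat.ble 13 c)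
noncomputable def Btab_s_16_18 (c : Nat) : Nat := @Bool.rec (fun _ => Nat) (Btab_16) (Btab_17) (Nat.ble 17 c)
noncomputable def Btab_s_15_18 (c : Nat) : Nat := @Bool.rec (fun _ => Nat) (Btab_15) (Btab_s_16_18 c) (Nat.ble 16 c)
noncomputable def Btab_s_12_18 (c : Nat) : Nat := @Bool.rec (fun _ => Nat) (Btab_s_12_15 c) (Btab_s_15_18 c) (Nat.ble 15 c)
noncomputable def Btab_s_19_21 (c : Nat) : Nat := @Bool.rec (fun _ => Nat) (Btab_19) (Btab_20) (Nat.ble 20 c)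
noncomputable def Btab_s_18_21 (c : Nat) : Nat := @Bool.rec (fun _ => Nat) (Btab_18) (Btab_s_19_21 c) (Nat.ble 19 c)
noncomputable def Btab_s_22_24 (c : Nat) : Nat := @Bool.rec (fun _ => Nat) (Btab_22) (Btab_23) (Nat.ble 23 c)
noncomputable def Btab_s_21_24 (c : Nat) : Nat := @Bool.rec (fun _ => Nat) (Btab_21) (Btab_s_22_24 c) (Nat.ble 22 c)
noncomputable def Btab_s_18_24 (c : Nat) : Nat := @Bool.rec (fun _ => Nat) (Btab_s_18_21 c) (Btab_s_21_24 c) (Nat.ble 21 c)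
noncomputable def Btab_s_12_24 (c : Nat) : Nat := @Bool.rec (fun _ => Nat) (Btab_s_12_18 c) (Btab_s_18_24 c) (Nat.ble 18 c)
noncomputable def Btab_s_0_24 (c : Nat) : Nat := @Bool.rec (fun _ => Nat) (Btab_s_0_12 c) (Btab_s_12_24 c) (Nat.ble 12 c)
noncomputable def Btab_s_25_27 (c : Nat) : Nat := @Bool.rec (fun _ => Nat) (Btab_25) (Btab_26) (Nat.ble 26 c)
noncomputable def Btab_s_24_27 (c : Nat) : Nat := @Bool.rec (fun _ => Nat) (Btab_24) (Btab_s_25_27 c) (Nat.ble 25 c)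
noncomputable def Btab_s_28_30 (c : Nat) : Nat := @Bool.rec (fun _ => Nat) (Btab_28) (Btab_29) (Nat.ble 29 c)
noncomputable def Btab_s_27_30 (c : Nat) : Nat := @Bool.rec (fun _ => Nat) (Btab_27) (Btab_s_28_30 c) (Nat.ble 28 c)
noncomputable def Btab_s_24_30 (c : Nat) : Nat := @Bool.rec (fun _ => Nat) (Btab_s_24_27 c) (Btab_s_27_30 c) (Nat.ble 27 c)
noncomputable def Btab_s_31_33 (c : Nat) : Nat := @Bool.rec (fun _ => Nat) (Btab_31) (Btab_32) (Nat.ble 32 c)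
noncomputable def Btab_s_30_33 (c : Nat) : Nat := @Bool.rec (fun _ => Nat) (Btab_30) (Btab_s_31_33 c) (Nat.ble 31 c)
noncomputable def Btab_s_34_36 (c : Nat) : Nat := @Bool.rec (fun _ => Nat) (Btab_34) (Btab_35) (Nat.ble 35 c)
noncomputable def Btab_s_33_36 (c : Nat) : Nat := @Bool.rec (fun _ => Nat) (Btab_33) (Btab_s_34_36 c) (Nat.ble 34 c)
noncomputable def Btab_s_30_36 (c : Nat) : Nat := @Bool.rec (fun _ => Nat) (Btab_s_30_33 c) (Btab_s_33_36 c) (Nat.ble 33 c)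
noncomputable def Btab_s_24_36 (c : Nat) : Nat := @Bool.rec (fun _ => Nat) (Btab_s_24_30 c) (Btab_s_30_36 c) (Nat.ble 30 c)
noncomputable def Btab_s_37_39 (c : Nat) : Nat := @Bool.rec (fun _ => Nat) (Btab_37) (Btab_38) (Nat.ble 38 c)
noncomputable def Btab_s_36_39 (c : Nat) : Nat := @Bool.rec (fun _ => Nat) (Btab_36) (Btab_s_37_39 c) (Nat.ble 37 c)
noncomputable def Btab_s_40_42 (c : Nat) : Nat := @Bool.rec (fun _ => Nat) (Btab_40) (Btab_41) (Nat.ble 41 c)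
noncomputable def Btab_s_39_42 (c : Nat) : Nat := @Bool.rec (fun _ => Nat) (Btab_39) (Btab_s_40_42 c) (Nat.ble 40 c)
noncomputable def Btab_s_36_42 (c : Nat) : Nat := @Bool.rec (fun _ => Nat) (Btab_s_36_39 c) (Btab_s_39_42 c) (Nat.ble 39 c)
noncomputable def Btab_s_43_45 (c : Nat) : Nat := @Bool.rec (fun _ => Nat) (Btab_43) (Btab_44) (Nat.ble 44 c)
noncomputable def Btab_s_42_45 (c : Nat) : Nat := @Bool.rec (fun _ => Nat) (Btab_42) (Btab_s_43_45 c) (Nat.ble 43 c)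
noncomputable def Btab_s_46_48 (c : Nat) : Nat := @Bool.rec (fun _ => Nat) (Btab_46) (Btab_47) (Nat.ble 47 c)
noncomputable def Btab_s_45_48 (c : Nat) : Nat := @Bool.rec (fun _ => Nat) (Btab_45) (Btab_s_46_48 c) (Nat.ble 46 c)
noncomputable def Btab_s_42_48 (c : Nat) : Nat := @Bool.rec (fun _ => Nat) (Btab_s_42_45 c) (Btab_s_45_48 c) (Nat.ble 45 c)
noncomputable def Btab_s_36_48 (c : Nat) : Nat := @Bool.rec (fun _ => Nat) (Btab_s_36_42 c) (Btab_s_42_48 c) (Nat.ble 42 c)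
noncomputable def Btab_s_24_48 (c : Nat) : Nat := @Bool.rec (fun _ => Nat) (Btab_s_24_36 c) (Btab_s_36_48 c) (Nat.ble 36 c)
noncomputable def Btab_s_0_48 (c : Nat) : Nat := @Bool.rec (fun _ => Nat) (Btab_s_0_24 c) (Btab_s_24_48 c) (Nat.ble 24 c)
noncomputable def Btab_s_49_51 (c : Nat) : Nat := @Bool.rec (fun _ => Nat) (Btab_49) (Btab_50) (Nat.ble 50 c)
noncomputable def Btab_s_48_51 (c : Nat) : Nat := @Bool.rec (fun _ => Nat) (Btab_48) (Btab_s_49_51 c) (Nat.ble 49 c)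
noncomputable def Btab_s_52_54 (c : Nat) : Nat := @Bool.rec (fun _ => Nat) (Btab_52) (Btab_53) (Nat.ble 53 c)
noncomputable def Btab_s_51_54 (c : Nat) : Nat := @Bool.rec (fun _ => Nat) (Btab_51) (Btab_s_52_54 c) (Nat.ble 52 c)
noncomputable def Btab_s_48_54 (c : Nat) : Nat := @Bool.rec (fun _ => Nat) (Btab_s_48_51 c) (Btab_s_51_54 c) (Nat.ble 51 c)
noncomputable def Btab_s_55_57 (c : Nat) : Nat := @Bool.rec (fun _ => Nat) (Btab_55) (Btab_56) (Nat.ble 56 c)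
noncomputable def Btab_s_54_57 (c : Nat) : Nat := @Bool.rec (fun _ => Nat) (Btab_54) (Btab_s_55_57 c) (Nat.ble 55 c)
noncomputable def Btab_s_58_60 (c : Nat) : Nat := @Bool.rec (fun _ => Nat) (Btab_58) (Btab_59) (Nat.ble 59 c)
noncomputable def Btab_s_57_60 (c : Nat) : Nat := @Bool.rec (fun _ => Nat) (Btab_57) (Btab_s_58_60 c) (Nat.ble 58 c)
noncomputable def Btab_s_54_60 (c : Nat) : Nat := @Bool.rec (fun _ => Nat) (Btab_s_54_57 c) (Btab_s_57_60 c) (Nat.ble 57 c)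
noncomputable def Btab_s_48_60 (c : Nat) : Nat := @Bool.rec (fun _ => Nat) (Btab_s_48_54 c) (Btab_s_54_60 c) (Nat.ble 54 c)
noncomputable def Btab_s_61_63 (c : Nat) : Nat := @Bool.rec (fun _ => Nat) (Btab_61) (Btab_62) (Nat.ble 62 c)
noncomputable def Btab_s_60_63 (c : Nat) : Nat := @Bool.rec (fun _ => Nat) (Btab_60) (Btab_s_61_63 c) (Nat.ble 61 c)
noncomputable def Btab_s_64_66 (c : Nat) : Nat := @Bool.rec (fun _ => Nat) (Btab_64) (Btab_65) (Nat.ble 65 c)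
noncomputable def Btab_s_63_66 (c : Nat) : Nat := @Bool.rec (fun _ => Nat) (Btab_63) (Btab_s_64_66 c) (Nat.ble 64 c)
noncomputable def Btab_s_60_66 (c : Nat) : Nat := @Bool.rec (fun _ => Nat) (Btab_s_60_63 c) (Btab_s_63_66 c) (Nat.ble 63 c)
noncomputable def Btab_s_67_69 (c : Nat) : Nat := @Bool.rec (fun _ => Nat) (Btab_67) (Btab_68) (Nat.ble 68 c)
noncomputable def Btab_s_66_69 (c : Nat) : Nat := @Bool.rec (fun _ => Nat) (Btab_66) (Btab_s_67_69 c) (Nat.ble 67 c)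
noncomputable def Btab_s_70_72 (c : Nat) : Nat := @Bool.rec (fun _ => Nat) (Btab_70) (Btab_71) (Nat.ble 71 c)
noncomputable def Btab_s_69_72 (c : Nat) : Nat := @Bool.rec (fun _ => Nat) (Btab_69) (Btab_s_70_72 c) (Nat.ble 70 c)
noncomputable def Btab_s_66_72 (c : Nat) : Nat := @Bool.rec (fun _ => Nat) (Btab_s_66_69 c) (Btab_s_69_72 c) (Nat.ble 69 c)
noncomputable def Btab_s_60_72 (c : Nat) : Nat := @Bool.rec (fun _ => Nat) (Btab_s_60_66 c) (Btab_s_66_72 c) (Nat.ble 66 c)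
noncomputable def Btab_s_48_72 (c : Nat) : Nat := @Bool.rec (fun _ => Nat) (Btab_s_48_60 c) (Btab_s_60_72 c) (Nat.ble 60 c)
noncomputable def Btab_s_73_75 (c : Nat) : Nat := @Bool.rec (fun _ => Nat) (Btab_73) (Btab_74) (Nat.ble 74 c)
noncomputable def Btab_s_72_75 (c : Nat) : Nat := @Bool.rec (fun _ => Nat) (Btab_72) (Btab_s_73_75 c) (Nat.ble 73 c)
noncomputable def Btab_s_76_78 (c : Nat) : Nat := @Bool.rec (fun _ => Nat) (Btab_76) (Btab_77) (Nat.ble 77 c)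
noncomputable def Btab_s_75_78 (c : Nat) : Nat := @Bool.rec (fun _ => Nat) (Btab_75) (Btab_s_76_78 c) (Nat.ble 76 c)
noncomputable def Btab_s_72_78 (c : Nat) : Nat := @Bool.rec (fun _ => Nat) (Btab_s_72_75 c) (Btab_s_75_78 c) (Nat.ble 75 c)
noncomputable def Btab_s_79_81 (c : Nat) : Nat := @Bool.rec (fun _ => Nat) (Btab_79) (Btab_80) (Nat.ble 80 c)
noncomputable def Btab_s_78_81 (c : Nat) : Nat := @Bool.rec (fun _ => Nat) (Btab_78) (Btab_s_79_81 c) (Nat.ble 79 c)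
noncomputable def Btab_s_82_84 (c : Nat) : Nat := @Bool.rec (fun _ => Nat) (Btab_82) (Btab_83) (Nat.ble 83 c)
noncomputable def Btab_s_81_84 (c : Nat) : Nat := @Bool.rec (fun _ => Nat) (Btab_81) (Btab_s_82_84 c) (Nat.ble 82 c)
noncomputable def Btab_s_78_84 (c : Nat) : Nat := @Bool.rec (fun _ => Nat) (Btab_s_78_81 c) (Btab_s_81_84 c) (Nat.ble 81 c)
noncomputable def Btab_s_72_84 (c : Nat) : Nat := @Bool.rec (fun _ => Nat) (Btab_s_72_78 c) (Btab_s_78_84 c) (Nat.ble 78 c)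
noncomputable def Btab_s_85_87 (c : Nat) : Nat := @Bool.rec (fun _ => Nat) (Btab_85) (Btab_86) (Nat.ble 86 c)
noncomputable def Btab_s_84_87 (c : Nat) : Nat := @Bool.rec (fun _ => Nat) (Btab_84) (Btab_s_85_87 c) (Nat.ble 85 c)
noncomputable def Btab_s_88_90 (c : Nat) : Nat := @Bool.rec (fun _ => Nat) (Btab_88) (Btab_89) (Nat.ble 89 c)
noncomputable def Btab_s_87_90 (c : Nat) : Nat := @Bool.rec (fun _ => Nat) (Btab_87) (Btab_s_88_90 c) (Nat.ble 88 c)
noncomputable def Btab_s_84_90 (c : Nat) : Nat := @Bool.rec (fun _ => Nat) (Btab_s_84_87 c) (Btab_s_87_90 c) (Nat.ble 87 c)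
noncomputable def Btab_s_91_93 (c : Nat) : Nat := @Bool.rec (fun _ => Nat) (Btab_91) (Btab_92) (Nat.ble 92 c)
noncomputable def Btab_s_90_93 (c : Nat) : Nat := @Bool.rec (fun _ => Nat) (Btab_90) (Btab_s_91_93 c) (Nat.ble 91 c)
noncomputable def Btab_s_93_95 (c : Nat) : Nat := @Bool.rec (fun _ => Nat) (Btab_93) (Btab_94) (Nat.ble 94 c)
noncomputable def Btab_s_95_97 (c : Nat) : Nat := @Bool.rec (fun _ => Nat) (Btab_95) (Btab_96) (Nat.ble 96 c)
noncomputable def Btab_s_93_97 (c : Nat) : Nat := @Bool.rec (fun _ => Nat) (Btab_s_93_95 c) (Btab_s_95_97 c) (Nat.ble 95 c)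
noncomputable def Btab_s_90_97 (c : Nat) : Nat := @Bool.rec (fun _ => Nat) (Btab_s_90_93 c) (Btab_s_93_97 c) (Nat.ble 93 c)
noncomputable def Btab_s_84_97 (c : Nat) : Nat := @Bool.rec (fun _ => Nat) (Btab_s_84_90 c) (Btab_s_90_97 c) (Nat.ble 90 c)
noncomputable def Btab_s_72_97 (c : Nat) : Nat := @Bool.rec (fun _ => Nat) (Btab_s_72_84 c) (Btab_s_84_97 c) (Nat.ble 84 c)
noncomputable def Btab_s_48_97 (c : Nat) : Nat := @Bool.rec (fun _ => Nat) (Btab_s_48_72 c) (Btab_s_72_97 c) (Nat.ble 72 c)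
noncomputable def Btab_s_0_97 (c : Nat) : Nat := @Bool.rec (fun _ => Nat) (Btab_s_0_48 c) (Btab_s_48_97 c) (Nat.ble 48 c)
noncomputable def Btab_s_98_100 (c : Nat) : Nat := @Bool.rec (fun _ => Nat) (Btab_98) (Btab_99) (Nat.ble 99 c)
noncomputable def Btab_s_97_100 (c : Nat) : Nat := @Bool.rec (fun _ => Nat) (Btab_97) (Btab_s_98_100 c) (Nat.ble 98 c)
noncomputable def Btab_s_101_103 (c : Nat) : Nat := @Bool.rec (fun _ => Nat) (Btab_101) (Btab_102) (Nat.ble 102 c)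
noncomputable def Btab_s_100_103 (c : Nat) : Nat := @Bool.rec (fun _ => Nat) (Btab_100) (Btab_s_101_103 c) (Nat.ble 101 c)
noncomputable def Btab_s_97_103 (c : Nat) : Nat := @Bool.rec (fun _ => Nat) (Btab_s_97_100 c) (Btab_s_100_103 c) (Nat.ble 100 c)
noncomputable def Btab_s_104_106 (c : Nat) : Nat := @Bool.rec (fun _ => Nat) (Btab_104) (Btab_105) (Nat.ble 105 c)
noncomputable def Btab_s_103_106 (c : Nat) : Nat := @Bool.rec (fun _ => Nat) (Btab_103) (Btab_s_104_106 c) (Nat.ble 104 c)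
noncomputable def Btab_s_107_109 (c : Nat) : Nat := @Bool.rec (fun _ => Nat) (Btab_107) (Btab_108) (Nat.ble 108 c)
noncomputable def Btab_s_106_109 (c : Nat) : Nat := @Bool.rec (fun _ => Nat) (Btab_106) (Btab_s_107_109 c) (Nat.ble 107 c)
noncomputable def Btab_s_103_109 (c : Nat) : Nat := @Bool.rec (fun _ => Nat) (Btab_s_103_106 c) (Btab_s_106_109 c) (Nat.ble 106 c)
noncomputable def Btab_s_97_109 (c : Nat) : Nat := @Bool.rec (fun _ => Nat) (Btab_s_97_103 c) (Btab_s_103_109 c) (Nat.ble 103 c)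
noncomputable def Btab_s_110_112 (c : Nat) : Nat := @Bool.rec (fun _ => Nat) (Btab_110) (Btab_111) (Nat.ble 111 c)
noncomputable def Btab_s_109_112 (c : Nat) : Nat := @Bool.rec (fun _ => Nat) (Btab_109) (Btab_s_110_112 c) (Nat.ble 110 c)
noncomputable def Btab_s_113_115 (c : Nat) : Nat := @Bool.rec (fun _ => Nat) (Btab_113) (Btab_114) (Nat.ble 114 c)
noncomputable def Btab_s_112_115 (c : Nat) : Nat := @Bool.rec (fun _ => Nat) (Btab_112) (Btab_s_113_115 c) (Nat.ble 113 c)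
noncomputable def Btab_s_109_115 (c : Nat) : Nat := @Bool.rec (fun _ => Nat) (Btab_s_109_112 c) (Btab_s_112_115 c) (Nat.ble 112 c)
noncomputable def Btab_s_116_118 (c : Nat) : Nat := @Bool.rec (fun _ => Nat) (Btab_116) (Btab_117) (Nat.ble 117 c)
noncomputable def Btab_s_115_118 (c : Nat) : Nat := @Bool.rec (fun _ => Nat) (Btab_115) (Btab_s_116_118 c) (Nat.ble 116 c)
noncomputable def Btab_s_119_121 (c : Nat) : Nat := @Bool.rec (fun _ => Nat) (Btab_119) (Btab_120) (Nat.ble 120 c)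
noncomputable def Btab_s_118_121 (c : Nat) : Nat := @Bool.rec (fun _ => Nat) (Btab_118) (Btab_s_119_121 c) (Nat.ble 119 c)
noncomputable def Btab_s_115_121 (c : Nat) : Nat := @Bool.rec (fun _ => Nat) (Btab_s_115_118 c) (Btab_s_118_121 c) (Nat.ble 118 c)
noncomputable def Btab_s_109_121 (c : Nat) : Nat := @Bool.rec (fun _ => Nat) (Btab_s_109_115 c) (Btab_s_115_121 c) (Nat.ble 115 c)
noncomputable def Btab_s_97_121 (c : Nat) : Nat := @Bool.rec (fun _ => Nat) (Btab_s_97_109 c) (Btab_s_109_121 c) (Nat.ble 109 c)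
noncomputable def Btab_s_122_124 (c : Nat) : Nat := @Bool.rec (fun _ => Nat) (Btab_122) (Btab_123) (Nat.ble 123 c)
noncomputable def Btab_s_121_124 (c : Nat) : Nat := @Bool.rec (fun _ => Nat) (Btab_121) (Btab_s_122_124 c) (Nat.ble 122 c)
noncomputable def Btab_s_125_127 (c : Nat) : Nat := @Bool.rec (fun _ => Nat) (Btab_125) (Btab_126) (Nat.ble 126 c)
noncomputable def Btab_s_124_127 (c : Nat) : Nat := @Bool.rec (fun _ => Nat) (Btab_124) (Btab_s_125_127 c) (Nat.ble 125 c)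
noncomputable def Btab_s_121_127 (c : Nat) : Nat := @Bool.rec (fun _ => Nat) (Btab_s_121_124 c) (Btab_s_124_127 c) (Nat.ble 124 c)
noncomputable def Btab_s_128_130 (c : Nat) : Nat := @Bool.rec (fun _ => Nat) (Btab_128) (Btab_129) (Nat.ble 129 c)
noncomputable def Btab_s_127_130 (c : Nat) : Nat := @Bool.rec (fun _ => Nat) (Btab_127) (Btab_s_128_130 c) (Nat.ble 128 c)
noncomputable def Btab_s_131_133 (c : Nat) : Nat := @Bool.rec (fun _ => Nat) (Btab_131) (Btab_132) (Nat.ble 132 c)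
noncomputable def Btab_s_130_133 (c : Nat) : Nat := @Bool.rec (fun _ => Nat) (Btab_130) (Btab_s_131_133 c) (Nat.ble 131 c)
noncomputable def Btab_s_127_133 (c : Nat) : Nat := @Bool.rec (fun _ => Nat) (Btab_s_127_130 c) (Btab_s_130_133 c) (Nat.ble 130 c)
noncomputable def Btab_s_121_133 (c : Nat) : Nat := @Bool.rec (fun _ => Nat) (Btab_s_121_127 c) (Btab_s_127_133 c) (Nat.ble 127 c)
noncomputable def Btab_s_134_136 (c : Nat) : Nat := @Bool.rec (fun _ => Nat) (Btab_134) (Btab_135) (Nat.ble 135 c)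
noncomputable def Btab_s_133_136 (c : Nat) : Nat := @Bool.rec (fun _ => Nat) (Btab_133) (Btab_s_134_136 c) (Nat.ble 134 c)
noncomputable def Btab_s_137_139 (c : Nat) : Nat := @Bool.rec (fun _ => Nat) (Btab_137) (Btab_138) (Nat.ble 138 c)
noncomputable def Btab_s_136_139 (c : Nat) : Nat := @Bool.rec (fun _ => Nat) (Btab_136) (Btab_s_137_139 c) (Nat.ble 137 c)
noncomputable def Btab_s_133_139 (c : Nat) : Nat := @Bool.rec (fun _ => Nat) (Btab_s_133_136 c) (Btab_s_136_139 c) (Nat.ble 136 c)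
noncomputable def Btab_s_140_142 (c : Nat) : Nat := @Bool.rec (fun _ => Nat) (Btab_140) (Btab_141) (Nat.ble 141 c)
noncomputable def Btab_s_139_142 (c : Nat) : Nat := @Bool.rec (fun _ => Nat) (Btab_139) (Btab_s_140_142 c) (Nat.ble 140 c)
noncomputable def Btab_s_143_145 (c : Nat) : Nat := @Bool.rec (fun _ => Nat) (Btab_143) (Btab_144) (Nat.ble 144 c)
noncomputable def Btab_s_142_145 (c : Nat) : Nat := @Bool.rec (fun _ => Nat) (Btab_142) (Btab_s_143_145 c) (Nat.ble 143 c)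
noncomputable def Btab_s_139_145 (c : Nat) : Nat := @Bool.rec (fun _ => Nat) (Btab_s_139_142 c) (Btab_s_142_145 c) (Nat.ble 142 c)
noncomputable def Btab_s_133_145 (c : Nat) : Nat := @Bool.rec (fun _ => Nat) (Btab_s_133_139 c) (Btab_s_139_145 c) (Nat.ble 139 c)
noncomputable def Btab_s_121_145 (c : Nat) : Nat := @Bool.rec (fun _ => Nat) (Btab_s_121_133 c) (Btab_s_133_145 c) (Nat.ble 133 c)
noncomputable def Btab_s_97_145 (c : Nat) : Nat := @Bool.rec (fun _ => Nat) (Btab_s_97_121 c) (Btab_s_121_145 c) (Nat.ble 121 c)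
noncomputable def Btab_s_146_148 (c : Nat) : Nat := @Bool.rec (fun _ => Nat) (Btab_146) (Btab_147) (Nat.ble 147 c)
noncomputable def Btab_s_145_148 (c : Nat) : Nat := @Bool.rec (fun _ => Nat) (Btab_145) (Btab_s_146_148 c) (Nat.ble 146 c)
noncomputable def Btab_s_149_151 (c : Nat) : Nat := @Bool.rec (fun _ => Nat) (Btab_149) (Btab_150) (Nat.ble 150 c)
noncomputable def Btab_s_148_151 (c : Nat) : Nat := @Bool.rec (fun _ => Nat) (Btab_148) (Btab_s_149_151 c) (Nat.ble 149 c)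
noncomputable def Btab_s_145_151 (c : Nat) : Nat := @Bool.rec (fun _ => Nat) (Btab_s_145_148 c) (Btab_s_148_151 c) (Nat.ble 148 c)
noncomputable def Btab_s_152_154 (c : Nat) : Nat := @Bool.rec (fun _ => Nat) (Btab_152) (Btab_153) (Nat.ble 153 c)
noncomputable def Btab_s_151_154 (c : Nat) : Nat := @Bool.rec (fun _ => Nat) (Btab_151) (Btab_s_152_154 c) (Nat.ble 152 c)
noncomputable def Btab_s_155_157 (c : Nat) : Nat := @Bool.rec (fun _ => Nat) (Btab_155) (Btab_156) (Nat.ble 156 c)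
noncomputable def Btab_s_154_157 (c : Nat) : Nat := @Bool.rec (fun _ => Nat) (Btab_154) (Btab_s_155_157 c) (Nat.ble 155 c)
noncomputable def Btab_s_151_157 (c : Nat) : Nat := @Bool.rec (fun _ => Nat) (Btab_s_151_154 c) (Btab_s_154_157 c) (Nat.ble 154 c)
noncomputable def Btab_s_145_157 (c : Nat) : Nat := @Bool.rec (fun _ => Nat) (Btab_s_145_151 c) (Btab_s_151_157 c) (Nat.ble 151 c)
noncomputable def Btab_s_158_160 (c : Nat) : Nat := @Bool.rec (fun _ => Nat) (Btab_158) (Btab_159) (Nat.ble 159 c)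
noncomputable def Btab_s_157_160 (c : Nat) : Nat := @Bool.rec (fun _ => Nat) (Btab_157) (Btab_s_158_160 c) (Nat.ble 158 c)
noncomputable def Btab_s_161_163 (c : Nat) : Nat := @Bool.rec (fun _ => Nat) (Btab_161) (Btab_162) (Nat.ble 162 c)
noncomputable def Btab_s_160_163 (c : Nat) : Nat := @Bool.rec (fun _ => Nat) (Btab_160) (Btab_s_161_163 c) (Nat.ble 161 c)
noncomputable def Btab_s_157_163 (c : Nat) : Nat := @Bool.rec (fun _ => Nat) (Btab_s_157_160 c) (Btab_s_160_163 c) (Nat.ble 160 c)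
noncomputable def Btab_s_164_166 (c : Nat) : Nat := @Bool.rec (fun _ => Nat) (Btab_164) (Btab_165) (Nat.ble 165 c)
noncomputable def Btab_s_163_166 (c : Nat) : Nat := @Bool.rec (fun _ => Nat) (Btab_163) (Btab_s_164_166 c) (Nat.ble 164 c)
noncomputable def Btab_s_167_169 (c : Nat) : Nat := @Bool.rec (fun _ => Nat) (Btab_167) (Btab_168) (Nat.ble 168 c)
noncomputable def Btab_s_166_169 (c : Nat) : Nat := @Bool.rec (fun _ => Nat) (Btab_166) (Btab_s_167_169 c) (Nat.ble 167 c)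
noncomputable def Btab_s_163_169 (c : Nat) : Nat := @Bool.rec (fun _ => Nat) (Btab_s_163_166 c) (Btab_s_166_169 c) (Nat.ble 166 c)
noncomputable def Btab_s_157_169 (c : Nat) : Nat := @Bool.rec (fun _ => Nat) (Btab_s_157_163 c) (Btab_s_163_169 c) (Nat.ble 163 c)
noncomputable def Btab_s_145_169 (c : Nat) : Nat := @Bool.rec (fun _ => Nat) (Btab_s_145_157 c) (Btab_s_157_169 c) (Nat.ble 157 c)
noncomputable def Btab_s_170_172 (c : Nat) : Nat := @Bool.rec (fun _ => Nat) (Btab_170) (Btab_171) (Nat.ble 171 c)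
noncomputable def Btab_s_169_172 (c : Nat) : Nat := @Bool.rec (fun _ => Nat) (Btab_169) (Btab_s_170_172 c) (Nat.ble 170 c)
noncomputable def Btab_s_173_175 (c : Nat) : Nat := @Bool.rec (fun _ => Nat) (Btab_173) (Btab_174) (Nat.ble 174 c)
noncomputable def Btab_s_172_175 (c : Nat) : Nat := @Bool.rec (fun _ => Nat) (Btab_172) (Btab_s_173_175 c) (Nat.ble 173 c)
noncomputable def Btab_s_169_175 (c : Nat) : Nat := @Bool.rec (fun _ => Nat) (Btab_s_169_172 c) (Btab_s_172_175 c) (Nat.ble 172 c)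
noncomputable def Btab_s_176_178 (c : Nat) : Nat := @Bool.rec (fun _ => Nat) (Btab_176) (Btab_177) (Nat.ble 177 c)
noncomputable def Btab_s_175_178 (c : Nat) : Nat := @Bool.rec (fun _ => Nat) (Btab_175) (Btab_s_176_178 c) (Nat.ble 176 c)
noncomputable def Btab_s_179_181 (c : Nat) : Nat := @Bool.rec (fun _ => Nat) (Btab_179) (Btab_180) (Nat.ble 180 c)
noncomputable def Btab_s_178_181 (c : Nat) : Nat := @Bool.rec (fun _ => Nat) (Btab_178) (Btab_s_179_181 c) (Nat.ble 179 c)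
noncomputable def Btab_s_175_181 (c : Nat) : Nat := @Bool.rec (fun _ => Nat) (Btab_s_175_178 c) (Btab_s_178_181 c) (Nat.ble 178 c)
noncomputable def Btab_s_169_181 (c : Nat) : Nat := @Bool.rec (fun _ => Nat) (Btab_s_169_175 c) (Btab_s_175_181 c) (Nat.ble 175 c)
noncomputable def Btab_s_182_184 (c : Nat) : Nat := @Bool.rec (fun _ => Nat) (Btab_182) (Btab_183) (Nat.ble 183 c)
noncomputable def Btab_s_181_184 (c : Nat) : Nat := @Bool.rec (fun _ => Nat) (Btab_181) (Btab_s_182_184 c) (Nat.ble 182 c)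
noncomputable def Btab_s_185_187 (c : Nat) : Nat := @Bool.rec (fun _ => Nat) (Btab_185) (Btab_186) (Nat.ble 186 c)
noncomputable def Btab_s_184_187 (c : Nat) : Nat := @Bool.rec (fun _ => Nat) (Btab_184) (Btab_s_185_187 c) (Nat.ble 185 c)
noncomputable def Btab_s_181_187 (c : Nat) : Nat := @Bool.rec (fun _ => Nat) (Btab_s_181_184 c) (Btab_s_184_187 c) (Nat.ble 184 c)
noncomputable def Btab_s_188_190 (c : Nat) : Nat := @Bool.rec (fun _ => Nat) (Btab_188) (Btab_189) (Nat.ble 189 c)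
noncomputable def Btab_s_187_190 (c : Nat) : Nat := @Bool.rec (fun _ => Nat) (Btab_187) (Btab_s_188_190 c) (Nat.ble 188 c)
noncomputable def Btab_s_190_192 (c : Nat) : Nat := @Bool.rec (fun _ => Nat) (Btab_190) (Btab_191) (Nat.ble 191 c)
noncomputable def Btab_s_192_194 (c : Nat) : Nat := @Bool.rec (fun _ => Nat) (Btab_192) (Btab_193) (Nat.ble 193 c)
noncomputable def Btab_s_190_194 (c : Nat) : Nat := @Bool.rec (fun _ => Nat) (Btab_s_190_192 c) (Btab_s_192_194 c) (Nat.ble 192 c)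
noncomputable def Btab_s_187_194 (c : Nat) : Nat := @Bool.rec (fun _ => Nat) (Btab_s_187_190 c) (Btab_s_190_194 c) (Nat.ble 190 c)
noncomputable def Btab_s_181_194 (c : Nat) : Nat := @Bool.rec (fun _ => Nat) (Btab_s_181_187 c) (Btab_s_187_194 c) (Nat.ble 187 c)
noncomputable def Btab_s_169_194 (c : Nat) : Nat := @Bool.rec (fun _ => Nat) (Btab_s_169_181 c) (Btab_s_181_194 c) (Nat.ble 181 c)
noncomputable def Btab_s_145_194 (c : Nat) : Nat := @Bool.rec (fun _ => Nat) (Btab_s_145_169 c) (Btab_s_169_194 c) (Nat.ble 169 c)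
noncomputable def Btab_s_97_194 (c : Nat) : Nat := @Bool.rec (fun _ => Nat) (Btab_s_97_145 c) (Btab_s_145_194 c) (Nat.ble 145 c)
noncomputable def Btab_s_0_194 (c : Nat) : Nat := @Bool.rec (fun _ => Nat) (Btab_s_0_97 c) (Btab_s_97_194 c) (Nat.ble 97 c)
noncomputable def Btab (i : Nat) : Nat := rdw 41 2199023255551 (Btab_s_0_194 (Nat.shiftRight i 11)) (Nat.land i 2047)
noncomputable def Ptab_s_0_2 (c : Nat) : Nat := @Bool.rec (fun _ => Nat) (Ptab_0) (Ptab_1) (Nat.ble 1 c)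
noncomputable def Ptab_s_3_5 (c : Nat) : Nat := @Bool.rec (fun _ => Nat) (Ptab_3) (Ptab_4) (Nat.ble 4 c)
noncomputable def Ptab_s_2_5 (c : Nat) : Nat := @Bool.rec (fun _ => Nat) (Ptab_2) (Ptab_s_3_5 c) (Nat.ble 3 c)
noncomputable def Ptab_s_0_5 (c : Nat) : Nat := @Bool.rec (fun _ => Nat) (Ptab_s_0_2 c) (Ptab_s_2_5 c) (Nat.ble 2 c)
noncomputable def Ptab_s_6_8 (c : Nat) : Nat := @Bool.rec (fun _ => Nat) (Ptab_6) (Ptab_7) (Nat.ble 7 c)
noncomputable def Ptab_s_5_8 (c : Nat) : Nat := @Bool.rec (fun _ => Nat) (Ptab_5) (Ptab_s_6_8 c) (Nat.ble 6 c)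
noncomputable def Ptab_s_9_11 (c : Nat) : Nat := @Bool.rec (fun _ => Nat) (Ptab_9) (Ptab_10) (Nat.ble 10 c)
noncomputable def Ptab_s_8_11 (c : Nat) : Nat := @Bool.rec (fun _ => Nat) (Ptab_8) (Ptab_s_9_11 c) (Nat.ble 9 c)
noncomputable def Ptab_s_5_11 (c : Nat) : Nat := @Bool.rec (fun _ => Nat) (Ptab_s_5_8 c) (Ptab_s_8_11 c) (Nat.ble 8 c)
noncomputable def Ptab_s_0_11 (c : Nat) : Nat := @Bool.rec (fun _ => Nat) (Ptab_s_0_5 c) (Ptab_s_5_11 c) (Nat.ble 5 c)
noncomputable def Ptab_s_11_13 (c : Nat) : Nat := @Bool.rec (fun _ => Nat) (Ptab_11) (Ptab_12) (Nat.ble 12 c)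
noncomputable def Ptab_s_14_16 (c : Nat) : Nat := @Bool.rec (fun _ => Nat) (Ptab_14) (Ptab_15) (Nat.ble 15 c)
noncomputable def Ptab_s_13_16 (c : Nat) : Nat := @Bool.rec (fun _ => Nat) (Ptab_13) (Ptab_s_14_16 c) (Nat.ble 14 c)
noncomputable def Ptab_s_11_16 (c : Nat) : Nat := @Bool.rec (fun _ => Nat) (Ptab_s_11_13 c) (Ptab_s_13_16 c) (Nat.ble 13 c)
noncomputable def Ptab_s_17_19 (c : Nat) : Nat := @Bool.rec (fun _ => Nat) (Ptab_17) (Ptab_18) (Nat.ble 18 c)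
noncomputable def Ptab_s_16_19 (c : Nat) : Nat := @Bool.rec (fun _ => Nat) (Ptab_16) (Ptab_s_17_19 c) (Nat.ble 17 c)
noncomputable def Ptab_s_20_22 (c : Nat) : Nat := @Bool.rec (fun _ => Nat) (Ptab_20) (Ptab_21) (Nat.ble 21 c)
noncomputable def Ptab_s_19_22 (c : Nat) : Nat := @Bool.rec (fun _ => Nat) (Ptab_19) (Ptab_s_20_22 c) (Nat.ble 20 c)
noncomputable def Ptab_s_16_22 (c : Nat) : Nat := @Bool.rec (fun _ => Nat) (Ptab_s_16_19 c) (Ptab_s_19_22 c) (Nat.ble 19 c)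
noncomputable def Ptab_s_11_22 (c : Nat) : Nat := @Bool.rec (fun _ => Nat) (Ptab_s_11_16 c) (Ptab_s_16_22 c) (Nat.ble 16 c)
noncomputable def Ptab_s_0_22 (c : Nat) : Nat := @Bool.rec (fun _ => Nat) (Ptab_s_0_11 c) (Ptab_s_11_22 c) (Nat.ble 11 c)
noncomputable def Ptab_s_22_24 (c : Nat) : Nat := @Bool.rec (fun _ => Nat) (Ptab_22) (Ptab_23) (Nat.ble 23 c)
noncomputable def Ptab_s_25_27 (c : Nat) : Nat := @Bool.rec (fun _ => Nat) (Ptab_25) (Ptab_26) (Nat.ble 26 c)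
noncomputable def Ptab_s_24_27 (c : Nat) : Nat := @Bool.rec (fun _ => Nat) (Ptab_24) (Ptab_s_25_27 c) (Nat.ble 25 c)
noncomputable def Ptab_s_22_27 (c : Nat) : Nat := @Bool.rec (fun _ => Nat) (Ptab_s_22_24 c) (Ptab_s_24_27 c) (Nat.ble 24 c)
noncomputable def Ptab_s_28_30 (c : Nat) : Nat := @Bool.rec (fun _ => Nat) (Ptab_28) (Ptab_29) (Nat.ble 29 c)
noncomputable def Ptab_s_27_30 (c : Nat) : Nat := @Bool.rec (fun _ => Nat) (Ptab_27) (Ptab_s_28_30 c) (Nat.ble 28 c)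
noncomputable def Ptab_s_31_33 (c : Nat) : Nat := @Bool.rec (fun _ => Nat) (Ptab_31) (Ptab_32) (Nat.ble 32 c)
noncomputable def Ptab_s_30_33 (c : Nat) : Nat := @Bool.rec (fun _ => Nat) (Ptab_30) (Ptab_s_31_33 c) (Nat.ble 31 c)
noncomputable def Ptab_s_27_33 (c : Nat) : Nat := @Bool.rec (fun _ => Nat) (Ptab_s_27_30 c) (Ptab_s_30_33 c) (Nat.ble 30 c)
noncomputable def Ptab_s_22_33 (c : Nat) : Nat := @Bool.rec (fun _ => Nat) (Ptab_s_22_27 c) (Ptab_s_27_33 c) (Nat.ble 27 c)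
noncomputable def Ptab_s_34_36 (c : Nat) : Nat := @Bool.rec (fun _ => Nat) (Ptab_34) (Ptab_35) (Nat.ble 35 c)
noncomputable def Ptab_s_33_36 (c : Nat) : Nat := @Bool.rec (fun _ => Nat) (Ptab_33) (Ptab_s_34_36 c) (Nat.ble 34 c)
noncomputable def Ptab_s_37_39 (c : Nat) : Nat := @Bool.rec (fun _ => Nat) (Ptab_37) (Ptab_38) (Nat.ble 38 c)
noncomputable def Ptab_s_36_39 (c : Nat) : Nat := @Bool.rec (fun _ => Nat) (Ptab_36) (Ptab_s_37_39 c) (Nat.ble 37 c)
noncomputable def Ptab_s_33_39 (c : Nat) : Nat := @Bool.rec (fun _ => Nat) (Ptab_s_33_36 c) (Ptab_s_36_39 c) (Nat.ble 36 c)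
noncomputable def Ptab_s_40_42 (c : Nat) : Nat := @Bool.rec (fun _ => Nat) (Ptab_40) (Ptab_41) (Nat.ble 41 c)
noncomputable def Ptab_s_39_42 (c : Nat) : Nat := @Bool.rec (fun _ => Nat) (Ptab_39) (Ptab_s_40_42 c) (Nat.ble 40 c)
noncomputable def Ptab_s_43_45 (c : Nat) : Nat := @Bool.rec (fun _ => Nat) (Ptab_43) (Ptab_44) (Nat.ble 44 c)
noncomputable def Ptab_s_42_45 (c : Nat) : Nat := @Bool.rec (fun _ => Nat) (Ptab_42) (Ptab_s_43_45 c) (Nat.ble 43 c)
noncomputable def Ptab_s_39_45 (c : Nat) : Nat := @Bool.rec (fun _ => Nat) (Ptab_s_39_42 c) (Ptab_s_42_45 c) (Nat.ble 42 c)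
noncomputable def Ptab_s_33_45 (c : Nat) : Nat := @Bool.rec (fun _ => Nat) (Ptab_s_33_39 c) (Ptab_s_39_45 c) (Nat.ble 39 c)
noncomputable def Ptab_s_22_45 (c : Nat) : Nat := @Bool.rec (fun _ => Nat) (Ptab_s_22_33 c) (Ptab_s_33_45 c) (Nat.ble 33 c)
noncomputable def Ptab_s_0_45 (c : Nat) : Nat := @Bool.rec (fun _ => Nat) (Ptab_s_0_22 c) (Ptab_s_22_45 c) (Nat.ble 22 c)
noncomputable def Ptab_s_45_47 (c : Nat) : Nat := @Bool.rec (fun _ => Nat) (Ptab_45) (Ptab_46) (Nat.ble 46 c)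
noncomputable def Ptab_s_48_50 (c : Nat) : Nat := @Bool.rec (fun _ => Nat) (Ptab_48) (Ptab_49) (Nat.ble 49 c)
noncomputable def Ptab_s_47_50 (c : Nat) : Nat := @Bool.rec (fun _ => Nat) (Ptab_47) (Ptab_s_48_50 c) (Nat.ble 48 c)
noncomputable def Ptab_s_45_50 (c : Nat) : Nat := @Bool.rec (fun _ => Nat) (Ptab_s_45_47 c) (Ptab_s_47_50 c) (Nat.ble 47 c)
noncomputable def Ptab_s_51_53 (c : Nat) : Nat := @Bool.rec (fun _ => Nat) (Ptab_51) (Ptab_52) (Nat.ble 52 c)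
noncomputable def Ptab_s_50_53 (c : Nat) : Nat := @Bool.rec (fun _ => Nat) (Ptab_50) (Ptab_s_51_53 c) (Nat.ble 51 c)
noncomputable def Ptab_s_54_56 (c : Nat) : Nat := @Bool.rec (fun _ => Nat) (Ptab_54) (Ptab_55) (Nat.ble 55 c)
noncomputable def Ptab_s_53_56 (c : Nat) : Nat := @Bool.rec (fun _ => Nat) (Ptab_53) (Ptab_s_54_56 c) (Nat.ble 54 c)
noncomputable def Ptab_s_50_56 (c : Nat) : Nat := @Bool.rec (fun _ => Nat) (Ptab_s_50_53 c) (Ptab_s_53_56 c) (Nat.ble 53 c)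
noncomputable def Ptab_s_45_56 (c : Nat) : Nat := @Bool.rec (fun _ => Nat) (Ptab_s_45_50 c) (Ptab_s_50_56 c) (Nat.ble 50 c)
noncomputable def Ptab_s_56_58 (c : Nat) : Nat := @Bool.rec (fun _ => Nat) (Ptab_56) (Ptab_57) (Nat.ble 57 c)
noncomputable def Ptab_s_59_61 (c : Nat) : Nat := @Bool.rec (fun _ => Nat) (Ptab_59) (Ptab_60) (Nat.ble 60 c)
noncomputable def Ptab_s_58_61 (c : Nat) : Nat := @Bool.rec (fun _ => Nat) (Ptab_58) (Ptab_s_59_61 c) (Nat.ble 59 c)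
noncomputable def Ptab_s_56_61 (c : Nat) : Nat := @Bool.rec (fun _ => Nat) (Ptab_s_56_58 c) (Ptab_s_58_61 c) (Nat.ble 58 c)
noncomputable def Ptab_s_62_64 (c : Nat) : Nat := @Bool.rec (fun _ => Nat) (Ptab_62) (Ptab_63) (Nat.ble 63 c)
noncomputable def Ptab_s_61_64 (c : Nat) : Nat := @Bool.rec (fun _ => Nat) (Ptab_61) (Ptab_s_62_64 c) (Nat.ble 62 c)
noncomputable def Ptab_s_65_67 (c : Nat) : Nat := @Bool.rec (fun _ => Nat) (Ptab_65) (Ptab_66) (Nat.ble 66 c)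
noncomputable def Ptab_s_64_67 (c : Nat) : Nat := @Bool.rec (fun _ => Nat) (Ptab_64) (Ptab_s_65_67 c) (Nat.ble 65 c)
noncomputable def Ptab_s_61_67 (c : Nat) : Nat := @Bool.rec (fun _ => Nat) (Ptab_s_61_64 c) (Ptab_s_64_67 c) (Nat.ble 64 c)
noncomputable def Ptab_s_56_67 (c : Nat) : Nat := @Bool.rec (fun _ => Nat) (Ptab_s_56_61 c) (Ptab_s_61_67 c) (Nat.ble 61 c)
noncomputable def Ptab_s_45_67 (c : Nat) : Nat := @Bool.rec (fun _ => Nat) (Ptab_s_45_56 c) (Ptab_s_56_67 c) (Nat.ble 56 c)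
noncomputable def Ptab_s_67_69 (c : Nat) : Nat := @Bool.rec (fun _ => Nat) (Ptab_67) (Ptab_68) (Nat.ble 68 c)
noncomputable def Ptab_s_70_72 (c : Nat) : Nat := @Bool.rec (fun _ => Nat) (Ptab_70) (Ptab_71) (Nat.ble 71 c)
noncomputable def Ptab_s_69_72 (c : Nat) : Nat := @Bool.rec (fun _ => Nat) (Ptab_69) (Ptab_s_70_72 c) (Nat.ble 70 c)
noncomputable def Ptab_s_67_72 (c : Nat) : Nat := @Bool.rec (fun _ => Nat) (Ptab_s_67_69 c) (Ptab_s_69_72 c) (Nat.ble 69 c)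
noncomputable def Ptab_s_73_75 (c : Nat) : Nat := @Bool.rec (fun _ => Nat) (Ptab_73) (Ptab_74) (Nat.ble 74 c)
noncomputable def Ptab_s_72_75 (c : Nat) : Nat := @Bool.rec (fun _ => Nat) (Ptab_72) (Ptab_s_73_75 c) (Nat.ble 73 c)
noncomputable def Ptab_s_76_78 (c : Nat) : Nat := @Bool.rec (fun _ => Nat) (Ptab_76) (Ptab_77) (Nat.ble 77 c)
noncomputable def Ptab_s_75_78 (c : Nat) : Nat := @Bool.rec (fun _ => Nat) (Ptab_75) (Ptab_s_76_78 c) (Nat.ble 76 c)
noncomputable def Ptab_s_72_78 (c : Nat) : Nat := @Bool.rec (fun _ => Nat) (Ptab_s_72_75 c) (Ptab_s_75_78 c) (Nat.ble 75 c)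
noncomputable def Ptab_s_67_78 (c : Nat) : Nat := @Bool.rec (fun _ => Nat) (Ptab_s_67_72 c) (Ptab_s_72_78 c) (Nat.ble 72 c)
noncomputable def Ptab_s_79_81 (c : Nat) : Nat := @Bool.rec (fun _ => Nat) (Ptab_79) (Ptab_80) (Nat.ble 80 c)
noncomputable def Ptab_s_78_81 (c : Nat) : Nat := @Bool.rec (fun _ => Nat) (Ptab_78) (Ptab_s_79_81 c) (Nat.ble 79 c)
noncomputable def Ptab_s_82_84 (c : Nat) : Nat := @Bool.rec (fun _ => Nat) (Ptab_82) (Ptab_83) (Nat.ble 83 c)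
noncomputable def Ptab_s_81_84 (c : Nat) : Nat := @Bool.rec (fun _ => Nat) (Ptab_81) (Ptab_s_82_84 c) (Nat.ble 82 c)
noncomputable def Ptab_s_78_84 (c : Nat) : Nat := @Bool.rec (fun _ => Nat) (Ptab_s_78_81 c) (Ptab_s_81_84 c) (Nat.ble 81 c)
noncomputable def Ptab_s_85_87 (c : Nat) : Nat := @Bool.rec (fun _ => Nat) (Ptab_85) (Ptab_86) (Nat.ble 86 c)
noncomputable def Ptab_s_84_87 (c : Nat) : Nat := @Bool.rec (fun _ => Nat) (Ptab_84) (Ptab_s_85_87 c) (Nat.ble 85 c)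
noncomputable def Ptab_s_88_90 (c : Nat) : Nat := @Bool.rec (fun _ => Nat) (Ptab_88) (Ptab_89) (Nat.ble 89 c)
noncomputable def Ptab_s_87_90 (c : Nat) : Nat := @Bool.rec (fun _ => Nat) (Ptab_87) (Ptab_s_88_90 c) (Nat.ble 88 c)
noncomputable def Ptab_s_84_90 (c : Nat) : Nat := @Bool.rec (fun _ => Nat) (Ptab_s_84_87 c) (Ptab_s_87_90 c) (Nat.ble 87 c)
noncomputable def Ptab_s_78_90 (c : Nat) : Nat := @Bool.rec (fun _ => Nat) (Ptab_s_78_84 c) (Ptab_s_84_90 c) (Nat.ble 84 c)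
noncomputable def Ptab_s_67_90 (c : Nat) : Nat := @Bool.rec (fun _ => Nat) (Ptab_s_67_78 c) (Ptab_s_78_90 c) (Nat.ble 78 c)
noncomputable def Ptab_s_45_90 (c : Nat) : Nat := @Bool.rec (fun _ => Nat) (Ptab_s_45_67 c) (Ptab_s_67_90 c) (Nat.ble 67 c)
noncomputable def Ptab_s_0_90 (c : Nat) : Nat := @Bool.rec (fun _ => Nat) (Ptab_s_0_45 c) (Ptab_s_45_90 c) (Nat.ble 45 c)
noncomputable def Ptab_s_90_92 (c : Nat) : Nat := @Bool.rec (fun _ => Nat) (Ptab_90) (Ptab_91) (Nat.ble 91 c)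
noncomputable def Ptab_s_93_95 (c : Nat) : Nat := @Bool.rec (fun _ => Nat) (Ptab_93) (Ptab_94) (Nat.ble 94 c)
noncomputable def Ptab_s_92_95 (c : Nat) : Nat := @Bool.rec (fun _ => Nat) (Ptab_92) (Ptab_s_93_95 c) (Nat.ble 93 c)
noncomputable def Ptab_s_90_95 (c : Nat) : Nat := @Bool.rec (fun _ => Nat) (Ptab_s_90_92 c) (Ptab_s_92_95 c) (Nat.ble 92 c)
noncomputable def Ptab_s_96_98 (c : Nat) : Nat := @Bool.rec (fun _ => Nat) (Ptab_96) (Ptab_97) (Nat.ble 97 c)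
noncomputable def Ptab_s_95_98 (c : Nat) : Nat := @Bool.rec (fun _ => Nat) (Ptab_95) (Ptab_s_96_98 c) (Nat.ble 96 c)
noncomputable def Ptab_s_99_101 (c : Nat) : Nat := @Bool.rec (fun _ => Nat) (Ptab_99) (Ptab_100) (Nat.ble 100 c)
noncomputable def Ptab_s_98_101 (c : Nat) : Nat := @Bool.rec (fun _ => Nat) (Ptab_98) (Ptab_s_99_101 c) (Nat.ble 99 c)
noncomputable def Ptab_s_95_101 (c : Nat) : Nat := @Bool.rec (fun _ => Nat) (Ptab_s_95_98 c) (Ptab_s_98_101 c) (Nat.ble 98 c)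
noncomputable def Ptab_s_90_101 (c : Nat) : Nat := @Bool.rec (fun _ => Nat) (Ptab_s_90_95 c) (Ptab_s_95_101 c) (Nat.ble 95 c)
noncomputable def Ptab_s_101_103 (c : Nat) : Nat := @Bool.rec (fun _ => Nat) (Ptab_101) (Ptab_102) (Nat.ble 102 c)
noncomputable def Ptab_s_104_106 (c : Nat) : Nat := @Bool.rec (fun _ => Nat) (Ptab_104) (Ptab_105) (Nat.ble 105 c)
noncomputable def Ptab_s_103_106 (c : Nat) : Nat := @Bool.rec (fun _ => Nat) (Ptab_103) (Ptab_s_104_106 c) (Nat.ble 104 c)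
noncomputable def Ptab_s_101_106 (c : Nat) : Nat := @Bool.rec (fun _ => Nat) (Ptab_s_101_103 c) (Ptab_s_103_106 c) (Nat.ble 103 c)
noncomputable def Ptab_s_107_109 (c : Nat) : Nat := @Bool.rec (fun _ => Nat) (Ptab_107) (Ptab_108) (Nat.ble 108 c)
noncomputable def Ptab_s_106_109 (c : Nat) : Nat := @Bool.rec (fun _ => Nat) (Ptab_106) (Ptab_s_107_109 c) (Nat.ble 107 c)
noncomputable def Ptab_s_110_112 (c : Nat) : Nat := @Bool.rec (fun _ => Nat) (Ptab_110) (Ptab_111) (Nat.ble 111 c)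
noncomputable def Ptab_s_109_112 (c : Nat) : Nat := @Bool.rec (fun _ => Nat) (Ptab_109) (Ptab_s_110_112 c) (Nat.ble 110 c)
noncomputable def Ptab_s_106_112 (c : Nat) : Nat := @Bool.rec (fun _ => Nat) (Ptab_s_106_109 c) (Ptab_s_109_112 c) (Nat.ble 109 c)
noncomputable def Ptab_s_101_112 (c : Nat) : Nat := @Bool.rec (fun _ => Nat) (Ptab_s_101_106 c) (Ptab_s_106_112 c) (Nat.ble 106 c)
noncomputable def Ptab_s_90_112 (c : Nat) : Nat := @Bool.rec (fun _ => Nat) (Ptab_s_90_101 c) (Ptab_s_101_112 c) (Nat.ble 101 c)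
noncomputable def Ptab_s_112_114 (c : Nat) : Nat := @Bool.rec (fun _ => Nat) (Ptab_112) (Ptab_113) (Nat.ble 113 c)
noncomputable def Ptab_s_115_117 (c : Nat) : Nat := @Bool.rec (fun _ => Nat) (Ptab_115) (Ptab_116) (Nat.ble 116 c)
noncomputable def Ptab_s_114_117 (c : Nat) : Nat := @Bool.rec (fun _ => Nat) (Ptab_114) (Ptab_s_115_117 c) (Nat.ble 115 c)
noncomputable def Ptab_s_112_117 (c : Nat) : Nat := @Bool.rec (fun _ => Nat) (Ptab_s_112_114 c) (Ptab_s_114_117 c) (Nat.ble 114 c)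
noncomputable def Ptab_s_118_120 (c : Nat) : Nat := @Bool.rec (fun _ => Nat) (Ptab_118) (Ptab_119) (Nat.ble 119 c)
noncomputable def Ptab_s_117_120 (c : Nat) : Nat := @Bool.rec (fun _ => Nat) (Ptab_117) (Ptab_s_118_120 c) (Nat.ble 118 c)
noncomputable def Ptab_s_121_123 (c : Nat) : Nat := @Bool.rec (fun _ => Nat) (Ptab_121) (Ptab_122) (Nat.ble 122 c)
noncomputable def Ptab_s_120_123 (c : Nat) : Nat := @Bool.rec (fun _ => Nat) (Ptab_120) (Ptab_s_121_123 c) (Nat.ble 121 c)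
noncomputable def Ptab_s_117_123 (c : Nat) : Nat := @Bool.rec (fun _ => Nat) (Ptab_s_117_120 c) (Ptab_s_120_123 c) (Nat.ble 120 c)
noncomputable def Ptab_s_112_123 (c : Nat) : Nat := @Bool.rec (fun _ => Nat) (Ptab_s_112_117 c) (Ptab_s_117_123 c) (Nat.ble 117 c)
noncomputable def Ptab_s_124_126 (c : Nat) : Nat := @Bool.rec (fun _ => Nat) (Ptab_124) (Ptab_125) (Nat.ble 125 c)
noncomputable def Ptab_s_123_126 (c : Nat) : Nat := @Bool.rec (fun _ => Nat) (Ptab_123) (Ptab_s_124_126 c) (Nat.ble 124 c)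
noncomputable def Ptab_s_127_129 (c : Nat) : Nat := @Bool.rec (fun _ => Nat) (Ptab_127) (Ptab_128) (Nat.ble 128 c)
noncomputable def Ptab_s_126_129 (c : Nat) : Nat := @Bool.rec (fun _ => Nat) (Ptab_126) (Ptab_s_127_129 c) (Nat.ble 127 c)
noncomputable def Ptab_s_123_129 (c : Nat) : Nat := @Bool.rec (fun _ => Nat) (Ptab_s_123_126 c) (Ptab_s_126_129 c) (Nat.ble 126 c)
noncomputable def Ptab_s_130_132 (c : Nat) : Nat := @Bool.rec (fun _ => Nat) (Ptab_130) (Ptab_131) (Nat.ble 131 c)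
noncomputable def Ptab_s_129_132 (c : Nat) : Nat := @Bool.rec (fun _ => Nat) (Ptab_129) (Ptab_s_130_132 c) (Nat.ble 130 c)
noncomputable def Ptab_s_133_135 (c : Nat) : Nat := @Bool.rec (fun _ => Nat) (Ptab_133) (Ptab_134) (Nat.ble 134 c)
noncomputable def Ptab_s_132_135 (c : Nat) : Nat := @Bool.rec (fun _ => Nat) (Ptab_132) (Ptab_s_133_135 c) (Nat.ble 133 c)
noncomputable def Ptab_s_129_135 (c : Nat) : Nat := @Bool.rec (fun _ => Nat) (Ptab_s_129_132 c) (Ptab_s_132_135 c) (Nat.ble 132 c)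
noncomputable def Ptab_s_123_135 (c : Nat) : Nat := @Bool.rec (fun _ => Nat) (Ptab_s_123_129 c) (Ptab_s_129_135 c) (Nat.ble 129 c)
noncomputable def Ptab_s_112_135 (c : Nat) : Nat := @Bool.rec (fun _ => Nat) (Ptab_s_112_123 c) (Ptab_s_123_135 c) (Nat.ble 123 c)
noncomputable def Ptab_s_90_135 (c : Nat) : Nat := @Bool.rec (fun _ => Nat) (Ptab_s_90_112 c) (Ptab_s_112_135 c) (Nat.ble 112 c)
noncomputable def Ptab_s_135_137 (c : Nat) : Nat := @Bool.rec (fun _ => Nat) (Ptab_135) (Ptab_136) (Nat.ble 136 c)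
noncomputable def Ptab_s_138_140 (c : Nat) : Nat := @Bool.rec (fun _ => Nat) (Ptab_138) (Ptab_139) (Nat.ble 139 c)
noncomputable def Ptab_s_137_140 (c : Nat) : Nat := @Bool.rec (fun _ => Nat) (Ptab_137) (Ptab_s_138_140 c) (Nat.ble 138 c)
noncomputable def Ptab_s_135_140 (c : Nat) : Nat := @Bool.rec (fun _ => Nat) (Ptab_s_135_137 c) (Ptab_s_137_140 c) (Nat.ble 137 c)
noncomputable def Ptab_s_141_143 (c : Nat) : Nat := @Bool.rec (fun _ => Nat) (Ptab_141) (Ptab_142) (Nat.ble 142 c)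
noncomputable def Ptab_s_140_143 (c : Nat) : Nat := @Bool.rec (fun _ => Nat) (Ptab_140) (Ptab_s_141_143 c) (Nat.ble 141 c)
noncomputable def Ptab_s_144_146 (c : Nat) : Nat := @Bool.rec (fun _ => Nat) (Ptab_144) (Ptab_145) (Nat.ble 145 c)
noncomputable def Ptab_s_143_146 (c : Nat) : Nat := @Bool.rec (fun _ => Nat) (Ptab_143) (Ptab_s_144_146 c) (Nat.ble 144 c)
noncomputable def Ptab_s_140_146 (c : Nat) : Nat := @Bool.rec (fun _ => Nat) (Ptab_s_140_143 c) (Ptab_s_143_146 c) (Nat.ble 143 c)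
noncomputable def Ptab_s_135_146 (c : Nat) : Nat := @Bool.rec (fun _ => Nat) (Ptab_s_135_140 c) (Ptab_s_140_146 c) (Nat.ble 140 c)
noncomputable def Ptab_s_147_149 (c : Nat) : Nat := @Bool.rec (fun _ => Nat) (Ptab_147) (Ptab_148) (Nat.ble 148 c)
noncomputable def Ptab_s_146_149 (c : Nat) : Nat := @Bool.rec (fun _ => Nat) (Ptab_146) (Ptab_s_147_149 c) (Nat.ble 147 c)
noncomputable def Ptab_s_150_152 (c : Nat) : Nat := @Bool.rec (fun _ => Nat) (Ptab_150) (Ptab_151) (Nat.ble 151 c)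
noncomputable def Ptab_s_149_152 (c : Nat) : Nat := @Bool.rec (fun _ => Nat) (Ptab_149) (Ptab_s_150_152 c) (Nat.ble 150 c)
noncomputable def Ptab_s_146_152 (c : Nat) : Nat := @Bool.rec (fun _ => Nat) (Ptab_s_146_149 c) (Ptab_s_149_152 c) (Nat.ble 149 c)
noncomputable def Ptab_s_153_155 (c : Nat) : Nat := @Bool.rec (fun _ => Nat) (Ptab_153) (Ptab_154) (Nat.ble 154 c)
noncomputable def Ptab_s_152_155 (c : Nat) : Nat := @Bool.rec (fun _ => Nat) (Ptab_152) (Ptab_s_153_155 c) (Nat.ble 153 c)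
noncomputable def Ptab_s_156_158 (c : Nat) : Nat := @Bool.rec (fun _ => Nat) (Ptab_156) (Ptab_157) (Nat.ble 157 c)
noncomputable def Ptab_s_155_158 (c : Nat) : Nat := @Bool.rec (fun _ => Nat) (Ptab_155) (Ptab_s_156_158 c) (Nat.ble 156 c)
noncomputable def Ptab_s_152_158 (c : Nat) : Nat := @Bool.rec (fun _ => Nat) (Ptab_s_152_155 c) (Ptab_s_155_158 c) (Nat.ble 155 c)
noncomputable def Ptab_s_146_158 (c : Nat) : Nat := @Bool.rec (fun _ => Nat) (Ptab_s_146_152 c) (Ptab_s_152_158 c) (Nat.ble 152 c)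
noncomputable def Ptab_s_135_158 (c : Nat) : Nat := @Bool.rec (fun _ => Nat) (Ptab_s_135_146 c) (Ptab_s_146_158 c) (Nat.ble 146 c)
noncomputable def Ptab_s_158_160 (c : Nat) : Nat := @Bool.rec (fun _ => Nat) (Ptab_158) (Ptab_159) (Nat.ble 159 c)
noncomputable def Ptab_s_161_163 (c : Nat) : Nat := @Bool.rec (fun _ => Nat) (Ptab_161) (Ptab_162) (Nat.ble 162 c)
noncomputable def Ptab_s_160_163 (c : Nat) : Nat := @Bool.rec (fun _ => Nat) (Ptab_160) (Ptab_s_161_163 c) (Nat.ble 161 c)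
noncomputable def Ptab_s_158_163 (c : Nat) : Nat := @Bool.rec (fun _ => Nat) (Ptab_s_158_160 c) (Ptab_s_160_163 c) (Nat.ble 160 c)
noncomputable def Ptab_s_164_166 (c : Nat) : Nat := @Bool.rec (fun _ => Nat) (Ptab_164) (Ptab_165) (Nat.ble 165 c)
noncomputable def Ptab_s_163_166 (c : Nat) : Nat := @Bool.rec (fun _ => Nat) (Ptab_163) (Ptab_s_164_166 c) (Nat.ble 164 c)
noncomputable def Ptab_s_167_169 (c : Nat) : Nat := @Bool.rec (fun _ => Nat) (Ptab_167) (Ptab_168) (Nat.ble 168 c)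
noncomputable def Ptab_s_166_169 (c : Nat) : Nat := @Bool.rec (fun _ => Nat) (Ptab_166) (Ptab_s_167_169 c) (Nat.ble 167 c)
noncomputable def Ptab_s_163_169 (c : Nat) : Nat := @Bool.rec (fun _ => Nat) (Ptab_s_163_166 c) (Ptab_s_166_169 c) (Nat.ble 166 c)
noncomputable def Ptab_s_158_169 (c : Nat) : Nat := @Bool.rec (fun _ => Nat) (Ptab_s_158_163 c) (Ptab_s_163_169 c) (Nat.ble 163 c)
noncomputable def Ptab_s_170_172 (c : Nat) : Nat := @Bool.rec (fun _ => Nat) (Ptab_170) (Ptab_171) (Nat.ble 171 c)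
noncomputable def Ptab_s_169_172 (c : Nat) : Nat := @Bool.rec (fun _ => Nat) (Ptab_169) (Ptab_s_170_172 c) (Nat.ble 170 c)
noncomputable def Ptab_s_173_175 (c : Nat) : Nat := @Bool.rec (fun _ => Nat) (Ptab_173) (Ptab_174) (Nat.ble 174 c)
noncomputable def Ptab_s_172_175 (c : Nat) : Nat := @Bool.rec (fun _ => Nat) (Ptab_172) (Ptab_s_173_175 c) (Nat.ble 173 c)
noncomputable def Ptab_s_169_175 (c : Nat) : Nat := @Bool.rec (fun _ => Nat) (Ptab_s_169_172 c) (Ptab_s_172_175 c) (Nat.ble 172 c)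
noncomputable def Ptab_s_176_178 (c : Nat) : Nat := @Bool.rec (fun _ => Nat) (Ptab_176) (Ptab_177) (Nat.ble 177 c)
noncomputable def Ptab_s_175_178 (c : Nat) : Nat := @Bool.rec (fun _ => Nat) (Ptab_175) (Ptab_s_176_178 c) (Nat.ble 176 c)
noncomputable def Ptab_s_179_181 (c : Nat) : Nat := @Bool.rec (fun _ => Nat) (Ptab_179) (Ptab_180) (Nat.ble 180 c)
noncomputable def Ptab_s_178_181 (c : Nat) : Nat := @Bool.rec (fun _ => Nat) (Ptab_178) (Ptab_s_179_181 c) (Nat.ble 179 c)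
noncomputable def Ptab_s_175_181 (c : Nat) : Nat := @Bool.rec (fun _ => Nat) (Ptab_s_175_178 c) (Ptab_s_178_181 c) (Nat.ble 178 c)
noncomputable def Ptab_s_169_181 (c : Nat) : Nat := @Bool.rec (fun _ => Nat) (Ptab_s_169_175 c) (Ptab_s_175_181 c) (Nat.ble 175 c)
noncomputable def Ptab_s_158_181 (c : Nat) : Nat := @Bool.rec (fun _ => Nat) (Ptab_s_158_169 c) (Ptab_s_169_181 c) (Nat.ble 169 c)
noncomputable def Ptab_s_135_181 (c : Nat) : Nat := @Bool.rec (fun _ => Nat) (Ptab_s_135_158 c) (Ptab_s_158_181 c) (Nat.ble 158 c)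
noncomputable def Ptab_s_90_181 (c : Nat) : Nat := @Bool.rec (fun _ => Nat) (Ptab_s_90_135 c) (Ptab_s_135_181 c) (Nat.ble 135 c)
noncomputable def Ptab_s_0_181 (c : Nat) : Nat := @Bool.rec (fun _ => Nat) (Ptab_s_0_90 c) (Ptab_s_90_181 c) (Nat.ble 90 c)
noncomputable def Ptab_s_181_183 (c : Nat) : Nat := @Bool.rec (fun _ => Nat) (Ptab_181) (Ptab_182) (Nat.ble 182 c)
noncomputable def Ptab_s_184_186 (c : Nat) : Nat := @Bool.rec (fun _ => Nat) (Ptab_184) (Ptab_185) (Nat.ble 185 c)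
noncomputable def Ptab_s_183_186 (c : Nat) : Nat := @Bool.rec (fun _ => Nat) (Ptab_183) (Ptab_s_184_186 c) (Nat.ble 184 c)
noncomputable def Ptab_s_181_186 (c : Nat) : Nat := @Bool.rec (fun _ => Nat) (Ptab_s_181_183 c) (Ptab_s_183_186 c) (Nat.ble 183 c)
noncomputable def Ptab_s_187_189 (c : Nat) : Nat := @Bool.rec (fun _ => Nat) (Ptab_187) (Ptab_188) (Nat.ble 188 c)
noncomputable def Ptab_s_186_189 (c : Nat) : Nat := @Bool.rec (fun _ => Nat) (Ptab_186) (Ptab_s_187_189 c) (Nat.ble 187 c)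
noncomputable def Ptab_s_190_192 (c : Nat) : Nat := @Bool.rec (fun _ => Nat) (Ptab_190) (Ptab_191) (Nat.ble 191 c)
noncomputable def Ptab_s_189_192 (c : Nat) : Nat := @Bool.rec (fun _ => Nat) (Ptab_189) (Ptab_s_190_192 c) (Nat.ble 190 c)
noncomputable def Ptab_s_186_192 (c : Nat) : Nat := @Bool.rec (fun _ => Nat) (Ptab_s_186_189 c) (Ptab_s_189_192 c) (Nat.ble 189 c)
noncomputable def Ptab_s_181_192 (c : Nat) : Nat := @Bool.rec (fun _ => Nat) (Ptab_s_181_186 c) (Ptab_s_186_192 c) (Nat.ble 186 c)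
noncomputable def Ptab_s_192_194 (c : Nat) : Nat := @Bool.rec (fun _ => Nat) (Ptab_192) (Ptab_193) (Nat.ble 193 c)
noncomputable def Ptab_s_195_197 (c : Nat) : Nat := @Bool.rec (fun _ => Nat) (Ptab_195) (Ptab_196) (Nat.ble 196 c)
noncomputable def Ptab_s_194_197 (c : Nat) : Nat := @Bool.rec (fun _ => Nat) (Ptab_194) (Ptab_s_195_197 c) (Nat.ble 195 c)
noncomputable def Ptab_s_192_197 (c : Nat) : Nat := @Bool.rec (fun _ => Nat) (Ptab_s_192_194 c) (Ptab_s_194_197 c) (Nat.ble 194 c)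
noncomputable def Ptab_s_198_200 (c : Nat) : Nat := @Bool.rec (fun _ => Nat) (Ptab_198) (Ptab_199) (Nat.ble 199 c)
noncomputable def Ptab_s_197_200 (c : Nat) : Nat := @Bool.rec (fun _ => Nat) (Ptab_197) (Ptab_s_198_200 c) (Nat.ble 198 c)
noncomputable def Ptab_s_201_203 (c : Nat) : Nat := @Bool.rec (fun _ => Nat) (Ptab_201) (Ptab_202) (Nat.ble 202 c)
noncomputable def Ptab_s_200_203 (c : Nat) : Nat := @Bool.rec (fun _ => Nat) (Ptab_200) (Ptab_s_201_203 c) (Nat.ble 201 c)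
noncomputable def Ptab_s_197_203 (c : Nat) : Nat := @Bool.rec (fun _ => Nat) (Ptab_s_197_200 c) (Ptab_s_200_203 c) (Nat.ble 200 c)
noncomputable def Ptab_s_192_203 (c : Nat) : Nat := @Bool.rec (fun _ => Nat) (Ptab_s_192_197 c) (Ptab_s_197_203 c) (Nat.ble 197 c)
noncomputable def Ptab_s_181_203 (c : Nat) : Nat := @Bool.rec (fun _ => Nat) (Ptab_s_181_192 c) (Ptab_s_192_203 c) (Nat.ble 192 c)
noncomputable def Ptab_s_203_205 (c : Nat) : Nat := @Bool.rec (fun _ => Nat) (Ptab_203) (Ptab_204) (Nat.ble 204 c)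
noncomputable def Ptab_s_206_208 (c : Nat) : Nat := @Bool.rec (fun _ => Nat) (Ptab_206) (Ptab_207) (Nat.ble 207 c)
noncomputable def Ptab_s_205_208 (c : Nat) : Nat := @Bool.rec (fun _ => Nat) (Ptab_205) (Ptab_s_206_208 c) (Nat.ble 206 c)
noncomputable def Ptab_s_203_208 (c : Nat) : Nat := @Bool.rec (fun _ => Nat) (Ptab_s_203_205 c) (Ptab_s_205_208 c) (Nat.ble 205 c)
noncomputable def Ptab_s_209_211 (c : Nat) : Nat := @Bool.rec (fun _ => Nat) (Ptab_209) (Ptab_210) (Nat.ble 210 c)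
noncomputable def Ptab_s_208_211 (c : Nat) : Nat := @Bool.rec (fun _ => Nat) (Ptab_208) (Ptab_s_209_211 c) (Nat.ble 209 c)
noncomputable def Ptab_s_212_214 (c : Nat) : Nat := @Bool.rec (fun _ => Nat) (Ptab_212) (Ptab_213) (Nat.ble 213 c)
noncomputable def Ptab_s_211_214 (c : Nat) : Nat := @Bool.rec (fun _ => Nat) (Ptab_211) (Ptab_s_212_214 c) (Nat.ble 212 c)
noncomputable def Ptab_s_208_214 (c : Nat) : Nat := @Bool.rec (fun _ => Nat) (Ptab_s_208_211 c) (Ptab_s_211_214 c) (Nat.ble 211 c)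
noncomputable def Ptab_s_203_214 (c : Nat) : Nat := @Bool.rec (fun _ => Nat) (Ptab_s_203_208 c) (Ptab_s_208_214 c) (Nat.ble 208 c)
noncomputable def Ptab_s_215_217 (c : Nat) : Nat := @Bool.rec (fun _ => Nat) (Ptab_215) (Ptab_216) (Nat.ble 216 c)
noncomputable def Ptab_s_214_217 (c : Nat) : Nat := @Bool.rec (fun _ => Nat) (Ptab_214) (Ptab_s_215_217 c) (Nat.ble 215 c)
noncomputable def Ptab_s_218_220 (c : Nat) : Nat := @Bool.rec (fun _ => Nat) (Ptab_218) (Ptab_219) (Nat.ble 219 c)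
noncomputable def Ptab_s_217_220 (c : Nat) : Nat := @Bool.rec (fun _ => Nat) (Ptab_217) (Ptab_s_218_220 c) (Nat.ble 218 c)
noncomputable def Ptab_s_214_220 (c : Nat) : Nat := @Bool.rec (fun _ => Nat) (Ptab_s_214_217 c) (Ptab_s_217_220 c) (Nat.ble 217 c)
noncomputable def Ptab_s_221_223 (c : Nat) : Nat := @Bool.rec (fun _ => Nat) (Ptab_221) (Ptab_222) (Nat.ble 222 c)
noncomputable def Ptab_s_220_223 (c : Nat) : Nat := @Bool.rec (fun _ => Nat) (Ptab_220) (Ptab_s_221_223 c) (Nat.ble 221 c)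
noncomputable def Ptab_s_224_226 (c : Nat) : Nat := @Bool.rec (fun _ => Nat) (Ptab_224) (Ptab_225) (Nat.ble 225 c)
noncomputable def Ptab_s_223_226 (c : Nat) : Nat := @Bool.rec (fun _ => Nat) (Ptab_223) (Ptab_s_224_226 c) (Nat.ble 224 c)
noncomputable def Ptab_s_220_226 (c : Nat) : Nat := @Bool.rec (fun _ => Nat) (Ptab_s_220_223 c) (Ptab_s_223_226 c) (Nat.ble 223 c)
noncomputable def Ptab_s_214_226 (c : Nat) : Nat := @Bool.rec (fun _ => Nat) (Ptab_s_214_220 c) (Ptab_s_220_226 c) (Nat.ble 220 c)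
noncomputable def Ptab_s_203_226 (c : Nat) : Nat := @Bool.rec (fun _ => Nat) (Ptab_s_203_214 c) (Ptab_s_214_226 c) (Nat.ble 214 c)
noncomputable def Ptab_s_181_226 (c : Nat) : Nat := @Bool.rec (fun _ => Nat) (Ptab_s_181_203 c) (Ptab_s_203_226 c) (Nat.ble 203 c)
noncomputable def Ptab_s_226_228 (c : Nat) : Nat := @Bool.rec (fun _ => Nat) (Ptab_226) (Ptab_227) (Nat.ble 227 c)
noncomputable def Ptab_s_229_231 (c : Nat) : Nat := @Bool.rec (fun _ => Nat) (Ptab_229) (Ptab_230) (Nat.ble 230 c)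
noncomputable def Ptab_s_228_231 (c : Nat) : Nat := @Bool.rec (fun _ => Nat) (Ptab_228) (Ptab_s_229_231 c) (Nat.ble 229 c)
noncomputable def Ptab_s_226_231 (c : Nat) : Nat := @Bool.rec (fun _ => Nat) (Ptab_s_226_228 c) (Ptab_s_228_231 c) (Nat.ble 228 c)
noncomputable def Ptab_s_232_234 (c : Nat) : Nat := @Bool.rec (fun _ => Nat) (Ptab_232) (Ptab_233) (Nat.ble 233 c)
noncomputable def Ptab_s_231_234 (c : Nat) : Nat := @Bool.rec (fun _ => Nat) (Ptab_231) (Ptab_s_232_234 c) (Nat.ble 232 c)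
noncomputable def Ptab_s_235_237 (c : Nat) : Nat := @Bool.rec (fun _ => Nat) (Ptab_235) (Ptab_236) (Nat.ble 236 c)
noncomputable def Ptab_s_234_237 (c : Nat) : Nat := @Bool.rec (fun _ => Nat) (Ptab_234) (Ptab_s_235_237 c) (Nat.ble 235 c)
noncomputable def Ptab_s_231_237 (c : Nat) : Nat := @Bool.rec (fun _ => Nat) (Ptab_s_231_234 c) (Ptab_s_234_237 c) (Nat.ble 234 c)
noncomputable def Ptab_s_226_237 (c : Nat) : Nat := @Bool.rec (fun _ => Nat) (Ptab_s_226_231 c) (Ptab_s_231_237 c) (Nat.ble 231 c)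
noncomputable def Ptab_s_237_239 (c : Nat) : Nat := @Bool.rec (fun _ => Nat) (Ptab_237) (Ptab_238) (Nat.ble 238 c)
noncomputable def Ptab_s_240_242 (c : Nat) : Nat := @Bool.rec (fun _ => Nat) (Ptab_240) (Ptab_241) (Nat.ble 241 c)
noncomputable def Ptab_s_239_242 (c : Nat) : Nat := @Bool.rec (fun _ => Nat) (Ptab_239) (Ptab_s_240_242 c) (Nat.ble 240 c)
noncomputable def Ptab_s_237_242 (c : Nat) : Nat := @Bool.rec (fun _ => Nat) (Ptab_s_237_239 c) (Ptab_s_239_242 c) (Nat.ble 239 c)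
noncomputable def Ptab_s_243_245 (c : Nat) : Nat := @Bool.rec (fun _ => Nat) (Ptab_243) (Ptab_244) (Nat.ble 244 c)
noncomputable def Ptab_s_242_245 (c : Nat) : Nat := @Bool.rec (fun _ => Nat) (Ptab_242) (Ptab_s_243_245 c) (Nat.ble 243 c)
noncomputable def Ptab_s_246_248 (c : Nat) : Nat := @Bool.rec (fun _ => Nat) (Ptab_246) (Ptab_247) (Nat.ble 247 c)
noncomputable def Ptab_s_245_248 (c : Nat) : Nat := @Bool.rec (fun _ => Nat) (Ptab_245) (Ptab_s_246_248 c) (Nat.ble 246 c)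
noncomputable def Ptab_s_242_248 (c : Nat) : Nat := @Bool.rec (fun _ => Nat) (Ptab_s_242_245 c) (Ptab_s_245_248 c) (Nat.ble 245 c)
noncomputable def Ptab_s_237_248 (c : Nat) : Nat := @Bool.rec (fun _ => Nat) (Ptab_s_237_242 c) (Ptab_s_242_248 c) (Nat.ble 242 c)
noncomputable def Ptab_s_226_248 (c : Nat) : Nat := @Bool.rec (fun _ => Nat) (Ptab_s_226_237 c) (Ptab_s_237_248 c) (Nat.ble 237 c)
noncomputable def Ptab_s_248_250 (c : Nat) : Nat := @Bool.rec (fun _ => Nat) (Ptab_248) (Ptab_249) (Nat.ble 249 c)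
noncomputable def Ptab_s_251_253 (c : Nat) : Nat := @Bool.rec (fun _ => Nat) (Ptab_251) (Ptab_252) (Nat.ble 252 c)
noncomputable def Ptab_s_250_253 (c : Nat) : Nat := @Bool.rec (fun _ => Nat) (Ptab_250) (Ptab_s_251_253 c) (Nat.ble 251 c)
noncomputable def Ptab_s_248_253 (c : Nat) : Nat := @Bool.rec (fun _ => Nat) (Ptab_s_248_250 c) (Ptab_s_250_253 c) (Nat.ble 250 c)
noncomputable def Ptab_s_254_256 (c : Nat) : Nat := @Bool.rec (fun _ => Nat) (Ptab_254) (Ptab_255) (Nat.ble 255 c)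
noncomputable def Ptab_s_253_256 (c : Nat) : Nat := @Bool.rec (fun _ => Nat) (Ptab_253) (Ptab_s_254_256 c) (Nat.ble 254 c)
noncomputable def Ptab_s_257_259 (c : Nat) : Nat := @Bool.rec (fun _ => Nat) (Ptab_257) (Ptab_258) (Nat.ble 258 c)
noncomputable def Ptab_s_256_259 (c : Nat) : Nat := @Bool.rec (fun _ => Nat) (Ptab_256) (Ptab_s_257_259 c) (Nat.ble 257 c)
noncomputable def Ptab_s_253_259 (c : Nat) : Nat := @Bool.rec (fun _ => Nat) (Ptab_s_253_256 c) (Ptab_s_256_259 c) (Nat.ble 256 c)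
noncomputable def Ptab_s_248_259 (c : Nat) : Nat := @Bool.rec (fun _ => Nat) (Ptab_s_248_253 c) (Ptab_s_253_259 c) (Nat.ble 253 c)
noncomputable def Ptab_s_260_262 (c : Nat) : Nat := @Bool.rec (fun _ => Nat) (Ptab_260) (Ptab_261) (Nat.ble 261 c)
noncomputable def Ptab_s_259_262 (c : Nat) : Nat := @Bool.rec (fun _ => Nat) (Ptab_259) (Ptab_s_260_262 c) (Nat.ble 260 c)
noncomputable def Ptab_s_263_265 (c : Nat) : Nat := @Bool.rec (fun _ => Nat) (Ptab_263) (Ptab_264) (Nat.ble 264 c)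
noncomputable def Ptab_s_262_265 (c : Nat) : Nat := @Bool.rec (fun _ => Nat) (Ptab_262) (Ptab_s_263_265 c) (Nat.ble 263 c)
noncomputable def Ptab_s_259_265 (c : Nat) : Nat := @Bool.rec (fun _ => Nat) (Ptab_s_259_262 c) (Ptab_s_262_265 c) (Nat.ble 262 c)
noncomputable def Ptab_s_266_268 (c : Nat) : Nat := @Bool.rec (fun _ => Nat) (Ptab_266) (Ptab_267) (Nat.ble 267 c)
noncomputable def Ptab_s_265_268 (c : Nat) : Nat := @Bool.rec (fun _ => Nat) (Ptab_265) (Ptab_s_266_268 c) (Nat.ble 266 c)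
noncomputable def Ptab_s_269_271 (c : Nat) : Nat := @Bool.rec (fun _ => Nat) (Ptab_269) (Ptab_270) (Nat.ble 270 c)
noncomputable def Ptab_s_268_271 (c : Nat) : Nat := @Bool.rec (fun _ => Nat) (Ptab_268) (Ptab_s_269_271 c) (Nat.ble 269 c)
noncomputable def Ptab_s_265_271 (c : Nat) : Nat := @Bool.rec (fun _ => Nat) (Ptab_s_265_268 c) (Ptab_s_268_271 c) (Nat.ble 268 c)
noncomputable def Ptab_s_259_271 (c : Nat) : Nat := @Bool.rec (fun _ => Nat) (Ptab_s_259_265 c) (Ptab_s_265_271 c) (Nat.ble 265 c)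
noncomputable def Ptab_s_248_271 (c : Nat) : Nat := @Bool.rec (fun _ => Nat) (Ptab_s_248_259 c) (Ptab_s_259_271 c) (Nat.ble 259 c)
noncomputable def Ptab_s_226_271 (c : Nat) : Nat := @Bool.rec (fun _ => Nat) (Ptab_s_226_248 c) (Ptab_s_248_271 c) (Nat.ble 248 c)
noncomputable def Ptab_s_181_271 (c : Nat) : Nat := @Bool.rec (fun _ => Nat) (Ptab_s_181_226 c) (Ptab_s_226_271 c) (Nat.ble 226 c)
noncomputable def Ptab_s_271_273 (c : Nat) : Nat := @Bool.rec (fun _ => Nat) (Ptab_271) (Ptab_272) (Nat.ble 272 c)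
noncomputable def Ptab_s_274_276 (c : Nat) : Nat := @Bool.rec (fun _ => Nat) (Ptab_274) (Ptab_275) (Nat.ble 275 c)
noncomputable def Ptab_s_273_276 (c : Nat) : Nat := @Bool.rec (fun _ => Nat) (Ptab_273) (Ptab_s_274_276 c) (Nat.ble 274 c)
noncomputable def Ptab_s_271_276 (c : Nat) : Nat := @Bool.rec (fun _ => Nat) (Ptab_s_271_273 c) (Ptab_s_273_276 c) (Nat.ble 273 c)
noncomputable def Ptab_s_277_279 (c : Nat) : Nat := @Bool.rec (fun _ => Nat) (Ptab_277) (Ptab_278) (Nat.ble 278 c)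
noncomputable def Ptab_s_276_279 (c : Nat) : Nat := @Bool.rec (fun _ => Nat) (Ptab_276) (Ptab_s_277_279 c) (Nat.ble 277 c)
noncomputable def Ptab_s_280_282 (c : Nat) : Nat := @Bool.rec (fun _ => Nat) (Ptab_280) (Ptab_281) (Nat.ble 281 c)
noncomputable def Ptab_s_279_282 (c : Nat) : Nat := @Bool.rec (fun _ => Nat) (Ptab_279) (Ptab_s_280_282 c) (Nat.ble 280 c)
noncomputable def Ptab_s_276_282 (c : Nat) : Nat := @Bool.rec (fun _ => Nat) (Ptab_s_276_279 c) (Ptab_s_279_282 c) (Nat.ble 279 c)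
noncomputable def Ptab_s_271_282 (c : Nat) : Nat := @Bool.rec (fun _ => Nat) (Ptab_s_271_276 c) (Ptab_s_276_282 c) (Nat.ble 276 c)
noncomputable def Ptab_s_282_284 (c : Nat) : Nat := @Bool.rec (fun _ => Nat) (Ptab_282) (Ptab_283) (Nat.ble 283 c)
noncomputable def Ptab_s_285_287 (c : Nat) : Nat := @Bool.rec (fun _ => Nat) (Ptab_285) (Ptab_286) (Nat.ble 286 c)
noncomputable def Ptab_s_284_287 (c : Nat) : Nat := @Bool.rec (fun _ => Nat) (Ptab_284) (Ptab_s_285_287 c) (Nat.ble 285 c)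
noncomputable def Ptab_s_282_287 (c : Nat) : Nat := @Bool.rec (fun _ => Nat) (Ptab_s_282_284 c) (Ptab_s_284_287 c) (Nat.ble 284 c)
noncomputable def Ptab_s_288_290 (c : Nat) : Nat := @Bool.rec (fun _ => Nat) (Ptab_288) (Ptab_289) (Nat.ble 289 c)
noncomputable def Ptab_s_287_290 (c : Nat) : Nat := @Bool.rec (fun _ => Nat) (Ptab_287) (Ptab_s_288_290 c) (Nat.ble 288 c)
noncomputable def Ptab_s_291_293 (c : Nat) : Nat := @Bool.rec (fun _ => Nat) (Ptab_291) (Ptab_292) (Nat.ble 292 c)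
noncomputable def Ptab_s_290_293 (c : Nat) : Nat := @Bool.rec (fun _ => Nat) (Ptab_290) (Ptab_s_291_293 c) (Nat.ble 291 c)
noncomputable def Ptab_s_287_293 (c : Nat) : Nat := @Bool.rec (fun _ => Nat) (Ptab_s_287_290 c) (Ptab_s_290_293 c) (Nat.ble 290 c)
noncomputable def Ptab_s_282_293 (c : Nat) : Nat := @Bool.rec (fun _ => Nat) (Ptab_s_282_287 c) (Ptab_s_287_293 c) (Nat.ble 287 c)
noncomputable def Ptab_s_271_293 (c : Nat) : Nat := @Bool.rec (fun _ => Nat) (Ptab_s_271_282 c) (Ptab_s_282_293 c) (Nat.ble 282 c)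
noncomputable def Ptab_s_293_295 (c : Nat) : Nat := @Bool.rec (fun _ => Nat) (Ptab_293) (Ptab_294) (Nat.ble 294 c)
noncomputable def Ptab_s_296_298 (c : Nat) : Nat := @Bool.rec (fun _ => Nat) (Ptab_296) (Ptab_297) (Nat.ble 297 c)
noncomputable def Ptab_s_295_298 (c : Nat) : Nat := @Bool.rec (fun _ => Nat) (Ptab_295) (Ptab_s_296_298 c) (Nat.ble 296 c)
noncomputable def Ptab_s_293_298 (c : Nat) : Nat := @Bool.rec (fun _ => Nat) (Ptab_s_293_295 c) (Ptab_s_295_298 c) (Nat.ble 295 c)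
noncomputable def Ptab_s_299_301 (c : Nat) : Nat := @Bool.rec (fun _ => Nat) (Ptab_299) (Ptab_300) (Nat.ble 300 c)
noncomputable def Ptab_s_298_301 (c : Nat) : Nat := @Bool.rec (fun _ => Nat) (Ptab_298) (Ptab_s_299_301 c) (Nat.ble 299 c)
noncomputable def Ptab_s_302_304 (c : Nat) : Nat := @Bool.rec (fun _ => Nat) (Ptab_302) (Ptab_303) (Nat.ble 303 c)
noncomputable def Ptab_s_301_304 (c : Nat) : Nat := @Bool.rec (fun _ => Nat) (Ptab_301) (Ptab_s_302_304 c) (Nat.ble 302 c)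
noncomputable def Ptab_s_298_304 (c : Nat) : Nat := @Bool.rec (fun _ => Nat) (Ptab_s_298_301 c) (Ptab_s_301_304 c) (Nat.ble 301 c)
noncomputable def Ptab_s_293_304 (c : Nat) : Nat := @Bool.rec (fun _ => Nat) (Ptab_s_293_298 c) (Ptab_s_298_304 c) (Nat.ble 298 c)
noncomputable def Ptab_s_305_307 (c : Nat) : Nat := @Bool.rec (fun _ => Nat) (Ptab_305) (Ptab_306) (Nat.ble 306 c)
noncomputable def Ptab_s_304_307 (c : Nat) : Nat := @Bool.rec (fun _ => Nat) (Ptab_304) (Ptab_s_305_307 c) (Nat.ble 305 c)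
noncomputable def Ptab_s_308_310 (c : Nat) : Nat := @Bool.rec (fun _ => Nat) (Ptab_308) (Ptab_309) (Nat.ble 309 c)
noncomputable def Ptab_s_307_310 (c : Nat) : Nat := @Bool.rec (fun _ => Nat) (Ptab_307) (Ptab_s_308_310 c) (Nat.ble 308 c)
noncomputable def Ptab_s_304_310 (c : Nat) : Nat := @Bool.rec (fun _ => Nat) (Ptab_s_304_307 c) (Ptab_s_307_310 c) (Nat.ble 307 c)
noncomputable def Ptab_s_311_313 (c : Nat) : Nat := @Bool.rec (fun _ => Nat) (Ptab_311) (Ptab_312) (Nat.ble 312 c)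
noncomputable def Ptab_s_310_313 (c : Nat) : Nat := @Bool.rec (fun _ => Nat) (Ptab_310) (Ptab_s_311_313 c) (Nat.ble 311 c)
noncomputable def Ptab_s_314_316 (c : Nat) : Nat := @Bool.rec (fun _ => Nat) (Ptab_314) (Ptab_315) (Nat.ble 315 c)
noncomputable def Ptab_s_313_316 (c : Nat) : Nat := @Bool.rec (fun _ => Nat) (Ptab_313) (Ptab_s_314_316 c) (Nat.ble 314 c)
noncomputable def Ptab_s_310_316 (c : Nat) : Nat := @Bool.rec (fun _ => Nat) (Ptab_s_310_313 c) (Ptab_s_313_316 c) (Nat.ble 313 c)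
noncomputable def Ptab_s_304_316 (c : Nat) : Nat := @Bool.rec (fun _ => Nat) (Ptab_s_304_310 c) (Ptab_s_310_316 c) (Nat.ble 310 c)
noncomputable def Ptab_s_293_316 (c : Nat) : Nat := @Bool.rec (fun _ => Nat) (Ptab_s_293_304 c) (Ptab_s_304_316 c) (Nat.ble 304 c)
noncomputable def Ptab_s_271_316 (c : Nat) : Nat := @Bool.rec (fun _ => Nat) (Ptab_s_271_293 c) (Ptab_s_293_316 c) (Nat.ble 293 c)
noncomputable def Ptab_s_316_318 (c : Nat) : Nat := @Bool.rec (fun _ => Nat) (Ptab_316) (Ptab_317) (Nat.ble 317 c)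
noncomputable def Ptab_s_319_321 (c : Nat) : Nat := @Bool.rec (fun _ => Nat) (Ptab_319) (Ptab_320) (Nat.ble 320 c)
noncomputable def Ptab_s_318_321 (c : Nat) : Nat := @Bool.rec (fun _ => Nat) (Ptab_318) (Ptab_s_319_321 c) (Nat.ble 319 c)
noncomputable def Ptab_s_316_321 (c : Nat) : Nat := @Bool.rec (fun _ => Nat) (Ptab_s_316_318 c) (Ptab_s_318_321 c) (Nat.ble 318 c)
noncomputable def Ptab_s_322_324 (c : Nat) : Nat := @Bool.rec (fun _ => Nat) (Ptab_322) (Ptab_323) (Nat.ble 323 c)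
noncomputable def Ptab_s_321_324 (c : Nat) : Nat := @Bool.rec (fun _ => Nat) (Ptab_321) (Ptab_s_322_324 c) (Nat.ble 322 c)
noncomputable def Ptab_s_325_327 (c : Nat) : Nat := @Bool.rec (fun _ => Nat) (Ptab_325) (Ptab_326) (Nat.ble 326 c)
noncomputable def Ptab_s_324_327 (c : Nat) : Nat := @Bool.rec (fun _ => Nat) (Ptab_324) (Ptab_s_325_327 c) (Nat.ble 325 c)
noncomputable def Ptab_s_321_327 (c : Nat) : Nat := @Bool.rec (fun _ => Nat) (Ptab_s_321_324 c) (Ptab_s_324_327 c) (Nat.ble 324 c)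
noncomputable def Ptab_s_316_327 (c : Nat) : Nat := @Bool.rec (fun _ => Nat) (Ptab_s_316_321 c) (Ptab_s_321_327 c) (Nat.ble 321 c)
noncomputable def Ptab_s_328_330 (c : Nat) : Nat := @Bool.rec (fun _ => Nat) (Ptab_328) (Ptab_329) (Nat.ble 329 c)
noncomputable def Ptab_s_327_330 (c : Nat) : Nat := @Bool.rec (fun _ => Nat) (Ptab_327) (Ptab_s_328_330 c) (Nat.ble 328 c)
noncomputable def Ptab_s_331_333 (c : Nat) : Nat := @Bool.rec (fun _ => Nat) (Ptab_331) (Ptab_332) (Nat.ble 332 c)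
noncomputable def Ptab_s_330_333 (c : Nat) : Nat := @Bool.rec (fun _ => Nat) (Ptab_330) (Ptab_s_331_333 c) (Nat.ble 331 c)
noncomputable def Ptab_s_327_333 (c : Nat) : Nat := @Bool.rec (fun _ => Nat) (Ptab_s_327_330 c) (Ptab_s_330_333 c) (Nat.ble 330 c)
noncomputable def Ptab_s_334_336 (c : Nat) : Nat := @Bool.rec (fun _ => Nat) (Ptab_334) (Ptab_335) (Nat.ble 335 c)
noncomputable def Ptab_s_333_336 (c : Nat) : Nat := @Bool.rec (fun _ => Nat) (Ptab_333) (Ptab_s_334_336 c) (Nat.ble 334 c)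
noncomputable def Ptab_s_337_339 (c : Nat) : Nat := @Bool.rec (fun _ => Nat) (Ptab_337) (Ptab_338) (Nat.ble 338 c)
noncomputable def Ptab_s_336_339 (c : Nat) : Nat := @Bool.rec (fun _ => Nat) (Ptab_336) (Ptab_s_337_339 c) (Nat.ble 337 c)
noncomputable def Ptab_s_333_339 (c : Nat) : Nat := @Bool.rec (fun _ => Nat) (Ptab_s_333_336 c) (Ptab_s_336_339 c) (Nat.ble 336 c)
noncomputable def Ptab_s_327_339 (c : Nat) : Nat := @Bool.rec (fun _ => Nat) (Ptab_s_327_333 c) (Ptab_s_333_339 c) (Nat.ble 333 c)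
noncomputable def Ptab_s_316_339 (c : Nat) : Nat := @Bool.rec (fun _ => Nat) (Ptab_s_316_327 c) (Ptab_s_327_339 c) (Nat.ble 327 c)
noncomputable def Ptab_s_339_341 (c : Nat) : Nat := @Bool.rec (fun _ => Nat) (Ptab_339) (Ptab_340) (Nat.ble 340 c)
noncomputable def Ptab_s_342_344 (c : Nat) : Nat := @Bool.rec (fun _ => Nat) (Ptab_342) (Ptab_343) (Nat.ble 343 c)
noncomputable def Ptab_s_341_344 (c : Nat) : Nat := @Bool.rec (fun _ => Nat) (Ptab_341) (Ptab_s_342_344 c) (Nat.ble 342 c)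
noncomputable def Ptab_s_339_344 (c : Nat) : Nat := @Bool.rec (fun _ => Nat) (Ptab_s_339_341 c) (Ptab_s_341_344 c) (Nat.ble 341 c)
noncomputable def Ptab_s_345_347 (c : Nat) : Nat := @Bool.rec (fun _ => Nat) (Ptab_345) (Ptab_346) (Nat.ble 346 c)
noncomputable def Ptab_s_344_347 (c : Nat) : Nat := @Bool.rec (fun _ => Nat) (Ptab_344) (Ptab_s_345_347 c) (Nat.ble 345 c)
noncomputable def Ptab_s_348_350 (c : Nat) : Nat := @Bool.rec (fun _ => Nat) (Ptab_348) (Ptab_349) (Nat.ble 349 c)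
noncomputable def Ptab_s_347_350 (c : Nat) : Nat := @Bool.rec (fun _ => Nat) (Ptab_347) (Ptab_s_348_350 c) (Nat.ble 348 c)
noncomputable def Ptab_s_344_350 (c : Nat) : Nat := @Bool.rec (fun _ => Nat) (Ptab_s_344_347 c) (Ptab_s_347_350 c) (Nat.ble 347 c)
noncomputable def Ptab_s_339_350 (c : Nat) : Nat := @Bool.rec (fun _ => Nat) (Ptab_s_339_344 c) (Ptab_s_344_350 c) (Nat.ble 344 c)
noncomputable def Ptab_s_351_353 (c : Nat) : Nat := @Bool.rec (fun _ => Nat) (Ptab_351) (Ptab_352) (Nat.ble 352 c)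
noncomputable def Ptab_s_350_353 (c : Nat) : Nat := @Bool.rec (fun _ => Nat) (Ptab_350) (Ptab_s_351_353 c) (Nat.ble 351 c)
noncomputable def Ptab_s_354_356 (c : Nat) : Nat := @Bool.rec (fun _ => Nat) (Ptab_354) (Ptab_355) (Nat.ble 355 c)
noncomputable def Ptab_s_353_356 (c : Nat) : Nat := @Bool.rec (fun _ => Nat) (Ptab_353) (Ptab_s_354_356 c) (Nat.ble 354 c)
noncomputable def Ptab_s_350_356 (c : Nat) : Nat := @Bool.rec (fun _ => Nat) (Ptab_s_350_353 c) (Ptab_s_353_356 c) (Nat.ble 353 c)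
noncomputable def Ptab_s_357_359 (c : Nat) : Nat := @Bool.rec (fun _ => Nat) (Ptab_357) (Ptab_358) (Nat.ble 358 c)
noncomputable def Ptab_s_356_359 (c : Nat) : Nat := @Bool.rec (fun _ => Nat) (Ptab_356) (Ptab_s_357_359 c) (Nat.ble 357 c)
noncomputable def Ptab_s_360_362 (c : Nat) : Nat := @Bool.rec (fun _ => Nat) (Ptab_360) (Ptab_361) (Nat.ble 361 c)
noncomputable def Ptab_s_359_362 (c : Nat) : Nat := @Bool.rec (fun _ => Nat) (Ptab_359) (Ptab_s_360_362 c) (Nat.ble 360 c)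
noncomputable def Ptab_s_356_362 (c : Nat) : Nat := @Bool.rec (fun _ => Nat) (Ptab_s_356_359 c) (Ptab_s_359_362 c) (Nat.ble 359 c)
noncomputable def Ptab_s_350_362 (c : Nat) : Nat := @Bool.rec (fun _ => Nat) (Ptab_s_350_356 c) (Ptab_s_356_362 c) (Nat.ble 356 c)
noncomputable def Ptab_s_339_362 (c : Nat) : Nat := @Bool.rec (fun _ => Nat) (Ptab_s_339_350 c) (Ptab_s_350_362 c) (Nat.ble 350 c)
noncomputable def Ptab_s_316_362 (c : Nat) : Nat := @Bool.rec (fun _ => Nat) (Ptab_s_316_339 c) (Ptab_s_339_362 c) (Nat.ble 339 c)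
noncomputable def Ptab_s_271_362 (c : Nat) : Nat := @Bool.rec (fun _ => Nat) (Ptab_s_271_316 c) (Ptab_s_316_362 c) (Nat.ble 316 c)
noncomputable def Ptab_s_181_362 (c : Nat) : Nat := @Bool.rec (fun _ => Nat) (Ptab_s_181_271 c) (Ptab_s_271_362 c) (Nat.ble 271 c)
noncomputable def Ptab_s_0_362 (c : Nat) : Nat := @Bool.rec (fun _ => Nat) (Ptab_s_0_181 c) (Ptab_s_181_362 c) (Nat.ble 181 c)
noncomputable def Ptab_s_362_364 (c : Nat) : Nat := @Bool.rec (fun _ => Nat) (Ptab_362) (Ptab_363) (Nat.ble 363 c)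
noncomputable def Ptab_s_365_367 (c : Nat) : Nat := @Bool.rec (fun _ => Nat) (Ptab_365) (Ptab_366) (Nat.ble 366 c)
noncomputable def Ptab_s_364_367 (c : Nat) : Nat := @Bool.rec (fun _ => Nat) (Ptab_364) (Ptab_s_365_367 c) (Nat.ble 365 c)
noncomputable def Ptab_s_362_367 (c : Nat) : Nat := @Bool.rec (fun _ => Nat) (Ptab_s_362_364 c) (Ptab_s_364_367 c) (Nat.ble 364 c)
noncomputable def Ptab_s_368_370 (c : Nat) : Nat := @Bool.rec (fun _ => Nat) (Ptab_368) (Ptab_369) (Nat.ble 369 c)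
noncomputable def Ptab_s_367_370 (c : Nat) : Nat := @Bool.rec (fun _ => Nat) (Ptab_367) (Ptab_s_368_370 c) (Nat.ble 368 c)
noncomputable def Ptab_s_371_373 (c : Nat) : Nat := @Bool.rec (fun _ => Nat) (Ptab_371) (Ptab_372) (Nat.ble 372 c)
noncomputable def Ptab_s_370_373 (c : Nat) : Nat := @Bool.rec (fun _ => Nat) (Ptab_370) (Ptab_s_371_373 c) (Nat.ble 371 c)
noncomputable def Ptab_s_367_373 (c : Nat) : Nat := @Bool.rec (fun _ => Nat) (Ptab_s_367_370 c) (Ptab_s_370_373 c) (Nat.ble 370 c)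
noncomputable def Ptab_s_362_373 (c : Nat) : Nat := @Bool.rec (fun _ => Nat) (Ptab_s_362_367 c) (Ptab_s_367_373 c) (Nat.ble 367 c)
noncomputable def Ptab_s_373_375 (c : Nat) : Nat := @Bool.rec (fun _ => Nat) (Ptab_373) (Ptab_374) (Nat.ble 374 c)
noncomputable def Ptab_s_376_378 (c : Nat) : Nat := @Bool.rec (fun _ => Nat) (Ptab_376) (Ptab_377) (Nat.ble 377 c)
noncomputable def Ptab_s_375_378 (c : Nat) : Nat := @Bool.rec (fun _ => Nat) (Ptab_375) (Ptab_s_376_378 c) (Nat.ble 376 c)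
noncomputable def Ptab_s_373_378 (c : Nat) : Nat := @Bool.rec (fun _ => Nat) (Ptab_s_373_375 c) (Ptab_s_375_378 c) (Nat.ble 375 c)
noncomputable def Ptab_s_379_381 (c : Nat) : Nat := @Bool.rec (fun _ => Nat) (Ptab_379) (Ptab_380) (Nat.ble 380 c)
noncomputable def Ptab_s_378_381 (c : Nat) : Nat := @Bool.rec (fun _ => Nat) (Ptab_378) (Ptab_s_379_381 c) (Nat.ble 379 c)
noncomputable def Ptab_s_382_384 (c : Nat) : Nat := @Bool.rec (fun _ => Nat) (Ptab_382) (Ptab_383) (Nat.ble 383 c)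
noncomputable def Ptab_s_381_384 (c : Nat) : Nat := @Bool.rec (fun _ => Nat) (Ptab_381) (Ptab_s_382_384 c) (Nat.ble 382 c)
noncomputable def Ptab_s_378_384 (c : Nat) : Nat := @Bool.rec (fun _ => Nat) (Ptab_s_378_381 c) (Ptab_s_381_384 c) (Nat.ble 381 c)
noncomputable def Ptab_s_373_384 (c : Nat) : Nat := @Bool.rec (fun _ => Nat) (Ptab_s_373_378 c) (Ptab_s_378_384 c) (Nat.ble 378 c)
noncomputable def Ptab_s_362_384 (c : Nat) : Nat := @Bool.rec (fun _ => Nat) (Ptab_s_362_373 c) (Ptab_s_373_384 c) (Nat.ble 373 c)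
noncomputable def Ptab_s_384_386 (c : Nat) : Nat := @Bool.rec (fun _ => Nat) (Ptab_384) (Ptab_385) (Nat.ble 385 c)
noncomputable def Ptab_s_387_389 (c : Nat) : Nat := @Bool.rec (fun _ => Nat) (Ptab_387) (Ptab_388) (Nat.ble 388 c)
noncomputable def Ptab_s_386_389 (c : Nat) : Nat := @Bool.rec (fun _ => Nat) (Ptab_386) (Ptab_s_387_389 c) (Nat.ble 387 c)
noncomputable def Ptab_s_384_389 (c : Nat) : Nat := @Bool.rec (fun _ => Nat) (Ptab_s_384_386 c) (Ptab_s_386_389 c) (Nat.ble 386 c)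
noncomputable def Ptab_s_390_392 (c : Nat) : Nat := @Bool.rec (fun _ => Nat) (Ptab_390) (Ptab_391) (Nat.ble 391 c)
noncomputable def Ptab_s_389_392 (c : Nat) : Nat := @Bool.rec (fun _ => Nat) (Ptab_389) (Ptab_s_390_392 c) (Nat.ble 390 c)
noncomputable def Ptab_s_393_395 (c : Nat) : Nat := @Bool.rec (fun _ => Nat) (Ptab_393) (Ptab_394) (Nat.ble 394 c)
noncomputable def Ptab_s_392_395 (c : Nat) : Nat := @Bool.rec (fun _ => Nat) (Ptab_392) (Ptab_s_393_395 c) (Nat.ble 393 c)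
noncomputable def Ptab_s_389_395 (c : Nat) : Nat := @Bool.rec (fun _ => Nat) (Ptab_s_389_392 c) (Ptab_s_392_395 c) (Nat.ble 392 c)
noncomputable def Ptab_s_384_395 (c : Nat) : Nat := @Bool.rec (fun _ => Nat) (Ptab_s_384_389 c) (Ptab_s_389_395 c) (Nat.ble 389 c)
noncomputable def Ptab_s_396_398 (c : Nat) : Nat := @Bool.rec (fun _ => Nat) (Ptab_396) (Ptab_397) (Nat.ble 397 c)
noncomputable def Ptab_s_395_398 (c : Nat) : Nat := @Bool.rec (fun _ => Nat) (Ptab_395) (Ptab_s_396_398 c) (Nat.ble 396 c)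
noncomputable def Ptab_s_399_401 (c : Nat) : Nat := @Bool.rec (fun _ => Nat) (Ptab_399) (Ptab_400) (Nat.ble 400 c)
noncomputable def Ptab_s_398_401 (c : Nat) : Nat := @Bool.rec (fun _ => Nat) (Ptab_398) (Ptab_s_399_401 c) (Nat.ble 399 c)
noncomputable def Ptab_s_395_401 (c : Nat) : Nat := @Bool.rec (fun _ => Nat) (Ptab_s_395_398 c) (Ptab_s_398_401 c) (Nat.ble 398 c)
noncomputable def Ptab_s_402_404 (c : Nat) : Nat := @Bool.rec (fun _ => Nat) (Ptab_402) (Ptab_403) (Nat.ble 403 c)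
noncomputable def Ptab_s_401_404 (c : Nat) : Nat := @Bool.rec (fun _ => Nat) (Ptab_401) (Ptab_s_402_404 c) (Nat.ble 402 c)
noncomputable def Ptab_s_405_407 (c : Nat) : Nat := @Bool.rec (fun _ => Nat) (Ptab_405) (Ptab_406) (Nat.ble 406 c)
noncomputable def Ptab_s_404_407 (c : Nat) : Nat := @Bool.rec (fun _ => Nat) (Ptab_404) (Ptab_s_405_407 c) (Nat.ble 405 c)
noncomputable def Ptab_s_401_407 (c : Nat) : Nat := @Bool.rec (fun _ => Nat) (Ptab_s_401_404 c) (Ptab_s_404_407 c) (Nat.ble 404 c)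
noncomputable def Ptab_s_395_407 (c : Nat) : Nat := @Bool.rec (fun _ => Nat) (Ptab_s_395_401 c) (Ptab_s_401_407 c) (Nat.ble 401 c)
noncomputable def Ptab_s_384_407 (c : Nat) : Nat := @Bool.rec (fun _ => Nat) (Ptab_s_384_395 c) (Ptab_s_395_407 c) (Nat.ble 395 c)
noncomputable def Ptab_s_362_407 (c : Nat) : Nat := @Bool.rec (fun _ => Nat) (Ptab_s_362_384 c) (Ptab_s_384_407 c) (Nat.ble 384 c)
noncomputable def Ptab_s_407_409 (c : Nat) : Nat := @Bool.rec (fun _ => Nat) (Ptab_407) (Ptab_408) (Nat.ble 408 c)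
noncomputable def Ptab_s_410_412 (c : Nat) : Nat := @Bool.rec (fun _ => Nat) (Ptab_410) (Ptab_411) (Nat.ble 411 c)
noncomputable def Ptab_s_409_412 (c : Nat) : Nat := @Bool.rec (fun _ => Nat) (Ptab_409) (Ptab_s_410_412 c) (Nat.ble 410 c)
noncomputable def Ptab_s_407_412 (c : Nat) : Nat := @Bool.rec (fun _ => Nat) (Ptab_s_407_409 c) (Ptab_s_409_412 c) (Nat.ble 409 c)
noncomputable def Ptab_s_413_415 (c : Nat) : Nat := @Bool.rec (fun _ => Nat) (Ptab_413) (Ptab_414) (Nat.ble 414 c)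
noncomputable def Ptab_s_412_415 (c : Nat) : Nat := @Bool.rec (fun _ => Nat) (Ptab_412) (Ptab_s_413_415 c) (Nat.ble 413 c)
noncomputable def Ptab_s_416_418 (c : Nat) : Nat := @Bool.rec (fun _ => Nat) (Ptab_416) (Ptab_417) (Nat.ble 417 c)
noncomputable def Ptab_s_415_418 (c : Nat) : Nat := @Bool.rec (fun _ => Nat) (Ptab_415) (Ptab_s_416_418 c) (Nat.ble 416 c)
noncomputable def Ptab_s_412_418 (c : Nat) : Nat := @Bool.rec (fun _ => Nat) (Ptab_s_412_415 c) (Ptab_s_415_418 c) (Nat.ble 415 c)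
noncomputable def Ptab_s_407_418 (c : Nat) : Nat := @Bool.rec (fun _ => Nat) (Ptab_s_407_412 c) (Ptab_s_412_418 c) (Nat.ble 412 c)
noncomputable def Ptab_s_418_420 (c : Nat) : Nat := @Bool.rec (fun _ => Nat) (Ptab_418) (Ptab_419) (Nat.ble 419 c)
noncomputable def Ptab_s_421_423 (c : Nat) : Nat := @Bool.rec (fun _ => Nat) (Ptab_421) (Ptab_422) (Nat.ble 422 c)
noncomputable def Ptab_s_420_423 (c : Nat) : Nat := @Bool.rec (fun _ => Nat) (Ptab_420) (Ptab_s_421_423 c) (Nat.ble 421 c)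
noncomputable def Ptab_s_418_423 (c : Nat) : Nat := @Bool.rec (fun _ => Nat) (Ptab_s_418_420 c) (Ptab_s_420_423 c) (Nat.ble 420 c)
noncomputable def Ptab_s_424_426 (c : Nat) : Nat := @Bool.rec (fun _ => Nat) (Ptab_424) (Ptab_425) (Nat.ble 425 c)
noncomputable def Ptab_s_423_426 (c : Nat) : Nat := @Bool.rec (fun _ => Nat) (Ptab_423) (Ptab_s_424_426 c) (Nat.ble 424 c)
noncomputable def Ptab_s_427_429 (c : Nat) : Nat := @Bool.rec (fun _ => Nat) (Ptab_427) (Ptab_428) (Nat.ble 428 c)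
noncomputable def Ptab_s_426_429 (c : Nat) : Nat := @Bool.rec (fun _ => Nat) (Ptab_426) (Ptab_s_427_429 c) (Nat.ble 427 c)
noncomputable def Ptab_s_423_429 (c : Nat) : Nat := @Bool.rec (fun _ => Nat) (Ptab_s_423_426 c) (Ptab_s_426_429 c) (Nat.ble 426 c)
noncomputable def Ptab_s_418_429 (c : Nat) : Nat := @Bool.rec (fun _ => Nat) (Ptab_s_418_423 c) (Ptab_s_423_429 c) (Nat.ble 423 c)
noncomputable def Ptab_s_407_429 (c : Nat) : Nat := @Bool.rec (fun _ => Nat) (Ptab_s_407_418 c) (Ptab_s_418_429 c) (Nat.ble 418 c)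
noncomputable def Ptab_s_429_431 (c : Nat) : Nat := @Bool.rec (fun _ => Nat) (Ptab_429) (Ptab_430) (Nat.ble 430 c)
noncomputable def Ptab_s_432_434 (c : Nat) : Nat := @Bool.rec (fun _ => Nat) (Ptab_432) (Ptab_433) (Nat.ble 433 c)
noncomputable def Ptab_s_431_434 (c : Nat) : Nat := @Bool.rec (fun _ => Nat) (Ptab_431) (Ptab_s_432_434 c) (Nat.ble 432 c)
noncomputable def Ptab_s_429_434 (c : Nat) : Nat := @Bool.rec (fun _ => Nat) (Ptab_s_429_431 c) (Ptab_s_431_434 c) (Nat.ble 431 c)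
noncomputable def Ptab_s_435_437 (c : Nat) : Nat := @Bool.rec (fun _ => Nat) (Ptab_435) (Ptab_436) (Nat.ble 436 c)
noncomputable def Ptab_s_434_437 (c : Nat) : Nat := @Bool.rec (fun _ => Nat) (Ptab_434) (Ptab_s_435_437 c) (Nat.ble 435 c)
noncomputable def Ptab_s_438_440 (c : Nat) : Nat := @Bool.rec (fun _ => Nat) (Ptab_438) (Ptab_439) (Nat.ble 439 c)
noncomputable def Ptab_s_437_440 (c : Nat) : Nat := @Bool.rec (fun _ => Nat) (Ptab_437) (Ptab_s_438_440 c) (Nat.ble 438 c)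
noncomputable def Ptab_s_434_440 (c : Nat) : Nat := @Bool.rec (fun _ => Nat) (Ptab_s_434_437 c) (Ptab_s_437_440 c) (Nat.ble 437 c)
noncomputable def Ptab_s_429_440 (c : Nat) : Nat := @Bool.rec (fun _ => Nat) (Ptab_s_429_434 c) (Ptab_s_434_440 c) (Nat.ble 434 c)
noncomputable def Ptab_s_441_443 (c : Nat) : Nat := @Bool.rec (fun _ => Nat) (Ptab_441) (Ptab_442) (Nat.ble 442 c)
noncomputable def Ptab_s_440_443 (c : Nat) : Nat := @Bool.rec (fun _ => Nat) (Ptab_440) (Ptab_s_441_443 c) (Nat.ble 441 c)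
noncomputable def Ptab_s_444_446 (c : Nat) : Nat := @Bool.rec (fun _ => Nat) (Ptab_444) (Ptab_445) (Nat.ble 445 c)
noncomputable def Ptab_s_443_446 (c : Nat) : Nat := @Bool.rec (fun _ => Nat) (Ptab_443) (Ptab_s_444_446 c) (Nat.ble 444 c)
noncomputable def Ptab_s_440_446 (c : Nat) : Nat := @Bool.rec (fun _ => Nat) (Ptab_s_440_443 c) (Ptab_s_443_446 c) (Nat.ble 443 c)
noncomputable def Ptab_s_447_449 (c : Nat) : Nat := @Bool.rec (fun _ => Nat) (Ptab_447) (Ptab_448) (Nat.ble 448 c)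
noncomputable def Ptab_s_446_449 (c : Nat) : Nat := @Bool.rec (fun _ => Nat) (Ptab_446) (Ptab_s_447_449 c) (Nat.ble 447 c)
noncomputable def Ptab_s_450_452 (c : Nat) : Nat := @Bool.rec (fun _ => Nat) (Ptab_450) (Ptab_451) (Nat.ble 451 c)
noncomputable def Ptab_s_449_452 (c : Nat) : Nat := @Bool.rec (fun _ => Nat) (Ptab_449) (Ptab_s_450_452 c) (Nat.ble 450 c)
noncomputable def Ptab_s_446_452 (c : Nat) : Nat := @Bool.rec (fun _ => Nat) (Ptab_s_446_449 c) (Ptab_s_449_452 c) (Nat.ble 449 c)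
noncomputable def Ptab_s_440_452 (c : Nat) : Nat := @Bool.rec (fun _ => Nat) (Ptab_s_440_446 c) (Ptab_s_446_452 c) (Nat.ble 446 c)
noncomputable def Ptab_s_429_452 (c : Nat) : Nat := @Bool.rec (fun _ => Nat) (Ptab_s_429_440 c) (Ptab_s_440_452 c) (Nat.ble 440 c)
noncomputable def Ptab_s_407_452 (c : Nat) : Nat := @Bool.rec (fun _ => Nat) (Ptab_s_407_429 c) (Ptab_s_429_452 c) (Nat.ble 429 c)
noncomputable def Ptab_s_362_452 (c : Nat) : Nat := @Bool.rec (fun _ => Nat) (Ptab_s_362_407 c) (Ptab_s_407_452 c) (Nat.ble 407 c)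
noncomputable def Ptab_s_452_454 (c : Nat) : Nat := @Bool.rec (fun _ => Nat) (Ptab_452) (Ptab_453) (Nat.ble 453 c)
noncomputable def Ptab_s_455_457 (c : Nat) : Nat := @Bool.rec (fun _ => Nat) (Ptab_455) (Ptab_456) (Nat.ble 456 c)
noncomputable def Ptab_s_454_457 (c : Nat) : Nat := @Bool.rec (fun _ => Nat) (Ptab_454) (Ptab_s_455_457 c) (Nat.ble 455 c)
noncomputable def Ptab_s_452_457 (c : Nat) : Nat := @Bool.rec (fun _ => Nat) (Ptab_s_452_454 c) (Ptab_s_454_457 c) (Nat.ble 454 c)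
noncomputable def Ptab_s_458_460 (c : Nat) : Nat := @Bool.rec (fun _ => Nat) (Ptab_458) (Ptab_459) (Nat.ble 459 c)
noncomputable def Ptab_s_457_460 (c : Nat) : Nat := @Bool.rec (fun _ => Nat) (Ptab_457) (Ptab_s_458_460 c) (Nat.ble 458 c)
noncomputable def Ptab_s_461_463 (c : Nat) : Nat := @Bool.rec (fun _ => Nat) (Ptab_461) (Ptab_462) (Nat.ble 462 c)
noncomputable def Ptab_s_460_463 (c : Nat) : Nat := @Bool.rec (fun _ => Nat) (Ptab_460) (Ptab_s_461_463 c) (Nat.ble 461 c)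
noncomputable def Ptab_s_457_463 (c : Nat) : Nat := @Bool.rec (fun _ => Nat) (Ptab_s_457_460 c) (Ptab_s_460_463 c) (Nat.ble 460 c)
noncomputable def Ptab_s_452_463 (c : Nat) : Nat := @Bool.rec (fun _ => Nat) (Ptab_s_452_457 c) (Ptab_s_457_463 c) (Nat.ble 457 c)
noncomputable def Ptab_s_463_465 (c : Nat) : Nat := @Bool.rec (fun _ => Nat) (Ptab_463) (Ptab_464) (Nat.ble 464 c)
noncomputable def Ptab_s_466_468 (c : Nat) : Nat := @Bool.rec (fun _ => Nat) (Ptab_466) (Ptab_467) (Nat.ble 467 c)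
noncomputable def Ptab_s_465_468 (c : Nat) : Nat := @Bool.rec (fun _ => Nat) (Ptab_465) (Ptab_s_466_468 c) (Nat.ble 466 c)
noncomputable def Ptab_s_463_468 (c : Nat) : Nat := @Bool.rec (fun _ => Nat) (Ptab_s_463_465 c) (Ptab_s_465_468 c) (Nat.ble 465 c)
noncomputable def Ptab_s_469_471 (c : Nat) : Nat := @Bool.rec (fun _ => Nat) (Ptab_469) (Ptab_470) (Nat.ble 470 c)
noncomputable def Ptab_s_468_471 (c : Nat) : Nat := @Bool.rec (fun _ => Nat) (Ptab_468) (Ptab_s_469_471 c) (Nat.ble 469 c)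
noncomputable def Ptab_s_472_474 (c : Nat) : Nat := @Bool.rec (fun _ => Nat) (Ptab_472) (Ptab_473) (Nat.ble 473 c)
noncomputable def Ptab_s_471_474 (c : Nat) : Nat := @Bool.rec (fun _ => Nat) (Ptab_471) (Ptab_s_472_474 c) (Nat.ble 472 c)
noncomputable def Ptab_s_468_474 (c : Nat) : Nat := @Bool.rec (fun _ => Nat) (Ptab_s_468_471 c) (Ptab_s_471_474 c) (Nat.ble 471 c)
noncomputable def Ptab_s_463_474 (c : Nat) : Nat := @Bool.rec (fun _ => Nat) (Ptab_s_463_468 c) (Ptab_s_468_474 c) (Nat.ble 468 c)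
noncomputable def Ptab_s_452_474 (c : Nat) : Nat := @Bool.rec (fun _ => Nat) (Ptab_s_452_463 c) (Ptab_s_463_474 c) (Nat.ble 463 c)
noncomputable def Ptab_s_474_476 (c : Nat) : Nat := @Bool.rec (fun _ => Nat) (Ptab_474) (Ptab_475) (Nat.ble 475 c)
noncomputable def Ptab_s_477_479 (c : Nat) : Nat := @Bool.rec (fun _ => Nat) (Ptab_477) (Ptab_478) (Nat.ble 478 c)
noncomputable def Ptab_s_476_479 (c : Nat) : Nat := @Bool.rec (fun _ => Nat) (Ptab_476) (Ptab_s_477_479 c) (Nat.ble 477 c)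
noncomputable def Ptab_s_474_479 (c : Nat) : Nat := @Bool.rec (fun _ => Nat) (Ptab_s_474_476 c) (Ptab_s_476_479 c) (Nat.ble 476 c)
noncomputable def Ptab_s_480_482 (c : Nat) : Nat := @Bool.rec (fun _ => Nat) (Ptab_480) (Ptab_481) (Nat.ble 481 c)
noncomputable def Ptab_s_479_482 (c : Nat) : Nat := @Bool.rec (fun _ => Nat) (Ptab_479) (Ptab_s_480_482 c) (Nat.ble 480 c)
noncomputable def Ptab_s_483_485 (c : Nat) : Nat := @Bool.rec (fun _ => Nat) (Ptab_483) (Ptab_484) (Nat.ble 484 c)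
noncomputable def Ptab_s_482_485 (c : Nat) : Nat := @Bool.rec (fun _ => Nat) (Ptab_482) (Ptab_s_483_485 c) (Nat.ble 483 c)
noncomputable def Ptab_s_479_485 (c : Nat) : Nat := @Bool.rec (fun _ => Nat) (Ptab_s_479_482 c) (Ptab_s_482_485 c) (Nat.ble 482 c)
noncomputable def Ptab_s_474_485 (c : Nat) : Nat := @Bool.rec (fun _ => Nat) (Ptab_s_474_479 c) (Ptab_s_479_485 c) (Nat.ble 479 c)
noncomputable def Ptab_s_486_488 (c : Nat) : Nat := @Bool.rec (fun _ => Nat) (Ptab_486) (Ptab_487) (Nat.ble 487 c)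
noncomputable def Ptab_s_485_488 (c : Nat) : Nat := @Bool.rec (fun _ => Nat) (Ptab_485) (Ptab_s_486_488 c) (Nat.ble 486 c)
noncomputable def Ptab_s_489_491 (c : Nat) : Nat := @Bool.rec (fun _ => Nat) (Ptab_489) (Ptab_490) (Nat.ble 490 c)
noncomputable def Ptab_s_488_491 (c : Nat) : Nat := @Bool.rec (fun _ => Nat) (Ptab_488) (Ptab_s_489_491 c) (Nat.ble 489 c)
noncomputable def Ptab_s_485_491 (c : Nat) : Nat := @Bool.rec (fun _ => Nat) (Ptab_s_485_488 c) (Ptab_s_488_491 c) (Nat.ble 488 c)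
noncomputable def Ptab_s_492_494 (c : Nat) : Nat := @Bool.rec (fun _ => Nat) (Ptab_492) (Ptab_493) (Nat.ble 493 c)
noncomputable def Ptab_s_491_494 (c : Nat) : Nat := @Bool.rec (fun _ => Nat) (Ptab_491) (Ptab_s_492_494 c) (Nat.ble 492 c)
noncomputable def Ptab_s_495_497 (c : Nat) : Nat := @Bool.rec (fun _ => Nat) (Ptab_495) (Ptab_496) (Nat.ble 496 c)
noncomputable def Ptab_s_494_497 (c : Nat) : Nat := @Bool.rec (fun _ => Nat) (Ptab_494) (Ptab_s_495_497 c) (Nat.ble 495 c)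
noncomputable def Ptab_s_491_497 (c : Nat) : Nat := @Bool.rec (fun _ => Nat) (Ptab_s_491_494 c) (Ptab_s_494_497 c) (Nat.ble 494 c)
noncomputable def Ptab_s_485_497 (c : Nat) : Nat := @Bool.rec (fun _ => Nat) (Ptab_s_485_491 c) (Ptab_s_491_497 c) (Nat.ble 491 c)
noncomputable def Ptab_s_474_497 (c : Nat) : Nat := @Bool.rec (fun _ => Nat) (Ptab_s_474_485 c) (Ptab_s_485_497 c) (Nat.ble 485 c)
noncomputable def Ptab_s_452_497 (c : Nat) : Nat := @Bool.rec (fun _ => Nat) (Ptab_s_452_474 c) (Ptab_s_474_497 c) (Nat.ble 474 c)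
noncomputable def Ptab_s_497_499 (c : Nat) : Nat := @Bool.rec (fun _ => Nat) (Ptab_497) (Ptab_498) (Nat.ble 498 c)
noncomputable def Ptab_s_500_502 (c : Nat) : Nat := @Bool.rec (fun _ => Nat) (Ptab_500) (Ptab_501) (Nat.ble 501 c)
noncomputable def Ptab_s_499_502 (c : Nat) : Nat := @Bool.rec (fun _ => Nat) (Ptab_499) (Ptab_s_500_502 c) (Nat.ble 500 c)
noncomputable def Ptab_s_497_502 (c : Nat) : Nat := @Bool.rec (fun _ => Nat) (Ptab_s_497_499 c) (Ptab_s_499_502 c) (Nat.ble 499 c)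
noncomputable def Ptab_s_503_505 (c : Nat) : Nat := @Bool.rec (fun _ => Nat) (Ptab_503) (Ptab_504) (Nat.ble 504 c)
noncomputable def Ptab_s_502_505 (c : Nat) : Nat := @Bool.rec (fun _ => Nat) (Ptab_502) (Ptab_s_503_505 c) (Nat.ble 503 c)
noncomputable def Ptab_s_506_508 (c : Nat) : Nat := @Bool.rec (fun _ => Nat) (Ptab_506) (Ptab_507) (Nat.ble 507 c)
noncomputable def Ptab_s_505_508 (c : Nat) : Nat := @Bool.rec (fun _ => Nat) (Ptab_505) (Ptab_s_506_508 c) (Nat.ble 506 c)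
noncomputable def Ptab_s_502_508 (c : Nat) : Nat := @Bool.rec (fun _ => Nat) (Ptab_s_502_505 c) (Ptab_s_505_508 c) (Nat.ble 505 c)
noncomputable def Ptab_s_497_508 (c : Nat) : Nat := @Bool.rec (fun _ => Nat) (Ptab_s_497_502 c) (Ptab_s_502_508 c) (Nat.ble 502 c)
noncomputable def Ptab_s_509_511 (c : Nat) : Nat := @Bool.rec (fun _ => Nat) (Ptab_509) (Ptab_510) (Nat.ble 510 c)
noncomputable def Ptab_s_508_511 (c : Nat) : Nat := @Bool.rec (fun _ => Nat) (Ptab_508) (Ptab_s_509_511 c) (Nat.ble 509 c)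
noncomputable def Ptab_s_512_514 (c : Nat) : Nat := @Bool.rec (fun _ => Nat) (Ptab_512) (Ptab_513) (Nat.ble 513 c)
noncomputable def Ptab_s_511_514 (c : Nat) : Nat := @Bool.rec (fun _ => Nat) (Ptab_511) (Ptab_s_512_514 c) (Nat.ble 512 c)
noncomputable def Ptab_s_508_514 (c : Nat) : Nat := @Bool.rec (fun _ => Nat) (Ptab_s_508_511 c) (Ptab_s_511_514 c) (Nat.ble 511 c)
noncomputable def Ptab_s_515_517 (c : Nat) : Nat := @Bool.rec (fun _ => Nat) (Ptab_515) (Ptab_516) (Nat.ble 516 c)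
noncomputable def Ptab_s_514_517 (c : Nat) : Nat := @Bool.rec (fun _ => Nat) (Ptab_514) (Ptab_s_515_517 c) (Nat.ble 515 c)
noncomputable def Ptab_s_518_520 (c : Nat) : Nat := @Bool.rec (fun _ => Nat) (Ptab_518) (Ptab_519) (Nat.ble 519 c)
noncomputable def Ptab_s_517_520 (c : Nat) : Nat := @Bool.rec (fun _ => Nat) (Ptab_517) (Ptab_s_518_520 c) (Nat.ble 518 c)
noncomputable def Ptab_s_514_520 (c : Nat) : Nat := @Bool.rec (fun _ => Nat) (Ptab_s_514_517 c) (Ptab_s_517_520 c) (Nat.ble 517 c)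
noncomputable def Ptab_s_508_520 (c : Nat) : Nat := @Bool.rec (fun _ => Nat) (Ptab_s_508_514 c) (Ptab_s_514_520 c) (Nat.ble 514 c)
noncomputable def Ptab_s_497_520 (c : Nat) : Nat := @Bool.rec (fun _ => Nat) (Ptab_s_497_508 c) (Ptab_s_508_520 c) (Nat.ble 508 c)
noncomputable def Ptab_s_520_522 (c : Nat) : Nat := @Bool.rec (fun _ => Nat) (Ptab_520) (Ptab_521) (Nat.ble 521 c)
noncomputable def Ptab_s_523_525 (c : Nat) : Nat := @Bool.rec (fun _ => Nat) (Ptab_523) (Ptab_524) (Nat.ble 524 c)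
noncomputable def Ptab_s_522_525 (c : Nat) : Nat := @Bool.rec (fun _ => Nat) (Ptab_522) (Ptab_s_523_525 c) (Nat.ble 523 c)
noncomputable def Ptab_s_520_525 (c : Nat) : Nat := @Bool.rec (fun _ => Nat) (Ptab_s_520_522 c) (Ptab_s_522_525 c) (Nat.ble 522 c)
noncomputable def Ptab_s_526_528 (c : Nat) : Nat := @Bool.rec (fun _ => Nat) (Ptab_526) (Ptab_527) (Nat.ble 527 c)
noncomputable def Ptab_s_525_528 (c : Nat) : Nat := @Bool.rec (fun _ => Nat) (Ptab_525) (Ptab_s_526_528 c) (Nat.ble 526 c)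
noncomputable def Ptab_s_529_531 (c : Nat) : Nat := @Bool.rec (fun _ => Nat) (Ptab_529) (Ptab_530) (Nat.ble 530 c)
noncomputable def Ptab_s_528_531 (c : Nat) : Nat := @Bool.rec (fun _ => Nat) (Ptab_528) (Ptab_s_529_531 c) (Nat.ble 529 c)
noncomputable def Ptab_s_525_531 (c : Nat) : Nat := @Bool.rec (fun _ => Nat) (Ptab_s_525_528 c) (Ptab_s_528_531 c) (Nat.ble 528 c)
noncomputable def Ptab_s_520_531 (c : Nat) : Nat := @Bool.rec (fun _ => Nat) (Ptab_s_520_525 c) (Ptab_s_525_531 c) (Nat.ble 525 c)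
noncomputable def Ptab_s_532_534 (c : Nat) : Nat := @Bool.rec (fun _ => Nat) (Ptab_532) (Ptab_533) (Nat.ble 533 c)
noncomputable def Ptab_s_531_534 (c : Nat) : Nat := @Bool.rec (fun _ => Nat) (Ptab_531) (Ptab_s_532_534 c) (Nat.ble 532 c)
noncomputable def Ptab_s_535_537 (c : Nat) : Nat := @Bool.rec (fun _ => Nat) (Ptab_535) (Ptab_536) (Nat.ble 536 c)
noncomputable def Ptab_s_534_537 (c : Nat) : Nat := @Bool.rec (fun _ => Nat) (Ptab_534) (Ptab_s_535_537 c) (Nat.ble 535 c)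
noncomputable def Ptab_s_531_537 (c : Nat) : Nat := @Bool.rec (fun _ => Nat) (Ptab_s_531_534 c) (Ptab_s_534_537 c) (Nat.ble 534 c)
noncomputable def Ptab_s_538_540 (c : Nat) : Nat := @Bool.rec (fun _ => Nat) (Ptab_538) (Ptab_539) (Nat.ble 539 c)
noncomputable def Ptab_s_537_540 (c : Nat) : Nat := @Bool.rec (fun _ => Nat) (Ptab_537) (Ptab_s_538_540 c) (Nat.ble 538 c)
noncomputable def Ptab_s_541_543 (c : Nat) : Nat := @Bool.rec (fun _ => Nat) (Ptab_541) (Ptab_542) (Nat.ble 542 c)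
noncomputable def Ptab_s_540_543 (c : Nat) : Nat := @Bool.rec (fun _ => Nat) (Ptab_540) (Ptab_s_541_543 c) (Nat.ble 541 c)
noncomputable def Ptab_s_537_543 (c : Nat) : Nat := @Bool.rec (fun _ => Nat) (Ptab_s_537_540 c) (Ptab_s_540_543 c) (Nat.ble 540 c)
noncomputable def Ptab_s_531_543 (c : Nat) : Nat := @Bool.rec (fun _ => Nat) (Ptab_s_531_537 c) (Ptab_s_537_543 c) (Nat.ble 537 c)
noncomputable def Ptab_s_520_543 (c : Nat) : Nat := @Bool.rec (fun _ => Nat) (Ptab_s_520_531 c) (Ptab_s_531_543 c) (Nat.ble 531 c)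
noncomputable def Ptab_s_497_543 (c : Nat) : Nat := @Bool.rec (fun _ => Nat) (Ptab_s_497_520 c) (Ptab_s_520_543 c) (Nat.ble 520 c)
noncomputable def Ptab_s_452_543 (c : Nat) : Nat := @Bool.rec (fun _ => Nat) (Ptab_s_452_497 c) (Ptab_s_497_543 c) (Nat.ble 497 c)
noncomputable def Ptab_s_362_543 (c : Nat) : Nat := @Bool.rec (fun _ => Nat) (Ptab_s_362_452 c) (Ptab_s_452_543 c) (Nat.ble 452 c)
noncomputable def Ptab_s_543_545 (c : Nat) : Nat := @Bool.rec (fun _ => Nat) (Ptab_543) (Ptab_544) (Nat.ble 544 c)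
noncomputable def Ptab_s_546_548 (c : Nat) : Nat := @Bool.rec (fun _ => Nat) (Ptab_546) (Ptab_547) (Nat.ble 547 c)
noncomputable def Ptab_s_545_548 (c : Nat) : Nat := @Bool.rec (fun _ => Nat) (Ptab_545) (Ptab_s_546_548 c) (Nat.ble 546 c)
noncomputable def Ptab_s_543_548 (c : Nat) : Nat := @Bool.rec (fun _ => Nat) (Ptab_s_543_545 c) (Ptab_s_545_548 c) (Nat.ble 545 c)
noncomputable def Ptab_s_549_551 (c : Nat) : Nat := @Bool.rec (fun _ => Nat) (Ptab_549) (Ptab_550) (Nat.ble 550 c)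
noncomputable def Ptab_s_548_551 (c : Nat) : Nat := @Bool.rec (fun _ => Nat) (Ptab_548) (Ptab_s_549_551 c) (Nat.ble 549 c)
noncomputable def Ptab_s_552_554 (c : Nat) : Nat := @Bool.rec (fun _ => Nat) (Ptab_552) (Ptab_553) (Nat.ble 553 c)
noncomputable def Ptab_s_551_554 (c : Nat) : Nat := @Bool.rec (fun _ => Nat) (Ptab_551) (Ptab_s_552_554 c) (Nat.ble 552 c)
noncomputable def Ptab_s_548_554 (c : Nat) : Nat := @Bool.rec (fun _ => Nat) (Ptab_s_548_551 c) (Ptab_s_551_554 c) (Nat.ble 551 c)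
noncomputable def Ptab_s_543_554 (c : Nat) : Nat := @Bool.rec (fun _ => Nat) (Ptab_s_543_548 c) (Ptab_s_548_554 c) (Nat.ble 548 c)
noncomputable def Ptab_s_554_556 (c : Nat) : Nat := @Bool.rec (fun _ => Nat) (Ptab_554) (Ptab_555) (Nat.ble 555 c)
noncomputable def Ptab_s_557_559 (c : Nat) : Nat := @Bool.rec (fun _ => Nat) (Ptab_557) (Ptab_558) (Nat.ble 558 c)
noncomputable def Ptab_s_556_559 (c : Nat) : Nat := @Bool.rec (fun _ => Nat) (Ptab_556) (Ptab_s_557_559 c) (Nat.ble 557 c)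
noncomputable def Ptab_s_554_559 (c : Nat) : Nat := @Bool.rec (fun _ => Nat) (Ptab_s_554_556 c) (Ptab_s_556_559 c) (Nat.ble 556 c)
noncomputable def Ptab_s_560_562 (c : Nat) : Nat := @Bool.rec (fun _ => Nat) (Ptab_560) (Ptab_561) (Nat.ble 561 c)
noncomputable def Ptab_s_559_562 (c : Nat) : Nat := @Bool.rec (fun _ => Nat) (Ptab_559) (Ptab_s_560_562 c) (Nat.ble 560 c)
noncomputable def Ptab_s_563_565 (c : Nat) : Nat := @Bool.rec (fun _ => Nat) (Ptab_563) (Ptab_564) (Nat.ble 564 c)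
noncomputable def Ptab_s_562_565 (c : Nat) : Nat := @Bool.rec (fun _ => Nat) (Ptab_562) (Ptab_s_563_565 c) (Nat.ble 563 c)
noncomputable def Ptab_s_559_565 (c : Nat) : Nat := @Bool.rec (fun _ => Nat) (Ptab_s_559_562 c) (Ptab_s_562_565 c) (Nat.ble 562 c)
noncomputable def Ptab_s_554_565 (c : Nat) : Nat := @Bool.rec (fun _ => Nat) (Ptab_s_554_559 c) (Ptab_s_559_565 c) (Nat.ble 559 c)
noncomputable def Ptab_s_543_565 (c : Nat) : Nat := @Bool.rec (fun _ => Nat) (Ptab_s_543_554 c) (Ptab_s_554_565 c) (Nat.ble 554 c)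
noncomputable def Ptab_s_565_567 (c : Nat) : Nat := @Bool.rec (fun _ => Nat) (Ptab_565) (Ptab_566) (Nat.ble 566 c)
noncomputable def Ptab_s_568_570 (c : Nat) : Nat := @Bool.rec (fun _ => Nat) (Ptab_568) (Ptab_569) (Nat.ble 569 c)
noncomputable def Ptab_s_567_570 (c : Nat) : Nat := @Bool.rec (fun _ => Nat) (Ptab_567) (Ptab_s_568_570 c) (Nat.ble 568 c)
noncomputable def Ptab_s_565_570 (c : Nat) : Nat := @Bool.rec (fun _ => Nat) (Ptab_s_565_567 c) (Ptab_s_567_570 c) (Nat.ble 567 c)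
noncomputable def Ptab_s_571_573 (c : Nat) : Nat := @Bool.rec (fun _ => Nat) (Ptab_571) (Ptab_572) (Nat.ble 572 c)
noncomputable def Ptab_s_570_573 (c : Nat) : Nat := @Bool.rec (fun _ => Nat) (Ptab_570) (Ptab_s_571_573 c) (Nat.ble 571 c)
noncomputable def Ptab_s_574_576 (c : Nat) : Nat := @Bool.rec (fun _ => Nat) (Ptab_574) (Ptab_575) (Nat.ble 575 c)
noncomputable def Ptab_s_573_576 (c : Nat) : Nat := @Bool.rec (fun _ => Nat) (Ptab_573) (Ptab_s_574_576 c) (Nat.ble 574 c)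
noncomputable def Ptab_s_570_576 (c : Nat) : Nat := @Bool.rec (fun _ => Nat) (Ptab_s_570_573 c) (Ptab_s_573_576 c) (Nat.ble 573 c)
noncomputable def Ptab_s_565_576 (c : Nat) : Nat := @Bool.rec (fun _ => Nat) (Ptab_s_565_570 c) (Ptab_s_570_576 c) (Nat.ble 570 c)
noncomputable def Ptab_s_577_579 (c : Nat) : Nat := @Bool.rec (fun _ => Nat) (Ptab_577) (Ptab_578) (Nat.ble 578 c)
noncomputable def Ptab_s_576_579 (c : Nat) : Nat := @Bool.rec (fun _ => Nat) (Ptab_576) (Ptab_s_577_579 c) (Nat.ble 577 c)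
noncomputable def Ptab_s_580_582 (c : Nat) : Nat := @Bool.rec (fun _ => Nat) (Ptab_580) (Ptab_581) (Nat.ble 581 c)
noncomputable def Ptab_s_579_582 (c : Nat) : Nat := @Bool.rec (fun _ => Nat) (Ptab_579) (Ptab_s_580_582 c) (Nat.ble 580 c)
noncomputable def Ptab_s_576_582 (c : Nat) : Nat := @Bool.rec (fun _ => Nat) (Ptab_s_576_579 c) (Ptab_s_579_582 c) (Nat.ble 579 c)
noncomputable def Ptab_s_583_585 (c : Nat) : Nat := @Bool.rec (fun _ => Nat) (Ptab_583) (Ptab_584) (Nat.ble 584 c)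
noncomputable def Ptab_s_582_585 (c : Nat) : Nat := @Bool.rec (fun _ => Nat) (Ptab_582) (Ptab_s_583_585 c) (Nat.ble 583 c)
noncomputable def Ptab_s_586_588 (c : Nat) : Nat := @Bool.rec (fun _ => Nat) (Ptab_586) (Ptab_587) (Nat.ble 587 c)
noncomputable def Ptab_s_585_588 (c : Nat) : Nat := @Bool.rec (fun _ => Nat) (Ptab_585) (Ptab_s_586_588 c) (Nat.ble 586 c)
noncomputable def Ptab_s_582_588 (c : Nat) : Nat := @Bool.rec (fun _ => Nat) (Ptab_s_582_585 c) (Ptab_s_585_588 c) (Nat.ble 585 c)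
noncomputable def Ptab_s_576_588 (c : Nat) : Nat := @Bool.rec (fun _ => Nat) (Ptab_s_576_582 c) (Ptab_s_582_588 c) (Nat.ble 582 c)
noncomputable def Ptab_s_565_588 (c : Nat) : Nat := @Bool.rec (fun _ => Nat) (Ptab_s_565_576 c) (Ptab_s_576_588 c) (Nat.ble 576 c)
noncomputable def Ptab_s_543_588 (c : Nat) : Nat := @Bool.rec (fun _ => Nat) (Ptab_s_543_565 c) (Ptab_s_565_588 c) (Nat.ble 565 c)
noncomputable def Ptab_s_588_590 (c : Nat) : Nat := @Bool.rec (fun _ => Nat) (Ptab_588) (Ptab_589) (Nat.ble 589 c)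
noncomputable def Ptab_s_591_593 (c : Nat) : Nat := @Bool.rec (fun _ => Nat) (Ptab_591) (Ptab_592) (Nat.ble 592 c)
noncomputable def Ptab_s_590_593 (c : Nat) : Nat := @Bool.rec (fun _ => Nat) (Ptab_590) (Ptab_s_591_593 c) (Nat.ble 591 c)
noncomputable def Ptab_s_588_593 (c : Nat) : Nat := @Bool.rec (fun _ => Nat) (Ptab_s_588_590 c) (Ptab_s_590_593 c) (Nat.ble 590 c)
noncomputable def Ptab_s_594_596 (c : Nat) : Nat := @Bool.rec (fun _ => Nat) (Ptab_594) (Ptab_595) (Nat.ble 595 c)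
noncomputable def Ptab_s_593_596 (c : Nat) : Nat := @Bool.rec (fun _ => Nat) (Ptab_593) (Ptab_s_594_596 c) (Nat.ble 594 c)
noncomputable def Ptab_s_597_599 (c : Nat) : Nat := @Bool.rec (fun _ => Nat) (Ptab_597) (Ptab_598) (Nat.ble 598 c)
noncomputable def Ptab_s_596_599 (c : Nat) : Nat := @Bool.rec (fun _ => Nat) (Ptab_596) (Ptab_s_597_599 c) (Nat.ble 597 c)
noncomputable def Ptab_s_593_599 (c : Nat) : Nat := @Bool.rec (fun _ => Nat) (Ptab_s_593_596 c) (Ptab_s_596_599 c) (Nat.ble 596 c)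
noncomputable def Ptab_s_588_599 (c : Nat) : Nat := @Bool.rec (fun _ => Nat) (Ptab_s_588_593 c) (Ptab_s_593_599 c) (Nat.ble 593 c)
noncomputable def Ptab_s_600_602 (c : Nat) : Nat := @Bool.rec (fun _ => Nat) (Ptab_600) (Ptab_601) (Nat.ble 601 c)
noncomputable def Ptab_s_599_602 (c : Nat) : Nat := @Bool.rec (fun _ => Nat) (Ptab_599) (Ptab_s_600_602 c) (Nat.ble 600 c)
noncomputable def Ptab_s_603_605 (c : Nat) : Nat := @Bool.rec (fun _ => Nat) (Ptab_603) (Ptab_604) (Nat.ble 604 c)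
noncomputable def Ptab_s_602_605 (c : Nat) : Nat := @Bool.rec (fun _ => Nat) (Ptab_602) (Ptab_s_603_605 c) (Nat.ble 603 c)
noncomputable def Ptab_s_599_605 (c : Nat) : Nat := @Bool.rec (fun _ => Nat) (Ptab_s_599_602 c) (Ptab_s_602_605 c) (Nat.ble 602 c)
noncomputable def Ptab_s_606_608 (c : Nat) : Nat := @Bool.rec (fun _ => Nat) (Ptab_606) (Ptab_607) (Nat.ble 607 c)
noncomputable def Ptab_s_605_608 (c : Nat) : Nat := @Bool.rec (fun _ => Nat) (Ptab_605) (Ptab_s_606_608 c) (Nat.ble 606 c)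
noncomputable def Ptab_s_609_611 (c : Nat) : Nat := @Bool.rec (fun _ => Nat) (Ptab_609) (Ptab_610) (Nat.ble 610 c)
noncomputable def Ptab_s_608_611 (c : Nat) : Nat := @Bool.rec (fun _ => Nat) (Ptab_608) (Ptab_s_609_611 c) (Nat.ble 609 c)
noncomputable def Ptab_s_605_611 (c : Nat) : Nat := @Bool.rec (fun _ => Nat) (Ptab_s_605_608 c) (Ptab_s_608_611 c) (Nat.ble 608 c)
noncomputable def Ptab_s_599_611 (c : Nat) : Nat := @Bool.rec (fun _ => Nat) (Ptab_s_599_605 c) (Ptab_s_605_611 c) (Nat.ble 605 c)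
noncomputable def Ptab_s_588_611 (c : Nat) : Nat := @Bool.rec (fun _ => Nat) (Ptab_s_588_599 c) (Ptab_s_599_611 c) (Nat.ble 599 c)
noncomputable def Ptab_s_611_613 (c : Nat) : Nat := @Bool.rec (fun _ => Nat) (Ptab_611) (Ptab_612) (Nat.ble 612 c)
noncomputable def Ptab_s_614_616 (c : Nat) : Nat := @Bool.rec (fun _ => Nat) (Ptab_614) (Ptab_615) (Nat.ble 615 c)
noncomputable def Ptab_s_613_616 (c : Nat) : Nat := @Bool.rec (fun _ => Nat) (Ptab_613) (Ptab_s_614_616 c) (Nat.ble 614 c)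
noncomputable def Ptab_s_611_616 (c : Nat) : Nat := @Bool.rec (fun _ => Nat) (Ptab_s_611_613 c) (Ptab_s_613_616 c) (Nat.ble 613 c)
noncomputable def Ptab_s_617_619 (c : Nat) : Nat := @Bool.rec (fun _ => Nat) (Ptab_617) (Ptab_618) (Nat.ble 618 c)
noncomputable def Ptab_s_616_619 (c : Nat) : Nat := @Bool.rec (fun _ => Nat) (Ptab_616) (Ptab_s_617_619 c) (Nat.ble 617 c)
noncomputable def Ptab_s_620_622 (c : Nat) : Nat := @Bool.rec (fun _ => Nat) (Ptab_620) (Ptab_621) (Nat.ble 621 c)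
noncomputable def Ptab_s_619_622 (c : Nat) : Nat := @Bool.rec (fun _ => Nat) (Ptab_619) (Ptab_s_620_622 c) (Nat.ble 620 c)
noncomputable def Ptab_s_616_622 (c : Nat) : Nat := @Bool.rec (fun _ => Nat) (Ptab_s_616_619 c) (Ptab_s_619_622 c) (Nat.ble 619 c)
noncomputable def Ptab_s_611_622 (c : Nat) : Nat := @Bool.rec (fun _ => Nat) (Ptab_s_611_616 c) (Ptab_s_616_622 c) (Nat.ble 616 c)
noncomputable def Ptab_s_623_625 (c : Nat) : Nat := @Bool.rec (fun _ => Nat) (Ptab_623) (Ptab_624) (Nat.ble 624 c)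
noncomputable def Ptab_s_622_625 (c : Nat) : Nat := @Bool.rec (fun _ => Nat) (Ptab_622) (Ptab_s_623_625 c) (Nat.ble 623 c)
noncomputable def Ptab_s_626_628 (c : Nat) : Nat := @Bool.rec (fun _ => Nat) (Ptab_626) (Ptab_627) (Nat.ble 627 c)
noncomputable def Ptab_s_625_628 (c : Nat) : Nat := @Bool.rec (fun _ => Nat) (Ptab_625) (Ptab_s_626_628 c) (Nat.ble 626 c)
noncomputable def Ptab_s_622_628 (c : Nat) : Nat := @Bool.rec (fun _ => Nat) (Ptab_s_622_625 c) (Ptab_s_625_628 c) (Nat.ble 625 c)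
noncomputable def Ptab_s_629_631 (c : Nat) : Nat := @Bool.rec (fun _ => Nat) (Ptab_629) (Ptab_630) (Nat.ble 630 c)
noncomputable def Ptab_s_628_631 (c : Nat) : Nat := @Bool.rec (fun _ => Nat) (Ptab_628) (Ptab_s_629_631 c) (Nat.ble 629 c)
noncomputable def Ptab_s_632_634 (c : Nat) : Nat := @Bool.rec (fun _ => Nat) (Ptab_632) (Ptab_633) (Nat.ble 633 c)
noncomputable def Ptab_s_631_634 (c : Nat) : Nat := @Bool.rec (fun _ => Nat) (Ptab_631) (Ptab_s_632_634 c) (Nat.ble 632 c)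
noncomputable def Ptab_s_628_634 (c : Nat) : Nat := @Bool.rec (fun _ => Nat) (Ptab_s_628_631 c) (Ptab_s_631_634 c) (Nat.ble 631 c)
noncomputable def Ptab_s_622_634 (c : Nat) : Nat := @Bool.rec (fun _ => Nat) (Ptab_s_622_628 c) (Ptab_s_628_634 c) (Nat.ble 628 c)
noncomputable def Ptab_s_611_634 (c : Nat) : Nat := @Bool.rec (fun _ => Nat) (Ptab_s_611_622 c) (Ptab_s_622_634 c) (Nat.ble 622 c)
noncomputable def Ptab_s_588_634 (c : Nat) : Nat := @Bool.rec (fun _ => Nat) (Ptab_s_588_611 c) (Ptab_s_611_634 c) (Nat.ble 611 c)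
noncomputable def Ptab_s_543_634 (c : Nat) : Nat := @Bool.rec (fun _ => Nat) (Ptab_s_543_588 c) (Ptab_s_588_634 c) (Nat.ble 588 c)
noncomputable def Ptab_s_634_636 (c : Nat) : Nat := @Bool.rec (fun _ => Nat) (Ptab_634) (Ptab_635) (Nat.ble 635 c)
noncomputable def Ptab_s_637_639 (c : Nat) : Nat := @Bool.rec (fun _ => Nat) (Ptab_637) (Ptab_638) (Nat.ble 638 c)
noncomputable def Ptab_s_636_639 (c : Nat) : Nat := @Bool.rec (fun _ => Nat) (Ptab_636) (Ptab_s_637_639 c) (Nat.ble 637 c)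
noncomputable def Ptab_s_634_639 (c : Nat) : Nat := @Bool.rec (fun _ => Nat) (Ptab_s_634_636 c) (Ptab_s_636_639 c) (Nat.ble 636 c)
noncomputable def Ptab_s_640_642 (c : Nat) : Nat := @Bool.rec (fun _ => Nat) (Ptab_640) (Ptab_641) (Nat.ble 641 c)
noncomputable def Ptab_s_639_642 (c : Nat) : Nat := @Bool.rec (fun _ => Nat) (Ptab_639) (Ptab_s_640_642 c) (Nat.ble 640 c)
noncomputable def Ptab_s_643_645 (c : Nat) : Nat := @Bool.rec (fun _ => Nat) (Ptab_643) (Ptab_644) (Nat.ble 644 c)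
noncomputable def Ptab_s_642_645 (c : Nat) : Nat := @Bool.rec (fun _ => Nat) (Ptab_642) (Ptab_s_643_645 c) (Nat.ble 643 c)
noncomputable def Ptab_s_639_645 (c : Nat) : Nat := @Bool.rec (fun _ => Nat) (Ptab_s_639_642 c) (Ptab_s_642_645 c) (Nat.ble 642 c)
noncomputable def Ptab_s_634_645 (c : Nat) : Nat := @Bool.rec (fun _ => Nat) (Ptab_s_634_639 c) (Ptab_s_639_645 c) (Nat.ble 639 c)
noncomputable def Ptab_s_645_647 (c : Nat) : Nat := @Bool.rec (fun _ => Nat) (Ptab_645) (Ptab_646) (Nat.ble 646 c)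
noncomputable def Ptab_s_648_650 (c : Nat) : Nat := @Bool.rec (fun _ => Nat) (Ptab_648) (Ptab_649) (Nat.ble 649 c)
noncomputable def Ptab_s_647_650 (c : Nat) : Nat := @Bool.rec (fun _ => Nat) (Ptab_647) (Ptab_s_648_650 c) (Nat.ble 648 c)
noncomputable def Ptab_s_645_650 (c : Nat) : Nat := @Bool.rec (fun _ => Nat) (Ptab_s_645_647 c) (Ptab_s_647_650 c) (Nat.ble 647 c)
noncomputable def Ptab_s_651_653 (c : Nat) : Nat := @Bool.rec (fun _ => Nat) (Ptab_651) (Ptab_652) (Nat.ble 652 c)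
noncomputable def Ptab_s_650_653 (c : Nat) : Nat := @Bool.rec (fun _ => Nat) (Ptab_650) (Ptab_s_651_653 c) (Nat.ble 651 c)
noncomputable def Ptab_s_654_656 (c : Nat) : Nat := @Bool.rec (fun _ => Nat) (Ptab_654) (Ptab_655) (Nat.ble 655 c)
noncomputable def Ptab_s_653_656 (c : Nat) : Nat := @Bool.rec (fun _ => Nat) (Ptab_653) (Ptab_s_654_656 c) (Nat.ble 654 c)
noncomputable def Ptab_s_650_656 (c : Nat) : Nat := @Bool.rec (fun _ => Nat) (Ptab_s_650_653 c) (Ptab_s_653_656 c) (Nat.ble 653 c)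
noncomputable def Ptab_s_645_656 (c : Nat) : Nat := @Bool.rec (fun _ => Nat) (Ptab_s_645_650 c) (Ptab_s_650_656 c) (Nat.ble 650 c)
noncomputable def Ptab_s_634_656 (c : Nat) : Nat := @Bool.rec (fun _ => Nat) (Ptab_s_634_645 c) (Ptab_s_645_656 c) (Nat.ble 645 c)
noncomputable def Ptab_s_656_658 (c : Nat) : Nat := @Bool.rec (fun _ => Nat) (Ptab_656) (Ptab_657) (Nat.ble 657 c)
noncomputable def Ptab_s_659_661 (c : Nat) : Nat := @Bool.rec (fun _ => Nat) (Ptab_659) (Ptab_660) (Nat.ble 660 c)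
noncomputable def Ptab_s_658_661 (c : Nat) : Nat := @Bool.rec (fun _ => Nat) (Ptab_658) (Ptab_s_659_661 c) (Nat.ble 659 c)
noncomputable def Ptab_s_656_661 (c : Nat) : Nat := @Bool.rec (fun _ => Nat) (Ptab_s_656_658 c) (Ptab_s_658_661 c) (Nat.ble 658 c)
noncomputable def Ptab_s_662_664 (c : Nat) : Nat := @Bool.rec (fun _ => Nat) (Ptab_662) (Ptab_663) (Nat.ble 663 c)
noncomputable def Ptab_s_661_664 (c : Nat) : Nat := @Bool.rec (fun _ => Nat) (Ptab_661) (Ptab_s_662_664 c) (Nat.ble 662 c)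
noncomputable def Ptab_s_665_667 (c : Nat) : Nat := @Bool.rec (fun _ => Nat) (Ptab_665) (Ptab_666) (Nat.ble 666 c)
noncomputable def Ptab_s_664_667 (c : Nat) : Nat := @Bool.rec (fun _ => Nat) (Ptab_664) (Ptab_s_665_667 c) (Nat.ble 665 c)
noncomputable def Ptab_s_661_667 (c : Nat) : Nat := @Bool.rec (fun _ => Nat) (Ptab_s_661_664 c) (Ptab_s_664_667 c) (Nat.ble 664 c)
noncomputable def Ptab_s_656_667 (c : Nat) : Nat := @Bool.rec (fun _ => Nat) (Ptab_s_656_661 c) (Ptab_s_661_667 c) (Nat.ble 661 c)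
noncomputable def Ptab_s_668_670 (c : Nat) : Nat := @Bool.rec (fun _ => Nat) (Ptab_668) (Ptab_669) (Nat.ble 669 c)
noncomputable def Ptab_s_667_670 (c : Nat) : Nat := @Bool.rec (fun _ => Nat) (Ptab_667) (Ptab_s_668_670 c) (Nat.ble 668 c)
noncomputable def Ptab_s_671_673 (c : Nat) : Nat := @Bool.rec (fun _ => Nat) (Ptab_671) (Ptab_672) (Nat.ble 672 c)
noncomputable def Ptab_s_670_673 (c : Nat) : Nat := @Bool.rec (fun _ => Nat) (Ptab_670) (Ptab_s_671_673 c) (Nat.ble 671 c)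
noncomputable def Ptab_s_667_673 (c : Nat) : Nat := @Bool.rec (fun _ => Nat) (Ptab_s_667_670 c) (Ptab_s_670_673 c) (Nat.ble 670 c)
noncomputable def Ptab_s_674_676 (c : Nat) : Nat := @Bool.rec (fun _ => Nat) (Ptab_674) (Ptab_675) (Nat.ble 675 c)
noncomputable def Ptab_s_673_676 (c : Nat) : Nat := @Bool.rec (fun _ => Nat) (Ptab_673) (Ptab_s_674_676 c) (Nat.ble 674 c)
noncomputable def Ptab_s_677_679 (c : Nat) : Nat := @Bool.rec (fun _ => Nat) (Ptab_677) (Ptab_678) (Nat.ble 678 c)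
noncomputable def Ptab_s_676_679 (c : Nat) : Nat := @Bool.rec (fun _ => Nat) (Ptab_676) (Ptab_s_677_679 c) (Nat.ble 677 c)
noncomputable def Ptab_s_673_679 (c : Nat) : Nat := @Bool.rec (fun _ => Nat) (Ptab_s_673_676 c) (Ptab_s_676_679 c) (Nat.ble 676 c)
noncomputable def Ptab_s_667_679 (c : Nat) : Nat := @Bool.rec (fun _ => Nat) (Ptab_s_667_673 c) (Ptab_s_673_679 c) (Nat.ble 673 c)
noncomputable def Ptab_s_656_679 (c : Nat) : Nat := @Bool.rec (fun _ => Nat) (Ptab_s_656_667 c) (Ptab_s_667_679 c) (Nat.ble 667 c)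
noncomputable def Ptab_s_634_679 (c : Nat) : Nat := @Bool.rec (fun _ => Nat) (Ptab_s_634_656 c) (Ptab_s_656_679 c) (Nat.ble 656 c)
noncomputable def Ptab_s_679_681 (c : Nat) : Nat := @Bool.rec (fun _ => Nat) (Ptab_679) (Ptab_680) (Nat.ble 680 c)
noncomputable def Ptab_s_682_684 (c : Nat) : Nat := @Bool.rec (fun _ => Nat) (Ptab_682) (Ptab_683) (Nat.ble 683 c)
noncomputable def Ptab_s_681_684 (c : Nat) : Nat := @Bool.rec (fun _ => Nat) (Ptab_681) (Ptab_s_682_684 c) (Nat.ble 682 c)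
noncomputable def Ptab_s_679_684 (c : Nat) : Nat := @Bool.rec (fun _ => Nat) (Ptab_s_679_681 c) (Ptab_s_681_684 c) (Nat.ble 681 c)
noncomputable def Ptab_s_685_687 (c : Nat) : Nat := @Bool.rec (fun _ => Nat) (Ptab_685) (Ptab_686) (Nat.ble 686 c)
noncomputable def Ptab_s_684_687 (c : Nat) : Nat := @Bool.rec (fun _ => Nat) (Ptab_684) (Ptab_s_685_687 c) (Nat.ble 685 c)
noncomputable def Ptab_s_688_690 (c : Nat) : Nat := @Bool.rec (fun _ => Nat) (Ptab_688) (Ptab_689) (Nat.ble 689 c)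
noncomputable def Ptab_s_687_690 (c : Nat) : Nat := @Bool.rec (fun _ => Nat) (Ptab_687) (Ptab_s_688_690 c) (Nat.ble 688 c)
noncomputable def Ptab_s_684_690 (c : Nat) : Nat := @Bool.rec (fun _ => Nat) (Ptab_s_684_687 c) (Ptab_s_687_690 c) (Nat.ble 687 c)
noncomputable def Ptab_s_679_690 (c : Nat) : Nat := @Bool.rec (fun _ => Nat) (Ptab_s_679_684 c) (Ptab_s_684_690 c) (Nat.ble 684 c)
noncomputable def Ptab_s_691_693 (c : Nat) : Nat := @Bool.rec (fun _ => Nat) (Ptab_691) (Ptab_692) (Nat.ble 692 c)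
noncomputable def Ptab_s_690_693 (c : Nat) : Nat := @Bool.rec (fun _ => Nat) (Ptab_690) (Ptab_s_691_693 c) (Nat.ble 691 c)
noncomputable def Ptab_s_694_696 (c : Nat) : Nat := @Bool.rec (fun _ => Nat) (Ptab_694) (Ptab_695) (Nat.ble 695 c)
noncomputable def Ptab_s_693_696 (c : Nat) : Nat := @Bool.rec (fun _ => Nat) (Ptab_693) (Ptab_s_694_696 c) (Nat.ble 694 c)
noncomputable def Ptab_s_690_696 (c : Nat) : Nat := @Bool.rec (fun _ => Nat) (Ptab_s_690_693 c) (Ptab_s_693_696 c) (Nat.ble 693 c)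
noncomputable def Ptab_s_697_699 (c : Nat) : Nat := @Bool.rec (fun _ => Nat) (Ptab_697) (Ptab_698) (Nat.ble 698 c)
noncomputable def Ptab_s_696_699 (c : Nat) : Nat := @Bool.rec (fun _ => Nat) (Ptab_696) (Ptab_s_697_699 c) (Nat.ble 697 c)
noncomputable def Ptab_s_700_702 (c : Nat) : Nat := @Bool.rec (fun _ => Nat) (Ptab_700) (Ptab_701) (Nat.ble 701 c)
noncomputable def Ptab_s_699_702 (c : Nat) : Nat := @Bool.rec (fun _ => Nat) (Ptab_699) (Ptab_s_700_702 c) (Nat.ble 700 c)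
noncomputable def Ptab_s_696_702 (c : Nat) : Nat := @Bool.rec (fun _ => Nat) (Ptab_s_696_699 c) (Ptab_s_699_702 c) (Nat.ble 699 c)
noncomputable def Ptab_s_690_702 (c : Nat) : Nat := @Bool.rec (fun _ => Nat) (Ptab_s_690_696 c) (Ptab_s_696_702 c) (Nat.ble 696 c)
noncomputable def Ptab_s_679_702 (c : Nat) : Nat := @Bool.rec (fun _ => Nat) (Ptab_s_679_690 c) (Ptab_s_690_702 c) (Nat.ble 690 c)
noncomputable def Ptab_s_702_704 (c : Nat) : Nat := @Bool.rec (fun _ => Nat) (Ptab_702) (Ptab_703) (Nat.ble 703 c)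
noncomputable def Ptab_s_705_707 (c : Nat) : Nat := @Bool.rec (fun _ => Nat) (Ptab_705) (Ptab_706) (Nat.ble 706 c)
noncomputable def Ptab_s_704_707 (c : Nat) : Nat := @Bool.rec (fun _ => Nat) (Ptab_704) (Ptab_s_705_707 c) (Nat.ble 705 c)
noncomputable def Ptab_s_702_707 (c : Nat) : Nat := @Bool.rec (fun _ => Nat) (Ptab_s_702_704 c) (Ptab_s_704_707 c) (Nat.ble 704 c)
noncomputable def Ptab_s_708_710 (c : Nat) : Nat := @Bool.rec (fun _ => Nat) (Ptab_708) (Ptab_709) (Nat.ble 709 c)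
noncomputable def Ptab_s_707_710 (c : Nat) : Nat := @Bool.rec (fun _ => Nat) (Ptab_707) (Ptab_s_708_710 c) (Nat.ble 708 c)
noncomputable def Ptab_s_711_713 (c : Nat) : Nat := @Bool.rec (fun _ => Nat) (Ptab_711) (Ptab_712) (Nat.ble 712 c)
noncomputable def Ptab_s_710_713 (c : Nat) : Nat := @Bool.rec (fun _ => Nat) (Ptab_710) (Ptab_s_711_713 c) (Nat.ble 711 c)
noncomputable def Ptab_s_707_713 (c : Nat) : Nat := @Bool.rec (fun _ => Nat) (Ptab_s_707_710 c) (Ptab_s_710_713 c) (Nat.ble 710 c)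
noncomputable def Ptab_s_702_713 (c : Nat) : Nat := @Bool.rec (fun _ => Nat) (Ptab_s_702_707 c) (Ptab_s_707_713 c) (Nat.ble 707 c)
noncomputable def Ptab_s_714_716 (c : Nat) : Nat := @Bool.rec (fun _ => Nat) (Ptab_714) (Ptab_715) (Nat.ble 715 c)
noncomputable def Ptab_s_713_716 (c : Nat) : Nat := @Bool.rec (fun _ => Nat) (Ptab_713) (Ptab_s_714_716 c) (Nat.ble 714 c)
noncomputable def Ptab_s_717_719 (c : Nat) : Nat := @Bool.rec (fun _ => Nat) (Ptab_717) (Ptab_718) (Nat.ble 718 c)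
noncomputable def Ptab_s_716_719 (c : Nat) : Nat := @Bool.rec (fun _ => Nat) (Ptab_716) (Ptab_s_717_719 c) (Nat.ble 717 c)
noncomputable def Ptab_s_713_719 (c : Nat) : Nat := @Bool.rec (fun _ => Nat) (Ptab_s_713_716 c) (Ptab_s_716_719 c) (Nat.ble 716 c)
noncomputable def Ptab_s_720_722 (c : Nat) : Nat := @Bool.rec (fun _ => Nat) (Ptab_720) (Ptab_721) (Nat.ble 721 c)
noncomputable def Ptab_s_719_722 (c : Nat) : Nat := @Bool.rec (fun _ => Nat) (Ptab_719) (Ptab_s_720_722 c) (Nat.ble 720 c)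
noncomputable def Ptab_s_723_725 (c : Nat) : Nat := @Bool.rec (fun _ => Nat) (Ptab_723) (Ptab_724) (Nat.ble 724 c)
noncomputable def Ptab_s_722_725 (c : Nat) : Nat := @Bool.rec (fun _ => Nat) (Ptab_722) (Ptab_s_723_725 c) (Nat.ble 723 c)
noncomputable def Ptab_s_719_725 (c : Nat) : Nat := @Bool.rec (fun _ => Nat) (Ptab_s_719_722 c) (Ptab_s_722_725 c) (Nat.ble 722 c)
noncomputable def Ptab_s_713_725 (c : Nat) : Nat := @Bool.rec (fun _ => Nat) (Ptab_s_713_719 c) (Ptab_s_719_725 c) (Nat.ble 719 c)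
noncomputable def Ptab_s_702_725 (c : Nat) : Nat := @Bool.rec (fun _ => Nat) (Ptab_s_702_713 c) (Ptab_s_713_725 c) (Nat.ble 713 c)
noncomputable def Ptab_s_679_725 (c : Nat) : Nat := @Bool.rec (fun _ => Nat) (Ptab_s_679_702 c) (Ptab_s_702_725 c) (Nat.ble 702 c)
noncomputable def Ptab_s_634_725 (c : Nat) : Nat := @Bool.rec (fun _ => Nat) (Ptab_s_634_679 c) (Ptab_s_679_725 c) (Nat.ble 679 c)
noncomputable def Ptab_s_543_725 (c : Nat) : Nat := @Bool.rec (fun _ => Nat) (Ptab_s_543_634 c) (Ptab_s_634_725 c) (Nat.ble 634 c)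
noncomputable def Ptab_s_362_725 (c : Nat) : Nat := @Bool.rec (fun _ => Nat) (Ptab_s_362_543 c) (Ptab_s_543_725 c) (Nat.ble 543 c)
noncomputable def Ptab_s_0_725 (c : Nat) : Nat := @Bool.rec (fun _ => Nat) (Ptab_s_0_362 c) (Ptab_s_362_725 c) (Nat.ble 362 c)
noncomputable def Ptab (i : Nat) : Nat := rdw 20 1048575 (Ptab_s_0_725 (Nat.shiftRight i 12)) (Nat.land i 4095)
noncomputable def RRtab (i : Nat) : Nat := rdw 5 31 RRtab_0 i
noncomputable def rBtab (i : Nat) : Nat := rdw 12 4095 rBtab_0 i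
noncomputable def rLtab (i : Nat) : Nat := rdw 5 31 rLtab_0 i
noncomputable def nameTab_s_1_3 (c : Nat) : Nat := @Bool.rec (fun _ => Nat) (nameTab_1) (nameTab_2) (Nat.ble 2 c)
noncomputable def nameTab_s_0_3 (c : Nat) : Nat := @Bool.rec (fun _ => Nat) (nameTab_0) (nameTab_s_1_3 c) (Nat.ble 1 c)
noncomputable def nameTab_s_4_6 (c : Nat) : Nat := @Bool.rec (fun _ => Nat) (nameTab_4) (nameTab_5) (Nat.ble 5 c)
noncomputable def nameTab_s_3_6 (c : Nat) : Nat := @Bool.rec (fun _ => Nat) (nameTab_3) (nameTab_s_4_6 c) (Nat.ble 4 c)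
noncomputable def nameTab_s_0_6 (c : Nat) : Nat := @Bool.rec (fun _ => Nat) (nameTab_s_0_3 c) (nameTab_s_3_6 c) (Nat.ble 3 c)
noncomputable def nameTab_s_7_9 (c : Nat) : Nat := @Bool.rec (fun _ => Nat) (nameTab_7) (nameTab_8) (Nat.ble 8 c)
noncomputable def nameTab_s_6_9 (c : Nat) : Nat := @Bool.rec (fun _ => Nat) (nameTab_6) (nameTab_s_7_9 c) (Nat.ble 7 c)
noncomputable def nameTab_s_10_12 (c : Nat) : Nat := @Bool.rec (fun _ => Nat) (nameTab_10) (nameTab_11) (Nat.ble 11 c)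
noncomputable def nameTab_s_9_12 (c : Nat) : Nat := @Bool.rec (fun _ => Nat) (nameTab_9) (nameTab_s_10_12 c) (Nat.ble 10 c)
noncomputable def nameTab_s_6_12 (c : Nat) : Nat := @Bool.rec (fun _ => Nat) (nameTab_s_6_9 c) (nameTab_s_9_12 c) (Nat.ble 9 c)
noncomputable def nameTab_s_0_12 (c : Nat) : Nat := @Bool.rec (fun _ => Nat) (nameTab_s_0_6 c) (nameTab_s_6_12 c) (Nat.ble 6 c)
noncomputable def nameTab (i : Nat) : Nat := rdw 16 65535 (nameTab_s_0_12 (Nat.shiftRight i 12)) (Nat.land i 4095)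
noncomputable def col0_s_1_3 (c : Nat) : Nat := @Bool.rec (fun _ => Nat) (col0_1) (col0_2) (Nat.ble 2 c)
noncomputable def col0_s_0_3 (c : Nat) : Nat := @Bool.rec (fun _ => Nat) (col0_0) (col0_s_1_3 c) (Nat.ble 1 c)
noncomputable def col0_s_4_6 (c : Nat) : Nat := @Bool.rec (fun _ => Nat) (col0_4) (col0_5) (Nat.ble 5 c)
noncomputable def col0_s_3_6 (c : Nat) : Nat := @Bool.rec (fun _ => Nat) (col0_3) (col0_s_4_6 c) (Nat.ble 4 c)
noncomputable def col0_s_0_6 (c : Nat) : Nat := @Bool.rec (fun _ => Nat) (col0_s_0_3 c) (col0_s_3_6 c) (Nat.ble 3 c)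
noncomputable def col0_s_7_9 (c : Nat) : Nat := @Bool.rec (fun _ => Nat) (col0_7) (col0_8) (Nat.ble 8 c)
noncomputable def col0_s_6_9 (c : Nat) : Nat := @Bool.rec (fun _ => Nat) (col0_6) (col0_s_7_9 c) (Nat.ble 7 c)
noncomputable def col0_s_10_12 (c : Nat) : Nat := @Bool.rec (fun _ => Nat) (col0_10) (col0_11) (Nat.ble 11 c)
noncomputable def col0_s_9_12 (c : Nat) : Nat := @Bool.rec (fun _ => Nat) (col0_9) (col0_s_10_12 c) (Nat.ble 10 c)
noncomputable def col0_s_6_12 (c : Nat) : Nat := @Bool.rec (fun _ => Nat) (col0_s_6_9 c) (col0_s_9_12 c) (Nat.ble 9 c)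
noncomputable def col0_s_0_12 (c : Nat) : Nat := @Bool.rec (fun _ => Nat) (col0_s_0_6 c) (col0_s_6_12 c) (Nat.ble 6 c)
noncomputable def col0 (i : Nat) : Nat := rdw 16 65535 (col0_s_0_12 (Nat.shiftRight i 12)) (Nat.land i 4095)
noncomputable def col1_s_1_3 (c : Nat) : Nat := @Bool.rec (fun _ => Nat) (col1_1) (col1_2) (Nat.ble 2 c)
noncomputable def col1_s_0_3 (c : Nat) : Nat := @Bool.rec (fun _ => Nat) (col1_0) (col1_s_1_3 c) (Nat.ble 1 c)
noncomputable def col1_s_4_6 (c : Nat) : Nat := @Bool.rec (fun _ => Nat) (col1_4) (col1_5) (Nat.ble 5 c)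
noncomputable def col1_s_3_6 (c : Nat) : Nat := @Bool.rec (fun _ => Nat) (col1_3) (col1_s_4_6 c) (Nat.ble 4 c)
noncomputable def col1_s_0_6 (c : Nat) : Nat := @Bool.rec (fun _ => Nat) (col1_s_0_3 c) (col1_s_3_6 c) (Nat.ble 3 c)
noncomputable def col1_s_7_9 (c : Nat) : Nat := @Bool.rec (fun _ => Nat) (col1_7) (col1_8) (Nat.ble 8 c)
noncomputable def col1_s_6_9 (c : Nat) : Nat := @Bool.rec (fun _ => Nat) (col1_6) (col1_s_7_9 c) (Nat.ble 7 c)
noncomputable def col1_s_10_12 (c : Nat) : Nat := @Bool.rec (fun _ => Nat) (col1_10) (col1_11) (Nat.ble 11 c)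
noncomputable def col1_s_9_12 (c : Nat) : Nat := @Bool.rec (fun _ => Nat) (col1_9) (col1_s_10_12 c) (Nat.ble 10 c)
noncomputable def col1_s_6_12 (c : Nat) : Nat := @Bool.rec (fun _ => Nat) (col1_s_6_9 c) (col1_s_9_12 c) (Nat.ble 9 c)
noncomputable def col1_s_0_12 (c : Nat) : Nat := @Bool.rec (fun _ => Nat) (col1_s_0_6 c) (col1_s_6_12 c) (Nat.ble 6 c)
noncomputable def col1 (i : Nat) : Nat := rdw 16 65535 (col1_s_0_12 (Nat.shiftRight i 12)) (Nat.land i 4095)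
noncomputable def col2_s_1_3 (c : Nat) : Nat := @Bool.rec (fun _ => Nat) (col2_1) (col2_2) (Nat.ble 2 c)
noncomputable def col2_s_0_3 (c : Nat) : Nat := @Bool.rec (fun _ => Nat) (col2_0) (col2_s_1_3 c) (Nat.ble 1 c)
noncomputable def col2_s_4_6 (c : Nat) : Nat := @Bool.rec (fun _ => Nat) (col2_4) (col2_5) (Nat.ble 5 c)
noncomputable def col2_s_3_6 (c : Nat) : Nat := @Bool.rec (fun _ => Nat) (col2_3) (col2_s_4_6 c) (Nat.ble 4 c)
noncomputable def col2_s_0_6 (c : Nat) : Nat := @Bool.rec (fun _ => Nat) (col2_s_0_3 c) (col2_s_3_6 c) (Nat.ble 3 c)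
noncomputable def col2_s_7_9 (c : Nat) : Nat := @Bool.rec (fun _ => Nat) (col2_7) (col2_8) (Nat.ble 8 c)
noncomputable def col2_s_6_9 (c : Nat) : Nat := @Bool.rec (fun _ => Nat) (col2_6) (col2_s_7_9 c) (Nat.ble 7 c)
noncomputable def col2_s_10_12 (c : Nat) : Nat := @Bool.rec (fun _ => Nat) (col2_10) (col2_11) (Nat.ble 11 c)
noncomputable def col2_s_9_12 (c : Nat) : Nat := @Bool.rec (fun _ => Nat) (col2_9) (col2_s_10_12 c) (Nat.ble 10 c)
noncomputable def col2_s_6_12 (c : Nat) : Nat := @Bool.rec (fun _ => Nat) (col2_s_6_9 c) (col2_s_9_12 c) (Nat.ble 9 c)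
noncomputable def col2_s_0_12 (c : Nat) : Nat := @Bool.rec (fun _ => Nat) (col2_s_0_6 c) (col2_s_6_12 c) (Nat.ble 6 c)
noncomputable def col2 (i : Nat) : Nat := rdw 16 65535 (col2_s_0_12 (Nat.shiftRight i 12)) (Nat.land i 4095)
noncomputable def col3_s_1_3 (c : Nat) : Nat := @Bool.rec (fun _ => Nat) (col3_1) (col3_2) (Nat.ble 2 c)
noncomputable def col3_s_0_3 (c : Nat) : Nat := @Bool.rec (fun _ => Nat) (col3_0) (col3_s_1_3 c) (Nat.ble 1 c)
noncomputable def col3_s_4_6 (c : Nat) : Nat := @Bool.rec (fun _ => Nat) (col3_4) (col3_5) (Nat.ble 5 c)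
noncomputable def col3_s_3_6 (c : Nat) : Nat := @Bool.rec (fun _ => Nat) (col3_3) (col3_s_4_6 c) (Nat.ble 4 c)
noncomputable def col3_s_0_6 (c : Nat) : Nat := @Bool.rec (fun _ => Nat) (col3_s_0_3 c) (col3_s_3_6 c) (Nat.ble 3 c)
noncomputable def col3_s_7_9 (c : Nat) : Nat := @Bool.rec (fun _ => Nat) (col3_7) (col3_8) (Nat.ble 8 c)
noncomputable def col3_s_6_9 (c : Nat) : Nat := @Bool.rec (fun _ => Nat) (col3_6) (col3_s_7_9 c) (Nat.ble 7 c)
noncomputable def col3_s_10_12 (c : Nat) : Nat := @Bool.rec (fun _ => Nat) (col3_10) (col3_11) (Nat.ble 11 c)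
noncomputable def col3_s_9_12 (c : Nat) : Nat := @Bool.rec (fun _ => Nat) (col3_9) (col3_s_10_12 c) (Nat.ble 10 c)
noncomputable def col3_s_6_12 (c : Nat) : Nat := @Bool.rec (fun _ => Nat) (col3_s_6_9 c) (col3_s_9_12 c) (Nat.ble 9 c)
noncomputable def col3_s_0_12 (c : Nat) : Nat := @Bool.rec (fun _ => Nat) (col3_s_0_6 c) (col3_s_6_12 c) (Nat.ble 6 c)
noncomputable def col3 (i : Nat) : Nat := rdw 16 65535 (col3_s_0_12 (Nat.shiftRight i 12)) (Nat.land i 4095)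
noncomputable def col4_s_1_3 (c : Nat) : Nat := @Bool.rec (fun _ => Nat) (col4_1) (col4_2) (Nat.ble 2 c)
noncomputable def col4_s_0_3 (c : Nat) : Nat := @Bool.rec (fun _ => Nat) (col4_0) (col4_s_1_3 c) (Nat.ble 1 c)
noncomputable def col4_s_4_6 (c : Nat) : Nat := @Bool.rec (fun _ => Nat) (col4_4) (col4_5) (Nat.ble 5 c)
noncomputable def col4_s_3_6 (c : Nat) : Nat := @Bool.rec (fun _ => Nat) (col4_3) (col4_s_4_6 c) (Nat.ble 4 c)
noncomputable def col4_s_0_6 (c : Nat) : Nat := @Bool.rec (fun _ => Nat) (col4_s_0_3 c) (col4_s_3_6 c) (Nat.ble 3 c)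
noncomputable def col4_s_7_9 (c : Nat) : Nat := @Bool.rec (fun _ => Nat) (col4_7) (col4_8) (Nat.ble 8 c)
noncomputable def col4_s_6_9 (c : Nat) : Nat := @Bool.rec (fun _ => Nat) (col4_6) (col4_s_7_9 c) (Nat.ble 7 c)
noncomputable def col4_s_10_12 (c : Nat) : Nat := @Bool.rec (fun _ => Nat) (col4_10) (col4_11) (Nat.ble 11 c)
noncomputable def col4_s_9_12 (c : Nat) : Nat := @Bool.rec (fun _ => Nat) (col4_9) (col4_s_10_12 c) (Nat.ble 10 c)
noncomputable def col4_s_6_12 (c : Nat) : Nat := @Bool.rec (fun _ => Nat) (col4_s_6_9 c) (col4_s_9_12 c) (Nat.ble 9 c)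
noncomputable def col4_s_0_12 (c : Nat) : Nat := @Bool.rec (fun _ => Nat) (col4_s_0_6 c) (col4_s_6_12 c) (Nat.ble 6 c)
noncomputable def col4 (i : Nat) : Nat := rdw 16 65535 (col4_s_0_12 (Nat.shiftRight i 12)) (Nat.land i 4095)
noncomputable def col5_s_1_3 (c : Nat) : Nat := @Bool.rec (fun _ => Nat) (col5_1) (col5_2) (Nat.ble 2 c)
noncomputable def col5_s_0_3 (c : Nat) : Nat := @Bool.rec (fun _ => Nat) (col5_0) (col5_s_1_3 c) (Nat.ble 1 c)
noncomputable def col5_s_4_6 (c : Nat) : Nat := @Bool.rec (fun _ => Nat) (col5_4) (col5_5) (Nat.ble 5 c)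
noncomputable def col5_s_3_6 (c : Nat) : Nat := @Bool.rec (fun _ => Nat) (col5_3) (col5_s_4_6 c) (Nat.ble 4 c)
noncomputable def col5_s_0_6 (c : Nat) : Nat := @Bool.rec (fun _ => Nat) (col5_s_0_3 c) (col5_s_3_6 c) (Nat.ble 3 c)
noncomputable def col5_s_7_9 (c : Nat) : Nat := @Bool.rec (fun _ => Nat) (col5_7) (col5_8) (Nat.ble 8 c)
noncomputable def col5_s_6_9 (c : Nat) : Nat := @Bool.rec (fun _ => Nat) (col5_6) (col5_s_7_9 c) (Nat.ble 7 c)
noncomputable def col5_s_10_12 (c : Nat) : Nat := @Bool.rec (fun _ => Nat) (col5_10) (col5_11) (Nat.ble 11 c)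
noncomputable def col5_s_9_12 (c : Nat) : Nat := @Bool.rec (fun _ => Nat) (col5_9) (col5_s_10_12 c) (Nat.ble 10 c)
noncomputable def col5_s_6_12 (c : Nat) : Nat := @Bool.rec (fun _ => Nat) (col5_s_6_9 c) (col5_s_9_12 c) (Nat.ble 9 c)
noncomputable def col5_s_0_12 (c : Nat) : Nat := @Bool.rec (fun _ => Nat) (col5_s_0_6 c) (col5_s_6_12 c) (Nat.ble 6 c)
noncomputable def col5 (i : Nat) : Nat := rdw 16 65535 (col5_s_0_12 (Nat.shiftRight i 12)) (Nat.land i 4095)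
noncomputable def col6_s_1_3 (c : Nat) : Nat := @Bool.rec (fun _ => Nat) (col6_1) (col6_2) (Nat.ble 2 c)
noncomputable def col6_s_0_3 (c : Nat) : Nat := @Bool.rec (fun _ => Nat) (col6_0) (col6_s_1_3 c) (Nat.ble 1 c)
noncomputable def col6_s_4_6 (c : Nat) : Nat := @Bool.rec (fun _ => Nat) (col6_4) (col6_5) (Nat.ble 5 c)
noncomputable def col6_s_3_6 (c : Nat) : Nat := @Bool.rec (fun _ => Nat) (col6_3) (col6_s_4_6 c) (Nat.ble 4 c)
noncomputable def col6_s_0_6 (c : Nat) : Nat := @Bool.rec (fun _ => Nat) (col6_s_0_3 c) (col6_s_3_6 c) (Nat.ble 3 c)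
noncomputable def col6_s_7_9 (c : Nat) : Nat := @Bool.rec (fun _ => Nat) (col6_7) (col6_8) (Nat.ble 8 c)
noncomputable def col6_s_6_9 (c : Nat) : Nat := @Bool.rec (fun _ => Nat) (col6_6) (col6_s_7_9 c) (Nat.ble 7 c)
noncomputable def col6_s_10_12 (c : Nat) : Nat := @Bool.rec (fun _ => Nat) (col6_10) (col6_11) (Nat.ble 11 c)
noncomputable def col6_s_9_12 (c : Nat) : Nat := @Bool.rec (fun _ => Nat) (col6_9) (col6_s_10_12 c) (Nat.ble 10 c)
noncomputable def col6_s_6_12 (c : Nat) : Nat := @Bool.rec (fun _ => Nat) (col6_s_6_9 c) (col6_s_9_12 c) (Nat.ble 9 c)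
noncomputable def col6_s_0_12 (c : Nat) : Nat := @Bool.rec (fun _ => Nat) (col6_s_0_6 c) (col6_s_6_12 c) (Nat.ble 6 c)
noncomputable def col6 (i : Nat) : Nat := rdw 16 65535 (col6_s_0_12 (Nat.shiftRight i 12)) (Nat.land i 4095)
noncomputable def col7_s_1_3 (c : Nat) : Nat := @Bool.rec (fun _ => Nat) (col7_1) (col7_2) (Nat.ble 2 c)
noncomputable def col7_s_0_3 (c : Nat) : Nat := @Bool.rec (fun _ => Nat) (col7_0) (col7_s_1_3 c) (Nat.ble 1 c)
noncomputable def col7_s_4_6 (c : Nat) : Nat := @Bool.rec (fun _ => Nat) (col7_4) (col7_5) (Nat.ble 5 c)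
noncomputable def col7_s_3_6 (c : Nat) : Nat := @Bool.rec (fun _ => Nat) (col7_3) (col7_s_4_6 c) (Nat.ble 4 c)
noncomputable def col7_s_0_6 (c : Nat) : Nat := @Bool.rec (fun _ => Nat) (col7_s_0_3 c) (col7_s_3_6 c) (Nat.ble 3 c)
noncomputable def col7_s_7_9 (c : Nat) : Nat := @Bool.rec (fun _ => Nat) (col7_7) (col7_8) (Nat.ble 8 c)
noncomputable def col7_s_6_9 (c : Nat) : Nat := @Bool.rec (fun _ => Nat) (col7_6) (col7_s_7_9 c) (Nat.ble 7 c)
noncomputable def col7_s_10_12 (c : Nat) : Nat := @Bool.rec (fun _ => Nat) (col7_10) (col7_11) (Nat.ble 11 c)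
noncomputable def col7_s_9_12 (c : Nat) : Nat := @Bool.rec (fun _ => Nat) (col7_9) (col7_s_10_12 c) (Nat.ble 10 c)
noncomputable def col7_s_6_12 (c : Nat) : Nat := @Bool.rec (fun _ => Nat) (col7_s_6_9 c) (col7_s_9_12 c) (Nat.ble 9 c)
noncomputable def col7_s_0_12 (c : Nat) : Nat := @Bool.rec (fun _ => Nat) (col7_s_0_6 c) (col7_s_6_12 c) (Nat.ble 6 c)
noncomputable def col7 (i : Nat) : Nat := rdw 16 65535 (col7_s_0_12 (Nat.shiftRight i 12)) (Nat.land i 4095)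
noncomputable def col8_s_1_3 (c : Nat) : Nat := @Bool.rec (fun _ => Nat) (col8_1) (col8_2) (Nat.ble 2 c)
noncomputable def col8_s_0_3 (c : Nat) : Nat := @Bool.rec (fun _ => Nat) (col8_0) (col8_s_1_3 c) (Nat.ble 1 c)
noncomputable def col8_s_4_6 (c : Nat) : Nat := @Bool.rec (fun _ => Nat) (col8_4) (col8_5) (Nat.ble 5 c)
noncomputable def col8_s_3_6 (c : Nat) : Nat := @Bool.rec (fun _ => Nat) (col8_3) (col8_s_4_6 c) (Nat.ble 4 c)
noncomputable def col8_s_0_6 (c : Nat) : Nat := @Bool.rec (fun _ => Nat) (col8_s_0_3 c) (col8_s_3_6 c) (Nat.ble 3 c)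
noncomputable def col8_s_7_9 (c : Nat) : Nat := @Bool.rec (fun _ => Nat) (col8_7) (col8_8) (Nat.ble 8 c)
noncomputable def col8_s_6_9 (c : Nat) : Nat := @Bool.rec (fun _ => Nat) (col8_6) (col8_s_7_9 c) (Nat.ble 7 c)
noncomputable def col8_s_10_12 (c : Nat) : Nat := @Bool.rec (fun _ => Nat) (col8_10) (col8_11) (Nat.ble 11 c)
noncomputable def col8_s_9_12 (c : Nat) : Nat := @Bool.rec (fun _ => Nat) (col8_9) (col8_s_10_12 c) (Nat.ble 10 c)
noncomputable def col8_s_6_12 (c : Nat) : Nat := @Bool.rec (fun _ => Nat) (col8_s_6_9 c) (col8_s_9_12 c) (Nat.ble 9 c)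
noncomputable def col8_s_0_12 (c : Nat) : Nat := @Bool.rec (fun _ => Nat) (col8_s_0_6 c) (col8_s_6_12 c) (Nat.ble 6 c)
noncomputable def col8 (i : Nat) : Nat := rdw 16 65535 (col8_s_0_12 (Nat.shiftRight i 12)) (Nat.land i 4095)
noncomputable def col9_s_1_3 (c : Nat) : Nat := @Bool.rec (fun _ => Nat) (col9_1) (col9_2) (Nat.ble 2 c)
noncomputable def col9_s_0_3 (c : Nat) : Nat := @Bool.rec (fun _ => Nat) (col9_0) (col9_s_1_3 c) (Nat.ble 1 c)
noncomputable def col9_s_4_6 (c : Nat) : Nat := @Bool.rec (fun _ => Nat) (col9_4) (col9_5) (Nat.ble 5 c)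
noncomputable def col9_s_3_6 (c : Nat) : Nat := @Bool.rec (fun _ => Nat) (col9_3) (col9_s_4_6 c) (Nat.ble 4 c)
noncomputable def col9_s_0_6 (c : Nat) : Nat := @Bool.rec (fun _ => Nat) (col9_s_0_3 c) (col9_s_3_6 c) (Nat.ble 3 c)
noncomputable def col9_s_7_9 (c : Nat) : Nat := @Bool.rec (fun _ => Nat) (col9_7) (col9_8) (Nat.ble 8 c)
noncomputable def col9_s_6_9 (c : Nat) : Nat := @Bool.rec (fun _ => Nat) (col9_6) (col9_s_7_9 c) (Nat.ble 7 c)
noncomputable def col9_s_10_12 (c : Nat) : Nat := @Bool.rec (fun _ => Nat) (col9_10) (col9_11) (Nat.ble 11 c)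
noncomputable def col9_s_9_12 (c : Nat) : Nat := @Bool.rec (fun _ => Nat) (col9_9) (col9_s_10_12 c) (Nat.ble 10 c)
noncomputable def col9_s_6_12 (c : Nat) : Nat := @Bool.rec (fun _ => Nat) (col9_s_6_9 c) (col9_s_9_12 c) (Nat.ble 9 c)
noncomputable def col9_s_0_12 (c : Nat) : Nat := @Bool.rec (fun _ => Nat) (col9_s_0_6 c) (col9_s_6_12 c) (Nat.ble 6 c)
noncomputable def col9 (i : Nat) : Nat := rdw 16 65535 (col9_s_0_12 (Nat.shiftRight i 12)) (Nat.land i 4095)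
noncomputable def col10_s_1_3 (c : Nat) : Nat := @Bool.rec (fun _ => Nat) (col10_1) (col10_2) (Nat.ble 2 c)
noncomputable def col10_s_0_3 (c : Nat) : Nat := @Bool.rec (fun _ => Nat) (col10_0) (col10_s_1_3 c) (Nat.ble 1 c)
noncomputable def col10_s_4_6 (c : Nat) : Nat := @Bool.rec (fun _ => Nat) (col10_4) (col10_5) (Nat.ble 5 c)
noncomputable def col10_s_3_6 (c : Nat) : Nat := @Bool.rec (fun _ => Nat) (col10_3) (col10_s_4_6 c) (Nat.ble 4 c)
noncomputable def col10_s_0_6 (c : Nat) : Nat := @Bool.rec (fun _ => Nat) (col10_s_0_3 c) (col10_s_3_6 c) (Nat.ble 3 c)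
noncomputable def col10_s_7_9 (c : Nat) : Nat := @Bool.rec (fun _ => Nat) (col10_7) (col10_8) (Nat.ble 8 c)
noncomputable def col10_s_6_9 (c : Nat) : Nat := @Bool.rec (fun _ => Nat) (col10_6) (col10_s_7_9 c) (Nat.ble 7 c)
noncomputable def col10_s_10_12 (c : Nat) : Nat := @Bool.rec (fun _ => Nat) (col10_10) (col10_11) (Nat.ble 11 c)
noncomputable def col10_s_9_12 (c : Nat) : Nat := @Bool.rec (fun _ => Nat) (col10_9) (col10_s_10_12 c) (Nat.ble 10 c)
noncomputable def col10_s_6_12 (c : Nat) : Nat := @Bool.rec (fun _ => Nat) (col10_s_6_9 c) (col10_s_9_12 c) (Nat.ble 9 c)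
noncomputable def col10_s_0_12 (c : Nat) : Nat := @Bool.rec (fun _ => Nat) (col10_s_0_6 c) (col10_s_6_12 c) (Nat.ble 6 c)
noncomputable def col10 (i : Nat) : Nat := rdw 16 65535 (col10_s_0_12 (Nat.shiftRight i 12)) (Nat.land i 4095)
noncomputable def col11_s_1_3 (c : Nat) : Nat := @Bool.rec (fun _ => Nat) (col11_1) (col11_2) (Nat.ble 2 c)
noncomputable def col11_s_0_3 (c : Nat) : Nat := @Bool.rec (fun _ => Nat) (col11_0) (col11_s_1_3 c) (Nat.ble 1 c)
noncomputable def col11_s_4_6 (c : Nat) : Nat := @Bool.rec (fun _ => Nat) (col11_4) (col11_5) (Nat.ble 5 c)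
noncomputable def col11_s_3_6 (c : Nat) : Nat := @Bool.rec (fun _ => Nat) (col11_3) (col11_s_4_6 c) (Nat.ble 4 c)
noncomputable def col11_s_0_6 (c : Nat) : Nat := @Bool.rec (fun _ => Nat) (col11_s_0_3 c) (col11_s_3_6 c) (Nat.ble 3 c)
noncomputable def col11_s_7_9 (c : Nat) : Nat := @Bool.rec (fun _ => Nat) (col11_7) (col11_8) (Nat.ble 8 c)
noncomputable def col11_s_6_9 (c : Nat) : Nat := @Bool.rec (fun _ => Nat) (col11_6) (col11_s_7_9 c) (Nat.ble 7 c)
noncomputable def col11_s_10_12 (c : Nat) : Nat := @Bool.rec (fun _ => Nat) (col11_10) (col11_11) (Nat.ble 11 c)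
noncomputable def col11_s_9_12 (c : Nat) : Nat := @Bool.rec (fun _ => Nat) (col11_9) (col11_s_10_12 c) (Nat.ble 10 c)
noncomputable def col11_s_6_12 (c : Nat) : Nat := @Bool.rec (fun _ => Nat) (col11_s_6_9 c) (col11_s_9_12 c) (Nat.ble 9 c)
noncomputable def col11_s_0_12 (c : Nat) : Nat := @Bool.rec (fun _ => Nat) (col11_s_0_6 c) (col11_s_6_12 c) (Nat.ble 6 c)
noncomputable def col11 (i : Nat) : Nat := rdw 16 65535 (col11_s_0_12 (Nat.shiftRight i 12)) (Nat.land i 4095)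
noncomputable def col12_s_1_3 (c : Nat) : Nat := @Bool.rec (fun _ => Nat) (col12_1) (col12_2) (Nat.ble 2 c)
noncomputable def col12_s_0_3 (c : Nat) : Nat := @Bool.rec (fun _ => Nat) (col12_0) (col12_s_1_3 c) (Nat.ble 1 c)
noncomputable def col12_s_4_6 (c : Nat) : Nat := @Bool.rec (fun _ => Nat) (col12_4) (col12_5) (Nat.ble 5 c)
noncomputable def col12_s_3_6 (c : Nat) : Nat := @Bool.rec (fun _ => Nat) (col12_3) (col12_s_4_6 c) (Nat.ble 4 c)
noncomputable def col12_s_0_6 (c : Nat) : Nat := @Bool.rec (fun _ => Nat) (col12_s_0_3 c) (col12_s_3_6 c) (Nat.ble 3 c)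
noncomputable def col12_s_7_9 (c : Nat) : Nat := @Bool.rec (fun _ => Nat) (col12_7) (col12_8) (Nat.ble 8 c)
noncomputable def col12_s_6_9 (c : Nat) : Nat := @Bool.rec (fun _ => Nat) (col12_6) (col12_s_7_9 c) (Nat.ble 7 c)
noncomputable def col12_s_10_12 (c : Nat) : Nat := @Bool.rec (fun _ => Nat) (col12_10) (col12_11) (Nat.ble 11 c)
noncomputable def col12_s_9_12 (c : Nat) : Nat := @Bool.rec (fun _ => Nat) (col12_9) (col12_s_10_12 c) (Nat.ble 10 c)
noncomputable def col12_s_6_12 (c : Nat) : Nat := @Bool.rec (fun _ => Nat) (col12_s_6_9 c) (col12_s_9_12 c) (Nat.ble 9 c)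
noncomputable def col12_s_0_12 (c : Nat) : Nat := @Bool.rec (fun _ => Nat) (col12_s_0_6 c) (col12_s_6_12 c) (Nat.ble 6 c)
noncomputable def col12 (i : Nat) : Nat := rdw 16 65535 (col12_s_0_12 (Nat.shiftRight i 12)) (Nat.land i 4095)
noncomputable def col13_s_1_3 (c : Nat) : Nat := @Bool.rec (fun _ => Nat) (col13_1) (col13_2) (Nat.ble 2 c)
noncomputable def col13_s_0_3 (c : Nat) : Nat := @Bool.rec (fun _ => Nat) (col13_0) (col13_s_1_3 c) (Nat.ble 1 c)
noncomputable def col13_s_4_6 (c : Nat) : Nat := @Bool.rec (fun _ => Nat) (col13_4) (col13_5) (Nat.ble 5 c)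
noncomputable def col13_s_3_6 (c : Nat) : Nat := @Bool.rec (fun _ => Nat) (col13_3) (col13_s_4_6 c) (Nat.ble 4 c)
noncomputable def col13_s_0_6 (c : Nat) : Nat := @Bool.rec (fun _ => Nat) (col13_s_0_3 c) (col13_s_3_6 c) (Nat.ble 3 c)
noncomputable def col13_s_7_9 (c : Nat) : Nat := @Bool.rec (fun _ => Nat) (col13_7) (col13_8) (Nat.ble 8 c)
noncomputable def col13_s_6_9 (c : Nat) : Nat := @Bool.rec (fun _ => Nat) (col13_6) (col13_s_7_9 c) (Nat.ble 7 c)
noncomputable def col13_s_10_12 (c : Nat) : Nat := @Bool.rec (fun _ => Nat) (col13_10) (col13_11) (Nat.ble 11 c)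
noncomputable def col13_s_9_12 (c : Nat) : Nat := @Bool.rec (fun _ => Nat) (col13_9) (col13_s_10_12 c) (Nat.ble 10 c)
noncomputable def col13_s_6_12 (c : Nat) : Nat := @Bool.rec (fun _ => Nat) (col13_s_6_9 c) (col13_s_9_12 c) (Nat.ble 9 c)
noncomputable def col13_s_0_12 (c : Nat) : Nat := @Bool.rec (fun _ => Nat) (col13_s_0_6 c) (col13_s_6_12 c) (Nat.ble 6 c)
noncomputable def col13 (i : Nat) : Nat := rdw 16 65535 (col13_s_0_12 (Nat.shiftRight i 12)) (Nat.land i 4095)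
noncomputable def col14_s_1_3 (c : Nat) : Nat := @Bool.rec (fun _ => Nat) (col14_1) (col14_2) (Nat.ble 2 c)
noncomputable def col14_s_0_3 (c : Nat) : Nat := @Bool.rec (fun _ => Nat) (col14_0) (col14_s_1_3 c) (Nat.ble 1 c)
noncomputable def col14_s_4_6 (c : Nat) : Nat := @Bool.rec (fun _ => Nat) (col14_4) (col14_5) (Nat.ble 5 c)
noncomputable def col14_s_3_6 (c : Nat) : Nat := @Bool.rec (fun _ => Nat) (col14_3) (col14_s_4_6 c) (Nat.ble 4 c)
noncomputable def col14_s_0_6 (c : Nat) : Nat := @Bool.rec (fun _ => Nat) (col14_s_0_3 c) (col14_s_3_6 c) (Nat.ble 3 c)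
noncomputable def col14_s_7_9 (c : Nat) : Nat := @Bool.rec (fun _ => Nat) (col14_7) (col14_8) (Nat.ble 8 c)
noncomputable def col14_s_6_9 (c : Nat) : Nat := @Bool.rec (fun _ => Nat) (col14_6) (col14_s_7_9 c) (Nat.ble 7 c)
noncomputable def col14_s_10_12 (c : Nat) : Nat := @Bool.rec (fun _ => Nat) (col14_10) (col14_11) (Nat.ble 11 c)
noncomputable def col14_s_9_12 (c : Nat) : Nat := @Bool.rec (fun _ => Nat) (col14_9) (col14_s_10_12 c) (Nat.ble 10 c)
noncomputable def col14_s_6_12 (c : Nat) : Nat := @Bool.rec (fun _ => Nat) (col14_s_6_9 c) (col14_s_9_12 c) (Nat.ble 9 c)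
noncomputable def col14_s_0_12 (c : Nat) : Nat := @Bool.rec (fun _ => Nat) (col14_s_0_6 c) (col14_s_6_12 c) (Nat.ble 6 c)
noncomputable def col14 (i : Nat) : Nat := rdw 16 65535 (col14_s_0_12 (Nat.shiftRight i 12)) (Nat.land i 4095)
noncomputable def col15_s_1_3 (c : Nat) : Nat := @Bool.rec (fun _ => Nat) (col15_1) (col15_2) (Nat.ble 2 c)
noncomputable def col15_s_0_3 (c : Nat) : Nat := @Bool.rec (fun _ => Nat) (col15_0) (col15_s_1_3 c) (Nat.ble 1 c)
noncomputable def col15_s_4_6 (c : Nat) : Nat := @Bool.rec (fun _ => Nat) (col15_4) (col15_5) (Nat.ble 5 c)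
noncomputable def col15_s_3_6 (c : Nat) : Nat := @Bool.rec (fun _ => Nat) (col15_3) (col15_s_4_6 c) (Nat.ble 4 c)
noncomputable def col15_s_0_6 (c : Nat) : Nat := @Bool.rec (fun _ => Nat) (col15_s_0_3 c) (col15_s_3_6 c) (Nat.ble 3 c)
noncomputable def col15_s_7_9 (c : Nat) : Nat := @Bool.rec (fun _ => Nat) (col15_7) (col15_8) (Nat.ble 8 c)
noncomputable def col15_s_6_9 (c : Nat) : Nat := @Bool.rec (fun _ => Nat) (col15_6) (col15_s_7_9 c) (Nat.ble 7 c)
noncomputable def col15_s_10_12 (c : Nat) : Nat := @Bool.rec (fun _ => Nat) (col15_10) (col15_11) (Nat.ble 11 c)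
noncomputable def col15_s_9_12 (c : Nat) : Nat := @Bool.rec (fun _ => Nat) (col15_9) (col15_s_10_12 c) (Nat.ble 10 c)
noncomputable def col15_s_6_12 (c : Nat) : Nat := @Bool.rec (fun _ => Nat) (col15_s_6_9 c) (col15_s_9_12 c) (Nat.ble 9 c)
noncomputable def col15_s_0_12 (c : Nat) : Nat := @Bool.rec (fun _ => Nat) (col15_s_0_6 c) (col15_s_6_12 c) (Nat.ble 6 c)
noncomputable def col15 (i : Nat) : Nat := rdw 16 65535 (col15_s_0_12 (Nat.shiftRight i 12)) (Nat.land i 4095)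
noncomputable def finTab_s_0_2 (c : Nat) : Nat := @Bool.rec (fun _ => Nat) (finTab_0) (finTab_1) (Nat.ble 1 c)
noncomputable def finTab_s_3_5 (c : Nat) : Nat := @Bool.rec (fun _ => Nat) (finTab_3) (finTab_4) (Nat.ble 4 c)
noncomputable def finTab_s_2_5 (c : Nat) : Nat := @Bool.rec (fun _ => Nat) (finTab_2) (finTab_s_3_5 c) (Nat.ble 3 c)
noncomputable def finTab_s_0_5 (c : Nat) : Nat := @Bool.rec (fun _ => Nat) (finTab_s_0_2 c) (finTab_s_2_5 c) (Nat.ble 2 c)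
noncomputable def finTab_s_6_8 (c : Nat) : Nat := @Bool.rec (fun _ => Nat) (finTab_6) (finTab_7) (Nat.ble 7 c)
noncomputable def finTab_s_5_8 (c : Nat) : Nat := @Bool.rec (fun _ => Nat) (finTab_5) (finTab_s_6_8 c) (Nat.ble 6 c)
noncomputable def finTab_s_9_11 (c : Nat) : Nat := @Bool.rec (fun _ => Nat) (finTab_9) (finTab_10) (Nat.ble 10 c)
noncomputable def finTab_s_8_11 (c : Nat) : Nat := @Bool.rec (fun _ => Nat) (finTab_8) (finTab_s_9_11 c) (Nat.ble 9 c)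
noncomputable def finTab_s_5_11 (c : Nat) : Nat := @Bool.rec (fun _ => Nat) (finTab_s_5_8 c) (finTab_s_8_11 c) (Nat.ble 8 c)
noncomputable def finTab_s_0_11 (c : Nat) : Nat := @Bool.rec (fun _ => Nat) (finTab_s_0_5 c) (finTab_s_5_11 c) (Nat.ble 5 c)
noncomputable def finTab_s_12_14 (c : Nat) : Nat := @Bool.rec (fun _ => Nat) (finTab_12) (finTab_13) (Nat.ble 13 c)
noncomputable def finTab_s_11_14 (c : Nat) : Nat := @Bool.rec (fun _ => Nat) (finTab_11) (finTab_s_12_14 c) (Nat.ble 12 c)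
noncomputable def finTab_s_15_17 (c : Nat) : Nat := @Bool.rec (fun _ => Nat) (finTab_15) (finTab_16) (Nat.ble 16 c)
noncomputable def finTab_s_14_17 (c : Nat) : Nat := @Bool.rec (fun _ => Nat) (finTab_14) (finTab_s_15_17 c) (Nat.ble 15 c)
noncomputable def finTab_s_11_17 (c : Nat) : Nat := @Bool.rec (fun _ => Nat) (finTab_s_11_14 c) (finTab_s_14_17 c) (Nat.ble 14 c)
noncomputable def finTab_s_18_20 (c : Nat) : Nat := @Bool.rec (fun _ => Nat) (finTab_18) (finTab_19) (Nat.ble 19 c)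
noncomputable def finTab_s_17_20 (c : Nat) : Nat := @Bool.rec (fun _ => Nat) (finTab_17) (finTab_s_18_20 c) (Nat.ble 18 c)
noncomputable def finTab_s_21_23 (c : Nat) : Nat := @Bool.rec (fun _ => Nat) (finTab_21) (finTab_22) (Nat.ble 22 c)
noncomputable def finTab_s_20_23 (c : Nat) : Nat := @Bool.rec (fun _ => Nat) (finTab_20) (finTab_s_21_23 c) (Nat.ble 21 c)
noncomputable def finTab_s_17_23 (c : Nat) : Nat := @Bool.rec (fun _ => Nat) (finTab_s_17_20 c) (finTab_s_20_23 c) (Nat.ble 20 c)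
noncomputable def finTab_s_11_23 (c : Nat) : Nat := @Bool.rec (fun _ => Nat) (finTab_s_11_17 c) (finTab_s_17_23 c) (Nat.ble 17 c)
noncomputable def finTab_s_0_23 (c : Nat) : Nat := @Bool.rec (fun _ => Nat) (finTab_s_0_11 c) (finTab_s_11_23 c) (Nat.ble 11 c)
noncomputable def finTab_s_24_26 (c : Nat) : Nat := @Bool.rec (fun _ => Nat) (finTab_24) (finTab_25) (Nat.ble 25 c)
noncomputable def finTab_s_23_26 (c : Nat) : Nat := @Bool.rec (fun _ => Nat) (finTab_23) (finTab_s_24_26 c) (Nat.ble 24 c)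
noncomputable def finTab_s_27_29 (c : Nat) : Nat := @Bool.rec (fun _ => Nat) (finTab_27) (finTab_28) (Nat.ble 28 c)
noncomputable def finTab_s_26_29 (c : Nat) : Nat := @Bool.rec (fun _ => Nat) (finTab_26) (finTab_s_27_29 c) (Nat.ble 27 c)
noncomputable def finTab_s_23_29 (c : Nat) : Nat := @Bool.rec (fun _ => Nat) (finTab_s_23_26 c) (finTab_s_26_29 c) (Nat.ble 26 c)
noncomputable def finTab_s_30_32 (c : Nat) : Nat := @Bool.rec (fun _ => Nat) (finTab_30) (finTab_31) (Nat.ble 31 c)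
noncomputable def finTab_s_29_32 (c : Nat) : Nat := @Bool.rec (fun _ => Nat) (finTab_29) (finTab_s_30_32 c) (Nat.ble 30 c)
noncomputable def finTab_s_33_35 (c : Nat) : Nat := @Bool.rec (fun _ => Nat) (finTab_33) (finTab_34) (Nat.ble 34 c)
noncomputable def finTab_s_32_35 (c : Nat) : Nat := @Bool.rec (fun _ => Nat) (finTab_32) (finTab_s_33_35 c) (Nat.ble 33 c)
noncomputable def finTab_s_29_35 (c : Nat) : Nat := @Bool.rec (fun _ => Nat) (finTab_s_29_32 c) (finTab_s_32_35 c) (Nat.ble 32 c)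
noncomputable def finTab_s_23_35 (c : Nat) : Nat := @Bool.rec (fun _ => Nat) (finTab_s_23_29 c) (finTab_s_29_35 c) (Nat.ble 29 c)
noncomputable def finTab_s_36_38 (c : Nat) : Nat := @Bool.rec (fun _ => Nat) (finTab_36) (finTab_37) (Nat.ble 37 c)
noncomputable def finTab_s_35_38 (c : Nat) : Nat := @Bool.rec (fun _ => Nat) (finTab_35) (finTab_s_36_38 c) (Nat.ble 36 c)
noncomputable def finTab_s_39_41 (c : Nat) : Nat := @Bool.rec (fun _ => Nat) (finTab_39) (finTab_40) (Nat.ble 40 c)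
noncomputable def finTab_s_38_41 (c : Nat) : Nat := @Bool.rec (fun _ => Nat) (finTab_38) (finTab_s_39_41 c) (Nat.ble 39 c)
noncomputable def finTab_s_35_41 (c : Nat) : Nat := @Bool.rec (fun _ => Nat) (finTab_s_35_38 c) (finTab_s_38_41 c) (Nat.ble 38 c)
noncomputable def finTab_s_42_44 (c : Nat) : Nat := @Bool.rec (fun _ => Nat) (finTab_42) (finTab_43) (Nat.ble 43 c)
noncomputable def finTab_s_41_44 (c : Nat) : Nat := @Bool.rec (fun _ => Nat) (finTab_41) (finTab_s_42_44 c) (Nat.ble 42 c)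
noncomputable def finTab_s_45_47 (c : Nat) : Nat := @Bool.rec (fun _ => Nat) (finTab_45) (finTab_46) (Nat.ble 46 c)
noncomputable def finTab_s_44_47 (c : Nat) : Nat := @Bool.rec (fun _ => Nat) (finTab_44) (finTab_s_45_47 c) (Nat.ble 45 c)
noncomputable def finTab_s_41_47 (c : Nat) : Nat := @Bool.rec (fun _ => Nat) (finTab_s_41_44 c) (finTab_s_44_47 c) (Nat.ble 44 c)
noncomputable def finTab_s_35_47 (c : Nat) : Nat := @Bool.rec (fun _ => Nat) (finTab_s_35_41 c) (finTab_s_41_47 c) (Nat.ble 41 c)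
noncomputable def finTab_s_23_47 (c : Nat) : Nat := @Bool.rec (fun _ => Nat) (finTab_s_23_35 c) (finTab_s_35_47 c) (Nat.ble 35 c)
noncomputable def finTab_s_0_47 (c : Nat) : Nat := @Bool.rec (fun _ => Nat) (finTab_s_0_23 c) (finTab_s_23_47 c) (Nat.ble 23 c)
noncomputable def finTab_s_48_50 (c : Nat) : Nat := @Bool.rec (fun _ => Nat) (finTab_48) (finTab_49) (Nat.ble 49 c)
noncomputable def finTab_s_47_50 (c : Nat) : Nat := @Bool.rec (fun _ => Nat) (finTab_47) (finTab_s_48_50 c) (Nat.ble 48 c)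
noncomputable def finTab_s_51_53 (c : Nat) : Nat := @Bool.rec (fun _ => Nat) (finTab_51) (finTab_52) (Nat.ble 52 c)
noncomputable def finTab_s_50_53 (c : Nat) : Nat := @Bool.rec (fun _ => Nat) (finTab_50) (finTab_s_51_53 c) (Nat.ble 51 c)
noncomputable def finTab_s_47_53 (c : Nat) : Nat := @Bool.rec (fun _ => Nat) (finTab_s_47_50 c) (finTab_s_50_53 c) (Nat.ble 50 c)
noncomputable def finTab_s_54_56 (c : Nat) : Nat := @Bool.rec (fun _ => Nat) (finTab_54) (finTab_55) (Nat.ble 55 c)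
noncomputable def finTab_s_53_56 (c : Nat) : Nat := @Bool.rec (fun _ => Nat) (finTab_53) (finTab_s_54_56 c) (Nat.ble 54 c)
noncomputable def finTab_s_57_59 (c : Nat) : Nat := @Bool.rec (fun _ => Nat) (finTab_57) (finTab_58) (Nat.ble 58 c)
noncomputable def finTab_s_56_59 (c : Nat) : Nat := @Bool.rec (fun _ => Nat) (finTab_56) (finTab_s_57_59 c) (Nat.ble 57 c)
noncomputable def finTab_s_53_59 (c : Nat) : Nat := @Bool.rec (fun _ => Nat) (finTab_s_53_56 c) (finTab_s_56_59 c) (Nat.ble 56 c)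
noncomputable def finTab_s_47_59 (c : Nat) : Nat := @Bool.rec (fun _ => Nat) (finTab_s_47_53 c) (finTab_s_53_59 c) (Nat.ble 53 c)
noncomputable def finTab_s_60_62 (c : Nat) : Nat := @Bool.rec (fun _ => Nat) (finTab_60) (finTab_61) (Nat.ble 61 c)
noncomputable def finTab_s_59_62 (c : Nat) : Nat := @Bool.rec (fun _ => Nat) (finTab_59) (finTab_s_60_62 c) (Nat.ble 60 c)
noncomputable def finTab_s_63_65 (c : Nat) : Nat := @Bool.rec (fun _ => Nat) (finTab_63) (finTab_64) (Nat.ble 64 c)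
noncomputable def finTab_s_62_65 (c : Nat) : Nat := @Bool.rec (fun _ => Nat) (finTab_62) (finTab_s_63_65 c) (Nat.ble 63 c)
noncomputable def finTab_s_59_65 (c : Nat) : Nat := @Bool.rec (fun _ => Nat) (finTab_s_59_62 c) (finTab_s_62_65 c) (Nat.ble 62 c)
noncomputable def finTab_s_66_68 (c : Nat) : Nat := @Bool.rec (fun _ => Nat) (finTab_66) (finTab_67) (Nat.ble 67 c)
noncomputable def finTab_s_65_68 (c : Nat) : Nat := @Bool.rec (fun _ => Nat) (finTab_65) (finTab_s_66_68 c) (Nat.ble 66 c)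
noncomputable def finTab_s_69_71 (c : Nat) : Nat := @Bool.rec (fun _ => Nat) (finTab_69) (finTab_70) (Nat.ble 70 c)
noncomputable def finTab_s_68_71 (c : Nat) : Nat := @Bool.rec (fun _ => Nat) (finTab_68) (finTab_s_69_71 c) (Nat.ble 69 c)
noncomputable def finTab_s_65_71 (c : Nat) : Nat := @Bool.rec (fun _ => Nat) (finTab_s_65_68 c) (finTab_s_68_71 c) (Nat.ble 68 c)
noncomputable def finTab_s_59_71 (c : Nat) : Nat := @Bool.rec (fun _ => Nat) (finTab_s_59_65 c) (finTab_s_65_71 c) (Nat.ble 65 c)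
noncomputable def finTab_s_47_71 (c : Nat) : Nat := @Bool.rec (fun _ => Nat) (finTab_s_47_59 c) (finTab_s_59_71 c) (Nat.ble 59 c)
noncomputable def finTab_s_72_74 (c : Nat) : Nat := @Bool.rec (fun _ => Nat) (finTab_72) (finTab_73) (Nat.ble 73 c)
noncomputable def finTab_s_71_74 (c : Nat) : Nat := @Bool.rec (fun _ => Nat) (finTab_71) (finTab_s_72_74 c) (Nat.ble 72 c)
noncomputable def finTab_s_75_77 (c : Nat) : Nat := @Bool.rec (fun _ => Nat) (finTab_75) (finTab_76) (Nat.ble 76 c)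
noncomputable def finTab_s_74_77 (c : Nat) : Nat := @Bool.rec (fun _ => Nat) (finTab_74) (finTab_s_75_77 c) (Nat.ble 75 c)
noncomputable def finTab_s_71_77 (c : Nat) : Nat := @Bool.rec (fun _ => Nat) (finTab_s_71_74 c) (finTab_s_74_77 c) (Nat.ble 74 c)
noncomputable def finTab_s_78_80 (c : Nat) : Nat := @Bool.rec (fun _ => Nat) (finTab_78) (finTab_79) (Nat.ble 79 c)
noncomputable def finTab_s_77_80 (c : Nat) : Nat := @Bool.rec (fun _ => Nat) (finTab_77) (finTab_s_78_80 c) (Nat.ble 78 c)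
noncomputable def finTab_s_81_83 (c : Nat) : Nat := @Bool.rec (fun _ => Nat) (finTab_81) (finTab_82) (Nat.ble 82 c)
noncomputable def finTab_s_80_83 (c : Nat) : Nat := @Bool.rec (fun _ => Nat) (finTab_80) (finTab_s_81_83 c) (Nat.ble 81 c)
noncomputable def finTab_s_77_83 (c : Nat) : Nat := @Bool.rec (fun _ => Nat) (finTab_s_77_80 c) (finTab_s_80_83 c) (Nat.ble 80 c)
noncomputable def finTab_s_71_83 (c : Nat) : Nat := @Bool.rec (fun _ => Nat) (finTab_s_71_77 c) (finTab_s_77_83 c) (Nat.ble 77 c)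
noncomputable def finTab_s_84_86 (c : Nat) : Nat := @Bool.rec (fun _ => Nat) (finTab_84) (finTab_85) (Nat.ble 85 c)
noncomputable def finTab_s_83_86 (c : Nat) : Nat := @Bool.rec (fun _ => Nat) (finTab_83) (finTab_s_84_86 c) (Nat.ble 84 c)
noncomputable def finTab_s_87_89 (c : Nat) : Nat := @Bool.rec (fun _ => Nat) (finTab_87) (finTab_88) (Nat.ble 88 c)
noncomputable def finTab_s_86_89 (c : Nat) : Nat := @Bool.rec (fun _ => Nat) (finTab_86) (finTab_s_87_89 c) (Nat.ble 87 c)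
noncomputable def finTab_s_83_89 (c : Nat) : Nat := @Bool.rec (fun _ => Nat) (finTab_s_83_86 c) (finTab_s_86_89 c) (Nat.ble 86 c)
noncomputable def finTab_s_90_92 (c : Nat) : Nat := @Bool.rec (fun _ => Nat) (finTab_90) (finTab_91) (Nat.ble 91 c)
noncomputable def finTab_s_89_92 (c : Nat) : Nat := @Bool.rec (fun _ => Nat) (finTab_89) (finTab_s_90_92 c) (Nat.ble 90 c)
noncomputable def finTab_s_93_95 (c : Nat) : Nat := @Bool.rec (fun _ => Nat) (finTab_93) (finTab_94) (Nat.ble 94 c)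
noncomputable def finTab_s_92_95 (c : Nat) : Nat := @Bool.rec (fun _ => Nat) (finTab_92) (finTab_s_93_95 c) (Nat.ble 93 c)
noncomputable def finTab_s_89_95 (c : Nat) : Nat := @Bool.rec (fun _ => Nat) (finTab_s_89_92 c) (finTab_s_92_95 c) (Nat.ble 92 c)
noncomputable def finTab_s_83_95 (c : Nat) : Nat := @Bool.rec (fun _ => Nat) (finTab_s_83_89 c) (finTab_s_89_95 c) (Nat.ble 89 c)
noncomputable def finTab_s_71_95 (c : Nat) : Nat := @Bool.rec (fun _ => Nat) (finTab_s_71_83 c) (finTab_s_83_95 c) (Nat.ble 83 c)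
noncomputable def finTab_s_47_95 (c : Nat) : Nat := @Bool.rec (fun _ => Nat) (finTab_s_47_71 c) (finTab_s_71_95 c) (Nat.ble 71 c)
noncomputable def finTab_s_0_95 (c : Nat) : Nat := @Bool.rec (fun _ => Nat) (finTab_s_0_47 c) (finTab_s_47_95 c) (Nat.ble 47 c)
noncomputable def finTab_s_95_97 (c : Nat) : Nat := @Bool.rec (fun _ => Nat) (finTab_95) (finTab_96) (Nat.ble 96 c)
noncomputable def finTab_s_98_100 (c : Nat) : Nat := @Bool.rec (fun _ => Nat) (finTab_98) (finTab_99) (Nat.ble 99 c)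
noncomputable def finTab_s_97_100 (c : Nat) : Nat := @Bool.rec (fun _ => Nat) (finTab_97) (finTab_s_98_100 c) (Nat.ble 98 c)
noncomputable def finTab_s_95_100 (c : Nat) : Nat := @Bool.rec (fun _ => Nat) (finTab_s_95_97 c) (finTab_s_97_100 c) (Nat.ble 97 c)
noncomputable def finTab_s_101_103 (c : Nat) : Nat := @Bool.rec (fun _ => Nat) (finTab_101) (finTab_102) (Nat.ble 102 c)
noncomputable def finTab_s_100_103 (c : Nat) : Nat := @Bool.rec (fun _ => Nat) (finTab_100) (finTab_s_101_103 c) (Nat.ble 101 c)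
noncomputable def finTab_s_104_106 (c : Nat) : Nat := @Bool.rec (fun _ => Nat) (finTab_104) (finTab_105) (Nat.ble 105 c)
noncomputable def finTab_s_103_106 (c : Nat) : Nat := @Bool.rec (fun _ => Nat) (finTab_103) (finTab_s_104_106 c) (Nat.ble 104 c)
noncomputable def finTab_s_100_106 (c : Nat) : Nat := @Bool.rec (fun _ => Nat) (finTab_s_100_103 c) (finTab_s_103_106 c) (Nat.ble 103 c)
noncomputable def finTab_s_95_106 (c : Nat) : Nat := @Bool.rec (fun _ => Nat) (finTab_s_95_100 c) (finTab_s_100_106 c) (Nat.ble 100 c)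
noncomputable def finTab_s_107_109 (c : Nat) : Nat := @Bool.rec (fun _ => Nat) (finTab_107) (finTab_108) (Nat.ble 108 c)
noncomputable def finTab_s_106_109 (c : Nat) : Nat := @Bool.rec (fun _ => Nat) (finTab_106) (finTab_s_107_109 c) (Nat.ble 107 c)
noncomputable def finTab_s_110_112 (c : Nat) : Nat := @Bool.rec (fun _ => Nat) (finTab_110) (finTab_111) (Nat.ble 111 c)
noncomputable def finTab_s_109_112 (c : Nat) : Nat := @Bool.rec (fun _ => Nat) (finTab_109) (finTab_s_110_112 c) (Nat.ble 110 c)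
noncomputable def finTab_s_106_112 (c : Nat) : Nat := @Bool.rec (fun _ => Nat) (finTab_s_106_109 c) (finTab_s_109_112 c) (Nat.ble 109 c)
noncomputable def finTab_s_113_115 (c : Nat) : Nat := @Bool.rec (fun _ => Nat) (finTab_113) (finTab_114) (Nat.ble 114 c)
noncomputable def finTab_s_112_115 (c : Nat) : Nat := @Bool.rec (fun _ => Nat) (finTab_112) (finTab_s_113_115 c) (Nat.ble 113 c)
noncomputable def finTab_s_116_118 (c : Nat) : Nat := @Bool.rec (fun _ => Nat) (finTab_116) (finTab_117) (Nat.ble 117 c)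
noncomputable def finTab_s_115_118 (c : Nat) : Nat := @Bool.rec (fun _ => Nat) (finTab_115) (finTab_s_116_118 c) (Nat.ble 116 c)
noncomputable def finTab_s_112_118 (c : Nat) : Nat := @Bool.rec (fun _ => Nat) (finTab_s_112_115 c) (finTab_s_115_118 c) (Nat.ble 115 c)
noncomputable def finTab_s_106_118 (c : Nat) : Nat := @Bool.rec (fun _ => Nat) (finTab_s_106_112 c) (finTab_s_112_118 c) (Nat.ble 112 c)
noncomputable def finTab_s_95_118 (c : Nat) : Nat := @Bool.rec (fun _ => Nat) (finTab_s_95_106 c) (finTab_s_106_118 c) (Nat.ble 106 c)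
noncomputable def finTab_s_119_121 (c : Nat) : Nat := @Bool.rec (fun _ => Nat) (finTab_119) (finTab_120) (Nat.ble 120 c)
noncomputable def finTab_s_118_121 (c : Nat) : Nat := @Bool.rec (fun _ => Nat) (finTab_118) (finTab_s_119_121 c) (Nat.ble 119 c)
noncomputable def finTab_s_122_124 (c : Nat) : Nat := @Bool.rec (fun _ => Nat) (finTab_122) (finTab_123) (Nat.ble 123 c)
noncomputable def finTab_s_121_124 (c : Nat) : Nat := @Bool.rec (fun _ => Nat) (finTab_121) (finTab_s_122_124 c) (Nat.ble 122 c)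
noncomputable def finTab_s_118_124 (c : Nat) : Nat := @Bool.rec (fun _ => Nat) (finTab_s_118_121 c) (finTab_s_121_124 c) (Nat.ble 121 c)
noncomputable def finTab_s_125_127 (c : Nat) : Nat := @Bool.rec (fun _ => Nat) (finTab_125) (finTab_126) (Nat.ble 126 c)
noncomputable def finTab_s_124_127 (c : Nat) : Nat := @Bool.rec (fun _ => Nat) (finTab_124) (finTab_s_125_127 c) (Nat.ble 125 c)
noncomputable def finTab_s_128_130 (c : Nat) : Nat := @Bool.rec (fun _ => Nat) (finTab_128) (finTab_129) (Nat.ble 129 c)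
noncomputable def finTab_s_127_130 (c : Nat) : Nat := @Bool.rec (fun _ => Nat) (finTab_127) (finTab_s_128_130 c) (Nat.ble 128 c)
noncomputable def finTab_s_124_130 (c : Nat) : Nat := @Bool.rec (fun _ => Nat) (finTab_s_124_127 c) (finTab_s_127_130 c) (Nat.ble 127 c)
noncomputable def finTab_s_118_130 (c : Nat) : Nat := @Bool.rec (fun _ => Nat) (finTab_s_118_124 c) (finTab_s_124_130 c) (Nat.ble 124 c)
noncomputable def finTab_s_131_133 (c : Nat) : Nat := @Bool.rec (fun _ => Nat) (finTab_131) (finTab_132) (Nat.ble 132 c)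
noncomputable def finTab_s_130_133 (c : Nat) : Nat := @Bool.rec (fun _ => Nat) (finTab_130) (finTab_s_131_133 c) (Nat.ble 131 c)
noncomputable def finTab_s_134_136 (c : Nat) : Nat := @Bool.rec (fun _ => Nat) (finTab_134) (finTab_135) (Nat.ble 135 c)
noncomputable def finTab_s_133_136 (c : Nat) : Nat := @Bool.rec (fun _ => Nat) (finTab_133) (finTab_s_134_136 c) (Nat.ble 134 c)
noncomputable def finTab_s_130_136 (c : Nat) : Nat := @Bool.rec (fun _ => Nat) (finTab_s_130_133 c) (finTab_s_133_136 c) (Nat.ble 133 c)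
noncomputable def finTab_s_137_139 (c : Nat) : Nat := @Bool.rec (fun _ => Nat) (finTab_137) (finTab_138) (Nat.ble 138 c)
noncomputable def finTab_s_136_139 (c : Nat) : Nat := @Bool.rec (fun _ => Nat) (finTab_136) (finTab_s_137_139 c) (Nat.ble 137 c)
noncomputable def finTab_s_140_142 (c : Nat) : Nat := @Bool.rec (fun _ => Nat) (finTab_140) (finTab_141) (Nat.ble 141 c)
noncomputable def finTab_s_139_142 (c : Nat) : Nat := @Bool.rec (fun _ => Nat) (finTab_139) (finTab_s_140_142 c) (Nat.ble 140 c)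
noncomputable def finTab_s_136_142 (c : Nat) : Nat := @Bool.rec (fun _ => Nat) (finTab_s_136_139 c) (finTab_s_139_142 c) (Nat.ble 139 c)
noncomputable def finTab_s_130_142 (c : Nat) : Nat := @Bool.rec (fun _ => Nat) (finTab_s_130_136 c) (finTab_s_136_142 c) (Nat.ble 136 c)
noncomputable def finTab_s_118_142 (c : Nat) : Nat := @Bool.rec (fun _ => Nat) (finTab_s_118_130 c) (finTab_s_130_142 c) (Nat.ble 130 c)
noncomputable def finTab_s_95_142 (c : Nat) : Nat := @Bool.rec (fun _ => Nat) (finTab_s_95_118 c) (finTab_s_118_142 c) (Nat.ble 118 c)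
noncomputable def finTab_s_143_145 (c : Nat) : Nat := @Bool.rec (fun _ => Nat) (finTab_143) (finTab_144) (Nat.ble 144 c)
noncomputable def finTab_s_142_145 (c : Nat) : Nat := @Bool.rec (fun _ => Nat) (finTab_142) (finTab_s_143_145 c) (Nat.ble 143 c)
noncomputable def finTab_s_146_148 (c : Nat) : Nat := @Bool.rec (fun _ => Nat) (finTab_146) (finTab_147) (Nat.ble 147 c)
noncomputable def finTab_s_145_148 (c : Nat) : Nat := @Bool.rec (fun _ => Nat) (finTab_145) (finTab_s_146_148 c) (Nat.ble 146 c)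
noncomputable def finTab_s_142_148 (c : Nat) : Nat := @Bool.rec (fun _ => Nat) (finTab_s_142_145 c) (finTab_s_145_148 c) (Nat.ble 145 c)
noncomputable def finTab_s_149_151 (c : Nat) : Nat := @Bool.rec (fun _ => Nat) (finTab_149) (finTab_150) (Nat.ble 150 c)
noncomputable def finTab_s_148_151 (c : Nat) : Nat := @Bool.rec (fun _ => Nat) (finTab_148) (finTab_s_149_151 c) (Nat.ble 149 c)
noncomputable def finTab_s_152_154 (c : Nat) : Nat := @Bool.rec (fun _ => Nat) (finTab_152) (finTab_153) (Nat.ble 153 c)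
noncomputable def finTab_s_151_154 (c : Nat) : Nat := @Bool.rec (fun _ => Nat) (finTab_151) (finTab_s_152_154 c) (Nat.ble 152 c)
noncomputable def finTab_s_148_154 (c : Nat) : Nat := @Bool.rec (fun _ => Nat) (finTab_s_148_151 c) (finTab_s_151_154 c) (Nat.ble 151 c)
noncomputable def finTab_s_142_154 (c : Nat) : Nat := @Bool.rec (fun _ => Nat) (finTab_s_142_148 c) (finTab_s_148_154 c) (Nat.ble 148 c)
noncomputable def finTab_s_155_157 (c : Nat) : Nat := @Bool.rec (fun _ => Nat) (finTab_155) (finTab_156) (Nat.ble 156 c)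
noncomputable def finTab_s_154_157 (c : Nat) : Nat := @Bool.rec (fun _ => Nat) (finTab_154) (finTab_s_155_157 c) (Nat.ble 155 c)
noncomputable def finTab_s_158_160 (c : Nat) : Nat := @Bool.rec (fun _ => Nat) (finTab_158) (finTab_159) (Nat.ble 159 c)
noncomputable def finTab_s_157_160 (c : Nat) : Nat := @Bool.rec (fun _ => Nat) (finTab_157) (finTab_s_158_160 c) (Nat.ble 158 c)
noncomputable def finTab_s_154_160 (c : Nat) : Nat := @Bool.rec (fun _ => Nat) (finTab_s_154_157 c) (finTab_s_157_160 c) (Nat.ble 157 c)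
noncomputable def finTab_s_161_163 (c : Nat) : Nat := @Bool.rec (fun _ => Nat) (finTab_161) (finTab_162) (Nat.ble 162 c)
noncomputable def finTab_s_160_163 (c : Nat) : Nat := @Bool.rec (fun _ => Nat) (finTab_160) (finTab_s_161_163 c) (Nat.ble 161 c)
noncomputable def finTab_s_164_166 (c : Nat) : Nat := @Bool.rec (fun _ => Nat) (finTab_164) (finTab_165) (Nat.ble 165 c)
noncomputable def finTab_s_163_166 (c : Nat) : Nat := @Bool.rec (fun _ => Nat) (finTab_163) (finTab_s_164_166 c) (Nat.ble 164 c)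
noncomputable def finTab_s_160_166 (c : Nat) : Nat := @Bool.rec (fun _ => Nat) (finTab_s_160_163 c) (finTab_s_163_166 c) (Nat.ble 163 c)
noncomputable def finTab_s_154_166 (c : Nat) : Nat := @Bool.rec (fun _ => Nat) (finTab_s_154_160 c) (finTab_s_160_166 c) (Nat.ble 160 c)
noncomputable def finTab_s_142_166 (c : Nat) : Nat := @Bool.rec (fun _ => Nat) (finTab_s_142_154 c) (finTab_s_154_166 c) (Nat.ble 154 c)
noncomputable def finTab_s_167_169 (c : Nat) : Nat := @Bool.rec (fun _ => Nat) (finTab_167) (finTab_168) (Nat.ble 168 c)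
noncomputable def finTab_s_166_169 (c : Nat) : Nat := @Bool.rec (fun _ => Nat) (finTab_166) (finTab_s_167_169 c) (Nat.ble 167 c)
noncomputable def finTab_s_170_172 (c : Nat) : Nat := @Bool.rec (fun _ => Nat) (finTab_170) (finTab_171) (Nat.ble 171 c)
noncomputable def finTab_s_169_172 (c : Nat) : Nat := @Bool.rec (fun _ => Nat) (finTab_169) (finTab_s_170_172 c) (Nat.ble 170 c)
noncomputable def finTab_s_166_172 (c : Nat) : Nat := @Bool.rec (fun _ => Nat) (finTab_s_166_169 c) (finTab_s_169_172 c) (Nat.ble 169 c)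
noncomputable def finTab_s_173_175 (c : Nat) : Nat := @Bool.rec (fun _ => Nat) (finTab_173) (finTab_174) (Nat.ble 174 c)
noncomputable def finTab_s_172_175 (c : Nat) : Nat := @Bool.rec (fun _ => Nat) (finTab_172) (finTab_s_173_175 c) (Nat.ble 173 c)
noncomputable def finTab_s_176_178 (c : Nat) : Nat := @Bool.rec (fun _ => Nat) (finTab_176) (finTab_177) (Nat.ble 177 c)
noncomputable def finTab_s_175_178 (c : Nat) : Nat := @Bool.rec (fun _ => Nat) (finTab_175) (finTab_s_176_178 c) (Nat.ble 176 c)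
noncomputable def finTab_s_172_178 (c : Nat) : Nat := @Bool.rec (fun _ => Nat) (finTab_s_172_175 c) (finTab_s_175_178 c) (Nat.ble 175 c)
noncomputable def finTab_s_166_178 (c : Nat) : Nat := @Bool.rec (fun _ => Nat) (finTab_s_166_172 c) (finTab_s_172_178 c) (Nat.ble 172 c)
noncomputable def finTab_s_179_181 (c : Nat) : Nat := @Bool.rec (fun _ => Nat) (finTab_179) (finTab_180) (Nat.ble 180 c)
noncomputable def finTab_s_178_181 (c : Nat) : Nat := @Bool.rec (fun _ => Nat) (finTab_178) (finTab_s_179_181 c) (Nat.ble 179 c)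
noncomputable def finTab_s_182_184 (c : Nat) : Nat := @Bool.rec (fun _ => Nat) (finTab_182) (finTab_183) (Nat.ble 183 c)
noncomputable def finTab_s_181_184 (c : Nat) : Nat := @Bool.rec (fun _ => Nat) (finTab_181) (finTab_s_182_184 c) (Nat.ble 182 c)
noncomputable def finTab_s_178_184 (c : Nat) : Nat := @Bool.rec (fun _ => Nat) (finTab_s_178_181 c) (finTab_s_181_184 c) (Nat.ble 181 c)
noncomputable def finTab_s_185_187 (c : Nat) : Nat := @Bool.rec (fun _ => Nat) (finTab_185) (finTab_186) (Nat.ble 186 c)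
noncomputable def finTab_s_184_187 (c : Nat) : Nat := @Bool.rec (fun _ => Nat) (finTab_184) (finTab_s_185_187 c) (Nat.ble 185 c)
noncomputable def finTab_s_188_190 (c : Nat) : Nat := @Bool.rec (fun _ => Nat) (finTab_188) (finTab_189) (Nat.ble 189 c)
noncomputable def finTab_s_187_190 (c : Nat) : Nat := @Bool.rec (fun _ => Nat) (finTab_187) (finTab_s_188_190 c) (Nat.ble 188 c)
noncomputable def finTab_s_184_190 (c : Nat) : Nat := @Bool.rec (fun _ => Nat) (finTab_s_184_187 c) (finTab_s_187_190 c) (Nat.ble 187 c)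
noncomputable def finTab_s_178_190 (c : Nat) : Nat := @Bool.rec (fun _ => Nat) (finTab_s_178_184 c) (finTab_s_184_190 c) (Nat.ble 184 c)
noncomputable def finTab_s_166_190 (c : Nat) : Nat := @Bool.rec (fun _ => Nat) (finTab_s_166_178 c) (finTab_s_178_190 c) (Nat.ble 178 c)
noncomputable def finTab_s_142_190 (c : Nat) : Nat := @Bool.rec (fun _ => Nat) (finTab_s_142_166 c) (finTab_s_166_190 c) (Nat.ble 166 c)
noncomputable def finTab_s_95_190 (c : Nat) : Nat := @Bool.rec (fun _ => Nat) (finTab_s_95_142 c) (finTab_s_142_190 c) (Nat.ble 142 c)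
noncomputable def finTab_s_0_190 (c : Nat) : Nat := @Bool.rec (fun _ => Nat) (finTab_s_0_95 c) (finTab_s_95_190 c) (Nat.ble 95 c)
noncomputable def finTab (i : Nat) : Nat := rdw 20 1048575 (finTab_s_0_190 (Nat.shiftRight i 12)) (Nat.land i 4095)
noncomputable def clsTab_s_0_2 (c : Nat) : Nat := @Bool.rec (fun _ => Nat) (clsTab_0) (clsTab_1) (Nat.ble 1 c)
noncomputable def clsTab_s_2_4 (c : Nat) : Nat := @Bool.rec (fun _ => Nat) (clsTab_2) (clsTab_3) (Nat.ble 3 c)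
noncomputable def clsTab_s_0_4 (c : Nat) : Nat := @Bool.rec (fun _ => Nat) (clsTab_s_0_2 c) (clsTab_s_2_4 c) (Nat.ble 2 c)
noncomputable def clsTab_s_4_6 (c : Nat) : Nat := @Bool.rec (fun _ => Nat) (clsTab_4) (clsTab_5) (Nat.ble 5 c)
noncomputable def clsTab_s_6_8 (c : Nat) : Nat := @Bool.rec (fun _ => Nat) (clsTab_6) (clsTab_7) (Nat.ble 7 c)
noncomputable def clsTab_s_4_8 (c : Nat) : Nat := @Bool.rec (fun _ => Nat) (clsTab_s_4_6 c) (clsTab_s_6_8 c) (Nat.ble 6 c)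
noncomputable def clsTab_s_0_8 (c : Nat) : Nat := @Bool.rec (fun _ => Nat) (clsTab_s_0_4 c) (clsTab_s_4_8 c) (Nat.ble 4 c)
noncomputable def clsTab_s_8_10 (c : Nat) : Nat := @Bool.rec (fun _ => Nat) (clsTab_8) (clsTab_9) (Nat.ble 9 c)
noncomputable def clsTab_s_10_12 (c : Nat) : Nat := @Bool.rec (fun _ => Nat) (clsTab_10) (clsTab_11) (Nat.ble 11 c)
noncomputable def clsTab_s_8_12 (c : Nat) : Nat := @Bool.rec (fun _ => Nat) (clsTab_s_8_10 c) (clsTab_s_10_12 c) (Nat.ble 10 c)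
noncomputable def clsTab_s_12_14 (c : Nat) : Nat := @Bool.rec (fun _ => Nat) (clsTab_12) (clsTab_13) (Nat.ble 13 c)
noncomputable def clsTab_s_14_16 (c : Nat) : Nat := @Bool.rec (fun _ => Nat) (clsTab_14) (clsTab_15) (Nat.ble 15 c)
noncomputable def clsTab_s_12_16 (c : Nat) : Nat := @Bool.rec (fun _ => Nat) (clsTab_s_12_14 c) (clsTab_s_14_16 c) (Nat.ble 14 c)
noncomputable def clsTab_s_8_16 (c : Nat) : Nat := @Bool.rec (fun _ => Nat) (clsTab_s_8_12 c) (clsTab_s_12_16 c) (Nat.ble 12 c)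
noncomputable def clsTab_s_0_16 (c : Nat) : Nat := @Bool.rec (fun _ => Nat) (clsTab_s_0_8 c) (clsTab_s_8_16 c) (Nat.ble 8 c)
noncomputable def clsTab (i : Nat) : Nat := rdw 16 65535 (clsTab_s_0_16 (Nat.shiftRight i 12)) (Nat.land i 4095)
noncomputable def oparTab_s_1_3 (c : Nat) : Nat := @Bool.rec (fun _ => Nat) (oparTab_1) (oparTab_2) (Nat.ble 2 c)
noncomputable def oparTab_s_0_3 (c : Nat) : Nat := @Bool.rec (fun _ => Nat) (oparTab_0) (oparTab_s_1_3 c) (Nat.ble 1 c)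
noncomputable def oparTab_s_4_6 (c : Nat) : Nat := @Bool.rec (fun _ => Nat) (oparTab_4) (oparTab_5) (Nat.ble 5 c)
noncomputable def oparTab_s_3_6 (c : Nat) : Nat := @Bool.rec (fun _ => Nat) (oparTab_3) (oparTab_s_4_6 c) (Nat.ble 4 c)
noncomputable def oparTab_s_0_6 (c : Nat) : Nat := @Bool.rec (fun _ => Nat) (oparTab_s_0_3 c) (oparTab_s_3_6 c) (Nat.ble 3 c)
noncomputable def oparTab_s_7_9 (c : Nat) : Nat := @Bool.rec (fun _ => Nat) (oparTab_7) (oparTab_8) (Nat.ble 8 c)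
noncomputable def oparTab_s_6_9 (c : Nat) : Nat := @Bool.rec (fun _ => Nat) (oparTab_6) (oparTab_s_7_9 c) (Nat.ble 7 c)
noncomputable def oparTab_s_10_12 (c : Nat) : Nat := @Bool.rec (fun _ => Nat) (oparTab_10) (oparTab_11) (Nat.ble 11 c)
noncomputable def oparTab_s_9_12 (c : Nat) : Nat := @Bool.rec (fun _ => Nat) (oparTab_9) (oparTab_s_10_12 c) (Nat.ble 10 c)
noncomputable def oparTab_s_6_12 (c : Nat) : Nat := @Bool.rec (fun _ => Nat) (oparTab_s_6_9 c) (oparTab_s_9_12 c) (Nat.ble 9 c)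
noncomputable def oparTab_s_0_12 (c : Nat) : Nat := @Bool.rec (fun _ => Nat) (oparTab_s_0_6 c) (oparTab_s_6_12 c) (Nat.ble 6 c)
noncomputable def oparTab (i : Nat) : Nat := rdw 16 65535 (oparTab_s_0_12 (Nat.shiftRight i 12)) (Nat.land i 4095)
noncomputable def olabTab_s_0_2 (c : Nat) : Nat := @Bool.rec (fun _ => Nat) (olabTab_0) (olabTab_1) (Nat.ble 1 c)
noncomputable def olabTab (i : Nat) : Nat := rdw 2 3 (olabTab_s_0_2 (Nat.shiftRight i 15)) (Nat.land i 32767)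
noncomputable def srcF (t : Nat) : Nat := Nat.land (Atab t) 65535
noncomputable def tgtF (t : Nat) : Nat := Nat.land (Nat.shiftRight (Atab t) 16) 65535
noncomputable def ltF (t : Nat) : Nat := Nat.shiftRight (Atab t) 32
noncomputable def rhoF (t : Nat) : Nat := Nat.land (Btab (Nat.sub t 65155)) 255
noncomputable def rotF (t : Nat) : Nat := Nat.land (Nat.shiftRight (Btab (Nat.sub t 65155)) 8) 31
noncomputable def lenF (t : Nat) : Nat := Nat.land (Nat.shiftRight (Btab (Nat.sub t 65155)) 13) 63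
noncomputable def offF (t : Nat) : Nat := Nat.shiftRight (Btab (Nat.sub t 65155)) 19
noncomputable def pfF (j : Nat) : Nat := Nat.shiftRight (Ptab j) 1
noncomputable def pdF (j : Nat) : Nat := Nat.land (Ptab j) 1
noncomputable def tblF (i x : Nat) : Nat := @Bool.rec (fun _ => Nat) (@Bool.rec (fun _ => Nat) (@Bool.rec (fun _ => Nat) (@Bool.rec (fun _ => Nat) (col0 i) (col1 i) (Nat.ble 1 x)) (@Bool.rec (fun _ => Nat) (col2 i) (col3 i) (Nat.ble 3 x)) (Nat.ble 2 x)) (@Bool.rec (fun _ => Nat) (@Bool.rec (fun _ => Nat) (col4 i) (col5 i) (Nat.ble 5 x)) (@Bool.rec (fun _ => Nat) (col6 i) (col7 i) (Nat.ble 7 x)) (Nat.ble 6 x)) (Nat.ble 4 x)) (@Bool.rec (fun _ => Nat) (@Bool.rec (fun _ => Nat) (@Bool.rec (fun _ => Nat) (col8 i) (col9 i) (Nat.ble 9 x)) (@Bool.rec (fun _ => Nat) (col10 i) (col11 i) (Nat.ble 11 x)) (Nat.ble 10 x)) (@Bool.rec (fun _ => Nat) (@Bool.rec (fun _ => Nat) (col12 i) (col13 i) (Nat.ble 13 x)) (@Bool.rec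 (fun _ => Nat) (col14 i) (col15 i) (Nat.ble 15 x)) (Nat.ble 14 x)) (Nat.ble 12 x)) (Nat.ble 8 x)
noncomputable def finE (i x : Nat) : Nat := finTab (Nat.add (Nat.mul i 16) x)
noncomputable def finFF (i x : Nat) : Nat := Nat.shiftRight (finE i x) 1
noncomputable def finDF (i x : Nat) : Nat := Nat.land (finE i x) 1

noncomputable def D : Log :=
  { k := 16, inv := invE 16 PSCo3pp3.invR, nR := 134, rBase := rBtab, rLen := rLtab, RR := RRtab,
    M := 65149, nB := 6, F := 461708, src := srcF, lt := ltF, tgt := tgtF, rho := rhoF, rot := rotF,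
    off := offF, len := lenF, pf := pfF, pd := pdF }

noncomputable def T : Tab :=
  { N := 48600, nameOf := nameTab, tbl := tblF, finF := finFF, finD := finDF, cls := clsTab }

def subs : List (List Nat) := [
  [0],
  [2],
  [4] ]

def rw0 : List Nat := [0, 0]
def rw1 : List Nat := [2, 2, 2, 2]
def rw2 : List Nat := [4, 4, 4, 4, 4, 4, 4, 4, 4, 4, 4, 4, 4, 4, 4, 4, 4, 4, 4, 4, 4, 4, 4]
def rw3 : List Nat := [6, 6]
def rw4 : List Nat := [9, 0, 2, 0, 2, 2, 0, 2, 0, 2, 2, 0, 2, 5, 0, 6, 5, 6, 5, 0, 6, 3]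
def rw5 : List Nat := [11, 0, 2, 0, 2, 5, 3, 5, 0, 6, 5, 0, 4, 6, 2, 2, 0, 2, 2, 0, 3, 0, 2, 2]
def rw6 : List Nat := [13, 0, 2, 0, 3, 3, 0, 2, 0, 3, 3, 0, 6, 5, 2, 5, 0, 3, 3, 6, 0, 4, 4, 2, 5]
def rw7 : List Nat := [15, 0, 2, 0, 2, 0, 3, 3, 0, 3, 3, 6, 4, 0, 3, 5, 0, 6, 3, 4, 3, 5, 0, 4, 3, 3, 0, 3]
def rw8 : List Nat := [8, 8, 8]
def rw9 : List Nat := [10, 10, 10]
def rw10 : List Nat := [12, 12, 12]
def rw11 : List Nat := [14, 14, 14]
def rw12 : List Nat := [8, 0, 9, 1]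
def rw13 : List Nat := [8, 2, 9, 3]
def rw14 : List Nat := [8, 4, 9, 5]
def rw15 : List Nat := [8, 6, 9, 7]
def rw16 : List Nat := [10, 0, 11, 1]
def rw17 : List Nat := [10, 2, 11, 3]
def rw18 : List Nat := [10, 4, 11, 5]
def rw19 : List Nat := [10, 6, 11, 7]
def rw20 : List Nat := [12, 0, 13, 1]
def rw21 : List Nat := [12, 2, 13, 3]
def rw22 : List Nat := [12, 4, 13, 5]
def rw23 : List Nat := [12, 6, 13, 7]
def rw24 : List Nat := [14, 0, 15, 1]
def rw25 : List Nat := [14, 2, 15, 3]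
def rw26 : List Nat := [14, 4, 15, 5]
def rw27 : List Nat := [14, 6, 15, 7]
def rw28 : List Nat := [0, 0]
def rw29 : List Nat := [2, 2, 2, 2]
def rw30 : List Nat := [0, 2, 0, 2, 0, 2, 0, 2, 0, 2, 0, 2, 0, 2, 0, 2, 0, 2, 0, 2, 0, 2]
def rw31 : List Nat := [0, 2, 2, 0, 2, 2, 0, 2, 2, 0, 2, 2, 0, 2, 2, 0, 2, 2]
def rw32 : List Nat := [0, 2, 0, 2, 0, 3, 0, 2, 0, 2, 2, 0, 3, 0, 2, 0, 3, 0, 3]
def rw33 : List Nat := [4, 4, 4, 4, 4, 4, 4, 4, 4, 4, 4, 4, 4, 4, 4, 4, 4, 4, 4, 4, 4, 4, 4]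
def rw34 : List Nat := [0, 2, 4, 3, 1, 5, 5]
def rw35 : List Nat := [0, 4, 0, 4, 3, 4, 0, 4, 4, 3, 5, 5]
def rw36 : List Nat := [0, 4, 0, 5, 0, 4, 0, 5, 1, 4, 1, 5]
def rw37 : List Nat := [0, 2, 0, 4, 4, 2, 0, 4, 4, 2, 5, 3, 5, 2, 2]
def rw38 : List Nat := [0, 2, 5, 0, 4, 2, 5, 5, 1, 5, 1, 4, 2, 2, 5]
def rw39 : List Nat := [0, 3, 5, 1, 4, 3, 4, 3, 3, 5, 0, 4, 3, 4, 3]
def rw40 : List Nat := [6, 2, 4, 4, 0, 5, 0, 3, 0, 7, 2, 4, 4, 1, 5, 1, 3, 1]
def rw41 : List Nat := [6, 0, 2, 0, 4, 0, 5, 5, 3, 7, 1, 2, 1, 4, 2, 5, 3, 1, 3]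
def rw42 : List Nat := [6, 4, 2, 0, 5, 5, 0, 3, 0, 3, 7, 4, 3, 3, 5, 3, 3, 1, 3]
def rw43 : List Nat := [6, 5, 0, 4, 7, 1, 4, 2, 4, 3, 1, 3, 1, 3, 3, 1, 2, 1, 3, 3, 1, 3, 3]
def rw44 : List Nat := [6, 2, 4, 4, 4, 3, 3, 5, 5, 5, 3, 7, 5, 3, 3, 5, 5, 1, 5, 3, 3, 1, 2]
def rw45 : List Nat := [6, 2, 2, 0, 2, 2, 0, 3, 0, 2, 2, 0, 2, 0, 2, 5, 3, 5, 0, 7, 5, 1, 4]
def rw46 : List Nat := [6, 3, 5, 5, 0, 5, 3, 5, 3, 7, 3, 5, 5, 1, 4, 3, 1, 3, 3, 1, 2, 1, 3, 3]
def rw47 : List Nat := [6, 0, 2, 5, 5, 0, 4, 4, 3, 0, 7, 3, 4, 3, 4, 2, 1, 3, 1, 3, 3, 1, 3, 3]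
def realLit : List (List Nat) := [rw0, rw1, rw2, rw3, rw4, rw5, rw6, rw7, rw8, rw9, rw10, rw11, rw12, rw13, rw14, rw15, rw16, rw17, rw18, rw19, rw20, rw21, rw22, rw23, rw24, rw25, rw26, rw27, rw28, rw29, rw30, rw31, rw32, rw33, rw34, rw35, rw36, rw37, rw38, rw39, rw40, rw41, rw42, rw43, rw44, rw45, rw46, rw47]
noncomputable def actR0 (i : Nat) : Nat := col1 (col1 (i))
theorem actR0_eq (i : Nat) : actR0 i = Tab.act T D rw0 i := rfl
noncomputable def actR1 (i : Nat) : Nat := col3 (col3 (col3 (col3 (i))))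
theorem actR1_eq (i : Nat) : actR1 i = Tab.act T D rw1 i := rfl
noncomputable def actR2 (i : Nat) : Nat := col5 (col5 (col5 (col5 (col5 (col5 (col5 (col5 (col5 (col5 (col5 (col5 (col5 (col5 (col5 (col5 (col5 (col5 (col5 (col5 (col5 (col5 (col5 (i)))))))))))))))))))))))
theorem actR2_eq (i : Nat) : actR2 i = Tab.act T D rw2 i := rfl
noncomputable def actR3 (i : Nat) : Nat := col7 (col7 (i))
theorem actR3_eq (i : Nat) : actR3 i = Tab.act T D rw3 i := rfl
noncomputable def actR4 (i : Nat) : Nat := col8 (col1 (col3 (col1 (col3 (col3 (col1 (col3 (col1 (col3 (col3 (col1 (col3 (col4 (col1 (col7 (col4 (col7 (col4 (col1 (col7 (col2 (i))))))))))))))))))))))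
theorem actR4_eq (i : Nat) : actR4 i = Tab.act T D rw4 i := rfl
noncomputable def actR5 (i : Nat) : Nat := col10 (col1 (col3 (col1 (col3 (col4 (col2 (col4 (col1 (col7 (col4 (col1 (col5 (col7 (col3 (col3 (col1 (col3 (col3 (col1 (col2 (col1 (col3 (col3 (i))))))))))))))))))))))))
theorem actR5_eq (i : Nat) : actR5 i = Tab.act T D rw5 i := rfl
noncomputable def actR6 (i : Nat) : Nat := col12 (col1 (col3 (col1 (col2 (col2 (col1 (col3 (col1 (col2 (col2 (col1 (col7 (col4 (col3 (col4 (col1 (col2 (col2 (col7 (col1 (col5 (col5 (col3 (col4 (i)))))))))))))))))))))))))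
theorem actR6_eq (i : Nat) : actR6 i = Tab.act T D rw6 i := rfl
noncomputable def actR7 (i : Nat) : Nat := col14 (col1 (col3 (col1 (col3 (col1 (col2 (col2 (col1 (col2 (col2 (col7 (col5 (col1 (col2 (col4 (col1 (col7 (col2 (col5 (col2 (col4 (col1 (col5 (col2 (col2 (col1 (col2 (i))))))))))))))))))))))))))))
theorem actR7_eq (i : Nat) : actR7 i = Tab.act T D rw7 i := rfl
noncomputable def actR8 (i : Nat) : Nat := col9 (col9 (col9 (i)))
theorem actR8_eq (i : Nat) : actR8 i = Tab.act T D rw8 i := rfl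
noncomputable def actR9 (i : Nat) : Nat := col11 (col11 (col11 (i)))
theorem actR9_eq (i : Nat) : actR9 i = Tab.act T D rw9 i := rfl
noncomputable def actR10 (i : Nat) : Nat := col13 (col13 (col13 (i)))
theorem actR10_eq (i : Nat) : actR10 i = Tab.act T D rw10 i := rfl
noncomputable def actR11 (i : Nat) : Nat := col15 (col15 (col15 (i)))
theorem actR11_eq (i : Nat) : actR11 i = Tab.act T D rw11 i := rfl
noncomputable def actR12 (i : Nat) : Nat := col9 (col1 (col8 (col0 (i))))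
theorem actR12_eq (i : Nat) : actR12 i = Tab.act T D rw12 i := rfl
noncomputable def actR13 (i : Nat) : Nat := col9 (col3 (col8 (col2 (i))))
theorem actR13_eq (i : Nat) : actR13 i = Tab.act T D rw13 i := rfl
noncomputable def actR14 (i : Nat) : Nat := col9 (col5 (col8 (col4 (i))))
theorem actR14_eq (i : Nat) : actR14 i = Tab.act T D rw14 i := rfl
noncomputable def actR15 (i : Nat) : Nat := col9 (col7 (col8 (col6 (i))))
theorem actR15_eq (i : Nat) : actR15 i = Tab.act T D rw15 i := rfl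
noncomputable def actR16 (i : Nat) : Nat := col11 (col1 (col10 (col0 (i))))
theorem actR16_eq (i : Nat) : actR16 i = Tab.act T D rw16 i := rfl
noncomputable def actR17 (i : Nat) : Nat := col11 (col3 (col10 (col2 (i))))
theorem actR17_eq (i : Nat) : actR17 i = Tab.act T D rw17 i := rfl
noncomputable def actR18 (i : Nat) : Nat := col11 (col5 (col10 (col4 (i))))
theorem actR18_eq (i : Nat) : actR18 i = Tab.act T D rw18 i := rfl
noncomputable def actR19 (i : Nat) : Nat := col11 (col7 (col10 (col6 (i))))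
theorem actR19_eq (i : Nat) : actR19 i = Tab.act T D rw19 i := rfl
noncomputable def actR20 (i : Nat) : Nat := col13 (col1 (col12 (col0 (i))))
theorem actR20_eq (i : Nat) : actR20 i = Tab.act T D rw20 i := rfl
noncomputable def actR21 (i : Nat) : Nat := col13 (col3 (col12 (col2 (i))))
theorem actR21_eq (i : Nat) : actR21 i = Tab.act T D rw21 i := rfl
noncomputable def actR22 (i : Nat) : Nat := col13 (col5 (col12 (col4 (i))))
theorem actR22_eq (i : Nat) : actR22 i = Tab.act T D rw22 i := rfl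
noncomputable def actR23 (i : Nat) : Nat := col13 (col7 (col12 (col6 (i))))
theorem actR23_eq (i : Nat) : actR23 i = Tab.act T D rw23 i := rfl
noncomputable def actR24 (i : Nat) : Nat := col15 (col1 (col14 (col0 (i))))
theorem actR24_eq (i : Nat) : actR24 i = Tab.act T D rw24 i := rfl
noncomputable def actR25 (i : Nat) : Nat := col15 (col3 (col14 (col2 (i))))
theorem actR25_eq (i : Nat) : actR25 i = Tab.act T D rw25 i := rfl
noncomputable def actR26 (i : Nat) : Nat := col15 (col5 (col14 (col4 (i))))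
theorem actR26_eq (i : Nat) : actR26 i = Tab.act T D rw26 i := rfl
noncomputable def actR27 (i : Nat) : Nat := col15 (col7 (col14 (col6 (i))))
theorem actR27_eq (i : Nat) : actR27 i = Tab.act T D rw27 i := rfl
noncomputable def actR28 (i : Nat) : Nat := col1 (col1 (i))
theorem actR28_eq (i : Nat) : actR28 i = Tab.act T D rw28 i := rfl
noncomputable def actR29 (i : Nat) : Nat := col3 (col3 (col3 (col3 (i))))
theorem actR29_eq (i : Nat) : actR29 i = Tab.act T D rw29 i := rfl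
noncomputable def actR30 (i : Nat) : Nat := col1 (col3 (col1 (col3 (col1 (col3 (col1 (col3 (col1 (col3 (col1 (col3 (col1 (col3 (col1 (col3 (col1 (col3 (col1 (col3 (col1 (col3 (i))))))))))))))))))))))
theorem actR30_eq (i : Nat) : actR30 i = Tab.act T D rw30 i := rfl
noncomputable def actR31 (i : Nat) : Nat := col1 (col3 (col3 (col1 (col3 (col3 (col1 (col3 (col3 (col1 (col3 (col3 (col1 (col3 (col3 (col1 (col3 (col3 (i))))))))))))))))))
theorem actR31_eq (i : Nat) : actR31 i = Tab.act T D rw31 i := rfl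
noncomputable def actR32 (i : Nat) : Nat := col1 (col3 (col1 (col3 (col1 (col2 (col1 (col3 (col1 (col3 (col3 (col1 (col2 (col1 (col3 (col1 (col2 (col1 (col2 (i)))))))))))))))))))
theorem actR32_eq (i : Nat) : actR32 i = Tab.act T D rw32 i := rfl
noncomputable def actR33 (i : Nat) : Nat := col5 (col5 (col5 (col5 (col5 (col5 (col5 (col5 (col5 (col5 (col5 (col5 (col5 (col5 (col5 (col5 (col5 (col5 (col5 (col5 (col5 (col5 (col5 (i)))))))))))))))))))))))
theorem actR33_eq (i : Nat) : actR33 i = Tab.act T D rw33 i := rfl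
noncomputable def actR34 (i : Nat) : Nat := col1 (col3 (col5 (col2 (col0 (col4 (col4 (i)))))))
theorem actR34_eq (i : Nat) : actR34 i = Tab.act T D rw34 i := rfl
noncomputable def actR35 (i : Nat) : Nat := col1 (col5 (col1 (col5 (col2 (col5 (col1 (col5 (col5 (col2 (col4 (col4 (i))))))))))))
theorem actR35_eq (i : Nat) : actR35 i = Tab.act T D rw35 i := rfl
noncomputable def actR36 (i : Nat) : Nat := col1 (col5 (col1 (col4 (col1 (col5 (col1 (col4 (col0 (col5 (col0 (col4 (i))))))))))))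
theorem actR36_eq (i : Nat) : actR36 i = Tab.act T D rw36 i := rfl
noncomputable def actR37 (i : Nat) : Nat := col1 (col3 (col1 (col5 (col5 (col3 (col1 (col5 (col5 (col3 (col4 (col2 (col4 (col3 (col3 (i)))))))))))))))
theorem actR37_eq (i : Nat) : actR37 i = Tab.act T D rw37 i := rfl
noncomputable def actR38 (i : Nat) : Nat := col1 (col3 (col4 (col1 (col5 (col3 (col4 (col4 (col0 (col4 (col0 (col5 (col3 (col3 (col4 (i)))))))))))))))
theorem actR38_eq (i : Nat) : actR38 i = Tab.act T D rw38 i := rfl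
noncomputable def actR39 (i : Nat) : Nat := col1 (col2 (col4 (col0 (col5 (col2 (col5 (col2 (col2 (col4 (col1 (col5 (col2 (col5 (col2 (i)))))))))))))))
theorem actR39_eq (i : Nat) : actR39 i = Tab.act T D rw39 i := rfl
noncomputable def actR40 (i : Nat) : Nat := col7 (col3 (col5 (col5 (col1 (col4 (col1 (col2 (col1 (col6 (col3 (col5 (col5 (col0 (col4 (col0 (col2 (col0 (i))))))))))))))))))
theorem actR40_eq (i : Nat) : actR40 i = Tab.act T D rw40 i := rfl
noncomputable def actR41 (i : Nat) : Nat := col7 (col1 (col3 (col1 (col5 (col1 (col4 (col4 (col2 (col6 (col0 (col3 (col0 (col5 (col3 (col4 (col2 (col0 (col2 (i)))))))))))))))))))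
theorem actR41_eq (i : Nat) : actR41 i = Tab.act T D rw41 i := rfl
noncomputable def actR42 (i : Nat) : Nat := col7 (col5 (col3 (col1 (col4 (col4 (col1 (col2 (col1 (col2 (col6 (col5 (col2 (col2 (col4 (col2 (col2 (col0 (col2 (i)))))))))))))))))))
theorem actR42_eq (i : Nat) : actR42 i = Tab.act T D rw42 i := rfl
noncomputable def actR43 (i : Nat) : Nat := col7 (col4 (col1 (col5 (col6 (col0 (col5 (col3 (col5 (col2 (col0 (col2 (col0 (col2 (col2 (col0 (col3 (col0 (col2 (col2 (col0 (col2 (col2 (i)))))))))))))))))))))))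
theorem actR43_eq (i : Nat) : actR43 i = Tab.act T D rw43 i := rfl
noncomputable def actR44 (i : Nat) : Nat := col7 (col3 (col5 (col5 (col5 (col2 (col2 (col4 (col4 (col4 (col2 (col6 (col4 (col2 (col2 (col4 (col4 (col0 (col4 (col2 (col2 (col0 (col3 (i)))))))))))))))))))))))
theorem actR44_eq (i : Nat) : actR44 i = Tab.act T D rw44 i := rfl
noncomputable def actR45 (i : Nat) : Nat := col7 (col3 (col3 (col1 (col3 (col3 (col1 (col2 (col1 (col3 (col3 (col1 (col3 (col1 (col3 (col4 (col2 (col4 (col1 (col6 (col4 (col0 (col5 (i)))))))))))))))))))))))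
theorem actR45_eq (i : Nat) : actR45 i = Tab.act T D rw45 i := rfl
noncomputable def actR46 (i : Nat) : Nat := col7 (col2 (col4 (col4 (col1 (col4 (col2 (col4 (col2 (col6 (col2 (col4 (col4 (col0 (col5 (col2 (col0 (col2 (col2 (col0 (col3 (col0 (col2 (col2 (i))))))))))))))))))))))))
theorem actR46_eq (i : Nat) : actR46 i = Tab.act T D rw46 i := rfl
noncomputable def actR47 (i : Nat) : Nat := col7 (col1 (col3 (col4 (col4 (col1 (col5 (col5 (col2 (col1 (col6 (col2 (col5 (col2 (col5 (col3 (col0 (col2 (col0 (col2 (col2 (col0 (col2 (col2 (i))))))))))))))))))))))))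
theorem actR47_eq (i : Nat) : actR47 i = Tab.act T D rw47 i := rfl

end Cfsg.Agent.Lib.Helper4.TCD.SCo3pp3A
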