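import Cfsg.Agent.Lib.Helper4.TCD_SCo3pp3A_Acc

namespace Cfsg.Agent.Lib.Helper4.TCD.SCo3pp3A

open Cfsg.Agent.Lib.Helper4.TC

set_option maxRecDepth 100000
set_option Elab.async false

theorem c_zero : D.zeroOK = true := by decide +kernel
theorem c_base : allBelow D.baseOK 6 = true := by decide +kernel
theorem c_let : allBelow D.letOK 16 = true := by decide +kernel
theorem c_cls0 : T.cls 0 = 0 := by decide +kernel
theorem c_name0 : T.nameOf 0 = 0 := by decide +kernel
theorem c_tab : D.relTabOK 0 (baseRels 16 PSCo3pp3.invR PSCo3pp3.P.real subs ++ (baseRels 16 PSCo3pp3.invR PSCo3pp3.P.real subs).map (invWord D.inv)) = true := by decide +kernel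
theorem c_real : PSCo3pp3.P.real = realLit := by decide +kernel
theorem c_subfix : subs.all (fun u => Nat.beq (Tab.act T D u 0) 0) = true := by decide +kernel
theorem c_subs : subs.all (fun u => u.all (fun x => Nat.ble (Nat.succ x) 16)) = true := by decide +kernel
theorem c_names_0 : allRange D.nameOK 1 60000 = true := by decide +kernel
theorem c_names_1 : allRange D.nameOK 60001 5148 = true := by decide +kernel
theorem c_cls_0 : allRange (T.clsOK D) 1 15000 = true := by decide +kernel
theorem c_cls_1 : allRange (T.clsOK D) 15001 15000 = true := by decide +kernel
theorem c_cls_2 : allRange (T.clsOK D) 30001 15000 = true := by decide +kernel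
theorem c_cls_3 : allRange (T.clsOK D) 45001 15000 = true := by decide +kernel
theorem c_cls_4 : allRange (T.clsOK D) 60001 5148 = true := by decide +kernel
theorem c_rep_0 : allRange (T.repOK D) 0 30000 = true := by decide +kernel
theorem c_rep_1 : allRange (T.repOK D) 30000 18600 = true := by decide +kernel
theorem c_rel_0 : allRange D.relOK 65155 3633 = true := by decide +kernel
theorem c_rel_1 : allRange D.relOK 68788 3949 = true := by decide +kernel
theorem c_rel_2 : allRange D.relOK 72737 3459 = true := by decide +kernel
theorem c_rel_3 : allRange D.relOK 76196 3783 = true := by decide +kernel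
theorem c_rel_4 : allRange D.relOK 79979 3938 = true := by decide +kernel
theorem c_rel_5 : allRange D.relOK 83917 3563 = true := by decide +kernel
theorem c_rel_6 : allRange D.relOK 87480 2891 = true := by decide +kernel
theorem c_rel_7 : allRange D.relOK 90371 1521 = true := by decide +kernel
theorem c_rel_8 : allRange D.relOK 91892 1044 = true := by decide +kernel
theorem c_rel_9 : allRange D.relOK 92936 895 = true := by decide +kernel
theorem c_rel_10 : allRange D.relOK 93831 1454 = true := by decide +kernel
theorem c_rel_11 : allRange D.relOK 95285 1486 = true := by decide +kernel
theorem c_rel_12 : allRange D.relOK 96771 2557 = true := by decide +kernel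
theorem c_rel_13 : allRange D.relOK 99328 2848 = true := by decide +kernel
theorem c_rel_14 : allRange D.relOK 102176 2450 = true := by decide +kernel
theorem c_rel_15 : allRange D.relOK 104626 2432 = true := by decide +kernel
theorem c_rel_16 : allRange D.relOK 107058 3266 = true := by decide +kernel
theorem c_rel_17 : allRange D.relOK 110324 2228 = true := by decide +kernel
theorem c_rel_18 : allRange D.relOK 112552 2099 = true := by decide +kernel
theorem c_rel_19 : allRange D.relOK 114651 2054 = true := by decide +kernel
theorem c_rel_20 : allRange D.relOK 116705 2654 = true := by decide +kernel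
theorem c_rel_21 : allRange D.relOK 119359 1505 = true := by decide +kernel
theorem c_rel_22 : allRange D.relOK 120864 1703 = true := by decide +kernel
theorem c_rel_23 : allRange D.relOK 122567 2274 = true := by decide +kernel
theorem c_rel_24 : allRange D.relOK 124841 2160 = true := by decide +kernel
theorem c_rel_25 : allRange D.relOK 127001 1979 = true := by decide +kernel
theorem c_rel_26 : allRange D.relOK 128980 2013 = true := by decide +kernel
theorem c_rel_27 : allRange D.relOK 130993 1984 = true := by decide +kernel
theorem c_rel_28 : allRange D.relOK 132977 2023 = true := by decide +kernel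
theorem c_rel_29 : allRange D.relOK 135000 1729 = true := by decide +kernel
theorem c_rel_30 : allRange D.relOK 136729 1881 = true := by decide +kernel
theorem c_rel_31 : allRange D.relOK 138610 1922 = true := by decide +kernel
theorem c_rel_32 : allRange D.relOK 140532 2124 = true := by decide +kernel
theorem c_rel_33 : allRange D.relOK 142656 2367 = true := by decide +kernel
theorem c_rel_34 : allRange D.relOK 145023 1954 = true := by decide +kernel
theorem c_rel_35 : allRange D.relOK 146977 2529 = true := by decide +kernel
theorem c_rel_36 : allRange D.relOK 149506 2202 = true := by decide +kernel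
theorem c_rel_37 : allRange D.relOK 151708 2213 = true := by decide +kernel
theorem c_rel_38 : allRange D.relOK 153921 1712 = true := by decide +kernel
theorem c_rel_39 : allRange D.relOK 155633 1732 = true := by decide +kernel
theorem c_rel_40 : allRange D.relOK 157365 1836 = true := by decide +kernel
theorem c_rel_41 : allRange D.relOK 159201 1454 = true := by decide +kernel
theorem c_rel_42 : allRange D.relOK 160655 2159 = true := by decide +kernel
theorem c_rel_43 : allRange D.relOK 162814 1680 = true := by decide +kernel
theorem c_rel_44 : allRange D.relOK 164494 1733 = true := by decide +kernel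
theorem c_rel_45 : allRange D.relOK 166227 1701 = true := by decide +kernel
theorem c_rel_46 : allRange D.relOK 167928 1987 = true := by decide +kernel
theorem c_rel_47 : allRange D.relOK 169915 2140 = true := by decide +kernel
theorem c_rel_48 : allRange D.relOK 172055 1752 = true := by decide +kernel
theorem c_rel_49 : allRange D.relOK 173807 1639 = true := by decide +kernel
theorem c_rel_50 : allRange D.relOK 175446 1713 = true := by decide +kernel
theorem c_rel_51 : allRange D.relOK 177159 1380 = true := by decide +kernel
theorem c_rel_52 : allRange D.relOK 178539 1897 = true := by decide +kernel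
theorem c_rel_53 : allRange D.relOK 180436 1496 = true := by decide +kernel
theorem c_rel_54 : allRange D.relOK 181932 1514 = true := by decide +kernel
theorem c_rel_55 : allRange D.relOK 183446 1516 = true := by decide +kernel
theorem c_rel_56 : allRange D.relOK 184962 1815 = true := by decide +kernel
theorem c_rel_57 : allRange D.relOK 186777 1867 = true := by decide +kernel
theorem c_rel_58 : allRange D.relOK 188644 1832 = true := by decide +kernel
theorem c_rel_59 : allRange D.relOK 190476 1884 = true := by decide +kernel
theorem c_rel_60 : allRange D.relOK 192360 1853 = true := by decide +kernel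
theorem c_rel_61 : allRange D.relOK 194213 1456 = true := by decide +kernel
theorem c_rel_62 : allRange D.relOK 195669 2105 = true := by decide +kernel
theorem c_rel_63 : allRange D.relOK 197774 1754 = true := by decide +kernel
theorem c_rel_64 : allRange D.relOK 199528 1920 = true := by decide +kernel
theorem c_rel_65 : allRange D.relOK 201448 1440 = true := by decide +kernel
theorem c_rel_66 : allRange D.relOK 202888 1617 = true := by decide +kernel
theorem c_rel_67 : allRange D.relOK 204505 1750 = true := by decide +kernel
theorem c_rel_68 : allRange D.relOK 206255 1825 = true := by decide +kernel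
theorem c_rel_69 : allRange D.relOK 208080 1699 = true := by decide +kernel
theorem c_rel_70 : allRange D.relOK 209779 1631 = true := by decide +kernel
theorem c_rel_71 : allRange D.relOK 211410 1516 = true := by decide +kernel
theorem c_rel_72 : allRange D.relOK 212926 1952 = true := by decide +kernel
theorem c_rel_73 : allRange D.relOK 214878 1691 = true := by decide +kernel
theorem c_rel_74 : allRange D.relOK 216569 1595 = true := by decide +kernel
theorem c_rel_75 : allRange D.relOK 218164 1759 = true := by decide +kernel
theorem c_rel_76 : allRange D.relOK 219923 1728 = true := by decide +kernel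
theorem c_rel_77 : allRange D.relOK 221651 1653 = true := by decide +kernel
theorem c_rel_78 : allRange D.relOK 223304 1578 = true := by decide +kernel
theorem c_rel_79 : allRange D.relOK 224882 1613 = true := by decide +kernel
theorem c_rel_80 : allRange D.relOK 226495 1723 = true := by decide +kernel
theorem c_rel_81 : allRange D.relOK 228218 1355 = true := by decide +kernel
theorem c_rel_82 : allRange D.relOK 229573 1230 = true := by decide +kernel
theorem c_rel_83 : allRange D.relOK 230803 1802 = true := by decide +kernel
theorem c_rel_84 : allRange D.relOK 232605 1462 = true := by decide +kernel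

end Cfsg.Agent.Lib.Helper4.TCD.SCo3pp3A
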