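import Cfsg.Agent.Lib.Helper4.TC7
import Cfsg.Agent.Lib.Helper4.TCP_SCo3pp5
import Cfsg.Agent.Lib.Helper4.TCD_SCo3pp5A_D0
import Cfsg.Agent.Lib.Helper4.TCD_SCo3pp5A_D1
import Cfsg.Agent.Lib.Helper4.TCD_SCo3pp5A_D2
import Cfsg.Agent.Lib.Helper4.TCD_SCo3pp5A_D3
import Cfsg.Agent.Lib.Helper4.TCD_SCo3pp5A_D4
import Cfsg.Agent.Lib.Helper4.TCD_SCo3pp5A_D5
import Cfsg.Agent.Lib.Helper4.TCD_SCo3pp5A_D6
import Cfsg.Agent.Lib.Helper4.TCD_SCo3pp5A_D7
import Cfsg.Agent.Lib.Helper4.TCD_SCo3pp5A_D8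
import Cfsg.Agent.Lib.Helper4.TCD_SCo3pp5A_D9
import Cfsg.Agent.Lib.Helper4.TCD_SCo3pp5A_D10
import Cfsg.Agent.Lib.Helper4.TCD_SCo3pp5A_D11
import Cfsg.Agent.Lib.Helper4.TCD_SCo3pp5A_D12
import Cfsg.Agent.Lib.Helper4.TCD_SCo3pp5A_D13
import Cfsg.Agent.Lib.Helper4.TCD_SCo3pp5A_D14
import Cfsg.Agent.Lib.Helper4.TCD_SCo3pp5A_D15
import Cfsg.Agent.Lib.Helper4.TCD_SCo3pp5A_D16
import Cfsg.Agent.Lib.Helper4.TCD_SCo3pp5A_D17
import Cfsg.Agent.Lib.Helper4.TCD_SCo3pp5A_D18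
import Cfsg.Agent.Lib.Helper4.TCD_SCo3pp5A_D19
import Cfsg.Agent.Lib.Helper4.TCD_SCo3pp5A_D20

namespace Cfsg.Agent.Lib.Helper4.TCD.SCo3pp5A

open Cfsg.Agent.Lib.Helper4.TC

set_option maxRecDepth 100000

noncomputable def Atab_s_1_3 (c : Nat) : Nat := @Bool.rec (fun _ => Nat) (Atab_1) (Atab_2) (Nat.ble 2 c)
noncomputable def Atab_s_0_3 (c : Nat) : Nat := @Bool.rec (fun _ => Nat) (Atab_0) (Atab_s_1_3 c) (Nat.ble 1 c)
noncomputable def Atab_s_3_5 (c : Nat) : Nat := @Bool.rec (fun _ => Nat) (Atab_3) (Atab_4) (Nat.ble 4 c)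
noncomputable def Atab_s_5_7 (c : Nat) : Nat := @Bool.rec (fun _ => Nat) (Atab_5) (Atab_6) (Nat.ble 6 c)
noncomputable def Atab_s_3_7 (c : Nat) : Nat := @Bool.rec (fun _ => Nat) (Atab_s_3_5 c) (Atab_s_5_7 c) (Nat.ble 5 c)
noncomputable def Atab_s_0_7 (c : Nat) : Nat := @Bool.rec (fun _ => Nat) (Atab_s_0_3 c) (Atab_s_3_7 c) (Nat.ble 3 c)
noncomputable def Atab_s_8_10 (c : Nat) : Nat := @Bool.rec (fun _ => Nat) (Atab_8) (Atab_9) (Nat.ble 9 c)
noncomputable def Atab_s_7_10 (c : Nat) : Nat := @Bool.rec (fun _ => Nat) (Atab_7) (Atab_s_8_10 c) (Nat.ble 8 c)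
noncomputable def Atab_s_10_12 (c : Nat) : Nat := @Bool.rec (fun _ => Nat) (Atab_10) (Atab_11) (Nat.ble 11 c)
noncomputable def Atab_s_12_14 (c : Nat) : Nat := @Bool.rec (fun _ => Nat) (Atab_12) (Atab_13) (Nat.ble 13 c)
noncomputable def Atab_s_10_14 (c : Nat) : Nat := @Bool.rec (fun _ => Nat) (Atab_s_10_12 c) (Atab_s_12_14 c) (Nat.ble 12 c)
noncomputable def Atab_s_7_14 (c : Nat) : Nat := @Bool.rec (fun _ => Nat) (Atab_s_7_10 c) (Atab_s_10_14 c) (Nat.ble 10 c)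
noncomputable def Atab_s_0_14 (c : Nat) : Nat := @Bool.rec (fun _ => Nat) (Atab_s_0_7 c) (Atab_s_7_14 c) (Nat.ble 7 c)
noncomputable def Atab_s_15_17 (c : Nat) : Nat := @Bool.rec (fun _ => Nat) (Atab_15) (Atab_16) (Nat.ble 16 c)
noncomputable def Atab_s_14_17 (c : Nat) : Nat := @Bool.rec (fun _ => Nat) (Atab_14) (Atab_s_15_17 c) (Nat.ble 15 c)
noncomputable def Atab_s_17_19 (c : Nat) : Nat := @Bool.rec (fun _ => Nat) (Atab_17) (Atab_18) (Nat.ble 18 c)
noncomputable def Atab_s_19_21 (c : Nat) : Nat := @Bool.rec (fun _ => Nat) (Atab_19) (Atab_20) (Nat.ble 20 c)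
noncomputable def Atab_s_17_21 (c : Nat) : Nat := @Bool.rec (fun _ => Nat) (Atab_s_17_19 c) (Atab_s_19_21 c) (Nat.ble 19 c)
noncomputable def Atab_s_14_21 (c : Nat) : Nat := @Bool.rec (fun _ => Nat) (Atab_s_14_17 c) (Atab_s_17_21 c) (Nat.ble 17 c)
noncomputable def Atab_s_22_24 (c : Nat) : Nat := @Bool.rec (fun _ => Nat) (Atab_22) (Atab_23) (Nat.ble 23 c)
noncomputable def Atab_s_21_24 (c : Nat) : Nat := @Bool.rec (fun _ => Nat) (Atab_21) (Atab_s_22_24 c) (Nat.ble 22 c)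
noncomputable def Atab_s_24_26 (c : Nat) : Nat := @Bool.rec (fun _ => Nat) (Atab_24) (Atab_25) (Nat.ble 25 c)
noncomputable def Atab_s_26_28 (c : Nat) : Nat := @Bool.rec (fun _ => Nat) (Atab_26) (Atab_27) (Nat.ble 27 c)
noncomputable def Atab_s_24_28 (c : Nat) : Nat := @Bool.rec (fun _ => Nat) (Atab_s_24_26 c) (Atab_s_26_28 c) (Nat.ble 26 c)
noncomputable def Atab_s_21_28 (c : Nat) : Nat := @Bool.rec (fun _ => Nat) (Atab_s_21_24 c) (Atab_s_24_28 c) (Nat.ble 24 c)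
noncomputable def Atab_s_14_28 (c : Nat) : Nat := @Bool.rec (fun _ => Nat) (Atab_s_14_21 c) (Atab_s_21_28 c) (Nat.ble 21 c)
noncomputable def Atab_s_0_28 (c : Nat) : Nat := @Bool.rec (fun _ => Nat) (Atab_s_0_14 c) (Atab_s_14_28 c) (Nat.ble 14 c)
noncomputable def Atab_s_29_31 (c : Nat) : Nat := @Bool.rec (fun _ => Nat) (Atab_29) (Atab_30) (Nat.ble 30 c)
noncomputable def Atab_s_28_31 (c : Nat) : Nat := @Bool.rec (fun _ => Nat) (Atab_28) (Atab_s_29_31 c) (Nat.ble 29 c)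
noncomputable def Atab_s_31_33 (c : Nat) : Nat := @Bool.rec (fun _ => Nat) (Atab_31) (Atab_32) (Nat.ble 32 c)
noncomputable def Atab_s_33_35 (c : Nat) : Nat := @Bool.rec (fun _ => Nat) (Atab_33) (Atab_34) (Nat.ble 34 c)
noncomputable def Atab_s_31_35 (c : Nat) : Nat := @Bool.rec (fun _ => Nat) (Atab_s_31_33 c) (Atab_s_33_35 c) (Nat.ble 33 c)
noncomputable def Atab_s_28_35 (c : Nat) : Nat := @Bool.rec (fun _ => Nat) (Atab_s_28_31 c) (Atab_s_31_35 c) (Nat.ble 31 c)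
noncomputable def Atab_s_36_38 (c : Nat) : Nat := @Bool.rec (fun _ => Nat) (Atab_36) (Atab_37) (Nat.ble 37 c)
noncomputable def Atab_s_35_38 (c : Nat) : Nat := @Bool.rec (fun _ => Nat) (Atab_35) (Atab_s_36_38 c) (Nat.ble 36 c)
noncomputable def Atab_s_38_40 (c : Nat) : Nat := @Bool.rec (fun _ => Nat) (Atab_38) (Atab_39) (Nat.ble 39 c)
noncomputable def Atab_s_40_42 (c : Nat) : Nat := @Bool.rec (fun _ => Nat) (Atab_40) (Atab_41) (Nat.ble 41 c)
noncomputable def Atab_s_38_42 (c : Nat) : Nat := @Bool.rec (fun _ => Nat) (Atab_s_38_40 c) (Atab_s_40_42 c) (Nat.ble 40 c)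
noncomputable def Atab_s_35_42 (c : Nat) : Nat := @Bool.rec (fun _ => Nat) (Atab_s_35_38 c) (Atab_s_38_42 c) (Nat.ble 38 c)
noncomputable def Atab_s_28_42 (c : Nat) : Nat := @Bool.rec (fun _ => Nat) (Atab_s_28_35 c) (Atab_s_35_42 c) (Nat.ble 35 c)
noncomputable def Atab_s_43_45 (c : Nat) : Nat := @Bool.rec (fun _ => Nat) (Atab_43) (Atab_44) (Nat.ble 44 c)
noncomputable def Atab_s_42_45 (c : Nat) : Nat := @Bool.rec (fun _ => Nat) (Atab_42) (Atab_s_43_45 c) (Nat.ble 43 c)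
noncomputable def Atab_s_45_47 (c : Nat) : Nat := @Bool.rec (fun _ => Nat) (Atab_45) (Atab_46) (Nat.ble 46 c)
noncomputable def Atab_s_47_49 (c : Nat) : Nat := @Bool.rec (fun _ => Nat) (Atab_47) (Atab_48) (Nat.ble 48 c)
noncomputable def Atab_s_45_49 (c : Nat) : Nat := @Bool.rec (fun _ => Nat) (Atab_s_45_47 c) (Atab_s_47_49 c) (Nat.ble 47 c)
noncomputable def Atab_s_42_49 (c : Nat) : Nat := @Bool.rec (fun _ => Nat) (Atab_s_42_45 c) (Atab_s_45_49 c) (Nat.ble 45 c)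
noncomputable def Atab_s_50_52 (c : Nat) : Nat := @Bool.rec (fun _ => Nat) (Atab_50) (Atab_51) (Nat.ble 51 c)
noncomputable def Atab_s_49_52 (c : Nat) : Nat := @Bool.rec (fun _ => Nat) (Atab_49) (Atab_s_50_52 c) (Nat.ble 50 c)
noncomputable def Atab_s_52_54 (c : Nat) : Nat := @Bool.rec (fun _ => Nat) (Atab_52) (Atab_53) (Nat.ble 53 c)
noncomputable def Atab_s_54_56 (c : Nat) : Nat := @Bool.rec (fun _ => Nat) (Atab_54) (Atab_55) (Nat.ble 55 c)
noncomputable def Atab_s_52_56 (c : Nat) : Nat := @Bool.rec (fun _ => Nat) (Atab_s_52_54 c) (Atab_s_54_56 c) (Nat.ble 54 c)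
noncomputable def Atab_s_49_56 (c : Nat) : Nat := @Bool.rec (fun _ => Nat) (Atab_s_49_52 c) (Atab_s_52_56 c) (Nat.ble 52 c)
noncomputable def Atab_s_42_56 (c : Nat) : Nat := @Bool.rec (fun _ => Nat) (Atab_s_42_49 c) (Atab_s_49_56 c) (Nat.ble 49 c)
noncomputable def Atab_s_28_56 (c : Nat) : Nat := @Bool.rec (fun _ => Nat) (Atab_s_28_42 c) (Atab_s_42_56 c) (Nat.ble 42 c)
noncomputable def Atab_s_0_56 (c : Nat) : Nat := @Bool.rec (fun _ => Nat) (Atab_s_0_28 c) (Atab_s_28_56 c) (Nat.ble 28 c)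
noncomputable def Atab_s_57_59 (c : Nat) : Nat := @Bool.rec (fun _ => Nat) (Atab_57) (Atab_58) (Nat.ble 58 c)
noncomputable def Atab_s_56_59 (c : Nat) : Nat := @Bool.rec (fun _ => Nat) (Atab_56) (Atab_s_57_59 c) (Nat.ble 57 c)
noncomputable def Atab_s_59_61 (c : Nat) : Nat := @Bool.rec (fun _ => Nat) (Atab_59) (Atab_60) (Nat.ble 60 c)
noncomputable def Atab_s_61_63 (c : Nat) : Nat := @Bool.rec (fun _ => Nat) (Atab_61) (Atab_62) (Nat.ble 62 c)
noncomputable def Atab_s_59_63 (c : Nat) : Nat := @Bool.rec (fun _ => Nat) (Atab_s_59_61 c) (Atab_s_61_63 c) (Nat.ble 61 c)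
noncomputable def Atab_s_56_63 (c : Nat) : Nat := @Bool.rec (fun _ => Nat) (Atab_s_56_59 c) (Atab_s_59_63 c) (Nat.ble 59 c)
noncomputable def Atab_s_64_66 (c : Nat) : Nat := @Bool.rec (fun _ => Nat) (Atab_64) (Atab_65) (Nat.ble 65 c)
noncomputable def Atab_s_63_66 (c : Nat) : Nat := @Bool.rec (fun _ => Nat) (Atab_63) (Atab_s_64_66 c) (Nat.ble 64 c)
noncomputable def Atab_s_66_68 (c : Nat) : Nat := @Bool.rec (fun _ => Nat) (Atab_66) (Atab_67) (Nat.ble 67 c)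
noncomputable def Atab_s_68_70 (c : Nat) : Nat := @Bool.rec (fun _ => Nat) (Atab_68) (Atab_69) (Nat.ble 69 c)
noncomputable def Atab_s_66_70 (c : Nat) : Nat := @Bool.rec (fun _ => Nat) (Atab_s_66_68 c) (Atab_s_68_70 c) (Nat.ble 68 c)
noncomputable def Atab_s_63_70 (c : Nat) : Nat := @Bool.rec (fun _ => Nat) (Atab_s_63_66 c) (Atab_s_66_70 c) (Nat.ble 66 c)
noncomputable def Atab_s_56_70 (c : Nat) : Nat := @Bool.rec (fun _ => Nat) (Atab_s_56_63 c) (Atab_s_63_70 c) (Nat.ble 63 c)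
noncomputable def Atab_s_71_73 (c : Nat) : Nat := @Bool.rec (fun _ => Nat) (Atab_71) (Atab_72) (Nat.ble 72 c)
noncomputable def Atab_s_70_73 (c : Nat) : Nat := @Bool.rec (fun _ => Nat) (Atab_70) (Atab_s_71_73 c) (Nat.ble 71 c)
noncomputable def Atab_s_73_75 (c : Nat) : Nat := @Bool.rec (fun _ => Nat) (Atab_73) (Atab_74) (Nat.ble 74 c)
noncomputable def Atab_s_75_77 (c : Nat) : Nat := @Bool.rec (fun _ => Nat) (Atab_75) (Atab_76) (Nat.ble 76 c)
noncomputable def Atab_s_73_77 (c : Nat) : Nat := @Bool.rec (fun _ => Nat) (Atab_s_73_75 c) (Atab_s_75_77 c) (Nat.ble 75 c)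
noncomputable def Atab_s_70_77 (c : Nat) : Nat := @Bool.rec (fun _ => Nat) (Atab_s_70_73 c) (Atab_s_73_77 c) (Nat.ble 73 c)
noncomputable def Atab_s_78_80 (c : Nat) : Nat := @Bool.rec (fun _ => Nat) (Atab_78) (Atab_79) (Nat.ble 79 c)
noncomputable def Atab_s_77_80 (c : Nat) : Nat := @Bool.rec (fun _ => Nat) (Atab_77) (Atab_s_78_80 c) (Nat.ble 78 c)
noncomputable def Atab_s_80_82 (c : Nat) : Nat := @Bool.rec (fun _ => Nat) (Atab_80) (Atab_81) (Nat.ble 81 c)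
noncomputable def Atab_s_82_84 (c : Nat) : Nat := @Bool.rec (fun _ => Nat) (Atab_82) (Atab_83) (Nat.ble 83 c)
noncomputable def Atab_s_80_84 (c : Nat) : Nat := @Bool.rec (fun _ => Nat) (Atab_s_80_82 c) (Atab_s_82_84 c) (Nat.ble 82 c)
noncomputable def Atab_s_77_84 (c : Nat) : Nat := @Bool.rec (fun _ => Nat) (Atab_s_77_80 c) (Atab_s_80_84 c) (Nat.ble 80 c)
noncomputable def Atab_s_70_84 (c : Nat) : Nat := @Bool.rec (fun _ => Nat) (Atab_s_70_77 c) (Atab_s_77_84 c) (Nat.ble 77 c)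
noncomputable def Atab_s_56_84 (c : Nat) : Nat := @Bool.rec (fun _ => Nat) (Atab_s_56_70 c) (Atab_s_70_84 c) (Nat.ble 70 c)
noncomputable def Atab_s_85_87 (c : Nat) : Nat := @Bool.rec (fun _ => Nat) (Atab_85) (Atab_86) (Nat.ble 86 c)
noncomputable def Atab_s_84_87 (c : Nat) : Nat := @Bool.rec (fun _ => Nat) (Atab_84) (Atab_s_85_87 c) (Nat.ble 85 c)
noncomputable def Atab_s_87_89 (c : Nat) : Nat := @Bool.rec (fun _ => Nat) (Atab_87) (Atab_88) (Nat.ble 88 c)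
noncomputable def Atab_s_89_91 (c : Nat) : Nat := @Bool.rec (fun _ => Nat) (Atab_89) (Atab_90) (Nat.ble 90 c)
noncomputable def Atab_s_87_91 (c : Nat) : Nat := @Bool.rec (fun _ => Nat) (Atab_s_87_89 c) (Atab_s_89_91 c) (Nat.ble 89 c)
noncomputable def Atab_s_84_91 (c : Nat) : Nat := @Bool.rec (fun _ => Nat) (Atab_s_84_87 c) (Atab_s_87_91 c) (Nat.ble 87 c)
noncomputable def Atab_s_92_94 (c : Nat) : Nat := @Bool.rec (fun _ => Nat) (Atab_92) (Atab_93) (Nat.ble 93 c)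
noncomputable def Atab_s_91_94 (c : Nat) : Nat := @Bool.rec (fun _ => Nat) (Atab_91) (Atab_s_92_94 c) (Nat.ble 92 c)
noncomputable def Atab_s_94_96 (c : Nat) : Nat := @Bool.rec (fun _ => Nat) (Atab_94) (Atab_95) (Nat.ble 95 c)
noncomputable def Atab_s_96_98 (c : Nat) : Nat := @Bool.rec (fun _ => Nat) (Atab_96) (Atab_97) (Nat.ble 97 c)
noncomputable def Atab_s_94_98 (c : Nat) : Nat := @Bool.rec (fun _ => Nat) (Atab_s_94_96 c) (Atab_s_96_98 c) (Nat.ble 96 c)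
noncomputable def Atab_s_91_98 (c : Nat) : Nat := @Bool.rec (fun _ => Nat) (Atab_s_91_94 c) (Atab_s_94_98 c) (Nat.ble 94 c)
noncomputable def Atab_s_84_98 (c : Nat) : Nat := @Bool.rec (fun _ => Nat) (Atab_s_84_91 c) (Atab_s_91_98 c) (Nat.ble 91 c)
noncomputable def Atab_s_99_101 (c : Nat) : Nat := @Bool.rec (fun _ => Nat) (Atab_99) (Atab_100) (Nat.ble 100 c)
noncomputable def Atab_s_98_101 (c : Nat) : Nat := @Bool.rec (fun _ => Nat) (Atab_98) (Atab_s_99_101 c) (Nat.ble 99 c)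
noncomputable def Atab_s_101_103 (c : Nat) : Nat := @Bool.rec (fun _ => Nat) (Atab_101) (Atab_102) (Nat.ble 102 c)
noncomputable def Atab_s_103_105 (c : Nat) : Nat := @Bool.rec (fun _ => Nat) (Atab_103) (Atab_104) (Nat.ble 104 c)
noncomputable def Atab_s_101_105 (c : Nat) : Nat := @Bool.rec (fun _ => Nat) (Atab_s_101_103 c) (Atab_s_103_105 c) (Nat.ble 103 c)
noncomputable def Atab_s_98_105 (c : Nat) : Nat := @Bool.rec (fun _ => Nat) (Atab_s_98_101 c) (Atab_s_101_105 c) (Nat.ble 101 c)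
noncomputable def Atab_s_105_107 (c : Nat) : Nat := @Bool.rec (fun _ => Nat) (Atab_105) (Atab_106) (Nat.ble 106 c)
noncomputable def Atab_s_107_109 (c : Nat) : Nat := @Bool.rec (fun _ => Nat) (Atab_107) (Atab_108) (Nat.ble 108 c)
noncomputable def Atab_s_105_109 (c : Nat) : Nat := @Bool.rec (fun _ => Nat) (Atab_s_105_107 c) (Atab_s_107_109 c) (Nat.ble 107 c)
noncomputable def Atab_s_109_111 (c : Nat) : Nat := @Bool.rec (fun _ => Nat) (Atab_109) (Atab_110) (Nat.ble 110 c)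
noncomputable def Atab_s_111_113 (c : Nat) : Nat := @Bool.rec (fun _ => Nat) (Atab_111) (Atab_112) (Nat.ble 112 c)
noncomputable def Atab_s_109_113 (c : Nat) : Nat := @Bool.rec (fun _ => Nat) (Atab_s_109_111 c) (Atab_s_111_113 c) (Nat.ble 111 c)
noncomputable def Atab_s_105_113 (c : Nat) : Nat := @Bool.rec (fun _ => Nat) (Atab_s_105_109 c) (Atab_s_109_113 c) (Nat.ble 109 c)
noncomputable def Atab_s_98_113 (c : Nat) : Nat := @Bool.rec (fun _ => Nat) (Atab_s_98_105 c) (Atab_s_105_113 c) (Nat.ble 105 c)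
noncomputable def Atab_s_84_113 (c : Nat) : Nat := @Bool.rec (fun _ => Nat) (Atab_s_84_98 c) (Atab_s_98_113 c) (Nat.ble 98 c)
noncomputable def Atab_s_56_113 (c : Nat) : Nat := @Bool.rec (fun _ => Nat) (Atab_s_56_84 c) (Atab_s_84_113 c) (Nat.ble 84 c)
noncomputable def Atab_s_0_113 (c : Nat) : Nat := @Bool.rec (fun _ => Nat) (Atab_s_0_56 c) (Atab_s_56_113 c) (Nat.ble 56 c)
noncomputable def Atab_s_114_116 (c : Nat) : Nat := @Bool.rec (fun _ => Nat) (Atab_114) (Atab_115) (Nat.ble 115 c)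
noncomputable def Atab_s_113_116 (c : Nat) : Nat := @Bool.rec (fun _ => Nat) (Atab_113) (Atab_s_114_116 c) (Nat.ble 114 c)
noncomputable def Atab_s_116_118 (c : Nat) : Nat := @Bool.rec (fun _ => Nat) (Atab_116) (Atab_117) (Nat.ble 117 c)
noncomputable def Atab_s_118_120 (c : Nat) : Nat := @Bool.rec (fun _ => Nat) (Atab_118) (Atab_119) (Nat.ble 119 c)
noncomputable def Atab_s_116_120 (c : Nat) : Nat := @Bool.rec (fun _ => Nat) (Atab_s_116_118 c) (Atab_s_118_120 c) (Nat.ble 118 c)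
noncomputable def Atab_s_113_120 (c : Nat) : Nat := @Bool.rec (fun _ => Nat) (Atab_s_113_116 c) (Atab_s_116_120 c) (Nat.ble 116 c)
noncomputable def Atab_s_121_123 (c : Nat) : Nat := @Bool.rec (fun _ => Nat) (Atab_121) (Atab_122) (Nat.ble 122 c)
noncomputable def Atab_s_120_123 (c : Nat) : Nat := @Bool.rec (fun _ => Nat) (Atab_120) (Atab_s_121_123 c) (Nat.ble 121 c)
noncomputable def Atab_s_123_125 (c : Nat) : Nat := @Bool.rec (fun _ => Nat) (Atab_123) (Atab_124) (Nat.ble 124 c)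
noncomputable def Atab_s_125_127 (c : Nat) : Nat := @Bool.rec (fun _ => Nat) (Atab_125) (Atab_126) (Nat.ble 126 c)
noncomputable def Atab_s_123_127 (c : Nat) : Nat := @Bool.rec (fun _ => Nat) (Atab_s_123_125 c) (Atab_s_125_127 c) (Nat.ble 125 c)
noncomputable def Atab_s_120_127 (c : Nat) : Nat := @Bool.rec (fun _ => Nat) (Atab_s_120_123 c) (Atab_s_123_127 c) (Nat.ble 123 c)
noncomputable def Atab_s_113_127 (c : Nat) : Nat := @Bool.rec (fun _ => Nat) (Atab_s_113_120 c) (Atab_s_120_127 c) (Nat.ble 120 c)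
noncomputable def Atab_s_128_130 (c : Nat) : Nat := @Bool.rec (fun _ => Nat) (Atab_128) (Atab_129) (Nat.ble 129 c)
noncomputable def Atab_s_127_130 (c : Nat) : Nat := @Bool.rec (fun _ => Nat) (Atab_127) (Atab_s_128_130 c) (Nat.ble 128 c)
noncomputable def Atab_s_130_132 (c : Nat) : Nat := @Bool.rec (fun _ => Nat) (Atab_130) (Atab_131) (Nat.ble 131 c)
noncomputable def Atab_s_132_134 (c : Nat) : Nat := @Bool.rec (fun _ => Nat) (Atab_132) (Atab_133) (Nat.ble 133 c)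
noncomputable def Atab_s_130_134 (c : Nat) : Nat := @Bool.rec (fun _ => Nat) (Atab_s_130_132 c) (Atab_s_132_134 c) (Nat.ble 132 c)
noncomputable def Atab_s_127_134 (c : Nat) : Nat := @Bool.rec (fun _ => Nat) (Atab_s_127_130 c) (Atab_s_130_134 c) (Nat.ble 130 c)
noncomputable def Atab_s_135_137 (c : Nat) : Nat := @Bool.rec (fun _ => Nat) (Atab_135) (Atab_136) (Nat.ble 136 c)
noncomputable def Atab_s_134_137 (c : Nat) : Nat := @Bool.rec (fun _ => Nat) (Atab_134) (Atab_s_135_137 c) (Nat.ble 135 c)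
noncomputable def Atab_s_137_139 (c : Nat) : Nat := @Bool.rec (fun _ => Nat) (Atab_137) (Atab_138) (Nat.ble 138 c)
noncomputable def Atab_s_139_141 (c : Nat) : Nat := @Bool.rec (fun _ => Nat) (Atab_139) (Atab_140) (Nat.ble 140 c)
noncomputable def Atab_s_137_141 (c : Nat) : Nat := @Bool.rec (fun _ => Nat) (Atab_s_137_139 c) (Atab_s_139_141 c) (Nat.ble 139 c)
noncomputable def Atab_s_134_141 (c : Nat) : Nat := @Bool.rec (fun _ => Nat) (Atab_s_134_137 c) (Atab_s_137_141 c) (Nat.ble 137 c)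
noncomputable def Atab_s_127_141 (c : Nat) : Nat := @Bool.rec (fun _ => Nat) (Atab_s_127_134 c) (Atab_s_134_141 c) (Nat.ble 134 c)
noncomputable def Atab_s_113_141 (c : Nat) : Nat := @Bool.rec (fun _ => Nat) (Atab_s_113_127 c) (Atab_s_127_141 c) (Nat.ble 127 c)
noncomputable def Atab_s_142_144 (c : Nat) : Nat := @Bool.rec (fun _ => Nat) (Atab_142) (Atab_143) (Nat.ble 143 c)
noncomputable def Atab_s_141_144 (c : Nat) : Nat := @Bool.rec (fun _ => Nat) (Atab_141) (Atab_s_142_144 c) (Nat.ble 142 c)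
noncomputable def Atab_s_144_146 (c : Nat) : Nat := @Bool.rec (fun _ => Nat) (Atab_144) (Atab_145) (Nat.ble 145 c)
noncomputable def Atab_s_146_148 (c : Nat) : Nat := @Bool.rec (fun _ => Nat) (Atab_146) (Atab_147) (Nat.ble 147 c)
noncomputable def Atab_s_144_148 (c : Nat) : Nat := @Bool.rec (fun _ => Nat) (Atab_s_144_146 c) (Atab_s_146_148 c) (Nat.ble 146 c)
noncomputable def Atab_s_141_148 (c : Nat) : Nat := @Bool.rec (fun _ => Nat) (Atab_s_141_144 c) (Atab_s_144_148 c) (Nat.ble 144 c)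
noncomputable def Atab_s_149_151 (c : Nat) : Nat := @Bool.rec (fun _ => Nat) (Atab_149) (Atab_150) (Nat.ble 150 c)
noncomputable def Atab_s_148_151 (c : Nat) : Nat := @Bool.rec (fun _ => Nat) (Atab_148) (Atab_s_149_151 c) (Nat.ble 149 c)
noncomputable def Atab_s_151_153 (c : Nat) : Nat := @Bool.rec (fun _ => Nat) (Atab_151) (Atab_152) (Nat.ble 152 c)
noncomputable def Atab_s_153_155 (c : Nat) : Nat := @Bool.rec (fun _ => Nat) (Atab_153) (Atab_154) (Nat.ble 154 c)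
noncomputable def Atab_s_151_155 (c : Nat) : Nat := @Bool.rec (fun _ => Nat) (Atab_s_151_153 c) (Atab_s_153_155 c) (Nat.ble 153 c)
noncomputable def Atab_s_148_155 (c : Nat) : Nat := @Bool.rec (fun _ => Nat) (Atab_s_148_151 c) (Atab_s_151_155 c) (Nat.ble 151 c)
noncomputable def Atab_s_141_155 (c : Nat) : Nat := @Bool.rec (fun _ => Nat) (Atab_s_141_148 c) (Atab_s_148_155 c) (Nat.ble 148 c)
noncomputable def Atab_s_156_158 (c : Nat) : Nat := @Bool.rec (fun _ => Nat) (Atab_156) (Atab_157) (Nat.ble 157 c)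
noncomputable def Atab_s_155_158 (c : Nat) : Nat := @Bool.rec (fun _ => Nat) (Atab_155) (Atab_s_156_158 c) (Nat.ble 156 c)
noncomputable def Atab_s_158_160 (c : Nat) : Nat := @Bool.rec (fun _ => Nat) (Atab_158) (Atab_159) (Nat.ble 159 c)
noncomputable def Atab_s_160_162 (c : Nat) : Nat := @Bool.rec (fun _ => Nat) (Atab_160) (Atab_161) (Nat.ble 161 c)
noncomputable def Atab_s_158_162 (c : Nat) : Nat := @Bool.rec (fun _ => Nat) (Atab_s_158_160 c) (Atab_s_160_162 c) (Nat.ble 160 c)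
noncomputable def Atab_s_155_162 (c : Nat) : Nat := @Bool.rec (fun _ => Nat) (Atab_s_155_158 c) (Atab_s_158_162 c) (Nat.ble 158 c)
noncomputable def Atab_s_162_164 (c : Nat) : Nat := @Bool.rec (fun _ => Nat) (Atab_162) (Atab_163) (Nat.ble 163 c)
noncomputable def Atab_s_164_166 (c : Nat) : Nat := @Bool.rec (fun _ => Nat) (Atab_164) (Atab_165) (Nat.ble 165 c)
noncomputable def Atab_s_162_166 (c : Nat) : Nat := @Bool.rec (fun _ => Nat) (Atab_s_162_164 c) (Atab_s_164_166 c) (Nat.ble 164 c)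
noncomputable def Atab_s_166_168 (c : Nat) : Nat := @Bool.rec (fun _ => Nat) (Atab_166) (Atab_167) (Nat.ble 167 c)
noncomputable def Atab_s_168_170 (c : Nat) : Nat := @Bool.rec (fun _ => Nat) (Atab_168) (Atab_169) (Nat.ble 169 c)
noncomputable def Atab_s_166_170 (c : Nat) : Nat := @Bool.rec (fun _ => Nat) (Atab_s_166_168 c) (Atab_s_168_170 c) (Nat.ble 168 c)
noncomputable def Atab_s_162_170 (c : Nat) : Nat := @Bool.rec (fun _ => Nat) (Atab_s_162_166 c) (Atab_s_166_170 c) (Nat.ble 166 c)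
noncomputable def Atab_s_155_170 (c : Nat) : Nat := @Bool.rec (fun _ => Nat) (Atab_s_155_162 c) (Atab_s_162_170 c) (Nat.ble 162 c)
noncomputable def Atab_s_141_170 (c : Nat) : Nat := @Bool.rec (fun _ => Nat) (Atab_s_141_155 c) (Atab_s_155_170 c) (Nat.ble 155 c)
noncomputable def Atab_s_113_170 (c : Nat) : Nat := @Bool.rec (fun _ => Nat) (Atab_s_113_141 c) (Atab_s_141_170 c) (Nat.ble 141 c)
noncomputable def Atab_s_171_173 (c : Nat) : Nat := @Bool.rec (fun _ => Nat) (Atab_171) (Atab_172) (Nat.ble 172 c)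
noncomputable def Atab_s_170_173 (c : Nat) : Nat := @Bool.rec (fun _ => Nat) (Atab_170) (Atab_s_171_173 c) (Nat.ble 171 c)
noncomputable def Atab_s_173_175 (c : Nat) : Nat := @Bool.rec (fun _ => Nat) (Atab_173) (Atab_174) (Nat.ble 174 c)
noncomputable def Atab_s_175_177 (c : Nat) : Nat := @Bool.rec (fun _ => Nat) (Atab_175) (Atab_176) (Nat.ble 176 c)
noncomputable def Atab_s_173_177 (c : Nat) : Nat := @Bool.rec (fun _ => Nat) (Atab_s_173_175 c) (Atab_s_175_177 c) (Nat.ble 175 c)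
noncomputable def Atab_s_170_177 (c : Nat) : Nat := @Bool.rec (fun _ => Nat) (Atab_s_170_173 c) (Atab_s_173_177 c) (Nat.ble 173 c)
noncomputable def Atab_s_178_180 (c : Nat) : Nat := @Bool.rec (fun _ => Nat) (Atab_178) (Atab_179) (Nat.ble 179 c)
noncomputable def Atab_s_177_180 (c : Nat) : Nat := @Bool.rec (fun _ => Nat) (Atab_177) (Atab_s_178_180 c) (Nat.ble 178 c)
noncomputable def Atab_s_180_182 (c : Nat) : Nat := @Bool.rec (fun _ => Nat) (Atab_180) (Atab_181) (Nat.ble 181 c)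
noncomputable def Atab_s_182_184 (c : Nat) : Nat := @Bool.rec (fun _ => Nat) (Atab_182) (Atab_183) (Nat.ble 183 c)
noncomputable def Atab_s_180_184 (c : Nat) : Nat := @Bool.rec (fun _ => Nat) (Atab_s_180_182 c) (Atab_s_182_184 c) (Nat.ble 182 c)
noncomputable def Atab_s_177_184 (c : Nat) : Nat := @Bool.rec (fun _ => Nat) (Atab_s_177_180 c) (Atab_s_180_184 c) (Nat.ble 180 c)
noncomputable def Atab_s_170_184 (c : Nat) : Nat := @Bool.rec (fun _ => Nat) (Atab_s_170_177 c) (Atab_s_177_184 c) (Nat.ble 177 c)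
noncomputable def Atab_s_185_187 (c : Nat) : Nat := @Bool.rec (fun _ => Nat) (Atab_185) (Atab_186) (Nat.ble 186 c)
noncomputable def Atab_s_184_187 (c : Nat) : Nat := @Bool.rec (fun _ => Nat) (Atab_184) (Atab_s_185_187 c) (Nat.ble 185 c)
noncomputable def Atab_s_187_189 (c : Nat) : Nat := @Bool.rec (fun _ => Nat) (Atab_187) (Atab_188) (Nat.ble 188 c)
noncomputable def Atab_s_189_191 (c : Nat) : Nat := @Bool.rec (fun _ => Nat) (Atab_189) (Atab_190) (Nat.ble 190 c)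
noncomputable def Atab_s_187_191 (c : Nat) : Nat := @Bool.rec (fun _ => Nat) (Atab_s_187_189 c) (Atab_s_189_191 c) (Nat.ble 189 c)
noncomputable def Atab_s_184_191 (c : Nat) : Nat := @Bool.rec (fun _ => Nat) (Atab_s_184_187 c) (Atab_s_187_191 c) (Nat.ble 187 c)
noncomputable def Atab_s_192_194 (c : Nat) : Nat := @Bool.rec (fun _ => Nat) (Atab_192) (Atab_193) (Nat.ble 193 c)
noncomputable def Atab_s_191_194 (c : Nat) : Nat := @Bool.rec (fun _ => Nat) (Atab_191) (Atab_s_192_194 c) (Nat.ble 192 c)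
noncomputable def Atab_s_194_196 (c : Nat) : Nat := @Bool.rec (fun _ => Nat) (Atab_194) (Atab_195) (Nat.ble 195 c)
noncomputable def Atab_s_196_198 (c : Nat) : Nat := @Bool.rec (fun _ => Nat) (Atab_196) (Atab_197) (Nat.ble 197 c)
noncomputable def Atab_s_194_198 (c : Nat) : Nat := @Bool.rec (fun _ => Nat) (Atab_s_194_196 c) (Atab_s_196_198 c) (Nat.ble 196 c)
noncomputable def Atab_s_191_198 (c : Nat) : Nat := @Bool.rec (fun _ => Nat) (Atab_s_191_194 c) (Atab_s_194_198 c) (Nat.ble 194 c)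
noncomputable def Atab_s_184_198 (c : Nat) : Nat := @Bool.rec (fun _ => Nat) (Atab_s_184_191 c) (Atab_s_191_198 c) (Nat.ble 191 c)
noncomputable def Atab_s_170_198 (c : Nat) : Nat := @Bool.rec (fun _ => Nat) (Atab_s_170_184 c) (Atab_s_184_198 c) (Nat.ble 184 c)
noncomputable def Atab_s_199_201 (c : Nat) : Nat := @Bool.rec (fun _ => Nat) (Atab_199) (Atab_200) (Nat.ble 200 c)
noncomputable def Atab_s_198_201 (c : Nat) : Nat := @Bool.rec (fun _ => Nat) (Atab_198) (Atab_s_199_201 c) (Nat.ble 199 c)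
noncomputable def Atab_s_201_203 (c : Nat) : Nat := @Bool.rec (fun _ => Nat) (Atab_201) (Atab_202) (Nat.ble 202 c)
noncomputable def Atab_s_203_205 (c : Nat) : Nat := @Bool.rec (fun _ => Nat) (Atab_203) (Atab_204) (Nat.ble 204 c)
noncomputable def Atab_s_201_205 (c : Nat) : Nat := @Bool.rec (fun _ => Nat) (Atab_s_201_203 c) (Atab_s_203_205 c) (Nat.ble 203 c)
noncomputable def Atab_s_198_205 (c : Nat) : Nat := @Bool.rec (fun _ => Nat) (Atab_s_198_201 c) (Atab_s_201_205 c) (Nat.ble 201 c)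
noncomputable def Atab_s_206_208 (c : Nat) : Nat := @Bool.rec (fun _ => Nat) (Atab_206) (Atab_207) (Nat.ble 207 c)
noncomputable def Atab_s_205_208 (c : Nat) : Nat := @Bool.rec (fun _ => Nat) (Atab_205) (Atab_s_206_208 c) (Nat.ble 206 c)
noncomputable def Atab_s_208_210 (c : Nat) : Nat := @Bool.rec (fun _ => Nat) (Atab_208) (Atab_209) (Nat.ble 209 c)
noncomputable def Atab_s_210_212 (c : Nat) : Nat := @Bool.rec (fun _ => Nat) (Atab_210) (Atab_211) (Nat.ble 211 c)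
noncomputable def Atab_s_208_212 (c : Nat) : Nat := @Bool.rec (fun _ => Nat) (Atab_s_208_210 c) (Atab_s_210_212 c) (Nat.ble 210 c)
noncomputable def Atab_s_205_212 (c : Nat) : Nat := @Bool.rec (fun _ => Nat) (Atab_s_205_208 c) (Atab_s_208_212 c) (Nat.ble 208 c)
noncomputable def Atab_s_198_212 (c : Nat) : Nat := @Bool.rec (fun _ => Nat) (Atab_s_198_205 c) (Atab_s_205_212 c) (Nat.ble 205 c)
noncomputable def Atab_s_213_215 (c : Nat) : Nat := @Bool.rec (fun _ => Nat) (Atab_213) (Atab_214) (Nat.ble 214 c)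
noncomputable def Atab_s_212_215 (c : Nat) : Nat := @Bool.rec (fun _ => Nat) (Atab_212) (Atab_s_213_215 c) (Nat.ble 213 c)
noncomputable def Atab_s_215_217 (c : Nat) : Nat := @Bool.rec (fun _ => Nat) (Atab_215) (Atab_216) (Nat.ble 216 c)
noncomputable def Atab_s_217_219 (c : Nat) : Nat := @Bool.rec (fun _ => Nat) (Atab_217) (Atab_218) (Nat.ble 218 c)
noncomputable def Atab_s_215_219 (c : Nat) : Nat := @Bool.rec (fun _ => Nat) (Atab_s_215_217 c) (Atab_s_217_219 c) (Nat.ble 217 c)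
noncomputable def Atab_s_212_219 (c : Nat) : Nat := @Bool.rec (fun _ => Nat) (Atab_s_212_215 c) (Atab_s_215_219 c) (Nat.ble 215 c)
noncomputable def Atab_s_219_221 (c : Nat) : Nat := @Bool.rec (fun _ => Nat) (Atab_219) (Atab_220) (Nat.ble 220 c)
noncomputable def Atab_s_221_223 (c : Nat) : Nat := @Bool.rec (fun _ => Nat) (Atab_221) (Atab_222) (Nat.ble 222 c)
noncomputable def Atab_s_219_223 (c : Nat) : Nat := @Bool.rec (fun _ => Nat) (Atab_s_219_221 c) (Atab_s_221_223 c) (Nat.ble 221 c)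
noncomputable def Atab_s_223_225 (c : Nat) : Nat := @Bool.rec (fun _ => Nat) (Atab_223) (Atab_224) (Nat.ble 224 c)
noncomputable def Atab_s_225_227 (c : Nat) : Nat := @Bool.rec (fun _ => Nat) (Atab_225) (Atab_226) (Nat.ble 226 c)
noncomputable def Atab_s_223_227 (c : Nat) : Nat := @Bool.rec (fun _ => Nat) (Atab_s_223_225 c) (Atab_s_225_227 c) (Nat.ble 225 c)
noncomputable def Atab_s_219_227 (c : Nat) : Nat := @Bool.rec (fun _ => Nat) (Atab_s_219_223 c) (Atab_s_223_227 c) (Nat.ble 223 c)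
noncomputable def Atab_s_212_227 (c : Nat) : Nat := @Bool.rec (fun _ => Nat) (Atab_s_212_219 c) (Atab_s_219_227 c) (Nat.ble 219 c)
noncomputable def Atab_s_198_227 (c : Nat) : Nat := @Bool.rec (fun _ => Nat) (Atab_s_198_212 c) (Atab_s_212_227 c) (Nat.ble 212 c)
noncomputable def Atab_s_170_227 (c : Nat) : Nat := @Bool.rec (fun _ => Nat) (Atab_s_170_198 c) (Atab_s_198_227 c) (Nat.ble 198 c)
noncomputable def Atab_s_113_227 (c : Nat) : Nat := @Bool.rec (fun _ => Nat) (Atab_s_113_170 c) (Atab_s_170_227 c) (Nat.ble 170 c)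
noncomputable def Atab_s_0_227 (c : Nat) : Nat := @Bool.rec (fun _ => Nat) (Atab_s_0_113 c) (Atab_s_113_227 c) (Nat.ble 113 c)
noncomputable def Atab (i : Nat) : Nat := rdw 39 549755813887 (Atab_s_0_227 (Nat.shiftRight i 11)) (Nat.land i 2047)
noncomputable def Btab_s_1_3 (c : Nat) : Nat := @Bool.rec (fun _ => Nat) (Btab_1) (Btab_2) (Nat.ble 2 c)
noncomputable def Btab_s_0_3 (c : Nat) : Nat := @Bool.rec (fun _ => Nat) (Btab_0) (Btab_s_1_3 c) (Nat.ble 1 c)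
noncomputable def Btab_s_4_6 (c : Nat) : Nat := @Bool.rec (fun _ => Nat) (Btab_4) (Btab_5) (Nat.ble 5 c)
noncomputable def Btab_s_3_6 (c : Nat) : Nat := @Bool.rec (fun _ => Nat) (Btab_3) (Btab_s_4_6 c) (Nat.ble 4 c)
noncomputable def Btab_s_0_6 (c : Nat) : Nat := @Bool.rec (fun _ => Nat) (Btab_s_0_3 c) (Btab_s_3_6 c) (Nat.ble 3 c)
noncomputable def Btab_s_7_9 (c : Nat) : Nat := @Bool.rec (fun _ => Nat) (Btab_7) (Btab_8) (Nat.ble 8 c)
noncomputable def Btab_s_6_9 (c : Nat) : Nat := @Bool.rec (fun _ => Nat) (Btab_6) (Btab_s_7_9 c) (Nat.ble 7 c)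
noncomputable def Btab_s_10_12 (c : Nat) : Nat := @Bool.rec (fun _ => Nat) (Btab_10) (Btab_11) (Nat.ble 11 c)
noncomputable def Btab_s_9_12 (c : Nat) : Nat := @Bool.rec (fun _ => Nat) (Btab_9) (Btab_s_10_12 c) (Nat.ble 10 c)
noncomputable def Btab_s_6_12 (c : Nat) : Nat := @Bool.rec (fun _ => Nat) (Btab_s_6_9 c) (Btab_s_9_12 c) (Nat.ble 9 c)
noncomputable def Btab_s_0_12 (c : Nat) : Nat := @Bool.rec (fun _ => Nat) (Btab_s_0_6 c) (Btab_s_6_12 c) (Nat.ble 6 c)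
noncomputable def Btab_s_13_15 (c : Nat) : Nat := @Bool.rec (fun _ => Nat) (Btab_13) (Btab_14) (Nat.ble 14 c)
noncomputable def Btab_s_12_15 (c : Nat) : Nat := @Bool.rec (fun _ => Nat) (Btab_12) (Btab_s_13_15 c) (Nat.ble 13 c)
noncomputable def Btab_s_16_18 (c : Nat) : Nat := @Bool.rec (fun _ => Nat) (Btab_16) (Btab_17) (Nat.ble 17 c)
noncomputable def Btab_s_15_18 (c : Nat) : Nat := @Bool.rec (fun _ => Nat) (Btab_15) (Btab_s_16_18 c) (Nat.ble 16 c)
noncomputable def Btab_s_12_18 (c : Nat) : Nat := @Bool.rec (fun _ => Nat) (Btab_s_12_15 c) (Btab_s_15_18 c) (Nat.ble 15 c)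
noncomputable def Btab_s_19_21 (c : Nat) : Nat := @Bool.rec (fun _ => Nat) (Btab_19) (Btab_20) (Nat.ble 20 c)
noncomputable def Btab_s_18_21 (c : Nat) : Nat := @Bool.rec (fun _ => Nat) (Btab_18) (Btab_s_19_21 c) (Nat.ble 19 c)
noncomputable def Btab_s_22_24 (c : Nat) : Nat := @Bool.rec (fun _ => Nat) (Btab_22) (Btab_23) (Nat.ble 23 c)
noncomputable def Btab_s_21_24 (c : Nat) : Nat := @Bool.rec (fun _ => Nat) (Btab_21) (Btab_s_22_24 c) (Nat.ble 22 c)
noncomputable def Btab_s_18_24 (c : Nat) : Nat := @Bool.rec (fun _ => Nat) (Btab_s_18_21 c) (Btab_s_21_24 c) (Nat.ble 21 c)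
noncomputable def Btab_s_12_24 (c : Nat) : Nat := @Bool.rec (fun _ => Nat) (Btab_s_12_18 c) (Btab_s_18_24 c) (Nat.ble 18 c)
noncomputable def Btab_s_0_24 (c : Nat) : Nat := @Bool.rec (fun _ => Nat) (Btab_s_0_12 c) (Btab_s_12_24 c) (Nat.ble 12 c)
noncomputable def Btab_s_25_27 (c : Nat) : Nat := @Bool.rec (fun _ => Nat) (Btab_25) (Btab_26) (Nat.ble 26 c)
noncomputable def Btab_s_24_27 (c : Nat) : Nat := @Bool.rec (fun _ => Nat) (Btab_24) (Btab_s_25_27 c) (Nat.ble 25 c)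
noncomputable def Btab_s_28_30 (c : Nat) : Nat := @Bool.rec (fun _ => Nat) (Btab_28) (Btab_29) (Nat.ble 29 c)
noncomputable def Btab_s_27_30 (c : Nat) : Nat := @Bool.rec (fun _ => Nat) (Btab_27) (Btab_s_28_30 c) (Nat.ble 28 c)
noncomputable def Btab_s_24_30 (c : Nat) : Nat := @Bool.rec (fun _ => Nat) (Btab_s_24_27 c) (Btab_s_27_30 c) (Nat.ble 27 c)
noncomputable def Btab_s_31_33 (c : Nat) : Nat := @Bool.rec (fun _ => Nat) (Btab_31) (Btab_32) (Nat.ble 32 c)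
noncomputable def Btab_s_30_33 (c : Nat) : Nat := @Bool.rec (fun _ => Nat) (Btab_30) (Btab_s_31_33 c) (Nat.ble 31 c)
noncomputable def Btab_s_34_36 (c : Nat) : Nat := @Bool.rec (fun _ => Nat) (Btab_34) (Btab_35) (Nat.ble 35 c)
noncomputable def Btab_s_33_36 (c : Nat) : Nat := @Bool.rec (fun _ => Nat) (Btab_33) (Btab_s_34_36 c) (Nat.ble 34 c)
noncomputable def Btab_s_30_36 (c : Nat) : Nat := @Bool.rec (fun _ => Nat) (Btab_s_30_33 c) (Btab_s_33_36 c) (Nat.ble 33 c)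
noncomputable def Btab_s_24_36 (c : Nat) : Nat := @Bool.rec (fun _ => Nat) (Btab_s_24_30 c) (Btab_s_30_36 c) (Nat.ble 30 c)
noncomputable def Btab_s_37_39 (c : Nat) : Nat := @Bool.rec (fun _ => Nat) (Btab_37) (Btab_38) (Nat.ble 38 c)
noncomputable def Btab_s_36_39 (c : Nat) : Nat := @Bool.rec (fun _ => Nat) (Btab_36) (Btab_s_37_39 c) (Nat.ble 37 c)
noncomputable def Btab_s_40_42 (c : Nat) : Nat := @Bool.rec (fun _ => Nat) (Btab_40) (Btab_41) (Nat.ble 41 c)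
noncomputable def Btab_s_39_42 (c : Nat) : Nat := @Bool.rec (fun _ => Nat) (Btab_39) (Btab_s_40_42 c) (Nat.ble 40 c)
noncomputable def Btab_s_36_42 (c : Nat) : Nat := @Bool.rec (fun _ => Nat) (Btab_s_36_39 c) (Btab_s_39_42 c) (Nat.ble 39 c)
noncomputable def Btab_s_43_45 (c : Nat) : Nat := @Bool.rec (fun _ => Nat) (Btab_43) (Btab_44) (Nat.ble 44 c)
noncomputable def Btab_s_42_45 (c : Nat) : Nat := @Bool.rec (fun _ => Nat) (Btab_42) (Btab_s_43_45 c) (Nat.ble 43 c)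
noncomputable def Btab_s_46_48 (c : Nat) : Nat := @Bool.rec (fun _ => Nat) (Btab_46) (Btab_47) (Nat.ble 47 c)
noncomputable def Btab_s_45_48 (c : Nat) : Nat := @Bool.rec (fun _ => Nat) (Btab_45) (Btab_s_46_48 c) (Nat.ble 46 c)
noncomputable def Btab_s_42_48 (c : Nat) : Nat := @Bool.rec (fun _ => Nat) (Btab_s_42_45 c) (Btab_s_45_48 c) (Nat.ble 45 c)
noncomputable def Btab_s_36_48 (c : Nat) : Nat := @Bool.rec (fun _ => Nat) (Btab_s_36_42 c) (Btab_s_42_48 c) (Nat.ble 42 c)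
noncomputable def Btab_s_24_48 (c : Nat) : Nat := @Bool.rec (fun _ => Nat) (Btab_s_24_36 c) (Btab_s_36_48 c) (Nat.ble 36 c)
noncomputable def Btab_s_0_48 (c : Nat) : Nat := @Bool.rec (fun _ => Nat) (Btab_s_0_24 c) (Btab_s_24_48 c) (Nat.ble 24 c)
noncomputable def Btab_s_49_51 (c : Nat) : Nat := @Bool.rec (fun _ => Nat) (Btab_49) (Btab_50) (Nat.ble 50 c)
noncomputable def Btab_s_48_51 (c : Nat) : Nat := @Bool.rec (fun _ => Nat) (Btab_48) (Btab_s_49_51 c) (Nat.ble 49 c)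
noncomputable def Btab_s_52_54 (c : Nat) : Nat := @Bool.rec (fun _ => Nat) (Btab_52) (Btab_53) (Nat.ble 53 c)
noncomputable def Btab_s_51_54 (c : Nat) : Nat := @Bool.rec (fun _ => Nat) (Btab_51) (Btab_s_52_54 c) (Nat.ble 52 c)
noncomputable def Btab_s_48_54 (c : Nat) : Nat := @Bool.rec (fun _ => Nat) (Btab_s_48_51 c) (Btab_s_51_54 c) (Nat.ble 51 c)
noncomputable def Btab_s_55_57 (c : Nat) : Nat := @Bool.rec (fun _ => Nat) (Btab_55) (Btab_56) (Nat.ble 56 c)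
noncomputable def Btab_s_54_57 (c : Nat) : Nat := @Bool.rec (fun _ => Nat) (Btab_54) (Btab_s_55_57 c) (Nat.ble 55 c)
noncomputable def Btab_s_58_60 (c : Nat) : Nat := @Bool.rec (fun _ => Nat) (Btab_58) (Btab_59) (Nat.ble 59 c)
noncomputable def Btab_s_57_60 (c : Nat) : Nat := @Bool.rec (fun _ => Nat) (Btab_57) (Btab_s_58_60 c) (Nat.ble 58 c)
noncomputable def Btab_s_54_60 (c : Nat) : Nat := @Bool.rec (fun _ => Nat) (Btab_s_54_57 c) (Btab_s_57_60 c) (Nat.ble 57 c)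
noncomputable def Btab_s_48_60 (c : Nat) : Nat := @Bool.rec (fun _ => Nat) (Btab_s_48_54 c) (Btab_s_54_60 c) (Nat.ble 54 c)
noncomputable def Btab_s_61_63 (c : Nat) : Nat := @Bool.rec (fun _ => Nat) (Btab_61) (Btab_62) (Nat.ble 62 c)
noncomputable def Btab_s_60_63 (c : Nat) : Nat := @Bool.rec (fun _ => Nat) (Btab_60) (Btab_s_61_63 c) (Nat.ble 61 c)
noncomputable def Btab_s_64_66 (c : Nat) : Nat := @Bool.rec (fun _ => Nat) (Btab_64) (Btab_65) (Nat.ble 65 c)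
noncomputable def Btab_s_63_66 (c : Nat) : Nat := @Bool.rec (fun _ => Nat) (Btab_63) (Btab_s_64_66 c) (Nat.ble 64 c)
noncomputable def Btab_s_60_66 (c : Nat) : Nat := @Bool.rec (fun _ => Nat) (Btab_s_60_63 c) (Btab_s_63_66 c) (Nat.ble 63 c)
noncomputable def Btab_s_67_69 (c : Nat) : Nat := @Bool.rec (fun _ => Nat) (Btab_67) (Btab_68) (Nat.ble 68 c)
noncomputable def Btab_s_66_69 (c : Nat) : Nat := @Bool.rec (fun _ => Nat) (Btab_66) (Btab_s_67_69 c) (Nat.ble 67 c)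
noncomputable def Btab_s_70_72 (c : Nat) : Nat := @Bool.rec (fun _ => Nat) (Btab_70) (Btab_71) (Nat.ble 71 c)
noncomputable def Btab_s_69_72 (c : Nat) : Nat := @Bool.rec (fun _ => Nat) (Btab_69) (Btab_s_70_72 c) (Nat.ble 70 c)
noncomputable def Btab_s_66_72 (c : Nat) : Nat := @Bool.rec (fun _ => Nat) (Btab_s_66_69 c) (Btab_s_69_72 c) (Nat.ble 69 c)
noncomputable def Btab_s_60_72 (c : Nat) : Nat := @Bool.rec (fun _ => Nat) (Btab_s_60_66 c) (Btab_s_66_72 c) (Nat.ble 66 c)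
noncomputable def Btab_s_48_72 (c : Nat) : Nat := @Bool.rec (fun _ => Nat) (Btab_s_48_60 c) (Btab_s_60_72 c) (Nat.ble 60 c)
noncomputable def Btab_s_73_75 (c : Nat) : Nat := @Bool.rec (fun _ => Nat) (Btab_73) (Btab_74) (Nat.ble 74 c)
noncomputable def Btab_s_72_75 (c : Nat) : Nat := @Bool.rec (fun _ => Nat) (Btab_72) (Btab_s_73_75 c) (Nat.ble 73 c)
noncomputable def Btab_s_76_78 (c : Nat) : Nat := @Bool.rec (fun _ => Nat) (Btab_76) (Btab_77) (Nat.ble 77 c)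
noncomputable def Btab_s_75_78 (c : Nat) : Nat := @Bool.rec (fun _ => Nat) (Btab_75) (Btab_s_76_78 c) (Nat.ble 76 c)
noncomputable def Btab_s_72_78 (c : Nat) : Nat := @Bool.rec (fun _ => Nat) (Btab_s_72_75 c) (Btab_s_75_78 c) (Nat.ble 75 c)
noncomputable def Btab_s_79_81 (c : Nat) : Nat := @Bool.rec (fun _ => Nat) (Btab_79) (Btab_80) (Nat.ble 80 c)
noncomputable def Btab_s_78_81 (c : Nat) : Nat := @Bool.rec (fun _ => Nat) (Btab_78) (Btab_s_79_81 c) (Nat.ble 79 c)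
noncomputable def Btab_s_82_84 (c : Nat) : Nat := @Bool.rec (fun _ => Nat) (Btab_82) (Btab_83) (Nat.ble 83 c)
noncomputable def Btab_s_81_84 (c : Nat) : Nat := @Bool.rec (fun _ => Nat) (Btab_81) (Btab_s_82_84 c) (Nat.ble 82 c)
noncomputable def Btab_s_78_84 (c : Nat) : Nat := @Bool.rec (fun _ => Nat) (Btab_s_78_81 c) (Btab_s_81_84 c) (Nat.ble 81 c)
noncomputable def Btab_s_72_84 (c : Nat) : Nat := @Bool.rec (fun _ => Nat) (Btab_s_72_78 c) (Btab_s_78_84 c) (Nat.ble 78 c)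
noncomputable def Btab_s_85_87 (c : Nat) : Nat := @Bool.rec (fun _ => Nat) (Btab_85) (Btab_86) (Nat.ble 86 c)
noncomputable def Btab_s_84_87 (c : Nat) : Nat := @Bool.rec (fun _ => Nat) (Btab_84) (Btab_s_85_87 c) (Nat.ble 85 c)
noncomputable def Btab_s_88_90 (c : Nat) : Nat := @Bool.rec (fun _ => Nat) (Btab_88) (Btab_89) (Nat.ble 89 c)
noncomputable def Btab_s_87_90 (c : Nat) : Nat := @Bool.rec (fun _ => Nat) (Btab_87) (Btab_s_88_90 c) (Nat.ble 88 c)
noncomputable def Btab_s_84_90 (c : Nat) : Nat := @Bool.rec (fun _ => Nat) (Btab_s_84_87 c) (Btab_s_87_90 c) (Nat.ble 87 c)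
noncomputable def Btab_s_91_93 (c : Nat) : Nat := @Bool.rec (fun _ => Nat) (Btab_91) (Btab_92) (Nat.ble 92 c)
noncomputable def Btab_s_90_93 (c : Nat) : Nat := @Bool.rec (fun _ => Nat) (Btab_90) (Btab_s_91_93 c) (Nat.ble 91 c)
noncomputable def Btab_s_93_95 (c : Nat) : Nat := @Bool.rec (fun _ => Nat) (Btab_93) (Btab_94) (Nat.ble 94 c)
noncomputable def Btab_s_95_97 (c : Nat) : Nat := @Bool.rec (fun _ => Nat) (Btab_95) (Btab_96) (Nat.ble 96 c)
noncomputable def Btab_s_93_97 (c : Nat) : Nat := @Bool.rec (fun _ => Nat) (Btab_s_93_95 c) (Btab_s_95_97 c) (Nat.ble 95 c)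
noncomputable def Btab_s_90_97 (c : Nat) : Nat := @Bool.rec (fun _ => Nat) (Btab_s_90_93 c) (Btab_s_93_97 c) (Nat.ble 93 c)
noncomputable def Btab_s_84_97 (c : Nat) : Nat := @Bool.rec (fun _ => Nat) (Btab_s_84_90 c) (Btab_s_90_97 c) (Nat.ble 90 c)
noncomputable def Btab_s_72_97 (c : Nat) : Nat := @Bool.rec (fun _ => Nat) (Btab_s_72_84 c) (Btab_s_84_97 c) (Nat.ble 84 c)
noncomputable def Btab_s_48_97 (c : Nat) : Nat := @Bool.rec (fun _ => Nat) (Btab_s_48_72 c) (Btab_s_72_97 c) (Nat.ble 72 c)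
noncomputable def Btab_s_0_97 (c : Nat) : Nat := @Bool.rec (fun _ => Nat) (Btab_s_0_48 c) (Btab_s_48_97 c) (Nat.ble 48 c)
noncomputable def Btab_s_98_100 (c : Nat) : Nat := @Bool.rec (fun _ => Nat) (Btab_98) (Btab_99) (Nat.ble 99 c)
noncomputable def Btab_s_97_100 (c : Nat) : Nat := @Bool.rec (fun _ => Nat) (Btab_97) (Btab_s_98_100 c) (Nat.ble 98 c)
noncomputable def Btab_s_101_103 (c : Nat) : Nat := @Bool.rec (fun _ => Nat) (Btab_101) (Btab_102) (Nat.ble 102 c)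
noncomputable def Btab_s_100_103 (c : Nat) : Nat := @Bool.rec (fun _ => Nat) (Btab_100) (Btab_s_101_103 c) (Nat.ble 101 c)
noncomputable def Btab_s_97_103 (c : Nat) : Nat := @Bool.rec (fun _ => Nat) (Btab_s_97_100 c) (Btab_s_100_103 c) (Nat.ble 100 c)
noncomputable def Btab_s_104_106 (c : Nat) : Nat := @Bool.rec (fun _ => Nat) (Btab_104) (Btab_105) (Nat.ble 105 c)
noncomputable def Btab_s_103_106 (c : Nat) : Nat := @Bool.rec (fun _ => Nat) (Btab_103) (Btab_s_104_106 c) (Nat.ble 104 c)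
noncomputable def Btab_s_107_109 (c : Nat) : Nat := @Bool.rec (fun _ => Nat) (Btab_107) (Btab_108) (Nat.ble 108 c)
noncomputable def Btab_s_106_109 (c : Nat) : Nat := @Bool.rec (fun _ => Nat) (Btab_106) (Btab_s_107_109 c) (Nat.ble 107 c)
noncomputable def Btab_s_103_109 (c : Nat) : Nat := @Bool.rec (fun _ => Nat) (Btab_s_103_106 c) (Btab_s_106_109 c) (Nat.ble 106 c)
noncomputable def Btab_s_97_109 (c : Nat) : Nat := @Bool.rec (fun _ => Nat) (Btab_s_97_103 c) (Btab_s_103_109 c) (Nat.ble 103 c)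
noncomputable def Btab_s_110_112 (c : Nat) : Nat := @Bool.rec (fun _ => Nat) (Btab_110) (Btab_111) (Nat.ble 111 c)
noncomputable def Btab_s_109_112 (c : Nat) : Nat := @Bool.rec (fun _ => Nat) (Btab_109) (Btab_s_110_112 c) (Nat.ble 110 c)
noncomputable def Btab_s_113_115 (c : Nat) : Nat := @Bool.rec (fun _ => Nat) (Btab_113) (Btab_114) (Nat.ble 114 c)
noncomputable def Btab_s_112_115 (c : Nat) : Nat := @Bool.rec (fun _ => Nat) (Btab_112) (Btab_s_113_115 c) (Nat.ble 113 c)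
noncomputable def Btab_s_109_115 (c : Nat) : Nat := @Bool.rec (fun _ => Nat) (Btab_s_109_112 c) (Btab_s_112_115 c) (Nat.ble 112 c)
noncomputable def Btab_s_116_118 (c : Nat) : Nat := @Bool.rec (fun _ => Nat) (Btab_116) (Btab_117) (Nat.ble 117 c)
noncomputable def Btab_s_115_118 (c : Nat) : Nat := @Bool.rec (fun _ => Nat) (Btab_115) (Btab_s_116_118 c) (Nat.ble 116 c)
noncomputable def Btab_s_119_121 (c : Nat) : Nat := @Bool.rec (fun _ => Nat) (Btab_119) (Btab_120) (Nat.ble 120 c)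
noncomputable def Btab_s_118_121 (c : Nat) : Nat := @Bool.rec (fun _ => Nat) (Btab_118) (Btab_s_119_121 c) (Nat.ble 119 c)
noncomputable def Btab_s_115_121 (c : Nat) : Nat := @Bool.rec (fun _ => Nat) (Btab_s_115_118 c) (Btab_s_118_121 c) (Nat.ble 118 c)
noncomputable def Btab_s_109_121 (c : Nat) : Nat := @Bool.rec (fun _ => Nat) (Btab_s_109_115 c) (Btab_s_115_121 c) (Nat.ble 115 c)
noncomputable def Btab_s_97_121 (c : Nat) : Nat := @Bool.rec (fun _ => Nat) (Btab_s_97_109 c) (Btab_s_109_121 c) (Nat.ble 109 c)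
noncomputable def Btab_s_122_124 (c : Nat) : Nat := @Bool.rec (fun _ => Nat) (Btab_122) (Btab_123) (Nat.ble 123 c)
noncomputable def Btab_s_121_124 (c : Nat) : Nat := @Bool.rec (fun _ => Nat) (Btab_121) (Btab_s_122_124 c) (Nat.ble 122 c)
noncomputable def Btab_s_125_127 (c : Nat) : Nat := @Bool.rec (fun _ => Nat) (Btab_125) (Btab_126) (Nat.ble 126 c)
noncomputable def Btab_s_124_127 (c : Nat) : Nat := @Bool.rec (fun _ => Nat) (Btab_124) (Btab_s_125_127 c) (Nat.ble 125 c)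
noncomputable def Btab_s_121_127 (c : Nat) : Nat := @Bool.rec (fun _ => Nat) (Btab_s_121_124 c) (Btab_s_124_127 c) (Nat.ble 124 c)
noncomputable def Btab_s_128_130 (c : Nat) : Nat := @Bool.rec (fun _ => Nat) (Btab_128) (Btab_129) (Nat.ble 129 c)
noncomputable def Btab_s_127_130 (c : Nat) : Nat := @Bool.rec (fun _ => Nat) (Btab_127) (Btab_s_128_130 c) (Nat.ble 128 c)
noncomputable def Btab_s_131_133 (c : Nat) : Nat := @Bool.rec (fun _ => Nat) (Btab_131) (Btab_132) (Nat.ble 132 c)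
noncomputable def Btab_s_130_133 (c : Nat) : Nat := @Bool.rec (fun _ => Nat) (Btab_130) (Btab_s_131_133 c) (Nat.ble 131 c)
noncomputable def Btab_s_127_133 (c : Nat) : Nat := @Bool.rec (fun _ => Nat) (Btab_s_127_130 c) (Btab_s_130_133 c) (Nat.ble 130 c)
noncomputable def Btab_s_121_133 (c : Nat) : Nat := @Bool.rec (fun _ => Nat) (Btab_s_121_127 c) (Btab_s_127_133 c) (Nat.ble 127 c)
noncomputable def Btab_s_134_136 (c : Nat) : Nat := @Bool.rec (fun _ => Nat) (Btab_134) (Btab_135) (Nat.ble 135 c)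
noncomputable def Btab_s_133_136 (c : Nat) : Nat := @Bool.rec (fun _ => Nat) (Btab_133) (Btab_s_134_136 c) (Nat.ble 134 c)
noncomputable def Btab_s_137_139 (c : Nat) : Nat := @Bool.rec (fun _ => Nat) (Btab_137) (Btab_138) (Nat.ble 138 c)
noncomputable def Btab_s_136_139 (c : Nat) : Nat := @Bool.rec (fun _ => Nat) (Btab_136) (Btab_s_137_139 c) (Nat.ble 137 c)
noncomputable def Btab_s_133_139 (c : Nat) : Nat := @Bool.rec (fun _ => Nat) (Btab_s_133_136 c) (Btab_s_136_139 c) (Nat.ble 136 c)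
noncomputable def Btab_s_140_142 (c : Nat) : Nat := @Bool.rec (fun _ => Nat) (Btab_140) (Btab_141) (Nat.ble 141 c)
noncomputable def Btab_s_139_142 (c : Nat) : Nat := @Bool.rec (fun _ => Nat) (Btab_139) (Btab_s_140_142 c) (Nat.ble 140 c)
noncomputable def Btab_s_142_144 (c : Nat) : Nat := @Bool.rec (fun _ => Nat) (Btab_142) (Btab_143) (Nat.ble 143 c)
noncomputable def Btab_s_144_146 (c : Nat) : Nat := @Bool.rec (fun _ => Nat) (Btab_144) (Btab_145) (Nat.ble 145 c)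
noncomputable def Btab_s_142_146 (c : Nat) : Nat := @Bool.rec (fun _ => Nat) (Btab_s_142_144 c) (Btab_s_144_146 c) (Nat.ble 144 c)
noncomputable def Btab_s_139_146 (c : Nat) : Nat := @Bool.rec (fun _ => Nat) (Btab_s_139_142 c) (Btab_s_142_146 c) (Nat.ble 142 c)
noncomputable def Btab_s_133_146 (c : Nat) : Nat := @Bool.rec (fun _ => Nat) (Btab_s_133_139 c) (Btab_s_139_146 c) (Nat.ble 139 c)
noncomputable def Btab_s_121_146 (c : Nat) : Nat := @Bool.rec (fun _ => Nat) (Btab_s_121_133 c) (Btab_s_133_146 c) (Nat.ble 133 c)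
noncomputable def Btab_s_97_146 (c : Nat) : Nat := @Bool.rec (fun _ => Nat) (Btab_s_97_121 c) (Btab_s_121_146 c) (Nat.ble 121 c)
noncomputable def Btab_s_147_149 (c : Nat) : Nat := @Bool.rec (fun _ => Nat) (Btab_147) (Btab_148) (Nat.ble 148 c)
noncomputable def Btab_s_146_149 (c : Nat) : Nat := @Bool.rec (fun _ => Nat) (Btab_146) (Btab_s_147_149 c) (Nat.ble 147 c)
noncomputable def Btab_s_150_152 (c : Nat) : Nat := @Bool.rec (fun _ => Nat) (Btab_150) (Btab_151) (Nat.ble 151 c)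
noncomputable def Btab_s_149_152 (c : Nat) : Nat := @Bool.rec (fun _ => Nat) (Btab_149) (Btab_s_150_152 c) (Nat.ble 150 c)
noncomputable def Btab_s_146_152 (c : Nat) : Nat := @Bool.rec (fun _ => Nat) (Btab_s_146_149 c) (Btab_s_149_152 c) (Nat.ble 149 c)
noncomputable def Btab_s_153_155 (c : Nat) : Nat := @Bool.rec (fun _ => Nat) (Btab_153) (Btab_154) (Nat.ble 154 c)
noncomputable def Btab_s_152_155 (c : Nat) : Nat := @Bool.rec (fun _ => Nat) (Btab_152) (Btab_s_153_155 c) (Nat.ble 153 c)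
noncomputable def Btab_s_156_158 (c : Nat) : Nat := @Bool.rec (fun _ => Nat) (Btab_156) (Btab_157) (Nat.ble 157 c)
noncomputable def Btab_s_155_158 (c : Nat) : Nat := @Bool.rec (fun _ => Nat) (Btab_155) (Btab_s_156_158 c) (Nat.ble 156 c)
noncomputable def Btab_s_152_158 (c : Nat) : Nat := @Bool.rec (fun _ => Nat) (Btab_s_152_155 c) (Btab_s_155_158 c) (Nat.ble 155 c)
noncomputable def Btab_s_146_158 (c : Nat) : Nat := @Bool.rec (fun _ => Nat) (Btab_s_146_152 c) (Btab_s_152_158 c) (Nat.ble 152 c)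
noncomputable def Btab_s_159_161 (c : Nat) : Nat := @Bool.rec (fun _ => Nat) (Btab_159) (Btab_160) (Nat.ble 160 c)
noncomputable def Btab_s_158_161 (c : Nat) : Nat := @Bool.rec (fun _ => Nat) (Btab_158) (Btab_s_159_161 c) (Nat.ble 159 c)
noncomputable def Btab_s_162_164 (c : Nat) : Nat := @Bool.rec (fun _ => Nat) (Btab_162) (Btab_163) (Nat.ble 163 c)
noncomputable def Btab_s_161_164 (c : Nat) : Nat := @Bool.rec (fun _ => Nat) (Btab_161) (Btab_s_162_164 c) (Nat.ble 162 c)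
noncomputable def Btab_s_158_164 (c : Nat) : Nat := @Bool.rec (fun _ => Nat) (Btab_s_158_161 c) (Btab_s_161_164 c) (Nat.ble 161 c)
noncomputable def Btab_s_165_167 (c : Nat) : Nat := @Bool.rec (fun _ => Nat) (Btab_165) (Btab_166) (Nat.ble 166 c)
noncomputable def Btab_s_164_167 (c : Nat) : Nat := @Bool.rec (fun _ => Nat) (Btab_164) (Btab_s_165_167 c) (Nat.ble 165 c)
noncomputable def Btab_s_168_170 (c : Nat) : Nat := @Bool.rec (fun _ => Nat) (Btab_168) (Btab_169) (Nat.ble 169 c)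
noncomputable def Btab_s_167_170 (c : Nat) : Nat := @Bool.rec (fun _ => Nat) (Btab_167) (Btab_s_168_170 c) (Nat.ble 168 c)
noncomputable def Btab_s_164_170 (c : Nat) : Nat := @Bool.rec (fun _ => Nat) (Btab_s_164_167 c) (Btab_s_167_170 c) (Nat.ble 167 c)
noncomputable def Btab_s_158_170 (c : Nat) : Nat := @Bool.rec (fun _ => Nat) (Btab_s_158_164 c) (Btab_s_164_170 c) (Nat.ble 164 c)
noncomputable def Btab_s_146_170 (c : Nat) : Nat := @Bool.rec (fun _ => Nat) (Btab_s_146_158 c) (Btab_s_158_170 c) (Nat.ble 158 c)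
noncomputable def Btab_s_171_173 (c : Nat) : Nat := @Bool.rec (fun _ => Nat) (Btab_171) (Btab_172) (Nat.ble 172 c)
noncomputable def Btab_s_170_173 (c : Nat) : Nat := @Bool.rec (fun _ => Nat) (Btab_170) (Btab_s_171_173 c) (Nat.ble 171 c)
noncomputable def Btab_s_174_176 (c : Nat) : Nat := @Bool.rec (fun _ => Nat) (Btab_174) (Btab_175) (Nat.ble 175 c)
noncomputable def Btab_s_173_176 (c : Nat) : Nat := @Bool.rec (fun _ => Nat) (Btab_173) (Btab_s_174_176 c) (Nat.ble 174 c)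
noncomputable def Btab_s_170_176 (c : Nat) : Nat := @Bool.rec (fun _ => Nat) (Btab_s_170_173 c) (Btab_s_173_176 c) (Nat.ble 173 c)
noncomputable def Btab_s_177_179 (c : Nat) : Nat := @Bool.rec (fun _ => Nat) (Btab_177) (Btab_178) (Nat.ble 178 c)
noncomputable def Btab_s_176_179 (c : Nat) : Nat := @Bool.rec (fun _ => Nat) (Btab_176) (Btab_s_177_179 c) (Nat.ble 177 c)
noncomputable def Btab_s_180_182 (c : Nat) : Nat := @Bool.rec (fun _ => Nat) (Btab_180) (Btab_181) (Nat.ble 181 c)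
noncomputable def Btab_s_179_182 (c : Nat) : Nat := @Bool.rec (fun _ => Nat) (Btab_179) (Btab_s_180_182 c) (Nat.ble 180 c)
noncomputable def Btab_s_176_182 (c : Nat) : Nat := @Bool.rec (fun _ => Nat) (Btab_s_176_179 c) (Btab_s_179_182 c) (Nat.ble 179 c)
noncomputable def Btab_s_170_182 (c : Nat) : Nat := @Bool.rec (fun _ => Nat) (Btab_s_170_176 c) (Btab_s_176_182 c) (Nat.ble 176 c)
noncomputable def Btab_s_183_185 (c : Nat) : Nat := @Bool.rec (fun _ => Nat) (Btab_183) (Btab_184) (Nat.ble 184 c)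
noncomputable def Btab_s_182_185 (c : Nat) : Nat := @Bool.rec (fun _ => Nat) (Btab_182) (Btab_s_183_185 c) (Nat.ble 183 c)
noncomputable def Btab_s_186_188 (c : Nat) : Nat := @Bool.rec (fun _ => Nat) (Btab_186) (Btab_187) (Nat.ble 187 c)
noncomputable def Btab_s_185_188 (c : Nat) : Nat := @Bool.rec (fun _ => Nat) (Btab_185) (Btab_s_186_188 c) (Nat.ble 186 c)
noncomputable def Btab_s_182_188 (c : Nat) : Nat := @Bool.rec (fun _ => Nat) (Btab_s_182_185 c) (Btab_s_185_188 c) (Nat.ble 185 c)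
noncomputable def Btab_s_189_191 (c : Nat) : Nat := @Bool.rec (fun _ => Nat) (Btab_189) (Btab_190) (Nat.ble 190 c)
noncomputable def Btab_s_188_191 (c : Nat) : Nat := @Bool.rec (fun _ => Nat) (Btab_188) (Btab_s_189_191 c) (Nat.ble 189 c)
noncomputable def Btab_s_191_193 (c : Nat) : Nat := @Bool.rec (fun _ => Nat) (Btab_191) (Btab_192) (Nat.ble 192 c)
noncomputable def Btab_s_193_195 (c : Nat) : Nat := @Bool.rec (fun _ => Nat) (Btab_193) (Btab_194) (Nat.ble 194 c)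
noncomputable def Btab_s_191_195 (c : Nat) : Nat := @Bool.rec (fun _ => Nat) (Btab_s_191_193 c) (Btab_s_193_195 c) (Nat.ble 193 c)
noncomputable def Btab_s_188_195 (c : Nat) : Nat := @Bool.rec (fun _ => Nat) (Btab_s_188_191 c) (Btab_s_191_195 c) (Nat.ble 191 c)
noncomputable def Btab_s_182_195 (c : Nat) : Nat := @Bool.rec (fun _ => Nat) (Btab_s_182_188 c) (Btab_s_188_195 c) (Nat.ble 188 c)
noncomputable def Btab_s_170_195 (c : Nat) : Nat := @Bool.rec (fun _ => Nat) (Btab_s_170_182 c) (Btab_s_182_195 c) (Nat.ble 182 c)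
noncomputable def Btab_s_146_195 (c : Nat) : Nat := @Bool.rec (fun _ => Nat) (Btab_s_146_170 c) (Btab_s_170_195 c) (Nat.ble 170 c)
noncomputable def Btab_s_97_195 (c : Nat) : Nat := @Bool.rec (fun _ => Nat) (Btab_s_97_146 c) (Btab_s_146_195 c) (Nat.ble 146 c)
noncomputable def Btab_s_0_195 (c : Nat) : Nat := @Bool.rec (fun _ => Nat) (Btab_s_0_97 c) (Btab_s_97_195 c) (Nat.ble 97 c)
noncomputable def Btab (i : Nat) : Nat := rdw 41 2199023255551 (Btab_s_0_195 (Nat.shiftRight i 11)) (Nat.land i 2047)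
noncomputable def Ptab_s_0_2 (c : Nat) : Nat := @Bool.rec (fun _ => Nat) (Ptab_0) (Ptab_1) (Nat.ble 1 c)
noncomputable def Ptab_s_3_5 (c : Nat) : Nat := @Bool.rec (fun _ => Nat) (Ptab_3) (Ptab_4) (Nat.ble 4 c)
noncomputable def Ptab_s_2_5 (c : Nat) : Nat := @Bool.rec (fun _ => Nat) (Ptab_2) (Ptab_s_3_5 c) (Nat.ble 3 c)
noncomputable def Ptab_s_0_5 (c : Nat) : Nat := @Bool.rec (fun _ => Nat) (Ptab_s_0_2 c) (Ptab_s_2_5 c) (Nat.ble 2 c)
noncomputable def Ptab_s_6_8 (c : Nat) : Nat := @Bool.rec (fun _ => Nat) (Ptab_6) (Ptab_7) (Nat.ble 7 c)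
noncomputable def Ptab_s_5_8 (c : Nat) : Nat := @Bool.rec (fun _ => Nat) (Ptab_5) (Ptab_s_6_8 c) (Nat.ble 6 c)
noncomputable def Ptab_s_9_11 (c : Nat) : Nat := @Bool.rec (fun _ => Nat) (Ptab_9) (Ptab_10) (Nat.ble 10 c)
noncomputable def Ptab_s_8_11 (c : Nat) : Nat := @Bool.rec (fun _ => Nat) (Ptab_8) (Ptab_s_9_11 c) (Nat.ble 9 c)
noncomputable def Ptab_s_5_11 (c : Nat) : Nat := @Bool.rec (fun _ => Nat) (Ptab_s_5_8 c) (Ptab_s_8_11 c) (Nat.ble 8 c)
noncomputable def Ptab_s_0_11 (c : Nat) : Nat := @Bool.rec (fun _ => Nat) (Ptab_s_0_5 c) (Ptab_s_5_11 c) (Nat.ble 5 c)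
noncomputable def Ptab_s_11_13 (c : Nat) : Nat := @Bool.rec (fun _ => Nat) (Ptab_11) (Ptab_12) (Nat.ble 12 c)
noncomputable def Ptab_s_14_16 (c : Nat) : Nat := @Bool.rec (fun _ => Nat) (Ptab_14) (Ptab_15) (Nat.ble 15 c)
noncomputable def Ptab_s_13_16 (c : Nat) : Nat := @Bool.rec (fun _ => Nat) (Ptab_13) (Ptab_s_14_16 c) (Nat.ble 14 c)
noncomputable def Ptab_s_11_16 (c : Nat) : Nat := @Bool.rec (fun _ => Nat) (Ptab_s_11_13 c) (Ptab_s_13_16 c) (Nat.ble 13 c)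
noncomputable def Ptab_s_17_19 (c : Nat) : Nat := @Bool.rec (fun _ => Nat) (Ptab_17) (Ptab_18) (Nat.ble 18 c)
noncomputable def Ptab_s_16_19 (c : Nat) : Nat := @Bool.rec (fun _ => Nat) (Ptab_16) (Ptab_s_17_19 c) (Nat.ble 17 c)
noncomputable def Ptab_s_20_22 (c : Nat) : Nat := @Bool.rec (fun _ => Nat) (Ptab_20) (Ptab_21) (Nat.ble 21 c)
noncomputable def Ptab_s_19_22 (c : Nat) : Nat := @Bool.rec (fun _ => Nat) (Ptab_19) (Ptab_s_20_22 c) (Nat.ble 20 c)
noncomputable def Ptab_s_16_22 (c : Nat) : Nat := @Bool.rec (fun _ => Nat) (Ptab_s_16_19 c) (Ptab_s_19_22 c) (Nat.ble 19 c)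
noncomputable def Ptab_s_11_22 (c : Nat) : Nat := @Bool.rec (fun _ => Nat) (Ptab_s_11_16 c) (Ptab_s_16_22 c) (Nat.ble 16 c)
noncomputable def Ptab_s_0_22 (c : Nat) : Nat := @Bool.rec (fun _ => Nat) (Ptab_s_0_11 c) (Ptab_s_11_22 c) (Nat.ble 11 c)
noncomputable def Ptab_s_22_24 (c : Nat) : Nat := @Bool.rec (fun _ => Nat) (Ptab_22) (Ptab_23) (Nat.ble 23 c)
noncomputable def Ptab_s_25_27 (c : Nat) : Nat := @Bool.rec (fun _ => Nat) (Ptab_25) (Ptab_26) (Nat.ble 26 c)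
noncomputable def Ptab_s_24_27 (c : Nat) : Nat := @Bool.rec (fun _ => Nat) (Ptab_24) (Ptab_s_25_27 c) (Nat.ble 25 c)
noncomputable def Ptab_s_22_27 (c : Nat) : Nat := @Bool.rec (fun _ => Nat) (Ptab_s_22_24 c) (Ptab_s_24_27 c) (Nat.ble 24 c)
noncomputable def Ptab_s_28_30 (c : Nat) : Nat := @Bool.rec (fun _ => Nat) (Ptab_28) (Ptab_29) (Nat.ble 29 c)
noncomputable def Ptab_s_27_30 (c : Nat) : Nat := @Bool.rec (fun _ => Nat) (Ptab_27) (Ptab_s_28_30 c) (Nat.ble 28 c)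
noncomputable def Ptab_s_31_33 (c : Nat) : Nat := @Bool.rec (fun _ => Nat) (Ptab_31) (Ptab_32) (Nat.ble 32 c)
noncomputable def Ptab_s_30_33 (c : Nat) : Nat := @Bool.rec (fun _ => Nat) (Ptab_30) (Ptab_s_31_33 c) (Nat.ble 31 c)
noncomputable def Ptab_s_27_33 (c : Nat) : Nat := @Bool.rec (fun _ => Nat) (Ptab_s_27_30 c) (Ptab_s_30_33 c) (Nat.ble 30 c)
noncomputable def Ptab_s_22_33 (c : Nat) : Nat := @Bool.rec (fun _ => Nat) (Ptab_s_22_27 c) (Ptab_s_27_33 c) (Nat.ble 27 c)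
noncomputable def Ptab_s_33_35 (c : Nat) : Nat := @Bool.rec (fun _ => Nat) (Ptab_33) (Ptab_34) (Nat.ble 34 c)
noncomputable def Ptab_s_36_38 (c : Nat) : Nat := @Bool.rec (fun _ => Nat) (Ptab_36) (Ptab_37) (Nat.ble 37 c)
noncomputable def Ptab_s_35_38 (c : Nat) : Nat := @Bool.rec (fun _ => Nat) (Ptab_35) (Ptab_s_36_38 c) (Nat.ble 36 c)
noncomputable def Ptab_s_33_38 (c : Nat) : Nat := @Bool.rec (fun _ => Nat) (Ptab_s_33_35 c) (Ptab_s_35_38 c) (Nat.ble 35 c)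
noncomputable def Ptab_s_39_41 (c : Nat) : Nat := @Bool.rec (fun _ => Nat) (Ptab_39) (Ptab_40) (Nat.ble 40 c)
noncomputable def Ptab_s_38_41 (c : Nat) : Nat := @Bool.rec (fun _ => Nat) (Ptab_38) (Ptab_s_39_41 c) (Nat.ble 39 c)
noncomputable def Ptab_s_42_44 (c : Nat) : Nat := @Bool.rec (fun _ => Nat) (Ptab_42) (Ptab_43) (Nat.ble 43 c)
noncomputable def Ptab_s_41_44 (c : Nat) : Nat := @Bool.rec (fun _ => Nat) (Ptab_41) (Ptab_s_42_44 c) (Nat.ble 42 c)
noncomputable def Ptab_s_38_44 (c : Nat) : Nat := @Bool.rec (fun _ => Nat) (Ptab_s_38_41 c) (Ptab_s_41_44 c) (Nat.ble 41 c)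
noncomputable def Ptab_s_33_44 (c : Nat) : Nat := @Bool.rec (fun _ => Nat) (Ptab_s_33_38 c) (Ptab_s_38_44 c) (Nat.ble 38 c)
noncomputable def Ptab_s_22_44 (c : Nat) : Nat := @Bool.rec (fun _ => Nat) (Ptab_s_22_33 c) (Ptab_s_33_44 c) (Nat.ble 33 c)
noncomputable def Ptab_s_0_44 (c : Nat) : Nat := @Bool.rec (fun _ => Nat) (Ptab_s_0_22 c) (Ptab_s_22_44 c) (Nat.ble 22 c)
noncomputable def Ptab_s_44_46 (c : Nat) : Nat := @Bool.rec (fun _ => Nat) (Ptab_44) (Ptab_45) (Nat.ble 45 c)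
noncomputable def Ptab_s_47_49 (c : Nat) : Nat := @Bool.rec (fun _ => Nat) (Ptab_47) (Ptab_48) (Nat.ble 48 c)
noncomputable def Ptab_s_46_49 (c : Nat) : Nat := @Bool.rec (fun _ => Nat) (Ptab_46) (Ptab_s_47_49 c) (Nat.ble 47 c)
noncomputable def Ptab_s_44_49 (c : Nat) : Nat := @Bool.rec (fun _ => Nat) (Ptab_s_44_46 c) (Ptab_s_46_49 c) (Nat.ble 46 c)
noncomputable def Ptab_s_50_52 (c : Nat) : Nat := @Bool.rec (fun _ => Nat) (Ptab_50) (Ptab_51) (Nat.ble 51 c)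
noncomputable def Ptab_s_49_52 (c : Nat) : Nat := @Bool.rec (fun _ => Nat) (Ptab_49) (Ptab_s_50_52 c) (Nat.ble 50 c)
noncomputable def Ptab_s_53_55 (c : Nat) : Nat := @Bool.rec (fun _ => Nat) (Ptab_53) (Ptab_54) (Nat.ble 54 c)
noncomputable def Ptab_s_52_55 (c : Nat) : Nat := @Bool.rec (fun _ => Nat) (Ptab_52) (Ptab_s_53_55 c) (Nat.ble 53 c)
noncomputable def Ptab_s_49_55 (c : Nat) : Nat := @Bool.rec (fun _ => Nat) (Ptab_s_49_52 c) (Ptab_s_52_55 c) (Nat.ble 52 c)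
noncomputable def Ptab_s_44_55 (c : Nat) : Nat := @Bool.rec (fun _ => Nat) (Ptab_s_44_49 c) (Ptab_s_49_55 c) (Nat.ble 49 c)
noncomputable def Ptab_s_55_57 (c : Nat) : Nat := @Bool.rec (fun _ => Nat) (Ptab_55) (Ptab_56) (Nat.ble 56 c)
noncomputable def Ptab_s_58_60 (c : Nat) : Nat := @Bool.rec (fun _ => Nat) (Ptab_58) (Ptab_59) (Nat.ble 59 c)
noncomputable def Ptab_s_57_60 (c : Nat) : Nat := @Bool.rec (fun _ => Nat) (Ptab_57) (Ptab_s_58_60 c) (Nat.ble 58 c)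
noncomputable def Ptab_s_55_60 (c : Nat) : Nat := @Bool.rec (fun _ => Nat) (Ptab_s_55_57 c) (Ptab_s_57_60 c) (Nat.ble 57 c)
noncomputable def Ptab_s_61_63 (c : Nat) : Nat := @Bool.rec (fun _ => Nat) (Ptab_61) (Ptab_62) (Nat.ble 62 c)
noncomputable def Ptab_s_60_63 (c : Nat) : Nat := @Bool.rec (fun _ => Nat) (Ptab_60) (Ptab_s_61_63 c) (Nat.ble 61 c)
noncomputable def Ptab_s_64_66 (c : Nat) : Nat := @Bool.rec (fun _ => Nat) (Ptab_64) (Ptab_65) (Nat.ble 65 c)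
noncomputable def Ptab_s_63_66 (c : Nat) : Nat := @Bool.rec (fun _ => Nat) (Ptab_63) (Ptab_s_64_66 c) (Nat.ble 64 c)
noncomputable def Ptab_s_60_66 (c : Nat) : Nat := @Bool.rec (fun _ => Nat) (Ptab_s_60_63 c) (Ptab_s_63_66 c) (Nat.ble 63 c)
noncomputable def Ptab_s_55_66 (c : Nat) : Nat := @Bool.rec (fun _ => Nat) (Ptab_s_55_60 c) (Ptab_s_60_66 c) (Nat.ble 60 c)
noncomputable def Ptab_s_44_66 (c : Nat) : Nat := @Bool.rec (fun _ => Nat) (Ptab_s_44_55 c) (Ptab_s_55_66 c) (Nat.ble 55 c)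
noncomputable def Ptab_s_66_68 (c : Nat) : Nat := @Bool.rec (fun _ => Nat) (Ptab_66) (Ptab_67) (Nat.ble 67 c)
noncomputable def Ptab_s_69_71 (c : Nat) : Nat := @Bool.rec (fun _ => Nat) (Ptab_69) (Ptab_70) (Nat.ble 70 c)
noncomputable def Ptab_s_68_71 (c : Nat) : Nat := @Bool.rec (fun _ => Nat) (Ptab_68) (Ptab_s_69_71 c) (Nat.ble 69 c)
noncomputable def Ptab_s_66_71 (c : Nat) : Nat := @Bool.rec (fun _ => Nat) (Ptab_s_66_68 c) (Ptab_s_68_71 c) (Nat.ble 68 c)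
noncomputable def Ptab_s_72_74 (c : Nat) : Nat := @Bool.rec (fun _ => Nat) (Ptab_72) (Ptab_73) (Nat.ble 73 c)
noncomputable def Ptab_s_71_74 (c : Nat) : Nat := @Bool.rec (fun _ => Nat) (Ptab_71) (Ptab_s_72_74 c) (Nat.ble 72 c)
noncomputable def Ptab_s_75_77 (c : Nat) : Nat := @Bool.rec (fun _ => Nat) (Ptab_75) (Ptab_76) (Nat.ble 76 c)
noncomputable def Ptab_s_74_77 (c : Nat) : Nat := @Bool.rec (fun _ => Nat) (Ptab_74) (Ptab_s_75_77 c) (Nat.ble 75 c)
noncomputable def Ptab_s_71_77 (c : Nat) : Nat := @Bool.rec (fun _ => Nat) (Ptab_s_71_74 c) (Ptab_s_74_77 c) (Nat.ble 74 c)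
noncomputable def Ptab_s_66_77 (c : Nat) : Nat := @Bool.rec (fun _ => Nat) (Ptab_s_66_71 c) (Ptab_s_71_77 c) (Nat.ble 71 c)
noncomputable def Ptab_s_78_80 (c : Nat) : Nat := @Bool.rec (fun _ => Nat) (Ptab_78) (Ptab_79) (Nat.ble 79 c)
noncomputable def Ptab_s_77_80 (c : Nat) : Nat := @Bool.rec (fun _ => Nat) (Ptab_77) (Ptab_s_78_80 c) (Nat.ble 78 c)
noncomputable def Ptab_s_81_83 (c : Nat) : Nat := @Bool.rec (fun _ => Nat) (Ptab_81) (Ptab_82) (Nat.ble 82 c)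
noncomputable def Ptab_s_80_83 (c : Nat) : Nat := @Bool.rec (fun _ => Nat) (Ptab_80) (Ptab_s_81_83 c) (Nat.ble 81 c)
noncomputable def Ptab_s_77_83 (c : Nat) : Nat := @Bool.rec (fun _ => Nat) (Ptab_s_77_80 c) (Ptab_s_80_83 c) (Nat.ble 80 c)
noncomputable def Ptab_s_84_86 (c : Nat) : Nat := @Bool.rec (fun _ => Nat) (Ptab_84) (Ptab_85) (Nat.ble 85 c)
noncomputable def Ptab_s_83_86 (c : Nat) : Nat := @Bool.rec (fun _ => Nat) (Ptab_83) (Ptab_s_84_86 c) (Nat.ble 84 c)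
noncomputable def Ptab_s_87_89 (c : Nat) : Nat := @Bool.rec (fun _ => Nat) (Ptab_87) (Ptab_88) (Nat.ble 88 c)
noncomputable def Ptab_s_86_89 (c : Nat) : Nat := @Bool.rec (fun _ => Nat) (Ptab_86) (Ptab_s_87_89 c) (Nat.ble 87 c)
noncomputable def Ptab_s_83_89 (c : Nat) : Nat := @Bool.rec (fun _ => Nat) (Ptab_s_83_86 c) (Ptab_s_86_89 c) (Nat.ble 86 c)
noncomputable def Ptab_s_77_89 (c : Nat) : Nat := @Bool.rec (fun _ => Nat) (Ptab_s_77_83 c) (Ptab_s_83_89 c) (Nat.ble 83 c)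
noncomputable def Ptab_s_66_89 (c : Nat) : Nat := @Bool.rec (fun _ => Nat) (Ptab_s_66_77 c) (Ptab_s_77_89 c) (Nat.ble 77 c)
noncomputable def Ptab_s_44_89 (c : Nat) : Nat := @Bool.rec (fun _ => Nat) (Ptab_s_44_66 c) (Ptab_s_66_89 c) (Nat.ble 66 c)
noncomputable def Ptab_s_0_89 (c : Nat) : Nat := @Bool.rec (fun _ => Nat) (Ptab_s_0_44 c) (Ptab_s_44_89 c) (Nat.ble 44 c)
noncomputable def Ptab_s_89_91 (c : Nat) : Nat := @Bool.rec (fun _ => Nat) (Ptab_89) (Ptab_90) (Nat.ble 90 c)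
noncomputable def Ptab_s_92_94 (c : Nat) : Nat := @Bool.rec (fun _ => Nat) (Ptab_92) (Ptab_93) (Nat.ble 93 c)
noncomputable def Ptab_s_91_94 (c : Nat) : Nat := @Bool.rec (fun _ => Nat) (Ptab_91) (Ptab_s_92_94 c) (Nat.ble 92 c)
noncomputable def Ptab_s_89_94 (c : Nat) : Nat := @Bool.rec (fun _ => Nat) (Ptab_s_89_91 c) (Ptab_s_91_94 c) (Nat.ble 91 c)
noncomputable def Ptab_s_95_97 (c : Nat) : Nat := @Bool.rec (fun _ => Nat) (Ptab_95) (Ptab_96) (Nat.ble 96 c)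
noncomputable def Ptab_s_94_97 (c : Nat) : Nat := @Bool.rec (fun _ => Nat) (Ptab_94) (Ptab_s_95_97 c) (Nat.ble 95 c)
noncomputable def Ptab_s_98_100 (c : Nat) : Nat := @Bool.rec (fun _ => Nat) (Ptab_98) (Ptab_99) (Nat.ble 99 c)
noncomputable def Ptab_s_97_100 (c : Nat) : Nat := @Bool.rec (fun _ => Nat) (Ptab_97) (Ptab_s_98_100 c) (Nat.ble 98 c)
noncomputable def Ptab_s_94_100 (c : Nat) : Nat := @Bool.rec (fun _ => Nat) (Ptab_s_94_97 c) (Ptab_s_97_100 c) (Nat.ble 97 c)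
noncomputable def Ptab_s_89_100 (c : Nat) : Nat := @Bool.rec (fun _ => Nat) (Ptab_s_89_94 c) (Ptab_s_94_100 c) (Nat.ble 94 c)
noncomputable def Ptab_s_100_102 (c : Nat) : Nat := @Bool.rec (fun _ => Nat) (Ptab_100) (Ptab_101) (Nat.ble 101 c)
noncomputable def Ptab_s_103_105 (c : Nat) : Nat := @Bool.rec (fun _ => Nat) (Ptab_103) (Ptab_104) (Nat.ble 104 c)
noncomputable def Ptab_s_102_105 (c : Nat) : Nat := @Bool.rec (fun _ => Nat) (Ptab_102) (Ptab_s_103_105 c) (Nat.ble 103 c)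
noncomputable def Ptab_s_100_105 (c : Nat) : Nat := @Bool.rec (fun _ => Nat) (Ptab_s_100_102 c) (Ptab_s_102_105 c) (Nat.ble 102 c)
noncomputable def Ptab_s_106_108 (c : Nat) : Nat := @Bool.rec (fun _ => Nat) (Ptab_106) (Ptab_107) (Nat.ble 107 c)
noncomputable def Ptab_s_105_108 (c : Nat) : Nat := @Bool.rec (fun _ => Nat) (Ptab_105) (Ptab_s_106_108 c) (Nat.ble 106 c)
noncomputable def Ptab_s_109_111 (c : Nat) : Nat := @Bool.rec (fun _ => Nat) (Ptab_109) (Ptab_110) (Nat.ble 110 c)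
noncomputable def Ptab_s_108_111 (c : Nat) : Nat := @Bool.rec (fun _ => Nat) (Ptab_108) (Ptab_s_109_111 c) (Nat.ble 109 c)
noncomputable def Ptab_s_105_111 (c : Nat) : Nat := @Bool.rec (fun _ => Nat) (Ptab_s_105_108 c) (Ptab_s_108_111 c) (Nat.ble 108 c)
noncomputable def Ptab_s_100_111 (c : Nat) : Nat := @Bool.rec (fun _ => Nat) (Ptab_s_100_105 c) (Ptab_s_105_111 c) (Nat.ble 105 c)
noncomputable def Ptab_s_89_111 (c : Nat) : Nat := @Bool.rec (fun _ => Nat) (Ptab_s_89_100 c) (Ptab_s_100_111 c) (Nat.ble 100 c)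
noncomputable def Ptab_s_111_113 (c : Nat) : Nat := @Bool.rec (fun _ => Nat) (Ptab_111) (Ptab_112) (Nat.ble 112 c)
noncomputable def Ptab_s_114_116 (c : Nat) : Nat := @Bool.rec (fun _ => Nat) (Ptab_114) (Ptab_115) (Nat.ble 115 c)
noncomputable def Ptab_s_113_116 (c : Nat) : Nat := @Bool.rec (fun _ => Nat) (Ptab_113) (Ptab_s_114_116 c) (Nat.ble 114 c)
noncomputable def Ptab_s_111_116 (c : Nat) : Nat := @Bool.rec (fun _ => Nat) (Ptab_s_111_113 c) (Ptab_s_113_116 c) (Nat.ble 113 c)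
noncomputable def Ptab_s_117_119 (c : Nat) : Nat := @Bool.rec (fun _ => Nat) (Ptab_117) (Ptab_118) (Nat.ble 118 c)
noncomputable def Ptab_s_116_119 (c : Nat) : Nat := @Bool.rec (fun _ => Nat) (Ptab_116) (Ptab_s_117_119 c) (Nat.ble 117 c)
noncomputable def Ptab_s_120_122 (c : Nat) : Nat := @Bool.rec (fun _ => Nat) (Ptab_120) (Ptab_121) (Nat.ble 121 c)
noncomputable def Ptab_s_119_122 (c : Nat) : Nat := @Bool.rec (fun _ => Nat) (Ptab_119) (Ptab_s_120_122 c) (Nat.ble 120 c)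
noncomputable def Ptab_s_116_122 (c : Nat) : Nat := @Bool.rec (fun _ => Nat) (Ptab_s_116_119 c) (Ptab_s_119_122 c) (Nat.ble 119 c)
noncomputable def Ptab_s_111_122 (c : Nat) : Nat := @Bool.rec (fun _ => Nat) (Ptab_s_111_116 c) (Ptab_s_116_122 c) (Nat.ble 116 c)
noncomputable def Ptab_s_123_125 (c : Nat) : Nat := @Bool.rec (fun _ => Nat) (Ptab_123) (Ptab_124) (Nat.ble 124 c)
noncomputable def Ptab_s_122_125 (c : Nat) : Nat := @Bool.rec (fun _ => Nat) (Ptab_122) (Ptab_s_123_125 c) (Nat.ble 123 c)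
noncomputable def Ptab_s_126_128 (c : Nat) : Nat := @Bool.rec (fun _ => Nat) (Ptab_126) (Ptab_127) (Nat.ble 127 c)
noncomputable def Ptab_s_125_128 (c : Nat) : Nat := @Bool.rec (fun _ => Nat) (Ptab_125) (Ptab_s_126_128 c) (Nat.ble 126 c)
noncomputable def Ptab_s_122_128 (c : Nat) : Nat := @Bool.rec (fun _ => Nat) (Ptab_s_122_125 c) (Ptab_s_125_128 c) (Nat.ble 125 c)
noncomputable def Ptab_s_129_131 (c : Nat) : Nat := @Bool.rec (fun _ => Nat) (Ptab_129) (Ptab_130) (Nat.ble 130 c)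
noncomputable def Ptab_s_128_131 (c : Nat) : Nat := @Bool.rec (fun _ => Nat) (Ptab_128) (Ptab_s_129_131 c) (Nat.ble 129 c)
noncomputable def Ptab_s_132_134 (c : Nat) : Nat := @Bool.rec (fun _ => Nat) (Ptab_132) (Ptab_133) (Nat.ble 133 c)
noncomputable def Ptab_s_131_134 (c : Nat) : Nat := @Bool.rec (fun _ => Nat) (Ptab_131) (Ptab_s_132_134 c) (Nat.ble 132 c)
noncomputable def Ptab_s_128_134 (c : Nat) : Nat := @Bool.rec (fun _ => Nat) (Ptab_s_128_131 c) (Ptab_s_131_134 c) (Nat.ble 131 c)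
noncomputable def Ptab_s_122_134 (c : Nat) : Nat := @Bool.rec (fun _ => Nat) (Ptab_s_122_128 c) (Ptab_s_128_134 c) (Nat.ble 128 c)
noncomputable def Ptab_s_111_134 (c : Nat) : Nat := @Bool.rec (fun _ => Nat) (Ptab_s_111_122 c) (Ptab_s_122_134 c) (Nat.ble 122 c)
noncomputable def Ptab_s_89_134 (c : Nat) : Nat := @Bool.rec (fun _ => Nat) (Ptab_s_89_111 c) (Ptab_s_111_134 c) (Nat.ble 111 c)
noncomputable def Ptab_s_134_136 (c : Nat) : Nat := @Bool.rec (fun _ => Nat) (Ptab_134) (Ptab_135) (Nat.ble 135 c)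
noncomputable def Ptab_s_137_139 (c : Nat) : Nat := @Bool.rec (fun _ => Nat) (Ptab_137) (Ptab_138) (Nat.ble 138 c)
noncomputable def Ptab_s_136_139 (c : Nat) : Nat := @Bool.rec (fun _ => Nat) (Ptab_136) (Ptab_s_137_139 c) (Nat.ble 137 c)
noncomputable def Ptab_s_134_139 (c : Nat) : Nat := @Bool.rec (fun _ => Nat) (Ptab_s_134_136 c) (Ptab_s_136_139 c) (Nat.ble 136 c)
noncomputable def Ptab_s_140_142 (c : Nat) : Nat := @Bool.rec (fun _ => Nat) (Ptab_140) (Ptab_141) (Nat.ble 141 c)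
noncomputable def Ptab_s_139_142 (c : Nat) : Nat := @Bool.rec (fun _ => Nat) (Ptab_139) (Ptab_s_140_142 c) (Nat.ble 140 c)
noncomputable def Ptab_s_143_145 (c : Nat) : Nat := @Bool.rec (fun _ => Nat) (Ptab_143) (Ptab_144) (Nat.ble 144 c)
noncomputable def Ptab_s_142_145 (c : Nat) : Nat := @Bool.rec (fun _ => Nat) (Ptab_142) (Ptab_s_143_145 c) (Nat.ble 143 c)
noncomputable def Ptab_s_139_145 (c : Nat) : Nat := @Bool.rec (fun _ => Nat) (Ptab_s_139_142 c) (Ptab_s_142_145 c) (Nat.ble 142 c)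
noncomputable def Ptab_s_134_145 (c : Nat) : Nat := @Bool.rec (fun _ => Nat) (Ptab_s_134_139 c) (Ptab_s_139_145 c) (Nat.ble 139 c)
noncomputable def Ptab_s_145_147 (c : Nat) : Nat := @Bool.rec (fun _ => Nat) (Ptab_145) (Ptab_146) (Nat.ble 146 c)
noncomputable def Ptab_s_148_150 (c : Nat) : Nat := @Bool.rec (fun _ => Nat) (Ptab_148) (Ptab_149) (Nat.ble 149 c)
noncomputable def Ptab_s_147_150 (c : Nat) : Nat := @Bool.rec (fun _ => Nat) (Ptab_147) (Ptab_s_148_150 c) (Nat.ble 148 c)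
noncomputable def Ptab_s_145_150 (c : Nat) : Nat := @Bool.rec (fun _ => Nat) (Ptab_s_145_147 c) (Ptab_s_147_150 c) (Nat.ble 147 c)
noncomputable def Ptab_s_151_153 (c : Nat) : Nat := @Bool.rec (fun _ => Nat) (Ptab_151) (Ptab_152) (Nat.ble 152 c)
noncomputable def Ptab_s_150_153 (c : Nat) : Nat := @Bool.rec (fun _ => Nat) (Ptab_150) (Ptab_s_151_153 c) (Nat.ble 151 c)
noncomputable def Ptab_s_154_156 (c : Nat) : Nat := @Bool.rec (fun _ => Nat) (Ptab_154) (Ptab_155) (Nat.ble 155 c)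
noncomputable def Ptab_s_153_156 (c : Nat) : Nat := @Bool.rec (fun _ => Nat) (Ptab_153) (Ptab_s_154_156 c) (Nat.ble 154 c)
noncomputable def Ptab_s_150_156 (c : Nat) : Nat := @Bool.rec (fun _ => Nat) (Ptab_s_150_153 c) (Ptab_s_153_156 c) (Nat.ble 153 c)
noncomputable def Ptab_s_145_156 (c : Nat) : Nat := @Bool.rec (fun _ => Nat) (Ptab_s_145_150 c) (Ptab_s_150_156 c) (Nat.ble 150 c)
noncomputable def Ptab_s_134_156 (c : Nat) : Nat := @Bool.rec (fun _ => Nat) (Ptab_s_134_145 c) (Ptab_s_145_156 c) (Nat.ble 145 c)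
noncomputable def Ptab_s_156_158 (c : Nat) : Nat := @Bool.rec (fun _ => Nat) (Ptab_156) (Ptab_157) (Nat.ble 157 c)
noncomputable def Ptab_s_159_161 (c : Nat) : Nat := @Bool.rec (fun _ => Nat) (Ptab_159) (Ptab_160) (Nat.ble 160 c)
noncomputable def Ptab_s_158_161 (c : Nat) : Nat := @Bool.rec (fun _ => Nat) (Ptab_158) (Ptab_s_159_161 c) (Nat.ble 159 c)
noncomputable def Ptab_s_156_161 (c : Nat) : Nat := @Bool.rec (fun _ => Nat) (Ptab_s_156_158 c) (Ptab_s_158_161 c) (Nat.ble 158 c)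
noncomputable def Ptab_s_162_164 (c : Nat) : Nat := @Bool.rec (fun _ => Nat) (Ptab_162) (Ptab_163) (Nat.ble 163 c)
noncomputable def Ptab_s_161_164 (c : Nat) : Nat := @Bool.rec (fun _ => Nat) (Ptab_161) (Ptab_s_162_164 c) (Nat.ble 162 c)
noncomputable def Ptab_s_165_167 (c : Nat) : Nat := @Bool.rec (fun _ => Nat) (Ptab_165) (Ptab_166) (Nat.ble 166 c)
noncomputable def Ptab_s_164_167 (c : Nat) : Nat := @Bool.rec (fun _ => Nat) (Ptab_164) (Ptab_s_165_167 c) (Nat.ble 165 c)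
noncomputable def Ptab_s_161_167 (c : Nat) : Nat := @Bool.rec (fun _ => Nat) (Ptab_s_161_164 c) (Ptab_s_164_167 c) (Nat.ble 164 c)
noncomputable def Ptab_s_156_167 (c : Nat) : Nat := @Bool.rec (fun _ => Nat) (Ptab_s_156_161 c) (Ptab_s_161_167 c) (Nat.ble 161 c)
noncomputable def Ptab_s_168_170 (c : Nat) : Nat := @Bool.rec (fun _ => Nat) (Ptab_168) (Ptab_169) (Nat.ble 169 c)
noncomputable def Ptab_s_167_170 (c : Nat) : Nat := @Bool.rec (fun _ => Nat) (Ptab_167) (Ptab_s_168_170 c) (Nat.ble 168 c)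
noncomputable def Ptab_s_171_173 (c : Nat) : Nat := @Bool.rec (fun _ => Nat) (Ptab_171) (Ptab_172) (Nat.ble 172 c)
noncomputable def Ptab_s_170_173 (c : Nat) : Nat := @Bool.rec (fun _ => Nat) (Ptab_170) (Ptab_s_171_173 c) (Nat.ble 171 c)
noncomputable def Ptab_s_167_173 (c : Nat) : Nat := @Bool.rec (fun _ => Nat) (Ptab_s_167_170 c) (Ptab_s_170_173 c) (Nat.ble 170 c)
noncomputable def Ptab_s_174_176 (c : Nat) : Nat := @Bool.rec (fun _ => Nat) (Ptab_174) (Ptab_175) (Nat.ble 175 c)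
noncomputable def Ptab_s_173_176 (c : Nat) : Nat := @Bool.rec (fun _ => Nat) (Ptab_173) (Ptab_s_174_176 c) (Nat.ble 174 c)
noncomputable def Ptab_s_177_179 (c : Nat) : Nat := @Bool.rec (fun _ => Nat) (Ptab_177) (Ptab_178) (Nat.ble 178 c)
noncomputable def Ptab_s_176_179 (c : Nat) : Nat := @Bool.rec (fun _ => Nat) (Ptab_176) (Ptab_s_177_179 c) (Nat.ble 177 c)
noncomputable def Ptab_s_173_179 (c : Nat) : Nat := @Bool.rec (fun _ => Nat) (Ptab_s_173_176 c) (Ptab_s_176_179 c) (Nat.ble 176 c)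
noncomputable def Ptab_s_167_179 (c : Nat) : Nat := @Bool.rec (fun _ => Nat) (Ptab_s_167_173 c) (Ptab_s_173_179 c) (Nat.ble 173 c)
noncomputable def Ptab_s_156_179 (c : Nat) : Nat := @Bool.rec (fun _ => Nat) (Ptab_s_156_167 c) (Ptab_s_167_179 c) (Nat.ble 167 c)
noncomputable def Ptab_s_134_179 (c : Nat) : Nat := @Bool.rec (fun _ => Nat) (Ptab_s_134_156 c) (Ptab_s_156_179 c) (Nat.ble 156 c)
noncomputable def Ptab_s_89_179 (c : Nat) : Nat := @Bool.rec (fun _ => Nat) (Ptab_s_89_134 c) (Ptab_s_134_179 c) (Nat.ble 134 c)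
noncomputable def Ptab_s_0_179 (c : Nat) : Nat := @Bool.rec (fun _ => Nat) (Ptab_s_0_89 c) (Ptab_s_89_179 c) (Nat.ble 89 c)
noncomputable def Ptab_s_179_181 (c : Nat) : Nat := @Bool.rec (fun _ => Nat) (Ptab_179) (Ptab_180) (Nat.ble 180 c)
noncomputable def Ptab_s_182_184 (c : Nat) : Nat := @Bool.rec (fun _ => Nat) (Ptab_182) (Ptab_183) (Nat.ble 183 c)
noncomputable def Ptab_s_181_184 (c : Nat) : Nat := @Bool.rec (fun _ => Nat) (Ptab_181) (Ptab_s_182_184 c) (Nat.ble 182 c)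
noncomputable def Ptab_s_179_184 (c : Nat) : Nat := @Bool.rec (fun _ => Nat) (Ptab_s_179_181 c) (Ptab_s_181_184 c) (Nat.ble 181 c)
noncomputable def Ptab_s_185_187 (c : Nat) : Nat := @Bool.rec (fun _ => Nat) (Ptab_185) (Ptab_186) (Nat.ble 186 c)
noncomputable def Ptab_s_184_187 (c : Nat) : Nat := @Bool.rec (fun _ => Nat) (Ptab_184) (Ptab_s_185_187 c) (Nat.ble 185 c)
noncomputable def Ptab_s_188_190 (c : Nat) : Nat := @Bool.rec (fun _ => Nat) (Ptab_188) (Ptab_189) (Nat.ble 189 c)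
noncomputable def Ptab_s_187_190 (c : Nat) : Nat := @Bool.rec (fun _ => Nat) (Ptab_187) (Ptab_s_188_190 c) (Nat.ble 188 c)
noncomputable def Ptab_s_184_190 (c : Nat) : Nat := @Bool.rec (fun _ => Nat) (Ptab_s_184_187 c) (Ptab_s_187_190 c) (Nat.ble 187 c)
noncomputable def Ptab_s_179_190 (c : Nat) : Nat := @Bool.rec (fun _ => Nat) (Ptab_s_179_184 c) (Ptab_s_184_190 c) (Nat.ble 184 c)
noncomputable def Ptab_s_190_192 (c : Nat) : Nat := @Bool.rec (fun _ => Nat) (Ptab_190) (Ptab_191) (Nat.ble 191 c)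
noncomputable def Ptab_s_193_195 (c : Nat) : Nat := @Bool.rec (fun _ => Nat) (Ptab_193) (Ptab_194) (Nat.ble 194 c)
noncomputable def Ptab_s_192_195 (c : Nat) : Nat := @Bool.rec (fun _ => Nat) (Ptab_192) (Ptab_s_193_195 c) (Nat.ble 193 c)
noncomputable def Ptab_s_190_195 (c : Nat) : Nat := @Bool.rec (fun _ => Nat) (Ptab_s_190_192 c) (Ptab_s_192_195 c) (Nat.ble 192 c)
noncomputable def Ptab_s_196_198 (c : Nat) : Nat := @Bool.rec (fun _ => Nat) (Ptab_196) (Ptab_197) (Nat.ble 197 c)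
noncomputable def Ptab_s_195_198 (c : Nat) : Nat := @Bool.rec (fun _ => Nat) (Ptab_195) (Ptab_s_196_198 c) (Nat.ble 196 c)
noncomputable def Ptab_s_199_201 (c : Nat) : Nat := @Bool.rec (fun _ => Nat) (Ptab_199) (Ptab_200) (Nat.ble 200 c)
noncomputable def Ptab_s_198_201 (c : Nat) : Nat := @Bool.rec (fun _ => Nat) (Ptab_198) (Ptab_s_199_201 c) (Nat.ble 199 c)
noncomputable def Ptab_s_195_201 (c : Nat) : Nat := @Bool.rec (fun _ => Nat) (Ptab_s_195_198 c) (Ptab_s_198_201 c) (Nat.ble 198 c)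
noncomputable def Ptab_s_190_201 (c : Nat) : Nat := @Bool.rec (fun _ => Nat) (Ptab_s_190_195 c) (Ptab_s_195_201 c) (Nat.ble 195 c)
noncomputable def Ptab_s_179_201 (c : Nat) : Nat := @Bool.rec (fun _ => Nat) (Ptab_s_179_190 c) (Ptab_s_190_201 c) (Nat.ble 190 c)
noncomputable def Ptab_s_201_203 (c : Nat) : Nat := @Bool.rec (fun _ => Nat) (Ptab_201) (Ptab_202) (Nat.ble 202 c)
noncomputable def Ptab_s_204_206 (c : Nat) : Nat := @Bool.rec (fun _ => Nat) (Ptab_204) (Ptab_205) (Nat.ble 205 c)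
noncomputable def Ptab_s_203_206 (c : Nat) : Nat := @Bool.rec (fun _ => Nat) (Ptab_203) (Ptab_s_204_206 c) (Nat.ble 204 c)
noncomputable def Ptab_s_201_206 (c : Nat) : Nat := @Bool.rec (fun _ => Nat) (Ptab_s_201_203 c) (Ptab_s_203_206 c) (Nat.ble 203 c)
noncomputable def Ptab_s_207_209 (c : Nat) : Nat := @Bool.rec (fun _ => Nat) (Ptab_207) (Ptab_208) (Nat.ble 208 c)
noncomputable def Ptab_s_206_209 (c : Nat) : Nat := @Bool.rec (fun _ => Nat) (Ptab_206) (Ptab_s_207_209 c) (Nat.ble 207 c)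
noncomputable def Ptab_s_210_212 (c : Nat) : Nat := @Bool.rec (fun _ => Nat) (Ptab_210) (Ptab_211) (Nat.ble 211 c)
noncomputable def Ptab_s_209_212 (c : Nat) : Nat := @Bool.rec (fun _ => Nat) (Ptab_209) (Ptab_s_210_212 c) (Nat.ble 210 c)
noncomputable def Ptab_s_206_212 (c : Nat) : Nat := @Bool.rec (fun _ => Nat) (Ptab_s_206_209 c) (Ptab_s_209_212 c) (Nat.ble 209 c)
noncomputable def Ptab_s_201_212 (c : Nat) : Nat := @Bool.rec (fun _ => Nat) (Ptab_s_201_206 c) (Ptab_s_206_212 c) (Nat.ble 206 c)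
noncomputable def Ptab_s_212_214 (c : Nat) : Nat := @Bool.rec (fun _ => Nat) (Ptab_212) (Ptab_213) (Nat.ble 213 c)
noncomputable def Ptab_s_215_217 (c : Nat) : Nat := @Bool.rec (fun _ => Nat) (Ptab_215) (Ptab_216) (Nat.ble 216 c)
noncomputable def Ptab_s_214_217 (c : Nat) : Nat := @Bool.rec (fun _ => Nat) (Ptab_214) (Ptab_s_215_217 c) (Nat.ble 215 c)
noncomputable def Ptab_s_212_217 (c : Nat) : Nat := @Bool.rec (fun _ => Nat) (Ptab_s_212_214 c) (Ptab_s_214_217 c) (Nat.ble 214 c)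
noncomputable def Ptab_s_218_220 (c : Nat) : Nat := @Bool.rec (fun _ => Nat) (Ptab_218) (Ptab_219) (Nat.ble 219 c)
noncomputable def Ptab_s_217_220 (c : Nat) : Nat := @Bool.rec (fun _ => Nat) (Ptab_217) (Ptab_s_218_220 c) (Nat.ble 218 c)
noncomputable def Ptab_s_221_223 (c : Nat) : Nat := @Bool.rec (fun _ => Nat) (Ptab_221) (Ptab_222) (Nat.ble 222 c)
noncomputable def Ptab_s_220_223 (c : Nat) : Nat := @Bool.rec (fun _ => Nat) (Ptab_220) (Ptab_s_221_223 c) (Nat.ble 221 c)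
noncomputable def Ptab_s_217_223 (c : Nat) : Nat := @Bool.rec (fun _ => Nat) (Ptab_s_217_220 c) (Ptab_s_220_223 c) (Nat.ble 220 c)
noncomputable def Ptab_s_212_223 (c : Nat) : Nat := @Bool.rec (fun _ => Nat) (Ptab_s_212_217 c) (Ptab_s_217_223 c) (Nat.ble 217 c)
noncomputable def Ptab_s_201_223 (c : Nat) : Nat := @Bool.rec (fun _ => Nat) (Ptab_s_201_212 c) (Ptab_s_212_223 c) (Nat.ble 212 c)
noncomputable def Ptab_s_179_223 (c : Nat) : Nat := @Bool.rec (fun _ => Nat) (Ptab_s_179_201 c) (Ptab_s_201_223 c) (Nat.ble 201 c)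
noncomputable def Ptab_s_223_225 (c : Nat) : Nat := @Bool.rec (fun _ => Nat) (Ptab_223) (Ptab_224) (Nat.ble 224 c)
noncomputable def Ptab_s_226_228 (c : Nat) : Nat := @Bool.rec (fun _ => Nat) (Ptab_226) (Ptab_227) (Nat.ble 227 c)
noncomputable def Ptab_s_225_228 (c : Nat) : Nat := @Bool.rec (fun _ => Nat) (Ptab_225) (Ptab_s_226_228 c) (Nat.ble 226 c)
noncomputable def Ptab_s_223_228 (c : Nat) : Nat := @Bool.rec (fun _ => Nat) (Ptab_s_223_225 c) (Ptab_s_225_228 c) (Nat.ble 225 c)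
noncomputable def Ptab_s_229_231 (c : Nat) : Nat := @Bool.rec (fun _ => Nat) (Ptab_229) (Ptab_230) (Nat.ble 230 c)
noncomputable def Ptab_s_228_231 (c : Nat) : Nat := @Bool.rec (fun _ => Nat) (Ptab_228) (Ptab_s_229_231 c) (Nat.ble 229 c)
noncomputable def Ptab_s_232_234 (c : Nat) : Nat := @Bool.rec (fun _ => Nat) (Ptab_232) (Ptab_233) (Nat.ble 233 c)
noncomputable def Ptab_s_231_234 (c : Nat) : Nat := @Bool.rec (fun _ => Nat) (Ptab_231) (Ptab_s_232_234 c) (Nat.ble 232 c)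
noncomputable def Ptab_s_228_234 (c : Nat) : Nat := @Bool.rec (fun _ => Nat) (Ptab_s_228_231 c) (Ptab_s_231_234 c) (Nat.ble 231 c)
noncomputable def Ptab_s_223_234 (c : Nat) : Nat := @Bool.rec (fun _ => Nat) (Ptab_s_223_228 c) (Ptab_s_228_234 c) (Nat.ble 228 c)
noncomputable def Ptab_s_234_236 (c : Nat) : Nat := @Bool.rec (fun _ => Nat) (Ptab_234) (Ptab_235) (Nat.ble 235 c)
noncomputable def Ptab_s_237_239 (c : Nat) : Nat := @Bool.rec (fun _ => Nat) (Ptab_237) (Ptab_238) (Nat.ble 238 c)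
noncomputable def Ptab_s_236_239 (c : Nat) : Nat := @Bool.rec (fun _ => Nat) (Ptab_236) (Ptab_s_237_239 c) (Nat.ble 237 c)
noncomputable def Ptab_s_234_239 (c : Nat) : Nat := @Bool.rec (fun _ => Nat) (Ptab_s_234_236 c) (Ptab_s_236_239 c) (Nat.ble 236 c)
noncomputable def Ptab_s_240_242 (c : Nat) : Nat := @Bool.rec (fun _ => Nat) (Ptab_240) (Ptab_241) (Nat.ble 241 c)
noncomputable def Ptab_s_239_242 (c : Nat) : Nat := @Bool.rec (fun _ => Nat) (Ptab_239) (Ptab_s_240_242 c) (Nat.ble 240 c)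
noncomputable def Ptab_s_243_245 (c : Nat) : Nat := @Bool.rec (fun _ => Nat) (Ptab_243) (Ptab_244) (Nat.ble 244 c)
noncomputable def Ptab_s_242_245 (c : Nat) : Nat := @Bool.rec (fun _ => Nat) (Ptab_242) (Ptab_s_243_245 c) (Nat.ble 243 c)
noncomputable def Ptab_s_239_245 (c : Nat) : Nat := @Bool.rec (fun _ => Nat) (Ptab_s_239_242 c) (Ptab_s_242_245 c) (Nat.ble 242 c)
noncomputable def Ptab_s_234_245 (c : Nat) : Nat := @Bool.rec (fun _ => Nat) (Ptab_s_234_239 c) (Ptab_s_239_245 c) (Nat.ble 239 c)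
noncomputable def Ptab_s_223_245 (c : Nat) : Nat := @Bool.rec (fun _ => Nat) (Ptab_s_223_234 c) (Ptab_s_234_245 c) (Nat.ble 234 c)
noncomputable def Ptab_s_245_247 (c : Nat) : Nat := @Bool.rec (fun _ => Nat) (Ptab_245) (Ptab_246) (Nat.ble 246 c)
noncomputable def Ptab_s_248_250 (c : Nat) : Nat := @Bool.rec (fun _ => Nat) (Ptab_248) (Ptab_249) (Nat.ble 249 c)
noncomputable def Ptab_s_247_250 (c : Nat) : Nat := @Bool.rec (fun _ => Nat) (Ptab_247) (Ptab_s_248_250 c) (Nat.ble 248 c)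
noncomputable def Ptab_s_245_250 (c : Nat) : Nat := @Bool.rec (fun _ => Nat) (Ptab_s_245_247 c) (Ptab_s_247_250 c) (Nat.ble 247 c)
noncomputable def Ptab_s_251_253 (c : Nat) : Nat := @Bool.rec (fun _ => Nat) (Ptab_251) (Ptab_252) (Nat.ble 252 c)
noncomputable def Ptab_s_250_253 (c : Nat) : Nat := @Bool.rec (fun _ => Nat) (Ptab_250) (Ptab_s_251_253 c) (Nat.ble 251 c)
noncomputable def Ptab_s_254_256 (c : Nat) : Nat := @Bool.rec (fun _ => Nat) (Ptab_254) (Ptab_255) (Nat.ble 255 c)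
noncomputable def Ptab_s_253_256 (c : Nat) : Nat := @Bool.rec (fun _ => Nat) (Ptab_253) (Ptab_s_254_256 c) (Nat.ble 254 c)
noncomputable def Ptab_s_250_256 (c : Nat) : Nat := @Bool.rec (fun _ => Nat) (Ptab_s_250_253 c) (Ptab_s_253_256 c) (Nat.ble 253 c)
noncomputable def Ptab_s_245_256 (c : Nat) : Nat := @Bool.rec (fun _ => Nat) (Ptab_s_245_250 c) (Ptab_s_250_256 c) (Nat.ble 250 c)
noncomputable def Ptab_s_257_259 (c : Nat) : Nat := @Bool.rec (fun _ => Nat) (Ptab_257) (Ptab_258) (Nat.ble 258 c)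
noncomputable def Ptab_s_256_259 (c : Nat) : Nat := @Bool.rec (fun _ => Nat) (Ptab_256) (Ptab_s_257_259 c) (Nat.ble 257 c)
noncomputable def Ptab_s_260_262 (c : Nat) : Nat := @Bool.rec (fun _ => Nat) (Ptab_260) (Ptab_261) (Nat.ble 261 c)
noncomputable def Ptab_s_259_262 (c : Nat) : Nat := @Bool.rec (fun _ => Nat) (Ptab_259) (Ptab_s_260_262 c) (Nat.ble 260 c)
noncomputable def Ptab_s_256_262 (c : Nat) : Nat := @Bool.rec (fun _ => Nat) (Ptab_s_256_259 c) (Ptab_s_259_262 c) (Nat.ble 259 c)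
noncomputable def Ptab_s_263_265 (c : Nat) : Nat := @Bool.rec (fun _ => Nat) (Ptab_263) (Ptab_264) (Nat.ble 264 c)
noncomputable def Ptab_s_262_265 (c : Nat) : Nat := @Bool.rec (fun _ => Nat) (Ptab_262) (Ptab_s_263_265 c) (Nat.ble 263 c)
noncomputable def Ptab_s_266_268 (c : Nat) : Nat := @Bool.rec (fun _ => Nat) (Ptab_266) (Ptab_267) (Nat.ble 267 c)
noncomputable def Ptab_s_265_268 (c : Nat) : Nat := @Bool.rec (fun _ => Nat) (Ptab_265) (Ptab_s_266_268 c) (Nat.ble 266 c)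
noncomputable def Ptab_s_262_268 (c : Nat) : Nat := @Bool.rec (fun _ => Nat) (Ptab_s_262_265 c) (Ptab_s_265_268 c) (Nat.ble 265 c)
noncomputable def Ptab_s_256_268 (c : Nat) : Nat := @Bool.rec (fun _ => Nat) (Ptab_s_256_262 c) (Ptab_s_262_268 c) (Nat.ble 262 c)
noncomputable def Ptab_s_245_268 (c : Nat) : Nat := @Bool.rec (fun _ => Nat) (Ptab_s_245_256 c) (Ptab_s_256_268 c) (Nat.ble 256 c)
noncomputable def Ptab_s_223_268 (c : Nat) : Nat := @Bool.rec (fun _ => Nat) (Ptab_s_223_245 c) (Ptab_s_245_268 c) (Nat.ble 245 c)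
noncomputable def Ptab_s_179_268 (c : Nat) : Nat := @Bool.rec (fun _ => Nat) (Ptab_s_179_223 c) (Ptab_s_223_268 c) (Nat.ble 223 c)
noncomputable def Ptab_s_268_270 (c : Nat) : Nat := @Bool.rec (fun _ => Nat) (Ptab_268) (Ptab_269) (Nat.ble 269 c)
noncomputable def Ptab_s_271_273 (c : Nat) : Nat := @Bool.rec (fun _ => Nat) (Ptab_271) (Ptab_272) (Nat.ble 272 c)
noncomputable def Ptab_s_270_273 (c : Nat) : Nat := @Bool.rec (fun _ => Nat) (Ptab_270) (Ptab_s_271_273 c) (Nat.ble 271 c)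
noncomputable def Ptab_s_268_273 (c : Nat) : Nat := @Bool.rec (fun _ => Nat) (Ptab_s_268_270 c) (Ptab_s_270_273 c) (Nat.ble 270 c)
noncomputable def Ptab_s_274_276 (c : Nat) : Nat := @Bool.rec (fun _ => Nat) (Ptab_274) (Ptab_275) (Nat.ble 275 c)
noncomputable def Ptab_s_273_276 (c : Nat) : Nat := @Bool.rec (fun _ => Nat) (Ptab_273) (Ptab_s_274_276 c) (Nat.ble 274 c)
noncomputable def Ptab_s_277_279 (c : Nat) : Nat := @Bool.rec (fun _ => Nat) (Ptab_277) (Ptab_278) (Nat.ble 278 c)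
noncomputable def Ptab_s_276_279 (c : Nat) : Nat := @Bool.rec (fun _ => Nat) (Ptab_276) (Ptab_s_277_279 c) (Nat.ble 277 c)
noncomputable def Ptab_s_273_279 (c : Nat) : Nat := @Bool.rec (fun _ => Nat) (Ptab_s_273_276 c) (Ptab_s_276_279 c) (Nat.ble 276 c)
noncomputable def Ptab_s_268_279 (c : Nat) : Nat := @Bool.rec (fun _ => Nat) (Ptab_s_268_273 c) (Ptab_s_273_279 c) (Nat.ble 273 c)
noncomputable def Ptab_s_279_281 (c : Nat) : Nat := @Bool.rec (fun _ => Nat) (Ptab_279) (Ptab_280) (Nat.ble 280 c)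
noncomputable def Ptab_s_282_284 (c : Nat) : Nat := @Bool.rec (fun _ => Nat) (Ptab_282) (Ptab_283) (Nat.ble 283 c)
noncomputable def Ptab_s_281_284 (c : Nat) : Nat := @Bool.rec (fun _ => Nat) (Ptab_281) (Ptab_s_282_284 c) (Nat.ble 282 c)
noncomputable def Ptab_s_279_284 (c : Nat) : Nat := @Bool.rec (fun _ => Nat) (Ptab_s_279_281 c) (Ptab_s_281_284 c) (Nat.ble 281 c)
noncomputable def Ptab_s_285_287 (c : Nat) : Nat := @Bool.rec (fun _ => Nat) (Ptab_285) (Ptab_286) (Nat.ble 286 c)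
noncomputable def Ptab_s_284_287 (c : Nat) : Nat := @Bool.rec (fun _ => Nat) (Ptab_284) (Ptab_s_285_287 c) (Nat.ble 285 c)
noncomputable def Ptab_s_288_290 (c : Nat) : Nat := @Bool.rec (fun _ => Nat) (Ptab_288) (Ptab_289) (Nat.ble 289 c)
noncomputable def Ptab_s_287_290 (c : Nat) : Nat := @Bool.rec (fun _ => Nat) (Ptab_287) (Ptab_s_288_290 c) (Nat.ble 288 c)
noncomputable def Ptab_s_284_290 (c : Nat) : Nat := @Bool.rec (fun _ => Nat) (Ptab_s_284_287 c) (Ptab_s_287_290 c) (Nat.ble 287 c)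
noncomputable def Ptab_s_279_290 (c : Nat) : Nat := @Bool.rec (fun _ => Nat) (Ptab_s_279_284 c) (Ptab_s_284_290 c) (Nat.ble 284 c)
noncomputable def Ptab_s_268_290 (c : Nat) : Nat := @Bool.rec (fun _ => Nat) (Ptab_s_268_279 c) (Ptab_s_279_290 c) (Nat.ble 279 c)
noncomputable def Ptab_s_290_292 (c : Nat) : Nat := @Bool.rec (fun _ => Nat) (Ptab_290) (Ptab_291) (Nat.ble 291 c)
noncomputable def Ptab_s_293_295 (c : Nat) : Nat := @Bool.rec (fun _ => Nat) (Ptab_293) (Ptab_294) (Nat.ble 294 c)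
noncomputable def Ptab_s_292_295 (c : Nat) : Nat := @Bool.rec (fun _ => Nat) (Ptab_292) (Ptab_s_293_295 c) (Nat.ble 293 c)
noncomputable def Ptab_s_290_295 (c : Nat) : Nat := @Bool.rec (fun _ => Nat) (Ptab_s_290_292 c) (Ptab_s_292_295 c) (Nat.ble 292 c)
noncomputable def Ptab_s_296_298 (c : Nat) : Nat := @Bool.rec (fun _ => Nat) (Ptab_296) (Ptab_297) (Nat.ble 297 c)
noncomputable def Ptab_s_295_298 (c : Nat) : Nat := @Bool.rec (fun _ => Nat) (Ptab_295) (Ptab_s_296_298 c) (Nat.ble 296 c)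
noncomputable def Ptab_s_299_301 (c : Nat) : Nat := @Bool.rec (fun _ => Nat) (Ptab_299) (Ptab_300) (Nat.ble 300 c)
noncomputable def Ptab_s_298_301 (c : Nat) : Nat := @Bool.rec (fun _ => Nat) (Ptab_298) (Ptab_s_299_301 c) (Nat.ble 299 c)
noncomputable def Ptab_s_295_301 (c : Nat) : Nat := @Bool.rec (fun _ => Nat) (Ptab_s_295_298 c) (Ptab_s_298_301 c) (Nat.ble 298 c)
noncomputable def Ptab_s_290_301 (c : Nat) : Nat := @Bool.rec (fun _ => Nat) (Ptab_s_290_295 c) (Ptab_s_295_301 c) (Nat.ble 295 c)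
noncomputable def Ptab_s_302_304 (c : Nat) : Nat := @Bool.rec (fun _ => Nat) (Ptab_302) (Ptab_303) (Nat.ble 303 c)
noncomputable def Ptab_s_301_304 (c : Nat) : Nat := @Bool.rec (fun _ => Nat) (Ptab_301) (Ptab_s_302_304 c) (Nat.ble 302 c)
noncomputable def Ptab_s_305_307 (c : Nat) : Nat := @Bool.rec (fun _ => Nat) (Ptab_305) (Ptab_306) (Nat.ble 306 c)
noncomputable def Ptab_s_304_307 (c : Nat) : Nat := @Bool.rec (fun _ => Nat) (Ptab_304) (Ptab_s_305_307 c) (Nat.ble 305 c)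
noncomputable def Ptab_s_301_307 (c : Nat) : Nat := @Bool.rec (fun _ => Nat) (Ptab_s_301_304 c) (Ptab_s_304_307 c) (Nat.ble 304 c)
noncomputable def Ptab_s_308_310 (c : Nat) : Nat := @Bool.rec (fun _ => Nat) (Ptab_308) (Ptab_309) (Nat.ble 309 c)
noncomputable def Ptab_s_307_310 (c : Nat) : Nat := @Bool.rec (fun _ => Nat) (Ptab_307) (Ptab_s_308_310 c) (Nat.ble 308 c)
noncomputable def Ptab_s_311_313 (c : Nat) : Nat := @Bool.rec (fun _ => Nat) (Ptab_311) (Ptab_312) (Nat.ble 312 c)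
noncomputable def Ptab_s_310_313 (c : Nat) : Nat := @Bool.rec (fun _ => Nat) (Ptab_310) (Ptab_s_311_313 c) (Nat.ble 311 c)
noncomputable def Ptab_s_307_313 (c : Nat) : Nat := @Bool.rec (fun _ => Nat) (Ptab_s_307_310 c) (Ptab_s_310_313 c) (Nat.ble 310 c)
noncomputable def Ptab_s_301_313 (c : Nat) : Nat := @Bool.rec (fun _ => Nat) (Ptab_s_301_307 c) (Ptab_s_307_313 c) (Nat.ble 307 c)
noncomputable def Ptab_s_290_313 (c : Nat) : Nat := @Bool.rec (fun _ => Nat) (Ptab_s_290_301 c) (Ptab_s_301_313 c) (Nat.ble 301 c)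
noncomputable def Ptab_s_268_313 (c : Nat) : Nat := @Bool.rec (fun _ => Nat) (Ptab_s_268_290 c) (Ptab_s_290_313 c) (Nat.ble 290 c)
noncomputable def Ptab_s_313_315 (c : Nat) : Nat := @Bool.rec (fun _ => Nat) (Ptab_313) (Ptab_314) (Nat.ble 314 c)
noncomputable def Ptab_s_316_318 (c : Nat) : Nat := @Bool.rec (fun _ => Nat) (Ptab_316) (Ptab_317) (Nat.ble 317 c)
noncomputable def Ptab_s_315_318 (c : Nat) : Nat := @Bool.rec (fun _ => Nat) (Ptab_315) (Ptab_s_316_318 c) (Nat.ble 316 c)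
noncomputable def Ptab_s_313_318 (c : Nat) : Nat := @Bool.rec (fun _ => Nat) (Ptab_s_313_315 c) (Ptab_s_315_318 c) (Nat.ble 315 c)
noncomputable def Ptab_s_319_321 (c : Nat) : Nat := @Bool.rec (fun _ => Nat) (Ptab_319) (Ptab_320) (Nat.ble 320 c)
noncomputable def Ptab_s_318_321 (c : Nat) : Nat := @Bool.rec (fun _ => Nat) (Ptab_318) (Ptab_s_319_321 c) (Nat.ble 319 c)
noncomputable def Ptab_s_322_324 (c : Nat) : Nat := @Bool.rec (fun _ => Nat) (Ptab_322) (Ptab_323) (Nat.ble 323 c)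
noncomputable def Ptab_s_321_324 (c : Nat) : Nat := @Bool.rec (fun _ => Nat) (Ptab_321) (Ptab_s_322_324 c) (Nat.ble 322 c)
noncomputable def Ptab_s_318_324 (c : Nat) : Nat := @Bool.rec (fun _ => Nat) (Ptab_s_318_321 c) (Ptab_s_321_324 c) (Nat.ble 321 c)
noncomputable def Ptab_s_313_324 (c : Nat) : Nat := @Bool.rec (fun _ => Nat) (Ptab_s_313_318 c) (Ptab_s_318_324 c) (Nat.ble 318 c)
noncomputable def Ptab_s_324_326 (c : Nat) : Nat := @Bool.rec (fun _ => Nat) (Ptab_324) (Ptab_325) (Nat.ble 325 c)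
noncomputable def Ptab_s_327_329 (c : Nat) : Nat := @Bool.rec (fun _ => Nat) (Ptab_327) (Ptab_328) (Nat.ble 328 c)
noncomputable def Ptab_s_326_329 (c : Nat) : Nat := @Bool.rec (fun _ => Nat) (Ptab_326) (Ptab_s_327_329 c) (Nat.ble 327 c)
noncomputable def Ptab_s_324_329 (c : Nat) : Nat := @Bool.rec (fun _ => Nat) (Ptab_s_324_326 c) (Ptab_s_326_329 c) (Nat.ble 326 c)
noncomputable def Ptab_s_330_332 (c : Nat) : Nat := @Bool.rec (fun _ => Nat) (Ptab_330) (Ptab_331) (Nat.ble 331 c)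
noncomputable def Ptab_s_329_332 (c : Nat) : Nat := @Bool.rec (fun _ => Nat) (Ptab_329) (Ptab_s_330_332 c) (Nat.ble 330 c)
noncomputable def Ptab_s_333_335 (c : Nat) : Nat := @Bool.rec (fun _ => Nat) (Ptab_333) (Ptab_334) (Nat.ble 334 c)
noncomputable def Ptab_s_332_335 (c : Nat) : Nat := @Bool.rec (fun _ => Nat) (Ptab_332) (Ptab_s_333_335 c) (Nat.ble 333 c)
noncomputable def Ptab_s_329_335 (c : Nat) : Nat := @Bool.rec (fun _ => Nat) (Ptab_s_329_332 c) (Ptab_s_332_335 c) (Nat.ble 332 c)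
noncomputable def Ptab_s_324_335 (c : Nat) : Nat := @Bool.rec (fun _ => Nat) (Ptab_s_324_329 c) (Ptab_s_329_335 c) (Nat.ble 329 c)
noncomputable def Ptab_s_313_335 (c : Nat) : Nat := @Bool.rec (fun _ => Nat) (Ptab_s_313_324 c) (Ptab_s_324_335 c) (Nat.ble 324 c)
noncomputable def Ptab_s_335_337 (c : Nat) : Nat := @Bool.rec (fun _ => Nat) (Ptab_335) (Ptab_336) (Nat.ble 336 c)
noncomputable def Ptab_s_338_340 (c : Nat) : Nat := @Bool.rec (fun _ => Nat) (Ptab_338) (Ptab_339) (Nat.ble 339 c)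
noncomputable def Ptab_s_337_340 (c : Nat) : Nat := @Bool.rec (fun _ => Nat) (Ptab_337) (Ptab_s_338_340 c) (Nat.ble 338 c)
noncomputable def Ptab_s_335_340 (c : Nat) : Nat := @Bool.rec (fun _ => Nat) (Ptab_s_335_337 c) (Ptab_s_337_340 c) (Nat.ble 337 c)
noncomputable def Ptab_s_341_343 (c : Nat) : Nat := @Bool.rec (fun _ => Nat) (Ptab_341) (Ptab_342) (Nat.ble 342 c)
noncomputable def Ptab_s_340_343 (c : Nat) : Nat := @Bool.rec (fun _ => Nat) (Ptab_340) (Ptab_s_341_343 c) (Nat.ble 341 c)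
noncomputable def Ptab_s_344_346 (c : Nat) : Nat := @Bool.rec (fun _ => Nat) (Ptab_344) (Ptab_345) (Nat.ble 345 c)
noncomputable def Ptab_s_343_346 (c : Nat) : Nat := @Bool.rec (fun _ => Nat) (Ptab_343) (Ptab_s_344_346 c) (Nat.ble 344 c)
noncomputable def Ptab_s_340_346 (c : Nat) : Nat := @Bool.rec (fun _ => Nat) (Ptab_s_340_343 c) (Ptab_s_343_346 c) (Nat.ble 343 c)
noncomputable def Ptab_s_335_346 (c : Nat) : Nat := @Bool.rec (fun _ => Nat) (Ptab_s_335_340 c) (Ptab_s_340_346 c) (Nat.ble 340 c)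
noncomputable def Ptab_s_347_349 (c : Nat) : Nat := @Bool.rec (fun _ => Nat) (Ptab_347) (Ptab_348) (Nat.ble 348 c)
noncomputable def Ptab_s_346_349 (c : Nat) : Nat := @Bool.rec (fun _ => Nat) (Ptab_346) (Ptab_s_347_349 c) (Nat.ble 347 c)
noncomputable def Ptab_s_350_352 (c : Nat) : Nat := @Bool.rec (fun _ => Nat) (Ptab_350) (Ptab_351) (Nat.ble 351 c)
noncomputable def Ptab_s_349_352 (c : Nat) : Nat := @Bool.rec (fun _ => Nat) (Ptab_349) (Ptab_s_350_352 c) (Nat.ble 350 c)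
noncomputable def Ptab_s_346_352 (c : Nat) : Nat := @Bool.rec (fun _ => Nat) (Ptab_s_346_349 c) (Ptab_s_349_352 c) (Nat.ble 349 c)
noncomputable def Ptab_s_353_355 (c : Nat) : Nat := @Bool.rec (fun _ => Nat) (Ptab_353) (Ptab_354) (Nat.ble 354 c)
noncomputable def Ptab_s_352_355 (c : Nat) : Nat := @Bool.rec (fun _ => Nat) (Ptab_352) (Ptab_s_353_355 c) (Nat.ble 353 c)
noncomputable def Ptab_s_356_358 (c : Nat) : Nat := @Bool.rec (fun _ => Nat) (Ptab_356) (Ptab_357) (Nat.ble 357 c)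
noncomputable def Ptab_s_355_358 (c : Nat) : Nat := @Bool.rec (fun _ => Nat) (Ptab_355) (Ptab_s_356_358 c) (Nat.ble 356 c)
noncomputable def Ptab_s_352_358 (c : Nat) : Nat := @Bool.rec (fun _ => Nat) (Ptab_s_352_355 c) (Ptab_s_355_358 c) (Nat.ble 355 c)
noncomputable def Ptab_s_346_358 (c : Nat) : Nat := @Bool.rec (fun _ => Nat) (Ptab_s_346_352 c) (Ptab_s_352_358 c) (Nat.ble 352 c)
noncomputable def Ptab_s_335_358 (c : Nat) : Nat := @Bool.rec (fun _ => Nat) (Ptab_s_335_346 c) (Ptab_s_346_358 c) (Nat.ble 346 c)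
noncomputable def Ptab_s_313_358 (c : Nat) : Nat := @Bool.rec (fun _ => Nat) (Ptab_s_313_335 c) (Ptab_s_335_358 c) (Nat.ble 335 c)
noncomputable def Ptab_s_268_358 (c : Nat) : Nat := @Bool.rec (fun _ => Nat) (Ptab_s_268_313 c) (Ptab_s_313_358 c) (Nat.ble 313 c)
noncomputable def Ptab_s_179_358 (c : Nat) : Nat := @Bool.rec (fun _ => Nat) (Ptab_s_179_268 c) (Ptab_s_268_358 c) (Nat.ble 268 c)
noncomputable def Ptab_s_0_358 (c : Nat) : Nat := @Bool.rec (fun _ => Nat) (Ptab_s_0_179 c) (Ptab_s_179_358 c) (Nat.ble 179 c)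
noncomputable def Ptab_s_358_360 (c : Nat) : Nat := @Bool.rec (fun _ => Nat) (Ptab_358) (Ptab_359) (Nat.ble 359 c)
noncomputable def Ptab_s_361_363 (c : Nat) : Nat := @Bool.rec (fun _ => Nat) (Ptab_361) (Ptab_362) (Nat.ble 362 c)
noncomputable def Ptab_s_360_363 (c : Nat) : Nat := @Bool.rec (fun _ => Nat) (Ptab_360) (Ptab_s_361_363 c) (Nat.ble 361 c)
noncomputable def Ptab_s_358_363 (c : Nat) : Nat := @Bool.rec (fun _ => Nat) (Ptab_s_358_360 c) (Ptab_s_360_363 c) (Nat.ble 360 c)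
noncomputable def Ptab_s_364_366 (c : Nat) : Nat := @Bool.rec (fun _ => Nat) (Ptab_364) (Ptab_365) (Nat.ble 365 c)
noncomputable def Ptab_s_363_366 (c : Nat) : Nat := @Bool.rec (fun _ => Nat) (Ptab_363) (Ptab_s_364_366 c) (Nat.ble 364 c)
noncomputable def Ptab_s_367_369 (c : Nat) : Nat := @Bool.rec (fun _ => Nat) (Ptab_367) (Ptab_368) (Nat.ble 368 c)
noncomputable def Ptab_s_366_369 (c : Nat) : Nat := @Bool.rec (fun _ => Nat) (Ptab_366) (Ptab_s_367_369 c) (Nat.ble 367 c)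
noncomputable def Ptab_s_363_369 (c : Nat) : Nat := @Bool.rec (fun _ => Nat) (Ptab_s_363_366 c) (Ptab_s_366_369 c) (Nat.ble 366 c)
noncomputable def Ptab_s_358_369 (c : Nat) : Nat := @Bool.rec (fun _ => Nat) (Ptab_s_358_363 c) (Ptab_s_363_369 c) (Nat.ble 363 c)
noncomputable def Ptab_s_369_371 (c : Nat) : Nat := @Bool.rec (fun _ => Nat) (Ptab_369) (Ptab_370) (Nat.ble 370 c)
noncomputable def Ptab_s_372_374 (c : Nat) : Nat := @Bool.rec (fun _ => Nat) (Ptab_372) (Ptab_373) (Nat.ble 373 c)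
noncomputable def Ptab_s_371_374 (c : Nat) : Nat := @Bool.rec (fun _ => Nat) (Ptab_371) (Ptab_s_372_374 c) (Nat.ble 372 c)
noncomputable def Ptab_s_369_374 (c : Nat) : Nat := @Bool.rec (fun _ => Nat) (Ptab_s_369_371 c) (Ptab_s_371_374 c) (Nat.ble 371 c)
noncomputable def Ptab_s_375_377 (c : Nat) : Nat := @Bool.rec (fun _ => Nat) (Ptab_375) (Ptab_376) (Nat.ble 376 c)
noncomputable def Ptab_s_374_377 (c : Nat) : Nat := @Bool.rec (fun _ => Nat) (Ptab_374) (Ptab_s_375_377 c) (Nat.ble 375 c)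
noncomputable def Ptab_s_378_380 (c : Nat) : Nat := @Bool.rec (fun _ => Nat) (Ptab_378) (Ptab_379) (Nat.ble 379 c)
noncomputable def Ptab_s_377_380 (c : Nat) : Nat := @Bool.rec (fun _ => Nat) (Ptab_377) (Ptab_s_378_380 c) (Nat.ble 378 c)
noncomputable def Ptab_s_374_380 (c : Nat) : Nat := @Bool.rec (fun _ => Nat) (Ptab_s_374_377 c) (Ptab_s_377_380 c) (Nat.ble 377 c)
noncomputable def Ptab_s_369_380 (c : Nat) : Nat := @Bool.rec (fun _ => Nat) (Ptab_s_369_374 c) (Ptab_s_374_380 c) (Nat.ble 374 c)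
noncomputable def Ptab_s_358_380 (c : Nat) : Nat := @Bool.rec (fun _ => Nat) (Ptab_s_358_369 c) (Ptab_s_369_380 c) (Nat.ble 369 c)
noncomputable def Ptab_s_380_382 (c : Nat) : Nat := @Bool.rec (fun _ => Nat) (Ptab_380) (Ptab_381) (Nat.ble 381 c)
noncomputable def Ptab_s_383_385 (c : Nat) : Nat := @Bool.rec (fun _ => Nat) (Ptab_383) (Ptab_384) (Nat.ble 384 c)
noncomputable def Ptab_s_382_385 (c : Nat) : Nat := @Bool.rec (fun _ => Nat) (Ptab_382) (Ptab_s_383_385 c) (Nat.ble 383 c)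
noncomputable def Ptab_s_380_385 (c : Nat) : Nat := @Bool.rec (fun _ => Nat) (Ptab_s_380_382 c) (Ptab_s_382_385 c) (Nat.ble 382 c)
noncomputable def Ptab_s_386_388 (c : Nat) : Nat := @Bool.rec (fun _ => Nat) (Ptab_386) (Ptab_387) (Nat.ble 387 c)
noncomputable def Ptab_s_385_388 (c : Nat) : Nat := @Bool.rec (fun _ => Nat) (Ptab_385) (Ptab_s_386_388 c) (Nat.ble 386 c)
noncomputable def Ptab_s_389_391 (c : Nat) : Nat := @Bool.rec (fun _ => Nat) (Ptab_389) (Ptab_390) (Nat.ble 390 c)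
noncomputable def Ptab_s_388_391 (c : Nat) : Nat := @Bool.rec (fun _ => Nat) (Ptab_388) (Ptab_s_389_391 c) (Nat.ble 389 c)
noncomputable def Ptab_s_385_391 (c : Nat) : Nat := @Bool.rec (fun _ => Nat) (Ptab_s_385_388 c) (Ptab_s_388_391 c) (Nat.ble 388 c)
noncomputable def Ptab_s_380_391 (c : Nat) : Nat := @Bool.rec (fun _ => Nat) (Ptab_s_380_385 c) (Ptab_s_385_391 c) (Nat.ble 385 c)
noncomputable def Ptab_s_391_393 (c : Nat) : Nat := @Bool.rec (fun _ => Nat) (Ptab_391) (Ptab_392) (Nat.ble 392 c)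
noncomputable def Ptab_s_394_396 (c : Nat) : Nat := @Bool.rec (fun _ => Nat) (Ptab_394) (Ptab_395) (Nat.ble 395 c)
noncomputable def Ptab_s_393_396 (c : Nat) : Nat := @Bool.rec (fun _ => Nat) (Ptab_393) (Ptab_s_394_396 c) (Nat.ble 394 c)
noncomputable def Ptab_s_391_396 (c : Nat) : Nat := @Bool.rec (fun _ => Nat) (Ptab_s_391_393 c) (Ptab_s_393_396 c) (Nat.ble 393 c)
noncomputable def Ptab_s_397_399 (c : Nat) : Nat := @Bool.rec (fun _ => Nat) (Ptab_397) (Ptab_398) (Nat.ble 398 c)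
noncomputable def Ptab_s_396_399 (c : Nat) : Nat := @Bool.rec (fun _ => Nat) (Ptab_396) (Ptab_s_397_399 c) (Nat.ble 397 c)
noncomputable def Ptab_s_400_402 (c : Nat) : Nat := @Bool.rec (fun _ => Nat) (Ptab_400) (Ptab_401) (Nat.ble 401 c)
noncomputable def Ptab_s_399_402 (c : Nat) : Nat := @Bool.rec (fun _ => Nat) (Ptab_399) (Ptab_s_400_402 c) (Nat.ble 400 c)
noncomputable def Ptab_s_396_402 (c : Nat) : Nat := @Bool.rec (fun _ => Nat) (Ptab_s_396_399 c) (Ptab_s_399_402 c) (Nat.ble 399 c)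
noncomputable def Ptab_s_391_402 (c : Nat) : Nat := @Bool.rec (fun _ => Nat) (Ptab_s_391_396 c) (Ptab_s_396_402 c) (Nat.ble 396 c)
noncomputable def Ptab_s_380_402 (c : Nat) : Nat := @Bool.rec (fun _ => Nat) (Ptab_s_380_391 c) (Ptab_s_391_402 c) (Nat.ble 391 c)
noncomputable def Ptab_s_358_402 (c : Nat) : Nat := @Bool.rec (fun _ => Nat) (Ptab_s_358_380 c) (Ptab_s_380_402 c) (Nat.ble 380 c)
noncomputable def Ptab_s_402_404 (c : Nat) : Nat := @Bool.rec (fun _ => Nat) (Ptab_402) (Ptab_403) (Nat.ble 403 c)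
noncomputable def Ptab_s_405_407 (c : Nat) : Nat := @Bool.rec (fun _ => Nat) (Ptab_405) (Ptab_406) (Nat.ble 406 c)
noncomputable def Ptab_s_404_407 (c : Nat) : Nat := @Bool.rec (fun _ => Nat) (Ptab_404) (Ptab_s_405_407 c) (Nat.ble 405 c)
noncomputable def Ptab_s_402_407 (c : Nat) : Nat := @Bool.rec (fun _ => Nat) (Ptab_s_402_404 c) (Ptab_s_404_407 c) (Nat.ble 404 c)
noncomputable def Ptab_s_408_410 (c : Nat) : Nat := @Bool.rec (fun _ => Nat) (Ptab_408) (Ptab_409) (Nat.ble 409 c)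
noncomputable def Ptab_s_407_410 (c : Nat) : Nat := @Bool.rec (fun _ => Nat) (Ptab_407) (Ptab_s_408_410 c) (Nat.ble 408 c)
noncomputable def Ptab_s_411_413 (c : Nat) : Nat := @Bool.rec (fun _ => Nat) (Ptab_411) (Ptab_412) (Nat.ble 412 c)
noncomputable def Ptab_s_410_413 (c : Nat) : Nat := @Bool.rec (fun _ => Nat) (Ptab_410) (Ptab_s_411_413 c) (Nat.ble 411 c)
noncomputable def Ptab_s_407_413 (c : Nat) : Nat := @Bool.rec (fun _ => Nat) (Ptab_s_407_410 c) (Ptab_s_410_413 c) (Nat.ble 410 c)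
noncomputable def Ptab_s_402_413 (c : Nat) : Nat := @Bool.rec (fun _ => Nat) (Ptab_s_402_407 c) (Ptab_s_407_413 c) (Nat.ble 407 c)
noncomputable def Ptab_s_413_415 (c : Nat) : Nat := @Bool.rec (fun _ => Nat) (Ptab_413) (Ptab_414) (Nat.ble 414 c)
noncomputable def Ptab_s_416_418 (c : Nat) : Nat := @Bool.rec (fun _ => Nat) (Ptab_416) (Ptab_417) (Nat.ble 417 c)
noncomputable def Ptab_s_415_418 (c : Nat) : Nat := @Bool.rec (fun _ => Nat) (Ptab_415) (Ptab_s_416_418 c) (Nat.ble 416 c)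
noncomputable def Ptab_s_413_418 (c : Nat) : Nat := @Bool.rec (fun _ => Nat) (Ptab_s_413_415 c) (Ptab_s_415_418 c) (Nat.ble 415 c)
noncomputable def Ptab_s_419_421 (c : Nat) : Nat := @Bool.rec (fun _ => Nat) (Ptab_419) (Ptab_420) (Nat.ble 420 c)
noncomputable def Ptab_s_418_421 (c : Nat) : Nat := @Bool.rec (fun _ => Nat) (Ptab_418) (Ptab_s_419_421 c) (Nat.ble 419 c)
noncomputable def Ptab_s_422_424 (c : Nat) : Nat := @Bool.rec (fun _ => Nat) (Ptab_422) (Ptab_423) (Nat.ble 423 c)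
noncomputable def Ptab_s_421_424 (c : Nat) : Nat := @Bool.rec (fun _ => Nat) (Ptab_421) (Ptab_s_422_424 c) (Nat.ble 422 c)
noncomputable def Ptab_s_418_424 (c : Nat) : Nat := @Bool.rec (fun _ => Nat) (Ptab_s_418_421 c) (Ptab_s_421_424 c) (Nat.ble 421 c)
noncomputable def Ptab_s_413_424 (c : Nat) : Nat := @Bool.rec (fun _ => Nat) (Ptab_s_413_418 c) (Ptab_s_418_424 c) (Nat.ble 418 c)
noncomputable def Ptab_s_402_424 (c : Nat) : Nat := @Bool.rec (fun _ => Nat) (Ptab_s_402_413 c) (Ptab_s_413_424 c) (Nat.ble 413 c)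
noncomputable def Ptab_s_424_426 (c : Nat) : Nat := @Bool.rec (fun _ => Nat) (Ptab_424) (Ptab_425) (Nat.ble 425 c)
noncomputable def Ptab_s_427_429 (c : Nat) : Nat := @Bool.rec (fun _ => Nat) (Ptab_427) (Ptab_428) (Nat.ble 428 c)
noncomputable def Ptab_s_426_429 (c : Nat) : Nat := @Bool.rec (fun _ => Nat) (Ptab_426) (Ptab_s_427_429 c) (Nat.ble 427 c)
noncomputable def Ptab_s_424_429 (c : Nat) : Nat := @Bool.rec (fun _ => Nat) (Ptab_s_424_426 c) (Ptab_s_426_429 c) (Nat.ble 426 c)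
noncomputable def Ptab_s_430_432 (c : Nat) : Nat := @Bool.rec (fun _ => Nat) (Ptab_430) (Ptab_431) (Nat.ble 431 c)
noncomputable def Ptab_s_429_432 (c : Nat) : Nat := @Bool.rec (fun _ => Nat) (Ptab_429) (Ptab_s_430_432 c) (Nat.ble 430 c)
noncomputable def Ptab_s_433_435 (c : Nat) : Nat := @Bool.rec (fun _ => Nat) (Ptab_433) (Ptab_434) (Nat.ble 434 c)
noncomputable def Ptab_s_432_435 (c : Nat) : Nat := @Bool.rec (fun _ => Nat) (Ptab_432) (Ptab_s_433_435 c) (Nat.ble 433 c)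
noncomputable def Ptab_s_429_435 (c : Nat) : Nat := @Bool.rec (fun _ => Nat) (Ptab_s_429_432 c) (Ptab_s_432_435 c) (Nat.ble 432 c)
noncomputable def Ptab_s_424_435 (c : Nat) : Nat := @Bool.rec (fun _ => Nat) (Ptab_s_424_429 c) (Ptab_s_429_435 c) (Nat.ble 429 c)
noncomputable def Ptab_s_436_438 (c : Nat) : Nat := @Bool.rec (fun _ => Nat) (Ptab_436) (Ptab_437) (Nat.ble 437 c)
noncomputable def Ptab_s_435_438 (c : Nat) : Nat := @Bool.rec (fun _ => Nat) (Ptab_435) (Ptab_s_436_438 c) (Nat.ble 436 c)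
noncomputable def Ptab_s_439_441 (c : Nat) : Nat := @Bool.rec (fun _ => Nat) (Ptab_439) (Ptab_440) (Nat.ble 440 c)
noncomputable def Ptab_s_438_441 (c : Nat) : Nat := @Bool.rec (fun _ => Nat) (Ptab_438) (Ptab_s_439_441 c) (Nat.ble 439 c)
noncomputable def Ptab_s_435_441 (c : Nat) : Nat := @Bool.rec (fun _ => Nat) (Ptab_s_435_438 c) (Ptab_s_438_441 c) (Nat.ble 438 c)
noncomputable def Ptab_s_442_444 (c : Nat) : Nat := @Bool.rec (fun _ => Nat) (Ptab_442) (Ptab_443) (Nat.ble 443 c)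
noncomputable def Ptab_s_441_444 (c : Nat) : Nat := @Bool.rec (fun _ => Nat) (Ptab_441) (Ptab_s_442_444 c) (Nat.ble 442 c)
noncomputable def Ptab_s_445_447 (c : Nat) : Nat := @Bool.rec (fun _ => Nat) (Ptab_445) (Ptab_446) (Nat.ble 446 c)
noncomputable def Ptab_s_444_447 (c : Nat) : Nat := @Bool.rec (fun _ => Nat) (Ptab_444) (Ptab_s_445_447 c) (Nat.ble 445 c)
noncomputable def Ptab_s_441_447 (c : Nat) : Nat := @Bool.rec (fun _ => Nat) (Ptab_s_441_444 c) (Ptab_s_444_447 c) (Nat.ble 444 c)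
noncomputable def Ptab_s_435_447 (c : Nat) : Nat := @Bool.rec (fun _ => Nat) (Ptab_s_435_441 c) (Ptab_s_441_447 c) (Nat.ble 441 c)
noncomputable def Ptab_s_424_447 (c : Nat) : Nat := @Bool.rec (fun _ => Nat) (Ptab_s_424_435 c) (Ptab_s_435_447 c) (Nat.ble 435 c)
noncomputable def Ptab_s_402_447 (c : Nat) : Nat := @Bool.rec (fun _ => Nat) (Ptab_s_402_424 c) (Ptab_s_424_447 c) (Nat.ble 424 c)
noncomputable def Ptab_s_358_447 (c : Nat) : Nat := @Bool.rec (fun _ => Nat) (Ptab_s_358_402 c) (Ptab_s_402_447 c) (Nat.ble 402 c)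
noncomputable def Ptab_s_447_449 (c : Nat) : Nat := @Bool.rec (fun _ => Nat) (Ptab_447) (Ptab_448) (Nat.ble 448 c)
noncomputable def Ptab_s_450_452 (c : Nat) : Nat := @Bool.rec (fun _ => Nat) (Ptab_450) (Ptab_451) (Nat.ble 451 c)
noncomputable def Ptab_s_449_452 (c : Nat) : Nat := @Bool.rec (fun _ => Nat) (Ptab_449) (Ptab_s_450_452 c) (Nat.ble 450 c)
noncomputable def Ptab_s_447_452 (c : Nat) : Nat := @Bool.rec (fun _ => Nat) (Ptab_s_447_449 c) (Ptab_s_449_452 c) (Nat.ble 449 c)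
noncomputable def Ptab_s_453_455 (c : Nat) : Nat := @Bool.rec (fun _ => Nat) (Ptab_453) (Ptab_454) (Nat.ble 454 c)
noncomputable def Ptab_s_452_455 (c : Nat) : Nat := @Bool.rec (fun _ => Nat) (Ptab_452) (Ptab_s_453_455 c) (Nat.ble 453 c)
noncomputable def Ptab_s_456_458 (c : Nat) : Nat := @Bool.rec (fun _ => Nat) (Ptab_456) (Ptab_457) (Nat.ble 457 c)
noncomputable def Ptab_s_455_458 (c : Nat) : Nat := @Bool.rec (fun _ => Nat) (Ptab_455) (Ptab_s_456_458 c) (Nat.ble 456 c)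
noncomputable def Ptab_s_452_458 (c : Nat) : Nat := @Bool.rec (fun _ => Nat) (Ptab_s_452_455 c) (Ptab_s_455_458 c) (Nat.ble 455 c)
noncomputable def Ptab_s_447_458 (c : Nat) : Nat := @Bool.rec (fun _ => Nat) (Ptab_s_447_452 c) (Ptab_s_452_458 c) (Nat.ble 452 c)
noncomputable def Ptab_s_458_460 (c : Nat) : Nat := @Bool.rec (fun _ => Nat) (Ptab_458) (Ptab_459) (Nat.ble 459 c)
noncomputable def Ptab_s_461_463 (c : Nat) : Nat := @Bool.rec (fun _ => Nat) (Ptab_461) (Ptab_462) (Nat.ble 462 c)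
noncomputable def Ptab_s_460_463 (c : Nat) : Nat := @Bool.rec (fun _ => Nat) (Ptab_460) (Ptab_s_461_463 c) (Nat.ble 461 c)
noncomputable def Ptab_s_458_463 (c : Nat) : Nat := @Bool.rec (fun _ => Nat) (Ptab_s_458_460 c) (Ptab_s_460_463 c) (Nat.ble 460 c)
noncomputable def Ptab_s_464_466 (c : Nat) : Nat := @Bool.rec (fun _ => Nat) (Ptab_464) (Ptab_465) (Nat.ble 465 c)
noncomputable def Ptab_s_463_466 (c : Nat) : Nat := @Bool.rec (fun _ => Nat) (Ptab_463) (Ptab_s_464_466 c) (Nat.ble 464 c)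
noncomputable def Ptab_s_467_469 (c : Nat) : Nat := @Bool.rec (fun _ => Nat) (Ptab_467) (Ptab_468) (Nat.ble 468 c)
noncomputable def Ptab_s_466_469 (c : Nat) : Nat := @Bool.rec (fun _ => Nat) (Ptab_466) (Ptab_s_467_469 c) (Nat.ble 467 c)
noncomputable def Ptab_s_463_469 (c : Nat) : Nat := @Bool.rec (fun _ => Nat) (Ptab_s_463_466 c) (Ptab_s_466_469 c) (Nat.ble 466 c)
noncomputable def Ptab_s_458_469 (c : Nat) : Nat := @Bool.rec (fun _ => Nat) (Ptab_s_458_463 c) (Ptab_s_463_469 c) (Nat.ble 463 c)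
noncomputable def Ptab_s_447_469 (c : Nat) : Nat := @Bool.rec (fun _ => Nat) (Ptab_s_447_458 c) (Ptab_s_458_469 c) (Nat.ble 458 c)
noncomputable def Ptab_s_469_471 (c : Nat) : Nat := @Bool.rec (fun _ => Nat) (Ptab_469) (Ptab_470) (Nat.ble 470 c)
noncomputable def Ptab_s_472_474 (c : Nat) : Nat := @Bool.rec (fun _ => Nat) (Ptab_472) (Ptab_473) (Nat.ble 473 c)
noncomputable def Ptab_s_471_474 (c : Nat) : Nat := @Bool.rec (fun _ => Nat) (Ptab_471) (Ptab_s_472_474 c) (Nat.ble 472 c)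
noncomputable def Ptab_s_469_474 (c : Nat) : Nat := @Bool.rec (fun _ => Nat) (Ptab_s_469_471 c) (Ptab_s_471_474 c) (Nat.ble 471 c)
noncomputable def Ptab_s_475_477 (c : Nat) : Nat := @Bool.rec (fun _ => Nat) (Ptab_475) (Ptab_476) (Nat.ble 476 c)
noncomputable def Ptab_s_474_477 (c : Nat) : Nat := @Bool.rec (fun _ => Nat) (Ptab_474) (Ptab_s_475_477 c) (Nat.ble 475 c)
noncomputable def Ptab_s_478_480 (c : Nat) : Nat := @Bool.rec (fun _ => Nat) (Ptab_478) (Ptab_479) (Nat.ble 479 c)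
noncomputable def Ptab_s_477_480 (c : Nat) : Nat := @Bool.rec (fun _ => Nat) (Ptab_477) (Ptab_s_478_480 c) (Nat.ble 478 c)
noncomputable def Ptab_s_474_480 (c : Nat) : Nat := @Bool.rec (fun _ => Nat) (Ptab_s_474_477 c) (Ptab_s_477_480 c) (Nat.ble 477 c)
noncomputable def Ptab_s_469_480 (c : Nat) : Nat := @Bool.rec (fun _ => Nat) (Ptab_s_469_474 c) (Ptab_s_474_480 c) (Nat.ble 474 c)
noncomputable def Ptab_s_481_483 (c : Nat) : Nat := @Bool.rec (fun _ => Nat) (Ptab_481) (Ptab_482) (Nat.ble 482 c)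
noncomputable def Ptab_s_480_483 (c : Nat) : Nat := @Bool.rec (fun _ => Nat) (Ptab_480) (Ptab_s_481_483 c) (Nat.ble 481 c)
noncomputable def Ptab_s_484_486 (c : Nat) : Nat := @Bool.rec (fun _ => Nat) (Ptab_484) (Ptab_485) (Nat.ble 485 c)
noncomputable def Ptab_s_483_486 (c : Nat) : Nat := @Bool.rec (fun _ => Nat) (Ptab_483) (Ptab_s_484_486 c) (Nat.ble 484 c)
noncomputable def Ptab_s_480_486 (c : Nat) : Nat := @Bool.rec (fun _ => Nat) (Ptab_s_480_483 c) (Ptab_s_483_486 c) (Nat.ble 483 c)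
noncomputable def Ptab_s_487_489 (c : Nat) : Nat := @Bool.rec (fun _ => Nat) (Ptab_487) (Ptab_488) (Nat.ble 488 c)
noncomputable def Ptab_s_486_489 (c : Nat) : Nat := @Bool.rec (fun _ => Nat) (Ptab_486) (Ptab_s_487_489 c) (Nat.ble 487 c)
noncomputable def Ptab_s_490_492 (c : Nat) : Nat := @Bool.rec (fun _ => Nat) (Ptab_490) (Ptab_491) (Nat.ble 491 c)
noncomputable def Ptab_s_489_492 (c : Nat) : Nat := @Bool.rec (fun _ => Nat) (Ptab_489) (Ptab_s_490_492 c) (Nat.ble 490 c)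
noncomputable def Ptab_s_486_492 (c : Nat) : Nat := @Bool.rec (fun _ => Nat) (Ptab_s_486_489 c) (Ptab_s_489_492 c) (Nat.ble 489 c)
noncomputable def Ptab_s_480_492 (c : Nat) : Nat := @Bool.rec (fun _ => Nat) (Ptab_s_480_486 c) (Ptab_s_486_492 c) (Nat.ble 486 c)
noncomputable def Ptab_s_469_492 (c : Nat) : Nat := @Bool.rec (fun _ => Nat) (Ptab_s_469_480 c) (Ptab_s_480_492 c) (Nat.ble 480 c)
noncomputable def Ptab_s_447_492 (c : Nat) : Nat := @Bool.rec (fun _ => Nat) (Ptab_s_447_469 c) (Ptab_s_469_492 c) (Nat.ble 469 c)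
noncomputable def Ptab_s_492_494 (c : Nat) : Nat := @Bool.rec (fun _ => Nat) (Ptab_492) (Ptab_493) (Nat.ble 493 c)
noncomputable def Ptab_s_495_497 (c : Nat) : Nat := @Bool.rec (fun _ => Nat) (Ptab_495) (Ptab_496) (Nat.ble 496 c)
noncomputable def Ptab_s_494_497 (c : Nat) : Nat := @Bool.rec (fun _ => Nat) (Ptab_494) (Ptab_s_495_497 c) (Nat.ble 495 c)
noncomputable def Ptab_s_492_497 (c : Nat) : Nat := @Bool.rec (fun _ => Nat) (Ptab_s_492_494 c) (Ptab_s_494_497 c) (Nat.ble 494 c)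
noncomputable def Ptab_s_498_500 (c : Nat) : Nat := @Bool.rec (fun _ => Nat) (Ptab_498) (Ptab_499) (Nat.ble 499 c)
noncomputable def Ptab_s_497_500 (c : Nat) : Nat := @Bool.rec (fun _ => Nat) (Ptab_497) (Ptab_s_498_500 c) (Nat.ble 498 c)
noncomputable def Ptab_s_501_503 (c : Nat) : Nat := @Bool.rec (fun _ => Nat) (Ptab_501) (Ptab_502) (Nat.ble 502 c)
noncomputable def Ptab_s_500_503 (c : Nat) : Nat := @Bool.rec (fun _ => Nat) (Ptab_500) (Ptab_s_501_503 c) (Nat.ble 501 c)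
noncomputable def Ptab_s_497_503 (c : Nat) : Nat := @Bool.rec (fun _ => Nat) (Ptab_s_497_500 c) (Ptab_s_500_503 c) (Nat.ble 500 c)
noncomputable def Ptab_s_492_503 (c : Nat) : Nat := @Bool.rec (fun _ => Nat) (Ptab_s_492_497 c) (Ptab_s_497_503 c) (Nat.ble 497 c)
noncomputable def Ptab_s_503_505 (c : Nat) : Nat := @Bool.rec (fun _ => Nat) (Ptab_503) (Ptab_504) (Nat.ble 504 c)
noncomputable def Ptab_s_506_508 (c : Nat) : Nat := @Bool.rec (fun _ => Nat) (Ptab_506) (Ptab_507) (Nat.ble 507 c)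
noncomputable def Ptab_s_505_508 (c : Nat) : Nat := @Bool.rec (fun _ => Nat) (Ptab_505) (Ptab_s_506_508 c) (Nat.ble 506 c)
noncomputable def Ptab_s_503_508 (c : Nat) : Nat := @Bool.rec (fun _ => Nat) (Ptab_s_503_505 c) (Ptab_s_505_508 c) (Nat.ble 505 c)
noncomputable def Ptab_s_509_511 (c : Nat) : Nat := @Bool.rec (fun _ => Nat) (Ptab_509) (Ptab_510) (Nat.ble 510 c)
noncomputable def Ptab_s_508_511 (c : Nat) : Nat := @Bool.rec (fun _ => Nat) (Ptab_508) (Ptab_s_509_511 c) (Nat.ble 509 c)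
noncomputable def Ptab_s_512_514 (c : Nat) : Nat := @Bool.rec (fun _ => Nat) (Ptab_512) (Ptab_513) (Nat.ble 513 c)
noncomputable def Ptab_s_511_514 (c : Nat) : Nat := @Bool.rec (fun _ => Nat) (Ptab_511) (Ptab_s_512_514 c) (Nat.ble 512 c)
noncomputable def Ptab_s_508_514 (c : Nat) : Nat := @Bool.rec (fun _ => Nat) (Ptab_s_508_511 c) (Ptab_s_511_514 c) (Nat.ble 511 c)
noncomputable def Ptab_s_503_514 (c : Nat) : Nat := @Bool.rec (fun _ => Nat) (Ptab_s_503_508 c) (Ptab_s_508_514 c) (Nat.ble 508 c)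
noncomputable def Ptab_s_492_514 (c : Nat) : Nat := @Bool.rec (fun _ => Nat) (Ptab_s_492_503 c) (Ptab_s_503_514 c) (Nat.ble 503 c)
noncomputable def Ptab_s_514_516 (c : Nat) : Nat := @Bool.rec (fun _ => Nat) (Ptab_514) (Ptab_515) (Nat.ble 515 c)
noncomputable def Ptab_s_517_519 (c : Nat) : Nat := @Bool.rec (fun _ => Nat) (Ptab_517) (Ptab_518) (Nat.ble 518 c)
noncomputable def Ptab_s_516_519 (c : Nat) : Nat := @Bool.rec (fun _ => Nat) (Ptab_516) (Ptab_s_517_519 c) (Nat.ble 517 c)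
noncomputable def Ptab_s_514_519 (c : Nat) : Nat := @Bool.rec (fun _ => Nat) (Ptab_s_514_516 c) (Ptab_s_516_519 c) (Nat.ble 516 c)
noncomputable def Ptab_s_520_522 (c : Nat) : Nat := @Bool.rec (fun _ => Nat) (Ptab_520) (Ptab_521) (Nat.ble 521 c)
noncomputable def Ptab_s_519_522 (c : Nat) : Nat := @Bool.rec (fun _ => Nat) (Ptab_519) (Ptab_s_520_522 c) (Nat.ble 520 c)
noncomputable def Ptab_s_523_525 (c : Nat) : Nat := @Bool.rec (fun _ => Nat) (Ptab_523) (Ptab_524) (Nat.ble 524 c)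
noncomputable def Ptab_s_522_525 (c : Nat) : Nat := @Bool.rec (fun _ => Nat) (Ptab_522) (Ptab_s_523_525 c) (Nat.ble 523 c)
noncomputable def Ptab_s_519_525 (c : Nat) : Nat := @Bool.rec (fun _ => Nat) (Ptab_s_519_522 c) (Ptab_s_522_525 c) (Nat.ble 522 c)
noncomputable def Ptab_s_514_525 (c : Nat) : Nat := @Bool.rec (fun _ => Nat) (Ptab_s_514_519 c) (Ptab_s_519_525 c) (Nat.ble 519 c)
noncomputable def Ptab_s_526_528 (c : Nat) : Nat := @Bool.rec (fun _ => Nat) (Ptab_526) (Ptab_527) (Nat.ble 527 c)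
noncomputable def Ptab_s_525_528 (c : Nat) : Nat := @Bool.rec (fun _ => Nat) (Ptab_525) (Ptab_s_526_528 c) (Nat.ble 526 c)
noncomputable def Ptab_s_529_531 (c : Nat) : Nat := @Bool.rec (fun _ => Nat) (Ptab_529) (Ptab_530) (Nat.ble 530 c)
noncomputable def Ptab_s_528_531 (c : Nat) : Nat := @Bool.rec (fun _ => Nat) (Ptab_528) (Ptab_s_529_531 c) (Nat.ble 529 c)
noncomputable def Ptab_s_525_531 (c : Nat) : Nat := @Bool.rec (fun _ => Nat) (Ptab_s_525_528 c) (Ptab_s_528_531 c) (Nat.ble 528 c)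
noncomputable def Ptab_s_532_534 (c : Nat) : Nat := @Bool.rec (fun _ => Nat) (Ptab_532) (Ptab_533) (Nat.ble 533 c)
noncomputable def Ptab_s_531_534 (c : Nat) : Nat := @Bool.rec (fun _ => Nat) (Ptab_531) (Ptab_s_532_534 c) (Nat.ble 532 c)
noncomputable def Ptab_s_535_537 (c : Nat) : Nat := @Bool.rec (fun _ => Nat) (Ptab_535) (Ptab_536) (Nat.ble 536 c)
noncomputable def Ptab_s_534_537 (c : Nat) : Nat := @Bool.rec (fun _ => Nat) (Ptab_534) (Ptab_s_535_537 c) (Nat.ble 535 c)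
noncomputable def Ptab_s_531_537 (c : Nat) : Nat := @Bool.rec (fun _ => Nat) (Ptab_s_531_534 c) (Ptab_s_534_537 c) (Nat.ble 534 c)
noncomputable def Ptab_s_525_537 (c : Nat) : Nat := @Bool.rec (fun _ => Nat) (Ptab_s_525_531 c) (Ptab_s_531_537 c) (Nat.ble 531 c)
noncomputable def Ptab_s_514_537 (c : Nat) : Nat := @Bool.rec (fun _ => Nat) (Ptab_s_514_525 c) (Ptab_s_525_537 c) (Nat.ble 525 c)
noncomputable def Ptab_s_492_537 (c : Nat) : Nat := @Bool.rec (fun _ => Nat) (Ptab_s_492_514 c) (Ptab_s_514_537 c) (Nat.ble 514 c)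
noncomputable def Ptab_s_447_537 (c : Nat) : Nat := @Bool.rec (fun _ => Nat) (Ptab_s_447_492 c) (Ptab_s_492_537 c) (Nat.ble 492 c)
noncomputable def Ptab_s_358_537 (c : Nat) : Nat := @Bool.rec (fun _ => Nat) (Ptab_s_358_447 c) (Ptab_s_447_537 c) (Nat.ble 447 c)
noncomputable def Ptab_s_537_539 (c : Nat) : Nat := @Bool.rec (fun _ => Nat) (Ptab_537) (Ptab_538) (Nat.ble 538 c)
noncomputable def Ptab_s_540_542 (c : Nat) : Nat := @Bool.rec (fun _ => Nat) (Ptab_540) (Ptab_541) (Nat.ble 541 c)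
noncomputable def Ptab_s_539_542 (c : Nat) : Nat := @Bool.rec (fun _ => Nat) (Ptab_539) (Ptab_s_540_542 c) (Nat.ble 540 c)
noncomputable def Ptab_s_537_542 (c : Nat) : Nat := @Bool.rec (fun _ => Nat) (Ptab_s_537_539 c) (Ptab_s_539_542 c) (Nat.ble 539 c)
noncomputable def Ptab_s_543_545 (c : Nat) : Nat := @Bool.rec (fun _ => Nat) (Ptab_543) (Ptab_544) (Nat.ble 544 c)
noncomputable def Ptab_s_542_545 (c : Nat) : Nat := @Bool.rec (fun _ => Nat) (Ptab_542) (Ptab_s_543_545 c) (Nat.ble 543 c)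
noncomputable def Ptab_s_546_548 (c : Nat) : Nat := @Bool.rec (fun _ => Nat) (Ptab_546) (Ptab_547) (Nat.ble 547 c)
noncomputable def Ptab_s_545_548 (c : Nat) : Nat := @Bool.rec (fun _ => Nat) (Ptab_545) (Ptab_s_546_548 c) (Nat.ble 546 c)
noncomputable def Ptab_s_542_548 (c : Nat) : Nat := @Bool.rec (fun _ => Nat) (Ptab_s_542_545 c) (Ptab_s_545_548 c) (Nat.ble 545 c)
noncomputable def Ptab_s_537_548 (c : Nat) : Nat := @Bool.rec (fun _ => Nat) (Ptab_s_537_542 c) (Ptab_s_542_548 c) (Nat.ble 542 c)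
noncomputable def Ptab_s_548_550 (c : Nat) : Nat := @Bool.rec (fun _ => Nat) (Ptab_548) (Ptab_549) (Nat.ble 549 c)
noncomputable def Ptab_s_551_553 (c : Nat) : Nat := @Bool.rec (fun _ => Nat) (Ptab_551) (Ptab_552) (Nat.ble 552 c)
noncomputable def Ptab_s_550_553 (c : Nat) : Nat := @Bool.rec (fun _ => Nat) (Ptab_550) (Ptab_s_551_553 c) (Nat.ble 551 c)
noncomputable def Ptab_s_548_553 (c : Nat) : Nat := @Bool.rec (fun _ => Nat) (Ptab_s_548_550 c) (Ptab_s_550_553 c) (Nat.ble 550 c)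
noncomputable def Ptab_s_554_556 (c : Nat) : Nat := @Bool.rec (fun _ => Nat) (Ptab_554) (Ptab_555) (Nat.ble 555 c)
noncomputable def Ptab_s_553_556 (c : Nat) : Nat := @Bool.rec (fun _ => Nat) (Ptab_553) (Ptab_s_554_556 c) (Nat.ble 554 c)
noncomputable def Ptab_s_557_559 (c : Nat) : Nat := @Bool.rec (fun _ => Nat) (Ptab_557) (Ptab_558) (Nat.ble 558 c)
noncomputable def Ptab_s_556_559 (c : Nat) : Nat := @Bool.rec (fun _ => Nat) (Ptab_556) (Ptab_s_557_559 c) (Nat.ble 557 c)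
noncomputable def Ptab_s_553_559 (c : Nat) : Nat := @Bool.rec (fun _ => Nat) (Ptab_s_553_556 c) (Ptab_s_556_559 c) (Nat.ble 556 c)
noncomputable def Ptab_s_548_559 (c : Nat) : Nat := @Bool.rec (fun _ => Nat) (Ptab_s_548_553 c) (Ptab_s_553_559 c) (Nat.ble 553 c)
noncomputable def Ptab_s_537_559 (c : Nat) : Nat := @Bool.rec (fun _ => Nat) (Ptab_s_537_548 c) (Ptab_s_548_559 c) (Nat.ble 548 c)
noncomputable def Ptab_s_559_561 (c : Nat) : Nat := @Bool.rec (fun _ => Nat) (Ptab_559) (Ptab_560) (Nat.ble 560 c)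
noncomputable def Ptab_s_562_564 (c : Nat) : Nat := @Bool.rec (fun _ => Nat) (Ptab_562) (Ptab_563) (Nat.ble 563 c)
noncomputable def Ptab_s_561_564 (c : Nat) : Nat := @Bool.rec (fun _ => Nat) (Ptab_561) (Ptab_s_562_564 c) (Nat.ble 562 c)
noncomputable def Ptab_s_559_564 (c : Nat) : Nat := @Bool.rec (fun _ => Nat) (Ptab_s_559_561 c) (Ptab_s_561_564 c) (Nat.ble 561 c)
noncomputable def Ptab_s_565_567 (c : Nat) : Nat := @Bool.rec (fun _ => Nat) (Ptab_565) (Ptab_566) (Nat.ble 566 c)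
noncomputable def Ptab_s_564_567 (c : Nat) : Nat := @Bool.rec (fun _ => Nat) (Ptab_564) (Ptab_s_565_567 c) (Nat.ble 565 c)
noncomputable def Ptab_s_568_570 (c : Nat) : Nat := @Bool.rec (fun _ => Nat) (Ptab_568) (Ptab_569) (Nat.ble 569 c)
noncomputable def Ptab_s_567_570 (c : Nat) : Nat := @Bool.rec (fun _ => Nat) (Ptab_567) (Ptab_s_568_570 c) (Nat.ble 568 c)
noncomputable def Ptab_s_564_570 (c : Nat) : Nat := @Bool.rec (fun _ => Nat) (Ptab_s_564_567 c) (Ptab_s_567_570 c) (Nat.ble 567 c)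
noncomputable def Ptab_s_559_570 (c : Nat) : Nat := @Bool.rec (fun _ => Nat) (Ptab_s_559_564 c) (Ptab_s_564_570 c) (Nat.ble 564 c)
noncomputable def Ptab_s_571_573 (c : Nat) : Nat := @Bool.rec (fun _ => Nat) (Ptab_571) (Ptab_572) (Nat.ble 572 c)
noncomputable def Ptab_s_570_573 (c : Nat) : Nat := @Bool.rec (fun _ => Nat) (Ptab_570) (Ptab_s_571_573 c) (Nat.ble 571 c)
noncomputable def Ptab_s_574_576 (c : Nat) : Nat := @Bool.rec (fun _ => Nat) (Ptab_574) (Ptab_575) (Nat.ble 575 c)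
noncomputable def Ptab_s_573_576 (c : Nat) : Nat := @Bool.rec (fun _ => Nat) (Ptab_573) (Ptab_s_574_576 c) (Nat.ble 574 c)
noncomputable def Ptab_s_570_576 (c : Nat) : Nat := @Bool.rec (fun _ => Nat) (Ptab_s_570_573 c) (Ptab_s_573_576 c) (Nat.ble 573 c)
noncomputable def Ptab_s_577_579 (c : Nat) : Nat := @Bool.rec (fun _ => Nat) (Ptab_577) (Ptab_578) (Nat.ble 578 c)
noncomputable def Ptab_s_576_579 (c : Nat) : Nat := @Bool.rec (fun _ => Nat) (Ptab_576) (Ptab_s_577_579 c) (Nat.ble 577 c)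
noncomputable def Ptab_s_580_582 (c : Nat) : Nat := @Bool.rec (fun _ => Nat) (Ptab_580) (Ptab_581) (Nat.ble 581 c)
noncomputable def Ptab_s_579_582 (c : Nat) : Nat := @Bool.rec (fun _ => Nat) (Ptab_579) (Ptab_s_580_582 c) (Nat.ble 580 c)
noncomputable def Ptab_s_576_582 (c : Nat) : Nat := @Bool.rec (fun _ => Nat) (Ptab_s_576_579 c) (Ptab_s_579_582 c) (Nat.ble 579 c)
noncomputable def Ptab_s_570_582 (c : Nat) : Nat := @Bool.rec (fun _ => Nat) (Ptab_s_570_576 c) (Ptab_s_576_582 c) (Nat.ble 576 c)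
noncomputable def Ptab_s_559_582 (c : Nat) : Nat := @Bool.rec (fun _ => Nat) (Ptab_s_559_570 c) (Ptab_s_570_582 c) (Nat.ble 570 c)
noncomputable def Ptab_s_537_582 (c : Nat) : Nat := @Bool.rec (fun _ => Nat) (Ptab_s_537_559 c) (Ptab_s_559_582 c) (Nat.ble 559 c)
noncomputable def Ptab_s_582_584 (c : Nat) : Nat := @Bool.rec (fun _ => Nat) (Ptab_582) (Ptab_583) (Nat.ble 583 c)
noncomputable def Ptab_s_585_587 (c : Nat) : Nat := @Bool.rec (fun _ => Nat) (Ptab_585) (Ptab_586) (Nat.ble 586 c)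
noncomputable def Ptab_s_584_587 (c : Nat) : Nat := @Bool.rec (fun _ => Nat) (Ptab_584) (Ptab_s_585_587 c) (Nat.ble 585 c)
noncomputable def Ptab_s_582_587 (c : Nat) : Nat := @Bool.rec (fun _ => Nat) (Ptab_s_582_584 c) (Ptab_s_584_587 c) (Nat.ble 584 c)
noncomputable def Ptab_s_588_590 (c : Nat) : Nat := @Bool.rec (fun _ => Nat) (Ptab_588) (Ptab_589) (Nat.ble 589 c)
noncomputable def Ptab_s_587_590 (c : Nat) : Nat := @Bool.rec (fun _ => Nat) (Ptab_587) (Ptab_s_588_590 c) (Nat.ble 588 c)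
noncomputable def Ptab_s_591_593 (c : Nat) : Nat := @Bool.rec (fun _ => Nat) (Ptab_591) (Ptab_592) (Nat.ble 592 c)
noncomputable def Ptab_s_590_593 (c : Nat) : Nat := @Bool.rec (fun _ => Nat) (Ptab_590) (Ptab_s_591_593 c) (Nat.ble 591 c)
noncomputable def Ptab_s_587_593 (c : Nat) : Nat := @Bool.rec (fun _ => Nat) (Ptab_s_587_590 c) (Ptab_s_590_593 c) (Nat.ble 590 c)
noncomputable def Ptab_s_582_593 (c : Nat) : Nat := @Bool.rec (fun _ => Nat) (Ptab_s_582_587 c) (Ptab_s_587_593 c) (Nat.ble 587 c)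
noncomputable def Ptab_s_593_595 (c : Nat) : Nat := @Bool.rec (fun _ => Nat) (Ptab_593) (Ptab_594) (Nat.ble 594 c)
noncomputable def Ptab_s_596_598 (c : Nat) : Nat := @Bool.rec (fun _ => Nat) (Ptab_596) (Ptab_597) (Nat.ble 597 c)
noncomputable def Ptab_s_595_598 (c : Nat) : Nat := @Bool.rec (fun _ => Nat) (Ptab_595) (Ptab_s_596_598 c) (Nat.ble 596 c)
noncomputable def Ptab_s_593_598 (c : Nat) : Nat := @Bool.rec (fun _ => Nat) (Ptab_s_593_595 c) (Ptab_s_595_598 c) (Nat.ble 595 c)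
noncomputable def Ptab_s_599_601 (c : Nat) : Nat := @Bool.rec (fun _ => Nat) (Ptab_599) (Ptab_600) (Nat.ble 600 c)
noncomputable def Ptab_s_598_601 (c : Nat) : Nat := @Bool.rec (fun _ => Nat) (Ptab_598) (Ptab_s_599_601 c) (Nat.ble 599 c)
noncomputable def Ptab_s_602_604 (c : Nat) : Nat := @Bool.rec (fun _ => Nat) (Ptab_602) (Ptab_603) (Nat.ble 603 c)
noncomputable def Ptab_s_601_604 (c : Nat) : Nat := @Bool.rec (fun _ => Nat) (Ptab_601) (Ptab_s_602_604 c) (Nat.ble 602 c)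
noncomputable def Ptab_s_598_604 (c : Nat) : Nat := @Bool.rec (fun _ => Nat) (Ptab_s_598_601 c) (Ptab_s_601_604 c) (Nat.ble 601 c)
noncomputable def Ptab_s_593_604 (c : Nat) : Nat := @Bool.rec (fun _ => Nat) (Ptab_s_593_598 c) (Ptab_s_598_604 c) (Nat.ble 598 c)
noncomputable def Ptab_s_582_604 (c : Nat) : Nat := @Bool.rec (fun _ => Nat) (Ptab_s_582_593 c) (Ptab_s_593_604 c) (Nat.ble 593 c)
noncomputable def Ptab_s_604_606 (c : Nat) : Nat := @Bool.rec (fun _ => Nat) (Ptab_604) (Ptab_605) (Nat.ble 605 c)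
noncomputable def Ptab_s_607_609 (c : Nat) : Nat := @Bool.rec (fun _ => Nat) (Ptab_607) (Ptab_608) (Nat.ble 608 c)
noncomputable def Ptab_s_606_609 (c : Nat) : Nat := @Bool.rec (fun _ => Nat) (Ptab_606) (Ptab_s_607_609 c) (Nat.ble 607 c)
noncomputable def Ptab_s_604_609 (c : Nat) : Nat := @Bool.rec (fun _ => Nat) (Ptab_s_604_606 c) (Ptab_s_606_609 c) (Nat.ble 606 c)
noncomputable def Ptab_s_610_612 (c : Nat) : Nat := @Bool.rec (fun _ => Nat) (Ptab_610) (Ptab_611) (Nat.ble 611 c)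
noncomputable def Ptab_s_609_612 (c : Nat) : Nat := @Bool.rec (fun _ => Nat) (Ptab_609) (Ptab_s_610_612 c) (Nat.ble 610 c)
noncomputable def Ptab_s_613_615 (c : Nat) : Nat := @Bool.rec (fun _ => Nat) (Ptab_613) (Ptab_614) (Nat.ble 614 c)
noncomputable def Ptab_s_612_615 (c : Nat) : Nat := @Bool.rec (fun _ => Nat) (Ptab_612) (Ptab_s_613_615 c) (Nat.ble 613 c)
noncomputable def Ptab_s_609_615 (c : Nat) : Nat := @Bool.rec (fun _ => Nat) (Ptab_s_609_612 c) (Ptab_s_612_615 c) (Nat.ble 612 c)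
noncomputable def Ptab_s_604_615 (c : Nat) : Nat := @Bool.rec (fun _ => Nat) (Ptab_s_604_609 c) (Ptab_s_609_615 c) (Nat.ble 609 c)
noncomputable def Ptab_s_616_618 (c : Nat) : Nat := @Bool.rec (fun _ => Nat) (Ptab_616) (Ptab_617) (Nat.ble 617 c)
noncomputable def Ptab_s_615_618 (c : Nat) : Nat := @Bool.rec (fun _ => Nat) (Ptab_615) (Ptab_s_616_618 c) (Nat.ble 616 c)
noncomputable def Ptab_s_619_621 (c : Nat) : Nat := @Bool.rec (fun _ => Nat) (Ptab_619) (Ptab_620) (Nat.ble 620 c)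
noncomputable def Ptab_s_618_621 (c : Nat) : Nat := @Bool.rec (fun _ => Nat) (Ptab_618) (Ptab_s_619_621 c) (Nat.ble 619 c)
noncomputable def Ptab_s_615_621 (c : Nat) : Nat := @Bool.rec (fun _ => Nat) (Ptab_s_615_618 c) (Ptab_s_618_621 c) (Nat.ble 618 c)
noncomputable def Ptab_s_622_624 (c : Nat) : Nat := @Bool.rec (fun _ => Nat) (Ptab_622) (Ptab_623) (Nat.ble 623 c)
noncomputable def Ptab_s_621_624 (c : Nat) : Nat := @Bool.rec (fun _ => Nat) (Ptab_621) (Ptab_s_622_624 c) (Nat.ble 622 c)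
noncomputable def Ptab_s_625_627 (c : Nat) : Nat := @Bool.rec (fun _ => Nat) (Ptab_625) (Ptab_626) (Nat.ble 626 c)
noncomputable def Ptab_s_624_627 (c : Nat) : Nat := @Bool.rec (fun _ => Nat) (Ptab_624) (Ptab_s_625_627 c) (Nat.ble 625 c)
noncomputable def Ptab_s_621_627 (c : Nat) : Nat := @Bool.rec (fun _ => Nat) (Ptab_s_621_624 c) (Ptab_s_624_627 c) (Nat.ble 624 c)
noncomputable def Ptab_s_615_627 (c : Nat) : Nat := @Bool.rec (fun _ => Nat) (Ptab_s_615_621 c) (Ptab_s_621_627 c) (Nat.ble 621 c)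
noncomputable def Ptab_s_604_627 (c : Nat) : Nat := @Bool.rec (fun _ => Nat) (Ptab_s_604_615 c) (Ptab_s_615_627 c) (Nat.ble 615 c)
noncomputable def Ptab_s_582_627 (c : Nat) : Nat := @Bool.rec (fun _ => Nat) (Ptab_s_582_604 c) (Ptab_s_604_627 c) (Nat.ble 604 c)
noncomputable def Ptab_s_537_627 (c : Nat) : Nat := @Bool.rec (fun _ => Nat) (Ptab_s_537_582 c) (Ptab_s_582_627 c) (Nat.ble 582 c)
noncomputable def Ptab_s_627_629 (c : Nat) : Nat := @Bool.rec (fun _ => Nat) (Ptab_627) (Ptab_628) (Nat.ble 628 c)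
noncomputable def Ptab_s_630_632 (c : Nat) : Nat := @Bool.rec (fun _ => Nat) (Ptab_630) (Ptab_631) (Nat.ble 631 c)
noncomputable def Ptab_s_629_632 (c : Nat) : Nat := @Bool.rec (fun _ => Nat) (Ptab_629) (Ptab_s_630_632 c) (Nat.ble 630 c)
noncomputable def Ptab_s_627_632 (c : Nat) : Nat := @Bool.rec (fun _ => Nat) (Ptab_s_627_629 c) (Ptab_s_629_632 c) (Nat.ble 629 c)
noncomputable def Ptab_s_633_635 (c : Nat) : Nat := @Bool.rec (fun _ => Nat) (Ptab_633) (Ptab_634) (Nat.ble 634 c)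
noncomputable def Ptab_s_632_635 (c : Nat) : Nat := @Bool.rec (fun _ => Nat) (Ptab_632) (Ptab_s_633_635 c) (Nat.ble 633 c)
noncomputable def Ptab_s_636_638 (c : Nat) : Nat := @Bool.rec (fun _ => Nat) (Ptab_636) (Ptab_637) (Nat.ble 637 c)
noncomputable def Ptab_s_635_638 (c : Nat) : Nat := @Bool.rec (fun _ => Nat) (Ptab_635) (Ptab_s_636_638 c) (Nat.ble 636 c)
noncomputable def Ptab_s_632_638 (c : Nat) : Nat := @Bool.rec (fun _ => Nat) (Ptab_s_632_635 c) (Ptab_s_635_638 c) (Nat.ble 635 c)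
noncomputable def Ptab_s_627_638 (c : Nat) : Nat := @Bool.rec (fun _ => Nat) (Ptab_s_627_632 c) (Ptab_s_632_638 c) (Nat.ble 632 c)
noncomputable def Ptab_s_638_640 (c : Nat) : Nat := @Bool.rec (fun _ => Nat) (Ptab_638) (Ptab_639) (Nat.ble 639 c)
noncomputable def Ptab_s_641_643 (c : Nat) : Nat := @Bool.rec (fun _ => Nat) (Ptab_641) (Ptab_642) (Nat.ble 642 c)
noncomputable def Ptab_s_640_643 (c : Nat) : Nat := @Bool.rec (fun _ => Nat) (Ptab_640) (Ptab_s_641_643 c) (Nat.ble 641 c)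
noncomputable def Ptab_s_638_643 (c : Nat) : Nat := @Bool.rec (fun _ => Nat) (Ptab_s_638_640 c) (Ptab_s_640_643 c) (Nat.ble 640 c)
noncomputable def Ptab_s_644_646 (c : Nat) : Nat := @Bool.rec (fun _ => Nat) (Ptab_644) (Ptab_645) (Nat.ble 645 c)
noncomputable def Ptab_s_643_646 (c : Nat) : Nat := @Bool.rec (fun _ => Nat) (Ptab_643) (Ptab_s_644_646 c) (Nat.ble 644 c)
noncomputable def Ptab_s_647_649 (c : Nat) : Nat := @Bool.rec (fun _ => Nat) (Ptab_647) (Ptab_648) (Nat.ble 648 c)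
noncomputable def Ptab_s_646_649 (c : Nat) : Nat := @Bool.rec (fun _ => Nat) (Ptab_646) (Ptab_s_647_649 c) (Nat.ble 647 c)
noncomputable def Ptab_s_643_649 (c : Nat) : Nat := @Bool.rec (fun _ => Nat) (Ptab_s_643_646 c) (Ptab_s_646_649 c) (Nat.ble 646 c)
noncomputable def Ptab_s_638_649 (c : Nat) : Nat := @Bool.rec (fun _ => Nat) (Ptab_s_638_643 c) (Ptab_s_643_649 c) (Nat.ble 643 c)
noncomputable def Ptab_s_627_649 (c : Nat) : Nat := @Bool.rec (fun _ => Nat) (Ptab_s_627_638 c) (Ptab_s_638_649 c) (Nat.ble 638 c)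
noncomputable def Ptab_s_649_651 (c : Nat) : Nat := @Bool.rec (fun _ => Nat) (Ptab_649) (Ptab_650) (Nat.ble 650 c)
noncomputable def Ptab_s_652_654 (c : Nat) : Nat := @Bool.rec (fun _ => Nat) (Ptab_652) (Ptab_653) (Nat.ble 653 c)
noncomputable def Ptab_s_651_654 (c : Nat) : Nat := @Bool.rec (fun _ => Nat) (Ptab_651) (Ptab_s_652_654 c) (Nat.ble 652 c)
noncomputable def Ptab_s_649_654 (c : Nat) : Nat := @Bool.rec (fun _ => Nat) (Ptab_s_649_651 c) (Ptab_s_651_654 c) (Nat.ble 651 c)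
noncomputable def Ptab_s_655_657 (c : Nat) : Nat := @Bool.rec (fun _ => Nat) (Ptab_655) (Ptab_656) (Nat.ble 656 c)
noncomputable def Ptab_s_654_657 (c : Nat) : Nat := @Bool.rec (fun _ => Nat) (Ptab_654) (Ptab_s_655_657 c) (Nat.ble 655 c)
noncomputable def Ptab_s_658_660 (c : Nat) : Nat := @Bool.rec (fun _ => Nat) (Ptab_658) (Ptab_659) (Nat.ble 659 c)
noncomputable def Ptab_s_657_660 (c : Nat) : Nat := @Bool.rec (fun _ => Nat) (Ptab_657) (Ptab_s_658_660 c) (Nat.ble 658 c)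
noncomputable def Ptab_s_654_660 (c : Nat) : Nat := @Bool.rec (fun _ => Nat) (Ptab_s_654_657 c) (Ptab_s_657_660 c) (Nat.ble 657 c)
noncomputable def Ptab_s_649_660 (c : Nat) : Nat := @Bool.rec (fun _ => Nat) (Ptab_s_649_654 c) (Ptab_s_654_660 c) (Nat.ble 654 c)
noncomputable def Ptab_s_661_663 (c : Nat) : Nat := @Bool.rec (fun _ => Nat) (Ptab_661) (Ptab_662) (Nat.ble 662 c)
noncomputable def Ptab_s_660_663 (c : Nat) : Nat := @Bool.rec (fun _ => Nat) (Ptab_660) (Ptab_s_661_663 c) (Nat.ble 661 c)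
noncomputable def Ptab_s_664_666 (c : Nat) : Nat := @Bool.rec (fun _ => Nat) (Ptab_664) (Ptab_665) (Nat.ble 665 c)
noncomputable def Ptab_s_663_666 (c : Nat) : Nat := @Bool.rec (fun _ => Nat) (Ptab_663) (Ptab_s_664_666 c) (Nat.ble 664 c)
noncomputable def Ptab_s_660_666 (c : Nat) : Nat := @Bool.rec (fun _ => Nat) (Ptab_s_660_663 c) (Ptab_s_663_666 c) (Nat.ble 663 c)
noncomputable def Ptab_s_667_669 (c : Nat) : Nat := @Bool.rec (fun _ => Nat) (Ptab_667) (Ptab_668) (Nat.ble 668 c)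
noncomputable def Ptab_s_666_669 (c : Nat) : Nat := @Bool.rec (fun _ => Nat) (Ptab_666) (Ptab_s_667_669 c) (Nat.ble 667 c)
noncomputable def Ptab_s_670_672 (c : Nat) : Nat := @Bool.rec (fun _ => Nat) (Ptab_670) (Ptab_671) (Nat.ble 671 c)
noncomputable def Ptab_s_669_672 (c : Nat) : Nat := @Bool.rec (fun _ => Nat) (Ptab_669) (Ptab_s_670_672 c) (Nat.ble 670 c)
noncomputable def Ptab_s_666_672 (c : Nat) : Nat := @Bool.rec (fun _ => Nat) (Ptab_s_666_669 c) (Ptab_s_669_672 c) (Nat.ble 669 c)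
noncomputable def Ptab_s_660_672 (c : Nat) : Nat := @Bool.rec (fun _ => Nat) (Ptab_s_660_666 c) (Ptab_s_666_672 c) (Nat.ble 666 c)
noncomputable def Ptab_s_649_672 (c : Nat) : Nat := @Bool.rec (fun _ => Nat) (Ptab_s_649_660 c) (Ptab_s_660_672 c) (Nat.ble 660 c)
noncomputable def Ptab_s_627_672 (c : Nat) : Nat := @Bool.rec (fun _ => Nat) (Ptab_s_627_649 c) (Ptab_s_649_672 c) (Nat.ble 649 c)
noncomputable def Ptab_s_672_674 (c : Nat) : Nat := @Bool.rec (fun _ => Nat) (Ptab_672) (Ptab_673) (Nat.ble 673 c)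
noncomputable def Ptab_s_675_677 (c : Nat) : Nat := @Bool.rec (fun _ => Nat) (Ptab_675) (Ptab_676) (Nat.ble 676 c)
noncomputable def Ptab_s_674_677 (c : Nat) : Nat := @Bool.rec (fun _ => Nat) (Ptab_674) (Ptab_s_675_677 c) (Nat.ble 675 c)
noncomputable def Ptab_s_672_677 (c : Nat) : Nat := @Bool.rec (fun _ => Nat) (Ptab_s_672_674 c) (Ptab_s_674_677 c) (Nat.ble 674 c)
noncomputable def Ptab_s_678_680 (c : Nat) : Nat := @Bool.rec (fun _ => Nat) (Ptab_678) (Ptab_679) (Nat.ble 679 c)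
noncomputable def Ptab_s_677_680 (c : Nat) : Nat := @Bool.rec (fun _ => Nat) (Ptab_677) (Ptab_s_678_680 c) (Nat.ble 678 c)
noncomputable def Ptab_s_681_683 (c : Nat) : Nat := @Bool.rec (fun _ => Nat) (Ptab_681) (Ptab_682) (Nat.ble 682 c)
noncomputable def Ptab_s_680_683 (c : Nat) : Nat := @Bool.rec (fun _ => Nat) (Ptab_680) (Ptab_s_681_683 c) (Nat.ble 681 c)
noncomputable def Ptab_s_677_683 (c : Nat) : Nat := @Bool.rec (fun _ => Nat) (Ptab_s_677_680 c) (Ptab_s_680_683 c) (Nat.ble 680 c)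
noncomputable def Ptab_s_672_683 (c : Nat) : Nat := @Bool.rec (fun _ => Nat) (Ptab_s_672_677 c) (Ptab_s_677_683 c) (Nat.ble 677 c)
noncomputable def Ptab_s_683_685 (c : Nat) : Nat := @Bool.rec (fun _ => Nat) (Ptab_683) (Ptab_684) (Nat.ble 684 c)
noncomputable def Ptab_s_686_688 (c : Nat) : Nat := @Bool.rec (fun _ => Nat) (Ptab_686) (Ptab_687) (Nat.ble 687 c)
noncomputable def Ptab_s_685_688 (c : Nat) : Nat := @Bool.rec (fun _ => Nat) (Ptab_685) (Ptab_s_686_688 c) (Nat.ble 686 c)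
noncomputable def Ptab_s_683_688 (c : Nat) : Nat := @Bool.rec (fun _ => Nat) (Ptab_s_683_685 c) (Ptab_s_685_688 c) (Nat.ble 685 c)
noncomputable def Ptab_s_689_691 (c : Nat) : Nat := @Bool.rec (fun _ => Nat) (Ptab_689) (Ptab_690) (Nat.ble 690 c)
noncomputable def Ptab_s_688_691 (c : Nat) : Nat := @Bool.rec (fun _ => Nat) (Ptab_688) (Ptab_s_689_691 c) (Nat.ble 689 c)
noncomputable def Ptab_s_692_694 (c : Nat) : Nat := @Bool.rec (fun _ => Nat) (Ptab_692) (Ptab_693) (Nat.ble 693 c)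
noncomputable def Ptab_s_691_694 (c : Nat) : Nat := @Bool.rec (fun _ => Nat) (Ptab_691) (Ptab_s_692_694 c) (Nat.ble 692 c)
noncomputable def Ptab_s_688_694 (c : Nat) : Nat := @Bool.rec (fun _ => Nat) (Ptab_s_688_691 c) (Ptab_s_691_694 c) (Nat.ble 691 c)
noncomputable def Ptab_s_683_694 (c : Nat) : Nat := @Bool.rec (fun _ => Nat) (Ptab_s_683_688 c) (Ptab_s_688_694 c) (Nat.ble 688 c)
noncomputable def Ptab_s_672_694 (c : Nat) : Nat := @Bool.rec (fun _ => Nat) (Ptab_s_672_683 c) (Ptab_s_683_694 c) (Nat.ble 683 c)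
noncomputable def Ptab_s_694_696 (c : Nat) : Nat := @Bool.rec (fun _ => Nat) (Ptab_694) (Ptab_695) (Nat.ble 695 c)
noncomputable def Ptab_s_697_699 (c : Nat) : Nat := @Bool.rec (fun _ => Nat) (Ptab_697) (Ptab_698) (Nat.ble 698 c)
noncomputable def Ptab_s_696_699 (c : Nat) : Nat := @Bool.rec (fun _ => Nat) (Ptab_696) (Ptab_s_697_699 c) (Nat.ble 697 c)
noncomputable def Ptab_s_694_699 (c : Nat) : Nat := @Bool.rec (fun _ => Nat) (Ptab_s_694_696 c) (Ptab_s_696_699 c) (Nat.ble 696 c)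
noncomputable def Ptab_s_700_702 (c : Nat) : Nat := @Bool.rec (fun _ => Nat) (Ptab_700) (Ptab_701) (Nat.ble 701 c)
noncomputable def Ptab_s_699_702 (c : Nat) : Nat := @Bool.rec (fun _ => Nat) (Ptab_699) (Ptab_s_700_702 c) (Nat.ble 700 c)
noncomputable def Ptab_s_703_705 (c : Nat) : Nat := @Bool.rec (fun _ => Nat) (Ptab_703) (Ptab_704) (Nat.ble 704 c)
noncomputable def Ptab_s_702_705 (c : Nat) : Nat := @Bool.rec (fun _ => Nat) (Ptab_702) (Ptab_s_703_705 c) (Nat.ble 703 c)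
noncomputable def Ptab_s_699_705 (c : Nat) : Nat := @Bool.rec (fun _ => Nat) (Ptab_s_699_702 c) (Ptab_s_702_705 c) (Nat.ble 702 c)
noncomputable def Ptab_s_694_705 (c : Nat) : Nat := @Bool.rec (fun _ => Nat) (Ptab_s_694_699 c) (Ptab_s_699_705 c) (Nat.ble 699 c)
noncomputable def Ptab_s_706_708 (c : Nat) : Nat := @Bool.rec (fun _ => Nat) (Ptab_706) (Ptab_707) (Nat.ble 707 c)
noncomputable def Ptab_s_705_708 (c : Nat) : Nat := @Bool.rec (fun _ => Nat) (Ptab_705) (Ptab_s_706_708 c) (Nat.ble 706 c)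
noncomputable def Ptab_s_709_711 (c : Nat) : Nat := @Bool.rec (fun _ => Nat) (Ptab_709) (Ptab_710) (Nat.ble 710 c)
noncomputable def Ptab_s_708_711 (c : Nat) : Nat := @Bool.rec (fun _ => Nat) (Ptab_708) (Ptab_s_709_711 c) (Nat.ble 709 c)
noncomputable def Ptab_s_705_711 (c : Nat) : Nat := @Bool.rec (fun _ => Nat) (Ptab_s_705_708 c) (Ptab_s_708_711 c) (Nat.ble 708 c)
noncomputable def Ptab_s_712_714 (c : Nat) : Nat := @Bool.rec (fun _ => Nat) (Ptab_712) (Ptab_713) (Nat.ble 713 c)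
noncomputable def Ptab_s_711_714 (c : Nat) : Nat := @Bool.rec (fun _ => Nat) (Ptab_711) (Ptab_s_712_714 c) (Nat.ble 712 c)
noncomputable def Ptab_s_715_717 (c : Nat) : Nat := @Bool.rec (fun _ => Nat) (Ptab_715) (Ptab_716) (Nat.ble 716 c)
noncomputable def Ptab_s_714_717 (c : Nat) : Nat := @Bool.rec (fun _ => Nat) (Ptab_714) (Ptab_s_715_717 c) (Nat.ble 715 c)
noncomputable def Ptab_s_711_717 (c : Nat) : Nat := @Bool.rec (fun _ => Nat) (Ptab_s_711_714 c) (Ptab_s_714_717 c) (Nat.ble 714 c)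
noncomputable def Ptab_s_705_717 (c : Nat) : Nat := @Bool.rec (fun _ => Nat) (Ptab_s_705_711 c) (Ptab_s_711_717 c) (Nat.ble 711 c)
noncomputable def Ptab_s_694_717 (c : Nat) : Nat := @Bool.rec (fun _ => Nat) (Ptab_s_694_705 c) (Ptab_s_705_717 c) (Nat.ble 705 c)
noncomputable def Ptab_s_672_717 (c : Nat) : Nat := @Bool.rec (fun _ => Nat) (Ptab_s_672_694 c) (Ptab_s_694_717 c) (Nat.ble 694 c)
noncomputable def Ptab_s_627_717 (c : Nat) : Nat := @Bool.rec (fun _ => Nat) (Ptab_s_627_672 c) (Ptab_s_672_717 c) (Nat.ble 672 c)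
noncomputable def Ptab_s_537_717 (c : Nat) : Nat := @Bool.rec (fun _ => Nat) (Ptab_s_537_627 c) (Ptab_s_627_717 c) (Nat.ble 627 c)
noncomputable def Ptab_s_358_717 (c : Nat) : Nat := @Bool.rec (fun _ => Nat) (Ptab_s_358_537 c) (Ptab_s_537_717 c) (Nat.ble 537 c)
noncomputable def Ptab_s_0_717 (c : Nat) : Nat := @Bool.rec (fun _ => Nat) (Ptab_s_0_358 c) (Ptab_s_358_717 c) (Nat.ble 358 c)
noncomputable def Ptab (i : Nat) : Nat := rdw 20 1048575 (Ptab_s_0_717 (Nat.shiftRight i 12)) (Nat.land i 4095)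
noncomputable def RRtab (i : Nat) : Nat := rdw 5 31 RRtab_0 i
noncomputable def rBtab (i : Nat) : Nat := rdw 12 4095 rBtab_0 i
noncomputable def rLtab (i : Nat) : Nat := rdw 5 31 rLtab_0 i
noncomputable def nameTab_s_1_3 (c : Nat) : Nat := @Bool.rec (fun _ => Nat) (nameTab_1) (nameTab_2) (Nat.ble 2 c)
noncomputable def nameTab_s_0_3 (c : Nat) : Nat := @Bool.rec (fun _ => Nat) (nameTab_0) (nameTab_s_1_3 c) (Nat.ble 1 c)
noncomputable def nameTab_s_4_6 (c : Nat) : Nat := @Bool.rec (fun _ => Nat) (nameTab_4) (nameTab_5) (Nat.ble 5 c)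
noncomputable def nameTab_s_3_6 (c : Nat) : Nat := @Bool.rec (fun _ => Nat) (nameTab_3) (nameTab_s_4_6 c) (Nat.ble 4 c)
noncomputable def nameTab_s_0_6 (c : Nat) : Nat := @Bool.rec (fun _ => Nat) (nameTab_s_0_3 c) (nameTab_s_3_6 c) (Nat.ble 3 c)
noncomputable def nameTab_s_7_9 (c : Nat) : Nat := @Bool.rec (fun _ => Nat) (nameTab_7) (nameTab_8) (Nat.ble 8 c)
noncomputable def nameTab_s_6_9 (c : Nat) : Nat := @Bool.rec (fun _ => Nat) (nameTab_6) (nameTab_s_7_9 c) (Nat.ble 7 c)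
noncomputable def nameTab_s_10_12 (c : Nat) : Nat := @Bool.rec (fun _ => Nat) (nameTab_10) (nameTab_11) (Nat.ble 11 c)
noncomputable def nameTab_s_9_12 (c : Nat) : Nat := @Bool.rec (fun _ => Nat) (nameTab_9) (nameTab_s_10_12 c) (Nat.ble 10 c)
noncomputable def nameTab_s_6_12 (c : Nat) : Nat := @Bool.rec (fun _ => Nat) (nameTab_s_6_9 c) (nameTab_s_9_12 c) (Nat.ble 9 c)
noncomputable def nameTab_s_0_12 (c : Nat) : Nat := @Bool.rec (fun _ => Nat) (nameTab_s_0_6 c) (nameTab_s_6_12 c) (Nat.ble 6 c)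
noncomputable def nameTab (i : Nat) : Nat := rdw 17 131071 (nameTab_s_0_12 (Nat.shiftRight i 12)) (Nat.land i 4095)
noncomputable def col0_s_1_3 (c : Nat) : Nat := @Bool.rec (fun _ => Nat) (col0_1) (col0_2) (Nat.ble 2 c)
noncomputable def col0_s_0_3 (c : Nat) : Nat := @Bool.rec (fun _ => Nat) (col0_0) (col0_s_1_3 c) (Nat.ble 1 c)
noncomputable def col0_s_4_6 (c : Nat) : Nat := @Bool.rec (fun _ => Nat) (col0_4) (col0_5) (Nat.ble 5 c)
noncomputable def col0_s_3_6 (c : Nat) : Nat := @Bool.rec (fun _ => Nat) (col0_3) (col0_s_4_6 c) (Nat.ble 4 c)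
noncomputable def col0_s_0_6 (c : Nat) : Nat := @Bool.rec (fun _ => Nat) (col0_s_0_3 c) (col0_s_3_6 c) (Nat.ble 3 c)
noncomputable def col0_s_7_9 (c : Nat) : Nat := @Bool.rec (fun _ => Nat) (col0_7) (col0_8) (Nat.ble 8 c)
noncomputable def col0_s_6_9 (c : Nat) : Nat := @Bool.rec (fun _ => Nat) (col0_6) (col0_s_7_9 c) (Nat.ble 7 c)
noncomputable def col0_s_10_12 (c : Nat) : Nat := @Bool.rec (fun _ => Nat) (col0_10) (col0_11) (Nat.ble 11 c)
noncomputable def col0_s_9_12 (c : Nat) : Nat := @Bool.rec (fun _ => Nat) (col0_9) (col0_s_10_12 c) (Nat.ble 10 c)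
noncomputable def col0_s_6_12 (c : Nat) : Nat := @Bool.rec (fun _ => Nat) (col0_s_6_9 c) (col0_s_9_12 c) (Nat.ble 9 c)
noncomputable def col0_s_0_12 (c : Nat) : Nat := @Bool.rec (fun _ => Nat) (col0_s_0_6 c) (col0_s_6_12 c) (Nat.ble 6 c)
noncomputable def col0 (i : Nat) : Nat := rdw 16 65535 (col0_s_0_12 (Nat.shiftRight i 12)) (Nat.land i 4095)
noncomputable def col1_s_1_3 (c : Nat) : Nat := @Bool.rec (fun _ => Nat) (col1_1) (col1_2) (Nat.ble 2 c)
noncomputable def col1_s_0_3 (c : Nat) : Nat := @Bool.rec (fun _ => Nat) (col1_0) (col1_s_1_3 c) (Nat.ble 1 c)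
noncomputable def col1_s_4_6 (c : Nat) : Nat := @Bool.rec (fun _ => Nat) (col1_4) (col1_5) (Nat.ble 5 c)
noncomputable def col1_s_3_6 (c : Nat) : Nat := @Bool.rec (fun _ => Nat) (col1_3) (col1_s_4_6 c) (Nat.ble 4 c)
noncomputable def col1_s_0_6 (c : Nat) : Nat := @Bool.rec (fun _ => Nat) (col1_s_0_3 c) (col1_s_3_6 c) (Nat.ble 3 c)
noncomputable def col1_s_7_9 (c : Nat) : Nat := @Bool.rec (fun _ => Nat) (col1_7) (col1_8) (Nat.ble 8 c)
noncomputable def col1_s_6_9 (c : Nat) : Nat := @Bool.rec (fun _ => Nat) (col1_6) (col1_s_7_9 c) (Nat.ble 7 c)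
noncomputable def col1_s_10_12 (c : Nat) : Nat := @Bool.rec (fun _ => Nat) (col1_10) (col1_11) (Nat.ble 11 c)
noncomputable def col1_s_9_12 (c : Nat) : Nat := @Bool.rec (fun _ => Nat) (col1_9) (col1_s_10_12 c) (Nat.ble 10 c)
noncomputable def col1_s_6_12 (c : Nat) : Nat := @Bool.rec (fun _ => Nat) (col1_s_6_9 c) (col1_s_9_12 c) (Nat.ble 9 c)
noncomputable def col1_s_0_12 (c : Nat) : Nat := @Bool.rec (fun _ => Nat) (col1_s_0_6 c) (col1_s_6_12 c) (Nat.ble 6 c)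
noncomputable def col1 (i : Nat) : Nat := rdw 16 65535 (col1_s_0_12 (Nat.shiftRight i 12)) (Nat.land i 4095)
noncomputable def col2_s_1_3 (c : Nat) : Nat := @Bool.rec (fun _ => Nat) (col2_1) (col2_2) (Nat.ble 2 c)
noncomputable def col2_s_0_3 (c : Nat) : Nat := @Bool.rec (fun _ => Nat) (col2_0) (col2_s_1_3 c) (Nat.ble 1 c)
noncomputable def col2_s_4_6 (c : Nat) : Nat := @Bool.rec (fun _ => Nat) (col2_4) (col2_5) (Nat.ble 5 c)
noncomputable def col2_s_3_6 (c : Nat) : Nat := @Bool.rec (fun _ => Nat) (col2_3) (col2_s_4_6 c) (Nat.ble 4 c)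
noncomputable def col2_s_0_6 (c : Nat) : Nat := @Bool.rec (fun _ => Nat) (col2_s_0_3 c) (col2_s_3_6 c) (Nat.ble 3 c)
noncomputable def col2_s_7_9 (c : Nat) : Nat := @Bool.rec (fun _ => Nat) (col2_7) (col2_8) (Nat.ble 8 c)
noncomputable def col2_s_6_9 (c : Nat) : Nat := @Bool.rec (fun _ => Nat) (col2_6) (col2_s_7_9 c) (Nat.ble 7 c)
noncomputable def col2_s_10_12 (c : Nat) : Nat := @Bool.rec (fun _ => Nat) (col2_10) (col2_11) (Nat.ble 11 c)
noncomputable def col2_s_9_12 (c : Nat) : Nat := @Bool.rec (fun _ => Nat) (col2_9) (col2_s_10_12 c) (Nat.ble 10 c)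
noncomputable def col2_s_6_12 (c : Nat) : Nat := @Bool.rec (fun _ => Nat) (col2_s_6_9 c) (col2_s_9_12 c) (Nat.ble 9 c)
noncomputable def col2_s_0_12 (c : Nat) : Nat := @Bool.rec (fun _ => Nat) (col2_s_0_6 c) (col2_s_6_12 c) (Nat.ble 6 c)
noncomputable def col2 (i : Nat) : Nat := rdw 16 65535 (col2_s_0_12 (Nat.shiftRight i 12)) (Nat.land i 4095)
noncomputable def col3_s_1_3 (c : Nat) : Nat := @Bool.rec (fun _ => Nat) (col3_1) (col3_2) (Nat.ble 2 c)
noncomputable def col3_s_0_3 (c : Nat) : Nat := @Bool.rec (fun _ => Nat) (col3_0) (col3_s_1_3 c) (Nat.ble 1 c)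
noncomputable def col3_s_4_6 (c : Nat) : Nat := @Bool.rec (fun _ => Nat) (col3_4) (col3_5) (Nat.ble 5 c)
noncomputable def col3_s_3_6 (c : Nat) : Nat := @Bool.rec (fun _ => Nat) (col3_3) (col3_s_4_6 c) (Nat.ble 4 c)
noncomputable def col3_s_0_6 (c : Nat) : Nat := @Bool.rec (fun _ => Nat) (col3_s_0_3 c) (col3_s_3_6 c) (Nat.ble 3 c)
noncomputable def col3_s_7_9 (c : Nat) : Nat := @Bool.rec (fun _ => Nat) (col3_7) (col3_8) (Nat.ble 8 c)
noncomputable def col3_s_6_9 (c : Nat) : Nat := @Bool.rec (fun _ => Nat) (col3_6) (col3_s_7_9 c) (Nat.ble 7 c)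
noncomputable def col3_s_10_12 (c : Nat) : Nat := @Bool.rec (fun _ => Nat) (col3_10) (col3_11) (Nat.ble 11 c)
noncomputable def col3_s_9_12 (c : Nat) : Nat := @Bool.rec (fun _ => Nat) (col3_9) (col3_s_10_12 c) (Nat.ble 10 c)
noncomputable def col3_s_6_12 (c : Nat) : Nat := @Bool.rec (fun _ => Nat) (col3_s_6_9 c) (col3_s_9_12 c) (Nat.ble 9 c)
noncomputable def col3_s_0_12 (c : Nat) : Nat := @Bool.rec (fun _ => Nat) (col3_s_0_6 c) (col3_s_6_12 c) (Nat.ble 6 c)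
noncomputable def col3 (i : Nat) : Nat := rdw 16 65535 (col3_s_0_12 (Nat.shiftRight i 12)) (Nat.land i 4095)
noncomputable def col4_s_1_3 (c : Nat) : Nat := @Bool.rec (fun _ => Nat) (col4_1) (col4_2) (Nat.ble 2 c)
noncomputable def col4_s_0_3 (c : Nat) : Nat := @Bool.rec (fun _ => Nat) (col4_0) (col4_s_1_3 c) (Nat.ble 1 c)
noncomputable def col4_s_4_6 (c : Nat) : Nat := @Bool.rec (fun _ => Nat) (col4_4) (col4_5) (Nat.ble 5 c)
noncomputable def col4_s_3_6 (c : Nat) : Nat := @Bool.rec (fun _ => Nat) (col4_3) (col4_s_4_6 c) (Nat.ble 4 c)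
noncomputable def col4_s_0_6 (c : Nat) : Nat := @Bool.rec (fun _ => Nat) (col4_s_0_3 c) (col4_s_3_6 c) (Nat.ble 3 c)
noncomputable def col4_s_7_9 (c : Nat) : Nat := @Bool.rec (fun _ => Nat) (col4_7) (col4_8) (Nat.ble 8 c)
noncomputable def col4_s_6_9 (c : Nat) : Nat := @Bool.rec (fun _ => Nat) (col4_6) (col4_s_7_9 c) (Nat.ble 7 c)
noncomputable def col4_s_10_12 (c : Nat) : Nat := @Bool.rec (fun _ => Nat) (col4_10) (col4_11) (Nat.ble 11 c)
noncomputable def col4_s_9_12 (c : Nat) : Nat := @Bool.rec (fun _ => Nat) (col4_9) (col4_s_10_12 c) (Nat.ble 10 c)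
noncomputable def col4_s_6_12 (c : Nat) : Nat := @Bool.rec (fun _ => Nat) (col4_s_6_9 c) (col4_s_9_12 c) (Nat.ble 9 c)
noncomputable def col4_s_0_12 (c : Nat) : Nat := @Bool.rec (fun _ => Nat) (col4_s_0_6 c) (col4_s_6_12 c) (Nat.ble 6 c)
noncomputable def col4 (i : Nat) : Nat := rdw 16 65535 (col4_s_0_12 (Nat.shiftRight i 12)) (Nat.land i 4095)
noncomputable def col5_s_1_3 (c : Nat) : Nat := @Bool.rec (fun _ => Nat) (col5_1) (col5_2) (Nat.ble 2 c)
noncomputable def col5_s_0_3 (c : Nat) : Nat := @Bool.rec (fun _ => Nat) (col5_0) (col5_s_1_3 c) (Nat.ble 1 c)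
noncomputable def col5_s_4_6 (c : Nat) : Nat := @Bool.rec (fun _ => Nat) (col5_4) (col5_5) (Nat.ble 5 c)
noncomputable def col5_s_3_6 (c : Nat) : Nat := @Bool.rec (fun _ => Nat) (col5_3) (col5_s_4_6 c) (Nat.ble 4 c)
noncomputable def col5_s_0_6 (c : Nat) : Nat := @Bool.rec (fun _ => Nat) (col5_s_0_3 c) (col5_s_3_6 c) (Nat.ble 3 c)
noncomputable def col5_s_7_9 (c : Nat) : Nat := @Bool.rec (fun _ => Nat) (col5_7) (col5_8) (Nat.ble 8 c)
noncomputable def col5_s_6_9 (c : Nat) : Nat := @Bool.rec (fun _ => Nat) (col5_6) (col5_s_7_9 c) (Nat.ble 7 c)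
noncomputable def col5_s_10_12 (c : Nat) : Nat := @Bool.rec (fun _ => Nat) (col5_10) (col5_11) (Nat.ble 11 c)
noncomputable def col5_s_9_12 (c : Nat) : Nat := @Bool.rec (fun _ => Nat) (col5_9) (col5_s_10_12 c) (Nat.ble 10 c)
noncomputable def col5_s_6_12 (c : Nat) : Nat := @Bool.rec (fun _ => Nat) (col5_s_6_9 c) (col5_s_9_12 c) (Nat.ble 9 c)
noncomputable def col5_s_0_12 (c : Nat) : Nat := @Bool.rec (fun _ => Nat) (col5_s_0_6 c) (col5_s_6_12 c) (Nat.ble 6 c)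
noncomputable def col5 (i : Nat) : Nat := rdw 16 65535 (col5_s_0_12 (Nat.shiftRight i 12)) (Nat.land i 4095)
noncomputable def col6_s_1_3 (c : Nat) : Nat := @Bool.rec (fun _ => Nat) (col6_1) (col6_2) (Nat.ble 2 c)
noncomputable def col6_s_0_3 (c : Nat) : Nat := @Bool.rec (fun _ => Nat) (col6_0) (col6_s_1_3 c) (Nat.ble 1 c)
noncomputable def col6_s_4_6 (c : Nat) : Nat := @Bool.rec (fun _ => Nat) (col6_4) (col6_5) (Nat.ble 5 c)
noncomputable def col6_s_3_6 (c : Nat) : Nat := @Bool.rec (fun _ => Nat) (col6_3) (col6_s_4_6 c) (Nat.ble 4 c)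
noncomputable def col6_s_0_6 (c : Nat) : Nat := @Bool.rec (fun _ => Nat) (col6_s_0_3 c) (col6_s_3_6 c) (Nat.ble 3 c)
noncomputable def col6_s_7_9 (c : Nat) : Nat := @Bool.rec (fun _ => Nat) (col6_7) (col6_8) (Nat.ble 8 c)
noncomputable def col6_s_6_9 (c : Nat) : Nat := @Bool.rec (fun _ => Nat) (col6_6) (col6_s_7_9 c) (Nat.ble 7 c)
noncomputable def col6_s_10_12 (c : Nat) : Nat := @Bool.rec (fun _ => Nat) (col6_10) (col6_11) (Nat.ble 11 c)
noncomputable def col6_s_9_12 (c : Nat) : Nat := @Bool.rec (fun _ => Nat) (col6_9) (col6_s_10_12 c) (Nat.ble 10 c)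
noncomputable def col6_s_6_12 (c : Nat) : Nat := @Bool.rec (fun _ => Nat) (col6_s_6_9 c) (col6_s_9_12 c) (Nat.ble 9 c)
noncomputable def col6_s_0_12 (c : Nat) : Nat := @Bool.rec (fun _ => Nat) (col6_s_0_6 c) (col6_s_6_12 c) (Nat.ble 6 c)
noncomputable def col6 (i : Nat) : Nat := rdw 16 65535 (col6_s_0_12 (Nat.shiftRight i 12)) (Nat.land i 4095)
noncomputable def col7_s_1_3 (c : Nat) : Nat := @Bool.rec (fun _ => Nat) (col7_1) (col7_2) (Nat.ble 2 c)
noncomputable def col7_s_0_3 (c : Nat) : Nat := @Bool.rec (fun _ => Nat) (col7_0) (col7_s_1_3 c) (Nat.ble 1 c)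
noncomputable def col7_s_4_6 (c : Nat) : Nat := @Bool.rec (fun _ => Nat) (col7_4) (col7_5) (Nat.ble 5 c)
noncomputable def col7_s_3_6 (c : Nat) : Nat := @Bool.rec (fun _ => Nat) (col7_3) (col7_s_4_6 c) (Nat.ble 4 c)
noncomputable def col7_s_0_6 (c : Nat) : Nat := @Bool.rec (fun _ => Nat) (col7_s_0_3 c) (col7_s_3_6 c) (Nat.ble 3 c)
noncomputable def col7_s_7_9 (c : Nat) : Nat := @Bool.rec (fun _ => Nat) (col7_7) (col7_8) (Nat.ble 8 c)
noncomputable def col7_s_6_9 (c : Nat) : Nat := @Bool.rec (fun _ => Nat) (col7_6) (col7_s_7_9 c) (Nat.ble 7 c)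
noncomputable def col7_s_10_12 (c : Nat) : Nat := @Bool.rec (fun _ => Nat) (col7_10) (col7_11) (Nat.ble 11 c)
noncomputable def col7_s_9_12 (c : Nat) : Nat := @Bool.rec (fun _ => Nat) (col7_9) (col7_s_10_12 c) (Nat.ble 10 c)
noncomputable def col7_s_6_12 (c : Nat) : Nat := @Bool.rec (fun _ => Nat) (col7_s_6_9 c) (col7_s_9_12 c) (Nat.ble 9 c)
noncomputable def col7_s_0_12 (c : Nat) : Nat := @Bool.rec (fun _ => Nat) (col7_s_0_6 c) (col7_s_6_12 c) (Nat.ble 6 c)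
noncomputable def col7 (i : Nat) : Nat := rdw 16 65535 (col7_s_0_12 (Nat.shiftRight i 12)) (Nat.land i 4095)
noncomputable def col8_s_1_3 (c : Nat) : Nat := @Bool.rec (fun _ => Nat) (col8_1) (col8_2) (Nat.ble 2 c)
noncomputable def col8_s_0_3 (c : Nat) : Nat := @Bool.rec (fun _ => Nat) (col8_0) (col8_s_1_3 c) (Nat.ble 1 c)
noncomputable def col8_s_4_6 (c : Nat) : Nat := @Bool.rec (fun _ => Nat) (col8_4) (col8_5) (Nat.ble 5 c)
noncomputable def col8_s_3_6 (c : Nat) : Nat := @Bool.rec (fun _ => Nat) (col8_3) (col8_s_4_6 c) (Nat.ble 4 c)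
noncomputable def col8_s_0_6 (c : Nat) : Nat := @Bool.rec (fun _ => Nat) (col8_s_0_3 c) (col8_s_3_6 c) (Nat.ble 3 c)
noncomputable def col8_s_7_9 (c : Nat) : Nat := @Bool.rec (fun _ => Nat) (col8_7) (col8_8) (Nat.ble 8 c)
noncomputable def col8_s_6_9 (c : Nat) : Nat := @Bool.rec (fun _ => Nat) (col8_6) (col8_s_7_9 c) (Nat.ble 7 c)
noncomputable def col8_s_10_12 (c : Nat) : Nat := @Bool.rec (fun _ => Nat) (col8_10) (col8_11) (Nat.ble 11 c)
noncomputable def col8_s_9_12 (c : Nat) : Nat := @Bool.rec (fun _ => Nat) (col8_9) (col8_s_10_12 c) (Nat.ble 10 c)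
noncomputable def col8_s_6_12 (c : Nat) : Nat := @Bool.rec (fun _ => Nat) (col8_s_6_9 c) (col8_s_9_12 c) (Nat.ble 9 c)
noncomputable def col8_s_0_12 (c : Nat) : Nat := @Bool.rec (fun _ => Nat) (col8_s_0_6 c) (col8_s_6_12 c) (Nat.ble 6 c)
noncomputable def col8 (i : Nat) : Nat := rdw 16 65535 (col8_s_0_12 (Nat.shiftRight i 12)) (Nat.land i 4095)
noncomputable def col9_s_1_3 (c : Nat) : Nat := @Bool.rec (fun _ => Nat) (col9_1) (col9_2) (Nat.ble 2 c)
noncomputable def col9_s_0_3 (c : Nat) : Nat := @Bool.rec (fun _ => Nat) (col9_0) (col9_s_1_3 c) (Nat.ble 1 c)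
noncomputable def col9_s_4_6 (c : Nat) : Nat := @Bool.rec (fun _ => Nat) (col9_4) (col9_5) (Nat.ble 5 c)
noncomputable def col9_s_3_6 (c : Nat) : Nat := @Bool.rec (fun _ => Nat) (col9_3) (col9_s_4_6 c) (Nat.ble 4 c)
noncomputable def col9_s_0_6 (c : Nat) : Nat := @Bool.rec (fun _ => Nat) (col9_s_0_3 c) (col9_s_3_6 c) (Nat.ble 3 c)
noncomputable def col9_s_7_9 (c : Nat) : Nat := @Bool.rec (fun _ => Nat) (col9_7) (col9_8) (Nat.ble 8 c)
noncomputable def col9_s_6_9 (c : Nat) : Nat := @Bool.rec (fun _ => Nat) (col9_6) (col9_s_7_9 c) (Nat.ble 7 c)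
noncomputable def col9_s_10_12 (c : Nat) : Nat := @Bool.rec (fun _ => Nat) (col9_10) (col9_11) (Nat.ble 11 c)
noncomputable def col9_s_9_12 (c : Nat) : Nat := @Bool.rec (fun _ => Nat) (col9_9) (col9_s_10_12 c) (Nat.ble 10 c)
noncomputable def col9_s_6_12 (c : Nat) : Nat := @Bool.rec (fun _ => Nat) (col9_s_6_9 c) (col9_s_9_12 c) (Nat.ble 9 c)
noncomputable def col9_s_0_12 (c : Nat) : Nat := @Bool.rec (fun _ => Nat) (col9_s_0_6 c) (col9_s_6_12 c) (Nat.ble 6 c)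
noncomputable def col9 (i : Nat) : Nat := rdw 16 65535 (col9_s_0_12 (Nat.shiftRight i 12)) (Nat.land i 4095)
noncomputable def col10_s_1_3 (c : Nat) : Nat := @Bool.rec (fun _ => Nat) (col10_1) (col10_2) (Nat.ble 2 c)
noncomputable def col10_s_0_3 (c : Nat) : Nat := @Bool.rec (fun _ => Nat) (col10_0) (col10_s_1_3 c) (Nat.ble 1 c)
noncomputable def col10_s_4_6 (c : Nat) : Nat := @Bool.rec (fun _ => Nat) (col10_4) (col10_5) (Nat.ble 5 c)
noncomputable def col10_s_3_6 (c : Nat) : Nat := @Bool.rec (fun _ => Nat) (col10_3) (col10_s_4_6 c) (Nat.ble 4 c)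
noncomputable def col10_s_0_6 (c : Nat) : Nat := @Bool.rec (fun _ => Nat) (col10_s_0_3 c) (col10_s_3_6 c) (Nat.ble 3 c)
noncomputable def col10_s_7_9 (c : Nat) : Nat := @Bool.rec (fun _ => Nat) (col10_7) (col10_8) (Nat.ble 8 c)
noncomputable def col10_s_6_9 (c : Nat) : Nat := @Bool.rec (fun _ => Nat) (col10_6) (col10_s_7_9 c) (Nat.ble 7 c)
noncomputable def col10_s_10_12 (c : Nat) : Nat := @Bool.rec (fun _ => Nat) (col10_10) (col10_11) (Nat.ble 11 c)
noncomputable def col10_s_9_12 (c : Nat) : Nat := @Bool.rec (fun _ => Nat) (col10_9) (col10_s_10_12 c) (Nat.ble 10 c)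
noncomputable def col10_s_6_12 (c : Nat) : Nat := @Bool.rec (fun _ => Nat) (col10_s_6_9 c) (col10_s_9_12 c) (Nat.ble 9 c)
noncomputable def col10_s_0_12 (c : Nat) : Nat := @Bool.rec (fun _ => Nat) (col10_s_0_6 c) (col10_s_6_12 c) (Nat.ble 6 c)
noncomputable def col10 (i : Nat) : Nat := rdw 16 65535 (col10_s_0_12 (Nat.shiftRight i 12)) (Nat.land i 4095)
noncomputable def col11_s_1_3 (c : Nat) : Nat := @Bool.rec (fun _ => Nat) (col11_1) (col11_2) (Nat.ble 2 c)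
noncomputable def col11_s_0_3 (c : Nat) : Nat := @Bool.rec (fun _ => Nat) (col11_0) (col11_s_1_3 c) (Nat.ble 1 c)
noncomputable def col11_s_4_6 (c : Nat) : Nat := @Bool.rec (fun _ => Nat) (col11_4) (col11_5) (Nat.ble 5 c)
noncomputable def col11_s_3_6 (c : Nat) : Nat := @Bool.rec (fun _ => Nat) (col11_3) (col11_s_4_6 c) (Nat.ble 4 c)
noncomputable def col11_s_0_6 (c : Nat) : Nat := @Bool.rec (fun _ => Nat) (col11_s_0_3 c) (col11_s_3_6 c) (Nat.ble 3 c)
noncomputable def col11_s_7_9 (c : Nat) : Nat := @Bool.rec (fun _ => Nat) (col11_7) (col11_8) (Nat.ble 8 c)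
noncomputable def col11_s_6_9 (c : Nat) : Nat := @Bool.rec (fun _ => Nat) (col11_6) (col11_s_7_9 c) (Nat.ble 7 c)
noncomputable def col11_s_10_12 (c : Nat) : Nat := @Bool.rec (fun _ => Nat) (col11_10) (col11_11) (Nat.ble 11 c)
noncomputable def col11_s_9_12 (c : Nat) : Nat := @Bool.rec (fun _ => Nat) (col11_9) (col11_s_10_12 c) (Nat.ble 10 c)
noncomputable def col11_s_6_12 (c : Nat) : Nat := @Bool.rec (fun _ => Nat) (col11_s_6_9 c) (col11_s_9_12 c) (Nat.ble 9 c)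
noncomputable def col11_s_0_12 (c : Nat) : Nat := @Bool.rec (fun _ => Nat) (col11_s_0_6 c) (col11_s_6_12 c) (Nat.ble 6 c)
noncomputable def col11 (i : Nat) : Nat := rdw 16 65535 (col11_s_0_12 (Nat.shiftRight i 12)) (Nat.land i 4095)
noncomputable def col12_s_1_3 (c : Nat) : Nat := @Bool.rec (fun _ => Nat) (col12_1) (col12_2) (Nat.ble 2 c)
noncomputable def col12_s_0_3 (c : Nat) : Nat := @Bool.rec (fun _ => Nat) (col12_0) (col12_s_1_3 c) (Nat.ble 1 c)
noncomputable def col12_s_4_6 (c : Nat) : Nat := @Bool.rec (fun _ => Nat) (col12_4) (col12_5) (Nat.ble 5 c)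
noncomputable def col12_s_3_6 (c : Nat) : Nat := @Bool.rec (fun _ => Nat) (col12_3) (col12_s_4_6 c) (Nat.ble 4 c)
noncomputable def col12_s_0_6 (c : Nat) : Nat := @Bool.rec (fun _ => Nat) (col12_s_0_3 c) (col12_s_3_6 c) (Nat.ble 3 c)
noncomputable def col12_s_7_9 (c : Nat) : Nat := @Bool.rec (fun _ => Nat) (col12_7) (col12_8) (Nat.ble 8 c)
noncomputable def col12_s_6_9 (c : Nat) : Nat := @Bool.rec (fun _ => Nat) (col12_6) (col12_s_7_9 c) (Nat.ble 7 c)
noncomputable def col12_s_10_12 (c : Nat) : Nat := @Bool.rec (fun _ => Nat) (col12_10) (col12_11) (Nat.ble 11 c)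
noncomputable def col12_s_9_12 (c : Nat) : Nat := @Bool.rec (fun _ => Nat) (col12_9) (col12_s_10_12 c) (Nat.ble 10 c)
noncomputable def col12_s_6_12 (c : Nat) : Nat := @Bool.rec (fun _ => Nat) (col12_s_6_9 c) (col12_s_9_12 c) (Nat.ble 9 c)
noncomputable def col12_s_0_12 (c : Nat) : Nat := @Bool.rec (fun _ => Nat) (col12_s_0_6 c) (col12_s_6_12 c) (Nat.ble 6 c)
noncomputable def col12 (i : Nat) : Nat := rdw 16 65535 (col12_s_0_12 (Nat.shiftRight i 12)) (Nat.land i 4095)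
noncomputable def col13_s_1_3 (c : Nat) : Nat := @Bool.rec (fun _ => Nat) (col13_1) (col13_2) (Nat.ble 2 c)
noncomputable def col13_s_0_3 (c : Nat) : Nat := @Bool.rec (fun _ => Nat) (col13_0) (col13_s_1_3 c) (Nat.ble 1 c)
noncomputable def col13_s_4_6 (c : Nat) : Nat := @Bool.rec (fun _ => Nat) (col13_4) (col13_5) (Nat.ble 5 c)
noncomputable def col13_s_3_6 (c : Nat) : Nat := @Bool.rec (fun _ => Nat) (col13_3) (col13_s_4_6 c) (Nat.ble 4 c)
noncomputable def col13_s_0_6 (c : Nat) : Nat := @Bool.rec (fun _ => Nat) (col13_s_0_3 c) (col13_s_3_6 c) (Nat.ble 3 c)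
noncomputable def col13_s_7_9 (c : Nat) : Nat := @Bool.rec (fun _ => Nat) (col13_7) (col13_8) (Nat.ble 8 c)
noncomputable def col13_s_6_9 (c : Nat) : Nat := @Bool.rec (fun _ => Nat) (col13_6) (col13_s_7_9 c) (Nat.ble 7 c)
noncomputable def col13_s_10_12 (c : Nat) : Nat := @Bool.rec (fun _ => Nat) (col13_10) (col13_11) (Nat.ble 11 c)
noncomputable def col13_s_9_12 (c : Nat) : Nat := @Bool.rec (fun _ => Nat) (col13_9) (col13_s_10_12 c) (Nat.ble 10 c)
noncomputable def col13_s_6_12 (c : Nat) : Nat := @Bool.rec (fun _ => Nat) (col13_s_6_9 c) (col13_s_9_12 c) (Nat.ble 9 c)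
noncomputable def col13_s_0_12 (c : Nat) : Nat := @Bool.rec (fun _ => Nat) (col13_s_0_6 c) (col13_s_6_12 c) (Nat.ble 6 c)
noncomputable def col13 (i : Nat) : Nat := rdw 16 65535 (col13_s_0_12 (Nat.shiftRight i 12)) (Nat.land i 4095)
noncomputable def col14_s_1_3 (c : Nat) : Nat := @Bool.rec (fun _ => Nat) (col14_1) (col14_2) (Nat.ble 2 c)
noncomputable def col14_s_0_3 (c : Nat) : Nat := @Bool.rec (fun _ => Nat) (col14_0) (col14_s_1_3 c) (Nat.ble 1 c)
noncomputable def col14_s_4_6 (c : Nat) : Nat := @Bool.rec (fun _ => Nat) (col14_4) (col14_5) (Nat.ble 5 c)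
noncomputable def col14_s_3_6 (c : Nat) : Nat := @Bool.rec (fun _ => Nat) (col14_3) (col14_s_4_6 c) (Nat.ble 4 c)
noncomputable def col14_s_0_6 (c : Nat) : Nat := @Bool.rec (fun _ => Nat) (col14_s_0_3 c) (col14_s_3_6 c) (Nat.ble 3 c)
noncomputable def col14_s_7_9 (c : Nat) : Nat := @Bool.rec (fun _ => Nat) (col14_7) (col14_8) (Nat.ble 8 c)
noncomputable def col14_s_6_9 (c : Nat) : Nat := @Bool.rec (fun _ => Nat) (col14_6) (col14_s_7_9 c) (Nat.ble 7 c)
noncomputable def col14_s_10_12 (c : Nat) : Nat := @Bool.rec (fun _ => Nat) (col14_10) (col14_11) (Nat.ble 11 c)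
noncomputable def col14_s_9_12 (c : Nat) : Nat := @Bool.rec (fun _ => Nat) (col14_9) (col14_s_10_12 c) (Nat.ble 10 c)
noncomputable def col14_s_6_12 (c : Nat) : Nat := @Bool.rec (fun _ => Nat) (col14_s_6_9 c) (col14_s_9_12 c) (Nat.ble 9 c)
noncomputable def col14_s_0_12 (c : Nat) : Nat := @Bool.rec (fun _ => Nat) (col14_s_0_6 c) (col14_s_6_12 c) (Nat.ble 6 c)
noncomputable def col14 (i : Nat) : Nat := rdw 16 65535 (col14_s_0_12 (Nat.shiftRight i 12)) (Nat.land i 4095)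
noncomputable def col15_s_1_3 (c : Nat) : Nat := @Bool.rec (fun _ => Nat) (col15_1) (col15_2) (Nat.ble 2 c)
noncomputable def col15_s_0_3 (c : Nat) : Nat := @Bool.rec (fun _ => Nat) (col15_0) (col15_s_1_3 c) (Nat.ble 1 c)
noncomputable def col15_s_4_6 (c : Nat) : Nat := @Bool.rec (fun _ => Nat) (col15_4) (col15_5) (Nat.ble 5 c)
noncomputable def col15_s_3_6 (c : Nat) : Nat := @Bool.rec (fun _ => Nat) (col15_3) (col15_s_4_6 c) (Nat.ble 4 c)
noncomputable def col15_s_0_6 (c : Nat) : Nat := @Bool.rec (fun _ => Nat) (col15_s_0_3 c) (col15_s_3_6 c) (Nat.ble 3 c)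
noncomputable def col15_s_7_9 (c : Nat) : Nat := @Bool.rec (fun _ => Nat) (col15_7) (col15_8) (Nat.ble 8 c)
noncomputable def col15_s_6_9 (c : Nat) : Nat := @Bool.rec (fun _ => Nat) (col15_6) (col15_s_7_9 c) (Nat.ble 7 c)
noncomputable def col15_s_10_12 (c : Nat) : Nat := @Bool.rec (fun _ => Nat) (col15_10) (col15_11) (Nat.ble 11 c)
noncomputable def col15_s_9_12 (c : Nat) : Nat := @Bool.rec (fun _ => Nat) (col15_9) (col15_s_10_12 c) (Nat.ble 10 c)
noncomputable def col15_s_6_12 (c : Nat) : Nat := @Bool.rec (fun _ => Nat) (col15_s_6_9 c) (col15_s_9_12 c) (Nat.ble 9 c)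
noncomputable def col15_s_0_12 (c : Nat) : Nat := @Bool.rec (fun _ => Nat) (col15_s_0_6 c) (col15_s_6_12 c) (Nat.ble 6 c)
noncomputable def col15 (i : Nat) : Nat := rdw 16 65535 (col15_s_0_12 (Nat.shiftRight i 12)) (Nat.land i 4095)
noncomputable def finTab_s_0_2 (c : Nat) : Nat := @Bool.rec (fun _ => Nat) (finTab_0) (finTab_1) (Nat.ble 1 c)
noncomputable def finTab_s_3_5 (c : Nat) : Nat := @Bool.rec (fun _ => Nat) (finTab_3) (finTab_4) (Nat.ble 4 c)
noncomputable def finTab_s_2_5 (c : Nat) : Nat := @Bool.rec (fun _ => Nat) (finTab_2) (finTab_s_3_5 c) (Nat.ble 3 c)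
noncomputable def finTab_s_0_5 (c : Nat) : Nat := @Bool.rec (fun _ => Nat) (finTab_s_0_2 c) (finTab_s_2_5 c) (Nat.ble 2 c)
noncomputable def finTab_s_6_8 (c : Nat) : Nat := @Bool.rec (fun _ => Nat) (finTab_6) (finTab_7) (Nat.ble 7 c)
noncomputable def finTab_s_5_8 (c : Nat) : Nat := @Bool.rec (fun _ => Nat) (finTab_5) (finTab_s_6_8 c) (Nat.ble 6 c)
noncomputable def finTab_s_9_11 (c : Nat) : Nat := @Bool.rec (fun _ => Nat) (finTab_9) (finTab_10) (Nat.ble 10 c)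
noncomputable def finTab_s_8_11 (c : Nat) : Nat := @Bool.rec (fun _ => Nat) (finTab_8) (finTab_s_9_11 c) (Nat.ble 9 c)
noncomputable def finTab_s_5_11 (c : Nat) : Nat := @Bool.rec (fun _ => Nat) (finTab_s_5_8 c) (finTab_s_8_11 c) (Nat.ble 8 c)
noncomputable def finTab_s_0_11 (c : Nat) : Nat := @Bool.rec (fun _ => Nat) (finTab_s_0_5 c) (finTab_s_5_11 c) (Nat.ble 5 c)
noncomputable def finTab_s_12_14 (c : Nat) : Nat := @Bool.rec (fun _ => Nat) (finTab_12) (finTab_13) (Nat.ble 13 c)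
noncomputable def finTab_s_11_14 (c : Nat) : Nat := @Bool.rec (fun _ => Nat) (finTab_11) (finTab_s_12_14 c) (Nat.ble 12 c)
noncomputable def finTab_s_15_17 (c : Nat) : Nat := @Bool.rec (fun _ => Nat) (finTab_15) (finTab_16) (Nat.ble 16 c)
noncomputable def finTab_s_14_17 (c : Nat) : Nat := @Bool.rec (fun _ => Nat) (finTab_14) (finTab_s_15_17 c) (Nat.ble 15 c)
noncomputable def finTab_s_11_17 (c : Nat) : Nat := @Bool.rec (fun _ => Nat) (finTab_s_11_14 c) (finTab_s_14_17 c) (Nat.ble 14 c)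
noncomputable def finTab_s_18_20 (c : Nat) : Nat := @Bool.rec (fun _ => Nat) (finTab_18) (finTab_19) (Nat.ble 19 c)
noncomputable def finTab_s_17_20 (c : Nat) : Nat := @Bool.rec (fun _ => Nat) (finTab_17) (finTab_s_18_20 c) (Nat.ble 18 c)
noncomputable def finTab_s_21_23 (c : Nat) : Nat := @Bool.rec (fun _ => Nat) (finTab_21) (finTab_22) (Nat.ble 22 c)
noncomputable def finTab_s_20_23 (c : Nat) : Nat := @Bool.rec (fun _ => Nat) (finTab_20) (finTab_s_21_23 c) (Nat.ble 21 c)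
noncomputable def finTab_s_17_23 (c : Nat) : Nat := @Bool.rec (fun _ => Nat) (finTab_s_17_20 c) (finTab_s_20_23 c) (Nat.ble 20 c)
noncomputable def finTab_s_11_23 (c : Nat) : Nat := @Bool.rec (fun _ => Nat) (finTab_s_11_17 c) (finTab_s_17_23 c) (Nat.ble 17 c)
noncomputable def finTab_s_0_23 (c : Nat) : Nat := @Bool.rec (fun _ => Nat) (finTab_s_0_11 c) (finTab_s_11_23 c) (Nat.ble 11 c)
noncomputable def finTab_s_24_26 (c : Nat) : Nat := @Bool.rec (fun _ => Nat) (finTab_24) (finTab_25) (Nat.ble 25 c)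
noncomputable def finTab_s_23_26 (c : Nat) : Nat := @Bool.rec (fun _ => Nat) (finTab_23) (finTab_s_24_26 c) (Nat.ble 24 c)
noncomputable def finTab_s_27_29 (c : Nat) : Nat := @Bool.rec (fun _ => Nat) (finTab_27) (finTab_28) (Nat.ble 28 c)
noncomputable def finTab_s_26_29 (c : Nat) : Nat := @Bool.rec (fun _ => Nat) (finTab_26) (finTab_s_27_29 c) (Nat.ble 27 c)
noncomputable def finTab_s_23_29 (c : Nat) : Nat := @Bool.rec (fun _ => Nat) (finTab_s_23_26 c) (finTab_s_26_29 c) (Nat.ble 26 c)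
noncomputable def finTab_s_30_32 (c : Nat) : Nat := @Bool.rec (fun _ => Nat) (finTab_30) (finTab_31) (Nat.ble 31 c)
noncomputable def finTab_s_29_32 (c : Nat) : Nat := @Bool.rec (fun _ => Nat) (finTab_29) (finTab_s_30_32 c) (Nat.ble 30 c)
noncomputable def finTab_s_33_35 (c : Nat) : Nat := @Bool.rec (fun _ => Nat) (finTab_33) (finTab_34) (Nat.ble 34 c)
noncomputable def finTab_s_32_35 (c : Nat) : Nat := @Bool.rec (fun _ => Nat) (finTab_32) (finTab_s_33_35 c) (Nat.ble 33 c)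
noncomputable def finTab_s_29_35 (c : Nat) : Nat := @Bool.rec (fun _ => Nat) (finTab_s_29_32 c) (finTab_s_32_35 c) (Nat.ble 32 c)
noncomputable def finTab_s_23_35 (c : Nat) : Nat := @Bool.rec (fun _ => Nat) (finTab_s_23_29 c) (finTab_s_29_35 c) (Nat.ble 29 c)
noncomputable def finTab_s_36_38 (c : Nat) : Nat := @Bool.rec (fun _ => Nat) (finTab_36) (finTab_37) (Nat.ble 37 c)
noncomputable def finTab_s_35_38 (c : Nat) : Nat := @Bool.rec (fun _ => Nat) (finTab_35) (finTab_s_36_38 c) (Nat.ble 36 c)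
noncomputable def finTab_s_39_41 (c : Nat) : Nat := @Bool.rec (fun _ => Nat) (finTab_39) (finTab_40) (Nat.ble 40 c)
noncomputable def finTab_s_38_41 (c : Nat) : Nat := @Bool.rec (fun _ => Nat) (finTab_38) (finTab_s_39_41 c) (Nat.ble 39 c)
noncomputable def finTab_s_35_41 (c : Nat) : Nat := @Bool.rec (fun _ => Nat) (finTab_s_35_38 c) (finTab_s_38_41 c) (Nat.ble 38 c)
noncomputable def finTab_s_42_44 (c : Nat) : Nat := @Bool.rec (fun _ => Nat) (finTab_42) (finTab_43) (Nat.ble 43 c)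
noncomputable def finTab_s_41_44 (c : Nat) : Nat := @Bool.rec (fun _ => Nat) (finTab_41) (finTab_s_42_44 c) (Nat.ble 42 c)
noncomputable def finTab_s_45_47 (c : Nat) : Nat := @Bool.rec (fun _ => Nat) (finTab_45) (finTab_46) (Nat.ble 46 c)
noncomputable def finTab_s_44_47 (c : Nat) : Nat := @Bool.rec (fun _ => Nat) (finTab_44) (finTab_s_45_47 c) (Nat.ble 45 c)
noncomputable def finTab_s_41_47 (c : Nat) : Nat := @Bool.rec (fun _ => Nat) (finTab_s_41_44 c) (finTab_s_44_47 c) (Nat.ble 44 c)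
noncomputable def finTab_s_35_47 (c : Nat) : Nat := @Bool.rec (fun _ => Nat) (finTab_s_35_41 c) (finTab_s_41_47 c) (Nat.ble 41 c)
noncomputable def finTab_s_23_47 (c : Nat) : Nat := @Bool.rec (fun _ => Nat) (finTab_s_23_35 c) (finTab_s_35_47 c) (Nat.ble 35 c)
noncomputable def finTab_s_0_47 (c : Nat) : Nat := @Bool.rec (fun _ => Nat) (finTab_s_0_23 c) (finTab_s_23_47 c) (Nat.ble 23 c)
noncomputable def finTab_s_48_50 (c : Nat) : Nat := @Bool.rec (fun _ => Nat) (finTab_48) (finTab_49) (Nat.ble 49 c)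
noncomputable def finTab_s_47_50 (c : Nat) : Nat := @Bool.rec (fun _ => Nat) (finTab_47) (finTab_s_48_50 c) (Nat.ble 48 c)
noncomputable def finTab_s_51_53 (c : Nat) : Nat := @Bool.rec (fun _ => Nat) (finTab_51) (finTab_52) (Nat.ble 52 c)
noncomputable def finTab_s_50_53 (c : Nat) : Nat := @Bool.rec (fun _ => Nat) (finTab_50) (finTab_s_51_53 c) (Nat.ble 51 c)
noncomputable def finTab_s_47_53 (c : Nat) : Nat := @Bool.rec (fun _ => Nat) (finTab_s_47_50 c) (finTab_s_50_53 c) (Nat.ble 50 c)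
noncomputable def finTab_s_54_56 (c : Nat) : Nat := @Bool.rec (fun _ => Nat) (finTab_54) (finTab_55) (Nat.ble 55 c)
noncomputable def finTab_s_53_56 (c : Nat) : Nat := @Bool.rec (fun _ => Nat) (finTab_53) (finTab_s_54_56 c) (Nat.ble 54 c)
noncomputable def finTab_s_57_59 (c : Nat) : Nat := @Bool.rec (fun _ => Nat) (finTab_57) (finTab_58) (Nat.ble 58 c)
noncomputable def finTab_s_56_59 (c : Nat) : Nat := @Bool.rec (fun _ => Nat) (finTab_56) (finTab_s_57_59 c) (Nat.ble 57 c)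
noncomputable def finTab_s_53_59 (c : Nat) : Nat := @Bool.rec (fun _ => Nat) (finTab_s_53_56 c) (finTab_s_56_59 c) (Nat.ble 56 c)
noncomputable def finTab_s_47_59 (c : Nat) : Nat := @Bool.rec (fun _ => Nat) (finTab_s_47_53 c) (finTab_s_53_59 c) (Nat.ble 53 c)
noncomputable def finTab_s_60_62 (c : Nat) : Nat := @Bool.rec (fun _ => Nat) (finTab_60) (finTab_61) (Nat.ble 61 c)
noncomputable def finTab_s_59_62 (c : Nat) : Nat := @Bool.rec (fun _ => Nat) (finTab_59) (finTab_s_60_62 c) (Nat.ble 60 c)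
noncomputable def finTab_s_63_65 (c : Nat) : Nat := @Bool.rec (fun _ => Nat) (finTab_63) (finTab_64) (Nat.ble 64 c)
noncomputable def finTab_s_62_65 (c : Nat) : Nat := @Bool.rec (fun _ => Nat) (finTab_62) (finTab_s_63_65 c) (Nat.ble 63 c)
noncomputable def finTab_s_59_65 (c : Nat) : Nat := @Bool.rec (fun _ => Nat) (finTab_s_59_62 c) (finTab_s_62_65 c) (Nat.ble 62 c)
noncomputable def finTab_s_66_68 (c : Nat) : Nat := @Bool.rec (fun _ => Nat) (finTab_66) (finTab_67) (Nat.ble 67 c)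
noncomputable def finTab_s_65_68 (c : Nat) : Nat := @Bool.rec (fun _ => Nat) (finTab_65) (finTab_s_66_68 c) (Nat.ble 66 c)
noncomputable def finTab_s_69_71 (c : Nat) : Nat := @Bool.rec (fun _ => Nat) (finTab_69) (finTab_70) (Nat.ble 70 c)
noncomputable def finTab_s_68_71 (c : Nat) : Nat := @Bool.rec (fun _ => Nat) (finTab_68) (finTab_s_69_71 c) (Nat.ble 69 c)
noncomputable def finTab_s_65_71 (c : Nat) : Nat := @Bool.rec (fun _ => Nat) (finTab_s_65_68 c) (finTab_s_68_71 c) (Nat.ble 68 c)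
noncomputable def finTab_s_59_71 (c : Nat) : Nat := @Bool.rec (fun _ => Nat) (finTab_s_59_65 c) (finTab_s_65_71 c) (Nat.ble 65 c)
noncomputable def finTab_s_47_71 (c : Nat) : Nat := @Bool.rec (fun _ => Nat) (finTab_s_47_59 c) (finTab_s_59_71 c) (Nat.ble 59 c)
noncomputable def finTab_s_72_74 (c : Nat) : Nat := @Bool.rec (fun _ => Nat) (finTab_72) (finTab_73) (Nat.ble 73 c)
noncomputable def finTab_s_71_74 (c : Nat) : Nat := @Bool.rec (fun _ => Nat) (finTab_71) (finTab_s_72_74 c) (Nat.ble 72 c)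
noncomputable def finTab_s_75_77 (c : Nat) : Nat := @Bool.rec (fun _ => Nat) (finTab_75) (finTab_76) (Nat.ble 76 c)
noncomputable def finTab_s_74_77 (c : Nat) : Nat := @Bool.rec (fun _ => Nat) (finTab_74) (finTab_s_75_77 c) (Nat.ble 75 c)
noncomputable def finTab_s_71_77 (c : Nat) : Nat := @Bool.rec (fun _ => Nat) (finTab_s_71_74 c) (finTab_s_74_77 c) (Nat.ble 74 c)
noncomputable def finTab_s_78_80 (c : Nat) : Nat := @Bool.rec (fun _ => Nat) (finTab_78) (finTab_79) (Nat.ble 79 c)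
noncomputable def finTab_s_77_80 (c : Nat) : Nat := @Bool.rec (fun _ => Nat) (finTab_77) (finTab_s_78_80 c) (Nat.ble 78 c)
noncomputable def finTab_s_81_83 (c : Nat) : Nat := @Bool.rec (fun _ => Nat) (finTab_81) (finTab_82) (Nat.ble 82 c)
noncomputable def finTab_s_80_83 (c : Nat) : Nat := @Bool.rec (fun _ => Nat) (finTab_80) (finTab_s_81_83 c) (Nat.ble 81 c)
noncomputable def finTab_s_77_83 (c : Nat) : Nat := @Bool.rec (fun _ => Nat) (finTab_s_77_80 c) (finTab_s_80_83 c) (Nat.ble 80 c)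
noncomputable def finTab_s_71_83 (c : Nat) : Nat := @Bool.rec (fun _ => Nat) (finTab_s_71_77 c) (finTab_s_77_83 c) (Nat.ble 77 c)
noncomputable def finTab_s_84_86 (c : Nat) : Nat := @Bool.rec (fun _ => Nat) (finTab_84) (finTab_85) (Nat.ble 85 c)
noncomputable def finTab_s_83_86 (c : Nat) : Nat := @Bool.rec (fun _ => Nat) (finTab_83) (finTab_s_84_86 c) (Nat.ble 84 c)
noncomputable def finTab_s_87_89 (c : Nat) : Nat := @Bool.rec (fun _ => Nat) (finTab_87) (finTab_88) (Nat.ble 88 c)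
noncomputable def finTab_s_86_89 (c : Nat) : Nat := @Bool.rec (fun _ => Nat) (finTab_86) (finTab_s_87_89 c) (Nat.ble 87 c)
noncomputable def finTab_s_83_89 (c : Nat) : Nat := @Bool.rec (fun _ => Nat) (finTab_s_83_86 c) (finTab_s_86_89 c) (Nat.ble 86 c)
noncomputable def finTab_s_90_92 (c : Nat) : Nat := @Bool.rec (fun _ => Nat) (finTab_90) (finTab_91) (Nat.ble 91 c)
noncomputable def finTab_s_89_92 (c : Nat) : Nat := @Bool.rec (fun _ => Nat) (finTab_89) (finTab_s_90_92 c) (Nat.ble 90 c)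
noncomputable def finTab_s_93_95 (c : Nat) : Nat := @Bool.rec (fun _ => Nat) (finTab_93) (finTab_94) (Nat.ble 94 c)
noncomputable def finTab_s_92_95 (c : Nat) : Nat := @Bool.rec (fun _ => Nat) (finTab_92) (finTab_s_93_95 c) (Nat.ble 93 c)
noncomputable def finTab_s_89_95 (c : Nat) : Nat := @Bool.rec (fun _ => Nat) (finTab_s_89_92 c) (finTab_s_92_95 c) (Nat.ble 92 c)
noncomputable def finTab_s_83_95 (c : Nat) : Nat := @Bool.rec (fun _ => Nat) (finTab_s_83_89 c) (finTab_s_89_95 c) (Nat.ble 89 c)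
noncomputable def finTab_s_71_95 (c : Nat) : Nat := @Bool.rec (fun _ => Nat) (finTab_s_71_83 c) (finTab_s_83_95 c) (Nat.ble 83 c)
noncomputable def finTab_s_47_95 (c : Nat) : Nat := @Bool.rec (fun _ => Nat) (finTab_s_47_71 c) (finTab_s_71_95 c) (Nat.ble 71 c)
noncomputable def finTab_s_0_95 (c : Nat) : Nat := @Bool.rec (fun _ => Nat) (finTab_s_0_47 c) (finTab_s_47_95 c) (Nat.ble 47 c)
noncomputable def finTab_s_95_97 (c : Nat) : Nat := @Bool.rec (fun _ => Nat) (finTab_95) (finTab_96) (Nat.ble 96 c)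
noncomputable def finTab_s_98_100 (c : Nat) : Nat := @Bool.rec (fun _ => Nat) (finTab_98) (finTab_99) (Nat.ble 99 c)
noncomputable def finTab_s_97_100 (c : Nat) : Nat := @Bool.rec (fun _ => Nat) (finTab_97) (finTab_s_98_100 c) (Nat.ble 98 c)
noncomputable def finTab_s_95_100 (c : Nat) : Nat := @Bool.rec (fun _ => Nat) (finTab_s_95_97 c) (finTab_s_97_100 c) (Nat.ble 97 c)
noncomputable def finTab_s_101_103 (c : Nat) : Nat := @Bool.rec (fun _ => Nat) (finTab_101) (finTab_102) (Nat.ble 102 c)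
noncomputable def finTab_s_100_103 (c : Nat) : Nat := @Bool.rec (fun _ => Nat) (finTab_100) (finTab_s_101_103 c) (Nat.ble 101 c)
noncomputable def finTab_s_104_106 (c : Nat) : Nat := @Bool.rec (fun _ => Nat) (finTab_104) (finTab_105) (Nat.ble 105 c)
noncomputable def finTab_s_103_106 (c : Nat) : Nat := @Bool.rec (fun _ => Nat) (finTab_103) (finTab_s_104_106 c) (Nat.ble 104 c)
noncomputable def finTab_s_100_106 (c : Nat) : Nat := @Bool.rec (fun _ => Nat) (finTab_s_100_103 c) (finTab_s_103_106 c) (Nat.ble 103 c)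
noncomputable def finTab_s_95_106 (c : Nat) : Nat := @Bool.rec (fun _ => Nat) (finTab_s_95_100 c) (finTab_s_100_106 c) (Nat.ble 100 c)
noncomputable def finTab_s_107_109 (c : Nat) : Nat := @Bool.rec (fun _ => Nat) (finTab_107) (finTab_108) (Nat.ble 108 c)
noncomputable def finTab_s_106_109 (c : Nat) : Nat := @Bool.rec (fun _ => Nat) (finTab_106) (finTab_s_107_109 c) (Nat.ble 107 c)
noncomputable def finTab_s_110_112 (c : Nat) : Nat := @Bool.rec (fun _ => Nat) (finTab_110) (finTab_111) (Nat.ble 111 c)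
noncomputable def finTab_s_109_112 (c : Nat) : Nat := @Bool.rec (fun _ => Nat) (finTab_109) (finTab_s_110_112 c) (Nat.ble 110 c)
noncomputable def finTab_s_106_112 (c : Nat) : Nat := @Bool.rec (fun _ => Nat) (finTab_s_106_109 c) (finTab_s_109_112 c) (Nat.ble 109 c)
noncomputable def finTab_s_113_115 (c : Nat) : Nat := @Bool.rec (fun _ => Nat) (finTab_113) (finTab_114) (Nat.ble 114 c)
noncomputable def finTab_s_112_115 (c : Nat) : Nat := @Bool.rec (fun _ => Nat) (finTab_112) (finTab_s_113_115 c) (Nat.ble 113 c)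
noncomputable def finTab_s_116_118 (c : Nat) : Nat := @Bool.rec (fun _ => Nat) (finTab_116) (finTab_117) (Nat.ble 117 c)
noncomputable def finTab_s_115_118 (c : Nat) : Nat := @Bool.rec (fun _ => Nat) (finTab_115) (finTab_s_116_118 c) (Nat.ble 116 c)
noncomputable def finTab_s_112_118 (c : Nat) : Nat := @Bool.rec (fun _ => Nat) (finTab_s_112_115 c) (finTab_s_115_118 c) (Nat.ble 115 c)
noncomputable def finTab_s_106_118 (c : Nat) : Nat := @Bool.rec (fun _ => Nat) (finTab_s_106_112 c) (finTab_s_112_118 c) (Nat.ble 112 c)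
noncomputable def finTab_s_95_118 (c : Nat) : Nat := @Bool.rec (fun _ => Nat) (finTab_s_95_106 c) (finTab_s_106_118 c) (Nat.ble 106 c)
noncomputable def finTab_s_119_121 (c : Nat) : Nat := @Bool.rec (fun _ => Nat) (finTab_119) (finTab_120) (Nat.ble 120 c)
noncomputable def finTab_s_118_121 (c : Nat) : Nat := @Bool.rec (fun _ => Nat) (finTab_118) (finTab_s_119_121 c) (Nat.ble 119 c)
noncomputable def finTab_s_122_124 (c : Nat) : Nat := @Bool.rec (fun _ => Nat) (finTab_122) (finTab_123) (Nat.ble 123 c)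
noncomputable def finTab_s_121_124 (c : Nat) : Nat := @Bool.rec (fun _ => Nat) (finTab_121) (finTab_s_122_124 c) (Nat.ble 122 c)
noncomputable def finTab_s_118_124 (c : Nat) : Nat := @Bool.rec (fun _ => Nat) (finTab_s_118_121 c) (finTab_s_121_124 c) (Nat.ble 121 c)
noncomputable def finTab_s_125_127 (c : Nat) : Nat := @Bool.rec (fun _ => Nat) (finTab_125) (finTab_126) (Nat.ble 126 c)
noncomputable def finTab_s_124_127 (c : Nat) : Nat := @Bool.rec (fun _ => Nat) (finTab_124) (finTab_s_125_127 c) (Nat.ble 125 c)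
noncomputable def finTab_s_128_130 (c : Nat) : Nat := @Bool.rec (fun _ => Nat) (finTab_128) (finTab_129) (Nat.ble 129 c)
noncomputable def finTab_s_127_130 (c : Nat) : Nat := @Bool.rec (fun _ => Nat) (finTab_127) (finTab_s_128_130 c) (Nat.ble 128 c)
noncomputable def finTab_s_124_130 (c : Nat) : Nat := @Bool.rec (fun _ => Nat) (finTab_s_124_127 c) (finTab_s_127_130 c) (Nat.ble 127 c)
noncomputable def finTab_s_118_130 (c : Nat) : Nat := @Bool.rec (fun _ => Nat) (finTab_s_118_124 c) (finTab_s_124_130 c) (Nat.ble 124 c)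
noncomputable def finTab_s_131_133 (c : Nat) : Nat := @Bool.rec (fun _ => Nat) (finTab_131) (finTab_132) (Nat.ble 132 c)
noncomputable def finTab_s_130_133 (c : Nat) : Nat := @Bool.rec (fun _ => Nat) (finTab_130) (finTab_s_131_133 c) (Nat.ble 131 c)
noncomputable def finTab_s_134_136 (c : Nat) : Nat := @Bool.rec (fun _ => Nat) (finTab_134) (finTab_135) (Nat.ble 135 c)
noncomputable def finTab_s_133_136 (c : Nat) : Nat := @Bool.rec (fun _ => Nat) (finTab_133) (finTab_s_134_136 c) (Nat.ble 134 c)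
noncomputable def finTab_s_130_136 (c : Nat) : Nat := @Bool.rec (fun _ => Nat) (finTab_s_130_133 c) (finTab_s_133_136 c) (Nat.ble 133 c)
noncomputable def finTab_s_137_139 (c : Nat) : Nat := @Bool.rec (fun _ => Nat) (finTab_137) (finTab_138) (Nat.ble 138 c)
noncomputable def finTab_s_136_139 (c : Nat) : Nat := @Bool.rec (fun _ => Nat) (finTab_136) (finTab_s_137_139 c) (Nat.ble 137 c)
noncomputable def finTab_s_140_142 (c : Nat) : Nat := @Bool.rec (fun _ => Nat) (finTab_140) (finTab_141) (Nat.ble 141 c)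
noncomputable def finTab_s_139_142 (c : Nat) : Nat := @Bool.rec (fun _ => Nat) (finTab_139) (finTab_s_140_142 c) (Nat.ble 140 c)
noncomputable def finTab_s_136_142 (c : Nat) : Nat := @Bool.rec (fun _ => Nat) (finTab_s_136_139 c) (finTab_s_139_142 c) (Nat.ble 139 c)
noncomputable def finTab_s_130_142 (c : Nat) : Nat := @Bool.rec (fun _ => Nat) (finTab_s_130_136 c) (finTab_s_136_142 c) (Nat.ble 136 c)
noncomputable def finTab_s_118_142 (c : Nat) : Nat := @Bool.rec (fun _ => Nat) (finTab_s_118_130 c) (finTab_s_130_142 c) (Nat.ble 130 c)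
noncomputable def finTab_s_95_142 (c : Nat) : Nat := @Bool.rec (fun _ => Nat) (finTab_s_95_118 c) (finTab_s_118_142 c) (Nat.ble 118 c)
noncomputable def finTab_s_143_145 (c : Nat) : Nat := @Bool.rec (fun _ => Nat) (finTab_143) (finTab_144) (Nat.ble 144 c)
noncomputable def finTab_s_142_145 (c : Nat) : Nat := @Bool.rec (fun _ => Nat) (finTab_142) (finTab_s_143_145 c) (Nat.ble 143 c)
noncomputable def finTab_s_146_148 (c : Nat) : Nat := @Bool.rec (fun _ => Nat) (finTab_146) (finTab_147) (Nat.ble 147 c)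
noncomputable def finTab_s_145_148 (c : Nat) : Nat := @Bool.rec (fun _ => Nat) (finTab_145) (finTab_s_146_148 c) (Nat.ble 146 c)
noncomputable def finTab_s_142_148 (c : Nat) : Nat := @Bool.rec (fun _ => Nat) (finTab_s_142_145 c) (finTab_s_145_148 c) (Nat.ble 145 c)
noncomputable def finTab_s_149_151 (c : Nat) : Nat := @Bool.rec (fun _ => Nat) (finTab_149) (finTab_150) (Nat.ble 150 c)
noncomputable def finTab_s_148_151 (c : Nat) : Nat := @Bool.rec (fun _ => Nat) (finTab_148) (finTab_s_149_151 c) (Nat.ble 149 c)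
noncomputable def finTab_s_152_154 (c : Nat) : Nat := @Bool.rec (fun _ => Nat) (finTab_152) (finTab_153) (Nat.ble 153 c)
noncomputable def finTab_s_151_154 (c : Nat) : Nat := @Bool.rec (fun _ => Nat) (finTab_151) (finTab_s_152_154 c) (Nat.ble 152 c)
noncomputable def finTab_s_148_154 (c : Nat) : Nat := @Bool.rec (fun _ => Nat) (finTab_s_148_151 c) (finTab_s_151_154 c) (Nat.ble 151 c)
noncomputable def finTab_s_142_154 (c : Nat) : Nat := @Bool.rec (fun _ => Nat) (finTab_s_142_148 c) (finTab_s_148_154 c) (Nat.ble 148 c)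
noncomputable def finTab_s_155_157 (c : Nat) : Nat := @Bool.rec (fun _ => Nat) (finTab_155) (finTab_156) (Nat.ble 156 c)
noncomputable def finTab_s_154_157 (c : Nat) : Nat := @Bool.rec (fun _ => Nat) (finTab_154) (finTab_s_155_157 c) (Nat.ble 155 c)
noncomputable def finTab_s_158_160 (c : Nat) : Nat := @Bool.rec (fun _ => Nat) (finTab_158) (finTab_159) (Nat.ble 159 c)
noncomputable def finTab_s_157_160 (c : Nat) : Nat := @Bool.rec (fun _ => Nat) (finTab_157) (finTab_s_158_160 c) (Nat.ble 158 c)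
noncomputable def finTab_s_154_160 (c : Nat) : Nat := @Bool.rec (fun _ => Nat) (finTab_s_154_157 c) (finTab_s_157_160 c) (Nat.ble 157 c)
noncomputable def finTab_s_161_163 (c : Nat) : Nat := @Bool.rec (fun _ => Nat) (finTab_161) (finTab_162) (Nat.ble 162 c)
noncomputable def finTab_s_160_163 (c : Nat) : Nat := @Bool.rec (fun _ => Nat) (finTab_160) (finTab_s_161_163 c) (Nat.ble 161 c)
noncomputable def finTab_s_164_166 (c : Nat) : Nat := @Bool.rec (fun _ => Nat) (finTab_164) (finTab_165) (Nat.ble 165 c)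
noncomputable def finTab_s_163_166 (c : Nat) : Nat := @Bool.rec (fun _ => Nat) (finTab_163) (finTab_s_164_166 c) (Nat.ble 164 c)
noncomputable def finTab_s_160_166 (c : Nat) : Nat := @Bool.rec (fun _ => Nat) (finTab_s_160_163 c) (finTab_s_163_166 c) (Nat.ble 163 c)
noncomputable def finTab_s_154_166 (c : Nat) : Nat := @Bool.rec (fun _ => Nat) (finTab_s_154_160 c) (finTab_s_160_166 c) (Nat.ble 160 c)
noncomputable def finTab_s_142_166 (c : Nat) : Nat := @Bool.rec (fun _ => Nat) (finTab_s_142_154 c) (finTab_s_154_166 c) (Nat.ble 154 c)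
noncomputable def finTab_s_167_169 (c : Nat) : Nat := @Bool.rec (fun _ => Nat) (finTab_167) (finTab_168) (Nat.ble 168 c)
noncomputable def finTab_s_166_169 (c : Nat) : Nat := @Bool.rec (fun _ => Nat) (finTab_166) (finTab_s_167_169 c) (Nat.ble 167 c)
noncomputable def finTab_s_170_172 (c : Nat) : Nat := @Bool.rec (fun _ => Nat) (finTab_170) (finTab_171) (Nat.ble 171 c)
noncomputable def finTab_s_169_172 (c : Nat) : Nat := @Bool.rec (fun _ => Nat) (finTab_169) (finTab_s_170_172 c) (Nat.ble 170 c)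
noncomputable def finTab_s_166_172 (c : Nat) : Nat := @Bool.rec (fun _ => Nat) (finTab_s_166_169 c) (finTab_s_169_172 c) (Nat.ble 169 c)
noncomputable def finTab_s_173_175 (c : Nat) : Nat := @Bool.rec (fun _ => Nat) (finTab_173) (finTab_174) (Nat.ble 174 c)
noncomputable def finTab_s_172_175 (c : Nat) : Nat := @Bool.rec (fun _ => Nat) (finTab_172) (finTab_s_173_175 c) (Nat.ble 173 c)
noncomputable def finTab_s_176_178 (c : Nat) : Nat := @Bool.rec (fun _ => Nat) (finTab_176) (finTab_177) (Nat.ble 177 c)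
noncomputable def finTab_s_175_178 (c : Nat) : Nat := @Bool.rec (fun _ => Nat) (finTab_175) (finTab_s_176_178 c) (Nat.ble 176 c)
noncomputable def finTab_s_172_178 (c : Nat) : Nat := @Bool.rec (fun _ => Nat) (finTab_s_172_175 c) (finTab_s_175_178 c) (Nat.ble 175 c)
noncomputable def finTab_s_166_178 (c : Nat) : Nat := @Bool.rec (fun _ => Nat) (finTab_s_166_172 c) (finTab_s_172_178 c) (Nat.ble 172 c)
noncomputable def finTab_s_179_181 (c : Nat) : Nat := @Bool.rec (fun _ => Nat) (finTab_179) (finTab_180) (Nat.ble 180 c)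
noncomputable def finTab_s_178_181 (c : Nat) : Nat := @Bool.rec (fun _ => Nat) (finTab_178) (finTab_s_179_181 c) (Nat.ble 179 c)
noncomputable def finTab_s_182_184 (c : Nat) : Nat := @Bool.rec (fun _ => Nat) (finTab_182) (finTab_183) (Nat.ble 183 c)
noncomputable def finTab_s_181_184 (c : Nat) : Nat := @Bool.rec (fun _ => Nat) (finTab_181) (finTab_s_182_184 c) (Nat.ble 182 c)
noncomputable def finTab_s_178_184 (c : Nat) : Nat := @Bool.rec (fun _ => Nat) (finTab_s_178_181 c) (finTab_s_181_184 c) (Nat.ble 181 c)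
noncomputable def finTab_s_185_187 (c : Nat) : Nat := @Bool.rec (fun _ => Nat) (finTab_185) (finTab_186) (Nat.ble 186 c)
noncomputable def finTab_s_184_187 (c : Nat) : Nat := @Bool.rec (fun _ => Nat) (finTab_184) (finTab_s_185_187 c) (Nat.ble 185 c)
noncomputable def finTab_s_188_190 (c : Nat) : Nat := @Bool.rec (fun _ => Nat) (finTab_188) (finTab_189) (Nat.ble 189 c)
noncomputable def finTab_s_187_190 (c : Nat) : Nat := @Bool.rec (fun _ => Nat) (finTab_187) (finTab_s_188_190 c) (Nat.ble 188 c)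
noncomputable def finTab_s_184_190 (c : Nat) : Nat := @Bool.rec (fun _ => Nat) (finTab_s_184_187 c) (finTab_s_187_190 c) (Nat.ble 187 c)
noncomputable def finTab_s_178_190 (c : Nat) : Nat := @Bool.rec (fun _ => Nat) (finTab_s_178_184 c) (finTab_s_184_190 c) (Nat.ble 184 c)
noncomputable def finTab_s_166_190 (c : Nat) : Nat := @Bool.rec (fun _ => Nat) (finTab_s_166_178 c) (finTab_s_178_190 c) (Nat.ble 178 c)
noncomputable def finTab_s_142_190 (c : Nat) : Nat := @Bool.rec (fun _ => Nat) (finTab_s_142_166 c) (finTab_s_166_190 c) (Nat.ble 166 c)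
noncomputable def finTab_s_95_190 (c : Nat) : Nat := @Bool.rec (fun _ => Nat) (finTab_s_95_142 c) (finTab_s_142_190 c) (Nat.ble 142 c)
noncomputable def finTab_s_0_190 (c : Nat) : Nat := @Bool.rec (fun _ => Nat) (finTab_s_0_95 c) (finTab_s_95_190 c) (Nat.ble 95 c)
noncomputable def finTab (i : Nat) : Nat := rdw 20 1048575 (finTab_s_0_190 (Nat.shiftRight i 12)) (Nat.land i 4095)
noncomputable def clsTab_s_0_2 (c : Nat) : Nat := @Bool.rec (fun _ => Nat) (clsTab_0) (clsTab_1) (Nat.ble 1 c)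
noncomputable def clsTab_s_2_4 (c : Nat) : Nat := @Bool.rec (fun _ => Nat) (clsTab_2) (clsTab_3) (Nat.ble 3 c)
noncomputable def clsTab_s_0_4 (c : Nat) : Nat := @Bool.rec (fun _ => Nat) (clsTab_s_0_2 c) (clsTab_s_2_4 c) (Nat.ble 2 c)
noncomputable def clsTab_s_4_6 (c : Nat) : Nat := @Bool.rec (fun _ => Nat) (clsTab_4) (clsTab_5) (Nat.ble 5 c)
noncomputable def clsTab_s_6_8 (c : Nat) : Nat := @Bool.rec (fun _ => Nat) (clsTab_6) (clsTab_7) (Nat.ble 7 c)
noncomputable def clsTab_s_4_8 (c : Nat) : Nat := @Bool.rec (fun _ => Nat) (clsTab_s_4_6 c) (clsTab_s_6_8 c) (Nat.ble 6 c)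
noncomputable def clsTab_s_0_8 (c : Nat) : Nat := @Bool.rec (fun _ => Nat) (clsTab_s_0_4 c) (clsTab_s_4_8 c) (Nat.ble 4 c)
noncomputable def clsTab_s_8_10 (c : Nat) : Nat := @Bool.rec (fun _ => Nat) (clsTab_8) (clsTab_9) (Nat.ble 9 c)
noncomputable def clsTab_s_10_12 (c : Nat) : Nat := @Bool.rec (fun _ => Nat) (clsTab_10) (clsTab_11) (Nat.ble 11 c)
noncomputable def clsTab_s_8_12 (c : Nat) : Nat := @Bool.rec (fun _ => Nat) (clsTab_s_8_10 c) (clsTab_s_10_12 c) (Nat.ble 10 c)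
noncomputable def clsTab_s_12_14 (c : Nat) : Nat := @Bool.rec (fun _ => Nat) (clsTab_12) (clsTab_13) (Nat.ble 13 c)
noncomputable def clsTab_s_15_17 (c : Nat) : Nat := @Bool.rec (fun _ => Nat) (clsTab_15) (clsTab_16) (Nat.ble 16 c)
noncomputable def clsTab_s_14_17 (c : Nat) : Nat := @Bool.rec (fun _ => Nat) (clsTab_14) (clsTab_s_15_17 c) (Nat.ble 15 c)
noncomputable def clsTab_s_12_17 (c : Nat) : Nat := @Bool.rec (fun _ => Nat) (clsTab_s_12_14 c) (clsTab_s_14_17 c) (Nat.ble 14 c)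
noncomputable def clsTab_s_8_17 (c : Nat) : Nat := @Bool.rec (fun _ => Nat) (clsTab_s_8_12 c) (clsTab_s_12_17 c) (Nat.ble 12 c)
noncomputable def clsTab_s_0_17 (c : Nat) : Nat := @Bool.rec (fun _ => Nat) (clsTab_s_0_8 c) (clsTab_s_8_17 c) (Nat.ble 8 c)
noncomputable def clsTab (i : Nat) : Nat := rdw 16 65535 (clsTab_s_0_17 (Nat.shiftRight i 12)) (Nat.land i 4095)
noncomputable def oparTab_s_1_3 (c : Nat) : Nat := @Bool.rec (fun _ => Nat) (oparTab_1) (oparTab_2) (Nat.ble 2 c)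
noncomputable def oparTab_s_0_3 (c : Nat) : Nat := @Bool.rec (fun _ => Nat) (oparTab_0) (oparTab_s_1_3 c) (Nat.ble 1 c)
noncomputable def oparTab_s_4_6 (c : Nat) : Nat := @Bool.rec (fun _ => Nat) (oparTab_4) (oparTab_5) (Nat.ble 5 c)
noncomputable def oparTab_s_3_6 (c : Nat) : Nat := @Bool.rec (fun _ => Nat) (oparTab_3) (oparTab_s_4_6 c) (Nat.ble 4 c)
noncomputable def oparTab_s_0_6 (c : Nat) : Nat := @Bool.rec (fun _ => Nat) (oparTab_s_0_3 c) (oparTab_s_3_6 c) (Nat.ble 3 c)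
noncomputable def oparTab_s_7_9 (c : Nat) : Nat := @Bool.rec (fun _ => Nat) (oparTab_7) (oparTab_8) (Nat.ble 8 c)
noncomputable def oparTab_s_6_9 (c : Nat) : Nat := @Bool.rec (fun _ => Nat) (oparTab_6) (oparTab_s_7_9 c) (Nat.ble 7 c)
noncomputable def oparTab_s_10_12 (c : Nat) : Nat := @Bool.rec (fun _ => Nat) (oparTab_10) (oparTab_11) (Nat.ble 11 c)
noncomputable def oparTab_s_9_12 (c : Nat) : Nat := @Bool.rec (fun _ => Nat) (oparTab_9) (oparTab_s_10_12 c) (Nat.ble 10 c)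
noncomputable def oparTab_s_6_12 (c : Nat) : Nat := @Bool.rec (fun _ => Nat) (oparTab_s_6_9 c) (oparTab_s_9_12 c) (Nat.ble 9 c)
noncomputable def oparTab_s_0_12 (c : Nat) : Nat := @Bool.rec (fun _ => Nat) (oparTab_s_0_6 c) (oparTab_s_6_12 c) (Nat.ble 6 c)
noncomputable def oparTab (i : Nat) : Nat := rdw 16 65535 (oparTab_s_0_12 (Nat.shiftRight i 12)) (Nat.land i 4095)
noncomputable def olabTab_s_0_2 (c : Nat) : Nat := @Bool.rec (fun _ => Nat) (olabTab_0) (olabTab_1) (Nat.ble 1 c)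
noncomputable def olabTab (i : Nat) : Nat := rdw 2 3 (olabTab_s_0_2 (Nat.shiftRight i 15)) (Nat.land i 32767)
noncomputable def srcF (t : Nat) : Nat := Nat.land (Atab t) 131071
noncomputable def tgtF (t : Nat) : Nat := Nat.land (Nat.shiftRight (Atab t) 17) 131071
noncomputable def ltF (t : Nat) : Nat := Nat.shiftRight (Atab t) 34
noncomputable def rhoF (t : Nat) : Nat := Nat.land (Btab (Nat.sub t 65735)) 255
noncomputable def rotF (t : Nat) : Nat := Nat.land (Nat.shiftRight (Btab (Nat.sub t 65735)) 8) 31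
noncomputable def lenF (t : Nat) : Nat := Nat.land (Nat.shiftRight (Btab (Nat.sub t 65735)) 13) 63
noncomputable def offF (t : Nat) : Nat := Nat.shiftRight (Btab (Nat.sub t 65735)) 19
noncomputable def pfF (j : Nat) : Nat := Nat.shiftRight (Ptab j) 1
noncomputable def pdF (j : Nat) : Nat := Nat.land (Ptab j) 1
noncomputable def tblF (i x : Nat) : Nat := @Bool.rec (fun _ => Nat) (@Bool.rec (fun _ => Nat) (@Bool.rec (fun _ => Nat) (@Bool.rec (fun _ => Nat) (col0 i) (col1 i) (Nat.ble 1 x)) (@Bool.rec (fun _ => Nat) (col2 i) (col3 i) (Nat.ble 3 x)) (Nat.ble 2 x)) (@Bool.rec (fun _ => Nat) (@Bool.rec (fun _ => Nat) (col4 i) (col5 i) (Nat.ble 5 x)) (@Bool.rec (fun _ => Nat) (col6 i) (col7 i) (Nat.ble 7 x)) (Nat.ble 6 x)) (Nat.ble 4 x)) (@Bool.rec (fun _ => Nat) (@Bool.rec (fun _ => Nat) (@Bool.rec (fun _ => Nat) (col8 i) (col9 i) (Nat.ble 9 x)) (@Bool.rec (fun _ => Nat) (col10 i) (col11 i) (Nat.ble 11 x)) (Nat.ble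 10 x)) (@Bool.rec (fun _ => Nat) (@Bool.rec (fun _ => Nat) (col12 i) (col13 i) (Nat.ble 13 x)) (@Bool.rec (fun _ => Nat) (col14 i) (col15 i) (Nat.ble 15 x)) (Nat.ble 14 x)) (Nat.ble 12 x)) (Nat.ble 8 x)
noncomputable def finE (i x : Nat) : Nat := finTab (Nat.add (Nat.mul i 16) x)
noncomputable def finFF (i x : Nat) : Nat := Nat.shiftRight (finE i x) 1
noncomputable def finDF (i x : Nat) : Nat := Nat.land (finE i x) 1

noncomputable def D : Log :=
  { k := 16, inv := invE 16 PSCo3pp5.invR, nR := 130, rBase := rBtab, rLen := rLtab, RR := RRtab,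
    M := 65729, nB := 6, F := 463149, src := srcF, lt := ltF, tgt := tgtF, rho := rhoF, rot := rotF,
    off := offF, len := lenF, pf := pfF, pd := pdF }

noncomputable def T : Tab :=
  { N := 48600, nameOf := nameTab, tbl := tblF, finF := finFF, finD := finDF, cls := clsTab }

def subs : List (List Nat) := [
  [0],
  [2],
  [4] ]

def rw0 : List Nat := [0, 0]
def rw1 : List Nat := [2, 2, 2, 2]
def rw2 : List Nat := [4, 4, 4, 4, 4, 4, 4, 4, 4, 4, 4, 4, 4, 4, 4, 4, 4, 4, 4, 4, 4, 4, 4]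
def rw3 : List Nat := [6, 6]
def rw4 : List Nat := [9, 0, 2, 0, 2, 2, 0, 2, 0, 2, 2, 0, 2, 5, 0, 6, 5, 6, 5, 0, 6, 3]
def rw5 : List Nat := [11, 0, 2, 0, 2, 5, 3, 5, 0, 6, 5, 0, 4, 6, 2, 2, 0, 2, 2, 0, 3, 0, 2, 2]
def rw6 : List Nat := [13, 0, 2, 0, 3, 3, 0, 2, 0, 3, 3, 0, 6, 5, 2, 5, 0, 3, 3, 6, 0, 4, 4, 2, 5]
def rw7 : List Nat := [15, 0, 2, 0, 2, 0, 3, 3, 0, 3, 3, 6, 4, 0, 3, 5, 0, 6, 3, 4, 3, 5, 0, 4, 3, 3, 0, 3]
def rw8 : List Nat := [8, 8, 8, 8, 8]
def rw9 : List Nat := [10, 10, 10, 10, 10]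
def rw10 : List Nat := [12, 12, 12, 12, 12]
def rw11 : List Nat := [14, 14, 14, 14, 14]
def rw12 : List Nat := [8, 0, 9, 1]
def rw13 : List Nat := [8, 2, 9, 3]
def rw14 : List Nat := [8, 4, 9, 5]
def rw15 : List Nat := [8, 6, 9, 7]
def rw16 : List Nat := [10, 0, 11, 1]
def rw17 : List Nat := [10, 2, 11, 3]
def rw18 : List Nat := [10, 4, 11, 5]
def rw19 : List Nat := [10, 6, 11, 7]
def rw20 : List Nat := [12, 0, 13, 1]
def rw21 : List Nat := [12, 2, 13, 3]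
def rw22 : List Nat := [12, 4, 13, 5]
def rw23 : List Nat := [12, 6, 13, 7]
def rw24 : List Nat := [14, 0, 15, 1]
def rw25 : List Nat := [14, 2, 15, 3]
def rw26 : List Nat := [14, 4, 15, 5]
def rw27 : List Nat := [14, 6, 15, 7]
def rw28 : List Nat := [0, 0]
def rw29 : List Nat := [2, 2, 2, 2]
def rw30 : List Nat := [0, 2, 0, 2, 0, 2, 0, 2, 0, 2, 0, 2, 0, 2, 0, 2, 0, 2, 0, 2, 0, 2]
def rw31 : List Nat := [0, 2, 2, 0, 2, 2, 0, 2, 2, 0, 2, 2, 0, 2, 2, 0, 2, 2]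
def rw32 : List Nat := [0, 2, 0, 2, 0, 3, 0, 2, 0, 2, 2, 0, 3, 0, 2, 0, 3, 0, 3]
def rw33 : List Nat := [4, 4, 4, 4, 4, 4, 4, 4, 4, 4, 4, 4, 4, 4, 4, 4, 4, 4, 4, 4, 4, 4, 4]
def rw34 : List Nat := [0, 2, 4, 3, 1, 5, 5]
def rw35 : List Nat := [0, 4, 0, 4, 3, 4, 0, 4, 4, 3, 5, 5]
def rw36 : List Nat := [0, 4, 0, 5, 0, 4, 0, 5, 1, 4, 1, 5]
def rw37 : List Nat := [0, 2, 0, 4, 4, 2, 0, 4, 4, 2, 5, 3, 5, 2, 2]
def rw38 : List Nat := [0, 2, 5, 0, 4, 2, 5, 5, 1, 5, 1, 4, 2, 2, 5]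
def rw39 : List Nat := [0, 3, 5, 1, 4, 3, 4, 3, 3, 5, 0, 4, 3, 4, 3]
def rw40 : List Nat := [6, 2, 4, 4, 0, 5, 0, 3, 0, 7, 2, 4, 4, 1, 5, 1, 3, 1]
def rw41 : List Nat := [6, 0, 2, 0, 4, 0, 5, 5, 3, 7, 1, 2, 1, 4, 2, 5, 3, 1, 3]
def rw42 : List Nat := [6, 4, 2, 0, 5, 5, 0, 3, 0, 3, 7, 4, 3, 3, 5, 3, 3, 1, 3]
def rw43 : List Nat := [6, 4, 0, 4, 3, 4, 4, 4, 2, 4, 3, 7, 5, 3, 3, 4, 3, 4, 2, 1, 3, 3]
def rw44 : List Nat := [6, 5, 2, 2, 5, 5, 3, 5, 2, 5, 7, 4, 2, 4, 2, 4, 1, 3, 3, 1, 2, 1]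
def rw45 : List Nat := [6, 5, 0, 4, 7, 1, 4, 2, 4, 3, 1, 3, 1, 3, 3, 1, 2, 1, 3, 3, 1, 3, 3]
def realLit : List (List Nat) := [rw0, rw1, rw2, rw3, rw4, rw5, rw6, rw7, rw8, rw9, rw10, rw11, rw12, rw13, rw14, rw15, rw16, rw17, rw18, rw19, rw20, rw21, rw22, rw23, rw24, rw25, rw26, rw27, rw28, rw29, rw30, rw31, rw32, rw33, rw34, rw35, rw36, rw37, rw38, rw39, rw40, rw41, rw42, rw43, rw44, rw45]
noncomputable def actR0 (i : Nat) : Nat := col1 (col1 (i))
theorem actR0_eq (i : Nat) : actR0 i = Tab.act T D rw0 i := rfl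
noncomputable def actR1 (i : Nat) : Nat := col3 (col3 (col3 (col3 (i))))
theorem actR1_eq (i : Nat) : actR1 i = Tab.act T D rw1 i := rfl
noncomputable def actR2 (i : Nat) : Nat := col5 (col5 (col5 (col5 (col5 (col5 (col5 (col5 (col5 (col5 (col5 (col5 (col5 (col5 (col5 (col5 (col5 (col5 (col5 (col5 (col5 (col5 (col5 (i)))))))))))))))))))))))
theorem actR2_eq (i : Nat) : actR2 i = Tab.act T D rw2 i := rfl
noncomputable def actR3 (i : Nat) : Nat := col7 (col7 (i))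
theorem actR3_eq (i : Nat) : actR3 i = Tab.act T D rw3 i := rfl
noncomputable def actR4 (i : Nat) : Nat := col8 (col1 (col3 (col1 (col3 (col3 (col1 (col3 (col1 (col3 (col3 (col1 (col3 (col4 (col1 (col7 (col4 (col7 (col4 (col1 (col7 (col2 (i))))))))))))))))))))))
theorem actR4_eq (i : Nat) : actR4 i = Tab.act T D rw4 i := rfl
noncomputable def actR5 (i : Nat) : Nat := col10 (col1 (col3 (col1 (col3 (col4 (col2 (col4 (col1 (col7 (col4 (col1 (col5 (col7 (col3 (col3 (col1 (col3 (col3 (col1 (col2 (col1 (col3 (col3 (i))))))))))))))))))))))))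
theorem actR5_eq (i : Nat) : actR5 i = Tab.act T D rw5 i := rfl
noncomputable def actR6 (i : Nat) : Nat := col12 (col1 (col3 (col1 (col2 (col2 (col1 (col3 (col1 (col2 (col2 (col1 (col7 (col4 (col3 (col4 (col1 (col2 (col2 (col7 (col1 (col5 (col5 (col3 (col4 (i)))))))))))))))))))))))))
theorem actR6_eq (i : Nat) : actR6 i = Tab.act T D rw6 i := rfl
noncomputable def actR7 (i : Nat) : Nat := col14 (col1 (col3 (col1 (col3 (col1 (col2 (col2 (col1 (col2 (col2 (col7 (col5 (col1 (col2 (col4 (col1 (col7 (col2 (col5 (col2 (col4 (col1 (col5 (col2 (col2 (col1 (col2 (i))))))))))))))))))))))))))))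
theorem actR7_eq (i : Nat) : actR7 i = Tab.act T D rw7 i := rfl
noncomputable def actR8 (i : Nat) : Nat := col9 (col9 (col9 (col9 (col9 (i)))))
theorem actR8_eq (i : Nat) : actR8 i = Tab.act T D rw8 i := rfl
noncomputable def actR9 (i : Nat) : Nat := col11 (col11 (col11 (col11 (col11 (i)))))
theorem actR9_eq (i : Nat) : actR9 i = Tab.act T D rw9 i := rfl
noncomputable def actR10 (i : Nat) : Nat := col13 (col13 (col13 (col13 (col13 (i)))))
theorem actR10_eq (i : Nat) : actR10 i = Tab.act T D rw10 i := rfl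
noncomputable def actR11 (i : Nat) : Nat := col15 (col15 (col15 (col15 (col15 (i)))))
theorem actR11_eq (i : Nat) : actR11 i = Tab.act T D rw11 i := rfl
noncomputable def actR12 (i : Nat) : Nat := col9 (col1 (col8 (col0 (i))))
theorem actR12_eq (i : Nat) : actR12 i = Tab.act T D rw12 i := rfl
noncomputable def actR13 (i : Nat) : Nat := col9 (col3 (col8 (col2 (i))))
theorem actR13_eq (i : Nat) : actR13 i = Tab.act T D rw13 i := rfl
noncomputable def actR14 (i : Nat) : Nat := col9 (col5 (col8 (col4 (i))))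
theorem actR14_eq (i : Nat) : actR14 i = Tab.act T D rw14 i := rfl
noncomputable def actR15 (i : Nat) : Nat := col9 (col7 (col8 (col6 (i))))
theorem actR15_eq (i : Nat) : actR15 i = Tab.act T D rw15 i := rfl
noncomputable def actR16 (i : Nat) : Nat := col11 (col1 (col10 (col0 (i))))
theorem actR16_eq (i : Nat) : actR16 i = Tab.act T D rw16 i := rfl
noncomputable def actR17 (i : Nat) : Nat := col11 (col3 (col10 (col2 (i))))
theorem actR17_eq (i : Nat) : actR17 i = Tab.act T D rw17 i := rfl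
noncomputable def actR18 (i : Nat) : Nat := col11 (col5 (col10 (col4 (i))))
theorem actR18_eq (i : Nat) : actR18 i = Tab.act T D rw18 i := rfl
noncomputable def actR19 (i : Nat) : Nat := col11 (col7 (col10 (col6 (i))))
theorem actR19_eq (i : Nat) : actR19 i = Tab.act T D rw19 i := rfl
noncomputable def actR20 (i : Nat) : Nat := col13 (col1 (col12 (col0 (i))))
theorem actR20_eq (i : Nat) : actR20 i = Tab.act T D rw20 i := rfl
noncomputable def actR21 (i : Nat) : Nat := col13 (col3 (col12 (col2 (i))))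
theorem actR21_eq (i : Nat) : actR21 i = Tab.act T D rw21 i := rfl
noncomputable def actR22 (i : Nat) : Nat := col13 (col5 (col12 (col4 (i))))
theorem actR22_eq (i : Nat) : actR22 i = Tab.act T D rw22 i := rfl
noncomputable def actR23 (i : Nat) : Nat := col13 (col7 (col12 (col6 (i))))
theorem actR23_eq (i : Nat) : actR23 i = Tab.act T D rw23 i := rfl
noncomputable def actR24 (i : Nat) : Nat := col15 (col1 (col14 (col0 (i))))
theorem actR24_eq (i : Nat) : actR24 i = Tab.act T D rw24 i := rfl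
noncomputable def actR25 (i : Nat) : Nat := col15 (col3 (col14 (col2 (i))))
theorem actR25_eq (i : Nat) : actR25 i = Tab.act T D rw25 i := rfl
noncomputable def actR26 (i : Nat) : Nat := col15 (col5 (col14 (col4 (i))))
theorem actR26_eq (i : Nat) : actR26 i = Tab.act T D rw26 i := rfl
noncomputable def actR27 (i : Nat) : Nat := col15 (col7 (col14 (col6 (i))))
theorem actR27_eq (i : Nat) : actR27 i = Tab.act T D rw27 i := rfl
noncomputable def actR28 (i : Nat) : Nat := col1 (col1 (i))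
theorem actR28_eq (i : Nat) : actR28 i = Tab.act T D rw28 i := rfl
noncomputable def actR29 (i : Nat) : Nat := col3 (col3 (col3 (col3 (i))))
theorem actR29_eq (i : Nat) : actR29 i = Tab.act T D rw29 i := rfl
noncomputable def actR30 (i : Nat) : Nat := col1 (col3 (col1 (col3 (col1 (col3 (col1 (col3 (col1 (col3 (col1 (col3 (col1 (col3 (col1 (col3 (col1 (col3 (col1 (col3 (col1 (col3 (i))))))))))))))))))))))
theorem actR30_eq (i : Nat) : actR30 i = Tab.act T D rw30 i := rfl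
noncomputable def actR31 (i : Nat) : Nat := col1 (col3 (col3 (col1 (col3 (col3 (col1 (col3 (col3 (col1 (col3 (col3 (col1 (col3 (col3 (col1 (col3 (col3 (i))))))))))))))))))
theorem actR31_eq (i : Nat) : actR31 i = Tab.act T D rw31 i := rfl
noncomputable def actR32 (i : Nat) : Nat := col1 (col3 (col1 (col3 (col1 (col2 (col1 (col3 (col1 (col3 (col3 (col1 (col2 (col1 (col3 (col1 (col2 (col1 (col2 (i)))))))))))))))))))
theorem actR32_eq (i : Nat) : actR32 i = Tab.act T D rw32 i := rfl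
noncomputable def actR33 (i : Nat) : Nat := col5 (col5 (col5 (col5 (col5 (col5 (col5 (col5 (col5 (col5 (col5 (col5 (col5 (col5 (col5 (col5 (col5 (col5 (col5 (col5 (col5 (col5 (col5 (i)))))))))))))))))))))))
theorem actR33_eq (i : Nat) : actR33 i = Tab.act T D rw33 i := rfl
noncomputable def actR34 (i : Nat) : Nat := col1 (col3 (col5 (col2 (col0 (col4 (col4 (i)))))))
theorem actR34_eq (i : Nat) : actR34 i = Tab.act T D rw34 i := rfl
noncomputable def actR35 (i : Nat) : Nat := col1 (col5 (col1 (col5 (col2 (col5 (col1 (col5 (col5 (col2 (col4 (col4 (i))))))))))))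
theorem actR35_eq (i : Nat) : actR35 i = Tab.act T D rw35 i := rfl
noncomputable def actR36 (i : Nat) : Nat := col1 (col5 (col1 (col4 (col1 (col5 (col1 (col4 (col0 (col5 (col0 (col4 (i))))))))))))
theorem actR36_eq (i : Nat) : actR36 i = Tab.act T D rw36 i := rfl
noncomputable def actR37 (i : Nat) : Nat := col1 (col3 (col1 (col5 (col5 (col3 (col1 (col5 (col5 (col3 (col4 (col2 (col4 (col3 (col3 (i)))))))))))))))
theorem actR37_eq (i : Nat) : actR37 i = Tab.act T D rw37 i := rfl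
noncomputable def actR38 (i : Nat) : Nat := col1 (col3 (col4 (col1 (col5 (col3 (col4 (col4 (col0 (col4 (col0 (col5 (col3 (col3 (col4 (i)))))))))))))))
theorem actR38_eq (i : Nat) : actR38 i = Tab.act T D rw38 i := rfl
noncomputable def actR39 (i : Nat) : Nat := col1 (col2 (col4 (col0 (col5 (col2 (col5 (col2 (col2 (col4 (col1 (col5 (col2 (col5 (col2 (i)))))))))))))))
theorem actR39_eq (i : Nat) : actR39 i = Tab.act T D rw39 i := rfl
noncomputable def actR40 (i : Nat) : Nat := col7 (col3 (col5 (col5 (col1 (col4 (col1 (col2 (col1 (col6 (col3 (col5 (col5 (col0 (col4 (col0 (col2 (col0 (i))))))))))))))))))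
theorem actR40_eq (i : Nat) : actR40 i = Tab.act T D rw40 i := rfl
noncomputable def actR41 (i : Nat) : Nat := col7 (col1 (col3 (col1 (col5 (col1 (col4 (col4 (col2 (col6 (col0 (col3 (col0 (col5 (col3 (col4 (col2 (col0 (col2 (i)))))))))))))))))))
theorem actR41_eq (i : Nat) : actR41 i = Tab.act T D rw41 i := rfl
noncomputable def actR42 (i : Nat) : Nat := col7 (col5 (col3 (col1 (col4 (col4 (col1 (col2 (col1 (col2 (col6 (col5 (col2 (col2 (col4 (col2 (col2 (col0 (col2 (i)))))))))))))))))))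
theorem actR42_eq (i : Nat) : actR42 i = Tab.act T D rw42 i := rfl
noncomputable def actR43 (i : Nat) : Nat := col7 (col5 (col1 (col5 (col2 (col5 (col5 (col5 (col3 (col5 (col2 (col6 (col4 (col2 (col2 (col5 (col2 (col5 (col3 (col0 (col2 (col2 (i))))))))))))))))))))))
theorem actR43_eq (i : Nat) : actR43 i = Tab.act T D rw43 i := rfl
noncomputable def actR44 (i : Nat) : Nat := col7 (col4 (col3 (col3 (col4 (col4 (col2 (col4 (col3 (col4 (col6 (col5 (col3 (col5 (col3 (col5 (col0 (col2 (col2 (col0 (col3 (col0 (i))))))))))))))))))))))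
theorem actR44_eq (i : Nat) : actR44 i = Tab.act T D rw44 i := rfl
noncomputable def actR45 (i : Nat) : Nat := col7 (col4 (col1 (col5 (col6 (col0 (col5 (col3 (col5 (col2 (col0 (col2 (col0 (col2 (col2 (col0 (col3 (col0 (col2 (col2 (col0 (col2 (col2 (i)))))))))))))))))))))))
theorem actR45_eq (i : Nat) : actR45 i = Tab.act T D rw45 i := rfl

end Cfsg.Agent.Lib.Helper4.TCD.SCo3pp5A
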