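import Cfsg.Agent.Lib.Helper4.TCD_SCo3pp5A_Acc

namespace Cfsg.Agent.Lib.Helper4.TCD.SCo3pp5A

open Cfsg.Agent.Lib.Helper4.TC

set_option maxRecDepth 100000
set_option Elab.async false

theorem c_zero : D.zeroOK = true := by decide +kernel
theorem c_base : allBelow D.baseOK 6 = true := by decide +kernel
theorem c_let : allBelow D.letOK 16 = true := by decide +kernel
theorem c_cls0 : T.cls 0 = 0 := by decide +kernel
theorem c_name0 : T.nameOf 0 = 0 := by decide +kernel
theorem c_tab : D.relTabOK 0 (baseRels 16 PSCo3pp5.invR PSCo3pp5.P.real subs ++ (baseRels 16 PSCo3pp5.invR PSCo3pp5.P.real subs).map (invWord D.inv)) = true := by decide +kernel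
theorem c_real : PSCo3pp5.P.real = realLit := by decide +kernel
theorem c_subfix : subs.all (fun u => Nat.beq (Tab.act T D u 0) 0) = true := by decide +kernel
theorem c_subs : subs.all (fun u => u.all (fun x => Nat.ble (Nat.succ x) 16)) = true := by decide +kernel
theorem c_names_0 : allRange D.nameOK 1 60000 = true := by decide +kernel
theorem c_names_1 : allRange D.nameOK 60001 5728 = true := by decide +kernel
theorem c_cls_0 : allRange (T.clsOK D) 1 15000 = true := by decide +kernel
theorem c_cls_1 : allRange (T.clsOK D) 15001 15000 = true := by decide +kernel
theorem c_cls_2 : allRange (T.clsOK D) 30001 15000 = true := by decide +kernel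
theorem c_cls_3 : allRange (T.clsOK D) 45001 15000 = true := by decide +kernel
theorem c_cls_4 : allRange (T.clsOK D) 60001 5728 = true := by decide +kernel
theorem c_rep_0 : allRange (T.repOK D) 0 30000 = true := by decide +kernel
theorem c_rep_1 : allRange (T.repOK D) 30000 18600 = true := by decide +kernel
theorem c_rel_0 : allRange D.relOK 65735 3605 = true := by decide +kernel
theorem c_rel_1 : allRange D.relOK 69340 3799 = true := by decide +kernel
theorem c_rel_2 : allRange D.relOK 73139 3824 = true := by decide +kernel
theorem c_rel_3 : allRange D.relOK 76963 3227 = true := by decide +kernel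
theorem c_rel_4 : allRange D.relOK 80190 2759 = true := by decide +kernel
theorem c_rel_5 : allRange D.relOK 82949 3758 = true := by decide +kernel
theorem c_rel_6 : allRange D.relOK 86707 3787 = true := by decide +kernel
theorem c_rel_7 : allRange D.relOK 90494 3554 = true := by decide +kernel
theorem c_rel_8 : allRange D.relOK 94048 1496 = true := by decide +kernel
theorem c_rel_9 : allRange D.relOK 95544 1183 = true := by decide +kernel
theorem c_rel_10 : allRange D.relOK 96727 777 = true := by decide +kernel
theorem c_rel_11 : allRange D.relOK 97504 1348 = true := by decide +kernel
theorem c_rel_12 : allRange D.relOK 98852 1640 = true := by decide +kernel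
theorem c_rel_13 : allRange D.relOK 100492 2690 = true := by decide +kernel
theorem c_rel_14 : allRange D.relOK 103182 2899 = true := by decide +kernel
theorem c_rel_15 : allRange D.relOK 106081 2079 = true := by decide +kernel
theorem c_rel_16 : allRange D.relOK 108160 2739 = true := by decide +kernel
theorem c_rel_17 : allRange D.relOK 110899 3004 = true := by decide +kernel
theorem c_rel_18 : allRange D.relOK 113903 2388 = true := by decide +kernel
theorem c_rel_19 : allRange D.relOK 116291 1751 = true := by decide +kernel
theorem c_rel_20 : allRange D.relOK 118042 2057 = true := by decide +kernel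
theorem c_rel_21 : allRange D.relOK 120099 1880 = true := by decide +kernel
theorem c_rel_22 : allRange D.relOK 121979 2247 = true := by decide +kernel
theorem c_rel_23 : allRange D.relOK 124226 2102 = true := by decide +kernel
theorem c_rel_24 : allRange D.relOK 126328 2178 = true := by decide +kernel
theorem c_rel_25 : allRange D.relOK 128506 1921 = true := by decide +kernel
theorem c_rel_26 : allRange D.relOK 130427 2205 = true := by decide +kernel
theorem c_rel_27 : allRange D.relOK 132632 1651 = true := by decide +kernel
theorem c_rel_28 : allRange D.relOK 134283 2159 = true := by decide +kernel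
theorem c_rel_29 : allRange D.relOK 136442 2035 = true := by decide +kernel
theorem c_rel_30 : allRange D.relOK 138477 1869 = true := by decide +kernel
theorem c_rel_31 : allRange D.relOK 140346 1757 = true := by decide +kernel
theorem c_rel_32 : allRange D.relOK 142103 2123 = true := by decide +kernel
theorem c_rel_33 : allRange D.relOK 144226 2160 = true := by decide +kernel
theorem c_rel_34 : allRange D.relOK 146386 2391 = true := by decide +kernel
theorem c_rel_35 : allRange D.relOK 148777 2064 = true := by decide +kernel
theorem c_rel_36 : allRange D.relOK 150841 2320 = true := by decide +kernel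
theorem c_rel_37 : allRange D.relOK 153161 2400 = true := by decide +kernel
theorem c_rel_38 : allRange D.relOK 155561 2040 = true := by decide +kernel
theorem c_rel_39 : allRange D.relOK 157601 1742 = true := by decide +kernel
theorem c_rel_40 : allRange D.relOK 159343 1735 = true := by decide +kernel
theorem c_rel_41 : allRange D.relOK 161078 1731 = true := by decide +kernel
theorem c_rel_42 : allRange D.relOK 162809 1793 = true := by decide +kernel
theorem c_rel_43 : allRange D.relOK 164602 2089 = true := by decide +kernel
theorem c_rel_44 : allRange D.relOK 166691 1734 = true := by decide +kernel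
theorem c_rel_45 : allRange D.relOK 168425 1706 = true := by decide +kernel
theorem c_rel_46 : allRange D.relOK 170131 1685 = true := by decide +kernel
theorem c_rel_47 : allRange D.relOK 171816 2329 = true := by decide +kernel
theorem c_rel_48 : allRange D.relOK 174145 1889 = true := by decide +kernel
theorem c_rel_49 : allRange D.relOK 176034 1684 = true := by decide +kernel
theorem c_rel_50 : allRange D.relOK 177718 1689 = true := by decide +kernel
theorem c_rel_51 : allRange D.relOK 179407 1505 = true := by decide +kernel
theorem c_rel_52 : allRange D.relOK 180912 1528 = true := by decide +kernel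
theorem c_rel_53 : allRange D.relOK 182440 1699 = true := by decide +kernel
theorem c_rel_54 : allRange D.relOK 184139 1613 = true := by decide +kernel
theorem c_rel_55 : allRange D.relOK 185752 1528 = true := by decide +kernel
theorem c_rel_56 : allRange D.relOK 187280 1604 = true := by decide +kernel
theorem c_rel_57 : allRange D.relOK 188884 1955 = true := by decide +kernel
theorem c_rel_58 : allRange D.relOK 190839 2041 = true := by decide +kernel
theorem c_rel_59 : allRange D.relOK 192880 1840 = true := by decide +kernel
theorem c_rel_60 : allRange D.relOK 194720 1970 = true := by decide +kernel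
theorem c_rel_61 : allRange D.relOK 196690 1542 = true := by decide +kernel
theorem c_rel_62 : allRange D.relOK 198232 2140 = true := by decide +kernel
theorem c_rel_63 : allRange D.relOK 200372 1746 = true := by decide +kernel
theorem c_rel_64 : allRange D.relOK 202118 1887 = true := by decide +kernel
theorem c_rel_65 : allRange D.relOK 204005 1550 = true := by decide +kernel
theorem c_rel_66 : allRange D.relOK 205555 1574 = true := by decide +kernel
theorem c_rel_67 : allRange D.relOK 207129 1584 = true := by decide +kernel
theorem c_rel_68 : allRange D.relOK 208713 2002 = true := by decide +kernel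
theorem c_rel_69 : allRange D.relOK 210715 1671 = true := by decide +kernel
theorem c_rel_70 : allRange D.relOK 212386 1710 = true := by decide +kernel
theorem c_rel_71 : allRange D.relOK 214096 1590 = true := by decide +kernel
theorem c_rel_72 : allRange D.relOK 215686 1971 = true := by decide +kernel
theorem c_rel_73 : allRange D.relOK 217657 1721 = true := by decide +kernel
theorem c_rel_74 : allRange D.relOK 219378 1416 = true := by decide +kernel
theorem c_rel_75 : allRange D.relOK 220794 1824 = true := by decide +kernel
theorem c_rel_76 : allRange D.relOK 222618 1756 = true := by decide +kernel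
theorem c_rel_77 : allRange D.relOK 224374 1704 = true := by decide +kernel
theorem c_rel_78 : allRange D.relOK 226078 1508 = true := by decide +kernel
theorem c_rel_79 : allRange D.relOK 227586 1623 = true := by decide +kernel
theorem c_rel_80 : allRange D.relOK 229209 1639 = true := by decide +kernel
theorem c_rel_81 : allRange D.relOK 230848 1647 = true := by decide +kernel
theorem c_rel_82 : allRange D.relOK 232495 1666 = true := by decide +kernel
theorem c_rel_83 : allRange D.relOK 234161 1463 = true := by decide +kernel
theorem c_rel_84 : allRange D.relOK 235624 1582 = true := by decide +kernel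

end Cfsg.Agent.Lib.Helper4.TCD.SCo3pp5A
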