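import Cfsg.Agent.Lib.Helper4.TCD_SCo3pp5A_Acc

namespace Cfsg.Agent.Lib.Helper4.TCD.SCo3pp5A

open Cfsg.Agent.Lib.Helper4.TC

set_option maxRecDepth 100000
set_option Elab.async false

theorem c_act44_16 : allRange (fun i => Nat.beq (actR44 i) i) 43632 2727 = true := by decide +kernel
theorem c_act44_17 : allRange (fun i => Nat.beq (actR44 i) i) 46359 2241 = true := by decide +kernel
theorem c_act45_0 : allRange (fun i => Nat.beq (actR45 i) i) 0 2608 = true := by decide +kernel
theorem c_act45_1 : allRange (fun i => Nat.beq (actR45 i) i) 2608 2608 = true := by decide +kernel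
theorem c_act45_2 : allRange (fun i => Nat.beq (actR45 i) i) 5216 2608 = true := by decide +kernel
theorem c_act45_3 : allRange (fun i => Nat.beq (actR45 i) i) 7824 2608 = true := by decide +kernel
theorem c_act45_4 : allRange (fun i => Nat.beq (actR45 i) i) 10432 2608 = true := by decide +kernel
theorem c_act45_5 : allRange (fun i => Nat.beq (actR45 i) i) 13040 2608 = true := by decide +kernel
theorem c_act45_6 : allRange (fun i => Nat.beq (actR45 i) i) 15648 2608 = true := by decide +kernel
theorem c_act45_7 : allRange (fun i => Nat.beq (actR45 i) i) 18256 2608 = true := by decide +kernel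
theorem c_act45_8 : allRange (fun i => Nat.beq (actR45 i) i) 20864 2608 = true := by decide +kernel
theorem c_act45_9 : allRange (fun i => Nat.beq (actR45 i) i) 23472 2608 = true := by decide +kernel
theorem c_act45_10 : allRange (fun i => Nat.beq (actR45 i) i) 26080 2608 = true := by decide +kernel
theorem c_act45_11 : allRange (fun i => Nat.beq (actR45 i) i) 28688 2608 = true := by decide +kernel
theorem c_act45_12 : allRange (fun i => Nat.beq (actR45 i) i) 31296 2608 = true := by decide +kernel
theorem c_act45_13 : allRange (fun i => Nat.beq (actR45 i) i) 33904 2608 = true := by decide +kernel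
theorem c_act45_14 : allRange (fun i => Nat.beq (actR45 i) i) 36512 2608 = true := by decide +kernel
theorem c_act45_15 : allRange (fun i => Nat.beq (actR45 i) i) 39120 2608 = true := by decide +kernel
theorem c_act45_16 : allRange (fun i => Nat.beq (actR45 i) i) 41728 2608 = true := by decide +kernel
theorem c_act45_17 : allRange (fun i => Nat.beq (actR45 i) i) 44336 2608 = true := by decide +kernel
theorem c_act45_18 : allRange (fun i => Nat.beq (actR45 i) i) 46944 1656 = true := by decide +kernel

end Cfsg.Agent.Lib.Helper4.TCD.SCo3pp5A
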