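import Cfsg.Agent.Lib.Helper4.TC7
import Cfsg.Agent.Lib.Helper4.TCP_SHep2
import Cfsg.Agent.Lib.Helper4.TCD_SHep2A_D0
import Cfsg.Agent.Lib.Helper4.TCD_SHep2A_D1
import Cfsg.Agent.Lib.Helper4.TCD_SHep2A_D2
import Cfsg.Agent.Lib.Helper4.TCD_SHep2A_D3
import Cfsg.Agent.Lib.Helper4.TCD_SHep2A_D4
import Cfsg.Agent.Lib.Helper4.TCD_SHep2A_D5
import Cfsg.Agent.Lib.Helper4.TCD_SHep2A_D6
import Cfsg.Agent.Lib.Helper4.TCD_SHep2A_D7
import Cfsg.Agent.Lib.Helper4.TCD_SHep2A_D8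
import Cfsg.Agent.Lib.Helper4.TCD_SHep2A_D9
import Cfsg.Agent.Lib.Helper4.TCD_SHep2A_D10
import Cfsg.Agent.Lib.Helper4.TCD_SHep2A_D11
import Cfsg.Agent.Lib.Helper4.TCD_SHep2A_D12
import Cfsg.Agent.Lib.Helper4.TCD_SHep2A_D13
import Cfsg.Agent.Lib.Helper4.TCD_SHep2A_D14
import Cfsg.Agent.Lib.Helper4.TCD_SHep2A_D15
import Cfsg.Agent.Lib.Helper4.TCD_SHep2A_D16
import Cfsg.Agent.Lib.Helper4.TCD_SHep2A_D17
import Cfsg.Agent.Lib.Helper4.TCD_SHep2A_D18
import Cfsg.Agent.Lib.Helper4.TCD_SHep2A_D19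
import Cfsg.Agent.Lib.Helper4.TCD_SHep2A_D20
import Cfsg.Agent.Lib.Helper4.TCD_SHep2A_D21
import Cfsg.Agent.Lib.Helper4.TCD_SHep2A_D22
import Cfsg.Agent.Lib.Helper4.TCD_SHep2A_D23

namespace Cfsg.Agent.Lib.Helper4.TCD.SHep2A

open Cfsg.Agent.Lib.Helper4.TC

set_option maxRecDepth 100000

noncomputable def Atab_s_1_3 (c : Nat) : Nat := @Bool.rec (fun _ => Nat) (Atab_1) (Atab_2) (Nat.ble 2 c)
noncomputable def Atab_s_0_3 (c : Nat) : Nat := @Bool.rec (fun _ => Nat) (Atab_0) (Atab_s_1_3 c) (Nat.ble 1 c)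
noncomputable def Atab_s_3_5 (c : Nat) : Nat := @Bool.rec (fun _ => Nat) (Atab_3) (Atab_4) (Nat.ble 4 c)
noncomputable def Atab_s_5_7 (c : Nat) : Nat := @Bool.rec (fun _ => Nat) (Atab_5) (Atab_6) (Nat.ble 6 c)
noncomputable def Atab_s_3_7 (c : Nat) : Nat := @Bool.rec (fun _ => Nat) (Atab_s_3_5 c) (Atab_s_5_7 c) (Nat.ble 5 c)
noncomputable def Atab_s_0_7 (c : Nat) : Nat := @Bool.rec (fun _ => Nat) (Atab_s_0_3 c) (Atab_s_3_7 c) (Nat.ble 3 c)
noncomputable def Atab_s_7_9 (c : Nat) : Nat := @Bool.rec (fun _ => Nat) (Atab_7) (Atab_8) (Nat.ble 8 c)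
noncomputable def Atab_s_9_11 (c : Nat) : Nat := @Bool.rec (fun _ => Nat) (Atab_9) (Atab_10) (Nat.ble 10 c)
noncomputable def Atab_s_7_11 (c : Nat) : Nat := @Bool.rec (fun _ => Nat) (Atab_s_7_9 c) (Atab_s_9_11 c) (Nat.ble 9 c)
noncomputable def Atab_s_11_13 (c : Nat) : Nat := @Bool.rec (fun _ => Nat) (Atab_11) (Atab_12) (Nat.ble 12 c)
noncomputable def Atab_s_13_15 (c : Nat) : Nat := @Bool.rec (fun _ => Nat) (Atab_13) (Atab_14) (Nat.ble 14 c)
noncomputable def Atab_s_11_15 (c : Nat) : Nat := @Bool.rec (fun _ => Nat) (Atab_s_11_13 c) (Atab_s_13_15 c) (Nat.ble 13 c)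
noncomputable def Atab_s_7_15 (c : Nat) : Nat := @Bool.rec (fun _ => Nat) (Atab_s_7_11 c) (Atab_s_11_15 c) (Nat.ble 11 c)
noncomputable def Atab_s_0_15 (c : Nat) : Nat := @Bool.rec (fun _ => Nat) (Atab_s_0_7 c) (Atab_s_7_15 c) (Nat.ble 7 c)
noncomputable def Atab_s_16_18 (c : Nat) : Nat := @Bool.rec (fun _ => Nat) (Atab_16) (Atab_17) (Nat.ble 17 c)
noncomputable def Atab_s_15_18 (c : Nat) : Nat := @Bool.rec (fun _ => Nat) (Atab_15) (Atab_s_16_18 c) (Nat.ble 16 c)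
noncomputable def Atab_s_18_20 (c : Nat) : Nat := @Bool.rec (fun _ => Nat) (Atab_18) (Atab_19) (Nat.ble 19 c)
noncomputable def Atab_s_20_22 (c : Nat) : Nat := @Bool.rec (fun _ => Nat) (Atab_20) (Atab_21) (Nat.ble 21 c)
noncomputable def Atab_s_18_22 (c : Nat) : Nat := @Bool.rec (fun _ => Nat) (Atab_s_18_20 c) (Atab_s_20_22 c) (Nat.ble 20 c)
noncomputable def Atab_s_15_22 (c : Nat) : Nat := @Bool.rec (fun _ => Nat) (Atab_s_15_18 c) (Atab_s_18_22 c) (Nat.ble 18 c)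
noncomputable def Atab_s_22_24 (c : Nat) : Nat := @Bool.rec (fun _ => Nat) (Atab_22) (Atab_23) (Nat.ble 23 c)
noncomputable def Atab_s_24_26 (c : Nat) : Nat := @Bool.rec (fun _ => Nat) (Atab_24) (Atab_25) (Nat.ble 25 c)
noncomputable def Atab_s_22_26 (c : Nat) : Nat := @Bool.rec (fun _ => Nat) (Atab_s_22_24 c) (Atab_s_24_26 c) (Nat.ble 24 c)
noncomputable def Atab_s_26_28 (c : Nat) : Nat := @Bool.rec (fun _ => Nat) (Atab_26) (Atab_27) (Nat.ble 27 c)
noncomputable def Atab_s_28_30 (c : Nat) : Nat := @Bool.rec (fun _ => Nat) (Atab_28) (Atab_29) (Nat.ble 29 c)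
noncomputable def Atab_s_26_30 (c : Nat) : Nat := @Bool.rec (fun _ => Nat) (Atab_s_26_28 c) (Atab_s_28_30 c) (Nat.ble 28 c)
noncomputable def Atab_s_22_30 (c : Nat) : Nat := @Bool.rec (fun _ => Nat) (Atab_s_22_26 c) (Atab_s_26_30 c) (Nat.ble 26 c)
noncomputable def Atab_s_15_30 (c : Nat) : Nat := @Bool.rec (fun _ => Nat) (Atab_s_15_22 c) (Atab_s_22_30 c) (Nat.ble 22 c)
noncomputable def Atab_s_0_30 (c : Nat) : Nat := @Bool.rec (fun _ => Nat) (Atab_s_0_15 c) (Atab_s_15_30 c) (Nat.ble 15 c)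
noncomputable def Atab_s_31_33 (c : Nat) : Nat := @Bool.rec (fun _ => Nat) (Atab_31) (Atab_32) (Nat.ble 32 c)
noncomputable def Atab_s_30_33 (c : Nat) : Nat := @Bool.rec (fun _ => Nat) (Atab_30) (Atab_s_31_33 c) (Nat.ble 31 c)
noncomputable def Atab_s_33_35 (c : Nat) : Nat := @Bool.rec (fun _ => Nat) (Atab_33) (Atab_34) (Nat.ble 34 c)
noncomputable def Atab_s_35_37 (c : Nat) : Nat := @Bool.rec (fun _ => Nat) (Atab_35) (Atab_36) (Nat.ble 36 c)
noncomputable def Atab_s_33_37 (c : Nat) : Nat := @Bool.rec (fun _ => Nat) (Atab_s_33_35 c) (Atab_s_35_37 c) (Nat.ble 35 c)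
noncomputable def Atab_s_30_37 (c : Nat) : Nat := @Bool.rec (fun _ => Nat) (Atab_s_30_33 c) (Atab_s_33_37 c) (Nat.ble 33 c)
noncomputable def Atab_s_37_39 (c : Nat) : Nat := @Bool.rec (fun _ => Nat) (Atab_37) (Atab_38) (Nat.ble 38 c)
noncomputable def Atab_s_39_41 (c : Nat) : Nat := @Bool.rec (fun _ => Nat) (Atab_39) (Atab_40) (Nat.ble 40 c)
noncomputable def Atab_s_37_41 (c : Nat) : Nat := @Bool.rec (fun _ => Nat) (Atab_s_37_39 c) (Atab_s_39_41 c) (Nat.ble 39 c)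
noncomputable def Atab_s_41_43 (c : Nat) : Nat := @Bool.rec (fun _ => Nat) (Atab_41) (Atab_42) (Nat.ble 42 c)
noncomputable def Atab_s_43_45 (c : Nat) : Nat := @Bool.rec (fun _ => Nat) (Atab_43) (Atab_44) (Nat.ble 44 c)
noncomputable def Atab_s_41_45 (c : Nat) : Nat := @Bool.rec (fun _ => Nat) (Atab_s_41_43 c) (Atab_s_43_45 c) (Nat.ble 43 c)
noncomputable def Atab_s_37_45 (c : Nat) : Nat := @Bool.rec (fun _ => Nat) (Atab_s_37_41 c) (Atab_s_41_45 c) (Nat.ble 41 c)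
noncomputable def Atab_s_30_45 (c : Nat) : Nat := @Bool.rec (fun _ => Nat) (Atab_s_30_37 c) (Atab_s_37_45 c) (Nat.ble 37 c)
noncomputable def Atab_s_46_48 (c : Nat) : Nat := @Bool.rec (fun _ => Nat) (Atab_46) (Atab_47) (Nat.ble 47 c)
noncomputable def Atab_s_45_48 (c : Nat) : Nat := @Bool.rec (fun _ => Nat) (Atab_45) (Atab_s_46_48 c) (Nat.ble 46 c)
noncomputable def Atab_s_48_50 (c : Nat) : Nat := @Bool.rec (fun _ => Nat) (Atab_48) (Atab_49) (Nat.ble 49 c)
noncomputable def Atab_s_50_52 (c : Nat) : Nat := @Bool.rec (fun _ => Nat) (Atab_50) (Atab_51) (Nat.ble 51 c)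
noncomputable def Atab_s_48_52 (c : Nat) : Nat := @Bool.rec (fun _ => Nat) (Atab_s_48_50 c) (Atab_s_50_52 c) (Nat.ble 50 c)
noncomputable def Atab_s_45_52 (c : Nat) : Nat := @Bool.rec (fun _ => Nat) (Atab_s_45_48 c) (Atab_s_48_52 c) (Nat.ble 48 c)
noncomputable def Atab_s_52_54 (c : Nat) : Nat := @Bool.rec (fun _ => Nat) (Atab_52) (Atab_53) (Nat.ble 53 c)
noncomputable def Atab_s_54_56 (c : Nat) : Nat := @Bool.rec (fun _ => Nat) (Atab_54) (Atab_55) (Nat.ble 55 c)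
noncomputable def Atab_s_52_56 (c : Nat) : Nat := @Bool.rec (fun _ => Nat) (Atab_s_52_54 c) (Atab_s_54_56 c) (Nat.ble 54 c)
noncomputable def Atab_s_56_58 (c : Nat) : Nat := @Bool.rec (fun _ => Nat) (Atab_56) (Atab_57) (Nat.ble 57 c)
noncomputable def Atab_s_58_60 (c : Nat) : Nat := @Bool.rec (fun _ => Nat) (Atab_58) (Atab_59) (Nat.ble 59 c)
noncomputable def Atab_s_56_60 (c : Nat) : Nat := @Bool.rec (fun _ => Nat) (Atab_s_56_58 c) (Atab_s_58_60 c) (Nat.ble 58 c)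
noncomputable def Atab_s_52_60 (c : Nat) : Nat := @Bool.rec (fun _ => Nat) (Atab_s_52_56 c) (Atab_s_56_60 c) (Nat.ble 56 c)
noncomputable def Atab_s_45_60 (c : Nat) : Nat := @Bool.rec (fun _ => Nat) (Atab_s_45_52 c) (Atab_s_52_60 c) (Nat.ble 52 c)
noncomputable def Atab_s_30_60 (c : Nat) : Nat := @Bool.rec (fun _ => Nat) (Atab_s_30_45 c) (Atab_s_45_60 c) (Nat.ble 45 c)
noncomputable def Atab_s_0_60 (c : Nat) : Nat := @Bool.rec (fun _ => Nat) (Atab_s_0_30 c) (Atab_s_30_60 c) (Nat.ble 30 c)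
noncomputable def Atab_s_61_63 (c : Nat) : Nat := @Bool.rec (fun _ => Nat) (Atab_61) (Atab_62) (Nat.ble 62 c)
noncomputable def Atab_s_60_63 (c : Nat) : Nat := @Bool.rec (fun _ => Nat) (Atab_60) (Atab_s_61_63 c) (Nat.ble 61 c)
noncomputable def Atab_s_63_65 (c : Nat) : Nat := @Bool.rec (fun _ => Nat) (Atab_63) (Atab_64) (Nat.ble 64 c)
noncomputable def Atab_s_65_67 (c : Nat) : Nat := @Bool.rec (fun _ => Nat) (Atab_65) (Atab_66) (Nat.ble 66 c)
noncomputable def Atab_s_63_67 (c : Nat) : Nat := @Bool.rec (fun _ => Nat) (Atab_s_63_65 c) (Atab_s_65_67 c) (Nat.ble 65 c)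
noncomputable def Atab_s_60_67 (c : Nat) : Nat := @Bool.rec (fun _ => Nat) (Atab_s_60_63 c) (Atab_s_63_67 c) (Nat.ble 63 c)
noncomputable def Atab_s_67_69 (c : Nat) : Nat := @Bool.rec (fun _ => Nat) (Atab_67) (Atab_68) (Nat.ble 68 c)
noncomputable def Atab_s_69_71 (c : Nat) : Nat := @Bool.rec (fun _ => Nat) (Atab_69) (Atab_70) (Nat.ble 70 c)
noncomputable def Atab_s_67_71 (c : Nat) : Nat := @Bool.rec (fun _ => Nat) (Atab_s_67_69 c) (Atab_s_69_71 c) (Nat.ble 69 c)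
noncomputable def Atab_s_71_73 (c : Nat) : Nat := @Bool.rec (fun _ => Nat) (Atab_71) (Atab_72) (Nat.ble 72 c)
noncomputable def Atab_s_73_75 (c : Nat) : Nat := @Bool.rec (fun _ => Nat) (Atab_73) (Atab_74) (Nat.ble 74 c)
noncomputable def Atab_s_71_75 (c : Nat) : Nat := @Bool.rec (fun _ => Nat) (Atab_s_71_73 c) (Atab_s_73_75 c) (Nat.ble 73 c)
noncomputable def Atab_s_67_75 (c : Nat) : Nat := @Bool.rec (fun _ => Nat) (Atab_s_67_71 c) (Atab_s_71_75 c) (Nat.ble 71 c)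
noncomputable def Atab_s_60_75 (c : Nat) : Nat := @Bool.rec (fun _ => Nat) (Atab_s_60_67 c) (Atab_s_67_75 c) (Nat.ble 67 c)
noncomputable def Atab_s_76_78 (c : Nat) : Nat := @Bool.rec (fun _ => Nat) (Atab_76) (Atab_77) (Nat.ble 77 c)
noncomputable def Atab_s_75_78 (c : Nat) : Nat := @Bool.rec (fun _ => Nat) (Atab_75) (Atab_s_76_78 c) (Nat.ble 76 c)
noncomputable def Atab_s_78_80 (c : Nat) : Nat := @Bool.rec (fun _ => Nat) (Atab_78) (Atab_79) (Nat.ble 79 c)
noncomputable def Atab_s_80_82 (c : Nat) : Nat := @Bool.rec (fun _ => Nat) (Atab_80) (Atab_81) (Nat.ble 81 c)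
noncomputable def Atab_s_78_82 (c : Nat) : Nat := @Bool.rec (fun _ => Nat) (Atab_s_78_80 c) (Atab_s_80_82 c) (Nat.ble 80 c)
noncomputable def Atab_s_75_82 (c : Nat) : Nat := @Bool.rec (fun _ => Nat) (Atab_s_75_78 c) (Atab_s_78_82 c) (Nat.ble 78 c)
noncomputable def Atab_s_82_84 (c : Nat) : Nat := @Bool.rec (fun _ => Nat) (Atab_82) (Atab_83) (Nat.ble 83 c)
noncomputable def Atab_s_84_86 (c : Nat) : Nat := @Bool.rec (fun _ => Nat) (Atab_84) (Atab_85) (Nat.ble 85 c)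
noncomputable def Atab_s_82_86 (c : Nat) : Nat := @Bool.rec (fun _ => Nat) (Atab_s_82_84 c) (Atab_s_84_86 c) (Nat.ble 84 c)
noncomputable def Atab_s_86_88 (c : Nat) : Nat := @Bool.rec (fun _ => Nat) (Atab_86) (Atab_87) (Nat.ble 87 c)
noncomputable def Atab_s_88_90 (c : Nat) : Nat := @Bool.rec (fun _ => Nat) (Atab_88) (Atab_89) (Nat.ble 89 c)
noncomputable def Atab_s_86_90 (c : Nat) : Nat := @Bool.rec (fun _ => Nat) (Atab_s_86_88 c) (Atab_s_88_90 c) (Nat.ble 88 c)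
noncomputable def Atab_s_82_90 (c : Nat) : Nat := @Bool.rec (fun _ => Nat) (Atab_s_82_86 c) (Atab_s_86_90 c) (Nat.ble 86 c)
noncomputable def Atab_s_75_90 (c : Nat) : Nat := @Bool.rec (fun _ => Nat) (Atab_s_75_82 c) (Atab_s_82_90 c) (Nat.ble 82 c)
noncomputable def Atab_s_60_90 (c : Nat) : Nat := @Bool.rec (fun _ => Nat) (Atab_s_60_75 c) (Atab_s_75_90 c) (Nat.ble 75 c)
noncomputable def Atab_s_91_93 (c : Nat) : Nat := @Bool.rec (fun _ => Nat) (Atab_91) (Atab_92) (Nat.ble 92 c)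
noncomputable def Atab_s_90_93 (c : Nat) : Nat := @Bool.rec (fun _ => Nat) (Atab_90) (Atab_s_91_93 c) (Nat.ble 91 c)
noncomputable def Atab_s_93_95 (c : Nat) : Nat := @Bool.rec (fun _ => Nat) (Atab_93) (Atab_94) (Nat.ble 94 c)
noncomputable def Atab_s_95_97 (c : Nat) : Nat := @Bool.rec (fun _ => Nat) (Atab_95) (Atab_96) (Nat.ble 96 c)
noncomputable def Atab_s_93_97 (c : Nat) : Nat := @Bool.rec (fun _ => Nat) (Atab_s_93_95 c) (Atab_s_95_97 c) (Nat.ble 95 c)
noncomputable def Atab_s_90_97 (c : Nat) : Nat := @Bool.rec (fun _ => Nat) (Atab_s_90_93 c) (Atab_s_93_97 c) (Nat.ble 93 c)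
noncomputable def Atab_s_97_99 (c : Nat) : Nat := @Bool.rec (fun _ => Nat) (Atab_97) (Atab_98) (Nat.ble 98 c)
noncomputable def Atab_s_99_101 (c : Nat) : Nat := @Bool.rec (fun _ => Nat) (Atab_99) (Atab_100) (Nat.ble 100 c)
noncomputable def Atab_s_97_101 (c : Nat) : Nat := @Bool.rec (fun _ => Nat) (Atab_s_97_99 c) (Atab_s_99_101 c) (Nat.ble 99 c)
noncomputable def Atab_s_101_103 (c : Nat) : Nat := @Bool.rec (fun _ => Nat) (Atab_101) (Atab_102) (Nat.ble 102 c)
noncomputable def Atab_s_103_105 (c : Nat) : Nat := @Bool.rec (fun _ => Nat) (Atab_103) (Atab_104) (Nat.ble 104 c)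
noncomputable def Atab_s_101_105 (c : Nat) : Nat := @Bool.rec (fun _ => Nat) (Atab_s_101_103 c) (Atab_s_103_105 c) (Nat.ble 103 c)
noncomputable def Atab_s_97_105 (c : Nat) : Nat := @Bool.rec (fun _ => Nat) (Atab_s_97_101 c) (Atab_s_101_105 c) (Nat.ble 101 c)
noncomputable def Atab_s_90_105 (c : Nat) : Nat := @Bool.rec (fun _ => Nat) (Atab_s_90_97 c) (Atab_s_97_105 c) (Nat.ble 97 c)
noncomputable def Atab_s_105_107 (c : Nat) : Nat := @Bool.rec (fun _ => Nat) (Atab_105) (Atab_106) (Nat.ble 106 c)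
noncomputable def Atab_s_107_109 (c : Nat) : Nat := @Bool.rec (fun _ => Nat) (Atab_107) (Atab_108) (Nat.ble 108 c)
noncomputable def Atab_s_105_109 (c : Nat) : Nat := @Bool.rec (fun _ => Nat) (Atab_s_105_107 c) (Atab_s_107_109 c) (Nat.ble 107 c)
noncomputable def Atab_s_109_111 (c : Nat) : Nat := @Bool.rec (fun _ => Nat) (Atab_109) (Atab_110) (Nat.ble 110 c)
noncomputable def Atab_s_111_113 (c : Nat) : Nat := @Bool.rec (fun _ => Nat) (Atab_111) (Atab_112) (Nat.ble 112 c)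
noncomputable def Atab_s_109_113 (c : Nat) : Nat := @Bool.rec (fun _ => Nat) (Atab_s_109_111 c) (Atab_s_111_113 c) (Nat.ble 111 c)
noncomputable def Atab_s_105_113 (c : Nat) : Nat := @Bool.rec (fun _ => Nat) (Atab_s_105_109 c) (Atab_s_109_113 c) (Nat.ble 109 c)
noncomputable def Atab_s_113_115 (c : Nat) : Nat := @Bool.rec (fun _ => Nat) (Atab_113) (Atab_114) (Nat.ble 114 c)
noncomputable def Atab_s_115_117 (c : Nat) : Nat := @Bool.rec (fun _ => Nat) (Atab_115) (Atab_116) (Nat.ble 116 c)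
noncomputable def Atab_s_113_117 (c : Nat) : Nat := @Bool.rec (fun _ => Nat) (Atab_s_113_115 c) (Atab_s_115_117 c) (Nat.ble 115 c)
noncomputable def Atab_s_117_119 (c : Nat) : Nat := @Bool.rec (fun _ => Nat) (Atab_117) (Atab_118) (Nat.ble 118 c)
noncomputable def Atab_s_119_121 (c : Nat) : Nat := @Bool.rec (fun _ => Nat) (Atab_119) (Atab_120) (Nat.ble 120 c)
noncomputable def Atab_s_117_121 (c : Nat) : Nat := @Bool.rec (fun _ => Nat) (Atab_s_117_119 c) (Atab_s_119_121 c) (Nat.ble 119 c)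
noncomputable def Atab_s_113_121 (c : Nat) : Nat := @Bool.rec (fun _ => Nat) (Atab_s_113_117 c) (Atab_s_117_121 c) (Nat.ble 117 c)
noncomputable def Atab_s_105_121 (c : Nat) : Nat := @Bool.rec (fun _ => Nat) (Atab_s_105_113 c) (Atab_s_113_121 c) (Nat.ble 113 c)
noncomputable def Atab_s_90_121 (c : Nat) : Nat := @Bool.rec (fun _ => Nat) (Atab_s_90_105 c) (Atab_s_105_121 c) (Nat.ble 105 c)
noncomputable def Atab_s_60_121 (c : Nat) : Nat := @Bool.rec (fun _ => Nat) (Atab_s_60_90 c) (Atab_s_90_121 c) (Nat.ble 90 c)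
noncomputable def Atab_s_0_121 (c : Nat) : Nat := @Bool.rec (fun _ => Nat) (Atab_s_0_60 c) (Atab_s_60_121 c) (Nat.ble 60 c)
noncomputable def Atab_s_122_124 (c : Nat) : Nat := @Bool.rec (fun _ => Nat) (Atab_122) (Atab_123) (Nat.ble 123 c)
noncomputable def Atab_s_121_124 (c : Nat) : Nat := @Bool.rec (fun _ => Nat) (Atab_121) (Atab_s_122_124 c) (Nat.ble 122 c)
noncomputable def Atab_s_124_126 (c : Nat) : Nat := @Bool.rec (fun _ => Nat) (Atab_124) (Atab_125) (Nat.ble 125 c)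
noncomputable def Atab_s_126_128 (c : Nat) : Nat := @Bool.rec (fun _ => Nat) (Atab_126) (Atab_127) (Nat.ble 127 c)
noncomputable def Atab_s_124_128 (c : Nat) : Nat := @Bool.rec (fun _ => Nat) (Atab_s_124_126 c) (Atab_s_126_128 c) (Nat.ble 126 c)
noncomputable def Atab_s_121_128 (c : Nat) : Nat := @Bool.rec (fun _ => Nat) (Atab_s_121_124 c) (Atab_s_124_128 c) (Nat.ble 124 c)
noncomputable def Atab_s_128_130 (c : Nat) : Nat := @Bool.rec (fun _ => Nat) (Atab_128) (Atab_129) (Nat.ble 129 c)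
noncomputable def Atab_s_130_132 (c : Nat) : Nat := @Bool.rec (fun _ => Nat) (Atab_130) (Atab_131) (Nat.ble 131 c)
noncomputable def Atab_s_128_132 (c : Nat) : Nat := @Bool.rec (fun _ => Nat) (Atab_s_128_130 c) (Atab_s_130_132 c) (Nat.ble 130 c)
noncomputable def Atab_s_132_134 (c : Nat) : Nat := @Bool.rec (fun _ => Nat) (Atab_132) (Atab_133) (Nat.ble 133 c)
noncomputable def Atab_s_134_136 (c : Nat) : Nat := @Bool.rec (fun _ => Nat) (Atab_134) (Atab_135) (Nat.ble 135 c)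
noncomputable def Atab_s_132_136 (c : Nat) : Nat := @Bool.rec (fun _ => Nat) (Atab_s_132_134 c) (Atab_s_134_136 c) (Nat.ble 134 c)
noncomputable def Atab_s_128_136 (c : Nat) : Nat := @Bool.rec (fun _ => Nat) (Atab_s_128_132 c) (Atab_s_132_136 c) (Nat.ble 132 c)
noncomputable def Atab_s_121_136 (c : Nat) : Nat := @Bool.rec (fun _ => Nat) (Atab_s_121_128 c) (Atab_s_128_136 c) (Nat.ble 128 c)
noncomputable def Atab_s_137_139 (c : Nat) : Nat := @Bool.rec (fun _ => Nat) (Atab_137) (Atab_138) (Nat.ble 138 c)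
noncomputable def Atab_s_136_139 (c : Nat) : Nat := @Bool.rec (fun _ => Nat) (Atab_136) (Atab_s_137_139 c) (Nat.ble 137 c)
noncomputable def Atab_s_139_141 (c : Nat) : Nat := @Bool.rec (fun _ => Nat) (Atab_139) (Atab_140) (Nat.ble 140 c)
noncomputable def Atab_s_141_143 (c : Nat) : Nat := @Bool.rec (fun _ => Nat) (Atab_141) (Atab_142) (Nat.ble 142 c)
noncomputable def Atab_s_139_143 (c : Nat) : Nat := @Bool.rec (fun _ => Nat) (Atab_s_139_141 c) (Atab_s_141_143 c) (Nat.ble 141 c)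
noncomputable def Atab_s_136_143 (c : Nat) : Nat := @Bool.rec (fun _ => Nat) (Atab_s_136_139 c) (Atab_s_139_143 c) (Nat.ble 139 c)
noncomputable def Atab_s_143_145 (c : Nat) : Nat := @Bool.rec (fun _ => Nat) (Atab_143) (Atab_144) (Nat.ble 144 c)
noncomputable def Atab_s_145_147 (c : Nat) : Nat := @Bool.rec (fun _ => Nat) (Atab_145) (Atab_146) (Nat.ble 146 c)
noncomputable def Atab_s_143_147 (c : Nat) : Nat := @Bool.rec (fun _ => Nat) (Atab_s_143_145 c) (Atab_s_145_147 c) (Nat.ble 145 c)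
noncomputable def Atab_s_147_149 (c : Nat) : Nat := @Bool.rec (fun _ => Nat) (Atab_147) (Atab_148) (Nat.ble 148 c)
noncomputable def Atab_s_149_151 (c : Nat) : Nat := @Bool.rec (fun _ => Nat) (Atab_149) (Atab_150) (Nat.ble 150 c)
noncomputable def Atab_s_147_151 (c : Nat) : Nat := @Bool.rec (fun _ => Nat) (Atab_s_147_149 c) (Atab_s_149_151 c) (Nat.ble 149 c)
noncomputable def Atab_s_143_151 (c : Nat) : Nat := @Bool.rec (fun _ => Nat) (Atab_s_143_147 c) (Atab_s_147_151 c) (Nat.ble 147 c)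
noncomputable def Atab_s_136_151 (c : Nat) : Nat := @Bool.rec (fun _ => Nat) (Atab_s_136_143 c) (Atab_s_143_151 c) (Nat.ble 143 c)
noncomputable def Atab_s_121_151 (c : Nat) : Nat := @Bool.rec (fun _ => Nat) (Atab_s_121_136 c) (Atab_s_136_151 c) (Nat.ble 136 c)
noncomputable def Atab_s_152_154 (c : Nat) : Nat := @Bool.rec (fun _ => Nat) (Atab_152) (Atab_153) (Nat.ble 153 c)
noncomputable def Atab_s_151_154 (c : Nat) : Nat := @Bool.rec (fun _ => Nat) (Atab_151) (Atab_s_152_154 c) (Nat.ble 152 c)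
noncomputable def Atab_s_154_156 (c : Nat) : Nat := @Bool.rec (fun _ => Nat) (Atab_154) (Atab_155) (Nat.ble 155 c)
noncomputable def Atab_s_156_158 (c : Nat) : Nat := @Bool.rec (fun _ => Nat) (Atab_156) (Atab_157) (Nat.ble 157 c)
noncomputable def Atab_s_154_158 (c : Nat) : Nat := @Bool.rec (fun _ => Nat) (Atab_s_154_156 c) (Atab_s_156_158 c) (Nat.ble 156 c)
noncomputable def Atab_s_151_158 (c : Nat) : Nat := @Bool.rec (fun _ => Nat) (Atab_s_151_154 c) (Atab_s_154_158 c) (Nat.ble 154 c)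
noncomputable def Atab_s_158_160 (c : Nat) : Nat := @Bool.rec (fun _ => Nat) (Atab_158) (Atab_159) (Nat.ble 159 c)
noncomputable def Atab_s_160_162 (c : Nat) : Nat := @Bool.rec (fun _ => Nat) (Atab_160) (Atab_161) (Nat.ble 161 c)
noncomputable def Atab_s_158_162 (c : Nat) : Nat := @Bool.rec (fun _ => Nat) (Atab_s_158_160 c) (Atab_s_160_162 c) (Nat.ble 160 c)
noncomputable def Atab_s_162_164 (c : Nat) : Nat := @Bool.rec (fun _ => Nat) (Atab_162) (Atab_163) (Nat.ble 163 c)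
noncomputable def Atab_s_164_166 (c : Nat) : Nat := @Bool.rec (fun _ => Nat) (Atab_164) (Atab_165) (Nat.ble 165 c)
noncomputable def Atab_s_162_166 (c : Nat) : Nat := @Bool.rec (fun _ => Nat) (Atab_s_162_164 c) (Atab_s_164_166 c) (Nat.ble 164 c)
noncomputable def Atab_s_158_166 (c : Nat) : Nat := @Bool.rec (fun _ => Nat) (Atab_s_158_162 c) (Atab_s_162_166 c) (Nat.ble 162 c)
noncomputable def Atab_s_151_166 (c : Nat) : Nat := @Bool.rec (fun _ => Nat) (Atab_s_151_158 c) (Atab_s_158_166 c) (Nat.ble 158 c)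
noncomputable def Atab_s_166_168 (c : Nat) : Nat := @Bool.rec (fun _ => Nat) (Atab_166) (Atab_167) (Nat.ble 167 c)
noncomputable def Atab_s_168_170 (c : Nat) : Nat := @Bool.rec (fun _ => Nat) (Atab_168) (Atab_169) (Nat.ble 169 c)
noncomputable def Atab_s_166_170 (c : Nat) : Nat := @Bool.rec (fun _ => Nat) (Atab_s_166_168 c) (Atab_s_168_170 c) (Nat.ble 168 c)
noncomputable def Atab_s_170_172 (c : Nat) : Nat := @Bool.rec (fun _ => Nat) (Atab_170) (Atab_171) (Nat.ble 171 c)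
noncomputable def Atab_s_172_174 (c : Nat) : Nat := @Bool.rec (fun _ => Nat) (Atab_172) (Atab_173) (Nat.ble 173 c)
noncomputable def Atab_s_170_174 (c : Nat) : Nat := @Bool.rec (fun _ => Nat) (Atab_s_170_172 c) (Atab_s_172_174 c) (Nat.ble 172 c)
noncomputable def Atab_s_166_174 (c : Nat) : Nat := @Bool.rec (fun _ => Nat) (Atab_s_166_170 c) (Atab_s_170_174 c) (Nat.ble 170 c)
noncomputable def Atab_s_174_176 (c : Nat) : Nat := @Bool.rec (fun _ => Nat) (Atab_174) (Atab_175) (Nat.ble 175 c)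
noncomputable def Atab_s_176_178 (c : Nat) : Nat := @Bool.rec (fun _ => Nat) (Atab_176) (Atab_177) (Nat.ble 177 c)
noncomputable def Atab_s_174_178 (c : Nat) : Nat := @Bool.rec (fun _ => Nat) (Atab_s_174_176 c) (Atab_s_176_178 c) (Nat.ble 176 c)
noncomputable def Atab_s_178_180 (c : Nat) : Nat := @Bool.rec (fun _ => Nat) (Atab_178) (Atab_179) (Nat.ble 179 c)
noncomputable def Atab_s_180_182 (c : Nat) : Nat := @Bool.rec (fun _ => Nat) (Atab_180) (Atab_181) (Nat.ble 181 c)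
noncomputable def Atab_s_178_182 (c : Nat) : Nat := @Bool.rec (fun _ => Nat) (Atab_s_178_180 c) (Atab_s_180_182 c) (Nat.ble 180 c)
noncomputable def Atab_s_174_182 (c : Nat) : Nat := @Bool.rec (fun _ => Nat) (Atab_s_174_178 c) (Atab_s_178_182 c) (Nat.ble 178 c)
noncomputable def Atab_s_166_182 (c : Nat) : Nat := @Bool.rec (fun _ => Nat) (Atab_s_166_174 c) (Atab_s_174_182 c) (Nat.ble 174 c)
noncomputable def Atab_s_151_182 (c : Nat) : Nat := @Bool.rec (fun _ => Nat) (Atab_s_151_166 c) (Atab_s_166_182 c) (Nat.ble 166 c)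
noncomputable def Atab_s_121_182 (c : Nat) : Nat := @Bool.rec (fun _ => Nat) (Atab_s_121_151 c) (Atab_s_151_182 c) (Nat.ble 151 c)
noncomputable def Atab_s_183_185 (c : Nat) : Nat := @Bool.rec (fun _ => Nat) (Atab_183) (Atab_184) (Nat.ble 184 c)
noncomputable def Atab_s_182_185 (c : Nat) : Nat := @Bool.rec (fun _ => Nat) (Atab_182) (Atab_s_183_185 c) (Nat.ble 183 c)
noncomputable def Atab_s_185_187 (c : Nat) : Nat := @Bool.rec (fun _ => Nat) (Atab_185) (Atab_186) (Nat.ble 186 c)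
noncomputable def Atab_s_187_189 (c : Nat) : Nat := @Bool.rec (fun _ => Nat) (Atab_187) (Atab_188) (Nat.ble 188 c)
noncomputable def Atab_s_185_189 (c : Nat) : Nat := @Bool.rec (fun _ => Nat) (Atab_s_185_187 c) (Atab_s_187_189 c) (Nat.ble 187 c)
noncomputable def Atab_s_182_189 (c : Nat) : Nat := @Bool.rec (fun _ => Nat) (Atab_s_182_185 c) (Atab_s_185_189 c) (Nat.ble 185 c)
noncomputable def Atab_s_189_191 (c : Nat) : Nat := @Bool.rec (fun _ => Nat) (Atab_189) (Atab_190) (Nat.ble 190 c)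
noncomputable def Atab_s_191_193 (c : Nat) : Nat := @Bool.rec (fun _ => Nat) (Atab_191) (Atab_192) (Nat.ble 192 c)
noncomputable def Atab_s_189_193 (c : Nat) : Nat := @Bool.rec (fun _ => Nat) (Atab_s_189_191 c) (Atab_s_191_193 c) (Nat.ble 191 c)
noncomputable def Atab_s_193_195 (c : Nat) : Nat := @Bool.rec (fun _ => Nat) (Atab_193) (Atab_194) (Nat.ble 194 c)
noncomputable def Atab_s_195_197 (c : Nat) : Nat := @Bool.rec (fun _ => Nat) (Atab_195) (Atab_196) (Nat.ble 196 c)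
noncomputable def Atab_s_193_197 (c : Nat) : Nat := @Bool.rec (fun _ => Nat) (Atab_s_193_195 c) (Atab_s_195_197 c) (Nat.ble 195 c)
noncomputable def Atab_s_189_197 (c : Nat) : Nat := @Bool.rec (fun _ => Nat) (Atab_s_189_193 c) (Atab_s_193_197 c) (Nat.ble 193 c)
noncomputable def Atab_s_182_197 (c : Nat) : Nat := @Bool.rec (fun _ => Nat) (Atab_s_182_189 c) (Atab_s_189_197 c) (Nat.ble 189 c)
noncomputable def Atab_s_198_200 (c : Nat) : Nat := @Bool.rec (fun _ => Nat) (Atab_198) (Atab_199) (Nat.ble 199 c)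
noncomputable def Atab_s_197_200 (c : Nat) : Nat := @Bool.rec (fun _ => Nat) (Atab_197) (Atab_s_198_200 c) (Nat.ble 198 c)
noncomputable def Atab_s_200_202 (c : Nat) : Nat := @Bool.rec (fun _ => Nat) (Atab_200) (Atab_201) (Nat.ble 201 c)
noncomputable def Atab_s_202_204 (c : Nat) : Nat := @Bool.rec (fun _ => Nat) (Atab_202) (Atab_203) (Nat.ble 203 c)
noncomputable def Atab_s_200_204 (c : Nat) : Nat := @Bool.rec (fun _ => Nat) (Atab_s_200_202 c) (Atab_s_202_204 c) (Nat.ble 202 c)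
noncomputable def Atab_s_197_204 (c : Nat) : Nat := @Bool.rec (fun _ => Nat) (Atab_s_197_200 c) (Atab_s_200_204 c) (Nat.ble 200 c)
noncomputable def Atab_s_204_206 (c : Nat) : Nat := @Bool.rec (fun _ => Nat) (Atab_204) (Atab_205) (Nat.ble 205 c)
noncomputable def Atab_s_206_208 (c : Nat) : Nat := @Bool.rec (fun _ => Nat) (Atab_206) (Atab_207) (Nat.ble 207 c)
noncomputable def Atab_s_204_208 (c : Nat) : Nat := @Bool.rec (fun _ => Nat) (Atab_s_204_206 c) (Atab_s_206_208 c) (Nat.ble 206 c)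
noncomputable def Atab_s_208_210 (c : Nat) : Nat := @Bool.rec (fun _ => Nat) (Atab_208) (Atab_209) (Nat.ble 209 c)
noncomputable def Atab_s_210_212 (c : Nat) : Nat := @Bool.rec (fun _ => Nat) (Atab_210) (Atab_211) (Nat.ble 211 c)
noncomputable def Atab_s_208_212 (c : Nat) : Nat := @Bool.rec (fun _ => Nat) (Atab_s_208_210 c) (Atab_s_210_212 c) (Nat.ble 210 c)
noncomputable def Atab_s_204_212 (c : Nat) : Nat := @Bool.rec (fun _ => Nat) (Atab_s_204_208 c) (Atab_s_208_212 c) (Nat.ble 208 c)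
noncomputable def Atab_s_197_212 (c : Nat) : Nat := @Bool.rec (fun _ => Nat) (Atab_s_197_204 c) (Atab_s_204_212 c) (Nat.ble 204 c)
noncomputable def Atab_s_182_212 (c : Nat) : Nat := @Bool.rec (fun _ => Nat) (Atab_s_182_197 c) (Atab_s_197_212 c) (Nat.ble 197 c)
noncomputable def Atab_s_213_215 (c : Nat) : Nat := @Bool.rec (fun _ => Nat) (Atab_213) (Atab_214) (Nat.ble 214 c)
noncomputable def Atab_s_212_215 (c : Nat) : Nat := @Bool.rec (fun _ => Nat) (Atab_212) (Atab_s_213_215 c) (Nat.ble 213 c)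
noncomputable def Atab_s_215_217 (c : Nat) : Nat := @Bool.rec (fun _ => Nat) (Atab_215) (Atab_216) (Nat.ble 216 c)
noncomputable def Atab_s_217_219 (c : Nat) : Nat := @Bool.rec (fun _ => Nat) (Atab_217) (Atab_218) (Nat.ble 218 c)
noncomputable def Atab_s_215_219 (c : Nat) : Nat := @Bool.rec (fun _ => Nat) (Atab_s_215_217 c) (Atab_s_217_219 c) (Nat.ble 217 c)
noncomputable def Atab_s_212_219 (c : Nat) : Nat := @Bool.rec (fun _ => Nat) (Atab_s_212_215 c) (Atab_s_215_219 c) (Nat.ble 215 c)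
noncomputable def Atab_s_219_221 (c : Nat) : Nat := @Bool.rec (fun _ => Nat) (Atab_219) (Atab_220) (Nat.ble 220 c)
noncomputable def Atab_s_221_223 (c : Nat) : Nat := @Bool.rec (fun _ => Nat) (Atab_221) (Atab_222) (Nat.ble 222 c)
noncomputable def Atab_s_219_223 (c : Nat) : Nat := @Bool.rec (fun _ => Nat) (Atab_s_219_221 c) (Atab_s_221_223 c) (Nat.ble 221 c)
noncomputable def Atab_s_223_225 (c : Nat) : Nat := @Bool.rec (fun _ => Nat) (Atab_223) (Atab_224) (Nat.ble 224 c)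
noncomputable def Atab_s_225_227 (c : Nat) : Nat := @Bool.rec (fun _ => Nat) (Atab_225) (Atab_226) (Nat.ble 226 c)
noncomputable def Atab_s_223_227 (c : Nat) : Nat := @Bool.rec (fun _ => Nat) (Atab_s_223_225 c) (Atab_s_225_227 c) (Nat.ble 225 c)
noncomputable def Atab_s_219_227 (c : Nat) : Nat := @Bool.rec (fun _ => Nat) (Atab_s_219_223 c) (Atab_s_223_227 c) (Nat.ble 223 c)
noncomputable def Atab_s_212_227 (c : Nat) : Nat := @Bool.rec (fun _ => Nat) (Atab_s_212_219 c) (Atab_s_219_227 c) (Nat.ble 219 c)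
noncomputable def Atab_s_227_229 (c : Nat) : Nat := @Bool.rec (fun _ => Nat) (Atab_227) (Atab_228) (Nat.ble 228 c)
noncomputable def Atab_s_229_231 (c : Nat) : Nat := @Bool.rec (fun _ => Nat) (Atab_229) (Atab_230) (Nat.ble 230 c)
noncomputable def Atab_s_227_231 (c : Nat) : Nat := @Bool.rec (fun _ => Nat) (Atab_s_227_229 c) (Atab_s_229_231 c) (Nat.ble 229 c)
noncomputable def Atab_s_231_233 (c : Nat) : Nat := @Bool.rec (fun _ => Nat) (Atab_231) (Atab_232) (Nat.ble 232 c)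
noncomputable def Atab_s_233_235 (c : Nat) : Nat := @Bool.rec (fun _ => Nat) (Atab_233) (Atab_234) (Nat.ble 234 c)
noncomputable def Atab_s_231_235 (c : Nat) : Nat := @Bool.rec (fun _ => Nat) (Atab_s_231_233 c) (Atab_s_233_235 c) (Nat.ble 233 c)
noncomputable def Atab_s_227_235 (c : Nat) : Nat := @Bool.rec (fun _ => Nat) (Atab_s_227_231 c) (Atab_s_231_235 c) (Nat.ble 231 c)
noncomputable def Atab_s_235_237 (c : Nat) : Nat := @Bool.rec (fun _ => Nat) (Atab_235) (Atab_236) (Nat.ble 236 c)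
noncomputable def Atab_s_237_239 (c : Nat) : Nat := @Bool.rec (fun _ => Nat) (Atab_237) (Atab_238) (Nat.ble 238 c)
noncomputable def Atab_s_235_239 (c : Nat) : Nat := @Bool.rec (fun _ => Nat) (Atab_s_235_237 c) (Atab_s_237_239 c) (Nat.ble 237 c)
noncomputable def Atab_s_239_241 (c : Nat) : Nat := @Bool.rec (fun _ => Nat) (Atab_239) (Atab_240) (Nat.ble 240 c)
noncomputable def Atab_s_241_243 (c : Nat) : Nat := @Bool.rec (fun _ => Nat) (Atab_241) (Atab_242) (Nat.ble 242 c)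
noncomputable def Atab_s_239_243 (c : Nat) : Nat := @Bool.rec (fun _ => Nat) (Atab_s_239_241 c) (Atab_s_241_243 c) (Nat.ble 241 c)
noncomputable def Atab_s_235_243 (c : Nat) : Nat := @Bool.rec (fun _ => Nat) (Atab_s_235_239 c) (Atab_s_239_243 c) (Nat.ble 239 c)
noncomputable def Atab_s_227_243 (c : Nat) : Nat := @Bool.rec (fun _ => Nat) (Atab_s_227_235 c) (Atab_s_235_243 c) (Nat.ble 235 c)
noncomputable def Atab_s_212_243 (c : Nat) : Nat := @Bool.rec (fun _ => Nat) (Atab_s_212_227 c) (Atab_s_227_243 c) (Nat.ble 227 c)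
noncomputable def Atab_s_182_243 (c : Nat) : Nat := @Bool.rec (fun _ => Nat) (Atab_s_182_212 c) (Atab_s_212_243 c) (Nat.ble 212 c)
noncomputable def Atab_s_121_243 (c : Nat) : Nat := @Bool.rec (fun _ => Nat) (Atab_s_121_182 c) (Atab_s_182_243 c) (Nat.ble 182 c)
noncomputable def Atab_s_0_243 (c : Nat) : Nat := @Bool.rec (fun _ => Nat) (Atab_s_0_121 c) (Atab_s_121_243 c) (Nat.ble 121 c)
noncomputable def Atab_s_244_246 (c : Nat) : Nat := @Bool.rec (fun _ => Nat) (Atab_244) (Atab_245) (Nat.ble 245 c)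
noncomputable def Atab_s_243_246 (c : Nat) : Nat := @Bool.rec (fun _ => Nat) (Atab_243) (Atab_s_244_246 c) (Nat.ble 244 c)
noncomputable def Atab_s_246_248 (c : Nat) : Nat := @Bool.rec (fun _ => Nat) (Atab_246) (Atab_247) (Nat.ble 247 c)
noncomputable def Atab_s_248_250 (c : Nat) : Nat := @Bool.rec (fun _ => Nat) (Atab_248) (Atab_249) (Nat.ble 249 c)
noncomputable def Atab_s_246_250 (c : Nat) : Nat := @Bool.rec (fun _ => Nat) (Atab_s_246_248 c) (Atab_s_248_250 c) (Nat.ble 248 c)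
noncomputable def Atab_s_243_250 (c : Nat) : Nat := @Bool.rec (fun _ => Nat) (Atab_s_243_246 c) (Atab_s_246_250 c) (Nat.ble 246 c)
noncomputable def Atab_s_250_252 (c : Nat) : Nat := @Bool.rec (fun _ => Nat) (Atab_250) (Atab_251) (Nat.ble 251 c)
noncomputable def Atab_s_252_254 (c : Nat) : Nat := @Bool.rec (fun _ => Nat) (Atab_252) (Atab_253) (Nat.ble 253 c)
noncomputable def Atab_s_250_254 (c : Nat) : Nat := @Bool.rec (fun _ => Nat) (Atab_s_250_252 c) (Atab_s_252_254 c) (Nat.ble 252 c)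
noncomputable def Atab_s_254_256 (c : Nat) : Nat := @Bool.rec (fun _ => Nat) (Atab_254) (Atab_255) (Nat.ble 255 c)
noncomputable def Atab_s_256_258 (c : Nat) : Nat := @Bool.rec (fun _ => Nat) (Atab_256) (Atab_257) (Nat.ble 257 c)
noncomputable def Atab_s_254_258 (c : Nat) : Nat := @Bool.rec (fun _ => Nat) (Atab_s_254_256 c) (Atab_s_256_258 c) (Nat.ble 256 c)
noncomputable def Atab_s_250_258 (c : Nat) : Nat := @Bool.rec (fun _ => Nat) (Atab_s_250_254 c) (Atab_s_254_258 c) (Nat.ble 254 c)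
noncomputable def Atab_s_243_258 (c : Nat) : Nat := @Bool.rec (fun _ => Nat) (Atab_s_243_250 c) (Atab_s_250_258 c) (Nat.ble 250 c)
noncomputable def Atab_s_259_261 (c : Nat) : Nat := @Bool.rec (fun _ => Nat) (Atab_259) (Atab_260) (Nat.ble 260 c)
noncomputable def Atab_s_258_261 (c : Nat) : Nat := @Bool.rec (fun _ => Nat) (Atab_258) (Atab_s_259_261 c) (Nat.ble 259 c)
noncomputable def Atab_s_261_263 (c : Nat) : Nat := @Bool.rec (fun _ => Nat) (Atab_261) (Atab_262) (Nat.ble 262 c)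
noncomputable def Atab_s_263_265 (c : Nat) : Nat := @Bool.rec (fun _ => Nat) (Atab_263) (Atab_264) (Nat.ble 264 c)
noncomputable def Atab_s_261_265 (c : Nat) : Nat := @Bool.rec (fun _ => Nat) (Atab_s_261_263 c) (Atab_s_263_265 c) (Nat.ble 263 c)
noncomputable def Atab_s_258_265 (c : Nat) : Nat := @Bool.rec (fun _ => Nat) (Atab_s_258_261 c) (Atab_s_261_265 c) (Nat.ble 261 c)
noncomputable def Atab_s_265_267 (c : Nat) : Nat := @Bool.rec (fun _ => Nat) (Atab_265) (Atab_266) (Nat.ble 266 c)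
noncomputable def Atab_s_267_269 (c : Nat) : Nat := @Bool.rec (fun _ => Nat) (Atab_267) (Atab_268) (Nat.ble 268 c)
noncomputable def Atab_s_265_269 (c : Nat) : Nat := @Bool.rec (fun _ => Nat) (Atab_s_265_267 c) (Atab_s_267_269 c) (Nat.ble 267 c)
noncomputable def Atab_s_269_271 (c : Nat) : Nat := @Bool.rec (fun _ => Nat) (Atab_269) (Atab_270) (Nat.ble 270 c)
noncomputable def Atab_s_271_273 (c : Nat) : Nat := @Bool.rec (fun _ => Nat) (Atab_271) (Atab_272) (Nat.ble 272 c)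
noncomputable def Atab_s_269_273 (c : Nat) : Nat := @Bool.rec (fun _ => Nat) (Atab_s_269_271 c) (Atab_s_271_273 c) (Nat.ble 271 c)
noncomputable def Atab_s_265_273 (c : Nat) : Nat := @Bool.rec (fun _ => Nat) (Atab_s_265_269 c) (Atab_s_269_273 c) (Nat.ble 269 c)
noncomputable def Atab_s_258_273 (c : Nat) : Nat := @Bool.rec (fun _ => Nat) (Atab_s_258_265 c) (Atab_s_265_273 c) (Nat.ble 265 c)
noncomputable def Atab_s_243_273 (c : Nat) : Nat := @Bool.rec (fun _ => Nat) (Atab_s_243_258 c) (Atab_s_258_273 c) (Nat.ble 258 c)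
noncomputable def Atab_s_274_276 (c : Nat) : Nat := @Bool.rec (fun _ => Nat) (Atab_274) (Atab_275) (Nat.ble 275 c)
noncomputable def Atab_s_273_276 (c : Nat) : Nat := @Bool.rec (fun _ => Nat) (Atab_273) (Atab_s_274_276 c) (Nat.ble 274 c)
noncomputable def Atab_s_276_278 (c : Nat) : Nat := @Bool.rec (fun _ => Nat) (Atab_276) (Atab_277) (Nat.ble 277 c)
noncomputable def Atab_s_278_280 (c : Nat) : Nat := @Bool.rec (fun _ => Nat) (Atab_278) (Atab_279) (Nat.ble 279 c)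
noncomputable def Atab_s_276_280 (c : Nat) : Nat := @Bool.rec (fun _ => Nat) (Atab_s_276_278 c) (Atab_s_278_280 c) (Nat.ble 278 c)
noncomputable def Atab_s_273_280 (c : Nat) : Nat := @Bool.rec (fun _ => Nat) (Atab_s_273_276 c) (Atab_s_276_280 c) (Nat.ble 276 c)
noncomputable def Atab_s_280_282 (c : Nat) : Nat := @Bool.rec (fun _ => Nat) (Atab_280) (Atab_281) (Nat.ble 281 c)
noncomputable def Atab_s_282_284 (c : Nat) : Nat := @Bool.rec (fun _ => Nat) (Atab_282) (Atab_283) (Nat.ble 283 c)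
noncomputable def Atab_s_280_284 (c : Nat) : Nat := @Bool.rec (fun _ => Nat) (Atab_s_280_282 c) (Atab_s_282_284 c) (Nat.ble 282 c)
noncomputable def Atab_s_284_286 (c : Nat) : Nat := @Bool.rec (fun _ => Nat) (Atab_284) (Atab_285) (Nat.ble 285 c)
noncomputable def Atab_s_286_288 (c : Nat) : Nat := @Bool.rec (fun _ => Nat) (Atab_286) (Atab_287) (Nat.ble 287 c)
noncomputable def Atab_s_284_288 (c : Nat) : Nat := @Bool.rec (fun _ => Nat) (Atab_s_284_286 c) (Atab_s_286_288 c) (Nat.ble 286 c)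
noncomputable def Atab_s_280_288 (c : Nat) : Nat := @Bool.rec (fun _ => Nat) (Atab_s_280_284 c) (Atab_s_284_288 c) (Nat.ble 284 c)
noncomputable def Atab_s_273_288 (c : Nat) : Nat := @Bool.rec (fun _ => Nat) (Atab_s_273_280 c) (Atab_s_280_288 c) (Nat.ble 280 c)
noncomputable def Atab_s_288_290 (c : Nat) : Nat := @Bool.rec (fun _ => Nat) (Atab_288) (Atab_289) (Nat.ble 289 c)
noncomputable def Atab_s_290_292 (c : Nat) : Nat := @Bool.rec (fun _ => Nat) (Atab_290) (Atab_291) (Nat.ble 291 c)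
noncomputable def Atab_s_288_292 (c : Nat) : Nat := @Bool.rec (fun _ => Nat) (Atab_s_288_290 c) (Atab_s_290_292 c) (Nat.ble 290 c)
noncomputable def Atab_s_292_294 (c : Nat) : Nat := @Bool.rec (fun _ => Nat) (Atab_292) (Atab_293) (Nat.ble 293 c)
noncomputable def Atab_s_294_296 (c : Nat) : Nat := @Bool.rec (fun _ => Nat) (Atab_294) (Atab_295) (Nat.ble 295 c)
noncomputable def Atab_s_292_296 (c : Nat) : Nat := @Bool.rec (fun _ => Nat) (Atab_s_292_294 c) (Atab_s_294_296 c) (Nat.ble 294 c)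
noncomputable def Atab_s_288_296 (c : Nat) : Nat := @Bool.rec (fun _ => Nat) (Atab_s_288_292 c) (Atab_s_292_296 c) (Nat.ble 292 c)
noncomputable def Atab_s_296_298 (c : Nat) : Nat := @Bool.rec (fun _ => Nat) (Atab_296) (Atab_297) (Nat.ble 297 c)
noncomputable def Atab_s_298_300 (c : Nat) : Nat := @Bool.rec (fun _ => Nat) (Atab_298) (Atab_299) (Nat.ble 299 c)
noncomputable def Atab_s_296_300 (c : Nat) : Nat := @Bool.rec (fun _ => Nat) (Atab_s_296_298 c) (Atab_s_298_300 c) (Nat.ble 298 c)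
noncomputable def Atab_s_300_302 (c : Nat) : Nat := @Bool.rec (fun _ => Nat) (Atab_300) (Atab_301) (Nat.ble 301 c)
noncomputable def Atab_s_302_304 (c : Nat) : Nat := @Bool.rec (fun _ => Nat) (Atab_302) (Atab_303) (Nat.ble 303 c)
noncomputable def Atab_s_300_304 (c : Nat) : Nat := @Bool.rec (fun _ => Nat) (Atab_s_300_302 c) (Atab_s_302_304 c) (Nat.ble 302 c)
noncomputable def Atab_s_296_304 (c : Nat) : Nat := @Bool.rec (fun _ => Nat) (Atab_s_296_300 c) (Atab_s_300_304 c) (Nat.ble 300 c)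
noncomputable def Atab_s_288_304 (c : Nat) : Nat := @Bool.rec (fun _ => Nat) (Atab_s_288_296 c) (Atab_s_296_304 c) (Nat.ble 296 c)
noncomputable def Atab_s_273_304 (c : Nat) : Nat := @Bool.rec (fun _ => Nat) (Atab_s_273_288 c) (Atab_s_288_304 c) (Nat.ble 288 c)
noncomputable def Atab_s_243_304 (c : Nat) : Nat := @Bool.rec (fun _ => Nat) (Atab_s_243_273 c) (Atab_s_273_304 c) (Nat.ble 273 c)
noncomputable def Atab_s_305_307 (c : Nat) : Nat := @Bool.rec (fun _ => Nat) (Atab_305) (Atab_306) (Nat.ble 306 c)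
noncomputable def Atab_s_304_307 (c : Nat) : Nat := @Bool.rec (fun _ => Nat) (Atab_304) (Atab_s_305_307 c) (Nat.ble 305 c)
noncomputable def Atab_s_307_309 (c : Nat) : Nat := @Bool.rec (fun _ => Nat) (Atab_307) (Atab_308) (Nat.ble 308 c)
noncomputable def Atab_s_309_311 (c : Nat) : Nat := @Bool.rec (fun _ => Nat) (Atab_309) (Atab_310) (Nat.ble 310 c)
noncomputable def Atab_s_307_311 (c : Nat) : Nat := @Bool.rec (fun _ => Nat) (Atab_s_307_309 c) (Atab_s_309_311 c) (Nat.ble 309 c)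
noncomputable def Atab_s_304_311 (c : Nat) : Nat := @Bool.rec (fun _ => Nat) (Atab_s_304_307 c) (Atab_s_307_311 c) (Nat.ble 307 c)
noncomputable def Atab_s_311_313 (c : Nat) : Nat := @Bool.rec (fun _ => Nat) (Atab_311) (Atab_312) (Nat.ble 312 c)
noncomputable def Atab_s_313_315 (c : Nat) : Nat := @Bool.rec (fun _ => Nat) (Atab_313) (Atab_314) (Nat.ble 314 c)
noncomputable def Atab_s_311_315 (c : Nat) : Nat := @Bool.rec (fun _ => Nat) (Atab_s_311_313 c) (Atab_s_313_315 c) (Nat.ble 313 c)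
noncomputable def Atab_s_315_317 (c : Nat) : Nat := @Bool.rec (fun _ => Nat) (Atab_315) (Atab_316) (Nat.ble 316 c)
noncomputable def Atab_s_317_319 (c : Nat) : Nat := @Bool.rec (fun _ => Nat) (Atab_317) (Atab_318) (Nat.ble 318 c)
noncomputable def Atab_s_315_319 (c : Nat) : Nat := @Bool.rec (fun _ => Nat) (Atab_s_315_317 c) (Atab_s_317_319 c) (Nat.ble 317 c)
noncomputable def Atab_s_311_319 (c : Nat) : Nat := @Bool.rec (fun _ => Nat) (Atab_s_311_315 c) (Atab_s_315_319 c) (Nat.ble 315 c)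
noncomputable def Atab_s_304_319 (c : Nat) : Nat := @Bool.rec (fun _ => Nat) (Atab_s_304_311 c) (Atab_s_311_319 c) (Nat.ble 311 c)
noncomputable def Atab_s_320_322 (c : Nat) : Nat := @Bool.rec (fun _ => Nat) (Atab_320) (Atab_321) (Nat.ble 321 c)
noncomputable def Atab_s_319_322 (c : Nat) : Nat := @Bool.rec (fun _ => Nat) (Atab_319) (Atab_s_320_322 c) (Nat.ble 320 c)
noncomputable def Atab_s_322_324 (c : Nat) : Nat := @Bool.rec (fun _ => Nat) (Atab_322) (Atab_323) (Nat.ble 323 c)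
noncomputable def Atab_s_324_326 (c : Nat) : Nat := @Bool.rec (fun _ => Nat) (Atab_324) (Atab_325) (Nat.ble 325 c)
noncomputable def Atab_s_322_326 (c : Nat) : Nat := @Bool.rec (fun _ => Nat) (Atab_s_322_324 c) (Atab_s_324_326 c) (Nat.ble 324 c)
noncomputable def Atab_s_319_326 (c : Nat) : Nat := @Bool.rec (fun _ => Nat) (Atab_s_319_322 c) (Atab_s_322_326 c) (Nat.ble 322 c)
noncomputable def Atab_s_326_328 (c : Nat) : Nat := @Bool.rec (fun _ => Nat) (Atab_326) (Atab_327) (Nat.ble 327 c)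
noncomputable def Atab_s_328_330 (c : Nat) : Nat := @Bool.rec (fun _ => Nat) (Atab_328) (Atab_329) (Nat.ble 329 c)
noncomputable def Atab_s_326_330 (c : Nat) : Nat := @Bool.rec (fun _ => Nat) (Atab_s_326_328 c) (Atab_s_328_330 c) (Nat.ble 328 c)
noncomputable def Atab_s_330_332 (c : Nat) : Nat := @Bool.rec (fun _ => Nat) (Atab_330) (Atab_331) (Nat.ble 331 c)
noncomputable def Atab_s_332_334 (c : Nat) : Nat := @Bool.rec (fun _ => Nat) (Atab_332) (Atab_333) (Nat.ble 333 c)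
noncomputable def Atab_s_330_334 (c : Nat) : Nat := @Bool.rec (fun _ => Nat) (Atab_s_330_332 c) (Atab_s_332_334 c) (Nat.ble 332 c)
noncomputable def Atab_s_326_334 (c : Nat) : Nat := @Bool.rec (fun _ => Nat) (Atab_s_326_330 c) (Atab_s_330_334 c) (Nat.ble 330 c)
noncomputable def Atab_s_319_334 (c : Nat) : Nat := @Bool.rec (fun _ => Nat) (Atab_s_319_326 c) (Atab_s_326_334 c) (Nat.ble 326 c)
noncomputable def Atab_s_304_334 (c : Nat) : Nat := @Bool.rec (fun _ => Nat) (Atab_s_304_319 c) (Atab_s_319_334 c) (Nat.ble 319 c)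
noncomputable def Atab_s_335_337 (c : Nat) : Nat := @Bool.rec (fun _ => Nat) (Atab_335) (Atab_336) (Nat.ble 336 c)
noncomputable def Atab_s_334_337 (c : Nat) : Nat := @Bool.rec (fun _ => Nat) (Atab_334) (Atab_s_335_337 c) (Nat.ble 335 c)
noncomputable def Atab_s_337_339 (c : Nat) : Nat := @Bool.rec (fun _ => Nat) (Atab_337) (Atab_338) (Nat.ble 338 c)
noncomputable def Atab_s_339_341 (c : Nat) : Nat := @Bool.rec (fun _ => Nat) (Atab_339) (Atab_340) (Nat.ble 340 c)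
noncomputable def Atab_s_337_341 (c : Nat) : Nat := @Bool.rec (fun _ => Nat) (Atab_s_337_339 c) (Atab_s_339_341 c) (Nat.ble 339 c)
noncomputable def Atab_s_334_341 (c : Nat) : Nat := @Bool.rec (fun _ => Nat) (Atab_s_334_337 c) (Atab_s_337_341 c) (Nat.ble 337 c)
noncomputable def Atab_s_341_343 (c : Nat) : Nat := @Bool.rec (fun _ => Nat) (Atab_341) (Atab_342) (Nat.ble 342 c)
noncomputable def Atab_s_343_345 (c : Nat) : Nat := @Bool.rec (fun _ => Nat) (Atab_343) (Atab_344) (Nat.ble 344 c)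
noncomputable def Atab_s_341_345 (c : Nat) : Nat := @Bool.rec (fun _ => Nat) (Atab_s_341_343 c) (Atab_s_343_345 c) (Nat.ble 343 c)
noncomputable def Atab_s_345_347 (c : Nat) : Nat := @Bool.rec (fun _ => Nat) (Atab_345) (Atab_346) (Nat.ble 346 c)
noncomputable def Atab_s_347_349 (c : Nat) : Nat := @Bool.rec (fun _ => Nat) (Atab_347) (Atab_348) (Nat.ble 348 c)
noncomputable def Atab_s_345_349 (c : Nat) : Nat := @Bool.rec (fun _ => Nat) (Atab_s_345_347 c) (Atab_s_347_349 c) (Nat.ble 347 c)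
noncomputable def Atab_s_341_349 (c : Nat) : Nat := @Bool.rec (fun _ => Nat) (Atab_s_341_345 c) (Atab_s_345_349 c) (Nat.ble 345 c)
noncomputable def Atab_s_334_349 (c : Nat) : Nat := @Bool.rec (fun _ => Nat) (Atab_s_334_341 c) (Atab_s_341_349 c) (Nat.ble 341 c)
noncomputable def Atab_s_349_351 (c : Nat) : Nat := @Bool.rec (fun _ => Nat) (Atab_349) (Atab_350) (Nat.ble 350 c)
noncomputable def Atab_s_351_353 (c : Nat) : Nat := @Bool.rec (fun _ => Nat) (Atab_351) (Atab_352) (Nat.ble 352 c)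
noncomputable def Atab_s_349_353 (c : Nat) : Nat := @Bool.rec (fun _ => Nat) (Atab_s_349_351 c) (Atab_s_351_353 c) (Nat.ble 351 c)
noncomputable def Atab_s_353_355 (c : Nat) : Nat := @Bool.rec (fun _ => Nat) (Atab_353) (Atab_354) (Nat.ble 354 c)
noncomputable def Atab_s_355_357 (c : Nat) : Nat := @Bool.rec (fun _ => Nat) (Atab_355) (Atab_356) (Nat.ble 356 c)
noncomputable def Atab_s_353_357 (c : Nat) : Nat := @Bool.rec (fun _ => Nat) (Atab_s_353_355 c) (Atab_s_355_357 c) (Nat.ble 355 c)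
noncomputable def Atab_s_349_357 (c : Nat) : Nat := @Bool.rec (fun _ => Nat) (Atab_s_349_353 c) (Atab_s_353_357 c) (Nat.ble 353 c)
noncomputable def Atab_s_357_359 (c : Nat) : Nat := @Bool.rec (fun _ => Nat) (Atab_357) (Atab_358) (Nat.ble 358 c)
noncomputable def Atab_s_359_361 (c : Nat) : Nat := @Bool.rec (fun _ => Nat) (Atab_359) (Atab_360) (Nat.ble 360 c)
noncomputable def Atab_s_357_361 (c : Nat) : Nat := @Bool.rec (fun _ => Nat) (Atab_s_357_359 c) (Atab_s_359_361 c) (Nat.ble 359 c)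
noncomputable def Atab_s_361_363 (c : Nat) : Nat := @Bool.rec (fun _ => Nat) (Atab_361) (Atab_362) (Nat.ble 362 c)
noncomputable def Atab_s_363_365 (c : Nat) : Nat := @Bool.rec (fun _ => Nat) (Atab_363) (Atab_364) (Nat.ble 364 c)
noncomputable def Atab_s_361_365 (c : Nat) : Nat := @Bool.rec (fun _ => Nat) (Atab_s_361_363 c) (Atab_s_363_365 c) (Nat.ble 363 c)
noncomputable def Atab_s_357_365 (c : Nat) : Nat := @Bool.rec (fun _ => Nat) (Atab_s_357_361 c) (Atab_s_361_365 c) (Nat.ble 361 c)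
noncomputable def Atab_s_349_365 (c : Nat) : Nat := @Bool.rec (fun _ => Nat) (Atab_s_349_357 c) (Atab_s_357_365 c) (Nat.ble 357 c)
noncomputable def Atab_s_334_365 (c : Nat) : Nat := @Bool.rec (fun _ => Nat) (Atab_s_334_349 c) (Atab_s_349_365 c) (Nat.ble 349 c)
noncomputable def Atab_s_304_365 (c : Nat) : Nat := @Bool.rec (fun _ => Nat) (Atab_s_304_334 c) (Atab_s_334_365 c) (Nat.ble 334 c)
noncomputable def Atab_s_243_365 (c : Nat) : Nat := @Bool.rec (fun _ => Nat) (Atab_s_243_304 c) (Atab_s_304_365 c) (Nat.ble 304 c)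
noncomputable def Atab_s_366_368 (c : Nat) : Nat := @Bool.rec (fun _ => Nat) (Atab_366) (Atab_367) (Nat.ble 367 c)
noncomputable def Atab_s_365_368 (c : Nat) : Nat := @Bool.rec (fun _ => Nat) (Atab_365) (Atab_s_366_368 c) (Nat.ble 366 c)
noncomputable def Atab_s_368_370 (c : Nat) : Nat := @Bool.rec (fun _ => Nat) (Atab_368) (Atab_369) (Nat.ble 369 c)
noncomputable def Atab_s_370_372 (c : Nat) : Nat := @Bool.rec (fun _ => Nat) (Atab_370) (Atab_371) (Nat.ble 371 c)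
noncomputable def Atab_s_368_372 (c : Nat) : Nat := @Bool.rec (fun _ => Nat) (Atab_s_368_370 c) (Atab_s_370_372 c) (Nat.ble 370 c)
noncomputable def Atab_s_365_372 (c : Nat) : Nat := @Bool.rec (fun _ => Nat) (Atab_s_365_368 c) (Atab_s_368_372 c) (Nat.ble 368 c)
noncomputable def Atab_s_372_374 (c : Nat) : Nat := @Bool.rec (fun _ => Nat) (Atab_372) (Atab_373) (Nat.ble 373 c)
noncomputable def Atab_s_374_376 (c : Nat) : Nat := @Bool.rec (fun _ => Nat) (Atab_374) (Atab_375) (Nat.ble 375 c)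
noncomputable def Atab_s_372_376 (c : Nat) : Nat := @Bool.rec (fun _ => Nat) (Atab_s_372_374 c) (Atab_s_374_376 c) (Nat.ble 374 c)
noncomputable def Atab_s_376_378 (c : Nat) : Nat := @Bool.rec (fun _ => Nat) (Atab_376) (Atab_377) (Nat.ble 377 c)
noncomputable def Atab_s_378_380 (c : Nat) : Nat := @Bool.rec (fun _ => Nat) (Atab_378) (Atab_379) (Nat.ble 379 c)
noncomputable def Atab_s_376_380 (c : Nat) : Nat := @Bool.rec (fun _ => Nat) (Atab_s_376_378 c) (Atab_s_378_380 c) (Nat.ble 378 c)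
noncomputable def Atab_s_372_380 (c : Nat) : Nat := @Bool.rec (fun _ => Nat) (Atab_s_372_376 c) (Atab_s_376_380 c) (Nat.ble 376 c)
noncomputable def Atab_s_365_380 (c : Nat) : Nat := @Bool.rec (fun _ => Nat) (Atab_s_365_372 c) (Atab_s_372_380 c) (Nat.ble 372 c)
noncomputable def Atab_s_381_383 (c : Nat) : Nat := @Bool.rec (fun _ => Nat) (Atab_381) (Atab_382) (Nat.ble 382 c)
noncomputable def Atab_s_380_383 (c : Nat) : Nat := @Bool.rec (fun _ => Nat) (Atab_380) (Atab_s_381_383 c) (Nat.ble 381 c)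
noncomputable def Atab_s_383_385 (c : Nat) : Nat := @Bool.rec (fun _ => Nat) (Atab_383) (Atab_384) (Nat.ble 384 c)
noncomputable def Atab_s_385_387 (c : Nat) : Nat := @Bool.rec (fun _ => Nat) (Atab_385) (Atab_386) (Nat.ble 386 c)
noncomputable def Atab_s_383_387 (c : Nat) : Nat := @Bool.rec (fun _ => Nat) (Atab_s_383_385 c) (Atab_s_385_387 c) (Nat.ble 385 c)
noncomputable def Atab_s_380_387 (c : Nat) : Nat := @Bool.rec (fun _ => Nat) (Atab_s_380_383 c) (Atab_s_383_387 c) (Nat.ble 383 c)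
noncomputable def Atab_s_387_389 (c : Nat) : Nat := @Bool.rec (fun _ => Nat) (Atab_387) (Atab_388) (Nat.ble 388 c)
noncomputable def Atab_s_389_391 (c : Nat) : Nat := @Bool.rec (fun _ => Nat) (Atab_389) (Atab_390) (Nat.ble 390 c)
noncomputable def Atab_s_387_391 (c : Nat) : Nat := @Bool.rec (fun _ => Nat) (Atab_s_387_389 c) (Atab_s_389_391 c) (Nat.ble 389 c)
noncomputable def Atab_s_391_393 (c : Nat) : Nat := @Bool.rec (fun _ => Nat) (Atab_391) (Atab_392) (Nat.ble 392 c)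
noncomputable def Atab_s_393_395 (c : Nat) : Nat := @Bool.rec (fun _ => Nat) (Atab_393) (Atab_394) (Nat.ble 394 c)
noncomputable def Atab_s_391_395 (c : Nat) : Nat := @Bool.rec (fun _ => Nat) (Atab_s_391_393 c) (Atab_s_393_395 c) (Nat.ble 393 c)
noncomputable def Atab_s_387_395 (c : Nat) : Nat := @Bool.rec (fun _ => Nat) (Atab_s_387_391 c) (Atab_s_391_395 c) (Nat.ble 391 c)
noncomputable def Atab_s_380_395 (c : Nat) : Nat := @Bool.rec (fun _ => Nat) (Atab_s_380_387 c) (Atab_s_387_395 c) (Nat.ble 387 c)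
noncomputable def Atab_s_365_395 (c : Nat) : Nat := @Bool.rec (fun _ => Nat) (Atab_s_365_380 c) (Atab_s_380_395 c) (Nat.ble 380 c)
noncomputable def Atab_s_396_398 (c : Nat) : Nat := @Bool.rec (fun _ => Nat) (Atab_396) (Atab_397) (Nat.ble 397 c)
noncomputable def Atab_s_395_398 (c : Nat) : Nat := @Bool.rec (fun _ => Nat) (Atab_395) (Atab_s_396_398 c) (Nat.ble 396 c)
noncomputable def Atab_s_398_400 (c : Nat) : Nat := @Bool.rec (fun _ => Nat) (Atab_398) (Atab_399) (Nat.ble 399 c)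
noncomputable def Atab_s_400_402 (c : Nat) : Nat := @Bool.rec (fun _ => Nat) (Atab_400) (Atab_401) (Nat.ble 401 c)
noncomputable def Atab_s_398_402 (c : Nat) : Nat := @Bool.rec (fun _ => Nat) (Atab_s_398_400 c) (Atab_s_400_402 c) (Nat.ble 400 c)
noncomputable def Atab_s_395_402 (c : Nat) : Nat := @Bool.rec (fun _ => Nat) (Atab_s_395_398 c) (Atab_s_398_402 c) (Nat.ble 398 c)
noncomputable def Atab_s_402_404 (c : Nat) : Nat := @Bool.rec (fun _ => Nat) (Atab_402) (Atab_403) (Nat.ble 403 c)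
noncomputable def Atab_s_404_406 (c : Nat) : Nat := @Bool.rec (fun _ => Nat) (Atab_404) (Atab_405) (Nat.ble 405 c)
noncomputable def Atab_s_402_406 (c : Nat) : Nat := @Bool.rec (fun _ => Nat) (Atab_s_402_404 c) (Atab_s_404_406 c) (Nat.ble 404 c)
noncomputable def Atab_s_406_408 (c : Nat) : Nat := @Bool.rec (fun _ => Nat) (Atab_406) (Atab_407) (Nat.ble 407 c)
noncomputable def Atab_s_408_410 (c : Nat) : Nat := @Bool.rec (fun _ => Nat) (Atab_408) (Atab_409) (Nat.ble 409 c)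
noncomputable def Atab_s_406_410 (c : Nat) : Nat := @Bool.rec (fun _ => Nat) (Atab_s_406_408 c) (Atab_s_408_410 c) (Nat.ble 408 c)
noncomputable def Atab_s_402_410 (c : Nat) : Nat := @Bool.rec (fun _ => Nat) (Atab_s_402_406 c) (Atab_s_406_410 c) (Nat.ble 406 c)
noncomputable def Atab_s_395_410 (c : Nat) : Nat := @Bool.rec (fun _ => Nat) (Atab_s_395_402 c) (Atab_s_402_410 c) (Nat.ble 402 c)
noncomputable def Atab_s_410_412 (c : Nat) : Nat := @Bool.rec (fun _ => Nat) (Atab_410) (Atab_411) (Nat.ble 411 c)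
noncomputable def Atab_s_412_414 (c : Nat) : Nat := @Bool.rec (fun _ => Nat) (Atab_412) (Atab_413) (Nat.ble 413 c)
noncomputable def Atab_s_410_414 (c : Nat) : Nat := @Bool.rec (fun _ => Nat) (Atab_s_410_412 c) (Atab_s_412_414 c) (Nat.ble 412 c)
noncomputable def Atab_s_414_416 (c : Nat) : Nat := @Bool.rec (fun _ => Nat) (Atab_414) (Atab_415) (Nat.ble 415 c)
noncomputable def Atab_s_416_418 (c : Nat) : Nat := @Bool.rec (fun _ => Nat) (Atab_416) (Atab_417) (Nat.ble 417 c)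
noncomputable def Atab_s_414_418 (c : Nat) : Nat := @Bool.rec (fun _ => Nat) (Atab_s_414_416 c) (Atab_s_416_418 c) (Nat.ble 416 c)
noncomputable def Atab_s_410_418 (c : Nat) : Nat := @Bool.rec (fun _ => Nat) (Atab_s_410_414 c) (Atab_s_414_418 c) (Nat.ble 414 c)
noncomputable def Atab_s_418_420 (c : Nat) : Nat := @Bool.rec (fun _ => Nat) (Atab_418) (Atab_419) (Nat.ble 419 c)
noncomputable def Atab_s_420_422 (c : Nat) : Nat := @Bool.rec (fun _ => Nat) (Atab_420) (Atab_421) (Nat.ble 421 c)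
noncomputable def Atab_s_418_422 (c : Nat) : Nat := @Bool.rec (fun _ => Nat) (Atab_s_418_420 c) (Atab_s_420_422 c) (Nat.ble 420 c)
noncomputable def Atab_s_422_424 (c : Nat) : Nat := @Bool.rec (fun _ => Nat) (Atab_422) (Atab_423) (Nat.ble 423 c)
noncomputable def Atab_s_424_426 (c : Nat) : Nat := @Bool.rec (fun _ => Nat) (Atab_424) (Atab_425) (Nat.ble 425 c)
noncomputable def Atab_s_422_426 (c : Nat) : Nat := @Bool.rec (fun _ => Nat) (Atab_s_422_424 c) (Atab_s_424_426 c) (Nat.ble 424 c)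
noncomputable def Atab_s_418_426 (c : Nat) : Nat := @Bool.rec (fun _ => Nat) (Atab_s_418_422 c) (Atab_s_422_426 c) (Nat.ble 422 c)
noncomputable def Atab_s_410_426 (c : Nat) : Nat := @Bool.rec (fun _ => Nat) (Atab_s_410_418 c) (Atab_s_418_426 c) (Nat.ble 418 c)
noncomputable def Atab_s_395_426 (c : Nat) : Nat := @Bool.rec (fun _ => Nat) (Atab_s_395_410 c) (Atab_s_410_426 c) (Nat.ble 410 c)
noncomputable def Atab_s_365_426 (c : Nat) : Nat := @Bool.rec (fun _ => Nat) (Atab_s_365_395 c) (Atab_s_395_426 c) (Nat.ble 395 c)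
noncomputable def Atab_s_427_429 (c : Nat) : Nat := @Bool.rec (fun _ => Nat) (Atab_427) (Atab_428) (Nat.ble 428 c)
noncomputable def Atab_s_426_429 (c : Nat) : Nat := @Bool.rec (fun _ => Nat) (Atab_426) (Atab_s_427_429 c) (Nat.ble 427 c)
noncomputable def Atab_s_429_431 (c : Nat) : Nat := @Bool.rec (fun _ => Nat) (Atab_429) (Atab_430) (Nat.ble 430 c)
noncomputable def Atab_s_431_433 (c : Nat) : Nat := @Bool.rec (fun _ => Nat) (Atab_431) (Atab_432) (Nat.ble 432 c)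
noncomputable def Atab_s_429_433 (c : Nat) : Nat := @Bool.rec (fun _ => Nat) (Atab_s_429_431 c) (Atab_s_431_433 c) (Nat.ble 431 c)
noncomputable def Atab_s_426_433 (c : Nat) : Nat := @Bool.rec (fun _ => Nat) (Atab_s_426_429 c) (Atab_s_429_433 c) (Nat.ble 429 c)
noncomputable def Atab_s_433_435 (c : Nat) : Nat := @Bool.rec (fun _ => Nat) (Atab_433) (Atab_434) (Nat.ble 434 c)
noncomputable def Atab_s_435_437 (c : Nat) : Nat := @Bool.rec (fun _ => Nat) (Atab_435) (Atab_436) (Nat.ble 436 c)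
noncomputable def Atab_s_433_437 (c : Nat) : Nat := @Bool.rec (fun _ => Nat) (Atab_s_433_435 c) (Atab_s_435_437 c) (Nat.ble 435 c)
noncomputable def Atab_s_437_439 (c : Nat) : Nat := @Bool.rec (fun _ => Nat) (Atab_437) (Atab_438) (Nat.ble 438 c)
noncomputable def Atab_s_439_441 (c : Nat) : Nat := @Bool.rec (fun _ => Nat) (Atab_439) (Atab_440) (Nat.ble 440 c)
noncomputable def Atab_s_437_441 (c : Nat) : Nat := @Bool.rec (fun _ => Nat) (Atab_s_437_439 c) (Atab_s_439_441 c) (Nat.ble 439 c)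
noncomputable def Atab_s_433_441 (c : Nat) : Nat := @Bool.rec (fun _ => Nat) (Atab_s_433_437 c) (Atab_s_437_441 c) (Nat.ble 437 c)
noncomputable def Atab_s_426_441 (c : Nat) : Nat := @Bool.rec (fun _ => Nat) (Atab_s_426_433 c) (Atab_s_433_441 c) (Nat.ble 433 c)
noncomputable def Atab_s_442_444 (c : Nat) : Nat := @Bool.rec (fun _ => Nat) (Atab_442) (Atab_443) (Nat.ble 443 c)
noncomputable def Atab_s_441_444 (c : Nat) : Nat := @Bool.rec (fun _ => Nat) (Atab_441) (Atab_s_442_444 c) (Nat.ble 442 c)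
noncomputable def Atab_s_444_446 (c : Nat) : Nat := @Bool.rec (fun _ => Nat) (Atab_444) (Atab_445) (Nat.ble 445 c)
noncomputable def Atab_s_446_448 (c : Nat) : Nat := @Bool.rec (fun _ => Nat) (Atab_446) (Atab_447) (Nat.ble 447 c)
noncomputable def Atab_s_444_448 (c : Nat) : Nat := @Bool.rec (fun _ => Nat) (Atab_s_444_446 c) (Atab_s_446_448 c) (Nat.ble 446 c)
noncomputable def Atab_s_441_448 (c : Nat) : Nat := @Bool.rec (fun _ => Nat) (Atab_s_441_444 c) (Atab_s_444_448 c) (Nat.ble 444 c)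
noncomputable def Atab_s_448_450 (c : Nat) : Nat := @Bool.rec (fun _ => Nat) (Atab_448) (Atab_449) (Nat.ble 449 c)
noncomputable def Atab_s_450_452 (c : Nat) : Nat := @Bool.rec (fun _ => Nat) (Atab_450) (Atab_451) (Nat.ble 451 c)
noncomputable def Atab_s_448_452 (c : Nat) : Nat := @Bool.rec (fun _ => Nat) (Atab_s_448_450 c) (Atab_s_450_452 c) (Nat.ble 450 c)
noncomputable def Atab_s_452_454 (c : Nat) : Nat := @Bool.rec (fun _ => Nat) (Atab_452) (Atab_453) (Nat.ble 453 c)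
noncomputable def Atab_s_454_456 (c : Nat) : Nat := @Bool.rec (fun _ => Nat) (Atab_454) (Atab_455) (Nat.ble 455 c)
noncomputable def Atab_s_452_456 (c : Nat) : Nat := @Bool.rec (fun _ => Nat) (Atab_s_452_454 c) (Atab_s_454_456 c) (Nat.ble 454 c)
noncomputable def Atab_s_448_456 (c : Nat) : Nat := @Bool.rec (fun _ => Nat) (Atab_s_448_452 c) (Atab_s_452_456 c) (Nat.ble 452 c)
noncomputable def Atab_s_441_456 (c : Nat) : Nat := @Bool.rec (fun _ => Nat) (Atab_s_441_448 c) (Atab_s_448_456 c) (Nat.ble 448 c)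
noncomputable def Atab_s_426_456 (c : Nat) : Nat := @Bool.rec (fun _ => Nat) (Atab_s_426_441 c) (Atab_s_441_456 c) (Nat.ble 441 c)
noncomputable def Atab_s_457_459 (c : Nat) : Nat := @Bool.rec (fun _ => Nat) (Atab_457) (Atab_458) (Nat.ble 458 c)
noncomputable def Atab_s_456_459 (c : Nat) : Nat := @Bool.rec (fun _ => Nat) (Atab_456) (Atab_s_457_459 c) (Nat.ble 457 c)
noncomputable def Atab_s_459_461 (c : Nat) : Nat := @Bool.rec (fun _ => Nat) (Atab_459) (Atab_460) (Nat.ble 460 c)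
noncomputable def Atab_s_461_463 (c : Nat) : Nat := @Bool.rec (fun _ => Nat) (Atab_461) (Atab_462) (Nat.ble 462 c)
noncomputable def Atab_s_459_463 (c : Nat) : Nat := @Bool.rec (fun _ => Nat) (Atab_s_459_461 c) (Atab_s_461_463 c) (Nat.ble 461 c)
noncomputable def Atab_s_456_463 (c : Nat) : Nat := @Bool.rec (fun _ => Nat) (Atab_s_456_459 c) (Atab_s_459_463 c) (Nat.ble 459 c)
noncomputable def Atab_s_463_465 (c : Nat) : Nat := @Bool.rec (fun _ => Nat) (Atab_463) (Atab_464) (Nat.ble 464 c)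
noncomputable def Atab_s_465_467 (c : Nat) : Nat := @Bool.rec (fun _ => Nat) (Atab_465) (Atab_466) (Nat.ble 466 c)
noncomputable def Atab_s_463_467 (c : Nat) : Nat := @Bool.rec (fun _ => Nat) (Atab_s_463_465 c) (Atab_s_465_467 c) (Nat.ble 465 c)
noncomputable def Atab_s_467_469 (c : Nat) : Nat := @Bool.rec (fun _ => Nat) (Atab_467) (Atab_468) (Nat.ble 468 c)
noncomputable def Atab_s_469_471 (c : Nat) : Nat := @Bool.rec (fun _ => Nat) (Atab_469) (Atab_470) (Nat.ble 470 c)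
noncomputable def Atab_s_467_471 (c : Nat) : Nat := @Bool.rec (fun _ => Nat) (Atab_s_467_469 c) (Atab_s_469_471 c) (Nat.ble 469 c)
noncomputable def Atab_s_463_471 (c : Nat) : Nat := @Bool.rec (fun _ => Nat) (Atab_s_463_467 c) (Atab_s_467_471 c) (Nat.ble 467 c)
noncomputable def Atab_s_456_471 (c : Nat) : Nat := @Bool.rec (fun _ => Nat) (Atab_s_456_463 c) (Atab_s_463_471 c) (Nat.ble 463 c)
noncomputable def Atab_s_471_473 (c : Nat) : Nat := @Bool.rec (fun _ => Nat) (Atab_471) (Atab_472) (Nat.ble 472 c)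
noncomputable def Atab_s_473_475 (c : Nat) : Nat := @Bool.rec (fun _ => Nat) (Atab_473) (Atab_474) (Nat.ble 474 c)
noncomputable def Atab_s_471_475 (c : Nat) : Nat := @Bool.rec (fun _ => Nat) (Atab_s_471_473 c) (Atab_s_473_475 c) (Nat.ble 473 c)
noncomputable def Atab_s_475_477 (c : Nat) : Nat := @Bool.rec (fun _ => Nat) (Atab_475) (Atab_476) (Nat.ble 476 c)
noncomputable def Atab_s_477_479 (c : Nat) : Nat := @Bool.rec (fun _ => Nat) (Atab_477) (Atab_478) (Nat.ble 478 c)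
noncomputable def Atab_s_475_479 (c : Nat) : Nat := @Bool.rec (fun _ => Nat) (Atab_s_475_477 c) (Atab_s_477_479 c) (Nat.ble 477 c)
noncomputable def Atab_s_471_479 (c : Nat) : Nat := @Bool.rec (fun _ => Nat) (Atab_s_471_475 c) (Atab_s_475_479 c) (Nat.ble 475 c)
noncomputable def Atab_s_479_481 (c : Nat) : Nat := @Bool.rec (fun _ => Nat) (Atab_479) (Atab_480) (Nat.ble 480 c)
noncomputable def Atab_s_481_483 (c : Nat) : Nat := @Bool.rec (fun _ => Nat) (Atab_481) (Atab_482) (Nat.ble 482 c)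
noncomputable def Atab_s_479_483 (c : Nat) : Nat := @Bool.rec (fun _ => Nat) (Atab_s_479_481 c) (Atab_s_481_483 c) (Nat.ble 481 c)
noncomputable def Atab_s_483_485 (c : Nat) : Nat := @Bool.rec (fun _ => Nat) (Atab_483) (Atab_484) (Nat.ble 484 c)
noncomputable def Atab_s_485_487 (c : Nat) : Nat := @Bool.rec (fun _ => Nat) (Atab_485) (Atab_486) (Nat.ble 486 c)
noncomputable def Atab_s_483_487 (c : Nat) : Nat := @Bool.rec (fun _ => Nat) (Atab_s_483_485 c) (Atab_s_485_487 c) (Nat.ble 485 c)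
noncomputable def Atab_s_479_487 (c : Nat) : Nat := @Bool.rec (fun _ => Nat) (Atab_s_479_483 c) (Atab_s_483_487 c) (Nat.ble 483 c)
noncomputable def Atab_s_471_487 (c : Nat) : Nat := @Bool.rec (fun _ => Nat) (Atab_s_471_479 c) (Atab_s_479_487 c) (Nat.ble 479 c)
noncomputable def Atab_s_456_487 (c : Nat) : Nat := @Bool.rec (fun _ => Nat) (Atab_s_456_471 c) (Atab_s_471_487 c) (Nat.ble 471 c)
noncomputable def Atab_s_426_487 (c : Nat) : Nat := @Bool.rec (fun _ => Nat) (Atab_s_426_456 c) (Atab_s_456_487 c) (Nat.ble 456 c)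
noncomputable def Atab_s_365_487 (c : Nat) : Nat := @Bool.rec (fun _ => Nat) (Atab_s_365_426 c) (Atab_s_426_487 c) (Nat.ble 426 c)
noncomputable def Atab_s_243_487 (c : Nat) : Nat := @Bool.rec (fun _ => Nat) (Atab_s_243_365 c) (Atab_s_365_487 c) (Nat.ble 365 c)
noncomputable def Atab_s_0_487 (c : Nat) : Nat := @Bool.rec (fun _ => Nat) (Atab_s_0_243 c) (Atab_s_243_487 c) (Nat.ble 243 c)
noncomputable def Atab (i : Nat) : Nat := rdw 42 4398046511103 (Atab_s_0_487 (Nat.shiftRight i 11)) (Nat.land i 2047)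
noncomputable def Btab_s_0_2 (c : Nat) : Nat := @Bool.rec (fun _ => Nat) (Btab_0) (Btab_1) (Nat.ble 1 c)
noncomputable def Btab_s_3_5 (c : Nat) : Nat := @Bool.rec (fun _ => Nat) (Btab_3) (Btab_4) (Nat.ble 4 c)
noncomputable def Btab_s_2_5 (c : Nat) : Nat := @Bool.rec (fun _ => Nat) (Btab_2) (Btab_s_3_5 c) (Nat.ble 3 c)
noncomputable def Btab_s_0_5 (c : Nat) : Nat := @Bool.rec (fun _ => Nat) (Btab_s_0_2 c) (Btab_s_2_5 c) (Nat.ble 2 c)
noncomputable def Btab_s_6_8 (c : Nat) : Nat := @Bool.rec (fun _ => Nat) (Btab_6) (Btab_7) (Nat.ble 7 c)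
noncomputable def Btab_s_5_8 (c : Nat) : Nat := @Bool.rec (fun _ => Nat) (Btab_5) (Btab_s_6_8 c) (Nat.ble 6 c)
noncomputable def Btab_s_9_11 (c : Nat) : Nat := @Bool.rec (fun _ => Nat) (Btab_9) (Btab_10) (Nat.ble 10 c)
noncomputable def Btab_s_8_11 (c : Nat) : Nat := @Bool.rec (fun _ => Nat) (Btab_8) (Btab_s_9_11 c) (Nat.ble 9 c)
noncomputable def Btab_s_5_11 (c : Nat) : Nat := @Bool.rec (fun _ => Nat) (Btab_s_5_8 c) (Btab_s_8_11 c) (Nat.ble 8 c)
noncomputable def Btab_s_0_11 (c : Nat) : Nat := @Bool.rec (fun _ => Nat) (Btab_s_0_5 c) (Btab_s_5_11 c) (Nat.ble 5 c)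
noncomputable def Btab_s_12_14 (c : Nat) : Nat := @Bool.rec (fun _ => Nat) (Btab_12) (Btab_13) (Nat.ble 13 c)
noncomputable def Btab_s_11_14 (c : Nat) : Nat := @Bool.rec (fun _ => Nat) (Btab_11) (Btab_s_12_14 c) (Nat.ble 12 c)
noncomputable def Btab_s_15_17 (c : Nat) : Nat := @Bool.rec (fun _ => Nat) (Btab_15) (Btab_16) (Nat.ble 16 c)
noncomputable def Btab_s_14_17 (c : Nat) : Nat := @Bool.rec (fun _ => Nat) (Btab_14) (Btab_s_15_17 c) (Nat.ble 15 c)
noncomputable def Btab_s_11_17 (c : Nat) : Nat := @Bool.rec (fun _ => Nat) (Btab_s_11_14 c) (Btab_s_14_17 c) (Nat.ble 14 c)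
noncomputable def Btab_s_18_20 (c : Nat) : Nat := @Bool.rec (fun _ => Nat) (Btab_18) (Btab_19) (Nat.ble 19 c)
noncomputable def Btab_s_17_20 (c : Nat) : Nat := @Bool.rec (fun _ => Nat) (Btab_17) (Btab_s_18_20 c) (Nat.ble 18 c)
noncomputable def Btab_s_21_23 (c : Nat) : Nat := @Bool.rec (fun _ => Nat) (Btab_21) (Btab_22) (Nat.ble 22 c)
noncomputable def Btab_s_20_23 (c : Nat) : Nat := @Bool.rec (fun _ => Nat) (Btab_20) (Btab_s_21_23 c) (Nat.ble 21 c)
noncomputable def Btab_s_17_23 (c : Nat) : Nat := @Bool.rec (fun _ => Nat) (Btab_s_17_20 c) (Btab_s_20_23 c) (Nat.ble 20 c)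
noncomputable def Btab_s_11_23 (c : Nat) : Nat := @Bool.rec (fun _ => Nat) (Btab_s_11_17 c) (Btab_s_17_23 c) (Nat.ble 17 c)
noncomputable def Btab_s_0_23 (c : Nat) : Nat := @Bool.rec (fun _ => Nat) (Btab_s_0_11 c) (Btab_s_11_23 c) (Nat.ble 11 c)
noncomputable def Btab_s_24_26 (c : Nat) : Nat := @Bool.rec (fun _ => Nat) (Btab_24) (Btab_25) (Nat.ble 25 c)
noncomputable def Btab_s_23_26 (c : Nat) : Nat := @Bool.rec (fun _ => Nat) (Btab_23) (Btab_s_24_26 c) (Nat.ble 24 c)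
noncomputable def Btab_s_27_29 (c : Nat) : Nat := @Bool.rec (fun _ => Nat) (Btab_27) (Btab_28) (Nat.ble 28 c)
noncomputable def Btab_s_26_29 (c : Nat) : Nat := @Bool.rec (fun _ => Nat) (Btab_26) (Btab_s_27_29 c) (Nat.ble 27 c)
noncomputable def Btab_s_23_29 (c : Nat) : Nat := @Bool.rec (fun _ => Nat) (Btab_s_23_26 c) (Btab_s_26_29 c) (Nat.ble 26 c)
noncomputable def Btab_s_30_32 (c : Nat) : Nat := @Bool.rec (fun _ => Nat) (Btab_30) (Btab_31) (Nat.ble 31 c)
noncomputable def Btab_s_29_32 (c : Nat) : Nat := @Bool.rec (fun _ => Nat) (Btab_29) (Btab_s_30_32 c) (Nat.ble 30 c)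
noncomputable def Btab_s_33_35 (c : Nat) : Nat := @Bool.rec (fun _ => Nat) (Btab_33) (Btab_34) (Nat.ble 34 c)
noncomputable def Btab_s_32_35 (c : Nat) : Nat := @Bool.rec (fun _ => Nat) (Btab_32) (Btab_s_33_35 c) (Nat.ble 33 c)
noncomputable def Btab_s_29_35 (c : Nat) : Nat := @Bool.rec (fun _ => Nat) (Btab_s_29_32 c) (Btab_s_32_35 c) (Nat.ble 32 c)
noncomputable def Btab_s_23_35 (c : Nat) : Nat := @Bool.rec (fun _ => Nat) (Btab_s_23_29 c) (Btab_s_29_35 c) (Nat.ble 29 c)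
noncomputable def Btab_s_36_38 (c : Nat) : Nat := @Bool.rec (fun _ => Nat) (Btab_36) (Btab_37) (Nat.ble 37 c)
noncomputable def Btab_s_35_38 (c : Nat) : Nat := @Bool.rec (fun _ => Nat) (Btab_35) (Btab_s_36_38 c) (Nat.ble 36 c)
noncomputable def Btab_s_39_41 (c : Nat) : Nat := @Bool.rec (fun _ => Nat) (Btab_39) (Btab_40) (Nat.ble 40 c)
noncomputable def Btab_s_38_41 (c : Nat) : Nat := @Bool.rec (fun _ => Nat) (Btab_38) (Btab_s_39_41 c) (Nat.ble 39 c)
noncomputable def Btab_s_35_41 (c : Nat) : Nat := @Bool.rec (fun _ => Nat) (Btab_s_35_38 c) (Btab_s_38_41 c) (Nat.ble 38 c)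
noncomputable def Btab_s_42_44 (c : Nat) : Nat := @Bool.rec (fun _ => Nat) (Btab_42) (Btab_43) (Nat.ble 43 c)
noncomputable def Btab_s_41_44 (c : Nat) : Nat := @Bool.rec (fun _ => Nat) (Btab_41) (Btab_s_42_44 c) (Nat.ble 42 c)
noncomputable def Btab_s_45_47 (c : Nat) : Nat := @Bool.rec (fun _ => Nat) (Btab_45) (Btab_46) (Nat.ble 46 c)
noncomputable def Btab_s_44_47 (c : Nat) : Nat := @Bool.rec (fun _ => Nat) (Btab_44) (Btab_s_45_47 c) (Nat.ble 45 c)
noncomputable def Btab_s_41_47 (c : Nat) : Nat := @Bool.rec (fun _ => Nat) (Btab_s_41_44 c) (Btab_s_44_47 c) (Nat.ble 44 c)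
noncomputable def Btab_s_35_47 (c : Nat) : Nat := @Bool.rec (fun _ => Nat) (Btab_s_35_41 c) (Btab_s_41_47 c) (Nat.ble 41 c)
noncomputable def Btab_s_23_47 (c : Nat) : Nat := @Bool.rec (fun _ => Nat) (Btab_s_23_35 c) (Btab_s_35_47 c) (Nat.ble 35 c)
noncomputable def Btab_s_0_47 (c : Nat) : Nat := @Bool.rec (fun _ => Nat) (Btab_s_0_23 c) (Btab_s_23_47 c) (Nat.ble 23 c)
noncomputable def Btab_s_48_50 (c : Nat) : Nat := @Bool.rec (fun _ => Nat) (Btab_48) (Btab_49) (Nat.ble 49 c)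
noncomputable def Btab_s_47_50 (c : Nat) : Nat := @Bool.rec (fun _ => Nat) (Btab_47) (Btab_s_48_50 c) (Nat.ble 48 c)
noncomputable def Btab_s_51_53 (c : Nat) : Nat := @Bool.rec (fun _ => Nat) (Btab_51) (Btab_52) (Nat.ble 52 c)
noncomputable def Btab_s_50_53 (c : Nat) : Nat := @Bool.rec (fun _ => Nat) (Btab_50) (Btab_s_51_53 c) (Nat.ble 51 c)
noncomputable def Btab_s_47_53 (c : Nat) : Nat := @Bool.rec (fun _ => Nat) (Btab_s_47_50 c) (Btab_s_50_53 c) (Nat.ble 50 c)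
noncomputable def Btab_s_54_56 (c : Nat) : Nat := @Bool.rec (fun _ => Nat) (Btab_54) (Btab_55) (Nat.ble 55 c)
noncomputable def Btab_s_53_56 (c : Nat) : Nat := @Bool.rec (fun _ => Nat) (Btab_53) (Btab_s_54_56 c) (Nat.ble 54 c)
noncomputable def Btab_s_57_59 (c : Nat) : Nat := @Bool.rec (fun _ => Nat) (Btab_57) (Btab_58) (Nat.ble 58 c)
noncomputable def Btab_s_56_59 (c : Nat) : Nat := @Bool.rec (fun _ => Nat) (Btab_56) (Btab_s_57_59 c) (Nat.ble 57 c)
noncomputable def Btab_s_53_59 (c : Nat) : Nat := @Bool.rec (fun _ => Nat) (Btab_s_53_56 c) (Btab_s_56_59 c) (Nat.ble 56 c)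
noncomputable def Btab_s_47_59 (c : Nat) : Nat := @Bool.rec (fun _ => Nat) (Btab_s_47_53 c) (Btab_s_53_59 c) (Nat.ble 53 c)
noncomputable def Btab_s_60_62 (c : Nat) : Nat := @Bool.rec (fun _ => Nat) (Btab_60) (Btab_61) (Nat.ble 61 c)
noncomputable def Btab_s_59_62 (c : Nat) : Nat := @Bool.rec (fun _ => Nat) (Btab_59) (Btab_s_60_62 c) (Nat.ble 60 c)
noncomputable def Btab_s_63_65 (c : Nat) : Nat := @Bool.rec (fun _ => Nat) (Btab_63) (Btab_64) (Nat.ble 64 c)
noncomputable def Btab_s_62_65 (c : Nat) : Nat := @Bool.rec (fun _ => Nat) (Btab_62) (Btab_s_63_65 c) (Nat.ble 63 c)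
noncomputable def Btab_s_59_65 (c : Nat) : Nat := @Bool.rec (fun _ => Nat) (Btab_s_59_62 c) (Btab_s_62_65 c) (Nat.ble 62 c)
noncomputable def Btab_s_66_68 (c : Nat) : Nat := @Bool.rec (fun _ => Nat) (Btab_66) (Btab_67) (Nat.ble 67 c)
noncomputable def Btab_s_65_68 (c : Nat) : Nat := @Bool.rec (fun _ => Nat) (Btab_65) (Btab_s_66_68 c) (Nat.ble 66 c)
noncomputable def Btab_s_69_71 (c : Nat) : Nat := @Bool.rec (fun _ => Nat) (Btab_69) (Btab_70) (Nat.ble 70 c)
noncomputable def Btab_s_68_71 (c : Nat) : Nat := @Bool.rec (fun _ => Nat) (Btab_68) (Btab_s_69_71 c) (Nat.ble 69 c)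
noncomputable def Btab_s_65_71 (c : Nat) : Nat := @Bool.rec (fun _ => Nat) (Btab_s_65_68 c) (Btab_s_68_71 c) (Nat.ble 68 c)
noncomputable def Btab_s_59_71 (c : Nat) : Nat := @Bool.rec (fun _ => Nat) (Btab_s_59_65 c) (Btab_s_65_71 c) (Nat.ble 65 c)
noncomputable def Btab_s_47_71 (c : Nat) : Nat := @Bool.rec (fun _ => Nat) (Btab_s_47_59 c) (Btab_s_59_71 c) (Nat.ble 59 c)
noncomputable def Btab_s_72_74 (c : Nat) : Nat := @Bool.rec (fun _ => Nat) (Btab_72) (Btab_73) (Nat.ble 73 c)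
noncomputable def Btab_s_71_74 (c : Nat) : Nat := @Bool.rec (fun _ => Nat) (Btab_71) (Btab_s_72_74 c) (Nat.ble 72 c)
noncomputable def Btab_s_75_77 (c : Nat) : Nat := @Bool.rec (fun _ => Nat) (Btab_75) (Btab_76) (Nat.ble 76 c)
noncomputable def Btab_s_74_77 (c : Nat) : Nat := @Bool.rec (fun _ => Nat) (Btab_74) (Btab_s_75_77 c) (Nat.ble 75 c)
noncomputable def Btab_s_71_77 (c : Nat) : Nat := @Bool.rec (fun _ => Nat) (Btab_s_71_74 c) (Btab_s_74_77 c) (Nat.ble 74 c)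
noncomputable def Btab_s_78_80 (c : Nat) : Nat := @Bool.rec (fun _ => Nat) (Btab_78) (Btab_79) (Nat.ble 79 c)
noncomputable def Btab_s_77_80 (c : Nat) : Nat := @Bool.rec (fun _ => Nat) (Btab_77) (Btab_s_78_80 c) (Nat.ble 78 c)
noncomputable def Btab_s_81_83 (c : Nat) : Nat := @Bool.rec (fun _ => Nat) (Btab_81) (Btab_82) (Nat.ble 82 c)
noncomputable def Btab_s_80_83 (c : Nat) : Nat := @Bool.rec (fun _ => Nat) (Btab_80) (Btab_s_81_83 c) (Nat.ble 81 c)
noncomputable def Btab_s_77_83 (c : Nat) : Nat := @Bool.rec (fun _ => Nat) (Btab_s_77_80 c) (Btab_s_80_83 c) (Nat.ble 80 c)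
noncomputable def Btab_s_71_83 (c : Nat) : Nat := @Bool.rec (fun _ => Nat) (Btab_s_71_77 c) (Btab_s_77_83 c) (Nat.ble 77 c)
noncomputable def Btab_s_84_86 (c : Nat) : Nat := @Bool.rec (fun _ => Nat) (Btab_84) (Btab_85) (Nat.ble 85 c)
noncomputable def Btab_s_83_86 (c : Nat) : Nat := @Bool.rec (fun _ => Nat) (Btab_83) (Btab_s_84_86 c) (Nat.ble 84 c)
noncomputable def Btab_s_87_89 (c : Nat) : Nat := @Bool.rec (fun _ => Nat) (Btab_87) (Btab_88) (Nat.ble 88 c)
noncomputable def Btab_s_86_89 (c : Nat) : Nat := @Bool.rec (fun _ => Nat) (Btab_86) (Btab_s_87_89 c) (Nat.ble 87 c)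
noncomputable def Btab_s_83_89 (c : Nat) : Nat := @Bool.rec (fun _ => Nat) (Btab_s_83_86 c) (Btab_s_86_89 c) (Nat.ble 86 c)
noncomputable def Btab_s_90_92 (c : Nat) : Nat := @Bool.rec (fun _ => Nat) (Btab_90) (Btab_91) (Nat.ble 91 c)
noncomputable def Btab_s_89_92 (c : Nat) : Nat := @Bool.rec (fun _ => Nat) (Btab_89) (Btab_s_90_92 c) (Nat.ble 90 c)
noncomputable def Btab_s_93_95 (c : Nat) : Nat := @Bool.rec (fun _ => Nat) (Btab_93) (Btab_94) (Nat.ble 94 c)
noncomputable def Btab_s_92_95 (c : Nat) : Nat := @Bool.rec (fun _ => Nat) (Btab_92) (Btab_s_93_95 c) (Nat.ble 93 c)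
noncomputable def Btab_s_89_95 (c : Nat) : Nat := @Bool.rec (fun _ => Nat) (Btab_s_89_92 c) (Btab_s_92_95 c) (Nat.ble 92 c)
noncomputable def Btab_s_83_95 (c : Nat) : Nat := @Bool.rec (fun _ => Nat) (Btab_s_83_89 c) (Btab_s_89_95 c) (Nat.ble 89 c)
noncomputable def Btab_s_71_95 (c : Nat) : Nat := @Bool.rec (fun _ => Nat) (Btab_s_71_83 c) (Btab_s_83_95 c) (Nat.ble 83 c)
noncomputable def Btab_s_47_95 (c : Nat) : Nat := @Bool.rec (fun _ => Nat) (Btab_s_47_71 c) (Btab_s_71_95 c) (Nat.ble 71 c)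
noncomputable def Btab_s_0_95 (c : Nat) : Nat := @Bool.rec (fun _ => Nat) (Btab_s_0_47 c) (Btab_s_47_95 c) (Nat.ble 47 c)
noncomputable def Btab_s_95_97 (c : Nat) : Nat := @Bool.rec (fun _ => Nat) (Btab_95) (Btab_96) (Nat.ble 96 c)
noncomputable def Btab_s_98_100 (c : Nat) : Nat := @Bool.rec (fun _ => Nat) (Btab_98) (Btab_99) (Nat.ble 99 c)
noncomputable def Btab_s_97_100 (c : Nat) : Nat := @Bool.rec (fun _ => Nat) (Btab_97) (Btab_s_98_100 c) (Nat.ble 98 c)
noncomputable def Btab_s_95_100 (c : Nat) : Nat := @Bool.rec (fun _ => Nat) (Btab_s_95_97 c) (Btab_s_97_100 c) (Nat.ble 97 c)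
noncomputable def Btab_s_101_103 (c : Nat) : Nat := @Bool.rec (fun _ => Nat) (Btab_101) (Btab_102) (Nat.ble 102 c)
noncomputable def Btab_s_100_103 (c : Nat) : Nat := @Bool.rec (fun _ => Nat) (Btab_100) (Btab_s_101_103 c) (Nat.ble 101 c)
noncomputable def Btab_s_104_106 (c : Nat) : Nat := @Bool.rec (fun _ => Nat) (Btab_104) (Btab_105) (Nat.ble 105 c)
noncomputable def Btab_s_103_106 (c : Nat) : Nat := @Bool.rec (fun _ => Nat) (Btab_103) (Btab_s_104_106 c) (Nat.ble 104 c)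
noncomputable def Btab_s_100_106 (c : Nat) : Nat := @Bool.rec (fun _ => Nat) (Btab_s_100_103 c) (Btab_s_103_106 c) (Nat.ble 103 c)
noncomputable def Btab_s_95_106 (c : Nat) : Nat := @Bool.rec (fun _ => Nat) (Btab_s_95_100 c) (Btab_s_100_106 c) (Nat.ble 100 c)
noncomputable def Btab_s_107_109 (c : Nat) : Nat := @Bool.rec (fun _ => Nat) (Btab_107) (Btab_108) (Nat.ble 108 c)
noncomputable def Btab_s_106_109 (c : Nat) : Nat := @Bool.rec (fun _ => Nat) (Btab_106) (Btab_s_107_109 c) (Nat.ble 107 c)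
noncomputable def Btab_s_110_112 (c : Nat) : Nat := @Bool.rec (fun _ => Nat) (Btab_110) (Btab_111) (Nat.ble 111 c)
noncomputable def Btab_s_109_112 (c : Nat) : Nat := @Bool.rec (fun _ => Nat) (Btab_109) (Btab_s_110_112 c) (Nat.ble 110 c)
noncomputable def Btab_s_106_112 (c : Nat) : Nat := @Bool.rec (fun _ => Nat) (Btab_s_106_109 c) (Btab_s_109_112 c) (Nat.ble 109 c)
noncomputable def Btab_s_113_115 (c : Nat) : Nat := @Bool.rec (fun _ => Nat) (Btab_113) (Btab_114) (Nat.ble 114 c)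
noncomputable def Btab_s_112_115 (c : Nat) : Nat := @Bool.rec (fun _ => Nat) (Btab_112) (Btab_s_113_115 c) (Nat.ble 113 c)
noncomputable def Btab_s_116_118 (c : Nat) : Nat := @Bool.rec (fun _ => Nat) (Btab_116) (Btab_117) (Nat.ble 117 c)
noncomputable def Btab_s_115_118 (c : Nat) : Nat := @Bool.rec (fun _ => Nat) (Btab_115) (Btab_s_116_118 c) (Nat.ble 116 c)
noncomputable def Btab_s_112_118 (c : Nat) : Nat := @Bool.rec (fun _ => Nat) (Btab_s_112_115 c) (Btab_s_115_118 c) (Nat.ble 115 c)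
noncomputable def Btab_s_106_118 (c : Nat) : Nat := @Bool.rec (fun _ => Nat) (Btab_s_106_112 c) (Btab_s_112_118 c) (Nat.ble 112 c)
noncomputable def Btab_s_95_118 (c : Nat) : Nat := @Bool.rec (fun _ => Nat) (Btab_s_95_106 c) (Btab_s_106_118 c) (Nat.ble 106 c)
noncomputable def Btab_s_119_121 (c : Nat) : Nat := @Bool.rec (fun _ => Nat) (Btab_119) (Btab_120) (Nat.ble 120 c)
noncomputable def Btab_s_118_121 (c : Nat) : Nat := @Bool.rec (fun _ => Nat) (Btab_118) (Btab_s_119_121 c) (Nat.ble 119 c)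
noncomputable def Btab_s_122_124 (c : Nat) : Nat := @Bool.rec (fun _ => Nat) (Btab_122) (Btab_123) (Nat.ble 123 c)
noncomputable def Btab_s_121_124 (c : Nat) : Nat := @Bool.rec (fun _ => Nat) (Btab_121) (Btab_s_122_124 c) (Nat.ble 122 c)
noncomputable def Btab_s_118_124 (c : Nat) : Nat := @Bool.rec (fun _ => Nat) (Btab_s_118_121 c) (Btab_s_121_124 c) (Nat.ble 121 c)
noncomputable def Btab_s_125_127 (c : Nat) : Nat := @Bool.rec (fun _ => Nat) (Btab_125) (Btab_126) (Nat.ble 126 c)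
noncomputable def Btab_s_124_127 (c : Nat) : Nat := @Bool.rec (fun _ => Nat) (Btab_124) (Btab_s_125_127 c) (Nat.ble 125 c)
noncomputable def Btab_s_128_130 (c : Nat) : Nat := @Bool.rec (fun _ => Nat) (Btab_128) (Btab_129) (Nat.ble 129 c)
noncomputable def Btab_s_127_130 (c : Nat) : Nat := @Bool.rec (fun _ => Nat) (Btab_127) (Btab_s_128_130 c) (Nat.ble 128 c)
noncomputable def Btab_s_124_130 (c : Nat) : Nat := @Bool.rec (fun _ => Nat) (Btab_s_124_127 c) (Btab_s_127_130 c) (Nat.ble 127 c)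
noncomputable def Btab_s_118_130 (c : Nat) : Nat := @Bool.rec (fun _ => Nat) (Btab_s_118_124 c) (Btab_s_124_130 c) (Nat.ble 124 c)
noncomputable def Btab_s_131_133 (c : Nat) : Nat := @Bool.rec (fun _ => Nat) (Btab_131) (Btab_132) (Nat.ble 132 c)
noncomputable def Btab_s_130_133 (c : Nat) : Nat := @Bool.rec (fun _ => Nat) (Btab_130) (Btab_s_131_133 c) (Nat.ble 131 c)
noncomputable def Btab_s_134_136 (c : Nat) : Nat := @Bool.rec (fun _ => Nat) (Btab_134) (Btab_135) (Nat.ble 135 c)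
noncomputable def Btab_s_133_136 (c : Nat) : Nat := @Bool.rec (fun _ => Nat) (Btab_133) (Btab_s_134_136 c) (Nat.ble 134 c)
noncomputable def Btab_s_130_136 (c : Nat) : Nat := @Bool.rec (fun _ => Nat) (Btab_s_130_133 c) (Btab_s_133_136 c) (Nat.ble 133 c)
noncomputable def Btab_s_137_139 (c : Nat) : Nat := @Bool.rec (fun _ => Nat) (Btab_137) (Btab_138) (Nat.ble 138 c)
noncomputable def Btab_s_136_139 (c : Nat) : Nat := @Bool.rec (fun _ => Nat) (Btab_136) (Btab_s_137_139 c) (Nat.ble 137 c)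
noncomputable def Btab_s_140_142 (c : Nat) : Nat := @Bool.rec (fun _ => Nat) (Btab_140) (Btab_141) (Nat.ble 141 c)
noncomputable def Btab_s_139_142 (c : Nat) : Nat := @Bool.rec (fun _ => Nat) (Btab_139) (Btab_s_140_142 c) (Nat.ble 140 c)
noncomputable def Btab_s_136_142 (c : Nat) : Nat := @Bool.rec (fun _ => Nat) (Btab_s_136_139 c) (Btab_s_139_142 c) (Nat.ble 139 c)
noncomputable def Btab_s_130_142 (c : Nat) : Nat := @Bool.rec (fun _ => Nat) (Btab_s_130_136 c) (Btab_s_136_142 c) (Nat.ble 136 c)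
noncomputable def Btab_s_118_142 (c : Nat) : Nat := @Bool.rec (fun _ => Nat) (Btab_s_118_130 c) (Btab_s_130_142 c) (Nat.ble 130 c)
noncomputable def Btab_s_95_142 (c : Nat) : Nat := @Bool.rec (fun _ => Nat) (Btab_s_95_118 c) (Btab_s_118_142 c) (Nat.ble 118 c)
noncomputable def Btab_s_143_145 (c : Nat) : Nat := @Bool.rec (fun _ => Nat) (Btab_143) (Btab_144) (Nat.ble 144 c)
noncomputable def Btab_s_142_145 (c : Nat) : Nat := @Bool.rec (fun _ => Nat) (Btab_142) (Btab_s_143_145 c) (Nat.ble 143 c)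
noncomputable def Btab_s_146_148 (c : Nat) : Nat := @Bool.rec (fun _ => Nat) (Btab_146) (Btab_147) (Nat.ble 147 c)
noncomputable def Btab_s_145_148 (c : Nat) : Nat := @Bool.rec (fun _ => Nat) (Btab_145) (Btab_s_146_148 c) (Nat.ble 146 c)
noncomputable def Btab_s_142_148 (c : Nat) : Nat := @Bool.rec (fun _ => Nat) (Btab_s_142_145 c) (Btab_s_145_148 c) (Nat.ble 145 c)
noncomputable def Btab_s_149_151 (c : Nat) : Nat := @Bool.rec (fun _ => Nat) (Btab_149) (Btab_150) (Nat.ble 150 c)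
noncomputable def Btab_s_148_151 (c : Nat) : Nat := @Bool.rec (fun _ => Nat) (Btab_148) (Btab_s_149_151 c) (Nat.ble 149 c)
noncomputable def Btab_s_152_154 (c : Nat) : Nat := @Bool.rec (fun _ => Nat) (Btab_152) (Btab_153) (Nat.ble 153 c)
noncomputable def Btab_s_151_154 (c : Nat) : Nat := @Bool.rec (fun _ => Nat) (Btab_151) (Btab_s_152_154 c) (Nat.ble 152 c)
noncomputable def Btab_s_148_154 (c : Nat) : Nat := @Bool.rec (fun _ => Nat) (Btab_s_148_151 c) (Btab_s_151_154 c) (Nat.ble 151 c)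
noncomputable def Btab_s_142_154 (c : Nat) : Nat := @Bool.rec (fun _ => Nat) (Btab_s_142_148 c) (Btab_s_148_154 c) (Nat.ble 148 c)
noncomputable def Btab_s_155_157 (c : Nat) : Nat := @Bool.rec (fun _ => Nat) (Btab_155) (Btab_156) (Nat.ble 156 c)
noncomputable def Btab_s_154_157 (c : Nat) : Nat := @Bool.rec (fun _ => Nat) (Btab_154) (Btab_s_155_157 c) (Nat.ble 155 c)
noncomputable def Btab_s_158_160 (c : Nat) : Nat := @Bool.rec (fun _ => Nat) (Btab_158) (Btab_159) (Nat.ble 159 c)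
noncomputable def Btab_s_157_160 (c : Nat) : Nat := @Bool.rec (fun _ => Nat) (Btab_157) (Btab_s_158_160 c) (Nat.ble 158 c)
noncomputable def Btab_s_154_160 (c : Nat) : Nat := @Bool.rec (fun _ => Nat) (Btab_s_154_157 c) (Btab_s_157_160 c) (Nat.ble 157 c)
noncomputable def Btab_s_161_163 (c : Nat) : Nat := @Bool.rec (fun _ => Nat) (Btab_161) (Btab_162) (Nat.ble 162 c)
noncomputable def Btab_s_160_163 (c : Nat) : Nat := @Bool.rec (fun _ => Nat) (Btab_160) (Btab_s_161_163 c) (Nat.ble 161 c)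
noncomputable def Btab_s_164_166 (c : Nat) : Nat := @Bool.rec (fun _ => Nat) (Btab_164) (Btab_165) (Nat.ble 165 c)
noncomputable def Btab_s_163_166 (c : Nat) : Nat := @Bool.rec (fun _ => Nat) (Btab_163) (Btab_s_164_166 c) (Nat.ble 164 c)
noncomputable def Btab_s_160_166 (c : Nat) : Nat := @Bool.rec (fun _ => Nat) (Btab_s_160_163 c) (Btab_s_163_166 c) (Nat.ble 163 c)
noncomputable def Btab_s_154_166 (c : Nat) : Nat := @Bool.rec (fun _ => Nat) (Btab_s_154_160 c) (Btab_s_160_166 c) (Nat.ble 160 c)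
noncomputable def Btab_s_142_166 (c : Nat) : Nat := @Bool.rec (fun _ => Nat) (Btab_s_142_154 c) (Btab_s_154_166 c) (Nat.ble 154 c)
noncomputable def Btab_s_167_169 (c : Nat) : Nat := @Bool.rec (fun _ => Nat) (Btab_167) (Btab_168) (Nat.ble 168 c)
noncomputable def Btab_s_166_169 (c : Nat) : Nat := @Bool.rec (fun _ => Nat) (Btab_166) (Btab_s_167_169 c) (Nat.ble 167 c)
noncomputable def Btab_s_170_172 (c : Nat) : Nat := @Bool.rec (fun _ => Nat) (Btab_170) (Btab_171) (Nat.ble 171 c)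
noncomputable def Btab_s_169_172 (c : Nat) : Nat := @Bool.rec (fun _ => Nat) (Btab_169) (Btab_s_170_172 c) (Nat.ble 170 c)
noncomputable def Btab_s_166_172 (c : Nat) : Nat := @Bool.rec (fun _ => Nat) (Btab_s_166_169 c) (Btab_s_169_172 c) (Nat.ble 169 c)
noncomputable def Btab_s_173_175 (c : Nat) : Nat := @Bool.rec (fun _ => Nat) (Btab_173) (Btab_174) (Nat.ble 174 c)
noncomputable def Btab_s_172_175 (c : Nat) : Nat := @Bool.rec (fun _ => Nat) (Btab_172) (Btab_s_173_175 c) (Nat.ble 173 c)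
noncomputable def Btab_s_176_178 (c : Nat) : Nat := @Bool.rec (fun _ => Nat) (Btab_176) (Btab_177) (Nat.ble 177 c)
noncomputable def Btab_s_175_178 (c : Nat) : Nat := @Bool.rec (fun _ => Nat) (Btab_175) (Btab_s_176_178 c) (Nat.ble 176 c)
noncomputable def Btab_s_172_178 (c : Nat) : Nat := @Bool.rec (fun _ => Nat) (Btab_s_172_175 c) (Btab_s_175_178 c) (Nat.ble 175 c)
noncomputable def Btab_s_166_178 (c : Nat) : Nat := @Bool.rec (fun _ => Nat) (Btab_s_166_172 c) (Btab_s_172_178 c) (Nat.ble 172 c)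
noncomputable def Btab_s_179_181 (c : Nat) : Nat := @Bool.rec (fun _ => Nat) (Btab_179) (Btab_180) (Nat.ble 180 c)
noncomputable def Btab_s_178_181 (c : Nat) : Nat := @Bool.rec (fun _ => Nat) (Btab_178) (Btab_s_179_181 c) (Nat.ble 179 c)
noncomputable def Btab_s_182_184 (c : Nat) : Nat := @Bool.rec (fun _ => Nat) (Btab_182) (Btab_183) (Nat.ble 183 c)
noncomputable def Btab_s_181_184 (c : Nat) : Nat := @Bool.rec (fun _ => Nat) (Btab_181) (Btab_s_182_184 c) (Nat.ble 182 c)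
noncomputable def Btab_s_178_184 (c : Nat) : Nat := @Bool.rec (fun _ => Nat) (Btab_s_178_181 c) (Btab_s_181_184 c) (Nat.ble 181 c)
noncomputable def Btab_s_185_187 (c : Nat) : Nat := @Bool.rec (fun _ => Nat) (Btab_185) (Btab_186) (Nat.ble 186 c)
noncomputable def Btab_s_184_187 (c : Nat) : Nat := @Bool.rec (fun _ => Nat) (Btab_184) (Btab_s_185_187 c) (Nat.ble 185 c)
noncomputable def Btab_s_188_190 (c : Nat) : Nat := @Bool.rec (fun _ => Nat) (Btab_188) (Btab_189) (Nat.ble 189 c)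
noncomputable def Btab_s_187_190 (c : Nat) : Nat := @Bool.rec (fun _ => Nat) (Btab_187) (Btab_s_188_190 c) (Nat.ble 188 c)
noncomputable def Btab_s_184_190 (c : Nat) : Nat := @Bool.rec (fun _ => Nat) (Btab_s_184_187 c) (Btab_s_187_190 c) (Nat.ble 187 c)
noncomputable def Btab_s_178_190 (c : Nat) : Nat := @Bool.rec (fun _ => Nat) (Btab_s_178_184 c) (Btab_s_184_190 c) (Nat.ble 184 c)
noncomputable def Btab_s_166_190 (c : Nat) : Nat := @Bool.rec (fun _ => Nat) (Btab_s_166_178 c) (Btab_s_178_190 c) (Nat.ble 178 c)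
noncomputable def Btab_s_142_190 (c : Nat) : Nat := @Bool.rec (fun _ => Nat) (Btab_s_142_166 c) (Btab_s_166_190 c) (Nat.ble 166 c)
noncomputable def Btab_s_95_190 (c : Nat) : Nat := @Bool.rec (fun _ => Nat) (Btab_s_95_142 c) (Btab_s_142_190 c) (Nat.ble 142 c)
noncomputable def Btab_s_0_190 (c : Nat) : Nat := @Bool.rec (fun _ => Nat) (Btab_s_0_95 c) (Btab_s_95_190 c) (Nat.ble 95 c)
noncomputable def Btab_s_190_192 (c : Nat) : Nat := @Bool.rec (fun _ => Nat) (Btab_190) (Btab_191) (Nat.ble 191 c)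
noncomputable def Btab_s_193_195 (c : Nat) : Nat := @Bool.rec (fun _ => Nat) (Btab_193) (Btab_194) (Nat.ble 194 c)
noncomputable def Btab_s_192_195 (c : Nat) : Nat := @Bool.rec (fun _ => Nat) (Btab_192) (Btab_s_193_195 c) (Nat.ble 193 c)
noncomputable def Btab_s_190_195 (c : Nat) : Nat := @Bool.rec (fun _ => Nat) (Btab_s_190_192 c) (Btab_s_192_195 c) (Nat.ble 192 c)
noncomputable def Btab_s_196_198 (c : Nat) : Nat := @Bool.rec (fun _ => Nat) (Btab_196) (Btab_197) (Nat.ble 197 c)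
noncomputable def Btab_s_195_198 (c : Nat) : Nat := @Bool.rec (fun _ => Nat) (Btab_195) (Btab_s_196_198 c) (Nat.ble 196 c)
noncomputable def Btab_s_199_201 (c : Nat) : Nat := @Bool.rec (fun _ => Nat) (Btab_199) (Btab_200) (Nat.ble 200 c)
noncomputable def Btab_s_198_201 (c : Nat) : Nat := @Bool.rec (fun _ => Nat) (Btab_198) (Btab_s_199_201 c) (Nat.ble 199 c)
noncomputable def Btab_s_195_201 (c : Nat) : Nat := @Bool.rec (fun _ => Nat) (Btab_s_195_198 c) (Btab_s_198_201 c) (Nat.ble 198 c)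
noncomputable def Btab_s_190_201 (c : Nat) : Nat := @Bool.rec (fun _ => Nat) (Btab_s_190_195 c) (Btab_s_195_201 c) (Nat.ble 195 c)
noncomputable def Btab_s_202_204 (c : Nat) : Nat := @Bool.rec (fun _ => Nat) (Btab_202) (Btab_203) (Nat.ble 203 c)
noncomputable def Btab_s_201_204 (c : Nat) : Nat := @Bool.rec (fun _ => Nat) (Btab_201) (Btab_s_202_204 c) (Nat.ble 202 c)
noncomputable def Btab_s_205_207 (c : Nat) : Nat := @Bool.rec (fun _ => Nat) (Btab_205) (Btab_206) (Nat.ble 206 c)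
noncomputable def Btab_s_204_207 (c : Nat) : Nat := @Bool.rec (fun _ => Nat) (Btab_204) (Btab_s_205_207 c) (Nat.ble 205 c)
noncomputable def Btab_s_201_207 (c : Nat) : Nat := @Bool.rec (fun _ => Nat) (Btab_s_201_204 c) (Btab_s_204_207 c) (Nat.ble 204 c)
noncomputable def Btab_s_208_210 (c : Nat) : Nat := @Bool.rec (fun _ => Nat) (Btab_208) (Btab_209) (Nat.ble 209 c)
noncomputable def Btab_s_207_210 (c : Nat) : Nat := @Bool.rec (fun _ => Nat) (Btab_207) (Btab_s_208_210 c) (Nat.ble 208 c)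
noncomputable def Btab_s_211_213 (c : Nat) : Nat := @Bool.rec (fun _ => Nat) (Btab_211) (Btab_212) (Nat.ble 212 c)
noncomputable def Btab_s_210_213 (c : Nat) : Nat := @Bool.rec (fun _ => Nat) (Btab_210) (Btab_s_211_213 c) (Nat.ble 211 c)
noncomputable def Btab_s_207_213 (c : Nat) : Nat := @Bool.rec (fun _ => Nat) (Btab_s_207_210 c) (Btab_s_210_213 c) (Nat.ble 210 c)
noncomputable def Btab_s_201_213 (c : Nat) : Nat := @Bool.rec (fun _ => Nat) (Btab_s_201_207 c) (Btab_s_207_213 c) (Nat.ble 207 c)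
noncomputable def Btab_s_190_213 (c : Nat) : Nat := @Bool.rec (fun _ => Nat) (Btab_s_190_201 c) (Btab_s_201_213 c) (Nat.ble 201 c)
noncomputable def Btab_s_214_216 (c : Nat) : Nat := @Bool.rec (fun _ => Nat) (Btab_214) (Btab_215) (Nat.ble 215 c)
noncomputable def Btab_s_213_216 (c : Nat) : Nat := @Bool.rec (fun _ => Nat) (Btab_213) (Btab_s_214_216 c) (Nat.ble 214 c)
noncomputable def Btab_s_217_219 (c : Nat) : Nat := @Bool.rec (fun _ => Nat) (Btab_217) (Btab_218) (Nat.ble 218 c)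
noncomputable def Btab_s_216_219 (c : Nat) : Nat := @Bool.rec (fun _ => Nat) (Btab_216) (Btab_s_217_219 c) (Nat.ble 217 c)
noncomputable def Btab_s_213_219 (c : Nat) : Nat := @Bool.rec (fun _ => Nat) (Btab_s_213_216 c) (Btab_s_216_219 c) (Nat.ble 216 c)
noncomputable def Btab_s_220_222 (c : Nat) : Nat := @Bool.rec (fun _ => Nat) (Btab_220) (Btab_221) (Nat.ble 221 c)
noncomputable def Btab_s_219_222 (c : Nat) : Nat := @Bool.rec (fun _ => Nat) (Btab_219) (Btab_s_220_222 c) (Nat.ble 220 c)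
noncomputable def Btab_s_223_225 (c : Nat) : Nat := @Bool.rec (fun _ => Nat) (Btab_223) (Btab_224) (Nat.ble 224 c)
noncomputable def Btab_s_222_225 (c : Nat) : Nat := @Bool.rec (fun _ => Nat) (Btab_222) (Btab_s_223_225 c) (Nat.ble 223 c)
noncomputable def Btab_s_219_225 (c : Nat) : Nat := @Bool.rec (fun _ => Nat) (Btab_s_219_222 c) (Btab_s_222_225 c) (Nat.ble 222 c)
noncomputable def Btab_s_213_225 (c : Nat) : Nat := @Bool.rec (fun _ => Nat) (Btab_s_213_219 c) (Btab_s_219_225 c) (Nat.ble 219 c)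
noncomputable def Btab_s_226_228 (c : Nat) : Nat := @Bool.rec (fun _ => Nat) (Btab_226) (Btab_227) (Nat.ble 227 c)
noncomputable def Btab_s_225_228 (c : Nat) : Nat := @Bool.rec (fun _ => Nat) (Btab_225) (Btab_s_226_228 c) (Nat.ble 226 c)
noncomputable def Btab_s_229_231 (c : Nat) : Nat := @Bool.rec (fun _ => Nat) (Btab_229) (Btab_230) (Nat.ble 230 c)
noncomputable def Btab_s_228_231 (c : Nat) : Nat := @Bool.rec (fun _ => Nat) (Btab_228) (Btab_s_229_231 c) (Nat.ble 229 c)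
noncomputable def Btab_s_225_231 (c : Nat) : Nat := @Bool.rec (fun _ => Nat) (Btab_s_225_228 c) (Btab_s_228_231 c) (Nat.ble 228 c)
noncomputable def Btab_s_232_234 (c : Nat) : Nat := @Bool.rec (fun _ => Nat) (Btab_232) (Btab_233) (Nat.ble 233 c)
noncomputable def Btab_s_231_234 (c : Nat) : Nat := @Bool.rec (fun _ => Nat) (Btab_231) (Btab_s_232_234 c) (Nat.ble 232 c)
noncomputable def Btab_s_235_237 (c : Nat) : Nat := @Bool.rec (fun _ => Nat) (Btab_235) (Btab_236) (Nat.ble 236 c)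
noncomputable def Btab_s_234_237 (c : Nat) : Nat := @Bool.rec (fun _ => Nat) (Btab_234) (Btab_s_235_237 c) (Nat.ble 235 c)
noncomputable def Btab_s_231_237 (c : Nat) : Nat := @Bool.rec (fun _ => Nat) (Btab_s_231_234 c) (Btab_s_234_237 c) (Nat.ble 234 c)
noncomputable def Btab_s_225_237 (c : Nat) : Nat := @Bool.rec (fun _ => Nat) (Btab_s_225_231 c) (Btab_s_231_237 c) (Nat.ble 231 c)
noncomputable def Btab_s_213_237 (c : Nat) : Nat := @Bool.rec (fun _ => Nat) (Btab_s_213_225 c) (Btab_s_225_237 c) (Nat.ble 225 c)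
noncomputable def Btab_s_190_237 (c : Nat) : Nat := @Bool.rec (fun _ => Nat) (Btab_s_190_213 c) (Btab_s_213_237 c) (Nat.ble 213 c)
noncomputable def Btab_s_238_240 (c : Nat) : Nat := @Bool.rec (fun _ => Nat) (Btab_238) (Btab_239) (Nat.ble 239 c)
noncomputable def Btab_s_237_240 (c : Nat) : Nat := @Bool.rec (fun _ => Nat) (Btab_237) (Btab_s_238_240 c) (Nat.ble 238 c)
noncomputable def Btab_s_241_243 (c : Nat) : Nat := @Bool.rec (fun _ => Nat) (Btab_241) (Btab_242) (Nat.ble 242 c)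
noncomputable def Btab_s_240_243 (c : Nat) : Nat := @Bool.rec (fun _ => Nat) (Btab_240) (Btab_s_241_243 c) (Nat.ble 241 c)
noncomputable def Btab_s_237_243 (c : Nat) : Nat := @Bool.rec (fun _ => Nat) (Btab_s_237_240 c) (Btab_s_240_243 c) (Nat.ble 240 c)
noncomputable def Btab_s_244_246 (c : Nat) : Nat := @Bool.rec (fun _ => Nat) (Btab_244) (Btab_245) (Nat.ble 245 c)
noncomputable def Btab_s_243_246 (c : Nat) : Nat := @Bool.rec (fun _ => Nat) (Btab_243) (Btab_s_244_246 c) (Nat.ble 244 c)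
noncomputable def Btab_s_247_249 (c : Nat) : Nat := @Bool.rec (fun _ => Nat) (Btab_247) (Btab_248) (Nat.ble 248 c)
noncomputable def Btab_s_246_249 (c : Nat) : Nat := @Bool.rec (fun _ => Nat) (Btab_246) (Btab_s_247_249 c) (Nat.ble 247 c)
noncomputable def Btab_s_243_249 (c : Nat) : Nat := @Bool.rec (fun _ => Nat) (Btab_s_243_246 c) (Btab_s_246_249 c) (Nat.ble 246 c)
noncomputable def Btab_s_237_249 (c : Nat) : Nat := @Bool.rec (fun _ => Nat) (Btab_s_237_243 c) (Btab_s_243_249 c) (Nat.ble 243 c)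
noncomputable def Btab_s_250_252 (c : Nat) : Nat := @Bool.rec (fun _ => Nat) (Btab_250) (Btab_251) (Nat.ble 251 c)
noncomputable def Btab_s_249_252 (c : Nat) : Nat := @Bool.rec (fun _ => Nat) (Btab_249) (Btab_s_250_252 c) (Nat.ble 250 c)
noncomputable def Btab_s_253_255 (c : Nat) : Nat := @Bool.rec (fun _ => Nat) (Btab_253) (Btab_254) (Nat.ble 254 c)
noncomputable def Btab_s_252_255 (c : Nat) : Nat := @Bool.rec (fun _ => Nat) (Btab_252) (Btab_s_253_255 c) (Nat.ble 253 c)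
noncomputable def Btab_s_249_255 (c : Nat) : Nat := @Bool.rec (fun _ => Nat) (Btab_s_249_252 c) (Btab_s_252_255 c) (Nat.ble 252 c)
noncomputable def Btab_s_256_258 (c : Nat) : Nat := @Bool.rec (fun _ => Nat) (Btab_256) (Btab_257) (Nat.ble 257 c)
noncomputable def Btab_s_255_258 (c : Nat) : Nat := @Bool.rec (fun _ => Nat) (Btab_255) (Btab_s_256_258 c) (Nat.ble 256 c)
noncomputable def Btab_s_259_261 (c : Nat) : Nat := @Bool.rec (fun _ => Nat) (Btab_259) (Btab_260) (Nat.ble 260 c)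
noncomputable def Btab_s_258_261 (c : Nat) : Nat := @Bool.rec (fun _ => Nat) (Btab_258) (Btab_s_259_261 c) (Nat.ble 259 c)
noncomputable def Btab_s_255_261 (c : Nat) : Nat := @Bool.rec (fun _ => Nat) (Btab_s_255_258 c) (Btab_s_258_261 c) (Nat.ble 258 c)
noncomputable def Btab_s_249_261 (c : Nat) : Nat := @Bool.rec (fun _ => Nat) (Btab_s_249_255 c) (Btab_s_255_261 c) (Nat.ble 255 c)
noncomputable def Btab_s_237_261 (c : Nat) : Nat := @Bool.rec (fun _ => Nat) (Btab_s_237_249 c) (Btab_s_249_261 c) (Nat.ble 249 c)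
noncomputable def Btab_s_262_264 (c : Nat) : Nat := @Bool.rec (fun _ => Nat) (Btab_262) (Btab_263) (Nat.ble 263 c)
noncomputable def Btab_s_261_264 (c : Nat) : Nat := @Bool.rec (fun _ => Nat) (Btab_261) (Btab_s_262_264 c) (Nat.ble 262 c)
noncomputable def Btab_s_265_267 (c : Nat) : Nat := @Bool.rec (fun _ => Nat) (Btab_265) (Btab_266) (Nat.ble 266 c)
noncomputable def Btab_s_264_267 (c : Nat) : Nat := @Bool.rec (fun _ => Nat) (Btab_264) (Btab_s_265_267 c) (Nat.ble 265 c)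
noncomputable def Btab_s_261_267 (c : Nat) : Nat := @Bool.rec (fun _ => Nat) (Btab_s_261_264 c) (Btab_s_264_267 c) (Nat.ble 264 c)
noncomputable def Btab_s_268_270 (c : Nat) : Nat := @Bool.rec (fun _ => Nat) (Btab_268) (Btab_269) (Nat.ble 269 c)
noncomputable def Btab_s_267_270 (c : Nat) : Nat := @Bool.rec (fun _ => Nat) (Btab_267) (Btab_s_268_270 c) (Nat.ble 268 c)
noncomputable def Btab_s_271_273 (c : Nat) : Nat := @Bool.rec (fun _ => Nat) (Btab_271) (Btab_272) (Nat.ble 272 c)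
noncomputable def Btab_s_270_273 (c : Nat) : Nat := @Bool.rec (fun _ => Nat) (Btab_270) (Btab_s_271_273 c) (Nat.ble 271 c)
noncomputable def Btab_s_267_273 (c : Nat) : Nat := @Bool.rec (fun _ => Nat) (Btab_s_267_270 c) (Btab_s_270_273 c) (Nat.ble 270 c)
noncomputable def Btab_s_261_273 (c : Nat) : Nat := @Bool.rec (fun _ => Nat) (Btab_s_261_267 c) (Btab_s_267_273 c) (Nat.ble 267 c)
noncomputable def Btab_s_274_276 (c : Nat) : Nat := @Bool.rec (fun _ => Nat) (Btab_274) (Btab_275) (Nat.ble 275 c)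
noncomputable def Btab_s_273_276 (c : Nat) : Nat := @Bool.rec (fun _ => Nat) (Btab_273) (Btab_s_274_276 c) (Nat.ble 274 c)
noncomputable def Btab_s_277_279 (c : Nat) : Nat := @Bool.rec (fun _ => Nat) (Btab_277) (Btab_278) (Nat.ble 278 c)
noncomputable def Btab_s_276_279 (c : Nat) : Nat := @Bool.rec (fun _ => Nat) (Btab_276) (Btab_s_277_279 c) (Nat.ble 277 c)
noncomputable def Btab_s_273_279 (c : Nat) : Nat := @Bool.rec (fun _ => Nat) (Btab_s_273_276 c) (Btab_s_276_279 c) (Nat.ble 276 c)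
noncomputable def Btab_s_280_282 (c : Nat) : Nat := @Bool.rec (fun _ => Nat) (Btab_280) (Btab_281) (Nat.ble 281 c)
noncomputable def Btab_s_279_282 (c : Nat) : Nat := @Bool.rec (fun _ => Nat) (Btab_279) (Btab_s_280_282 c) (Nat.ble 280 c)
noncomputable def Btab_s_283_285 (c : Nat) : Nat := @Bool.rec (fun _ => Nat) (Btab_283) (Btab_284) (Nat.ble 284 c)
noncomputable def Btab_s_282_285 (c : Nat) : Nat := @Bool.rec (fun _ => Nat) (Btab_282) (Btab_s_283_285 c) (Nat.ble 283 c)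
noncomputable def Btab_s_279_285 (c : Nat) : Nat := @Bool.rec (fun _ => Nat) (Btab_s_279_282 c) (Btab_s_282_285 c) (Nat.ble 282 c)
noncomputable def Btab_s_273_285 (c : Nat) : Nat := @Bool.rec (fun _ => Nat) (Btab_s_273_279 c) (Btab_s_279_285 c) (Nat.ble 279 c)
noncomputable def Btab_s_261_285 (c : Nat) : Nat := @Bool.rec (fun _ => Nat) (Btab_s_261_273 c) (Btab_s_273_285 c) (Nat.ble 273 c)
noncomputable def Btab_s_237_285 (c : Nat) : Nat := @Bool.rec (fun _ => Nat) (Btab_s_237_261 c) (Btab_s_261_285 c) (Nat.ble 261 c)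
noncomputable def Btab_s_190_285 (c : Nat) : Nat := @Bool.rec (fun _ => Nat) (Btab_s_190_237 c) (Btab_s_237_285 c) (Nat.ble 237 c)
noncomputable def Btab_s_286_288 (c : Nat) : Nat := @Bool.rec (fun _ => Nat) (Btab_286) (Btab_287) (Nat.ble 287 c)
noncomputable def Btab_s_285_288 (c : Nat) : Nat := @Bool.rec (fun _ => Nat) (Btab_285) (Btab_s_286_288 c) (Nat.ble 286 c)
noncomputable def Btab_s_289_291 (c : Nat) : Nat := @Bool.rec (fun _ => Nat) (Btab_289) (Btab_290) (Nat.ble 290 c)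
noncomputable def Btab_s_288_291 (c : Nat) : Nat := @Bool.rec (fun _ => Nat) (Btab_288) (Btab_s_289_291 c) (Nat.ble 289 c)
noncomputable def Btab_s_285_291 (c : Nat) : Nat := @Bool.rec (fun _ => Nat) (Btab_s_285_288 c) (Btab_s_288_291 c) (Nat.ble 288 c)
noncomputable def Btab_s_292_294 (c : Nat) : Nat := @Bool.rec (fun _ => Nat) (Btab_292) (Btab_293) (Nat.ble 293 c)
noncomputable def Btab_s_291_294 (c : Nat) : Nat := @Bool.rec (fun _ => Nat) (Btab_291) (Btab_s_292_294 c) (Nat.ble 292 c)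
noncomputable def Btab_s_295_297 (c : Nat) : Nat := @Bool.rec (fun _ => Nat) (Btab_295) (Btab_296) (Nat.ble 296 c)
noncomputable def Btab_s_294_297 (c : Nat) : Nat := @Bool.rec (fun _ => Nat) (Btab_294) (Btab_s_295_297 c) (Nat.ble 295 c)
noncomputable def Btab_s_291_297 (c : Nat) : Nat := @Bool.rec (fun _ => Nat) (Btab_s_291_294 c) (Btab_s_294_297 c) (Nat.ble 294 c)
noncomputable def Btab_s_285_297 (c : Nat) : Nat := @Bool.rec (fun _ => Nat) (Btab_s_285_291 c) (Btab_s_291_297 c) (Nat.ble 291 c)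
noncomputable def Btab_s_298_300 (c : Nat) : Nat := @Bool.rec (fun _ => Nat) (Btab_298) (Btab_299) (Nat.ble 299 c)
noncomputable def Btab_s_297_300 (c : Nat) : Nat := @Bool.rec (fun _ => Nat) (Btab_297) (Btab_s_298_300 c) (Nat.ble 298 c)
noncomputable def Btab_s_301_303 (c : Nat) : Nat := @Bool.rec (fun _ => Nat) (Btab_301) (Btab_302) (Nat.ble 302 c)
noncomputable def Btab_s_300_303 (c : Nat) : Nat := @Bool.rec (fun _ => Nat) (Btab_300) (Btab_s_301_303 c) (Nat.ble 301 c)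
noncomputable def Btab_s_297_303 (c : Nat) : Nat := @Bool.rec (fun _ => Nat) (Btab_s_297_300 c) (Btab_s_300_303 c) (Nat.ble 300 c)
noncomputable def Btab_s_304_306 (c : Nat) : Nat := @Bool.rec (fun _ => Nat) (Btab_304) (Btab_305) (Nat.ble 305 c)
noncomputable def Btab_s_303_306 (c : Nat) : Nat := @Bool.rec (fun _ => Nat) (Btab_303) (Btab_s_304_306 c) (Nat.ble 304 c)
noncomputable def Btab_s_307_309 (c : Nat) : Nat := @Bool.rec (fun _ => Nat) (Btab_307) (Btab_308) (Nat.ble 308 c)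
noncomputable def Btab_s_306_309 (c : Nat) : Nat := @Bool.rec (fun _ => Nat) (Btab_306) (Btab_s_307_309 c) (Nat.ble 307 c)
noncomputable def Btab_s_303_309 (c : Nat) : Nat := @Bool.rec (fun _ => Nat) (Btab_s_303_306 c) (Btab_s_306_309 c) (Nat.ble 306 c)
noncomputable def Btab_s_297_309 (c : Nat) : Nat := @Bool.rec (fun _ => Nat) (Btab_s_297_303 c) (Btab_s_303_309 c) (Nat.ble 303 c)
noncomputable def Btab_s_285_309 (c : Nat) : Nat := @Bool.rec (fun _ => Nat) (Btab_s_285_297 c) (Btab_s_297_309 c) (Nat.ble 297 c)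
noncomputable def Btab_s_310_312 (c : Nat) : Nat := @Bool.rec (fun _ => Nat) (Btab_310) (Btab_311) (Nat.ble 311 c)
noncomputable def Btab_s_309_312 (c : Nat) : Nat := @Bool.rec (fun _ => Nat) (Btab_309) (Btab_s_310_312 c) (Nat.ble 310 c)
noncomputable def Btab_s_313_315 (c : Nat) : Nat := @Bool.rec (fun _ => Nat) (Btab_313) (Btab_314) (Nat.ble 314 c)
noncomputable def Btab_s_312_315 (c : Nat) : Nat := @Bool.rec (fun _ => Nat) (Btab_312) (Btab_s_313_315 c) (Nat.ble 313 c)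
noncomputable def Btab_s_309_315 (c : Nat) : Nat := @Bool.rec (fun _ => Nat) (Btab_s_309_312 c) (Btab_s_312_315 c) (Nat.ble 312 c)
noncomputable def Btab_s_316_318 (c : Nat) : Nat := @Bool.rec (fun _ => Nat) (Btab_316) (Btab_317) (Nat.ble 317 c)
noncomputable def Btab_s_315_318 (c : Nat) : Nat := @Bool.rec (fun _ => Nat) (Btab_315) (Btab_s_316_318 c) (Nat.ble 316 c)
noncomputable def Btab_s_319_321 (c : Nat) : Nat := @Bool.rec (fun _ => Nat) (Btab_319) (Btab_320) (Nat.ble 320 c)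
noncomputable def Btab_s_318_321 (c : Nat) : Nat := @Bool.rec (fun _ => Nat) (Btab_318) (Btab_s_319_321 c) (Nat.ble 319 c)
noncomputable def Btab_s_315_321 (c : Nat) : Nat := @Bool.rec (fun _ => Nat) (Btab_s_315_318 c) (Btab_s_318_321 c) (Nat.ble 318 c)
noncomputable def Btab_s_309_321 (c : Nat) : Nat := @Bool.rec (fun _ => Nat) (Btab_s_309_315 c) (Btab_s_315_321 c) (Nat.ble 315 c)
noncomputable def Btab_s_322_324 (c : Nat) : Nat := @Bool.rec (fun _ => Nat) (Btab_322) (Btab_323) (Nat.ble 323 c)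
noncomputable def Btab_s_321_324 (c : Nat) : Nat := @Bool.rec (fun _ => Nat) (Btab_321) (Btab_s_322_324 c) (Nat.ble 322 c)
noncomputable def Btab_s_325_327 (c : Nat) : Nat := @Bool.rec (fun _ => Nat) (Btab_325) (Btab_326) (Nat.ble 326 c)
noncomputable def Btab_s_324_327 (c : Nat) : Nat := @Bool.rec (fun _ => Nat) (Btab_324) (Btab_s_325_327 c) (Nat.ble 325 c)
noncomputable def Btab_s_321_327 (c : Nat) : Nat := @Bool.rec (fun _ => Nat) (Btab_s_321_324 c) (Btab_s_324_327 c) (Nat.ble 324 c)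
noncomputable def Btab_s_328_330 (c : Nat) : Nat := @Bool.rec (fun _ => Nat) (Btab_328) (Btab_329) (Nat.ble 329 c)
noncomputable def Btab_s_327_330 (c : Nat) : Nat := @Bool.rec (fun _ => Nat) (Btab_327) (Btab_s_328_330 c) (Nat.ble 328 c)
noncomputable def Btab_s_331_333 (c : Nat) : Nat := @Bool.rec (fun _ => Nat) (Btab_331) (Btab_332) (Nat.ble 332 c)
noncomputable def Btab_s_330_333 (c : Nat) : Nat := @Bool.rec (fun _ => Nat) (Btab_330) (Btab_s_331_333 c) (Nat.ble 331 c)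
noncomputable def Btab_s_327_333 (c : Nat) : Nat := @Bool.rec (fun _ => Nat) (Btab_s_327_330 c) (Btab_s_330_333 c) (Nat.ble 330 c)
noncomputable def Btab_s_321_333 (c : Nat) : Nat := @Bool.rec (fun _ => Nat) (Btab_s_321_327 c) (Btab_s_327_333 c) (Nat.ble 327 c)
noncomputable def Btab_s_309_333 (c : Nat) : Nat := @Bool.rec (fun _ => Nat) (Btab_s_309_321 c) (Btab_s_321_333 c) (Nat.ble 321 c)
noncomputable def Btab_s_285_333 (c : Nat) : Nat := @Bool.rec (fun _ => Nat) (Btab_s_285_309 c) (Btab_s_309_333 c) (Nat.ble 309 c)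
noncomputable def Btab_s_334_336 (c : Nat) : Nat := @Bool.rec (fun _ => Nat) (Btab_334) (Btab_335) (Nat.ble 335 c)
noncomputable def Btab_s_333_336 (c : Nat) : Nat := @Bool.rec (fun _ => Nat) (Btab_333) (Btab_s_334_336 c) (Nat.ble 334 c)
noncomputable def Btab_s_337_339 (c : Nat) : Nat := @Bool.rec (fun _ => Nat) (Btab_337) (Btab_338) (Nat.ble 338 c)
noncomputable def Btab_s_336_339 (c : Nat) : Nat := @Bool.rec (fun _ => Nat) (Btab_336) (Btab_s_337_339 c) (Nat.ble 337 c)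
noncomputable def Btab_s_333_339 (c : Nat) : Nat := @Bool.rec (fun _ => Nat) (Btab_s_333_336 c) (Btab_s_336_339 c) (Nat.ble 336 c)
noncomputable def Btab_s_340_342 (c : Nat) : Nat := @Bool.rec (fun _ => Nat) (Btab_340) (Btab_341) (Nat.ble 341 c)
noncomputable def Btab_s_339_342 (c : Nat) : Nat := @Bool.rec (fun _ => Nat) (Btab_339) (Btab_s_340_342 c) (Nat.ble 340 c)
noncomputable def Btab_s_343_345 (c : Nat) : Nat := @Bool.rec (fun _ => Nat) (Btab_343) (Btab_344) (Nat.ble 344 c)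
noncomputable def Btab_s_342_345 (c : Nat) : Nat := @Bool.rec (fun _ => Nat) (Btab_342) (Btab_s_343_345 c) (Nat.ble 343 c)
noncomputable def Btab_s_339_345 (c : Nat) : Nat := @Bool.rec (fun _ => Nat) (Btab_s_339_342 c) (Btab_s_342_345 c) (Nat.ble 342 c)
noncomputable def Btab_s_333_345 (c : Nat) : Nat := @Bool.rec (fun _ => Nat) (Btab_s_333_339 c) (Btab_s_339_345 c) (Nat.ble 339 c)
noncomputable def Btab_s_346_348 (c : Nat) : Nat := @Bool.rec (fun _ => Nat) (Btab_346) (Btab_347) (Nat.ble 347 c)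
noncomputable def Btab_s_345_348 (c : Nat) : Nat := @Bool.rec (fun _ => Nat) (Btab_345) (Btab_s_346_348 c) (Nat.ble 346 c)
noncomputable def Btab_s_349_351 (c : Nat) : Nat := @Bool.rec (fun _ => Nat) (Btab_349) (Btab_350) (Nat.ble 350 c)
noncomputable def Btab_s_348_351 (c : Nat) : Nat := @Bool.rec (fun _ => Nat) (Btab_348) (Btab_s_349_351 c) (Nat.ble 349 c)
noncomputable def Btab_s_345_351 (c : Nat) : Nat := @Bool.rec (fun _ => Nat) (Btab_s_345_348 c) (Btab_s_348_351 c) (Nat.ble 348 c)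
noncomputable def Btab_s_352_354 (c : Nat) : Nat := @Bool.rec (fun _ => Nat) (Btab_352) (Btab_353) (Nat.ble 353 c)
noncomputable def Btab_s_351_354 (c : Nat) : Nat := @Bool.rec (fun _ => Nat) (Btab_351) (Btab_s_352_354 c) (Nat.ble 352 c)
noncomputable def Btab_s_355_357 (c : Nat) : Nat := @Bool.rec (fun _ => Nat) (Btab_355) (Btab_356) (Nat.ble 356 c)
noncomputable def Btab_s_354_357 (c : Nat) : Nat := @Bool.rec (fun _ => Nat) (Btab_354) (Btab_s_355_357 c) (Nat.ble 355 c)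
noncomputable def Btab_s_351_357 (c : Nat) : Nat := @Bool.rec (fun _ => Nat) (Btab_s_351_354 c) (Btab_s_354_357 c) (Nat.ble 354 c)
noncomputable def Btab_s_345_357 (c : Nat) : Nat := @Bool.rec (fun _ => Nat) (Btab_s_345_351 c) (Btab_s_351_357 c) (Nat.ble 351 c)
noncomputable def Btab_s_333_357 (c : Nat) : Nat := @Bool.rec (fun _ => Nat) (Btab_s_333_345 c) (Btab_s_345_357 c) (Nat.ble 345 c)
noncomputable def Btab_s_358_360 (c : Nat) : Nat := @Bool.rec (fun _ => Nat) (Btab_358) (Btab_359) (Nat.ble 359 c)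
noncomputable def Btab_s_357_360 (c : Nat) : Nat := @Bool.rec (fun _ => Nat) (Btab_357) (Btab_s_358_360 c) (Nat.ble 358 c)
noncomputable def Btab_s_361_363 (c : Nat) : Nat := @Bool.rec (fun _ => Nat) (Btab_361) (Btab_362) (Nat.ble 362 c)
noncomputable def Btab_s_360_363 (c : Nat) : Nat := @Bool.rec (fun _ => Nat) (Btab_360) (Btab_s_361_363 c) (Nat.ble 361 c)
noncomputable def Btab_s_357_363 (c : Nat) : Nat := @Bool.rec (fun _ => Nat) (Btab_s_357_360 c) (Btab_s_360_363 c) (Nat.ble 360 c)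
noncomputable def Btab_s_364_366 (c : Nat) : Nat := @Bool.rec (fun _ => Nat) (Btab_364) (Btab_365) (Nat.ble 365 c)
noncomputable def Btab_s_363_366 (c : Nat) : Nat := @Bool.rec (fun _ => Nat) (Btab_363) (Btab_s_364_366 c) (Nat.ble 364 c)
noncomputable def Btab_s_367_369 (c : Nat) : Nat := @Bool.rec (fun _ => Nat) (Btab_367) (Btab_368) (Nat.ble 368 c)
noncomputable def Btab_s_366_369 (c : Nat) : Nat := @Bool.rec (fun _ => Nat) (Btab_366) (Btab_s_367_369 c) (Nat.ble 367 c)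
noncomputable def Btab_s_363_369 (c : Nat) : Nat := @Bool.rec (fun _ => Nat) (Btab_s_363_366 c) (Btab_s_366_369 c) (Nat.ble 366 c)
noncomputable def Btab_s_357_369 (c : Nat) : Nat := @Bool.rec (fun _ => Nat) (Btab_s_357_363 c) (Btab_s_363_369 c) (Nat.ble 363 c)
noncomputable def Btab_s_370_372 (c : Nat) : Nat := @Bool.rec (fun _ => Nat) (Btab_370) (Btab_371) (Nat.ble 371 c)
noncomputable def Btab_s_369_372 (c : Nat) : Nat := @Bool.rec (fun _ => Nat) (Btab_369) (Btab_s_370_372 c) (Nat.ble 370 c)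
noncomputable def Btab_s_373_375 (c : Nat) : Nat := @Bool.rec (fun _ => Nat) (Btab_373) (Btab_374) (Nat.ble 374 c)
noncomputable def Btab_s_372_375 (c : Nat) : Nat := @Bool.rec (fun _ => Nat) (Btab_372) (Btab_s_373_375 c) (Nat.ble 373 c)
noncomputable def Btab_s_369_375 (c : Nat) : Nat := @Bool.rec (fun _ => Nat) (Btab_s_369_372 c) (Btab_s_372_375 c) (Nat.ble 372 c)
noncomputable def Btab_s_376_378 (c : Nat) : Nat := @Bool.rec (fun _ => Nat) (Btab_376) (Btab_377) (Nat.ble 377 c)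
noncomputable def Btab_s_375_378 (c : Nat) : Nat := @Bool.rec (fun _ => Nat) (Btab_375) (Btab_s_376_378 c) (Nat.ble 376 c)
noncomputable def Btab_s_379_381 (c : Nat) : Nat := @Bool.rec (fun _ => Nat) (Btab_379) (Btab_380) (Nat.ble 380 c)
noncomputable def Btab_s_378_381 (c : Nat) : Nat := @Bool.rec (fun _ => Nat) (Btab_378) (Btab_s_379_381 c) (Nat.ble 379 c)
noncomputable def Btab_s_375_381 (c : Nat) : Nat := @Bool.rec (fun _ => Nat) (Btab_s_375_378 c) (Btab_s_378_381 c) (Nat.ble 378 c)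
noncomputable def Btab_s_369_381 (c : Nat) : Nat := @Bool.rec (fun _ => Nat) (Btab_s_369_375 c) (Btab_s_375_381 c) (Nat.ble 375 c)
noncomputable def Btab_s_357_381 (c : Nat) : Nat := @Bool.rec (fun _ => Nat) (Btab_s_357_369 c) (Btab_s_369_381 c) (Nat.ble 369 c)
noncomputable def Btab_s_333_381 (c : Nat) : Nat := @Bool.rec (fun _ => Nat) (Btab_s_333_357 c) (Btab_s_357_381 c) (Nat.ble 357 c)
noncomputable def Btab_s_285_381 (c : Nat) : Nat := @Bool.rec (fun _ => Nat) (Btab_s_285_333 c) (Btab_s_333_381 c) (Nat.ble 333 c)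
noncomputable def Btab_s_190_381 (c : Nat) : Nat := @Bool.rec (fun _ => Nat) (Btab_s_190_285 c) (Btab_s_285_381 c) (Nat.ble 285 c)
noncomputable def Btab_s_0_381 (c : Nat) : Nat := @Bool.rec (fun _ => Nat) (Btab_s_0_190 c) (Btab_s_190_381 c) (Nat.ble 190 c)
noncomputable def Btab (i : Nat) : Nat := rdw 44 17592186044415 (Btab_s_0_381 (Nat.shiftRight i 11)) (Nat.land i 2047)
noncomputable def Ptab_s_0_2 (c : Nat) : Nat := @Bool.rec (fun _ => Nat) (Ptab_0) (Ptab_1) (Nat.ble 1 c)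
noncomputable def Ptab_s_2_4 (c : Nat) : Nat := @Bool.rec (fun _ => Nat) (Ptab_2) (Ptab_3) (Nat.ble 3 c)
noncomputable def Ptab_s_0_4 (c : Nat) : Nat := @Bool.rec (fun _ => Nat) (Ptab_s_0_2 c) (Ptab_s_2_4 c) (Nat.ble 2 c)
noncomputable def Ptab_s_4_6 (c : Nat) : Nat := @Bool.rec (fun _ => Nat) (Ptab_4) (Ptab_5) (Nat.ble 5 c)
noncomputable def Ptab_s_7_9 (c : Nat) : Nat := @Bool.rec (fun _ => Nat) (Ptab_7) (Ptab_8) (Nat.ble 8 c)
noncomputable def Ptab_s_6_9 (c : Nat) : Nat := @Bool.rec (fun _ => Nat) (Ptab_6) (Ptab_s_7_9 c) (Nat.ble 7 c)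
noncomputable def Ptab_s_4_9 (c : Nat) : Nat := @Bool.rec (fun _ => Nat) (Ptab_s_4_6 c) (Ptab_s_6_9 c) (Nat.ble 6 c)
noncomputable def Ptab_s_0_9 (c : Nat) : Nat := @Bool.rec (fun _ => Nat) (Ptab_s_0_4 c) (Ptab_s_4_9 c) (Nat.ble 4 c)
noncomputable def Ptab_s_9_11 (c : Nat) : Nat := @Bool.rec (fun _ => Nat) (Ptab_9) (Ptab_10) (Nat.ble 10 c)
noncomputable def Ptab_s_12_14 (c : Nat) : Nat := @Bool.rec (fun _ => Nat) (Ptab_12) (Ptab_13) (Nat.ble 13 c)
noncomputable def Ptab_s_11_14 (c : Nat) : Nat := @Bool.rec (fun _ => Nat) (Ptab_11) (Ptab_s_12_14 c) (Nat.ble 12 c)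
noncomputable def Ptab_s_9_14 (c : Nat) : Nat := @Bool.rec (fun _ => Nat) (Ptab_s_9_11 c) (Ptab_s_11_14 c) (Nat.ble 11 c)
noncomputable def Ptab_s_14_16 (c : Nat) : Nat := @Bool.rec (fun _ => Nat) (Ptab_14) (Ptab_15) (Nat.ble 15 c)
noncomputable def Ptab_s_17_19 (c : Nat) : Nat := @Bool.rec (fun _ => Nat) (Ptab_17) (Ptab_18) (Nat.ble 18 c)
noncomputable def Ptab_s_16_19 (c : Nat) : Nat := @Bool.rec (fun _ => Nat) (Ptab_16) (Ptab_s_17_19 c) (Nat.ble 17 c)
noncomputable def Ptab_s_14_19 (c : Nat) : Nat := @Bool.rec (fun _ => Nat) (Ptab_s_14_16 c) (Ptab_s_16_19 c) (Nat.ble 16 c)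
noncomputable def Ptab_s_9_19 (c : Nat) : Nat := @Bool.rec (fun _ => Nat) (Ptab_s_9_14 c) (Ptab_s_14_19 c) (Nat.ble 14 c)
noncomputable def Ptab_s_0_19 (c : Nat) : Nat := @Bool.rec (fun _ => Nat) (Ptab_s_0_9 c) (Ptab_s_9_19 c) (Nat.ble 9 c)
noncomputable def Ptab_s_19_21 (c : Nat) : Nat := @Bool.rec (fun _ => Nat) (Ptab_19) (Ptab_20) (Nat.ble 20 c)
noncomputable def Ptab_s_21_23 (c : Nat) : Nat := @Bool.rec (fun _ => Nat) (Ptab_21) (Ptab_22) (Nat.ble 22 c)
noncomputable def Ptab_s_19_23 (c : Nat) : Nat := @Bool.rec (fun _ => Nat) (Ptab_s_19_21 c) (Ptab_s_21_23 c) (Nat.ble 21 c)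
noncomputable def Ptab_s_23_25 (c : Nat) : Nat := @Bool.rec (fun _ => Nat) (Ptab_23) (Ptab_24) (Nat.ble 24 c)
noncomputable def Ptab_s_26_28 (c : Nat) : Nat := @Bool.rec (fun _ => Nat) (Ptab_26) (Ptab_27) (Nat.ble 27 c)
noncomputable def Ptab_s_25_28 (c : Nat) : Nat := @Bool.rec (fun _ => Nat) (Ptab_25) (Ptab_s_26_28 c) (Nat.ble 26 c)
noncomputable def Ptab_s_23_28 (c : Nat) : Nat := @Bool.rec (fun _ => Nat) (Ptab_s_23_25 c) (Ptab_s_25_28 c) (Nat.ble 25 c)
noncomputable def Ptab_s_19_28 (c : Nat) : Nat := @Bool.rec (fun _ => Nat) (Ptab_s_19_23 c) (Ptab_s_23_28 c) (Nat.ble 23 c)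
noncomputable def Ptab_s_28_30 (c : Nat) : Nat := @Bool.rec (fun _ => Nat) (Ptab_28) (Ptab_29) (Nat.ble 29 c)
noncomputable def Ptab_s_31_33 (c : Nat) : Nat := @Bool.rec (fun _ => Nat) (Ptab_31) (Ptab_32) (Nat.ble 32 c)
noncomputable def Ptab_s_30_33 (c : Nat) : Nat := @Bool.rec (fun _ => Nat) (Ptab_30) (Ptab_s_31_33 c) (Nat.ble 31 c)
noncomputable def Ptab_s_28_33 (c : Nat) : Nat := @Bool.rec (fun _ => Nat) (Ptab_s_28_30 c) (Ptab_s_30_33 c) (Nat.ble 30 c)
noncomputable def Ptab_s_33_35 (c : Nat) : Nat := @Bool.rec (fun _ => Nat) (Ptab_33) (Ptab_34) (Nat.ble 34 c)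
noncomputable def Ptab_s_36_38 (c : Nat) : Nat := @Bool.rec (fun _ => Nat) (Ptab_36) (Ptab_37) (Nat.ble 37 c)
noncomputable def Ptab_s_35_38 (c : Nat) : Nat := @Bool.rec (fun _ => Nat) (Ptab_35) (Ptab_s_36_38 c) (Nat.ble 36 c)
noncomputable def Ptab_s_33_38 (c : Nat) : Nat := @Bool.rec (fun _ => Nat) (Ptab_s_33_35 c) (Ptab_s_35_38 c) (Nat.ble 35 c)
noncomputable def Ptab_s_28_38 (c : Nat) : Nat := @Bool.rec (fun _ => Nat) (Ptab_s_28_33 c) (Ptab_s_33_38 c) (Nat.ble 33 c)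
noncomputable def Ptab_s_19_38 (c : Nat) : Nat := @Bool.rec (fun _ => Nat) (Ptab_s_19_28 c) (Ptab_s_28_38 c) (Nat.ble 28 c)
noncomputable def Ptab_s_0_38 (c : Nat) : Nat := @Bool.rec (fun _ => Nat) (Ptab_s_0_19 c) (Ptab_s_19_38 c) (Nat.ble 19 c)
noncomputable def Ptab_s_38_40 (c : Nat) : Nat := @Bool.rec (fun _ => Nat) (Ptab_38) (Ptab_39) (Nat.ble 39 c)
noncomputable def Ptab_s_40_42 (c : Nat) : Nat := @Bool.rec (fun _ => Nat) (Ptab_40) (Ptab_41) (Nat.ble 41 c)
noncomputable def Ptab_s_38_42 (c : Nat) : Nat := @Bool.rec (fun _ => Nat) (Ptab_s_38_40 c) (Ptab_s_40_42 c) (Nat.ble 40 c)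
noncomputable def Ptab_s_42_44 (c : Nat) : Nat := @Bool.rec (fun _ => Nat) (Ptab_42) (Ptab_43) (Nat.ble 43 c)
noncomputable def Ptab_s_45_47 (c : Nat) : Nat := @Bool.rec (fun _ => Nat) (Ptab_45) (Ptab_46) (Nat.ble 46 c)
noncomputable def Ptab_s_44_47 (c : Nat) : Nat := @Bool.rec (fun _ => Nat) (Ptab_44) (Ptab_s_45_47 c) (Nat.ble 45 c)
noncomputable def Ptab_s_42_47 (c : Nat) : Nat := @Bool.rec (fun _ => Nat) (Ptab_s_42_44 c) (Ptab_s_44_47 c) (Nat.ble 44 c)
noncomputable def Ptab_s_38_47 (c : Nat) : Nat := @Bool.rec (fun _ => Nat) (Ptab_s_38_42 c) (Ptab_s_42_47 c) (Nat.ble 42 c)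
noncomputable def Ptab_s_47_49 (c : Nat) : Nat := @Bool.rec (fun _ => Nat) (Ptab_47) (Ptab_48) (Nat.ble 48 c)
noncomputable def Ptab_s_50_52 (c : Nat) : Nat := @Bool.rec (fun _ => Nat) (Ptab_50) (Ptab_51) (Nat.ble 51 c)
noncomputable def Ptab_s_49_52 (c : Nat) : Nat := @Bool.rec (fun _ => Nat) (Ptab_49) (Ptab_s_50_52 c) (Nat.ble 50 c)
noncomputable def Ptab_s_47_52 (c : Nat) : Nat := @Bool.rec (fun _ => Nat) (Ptab_s_47_49 c) (Ptab_s_49_52 c) (Nat.ble 49 c)
noncomputable def Ptab_s_52_54 (c : Nat) : Nat := @Bool.rec (fun _ => Nat) (Ptab_52) (Ptab_53) (Nat.ble 53 c)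
noncomputable def Ptab_s_55_57 (c : Nat) : Nat := @Bool.rec (fun _ => Nat) (Ptab_55) (Ptab_56) (Nat.ble 56 c)
noncomputable def Ptab_s_54_57 (c : Nat) : Nat := @Bool.rec (fun _ => Nat) (Ptab_54) (Ptab_s_55_57 c) (Nat.ble 55 c)
noncomputable def Ptab_s_52_57 (c : Nat) : Nat := @Bool.rec (fun _ => Nat) (Ptab_s_52_54 c) (Ptab_s_54_57 c) (Nat.ble 54 c)
noncomputable def Ptab_s_47_57 (c : Nat) : Nat := @Bool.rec (fun _ => Nat) (Ptab_s_47_52 c) (Ptab_s_52_57 c) (Nat.ble 52 c)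
noncomputable def Ptab_s_38_57 (c : Nat) : Nat := @Bool.rec (fun _ => Nat) (Ptab_s_38_47 c) (Ptab_s_47_57 c) (Nat.ble 47 c)
noncomputable def Ptab_s_57_59 (c : Nat) : Nat := @Bool.rec (fun _ => Nat) (Ptab_57) (Ptab_58) (Nat.ble 58 c)
noncomputable def Ptab_s_60_62 (c : Nat) : Nat := @Bool.rec (fun _ => Nat) (Ptab_60) (Ptab_61) (Nat.ble 61 c)
noncomputable def Ptab_s_59_62 (c : Nat) : Nat := @Bool.rec (fun _ => Nat) (Ptab_59) (Ptab_s_60_62 c) (Nat.ble 60 c)
noncomputable def Ptab_s_57_62 (c : Nat) : Nat := @Bool.rec (fun _ => Nat) (Ptab_s_57_59 c) (Ptab_s_59_62 c) (Nat.ble 59 c)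
noncomputable def Ptab_s_62_64 (c : Nat) : Nat := @Bool.rec (fun _ => Nat) (Ptab_62) (Ptab_63) (Nat.ble 63 c)
noncomputable def Ptab_s_65_67 (c : Nat) : Nat := @Bool.rec (fun _ => Nat) (Ptab_65) (Ptab_66) (Nat.ble 66 c)
noncomputable def Ptab_s_64_67 (c : Nat) : Nat := @Bool.rec (fun _ => Nat) (Ptab_64) (Ptab_s_65_67 c) (Nat.ble 65 c)
noncomputable def Ptab_s_62_67 (c : Nat) : Nat := @Bool.rec (fun _ => Nat) (Ptab_s_62_64 c) (Ptab_s_64_67 c) (Nat.ble 64 c)
noncomputable def Ptab_s_57_67 (c : Nat) : Nat := @Bool.rec (fun _ => Nat) (Ptab_s_57_62 c) (Ptab_s_62_67 c) (Nat.ble 62 c)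
noncomputable def Ptab_s_67_69 (c : Nat) : Nat := @Bool.rec (fun _ => Nat) (Ptab_67) (Ptab_68) (Nat.ble 68 c)
noncomputable def Ptab_s_70_72 (c : Nat) : Nat := @Bool.rec (fun _ => Nat) (Ptab_70) (Ptab_71) (Nat.ble 71 c)
noncomputable def Ptab_s_69_72 (c : Nat) : Nat := @Bool.rec (fun _ => Nat) (Ptab_69) (Ptab_s_70_72 c) (Nat.ble 70 c)
noncomputable def Ptab_s_67_72 (c : Nat) : Nat := @Bool.rec (fun _ => Nat) (Ptab_s_67_69 c) (Ptab_s_69_72 c) (Nat.ble 69 c)
noncomputable def Ptab_s_72_74 (c : Nat) : Nat := @Bool.rec (fun _ => Nat) (Ptab_72) (Ptab_73) (Nat.ble 73 c)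
noncomputable def Ptab_s_75_77 (c : Nat) : Nat := @Bool.rec (fun _ => Nat) (Ptab_75) (Ptab_76) (Nat.ble 76 c)
noncomputable def Ptab_s_74_77 (c : Nat) : Nat := @Bool.rec (fun _ => Nat) (Ptab_74) (Ptab_s_75_77 c) (Nat.ble 75 c)
noncomputable def Ptab_s_72_77 (c : Nat) : Nat := @Bool.rec (fun _ => Nat) (Ptab_s_72_74 c) (Ptab_s_74_77 c) (Nat.ble 74 c)
noncomputable def Ptab_s_67_77 (c : Nat) : Nat := @Bool.rec (fun _ => Nat) (Ptab_s_67_72 c) (Ptab_s_72_77 c) (Nat.ble 72 c)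
noncomputable def Ptab_s_57_77 (c : Nat) : Nat := @Bool.rec (fun _ => Nat) (Ptab_s_57_67 c) (Ptab_s_67_77 c) (Nat.ble 67 c)
noncomputable def Ptab_s_38_77 (c : Nat) : Nat := @Bool.rec (fun _ => Nat) (Ptab_s_38_57 c) (Ptab_s_57_77 c) (Nat.ble 57 c)
noncomputable def Ptab_s_0_77 (c : Nat) : Nat := @Bool.rec (fun _ => Nat) (Ptab_s_0_38 c) (Ptab_s_38_77 c) (Nat.ble 38 c)
noncomputable def Ptab_s_77_79 (c : Nat) : Nat := @Bool.rec (fun _ => Nat) (Ptab_77) (Ptab_78) (Nat.ble 78 c)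
noncomputable def Ptab_s_79_81 (c : Nat) : Nat := @Bool.rec (fun _ => Nat) (Ptab_79) (Ptab_80) (Nat.ble 80 c)
noncomputable def Ptab_s_77_81 (c : Nat) : Nat := @Bool.rec (fun _ => Nat) (Ptab_s_77_79 c) (Ptab_s_79_81 c) (Nat.ble 79 c)
noncomputable def Ptab_s_81_83 (c : Nat) : Nat := @Bool.rec (fun _ => Nat) (Ptab_81) (Ptab_82) (Nat.ble 82 c)
noncomputable def Ptab_s_84_86 (c : Nat) : Nat := @Bool.rec (fun _ => Nat) (Ptab_84) (Ptab_85) (Nat.ble 85 c)
noncomputable def Ptab_s_83_86 (c : Nat) : Nat := @Bool.rec (fun _ => Nat) (Ptab_83) (Ptab_s_84_86 c) (Nat.ble 84 c)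
noncomputable def Ptab_s_81_86 (c : Nat) : Nat := @Bool.rec (fun _ => Nat) (Ptab_s_81_83 c) (Ptab_s_83_86 c) (Nat.ble 83 c)
noncomputable def Ptab_s_77_86 (c : Nat) : Nat := @Bool.rec (fun _ => Nat) (Ptab_s_77_81 c) (Ptab_s_81_86 c) (Nat.ble 81 c)
noncomputable def Ptab_s_86_88 (c : Nat) : Nat := @Bool.rec (fun _ => Nat) (Ptab_86) (Ptab_87) (Nat.ble 87 c)
noncomputable def Ptab_s_89_91 (c : Nat) : Nat := @Bool.rec (fun _ => Nat) (Ptab_89) (Ptab_90) (Nat.ble 90 c)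
noncomputable def Ptab_s_88_91 (c : Nat) : Nat := @Bool.rec (fun _ => Nat) (Ptab_88) (Ptab_s_89_91 c) (Nat.ble 89 c)
noncomputable def Ptab_s_86_91 (c : Nat) : Nat := @Bool.rec (fun _ => Nat) (Ptab_s_86_88 c) (Ptab_s_88_91 c) (Nat.ble 88 c)
noncomputable def Ptab_s_91_93 (c : Nat) : Nat := @Bool.rec (fun _ => Nat) (Ptab_91) (Ptab_92) (Nat.ble 92 c)
noncomputable def Ptab_s_94_96 (c : Nat) : Nat := @Bool.rec (fun _ => Nat) (Ptab_94) (Ptab_95) (Nat.ble 95 c)
noncomputable def Ptab_s_93_96 (c : Nat) : Nat := @Bool.rec (fun _ => Nat) (Ptab_93) (Ptab_s_94_96 c) (Nat.ble 94 c)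
noncomputable def Ptab_s_91_96 (c : Nat) : Nat := @Bool.rec (fun _ => Nat) (Ptab_s_91_93 c) (Ptab_s_93_96 c) (Nat.ble 93 c)
noncomputable def Ptab_s_86_96 (c : Nat) : Nat := @Bool.rec (fun _ => Nat) (Ptab_s_86_91 c) (Ptab_s_91_96 c) (Nat.ble 91 c)
noncomputable def Ptab_s_77_96 (c : Nat) : Nat := @Bool.rec (fun _ => Nat) (Ptab_s_77_86 c) (Ptab_s_86_96 c) (Nat.ble 86 c)
noncomputable def Ptab_s_96_98 (c : Nat) : Nat := @Bool.rec (fun _ => Nat) (Ptab_96) (Ptab_97) (Nat.ble 97 c)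
noncomputable def Ptab_s_99_101 (c : Nat) : Nat := @Bool.rec (fun _ => Nat) (Ptab_99) (Ptab_100) (Nat.ble 100 c)
noncomputable def Ptab_s_98_101 (c : Nat) : Nat := @Bool.rec (fun _ => Nat) (Ptab_98) (Ptab_s_99_101 c) (Nat.ble 99 c)
noncomputable def Ptab_s_96_101 (c : Nat) : Nat := @Bool.rec (fun _ => Nat) (Ptab_s_96_98 c) (Ptab_s_98_101 c) (Nat.ble 98 c)
noncomputable def Ptab_s_101_103 (c : Nat) : Nat := @Bool.rec (fun _ => Nat) (Ptab_101) (Ptab_102) (Nat.ble 102 c)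
noncomputable def Ptab_s_104_106 (c : Nat) : Nat := @Bool.rec (fun _ => Nat) (Ptab_104) (Ptab_105) (Nat.ble 105 c)
noncomputable def Ptab_s_103_106 (c : Nat) : Nat := @Bool.rec (fun _ => Nat) (Ptab_103) (Ptab_s_104_106 c) (Nat.ble 104 c)
noncomputable def Ptab_s_101_106 (c : Nat) : Nat := @Bool.rec (fun _ => Nat) (Ptab_s_101_103 c) (Ptab_s_103_106 c) (Nat.ble 103 c)
noncomputable def Ptab_s_96_106 (c : Nat) : Nat := @Bool.rec (fun _ => Nat) (Ptab_s_96_101 c) (Ptab_s_101_106 c) (Nat.ble 101 c)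
noncomputable def Ptab_s_106_108 (c : Nat) : Nat := @Bool.rec (fun _ => Nat) (Ptab_106) (Ptab_107) (Nat.ble 107 c)
noncomputable def Ptab_s_109_111 (c : Nat) : Nat := @Bool.rec (fun _ => Nat) (Ptab_109) (Ptab_110) (Nat.ble 110 c)
noncomputable def Ptab_s_108_111 (c : Nat) : Nat := @Bool.rec (fun _ => Nat) (Ptab_108) (Ptab_s_109_111 c) (Nat.ble 109 c)
noncomputable def Ptab_s_106_111 (c : Nat) : Nat := @Bool.rec (fun _ => Nat) (Ptab_s_106_108 c) (Ptab_s_108_111 c) (Nat.ble 108 c)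
noncomputable def Ptab_s_111_113 (c : Nat) : Nat := @Bool.rec (fun _ => Nat) (Ptab_111) (Ptab_112) (Nat.ble 112 c)
noncomputable def Ptab_s_114_116 (c : Nat) : Nat := @Bool.rec (fun _ => Nat) (Ptab_114) (Ptab_115) (Nat.ble 115 c)
noncomputable def Ptab_s_113_116 (c : Nat) : Nat := @Bool.rec (fun _ => Nat) (Ptab_113) (Ptab_s_114_116 c) (Nat.ble 114 c)
noncomputable def Ptab_s_111_116 (c : Nat) : Nat := @Bool.rec (fun _ => Nat) (Ptab_s_111_113 c) (Ptab_s_113_116 c) (Nat.ble 113 c)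
noncomputable def Ptab_s_106_116 (c : Nat) : Nat := @Bool.rec (fun _ => Nat) (Ptab_s_106_111 c) (Ptab_s_111_116 c) (Nat.ble 111 c)
noncomputable def Ptab_s_96_116 (c : Nat) : Nat := @Bool.rec (fun _ => Nat) (Ptab_s_96_106 c) (Ptab_s_106_116 c) (Nat.ble 106 c)
noncomputable def Ptab_s_77_116 (c : Nat) : Nat := @Bool.rec (fun _ => Nat) (Ptab_s_77_96 c) (Ptab_s_96_116 c) (Nat.ble 96 c)
noncomputable def Ptab_s_116_118 (c : Nat) : Nat := @Bool.rec (fun _ => Nat) (Ptab_116) (Ptab_117) (Nat.ble 117 c)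
noncomputable def Ptab_s_118_120 (c : Nat) : Nat := @Bool.rec (fun _ => Nat) (Ptab_118) (Ptab_119) (Nat.ble 119 c)
noncomputable def Ptab_s_116_120 (c : Nat) : Nat := @Bool.rec (fun _ => Nat) (Ptab_s_116_118 c) (Ptab_s_118_120 c) (Nat.ble 118 c)
noncomputable def Ptab_s_120_122 (c : Nat) : Nat := @Bool.rec (fun _ => Nat) (Ptab_120) (Ptab_121) (Nat.ble 121 c)
noncomputable def Ptab_s_123_125 (c : Nat) : Nat := @Bool.rec (fun _ => Nat) (Ptab_123) (Ptab_124) (Nat.ble 124 c)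
noncomputable def Ptab_s_122_125 (c : Nat) : Nat := @Bool.rec (fun _ => Nat) (Ptab_122) (Ptab_s_123_125 c) (Nat.ble 123 c)
noncomputable def Ptab_s_120_125 (c : Nat) : Nat := @Bool.rec (fun _ => Nat) (Ptab_s_120_122 c) (Ptab_s_122_125 c) (Nat.ble 122 c)
noncomputable def Ptab_s_116_125 (c : Nat) : Nat := @Bool.rec (fun _ => Nat) (Ptab_s_116_120 c) (Ptab_s_120_125 c) (Nat.ble 120 c)
noncomputable def Ptab_s_125_127 (c : Nat) : Nat := @Bool.rec (fun _ => Nat) (Ptab_125) (Ptab_126) (Nat.ble 126 c)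
noncomputable def Ptab_s_128_130 (c : Nat) : Nat := @Bool.rec (fun _ => Nat) (Ptab_128) (Ptab_129) (Nat.ble 129 c)
noncomputable def Ptab_s_127_130 (c : Nat) : Nat := @Bool.rec (fun _ => Nat) (Ptab_127) (Ptab_s_128_130 c) (Nat.ble 128 c)
noncomputable def Ptab_s_125_130 (c : Nat) : Nat := @Bool.rec (fun _ => Nat) (Ptab_s_125_127 c) (Ptab_s_127_130 c) (Nat.ble 127 c)
noncomputable def Ptab_s_130_132 (c : Nat) : Nat := @Bool.rec (fun _ => Nat) (Ptab_130) (Ptab_131) (Nat.ble 131 c)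
noncomputable def Ptab_s_133_135 (c : Nat) : Nat := @Bool.rec (fun _ => Nat) (Ptab_133) (Ptab_134) (Nat.ble 134 c)
noncomputable def Ptab_s_132_135 (c : Nat) : Nat := @Bool.rec (fun _ => Nat) (Ptab_132) (Ptab_s_133_135 c) (Nat.ble 133 c)
noncomputable def Ptab_s_130_135 (c : Nat) : Nat := @Bool.rec (fun _ => Nat) (Ptab_s_130_132 c) (Ptab_s_132_135 c) (Nat.ble 132 c)
noncomputable def Ptab_s_125_135 (c : Nat) : Nat := @Bool.rec (fun _ => Nat) (Ptab_s_125_130 c) (Ptab_s_130_135 c) (Nat.ble 130 c)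
noncomputable def Ptab_s_116_135 (c : Nat) : Nat := @Bool.rec (fun _ => Nat) (Ptab_s_116_125 c) (Ptab_s_125_135 c) (Nat.ble 125 c)
noncomputable def Ptab_s_135_137 (c : Nat) : Nat := @Bool.rec (fun _ => Nat) (Ptab_135) (Ptab_136) (Nat.ble 136 c)
noncomputable def Ptab_s_138_140 (c : Nat) : Nat := @Bool.rec (fun _ => Nat) (Ptab_138) (Ptab_139) (Nat.ble 139 c)
noncomputable def Ptab_s_137_140 (c : Nat) : Nat := @Bool.rec (fun _ => Nat) (Ptab_137) (Ptab_s_138_140 c) (Nat.ble 138 c)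
noncomputable def Ptab_s_135_140 (c : Nat) : Nat := @Bool.rec (fun _ => Nat) (Ptab_s_135_137 c) (Ptab_s_137_140 c) (Nat.ble 137 c)
noncomputable def Ptab_s_140_142 (c : Nat) : Nat := @Bool.rec (fun _ => Nat) (Ptab_140) (Ptab_141) (Nat.ble 141 c)
noncomputable def Ptab_s_143_145 (c : Nat) : Nat := @Bool.rec (fun _ => Nat) (Ptab_143) (Ptab_144) (Nat.ble 144 c)
noncomputable def Ptab_s_142_145 (c : Nat) : Nat := @Bool.rec (fun _ => Nat) (Ptab_142) (Ptab_s_143_145 c) (Nat.ble 143 c)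
noncomputable def Ptab_s_140_145 (c : Nat) : Nat := @Bool.rec (fun _ => Nat) (Ptab_s_140_142 c) (Ptab_s_142_145 c) (Nat.ble 142 c)
noncomputable def Ptab_s_135_145 (c : Nat) : Nat := @Bool.rec (fun _ => Nat) (Ptab_s_135_140 c) (Ptab_s_140_145 c) (Nat.ble 140 c)
noncomputable def Ptab_s_145_147 (c : Nat) : Nat := @Bool.rec (fun _ => Nat) (Ptab_145) (Ptab_146) (Nat.ble 146 c)
noncomputable def Ptab_s_148_150 (c : Nat) : Nat := @Bool.rec (fun _ => Nat) (Ptab_148) (Ptab_149) (Nat.ble 149 c)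
noncomputable def Ptab_s_147_150 (c : Nat) : Nat := @Bool.rec (fun _ => Nat) (Ptab_147) (Ptab_s_148_150 c) (Nat.ble 148 c)
noncomputable def Ptab_s_145_150 (c : Nat) : Nat := @Bool.rec (fun _ => Nat) (Ptab_s_145_147 c) (Ptab_s_147_150 c) (Nat.ble 147 c)
noncomputable def Ptab_s_150_152 (c : Nat) : Nat := @Bool.rec (fun _ => Nat) (Ptab_150) (Ptab_151) (Nat.ble 151 c)
noncomputable def Ptab_s_153_155 (c : Nat) : Nat := @Bool.rec (fun _ => Nat) (Ptab_153) (Ptab_154) (Nat.ble 154 c)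
noncomputable def Ptab_s_152_155 (c : Nat) : Nat := @Bool.rec (fun _ => Nat) (Ptab_152) (Ptab_s_153_155 c) (Nat.ble 153 c)
noncomputable def Ptab_s_150_155 (c : Nat) : Nat := @Bool.rec (fun _ => Nat) (Ptab_s_150_152 c) (Ptab_s_152_155 c) (Nat.ble 152 c)
noncomputable def Ptab_s_145_155 (c : Nat) : Nat := @Bool.rec (fun _ => Nat) (Ptab_s_145_150 c) (Ptab_s_150_155 c) (Nat.ble 150 c)
noncomputable def Ptab_s_135_155 (c : Nat) : Nat := @Bool.rec (fun _ => Nat) (Ptab_s_135_145 c) (Ptab_s_145_155 c) (Nat.ble 145 c)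
noncomputable def Ptab_s_116_155 (c : Nat) : Nat := @Bool.rec (fun _ => Nat) (Ptab_s_116_135 c) (Ptab_s_135_155 c) (Nat.ble 135 c)
noncomputable def Ptab_s_77_155 (c : Nat) : Nat := @Bool.rec (fun _ => Nat) (Ptab_s_77_116 c) (Ptab_s_116_155 c) (Nat.ble 116 c)
noncomputable def Ptab_s_0_155 (c : Nat) : Nat := @Bool.rec (fun _ => Nat) (Ptab_s_0_77 c) (Ptab_s_77_155 c) (Nat.ble 77 c)
noncomputable def Ptab_s_155_157 (c : Nat) : Nat := @Bool.rec (fun _ => Nat) (Ptab_155) (Ptab_156) (Nat.ble 156 c)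
noncomputable def Ptab_s_157_159 (c : Nat) : Nat := @Bool.rec (fun _ => Nat) (Ptab_157) (Ptab_158) (Nat.ble 158 c)
noncomputable def Ptab_s_155_159 (c : Nat) : Nat := @Bool.rec (fun _ => Nat) (Ptab_s_155_157 c) (Ptab_s_157_159 c) (Nat.ble 157 c)
noncomputable def Ptab_s_159_161 (c : Nat) : Nat := @Bool.rec (fun _ => Nat) (Ptab_159) (Ptab_160) (Nat.ble 160 c)
noncomputable def Ptab_s_162_164 (c : Nat) : Nat := @Bool.rec (fun _ => Nat) (Ptab_162) (Ptab_163) (Nat.ble 163 c)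
noncomputable def Ptab_s_161_164 (c : Nat) : Nat := @Bool.rec (fun _ => Nat) (Ptab_161) (Ptab_s_162_164 c) (Nat.ble 162 c)
noncomputable def Ptab_s_159_164 (c : Nat) : Nat := @Bool.rec (fun _ => Nat) (Ptab_s_159_161 c) (Ptab_s_161_164 c) (Nat.ble 161 c)
noncomputable def Ptab_s_155_164 (c : Nat) : Nat := @Bool.rec (fun _ => Nat) (Ptab_s_155_159 c) (Ptab_s_159_164 c) (Nat.ble 159 c)
noncomputable def Ptab_s_164_166 (c : Nat) : Nat := @Bool.rec (fun _ => Nat) (Ptab_164) (Ptab_165) (Nat.ble 165 c)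
noncomputable def Ptab_s_167_169 (c : Nat) : Nat := @Bool.rec (fun _ => Nat) (Ptab_167) (Ptab_168) (Nat.ble 168 c)
noncomputable def Ptab_s_166_169 (c : Nat) : Nat := @Bool.rec (fun _ => Nat) (Ptab_166) (Ptab_s_167_169 c) (Nat.ble 167 c)
noncomputable def Ptab_s_164_169 (c : Nat) : Nat := @Bool.rec (fun _ => Nat) (Ptab_s_164_166 c) (Ptab_s_166_169 c) (Nat.ble 166 c)
noncomputable def Ptab_s_169_171 (c : Nat) : Nat := @Bool.rec (fun _ => Nat) (Ptab_169) (Ptab_170) (Nat.ble 170 c)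
noncomputable def Ptab_s_172_174 (c : Nat) : Nat := @Bool.rec (fun _ => Nat) (Ptab_172) (Ptab_173) (Nat.ble 173 c)
noncomputable def Ptab_s_171_174 (c : Nat) : Nat := @Bool.rec (fun _ => Nat) (Ptab_171) (Ptab_s_172_174 c) (Nat.ble 172 c)
noncomputable def Ptab_s_169_174 (c : Nat) : Nat := @Bool.rec (fun _ => Nat) (Ptab_s_169_171 c) (Ptab_s_171_174 c) (Nat.ble 171 c)
noncomputable def Ptab_s_164_174 (c : Nat) : Nat := @Bool.rec (fun _ => Nat) (Ptab_s_164_169 c) (Ptab_s_169_174 c) (Nat.ble 169 c)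
noncomputable def Ptab_s_155_174 (c : Nat) : Nat := @Bool.rec (fun _ => Nat) (Ptab_s_155_164 c) (Ptab_s_164_174 c) (Nat.ble 164 c)
noncomputable def Ptab_s_174_176 (c : Nat) : Nat := @Bool.rec (fun _ => Nat) (Ptab_174) (Ptab_175) (Nat.ble 175 c)
noncomputable def Ptab_s_176_178 (c : Nat) : Nat := @Bool.rec (fun _ => Nat) (Ptab_176) (Ptab_177) (Nat.ble 177 c)
noncomputable def Ptab_s_174_178 (c : Nat) : Nat := @Bool.rec (fun _ => Nat) (Ptab_s_174_176 c) (Ptab_s_176_178 c) (Nat.ble 176 c)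
noncomputable def Ptab_s_178_180 (c : Nat) : Nat := @Bool.rec (fun _ => Nat) (Ptab_178) (Ptab_179) (Nat.ble 179 c)
noncomputable def Ptab_s_181_183 (c : Nat) : Nat := @Bool.rec (fun _ => Nat) (Ptab_181) (Ptab_182) (Nat.ble 182 c)
noncomputable def Ptab_s_180_183 (c : Nat) : Nat := @Bool.rec (fun _ => Nat) (Ptab_180) (Ptab_s_181_183 c) (Nat.ble 181 c)
noncomputable def Ptab_s_178_183 (c : Nat) : Nat := @Bool.rec (fun _ => Nat) (Ptab_s_178_180 c) (Ptab_s_180_183 c) (Nat.ble 180 c)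
noncomputable def Ptab_s_174_183 (c : Nat) : Nat := @Bool.rec (fun _ => Nat) (Ptab_s_174_178 c) (Ptab_s_178_183 c) (Nat.ble 178 c)
noncomputable def Ptab_s_183_185 (c : Nat) : Nat := @Bool.rec (fun _ => Nat) (Ptab_183) (Ptab_184) (Nat.ble 184 c)
noncomputable def Ptab_s_186_188 (c : Nat) : Nat := @Bool.rec (fun _ => Nat) (Ptab_186) (Ptab_187) (Nat.ble 187 c)
noncomputable def Ptab_s_185_188 (c : Nat) : Nat := @Bool.rec (fun _ => Nat) (Ptab_185) (Ptab_s_186_188 c) (Nat.ble 186 c)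
noncomputable def Ptab_s_183_188 (c : Nat) : Nat := @Bool.rec (fun _ => Nat) (Ptab_s_183_185 c) (Ptab_s_185_188 c) (Nat.ble 185 c)
noncomputable def Ptab_s_188_190 (c : Nat) : Nat := @Bool.rec (fun _ => Nat) (Ptab_188) (Ptab_189) (Nat.ble 189 c)
noncomputable def Ptab_s_191_193 (c : Nat) : Nat := @Bool.rec (fun _ => Nat) (Ptab_191) (Ptab_192) (Nat.ble 192 c)
noncomputable def Ptab_s_190_193 (c : Nat) : Nat := @Bool.rec (fun _ => Nat) (Ptab_190) (Ptab_s_191_193 c) (Nat.ble 191 c)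
noncomputable def Ptab_s_188_193 (c : Nat) : Nat := @Bool.rec (fun _ => Nat) (Ptab_s_188_190 c) (Ptab_s_190_193 c) (Nat.ble 190 c)
noncomputable def Ptab_s_183_193 (c : Nat) : Nat := @Bool.rec (fun _ => Nat) (Ptab_s_183_188 c) (Ptab_s_188_193 c) (Nat.ble 188 c)
noncomputable def Ptab_s_174_193 (c : Nat) : Nat := @Bool.rec (fun _ => Nat) (Ptab_s_174_183 c) (Ptab_s_183_193 c) (Nat.ble 183 c)
noncomputable def Ptab_s_155_193 (c : Nat) : Nat := @Bool.rec (fun _ => Nat) (Ptab_s_155_174 c) (Ptab_s_174_193 c) (Nat.ble 174 c)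
noncomputable def Ptab_s_193_195 (c : Nat) : Nat := @Bool.rec (fun _ => Nat) (Ptab_193) (Ptab_194) (Nat.ble 194 c)
noncomputable def Ptab_s_195_197 (c : Nat) : Nat := @Bool.rec (fun _ => Nat) (Ptab_195) (Ptab_196) (Nat.ble 196 c)
noncomputable def Ptab_s_193_197 (c : Nat) : Nat := @Bool.rec (fun _ => Nat) (Ptab_s_193_195 c) (Ptab_s_195_197 c) (Nat.ble 195 c)
noncomputable def Ptab_s_197_199 (c : Nat) : Nat := @Bool.rec (fun _ => Nat) (Ptab_197) (Ptab_198) (Nat.ble 198 c)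
noncomputable def Ptab_s_200_202 (c : Nat) : Nat := @Bool.rec (fun _ => Nat) (Ptab_200) (Ptab_201) (Nat.ble 201 c)
noncomputable def Ptab_s_199_202 (c : Nat) : Nat := @Bool.rec (fun _ => Nat) (Ptab_199) (Ptab_s_200_202 c) (Nat.ble 200 c)
noncomputable def Ptab_s_197_202 (c : Nat) : Nat := @Bool.rec (fun _ => Nat) (Ptab_s_197_199 c) (Ptab_s_199_202 c) (Nat.ble 199 c)
noncomputable def Ptab_s_193_202 (c : Nat) : Nat := @Bool.rec (fun _ => Nat) (Ptab_s_193_197 c) (Ptab_s_197_202 c) (Nat.ble 197 c)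
noncomputable def Ptab_s_202_204 (c : Nat) : Nat := @Bool.rec (fun _ => Nat) (Ptab_202) (Ptab_203) (Nat.ble 203 c)
noncomputable def Ptab_s_205_207 (c : Nat) : Nat := @Bool.rec (fun _ => Nat) (Ptab_205) (Ptab_206) (Nat.ble 206 c)
noncomputable def Ptab_s_204_207 (c : Nat) : Nat := @Bool.rec (fun _ => Nat) (Ptab_204) (Ptab_s_205_207 c) (Nat.ble 205 c)
noncomputable def Ptab_s_202_207 (c : Nat) : Nat := @Bool.rec (fun _ => Nat) (Ptab_s_202_204 c) (Ptab_s_204_207 c) (Nat.ble 204 c)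
noncomputable def Ptab_s_207_209 (c : Nat) : Nat := @Bool.rec (fun _ => Nat) (Ptab_207) (Ptab_208) (Nat.ble 208 c)
noncomputable def Ptab_s_210_212 (c : Nat) : Nat := @Bool.rec (fun _ => Nat) (Ptab_210) (Ptab_211) (Nat.ble 211 c)
noncomputable def Ptab_s_209_212 (c : Nat) : Nat := @Bool.rec (fun _ => Nat) (Ptab_209) (Ptab_s_210_212 c) (Nat.ble 210 c)
noncomputable def Ptab_s_207_212 (c : Nat) : Nat := @Bool.rec (fun _ => Nat) (Ptab_s_207_209 c) (Ptab_s_209_212 c) (Nat.ble 209 c)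
noncomputable def Ptab_s_202_212 (c : Nat) : Nat := @Bool.rec (fun _ => Nat) (Ptab_s_202_207 c) (Ptab_s_207_212 c) (Nat.ble 207 c)
noncomputable def Ptab_s_193_212 (c : Nat) : Nat := @Bool.rec (fun _ => Nat) (Ptab_s_193_202 c) (Ptab_s_202_212 c) (Nat.ble 202 c)
noncomputable def Ptab_s_212_214 (c : Nat) : Nat := @Bool.rec (fun _ => Nat) (Ptab_212) (Ptab_213) (Nat.ble 213 c)
noncomputable def Ptab_s_215_217 (c : Nat) : Nat := @Bool.rec (fun _ => Nat) (Ptab_215) (Ptab_216) (Nat.ble 216 c)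
noncomputable def Ptab_s_214_217 (c : Nat) : Nat := @Bool.rec (fun _ => Nat) (Ptab_214) (Ptab_s_215_217 c) (Nat.ble 215 c)
noncomputable def Ptab_s_212_217 (c : Nat) : Nat := @Bool.rec (fun _ => Nat) (Ptab_s_212_214 c) (Ptab_s_214_217 c) (Nat.ble 214 c)
noncomputable def Ptab_s_217_219 (c : Nat) : Nat := @Bool.rec (fun _ => Nat) (Ptab_217) (Ptab_218) (Nat.ble 218 c)
noncomputable def Ptab_s_220_222 (c : Nat) : Nat := @Bool.rec (fun _ => Nat) (Ptab_220) (Ptab_221) (Nat.ble 221 c)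
noncomputable def Ptab_s_219_222 (c : Nat) : Nat := @Bool.rec (fun _ => Nat) (Ptab_219) (Ptab_s_220_222 c) (Nat.ble 220 c)
noncomputable def Ptab_s_217_222 (c : Nat) : Nat := @Bool.rec (fun _ => Nat) (Ptab_s_217_219 c) (Ptab_s_219_222 c) (Nat.ble 219 c)
noncomputable def Ptab_s_212_222 (c : Nat) : Nat := @Bool.rec (fun _ => Nat) (Ptab_s_212_217 c) (Ptab_s_217_222 c) (Nat.ble 217 c)
noncomputable def Ptab_s_222_224 (c : Nat) : Nat := @Bool.rec (fun _ => Nat) (Ptab_222) (Ptab_223) (Nat.ble 223 c)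
noncomputable def Ptab_s_225_227 (c : Nat) : Nat := @Bool.rec (fun _ => Nat) (Ptab_225) (Ptab_226) (Nat.ble 226 c)
noncomputable def Ptab_s_224_227 (c : Nat) : Nat := @Bool.rec (fun _ => Nat) (Ptab_224) (Ptab_s_225_227 c) (Nat.ble 225 c)
noncomputable def Ptab_s_222_227 (c : Nat) : Nat := @Bool.rec (fun _ => Nat) (Ptab_s_222_224 c) (Ptab_s_224_227 c) (Nat.ble 224 c)
noncomputable def Ptab_s_227_229 (c : Nat) : Nat := @Bool.rec (fun _ => Nat) (Ptab_227) (Ptab_228) (Nat.ble 228 c)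
noncomputable def Ptab_s_230_232 (c : Nat) : Nat := @Bool.rec (fun _ => Nat) (Ptab_230) (Ptab_231) (Nat.ble 231 c)
noncomputable def Ptab_s_229_232 (c : Nat) : Nat := @Bool.rec (fun _ => Nat) (Ptab_229) (Ptab_s_230_232 c) (Nat.ble 230 c)
noncomputable def Ptab_s_227_232 (c : Nat) : Nat := @Bool.rec (fun _ => Nat) (Ptab_s_227_229 c) (Ptab_s_229_232 c) (Nat.ble 229 c)
noncomputable def Ptab_s_222_232 (c : Nat) : Nat := @Bool.rec (fun _ => Nat) (Ptab_s_222_227 c) (Ptab_s_227_232 c) (Nat.ble 227 c)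
noncomputable def Ptab_s_212_232 (c : Nat) : Nat := @Bool.rec (fun _ => Nat) (Ptab_s_212_222 c) (Ptab_s_222_232 c) (Nat.ble 222 c)
noncomputable def Ptab_s_193_232 (c : Nat) : Nat := @Bool.rec (fun _ => Nat) (Ptab_s_193_212 c) (Ptab_s_212_232 c) (Nat.ble 212 c)
noncomputable def Ptab_s_155_232 (c : Nat) : Nat := @Bool.rec (fun _ => Nat) (Ptab_s_155_193 c) (Ptab_s_193_232 c) (Nat.ble 193 c)
noncomputable def Ptab_s_232_234 (c : Nat) : Nat := @Bool.rec (fun _ => Nat) (Ptab_232) (Ptab_233) (Nat.ble 233 c)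
noncomputable def Ptab_s_234_236 (c : Nat) : Nat := @Bool.rec (fun _ => Nat) (Ptab_234) (Ptab_235) (Nat.ble 235 c)
noncomputable def Ptab_s_232_236 (c : Nat) : Nat := @Bool.rec (fun _ => Nat) (Ptab_s_232_234 c) (Ptab_s_234_236 c) (Nat.ble 234 c)
noncomputable def Ptab_s_236_238 (c : Nat) : Nat := @Bool.rec (fun _ => Nat) (Ptab_236) (Ptab_237) (Nat.ble 237 c)
noncomputable def Ptab_s_239_241 (c : Nat) : Nat := @Bool.rec (fun _ => Nat) (Ptab_239) (Ptab_240) (Nat.ble 240 c)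
noncomputable def Ptab_s_238_241 (c : Nat) : Nat := @Bool.rec (fun _ => Nat) (Ptab_238) (Ptab_s_239_241 c) (Nat.ble 239 c)
noncomputable def Ptab_s_236_241 (c : Nat) : Nat := @Bool.rec (fun _ => Nat) (Ptab_s_236_238 c) (Ptab_s_238_241 c) (Nat.ble 238 c)
noncomputable def Ptab_s_232_241 (c : Nat) : Nat := @Bool.rec (fun _ => Nat) (Ptab_s_232_236 c) (Ptab_s_236_241 c) (Nat.ble 236 c)
noncomputable def Ptab_s_241_243 (c : Nat) : Nat := @Bool.rec (fun _ => Nat) (Ptab_241) (Ptab_242) (Nat.ble 242 c)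
noncomputable def Ptab_s_244_246 (c : Nat) : Nat := @Bool.rec (fun _ => Nat) (Ptab_244) (Ptab_245) (Nat.ble 245 c)
noncomputable def Ptab_s_243_246 (c : Nat) : Nat := @Bool.rec (fun _ => Nat) (Ptab_243) (Ptab_s_244_246 c) (Nat.ble 244 c)
noncomputable def Ptab_s_241_246 (c : Nat) : Nat := @Bool.rec (fun _ => Nat) (Ptab_s_241_243 c) (Ptab_s_243_246 c) (Nat.ble 243 c)
noncomputable def Ptab_s_246_248 (c : Nat) : Nat := @Bool.rec (fun _ => Nat) (Ptab_246) (Ptab_247) (Nat.ble 247 c)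
noncomputable def Ptab_s_249_251 (c : Nat) : Nat := @Bool.rec (fun _ => Nat) (Ptab_249) (Ptab_250) (Nat.ble 250 c)
noncomputable def Ptab_s_248_251 (c : Nat) : Nat := @Bool.rec (fun _ => Nat) (Ptab_248) (Ptab_s_249_251 c) (Nat.ble 249 c)
noncomputable def Ptab_s_246_251 (c : Nat) : Nat := @Bool.rec (fun _ => Nat) (Ptab_s_246_248 c) (Ptab_s_248_251 c) (Nat.ble 248 c)
noncomputable def Ptab_s_241_251 (c : Nat) : Nat := @Bool.rec (fun _ => Nat) (Ptab_s_241_246 c) (Ptab_s_246_251 c) (Nat.ble 246 c)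
noncomputable def Ptab_s_232_251 (c : Nat) : Nat := @Bool.rec (fun _ => Nat) (Ptab_s_232_241 c) (Ptab_s_241_251 c) (Nat.ble 241 c)
noncomputable def Ptab_s_251_253 (c : Nat) : Nat := @Bool.rec (fun _ => Nat) (Ptab_251) (Ptab_252) (Nat.ble 252 c)
noncomputable def Ptab_s_254_256 (c : Nat) : Nat := @Bool.rec (fun _ => Nat) (Ptab_254) (Ptab_255) (Nat.ble 255 c)
noncomputable def Ptab_s_253_256 (c : Nat) : Nat := @Bool.rec (fun _ => Nat) (Ptab_253) (Ptab_s_254_256 c) (Nat.ble 254 c)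
noncomputable def Ptab_s_251_256 (c : Nat) : Nat := @Bool.rec (fun _ => Nat) (Ptab_s_251_253 c) (Ptab_s_253_256 c) (Nat.ble 253 c)
noncomputable def Ptab_s_256_258 (c : Nat) : Nat := @Bool.rec (fun _ => Nat) (Ptab_256) (Ptab_257) (Nat.ble 257 c)
noncomputable def Ptab_s_259_261 (c : Nat) : Nat := @Bool.rec (fun _ => Nat) (Ptab_259) (Ptab_260) (Nat.ble 260 c)
noncomputable def Ptab_s_258_261 (c : Nat) : Nat := @Bool.rec (fun _ => Nat) (Ptab_258) (Ptab_s_259_261 c) (Nat.ble 259 c)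
noncomputable def Ptab_s_256_261 (c : Nat) : Nat := @Bool.rec (fun _ => Nat) (Ptab_s_256_258 c) (Ptab_s_258_261 c) (Nat.ble 258 c)
noncomputable def Ptab_s_251_261 (c : Nat) : Nat := @Bool.rec (fun _ => Nat) (Ptab_s_251_256 c) (Ptab_s_256_261 c) (Nat.ble 256 c)
noncomputable def Ptab_s_261_263 (c : Nat) : Nat := @Bool.rec (fun _ => Nat) (Ptab_261) (Ptab_262) (Nat.ble 262 c)
noncomputable def Ptab_s_264_266 (c : Nat) : Nat := @Bool.rec (fun _ => Nat) (Ptab_264) (Ptab_265) (Nat.ble 265 c)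
noncomputable def Ptab_s_263_266 (c : Nat) : Nat := @Bool.rec (fun _ => Nat) (Ptab_263) (Ptab_s_264_266 c) (Nat.ble 264 c)
noncomputable def Ptab_s_261_266 (c : Nat) : Nat := @Bool.rec (fun _ => Nat) (Ptab_s_261_263 c) (Ptab_s_263_266 c) (Nat.ble 263 c)
noncomputable def Ptab_s_266_268 (c : Nat) : Nat := @Bool.rec (fun _ => Nat) (Ptab_266) (Ptab_267) (Nat.ble 267 c)
noncomputable def Ptab_s_269_271 (c : Nat) : Nat := @Bool.rec (fun _ => Nat) (Ptab_269) (Ptab_270) (Nat.ble 270 c)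
noncomputable def Ptab_s_268_271 (c : Nat) : Nat := @Bool.rec (fun _ => Nat) (Ptab_268) (Ptab_s_269_271 c) (Nat.ble 269 c)
noncomputable def Ptab_s_266_271 (c : Nat) : Nat := @Bool.rec (fun _ => Nat) (Ptab_s_266_268 c) (Ptab_s_268_271 c) (Nat.ble 268 c)
noncomputable def Ptab_s_261_271 (c : Nat) : Nat := @Bool.rec (fun _ => Nat) (Ptab_s_261_266 c) (Ptab_s_266_271 c) (Nat.ble 266 c)
noncomputable def Ptab_s_251_271 (c : Nat) : Nat := @Bool.rec (fun _ => Nat) (Ptab_s_251_261 c) (Ptab_s_261_271 c) (Nat.ble 261 c)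
noncomputable def Ptab_s_232_271 (c : Nat) : Nat := @Bool.rec (fun _ => Nat) (Ptab_s_232_251 c) (Ptab_s_251_271 c) (Nat.ble 251 c)
noncomputable def Ptab_s_271_273 (c : Nat) : Nat := @Bool.rec (fun _ => Nat) (Ptab_271) (Ptab_272) (Nat.ble 272 c)
noncomputable def Ptab_s_273_275 (c : Nat) : Nat := @Bool.rec (fun _ => Nat) (Ptab_273) (Ptab_274) (Nat.ble 274 c)
noncomputable def Ptab_s_271_275 (c : Nat) : Nat := @Bool.rec (fun _ => Nat) (Ptab_s_271_273 c) (Ptab_s_273_275 c) (Nat.ble 273 c)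
noncomputable def Ptab_s_275_277 (c : Nat) : Nat := @Bool.rec (fun _ => Nat) (Ptab_275) (Ptab_276) (Nat.ble 276 c)
noncomputable def Ptab_s_278_280 (c : Nat) : Nat := @Bool.rec (fun _ => Nat) (Ptab_278) (Ptab_279) (Nat.ble 279 c)
noncomputable def Ptab_s_277_280 (c : Nat) : Nat := @Bool.rec (fun _ => Nat) (Ptab_277) (Ptab_s_278_280 c) (Nat.ble 278 c)
noncomputable def Ptab_s_275_280 (c : Nat) : Nat := @Bool.rec (fun _ => Nat) (Ptab_s_275_277 c) (Ptab_s_277_280 c) (Nat.ble 277 c)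
noncomputable def Ptab_s_271_280 (c : Nat) : Nat := @Bool.rec (fun _ => Nat) (Ptab_s_271_275 c) (Ptab_s_275_280 c) (Nat.ble 275 c)
noncomputable def Ptab_s_280_282 (c : Nat) : Nat := @Bool.rec (fun _ => Nat) (Ptab_280) (Ptab_281) (Nat.ble 281 c)
noncomputable def Ptab_s_283_285 (c : Nat) : Nat := @Bool.rec (fun _ => Nat) (Ptab_283) (Ptab_284) (Nat.ble 284 c)
noncomputable def Ptab_s_282_285 (c : Nat) : Nat := @Bool.rec (fun _ => Nat) (Ptab_282) (Ptab_s_283_285 c) (Nat.ble 283 c)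
noncomputable def Ptab_s_280_285 (c : Nat) : Nat := @Bool.rec (fun _ => Nat) (Ptab_s_280_282 c) (Ptab_s_282_285 c) (Nat.ble 282 c)
noncomputable def Ptab_s_285_287 (c : Nat) : Nat := @Bool.rec (fun _ => Nat) (Ptab_285) (Ptab_286) (Nat.ble 286 c)
noncomputable def Ptab_s_288_290 (c : Nat) : Nat := @Bool.rec (fun _ => Nat) (Ptab_288) (Ptab_289) (Nat.ble 289 c)
noncomputable def Ptab_s_287_290 (c : Nat) : Nat := @Bool.rec (fun _ => Nat) (Ptab_287) (Ptab_s_288_290 c) (Nat.ble 288 c)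
noncomputable def Ptab_s_285_290 (c : Nat) : Nat := @Bool.rec (fun _ => Nat) (Ptab_s_285_287 c) (Ptab_s_287_290 c) (Nat.ble 287 c)
noncomputable def Ptab_s_280_290 (c : Nat) : Nat := @Bool.rec (fun _ => Nat) (Ptab_s_280_285 c) (Ptab_s_285_290 c) (Nat.ble 285 c)
noncomputable def Ptab_s_271_290 (c : Nat) : Nat := @Bool.rec (fun _ => Nat) (Ptab_s_271_280 c) (Ptab_s_280_290 c) (Nat.ble 280 c)
noncomputable def Ptab_s_290_292 (c : Nat) : Nat := @Bool.rec (fun _ => Nat) (Ptab_290) (Ptab_291) (Nat.ble 291 c)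
noncomputable def Ptab_s_293_295 (c : Nat) : Nat := @Bool.rec (fun _ => Nat) (Ptab_293) (Ptab_294) (Nat.ble 294 c)
noncomputable def Ptab_s_292_295 (c : Nat) : Nat := @Bool.rec (fun _ => Nat) (Ptab_292) (Ptab_s_293_295 c) (Nat.ble 293 c)
noncomputable def Ptab_s_290_295 (c : Nat) : Nat := @Bool.rec (fun _ => Nat) (Ptab_s_290_292 c) (Ptab_s_292_295 c) (Nat.ble 292 c)
noncomputable def Ptab_s_295_297 (c : Nat) : Nat := @Bool.rec (fun _ => Nat) (Ptab_295) (Ptab_296) (Nat.ble 296 c)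
noncomputable def Ptab_s_298_300 (c : Nat) : Nat := @Bool.rec (fun _ => Nat) (Ptab_298) (Ptab_299) (Nat.ble 299 c)
noncomputable def Ptab_s_297_300 (c : Nat) : Nat := @Bool.rec (fun _ => Nat) (Ptab_297) (Ptab_s_298_300 c) (Nat.ble 298 c)
noncomputable def Ptab_s_295_300 (c : Nat) : Nat := @Bool.rec (fun _ => Nat) (Ptab_s_295_297 c) (Ptab_s_297_300 c) (Nat.ble 297 c)
noncomputable def Ptab_s_290_300 (c : Nat) : Nat := @Bool.rec (fun _ => Nat) (Ptab_s_290_295 c) (Ptab_s_295_300 c) (Nat.ble 295 c)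
noncomputable def Ptab_s_300_302 (c : Nat) : Nat := @Bool.rec (fun _ => Nat) (Ptab_300) (Ptab_301) (Nat.ble 301 c)
noncomputable def Ptab_s_303_305 (c : Nat) : Nat := @Bool.rec (fun _ => Nat) (Ptab_303) (Ptab_304) (Nat.ble 304 c)
noncomputable def Ptab_s_302_305 (c : Nat) : Nat := @Bool.rec (fun _ => Nat) (Ptab_302) (Ptab_s_303_305 c) (Nat.ble 303 c)
noncomputable def Ptab_s_300_305 (c : Nat) : Nat := @Bool.rec (fun _ => Nat) (Ptab_s_300_302 c) (Ptab_s_302_305 c) (Nat.ble 302 c)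
noncomputable def Ptab_s_305_307 (c : Nat) : Nat := @Bool.rec (fun _ => Nat) (Ptab_305) (Ptab_306) (Nat.ble 306 c)
noncomputable def Ptab_s_308_310 (c : Nat) : Nat := @Bool.rec (fun _ => Nat) (Ptab_308) (Ptab_309) (Nat.ble 309 c)
noncomputable def Ptab_s_307_310 (c : Nat) : Nat := @Bool.rec (fun _ => Nat) (Ptab_307) (Ptab_s_308_310 c) (Nat.ble 308 c)
noncomputable def Ptab_s_305_310 (c : Nat) : Nat := @Bool.rec (fun _ => Nat) (Ptab_s_305_307 c) (Ptab_s_307_310 c) (Nat.ble 307 c)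
noncomputable def Ptab_s_300_310 (c : Nat) : Nat := @Bool.rec (fun _ => Nat) (Ptab_s_300_305 c) (Ptab_s_305_310 c) (Nat.ble 305 c)
noncomputable def Ptab_s_290_310 (c : Nat) : Nat := @Bool.rec (fun _ => Nat) (Ptab_s_290_300 c) (Ptab_s_300_310 c) (Nat.ble 300 c)
noncomputable def Ptab_s_271_310 (c : Nat) : Nat := @Bool.rec (fun _ => Nat) (Ptab_s_271_290 c) (Ptab_s_290_310 c) (Nat.ble 290 c)
noncomputable def Ptab_s_232_310 (c : Nat) : Nat := @Bool.rec (fun _ => Nat) (Ptab_s_232_271 c) (Ptab_s_271_310 c) (Nat.ble 271 c)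
noncomputable def Ptab_s_155_310 (c : Nat) : Nat := @Bool.rec (fun _ => Nat) (Ptab_s_155_232 c) (Ptab_s_232_310 c) (Nat.ble 232 c)
noncomputable def Ptab_s_0_310 (c : Nat) : Nat := @Bool.rec (fun _ => Nat) (Ptab_s_0_155 c) (Ptab_s_155_310 c) (Nat.ble 155 c)
noncomputable def Ptab_s_310_312 (c : Nat) : Nat := @Bool.rec (fun _ => Nat) (Ptab_310) (Ptab_311) (Nat.ble 311 c)
noncomputable def Ptab_s_312_314 (c : Nat) : Nat := @Bool.rec (fun _ => Nat) (Ptab_312) (Ptab_313) (Nat.ble 313 c)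
noncomputable def Ptab_s_310_314 (c : Nat) : Nat := @Bool.rec (fun _ => Nat) (Ptab_s_310_312 c) (Ptab_s_312_314 c) (Nat.ble 312 c)
noncomputable def Ptab_s_314_316 (c : Nat) : Nat := @Bool.rec (fun _ => Nat) (Ptab_314) (Ptab_315) (Nat.ble 315 c)
noncomputable def Ptab_s_317_319 (c : Nat) : Nat := @Bool.rec (fun _ => Nat) (Ptab_317) (Ptab_318) (Nat.ble 318 c)
noncomputable def Ptab_s_316_319 (c : Nat) : Nat := @Bool.rec (fun _ => Nat) (Ptab_316) (Ptab_s_317_319 c) (Nat.ble 317 c)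
noncomputable def Ptab_s_314_319 (c : Nat) : Nat := @Bool.rec (fun _ => Nat) (Ptab_s_314_316 c) (Ptab_s_316_319 c) (Nat.ble 316 c)
noncomputable def Ptab_s_310_319 (c : Nat) : Nat := @Bool.rec (fun _ => Nat) (Ptab_s_310_314 c) (Ptab_s_314_319 c) (Nat.ble 314 c)
noncomputable def Ptab_s_319_321 (c : Nat) : Nat := @Bool.rec (fun _ => Nat) (Ptab_319) (Ptab_320) (Nat.ble 320 c)
noncomputable def Ptab_s_322_324 (c : Nat) : Nat := @Bool.rec (fun _ => Nat) (Ptab_322) (Ptab_323) (Nat.ble 323 c)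
noncomputable def Ptab_s_321_324 (c : Nat) : Nat := @Bool.rec (fun _ => Nat) (Ptab_321) (Ptab_s_322_324 c) (Nat.ble 322 c)
noncomputable def Ptab_s_319_324 (c : Nat) : Nat := @Bool.rec (fun _ => Nat) (Ptab_s_319_321 c) (Ptab_s_321_324 c) (Nat.ble 321 c)
noncomputable def Ptab_s_324_326 (c : Nat) : Nat := @Bool.rec (fun _ => Nat) (Ptab_324) (Ptab_325) (Nat.ble 325 c)
noncomputable def Ptab_s_327_329 (c : Nat) : Nat := @Bool.rec (fun _ => Nat) (Ptab_327) (Ptab_328) (Nat.ble 328 c)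
noncomputable def Ptab_s_326_329 (c : Nat) : Nat := @Bool.rec (fun _ => Nat) (Ptab_326) (Ptab_s_327_329 c) (Nat.ble 327 c)
noncomputable def Ptab_s_324_329 (c : Nat) : Nat := @Bool.rec (fun _ => Nat) (Ptab_s_324_326 c) (Ptab_s_326_329 c) (Nat.ble 326 c)
noncomputable def Ptab_s_319_329 (c : Nat) : Nat := @Bool.rec (fun _ => Nat) (Ptab_s_319_324 c) (Ptab_s_324_329 c) (Nat.ble 324 c)
noncomputable def Ptab_s_310_329 (c : Nat) : Nat := @Bool.rec (fun _ => Nat) (Ptab_s_310_319 c) (Ptab_s_319_329 c) (Nat.ble 319 c)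
noncomputable def Ptab_s_329_331 (c : Nat) : Nat := @Bool.rec (fun _ => Nat) (Ptab_329) (Ptab_330) (Nat.ble 330 c)
noncomputable def Ptab_s_331_333 (c : Nat) : Nat := @Bool.rec (fun _ => Nat) (Ptab_331) (Ptab_332) (Nat.ble 332 c)
noncomputable def Ptab_s_329_333 (c : Nat) : Nat := @Bool.rec (fun _ => Nat) (Ptab_s_329_331 c) (Ptab_s_331_333 c) (Nat.ble 331 c)
noncomputable def Ptab_s_333_335 (c : Nat) : Nat := @Bool.rec (fun _ => Nat) (Ptab_333) (Ptab_334) (Nat.ble 334 c)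
noncomputable def Ptab_s_336_338 (c : Nat) : Nat := @Bool.rec (fun _ => Nat) (Ptab_336) (Ptab_337) (Nat.ble 337 c)
noncomputable def Ptab_s_335_338 (c : Nat) : Nat := @Bool.rec (fun _ => Nat) (Ptab_335) (Ptab_s_336_338 c) (Nat.ble 336 c)
noncomputable def Ptab_s_333_338 (c : Nat) : Nat := @Bool.rec (fun _ => Nat) (Ptab_s_333_335 c) (Ptab_s_335_338 c) (Nat.ble 335 c)
noncomputable def Ptab_s_329_338 (c : Nat) : Nat := @Bool.rec (fun _ => Nat) (Ptab_s_329_333 c) (Ptab_s_333_338 c) (Nat.ble 333 c)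
noncomputable def Ptab_s_338_340 (c : Nat) : Nat := @Bool.rec (fun _ => Nat) (Ptab_338) (Ptab_339) (Nat.ble 339 c)
noncomputable def Ptab_s_341_343 (c : Nat) : Nat := @Bool.rec (fun _ => Nat) (Ptab_341) (Ptab_342) (Nat.ble 342 c)
noncomputable def Ptab_s_340_343 (c : Nat) : Nat := @Bool.rec (fun _ => Nat) (Ptab_340) (Ptab_s_341_343 c) (Nat.ble 341 c)
noncomputable def Ptab_s_338_343 (c : Nat) : Nat := @Bool.rec (fun _ => Nat) (Ptab_s_338_340 c) (Ptab_s_340_343 c) (Nat.ble 340 c)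
noncomputable def Ptab_s_343_345 (c : Nat) : Nat := @Bool.rec (fun _ => Nat) (Ptab_343) (Ptab_344) (Nat.ble 344 c)
noncomputable def Ptab_s_346_348 (c : Nat) : Nat := @Bool.rec (fun _ => Nat) (Ptab_346) (Ptab_347) (Nat.ble 347 c)
noncomputable def Ptab_s_345_348 (c : Nat) : Nat := @Bool.rec (fun _ => Nat) (Ptab_345) (Ptab_s_346_348 c) (Nat.ble 346 c)
noncomputable def Ptab_s_343_348 (c : Nat) : Nat := @Bool.rec (fun _ => Nat) (Ptab_s_343_345 c) (Ptab_s_345_348 c) (Nat.ble 345 c)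
noncomputable def Ptab_s_338_348 (c : Nat) : Nat := @Bool.rec (fun _ => Nat) (Ptab_s_338_343 c) (Ptab_s_343_348 c) (Nat.ble 343 c)
noncomputable def Ptab_s_329_348 (c : Nat) : Nat := @Bool.rec (fun _ => Nat) (Ptab_s_329_338 c) (Ptab_s_338_348 c) (Nat.ble 338 c)
noncomputable def Ptab_s_310_348 (c : Nat) : Nat := @Bool.rec (fun _ => Nat) (Ptab_s_310_329 c) (Ptab_s_329_348 c) (Nat.ble 329 c)
noncomputable def Ptab_s_348_350 (c : Nat) : Nat := @Bool.rec (fun _ => Nat) (Ptab_348) (Ptab_349) (Nat.ble 349 c)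
noncomputable def Ptab_s_350_352 (c : Nat) : Nat := @Bool.rec (fun _ => Nat) (Ptab_350) (Ptab_351) (Nat.ble 351 c)
noncomputable def Ptab_s_348_352 (c : Nat) : Nat := @Bool.rec (fun _ => Nat) (Ptab_s_348_350 c) (Ptab_s_350_352 c) (Nat.ble 350 c)
noncomputable def Ptab_s_352_354 (c : Nat) : Nat := @Bool.rec (fun _ => Nat) (Ptab_352) (Ptab_353) (Nat.ble 353 c)
noncomputable def Ptab_s_355_357 (c : Nat) : Nat := @Bool.rec (fun _ => Nat) (Ptab_355) (Ptab_356) (Nat.ble 356 c)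
noncomputable def Ptab_s_354_357 (c : Nat) : Nat := @Bool.rec (fun _ => Nat) (Ptab_354) (Ptab_s_355_357 c) (Nat.ble 355 c)
noncomputable def Ptab_s_352_357 (c : Nat) : Nat := @Bool.rec (fun _ => Nat) (Ptab_s_352_354 c) (Ptab_s_354_357 c) (Nat.ble 354 c)
noncomputable def Ptab_s_348_357 (c : Nat) : Nat := @Bool.rec (fun _ => Nat) (Ptab_s_348_352 c) (Ptab_s_352_357 c) (Nat.ble 352 c)
noncomputable def Ptab_s_357_359 (c : Nat) : Nat := @Bool.rec (fun _ => Nat) (Ptab_357) (Ptab_358) (Nat.ble 358 c)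
noncomputable def Ptab_s_360_362 (c : Nat) : Nat := @Bool.rec (fun _ => Nat) (Ptab_360) (Ptab_361) (Nat.ble 361 c)
noncomputable def Ptab_s_359_362 (c : Nat) : Nat := @Bool.rec (fun _ => Nat) (Ptab_359) (Ptab_s_360_362 c) (Nat.ble 360 c)
noncomputable def Ptab_s_357_362 (c : Nat) : Nat := @Bool.rec (fun _ => Nat) (Ptab_s_357_359 c) (Ptab_s_359_362 c) (Nat.ble 359 c)
noncomputable def Ptab_s_362_364 (c : Nat) : Nat := @Bool.rec (fun _ => Nat) (Ptab_362) (Ptab_363) (Nat.ble 363 c)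
noncomputable def Ptab_s_365_367 (c : Nat) : Nat := @Bool.rec (fun _ => Nat) (Ptab_365) (Ptab_366) (Nat.ble 366 c)
noncomputable def Ptab_s_364_367 (c : Nat) : Nat := @Bool.rec (fun _ => Nat) (Ptab_364) (Ptab_s_365_367 c) (Nat.ble 365 c)
noncomputable def Ptab_s_362_367 (c : Nat) : Nat := @Bool.rec (fun _ => Nat) (Ptab_s_362_364 c) (Ptab_s_364_367 c) (Nat.ble 364 c)
noncomputable def Ptab_s_357_367 (c : Nat) : Nat := @Bool.rec (fun _ => Nat) (Ptab_s_357_362 c) (Ptab_s_362_367 c) (Nat.ble 362 c)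
noncomputable def Ptab_s_348_367 (c : Nat) : Nat := @Bool.rec (fun _ => Nat) (Ptab_s_348_357 c) (Ptab_s_357_367 c) (Nat.ble 357 c)
noncomputable def Ptab_s_367_369 (c : Nat) : Nat := @Bool.rec (fun _ => Nat) (Ptab_367) (Ptab_368) (Nat.ble 368 c)
noncomputable def Ptab_s_370_372 (c : Nat) : Nat := @Bool.rec (fun _ => Nat) (Ptab_370) (Ptab_371) (Nat.ble 371 c)
noncomputable def Ptab_s_369_372 (c : Nat) : Nat := @Bool.rec (fun _ => Nat) (Ptab_369) (Ptab_s_370_372 c) (Nat.ble 370 c)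
noncomputable def Ptab_s_367_372 (c : Nat) : Nat := @Bool.rec (fun _ => Nat) (Ptab_s_367_369 c) (Ptab_s_369_372 c) (Nat.ble 369 c)
noncomputable def Ptab_s_372_374 (c : Nat) : Nat := @Bool.rec (fun _ => Nat) (Ptab_372) (Ptab_373) (Nat.ble 373 c)
noncomputable def Ptab_s_375_377 (c : Nat) : Nat := @Bool.rec (fun _ => Nat) (Ptab_375) (Ptab_376) (Nat.ble 376 c)
noncomputable def Ptab_s_374_377 (c : Nat) : Nat := @Bool.rec (fun _ => Nat) (Ptab_374) (Ptab_s_375_377 c) (Nat.ble 375 c)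
noncomputable def Ptab_s_372_377 (c : Nat) : Nat := @Bool.rec (fun _ => Nat) (Ptab_s_372_374 c) (Ptab_s_374_377 c) (Nat.ble 374 c)
noncomputable def Ptab_s_367_377 (c : Nat) : Nat := @Bool.rec (fun _ => Nat) (Ptab_s_367_372 c) (Ptab_s_372_377 c) (Nat.ble 372 c)
noncomputable def Ptab_s_377_379 (c : Nat) : Nat := @Bool.rec (fun _ => Nat) (Ptab_377) (Ptab_378) (Nat.ble 378 c)
noncomputable def Ptab_s_380_382 (c : Nat) : Nat := @Bool.rec (fun _ => Nat) (Ptab_380) (Ptab_381) (Nat.ble 381 c)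
noncomputable def Ptab_s_379_382 (c : Nat) : Nat := @Bool.rec (fun _ => Nat) (Ptab_379) (Ptab_s_380_382 c) (Nat.ble 380 c)
noncomputable def Ptab_s_377_382 (c : Nat) : Nat := @Bool.rec (fun _ => Nat) (Ptab_s_377_379 c) (Ptab_s_379_382 c) (Nat.ble 379 c)
noncomputable def Ptab_s_382_384 (c : Nat) : Nat := @Bool.rec (fun _ => Nat) (Ptab_382) (Ptab_383) (Nat.ble 383 c)
noncomputable def Ptab_s_385_387 (c : Nat) : Nat := @Bool.rec (fun _ => Nat) (Ptab_385) (Ptab_386) (Nat.ble 386 c)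
noncomputable def Ptab_s_384_387 (c : Nat) : Nat := @Bool.rec (fun _ => Nat) (Ptab_384) (Ptab_s_385_387 c) (Nat.ble 385 c)
noncomputable def Ptab_s_382_387 (c : Nat) : Nat := @Bool.rec (fun _ => Nat) (Ptab_s_382_384 c) (Ptab_s_384_387 c) (Nat.ble 384 c)
noncomputable def Ptab_s_377_387 (c : Nat) : Nat := @Bool.rec (fun _ => Nat) (Ptab_s_377_382 c) (Ptab_s_382_387 c) (Nat.ble 382 c)
noncomputable def Ptab_s_367_387 (c : Nat) : Nat := @Bool.rec (fun _ => Nat) (Ptab_s_367_377 c) (Ptab_s_377_387 c) (Nat.ble 377 c)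
noncomputable def Ptab_s_348_387 (c : Nat) : Nat := @Bool.rec (fun _ => Nat) (Ptab_s_348_367 c) (Ptab_s_367_387 c) (Nat.ble 367 c)
noncomputable def Ptab_s_310_387 (c : Nat) : Nat := @Bool.rec (fun _ => Nat) (Ptab_s_310_348 c) (Ptab_s_348_387 c) (Nat.ble 348 c)
noncomputable def Ptab_s_387_389 (c : Nat) : Nat := @Bool.rec (fun _ => Nat) (Ptab_387) (Ptab_388) (Nat.ble 388 c)
noncomputable def Ptab_s_389_391 (c : Nat) : Nat := @Bool.rec (fun _ => Nat) (Ptab_389) (Ptab_390) (Nat.ble 390 c)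
noncomputable def Ptab_s_387_391 (c : Nat) : Nat := @Bool.rec (fun _ => Nat) (Ptab_s_387_389 c) (Ptab_s_389_391 c) (Nat.ble 389 c)
noncomputable def Ptab_s_391_393 (c : Nat) : Nat := @Bool.rec (fun _ => Nat) (Ptab_391) (Ptab_392) (Nat.ble 392 c)
noncomputable def Ptab_s_394_396 (c : Nat) : Nat := @Bool.rec (fun _ => Nat) (Ptab_394) (Ptab_395) (Nat.ble 395 c)
noncomputable def Ptab_s_393_396 (c : Nat) : Nat := @Bool.rec (fun _ => Nat) (Ptab_393) (Ptab_s_394_396 c) (Nat.ble 394 c)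
noncomputable def Ptab_s_391_396 (c : Nat) : Nat := @Bool.rec (fun _ => Nat) (Ptab_s_391_393 c) (Ptab_s_393_396 c) (Nat.ble 393 c)
noncomputable def Ptab_s_387_396 (c : Nat) : Nat := @Bool.rec (fun _ => Nat) (Ptab_s_387_391 c) (Ptab_s_391_396 c) (Nat.ble 391 c)
noncomputable def Ptab_s_396_398 (c : Nat) : Nat := @Bool.rec (fun _ => Nat) (Ptab_396) (Ptab_397) (Nat.ble 397 c)
noncomputable def Ptab_s_399_401 (c : Nat) : Nat := @Bool.rec (fun _ => Nat) (Ptab_399) (Ptab_400) (Nat.ble 400 c)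
noncomputable def Ptab_s_398_401 (c : Nat) : Nat := @Bool.rec (fun _ => Nat) (Ptab_398) (Ptab_s_399_401 c) (Nat.ble 399 c)
noncomputable def Ptab_s_396_401 (c : Nat) : Nat := @Bool.rec (fun _ => Nat) (Ptab_s_396_398 c) (Ptab_s_398_401 c) (Nat.ble 398 c)
noncomputable def Ptab_s_401_403 (c : Nat) : Nat := @Bool.rec (fun _ => Nat) (Ptab_401) (Ptab_402) (Nat.ble 402 c)
noncomputable def Ptab_s_404_406 (c : Nat) : Nat := @Bool.rec (fun _ => Nat) (Ptab_404) (Ptab_405) (Nat.ble 405 c)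
noncomputable def Ptab_s_403_406 (c : Nat) : Nat := @Bool.rec (fun _ => Nat) (Ptab_403) (Ptab_s_404_406 c) (Nat.ble 404 c)
noncomputable def Ptab_s_401_406 (c : Nat) : Nat := @Bool.rec (fun _ => Nat) (Ptab_s_401_403 c) (Ptab_s_403_406 c) (Nat.ble 403 c)
noncomputable def Ptab_s_396_406 (c : Nat) : Nat := @Bool.rec (fun _ => Nat) (Ptab_s_396_401 c) (Ptab_s_401_406 c) (Nat.ble 401 c)
noncomputable def Ptab_s_387_406 (c : Nat) : Nat := @Bool.rec (fun _ => Nat) (Ptab_s_387_396 c) (Ptab_s_396_406 c) (Nat.ble 396 c)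
noncomputable def Ptab_s_406_408 (c : Nat) : Nat := @Bool.rec (fun _ => Nat) (Ptab_406) (Ptab_407) (Nat.ble 407 c)
noncomputable def Ptab_s_409_411 (c : Nat) : Nat := @Bool.rec (fun _ => Nat) (Ptab_409) (Ptab_410) (Nat.ble 410 c)
noncomputable def Ptab_s_408_411 (c : Nat) : Nat := @Bool.rec (fun _ => Nat) (Ptab_408) (Ptab_s_409_411 c) (Nat.ble 409 c)
noncomputable def Ptab_s_406_411 (c : Nat) : Nat := @Bool.rec (fun _ => Nat) (Ptab_s_406_408 c) (Ptab_s_408_411 c) (Nat.ble 408 c)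
noncomputable def Ptab_s_411_413 (c : Nat) : Nat := @Bool.rec (fun _ => Nat) (Ptab_411) (Ptab_412) (Nat.ble 412 c)
noncomputable def Ptab_s_414_416 (c : Nat) : Nat := @Bool.rec (fun _ => Nat) (Ptab_414) (Ptab_415) (Nat.ble 415 c)
noncomputable def Ptab_s_413_416 (c : Nat) : Nat := @Bool.rec (fun _ => Nat) (Ptab_413) (Ptab_s_414_416 c) (Nat.ble 414 c)
noncomputable def Ptab_s_411_416 (c : Nat) : Nat := @Bool.rec (fun _ => Nat) (Ptab_s_411_413 c) (Ptab_s_413_416 c) (Nat.ble 413 c)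
noncomputable def Ptab_s_406_416 (c : Nat) : Nat := @Bool.rec (fun _ => Nat) (Ptab_s_406_411 c) (Ptab_s_411_416 c) (Nat.ble 411 c)
noncomputable def Ptab_s_416_418 (c : Nat) : Nat := @Bool.rec (fun _ => Nat) (Ptab_416) (Ptab_417) (Nat.ble 417 c)
noncomputable def Ptab_s_419_421 (c : Nat) : Nat := @Bool.rec (fun _ => Nat) (Ptab_419) (Ptab_420) (Nat.ble 420 c)
noncomputable def Ptab_s_418_421 (c : Nat) : Nat := @Bool.rec (fun _ => Nat) (Ptab_418) (Ptab_s_419_421 c) (Nat.ble 419 c)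
noncomputable def Ptab_s_416_421 (c : Nat) : Nat := @Bool.rec (fun _ => Nat) (Ptab_s_416_418 c) (Ptab_s_418_421 c) (Nat.ble 418 c)
noncomputable def Ptab_s_421_423 (c : Nat) : Nat := @Bool.rec (fun _ => Nat) (Ptab_421) (Ptab_422) (Nat.ble 422 c)
noncomputable def Ptab_s_424_426 (c : Nat) : Nat := @Bool.rec (fun _ => Nat) (Ptab_424) (Ptab_425) (Nat.ble 425 c)
noncomputable def Ptab_s_423_426 (c : Nat) : Nat := @Bool.rec (fun _ => Nat) (Ptab_423) (Ptab_s_424_426 c) (Nat.ble 424 c)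
noncomputable def Ptab_s_421_426 (c : Nat) : Nat := @Bool.rec (fun _ => Nat) (Ptab_s_421_423 c) (Ptab_s_423_426 c) (Nat.ble 423 c)
noncomputable def Ptab_s_416_426 (c : Nat) : Nat := @Bool.rec (fun _ => Nat) (Ptab_s_416_421 c) (Ptab_s_421_426 c) (Nat.ble 421 c)
noncomputable def Ptab_s_406_426 (c : Nat) : Nat := @Bool.rec (fun _ => Nat) (Ptab_s_406_416 c) (Ptab_s_416_426 c) (Nat.ble 416 c)
noncomputable def Ptab_s_387_426 (c : Nat) : Nat := @Bool.rec (fun _ => Nat) (Ptab_s_387_406 c) (Ptab_s_406_426 c) (Nat.ble 406 c)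
noncomputable def Ptab_s_426_428 (c : Nat) : Nat := @Bool.rec (fun _ => Nat) (Ptab_426) (Ptab_427) (Nat.ble 427 c)
noncomputable def Ptab_s_428_430 (c : Nat) : Nat := @Bool.rec (fun _ => Nat) (Ptab_428) (Ptab_429) (Nat.ble 429 c)
noncomputable def Ptab_s_426_430 (c : Nat) : Nat := @Bool.rec (fun _ => Nat) (Ptab_s_426_428 c) (Ptab_s_428_430 c) (Nat.ble 428 c)
noncomputable def Ptab_s_430_432 (c : Nat) : Nat := @Bool.rec (fun _ => Nat) (Ptab_430) (Ptab_431) (Nat.ble 431 c)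
noncomputable def Ptab_s_433_435 (c : Nat) : Nat := @Bool.rec (fun _ => Nat) (Ptab_433) (Ptab_434) (Nat.ble 434 c)
noncomputable def Ptab_s_432_435 (c : Nat) : Nat := @Bool.rec (fun _ => Nat) (Ptab_432) (Ptab_s_433_435 c) (Nat.ble 433 c)
noncomputable def Ptab_s_430_435 (c : Nat) : Nat := @Bool.rec (fun _ => Nat) (Ptab_s_430_432 c) (Ptab_s_432_435 c) (Nat.ble 432 c)
noncomputable def Ptab_s_426_435 (c : Nat) : Nat := @Bool.rec (fun _ => Nat) (Ptab_s_426_430 c) (Ptab_s_430_435 c) (Nat.ble 430 c)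
noncomputable def Ptab_s_435_437 (c : Nat) : Nat := @Bool.rec (fun _ => Nat) (Ptab_435) (Ptab_436) (Nat.ble 436 c)
noncomputable def Ptab_s_438_440 (c : Nat) : Nat := @Bool.rec (fun _ => Nat) (Ptab_438) (Ptab_439) (Nat.ble 439 c)
noncomputable def Ptab_s_437_440 (c : Nat) : Nat := @Bool.rec (fun _ => Nat) (Ptab_437) (Ptab_s_438_440 c) (Nat.ble 438 c)
noncomputable def Ptab_s_435_440 (c : Nat) : Nat := @Bool.rec (fun _ => Nat) (Ptab_s_435_437 c) (Ptab_s_437_440 c) (Nat.ble 437 c)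
noncomputable def Ptab_s_440_442 (c : Nat) : Nat := @Bool.rec (fun _ => Nat) (Ptab_440) (Ptab_441) (Nat.ble 441 c)
noncomputable def Ptab_s_443_445 (c : Nat) : Nat := @Bool.rec (fun _ => Nat) (Ptab_443) (Ptab_444) (Nat.ble 444 c)
noncomputable def Ptab_s_442_445 (c : Nat) : Nat := @Bool.rec (fun _ => Nat) (Ptab_442) (Ptab_s_443_445 c) (Nat.ble 443 c)
noncomputable def Ptab_s_440_445 (c : Nat) : Nat := @Bool.rec (fun _ => Nat) (Ptab_s_440_442 c) (Ptab_s_442_445 c) (Nat.ble 442 c)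
noncomputable def Ptab_s_435_445 (c : Nat) : Nat := @Bool.rec (fun _ => Nat) (Ptab_s_435_440 c) (Ptab_s_440_445 c) (Nat.ble 440 c)
noncomputable def Ptab_s_426_445 (c : Nat) : Nat := @Bool.rec (fun _ => Nat) (Ptab_s_426_435 c) (Ptab_s_435_445 c) (Nat.ble 435 c)
noncomputable def Ptab_s_445_447 (c : Nat) : Nat := @Bool.rec (fun _ => Nat) (Ptab_445) (Ptab_446) (Nat.ble 446 c)
noncomputable def Ptab_s_448_450 (c : Nat) : Nat := @Bool.rec (fun _ => Nat) (Ptab_448) (Ptab_449) (Nat.ble 449 c)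
noncomputable def Ptab_s_447_450 (c : Nat) : Nat := @Bool.rec (fun _ => Nat) (Ptab_447) (Ptab_s_448_450 c) (Nat.ble 448 c)
noncomputable def Ptab_s_445_450 (c : Nat) : Nat := @Bool.rec (fun _ => Nat) (Ptab_s_445_447 c) (Ptab_s_447_450 c) (Nat.ble 447 c)
noncomputable def Ptab_s_450_452 (c : Nat) : Nat := @Bool.rec (fun _ => Nat) (Ptab_450) (Ptab_451) (Nat.ble 451 c)
noncomputable def Ptab_s_453_455 (c : Nat) : Nat := @Bool.rec (fun _ => Nat) (Ptab_453) (Ptab_454) (Nat.ble 454 c)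
noncomputable def Ptab_s_452_455 (c : Nat) : Nat := @Bool.rec (fun _ => Nat) (Ptab_452) (Ptab_s_453_455 c) (Nat.ble 453 c)
noncomputable def Ptab_s_450_455 (c : Nat) : Nat := @Bool.rec (fun _ => Nat) (Ptab_s_450_452 c) (Ptab_s_452_455 c) (Nat.ble 452 c)
noncomputable def Ptab_s_445_455 (c : Nat) : Nat := @Bool.rec (fun _ => Nat) (Ptab_s_445_450 c) (Ptab_s_450_455 c) (Nat.ble 450 c)
noncomputable def Ptab_s_455_457 (c : Nat) : Nat := @Bool.rec (fun _ => Nat) (Ptab_455) (Ptab_456) (Nat.ble 456 c)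
noncomputable def Ptab_s_458_460 (c : Nat) : Nat := @Bool.rec (fun _ => Nat) (Ptab_458) (Ptab_459) (Nat.ble 459 c)
noncomputable def Ptab_s_457_460 (c : Nat) : Nat := @Bool.rec (fun _ => Nat) (Ptab_457) (Ptab_s_458_460 c) (Nat.ble 458 c)
noncomputable def Ptab_s_455_460 (c : Nat) : Nat := @Bool.rec (fun _ => Nat) (Ptab_s_455_457 c) (Ptab_s_457_460 c) (Nat.ble 457 c)
noncomputable def Ptab_s_460_462 (c : Nat) : Nat := @Bool.rec (fun _ => Nat) (Ptab_460) (Ptab_461) (Nat.ble 461 c)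
noncomputable def Ptab_s_463_465 (c : Nat) : Nat := @Bool.rec (fun _ => Nat) (Ptab_463) (Ptab_464) (Nat.ble 464 c)
noncomputable def Ptab_s_462_465 (c : Nat) : Nat := @Bool.rec (fun _ => Nat) (Ptab_462) (Ptab_s_463_465 c) (Nat.ble 463 c)
noncomputable def Ptab_s_460_465 (c : Nat) : Nat := @Bool.rec (fun _ => Nat) (Ptab_s_460_462 c) (Ptab_s_462_465 c) (Nat.ble 462 c)
noncomputable def Ptab_s_455_465 (c : Nat) : Nat := @Bool.rec (fun _ => Nat) (Ptab_s_455_460 c) (Ptab_s_460_465 c) (Nat.ble 460 c)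
noncomputable def Ptab_s_445_465 (c : Nat) : Nat := @Bool.rec (fun _ => Nat) (Ptab_s_445_455 c) (Ptab_s_455_465 c) (Nat.ble 455 c)
noncomputable def Ptab_s_426_465 (c : Nat) : Nat := @Bool.rec (fun _ => Nat) (Ptab_s_426_445 c) (Ptab_s_445_465 c) (Nat.ble 445 c)
noncomputable def Ptab_s_387_465 (c : Nat) : Nat := @Bool.rec (fun _ => Nat) (Ptab_s_387_426 c) (Ptab_s_426_465 c) (Nat.ble 426 c)
noncomputable def Ptab_s_310_465 (c : Nat) : Nat := @Bool.rec (fun _ => Nat) (Ptab_s_310_387 c) (Ptab_s_387_465 c) (Nat.ble 387 c)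
noncomputable def Ptab_s_465_467 (c : Nat) : Nat := @Bool.rec (fun _ => Nat) (Ptab_465) (Ptab_466) (Nat.ble 466 c)
noncomputable def Ptab_s_467_469 (c : Nat) : Nat := @Bool.rec (fun _ => Nat) (Ptab_467) (Ptab_468) (Nat.ble 468 c)
noncomputable def Ptab_s_465_469 (c : Nat) : Nat := @Bool.rec (fun _ => Nat) (Ptab_s_465_467 c) (Ptab_s_467_469 c) (Nat.ble 467 c)
noncomputable def Ptab_s_469_471 (c : Nat) : Nat := @Bool.rec (fun _ => Nat) (Ptab_469) (Ptab_470) (Nat.ble 470 c)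
noncomputable def Ptab_s_472_474 (c : Nat) : Nat := @Bool.rec (fun _ => Nat) (Ptab_472) (Ptab_473) (Nat.ble 473 c)
noncomputable def Ptab_s_471_474 (c : Nat) : Nat := @Bool.rec (fun _ => Nat) (Ptab_471) (Ptab_s_472_474 c) (Nat.ble 472 c)
noncomputable def Ptab_s_469_474 (c : Nat) : Nat := @Bool.rec (fun _ => Nat) (Ptab_s_469_471 c) (Ptab_s_471_474 c) (Nat.ble 471 c)
noncomputable def Ptab_s_465_474 (c : Nat) : Nat := @Bool.rec (fun _ => Nat) (Ptab_s_465_469 c) (Ptab_s_469_474 c) (Nat.ble 469 c)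
noncomputable def Ptab_s_474_476 (c : Nat) : Nat := @Bool.rec (fun _ => Nat) (Ptab_474) (Ptab_475) (Nat.ble 475 c)
noncomputable def Ptab_s_477_479 (c : Nat) : Nat := @Bool.rec (fun _ => Nat) (Ptab_477) (Ptab_478) (Nat.ble 478 c)
noncomputable def Ptab_s_476_479 (c : Nat) : Nat := @Bool.rec (fun _ => Nat) (Ptab_476) (Ptab_s_477_479 c) (Nat.ble 477 c)
noncomputable def Ptab_s_474_479 (c : Nat) : Nat := @Bool.rec (fun _ => Nat) (Ptab_s_474_476 c) (Ptab_s_476_479 c) (Nat.ble 476 c)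
noncomputable def Ptab_s_479_481 (c : Nat) : Nat := @Bool.rec (fun _ => Nat) (Ptab_479) (Ptab_480) (Nat.ble 480 c)
noncomputable def Ptab_s_482_484 (c : Nat) : Nat := @Bool.rec (fun _ => Nat) (Ptab_482) (Ptab_483) (Nat.ble 483 c)
noncomputable def Ptab_s_481_484 (c : Nat) : Nat := @Bool.rec (fun _ => Nat) (Ptab_481) (Ptab_s_482_484 c) (Nat.ble 482 c)
noncomputable def Ptab_s_479_484 (c : Nat) : Nat := @Bool.rec (fun _ => Nat) (Ptab_s_479_481 c) (Ptab_s_481_484 c) (Nat.ble 481 c)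
noncomputable def Ptab_s_474_484 (c : Nat) : Nat := @Bool.rec (fun _ => Nat) (Ptab_s_474_479 c) (Ptab_s_479_484 c) (Nat.ble 479 c)
noncomputable def Ptab_s_465_484 (c : Nat) : Nat := @Bool.rec (fun _ => Nat) (Ptab_s_465_474 c) (Ptab_s_474_484 c) (Nat.ble 474 c)
noncomputable def Ptab_s_484_486 (c : Nat) : Nat := @Bool.rec (fun _ => Nat) (Ptab_484) (Ptab_485) (Nat.ble 485 c)
noncomputable def Ptab_s_487_489 (c : Nat) : Nat := @Bool.rec (fun _ => Nat) (Ptab_487) (Ptab_488) (Nat.ble 488 c)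
noncomputable def Ptab_s_486_489 (c : Nat) : Nat := @Bool.rec (fun _ => Nat) (Ptab_486) (Ptab_s_487_489 c) (Nat.ble 487 c)
noncomputable def Ptab_s_484_489 (c : Nat) : Nat := @Bool.rec (fun _ => Nat) (Ptab_s_484_486 c) (Ptab_s_486_489 c) (Nat.ble 486 c)
noncomputable def Ptab_s_489_491 (c : Nat) : Nat := @Bool.rec (fun _ => Nat) (Ptab_489) (Ptab_490) (Nat.ble 490 c)
noncomputable def Ptab_s_492_494 (c : Nat) : Nat := @Bool.rec (fun _ => Nat) (Ptab_492) (Ptab_493) (Nat.ble 493 c)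
noncomputable def Ptab_s_491_494 (c : Nat) : Nat := @Bool.rec (fun _ => Nat) (Ptab_491) (Ptab_s_492_494 c) (Nat.ble 492 c)
noncomputable def Ptab_s_489_494 (c : Nat) : Nat := @Bool.rec (fun _ => Nat) (Ptab_s_489_491 c) (Ptab_s_491_494 c) (Nat.ble 491 c)
noncomputable def Ptab_s_484_494 (c : Nat) : Nat := @Bool.rec (fun _ => Nat) (Ptab_s_484_489 c) (Ptab_s_489_494 c) (Nat.ble 489 c)
noncomputable def Ptab_s_494_496 (c : Nat) : Nat := @Bool.rec (fun _ => Nat) (Ptab_494) (Ptab_495) (Nat.ble 495 c)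
noncomputable def Ptab_s_497_499 (c : Nat) : Nat := @Bool.rec (fun _ => Nat) (Ptab_497) (Ptab_498) (Nat.ble 498 c)
noncomputable def Ptab_s_496_499 (c : Nat) : Nat := @Bool.rec (fun _ => Nat) (Ptab_496) (Ptab_s_497_499 c) (Nat.ble 497 c)
noncomputable def Ptab_s_494_499 (c : Nat) : Nat := @Bool.rec (fun _ => Nat) (Ptab_s_494_496 c) (Ptab_s_496_499 c) (Nat.ble 496 c)
noncomputable def Ptab_s_499_501 (c : Nat) : Nat := @Bool.rec (fun _ => Nat) (Ptab_499) (Ptab_500) (Nat.ble 500 c)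
noncomputable def Ptab_s_502_504 (c : Nat) : Nat := @Bool.rec (fun _ => Nat) (Ptab_502) (Ptab_503) (Nat.ble 503 c)
noncomputable def Ptab_s_501_504 (c : Nat) : Nat := @Bool.rec (fun _ => Nat) (Ptab_501) (Ptab_s_502_504 c) (Nat.ble 502 c)
noncomputable def Ptab_s_499_504 (c : Nat) : Nat := @Bool.rec (fun _ => Nat) (Ptab_s_499_501 c) (Ptab_s_501_504 c) (Nat.ble 501 c)
noncomputable def Ptab_s_494_504 (c : Nat) : Nat := @Bool.rec (fun _ => Nat) (Ptab_s_494_499 c) (Ptab_s_499_504 c) (Nat.ble 499 c)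
noncomputable def Ptab_s_484_504 (c : Nat) : Nat := @Bool.rec (fun _ => Nat) (Ptab_s_484_494 c) (Ptab_s_494_504 c) (Nat.ble 494 c)
noncomputable def Ptab_s_465_504 (c : Nat) : Nat := @Bool.rec (fun _ => Nat) (Ptab_s_465_484 c) (Ptab_s_484_504 c) (Nat.ble 484 c)
noncomputable def Ptab_s_504_506 (c : Nat) : Nat := @Bool.rec (fun _ => Nat) (Ptab_504) (Ptab_505) (Nat.ble 505 c)
noncomputable def Ptab_s_506_508 (c : Nat) : Nat := @Bool.rec (fun _ => Nat) (Ptab_506) (Ptab_507) (Nat.ble 507 c)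
noncomputable def Ptab_s_504_508 (c : Nat) : Nat := @Bool.rec (fun _ => Nat) (Ptab_s_504_506 c) (Ptab_s_506_508 c) (Nat.ble 506 c)
noncomputable def Ptab_s_508_510 (c : Nat) : Nat := @Bool.rec (fun _ => Nat) (Ptab_508) (Ptab_509) (Nat.ble 509 c)
noncomputable def Ptab_s_511_513 (c : Nat) : Nat := @Bool.rec (fun _ => Nat) (Ptab_511) (Ptab_512) (Nat.ble 512 c)
noncomputable def Ptab_s_510_513 (c : Nat) : Nat := @Bool.rec (fun _ => Nat) (Ptab_510) (Ptab_s_511_513 c) (Nat.ble 511 c)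
noncomputable def Ptab_s_508_513 (c : Nat) : Nat := @Bool.rec (fun _ => Nat) (Ptab_s_508_510 c) (Ptab_s_510_513 c) (Nat.ble 510 c)
noncomputable def Ptab_s_504_513 (c : Nat) : Nat := @Bool.rec (fun _ => Nat) (Ptab_s_504_508 c) (Ptab_s_508_513 c) (Nat.ble 508 c)
noncomputable def Ptab_s_513_515 (c : Nat) : Nat := @Bool.rec (fun _ => Nat) (Ptab_513) (Ptab_514) (Nat.ble 514 c)
noncomputable def Ptab_s_516_518 (c : Nat) : Nat := @Bool.rec (fun _ => Nat) (Ptab_516) (Ptab_517) (Nat.ble 517 c)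
noncomputable def Ptab_s_515_518 (c : Nat) : Nat := @Bool.rec (fun _ => Nat) (Ptab_515) (Ptab_s_516_518 c) (Nat.ble 516 c)
noncomputable def Ptab_s_513_518 (c : Nat) : Nat := @Bool.rec (fun _ => Nat) (Ptab_s_513_515 c) (Ptab_s_515_518 c) (Nat.ble 515 c)
noncomputable def Ptab_s_518_520 (c : Nat) : Nat := @Bool.rec (fun _ => Nat) (Ptab_518) (Ptab_519) (Nat.ble 519 c)
noncomputable def Ptab_s_521_523 (c : Nat) : Nat := @Bool.rec (fun _ => Nat) (Ptab_521) (Ptab_522) (Nat.ble 522 c)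
noncomputable def Ptab_s_520_523 (c : Nat) : Nat := @Bool.rec (fun _ => Nat) (Ptab_520) (Ptab_s_521_523 c) (Nat.ble 521 c)
noncomputable def Ptab_s_518_523 (c : Nat) : Nat := @Bool.rec (fun _ => Nat) (Ptab_s_518_520 c) (Ptab_s_520_523 c) (Nat.ble 520 c)
noncomputable def Ptab_s_513_523 (c : Nat) : Nat := @Bool.rec (fun _ => Nat) (Ptab_s_513_518 c) (Ptab_s_518_523 c) (Nat.ble 518 c)
noncomputable def Ptab_s_504_523 (c : Nat) : Nat := @Bool.rec (fun _ => Nat) (Ptab_s_504_513 c) (Ptab_s_513_523 c) (Nat.ble 513 c)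
noncomputable def Ptab_s_523_525 (c : Nat) : Nat := @Bool.rec (fun _ => Nat) (Ptab_523) (Ptab_524) (Nat.ble 524 c)
noncomputable def Ptab_s_526_528 (c : Nat) : Nat := @Bool.rec (fun _ => Nat) (Ptab_526) (Ptab_527) (Nat.ble 527 c)
noncomputable def Ptab_s_525_528 (c : Nat) : Nat := @Bool.rec (fun _ => Nat) (Ptab_525) (Ptab_s_526_528 c) (Nat.ble 526 c)
noncomputable def Ptab_s_523_528 (c : Nat) : Nat := @Bool.rec (fun _ => Nat) (Ptab_s_523_525 c) (Ptab_s_525_528 c) (Nat.ble 525 c)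
noncomputable def Ptab_s_528_530 (c : Nat) : Nat := @Bool.rec (fun _ => Nat) (Ptab_528) (Ptab_529) (Nat.ble 529 c)
noncomputable def Ptab_s_531_533 (c : Nat) : Nat := @Bool.rec (fun _ => Nat) (Ptab_531) (Ptab_532) (Nat.ble 532 c)
noncomputable def Ptab_s_530_533 (c : Nat) : Nat := @Bool.rec (fun _ => Nat) (Ptab_530) (Ptab_s_531_533 c) (Nat.ble 531 c)
noncomputable def Ptab_s_528_533 (c : Nat) : Nat := @Bool.rec (fun _ => Nat) (Ptab_s_528_530 c) (Ptab_s_530_533 c) (Nat.ble 530 c)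
noncomputable def Ptab_s_523_533 (c : Nat) : Nat := @Bool.rec (fun _ => Nat) (Ptab_s_523_528 c) (Ptab_s_528_533 c) (Nat.ble 528 c)
noncomputable def Ptab_s_533_535 (c : Nat) : Nat := @Bool.rec (fun _ => Nat) (Ptab_533) (Ptab_534) (Nat.ble 534 c)
noncomputable def Ptab_s_536_538 (c : Nat) : Nat := @Bool.rec (fun _ => Nat) (Ptab_536) (Ptab_537) (Nat.ble 537 c)
noncomputable def Ptab_s_535_538 (c : Nat) : Nat := @Bool.rec (fun _ => Nat) (Ptab_535) (Ptab_s_536_538 c) (Nat.ble 536 c)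
noncomputable def Ptab_s_533_538 (c : Nat) : Nat := @Bool.rec (fun _ => Nat) (Ptab_s_533_535 c) (Ptab_s_535_538 c) (Nat.ble 535 c)
noncomputable def Ptab_s_538_540 (c : Nat) : Nat := @Bool.rec (fun _ => Nat) (Ptab_538) (Ptab_539) (Nat.ble 539 c)
noncomputable def Ptab_s_541_543 (c : Nat) : Nat := @Bool.rec (fun _ => Nat) (Ptab_541) (Ptab_542) (Nat.ble 542 c)
noncomputable def Ptab_s_540_543 (c : Nat) : Nat := @Bool.rec (fun _ => Nat) (Ptab_540) (Ptab_s_541_543 c) (Nat.ble 541 c)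
noncomputable def Ptab_s_538_543 (c : Nat) : Nat := @Bool.rec (fun _ => Nat) (Ptab_s_538_540 c) (Ptab_s_540_543 c) (Nat.ble 540 c)
noncomputable def Ptab_s_533_543 (c : Nat) : Nat := @Bool.rec (fun _ => Nat) (Ptab_s_533_538 c) (Ptab_s_538_543 c) (Nat.ble 538 c)
noncomputable def Ptab_s_523_543 (c : Nat) : Nat := @Bool.rec (fun _ => Nat) (Ptab_s_523_533 c) (Ptab_s_533_543 c) (Nat.ble 533 c)
noncomputable def Ptab_s_504_543 (c : Nat) : Nat := @Bool.rec (fun _ => Nat) (Ptab_s_504_523 c) (Ptab_s_523_543 c) (Nat.ble 523 c)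
noncomputable def Ptab_s_465_543 (c : Nat) : Nat := @Bool.rec (fun _ => Nat) (Ptab_s_465_504 c) (Ptab_s_504_543 c) (Nat.ble 504 c)
noncomputable def Ptab_s_543_545 (c : Nat) : Nat := @Bool.rec (fun _ => Nat) (Ptab_543) (Ptab_544) (Nat.ble 544 c)
noncomputable def Ptab_s_545_547 (c : Nat) : Nat := @Bool.rec (fun _ => Nat) (Ptab_545) (Ptab_546) (Nat.ble 546 c)
noncomputable def Ptab_s_543_547 (c : Nat) : Nat := @Bool.rec (fun _ => Nat) (Ptab_s_543_545 c) (Ptab_s_545_547 c) (Nat.ble 545 c)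
noncomputable def Ptab_s_547_549 (c : Nat) : Nat := @Bool.rec (fun _ => Nat) (Ptab_547) (Ptab_548) (Nat.ble 548 c)
noncomputable def Ptab_s_550_552 (c : Nat) : Nat := @Bool.rec (fun _ => Nat) (Ptab_550) (Ptab_551) (Nat.ble 551 c)
noncomputable def Ptab_s_549_552 (c : Nat) : Nat := @Bool.rec (fun _ => Nat) (Ptab_549) (Ptab_s_550_552 c) (Nat.ble 550 c)
noncomputable def Ptab_s_547_552 (c : Nat) : Nat := @Bool.rec (fun _ => Nat) (Ptab_s_547_549 c) (Ptab_s_549_552 c) (Nat.ble 549 c)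
noncomputable def Ptab_s_543_552 (c : Nat) : Nat := @Bool.rec (fun _ => Nat) (Ptab_s_543_547 c) (Ptab_s_547_552 c) (Nat.ble 547 c)
noncomputable def Ptab_s_552_554 (c : Nat) : Nat := @Bool.rec (fun _ => Nat) (Ptab_552) (Ptab_553) (Nat.ble 553 c)
noncomputable def Ptab_s_555_557 (c : Nat) : Nat := @Bool.rec (fun _ => Nat) (Ptab_555) (Ptab_556) (Nat.ble 556 c)
noncomputable def Ptab_s_554_557 (c : Nat) : Nat := @Bool.rec (fun _ => Nat) (Ptab_554) (Ptab_s_555_557 c) (Nat.ble 555 c)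
noncomputable def Ptab_s_552_557 (c : Nat) : Nat := @Bool.rec (fun _ => Nat) (Ptab_s_552_554 c) (Ptab_s_554_557 c) (Nat.ble 554 c)
noncomputable def Ptab_s_557_559 (c : Nat) : Nat := @Bool.rec (fun _ => Nat) (Ptab_557) (Ptab_558) (Nat.ble 558 c)
noncomputable def Ptab_s_560_562 (c : Nat) : Nat := @Bool.rec (fun _ => Nat) (Ptab_560) (Ptab_561) (Nat.ble 561 c)
noncomputable def Ptab_s_559_562 (c : Nat) : Nat := @Bool.rec (fun _ => Nat) (Ptab_559) (Ptab_s_560_562 c) (Nat.ble 560 c)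
noncomputable def Ptab_s_557_562 (c : Nat) : Nat := @Bool.rec (fun _ => Nat) (Ptab_s_557_559 c) (Ptab_s_559_562 c) (Nat.ble 559 c)
noncomputable def Ptab_s_552_562 (c : Nat) : Nat := @Bool.rec (fun _ => Nat) (Ptab_s_552_557 c) (Ptab_s_557_562 c) (Nat.ble 557 c)
noncomputable def Ptab_s_543_562 (c : Nat) : Nat := @Bool.rec (fun _ => Nat) (Ptab_s_543_552 c) (Ptab_s_552_562 c) (Nat.ble 552 c)
noncomputable def Ptab_s_562_564 (c : Nat) : Nat := @Bool.rec (fun _ => Nat) (Ptab_562) (Ptab_563) (Nat.ble 563 c)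
noncomputable def Ptab_s_565_567 (c : Nat) : Nat := @Bool.rec (fun _ => Nat) (Ptab_565) (Ptab_566) (Nat.ble 566 c)
noncomputable def Ptab_s_564_567 (c : Nat) : Nat := @Bool.rec (fun _ => Nat) (Ptab_564) (Ptab_s_565_567 c) (Nat.ble 565 c)
noncomputable def Ptab_s_562_567 (c : Nat) : Nat := @Bool.rec (fun _ => Nat) (Ptab_s_562_564 c) (Ptab_s_564_567 c) (Nat.ble 564 c)
noncomputable def Ptab_s_567_569 (c : Nat) : Nat := @Bool.rec (fun _ => Nat) (Ptab_567) (Ptab_568) (Nat.ble 568 c)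
noncomputable def Ptab_s_570_572 (c : Nat) : Nat := @Bool.rec (fun _ => Nat) (Ptab_570) (Ptab_571) (Nat.ble 571 c)
noncomputable def Ptab_s_569_572 (c : Nat) : Nat := @Bool.rec (fun _ => Nat) (Ptab_569) (Ptab_s_570_572 c) (Nat.ble 570 c)
noncomputable def Ptab_s_567_572 (c : Nat) : Nat := @Bool.rec (fun _ => Nat) (Ptab_s_567_569 c) (Ptab_s_569_572 c) (Nat.ble 569 c)
noncomputable def Ptab_s_562_572 (c : Nat) : Nat := @Bool.rec (fun _ => Nat) (Ptab_s_562_567 c) (Ptab_s_567_572 c) (Nat.ble 567 c)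
noncomputable def Ptab_s_572_574 (c : Nat) : Nat := @Bool.rec (fun _ => Nat) (Ptab_572) (Ptab_573) (Nat.ble 573 c)
noncomputable def Ptab_s_575_577 (c : Nat) : Nat := @Bool.rec (fun _ => Nat) (Ptab_575) (Ptab_576) (Nat.ble 576 c)
noncomputable def Ptab_s_574_577 (c : Nat) : Nat := @Bool.rec (fun _ => Nat) (Ptab_574) (Ptab_s_575_577 c) (Nat.ble 575 c)
noncomputable def Ptab_s_572_577 (c : Nat) : Nat := @Bool.rec (fun _ => Nat) (Ptab_s_572_574 c) (Ptab_s_574_577 c) (Nat.ble 574 c)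
noncomputable def Ptab_s_577_579 (c : Nat) : Nat := @Bool.rec (fun _ => Nat) (Ptab_577) (Ptab_578) (Nat.ble 578 c)
noncomputable def Ptab_s_580_582 (c : Nat) : Nat := @Bool.rec (fun _ => Nat) (Ptab_580) (Ptab_581) (Nat.ble 581 c)
noncomputable def Ptab_s_579_582 (c : Nat) : Nat := @Bool.rec (fun _ => Nat) (Ptab_579) (Ptab_s_580_582 c) (Nat.ble 580 c)
noncomputable def Ptab_s_577_582 (c : Nat) : Nat := @Bool.rec (fun _ => Nat) (Ptab_s_577_579 c) (Ptab_s_579_582 c) (Nat.ble 579 c)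
noncomputable def Ptab_s_572_582 (c : Nat) : Nat := @Bool.rec (fun _ => Nat) (Ptab_s_572_577 c) (Ptab_s_577_582 c) (Nat.ble 577 c)
noncomputable def Ptab_s_562_582 (c : Nat) : Nat := @Bool.rec (fun _ => Nat) (Ptab_s_562_572 c) (Ptab_s_572_582 c) (Nat.ble 572 c)
noncomputable def Ptab_s_543_582 (c : Nat) : Nat := @Bool.rec (fun _ => Nat) (Ptab_s_543_562 c) (Ptab_s_562_582 c) (Nat.ble 562 c)
noncomputable def Ptab_s_582_584 (c : Nat) : Nat := @Bool.rec (fun _ => Nat) (Ptab_582) (Ptab_583) (Nat.ble 583 c)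
noncomputable def Ptab_s_584_586 (c : Nat) : Nat := @Bool.rec (fun _ => Nat) (Ptab_584) (Ptab_585) (Nat.ble 585 c)
noncomputable def Ptab_s_582_586 (c : Nat) : Nat := @Bool.rec (fun _ => Nat) (Ptab_s_582_584 c) (Ptab_s_584_586 c) (Nat.ble 584 c)
noncomputable def Ptab_s_586_588 (c : Nat) : Nat := @Bool.rec (fun _ => Nat) (Ptab_586) (Ptab_587) (Nat.ble 587 c)
noncomputable def Ptab_s_589_591 (c : Nat) : Nat := @Bool.rec (fun _ => Nat) (Ptab_589) (Ptab_590) (Nat.ble 590 c)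
noncomputable def Ptab_s_588_591 (c : Nat) : Nat := @Bool.rec (fun _ => Nat) (Ptab_588) (Ptab_s_589_591 c) (Nat.ble 589 c)
noncomputable def Ptab_s_586_591 (c : Nat) : Nat := @Bool.rec (fun _ => Nat) (Ptab_s_586_588 c) (Ptab_s_588_591 c) (Nat.ble 588 c)
noncomputable def Ptab_s_582_591 (c : Nat) : Nat := @Bool.rec (fun _ => Nat) (Ptab_s_582_586 c) (Ptab_s_586_591 c) (Nat.ble 586 c)
noncomputable def Ptab_s_591_593 (c : Nat) : Nat := @Bool.rec (fun _ => Nat) (Ptab_591) (Ptab_592) (Nat.ble 592 c)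
noncomputable def Ptab_s_594_596 (c : Nat) : Nat := @Bool.rec (fun _ => Nat) (Ptab_594) (Ptab_595) (Nat.ble 595 c)
noncomputable def Ptab_s_593_596 (c : Nat) : Nat := @Bool.rec (fun _ => Nat) (Ptab_593) (Ptab_s_594_596 c) (Nat.ble 594 c)
noncomputable def Ptab_s_591_596 (c : Nat) : Nat := @Bool.rec (fun _ => Nat) (Ptab_s_591_593 c) (Ptab_s_593_596 c) (Nat.ble 593 c)
noncomputable def Ptab_s_596_598 (c : Nat) : Nat := @Bool.rec (fun _ => Nat) (Ptab_596) (Ptab_597) (Nat.ble 597 c)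
noncomputable def Ptab_s_599_601 (c : Nat) : Nat := @Bool.rec (fun _ => Nat) (Ptab_599) (Ptab_600) (Nat.ble 600 c)
noncomputable def Ptab_s_598_601 (c : Nat) : Nat := @Bool.rec (fun _ => Nat) (Ptab_598) (Ptab_s_599_601 c) (Nat.ble 599 c)
noncomputable def Ptab_s_596_601 (c : Nat) : Nat := @Bool.rec (fun _ => Nat) (Ptab_s_596_598 c) (Ptab_s_598_601 c) (Nat.ble 598 c)
noncomputable def Ptab_s_591_601 (c : Nat) : Nat := @Bool.rec (fun _ => Nat) (Ptab_s_591_596 c) (Ptab_s_596_601 c) (Nat.ble 596 c)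
noncomputable def Ptab_s_582_601 (c : Nat) : Nat := @Bool.rec (fun _ => Nat) (Ptab_s_582_591 c) (Ptab_s_591_601 c) (Nat.ble 591 c)
noncomputable def Ptab_s_601_603 (c : Nat) : Nat := @Bool.rec (fun _ => Nat) (Ptab_601) (Ptab_602) (Nat.ble 602 c)
noncomputable def Ptab_s_604_606 (c : Nat) : Nat := @Bool.rec (fun _ => Nat) (Ptab_604) (Ptab_605) (Nat.ble 605 c)
noncomputable def Ptab_s_603_606 (c : Nat) : Nat := @Bool.rec (fun _ => Nat) (Ptab_603) (Ptab_s_604_606 c) (Nat.ble 604 c)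
noncomputable def Ptab_s_601_606 (c : Nat) : Nat := @Bool.rec (fun _ => Nat) (Ptab_s_601_603 c) (Ptab_s_603_606 c) (Nat.ble 603 c)
noncomputable def Ptab_s_606_608 (c : Nat) : Nat := @Bool.rec (fun _ => Nat) (Ptab_606) (Ptab_607) (Nat.ble 607 c)
noncomputable def Ptab_s_609_611 (c : Nat) : Nat := @Bool.rec (fun _ => Nat) (Ptab_609) (Ptab_610) (Nat.ble 610 c)
noncomputable def Ptab_s_608_611 (c : Nat) : Nat := @Bool.rec (fun _ => Nat) (Ptab_608) (Ptab_s_609_611 c) (Nat.ble 609 c)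
noncomputable def Ptab_s_606_611 (c : Nat) : Nat := @Bool.rec (fun _ => Nat) (Ptab_s_606_608 c) (Ptab_s_608_611 c) (Nat.ble 608 c)
noncomputable def Ptab_s_601_611 (c : Nat) : Nat := @Bool.rec (fun _ => Nat) (Ptab_s_601_606 c) (Ptab_s_606_611 c) (Nat.ble 606 c)
noncomputable def Ptab_s_611_613 (c : Nat) : Nat := @Bool.rec (fun _ => Nat) (Ptab_611) (Ptab_612) (Nat.ble 612 c)
noncomputable def Ptab_s_614_616 (c : Nat) : Nat := @Bool.rec (fun _ => Nat) (Ptab_614) (Ptab_615) (Nat.ble 615 c)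
noncomputable def Ptab_s_613_616 (c : Nat) : Nat := @Bool.rec (fun _ => Nat) (Ptab_613) (Ptab_s_614_616 c) (Nat.ble 614 c)
noncomputable def Ptab_s_611_616 (c : Nat) : Nat := @Bool.rec (fun _ => Nat) (Ptab_s_611_613 c) (Ptab_s_613_616 c) (Nat.ble 613 c)
noncomputable def Ptab_s_616_618 (c : Nat) : Nat := @Bool.rec (fun _ => Nat) (Ptab_616) (Ptab_617) (Nat.ble 617 c)
noncomputable def Ptab_s_619_621 (c : Nat) : Nat := @Bool.rec (fun _ => Nat) (Ptab_619) (Ptab_620) (Nat.ble 620 c)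
noncomputable def Ptab_s_618_621 (c : Nat) : Nat := @Bool.rec (fun _ => Nat) (Ptab_618) (Ptab_s_619_621 c) (Nat.ble 619 c)
noncomputable def Ptab_s_616_621 (c : Nat) : Nat := @Bool.rec (fun _ => Nat) (Ptab_s_616_618 c) (Ptab_s_618_621 c) (Nat.ble 618 c)
noncomputable def Ptab_s_611_621 (c : Nat) : Nat := @Bool.rec (fun _ => Nat) (Ptab_s_611_616 c) (Ptab_s_616_621 c) (Nat.ble 616 c)
noncomputable def Ptab_s_601_621 (c : Nat) : Nat := @Bool.rec (fun _ => Nat) (Ptab_s_601_611 c) (Ptab_s_611_621 c) (Nat.ble 611 c)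
noncomputable def Ptab_s_582_621 (c : Nat) : Nat := @Bool.rec (fun _ => Nat) (Ptab_s_582_601 c) (Ptab_s_601_621 c) (Nat.ble 601 c)
noncomputable def Ptab_s_543_621 (c : Nat) : Nat := @Bool.rec (fun _ => Nat) (Ptab_s_543_582 c) (Ptab_s_582_621 c) (Nat.ble 582 c)
noncomputable def Ptab_s_465_621 (c : Nat) : Nat := @Bool.rec (fun _ => Nat) (Ptab_s_465_543 c) (Ptab_s_543_621 c) (Nat.ble 543 c)
noncomputable def Ptab_s_310_621 (c : Nat) : Nat := @Bool.rec (fun _ => Nat) (Ptab_s_310_465 c) (Ptab_s_465_621 c) (Nat.ble 465 c)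
noncomputable def Ptab_s_0_621 (c : Nat) : Nat := @Bool.rec (fun _ => Nat) (Ptab_s_0_310 c) (Ptab_s_310_621 c) (Nat.ble 310 c)
noncomputable def Ptab (i : Nat) : Nat := rdw 21 2097151 (Ptab_s_0_621 (Nat.shiftRight i 12)) (Nat.land i 4095)
noncomputable def RRtab (i : Nat) : Nat := rdw 6 63 RRtab_0 i
noncomputable def rBtab (i : Nat) : Nat := rdw 12 4095 rBtab_0 i
noncomputable def rLtab (i : Nat) : Nat := rdw 6 63 rLtab_0 i
noncomputable def nameTab_s_0_2 (c : Nat) : Nat := @Bool.rec (fun _ => Nat) (nameTab_0) (nameTab_1) (Nat.ble 1 c)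
noncomputable def nameTab (i : Nat) : Nat := rdw 18 262143 (nameTab_s_0_2 (Nat.shiftRight i 12)) (Nat.land i 4095)
noncomputable def col0_s_0_2 (c : Nat) : Nat := @Bool.rec (fun _ => Nat) (col0_0) (col0_1) (Nat.ble 1 c)
noncomputable def col0 (i : Nat) : Nat := rdw 13 8191 (col0_s_0_2 (Nat.shiftRight i 12)) (Nat.land i 4095)
noncomputable def col1_s_0_2 (c : Nat) : Nat := @Bool.rec (fun _ => Nat) (col1_0) (col1_1) (Nat.ble 1 c)
noncomputable def col1 (i : Nat) : Nat := rdw 13 8191 (col1_s_0_2 (Nat.shiftRight i 12)) (Nat.land i 4095)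
noncomputable def col2_s_0_2 (c : Nat) : Nat := @Bool.rec (fun _ => Nat) (col2_0) (col2_1) (Nat.ble 1 c)
noncomputable def col2 (i : Nat) : Nat := rdw 13 8191 (col2_s_0_2 (Nat.shiftRight i 12)) (Nat.land i 4095)
noncomputable def col3_s_0_2 (c : Nat) : Nat := @Bool.rec (fun _ => Nat) (col3_0) (col3_1) (Nat.ble 1 c)
noncomputable def col3 (i : Nat) : Nat := rdw 13 8191 (col3_s_0_2 (Nat.shiftRight i 12)) (Nat.land i 4095)
noncomputable def col4_s_0_2 (c : Nat) : Nat := @Bool.rec (fun _ => Nat) (col4_0) (col4_1) (Nat.ble 1 c)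
noncomputable def col4 (i : Nat) : Nat := rdw 13 8191 (col4_s_0_2 (Nat.shiftRight i 12)) (Nat.land i 4095)
noncomputable def col5_s_0_2 (c : Nat) : Nat := @Bool.rec (fun _ => Nat) (col5_0) (col5_1) (Nat.ble 1 c)
noncomputable def col5 (i : Nat) : Nat := rdw 13 8191 (col5_s_0_2 (Nat.shiftRight i 12)) (Nat.land i 4095)
noncomputable def col6_s_0_2 (c : Nat) : Nat := @Bool.rec (fun _ => Nat) (col6_0) (col6_1) (Nat.ble 1 c)
noncomputable def col6 (i : Nat) : Nat := rdw 13 8191 (col6_s_0_2 (Nat.shiftRight i 12)) (Nat.land i 4095)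
noncomputable def col7_s_0_2 (c : Nat) : Nat := @Bool.rec (fun _ => Nat) (col7_0) (col7_1) (Nat.ble 1 c)
noncomputable def col7 (i : Nat) : Nat := rdw 13 8191 (col7_s_0_2 (Nat.shiftRight i 12)) (Nat.land i 4095)
noncomputable def col8_s_0_2 (c : Nat) : Nat := @Bool.rec (fun _ => Nat) (col8_0) (col8_1) (Nat.ble 1 c)
noncomputable def col8 (i : Nat) : Nat := rdw 13 8191 (col8_s_0_2 (Nat.shiftRight i 12)) (Nat.land i 4095)
noncomputable def col9_s_0_2 (c : Nat) : Nat := @Bool.rec (fun _ => Nat) (col9_0) (col9_1) (Nat.ble 1 c)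
noncomputable def col9 (i : Nat) : Nat := rdw 13 8191 (col9_s_0_2 (Nat.shiftRight i 12)) (Nat.land i 4095)
noncomputable def col10_s_0_2 (c : Nat) : Nat := @Bool.rec (fun _ => Nat) (col10_0) (col10_1) (Nat.ble 1 c)
noncomputable def col10 (i : Nat) : Nat := rdw 13 8191 (col10_s_0_2 (Nat.shiftRight i 12)) (Nat.land i 4095)
noncomputable def col11_s_0_2 (c : Nat) : Nat := @Bool.rec (fun _ => Nat) (col11_0) (col11_1) (Nat.ble 1 c)
noncomputable def col11 (i : Nat) : Nat := rdw 13 8191 (col11_s_0_2 (Nat.shiftRight i 12)) (Nat.land i 4095)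
noncomputable def col12_s_0_2 (c : Nat) : Nat := @Bool.rec (fun _ => Nat) (col12_0) (col12_1) (Nat.ble 1 c)
noncomputable def col12 (i : Nat) : Nat := rdw 13 8191 (col12_s_0_2 (Nat.shiftRight i 12)) (Nat.land i 4095)
noncomputable def col13_s_0_2 (c : Nat) : Nat := @Bool.rec (fun _ => Nat) (col13_0) (col13_1) (Nat.ble 1 c)
noncomputable def col13 (i : Nat) : Nat := rdw 13 8191 (col13_s_0_2 (Nat.shiftRight i 12)) (Nat.land i 4095)
noncomputable def col14_s_0_2 (c : Nat) : Nat := @Bool.rec (fun _ => Nat) (col14_0) (col14_1) (Nat.ble 1 c)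
noncomputable def col14 (i : Nat) : Nat := rdw 13 8191 (col14_s_0_2 (Nat.shiftRight i 12)) (Nat.land i 4095)
noncomputable def col15_s_0_2 (c : Nat) : Nat := @Bool.rec (fun _ => Nat) (col15_0) (col15_1) (Nat.ble 1 c)
noncomputable def col15 (i : Nat) : Nat := rdw 13 8191 (col15_s_0_2 (Nat.shiftRight i 12)) (Nat.land i 4095)
noncomputable def col16_s_0_2 (c : Nat) : Nat := @Bool.rec (fun _ => Nat) (col16_0) (col16_1) (Nat.ble 1 c)
noncomputable def col16 (i : Nat) : Nat := rdw 13 8191 (col16_s_0_2 (Nat.shiftRight i 12)) (Nat.land i 4095)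
noncomputable def col17_s_0_2 (c : Nat) : Nat := @Bool.rec (fun _ => Nat) (col17_0) (col17_1) (Nat.ble 1 c)
noncomputable def col17 (i : Nat) : Nat := rdw 13 8191 (col17_s_0_2 (Nat.shiftRight i 12)) (Nat.land i 4095)
noncomputable def col18_s_0_2 (c : Nat) : Nat := @Bool.rec (fun _ => Nat) (col18_0) (col18_1) (Nat.ble 1 c)
noncomputable def col18 (i : Nat) : Nat := rdw 13 8191 (col18_s_0_2 (Nat.shiftRight i 12)) (Nat.land i 4095)
noncomputable def col19_s_0_2 (c : Nat) : Nat := @Bool.rec (fun _ => Nat) (col19_0) (col19_1) (Nat.ble 1 c)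
noncomputable def col19 (i : Nat) : Nat := rdw 13 8191 (col19_s_0_2 (Nat.shiftRight i 12)) (Nat.land i 4095)
noncomputable def col20_s_0_2 (c : Nat) : Nat := @Bool.rec (fun _ => Nat) (col20_0) (col20_1) (Nat.ble 1 c)
noncomputable def col20 (i : Nat) : Nat := rdw 13 8191 (col20_s_0_2 (Nat.shiftRight i 12)) (Nat.land i 4095)
noncomputable def col21_s_0_2 (c : Nat) : Nat := @Bool.rec (fun _ => Nat) (col21_0) (col21_1) (Nat.ble 1 c)
noncomputable def col21 (i : Nat) : Nat := rdw 13 8191 (col21_s_0_2 (Nat.shiftRight i 12)) (Nat.land i 4095)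
noncomputable def col22_s_0_2 (c : Nat) : Nat := @Bool.rec (fun _ => Nat) (col22_0) (col22_1) (Nat.ble 1 c)
noncomputable def col22 (i : Nat) : Nat := rdw 13 8191 (col22_s_0_2 (Nat.shiftRight i 12)) (Nat.land i 4095)
noncomputable def col23_s_0_2 (c : Nat) : Nat := @Bool.rec (fun _ => Nat) (col23_0) (col23_1) (Nat.ble 1 c)
noncomputable def col23 (i : Nat) : Nat := rdw 13 8191 (col23_s_0_2 (Nat.shiftRight i 12)) (Nat.land i 4095)
noncomputable def col24_s_0_2 (c : Nat) : Nat := @Bool.rec (fun _ => Nat) (col24_0) (col24_1) (Nat.ble 1 c)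
noncomputable def col24 (i : Nat) : Nat := rdw 13 8191 (col24_s_0_2 (Nat.shiftRight i 12)) (Nat.land i 4095)
noncomputable def col25_s_0_2 (c : Nat) : Nat := @Bool.rec (fun _ => Nat) (col25_0) (col25_1) (Nat.ble 1 c)
noncomputable def col25 (i : Nat) : Nat := rdw 13 8191 (col25_s_0_2 (Nat.shiftRight i 12)) (Nat.land i 4095)
noncomputable def col26_s_0_2 (c : Nat) : Nat := @Bool.rec (fun _ => Nat) (col26_0) (col26_1) (Nat.ble 1 c)
noncomputable def col26 (i : Nat) : Nat := rdw 13 8191 (col26_s_0_2 (Nat.shiftRight i 12)) (Nat.land i 4095)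
noncomputable def col27_s_0_2 (c : Nat) : Nat := @Bool.rec (fun _ => Nat) (col27_0) (col27_1) (Nat.ble 1 c)
noncomputable def col27 (i : Nat) : Nat := rdw 13 8191 (col27_s_0_2 (Nat.shiftRight i 12)) (Nat.land i 4095)
noncomputable def col28_s_0_2 (c : Nat) : Nat := @Bool.rec (fun _ => Nat) (col28_0) (col28_1) (Nat.ble 1 c)
noncomputable def col28 (i : Nat) : Nat := rdw 13 8191 (col28_s_0_2 (Nat.shiftRight i 12)) (Nat.land i 4095)
noncomputable def col29_s_0_2 (c : Nat) : Nat := @Bool.rec (fun _ => Nat) (col29_0) (col29_1) (Nat.ble 1 c)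
noncomputable def col29 (i : Nat) : Nat := rdw 13 8191 (col29_s_0_2 (Nat.shiftRight i 12)) (Nat.land i 4095)
noncomputable def col30_s_0_2 (c : Nat) : Nat := @Bool.rec (fun _ => Nat) (col30_0) (col30_1) (Nat.ble 1 c)
noncomputable def col30 (i : Nat) : Nat := rdw 13 8191 (col30_s_0_2 (Nat.shiftRight i 12)) (Nat.land i 4095)
noncomputable def col31_s_0_2 (c : Nat) : Nat := @Bool.rec (fun _ => Nat) (col31_0) (col31_1) (Nat.ble 1 c)
noncomputable def col31 (i : Nat) : Nat := rdw 13 8191 (col31_s_0_2 (Nat.shiftRight i 12)) (Nat.land i 4095)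
noncomputable def col32_s_0_2 (c : Nat) : Nat := @Bool.rec (fun _ => Nat) (col32_0) (col32_1) (Nat.ble 1 c)
noncomputable def col32 (i : Nat) : Nat := rdw 13 8191 (col32_s_0_2 (Nat.shiftRight i 12)) (Nat.land i 4095)
noncomputable def col33_s_0_2 (c : Nat) : Nat := @Bool.rec (fun _ => Nat) (col33_0) (col33_1) (Nat.ble 1 c)
noncomputable def col33 (i : Nat) : Nat := rdw 13 8191 (col33_s_0_2 (Nat.shiftRight i 12)) (Nat.land i 4095)
noncomputable def col34_s_0_2 (c : Nat) : Nat := @Bool.rec (fun _ => Nat) (col34_0) (col34_1) (Nat.ble 1 c)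
noncomputable def col34 (i : Nat) : Nat := rdw 13 8191 (col34_s_0_2 (Nat.shiftRight i 12)) (Nat.land i 4095)
noncomputable def col35_s_0_2 (c : Nat) : Nat := @Bool.rec (fun _ => Nat) (col35_0) (col35_1) (Nat.ble 1 c)
noncomputable def col35 (i : Nat) : Nat := rdw 13 8191 (col35_s_0_2 (Nat.shiftRight i 12)) (Nat.land i 4095)
noncomputable def col36_s_0_2 (c : Nat) : Nat := @Bool.rec (fun _ => Nat) (col36_0) (col36_1) (Nat.ble 1 c)
noncomputable def col36 (i : Nat) : Nat := rdw 13 8191 (col36_s_0_2 (Nat.shiftRight i 12)) (Nat.land i 4095)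
noncomputable def col37_s_0_2 (c : Nat) : Nat := @Bool.rec (fun _ => Nat) (col37_0) (col37_1) (Nat.ble 1 c)
noncomputable def col37 (i : Nat) : Nat := rdw 13 8191 (col37_s_0_2 (Nat.shiftRight i 12)) (Nat.land i 4095)
noncomputable def col38_s_0_2 (c : Nat) : Nat := @Bool.rec (fun _ => Nat) (col38_0) (col38_1) (Nat.ble 1 c)
noncomputable def col38 (i : Nat) : Nat := rdw 13 8191 (col38_s_0_2 (Nat.shiftRight i 12)) (Nat.land i 4095)
noncomputable def col39_s_0_2 (c : Nat) : Nat := @Bool.rec (fun _ => Nat) (col39_0) (col39_1) (Nat.ble 1 c)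
noncomputable def col39 (i : Nat) : Nat := rdw 13 8191 (col39_s_0_2 (Nat.shiftRight i 12)) (Nat.land i 4095)
noncomputable def finTab_s_0_2 (c : Nat) : Nat := @Bool.rec (fun _ => Nat) (finTab_0) (finTab_1) (Nat.ble 1 c)
noncomputable def finTab_s_3_5 (c : Nat) : Nat := @Bool.rec (fun _ => Nat) (finTab_3) (finTab_4) (Nat.ble 4 c)
noncomputable def finTab_s_2_5 (c : Nat) : Nat := @Bool.rec (fun _ => Nat) (finTab_2) (finTab_s_3_5 c) (Nat.ble 3 c)
noncomputable def finTab_s_0_5 (c : Nat) : Nat := @Bool.rec (fun _ => Nat) (finTab_s_0_2 c) (finTab_s_2_5 c) (Nat.ble 2 c)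
noncomputable def finTab_s_5_7 (c : Nat) : Nat := @Bool.rec (fun _ => Nat) (finTab_5) (finTab_6) (Nat.ble 6 c)
noncomputable def finTab_s_8_10 (c : Nat) : Nat := @Bool.rec (fun _ => Nat) (finTab_8) (finTab_9) (Nat.ble 9 c)
noncomputable def finTab_s_7_10 (c : Nat) : Nat := @Bool.rec (fun _ => Nat) (finTab_7) (finTab_s_8_10 c) (Nat.ble 8 c)
noncomputable def finTab_s_5_10 (c : Nat) : Nat := @Bool.rec (fun _ => Nat) (finTab_s_5_7 c) (finTab_s_7_10 c) (Nat.ble 7 c)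
noncomputable def finTab_s_0_10 (c : Nat) : Nat := @Bool.rec (fun _ => Nat) (finTab_s_0_5 c) (finTab_s_5_10 c) (Nat.ble 5 c)
noncomputable def finTab_s_10_12 (c : Nat) : Nat := @Bool.rec (fun _ => Nat) (finTab_10) (finTab_11) (Nat.ble 11 c)
noncomputable def finTab_s_13_15 (c : Nat) : Nat := @Bool.rec (fun _ => Nat) (finTab_13) (finTab_14) (Nat.ble 14 c)
noncomputable def finTab_s_12_15 (c : Nat) : Nat := @Bool.rec (fun _ => Nat) (finTab_12) (finTab_s_13_15 c) (Nat.ble 13 c)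
noncomputable def finTab_s_10_15 (c : Nat) : Nat := @Bool.rec (fun _ => Nat) (finTab_s_10_12 c) (finTab_s_12_15 c) (Nat.ble 12 c)
noncomputable def finTab_s_15_17 (c : Nat) : Nat := @Bool.rec (fun _ => Nat) (finTab_15) (finTab_16) (Nat.ble 16 c)
noncomputable def finTab_s_18_20 (c : Nat) : Nat := @Bool.rec (fun _ => Nat) (finTab_18) (finTab_19) (Nat.ble 19 c)
noncomputable def finTab_s_17_20 (c : Nat) : Nat := @Bool.rec (fun _ => Nat) (finTab_17) (finTab_s_18_20 c) (Nat.ble 18 c)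
noncomputable def finTab_s_15_20 (c : Nat) : Nat := @Bool.rec (fun _ => Nat) (finTab_s_15_17 c) (finTab_s_17_20 c) (Nat.ble 17 c)
noncomputable def finTab_s_10_20 (c : Nat) : Nat := @Bool.rec (fun _ => Nat) (finTab_s_10_15 c) (finTab_s_15_20 c) (Nat.ble 15 c)
noncomputable def finTab_s_0_20 (c : Nat) : Nat := @Bool.rec (fun _ => Nat) (finTab_s_0_10 c) (finTab_s_10_20 c) (Nat.ble 10 c)
noncomputable def finTab_s_20_22 (c : Nat) : Nat := @Bool.rec (fun _ => Nat) (finTab_20) (finTab_21) (Nat.ble 21 c)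
noncomputable def finTab_s_23_25 (c : Nat) : Nat := @Bool.rec (fun _ => Nat) (finTab_23) (finTab_24) (Nat.ble 24 c)
noncomputable def finTab_s_22_25 (c : Nat) : Nat := @Bool.rec (fun _ => Nat) (finTab_22) (finTab_s_23_25 c) (Nat.ble 23 c)
noncomputable def finTab_s_20_25 (c : Nat) : Nat := @Bool.rec (fun _ => Nat) (finTab_s_20_22 c) (finTab_s_22_25 c) (Nat.ble 22 c)
noncomputable def finTab_s_25_27 (c : Nat) : Nat := @Bool.rec (fun _ => Nat) (finTab_25) (finTab_26) (Nat.ble 26 c)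
noncomputable def finTab_s_28_30 (c : Nat) : Nat := @Bool.rec (fun _ => Nat) (finTab_28) (finTab_29) (Nat.ble 29 c)
noncomputable def finTab_s_27_30 (c : Nat) : Nat := @Bool.rec (fun _ => Nat) (finTab_27) (finTab_s_28_30 c) (Nat.ble 28 c)
noncomputable def finTab_s_25_30 (c : Nat) : Nat := @Bool.rec (fun _ => Nat) (finTab_s_25_27 c) (finTab_s_27_30 c) (Nat.ble 27 c)
noncomputable def finTab_s_20_30 (c : Nat) : Nat := @Bool.rec (fun _ => Nat) (finTab_s_20_25 c) (finTab_s_25_30 c) (Nat.ble 25 c)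
noncomputable def finTab_s_30_32 (c : Nat) : Nat := @Bool.rec (fun _ => Nat) (finTab_30) (finTab_31) (Nat.ble 31 c)
noncomputable def finTab_s_33_35 (c : Nat) : Nat := @Bool.rec (fun _ => Nat) (finTab_33) (finTab_34) (Nat.ble 34 c)
noncomputable def finTab_s_32_35 (c : Nat) : Nat := @Bool.rec (fun _ => Nat) (finTab_32) (finTab_s_33_35 c) (Nat.ble 33 c)
noncomputable def finTab_s_30_35 (c : Nat) : Nat := @Bool.rec (fun _ => Nat) (finTab_s_30_32 c) (finTab_s_32_35 c) (Nat.ble 32 c)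
noncomputable def finTab_s_36_38 (c : Nat) : Nat := @Bool.rec (fun _ => Nat) (finTab_36) (finTab_37) (Nat.ble 37 c)
noncomputable def finTab_s_35_38 (c : Nat) : Nat := @Bool.rec (fun _ => Nat) (finTab_35) (finTab_s_36_38 c) (Nat.ble 36 c)
noncomputable def finTab_s_39_41 (c : Nat) : Nat := @Bool.rec (fun _ => Nat) (finTab_39) (finTab_40) (Nat.ble 40 c)
noncomputable def finTab_s_38_41 (c : Nat) : Nat := @Bool.rec (fun _ => Nat) (finTab_38) (finTab_s_39_41 c) (Nat.ble 39 c)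
noncomputable def finTab_s_35_41 (c : Nat) : Nat := @Bool.rec (fun _ => Nat) (finTab_s_35_38 c) (finTab_s_38_41 c) (Nat.ble 38 c)
noncomputable def finTab_s_30_41 (c : Nat) : Nat := @Bool.rec (fun _ => Nat) (finTab_s_30_35 c) (finTab_s_35_41 c) (Nat.ble 35 c)
noncomputable def finTab_s_20_41 (c : Nat) : Nat := @Bool.rec (fun _ => Nat) (finTab_s_20_30 c) (finTab_s_30_41 c) (Nat.ble 30 c)
noncomputable def finTab_s_0_41 (c : Nat) : Nat := @Bool.rec (fun _ => Nat) (finTab_s_0_20 c) (finTab_s_20_41 c) (Nat.ble 20 c)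
noncomputable def finTab (i : Nat) : Nat := rdw 21 2097151 (finTab_s_0_41 (Nat.shiftRight i 12)) (Nat.land i 4095)
noncomputable def clsTab_s_1_3 (c : Nat) : Nat := @Bool.rec (fun _ => Nat) (clsTab_1) (clsTab_2) (Nat.ble 2 c)
noncomputable def clsTab_s_0_3 (c : Nat) : Nat := @Bool.rec (fun _ => Nat) (clsTab_0) (clsTab_s_1_3 c) (Nat.ble 1 c)
noncomputable def clsTab_s_4_6 (c : Nat) : Nat := @Bool.rec (fun _ => Nat) (clsTab_4) (clsTab_5) (Nat.ble 5 c)
noncomputable def clsTab_s_3_6 (c : Nat) : Nat := @Bool.rec (fun _ => Nat) (clsTab_3) (clsTab_s_4_6 c) (Nat.ble 4 c)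
noncomputable def clsTab_s_0_6 (c : Nat) : Nat := @Bool.rec (fun _ => Nat) (clsTab_s_0_3 c) (clsTab_s_3_6 c) (Nat.ble 3 c)
noncomputable def clsTab_s_7_9 (c : Nat) : Nat := @Bool.rec (fun _ => Nat) (clsTab_7) (clsTab_8) (Nat.ble 8 c)
noncomputable def clsTab_s_6_9 (c : Nat) : Nat := @Bool.rec (fun _ => Nat) (clsTab_6) (clsTab_s_7_9 c) (Nat.ble 7 c)
noncomputable def clsTab_s_9_11 (c : Nat) : Nat := @Bool.rec (fun _ => Nat) (clsTab_9) (clsTab_10) (Nat.ble 10 c)
noncomputable def clsTab_s_11_13 (c : Nat) : Nat := @Bool.rec (fun _ => Nat) (clsTab_11) (clsTab_12) (Nat.ble 12 c)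
noncomputable def clsTab_s_9_13 (c : Nat) : Nat := @Bool.rec (fun _ => Nat) (clsTab_s_9_11 c) (clsTab_s_11_13 c) (Nat.ble 11 c)
noncomputable def clsTab_s_6_13 (c : Nat) : Nat := @Bool.rec (fun _ => Nat) (clsTab_s_6_9 c) (clsTab_s_9_13 c) (Nat.ble 9 c)
noncomputable def clsTab_s_0_13 (c : Nat) : Nat := @Bool.rec (fun _ => Nat) (clsTab_s_0_6 c) (clsTab_s_6_13 c) (Nat.ble 6 c)
noncomputable def clsTab_s_14_16 (c : Nat) : Nat := @Bool.rec (fun _ => Nat) (clsTab_14) (clsTab_15) (Nat.ble 15 c)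
noncomputable def clsTab_s_13_16 (c : Nat) : Nat := @Bool.rec (fun _ => Nat) (clsTab_13) (clsTab_s_14_16 c) (Nat.ble 14 c)
noncomputable def clsTab_s_16_18 (c : Nat) : Nat := @Bool.rec (fun _ => Nat) (clsTab_16) (clsTab_17) (Nat.ble 17 c)
noncomputable def clsTab_s_18_20 (c : Nat) : Nat := @Bool.rec (fun _ => Nat) (clsTab_18) (clsTab_19) (Nat.ble 19 c)
noncomputable def clsTab_s_16_20 (c : Nat) : Nat := @Bool.rec (fun _ => Nat) (clsTab_s_16_18 c) (clsTab_s_18_20 c) (Nat.ble 18 c)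
noncomputable def clsTab_s_13_20 (c : Nat) : Nat := @Bool.rec (fun _ => Nat) (clsTab_s_13_16 c) (clsTab_s_16_20 c) (Nat.ble 16 c)
noncomputable def clsTab_s_21_23 (c : Nat) : Nat := @Bool.rec (fun _ => Nat) (clsTab_21) (clsTab_22) (Nat.ble 22 c)
noncomputable def clsTab_s_20_23 (c : Nat) : Nat := @Bool.rec (fun _ => Nat) (clsTab_20) (clsTab_s_21_23 c) (Nat.ble 21 c)
noncomputable def clsTab_s_23_25 (c : Nat) : Nat := @Bool.rec (fun _ => Nat) (clsTab_23) (clsTab_24) (Nat.ble 24 c)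
noncomputable def clsTab_s_25_27 (c : Nat) : Nat := @Bool.rec (fun _ => Nat) (clsTab_25) (clsTab_26) (Nat.ble 26 c)
noncomputable def clsTab_s_23_27 (c : Nat) : Nat := @Bool.rec (fun _ => Nat) (clsTab_s_23_25 c) (clsTab_s_25_27 c) (Nat.ble 25 c)
noncomputable def clsTab_s_20_27 (c : Nat) : Nat := @Bool.rec (fun _ => Nat) (clsTab_s_20_23 c) (clsTab_s_23_27 c) (Nat.ble 23 c)
noncomputable def clsTab_s_13_27 (c : Nat) : Nat := @Bool.rec (fun _ => Nat) (clsTab_s_13_20 c) (clsTab_s_20_27 c) (Nat.ble 20 c)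
noncomputable def clsTab_s_0_27 (c : Nat) : Nat := @Bool.rec (fun _ => Nat) (clsTab_s_0_13 c) (clsTab_s_13_27 c) (Nat.ble 13 c)
noncomputable def clsTab_s_28_30 (c : Nat) : Nat := @Bool.rec (fun _ => Nat) (clsTab_28) (clsTab_29) (Nat.ble 29 c)
noncomputable def clsTab_s_27_30 (c : Nat) : Nat := @Bool.rec (fun _ => Nat) (clsTab_27) (clsTab_s_28_30 c) (Nat.ble 28 c)
noncomputable def clsTab_s_31_33 (c : Nat) : Nat := @Bool.rec (fun _ => Nat) (clsTab_31) (clsTab_32) (Nat.ble 32 c)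
noncomputable def clsTab_s_30_33 (c : Nat) : Nat := @Bool.rec (fun _ => Nat) (clsTab_30) (clsTab_s_31_33 c) (Nat.ble 31 c)
noncomputable def clsTab_s_27_33 (c : Nat) : Nat := @Bool.rec (fun _ => Nat) (clsTab_s_27_30 c) (clsTab_s_30_33 c) (Nat.ble 30 c)
noncomputable def clsTab_s_34_36 (c : Nat) : Nat := @Bool.rec (fun _ => Nat) (clsTab_34) (clsTab_35) (Nat.ble 35 c)
noncomputable def clsTab_s_33_36 (c : Nat) : Nat := @Bool.rec (fun _ => Nat) (clsTab_33) (clsTab_s_34_36 c) (Nat.ble 34 c)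
noncomputable def clsTab_s_36_38 (c : Nat) : Nat := @Bool.rec (fun _ => Nat) (clsTab_36) (clsTab_37) (Nat.ble 37 c)
noncomputable def clsTab_s_38_40 (c : Nat) : Nat := @Bool.rec (fun _ => Nat) (clsTab_38) (clsTab_39) (Nat.ble 39 c)
noncomputable def clsTab_s_36_40 (c : Nat) : Nat := @Bool.rec (fun _ => Nat) (clsTab_s_36_38 c) (clsTab_s_38_40 c) (Nat.ble 38 c)
noncomputable def clsTab_s_33_40 (c : Nat) : Nat := @Bool.rec (fun _ => Nat) (clsTab_s_33_36 c) (clsTab_s_36_40 c) (Nat.ble 36 c)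
noncomputable def clsTab_s_27_40 (c : Nat) : Nat := @Bool.rec (fun _ => Nat) (clsTab_s_27_33 c) (clsTab_s_33_40 c) (Nat.ble 33 c)
noncomputable def clsTab_s_41_43 (c : Nat) : Nat := @Bool.rec (fun _ => Nat) (clsTab_41) (clsTab_42) (Nat.ble 42 c)
noncomputable def clsTab_s_40_43 (c : Nat) : Nat := @Bool.rec (fun _ => Nat) (clsTab_40) (clsTab_s_41_43 c) (Nat.ble 41 c)
noncomputable def clsTab_s_43_45 (c : Nat) : Nat := @Bool.rec (fun _ => Nat) (clsTab_43) (clsTab_44) (Nat.ble 44 c)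
noncomputable def clsTab_s_45_47 (c : Nat) : Nat := @Bool.rec (fun _ => Nat) (clsTab_45) (clsTab_46) (Nat.ble 46 c)
noncomputable def clsTab_s_43_47 (c : Nat) : Nat := @Bool.rec (fun _ => Nat) (clsTab_s_43_45 c) (clsTab_s_45_47 c) (Nat.ble 45 c)
noncomputable def clsTab_s_40_47 (c : Nat) : Nat := @Bool.rec (fun _ => Nat) (clsTab_s_40_43 c) (clsTab_s_43_47 c) (Nat.ble 43 c)
noncomputable def clsTab_s_48_50 (c : Nat) : Nat := @Bool.rec (fun _ => Nat) (clsTab_48) (clsTab_49) (Nat.ble 49 c)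
noncomputable def clsTab_s_47_50 (c : Nat) : Nat := @Bool.rec (fun _ => Nat) (clsTab_47) (clsTab_s_48_50 c) (Nat.ble 48 c)
noncomputable def clsTab_s_50_52 (c : Nat) : Nat := @Bool.rec (fun _ => Nat) (clsTab_50) (clsTab_51) (Nat.ble 51 c)
noncomputable def clsTab_s_52_54 (c : Nat) : Nat := @Bool.rec (fun _ => Nat) (clsTab_52) (clsTab_53) (Nat.ble 53 c)
noncomputable def clsTab_s_50_54 (c : Nat) : Nat := @Bool.rec (fun _ => Nat) (clsTab_s_50_52 c) (clsTab_s_52_54 c) (Nat.ble 52 c)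
noncomputable def clsTab_s_47_54 (c : Nat) : Nat := @Bool.rec (fun _ => Nat) (clsTab_s_47_50 c) (clsTab_s_50_54 c) (Nat.ble 50 c)
noncomputable def clsTab_s_40_54 (c : Nat) : Nat := @Bool.rec (fun _ => Nat) (clsTab_s_40_47 c) (clsTab_s_47_54 c) (Nat.ble 47 c)
noncomputable def clsTab_s_27_54 (c : Nat) : Nat := @Bool.rec (fun _ => Nat) (clsTab_s_27_40 c) (clsTab_s_40_54 c) (Nat.ble 40 c)
noncomputable def clsTab_s_0_54 (c : Nat) : Nat := @Bool.rec (fun _ => Nat) (clsTab_s_0_27 c) (clsTab_s_27_54 c) (Nat.ble 27 c)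
noncomputable def clsTab (i : Nat) : Nat := rdw 13 8191 (clsTab_s_0_54 (Nat.shiftRight i 12)) (Nat.land i 4095)
noncomputable def oparTab_s_0_2 (c : Nat) : Nat := @Bool.rec (fun _ => Nat) (oparTab_0) (oparTab_1) (Nat.ble 1 c)
noncomputable def oparTab (i : Nat) : Nat := rdw 13 8191 (oparTab_s_0_2 (Nat.shiftRight i 12)) (Nat.land i 4095)
noncomputable def olabTab (i : Nat) : Nat := rdw 3 7 olabTab_0 i
noncomputable def srcF (t : Nat) : Nat := Nat.land (Atab t) 262143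
noncomputable def tgtF (t : Nat) : Nat := Nat.land (Nat.shiftRight (Atab t) 18) 262143
noncomputable def ltF (t : Nat) : Nat := Nat.shiftRight (Atab t) 36
noncomputable def rhoF (t : Nat) : Nat := Nat.land (Btab (Nat.sub t 218427)) 511
noncomputable def rotF (t : Nat) : Nat := Nat.land (Nat.shiftRight (Btab (Nat.sub t 218427)) 9) 63
noncomputable def lenF (t : Nat) : Nat := Nat.land (Nat.shiftRight (Btab (Nat.sub t 218427)) 15) 127
noncomputable def offF (t : Nat) : Nat := Nat.shiftRight (Btab (Nat.sub t 218427)) 22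
noncomputable def pfF (j : Nat) : Nat := Nat.shiftRight (Ptab j) 1
noncomputable def pdF (j : Nat) : Nat := Nat.land (Ptab j) 1
noncomputable def tblF (i x : Nat) : Nat := @Bool.rec (fun _ => Nat) (@Bool.rec (fun _ => Nat) (@Bool.rec (fun _ => Nat) (@Bool.rec (fun _ => Nat) (@Bool.rec (fun _ => Nat) (col0 i) (col1 i) (Nat.ble 1 x)) (@Bool.rec (fun _ => Nat) (col2 i) (@Bool.rec (fun _ => Nat) (col3 i) (col4 i) (Nat.ble 4 x)) (Nat.ble 3 x)) (Nat.ble 2 x)) (@Bool.rec (fun _ => Nat) (@Bool.rec (fun _ => Nat) (col5 i) (col6 i) (Nat.ble 6 x)) (@Bool.rec (fun _ => Nat) (col7 i) (@Bool.rec (fun _ => Nat) (col8 i) (col9 i) (Nat.ble 9 x)) (Nat.ble 8 x)) (Nat.ble 7 x)) (Nat.ble 5 x)) (@Bool.rec (fun _ => Nat) (@Bool.rec (fun _ => Nat) (@Bool.rec (fun _ => Nat) (col10 i) (col11 i) (Nat.ble 11 x)) (@Bool.rec (fun _ => Nat) (col12 i) (@Bool.rec (fun _ => Nat) (col13 i) (col14 i) (Nat.ble 14 x)) (Nat.ble 13 x)) (Nat.ble 12 x)) (@Bool.rec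 (fun _ => Nat) (@Bool.rec (fun _ => Nat) (col15 i) (col16 i) (Nat.ble 16 x)) (@Bool.rec (fun _ => Nat) (col17 i) (@Bool.rec (fun _ => Nat) (col18 i) (col19 i) (Nat.ble 19 x)) (Nat.ble 18 x)) (Nat.ble 17 x)) (Nat.ble 15 x)) (Nat.ble 10 x)) (@Bool.rec (fun _ => Nat) (@Bool.rec (fun _ => Nat) (@Bool.rec (fun _ => Nat) (@Bool.rec (fun _ => Nat) (col20 i) (col21 i) (Nat.ble 21 x)) (@Bool.rec (fun _ => Nat) (col22 i) (@Bool.rec (fun _ => Nat) (col23 i) (col24 i) (Nat.ble 24 x)) (Nat.ble 23 x)) (Nat.ble 22 x)) (@Bool.rec (fun _ => Nat) (@Bool.rec (fun _ => Nat) (col25 i) (col26 i) (Nat.ble 26 x)) (@Bool.rec (fun _ => Nat) (col27 i) (@Bool.rec (fun _ => Nat) (col28 i) (col29 i) (Nat.ble 29 x)) (Nat.ble 28 x)) (Nat.ble 27 x)) (Nat.ble 25 x)) (@Bool.rec (fun _ => Nat) (@Bool.rec (fun _ => Nat) (@Bool.rec (fun _ => Nat) (col30 i) (col31 i) (Nat.ble 31 x)) (@Bool.rec (fun _ => Nat) (col32 i) (@Bool.rec (fun _ => Nat) (col33 i) (col34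 i) (Nat.ble 34 x)) (Nat.ble 33 x)) (Nat.ble 32 x)) (@Bool.rec (fun _ => Nat) (@Bool.rec (fun _ => Nat) (col35 i) (col36 i) (Nat.ble 36 x)) (@Bool.rec (fun _ => Nat) (col37 i) (@Bool.rec (fun _ => Nat) (col38 i) (col39 i) (Nat.ble 39 x)) (Nat.ble 38 x)) (Nat.ble 37 x)) (Nat.ble 35 x)) (Nat.ble 30 x)) (Nat.ble 20 x)
noncomputable def finE (i x : Nat) : Nat := finTab (Nat.add (Nat.mul i 40) x)
noncomputable def finFF (i x : Nat) : Nat := Nat.shiftRight (finE i x) 1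
noncomputable def finDF (i x : Nat) : Nat := Nat.land (finE i x) 1

noncomputable def D : Log :=
  { k := 40, inv := invE 40 PSHep2.invR, nR := 412, rBase := rBtab, rLen := rLtab, RR := RRtab,
    M := 218415, nB := 12, F := 997275, src := srcF, lt := ltF, tgt := tgtF, rho := rhoF, rot := rotF,
    off := offF, len := lenF, pf := pfF, pd := pdF }

noncomputable def T : Tab :=
  { N := 4116, nameOf := nameTab, tbl := tblF, finF := finFF, finD := finDF, cls := clsTab }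

def subs : List (List Nat) := [
  [0],
  [2],
  [4],
  [6],
  [8],
  [10] ]

def rw0 : List Nat := [0, 0, 0, 0, 0, 0, 0, 0, 0, 0, 0, 0, 0, 0, 0, 0, 0]
def rw1 : List Nat := [2, 2]
def rw2 : List Nat := [4, 4]
def rw3 : List Nat := [6, 6]
def rw4 : List Nat := [8, 8]
def rw5 : List Nat := [10, 10]
def rw6 : List Nat := [12, 12, 12]
def rw7 : List Nat := [14, 14, 14]
def rw8 : List Nat := [17, 12, 5]
def rw9 : List Nat := [19, 14, 9]
def rw10 : List Nat := [21, 16, 8, 17, 9]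
def rw11 : List Nat := [23, 16, 10, 17, 11]
def rw12 : List Nat := [25, 16, 18, 17, 19]
def rw13 : List Nat := [27, 18, 6, 19, 7]
def rw14 : List Nat := [29, 18, 4, 19, 5]
def rw15 : List Nat := [31, 2, 19, 11, 19, 11]
def rw16 : List Nat := [33, 4, 8, 10, 18, 4, 8, 10, 18, 4, 8, 10, 18, 4, 8, 10, 18]
def rw17 : List Nat := [35, 16, 4, 8, 2, 16, 4, 8, 2, 16, 4, 8, 2, 16, 4, 8, 2, 16, 4, 8, 2, 16, 4, 8, 2, 16, 4, 8, 2, 11, 1, 5, 9]
def rw18 : List Nat := [37, 16, 16]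
def rw19 : List Nat := [39, 18, 18]
def rw20 : List Nat := [20, 20]
def rw21 : List Nat := [22, 22]
def rw22 : List Nat := [24, 24]
def rw23 : List Nat := [26, 26]
def rw24 : List Nat := [28, 28]
def rw25 : List Nat := [30, 30]
def rw26 : List Nat := [32, 32]
def rw27 : List Nat := [34, 34]
def rw28 : List Nat := [36, 36]
def rw29 : List Nat := [38, 38]
def rw30 : List Nat := [20, 0, 21, 1]
def rw31 : List Nat := [20, 2, 21, 3]
def rw32 : List Nat := [20, 4, 21, 5]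
def rw33 : List Nat := [20, 6, 21, 7]
def rw34 : List Nat := [20, 8, 21, 9]
def rw35 : List Nat := [20, 10, 21, 11]
def rw36 : List Nat := [20, 12, 21, 13]
def rw37 : List Nat := [20, 14, 21, 15]
def rw38 : List Nat := [20, 16, 21, 17]
def rw39 : List Nat := [20, 18, 21, 19]
def rw40 : List Nat := [22, 0, 23, 1]
def rw41 : List Nat := [22, 2, 23, 3]
def rw42 : List Nat := [22, 4, 23, 5]
def rw43 : List Nat := [22, 6, 23, 7]
def rw44 : List Nat := [22, 8, 23, 9]
def rw45 : List Nat := [22, 10, 23, 11]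
def rw46 : List Nat := [22, 12, 23, 13]
def rw47 : List Nat := [22, 14, 23, 15]
def rw48 : List Nat := [22, 16, 23, 17]
def rw49 : List Nat := [22, 18, 23, 19]
def rw50 : List Nat := [24, 0, 25, 1]
def rw51 : List Nat := [24, 2, 25, 3]
def rw52 : List Nat := [24, 4, 25, 5]
def rw53 : List Nat := [24, 6, 25, 7]
def rw54 : List Nat := [24, 8, 25, 9]
def rw55 : List Nat := [24, 10, 25, 11]
def rw56 : List Nat := [24, 12, 25, 13]
def rw57 : List Nat := [24, 14, 25, 15]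
def rw58 : List Nat := [24, 16, 25, 17]
def rw59 : List Nat := [24, 18, 25, 19]
def rw60 : List Nat := [26, 0, 27, 1]
def rw61 : List Nat := [26, 2, 27, 3]
def rw62 : List Nat := [26, 4, 27, 5]
def rw63 : List Nat := [26, 6, 27, 7]
def rw64 : List Nat := [26, 8, 27, 9]
def rw65 : List Nat := [26, 10, 27, 11]
def rw66 : List Nat := [26, 12, 27, 13]
def rw67 : List Nat := [26, 14, 27, 15]
def rw68 : List Nat := [26, 16, 27, 17]
def rw69 : List Nat := [26, 18, 27, 19]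
def rw70 : List Nat := [28, 0, 29, 1]
def rw71 : List Nat := [28, 2, 29, 3]
def rw72 : List Nat := [28, 4, 29, 5]
def rw73 : List Nat := [28, 6, 29, 7]
def rw74 : List Nat := [28, 8, 29, 9]
def rw75 : List Nat := [28, 10, 29, 11]
def rw76 : List Nat := [28, 12, 29, 13]
def rw77 : List Nat := [28, 14, 29, 15]
def rw78 : List Nat := [28, 16, 29, 17]
def rw79 : List Nat := [28, 18, 29, 19]
def rw80 : List Nat := [30, 0, 31, 1]
def rw81 : List Nat := [30, 2, 31, 3]
def rw82 : List Nat := [30, 4, 31, 5]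
def rw83 : List Nat := [30, 6, 31, 7]
def rw84 : List Nat := [30, 8, 31, 9]
def rw85 : List Nat := [30, 10, 31, 11]
def rw86 : List Nat := [30, 12, 31, 13]
def rw87 : List Nat := [30, 14, 31, 15]
def rw88 : List Nat := [30, 16, 31, 17]
def rw89 : List Nat := [30, 18, 31, 19]
def rw90 : List Nat := [32, 0, 33, 1]
def rw91 : List Nat := [32, 2, 33, 3]
def rw92 : List Nat := [32, 4, 33, 5]
def rw93 : List Nat := [32, 6, 33, 7]
def rw94 : List Nat := [32, 8, 33, 9]
def rw95 : List Nat := [32, 10, 33, 11]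
def rw96 : List Nat := [32, 12, 33, 13]
def rw97 : List Nat := [32, 14, 33, 15]
def rw98 : List Nat := [32, 16, 33, 17]
def rw99 : List Nat := [32, 18, 33, 19]
def rw100 : List Nat := [34, 0, 35, 1]
def rw101 : List Nat := [34, 2, 35, 3]
def rw102 : List Nat := [34, 4, 35, 5]
def rw103 : List Nat := [34, 6, 35, 7]
def rw104 : List Nat := [34, 8, 35, 9]
def rw105 : List Nat := [34, 10, 35, 11]
def rw106 : List Nat := [34, 12, 35, 13]
def rw107 : List Nat := [34, 14, 35, 15]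
def rw108 : List Nat := [34, 16, 35, 17]
def rw109 : List Nat := [34, 18, 35, 19]
def rw110 : List Nat := [36, 0, 37, 1]
def rw111 : List Nat := [36, 2, 37, 3]
def rw112 : List Nat := [36, 4, 37, 5]
def rw113 : List Nat := [36, 6, 37, 7]
def rw114 : List Nat := [36, 8, 37, 9]
def rw115 : List Nat := [36, 10, 37, 11]
def rw116 : List Nat := [36, 12, 37, 13]
def rw117 : List Nat := [36, 14, 37, 15]
def rw118 : List Nat := [36, 16, 37, 17]
def rw119 : List Nat := [36, 18, 37, 19]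
def rw120 : List Nat := [38, 0, 39, 1]
def rw121 : List Nat := [38, 2, 39, 3]
def rw122 : List Nat := [38, 4, 39, 5]
def rw123 : List Nat := [38, 6, 39, 7]
def rw124 : List Nat := [38, 8, 39, 9]
def rw125 : List Nat := [38, 10, 39, 11]
def rw126 : List Nat := [38, 12, 39, 13]
def rw127 : List Nat := [38, 14, 39, 15]
def rw128 : List Nat := [38, 16, 39, 17]
def rw129 : List Nat := [38, 18, 39, 19]
def rw130 : List Nat := [0, 0, 0, 0, 0, 0, 0, 0, 0, 0, 0, 0, 0, 0, 0, 0, 0]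
def rw131 : List Nat := [2, 2]
def rw132 : List Nat := [0, 0, 0, 2, 1, 2, 0, 2, 0, 0, 0, 2, 1, 2, 0, 2]
def rw133 : List Nat := [0, 0, 0, 0, 0, 2, 0, 0, 0, 0, 0, 2, 0, 0, 0, 0, 0, 2]
def rw134 : List Nat := [4, 4]
def rw135 : List Nat := [2, 4, 2, 4]
def rw136 : List Nat := [0, 4, 0, 4, 0, 4, 0, 4, 0, 4]
def rw137 : List Nat := [0, 2, 1, 2, 4, 1, 2, 0, 4, 0, 4, 2, 0, 4, 2, 0, 4]
def rw138 : List Nat := [0, 0, 2, 0, 4, 0, 4, 1, 1, 2, 1, 4, 0, 4, 0, 2, 0, 2]
def rw139 : List Nat := [7, 0, 0, 0, 4, 1, 4, 0, 4, 1, 1, 1]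
def rw140 : List Nat := [9, 0, 2, 4, 1, 4, 0, 2, 1, 4, 0, 4, 1, 2, 4]
def rw141 : List Nat := [11, 0, 2, 1, 2, 0, 2, 4]
def rw142 : List Nat := [4, 8, 4, 8, 4, 8, 4, 8, 4, 8, 4, 8, 4, 8, 4, 8, 4, 8, 4, 8]
def rw143 : List Nat := [8, 2, 8, 2, 8, 2]
def rw144 : List Nat := [8, 10, 8, 10, 8, 10]
def rw145 : List Nat := [6, 4, 7, 5]
def rw146 : List Nat := [6, 8, 7, 9]
def rw147 : List Nat := [6, 2, 7, 3]
def rw148 : List Nat := [6, 10, 7, 11]
def rw149 : List Nat := [4, 2, 5, 3]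
def rw150 : List Nat := [4, 10, 5, 11]
def rw151 : List Nat := [2, 10, 3, 11]
def rw152 : List Nat := [6, 9, 5, 9, 5, 9, 5, 9, 5, 9, 5]
def rw153 : List Nat := [16, 4, 0, 17, 1, 5]
def rw154 : List Nat := [16, 4, 0, 2, 17, 3, 1, 5]
def rw155 : List Nat := [16, 4, 1, 2, 4, 0, 4, 1, 2, 0, 4, 1, 17, 0, 5, 1, 3, 0, 5, 1, 5, 3, 0, 5]
def rw156 : List Nat := [18, 1, 1, 2, 1, 1, 1, 4, 19, 0, 0, 0, 3, 0, 0]
def rw157 : List Nat := [18, 1, 1, 2, 1, 1, 1, 19, 5, 0, 0, 0, 3, 0, 0]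
def rw158 : List Nat := [18, 1, 1, 2, 1, 1, 1, 2, 19, 5, 3, 0, 0, 0, 3, 0, 0]
def rw159 : List Nat := [18, 0, 0, 2, 0, 0, 0, 2, 4, 19, 1, 1, 1, 3, 1, 1, 3]
def realLit : List (List Nat) := [rw0, rw1, rw2, rw3, rw4, rw5, rw6, rw7, rw8, rw9, rw10, rw11, rw12, rw13, rw14, rw15, rw16, rw17, rw18, rw19, rw20, rw21, rw22, rw23, rw24, rw25, rw26, rw27, rw28, rw29, rw30, rw31, rw32, rw33, rw34, rw35, rw36, rw37, rw38, rw39, rw40, rw41, rw42, rw43, rw44, rw45, rw46, rw47, rw48, rw49, rw50, rw51, rw52, rw53, rw54, rw55, rw56, rw57, rw58, rw59, rw60, rw61, rw62, rw63, rw64, rw65, rw66, rw67, rw68, rw69, rw70, rw71, rw72, rw73, rw74, rw75, rw76, rw77, rw78, rw79, rw80, rw81, rw82, rw83, rw84, rw85, rw86, rw87, rw88, rw89, rw90, rw91, rw92, rw93, rw94, rw95, rw96, rw97, rw98, rw99, rw100, rw101, rw102, rw103, rw104, rw105, rw106, rw107, rw108, rw109, rw110, rw111, rw112, rw113, rw114, rw115, rw116, rw117, rw118, rw119, rw120, rw121,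 rw122, rw123, rw124, rw125, rw126, rw127, rw128, rw129, rw130, rw131, rw132, rw133, rw134, rw135, rw136, rw137, rw138, rw139, rw140, rw141, rw142, rw143, rw144, rw145, rw146, rw147, rw148, rw149, rw150, rw151, rw152, rw153, rw154, rw155, rw156, rw157, rw158, rw159]
noncomputable def actR0 (i : Nat) : Nat := col1 (col1 (col1 (col1 (col1 (col1 (col1 (col1 (col1 (col1 (col1 (col1 (col1 (col1 (col1 (col1 (col1 (i)))))))))))))))))
theorem actR0_eq (i : Nat) : actR0 i = Tab.act T D rw0 i := rfl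
noncomputable def actR1 (i : Nat) : Nat := col3 (col3 (i))
theorem actR1_eq (i : Nat) : actR1 i = Tab.act T D rw1 i := rfl
noncomputable def actR2 (i : Nat) : Nat := col5 (col5 (i))
theorem actR2_eq (i : Nat) : actR2 i = Tab.act T D rw2 i := rfl
noncomputable def actR3 (i : Nat) : Nat := col7 (col7 (i))
theorem actR3_eq (i : Nat) : actR3 i = Tab.act T D rw3 i := rfl
noncomputable def actR4 (i : Nat) : Nat := col9 (col9 (i))
theorem actR4_eq (i : Nat) : actR4 i = Tab.act T D rw4 i := rfl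
noncomputable def actR5 (i : Nat) : Nat := col11 (col11 (i))
theorem actR5_eq (i : Nat) : actR5 i = Tab.act T D rw5 i := rfl
noncomputable def actR6 (i : Nat) : Nat := col13 (col13 (col13 (i)))
theorem actR6_eq (i : Nat) : actR6 i = Tab.act T D rw6 i := rfl
noncomputable def actR7 (i : Nat) : Nat := col15 (col15 (col15 (i)))
theorem actR7_eq (i : Nat) : actR7 i = Tab.act T D rw7 i := rfl
noncomputable def actR8 (i : Nat) : Nat := col16 (col13 (col4 (i)))
theorem actR8_eq (i : Nat) : actR8 i = Tab.act T D rw8 i := rfl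
noncomputable def actR9 (i : Nat) : Nat := col18 (col15 (col8 (i)))
theorem actR9_eq (i : Nat) : actR9 i = Tab.act T D rw9 i := rfl
noncomputable def actR10 (i : Nat) : Nat := col20 (col17 (col9 (col16 (col8 (i)))))
theorem actR10_eq (i : Nat) : actR10 i = Tab.act T D rw10 i := rfl
noncomputable def actR11 (i : Nat) : Nat := col22 (col17 (col11 (col16 (col10 (i)))))
theorem actR11_eq (i : Nat) : actR11 i = Tab.act T D rw11 i := rfl
noncomputable def actR12 (i : Nat) : Nat := col24 (col17 (col19 (col16 (col18 (i)))))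
theorem actR12_eq (i : Nat) : actR12 i = Tab.act T D rw12 i := rfl
noncomputable def actR13 (i : Nat) : Nat := col26 (col19 (col7 (col18 (col6 (i)))))
theorem actR13_eq (i : Nat) : actR13 i = Tab.act T D rw13 i := rfl
noncomputable def actR14 (i : Nat) : Nat := col28 (col19 (col5 (col18 (col4 (i)))))
theorem actR14_eq (i : Nat) : actR14 i = Tab.act T D rw14 i := rfl
noncomputable def actR15 (i : Nat) : Nat := col30 (col3 (col18 (col10 (col18 (col10 (i))))))
theorem actR15_eq (i : Nat) : actR15 i = Tab.act T D rw15 i := rfl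
noncomputable def actR16 (i : Nat) : Nat := col32 (col5 (col9 (col11 (col19 (col5 (col9 (col11 (col19 (col5 (col9 (col11 (col19 (col5 (col9 (col11 (col19 (i)))))))))))))))))
theorem actR16_eq (i : Nat) : actR16 i = Tab.act T D rw16 i := rfl
noncomputable def actR17 (i : Nat) : Nat := col34 (col17 (col5 (col9 (col3 (col17 (col5 (col9 (col3 (col17 (col5 (col9 (col3 (col17 (col5 (col9 (col3 (col17 (col5 (col9 (col3 (col17 (col5 (col9 (col3 (col17 (col5 (col9 (col3 (col10 (col0 (col4 (col8 (i)))))))))))))))))))))))))))))))))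
theorem actR17_eq (i : Nat) : actR17 i = Tab.act T D rw17 i := rfl
noncomputable def actR18 (i : Nat) : Nat := col36 (col17 (col17 (i)))
theorem actR18_eq (i : Nat) : actR18 i = Tab.act T D rw18 i := rfl
noncomputable def actR19 (i : Nat) : Nat := col38 (col19 (col19 (i)))
theorem actR19_eq (i : Nat) : actR19 i = Tab.act T D rw19 i := rfl
noncomputable def actR20 (i : Nat) : Nat := col21 (col21 (i))
theorem actR20_eq (i : Nat) : actR20 i = Tab.act T D rw20 i := rfl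
noncomputable def actR21 (i : Nat) : Nat := col23 (col23 (i))
theorem actR21_eq (i : Nat) : actR21 i = Tab.act T D rw21 i := rfl
noncomputable def actR22 (i : Nat) : Nat := col25 (col25 (i))
theorem actR22_eq (i : Nat) : actR22 i = Tab.act T D rw22 i := rfl
noncomputable def actR23 (i : Nat) : Nat := col27 (col27 (i))
theorem actR23_eq (i : Nat) : actR23 i = Tab.act T D rw23 i := rfl
noncomputable def actR24 (i : Nat) : Nat := col29 (col29 (i))
theorem actR24_eq (i : Nat) : actR24 i = Tab.act T D rw24 i := rfl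
noncomputable def actR25 (i : Nat) : Nat := col31 (col31 (i))
theorem actR25_eq (i : Nat) : actR25 i = Tab.act T D rw25 i := rfl
noncomputable def actR26 (i : Nat) : Nat := col33 (col33 (i))
theorem actR26_eq (i : Nat) : actR26 i = Tab.act T D rw26 i := rfl
noncomputable def actR27 (i : Nat) : Nat := col35 (col35 (i))
theorem actR27_eq (i : Nat) : actR27 i = Tab.act T D rw27 i := rfl
noncomputable def actR28 (i : Nat) : Nat := col37 (col37 (i))
theorem actR28_eq (i : Nat) : actR28 i = Tab.act T D rw28 i := rfl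
noncomputable def actR29 (i : Nat) : Nat := col39 (col39 (i))
theorem actR29_eq (i : Nat) : actR29 i = Tab.act T D rw29 i := rfl
noncomputable def actR30 (i : Nat) : Nat := col21 (col1 (col20 (col0 (i))))
theorem actR30_eq (i : Nat) : actR30 i = Tab.act T D rw30 i := rfl
noncomputable def actR31 (i : Nat) : Nat := col21 (col3 (col20 (col2 (i))))
theorem actR31_eq (i : Nat) : actR31 i = Tab.act T D rw31 i := rfl
noncomputable def actR32 (i : Nat) : Nat := col21 (col5 (col20 (col4 (i))))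
theorem actR32_eq (i : Nat) : actR32 i = Tab.act T D rw32 i := rfl
noncomputable def actR33 (i : Nat) : Nat := col21 (col7 (col20 (col6 (i))))
theorem actR33_eq (i : Nat) : actR33 i = Tab.act T D rw33 i := rfl
noncomputable def actR34 (i : Nat) : Nat := col21 (col9 (col20 (col8 (i))))
theorem actR34_eq (i : Nat) : actR34 i = Tab.act T D rw34 i := rfl
noncomputable def actR35 (i : Nat) : Nat := col21 (col11 (col20 (col10 (i))))
theorem actR35_eq (i : Nat) : actR35 i = Tab.act T D rw35 i := rfl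
noncomputable def actR36 (i : Nat) : Nat := col21 (col13 (col20 (col12 (i))))
theorem actR36_eq (i : Nat) : actR36 i = Tab.act T D rw36 i := rfl
noncomputable def actR37 (i : Nat) : Nat := col21 (col15 (col20 (col14 (i))))
theorem actR37_eq (i : Nat) : actR37 i = Tab.act T D rw37 i := rfl
noncomputable def actR38 (i : Nat) : Nat := col21 (col17 (col20 (col16 (i))))
theorem actR38_eq (i : Nat) : actR38 i = Tab.act T D rw38 i := rfl
noncomputable def actR39 (i : Nat) : Nat := col21 (col19 (col20 (col18 (i))))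
theorem actR39_eq (i : Nat) : actR39 i = Tab.act T D rw39 i := rfl
noncomputable def actR40 (i : Nat) : Nat := col23 (col1 (col22 (col0 (i))))
theorem actR40_eq (i : Nat) : actR40 i = Tab.act T D rw40 i := rfl
noncomputable def actR41 (i : Nat) : Nat := col23 (col3 (col22 (col2 (i))))
theorem actR41_eq (i : Nat) : actR41 i = Tab.act T D rw41 i := rfl
noncomputable def actR42 (i : Nat) : Nat := col23 (col5 (col22 (col4 (i))))
theorem actR42_eq (i : Nat) : actR42 i = Tab.act T D rw42 i := rfl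
noncomputable def actR43 (i : Nat) : Nat := col23 (col7 (col22 (col6 (i))))
theorem actR43_eq (i : Nat) : actR43 i = Tab.act T D rw43 i := rfl
noncomputable def actR44 (i : Nat) : Nat := col23 (col9 (col22 (col8 (i))))
theorem actR44_eq (i : Nat) : actR44 i = Tab.act T D rw44 i := rfl
noncomputable def actR45 (i : Nat) : Nat := col23 (col11 (col22 (col10 (i))))
theorem actR45_eq (i : Nat) : actR45 i = Tab.act T D rw45 i := rfl
noncomputable def actR46 (i : Nat) : Nat := col23 (col13 (col22 (col12 (i))))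
theorem actR46_eq (i : Nat) : actR46 i = Tab.act T D rw46 i := rfl
noncomputable def actR47 (i : Nat) : Nat := col23 (col15 (col22 (col14 (i))))
theorem actR47_eq (i : Nat) : actR47 i = Tab.act T D rw47 i := rfl
noncomputable def actR48 (i : Nat) : Nat := col23 (col17 (col22 (col16 (i))))
theorem actR48_eq (i : Nat) : actR48 i = Tab.act T D rw48 i := rfl
noncomputable def actR49 (i : Nat) : Nat := col23 (col19 (col22 (col18 (i))))
theorem actR49_eq (i : Nat) : actR49 i = Tab.act T D rw49 i := rfl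
noncomputable def actR50 (i : Nat) : Nat := col25 (col1 (col24 (col0 (i))))
theorem actR50_eq (i : Nat) : actR50 i = Tab.act T D rw50 i := rfl
noncomputable def actR51 (i : Nat) : Nat := col25 (col3 (col24 (col2 (i))))
theorem actR51_eq (i : Nat) : actR51 i = Tab.act T D rw51 i := rfl
noncomputable def actR52 (i : Nat) : Nat := col25 (col5 (col24 (col4 (i))))
theorem actR52_eq (i : Nat) : actR52 i = Tab.act T D rw52 i := rfl
noncomputable def actR53 (i : Nat) : Nat := col25 (col7 (col24 (col6 (i))))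
theorem actR53_eq (i : Nat) : actR53 i = Tab.act T D rw53 i := rfl
noncomputable def actR54 (i : Nat) : Nat := col25 (col9 (col24 (col8 (i))))
theorem actR54_eq (i : Nat) : actR54 i = Tab.act T D rw54 i := rfl
noncomputable def actR55 (i : Nat) : Nat := col25 (col11 (col24 (col10 (i))))
theorem actR55_eq (i : Nat) : actR55 i = Tab.act T D rw55 i := rfl
noncomputable def actR56 (i : Nat) : Nat := col25 (col13 (col24 (col12 (i))))
theorem actR56_eq (i : Nat) : actR56 i = Tab.act T D rw56 i := rfl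
noncomputable def actR57 (i : Nat) : Nat := col25 (col15 (col24 (col14 (i))))
theorem actR57_eq (i : Nat) : actR57 i = Tab.act T D rw57 i := rfl
noncomputable def actR58 (i : Nat) : Nat := col25 (col17 (col24 (col16 (i))))
theorem actR58_eq (i : Nat) : actR58 i = Tab.act T D rw58 i := rfl
noncomputable def actR59 (i : Nat) : Nat := col25 (col19 (col24 (col18 (i))))
theorem actR59_eq (i : Nat) : actR59 i = Tab.act T D rw59 i := rfl
noncomputable def actR60 (i : Nat) : Nat := col27 (col1 (col26 (col0 (i))))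
theorem actR60_eq (i : Nat) : actR60 i = Tab.act T D rw60 i := rfl
noncomputable def actR61 (i : Nat) : Nat := col27 (col3 (col26 (col2 (i))))
theorem actR61_eq (i : Nat) : actR61 i = Tab.act T D rw61 i := rfl
noncomputable def actR62 (i : Nat) : Nat := col27 (col5 (col26 (col4 (i))))
theorem actR62_eq (i : Nat) : actR62 i = Tab.act T D rw62 i := rfl
noncomputable def actR63 (i : Nat) : Nat := col27 (col7 (col26 (col6 (i))))
theorem actR63_eq (i : Nat) : actR63 i = Tab.act T D rw63 i := rfl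
noncomputable def actR64 (i : Nat) : Nat := col27 (col9 (col26 (col8 (i))))
theorem actR64_eq (i : Nat) : actR64 i = Tab.act T D rw64 i := rfl
noncomputable def actR65 (i : Nat) : Nat := col27 (col11 (col26 (col10 (i))))
theorem actR65_eq (i : Nat) : actR65 i = Tab.act T D rw65 i := rfl
noncomputable def actR66 (i : Nat) : Nat := col27 (col13 (col26 (col12 (i))))
theorem actR66_eq (i : Nat) : actR66 i = Tab.act T D rw66 i := rfl
noncomputable def actR67 (i : Nat) : Nat := col27 (col15 (col26 (col14 (i))))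
theorem actR67_eq (i : Nat) : actR67 i = Tab.act T D rw67 i := rfl
noncomputable def actR68 (i : Nat) : Nat := col27 (col17 (col26 (col16 (i))))
theorem actR68_eq (i : Nat) : actR68 i = Tab.act T D rw68 i := rfl
noncomputable def actR69 (i : Nat) : Nat := col27 (col19 (col26 (col18 (i))))
theorem actR69_eq (i : Nat) : actR69 i = Tab.act T D rw69 i := rfl
noncomputable def actR70 (i : Nat) : Nat := col29 (col1 (col28 (col0 (i))))
theorem actR70_eq (i : Nat) : actR70 i = Tab.act T D rw70 i := rfl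
noncomputable def actR71 (i : Nat) : Nat := col29 (col3 (col28 (col2 (i))))
theorem actR71_eq (i : Nat) : actR71 i = Tab.act T D rw71 i := rfl
noncomputable def actR72 (i : Nat) : Nat := col29 (col5 (col28 (col4 (i))))
theorem actR72_eq (i : Nat) : actR72 i = Tab.act T D rw72 i := rfl
noncomputable def actR73 (i : Nat) : Nat := col29 (col7 (col28 (col6 (i))))
theorem actR73_eq (i : Nat) : actR73 i = Tab.act T D rw73 i := rfl
noncomputable def actR74 (i : Nat) : Nat := col29 (col9 (col28 (col8 (i))))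
theorem actR74_eq (i : Nat) : actR74 i = Tab.act T D rw74 i := rfl
noncomputable def actR75 (i : Nat) : Nat := col29 (col11 (col28 (col10 (i))))
theorem actR75_eq (i : Nat) : actR75 i = Tab.act T D rw75 i := rfl
noncomputable def actR76 (i : Nat) : Nat := col29 (col13 (col28 (col12 (i))))
theorem actR76_eq (i : Nat) : actR76 i = Tab.act T D rw76 i := rfl
noncomputable def actR77 (i : Nat) : Nat := col29 (col15 (col28 (col14 (i))))
theorem actR77_eq (i : Nat) : actR77 i = Tab.act T D rw77 i := rfl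
noncomputable def actR78 (i : Nat) : Nat := col29 (col17 (col28 (col16 (i))))
theorem actR78_eq (i : Nat) : actR78 i = Tab.act T D rw78 i := rfl
noncomputable def actR79 (i : Nat) : Nat := col29 (col19 (col28 (col18 (i))))
theorem actR79_eq (i : Nat) : actR79 i = Tab.act T D rw79 i := rfl
noncomputable def actR80 (i : Nat) : Nat := col31 (col1 (col30 (col0 (i))))
theorem actR80_eq (i : Nat) : actR80 i = Tab.act T D rw80 i := rfl
noncomputable def actR81 (i : Nat) : Nat := col31 (col3 (col30 (col2 (i))))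
theorem actR81_eq (i : Nat) : actR81 i = Tab.act T D rw81 i := rfl
noncomputable def actR82 (i : Nat) : Nat := col31 (col5 (col30 (col4 (i))))
theorem actR82_eq (i : Nat) : actR82 i = Tab.act T D rw82 i := rfl
noncomputable def actR83 (i : Nat) : Nat := col31 (col7 (col30 (col6 (i))))
theorem actR83_eq (i : Nat) : actR83 i = Tab.act T D rw83 i := rfl
noncomputable def actR84 (i : Nat) : Nat := col31 (col9 (col30 (col8 (i))))
theorem actR84_eq (i : Nat) : actR84 i = Tab.act T D rw84 i := rfl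
noncomputable def actR85 (i : Nat) : Nat := col31 (col11 (col30 (col10 (i))))
theorem actR85_eq (i : Nat) : actR85 i = Tab.act T D rw85 i := rfl
noncomputable def actR86 (i : Nat) : Nat := col31 (col13 (col30 (col12 (i))))
theorem actR86_eq (i : Nat) : actR86 i = Tab.act T D rw86 i := rfl
noncomputable def actR87 (i : Nat) : Nat := col31 (col15 (col30 (col14 (i))))
theorem actR87_eq (i : Nat) : actR87 i = Tab.act T D rw87 i := rfl
noncomputable def actR88 (i : Nat) : Nat := col31 (col17 (col30 (col16 (i))))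
theorem actR88_eq (i : Nat) : actR88 i = Tab.act T D rw88 i := rfl
noncomputable def actR89 (i : Nat) : Nat := col31 (col19 (col30 (col18 (i))))
theorem actR89_eq (i : Nat) : actR89 i = Tab.act T D rw89 i := rfl
noncomputable def actR90 (i : Nat) : Nat := col33 (col1 (col32 (col0 (i))))
theorem actR90_eq (i : Nat) : actR90 i = Tab.act T D rw90 i := rfl
noncomputable def actR91 (i : Nat) : Nat := col33 (col3 (col32 (col2 (i))))
theorem actR91_eq (i : Nat) : actR91 i = Tab.act T D rw91 i := rfl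
noncomputable def actR92 (i : Nat) : Nat := col33 (col5 (col32 (col4 (i))))
theorem actR92_eq (i : Nat) : actR92 i = Tab.act T D rw92 i := rfl
noncomputable def actR93 (i : Nat) : Nat := col33 (col7 (col32 (col6 (i))))
theorem actR93_eq (i : Nat) : actR93 i = Tab.act T D rw93 i := rfl
noncomputable def actR94 (i : Nat) : Nat := col33 (col9 (col32 (col8 (i))))
theorem actR94_eq (i : Nat) : actR94 i = Tab.act T D rw94 i := rfl
noncomputable def actR95 (i : Nat) : Nat := col33 (col11 (col32 (col10 (i))))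
theorem actR95_eq (i : Nat) : actR95 i = Tab.act T D rw95 i := rfl
noncomputable def actR96 (i : Nat) : Nat := col33 (col13 (col32 (col12 (i))))
theorem actR96_eq (i : Nat) : actR96 i = Tab.act T D rw96 i := rfl
noncomputable def actR97 (i : Nat) : Nat := col33 (col15 (col32 (col14 (i))))
theorem actR97_eq (i : Nat) : actR97 i = Tab.act T D rw97 i := rfl
noncomputable def actR98 (i : Nat) : Nat := col33 (col17 (col32 (col16 (i))))
theorem actR98_eq (i : Nat) : actR98 i = Tab.act T D rw98 i := rfl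
noncomputable def actR99 (i : Nat) : Nat := col33 (col19 (col32 (col18 (i))))
theorem actR99_eq (i : Nat) : actR99 i = Tab.act T D rw99 i := rfl
noncomputable def actR100 (i : Nat) : Nat := col35 (col1 (col34 (col0 (i))))
theorem actR100_eq (i : Nat) : actR100 i = Tab.act T D rw100 i := rfl
noncomputable def actR101 (i : Nat) : Nat := col35 (col3 (col34 (col2 (i))))
theorem actR101_eq (i : Nat) : actR101 i = Tab.act T D rw101 i := rfl
noncomputable def actR102 (i : Nat) : Nat := col35 (col5 (col34 (col4 (i))))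
theorem actR102_eq (i : Nat) : actR102 i = Tab.act T D rw102 i := rfl
noncomputable def actR103 (i : Nat) : Nat := col35 (col7 (col34 (col6 (i))))
theorem actR103_eq (i : Nat) : actR103 i = Tab.act T D rw103 i := rfl
noncomputable def actR104 (i : Nat) : Nat := col35 (col9 (col34 (col8 (i))))
theorem actR104_eq (i : Nat) : actR104 i = Tab.act T D rw104 i := rfl
noncomputable def actR105 (i : Nat) : Nat := col35 (col11 (col34 (col10 (i))))
theorem actR105_eq (i : Nat) : actR105 i = Tab.act T D rw105 i := rfl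
noncomputable def actR106 (i : Nat) : Nat := col35 (col13 (col34 (col12 (i))))
theorem actR106_eq (i : Nat) : actR106 i = Tab.act T D rw106 i := rfl
noncomputable def actR107 (i : Nat) : Nat := col35 (col15 (col34 (col14 (i))))
theorem actR107_eq (i : Nat) : actR107 i = Tab.act T D rw107 i := rfl
noncomputable def actR108 (i : Nat) : Nat := col35 (col17 (col34 (col16 (i))))
theorem actR108_eq (i : Nat) : actR108 i = Tab.act T D rw108 i := rfl
noncomputable def actR109 (i : Nat) : Nat := col35 (col19 (col34 (col18 (i))))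
theorem actR109_eq (i : Nat) : actR109 i = Tab.act T D rw109 i := rfl
noncomputable def actR110 (i : Nat) : Nat := col37 (col1 (col36 (col0 (i))))
theorem actR110_eq (i : Nat) : actR110 i = Tab.act T D rw110 i := rfl
noncomputable def actR111 (i : Nat) : Nat := col37 (col3 (col36 (col2 (i))))
theorem actR111_eq (i : Nat) : actR111 i = Tab.act T D rw111 i := rfl
noncomputable def actR112 (i : Nat) : Nat := col37 (col5 (col36 (col4 (i))))
theorem actR112_eq (i : Nat) : actR112 i = Tab.act T D rw112 i := rfl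
noncomputable def actR113 (i : Nat) : Nat := col37 (col7 (col36 (col6 (i))))
theorem actR113_eq (i : Nat) : actR113 i = Tab.act T D rw113 i := rfl
noncomputable def actR114 (i : Nat) : Nat := col37 (col9 (col36 (col8 (i))))
theorem actR114_eq (i : Nat) : actR114 i = Tab.act T D rw114 i := rfl
noncomputable def actR115 (i : Nat) : Nat := col37 (col11 (col36 (col10 (i))))
theorem actR115_eq (i : Nat) : actR115 i = Tab.act T D rw115 i := rfl
noncomputable def actR116 (i : Nat) : Nat := col37 (col13 (col36 (col12 (i))))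
theorem actR116_eq (i : Nat) : actR116 i = Tab.act T D rw116 i := rfl
noncomputable def actR117 (i : Nat) : Nat := col37 (col15 (col36 (col14 (i))))
theorem actR117_eq (i : Nat) : actR117 i = Tab.act T D rw117 i := rfl
noncomputable def actR118 (i : Nat) : Nat := col37 (col17 (col36 (col16 (i))))
theorem actR118_eq (i : Nat) : actR118 i = Tab.act T D rw118 i := rfl
noncomputable def actR119 (i : Nat) : Nat := col37 (col19 (col36 (col18 (i))))
theorem actR119_eq (i : Nat) : actR119 i = Tab.act T D rw119 i := rfl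
noncomputable def actR120 (i : Nat) : Nat := col39 (col1 (col38 (col0 (i))))
theorem actR120_eq (i : Nat) : actR120 i = Tab.act T D rw120 i := rfl
noncomputable def actR121 (i : Nat) : Nat := col39 (col3 (col38 (col2 (i))))
theorem actR121_eq (i : Nat) : actR121 i = Tab.act T D rw121 i := rfl
noncomputable def actR122 (i : Nat) : Nat := col39 (col5 (col38 (col4 (i))))
theorem actR122_eq (i : Nat) : actR122 i = Tab.act T D rw122 i := rfl
noncomputable def actR123 (i : Nat) : Nat := col39 (col7 (col38 (col6 (i))))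
theorem actR123_eq (i : Nat) : actR123 i = Tab.act T D rw123 i := rfl
noncomputable def actR124 (i : Nat) : Nat := col39 (col9 (col38 (col8 (i))))
theorem actR124_eq (i : Nat) : actR124 i = Tab.act T D rw124 i := rfl
noncomputable def actR125 (i : Nat) : Nat := col39 (col11 (col38 (col10 (i))))
theorem actR125_eq (i : Nat) : actR125 i = Tab.act T D rw125 i := rfl
noncomputable def actR126 (i : Nat) : Nat := col39 (col13 (col38 (col12 (i))))
theorem actR126_eq (i : Nat) : actR126 i = Tab.act T D rw126 i := rfl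
noncomputable def actR127 (i : Nat) : Nat := col39 (col15 (col38 (col14 (i))))
theorem actR127_eq (i : Nat) : actR127 i = Tab.act T D rw127 i := rfl
noncomputable def actR128 (i : Nat) : Nat := col39 (col17 (col38 (col16 (i))))
theorem actR128_eq (i : Nat) : actR128 i = Tab.act T D rw128 i := rfl
noncomputable def actR129 (i : Nat) : Nat := col39 (col19 (col38 (col18 (i))))
theorem actR129_eq (i : Nat) : actR129 i = Tab.act T D rw129 i := rfl
noncomputable def actR130 (i : Nat) : Nat := col1 (col1 (col1 (col1 (col1 (col1 (col1 (col1 (col1 (col1 (col1 (col1 (col1 (col1 (col1 (col1 (col1 (i)))))))))))))))))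
theorem actR130_eq (i : Nat) : actR130 i = Tab.act T D rw130 i := rfl
noncomputable def actR131 (i : Nat) : Nat := col3 (col3 (i))
theorem actR131_eq (i : Nat) : actR131 i = Tab.act T D rw131 i := rfl
noncomputable def actR132 (i : Nat) : Nat := col1 (col1 (col1 (col3 (col0 (col3 (col1 (col3 (col1 (col1 (col1 (col3 (col0 (col3 (col1 (col3 (i))))))))))))))))
theorem actR132_eq (i : Nat) : actR132 i = Tab.act T D rw132 i := rfl
noncomputable def actR133 (i : Nat) : Nat := col1 (col1 (col1 (col1 (col1 (col3 (col1 (col1 (col1 (col1 (col1 (col3 (col1 (col1 (col1 (col1 (col1 (col3 (i))))))))))))))))))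
theorem actR133_eq (i : Nat) : actR133 i = Tab.act T D rw133 i := rfl
noncomputable def actR134 (i : Nat) : Nat := col5 (col5 (i))
theorem actR134_eq (i : Nat) : actR134 i = Tab.act T D rw134 i := rfl
noncomputable def actR135 (i : Nat) : Nat := col3 (col5 (col3 (col5 (i))))
theorem actR135_eq (i : Nat) : actR135 i = Tab.act T D rw135 i := rfl
noncomputable def actR136 (i : Nat) : Nat := col1 (col5 (col1 (col5 (col1 (col5 (col1 (col5 (col1 (col5 (i))))))))))
theorem actR136_eq (i : Nat) : actR136 i = Tab.act T D rw136 i := rfl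
noncomputable def actR137 (i : Nat) : Nat := col1 (col3 (col0 (col3 (col5 (col0 (col3 (col1 (col5 (col1 (col5 (col3 (col1 (col5 (col3 (col1 (col5 (i)))))))))))))))))
theorem actR137_eq (i : Nat) : actR137 i = Tab.act T D rw137 i := rfl
noncomputable def actR138 (i : Nat) : Nat := col1 (col1 (col3 (col1 (col5 (col1 (col5 (col0 (col0 (col3 (col0 (col5 (col1 (col5 (col1 (col3 (col1 (col3 (i))))))))))))))))))
theorem actR138_eq (i : Nat) : actR138 i = Tab.act T D rw138 i := rfl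
noncomputable def actR139 (i : Nat) : Nat := col6 (col1 (col1 (col1 (col5 (col0 (col5 (col1 (col5 (col0 (col0 (col0 (i))))))))))))
theorem actR139_eq (i : Nat) : actR139 i = Tab.act T D rw139 i := rfl
noncomputable def actR140 (i : Nat) : Nat := col8 (col1 (col3 (col5 (col0 (col5 (col1 (col3 (col0 (col5 (col1 (col5 (col0 (col3 (col5 (i)))))))))))))))
theorem actR140_eq (i : Nat) : actR140 i = Tab.act T D rw140 i := rfl
noncomputable def actR141 (i : Nat) : Nat := col10 (col1 (col3 (col0 (col3 (col1 (col3 (col5 (i))))))))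
theorem actR141_eq (i : Nat) : actR141 i = Tab.act T D rw141 i := rfl
noncomputable def actR142 (i : Nat) : Nat := col5 (col9 (col5 (col9 (col5 (col9 (col5 (col9 (col5 (col9 (col5 (col9 (col5 (col9 (col5 (col9 (col5 (col9 (col5 (col9 (i))))))))))))))))))))
theorem actR142_eq (i : Nat) : actR142 i = Tab.act T D rw142 i := rfl
noncomputable def actR143 (i : Nat) : Nat := col9 (col3 (col9 (col3 (col9 (col3 (i))))))
theorem actR143_eq (i : Nat) : actR143 i = Tab.act T D rw143 i := rfl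
noncomputable def actR144 (i : Nat) : Nat := col9 (col11 (col9 (col11 (col9 (col11 (i))))))
theorem actR144_eq (i : Nat) : actR144 i = Tab.act T D rw144 i := rfl
noncomputable def actR145 (i : Nat) : Nat := col7 (col5 (col6 (col4 (i))))
theorem actR145_eq (i : Nat) : actR145 i = Tab.act T D rw145 i := rfl
noncomputable def actR146 (i : Nat) : Nat := col7 (col9 (col6 (col8 (i))))
theorem actR146_eq (i : Nat) : actR146 i = Tab.act T D rw146 i := rfl
noncomputable def actR147 (i : Nat) : Nat := col7 (col3 (col6 (col2 (i))))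
theorem actR147_eq (i : Nat) : actR147 i = Tab.act T D rw147 i := rfl
noncomputable def actR148 (i : Nat) : Nat := col7 (col11 (col6 (col10 (i))))
theorem actR148_eq (i : Nat) : actR148 i = Tab.act T D rw148 i := rfl
noncomputable def actR149 (i : Nat) : Nat := col5 (col3 (col4 (col2 (i))))
theorem actR149_eq (i : Nat) : actR149 i = Tab.act T D rw149 i := rfl
noncomputable def actR150 (i : Nat) : Nat := col5 (col11 (col4 (col10 (i))))
theorem actR150_eq (i : Nat) : actR150 i = Tab.act T D rw150 i := rfl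
noncomputable def actR151 (i : Nat) : Nat := col3 (col11 (col2 (col10 (i))))
theorem actR151_eq (i : Nat) : actR151 i = Tab.act T D rw151 i := rfl
noncomputable def actR152 (i : Nat) : Nat := col7 (col8 (col4 (col8 (col4 (col8 (col4 (col8 (col4 (col8 (col4 (i)))))))))))
theorem actR152_eq (i : Nat) : actR152 i = Tab.act T D rw152 i := rfl
noncomputable def actR153 (i : Nat) : Nat := col17 (col5 (col1 (col16 (col0 (col4 (i))))))
theorem actR153_eq (i : Nat) : actR153 i = Tab.act T D rw153 i := rfl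
noncomputable def actR154 (i : Nat) : Nat := col17 (col5 (col1 (col3 (col16 (col2 (col0 (col4 (i))))))))
theorem actR154_eq (i : Nat) : actR154 i = Tab.act T D rw154 i := rfl
noncomputable def actR155 (i : Nat) : Nat := col17 (col5 (col0 (col3 (col5 (col1 (col5 (col0 (col3 (col1 (col5 (col0 (col16 (col1 (col4 (col0 (col2 (col1 (col4 (col0 (col4 (col2 (col1 (col4 (i))))))))))))))))))))))))
theorem actR155_eq (i : Nat) : actR155 i = Tab.act T D rw155 i := rfl
noncomputable def actR156 (i : Nat) : Nat := col19 (col0 (col0 (col3 (col0 (col0 (col0 (col5 (col18 (col1 (col1 (col1 (col2 (col1 (col1 (i)))))))))))))))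
theorem actR156_eq (i : Nat) : actR156 i = Tab.act T D rw156 i := rfl
noncomputable def actR157 (i : Nat) : Nat := col19 (col0 (col0 (col3 (col0 (col0 (col0 (col18 (col4 (col1 (col1 (col1 (col2 (col1 (col1 (i)))))))))))))))
theorem actR157_eq (i : Nat) : actR157 i = Tab.act T D rw157 i := rfl
noncomputable def actR158 (i : Nat) : Nat := col19 (col0 (col0 (col3 (col0 (col0 (col0 (col3 (col18 (col4 (col2 (col1 (col1 (col1 (col2 (col1 (col1 (i)))))))))))))))))
theorem actR158_eq (i : Nat) : actR158 i = Tab.act T D rw158 i := rfl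
noncomputable def actR159 (i : Nat) : Nat := col19 (col1 (col1 (col3 (col1 (col1 (col1 (col3 (col5 (col18 (col0 (col0 (col0 (col2 (col0 (col0 (col2 (i)))))))))))))))))
theorem actR159_eq (i : Nat) : actR159 i = Tab.act T D rw159 i := rfl

end Cfsg.Agent.Lib.Helper4.TCD.SHep2A
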