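import Cfsg.Agent.Lib.Helper4.TCD_SHep2A_Acc

namespace Cfsg.Agent.Lib.Helper4.TCD.SHep2A

open Cfsg.Agent.Lib.Helper4.TC

set_option maxRecDepth 100000
set_option Elab.async false

theorem c_zero : D.zeroOK = true := by decide +kernel
theorem c_base : allBelow D.baseOK 12 = true := by decide +kernel
theorem c_let : allBelow D.letOK 40 = true := by decide +kernel
theorem c_cls0 : T.cls 0 = 0 := by decide +kernel
theorem c_name0 : T.nameOf 0 = 0 := by decide +kernel
theorem c_tab : D.relTabOK 0 (baseRels 40 PSHep2.invR PSHep2.P.real subs ++ (baseRels 40 PSHep2.invR PSHep2.P.real subs).map (invWord D.inv)) = true := by decide +kernel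
theorem c_real : PSHep2.P.real = realLit := by decide +kernel
theorem c_subfix : subs.all (fun u => Nat.beq (Tab.act T D u 0) 0) = true := by decide +kernel
theorem c_subs : subs.all (fun u => u.all (fun x => Nat.ble (Nat.succ x) 40)) = true := by decide +kernel
theorem c_names_0 : allRange D.nameOK 1 60000 = true := by decide +kernel
theorem c_names_1 : allRange D.nameOK 60001 60000 = true := by decide +kernel
theorem c_names_2 : allRange D.nameOK 120001 60000 = true := by decide +kernel
theorem c_names_3 : allRange D.nameOK 180001 38414 = true := by decide +kernel
theorem c_cls_0 : allRange (T.clsOK D) 1 15000 = true := by decide +kernel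
theorem c_cls_1 : allRange (T.clsOK D) 15001 15000 = true := by decide +kernel
theorem c_cls_2 : allRange (T.clsOK D) 30001 15000 = true := by decide +kernel
theorem c_cls_3 : allRange (T.clsOK D) 45001 15000 = true := by decide +kernel
theorem c_cls_4 : allRange (T.clsOK D) 60001 15000 = true := by decide +kernel
theorem c_cls_5 : allRange (T.clsOK D) 75001 15000 = true := by decide +kernel
theorem c_cls_6 : allRange (T.clsOK D) 90001 15000 = true := by decide +kernel
theorem c_cls_7 : allRange (T.clsOK D) 105001 15000 = true := by decide +kernel
theorem c_cls_8 : allRange (T.clsOK D) 120001 15000 = true := by decide +kernel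
theorem c_cls_9 : allRange (T.clsOK D) 135001 15000 = true := by decide +kernel
theorem c_cls_10 : allRange (T.clsOK D) 150001 15000 = true := by decide +kernel
theorem c_cls_11 : allRange (T.clsOK D) 165001 15000 = true := by decide +kernel
theorem c_cls_12 : allRange (T.clsOK D) 180001 15000 = true := by decide +kernel
theorem c_cls_13 : allRange (T.clsOK D) 195001 15000 = true := by decide +kernel
theorem c_cls_14 : allRange (T.clsOK D) 210001 8414 = true := by decide +kernel
theorem c_rep_0 : allRange (T.repOK D) 0 4116 = true := by decide +kernel
theorem c_rel_0 : allRange D.relOK 218427 3840 = true := by decide +kernel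
theorem c_rel_1 : allRange D.relOK 222267 3848 = true := by decide +kernel
theorem c_rel_2 : allRange D.relOK 226115 3642 = true := by decide +kernel
theorem c_rel_3 : allRange D.relOK 229757 3898 = true := by decide +kernel
theorem c_rel_4 : allRange D.relOK 233655 3915 = true := by decide +kernel
theorem c_rel_5 : allRange D.relOK 237570 3903 = true := by decide +kernel
theorem c_rel_6 : allRange D.relOK 241473 3882 = true := by decide +kernel
theorem c_rel_7 : allRange D.relOK 245355 3895 = true := by decide +kernel
theorem c_rel_8 : allRange D.relOK 249250 3892 = true := by decide +kernel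
theorem c_rel_9 : allRange D.relOK 253142 3894 = true := by decide +kernel
theorem c_rel_10 : allRange D.relOK 257036 3903 = true := by decide +kernel
theorem c_rel_11 : allRange D.relOK 260939 3874 = true := by decide +kernel
theorem c_rel_12 : allRange D.relOK 264813 3891 = true := by decide +kernel
theorem c_rel_13 : allRange D.relOK 268704 3944 = true := by decide +kernel
theorem c_rel_14 : allRange D.relOK 272648 3901 = true := by decide +kernel
theorem c_rel_15 : allRange D.relOK 276549 3918 = true := by decide +kernel
theorem c_rel_16 : allRange D.relOK 280467 3543 = true := by decide +kernel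
theorem c_rel_17 : allRange D.relOK 284010 3463 = true := by decide +kernel
theorem c_rel_18 : allRange D.relOK 287473 3827 = true := by decide +kernel
theorem c_rel_19 : allRange D.relOK 291300 3908 = true := by decide +kernel
theorem c_rel_20 : allRange D.relOK 295208 3849 = true := by decide +kernel
theorem c_rel_21 : allRange D.relOK 299057 3866 = true := by decide +kernel
theorem c_rel_22 : allRange D.relOK 302923 3934 = true := by decide +kernel
theorem c_rel_23 : allRange D.relOK 306857 3968 = true := by decide +kernel
theorem c_rel_24 : allRange D.relOK 310825 3961 = true := by decide +kernel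
theorem c_rel_25 : allRange D.relOK 314786 3926 = true := by decide +kernel
theorem c_rel_26 : allRange D.relOK 318712 3929 = true := by decide +kernel
theorem c_rel_27 : allRange D.relOK 322641 3913 = true := by decide +kernel
theorem c_rel_28 : allRange D.relOK 326554 3958 = true := by decide +kernel
theorem c_rel_29 : allRange D.relOK 330512 3957 = true := by decide +kernel
theorem c_rel_30 : allRange D.relOK 334469 3956 = true := by decide +kernel
theorem c_rel_31 : allRange D.relOK 338425 3936 = true := by decide +kernel
theorem c_rel_32 : allRange D.relOK 342361 3959 = true := by decide +kernel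
theorem c_rel_33 : allRange D.relOK 346320 3947 = true := by decide +kernel
theorem c_rel_34 : allRange D.relOK 350267 3994 = true := by decide +kernel
theorem c_rel_35 : allRange D.relOK 354261 3952 = true := by decide +kernel
theorem c_rel_36 : allRange D.relOK 358213 3989 = true := by decide +kernel
theorem c_rel_37 : allRange D.relOK 362202 3982 = true := by decide +kernel
theorem c_rel_38 : allRange D.relOK 366184 3960 = true := by decide +kernel
theorem c_rel_39 : allRange D.relOK 370144 3995 = true := by decide +kernel
theorem c_rel_40 : allRange D.relOK 374139 4074 = true := by decide +kernel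
theorem c_rel_41 : allRange D.relOK 378213 4045 = true := by decide +kernel
theorem c_rel_42 : allRange D.relOK 382258 4007 = true := by decide +kernel
theorem c_rel_43 : allRange D.relOK 386265 4030 = true := by decide +kernel
theorem c_rel_44 : allRange D.relOK 390295 4068 = true := by decide +kernel
theorem c_rel_45 : allRange D.relOK 394363 4064 = true := by decide +kernel
theorem c_rel_46 : allRange D.relOK 398427 4103 = true := by decide +kernel
theorem c_rel_47 : allRange D.relOK 402530 4074 = true := by decide +kernel
theorem c_rel_48 : allRange D.relOK 406604 4015 = true := by decide +kernel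
theorem c_rel_49 : allRange D.relOK 410619 4066 = true := by decide +kernel
theorem c_rel_50 : allRange D.relOK 414685 4039 = true := by decide +kernel
theorem c_rel_51 : allRange D.relOK 418724 4011 = true := by decide +kernel
theorem c_rel_52 : allRange D.relOK 422735 4023 = true := by decide +kernel
theorem c_rel_53 : allRange D.relOK 426758 4008 = true := by decide +kernel
theorem c_rel_54 : allRange D.relOK 430766 4059 = true := by decide +kernel
theorem c_rel_55 : allRange D.relOK 434825 4052 = true := by decide +kernel
theorem c_rel_56 : allRange D.relOK 438877 4054 = true := by decide +kernel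
theorem c_rel_57 : allRange D.relOK 442931 4062 = true := by decide +kernel
theorem c_rel_58 : allRange D.relOK 446993 4086 = true := by decide +kernel
theorem c_rel_59 : allRange D.relOK 451079 4080 = true := by decide +kernel
theorem c_rel_60 : allRange D.relOK 455159 4100 = true := by decide +kernel
theorem c_rel_61 : allRange D.relOK 459259 4073 = true := by decide +kernel
theorem c_rel_62 : allRange D.relOK 463332 4068 = true := by decide +kernel

end Cfsg.Agent.Lib.Helper4.TCD.SHep2A
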