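import Cfsg.Agent.Lib.Helper4.TC7
import Cfsg.Agent.Lib.Helper4.TCP_SHep3
import Cfsg.Agent.Lib.Helper4.TCD_SHep3A_D0
import Cfsg.Agent.Lib.Helper4.TCD_SHep3A_D1
import Cfsg.Agent.Lib.Helper4.TCD_SHep3A_D2
import Cfsg.Agent.Lib.Helper4.TCD_SHep3A_D3
import Cfsg.Agent.Lib.Helper4.TCD_SHep3A_D4
import Cfsg.Agent.Lib.Helper4.TCD_SHep3A_D5
import Cfsg.Agent.Lib.Helper4.TCD_SHep3A_D6
import Cfsg.Agent.Lib.Helper4.TCD_SHep3A_D7
import Cfsg.Agent.Lib.Helper4.TCD_SHep3A_D8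
import Cfsg.Agent.Lib.Helper4.TCD_SHep3A_D9
import Cfsg.Agent.Lib.Helper4.TCD_SHep3A_D10
import Cfsg.Agent.Lib.Helper4.TCD_SHep3A_D11
import Cfsg.Agent.Lib.Helper4.TCD_SHep3A_D12
import Cfsg.Agent.Lib.Helper4.TCD_SHep3A_D13
import Cfsg.Agent.Lib.Helper4.TCD_SHep3A_D14
import Cfsg.Agent.Lib.Helper4.TCD_SHep3A_D15
import Cfsg.Agent.Lib.Helper4.TCD_SHep3A_D16
import Cfsg.Agent.Lib.Helper4.TCD_SHep3A_D17

namespace Cfsg.Agent.Lib.Helper4.TCD.SHep3A

open Cfsg.Agent.Lib.Helper4.TC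

set_option maxRecDepth 100000

noncomputable def Atab_s_1_3 (c : Nat) : Nat := @Bool.rec (fun _ => Nat) (Atab_1) (Atab_2) (Nat.ble 2 c)
noncomputable def Atab_s_0_3 (c : Nat) : Nat := @Bool.rec (fun _ => Nat) (Atab_0) (Atab_s_1_3 c) (Nat.ble 1 c)
noncomputable def Atab_s_4_6 (c : Nat) : Nat := @Bool.rec (fun _ => Nat) (Atab_4) (Atab_5) (Nat.ble 5 c)
noncomputable def Atab_s_3_6 (c : Nat) : Nat := @Bool.rec (fun _ => Nat) (Atab_3) (Atab_s_4_6 c) (Nat.ble 4 c)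
noncomputable def Atab_s_0_6 (c : Nat) : Nat := @Bool.rec (fun _ => Nat) (Atab_s_0_3 c) (Atab_s_3_6 c) (Nat.ble 3 c)
noncomputable def Atab_s_7_9 (c : Nat) : Nat := @Bool.rec (fun _ => Nat) (Atab_7) (Atab_8) (Nat.ble 8 c)
noncomputable def Atab_s_6_9 (c : Nat) : Nat := @Bool.rec (fun _ => Nat) (Atab_6) (Atab_s_7_9 c) (Nat.ble 7 c)
noncomputable def Atab_s_10_12 (c : Nat) : Nat := @Bool.rec (fun _ => Nat) (Atab_10) (Atab_11) (Nat.ble 11 c)
noncomputable def Atab_s_9_12 (c : Nat) : Nat := @Bool.rec (fun _ => Nat) (Atab_9) (Atab_s_10_12 c) (Nat.ble 10 c)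
noncomputable def Atab_s_6_12 (c : Nat) : Nat := @Bool.rec (fun _ => Nat) (Atab_s_6_9 c) (Atab_s_9_12 c) (Nat.ble 9 c)
noncomputable def Atab_s_0_12 (c : Nat) : Nat := @Bool.rec (fun _ => Nat) (Atab_s_0_6 c) (Atab_s_6_12 c) (Nat.ble 6 c)
noncomputable def Atab_s_13_15 (c : Nat) : Nat := @Bool.rec (fun _ => Nat) (Atab_13) (Atab_14) (Nat.ble 14 c)
noncomputable def Atab_s_12_15 (c : Nat) : Nat := @Bool.rec (fun _ => Nat) (Atab_12) (Atab_s_13_15 c) (Nat.ble 13 c)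
noncomputable def Atab_s_16_18 (c : Nat) : Nat := @Bool.rec (fun _ => Nat) (Atab_16) (Atab_17) (Nat.ble 17 c)
noncomputable def Atab_s_15_18 (c : Nat) : Nat := @Bool.rec (fun _ => Nat) (Atab_15) (Atab_s_16_18 c) (Nat.ble 16 c)
noncomputable def Atab_s_12_18 (c : Nat) : Nat := @Bool.rec (fun _ => Nat) (Atab_s_12_15 c) (Atab_s_15_18 c) (Nat.ble 15 c)
noncomputable def Atab_s_19_21 (c : Nat) : Nat := @Bool.rec (fun _ => Nat) (Atab_19) (Atab_20) (Nat.ble 20 c)
noncomputable def Atab_s_18_21 (c : Nat) : Nat := @Bool.rec (fun _ => Nat) (Atab_18) (Atab_s_19_21 c) (Nat.ble 19 c)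
noncomputable def Atab_s_22_24 (c : Nat) : Nat := @Bool.rec (fun _ => Nat) (Atab_22) (Atab_23) (Nat.ble 23 c)
noncomputable def Atab_s_21_24 (c : Nat) : Nat := @Bool.rec (fun _ => Nat) (Atab_21) (Atab_s_22_24 c) (Nat.ble 22 c)
noncomputable def Atab_s_18_24 (c : Nat) : Nat := @Bool.rec (fun _ => Nat) (Atab_s_18_21 c) (Atab_s_21_24 c) (Nat.ble 21 c)
noncomputable def Atab_s_12_24 (c : Nat) : Nat := @Bool.rec (fun _ => Nat) (Atab_s_12_18 c) (Atab_s_18_24 c) (Nat.ble 18 c)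
noncomputable def Atab_s_0_24 (c : Nat) : Nat := @Bool.rec (fun _ => Nat) (Atab_s_0_12 c) (Atab_s_12_24 c) (Nat.ble 12 c)
noncomputable def Atab_s_25_27 (c : Nat) : Nat := @Bool.rec (fun _ => Nat) (Atab_25) (Atab_26) (Nat.ble 26 c)
noncomputable def Atab_s_24_27 (c : Nat) : Nat := @Bool.rec (fun _ => Nat) (Atab_24) (Atab_s_25_27 c) (Nat.ble 25 c)
noncomputable def Atab_s_28_30 (c : Nat) : Nat := @Bool.rec (fun _ => Nat) (Atab_28) (Atab_29) (Nat.ble 29 c)
noncomputable def Atab_s_27_30 (c : Nat) : Nat := @Bool.rec (fun _ => Nat) (Atab_27) (Atab_s_28_30 c) (Nat.ble 28 c)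
noncomputable def Atab_s_24_30 (c : Nat) : Nat := @Bool.rec (fun _ => Nat) (Atab_s_24_27 c) (Atab_s_27_30 c) (Nat.ble 27 c)
noncomputable def Atab_s_31_33 (c : Nat) : Nat := @Bool.rec (fun _ => Nat) (Atab_31) (Atab_32) (Nat.ble 32 c)
noncomputable def Atab_s_30_33 (c : Nat) : Nat := @Bool.rec (fun _ => Nat) (Atab_30) (Atab_s_31_33 c) (Nat.ble 31 c)
noncomputable def Atab_s_34_36 (c : Nat) : Nat := @Bool.rec (fun _ => Nat) (Atab_34) (Atab_35) (Nat.ble 35 c)
noncomputable def Atab_s_33_36 (c : Nat) : Nat := @Bool.rec (fun _ => Nat) (Atab_33) (Atab_s_34_36 c) (Nat.ble 34 c)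
noncomputable def Atab_s_30_36 (c : Nat) : Nat := @Bool.rec (fun _ => Nat) (Atab_s_30_33 c) (Atab_s_33_36 c) (Nat.ble 33 c)
noncomputable def Atab_s_24_36 (c : Nat) : Nat := @Bool.rec (fun _ => Nat) (Atab_s_24_30 c) (Atab_s_30_36 c) (Nat.ble 30 c)
noncomputable def Atab_s_37_39 (c : Nat) : Nat := @Bool.rec (fun _ => Nat) (Atab_37) (Atab_38) (Nat.ble 38 c)
noncomputable def Atab_s_36_39 (c : Nat) : Nat := @Bool.rec (fun _ => Nat) (Atab_36) (Atab_s_37_39 c) (Nat.ble 37 c)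
noncomputable def Atab_s_40_42 (c : Nat) : Nat := @Bool.rec (fun _ => Nat) (Atab_40) (Atab_41) (Nat.ble 41 c)
noncomputable def Atab_s_39_42 (c : Nat) : Nat := @Bool.rec (fun _ => Nat) (Atab_39) (Atab_s_40_42 c) (Nat.ble 40 c)
noncomputable def Atab_s_36_42 (c : Nat) : Nat := @Bool.rec (fun _ => Nat) (Atab_s_36_39 c) (Atab_s_39_42 c) (Nat.ble 39 c)
noncomputable def Atab_s_43_45 (c : Nat) : Nat := @Bool.rec (fun _ => Nat) (Atab_43) (Atab_44) (Nat.ble 44 c)
noncomputable def Atab_s_42_45 (c : Nat) : Nat := @Bool.rec (fun _ => Nat) (Atab_42) (Atab_s_43_45 c) (Nat.ble 43 c)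
noncomputable def Atab_s_46_48 (c : Nat) : Nat := @Bool.rec (fun _ => Nat) (Atab_46) (Atab_47) (Nat.ble 47 c)
noncomputable def Atab_s_45_48 (c : Nat) : Nat := @Bool.rec (fun _ => Nat) (Atab_45) (Atab_s_46_48 c) (Nat.ble 46 c)
noncomputable def Atab_s_42_48 (c : Nat) : Nat := @Bool.rec (fun _ => Nat) (Atab_s_42_45 c) (Atab_s_45_48 c) (Nat.ble 45 c)
noncomputable def Atab_s_36_48 (c : Nat) : Nat := @Bool.rec (fun _ => Nat) (Atab_s_36_42 c) (Atab_s_42_48 c) (Nat.ble 42 c)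
noncomputable def Atab_s_24_48 (c : Nat) : Nat := @Bool.rec (fun _ => Nat) (Atab_s_24_36 c) (Atab_s_36_48 c) (Nat.ble 36 c)
noncomputable def Atab_s_0_48 (c : Nat) : Nat := @Bool.rec (fun _ => Nat) (Atab_s_0_24 c) (Atab_s_24_48 c) (Nat.ble 24 c)
noncomputable def Atab_s_49_51 (c : Nat) : Nat := @Bool.rec (fun _ => Nat) (Atab_49) (Atab_50) (Nat.ble 50 c)
noncomputable def Atab_s_48_51 (c : Nat) : Nat := @Bool.rec (fun _ => Nat) (Atab_48) (Atab_s_49_51 c) (Nat.ble 49 c)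
noncomputable def Atab_s_52_54 (c : Nat) : Nat := @Bool.rec (fun _ => Nat) (Atab_52) (Atab_53) (Nat.ble 53 c)
noncomputable def Atab_s_51_54 (c : Nat) : Nat := @Bool.rec (fun _ => Nat) (Atab_51) (Atab_s_52_54 c) (Nat.ble 52 c)
noncomputable def Atab_s_48_54 (c : Nat) : Nat := @Bool.rec (fun _ => Nat) (Atab_s_48_51 c) (Atab_s_51_54 c) (Nat.ble 51 c)
noncomputable def Atab_s_55_57 (c : Nat) : Nat := @Bool.rec (fun _ => Nat) (Atab_55) (Atab_56) (Nat.ble 56 c)
noncomputable def Atab_s_54_57 (c : Nat) : Nat := @Bool.rec (fun _ => Nat) (Atab_54) (Atab_s_55_57 c) (Nat.ble 55 c)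
noncomputable def Atab_s_58_60 (c : Nat) : Nat := @Bool.rec (fun _ => Nat) (Atab_58) (Atab_59) (Nat.ble 59 c)
noncomputable def Atab_s_57_60 (c : Nat) : Nat := @Bool.rec (fun _ => Nat) (Atab_57) (Atab_s_58_60 c) (Nat.ble 58 c)
noncomputable def Atab_s_54_60 (c : Nat) : Nat := @Bool.rec (fun _ => Nat) (Atab_s_54_57 c) (Atab_s_57_60 c) (Nat.ble 57 c)
noncomputable def Atab_s_48_60 (c : Nat) : Nat := @Bool.rec (fun _ => Nat) (Atab_s_48_54 c) (Atab_s_54_60 c) (Nat.ble 54 c)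
noncomputable def Atab_s_61_63 (c : Nat) : Nat := @Bool.rec (fun _ => Nat) (Atab_61) (Atab_62) (Nat.ble 62 c)
noncomputable def Atab_s_60_63 (c : Nat) : Nat := @Bool.rec (fun _ => Nat) (Atab_60) (Atab_s_61_63 c) (Nat.ble 61 c)
noncomputable def Atab_s_64_66 (c : Nat) : Nat := @Bool.rec (fun _ => Nat) (Atab_64) (Atab_65) (Nat.ble 65 c)
noncomputable def Atab_s_63_66 (c : Nat) : Nat := @Bool.rec (fun _ => Nat) (Atab_63) (Atab_s_64_66 c) (Nat.ble 64 c)
noncomputable def Atab_s_60_66 (c : Nat) : Nat := @Bool.rec (fun _ => Nat) (Atab_s_60_63 c) (Atab_s_63_66 c) (Nat.ble 63 c)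
noncomputable def Atab_s_67_69 (c : Nat) : Nat := @Bool.rec (fun _ => Nat) (Atab_67) (Atab_68) (Nat.ble 68 c)
noncomputable def Atab_s_66_69 (c : Nat) : Nat := @Bool.rec (fun _ => Nat) (Atab_66) (Atab_s_67_69 c) (Nat.ble 67 c)
noncomputable def Atab_s_70_72 (c : Nat) : Nat := @Bool.rec (fun _ => Nat) (Atab_70) (Atab_71) (Nat.ble 71 c)
noncomputable def Atab_s_69_72 (c : Nat) : Nat := @Bool.rec (fun _ => Nat) (Atab_69) (Atab_s_70_72 c) (Nat.ble 70 c)
noncomputable def Atab_s_66_72 (c : Nat) : Nat := @Bool.rec (fun _ => Nat) (Atab_s_66_69 c) (Atab_s_69_72 c) (Nat.ble 69 c)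
noncomputable def Atab_s_60_72 (c : Nat) : Nat := @Bool.rec (fun _ => Nat) (Atab_s_60_66 c) (Atab_s_66_72 c) (Nat.ble 66 c)
noncomputable def Atab_s_48_72 (c : Nat) : Nat := @Bool.rec (fun _ => Nat) (Atab_s_48_60 c) (Atab_s_60_72 c) (Nat.ble 60 c)
noncomputable def Atab_s_73_75 (c : Nat) : Nat := @Bool.rec (fun _ => Nat) (Atab_73) (Atab_74) (Nat.ble 74 c)
noncomputable def Atab_s_72_75 (c : Nat) : Nat := @Bool.rec (fun _ => Nat) (Atab_72) (Atab_s_73_75 c) (Nat.ble 73 c)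
noncomputable def Atab_s_76_78 (c : Nat) : Nat := @Bool.rec (fun _ => Nat) (Atab_76) (Atab_77) (Nat.ble 77 c)
noncomputable def Atab_s_75_78 (c : Nat) : Nat := @Bool.rec (fun _ => Nat) (Atab_75) (Atab_s_76_78 c) (Nat.ble 76 c)
noncomputable def Atab_s_72_78 (c : Nat) : Nat := @Bool.rec (fun _ => Nat) (Atab_s_72_75 c) (Atab_s_75_78 c) (Nat.ble 75 c)
noncomputable def Atab_s_79_81 (c : Nat) : Nat := @Bool.rec (fun _ => Nat) (Atab_79) (Atab_80) (Nat.ble 80 c)
noncomputable def Atab_s_78_81 (c : Nat) : Nat := @Bool.rec (fun _ => Nat) (Atab_78) (Atab_s_79_81 c) (Nat.ble 79 c)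
noncomputable def Atab_s_82_84 (c : Nat) : Nat := @Bool.rec (fun _ => Nat) (Atab_82) (Atab_83) (Nat.ble 83 c)
noncomputable def Atab_s_81_84 (c : Nat) : Nat := @Bool.rec (fun _ => Nat) (Atab_81) (Atab_s_82_84 c) (Nat.ble 82 c)
noncomputable def Atab_s_78_84 (c : Nat) : Nat := @Bool.rec (fun _ => Nat) (Atab_s_78_81 c) (Atab_s_81_84 c) (Nat.ble 81 c)
noncomputable def Atab_s_72_84 (c : Nat) : Nat := @Bool.rec (fun _ => Nat) (Atab_s_72_78 c) (Atab_s_78_84 c) (Nat.ble 78 c)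
noncomputable def Atab_s_85_87 (c : Nat) : Nat := @Bool.rec (fun _ => Nat) (Atab_85) (Atab_86) (Nat.ble 86 c)
noncomputable def Atab_s_84_87 (c : Nat) : Nat := @Bool.rec (fun _ => Nat) (Atab_84) (Atab_s_85_87 c) (Nat.ble 85 c)
noncomputable def Atab_s_88_90 (c : Nat) : Nat := @Bool.rec (fun _ => Nat) (Atab_88) (Atab_89) (Nat.ble 89 c)
noncomputable def Atab_s_87_90 (c : Nat) : Nat := @Bool.rec (fun _ => Nat) (Atab_87) (Atab_s_88_90 c) (Nat.ble 88 c)
noncomputable def Atab_s_84_90 (c : Nat) : Nat := @Bool.rec (fun _ => Nat) (Atab_s_84_87 c) (Atab_s_87_90 c) (Nat.ble 87 c)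
noncomputable def Atab_s_91_93 (c : Nat) : Nat := @Bool.rec (fun _ => Nat) (Atab_91) (Atab_92) (Nat.ble 92 c)
noncomputable def Atab_s_90_93 (c : Nat) : Nat := @Bool.rec (fun _ => Nat) (Atab_90) (Atab_s_91_93 c) (Nat.ble 91 c)
noncomputable def Atab_s_94_96 (c : Nat) : Nat := @Bool.rec (fun _ => Nat) (Atab_94) (Atab_95) (Nat.ble 95 c)
noncomputable def Atab_s_93_96 (c : Nat) : Nat := @Bool.rec (fun _ => Nat) (Atab_93) (Atab_s_94_96 c) (Nat.ble 94 c)
noncomputable def Atab_s_90_96 (c : Nat) : Nat := @Bool.rec (fun _ => Nat) (Atab_s_90_93 c) (Atab_s_93_96 c) (Nat.ble 93 c)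
noncomputable def Atab_s_84_96 (c : Nat) : Nat := @Bool.rec (fun _ => Nat) (Atab_s_84_90 c) (Atab_s_90_96 c) (Nat.ble 90 c)
noncomputable def Atab_s_72_96 (c : Nat) : Nat := @Bool.rec (fun _ => Nat) (Atab_s_72_84 c) (Atab_s_84_96 c) (Nat.ble 84 c)
noncomputable def Atab_s_48_96 (c : Nat) : Nat := @Bool.rec (fun _ => Nat) (Atab_s_48_72 c) (Atab_s_72_96 c) (Nat.ble 72 c)
noncomputable def Atab_s_0_96 (c : Nat) : Nat := @Bool.rec (fun _ => Nat) (Atab_s_0_48 c) (Atab_s_48_96 c) (Nat.ble 48 c)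
noncomputable def Atab_s_97_99 (c : Nat) : Nat := @Bool.rec (fun _ => Nat) (Atab_97) (Atab_98) (Nat.ble 98 c)
noncomputable def Atab_s_96_99 (c : Nat) : Nat := @Bool.rec (fun _ => Nat) (Atab_96) (Atab_s_97_99 c) (Nat.ble 97 c)
noncomputable def Atab_s_100_102 (c : Nat) : Nat := @Bool.rec (fun _ => Nat) (Atab_100) (Atab_101) (Nat.ble 101 c)
noncomputable def Atab_s_99_102 (c : Nat) : Nat := @Bool.rec (fun _ => Nat) (Atab_99) (Atab_s_100_102 c) (Nat.ble 100 c)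
noncomputable def Atab_s_96_102 (c : Nat) : Nat := @Bool.rec (fun _ => Nat) (Atab_s_96_99 c) (Atab_s_99_102 c) (Nat.ble 99 c)
noncomputable def Atab_s_103_105 (c : Nat) : Nat := @Bool.rec (fun _ => Nat) (Atab_103) (Atab_104) (Nat.ble 104 c)
noncomputable def Atab_s_102_105 (c : Nat) : Nat := @Bool.rec (fun _ => Nat) (Atab_102) (Atab_s_103_105 c) (Nat.ble 103 c)
noncomputable def Atab_s_106_108 (c : Nat) : Nat := @Bool.rec (fun _ => Nat) (Atab_106) (Atab_107) (Nat.ble 107 c)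
noncomputable def Atab_s_105_108 (c : Nat) : Nat := @Bool.rec (fun _ => Nat) (Atab_105) (Atab_s_106_108 c) (Nat.ble 106 c)
noncomputable def Atab_s_102_108 (c : Nat) : Nat := @Bool.rec (fun _ => Nat) (Atab_s_102_105 c) (Atab_s_105_108 c) (Nat.ble 105 c)
noncomputable def Atab_s_96_108 (c : Nat) : Nat := @Bool.rec (fun _ => Nat) (Atab_s_96_102 c) (Atab_s_102_108 c) (Nat.ble 102 c)
noncomputable def Atab_s_109_111 (c : Nat) : Nat := @Bool.rec (fun _ => Nat) (Atab_109) (Atab_110) (Nat.ble 110 c)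
noncomputable def Atab_s_108_111 (c : Nat) : Nat := @Bool.rec (fun _ => Nat) (Atab_108) (Atab_s_109_111 c) (Nat.ble 109 c)
noncomputable def Atab_s_112_114 (c : Nat) : Nat := @Bool.rec (fun _ => Nat) (Atab_112) (Atab_113) (Nat.ble 113 c)
noncomputable def Atab_s_111_114 (c : Nat) : Nat := @Bool.rec (fun _ => Nat) (Atab_111) (Atab_s_112_114 c) (Nat.ble 112 c)
noncomputable def Atab_s_108_114 (c : Nat) : Nat := @Bool.rec (fun _ => Nat) (Atab_s_108_111 c) (Atab_s_111_114 c) (Nat.ble 111 c)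
noncomputable def Atab_s_115_117 (c : Nat) : Nat := @Bool.rec (fun _ => Nat) (Atab_115) (Atab_116) (Nat.ble 116 c)
noncomputable def Atab_s_114_117 (c : Nat) : Nat := @Bool.rec (fun _ => Nat) (Atab_114) (Atab_s_115_117 c) (Nat.ble 115 c)
noncomputable def Atab_s_118_120 (c : Nat) : Nat := @Bool.rec (fun _ => Nat) (Atab_118) (Atab_119) (Nat.ble 119 c)
noncomputable def Atab_s_117_120 (c : Nat) : Nat := @Bool.rec (fun _ => Nat) (Atab_117) (Atab_s_118_120 c) (Nat.ble 118 c)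
noncomputable def Atab_s_114_120 (c : Nat) : Nat := @Bool.rec (fun _ => Nat) (Atab_s_114_117 c) (Atab_s_117_120 c) (Nat.ble 117 c)
noncomputable def Atab_s_108_120 (c : Nat) : Nat := @Bool.rec (fun _ => Nat) (Atab_s_108_114 c) (Atab_s_114_120 c) (Nat.ble 114 c)
noncomputable def Atab_s_96_120 (c : Nat) : Nat := @Bool.rec (fun _ => Nat) (Atab_s_96_108 c) (Atab_s_108_120 c) (Nat.ble 108 c)
noncomputable def Atab_s_121_123 (c : Nat) : Nat := @Bool.rec (fun _ => Nat) (Atab_121) (Atab_122) (Nat.ble 122 c)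
noncomputable def Atab_s_120_123 (c : Nat) : Nat := @Bool.rec (fun _ => Nat) (Atab_120) (Atab_s_121_123 c) (Nat.ble 121 c)
noncomputable def Atab_s_124_126 (c : Nat) : Nat := @Bool.rec (fun _ => Nat) (Atab_124) (Atab_125) (Nat.ble 125 c)
noncomputable def Atab_s_123_126 (c : Nat) : Nat := @Bool.rec (fun _ => Nat) (Atab_123) (Atab_s_124_126 c) (Nat.ble 124 c)
noncomputable def Atab_s_120_126 (c : Nat) : Nat := @Bool.rec (fun _ => Nat) (Atab_s_120_123 c) (Atab_s_123_126 c) (Nat.ble 123 c)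
noncomputable def Atab_s_127_129 (c : Nat) : Nat := @Bool.rec (fun _ => Nat) (Atab_127) (Atab_128) (Nat.ble 128 c)
noncomputable def Atab_s_126_129 (c : Nat) : Nat := @Bool.rec (fun _ => Nat) (Atab_126) (Atab_s_127_129 c) (Nat.ble 127 c)
noncomputable def Atab_s_130_132 (c : Nat) : Nat := @Bool.rec (fun _ => Nat) (Atab_130) (Atab_131) (Nat.ble 131 c)
noncomputable def Atab_s_129_132 (c : Nat) : Nat := @Bool.rec (fun _ => Nat) (Atab_129) (Atab_s_130_132 c) (Nat.ble 130 c)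
noncomputable def Atab_s_126_132 (c : Nat) : Nat := @Bool.rec (fun _ => Nat) (Atab_s_126_129 c) (Atab_s_129_132 c) (Nat.ble 129 c)
noncomputable def Atab_s_120_132 (c : Nat) : Nat := @Bool.rec (fun _ => Nat) (Atab_s_120_126 c) (Atab_s_126_132 c) (Nat.ble 126 c)
noncomputable def Atab_s_133_135 (c : Nat) : Nat := @Bool.rec (fun _ => Nat) (Atab_133) (Atab_134) (Nat.ble 134 c)
noncomputable def Atab_s_132_135 (c : Nat) : Nat := @Bool.rec (fun _ => Nat) (Atab_132) (Atab_s_133_135 c) (Nat.ble 133 c)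
noncomputable def Atab_s_136_138 (c : Nat) : Nat := @Bool.rec (fun _ => Nat) (Atab_136) (Atab_137) (Nat.ble 137 c)
noncomputable def Atab_s_135_138 (c : Nat) : Nat := @Bool.rec (fun _ => Nat) (Atab_135) (Atab_s_136_138 c) (Nat.ble 136 c)
noncomputable def Atab_s_132_138 (c : Nat) : Nat := @Bool.rec (fun _ => Nat) (Atab_s_132_135 c) (Atab_s_135_138 c) (Nat.ble 135 c)
noncomputable def Atab_s_139_141 (c : Nat) : Nat := @Bool.rec (fun _ => Nat) (Atab_139) (Atab_140) (Nat.ble 140 c)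
noncomputable def Atab_s_138_141 (c : Nat) : Nat := @Bool.rec (fun _ => Nat) (Atab_138) (Atab_s_139_141 c) (Nat.ble 139 c)
noncomputable def Atab_s_142_144 (c : Nat) : Nat := @Bool.rec (fun _ => Nat) (Atab_142) (Atab_143) (Nat.ble 143 c)
noncomputable def Atab_s_141_144 (c : Nat) : Nat := @Bool.rec (fun _ => Nat) (Atab_141) (Atab_s_142_144 c) (Nat.ble 142 c)
noncomputable def Atab_s_138_144 (c : Nat) : Nat := @Bool.rec (fun _ => Nat) (Atab_s_138_141 c) (Atab_s_141_144 c) (Nat.ble 141 c)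
noncomputable def Atab_s_132_144 (c : Nat) : Nat := @Bool.rec (fun _ => Nat) (Atab_s_132_138 c) (Atab_s_138_144 c) (Nat.ble 138 c)
noncomputable def Atab_s_120_144 (c : Nat) : Nat := @Bool.rec (fun _ => Nat) (Atab_s_120_132 c) (Atab_s_132_144 c) (Nat.ble 132 c)
noncomputable def Atab_s_96_144 (c : Nat) : Nat := @Bool.rec (fun _ => Nat) (Atab_s_96_120 c) (Atab_s_120_144 c) (Nat.ble 120 c)
noncomputable def Atab_s_145_147 (c : Nat) : Nat := @Bool.rec (fun _ => Nat) (Atab_145) (Atab_146) (Nat.ble 146 c)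
noncomputable def Atab_s_144_147 (c : Nat) : Nat := @Bool.rec (fun _ => Nat) (Atab_144) (Atab_s_145_147 c) (Nat.ble 145 c)
noncomputable def Atab_s_148_150 (c : Nat) : Nat := @Bool.rec (fun _ => Nat) (Atab_148) (Atab_149) (Nat.ble 149 c)
noncomputable def Atab_s_147_150 (c : Nat) : Nat := @Bool.rec (fun _ => Nat) (Atab_147) (Atab_s_148_150 c) (Nat.ble 148 c)
noncomputable def Atab_s_144_150 (c : Nat) : Nat := @Bool.rec (fun _ => Nat) (Atab_s_144_147 c) (Atab_s_147_150 c) (Nat.ble 147 c)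
noncomputable def Atab_s_151_153 (c : Nat) : Nat := @Bool.rec (fun _ => Nat) (Atab_151) (Atab_152) (Nat.ble 152 c)
noncomputable def Atab_s_150_153 (c : Nat) : Nat := @Bool.rec (fun _ => Nat) (Atab_150) (Atab_s_151_153 c) (Nat.ble 151 c)
noncomputable def Atab_s_154_156 (c : Nat) : Nat := @Bool.rec (fun _ => Nat) (Atab_154) (Atab_155) (Nat.ble 155 c)
noncomputable def Atab_s_153_156 (c : Nat) : Nat := @Bool.rec (fun _ => Nat) (Atab_153) (Atab_s_154_156 c) (Nat.ble 154 c)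
noncomputable def Atab_s_150_156 (c : Nat) : Nat := @Bool.rec (fun _ => Nat) (Atab_s_150_153 c) (Atab_s_153_156 c) (Nat.ble 153 c)
noncomputable def Atab_s_144_156 (c : Nat) : Nat := @Bool.rec (fun _ => Nat) (Atab_s_144_150 c) (Atab_s_150_156 c) (Nat.ble 150 c)
noncomputable def Atab_s_157_159 (c : Nat) : Nat := @Bool.rec (fun _ => Nat) (Atab_157) (Atab_158) (Nat.ble 158 c)
noncomputable def Atab_s_156_159 (c : Nat) : Nat := @Bool.rec (fun _ => Nat) (Atab_156) (Atab_s_157_159 c) (Nat.ble 157 c)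
noncomputable def Atab_s_160_162 (c : Nat) : Nat := @Bool.rec (fun _ => Nat) (Atab_160) (Atab_161) (Nat.ble 161 c)
noncomputable def Atab_s_159_162 (c : Nat) : Nat := @Bool.rec (fun _ => Nat) (Atab_159) (Atab_s_160_162 c) (Nat.ble 160 c)
noncomputable def Atab_s_156_162 (c : Nat) : Nat := @Bool.rec (fun _ => Nat) (Atab_s_156_159 c) (Atab_s_159_162 c) (Nat.ble 159 c)
noncomputable def Atab_s_163_165 (c : Nat) : Nat := @Bool.rec (fun _ => Nat) (Atab_163) (Atab_164) (Nat.ble 164 c)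
noncomputable def Atab_s_162_165 (c : Nat) : Nat := @Bool.rec (fun _ => Nat) (Atab_162) (Atab_s_163_165 c) (Nat.ble 163 c)
noncomputable def Atab_s_166_168 (c : Nat) : Nat := @Bool.rec (fun _ => Nat) (Atab_166) (Atab_167) (Nat.ble 167 c)
noncomputable def Atab_s_165_168 (c : Nat) : Nat := @Bool.rec (fun _ => Nat) (Atab_165) (Atab_s_166_168 c) (Nat.ble 166 c)
noncomputable def Atab_s_162_168 (c : Nat) : Nat := @Bool.rec (fun _ => Nat) (Atab_s_162_165 c) (Atab_s_165_168 c) (Nat.ble 165 c)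
noncomputable def Atab_s_156_168 (c : Nat) : Nat := @Bool.rec (fun _ => Nat) (Atab_s_156_162 c) (Atab_s_162_168 c) (Nat.ble 162 c)
noncomputable def Atab_s_144_168 (c : Nat) : Nat := @Bool.rec (fun _ => Nat) (Atab_s_144_156 c) (Atab_s_156_168 c) (Nat.ble 156 c)
noncomputable def Atab_s_169_171 (c : Nat) : Nat := @Bool.rec (fun _ => Nat) (Atab_169) (Atab_170) (Nat.ble 170 c)
noncomputable def Atab_s_168_171 (c : Nat) : Nat := @Bool.rec (fun _ => Nat) (Atab_168) (Atab_s_169_171 c) (Nat.ble 169 c)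
noncomputable def Atab_s_172_174 (c : Nat) : Nat := @Bool.rec (fun _ => Nat) (Atab_172) (Atab_173) (Nat.ble 173 c)
noncomputable def Atab_s_171_174 (c : Nat) : Nat := @Bool.rec (fun _ => Nat) (Atab_171) (Atab_s_172_174 c) (Nat.ble 172 c)
noncomputable def Atab_s_168_174 (c : Nat) : Nat := @Bool.rec (fun _ => Nat) (Atab_s_168_171 c) (Atab_s_171_174 c) (Nat.ble 171 c)
noncomputable def Atab_s_175_177 (c : Nat) : Nat := @Bool.rec (fun _ => Nat) (Atab_175) (Atab_176) (Nat.ble 176 c)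
noncomputable def Atab_s_174_177 (c : Nat) : Nat := @Bool.rec (fun _ => Nat) (Atab_174) (Atab_s_175_177 c) (Nat.ble 175 c)
noncomputable def Atab_s_178_180 (c : Nat) : Nat := @Bool.rec (fun _ => Nat) (Atab_178) (Atab_179) (Nat.ble 179 c)
noncomputable def Atab_s_177_180 (c : Nat) : Nat := @Bool.rec (fun _ => Nat) (Atab_177) (Atab_s_178_180 c) (Nat.ble 178 c)
noncomputable def Atab_s_174_180 (c : Nat) : Nat := @Bool.rec (fun _ => Nat) (Atab_s_174_177 c) (Atab_s_177_180 c) (Nat.ble 177 c)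
noncomputable def Atab_s_168_180 (c : Nat) : Nat := @Bool.rec (fun _ => Nat) (Atab_s_168_174 c) (Atab_s_174_180 c) (Nat.ble 174 c)
noncomputable def Atab_s_181_183 (c : Nat) : Nat := @Bool.rec (fun _ => Nat) (Atab_181) (Atab_182) (Nat.ble 182 c)
noncomputable def Atab_s_180_183 (c : Nat) : Nat := @Bool.rec (fun _ => Nat) (Atab_180) (Atab_s_181_183 c) (Nat.ble 181 c)
noncomputable def Atab_s_184_186 (c : Nat) : Nat := @Bool.rec (fun _ => Nat) (Atab_184) (Atab_185) (Nat.ble 185 c)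
noncomputable def Atab_s_183_186 (c : Nat) : Nat := @Bool.rec (fun _ => Nat) (Atab_183) (Atab_s_184_186 c) (Nat.ble 184 c)
noncomputable def Atab_s_180_186 (c : Nat) : Nat := @Bool.rec (fun _ => Nat) (Atab_s_180_183 c) (Atab_s_183_186 c) (Nat.ble 183 c)
noncomputable def Atab_s_187_189 (c : Nat) : Nat := @Bool.rec (fun _ => Nat) (Atab_187) (Atab_188) (Nat.ble 188 c)
noncomputable def Atab_s_186_189 (c : Nat) : Nat := @Bool.rec (fun _ => Nat) (Atab_186) (Atab_s_187_189 c) (Nat.ble 187 c)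
noncomputable def Atab_s_189_191 (c : Nat) : Nat := @Bool.rec (fun _ => Nat) (Atab_189) (Atab_190) (Nat.ble 190 c)
noncomputable def Atab_s_191_193 (c : Nat) : Nat := @Bool.rec (fun _ => Nat) (Atab_191) (Atab_192) (Nat.ble 192 c)
noncomputable def Atab_s_189_193 (c : Nat) : Nat := @Bool.rec (fun _ => Nat) (Atab_s_189_191 c) (Atab_s_191_193 c) (Nat.ble 191 c)
noncomputable def Atab_s_186_193 (c : Nat) : Nat := @Bool.rec (fun _ => Nat) (Atab_s_186_189 c) (Atab_s_189_193 c) (Nat.ble 189 c)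
noncomputable def Atab_s_180_193 (c : Nat) : Nat := @Bool.rec (fun _ => Nat) (Atab_s_180_186 c) (Atab_s_186_193 c) (Nat.ble 186 c)
noncomputable def Atab_s_168_193 (c : Nat) : Nat := @Bool.rec (fun _ => Nat) (Atab_s_168_180 c) (Atab_s_180_193 c) (Nat.ble 180 c)
noncomputable def Atab_s_144_193 (c : Nat) : Nat := @Bool.rec (fun _ => Nat) (Atab_s_144_168 c) (Atab_s_168_193 c) (Nat.ble 168 c)
noncomputable def Atab_s_96_193 (c : Nat) : Nat := @Bool.rec (fun _ => Nat) (Atab_s_96_144 c) (Atab_s_144_193 c) (Nat.ble 144 c)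
noncomputable def Atab_s_0_193 (c : Nat) : Nat := @Bool.rec (fun _ => Nat) (Atab_s_0_96 c) (Atab_s_96_193 c) (Nat.ble 96 c)
noncomputable def Atab_s_194_196 (c : Nat) : Nat := @Bool.rec (fun _ => Nat) (Atab_194) (Atab_195) (Nat.ble 195 c)
noncomputable def Atab_s_193_196 (c : Nat) : Nat := @Bool.rec (fun _ => Nat) (Atab_193) (Atab_s_194_196 c) (Nat.ble 194 c)
noncomputable def Atab_s_197_199 (c : Nat) : Nat := @Bool.rec (fun _ => Nat) (Atab_197) (Atab_198) (Nat.ble 198 c)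
noncomputable def Atab_s_196_199 (c : Nat) : Nat := @Bool.rec (fun _ => Nat) (Atab_196) (Atab_s_197_199 c) (Nat.ble 197 c)
noncomputable def Atab_s_193_199 (c : Nat) : Nat := @Bool.rec (fun _ => Nat) (Atab_s_193_196 c) (Atab_s_196_199 c) (Nat.ble 196 c)
noncomputable def Atab_s_200_202 (c : Nat) : Nat := @Bool.rec (fun _ => Nat) (Atab_200) (Atab_201) (Nat.ble 201 c)
noncomputable def Atab_s_199_202 (c : Nat) : Nat := @Bool.rec (fun _ => Nat) (Atab_199) (Atab_s_200_202 c) (Nat.ble 200 c)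
noncomputable def Atab_s_203_205 (c : Nat) : Nat := @Bool.rec (fun _ => Nat) (Atab_203) (Atab_204) (Nat.ble 204 c)
noncomputable def Atab_s_202_205 (c : Nat) : Nat := @Bool.rec (fun _ => Nat) (Atab_202) (Atab_s_203_205 c) (Nat.ble 203 c)
noncomputable def Atab_s_199_205 (c : Nat) : Nat := @Bool.rec (fun _ => Nat) (Atab_s_199_202 c) (Atab_s_202_205 c) (Nat.ble 202 c)
noncomputable def Atab_s_193_205 (c : Nat) : Nat := @Bool.rec (fun _ => Nat) (Atab_s_193_199 c) (Atab_s_199_205 c) (Nat.ble 199 c)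
noncomputable def Atab_s_206_208 (c : Nat) : Nat := @Bool.rec (fun _ => Nat) (Atab_206) (Atab_207) (Nat.ble 207 c)
noncomputable def Atab_s_205_208 (c : Nat) : Nat := @Bool.rec (fun _ => Nat) (Atab_205) (Atab_s_206_208 c) (Nat.ble 206 c)
noncomputable def Atab_s_209_211 (c : Nat) : Nat := @Bool.rec (fun _ => Nat) (Atab_209) (Atab_210) (Nat.ble 210 c)
noncomputable def Atab_s_208_211 (c : Nat) : Nat := @Bool.rec (fun _ => Nat) (Atab_208) (Atab_s_209_211 c) (Nat.ble 209 c)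
noncomputable def Atab_s_205_211 (c : Nat) : Nat := @Bool.rec (fun _ => Nat) (Atab_s_205_208 c) (Atab_s_208_211 c) (Nat.ble 208 c)
noncomputable def Atab_s_212_214 (c : Nat) : Nat := @Bool.rec (fun _ => Nat) (Atab_212) (Atab_213) (Nat.ble 213 c)
noncomputable def Atab_s_211_214 (c : Nat) : Nat := @Bool.rec (fun _ => Nat) (Atab_211) (Atab_s_212_214 c) (Nat.ble 212 c)
noncomputable def Atab_s_215_217 (c : Nat) : Nat := @Bool.rec (fun _ => Nat) (Atab_215) (Atab_216) (Nat.ble 216 c)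
noncomputable def Atab_s_214_217 (c : Nat) : Nat := @Bool.rec (fun _ => Nat) (Atab_214) (Atab_s_215_217 c) (Nat.ble 215 c)
noncomputable def Atab_s_211_217 (c : Nat) : Nat := @Bool.rec (fun _ => Nat) (Atab_s_211_214 c) (Atab_s_214_217 c) (Nat.ble 214 c)
noncomputable def Atab_s_205_217 (c : Nat) : Nat := @Bool.rec (fun _ => Nat) (Atab_s_205_211 c) (Atab_s_211_217 c) (Nat.ble 211 c)
noncomputable def Atab_s_193_217 (c : Nat) : Nat := @Bool.rec (fun _ => Nat) (Atab_s_193_205 c) (Atab_s_205_217 c) (Nat.ble 205 c)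
noncomputable def Atab_s_218_220 (c : Nat) : Nat := @Bool.rec (fun _ => Nat) (Atab_218) (Atab_219) (Nat.ble 219 c)
noncomputable def Atab_s_217_220 (c : Nat) : Nat := @Bool.rec (fun _ => Nat) (Atab_217) (Atab_s_218_220 c) (Nat.ble 218 c)
noncomputable def Atab_s_221_223 (c : Nat) : Nat := @Bool.rec (fun _ => Nat) (Atab_221) (Atab_222) (Nat.ble 222 c)
noncomputable def Atab_s_220_223 (c : Nat) : Nat := @Bool.rec (fun _ => Nat) (Atab_220) (Atab_s_221_223 c) (Nat.ble 221 c)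
noncomputable def Atab_s_217_223 (c : Nat) : Nat := @Bool.rec (fun _ => Nat) (Atab_s_217_220 c) (Atab_s_220_223 c) (Nat.ble 220 c)
noncomputable def Atab_s_224_226 (c : Nat) : Nat := @Bool.rec (fun _ => Nat) (Atab_224) (Atab_225) (Nat.ble 225 c)
noncomputable def Atab_s_223_226 (c : Nat) : Nat := @Bool.rec (fun _ => Nat) (Atab_223) (Atab_s_224_226 c) (Nat.ble 224 c)
noncomputable def Atab_s_227_229 (c : Nat) : Nat := @Bool.rec (fun _ => Nat) (Atab_227) (Atab_228) (Nat.ble 228 c)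
noncomputable def Atab_s_226_229 (c : Nat) : Nat := @Bool.rec (fun _ => Nat) (Atab_226) (Atab_s_227_229 c) (Nat.ble 227 c)
noncomputable def Atab_s_223_229 (c : Nat) : Nat := @Bool.rec (fun _ => Nat) (Atab_s_223_226 c) (Atab_s_226_229 c) (Nat.ble 226 c)
noncomputable def Atab_s_217_229 (c : Nat) : Nat := @Bool.rec (fun _ => Nat) (Atab_s_217_223 c) (Atab_s_223_229 c) (Nat.ble 223 c)
noncomputable def Atab_s_230_232 (c : Nat) : Nat := @Bool.rec (fun _ => Nat) (Atab_230) (Atab_231) (Nat.ble 231 c)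
noncomputable def Atab_s_229_232 (c : Nat) : Nat := @Bool.rec (fun _ => Nat) (Atab_229) (Atab_s_230_232 c) (Nat.ble 230 c)
noncomputable def Atab_s_233_235 (c : Nat) : Nat := @Bool.rec (fun _ => Nat) (Atab_233) (Atab_234) (Nat.ble 234 c)
noncomputable def Atab_s_232_235 (c : Nat) : Nat := @Bool.rec (fun _ => Nat) (Atab_232) (Atab_s_233_235 c) (Nat.ble 233 c)
noncomputable def Atab_s_229_235 (c : Nat) : Nat := @Bool.rec (fun _ => Nat) (Atab_s_229_232 c) (Atab_s_232_235 c) (Nat.ble 232 c)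
noncomputable def Atab_s_236_238 (c : Nat) : Nat := @Bool.rec (fun _ => Nat) (Atab_236) (Atab_237) (Nat.ble 237 c)
noncomputable def Atab_s_235_238 (c : Nat) : Nat := @Bool.rec (fun _ => Nat) (Atab_235) (Atab_s_236_238 c) (Nat.ble 236 c)
noncomputable def Atab_s_239_241 (c : Nat) : Nat := @Bool.rec (fun _ => Nat) (Atab_239) (Atab_240) (Nat.ble 240 c)
noncomputable def Atab_s_238_241 (c : Nat) : Nat := @Bool.rec (fun _ => Nat) (Atab_238) (Atab_s_239_241 c) (Nat.ble 239 c)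
noncomputable def Atab_s_235_241 (c : Nat) : Nat := @Bool.rec (fun _ => Nat) (Atab_s_235_238 c) (Atab_s_238_241 c) (Nat.ble 238 c)
noncomputable def Atab_s_229_241 (c : Nat) : Nat := @Bool.rec (fun _ => Nat) (Atab_s_229_235 c) (Atab_s_235_241 c) (Nat.ble 235 c)
noncomputable def Atab_s_217_241 (c : Nat) : Nat := @Bool.rec (fun _ => Nat) (Atab_s_217_229 c) (Atab_s_229_241 c) (Nat.ble 229 c)
noncomputable def Atab_s_193_241 (c : Nat) : Nat := @Bool.rec (fun _ => Nat) (Atab_s_193_217 c) (Atab_s_217_241 c) (Nat.ble 217 c)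
noncomputable def Atab_s_242_244 (c : Nat) : Nat := @Bool.rec (fun _ => Nat) (Atab_242) (Atab_243) (Nat.ble 243 c)
noncomputable def Atab_s_241_244 (c : Nat) : Nat := @Bool.rec (fun _ => Nat) (Atab_241) (Atab_s_242_244 c) (Nat.ble 242 c)
noncomputable def Atab_s_245_247 (c : Nat) : Nat := @Bool.rec (fun _ => Nat) (Atab_245) (Atab_246) (Nat.ble 246 c)
noncomputable def Atab_s_244_247 (c : Nat) : Nat := @Bool.rec (fun _ => Nat) (Atab_244) (Atab_s_245_247 c) (Nat.ble 245 c)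
noncomputable def Atab_s_241_247 (c : Nat) : Nat := @Bool.rec (fun _ => Nat) (Atab_s_241_244 c) (Atab_s_244_247 c) (Nat.ble 244 c)
noncomputable def Atab_s_248_250 (c : Nat) : Nat := @Bool.rec (fun _ => Nat) (Atab_248) (Atab_249) (Nat.ble 249 c)
noncomputable def Atab_s_247_250 (c : Nat) : Nat := @Bool.rec (fun _ => Nat) (Atab_247) (Atab_s_248_250 c) (Nat.ble 248 c)
noncomputable def Atab_s_251_253 (c : Nat) : Nat := @Bool.rec (fun _ => Nat) (Atab_251) (Atab_252) (Nat.ble 252 c)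
noncomputable def Atab_s_250_253 (c : Nat) : Nat := @Bool.rec (fun _ => Nat) (Atab_250) (Atab_s_251_253 c) (Nat.ble 251 c)
noncomputable def Atab_s_247_253 (c : Nat) : Nat := @Bool.rec (fun _ => Nat) (Atab_s_247_250 c) (Atab_s_250_253 c) (Nat.ble 250 c)
noncomputable def Atab_s_241_253 (c : Nat) : Nat := @Bool.rec (fun _ => Nat) (Atab_s_241_247 c) (Atab_s_247_253 c) (Nat.ble 247 c)
noncomputable def Atab_s_254_256 (c : Nat) : Nat := @Bool.rec (fun _ => Nat) (Atab_254) (Atab_255) (Nat.ble 255 c)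
noncomputable def Atab_s_253_256 (c : Nat) : Nat := @Bool.rec (fun _ => Nat) (Atab_253) (Atab_s_254_256 c) (Nat.ble 254 c)
noncomputable def Atab_s_257_259 (c : Nat) : Nat := @Bool.rec (fun _ => Nat) (Atab_257) (Atab_258) (Nat.ble 258 c)
noncomputable def Atab_s_256_259 (c : Nat) : Nat := @Bool.rec (fun _ => Nat) (Atab_256) (Atab_s_257_259 c) (Nat.ble 257 c)
noncomputable def Atab_s_253_259 (c : Nat) : Nat := @Bool.rec (fun _ => Nat) (Atab_s_253_256 c) (Atab_s_256_259 c) (Nat.ble 256 c)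
noncomputable def Atab_s_260_262 (c : Nat) : Nat := @Bool.rec (fun _ => Nat) (Atab_260) (Atab_261) (Nat.ble 261 c)
noncomputable def Atab_s_259_262 (c : Nat) : Nat := @Bool.rec (fun _ => Nat) (Atab_259) (Atab_s_260_262 c) (Nat.ble 260 c)
noncomputable def Atab_s_263_265 (c : Nat) : Nat := @Bool.rec (fun _ => Nat) (Atab_263) (Atab_264) (Nat.ble 264 c)
noncomputable def Atab_s_262_265 (c : Nat) : Nat := @Bool.rec (fun _ => Nat) (Atab_262) (Atab_s_263_265 c) (Nat.ble 263 c)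
noncomputable def Atab_s_259_265 (c : Nat) : Nat := @Bool.rec (fun _ => Nat) (Atab_s_259_262 c) (Atab_s_262_265 c) (Nat.ble 262 c)
noncomputable def Atab_s_253_265 (c : Nat) : Nat := @Bool.rec (fun _ => Nat) (Atab_s_253_259 c) (Atab_s_259_265 c) (Nat.ble 259 c)
noncomputable def Atab_s_241_265 (c : Nat) : Nat := @Bool.rec (fun _ => Nat) (Atab_s_241_253 c) (Atab_s_253_265 c) (Nat.ble 253 c)
noncomputable def Atab_s_266_268 (c : Nat) : Nat := @Bool.rec (fun _ => Nat) (Atab_266) (Atab_267) (Nat.ble 267 c)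
noncomputable def Atab_s_265_268 (c : Nat) : Nat := @Bool.rec (fun _ => Nat) (Atab_265) (Atab_s_266_268 c) (Nat.ble 266 c)
noncomputable def Atab_s_269_271 (c : Nat) : Nat := @Bool.rec (fun _ => Nat) (Atab_269) (Atab_270) (Nat.ble 270 c)
noncomputable def Atab_s_268_271 (c : Nat) : Nat := @Bool.rec (fun _ => Nat) (Atab_268) (Atab_s_269_271 c) (Nat.ble 269 c)
noncomputable def Atab_s_265_271 (c : Nat) : Nat := @Bool.rec (fun _ => Nat) (Atab_s_265_268 c) (Atab_s_268_271 c) (Nat.ble 268 c)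
noncomputable def Atab_s_272_274 (c : Nat) : Nat := @Bool.rec (fun _ => Nat) (Atab_272) (Atab_273) (Nat.ble 273 c)
noncomputable def Atab_s_271_274 (c : Nat) : Nat := @Bool.rec (fun _ => Nat) (Atab_271) (Atab_s_272_274 c) (Nat.ble 272 c)
noncomputable def Atab_s_275_277 (c : Nat) : Nat := @Bool.rec (fun _ => Nat) (Atab_275) (Atab_276) (Nat.ble 276 c)
noncomputable def Atab_s_274_277 (c : Nat) : Nat := @Bool.rec (fun _ => Nat) (Atab_274) (Atab_s_275_277 c) (Nat.ble 275 c)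
noncomputable def Atab_s_271_277 (c : Nat) : Nat := @Bool.rec (fun _ => Nat) (Atab_s_271_274 c) (Atab_s_274_277 c) (Nat.ble 274 c)
noncomputable def Atab_s_265_277 (c : Nat) : Nat := @Bool.rec (fun _ => Nat) (Atab_s_265_271 c) (Atab_s_271_277 c) (Nat.ble 271 c)
noncomputable def Atab_s_278_280 (c : Nat) : Nat := @Bool.rec (fun _ => Nat) (Atab_278) (Atab_279) (Nat.ble 279 c)
noncomputable def Atab_s_277_280 (c : Nat) : Nat := @Bool.rec (fun _ => Nat) (Atab_277) (Atab_s_278_280 c) (Nat.ble 278 c)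
noncomputable def Atab_s_281_283 (c : Nat) : Nat := @Bool.rec (fun _ => Nat) (Atab_281) (Atab_282) (Nat.ble 282 c)
noncomputable def Atab_s_280_283 (c : Nat) : Nat := @Bool.rec (fun _ => Nat) (Atab_280) (Atab_s_281_283 c) (Nat.ble 281 c)
noncomputable def Atab_s_277_283 (c : Nat) : Nat := @Bool.rec (fun _ => Nat) (Atab_s_277_280 c) (Atab_s_280_283 c) (Nat.ble 280 c)
noncomputable def Atab_s_284_286 (c : Nat) : Nat := @Bool.rec (fun _ => Nat) (Atab_284) (Atab_285) (Nat.ble 285 c)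
noncomputable def Atab_s_283_286 (c : Nat) : Nat := @Bool.rec (fun _ => Nat) (Atab_283) (Atab_s_284_286 c) (Nat.ble 284 c)
noncomputable def Atab_s_286_288 (c : Nat) : Nat := @Bool.rec (fun _ => Nat) (Atab_286) (Atab_287) (Nat.ble 287 c)
noncomputable def Atab_s_288_290 (c : Nat) : Nat := @Bool.rec (fun _ => Nat) (Atab_288) (Atab_289) (Nat.ble 289 c)
noncomputable def Atab_s_286_290 (c : Nat) : Nat := @Bool.rec (fun _ => Nat) (Atab_s_286_288 c) (Atab_s_288_290 c) (Nat.ble 288 c)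
noncomputable def Atab_s_283_290 (c : Nat) : Nat := @Bool.rec (fun _ => Nat) (Atab_s_283_286 c) (Atab_s_286_290 c) (Nat.ble 286 c)
noncomputable def Atab_s_277_290 (c : Nat) : Nat := @Bool.rec (fun _ => Nat) (Atab_s_277_283 c) (Atab_s_283_290 c) (Nat.ble 283 c)
noncomputable def Atab_s_265_290 (c : Nat) : Nat := @Bool.rec (fun _ => Nat) (Atab_s_265_277 c) (Atab_s_277_290 c) (Nat.ble 277 c)
noncomputable def Atab_s_241_290 (c : Nat) : Nat := @Bool.rec (fun _ => Nat) (Atab_s_241_265 c) (Atab_s_265_290 c) (Nat.ble 265 c)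
noncomputable def Atab_s_193_290 (c : Nat) : Nat := @Bool.rec (fun _ => Nat) (Atab_s_193_241 c) (Atab_s_241_290 c) (Nat.ble 241 c)
noncomputable def Atab_s_291_293 (c : Nat) : Nat := @Bool.rec (fun _ => Nat) (Atab_291) (Atab_292) (Nat.ble 292 c)
noncomputable def Atab_s_290_293 (c : Nat) : Nat := @Bool.rec (fun _ => Nat) (Atab_290) (Atab_s_291_293 c) (Nat.ble 291 c)
noncomputable def Atab_s_294_296 (c : Nat) : Nat := @Bool.rec (fun _ => Nat) (Atab_294) (Atab_295) (Nat.ble 295 c)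
noncomputable def Atab_s_293_296 (c : Nat) : Nat := @Bool.rec (fun _ => Nat) (Atab_293) (Atab_s_294_296 c) (Nat.ble 294 c)
noncomputable def Atab_s_290_296 (c : Nat) : Nat := @Bool.rec (fun _ => Nat) (Atab_s_290_293 c) (Atab_s_293_296 c) (Nat.ble 293 c)
noncomputable def Atab_s_297_299 (c : Nat) : Nat := @Bool.rec (fun _ => Nat) (Atab_297) (Atab_298) (Nat.ble 298 c)
noncomputable def Atab_s_296_299 (c : Nat) : Nat := @Bool.rec (fun _ => Nat) (Atab_296) (Atab_s_297_299 c) (Nat.ble 297 c)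
noncomputable def Atab_s_300_302 (c : Nat) : Nat := @Bool.rec (fun _ => Nat) (Atab_300) (Atab_301) (Nat.ble 301 c)
noncomputable def Atab_s_299_302 (c : Nat) : Nat := @Bool.rec (fun _ => Nat) (Atab_299) (Atab_s_300_302 c) (Nat.ble 300 c)
noncomputable def Atab_s_296_302 (c : Nat) : Nat := @Bool.rec (fun _ => Nat) (Atab_s_296_299 c) (Atab_s_299_302 c) (Nat.ble 299 c)
noncomputable def Atab_s_290_302 (c : Nat) : Nat := @Bool.rec (fun _ => Nat) (Atab_s_290_296 c) (Atab_s_296_302 c) (Nat.ble 296 c)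
noncomputable def Atab_s_303_305 (c : Nat) : Nat := @Bool.rec (fun _ => Nat) (Atab_303) (Atab_304) (Nat.ble 304 c)
noncomputable def Atab_s_302_305 (c : Nat) : Nat := @Bool.rec (fun _ => Nat) (Atab_302) (Atab_s_303_305 c) (Nat.ble 303 c)
noncomputable def Atab_s_306_308 (c : Nat) : Nat := @Bool.rec (fun _ => Nat) (Atab_306) (Atab_307) (Nat.ble 307 c)
noncomputable def Atab_s_305_308 (c : Nat) : Nat := @Bool.rec (fun _ => Nat) (Atab_305) (Atab_s_306_308 c) (Nat.ble 306 c)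
noncomputable def Atab_s_302_308 (c : Nat) : Nat := @Bool.rec (fun _ => Nat) (Atab_s_302_305 c) (Atab_s_305_308 c) (Nat.ble 305 c)
noncomputable def Atab_s_309_311 (c : Nat) : Nat := @Bool.rec (fun _ => Nat) (Atab_309) (Atab_310) (Nat.ble 310 c)
noncomputable def Atab_s_308_311 (c : Nat) : Nat := @Bool.rec (fun _ => Nat) (Atab_308) (Atab_s_309_311 c) (Nat.ble 309 c)
noncomputable def Atab_s_312_314 (c : Nat) : Nat := @Bool.rec (fun _ => Nat) (Atab_312) (Atab_313) (Nat.ble 313 c)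
noncomputable def Atab_s_311_314 (c : Nat) : Nat := @Bool.rec (fun _ => Nat) (Atab_311) (Atab_s_312_314 c) (Nat.ble 312 c)
noncomputable def Atab_s_308_314 (c : Nat) : Nat := @Bool.rec (fun _ => Nat) (Atab_s_308_311 c) (Atab_s_311_314 c) (Nat.ble 311 c)
noncomputable def Atab_s_302_314 (c : Nat) : Nat := @Bool.rec (fun _ => Nat) (Atab_s_302_308 c) (Atab_s_308_314 c) (Nat.ble 308 c)
noncomputable def Atab_s_290_314 (c : Nat) : Nat := @Bool.rec (fun _ => Nat) (Atab_s_290_302 c) (Atab_s_302_314 c) (Nat.ble 302 c)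
noncomputable def Atab_s_315_317 (c : Nat) : Nat := @Bool.rec (fun _ => Nat) (Atab_315) (Atab_316) (Nat.ble 316 c)
noncomputable def Atab_s_314_317 (c : Nat) : Nat := @Bool.rec (fun _ => Nat) (Atab_314) (Atab_s_315_317 c) (Nat.ble 315 c)
noncomputable def Atab_s_318_320 (c : Nat) : Nat := @Bool.rec (fun _ => Nat) (Atab_318) (Atab_319) (Nat.ble 319 c)
noncomputable def Atab_s_317_320 (c : Nat) : Nat := @Bool.rec (fun _ => Nat) (Atab_317) (Atab_s_318_320 c) (Nat.ble 318 c)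
noncomputable def Atab_s_314_320 (c : Nat) : Nat := @Bool.rec (fun _ => Nat) (Atab_s_314_317 c) (Atab_s_317_320 c) (Nat.ble 317 c)
noncomputable def Atab_s_321_323 (c : Nat) : Nat := @Bool.rec (fun _ => Nat) (Atab_321) (Atab_322) (Nat.ble 322 c)
noncomputable def Atab_s_320_323 (c : Nat) : Nat := @Bool.rec (fun _ => Nat) (Atab_320) (Atab_s_321_323 c) (Nat.ble 321 c)
noncomputable def Atab_s_324_326 (c : Nat) : Nat := @Bool.rec (fun _ => Nat) (Atab_324) (Atab_325) (Nat.ble 325 c)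
noncomputable def Atab_s_323_326 (c : Nat) : Nat := @Bool.rec (fun _ => Nat) (Atab_323) (Atab_s_324_326 c) (Nat.ble 324 c)
noncomputable def Atab_s_320_326 (c : Nat) : Nat := @Bool.rec (fun _ => Nat) (Atab_s_320_323 c) (Atab_s_323_326 c) (Nat.ble 323 c)
noncomputable def Atab_s_314_326 (c : Nat) : Nat := @Bool.rec (fun _ => Nat) (Atab_s_314_320 c) (Atab_s_320_326 c) (Nat.ble 320 c)
noncomputable def Atab_s_327_329 (c : Nat) : Nat := @Bool.rec (fun _ => Nat) (Atab_327) (Atab_328) (Nat.ble 328 c)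
noncomputable def Atab_s_326_329 (c : Nat) : Nat := @Bool.rec (fun _ => Nat) (Atab_326) (Atab_s_327_329 c) (Nat.ble 327 c)
noncomputable def Atab_s_330_332 (c : Nat) : Nat := @Bool.rec (fun _ => Nat) (Atab_330) (Atab_331) (Nat.ble 331 c)
noncomputable def Atab_s_329_332 (c : Nat) : Nat := @Bool.rec (fun _ => Nat) (Atab_329) (Atab_s_330_332 c) (Nat.ble 330 c)
noncomputable def Atab_s_326_332 (c : Nat) : Nat := @Bool.rec (fun _ => Nat) (Atab_s_326_329 c) (Atab_s_329_332 c) (Nat.ble 329 c)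
noncomputable def Atab_s_333_335 (c : Nat) : Nat := @Bool.rec (fun _ => Nat) (Atab_333) (Atab_334) (Nat.ble 334 c)
noncomputable def Atab_s_332_335 (c : Nat) : Nat := @Bool.rec (fun _ => Nat) (Atab_332) (Atab_s_333_335 c) (Nat.ble 333 c)
noncomputable def Atab_s_336_338 (c : Nat) : Nat := @Bool.rec (fun _ => Nat) (Atab_336) (Atab_337) (Nat.ble 337 c)
noncomputable def Atab_s_335_338 (c : Nat) : Nat := @Bool.rec (fun _ => Nat) (Atab_335) (Atab_s_336_338 c) (Nat.ble 336 c)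
noncomputable def Atab_s_332_338 (c : Nat) : Nat := @Bool.rec (fun _ => Nat) (Atab_s_332_335 c) (Atab_s_335_338 c) (Nat.ble 335 c)
noncomputable def Atab_s_326_338 (c : Nat) : Nat := @Bool.rec (fun _ => Nat) (Atab_s_326_332 c) (Atab_s_332_338 c) (Nat.ble 332 c)
noncomputable def Atab_s_314_338 (c : Nat) : Nat := @Bool.rec (fun _ => Nat) (Atab_s_314_326 c) (Atab_s_326_338 c) (Nat.ble 326 c)
noncomputable def Atab_s_290_338 (c : Nat) : Nat := @Bool.rec (fun _ => Nat) (Atab_s_290_314 c) (Atab_s_314_338 c) (Nat.ble 314 c)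
noncomputable def Atab_s_339_341 (c : Nat) : Nat := @Bool.rec (fun _ => Nat) (Atab_339) (Atab_340) (Nat.ble 340 c)
noncomputable def Atab_s_338_341 (c : Nat) : Nat := @Bool.rec (fun _ => Nat) (Atab_338) (Atab_s_339_341 c) (Nat.ble 339 c)
noncomputable def Atab_s_342_344 (c : Nat) : Nat := @Bool.rec (fun _ => Nat) (Atab_342) (Atab_343) (Nat.ble 343 c)
noncomputable def Atab_s_341_344 (c : Nat) : Nat := @Bool.rec (fun _ => Nat) (Atab_341) (Atab_s_342_344 c) (Nat.ble 342 c)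
noncomputable def Atab_s_338_344 (c : Nat) : Nat := @Bool.rec (fun _ => Nat) (Atab_s_338_341 c) (Atab_s_341_344 c) (Nat.ble 341 c)
noncomputable def Atab_s_345_347 (c : Nat) : Nat := @Bool.rec (fun _ => Nat) (Atab_345) (Atab_346) (Nat.ble 346 c)
noncomputable def Atab_s_344_347 (c : Nat) : Nat := @Bool.rec (fun _ => Nat) (Atab_344) (Atab_s_345_347 c) (Nat.ble 345 c)
noncomputable def Atab_s_348_350 (c : Nat) : Nat := @Bool.rec (fun _ => Nat) (Atab_348) (Atab_349) (Nat.ble 349 c)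
noncomputable def Atab_s_347_350 (c : Nat) : Nat := @Bool.rec (fun _ => Nat) (Atab_347) (Atab_s_348_350 c) (Nat.ble 348 c)
noncomputable def Atab_s_344_350 (c : Nat) : Nat := @Bool.rec (fun _ => Nat) (Atab_s_344_347 c) (Atab_s_347_350 c) (Nat.ble 347 c)
noncomputable def Atab_s_338_350 (c : Nat) : Nat := @Bool.rec (fun _ => Nat) (Atab_s_338_344 c) (Atab_s_344_350 c) (Nat.ble 344 c)
noncomputable def Atab_s_351_353 (c : Nat) : Nat := @Bool.rec (fun _ => Nat) (Atab_351) (Atab_352) (Nat.ble 352 c)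
noncomputable def Atab_s_350_353 (c : Nat) : Nat := @Bool.rec (fun _ => Nat) (Atab_350) (Atab_s_351_353 c) (Nat.ble 351 c)
noncomputable def Atab_s_354_356 (c : Nat) : Nat := @Bool.rec (fun _ => Nat) (Atab_354) (Atab_355) (Nat.ble 355 c)
noncomputable def Atab_s_353_356 (c : Nat) : Nat := @Bool.rec (fun _ => Nat) (Atab_353) (Atab_s_354_356 c) (Nat.ble 354 c)
noncomputable def Atab_s_350_356 (c : Nat) : Nat := @Bool.rec (fun _ => Nat) (Atab_s_350_353 c) (Atab_s_353_356 c) (Nat.ble 353 c)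
noncomputable def Atab_s_357_359 (c : Nat) : Nat := @Bool.rec (fun _ => Nat) (Atab_357) (Atab_358) (Nat.ble 358 c)
noncomputable def Atab_s_356_359 (c : Nat) : Nat := @Bool.rec (fun _ => Nat) (Atab_356) (Atab_s_357_359 c) (Nat.ble 357 c)
noncomputable def Atab_s_360_362 (c : Nat) : Nat := @Bool.rec (fun _ => Nat) (Atab_360) (Atab_361) (Nat.ble 361 c)
noncomputable def Atab_s_359_362 (c : Nat) : Nat := @Bool.rec (fun _ => Nat) (Atab_359) (Atab_s_360_362 c) (Nat.ble 360 c)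
noncomputable def Atab_s_356_362 (c : Nat) : Nat := @Bool.rec (fun _ => Nat) (Atab_s_356_359 c) (Atab_s_359_362 c) (Nat.ble 359 c)
noncomputable def Atab_s_350_362 (c : Nat) : Nat := @Bool.rec (fun _ => Nat) (Atab_s_350_356 c) (Atab_s_356_362 c) (Nat.ble 356 c)
noncomputable def Atab_s_338_362 (c : Nat) : Nat := @Bool.rec (fun _ => Nat) (Atab_s_338_350 c) (Atab_s_350_362 c) (Nat.ble 350 c)
noncomputable def Atab_s_363_365 (c : Nat) : Nat := @Bool.rec (fun _ => Nat) (Atab_363) (Atab_364) (Nat.ble 364 c)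
noncomputable def Atab_s_362_365 (c : Nat) : Nat := @Bool.rec (fun _ => Nat) (Atab_362) (Atab_s_363_365 c) (Nat.ble 363 c)
noncomputable def Atab_s_366_368 (c : Nat) : Nat := @Bool.rec (fun _ => Nat) (Atab_366) (Atab_367) (Nat.ble 367 c)
noncomputable def Atab_s_365_368 (c : Nat) : Nat := @Bool.rec (fun _ => Nat) (Atab_365) (Atab_s_366_368 c) (Nat.ble 366 c)
noncomputable def Atab_s_362_368 (c : Nat) : Nat := @Bool.rec (fun _ => Nat) (Atab_s_362_365 c) (Atab_s_365_368 c) (Nat.ble 365 c)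
noncomputable def Atab_s_369_371 (c : Nat) : Nat := @Bool.rec (fun _ => Nat) (Atab_369) (Atab_370) (Nat.ble 370 c)
noncomputable def Atab_s_368_371 (c : Nat) : Nat := @Bool.rec (fun _ => Nat) (Atab_368) (Atab_s_369_371 c) (Nat.ble 369 c)
noncomputable def Atab_s_372_374 (c : Nat) : Nat := @Bool.rec (fun _ => Nat) (Atab_372) (Atab_373) (Nat.ble 373 c)
noncomputable def Atab_s_371_374 (c : Nat) : Nat := @Bool.rec (fun _ => Nat) (Atab_371) (Atab_s_372_374 c) (Nat.ble 372 c)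
noncomputable def Atab_s_368_374 (c : Nat) : Nat := @Bool.rec (fun _ => Nat) (Atab_s_368_371 c) (Atab_s_371_374 c) (Nat.ble 371 c)
noncomputable def Atab_s_362_374 (c : Nat) : Nat := @Bool.rec (fun _ => Nat) (Atab_s_362_368 c) (Atab_s_368_374 c) (Nat.ble 368 c)
noncomputable def Atab_s_375_377 (c : Nat) : Nat := @Bool.rec (fun _ => Nat) (Atab_375) (Atab_376) (Nat.ble 376 c)
noncomputable def Atab_s_374_377 (c : Nat) : Nat := @Bool.rec (fun _ => Nat) (Atab_374) (Atab_s_375_377 c) (Nat.ble 375 c)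
noncomputable def Atab_s_378_380 (c : Nat) : Nat := @Bool.rec (fun _ => Nat) (Atab_378) (Atab_379) (Nat.ble 379 c)
noncomputable def Atab_s_377_380 (c : Nat) : Nat := @Bool.rec (fun _ => Nat) (Atab_377) (Atab_s_378_380 c) (Nat.ble 378 c)
noncomputable def Atab_s_374_380 (c : Nat) : Nat := @Bool.rec (fun _ => Nat) (Atab_s_374_377 c) (Atab_s_377_380 c) (Nat.ble 377 c)
noncomputable def Atab_s_381_383 (c : Nat) : Nat := @Bool.rec (fun _ => Nat) (Atab_381) (Atab_382) (Nat.ble 382 c)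
noncomputable def Atab_s_380_383 (c : Nat) : Nat := @Bool.rec (fun _ => Nat) (Atab_380) (Atab_s_381_383 c) (Nat.ble 381 c)
noncomputable def Atab_s_383_385 (c : Nat) : Nat := @Bool.rec (fun _ => Nat) (Atab_383) (Atab_384) (Nat.ble 384 c)
noncomputable def Atab_s_385_387 (c : Nat) : Nat := @Bool.rec (fun _ => Nat) (Atab_385) (Atab_386) (Nat.ble 386 c)
noncomputable def Atab_s_383_387 (c : Nat) : Nat := @Bool.rec (fun _ => Nat) (Atab_s_383_385 c) (Atab_s_385_387 c) (Nat.ble 385 c)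
noncomputable def Atab_s_380_387 (c : Nat) : Nat := @Bool.rec (fun _ => Nat) (Atab_s_380_383 c) (Atab_s_383_387 c) (Nat.ble 383 c)
noncomputable def Atab_s_374_387 (c : Nat) : Nat := @Bool.rec (fun _ => Nat) (Atab_s_374_380 c) (Atab_s_380_387 c) (Nat.ble 380 c)
noncomputable def Atab_s_362_387 (c : Nat) : Nat := @Bool.rec (fun _ => Nat) (Atab_s_362_374 c) (Atab_s_374_387 c) (Nat.ble 374 c)
noncomputable def Atab_s_338_387 (c : Nat) : Nat := @Bool.rec (fun _ => Nat) (Atab_s_338_362 c) (Atab_s_362_387 c) (Nat.ble 362 c)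
noncomputable def Atab_s_290_387 (c : Nat) : Nat := @Bool.rec (fun _ => Nat) (Atab_s_290_338 c) (Atab_s_338_387 c) (Nat.ble 338 c)
noncomputable def Atab_s_193_387 (c : Nat) : Nat := @Bool.rec (fun _ => Nat) (Atab_s_193_290 c) (Atab_s_290_387 c) (Nat.ble 290 c)
noncomputable def Atab_s_0_387 (c : Nat) : Nat := @Bool.rec (fun _ => Nat) (Atab_s_0_193 c) (Atab_s_193_387 c) (Nat.ble 193 c)
noncomputable def Atab (i : Nat) : Nat := rdw 42 4398046511103 (Atab_s_0_387 (Nat.shiftRight i 11)) (Nat.land i 2047)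
noncomputable def Btab_s_0_2 (c : Nat) : Nat := @Bool.rec (fun _ => Nat) (Btab_0) (Btab_1) (Nat.ble 1 c)
noncomputable def Btab_s_2_4 (c : Nat) : Nat := @Bool.rec (fun _ => Nat) (Btab_2) (Btab_3) (Nat.ble 3 c)
noncomputable def Btab_s_0_4 (c : Nat) : Nat := @Bool.rec (fun _ => Nat) (Btab_s_0_2 c) (Btab_s_2_4 c) (Nat.ble 2 c)
noncomputable def Btab_s_4_6 (c : Nat) : Nat := @Bool.rec (fun _ => Nat) (Btab_4) (Btab_5) (Nat.ble 5 c)
noncomputable def Btab_s_6_8 (c : Nat) : Nat := @Bool.rec (fun _ => Nat) (Btab_6) (Btab_7) (Nat.ble 7 c)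
noncomputable def Btab_s_4_8 (c : Nat) : Nat := @Bool.rec (fun _ => Nat) (Btab_s_4_6 c) (Btab_s_6_8 c) (Nat.ble 6 c)
noncomputable def Btab_s_0_8 (c : Nat) : Nat := @Bool.rec (fun _ => Nat) (Btab_s_0_4 c) (Btab_s_4_8 c) (Nat.ble 4 c)
noncomputable def Btab_s_8_10 (c : Nat) : Nat := @Bool.rec (fun _ => Nat) (Btab_8) (Btab_9) (Nat.ble 9 c)
noncomputable def Btab_s_10_12 (c : Nat) : Nat := @Bool.rec (fun _ => Nat) (Btab_10) (Btab_11) (Nat.ble 11 c)
noncomputable def Btab_s_8_12 (c : Nat) : Nat := @Bool.rec (fun _ => Nat) (Btab_s_8_10 c) (Btab_s_10_12 c) (Nat.ble 10 c)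
noncomputable def Btab_s_12_14 (c : Nat) : Nat := @Bool.rec (fun _ => Nat) (Btab_12) (Btab_13) (Nat.ble 13 c)
noncomputable def Btab_s_14_16 (c : Nat) : Nat := @Bool.rec (fun _ => Nat) (Btab_14) (Btab_15) (Nat.ble 15 c)
noncomputable def Btab_s_12_16 (c : Nat) : Nat := @Bool.rec (fun _ => Nat) (Btab_s_12_14 c) (Btab_s_14_16 c) (Nat.ble 14 c)
noncomputable def Btab_s_8_16 (c : Nat) : Nat := @Bool.rec (fun _ => Nat) (Btab_s_8_12 c) (Btab_s_12_16 c) (Nat.ble 12 c)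
noncomputable def Btab_s_0_16 (c : Nat) : Nat := @Bool.rec (fun _ => Nat) (Btab_s_0_8 c) (Btab_s_8_16 c) (Nat.ble 8 c)
noncomputable def Btab_s_16_18 (c : Nat) : Nat := @Bool.rec (fun _ => Nat) (Btab_16) (Btab_17) (Nat.ble 17 c)
noncomputable def Btab_s_18_20 (c : Nat) : Nat := @Bool.rec (fun _ => Nat) (Btab_18) (Btab_19) (Nat.ble 19 c)
noncomputable def Btab_s_16_20 (c : Nat) : Nat := @Bool.rec (fun _ => Nat) (Btab_s_16_18 c) (Btab_s_18_20 c) (Nat.ble 18 c)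
noncomputable def Btab_s_20_22 (c : Nat) : Nat := @Bool.rec (fun _ => Nat) (Btab_20) (Btab_21) (Nat.ble 21 c)
noncomputable def Btab_s_22_24 (c : Nat) : Nat := @Bool.rec (fun _ => Nat) (Btab_22) (Btab_23) (Nat.ble 23 c)
noncomputable def Btab_s_20_24 (c : Nat) : Nat := @Bool.rec (fun _ => Nat) (Btab_s_20_22 c) (Btab_s_22_24 c) (Nat.ble 22 c)
noncomputable def Btab_s_16_24 (c : Nat) : Nat := @Bool.rec (fun _ => Nat) (Btab_s_16_20 c) (Btab_s_20_24 c) (Nat.ble 20 c)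
noncomputable def Btab_s_24_26 (c : Nat) : Nat := @Bool.rec (fun _ => Nat) (Btab_24) (Btab_25) (Nat.ble 25 c)
noncomputable def Btab_s_26_28 (c : Nat) : Nat := @Bool.rec (fun _ => Nat) (Btab_26) (Btab_27) (Nat.ble 27 c)
noncomputable def Btab_s_24_28 (c : Nat) : Nat := @Bool.rec (fun _ => Nat) (Btab_s_24_26 c) (Btab_s_26_28 c) (Nat.ble 26 c)
noncomputable def Btab_s_28_30 (c : Nat) : Nat := @Bool.rec (fun _ => Nat) (Btab_28) (Btab_29) (Nat.ble 29 c)
noncomputable def Btab_s_31_33 (c : Nat) : Nat := @Bool.rec (fun _ => Nat) (Btab_31) (Btab_32) (Nat.ble 32 c)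
noncomputable def Btab_s_30_33 (c : Nat) : Nat := @Bool.rec (fun _ => Nat) (Btab_30) (Btab_s_31_33 c) (Nat.ble 31 c)
noncomputable def Btab_s_28_33 (c : Nat) : Nat := @Bool.rec (fun _ => Nat) (Btab_s_28_30 c) (Btab_s_30_33 c) (Nat.ble 30 c)
noncomputable def Btab_s_24_33 (c : Nat) : Nat := @Bool.rec (fun _ => Nat) (Btab_s_24_28 c) (Btab_s_28_33 c) (Nat.ble 28 c)
noncomputable def Btab_s_16_33 (c : Nat) : Nat := @Bool.rec (fun _ => Nat) (Btab_s_16_24 c) (Btab_s_24_33 c) (Nat.ble 24 c)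
noncomputable def Btab_s_0_33 (c : Nat) : Nat := @Bool.rec (fun _ => Nat) (Btab_s_0_16 c) (Btab_s_16_33 c) (Nat.ble 16 c)
noncomputable def Btab_s_33_35 (c : Nat) : Nat := @Bool.rec (fun _ => Nat) (Btab_33) (Btab_34) (Nat.ble 34 c)
noncomputable def Btab_s_35_37 (c : Nat) : Nat := @Bool.rec (fun _ => Nat) (Btab_35) (Btab_36) (Nat.ble 36 c)
noncomputable def Btab_s_33_37 (c : Nat) : Nat := @Bool.rec (fun _ => Nat) (Btab_s_33_35 c) (Btab_s_35_37 c) (Nat.ble 35 c)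
noncomputable def Btab_s_37_39 (c : Nat) : Nat := @Bool.rec (fun _ => Nat) (Btab_37) (Btab_38) (Nat.ble 38 c)
noncomputable def Btab_s_39_41 (c : Nat) : Nat := @Bool.rec (fun _ => Nat) (Btab_39) (Btab_40) (Nat.ble 40 c)
noncomputable def Btab_s_37_41 (c : Nat) : Nat := @Bool.rec (fun _ => Nat) (Btab_s_37_39 c) (Btab_s_39_41 c) (Nat.ble 39 c)
noncomputable def Btab_s_33_41 (c : Nat) : Nat := @Bool.rec (fun _ => Nat) (Btab_s_33_37 c) (Btab_s_37_41 c) (Nat.ble 37 c)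
noncomputable def Btab_s_41_43 (c : Nat) : Nat := @Bool.rec (fun _ => Nat) (Btab_41) (Btab_42) (Nat.ble 42 c)
noncomputable def Btab_s_43_45 (c : Nat) : Nat := @Bool.rec (fun _ => Nat) (Btab_43) (Btab_44) (Nat.ble 44 c)
noncomputable def Btab_s_41_45 (c : Nat) : Nat := @Bool.rec (fun _ => Nat) (Btab_s_41_43 c) (Btab_s_43_45 c) (Nat.ble 43 c)
noncomputable def Btab_s_45_47 (c : Nat) : Nat := @Bool.rec (fun _ => Nat) (Btab_45) (Btab_46) (Nat.ble 46 c)
noncomputable def Btab_s_47_49 (c : Nat) : Nat := @Bool.rec (fun _ => Nat) (Btab_47) (Btab_48) (Nat.ble 48 c)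
noncomputable def Btab_s_45_49 (c : Nat) : Nat := @Bool.rec (fun _ => Nat) (Btab_s_45_47 c) (Btab_s_47_49 c) (Nat.ble 47 c)
noncomputable def Btab_s_41_49 (c : Nat) : Nat := @Bool.rec (fun _ => Nat) (Btab_s_41_45 c) (Btab_s_45_49 c) (Nat.ble 45 c)
noncomputable def Btab_s_33_49 (c : Nat) : Nat := @Bool.rec (fun _ => Nat) (Btab_s_33_41 c) (Btab_s_41_49 c) (Nat.ble 41 c)
noncomputable def Btab_s_49_51 (c : Nat) : Nat := @Bool.rec (fun _ => Nat) (Btab_49) (Btab_50) (Nat.ble 50 c)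
noncomputable def Btab_s_51_53 (c : Nat) : Nat := @Bool.rec (fun _ => Nat) (Btab_51) (Btab_52) (Nat.ble 52 c)
noncomputable def Btab_s_49_53 (c : Nat) : Nat := @Bool.rec (fun _ => Nat) (Btab_s_49_51 c) (Btab_s_51_53 c) (Nat.ble 51 c)
noncomputable def Btab_s_53_55 (c : Nat) : Nat := @Bool.rec (fun _ => Nat) (Btab_53) (Btab_54) (Nat.ble 54 c)
noncomputable def Btab_s_55_57 (c : Nat) : Nat := @Bool.rec (fun _ => Nat) (Btab_55) (Btab_56) (Nat.ble 56 c)
noncomputable def Btab_s_53_57 (c : Nat) : Nat := @Bool.rec (fun _ => Nat) (Btab_s_53_55 c) (Btab_s_55_57 c) (Nat.ble 55 c)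
noncomputable def Btab_s_49_57 (c : Nat) : Nat := @Bool.rec (fun _ => Nat) (Btab_s_49_53 c) (Btab_s_53_57 c) (Nat.ble 53 c)
noncomputable def Btab_s_57_59 (c : Nat) : Nat := @Bool.rec (fun _ => Nat) (Btab_57) (Btab_58) (Nat.ble 58 c)
noncomputable def Btab_s_59_61 (c : Nat) : Nat := @Bool.rec (fun _ => Nat) (Btab_59) (Btab_60) (Nat.ble 60 c)
noncomputable def Btab_s_57_61 (c : Nat) : Nat := @Bool.rec (fun _ => Nat) (Btab_s_57_59 c) (Btab_s_59_61 c) (Nat.ble 59 c)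
noncomputable def Btab_s_61_63 (c : Nat) : Nat := @Bool.rec (fun _ => Nat) (Btab_61) (Btab_62) (Nat.ble 62 c)
noncomputable def Btab_s_64_66 (c : Nat) : Nat := @Bool.rec (fun _ => Nat) (Btab_64) (Btab_65) (Nat.ble 65 c)
noncomputable def Btab_s_63_66 (c : Nat) : Nat := @Bool.rec (fun _ => Nat) (Btab_63) (Btab_s_64_66 c) (Nat.ble 64 c)
noncomputable def Btab_s_61_66 (c : Nat) : Nat := @Bool.rec (fun _ => Nat) (Btab_s_61_63 c) (Btab_s_63_66 c) (Nat.ble 63 c)
noncomputable def Btab_s_57_66 (c : Nat) : Nat := @Bool.rec (fun _ => Nat) (Btab_s_57_61 c) (Btab_s_61_66 c) (Nat.ble 61 c)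
noncomputable def Btab_s_49_66 (c : Nat) : Nat := @Bool.rec (fun _ => Nat) (Btab_s_49_57 c) (Btab_s_57_66 c) (Nat.ble 57 c)
noncomputable def Btab_s_33_66 (c : Nat) : Nat := @Bool.rec (fun _ => Nat) (Btab_s_33_49 c) (Btab_s_49_66 c) (Nat.ble 49 c)
noncomputable def Btab_s_0_66 (c : Nat) : Nat := @Bool.rec (fun _ => Nat) (Btab_s_0_33 c) (Btab_s_33_66 c) (Nat.ble 33 c)
noncomputable def Btab_s_66_68 (c : Nat) : Nat := @Bool.rec (fun _ => Nat) (Btab_66) (Btab_67) (Nat.ble 67 c)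
noncomputable def Btab_s_68_70 (c : Nat) : Nat := @Bool.rec (fun _ => Nat) (Btab_68) (Btab_69) (Nat.ble 69 c)
noncomputable def Btab_s_66_70 (c : Nat) : Nat := @Bool.rec (fun _ => Nat) (Btab_s_66_68 c) (Btab_s_68_70 c) (Nat.ble 68 c)
noncomputable def Btab_s_70_72 (c : Nat) : Nat := @Bool.rec (fun _ => Nat) (Btab_70) (Btab_71) (Nat.ble 71 c)
noncomputable def Btab_s_72_74 (c : Nat) : Nat := @Bool.rec (fun _ => Nat) (Btab_72) (Btab_73) (Nat.ble 73 c)
noncomputable def Btab_s_70_74 (c : Nat) : Nat := @Bool.rec (fun _ => Nat) (Btab_s_70_72 c) (Btab_s_72_74 c) (Nat.ble 72 c)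
noncomputable def Btab_s_66_74 (c : Nat) : Nat := @Bool.rec (fun _ => Nat) (Btab_s_66_70 c) (Btab_s_70_74 c) (Nat.ble 70 c)
noncomputable def Btab_s_74_76 (c : Nat) : Nat := @Bool.rec (fun _ => Nat) (Btab_74) (Btab_75) (Nat.ble 75 c)
noncomputable def Btab_s_76_78 (c : Nat) : Nat := @Bool.rec (fun _ => Nat) (Btab_76) (Btab_77) (Nat.ble 77 c)
noncomputable def Btab_s_74_78 (c : Nat) : Nat := @Bool.rec (fun _ => Nat) (Btab_s_74_76 c) (Btab_s_76_78 c) (Nat.ble 76 c)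
noncomputable def Btab_s_78_80 (c : Nat) : Nat := @Bool.rec (fun _ => Nat) (Btab_78) (Btab_79) (Nat.ble 79 c)
noncomputable def Btab_s_80_82 (c : Nat) : Nat := @Bool.rec (fun _ => Nat) (Btab_80) (Btab_81) (Nat.ble 81 c)
noncomputable def Btab_s_78_82 (c : Nat) : Nat := @Bool.rec (fun _ => Nat) (Btab_s_78_80 c) (Btab_s_80_82 c) (Nat.ble 80 c)
noncomputable def Btab_s_74_82 (c : Nat) : Nat := @Bool.rec (fun _ => Nat) (Btab_s_74_78 c) (Btab_s_78_82 c) (Nat.ble 78 c)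
noncomputable def Btab_s_66_82 (c : Nat) : Nat := @Bool.rec (fun _ => Nat) (Btab_s_66_74 c) (Btab_s_74_82 c) (Nat.ble 74 c)
noncomputable def Btab_s_82_84 (c : Nat) : Nat := @Bool.rec (fun _ => Nat) (Btab_82) (Btab_83) (Nat.ble 83 c)
noncomputable def Btab_s_84_86 (c : Nat) : Nat := @Bool.rec (fun _ => Nat) (Btab_84) (Btab_85) (Nat.ble 85 c)
noncomputable def Btab_s_82_86 (c : Nat) : Nat := @Bool.rec (fun _ => Nat) (Btab_s_82_84 c) (Btab_s_84_86 c) (Nat.ble 84 c)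
noncomputable def Btab_s_86_88 (c : Nat) : Nat := @Bool.rec (fun _ => Nat) (Btab_86) (Btab_87) (Nat.ble 87 c)
noncomputable def Btab_s_88_90 (c : Nat) : Nat := @Bool.rec (fun _ => Nat) (Btab_88) (Btab_89) (Nat.ble 89 c)
noncomputable def Btab_s_86_90 (c : Nat) : Nat := @Bool.rec (fun _ => Nat) (Btab_s_86_88 c) (Btab_s_88_90 c) (Nat.ble 88 c)
noncomputable def Btab_s_82_90 (c : Nat) : Nat := @Bool.rec (fun _ => Nat) (Btab_s_82_86 c) (Btab_s_86_90 c) (Nat.ble 86 c)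
noncomputable def Btab_s_90_92 (c : Nat) : Nat := @Bool.rec (fun _ => Nat) (Btab_90) (Btab_91) (Nat.ble 91 c)
noncomputable def Btab_s_92_94 (c : Nat) : Nat := @Bool.rec (fun _ => Nat) (Btab_92) (Btab_93) (Nat.ble 93 c)
noncomputable def Btab_s_90_94 (c : Nat) : Nat := @Bool.rec (fun _ => Nat) (Btab_s_90_92 c) (Btab_s_92_94 c) (Nat.ble 92 c)
noncomputable def Btab_s_94_96 (c : Nat) : Nat := @Bool.rec (fun _ => Nat) (Btab_94) (Btab_95) (Nat.ble 95 c)
noncomputable def Btab_s_97_99 (c : Nat) : Nat := @Bool.rec (fun _ => Nat) (Btab_97) (Btab_98) (Nat.ble 98 c)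
noncomputable def Btab_s_96_99 (c : Nat) : Nat := @Bool.rec (fun _ => Nat) (Btab_96) (Btab_s_97_99 c) (Nat.ble 97 c)
noncomputable def Btab_s_94_99 (c : Nat) : Nat := @Bool.rec (fun _ => Nat) (Btab_s_94_96 c) (Btab_s_96_99 c) (Nat.ble 96 c)
noncomputable def Btab_s_90_99 (c : Nat) : Nat := @Bool.rec (fun _ => Nat) (Btab_s_90_94 c) (Btab_s_94_99 c) (Nat.ble 94 c)
noncomputable def Btab_s_82_99 (c : Nat) : Nat := @Bool.rec (fun _ => Nat) (Btab_s_82_90 c) (Btab_s_90_99 c) (Nat.ble 90 c)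
noncomputable def Btab_s_66_99 (c : Nat) : Nat := @Bool.rec (fun _ => Nat) (Btab_s_66_82 c) (Btab_s_82_99 c) (Nat.ble 82 c)
noncomputable def Btab_s_99_101 (c : Nat) : Nat := @Bool.rec (fun _ => Nat) (Btab_99) (Btab_100) (Nat.ble 100 c)
noncomputable def Btab_s_101_103 (c : Nat) : Nat := @Bool.rec (fun _ => Nat) (Btab_101) (Btab_102) (Nat.ble 102 c)
noncomputable def Btab_s_99_103 (c : Nat) : Nat := @Bool.rec (fun _ => Nat) (Btab_s_99_101 c) (Btab_s_101_103 c) (Nat.ble 101 c)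
noncomputable def Btab_s_103_105 (c : Nat) : Nat := @Bool.rec (fun _ => Nat) (Btab_103) (Btab_104) (Nat.ble 104 c)
noncomputable def Btab_s_105_107 (c : Nat) : Nat := @Bool.rec (fun _ => Nat) (Btab_105) (Btab_106) (Nat.ble 106 c)
noncomputable def Btab_s_103_107 (c : Nat) : Nat := @Bool.rec (fun _ => Nat) (Btab_s_103_105 c) (Btab_s_105_107 c) (Nat.ble 105 c)
noncomputable def Btab_s_99_107 (c : Nat) : Nat := @Bool.rec (fun _ => Nat) (Btab_s_99_103 c) (Btab_s_103_107 c) (Nat.ble 103 c)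
noncomputable def Btab_s_107_109 (c : Nat) : Nat := @Bool.rec (fun _ => Nat) (Btab_107) (Btab_108) (Nat.ble 108 c)
noncomputable def Btab_s_109_111 (c : Nat) : Nat := @Bool.rec (fun _ => Nat) (Btab_109) (Btab_110) (Nat.ble 110 c)
noncomputable def Btab_s_107_111 (c : Nat) : Nat := @Bool.rec (fun _ => Nat) (Btab_s_107_109 c) (Btab_s_109_111 c) (Nat.ble 109 c)
noncomputable def Btab_s_111_113 (c : Nat) : Nat := @Bool.rec (fun _ => Nat) (Btab_111) (Btab_112) (Nat.ble 112 c)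
noncomputable def Btab_s_113_115 (c : Nat) : Nat := @Bool.rec (fun _ => Nat) (Btab_113) (Btab_114) (Nat.ble 114 c)
noncomputable def Btab_s_111_115 (c : Nat) : Nat := @Bool.rec (fun _ => Nat) (Btab_s_111_113 c) (Btab_s_113_115 c) (Nat.ble 113 c)
noncomputable def Btab_s_107_115 (c : Nat) : Nat := @Bool.rec (fun _ => Nat) (Btab_s_107_111 c) (Btab_s_111_115 c) (Nat.ble 111 c)
noncomputable def Btab_s_99_115 (c : Nat) : Nat := @Bool.rec (fun _ => Nat) (Btab_s_99_107 c) (Btab_s_107_115 c) (Nat.ble 107 c)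
noncomputable def Btab_s_115_117 (c : Nat) : Nat := @Bool.rec (fun _ => Nat) (Btab_115) (Btab_116) (Nat.ble 116 c)
noncomputable def Btab_s_117_119 (c : Nat) : Nat := @Bool.rec (fun _ => Nat) (Btab_117) (Btab_118) (Nat.ble 118 c)
noncomputable def Btab_s_115_119 (c : Nat) : Nat := @Bool.rec (fun _ => Nat) (Btab_s_115_117 c) (Btab_s_117_119 c) (Nat.ble 117 c)
noncomputable def Btab_s_119_121 (c : Nat) : Nat := @Bool.rec (fun _ => Nat) (Btab_119) (Btab_120) (Nat.ble 120 c)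
noncomputable def Btab_s_121_123 (c : Nat) : Nat := @Bool.rec (fun _ => Nat) (Btab_121) (Btab_122) (Nat.ble 122 c)
noncomputable def Btab_s_119_123 (c : Nat) : Nat := @Bool.rec (fun _ => Nat) (Btab_s_119_121 c) (Btab_s_121_123 c) (Nat.ble 121 c)
noncomputable def Btab_s_115_123 (c : Nat) : Nat := @Bool.rec (fun _ => Nat) (Btab_s_115_119 c) (Btab_s_119_123 c) (Nat.ble 119 c)
noncomputable def Btab_s_123_125 (c : Nat) : Nat := @Bool.rec (fun _ => Nat) (Btab_123) (Btab_124) (Nat.ble 124 c)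
noncomputable def Btab_s_125_127 (c : Nat) : Nat := @Bool.rec (fun _ => Nat) (Btab_125) (Btab_126) (Nat.ble 126 c)
noncomputable def Btab_s_123_127 (c : Nat) : Nat := @Bool.rec (fun _ => Nat) (Btab_s_123_125 c) (Btab_s_125_127 c) (Nat.ble 125 c)
noncomputable def Btab_s_127_129 (c : Nat) : Nat := @Bool.rec (fun _ => Nat) (Btab_127) (Btab_128) (Nat.ble 128 c)
noncomputable def Btab_s_130_132 (c : Nat) : Nat := @Bool.rec (fun _ => Nat) (Btab_130) (Btab_131) (Nat.ble 131 c)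
noncomputable def Btab_s_129_132 (c : Nat) : Nat := @Bool.rec (fun _ => Nat) (Btab_129) (Btab_s_130_132 c) (Nat.ble 130 c)
noncomputable def Btab_s_127_132 (c : Nat) : Nat := @Bool.rec (fun _ => Nat) (Btab_s_127_129 c) (Btab_s_129_132 c) (Nat.ble 129 c)
noncomputable def Btab_s_123_132 (c : Nat) : Nat := @Bool.rec (fun _ => Nat) (Btab_s_123_127 c) (Btab_s_127_132 c) (Nat.ble 127 c)
noncomputable def Btab_s_115_132 (c : Nat) : Nat := @Bool.rec (fun _ => Nat) (Btab_s_115_123 c) (Btab_s_123_132 c) (Nat.ble 123 c)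
noncomputable def Btab_s_99_132 (c : Nat) : Nat := @Bool.rec (fun _ => Nat) (Btab_s_99_115 c) (Btab_s_115_132 c) (Nat.ble 115 c)
noncomputable def Btab_s_66_132 (c : Nat) : Nat := @Bool.rec (fun _ => Nat) (Btab_s_66_99 c) (Btab_s_99_132 c) (Nat.ble 99 c)
noncomputable def Btab_s_0_132 (c : Nat) : Nat := @Bool.rec (fun _ => Nat) (Btab_s_0_66 c) (Btab_s_66_132 c) (Nat.ble 66 c)
noncomputable def Btab_s_132_134 (c : Nat) : Nat := @Bool.rec (fun _ => Nat) (Btab_132) (Btab_133) (Nat.ble 133 c)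
noncomputable def Btab_s_134_136 (c : Nat) : Nat := @Bool.rec (fun _ => Nat) (Btab_134) (Btab_135) (Nat.ble 135 c)
noncomputable def Btab_s_132_136 (c : Nat) : Nat := @Bool.rec (fun _ => Nat) (Btab_s_132_134 c) (Btab_s_134_136 c) (Nat.ble 134 c)
noncomputable def Btab_s_136_138 (c : Nat) : Nat := @Bool.rec (fun _ => Nat) (Btab_136) (Btab_137) (Nat.ble 137 c)
noncomputable def Btab_s_138_140 (c : Nat) : Nat := @Bool.rec (fun _ => Nat) (Btab_138) (Btab_139) (Nat.ble 139 c)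
noncomputable def Btab_s_136_140 (c : Nat) : Nat := @Bool.rec (fun _ => Nat) (Btab_s_136_138 c) (Btab_s_138_140 c) (Nat.ble 138 c)
noncomputable def Btab_s_132_140 (c : Nat) : Nat := @Bool.rec (fun _ => Nat) (Btab_s_132_136 c) (Btab_s_136_140 c) (Nat.ble 136 c)
noncomputable def Btab_s_140_142 (c : Nat) : Nat := @Bool.rec (fun _ => Nat) (Btab_140) (Btab_141) (Nat.ble 141 c)
noncomputable def Btab_s_142_144 (c : Nat) : Nat := @Bool.rec (fun _ => Nat) (Btab_142) (Btab_143) (Nat.ble 143 c)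
noncomputable def Btab_s_140_144 (c : Nat) : Nat := @Bool.rec (fun _ => Nat) (Btab_s_140_142 c) (Btab_s_142_144 c) (Nat.ble 142 c)
noncomputable def Btab_s_144_146 (c : Nat) : Nat := @Bool.rec (fun _ => Nat) (Btab_144) (Btab_145) (Nat.ble 145 c)
noncomputable def Btab_s_146_148 (c : Nat) : Nat := @Bool.rec (fun _ => Nat) (Btab_146) (Btab_147) (Nat.ble 147 c)
noncomputable def Btab_s_144_148 (c : Nat) : Nat := @Bool.rec (fun _ => Nat) (Btab_s_144_146 c) (Btab_s_146_148 c) (Nat.ble 146 c)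
noncomputable def Btab_s_140_148 (c : Nat) : Nat := @Bool.rec (fun _ => Nat) (Btab_s_140_144 c) (Btab_s_144_148 c) (Nat.ble 144 c)
noncomputable def Btab_s_132_148 (c : Nat) : Nat := @Bool.rec (fun _ => Nat) (Btab_s_132_140 c) (Btab_s_140_148 c) (Nat.ble 140 c)
noncomputable def Btab_s_148_150 (c : Nat) : Nat := @Bool.rec (fun _ => Nat) (Btab_148) (Btab_149) (Nat.ble 149 c)
noncomputable def Btab_s_150_152 (c : Nat) : Nat := @Bool.rec (fun _ => Nat) (Btab_150) (Btab_151) (Nat.ble 151 c)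
noncomputable def Btab_s_148_152 (c : Nat) : Nat := @Bool.rec (fun _ => Nat) (Btab_s_148_150 c) (Btab_s_150_152 c) (Nat.ble 150 c)
noncomputable def Btab_s_152_154 (c : Nat) : Nat := @Bool.rec (fun _ => Nat) (Btab_152) (Btab_153) (Nat.ble 153 c)
noncomputable def Btab_s_154_156 (c : Nat) : Nat := @Bool.rec (fun _ => Nat) (Btab_154) (Btab_155) (Nat.ble 155 c)
noncomputable def Btab_s_152_156 (c : Nat) : Nat := @Bool.rec (fun _ => Nat) (Btab_s_152_154 c) (Btab_s_154_156 c) (Nat.ble 154 c)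
noncomputable def Btab_s_148_156 (c : Nat) : Nat := @Bool.rec (fun _ => Nat) (Btab_s_148_152 c) (Btab_s_152_156 c) (Nat.ble 152 c)
noncomputable def Btab_s_156_158 (c : Nat) : Nat := @Bool.rec (fun _ => Nat) (Btab_156) (Btab_157) (Nat.ble 157 c)
noncomputable def Btab_s_158_160 (c : Nat) : Nat := @Bool.rec (fun _ => Nat) (Btab_158) (Btab_159) (Nat.ble 159 c)
noncomputable def Btab_s_156_160 (c : Nat) : Nat := @Bool.rec (fun _ => Nat) (Btab_s_156_158 c) (Btab_s_158_160 c) (Nat.ble 158 c)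
noncomputable def Btab_s_160_162 (c : Nat) : Nat := @Bool.rec (fun _ => Nat) (Btab_160) (Btab_161) (Nat.ble 161 c)
noncomputable def Btab_s_163_165 (c : Nat) : Nat := @Bool.rec (fun _ => Nat) (Btab_163) (Btab_164) (Nat.ble 164 c)
noncomputable def Btab_s_162_165 (c : Nat) : Nat := @Bool.rec (fun _ => Nat) (Btab_162) (Btab_s_163_165 c) (Nat.ble 163 c)
noncomputable def Btab_s_160_165 (c : Nat) : Nat := @Bool.rec (fun _ => Nat) (Btab_s_160_162 c) (Btab_s_162_165 c) (Nat.ble 162 c)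
noncomputable def Btab_s_156_165 (c : Nat) : Nat := @Bool.rec (fun _ => Nat) (Btab_s_156_160 c) (Btab_s_160_165 c) (Nat.ble 160 c)
noncomputable def Btab_s_148_165 (c : Nat) : Nat := @Bool.rec (fun _ => Nat) (Btab_s_148_156 c) (Btab_s_156_165 c) (Nat.ble 156 c)
noncomputable def Btab_s_132_165 (c : Nat) : Nat := @Bool.rec (fun _ => Nat) (Btab_s_132_148 c) (Btab_s_148_165 c) (Nat.ble 148 c)
noncomputable def Btab_s_165_167 (c : Nat) : Nat := @Bool.rec (fun _ => Nat) (Btab_165) (Btab_166) (Nat.ble 166 c)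
noncomputable def Btab_s_167_169 (c : Nat) : Nat := @Bool.rec (fun _ => Nat) (Btab_167) (Btab_168) (Nat.ble 168 c)
noncomputable def Btab_s_165_169 (c : Nat) : Nat := @Bool.rec (fun _ => Nat) (Btab_s_165_167 c) (Btab_s_167_169 c) (Nat.ble 167 c)
noncomputable def Btab_s_169_171 (c : Nat) : Nat := @Bool.rec (fun _ => Nat) (Btab_169) (Btab_170) (Nat.ble 170 c)
noncomputable def Btab_s_171_173 (c : Nat) : Nat := @Bool.rec (fun _ => Nat) (Btab_171) (Btab_172) (Nat.ble 172 c)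
noncomputable def Btab_s_169_173 (c : Nat) : Nat := @Bool.rec (fun _ => Nat) (Btab_s_169_171 c) (Btab_s_171_173 c) (Nat.ble 171 c)
noncomputable def Btab_s_165_173 (c : Nat) : Nat := @Bool.rec (fun _ => Nat) (Btab_s_165_169 c) (Btab_s_169_173 c) (Nat.ble 169 c)
noncomputable def Btab_s_173_175 (c : Nat) : Nat := @Bool.rec (fun _ => Nat) (Btab_173) (Btab_174) (Nat.ble 174 c)
noncomputable def Btab_s_175_177 (c : Nat) : Nat := @Bool.rec (fun _ => Nat) (Btab_175) (Btab_176) (Nat.ble 176 c)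
noncomputable def Btab_s_173_177 (c : Nat) : Nat := @Bool.rec (fun _ => Nat) (Btab_s_173_175 c) (Btab_s_175_177 c) (Nat.ble 175 c)
noncomputable def Btab_s_177_179 (c : Nat) : Nat := @Bool.rec (fun _ => Nat) (Btab_177) (Btab_178) (Nat.ble 178 c)
noncomputable def Btab_s_179_181 (c : Nat) : Nat := @Bool.rec (fun _ => Nat) (Btab_179) (Btab_180) (Nat.ble 180 c)
noncomputable def Btab_s_177_181 (c : Nat) : Nat := @Bool.rec (fun _ => Nat) (Btab_s_177_179 c) (Btab_s_179_181 c) (Nat.ble 179 c)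
noncomputable def Btab_s_173_181 (c : Nat) : Nat := @Bool.rec (fun _ => Nat) (Btab_s_173_177 c) (Btab_s_177_181 c) (Nat.ble 177 c)
noncomputable def Btab_s_165_181 (c : Nat) : Nat := @Bool.rec (fun _ => Nat) (Btab_s_165_173 c) (Btab_s_173_181 c) (Nat.ble 173 c)
noncomputable def Btab_s_181_183 (c : Nat) : Nat := @Bool.rec (fun _ => Nat) (Btab_181) (Btab_182) (Nat.ble 182 c)
noncomputable def Btab_s_183_185 (c : Nat) : Nat := @Bool.rec (fun _ => Nat) (Btab_183) (Btab_184) (Nat.ble 184 c)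
noncomputable def Btab_s_181_185 (c : Nat) : Nat := @Bool.rec (fun _ => Nat) (Btab_s_181_183 c) (Btab_s_183_185 c) (Nat.ble 183 c)
noncomputable def Btab_s_185_187 (c : Nat) : Nat := @Bool.rec (fun _ => Nat) (Btab_185) (Btab_186) (Nat.ble 186 c)
noncomputable def Btab_s_187_189 (c : Nat) : Nat := @Bool.rec (fun _ => Nat) (Btab_187) (Btab_188) (Nat.ble 188 c)
noncomputable def Btab_s_185_189 (c : Nat) : Nat := @Bool.rec (fun _ => Nat) (Btab_s_185_187 c) (Btab_s_187_189 c) (Nat.ble 187 c)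
noncomputable def Btab_s_181_189 (c : Nat) : Nat := @Bool.rec (fun _ => Nat) (Btab_s_181_185 c) (Btab_s_185_189 c) (Nat.ble 185 c)
noncomputable def Btab_s_189_191 (c : Nat) : Nat := @Bool.rec (fun _ => Nat) (Btab_189) (Btab_190) (Nat.ble 190 c)
noncomputable def Btab_s_191_193 (c : Nat) : Nat := @Bool.rec (fun _ => Nat) (Btab_191) (Btab_192) (Nat.ble 192 c)
noncomputable def Btab_s_189_193 (c : Nat) : Nat := @Bool.rec (fun _ => Nat) (Btab_s_189_191 c) (Btab_s_191_193 c) (Nat.ble 191 c)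
noncomputable def Btab_s_193_195 (c : Nat) : Nat := @Bool.rec (fun _ => Nat) (Btab_193) (Btab_194) (Nat.ble 194 c)
noncomputable def Btab_s_196_198 (c : Nat) : Nat := @Bool.rec (fun _ => Nat) (Btab_196) (Btab_197) (Nat.ble 197 c)
noncomputable def Btab_s_195_198 (c : Nat) : Nat := @Bool.rec (fun _ => Nat) (Btab_195) (Btab_s_196_198 c) (Nat.ble 196 c)
noncomputable def Btab_s_193_198 (c : Nat) : Nat := @Bool.rec (fun _ => Nat) (Btab_s_193_195 c) (Btab_s_195_198 c) (Nat.ble 195 c)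
noncomputable def Btab_s_189_198 (c : Nat) : Nat := @Bool.rec (fun _ => Nat) (Btab_s_189_193 c) (Btab_s_193_198 c) (Nat.ble 193 c)
noncomputable def Btab_s_181_198 (c : Nat) : Nat := @Bool.rec (fun _ => Nat) (Btab_s_181_189 c) (Btab_s_189_198 c) (Nat.ble 189 c)
noncomputable def Btab_s_165_198 (c : Nat) : Nat := @Bool.rec (fun _ => Nat) (Btab_s_165_181 c) (Btab_s_181_198 c) (Nat.ble 181 c)
noncomputable def Btab_s_132_198 (c : Nat) : Nat := @Bool.rec (fun _ => Nat) (Btab_s_132_165 c) (Btab_s_165_198 c) (Nat.ble 165 c)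
noncomputable def Btab_s_198_200 (c : Nat) : Nat := @Bool.rec (fun _ => Nat) (Btab_198) (Btab_199) (Nat.ble 199 c)
noncomputable def Btab_s_200_202 (c : Nat) : Nat := @Bool.rec (fun _ => Nat) (Btab_200) (Btab_201) (Nat.ble 201 c)
noncomputable def Btab_s_198_202 (c : Nat) : Nat := @Bool.rec (fun _ => Nat) (Btab_s_198_200 c) (Btab_s_200_202 c) (Nat.ble 200 c)
noncomputable def Btab_s_202_204 (c : Nat) : Nat := @Bool.rec (fun _ => Nat) (Btab_202) (Btab_203) (Nat.ble 203 c)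
noncomputable def Btab_s_204_206 (c : Nat) : Nat := @Bool.rec (fun _ => Nat) (Btab_204) (Btab_205) (Nat.ble 205 c)
noncomputable def Btab_s_202_206 (c : Nat) : Nat := @Bool.rec (fun _ => Nat) (Btab_s_202_204 c) (Btab_s_204_206 c) (Nat.ble 204 c)
noncomputable def Btab_s_198_206 (c : Nat) : Nat := @Bool.rec (fun _ => Nat) (Btab_s_198_202 c) (Btab_s_202_206 c) (Nat.ble 202 c)
noncomputable def Btab_s_206_208 (c : Nat) : Nat := @Bool.rec (fun _ => Nat) (Btab_206) (Btab_207) (Nat.ble 207 c)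
noncomputable def Btab_s_208_210 (c : Nat) : Nat := @Bool.rec (fun _ => Nat) (Btab_208) (Btab_209) (Nat.ble 209 c)
noncomputable def Btab_s_206_210 (c : Nat) : Nat := @Bool.rec (fun _ => Nat) (Btab_s_206_208 c) (Btab_s_208_210 c) (Nat.ble 208 c)
noncomputable def Btab_s_210_212 (c : Nat) : Nat := @Bool.rec (fun _ => Nat) (Btab_210) (Btab_211) (Nat.ble 211 c)
noncomputable def Btab_s_212_214 (c : Nat) : Nat := @Bool.rec (fun _ => Nat) (Btab_212) (Btab_213) (Nat.ble 213 c)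
noncomputable def Btab_s_210_214 (c : Nat) : Nat := @Bool.rec (fun _ => Nat) (Btab_s_210_212 c) (Btab_s_212_214 c) (Nat.ble 212 c)
noncomputable def Btab_s_206_214 (c : Nat) : Nat := @Bool.rec (fun _ => Nat) (Btab_s_206_210 c) (Btab_s_210_214 c) (Nat.ble 210 c)
noncomputable def Btab_s_198_214 (c : Nat) : Nat := @Bool.rec (fun _ => Nat) (Btab_s_198_206 c) (Btab_s_206_214 c) (Nat.ble 206 c)
noncomputable def Btab_s_214_216 (c : Nat) : Nat := @Bool.rec (fun _ => Nat) (Btab_214) (Btab_215) (Nat.ble 215 c)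
noncomputable def Btab_s_216_218 (c : Nat) : Nat := @Bool.rec (fun _ => Nat) (Btab_216) (Btab_217) (Nat.ble 217 c)
noncomputable def Btab_s_214_218 (c : Nat) : Nat := @Bool.rec (fun _ => Nat) (Btab_s_214_216 c) (Btab_s_216_218 c) (Nat.ble 216 c)
noncomputable def Btab_s_218_220 (c : Nat) : Nat := @Bool.rec (fun _ => Nat) (Btab_218) (Btab_219) (Nat.ble 219 c)
noncomputable def Btab_s_220_222 (c : Nat) : Nat := @Bool.rec (fun _ => Nat) (Btab_220) (Btab_221) (Nat.ble 221 c)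
noncomputable def Btab_s_218_222 (c : Nat) : Nat := @Bool.rec (fun _ => Nat) (Btab_s_218_220 c) (Btab_s_220_222 c) (Nat.ble 220 c)
noncomputable def Btab_s_214_222 (c : Nat) : Nat := @Bool.rec (fun _ => Nat) (Btab_s_214_218 c) (Btab_s_218_222 c) (Nat.ble 218 c)
noncomputable def Btab_s_222_224 (c : Nat) : Nat := @Bool.rec (fun _ => Nat) (Btab_222) (Btab_223) (Nat.ble 223 c)
noncomputable def Btab_s_224_226 (c : Nat) : Nat := @Bool.rec (fun _ => Nat) (Btab_224) (Btab_225) (Nat.ble 225 c)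
noncomputable def Btab_s_222_226 (c : Nat) : Nat := @Bool.rec (fun _ => Nat) (Btab_s_222_224 c) (Btab_s_224_226 c) (Nat.ble 224 c)
noncomputable def Btab_s_226_228 (c : Nat) : Nat := @Bool.rec (fun _ => Nat) (Btab_226) (Btab_227) (Nat.ble 227 c)
noncomputable def Btab_s_229_231 (c : Nat) : Nat := @Bool.rec (fun _ => Nat) (Btab_229) (Btab_230) (Nat.ble 230 c)
noncomputable def Btab_s_228_231 (c : Nat) : Nat := @Bool.rec (fun _ => Nat) (Btab_228) (Btab_s_229_231 c) (Nat.ble 229 c)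
noncomputable def Btab_s_226_231 (c : Nat) : Nat := @Bool.rec (fun _ => Nat) (Btab_s_226_228 c) (Btab_s_228_231 c) (Nat.ble 228 c)
noncomputable def Btab_s_222_231 (c : Nat) : Nat := @Bool.rec (fun _ => Nat) (Btab_s_222_226 c) (Btab_s_226_231 c) (Nat.ble 226 c)
noncomputable def Btab_s_214_231 (c : Nat) : Nat := @Bool.rec (fun _ => Nat) (Btab_s_214_222 c) (Btab_s_222_231 c) (Nat.ble 222 c)
noncomputable def Btab_s_198_231 (c : Nat) : Nat := @Bool.rec (fun _ => Nat) (Btab_s_198_214 c) (Btab_s_214_231 c) (Nat.ble 214 c)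
noncomputable def Btab_s_231_233 (c : Nat) : Nat := @Bool.rec (fun _ => Nat) (Btab_231) (Btab_232) (Nat.ble 232 c)
noncomputable def Btab_s_233_235 (c : Nat) : Nat := @Bool.rec (fun _ => Nat) (Btab_233) (Btab_234) (Nat.ble 234 c)
noncomputable def Btab_s_231_235 (c : Nat) : Nat := @Bool.rec (fun _ => Nat) (Btab_s_231_233 c) (Btab_s_233_235 c) (Nat.ble 233 c)
noncomputable def Btab_s_235_237 (c : Nat) : Nat := @Bool.rec (fun _ => Nat) (Btab_235) (Btab_236) (Nat.ble 236 c)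
noncomputable def Btab_s_237_239 (c : Nat) : Nat := @Bool.rec (fun _ => Nat) (Btab_237) (Btab_238) (Nat.ble 238 c)
noncomputable def Btab_s_235_239 (c : Nat) : Nat := @Bool.rec (fun _ => Nat) (Btab_s_235_237 c) (Btab_s_237_239 c) (Nat.ble 237 c)
noncomputable def Btab_s_231_239 (c : Nat) : Nat := @Bool.rec (fun _ => Nat) (Btab_s_231_235 c) (Btab_s_235_239 c) (Nat.ble 235 c)
noncomputable def Btab_s_239_241 (c : Nat) : Nat := @Bool.rec (fun _ => Nat) (Btab_239) (Btab_240) (Nat.ble 240 c)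
noncomputable def Btab_s_241_243 (c : Nat) : Nat := @Bool.rec (fun _ => Nat) (Btab_241) (Btab_242) (Nat.ble 242 c)
noncomputable def Btab_s_239_243 (c : Nat) : Nat := @Bool.rec (fun _ => Nat) (Btab_s_239_241 c) (Btab_s_241_243 c) (Nat.ble 241 c)
noncomputable def Btab_s_243_245 (c : Nat) : Nat := @Bool.rec (fun _ => Nat) (Btab_243) (Btab_244) (Nat.ble 244 c)
noncomputable def Btab_s_246_248 (c : Nat) : Nat := @Bool.rec (fun _ => Nat) (Btab_246) (Btab_247) (Nat.ble 247 c)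
noncomputable def Btab_s_245_248 (c : Nat) : Nat := @Bool.rec (fun _ => Nat) (Btab_245) (Btab_s_246_248 c) (Nat.ble 246 c)
noncomputable def Btab_s_243_248 (c : Nat) : Nat := @Bool.rec (fun _ => Nat) (Btab_s_243_245 c) (Btab_s_245_248 c) (Nat.ble 245 c)
noncomputable def Btab_s_239_248 (c : Nat) : Nat := @Bool.rec (fun _ => Nat) (Btab_s_239_243 c) (Btab_s_243_248 c) (Nat.ble 243 c)
noncomputable def Btab_s_231_248 (c : Nat) : Nat := @Bool.rec (fun _ => Nat) (Btab_s_231_239 c) (Btab_s_239_248 c) (Nat.ble 239 c)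
noncomputable def Btab_s_248_250 (c : Nat) : Nat := @Bool.rec (fun _ => Nat) (Btab_248) (Btab_249) (Nat.ble 249 c)
noncomputable def Btab_s_250_252 (c : Nat) : Nat := @Bool.rec (fun _ => Nat) (Btab_250) (Btab_251) (Nat.ble 251 c)
noncomputable def Btab_s_248_252 (c : Nat) : Nat := @Bool.rec (fun _ => Nat) (Btab_s_248_250 c) (Btab_s_250_252 c) (Nat.ble 250 c)
noncomputable def Btab_s_252_254 (c : Nat) : Nat := @Bool.rec (fun _ => Nat) (Btab_252) (Btab_253) (Nat.ble 253 c)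
noncomputable def Btab_s_254_256 (c : Nat) : Nat := @Bool.rec (fun _ => Nat) (Btab_254) (Btab_255) (Nat.ble 255 c)
noncomputable def Btab_s_252_256 (c : Nat) : Nat := @Bool.rec (fun _ => Nat) (Btab_s_252_254 c) (Btab_s_254_256 c) (Nat.ble 254 c)
noncomputable def Btab_s_248_256 (c : Nat) : Nat := @Bool.rec (fun _ => Nat) (Btab_s_248_252 c) (Btab_s_252_256 c) (Nat.ble 252 c)
noncomputable def Btab_s_256_258 (c : Nat) : Nat := @Bool.rec (fun _ => Nat) (Btab_256) (Btab_257) (Nat.ble 257 c)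
noncomputable def Btab_s_258_260 (c : Nat) : Nat := @Bool.rec (fun _ => Nat) (Btab_258) (Btab_259) (Nat.ble 259 c)
noncomputable def Btab_s_256_260 (c : Nat) : Nat := @Bool.rec (fun _ => Nat) (Btab_s_256_258 c) (Btab_s_258_260 c) (Nat.ble 258 c)
noncomputable def Btab_s_260_262 (c : Nat) : Nat := @Bool.rec (fun _ => Nat) (Btab_260) (Btab_261) (Nat.ble 261 c)
noncomputable def Btab_s_263_265 (c : Nat) : Nat := @Bool.rec (fun _ => Nat) (Btab_263) (Btab_264) (Nat.ble 264 c)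
noncomputable def Btab_s_262_265 (c : Nat) : Nat := @Bool.rec (fun _ => Nat) (Btab_262) (Btab_s_263_265 c) (Nat.ble 263 c)
noncomputable def Btab_s_260_265 (c : Nat) : Nat := @Bool.rec (fun _ => Nat) (Btab_s_260_262 c) (Btab_s_262_265 c) (Nat.ble 262 c)
noncomputable def Btab_s_256_265 (c : Nat) : Nat := @Bool.rec (fun _ => Nat) (Btab_s_256_260 c) (Btab_s_260_265 c) (Nat.ble 260 c)
noncomputable def Btab_s_248_265 (c : Nat) : Nat := @Bool.rec (fun _ => Nat) (Btab_s_248_256 c) (Btab_s_256_265 c) (Nat.ble 256 c)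
noncomputable def Btab_s_231_265 (c : Nat) : Nat := @Bool.rec (fun _ => Nat) (Btab_s_231_248 c) (Btab_s_248_265 c) (Nat.ble 248 c)
noncomputable def Btab_s_198_265 (c : Nat) : Nat := @Bool.rec (fun _ => Nat) (Btab_s_198_231 c) (Btab_s_231_265 c) (Nat.ble 231 c)
noncomputable def Btab_s_132_265 (c : Nat) : Nat := @Bool.rec (fun _ => Nat) (Btab_s_132_198 c) (Btab_s_198_265 c) (Nat.ble 198 c)
noncomputable def Btab_s_0_265 (c : Nat) : Nat := @Bool.rec (fun _ => Nat) (Btab_s_0_132 c) (Btab_s_132_265 c) (Nat.ble 132 c)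
noncomputable def Btab (i : Nat) : Nat := rdw 42 4398046511103 (Btab_s_0_265 (Nat.shiftRight i 11)) (Nat.land i 2047)
noncomputable def Ptab_s_1_3 (c : Nat) : Nat := @Bool.rec (fun _ => Nat) (Ptab_1) (Ptab_2) (Nat.ble 2 c)
noncomputable def Ptab_s_0_3 (c : Nat) : Nat := @Bool.rec (fun _ => Nat) (Ptab_0) (Ptab_s_1_3 c) (Nat.ble 1 c)
noncomputable def Ptab_s_3_5 (c : Nat) : Nat := @Bool.rec (fun _ => Nat) (Ptab_3) (Ptab_4) (Nat.ble 4 c)
noncomputable def Ptab_s_5_7 (c : Nat) : Nat := @Bool.rec (fun _ => Nat) (Ptab_5) (Ptab_6) (Nat.ble 6 c)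
noncomputable def Ptab_s_3_7 (c : Nat) : Nat := @Bool.rec (fun _ => Nat) (Ptab_s_3_5 c) (Ptab_s_5_7 c) (Nat.ble 5 c)
noncomputable def Ptab_s_0_7 (c : Nat) : Nat := @Bool.rec (fun _ => Nat) (Ptab_s_0_3 c) (Ptab_s_3_7 c) (Nat.ble 3 c)
noncomputable def Ptab_s_7_9 (c : Nat) : Nat := @Bool.rec (fun _ => Nat) (Ptab_7) (Ptab_8) (Nat.ble 8 c)
noncomputable def Ptab_s_9_11 (c : Nat) : Nat := @Bool.rec (fun _ => Nat) (Ptab_9) (Ptab_10) (Nat.ble 10 c)
noncomputable def Ptab_s_7_11 (c : Nat) : Nat := @Bool.rec (fun _ => Nat) (Ptab_s_7_9 c) (Ptab_s_9_11 c) (Nat.ble 9 c)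
noncomputable def Ptab_s_11_13 (c : Nat) : Nat := @Bool.rec (fun _ => Nat) (Ptab_11) (Ptab_12) (Nat.ble 12 c)
noncomputable def Ptab_s_13_15 (c : Nat) : Nat := @Bool.rec (fun _ => Nat) (Ptab_13) (Ptab_14) (Nat.ble 14 c)
noncomputable def Ptab_s_11_15 (c : Nat) : Nat := @Bool.rec (fun _ => Nat) (Ptab_s_11_13 c) (Ptab_s_13_15 c) (Nat.ble 13 c)
noncomputable def Ptab_s_7_15 (c : Nat) : Nat := @Bool.rec (fun _ => Nat) (Ptab_s_7_11 c) (Ptab_s_11_15 c) (Nat.ble 11 c)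
noncomputable def Ptab_s_0_15 (c : Nat) : Nat := @Bool.rec (fun _ => Nat) (Ptab_s_0_7 c) (Ptab_s_7_15 c) (Nat.ble 7 c)
noncomputable def Ptab_s_16_18 (c : Nat) : Nat := @Bool.rec (fun _ => Nat) (Ptab_16) (Ptab_17) (Nat.ble 17 c)
noncomputable def Ptab_s_15_18 (c : Nat) : Nat := @Bool.rec (fun _ => Nat) (Ptab_15) (Ptab_s_16_18 c) (Nat.ble 16 c)
noncomputable def Ptab_s_18_20 (c : Nat) : Nat := @Bool.rec (fun _ => Nat) (Ptab_18) (Ptab_19) (Nat.ble 19 c)
noncomputable def Ptab_s_20_22 (c : Nat) : Nat := @Bool.rec (fun _ => Nat) (Ptab_20) (Ptab_21) (Nat.ble 21 c)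
noncomputable def Ptab_s_18_22 (c : Nat) : Nat := @Bool.rec (fun _ => Nat) (Ptab_s_18_20 c) (Ptab_s_20_22 c) (Nat.ble 20 c)
noncomputable def Ptab_s_15_22 (c : Nat) : Nat := @Bool.rec (fun _ => Nat) (Ptab_s_15_18 c) (Ptab_s_18_22 c) (Nat.ble 18 c)
noncomputable def Ptab_s_22_24 (c : Nat) : Nat := @Bool.rec (fun _ => Nat) (Ptab_22) (Ptab_23) (Nat.ble 23 c)
noncomputable def Ptab_s_24_26 (c : Nat) : Nat := @Bool.rec (fun _ => Nat) (Ptab_24) (Ptab_25) (Nat.ble 25 c)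
noncomputable def Ptab_s_22_26 (c : Nat) : Nat := @Bool.rec (fun _ => Nat) (Ptab_s_22_24 c) (Ptab_s_24_26 c) (Nat.ble 24 c)
noncomputable def Ptab_s_26_28 (c : Nat) : Nat := @Bool.rec (fun _ => Nat) (Ptab_26) (Ptab_27) (Nat.ble 27 c)
noncomputable def Ptab_s_28_30 (c : Nat) : Nat := @Bool.rec (fun _ => Nat) (Ptab_28) (Ptab_29) (Nat.ble 29 c)
noncomputable def Ptab_s_26_30 (c : Nat) : Nat := @Bool.rec (fun _ => Nat) (Ptab_s_26_28 c) (Ptab_s_28_30 c) (Nat.ble 28 c)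
noncomputable def Ptab_s_22_30 (c : Nat) : Nat := @Bool.rec (fun _ => Nat) (Ptab_s_22_26 c) (Ptab_s_26_30 c) (Nat.ble 26 c)
noncomputable def Ptab_s_15_30 (c : Nat) : Nat := @Bool.rec (fun _ => Nat) (Ptab_s_15_22 c) (Ptab_s_22_30 c) (Nat.ble 22 c)
noncomputable def Ptab_s_0_30 (c : Nat) : Nat := @Bool.rec (fun _ => Nat) (Ptab_s_0_15 c) (Ptab_s_15_30 c) (Nat.ble 15 c)
noncomputable def Ptab_s_31_33 (c : Nat) : Nat := @Bool.rec (fun _ => Nat) (Ptab_31) (Ptab_32) (Nat.ble 32 c)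
noncomputable def Ptab_s_30_33 (c : Nat) : Nat := @Bool.rec (fun _ => Nat) (Ptab_30) (Ptab_s_31_33 c) (Nat.ble 31 c)
noncomputable def Ptab_s_33_35 (c : Nat) : Nat := @Bool.rec (fun _ => Nat) (Ptab_33) (Ptab_34) (Nat.ble 34 c)
noncomputable def Ptab_s_35_37 (c : Nat) : Nat := @Bool.rec (fun _ => Nat) (Ptab_35) (Ptab_36) (Nat.ble 36 c)
noncomputable def Ptab_s_33_37 (c : Nat) : Nat := @Bool.rec (fun _ => Nat) (Ptab_s_33_35 c) (Ptab_s_35_37 c) (Nat.ble 35 c)
noncomputable def Ptab_s_30_37 (c : Nat) : Nat := @Bool.rec (fun _ => Nat) (Ptab_s_30_33 c) (Ptab_s_33_37 c) (Nat.ble 33 c)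
noncomputable def Ptab_s_37_39 (c : Nat) : Nat := @Bool.rec (fun _ => Nat) (Ptab_37) (Ptab_38) (Nat.ble 38 c)
noncomputable def Ptab_s_39_41 (c : Nat) : Nat := @Bool.rec (fun _ => Nat) (Ptab_39) (Ptab_40) (Nat.ble 40 c)
noncomputable def Ptab_s_37_41 (c : Nat) : Nat := @Bool.rec (fun _ => Nat) (Ptab_s_37_39 c) (Ptab_s_39_41 c) (Nat.ble 39 c)
noncomputable def Ptab_s_41_43 (c : Nat) : Nat := @Bool.rec (fun _ => Nat) (Ptab_41) (Ptab_42) (Nat.ble 42 c)
noncomputable def Ptab_s_43_45 (c : Nat) : Nat := @Bool.rec (fun _ => Nat) (Ptab_43) (Ptab_44) (Nat.ble 44 c)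
noncomputable def Ptab_s_41_45 (c : Nat) : Nat := @Bool.rec (fun _ => Nat) (Ptab_s_41_43 c) (Ptab_s_43_45 c) (Nat.ble 43 c)
noncomputable def Ptab_s_37_45 (c : Nat) : Nat := @Bool.rec (fun _ => Nat) (Ptab_s_37_41 c) (Ptab_s_41_45 c) (Nat.ble 41 c)
noncomputable def Ptab_s_30_45 (c : Nat) : Nat := @Bool.rec (fun _ => Nat) (Ptab_s_30_37 c) (Ptab_s_37_45 c) (Nat.ble 37 c)
noncomputable def Ptab_s_45_47 (c : Nat) : Nat := @Bool.rec (fun _ => Nat) (Ptab_45) (Ptab_46) (Nat.ble 46 c)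
noncomputable def Ptab_s_47_49 (c : Nat) : Nat := @Bool.rec (fun _ => Nat) (Ptab_47) (Ptab_48) (Nat.ble 48 c)
noncomputable def Ptab_s_45_49 (c : Nat) : Nat := @Bool.rec (fun _ => Nat) (Ptab_s_45_47 c) (Ptab_s_47_49 c) (Nat.ble 47 c)
noncomputable def Ptab_s_49_51 (c : Nat) : Nat := @Bool.rec (fun _ => Nat) (Ptab_49) (Ptab_50) (Nat.ble 50 c)
noncomputable def Ptab_s_51_53 (c : Nat) : Nat := @Bool.rec (fun _ => Nat) (Ptab_51) (Ptab_52) (Nat.ble 52 c)
noncomputable def Ptab_s_49_53 (c : Nat) : Nat := @Bool.rec (fun _ => Nat) (Ptab_s_49_51 c) (Ptab_s_51_53 c) (Nat.ble 51 c)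
noncomputable def Ptab_s_45_53 (c : Nat) : Nat := @Bool.rec (fun _ => Nat) (Ptab_s_45_49 c) (Ptab_s_49_53 c) (Nat.ble 49 c)
noncomputable def Ptab_s_53_55 (c : Nat) : Nat := @Bool.rec (fun _ => Nat) (Ptab_53) (Ptab_54) (Nat.ble 54 c)
noncomputable def Ptab_s_55_57 (c : Nat) : Nat := @Bool.rec (fun _ => Nat) (Ptab_55) (Ptab_56) (Nat.ble 56 c)
noncomputable def Ptab_s_53_57 (c : Nat) : Nat := @Bool.rec (fun _ => Nat) (Ptab_s_53_55 c) (Ptab_s_55_57 c) (Nat.ble 55 c)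
noncomputable def Ptab_s_57_59 (c : Nat) : Nat := @Bool.rec (fun _ => Nat) (Ptab_57) (Ptab_58) (Nat.ble 58 c)
noncomputable def Ptab_s_59_61 (c : Nat) : Nat := @Bool.rec (fun _ => Nat) (Ptab_59) (Ptab_60) (Nat.ble 60 c)
noncomputable def Ptab_s_57_61 (c : Nat) : Nat := @Bool.rec (fun _ => Nat) (Ptab_s_57_59 c) (Ptab_s_59_61 c) (Nat.ble 59 c)
noncomputable def Ptab_s_53_61 (c : Nat) : Nat := @Bool.rec (fun _ => Nat) (Ptab_s_53_57 c) (Ptab_s_57_61 c) (Nat.ble 57 c)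
noncomputable def Ptab_s_45_61 (c : Nat) : Nat := @Bool.rec (fun _ => Nat) (Ptab_s_45_53 c) (Ptab_s_53_61 c) (Nat.ble 53 c)
noncomputable def Ptab_s_30_61 (c : Nat) : Nat := @Bool.rec (fun _ => Nat) (Ptab_s_30_45 c) (Ptab_s_45_61 c) (Nat.ble 45 c)
noncomputable def Ptab_s_0_61 (c : Nat) : Nat := @Bool.rec (fun _ => Nat) (Ptab_s_0_30 c) (Ptab_s_30_61 c) (Nat.ble 30 c)
noncomputable def Ptab_s_62_64 (c : Nat) : Nat := @Bool.rec (fun _ => Nat) (Ptab_62) (Ptab_63) (Nat.ble 63 c)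
noncomputable def Ptab_s_61_64 (c : Nat) : Nat := @Bool.rec (fun _ => Nat) (Ptab_61) (Ptab_s_62_64 c) (Nat.ble 62 c)
noncomputable def Ptab_s_64_66 (c : Nat) : Nat := @Bool.rec (fun _ => Nat) (Ptab_64) (Ptab_65) (Nat.ble 65 c)
noncomputable def Ptab_s_66_68 (c : Nat) : Nat := @Bool.rec (fun _ => Nat) (Ptab_66) (Ptab_67) (Nat.ble 67 c)
noncomputable def Ptab_s_64_68 (c : Nat) : Nat := @Bool.rec (fun _ => Nat) (Ptab_s_64_66 c) (Ptab_s_66_68 c) (Nat.ble 66 c)
noncomputable def Ptab_s_61_68 (c : Nat) : Nat := @Bool.rec (fun _ => Nat) (Ptab_s_61_64 c) (Ptab_s_64_68 c) (Nat.ble 64 c)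
noncomputable def Ptab_s_68_70 (c : Nat) : Nat := @Bool.rec (fun _ => Nat) (Ptab_68) (Ptab_69) (Nat.ble 69 c)
noncomputable def Ptab_s_70_72 (c : Nat) : Nat := @Bool.rec (fun _ => Nat) (Ptab_70) (Ptab_71) (Nat.ble 71 c)
noncomputable def Ptab_s_68_72 (c : Nat) : Nat := @Bool.rec (fun _ => Nat) (Ptab_s_68_70 c) (Ptab_s_70_72 c) (Nat.ble 70 c)
noncomputable def Ptab_s_72_74 (c : Nat) : Nat := @Bool.rec (fun _ => Nat) (Ptab_72) (Ptab_73) (Nat.ble 73 c)
noncomputable def Ptab_s_74_76 (c : Nat) : Nat := @Bool.rec (fun _ => Nat) (Ptab_74) (Ptab_75) (Nat.ble 75 c)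
noncomputable def Ptab_s_72_76 (c : Nat) : Nat := @Bool.rec (fun _ => Nat) (Ptab_s_72_74 c) (Ptab_s_74_76 c) (Nat.ble 74 c)
noncomputable def Ptab_s_68_76 (c : Nat) : Nat := @Bool.rec (fun _ => Nat) (Ptab_s_68_72 c) (Ptab_s_72_76 c) (Nat.ble 72 c)
noncomputable def Ptab_s_61_76 (c : Nat) : Nat := @Bool.rec (fun _ => Nat) (Ptab_s_61_68 c) (Ptab_s_68_76 c) (Nat.ble 68 c)
noncomputable def Ptab_s_77_79 (c : Nat) : Nat := @Bool.rec (fun _ => Nat) (Ptab_77) (Ptab_78) (Nat.ble 78 c)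
noncomputable def Ptab_s_76_79 (c : Nat) : Nat := @Bool.rec (fun _ => Nat) (Ptab_76) (Ptab_s_77_79 c) (Nat.ble 77 c)
noncomputable def Ptab_s_79_81 (c : Nat) : Nat := @Bool.rec (fun _ => Nat) (Ptab_79) (Ptab_80) (Nat.ble 80 c)
noncomputable def Ptab_s_81_83 (c : Nat) : Nat := @Bool.rec (fun _ => Nat) (Ptab_81) (Ptab_82) (Nat.ble 82 c)
noncomputable def Ptab_s_79_83 (c : Nat) : Nat := @Bool.rec (fun _ => Nat) (Ptab_s_79_81 c) (Ptab_s_81_83 c) (Nat.ble 81 c)
noncomputable def Ptab_s_76_83 (c : Nat) : Nat := @Bool.rec (fun _ => Nat) (Ptab_s_76_79 c) (Ptab_s_79_83 c) (Nat.ble 79 c)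
noncomputable def Ptab_s_83_85 (c : Nat) : Nat := @Bool.rec (fun _ => Nat) (Ptab_83) (Ptab_84) (Nat.ble 84 c)
noncomputable def Ptab_s_85_87 (c : Nat) : Nat := @Bool.rec (fun _ => Nat) (Ptab_85) (Ptab_86) (Nat.ble 86 c)
noncomputable def Ptab_s_83_87 (c : Nat) : Nat := @Bool.rec (fun _ => Nat) (Ptab_s_83_85 c) (Ptab_s_85_87 c) (Nat.ble 85 c)
noncomputable def Ptab_s_87_89 (c : Nat) : Nat := @Bool.rec (fun _ => Nat) (Ptab_87) (Ptab_88) (Nat.ble 88 c)
noncomputable def Ptab_s_89_91 (c : Nat) : Nat := @Bool.rec (fun _ => Nat) (Ptab_89) (Ptab_90) (Nat.ble 90 c)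
noncomputable def Ptab_s_87_91 (c : Nat) : Nat := @Bool.rec (fun _ => Nat) (Ptab_s_87_89 c) (Ptab_s_89_91 c) (Nat.ble 89 c)
noncomputable def Ptab_s_83_91 (c : Nat) : Nat := @Bool.rec (fun _ => Nat) (Ptab_s_83_87 c) (Ptab_s_87_91 c) (Nat.ble 87 c)
noncomputable def Ptab_s_76_91 (c : Nat) : Nat := @Bool.rec (fun _ => Nat) (Ptab_s_76_83 c) (Ptab_s_83_91 c) (Nat.ble 83 c)
noncomputable def Ptab_s_61_91 (c : Nat) : Nat := @Bool.rec (fun _ => Nat) (Ptab_s_61_76 c) (Ptab_s_76_91 c) (Nat.ble 76 c)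
noncomputable def Ptab_s_92_94 (c : Nat) : Nat := @Bool.rec (fun _ => Nat) (Ptab_92) (Ptab_93) (Nat.ble 93 c)
noncomputable def Ptab_s_91_94 (c : Nat) : Nat := @Bool.rec (fun _ => Nat) (Ptab_91) (Ptab_s_92_94 c) (Nat.ble 92 c)
noncomputable def Ptab_s_94_96 (c : Nat) : Nat := @Bool.rec (fun _ => Nat) (Ptab_94) (Ptab_95) (Nat.ble 95 c)
noncomputable def Ptab_s_96_98 (c : Nat) : Nat := @Bool.rec (fun _ => Nat) (Ptab_96) (Ptab_97) (Nat.ble 97 c)
noncomputable def Ptab_s_94_98 (c : Nat) : Nat := @Bool.rec (fun _ => Nat) (Ptab_s_94_96 c) (Ptab_s_96_98 c) (Nat.ble 96 c)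
noncomputable def Ptab_s_91_98 (c : Nat) : Nat := @Bool.rec (fun _ => Nat) (Ptab_s_91_94 c) (Ptab_s_94_98 c) (Nat.ble 94 c)
noncomputable def Ptab_s_98_100 (c : Nat) : Nat := @Bool.rec (fun _ => Nat) (Ptab_98) (Ptab_99) (Nat.ble 99 c)
noncomputable def Ptab_s_100_102 (c : Nat) : Nat := @Bool.rec (fun _ => Nat) (Ptab_100) (Ptab_101) (Nat.ble 101 c)
noncomputable def Ptab_s_98_102 (c : Nat) : Nat := @Bool.rec (fun _ => Nat) (Ptab_s_98_100 c) (Ptab_s_100_102 c) (Nat.ble 100 c)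
noncomputable def Ptab_s_102_104 (c : Nat) : Nat := @Bool.rec (fun _ => Nat) (Ptab_102) (Ptab_103) (Nat.ble 103 c)
noncomputable def Ptab_s_104_106 (c : Nat) : Nat := @Bool.rec (fun _ => Nat) (Ptab_104) (Ptab_105) (Nat.ble 105 c)
noncomputable def Ptab_s_102_106 (c : Nat) : Nat := @Bool.rec (fun _ => Nat) (Ptab_s_102_104 c) (Ptab_s_104_106 c) (Nat.ble 104 c)
noncomputable def Ptab_s_98_106 (c : Nat) : Nat := @Bool.rec (fun _ => Nat) (Ptab_s_98_102 c) (Ptab_s_102_106 c) (Nat.ble 102 c)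
noncomputable def Ptab_s_91_106 (c : Nat) : Nat := @Bool.rec (fun _ => Nat) (Ptab_s_91_98 c) (Ptab_s_98_106 c) (Nat.ble 98 c)
noncomputable def Ptab_s_106_108 (c : Nat) : Nat := @Bool.rec (fun _ => Nat) (Ptab_106) (Ptab_107) (Nat.ble 107 c)
noncomputable def Ptab_s_108_110 (c : Nat) : Nat := @Bool.rec (fun _ => Nat) (Ptab_108) (Ptab_109) (Nat.ble 109 c)
noncomputable def Ptab_s_106_110 (c : Nat) : Nat := @Bool.rec (fun _ => Nat) (Ptab_s_106_108 c) (Ptab_s_108_110 c) (Nat.ble 108 c)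
noncomputable def Ptab_s_110_112 (c : Nat) : Nat := @Bool.rec (fun _ => Nat) (Ptab_110) (Ptab_111) (Nat.ble 111 c)
noncomputable def Ptab_s_112_114 (c : Nat) : Nat := @Bool.rec (fun _ => Nat) (Ptab_112) (Ptab_113) (Nat.ble 113 c)
noncomputable def Ptab_s_110_114 (c : Nat) : Nat := @Bool.rec (fun _ => Nat) (Ptab_s_110_112 c) (Ptab_s_112_114 c) (Nat.ble 112 c)
noncomputable def Ptab_s_106_114 (c : Nat) : Nat := @Bool.rec (fun _ => Nat) (Ptab_s_106_110 c) (Ptab_s_110_114 c) (Nat.ble 110 c)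
noncomputable def Ptab_s_114_116 (c : Nat) : Nat := @Bool.rec (fun _ => Nat) (Ptab_114) (Ptab_115) (Nat.ble 115 c)
noncomputable def Ptab_s_116_118 (c : Nat) : Nat := @Bool.rec (fun _ => Nat) (Ptab_116) (Ptab_117) (Nat.ble 117 c)
noncomputable def Ptab_s_114_118 (c : Nat) : Nat := @Bool.rec (fun _ => Nat) (Ptab_s_114_116 c) (Ptab_s_116_118 c) (Nat.ble 116 c)
noncomputable def Ptab_s_118_120 (c : Nat) : Nat := @Bool.rec (fun _ => Nat) (Ptab_118) (Ptab_119) (Nat.ble 119 c)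
noncomputable def Ptab_s_120_122 (c : Nat) : Nat := @Bool.rec (fun _ => Nat) (Ptab_120) (Ptab_121) (Nat.ble 121 c)
noncomputable def Ptab_s_118_122 (c : Nat) : Nat := @Bool.rec (fun _ => Nat) (Ptab_s_118_120 c) (Ptab_s_120_122 c) (Nat.ble 120 c)
noncomputable def Ptab_s_114_122 (c : Nat) : Nat := @Bool.rec (fun _ => Nat) (Ptab_s_114_118 c) (Ptab_s_118_122 c) (Nat.ble 118 c)
noncomputable def Ptab_s_106_122 (c : Nat) : Nat := @Bool.rec (fun _ => Nat) (Ptab_s_106_114 c) (Ptab_s_114_122 c) (Nat.ble 114 c)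
noncomputable def Ptab_s_91_122 (c : Nat) : Nat := @Bool.rec (fun _ => Nat) (Ptab_s_91_106 c) (Ptab_s_106_122 c) (Nat.ble 106 c)
noncomputable def Ptab_s_61_122 (c : Nat) : Nat := @Bool.rec (fun _ => Nat) (Ptab_s_61_91 c) (Ptab_s_91_122 c) (Nat.ble 91 c)
noncomputable def Ptab_s_0_122 (c : Nat) : Nat := @Bool.rec (fun _ => Nat) (Ptab_s_0_61 c) (Ptab_s_61_122 c) (Nat.ble 61 c)
noncomputable def Ptab_s_123_125 (c : Nat) : Nat := @Bool.rec (fun _ => Nat) (Ptab_123) (Ptab_124) (Nat.ble 124 c)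
noncomputable def Ptab_s_122_125 (c : Nat) : Nat := @Bool.rec (fun _ => Nat) (Ptab_122) (Ptab_s_123_125 c) (Nat.ble 123 c)
noncomputable def Ptab_s_125_127 (c : Nat) : Nat := @Bool.rec (fun _ => Nat) (Ptab_125) (Ptab_126) (Nat.ble 126 c)
noncomputable def Ptab_s_127_129 (c : Nat) : Nat := @Bool.rec (fun _ => Nat) (Ptab_127) (Ptab_128) (Nat.ble 128 c)
noncomputable def Ptab_s_125_129 (c : Nat) : Nat := @Bool.rec (fun _ => Nat) (Ptab_s_125_127 c) (Ptab_s_127_129 c) (Nat.ble 127 c)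
noncomputable def Ptab_s_122_129 (c : Nat) : Nat := @Bool.rec (fun _ => Nat) (Ptab_s_122_125 c) (Ptab_s_125_129 c) (Nat.ble 125 c)
noncomputable def Ptab_s_129_131 (c : Nat) : Nat := @Bool.rec (fun _ => Nat) (Ptab_129) (Ptab_130) (Nat.ble 130 c)
noncomputable def Ptab_s_131_133 (c : Nat) : Nat := @Bool.rec (fun _ => Nat) (Ptab_131) (Ptab_132) (Nat.ble 132 c)
noncomputable def Ptab_s_129_133 (c : Nat) : Nat := @Bool.rec (fun _ => Nat) (Ptab_s_129_131 c) (Ptab_s_131_133 c) (Nat.ble 131 c)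
noncomputable def Ptab_s_133_135 (c : Nat) : Nat := @Bool.rec (fun _ => Nat) (Ptab_133) (Ptab_134) (Nat.ble 134 c)
noncomputable def Ptab_s_135_137 (c : Nat) : Nat := @Bool.rec (fun _ => Nat) (Ptab_135) (Ptab_136) (Nat.ble 136 c)
noncomputable def Ptab_s_133_137 (c : Nat) : Nat := @Bool.rec (fun _ => Nat) (Ptab_s_133_135 c) (Ptab_s_135_137 c) (Nat.ble 135 c)
noncomputable def Ptab_s_129_137 (c : Nat) : Nat := @Bool.rec (fun _ => Nat) (Ptab_s_129_133 c) (Ptab_s_133_137 c) (Nat.ble 133 c)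
noncomputable def Ptab_s_122_137 (c : Nat) : Nat := @Bool.rec (fun _ => Nat) (Ptab_s_122_129 c) (Ptab_s_129_137 c) (Nat.ble 129 c)
noncomputable def Ptab_s_138_140 (c : Nat) : Nat := @Bool.rec (fun _ => Nat) (Ptab_138) (Ptab_139) (Nat.ble 139 c)
noncomputable def Ptab_s_137_140 (c : Nat) : Nat := @Bool.rec (fun _ => Nat) (Ptab_137) (Ptab_s_138_140 c) (Nat.ble 138 c)
noncomputable def Ptab_s_140_142 (c : Nat) : Nat := @Bool.rec (fun _ => Nat) (Ptab_140) (Ptab_141) (Nat.ble 141 c)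
noncomputable def Ptab_s_142_144 (c : Nat) : Nat := @Bool.rec (fun _ => Nat) (Ptab_142) (Ptab_143) (Nat.ble 143 c)
noncomputable def Ptab_s_140_144 (c : Nat) : Nat := @Bool.rec (fun _ => Nat) (Ptab_s_140_142 c) (Ptab_s_142_144 c) (Nat.ble 142 c)
noncomputable def Ptab_s_137_144 (c : Nat) : Nat := @Bool.rec (fun _ => Nat) (Ptab_s_137_140 c) (Ptab_s_140_144 c) (Nat.ble 140 c)
noncomputable def Ptab_s_144_146 (c : Nat) : Nat := @Bool.rec (fun _ => Nat) (Ptab_144) (Ptab_145) (Nat.ble 145 c)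
noncomputable def Ptab_s_146_148 (c : Nat) : Nat := @Bool.rec (fun _ => Nat) (Ptab_146) (Ptab_147) (Nat.ble 147 c)
noncomputable def Ptab_s_144_148 (c : Nat) : Nat := @Bool.rec (fun _ => Nat) (Ptab_s_144_146 c) (Ptab_s_146_148 c) (Nat.ble 146 c)
noncomputable def Ptab_s_148_150 (c : Nat) : Nat := @Bool.rec (fun _ => Nat) (Ptab_148) (Ptab_149) (Nat.ble 149 c)
noncomputable def Ptab_s_150_152 (c : Nat) : Nat := @Bool.rec (fun _ => Nat) (Ptab_150) (Ptab_151) (Nat.ble 151 c)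
noncomputable def Ptab_s_148_152 (c : Nat) : Nat := @Bool.rec (fun _ => Nat) (Ptab_s_148_150 c) (Ptab_s_150_152 c) (Nat.ble 150 c)
noncomputable def Ptab_s_144_152 (c : Nat) : Nat := @Bool.rec (fun _ => Nat) (Ptab_s_144_148 c) (Ptab_s_148_152 c) (Nat.ble 148 c)
noncomputable def Ptab_s_137_152 (c : Nat) : Nat := @Bool.rec (fun _ => Nat) (Ptab_s_137_144 c) (Ptab_s_144_152 c) (Nat.ble 144 c)
noncomputable def Ptab_s_122_152 (c : Nat) : Nat := @Bool.rec (fun _ => Nat) (Ptab_s_122_137 c) (Ptab_s_137_152 c) (Nat.ble 137 c)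
noncomputable def Ptab_s_153_155 (c : Nat) : Nat := @Bool.rec (fun _ => Nat) (Ptab_153) (Ptab_154) (Nat.ble 154 c)
noncomputable def Ptab_s_152_155 (c : Nat) : Nat := @Bool.rec (fun _ => Nat) (Ptab_152) (Ptab_s_153_155 c) (Nat.ble 153 c)
noncomputable def Ptab_s_155_157 (c : Nat) : Nat := @Bool.rec (fun _ => Nat) (Ptab_155) (Ptab_156) (Nat.ble 156 c)
noncomputable def Ptab_s_157_159 (c : Nat) : Nat := @Bool.rec (fun _ => Nat) (Ptab_157) (Ptab_158) (Nat.ble 158 c)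
noncomputable def Ptab_s_155_159 (c : Nat) : Nat := @Bool.rec (fun _ => Nat) (Ptab_s_155_157 c) (Ptab_s_157_159 c) (Nat.ble 157 c)
noncomputable def Ptab_s_152_159 (c : Nat) : Nat := @Bool.rec (fun _ => Nat) (Ptab_s_152_155 c) (Ptab_s_155_159 c) (Nat.ble 155 c)
noncomputable def Ptab_s_159_161 (c : Nat) : Nat := @Bool.rec (fun _ => Nat) (Ptab_159) (Ptab_160) (Nat.ble 160 c)
noncomputable def Ptab_s_161_163 (c : Nat) : Nat := @Bool.rec (fun _ => Nat) (Ptab_161) (Ptab_162) (Nat.ble 162 c)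
noncomputable def Ptab_s_159_163 (c : Nat) : Nat := @Bool.rec (fun _ => Nat) (Ptab_s_159_161 c) (Ptab_s_161_163 c) (Nat.ble 161 c)
noncomputable def Ptab_s_163_165 (c : Nat) : Nat := @Bool.rec (fun _ => Nat) (Ptab_163) (Ptab_164) (Nat.ble 164 c)
noncomputable def Ptab_s_165_167 (c : Nat) : Nat := @Bool.rec (fun _ => Nat) (Ptab_165) (Ptab_166) (Nat.ble 166 c)
noncomputable def Ptab_s_163_167 (c : Nat) : Nat := @Bool.rec (fun _ => Nat) (Ptab_s_163_165 c) (Ptab_s_165_167 c) (Nat.ble 165 c)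
noncomputable def Ptab_s_159_167 (c : Nat) : Nat := @Bool.rec (fun _ => Nat) (Ptab_s_159_163 c) (Ptab_s_163_167 c) (Nat.ble 163 c)
noncomputable def Ptab_s_152_167 (c : Nat) : Nat := @Bool.rec (fun _ => Nat) (Ptab_s_152_159 c) (Ptab_s_159_167 c) (Nat.ble 159 c)
noncomputable def Ptab_s_167_169 (c : Nat) : Nat := @Bool.rec (fun _ => Nat) (Ptab_167) (Ptab_168) (Nat.ble 168 c)
noncomputable def Ptab_s_169_171 (c : Nat) : Nat := @Bool.rec (fun _ => Nat) (Ptab_169) (Ptab_170) (Nat.ble 170 c)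
noncomputable def Ptab_s_167_171 (c : Nat) : Nat := @Bool.rec (fun _ => Nat) (Ptab_s_167_169 c) (Ptab_s_169_171 c) (Nat.ble 169 c)
noncomputable def Ptab_s_171_173 (c : Nat) : Nat := @Bool.rec (fun _ => Nat) (Ptab_171) (Ptab_172) (Nat.ble 172 c)
noncomputable def Ptab_s_173_175 (c : Nat) : Nat := @Bool.rec (fun _ => Nat) (Ptab_173) (Ptab_174) (Nat.ble 174 c)
noncomputable def Ptab_s_171_175 (c : Nat) : Nat := @Bool.rec (fun _ => Nat) (Ptab_s_171_173 c) (Ptab_s_173_175 c) (Nat.ble 173 c)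
noncomputable def Ptab_s_167_175 (c : Nat) : Nat := @Bool.rec (fun _ => Nat) (Ptab_s_167_171 c) (Ptab_s_171_175 c) (Nat.ble 171 c)
noncomputable def Ptab_s_175_177 (c : Nat) : Nat := @Bool.rec (fun _ => Nat) (Ptab_175) (Ptab_176) (Nat.ble 176 c)
noncomputable def Ptab_s_177_179 (c : Nat) : Nat := @Bool.rec (fun _ => Nat) (Ptab_177) (Ptab_178) (Nat.ble 178 c)
noncomputable def Ptab_s_175_179 (c : Nat) : Nat := @Bool.rec (fun _ => Nat) (Ptab_s_175_177 c) (Ptab_s_177_179 c) (Nat.ble 177 c)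
noncomputable def Ptab_s_179_181 (c : Nat) : Nat := @Bool.rec (fun _ => Nat) (Ptab_179) (Ptab_180) (Nat.ble 180 c)
noncomputable def Ptab_s_181_183 (c : Nat) : Nat := @Bool.rec (fun _ => Nat) (Ptab_181) (Ptab_182) (Nat.ble 182 c)
noncomputable def Ptab_s_179_183 (c : Nat) : Nat := @Bool.rec (fun _ => Nat) (Ptab_s_179_181 c) (Ptab_s_181_183 c) (Nat.ble 181 c)
noncomputable def Ptab_s_175_183 (c : Nat) : Nat := @Bool.rec (fun _ => Nat) (Ptab_s_175_179 c) (Ptab_s_179_183 c) (Nat.ble 179 c)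
noncomputable def Ptab_s_167_183 (c : Nat) : Nat := @Bool.rec (fun _ => Nat) (Ptab_s_167_175 c) (Ptab_s_175_183 c) (Nat.ble 175 c)
noncomputable def Ptab_s_152_183 (c : Nat) : Nat := @Bool.rec (fun _ => Nat) (Ptab_s_152_167 c) (Ptab_s_167_183 c) (Nat.ble 167 c)
noncomputable def Ptab_s_122_183 (c : Nat) : Nat := @Bool.rec (fun _ => Nat) (Ptab_s_122_152 c) (Ptab_s_152_183 c) (Nat.ble 152 c)
noncomputable def Ptab_s_184_186 (c : Nat) : Nat := @Bool.rec (fun _ => Nat) (Ptab_184) (Ptab_185) (Nat.ble 185 c)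
noncomputable def Ptab_s_183_186 (c : Nat) : Nat := @Bool.rec (fun _ => Nat) (Ptab_183) (Ptab_s_184_186 c) (Nat.ble 184 c)
noncomputable def Ptab_s_186_188 (c : Nat) : Nat := @Bool.rec (fun _ => Nat) (Ptab_186) (Ptab_187) (Nat.ble 187 c)
noncomputable def Ptab_s_188_190 (c : Nat) : Nat := @Bool.rec (fun _ => Nat) (Ptab_188) (Ptab_189) (Nat.ble 189 c)
noncomputable def Ptab_s_186_190 (c : Nat) : Nat := @Bool.rec (fun _ => Nat) (Ptab_s_186_188 c) (Ptab_s_188_190 c) (Nat.ble 188 c)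
noncomputable def Ptab_s_183_190 (c : Nat) : Nat := @Bool.rec (fun _ => Nat) (Ptab_s_183_186 c) (Ptab_s_186_190 c) (Nat.ble 186 c)
noncomputable def Ptab_s_190_192 (c : Nat) : Nat := @Bool.rec (fun _ => Nat) (Ptab_190) (Ptab_191) (Nat.ble 191 c)
noncomputable def Ptab_s_192_194 (c : Nat) : Nat := @Bool.rec (fun _ => Nat) (Ptab_192) (Ptab_193) (Nat.ble 193 c)
noncomputable def Ptab_s_190_194 (c : Nat) : Nat := @Bool.rec (fun _ => Nat) (Ptab_s_190_192 c) (Ptab_s_192_194 c) (Nat.ble 192 c)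
noncomputable def Ptab_s_194_196 (c : Nat) : Nat := @Bool.rec (fun _ => Nat) (Ptab_194) (Ptab_195) (Nat.ble 195 c)
noncomputable def Ptab_s_196_198 (c : Nat) : Nat := @Bool.rec (fun _ => Nat) (Ptab_196) (Ptab_197) (Nat.ble 197 c)
noncomputable def Ptab_s_194_198 (c : Nat) : Nat := @Bool.rec (fun _ => Nat) (Ptab_s_194_196 c) (Ptab_s_196_198 c) (Nat.ble 196 c)
noncomputable def Ptab_s_190_198 (c : Nat) : Nat := @Bool.rec (fun _ => Nat) (Ptab_s_190_194 c) (Ptab_s_194_198 c) (Nat.ble 194 c)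
noncomputable def Ptab_s_183_198 (c : Nat) : Nat := @Bool.rec (fun _ => Nat) (Ptab_s_183_190 c) (Ptab_s_190_198 c) (Nat.ble 190 c)
noncomputable def Ptab_s_198_200 (c : Nat) : Nat := @Bool.rec (fun _ => Nat) (Ptab_198) (Ptab_199) (Nat.ble 199 c)
noncomputable def Ptab_s_200_202 (c : Nat) : Nat := @Bool.rec (fun _ => Nat) (Ptab_200) (Ptab_201) (Nat.ble 201 c)
noncomputable def Ptab_s_198_202 (c : Nat) : Nat := @Bool.rec (fun _ => Nat) (Ptab_s_198_200 c) (Ptab_s_200_202 c) (Nat.ble 200 c)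
noncomputable def Ptab_s_202_204 (c : Nat) : Nat := @Bool.rec (fun _ => Nat) (Ptab_202) (Ptab_203) (Nat.ble 203 c)
noncomputable def Ptab_s_204_206 (c : Nat) : Nat := @Bool.rec (fun _ => Nat) (Ptab_204) (Ptab_205) (Nat.ble 205 c)
noncomputable def Ptab_s_202_206 (c : Nat) : Nat := @Bool.rec (fun _ => Nat) (Ptab_s_202_204 c) (Ptab_s_204_206 c) (Nat.ble 204 c)
noncomputable def Ptab_s_198_206 (c : Nat) : Nat := @Bool.rec (fun _ => Nat) (Ptab_s_198_202 c) (Ptab_s_202_206 c) (Nat.ble 202 c)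
noncomputable def Ptab_s_206_208 (c : Nat) : Nat := @Bool.rec (fun _ => Nat) (Ptab_206) (Ptab_207) (Nat.ble 207 c)
noncomputable def Ptab_s_208_210 (c : Nat) : Nat := @Bool.rec (fun _ => Nat) (Ptab_208) (Ptab_209) (Nat.ble 209 c)
noncomputable def Ptab_s_206_210 (c : Nat) : Nat := @Bool.rec (fun _ => Nat) (Ptab_s_206_208 c) (Ptab_s_208_210 c) (Nat.ble 208 c)
noncomputable def Ptab_s_210_212 (c : Nat) : Nat := @Bool.rec (fun _ => Nat) (Ptab_210) (Ptab_211) (Nat.ble 211 c)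
noncomputable def Ptab_s_212_214 (c : Nat) : Nat := @Bool.rec (fun _ => Nat) (Ptab_212) (Ptab_213) (Nat.ble 213 c)
noncomputable def Ptab_s_210_214 (c : Nat) : Nat := @Bool.rec (fun _ => Nat) (Ptab_s_210_212 c) (Ptab_s_212_214 c) (Nat.ble 212 c)
noncomputable def Ptab_s_206_214 (c : Nat) : Nat := @Bool.rec (fun _ => Nat) (Ptab_s_206_210 c) (Ptab_s_210_214 c) (Nat.ble 210 c)
noncomputable def Ptab_s_198_214 (c : Nat) : Nat := @Bool.rec (fun _ => Nat) (Ptab_s_198_206 c) (Ptab_s_206_214 c) (Nat.ble 206 c)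
noncomputable def Ptab_s_183_214 (c : Nat) : Nat := @Bool.rec (fun _ => Nat) (Ptab_s_183_198 c) (Ptab_s_198_214 c) (Nat.ble 198 c)
noncomputable def Ptab_s_215_217 (c : Nat) : Nat := @Bool.rec (fun _ => Nat) (Ptab_215) (Ptab_216) (Nat.ble 216 c)
noncomputable def Ptab_s_214_217 (c : Nat) : Nat := @Bool.rec (fun _ => Nat) (Ptab_214) (Ptab_s_215_217 c) (Nat.ble 215 c)
noncomputable def Ptab_s_217_219 (c : Nat) : Nat := @Bool.rec (fun _ => Nat) (Ptab_217) (Ptab_218) (Nat.ble 218 c)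
noncomputable def Ptab_s_219_221 (c : Nat) : Nat := @Bool.rec (fun _ => Nat) (Ptab_219) (Ptab_220) (Nat.ble 220 c)
noncomputable def Ptab_s_217_221 (c : Nat) : Nat := @Bool.rec (fun _ => Nat) (Ptab_s_217_219 c) (Ptab_s_219_221 c) (Nat.ble 219 c)
noncomputable def Ptab_s_214_221 (c : Nat) : Nat := @Bool.rec (fun _ => Nat) (Ptab_s_214_217 c) (Ptab_s_217_221 c) (Nat.ble 217 c)
noncomputable def Ptab_s_221_223 (c : Nat) : Nat := @Bool.rec (fun _ => Nat) (Ptab_221) (Ptab_222) (Nat.ble 222 c)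
noncomputable def Ptab_s_223_225 (c : Nat) : Nat := @Bool.rec (fun _ => Nat) (Ptab_223) (Ptab_224) (Nat.ble 224 c)
noncomputable def Ptab_s_221_225 (c : Nat) : Nat := @Bool.rec (fun _ => Nat) (Ptab_s_221_223 c) (Ptab_s_223_225 c) (Nat.ble 223 c)
noncomputable def Ptab_s_225_227 (c : Nat) : Nat := @Bool.rec (fun _ => Nat) (Ptab_225) (Ptab_226) (Nat.ble 226 c)
noncomputable def Ptab_s_227_229 (c : Nat) : Nat := @Bool.rec (fun _ => Nat) (Ptab_227) (Ptab_228) (Nat.ble 228 c)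
noncomputable def Ptab_s_225_229 (c : Nat) : Nat := @Bool.rec (fun _ => Nat) (Ptab_s_225_227 c) (Ptab_s_227_229 c) (Nat.ble 227 c)
noncomputable def Ptab_s_221_229 (c : Nat) : Nat := @Bool.rec (fun _ => Nat) (Ptab_s_221_225 c) (Ptab_s_225_229 c) (Nat.ble 225 c)
noncomputable def Ptab_s_214_229 (c : Nat) : Nat := @Bool.rec (fun _ => Nat) (Ptab_s_214_221 c) (Ptab_s_221_229 c) (Nat.ble 221 c)
noncomputable def Ptab_s_229_231 (c : Nat) : Nat := @Bool.rec (fun _ => Nat) (Ptab_229) (Ptab_230) (Nat.ble 230 c)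
noncomputable def Ptab_s_231_233 (c : Nat) : Nat := @Bool.rec (fun _ => Nat) (Ptab_231) (Ptab_232) (Nat.ble 232 c)
noncomputable def Ptab_s_229_233 (c : Nat) : Nat := @Bool.rec (fun _ => Nat) (Ptab_s_229_231 c) (Ptab_s_231_233 c) (Nat.ble 231 c)
noncomputable def Ptab_s_233_235 (c : Nat) : Nat := @Bool.rec (fun _ => Nat) (Ptab_233) (Ptab_234) (Nat.ble 234 c)
noncomputable def Ptab_s_235_237 (c : Nat) : Nat := @Bool.rec (fun _ => Nat) (Ptab_235) (Ptab_236) (Nat.ble 236 c)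
noncomputable def Ptab_s_233_237 (c : Nat) : Nat := @Bool.rec (fun _ => Nat) (Ptab_s_233_235 c) (Ptab_s_235_237 c) (Nat.ble 235 c)
noncomputable def Ptab_s_229_237 (c : Nat) : Nat := @Bool.rec (fun _ => Nat) (Ptab_s_229_233 c) (Ptab_s_233_237 c) (Nat.ble 233 c)
noncomputable def Ptab_s_237_239 (c : Nat) : Nat := @Bool.rec (fun _ => Nat) (Ptab_237) (Ptab_238) (Nat.ble 238 c)
noncomputable def Ptab_s_239_241 (c : Nat) : Nat := @Bool.rec (fun _ => Nat) (Ptab_239) (Ptab_240) (Nat.ble 240 c)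
noncomputable def Ptab_s_237_241 (c : Nat) : Nat := @Bool.rec (fun _ => Nat) (Ptab_s_237_239 c) (Ptab_s_239_241 c) (Nat.ble 239 c)
noncomputable def Ptab_s_241_243 (c : Nat) : Nat := @Bool.rec (fun _ => Nat) (Ptab_241) (Ptab_242) (Nat.ble 242 c)
noncomputable def Ptab_s_243_245 (c : Nat) : Nat := @Bool.rec (fun _ => Nat) (Ptab_243) (Ptab_244) (Nat.ble 244 c)
noncomputable def Ptab_s_241_245 (c : Nat) : Nat := @Bool.rec (fun _ => Nat) (Ptab_s_241_243 c) (Ptab_s_243_245 c) (Nat.ble 243 c)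
noncomputable def Ptab_s_237_245 (c : Nat) : Nat := @Bool.rec (fun _ => Nat) (Ptab_s_237_241 c) (Ptab_s_241_245 c) (Nat.ble 241 c)
noncomputable def Ptab_s_229_245 (c : Nat) : Nat := @Bool.rec (fun _ => Nat) (Ptab_s_229_237 c) (Ptab_s_237_245 c) (Nat.ble 237 c)
noncomputable def Ptab_s_214_245 (c : Nat) : Nat := @Bool.rec (fun _ => Nat) (Ptab_s_214_229 c) (Ptab_s_229_245 c) (Nat.ble 229 c)
noncomputable def Ptab_s_183_245 (c : Nat) : Nat := @Bool.rec (fun _ => Nat) (Ptab_s_183_214 c) (Ptab_s_214_245 c) (Nat.ble 214 c)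
noncomputable def Ptab_s_122_245 (c : Nat) : Nat := @Bool.rec (fun _ => Nat) (Ptab_s_122_183 c) (Ptab_s_183_245 c) (Nat.ble 183 c)
noncomputable def Ptab_s_0_245 (c : Nat) : Nat := @Bool.rec (fun _ => Nat) (Ptab_s_0_122 c) (Ptab_s_122_245 c) (Nat.ble 122 c)
noncomputable def Ptab_s_246_248 (c : Nat) : Nat := @Bool.rec (fun _ => Nat) (Ptab_246) (Ptab_247) (Nat.ble 247 c)
noncomputable def Ptab_s_245_248 (c : Nat) : Nat := @Bool.rec (fun _ => Nat) (Ptab_245) (Ptab_s_246_248 c) (Nat.ble 246 c)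
noncomputable def Ptab_s_248_250 (c : Nat) : Nat := @Bool.rec (fun _ => Nat) (Ptab_248) (Ptab_249) (Nat.ble 249 c)
noncomputable def Ptab_s_250_252 (c : Nat) : Nat := @Bool.rec (fun _ => Nat) (Ptab_250) (Ptab_251) (Nat.ble 251 c)
noncomputable def Ptab_s_248_252 (c : Nat) : Nat := @Bool.rec (fun _ => Nat) (Ptab_s_248_250 c) (Ptab_s_250_252 c) (Nat.ble 250 c)
noncomputable def Ptab_s_245_252 (c : Nat) : Nat := @Bool.rec (fun _ => Nat) (Ptab_s_245_248 c) (Ptab_s_248_252 c) (Nat.ble 248 c)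
noncomputable def Ptab_s_252_254 (c : Nat) : Nat := @Bool.rec (fun _ => Nat) (Ptab_252) (Ptab_253) (Nat.ble 253 c)
noncomputable def Ptab_s_254_256 (c : Nat) : Nat := @Bool.rec (fun _ => Nat) (Ptab_254) (Ptab_255) (Nat.ble 255 c)
noncomputable def Ptab_s_252_256 (c : Nat) : Nat := @Bool.rec (fun _ => Nat) (Ptab_s_252_254 c) (Ptab_s_254_256 c) (Nat.ble 254 c)
noncomputable def Ptab_s_256_258 (c : Nat) : Nat := @Bool.rec (fun _ => Nat) (Ptab_256) (Ptab_257) (Nat.ble 257 c)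
noncomputable def Ptab_s_258_260 (c : Nat) : Nat := @Bool.rec (fun _ => Nat) (Ptab_258) (Ptab_259) (Nat.ble 259 c)
noncomputable def Ptab_s_256_260 (c : Nat) : Nat := @Bool.rec (fun _ => Nat) (Ptab_s_256_258 c) (Ptab_s_258_260 c) (Nat.ble 258 c)
noncomputable def Ptab_s_252_260 (c : Nat) : Nat := @Bool.rec (fun _ => Nat) (Ptab_s_252_256 c) (Ptab_s_256_260 c) (Nat.ble 256 c)
noncomputable def Ptab_s_245_260 (c : Nat) : Nat := @Bool.rec (fun _ => Nat) (Ptab_s_245_252 c) (Ptab_s_252_260 c) (Nat.ble 252 c)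
noncomputable def Ptab_s_261_263 (c : Nat) : Nat := @Bool.rec (fun _ => Nat) (Ptab_261) (Ptab_262) (Nat.ble 262 c)
noncomputable def Ptab_s_260_263 (c : Nat) : Nat := @Bool.rec (fun _ => Nat) (Ptab_260) (Ptab_s_261_263 c) (Nat.ble 261 c)
noncomputable def Ptab_s_263_265 (c : Nat) : Nat := @Bool.rec (fun _ => Nat) (Ptab_263) (Ptab_264) (Nat.ble 264 c)
noncomputable def Ptab_s_265_267 (c : Nat) : Nat := @Bool.rec (fun _ => Nat) (Ptab_265) (Ptab_266) (Nat.ble 266 c)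
noncomputable def Ptab_s_263_267 (c : Nat) : Nat := @Bool.rec (fun _ => Nat) (Ptab_s_263_265 c) (Ptab_s_265_267 c) (Nat.ble 265 c)
noncomputable def Ptab_s_260_267 (c : Nat) : Nat := @Bool.rec (fun _ => Nat) (Ptab_s_260_263 c) (Ptab_s_263_267 c) (Nat.ble 263 c)
noncomputable def Ptab_s_267_269 (c : Nat) : Nat := @Bool.rec (fun _ => Nat) (Ptab_267) (Ptab_268) (Nat.ble 268 c)
noncomputable def Ptab_s_269_271 (c : Nat) : Nat := @Bool.rec (fun _ => Nat) (Ptab_269) (Ptab_270) (Nat.ble 270 c)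
noncomputable def Ptab_s_267_271 (c : Nat) : Nat := @Bool.rec (fun _ => Nat) (Ptab_s_267_269 c) (Ptab_s_269_271 c) (Nat.ble 269 c)
noncomputable def Ptab_s_271_273 (c : Nat) : Nat := @Bool.rec (fun _ => Nat) (Ptab_271) (Ptab_272) (Nat.ble 272 c)
noncomputable def Ptab_s_273_275 (c : Nat) : Nat := @Bool.rec (fun _ => Nat) (Ptab_273) (Ptab_274) (Nat.ble 274 c)
noncomputable def Ptab_s_271_275 (c : Nat) : Nat := @Bool.rec (fun _ => Nat) (Ptab_s_271_273 c) (Ptab_s_273_275 c) (Nat.ble 273 c)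
noncomputable def Ptab_s_267_275 (c : Nat) : Nat := @Bool.rec (fun _ => Nat) (Ptab_s_267_271 c) (Ptab_s_271_275 c) (Nat.ble 271 c)
noncomputable def Ptab_s_260_275 (c : Nat) : Nat := @Bool.rec (fun _ => Nat) (Ptab_s_260_267 c) (Ptab_s_267_275 c) (Nat.ble 267 c)
noncomputable def Ptab_s_245_275 (c : Nat) : Nat := @Bool.rec (fun _ => Nat) (Ptab_s_245_260 c) (Ptab_s_260_275 c) (Nat.ble 260 c)
noncomputable def Ptab_s_276_278 (c : Nat) : Nat := @Bool.rec (fun _ => Nat) (Ptab_276) (Ptab_277) (Nat.ble 277 c)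
noncomputable def Ptab_s_275_278 (c : Nat) : Nat := @Bool.rec (fun _ => Nat) (Ptab_275) (Ptab_s_276_278 c) (Nat.ble 276 c)
noncomputable def Ptab_s_278_280 (c : Nat) : Nat := @Bool.rec (fun _ => Nat) (Ptab_278) (Ptab_279) (Nat.ble 279 c)
noncomputable def Ptab_s_280_282 (c : Nat) : Nat := @Bool.rec (fun _ => Nat) (Ptab_280) (Ptab_281) (Nat.ble 281 c)
noncomputable def Ptab_s_278_282 (c : Nat) : Nat := @Bool.rec (fun _ => Nat) (Ptab_s_278_280 c) (Ptab_s_280_282 c) (Nat.ble 280 c)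
noncomputable def Ptab_s_275_282 (c : Nat) : Nat := @Bool.rec (fun _ => Nat) (Ptab_s_275_278 c) (Ptab_s_278_282 c) (Nat.ble 278 c)
noncomputable def Ptab_s_282_284 (c : Nat) : Nat := @Bool.rec (fun _ => Nat) (Ptab_282) (Ptab_283) (Nat.ble 283 c)
noncomputable def Ptab_s_284_286 (c : Nat) : Nat := @Bool.rec (fun _ => Nat) (Ptab_284) (Ptab_285) (Nat.ble 285 c)
noncomputable def Ptab_s_282_286 (c : Nat) : Nat := @Bool.rec (fun _ => Nat) (Ptab_s_282_284 c) (Ptab_s_284_286 c) (Nat.ble 284 c)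
noncomputable def Ptab_s_286_288 (c : Nat) : Nat := @Bool.rec (fun _ => Nat) (Ptab_286) (Ptab_287) (Nat.ble 287 c)
noncomputable def Ptab_s_288_290 (c : Nat) : Nat := @Bool.rec (fun _ => Nat) (Ptab_288) (Ptab_289) (Nat.ble 289 c)
noncomputable def Ptab_s_286_290 (c : Nat) : Nat := @Bool.rec (fun _ => Nat) (Ptab_s_286_288 c) (Ptab_s_288_290 c) (Nat.ble 288 c)
noncomputable def Ptab_s_282_290 (c : Nat) : Nat := @Bool.rec (fun _ => Nat) (Ptab_s_282_286 c) (Ptab_s_286_290 c) (Nat.ble 286 c)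
noncomputable def Ptab_s_275_290 (c : Nat) : Nat := @Bool.rec (fun _ => Nat) (Ptab_s_275_282 c) (Ptab_s_282_290 c) (Nat.ble 282 c)
noncomputable def Ptab_s_290_292 (c : Nat) : Nat := @Bool.rec (fun _ => Nat) (Ptab_290) (Ptab_291) (Nat.ble 291 c)
noncomputable def Ptab_s_292_294 (c : Nat) : Nat := @Bool.rec (fun _ => Nat) (Ptab_292) (Ptab_293) (Nat.ble 293 c)
noncomputable def Ptab_s_290_294 (c : Nat) : Nat := @Bool.rec (fun _ => Nat) (Ptab_s_290_292 c) (Ptab_s_292_294 c) (Nat.ble 292 c)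
noncomputable def Ptab_s_294_296 (c : Nat) : Nat := @Bool.rec (fun _ => Nat) (Ptab_294) (Ptab_295) (Nat.ble 295 c)
noncomputable def Ptab_s_296_298 (c : Nat) : Nat := @Bool.rec (fun _ => Nat) (Ptab_296) (Ptab_297) (Nat.ble 297 c)
noncomputable def Ptab_s_294_298 (c : Nat) : Nat := @Bool.rec (fun _ => Nat) (Ptab_s_294_296 c) (Ptab_s_296_298 c) (Nat.ble 296 c)
noncomputable def Ptab_s_290_298 (c : Nat) : Nat := @Bool.rec (fun _ => Nat) (Ptab_s_290_294 c) (Ptab_s_294_298 c) (Nat.ble 294 c)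
noncomputable def Ptab_s_298_300 (c : Nat) : Nat := @Bool.rec (fun _ => Nat) (Ptab_298) (Ptab_299) (Nat.ble 299 c)
noncomputable def Ptab_s_300_302 (c : Nat) : Nat := @Bool.rec (fun _ => Nat) (Ptab_300) (Ptab_301) (Nat.ble 301 c)
noncomputable def Ptab_s_298_302 (c : Nat) : Nat := @Bool.rec (fun _ => Nat) (Ptab_s_298_300 c) (Ptab_s_300_302 c) (Nat.ble 300 c)
noncomputable def Ptab_s_302_304 (c : Nat) : Nat := @Bool.rec (fun _ => Nat) (Ptab_302) (Ptab_303) (Nat.ble 303 c)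
noncomputable def Ptab_s_304_306 (c : Nat) : Nat := @Bool.rec (fun _ => Nat) (Ptab_304) (Ptab_305) (Nat.ble 305 c)
noncomputable def Ptab_s_302_306 (c : Nat) : Nat := @Bool.rec (fun _ => Nat) (Ptab_s_302_304 c) (Ptab_s_304_306 c) (Nat.ble 304 c)
noncomputable def Ptab_s_298_306 (c : Nat) : Nat := @Bool.rec (fun _ => Nat) (Ptab_s_298_302 c) (Ptab_s_302_306 c) (Nat.ble 302 c)
noncomputable def Ptab_s_290_306 (c : Nat) : Nat := @Bool.rec (fun _ => Nat) (Ptab_s_290_298 c) (Ptab_s_298_306 c) (Nat.ble 298 c)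
noncomputable def Ptab_s_275_306 (c : Nat) : Nat := @Bool.rec (fun _ => Nat) (Ptab_s_275_290 c) (Ptab_s_290_306 c) (Nat.ble 290 c)
noncomputable def Ptab_s_245_306 (c : Nat) : Nat := @Bool.rec (fun _ => Nat) (Ptab_s_245_275 c) (Ptab_s_275_306 c) (Nat.ble 275 c)
noncomputable def Ptab_s_307_309 (c : Nat) : Nat := @Bool.rec (fun _ => Nat) (Ptab_307) (Ptab_308) (Nat.ble 308 c)
noncomputable def Ptab_s_306_309 (c : Nat) : Nat := @Bool.rec (fun _ => Nat) (Ptab_306) (Ptab_s_307_309 c) (Nat.ble 307 c)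
noncomputable def Ptab_s_309_311 (c : Nat) : Nat := @Bool.rec (fun _ => Nat) (Ptab_309) (Ptab_310) (Nat.ble 310 c)
noncomputable def Ptab_s_311_313 (c : Nat) : Nat := @Bool.rec (fun _ => Nat) (Ptab_311) (Ptab_312) (Nat.ble 312 c)
noncomputable def Ptab_s_309_313 (c : Nat) : Nat := @Bool.rec (fun _ => Nat) (Ptab_s_309_311 c) (Ptab_s_311_313 c) (Nat.ble 311 c)
noncomputable def Ptab_s_306_313 (c : Nat) : Nat := @Bool.rec (fun _ => Nat) (Ptab_s_306_309 c) (Ptab_s_309_313 c) (Nat.ble 309 c)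
noncomputable def Ptab_s_313_315 (c : Nat) : Nat := @Bool.rec (fun _ => Nat) (Ptab_313) (Ptab_314) (Nat.ble 314 c)
noncomputable def Ptab_s_315_317 (c : Nat) : Nat := @Bool.rec (fun _ => Nat) (Ptab_315) (Ptab_316) (Nat.ble 316 c)
noncomputable def Ptab_s_313_317 (c : Nat) : Nat := @Bool.rec (fun _ => Nat) (Ptab_s_313_315 c) (Ptab_s_315_317 c) (Nat.ble 315 c)
noncomputable def Ptab_s_317_319 (c : Nat) : Nat := @Bool.rec (fun _ => Nat) (Ptab_317) (Ptab_318) (Nat.ble 318 c)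
noncomputable def Ptab_s_319_321 (c : Nat) : Nat := @Bool.rec (fun _ => Nat) (Ptab_319) (Ptab_320) (Nat.ble 320 c)
noncomputable def Ptab_s_317_321 (c : Nat) : Nat := @Bool.rec (fun _ => Nat) (Ptab_s_317_319 c) (Ptab_s_319_321 c) (Nat.ble 319 c)
noncomputable def Ptab_s_313_321 (c : Nat) : Nat := @Bool.rec (fun _ => Nat) (Ptab_s_313_317 c) (Ptab_s_317_321 c) (Nat.ble 317 c)
noncomputable def Ptab_s_306_321 (c : Nat) : Nat := @Bool.rec (fun _ => Nat) (Ptab_s_306_313 c) (Ptab_s_313_321 c) (Nat.ble 313 c)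
noncomputable def Ptab_s_321_323 (c : Nat) : Nat := @Bool.rec (fun _ => Nat) (Ptab_321) (Ptab_322) (Nat.ble 322 c)
noncomputable def Ptab_s_323_325 (c : Nat) : Nat := @Bool.rec (fun _ => Nat) (Ptab_323) (Ptab_324) (Nat.ble 324 c)
noncomputable def Ptab_s_321_325 (c : Nat) : Nat := @Bool.rec (fun _ => Nat) (Ptab_s_321_323 c) (Ptab_s_323_325 c) (Nat.ble 323 c)
noncomputable def Ptab_s_325_327 (c : Nat) : Nat := @Bool.rec (fun _ => Nat) (Ptab_325) (Ptab_326) (Nat.ble 326 c)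
noncomputable def Ptab_s_327_329 (c : Nat) : Nat := @Bool.rec (fun _ => Nat) (Ptab_327) (Ptab_328) (Nat.ble 328 c)
noncomputable def Ptab_s_325_329 (c : Nat) : Nat := @Bool.rec (fun _ => Nat) (Ptab_s_325_327 c) (Ptab_s_327_329 c) (Nat.ble 327 c)
noncomputable def Ptab_s_321_329 (c : Nat) : Nat := @Bool.rec (fun _ => Nat) (Ptab_s_321_325 c) (Ptab_s_325_329 c) (Nat.ble 325 c)
noncomputable def Ptab_s_329_331 (c : Nat) : Nat := @Bool.rec (fun _ => Nat) (Ptab_329) (Ptab_330) (Nat.ble 330 c)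
noncomputable def Ptab_s_331_333 (c : Nat) : Nat := @Bool.rec (fun _ => Nat) (Ptab_331) (Ptab_332) (Nat.ble 332 c)
noncomputable def Ptab_s_329_333 (c : Nat) : Nat := @Bool.rec (fun _ => Nat) (Ptab_s_329_331 c) (Ptab_s_331_333 c) (Nat.ble 331 c)
noncomputable def Ptab_s_333_335 (c : Nat) : Nat := @Bool.rec (fun _ => Nat) (Ptab_333) (Ptab_334) (Nat.ble 334 c)
noncomputable def Ptab_s_335_337 (c : Nat) : Nat := @Bool.rec (fun _ => Nat) (Ptab_335) (Ptab_336) (Nat.ble 336 c)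
noncomputable def Ptab_s_333_337 (c : Nat) : Nat := @Bool.rec (fun _ => Nat) (Ptab_s_333_335 c) (Ptab_s_335_337 c) (Nat.ble 335 c)
noncomputable def Ptab_s_329_337 (c : Nat) : Nat := @Bool.rec (fun _ => Nat) (Ptab_s_329_333 c) (Ptab_s_333_337 c) (Nat.ble 333 c)
noncomputable def Ptab_s_321_337 (c : Nat) : Nat := @Bool.rec (fun _ => Nat) (Ptab_s_321_329 c) (Ptab_s_329_337 c) (Nat.ble 329 c)
noncomputable def Ptab_s_306_337 (c : Nat) : Nat := @Bool.rec (fun _ => Nat) (Ptab_s_306_321 c) (Ptab_s_321_337 c) (Nat.ble 321 c)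
noncomputable def Ptab_s_338_340 (c : Nat) : Nat := @Bool.rec (fun _ => Nat) (Ptab_338) (Ptab_339) (Nat.ble 339 c)
noncomputable def Ptab_s_337_340 (c : Nat) : Nat := @Bool.rec (fun _ => Nat) (Ptab_337) (Ptab_s_338_340 c) (Nat.ble 338 c)
noncomputable def Ptab_s_340_342 (c : Nat) : Nat := @Bool.rec (fun _ => Nat) (Ptab_340) (Ptab_341) (Nat.ble 341 c)
noncomputable def Ptab_s_342_344 (c : Nat) : Nat := @Bool.rec (fun _ => Nat) (Ptab_342) (Ptab_343) (Nat.ble 343 c)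
noncomputable def Ptab_s_340_344 (c : Nat) : Nat := @Bool.rec (fun _ => Nat) (Ptab_s_340_342 c) (Ptab_s_342_344 c) (Nat.ble 342 c)
noncomputable def Ptab_s_337_344 (c : Nat) : Nat := @Bool.rec (fun _ => Nat) (Ptab_s_337_340 c) (Ptab_s_340_344 c) (Nat.ble 340 c)
noncomputable def Ptab_s_344_346 (c : Nat) : Nat := @Bool.rec (fun _ => Nat) (Ptab_344) (Ptab_345) (Nat.ble 345 c)
noncomputable def Ptab_s_346_348 (c : Nat) : Nat := @Bool.rec (fun _ => Nat) (Ptab_346) (Ptab_347) (Nat.ble 347 c)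
noncomputable def Ptab_s_344_348 (c : Nat) : Nat := @Bool.rec (fun _ => Nat) (Ptab_s_344_346 c) (Ptab_s_346_348 c) (Nat.ble 346 c)
noncomputable def Ptab_s_348_350 (c : Nat) : Nat := @Bool.rec (fun _ => Nat) (Ptab_348) (Ptab_349) (Nat.ble 349 c)
noncomputable def Ptab_s_350_352 (c : Nat) : Nat := @Bool.rec (fun _ => Nat) (Ptab_350) (Ptab_351) (Nat.ble 351 c)
noncomputable def Ptab_s_348_352 (c : Nat) : Nat := @Bool.rec (fun _ => Nat) (Ptab_s_348_350 c) (Ptab_s_350_352 c) (Nat.ble 350 c)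
noncomputable def Ptab_s_344_352 (c : Nat) : Nat := @Bool.rec (fun _ => Nat) (Ptab_s_344_348 c) (Ptab_s_348_352 c) (Nat.ble 348 c)
noncomputable def Ptab_s_337_352 (c : Nat) : Nat := @Bool.rec (fun _ => Nat) (Ptab_s_337_344 c) (Ptab_s_344_352 c) (Nat.ble 344 c)
noncomputable def Ptab_s_352_354 (c : Nat) : Nat := @Bool.rec (fun _ => Nat) (Ptab_352) (Ptab_353) (Nat.ble 353 c)
noncomputable def Ptab_s_354_356 (c : Nat) : Nat := @Bool.rec (fun _ => Nat) (Ptab_354) (Ptab_355) (Nat.ble 355 c)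
noncomputable def Ptab_s_352_356 (c : Nat) : Nat := @Bool.rec (fun _ => Nat) (Ptab_s_352_354 c) (Ptab_s_354_356 c) (Nat.ble 354 c)
noncomputable def Ptab_s_356_358 (c : Nat) : Nat := @Bool.rec (fun _ => Nat) (Ptab_356) (Ptab_357) (Nat.ble 357 c)
noncomputable def Ptab_s_358_360 (c : Nat) : Nat := @Bool.rec (fun _ => Nat) (Ptab_358) (Ptab_359) (Nat.ble 359 c)
noncomputable def Ptab_s_356_360 (c : Nat) : Nat := @Bool.rec (fun _ => Nat) (Ptab_s_356_358 c) (Ptab_s_358_360 c) (Nat.ble 358 c)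
noncomputable def Ptab_s_352_360 (c : Nat) : Nat := @Bool.rec (fun _ => Nat) (Ptab_s_352_356 c) (Ptab_s_356_360 c) (Nat.ble 356 c)
noncomputable def Ptab_s_360_362 (c : Nat) : Nat := @Bool.rec (fun _ => Nat) (Ptab_360) (Ptab_361) (Nat.ble 361 c)
noncomputable def Ptab_s_362_364 (c : Nat) : Nat := @Bool.rec (fun _ => Nat) (Ptab_362) (Ptab_363) (Nat.ble 363 c)
noncomputable def Ptab_s_360_364 (c : Nat) : Nat := @Bool.rec (fun _ => Nat) (Ptab_s_360_362 c) (Ptab_s_362_364 c) (Nat.ble 362 c)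
noncomputable def Ptab_s_364_366 (c : Nat) : Nat := @Bool.rec (fun _ => Nat) (Ptab_364) (Ptab_365) (Nat.ble 365 c)
noncomputable def Ptab_s_366_368 (c : Nat) : Nat := @Bool.rec (fun _ => Nat) (Ptab_366) (Ptab_367) (Nat.ble 367 c)
noncomputable def Ptab_s_364_368 (c : Nat) : Nat := @Bool.rec (fun _ => Nat) (Ptab_s_364_366 c) (Ptab_s_366_368 c) (Nat.ble 366 c)
noncomputable def Ptab_s_360_368 (c : Nat) : Nat := @Bool.rec (fun _ => Nat) (Ptab_s_360_364 c) (Ptab_s_364_368 c) (Nat.ble 364 c)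
noncomputable def Ptab_s_352_368 (c : Nat) : Nat := @Bool.rec (fun _ => Nat) (Ptab_s_352_360 c) (Ptab_s_360_368 c) (Nat.ble 360 c)
noncomputable def Ptab_s_337_368 (c : Nat) : Nat := @Bool.rec (fun _ => Nat) (Ptab_s_337_352 c) (Ptab_s_352_368 c) (Nat.ble 352 c)
noncomputable def Ptab_s_306_368 (c : Nat) : Nat := @Bool.rec (fun _ => Nat) (Ptab_s_306_337 c) (Ptab_s_337_368 c) (Nat.ble 337 c)
noncomputable def Ptab_s_245_368 (c : Nat) : Nat := @Bool.rec (fun _ => Nat) (Ptab_s_245_306 c) (Ptab_s_306_368 c) (Nat.ble 306 c)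
noncomputable def Ptab_s_369_371 (c : Nat) : Nat := @Bool.rec (fun _ => Nat) (Ptab_369) (Ptab_370) (Nat.ble 370 c)
noncomputable def Ptab_s_368_371 (c : Nat) : Nat := @Bool.rec (fun _ => Nat) (Ptab_368) (Ptab_s_369_371 c) (Nat.ble 369 c)
noncomputable def Ptab_s_371_373 (c : Nat) : Nat := @Bool.rec (fun _ => Nat) (Ptab_371) (Ptab_372) (Nat.ble 372 c)
noncomputable def Ptab_s_373_375 (c : Nat) : Nat := @Bool.rec (fun _ => Nat) (Ptab_373) (Ptab_374) (Nat.ble 374 c)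
noncomputable def Ptab_s_371_375 (c : Nat) : Nat := @Bool.rec (fun _ => Nat) (Ptab_s_371_373 c) (Ptab_s_373_375 c) (Nat.ble 373 c)
noncomputable def Ptab_s_368_375 (c : Nat) : Nat := @Bool.rec (fun _ => Nat) (Ptab_s_368_371 c) (Ptab_s_371_375 c) (Nat.ble 371 c)
noncomputable def Ptab_s_375_377 (c : Nat) : Nat := @Bool.rec (fun _ => Nat) (Ptab_375) (Ptab_376) (Nat.ble 376 c)
noncomputable def Ptab_s_377_379 (c : Nat) : Nat := @Bool.rec (fun _ => Nat) (Ptab_377) (Ptab_378) (Nat.ble 378 c)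
noncomputable def Ptab_s_375_379 (c : Nat) : Nat := @Bool.rec (fun _ => Nat) (Ptab_s_375_377 c) (Ptab_s_377_379 c) (Nat.ble 377 c)
noncomputable def Ptab_s_379_381 (c : Nat) : Nat := @Bool.rec (fun _ => Nat) (Ptab_379) (Ptab_380) (Nat.ble 380 c)
noncomputable def Ptab_s_381_383 (c : Nat) : Nat := @Bool.rec (fun _ => Nat) (Ptab_381) (Ptab_382) (Nat.ble 382 c)
noncomputable def Ptab_s_379_383 (c : Nat) : Nat := @Bool.rec (fun _ => Nat) (Ptab_s_379_381 c) (Ptab_s_381_383 c) (Nat.ble 381 c)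
noncomputable def Ptab_s_375_383 (c : Nat) : Nat := @Bool.rec (fun _ => Nat) (Ptab_s_375_379 c) (Ptab_s_379_383 c) (Nat.ble 379 c)
noncomputable def Ptab_s_368_383 (c : Nat) : Nat := @Bool.rec (fun _ => Nat) (Ptab_s_368_375 c) (Ptab_s_375_383 c) (Nat.ble 375 c)
noncomputable def Ptab_s_384_386 (c : Nat) : Nat := @Bool.rec (fun _ => Nat) (Ptab_384) (Ptab_385) (Nat.ble 385 c)
noncomputable def Ptab_s_383_386 (c : Nat) : Nat := @Bool.rec (fun _ => Nat) (Ptab_383) (Ptab_s_384_386 c) (Nat.ble 384 c)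
noncomputable def Ptab_s_386_388 (c : Nat) : Nat := @Bool.rec (fun _ => Nat) (Ptab_386) (Ptab_387) (Nat.ble 387 c)
noncomputable def Ptab_s_388_390 (c : Nat) : Nat := @Bool.rec (fun _ => Nat) (Ptab_388) (Ptab_389) (Nat.ble 389 c)
noncomputable def Ptab_s_386_390 (c : Nat) : Nat := @Bool.rec (fun _ => Nat) (Ptab_s_386_388 c) (Ptab_s_388_390 c) (Nat.ble 388 c)
noncomputable def Ptab_s_383_390 (c : Nat) : Nat := @Bool.rec (fun _ => Nat) (Ptab_s_383_386 c) (Ptab_s_386_390 c) (Nat.ble 386 c)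
noncomputable def Ptab_s_390_392 (c : Nat) : Nat := @Bool.rec (fun _ => Nat) (Ptab_390) (Ptab_391) (Nat.ble 391 c)
noncomputable def Ptab_s_392_394 (c : Nat) : Nat := @Bool.rec (fun _ => Nat) (Ptab_392) (Ptab_393) (Nat.ble 393 c)
noncomputable def Ptab_s_390_394 (c : Nat) : Nat := @Bool.rec (fun _ => Nat) (Ptab_s_390_392 c) (Ptab_s_392_394 c) (Nat.ble 392 c)
noncomputable def Ptab_s_394_396 (c : Nat) : Nat := @Bool.rec (fun _ => Nat) (Ptab_394) (Ptab_395) (Nat.ble 395 c)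
noncomputable def Ptab_s_396_398 (c : Nat) : Nat := @Bool.rec (fun _ => Nat) (Ptab_396) (Ptab_397) (Nat.ble 397 c)
noncomputable def Ptab_s_394_398 (c : Nat) : Nat := @Bool.rec (fun _ => Nat) (Ptab_s_394_396 c) (Ptab_s_396_398 c) (Nat.ble 396 c)
noncomputable def Ptab_s_390_398 (c : Nat) : Nat := @Bool.rec (fun _ => Nat) (Ptab_s_390_394 c) (Ptab_s_394_398 c) (Nat.ble 394 c)
noncomputable def Ptab_s_383_398 (c : Nat) : Nat := @Bool.rec (fun _ => Nat) (Ptab_s_383_390 c) (Ptab_s_390_398 c) (Nat.ble 390 c)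
noncomputable def Ptab_s_368_398 (c : Nat) : Nat := @Bool.rec (fun _ => Nat) (Ptab_s_368_383 c) (Ptab_s_383_398 c) (Nat.ble 383 c)
noncomputable def Ptab_s_399_401 (c : Nat) : Nat := @Bool.rec (fun _ => Nat) (Ptab_399) (Ptab_400) (Nat.ble 400 c)
noncomputable def Ptab_s_398_401 (c : Nat) : Nat := @Bool.rec (fun _ => Nat) (Ptab_398) (Ptab_s_399_401 c) (Nat.ble 399 c)
noncomputable def Ptab_s_401_403 (c : Nat) : Nat := @Bool.rec (fun _ => Nat) (Ptab_401) (Ptab_402) (Nat.ble 402 c)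
noncomputable def Ptab_s_403_405 (c : Nat) : Nat := @Bool.rec (fun _ => Nat) (Ptab_403) (Ptab_404) (Nat.ble 404 c)
noncomputable def Ptab_s_401_405 (c : Nat) : Nat := @Bool.rec (fun _ => Nat) (Ptab_s_401_403 c) (Ptab_s_403_405 c) (Nat.ble 403 c)
noncomputable def Ptab_s_398_405 (c : Nat) : Nat := @Bool.rec (fun _ => Nat) (Ptab_s_398_401 c) (Ptab_s_401_405 c) (Nat.ble 401 c)
noncomputable def Ptab_s_405_407 (c : Nat) : Nat := @Bool.rec (fun _ => Nat) (Ptab_405) (Ptab_406) (Nat.ble 406 c)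
noncomputable def Ptab_s_407_409 (c : Nat) : Nat := @Bool.rec (fun _ => Nat) (Ptab_407) (Ptab_408) (Nat.ble 408 c)
noncomputable def Ptab_s_405_409 (c : Nat) : Nat := @Bool.rec (fun _ => Nat) (Ptab_s_405_407 c) (Ptab_s_407_409 c) (Nat.ble 407 c)
noncomputable def Ptab_s_409_411 (c : Nat) : Nat := @Bool.rec (fun _ => Nat) (Ptab_409) (Ptab_410) (Nat.ble 410 c)
noncomputable def Ptab_s_411_413 (c : Nat) : Nat := @Bool.rec (fun _ => Nat) (Ptab_411) (Ptab_412) (Nat.ble 412 c)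
noncomputable def Ptab_s_409_413 (c : Nat) : Nat := @Bool.rec (fun _ => Nat) (Ptab_s_409_411 c) (Ptab_s_411_413 c) (Nat.ble 411 c)
noncomputable def Ptab_s_405_413 (c : Nat) : Nat := @Bool.rec (fun _ => Nat) (Ptab_s_405_409 c) (Ptab_s_409_413 c) (Nat.ble 409 c)
noncomputable def Ptab_s_398_413 (c : Nat) : Nat := @Bool.rec (fun _ => Nat) (Ptab_s_398_405 c) (Ptab_s_405_413 c) (Nat.ble 405 c)
noncomputable def Ptab_s_413_415 (c : Nat) : Nat := @Bool.rec (fun _ => Nat) (Ptab_413) (Ptab_414) (Nat.ble 414 c)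
noncomputable def Ptab_s_415_417 (c : Nat) : Nat := @Bool.rec (fun _ => Nat) (Ptab_415) (Ptab_416) (Nat.ble 416 c)
noncomputable def Ptab_s_413_417 (c : Nat) : Nat := @Bool.rec (fun _ => Nat) (Ptab_s_413_415 c) (Ptab_s_415_417 c) (Nat.ble 415 c)
noncomputable def Ptab_s_417_419 (c : Nat) : Nat := @Bool.rec (fun _ => Nat) (Ptab_417) (Ptab_418) (Nat.ble 418 c)
noncomputable def Ptab_s_419_421 (c : Nat) : Nat := @Bool.rec (fun _ => Nat) (Ptab_419) (Ptab_420) (Nat.ble 420 c)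
noncomputable def Ptab_s_417_421 (c : Nat) : Nat := @Bool.rec (fun _ => Nat) (Ptab_s_417_419 c) (Ptab_s_419_421 c) (Nat.ble 419 c)
noncomputable def Ptab_s_413_421 (c : Nat) : Nat := @Bool.rec (fun _ => Nat) (Ptab_s_413_417 c) (Ptab_s_417_421 c) (Nat.ble 417 c)
noncomputable def Ptab_s_421_423 (c : Nat) : Nat := @Bool.rec (fun _ => Nat) (Ptab_421) (Ptab_422) (Nat.ble 422 c)
noncomputable def Ptab_s_423_425 (c : Nat) : Nat := @Bool.rec (fun _ => Nat) (Ptab_423) (Ptab_424) (Nat.ble 424 c)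
noncomputable def Ptab_s_421_425 (c : Nat) : Nat := @Bool.rec (fun _ => Nat) (Ptab_s_421_423 c) (Ptab_s_423_425 c) (Nat.ble 423 c)
noncomputable def Ptab_s_425_427 (c : Nat) : Nat := @Bool.rec (fun _ => Nat) (Ptab_425) (Ptab_426) (Nat.ble 426 c)
noncomputable def Ptab_s_427_429 (c : Nat) : Nat := @Bool.rec (fun _ => Nat) (Ptab_427) (Ptab_428) (Nat.ble 428 c)
noncomputable def Ptab_s_425_429 (c : Nat) : Nat := @Bool.rec (fun _ => Nat) (Ptab_s_425_427 c) (Ptab_s_427_429 c) (Nat.ble 427 c)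
noncomputable def Ptab_s_421_429 (c : Nat) : Nat := @Bool.rec (fun _ => Nat) (Ptab_s_421_425 c) (Ptab_s_425_429 c) (Nat.ble 425 c)
noncomputable def Ptab_s_413_429 (c : Nat) : Nat := @Bool.rec (fun _ => Nat) (Ptab_s_413_421 c) (Ptab_s_421_429 c) (Nat.ble 421 c)
noncomputable def Ptab_s_398_429 (c : Nat) : Nat := @Bool.rec (fun _ => Nat) (Ptab_s_398_413 c) (Ptab_s_413_429 c) (Nat.ble 413 c)
noncomputable def Ptab_s_368_429 (c : Nat) : Nat := @Bool.rec (fun _ => Nat) (Ptab_s_368_398 c) (Ptab_s_398_429 c) (Nat.ble 398 c)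
noncomputable def Ptab_s_430_432 (c : Nat) : Nat := @Bool.rec (fun _ => Nat) (Ptab_430) (Ptab_431) (Nat.ble 431 c)
noncomputable def Ptab_s_429_432 (c : Nat) : Nat := @Bool.rec (fun _ => Nat) (Ptab_429) (Ptab_s_430_432 c) (Nat.ble 430 c)
noncomputable def Ptab_s_432_434 (c : Nat) : Nat := @Bool.rec (fun _ => Nat) (Ptab_432) (Ptab_433) (Nat.ble 433 c)
noncomputable def Ptab_s_434_436 (c : Nat) : Nat := @Bool.rec (fun _ => Nat) (Ptab_434) (Ptab_435) (Nat.ble 435 c)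
noncomputable def Ptab_s_432_436 (c : Nat) : Nat := @Bool.rec (fun _ => Nat) (Ptab_s_432_434 c) (Ptab_s_434_436 c) (Nat.ble 434 c)
noncomputable def Ptab_s_429_436 (c : Nat) : Nat := @Bool.rec (fun _ => Nat) (Ptab_s_429_432 c) (Ptab_s_432_436 c) (Nat.ble 432 c)
noncomputable def Ptab_s_436_438 (c : Nat) : Nat := @Bool.rec (fun _ => Nat) (Ptab_436) (Ptab_437) (Nat.ble 437 c)
noncomputable def Ptab_s_438_440 (c : Nat) : Nat := @Bool.rec (fun _ => Nat) (Ptab_438) (Ptab_439) (Nat.ble 439 c)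
noncomputable def Ptab_s_436_440 (c : Nat) : Nat := @Bool.rec (fun _ => Nat) (Ptab_s_436_438 c) (Ptab_s_438_440 c) (Nat.ble 438 c)
noncomputable def Ptab_s_440_442 (c : Nat) : Nat := @Bool.rec (fun _ => Nat) (Ptab_440) (Ptab_441) (Nat.ble 441 c)
noncomputable def Ptab_s_442_444 (c : Nat) : Nat := @Bool.rec (fun _ => Nat) (Ptab_442) (Ptab_443) (Nat.ble 443 c)
noncomputable def Ptab_s_440_444 (c : Nat) : Nat := @Bool.rec (fun _ => Nat) (Ptab_s_440_442 c) (Ptab_s_442_444 c) (Nat.ble 442 c)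
noncomputable def Ptab_s_436_444 (c : Nat) : Nat := @Bool.rec (fun _ => Nat) (Ptab_s_436_440 c) (Ptab_s_440_444 c) (Nat.ble 440 c)
noncomputable def Ptab_s_429_444 (c : Nat) : Nat := @Bool.rec (fun _ => Nat) (Ptab_s_429_436 c) (Ptab_s_436_444 c) (Nat.ble 436 c)
noncomputable def Ptab_s_444_446 (c : Nat) : Nat := @Bool.rec (fun _ => Nat) (Ptab_444) (Ptab_445) (Nat.ble 445 c)
noncomputable def Ptab_s_446_448 (c : Nat) : Nat := @Bool.rec (fun _ => Nat) (Ptab_446) (Ptab_447) (Nat.ble 447 c)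
noncomputable def Ptab_s_444_448 (c : Nat) : Nat := @Bool.rec (fun _ => Nat) (Ptab_s_444_446 c) (Ptab_s_446_448 c) (Nat.ble 446 c)
noncomputable def Ptab_s_448_450 (c : Nat) : Nat := @Bool.rec (fun _ => Nat) (Ptab_448) (Ptab_449) (Nat.ble 449 c)
noncomputable def Ptab_s_450_452 (c : Nat) : Nat := @Bool.rec (fun _ => Nat) (Ptab_450) (Ptab_451) (Nat.ble 451 c)
noncomputable def Ptab_s_448_452 (c : Nat) : Nat := @Bool.rec (fun _ => Nat) (Ptab_s_448_450 c) (Ptab_s_450_452 c) (Nat.ble 450 c)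
noncomputable def Ptab_s_444_452 (c : Nat) : Nat := @Bool.rec (fun _ => Nat) (Ptab_s_444_448 c) (Ptab_s_448_452 c) (Nat.ble 448 c)
noncomputable def Ptab_s_452_454 (c : Nat) : Nat := @Bool.rec (fun _ => Nat) (Ptab_452) (Ptab_453) (Nat.ble 453 c)
noncomputable def Ptab_s_454_456 (c : Nat) : Nat := @Bool.rec (fun _ => Nat) (Ptab_454) (Ptab_455) (Nat.ble 455 c)
noncomputable def Ptab_s_452_456 (c : Nat) : Nat := @Bool.rec (fun _ => Nat) (Ptab_s_452_454 c) (Ptab_s_454_456 c) (Nat.ble 454 c)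
noncomputable def Ptab_s_456_458 (c : Nat) : Nat := @Bool.rec (fun _ => Nat) (Ptab_456) (Ptab_457) (Nat.ble 457 c)
noncomputable def Ptab_s_458_460 (c : Nat) : Nat := @Bool.rec (fun _ => Nat) (Ptab_458) (Ptab_459) (Nat.ble 459 c)
noncomputable def Ptab_s_456_460 (c : Nat) : Nat := @Bool.rec (fun _ => Nat) (Ptab_s_456_458 c) (Ptab_s_458_460 c) (Nat.ble 458 c)
noncomputable def Ptab_s_452_460 (c : Nat) : Nat := @Bool.rec (fun _ => Nat) (Ptab_s_452_456 c) (Ptab_s_456_460 c) (Nat.ble 456 c)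
noncomputable def Ptab_s_444_460 (c : Nat) : Nat := @Bool.rec (fun _ => Nat) (Ptab_s_444_452 c) (Ptab_s_452_460 c) (Nat.ble 452 c)
noncomputable def Ptab_s_429_460 (c : Nat) : Nat := @Bool.rec (fun _ => Nat) (Ptab_s_429_444 c) (Ptab_s_444_460 c) (Nat.ble 444 c)
noncomputable def Ptab_s_461_463 (c : Nat) : Nat := @Bool.rec (fun _ => Nat) (Ptab_461) (Ptab_462) (Nat.ble 462 c)
noncomputable def Ptab_s_460_463 (c : Nat) : Nat := @Bool.rec (fun _ => Nat) (Ptab_460) (Ptab_s_461_463 c) (Nat.ble 461 c)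
noncomputable def Ptab_s_463_465 (c : Nat) : Nat := @Bool.rec (fun _ => Nat) (Ptab_463) (Ptab_464) (Nat.ble 464 c)
noncomputable def Ptab_s_465_467 (c : Nat) : Nat := @Bool.rec (fun _ => Nat) (Ptab_465) (Ptab_466) (Nat.ble 466 c)
noncomputable def Ptab_s_463_467 (c : Nat) : Nat := @Bool.rec (fun _ => Nat) (Ptab_s_463_465 c) (Ptab_s_465_467 c) (Nat.ble 465 c)
noncomputable def Ptab_s_460_467 (c : Nat) : Nat := @Bool.rec (fun _ => Nat) (Ptab_s_460_463 c) (Ptab_s_463_467 c) (Nat.ble 463 c)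
noncomputable def Ptab_s_467_469 (c : Nat) : Nat := @Bool.rec (fun _ => Nat) (Ptab_467) (Ptab_468) (Nat.ble 468 c)
noncomputable def Ptab_s_469_471 (c : Nat) : Nat := @Bool.rec (fun _ => Nat) (Ptab_469) (Ptab_470) (Nat.ble 470 c)
noncomputable def Ptab_s_467_471 (c : Nat) : Nat := @Bool.rec (fun _ => Nat) (Ptab_s_467_469 c) (Ptab_s_469_471 c) (Nat.ble 469 c)
noncomputable def Ptab_s_471_473 (c : Nat) : Nat := @Bool.rec (fun _ => Nat) (Ptab_471) (Ptab_472) (Nat.ble 472 c)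
noncomputable def Ptab_s_473_475 (c : Nat) : Nat := @Bool.rec (fun _ => Nat) (Ptab_473) (Ptab_474) (Nat.ble 474 c)
noncomputable def Ptab_s_471_475 (c : Nat) : Nat := @Bool.rec (fun _ => Nat) (Ptab_s_471_473 c) (Ptab_s_473_475 c) (Nat.ble 473 c)
noncomputable def Ptab_s_467_475 (c : Nat) : Nat := @Bool.rec (fun _ => Nat) (Ptab_s_467_471 c) (Ptab_s_471_475 c) (Nat.ble 471 c)
noncomputable def Ptab_s_460_475 (c : Nat) : Nat := @Bool.rec (fun _ => Nat) (Ptab_s_460_467 c) (Ptab_s_467_475 c) (Nat.ble 467 c)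
noncomputable def Ptab_s_475_477 (c : Nat) : Nat := @Bool.rec (fun _ => Nat) (Ptab_475) (Ptab_476) (Nat.ble 476 c)
noncomputable def Ptab_s_477_479 (c : Nat) : Nat := @Bool.rec (fun _ => Nat) (Ptab_477) (Ptab_478) (Nat.ble 478 c)
noncomputable def Ptab_s_475_479 (c : Nat) : Nat := @Bool.rec (fun _ => Nat) (Ptab_s_475_477 c) (Ptab_s_477_479 c) (Nat.ble 477 c)
noncomputable def Ptab_s_479_481 (c : Nat) : Nat := @Bool.rec (fun _ => Nat) (Ptab_479) (Ptab_480) (Nat.ble 480 c)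
noncomputable def Ptab_s_481_483 (c : Nat) : Nat := @Bool.rec (fun _ => Nat) (Ptab_481) (Ptab_482) (Nat.ble 482 c)
noncomputable def Ptab_s_479_483 (c : Nat) : Nat := @Bool.rec (fun _ => Nat) (Ptab_s_479_481 c) (Ptab_s_481_483 c) (Nat.ble 481 c)
noncomputable def Ptab_s_475_483 (c : Nat) : Nat := @Bool.rec (fun _ => Nat) (Ptab_s_475_479 c) (Ptab_s_479_483 c) (Nat.ble 479 c)
noncomputable def Ptab_s_483_485 (c : Nat) : Nat := @Bool.rec (fun _ => Nat) (Ptab_483) (Ptab_484) (Nat.ble 484 c)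
noncomputable def Ptab_s_485_487 (c : Nat) : Nat := @Bool.rec (fun _ => Nat) (Ptab_485) (Ptab_486) (Nat.ble 486 c)
noncomputable def Ptab_s_483_487 (c : Nat) : Nat := @Bool.rec (fun _ => Nat) (Ptab_s_483_485 c) (Ptab_s_485_487 c) (Nat.ble 485 c)
noncomputable def Ptab_s_487_489 (c : Nat) : Nat := @Bool.rec (fun _ => Nat) (Ptab_487) (Ptab_488) (Nat.ble 488 c)
noncomputable def Ptab_s_489_491 (c : Nat) : Nat := @Bool.rec (fun _ => Nat) (Ptab_489) (Ptab_490) (Nat.ble 490 c)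
noncomputable def Ptab_s_487_491 (c : Nat) : Nat := @Bool.rec (fun _ => Nat) (Ptab_s_487_489 c) (Ptab_s_489_491 c) (Nat.ble 489 c)
noncomputable def Ptab_s_483_491 (c : Nat) : Nat := @Bool.rec (fun _ => Nat) (Ptab_s_483_487 c) (Ptab_s_487_491 c) (Nat.ble 487 c)
noncomputable def Ptab_s_475_491 (c : Nat) : Nat := @Bool.rec (fun _ => Nat) (Ptab_s_475_483 c) (Ptab_s_483_491 c) (Nat.ble 483 c)
noncomputable def Ptab_s_460_491 (c : Nat) : Nat := @Bool.rec (fun _ => Nat) (Ptab_s_460_475 c) (Ptab_s_475_491 c) (Nat.ble 475 c)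
noncomputable def Ptab_s_429_491 (c : Nat) : Nat := @Bool.rec (fun _ => Nat) (Ptab_s_429_460 c) (Ptab_s_460_491 c) (Nat.ble 460 c)
noncomputable def Ptab_s_368_491 (c : Nat) : Nat := @Bool.rec (fun _ => Nat) (Ptab_s_368_429 c) (Ptab_s_429_491 c) (Nat.ble 429 c)
noncomputable def Ptab_s_245_491 (c : Nat) : Nat := @Bool.rec (fun _ => Nat) (Ptab_s_245_368 c) (Ptab_s_368_491 c) (Nat.ble 368 c)
noncomputable def Ptab_s_0_491 (c : Nat) : Nat := @Bool.rec (fun _ => Nat) (Ptab_s_0_245 c) (Ptab_s_245_491 c) (Nat.ble 245 c)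
noncomputable def Ptab (i : Nat) : Nat := rdw 21 2097151 (Ptab_s_0_491 (Nat.shiftRight i 12)) (Nat.land i 4095)
noncomputable def RRtab (i : Nat) : Nat := rdw 6 63 RRtab_0 i
noncomputable def rBtab (i : Nat) : Nat := rdw 12 4095 rBtab_0 i
noncomputable def rLtab (i : Nat) : Nat := rdw 6 63 rLtab_0 i
noncomputable def nameTab_s_0_2 (c : Nat) : Nat := @Bool.rec (fun _ => Nat) (nameTab_0) (nameTab_1) (Nat.ble 1 c)
noncomputable def nameTab (i : Nat) : Nat := rdw 18 262143 (nameTab_s_0_2 (Nat.shiftRight i 12)) (Nat.land i 4095)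
noncomputable def col0_s_0_2 (c : Nat) : Nat := @Bool.rec (fun _ => Nat) (col0_0) (col0_1) (Nat.ble 1 c)
noncomputable def col0 (i : Nat) : Nat := rdw 13 8191 (col0_s_0_2 (Nat.shiftRight i 12)) (Nat.land i 4095)
noncomputable def col1_s_0_2 (c : Nat) : Nat := @Bool.rec (fun _ => Nat) (col1_0) (col1_1) (Nat.ble 1 c)
noncomputable def col1 (i : Nat) : Nat := rdw 13 8191 (col1_s_0_2 (Nat.shiftRight i 12)) (Nat.land i 4095)
noncomputable def col2_s_0_2 (c : Nat) : Nat := @Bool.rec (fun _ => Nat) (col2_0) (col2_1) (Nat.ble 1 c)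
noncomputable def col2 (i : Nat) : Nat := rdw 13 8191 (col2_s_0_2 (Nat.shiftRight i 12)) (Nat.land i 4095)
noncomputable def col3_s_0_2 (c : Nat) : Nat := @Bool.rec (fun _ => Nat) (col3_0) (col3_1) (Nat.ble 1 c)
noncomputable def col3 (i : Nat) : Nat := rdw 13 8191 (col3_s_0_2 (Nat.shiftRight i 12)) (Nat.land i 4095)
noncomputable def col4_s_0_2 (c : Nat) : Nat := @Bool.rec (fun _ => Nat) (col4_0) (col4_1) (Nat.ble 1 c)
noncomputable def col4 (i : Nat) : Nat := rdw 13 8191 (col4_s_0_2 (Nat.shiftRight i 12)) (Nat.land i 4095)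
noncomputable def col5_s_0_2 (c : Nat) : Nat := @Bool.rec (fun _ => Nat) (col5_0) (col5_1) (Nat.ble 1 c)
noncomputable def col5 (i : Nat) : Nat := rdw 13 8191 (col5_s_0_2 (Nat.shiftRight i 12)) (Nat.land i 4095)
noncomputable def col6_s_0_2 (c : Nat) : Nat := @Bool.rec (fun _ => Nat) (col6_0) (col6_1) (Nat.ble 1 c)
noncomputable def col6 (i : Nat) : Nat := rdw 13 8191 (col6_s_0_2 (Nat.shiftRight i 12)) (Nat.land i 4095)
noncomputable def col7_s_0_2 (c : Nat) : Nat := @Bool.rec (fun _ => Nat) (col7_0) (col7_1) (Nat.ble 1 c)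
noncomputable def col7 (i : Nat) : Nat := rdw 13 8191 (col7_s_0_2 (Nat.shiftRight i 12)) (Nat.land i 4095)
noncomputable def col8_s_0_2 (c : Nat) : Nat := @Bool.rec (fun _ => Nat) (col8_0) (col8_1) (Nat.ble 1 c)
noncomputable def col8 (i : Nat) : Nat := rdw 13 8191 (col8_s_0_2 (Nat.shiftRight i 12)) (Nat.land i 4095)
noncomputable def col9_s_0_2 (c : Nat) : Nat := @Bool.rec (fun _ => Nat) (col9_0) (col9_1) (Nat.ble 1 c)
noncomputable def col9 (i : Nat) : Nat := rdw 13 8191 (col9_s_0_2 (Nat.shiftRight i 12)) (Nat.land i 4095)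
noncomputable def col10_s_0_2 (c : Nat) : Nat := @Bool.rec (fun _ => Nat) (col10_0) (col10_1) (Nat.ble 1 c)
noncomputable def col10 (i : Nat) : Nat := rdw 13 8191 (col10_s_0_2 (Nat.shiftRight i 12)) (Nat.land i 4095)
noncomputable def col11_s_0_2 (c : Nat) : Nat := @Bool.rec (fun _ => Nat) (col11_0) (col11_1) (Nat.ble 1 c)
noncomputable def col11 (i : Nat) : Nat := rdw 13 8191 (col11_s_0_2 (Nat.shiftRight i 12)) (Nat.land i 4095)
noncomputable def col12_s_0_2 (c : Nat) : Nat := @Bool.rec (fun _ => Nat) (col12_0) (col12_1) (Nat.ble 1 c)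
noncomputable def col12 (i : Nat) : Nat := rdw 13 8191 (col12_s_0_2 (Nat.shiftRight i 12)) (Nat.land i 4095)
noncomputable def col13_s_0_2 (c : Nat) : Nat := @Bool.rec (fun _ => Nat) (col13_0) (col13_1) (Nat.ble 1 c)
noncomputable def col13 (i : Nat) : Nat := rdw 13 8191 (col13_s_0_2 (Nat.shiftRight i 12)) (Nat.land i 4095)
noncomputable def col14_s_0_2 (c : Nat) : Nat := @Bool.rec (fun _ => Nat) (col14_0) (col14_1) (Nat.ble 1 c)
noncomputable def col14 (i : Nat) : Nat := rdw 13 8191 (col14_s_0_2 (Nat.shiftRight i 12)) (Nat.land i 4095)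
noncomputable def col15_s_0_2 (c : Nat) : Nat := @Bool.rec (fun _ => Nat) (col15_0) (col15_1) (Nat.ble 1 c)
noncomputable def col15 (i : Nat) : Nat := rdw 13 8191 (col15_s_0_2 (Nat.shiftRight i 12)) (Nat.land i 4095)
noncomputable def col16_s_0_2 (c : Nat) : Nat := @Bool.rec (fun _ => Nat) (col16_0) (col16_1) (Nat.ble 1 c)
noncomputable def col16 (i : Nat) : Nat := rdw 13 8191 (col16_s_0_2 (Nat.shiftRight i 12)) (Nat.land i 4095)
noncomputable def col17_s_0_2 (c : Nat) : Nat := @Bool.rec (fun _ => Nat) (col17_0) (col17_1) (Nat.ble 1 c)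
noncomputable def col17 (i : Nat) : Nat := rdw 13 8191 (col17_s_0_2 (Nat.shiftRight i 12)) (Nat.land i 4095)
noncomputable def col18_s_0_2 (c : Nat) : Nat := @Bool.rec (fun _ => Nat) (col18_0) (col18_1) (Nat.ble 1 c)
noncomputable def col18 (i : Nat) : Nat := rdw 13 8191 (col18_s_0_2 (Nat.shiftRight i 12)) (Nat.land i 4095)
noncomputable def col19_s_0_2 (c : Nat) : Nat := @Bool.rec (fun _ => Nat) (col19_0) (col19_1) (Nat.ble 1 c)
noncomputable def col19 (i : Nat) : Nat := rdw 13 8191 (col19_s_0_2 (Nat.shiftRight i 12)) (Nat.land i 4095)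
noncomputable def col20_s_0_2 (c : Nat) : Nat := @Bool.rec (fun _ => Nat) (col20_0) (col20_1) (Nat.ble 1 c)
noncomputable def col20 (i : Nat) : Nat := rdw 13 8191 (col20_s_0_2 (Nat.shiftRight i 12)) (Nat.land i 4095)
noncomputable def col21_s_0_2 (c : Nat) : Nat := @Bool.rec (fun _ => Nat) (col21_0) (col21_1) (Nat.ble 1 c)
noncomputable def col21 (i : Nat) : Nat := rdw 13 8191 (col21_s_0_2 (Nat.shiftRight i 12)) (Nat.land i 4095)
noncomputable def finTab_s_0_2 (c : Nat) : Nat := @Bool.rec (fun _ => Nat) (finTab_0) (finTab_1) (Nat.ble 1 c)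
noncomputable def finTab_s_3_5 (c : Nat) : Nat := @Bool.rec (fun _ => Nat) (finTab_3) (finTab_4) (Nat.ble 4 c)
noncomputable def finTab_s_2_5 (c : Nat) : Nat := @Bool.rec (fun _ => Nat) (finTab_2) (finTab_s_3_5 c) (Nat.ble 3 c)
noncomputable def finTab_s_0_5 (c : Nat) : Nat := @Bool.rec (fun _ => Nat) (finTab_s_0_2 c) (finTab_s_2_5 c) (Nat.ble 2 c)
noncomputable def finTab_s_6_8 (c : Nat) : Nat := @Bool.rec (fun _ => Nat) (finTab_6) (finTab_7) (Nat.ble 7 c)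
noncomputable def finTab_s_5_8 (c : Nat) : Nat := @Bool.rec (fun _ => Nat) (finTab_5) (finTab_s_6_8 c) (Nat.ble 6 c)
noncomputable def finTab_s_9_11 (c : Nat) : Nat := @Bool.rec (fun _ => Nat) (finTab_9) (finTab_10) (Nat.ble 10 c)
noncomputable def finTab_s_8_11 (c : Nat) : Nat := @Bool.rec (fun _ => Nat) (finTab_8) (finTab_s_9_11 c) (Nat.ble 9 c)
noncomputable def finTab_s_5_11 (c : Nat) : Nat := @Bool.rec (fun _ => Nat) (finTab_s_5_8 c) (finTab_s_8_11 c) (Nat.ble 8 c)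
noncomputable def finTab_s_0_11 (c : Nat) : Nat := @Bool.rec (fun _ => Nat) (finTab_s_0_5 c) (finTab_s_5_11 c) (Nat.ble 5 c)
noncomputable def finTab_s_12_14 (c : Nat) : Nat := @Bool.rec (fun _ => Nat) (finTab_12) (finTab_13) (Nat.ble 13 c)
noncomputable def finTab_s_11_14 (c : Nat) : Nat := @Bool.rec (fun _ => Nat) (finTab_11) (finTab_s_12_14 c) (Nat.ble 12 c)
noncomputable def finTab_s_15_17 (c : Nat) : Nat := @Bool.rec (fun _ => Nat) (finTab_15) (finTab_16) (Nat.ble 16 c)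
noncomputable def finTab_s_14_17 (c : Nat) : Nat := @Bool.rec (fun _ => Nat) (finTab_14) (finTab_s_15_17 c) (Nat.ble 15 c)
noncomputable def finTab_s_11_17 (c : Nat) : Nat := @Bool.rec (fun _ => Nat) (finTab_s_11_14 c) (finTab_s_14_17 c) (Nat.ble 14 c)
noncomputable def finTab_s_18_20 (c : Nat) : Nat := @Bool.rec (fun _ => Nat) (finTab_18) (finTab_19) (Nat.ble 19 c)
noncomputable def finTab_s_17_20 (c : Nat) : Nat := @Bool.rec (fun _ => Nat) (finTab_17) (finTab_s_18_20 c) (Nat.ble 18 c)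
noncomputable def finTab_s_21_23 (c : Nat) : Nat := @Bool.rec (fun _ => Nat) (finTab_21) (finTab_22) (Nat.ble 22 c)
noncomputable def finTab_s_20_23 (c : Nat) : Nat := @Bool.rec (fun _ => Nat) (finTab_20) (finTab_s_21_23 c) (Nat.ble 21 c)
noncomputable def finTab_s_17_23 (c : Nat) : Nat := @Bool.rec (fun _ => Nat) (finTab_s_17_20 c) (finTab_s_20_23 c) (Nat.ble 20 c)
noncomputable def finTab_s_11_23 (c : Nat) : Nat := @Bool.rec (fun _ => Nat) (finTab_s_11_17 c) (finTab_s_17_23 c) (Nat.ble 17 c)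
noncomputable def finTab_s_0_23 (c : Nat) : Nat := @Bool.rec (fun _ => Nat) (finTab_s_0_11 c) (finTab_s_11_23 c) (Nat.ble 11 c)
noncomputable def finTab (i : Nat) : Nat := rdw 21 2097151 (finTab_s_0_23 (Nat.shiftRight i 12)) (Nat.land i 4095)
noncomputable def clsTab_s_1_3 (c : Nat) : Nat := @Bool.rec (fun _ => Nat) (clsTab_1) (clsTab_2) (Nat.ble 2 c)
noncomputable def clsTab_s_0_3 (c : Nat) : Nat := @Bool.rec (fun _ => Nat) (clsTab_0) (clsTab_s_1_3 c) (Nat.ble 1 c)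
noncomputable def clsTab_s_3_5 (c : Nat) : Nat := @Bool.rec (fun _ => Nat) (clsTab_3) (clsTab_4) (Nat.ble 4 c)
noncomputable def clsTab_s_5_7 (c : Nat) : Nat := @Bool.rec (fun _ => Nat) (clsTab_5) (clsTab_6) (Nat.ble 6 c)
noncomputable def clsTab_s_3_7 (c : Nat) : Nat := @Bool.rec (fun _ => Nat) (clsTab_s_3_5 c) (clsTab_s_5_7 c) (Nat.ble 5 c)
noncomputable def clsTab_s_0_7 (c : Nat) : Nat := @Bool.rec (fun _ => Nat) (clsTab_s_0_3 c) (clsTab_s_3_7 c) (Nat.ble 3 c)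
noncomputable def clsTab_s_7_9 (c : Nat) : Nat := @Bool.rec (fun _ => Nat) (clsTab_7) (clsTab_8) (Nat.ble 8 c)
noncomputable def clsTab_s_9_11 (c : Nat) : Nat := @Bool.rec (fun _ => Nat) (clsTab_9) (clsTab_10) (Nat.ble 10 c)
noncomputable def clsTab_s_7_11 (c : Nat) : Nat := @Bool.rec (fun _ => Nat) (clsTab_s_7_9 c) (clsTab_s_9_11 c) (Nat.ble 9 c)
noncomputable def clsTab_s_11_13 (c : Nat) : Nat := @Bool.rec (fun _ => Nat) (clsTab_11) (clsTab_12) (Nat.ble 12 c)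
noncomputable def clsTab_s_13_15 (c : Nat) : Nat := @Bool.rec (fun _ => Nat) (clsTab_13) (clsTab_14) (Nat.ble 14 c)
noncomputable def clsTab_s_11_15 (c : Nat) : Nat := @Bool.rec (fun _ => Nat) (clsTab_s_11_13 c) (clsTab_s_13_15 c) (Nat.ble 13 c)
noncomputable def clsTab_s_7_15 (c : Nat) : Nat := @Bool.rec (fun _ => Nat) (clsTab_s_7_11 c) (clsTab_s_11_15 c) (Nat.ble 11 c)
noncomputable def clsTab_s_0_15 (c : Nat) : Nat := @Bool.rec (fun _ => Nat) (clsTab_s_0_7 c) (clsTab_s_7_15 c) (Nat.ble 7 c)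
noncomputable def clsTab_s_16_18 (c : Nat) : Nat := @Bool.rec (fun _ => Nat) (clsTab_16) (clsTab_17) (Nat.ble 17 c)
noncomputable def clsTab_s_15_18 (c : Nat) : Nat := @Bool.rec (fun _ => Nat) (clsTab_15) (clsTab_s_16_18 c) (Nat.ble 16 c)
noncomputable def clsTab_s_18_20 (c : Nat) : Nat := @Bool.rec (fun _ => Nat) (clsTab_18) (clsTab_19) (Nat.ble 19 c)
noncomputable def clsTab_s_20_22 (c : Nat) : Nat := @Bool.rec (fun _ => Nat) (clsTab_20) (clsTab_21) (Nat.ble 21 c)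
noncomputable def clsTab_s_18_22 (c : Nat) : Nat := @Bool.rec (fun _ => Nat) (clsTab_s_18_20 c) (clsTab_s_20_22 c) (Nat.ble 20 c)
noncomputable def clsTab_s_15_22 (c : Nat) : Nat := @Bool.rec (fun _ => Nat) (clsTab_s_15_18 c) (clsTab_s_18_22 c) (Nat.ble 18 c)
noncomputable def clsTab_s_22_24 (c : Nat) : Nat := @Bool.rec (fun _ => Nat) (clsTab_22) (clsTab_23) (Nat.ble 23 c)
noncomputable def clsTab_s_24_26 (c : Nat) : Nat := @Bool.rec (fun _ => Nat) (clsTab_24) (clsTab_25) (Nat.ble 25 c)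
noncomputable def clsTab_s_22_26 (c : Nat) : Nat := @Bool.rec (fun _ => Nat) (clsTab_s_22_24 c) (clsTab_s_24_26 c) (Nat.ble 24 c)
noncomputable def clsTab_s_26_28 (c : Nat) : Nat := @Bool.rec (fun _ => Nat) (clsTab_26) (clsTab_27) (Nat.ble 27 c)
noncomputable def clsTab_s_28_30 (c : Nat) : Nat := @Bool.rec (fun _ => Nat) (clsTab_28) (clsTab_29) (Nat.ble 29 c)
noncomputable def clsTab_s_26_30 (c : Nat) : Nat := @Bool.rec (fun _ => Nat) (clsTab_s_26_28 c) (clsTab_s_28_30 c) (Nat.ble 28 c)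
noncomputable def clsTab_s_22_30 (c : Nat) : Nat := @Bool.rec (fun _ => Nat) (clsTab_s_22_26 c) (clsTab_s_26_30 c) (Nat.ble 26 c)
noncomputable def clsTab_s_15_30 (c : Nat) : Nat := @Bool.rec (fun _ => Nat) (clsTab_s_15_22 c) (clsTab_s_22_30 c) (Nat.ble 22 c)
noncomputable def clsTab_s_0_30 (c : Nat) : Nat := @Bool.rec (fun _ => Nat) (clsTab_s_0_15 c) (clsTab_s_15_30 c) (Nat.ble 15 c)
noncomputable def clsTab_s_31_33 (c : Nat) : Nat := @Bool.rec (fun _ => Nat) (clsTab_31) (clsTab_32) (Nat.ble 32 c)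
noncomputable def clsTab_s_30_33 (c : Nat) : Nat := @Bool.rec (fun _ => Nat) (clsTab_30) (clsTab_s_31_33 c) (Nat.ble 31 c)
noncomputable def clsTab_s_33_35 (c : Nat) : Nat := @Bool.rec (fun _ => Nat) (clsTab_33) (clsTab_34) (Nat.ble 34 c)
noncomputable def clsTab_s_35_37 (c : Nat) : Nat := @Bool.rec (fun _ => Nat) (clsTab_35) (clsTab_36) (Nat.ble 36 c)
noncomputable def clsTab_s_33_37 (c : Nat) : Nat := @Bool.rec (fun _ => Nat) (clsTab_s_33_35 c) (clsTab_s_35_37 c) (Nat.ble 35 c)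
noncomputable def clsTab_s_30_37 (c : Nat) : Nat := @Bool.rec (fun _ => Nat) (clsTab_s_30_33 c) (clsTab_s_33_37 c) (Nat.ble 33 c)
noncomputable def clsTab_s_37_39 (c : Nat) : Nat := @Bool.rec (fun _ => Nat) (clsTab_37) (clsTab_38) (Nat.ble 38 c)
noncomputable def clsTab_s_39_41 (c : Nat) : Nat := @Bool.rec (fun _ => Nat) (clsTab_39) (clsTab_40) (Nat.ble 40 c)
noncomputable def clsTab_s_37_41 (c : Nat) : Nat := @Bool.rec (fun _ => Nat) (clsTab_s_37_39 c) (clsTab_s_39_41 c) (Nat.ble 39 c)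
noncomputable def clsTab_s_41_43 (c : Nat) : Nat := @Bool.rec (fun _ => Nat) (clsTab_41) (clsTab_42) (Nat.ble 42 c)
noncomputable def clsTab_s_43_45 (c : Nat) : Nat := @Bool.rec (fun _ => Nat) (clsTab_43) (clsTab_44) (Nat.ble 44 c)
noncomputable def clsTab_s_41_45 (c : Nat) : Nat := @Bool.rec (fun _ => Nat) (clsTab_s_41_43 c) (clsTab_s_43_45 c) (Nat.ble 43 c)
noncomputable def clsTab_s_37_45 (c : Nat) : Nat := @Bool.rec (fun _ => Nat) (clsTab_s_37_41 c) (clsTab_s_41_45 c) (Nat.ble 41 c)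
noncomputable def clsTab_s_30_45 (c : Nat) : Nat := @Bool.rec (fun _ => Nat) (clsTab_s_30_37 c) (clsTab_s_37_45 c) (Nat.ble 37 c)
noncomputable def clsTab_s_45_47 (c : Nat) : Nat := @Bool.rec (fun _ => Nat) (clsTab_45) (clsTab_46) (Nat.ble 46 c)
noncomputable def clsTab_s_47_49 (c : Nat) : Nat := @Bool.rec (fun _ => Nat) (clsTab_47) (clsTab_48) (Nat.ble 48 c)
noncomputable def clsTab_s_45_49 (c : Nat) : Nat := @Bool.rec (fun _ => Nat) (clsTab_s_45_47 c) (clsTab_s_47_49 c) (Nat.ble 47 c)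
noncomputable def clsTab_s_49_51 (c : Nat) : Nat := @Bool.rec (fun _ => Nat) (clsTab_49) (clsTab_50) (Nat.ble 50 c)
noncomputable def clsTab_s_51_53 (c : Nat) : Nat := @Bool.rec (fun _ => Nat) (clsTab_51) (clsTab_52) (Nat.ble 52 c)
noncomputable def clsTab_s_49_53 (c : Nat) : Nat := @Bool.rec (fun _ => Nat) (clsTab_s_49_51 c) (clsTab_s_51_53 c) (Nat.ble 51 c)
noncomputable def clsTab_s_45_53 (c : Nat) : Nat := @Bool.rec (fun _ => Nat) (clsTab_s_45_49 c) (clsTab_s_49_53 c) (Nat.ble 49 c)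
noncomputable def clsTab_s_53_55 (c : Nat) : Nat := @Bool.rec (fun _ => Nat) (clsTab_53) (clsTab_54) (Nat.ble 54 c)
noncomputable def clsTab_s_55_57 (c : Nat) : Nat := @Bool.rec (fun _ => Nat) (clsTab_55) (clsTab_56) (Nat.ble 56 c)
noncomputable def clsTab_s_53_57 (c : Nat) : Nat := @Bool.rec (fun _ => Nat) (clsTab_s_53_55 c) (clsTab_s_55_57 c) (Nat.ble 55 c)
noncomputable def clsTab_s_57_59 (c : Nat) : Nat := @Bool.rec (fun _ => Nat) (clsTab_57) (clsTab_58) (Nat.ble 58 c)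
noncomputable def clsTab_s_59_61 (c : Nat) : Nat := @Bool.rec (fun _ => Nat) (clsTab_59) (clsTab_60) (Nat.ble 60 c)
noncomputable def clsTab_s_57_61 (c : Nat) : Nat := @Bool.rec (fun _ => Nat) (clsTab_s_57_59 c) (clsTab_s_59_61 c) (Nat.ble 59 c)
noncomputable def clsTab_s_53_61 (c : Nat) : Nat := @Bool.rec (fun _ => Nat) (clsTab_s_53_57 c) (clsTab_s_57_61 c) (Nat.ble 57 c)
noncomputable def clsTab_s_45_61 (c : Nat) : Nat := @Bool.rec (fun _ => Nat) (clsTab_s_45_53 c) (clsTab_s_53_61 c) (Nat.ble 53 c)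
noncomputable def clsTab_s_30_61 (c : Nat) : Nat := @Bool.rec (fun _ => Nat) (clsTab_s_30_45 c) (clsTab_s_45_61 c) (Nat.ble 45 c)
noncomputable def clsTab_s_0_61 (c : Nat) : Nat := @Bool.rec (fun _ => Nat) (clsTab_s_0_30 c) (clsTab_s_30_61 c) (Nat.ble 30 c)
noncomputable def clsTab (i : Nat) : Nat := rdw 13 8191 (clsTab_s_0_61 (Nat.shiftRight i 12)) (Nat.land i 4095)
noncomputable def oparTab_s_0_2 (c : Nat) : Nat := @Bool.rec (fun _ => Nat) (oparTab_0) (oparTab_1) (Nat.ble 1 c)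
noncomputable def oparTab (i : Nat) : Nat := rdw 13 8191 (oparTab_s_0_2 (Nat.shiftRight i 12)) (Nat.land i 4095)
noncomputable def olabTab (i : Nat) : Nat := rdw 3 7 olabTab_0 i
noncomputable def srcF (t : Nat) : Nat := Nat.land (Atab t) 262143
noncomputable def tgtF (t : Nat) : Nat := Nat.land (Nat.shiftRight (Atab t) 18) 262143
noncomputable def ltF (t : Nat) : Nat := Nat.shiftRight (Atab t) 36
noncomputable def rhoF (t : Nat) : Nat := Nat.land (Btab (Nat.sub t 249682)) 255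
noncomputable def rotF (t : Nat) : Nat := Nat.land (Nat.shiftRight (Btab (Nat.sub t 249682)) 8) 63
noncomputable def lenF (t : Nat) : Nat := Nat.land (Nat.shiftRight (Btab (Nat.sub t 249682)) 14) 127
noncomputable def offF (t : Nat) : Nat := Nat.shiftRight (Btab (Nat.sub t 249682)) 21
noncomputable def pfF (j : Nat) : Nat := Nat.shiftRight (Ptab j) 1
noncomputable def pdF (j : Nat) : Nat := Nat.land (Ptab j) 1
noncomputable def tblF (i x : Nat) : Nat := @Bool.rec (fun _ => Nat) (@Bool.rec (fun _ => Nat) (@Bool.rec (fun _ => Nat) (@Bool.rec (fun _ => Nat) (col0 i) (col1 i) (Nat.ble 1 x)) (@Bool.rec (fun _ => Nat) (col2 i) (@Bool.rec (fun _ => Nat) (col3 i) (col4 i) (Nat.ble 4 x)) (Nat.ble 3 x)) (Nat.ble 2 x)) (@Bool.rec (fun _ => Nat) (@Bool.rec (fun _ => Nat) (col5 i) (@Bool.rec (fun _ => Nat) (col6 i) (col7 i) (Nat.ble 7 x)) (Nat.ble 6 x)) (@Bool.rec (fun _ => Nat) (col8 i) (@Bool.rec (fun _ => Nat) (col9 i) (col10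 i) (Nat.ble 10 x)) (Nat.ble 9 x)) (Nat.ble 8 x)) (Nat.ble 5 x)) (@Bool.rec (fun _ => Nat) (@Bool.rec (fun _ => Nat) (@Bool.rec (fun _ => Nat) (col11 i) (col12 i) (Nat.ble 12 x)) (@Bool.rec (fun _ => Nat) (col13 i) (@Bool.rec (fun _ => Nat) (col14 i) (col15 i) (Nat.ble 15 x)) (Nat.ble 14 x)) (Nat.ble 13 x)) (@Bool.rec (fun _ => Nat) (@Bool.rec (fun _ => Nat) (col16 i) (@Bool.rec (fun _ => Nat) (col17 i) (col18 i) (Nat.ble 18 x)) (Nat.ble 17 x)) (@Bool.rec (fun _ => Nat) (col19 i) (@Bool.rec (fun _ => Nat) (col20 i) (col21 i) (Nat.ble 21 x)) (Nat.ble 20 x)) (Nat.ble 19 x)) (Nat.ble 16 x)) (Nat.ble 11 x)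
noncomputable def finE (i x : Nat) : Nat := finTab (Nat.add (Nat.mul i 22) x)
noncomputable def finFF (i x : Nat) : Nat := Nat.shiftRight (finE i x) 1
noncomputable def finDF (i x : Nat) : Nat := Nat.land (finE i x) 1

noncomputable def D : Log :=
  { k := 22, inv := invE 22 PSHep3.invR, nR := 224, rBase := rBtab, rLen := rLtab, RR := RRtab,
    M := 249670, nB := 12, F := 791846, src := srcF, lt := ltF, tgt := tgtF, rho := rhoF, rot := rotF,
    off := offF, len := lenF, pf := pfF, pd := pdF }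

noncomputable def T : Tab :=
  { N := 4116, nameOf := nameTab, tbl := tblF, finF := finFF, finD := finDF, cls := clsTab }

def subs : List (List Nat) := [
  [0],
  [2],
  [4],
  [6],
  [8],
  [10] ]

def rw0 : List Nat := [0, 0, 0, 0, 0, 0, 0, 0, 0, 0, 0, 0, 0, 0, 0, 0, 0]
def rw1 : List Nat := [2, 2]
def rw2 : List Nat := [4, 4]
def rw3 : List Nat := [6, 6]
def rw4 : List Nat := [8, 8]
def rw5 : List Nat := [10, 10]
def rw6 : List Nat := [12, 12]
def rw7 : List Nat := [14, 14]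
def rw8 : List Nat := [17, 2, 5, 13, 7, 5, 13, 7, 5, 13, 7]
def rw9 : List Nat := [19, 4, 8, 10, 14, 4, 8, 10, 14, 4, 8, 10, 14, 4, 8, 10, 14]
def rw10 : List Nat := [21, 12, 4, 8, 2, 12, 4, 8, 2, 12, 4, 8, 2, 12, 4, 8, 2, 12, 4, 8, 2, 12, 4, 8, 2, 12, 4, 8, 2, 11, 1, 5, 9]
def rw11 : List Nat := [16, 16, 16]
def rw12 : List Nat := [18, 18, 18]
def rw13 : List Nat := [20, 20, 20]
def rw14 : List Nat := [16, 0, 17, 1]
def rw15 : List Nat := [16, 2, 17, 3]
def rw16 : List Nat := [16, 4, 17, 5]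
def rw17 : List Nat := [16, 6, 17, 7]
def rw18 : List Nat := [16, 8, 17, 9]
def rw19 : List Nat := [16, 10, 17, 11]
def rw20 : List Nat := [16, 12, 17, 13]
def rw21 : List Nat := [16, 14, 17, 15]
def rw22 : List Nat := [18, 0, 19, 1]
def rw23 : List Nat := [18, 2, 19, 3]
def rw24 : List Nat := [18, 4, 19, 5]
def rw25 : List Nat := [18, 6, 19, 7]
def rw26 : List Nat := [18, 8, 19, 9]
def rw27 : List Nat := [18, 10, 19, 11]
def rw28 : List Nat := [18, 12, 19, 13]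
def rw29 : List Nat := [18, 14, 19, 15]
def rw30 : List Nat := [20, 0, 21, 1]
def rw31 : List Nat := [20, 2, 21, 3]
def rw32 : List Nat := [20, 4, 21, 5]
def rw33 : List Nat := [20, 6, 21, 7]
def rw34 : List Nat := [20, 8, 21, 9]
def rw35 : List Nat := [20, 10, 21, 11]
def rw36 : List Nat := [20, 12, 21, 13]
def rw37 : List Nat := [20, 14, 21, 15]
def rw38 : List Nat := [0, 0, 0, 0, 0, 0, 0, 0, 0, 0, 0, 0, 0, 0, 0, 0, 0]
def rw39 : List Nat := [2, 2]
def rw40 : List Nat := [0, 0, 0, 2, 1, 2, 0, 2, 0, 0, 0, 2, 1, 2, 0, 2]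
def rw41 : List Nat := [0, 0, 0, 0, 0, 2, 0, 0, 0, 0, 0, 2, 0, 0, 0, 0, 0, 2]
def rw42 : List Nat := [4, 4]
def rw43 : List Nat := [2, 4, 2, 4]
def rw44 : List Nat := [0, 4, 0, 4, 0, 4, 0, 4, 0, 4]
def rw45 : List Nat := [0, 2, 1, 2, 4, 1, 2, 0, 4, 0, 4, 2, 0, 4, 2, 0, 4]
def rw46 : List Nat := [0, 0, 2, 0, 4, 0, 4, 1, 1, 2, 1, 4, 0, 4, 0, 2, 0, 2]
def rw47 : List Nat := [7, 0, 0, 0, 4, 1, 4, 0, 4, 1, 1, 1]
def rw48 : List Nat := [9, 0, 2, 4, 1, 4, 0, 2, 1, 4, 0, 4, 1, 2, 4]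
def rw49 : List Nat := [11, 0, 2, 1, 2, 0, 2, 4]
def rw50 : List Nat := [4, 8, 4, 8, 4, 8, 4, 8, 4, 8, 4, 8, 4, 8, 4, 8, 4, 8, 4, 8]
def rw51 : List Nat := [8, 2, 8, 2, 8, 2]
def rw52 : List Nat := [8, 10, 8, 10, 8, 10]
def rw53 : List Nat := [6, 4, 7, 5]
def rw54 : List Nat := [6, 8, 7, 9]
def rw55 : List Nat := [6, 2, 7, 3]
def rw56 : List Nat := [6, 10, 7, 11]
def rw57 : List Nat := [4, 2, 5, 3]
def rw58 : List Nat := [4, 10, 5, 11]
def rw59 : List Nat := [2, 10, 3, 11]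
def rw60 : List Nat := [6, 9, 5, 9, 5, 9, 5, 9, 5, 9, 5]
def rw61 : List Nat := [12, 6, 12, 6, 12, 7, 13, 7, 13, 13]
def rw62 : List Nat := [12, 4, 12, 5, 13, 5]
def rw63 : List Nat := [8, 12, 9, 13]
def rw64 : List Nat := [2, 12, 3, 13]
def rw65 : List Nat := [10, 12, 11, 13]
def rw66 : List Nat := [14, 12, 15, 13]
def rw67 : List Nat := [14, 10, 14, 10, 14, 11, 15, 11, 15, 15]
def rw68 : List Nat := [14, 8, 14, 9, 15, 9]
def rw69 : List Nat := [6, 14, 7, 15]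
def rw70 : List Nat := [4, 14, 5, 15]
def rw71 : List Nat := [2, 14, 3, 15]
def rw72 : List Nat := [14, 10, 15, 3, 11]
def rw73 : List Nat := [12, 2, 13, 3]
def rw74 : List Nat := [12, 4, 0, 13, 1, 5]
def rw75 : List Nat := [12, 0, 2, 4, 1, 2, 4, 0, 2, 4, 1, 13, 0, 5, 3, 1, 5, 3, 0, 5, 3, 1]
def rw76 : List Nat := [14, 2, 15, 3]
def rw77 : List Nat := [14, 4, 15, 5]
def rw78 : List Nat := [14, 0, 2, 1, 2, 0, 2, 15, 1, 3, 0, 3, 1]
def rw79 : List Nat := [14, 0, 4, 1, 1, 4, 0, 0, 4, 1, 2, 15, 0, 5, 1, 1, 5, 0, 0, 5, 1]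
def rw80 : List Nat := [14, 0, 0, 0, 4, 1, 4, 0, 4, 1, 1, 1, 15, 0, 0, 0, 5, 1, 5, 0, 5, 1, 1, 1]
def rw81 : List Nat := [14, 1, 1, 2, 4, 0, 2, 4, 1, 2, 4, 0, 0, 15, 1, 1, 5, 3, 0, 5, 3, 1, 5, 3, 0, 0]
def rw82 : List Nat := [14, 1, 1, 1, 4, 1, 2, 4, 0, 4, 0, 0, 0, 2, 15, 0, 0, 0, 5, 0, 5, 3, 1, 5, 1, 1, 1]
def rw83 : List Nat := [14, 4, 0, 4, 1, 4, 1, 1, 1, 4, 1, 4, 0, 15, 0, 0, 0, 3, 0, 3, 1, 5, 1, 1, 1, 1, 5, 1]
def realLit : List (List Nat) := [rw0, rw1, rw2, rw3, rw4, rw5, rw6, rw7, rw8, rw9, rw10, rw11, rw12, rw13, rw14, rw15, rw16, rw17, rw18, rw19, rw20, rw21, rw22, rw23, rw24, rw25, rw26, rw27, rw28, rw29, rw30, rw31, rw32, rw33, rw34, rw35, rw36, rw37, rw38, rw39, rw40, rw41, rw42, rw43, rw44, rw45, rw46, rw47, rw48, rw49, rw50, rw51, rw52, rw53, rw54, rw55, rw56, rw57, rw58, rw59, rw60, rw61, rw62, rw63, rw64, rw65, rw66, rw67, rw68, rw69, rw70, rw71, rw72, rw73, rw74, rw75, rw76, rw77, rw78, rw79, rw80,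 rw81, rw82, rw83]
noncomputable def actR0 (i : Nat) : Nat := col1 (col1 (col1 (col1 (col1 (col1 (col1 (col1 (col1 (col1 (col1 (col1 (col1 (col1 (col1 (col1 (col1 (i)))))))))))))))))
theorem actR0_eq (i : Nat) : actR0 i = Tab.act T D rw0 i := rfl
noncomputable def actR1 (i : Nat) : Nat := col3 (col3 (i))
theorem actR1_eq (i : Nat) : actR1 i = Tab.act T D rw1 i := rfl
noncomputable def actR2 (i : Nat) : Nat := col5 (col5 (i))
theorem actR2_eq (i : Nat) : actR2 i = Tab.act T D rw2 i := rfl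
noncomputable def actR3 (i : Nat) : Nat := col7 (col7 (i))
theorem actR3_eq (i : Nat) : actR3 i = Tab.act T D rw3 i := rfl
noncomputable def actR4 (i : Nat) : Nat := col9 (col9 (i))
theorem actR4_eq (i : Nat) : actR4 i = Tab.act T D rw4 i := rfl
noncomputable def actR5 (i : Nat) : Nat := col11 (col11 (i))
theorem actR5_eq (i : Nat) : actR5 i = Tab.act T D rw5 i := rfl
noncomputable def actR6 (i : Nat) : Nat := col13 (col13 (i))
theorem actR6_eq (i : Nat) : actR6 i = Tab.act T D rw6 i := rfl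
noncomputable def actR7 (i : Nat) : Nat := col15 (col15 (i))
theorem actR7_eq (i : Nat) : actR7 i = Tab.act T D rw7 i := rfl
noncomputable def actR8 (i : Nat) : Nat := col16 (col3 (col4 (col12 (col6 (col4 (col12 (col6 (col4 (col12 (col6 (i)))))))))))
theorem actR8_eq (i : Nat) : actR8 i = Tab.act T D rw8 i := rfl
noncomputable def actR9 (i : Nat) : Nat := col18 (col5 (col9 (col11 (col15 (col5 (col9 (col11 (col15 (col5 (col9 (col11 (col15 (col5 (col9 (col11 (col15 (i)))))))))))))))))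
theorem actR9_eq (i : Nat) : actR9 i = Tab.act T D rw9 i := rfl
noncomputable def actR10 (i : Nat) : Nat := col20 (col13 (col5 (col9 (col3 (col13 (col5 (col9 (col3 (col13 (col5 (col9 (col3 (col13 (col5 (col9 (col3 (col13 (col5 (col9 (col3 (col13 (col5 (col9 (col3 (col13 (col5 (col9 (col3 (col10 (col0 (col4 (col8 (i)))))))))))))))))))))))))))))))))
theorem actR10_eq (i : Nat) : actR10 i = Tab.act T D rw10 i := rfl
noncomputable def actR11 (i : Nat) : Nat := col17 (col17 (col17 (i)))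
theorem actR11_eq (i : Nat) : actR11 i = Tab.act T D rw11 i := rfl
noncomputable def actR12 (i : Nat) : Nat := col19 (col19 (col19 (i)))
theorem actR12_eq (i : Nat) : actR12 i = Tab.act T D rw12 i := rfl
noncomputable def actR13 (i : Nat) : Nat := col21 (col21 (col21 (i)))
theorem actR13_eq (i : Nat) : actR13 i = Tab.act T D rw13 i := rfl
noncomputable def actR14 (i : Nat) : Nat := col17 (col1 (col16 (col0 (i))))
theorem actR14_eq (i : Nat) : actR14 i = Tab.act T D rw14 i := rfl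
noncomputable def actR15 (i : Nat) : Nat := col17 (col3 (col16 (col2 (i))))
theorem actR15_eq (i : Nat) : actR15 i = Tab.act T D rw15 i := rfl
noncomputable def actR16 (i : Nat) : Nat := col17 (col5 (col16 (col4 (i))))
theorem actR16_eq (i : Nat) : actR16 i = Tab.act T D rw16 i := rfl
noncomputable def actR17 (i : Nat) : Nat := col17 (col7 (col16 (col6 (i))))
theorem actR17_eq (i : Nat) : actR17 i = Tab.act T D rw17 i := rfl
noncomputable def actR18 (i : Nat) : Nat := col17 (col9 (col16 (col8 (i))))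
theorem actR18_eq (i : Nat) : actR18 i = Tab.act T D rw18 i := rfl
noncomputable def actR19 (i : Nat) : Nat := col17 (col11 (col16 (col10 (i))))
theorem actR19_eq (i : Nat) : actR19 i = Tab.act T D rw19 i := rfl
noncomputable def actR20 (i : Nat) : Nat := col17 (col13 (col16 (col12 (i))))
theorem actR20_eq (i : Nat) : actR20 i = Tab.act T D rw20 i := rfl
noncomputable def actR21 (i : Nat) : Nat := col17 (col15 (col16 (col14 (i))))
theorem actR21_eq (i : Nat) : actR21 i = Tab.act T D rw21 i := rfl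
noncomputable def actR22 (i : Nat) : Nat := col19 (col1 (col18 (col0 (i))))
theorem actR22_eq (i : Nat) : actR22 i = Tab.act T D rw22 i := rfl
noncomputable def actR23 (i : Nat) : Nat := col19 (col3 (col18 (col2 (i))))
theorem actR23_eq (i : Nat) : actR23 i = Tab.act T D rw23 i := rfl
noncomputable def actR24 (i : Nat) : Nat := col19 (col5 (col18 (col4 (i))))
theorem actR24_eq (i : Nat) : actR24 i = Tab.act T D rw24 i := rfl
noncomputable def actR25 (i : Nat) : Nat := col19 (col7 (col18 (col6 (i))))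
theorem actR25_eq (i : Nat) : actR25 i = Tab.act T D rw25 i := rfl
noncomputable def actR26 (i : Nat) : Nat := col19 (col9 (col18 (col8 (i))))
theorem actR26_eq (i : Nat) : actR26 i = Tab.act T D rw26 i := rfl
noncomputable def actR27 (i : Nat) : Nat := col19 (col11 (col18 (col10 (i))))
theorem actR27_eq (i : Nat) : actR27 i = Tab.act T D rw27 i := rfl
noncomputable def actR28 (i : Nat) : Nat := col19 (col13 (col18 (col12 (i))))
theorem actR28_eq (i : Nat) : actR28 i = Tab.act T D rw28 i := rfl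
noncomputable def actR29 (i : Nat) : Nat := col19 (col15 (col18 (col14 (i))))
theorem actR29_eq (i : Nat) : actR29 i = Tab.act T D rw29 i := rfl
noncomputable def actR30 (i : Nat) : Nat := col21 (col1 (col20 (col0 (i))))
theorem actR30_eq (i : Nat) : actR30 i = Tab.act T D rw30 i := rfl
noncomputable def actR31 (i : Nat) : Nat := col21 (col3 (col20 (col2 (i))))
theorem actR31_eq (i : Nat) : actR31 i = Tab.act T D rw31 i := rfl
noncomputable def actR32 (i : Nat) : Nat := col21 (col5 (col20 (col4 (i))))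
theorem actR32_eq (i : Nat) : actR32 i = Tab.act T D rw32 i := rfl
noncomputable def actR33 (i : Nat) : Nat := col21 (col7 (col20 (col6 (i))))
theorem actR33_eq (i : Nat) : actR33 i = Tab.act T D rw33 i := rfl
noncomputable def actR34 (i : Nat) : Nat := col21 (col9 (col20 (col8 (i))))
theorem actR34_eq (i : Nat) : actR34 i = Tab.act T D rw34 i := rfl
noncomputable def actR35 (i : Nat) : Nat := col21 (col11 (col20 (col10 (i))))
theorem actR35_eq (i : Nat) : actR35 i = Tab.act T D rw35 i := rfl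
noncomputable def actR36 (i : Nat) : Nat := col21 (col13 (col20 (col12 (i))))
theorem actR36_eq (i : Nat) : actR36 i = Tab.act T D rw36 i := rfl
noncomputable def actR37 (i : Nat) : Nat := col21 (col15 (col20 (col14 (i))))
theorem actR37_eq (i : Nat) : actR37 i = Tab.act T D rw37 i := rfl
noncomputable def actR38 (i : Nat) : Nat := col1 (col1 (col1 (col1 (col1 (col1 (col1 (col1 (col1 (col1 (col1 (col1 (col1 (col1 (col1 (col1 (col1 (i)))))))))))))))))
theorem actR38_eq (i : Nat) : actR38 i = Tab.act T D rw38 i := rfl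
noncomputable def actR39 (i : Nat) : Nat := col3 (col3 (i))
theorem actR39_eq (i : Nat) : actR39 i = Tab.act T D rw39 i := rfl
noncomputable def actR40 (i : Nat) : Nat := col1 (col1 (col1 (col3 (col0 (col3 (col1 (col3 (col1 (col1 (col1 (col3 (col0 (col3 (col1 (col3 (i))))))))))))))))
theorem actR40_eq (i : Nat) : actR40 i = Tab.act T D rw40 i := rfl
noncomputable def actR41 (i : Nat) : Nat := col1 (col1 (col1 (col1 (col1 (col3 (col1 (col1 (col1 (col1 (col1 (col3 (col1 (col1 (col1 (col1 (col1 (col3 (i))))))))))))))))))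
theorem actR41_eq (i : Nat) : actR41 i = Tab.act T D rw41 i := rfl
noncomputable def actR42 (i : Nat) : Nat := col5 (col5 (i))
theorem actR42_eq (i : Nat) : actR42 i = Tab.act T D rw42 i := rfl
noncomputable def actR43 (i : Nat) : Nat := col3 (col5 (col3 (col5 (i))))
theorem actR43_eq (i : Nat) : actR43 i = Tab.act T D rw43 i := rfl
noncomputable def actR44 (i : Nat) : Nat := col1 (col5 (col1 (col5 (col1 (col5 (col1 (col5 (col1 (col5 (i))))))))))
theorem actR44_eq (i : Nat) : actR44 i = Tab.act T D rw44 i := rfl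
noncomputable def actR45 (i : Nat) : Nat := col1 (col3 (col0 (col3 (col5 (col0 (col3 (col1 (col5 (col1 (col5 (col3 (col1 (col5 (col3 (col1 (col5 (i)))))))))))))))))
theorem actR45_eq (i : Nat) : actR45 i = Tab.act T D rw45 i := rfl
noncomputable def actR46 (i : Nat) : Nat := col1 (col1 (col3 (col1 (col5 (col1 (col5 (col0 (col0 (col3 (col0 (col5 (col1 (col5 (col1 (col3 (col1 (col3 (i))))))))))))))))))
theorem actR46_eq (i : Nat) : actR46 i = Tab.act T D rw46 i := rfl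
noncomputable def actR47 (i : Nat) : Nat := col6 (col1 (col1 (col1 (col5 (col0 (col5 (col1 (col5 (col0 (col0 (col0 (i))))))))))))
theorem actR47_eq (i : Nat) : actR47 i = Tab.act T D rw47 i := rfl
noncomputable def actR48 (i : Nat) : Nat := col8 (col1 (col3 (col5 (col0 (col5 (col1 (col3 (col0 (col5 (col1 (col5 (col0 (col3 (col5 (i)))))))))))))))
theorem actR48_eq (i : Nat) : actR48 i = Tab.act T D rw48 i := rfl
noncomputable def actR49 (i : Nat) : Nat := col10 (col1 (col3 (col0 (col3 (col1 (col3 (col5 (i))))))))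
theorem actR49_eq (i : Nat) : actR49 i = Tab.act T D rw49 i := rfl
noncomputable def actR50 (i : Nat) : Nat := col5 (col9 (col5 (col9 (col5 (col9 (col5 (col9 (col5 (col9 (col5 (col9 (col5 (col9 (col5 (col9 (col5 (col9 (col5 (col9 (i))))))))))))))))))))
theorem actR50_eq (i : Nat) : actR50 i = Tab.act T D rw50 i := rfl
noncomputable def actR51 (i : Nat) : Nat := col9 (col3 (col9 (col3 (col9 (col3 (i))))))
theorem actR51_eq (i : Nat) : actR51 i = Tab.act T D rw51 i := rfl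
noncomputable def actR52 (i : Nat) : Nat := col9 (col11 (col9 (col11 (col9 (col11 (i))))))
theorem actR52_eq (i : Nat) : actR52 i = Tab.act T D rw52 i := rfl
noncomputable def actR53 (i : Nat) : Nat := col7 (col5 (col6 (col4 (i))))
theorem actR53_eq (i : Nat) : actR53 i = Tab.act T D rw53 i := rfl
noncomputable def actR54 (i : Nat) : Nat := col7 (col9 (col6 (col8 (i))))
theorem actR54_eq (i : Nat) : actR54 i = Tab.act T D rw54 i := rfl
noncomputable def actR55 (i : Nat) : Nat := col7 (col3 (col6 (col2 (i))))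
theorem actR55_eq (i : Nat) : actR55 i = Tab.act T D rw55 i := rfl
noncomputable def actR56 (i : Nat) : Nat := col7 (col11 (col6 (col10 (i))))
theorem actR56_eq (i : Nat) : actR56 i = Tab.act T D rw56 i := rfl
noncomputable def actR57 (i : Nat) : Nat := col5 (col3 (col4 (col2 (i))))
theorem actR57_eq (i : Nat) : actR57 i = Tab.act T D rw57 i := rfl
noncomputable def actR58 (i : Nat) : Nat := col5 (col11 (col4 (col10 (i))))
theorem actR58_eq (i : Nat) : actR58 i = Tab.act T D rw58 i := rfl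
noncomputable def actR59 (i : Nat) : Nat := col3 (col11 (col2 (col10 (i))))
theorem actR59_eq (i : Nat) : actR59 i = Tab.act T D rw59 i := rfl
noncomputable def actR60 (i : Nat) : Nat := col7 (col8 (col4 (col8 (col4 (col8 (col4 (col8 (col4 (col8 (col4 (i)))))))))))
theorem actR60_eq (i : Nat) : actR60 i = Tab.act T D rw60 i := rfl
noncomputable def actR61 (i : Nat) : Nat := col13 (col7 (col13 (col7 (col13 (col6 (col12 (col6 (col12 (col12 (i))))))))))
theorem actR61_eq (i : Nat) : actR61 i = Tab.act T D rw61 i := rfl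
noncomputable def actR62 (i : Nat) : Nat := col13 (col5 (col13 (col4 (col12 (col4 (i))))))
theorem actR62_eq (i : Nat) : actR62 i = Tab.act T D rw62 i := rfl
noncomputable def actR63 (i : Nat) : Nat := col9 (col13 (col8 (col12 (i))))
theorem actR63_eq (i : Nat) : actR63 i = Tab.act T D rw63 i := rfl
noncomputable def actR64 (i : Nat) : Nat := col3 (col13 (col2 (col12 (i))))
theorem actR64_eq (i : Nat) : actR64 i = Tab.act T D rw64 i := rfl
noncomputable def actR65 (i : Nat) : Nat := col11 (col13 (col10 (col12 (i))))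
theorem actR65_eq (i : Nat) : actR65 i = Tab.act T D rw65 i := rfl
noncomputable def actR66 (i : Nat) : Nat := col15 (col13 (col14 (col12 (i))))
theorem actR66_eq (i : Nat) : actR66 i = Tab.act T D rw66 i := rfl
noncomputable def actR67 (i : Nat) : Nat := col15 (col11 (col15 (col11 (col15 (col10 (col14 (col10 (col14 (col14 (i))))))))))
theorem actR67_eq (i : Nat) : actR67 i = Tab.act T D rw67 i := rfl
noncomputable def actR68 (i : Nat) : Nat := col15 (col9 (col15 (col8 (col14 (col8 (i))))))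
theorem actR68_eq (i : Nat) : actR68 i = Tab.act T D rw68 i := rfl
noncomputable def actR69 (i : Nat) : Nat := col7 (col15 (col6 (col14 (i))))
theorem actR69_eq (i : Nat) : actR69 i = Tab.act T D rw69 i := rfl
noncomputable def actR70 (i : Nat) : Nat := col5 (col15 (col4 (col14 (i))))
theorem actR70_eq (i : Nat) : actR70 i = Tab.act T D rw70 i := rfl
noncomputable def actR71 (i : Nat) : Nat := col3 (col15 (col2 (col14 (i))))
theorem actR71_eq (i : Nat) : actR71 i = Tab.act T D rw71 i := rfl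
noncomputable def actR72 (i : Nat) : Nat := col15 (col11 (col14 (col2 (col10 (i)))))
theorem actR72_eq (i : Nat) : actR72 i = Tab.act T D rw72 i := rfl
noncomputable def actR73 (i : Nat) : Nat := col13 (col3 (col12 (col2 (i))))
theorem actR73_eq (i : Nat) : actR73 i = Tab.act T D rw73 i := rfl
noncomputable def actR74 (i : Nat) : Nat := col13 (col5 (col1 (col12 (col0 (col4 (i))))))
theorem actR74_eq (i : Nat) : actR74 i = Tab.act T D rw74 i := rfl
noncomputable def actR75 (i : Nat) : Nat := col13 (col1 (col3 (col5 (col0 (col3 (col5 (col1 (col3 (col5 (col0 (col12 (col1 (col4 (col2 (col0 (col4 (col2 (col1 (col4 (col2 (col0 (i))))))))))))))))))))))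
theorem actR75_eq (i : Nat) : actR75 i = Tab.act T D rw75 i := rfl
noncomputable def actR76 (i : Nat) : Nat := col15 (col3 (col14 (col2 (i))))
theorem actR76_eq (i : Nat) : actR76 i = Tab.act T D rw76 i := rfl
noncomputable def actR77 (i : Nat) : Nat := col15 (col5 (col14 (col4 (i))))
theorem actR77_eq (i : Nat) : actR77 i = Tab.act T D rw77 i := rfl
noncomputable def actR78 (i : Nat) : Nat := col15 (col1 (col3 (col0 (col3 (col1 (col3 (col14 (col0 (col2 (col1 (col2 (col0 (i)))))))))))))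
theorem actR78_eq (i : Nat) : actR78 i = Tab.act T D rw78 i := rfl
noncomputable def actR79 (i : Nat) : Nat := col15 (col1 (col5 (col0 (col0 (col5 (col1 (col1 (col5 (col0 (col3 (col14 (col1 (col4 (col0 (col0 (col4 (col1 (col1 (col4 (col0 (i)))))))))))))))))))))
theorem actR79_eq (i : Nat) : actR79 i = Tab.act T D rw79 i := rfl
noncomputable def actR80 (i : Nat) : Nat := col15 (col1 (col1 (col1 (col5 (col0 (col5 (col1 (col5 (col0 (col0 (col0 (col14 (col1 (col1 (col1 (col4 (col0 (col4 (col1 (col4 (col0 (col0 (col0 (i))))))))))))))))))))))))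
theorem actR80_eq (i : Nat) : actR80 i = Tab.act T D rw80 i := rfl
noncomputable def actR81 (i : Nat) : Nat := col15 (col0 (col0 (col3 (col5 (col1 (col3 (col5 (col0 (col3 (col5 (col1 (col1 (col14 (col0 (col0 (col4 (col2 (col1 (col4 (col2 (col0 (col4 (col2 (col1 (col1 (i))))))))))))))))))))))))))
theorem actR81_eq (i : Nat) : actR81 i = Tab.act T D rw81 i := rfl
noncomputable def actR82 (i : Nat) : Nat := col15 (col0 (col0 (col0 (col5 (col0 (col3 (col5 (col1 (col5 (col1 (col1 (col1 (col3 (col14 (col1 (col1 (col1 (col4 (col1 (col4 (col2 (col0 (col4 (col0 (col0 (col0 (i)))))))))))))))))))))))))))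
theorem actR82_eq (i : Nat) : actR82 i = Tab.act T D rw82 i := rfl
noncomputable def actR83 (i : Nat) : Nat := col15 (col5 (col1 (col5 (col0 (col5 (col0 (col0 (col0 (col5 (col0 (col5 (col1 (col14 (col1 (col1 (col1 (col2 (col1 (col2 (col0 (col4 (col0 (col0 (col0 (col0 (col4 (col0 (i))))))))))))))))))))))))))))
theorem actR83_eq (i : Nat) : actR83 i = Tab.act T D rw83 i := rfl

end Cfsg.Agent.Lib.Helper4.TCD.SHep3A
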