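import Cfsg.Agent.Lib.Helper4.TCD_SHep3A_Acc

namespace Cfsg.Agent.Lib.Helper4.TCD.SHep3A

open Cfsg.Agent.Lib.Helper4.TC

set_option maxRecDepth 100000
set_option Elab.async false

theorem c_zero : D.zeroOK = true := by decide +kernel
theorem c_base : allBelow D.baseOK 12 = true := by decide +kernel
theorem c_let : allBelow D.letOK 22 = true := by decide +kernel
theorem c_cls0 : T.cls 0 = 0 := by decide +kernel
theorem c_name0 : T.nameOf 0 = 0 := by decide +kernel
theorem c_tab : D.relTabOK 0 (baseRels 22 PSHep3.invR PSHep3.P.real subs ++ (baseRels 22 PSHep3.invR PSHep3.P.real subs).map (invWord D.inv)) = true := by decide +kernel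
theorem c_real : PSHep3.P.real = realLit := by decide +kernel
theorem c_subfix : subs.all (fun u => Nat.beq (Tab.act T D u 0) 0) = true := by decide +kernel
theorem c_subs : subs.all (fun u => u.all (fun x => Nat.ble (Nat.succ x) 22)) = true := by decide +kernel
theorem c_names_0 : allRange D.nameOK 1 60000 = true := by decide +kernel
theorem c_names_1 : allRange D.nameOK 60001 60000 = true := by decide +kernel
theorem c_names_2 : allRange D.nameOK 120001 60000 = true := by decide +kernel
theorem c_names_3 : allRange D.nameOK 180001 60000 = true := by decide +kernel
theorem c_names_4 : allRange D.nameOK 240001 9669 = true := by decide +kernel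
theorem c_cls_0 : allRange (T.clsOK D) 1 15000 = true := by decide +kernel
theorem c_cls_1 : allRange (T.clsOK D) 15001 15000 = true := by decide +kernel
theorem c_cls_2 : allRange (T.clsOK D) 30001 15000 = true := by decide +kernel
theorem c_cls_3 : allRange (T.clsOK D) 45001 15000 = true := by decide +kernel
theorem c_cls_4 : allRange (T.clsOK D) 60001 15000 = true := by decide +kernel
theorem c_cls_5 : allRange (T.clsOK D) 75001 15000 = true := by decide +kernel
theorem c_cls_6 : allRange (T.clsOK D) 90001 15000 = true := by decide +kernel
theorem c_cls_7 : allRange (T.clsOK D) 105001 15000 = true := by decide +kernel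
theorem c_cls_8 : allRange (T.clsOK D) 120001 15000 = true := by decide +kernel
theorem c_cls_9 : allRange (T.clsOK D) 135001 15000 = true := by decide +kernel
theorem c_cls_10 : allRange (T.clsOK D) 150001 15000 = true := by decide +kernel
theorem c_cls_11 : allRange (T.clsOK D) 165001 15000 = true := by decide +kernel
theorem c_cls_12 : allRange (T.clsOK D) 180001 15000 = true := by decide +kernel
theorem c_cls_13 : allRange (T.clsOK D) 195001 15000 = true := by decide +kernel
theorem c_cls_14 : allRange (T.clsOK D) 210001 15000 = true := by decide +kernel
theorem c_cls_15 : allRange (T.clsOK D) 225001 15000 = true := by decide +kernel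
theorem c_cls_16 : allRange (T.clsOK D) 240001 9669 = true := by decide +kernel
theorem c_rep_0 : allRange (T.repOK D) 0 4116 = true := by decide +kernel
theorem c_rel_0 : allRange D.relOK 249682 4175 = true := by decide +kernel
theorem c_rel_1 : allRange D.relOK 253857 3970 = true := by decide +kernel
theorem c_rel_2 : allRange D.relOK 257827 4266 = true := by decide +kernel
theorem c_rel_3 : allRange D.relOK 262093 4255 = true := by decide +kernel
theorem c_rel_4 : allRange D.relOK 266348 3629 = true := by decide +kernel
theorem c_rel_5 : allRange D.relOK 269977 3416 = true := by decide +kernel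
theorem c_rel_6 : allRange D.relOK 273393 4228 = true := by decide +kernel
theorem c_rel_7 : allRange D.relOK 277621 4219 = true := by decide +kernel
theorem c_rel_8 : allRange D.relOK 281840 4079 = true := by decide +kernel
theorem c_rel_9 : allRange D.relOK 285919 4151 = true := by decide +kernel
theorem c_rel_10 : allRange D.relOK 290070 4180 = true := by decide +kernel
theorem c_rel_11 : allRange D.relOK 294250 2945 = true := by decide +kernel
theorem c_rel_12 : allRange D.relOK 297195 4185 = true := by decide +kernel
theorem c_rel_13 : allRange D.relOK 301380 4327 = true := by decide +kernel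
theorem c_rel_14 : allRange D.relOK 305707 4238 = true := by decide +kernel
theorem c_rel_15 : allRange D.relOK 309945 4230 = true := by decide +kernel
theorem c_rel_16 : allRange D.relOK 314175 4257 = true := by decide +kernel
theorem c_rel_17 : allRange D.relOK 318432 3954 = true := by decide +kernel
theorem c_rel_18 : allRange D.relOK 322386 3465 = true := by decide +kernel
theorem c_rel_19 : allRange D.relOK 325851 3022 = true := by decide +kernel
theorem c_rel_20 : allRange D.relOK 328873 1731 = true := by decide +kernel
theorem c_rel_21 : allRange D.relOK 330604 3348 = true := by decide +kernel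
theorem c_rel_22 : allRange D.relOK 333952 4231 = true := by decide +kernel
theorem c_rel_23 : allRange D.relOK 338183 3986 = true := by decide +kernel
theorem c_rel_24 : allRange D.relOK 342169 3448 = true := by decide +kernel
theorem c_rel_25 : allRange D.relOK 345617 3513 = true := by decide +kernel
theorem c_rel_26 : allRange D.relOK 349130 3422 = true := by decide +kernel
theorem c_rel_27 : allRange D.relOK 352552 3740 = true := by decide +kernel
theorem c_rel_28 : allRange D.relOK 356292 3802 = true := by decide +kernel
theorem c_rel_29 : allRange D.relOK 360094 3928 = true := by decide +kernel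
theorem c_rel_30 : allRange D.relOK 364022 4155 = true := by decide +kernel
theorem c_rel_31 : allRange D.relOK 368177 4299 = true := by decide +kernel
theorem c_rel_32 : allRange D.relOK 372476 4154 = true := by decide +kernel
theorem c_rel_33 : allRange D.relOK 376630 4176 = true := by decide +kernel
theorem c_rel_34 : allRange D.relOK 380806 3825 = true := by decide +kernel
theorem c_rel_35 : allRange D.relOK 384631 2973 = true := by decide +kernel
theorem c_rel_36 : allRange D.relOK 387604 2158 = true := by decide +kernel
theorem c_rel_37 : allRange D.relOK 389762 2515 = true := by decide +kernel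
theorem c_rel_38 : allRange D.relOK 392277 1677 = true := by decide +kernel
theorem c_rel_39 : allRange D.relOK 393954 1612 = true := by decide +kernel
theorem c_rel_40 : allRange D.relOK 395566 1496 = true := by decide +kernel
theorem c_rel_41 : allRange D.relOK 397062 1700 = true := by decide +kernel
theorem c_rel_42 : allRange D.relOK 398762 2512 = true := by decide +kernel
theorem c_rel_43 : allRange D.relOK 401274 3228 = true := by decide +kernel
theorem c_rel_44 : allRange D.relOK 404502 3477 = true := by decide +kernel
theorem c_rel_45 : allRange D.relOK 407979 3533 = true := by decide +kernel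
theorem c_rel_46 : allRange D.relOK 411512 3932 = true := by decide +kernel
theorem c_rel_47 : allRange D.relOK 415444 3795 = true := by decide +kernel
theorem c_rel_48 : allRange D.relOK 419239 3649 = true := by decide +kernel
theorem c_rel_49 : allRange D.relOK 422888 3897 = true := by decide +kernel
theorem c_rel_50 : allRange D.relOK 426785 3885 = true := by decide +kernel
theorem c_rel_51 : allRange D.relOK 430670 3890 = true := by decide +kernel
theorem c_rel_52 : allRange D.relOK 434560 3149 = true := by decide +kernel
theorem c_rel_53 : allRange D.relOK 437709 2875 = true := by decide +kernel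
theorem c_rel_54 : allRange D.relOK 440584 2488 = true := by decide +kernel
theorem c_rel_55 : allRange D.relOK 443072 3870 = true := by decide +kernel
theorem c_rel_56 : allRange D.relOK 446942 3563 = true := by decide +kernel
theorem c_rel_57 : allRange D.relOK 450505 3248 = true := by decide +kernel

end Cfsg.Agent.Lib.Helper4.TCD.SHep3A
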