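import Cfsg.Agent.Lib.Helper4.TCD_SHep5A_Acc

namespace Cfsg.Agent.Lib.Helper4.TCD.SHep5A

open Cfsg.Agent.Lib.Helper4.TC

set_option maxRecDepth 100000
set_option Elab.async false

theorem c_zero : D.zeroOK = true := by decide +kernel
theorem c_base : allBelow D.baseOK 12 = true := by decide +kernel
theorem c_let : allBelow D.letOK 22 = true := by decide +kernel
theorem c_cls0 : T.cls 0 = 0 := by decide +kernel
theorem c_name0 : T.nameOf 0 = 0 := by decide +kernel
theorem c_tab : D.relTabOK 0 (baseRels 22 PSHep5.invR PSHep5.P.real subs ++ (baseRels 22 PSHep5.invR PSHep5.P.real subs).map (invWord D.inv)) = true := by decide +kernel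
theorem c_real : PSHep5.P.real = realLit := by decide +kernel
theorem c_subfix : subs.all (fun u => Nat.beq (Tab.act T D u 0) 0) = true := by decide +kernel
theorem c_subs : subs.all (fun u => u.all (fun x => Nat.ble (Nat.succ x) 22)) = true := by decide +kernel
theorem c_names_0 : allRange D.nameOK 1 60000 = true := by decide +kernel
theorem c_names_1 : allRange D.nameOK 60001 60000 = true := by decide +kernel
theorem c_names_2 : allRange D.nameOK 120001 60000 = true := by decide +kernel
theorem c_names_3 : allRange D.nameOK 180001 60000 = true := by decide +kernel
theorem c_names_4 : allRange D.nameOK 240001 32170 = true := by decide +kernel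
theorem c_cls_0 : allRange (T.clsOK D) 1 15000 = true := by decide +kernel
theorem c_cls_1 : allRange (T.clsOK D) 15001 15000 = true := by decide +kernel
theorem c_cls_2 : allRange (T.clsOK D) 30001 15000 = true := by decide +kernel
theorem c_cls_3 : allRange (T.clsOK D) 45001 15000 = true := by decide +kernel
theorem c_cls_4 : allRange (T.clsOK D) 60001 15000 = true := by decide +kernel
theorem c_cls_5 : allRange (T.clsOK D) 75001 15000 = true := by decide +kernel
theorem c_cls_6 : allRange (T.clsOK D) 90001 15000 = true := by decide +kernel
theorem c_cls_7 : allRange (T.clsOK D) 105001 15000 = true := by decide +kernel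
theorem c_cls_8 : allRange (T.clsOK D) 120001 15000 = true := by decide +kernel
theorem c_cls_9 : allRange (T.clsOK D) 135001 15000 = true := by decide +kernel
theorem c_cls_10 : allRange (T.clsOK D) 150001 15000 = true := by decide +kernel
theorem c_cls_11 : allRange (T.clsOK D) 165001 15000 = true := by decide +kernel
theorem c_cls_12 : allRange (T.clsOK D) 180001 15000 = true := by decide +kernel
theorem c_cls_13 : allRange (T.clsOK D) 195001 15000 = true := by decide +kernel
theorem c_cls_14 : allRange (T.clsOK D) 210001 15000 = true := by decide +kernel
theorem c_cls_15 : allRange (T.clsOK D) 225001 15000 = true := by decide +kernel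
theorem c_cls_16 : allRange (T.clsOK D) 240001 15000 = true := by decide +kernel
theorem c_cls_17 : allRange (T.clsOK D) 255001 15000 = true := by decide +kernel
theorem c_cls_18 : allRange (T.clsOK D) 270001 2170 = true := by decide +kernel
theorem c_rep_0 : allRange (T.repOK D) 0 4116 = true := by decide +kernel
theorem c_rel_0 : allRange D.relOK 272183 3872 = true := by decide +kernel
theorem c_rel_1 : allRange D.relOK 276055 3804 = true := by decide +kernel
theorem c_rel_2 : allRange D.relOK 279859 4143 = true := by decide +kernel
theorem c_rel_3 : allRange D.relOK 284002 4152 = true := by decide +kernel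
theorem c_rel_4 : allRange D.relOK 288154 3903 = true := by decide +kernel
theorem c_rel_5 : allRange D.relOK 292057 3229 = true := by decide +kernel
theorem c_rel_6 : allRange D.relOK 295286 3999 = true := by decide +kernel
theorem c_rel_7 : allRange D.relOK 299285 4209 = true := by decide +kernel
theorem c_rel_8 : allRange D.relOK 303494 4044 = true := by decide +kernel
theorem c_rel_9 : allRange D.relOK 307538 4301 = true := by decide +kernel
theorem c_rel_10 : allRange D.relOK 311839 4239 = true := by decide +kernel
theorem c_rel_11 : allRange D.relOK 316078 2864 = true := by decide +kernel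
theorem c_rel_12 : allRange D.relOK 318942 3942 = true := by decide +kernel
theorem c_rel_13 : allRange D.relOK 322884 4316 = true := by decide +kernel
theorem c_rel_14 : allRange D.relOK 327200 4218 = true := by decide +kernel
theorem c_rel_15 : allRange D.relOK 331418 4286 = true := by decide +kernel
theorem c_rel_16 : allRange D.relOK 335704 4043 = true := by decide +kernel
theorem c_rel_17 : allRange D.relOK 339747 4280 = true := by decide +kernel
theorem c_rel_18 : allRange D.relOK 344027 4250 = true := by decide +kernel
theorem c_rel_19 : allRange D.relOK 348277 3962 = true := by decide +kernel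
theorem c_rel_20 : allRange D.relOK 352239 3226 = true := by decide +kernel
theorem c_rel_21 : allRange D.relOK 355465 3643 = true := by decide +kernel
theorem c_rel_22 : allRange D.relOK 359108 3041 = true := by decide +kernel
theorem c_rel_23 : allRange D.relOK 362149 2455 = true := by decide +kernel
theorem c_rel_24 : allRange D.relOK 364604 2570 = true := by decide +kernel
theorem c_rel_25 : allRange D.relOK 367174 2914 = true := by decide +kernel
theorem c_rel_26 : allRange D.relOK 370088 3283 = true := by decide +kernel
theorem c_rel_27 : allRange D.relOK 373371 3293 = true := by decide +kernel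
theorem c_rel_28 : allRange D.relOK 376664 3124 = true := by decide +kernel
theorem c_rel_29 : allRange D.relOK 379788 3692 = true := by decide +kernel
theorem c_rel_30 : allRange D.relOK 383480 4238 = true := by decide +kernel
theorem c_rel_31 : allRange D.relOK 387718 4208 = true := by decide +kernel
theorem c_rel_32 : allRange D.relOK 391926 4110 = true := by decide +kernel
theorem c_rel_33 : allRange D.relOK 396036 4062 = true := by decide +kernel
theorem c_rel_34 : allRange D.relOK 400098 3545 = true := by decide +kernel
theorem c_rel_35 : allRange D.relOK 403643 2397 = true := by decide +kernel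
theorem c_rel_36 : allRange D.relOK 406040 2378 = true := by decide +kernel
theorem c_rel_37 : allRange D.relOK 408418 1993 = true := by decide +kernel
theorem c_rel_38 : allRange D.relOK 410411 1603 = true := by decide +kernel
theorem c_rel_39 : allRange D.relOK 412014 1486 = true := by decide +kernel
theorem c_rel_40 : allRange D.relOK 413500 1623 = true := by decide +kernel
theorem c_rel_41 : allRange D.relOK 415123 1855 = true := by decide +kernel
theorem c_rel_42 : allRange D.relOK 416978 2581 = true := by decide +kernel
theorem c_rel_43 : allRange D.relOK 419559 2989 = true := by decide +kernel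
theorem c_rel_44 : allRange D.relOK 422548 3457 = true := by decide +kernel
theorem c_rel_45 : allRange D.relOK 426005 3658 = true := by decide +kernel
theorem c_rel_46 : allRange D.relOK 429663 3760 = true := by decide +kernel
theorem c_rel_47 : allRange D.relOK 433423 3406 = true := by decide +kernel
theorem c_rel_48 : allRange D.relOK 436829 3466 = true := by decide +kernel
theorem c_rel_49 : allRange D.relOK 440295 3958 = true := by decide +kernel
theorem c_rel_50 : allRange D.relOK 444253 3842 = true := by decide +kernel
theorem c_rel_51 : allRange D.relOK 448095 3895 = true := by decide +kernel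
theorem c_rel_52 : allRange D.relOK 451990 3969 = true := by decide +kernel
theorem c_rel_53 : allRange D.relOK 455959 3019 = true := by decide +kernel

end Cfsg.Agent.Lib.Helper4.TCD.SHep5A
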