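import Cfsg.Agent.Lib.Helper4.TCD_SHep7A_Acc

namespace Cfsg.Agent.Lib.Helper4.TCD.SHep7A

open Cfsg.Agent.Lib.Helper4.TC

set_option maxRecDepth 100000
set_option Elab.async false

theorem c_zero : D.zeroOK = true := by decide +kernel
theorem c_base : allBelow D.baseOK 12 = true := by decide +kernel
theorem c_let : allBelow D.letOK 22 = true := by decide +kernel
theorem c_cls0 : T.cls 0 = 0 := by decide +kernel
theorem c_name0 : T.nameOf 0 = 0 := by decide +kernel
theorem c_tab : D.relTabOK 0 (baseRels 22 PSHep7.invR PSHep7.P.real subs ++ (baseRels 22 PSHep7.invR PSHep7.P.real subs).map (invWord D.inv)) = true := by decide +kernel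
theorem c_real : PSHep7.P.real = realLit := by decide +kernel
theorem c_subfix : subs.all (fun u => Nat.beq (Tab.act T D u 0) 0) = true := by decide +kernel
theorem c_subs : subs.all (fun u => u.all (fun x => Nat.ble (Nat.succ x) 22)) = true := by decide +kernel
theorem c_names_0 : allRange D.nameOK 1 60000 = true := by decide +kernel
theorem c_names_1 : allRange D.nameOK 60001 60000 = true := by decide +kernel
theorem c_names_2 : allRange D.nameOK 120001 60000 = true := by decide +kernel
theorem c_names_3 : allRange D.nameOK 180001 60000 = true := by decide +kernel
theorem c_names_4 : allRange D.nameOK 240001 21528 = true := by decide +kernel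
theorem c_cls_0 : allRange (T.clsOK D) 1 15000 = true := by decide +kernel
theorem c_cls_1 : allRange (T.clsOK D) 15001 15000 = true := by decide +kernel
theorem c_cls_2 : allRange (T.clsOK D) 30001 15000 = true := by decide +kernel
theorem c_cls_3 : allRange (T.clsOK D) 45001 15000 = true := by decide +kernel
theorem c_cls_4 : allRange (T.clsOK D) 60001 15000 = true := by decide +kernel
theorem c_cls_5 : allRange (T.clsOK D) 75001 15000 = true := by decide +kernel
theorem c_cls_6 : allRange (T.clsOK D) 90001 15000 = true := by decide +kernel
theorem c_cls_7 : allRange (T.clsOK D) 105001 15000 = true := by decide +kernel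
theorem c_cls_8 : allRange (T.clsOK D) 120001 15000 = true := by decide +kernel
theorem c_cls_9 : allRange (T.clsOK D) 135001 15000 = true := by decide +kernel
theorem c_cls_10 : allRange (T.clsOK D) 150001 15000 = true := by decide +kernel
theorem c_cls_11 : allRange (T.clsOK D) 165001 15000 = true := by decide +kernel
theorem c_cls_12 : allRange (T.clsOK D) 180001 15000 = true := by decide +kernel
theorem c_cls_13 : allRange (T.clsOK D) 195001 15000 = true := by decide +kernel
theorem c_cls_14 : allRange (T.clsOK D) 210001 15000 = true := by decide +kernel
theorem c_cls_15 : allRange (T.clsOK D) 225001 15000 = true := by decide +kernel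
theorem c_cls_16 : allRange (T.clsOK D) 240001 15000 = true := by decide +kernel
theorem c_cls_17 : allRange (T.clsOK D) 255001 6528 = true := by decide +kernel
theorem c_rep_0 : allRange (T.repOK D) 0 4116 = true := by decide +kernel
theorem c_rel_0 : allRange D.relOK 261541 3852 = true := by decide +kernel
theorem c_rel_1 : allRange D.relOK 265393 3914 = true := by decide +kernel
theorem c_rel_2 : allRange D.relOK 269307 4157 = true := by decide +kernel
theorem c_rel_3 : allRange D.relOK 273464 4149 = true := by decide +kernel
theorem c_rel_4 : allRange D.relOK 277613 3938 = true := by decide +kernel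
theorem c_rel_5 : allRange D.relOK 281551 3327 = true := by decide +kernel
theorem c_rel_6 : allRange D.relOK 284878 4194 = true := by decide +kernel
theorem c_rel_7 : allRange D.relOK 289072 4200 = true := by decide +kernel
theorem c_rel_8 : allRange D.relOK 293272 4045 = true := by decide +kernel
theorem c_rel_9 : allRange D.relOK 297317 4304 = true := by decide +kernel
theorem c_rel_10 : allRange D.relOK 301621 4223 = true := by decide +kernel
theorem c_rel_11 : allRange D.relOK 305844 2856 = true := by decide +kernel
theorem c_rel_12 : allRange D.relOK 308700 4140 = true := by decide +kernel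
theorem c_rel_13 : allRange D.relOK 312840 4361 = true := by decide +kernel
theorem c_rel_14 : allRange D.relOK 317201 4107 = true := by decide +kernel
theorem c_rel_15 : allRange D.relOK 321308 4292 = true := by decide +kernel
theorem c_rel_16 : allRange D.relOK 325600 4195 = true := by decide +kernel
theorem c_rel_17 : allRange D.relOK 329795 4289 = true := by decide +kernel
theorem c_rel_18 : allRange D.relOK 334084 4281 = true := by decide +kernel
theorem c_rel_19 : allRange D.relOK 338365 3977 = true := by decide +kernel
theorem c_rel_20 : allRange D.relOK 342342 2943 = true := by decide +kernel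
theorem c_rel_21 : allRange D.relOK 345285 3859 = true := by decide +kernel
theorem c_rel_22 : allRange D.relOK 349144 2698 = true := by decide +kernel
theorem c_rel_23 : allRange D.relOK 351842 2690 = true := by decide +kernel
theorem c_rel_24 : allRange D.relOK 354532 2593 = true := by decide +kernel
theorem c_rel_25 : allRange D.relOK 357125 3042 = true := by decide +kernel
theorem c_rel_26 : allRange D.relOK 360167 3584 = true := by decide +kernel
theorem c_rel_27 : allRange D.relOK 363751 3097 = true := by decide +kernel
theorem c_rel_28 : allRange D.relOK 366848 3650 = true := by decide +kernel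
theorem c_rel_29 : allRange D.relOK 370498 4091 = true := by decide +kernel
theorem c_rel_30 : allRange D.relOK 374589 4311 = true := by decide +kernel
theorem c_rel_31 : allRange D.relOK 378900 4133 = true := by decide +kernel
theorem c_rel_32 : allRange D.relOK 383033 4175 = true := by decide +kernel
theorem c_rel_33 : allRange D.relOK 387208 3972 = true := by decide +kernel
theorem c_rel_34 : allRange D.relOK 391180 3025 = true := by decide +kernel
theorem c_rel_35 : allRange D.relOK 394205 2088 = true := by decide +kernel
theorem c_rel_36 : allRange D.relOK 396293 2521 = true := by decide +kernel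
theorem c_rel_37 : allRange D.relOK 398814 1758 = true := by decide +kernel
theorem c_rel_38 : allRange D.relOK 400572 1625 = true := by decide +kernel
theorem c_rel_39 : allRange D.relOK 402197 1541 = true := by decide +kernel
theorem c_rel_40 : allRange D.relOK 403738 1688 = true := by decide +kernel
theorem c_rel_41 : allRange D.relOK 405426 2296 = true := by decide +kernel
theorem c_rel_42 : allRange D.relOK 407722 3219 = true := by decide +kernel
theorem c_rel_43 : allRange D.relOK 410941 3353 = true := by decide +kernel
theorem c_rel_44 : allRange D.relOK 414294 3590 = true := by decide +kernel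
theorem c_rel_45 : allRange D.relOK 417884 3776 = true := by decide +kernel
theorem c_rel_46 : allRange D.relOK 421660 3994 = true := by decide +kernel
theorem c_rel_47 : allRange D.relOK 425654 3533 = true := by decide +kernel
theorem c_rel_48 : allRange D.relOK 429187 4000 = true := by decide +kernel
theorem c_rel_49 : allRange D.relOK 433187 3920 = true := by decide +kernel
theorem c_rel_50 : allRange D.relOK 437107 3999 = true := by decide +kernel
theorem c_rel_51 : allRange D.relOK 441106 4027 = true := by decide +kernel
theorem c_rel_52 : allRange D.relOK 445133 3239 = true := by decide +kernel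
theorem c_rel_53 : allRange D.relOK 448372 3848 = true := by decide +kernel
theorem c_rel_54 : allRange D.relOK 452220 3939 = true := by decide +kernel
theorem c_rel_55 : allRange D.relOK 456159 3589 = true := by decide +kernel

end Cfsg.Agent.Lib.Helper4.TCD.SHep7A
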