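import Cfsg.Agent.Lib.Helper4.TC7
import Cfsg.Agent.Lib.Helper4.TCP_SM23pp2
import Cfsg.Agent.Lib.Helper4.TCD_SM23pp2A_D0
import Cfsg.Agent.Lib.Helper4.TCD_SM23pp2A_D1
import Cfsg.Agent.Lib.Helper4.TCD_SM23pp2A_D2
import Cfsg.Agent.Lib.Helper4.TCD_SM23pp2A_D3
import Cfsg.Agent.Lib.Helper4.TCD_SM23pp2A_D4
import Cfsg.Agent.Lib.Helper4.TCD_SM23pp2A_D5
import Cfsg.Agent.Lib.Helper4.TCD_SM23pp2A_D6
import Cfsg.Agent.Lib.Helper4.TCD_SM23pp2A_D7
import Cfsg.Agent.Lib.Helper4.TCD_SM23pp2A_D8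
import Cfsg.Agent.Lib.Helper4.TCD_SM23pp2A_D9
import Cfsg.Agent.Lib.Helper4.TCD_SM23pp2A_D10
import Cfsg.Agent.Lib.Helper4.TCD_SM23pp2A_D11
import Cfsg.Agent.Lib.Helper4.TCD_SM23pp2A_D12
import Cfsg.Agent.Lib.Helper4.TCD_SM23pp2A_D13
import Cfsg.Agent.Lib.Helper4.TCD_SM23pp2A_D14
import Cfsg.Agent.Lib.Helper4.TCD_SM23pp2A_D15
import Cfsg.Agent.Lib.Helper4.TCD_SM23pp2A_D16

namespace Cfsg.Agent.Lib.Helper4.TCD.SM23pp2A

open Cfsg.Agent.Lib.Helper4.TC

set_option maxRecDepth 100000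

noncomputable def Atab_s_1_3 (c : Nat) : Nat := @Bool.rec (fun _ => Nat) (Atab_1) (Atab_2) (Nat.ble 2 c)
noncomputable def Atab_s_0_3 (c : Nat) : Nat := @Bool.rec (fun _ => Nat) (Atab_0) (Atab_s_1_3 c) (Nat.ble 1 c)
noncomputable def Atab_s_4_6 (c : Nat) : Nat := @Bool.rec (fun _ => Nat) (Atab_4) (Atab_5) (Nat.ble 5 c)
noncomputable def Atab_s_3_6 (c : Nat) : Nat := @Bool.rec (fun _ => Nat) (Atab_3) (Atab_s_4_6 c) (Nat.ble 4 c)
noncomputable def Atab_s_0_6 (c : Nat) : Nat := @Bool.rec (fun _ => Nat) (Atab_s_0_3 c) (Atab_s_3_6 c) (Nat.ble 3 c)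
noncomputable def Atab_s_7_9 (c : Nat) : Nat := @Bool.rec (fun _ => Nat) (Atab_7) (Atab_8) (Nat.ble 8 c)
noncomputable def Atab_s_6_9 (c : Nat) : Nat := @Bool.rec (fun _ => Nat) (Atab_6) (Atab_s_7_9 c) (Nat.ble 7 c)
noncomputable def Atab_s_10_12 (c : Nat) : Nat := @Bool.rec (fun _ => Nat) (Atab_10) (Atab_11) (Nat.ble 11 c)
noncomputable def Atab_s_9_12 (c : Nat) : Nat := @Bool.rec (fun _ => Nat) (Atab_9) (Atab_s_10_12 c) (Nat.ble 10 c)
noncomputable def Atab_s_6_12 (c : Nat) : Nat := @Bool.rec (fun _ => Nat) (Atab_s_6_9 c) (Atab_s_9_12 c) (Nat.ble 9 c)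
noncomputable def Atab_s_0_12 (c : Nat) : Nat := @Bool.rec (fun _ => Nat) (Atab_s_0_6 c) (Atab_s_6_12 c) (Nat.ble 6 c)
noncomputable def Atab_s_13_15 (c : Nat) : Nat := @Bool.rec (fun _ => Nat) (Atab_13) (Atab_14) (Nat.ble 14 c)
noncomputable def Atab_s_12_15 (c : Nat) : Nat := @Bool.rec (fun _ => Nat) (Atab_12) (Atab_s_13_15 c) (Nat.ble 13 c)
noncomputable def Atab_s_16_18 (c : Nat) : Nat := @Bool.rec (fun _ => Nat) (Atab_16) (Atab_17) (Nat.ble 17 c)
noncomputable def Atab_s_15_18 (c : Nat) : Nat := @Bool.rec (fun _ => Nat) (Atab_15) (Atab_s_16_18 c) (Nat.ble 16 c)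
noncomputable def Atab_s_12_18 (c : Nat) : Nat := @Bool.rec (fun _ => Nat) (Atab_s_12_15 c) (Atab_s_15_18 c) (Nat.ble 15 c)
noncomputable def Atab_s_19_21 (c : Nat) : Nat := @Bool.rec (fun _ => Nat) (Atab_19) (Atab_20) (Nat.ble 20 c)
noncomputable def Atab_s_18_21 (c : Nat) : Nat := @Bool.rec (fun _ => Nat) (Atab_18) (Atab_s_19_21 c) (Nat.ble 19 c)
noncomputable def Atab_s_22_24 (c : Nat) : Nat := @Bool.rec (fun _ => Nat) (Atab_22) (Atab_23) (Nat.ble 23 c)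
noncomputable def Atab_s_21_24 (c : Nat) : Nat := @Bool.rec (fun _ => Nat) (Atab_21) (Atab_s_22_24 c) (Nat.ble 22 c)
noncomputable def Atab_s_18_24 (c : Nat) : Nat := @Bool.rec (fun _ => Nat) (Atab_s_18_21 c) (Atab_s_21_24 c) (Nat.ble 21 c)
noncomputable def Atab_s_12_24 (c : Nat) : Nat := @Bool.rec (fun _ => Nat) (Atab_s_12_18 c) (Atab_s_18_24 c) (Nat.ble 18 c)
noncomputable def Atab_s_0_24 (c : Nat) : Nat := @Bool.rec (fun _ => Nat) (Atab_s_0_12 c) (Atab_s_12_24 c) (Nat.ble 12 c)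
noncomputable def Atab_s_25_27 (c : Nat) : Nat := @Bool.rec (fun _ => Nat) (Atab_25) (Atab_26) (Nat.ble 26 c)
noncomputable def Atab_s_24_27 (c : Nat) : Nat := @Bool.rec (fun _ => Nat) (Atab_24) (Atab_s_25_27 c) (Nat.ble 25 c)
noncomputable def Atab_s_28_30 (c : Nat) : Nat := @Bool.rec (fun _ => Nat) (Atab_28) (Atab_29) (Nat.ble 29 c)
noncomputable def Atab_s_27_30 (c : Nat) : Nat := @Bool.rec (fun _ => Nat) (Atab_27) (Atab_s_28_30 c) (Nat.ble 28 c)
noncomputable def Atab_s_24_30 (c : Nat) : Nat := @Bool.rec (fun _ => Nat) (Atab_s_24_27 c) (Atab_s_27_30 c) (Nat.ble 27 c)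
noncomputable def Atab_s_31_33 (c : Nat) : Nat := @Bool.rec (fun _ => Nat) (Atab_31) (Atab_32) (Nat.ble 32 c)
noncomputable def Atab_s_30_33 (c : Nat) : Nat := @Bool.rec (fun _ => Nat) (Atab_30) (Atab_s_31_33 c) (Nat.ble 31 c)
noncomputable def Atab_s_34_36 (c : Nat) : Nat := @Bool.rec (fun _ => Nat) (Atab_34) (Atab_35) (Nat.ble 35 c)
noncomputable def Atab_s_33_36 (c : Nat) : Nat := @Bool.rec (fun _ => Nat) (Atab_33) (Atab_s_34_36 c) (Nat.ble 34 c)
noncomputable def Atab_s_30_36 (c : Nat) : Nat := @Bool.rec (fun _ => Nat) (Atab_s_30_33 c) (Atab_s_33_36 c) (Nat.ble 33 c)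
noncomputable def Atab_s_24_36 (c : Nat) : Nat := @Bool.rec (fun _ => Nat) (Atab_s_24_30 c) (Atab_s_30_36 c) (Nat.ble 30 c)
noncomputable def Atab_s_37_39 (c : Nat) : Nat := @Bool.rec (fun _ => Nat) (Atab_37) (Atab_38) (Nat.ble 38 c)
noncomputable def Atab_s_36_39 (c : Nat) : Nat := @Bool.rec (fun _ => Nat) (Atab_36) (Atab_s_37_39 c) (Nat.ble 37 c)
noncomputable def Atab_s_40_42 (c : Nat) : Nat := @Bool.rec (fun _ => Nat) (Atab_40) (Atab_41) (Nat.ble 41 c)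
noncomputable def Atab_s_39_42 (c : Nat) : Nat := @Bool.rec (fun _ => Nat) (Atab_39) (Atab_s_40_42 c) (Nat.ble 40 c)
noncomputable def Atab_s_36_42 (c : Nat) : Nat := @Bool.rec (fun _ => Nat) (Atab_s_36_39 c) (Atab_s_39_42 c) (Nat.ble 39 c)
noncomputable def Atab_s_43_45 (c : Nat) : Nat := @Bool.rec (fun _ => Nat) (Atab_43) (Atab_44) (Nat.ble 44 c)
noncomputable def Atab_s_42_45 (c : Nat) : Nat := @Bool.rec (fun _ => Nat) (Atab_42) (Atab_s_43_45 c) (Nat.ble 43 c)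
noncomputable def Atab_s_46_48 (c : Nat) : Nat := @Bool.rec (fun _ => Nat) (Atab_46) (Atab_47) (Nat.ble 47 c)
noncomputable def Atab_s_45_48 (c : Nat) : Nat := @Bool.rec (fun _ => Nat) (Atab_45) (Atab_s_46_48 c) (Nat.ble 46 c)
noncomputable def Atab_s_42_48 (c : Nat) : Nat := @Bool.rec (fun _ => Nat) (Atab_s_42_45 c) (Atab_s_45_48 c) (Nat.ble 45 c)
noncomputable def Atab_s_36_48 (c : Nat) : Nat := @Bool.rec (fun _ => Nat) (Atab_s_36_42 c) (Atab_s_42_48 c) (Nat.ble 42 c)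
noncomputable def Atab_s_24_48 (c : Nat) : Nat := @Bool.rec (fun _ => Nat) (Atab_s_24_36 c) (Atab_s_36_48 c) (Nat.ble 36 c)
noncomputable def Atab_s_0_48 (c : Nat) : Nat := @Bool.rec (fun _ => Nat) (Atab_s_0_24 c) (Atab_s_24_48 c) (Nat.ble 24 c)
noncomputable def Atab_s_49_51 (c : Nat) : Nat := @Bool.rec (fun _ => Nat) (Atab_49) (Atab_50) (Nat.ble 50 c)
noncomputable def Atab_s_48_51 (c : Nat) : Nat := @Bool.rec (fun _ => Nat) (Atab_48) (Atab_s_49_51 c) (Nat.ble 49 c)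
noncomputable def Atab_s_52_54 (c : Nat) : Nat := @Bool.rec (fun _ => Nat) (Atab_52) (Atab_53) (Nat.ble 53 c)
noncomputable def Atab_s_51_54 (c : Nat) : Nat := @Bool.rec (fun _ => Nat) (Atab_51) (Atab_s_52_54 c) (Nat.ble 52 c)
noncomputable def Atab_s_48_54 (c : Nat) : Nat := @Bool.rec (fun _ => Nat) (Atab_s_48_51 c) (Atab_s_51_54 c) (Nat.ble 51 c)
noncomputable def Atab_s_55_57 (c : Nat) : Nat := @Bool.rec (fun _ => Nat) (Atab_55) (Atab_56) (Nat.ble 56 c)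
noncomputable def Atab_s_54_57 (c : Nat) : Nat := @Bool.rec (fun _ => Nat) (Atab_54) (Atab_s_55_57 c) (Nat.ble 55 c)
noncomputable def Atab_s_58_60 (c : Nat) : Nat := @Bool.rec (fun _ => Nat) (Atab_58) (Atab_59) (Nat.ble 59 c)
noncomputable def Atab_s_57_60 (c : Nat) : Nat := @Bool.rec (fun _ => Nat) (Atab_57) (Atab_s_58_60 c) (Nat.ble 58 c)
noncomputable def Atab_s_54_60 (c : Nat) : Nat := @Bool.rec (fun _ => Nat) (Atab_s_54_57 c) (Atab_s_57_60 c) (Nat.ble 57 c)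
noncomputable def Atab_s_48_60 (c : Nat) : Nat := @Bool.rec (fun _ => Nat) (Atab_s_48_54 c) (Atab_s_54_60 c) (Nat.ble 54 c)
noncomputable def Atab_s_61_63 (c : Nat) : Nat := @Bool.rec (fun _ => Nat) (Atab_61) (Atab_62) (Nat.ble 62 c)
noncomputable def Atab_s_60_63 (c : Nat) : Nat := @Bool.rec (fun _ => Nat) (Atab_60) (Atab_s_61_63 c) (Nat.ble 61 c)
noncomputable def Atab_s_64_66 (c : Nat) : Nat := @Bool.rec (fun _ => Nat) (Atab_64) (Atab_65) (Nat.ble 65 c)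
noncomputable def Atab_s_63_66 (c : Nat) : Nat := @Bool.rec (fun _ => Nat) (Atab_63) (Atab_s_64_66 c) (Nat.ble 64 c)
noncomputable def Atab_s_60_66 (c : Nat) : Nat := @Bool.rec (fun _ => Nat) (Atab_s_60_63 c) (Atab_s_63_66 c) (Nat.ble 63 c)
noncomputable def Atab_s_67_69 (c : Nat) : Nat := @Bool.rec (fun _ => Nat) (Atab_67) (Atab_68) (Nat.ble 68 c)
noncomputable def Atab_s_66_69 (c : Nat) : Nat := @Bool.rec (fun _ => Nat) (Atab_66) (Atab_s_67_69 c) (Nat.ble 67 c)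
noncomputable def Atab_s_70_72 (c : Nat) : Nat := @Bool.rec (fun _ => Nat) (Atab_70) (Atab_71) (Nat.ble 71 c)
noncomputable def Atab_s_69_72 (c : Nat) : Nat := @Bool.rec (fun _ => Nat) (Atab_69) (Atab_s_70_72 c) (Nat.ble 70 c)
noncomputable def Atab_s_66_72 (c : Nat) : Nat := @Bool.rec (fun _ => Nat) (Atab_s_66_69 c) (Atab_s_69_72 c) (Nat.ble 69 c)
noncomputable def Atab_s_60_72 (c : Nat) : Nat := @Bool.rec (fun _ => Nat) (Atab_s_60_66 c) (Atab_s_66_72 c) (Nat.ble 66 c)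
noncomputable def Atab_s_48_72 (c : Nat) : Nat := @Bool.rec (fun _ => Nat) (Atab_s_48_60 c) (Atab_s_60_72 c) (Nat.ble 60 c)
noncomputable def Atab_s_73_75 (c : Nat) : Nat := @Bool.rec (fun _ => Nat) (Atab_73) (Atab_74) (Nat.ble 74 c)
noncomputable def Atab_s_72_75 (c : Nat) : Nat := @Bool.rec (fun _ => Nat) (Atab_72) (Atab_s_73_75 c) (Nat.ble 73 c)
noncomputable def Atab_s_76_78 (c : Nat) : Nat := @Bool.rec (fun _ => Nat) (Atab_76) (Atab_77) (Nat.ble 77 c)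
noncomputable def Atab_s_75_78 (c : Nat) : Nat := @Bool.rec (fun _ => Nat) (Atab_75) (Atab_s_76_78 c) (Nat.ble 76 c)
noncomputable def Atab_s_72_78 (c : Nat) : Nat := @Bool.rec (fun _ => Nat) (Atab_s_72_75 c) (Atab_s_75_78 c) (Nat.ble 75 c)
noncomputable def Atab_s_79_81 (c : Nat) : Nat := @Bool.rec (fun _ => Nat) (Atab_79) (Atab_80) (Nat.ble 80 c)
noncomputable def Atab_s_78_81 (c : Nat) : Nat := @Bool.rec (fun _ => Nat) (Atab_78) (Atab_s_79_81 c) (Nat.ble 79 c)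
noncomputable def Atab_s_82_84 (c : Nat) : Nat := @Bool.rec (fun _ => Nat) (Atab_82) (Atab_83) (Nat.ble 83 c)
noncomputable def Atab_s_81_84 (c : Nat) : Nat := @Bool.rec (fun _ => Nat) (Atab_81) (Atab_s_82_84 c) (Nat.ble 82 c)
noncomputable def Atab_s_78_84 (c : Nat) : Nat := @Bool.rec (fun _ => Nat) (Atab_s_78_81 c) (Atab_s_81_84 c) (Nat.ble 81 c)
noncomputable def Atab_s_72_84 (c : Nat) : Nat := @Bool.rec (fun _ => Nat) (Atab_s_72_78 c) (Atab_s_78_84 c) (Nat.ble 78 c)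
noncomputable def Atab_s_85_87 (c : Nat) : Nat := @Bool.rec (fun _ => Nat) (Atab_85) (Atab_86) (Nat.ble 86 c)
noncomputable def Atab_s_84_87 (c : Nat) : Nat := @Bool.rec (fun _ => Nat) (Atab_84) (Atab_s_85_87 c) (Nat.ble 85 c)
noncomputable def Atab_s_88_90 (c : Nat) : Nat := @Bool.rec (fun _ => Nat) (Atab_88) (Atab_89) (Nat.ble 89 c)
noncomputable def Atab_s_87_90 (c : Nat) : Nat := @Bool.rec (fun _ => Nat) (Atab_87) (Atab_s_88_90 c) (Nat.ble 88 c)
noncomputable def Atab_s_84_90 (c : Nat) : Nat := @Bool.rec (fun _ => Nat) (Atab_s_84_87 c) (Atab_s_87_90 c) (Nat.ble 87 c)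
noncomputable def Atab_s_91_93 (c : Nat) : Nat := @Bool.rec (fun _ => Nat) (Atab_91) (Atab_92) (Nat.ble 92 c)
noncomputable def Atab_s_90_93 (c : Nat) : Nat := @Bool.rec (fun _ => Nat) (Atab_90) (Atab_s_91_93 c) (Nat.ble 91 c)
noncomputable def Atab_s_93_95 (c : Nat) : Nat := @Bool.rec (fun _ => Nat) (Atab_93) (Atab_94) (Nat.ble 94 c)
noncomputable def Atab_s_95_97 (c : Nat) : Nat := @Bool.rec (fun _ => Nat) (Atab_95) (Atab_96) (Nat.ble 96 c)
noncomputable def Atab_s_93_97 (c : Nat) : Nat := @Bool.rec (fun _ => Nat) (Atab_s_93_95 c) (Atab_s_95_97 c) (Nat.ble 95 c)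
noncomputable def Atab_s_90_97 (c : Nat) : Nat := @Bool.rec (fun _ => Nat) (Atab_s_90_93 c) (Atab_s_93_97 c) (Nat.ble 93 c)
noncomputable def Atab_s_84_97 (c : Nat) : Nat := @Bool.rec (fun _ => Nat) (Atab_s_84_90 c) (Atab_s_90_97 c) (Nat.ble 90 c)
noncomputable def Atab_s_72_97 (c : Nat) : Nat := @Bool.rec (fun _ => Nat) (Atab_s_72_84 c) (Atab_s_84_97 c) (Nat.ble 84 c)
noncomputable def Atab_s_48_97 (c : Nat) : Nat := @Bool.rec (fun _ => Nat) (Atab_s_48_72 c) (Atab_s_72_97 c) (Nat.ble 72 c)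
noncomputable def Atab_s_0_97 (c : Nat) : Nat := @Bool.rec (fun _ => Nat) (Atab_s_0_48 c) (Atab_s_48_97 c) (Nat.ble 48 c)
noncomputable def Atab_s_98_100 (c : Nat) : Nat := @Bool.rec (fun _ => Nat) (Atab_98) (Atab_99) (Nat.ble 99 c)
noncomputable def Atab_s_97_100 (c : Nat) : Nat := @Bool.rec (fun _ => Nat) (Atab_97) (Atab_s_98_100 c) (Nat.ble 98 c)
noncomputable def Atab_s_101_103 (c : Nat) : Nat := @Bool.rec (fun _ => Nat) (Atab_101) (Atab_102) (Nat.ble 102 c)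
noncomputable def Atab_s_100_103 (c : Nat) : Nat := @Bool.rec (fun _ => Nat) (Atab_100) (Atab_s_101_103 c) (Nat.ble 101 c)
noncomputable def Atab_s_97_103 (c : Nat) : Nat := @Bool.rec (fun _ => Nat) (Atab_s_97_100 c) (Atab_s_100_103 c) (Nat.ble 100 c)
noncomputable def Atab_s_104_106 (c : Nat) : Nat := @Bool.rec (fun _ => Nat) (Atab_104) (Atab_105) (Nat.ble 105 c)
noncomputable def Atab_s_103_106 (c : Nat) : Nat := @Bool.rec (fun _ => Nat) (Atab_103) (Atab_s_104_106 c) (Nat.ble 104 c)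
noncomputable def Atab_s_107_109 (c : Nat) : Nat := @Bool.rec (fun _ => Nat) (Atab_107) (Atab_108) (Nat.ble 108 c)
noncomputable def Atab_s_106_109 (c : Nat) : Nat := @Bool.rec (fun _ => Nat) (Atab_106) (Atab_s_107_109 c) (Nat.ble 107 c)
noncomputable def Atab_s_103_109 (c : Nat) : Nat := @Bool.rec (fun _ => Nat) (Atab_s_103_106 c) (Atab_s_106_109 c) (Nat.ble 106 c)
noncomputable def Atab_s_97_109 (c : Nat) : Nat := @Bool.rec (fun _ => Nat) (Atab_s_97_103 c) (Atab_s_103_109 c) (Nat.ble 103 c)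
noncomputable def Atab_s_110_112 (c : Nat) : Nat := @Bool.rec (fun _ => Nat) (Atab_110) (Atab_111) (Nat.ble 111 c)
noncomputable def Atab_s_109_112 (c : Nat) : Nat := @Bool.rec (fun _ => Nat) (Atab_109) (Atab_s_110_112 c) (Nat.ble 110 c)
noncomputable def Atab_s_113_115 (c : Nat) : Nat := @Bool.rec (fun _ => Nat) (Atab_113) (Atab_114) (Nat.ble 114 c)
noncomputable def Atab_s_112_115 (c : Nat) : Nat := @Bool.rec (fun _ => Nat) (Atab_112) (Atab_s_113_115 c) (Nat.ble 113 c)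
noncomputable def Atab_s_109_115 (c : Nat) : Nat := @Bool.rec (fun _ => Nat) (Atab_s_109_112 c) (Atab_s_112_115 c) (Nat.ble 112 c)
noncomputable def Atab_s_116_118 (c : Nat) : Nat := @Bool.rec (fun _ => Nat) (Atab_116) (Atab_117) (Nat.ble 117 c)
noncomputable def Atab_s_115_118 (c : Nat) : Nat := @Bool.rec (fun _ => Nat) (Atab_115) (Atab_s_116_118 c) (Nat.ble 116 c)
noncomputable def Atab_s_119_121 (c : Nat) : Nat := @Bool.rec (fun _ => Nat) (Atab_119) (Atab_120) (Nat.ble 120 c)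
noncomputable def Atab_s_118_121 (c : Nat) : Nat := @Bool.rec (fun _ => Nat) (Atab_118) (Atab_s_119_121 c) (Nat.ble 119 c)
noncomputable def Atab_s_115_121 (c : Nat) : Nat := @Bool.rec (fun _ => Nat) (Atab_s_115_118 c) (Atab_s_118_121 c) (Nat.ble 118 c)
noncomputable def Atab_s_109_121 (c : Nat) : Nat := @Bool.rec (fun _ => Nat) (Atab_s_109_115 c) (Atab_s_115_121 c) (Nat.ble 115 c)
noncomputable def Atab_s_97_121 (c : Nat) : Nat := @Bool.rec (fun _ => Nat) (Atab_s_97_109 c) (Atab_s_109_121 c) (Nat.ble 109 c)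
noncomputable def Atab_s_122_124 (c : Nat) : Nat := @Bool.rec (fun _ => Nat) (Atab_122) (Atab_123) (Nat.ble 123 c)
noncomputable def Atab_s_121_124 (c : Nat) : Nat := @Bool.rec (fun _ => Nat) (Atab_121) (Atab_s_122_124 c) (Nat.ble 122 c)
noncomputable def Atab_s_125_127 (c : Nat) : Nat := @Bool.rec (fun _ => Nat) (Atab_125) (Atab_126) (Nat.ble 126 c)
noncomputable def Atab_s_124_127 (c : Nat) : Nat := @Bool.rec (fun _ => Nat) (Atab_124) (Atab_s_125_127 c) (Nat.ble 125 c)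
noncomputable def Atab_s_121_127 (c : Nat) : Nat := @Bool.rec (fun _ => Nat) (Atab_s_121_124 c) (Atab_s_124_127 c) (Nat.ble 124 c)
noncomputable def Atab_s_128_130 (c : Nat) : Nat := @Bool.rec (fun _ => Nat) (Atab_128) (Atab_129) (Nat.ble 129 c)
noncomputable def Atab_s_127_130 (c : Nat) : Nat := @Bool.rec (fun _ => Nat) (Atab_127) (Atab_s_128_130 c) (Nat.ble 128 c)
noncomputable def Atab_s_131_133 (c : Nat) : Nat := @Bool.rec (fun _ => Nat) (Atab_131) (Atab_132) (Nat.ble 132 c)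
noncomputable def Atab_s_130_133 (c : Nat) : Nat := @Bool.rec (fun _ => Nat) (Atab_130) (Atab_s_131_133 c) (Nat.ble 131 c)
noncomputable def Atab_s_127_133 (c : Nat) : Nat := @Bool.rec (fun _ => Nat) (Atab_s_127_130 c) (Atab_s_130_133 c) (Nat.ble 130 c)
noncomputable def Atab_s_121_133 (c : Nat) : Nat := @Bool.rec (fun _ => Nat) (Atab_s_121_127 c) (Atab_s_127_133 c) (Nat.ble 127 c)
noncomputable def Atab_s_134_136 (c : Nat) : Nat := @Bool.rec (fun _ => Nat) (Atab_134) (Atab_135) (Nat.ble 135 c)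
noncomputable def Atab_s_133_136 (c : Nat) : Nat := @Bool.rec (fun _ => Nat) (Atab_133) (Atab_s_134_136 c) (Nat.ble 134 c)
noncomputable def Atab_s_137_139 (c : Nat) : Nat := @Bool.rec (fun _ => Nat) (Atab_137) (Atab_138) (Nat.ble 138 c)
noncomputable def Atab_s_136_139 (c : Nat) : Nat := @Bool.rec (fun _ => Nat) (Atab_136) (Atab_s_137_139 c) (Nat.ble 137 c)
noncomputable def Atab_s_133_139 (c : Nat) : Nat := @Bool.rec (fun _ => Nat) (Atab_s_133_136 c) (Atab_s_136_139 c) (Nat.ble 136 c)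
noncomputable def Atab_s_140_142 (c : Nat) : Nat := @Bool.rec (fun _ => Nat) (Atab_140) (Atab_141) (Nat.ble 141 c)
noncomputable def Atab_s_139_142 (c : Nat) : Nat := @Bool.rec (fun _ => Nat) (Atab_139) (Atab_s_140_142 c) (Nat.ble 140 c)
noncomputable def Atab_s_142_144 (c : Nat) : Nat := @Bool.rec (fun _ => Nat) (Atab_142) (Atab_143) (Nat.ble 143 c)
noncomputable def Atab_s_144_146 (c : Nat) : Nat := @Bool.rec (fun _ => Nat) (Atab_144) (Atab_145) (Nat.ble 145 c)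
noncomputable def Atab_s_142_146 (c : Nat) : Nat := @Bool.rec (fun _ => Nat) (Atab_s_142_144 c) (Atab_s_144_146 c) (Nat.ble 144 c)
noncomputable def Atab_s_139_146 (c : Nat) : Nat := @Bool.rec (fun _ => Nat) (Atab_s_139_142 c) (Atab_s_142_146 c) (Nat.ble 142 c)
noncomputable def Atab_s_133_146 (c : Nat) : Nat := @Bool.rec (fun _ => Nat) (Atab_s_133_139 c) (Atab_s_139_146 c) (Nat.ble 139 c)
noncomputable def Atab_s_121_146 (c : Nat) : Nat := @Bool.rec (fun _ => Nat) (Atab_s_121_133 c) (Atab_s_133_146 c) (Nat.ble 133 c)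
noncomputable def Atab_s_97_146 (c : Nat) : Nat := @Bool.rec (fun _ => Nat) (Atab_s_97_121 c) (Atab_s_121_146 c) (Nat.ble 121 c)
noncomputable def Atab_s_147_149 (c : Nat) : Nat := @Bool.rec (fun _ => Nat) (Atab_147) (Atab_148) (Nat.ble 148 c)
noncomputable def Atab_s_146_149 (c : Nat) : Nat := @Bool.rec (fun _ => Nat) (Atab_146) (Atab_s_147_149 c) (Nat.ble 147 c)
noncomputable def Atab_s_150_152 (c : Nat) : Nat := @Bool.rec (fun _ => Nat) (Atab_150) (Atab_151) (Nat.ble 151 c)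
noncomputable def Atab_s_149_152 (c : Nat) : Nat := @Bool.rec (fun _ => Nat) (Atab_149) (Atab_s_150_152 c) (Nat.ble 150 c)
noncomputable def Atab_s_146_152 (c : Nat) : Nat := @Bool.rec (fun _ => Nat) (Atab_s_146_149 c) (Atab_s_149_152 c) (Nat.ble 149 c)
noncomputable def Atab_s_153_155 (c : Nat) : Nat := @Bool.rec (fun _ => Nat) (Atab_153) (Atab_154) (Nat.ble 154 c)
noncomputable def Atab_s_152_155 (c : Nat) : Nat := @Bool.rec (fun _ => Nat) (Atab_152) (Atab_s_153_155 c) (Nat.ble 153 c)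
noncomputable def Atab_s_156_158 (c : Nat) : Nat := @Bool.rec (fun _ => Nat) (Atab_156) (Atab_157) (Nat.ble 157 c)
noncomputable def Atab_s_155_158 (c : Nat) : Nat := @Bool.rec (fun _ => Nat) (Atab_155) (Atab_s_156_158 c) (Nat.ble 156 c)
noncomputable def Atab_s_152_158 (c : Nat) : Nat := @Bool.rec (fun _ => Nat) (Atab_s_152_155 c) (Atab_s_155_158 c) (Nat.ble 155 c)
noncomputable def Atab_s_146_158 (c : Nat) : Nat := @Bool.rec (fun _ => Nat) (Atab_s_146_152 c) (Atab_s_152_158 c) (Nat.ble 152 c)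
noncomputable def Atab_s_159_161 (c : Nat) : Nat := @Bool.rec (fun _ => Nat) (Atab_159) (Atab_160) (Nat.ble 160 c)
noncomputable def Atab_s_158_161 (c : Nat) : Nat := @Bool.rec (fun _ => Nat) (Atab_158) (Atab_s_159_161 c) (Nat.ble 159 c)
noncomputable def Atab_s_162_164 (c : Nat) : Nat := @Bool.rec (fun _ => Nat) (Atab_162) (Atab_163) (Nat.ble 163 c)
noncomputable def Atab_s_161_164 (c : Nat) : Nat := @Bool.rec (fun _ => Nat) (Atab_161) (Atab_s_162_164 c) (Nat.ble 162 c)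
noncomputable def Atab_s_158_164 (c : Nat) : Nat := @Bool.rec (fun _ => Nat) (Atab_s_158_161 c) (Atab_s_161_164 c) (Nat.ble 161 c)
noncomputable def Atab_s_165_167 (c : Nat) : Nat := @Bool.rec (fun _ => Nat) (Atab_165) (Atab_166) (Nat.ble 166 c)
noncomputable def Atab_s_164_167 (c : Nat) : Nat := @Bool.rec (fun _ => Nat) (Atab_164) (Atab_s_165_167 c) (Nat.ble 165 c)
noncomputable def Atab_s_168_170 (c : Nat) : Nat := @Bool.rec (fun _ => Nat) (Atab_168) (Atab_169) (Nat.ble 169 c)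
noncomputable def Atab_s_167_170 (c : Nat) : Nat := @Bool.rec (fun _ => Nat) (Atab_167) (Atab_s_168_170 c) (Nat.ble 168 c)
noncomputable def Atab_s_164_170 (c : Nat) : Nat := @Bool.rec (fun _ => Nat) (Atab_s_164_167 c) (Atab_s_167_170 c) (Nat.ble 167 c)
noncomputable def Atab_s_158_170 (c : Nat) : Nat := @Bool.rec (fun _ => Nat) (Atab_s_158_164 c) (Atab_s_164_170 c) (Nat.ble 164 c)
noncomputable def Atab_s_146_170 (c : Nat) : Nat := @Bool.rec (fun _ => Nat) (Atab_s_146_158 c) (Atab_s_158_170 c) (Nat.ble 158 c)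
noncomputable def Atab_s_171_173 (c : Nat) : Nat := @Bool.rec (fun _ => Nat) (Atab_171) (Atab_172) (Nat.ble 172 c)
noncomputable def Atab_s_170_173 (c : Nat) : Nat := @Bool.rec (fun _ => Nat) (Atab_170) (Atab_s_171_173 c) (Nat.ble 171 c)
noncomputable def Atab_s_174_176 (c : Nat) : Nat := @Bool.rec (fun _ => Nat) (Atab_174) (Atab_175) (Nat.ble 175 c)
noncomputable def Atab_s_173_176 (c : Nat) : Nat := @Bool.rec (fun _ => Nat) (Atab_173) (Atab_s_174_176 c) (Nat.ble 174 c)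
noncomputable def Atab_s_170_176 (c : Nat) : Nat := @Bool.rec (fun _ => Nat) (Atab_s_170_173 c) (Atab_s_173_176 c) (Nat.ble 173 c)
noncomputable def Atab_s_177_179 (c : Nat) : Nat := @Bool.rec (fun _ => Nat) (Atab_177) (Atab_178) (Nat.ble 178 c)
noncomputable def Atab_s_176_179 (c : Nat) : Nat := @Bool.rec (fun _ => Nat) (Atab_176) (Atab_s_177_179 c) (Nat.ble 177 c)
noncomputable def Atab_s_180_182 (c : Nat) : Nat := @Bool.rec (fun _ => Nat) (Atab_180) (Atab_181) (Nat.ble 181 c)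
noncomputable def Atab_s_179_182 (c : Nat) : Nat := @Bool.rec (fun _ => Nat) (Atab_179) (Atab_s_180_182 c) (Nat.ble 180 c)
noncomputable def Atab_s_176_182 (c : Nat) : Nat := @Bool.rec (fun _ => Nat) (Atab_s_176_179 c) (Atab_s_179_182 c) (Nat.ble 179 c)
noncomputable def Atab_s_170_182 (c : Nat) : Nat := @Bool.rec (fun _ => Nat) (Atab_s_170_176 c) (Atab_s_176_182 c) (Nat.ble 176 c)
noncomputable def Atab_s_183_185 (c : Nat) : Nat := @Bool.rec (fun _ => Nat) (Atab_183) (Atab_184) (Nat.ble 184 c)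
noncomputable def Atab_s_182_185 (c : Nat) : Nat := @Bool.rec (fun _ => Nat) (Atab_182) (Atab_s_183_185 c) (Nat.ble 183 c)
noncomputable def Atab_s_186_188 (c : Nat) : Nat := @Bool.rec (fun _ => Nat) (Atab_186) (Atab_187) (Nat.ble 187 c)
noncomputable def Atab_s_185_188 (c : Nat) : Nat := @Bool.rec (fun _ => Nat) (Atab_185) (Atab_s_186_188 c) (Nat.ble 186 c)
noncomputable def Atab_s_182_188 (c : Nat) : Nat := @Bool.rec (fun _ => Nat) (Atab_s_182_185 c) (Atab_s_185_188 c) (Nat.ble 185 c)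
noncomputable def Atab_s_189_191 (c : Nat) : Nat := @Bool.rec (fun _ => Nat) (Atab_189) (Atab_190) (Nat.ble 190 c)
noncomputable def Atab_s_188_191 (c : Nat) : Nat := @Bool.rec (fun _ => Nat) (Atab_188) (Atab_s_189_191 c) (Nat.ble 189 c)
noncomputable def Atab_s_191_193 (c : Nat) : Nat := @Bool.rec (fun _ => Nat) (Atab_191) (Atab_192) (Nat.ble 192 c)
noncomputable def Atab_s_193_195 (c : Nat) : Nat := @Bool.rec (fun _ => Nat) (Atab_193) (Atab_194) (Nat.ble 194 c)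
noncomputable def Atab_s_191_195 (c : Nat) : Nat := @Bool.rec (fun _ => Nat) (Atab_s_191_193 c) (Atab_s_193_195 c) (Nat.ble 193 c)
noncomputable def Atab_s_188_195 (c : Nat) : Nat := @Bool.rec (fun _ => Nat) (Atab_s_188_191 c) (Atab_s_191_195 c) (Nat.ble 191 c)
noncomputable def Atab_s_182_195 (c : Nat) : Nat := @Bool.rec (fun _ => Nat) (Atab_s_182_188 c) (Atab_s_188_195 c) (Nat.ble 188 c)
noncomputable def Atab_s_170_195 (c : Nat) : Nat := @Bool.rec (fun _ => Nat) (Atab_s_170_182 c) (Atab_s_182_195 c) (Nat.ble 182 c)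
noncomputable def Atab_s_146_195 (c : Nat) : Nat := @Bool.rec (fun _ => Nat) (Atab_s_146_170 c) (Atab_s_170_195 c) (Nat.ble 170 c)
noncomputable def Atab_s_97_195 (c : Nat) : Nat := @Bool.rec (fun _ => Nat) (Atab_s_97_146 c) (Atab_s_146_195 c) (Nat.ble 146 c)
noncomputable def Atab_s_0_195 (c : Nat) : Nat := @Bool.rec (fun _ => Nat) (Atab_s_0_97 c) (Atab_s_97_195 c) (Nat.ble 97 c)
noncomputable def Atab_s_196_198 (c : Nat) : Nat := @Bool.rec (fun _ => Nat) (Atab_196) (Atab_197) (Nat.ble 197 c)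
noncomputable def Atab_s_195_198 (c : Nat) : Nat := @Bool.rec (fun _ => Nat) (Atab_195) (Atab_s_196_198 c) (Nat.ble 196 c)
noncomputable def Atab_s_199_201 (c : Nat) : Nat := @Bool.rec (fun _ => Nat) (Atab_199) (Atab_200) (Nat.ble 200 c)
noncomputable def Atab_s_198_201 (c : Nat) : Nat := @Bool.rec (fun _ => Nat) (Atab_198) (Atab_s_199_201 c) (Nat.ble 199 c)
noncomputable def Atab_s_195_201 (c : Nat) : Nat := @Bool.rec (fun _ => Nat) (Atab_s_195_198 c) (Atab_s_198_201 c) (Nat.ble 198 c)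
noncomputable def Atab_s_202_204 (c : Nat) : Nat := @Bool.rec (fun _ => Nat) (Atab_202) (Atab_203) (Nat.ble 203 c)
noncomputable def Atab_s_201_204 (c : Nat) : Nat := @Bool.rec (fun _ => Nat) (Atab_201) (Atab_s_202_204 c) (Nat.ble 202 c)
noncomputable def Atab_s_205_207 (c : Nat) : Nat := @Bool.rec (fun _ => Nat) (Atab_205) (Atab_206) (Nat.ble 206 c)
noncomputable def Atab_s_204_207 (c : Nat) : Nat := @Bool.rec (fun _ => Nat) (Atab_204) (Atab_s_205_207 c) (Nat.ble 205 c)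
noncomputable def Atab_s_201_207 (c : Nat) : Nat := @Bool.rec (fun _ => Nat) (Atab_s_201_204 c) (Atab_s_204_207 c) (Nat.ble 204 c)
noncomputable def Atab_s_195_207 (c : Nat) : Nat := @Bool.rec (fun _ => Nat) (Atab_s_195_201 c) (Atab_s_201_207 c) (Nat.ble 201 c)
noncomputable def Atab_s_208_210 (c : Nat) : Nat := @Bool.rec (fun _ => Nat) (Atab_208) (Atab_209) (Nat.ble 209 c)
noncomputable def Atab_s_207_210 (c : Nat) : Nat := @Bool.rec (fun _ => Nat) (Atab_207) (Atab_s_208_210 c) (Nat.ble 208 c)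
noncomputable def Atab_s_211_213 (c : Nat) : Nat := @Bool.rec (fun _ => Nat) (Atab_211) (Atab_212) (Nat.ble 212 c)
noncomputable def Atab_s_210_213 (c : Nat) : Nat := @Bool.rec (fun _ => Nat) (Atab_210) (Atab_s_211_213 c) (Nat.ble 211 c)
noncomputable def Atab_s_207_213 (c : Nat) : Nat := @Bool.rec (fun _ => Nat) (Atab_s_207_210 c) (Atab_s_210_213 c) (Nat.ble 210 c)
noncomputable def Atab_s_214_216 (c : Nat) : Nat := @Bool.rec (fun _ => Nat) (Atab_214) (Atab_215) (Nat.ble 215 c)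
noncomputable def Atab_s_213_216 (c : Nat) : Nat := @Bool.rec (fun _ => Nat) (Atab_213) (Atab_s_214_216 c) (Nat.ble 214 c)
noncomputable def Atab_s_217_219 (c : Nat) : Nat := @Bool.rec (fun _ => Nat) (Atab_217) (Atab_218) (Nat.ble 218 c)
noncomputable def Atab_s_216_219 (c : Nat) : Nat := @Bool.rec (fun _ => Nat) (Atab_216) (Atab_s_217_219 c) (Nat.ble 217 c)
noncomputable def Atab_s_213_219 (c : Nat) : Nat := @Bool.rec (fun _ => Nat) (Atab_s_213_216 c) (Atab_s_216_219 c) (Nat.ble 216 c)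
noncomputable def Atab_s_207_219 (c : Nat) : Nat := @Bool.rec (fun _ => Nat) (Atab_s_207_213 c) (Atab_s_213_219 c) (Nat.ble 213 c)
noncomputable def Atab_s_195_219 (c : Nat) : Nat := @Bool.rec (fun _ => Nat) (Atab_s_195_207 c) (Atab_s_207_219 c) (Nat.ble 207 c)
noncomputable def Atab_s_220_222 (c : Nat) : Nat := @Bool.rec (fun _ => Nat) (Atab_220) (Atab_221) (Nat.ble 221 c)
noncomputable def Atab_s_219_222 (c : Nat) : Nat := @Bool.rec (fun _ => Nat) (Atab_219) (Atab_s_220_222 c) (Nat.ble 220 c)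
noncomputable def Atab_s_223_225 (c : Nat) : Nat := @Bool.rec (fun _ => Nat) (Atab_223) (Atab_224) (Nat.ble 224 c)
noncomputable def Atab_s_222_225 (c : Nat) : Nat := @Bool.rec (fun _ => Nat) (Atab_222) (Atab_s_223_225 c) (Nat.ble 223 c)
noncomputable def Atab_s_219_225 (c : Nat) : Nat := @Bool.rec (fun _ => Nat) (Atab_s_219_222 c) (Atab_s_222_225 c) (Nat.ble 222 c)
noncomputable def Atab_s_226_228 (c : Nat) : Nat := @Bool.rec (fun _ => Nat) (Atab_226) (Atab_227) (Nat.ble 227 c)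
noncomputable def Atab_s_225_228 (c : Nat) : Nat := @Bool.rec (fun _ => Nat) (Atab_225) (Atab_s_226_228 c) (Nat.ble 226 c)
noncomputable def Atab_s_229_231 (c : Nat) : Nat := @Bool.rec (fun _ => Nat) (Atab_229) (Atab_230) (Nat.ble 230 c)
noncomputable def Atab_s_228_231 (c : Nat) : Nat := @Bool.rec (fun _ => Nat) (Atab_228) (Atab_s_229_231 c) (Nat.ble 229 c)
noncomputable def Atab_s_225_231 (c : Nat) : Nat := @Bool.rec (fun _ => Nat) (Atab_s_225_228 c) (Atab_s_228_231 c) (Nat.ble 228 c)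
noncomputable def Atab_s_219_231 (c : Nat) : Nat := @Bool.rec (fun _ => Nat) (Atab_s_219_225 c) (Atab_s_225_231 c) (Nat.ble 225 c)
noncomputable def Atab_s_232_234 (c : Nat) : Nat := @Bool.rec (fun _ => Nat) (Atab_232) (Atab_233) (Nat.ble 233 c)
noncomputable def Atab_s_231_234 (c : Nat) : Nat := @Bool.rec (fun _ => Nat) (Atab_231) (Atab_s_232_234 c) (Nat.ble 232 c)
noncomputable def Atab_s_235_237 (c : Nat) : Nat := @Bool.rec (fun _ => Nat) (Atab_235) (Atab_236) (Nat.ble 236 c)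
noncomputable def Atab_s_234_237 (c : Nat) : Nat := @Bool.rec (fun _ => Nat) (Atab_234) (Atab_s_235_237 c) (Nat.ble 235 c)
noncomputable def Atab_s_231_237 (c : Nat) : Nat := @Bool.rec (fun _ => Nat) (Atab_s_231_234 c) (Atab_s_234_237 c) (Nat.ble 234 c)
noncomputable def Atab_s_238_240 (c : Nat) : Nat := @Bool.rec (fun _ => Nat) (Atab_238) (Atab_239) (Nat.ble 239 c)
noncomputable def Atab_s_237_240 (c : Nat) : Nat := @Bool.rec (fun _ => Nat) (Atab_237) (Atab_s_238_240 c) (Nat.ble 238 c)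
noncomputable def Atab_s_241_243 (c : Nat) : Nat := @Bool.rec (fun _ => Nat) (Atab_241) (Atab_242) (Nat.ble 242 c)
noncomputable def Atab_s_240_243 (c : Nat) : Nat := @Bool.rec (fun _ => Nat) (Atab_240) (Atab_s_241_243 c) (Nat.ble 241 c)
noncomputable def Atab_s_237_243 (c : Nat) : Nat := @Bool.rec (fun _ => Nat) (Atab_s_237_240 c) (Atab_s_240_243 c) (Nat.ble 240 c)
noncomputable def Atab_s_231_243 (c : Nat) : Nat := @Bool.rec (fun _ => Nat) (Atab_s_231_237 c) (Atab_s_237_243 c) (Nat.ble 237 c)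
noncomputable def Atab_s_219_243 (c : Nat) : Nat := @Bool.rec (fun _ => Nat) (Atab_s_219_231 c) (Atab_s_231_243 c) (Nat.ble 231 c)
noncomputable def Atab_s_195_243 (c : Nat) : Nat := @Bool.rec (fun _ => Nat) (Atab_s_195_219 c) (Atab_s_219_243 c) (Nat.ble 219 c)
noncomputable def Atab_s_244_246 (c : Nat) : Nat := @Bool.rec (fun _ => Nat) (Atab_244) (Atab_245) (Nat.ble 245 c)
noncomputable def Atab_s_243_246 (c : Nat) : Nat := @Bool.rec (fun _ => Nat) (Atab_243) (Atab_s_244_246 c) (Nat.ble 244 c)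
noncomputable def Atab_s_247_249 (c : Nat) : Nat := @Bool.rec (fun _ => Nat) (Atab_247) (Atab_248) (Nat.ble 248 c)
noncomputable def Atab_s_246_249 (c : Nat) : Nat := @Bool.rec (fun _ => Nat) (Atab_246) (Atab_s_247_249 c) (Nat.ble 247 c)
noncomputable def Atab_s_243_249 (c : Nat) : Nat := @Bool.rec (fun _ => Nat) (Atab_s_243_246 c) (Atab_s_246_249 c) (Nat.ble 246 c)
noncomputable def Atab_s_250_252 (c : Nat) : Nat := @Bool.rec (fun _ => Nat) (Atab_250) (Atab_251) (Nat.ble 251 c)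
noncomputable def Atab_s_249_252 (c : Nat) : Nat := @Bool.rec (fun _ => Nat) (Atab_249) (Atab_s_250_252 c) (Nat.ble 250 c)
noncomputable def Atab_s_253_255 (c : Nat) : Nat := @Bool.rec (fun _ => Nat) (Atab_253) (Atab_254) (Nat.ble 254 c)
noncomputable def Atab_s_252_255 (c : Nat) : Nat := @Bool.rec (fun _ => Nat) (Atab_252) (Atab_s_253_255 c) (Nat.ble 253 c)
noncomputable def Atab_s_249_255 (c : Nat) : Nat := @Bool.rec (fun _ => Nat) (Atab_s_249_252 c) (Atab_s_252_255 c) (Nat.ble 252 c)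
noncomputable def Atab_s_243_255 (c : Nat) : Nat := @Bool.rec (fun _ => Nat) (Atab_s_243_249 c) (Atab_s_249_255 c) (Nat.ble 249 c)
noncomputable def Atab_s_256_258 (c : Nat) : Nat := @Bool.rec (fun _ => Nat) (Atab_256) (Atab_257) (Nat.ble 257 c)
noncomputable def Atab_s_255_258 (c : Nat) : Nat := @Bool.rec (fun _ => Nat) (Atab_255) (Atab_s_256_258 c) (Nat.ble 256 c)
noncomputable def Atab_s_259_261 (c : Nat) : Nat := @Bool.rec (fun _ => Nat) (Atab_259) (Atab_260) (Nat.ble 260 c)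
noncomputable def Atab_s_258_261 (c : Nat) : Nat := @Bool.rec (fun _ => Nat) (Atab_258) (Atab_s_259_261 c) (Nat.ble 259 c)
noncomputable def Atab_s_255_261 (c : Nat) : Nat := @Bool.rec (fun _ => Nat) (Atab_s_255_258 c) (Atab_s_258_261 c) (Nat.ble 258 c)
noncomputable def Atab_s_262_264 (c : Nat) : Nat := @Bool.rec (fun _ => Nat) (Atab_262) (Atab_263) (Nat.ble 263 c)
noncomputable def Atab_s_261_264 (c : Nat) : Nat := @Bool.rec (fun _ => Nat) (Atab_261) (Atab_s_262_264 c) (Nat.ble 262 c)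
noncomputable def Atab_s_265_267 (c : Nat) : Nat := @Bool.rec (fun _ => Nat) (Atab_265) (Atab_266) (Nat.ble 266 c)
noncomputable def Atab_s_264_267 (c : Nat) : Nat := @Bool.rec (fun _ => Nat) (Atab_264) (Atab_s_265_267 c) (Nat.ble 265 c)
noncomputable def Atab_s_261_267 (c : Nat) : Nat := @Bool.rec (fun _ => Nat) (Atab_s_261_264 c) (Atab_s_264_267 c) (Nat.ble 264 c)
noncomputable def Atab_s_255_267 (c : Nat) : Nat := @Bool.rec (fun _ => Nat) (Atab_s_255_261 c) (Atab_s_261_267 c) (Nat.ble 261 c)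
noncomputable def Atab_s_243_267 (c : Nat) : Nat := @Bool.rec (fun _ => Nat) (Atab_s_243_255 c) (Atab_s_255_267 c) (Nat.ble 255 c)
noncomputable def Atab_s_268_270 (c : Nat) : Nat := @Bool.rec (fun _ => Nat) (Atab_268) (Atab_269) (Nat.ble 269 c)
noncomputable def Atab_s_267_270 (c : Nat) : Nat := @Bool.rec (fun _ => Nat) (Atab_267) (Atab_s_268_270 c) (Nat.ble 268 c)
noncomputable def Atab_s_271_273 (c : Nat) : Nat := @Bool.rec (fun _ => Nat) (Atab_271) (Atab_272) (Nat.ble 272 c)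
noncomputable def Atab_s_270_273 (c : Nat) : Nat := @Bool.rec (fun _ => Nat) (Atab_270) (Atab_s_271_273 c) (Nat.ble 271 c)
noncomputable def Atab_s_267_273 (c : Nat) : Nat := @Bool.rec (fun _ => Nat) (Atab_s_267_270 c) (Atab_s_270_273 c) (Nat.ble 270 c)
noncomputable def Atab_s_274_276 (c : Nat) : Nat := @Bool.rec (fun _ => Nat) (Atab_274) (Atab_275) (Nat.ble 275 c)
noncomputable def Atab_s_273_276 (c : Nat) : Nat := @Bool.rec (fun _ => Nat) (Atab_273) (Atab_s_274_276 c) (Nat.ble 274 c)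
noncomputable def Atab_s_277_279 (c : Nat) : Nat := @Bool.rec (fun _ => Nat) (Atab_277) (Atab_278) (Nat.ble 278 c)
noncomputable def Atab_s_276_279 (c : Nat) : Nat := @Bool.rec (fun _ => Nat) (Atab_276) (Atab_s_277_279 c) (Nat.ble 277 c)
noncomputable def Atab_s_273_279 (c : Nat) : Nat := @Bool.rec (fun _ => Nat) (Atab_s_273_276 c) (Atab_s_276_279 c) (Nat.ble 276 c)
noncomputable def Atab_s_267_279 (c : Nat) : Nat := @Bool.rec (fun _ => Nat) (Atab_s_267_273 c) (Atab_s_273_279 c) (Nat.ble 273 c)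
noncomputable def Atab_s_280_282 (c : Nat) : Nat := @Bool.rec (fun _ => Nat) (Atab_280) (Atab_281) (Nat.ble 281 c)
noncomputable def Atab_s_279_282 (c : Nat) : Nat := @Bool.rec (fun _ => Nat) (Atab_279) (Atab_s_280_282 c) (Nat.ble 280 c)
noncomputable def Atab_s_283_285 (c : Nat) : Nat := @Bool.rec (fun _ => Nat) (Atab_283) (Atab_284) (Nat.ble 284 c)
noncomputable def Atab_s_282_285 (c : Nat) : Nat := @Bool.rec (fun _ => Nat) (Atab_282) (Atab_s_283_285 c) (Nat.ble 283 c)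
noncomputable def Atab_s_279_285 (c : Nat) : Nat := @Bool.rec (fun _ => Nat) (Atab_s_279_282 c) (Atab_s_282_285 c) (Nat.ble 282 c)
noncomputable def Atab_s_286_288 (c : Nat) : Nat := @Bool.rec (fun _ => Nat) (Atab_286) (Atab_287) (Nat.ble 287 c)
noncomputable def Atab_s_285_288 (c : Nat) : Nat := @Bool.rec (fun _ => Nat) (Atab_285) (Atab_s_286_288 c) (Nat.ble 286 c)
noncomputable def Atab_s_288_290 (c : Nat) : Nat := @Bool.rec (fun _ => Nat) (Atab_288) (Atab_289) (Nat.ble 289 c)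
noncomputable def Atab_s_290_292 (c : Nat) : Nat := @Bool.rec (fun _ => Nat) (Atab_290) (Atab_291) (Nat.ble 291 c)
noncomputable def Atab_s_288_292 (c : Nat) : Nat := @Bool.rec (fun _ => Nat) (Atab_s_288_290 c) (Atab_s_290_292 c) (Nat.ble 290 c)
noncomputable def Atab_s_285_292 (c : Nat) : Nat := @Bool.rec (fun _ => Nat) (Atab_s_285_288 c) (Atab_s_288_292 c) (Nat.ble 288 c)
noncomputable def Atab_s_279_292 (c : Nat) : Nat := @Bool.rec (fun _ => Nat) (Atab_s_279_285 c) (Atab_s_285_292 c) (Nat.ble 285 c)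
noncomputable def Atab_s_267_292 (c : Nat) : Nat := @Bool.rec (fun _ => Nat) (Atab_s_267_279 c) (Atab_s_279_292 c) (Nat.ble 279 c)
noncomputable def Atab_s_243_292 (c : Nat) : Nat := @Bool.rec (fun _ => Nat) (Atab_s_243_267 c) (Atab_s_267_292 c) (Nat.ble 267 c)
noncomputable def Atab_s_195_292 (c : Nat) : Nat := @Bool.rec (fun _ => Nat) (Atab_s_195_243 c) (Atab_s_243_292 c) (Nat.ble 243 c)
noncomputable def Atab_s_293_295 (c : Nat) : Nat := @Bool.rec (fun _ => Nat) (Atab_293) (Atab_294) (Nat.ble 294 c)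
noncomputable def Atab_s_292_295 (c : Nat) : Nat := @Bool.rec (fun _ => Nat) (Atab_292) (Atab_s_293_295 c) (Nat.ble 293 c)
noncomputable def Atab_s_296_298 (c : Nat) : Nat := @Bool.rec (fun _ => Nat) (Atab_296) (Atab_297) (Nat.ble 297 c)
noncomputable def Atab_s_295_298 (c : Nat) : Nat := @Bool.rec (fun _ => Nat) (Atab_295) (Atab_s_296_298 c) (Nat.ble 296 c)
noncomputable def Atab_s_292_298 (c : Nat) : Nat := @Bool.rec (fun _ => Nat) (Atab_s_292_295 c) (Atab_s_295_298 c) (Nat.ble 295 c)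
noncomputable def Atab_s_299_301 (c : Nat) : Nat := @Bool.rec (fun _ => Nat) (Atab_299) (Atab_300) (Nat.ble 300 c)
noncomputable def Atab_s_298_301 (c : Nat) : Nat := @Bool.rec (fun _ => Nat) (Atab_298) (Atab_s_299_301 c) (Nat.ble 299 c)
noncomputable def Atab_s_302_304 (c : Nat) : Nat := @Bool.rec (fun _ => Nat) (Atab_302) (Atab_303) (Nat.ble 303 c)
noncomputable def Atab_s_301_304 (c : Nat) : Nat := @Bool.rec (fun _ => Nat) (Atab_301) (Atab_s_302_304 c) (Nat.ble 302 c)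
noncomputable def Atab_s_298_304 (c : Nat) : Nat := @Bool.rec (fun _ => Nat) (Atab_s_298_301 c) (Atab_s_301_304 c) (Nat.ble 301 c)
noncomputable def Atab_s_292_304 (c : Nat) : Nat := @Bool.rec (fun _ => Nat) (Atab_s_292_298 c) (Atab_s_298_304 c) (Nat.ble 298 c)
noncomputable def Atab_s_305_307 (c : Nat) : Nat := @Bool.rec (fun _ => Nat) (Atab_305) (Atab_306) (Nat.ble 306 c)
noncomputable def Atab_s_304_307 (c : Nat) : Nat := @Bool.rec (fun _ => Nat) (Atab_304) (Atab_s_305_307 c) (Nat.ble 305 c)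
noncomputable def Atab_s_308_310 (c : Nat) : Nat := @Bool.rec (fun _ => Nat) (Atab_308) (Atab_309) (Nat.ble 309 c)
noncomputable def Atab_s_307_310 (c : Nat) : Nat := @Bool.rec (fun _ => Nat) (Atab_307) (Atab_s_308_310 c) (Nat.ble 308 c)
noncomputable def Atab_s_304_310 (c : Nat) : Nat := @Bool.rec (fun _ => Nat) (Atab_s_304_307 c) (Atab_s_307_310 c) (Nat.ble 307 c)
noncomputable def Atab_s_311_313 (c : Nat) : Nat := @Bool.rec (fun _ => Nat) (Atab_311) (Atab_312) (Nat.ble 312 c)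
noncomputable def Atab_s_310_313 (c : Nat) : Nat := @Bool.rec (fun _ => Nat) (Atab_310) (Atab_s_311_313 c) (Nat.ble 311 c)
noncomputable def Atab_s_314_316 (c : Nat) : Nat := @Bool.rec (fun _ => Nat) (Atab_314) (Atab_315) (Nat.ble 315 c)
noncomputable def Atab_s_313_316 (c : Nat) : Nat := @Bool.rec (fun _ => Nat) (Atab_313) (Atab_s_314_316 c) (Nat.ble 314 c)
noncomputable def Atab_s_310_316 (c : Nat) : Nat := @Bool.rec (fun _ => Nat) (Atab_s_310_313 c) (Atab_s_313_316 c) (Nat.ble 313 c)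
noncomputable def Atab_s_304_316 (c : Nat) : Nat := @Bool.rec (fun _ => Nat) (Atab_s_304_310 c) (Atab_s_310_316 c) (Nat.ble 310 c)
noncomputable def Atab_s_292_316 (c : Nat) : Nat := @Bool.rec (fun _ => Nat) (Atab_s_292_304 c) (Atab_s_304_316 c) (Nat.ble 304 c)
noncomputable def Atab_s_317_319 (c : Nat) : Nat := @Bool.rec (fun _ => Nat) (Atab_317) (Atab_318) (Nat.ble 318 c)
noncomputable def Atab_s_316_319 (c : Nat) : Nat := @Bool.rec (fun _ => Nat) (Atab_316) (Atab_s_317_319 c) (Nat.ble 317 c)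
noncomputable def Atab_s_320_322 (c : Nat) : Nat := @Bool.rec (fun _ => Nat) (Atab_320) (Atab_321) (Nat.ble 321 c)
noncomputable def Atab_s_319_322 (c : Nat) : Nat := @Bool.rec (fun _ => Nat) (Atab_319) (Atab_s_320_322 c) (Nat.ble 320 c)
noncomputable def Atab_s_316_322 (c : Nat) : Nat := @Bool.rec (fun _ => Nat) (Atab_s_316_319 c) (Atab_s_319_322 c) (Nat.ble 319 c)
noncomputable def Atab_s_323_325 (c : Nat) : Nat := @Bool.rec (fun _ => Nat) (Atab_323) (Atab_324) (Nat.ble 324 c)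
noncomputable def Atab_s_322_325 (c : Nat) : Nat := @Bool.rec (fun _ => Nat) (Atab_322) (Atab_s_323_325 c) (Nat.ble 323 c)
noncomputable def Atab_s_326_328 (c : Nat) : Nat := @Bool.rec (fun _ => Nat) (Atab_326) (Atab_327) (Nat.ble 327 c)
noncomputable def Atab_s_325_328 (c : Nat) : Nat := @Bool.rec (fun _ => Nat) (Atab_325) (Atab_s_326_328 c) (Nat.ble 326 c)
noncomputable def Atab_s_322_328 (c : Nat) : Nat := @Bool.rec (fun _ => Nat) (Atab_s_322_325 c) (Atab_s_325_328 c) (Nat.ble 325 c)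
noncomputable def Atab_s_316_328 (c : Nat) : Nat := @Bool.rec (fun _ => Nat) (Atab_s_316_322 c) (Atab_s_322_328 c) (Nat.ble 322 c)
noncomputable def Atab_s_329_331 (c : Nat) : Nat := @Bool.rec (fun _ => Nat) (Atab_329) (Atab_330) (Nat.ble 330 c)
noncomputable def Atab_s_328_331 (c : Nat) : Nat := @Bool.rec (fun _ => Nat) (Atab_328) (Atab_s_329_331 c) (Nat.ble 329 c)
noncomputable def Atab_s_332_334 (c : Nat) : Nat := @Bool.rec (fun _ => Nat) (Atab_332) (Atab_333) (Nat.ble 333 c)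
noncomputable def Atab_s_331_334 (c : Nat) : Nat := @Bool.rec (fun _ => Nat) (Atab_331) (Atab_s_332_334 c) (Nat.ble 332 c)
noncomputable def Atab_s_328_334 (c : Nat) : Nat := @Bool.rec (fun _ => Nat) (Atab_s_328_331 c) (Atab_s_331_334 c) (Nat.ble 331 c)
noncomputable def Atab_s_335_337 (c : Nat) : Nat := @Bool.rec (fun _ => Nat) (Atab_335) (Atab_336) (Nat.ble 336 c)
noncomputable def Atab_s_334_337 (c : Nat) : Nat := @Bool.rec (fun _ => Nat) (Atab_334) (Atab_s_335_337 c) (Nat.ble 335 c)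
noncomputable def Atab_s_337_339 (c : Nat) : Nat := @Bool.rec (fun _ => Nat) (Atab_337) (Atab_338) (Nat.ble 338 c)
noncomputable def Atab_s_339_341 (c : Nat) : Nat := @Bool.rec (fun _ => Nat) (Atab_339) (Atab_340) (Nat.ble 340 c)
noncomputable def Atab_s_337_341 (c : Nat) : Nat := @Bool.rec (fun _ => Nat) (Atab_s_337_339 c) (Atab_s_339_341 c) (Nat.ble 339 c)
noncomputable def Atab_s_334_341 (c : Nat) : Nat := @Bool.rec (fun _ => Nat) (Atab_s_334_337 c) (Atab_s_337_341 c) (Nat.ble 337 c)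
noncomputable def Atab_s_328_341 (c : Nat) : Nat := @Bool.rec (fun _ => Nat) (Atab_s_328_334 c) (Atab_s_334_341 c) (Nat.ble 334 c)
noncomputable def Atab_s_316_341 (c : Nat) : Nat := @Bool.rec (fun _ => Nat) (Atab_s_316_328 c) (Atab_s_328_341 c) (Nat.ble 328 c)
noncomputable def Atab_s_292_341 (c : Nat) : Nat := @Bool.rec (fun _ => Nat) (Atab_s_292_316 c) (Atab_s_316_341 c) (Nat.ble 316 c)
noncomputable def Atab_s_342_344 (c : Nat) : Nat := @Bool.rec (fun _ => Nat) (Atab_342) (Atab_343) (Nat.ble 343 c)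
noncomputable def Atab_s_341_344 (c : Nat) : Nat := @Bool.rec (fun _ => Nat) (Atab_341) (Atab_s_342_344 c) (Nat.ble 342 c)
noncomputable def Atab_s_345_347 (c : Nat) : Nat := @Bool.rec (fun _ => Nat) (Atab_345) (Atab_346) (Nat.ble 346 c)
noncomputable def Atab_s_344_347 (c : Nat) : Nat := @Bool.rec (fun _ => Nat) (Atab_344) (Atab_s_345_347 c) (Nat.ble 345 c)
noncomputable def Atab_s_341_347 (c : Nat) : Nat := @Bool.rec (fun _ => Nat) (Atab_s_341_344 c) (Atab_s_344_347 c) (Nat.ble 344 c)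
noncomputable def Atab_s_348_350 (c : Nat) : Nat := @Bool.rec (fun _ => Nat) (Atab_348) (Atab_349) (Nat.ble 349 c)
noncomputable def Atab_s_347_350 (c : Nat) : Nat := @Bool.rec (fun _ => Nat) (Atab_347) (Atab_s_348_350 c) (Nat.ble 348 c)
noncomputable def Atab_s_351_353 (c : Nat) : Nat := @Bool.rec (fun _ => Nat) (Atab_351) (Atab_352) (Nat.ble 352 c)
noncomputable def Atab_s_350_353 (c : Nat) : Nat := @Bool.rec (fun _ => Nat) (Atab_350) (Atab_s_351_353 c) (Nat.ble 351 c)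
noncomputable def Atab_s_347_353 (c : Nat) : Nat := @Bool.rec (fun _ => Nat) (Atab_s_347_350 c) (Atab_s_350_353 c) (Nat.ble 350 c)
noncomputable def Atab_s_341_353 (c : Nat) : Nat := @Bool.rec (fun _ => Nat) (Atab_s_341_347 c) (Atab_s_347_353 c) (Nat.ble 347 c)
noncomputable def Atab_s_354_356 (c : Nat) : Nat := @Bool.rec (fun _ => Nat) (Atab_354) (Atab_355) (Nat.ble 355 c)
noncomputable def Atab_s_353_356 (c : Nat) : Nat := @Bool.rec (fun _ => Nat) (Atab_353) (Atab_s_354_356 c) (Nat.ble 354 c)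
noncomputable def Atab_s_357_359 (c : Nat) : Nat := @Bool.rec (fun _ => Nat) (Atab_357) (Atab_358) (Nat.ble 358 c)
noncomputable def Atab_s_356_359 (c : Nat) : Nat := @Bool.rec (fun _ => Nat) (Atab_356) (Atab_s_357_359 c) (Nat.ble 357 c)
noncomputable def Atab_s_353_359 (c : Nat) : Nat := @Bool.rec (fun _ => Nat) (Atab_s_353_356 c) (Atab_s_356_359 c) (Nat.ble 356 c)
noncomputable def Atab_s_360_362 (c : Nat) : Nat := @Bool.rec (fun _ => Nat) (Atab_360) (Atab_361) (Nat.ble 361 c)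
noncomputable def Atab_s_359_362 (c : Nat) : Nat := @Bool.rec (fun _ => Nat) (Atab_359) (Atab_s_360_362 c) (Nat.ble 360 c)
noncomputable def Atab_s_363_365 (c : Nat) : Nat := @Bool.rec (fun _ => Nat) (Atab_363) (Atab_364) (Nat.ble 364 c)
noncomputable def Atab_s_362_365 (c : Nat) : Nat := @Bool.rec (fun _ => Nat) (Atab_362) (Atab_s_363_365 c) (Nat.ble 363 c)
noncomputable def Atab_s_359_365 (c : Nat) : Nat := @Bool.rec (fun _ => Nat) (Atab_s_359_362 c) (Atab_s_362_365 c) (Nat.ble 362 c)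
noncomputable def Atab_s_353_365 (c : Nat) : Nat := @Bool.rec (fun _ => Nat) (Atab_s_353_359 c) (Atab_s_359_365 c) (Nat.ble 359 c)
noncomputable def Atab_s_341_365 (c : Nat) : Nat := @Bool.rec (fun _ => Nat) (Atab_s_341_353 c) (Atab_s_353_365 c) (Nat.ble 353 c)
noncomputable def Atab_s_366_368 (c : Nat) : Nat := @Bool.rec (fun _ => Nat) (Atab_366) (Atab_367) (Nat.ble 367 c)
noncomputable def Atab_s_365_368 (c : Nat) : Nat := @Bool.rec (fun _ => Nat) (Atab_365) (Atab_s_366_368 c) (Nat.ble 366 c)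
noncomputable def Atab_s_369_371 (c : Nat) : Nat := @Bool.rec (fun _ => Nat) (Atab_369) (Atab_370) (Nat.ble 370 c)
noncomputable def Atab_s_368_371 (c : Nat) : Nat := @Bool.rec (fun _ => Nat) (Atab_368) (Atab_s_369_371 c) (Nat.ble 369 c)
noncomputable def Atab_s_365_371 (c : Nat) : Nat := @Bool.rec (fun _ => Nat) (Atab_s_365_368 c) (Atab_s_368_371 c) (Nat.ble 368 c)
noncomputable def Atab_s_372_374 (c : Nat) : Nat := @Bool.rec (fun _ => Nat) (Atab_372) (Atab_373) (Nat.ble 373 c)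
noncomputable def Atab_s_371_374 (c : Nat) : Nat := @Bool.rec (fun _ => Nat) (Atab_371) (Atab_s_372_374 c) (Nat.ble 372 c)
noncomputable def Atab_s_375_377 (c : Nat) : Nat := @Bool.rec (fun _ => Nat) (Atab_375) (Atab_376) (Nat.ble 376 c)
noncomputable def Atab_s_374_377 (c : Nat) : Nat := @Bool.rec (fun _ => Nat) (Atab_374) (Atab_s_375_377 c) (Nat.ble 375 c)
noncomputable def Atab_s_371_377 (c : Nat) : Nat := @Bool.rec (fun _ => Nat) (Atab_s_371_374 c) (Atab_s_374_377 c) (Nat.ble 374 c)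
noncomputable def Atab_s_365_377 (c : Nat) : Nat := @Bool.rec (fun _ => Nat) (Atab_s_365_371 c) (Atab_s_371_377 c) (Nat.ble 371 c)
noncomputable def Atab_s_378_380 (c : Nat) : Nat := @Bool.rec (fun _ => Nat) (Atab_378) (Atab_379) (Nat.ble 379 c)
noncomputable def Atab_s_377_380 (c : Nat) : Nat := @Bool.rec (fun _ => Nat) (Atab_377) (Atab_s_378_380 c) (Nat.ble 378 c)
noncomputable def Atab_s_381_383 (c : Nat) : Nat := @Bool.rec (fun _ => Nat) (Atab_381) (Atab_382) (Nat.ble 382 c)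
noncomputable def Atab_s_380_383 (c : Nat) : Nat := @Bool.rec (fun _ => Nat) (Atab_380) (Atab_s_381_383 c) (Nat.ble 381 c)
noncomputable def Atab_s_377_383 (c : Nat) : Nat := @Bool.rec (fun _ => Nat) (Atab_s_377_380 c) (Atab_s_380_383 c) (Nat.ble 380 c)
noncomputable def Atab_s_384_386 (c : Nat) : Nat := @Bool.rec (fun _ => Nat) (Atab_384) (Atab_385) (Nat.ble 385 c)
noncomputable def Atab_s_383_386 (c : Nat) : Nat := @Bool.rec (fun _ => Nat) (Atab_383) (Atab_s_384_386 c) (Nat.ble 384 c)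
noncomputable def Atab_s_386_388 (c : Nat) : Nat := @Bool.rec (fun _ => Nat) (Atab_386) (Atab_387) (Nat.ble 387 c)
noncomputable def Atab_s_388_390 (c : Nat) : Nat := @Bool.rec (fun _ => Nat) (Atab_388) (Atab_389) (Nat.ble 389 c)
noncomputable def Atab_s_386_390 (c : Nat) : Nat := @Bool.rec (fun _ => Nat) (Atab_s_386_388 c) (Atab_s_388_390 c) (Nat.ble 388 c)
noncomputable def Atab_s_383_390 (c : Nat) : Nat := @Bool.rec (fun _ => Nat) (Atab_s_383_386 c) (Atab_s_386_390 c) (Nat.ble 386 c)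
noncomputable def Atab_s_377_390 (c : Nat) : Nat := @Bool.rec (fun _ => Nat) (Atab_s_377_383 c) (Atab_s_383_390 c) (Nat.ble 383 c)
noncomputable def Atab_s_365_390 (c : Nat) : Nat := @Bool.rec (fun _ => Nat) (Atab_s_365_377 c) (Atab_s_377_390 c) (Nat.ble 377 c)
noncomputable def Atab_s_341_390 (c : Nat) : Nat := @Bool.rec (fun _ => Nat) (Atab_s_341_365 c) (Atab_s_365_390 c) (Nat.ble 365 c)
noncomputable def Atab_s_292_390 (c : Nat) : Nat := @Bool.rec (fun _ => Nat) (Atab_s_292_341 c) (Atab_s_341_390 c) (Nat.ble 341 c)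
noncomputable def Atab_s_195_390 (c : Nat) : Nat := @Bool.rec (fun _ => Nat) (Atab_s_195_292 c) (Atab_s_292_390 c) (Nat.ble 292 c)
noncomputable def Atab_s_0_390 (c : Nat) : Nat := @Bool.rec (fun _ => Nat) (Atab_s_0_195 c) (Atab_s_195_390 c) (Nat.ble 195 c)
noncomputable def Atab (i : Nat) : Nat := rdw 41 2199023255551 (Atab_s_0_390 (Nat.shiftRight i 11)) (Nat.land i 2047)
noncomputable def Btab_s_0_2 (c : Nat) : Nat := @Bool.rec (fun _ => Nat) (Btab_0) (Btab_1) (Nat.ble 1 c)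
noncomputable def Btab_s_2_4 (c : Nat) : Nat := @Bool.rec (fun _ => Nat) (Btab_2) (Btab_3) (Nat.ble 3 c)
noncomputable def Btab_s_0_4 (c : Nat) : Nat := @Bool.rec (fun _ => Nat) (Btab_s_0_2 c) (Btab_s_2_4 c) (Nat.ble 2 c)
noncomputable def Btab_s_4_6 (c : Nat) : Nat := @Bool.rec (fun _ => Nat) (Btab_4) (Btab_5) (Nat.ble 5 c)
noncomputable def Btab_s_6_8 (c : Nat) : Nat := @Bool.rec (fun _ => Nat) (Btab_6) (Btab_7) (Nat.ble 7 c)
noncomputable def Btab_s_4_8 (c : Nat) : Nat := @Bool.rec (fun _ => Nat) (Btab_s_4_6 c) (Btab_s_6_8 c) (Nat.ble 6 c)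
noncomputable def Btab_s_0_8 (c : Nat) : Nat := @Bool.rec (fun _ => Nat) (Btab_s_0_4 c) (Btab_s_4_8 c) (Nat.ble 4 c)
noncomputable def Btab_s_8_10 (c : Nat) : Nat := @Bool.rec (fun _ => Nat) (Btab_8) (Btab_9) (Nat.ble 9 c)
noncomputable def Btab_s_10_12 (c : Nat) : Nat := @Bool.rec (fun _ => Nat) (Btab_10) (Btab_11) (Nat.ble 11 c)
noncomputable def Btab_s_8_12 (c : Nat) : Nat := @Bool.rec (fun _ => Nat) (Btab_s_8_10 c) (Btab_s_10_12 c) (Nat.ble 10 c)
noncomputable def Btab_s_12_14 (c : Nat) : Nat := @Bool.rec (fun _ => Nat) (Btab_12) (Btab_13) (Nat.ble 13 c)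
noncomputable def Btab_s_14_16 (c : Nat) : Nat := @Bool.rec (fun _ => Nat) (Btab_14) (Btab_15) (Nat.ble 15 c)
noncomputable def Btab_s_12_16 (c : Nat) : Nat := @Bool.rec (fun _ => Nat) (Btab_s_12_14 c) (Btab_s_14_16 c) (Nat.ble 14 c)
noncomputable def Btab_s_8_16 (c : Nat) : Nat := @Bool.rec (fun _ => Nat) (Btab_s_8_12 c) (Btab_s_12_16 c) (Nat.ble 12 c)
noncomputable def Btab_s_0_16 (c : Nat) : Nat := @Bool.rec (fun _ => Nat) (Btab_s_0_8 c) (Btab_s_8_16 c) (Nat.ble 8 c)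
noncomputable def Btab_s_16_18 (c : Nat) : Nat := @Bool.rec (fun _ => Nat) (Btab_16) (Btab_17) (Nat.ble 17 c)
noncomputable def Btab_s_18_20 (c : Nat) : Nat := @Bool.rec (fun _ => Nat) (Btab_18) (Btab_19) (Nat.ble 19 c)
noncomputable def Btab_s_16_20 (c : Nat) : Nat := @Bool.rec (fun _ => Nat) (Btab_s_16_18 c) (Btab_s_18_20 c) (Nat.ble 18 c)
noncomputable def Btab_s_20_22 (c : Nat) : Nat := @Bool.rec (fun _ => Nat) (Btab_20) (Btab_21) (Nat.ble 21 c)
noncomputable def Btab_s_22_24 (c : Nat) : Nat := @Bool.rec (fun _ => Nat) (Btab_22) (Btab_23) (Nat.ble 23 c)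
noncomputable def Btab_s_20_24 (c : Nat) : Nat := @Bool.rec (fun _ => Nat) (Btab_s_20_22 c) (Btab_s_22_24 c) (Nat.ble 22 c)
noncomputable def Btab_s_16_24 (c : Nat) : Nat := @Bool.rec (fun _ => Nat) (Btab_s_16_20 c) (Btab_s_20_24 c) (Nat.ble 20 c)
noncomputable def Btab_s_24_26 (c : Nat) : Nat := @Bool.rec (fun _ => Nat) (Btab_24) (Btab_25) (Nat.ble 25 c)
noncomputable def Btab_s_26_28 (c : Nat) : Nat := @Bool.rec (fun _ => Nat) (Btab_26) (Btab_27) (Nat.ble 27 c)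
noncomputable def Btab_s_24_28 (c : Nat) : Nat := @Bool.rec (fun _ => Nat) (Btab_s_24_26 c) (Btab_s_26_28 c) (Nat.ble 26 c)
noncomputable def Btab_s_28_30 (c : Nat) : Nat := @Bool.rec (fun _ => Nat) (Btab_28) (Btab_29) (Nat.ble 29 c)
noncomputable def Btab_s_31_33 (c : Nat) : Nat := @Bool.rec (fun _ => Nat) (Btab_31) (Btab_32) (Nat.ble 32 c)
noncomputable def Btab_s_30_33 (c : Nat) : Nat := @Bool.rec (fun _ => Nat) (Btab_30) (Btab_s_31_33 c) (Nat.ble 31 c)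
noncomputable def Btab_s_28_33 (c : Nat) : Nat := @Bool.rec (fun _ => Nat) (Btab_s_28_30 c) (Btab_s_30_33 c) (Nat.ble 30 c)
noncomputable def Btab_s_24_33 (c : Nat) : Nat := @Bool.rec (fun _ => Nat) (Btab_s_24_28 c) (Btab_s_28_33 c) (Nat.ble 28 c)
noncomputable def Btab_s_16_33 (c : Nat) : Nat := @Bool.rec (fun _ => Nat) (Btab_s_16_24 c) (Btab_s_24_33 c) (Nat.ble 24 c)
noncomputable def Btab_s_0_33 (c : Nat) : Nat := @Bool.rec (fun _ => Nat) (Btab_s_0_16 c) (Btab_s_16_33 c) (Nat.ble 16 c)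
noncomputable def Btab_s_33_35 (c : Nat) : Nat := @Bool.rec (fun _ => Nat) (Btab_33) (Btab_34) (Nat.ble 34 c)
noncomputable def Btab_s_35_37 (c : Nat) : Nat := @Bool.rec (fun _ => Nat) (Btab_35) (Btab_36) (Nat.ble 36 c)
noncomputable def Btab_s_33_37 (c : Nat) : Nat := @Bool.rec (fun _ => Nat) (Btab_s_33_35 c) (Btab_s_35_37 c) (Nat.ble 35 c)
noncomputable def Btab_s_37_39 (c : Nat) : Nat := @Bool.rec (fun _ => Nat) (Btab_37) (Btab_38) (Nat.ble 38 c)
noncomputable def Btab_s_39_41 (c : Nat) : Nat := @Bool.rec (fun _ => Nat) (Btab_39) (Btab_40) (Nat.ble 40 c)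
noncomputable def Btab_s_37_41 (c : Nat) : Nat := @Bool.rec (fun _ => Nat) (Btab_s_37_39 c) (Btab_s_39_41 c) (Nat.ble 39 c)
noncomputable def Btab_s_33_41 (c : Nat) : Nat := @Bool.rec (fun _ => Nat) (Btab_s_33_37 c) (Btab_s_37_41 c) (Nat.ble 37 c)
noncomputable def Btab_s_41_43 (c : Nat) : Nat := @Bool.rec (fun _ => Nat) (Btab_41) (Btab_42) (Nat.ble 42 c)
noncomputable def Btab_s_43_45 (c : Nat) : Nat := @Bool.rec (fun _ => Nat) (Btab_43) (Btab_44) (Nat.ble 44 c)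
noncomputable def Btab_s_41_45 (c : Nat) : Nat := @Bool.rec (fun _ => Nat) (Btab_s_41_43 c) (Btab_s_43_45 c) (Nat.ble 43 c)
noncomputable def Btab_s_45_47 (c : Nat) : Nat := @Bool.rec (fun _ => Nat) (Btab_45) (Btab_46) (Nat.ble 46 c)
noncomputable def Btab_s_47_49 (c : Nat) : Nat := @Bool.rec (fun _ => Nat) (Btab_47) (Btab_48) (Nat.ble 48 c)
noncomputable def Btab_s_45_49 (c : Nat) : Nat := @Bool.rec (fun _ => Nat) (Btab_s_45_47 c) (Btab_s_47_49 c) (Nat.ble 47 c)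
noncomputable def Btab_s_41_49 (c : Nat) : Nat := @Bool.rec (fun _ => Nat) (Btab_s_41_45 c) (Btab_s_45_49 c) (Nat.ble 45 c)
noncomputable def Btab_s_33_49 (c : Nat) : Nat := @Bool.rec (fun _ => Nat) (Btab_s_33_41 c) (Btab_s_41_49 c) (Nat.ble 41 c)
noncomputable def Btab_s_49_51 (c : Nat) : Nat := @Bool.rec (fun _ => Nat) (Btab_49) (Btab_50) (Nat.ble 50 c)
noncomputable def Btab_s_51_53 (c : Nat) : Nat := @Bool.rec (fun _ => Nat) (Btab_51) (Btab_52) (Nat.ble 52 c)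
noncomputable def Btab_s_49_53 (c : Nat) : Nat := @Bool.rec (fun _ => Nat) (Btab_s_49_51 c) (Btab_s_51_53 c) (Nat.ble 51 c)
noncomputable def Btab_s_53_55 (c : Nat) : Nat := @Bool.rec (fun _ => Nat) (Btab_53) (Btab_54) (Nat.ble 54 c)
noncomputable def Btab_s_55_57 (c : Nat) : Nat := @Bool.rec (fun _ => Nat) (Btab_55) (Btab_56) (Nat.ble 56 c)
noncomputable def Btab_s_53_57 (c : Nat) : Nat := @Bool.rec (fun _ => Nat) (Btab_s_53_55 c) (Btab_s_55_57 c) (Nat.ble 55 c)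
noncomputable def Btab_s_49_57 (c : Nat) : Nat := @Bool.rec (fun _ => Nat) (Btab_s_49_53 c) (Btab_s_53_57 c) (Nat.ble 53 c)
noncomputable def Btab_s_57_59 (c : Nat) : Nat := @Bool.rec (fun _ => Nat) (Btab_57) (Btab_58) (Nat.ble 58 c)
noncomputable def Btab_s_59_61 (c : Nat) : Nat := @Bool.rec (fun _ => Nat) (Btab_59) (Btab_60) (Nat.ble 60 c)
noncomputable def Btab_s_57_61 (c : Nat) : Nat := @Bool.rec (fun _ => Nat) (Btab_s_57_59 c) (Btab_s_59_61 c) (Nat.ble 59 c)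
noncomputable def Btab_s_61_63 (c : Nat) : Nat := @Bool.rec (fun _ => Nat) (Btab_61) (Btab_62) (Nat.ble 62 c)
noncomputable def Btab_s_64_66 (c : Nat) : Nat := @Bool.rec (fun _ => Nat) (Btab_64) (Btab_65) (Nat.ble 65 c)
noncomputable def Btab_s_63_66 (c : Nat) : Nat := @Bool.rec (fun _ => Nat) (Btab_63) (Btab_s_64_66 c) (Nat.ble 64 c)
noncomputable def Btab_s_61_66 (c : Nat) : Nat := @Bool.rec (fun _ => Nat) (Btab_s_61_63 c) (Btab_s_63_66 c) (Nat.ble 63 c)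
noncomputable def Btab_s_57_66 (c : Nat) : Nat := @Bool.rec (fun _ => Nat) (Btab_s_57_61 c) (Btab_s_61_66 c) (Nat.ble 61 c)
noncomputable def Btab_s_49_66 (c : Nat) : Nat := @Bool.rec (fun _ => Nat) (Btab_s_49_57 c) (Btab_s_57_66 c) (Nat.ble 57 c)
noncomputable def Btab_s_33_66 (c : Nat) : Nat := @Bool.rec (fun _ => Nat) (Btab_s_33_49 c) (Btab_s_49_66 c) (Nat.ble 49 c)
noncomputable def Btab_s_0_66 (c : Nat) : Nat := @Bool.rec (fun _ => Nat) (Btab_s_0_33 c) (Btab_s_33_66 c) (Nat.ble 33 c)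
noncomputable def Btab_s_66_68 (c : Nat) : Nat := @Bool.rec (fun _ => Nat) (Btab_66) (Btab_67) (Nat.ble 67 c)
noncomputable def Btab_s_68_70 (c : Nat) : Nat := @Bool.rec (fun _ => Nat) (Btab_68) (Btab_69) (Nat.ble 69 c)
noncomputable def Btab_s_66_70 (c : Nat) : Nat := @Bool.rec (fun _ => Nat) (Btab_s_66_68 c) (Btab_s_68_70 c) (Nat.ble 68 c)
noncomputable def Btab_s_70_72 (c : Nat) : Nat := @Bool.rec (fun _ => Nat) (Btab_70) (Btab_71) (Nat.ble 71 c)
noncomputable def Btab_s_72_74 (c : Nat) : Nat := @Bool.rec (fun _ => Nat) (Btab_72) (Btab_73) (Nat.ble 73 c)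
noncomputable def Btab_s_70_74 (c : Nat) : Nat := @Bool.rec (fun _ => Nat) (Btab_s_70_72 c) (Btab_s_72_74 c) (Nat.ble 72 c)
noncomputable def Btab_s_66_74 (c : Nat) : Nat := @Bool.rec (fun _ => Nat) (Btab_s_66_70 c) (Btab_s_70_74 c) (Nat.ble 70 c)
noncomputable def Btab_s_74_76 (c : Nat) : Nat := @Bool.rec (fun _ => Nat) (Btab_74) (Btab_75) (Nat.ble 75 c)
noncomputable def Btab_s_76_78 (c : Nat) : Nat := @Bool.rec (fun _ => Nat) (Btab_76) (Btab_77) (Nat.ble 77 c)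
noncomputable def Btab_s_74_78 (c : Nat) : Nat := @Bool.rec (fun _ => Nat) (Btab_s_74_76 c) (Btab_s_76_78 c) (Nat.ble 76 c)
noncomputable def Btab_s_78_80 (c : Nat) : Nat := @Bool.rec (fun _ => Nat) (Btab_78) (Btab_79) (Nat.ble 79 c)
noncomputable def Btab_s_80_82 (c : Nat) : Nat := @Bool.rec (fun _ => Nat) (Btab_80) (Btab_81) (Nat.ble 81 c)
noncomputable def Btab_s_78_82 (c : Nat) : Nat := @Bool.rec (fun _ => Nat) (Btab_s_78_80 c) (Btab_s_80_82 c) (Nat.ble 80 c)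
noncomputable def Btab_s_74_82 (c : Nat) : Nat := @Bool.rec (fun _ => Nat) (Btab_s_74_78 c) (Btab_s_78_82 c) (Nat.ble 78 c)
noncomputable def Btab_s_66_82 (c : Nat) : Nat := @Bool.rec (fun _ => Nat) (Btab_s_66_74 c) (Btab_s_74_82 c) (Nat.ble 74 c)
noncomputable def Btab_s_82_84 (c : Nat) : Nat := @Bool.rec (fun _ => Nat) (Btab_82) (Btab_83) (Nat.ble 83 c)
noncomputable def Btab_s_84_86 (c : Nat) : Nat := @Bool.rec (fun _ => Nat) (Btab_84) (Btab_85) (Nat.ble 85 c)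
noncomputable def Btab_s_82_86 (c : Nat) : Nat := @Bool.rec (fun _ => Nat) (Btab_s_82_84 c) (Btab_s_84_86 c) (Nat.ble 84 c)
noncomputable def Btab_s_86_88 (c : Nat) : Nat := @Bool.rec (fun _ => Nat) (Btab_86) (Btab_87) (Nat.ble 87 c)
noncomputable def Btab_s_88_90 (c : Nat) : Nat := @Bool.rec (fun _ => Nat) (Btab_88) (Btab_89) (Nat.ble 89 c)
noncomputable def Btab_s_86_90 (c : Nat) : Nat := @Bool.rec (fun _ => Nat) (Btab_s_86_88 c) (Btab_s_88_90 c) (Nat.ble 88 c)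
noncomputable def Btab_s_82_90 (c : Nat) : Nat := @Bool.rec (fun _ => Nat) (Btab_s_82_86 c) (Btab_s_86_90 c) (Nat.ble 86 c)
noncomputable def Btab_s_90_92 (c : Nat) : Nat := @Bool.rec (fun _ => Nat) (Btab_90) (Btab_91) (Nat.ble 91 c)
noncomputable def Btab_s_92_94 (c : Nat) : Nat := @Bool.rec (fun _ => Nat) (Btab_92) (Btab_93) (Nat.ble 93 c)
noncomputable def Btab_s_90_94 (c : Nat) : Nat := @Bool.rec (fun _ => Nat) (Btab_s_90_92 c) (Btab_s_92_94 c) (Nat.ble 92 c)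
noncomputable def Btab_s_94_96 (c : Nat) : Nat := @Bool.rec (fun _ => Nat) (Btab_94) (Btab_95) (Nat.ble 95 c)
noncomputable def Btab_s_97_99 (c : Nat) : Nat := @Bool.rec (fun _ => Nat) (Btab_97) (Btab_98) (Nat.ble 98 c)
noncomputable def Btab_s_96_99 (c : Nat) : Nat := @Bool.rec (fun _ => Nat) (Btab_96) (Btab_s_97_99 c) (Nat.ble 97 c)
noncomputable def Btab_s_94_99 (c : Nat) : Nat := @Bool.rec (fun _ => Nat) (Btab_s_94_96 c) (Btab_s_96_99 c) (Nat.ble 96 c)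
noncomputable def Btab_s_90_99 (c : Nat) : Nat := @Bool.rec (fun _ => Nat) (Btab_s_90_94 c) (Btab_s_94_99 c) (Nat.ble 94 c)
noncomputable def Btab_s_82_99 (c : Nat) : Nat := @Bool.rec (fun _ => Nat) (Btab_s_82_90 c) (Btab_s_90_99 c) (Nat.ble 90 c)
noncomputable def Btab_s_66_99 (c : Nat) : Nat := @Bool.rec (fun _ => Nat) (Btab_s_66_82 c) (Btab_s_82_99 c) (Nat.ble 82 c)
noncomputable def Btab_s_99_101 (c : Nat) : Nat := @Bool.rec (fun _ => Nat) (Btab_99) (Btab_100) (Nat.ble 100 c)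
noncomputable def Btab_s_101_103 (c : Nat) : Nat := @Bool.rec (fun _ => Nat) (Btab_101) (Btab_102) (Nat.ble 102 c)
noncomputable def Btab_s_99_103 (c : Nat) : Nat := @Bool.rec (fun _ => Nat) (Btab_s_99_101 c) (Btab_s_101_103 c) (Nat.ble 101 c)
noncomputable def Btab_s_103_105 (c : Nat) : Nat := @Bool.rec (fun _ => Nat) (Btab_103) (Btab_104) (Nat.ble 104 c)
noncomputable def Btab_s_105_107 (c : Nat) : Nat := @Bool.rec (fun _ => Nat) (Btab_105) (Btab_106) (Nat.ble 106 c)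
noncomputable def Btab_s_103_107 (c : Nat) : Nat := @Bool.rec (fun _ => Nat) (Btab_s_103_105 c) (Btab_s_105_107 c) (Nat.ble 105 c)
noncomputable def Btab_s_99_107 (c : Nat) : Nat := @Bool.rec (fun _ => Nat) (Btab_s_99_103 c) (Btab_s_103_107 c) (Nat.ble 103 c)
noncomputable def Btab_s_107_109 (c : Nat) : Nat := @Bool.rec (fun _ => Nat) (Btab_107) (Btab_108) (Nat.ble 108 c)
noncomputable def Btab_s_109_111 (c : Nat) : Nat := @Bool.rec (fun _ => Nat) (Btab_109) (Btab_110) (Nat.ble 110 c)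
noncomputable def Btab_s_107_111 (c : Nat) : Nat := @Bool.rec (fun _ => Nat) (Btab_s_107_109 c) (Btab_s_109_111 c) (Nat.ble 109 c)
noncomputable def Btab_s_111_113 (c : Nat) : Nat := @Bool.rec (fun _ => Nat) (Btab_111) (Btab_112) (Nat.ble 112 c)
noncomputable def Btab_s_114_116 (c : Nat) : Nat := @Bool.rec (fun _ => Nat) (Btab_114) (Btab_115) (Nat.ble 115 c)
noncomputable def Btab_s_113_116 (c : Nat) : Nat := @Bool.rec (fun _ => Nat) (Btab_113) (Btab_s_114_116 c) (Nat.ble 114 c)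
noncomputable def Btab_s_111_116 (c : Nat) : Nat := @Bool.rec (fun _ => Nat) (Btab_s_111_113 c) (Btab_s_113_116 c) (Nat.ble 113 c)
noncomputable def Btab_s_107_116 (c : Nat) : Nat := @Bool.rec (fun _ => Nat) (Btab_s_107_111 c) (Btab_s_111_116 c) (Nat.ble 111 c)
noncomputable def Btab_s_99_116 (c : Nat) : Nat := @Bool.rec (fun _ => Nat) (Btab_s_99_107 c) (Btab_s_107_116 c) (Nat.ble 107 c)
noncomputable def Btab_s_116_118 (c : Nat) : Nat := @Bool.rec (fun _ => Nat) (Btab_116) (Btab_117) (Nat.ble 117 c)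
noncomputable def Btab_s_118_120 (c : Nat) : Nat := @Bool.rec (fun _ => Nat) (Btab_118) (Btab_119) (Nat.ble 119 c)
noncomputable def Btab_s_116_120 (c : Nat) : Nat := @Bool.rec (fun _ => Nat) (Btab_s_116_118 c) (Btab_s_118_120 c) (Nat.ble 118 c)
noncomputable def Btab_s_120_122 (c : Nat) : Nat := @Bool.rec (fun _ => Nat) (Btab_120) (Btab_121) (Nat.ble 121 c)
noncomputable def Btab_s_122_124 (c : Nat) : Nat := @Bool.rec (fun _ => Nat) (Btab_122) (Btab_123) (Nat.ble 123 c)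
noncomputable def Btab_s_120_124 (c : Nat) : Nat := @Bool.rec (fun _ => Nat) (Btab_s_120_122 c) (Btab_s_122_124 c) (Nat.ble 122 c)
noncomputable def Btab_s_116_124 (c : Nat) : Nat := @Bool.rec (fun _ => Nat) (Btab_s_116_120 c) (Btab_s_120_124 c) (Nat.ble 120 c)
noncomputable def Btab_s_124_126 (c : Nat) : Nat := @Bool.rec (fun _ => Nat) (Btab_124) (Btab_125) (Nat.ble 125 c)
noncomputable def Btab_s_126_128 (c : Nat) : Nat := @Bool.rec (fun _ => Nat) (Btab_126) (Btab_127) (Nat.ble 127 c)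
noncomputable def Btab_s_124_128 (c : Nat) : Nat := @Bool.rec (fun _ => Nat) (Btab_s_124_126 c) (Btab_s_126_128 c) (Nat.ble 126 c)
noncomputable def Btab_s_128_130 (c : Nat) : Nat := @Bool.rec (fun _ => Nat) (Btab_128) (Btab_129) (Nat.ble 129 c)
noncomputable def Btab_s_131_133 (c : Nat) : Nat := @Bool.rec (fun _ => Nat) (Btab_131) (Btab_132) (Nat.ble 132 c)
noncomputable def Btab_s_130_133 (c : Nat) : Nat := @Bool.rec (fun _ => Nat) (Btab_130) (Btab_s_131_133 c) (Nat.ble 131 c)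
noncomputable def Btab_s_128_133 (c : Nat) : Nat := @Bool.rec (fun _ => Nat) (Btab_s_128_130 c) (Btab_s_130_133 c) (Nat.ble 130 c)
noncomputable def Btab_s_124_133 (c : Nat) : Nat := @Bool.rec (fun _ => Nat) (Btab_s_124_128 c) (Btab_s_128_133 c) (Nat.ble 128 c)
noncomputable def Btab_s_116_133 (c : Nat) : Nat := @Bool.rec (fun _ => Nat) (Btab_s_116_124 c) (Btab_s_124_133 c) (Nat.ble 124 c)
noncomputable def Btab_s_99_133 (c : Nat) : Nat := @Bool.rec (fun _ => Nat) (Btab_s_99_116 c) (Btab_s_116_133 c) (Nat.ble 116 c)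
noncomputable def Btab_s_66_133 (c : Nat) : Nat := @Bool.rec (fun _ => Nat) (Btab_s_66_99 c) (Btab_s_99_133 c) (Nat.ble 99 c)
noncomputable def Btab_s_0_133 (c : Nat) : Nat := @Bool.rec (fun _ => Nat) (Btab_s_0_66 c) (Btab_s_66_133 c) (Nat.ble 66 c)
noncomputable def Btab_s_133_135 (c : Nat) : Nat := @Bool.rec (fun _ => Nat) (Btab_133) (Btab_134) (Nat.ble 134 c)
noncomputable def Btab_s_135_137 (c : Nat) : Nat := @Bool.rec (fun _ => Nat) (Btab_135) (Btab_136) (Nat.ble 136 c)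
noncomputable def Btab_s_133_137 (c : Nat) : Nat := @Bool.rec (fun _ => Nat) (Btab_s_133_135 c) (Btab_s_135_137 c) (Nat.ble 135 c)
noncomputable def Btab_s_137_139 (c : Nat) : Nat := @Bool.rec (fun _ => Nat) (Btab_137) (Btab_138) (Nat.ble 138 c)
noncomputable def Btab_s_139_141 (c : Nat) : Nat := @Bool.rec (fun _ => Nat) (Btab_139) (Btab_140) (Nat.ble 140 c)
noncomputable def Btab_s_137_141 (c : Nat) : Nat := @Bool.rec (fun _ => Nat) (Btab_s_137_139 c) (Btab_s_139_141 c) (Nat.ble 139 c)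
noncomputable def Btab_s_133_141 (c : Nat) : Nat := @Bool.rec (fun _ => Nat) (Btab_s_133_137 c) (Btab_s_137_141 c) (Nat.ble 137 c)
noncomputable def Btab_s_141_143 (c : Nat) : Nat := @Bool.rec (fun _ => Nat) (Btab_141) (Btab_142) (Nat.ble 142 c)
noncomputable def Btab_s_143_145 (c : Nat) : Nat := @Bool.rec (fun _ => Nat) (Btab_143) (Btab_144) (Nat.ble 144 c)
noncomputable def Btab_s_141_145 (c : Nat) : Nat := @Bool.rec (fun _ => Nat) (Btab_s_141_143 c) (Btab_s_143_145 c) (Nat.ble 143 c)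
noncomputable def Btab_s_145_147 (c : Nat) : Nat := @Bool.rec (fun _ => Nat) (Btab_145) (Btab_146) (Nat.ble 146 c)
noncomputable def Btab_s_147_149 (c : Nat) : Nat := @Bool.rec (fun _ => Nat) (Btab_147) (Btab_148) (Nat.ble 148 c)
noncomputable def Btab_s_145_149 (c : Nat) : Nat := @Bool.rec (fun _ => Nat) (Btab_s_145_147 c) (Btab_s_147_149 c) (Nat.ble 147 c)
noncomputable def Btab_s_141_149 (c : Nat) : Nat := @Bool.rec (fun _ => Nat) (Btab_s_141_145 c) (Btab_s_145_149 c) (Nat.ble 145 c)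
noncomputable def Btab_s_133_149 (c : Nat) : Nat := @Bool.rec (fun _ => Nat) (Btab_s_133_141 c) (Btab_s_141_149 c) (Nat.ble 141 c)
noncomputable def Btab_s_149_151 (c : Nat) : Nat := @Bool.rec (fun _ => Nat) (Btab_149) (Btab_150) (Nat.ble 150 c)
noncomputable def Btab_s_151_153 (c : Nat) : Nat := @Bool.rec (fun _ => Nat) (Btab_151) (Btab_152) (Nat.ble 152 c)
noncomputable def Btab_s_149_153 (c : Nat) : Nat := @Bool.rec (fun _ => Nat) (Btab_s_149_151 c) (Btab_s_151_153 c) (Nat.ble 151 c)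
noncomputable def Btab_s_153_155 (c : Nat) : Nat := @Bool.rec (fun _ => Nat) (Btab_153) (Btab_154) (Nat.ble 154 c)
noncomputable def Btab_s_155_157 (c : Nat) : Nat := @Bool.rec (fun _ => Nat) (Btab_155) (Btab_156) (Nat.ble 156 c)
noncomputable def Btab_s_153_157 (c : Nat) : Nat := @Bool.rec (fun _ => Nat) (Btab_s_153_155 c) (Btab_s_155_157 c) (Nat.ble 155 c)
noncomputable def Btab_s_149_157 (c : Nat) : Nat := @Bool.rec (fun _ => Nat) (Btab_s_149_153 c) (Btab_s_153_157 c) (Nat.ble 153 c)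
noncomputable def Btab_s_157_159 (c : Nat) : Nat := @Bool.rec (fun _ => Nat) (Btab_157) (Btab_158) (Nat.ble 158 c)
noncomputable def Btab_s_159_161 (c : Nat) : Nat := @Bool.rec (fun _ => Nat) (Btab_159) (Btab_160) (Nat.ble 160 c)
noncomputable def Btab_s_157_161 (c : Nat) : Nat := @Bool.rec (fun _ => Nat) (Btab_s_157_159 c) (Btab_s_159_161 c) (Nat.ble 159 c)
noncomputable def Btab_s_161_163 (c : Nat) : Nat := @Bool.rec (fun _ => Nat) (Btab_161) (Btab_162) (Nat.ble 162 c)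
noncomputable def Btab_s_164_166 (c : Nat) : Nat := @Bool.rec (fun _ => Nat) (Btab_164) (Btab_165) (Nat.ble 165 c)
noncomputable def Btab_s_163_166 (c : Nat) : Nat := @Bool.rec (fun _ => Nat) (Btab_163) (Btab_s_164_166 c) (Nat.ble 164 c)
noncomputable def Btab_s_161_166 (c : Nat) : Nat := @Bool.rec (fun _ => Nat) (Btab_s_161_163 c) (Btab_s_163_166 c) (Nat.ble 163 c)
noncomputable def Btab_s_157_166 (c : Nat) : Nat := @Bool.rec (fun _ => Nat) (Btab_s_157_161 c) (Btab_s_161_166 c) (Nat.ble 161 c)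
noncomputable def Btab_s_149_166 (c : Nat) : Nat := @Bool.rec (fun _ => Nat) (Btab_s_149_157 c) (Btab_s_157_166 c) (Nat.ble 157 c)
noncomputable def Btab_s_133_166 (c : Nat) : Nat := @Bool.rec (fun _ => Nat) (Btab_s_133_149 c) (Btab_s_149_166 c) (Nat.ble 149 c)
noncomputable def Btab_s_166_168 (c : Nat) : Nat := @Bool.rec (fun _ => Nat) (Btab_166) (Btab_167) (Nat.ble 167 c)
noncomputable def Btab_s_168_170 (c : Nat) : Nat := @Bool.rec (fun _ => Nat) (Btab_168) (Btab_169) (Nat.ble 169 c)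
noncomputable def Btab_s_166_170 (c : Nat) : Nat := @Bool.rec (fun _ => Nat) (Btab_s_166_168 c) (Btab_s_168_170 c) (Nat.ble 168 c)
noncomputable def Btab_s_170_172 (c : Nat) : Nat := @Bool.rec (fun _ => Nat) (Btab_170) (Btab_171) (Nat.ble 171 c)
noncomputable def Btab_s_172_174 (c : Nat) : Nat := @Bool.rec (fun _ => Nat) (Btab_172) (Btab_173) (Nat.ble 173 c)
noncomputable def Btab_s_170_174 (c : Nat) : Nat := @Bool.rec (fun _ => Nat) (Btab_s_170_172 c) (Btab_s_172_174 c) (Nat.ble 172 c)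
noncomputable def Btab_s_166_174 (c : Nat) : Nat := @Bool.rec (fun _ => Nat) (Btab_s_166_170 c) (Btab_s_170_174 c) (Nat.ble 170 c)
noncomputable def Btab_s_174_176 (c : Nat) : Nat := @Bool.rec (fun _ => Nat) (Btab_174) (Btab_175) (Nat.ble 175 c)
noncomputable def Btab_s_176_178 (c : Nat) : Nat := @Bool.rec (fun _ => Nat) (Btab_176) (Btab_177) (Nat.ble 177 c)
noncomputable def Btab_s_174_178 (c : Nat) : Nat := @Bool.rec (fun _ => Nat) (Btab_s_174_176 c) (Btab_s_176_178 c) (Nat.ble 176 c)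
noncomputable def Btab_s_178_180 (c : Nat) : Nat := @Bool.rec (fun _ => Nat) (Btab_178) (Btab_179) (Nat.ble 179 c)
noncomputable def Btab_s_181_183 (c : Nat) : Nat := @Bool.rec (fun _ => Nat) (Btab_181) (Btab_182) (Nat.ble 182 c)
noncomputable def Btab_s_180_183 (c : Nat) : Nat := @Bool.rec (fun _ => Nat) (Btab_180) (Btab_s_181_183 c) (Nat.ble 181 c)
noncomputable def Btab_s_178_183 (c : Nat) : Nat := @Bool.rec (fun _ => Nat) (Btab_s_178_180 c) (Btab_s_180_183 c) (Nat.ble 180 c)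
noncomputable def Btab_s_174_183 (c : Nat) : Nat := @Bool.rec (fun _ => Nat) (Btab_s_174_178 c) (Btab_s_178_183 c) (Nat.ble 178 c)
noncomputable def Btab_s_166_183 (c : Nat) : Nat := @Bool.rec (fun _ => Nat) (Btab_s_166_174 c) (Btab_s_174_183 c) (Nat.ble 174 c)
noncomputable def Btab_s_183_185 (c : Nat) : Nat := @Bool.rec (fun _ => Nat) (Btab_183) (Btab_184) (Nat.ble 184 c)
noncomputable def Btab_s_185_187 (c : Nat) : Nat := @Bool.rec (fun _ => Nat) (Btab_185) (Btab_186) (Nat.ble 186 c)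
noncomputable def Btab_s_183_187 (c : Nat) : Nat := @Bool.rec (fun _ => Nat) (Btab_s_183_185 c) (Btab_s_185_187 c) (Nat.ble 185 c)
noncomputable def Btab_s_187_189 (c : Nat) : Nat := @Bool.rec (fun _ => Nat) (Btab_187) (Btab_188) (Nat.ble 188 c)
noncomputable def Btab_s_189_191 (c : Nat) : Nat := @Bool.rec (fun _ => Nat) (Btab_189) (Btab_190) (Nat.ble 190 c)
noncomputable def Btab_s_187_191 (c : Nat) : Nat := @Bool.rec (fun _ => Nat) (Btab_s_187_189 c) (Btab_s_189_191 c) (Nat.ble 189 c)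
noncomputable def Btab_s_183_191 (c : Nat) : Nat := @Bool.rec (fun _ => Nat) (Btab_s_183_187 c) (Btab_s_187_191 c) (Nat.ble 187 c)
noncomputable def Btab_s_191_193 (c : Nat) : Nat := @Bool.rec (fun _ => Nat) (Btab_191) (Btab_192) (Nat.ble 192 c)
noncomputable def Btab_s_193_195 (c : Nat) : Nat := @Bool.rec (fun _ => Nat) (Btab_193) (Btab_194) (Nat.ble 194 c)
noncomputable def Btab_s_191_195 (c : Nat) : Nat := @Bool.rec (fun _ => Nat) (Btab_s_191_193 c) (Btab_s_193_195 c) (Nat.ble 193 c)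
noncomputable def Btab_s_195_197 (c : Nat) : Nat := @Bool.rec (fun _ => Nat) (Btab_195) (Btab_196) (Nat.ble 196 c)
noncomputable def Btab_s_198_200 (c : Nat) : Nat := @Bool.rec (fun _ => Nat) (Btab_198) (Btab_199) (Nat.ble 199 c)
noncomputable def Btab_s_197_200 (c : Nat) : Nat := @Bool.rec (fun _ => Nat) (Btab_197) (Btab_s_198_200 c) (Nat.ble 198 c)
noncomputable def Btab_s_195_200 (c : Nat) : Nat := @Bool.rec (fun _ => Nat) (Btab_s_195_197 c) (Btab_s_197_200 c) (Nat.ble 197 c)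
noncomputable def Btab_s_191_200 (c : Nat) : Nat := @Bool.rec (fun _ => Nat) (Btab_s_191_195 c) (Btab_s_195_200 c) (Nat.ble 195 c)
noncomputable def Btab_s_183_200 (c : Nat) : Nat := @Bool.rec (fun _ => Nat) (Btab_s_183_191 c) (Btab_s_191_200 c) (Nat.ble 191 c)
noncomputable def Btab_s_166_200 (c : Nat) : Nat := @Bool.rec (fun _ => Nat) (Btab_s_166_183 c) (Btab_s_183_200 c) (Nat.ble 183 c)
noncomputable def Btab_s_133_200 (c : Nat) : Nat := @Bool.rec (fun _ => Nat) (Btab_s_133_166 c) (Btab_s_166_200 c) (Nat.ble 166 c)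
noncomputable def Btab_s_200_202 (c : Nat) : Nat := @Bool.rec (fun _ => Nat) (Btab_200) (Btab_201) (Nat.ble 201 c)
noncomputable def Btab_s_202_204 (c : Nat) : Nat := @Bool.rec (fun _ => Nat) (Btab_202) (Btab_203) (Nat.ble 203 c)
noncomputable def Btab_s_200_204 (c : Nat) : Nat := @Bool.rec (fun _ => Nat) (Btab_s_200_202 c) (Btab_s_202_204 c) (Nat.ble 202 c)
noncomputable def Btab_s_204_206 (c : Nat) : Nat := @Bool.rec (fun _ => Nat) (Btab_204) (Btab_205) (Nat.ble 205 c)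
noncomputable def Btab_s_206_208 (c : Nat) : Nat := @Bool.rec (fun _ => Nat) (Btab_206) (Btab_207) (Nat.ble 207 c)
noncomputable def Btab_s_204_208 (c : Nat) : Nat := @Bool.rec (fun _ => Nat) (Btab_s_204_206 c) (Btab_s_206_208 c) (Nat.ble 206 c)
noncomputable def Btab_s_200_208 (c : Nat) : Nat := @Bool.rec (fun _ => Nat) (Btab_s_200_204 c) (Btab_s_204_208 c) (Nat.ble 204 c)
noncomputable def Btab_s_208_210 (c : Nat) : Nat := @Bool.rec (fun _ => Nat) (Btab_208) (Btab_209) (Nat.ble 209 c)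
noncomputable def Btab_s_210_212 (c : Nat) : Nat := @Bool.rec (fun _ => Nat) (Btab_210) (Btab_211) (Nat.ble 211 c)
noncomputable def Btab_s_208_212 (c : Nat) : Nat := @Bool.rec (fun _ => Nat) (Btab_s_208_210 c) (Btab_s_210_212 c) (Nat.ble 210 c)
noncomputable def Btab_s_212_214 (c : Nat) : Nat := @Bool.rec (fun _ => Nat) (Btab_212) (Btab_213) (Nat.ble 213 c)
noncomputable def Btab_s_214_216 (c : Nat) : Nat := @Bool.rec (fun _ => Nat) (Btab_214) (Btab_215) (Nat.ble 215 c)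
noncomputable def Btab_s_212_216 (c : Nat) : Nat := @Bool.rec (fun _ => Nat) (Btab_s_212_214 c) (Btab_s_214_216 c) (Nat.ble 214 c)
noncomputable def Btab_s_208_216 (c : Nat) : Nat := @Bool.rec (fun _ => Nat) (Btab_s_208_212 c) (Btab_s_212_216 c) (Nat.ble 212 c)
noncomputable def Btab_s_200_216 (c : Nat) : Nat := @Bool.rec (fun _ => Nat) (Btab_s_200_208 c) (Btab_s_208_216 c) (Nat.ble 208 c)
noncomputable def Btab_s_216_218 (c : Nat) : Nat := @Bool.rec (fun _ => Nat) (Btab_216) (Btab_217) (Nat.ble 217 c)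
noncomputable def Btab_s_218_220 (c : Nat) : Nat := @Bool.rec (fun _ => Nat) (Btab_218) (Btab_219) (Nat.ble 219 c)
noncomputable def Btab_s_216_220 (c : Nat) : Nat := @Bool.rec (fun _ => Nat) (Btab_s_216_218 c) (Btab_s_218_220 c) (Nat.ble 218 c)
noncomputable def Btab_s_220_222 (c : Nat) : Nat := @Bool.rec (fun _ => Nat) (Btab_220) (Btab_221) (Nat.ble 221 c)
noncomputable def Btab_s_222_224 (c : Nat) : Nat := @Bool.rec (fun _ => Nat) (Btab_222) (Btab_223) (Nat.ble 223 c)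
noncomputable def Btab_s_220_224 (c : Nat) : Nat := @Bool.rec (fun _ => Nat) (Btab_s_220_222 c) (Btab_s_222_224 c) (Nat.ble 222 c)
noncomputable def Btab_s_216_224 (c : Nat) : Nat := @Bool.rec (fun _ => Nat) (Btab_s_216_220 c) (Btab_s_220_224 c) (Nat.ble 220 c)
noncomputable def Btab_s_224_226 (c : Nat) : Nat := @Bool.rec (fun _ => Nat) (Btab_224) (Btab_225) (Nat.ble 225 c)
noncomputable def Btab_s_226_228 (c : Nat) : Nat := @Bool.rec (fun _ => Nat) (Btab_226) (Btab_227) (Nat.ble 227 c)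
noncomputable def Btab_s_224_228 (c : Nat) : Nat := @Bool.rec (fun _ => Nat) (Btab_s_224_226 c) (Btab_s_226_228 c) (Nat.ble 226 c)
noncomputable def Btab_s_228_230 (c : Nat) : Nat := @Bool.rec (fun _ => Nat) (Btab_228) (Btab_229) (Nat.ble 229 c)
noncomputable def Btab_s_231_233 (c : Nat) : Nat := @Bool.rec (fun _ => Nat) (Btab_231) (Btab_232) (Nat.ble 232 c)
noncomputable def Btab_s_230_233 (c : Nat) : Nat := @Bool.rec (fun _ => Nat) (Btab_230) (Btab_s_231_233 c) (Nat.ble 231 c)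
noncomputable def Btab_s_228_233 (c : Nat) : Nat := @Bool.rec (fun _ => Nat) (Btab_s_228_230 c) (Btab_s_230_233 c) (Nat.ble 230 c)
noncomputable def Btab_s_224_233 (c : Nat) : Nat := @Bool.rec (fun _ => Nat) (Btab_s_224_228 c) (Btab_s_228_233 c) (Nat.ble 228 c)
noncomputable def Btab_s_216_233 (c : Nat) : Nat := @Bool.rec (fun _ => Nat) (Btab_s_216_224 c) (Btab_s_224_233 c) (Nat.ble 224 c)
noncomputable def Btab_s_200_233 (c : Nat) : Nat := @Bool.rec (fun _ => Nat) (Btab_s_200_216 c) (Btab_s_216_233 c) (Nat.ble 216 c)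
noncomputable def Btab_s_233_235 (c : Nat) : Nat := @Bool.rec (fun _ => Nat) (Btab_233) (Btab_234) (Nat.ble 234 c)
noncomputable def Btab_s_235_237 (c : Nat) : Nat := @Bool.rec (fun _ => Nat) (Btab_235) (Btab_236) (Nat.ble 236 c)
noncomputable def Btab_s_233_237 (c : Nat) : Nat := @Bool.rec (fun _ => Nat) (Btab_s_233_235 c) (Btab_s_235_237 c) (Nat.ble 235 c)
noncomputable def Btab_s_237_239 (c : Nat) : Nat := @Bool.rec (fun _ => Nat) (Btab_237) (Btab_238) (Nat.ble 238 c)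
noncomputable def Btab_s_239_241 (c : Nat) : Nat := @Bool.rec (fun _ => Nat) (Btab_239) (Btab_240) (Nat.ble 240 c)
noncomputable def Btab_s_237_241 (c : Nat) : Nat := @Bool.rec (fun _ => Nat) (Btab_s_237_239 c) (Btab_s_239_241 c) (Nat.ble 239 c)
noncomputable def Btab_s_233_241 (c : Nat) : Nat := @Bool.rec (fun _ => Nat) (Btab_s_233_237 c) (Btab_s_237_241 c) (Nat.ble 237 c)
noncomputable def Btab_s_241_243 (c : Nat) : Nat := @Bool.rec (fun _ => Nat) (Btab_241) (Btab_242) (Nat.ble 242 c)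
noncomputable def Btab_s_243_245 (c : Nat) : Nat := @Bool.rec (fun _ => Nat) (Btab_243) (Btab_244) (Nat.ble 244 c)
noncomputable def Btab_s_241_245 (c : Nat) : Nat := @Bool.rec (fun _ => Nat) (Btab_s_241_243 c) (Btab_s_243_245 c) (Nat.ble 243 c)
noncomputable def Btab_s_245_247 (c : Nat) : Nat := @Bool.rec (fun _ => Nat) (Btab_245) (Btab_246) (Nat.ble 246 c)
noncomputable def Btab_s_248_250 (c : Nat) : Nat := @Bool.rec (fun _ => Nat) (Btab_248) (Btab_249) (Nat.ble 249 c)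
noncomputable def Btab_s_247_250 (c : Nat) : Nat := @Bool.rec (fun _ => Nat) (Btab_247) (Btab_s_248_250 c) (Nat.ble 248 c)
noncomputable def Btab_s_245_250 (c : Nat) : Nat := @Bool.rec (fun _ => Nat) (Btab_s_245_247 c) (Btab_s_247_250 c) (Nat.ble 247 c)
noncomputable def Btab_s_241_250 (c : Nat) : Nat := @Bool.rec (fun _ => Nat) (Btab_s_241_245 c) (Btab_s_245_250 c) (Nat.ble 245 c)
noncomputable def Btab_s_233_250 (c : Nat) : Nat := @Bool.rec (fun _ => Nat) (Btab_s_233_241 c) (Btab_s_241_250 c) (Nat.ble 241 c)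
noncomputable def Btab_s_250_252 (c : Nat) : Nat := @Bool.rec (fun _ => Nat) (Btab_250) (Btab_251) (Nat.ble 251 c)
noncomputable def Btab_s_252_254 (c : Nat) : Nat := @Bool.rec (fun _ => Nat) (Btab_252) (Btab_253) (Nat.ble 253 c)
noncomputable def Btab_s_250_254 (c : Nat) : Nat := @Bool.rec (fun _ => Nat) (Btab_s_250_252 c) (Btab_s_252_254 c) (Nat.ble 252 c)
noncomputable def Btab_s_254_256 (c : Nat) : Nat := @Bool.rec (fun _ => Nat) (Btab_254) (Btab_255) (Nat.ble 255 c)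
noncomputable def Btab_s_256_258 (c : Nat) : Nat := @Bool.rec (fun _ => Nat) (Btab_256) (Btab_257) (Nat.ble 257 c)
noncomputable def Btab_s_254_258 (c : Nat) : Nat := @Bool.rec (fun _ => Nat) (Btab_s_254_256 c) (Btab_s_256_258 c) (Nat.ble 256 c)
noncomputable def Btab_s_250_258 (c : Nat) : Nat := @Bool.rec (fun _ => Nat) (Btab_s_250_254 c) (Btab_s_254_258 c) (Nat.ble 254 c)
noncomputable def Btab_s_258_260 (c : Nat) : Nat := @Bool.rec (fun _ => Nat) (Btab_258) (Btab_259) (Nat.ble 259 c)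
noncomputable def Btab_s_260_262 (c : Nat) : Nat := @Bool.rec (fun _ => Nat) (Btab_260) (Btab_261) (Nat.ble 261 c)
noncomputable def Btab_s_258_262 (c : Nat) : Nat := @Bool.rec (fun _ => Nat) (Btab_s_258_260 c) (Btab_s_260_262 c) (Nat.ble 260 c)
noncomputable def Btab_s_262_264 (c : Nat) : Nat := @Bool.rec (fun _ => Nat) (Btab_262) (Btab_263) (Nat.ble 263 c)
noncomputable def Btab_s_265_267 (c : Nat) : Nat := @Bool.rec (fun _ => Nat) (Btab_265) (Btab_266) (Nat.ble 266 c)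
noncomputable def Btab_s_264_267 (c : Nat) : Nat := @Bool.rec (fun _ => Nat) (Btab_264) (Btab_s_265_267 c) (Nat.ble 265 c)
noncomputable def Btab_s_262_267 (c : Nat) : Nat := @Bool.rec (fun _ => Nat) (Btab_s_262_264 c) (Btab_s_264_267 c) (Nat.ble 264 c)
noncomputable def Btab_s_258_267 (c : Nat) : Nat := @Bool.rec (fun _ => Nat) (Btab_s_258_262 c) (Btab_s_262_267 c) (Nat.ble 262 c)
noncomputable def Btab_s_250_267 (c : Nat) : Nat := @Bool.rec (fun _ => Nat) (Btab_s_250_258 c) (Btab_s_258_267 c) (Nat.ble 258 c)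
noncomputable def Btab_s_233_267 (c : Nat) : Nat := @Bool.rec (fun _ => Nat) (Btab_s_233_250 c) (Btab_s_250_267 c) (Nat.ble 250 c)
noncomputable def Btab_s_200_267 (c : Nat) : Nat := @Bool.rec (fun _ => Nat) (Btab_s_200_233 c) (Btab_s_233_267 c) (Nat.ble 233 c)
noncomputable def Btab_s_133_267 (c : Nat) : Nat := @Bool.rec (fun _ => Nat) (Btab_s_133_200 c) (Btab_s_200_267 c) (Nat.ble 200 c)
noncomputable def Btab_s_0_267 (c : Nat) : Nat := @Bool.rec (fun _ => Nat) (Btab_s_0_133 c) (Btab_s_133_267 c) (Nat.ble 133 c)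
noncomputable def Btab (i : Nat) : Nat := rdw 38 274877906943 (Btab_s_0_267 (Nat.shiftRight i 11)) (Nat.land i 2047)
noncomputable def Ptab_s_1_3 (c : Nat) : Nat := @Bool.rec (fun _ => Nat) (Ptab_1) (Ptab_2) (Nat.ble 2 c)
noncomputable def Ptab_s_0_3 (c : Nat) : Nat := @Bool.rec (fun _ => Nat) (Ptab_0) (Ptab_s_1_3 c) (Nat.ble 1 c)
noncomputable def Ptab_s_3_5 (c : Nat) : Nat := @Bool.rec (fun _ => Nat) (Ptab_3) (Ptab_4) (Nat.ble 4 c)
noncomputable def Ptab_s_5_7 (c : Nat) : Nat := @Bool.rec (fun _ => Nat) (Ptab_5) (Ptab_6) (Nat.ble 6 c)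
noncomputable def Ptab_s_3_7 (c : Nat) : Nat := @Bool.rec (fun _ => Nat) (Ptab_s_3_5 c) (Ptab_s_5_7 c) (Nat.ble 5 c)
noncomputable def Ptab_s_0_7 (c : Nat) : Nat := @Bool.rec (fun _ => Nat) (Ptab_s_0_3 c) (Ptab_s_3_7 c) (Nat.ble 3 c)
noncomputable def Ptab_s_8_10 (c : Nat) : Nat := @Bool.rec (fun _ => Nat) (Ptab_8) (Ptab_9) (Nat.ble 9 c)
noncomputable def Ptab_s_7_10 (c : Nat) : Nat := @Bool.rec (fun _ => Nat) (Ptab_7) (Ptab_s_8_10 c) (Nat.ble 8 c)
noncomputable def Ptab_s_10_12 (c : Nat) : Nat := @Bool.rec (fun _ => Nat) (Ptab_10) (Ptab_11) (Nat.ble 11 c)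
noncomputable def Ptab_s_12_14 (c : Nat) : Nat := @Bool.rec (fun _ => Nat) (Ptab_12) (Ptab_13) (Nat.ble 13 c)
noncomputable def Ptab_s_10_14 (c : Nat) : Nat := @Bool.rec (fun _ => Nat) (Ptab_s_10_12 c) (Ptab_s_12_14 c) (Nat.ble 12 c)
noncomputable def Ptab_s_7_14 (c : Nat) : Nat := @Bool.rec (fun _ => Nat) (Ptab_s_7_10 c) (Ptab_s_10_14 c) (Nat.ble 10 c)
noncomputable def Ptab_s_0_14 (c : Nat) : Nat := @Bool.rec (fun _ => Nat) (Ptab_s_0_7 c) (Ptab_s_7_14 c) (Nat.ble 7 c)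
noncomputable def Ptab_s_15_17 (c : Nat) : Nat := @Bool.rec (fun _ => Nat) (Ptab_15) (Ptab_16) (Nat.ble 16 c)
noncomputable def Ptab_s_14_17 (c : Nat) : Nat := @Bool.rec (fun _ => Nat) (Ptab_14) (Ptab_s_15_17 c) (Nat.ble 15 c)
noncomputable def Ptab_s_17_19 (c : Nat) : Nat := @Bool.rec (fun _ => Nat) (Ptab_17) (Ptab_18) (Nat.ble 18 c)
noncomputable def Ptab_s_19_21 (c : Nat) : Nat := @Bool.rec (fun _ => Nat) (Ptab_19) (Ptab_20) (Nat.ble 20 c)
noncomputable def Ptab_s_17_21 (c : Nat) : Nat := @Bool.rec (fun _ => Nat) (Ptab_s_17_19 c) (Ptab_s_19_21 c) (Nat.ble 19 c)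
noncomputable def Ptab_s_14_21 (c : Nat) : Nat := @Bool.rec (fun _ => Nat) (Ptab_s_14_17 c) (Ptab_s_17_21 c) (Nat.ble 17 c)
noncomputable def Ptab_s_22_24 (c : Nat) : Nat := @Bool.rec (fun _ => Nat) (Ptab_22) (Ptab_23) (Nat.ble 23 c)
noncomputable def Ptab_s_21_24 (c : Nat) : Nat := @Bool.rec (fun _ => Nat) (Ptab_21) (Ptab_s_22_24 c) (Nat.ble 22 c)
noncomputable def Ptab_s_24_26 (c : Nat) : Nat := @Bool.rec (fun _ => Nat) (Ptab_24) (Ptab_25) (Nat.ble 25 c)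
noncomputable def Ptab_s_26_28 (c : Nat) : Nat := @Bool.rec (fun _ => Nat) (Ptab_26) (Ptab_27) (Nat.ble 27 c)
noncomputable def Ptab_s_24_28 (c : Nat) : Nat := @Bool.rec (fun _ => Nat) (Ptab_s_24_26 c) (Ptab_s_26_28 c) (Nat.ble 26 c)
noncomputable def Ptab_s_21_28 (c : Nat) : Nat := @Bool.rec (fun _ => Nat) (Ptab_s_21_24 c) (Ptab_s_24_28 c) (Nat.ble 24 c)
noncomputable def Ptab_s_14_28 (c : Nat) : Nat := @Bool.rec (fun _ => Nat) (Ptab_s_14_21 c) (Ptab_s_21_28 c) (Nat.ble 21 c)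
noncomputable def Ptab_s_0_28 (c : Nat) : Nat := @Bool.rec (fun _ => Nat) (Ptab_s_0_14 c) (Ptab_s_14_28 c) (Nat.ble 14 c)
noncomputable def Ptab_s_29_31 (c : Nat) : Nat := @Bool.rec (fun _ => Nat) (Ptab_29) (Ptab_30) (Nat.ble 30 c)
noncomputable def Ptab_s_28_31 (c : Nat) : Nat := @Bool.rec (fun _ => Nat) (Ptab_28) (Ptab_s_29_31 c) (Nat.ble 29 c)
noncomputable def Ptab_s_31_33 (c : Nat) : Nat := @Bool.rec (fun _ => Nat) (Ptab_31) (Ptab_32) (Nat.ble 32 c)
noncomputable def Ptab_s_33_35 (c : Nat) : Nat := @Bool.rec (fun _ => Nat) (Ptab_33) (Ptab_34) (Nat.ble 34 c)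
noncomputable def Ptab_s_31_35 (c : Nat) : Nat := @Bool.rec (fun _ => Nat) (Ptab_s_31_33 c) (Ptab_s_33_35 c) (Nat.ble 33 c)
noncomputable def Ptab_s_28_35 (c : Nat) : Nat := @Bool.rec (fun _ => Nat) (Ptab_s_28_31 c) (Ptab_s_31_35 c) (Nat.ble 31 c)
noncomputable def Ptab_s_36_38 (c : Nat) : Nat := @Bool.rec (fun _ => Nat) (Ptab_36) (Ptab_37) (Nat.ble 37 c)
noncomputable def Ptab_s_35_38 (c : Nat) : Nat := @Bool.rec (fun _ => Nat) (Ptab_35) (Ptab_s_36_38 c) (Nat.ble 36 c)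
noncomputable def Ptab_s_38_40 (c : Nat) : Nat := @Bool.rec (fun _ => Nat) (Ptab_38) (Ptab_39) (Nat.ble 39 c)
noncomputable def Ptab_s_40_42 (c : Nat) : Nat := @Bool.rec (fun _ => Nat) (Ptab_40) (Ptab_41) (Nat.ble 41 c)
noncomputable def Ptab_s_38_42 (c : Nat) : Nat := @Bool.rec (fun _ => Nat) (Ptab_s_38_40 c) (Ptab_s_40_42 c) (Nat.ble 40 c)
noncomputable def Ptab_s_35_42 (c : Nat) : Nat := @Bool.rec (fun _ => Nat) (Ptab_s_35_38 c) (Ptab_s_38_42 c) (Nat.ble 38 c)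
noncomputable def Ptab_s_28_42 (c : Nat) : Nat := @Bool.rec (fun _ => Nat) (Ptab_s_28_35 c) (Ptab_s_35_42 c) (Nat.ble 35 c)
noncomputable def Ptab_s_43_45 (c : Nat) : Nat := @Bool.rec (fun _ => Nat) (Ptab_43) (Ptab_44) (Nat.ble 44 c)
noncomputable def Ptab_s_42_45 (c : Nat) : Nat := @Bool.rec (fun _ => Nat) (Ptab_42) (Ptab_s_43_45 c) (Nat.ble 43 c)
noncomputable def Ptab_s_45_47 (c : Nat) : Nat := @Bool.rec (fun _ => Nat) (Ptab_45) (Ptab_46) (Nat.ble 46 c)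
noncomputable def Ptab_s_47_49 (c : Nat) : Nat := @Bool.rec (fun _ => Nat) (Ptab_47) (Ptab_48) (Nat.ble 48 c)
noncomputable def Ptab_s_45_49 (c : Nat) : Nat := @Bool.rec (fun _ => Nat) (Ptab_s_45_47 c) (Ptab_s_47_49 c) (Nat.ble 47 c)
noncomputable def Ptab_s_42_49 (c : Nat) : Nat := @Bool.rec (fun _ => Nat) (Ptab_s_42_45 c) (Ptab_s_45_49 c) (Nat.ble 45 c)
noncomputable def Ptab_s_50_52 (c : Nat) : Nat := @Bool.rec (fun _ => Nat) (Ptab_50) (Ptab_51) (Nat.ble 51 c)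
noncomputable def Ptab_s_49_52 (c : Nat) : Nat := @Bool.rec (fun _ => Nat) (Ptab_49) (Ptab_s_50_52 c) (Nat.ble 50 c)
noncomputable def Ptab_s_52_54 (c : Nat) : Nat := @Bool.rec (fun _ => Nat) (Ptab_52) (Ptab_53) (Nat.ble 53 c)
noncomputable def Ptab_s_54_56 (c : Nat) : Nat := @Bool.rec (fun _ => Nat) (Ptab_54) (Ptab_55) (Nat.ble 55 c)
noncomputable def Ptab_s_52_56 (c : Nat) : Nat := @Bool.rec (fun _ => Nat) (Ptab_s_52_54 c) (Ptab_s_54_56 c) (Nat.ble 54 c)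
noncomputable def Ptab_s_49_56 (c : Nat) : Nat := @Bool.rec (fun _ => Nat) (Ptab_s_49_52 c) (Ptab_s_52_56 c) (Nat.ble 52 c)
noncomputable def Ptab_s_42_56 (c : Nat) : Nat := @Bool.rec (fun _ => Nat) (Ptab_s_42_49 c) (Ptab_s_49_56 c) (Nat.ble 49 c)
noncomputable def Ptab_s_28_56 (c : Nat) : Nat := @Bool.rec (fun _ => Nat) (Ptab_s_28_42 c) (Ptab_s_42_56 c) (Nat.ble 42 c)
noncomputable def Ptab_s_0_56 (c : Nat) : Nat := @Bool.rec (fun _ => Nat) (Ptab_s_0_28 c) (Ptab_s_28_56 c) (Nat.ble 28 c)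
noncomputable def Ptab_s_57_59 (c : Nat) : Nat := @Bool.rec (fun _ => Nat) (Ptab_57) (Ptab_58) (Nat.ble 58 c)
noncomputable def Ptab_s_56_59 (c : Nat) : Nat := @Bool.rec (fun _ => Nat) (Ptab_56) (Ptab_s_57_59 c) (Nat.ble 57 c)
noncomputable def Ptab_s_59_61 (c : Nat) : Nat := @Bool.rec (fun _ => Nat) (Ptab_59) (Ptab_60) (Nat.ble 60 c)
noncomputable def Ptab_s_61_63 (c : Nat) : Nat := @Bool.rec (fun _ => Nat) (Ptab_61) (Ptab_62) (Nat.ble 62 c)
noncomputable def Ptab_s_59_63 (c : Nat) : Nat := @Bool.rec (fun _ => Nat) (Ptab_s_59_61 c) (Ptab_s_61_63 c) (Nat.ble 61 c)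
noncomputable def Ptab_s_56_63 (c : Nat) : Nat := @Bool.rec (fun _ => Nat) (Ptab_s_56_59 c) (Ptab_s_59_63 c) (Nat.ble 59 c)
noncomputable def Ptab_s_64_66 (c : Nat) : Nat := @Bool.rec (fun _ => Nat) (Ptab_64) (Ptab_65) (Nat.ble 65 c)
noncomputable def Ptab_s_63_66 (c : Nat) : Nat := @Bool.rec (fun _ => Nat) (Ptab_63) (Ptab_s_64_66 c) (Nat.ble 64 c)
noncomputable def Ptab_s_66_68 (c : Nat) : Nat := @Bool.rec (fun _ => Nat) (Ptab_66) (Ptab_67) (Nat.ble 67 c)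
noncomputable def Ptab_s_68_70 (c : Nat) : Nat := @Bool.rec (fun _ => Nat) (Ptab_68) (Ptab_69) (Nat.ble 69 c)
noncomputable def Ptab_s_66_70 (c : Nat) : Nat := @Bool.rec (fun _ => Nat) (Ptab_s_66_68 c) (Ptab_s_68_70 c) (Nat.ble 68 c)
noncomputable def Ptab_s_63_70 (c : Nat) : Nat := @Bool.rec (fun _ => Nat) (Ptab_s_63_66 c) (Ptab_s_66_70 c) (Nat.ble 66 c)
noncomputable def Ptab_s_56_70 (c : Nat) : Nat := @Bool.rec (fun _ => Nat) (Ptab_s_56_63 c) (Ptab_s_63_70 c) (Nat.ble 63 c)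
noncomputable def Ptab_s_71_73 (c : Nat) : Nat := @Bool.rec (fun _ => Nat) (Ptab_71) (Ptab_72) (Nat.ble 72 c)
noncomputable def Ptab_s_70_73 (c : Nat) : Nat := @Bool.rec (fun _ => Nat) (Ptab_70) (Ptab_s_71_73 c) (Nat.ble 71 c)
noncomputable def Ptab_s_73_75 (c : Nat) : Nat := @Bool.rec (fun _ => Nat) (Ptab_73) (Ptab_74) (Nat.ble 74 c)
noncomputable def Ptab_s_75_77 (c : Nat) : Nat := @Bool.rec (fun _ => Nat) (Ptab_75) (Ptab_76) (Nat.ble 76 c)
noncomputable def Ptab_s_73_77 (c : Nat) : Nat := @Bool.rec (fun _ => Nat) (Ptab_s_73_75 c) (Ptab_s_75_77 c) (Nat.ble 75 c)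
noncomputable def Ptab_s_70_77 (c : Nat) : Nat := @Bool.rec (fun _ => Nat) (Ptab_s_70_73 c) (Ptab_s_73_77 c) (Nat.ble 73 c)
noncomputable def Ptab_s_78_80 (c : Nat) : Nat := @Bool.rec (fun _ => Nat) (Ptab_78) (Ptab_79) (Nat.ble 79 c)
noncomputable def Ptab_s_77_80 (c : Nat) : Nat := @Bool.rec (fun _ => Nat) (Ptab_77) (Ptab_s_78_80 c) (Nat.ble 78 c)
noncomputable def Ptab_s_80_82 (c : Nat) : Nat := @Bool.rec (fun _ => Nat) (Ptab_80) (Ptab_81) (Nat.ble 81 c)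
noncomputable def Ptab_s_82_84 (c : Nat) : Nat := @Bool.rec (fun _ => Nat) (Ptab_82) (Ptab_83) (Nat.ble 83 c)
noncomputable def Ptab_s_80_84 (c : Nat) : Nat := @Bool.rec (fun _ => Nat) (Ptab_s_80_82 c) (Ptab_s_82_84 c) (Nat.ble 82 c)
noncomputable def Ptab_s_77_84 (c : Nat) : Nat := @Bool.rec (fun _ => Nat) (Ptab_s_77_80 c) (Ptab_s_80_84 c) (Nat.ble 80 c)
noncomputable def Ptab_s_70_84 (c : Nat) : Nat := @Bool.rec (fun _ => Nat) (Ptab_s_70_77 c) (Ptab_s_77_84 c) (Nat.ble 77 c)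
noncomputable def Ptab_s_56_84 (c : Nat) : Nat := @Bool.rec (fun _ => Nat) (Ptab_s_56_70 c) (Ptab_s_70_84 c) (Nat.ble 70 c)
noncomputable def Ptab_s_85_87 (c : Nat) : Nat := @Bool.rec (fun _ => Nat) (Ptab_85) (Ptab_86) (Nat.ble 86 c)
noncomputable def Ptab_s_84_87 (c : Nat) : Nat := @Bool.rec (fun _ => Nat) (Ptab_84) (Ptab_s_85_87 c) (Nat.ble 85 c)
noncomputable def Ptab_s_87_89 (c : Nat) : Nat := @Bool.rec (fun _ => Nat) (Ptab_87) (Ptab_88) (Nat.ble 88 c)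
noncomputable def Ptab_s_89_91 (c : Nat) : Nat := @Bool.rec (fun _ => Nat) (Ptab_89) (Ptab_90) (Nat.ble 90 c)
noncomputable def Ptab_s_87_91 (c : Nat) : Nat := @Bool.rec (fun _ => Nat) (Ptab_s_87_89 c) (Ptab_s_89_91 c) (Nat.ble 89 c)
noncomputable def Ptab_s_84_91 (c : Nat) : Nat := @Bool.rec (fun _ => Nat) (Ptab_s_84_87 c) (Ptab_s_87_91 c) (Nat.ble 87 c)
noncomputable def Ptab_s_92_94 (c : Nat) : Nat := @Bool.rec (fun _ => Nat) (Ptab_92) (Ptab_93) (Nat.ble 93 c)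
noncomputable def Ptab_s_91_94 (c : Nat) : Nat := @Bool.rec (fun _ => Nat) (Ptab_91) (Ptab_s_92_94 c) (Nat.ble 92 c)
noncomputable def Ptab_s_94_96 (c : Nat) : Nat := @Bool.rec (fun _ => Nat) (Ptab_94) (Ptab_95) (Nat.ble 95 c)
noncomputable def Ptab_s_96_98 (c : Nat) : Nat := @Bool.rec (fun _ => Nat) (Ptab_96) (Ptab_97) (Nat.ble 97 c)
noncomputable def Ptab_s_94_98 (c : Nat) : Nat := @Bool.rec (fun _ => Nat) (Ptab_s_94_96 c) (Ptab_s_96_98 c) (Nat.ble 96 c)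
noncomputable def Ptab_s_91_98 (c : Nat) : Nat := @Bool.rec (fun _ => Nat) (Ptab_s_91_94 c) (Ptab_s_94_98 c) (Nat.ble 94 c)
noncomputable def Ptab_s_84_98 (c : Nat) : Nat := @Bool.rec (fun _ => Nat) (Ptab_s_84_91 c) (Ptab_s_91_98 c) (Nat.ble 91 c)
noncomputable def Ptab_s_99_101 (c : Nat) : Nat := @Bool.rec (fun _ => Nat) (Ptab_99) (Ptab_100) (Nat.ble 100 c)
noncomputable def Ptab_s_98_101 (c : Nat) : Nat := @Bool.rec (fun _ => Nat) (Ptab_98) (Ptab_s_99_101 c) (Nat.ble 99 c)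
noncomputable def Ptab_s_101_103 (c : Nat) : Nat := @Bool.rec (fun _ => Nat) (Ptab_101) (Ptab_102) (Nat.ble 102 c)
noncomputable def Ptab_s_103_105 (c : Nat) : Nat := @Bool.rec (fun _ => Nat) (Ptab_103) (Ptab_104) (Nat.ble 104 c)
noncomputable def Ptab_s_101_105 (c : Nat) : Nat := @Bool.rec (fun _ => Nat) (Ptab_s_101_103 c) (Ptab_s_103_105 c) (Nat.ble 103 c)
noncomputable def Ptab_s_98_105 (c : Nat) : Nat := @Bool.rec (fun _ => Nat) (Ptab_s_98_101 c) (Ptab_s_101_105 c) (Nat.ble 101 c)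
noncomputable def Ptab_s_105_107 (c : Nat) : Nat := @Bool.rec (fun _ => Nat) (Ptab_105) (Ptab_106) (Nat.ble 106 c)
noncomputable def Ptab_s_107_109 (c : Nat) : Nat := @Bool.rec (fun _ => Nat) (Ptab_107) (Ptab_108) (Nat.ble 108 c)
noncomputable def Ptab_s_105_109 (c : Nat) : Nat := @Bool.rec (fun _ => Nat) (Ptab_s_105_107 c) (Ptab_s_107_109 c) (Nat.ble 107 c)
noncomputable def Ptab_s_109_111 (c : Nat) : Nat := @Bool.rec (fun _ => Nat) (Ptab_109) (Ptab_110) (Nat.ble 110 c)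
noncomputable def Ptab_s_111_113 (c : Nat) : Nat := @Bool.rec (fun _ => Nat) (Ptab_111) (Ptab_112) (Nat.ble 112 c)
noncomputable def Ptab_s_109_113 (c : Nat) : Nat := @Bool.rec (fun _ => Nat) (Ptab_s_109_111 c) (Ptab_s_111_113 c) (Nat.ble 111 c)
noncomputable def Ptab_s_105_113 (c : Nat) : Nat := @Bool.rec (fun _ => Nat) (Ptab_s_105_109 c) (Ptab_s_109_113 c) (Nat.ble 109 c)
noncomputable def Ptab_s_98_113 (c : Nat) : Nat := @Bool.rec (fun _ => Nat) (Ptab_s_98_105 c) (Ptab_s_105_113 c) (Nat.ble 105 c)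
noncomputable def Ptab_s_84_113 (c : Nat) : Nat := @Bool.rec (fun _ => Nat) (Ptab_s_84_98 c) (Ptab_s_98_113 c) (Nat.ble 98 c)
noncomputable def Ptab_s_56_113 (c : Nat) : Nat := @Bool.rec (fun _ => Nat) (Ptab_s_56_84 c) (Ptab_s_84_113 c) (Nat.ble 84 c)
noncomputable def Ptab_s_0_113 (c : Nat) : Nat := @Bool.rec (fun _ => Nat) (Ptab_s_0_56 c) (Ptab_s_56_113 c) (Nat.ble 56 c)
noncomputable def Ptab_s_114_116 (c : Nat) : Nat := @Bool.rec (fun _ => Nat) (Ptab_114) (Ptab_115) (Nat.ble 115 c)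
noncomputable def Ptab_s_113_116 (c : Nat) : Nat := @Bool.rec (fun _ => Nat) (Ptab_113) (Ptab_s_114_116 c) (Nat.ble 114 c)
noncomputable def Ptab_s_116_118 (c : Nat) : Nat := @Bool.rec (fun _ => Nat) (Ptab_116) (Ptab_117) (Nat.ble 117 c)
noncomputable def Ptab_s_118_120 (c : Nat) : Nat := @Bool.rec (fun _ => Nat) (Ptab_118) (Ptab_119) (Nat.ble 119 c)
noncomputable def Ptab_s_116_120 (c : Nat) : Nat := @Bool.rec (fun _ => Nat) (Ptab_s_116_118 c) (Ptab_s_118_120 c) (Nat.ble 118 c)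
noncomputable def Ptab_s_113_120 (c : Nat) : Nat := @Bool.rec (fun _ => Nat) (Ptab_s_113_116 c) (Ptab_s_116_120 c) (Nat.ble 116 c)
noncomputable def Ptab_s_121_123 (c : Nat) : Nat := @Bool.rec (fun _ => Nat) (Ptab_121) (Ptab_122) (Nat.ble 122 c)
noncomputable def Ptab_s_120_123 (c : Nat) : Nat := @Bool.rec (fun _ => Nat) (Ptab_120) (Ptab_s_121_123 c) (Nat.ble 121 c)
noncomputable def Ptab_s_123_125 (c : Nat) : Nat := @Bool.rec (fun _ => Nat) (Ptab_123) (Ptab_124) (Nat.ble 124 c)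
noncomputable def Ptab_s_125_127 (c : Nat) : Nat := @Bool.rec (fun _ => Nat) (Ptab_125) (Ptab_126) (Nat.ble 126 c)
noncomputable def Ptab_s_123_127 (c : Nat) : Nat := @Bool.rec (fun _ => Nat) (Ptab_s_123_125 c) (Ptab_s_125_127 c) (Nat.ble 125 c)
noncomputable def Ptab_s_120_127 (c : Nat) : Nat := @Bool.rec (fun _ => Nat) (Ptab_s_120_123 c) (Ptab_s_123_127 c) (Nat.ble 123 c)
noncomputable def Ptab_s_113_127 (c : Nat) : Nat := @Bool.rec (fun _ => Nat) (Ptab_s_113_120 c) (Ptab_s_120_127 c) (Nat.ble 120 c)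
noncomputable def Ptab_s_128_130 (c : Nat) : Nat := @Bool.rec (fun _ => Nat) (Ptab_128) (Ptab_129) (Nat.ble 129 c)
noncomputable def Ptab_s_127_130 (c : Nat) : Nat := @Bool.rec (fun _ => Nat) (Ptab_127) (Ptab_s_128_130 c) (Nat.ble 128 c)
noncomputable def Ptab_s_130_132 (c : Nat) : Nat := @Bool.rec (fun _ => Nat) (Ptab_130) (Ptab_131) (Nat.ble 131 c)
noncomputable def Ptab_s_132_134 (c : Nat) : Nat := @Bool.rec (fun _ => Nat) (Ptab_132) (Ptab_133) (Nat.ble 133 c)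
noncomputable def Ptab_s_130_134 (c : Nat) : Nat := @Bool.rec (fun _ => Nat) (Ptab_s_130_132 c) (Ptab_s_132_134 c) (Nat.ble 132 c)
noncomputable def Ptab_s_127_134 (c : Nat) : Nat := @Bool.rec (fun _ => Nat) (Ptab_s_127_130 c) (Ptab_s_130_134 c) (Nat.ble 130 c)
noncomputable def Ptab_s_135_137 (c : Nat) : Nat := @Bool.rec (fun _ => Nat) (Ptab_135) (Ptab_136) (Nat.ble 136 c)
noncomputable def Ptab_s_134_137 (c : Nat) : Nat := @Bool.rec (fun _ => Nat) (Ptab_134) (Ptab_s_135_137 c) (Nat.ble 135 c)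
noncomputable def Ptab_s_137_139 (c : Nat) : Nat := @Bool.rec (fun _ => Nat) (Ptab_137) (Ptab_138) (Nat.ble 138 c)
noncomputable def Ptab_s_139_141 (c : Nat) : Nat := @Bool.rec (fun _ => Nat) (Ptab_139) (Ptab_140) (Nat.ble 140 c)
noncomputable def Ptab_s_137_141 (c : Nat) : Nat := @Bool.rec (fun _ => Nat) (Ptab_s_137_139 c) (Ptab_s_139_141 c) (Nat.ble 139 c)
noncomputable def Ptab_s_134_141 (c : Nat) : Nat := @Bool.rec (fun _ => Nat) (Ptab_s_134_137 c) (Ptab_s_137_141 c) (Nat.ble 137 c)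
noncomputable def Ptab_s_127_141 (c : Nat) : Nat := @Bool.rec (fun _ => Nat) (Ptab_s_127_134 c) (Ptab_s_134_141 c) (Nat.ble 134 c)
noncomputable def Ptab_s_113_141 (c : Nat) : Nat := @Bool.rec (fun _ => Nat) (Ptab_s_113_127 c) (Ptab_s_127_141 c) (Nat.ble 127 c)
noncomputable def Ptab_s_142_144 (c : Nat) : Nat := @Bool.rec (fun _ => Nat) (Ptab_142) (Ptab_143) (Nat.ble 143 c)
noncomputable def Ptab_s_141_144 (c : Nat) : Nat := @Bool.rec (fun _ => Nat) (Ptab_141) (Ptab_s_142_144 c) (Nat.ble 142 c)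
noncomputable def Ptab_s_144_146 (c : Nat) : Nat := @Bool.rec (fun _ => Nat) (Ptab_144) (Ptab_145) (Nat.ble 145 c)
noncomputable def Ptab_s_146_148 (c : Nat) : Nat := @Bool.rec (fun _ => Nat) (Ptab_146) (Ptab_147) (Nat.ble 147 c)
noncomputable def Ptab_s_144_148 (c : Nat) : Nat := @Bool.rec (fun _ => Nat) (Ptab_s_144_146 c) (Ptab_s_146_148 c) (Nat.ble 146 c)
noncomputable def Ptab_s_141_148 (c : Nat) : Nat := @Bool.rec (fun _ => Nat) (Ptab_s_141_144 c) (Ptab_s_144_148 c) (Nat.ble 144 c)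
noncomputable def Ptab_s_149_151 (c : Nat) : Nat := @Bool.rec (fun _ => Nat) (Ptab_149) (Ptab_150) (Nat.ble 150 c)
noncomputable def Ptab_s_148_151 (c : Nat) : Nat := @Bool.rec (fun _ => Nat) (Ptab_148) (Ptab_s_149_151 c) (Nat.ble 149 c)
noncomputable def Ptab_s_151_153 (c : Nat) : Nat := @Bool.rec (fun _ => Nat) (Ptab_151) (Ptab_152) (Nat.ble 152 c)
noncomputable def Ptab_s_153_155 (c : Nat) : Nat := @Bool.rec (fun _ => Nat) (Ptab_153) (Ptab_154) (Nat.ble 154 c)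
noncomputable def Ptab_s_151_155 (c : Nat) : Nat := @Bool.rec (fun _ => Nat) (Ptab_s_151_153 c) (Ptab_s_153_155 c) (Nat.ble 153 c)
noncomputable def Ptab_s_148_155 (c : Nat) : Nat := @Bool.rec (fun _ => Nat) (Ptab_s_148_151 c) (Ptab_s_151_155 c) (Nat.ble 151 c)
noncomputable def Ptab_s_141_155 (c : Nat) : Nat := @Bool.rec (fun _ => Nat) (Ptab_s_141_148 c) (Ptab_s_148_155 c) (Nat.ble 148 c)
noncomputable def Ptab_s_156_158 (c : Nat) : Nat := @Bool.rec (fun _ => Nat) (Ptab_156) (Ptab_157) (Nat.ble 157 c)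
noncomputable def Ptab_s_155_158 (c : Nat) : Nat := @Bool.rec (fun _ => Nat) (Ptab_155) (Ptab_s_156_158 c) (Nat.ble 156 c)
noncomputable def Ptab_s_158_160 (c : Nat) : Nat := @Bool.rec (fun _ => Nat) (Ptab_158) (Ptab_159) (Nat.ble 159 c)
noncomputable def Ptab_s_160_162 (c : Nat) : Nat := @Bool.rec (fun _ => Nat) (Ptab_160) (Ptab_161) (Nat.ble 161 c)
noncomputable def Ptab_s_158_162 (c : Nat) : Nat := @Bool.rec (fun _ => Nat) (Ptab_s_158_160 c) (Ptab_s_160_162 c) (Nat.ble 160 c)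
noncomputable def Ptab_s_155_162 (c : Nat) : Nat := @Bool.rec (fun _ => Nat) (Ptab_s_155_158 c) (Ptab_s_158_162 c) (Nat.ble 158 c)
noncomputable def Ptab_s_163_165 (c : Nat) : Nat := @Bool.rec (fun _ => Nat) (Ptab_163) (Ptab_164) (Nat.ble 164 c)
noncomputable def Ptab_s_162_165 (c : Nat) : Nat := @Bool.rec (fun _ => Nat) (Ptab_162) (Ptab_s_163_165 c) (Nat.ble 163 c)
noncomputable def Ptab_s_165_167 (c : Nat) : Nat := @Bool.rec (fun _ => Nat) (Ptab_165) (Ptab_166) (Nat.ble 166 c)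
noncomputable def Ptab_s_167_169 (c : Nat) : Nat := @Bool.rec (fun _ => Nat) (Ptab_167) (Ptab_168) (Nat.ble 168 c)
noncomputable def Ptab_s_165_169 (c : Nat) : Nat := @Bool.rec (fun _ => Nat) (Ptab_s_165_167 c) (Ptab_s_167_169 c) (Nat.ble 167 c)
noncomputable def Ptab_s_162_169 (c : Nat) : Nat := @Bool.rec (fun _ => Nat) (Ptab_s_162_165 c) (Ptab_s_165_169 c) (Nat.ble 165 c)
noncomputable def Ptab_s_155_169 (c : Nat) : Nat := @Bool.rec (fun _ => Nat) (Ptab_s_155_162 c) (Ptab_s_162_169 c) (Nat.ble 162 c)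
noncomputable def Ptab_s_141_169 (c : Nat) : Nat := @Bool.rec (fun _ => Nat) (Ptab_s_141_155 c) (Ptab_s_155_169 c) (Nat.ble 155 c)
noncomputable def Ptab_s_113_169 (c : Nat) : Nat := @Bool.rec (fun _ => Nat) (Ptab_s_113_141 c) (Ptab_s_141_169 c) (Nat.ble 141 c)
noncomputable def Ptab_s_170_172 (c : Nat) : Nat := @Bool.rec (fun _ => Nat) (Ptab_170) (Ptab_171) (Nat.ble 171 c)
noncomputable def Ptab_s_169_172 (c : Nat) : Nat := @Bool.rec (fun _ => Nat) (Ptab_169) (Ptab_s_170_172 c) (Nat.ble 170 c)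
noncomputable def Ptab_s_172_174 (c : Nat) : Nat := @Bool.rec (fun _ => Nat) (Ptab_172) (Ptab_173) (Nat.ble 173 c)
noncomputable def Ptab_s_174_176 (c : Nat) : Nat := @Bool.rec (fun _ => Nat) (Ptab_174) (Ptab_175) (Nat.ble 175 c)
noncomputable def Ptab_s_172_176 (c : Nat) : Nat := @Bool.rec (fun _ => Nat) (Ptab_s_172_174 c) (Ptab_s_174_176 c) (Nat.ble 174 c)
noncomputable def Ptab_s_169_176 (c : Nat) : Nat := @Bool.rec (fun _ => Nat) (Ptab_s_169_172 c) (Ptab_s_172_176 c) (Nat.ble 172 c)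
noncomputable def Ptab_s_177_179 (c : Nat) : Nat := @Bool.rec (fun _ => Nat) (Ptab_177) (Ptab_178) (Nat.ble 178 c)
noncomputable def Ptab_s_176_179 (c : Nat) : Nat := @Bool.rec (fun _ => Nat) (Ptab_176) (Ptab_s_177_179 c) (Nat.ble 177 c)
noncomputable def Ptab_s_179_181 (c : Nat) : Nat := @Bool.rec (fun _ => Nat) (Ptab_179) (Ptab_180) (Nat.ble 180 c)
noncomputable def Ptab_s_181_183 (c : Nat) : Nat := @Bool.rec (fun _ => Nat) (Ptab_181) (Ptab_182) (Nat.ble 182 c)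
noncomputable def Ptab_s_179_183 (c : Nat) : Nat := @Bool.rec (fun _ => Nat) (Ptab_s_179_181 c) (Ptab_s_181_183 c) (Nat.ble 181 c)
noncomputable def Ptab_s_176_183 (c : Nat) : Nat := @Bool.rec (fun _ => Nat) (Ptab_s_176_179 c) (Ptab_s_179_183 c) (Nat.ble 179 c)
noncomputable def Ptab_s_169_183 (c : Nat) : Nat := @Bool.rec (fun _ => Nat) (Ptab_s_169_176 c) (Ptab_s_176_183 c) (Nat.ble 176 c)
noncomputable def Ptab_s_184_186 (c : Nat) : Nat := @Bool.rec (fun _ => Nat) (Ptab_184) (Ptab_185) (Nat.ble 185 c)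
noncomputable def Ptab_s_183_186 (c : Nat) : Nat := @Bool.rec (fun _ => Nat) (Ptab_183) (Ptab_s_184_186 c) (Nat.ble 184 c)
noncomputable def Ptab_s_186_188 (c : Nat) : Nat := @Bool.rec (fun _ => Nat) (Ptab_186) (Ptab_187) (Nat.ble 187 c)
noncomputable def Ptab_s_188_190 (c : Nat) : Nat := @Bool.rec (fun _ => Nat) (Ptab_188) (Ptab_189) (Nat.ble 189 c)
noncomputable def Ptab_s_186_190 (c : Nat) : Nat := @Bool.rec (fun _ => Nat) (Ptab_s_186_188 c) (Ptab_s_188_190 c) (Nat.ble 188 c)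
noncomputable def Ptab_s_183_190 (c : Nat) : Nat := @Bool.rec (fun _ => Nat) (Ptab_s_183_186 c) (Ptab_s_186_190 c) (Nat.ble 186 c)
noncomputable def Ptab_s_191_193 (c : Nat) : Nat := @Bool.rec (fun _ => Nat) (Ptab_191) (Ptab_192) (Nat.ble 192 c)
noncomputable def Ptab_s_190_193 (c : Nat) : Nat := @Bool.rec (fun _ => Nat) (Ptab_190) (Ptab_s_191_193 c) (Nat.ble 191 c)
noncomputable def Ptab_s_193_195 (c : Nat) : Nat := @Bool.rec (fun _ => Nat) (Ptab_193) (Ptab_194) (Nat.ble 194 c)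
noncomputable def Ptab_s_195_197 (c : Nat) : Nat := @Bool.rec (fun _ => Nat) (Ptab_195) (Ptab_196) (Nat.ble 196 c)
noncomputable def Ptab_s_193_197 (c : Nat) : Nat := @Bool.rec (fun _ => Nat) (Ptab_s_193_195 c) (Ptab_s_195_197 c) (Nat.ble 195 c)
noncomputable def Ptab_s_190_197 (c : Nat) : Nat := @Bool.rec (fun _ => Nat) (Ptab_s_190_193 c) (Ptab_s_193_197 c) (Nat.ble 193 c)
noncomputable def Ptab_s_183_197 (c : Nat) : Nat := @Bool.rec (fun _ => Nat) (Ptab_s_183_190 c) (Ptab_s_190_197 c) (Nat.ble 190 c)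
noncomputable def Ptab_s_169_197 (c : Nat) : Nat := @Bool.rec (fun _ => Nat) (Ptab_s_169_183 c) (Ptab_s_183_197 c) (Nat.ble 183 c)
noncomputable def Ptab_s_198_200 (c : Nat) : Nat := @Bool.rec (fun _ => Nat) (Ptab_198) (Ptab_199) (Nat.ble 199 c)
noncomputable def Ptab_s_197_200 (c : Nat) : Nat := @Bool.rec (fun _ => Nat) (Ptab_197) (Ptab_s_198_200 c) (Nat.ble 198 c)
noncomputable def Ptab_s_200_202 (c : Nat) : Nat := @Bool.rec (fun _ => Nat) (Ptab_200) (Ptab_201) (Nat.ble 201 c)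
noncomputable def Ptab_s_202_204 (c : Nat) : Nat := @Bool.rec (fun _ => Nat) (Ptab_202) (Ptab_203) (Nat.ble 203 c)
noncomputable def Ptab_s_200_204 (c : Nat) : Nat := @Bool.rec (fun _ => Nat) (Ptab_s_200_202 c) (Ptab_s_202_204 c) (Nat.ble 202 c)
noncomputable def Ptab_s_197_204 (c : Nat) : Nat := @Bool.rec (fun _ => Nat) (Ptab_s_197_200 c) (Ptab_s_200_204 c) (Nat.ble 200 c)
noncomputable def Ptab_s_205_207 (c : Nat) : Nat := @Bool.rec (fun _ => Nat) (Ptab_205) (Ptab_206) (Nat.ble 206 c)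
noncomputable def Ptab_s_204_207 (c : Nat) : Nat := @Bool.rec (fun _ => Nat) (Ptab_204) (Ptab_s_205_207 c) (Nat.ble 205 c)
noncomputable def Ptab_s_207_209 (c : Nat) : Nat := @Bool.rec (fun _ => Nat) (Ptab_207) (Ptab_208) (Nat.ble 208 c)
noncomputable def Ptab_s_209_211 (c : Nat) : Nat := @Bool.rec (fun _ => Nat) (Ptab_209) (Ptab_210) (Nat.ble 210 c)
noncomputable def Ptab_s_207_211 (c : Nat) : Nat := @Bool.rec (fun _ => Nat) (Ptab_s_207_209 c) (Ptab_s_209_211 c) (Nat.ble 209 c)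
noncomputable def Ptab_s_204_211 (c : Nat) : Nat := @Bool.rec (fun _ => Nat) (Ptab_s_204_207 c) (Ptab_s_207_211 c) (Nat.ble 207 c)
noncomputable def Ptab_s_197_211 (c : Nat) : Nat := @Bool.rec (fun _ => Nat) (Ptab_s_197_204 c) (Ptab_s_204_211 c) (Nat.ble 204 c)
noncomputable def Ptab_s_212_214 (c : Nat) : Nat := @Bool.rec (fun _ => Nat) (Ptab_212) (Ptab_213) (Nat.ble 213 c)
noncomputable def Ptab_s_211_214 (c : Nat) : Nat := @Bool.rec (fun _ => Nat) (Ptab_211) (Ptab_s_212_214 c) (Nat.ble 212 c)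
noncomputable def Ptab_s_214_216 (c : Nat) : Nat := @Bool.rec (fun _ => Nat) (Ptab_214) (Ptab_215) (Nat.ble 215 c)
noncomputable def Ptab_s_216_218 (c : Nat) : Nat := @Bool.rec (fun _ => Nat) (Ptab_216) (Ptab_217) (Nat.ble 217 c)
noncomputable def Ptab_s_214_218 (c : Nat) : Nat := @Bool.rec (fun _ => Nat) (Ptab_s_214_216 c) (Ptab_s_216_218 c) (Nat.ble 216 c)
noncomputable def Ptab_s_211_218 (c : Nat) : Nat := @Bool.rec (fun _ => Nat) (Ptab_s_211_214 c) (Ptab_s_214_218 c) (Nat.ble 214 c)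
noncomputable def Ptab_s_218_220 (c : Nat) : Nat := @Bool.rec (fun _ => Nat) (Ptab_218) (Ptab_219) (Nat.ble 219 c)
noncomputable def Ptab_s_220_222 (c : Nat) : Nat := @Bool.rec (fun _ => Nat) (Ptab_220) (Ptab_221) (Nat.ble 221 c)
noncomputable def Ptab_s_218_222 (c : Nat) : Nat := @Bool.rec (fun _ => Nat) (Ptab_s_218_220 c) (Ptab_s_220_222 c) (Nat.ble 220 c)
noncomputable def Ptab_s_222_224 (c : Nat) : Nat := @Bool.rec (fun _ => Nat) (Ptab_222) (Ptab_223) (Nat.ble 223 c)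
noncomputable def Ptab_s_224_226 (c : Nat) : Nat := @Bool.rec (fun _ => Nat) (Ptab_224) (Ptab_225) (Nat.ble 225 c)
noncomputable def Ptab_s_222_226 (c : Nat) : Nat := @Bool.rec (fun _ => Nat) (Ptab_s_222_224 c) (Ptab_s_224_226 c) (Nat.ble 224 c)
noncomputable def Ptab_s_218_226 (c : Nat) : Nat := @Bool.rec (fun _ => Nat) (Ptab_s_218_222 c) (Ptab_s_222_226 c) (Nat.ble 222 c)
noncomputable def Ptab_s_211_226 (c : Nat) : Nat := @Bool.rec (fun _ => Nat) (Ptab_s_211_218 c) (Ptab_s_218_226 c) (Nat.ble 218 c)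
noncomputable def Ptab_s_197_226 (c : Nat) : Nat := @Bool.rec (fun _ => Nat) (Ptab_s_197_211 c) (Ptab_s_211_226 c) (Nat.ble 211 c)
noncomputable def Ptab_s_169_226 (c : Nat) : Nat := @Bool.rec (fun _ => Nat) (Ptab_s_169_197 c) (Ptab_s_197_226 c) (Nat.ble 197 c)
noncomputable def Ptab_s_113_226 (c : Nat) : Nat := @Bool.rec (fun _ => Nat) (Ptab_s_113_169 c) (Ptab_s_169_226 c) (Nat.ble 169 c)
noncomputable def Ptab_s_0_226 (c : Nat) : Nat := @Bool.rec (fun _ => Nat) (Ptab_s_0_113 c) (Ptab_s_113_226 c) (Nat.ble 113 c)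
noncomputable def Ptab_s_227_229 (c : Nat) : Nat := @Bool.rec (fun _ => Nat) (Ptab_227) (Ptab_228) (Nat.ble 228 c)
noncomputable def Ptab_s_226_229 (c : Nat) : Nat := @Bool.rec (fun _ => Nat) (Ptab_226) (Ptab_s_227_229 c) (Nat.ble 227 c)
noncomputable def Ptab_s_229_231 (c : Nat) : Nat := @Bool.rec (fun _ => Nat) (Ptab_229) (Ptab_230) (Nat.ble 230 c)
noncomputable def Ptab_s_231_233 (c : Nat) : Nat := @Bool.rec (fun _ => Nat) (Ptab_231) (Ptab_232) (Nat.ble 232 c)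
noncomputable def Ptab_s_229_233 (c : Nat) : Nat := @Bool.rec (fun _ => Nat) (Ptab_s_229_231 c) (Ptab_s_231_233 c) (Nat.ble 231 c)
noncomputable def Ptab_s_226_233 (c : Nat) : Nat := @Bool.rec (fun _ => Nat) (Ptab_s_226_229 c) (Ptab_s_229_233 c) (Nat.ble 229 c)
noncomputable def Ptab_s_234_236 (c : Nat) : Nat := @Bool.rec (fun _ => Nat) (Ptab_234) (Ptab_235) (Nat.ble 235 c)
noncomputable def Ptab_s_233_236 (c : Nat) : Nat := @Bool.rec (fun _ => Nat) (Ptab_233) (Ptab_s_234_236 c) (Nat.ble 234 c)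
noncomputable def Ptab_s_236_238 (c : Nat) : Nat := @Bool.rec (fun _ => Nat) (Ptab_236) (Ptab_237) (Nat.ble 237 c)
noncomputable def Ptab_s_238_240 (c : Nat) : Nat := @Bool.rec (fun _ => Nat) (Ptab_238) (Ptab_239) (Nat.ble 239 c)
noncomputable def Ptab_s_236_240 (c : Nat) : Nat := @Bool.rec (fun _ => Nat) (Ptab_s_236_238 c) (Ptab_s_238_240 c) (Nat.ble 238 c)
noncomputable def Ptab_s_233_240 (c : Nat) : Nat := @Bool.rec (fun _ => Nat) (Ptab_s_233_236 c) (Ptab_s_236_240 c) (Nat.ble 236 c)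
noncomputable def Ptab_s_226_240 (c : Nat) : Nat := @Bool.rec (fun _ => Nat) (Ptab_s_226_233 c) (Ptab_s_233_240 c) (Nat.ble 233 c)
noncomputable def Ptab_s_241_243 (c : Nat) : Nat := @Bool.rec (fun _ => Nat) (Ptab_241) (Ptab_242) (Nat.ble 242 c)
noncomputable def Ptab_s_240_243 (c : Nat) : Nat := @Bool.rec (fun _ => Nat) (Ptab_240) (Ptab_s_241_243 c) (Nat.ble 241 c)
noncomputable def Ptab_s_243_245 (c : Nat) : Nat := @Bool.rec (fun _ => Nat) (Ptab_243) (Ptab_244) (Nat.ble 244 c)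
noncomputable def Ptab_s_245_247 (c : Nat) : Nat := @Bool.rec (fun _ => Nat) (Ptab_245) (Ptab_246) (Nat.ble 246 c)
noncomputable def Ptab_s_243_247 (c : Nat) : Nat := @Bool.rec (fun _ => Nat) (Ptab_s_243_245 c) (Ptab_s_245_247 c) (Nat.ble 245 c)
noncomputable def Ptab_s_240_247 (c : Nat) : Nat := @Bool.rec (fun _ => Nat) (Ptab_s_240_243 c) (Ptab_s_243_247 c) (Nat.ble 243 c)
noncomputable def Ptab_s_248_250 (c : Nat) : Nat := @Bool.rec (fun _ => Nat) (Ptab_248) (Ptab_249) (Nat.ble 249 c)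
noncomputable def Ptab_s_247_250 (c : Nat) : Nat := @Bool.rec (fun _ => Nat) (Ptab_247) (Ptab_s_248_250 c) (Nat.ble 248 c)
noncomputable def Ptab_s_250_252 (c : Nat) : Nat := @Bool.rec (fun _ => Nat) (Ptab_250) (Ptab_251) (Nat.ble 251 c)
noncomputable def Ptab_s_252_254 (c : Nat) : Nat := @Bool.rec (fun _ => Nat) (Ptab_252) (Ptab_253) (Nat.ble 253 c)
noncomputable def Ptab_s_250_254 (c : Nat) : Nat := @Bool.rec (fun _ => Nat) (Ptab_s_250_252 c) (Ptab_s_252_254 c) (Nat.ble 252 c)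
noncomputable def Ptab_s_247_254 (c : Nat) : Nat := @Bool.rec (fun _ => Nat) (Ptab_s_247_250 c) (Ptab_s_250_254 c) (Nat.ble 250 c)
noncomputable def Ptab_s_240_254 (c : Nat) : Nat := @Bool.rec (fun _ => Nat) (Ptab_s_240_247 c) (Ptab_s_247_254 c) (Nat.ble 247 c)
noncomputable def Ptab_s_226_254 (c : Nat) : Nat := @Bool.rec (fun _ => Nat) (Ptab_s_226_240 c) (Ptab_s_240_254 c) (Nat.ble 240 c)
noncomputable def Ptab_s_255_257 (c : Nat) : Nat := @Bool.rec (fun _ => Nat) (Ptab_255) (Ptab_256) (Nat.ble 256 c)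
noncomputable def Ptab_s_254_257 (c : Nat) : Nat := @Bool.rec (fun _ => Nat) (Ptab_254) (Ptab_s_255_257 c) (Nat.ble 255 c)
noncomputable def Ptab_s_257_259 (c : Nat) : Nat := @Bool.rec (fun _ => Nat) (Ptab_257) (Ptab_258) (Nat.ble 258 c)
noncomputable def Ptab_s_259_261 (c : Nat) : Nat := @Bool.rec (fun _ => Nat) (Ptab_259) (Ptab_260) (Nat.ble 260 c)
noncomputable def Ptab_s_257_261 (c : Nat) : Nat := @Bool.rec (fun _ => Nat) (Ptab_s_257_259 c) (Ptab_s_259_261 c) (Nat.ble 259 c)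
noncomputable def Ptab_s_254_261 (c : Nat) : Nat := @Bool.rec (fun _ => Nat) (Ptab_s_254_257 c) (Ptab_s_257_261 c) (Nat.ble 257 c)
noncomputable def Ptab_s_262_264 (c : Nat) : Nat := @Bool.rec (fun _ => Nat) (Ptab_262) (Ptab_263) (Nat.ble 263 c)
noncomputable def Ptab_s_261_264 (c : Nat) : Nat := @Bool.rec (fun _ => Nat) (Ptab_261) (Ptab_s_262_264 c) (Nat.ble 262 c)
noncomputable def Ptab_s_264_266 (c : Nat) : Nat := @Bool.rec (fun _ => Nat) (Ptab_264) (Ptab_265) (Nat.ble 265 c)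
noncomputable def Ptab_s_266_268 (c : Nat) : Nat := @Bool.rec (fun _ => Nat) (Ptab_266) (Ptab_267) (Nat.ble 267 c)
noncomputable def Ptab_s_264_268 (c : Nat) : Nat := @Bool.rec (fun _ => Nat) (Ptab_s_264_266 c) (Ptab_s_266_268 c) (Nat.ble 266 c)
noncomputable def Ptab_s_261_268 (c : Nat) : Nat := @Bool.rec (fun _ => Nat) (Ptab_s_261_264 c) (Ptab_s_264_268 c) (Nat.ble 264 c)
noncomputable def Ptab_s_254_268 (c : Nat) : Nat := @Bool.rec (fun _ => Nat) (Ptab_s_254_261 c) (Ptab_s_261_268 c) (Nat.ble 261 c)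
noncomputable def Ptab_s_269_271 (c : Nat) : Nat := @Bool.rec (fun _ => Nat) (Ptab_269) (Ptab_270) (Nat.ble 270 c)
noncomputable def Ptab_s_268_271 (c : Nat) : Nat := @Bool.rec (fun _ => Nat) (Ptab_268) (Ptab_s_269_271 c) (Nat.ble 269 c)
noncomputable def Ptab_s_271_273 (c : Nat) : Nat := @Bool.rec (fun _ => Nat) (Ptab_271) (Ptab_272) (Nat.ble 272 c)
noncomputable def Ptab_s_273_275 (c : Nat) : Nat := @Bool.rec (fun _ => Nat) (Ptab_273) (Ptab_274) (Nat.ble 274 c)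
noncomputable def Ptab_s_271_275 (c : Nat) : Nat := @Bool.rec (fun _ => Nat) (Ptab_s_271_273 c) (Ptab_s_273_275 c) (Nat.ble 273 c)
noncomputable def Ptab_s_268_275 (c : Nat) : Nat := @Bool.rec (fun _ => Nat) (Ptab_s_268_271 c) (Ptab_s_271_275 c) (Nat.ble 271 c)
noncomputable def Ptab_s_276_278 (c : Nat) : Nat := @Bool.rec (fun _ => Nat) (Ptab_276) (Ptab_277) (Nat.ble 277 c)
noncomputable def Ptab_s_275_278 (c : Nat) : Nat := @Bool.rec (fun _ => Nat) (Ptab_275) (Ptab_s_276_278 c) (Nat.ble 276 c)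
noncomputable def Ptab_s_278_280 (c : Nat) : Nat := @Bool.rec (fun _ => Nat) (Ptab_278) (Ptab_279) (Nat.ble 279 c)
noncomputable def Ptab_s_280_282 (c : Nat) : Nat := @Bool.rec (fun _ => Nat) (Ptab_280) (Ptab_281) (Nat.ble 281 c)
noncomputable def Ptab_s_278_282 (c : Nat) : Nat := @Bool.rec (fun _ => Nat) (Ptab_s_278_280 c) (Ptab_s_280_282 c) (Nat.ble 280 c)
noncomputable def Ptab_s_275_282 (c : Nat) : Nat := @Bool.rec (fun _ => Nat) (Ptab_s_275_278 c) (Ptab_s_278_282 c) (Nat.ble 278 c)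
noncomputable def Ptab_s_268_282 (c : Nat) : Nat := @Bool.rec (fun _ => Nat) (Ptab_s_268_275 c) (Ptab_s_275_282 c) (Nat.ble 275 c)
noncomputable def Ptab_s_254_282 (c : Nat) : Nat := @Bool.rec (fun _ => Nat) (Ptab_s_254_268 c) (Ptab_s_268_282 c) (Nat.ble 268 c)
noncomputable def Ptab_s_226_282 (c : Nat) : Nat := @Bool.rec (fun _ => Nat) (Ptab_s_226_254 c) (Ptab_s_254_282 c) (Nat.ble 254 c)
noncomputable def Ptab_s_283_285 (c : Nat) : Nat := @Bool.rec (fun _ => Nat) (Ptab_283) (Ptab_284) (Nat.ble 284 c)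
noncomputable def Ptab_s_282_285 (c : Nat) : Nat := @Bool.rec (fun _ => Nat) (Ptab_282) (Ptab_s_283_285 c) (Nat.ble 283 c)
noncomputable def Ptab_s_285_287 (c : Nat) : Nat := @Bool.rec (fun _ => Nat) (Ptab_285) (Ptab_286) (Nat.ble 286 c)
noncomputable def Ptab_s_287_289 (c : Nat) : Nat := @Bool.rec (fun _ => Nat) (Ptab_287) (Ptab_288) (Nat.ble 288 c)
noncomputable def Ptab_s_285_289 (c : Nat) : Nat := @Bool.rec (fun _ => Nat) (Ptab_s_285_287 c) (Ptab_s_287_289 c) (Nat.ble 287 c)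
noncomputable def Ptab_s_282_289 (c : Nat) : Nat := @Bool.rec (fun _ => Nat) (Ptab_s_282_285 c) (Ptab_s_285_289 c) (Nat.ble 285 c)
noncomputable def Ptab_s_290_292 (c : Nat) : Nat := @Bool.rec (fun _ => Nat) (Ptab_290) (Ptab_291) (Nat.ble 291 c)
noncomputable def Ptab_s_289_292 (c : Nat) : Nat := @Bool.rec (fun _ => Nat) (Ptab_289) (Ptab_s_290_292 c) (Nat.ble 290 c)
noncomputable def Ptab_s_292_294 (c : Nat) : Nat := @Bool.rec (fun _ => Nat) (Ptab_292) (Ptab_293) (Nat.ble 293 c)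
noncomputable def Ptab_s_294_296 (c : Nat) : Nat := @Bool.rec (fun _ => Nat) (Ptab_294) (Ptab_295) (Nat.ble 295 c)
noncomputable def Ptab_s_292_296 (c : Nat) : Nat := @Bool.rec (fun _ => Nat) (Ptab_s_292_294 c) (Ptab_s_294_296 c) (Nat.ble 294 c)
noncomputable def Ptab_s_289_296 (c : Nat) : Nat := @Bool.rec (fun _ => Nat) (Ptab_s_289_292 c) (Ptab_s_292_296 c) (Nat.ble 292 c)
noncomputable def Ptab_s_282_296 (c : Nat) : Nat := @Bool.rec (fun _ => Nat) (Ptab_s_282_289 c) (Ptab_s_289_296 c) (Nat.ble 289 c)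
noncomputable def Ptab_s_297_299 (c : Nat) : Nat := @Bool.rec (fun _ => Nat) (Ptab_297) (Ptab_298) (Nat.ble 298 c)
noncomputable def Ptab_s_296_299 (c : Nat) : Nat := @Bool.rec (fun _ => Nat) (Ptab_296) (Ptab_s_297_299 c) (Nat.ble 297 c)
noncomputable def Ptab_s_299_301 (c : Nat) : Nat := @Bool.rec (fun _ => Nat) (Ptab_299) (Ptab_300) (Nat.ble 300 c)
noncomputable def Ptab_s_301_303 (c : Nat) : Nat := @Bool.rec (fun _ => Nat) (Ptab_301) (Ptab_302) (Nat.ble 302 c)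
noncomputable def Ptab_s_299_303 (c : Nat) : Nat := @Bool.rec (fun _ => Nat) (Ptab_s_299_301 c) (Ptab_s_301_303 c) (Nat.ble 301 c)
noncomputable def Ptab_s_296_303 (c : Nat) : Nat := @Bool.rec (fun _ => Nat) (Ptab_s_296_299 c) (Ptab_s_299_303 c) (Nat.ble 299 c)
noncomputable def Ptab_s_304_306 (c : Nat) : Nat := @Bool.rec (fun _ => Nat) (Ptab_304) (Ptab_305) (Nat.ble 305 c)
noncomputable def Ptab_s_303_306 (c : Nat) : Nat := @Bool.rec (fun _ => Nat) (Ptab_303) (Ptab_s_304_306 c) (Nat.ble 304 c)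
noncomputable def Ptab_s_306_308 (c : Nat) : Nat := @Bool.rec (fun _ => Nat) (Ptab_306) (Ptab_307) (Nat.ble 307 c)
noncomputable def Ptab_s_308_310 (c : Nat) : Nat := @Bool.rec (fun _ => Nat) (Ptab_308) (Ptab_309) (Nat.ble 309 c)
noncomputable def Ptab_s_306_310 (c : Nat) : Nat := @Bool.rec (fun _ => Nat) (Ptab_s_306_308 c) (Ptab_s_308_310 c) (Nat.ble 308 c)
noncomputable def Ptab_s_303_310 (c : Nat) : Nat := @Bool.rec (fun _ => Nat) (Ptab_s_303_306 c) (Ptab_s_306_310 c) (Nat.ble 306 c)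
noncomputable def Ptab_s_296_310 (c : Nat) : Nat := @Bool.rec (fun _ => Nat) (Ptab_s_296_303 c) (Ptab_s_303_310 c) (Nat.ble 303 c)
noncomputable def Ptab_s_282_310 (c : Nat) : Nat := @Bool.rec (fun _ => Nat) (Ptab_s_282_296 c) (Ptab_s_296_310 c) (Nat.ble 296 c)
noncomputable def Ptab_s_311_313 (c : Nat) : Nat := @Bool.rec (fun _ => Nat) (Ptab_311) (Ptab_312) (Nat.ble 312 c)
noncomputable def Ptab_s_310_313 (c : Nat) : Nat := @Bool.rec (fun _ => Nat) (Ptab_310) (Ptab_s_311_313 c) (Nat.ble 311 c)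
noncomputable def Ptab_s_313_315 (c : Nat) : Nat := @Bool.rec (fun _ => Nat) (Ptab_313) (Ptab_314) (Nat.ble 314 c)
noncomputable def Ptab_s_315_317 (c : Nat) : Nat := @Bool.rec (fun _ => Nat) (Ptab_315) (Ptab_316) (Nat.ble 316 c)
noncomputable def Ptab_s_313_317 (c : Nat) : Nat := @Bool.rec (fun _ => Nat) (Ptab_s_313_315 c) (Ptab_s_315_317 c) (Nat.ble 315 c)
noncomputable def Ptab_s_310_317 (c : Nat) : Nat := @Bool.rec (fun _ => Nat) (Ptab_s_310_313 c) (Ptab_s_313_317 c) (Nat.ble 313 c)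
noncomputable def Ptab_s_318_320 (c : Nat) : Nat := @Bool.rec (fun _ => Nat) (Ptab_318) (Ptab_319) (Nat.ble 319 c)
noncomputable def Ptab_s_317_320 (c : Nat) : Nat := @Bool.rec (fun _ => Nat) (Ptab_317) (Ptab_s_318_320 c) (Nat.ble 318 c)
noncomputable def Ptab_s_320_322 (c : Nat) : Nat := @Bool.rec (fun _ => Nat) (Ptab_320) (Ptab_321) (Nat.ble 321 c)
noncomputable def Ptab_s_322_324 (c : Nat) : Nat := @Bool.rec (fun _ => Nat) (Ptab_322) (Ptab_323) (Nat.ble 323 c)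
noncomputable def Ptab_s_320_324 (c : Nat) : Nat := @Bool.rec (fun _ => Nat) (Ptab_s_320_322 c) (Ptab_s_322_324 c) (Nat.ble 322 c)
noncomputable def Ptab_s_317_324 (c : Nat) : Nat := @Bool.rec (fun _ => Nat) (Ptab_s_317_320 c) (Ptab_s_320_324 c) (Nat.ble 320 c)
noncomputable def Ptab_s_310_324 (c : Nat) : Nat := @Bool.rec (fun _ => Nat) (Ptab_s_310_317 c) (Ptab_s_317_324 c) (Nat.ble 317 c)
noncomputable def Ptab_s_325_327 (c : Nat) : Nat := @Bool.rec (fun _ => Nat) (Ptab_325) (Ptab_326) (Nat.ble 326 c)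
noncomputable def Ptab_s_324_327 (c : Nat) : Nat := @Bool.rec (fun _ => Nat) (Ptab_324) (Ptab_s_325_327 c) (Nat.ble 325 c)
noncomputable def Ptab_s_327_329 (c : Nat) : Nat := @Bool.rec (fun _ => Nat) (Ptab_327) (Ptab_328) (Nat.ble 328 c)
noncomputable def Ptab_s_329_331 (c : Nat) : Nat := @Bool.rec (fun _ => Nat) (Ptab_329) (Ptab_330) (Nat.ble 330 c)
noncomputable def Ptab_s_327_331 (c : Nat) : Nat := @Bool.rec (fun _ => Nat) (Ptab_s_327_329 c) (Ptab_s_329_331 c) (Nat.ble 329 c)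
noncomputable def Ptab_s_324_331 (c : Nat) : Nat := @Bool.rec (fun _ => Nat) (Ptab_s_324_327 c) (Ptab_s_327_331 c) (Nat.ble 327 c)
noncomputable def Ptab_s_331_333 (c : Nat) : Nat := @Bool.rec (fun _ => Nat) (Ptab_331) (Ptab_332) (Nat.ble 332 c)
noncomputable def Ptab_s_333_335 (c : Nat) : Nat := @Bool.rec (fun _ => Nat) (Ptab_333) (Ptab_334) (Nat.ble 334 c)
noncomputable def Ptab_s_331_335 (c : Nat) : Nat := @Bool.rec (fun _ => Nat) (Ptab_s_331_333 c) (Ptab_s_333_335 c) (Nat.ble 333 c)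
noncomputable def Ptab_s_335_337 (c : Nat) : Nat := @Bool.rec (fun _ => Nat) (Ptab_335) (Ptab_336) (Nat.ble 336 c)
noncomputable def Ptab_s_337_339 (c : Nat) : Nat := @Bool.rec (fun _ => Nat) (Ptab_337) (Ptab_338) (Nat.ble 338 c)
noncomputable def Ptab_s_335_339 (c : Nat) : Nat := @Bool.rec (fun _ => Nat) (Ptab_s_335_337 c) (Ptab_s_337_339 c) (Nat.ble 337 c)
noncomputable def Ptab_s_331_339 (c : Nat) : Nat := @Bool.rec (fun _ => Nat) (Ptab_s_331_335 c) (Ptab_s_335_339 c) (Nat.ble 335 c)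
noncomputable def Ptab_s_324_339 (c : Nat) : Nat := @Bool.rec (fun _ => Nat) (Ptab_s_324_331 c) (Ptab_s_331_339 c) (Nat.ble 331 c)
noncomputable def Ptab_s_310_339 (c : Nat) : Nat := @Bool.rec (fun _ => Nat) (Ptab_s_310_324 c) (Ptab_s_324_339 c) (Nat.ble 324 c)
noncomputable def Ptab_s_282_339 (c : Nat) : Nat := @Bool.rec (fun _ => Nat) (Ptab_s_282_310 c) (Ptab_s_310_339 c) (Nat.ble 310 c)
noncomputable def Ptab_s_226_339 (c : Nat) : Nat := @Bool.rec (fun _ => Nat) (Ptab_s_226_282 c) (Ptab_s_282_339 c) (Nat.ble 282 c)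
noncomputable def Ptab_s_340_342 (c : Nat) : Nat := @Bool.rec (fun _ => Nat) (Ptab_340) (Ptab_341) (Nat.ble 341 c)
noncomputable def Ptab_s_339_342 (c : Nat) : Nat := @Bool.rec (fun _ => Nat) (Ptab_339) (Ptab_s_340_342 c) (Nat.ble 340 c)
noncomputable def Ptab_s_342_344 (c : Nat) : Nat := @Bool.rec (fun _ => Nat) (Ptab_342) (Ptab_343) (Nat.ble 343 c)
noncomputable def Ptab_s_344_346 (c : Nat) : Nat := @Bool.rec (fun _ => Nat) (Ptab_344) (Ptab_345) (Nat.ble 345 c)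
noncomputable def Ptab_s_342_346 (c : Nat) : Nat := @Bool.rec (fun _ => Nat) (Ptab_s_342_344 c) (Ptab_s_344_346 c) (Nat.ble 344 c)
noncomputable def Ptab_s_339_346 (c : Nat) : Nat := @Bool.rec (fun _ => Nat) (Ptab_s_339_342 c) (Ptab_s_342_346 c) (Nat.ble 342 c)
noncomputable def Ptab_s_347_349 (c : Nat) : Nat := @Bool.rec (fun _ => Nat) (Ptab_347) (Ptab_348) (Nat.ble 348 c)
noncomputable def Ptab_s_346_349 (c : Nat) : Nat := @Bool.rec (fun _ => Nat) (Ptab_346) (Ptab_s_347_349 c) (Nat.ble 347 c)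
noncomputable def Ptab_s_349_351 (c : Nat) : Nat := @Bool.rec (fun _ => Nat) (Ptab_349) (Ptab_350) (Nat.ble 350 c)
noncomputable def Ptab_s_351_353 (c : Nat) : Nat := @Bool.rec (fun _ => Nat) (Ptab_351) (Ptab_352) (Nat.ble 352 c)
noncomputable def Ptab_s_349_353 (c : Nat) : Nat := @Bool.rec (fun _ => Nat) (Ptab_s_349_351 c) (Ptab_s_351_353 c) (Nat.ble 351 c)
noncomputable def Ptab_s_346_353 (c : Nat) : Nat := @Bool.rec (fun _ => Nat) (Ptab_s_346_349 c) (Ptab_s_349_353 c) (Nat.ble 349 c)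
noncomputable def Ptab_s_339_353 (c : Nat) : Nat := @Bool.rec (fun _ => Nat) (Ptab_s_339_346 c) (Ptab_s_346_353 c) (Nat.ble 346 c)
noncomputable def Ptab_s_354_356 (c : Nat) : Nat := @Bool.rec (fun _ => Nat) (Ptab_354) (Ptab_355) (Nat.ble 355 c)
noncomputable def Ptab_s_353_356 (c : Nat) : Nat := @Bool.rec (fun _ => Nat) (Ptab_353) (Ptab_s_354_356 c) (Nat.ble 354 c)
noncomputable def Ptab_s_356_358 (c : Nat) : Nat := @Bool.rec (fun _ => Nat) (Ptab_356) (Ptab_357) (Nat.ble 357 c)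
noncomputable def Ptab_s_358_360 (c : Nat) : Nat := @Bool.rec (fun _ => Nat) (Ptab_358) (Ptab_359) (Nat.ble 359 c)
noncomputable def Ptab_s_356_360 (c : Nat) : Nat := @Bool.rec (fun _ => Nat) (Ptab_s_356_358 c) (Ptab_s_358_360 c) (Nat.ble 358 c)
noncomputable def Ptab_s_353_360 (c : Nat) : Nat := @Bool.rec (fun _ => Nat) (Ptab_s_353_356 c) (Ptab_s_356_360 c) (Nat.ble 356 c)
noncomputable def Ptab_s_361_363 (c : Nat) : Nat := @Bool.rec (fun _ => Nat) (Ptab_361) (Ptab_362) (Nat.ble 362 c)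
noncomputable def Ptab_s_360_363 (c : Nat) : Nat := @Bool.rec (fun _ => Nat) (Ptab_360) (Ptab_s_361_363 c) (Nat.ble 361 c)
noncomputable def Ptab_s_363_365 (c : Nat) : Nat := @Bool.rec (fun _ => Nat) (Ptab_363) (Ptab_364) (Nat.ble 364 c)
noncomputable def Ptab_s_365_367 (c : Nat) : Nat := @Bool.rec (fun _ => Nat) (Ptab_365) (Ptab_366) (Nat.ble 366 c)
noncomputable def Ptab_s_363_367 (c : Nat) : Nat := @Bool.rec (fun _ => Nat) (Ptab_s_363_365 c) (Ptab_s_365_367 c) (Nat.ble 365 c)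
noncomputable def Ptab_s_360_367 (c : Nat) : Nat := @Bool.rec (fun _ => Nat) (Ptab_s_360_363 c) (Ptab_s_363_367 c) (Nat.ble 363 c)
noncomputable def Ptab_s_353_367 (c : Nat) : Nat := @Bool.rec (fun _ => Nat) (Ptab_s_353_360 c) (Ptab_s_360_367 c) (Nat.ble 360 c)
noncomputable def Ptab_s_339_367 (c : Nat) : Nat := @Bool.rec (fun _ => Nat) (Ptab_s_339_353 c) (Ptab_s_353_367 c) (Nat.ble 353 c)
noncomputable def Ptab_s_368_370 (c : Nat) : Nat := @Bool.rec (fun _ => Nat) (Ptab_368) (Ptab_369) (Nat.ble 369 c)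
noncomputable def Ptab_s_367_370 (c : Nat) : Nat := @Bool.rec (fun _ => Nat) (Ptab_367) (Ptab_s_368_370 c) (Nat.ble 368 c)
noncomputable def Ptab_s_370_372 (c : Nat) : Nat := @Bool.rec (fun _ => Nat) (Ptab_370) (Ptab_371) (Nat.ble 371 c)
noncomputable def Ptab_s_372_374 (c : Nat) : Nat := @Bool.rec (fun _ => Nat) (Ptab_372) (Ptab_373) (Nat.ble 373 c)
noncomputable def Ptab_s_370_374 (c : Nat) : Nat := @Bool.rec (fun _ => Nat) (Ptab_s_370_372 c) (Ptab_s_372_374 c) (Nat.ble 372 c)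
noncomputable def Ptab_s_367_374 (c : Nat) : Nat := @Bool.rec (fun _ => Nat) (Ptab_s_367_370 c) (Ptab_s_370_374 c) (Nat.ble 370 c)
noncomputable def Ptab_s_375_377 (c : Nat) : Nat := @Bool.rec (fun _ => Nat) (Ptab_375) (Ptab_376) (Nat.ble 376 c)
noncomputable def Ptab_s_374_377 (c : Nat) : Nat := @Bool.rec (fun _ => Nat) (Ptab_374) (Ptab_s_375_377 c) (Nat.ble 375 c)
noncomputable def Ptab_s_377_379 (c : Nat) : Nat := @Bool.rec (fun _ => Nat) (Ptab_377) (Ptab_378) (Nat.ble 378 c)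
noncomputable def Ptab_s_379_381 (c : Nat) : Nat := @Bool.rec (fun _ => Nat) (Ptab_379) (Ptab_380) (Nat.ble 380 c)
noncomputable def Ptab_s_377_381 (c : Nat) : Nat := @Bool.rec (fun _ => Nat) (Ptab_s_377_379 c) (Ptab_s_379_381 c) (Nat.ble 379 c)
noncomputable def Ptab_s_374_381 (c : Nat) : Nat := @Bool.rec (fun _ => Nat) (Ptab_s_374_377 c) (Ptab_s_377_381 c) (Nat.ble 377 c)
noncomputable def Ptab_s_367_381 (c : Nat) : Nat := @Bool.rec (fun _ => Nat) (Ptab_s_367_374 c) (Ptab_s_374_381 c) (Nat.ble 374 c)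
noncomputable def Ptab_s_382_384 (c : Nat) : Nat := @Bool.rec (fun _ => Nat) (Ptab_382) (Ptab_383) (Nat.ble 383 c)
noncomputable def Ptab_s_381_384 (c : Nat) : Nat := @Bool.rec (fun _ => Nat) (Ptab_381) (Ptab_s_382_384 c) (Nat.ble 382 c)
noncomputable def Ptab_s_384_386 (c : Nat) : Nat := @Bool.rec (fun _ => Nat) (Ptab_384) (Ptab_385) (Nat.ble 385 c)
noncomputable def Ptab_s_386_388 (c : Nat) : Nat := @Bool.rec (fun _ => Nat) (Ptab_386) (Ptab_387) (Nat.ble 387 c)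
noncomputable def Ptab_s_384_388 (c : Nat) : Nat := @Bool.rec (fun _ => Nat) (Ptab_s_384_386 c) (Ptab_s_386_388 c) (Nat.ble 386 c)
noncomputable def Ptab_s_381_388 (c : Nat) : Nat := @Bool.rec (fun _ => Nat) (Ptab_s_381_384 c) (Ptab_s_384_388 c) (Nat.ble 384 c)
noncomputable def Ptab_s_388_390 (c : Nat) : Nat := @Bool.rec (fun _ => Nat) (Ptab_388) (Ptab_389) (Nat.ble 389 c)
noncomputable def Ptab_s_390_392 (c : Nat) : Nat := @Bool.rec (fun _ => Nat) (Ptab_390) (Ptab_391) (Nat.ble 391 c)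
noncomputable def Ptab_s_388_392 (c : Nat) : Nat := @Bool.rec (fun _ => Nat) (Ptab_s_388_390 c) (Ptab_s_390_392 c) (Nat.ble 390 c)
noncomputable def Ptab_s_392_394 (c : Nat) : Nat := @Bool.rec (fun _ => Nat) (Ptab_392) (Ptab_393) (Nat.ble 393 c)
noncomputable def Ptab_s_394_396 (c : Nat) : Nat := @Bool.rec (fun _ => Nat) (Ptab_394) (Ptab_395) (Nat.ble 395 c)
noncomputable def Ptab_s_392_396 (c : Nat) : Nat := @Bool.rec (fun _ => Nat) (Ptab_s_392_394 c) (Ptab_s_394_396 c) (Nat.ble 394 c)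
noncomputable def Ptab_s_388_396 (c : Nat) : Nat := @Bool.rec (fun _ => Nat) (Ptab_s_388_392 c) (Ptab_s_392_396 c) (Nat.ble 392 c)
noncomputable def Ptab_s_381_396 (c : Nat) : Nat := @Bool.rec (fun _ => Nat) (Ptab_s_381_388 c) (Ptab_s_388_396 c) (Nat.ble 388 c)
noncomputable def Ptab_s_367_396 (c : Nat) : Nat := @Bool.rec (fun _ => Nat) (Ptab_s_367_381 c) (Ptab_s_381_396 c) (Nat.ble 381 c)
noncomputable def Ptab_s_339_396 (c : Nat) : Nat := @Bool.rec (fun _ => Nat) (Ptab_s_339_367 c) (Ptab_s_367_396 c) (Nat.ble 367 c)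
noncomputable def Ptab_s_397_399 (c : Nat) : Nat := @Bool.rec (fun _ => Nat) (Ptab_397) (Ptab_398) (Nat.ble 398 c)
noncomputable def Ptab_s_396_399 (c : Nat) : Nat := @Bool.rec (fun _ => Nat) (Ptab_396) (Ptab_s_397_399 c) (Nat.ble 397 c)
noncomputable def Ptab_s_399_401 (c : Nat) : Nat := @Bool.rec (fun _ => Nat) (Ptab_399) (Ptab_400) (Nat.ble 400 c)
noncomputable def Ptab_s_401_403 (c : Nat) : Nat := @Bool.rec (fun _ => Nat) (Ptab_401) (Ptab_402) (Nat.ble 402 c)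
noncomputable def Ptab_s_399_403 (c : Nat) : Nat := @Bool.rec (fun _ => Nat) (Ptab_s_399_401 c) (Ptab_s_401_403 c) (Nat.ble 401 c)
noncomputable def Ptab_s_396_403 (c : Nat) : Nat := @Bool.rec (fun _ => Nat) (Ptab_s_396_399 c) (Ptab_s_399_403 c) (Nat.ble 399 c)
noncomputable def Ptab_s_404_406 (c : Nat) : Nat := @Bool.rec (fun _ => Nat) (Ptab_404) (Ptab_405) (Nat.ble 405 c)
noncomputable def Ptab_s_403_406 (c : Nat) : Nat := @Bool.rec (fun _ => Nat) (Ptab_403) (Ptab_s_404_406 c) (Nat.ble 404 c)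
noncomputable def Ptab_s_406_408 (c : Nat) : Nat := @Bool.rec (fun _ => Nat) (Ptab_406) (Ptab_407) (Nat.ble 407 c)
noncomputable def Ptab_s_408_410 (c : Nat) : Nat := @Bool.rec (fun _ => Nat) (Ptab_408) (Ptab_409) (Nat.ble 409 c)
noncomputable def Ptab_s_406_410 (c : Nat) : Nat := @Bool.rec (fun _ => Nat) (Ptab_s_406_408 c) (Ptab_s_408_410 c) (Nat.ble 408 c)
noncomputable def Ptab_s_403_410 (c : Nat) : Nat := @Bool.rec (fun _ => Nat) (Ptab_s_403_406 c) (Ptab_s_406_410 c) (Nat.ble 406 c)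
noncomputable def Ptab_s_396_410 (c : Nat) : Nat := @Bool.rec (fun _ => Nat) (Ptab_s_396_403 c) (Ptab_s_403_410 c) (Nat.ble 403 c)
noncomputable def Ptab_s_411_413 (c : Nat) : Nat := @Bool.rec (fun _ => Nat) (Ptab_411) (Ptab_412) (Nat.ble 412 c)
noncomputable def Ptab_s_410_413 (c : Nat) : Nat := @Bool.rec (fun _ => Nat) (Ptab_410) (Ptab_s_411_413 c) (Nat.ble 411 c)
noncomputable def Ptab_s_413_415 (c : Nat) : Nat := @Bool.rec (fun _ => Nat) (Ptab_413) (Ptab_414) (Nat.ble 414 c)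
noncomputable def Ptab_s_415_417 (c : Nat) : Nat := @Bool.rec (fun _ => Nat) (Ptab_415) (Ptab_416) (Nat.ble 416 c)
noncomputable def Ptab_s_413_417 (c : Nat) : Nat := @Bool.rec (fun _ => Nat) (Ptab_s_413_415 c) (Ptab_s_415_417 c) (Nat.ble 415 c)
noncomputable def Ptab_s_410_417 (c : Nat) : Nat := @Bool.rec (fun _ => Nat) (Ptab_s_410_413 c) (Ptab_s_413_417 c) (Nat.ble 413 c)
noncomputable def Ptab_s_418_420 (c : Nat) : Nat := @Bool.rec (fun _ => Nat) (Ptab_418) (Ptab_419) (Nat.ble 419 c)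
noncomputable def Ptab_s_417_420 (c : Nat) : Nat := @Bool.rec (fun _ => Nat) (Ptab_417) (Ptab_s_418_420 c) (Nat.ble 418 c)
noncomputable def Ptab_s_420_422 (c : Nat) : Nat := @Bool.rec (fun _ => Nat) (Ptab_420) (Ptab_421) (Nat.ble 421 c)
noncomputable def Ptab_s_422_424 (c : Nat) : Nat := @Bool.rec (fun _ => Nat) (Ptab_422) (Ptab_423) (Nat.ble 423 c)
noncomputable def Ptab_s_420_424 (c : Nat) : Nat := @Bool.rec (fun _ => Nat) (Ptab_s_420_422 c) (Ptab_s_422_424 c) (Nat.ble 422 c)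
noncomputable def Ptab_s_417_424 (c : Nat) : Nat := @Bool.rec (fun _ => Nat) (Ptab_s_417_420 c) (Ptab_s_420_424 c) (Nat.ble 420 c)
noncomputable def Ptab_s_410_424 (c : Nat) : Nat := @Bool.rec (fun _ => Nat) (Ptab_s_410_417 c) (Ptab_s_417_424 c) (Nat.ble 417 c)
noncomputable def Ptab_s_396_424 (c : Nat) : Nat := @Bool.rec (fun _ => Nat) (Ptab_s_396_410 c) (Ptab_s_410_424 c) (Nat.ble 410 c)
noncomputable def Ptab_s_425_427 (c : Nat) : Nat := @Bool.rec (fun _ => Nat) (Ptab_425) (Ptab_426) (Nat.ble 426 c)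
noncomputable def Ptab_s_424_427 (c : Nat) : Nat := @Bool.rec (fun _ => Nat) (Ptab_424) (Ptab_s_425_427 c) (Nat.ble 425 c)
noncomputable def Ptab_s_427_429 (c : Nat) : Nat := @Bool.rec (fun _ => Nat) (Ptab_427) (Ptab_428) (Nat.ble 428 c)
noncomputable def Ptab_s_429_431 (c : Nat) : Nat := @Bool.rec (fun _ => Nat) (Ptab_429) (Ptab_430) (Nat.ble 430 c)
noncomputable def Ptab_s_427_431 (c : Nat) : Nat := @Bool.rec (fun _ => Nat) (Ptab_s_427_429 c) (Ptab_s_429_431 c) (Nat.ble 429 c)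
noncomputable def Ptab_s_424_431 (c : Nat) : Nat := @Bool.rec (fun _ => Nat) (Ptab_s_424_427 c) (Ptab_s_427_431 c) (Nat.ble 427 c)
noncomputable def Ptab_s_432_434 (c : Nat) : Nat := @Bool.rec (fun _ => Nat) (Ptab_432) (Ptab_433) (Nat.ble 433 c)
noncomputable def Ptab_s_431_434 (c : Nat) : Nat := @Bool.rec (fun _ => Nat) (Ptab_431) (Ptab_s_432_434 c) (Nat.ble 432 c)
noncomputable def Ptab_s_434_436 (c : Nat) : Nat := @Bool.rec (fun _ => Nat) (Ptab_434) (Ptab_435) (Nat.ble 435 c)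
noncomputable def Ptab_s_436_438 (c : Nat) : Nat := @Bool.rec (fun _ => Nat) (Ptab_436) (Ptab_437) (Nat.ble 437 c)
noncomputable def Ptab_s_434_438 (c : Nat) : Nat := @Bool.rec (fun _ => Nat) (Ptab_s_434_436 c) (Ptab_s_436_438 c) (Nat.ble 436 c)
noncomputable def Ptab_s_431_438 (c : Nat) : Nat := @Bool.rec (fun _ => Nat) (Ptab_s_431_434 c) (Ptab_s_434_438 c) (Nat.ble 434 c)
noncomputable def Ptab_s_424_438 (c : Nat) : Nat := @Bool.rec (fun _ => Nat) (Ptab_s_424_431 c) (Ptab_s_431_438 c) (Nat.ble 431 c)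
noncomputable def Ptab_s_439_441 (c : Nat) : Nat := @Bool.rec (fun _ => Nat) (Ptab_439) (Ptab_440) (Nat.ble 440 c)
noncomputable def Ptab_s_438_441 (c : Nat) : Nat := @Bool.rec (fun _ => Nat) (Ptab_438) (Ptab_s_439_441 c) (Nat.ble 439 c)
noncomputable def Ptab_s_441_443 (c : Nat) : Nat := @Bool.rec (fun _ => Nat) (Ptab_441) (Ptab_442) (Nat.ble 442 c)
noncomputable def Ptab_s_443_445 (c : Nat) : Nat := @Bool.rec (fun _ => Nat) (Ptab_443) (Ptab_444) (Nat.ble 444 c)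
noncomputable def Ptab_s_441_445 (c : Nat) : Nat := @Bool.rec (fun _ => Nat) (Ptab_s_441_443 c) (Ptab_s_443_445 c) (Nat.ble 443 c)
noncomputable def Ptab_s_438_445 (c : Nat) : Nat := @Bool.rec (fun _ => Nat) (Ptab_s_438_441 c) (Ptab_s_441_445 c) (Nat.ble 441 c)
noncomputable def Ptab_s_445_447 (c : Nat) : Nat := @Bool.rec (fun _ => Nat) (Ptab_445) (Ptab_446) (Nat.ble 446 c)
noncomputable def Ptab_s_447_449 (c : Nat) : Nat := @Bool.rec (fun _ => Nat) (Ptab_447) (Ptab_448) (Nat.ble 448 c)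
noncomputable def Ptab_s_445_449 (c : Nat) : Nat := @Bool.rec (fun _ => Nat) (Ptab_s_445_447 c) (Ptab_s_447_449 c) (Nat.ble 447 c)
noncomputable def Ptab_s_449_451 (c : Nat) : Nat := @Bool.rec (fun _ => Nat) (Ptab_449) (Ptab_450) (Nat.ble 450 c)
noncomputable def Ptab_s_451_453 (c : Nat) : Nat := @Bool.rec (fun _ => Nat) (Ptab_451) (Ptab_452) (Nat.ble 452 c)
noncomputable def Ptab_s_449_453 (c : Nat) : Nat := @Bool.rec (fun _ => Nat) (Ptab_s_449_451 c) (Ptab_s_451_453 c) (Nat.ble 451 c)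
noncomputable def Ptab_s_445_453 (c : Nat) : Nat := @Bool.rec (fun _ => Nat) (Ptab_s_445_449 c) (Ptab_s_449_453 c) (Nat.ble 449 c)
noncomputable def Ptab_s_438_453 (c : Nat) : Nat := @Bool.rec (fun _ => Nat) (Ptab_s_438_445 c) (Ptab_s_445_453 c) (Nat.ble 445 c)
noncomputable def Ptab_s_424_453 (c : Nat) : Nat := @Bool.rec (fun _ => Nat) (Ptab_s_424_438 c) (Ptab_s_438_453 c) (Nat.ble 438 c)
noncomputable def Ptab_s_396_453 (c : Nat) : Nat := @Bool.rec (fun _ => Nat) (Ptab_s_396_424 c) (Ptab_s_424_453 c) (Nat.ble 424 c)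
noncomputable def Ptab_s_339_453 (c : Nat) : Nat := @Bool.rec (fun _ => Nat) (Ptab_s_339_396 c) (Ptab_s_396_453 c) (Nat.ble 396 c)
noncomputable def Ptab_s_226_453 (c : Nat) : Nat := @Bool.rec (fun _ => Nat) (Ptab_s_226_339 c) (Ptab_s_339_453 c) (Nat.ble 339 c)
noncomputable def Ptab_s_0_453 (c : Nat) : Nat := @Bool.rec (fun _ => Nat) (Ptab_s_0_226 c) (Ptab_s_226_453 c) (Nat.ble 226 c)
noncomputable def Ptab (i : Nat) : Nat := rdw 21 2097151 (Ptab_s_0_453 (Nat.shiftRight i 12)) (Nat.land i 4095)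
noncomputable def RRtab (i : Nat) : Nat := rdw 5 31 RRtab_0 i
noncomputable def rBtab (i : Nat) : Nat := rdw 11 2047 rBtab_0 i
noncomputable def rLtab (i : Nat) : Nat := rdw 5 31 rLtab_0 i
noncomputable def nameTab (i : Nat) : Nat := rdw 18 262143 nameTab_0 i
noncomputable def col0 (i : Nat) : Nat := rdw 11 2047 col0_0 i
noncomputable def col1 (i : Nat) : Nat := rdw 11 2047 col1_0 i
noncomputable def col2 (i : Nat) : Nat := rdw 11 2047 col2_0 i
noncomputable def col3 (i : Nat) : Nat := rdw 11 2047 col3_0 i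
noncomputable def col4 (i : Nat) : Nat := rdw 11 2047 col4_0 i
noncomputable def col5 (i : Nat) : Nat := rdw 11 2047 col5_0 i
noncomputable def col6 (i : Nat) : Nat := rdw 11 2047 col6_0 i
noncomputable def col7 (i : Nat) : Nat := rdw 11 2047 col7_0 i
noncomputable def col8 (i : Nat) : Nat := rdw 11 2047 col8_0 i
noncomputable def col9 (i : Nat) : Nat := rdw 11 2047 col9_0 i
noncomputable def col10 (i : Nat) : Nat := rdw 11 2047 col10_0 i
noncomputable def col11 (i : Nat) : Nat := rdw 11 2047 col11_0 i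
noncomputable def col12 (i : Nat) : Nat := rdw 11 2047 col12_0 i
noncomputable def col13 (i : Nat) : Nat := rdw 11 2047 col13_0 i
noncomputable def col14 (i : Nat) : Nat := rdw 11 2047 col14_0 i
noncomputable def col15 (i : Nat) : Nat := rdw 11 2047 col15_0 i
noncomputable def col16 (i : Nat) : Nat := rdw 11 2047 col16_0 i
noncomputable def col17 (i : Nat) : Nat := rdw 11 2047 col17_0 i
noncomputable def finTab_s_1_3 (c : Nat) : Nat := @Bool.rec (fun _ => Nat) (finTab_1) (finTab_2) (Nat.ble 2 c)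
noncomputable def finTab_s_0_3 (c : Nat) : Nat := @Bool.rec (fun _ => Nat) (finTab_0) (finTab_s_1_3 c) (Nat.ble 1 c)
noncomputable def finTab_s_4_6 (c : Nat) : Nat := @Bool.rec (fun _ => Nat) (finTab_4) (finTab_5) (Nat.ble 5 c)
noncomputable def finTab_s_3_6 (c : Nat) : Nat := @Bool.rec (fun _ => Nat) (finTab_3) (finTab_s_4_6 c) (Nat.ble 4 c)
noncomputable def finTab_s_0_6 (c : Nat) : Nat := @Bool.rec (fun _ => Nat) (finTab_s_0_3 c) (finTab_s_3_6 c) (Nat.ble 3 c)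
noncomputable def finTab (i : Nat) : Nat := rdw 21 2097151 (finTab_s_0_6 (Nat.shiftRight i 12)) (Nat.land i 4095)
noncomputable def clsTab_s_1_3 (c : Nat) : Nat := @Bool.rec (fun _ => Nat) (clsTab_1) (clsTab_2) (Nat.ble 2 c)
noncomputable def clsTab_s_0_3 (c : Nat) : Nat := @Bool.rec (fun _ => Nat) (clsTab_0) (clsTab_s_1_3 c) (Nat.ble 1 c)
noncomputable def clsTab_s_3_5 (c : Nat) : Nat := @Bool.rec (fun _ => Nat) (clsTab_3) (clsTab_4) (Nat.ble 4 c)
noncomputable def clsTab_s_5_7 (c : Nat) : Nat := @Bool.rec (fun _ => Nat) (clsTab_5) (clsTab_6) (Nat.ble 6 c)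
noncomputable def clsTab_s_3_7 (c : Nat) : Nat := @Bool.rec (fun _ => Nat) (clsTab_s_3_5 c) (clsTab_s_5_7 c) (Nat.ble 5 c)
noncomputable def clsTab_s_0_7 (c : Nat) : Nat := @Bool.rec (fun _ => Nat) (clsTab_s_0_3 c) (clsTab_s_3_7 c) (Nat.ble 3 c)
noncomputable def clsTab_s_7_9 (c : Nat) : Nat := @Bool.rec (fun _ => Nat) (clsTab_7) (clsTab_8) (Nat.ble 8 c)
noncomputable def clsTab_s_9_11 (c : Nat) : Nat := @Bool.rec (fun _ => Nat) (clsTab_9) (clsTab_10) (Nat.ble 10 c)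
noncomputable def clsTab_s_7_11 (c : Nat) : Nat := @Bool.rec (fun _ => Nat) (clsTab_s_7_9 c) (clsTab_s_9_11 c) (Nat.ble 9 c)
noncomputable def clsTab_s_11_13 (c : Nat) : Nat := @Bool.rec (fun _ => Nat) (clsTab_11) (clsTab_12) (Nat.ble 12 c)
noncomputable def clsTab_s_13_15 (c : Nat) : Nat := @Bool.rec (fun _ => Nat) (clsTab_13) (clsTab_14) (Nat.ble 14 c)
noncomputable def clsTab_s_11_15 (c : Nat) : Nat := @Bool.rec (fun _ => Nat) (clsTab_s_11_13 c) (clsTab_s_13_15 c) (Nat.ble 13 c)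
noncomputable def clsTab_s_7_15 (c : Nat) : Nat := @Bool.rec (fun _ => Nat) (clsTab_s_7_11 c) (clsTab_s_11_15 c) (Nat.ble 11 c)
noncomputable def clsTab_s_0_15 (c : Nat) : Nat := @Bool.rec (fun _ => Nat) (clsTab_s_0_7 c) (clsTab_s_7_15 c) (Nat.ble 7 c)
noncomputable def clsTab_s_15_17 (c : Nat) : Nat := @Bool.rec (fun _ => Nat) (clsTab_15) (clsTab_16) (Nat.ble 16 c)
noncomputable def clsTab_s_17_19 (c : Nat) : Nat := @Bool.rec (fun _ => Nat) (clsTab_17) (clsTab_18) (Nat.ble 18 c)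
noncomputable def clsTab_s_15_19 (c : Nat) : Nat := @Bool.rec (fun _ => Nat) (clsTab_s_15_17 c) (clsTab_s_17_19 c) (Nat.ble 17 c)
noncomputable def clsTab_s_19_21 (c : Nat) : Nat := @Bool.rec (fun _ => Nat) (clsTab_19) (clsTab_20) (Nat.ble 20 c)
noncomputable def clsTab_s_21_23 (c : Nat) : Nat := @Bool.rec (fun _ => Nat) (clsTab_21) (clsTab_22) (Nat.ble 22 c)
noncomputable def clsTab_s_19_23 (c : Nat) : Nat := @Bool.rec (fun _ => Nat) (clsTab_s_19_21 c) (clsTab_s_21_23 c) (Nat.ble 21 c)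
noncomputable def clsTab_s_15_23 (c : Nat) : Nat := @Bool.rec (fun _ => Nat) (clsTab_s_15_19 c) (clsTab_s_19_23 c) (Nat.ble 19 c)
noncomputable def clsTab_s_23_25 (c : Nat) : Nat := @Bool.rec (fun _ => Nat) (clsTab_23) (clsTab_24) (Nat.ble 24 c)
noncomputable def clsTab_s_25_27 (c : Nat) : Nat := @Bool.rec (fun _ => Nat) (clsTab_25) (clsTab_26) (Nat.ble 26 c)
noncomputable def clsTab_s_23_27 (c : Nat) : Nat := @Bool.rec (fun _ => Nat) (clsTab_s_23_25 c) (clsTab_s_25_27 c) (Nat.ble 25 c)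
noncomputable def clsTab_s_27_29 (c : Nat) : Nat := @Bool.rec (fun _ => Nat) (clsTab_27) (clsTab_28) (Nat.ble 28 c)
noncomputable def clsTab_s_29_31 (c : Nat) : Nat := @Bool.rec (fun _ => Nat) (clsTab_29) (clsTab_30) (Nat.ble 30 c)
noncomputable def clsTab_s_27_31 (c : Nat) : Nat := @Bool.rec (fun _ => Nat) (clsTab_s_27_29 c) (clsTab_s_29_31 c) (Nat.ble 29 c)
noncomputable def clsTab_s_23_31 (c : Nat) : Nat := @Bool.rec (fun _ => Nat) (clsTab_s_23_27 c) (clsTab_s_27_31 c) (Nat.ble 27 c)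
noncomputable def clsTab_s_15_31 (c : Nat) : Nat := @Bool.rec (fun _ => Nat) (clsTab_s_15_23 c) (clsTab_s_23_31 c) (Nat.ble 23 c)
noncomputable def clsTab_s_0_31 (c : Nat) : Nat := @Bool.rec (fun _ => Nat) (clsTab_s_0_15 c) (clsTab_s_15_31 c) (Nat.ble 15 c)
noncomputable def clsTab (i : Nat) : Nat := rdw 11 2047 (clsTab_s_0_31 (Nat.shiftRight i 13)) (Nat.land i 8191)
noncomputable def oparTab (i : Nat) : Nat := rdw 11 2047 oparTab_0 i
noncomputable def olabTab (i : Nat) : Nat := rdw 2 3 olabTab_0 i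
noncomputable def srcF (t : Nat) : Nat := Nat.land (Atab t) 262143
noncomputable def tgtF (t : Nat) : Nat := Nat.land (Nat.shiftRight (Atab t) 18) 262143
noncomputable def ltF (t : Nat) : Nat := Nat.shiftRight (Atab t) 36
noncomputable def rhoF (t : Nat) : Nat := Nat.land (Btab (Nat.sub t 250314)) 127
noncomputable def rotF (t : Nat) : Nat := Nat.land (Nat.shiftRight (Btab (Nat.sub t 250314)) 7) 31
noncomputable def lenF (t : Nat) : Nat := Nat.land (Nat.shiftRight (Btab (Nat.sub t 250314)) 12) 31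
noncomputable def offF (t : Nat) : Nat := Nat.shiftRight (Btab (Nat.sub t 250314)) 17
noncomputable def pfF (j : Nat) : Nat := Nat.shiftRight (Ptab j) 1
noncomputable def pdF (j : Nat) : Nat := Nat.land (Ptab j) 1
noncomputable def tblF (i x : Nat) : Nat := @Bool.rec (fun _ => Nat) (@Bool.rec (fun _ => Nat) (@Bool.rec (fun _ => Nat) (@Bool.rec (fun _ => Nat) (col0 i) (col1 i) (Nat.ble 1 x)) (@Bool.rec (fun _ => Nat) (col2 i) (col3 i) (Nat.ble 3 x)) (Nat.ble 2 x)) (@Bool.rec (fun _ => Nat) (@Bool.rec (fun _ => Nat) (col4 i) (col5 i) (Nat.ble 5 x)) (@Bool.rec (fun _ => Nat) (col6 i) (@Bool.rec (fun _ => Nat) (col7 i) (col8 i) (Nat.ble 8 x)) (Nat.ble 7 x)) (Nat.ble 6 x)) (Nat.ble 4 x)) (@Bool.rec (fun _ => Nat) (@Bool.rec (fun _ => Nat) (@Bool.rec (fun _ => Nat) (col9 i) (col10 i) (Nat.ble 10 x)) (@Bool.rec (fun _ => Nat) (col11 i) (col12 i) (Nat.ble 12 x)) (Nat.ble 11 x)) (@Bool.rec (fun _ => Nat) (@Bool.rec (fun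 _ => Nat) (col13 i) (col14 i) (Nat.ble 14 x)) (@Bool.rec (fun _ => Nat) (col15 i) (@Bool.rec (fun _ => Nat) (col16 i) (col17 i) (Nat.ble 17 x)) (Nat.ble 16 x)) (Nat.ble 15 x)) (Nat.ble 13 x)) (Nat.ble 9 x)
noncomputable def finE (i x : Nat) : Nat := finTab (Nat.add (Nat.mul i 18) x)
noncomputable def finFF (i x : Nat) : Nat := Nat.shiftRight (finE i x) 1
noncomputable def finDF (i x : Nat) : Nat := Nat.land (finE i x) 1

noncomputable def D : Log :=
  { k := 18, inv := invE 18 PSM23pp2.invR, nR := 116, rBase := rBtab, rLen := rLtab, RR := RRtab,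
    M := 250310, nB := 4, F := 796683, src := srcF, lt := ltF, tgt := tgtF, rho := rhoF, rot := rotF,
    off := offF, len := lenF, pf := pfF, pd := pdF }

noncomputable def T : Tab :=
  { N := 1288, nameOf := nameTab, tbl := tblF, finF := finFF, finD := finDF, cls := clsTab }

def subs : List (List Nat) := [
  [0],
  [2] ]

def rw0 : List Nat := [0, 0]
def rw1 : List Nat := [2, 2, 2, 2]
def rw2 : List Nat := [4, 4, 4, 4, 4, 4, 4, 4, 4, 4, 4, 4, 4, 4, 4, 4, 4, 4, 4, 4, 4, 4, 4]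
def rw3 : List Nat := [7, 0, 2, 4, 3, 1, 5, 5]
def rw4 : List Nat := [9, 0, 4, 0, 4, 3, 4, 0, 4, 4, 3, 5, 5]
def rw5 : List Nat := [11, 0, 4, 0, 5, 0, 4, 0, 5, 1, 4, 1, 5]
def rw6 : List Nat := [13, 0, 2, 0, 4, 4, 2, 0, 4, 4, 2, 5, 3, 5, 2, 2]
def rw7 : List Nat := [15, 0, 2, 5, 0, 4, 2, 5, 5, 1, 5, 1, 4, 2, 2, 5]
def rw8 : List Nat := [17, 0, 3, 5, 1, 4, 3, 4, 3, 3, 5, 0, 4, 3, 4, 3]
def rw9 : List Nat := [6, 6]
def rw10 : List Nat := [8, 8]
def rw11 : List Nat := [10, 10]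
def rw12 : List Nat := [12, 12]
def rw13 : List Nat := [14, 14]
def rw14 : List Nat := [16, 16]
def rw15 : List Nat := [6, 0, 7, 1]
def rw16 : List Nat := [6, 2, 7, 3]
def rw17 : List Nat := [6, 4, 7, 5]
def rw18 : List Nat := [8, 0, 9, 1]
def rw19 : List Nat := [8, 2, 9, 3]
def rw20 : List Nat := [8, 4, 9, 5]
def rw21 : List Nat := [10, 0, 11, 1]
def rw22 : List Nat := [10, 2, 11, 3]
def rw23 : List Nat := [10, 4, 11, 5]
def rw24 : List Nat := [12, 0, 13, 1]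
def rw25 : List Nat := [12, 2, 13, 3]
def rw26 : List Nat := [12, 4, 13, 5]
def rw27 : List Nat := [14, 0, 15, 1]
def rw28 : List Nat := [14, 2, 15, 3]
def rw29 : List Nat := [14, 4, 15, 5]
def rw30 : List Nat := [16, 0, 17, 1]
def rw31 : List Nat := [16, 2, 17, 3]
def rw32 : List Nat := [16, 4, 17, 5]
def rw33 : List Nat := [0, 0]
def rw34 : List Nat := [2, 2, 2, 2]
def rw35 : List Nat := [0, 2, 0, 2, 0, 2, 0, 2, 0, 2, 0, 2, 0, 2, 0, 2, 0, 2, 0, 2, 0, 2]
def rw36 : List Nat := [0, 2, 2, 0, 2, 2, 0, 2, 2, 0, 2, 2, 0, 2, 2, 0, 2, 2]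
def rw37 : List Nat := [0, 2, 0, 2, 0, 3, 0, 2, 0, 2, 2, 0, 3, 0, 2, 0, 3, 0, 3]
def realLit : List (List Nat) := [rw0, rw1, rw2, rw3, rw4, rw5, rw6, rw7, rw8, rw9, rw10, rw11, rw12, rw13, rw14, rw15, rw16, rw17, rw18, rw19, rw20, rw21, rw22, rw23, rw24, rw25, rw26, rw27, rw28, rw29, rw30, rw31, rw32, rw33, rw34, rw35, rw36, rw37]
noncomputable def actR0 (i : Nat) : Nat := col1 (col1 (i))
theorem actR0_eq (i : Nat) : actR0 i = Tab.act T D rw0 i := rfl
noncomputable def actR1 (i : Nat) : Nat := col3 (col3 (col3 (col3 (i))))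
theorem actR1_eq (i : Nat) : actR1 i = Tab.act T D rw1 i := rfl
noncomputable def actR2 (i : Nat) : Nat := col5 (col5 (col5 (col5 (col5 (col5 (col5 (col5 (col5 (col5 (col5 (col5 (col5 (col5 (col5 (col5 (col5 (col5 (col5 (col5 (col5 (col5 (col5 (i)))))))))))))))))))))))
theorem actR2_eq (i : Nat) : actR2 i = Tab.act T D rw2 i := rfl
noncomputable def actR3 (i : Nat) : Nat := col6 (col1 (col3 (col5 (col2 (col0 (col4 (col4 (i))))))))
theorem actR3_eq (i : Nat) : actR3 i = Tab.act T D rw3 i := rfl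
noncomputable def actR4 (i : Nat) : Nat := col8 (col1 (col5 (col1 (col5 (col2 (col5 (col1 (col5 (col5 (col2 (col4 (col4 (i)))))))))))))
theorem actR4_eq (i : Nat) : actR4 i = Tab.act T D rw4 i := rfl
noncomputable def actR5 (i : Nat) : Nat := col10 (col1 (col5 (col1 (col4 (col1 (col5 (col1 (col4 (col0 (col5 (col0 (col4 (i)))))))))))))
theorem actR5_eq (i : Nat) : actR5 i = Tab.act T D rw5 i := rfl
noncomputable def actR6 (i : Nat) : Nat := col12 (col1 (col3 (col1 (col5 (col5 (col3 (col1 (col5 (col5 (col3 (col4 (col2 (col4 (col3 (col3 (i))))))))))))))))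
theorem actR6_eq (i : Nat) : actR6 i = Tab.act T D rw6 i := rfl
noncomputable def actR7 (i : Nat) : Nat := col14 (col1 (col3 (col4 (col1 (col5 (col3 (col4 (col4 (col0 (col4 (col0 (col5 (col3 (col3 (col4 (i))))))))))))))))
theorem actR7_eq (i : Nat) : actR7 i = Tab.act T D rw7 i := rfl
noncomputable def actR8 (i : Nat) : Nat := col16 (col1 (col2 (col4 (col0 (col5 (col2 (col5 (col2 (col2 (col4 (col1 (col5 (col2 (col5 (col2 (i))))))))))))))))
theorem actR8_eq (i : Nat) : actR8 i = Tab.act T D rw8 i := rfl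
noncomputable def actR9 (i : Nat) : Nat := col7 (col7 (i))
theorem actR9_eq (i : Nat) : actR9 i = Tab.act T D rw9 i := rfl
noncomputable def actR10 (i : Nat) : Nat := col9 (col9 (i))
theorem actR10_eq (i : Nat) : actR10 i = Tab.act T D rw10 i := rfl
noncomputable def actR11 (i : Nat) : Nat := col11 (col11 (i))
theorem actR11_eq (i : Nat) : actR11 i = Tab.act T D rw11 i := rfl
noncomputable def actR12 (i : Nat) : Nat := col13 (col13 (i))
theorem actR12_eq (i : Nat) : actR12 i = Tab.act T D rw12 i := rfl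
noncomputable def actR13 (i : Nat) : Nat := col15 (col15 (i))
theorem actR13_eq (i : Nat) : actR13 i = Tab.act T D rw13 i := rfl
noncomputable def actR14 (i : Nat) : Nat := col17 (col17 (i))
theorem actR14_eq (i : Nat) : actR14 i = Tab.act T D rw14 i := rfl
noncomputable def actR15 (i : Nat) : Nat := col7 (col1 (col6 (col0 (i))))
theorem actR15_eq (i : Nat) : actR15 i = Tab.act T D rw15 i := rfl
noncomputable def actR16 (i : Nat) : Nat := col7 (col3 (col6 (col2 (i))))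
theorem actR16_eq (i : Nat) : actR16 i = Tab.act T D rw16 i := rfl
noncomputable def actR17 (i : Nat) : Nat := col7 (col5 (col6 (col4 (i))))
theorem actR17_eq (i : Nat) : actR17 i = Tab.act T D rw17 i := rfl
noncomputable def actR18 (i : Nat) : Nat := col9 (col1 (col8 (col0 (i))))
theorem actR18_eq (i : Nat) : actR18 i = Tab.act T D rw18 i := rfl
noncomputable def actR19 (i : Nat) : Nat := col9 (col3 (col8 (col2 (i))))
theorem actR19_eq (i : Nat) : actR19 i = Tab.act T D rw19 i := rfl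
noncomputable def actR20 (i : Nat) : Nat := col9 (col5 (col8 (col4 (i))))
theorem actR20_eq (i : Nat) : actR20 i = Tab.act T D rw20 i := rfl
noncomputable def actR21 (i : Nat) : Nat := col11 (col1 (col10 (col0 (i))))
theorem actR21_eq (i : Nat) : actR21 i = Tab.act T D rw21 i := rfl
noncomputable def actR22 (i : Nat) : Nat := col11 (col3 (col10 (col2 (i))))
theorem actR22_eq (i : Nat) : actR22 i = Tab.act T D rw22 i := rfl
noncomputable def actR23 (i : Nat) : Nat := col11 (col5 (col10 (col4 (i))))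
theorem actR23_eq (i : Nat) : actR23 i = Tab.act T D rw23 i := rfl
noncomputable def actR24 (i : Nat) : Nat := col13 (col1 (col12 (col0 (i))))
theorem actR24_eq (i : Nat) : actR24 i = Tab.act T D rw24 i := rfl
noncomputable def actR25 (i : Nat) : Nat := col13 (col3 (col12 (col2 (i))))
theorem actR25_eq (i : Nat) : actR25 i = Tab.act T D rw25 i := rfl
noncomputable def actR26 (i : Nat) : Nat := col13 (col5 (col12 (col4 (i))))
theorem actR26_eq (i : Nat) : actR26 i = Tab.act T D rw26 i := rfl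
noncomputable def actR27 (i : Nat) : Nat := col15 (col1 (col14 (col0 (i))))
theorem actR27_eq (i : Nat) : actR27 i = Tab.act T D rw27 i := rfl
noncomputable def actR28 (i : Nat) : Nat := col15 (col3 (col14 (col2 (i))))
theorem actR28_eq (i : Nat) : actR28 i = Tab.act T D rw28 i := rfl
noncomputable def actR29 (i : Nat) : Nat := col15 (col5 (col14 (col4 (i))))
theorem actR29_eq (i : Nat) : actR29 i = Tab.act T D rw29 i := rfl
noncomputable def actR30 (i : Nat) : Nat := col17 (col1 (col16 (col0 (i))))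
theorem actR30_eq (i : Nat) : actR30 i = Tab.act T D rw30 i := rfl
noncomputable def actR31 (i : Nat) : Nat := col17 (col3 (col16 (col2 (i))))
theorem actR31_eq (i : Nat) : actR31 i = Tab.act T D rw31 i := rfl
noncomputable def actR32 (i : Nat) : Nat := col17 (col5 (col16 (col4 (i))))
theorem actR32_eq (i : Nat) : actR32 i = Tab.act T D rw32 i := rfl
noncomputable def actR33 (i : Nat) : Nat := col1 (col1 (i))
theorem actR33_eq (i : Nat) : actR33 i = Tab.act T D rw33 i := rfl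
noncomputable def actR34 (i : Nat) : Nat := col3 (col3 (col3 (col3 (i))))
theorem actR34_eq (i : Nat) : actR34 i = Tab.act T D rw34 i := rfl
noncomputable def actR35 (i : Nat) : Nat := col1 (col3 (col1 (col3 (col1 (col3 (col1 (col3 (col1 (col3 (col1 (col3 (col1 (col3 (col1 (col3 (col1 (col3 (col1 (col3 (col1 (col3 (i))))))))))))))))))))))
theorem actR35_eq (i : Nat) : actR35 i = Tab.act T D rw35 i := rfl
noncomputable def actR36 (i : Nat) : Nat := col1 (col3 (col3 (col1 (col3 (col3 (col1 (col3 (col3 (col1 (col3 (col3 (col1 (col3 (col3 (col1 (col3 (col3 (i))))))))))))))))))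
theorem actR36_eq (i : Nat) : actR36 i = Tab.act T D rw36 i := rfl
noncomputable def actR37 (i : Nat) : Nat := col1 (col3 (col1 (col3 (col1 (col2 (col1 (col3 (col1 (col3 (col3 (col1 (col2 (col1 (col3 (col1 (col2 (col1 (col2 (i)))))))))))))))))))
theorem actR37_eq (i : Nat) : actR37 i = Tab.act T D rw37 i := rfl

end Cfsg.Agent.Lib.Helper4.TCD.SM23pp2A
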