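import Cfsg.Agent.Lib.Helper4.TCD_SM23pp2A_Acc

namespace Cfsg.Agent.Lib.Helper4.TCD.SM23pp2A

open Cfsg.Agent.Lib.Helper4.TC

set_option maxRecDepth 100000
set_option Elab.async false

theorem c_zero : D.zeroOK = true := by decide +kernel
theorem c_base : allBelow D.baseOK 4 = true := by decide +kernel
theorem c_let : allBelow D.letOK 18 = true := by decide +kernel
theorem c_cls0 : T.cls 0 = 0 := by decide +kernel
theorem c_name0 : T.nameOf 0 = 0 := by decide +kernel
theorem c_tab : D.relTabOK 0 (baseRels 18 PSM23pp2.invR PSM23pp2.P.real subs ++ (baseRels 18 PSM23pp2.invR PSM23pp2.P.real subs).map (invWord D.inv)) = true := by decide +kernel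
theorem c_real : PSM23pp2.P.real = realLit := by decide +kernel
theorem c_subfix : subs.all (fun u => Nat.beq (Tab.act T D u 0) 0) = true := by decide +kernel
theorem c_subs : subs.all (fun u => u.all (fun x => Nat.ble (Nat.succ x) 18)) = true := by decide +kernel
theorem c_names_0 : allRange D.nameOK 1 60000 = true := by decide +kernel
theorem c_names_1 : allRange D.nameOK 60001 60000 = true := by decide +kernel
theorem c_names_2 : allRange D.nameOK 120001 60000 = true := by decide +kernel
theorem c_names_3 : allRange D.nameOK 180001 60000 = true := by decide +kernel
theorem c_names_4 : allRange D.nameOK 240001 10309 = true := by decide +kernel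
theorem c_cls_0 : allRange (T.clsOK D) 1 15000 = true := by decide +kernel
theorem c_cls_1 : allRange (T.clsOK D) 15001 15000 = true := by decide +kernel
theorem c_cls_2 : allRange (T.clsOK D) 30001 15000 = true := by decide +kernel
theorem c_cls_3 : allRange (T.clsOK D) 45001 15000 = true := by decide +kernel
theorem c_cls_4 : allRange (T.clsOK D) 60001 15000 = true := by decide +kernel
theorem c_cls_5 : allRange (T.clsOK D) 75001 15000 = true := by decide +kernel
theorem c_cls_6 : allRange (T.clsOK D) 90001 15000 = true := by decide +kernel
theorem c_cls_7 : allRange (T.clsOK D) 105001 15000 = true := by decide +kernel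
theorem c_cls_8 : allRange (T.clsOK D) 120001 15000 = true := by decide +kernel
theorem c_cls_9 : allRange (T.clsOK D) 135001 15000 = true := by decide +kernel
theorem c_cls_10 : allRange (T.clsOK D) 150001 15000 = true := by decide +kernel
theorem c_cls_11 : allRange (T.clsOK D) 165001 15000 = true := by decide +kernel
theorem c_cls_12 : allRange (T.clsOK D) 180001 15000 = true := by decide +kernel
theorem c_cls_13 : allRange (T.clsOK D) 195001 15000 = true := by decide +kernel
theorem c_cls_14 : allRange (T.clsOK D) 210001 15000 = true := by decide +kernel
theorem c_cls_15 : allRange (T.clsOK D) 225001 15000 = true := by decide +kernel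
theorem c_cls_16 : allRange (T.clsOK D) 240001 10309 = true := by decide +kernel
theorem c_rep_0 : allRange (T.repOK D) 0 1288 = true := by decide +kernel
theorem c_rel_0 : allRange D.relOK 250314 3993 = true := by decide +kernel
theorem c_rel_1 : allRange D.relOK 254307 4011 = true := by decide +kernel
theorem c_rel_2 : allRange D.relOK 258318 3943 = true := by decide +kernel
theorem c_rel_3 : allRange D.relOK 262261 3893 = true := by decide +kernel
theorem c_rel_4 : allRange D.relOK 266154 3840 = true := by decide +kernel
theorem c_rel_5 : allRange D.relOK 269994 3795 = true := by decide +kernel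
theorem c_rel_6 : allRange D.relOK 273789 3795 = true := by decide +kernel
theorem c_rel_7 : allRange D.relOK 277584 3814 = true := by decide +kernel
theorem c_rel_8 : allRange D.relOK 281398 3785 = true := by decide +kernel
theorem c_rel_9 : allRange D.relOK 285183 3796 = true := by decide +kernel
theorem c_rel_10 : allRange D.relOK 288979 3825 = true := by decide +kernel
theorem c_rel_11 : allRange D.relOK 292804 3798 = true := by decide +kernel
theorem c_rel_12 : allRange D.relOK 296602 3855 = true := by decide +kernel
theorem c_rel_13 : allRange D.relOK 300457 3827 = true := by decide +kernel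
theorem c_rel_14 : allRange D.relOK 304284 3797 = true := by decide +kernel
theorem c_rel_15 : allRange D.relOK 308081 3840 = true := by decide +kernel
theorem c_rel_16 : allRange D.relOK 311921 3845 = true := by decide +kernel
theorem c_rel_17 : allRange D.relOK 315766 3852 = true := by decide +kernel
theorem c_rel_18 : allRange D.relOK 319618 3840 = true := by decide +kernel
theorem c_rel_19 : allRange D.relOK 323458 3847 = true := by decide +kernel
theorem c_rel_20 : allRange D.relOK 327305 3785 = true := by decide +kernel
theorem c_rel_21 : allRange D.relOK 331090 3748 = true := by decide +kernel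
theorem c_rel_22 : allRange D.relOK 334838 3602 = true := by decide +kernel
theorem c_rel_23 : allRange D.relOK 338440 2975 = true := by decide +kernel
theorem c_rel_24 : allRange D.relOK 341415 2879 = true := by decide +kernel
theorem c_rel_25 : allRange D.relOK 344294 2836 = true := by decide +kernel
theorem c_rel_26 : allRange D.relOK 347130 3652 = true := by decide +kernel
theorem c_rel_27 : allRange D.relOK 350782 3710 = true := by decide +kernel
theorem c_rel_28 : allRange D.relOK 354492 3714 = true := by decide +kernel
theorem c_rel_29 : allRange D.relOK 358206 3733 = true := by decide +kernel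
theorem c_rel_30 : allRange D.relOK 361939 3703 = true := by decide +kernel
theorem c_rel_31 : allRange D.relOK 365642 3751 = true := by decide +kernel
theorem c_rel_32 : allRange D.relOK 369393 3739 = true := by decide +kernel
theorem c_rel_33 : allRange D.relOK 373132 3714 = true := by decide +kernel
theorem c_rel_34 : allRange D.relOK 376846 3737 = true := by decide +kernel
theorem c_rel_35 : allRange D.relOK 380583 3764 = true := by decide +kernel
theorem c_rel_36 : allRange D.relOK 384347 3766 = true := by decide +kernel
theorem c_rel_37 : allRange D.relOK 388113 3761 = true := by decide +kernel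
theorem c_rel_38 : allRange D.relOK 391874 3783 = true := by decide +kernel
theorem c_rel_39 : allRange D.relOK 395657 3692 = true := by decide +kernel
theorem c_rel_40 : allRange D.relOK 399349 3725 = true := by decide +kernel
theorem c_rel_41 : allRange D.relOK 403074 3720 = true := by decide +kernel
theorem c_rel_42 : allRange D.relOK 406794 3727 = true := by decide +kernel
theorem c_rel_43 : allRange D.relOK 410521 3712 = true := by decide +kernel
theorem c_rel_44 : allRange D.relOK 414233 3704 = true := by decide +kernel
theorem c_rel_45 : allRange D.relOK 417937 3773 = true := by decide +kernel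
theorem c_rel_46 : allRange D.relOK 421710 3676 = true := by decide +kernel
theorem c_rel_47 : allRange D.relOK 425386 3712 = true := by decide +kernel
theorem c_rel_48 : allRange D.relOK 429098 3701 = true := by decide +kernel
theorem c_rel_49 : allRange D.relOK 432799 3676 = true := by decide +kernel
theorem c_rel_50 : allRange D.relOK 436475 3725 = true := by decide +kernel
theorem c_rel_51 : allRange D.relOK 440200 3657 = true := by decide +kernel
theorem c_rel_52 : allRange D.relOK 443857 3759 = true := by decide +kernel
theorem c_rel_53 : allRange D.relOK 447616 3687 = true := by decide +kernel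
theorem c_rel_54 : allRange D.relOK 451303 3642 = true := by decide +kernel
theorem c_rel_55 : allRange D.relOK 454945 3724 = true := by decide +kernel
theorem c_rel_56 : allRange D.relOK 458669 3668 = true := by decide +kernel
theorem c_rel_57 : allRange D.relOK 462337 3650 = true := by decide +kernel

end Cfsg.Agent.Lib.Helper4.TCD.SM23pp2A
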