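import Cfsg.Agent.Lib.Helper4.TCD_SS44pp2A_Acc

namespace Cfsg.Agent.Lib.Helper4.TCD.SS44pp2A

open Cfsg.Agent.Lib.Helper4.TC

set_option maxRecDepth 100000
set_option Elab.async false

theorem c_zero : D.zeroOK = true := by decide +kernel
theorem c_base : allBelow D.baseOK 4 = true := by decide +kernel
theorem c_let : allBelow D.letOK 16 = true := by decide +kernel
theorem c_cls0 : T.cls 0 = 0 := by decide +kernel
theorem c_name0 : T.nameOf 0 = 0 := by decide +kernel
theorem c_tab : D.relTabOK 0 (baseRels 16 PSS44pp2.invR PSS44pp2.P.real subs ++ (baseRels 16 PSS44pp2.invR PSS44pp2.P.real subs).map (invWord D.inv)) = true := by decide +kernel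
theorem c_real : PSS44pp2.P.real = realLit := by decide +kernel
theorem c_subfix : subs.all (fun u => Nat.beq (Tab.act T D u 0) 0) = true := by decide +kernel
theorem c_subs : subs.all (fun u => u.all (fun x => Nat.ble (Nat.succ x) 16)) = true := by decide +kernel
theorem c_names_0 : allRange D.nameOK 1 43464 = true := by decide +kernel
theorem c_cls_0 : allRange (T.clsOK D) 1 15000 = true := by decide +kernel
theorem c_cls_1 : allRange (T.clsOK D) 15001 15000 = true := by decide +kernel
theorem c_cls_2 : allRange (T.clsOK D) 30001 13464 = true := by decide +kernel
theorem c_rep_0 : allRange (T.repOK D) 0 240 = true := by decide +kernel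
theorem c_rel_0 : allRange D.relOK 43469 3876 = true := by decide +kernel
theorem c_rel_1 : allRange D.relOK 47345 3986 = true := by decide +kernel
theorem c_rel_2 : allRange D.relOK 51331 4028 = true := by decide +kernel
theorem c_rel_3 : allRange D.relOK 55359 4001 = true := by decide +kernel
theorem c_rel_4 : allRange D.relOK 59360 4044 = true := by decide +kernel
theorem c_rel_5 : allRange D.relOK 63404 3899 = true := by decide +kernel
theorem c_rel_6 : allRange D.relOK 67303 3880 = true := by decide +kernel
theorem c_rel_7 : allRange D.relOK 71183 3824 = true := by decide +kernel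
theorem c_rel_8 : allRange D.relOK 75007 4054 = true := by decide +kernel
theorem c_rel_9 : allRange D.relOK 79061 3882 = true := by decide +kernel
theorem c_rel_10 : allRange D.relOK 82943 3917 = true := by decide +kernel
theorem c_rel_11 : allRange D.relOK 86860 3888 = true := by decide +kernel
theorem c_rel_12 : allRange D.relOK 90748 3909 = true := by decide +kernel
theorem c_rel_13 : allRange D.relOK 94657 3941 = true := by decide +kernel
theorem c_rel_14 : allRange D.relOK 98598 3668 = true := by decide +kernel
theorem c_rel_15 : allRange D.relOK 102266 2907 = true := by decide +kernel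
theorem c_rel_16 : allRange D.relOK 105173 3222 = true := by decide +kernel
theorem c_rel_17 : allRange D.relOK 108395 3540 = true := by decide +kernel
theorem c_rel_18 : allRange D.relOK 111935 3311 = true := by decide +kernel
theorem c_rel_19 : allRange D.relOK 115246 3291 = true := by decide +kernel
theorem c_rel_20 : allRange D.relOK 118537 3181 = true := by decide +kernel
theorem c_rel_21 : allRange D.relOK 121718 3223 = true := by decide +kernel
theorem c_rel_22 : allRange D.relOK 124941 3110 = true := by decide +kernel
theorem c_rel_23 : allRange D.relOK 128051 2894 = true := by decide +kernel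
theorem c_rel_24 : allRange D.relOK 130945 2952 = true := by decide +kernel
theorem c_rel_25 : allRange D.relOK 133897 2912 = true := by decide +kernel
theorem c_rel_26 : allRange D.relOK 136809 2733 = true := by decide +kernel
theorem c_rel_27 : allRange D.relOK 139542 2550 = true := by decide +kernel
theorem c_rel_28 : allRange D.relOK 142092 3250 = true := by decide +kernel
theorem c_rel_29 : allRange D.relOK 145342 1072 = true := by decide +kernel
theorem c_fin_0 : allGrid (T.finOK D) 0 240 16 = true := by decide +kernel
theorem c_perm_0 : allGrid (T.permOK1 D) 0 240 16 = true := by decide +kernel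
theorem c_act0_0 : allRange (fun i => Nat.beq (actR0 i) i) 0 240 = true := by decide +kernel
theorem c_act1_0 : allRange (fun i => Nat.beq (actR1 i) i) 0 240 = true := by decide +kernel
theorem c_act2_0 : allRange (fun i => Nat.beq (actR2 i) i) 0 240 = true := by decide +kernel
theorem c_act3_0 : allRange (fun i => Nat.beq (actR3 i) i) 0 240 = true := by decide +kernel
theorem c_act4_0 : allRange (fun i => Nat.beq (actR4 i) i) 0 240 = true := by decide +kernel
theorem c_act5_0 : allRange (fun i => Nat.beq (actR5 i) i) 0 240 = true := by decide +kernel
theorem c_act6_0 : allRange (fun i => Nat.beq (actR6 i) i) 0 240 = true := by decide +kernel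
theorem c_act7_0 : allRange (fun i => Nat.beq (actR7 i) i) 0 240 = true := by decide +kernel
theorem c_act8_0 : allRange (fun i => Nat.beq (actR8 i) i) 0 240 = true := by decide +kernel
theorem c_act9_0 : allRange (fun i => Nat.beq (actR9 i) i) 0 240 = true := by decide +kernel
theorem c_act10_0 : allRange (fun i => Nat.beq (actR10 i) i) 0 240 = true := by decide +kernel
theorem c_act11_0 : allRange (fun i => Nat.beq (actR11 i) i) 0 240 = true := by decide +kernel
theorem c_act12_0 : allRange (fun i => Nat.beq (actR12 i) i) 0 240 = true := by decide +kernel
theorem c_act13_0 : allRange (fun i => Nat.beq (actR13 i) i) 0 240 = true := by decide +kernel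
theorem c_act14_0 : allRange (fun i => Nat.beq (actR14 i) i) 0 240 = true := by decide +kernel
theorem c_act15_0 : allRange (fun i => Nat.beq (actR15 i) i) 0 240 = true := by decide +kernel
theorem c_act16_0 : allRange (fun i => Nat.beq (actR16 i) i) 0 240 = true := by decide +kernel
theorem c_act17_0 : allRange (fun i => Nat.beq (actR17 i) i) 0 240 = true := by decide +kernel
theorem c_act18_0 : allRange (fun i => Nat.beq (actR18 i) i) 0 240 = true := by decide +kernel
theorem c_act19_0 : allRange (fun i => Nat.beq (actR19 i) i) 0 240 = true := by decide +kernel
theorem c_act20_0 : allRange (fun i => Nat.beq (actR20 i) i) 0 240 = true := by decide +kernel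
theorem c_act21_0 : allRange (fun i => Nat.beq (actR21 i) i) 0 240 = true := by decide +kernel
theorem c_act22_0 : allRange (fun i => Nat.beq (actR22 i) i) 0 240 = true := by decide +kernel
theorem c_act23_0 : allRange (fun i => Nat.beq (actR23 i) i) 0 240 = true := by decide +kernel
theorem c_act24_0 : allRange (fun i => Nat.beq (actR24 i) i) 0 240 = true := by decide +kernel
theorem c_act25_0 : allRange (fun i => Nat.beq (actR25 i) i) 0 240 = true := by decide +kernel
theorem c_act26_0 : allRange (fun i => Nat.beq (actR26 i) i) 0 240 = true := by decide +kernel
theorem c_act27_0 : allRange (fun i => Nat.beq (actR27 i) i) 0 240 = true := by decide +kernel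
theorem c_act28_0 : allRange (fun i => Nat.beq (actR28 i) i) 0 240 = true := by decide +kernel
theorem c_act29_0 : allRange (fun i => Nat.beq (actR29 i) i) 0 240 = true := by decide +kernel
theorem c_act30_0 : allRange (fun i => Nat.beq (actR30 i) i) 0 240 = true := by decide +kernel
theorem c_act31_0 : allRange (fun i => Nat.beq (actR31 i) i) 0 240 = true := by decide +kernel

end Cfsg.Agent.Lib.Helper4.TCD.SS44pp2A
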