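import Cfsg.Agent.Lib.Helper4.TC7
import Cfsg.Agent.Lib.Helper4.TCP_STitspp2
import Cfsg.Agent.Lib.Helper4.TCD_STitspp2A_D0
import Cfsg.Agent.Lib.Helper4.TCD_STitspp2A_D1
import Cfsg.Agent.Lib.Helper4.TCD_STitspp2A_D2
import Cfsg.Agent.Lib.Helper4.TCD_STitspp2A_D3
import Cfsg.Agent.Lib.Helper4.TCD_STitspp2A_D4
import Cfsg.Agent.Lib.Helper4.TCD_STitspp2A_D5
import Cfsg.Agent.Lib.Helper4.TCD_STitspp2A_D6
import Cfsg.Agent.Lib.Helper4.TCD_STitspp2A_D7
import Cfsg.Agent.Lib.Helper4.TCD_STitspp2A_D8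
import Cfsg.Agent.Lib.Helper4.TCD_STitspp2A_D9
import Cfsg.Agent.Lib.Helper4.TCD_STitspp2A_D10
import Cfsg.Agent.Lib.Helper4.TCD_STitspp2A_D11
import Cfsg.Agent.Lib.Helper4.TCD_STitspp2A_D12
import Cfsg.Agent.Lib.Helper4.TCD_STitspp2A_D13
import Cfsg.Agent.Lib.Helper4.TCD_STitspp2A_D14
import Cfsg.Agent.Lib.Helper4.TCD_STitspp2A_D15
import Cfsg.Agent.Lib.Helper4.TCD_STitspp2A_D16
import Cfsg.Agent.Lib.Helper4.TCD_STitspp2A_D17
import Cfsg.Agent.Lib.Helper4.TCD_STitspp2A_D18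
import Cfsg.Agent.Lib.Helper4.TCD_STitspp2A_D19
import Cfsg.Agent.Lib.Helper4.TCD_STitspp2A_D20
import Cfsg.Agent.Lib.Helper4.TCD_STitspp2A_D21
import Cfsg.Agent.Lib.Helper4.TCD_STitspp2A_D22
import Cfsg.Agent.Lib.Helper4.TCD_STitspp2A_D23
import Cfsg.Agent.Lib.Helper4.TCD_STitspp2A_D24
import Cfsg.Agent.Lib.Helper4.TCD_STitspp2A_D25
import Cfsg.Agent.Lib.Helper4.TCD_STitspp2A_D26
import Cfsg.Agent.Lib.Helper4.TCD_STitspp2A_D27
import Cfsg.Agent.Lib.Helper4.TCD_STitspp2A_D28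
import Cfsg.Agent.Lib.Helper4.TCD_STitspp2A_D29
import Cfsg.Agent.Lib.Helper4.TCD_STitspp2A_D30
import Cfsg.Agent.Lib.Helper4.TCD_STitspp2A_D31
import Cfsg.Agent.Lib.Helper4.TCD_STitspp2A_D32
import Cfsg.Agent.Lib.Helper4.TCD_STitspp2A_D33
import Cfsg.Agent.Lib.Helper4.TCD_STitspp2A_D34
import Cfsg.Agent.Lib.Helper4.TCD_STitspp2A_D35
import Cfsg.Agent.Lib.Helper4.TCD_STitspp2A_D36
import Cfsg.Agent.Lib.Helper4.TCD_STitspp2A_D37
import Cfsg.Agent.Lib.Helper4.TCD_STitspp2A_D38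
import Cfsg.Agent.Lib.Helper4.TCD_STitspp2A_D39
import Cfsg.Agent.Lib.Helper4.TCD_STitspp2A_D40
import Cfsg.Agent.Lib.Helper4.TCD_STitspp2A_D41
import Cfsg.Agent.Lib.Helper4.TCD_STitspp2A_D42
import Cfsg.Agent.Lib.Helper4.TCD_STitspp2A_D43
import Cfsg.Agent.Lib.Helper4.TCD_STitspp2A_D44
import Cfsg.Agent.Lib.Helper4.TCD_STitspp2A_D45
import Cfsg.Agent.Lib.Helper4.TCD_STitspp2A_D46
import Cfsg.Agent.Lib.Helper4.TCD_STitspp2A_D47
import Cfsg.Agent.Lib.Helper4.TCD_STitspp2A_D48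
import Cfsg.Agent.Lib.Helper4.TCD_STitspp2A_D49
import Cfsg.Agent.Lib.Helper4.TCD_STitspp2A_D50
import Cfsg.Agent.Lib.Helper4.TCD_STitspp2A_D51
import Cfsg.Agent.Lib.Helper4.TCD_STitspp2A_D52
import Cfsg.Agent.Lib.Helper4.TCD_STitspp2A_D53
import Cfsg.Agent.Lib.Helper4.TCD_STitspp2A_D54
import Cfsg.Agent.Lib.Helper4.TCD_STitspp2A_D55
import Cfsg.Agent.Lib.Helper4.TCD_STitspp2A_D56
import Cfsg.Agent.Lib.Helper4.TCD_STitspp2A_D57
import Cfsg.Agent.Lib.Helper4.TCD_STitspp2A_D58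
import Cfsg.Agent.Lib.Helper4.TCD_STitspp2A_D59
import Cfsg.Agent.Lib.Helper4.TCD_STitspp2A_D60
import Cfsg.Agent.Lib.Helper4.TCD_STitspp2A_D61
import Cfsg.Agent.Lib.Helper4.TCD_STitspp2A_D62
import Cfsg.Agent.Lib.Helper4.TCD_STitspp2A_D63
import Cfsg.Agent.Lib.Helper4.TCD_STitspp2A_D64
import Cfsg.Agent.Lib.Helper4.TCD_STitspp2A_D65
import Cfsg.Agent.Lib.Helper4.TCD_STitspp2A_D66
import Cfsg.Agent.Lib.Helper4.TCD_STitspp2A_D67
import Cfsg.Agent.Lib.Helper4.TCD_STitspp2A_D68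
import Cfsg.Agent.Lib.Helper4.TCD_STitspp2A_D69
import Cfsg.Agent.Lib.Helper4.TCD_STitspp2A_D70
import Cfsg.Agent.Lib.Helper4.TCD_STitspp2A_D71
import Cfsg.Agent.Lib.Helper4.TCD_STitspp2A_D72
import Cfsg.Agent.Lib.Helper4.TCD_STitspp2A_D73
import Cfsg.Agent.Lib.Helper4.TCD_STitspp2A_D74
import Cfsg.Agent.Lib.Helper4.TCD_STitspp2A_D75
import Cfsg.Agent.Lib.Helper4.TCD_STitspp2A_D76
import Cfsg.Agent.Lib.Helper4.TCD_STitspp2A_D77
import Cfsg.Agent.Lib.Helper4.TCD_STitspp2A_D78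
import Cfsg.Agent.Lib.Helper4.TCD_STitspp2A_D79
import Cfsg.Agent.Lib.Helper4.TCD_STitspp2A_D80
import Cfsg.Agent.Lib.Helper4.TCD_STitspp2A_D81
import Cfsg.Agent.Lib.Helper4.TCD_STitspp2A_D82
import Cfsg.Agent.Lib.Helper4.TCD_STitspp2A_D83
import Cfsg.Agent.Lib.Helper4.TCD_STitspp2A_D84
import Cfsg.Agent.Lib.Helper4.TCD_STitspp2A_D85
import Cfsg.Agent.Lib.Helper4.TCD_STitspp2A_D86
import Cfsg.Agent.Lib.Helper4.TCD_STitspp2A_D87
import Cfsg.Agent.Lib.Helper4.TCD_STitspp2A_D88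
import Cfsg.Agent.Lib.Helper4.TCD_STitspp2A_D89

namespace Cfsg.Agent.Lib.Helper4.TCD.STitspp2A

open Cfsg.Agent.Lib.Helper4.TC

set_option maxRecDepth 100000

noncomputable def Atab_s_1_3 (c : Nat) : Nat := @Bool.rec (fun _ => Nat) (Atab_1) (Atab_2) (Nat.ble 2 c)
noncomputable def Atab_s_0_3 (c : Nat) : Nat := @Bool.rec (fun _ => Nat) (Atab_0) (Atab_s_1_3 c) (Nat.ble 1 c)
noncomputable def Atab_s_3_5 (c : Nat) : Nat := @Bool.rec (fun _ => Nat) (Atab_3) (Atab_4) (Nat.ble 4 c)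
noncomputable def Atab_s_5_7 (c : Nat) : Nat := @Bool.rec (fun _ => Nat) (Atab_5) (Atab_6) (Nat.ble 6 c)
noncomputable def Atab_s_3_7 (c : Nat) : Nat := @Bool.rec (fun _ => Nat) (Atab_s_3_5 c) (Atab_s_5_7 c) (Nat.ble 5 c)
noncomputable def Atab_s_0_7 (c : Nat) : Nat := @Bool.rec (fun _ => Nat) (Atab_s_0_3 c) (Atab_s_3_7 c) (Nat.ble 3 c)
noncomputable def Atab_s_8_10 (c : Nat) : Nat := @Bool.rec (fun _ => Nat) (Atab_8) (Atab_9) (Nat.ble 9 c)
noncomputable def Atab_s_7_10 (c : Nat) : Nat := @Bool.rec (fun _ => Nat) (Atab_7) (Atab_s_8_10 c) (Nat.ble 8 c)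
noncomputable def Atab_s_10_12 (c : Nat) : Nat := @Bool.rec (fun _ => Nat) (Atab_10) (Atab_11) (Nat.ble 11 c)
noncomputable def Atab_s_12_14 (c : Nat) : Nat := @Bool.rec (fun _ => Nat) (Atab_12) (Atab_13) (Nat.ble 13 c)
noncomputable def Atab_s_10_14 (c : Nat) : Nat := @Bool.rec (fun _ => Nat) (Atab_s_10_12 c) (Atab_s_12_14 c) (Nat.ble 12 c)
noncomputable def Atab_s_7_14 (c : Nat) : Nat := @Bool.rec (fun _ => Nat) (Atab_s_7_10 c) (Atab_s_10_14 c) (Nat.ble 10 c)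
noncomputable def Atab_s_0_14 (c : Nat) : Nat := @Bool.rec (fun _ => Nat) (Atab_s_0_7 c) (Atab_s_7_14 c) (Nat.ble 7 c)
noncomputable def Atab_s_15_17 (c : Nat) : Nat := @Bool.rec (fun _ => Nat) (Atab_15) (Atab_16) (Nat.ble 16 c)
noncomputable def Atab_s_14_17 (c : Nat) : Nat := @Bool.rec (fun _ => Nat) (Atab_14) (Atab_s_15_17 c) (Nat.ble 15 c)
noncomputable def Atab_s_17_19 (c : Nat) : Nat := @Bool.rec (fun _ => Nat) (Atab_17) (Atab_18) (Nat.ble 18 c)
noncomputable def Atab_s_19_21 (c : Nat) : Nat := @Bool.rec (fun _ => Nat) (Atab_19) (Atab_20) (Nat.ble 20 c)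
noncomputable def Atab_s_17_21 (c : Nat) : Nat := @Bool.rec (fun _ => Nat) (Atab_s_17_19 c) (Atab_s_19_21 c) (Nat.ble 19 c)
noncomputable def Atab_s_14_21 (c : Nat) : Nat := @Bool.rec (fun _ => Nat) (Atab_s_14_17 c) (Atab_s_17_21 c) (Nat.ble 17 c)
noncomputable def Atab_s_22_24 (c : Nat) : Nat := @Bool.rec (fun _ => Nat) (Atab_22) (Atab_23) (Nat.ble 23 c)
noncomputable def Atab_s_21_24 (c : Nat) : Nat := @Bool.rec (fun _ => Nat) (Atab_21) (Atab_s_22_24 c) (Nat.ble 22 c)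
noncomputable def Atab_s_24_26 (c : Nat) : Nat := @Bool.rec (fun _ => Nat) (Atab_24) (Atab_25) (Nat.ble 25 c)
noncomputable def Atab_s_26_28 (c : Nat) : Nat := @Bool.rec (fun _ => Nat) (Atab_26) (Atab_27) (Nat.ble 27 c)
noncomputable def Atab_s_24_28 (c : Nat) : Nat := @Bool.rec (fun _ => Nat) (Atab_s_24_26 c) (Atab_s_26_28 c) (Nat.ble 26 c)
noncomputable def Atab_s_21_28 (c : Nat) : Nat := @Bool.rec (fun _ => Nat) (Atab_s_21_24 c) (Atab_s_24_28 c) (Nat.ble 24 c)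
noncomputable def Atab_s_14_28 (c : Nat) : Nat := @Bool.rec (fun _ => Nat) (Atab_s_14_21 c) (Atab_s_21_28 c) (Nat.ble 21 c)
noncomputable def Atab_s_0_28 (c : Nat) : Nat := @Bool.rec (fun _ => Nat) (Atab_s_0_14 c) (Atab_s_14_28 c) (Nat.ble 14 c)
noncomputable def Atab_s_29_31 (c : Nat) : Nat := @Bool.rec (fun _ => Nat) (Atab_29) (Atab_30) (Nat.ble 30 c)
noncomputable def Atab_s_28_31 (c : Nat) : Nat := @Bool.rec (fun _ => Nat) (Atab_28) (Atab_s_29_31 c) (Nat.ble 29 c)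
noncomputable def Atab_s_31_33 (c : Nat) : Nat := @Bool.rec (fun _ => Nat) (Atab_31) (Atab_32) (Nat.ble 32 c)
noncomputable def Atab_s_33_35 (c : Nat) : Nat := @Bool.rec (fun _ => Nat) (Atab_33) (Atab_34) (Nat.ble 34 c)
noncomputable def Atab_s_31_35 (c : Nat) : Nat := @Bool.rec (fun _ => Nat) (Atab_s_31_33 c) (Atab_s_33_35 c) (Nat.ble 33 c)
noncomputable def Atab_s_28_35 (c : Nat) : Nat := @Bool.rec (fun _ => Nat) (Atab_s_28_31 c) (Atab_s_31_35 c) (Nat.ble 31 c)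
noncomputable def Atab_s_36_38 (c : Nat) : Nat := @Bool.rec (fun _ => Nat) (Atab_36) (Atab_37) (Nat.ble 37 c)
noncomputable def Atab_s_35_38 (c : Nat) : Nat := @Bool.rec (fun _ => Nat) (Atab_35) (Atab_s_36_38 c) (Nat.ble 36 c)
noncomputable def Atab_s_38_40 (c : Nat) : Nat := @Bool.rec (fun _ => Nat) (Atab_38) (Atab_39) (Nat.ble 39 c)
noncomputable def Atab_s_40_42 (c : Nat) : Nat := @Bool.rec (fun _ => Nat) (Atab_40) (Atab_41) (Nat.ble 41 c)
noncomputable def Atab_s_38_42 (c : Nat) : Nat := @Bool.rec (fun _ => Nat) (Atab_s_38_40 c) (Atab_s_40_42 c) (Nat.ble 40 c)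
noncomputable def Atab_s_35_42 (c : Nat) : Nat := @Bool.rec (fun _ => Nat) (Atab_s_35_38 c) (Atab_s_38_42 c) (Nat.ble 38 c)
noncomputable def Atab_s_28_42 (c : Nat) : Nat := @Bool.rec (fun _ => Nat) (Atab_s_28_35 c) (Atab_s_35_42 c) (Nat.ble 35 c)
noncomputable def Atab_s_43_45 (c : Nat) : Nat := @Bool.rec (fun _ => Nat) (Atab_43) (Atab_44) (Nat.ble 44 c)
noncomputable def Atab_s_42_45 (c : Nat) : Nat := @Bool.rec (fun _ => Nat) (Atab_42) (Atab_s_43_45 c) (Nat.ble 43 c)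
noncomputable def Atab_s_45_47 (c : Nat) : Nat := @Bool.rec (fun _ => Nat) (Atab_45) (Atab_46) (Nat.ble 46 c)
noncomputable def Atab_s_47_49 (c : Nat) : Nat := @Bool.rec (fun _ => Nat) (Atab_47) (Atab_48) (Nat.ble 48 c)
noncomputable def Atab_s_45_49 (c : Nat) : Nat := @Bool.rec (fun _ => Nat) (Atab_s_45_47 c) (Atab_s_47_49 c) (Nat.ble 47 c)
noncomputable def Atab_s_42_49 (c : Nat) : Nat := @Bool.rec (fun _ => Nat) (Atab_s_42_45 c) (Atab_s_45_49 c) (Nat.ble 45 c)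
noncomputable def Atab_s_49_51 (c : Nat) : Nat := @Bool.rec (fun _ => Nat) (Atab_49) (Atab_50) (Nat.ble 50 c)
noncomputable def Atab_s_51_53 (c : Nat) : Nat := @Bool.rec (fun _ => Nat) (Atab_51) (Atab_52) (Nat.ble 52 c)
noncomputable def Atab_s_49_53 (c : Nat) : Nat := @Bool.rec (fun _ => Nat) (Atab_s_49_51 c) (Atab_s_51_53 c) (Nat.ble 51 c)
noncomputable def Atab_s_53_55 (c : Nat) : Nat := @Bool.rec (fun _ => Nat) (Atab_53) (Atab_54) (Nat.ble 54 c)
noncomputable def Atab_s_55_57 (c : Nat) : Nat := @Bool.rec (fun _ => Nat) (Atab_55) (Atab_56) (Nat.ble 56 c)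
noncomputable def Atab_s_53_57 (c : Nat) : Nat := @Bool.rec (fun _ => Nat) (Atab_s_53_55 c) (Atab_s_55_57 c) (Nat.ble 55 c)
noncomputable def Atab_s_49_57 (c : Nat) : Nat := @Bool.rec (fun _ => Nat) (Atab_s_49_53 c) (Atab_s_53_57 c) (Nat.ble 53 c)
noncomputable def Atab_s_42_57 (c : Nat) : Nat := @Bool.rec (fun _ => Nat) (Atab_s_42_49 c) (Atab_s_49_57 c) (Nat.ble 49 c)
noncomputable def Atab_s_28_57 (c : Nat) : Nat := @Bool.rec (fun _ => Nat) (Atab_s_28_42 c) (Atab_s_42_57 c) (Nat.ble 42 c)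
noncomputable def Atab_s_0_57 (c : Nat) : Nat := @Bool.rec (fun _ => Nat) (Atab_s_0_28 c) (Atab_s_28_57 c) (Nat.ble 28 c)
noncomputable def Atab_s_58_60 (c : Nat) : Nat := @Bool.rec (fun _ => Nat) (Atab_58) (Atab_59) (Nat.ble 59 c)
noncomputable def Atab_s_57_60 (c : Nat) : Nat := @Bool.rec (fun _ => Nat) (Atab_57) (Atab_s_58_60 c) (Nat.ble 58 c)
noncomputable def Atab_s_60_62 (c : Nat) : Nat := @Bool.rec (fun _ => Nat) (Atab_60) (Atab_61) (Nat.ble 61 c)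
noncomputable def Atab_s_62_64 (c : Nat) : Nat := @Bool.rec (fun _ => Nat) (Atab_62) (Atab_63) (Nat.ble 63 c)
noncomputable def Atab_s_60_64 (c : Nat) : Nat := @Bool.rec (fun _ => Nat) (Atab_s_60_62 c) (Atab_s_62_64 c) (Nat.ble 62 c)
noncomputable def Atab_s_57_64 (c : Nat) : Nat := @Bool.rec (fun _ => Nat) (Atab_s_57_60 c) (Atab_s_60_64 c) (Nat.ble 60 c)
noncomputable def Atab_s_65_67 (c : Nat) : Nat := @Bool.rec (fun _ => Nat) (Atab_65) (Atab_66) (Nat.ble 66 c)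
noncomputable def Atab_s_64_67 (c : Nat) : Nat := @Bool.rec (fun _ => Nat) (Atab_64) (Atab_s_65_67 c) (Nat.ble 65 c)
noncomputable def Atab_s_67_69 (c : Nat) : Nat := @Bool.rec (fun _ => Nat) (Atab_67) (Atab_68) (Nat.ble 68 c)
noncomputable def Atab_s_69_71 (c : Nat) : Nat := @Bool.rec (fun _ => Nat) (Atab_69) (Atab_70) (Nat.ble 70 c)
noncomputable def Atab_s_67_71 (c : Nat) : Nat := @Bool.rec (fun _ => Nat) (Atab_s_67_69 c) (Atab_s_69_71 c) (Nat.ble 69 c)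
noncomputable def Atab_s_64_71 (c : Nat) : Nat := @Bool.rec (fun _ => Nat) (Atab_s_64_67 c) (Atab_s_67_71 c) (Nat.ble 67 c)
noncomputable def Atab_s_57_71 (c : Nat) : Nat := @Bool.rec (fun _ => Nat) (Atab_s_57_64 c) (Atab_s_64_71 c) (Nat.ble 64 c)
noncomputable def Atab_s_72_74 (c : Nat) : Nat := @Bool.rec (fun _ => Nat) (Atab_72) (Atab_73) (Nat.ble 73 c)
noncomputable def Atab_s_71_74 (c : Nat) : Nat := @Bool.rec (fun _ => Nat) (Atab_71) (Atab_s_72_74 c) (Nat.ble 72 c)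
noncomputable def Atab_s_74_76 (c : Nat) : Nat := @Bool.rec (fun _ => Nat) (Atab_74) (Atab_75) (Nat.ble 75 c)
noncomputable def Atab_s_76_78 (c : Nat) : Nat := @Bool.rec (fun _ => Nat) (Atab_76) (Atab_77) (Nat.ble 77 c)
noncomputable def Atab_s_74_78 (c : Nat) : Nat := @Bool.rec (fun _ => Nat) (Atab_s_74_76 c) (Atab_s_76_78 c) (Nat.ble 76 c)
noncomputable def Atab_s_71_78 (c : Nat) : Nat := @Bool.rec (fun _ => Nat) (Atab_s_71_74 c) (Atab_s_74_78 c) (Nat.ble 74 c)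
noncomputable def Atab_s_78_80 (c : Nat) : Nat := @Bool.rec (fun _ => Nat) (Atab_78) (Atab_79) (Nat.ble 79 c)
noncomputable def Atab_s_80_82 (c : Nat) : Nat := @Bool.rec (fun _ => Nat) (Atab_80) (Atab_81) (Nat.ble 81 c)
noncomputable def Atab_s_78_82 (c : Nat) : Nat := @Bool.rec (fun _ => Nat) (Atab_s_78_80 c) (Atab_s_80_82 c) (Nat.ble 80 c)
noncomputable def Atab_s_82_84 (c : Nat) : Nat := @Bool.rec (fun _ => Nat) (Atab_82) (Atab_83) (Nat.ble 83 c)
noncomputable def Atab_s_84_86 (c : Nat) : Nat := @Bool.rec (fun _ => Nat) (Atab_84) (Atab_85) (Nat.ble 85 c)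
noncomputable def Atab_s_82_86 (c : Nat) : Nat := @Bool.rec (fun _ => Nat) (Atab_s_82_84 c) (Atab_s_84_86 c) (Nat.ble 84 c)
noncomputable def Atab_s_78_86 (c : Nat) : Nat := @Bool.rec (fun _ => Nat) (Atab_s_78_82 c) (Atab_s_82_86 c) (Nat.ble 82 c)
noncomputable def Atab_s_71_86 (c : Nat) : Nat := @Bool.rec (fun _ => Nat) (Atab_s_71_78 c) (Atab_s_78_86 c) (Nat.ble 78 c)
noncomputable def Atab_s_57_86 (c : Nat) : Nat := @Bool.rec (fun _ => Nat) (Atab_s_57_71 c) (Atab_s_71_86 c) (Nat.ble 71 c)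
noncomputable def Atab_s_87_89 (c : Nat) : Nat := @Bool.rec (fun _ => Nat) (Atab_87) (Atab_88) (Nat.ble 88 c)
noncomputable def Atab_s_86_89 (c : Nat) : Nat := @Bool.rec (fun _ => Nat) (Atab_86) (Atab_s_87_89 c) (Nat.ble 87 c)
noncomputable def Atab_s_89_91 (c : Nat) : Nat := @Bool.rec (fun _ => Nat) (Atab_89) (Atab_90) (Nat.ble 90 c)
noncomputable def Atab_s_91_93 (c : Nat) : Nat := @Bool.rec (fun _ => Nat) (Atab_91) (Atab_92) (Nat.ble 92 c)
noncomputable def Atab_s_89_93 (c : Nat) : Nat := @Bool.rec (fun _ => Nat) (Atab_s_89_91 c) (Atab_s_91_93 c) (Nat.ble 91 c)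
noncomputable def Atab_s_86_93 (c : Nat) : Nat := @Bool.rec (fun _ => Nat) (Atab_s_86_89 c) (Atab_s_89_93 c) (Nat.ble 89 c)
noncomputable def Atab_s_94_96 (c : Nat) : Nat := @Bool.rec (fun _ => Nat) (Atab_94) (Atab_95) (Nat.ble 95 c)
noncomputable def Atab_s_93_96 (c : Nat) : Nat := @Bool.rec (fun _ => Nat) (Atab_93) (Atab_s_94_96 c) (Nat.ble 94 c)
noncomputable def Atab_s_96_98 (c : Nat) : Nat := @Bool.rec (fun _ => Nat) (Atab_96) (Atab_97) (Nat.ble 97 c)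
noncomputable def Atab_s_98_100 (c : Nat) : Nat := @Bool.rec (fun _ => Nat) (Atab_98) (Atab_99) (Nat.ble 99 c)
noncomputable def Atab_s_96_100 (c : Nat) : Nat := @Bool.rec (fun _ => Nat) (Atab_s_96_98 c) (Atab_s_98_100 c) (Nat.ble 98 c)
noncomputable def Atab_s_93_100 (c : Nat) : Nat := @Bool.rec (fun _ => Nat) (Atab_s_93_96 c) (Atab_s_96_100 c) (Nat.ble 96 c)
noncomputable def Atab_s_86_100 (c : Nat) : Nat := @Bool.rec (fun _ => Nat) (Atab_s_86_93 c) (Atab_s_93_100 c) (Nat.ble 93 c)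
noncomputable def Atab_s_101_103 (c : Nat) : Nat := @Bool.rec (fun _ => Nat) (Atab_101) (Atab_102) (Nat.ble 102 c)
noncomputable def Atab_s_100_103 (c : Nat) : Nat := @Bool.rec (fun _ => Nat) (Atab_100) (Atab_s_101_103 c) (Nat.ble 101 c)
noncomputable def Atab_s_103_105 (c : Nat) : Nat := @Bool.rec (fun _ => Nat) (Atab_103) (Atab_104) (Nat.ble 104 c)
noncomputable def Atab_s_105_107 (c : Nat) : Nat := @Bool.rec (fun _ => Nat) (Atab_105) (Atab_106) (Nat.ble 106 c)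
noncomputable def Atab_s_103_107 (c : Nat) : Nat := @Bool.rec (fun _ => Nat) (Atab_s_103_105 c) (Atab_s_105_107 c) (Nat.ble 105 c)
noncomputable def Atab_s_100_107 (c : Nat) : Nat := @Bool.rec (fun _ => Nat) (Atab_s_100_103 c) (Atab_s_103_107 c) (Nat.ble 103 c)
noncomputable def Atab_s_107_109 (c : Nat) : Nat := @Bool.rec (fun _ => Nat) (Atab_107) (Atab_108) (Nat.ble 108 c)
noncomputable def Atab_s_109_111 (c : Nat) : Nat := @Bool.rec (fun _ => Nat) (Atab_109) (Atab_110) (Nat.ble 110 c)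
noncomputable def Atab_s_107_111 (c : Nat) : Nat := @Bool.rec (fun _ => Nat) (Atab_s_107_109 c) (Atab_s_109_111 c) (Nat.ble 109 c)
noncomputable def Atab_s_111_113 (c : Nat) : Nat := @Bool.rec (fun _ => Nat) (Atab_111) (Atab_112) (Nat.ble 112 c)
noncomputable def Atab_s_113_115 (c : Nat) : Nat := @Bool.rec (fun _ => Nat) (Atab_113) (Atab_114) (Nat.ble 114 c)
noncomputable def Atab_s_111_115 (c : Nat) : Nat := @Bool.rec (fun _ => Nat) (Atab_s_111_113 c) (Atab_s_113_115 c) (Nat.ble 113 c)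
noncomputable def Atab_s_107_115 (c : Nat) : Nat := @Bool.rec (fun _ => Nat) (Atab_s_107_111 c) (Atab_s_111_115 c) (Nat.ble 111 c)
noncomputable def Atab_s_100_115 (c : Nat) : Nat := @Bool.rec (fun _ => Nat) (Atab_s_100_107 c) (Atab_s_107_115 c) (Nat.ble 107 c)
noncomputable def Atab_s_86_115 (c : Nat) : Nat := @Bool.rec (fun _ => Nat) (Atab_s_86_100 c) (Atab_s_100_115 c) (Nat.ble 100 c)
noncomputable def Atab_s_57_115 (c : Nat) : Nat := @Bool.rec (fun _ => Nat) (Atab_s_57_86 c) (Atab_s_86_115 c) (Nat.ble 86 c)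
noncomputable def Atab_s_0_115 (c : Nat) : Nat := @Bool.rec (fun _ => Nat) (Atab_s_0_57 c) (Atab_s_57_115 c) (Nat.ble 57 c)
noncomputable def Atab_s_116_118 (c : Nat) : Nat := @Bool.rec (fun _ => Nat) (Atab_116) (Atab_117) (Nat.ble 117 c)
noncomputable def Atab_s_115_118 (c : Nat) : Nat := @Bool.rec (fun _ => Nat) (Atab_115) (Atab_s_116_118 c) (Nat.ble 116 c)
noncomputable def Atab_s_118_120 (c : Nat) : Nat := @Bool.rec (fun _ => Nat) (Atab_118) (Atab_119) (Nat.ble 119 c)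
noncomputable def Atab_s_120_122 (c : Nat) : Nat := @Bool.rec (fun _ => Nat) (Atab_120) (Atab_121) (Nat.ble 121 c)
noncomputable def Atab_s_118_122 (c : Nat) : Nat := @Bool.rec (fun _ => Nat) (Atab_s_118_120 c) (Atab_s_120_122 c) (Nat.ble 120 c)
noncomputable def Atab_s_115_122 (c : Nat) : Nat := @Bool.rec (fun _ => Nat) (Atab_s_115_118 c) (Atab_s_118_122 c) (Nat.ble 118 c)
noncomputable def Atab_s_123_125 (c : Nat) : Nat := @Bool.rec (fun _ => Nat) (Atab_123) (Atab_124) (Nat.ble 124 c)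
noncomputable def Atab_s_122_125 (c : Nat) : Nat := @Bool.rec (fun _ => Nat) (Atab_122) (Atab_s_123_125 c) (Nat.ble 123 c)
noncomputable def Atab_s_125_127 (c : Nat) : Nat := @Bool.rec (fun _ => Nat) (Atab_125) (Atab_126) (Nat.ble 126 c)
noncomputable def Atab_s_127_129 (c : Nat) : Nat := @Bool.rec (fun _ => Nat) (Atab_127) (Atab_128) (Nat.ble 128 c)
noncomputable def Atab_s_125_129 (c : Nat) : Nat := @Bool.rec (fun _ => Nat) (Atab_s_125_127 c) (Atab_s_127_129 c) (Nat.ble 127 c)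
noncomputable def Atab_s_122_129 (c : Nat) : Nat := @Bool.rec (fun _ => Nat) (Atab_s_122_125 c) (Atab_s_125_129 c) (Nat.ble 125 c)
noncomputable def Atab_s_115_129 (c : Nat) : Nat := @Bool.rec (fun _ => Nat) (Atab_s_115_122 c) (Atab_s_122_129 c) (Nat.ble 122 c)
noncomputable def Atab_s_130_132 (c : Nat) : Nat := @Bool.rec (fun _ => Nat) (Atab_130) (Atab_131) (Nat.ble 131 c)
noncomputable def Atab_s_129_132 (c : Nat) : Nat := @Bool.rec (fun _ => Nat) (Atab_129) (Atab_s_130_132 c) (Nat.ble 130 c)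
noncomputable def Atab_s_132_134 (c : Nat) : Nat := @Bool.rec (fun _ => Nat) (Atab_132) (Atab_133) (Nat.ble 133 c)
noncomputable def Atab_s_134_136 (c : Nat) : Nat := @Bool.rec (fun _ => Nat) (Atab_134) (Atab_135) (Nat.ble 135 c)
noncomputable def Atab_s_132_136 (c : Nat) : Nat := @Bool.rec (fun _ => Nat) (Atab_s_132_134 c) (Atab_s_134_136 c) (Nat.ble 134 c)
noncomputable def Atab_s_129_136 (c : Nat) : Nat := @Bool.rec (fun _ => Nat) (Atab_s_129_132 c) (Atab_s_132_136 c) (Nat.ble 132 c)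
noncomputable def Atab_s_137_139 (c : Nat) : Nat := @Bool.rec (fun _ => Nat) (Atab_137) (Atab_138) (Nat.ble 138 c)
noncomputable def Atab_s_136_139 (c : Nat) : Nat := @Bool.rec (fun _ => Nat) (Atab_136) (Atab_s_137_139 c) (Nat.ble 137 c)
noncomputable def Atab_s_139_141 (c : Nat) : Nat := @Bool.rec (fun _ => Nat) (Atab_139) (Atab_140) (Nat.ble 140 c)
noncomputable def Atab_s_141_143 (c : Nat) : Nat := @Bool.rec (fun _ => Nat) (Atab_141) (Atab_142) (Nat.ble 142 c)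
noncomputable def Atab_s_139_143 (c : Nat) : Nat := @Bool.rec (fun _ => Nat) (Atab_s_139_141 c) (Atab_s_141_143 c) (Nat.ble 141 c)
noncomputable def Atab_s_136_143 (c : Nat) : Nat := @Bool.rec (fun _ => Nat) (Atab_s_136_139 c) (Atab_s_139_143 c) (Nat.ble 139 c)
noncomputable def Atab_s_129_143 (c : Nat) : Nat := @Bool.rec (fun _ => Nat) (Atab_s_129_136 c) (Atab_s_136_143 c) (Nat.ble 136 c)
noncomputable def Atab_s_115_143 (c : Nat) : Nat := @Bool.rec (fun _ => Nat) (Atab_s_115_129 c) (Atab_s_129_143 c) (Nat.ble 129 c)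
noncomputable def Atab_s_144_146 (c : Nat) : Nat := @Bool.rec (fun _ => Nat) (Atab_144) (Atab_145) (Nat.ble 145 c)
noncomputable def Atab_s_143_146 (c : Nat) : Nat := @Bool.rec (fun _ => Nat) (Atab_143) (Atab_s_144_146 c) (Nat.ble 144 c)
noncomputable def Atab_s_146_148 (c : Nat) : Nat := @Bool.rec (fun _ => Nat) (Atab_146) (Atab_147) (Nat.ble 147 c)
noncomputable def Atab_s_148_150 (c : Nat) : Nat := @Bool.rec (fun _ => Nat) (Atab_148) (Atab_149) (Nat.ble 149 c)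
noncomputable def Atab_s_146_150 (c : Nat) : Nat := @Bool.rec (fun _ => Nat) (Atab_s_146_148 c) (Atab_s_148_150 c) (Nat.ble 148 c)
noncomputable def Atab_s_143_150 (c : Nat) : Nat := @Bool.rec (fun _ => Nat) (Atab_s_143_146 c) (Atab_s_146_150 c) (Nat.ble 146 c)
noncomputable def Atab_s_151_153 (c : Nat) : Nat := @Bool.rec (fun _ => Nat) (Atab_151) (Atab_152) (Nat.ble 152 c)
noncomputable def Atab_s_150_153 (c : Nat) : Nat := @Bool.rec (fun _ => Nat) (Atab_150) (Atab_s_151_153 c) (Nat.ble 151 c)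
noncomputable def Atab_s_153_155 (c : Nat) : Nat := @Bool.rec (fun _ => Nat) (Atab_153) (Atab_154) (Nat.ble 154 c)
noncomputable def Atab_s_155_157 (c : Nat) : Nat := @Bool.rec (fun _ => Nat) (Atab_155) (Atab_156) (Nat.ble 156 c)
noncomputable def Atab_s_153_157 (c : Nat) : Nat := @Bool.rec (fun _ => Nat) (Atab_s_153_155 c) (Atab_s_155_157 c) (Nat.ble 155 c)
noncomputable def Atab_s_150_157 (c : Nat) : Nat := @Bool.rec (fun _ => Nat) (Atab_s_150_153 c) (Atab_s_153_157 c) (Nat.ble 153 c)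
noncomputable def Atab_s_143_157 (c : Nat) : Nat := @Bool.rec (fun _ => Nat) (Atab_s_143_150 c) (Atab_s_150_157 c) (Nat.ble 150 c)
noncomputable def Atab_s_158_160 (c : Nat) : Nat := @Bool.rec (fun _ => Nat) (Atab_158) (Atab_159) (Nat.ble 159 c)
noncomputable def Atab_s_157_160 (c : Nat) : Nat := @Bool.rec (fun _ => Nat) (Atab_157) (Atab_s_158_160 c) (Nat.ble 158 c)
noncomputable def Atab_s_160_162 (c : Nat) : Nat := @Bool.rec (fun _ => Nat) (Atab_160) (Atab_161) (Nat.ble 161 c)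
noncomputable def Atab_s_162_164 (c : Nat) : Nat := @Bool.rec (fun _ => Nat) (Atab_162) (Atab_163) (Nat.ble 163 c)
noncomputable def Atab_s_160_164 (c : Nat) : Nat := @Bool.rec (fun _ => Nat) (Atab_s_160_162 c) (Atab_s_162_164 c) (Nat.ble 162 c)
noncomputable def Atab_s_157_164 (c : Nat) : Nat := @Bool.rec (fun _ => Nat) (Atab_s_157_160 c) (Atab_s_160_164 c) (Nat.ble 160 c)
noncomputable def Atab_s_164_166 (c : Nat) : Nat := @Bool.rec (fun _ => Nat) (Atab_164) (Atab_165) (Nat.ble 165 c)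
noncomputable def Atab_s_166_168 (c : Nat) : Nat := @Bool.rec (fun _ => Nat) (Atab_166) (Atab_167) (Nat.ble 167 c)
noncomputable def Atab_s_164_168 (c : Nat) : Nat := @Bool.rec (fun _ => Nat) (Atab_s_164_166 c) (Atab_s_166_168 c) (Nat.ble 166 c)
noncomputable def Atab_s_168_170 (c : Nat) : Nat := @Bool.rec (fun _ => Nat) (Atab_168) (Atab_169) (Nat.ble 169 c)
noncomputable def Atab_s_170_172 (c : Nat) : Nat := @Bool.rec (fun _ => Nat) (Atab_170) (Atab_171) (Nat.ble 171 c)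
noncomputable def Atab_s_168_172 (c : Nat) : Nat := @Bool.rec (fun _ => Nat) (Atab_s_168_170 c) (Atab_s_170_172 c) (Nat.ble 170 c)
noncomputable def Atab_s_164_172 (c : Nat) : Nat := @Bool.rec (fun _ => Nat) (Atab_s_164_168 c) (Atab_s_168_172 c) (Nat.ble 168 c)
noncomputable def Atab_s_157_172 (c : Nat) : Nat := @Bool.rec (fun _ => Nat) (Atab_s_157_164 c) (Atab_s_164_172 c) (Nat.ble 164 c)
noncomputable def Atab_s_143_172 (c : Nat) : Nat := @Bool.rec (fun _ => Nat) (Atab_s_143_157 c) (Atab_s_157_172 c) (Nat.ble 157 c)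
noncomputable def Atab_s_115_172 (c : Nat) : Nat := @Bool.rec (fun _ => Nat) (Atab_s_115_143 c) (Atab_s_143_172 c) (Nat.ble 143 c)
noncomputable def Atab_s_173_175 (c : Nat) : Nat := @Bool.rec (fun _ => Nat) (Atab_173) (Atab_174) (Nat.ble 174 c)
noncomputable def Atab_s_172_175 (c : Nat) : Nat := @Bool.rec (fun _ => Nat) (Atab_172) (Atab_s_173_175 c) (Nat.ble 173 c)
noncomputable def Atab_s_175_177 (c : Nat) : Nat := @Bool.rec (fun _ => Nat) (Atab_175) (Atab_176) (Nat.ble 176 c)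
noncomputable def Atab_s_177_179 (c : Nat) : Nat := @Bool.rec (fun _ => Nat) (Atab_177) (Atab_178) (Nat.ble 178 c)
noncomputable def Atab_s_175_179 (c : Nat) : Nat := @Bool.rec (fun _ => Nat) (Atab_s_175_177 c) (Atab_s_177_179 c) (Nat.ble 177 c)
noncomputable def Atab_s_172_179 (c : Nat) : Nat := @Bool.rec (fun _ => Nat) (Atab_s_172_175 c) (Atab_s_175_179 c) (Nat.ble 175 c)
noncomputable def Atab_s_180_182 (c : Nat) : Nat := @Bool.rec (fun _ => Nat) (Atab_180) (Atab_181) (Nat.ble 181 c)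
noncomputable def Atab_s_179_182 (c : Nat) : Nat := @Bool.rec (fun _ => Nat) (Atab_179) (Atab_s_180_182 c) (Nat.ble 180 c)
noncomputable def Atab_s_182_184 (c : Nat) : Nat := @Bool.rec (fun _ => Nat) (Atab_182) (Atab_183) (Nat.ble 183 c)
noncomputable def Atab_s_184_186 (c : Nat) : Nat := @Bool.rec (fun _ => Nat) (Atab_184) (Atab_185) (Nat.ble 185 c)
noncomputable def Atab_s_182_186 (c : Nat) : Nat := @Bool.rec (fun _ => Nat) (Atab_s_182_184 c) (Atab_s_184_186 c) (Nat.ble 184 c)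
noncomputable def Atab_s_179_186 (c : Nat) : Nat := @Bool.rec (fun _ => Nat) (Atab_s_179_182 c) (Atab_s_182_186 c) (Nat.ble 182 c)
noncomputable def Atab_s_172_186 (c : Nat) : Nat := @Bool.rec (fun _ => Nat) (Atab_s_172_179 c) (Atab_s_179_186 c) (Nat.ble 179 c)
noncomputable def Atab_s_187_189 (c : Nat) : Nat := @Bool.rec (fun _ => Nat) (Atab_187) (Atab_188) (Nat.ble 188 c)
noncomputable def Atab_s_186_189 (c : Nat) : Nat := @Bool.rec (fun _ => Nat) (Atab_186) (Atab_s_187_189 c) (Nat.ble 187 c)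
noncomputable def Atab_s_189_191 (c : Nat) : Nat := @Bool.rec (fun _ => Nat) (Atab_189) (Atab_190) (Nat.ble 190 c)
noncomputable def Atab_s_191_193 (c : Nat) : Nat := @Bool.rec (fun _ => Nat) (Atab_191) (Atab_192) (Nat.ble 192 c)
noncomputable def Atab_s_189_193 (c : Nat) : Nat := @Bool.rec (fun _ => Nat) (Atab_s_189_191 c) (Atab_s_191_193 c) (Nat.ble 191 c)
noncomputable def Atab_s_186_193 (c : Nat) : Nat := @Bool.rec (fun _ => Nat) (Atab_s_186_189 c) (Atab_s_189_193 c) (Nat.ble 189 c)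
noncomputable def Atab_s_193_195 (c : Nat) : Nat := @Bool.rec (fun _ => Nat) (Atab_193) (Atab_194) (Nat.ble 194 c)
noncomputable def Atab_s_195_197 (c : Nat) : Nat := @Bool.rec (fun _ => Nat) (Atab_195) (Atab_196) (Nat.ble 196 c)
noncomputable def Atab_s_193_197 (c : Nat) : Nat := @Bool.rec (fun _ => Nat) (Atab_s_193_195 c) (Atab_s_195_197 c) (Nat.ble 195 c)
noncomputable def Atab_s_197_199 (c : Nat) : Nat := @Bool.rec (fun _ => Nat) (Atab_197) (Atab_198) (Nat.ble 198 c)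
noncomputable def Atab_s_199_201 (c : Nat) : Nat := @Bool.rec (fun _ => Nat) (Atab_199) (Atab_200) (Nat.ble 200 c)
noncomputable def Atab_s_197_201 (c : Nat) : Nat := @Bool.rec (fun _ => Nat) (Atab_s_197_199 c) (Atab_s_199_201 c) (Nat.ble 199 c)
noncomputable def Atab_s_193_201 (c : Nat) : Nat := @Bool.rec (fun _ => Nat) (Atab_s_193_197 c) (Atab_s_197_201 c) (Nat.ble 197 c)
noncomputable def Atab_s_186_201 (c : Nat) : Nat := @Bool.rec (fun _ => Nat) (Atab_s_186_193 c) (Atab_s_193_201 c) (Nat.ble 193 c)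
noncomputable def Atab_s_172_201 (c : Nat) : Nat := @Bool.rec (fun _ => Nat) (Atab_s_172_186 c) (Atab_s_186_201 c) (Nat.ble 186 c)
noncomputable def Atab_s_202_204 (c : Nat) : Nat := @Bool.rec (fun _ => Nat) (Atab_202) (Atab_203) (Nat.ble 203 c)
noncomputable def Atab_s_201_204 (c : Nat) : Nat := @Bool.rec (fun _ => Nat) (Atab_201) (Atab_s_202_204 c) (Nat.ble 202 c)
noncomputable def Atab_s_204_206 (c : Nat) : Nat := @Bool.rec (fun _ => Nat) (Atab_204) (Atab_205) (Nat.ble 205 c)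
noncomputable def Atab_s_206_208 (c : Nat) : Nat := @Bool.rec (fun _ => Nat) (Atab_206) (Atab_207) (Nat.ble 207 c)
noncomputable def Atab_s_204_208 (c : Nat) : Nat := @Bool.rec (fun _ => Nat) (Atab_s_204_206 c) (Atab_s_206_208 c) (Nat.ble 206 c)
noncomputable def Atab_s_201_208 (c : Nat) : Nat := @Bool.rec (fun _ => Nat) (Atab_s_201_204 c) (Atab_s_204_208 c) (Nat.ble 204 c)
noncomputable def Atab_s_209_211 (c : Nat) : Nat := @Bool.rec (fun _ => Nat) (Atab_209) (Atab_210) (Nat.ble 210 c)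
noncomputable def Atab_s_208_211 (c : Nat) : Nat := @Bool.rec (fun _ => Nat) (Atab_208) (Atab_s_209_211 c) (Nat.ble 209 c)
noncomputable def Atab_s_211_213 (c : Nat) : Nat := @Bool.rec (fun _ => Nat) (Atab_211) (Atab_212) (Nat.ble 212 c)
noncomputable def Atab_s_213_215 (c : Nat) : Nat := @Bool.rec (fun _ => Nat) (Atab_213) (Atab_214) (Nat.ble 214 c)
noncomputable def Atab_s_211_215 (c : Nat) : Nat := @Bool.rec (fun _ => Nat) (Atab_s_211_213 c) (Atab_s_213_215 c) (Nat.ble 213 c)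
noncomputable def Atab_s_208_215 (c : Nat) : Nat := @Bool.rec (fun _ => Nat) (Atab_s_208_211 c) (Atab_s_211_215 c) (Nat.ble 211 c)
noncomputable def Atab_s_201_215 (c : Nat) : Nat := @Bool.rec (fun _ => Nat) (Atab_s_201_208 c) (Atab_s_208_215 c) (Nat.ble 208 c)
noncomputable def Atab_s_216_218 (c : Nat) : Nat := @Bool.rec (fun _ => Nat) (Atab_216) (Atab_217) (Nat.ble 217 c)
noncomputable def Atab_s_215_218 (c : Nat) : Nat := @Bool.rec (fun _ => Nat) (Atab_215) (Atab_s_216_218 c) (Nat.ble 216 c)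
noncomputable def Atab_s_218_220 (c : Nat) : Nat := @Bool.rec (fun _ => Nat) (Atab_218) (Atab_219) (Nat.ble 219 c)
noncomputable def Atab_s_220_222 (c : Nat) : Nat := @Bool.rec (fun _ => Nat) (Atab_220) (Atab_221) (Nat.ble 221 c)
noncomputable def Atab_s_218_222 (c : Nat) : Nat := @Bool.rec (fun _ => Nat) (Atab_s_218_220 c) (Atab_s_220_222 c) (Nat.ble 220 c)
noncomputable def Atab_s_215_222 (c : Nat) : Nat := @Bool.rec (fun _ => Nat) (Atab_s_215_218 c) (Atab_s_218_222 c) (Nat.ble 218 c)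
noncomputable def Atab_s_222_224 (c : Nat) : Nat := @Bool.rec (fun _ => Nat) (Atab_222) (Atab_223) (Nat.ble 223 c)
noncomputable def Atab_s_224_226 (c : Nat) : Nat := @Bool.rec (fun _ => Nat) (Atab_224) (Atab_225) (Nat.ble 225 c)
noncomputable def Atab_s_222_226 (c : Nat) : Nat := @Bool.rec (fun _ => Nat) (Atab_s_222_224 c) (Atab_s_224_226 c) (Nat.ble 224 c)
noncomputable def Atab_s_226_228 (c : Nat) : Nat := @Bool.rec (fun _ => Nat) (Atab_226) (Atab_227) (Nat.ble 227 c)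
noncomputable def Atab_s_228_230 (c : Nat) : Nat := @Bool.rec (fun _ => Nat) (Atab_228) (Atab_229) (Nat.ble 229 c)
noncomputable def Atab_s_226_230 (c : Nat) : Nat := @Bool.rec (fun _ => Nat) (Atab_s_226_228 c) (Atab_s_228_230 c) (Nat.ble 228 c)
noncomputable def Atab_s_222_230 (c : Nat) : Nat := @Bool.rec (fun _ => Nat) (Atab_s_222_226 c) (Atab_s_226_230 c) (Nat.ble 226 c)
noncomputable def Atab_s_215_230 (c : Nat) : Nat := @Bool.rec (fun _ => Nat) (Atab_s_215_222 c) (Atab_s_222_230 c) (Nat.ble 222 c)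
noncomputable def Atab_s_201_230 (c : Nat) : Nat := @Bool.rec (fun _ => Nat) (Atab_s_201_215 c) (Atab_s_215_230 c) (Nat.ble 215 c)
noncomputable def Atab_s_172_230 (c : Nat) : Nat := @Bool.rec (fun _ => Nat) (Atab_s_172_201 c) (Atab_s_201_230 c) (Nat.ble 201 c)
noncomputable def Atab_s_115_230 (c : Nat) : Nat := @Bool.rec (fun _ => Nat) (Atab_s_115_172 c) (Atab_s_172_230 c) (Nat.ble 172 c)
noncomputable def Atab_s_0_230 (c : Nat) : Nat := @Bool.rec (fun _ => Nat) (Atab_s_0_115 c) (Atab_s_115_230 c) (Nat.ble 115 c)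
noncomputable def Atab_s_231_233 (c : Nat) : Nat := @Bool.rec (fun _ => Nat) (Atab_231) (Atab_232) (Nat.ble 232 c)
noncomputable def Atab_s_230_233 (c : Nat) : Nat := @Bool.rec (fun _ => Nat) (Atab_230) (Atab_s_231_233 c) (Nat.ble 231 c)
noncomputable def Atab_s_233_235 (c : Nat) : Nat := @Bool.rec (fun _ => Nat) (Atab_233) (Atab_234) (Nat.ble 234 c)
noncomputable def Atab_s_235_237 (c : Nat) : Nat := @Bool.rec (fun _ => Nat) (Atab_235) (Atab_236) (Nat.ble 236 c)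
noncomputable def Atab_s_233_237 (c : Nat) : Nat := @Bool.rec (fun _ => Nat) (Atab_s_233_235 c) (Atab_s_235_237 c) (Nat.ble 235 c)
noncomputable def Atab_s_230_237 (c : Nat) : Nat := @Bool.rec (fun _ => Nat) (Atab_s_230_233 c) (Atab_s_233_237 c) (Nat.ble 233 c)
noncomputable def Atab_s_238_240 (c : Nat) : Nat := @Bool.rec (fun _ => Nat) (Atab_238) (Atab_239) (Nat.ble 239 c)
noncomputable def Atab_s_237_240 (c : Nat) : Nat := @Bool.rec (fun _ => Nat) (Atab_237) (Atab_s_238_240 c) (Nat.ble 238 c)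
noncomputable def Atab_s_240_242 (c : Nat) : Nat := @Bool.rec (fun _ => Nat) (Atab_240) (Atab_241) (Nat.ble 241 c)
noncomputable def Atab_s_242_244 (c : Nat) : Nat := @Bool.rec (fun _ => Nat) (Atab_242) (Atab_243) (Nat.ble 243 c)
noncomputable def Atab_s_240_244 (c : Nat) : Nat := @Bool.rec (fun _ => Nat) (Atab_s_240_242 c) (Atab_s_242_244 c) (Nat.ble 242 c)
noncomputable def Atab_s_237_244 (c : Nat) : Nat := @Bool.rec (fun _ => Nat) (Atab_s_237_240 c) (Atab_s_240_244 c) (Nat.ble 240 c)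
noncomputable def Atab_s_230_244 (c : Nat) : Nat := @Bool.rec (fun _ => Nat) (Atab_s_230_237 c) (Atab_s_237_244 c) (Nat.ble 237 c)
noncomputable def Atab_s_245_247 (c : Nat) : Nat := @Bool.rec (fun _ => Nat) (Atab_245) (Atab_246) (Nat.ble 246 c)
noncomputable def Atab_s_244_247 (c : Nat) : Nat := @Bool.rec (fun _ => Nat) (Atab_244) (Atab_s_245_247 c) (Nat.ble 245 c)
noncomputable def Atab_s_247_249 (c : Nat) : Nat := @Bool.rec (fun _ => Nat) (Atab_247) (Atab_248) (Nat.ble 248 c)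
noncomputable def Atab_s_249_251 (c : Nat) : Nat := @Bool.rec (fun _ => Nat) (Atab_249) (Atab_250) (Nat.ble 250 c)
noncomputable def Atab_s_247_251 (c : Nat) : Nat := @Bool.rec (fun _ => Nat) (Atab_s_247_249 c) (Atab_s_249_251 c) (Nat.ble 249 c)
noncomputable def Atab_s_244_251 (c : Nat) : Nat := @Bool.rec (fun _ => Nat) (Atab_s_244_247 c) (Atab_s_247_251 c) (Nat.ble 247 c)
noncomputable def Atab_s_252_254 (c : Nat) : Nat := @Bool.rec (fun _ => Nat) (Atab_252) (Atab_253) (Nat.ble 253 c)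
noncomputable def Atab_s_251_254 (c : Nat) : Nat := @Bool.rec (fun _ => Nat) (Atab_251) (Atab_s_252_254 c) (Nat.ble 252 c)
noncomputable def Atab_s_254_256 (c : Nat) : Nat := @Bool.rec (fun _ => Nat) (Atab_254) (Atab_255) (Nat.ble 255 c)
noncomputable def Atab_s_256_258 (c : Nat) : Nat := @Bool.rec (fun _ => Nat) (Atab_256) (Atab_257) (Nat.ble 257 c)
noncomputable def Atab_s_254_258 (c : Nat) : Nat := @Bool.rec (fun _ => Nat) (Atab_s_254_256 c) (Atab_s_256_258 c) (Nat.ble 256 c)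
noncomputable def Atab_s_251_258 (c : Nat) : Nat := @Bool.rec (fun _ => Nat) (Atab_s_251_254 c) (Atab_s_254_258 c) (Nat.ble 254 c)
noncomputable def Atab_s_244_258 (c : Nat) : Nat := @Bool.rec (fun _ => Nat) (Atab_s_244_251 c) (Atab_s_251_258 c) (Nat.ble 251 c)
noncomputable def Atab_s_230_258 (c : Nat) : Nat := @Bool.rec (fun _ => Nat) (Atab_s_230_244 c) (Atab_s_244_258 c) (Nat.ble 244 c)
noncomputable def Atab_s_259_261 (c : Nat) : Nat := @Bool.rec (fun _ => Nat) (Atab_259) (Atab_260) (Nat.ble 260 c)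
noncomputable def Atab_s_258_261 (c : Nat) : Nat := @Bool.rec (fun _ => Nat) (Atab_258) (Atab_s_259_261 c) (Nat.ble 259 c)
noncomputable def Atab_s_261_263 (c : Nat) : Nat := @Bool.rec (fun _ => Nat) (Atab_261) (Atab_262) (Nat.ble 262 c)
noncomputable def Atab_s_263_265 (c : Nat) : Nat := @Bool.rec (fun _ => Nat) (Atab_263) (Atab_264) (Nat.ble 264 c)
noncomputable def Atab_s_261_265 (c : Nat) : Nat := @Bool.rec (fun _ => Nat) (Atab_s_261_263 c) (Atab_s_263_265 c) (Nat.ble 263 c)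
noncomputable def Atab_s_258_265 (c : Nat) : Nat := @Bool.rec (fun _ => Nat) (Atab_s_258_261 c) (Atab_s_261_265 c) (Nat.ble 261 c)
noncomputable def Atab_s_266_268 (c : Nat) : Nat := @Bool.rec (fun _ => Nat) (Atab_266) (Atab_267) (Nat.ble 267 c)
noncomputable def Atab_s_265_268 (c : Nat) : Nat := @Bool.rec (fun _ => Nat) (Atab_265) (Atab_s_266_268 c) (Nat.ble 266 c)
noncomputable def Atab_s_268_270 (c : Nat) : Nat := @Bool.rec (fun _ => Nat) (Atab_268) (Atab_269) (Nat.ble 269 c)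
noncomputable def Atab_s_270_272 (c : Nat) : Nat := @Bool.rec (fun _ => Nat) (Atab_270) (Atab_271) (Nat.ble 271 c)
noncomputable def Atab_s_268_272 (c : Nat) : Nat := @Bool.rec (fun _ => Nat) (Atab_s_268_270 c) (Atab_s_270_272 c) (Nat.ble 270 c)
noncomputable def Atab_s_265_272 (c : Nat) : Nat := @Bool.rec (fun _ => Nat) (Atab_s_265_268 c) (Atab_s_268_272 c) (Nat.ble 268 c)
noncomputable def Atab_s_258_272 (c : Nat) : Nat := @Bool.rec (fun _ => Nat) (Atab_s_258_265 c) (Atab_s_265_272 c) (Nat.ble 265 c)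
noncomputable def Atab_s_273_275 (c : Nat) : Nat := @Bool.rec (fun _ => Nat) (Atab_273) (Atab_274) (Nat.ble 274 c)
noncomputable def Atab_s_272_275 (c : Nat) : Nat := @Bool.rec (fun _ => Nat) (Atab_272) (Atab_s_273_275 c) (Nat.ble 273 c)
noncomputable def Atab_s_275_277 (c : Nat) : Nat := @Bool.rec (fun _ => Nat) (Atab_275) (Atab_276) (Nat.ble 276 c)
noncomputable def Atab_s_277_279 (c : Nat) : Nat := @Bool.rec (fun _ => Nat) (Atab_277) (Atab_278) (Nat.ble 278 c)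
noncomputable def Atab_s_275_279 (c : Nat) : Nat := @Bool.rec (fun _ => Nat) (Atab_s_275_277 c) (Atab_s_277_279 c) (Nat.ble 277 c)
noncomputable def Atab_s_272_279 (c : Nat) : Nat := @Bool.rec (fun _ => Nat) (Atab_s_272_275 c) (Atab_s_275_279 c) (Nat.ble 275 c)
noncomputable def Atab_s_279_281 (c : Nat) : Nat := @Bool.rec (fun _ => Nat) (Atab_279) (Atab_280) (Nat.ble 280 c)
noncomputable def Atab_s_281_283 (c : Nat) : Nat := @Bool.rec (fun _ => Nat) (Atab_281) (Atab_282) (Nat.ble 282 c)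
noncomputable def Atab_s_279_283 (c : Nat) : Nat := @Bool.rec (fun _ => Nat) (Atab_s_279_281 c) (Atab_s_281_283 c) (Nat.ble 281 c)
noncomputable def Atab_s_283_285 (c : Nat) : Nat := @Bool.rec (fun _ => Nat) (Atab_283) (Atab_284) (Nat.ble 284 c)
noncomputable def Atab_s_285_287 (c : Nat) : Nat := @Bool.rec (fun _ => Nat) (Atab_285) (Atab_286) (Nat.ble 286 c)
noncomputable def Atab_s_283_287 (c : Nat) : Nat := @Bool.rec (fun _ => Nat) (Atab_s_283_285 c) (Atab_s_285_287 c) (Nat.ble 285 c)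
noncomputable def Atab_s_279_287 (c : Nat) : Nat := @Bool.rec (fun _ => Nat) (Atab_s_279_283 c) (Atab_s_283_287 c) (Nat.ble 283 c)
noncomputable def Atab_s_272_287 (c : Nat) : Nat := @Bool.rec (fun _ => Nat) (Atab_s_272_279 c) (Atab_s_279_287 c) (Nat.ble 279 c)
noncomputable def Atab_s_258_287 (c : Nat) : Nat := @Bool.rec (fun _ => Nat) (Atab_s_258_272 c) (Atab_s_272_287 c) (Nat.ble 272 c)
noncomputable def Atab_s_230_287 (c : Nat) : Nat := @Bool.rec (fun _ => Nat) (Atab_s_230_258 c) (Atab_s_258_287 c) (Nat.ble 258 c)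
noncomputable def Atab_s_288_290 (c : Nat) : Nat := @Bool.rec (fun _ => Nat) (Atab_288) (Atab_289) (Nat.ble 289 c)
noncomputable def Atab_s_287_290 (c : Nat) : Nat := @Bool.rec (fun _ => Nat) (Atab_287) (Atab_s_288_290 c) (Nat.ble 288 c)
noncomputable def Atab_s_290_292 (c : Nat) : Nat := @Bool.rec (fun _ => Nat) (Atab_290) (Atab_291) (Nat.ble 291 c)
noncomputable def Atab_s_292_294 (c : Nat) : Nat := @Bool.rec (fun _ => Nat) (Atab_292) (Atab_293) (Nat.ble 293 c)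
noncomputable def Atab_s_290_294 (c : Nat) : Nat := @Bool.rec (fun _ => Nat) (Atab_s_290_292 c) (Atab_s_292_294 c) (Nat.ble 292 c)
noncomputable def Atab_s_287_294 (c : Nat) : Nat := @Bool.rec (fun _ => Nat) (Atab_s_287_290 c) (Atab_s_290_294 c) (Nat.ble 290 c)
noncomputable def Atab_s_295_297 (c : Nat) : Nat := @Bool.rec (fun _ => Nat) (Atab_295) (Atab_296) (Nat.ble 296 c)
noncomputable def Atab_s_294_297 (c : Nat) : Nat := @Bool.rec (fun _ => Nat) (Atab_294) (Atab_s_295_297 c) (Nat.ble 295 c)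
noncomputable def Atab_s_297_299 (c : Nat) : Nat := @Bool.rec (fun _ => Nat) (Atab_297) (Atab_298) (Nat.ble 298 c)
noncomputable def Atab_s_299_301 (c : Nat) : Nat := @Bool.rec (fun _ => Nat) (Atab_299) (Atab_300) (Nat.ble 300 c)
noncomputable def Atab_s_297_301 (c : Nat) : Nat := @Bool.rec (fun _ => Nat) (Atab_s_297_299 c) (Atab_s_299_301 c) (Nat.ble 299 c)
noncomputable def Atab_s_294_301 (c : Nat) : Nat := @Bool.rec (fun _ => Nat) (Atab_s_294_297 c) (Atab_s_297_301 c) (Nat.ble 297 c)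
noncomputable def Atab_s_287_301 (c : Nat) : Nat := @Bool.rec (fun _ => Nat) (Atab_s_287_294 c) (Atab_s_294_301 c) (Nat.ble 294 c)
noncomputable def Atab_s_302_304 (c : Nat) : Nat := @Bool.rec (fun _ => Nat) (Atab_302) (Atab_303) (Nat.ble 303 c)
noncomputable def Atab_s_301_304 (c : Nat) : Nat := @Bool.rec (fun _ => Nat) (Atab_301) (Atab_s_302_304 c) (Nat.ble 302 c)
noncomputable def Atab_s_304_306 (c : Nat) : Nat := @Bool.rec (fun _ => Nat) (Atab_304) (Atab_305) (Nat.ble 305 c)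
noncomputable def Atab_s_306_308 (c : Nat) : Nat := @Bool.rec (fun _ => Nat) (Atab_306) (Atab_307) (Nat.ble 307 c)
noncomputable def Atab_s_304_308 (c : Nat) : Nat := @Bool.rec (fun _ => Nat) (Atab_s_304_306 c) (Atab_s_306_308 c) (Nat.ble 306 c)
noncomputable def Atab_s_301_308 (c : Nat) : Nat := @Bool.rec (fun _ => Nat) (Atab_s_301_304 c) (Atab_s_304_308 c) (Nat.ble 304 c)
noncomputable def Atab_s_308_310 (c : Nat) : Nat := @Bool.rec (fun _ => Nat) (Atab_308) (Atab_309) (Nat.ble 309 c)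
noncomputable def Atab_s_310_312 (c : Nat) : Nat := @Bool.rec (fun _ => Nat) (Atab_310) (Atab_311) (Nat.ble 311 c)
noncomputable def Atab_s_308_312 (c : Nat) : Nat := @Bool.rec (fun _ => Nat) (Atab_s_308_310 c) (Atab_s_310_312 c) (Nat.ble 310 c)
noncomputable def Atab_s_312_314 (c : Nat) : Nat := @Bool.rec (fun _ => Nat) (Atab_312) (Atab_313) (Nat.ble 313 c)
noncomputable def Atab_s_314_316 (c : Nat) : Nat := @Bool.rec (fun _ => Nat) (Atab_314) (Atab_315) (Nat.ble 315 c)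
noncomputable def Atab_s_312_316 (c : Nat) : Nat := @Bool.rec (fun _ => Nat) (Atab_s_312_314 c) (Atab_s_314_316 c) (Nat.ble 314 c)
noncomputable def Atab_s_308_316 (c : Nat) : Nat := @Bool.rec (fun _ => Nat) (Atab_s_308_312 c) (Atab_s_312_316 c) (Nat.ble 312 c)
noncomputable def Atab_s_301_316 (c : Nat) : Nat := @Bool.rec (fun _ => Nat) (Atab_s_301_308 c) (Atab_s_308_316 c) (Nat.ble 308 c)
noncomputable def Atab_s_287_316 (c : Nat) : Nat := @Bool.rec (fun _ => Nat) (Atab_s_287_301 c) (Atab_s_301_316 c) (Nat.ble 301 c)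
noncomputable def Atab_s_317_319 (c : Nat) : Nat := @Bool.rec (fun _ => Nat) (Atab_317) (Atab_318) (Nat.ble 318 c)
noncomputable def Atab_s_316_319 (c : Nat) : Nat := @Bool.rec (fun _ => Nat) (Atab_316) (Atab_s_317_319 c) (Nat.ble 317 c)
noncomputable def Atab_s_319_321 (c : Nat) : Nat := @Bool.rec (fun _ => Nat) (Atab_319) (Atab_320) (Nat.ble 320 c)
noncomputable def Atab_s_321_323 (c : Nat) : Nat := @Bool.rec (fun _ => Nat) (Atab_321) (Atab_322) (Nat.ble 322 c)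
noncomputable def Atab_s_319_323 (c : Nat) : Nat := @Bool.rec (fun _ => Nat) (Atab_s_319_321 c) (Atab_s_321_323 c) (Nat.ble 321 c)
noncomputable def Atab_s_316_323 (c : Nat) : Nat := @Bool.rec (fun _ => Nat) (Atab_s_316_319 c) (Atab_s_319_323 c) (Nat.ble 319 c)
noncomputable def Atab_s_324_326 (c : Nat) : Nat := @Bool.rec (fun _ => Nat) (Atab_324) (Atab_325) (Nat.ble 325 c)
noncomputable def Atab_s_323_326 (c : Nat) : Nat := @Bool.rec (fun _ => Nat) (Atab_323) (Atab_s_324_326 c) (Nat.ble 324 c)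
noncomputable def Atab_s_326_328 (c : Nat) : Nat := @Bool.rec (fun _ => Nat) (Atab_326) (Atab_327) (Nat.ble 327 c)
noncomputable def Atab_s_328_330 (c : Nat) : Nat := @Bool.rec (fun _ => Nat) (Atab_328) (Atab_329) (Nat.ble 329 c)
noncomputable def Atab_s_326_330 (c : Nat) : Nat := @Bool.rec (fun _ => Nat) (Atab_s_326_328 c) (Atab_s_328_330 c) (Nat.ble 328 c)
noncomputable def Atab_s_323_330 (c : Nat) : Nat := @Bool.rec (fun _ => Nat) (Atab_s_323_326 c) (Atab_s_326_330 c) (Nat.ble 326 c)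
noncomputable def Atab_s_316_330 (c : Nat) : Nat := @Bool.rec (fun _ => Nat) (Atab_s_316_323 c) (Atab_s_323_330 c) (Nat.ble 323 c)
noncomputable def Atab_s_331_333 (c : Nat) : Nat := @Bool.rec (fun _ => Nat) (Atab_331) (Atab_332) (Nat.ble 332 c)
noncomputable def Atab_s_330_333 (c : Nat) : Nat := @Bool.rec (fun _ => Nat) (Atab_330) (Atab_s_331_333 c) (Nat.ble 331 c)
noncomputable def Atab_s_333_335 (c : Nat) : Nat := @Bool.rec (fun _ => Nat) (Atab_333) (Atab_334) (Nat.ble 334 c)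
noncomputable def Atab_s_335_337 (c : Nat) : Nat := @Bool.rec (fun _ => Nat) (Atab_335) (Atab_336) (Nat.ble 336 c)
noncomputable def Atab_s_333_337 (c : Nat) : Nat := @Bool.rec (fun _ => Nat) (Atab_s_333_335 c) (Atab_s_335_337 c) (Nat.ble 335 c)
noncomputable def Atab_s_330_337 (c : Nat) : Nat := @Bool.rec (fun _ => Nat) (Atab_s_330_333 c) (Atab_s_333_337 c) (Nat.ble 333 c)
noncomputable def Atab_s_337_339 (c : Nat) : Nat := @Bool.rec (fun _ => Nat) (Atab_337) (Atab_338) (Nat.ble 338 c)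
noncomputable def Atab_s_339_341 (c : Nat) : Nat := @Bool.rec (fun _ => Nat) (Atab_339) (Atab_340) (Nat.ble 340 c)
noncomputable def Atab_s_337_341 (c : Nat) : Nat := @Bool.rec (fun _ => Nat) (Atab_s_337_339 c) (Atab_s_339_341 c) (Nat.ble 339 c)
noncomputable def Atab_s_341_343 (c : Nat) : Nat := @Bool.rec (fun _ => Nat) (Atab_341) (Atab_342) (Nat.ble 342 c)
noncomputable def Atab_s_343_345 (c : Nat) : Nat := @Bool.rec (fun _ => Nat) (Atab_343) (Atab_344) (Nat.ble 344 c)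
noncomputable def Atab_s_341_345 (c : Nat) : Nat := @Bool.rec (fun _ => Nat) (Atab_s_341_343 c) (Atab_s_343_345 c) (Nat.ble 343 c)
noncomputable def Atab_s_337_345 (c : Nat) : Nat := @Bool.rec (fun _ => Nat) (Atab_s_337_341 c) (Atab_s_341_345 c) (Nat.ble 341 c)
noncomputable def Atab_s_330_345 (c : Nat) : Nat := @Bool.rec (fun _ => Nat) (Atab_s_330_337 c) (Atab_s_337_345 c) (Nat.ble 337 c)
noncomputable def Atab_s_316_345 (c : Nat) : Nat := @Bool.rec (fun _ => Nat) (Atab_s_316_330 c) (Atab_s_330_345 c) (Nat.ble 330 c)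
noncomputable def Atab_s_287_345 (c : Nat) : Nat := @Bool.rec (fun _ => Nat) (Atab_s_287_316 c) (Atab_s_316_345 c) (Nat.ble 316 c)
noncomputable def Atab_s_230_345 (c : Nat) : Nat := @Bool.rec (fun _ => Nat) (Atab_s_230_287 c) (Atab_s_287_345 c) (Nat.ble 287 c)
noncomputable def Atab_s_346_348 (c : Nat) : Nat := @Bool.rec (fun _ => Nat) (Atab_346) (Atab_347) (Nat.ble 347 c)
noncomputable def Atab_s_345_348 (c : Nat) : Nat := @Bool.rec (fun _ => Nat) (Atab_345) (Atab_s_346_348 c) (Nat.ble 346 c)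
noncomputable def Atab_s_348_350 (c : Nat) : Nat := @Bool.rec (fun _ => Nat) (Atab_348) (Atab_349) (Nat.ble 349 c)
noncomputable def Atab_s_350_352 (c : Nat) : Nat := @Bool.rec (fun _ => Nat) (Atab_350) (Atab_351) (Nat.ble 351 c)
noncomputable def Atab_s_348_352 (c : Nat) : Nat := @Bool.rec (fun _ => Nat) (Atab_s_348_350 c) (Atab_s_350_352 c) (Nat.ble 350 c)
noncomputable def Atab_s_345_352 (c : Nat) : Nat := @Bool.rec (fun _ => Nat) (Atab_s_345_348 c) (Atab_s_348_352 c) (Nat.ble 348 c)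
noncomputable def Atab_s_353_355 (c : Nat) : Nat := @Bool.rec (fun _ => Nat) (Atab_353) (Atab_354) (Nat.ble 354 c)
noncomputable def Atab_s_352_355 (c : Nat) : Nat := @Bool.rec (fun _ => Nat) (Atab_352) (Atab_s_353_355 c) (Nat.ble 353 c)
noncomputable def Atab_s_355_357 (c : Nat) : Nat := @Bool.rec (fun _ => Nat) (Atab_355) (Atab_356) (Nat.ble 356 c)
noncomputable def Atab_s_357_359 (c : Nat) : Nat := @Bool.rec (fun _ => Nat) (Atab_357) (Atab_358) (Nat.ble 358 c)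
noncomputable def Atab_s_355_359 (c : Nat) : Nat := @Bool.rec (fun _ => Nat) (Atab_s_355_357 c) (Atab_s_357_359 c) (Nat.ble 357 c)
noncomputable def Atab_s_352_359 (c : Nat) : Nat := @Bool.rec (fun _ => Nat) (Atab_s_352_355 c) (Atab_s_355_359 c) (Nat.ble 355 c)
noncomputable def Atab_s_345_359 (c : Nat) : Nat := @Bool.rec (fun _ => Nat) (Atab_s_345_352 c) (Atab_s_352_359 c) (Nat.ble 352 c)
noncomputable def Atab_s_360_362 (c : Nat) : Nat := @Bool.rec (fun _ => Nat) (Atab_360) (Atab_361) (Nat.ble 361 c)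
noncomputable def Atab_s_359_362 (c : Nat) : Nat := @Bool.rec (fun _ => Nat) (Atab_359) (Atab_s_360_362 c) (Nat.ble 360 c)
noncomputable def Atab_s_362_364 (c : Nat) : Nat := @Bool.rec (fun _ => Nat) (Atab_362) (Atab_363) (Nat.ble 363 c)
noncomputable def Atab_s_364_366 (c : Nat) : Nat := @Bool.rec (fun _ => Nat) (Atab_364) (Atab_365) (Nat.ble 365 c)
noncomputable def Atab_s_362_366 (c : Nat) : Nat := @Bool.rec (fun _ => Nat) (Atab_s_362_364 c) (Atab_s_364_366 c) (Nat.ble 364 c)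
noncomputable def Atab_s_359_366 (c : Nat) : Nat := @Bool.rec (fun _ => Nat) (Atab_s_359_362 c) (Atab_s_362_366 c) (Nat.ble 362 c)
noncomputable def Atab_s_367_369 (c : Nat) : Nat := @Bool.rec (fun _ => Nat) (Atab_367) (Atab_368) (Nat.ble 368 c)
noncomputable def Atab_s_366_369 (c : Nat) : Nat := @Bool.rec (fun _ => Nat) (Atab_366) (Atab_s_367_369 c) (Nat.ble 367 c)
noncomputable def Atab_s_369_371 (c : Nat) : Nat := @Bool.rec (fun _ => Nat) (Atab_369) (Atab_370) (Nat.ble 370 c)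
noncomputable def Atab_s_371_373 (c : Nat) : Nat := @Bool.rec (fun _ => Nat) (Atab_371) (Atab_372) (Nat.ble 372 c)
noncomputable def Atab_s_369_373 (c : Nat) : Nat := @Bool.rec (fun _ => Nat) (Atab_s_369_371 c) (Atab_s_371_373 c) (Nat.ble 371 c)
noncomputable def Atab_s_366_373 (c : Nat) : Nat := @Bool.rec (fun _ => Nat) (Atab_s_366_369 c) (Atab_s_369_373 c) (Nat.ble 369 c)
noncomputable def Atab_s_359_373 (c : Nat) : Nat := @Bool.rec (fun _ => Nat) (Atab_s_359_366 c) (Atab_s_366_373 c) (Nat.ble 366 c)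
noncomputable def Atab_s_345_373 (c : Nat) : Nat := @Bool.rec (fun _ => Nat) (Atab_s_345_359 c) (Atab_s_359_373 c) (Nat.ble 359 c)
noncomputable def Atab_s_374_376 (c : Nat) : Nat := @Bool.rec (fun _ => Nat) (Atab_374) (Atab_375) (Nat.ble 375 c)
noncomputable def Atab_s_373_376 (c : Nat) : Nat := @Bool.rec (fun _ => Nat) (Atab_373) (Atab_s_374_376 c) (Nat.ble 374 c)
noncomputable def Atab_s_376_378 (c : Nat) : Nat := @Bool.rec (fun _ => Nat) (Atab_376) (Atab_377) (Nat.ble 377 c)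
noncomputable def Atab_s_378_380 (c : Nat) : Nat := @Bool.rec (fun _ => Nat) (Atab_378) (Atab_379) (Nat.ble 379 c)
noncomputable def Atab_s_376_380 (c : Nat) : Nat := @Bool.rec (fun _ => Nat) (Atab_s_376_378 c) (Atab_s_378_380 c) (Nat.ble 378 c)
noncomputable def Atab_s_373_380 (c : Nat) : Nat := @Bool.rec (fun _ => Nat) (Atab_s_373_376 c) (Atab_s_376_380 c) (Nat.ble 376 c)
noncomputable def Atab_s_381_383 (c : Nat) : Nat := @Bool.rec (fun _ => Nat) (Atab_381) (Atab_382) (Nat.ble 382 c)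
noncomputable def Atab_s_380_383 (c : Nat) : Nat := @Bool.rec (fun _ => Nat) (Atab_380) (Atab_s_381_383 c) (Nat.ble 381 c)
noncomputable def Atab_s_383_385 (c : Nat) : Nat := @Bool.rec (fun _ => Nat) (Atab_383) (Atab_384) (Nat.ble 384 c)
noncomputable def Atab_s_385_387 (c : Nat) : Nat := @Bool.rec (fun _ => Nat) (Atab_385) (Atab_386) (Nat.ble 386 c)
noncomputable def Atab_s_383_387 (c : Nat) : Nat := @Bool.rec (fun _ => Nat) (Atab_s_383_385 c) (Atab_s_385_387 c) (Nat.ble 385 c)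
noncomputable def Atab_s_380_387 (c : Nat) : Nat := @Bool.rec (fun _ => Nat) (Atab_s_380_383 c) (Atab_s_383_387 c) (Nat.ble 383 c)
noncomputable def Atab_s_373_387 (c : Nat) : Nat := @Bool.rec (fun _ => Nat) (Atab_s_373_380 c) (Atab_s_380_387 c) (Nat.ble 380 c)
noncomputable def Atab_s_388_390 (c : Nat) : Nat := @Bool.rec (fun _ => Nat) (Atab_388) (Atab_389) (Nat.ble 389 c)
noncomputable def Atab_s_387_390 (c : Nat) : Nat := @Bool.rec (fun _ => Nat) (Atab_387) (Atab_s_388_390 c) (Nat.ble 388 c)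
noncomputable def Atab_s_390_392 (c : Nat) : Nat := @Bool.rec (fun _ => Nat) (Atab_390) (Atab_391) (Nat.ble 391 c)
noncomputable def Atab_s_392_394 (c : Nat) : Nat := @Bool.rec (fun _ => Nat) (Atab_392) (Atab_393) (Nat.ble 393 c)
noncomputable def Atab_s_390_394 (c : Nat) : Nat := @Bool.rec (fun _ => Nat) (Atab_s_390_392 c) (Atab_s_392_394 c) (Nat.ble 392 c)
noncomputable def Atab_s_387_394 (c : Nat) : Nat := @Bool.rec (fun _ => Nat) (Atab_s_387_390 c) (Atab_s_390_394 c) (Nat.ble 390 c)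
noncomputable def Atab_s_394_396 (c : Nat) : Nat := @Bool.rec (fun _ => Nat) (Atab_394) (Atab_395) (Nat.ble 395 c)
noncomputable def Atab_s_396_398 (c : Nat) : Nat := @Bool.rec (fun _ => Nat) (Atab_396) (Atab_397) (Nat.ble 397 c)
noncomputable def Atab_s_394_398 (c : Nat) : Nat := @Bool.rec (fun _ => Nat) (Atab_s_394_396 c) (Atab_s_396_398 c) (Nat.ble 396 c)
noncomputable def Atab_s_398_400 (c : Nat) : Nat := @Bool.rec (fun _ => Nat) (Atab_398) (Atab_399) (Nat.ble 399 c)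
noncomputable def Atab_s_400_402 (c : Nat) : Nat := @Bool.rec (fun _ => Nat) (Atab_400) (Atab_401) (Nat.ble 401 c)
noncomputable def Atab_s_398_402 (c : Nat) : Nat := @Bool.rec (fun _ => Nat) (Atab_s_398_400 c) (Atab_s_400_402 c) (Nat.ble 400 c)
noncomputable def Atab_s_394_402 (c : Nat) : Nat := @Bool.rec (fun _ => Nat) (Atab_s_394_398 c) (Atab_s_398_402 c) (Nat.ble 398 c)
noncomputable def Atab_s_387_402 (c : Nat) : Nat := @Bool.rec (fun _ => Nat) (Atab_s_387_394 c) (Atab_s_394_402 c) (Nat.ble 394 c)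
noncomputable def Atab_s_373_402 (c : Nat) : Nat := @Bool.rec (fun _ => Nat) (Atab_s_373_387 c) (Atab_s_387_402 c) (Nat.ble 387 c)
noncomputable def Atab_s_345_402 (c : Nat) : Nat := @Bool.rec (fun _ => Nat) (Atab_s_345_373 c) (Atab_s_373_402 c) (Nat.ble 373 c)
noncomputable def Atab_s_403_405 (c : Nat) : Nat := @Bool.rec (fun _ => Nat) (Atab_403) (Atab_404) (Nat.ble 404 c)
noncomputable def Atab_s_402_405 (c : Nat) : Nat := @Bool.rec (fun _ => Nat) (Atab_402) (Atab_s_403_405 c) (Nat.ble 403 c)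
noncomputable def Atab_s_405_407 (c : Nat) : Nat := @Bool.rec (fun _ => Nat) (Atab_405) (Atab_406) (Nat.ble 406 c)
noncomputable def Atab_s_407_409 (c : Nat) : Nat := @Bool.rec (fun _ => Nat) (Atab_407) (Atab_408) (Nat.ble 408 c)
noncomputable def Atab_s_405_409 (c : Nat) : Nat := @Bool.rec (fun _ => Nat) (Atab_s_405_407 c) (Atab_s_407_409 c) (Nat.ble 407 c)
noncomputable def Atab_s_402_409 (c : Nat) : Nat := @Bool.rec (fun _ => Nat) (Atab_s_402_405 c) (Atab_s_405_409 c) (Nat.ble 405 c)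
noncomputable def Atab_s_410_412 (c : Nat) : Nat := @Bool.rec (fun _ => Nat) (Atab_410) (Atab_411) (Nat.ble 411 c)
noncomputable def Atab_s_409_412 (c : Nat) : Nat := @Bool.rec (fun _ => Nat) (Atab_409) (Atab_s_410_412 c) (Nat.ble 410 c)
noncomputable def Atab_s_412_414 (c : Nat) : Nat := @Bool.rec (fun _ => Nat) (Atab_412) (Atab_413) (Nat.ble 413 c)
noncomputable def Atab_s_414_416 (c : Nat) : Nat := @Bool.rec (fun _ => Nat) (Atab_414) (Atab_415) (Nat.ble 415 c)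
noncomputable def Atab_s_412_416 (c : Nat) : Nat := @Bool.rec (fun _ => Nat) (Atab_s_412_414 c) (Atab_s_414_416 c) (Nat.ble 414 c)
noncomputable def Atab_s_409_416 (c : Nat) : Nat := @Bool.rec (fun _ => Nat) (Atab_s_409_412 c) (Atab_s_412_416 c) (Nat.ble 412 c)
noncomputable def Atab_s_402_416 (c : Nat) : Nat := @Bool.rec (fun _ => Nat) (Atab_s_402_409 c) (Atab_s_409_416 c) (Nat.ble 409 c)
noncomputable def Atab_s_417_419 (c : Nat) : Nat := @Bool.rec (fun _ => Nat) (Atab_417) (Atab_418) (Nat.ble 418 c)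
noncomputable def Atab_s_416_419 (c : Nat) : Nat := @Bool.rec (fun _ => Nat) (Atab_416) (Atab_s_417_419 c) (Nat.ble 417 c)
noncomputable def Atab_s_419_421 (c : Nat) : Nat := @Bool.rec (fun _ => Nat) (Atab_419) (Atab_420) (Nat.ble 420 c)
noncomputable def Atab_s_421_423 (c : Nat) : Nat := @Bool.rec (fun _ => Nat) (Atab_421) (Atab_422) (Nat.ble 422 c)
noncomputable def Atab_s_419_423 (c : Nat) : Nat := @Bool.rec (fun _ => Nat) (Atab_s_419_421 c) (Atab_s_421_423 c) (Nat.ble 421 c)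
noncomputable def Atab_s_416_423 (c : Nat) : Nat := @Bool.rec (fun _ => Nat) (Atab_s_416_419 c) (Atab_s_419_423 c) (Nat.ble 419 c)
noncomputable def Atab_s_423_425 (c : Nat) : Nat := @Bool.rec (fun _ => Nat) (Atab_423) (Atab_424) (Nat.ble 424 c)
noncomputable def Atab_s_425_427 (c : Nat) : Nat := @Bool.rec (fun _ => Nat) (Atab_425) (Atab_426) (Nat.ble 426 c)
noncomputable def Atab_s_423_427 (c : Nat) : Nat := @Bool.rec (fun _ => Nat) (Atab_s_423_425 c) (Atab_s_425_427 c) (Nat.ble 425 c)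
noncomputable def Atab_s_427_429 (c : Nat) : Nat := @Bool.rec (fun _ => Nat) (Atab_427) (Atab_428) (Nat.ble 428 c)
noncomputable def Atab_s_429_431 (c : Nat) : Nat := @Bool.rec (fun _ => Nat) (Atab_429) (Atab_430) (Nat.ble 430 c)
noncomputable def Atab_s_427_431 (c : Nat) : Nat := @Bool.rec (fun _ => Nat) (Atab_s_427_429 c) (Atab_s_429_431 c) (Nat.ble 429 c)
noncomputable def Atab_s_423_431 (c : Nat) : Nat := @Bool.rec (fun _ => Nat) (Atab_s_423_427 c) (Atab_s_427_431 c) (Nat.ble 427 c)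
noncomputable def Atab_s_416_431 (c : Nat) : Nat := @Bool.rec (fun _ => Nat) (Atab_s_416_423 c) (Atab_s_423_431 c) (Nat.ble 423 c)
noncomputable def Atab_s_402_431 (c : Nat) : Nat := @Bool.rec (fun _ => Nat) (Atab_s_402_416 c) (Atab_s_416_431 c) (Nat.ble 416 c)
noncomputable def Atab_s_432_434 (c : Nat) : Nat := @Bool.rec (fun _ => Nat) (Atab_432) (Atab_433) (Nat.ble 433 c)
noncomputable def Atab_s_431_434 (c : Nat) : Nat := @Bool.rec (fun _ => Nat) (Atab_431) (Atab_s_432_434 c) (Nat.ble 432 c)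
noncomputable def Atab_s_434_436 (c : Nat) : Nat := @Bool.rec (fun _ => Nat) (Atab_434) (Atab_435) (Nat.ble 435 c)
noncomputable def Atab_s_436_438 (c : Nat) : Nat := @Bool.rec (fun _ => Nat) (Atab_436) (Atab_437) (Nat.ble 437 c)
noncomputable def Atab_s_434_438 (c : Nat) : Nat := @Bool.rec (fun _ => Nat) (Atab_s_434_436 c) (Atab_s_436_438 c) (Nat.ble 436 c)
noncomputable def Atab_s_431_438 (c : Nat) : Nat := @Bool.rec (fun _ => Nat) (Atab_s_431_434 c) (Atab_s_434_438 c) (Nat.ble 434 c)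
noncomputable def Atab_s_439_441 (c : Nat) : Nat := @Bool.rec (fun _ => Nat) (Atab_439) (Atab_440) (Nat.ble 440 c)
noncomputable def Atab_s_438_441 (c : Nat) : Nat := @Bool.rec (fun _ => Nat) (Atab_438) (Atab_s_439_441 c) (Nat.ble 439 c)
noncomputable def Atab_s_441_443 (c : Nat) : Nat := @Bool.rec (fun _ => Nat) (Atab_441) (Atab_442) (Nat.ble 442 c)
noncomputable def Atab_s_443_445 (c : Nat) : Nat := @Bool.rec (fun _ => Nat) (Atab_443) (Atab_444) (Nat.ble 444 c)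
noncomputable def Atab_s_441_445 (c : Nat) : Nat := @Bool.rec (fun _ => Nat) (Atab_s_441_443 c) (Atab_s_443_445 c) (Nat.ble 443 c)
noncomputable def Atab_s_438_445 (c : Nat) : Nat := @Bool.rec (fun _ => Nat) (Atab_s_438_441 c) (Atab_s_441_445 c) (Nat.ble 441 c)
noncomputable def Atab_s_431_445 (c : Nat) : Nat := @Bool.rec (fun _ => Nat) (Atab_s_431_438 c) (Atab_s_438_445 c) (Nat.ble 438 c)
noncomputable def Atab_s_446_448 (c : Nat) : Nat := @Bool.rec (fun _ => Nat) (Atab_446) (Atab_447) (Nat.ble 447 c)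
noncomputable def Atab_s_445_448 (c : Nat) : Nat := @Bool.rec (fun _ => Nat) (Atab_445) (Atab_s_446_448 c) (Nat.ble 446 c)
noncomputable def Atab_s_448_450 (c : Nat) : Nat := @Bool.rec (fun _ => Nat) (Atab_448) (Atab_449) (Nat.ble 449 c)
noncomputable def Atab_s_450_452 (c : Nat) : Nat := @Bool.rec (fun _ => Nat) (Atab_450) (Atab_451) (Nat.ble 451 c)
noncomputable def Atab_s_448_452 (c : Nat) : Nat := @Bool.rec (fun _ => Nat) (Atab_s_448_450 c) (Atab_s_450_452 c) (Nat.ble 450 c)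
noncomputable def Atab_s_445_452 (c : Nat) : Nat := @Bool.rec (fun _ => Nat) (Atab_s_445_448 c) (Atab_s_448_452 c) (Nat.ble 448 c)
noncomputable def Atab_s_452_454 (c : Nat) : Nat := @Bool.rec (fun _ => Nat) (Atab_452) (Atab_453) (Nat.ble 453 c)
noncomputable def Atab_s_454_456 (c : Nat) : Nat := @Bool.rec (fun _ => Nat) (Atab_454) (Atab_455) (Nat.ble 455 c)
noncomputable def Atab_s_452_456 (c : Nat) : Nat := @Bool.rec (fun _ => Nat) (Atab_s_452_454 c) (Atab_s_454_456 c) (Nat.ble 454 c)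
noncomputable def Atab_s_456_458 (c : Nat) : Nat := @Bool.rec (fun _ => Nat) (Atab_456) (Atab_457) (Nat.ble 457 c)
noncomputable def Atab_s_458_460 (c : Nat) : Nat := @Bool.rec (fun _ => Nat) (Atab_458) (Atab_459) (Nat.ble 459 c)
noncomputable def Atab_s_456_460 (c : Nat) : Nat := @Bool.rec (fun _ => Nat) (Atab_s_456_458 c) (Atab_s_458_460 c) (Nat.ble 458 c)
noncomputable def Atab_s_452_460 (c : Nat) : Nat := @Bool.rec (fun _ => Nat) (Atab_s_452_456 c) (Atab_s_456_460 c) (Nat.ble 456 c)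
noncomputable def Atab_s_445_460 (c : Nat) : Nat := @Bool.rec (fun _ => Nat) (Atab_s_445_452 c) (Atab_s_452_460 c) (Nat.ble 452 c)
noncomputable def Atab_s_431_460 (c : Nat) : Nat := @Bool.rec (fun _ => Nat) (Atab_s_431_445 c) (Atab_s_445_460 c) (Nat.ble 445 c)
noncomputable def Atab_s_402_460 (c : Nat) : Nat := @Bool.rec (fun _ => Nat) (Atab_s_402_431 c) (Atab_s_431_460 c) (Nat.ble 431 c)
noncomputable def Atab_s_345_460 (c : Nat) : Nat := @Bool.rec (fun _ => Nat) (Atab_s_345_402 c) (Atab_s_402_460 c) (Nat.ble 402 c)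
noncomputable def Atab_s_230_460 (c : Nat) : Nat := @Bool.rec (fun _ => Nat) (Atab_s_230_345 c) (Atab_s_345_460 c) (Nat.ble 345 c)
noncomputable def Atab_s_0_460 (c : Nat) : Nat := @Bool.rec (fun _ => Nat) (Atab_s_0_230 c) (Atab_s_230_460 c) (Nat.ble 230 c)
noncomputable def Atab_s_461_463 (c : Nat) : Nat := @Bool.rec (fun _ => Nat) (Atab_461) (Atab_462) (Nat.ble 462 c)
noncomputable def Atab_s_460_463 (c : Nat) : Nat := @Bool.rec (fun _ => Nat) (Atab_460) (Atab_s_461_463 c) (Nat.ble 461 c)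
noncomputable def Atab_s_463_465 (c : Nat) : Nat := @Bool.rec (fun _ => Nat) (Atab_463) (Atab_464) (Nat.ble 464 c)
noncomputable def Atab_s_465_467 (c : Nat) : Nat := @Bool.rec (fun _ => Nat) (Atab_465) (Atab_466) (Nat.ble 466 c)
noncomputable def Atab_s_463_467 (c : Nat) : Nat := @Bool.rec (fun _ => Nat) (Atab_s_463_465 c) (Atab_s_465_467 c) (Nat.ble 465 c)
noncomputable def Atab_s_460_467 (c : Nat) : Nat := @Bool.rec (fun _ => Nat) (Atab_s_460_463 c) (Atab_s_463_467 c) (Nat.ble 463 c)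
noncomputable def Atab_s_468_470 (c : Nat) : Nat := @Bool.rec (fun _ => Nat) (Atab_468) (Atab_469) (Nat.ble 469 c)
noncomputable def Atab_s_467_470 (c : Nat) : Nat := @Bool.rec (fun _ => Nat) (Atab_467) (Atab_s_468_470 c) (Nat.ble 468 c)
noncomputable def Atab_s_470_472 (c : Nat) : Nat := @Bool.rec (fun _ => Nat) (Atab_470) (Atab_471) (Nat.ble 471 c)
noncomputable def Atab_s_472_474 (c : Nat) : Nat := @Bool.rec (fun _ => Nat) (Atab_472) (Atab_473) (Nat.ble 473 c)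
noncomputable def Atab_s_470_474 (c : Nat) : Nat := @Bool.rec (fun _ => Nat) (Atab_s_470_472 c) (Atab_s_472_474 c) (Nat.ble 472 c)
noncomputable def Atab_s_467_474 (c : Nat) : Nat := @Bool.rec (fun _ => Nat) (Atab_s_467_470 c) (Atab_s_470_474 c) (Nat.ble 470 c)
noncomputable def Atab_s_460_474 (c : Nat) : Nat := @Bool.rec (fun _ => Nat) (Atab_s_460_467 c) (Atab_s_467_474 c) (Nat.ble 467 c)
noncomputable def Atab_s_475_477 (c : Nat) : Nat := @Bool.rec (fun _ => Nat) (Atab_475) (Atab_476) (Nat.ble 476 c)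
noncomputable def Atab_s_474_477 (c : Nat) : Nat := @Bool.rec (fun _ => Nat) (Atab_474) (Atab_s_475_477 c) (Nat.ble 475 c)
noncomputable def Atab_s_477_479 (c : Nat) : Nat := @Bool.rec (fun _ => Nat) (Atab_477) (Atab_478) (Nat.ble 478 c)
noncomputable def Atab_s_479_481 (c : Nat) : Nat := @Bool.rec (fun _ => Nat) (Atab_479) (Atab_480) (Nat.ble 480 c)
noncomputable def Atab_s_477_481 (c : Nat) : Nat := @Bool.rec (fun _ => Nat) (Atab_s_477_479 c) (Atab_s_479_481 c) (Nat.ble 479 c)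
noncomputable def Atab_s_474_481 (c : Nat) : Nat := @Bool.rec (fun _ => Nat) (Atab_s_474_477 c) (Atab_s_477_481 c) (Nat.ble 477 c)
noncomputable def Atab_s_482_484 (c : Nat) : Nat := @Bool.rec (fun _ => Nat) (Atab_482) (Atab_483) (Nat.ble 483 c)
noncomputable def Atab_s_481_484 (c : Nat) : Nat := @Bool.rec (fun _ => Nat) (Atab_481) (Atab_s_482_484 c) (Nat.ble 482 c)
noncomputable def Atab_s_484_486 (c : Nat) : Nat := @Bool.rec (fun _ => Nat) (Atab_484) (Atab_485) (Nat.ble 485 c)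
noncomputable def Atab_s_486_488 (c : Nat) : Nat := @Bool.rec (fun _ => Nat) (Atab_486) (Atab_487) (Nat.ble 487 c)
noncomputable def Atab_s_484_488 (c : Nat) : Nat := @Bool.rec (fun _ => Nat) (Atab_s_484_486 c) (Atab_s_486_488 c) (Nat.ble 486 c)
noncomputable def Atab_s_481_488 (c : Nat) : Nat := @Bool.rec (fun _ => Nat) (Atab_s_481_484 c) (Atab_s_484_488 c) (Nat.ble 484 c)
noncomputable def Atab_s_474_488 (c : Nat) : Nat := @Bool.rec (fun _ => Nat) (Atab_s_474_481 c) (Atab_s_481_488 c) (Nat.ble 481 c)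
noncomputable def Atab_s_460_488 (c : Nat) : Nat := @Bool.rec (fun _ => Nat) (Atab_s_460_474 c) (Atab_s_474_488 c) (Nat.ble 474 c)
noncomputable def Atab_s_489_491 (c : Nat) : Nat := @Bool.rec (fun _ => Nat) (Atab_489) (Atab_490) (Nat.ble 490 c)
noncomputable def Atab_s_488_491 (c : Nat) : Nat := @Bool.rec (fun _ => Nat) (Atab_488) (Atab_s_489_491 c) (Nat.ble 489 c)
noncomputable def Atab_s_491_493 (c : Nat) : Nat := @Bool.rec (fun _ => Nat) (Atab_491) (Atab_492) (Nat.ble 492 c)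
noncomputable def Atab_s_493_495 (c : Nat) : Nat := @Bool.rec (fun _ => Nat) (Atab_493) (Atab_494) (Nat.ble 494 c)
noncomputable def Atab_s_491_495 (c : Nat) : Nat := @Bool.rec (fun _ => Nat) (Atab_s_491_493 c) (Atab_s_493_495 c) (Nat.ble 493 c)
noncomputable def Atab_s_488_495 (c : Nat) : Nat := @Bool.rec (fun _ => Nat) (Atab_s_488_491 c) (Atab_s_491_495 c) (Nat.ble 491 c)
noncomputable def Atab_s_496_498 (c : Nat) : Nat := @Bool.rec (fun _ => Nat) (Atab_496) (Atab_497) (Nat.ble 497 c)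
noncomputable def Atab_s_495_498 (c : Nat) : Nat := @Bool.rec (fun _ => Nat) (Atab_495) (Atab_s_496_498 c) (Nat.ble 496 c)
noncomputable def Atab_s_498_500 (c : Nat) : Nat := @Bool.rec (fun _ => Nat) (Atab_498) (Atab_499) (Nat.ble 499 c)
noncomputable def Atab_s_500_502 (c : Nat) : Nat := @Bool.rec (fun _ => Nat) (Atab_500) (Atab_501) (Nat.ble 501 c)
noncomputable def Atab_s_498_502 (c : Nat) : Nat := @Bool.rec (fun _ => Nat) (Atab_s_498_500 c) (Atab_s_500_502 c) (Nat.ble 500 c)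
noncomputable def Atab_s_495_502 (c : Nat) : Nat := @Bool.rec (fun _ => Nat) (Atab_s_495_498 c) (Atab_s_498_502 c) (Nat.ble 498 c)
noncomputable def Atab_s_488_502 (c : Nat) : Nat := @Bool.rec (fun _ => Nat) (Atab_s_488_495 c) (Atab_s_495_502 c) (Nat.ble 495 c)
noncomputable def Atab_s_503_505 (c : Nat) : Nat := @Bool.rec (fun _ => Nat) (Atab_503) (Atab_504) (Nat.ble 504 c)
noncomputable def Atab_s_502_505 (c : Nat) : Nat := @Bool.rec (fun _ => Nat) (Atab_502) (Atab_s_503_505 c) (Nat.ble 503 c)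
noncomputable def Atab_s_505_507 (c : Nat) : Nat := @Bool.rec (fun _ => Nat) (Atab_505) (Atab_506) (Nat.ble 506 c)
noncomputable def Atab_s_507_509 (c : Nat) : Nat := @Bool.rec (fun _ => Nat) (Atab_507) (Atab_508) (Nat.ble 508 c)
noncomputable def Atab_s_505_509 (c : Nat) : Nat := @Bool.rec (fun _ => Nat) (Atab_s_505_507 c) (Atab_s_507_509 c) (Nat.ble 507 c)
noncomputable def Atab_s_502_509 (c : Nat) : Nat := @Bool.rec (fun _ => Nat) (Atab_s_502_505 c) (Atab_s_505_509 c) (Nat.ble 505 c)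
noncomputable def Atab_s_509_511 (c : Nat) : Nat := @Bool.rec (fun _ => Nat) (Atab_509) (Atab_510) (Nat.ble 510 c)
noncomputable def Atab_s_511_513 (c : Nat) : Nat := @Bool.rec (fun _ => Nat) (Atab_511) (Atab_512) (Nat.ble 512 c)
noncomputable def Atab_s_509_513 (c : Nat) : Nat := @Bool.rec (fun _ => Nat) (Atab_s_509_511 c) (Atab_s_511_513 c) (Nat.ble 511 c)
noncomputable def Atab_s_513_515 (c : Nat) : Nat := @Bool.rec (fun _ => Nat) (Atab_513) (Atab_514) (Nat.ble 514 c)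
noncomputable def Atab_s_515_517 (c : Nat) : Nat := @Bool.rec (fun _ => Nat) (Atab_515) (Atab_516) (Nat.ble 516 c)
noncomputable def Atab_s_513_517 (c : Nat) : Nat := @Bool.rec (fun _ => Nat) (Atab_s_513_515 c) (Atab_s_515_517 c) (Nat.ble 515 c)
noncomputable def Atab_s_509_517 (c : Nat) : Nat := @Bool.rec (fun _ => Nat) (Atab_s_509_513 c) (Atab_s_513_517 c) (Nat.ble 513 c)
noncomputable def Atab_s_502_517 (c : Nat) : Nat := @Bool.rec (fun _ => Nat) (Atab_s_502_509 c) (Atab_s_509_517 c) (Nat.ble 509 c)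
noncomputable def Atab_s_488_517 (c : Nat) : Nat := @Bool.rec (fun _ => Nat) (Atab_s_488_502 c) (Atab_s_502_517 c) (Nat.ble 502 c)
noncomputable def Atab_s_460_517 (c : Nat) : Nat := @Bool.rec (fun _ => Nat) (Atab_s_460_488 c) (Atab_s_488_517 c) (Nat.ble 488 c)
noncomputable def Atab_s_518_520 (c : Nat) : Nat := @Bool.rec (fun _ => Nat) (Atab_518) (Atab_519) (Nat.ble 519 c)
noncomputable def Atab_s_517_520 (c : Nat) : Nat := @Bool.rec (fun _ => Nat) (Atab_517) (Atab_s_518_520 c) (Nat.ble 518 c)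
noncomputable def Atab_s_520_522 (c : Nat) : Nat := @Bool.rec (fun _ => Nat) (Atab_520) (Atab_521) (Nat.ble 521 c)
noncomputable def Atab_s_522_524 (c : Nat) : Nat := @Bool.rec (fun _ => Nat) (Atab_522) (Atab_523) (Nat.ble 523 c)
noncomputable def Atab_s_520_524 (c : Nat) : Nat := @Bool.rec (fun _ => Nat) (Atab_s_520_522 c) (Atab_s_522_524 c) (Nat.ble 522 c)
noncomputable def Atab_s_517_524 (c : Nat) : Nat := @Bool.rec (fun _ => Nat) (Atab_s_517_520 c) (Atab_s_520_524 c) (Nat.ble 520 c)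
noncomputable def Atab_s_525_527 (c : Nat) : Nat := @Bool.rec (fun _ => Nat) (Atab_525) (Atab_526) (Nat.ble 526 c)
noncomputable def Atab_s_524_527 (c : Nat) : Nat := @Bool.rec (fun _ => Nat) (Atab_524) (Atab_s_525_527 c) (Nat.ble 525 c)
noncomputable def Atab_s_527_529 (c : Nat) : Nat := @Bool.rec (fun _ => Nat) (Atab_527) (Atab_528) (Nat.ble 528 c)
noncomputable def Atab_s_529_531 (c : Nat) : Nat := @Bool.rec (fun _ => Nat) (Atab_529) (Atab_530) (Nat.ble 530 c)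
noncomputable def Atab_s_527_531 (c : Nat) : Nat := @Bool.rec (fun _ => Nat) (Atab_s_527_529 c) (Atab_s_529_531 c) (Nat.ble 529 c)
noncomputable def Atab_s_524_531 (c : Nat) : Nat := @Bool.rec (fun _ => Nat) (Atab_s_524_527 c) (Atab_s_527_531 c) (Nat.ble 527 c)
noncomputable def Atab_s_517_531 (c : Nat) : Nat := @Bool.rec (fun _ => Nat) (Atab_s_517_524 c) (Atab_s_524_531 c) (Nat.ble 524 c)
noncomputable def Atab_s_532_534 (c : Nat) : Nat := @Bool.rec (fun _ => Nat) (Atab_532) (Atab_533) (Nat.ble 533 c)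
noncomputable def Atab_s_531_534 (c : Nat) : Nat := @Bool.rec (fun _ => Nat) (Atab_531) (Atab_s_532_534 c) (Nat.ble 532 c)
noncomputable def Atab_s_534_536 (c : Nat) : Nat := @Bool.rec (fun _ => Nat) (Atab_534) (Atab_535) (Nat.ble 535 c)
noncomputable def Atab_s_536_538 (c : Nat) : Nat := @Bool.rec (fun _ => Nat) (Atab_536) (Atab_537) (Nat.ble 537 c)
noncomputable def Atab_s_534_538 (c : Nat) : Nat := @Bool.rec (fun _ => Nat) (Atab_s_534_536 c) (Atab_s_536_538 c) (Nat.ble 536 c)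
noncomputable def Atab_s_531_538 (c : Nat) : Nat := @Bool.rec (fun _ => Nat) (Atab_s_531_534 c) (Atab_s_534_538 c) (Nat.ble 534 c)
noncomputable def Atab_s_538_540 (c : Nat) : Nat := @Bool.rec (fun _ => Nat) (Atab_538) (Atab_539) (Nat.ble 539 c)
noncomputable def Atab_s_540_542 (c : Nat) : Nat := @Bool.rec (fun _ => Nat) (Atab_540) (Atab_541) (Nat.ble 541 c)
noncomputable def Atab_s_538_542 (c : Nat) : Nat := @Bool.rec (fun _ => Nat) (Atab_s_538_540 c) (Atab_s_540_542 c) (Nat.ble 540 c)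
noncomputable def Atab_s_542_544 (c : Nat) : Nat := @Bool.rec (fun _ => Nat) (Atab_542) (Atab_543) (Nat.ble 543 c)
noncomputable def Atab_s_544_546 (c : Nat) : Nat := @Bool.rec (fun _ => Nat) (Atab_544) (Atab_545) (Nat.ble 545 c)
noncomputable def Atab_s_542_546 (c : Nat) : Nat := @Bool.rec (fun _ => Nat) (Atab_s_542_544 c) (Atab_s_544_546 c) (Nat.ble 544 c)
noncomputable def Atab_s_538_546 (c : Nat) : Nat := @Bool.rec (fun _ => Nat) (Atab_s_538_542 c) (Atab_s_542_546 c) (Nat.ble 542 c)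
noncomputable def Atab_s_531_546 (c : Nat) : Nat := @Bool.rec (fun _ => Nat) (Atab_s_531_538 c) (Atab_s_538_546 c) (Nat.ble 538 c)
noncomputable def Atab_s_517_546 (c : Nat) : Nat := @Bool.rec (fun _ => Nat) (Atab_s_517_531 c) (Atab_s_531_546 c) (Nat.ble 531 c)
noncomputable def Atab_s_547_549 (c : Nat) : Nat := @Bool.rec (fun _ => Nat) (Atab_547) (Atab_548) (Nat.ble 548 c)
noncomputable def Atab_s_546_549 (c : Nat) : Nat := @Bool.rec (fun _ => Nat) (Atab_546) (Atab_s_547_549 c) (Nat.ble 547 c)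
noncomputable def Atab_s_549_551 (c : Nat) : Nat := @Bool.rec (fun _ => Nat) (Atab_549) (Atab_550) (Nat.ble 550 c)
noncomputable def Atab_s_551_553 (c : Nat) : Nat := @Bool.rec (fun _ => Nat) (Atab_551) (Atab_552) (Nat.ble 552 c)
noncomputable def Atab_s_549_553 (c : Nat) : Nat := @Bool.rec (fun _ => Nat) (Atab_s_549_551 c) (Atab_s_551_553 c) (Nat.ble 551 c)
noncomputable def Atab_s_546_553 (c : Nat) : Nat := @Bool.rec (fun _ => Nat) (Atab_s_546_549 c) (Atab_s_549_553 c) (Nat.ble 549 c)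
noncomputable def Atab_s_554_556 (c : Nat) : Nat := @Bool.rec (fun _ => Nat) (Atab_554) (Atab_555) (Nat.ble 555 c)
noncomputable def Atab_s_553_556 (c : Nat) : Nat := @Bool.rec (fun _ => Nat) (Atab_553) (Atab_s_554_556 c) (Nat.ble 554 c)
noncomputable def Atab_s_556_558 (c : Nat) : Nat := @Bool.rec (fun _ => Nat) (Atab_556) (Atab_557) (Nat.ble 557 c)
noncomputable def Atab_s_558_560 (c : Nat) : Nat := @Bool.rec (fun _ => Nat) (Atab_558) (Atab_559) (Nat.ble 559 c)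
noncomputable def Atab_s_556_560 (c : Nat) : Nat := @Bool.rec (fun _ => Nat) (Atab_s_556_558 c) (Atab_s_558_560 c) (Nat.ble 558 c)
noncomputable def Atab_s_553_560 (c : Nat) : Nat := @Bool.rec (fun _ => Nat) (Atab_s_553_556 c) (Atab_s_556_560 c) (Nat.ble 556 c)
noncomputable def Atab_s_546_560 (c : Nat) : Nat := @Bool.rec (fun _ => Nat) (Atab_s_546_553 c) (Atab_s_553_560 c) (Nat.ble 553 c)
noncomputable def Atab_s_561_563 (c : Nat) : Nat := @Bool.rec (fun _ => Nat) (Atab_561) (Atab_562) (Nat.ble 562 c)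
noncomputable def Atab_s_560_563 (c : Nat) : Nat := @Bool.rec (fun _ => Nat) (Atab_560) (Atab_s_561_563 c) (Nat.ble 561 c)
noncomputable def Atab_s_563_565 (c : Nat) : Nat := @Bool.rec (fun _ => Nat) (Atab_563) (Atab_564) (Nat.ble 564 c)
noncomputable def Atab_s_565_567 (c : Nat) : Nat := @Bool.rec (fun _ => Nat) (Atab_565) (Atab_566) (Nat.ble 566 c)
noncomputable def Atab_s_563_567 (c : Nat) : Nat := @Bool.rec (fun _ => Nat) (Atab_s_563_565 c) (Atab_s_565_567 c) (Nat.ble 565 c)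
noncomputable def Atab_s_560_567 (c : Nat) : Nat := @Bool.rec (fun _ => Nat) (Atab_s_560_563 c) (Atab_s_563_567 c) (Nat.ble 563 c)
noncomputable def Atab_s_567_569 (c : Nat) : Nat := @Bool.rec (fun _ => Nat) (Atab_567) (Atab_568) (Nat.ble 568 c)
noncomputable def Atab_s_569_571 (c : Nat) : Nat := @Bool.rec (fun _ => Nat) (Atab_569) (Atab_570) (Nat.ble 570 c)
noncomputable def Atab_s_567_571 (c : Nat) : Nat := @Bool.rec (fun _ => Nat) (Atab_s_567_569 c) (Atab_s_569_571 c) (Nat.ble 569 c)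
noncomputable def Atab_s_571_573 (c : Nat) : Nat := @Bool.rec (fun _ => Nat) (Atab_571) (Atab_572) (Nat.ble 572 c)
noncomputable def Atab_s_573_575 (c : Nat) : Nat := @Bool.rec (fun _ => Nat) (Atab_573) (Atab_574) (Nat.ble 574 c)
noncomputable def Atab_s_571_575 (c : Nat) : Nat := @Bool.rec (fun _ => Nat) (Atab_s_571_573 c) (Atab_s_573_575 c) (Nat.ble 573 c)
noncomputable def Atab_s_567_575 (c : Nat) : Nat := @Bool.rec (fun _ => Nat) (Atab_s_567_571 c) (Atab_s_571_575 c) (Nat.ble 571 c)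
noncomputable def Atab_s_560_575 (c : Nat) : Nat := @Bool.rec (fun _ => Nat) (Atab_s_560_567 c) (Atab_s_567_575 c) (Nat.ble 567 c)
noncomputable def Atab_s_546_575 (c : Nat) : Nat := @Bool.rec (fun _ => Nat) (Atab_s_546_560 c) (Atab_s_560_575 c) (Nat.ble 560 c)
noncomputable def Atab_s_517_575 (c : Nat) : Nat := @Bool.rec (fun _ => Nat) (Atab_s_517_546 c) (Atab_s_546_575 c) (Nat.ble 546 c)
noncomputable def Atab_s_460_575 (c : Nat) : Nat := @Bool.rec (fun _ => Nat) (Atab_s_460_517 c) (Atab_s_517_575 c) (Nat.ble 517 c)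
noncomputable def Atab_s_576_578 (c : Nat) : Nat := @Bool.rec (fun _ => Nat) (Atab_576) (Atab_577) (Nat.ble 577 c)
noncomputable def Atab_s_575_578 (c : Nat) : Nat := @Bool.rec (fun _ => Nat) (Atab_575) (Atab_s_576_578 c) (Nat.ble 576 c)
noncomputable def Atab_s_578_580 (c : Nat) : Nat := @Bool.rec (fun _ => Nat) (Atab_578) (Atab_579) (Nat.ble 579 c)
noncomputable def Atab_s_580_582 (c : Nat) : Nat := @Bool.rec (fun _ => Nat) (Atab_580) (Atab_581) (Nat.ble 581 c)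
noncomputable def Atab_s_578_582 (c : Nat) : Nat := @Bool.rec (fun _ => Nat) (Atab_s_578_580 c) (Atab_s_580_582 c) (Nat.ble 580 c)
noncomputable def Atab_s_575_582 (c : Nat) : Nat := @Bool.rec (fun _ => Nat) (Atab_s_575_578 c) (Atab_s_578_582 c) (Nat.ble 578 c)
noncomputable def Atab_s_583_585 (c : Nat) : Nat := @Bool.rec (fun _ => Nat) (Atab_583) (Atab_584) (Nat.ble 584 c)
noncomputable def Atab_s_582_585 (c : Nat) : Nat := @Bool.rec (fun _ => Nat) (Atab_582) (Atab_s_583_585 c) (Nat.ble 583 c)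
noncomputable def Atab_s_585_587 (c : Nat) : Nat := @Bool.rec (fun _ => Nat) (Atab_585) (Atab_586) (Nat.ble 586 c)
noncomputable def Atab_s_587_589 (c : Nat) : Nat := @Bool.rec (fun _ => Nat) (Atab_587) (Atab_588) (Nat.ble 588 c)
noncomputable def Atab_s_585_589 (c : Nat) : Nat := @Bool.rec (fun _ => Nat) (Atab_s_585_587 c) (Atab_s_587_589 c) (Nat.ble 587 c)
noncomputable def Atab_s_582_589 (c : Nat) : Nat := @Bool.rec (fun _ => Nat) (Atab_s_582_585 c) (Atab_s_585_589 c) (Nat.ble 585 c)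
noncomputable def Atab_s_575_589 (c : Nat) : Nat := @Bool.rec (fun _ => Nat) (Atab_s_575_582 c) (Atab_s_582_589 c) (Nat.ble 582 c)
noncomputable def Atab_s_590_592 (c : Nat) : Nat := @Bool.rec (fun _ => Nat) (Atab_590) (Atab_591) (Nat.ble 591 c)
noncomputable def Atab_s_589_592 (c : Nat) : Nat := @Bool.rec (fun _ => Nat) (Atab_589) (Atab_s_590_592 c) (Nat.ble 590 c)
noncomputable def Atab_s_592_594 (c : Nat) : Nat := @Bool.rec (fun _ => Nat) (Atab_592) (Atab_593) (Nat.ble 593 c)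
noncomputable def Atab_s_594_596 (c : Nat) : Nat := @Bool.rec (fun _ => Nat) (Atab_594) (Atab_595) (Nat.ble 595 c)
noncomputable def Atab_s_592_596 (c : Nat) : Nat := @Bool.rec (fun _ => Nat) (Atab_s_592_594 c) (Atab_s_594_596 c) (Nat.ble 594 c)
noncomputable def Atab_s_589_596 (c : Nat) : Nat := @Bool.rec (fun _ => Nat) (Atab_s_589_592 c) (Atab_s_592_596 c) (Nat.ble 592 c)
noncomputable def Atab_s_597_599 (c : Nat) : Nat := @Bool.rec (fun _ => Nat) (Atab_597) (Atab_598) (Nat.ble 598 c)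
noncomputable def Atab_s_596_599 (c : Nat) : Nat := @Bool.rec (fun _ => Nat) (Atab_596) (Atab_s_597_599 c) (Nat.ble 597 c)
noncomputable def Atab_s_599_601 (c : Nat) : Nat := @Bool.rec (fun _ => Nat) (Atab_599) (Atab_600) (Nat.ble 600 c)
noncomputable def Atab_s_601_603 (c : Nat) : Nat := @Bool.rec (fun _ => Nat) (Atab_601) (Atab_602) (Nat.ble 602 c)
noncomputable def Atab_s_599_603 (c : Nat) : Nat := @Bool.rec (fun _ => Nat) (Atab_s_599_601 c) (Atab_s_601_603 c) (Nat.ble 601 c)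
noncomputable def Atab_s_596_603 (c : Nat) : Nat := @Bool.rec (fun _ => Nat) (Atab_s_596_599 c) (Atab_s_599_603 c) (Nat.ble 599 c)
noncomputable def Atab_s_589_603 (c : Nat) : Nat := @Bool.rec (fun _ => Nat) (Atab_s_589_596 c) (Atab_s_596_603 c) (Nat.ble 596 c)
noncomputable def Atab_s_575_603 (c : Nat) : Nat := @Bool.rec (fun _ => Nat) (Atab_s_575_589 c) (Atab_s_589_603 c) (Nat.ble 589 c)
noncomputable def Atab_s_604_606 (c : Nat) : Nat := @Bool.rec (fun _ => Nat) (Atab_604) (Atab_605) (Nat.ble 605 c)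
noncomputable def Atab_s_603_606 (c : Nat) : Nat := @Bool.rec (fun _ => Nat) (Atab_603) (Atab_s_604_606 c) (Nat.ble 604 c)
noncomputable def Atab_s_606_608 (c : Nat) : Nat := @Bool.rec (fun _ => Nat) (Atab_606) (Atab_607) (Nat.ble 607 c)
noncomputable def Atab_s_608_610 (c : Nat) : Nat := @Bool.rec (fun _ => Nat) (Atab_608) (Atab_609) (Nat.ble 609 c)
noncomputable def Atab_s_606_610 (c : Nat) : Nat := @Bool.rec (fun _ => Nat) (Atab_s_606_608 c) (Atab_s_608_610 c) (Nat.ble 608 c)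
noncomputable def Atab_s_603_610 (c : Nat) : Nat := @Bool.rec (fun _ => Nat) (Atab_s_603_606 c) (Atab_s_606_610 c) (Nat.ble 606 c)
noncomputable def Atab_s_611_613 (c : Nat) : Nat := @Bool.rec (fun _ => Nat) (Atab_611) (Atab_612) (Nat.ble 612 c)
noncomputable def Atab_s_610_613 (c : Nat) : Nat := @Bool.rec (fun _ => Nat) (Atab_610) (Atab_s_611_613 c) (Nat.ble 611 c)
noncomputable def Atab_s_613_615 (c : Nat) : Nat := @Bool.rec (fun _ => Nat) (Atab_613) (Atab_614) (Nat.ble 614 c)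
noncomputable def Atab_s_615_617 (c : Nat) : Nat := @Bool.rec (fun _ => Nat) (Atab_615) (Atab_616) (Nat.ble 616 c)
noncomputable def Atab_s_613_617 (c : Nat) : Nat := @Bool.rec (fun _ => Nat) (Atab_s_613_615 c) (Atab_s_615_617 c) (Nat.ble 615 c)
noncomputable def Atab_s_610_617 (c : Nat) : Nat := @Bool.rec (fun _ => Nat) (Atab_s_610_613 c) (Atab_s_613_617 c) (Nat.ble 613 c)
noncomputable def Atab_s_603_617 (c : Nat) : Nat := @Bool.rec (fun _ => Nat) (Atab_s_603_610 c) (Atab_s_610_617 c) (Nat.ble 610 c)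
noncomputable def Atab_s_618_620 (c : Nat) : Nat := @Bool.rec (fun _ => Nat) (Atab_618) (Atab_619) (Nat.ble 619 c)
noncomputable def Atab_s_617_620 (c : Nat) : Nat := @Bool.rec (fun _ => Nat) (Atab_617) (Atab_s_618_620 c) (Nat.ble 618 c)
noncomputable def Atab_s_620_622 (c : Nat) : Nat := @Bool.rec (fun _ => Nat) (Atab_620) (Atab_621) (Nat.ble 621 c)
noncomputable def Atab_s_622_624 (c : Nat) : Nat := @Bool.rec (fun _ => Nat) (Atab_622) (Atab_623) (Nat.ble 623 c)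
noncomputable def Atab_s_620_624 (c : Nat) : Nat := @Bool.rec (fun _ => Nat) (Atab_s_620_622 c) (Atab_s_622_624 c) (Nat.ble 622 c)
noncomputable def Atab_s_617_624 (c : Nat) : Nat := @Bool.rec (fun _ => Nat) (Atab_s_617_620 c) (Atab_s_620_624 c) (Nat.ble 620 c)
noncomputable def Atab_s_624_626 (c : Nat) : Nat := @Bool.rec (fun _ => Nat) (Atab_624) (Atab_625) (Nat.ble 625 c)
noncomputable def Atab_s_626_628 (c : Nat) : Nat := @Bool.rec (fun _ => Nat) (Atab_626) (Atab_627) (Nat.ble 627 c)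
noncomputable def Atab_s_624_628 (c : Nat) : Nat := @Bool.rec (fun _ => Nat) (Atab_s_624_626 c) (Atab_s_626_628 c) (Nat.ble 626 c)
noncomputable def Atab_s_628_630 (c : Nat) : Nat := @Bool.rec (fun _ => Nat) (Atab_628) (Atab_629) (Nat.ble 629 c)
noncomputable def Atab_s_630_632 (c : Nat) : Nat := @Bool.rec (fun _ => Nat) (Atab_630) (Atab_631) (Nat.ble 631 c)
noncomputable def Atab_s_628_632 (c : Nat) : Nat := @Bool.rec (fun _ => Nat) (Atab_s_628_630 c) (Atab_s_630_632 c) (Nat.ble 630 c)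
noncomputable def Atab_s_624_632 (c : Nat) : Nat := @Bool.rec (fun _ => Nat) (Atab_s_624_628 c) (Atab_s_628_632 c) (Nat.ble 628 c)
noncomputable def Atab_s_617_632 (c : Nat) : Nat := @Bool.rec (fun _ => Nat) (Atab_s_617_624 c) (Atab_s_624_632 c) (Nat.ble 624 c)
noncomputable def Atab_s_603_632 (c : Nat) : Nat := @Bool.rec (fun _ => Nat) (Atab_s_603_617 c) (Atab_s_617_632 c) (Nat.ble 617 c)
noncomputable def Atab_s_575_632 (c : Nat) : Nat := @Bool.rec (fun _ => Nat) (Atab_s_575_603 c) (Atab_s_603_632 c) (Nat.ble 603 c)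
noncomputable def Atab_s_633_635 (c : Nat) : Nat := @Bool.rec (fun _ => Nat) (Atab_633) (Atab_634) (Nat.ble 634 c)
noncomputable def Atab_s_632_635 (c : Nat) : Nat := @Bool.rec (fun _ => Nat) (Atab_632) (Atab_s_633_635 c) (Nat.ble 633 c)
noncomputable def Atab_s_635_637 (c : Nat) : Nat := @Bool.rec (fun _ => Nat) (Atab_635) (Atab_636) (Nat.ble 636 c)
noncomputable def Atab_s_637_639 (c : Nat) : Nat := @Bool.rec (fun _ => Nat) (Atab_637) (Atab_638) (Nat.ble 638 c)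
noncomputable def Atab_s_635_639 (c : Nat) : Nat := @Bool.rec (fun _ => Nat) (Atab_s_635_637 c) (Atab_s_637_639 c) (Nat.ble 637 c)
noncomputable def Atab_s_632_639 (c : Nat) : Nat := @Bool.rec (fun _ => Nat) (Atab_s_632_635 c) (Atab_s_635_639 c) (Nat.ble 635 c)
noncomputable def Atab_s_640_642 (c : Nat) : Nat := @Bool.rec (fun _ => Nat) (Atab_640) (Atab_641) (Nat.ble 641 c)
noncomputable def Atab_s_639_642 (c : Nat) : Nat := @Bool.rec (fun _ => Nat) (Atab_639) (Atab_s_640_642 c) (Nat.ble 640 c)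
noncomputable def Atab_s_642_644 (c : Nat) : Nat := @Bool.rec (fun _ => Nat) (Atab_642) (Atab_643) (Nat.ble 643 c)
noncomputable def Atab_s_644_646 (c : Nat) : Nat := @Bool.rec (fun _ => Nat) (Atab_644) (Atab_645) (Nat.ble 645 c)
noncomputable def Atab_s_642_646 (c : Nat) : Nat := @Bool.rec (fun _ => Nat) (Atab_s_642_644 c) (Atab_s_644_646 c) (Nat.ble 644 c)
noncomputable def Atab_s_639_646 (c : Nat) : Nat := @Bool.rec (fun _ => Nat) (Atab_s_639_642 c) (Atab_s_642_646 c) (Nat.ble 642 c)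
noncomputable def Atab_s_632_646 (c : Nat) : Nat := @Bool.rec (fun _ => Nat) (Atab_s_632_639 c) (Atab_s_639_646 c) (Nat.ble 639 c)
noncomputable def Atab_s_647_649 (c : Nat) : Nat := @Bool.rec (fun _ => Nat) (Atab_647) (Atab_648) (Nat.ble 648 c)
noncomputable def Atab_s_646_649 (c : Nat) : Nat := @Bool.rec (fun _ => Nat) (Atab_646) (Atab_s_647_649 c) (Nat.ble 647 c)
noncomputable def Atab_s_649_651 (c : Nat) : Nat := @Bool.rec (fun _ => Nat) (Atab_649) (Atab_650) (Nat.ble 650 c)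
noncomputable def Atab_s_651_653 (c : Nat) : Nat := @Bool.rec (fun _ => Nat) (Atab_651) (Atab_652) (Nat.ble 652 c)
noncomputable def Atab_s_649_653 (c : Nat) : Nat := @Bool.rec (fun _ => Nat) (Atab_s_649_651 c) (Atab_s_651_653 c) (Nat.ble 651 c)
noncomputable def Atab_s_646_653 (c : Nat) : Nat := @Bool.rec (fun _ => Nat) (Atab_s_646_649 c) (Atab_s_649_653 c) (Nat.ble 649 c)
noncomputable def Atab_s_653_655 (c : Nat) : Nat := @Bool.rec (fun _ => Nat) (Atab_653) (Atab_654) (Nat.ble 654 c)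
noncomputable def Atab_s_655_657 (c : Nat) : Nat := @Bool.rec (fun _ => Nat) (Atab_655) (Atab_656) (Nat.ble 656 c)
noncomputable def Atab_s_653_657 (c : Nat) : Nat := @Bool.rec (fun _ => Nat) (Atab_s_653_655 c) (Atab_s_655_657 c) (Nat.ble 655 c)
noncomputable def Atab_s_657_659 (c : Nat) : Nat := @Bool.rec (fun _ => Nat) (Atab_657) (Atab_658) (Nat.ble 658 c)
noncomputable def Atab_s_659_661 (c : Nat) : Nat := @Bool.rec (fun _ => Nat) (Atab_659) (Atab_660) (Nat.ble 660 c)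
noncomputable def Atab_s_657_661 (c : Nat) : Nat := @Bool.rec (fun _ => Nat) (Atab_s_657_659 c) (Atab_s_659_661 c) (Nat.ble 659 c)
noncomputable def Atab_s_653_661 (c : Nat) : Nat := @Bool.rec (fun _ => Nat) (Atab_s_653_657 c) (Atab_s_657_661 c) (Nat.ble 657 c)
noncomputable def Atab_s_646_661 (c : Nat) : Nat := @Bool.rec (fun _ => Nat) (Atab_s_646_653 c) (Atab_s_653_661 c) (Nat.ble 653 c)
noncomputable def Atab_s_632_661 (c : Nat) : Nat := @Bool.rec (fun _ => Nat) (Atab_s_632_646 c) (Atab_s_646_661 c) (Nat.ble 646 c)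
noncomputable def Atab_s_662_664 (c : Nat) : Nat := @Bool.rec (fun _ => Nat) (Atab_662) (Atab_663) (Nat.ble 663 c)
noncomputable def Atab_s_661_664 (c : Nat) : Nat := @Bool.rec (fun _ => Nat) (Atab_661) (Atab_s_662_664 c) (Nat.ble 662 c)
noncomputable def Atab_s_664_666 (c : Nat) : Nat := @Bool.rec (fun _ => Nat) (Atab_664) (Atab_665) (Nat.ble 665 c)
noncomputable def Atab_s_666_668 (c : Nat) : Nat := @Bool.rec (fun _ => Nat) (Atab_666) (Atab_667) (Nat.ble 667 c)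
noncomputable def Atab_s_664_668 (c : Nat) : Nat := @Bool.rec (fun _ => Nat) (Atab_s_664_666 c) (Atab_s_666_668 c) (Nat.ble 666 c)
noncomputable def Atab_s_661_668 (c : Nat) : Nat := @Bool.rec (fun _ => Nat) (Atab_s_661_664 c) (Atab_s_664_668 c) (Nat.ble 664 c)
noncomputable def Atab_s_669_671 (c : Nat) : Nat := @Bool.rec (fun _ => Nat) (Atab_669) (Atab_670) (Nat.ble 670 c)
noncomputable def Atab_s_668_671 (c : Nat) : Nat := @Bool.rec (fun _ => Nat) (Atab_668) (Atab_s_669_671 c) (Nat.ble 669 c)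
noncomputable def Atab_s_671_673 (c : Nat) : Nat := @Bool.rec (fun _ => Nat) (Atab_671) (Atab_672) (Nat.ble 672 c)
noncomputable def Atab_s_673_675 (c : Nat) : Nat := @Bool.rec (fun _ => Nat) (Atab_673) (Atab_674) (Nat.ble 674 c)
noncomputable def Atab_s_671_675 (c : Nat) : Nat := @Bool.rec (fun _ => Nat) (Atab_s_671_673 c) (Atab_s_673_675 c) (Nat.ble 673 c)
noncomputable def Atab_s_668_675 (c : Nat) : Nat := @Bool.rec (fun _ => Nat) (Atab_s_668_671 c) (Atab_s_671_675 c) (Nat.ble 671 c)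
noncomputable def Atab_s_661_675 (c : Nat) : Nat := @Bool.rec (fun _ => Nat) (Atab_s_661_668 c) (Atab_s_668_675 c) (Nat.ble 668 c)
noncomputable def Atab_s_676_678 (c : Nat) : Nat := @Bool.rec (fun _ => Nat) (Atab_676) (Atab_677) (Nat.ble 677 c)
noncomputable def Atab_s_675_678 (c : Nat) : Nat := @Bool.rec (fun _ => Nat) (Atab_675) (Atab_s_676_678 c) (Nat.ble 676 c)
noncomputable def Atab_s_678_680 (c : Nat) : Nat := @Bool.rec (fun _ => Nat) (Atab_678) (Atab_679) (Nat.ble 679 c)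
noncomputable def Atab_s_680_682 (c : Nat) : Nat := @Bool.rec (fun _ => Nat) (Atab_680) (Atab_681) (Nat.ble 681 c)
noncomputable def Atab_s_678_682 (c : Nat) : Nat := @Bool.rec (fun _ => Nat) (Atab_s_678_680 c) (Atab_s_680_682 c) (Nat.ble 680 c)
noncomputable def Atab_s_675_682 (c : Nat) : Nat := @Bool.rec (fun _ => Nat) (Atab_s_675_678 c) (Atab_s_678_682 c) (Nat.ble 678 c)
noncomputable def Atab_s_682_684 (c : Nat) : Nat := @Bool.rec (fun _ => Nat) (Atab_682) (Atab_683) (Nat.ble 683 c)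
noncomputable def Atab_s_684_686 (c : Nat) : Nat := @Bool.rec (fun _ => Nat) (Atab_684) (Atab_685) (Nat.ble 685 c)
noncomputable def Atab_s_682_686 (c : Nat) : Nat := @Bool.rec (fun _ => Nat) (Atab_s_682_684 c) (Atab_s_684_686 c) (Nat.ble 684 c)
noncomputable def Atab_s_686_688 (c : Nat) : Nat := @Bool.rec (fun _ => Nat) (Atab_686) (Atab_687) (Nat.ble 687 c)
noncomputable def Atab_s_688_690 (c : Nat) : Nat := @Bool.rec (fun _ => Nat) (Atab_688) (Atab_689) (Nat.ble 689 c)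
noncomputable def Atab_s_686_690 (c : Nat) : Nat := @Bool.rec (fun _ => Nat) (Atab_s_686_688 c) (Atab_s_688_690 c) (Nat.ble 688 c)
noncomputable def Atab_s_682_690 (c : Nat) : Nat := @Bool.rec (fun _ => Nat) (Atab_s_682_686 c) (Atab_s_686_690 c) (Nat.ble 686 c)
noncomputable def Atab_s_675_690 (c : Nat) : Nat := @Bool.rec (fun _ => Nat) (Atab_s_675_682 c) (Atab_s_682_690 c) (Nat.ble 682 c)
noncomputable def Atab_s_661_690 (c : Nat) : Nat := @Bool.rec (fun _ => Nat) (Atab_s_661_675 c) (Atab_s_675_690 c) (Nat.ble 675 c)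
noncomputable def Atab_s_632_690 (c : Nat) : Nat := @Bool.rec (fun _ => Nat) (Atab_s_632_661 c) (Atab_s_661_690 c) (Nat.ble 661 c)
noncomputable def Atab_s_575_690 (c : Nat) : Nat := @Bool.rec (fun _ => Nat) (Atab_s_575_632 c) (Atab_s_632_690 c) (Nat.ble 632 c)
noncomputable def Atab_s_460_690 (c : Nat) : Nat := @Bool.rec (fun _ => Nat) (Atab_s_460_575 c) (Atab_s_575_690 c) (Nat.ble 575 c)
noncomputable def Atab_s_691_693 (c : Nat) : Nat := @Bool.rec (fun _ => Nat) (Atab_691) (Atab_692) (Nat.ble 692 c)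
noncomputable def Atab_s_690_693 (c : Nat) : Nat := @Bool.rec (fun _ => Nat) (Atab_690) (Atab_s_691_693 c) (Nat.ble 691 c)
noncomputable def Atab_s_693_695 (c : Nat) : Nat := @Bool.rec (fun _ => Nat) (Atab_693) (Atab_694) (Nat.ble 694 c)
noncomputable def Atab_s_695_697 (c : Nat) : Nat := @Bool.rec (fun _ => Nat) (Atab_695) (Atab_696) (Nat.ble 696 c)
noncomputable def Atab_s_693_697 (c : Nat) : Nat := @Bool.rec (fun _ => Nat) (Atab_s_693_695 c) (Atab_s_695_697 c) (Nat.ble 695 c)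
noncomputable def Atab_s_690_697 (c : Nat) : Nat := @Bool.rec (fun _ => Nat) (Atab_s_690_693 c) (Atab_s_693_697 c) (Nat.ble 693 c)
noncomputable def Atab_s_698_700 (c : Nat) : Nat := @Bool.rec (fun _ => Nat) (Atab_698) (Atab_699) (Nat.ble 699 c)
noncomputable def Atab_s_697_700 (c : Nat) : Nat := @Bool.rec (fun _ => Nat) (Atab_697) (Atab_s_698_700 c) (Nat.ble 698 c)
noncomputable def Atab_s_700_702 (c : Nat) : Nat := @Bool.rec (fun _ => Nat) (Atab_700) (Atab_701) (Nat.ble 701 c)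
noncomputable def Atab_s_702_704 (c : Nat) : Nat := @Bool.rec (fun _ => Nat) (Atab_702) (Atab_703) (Nat.ble 703 c)
noncomputable def Atab_s_700_704 (c : Nat) : Nat := @Bool.rec (fun _ => Nat) (Atab_s_700_702 c) (Atab_s_702_704 c) (Nat.ble 702 c)
noncomputable def Atab_s_697_704 (c : Nat) : Nat := @Bool.rec (fun _ => Nat) (Atab_s_697_700 c) (Atab_s_700_704 c) (Nat.ble 700 c)
noncomputable def Atab_s_690_704 (c : Nat) : Nat := @Bool.rec (fun _ => Nat) (Atab_s_690_697 c) (Atab_s_697_704 c) (Nat.ble 697 c)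
noncomputable def Atab_s_705_707 (c : Nat) : Nat := @Bool.rec (fun _ => Nat) (Atab_705) (Atab_706) (Nat.ble 706 c)
noncomputable def Atab_s_704_707 (c : Nat) : Nat := @Bool.rec (fun _ => Nat) (Atab_704) (Atab_s_705_707 c) (Nat.ble 705 c)
noncomputable def Atab_s_707_709 (c : Nat) : Nat := @Bool.rec (fun _ => Nat) (Atab_707) (Atab_708) (Nat.ble 708 c)
noncomputable def Atab_s_709_711 (c : Nat) : Nat := @Bool.rec (fun _ => Nat) (Atab_709) (Atab_710) (Nat.ble 710 c)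
noncomputable def Atab_s_707_711 (c : Nat) : Nat := @Bool.rec (fun _ => Nat) (Atab_s_707_709 c) (Atab_s_709_711 c) (Nat.ble 709 c)
noncomputable def Atab_s_704_711 (c : Nat) : Nat := @Bool.rec (fun _ => Nat) (Atab_s_704_707 c) (Atab_s_707_711 c) (Nat.ble 707 c)
noncomputable def Atab_s_712_714 (c : Nat) : Nat := @Bool.rec (fun _ => Nat) (Atab_712) (Atab_713) (Nat.ble 713 c)
noncomputable def Atab_s_711_714 (c : Nat) : Nat := @Bool.rec (fun _ => Nat) (Atab_711) (Atab_s_712_714 c) (Nat.ble 712 c)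
noncomputable def Atab_s_714_716 (c : Nat) : Nat := @Bool.rec (fun _ => Nat) (Atab_714) (Atab_715) (Nat.ble 715 c)
noncomputable def Atab_s_716_718 (c : Nat) : Nat := @Bool.rec (fun _ => Nat) (Atab_716) (Atab_717) (Nat.ble 717 c)
noncomputable def Atab_s_714_718 (c : Nat) : Nat := @Bool.rec (fun _ => Nat) (Atab_s_714_716 c) (Atab_s_716_718 c) (Nat.ble 716 c)
noncomputable def Atab_s_711_718 (c : Nat) : Nat := @Bool.rec (fun _ => Nat) (Atab_s_711_714 c) (Atab_s_714_718 c) (Nat.ble 714 c)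
noncomputable def Atab_s_704_718 (c : Nat) : Nat := @Bool.rec (fun _ => Nat) (Atab_s_704_711 c) (Atab_s_711_718 c) (Nat.ble 711 c)
noncomputable def Atab_s_690_718 (c : Nat) : Nat := @Bool.rec (fun _ => Nat) (Atab_s_690_704 c) (Atab_s_704_718 c) (Nat.ble 704 c)
noncomputable def Atab_s_719_721 (c : Nat) : Nat := @Bool.rec (fun _ => Nat) (Atab_719) (Atab_720) (Nat.ble 720 c)
noncomputable def Atab_s_718_721 (c : Nat) : Nat := @Bool.rec (fun _ => Nat) (Atab_718) (Atab_s_719_721 c) (Nat.ble 719 c)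
noncomputable def Atab_s_721_723 (c : Nat) : Nat := @Bool.rec (fun _ => Nat) (Atab_721) (Atab_722) (Nat.ble 722 c)
noncomputable def Atab_s_723_725 (c : Nat) : Nat := @Bool.rec (fun _ => Nat) (Atab_723) (Atab_724) (Nat.ble 724 c)
noncomputable def Atab_s_721_725 (c : Nat) : Nat := @Bool.rec (fun _ => Nat) (Atab_s_721_723 c) (Atab_s_723_725 c) (Nat.ble 723 c)
noncomputable def Atab_s_718_725 (c : Nat) : Nat := @Bool.rec (fun _ => Nat) (Atab_s_718_721 c) (Atab_s_721_725 c) (Nat.ble 721 c)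
noncomputable def Atab_s_726_728 (c : Nat) : Nat := @Bool.rec (fun _ => Nat) (Atab_726) (Atab_727) (Nat.ble 727 c)
noncomputable def Atab_s_725_728 (c : Nat) : Nat := @Bool.rec (fun _ => Nat) (Atab_725) (Atab_s_726_728 c) (Nat.ble 726 c)
noncomputable def Atab_s_728_730 (c : Nat) : Nat := @Bool.rec (fun _ => Nat) (Atab_728) (Atab_729) (Nat.ble 729 c)
noncomputable def Atab_s_730_732 (c : Nat) : Nat := @Bool.rec (fun _ => Nat) (Atab_730) (Atab_731) (Nat.ble 731 c)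
noncomputable def Atab_s_728_732 (c : Nat) : Nat := @Bool.rec (fun _ => Nat) (Atab_s_728_730 c) (Atab_s_730_732 c) (Nat.ble 730 c)
noncomputable def Atab_s_725_732 (c : Nat) : Nat := @Bool.rec (fun _ => Nat) (Atab_s_725_728 c) (Atab_s_728_732 c) (Nat.ble 728 c)
noncomputable def Atab_s_718_732 (c : Nat) : Nat := @Bool.rec (fun _ => Nat) (Atab_s_718_725 c) (Atab_s_725_732 c) (Nat.ble 725 c)
noncomputable def Atab_s_733_735 (c : Nat) : Nat := @Bool.rec (fun _ => Nat) (Atab_733) (Atab_734) (Nat.ble 734 c)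
noncomputable def Atab_s_732_735 (c : Nat) : Nat := @Bool.rec (fun _ => Nat) (Atab_732) (Atab_s_733_735 c) (Nat.ble 733 c)
noncomputable def Atab_s_735_737 (c : Nat) : Nat := @Bool.rec (fun _ => Nat) (Atab_735) (Atab_736) (Nat.ble 736 c)
noncomputable def Atab_s_737_739 (c : Nat) : Nat := @Bool.rec (fun _ => Nat) (Atab_737) (Atab_738) (Nat.ble 738 c)
noncomputable def Atab_s_735_739 (c : Nat) : Nat := @Bool.rec (fun _ => Nat) (Atab_s_735_737 c) (Atab_s_737_739 c) (Nat.ble 737 c)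
noncomputable def Atab_s_732_739 (c : Nat) : Nat := @Bool.rec (fun _ => Nat) (Atab_s_732_735 c) (Atab_s_735_739 c) (Nat.ble 735 c)
noncomputable def Atab_s_739_741 (c : Nat) : Nat := @Bool.rec (fun _ => Nat) (Atab_739) (Atab_740) (Nat.ble 740 c)
noncomputable def Atab_s_741_743 (c : Nat) : Nat := @Bool.rec (fun _ => Nat) (Atab_741) (Atab_742) (Nat.ble 742 c)
noncomputable def Atab_s_739_743 (c : Nat) : Nat := @Bool.rec (fun _ => Nat) (Atab_s_739_741 c) (Atab_s_741_743 c) (Nat.ble 741 c)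
noncomputable def Atab_s_743_745 (c : Nat) : Nat := @Bool.rec (fun _ => Nat) (Atab_743) (Atab_744) (Nat.ble 744 c)
noncomputable def Atab_s_745_747 (c : Nat) : Nat := @Bool.rec (fun _ => Nat) (Atab_745) (Atab_746) (Nat.ble 746 c)
noncomputable def Atab_s_743_747 (c : Nat) : Nat := @Bool.rec (fun _ => Nat) (Atab_s_743_745 c) (Atab_s_745_747 c) (Nat.ble 745 c)
noncomputable def Atab_s_739_747 (c : Nat) : Nat := @Bool.rec (fun _ => Nat) (Atab_s_739_743 c) (Atab_s_743_747 c) (Nat.ble 743 c)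
noncomputable def Atab_s_732_747 (c : Nat) : Nat := @Bool.rec (fun _ => Nat) (Atab_s_732_739 c) (Atab_s_739_747 c) (Nat.ble 739 c)
noncomputable def Atab_s_718_747 (c : Nat) : Nat := @Bool.rec (fun _ => Nat) (Atab_s_718_732 c) (Atab_s_732_747 c) (Nat.ble 732 c)
noncomputable def Atab_s_690_747 (c : Nat) : Nat := @Bool.rec (fun _ => Nat) (Atab_s_690_718 c) (Atab_s_718_747 c) (Nat.ble 718 c)
noncomputable def Atab_s_748_750 (c : Nat) : Nat := @Bool.rec (fun _ => Nat) (Atab_748) (Atab_749) (Nat.ble 749 c)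
noncomputable def Atab_s_747_750 (c : Nat) : Nat := @Bool.rec (fun _ => Nat) (Atab_747) (Atab_s_748_750 c) (Nat.ble 748 c)
noncomputable def Atab_s_750_752 (c : Nat) : Nat := @Bool.rec (fun _ => Nat) (Atab_750) (Atab_751) (Nat.ble 751 c)
noncomputable def Atab_s_752_754 (c : Nat) : Nat := @Bool.rec (fun _ => Nat) (Atab_752) (Atab_753) (Nat.ble 753 c)
noncomputable def Atab_s_750_754 (c : Nat) : Nat := @Bool.rec (fun _ => Nat) (Atab_s_750_752 c) (Atab_s_752_754 c) (Nat.ble 752 c)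
noncomputable def Atab_s_747_754 (c : Nat) : Nat := @Bool.rec (fun _ => Nat) (Atab_s_747_750 c) (Atab_s_750_754 c) (Nat.ble 750 c)
noncomputable def Atab_s_755_757 (c : Nat) : Nat := @Bool.rec (fun _ => Nat) (Atab_755) (Atab_756) (Nat.ble 756 c)
noncomputable def Atab_s_754_757 (c : Nat) : Nat := @Bool.rec (fun _ => Nat) (Atab_754) (Atab_s_755_757 c) (Nat.ble 755 c)
noncomputable def Atab_s_757_759 (c : Nat) : Nat := @Bool.rec (fun _ => Nat) (Atab_757) (Atab_758) (Nat.ble 758 c)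
noncomputable def Atab_s_759_761 (c : Nat) : Nat := @Bool.rec (fun _ => Nat) (Atab_759) (Atab_760) (Nat.ble 760 c)
noncomputable def Atab_s_757_761 (c : Nat) : Nat := @Bool.rec (fun _ => Nat) (Atab_s_757_759 c) (Atab_s_759_761 c) (Nat.ble 759 c)
noncomputable def Atab_s_754_761 (c : Nat) : Nat := @Bool.rec (fun _ => Nat) (Atab_s_754_757 c) (Atab_s_757_761 c) (Nat.ble 757 c)
noncomputable def Atab_s_747_761 (c : Nat) : Nat := @Bool.rec (fun _ => Nat) (Atab_s_747_754 c) (Atab_s_754_761 c) (Nat.ble 754 c)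
noncomputable def Atab_s_762_764 (c : Nat) : Nat := @Bool.rec (fun _ => Nat) (Atab_762) (Atab_763) (Nat.ble 763 c)
noncomputable def Atab_s_761_764 (c : Nat) : Nat := @Bool.rec (fun _ => Nat) (Atab_761) (Atab_s_762_764 c) (Nat.ble 762 c)
noncomputable def Atab_s_764_766 (c : Nat) : Nat := @Bool.rec (fun _ => Nat) (Atab_764) (Atab_765) (Nat.ble 765 c)
noncomputable def Atab_s_766_768 (c : Nat) : Nat := @Bool.rec (fun _ => Nat) (Atab_766) (Atab_767) (Nat.ble 767 c)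
noncomputable def Atab_s_764_768 (c : Nat) : Nat := @Bool.rec (fun _ => Nat) (Atab_s_764_766 c) (Atab_s_766_768 c) (Nat.ble 766 c)
noncomputable def Atab_s_761_768 (c : Nat) : Nat := @Bool.rec (fun _ => Nat) (Atab_s_761_764 c) (Atab_s_764_768 c) (Nat.ble 764 c)
noncomputable def Atab_s_768_770 (c : Nat) : Nat := @Bool.rec (fun _ => Nat) (Atab_768) (Atab_769) (Nat.ble 769 c)
noncomputable def Atab_s_770_772 (c : Nat) : Nat := @Bool.rec (fun _ => Nat) (Atab_770) (Atab_771) (Nat.ble 771 c)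
noncomputable def Atab_s_768_772 (c : Nat) : Nat := @Bool.rec (fun _ => Nat) (Atab_s_768_770 c) (Atab_s_770_772 c) (Nat.ble 770 c)
noncomputable def Atab_s_772_774 (c : Nat) : Nat := @Bool.rec (fun _ => Nat) (Atab_772) (Atab_773) (Nat.ble 773 c)
noncomputable def Atab_s_774_776 (c : Nat) : Nat := @Bool.rec (fun _ => Nat) (Atab_774) (Atab_775) (Nat.ble 775 c)
noncomputable def Atab_s_772_776 (c : Nat) : Nat := @Bool.rec (fun _ => Nat) (Atab_s_772_774 c) (Atab_s_774_776 c) (Nat.ble 774 c)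
noncomputable def Atab_s_768_776 (c : Nat) : Nat := @Bool.rec (fun _ => Nat) (Atab_s_768_772 c) (Atab_s_772_776 c) (Nat.ble 772 c)
noncomputable def Atab_s_761_776 (c : Nat) : Nat := @Bool.rec (fun _ => Nat) (Atab_s_761_768 c) (Atab_s_768_776 c) (Nat.ble 768 c)
noncomputable def Atab_s_747_776 (c : Nat) : Nat := @Bool.rec (fun _ => Nat) (Atab_s_747_761 c) (Atab_s_761_776 c) (Nat.ble 761 c)
noncomputable def Atab_s_777_779 (c : Nat) : Nat := @Bool.rec (fun _ => Nat) (Atab_777) (Atab_778) (Nat.ble 778 c)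
noncomputable def Atab_s_776_779 (c : Nat) : Nat := @Bool.rec (fun _ => Nat) (Atab_776) (Atab_s_777_779 c) (Nat.ble 777 c)
noncomputable def Atab_s_779_781 (c : Nat) : Nat := @Bool.rec (fun _ => Nat) (Atab_779) (Atab_780) (Nat.ble 780 c)
noncomputable def Atab_s_781_783 (c : Nat) : Nat := @Bool.rec (fun _ => Nat) (Atab_781) (Atab_782) (Nat.ble 782 c)
noncomputable def Atab_s_779_783 (c : Nat) : Nat := @Bool.rec (fun _ => Nat) (Atab_s_779_781 c) (Atab_s_781_783 c) (Nat.ble 781 c)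
noncomputable def Atab_s_776_783 (c : Nat) : Nat := @Bool.rec (fun _ => Nat) (Atab_s_776_779 c) (Atab_s_779_783 c) (Nat.ble 779 c)
noncomputable def Atab_s_784_786 (c : Nat) : Nat := @Bool.rec (fun _ => Nat) (Atab_784) (Atab_785) (Nat.ble 785 c)
noncomputable def Atab_s_783_786 (c : Nat) : Nat := @Bool.rec (fun _ => Nat) (Atab_783) (Atab_s_784_786 c) (Nat.ble 784 c)
noncomputable def Atab_s_786_788 (c : Nat) : Nat := @Bool.rec (fun _ => Nat) (Atab_786) (Atab_787) (Nat.ble 787 c)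
noncomputable def Atab_s_788_790 (c : Nat) : Nat := @Bool.rec (fun _ => Nat) (Atab_788) (Atab_789) (Nat.ble 789 c)
noncomputable def Atab_s_786_790 (c : Nat) : Nat := @Bool.rec (fun _ => Nat) (Atab_s_786_788 c) (Atab_s_788_790 c) (Nat.ble 788 c)
noncomputable def Atab_s_783_790 (c : Nat) : Nat := @Bool.rec (fun _ => Nat) (Atab_s_783_786 c) (Atab_s_786_790 c) (Nat.ble 786 c)
noncomputable def Atab_s_776_790 (c : Nat) : Nat := @Bool.rec (fun _ => Nat) (Atab_s_776_783 c) (Atab_s_783_790 c) (Nat.ble 783 c)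
noncomputable def Atab_s_791_793 (c : Nat) : Nat := @Bool.rec (fun _ => Nat) (Atab_791) (Atab_792) (Nat.ble 792 c)
noncomputable def Atab_s_790_793 (c : Nat) : Nat := @Bool.rec (fun _ => Nat) (Atab_790) (Atab_s_791_793 c) (Nat.ble 791 c)
noncomputable def Atab_s_793_795 (c : Nat) : Nat := @Bool.rec (fun _ => Nat) (Atab_793) (Atab_794) (Nat.ble 794 c)
noncomputable def Atab_s_795_797 (c : Nat) : Nat := @Bool.rec (fun _ => Nat) (Atab_795) (Atab_796) (Nat.ble 796 c)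
noncomputable def Atab_s_793_797 (c : Nat) : Nat := @Bool.rec (fun _ => Nat) (Atab_s_793_795 c) (Atab_s_795_797 c) (Nat.ble 795 c)
noncomputable def Atab_s_790_797 (c : Nat) : Nat := @Bool.rec (fun _ => Nat) (Atab_s_790_793 c) (Atab_s_793_797 c) (Nat.ble 793 c)
noncomputable def Atab_s_797_799 (c : Nat) : Nat := @Bool.rec (fun _ => Nat) (Atab_797) (Atab_798) (Nat.ble 798 c)
noncomputable def Atab_s_799_801 (c : Nat) : Nat := @Bool.rec (fun _ => Nat) (Atab_799) (Atab_800) (Nat.ble 800 c)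
noncomputable def Atab_s_797_801 (c : Nat) : Nat := @Bool.rec (fun _ => Nat) (Atab_s_797_799 c) (Atab_s_799_801 c) (Nat.ble 799 c)
noncomputable def Atab_s_801_803 (c : Nat) : Nat := @Bool.rec (fun _ => Nat) (Atab_801) (Atab_802) (Nat.ble 802 c)
noncomputable def Atab_s_803_805 (c : Nat) : Nat := @Bool.rec (fun _ => Nat) (Atab_803) (Atab_804) (Nat.ble 804 c)
noncomputable def Atab_s_801_805 (c : Nat) : Nat := @Bool.rec (fun _ => Nat) (Atab_s_801_803 c) (Atab_s_803_805 c) (Nat.ble 803 c)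
noncomputable def Atab_s_797_805 (c : Nat) : Nat := @Bool.rec (fun _ => Nat) (Atab_s_797_801 c) (Atab_s_801_805 c) (Nat.ble 801 c)
noncomputable def Atab_s_790_805 (c : Nat) : Nat := @Bool.rec (fun _ => Nat) (Atab_s_790_797 c) (Atab_s_797_805 c) (Nat.ble 797 c)
noncomputable def Atab_s_776_805 (c : Nat) : Nat := @Bool.rec (fun _ => Nat) (Atab_s_776_790 c) (Atab_s_790_805 c) (Nat.ble 790 c)
noncomputable def Atab_s_747_805 (c : Nat) : Nat := @Bool.rec (fun _ => Nat) (Atab_s_747_776 c) (Atab_s_776_805 c) (Nat.ble 776 c)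
noncomputable def Atab_s_690_805 (c : Nat) : Nat := @Bool.rec (fun _ => Nat) (Atab_s_690_747 c) (Atab_s_747_805 c) (Nat.ble 747 c)
noncomputable def Atab_s_806_808 (c : Nat) : Nat := @Bool.rec (fun _ => Nat) (Atab_806) (Atab_807) (Nat.ble 807 c)
noncomputable def Atab_s_805_808 (c : Nat) : Nat := @Bool.rec (fun _ => Nat) (Atab_805) (Atab_s_806_808 c) (Nat.ble 806 c)
noncomputable def Atab_s_808_810 (c : Nat) : Nat := @Bool.rec (fun _ => Nat) (Atab_808) (Atab_809) (Nat.ble 809 c)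
noncomputable def Atab_s_810_812 (c : Nat) : Nat := @Bool.rec (fun _ => Nat) (Atab_810) (Atab_811) (Nat.ble 811 c)
noncomputable def Atab_s_808_812 (c : Nat) : Nat := @Bool.rec (fun _ => Nat) (Atab_s_808_810 c) (Atab_s_810_812 c) (Nat.ble 810 c)
noncomputable def Atab_s_805_812 (c : Nat) : Nat := @Bool.rec (fun _ => Nat) (Atab_s_805_808 c) (Atab_s_808_812 c) (Nat.ble 808 c)
noncomputable def Atab_s_813_815 (c : Nat) : Nat := @Bool.rec (fun _ => Nat) (Atab_813) (Atab_814) (Nat.ble 814 c)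
noncomputable def Atab_s_812_815 (c : Nat) : Nat := @Bool.rec (fun _ => Nat) (Atab_812) (Atab_s_813_815 c) (Nat.ble 813 c)
noncomputable def Atab_s_815_817 (c : Nat) : Nat := @Bool.rec (fun _ => Nat) (Atab_815) (Atab_816) (Nat.ble 816 c)
noncomputable def Atab_s_817_819 (c : Nat) : Nat := @Bool.rec (fun _ => Nat) (Atab_817) (Atab_818) (Nat.ble 818 c)
noncomputable def Atab_s_815_819 (c : Nat) : Nat := @Bool.rec (fun _ => Nat) (Atab_s_815_817 c) (Atab_s_817_819 c) (Nat.ble 817 c)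
noncomputable def Atab_s_812_819 (c : Nat) : Nat := @Bool.rec (fun _ => Nat) (Atab_s_812_815 c) (Atab_s_815_819 c) (Nat.ble 815 c)
noncomputable def Atab_s_805_819 (c : Nat) : Nat := @Bool.rec (fun _ => Nat) (Atab_s_805_812 c) (Atab_s_812_819 c) (Nat.ble 812 c)
noncomputable def Atab_s_820_822 (c : Nat) : Nat := @Bool.rec (fun _ => Nat) (Atab_820) (Atab_821) (Nat.ble 821 c)
noncomputable def Atab_s_819_822 (c : Nat) : Nat := @Bool.rec (fun _ => Nat) (Atab_819) (Atab_s_820_822 c) (Nat.ble 820 c)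
noncomputable def Atab_s_822_824 (c : Nat) : Nat := @Bool.rec (fun _ => Nat) (Atab_822) (Atab_823) (Nat.ble 823 c)
noncomputable def Atab_s_824_826 (c : Nat) : Nat := @Bool.rec (fun _ => Nat) (Atab_824) (Atab_825) (Nat.ble 825 c)
noncomputable def Atab_s_822_826 (c : Nat) : Nat := @Bool.rec (fun _ => Nat) (Atab_s_822_824 c) (Atab_s_824_826 c) (Nat.ble 824 c)
noncomputable def Atab_s_819_826 (c : Nat) : Nat := @Bool.rec (fun _ => Nat) (Atab_s_819_822 c) (Atab_s_822_826 c) (Nat.ble 822 c)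
noncomputable def Atab_s_826_828 (c : Nat) : Nat := @Bool.rec (fun _ => Nat) (Atab_826) (Atab_827) (Nat.ble 827 c)
noncomputable def Atab_s_828_830 (c : Nat) : Nat := @Bool.rec (fun _ => Nat) (Atab_828) (Atab_829) (Nat.ble 829 c)
noncomputable def Atab_s_826_830 (c : Nat) : Nat := @Bool.rec (fun _ => Nat) (Atab_s_826_828 c) (Atab_s_828_830 c) (Nat.ble 828 c)
noncomputable def Atab_s_830_832 (c : Nat) : Nat := @Bool.rec (fun _ => Nat) (Atab_830) (Atab_831) (Nat.ble 831 c)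
noncomputable def Atab_s_832_834 (c : Nat) : Nat := @Bool.rec (fun _ => Nat) (Atab_832) (Atab_833) (Nat.ble 833 c)
noncomputable def Atab_s_830_834 (c : Nat) : Nat := @Bool.rec (fun _ => Nat) (Atab_s_830_832 c) (Atab_s_832_834 c) (Nat.ble 832 c)
noncomputable def Atab_s_826_834 (c : Nat) : Nat := @Bool.rec (fun _ => Nat) (Atab_s_826_830 c) (Atab_s_830_834 c) (Nat.ble 830 c)
noncomputable def Atab_s_819_834 (c : Nat) : Nat := @Bool.rec (fun _ => Nat) (Atab_s_819_826 c) (Atab_s_826_834 c) (Nat.ble 826 c)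
noncomputable def Atab_s_805_834 (c : Nat) : Nat := @Bool.rec (fun _ => Nat) (Atab_s_805_819 c) (Atab_s_819_834 c) (Nat.ble 819 c)
noncomputable def Atab_s_835_837 (c : Nat) : Nat := @Bool.rec (fun _ => Nat) (Atab_835) (Atab_836) (Nat.ble 836 c)
noncomputable def Atab_s_834_837 (c : Nat) : Nat := @Bool.rec (fun _ => Nat) (Atab_834) (Atab_s_835_837 c) (Nat.ble 835 c)
noncomputable def Atab_s_837_839 (c : Nat) : Nat := @Bool.rec (fun _ => Nat) (Atab_837) (Atab_838) (Nat.ble 838 c)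
noncomputable def Atab_s_839_841 (c : Nat) : Nat := @Bool.rec (fun _ => Nat) (Atab_839) (Atab_840) (Nat.ble 840 c)
noncomputable def Atab_s_837_841 (c : Nat) : Nat := @Bool.rec (fun _ => Nat) (Atab_s_837_839 c) (Atab_s_839_841 c) (Nat.ble 839 c)
noncomputable def Atab_s_834_841 (c : Nat) : Nat := @Bool.rec (fun _ => Nat) (Atab_s_834_837 c) (Atab_s_837_841 c) (Nat.ble 837 c)
noncomputable def Atab_s_842_844 (c : Nat) : Nat := @Bool.rec (fun _ => Nat) (Atab_842) (Atab_843) (Nat.ble 843 c)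
noncomputable def Atab_s_841_844 (c : Nat) : Nat := @Bool.rec (fun _ => Nat) (Atab_841) (Atab_s_842_844 c) (Nat.ble 842 c)
noncomputable def Atab_s_844_846 (c : Nat) : Nat := @Bool.rec (fun _ => Nat) (Atab_844) (Atab_845) (Nat.ble 845 c)
noncomputable def Atab_s_846_848 (c : Nat) : Nat := @Bool.rec (fun _ => Nat) (Atab_846) (Atab_847) (Nat.ble 847 c)
noncomputable def Atab_s_844_848 (c : Nat) : Nat := @Bool.rec (fun _ => Nat) (Atab_s_844_846 c) (Atab_s_846_848 c) (Nat.ble 846 c)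
noncomputable def Atab_s_841_848 (c : Nat) : Nat := @Bool.rec (fun _ => Nat) (Atab_s_841_844 c) (Atab_s_844_848 c) (Nat.ble 844 c)
noncomputable def Atab_s_834_848 (c : Nat) : Nat := @Bool.rec (fun _ => Nat) (Atab_s_834_841 c) (Atab_s_841_848 c) (Nat.ble 841 c)
noncomputable def Atab_s_849_851 (c : Nat) : Nat := @Bool.rec (fun _ => Nat) (Atab_849) (Atab_850) (Nat.ble 850 c)
noncomputable def Atab_s_848_851 (c : Nat) : Nat := @Bool.rec (fun _ => Nat) (Atab_848) (Atab_s_849_851 c) (Nat.ble 849 c)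
noncomputable def Atab_s_851_853 (c : Nat) : Nat := @Bool.rec (fun _ => Nat) (Atab_851) (Atab_852) (Nat.ble 852 c)
noncomputable def Atab_s_853_855 (c : Nat) : Nat := @Bool.rec (fun _ => Nat) (Atab_853) (Atab_854) (Nat.ble 854 c)
noncomputable def Atab_s_851_855 (c : Nat) : Nat := @Bool.rec (fun _ => Nat) (Atab_s_851_853 c) (Atab_s_853_855 c) (Nat.ble 853 c)
noncomputable def Atab_s_848_855 (c : Nat) : Nat := @Bool.rec (fun _ => Nat) (Atab_s_848_851 c) (Atab_s_851_855 c) (Nat.ble 851 c)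
noncomputable def Atab_s_855_857 (c : Nat) : Nat := @Bool.rec (fun _ => Nat) (Atab_855) (Atab_856) (Nat.ble 856 c)
noncomputable def Atab_s_857_859 (c : Nat) : Nat := @Bool.rec (fun _ => Nat) (Atab_857) (Atab_858) (Nat.ble 858 c)
noncomputable def Atab_s_855_859 (c : Nat) : Nat := @Bool.rec (fun _ => Nat) (Atab_s_855_857 c) (Atab_s_857_859 c) (Nat.ble 857 c)
noncomputable def Atab_s_859_861 (c : Nat) : Nat := @Bool.rec (fun _ => Nat) (Atab_859) (Atab_860) (Nat.ble 860 c)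
noncomputable def Atab_s_861_863 (c : Nat) : Nat := @Bool.rec (fun _ => Nat) (Atab_861) (Atab_862) (Nat.ble 862 c)
noncomputable def Atab_s_859_863 (c : Nat) : Nat := @Bool.rec (fun _ => Nat) (Atab_s_859_861 c) (Atab_s_861_863 c) (Nat.ble 861 c)
noncomputable def Atab_s_855_863 (c : Nat) : Nat := @Bool.rec (fun _ => Nat) (Atab_s_855_859 c) (Atab_s_859_863 c) (Nat.ble 859 c)
noncomputable def Atab_s_848_863 (c : Nat) : Nat := @Bool.rec (fun _ => Nat) (Atab_s_848_855 c) (Atab_s_855_863 c) (Nat.ble 855 c)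
noncomputable def Atab_s_834_863 (c : Nat) : Nat := @Bool.rec (fun _ => Nat) (Atab_s_834_848 c) (Atab_s_848_863 c) (Nat.ble 848 c)
noncomputable def Atab_s_805_863 (c : Nat) : Nat := @Bool.rec (fun _ => Nat) (Atab_s_805_834 c) (Atab_s_834_863 c) (Nat.ble 834 c)
noncomputable def Atab_s_864_866 (c : Nat) : Nat := @Bool.rec (fun _ => Nat) (Atab_864) (Atab_865) (Nat.ble 865 c)
noncomputable def Atab_s_863_866 (c : Nat) : Nat := @Bool.rec (fun _ => Nat) (Atab_863) (Atab_s_864_866 c) (Nat.ble 864 c)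
noncomputable def Atab_s_866_868 (c : Nat) : Nat := @Bool.rec (fun _ => Nat) (Atab_866) (Atab_867) (Nat.ble 867 c)
noncomputable def Atab_s_868_870 (c : Nat) : Nat := @Bool.rec (fun _ => Nat) (Atab_868) (Atab_869) (Nat.ble 869 c)
noncomputable def Atab_s_866_870 (c : Nat) : Nat := @Bool.rec (fun _ => Nat) (Atab_s_866_868 c) (Atab_s_868_870 c) (Nat.ble 868 c)
noncomputable def Atab_s_863_870 (c : Nat) : Nat := @Bool.rec (fun _ => Nat) (Atab_s_863_866 c) (Atab_s_866_870 c) (Nat.ble 866 c)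
noncomputable def Atab_s_871_873 (c : Nat) : Nat := @Bool.rec (fun _ => Nat) (Atab_871) (Atab_872) (Nat.ble 872 c)
noncomputable def Atab_s_870_873 (c : Nat) : Nat := @Bool.rec (fun _ => Nat) (Atab_870) (Atab_s_871_873 c) (Nat.ble 871 c)
noncomputable def Atab_s_873_875 (c : Nat) : Nat := @Bool.rec (fun _ => Nat) (Atab_873) (Atab_874) (Nat.ble 874 c)
noncomputable def Atab_s_875_877 (c : Nat) : Nat := @Bool.rec (fun _ => Nat) (Atab_875) (Atab_876) (Nat.ble 876 c)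
noncomputable def Atab_s_873_877 (c : Nat) : Nat := @Bool.rec (fun _ => Nat) (Atab_s_873_875 c) (Atab_s_875_877 c) (Nat.ble 875 c)
noncomputable def Atab_s_870_877 (c : Nat) : Nat := @Bool.rec (fun _ => Nat) (Atab_s_870_873 c) (Atab_s_873_877 c) (Nat.ble 873 c)
noncomputable def Atab_s_863_877 (c : Nat) : Nat := @Bool.rec (fun _ => Nat) (Atab_s_863_870 c) (Atab_s_870_877 c) (Nat.ble 870 c)
noncomputable def Atab_s_878_880 (c : Nat) : Nat := @Bool.rec (fun _ => Nat) (Atab_878) (Atab_879) (Nat.ble 879 c)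
noncomputable def Atab_s_877_880 (c : Nat) : Nat := @Bool.rec (fun _ => Nat) (Atab_877) (Atab_s_878_880 c) (Nat.ble 878 c)
noncomputable def Atab_s_880_882 (c : Nat) : Nat := @Bool.rec (fun _ => Nat) (Atab_880) (Atab_881) (Nat.ble 881 c)
noncomputable def Atab_s_882_884 (c : Nat) : Nat := @Bool.rec (fun _ => Nat) (Atab_882) (Atab_883) (Nat.ble 883 c)
noncomputable def Atab_s_880_884 (c : Nat) : Nat := @Bool.rec (fun _ => Nat) (Atab_s_880_882 c) (Atab_s_882_884 c) (Nat.ble 882 c)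
noncomputable def Atab_s_877_884 (c : Nat) : Nat := @Bool.rec (fun _ => Nat) (Atab_s_877_880 c) (Atab_s_880_884 c) (Nat.ble 880 c)
noncomputable def Atab_s_884_886 (c : Nat) : Nat := @Bool.rec (fun _ => Nat) (Atab_884) (Atab_885) (Nat.ble 885 c)
noncomputable def Atab_s_886_888 (c : Nat) : Nat := @Bool.rec (fun _ => Nat) (Atab_886) (Atab_887) (Nat.ble 887 c)
noncomputable def Atab_s_884_888 (c : Nat) : Nat := @Bool.rec (fun _ => Nat) (Atab_s_884_886 c) (Atab_s_886_888 c) (Nat.ble 886 c)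
noncomputable def Atab_s_888_890 (c : Nat) : Nat := @Bool.rec (fun _ => Nat) (Atab_888) (Atab_889) (Nat.ble 889 c)
noncomputable def Atab_s_890_892 (c : Nat) : Nat := @Bool.rec (fun _ => Nat) (Atab_890) (Atab_891) (Nat.ble 891 c)
noncomputable def Atab_s_888_892 (c : Nat) : Nat := @Bool.rec (fun _ => Nat) (Atab_s_888_890 c) (Atab_s_890_892 c) (Nat.ble 890 c)
noncomputable def Atab_s_884_892 (c : Nat) : Nat := @Bool.rec (fun _ => Nat) (Atab_s_884_888 c) (Atab_s_888_892 c) (Nat.ble 888 c)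
noncomputable def Atab_s_877_892 (c : Nat) : Nat := @Bool.rec (fun _ => Nat) (Atab_s_877_884 c) (Atab_s_884_892 c) (Nat.ble 884 c)
noncomputable def Atab_s_863_892 (c : Nat) : Nat := @Bool.rec (fun _ => Nat) (Atab_s_863_877 c) (Atab_s_877_892 c) (Nat.ble 877 c)
noncomputable def Atab_s_893_895 (c : Nat) : Nat := @Bool.rec (fun _ => Nat) (Atab_893) (Atab_894) (Nat.ble 894 c)
noncomputable def Atab_s_892_895 (c : Nat) : Nat := @Bool.rec (fun _ => Nat) (Atab_892) (Atab_s_893_895 c) (Nat.ble 893 c)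
noncomputable def Atab_s_895_897 (c : Nat) : Nat := @Bool.rec (fun _ => Nat) (Atab_895) (Atab_896) (Nat.ble 896 c)
noncomputable def Atab_s_897_899 (c : Nat) : Nat := @Bool.rec (fun _ => Nat) (Atab_897) (Atab_898) (Nat.ble 898 c)
noncomputable def Atab_s_895_899 (c : Nat) : Nat := @Bool.rec (fun _ => Nat) (Atab_s_895_897 c) (Atab_s_897_899 c) (Nat.ble 897 c)
noncomputable def Atab_s_892_899 (c : Nat) : Nat := @Bool.rec (fun _ => Nat) (Atab_s_892_895 c) (Atab_s_895_899 c) (Nat.ble 895 c)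
noncomputable def Atab_s_900_902 (c : Nat) : Nat := @Bool.rec (fun _ => Nat) (Atab_900) (Atab_901) (Nat.ble 901 c)
noncomputable def Atab_s_899_902 (c : Nat) : Nat := @Bool.rec (fun _ => Nat) (Atab_899) (Atab_s_900_902 c) (Nat.ble 900 c)
noncomputable def Atab_s_902_904 (c : Nat) : Nat := @Bool.rec (fun _ => Nat) (Atab_902) (Atab_903) (Nat.ble 903 c)
noncomputable def Atab_s_904_906 (c : Nat) : Nat := @Bool.rec (fun _ => Nat) (Atab_904) (Atab_905) (Nat.ble 905 c)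
noncomputable def Atab_s_902_906 (c : Nat) : Nat := @Bool.rec (fun _ => Nat) (Atab_s_902_904 c) (Atab_s_904_906 c) (Nat.ble 904 c)
noncomputable def Atab_s_899_906 (c : Nat) : Nat := @Bool.rec (fun _ => Nat) (Atab_s_899_902 c) (Atab_s_902_906 c) (Nat.ble 902 c)
noncomputable def Atab_s_892_906 (c : Nat) : Nat := @Bool.rec (fun _ => Nat) (Atab_s_892_899 c) (Atab_s_899_906 c) (Nat.ble 899 c)
noncomputable def Atab_s_907_909 (c : Nat) : Nat := @Bool.rec (fun _ => Nat) (Atab_907) (Atab_908) (Nat.ble 908 c)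
noncomputable def Atab_s_906_909 (c : Nat) : Nat := @Bool.rec (fun _ => Nat) (Atab_906) (Atab_s_907_909 c) (Nat.ble 907 c)
noncomputable def Atab_s_909_911 (c : Nat) : Nat := @Bool.rec (fun _ => Nat) (Atab_909) (Atab_910) (Nat.ble 910 c)
noncomputable def Atab_s_911_913 (c : Nat) : Nat := @Bool.rec (fun _ => Nat) (Atab_911) (Atab_912) (Nat.ble 912 c)
noncomputable def Atab_s_909_913 (c : Nat) : Nat := @Bool.rec (fun _ => Nat) (Atab_s_909_911 c) (Atab_s_911_913 c) (Nat.ble 911 c)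
noncomputable def Atab_s_906_913 (c : Nat) : Nat := @Bool.rec (fun _ => Nat) (Atab_s_906_909 c) (Atab_s_909_913 c) (Nat.ble 909 c)
noncomputable def Atab_s_913_915 (c : Nat) : Nat := @Bool.rec (fun _ => Nat) (Atab_913) (Atab_914) (Nat.ble 914 c)
noncomputable def Atab_s_915_917 (c : Nat) : Nat := @Bool.rec (fun _ => Nat) (Atab_915) (Atab_916) (Nat.ble 916 c)
noncomputable def Atab_s_913_917 (c : Nat) : Nat := @Bool.rec (fun _ => Nat) (Atab_s_913_915 c) (Atab_s_915_917 c) (Nat.ble 915 c)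
noncomputable def Atab_s_917_919 (c : Nat) : Nat := @Bool.rec (fun _ => Nat) (Atab_917) (Atab_918) (Nat.ble 918 c)
noncomputable def Atab_s_919_921 (c : Nat) : Nat := @Bool.rec (fun _ => Nat) (Atab_919) (Atab_920) (Nat.ble 920 c)
noncomputable def Atab_s_917_921 (c : Nat) : Nat := @Bool.rec (fun _ => Nat) (Atab_s_917_919 c) (Atab_s_919_921 c) (Nat.ble 919 c)
noncomputable def Atab_s_913_921 (c : Nat) : Nat := @Bool.rec (fun _ => Nat) (Atab_s_913_917 c) (Atab_s_917_921 c) (Nat.ble 917 c)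
noncomputable def Atab_s_906_921 (c : Nat) : Nat := @Bool.rec (fun _ => Nat) (Atab_s_906_913 c) (Atab_s_913_921 c) (Nat.ble 913 c)
noncomputable def Atab_s_892_921 (c : Nat) : Nat := @Bool.rec (fun _ => Nat) (Atab_s_892_906 c) (Atab_s_906_921 c) (Nat.ble 906 c)
noncomputable def Atab_s_863_921 (c : Nat) : Nat := @Bool.rec (fun _ => Nat) (Atab_s_863_892 c) (Atab_s_892_921 c) (Nat.ble 892 c)
noncomputable def Atab_s_805_921 (c : Nat) : Nat := @Bool.rec (fun _ => Nat) (Atab_s_805_863 c) (Atab_s_863_921 c) (Nat.ble 863 c)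
noncomputable def Atab_s_690_921 (c : Nat) : Nat := @Bool.rec (fun _ => Nat) (Atab_s_690_805 c) (Atab_s_805_921 c) (Nat.ble 805 c)
noncomputable def Atab_s_460_921 (c : Nat) : Nat := @Bool.rec (fun _ => Nat) (Atab_s_460_690 c) (Atab_s_690_921 c) (Nat.ble 690 c)
noncomputable def Atab_s_0_921 (c : Nat) : Nat := @Bool.rec (fun _ => Nat) (Atab_s_0_460 c) (Atab_s_460_921 c) (Nat.ble 460 c)
noncomputable def Atab_s_922_924 (c : Nat) : Nat := @Bool.rec (fun _ => Nat) (Atab_922) (Atab_923) (Nat.ble 923 c)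
noncomputable def Atab_s_921_924 (c : Nat) : Nat := @Bool.rec (fun _ => Nat) (Atab_921) (Atab_s_922_924 c) (Nat.ble 922 c)
noncomputable def Atab_s_924_926 (c : Nat) : Nat := @Bool.rec (fun _ => Nat) (Atab_924) (Atab_925) (Nat.ble 925 c)
noncomputable def Atab_s_926_928 (c : Nat) : Nat := @Bool.rec (fun _ => Nat) (Atab_926) (Atab_927) (Nat.ble 927 c)
noncomputable def Atab_s_924_928 (c : Nat) : Nat := @Bool.rec (fun _ => Nat) (Atab_s_924_926 c) (Atab_s_926_928 c) (Nat.ble 926 c)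
noncomputable def Atab_s_921_928 (c : Nat) : Nat := @Bool.rec (fun _ => Nat) (Atab_s_921_924 c) (Atab_s_924_928 c) (Nat.ble 924 c)
noncomputable def Atab_s_929_931 (c : Nat) : Nat := @Bool.rec (fun _ => Nat) (Atab_929) (Atab_930) (Nat.ble 930 c)
noncomputable def Atab_s_928_931 (c : Nat) : Nat := @Bool.rec (fun _ => Nat) (Atab_928) (Atab_s_929_931 c) (Nat.ble 929 c)
noncomputable def Atab_s_931_933 (c : Nat) : Nat := @Bool.rec (fun _ => Nat) (Atab_931) (Atab_932) (Nat.ble 932 c)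
noncomputable def Atab_s_933_935 (c : Nat) : Nat := @Bool.rec (fun _ => Nat) (Atab_933) (Atab_934) (Nat.ble 934 c)
noncomputable def Atab_s_931_935 (c : Nat) : Nat := @Bool.rec (fun _ => Nat) (Atab_s_931_933 c) (Atab_s_933_935 c) (Nat.ble 933 c)
noncomputable def Atab_s_928_935 (c : Nat) : Nat := @Bool.rec (fun _ => Nat) (Atab_s_928_931 c) (Atab_s_931_935 c) (Nat.ble 931 c)
noncomputable def Atab_s_921_935 (c : Nat) : Nat := @Bool.rec (fun _ => Nat) (Atab_s_921_928 c) (Atab_s_928_935 c) (Nat.ble 928 c)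
noncomputable def Atab_s_936_938 (c : Nat) : Nat := @Bool.rec (fun _ => Nat) (Atab_936) (Atab_937) (Nat.ble 937 c)
noncomputable def Atab_s_935_938 (c : Nat) : Nat := @Bool.rec (fun _ => Nat) (Atab_935) (Atab_s_936_938 c) (Nat.ble 936 c)
noncomputable def Atab_s_938_940 (c : Nat) : Nat := @Bool.rec (fun _ => Nat) (Atab_938) (Atab_939) (Nat.ble 939 c)
noncomputable def Atab_s_940_942 (c : Nat) : Nat := @Bool.rec (fun _ => Nat) (Atab_940) (Atab_941) (Nat.ble 941 c)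
noncomputable def Atab_s_938_942 (c : Nat) : Nat := @Bool.rec (fun _ => Nat) (Atab_s_938_940 c) (Atab_s_940_942 c) (Nat.ble 940 c)
noncomputable def Atab_s_935_942 (c : Nat) : Nat := @Bool.rec (fun _ => Nat) (Atab_s_935_938 c) (Atab_s_938_942 c) (Nat.ble 938 c)
noncomputable def Atab_s_943_945 (c : Nat) : Nat := @Bool.rec (fun _ => Nat) (Atab_943) (Atab_944) (Nat.ble 944 c)
noncomputable def Atab_s_942_945 (c : Nat) : Nat := @Bool.rec (fun _ => Nat) (Atab_942) (Atab_s_943_945 c) (Nat.ble 943 c)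
noncomputable def Atab_s_945_947 (c : Nat) : Nat := @Bool.rec (fun _ => Nat) (Atab_945) (Atab_946) (Nat.ble 946 c)
noncomputable def Atab_s_947_949 (c : Nat) : Nat := @Bool.rec (fun _ => Nat) (Atab_947) (Atab_948) (Nat.ble 948 c)
noncomputable def Atab_s_945_949 (c : Nat) : Nat := @Bool.rec (fun _ => Nat) (Atab_s_945_947 c) (Atab_s_947_949 c) (Nat.ble 947 c)
noncomputable def Atab_s_942_949 (c : Nat) : Nat := @Bool.rec (fun _ => Nat) (Atab_s_942_945 c) (Atab_s_945_949 c) (Nat.ble 945 c)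
noncomputable def Atab_s_935_949 (c : Nat) : Nat := @Bool.rec (fun _ => Nat) (Atab_s_935_942 c) (Atab_s_942_949 c) (Nat.ble 942 c)
noncomputable def Atab_s_921_949 (c : Nat) : Nat := @Bool.rec (fun _ => Nat) (Atab_s_921_935 c) (Atab_s_935_949 c) (Nat.ble 935 c)
noncomputable def Atab_s_950_952 (c : Nat) : Nat := @Bool.rec (fun _ => Nat) (Atab_950) (Atab_951) (Nat.ble 951 c)
noncomputable def Atab_s_949_952 (c : Nat) : Nat := @Bool.rec (fun _ => Nat) (Atab_949) (Atab_s_950_952 c) (Nat.ble 950 c)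
noncomputable def Atab_s_952_954 (c : Nat) : Nat := @Bool.rec (fun _ => Nat) (Atab_952) (Atab_953) (Nat.ble 953 c)
noncomputable def Atab_s_954_956 (c : Nat) : Nat := @Bool.rec (fun _ => Nat) (Atab_954) (Atab_955) (Nat.ble 955 c)
noncomputable def Atab_s_952_956 (c : Nat) : Nat := @Bool.rec (fun _ => Nat) (Atab_s_952_954 c) (Atab_s_954_956 c) (Nat.ble 954 c)
noncomputable def Atab_s_949_956 (c : Nat) : Nat := @Bool.rec (fun _ => Nat) (Atab_s_949_952 c) (Atab_s_952_956 c) (Nat.ble 952 c)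
noncomputable def Atab_s_957_959 (c : Nat) : Nat := @Bool.rec (fun _ => Nat) (Atab_957) (Atab_958) (Nat.ble 958 c)
noncomputable def Atab_s_956_959 (c : Nat) : Nat := @Bool.rec (fun _ => Nat) (Atab_956) (Atab_s_957_959 c) (Nat.ble 957 c)
noncomputable def Atab_s_959_961 (c : Nat) : Nat := @Bool.rec (fun _ => Nat) (Atab_959) (Atab_960) (Nat.ble 960 c)
noncomputable def Atab_s_961_963 (c : Nat) : Nat := @Bool.rec (fun _ => Nat) (Atab_961) (Atab_962) (Nat.ble 962 c)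
noncomputable def Atab_s_959_963 (c : Nat) : Nat := @Bool.rec (fun _ => Nat) (Atab_s_959_961 c) (Atab_s_961_963 c) (Nat.ble 961 c)
noncomputable def Atab_s_956_963 (c : Nat) : Nat := @Bool.rec (fun _ => Nat) (Atab_s_956_959 c) (Atab_s_959_963 c) (Nat.ble 959 c)
noncomputable def Atab_s_949_963 (c : Nat) : Nat := @Bool.rec (fun _ => Nat) (Atab_s_949_956 c) (Atab_s_956_963 c) (Nat.ble 956 c)
noncomputable def Atab_s_964_966 (c : Nat) : Nat := @Bool.rec (fun _ => Nat) (Atab_964) (Atab_965) (Nat.ble 965 c)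
noncomputable def Atab_s_963_966 (c : Nat) : Nat := @Bool.rec (fun _ => Nat) (Atab_963) (Atab_s_964_966 c) (Nat.ble 964 c)
noncomputable def Atab_s_966_968 (c : Nat) : Nat := @Bool.rec (fun _ => Nat) (Atab_966) (Atab_967) (Nat.ble 967 c)
noncomputable def Atab_s_968_970 (c : Nat) : Nat := @Bool.rec (fun _ => Nat) (Atab_968) (Atab_969) (Nat.ble 969 c)
noncomputable def Atab_s_966_970 (c : Nat) : Nat := @Bool.rec (fun _ => Nat) (Atab_s_966_968 c) (Atab_s_968_970 c) (Nat.ble 968 c)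
noncomputable def Atab_s_963_970 (c : Nat) : Nat := @Bool.rec (fun _ => Nat) (Atab_s_963_966 c) (Atab_s_966_970 c) (Nat.ble 966 c)
noncomputable def Atab_s_970_972 (c : Nat) : Nat := @Bool.rec (fun _ => Nat) (Atab_970) (Atab_971) (Nat.ble 971 c)
noncomputable def Atab_s_972_974 (c : Nat) : Nat := @Bool.rec (fun _ => Nat) (Atab_972) (Atab_973) (Nat.ble 973 c)
noncomputable def Atab_s_970_974 (c : Nat) : Nat := @Bool.rec (fun _ => Nat) (Atab_s_970_972 c) (Atab_s_972_974 c) (Nat.ble 972 c)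
noncomputable def Atab_s_974_976 (c : Nat) : Nat := @Bool.rec (fun _ => Nat) (Atab_974) (Atab_975) (Nat.ble 975 c)
noncomputable def Atab_s_976_978 (c : Nat) : Nat := @Bool.rec (fun _ => Nat) (Atab_976) (Atab_977) (Nat.ble 977 c)
noncomputable def Atab_s_974_978 (c : Nat) : Nat := @Bool.rec (fun _ => Nat) (Atab_s_974_976 c) (Atab_s_976_978 c) (Nat.ble 976 c)
noncomputable def Atab_s_970_978 (c : Nat) : Nat := @Bool.rec (fun _ => Nat) (Atab_s_970_974 c) (Atab_s_974_978 c) (Nat.ble 974 c)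
noncomputable def Atab_s_963_978 (c : Nat) : Nat := @Bool.rec (fun _ => Nat) (Atab_s_963_970 c) (Atab_s_970_978 c) (Nat.ble 970 c)
noncomputable def Atab_s_949_978 (c : Nat) : Nat := @Bool.rec (fun _ => Nat) (Atab_s_949_963 c) (Atab_s_963_978 c) (Nat.ble 963 c)
noncomputable def Atab_s_921_978 (c : Nat) : Nat := @Bool.rec (fun _ => Nat) (Atab_s_921_949 c) (Atab_s_949_978 c) (Nat.ble 949 c)
noncomputable def Atab_s_979_981 (c : Nat) : Nat := @Bool.rec (fun _ => Nat) (Atab_979) (Atab_980) (Nat.ble 980 c)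
noncomputable def Atab_s_978_981 (c : Nat) : Nat := @Bool.rec (fun _ => Nat) (Atab_978) (Atab_s_979_981 c) (Nat.ble 979 c)
noncomputable def Atab_s_981_983 (c : Nat) : Nat := @Bool.rec (fun _ => Nat) (Atab_981) (Atab_982) (Nat.ble 982 c)
noncomputable def Atab_s_983_985 (c : Nat) : Nat := @Bool.rec (fun _ => Nat) (Atab_983) (Atab_984) (Nat.ble 984 c)
noncomputable def Atab_s_981_985 (c : Nat) : Nat := @Bool.rec (fun _ => Nat) (Atab_s_981_983 c) (Atab_s_983_985 c) (Nat.ble 983 c)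
noncomputable def Atab_s_978_985 (c : Nat) : Nat := @Bool.rec (fun _ => Nat) (Atab_s_978_981 c) (Atab_s_981_985 c) (Nat.ble 981 c)
noncomputable def Atab_s_986_988 (c : Nat) : Nat := @Bool.rec (fun _ => Nat) (Atab_986) (Atab_987) (Nat.ble 987 c)
noncomputable def Atab_s_985_988 (c : Nat) : Nat := @Bool.rec (fun _ => Nat) (Atab_985) (Atab_s_986_988 c) (Nat.ble 986 c)
noncomputable def Atab_s_988_990 (c : Nat) : Nat := @Bool.rec (fun _ => Nat) (Atab_988) (Atab_989) (Nat.ble 989 c)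
noncomputable def Atab_s_990_992 (c : Nat) : Nat := @Bool.rec (fun _ => Nat) (Atab_990) (Atab_991) (Nat.ble 991 c)
noncomputable def Atab_s_988_992 (c : Nat) : Nat := @Bool.rec (fun _ => Nat) (Atab_s_988_990 c) (Atab_s_990_992 c) (Nat.ble 990 c)
noncomputable def Atab_s_985_992 (c : Nat) : Nat := @Bool.rec (fun _ => Nat) (Atab_s_985_988 c) (Atab_s_988_992 c) (Nat.ble 988 c)
noncomputable def Atab_s_978_992 (c : Nat) : Nat := @Bool.rec (fun _ => Nat) (Atab_s_978_985 c) (Atab_s_985_992 c) (Nat.ble 985 c)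
noncomputable def Atab_s_993_995 (c : Nat) : Nat := @Bool.rec (fun _ => Nat) (Atab_993) (Atab_994) (Nat.ble 994 c)
noncomputable def Atab_s_992_995 (c : Nat) : Nat := @Bool.rec (fun _ => Nat) (Atab_992) (Atab_s_993_995 c) (Nat.ble 993 c)
noncomputable def Atab_s_995_997 (c : Nat) : Nat := @Bool.rec (fun _ => Nat) (Atab_995) (Atab_996) (Nat.ble 996 c)
noncomputable def Atab_s_997_999 (c : Nat) : Nat := @Bool.rec (fun _ => Nat) (Atab_997) (Atab_998) (Nat.ble 998 c)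
noncomputable def Atab_s_995_999 (c : Nat) : Nat := @Bool.rec (fun _ => Nat) (Atab_s_995_997 c) (Atab_s_997_999 c) (Nat.ble 997 c)
noncomputable def Atab_s_992_999 (c : Nat) : Nat := @Bool.rec (fun _ => Nat) (Atab_s_992_995 c) (Atab_s_995_999 c) (Nat.ble 995 c)
noncomputable def Atab_s_999_1001 (c : Nat) : Nat := @Bool.rec (fun _ => Nat) (Atab_999) (Atab_1000) (Nat.ble 1000 c)
noncomputable def Atab_s_1001_1003 (c : Nat) : Nat := @Bool.rec (fun _ => Nat) (Atab_1001) (Atab_1002) (Nat.ble 1002 c)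
noncomputable def Atab_s_999_1003 (c : Nat) : Nat := @Bool.rec (fun _ => Nat) (Atab_s_999_1001 c) (Atab_s_1001_1003 c) (Nat.ble 1001 c)
noncomputable def Atab_s_1003_1005 (c : Nat) : Nat := @Bool.rec (fun _ => Nat) (Atab_1003) (Atab_1004) (Nat.ble 1004 c)
noncomputable def Atab_s_1005_1007 (c : Nat) : Nat := @Bool.rec (fun _ => Nat) (Atab_1005) (Atab_1006) (Nat.ble 1006 c)
noncomputable def Atab_s_1003_1007 (c : Nat) : Nat := @Bool.rec (fun _ => Nat) (Atab_s_1003_1005 c) (Atab_s_1005_1007 c) (Nat.ble 1005 c)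
noncomputable def Atab_s_999_1007 (c : Nat) : Nat := @Bool.rec (fun _ => Nat) (Atab_s_999_1003 c) (Atab_s_1003_1007 c) (Nat.ble 1003 c)
noncomputable def Atab_s_992_1007 (c : Nat) : Nat := @Bool.rec (fun _ => Nat) (Atab_s_992_999 c) (Atab_s_999_1007 c) (Nat.ble 999 c)
noncomputable def Atab_s_978_1007 (c : Nat) : Nat := @Bool.rec (fun _ => Nat) (Atab_s_978_992 c) (Atab_s_992_1007 c) (Nat.ble 992 c)
noncomputable def Atab_s_1008_1010 (c : Nat) : Nat := @Bool.rec (fun _ => Nat) (Atab_1008) (Atab_1009) (Nat.ble 1009 c)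
noncomputable def Atab_s_1007_1010 (c : Nat) : Nat := @Bool.rec (fun _ => Nat) (Atab_1007) (Atab_s_1008_1010 c) (Nat.ble 1008 c)
noncomputable def Atab_s_1010_1012 (c : Nat) : Nat := @Bool.rec (fun _ => Nat) (Atab_1010) (Atab_1011) (Nat.ble 1011 c)
noncomputable def Atab_s_1012_1014 (c : Nat) : Nat := @Bool.rec (fun _ => Nat) (Atab_1012) (Atab_1013) (Nat.ble 1013 c)
noncomputable def Atab_s_1010_1014 (c : Nat) : Nat := @Bool.rec (fun _ => Nat) (Atab_s_1010_1012 c) (Atab_s_1012_1014 c) (Nat.ble 1012 c)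
noncomputable def Atab_s_1007_1014 (c : Nat) : Nat := @Bool.rec (fun _ => Nat) (Atab_s_1007_1010 c) (Atab_s_1010_1014 c) (Nat.ble 1010 c)
noncomputable def Atab_s_1015_1017 (c : Nat) : Nat := @Bool.rec (fun _ => Nat) (Atab_1015) (Atab_1016) (Nat.ble 1016 c)
noncomputable def Atab_s_1014_1017 (c : Nat) : Nat := @Bool.rec (fun _ => Nat) (Atab_1014) (Atab_s_1015_1017 c) (Nat.ble 1015 c)
noncomputable def Atab_s_1017_1019 (c : Nat) : Nat := @Bool.rec (fun _ => Nat) (Atab_1017) (Atab_1018) (Nat.ble 1018 c)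
noncomputable def Atab_s_1019_1021 (c : Nat) : Nat := @Bool.rec (fun _ => Nat) (Atab_1019) (Atab_1020) (Nat.ble 1020 c)
noncomputable def Atab_s_1017_1021 (c : Nat) : Nat := @Bool.rec (fun _ => Nat) (Atab_s_1017_1019 c) (Atab_s_1019_1021 c) (Nat.ble 1019 c)
noncomputable def Atab_s_1014_1021 (c : Nat) : Nat := @Bool.rec (fun _ => Nat) (Atab_s_1014_1017 c) (Atab_s_1017_1021 c) (Nat.ble 1017 c)
noncomputable def Atab_s_1007_1021 (c : Nat) : Nat := @Bool.rec (fun _ => Nat) (Atab_s_1007_1014 c) (Atab_s_1014_1021 c) (Nat.ble 1014 c)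
noncomputable def Atab_s_1022_1024 (c : Nat) : Nat := @Bool.rec (fun _ => Nat) (Atab_1022) (Atab_1023) (Nat.ble 1023 c)
noncomputable def Atab_s_1021_1024 (c : Nat) : Nat := @Bool.rec (fun _ => Nat) (Atab_1021) (Atab_s_1022_1024 c) (Nat.ble 1022 c)
noncomputable def Atab_s_1024_1026 (c : Nat) : Nat := @Bool.rec (fun _ => Nat) (Atab_1024) (Atab_1025) (Nat.ble 1025 c)
noncomputable def Atab_s_1026_1028 (c : Nat) : Nat := @Bool.rec (fun _ => Nat) (Atab_1026) (Atab_1027) (Nat.ble 1027 c)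
noncomputable def Atab_s_1024_1028 (c : Nat) : Nat := @Bool.rec (fun _ => Nat) (Atab_s_1024_1026 c) (Atab_s_1026_1028 c) (Nat.ble 1026 c)
noncomputable def Atab_s_1021_1028 (c : Nat) : Nat := @Bool.rec (fun _ => Nat) (Atab_s_1021_1024 c) (Atab_s_1024_1028 c) (Nat.ble 1024 c)
noncomputable def Atab_s_1028_1030 (c : Nat) : Nat := @Bool.rec (fun _ => Nat) (Atab_1028) (Atab_1029) (Nat.ble 1029 c)
noncomputable def Atab_s_1030_1032 (c : Nat) : Nat := @Bool.rec (fun _ => Nat) (Atab_1030) (Atab_1031) (Nat.ble 1031 c)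
noncomputable def Atab_s_1028_1032 (c : Nat) : Nat := @Bool.rec (fun _ => Nat) (Atab_s_1028_1030 c) (Atab_s_1030_1032 c) (Nat.ble 1030 c)
noncomputable def Atab_s_1032_1034 (c : Nat) : Nat := @Bool.rec (fun _ => Nat) (Atab_1032) (Atab_1033) (Nat.ble 1033 c)
noncomputable def Atab_s_1034_1036 (c : Nat) : Nat := @Bool.rec (fun _ => Nat) (Atab_1034) (Atab_1035) (Nat.ble 1035 c)
noncomputable def Atab_s_1032_1036 (c : Nat) : Nat := @Bool.rec (fun _ => Nat) (Atab_s_1032_1034 c) (Atab_s_1034_1036 c) (Nat.ble 1034 c)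
noncomputable def Atab_s_1028_1036 (c : Nat) : Nat := @Bool.rec (fun _ => Nat) (Atab_s_1028_1032 c) (Atab_s_1032_1036 c) (Nat.ble 1032 c)
noncomputable def Atab_s_1021_1036 (c : Nat) : Nat := @Bool.rec (fun _ => Nat) (Atab_s_1021_1028 c) (Atab_s_1028_1036 c) (Nat.ble 1028 c)
noncomputable def Atab_s_1007_1036 (c : Nat) : Nat := @Bool.rec (fun _ => Nat) (Atab_s_1007_1021 c) (Atab_s_1021_1036 c) (Nat.ble 1021 c)
noncomputable def Atab_s_978_1036 (c : Nat) : Nat := @Bool.rec (fun _ => Nat) (Atab_s_978_1007 c) (Atab_s_1007_1036 c) (Nat.ble 1007 c)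
noncomputable def Atab_s_921_1036 (c : Nat) : Nat := @Bool.rec (fun _ => Nat) (Atab_s_921_978 c) (Atab_s_978_1036 c) (Nat.ble 978 c)
noncomputable def Atab_s_1037_1039 (c : Nat) : Nat := @Bool.rec (fun _ => Nat) (Atab_1037) (Atab_1038) (Nat.ble 1038 c)
noncomputable def Atab_s_1036_1039 (c : Nat) : Nat := @Bool.rec (fun _ => Nat) (Atab_1036) (Atab_s_1037_1039 c) (Nat.ble 1037 c)
noncomputable def Atab_s_1039_1041 (c : Nat) : Nat := @Bool.rec (fun _ => Nat) (Atab_1039) (Atab_1040) (Nat.ble 1040 c)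
noncomputable def Atab_s_1041_1043 (c : Nat) : Nat := @Bool.rec (fun _ => Nat) (Atab_1041) (Atab_1042) (Nat.ble 1042 c)
noncomputable def Atab_s_1039_1043 (c : Nat) : Nat := @Bool.rec (fun _ => Nat) (Atab_s_1039_1041 c) (Atab_s_1041_1043 c) (Nat.ble 1041 c)
noncomputable def Atab_s_1036_1043 (c : Nat) : Nat := @Bool.rec (fun _ => Nat) (Atab_s_1036_1039 c) (Atab_s_1039_1043 c) (Nat.ble 1039 c)
noncomputable def Atab_s_1044_1046 (c : Nat) : Nat := @Bool.rec (fun _ => Nat) (Atab_1044) (Atab_1045) (Nat.ble 1045 c)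
noncomputable def Atab_s_1043_1046 (c : Nat) : Nat := @Bool.rec (fun _ => Nat) (Atab_1043) (Atab_s_1044_1046 c) (Nat.ble 1044 c)
noncomputable def Atab_s_1046_1048 (c : Nat) : Nat := @Bool.rec (fun _ => Nat) (Atab_1046) (Atab_1047) (Nat.ble 1047 c)
noncomputable def Atab_s_1048_1050 (c : Nat) : Nat := @Bool.rec (fun _ => Nat) (Atab_1048) (Atab_1049) (Nat.ble 1049 c)
noncomputable def Atab_s_1046_1050 (c : Nat) : Nat := @Bool.rec (fun _ => Nat) (Atab_s_1046_1048 c) (Atab_s_1048_1050 c) (Nat.ble 1048 c)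
noncomputable def Atab_s_1043_1050 (c : Nat) : Nat := @Bool.rec (fun _ => Nat) (Atab_s_1043_1046 c) (Atab_s_1046_1050 c) (Nat.ble 1046 c)
noncomputable def Atab_s_1036_1050 (c : Nat) : Nat := @Bool.rec (fun _ => Nat) (Atab_s_1036_1043 c) (Atab_s_1043_1050 c) (Nat.ble 1043 c)
noncomputable def Atab_s_1051_1053 (c : Nat) : Nat := @Bool.rec (fun _ => Nat) (Atab_1051) (Atab_1052) (Nat.ble 1052 c)
noncomputable def Atab_s_1050_1053 (c : Nat) : Nat := @Bool.rec (fun _ => Nat) (Atab_1050) (Atab_s_1051_1053 c) (Nat.ble 1051 c)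
noncomputable def Atab_s_1053_1055 (c : Nat) : Nat := @Bool.rec (fun _ => Nat) (Atab_1053) (Atab_1054) (Nat.ble 1054 c)
noncomputable def Atab_s_1055_1057 (c : Nat) : Nat := @Bool.rec (fun _ => Nat) (Atab_1055) (Atab_1056) (Nat.ble 1056 c)
noncomputable def Atab_s_1053_1057 (c : Nat) : Nat := @Bool.rec (fun _ => Nat) (Atab_s_1053_1055 c) (Atab_s_1055_1057 c) (Nat.ble 1055 c)
noncomputable def Atab_s_1050_1057 (c : Nat) : Nat := @Bool.rec (fun _ => Nat) (Atab_s_1050_1053 c) (Atab_s_1053_1057 c) (Nat.ble 1053 c)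
noncomputable def Atab_s_1058_1060 (c : Nat) : Nat := @Bool.rec (fun _ => Nat) (Atab_1058) (Atab_1059) (Nat.ble 1059 c)
noncomputable def Atab_s_1057_1060 (c : Nat) : Nat := @Bool.rec (fun _ => Nat) (Atab_1057) (Atab_s_1058_1060 c) (Nat.ble 1058 c)
noncomputable def Atab_s_1060_1062 (c : Nat) : Nat := @Bool.rec (fun _ => Nat) (Atab_1060) (Atab_1061) (Nat.ble 1061 c)
noncomputable def Atab_s_1062_1064 (c : Nat) : Nat := @Bool.rec (fun _ => Nat) (Atab_1062) (Atab_1063) (Nat.ble 1063 c)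
noncomputable def Atab_s_1060_1064 (c : Nat) : Nat := @Bool.rec (fun _ => Nat) (Atab_s_1060_1062 c) (Atab_s_1062_1064 c) (Nat.ble 1062 c)
noncomputable def Atab_s_1057_1064 (c : Nat) : Nat := @Bool.rec (fun _ => Nat) (Atab_s_1057_1060 c) (Atab_s_1060_1064 c) (Nat.ble 1060 c)
noncomputable def Atab_s_1050_1064 (c : Nat) : Nat := @Bool.rec (fun _ => Nat) (Atab_s_1050_1057 c) (Atab_s_1057_1064 c) (Nat.ble 1057 c)
noncomputable def Atab_s_1036_1064 (c : Nat) : Nat := @Bool.rec (fun _ => Nat) (Atab_s_1036_1050 c) (Atab_s_1050_1064 c) (Nat.ble 1050 c)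
noncomputable def Atab_s_1065_1067 (c : Nat) : Nat := @Bool.rec (fun _ => Nat) (Atab_1065) (Atab_1066) (Nat.ble 1066 c)
noncomputable def Atab_s_1064_1067 (c : Nat) : Nat := @Bool.rec (fun _ => Nat) (Atab_1064) (Atab_s_1065_1067 c) (Nat.ble 1065 c)
noncomputable def Atab_s_1067_1069 (c : Nat) : Nat := @Bool.rec (fun _ => Nat) (Atab_1067) (Atab_1068) (Nat.ble 1068 c)
noncomputable def Atab_s_1069_1071 (c : Nat) : Nat := @Bool.rec (fun _ => Nat) (Atab_1069) (Atab_1070) (Nat.ble 1070 c)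
noncomputable def Atab_s_1067_1071 (c : Nat) : Nat := @Bool.rec (fun _ => Nat) (Atab_s_1067_1069 c) (Atab_s_1069_1071 c) (Nat.ble 1069 c)
noncomputable def Atab_s_1064_1071 (c : Nat) : Nat := @Bool.rec (fun _ => Nat) (Atab_s_1064_1067 c) (Atab_s_1067_1071 c) (Nat.ble 1067 c)
noncomputable def Atab_s_1072_1074 (c : Nat) : Nat := @Bool.rec (fun _ => Nat) (Atab_1072) (Atab_1073) (Nat.ble 1073 c)
noncomputable def Atab_s_1071_1074 (c : Nat) : Nat := @Bool.rec (fun _ => Nat) (Atab_1071) (Atab_s_1072_1074 c) (Nat.ble 1072 c)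
noncomputable def Atab_s_1074_1076 (c : Nat) : Nat := @Bool.rec (fun _ => Nat) (Atab_1074) (Atab_1075) (Nat.ble 1075 c)
noncomputable def Atab_s_1076_1078 (c : Nat) : Nat := @Bool.rec (fun _ => Nat) (Atab_1076) (Atab_1077) (Nat.ble 1077 c)
noncomputable def Atab_s_1074_1078 (c : Nat) : Nat := @Bool.rec (fun _ => Nat) (Atab_s_1074_1076 c) (Atab_s_1076_1078 c) (Nat.ble 1076 c)
noncomputable def Atab_s_1071_1078 (c : Nat) : Nat := @Bool.rec (fun _ => Nat) (Atab_s_1071_1074 c) (Atab_s_1074_1078 c) (Nat.ble 1074 c)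
noncomputable def Atab_s_1064_1078 (c : Nat) : Nat := @Bool.rec (fun _ => Nat) (Atab_s_1064_1071 c) (Atab_s_1071_1078 c) (Nat.ble 1071 c)
noncomputable def Atab_s_1079_1081 (c : Nat) : Nat := @Bool.rec (fun _ => Nat) (Atab_1079) (Atab_1080) (Nat.ble 1080 c)
noncomputable def Atab_s_1078_1081 (c : Nat) : Nat := @Bool.rec (fun _ => Nat) (Atab_1078) (Atab_s_1079_1081 c) (Nat.ble 1079 c)
noncomputable def Atab_s_1081_1083 (c : Nat) : Nat := @Bool.rec (fun _ => Nat) (Atab_1081) (Atab_1082) (Nat.ble 1082 c)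
noncomputable def Atab_s_1083_1085 (c : Nat) : Nat := @Bool.rec (fun _ => Nat) (Atab_1083) (Atab_1084) (Nat.ble 1084 c)
noncomputable def Atab_s_1081_1085 (c : Nat) : Nat := @Bool.rec (fun _ => Nat) (Atab_s_1081_1083 c) (Atab_s_1083_1085 c) (Nat.ble 1083 c)
noncomputable def Atab_s_1078_1085 (c : Nat) : Nat := @Bool.rec (fun _ => Nat) (Atab_s_1078_1081 c) (Atab_s_1081_1085 c) (Nat.ble 1081 c)
noncomputable def Atab_s_1085_1087 (c : Nat) : Nat := @Bool.rec (fun _ => Nat) (Atab_1085) (Atab_1086) (Nat.ble 1086 c)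
noncomputable def Atab_s_1087_1089 (c : Nat) : Nat := @Bool.rec (fun _ => Nat) (Atab_1087) (Atab_1088) (Nat.ble 1088 c)
noncomputable def Atab_s_1085_1089 (c : Nat) : Nat := @Bool.rec (fun _ => Nat) (Atab_s_1085_1087 c) (Atab_s_1087_1089 c) (Nat.ble 1087 c)
noncomputable def Atab_s_1089_1091 (c : Nat) : Nat := @Bool.rec (fun _ => Nat) (Atab_1089) (Atab_1090) (Nat.ble 1090 c)
noncomputable def Atab_s_1091_1093 (c : Nat) : Nat := @Bool.rec (fun _ => Nat) (Atab_1091) (Atab_1092) (Nat.ble 1092 c)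
noncomputable def Atab_s_1089_1093 (c : Nat) : Nat := @Bool.rec (fun _ => Nat) (Atab_s_1089_1091 c) (Atab_s_1091_1093 c) (Nat.ble 1091 c)
noncomputable def Atab_s_1085_1093 (c : Nat) : Nat := @Bool.rec (fun _ => Nat) (Atab_s_1085_1089 c) (Atab_s_1089_1093 c) (Nat.ble 1089 c)
noncomputable def Atab_s_1078_1093 (c : Nat) : Nat := @Bool.rec (fun _ => Nat) (Atab_s_1078_1085 c) (Atab_s_1085_1093 c) (Nat.ble 1085 c)
noncomputable def Atab_s_1064_1093 (c : Nat) : Nat := @Bool.rec (fun _ => Nat) (Atab_s_1064_1078 c) (Atab_s_1078_1093 c) (Nat.ble 1078 c)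
noncomputable def Atab_s_1036_1093 (c : Nat) : Nat := @Bool.rec (fun _ => Nat) (Atab_s_1036_1064 c) (Atab_s_1064_1093 c) (Nat.ble 1064 c)
noncomputable def Atab_s_1094_1096 (c : Nat) : Nat := @Bool.rec (fun _ => Nat) (Atab_1094) (Atab_1095) (Nat.ble 1095 c)
noncomputable def Atab_s_1093_1096 (c : Nat) : Nat := @Bool.rec (fun _ => Nat) (Atab_1093) (Atab_s_1094_1096 c) (Nat.ble 1094 c)
noncomputable def Atab_s_1096_1098 (c : Nat) : Nat := @Bool.rec (fun _ => Nat) (Atab_1096) (Atab_1097) (Nat.ble 1097 c)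
noncomputable def Atab_s_1098_1100 (c : Nat) : Nat := @Bool.rec (fun _ => Nat) (Atab_1098) (Atab_1099) (Nat.ble 1099 c)
noncomputable def Atab_s_1096_1100 (c : Nat) : Nat := @Bool.rec (fun _ => Nat) (Atab_s_1096_1098 c) (Atab_s_1098_1100 c) (Nat.ble 1098 c)
noncomputable def Atab_s_1093_1100 (c : Nat) : Nat := @Bool.rec (fun _ => Nat) (Atab_s_1093_1096 c) (Atab_s_1096_1100 c) (Nat.ble 1096 c)
noncomputable def Atab_s_1101_1103 (c : Nat) : Nat := @Bool.rec (fun _ => Nat) (Atab_1101) (Atab_1102) (Nat.ble 1102 c)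
noncomputable def Atab_s_1100_1103 (c : Nat) : Nat := @Bool.rec (fun _ => Nat) (Atab_1100) (Atab_s_1101_1103 c) (Nat.ble 1101 c)
noncomputable def Atab_s_1103_1105 (c : Nat) : Nat := @Bool.rec (fun _ => Nat) (Atab_1103) (Atab_1104) (Nat.ble 1104 c)
noncomputable def Atab_s_1105_1107 (c : Nat) : Nat := @Bool.rec (fun _ => Nat) (Atab_1105) (Atab_1106) (Nat.ble 1106 c)
noncomputable def Atab_s_1103_1107 (c : Nat) : Nat := @Bool.rec (fun _ => Nat) (Atab_s_1103_1105 c) (Atab_s_1105_1107 c) (Nat.ble 1105 c)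
noncomputable def Atab_s_1100_1107 (c : Nat) : Nat := @Bool.rec (fun _ => Nat) (Atab_s_1100_1103 c) (Atab_s_1103_1107 c) (Nat.ble 1103 c)
noncomputable def Atab_s_1093_1107 (c : Nat) : Nat := @Bool.rec (fun _ => Nat) (Atab_s_1093_1100 c) (Atab_s_1100_1107 c) (Nat.ble 1100 c)
noncomputable def Atab_s_1108_1110 (c : Nat) : Nat := @Bool.rec (fun _ => Nat) (Atab_1108) (Atab_1109) (Nat.ble 1109 c)
noncomputable def Atab_s_1107_1110 (c : Nat) : Nat := @Bool.rec (fun _ => Nat) (Atab_1107) (Atab_s_1108_1110 c) (Nat.ble 1108 c)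
noncomputable def Atab_s_1110_1112 (c : Nat) : Nat := @Bool.rec (fun _ => Nat) (Atab_1110) (Atab_1111) (Nat.ble 1111 c)
noncomputable def Atab_s_1112_1114 (c : Nat) : Nat := @Bool.rec (fun _ => Nat) (Atab_1112) (Atab_1113) (Nat.ble 1113 c)
noncomputable def Atab_s_1110_1114 (c : Nat) : Nat := @Bool.rec (fun _ => Nat) (Atab_s_1110_1112 c) (Atab_s_1112_1114 c) (Nat.ble 1112 c)
noncomputable def Atab_s_1107_1114 (c : Nat) : Nat := @Bool.rec (fun _ => Nat) (Atab_s_1107_1110 c) (Atab_s_1110_1114 c) (Nat.ble 1110 c)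
noncomputable def Atab_s_1114_1116 (c : Nat) : Nat := @Bool.rec (fun _ => Nat) (Atab_1114) (Atab_1115) (Nat.ble 1115 c)
noncomputable def Atab_s_1116_1118 (c : Nat) : Nat := @Bool.rec (fun _ => Nat) (Atab_1116) (Atab_1117) (Nat.ble 1117 c)
noncomputable def Atab_s_1114_1118 (c : Nat) : Nat := @Bool.rec (fun _ => Nat) (Atab_s_1114_1116 c) (Atab_s_1116_1118 c) (Nat.ble 1116 c)
noncomputable def Atab_s_1118_1120 (c : Nat) : Nat := @Bool.rec (fun _ => Nat) (Atab_1118) (Atab_1119) (Nat.ble 1119 c)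
noncomputable def Atab_s_1120_1122 (c : Nat) : Nat := @Bool.rec (fun _ => Nat) (Atab_1120) (Atab_1121) (Nat.ble 1121 c)
noncomputable def Atab_s_1118_1122 (c : Nat) : Nat := @Bool.rec (fun _ => Nat) (Atab_s_1118_1120 c) (Atab_s_1120_1122 c) (Nat.ble 1120 c)
noncomputable def Atab_s_1114_1122 (c : Nat) : Nat := @Bool.rec (fun _ => Nat) (Atab_s_1114_1118 c) (Atab_s_1118_1122 c) (Nat.ble 1118 c)
noncomputable def Atab_s_1107_1122 (c : Nat) : Nat := @Bool.rec (fun _ => Nat) (Atab_s_1107_1114 c) (Atab_s_1114_1122 c) (Nat.ble 1114 c)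
noncomputable def Atab_s_1093_1122 (c : Nat) : Nat := @Bool.rec (fun _ => Nat) (Atab_s_1093_1107 c) (Atab_s_1107_1122 c) (Nat.ble 1107 c)
noncomputable def Atab_s_1123_1125 (c : Nat) : Nat := @Bool.rec (fun _ => Nat) (Atab_1123) (Atab_1124) (Nat.ble 1124 c)
noncomputable def Atab_s_1122_1125 (c : Nat) : Nat := @Bool.rec (fun _ => Nat) (Atab_1122) (Atab_s_1123_1125 c) (Nat.ble 1123 c)
noncomputable def Atab_s_1125_1127 (c : Nat) : Nat := @Bool.rec (fun _ => Nat) (Atab_1125) (Atab_1126) (Nat.ble 1126 c)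
noncomputable def Atab_s_1127_1129 (c : Nat) : Nat := @Bool.rec (fun _ => Nat) (Atab_1127) (Atab_1128) (Nat.ble 1128 c)
noncomputable def Atab_s_1125_1129 (c : Nat) : Nat := @Bool.rec (fun _ => Nat) (Atab_s_1125_1127 c) (Atab_s_1127_1129 c) (Nat.ble 1127 c)
noncomputable def Atab_s_1122_1129 (c : Nat) : Nat := @Bool.rec (fun _ => Nat) (Atab_s_1122_1125 c) (Atab_s_1125_1129 c) (Nat.ble 1125 c)
noncomputable def Atab_s_1130_1132 (c : Nat) : Nat := @Bool.rec (fun _ => Nat) (Atab_1130) (Atab_1131) (Nat.ble 1131 c)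
noncomputable def Atab_s_1129_1132 (c : Nat) : Nat := @Bool.rec (fun _ => Nat) (Atab_1129) (Atab_s_1130_1132 c) (Nat.ble 1130 c)
noncomputable def Atab_s_1132_1134 (c : Nat) : Nat := @Bool.rec (fun _ => Nat) (Atab_1132) (Atab_1133) (Nat.ble 1133 c)
noncomputable def Atab_s_1134_1136 (c : Nat) : Nat := @Bool.rec (fun _ => Nat) (Atab_1134) (Atab_1135) (Nat.ble 1135 c)
noncomputable def Atab_s_1132_1136 (c : Nat) : Nat := @Bool.rec (fun _ => Nat) (Atab_s_1132_1134 c) (Atab_s_1134_1136 c) (Nat.ble 1134 c)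
noncomputable def Atab_s_1129_1136 (c : Nat) : Nat := @Bool.rec (fun _ => Nat) (Atab_s_1129_1132 c) (Atab_s_1132_1136 c) (Nat.ble 1132 c)
noncomputable def Atab_s_1122_1136 (c : Nat) : Nat := @Bool.rec (fun _ => Nat) (Atab_s_1122_1129 c) (Atab_s_1129_1136 c) (Nat.ble 1129 c)
noncomputable def Atab_s_1137_1139 (c : Nat) : Nat := @Bool.rec (fun _ => Nat) (Atab_1137) (Atab_1138) (Nat.ble 1138 c)
noncomputable def Atab_s_1136_1139 (c : Nat) : Nat := @Bool.rec (fun _ => Nat) (Atab_1136) (Atab_s_1137_1139 c) (Nat.ble 1137 c)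
noncomputable def Atab_s_1139_1141 (c : Nat) : Nat := @Bool.rec (fun _ => Nat) (Atab_1139) (Atab_1140) (Nat.ble 1140 c)
noncomputable def Atab_s_1141_1143 (c : Nat) : Nat := @Bool.rec (fun _ => Nat) (Atab_1141) (Atab_1142) (Nat.ble 1142 c)
noncomputable def Atab_s_1139_1143 (c : Nat) : Nat := @Bool.rec (fun _ => Nat) (Atab_s_1139_1141 c) (Atab_s_1141_1143 c) (Nat.ble 1141 c)
noncomputable def Atab_s_1136_1143 (c : Nat) : Nat := @Bool.rec (fun _ => Nat) (Atab_s_1136_1139 c) (Atab_s_1139_1143 c) (Nat.ble 1139 c)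
noncomputable def Atab_s_1143_1145 (c : Nat) : Nat := @Bool.rec (fun _ => Nat) (Atab_1143) (Atab_1144) (Nat.ble 1144 c)
noncomputable def Atab_s_1145_1147 (c : Nat) : Nat := @Bool.rec (fun _ => Nat) (Atab_1145) (Atab_1146) (Nat.ble 1146 c)
noncomputable def Atab_s_1143_1147 (c : Nat) : Nat := @Bool.rec (fun _ => Nat) (Atab_s_1143_1145 c) (Atab_s_1145_1147 c) (Nat.ble 1145 c)
noncomputable def Atab_s_1147_1149 (c : Nat) : Nat := @Bool.rec (fun _ => Nat) (Atab_1147) (Atab_1148) (Nat.ble 1148 c)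
noncomputable def Atab_s_1149_1151 (c : Nat) : Nat := @Bool.rec (fun _ => Nat) (Atab_1149) (Atab_1150) (Nat.ble 1150 c)
noncomputable def Atab_s_1147_1151 (c : Nat) : Nat := @Bool.rec (fun _ => Nat) (Atab_s_1147_1149 c) (Atab_s_1149_1151 c) (Nat.ble 1149 c)
noncomputable def Atab_s_1143_1151 (c : Nat) : Nat := @Bool.rec (fun _ => Nat) (Atab_s_1143_1147 c) (Atab_s_1147_1151 c) (Nat.ble 1147 c)
noncomputable def Atab_s_1136_1151 (c : Nat) : Nat := @Bool.rec (fun _ => Nat) (Atab_s_1136_1143 c) (Atab_s_1143_1151 c) (Nat.ble 1143 c)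
noncomputable def Atab_s_1122_1151 (c : Nat) : Nat := @Bool.rec (fun _ => Nat) (Atab_s_1122_1136 c) (Atab_s_1136_1151 c) (Nat.ble 1136 c)
noncomputable def Atab_s_1093_1151 (c : Nat) : Nat := @Bool.rec (fun _ => Nat) (Atab_s_1093_1122 c) (Atab_s_1122_1151 c) (Nat.ble 1122 c)
noncomputable def Atab_s_1036_1151 (c : Nat) : Nat := @Bool.rec (fun _ => Nat) (Atab_s_1036_1093 c) (Atab_s_1093_1151 c) (Nat.ble 1093 c)
noncomputable def Atab_s_921_1151 (c : Nat) : Nat := @Bool.rec (fun _ => Nat) (Atab_s_921_1036 c) (Atab_s_1036_1151 c) (Nat.ble 1036 c)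
noncomputable def Atab_s_1152_1154 (c : Nat) : Nat := @Bool.rec (fun _ => Nat) (Atab_1152) (Atab_1153) (Nat.ble 1153 c)
noncomputable def Atab_s_1151_1154 (c : Nat) : Nat := @Bool.rec (fun _ => Nat) (Atab_1151) (Atab_s_1152_1154 c) (Nat.ble 1152 c)
noncomputable def Atab_s_1154_1156 (c : Nat) : Nat := @Bool.rec (fun _ => Nat) (Atab_1154) (Atab_1155) (Nat.ble 1155 c)
noncomputable def Atab_s_1156_1158 (c : Nat) : Nat := @Bool.rec (fun _ => Nat) (Atab_1156) (Atab_1157) (Nat.ble 1157 c)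
noncomputable def Atab_s_1154_1158 (c : Nat) : Nat := @Bool.rec (fun _ => Nat) (Atab_s_1154_1156 c) (Atab_s_1156_1158 c) (Nat.ble 1156 c)
noncomputable def Atab_s_1151_1158 (c : Nat) : Nat := @Bool.rec (fun _ => Nat) (Atab_s_1151_1154 c) (Atab_s_1154_1158 c) (Nat.ble 1154 c)
noncomputable def Atab_s_1159_1161 (c : Nat) : Nat := @Bool.rec (fun _ => Nat) (Atab_1159) (Atab_1160) (Nat.ble 1160 c)
noncomputable def Atab_s_1158_1161 (c : Nat) : Nat := @Bool.rec (fun _ => Nat) (Atab_1158) (Atab_s_1159_1161 c) (Nat.ble 1159 c)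
noncomputable def Atab_s_1161_1163 (c : Nat) : Nat := @Bool.rec (fun _ => Nat) (Atab_1161) (Atab_1162) (Nat.ble 1162 c)
noncomputable def Atab_s_1163_1165 (c : Nat) : Nat := @Bool.rec (fun _ => Nat) (Atab_1163) (Atab_1164) (Nat.ble 1164 c)
noncomputable def Atab_s_1161_1165 (c : Nat) : Nat := @Bool.rec (fun _ => Nat) (Atab_s_1161_1163 c) (Atab_s_1163_1165 c) (Nat.ble 1163 c)
noncomputable def Atab_s_1158_1165 (c : Nat) : Nat := @Bool.rec (fun _ => Nat) (Atab_s_1158_1161 c) (Atab_s_1161_1165 c) (Nat.ble 1161 c)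
noncomputable def Atab_s_1151_1165 (c : Nat) : Nat := @Bool.rec (fun _ => Nat) (Atab_s_1151_1158 c) (Atab_s_1158_1165 c) (Nat.ble 1158 c)
noncomputable def Atab_s_1166_1168 (c : Nat) : Nat := @Bool.rec (fun _ => Nat) (Atab_1166) (Atab_1167) (Nat.ble 1167 c)
noncomputable def Atab_s_1165_1168 (c : Nat) : Nat := @Bool.rec (fun _ => Nat) (Atab_1165) (Atab_s_1166_1168 c) (Nat.ble 1166 c)
noncomputable def Atab_s_1168_1170 (c : Nat) : Nat := @Bool.rec (fun _ => Nat) (Atab_1168) (Atab_1169) (Nat.ble 1169 c)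
noncomputable def Atab_s_1170_1172 (c : Nat) : Nat := @Bool.rec (fun _ => Nat) (Atab_1170) (Atab_1171) (Nat.ble 1171 c)
noncomputable def Atab_s_1168_1172 (c : Nat) : Nat := @Bool.rec (fun _ => Nat) (Atab_s_1168_1170 c) (Atab_s_1170_1172 c) (Nat.ble 1170 c)
noncomputable def Atab_s_1165_1172 (c : Nat) : Nat := @Bool.rec (fun _ => Nat) (Atab_s_1165_1168 c) (Atab_s_1168_1172 c) (Nat.ble 1168 c)
noncomputable def Atab_s_1173_1175 (c : Nat) : Nat := @Bool.rec (fun _ => Nat) (Atab_1173) (Atab_1174) (Nat.ble 1174 c)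
noncomputable def Atab_s_1172_1175 (c : Nat) : Nat := @Bool.rec (fun _ => Nat) (Atab_1172) (Atab_s_1173_1175 c) (Nat.ble 1173 c)
noncomputable def Atab_s_1175_1177 (c : Nat) : Nat := @Bool.rec (fun _ => Nat) (Atab_1175) (Atab_1176) (Nat.ble 1176 c)
noncomputable def Atab_s_1177_1179 (c : Nat) : Nat := @Bool.rec (fun _ => Nat) (Atab_1177) (Atab_1178) (Nat.ble 1178 c)
noncomputable def Atab_s_1175_1179 (c : Nat) : Nat := @Bool.rec (fun _ => Nat) (Atab_s_1175_1177 c) (Atab_s_1177_1179 c) (Nat.ble 1177 c)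
noncomputable def Atab_s_1172_1179 (c : Nat) : Nat := @Bool.rec (fun _ => Nat) (Atab_s_1172_1175 c) (Atab_s_1175_1179 c) (Nat.ble 1175 c)
noncomputable def Atab_s_1165_1179 (c : Nat) : Nat := @Bool.rec (fun _ => Nat) (Atab_s_1165_1172 c) (Atab_s_1172_1179 c) (Nat.ble 1172 c)
noncomputable def Atab_s_1151_1179 (c : Nat) : Nat := @Bool.rec (fun _ => Nat) (Atab_s_1151_1165 c) (Atab_s_1165_1179 c) (Nat.ble 1165 c)
noncomputable def Atab_s_1180_1182 (c : Nat) : Nat := @Bool.rec (fun _ => Nat) (Atab_1180) (Atab_1181) (Nat.ble 1181 c)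
noncomputable def Atab_s_1179_1182 (c : Nat) : Nat := @Bool.rec (fun _ => Nat) (Atab_1179) (Atab_s_1180_1182 c) (Nat.ble 1180 c)
noncomputable def Atab_s_1182_1184 (c : Nat) : Nat := @Bool.rec (fun _ => Nat) (Atab_1182) (Atab_1183) (Nat.ble 1183 c)
noncomputable def Atab_s_1184_1186 (c : Nat) : Nat := @Bool.rec (fun _ => Nat) (Atab_1184) (Atab_1185) (Nat.ble 1185 c)
noncomputable def Atab_s_1182_1186 (c : Nat) : Nat := @Bool.rec (fun _ => Nat) (Atab_s_1182_1184 c) (Atab_s_1184_1186 c) (Nat.ble 1184 c)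
noncomputable def Atab_s_1179_1186 (c : Nat) : Nat := @Bool.rec (fun _ => Nat) (Atab_s_1179_1182 c) (Atab_s_1182_1186 c) (Nat.ble 1182 c)
noncomputable def Atab_s_1187_1189 (c : Nat) : Nat := @Bool.rec (fun _ => Nat) (Atab_1187) (Atab_1188) (Nat.ble 1188 c)
noncomputable def Atab_s_1186_1189 (c : Nat) : Nat := @Bool.rec (fun _ => Nat) (Atab_1186) (Atab_s_1187_1189 c) (Nat.ble 1187 c)
noncomputable def Atab_s_1189_1191 (c : Nat) : Nat := @Bool.rec (fun _ => Nat) (Atab_1189) (Atab_1190) (Nat.ble 1190 c)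
noncomputable def Atab_s_1191_1193 (c : Nat) : Nat := @Bool.rec (fun _ => Nat) (Atab_1191) (Atab_1192) (Nat.ble 1192 c)
noncomputable def Atab_s_1189_1193 (c : Nat) : Nat := @Bool.rec (fun _ => Nat) (Atab_s_1189_1191 c) (Atab_s_1191_1193 c) (Nat.ble 1191 c)
noncomputable def Atab_s_1186_1193 (c : Nat) : Nat := @Bool.rec (fun _ => Nat) (Atab_s_1186_1189 c) (Atab_s_1189_1193 c) (Nat.ble 1189 c)
noncomputable def Atab_s_1179_1193 (c : Nat) : Nat := @Bool.rec (fun _ => Nat) (Atab_s_1179_1186 c) (Atab_s_1186_1193 c) (Nat.ble 1186 c)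
noncomputable def Atab_s_1194_1196 (c : Nat) : Nat := @Bool.rec (fun _ => Nat) (Atab_1194) (Atab_1195) (Nat.ble 1195 c)
noncomputable def Atab_s_1193_1196 (c : Nat) : Nat := @Bool.rec (fun _ => Nat) (Atab_1193) (Atab_s_1194_1196 c) (Nat.ble 1194 c)
noncomputable def Atab_s_1196_1198 (c : Nat) : Nat := @Bool.rec (fun _ => Nat) (Atab_1196) (Atab_1197) (Nat.ble 1197 c)
noncomputable def Atab_s_1198_1200 (c : Nat) : Nat := @Bool.rec (fun _ => Nat) (Atab_1198) (Atab_1199) (Nat.ble 1199 c)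
noncomputable def Atab_s_1196_1200 (c : Nat) : Nat := @Bool.rec (fun _ => Nat) (Atab_s_1196_1198 c) (Atab_s_1198_1200 c) (Nat.ble 1198 c)
noncomputable def Atab_s_1193_1200 (c : Nat) : Nat := @Bool.rec (fun _ => Nat) (Atab_s_1193_1196 c) (Atab_s_1196_1200 c) (Nat.ble 1196 c)
noncomputable def Atab_s_1200_1202 (c : Nat) : Nat := @Bool.rec (fun _ => Nat) (Atab_1200) (Atab_1201) (Nat.ble 1201 c)
noncomputable def Atab_s_1202_1204 (c : Nat) : Nat := @Bool.rec (fun _ => Nat) (Atab_1202) (Atab_1203) (Nat.ble 1203 c)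
noncomputable def Atab_s_1200_1204 (c : Nat) : Nat := @Bool.rec (fun _ => Nat) (Atab_s_1200_1202 c) (Atab_s_1202_1204 c) (Nat.ble 1202 c)
noncomputable def Atab_s_1204_1206 (c : Nat) : Nat := @Bool.rec (fun _ => Nat) (Atab_1204) (Atab_1205) (Nat.ble 1205 c)
noncomputable def Atab_s_1206_1208 (c : Nat) : Nat := @Bool.rec (fun _ => Nat) (Atab_1206) (Atab_1207) (Nat.ble 1207 c)
noncomputable def Atab_s_1204_1208 (c : Nat) : Nat := @Bool.rec (fun _ => Nat) (Atab_s_1204_1206 c) (Atab_s_1206_1208 c) (Nat.ble 1206 c)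
noncomputable def Atab_s_1200_1208 (c : Nat) : Nat := @Bool.rec (fun _ => Nat) (Atab_s_1200_1204 c) (Atab_s_1204_1208 c) (Nat.ble 1204 c)
noncomputable def Atab_s_1193_1208 (c : Nat) : Nat := @Bool.rec (fun _ => Nat) (Atab_s_1193_1200 c) (Atab_s_1200_1208 c) (Nat.ble 1200 c)
noncomputable def Atab_s_1179_1208 (c : Nat) : Nat := @Bool.rec (fun _ => Nat) (Atab_s_1179_1193 c) (Atab_s_1193_1208 c) (Nat.ble 1193 c)
noncomputable def Atab_s_1151_1208 (c : Nat) : Nat := @Bool.rec (fun _ => Nat) (Atab_s_1151_1179 c) (Atab_s_1179_1208 c) (Nat.ble 1179 c)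
noncomputable def Atab_s_1209_1211 (c : Nat) : Nat := @Bool.rec (fun _ => Nat) (Atab_1209) (Atab_1210) (Nat.ble 1210 c)
noncomputable def Atab_s_1208_1211 (c : Nat) : Nat := @Bool.rec (fun _ => Nat) (Atab_1208) (Atab_s_1209_1211 c) (Nat.ble 1209 c)
noncomputable def Atab_s_1211_1213 (c : Nat) : Nat := @Bool.rec (fun _ => Nat) (Atab_1211) (Atab_1212) (Nat.ble 1212 c)
noncomputable def Atab_s_1213_1215 (c : Nat) : Nat := @Bool.rec (fun _ => Nat) (Atab_1213) (Atab_1214) (Nat.ble 1214 c)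
noncomputable def Atab_s_1211_1215 (c : Nat) : Nat := @Bool.rec (fun _ => Nat) (Atab_s_1211_1213 c) (Atab_s_1213_1215 c) (Nat.ble 1213 c)
noncomputable def Atab_s_1208_1215 (c : Nat) : Nat := @Bool.rec (fun _ => Nat) (Atab_s_1208_1211 c) (Atab_s_1211_1215 c) (Nat.ble 1211 c)
noncomputable def Atab_s_1216_1218 (c : Nat) : Nat := @Bool.rec (fun _ => Nat) (Atab_1216) (Atab_1217) (Nat.ble 1217 c)
noncomputable def Atab_s_1215_1218 (c : Nat) : Nat := @Bool.rec (fun _ => Nat) (Atab_1215) (Atab_s_1216_1218 c) (Nat.ble 1216 c)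
noncomputable def Atab_s_1218_1220 (c : Nat) : Nat := @Bool.rec (fun _ => Nat) (Atab_1218) (Atab_1219) (Nat.ble 1219 c)
noncomputable def Atab_s_1220_1222 (c : Nat) : Nat := @Bool.rec (fun _ => Nat) (Atab_1220) (Atab_1221) (Nat.ble 1221 c)
noncomputable def Atab_s_1218_1222 (c : Nat) : Nat := @Bool.rec (fun _ => Nat) (Atab_s_1218_1220 c) (Atab_s_1220_1222 c) (Nat.ble 1220 c)
noncomputable def Atab_s_1215_1222 (c : Nat) : Nat := @Bool.rec (fun _ => Nat) (Atab_s_1215_1218 c) (Atab_s_1218_1222 c) (Nat.ble 1218 c)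
noncomputable def Atab_s_1208_1222 (c : Nat) : Nat := @Bool.rec (fun _ => Nat) (Atab_s_1208_1215 c) (Atab_s_1215_1222 c) (Nat.ble 1215 c)
noncomputable def Atab_s_1223_1225 (c : Nat) : Nat := @Bool.rec (fun _ => Nat) (Atab_1223) (Atab_1224) (Nat.ble 1224 c)
noncomputable def Atab_s_1222_1225 (c : Nat) : Nat := @Bool.rec (fun _ => Nat) (Atab_1222) (Atab_s_1223_1225 c) (Nat.ble 1223 c)
noncomputable def Atab_s_1225_1227 (c : Nat) : Nat := @Bool.rec (fun _ => Nat) (Atab_1225) (Atab_1226) (Nat.ble 1226 c)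
noncomputable def Atab_s_1227_1229 (c : Nat) : Nat := @Bool.rec (fun _ => Nat) (Atab_1227) (Atab_1228) (Nat.ble 1228 c)
noncomputable def Atab_s_1225_1229 (c : Nat) : Nat := @Bool.rec (fun _ => Nat) (Atab_s_1225_1227 c) (Atab_s_1227_1229 c) (Nat.ble 1227 c)
noncomputable def Atab_s_1222_1229 (c : Nat) : Nat := @Bool.rec (fun _ => Nat) (Atab_s_1222_1225 c) (Atab_s_1225_1229 c) (Nat.ble 1225 c)
noncomputable def Atab_s_1229_1231 (c : Nat) : Nat := @Bool.rec (fun _ => Nat) (Atab_1229) (Atab_1230) (Nat.ble 1230 c)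
noncomputable def Atab_s_1231_1233 (c : Nat) : Nat := @Bool.rec (fun _ => Nat) (Atab_1231) (Atab_1232) (Nat.ble 1232 c)
noncomputable def Atab_s_1229_1233 (c : Nat) : Nat := @Bool.rec (fun _ => Nat) (Atab_s_1229_1231 c) (Atab_s_1231_1233 c) (Nat.ble 1231 c)
noncomputable def Atab_s_1233_1235 (c : Nat) : Nat := @Bool.rec (fun _ => Nat) (Atab_1233) (Atab_1234) (Nat.ble 1234 c)
noncomputable def Atab_s_1235_1237 (c : Nat) : Nat := @Bool.rec (fun _ => Nat) (Atab_1235) (Atab_1236) (Nat.ble 1236 c)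
noncomputable def Atab_s_1233_1237 (c : Nat) : Nat := @Bool.rec (fun _ => Nat) (Atab_s_1233_1235 c) (Atab_s_1235_1237 c) (Nat.ble 1235 c)
noncomputable def Atab_s_1229_1237 (c : Nat) : Nat := @Bool.rec (fun _ => Nat) (Atab_s_1229_1233 c) (Atab_s_1233_1237 c) (Nat.ble 1233 c)
noncomputable def Atab_s_1222_1237 (c : Nat) : Nat := @Bool.rec (fun _ => Nat) (Atab_s_1222_1229 c) (Atab_s_1229_1237 c) (Nat.ble 1229 c)
noncomputable def Atab_s_1208_1237 (c : Nat) : Nat := @Bool.rec (fun _ => Nat) (Atab_s_1208_1222 c) (Atab_s_1222_1237 c) (Nat.ble 1222 c)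
noncomputable def Atab_s_1238_1240 (c : Nat) : Nat := @Bool.rec (fun _ => Nat) (Atab_1238) (Atab_1239) (Nat.ble 1239 c)
noncomputable def Atab_s_1237_1240 (c : Nat) : Nat := @Bool.rec (fun _ => Nat) (Atab_1237) (Atab_s_1238_1240 c) (Nat.ble 1238 c)
noncomputable def Atab_s_1240_1242 (c : Nat) : Nat := @Bool.rec (fun _ => Nat) (Atab_1240) (Atab_1241) (Nat.ble 1241 c)
noncomputable def Atab_s_1242_1244 (c : Nat) : Nat := @Bool.rec (fun _ => Nat) (Atab_1242) (Atab_1243) (Nat.ble 1243 c)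
noncomputable def Atab_s_1240_1244 (c : Nat) : Nat := @Bool.rec (fun _ => Nat) (Atab_s_1240_1242 c) (Atab_s_1242_1244 c) (Nat.ble 1242 c)
noncomputable def Atab_s_1237_1244 (c : Nat) : Nat := @Bool.rec (fun _ => Nat) (Atab_s_1237_1240 c) (Atab_s_1240_1244 c) (Nat.ble 1240 c)
noncomputable def Atab_s_1245_1247 (c : Nat) : Nat := @Bool.rec (fun _ => Nat) (Atab_1245) (Atab_1246) (Nat.ble 1246 c)
noncomputable def Atab_s_1244_1247 (c : Nat) : Nat := @Bool.rec (fun _ => Nat) (Atab_1244) (Atab_s_1245_1247 c) (Nat.ble 1245 c)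
noncomputable def Atab_s_1247_1249 (c : Nat) : Nat := @Bool.rec (fun _ => Nat) (Atab_1247) (Atab_1248) (Nat.ble 1248 c)
noncomputable def Atab_s_1249_1251 (c : Nat) : Nat := @Bool.rec (fun _ => Nat) (Atab_1249) (Atab_1250) (Nat.ble 1250 c)
noncomputable def Atab_s_1247_1251 (c : Nat) : Nat := @Bool.rec (fun _ => Nat) (Atab_s_1247_1249 c) (Atab_s_1249_1251 c) (Nat.ble 1249 c)
noncomputable def Atab_s_1244_1251 (c : Nat) : Nat := @Bool.rec (fun _ => Nat) (Atab_s_1244_1247 c) (Atab_s_1247_1251 c) (Nat.ble 1247 c)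
noncomputable def Atab_s_1237_1251 (c : Nat) : Nat := @Bool.rec (fun _ => Nat) (Atab_s_1237_1244 c) (Atab_s_1244_1251 c) (Nat.ble 1244 c)
noncomputable def Atab_s_1252_1254 (c : Nat) : Nat := @Bool.rec (fun _ => Nat) (Atab_1252) (Atab_1253) (Nat.ble 1253 c)
noncomputable def Atab_s_1251_1254 (c : Nat) : Nat := @Bool.rec (fun _ => Nat) (Atab_1251) (Atab_s_1252_1254 c) (Nat.ble 1252 c)
noncomputable def Atab_s_1254_1256 (c : Nat) : Nat := @Bool.rec (fun _ => Nat) (Atab_1254) (Atab_1255) (Nat.ble 1255 c)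
noncomputable def Atab_s_1256_1258 (c : Nat) : Nat := @Bool.rec (fun _ => Nat) (Atab_1256) (Atab_1257) (Nat.ble 1257 c)
noncomputable def Atab_s_1254_1258 (c : Nat) : Nat := @Bool.rec (fun _ => Nat) (Atab_s_1254_1256 c) (Atab_s_1256_1258 c) (Nat.ble 1256 c)
noncomputable def Atab_s_1251_1258 (c : Nat) : Nat := @Bool.rec (fun _ => Nat) (Atab_s_1251_1254 c) (Atab_s_1254_1258 c) (Nat.ble 1254 c)
noncomputable def Atab_s_1258_1260 (c : Nat) : Nat := @Bool.rec (fun _ => Nat) (Atab_1258) (Atab_1259) (Nat.ble 1259 c)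
noncomputable def Atab_s_1260_1262 (c : Nat) : Nat := @Bool.rec (fun _ => Nat) (Atab_1260) (Atab_1261) (Nat.ble 1261 c)
noncomputable def Atab_s_1258_1262 (c : Nat) : Nat := @Bool.rec (fun _ => Nat) (Atab_s_1258_1260 c) (Atab_s_1260_1262 c) (Nat.ble 1260 c)
noncomputable def Atab_s_1262_1264 (c : Nat) : Nat := @Bool.rec (fun _ => Nat) (Atab_1262) (Atab_1263) (Nat.ble 1263 c)
noncomputable def Atab_s_1264_1266 (c : Nat) : Nat := @Bool.rec (fun _ => Nat) (Atab_1264) (Atab_1265) (Nat.ble 1265 c)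
noncomputable def Atab_s_1262_1266 (c : Nat) : Nat := @Bool.rec (fun _ => Nat) (Atab_s_1262_1264 c) (Atab_s_1264_1266 c) (Nat.ble 1264 c)
noncomputable def Atab_s_1258_1266 (c : Nat) : Nat := @Bool.rec (fun _ => Nat) (Atab_s_1258_1262 c) (Atab_s_1262_1266 c) (Nat.ble 1262 c)
noncomputable def Atab_s_1251_1266 (c : Nat) : Nat := @Bool.rec (fun _ => Nat) (Atab_s_1251_1258 c) (Atab_s_1258_1266 c) (Nat.ble 1258 c)
noncomputable def Atab_s_1237_1266 (c : Nat) : Nat := @Bool.rec (fun _ => Nat) (Atab_s_1237_1251 c) (Atab_s_1251_1266 c) (Nat.ble 1251 c)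
noncomputable def Atab_s_1208_1266 (c : Nat) : Nat := @Bool.rec (fun _ => Nat) (Atab_s_1208_1237 c) (Atab_s_1237_1266 c) (Nat.ble 1237 c)
noncomputable def Atab_s_1151_1266 (c : Nat) : Nat := @Bool.rec (fun _ => Nat) (Atab_s_1151_1208 c) (Atab_s_1208_1266 c) (Nat.ble 1208 c)
noncomputable def Atab_s_1267_1269 (c : Nat) : Nat := @Bool.rec (fun _ => Nat) (Atab_1267) (Atab_1268) (Nat.ble 1268 c)
noncomputable def Atab_s_1266_1269 (c : Nat) : Nat := @Bool.rec (fun _ => Nat) (Atab_1266) (Atab_s_1267_1269 c) (Nat.ble 1267 c)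
noncomputable def Atab_s_1269_1271 (c : Nat) : Nat := @Bool.rec (fun _ => Nat) (Atab_1269) (Atab_1270) (Nat.ble 1270 c)
noncomputable def Atab_s_1271_1273 (c : Nat) : Nat := @Bool.rec (fun _ => Nat) (Atab_1271) (Atab_1272) (Nat.ble 1272 c)
noncomputable def Atab_s_1269_1273 (c : Nat) : Nat := @Bool.rec (fun _ => Nat) (Atab_s_1269_1271 c) (Atab_s_1271_1273 c) (Nat.ble 1271 c)
noncomputable def Atab_s_1266_1273 (c : Nat) : Nat := @Bool.rec (fun _ => Nat) (Atab_s_1266_1269 c) (Atab_s_1269_1273 c) (Nat.ble 1269 c)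
noncomputable def Atab_s_1274_1276 (c : Nat) : Nat := @Bool.rec (fun _ => Nat) (Atab_1274) (Atab_1275) (Nat.ble 1275 c)
noncomputable def Atab_s_1273_1276 (c : Nat) : Nat := @Bool.rec (fun _ => Nat) (Atab_1273) (Atab_s_1274_1276 c) (Nat.ble 1274 c)
noncomputable def Atab_s_1276_1278 (c : Nat) : Nat := @Bool.rec (fun _ => Nat) (Atab_1276) (Atab_1277) (Nat.ble 1277 c)
noncomputable def Atab_s_1278_1280 (c : Nat) : Nat := @Bool.rec (fun _ => Nat) (Atab_1278) (Atab_1279) (Nat.ble 1279 c)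
noncomputable def Atab_s_1276_1280 (c : Nat) : Nat := @Bool.rec (fun _ => Nat) (Atab_s_1276_1278 c) (Atab_s_1278_1280 c) (Nat.ble 1278 c)
noncomputable def Atab_s_1273_1280 (c : Nat) : Nat := @Bool.rec (fun _ => Nat) (Atab_s_1273_1276 c) (Atab_s_1276_1280 c) (Nat.ble 1276 c)
noncomputable def Atab_s_1266_1280 (c : Nat) : Nat := @Bool.rec (fun _ => Nat) (Atab_s_1266_1273 c) (Atab_s_1273_1280 c) (Nat.ble 1273 c)
noncomputable def Atab_s_1281_1283 (c : Nat) : Nat := @Bool.rec (fun _ => Nat) (Atab_1281) (Atab_1282) (Nat.ble 1282 c)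
noncomputable def Atab_s_1280_1283 (c : Nat) : Nat := @Bool.rec (fun _ => Nat) (Atab_1280) (Atab_s_1281_1283 c) (Nat.ble 1281 c)
noncomputable def Atab_s_1283_1285 (c : Nat) : Nat := @Bool.rec (fun _ => Nat) (Atab_1283) (Atab_1284) (Nat.ble 1284 c)
noncomputable def Atab_s_1285_1287 (c : Nat) : Nat := @Bool.rec (fun _ => Nat) (Atab_1285) (Atab_1286) (Nat.ble 1286 c)
noncomputable def Atab_s_1283_1287 (c : Nat) : Nat := @Bool.rec (fun _ => Nat) (Atab_s_1283_1285 c) (Atab_s_1285_1287 c) (Nat.ble 1285 c)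
noncomputable def Atab_s_1280_1287 (c : Nat) : Nat := @Bool.rec (fun _ => Nat) (Atab_s_1280_1283 c) (Atab_s_1283_1287 c) (Nat.ble 1283 c)
noncomputable def Atab_s_1287_1289 (c : Nat) : Nat := @Bool.rec (fun _ => Nat) (Atab_1287) (Atab_1288) (Nat.ble 1288 c)
noncomputable def Atab_s_1289_1291 (c : Nat) : Nat := @Bool.rec (fun _ => Nat) (Atab_1289) (Atab_1290) (Nat.ble 1290 c)
noncomputable def Atab_s_1287_1291 (c : Nat) : Nat := @Bool.rec (fun _ => Nat) (Atab_s_1287_1289 c) (Atab_s_1289_1291 c) (Nat.ble 1289 c)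
noncomputable def Atab_s_1291_1293 (c : Nat) : Nat := @Bool.rec (fun _ => Nat) (Atab_1291) (Atab_1292) (Nat.ble 1292 c)
noncomputable def Atab_s_1293_1295 (c : Nat) : Nat := @Bool.rec (fun _ => Nat) (Atab_1293) (Atab_1294) (Nat.ble 1294 c)
noncomputable def Atab_s_1291_1295 (c : Nat) : Nat := @Bool.rec (fun _ => Nat) (Atab_s_1291_1293 c) (Atab_s_1293_1295 c) (Nat.ble 1293 c)
noncomputable def Atab_s_1287_1295 (c : Nat) : Nat := @Bool.rec (fun _ => Nat) (Atab_s_1287_1291 c) (Atab_s_1291_1295 c) (Nat.ble 1291 c)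
noncomputable def Atab_s_1280_1295 (c : Nat) : Nat := @Bool.rec (fun _ => Nat) (Atab_s_1280_1287 c) (Atab_s_1287_1295 c) (Nat.ble 1287 c)
noncomputable def Atab_s_1266_1295 (c : Nat) : Nat := @Bool.rec (fun _ => Nat) (Atab_s_1266_1280 c) (Atab_s_1280_1295 c) (Nat.ble 1280 c)
noncomputable def Atab_s_1296_1298 (c : Nat) : Nat := @Bool.rec (fun _ => Nat) (Atab_1296) (Atab_1297) (Nat.ble 1297 c)
noncomputable def Atab_s_1295_1298 (c : Nat) : Nat := @Bool.rec (fun _ => Nat) (Atab_1295) (Atab_s_1296_1298 c) (Nat.ble 1296 c)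
noncomputable def Atab_s_1298_1300 (c : Nat) : Nat := @Bool.rec (fun _ => Nat) (Atab_1298) (Atab_1299) (Nat.ble 1299 c)
noncomputable def Atab_s_1300_1302 (c : Nat) : Nat := @Bool.rec (fun _ => Nat) (Atab_1300) (Atab_1301) (Nat.ble 1301 c)
noncomputable def Atab_s_1298_1302 (c : Nat) : Nat := @Bool.rec (fun _ => Nat) (Atab_s_1298_1300 c) (Atab_s_1300_1302 c) (Nat.ble 1300 c)
noncomputable def Atab_s_1295_1302 (c : Nat) : Nat := @Bool.rec (fun _ => Nat) (Atab_s_1295_1298 c) (Atab_s_1298_1302 c) (Nat.ble 1298 c)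
noncomputable def Atab_s_1303_1305 (c : Nat) : Nat := @Bool.rec (fun _ => Nat) (Atab_1303) (Atab_1304) (Nat.ble 1304 c)
noncomputable def Atab_s_1302_1305 (c : Nat) : Nat := @Bool.rec (fun _ => Nat) (Atab_1302) (Atab_s_1303_1305 c) (Nat.ble 1303 c)
noncomputable def Atab_s_1305_1307 (c : Nat) : Nat := @Bool.rec (fun _ => Nat) (Atab_1305) (Atab_1306) (Nat.ble 1306 c)
noncomputable def Atab_s_1307_1309 (c : Nat) : Nat := @Bool.rec (fun _ => Nat) (Atab_1307) (Atab_1308) (Nat.ble 1308 c)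
noncomputable def Atab_s_1305_1309 (c : Nat) : Nat := @Bool.rec (fun _ => Nat) (Atab_s_1305_1307 c) (Atab_s_1307_1309 c) (Nat.ble 1307 c)
noncomputable def Atab_s_1302_1309 (c : Nat) : Nat := @Bool.rec (fun _ => Nat) (Atab_s_1302_1305 c) (Atab_s_1305_1309 c) (Nat.ble 1305 c)
noncomputable def Atab_s_1295_1309 (c : Nat) : Nat := @Bool.rec (fun _ => Nat) (Atab_s_1295_1302 c) (Atab_s_1302_1309 c) (Nat.ble 1302 c)
noncomputable def Atab_s_1310_1312 (c : Nat) : Nat := @Bool.rec (fun _ => Nat) (Atab_1310) (Atab_1311) (Nat.ble 1311 c)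
noncomputable def Atab_s_1309_1312 (c : Nat) : Nat := @Bool.rec (fun _ => Nat) (Atab_1309) (Atab_s_1310_1312 c) (Nat.ble 1310 c)
noncomputable def Atab_s_1312_1314 (c : Nat) : Nat := @Bool.rec (fun _ => Nat) (Atab_1312) (Atab_1313) (Nat.ble 1313 c)
noncomputable def Atab_s_1314_1316 (c : Nat) : Nat := @Bool.rec (fun _ => Nat) (Atab_1314) (Atab_1315) (Nat.ble 1315 c)
noncomputable def Atab_s_1312_1316 (c : Nat) : Nat := @Bool.rec (fun _ => Nat) (Atab_s_1312_1314 c) (Atab_s_1314_1316 c) (Nat.ble 1314 c)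
noncomputable def Atab_s_1309_1316 (c : Nat) : Nat := @Bool.rec (fun _ => Nat) (Atab_s_1309_1312 c) (Atab_s_1312_1316 c) (Nat.ble 1312 c)
noncomputable def Atab_s_1316_1318 (c : Nat) : Nat := @Bool.rec (fun _ => Nat) (Atab_1316) (Atab_1317) (Nat.ble 1317 c)
noncomputable def Atab_s_1318_1320 (c : Nat) : Nat := @Bool.rec (fun _ => Nat) (Atab_1318) (Atab_1319) (Nat.ble 1319 c)
noncomputable def Atab_s_1316_1320 (c : Nat) : Nat := @Bool.rec (fun _ => Nat) (Atab_s_1316_1318 c) (Atab_s_1318_1320 c) (Nat.ble 1318 c)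
noncomputable def Atab_s_1320_1322 (c : Nat) : Nat := @Bool.rec (fun _ => Nat) (Atab_1320) (Atab_1321) (Nat.ble 1321 c)
noncomputable def Atab_s_1322_1324 (c : Nat) : Nat := @Bool.rec (fun _ => Nat) (Atab_1322) (Atab_1323) (Nat.ble 1323 c)
noncomputable def Atab_s_1320_1324 (c : Nat) : Nat := @Bool.rec (fun _ => Nat) (Atab_s_1320_1322 c) (Atab_s_1322_1324 c) (Nat.ble 1322 c)
noncomputable def Atab_s_1316_1324 (c : Nat) : Nat := @Bool.rec (fun _ => Nat) (Atab_s_1316_1320 c) (Atab_s_1320_1324 c) (Nat.ble 1320 c)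
noncomputable def Atab_s_1309_1324 (c : Nat) : Nat := @Bool.rec (fun _ => Nat) (Atab_s_1309_1316 c) (Atab_s_1316_1324 c) (Nat.ble 1316 c)
noncomputable def Atab_s_1295_1324 (c : Nat) : Nat := @Bool.rec (fun _ => Nat) (Atab_s_1295_1309 c) (Atab_s_1309_1324 c) (Nat.ble 1309 c)
noncomputable def Atab_s_1266_1324 (c : Nat) : Nat := @Bool.rec (fun _ => Nat) (Atab_s_1266_1295 c) (Atab_s_1295_1324 c) (Nat.ble 1295 c)
noncomputable def Atab_s_1325_1327 (c : Nat) : Nat := @Bool.rec (fun _ => Nat) (Atab_1325) (Atab_1326) (Nat.ble 1326 c)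
noncomputable def Atab_s_1324_1327 (c : Nat) : Nat := @Bool.rec (fun _ => Nat) (Atab_1324) (Atab_s_1325_1327 c) (Nat.ble 1325 c)
noncomputable def Atab_s_1327_1329 (c : Nat) : Nat := @Bool.rec (fun _ => Nat) (Atab_1327) (Atab_1328) (Nat.ble 1328 c)
noncomputable def Atab_s_1329_1331 (c : Nat) : Nat := @Bool.rec (fun _ => Nat) (Atab_1329) (Atab_1330) (Nat.ble 1330 c)
noncomputable def Atab_s_1327_1331 (c : Nat) : Nat := @Bool.rec (fun _ => Nat) (Atab_s_1327_1329 c) (Atab_s_1329_1331 c) (Nat.ble 1329 c)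
noncomputable def Atab_s_1324_1331 (c : Nat) : Nat := @Bool.rec (fun _ => Nat) (Atab_s_1324_1327 c) (Atab_s_1327_1331 c) (Nat.ble 1327 c)
noncomputable def Atab_s_1332_1334 (c : Nat) : Nat := @Bool.rec (fun _ => Nat) (Atab_1332) (Atab_1333) (Nat.ble 1333 c)
noncomputable def Atab_s_1331_1334 (c : Nat) : Nat := @Bool.rec (fun _ => Nat) (Atab_1331) (Atab_s_1332_1334 c) (Nat.ble 1332 c)
noncomputable def Atab_s_1334_1336 (c : Nat) : Nat := @Bool.rec (fun _ => Nat) (Atab_1334) (Atab_1335) (Nat.ble 1335 c)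
noncomputable def Atab_s_1336_1338 (c : Nat) : Nat := @Bool.rec (fun _ => Nat) (Atab_1336) (Atab_1337) (Nat.ble 1337 c)
noncomputable def Atab_s_1334_1338 (c : Nat) : Nat := @Bool.rec (fun _ => Nat) (Atab_s_1334_1336 c) (Atab_s_1336_1338 c) (Nat.ble 1336 c)
noncomputable def Atab_s_1331_1338 (c : Nat) : Nat := @Bool.rec (fun _ => Nat) (Atab_s_1331_1334 c) (Atab_s_1334_1338 c) (Nat.ble 1334 c)
noncomputable def Atab_s_1324_1338 (c : Nat) : Nat := @Bool.rec (fun _ => Nat) (Atab_s_1324_1331 c) (Atab_s_1331_1338 c) (Nat.ble 1331 c)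
noncomputable def Atab_s_1339_1341 (c : Nat) : Nat := @Bool.rec (fun _ => Nat) (Atab_1339) (Atab_1340) (Nat.ble 1340 c)
noncomputable def Atab_s_1338_1341 (c : Nat) : Nat := @Bool.rec (fun _ => Nat) (Atab_1338) (Atab_s_1339_1341 c) (Nat.ble 1339 c)
noncomputable def Atab_s_1341_1343 (c : Nat) : Nat := @Bool.rec (fun _ => Nat) (Atab_1341) (Atab_1342) (Nat.ble 1342 c)
noncomputable def Atab_s_1343_1345 (c : Nat) : Nat := @Bool.rec (fun _ => Nat) (Atab_1343) (Atab_1344) (Nat.ble 1344 c)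
noncomputable def Atab_s_1341_1345 (c : Nat) : Nat := @Bool.rec (fun _ => Nat) (Atab_s_1341_1343 c) (Atab_s_1343_1345 c) (Nat.ble 1343 c)
noncomputable def Atab_s_1338_1345 (c : Nat) : Nat := @Bool.rec (fun _ => Nat) (Atab_s_1338_1341 c) (Atab_s_1341_1345 c) (Nat.ble 1341 c)
noncomputable def Atab_s_1345_1347 (c : Nat) : Nat := @Bool.rec (fun _ => Nat) (Atab_1345) (Atab_1346) (Nat.ble 1346 c)
noncomputable def Atab_s_1347_1349 (c : Nat) : Nat := @Bool.rec (fun _ => Nat) (Atab_1347) (Atab_1348) (Nat.ble 1348 c)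
noncomputable def Atab_s_1345_1349 (c : Nat) : Nat := @Bool.rec (fun _ => Nat) (Atab_s_1345_1347 c) (Atab_s_1347_1349 c) (Nat.ble 1347 c)
noncomputable def Atab_s_1349_1351 (c : Nat) : Nat := @Bool.rec (fun _ => Nat) (Atab_1349) (Atab_1350) (Nat.ble 1350 c)
noncomputable def Atab_s_1351_1353 (c : Nat) : Nat := @Bool.rec (fun _ => Nat) (Atab_1351) (Atab_1352) (Nat.ble 1352 c)
noncomputable def Atab_s_1349_1353 (c : Nat) : Nat := @Bool.rec (fun _ => Nat) (Atab_s_1349_1351 c) (Atab_s_1351_1353 c) (Nat.ble 1351 c)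
noncomputable def Atab_s_1345_1353 (c : Nat) : Nat := @Bool.rec (fun _ => Nat) (Atab_s_1345_1349 c) (Atab_s_1349_1353 c) (Nat.ble 1349 c)
noncomputable def Atab_s_1338_1353 (c : Nat) : Nat := @Bool.rec (fun _ => Nat) (Atab_s_1338_1345 c) (Atab_s_1345_1353 c) (Nat.ble 1345 c)
noncomputable def Atab_s_1324_1353 (c : Nat) : Nat := @Bool.rec (fun _ => Nat) (Atab_s_1324_1338 c) (Atab_s_1338_1353 c) (Nat.ble 1338 c)
noncomputable def Atab_s_1354_1356 (c : Nat) : Nat := @Bool.rec (fun _ => Nat) (Atab_1354) (Atab_1355) (Nat.ble 1355 c)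
noncomputable def Atab_s_1353_1356 (c : Nat) : Nat := @Bool.rec (fun _ => Nat) (Atab_1353) (Atab_s_1354_1356 c) (Nat.ble 1354 c)
noncomputable def Atab_s_1356_1358 (c : Nat) : Nat := @Bool.rec (fun _ => Nat) (Atab_1356) (Atab_1357) (Nat.ble 1357 c)
noncomputable def Atab_s_1358_1360 (c : Nat) : Nat := @Bool.rec (fun _ => Nat) (Atab_1358) (Atab_1359) (Nat.ble 1359 c)
noncomputable def Atab_s_1356_1360 (c : Nat) : Nat := @Bool.rec (fun _ => Nat) (Atab_s_1356_1358 c) (Atab_s_1358_1360 c) (Nat.ble 1358 c)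
noncomputable def Atab_s_1353_1360 (c : Nat) : Nat := @Bool.rec (fun _ => Nat) (Atab_s_1353_1356 c) (Atab_s_1356_1360 c) (Nat.ble 1356 c)
noncomputable def Atab_s_1361_1363 (c : Nat) : Nat := @Bool.rec (fun _ => Nat) (Atab_1361) (Atab_1362) (Nat.ble 1362 c)
noncomputable def Atab_s_1360_1363 (c : Nat) : Nat := @Bool.rec (fun _ => Nat) (Atab_1360) (Atab_s_1361_1363 c) (Nat.ble 1361 c)
noncomputable def Atab_s_1363_1365 (c : Nat) : Nat := @Bool.rec (fun _ => Nat) (Atab_1363) (Atab_1364) (Nat.ble 1364 c)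
noncomputable def Atab_s_1365_1367 (c : Nat) : Nat := @Bool.rec (fun _ => Nat) (Atab_1365) (Atab_1366) (Nat.ble 1366 c)
noncomputable def Atab_s_1363_1367 (c : Nat) : Nat := @Bool.rec (fun _ => Nat) (Atab_s_1363_1365 c) (Atab_s_1365_1367 c) (Nat.ble 1365 c)
noncomputable def Atab_s_1360_1367 (c : Nat) : Nat := @Bool.rec (fun _ => Nat) (Atab_s_1360_1363 c) (Atab_s_1363_1367 c) (Nat.ble 1363 c)
noncomputable def Atab_s_1353_1367 (c : Nat) : Nat := @Bool.rec (fun _ => Nat) (Atab_s_1353_1360 c) (Atab_s_1360_1367 c) (Nat.ble 1360 c)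
noncomputable def Atab_s_1368_1370 (c : Nat) : Nat := @Bool.rec (fun _ => Nat) (Atab_1368) (Atab_1369) (Nat.ble 1369 c)
noncomputable def Atab_s_1367_1370 (c : Nat) : Nat := @Bool.rec (fun _ => Nat) (Atab_1367) (Atab_s_1368_1370 c) (Nat.ble 1368 c)
noncomputable def Atab_s_1370_1372 (c : Nat) : Nat := @Bool.rec (fun _ => Nat) (Atab_1370) (Atab_1371) (Nat.ble 1371 c)
noncomputable def Atab_s_1372_1374 (c : Nat) : Nat := @Bool.rec (fun _ => Nat) (Atab_1372) (Atab_1373) (Nat.ble 1373 c)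
noncomputable def Atab_s_1370_1374 (c : Nat) : Nat := @Bool.rec (fun _ => Nat) (Atab_s_1370_1372 c) (Atab_s_1372_1374 c) (Nat.ble 1372 c)
noncomputable def Atab_s_1367_1374 (c : Nat) : Nat := @Bool.rec (fun _ => Nat) (Atab_s_1367_1370 c) (Atab_s_1370_1374 c) (Nat.ble 1370 c)
noncomputable def Atab_s_1374_1376 (c : Nat) : Nat := @Bool.rec (fun _ => Nat) (Atab_1374) (Atab_1375) (Nat.ble 1375 c)
noncomputable def Atab_s_1376_1378 (c : Nat) : Nat := @Bool.rec (fun _ => Nat) (Atab_1376) (Atab_1377) (Nat.ble 1377 c)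
noncomputable def Atab_s_1374_1378 (c : Nat) : Nat := @Bool.rec (fun _ => Nat) (Atab_s_1374_1376 c) (Atab_s_1376_1378 c) (Nat.ble 1376 c)
noncomputable def Atab_s_1378_1380 (c : Nat) : Nat := @Bool.rec (fun _ => Nat) (Atab_1378) (Atab_1379) (Nat.ble 1379 c)
noncomputable def Atab_s_1380_1382 (c : Nat) : Nat := @Bool.rec (fun _ => Nat) (Atab_1380) (Atab_1381) (Nat.ble 1381 c)
noncomputable def Atab_s_1378_1382 (c : Nat) : Nat := @Bool.rec (fun _ => Nat) (Atab_s_1378_1380 c) (Atab_s_1380_1382 c) (Nat.ble 1380 c)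
noncomputable def Atab_s_1374_1382 (c : Nat) : Nat := @Bool.rec (fun _ => Nat) (Atab_s_1374_1378 c) (Atab_s_1378_1382 c) (Nat.ble 1378 c)
noncomputable def Atab_s_1367_1382 (c : Nat) : Nat := @Bool.rec (fun _ => Nat) (Atab_s_1367_1374 c) (Atab_s_1374_1382 c) (Nat.ble 1374 c)
noncomputable def Atab_s_1353_1382 (c : Nat) : Nat := @Bool.rec (fun _ => Nat) (Atab_s_1353_1367 c) (Atab_s_1367_1382 c) (Nat.ble 1367 c)
noncomputable def Atab_s_1324_1382 (c : Nat) : Nat := @Bool.rec (fun _ => Nat) (Atab_s_1324_1353 c) (Atab_s_1353_1382 c) (Nat.ble 1353 c)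
noncomputable def Atab_s_1266_1382 (c : Nat) : Nat := @Bool.rec (fun _ => Nat) (Atab_s_1266_1324 c) (Atab_s_1324_1382 c) (Nat.ble 1324 c)
noncomputable def Atab_s_1151_1382 (c : Nat) : Nat := @Bool.rec (fun _ => Nat) (Atab_s_1151_1266 c) (Atab_s_1266_1382 c) (Nat.ble 1266 c)
noncomputable def Atab_s_921_1382 (c : Nat) : Nat := @Bool.rec (fun _ => Nat) (Atab_s_921_1151 c) (Atab_s_1151_1382 c) (Nat.ble 1151 c)
noncomputable def Atab_s_1383_1385 (c : Nat) : Nat := @Bool.rec (fun _ => Nat) (Atab_1383) (Atab_1384) (Nat.ble 1384 c)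
noncomputable def Atab_s_1382_1385 (c : Nat) : Nat := @Bool.rec (fun _ => Nat) (Atab_1382) (Atab_s_1383_1385 c) (Nat.ble 1383 c)
noncomputable def Atab_s_1385_1387 (c : Nat) : Nat := @Bool.rec (fun _ => Nat) (Atab_1385) (Atab_1386) (Nat.ble 1386 c)
noncomputable def Atab_s_1387_1389 (c : Nat) : Nat := @Bool.rec (fun _ => Nat) (Atab_1387) (Atab_1388) (Nat.ble 1388 c)
noncomputable def Atab_s_1385_1389 (c : Nat) : Nat := @Bool.rec (fun _ => Nat) (Atab_s_1385_1387 c) (Atab_s_1387_1389 c) (Nat.ble 1387 c)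
noncomputable def Atab_s_1382_1389 (c : Nat) : Nat := @Bool.rec (fun _ => Nat) (Atab_s_1382_1385 c) (Atab_s_1385_1389 c) (Nat.ble 1385 c)
noncomputable def Atab_s_1390_1392 (c : Nat) : Nat := @Bool.rec (fun _ => Nat) (Atab_1390) (Atab_1391) (Nat.ble 1391 c)
noncomputable def Atab_s_1389_1392 (c : Nat) : Nat := @Bool.rec (fun _ => Nat) (Atab_1389) (Atab_s_1390_1392 c) (Nat.ble 1390 c)
noncomputable def Atab_s_1392_1394 (c : Nat) : Nat := @Bool.rec (fun _ => Nat) (Atab_1392) (Atab_1393) (Nat.ble 1393 c)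
noncomputable def Atab_s_1394_1396 (c : Nat) : Nat := @Bool.rec (fun _ => Nat) (Atab_1394) (Atab_1395) (Nat.ble 1395 c)
noncomputable def Atab_s_1392_1396 (c : Nat) : Nat := @Bool.rec (fun _ => Nat) (Atab_s_1392_1394 c) (Atab_s_1394_1396 c) (Nat.ble 1394 c)
noncomputable def Atab_s_1389_1396 (c : Nat) : Nat := @Bool.rec (fun _ => Nat) (Atab_s_1389_1392 c) (Atab_s_1392_1396 c) (Nat.ble 1392 c)
noncomputable def Atab_s_1382_1396 (c : Nat) : Nat := @Bool.rec (fun _ => Nat) (Atab_s_1382_1389 c) (Atab_s_1389_1396 c) (Nat.ble 1389 c)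
noncomputable def Atab_s_1397_1399 (c : Nat) : Nat := @Bool.rec (fun _ => Nat) (Atab_1397) (Atab_1398) (Nat.ble 1398 c)
noncomputable def Atab_s_1396_1399 (c : Nat) : Nat := @Bool.rec (fun _ => Nat) (Atab_1396) (Atab_s_1397_1399 c) (Nat.ble 1397 c)
noncomputable def Atab_s_1399_1401 (c : Nat) : Nat := @Bool.rec (fun _ => Nat) (Atab_1399) (Atab_1400) (Nat.ble 1400 c)
noncomputable def Atab_s_1401_1403 (c : Nat) : Nat := @Bool.rec (fun _ => Nat) (Atab_1401) (Atab_1402) (Nat.ble 1402 c)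
noncomputable def Atab_s_1399_1403 (c : Nat) : Nat := @Bool.rec (fun _ => Nat) (Atab_s_1399_1401 c) (Atab_s_1401_1403 c) (Nat.ble 1401 c)
noncomputable def Atab_s_1396_1403 (c : Nat) : Nat := @Bool.rec (fun _ => Nat) (Atab_s_1396_1399 c) (Atab_s_1399_1403 c) (Nat.ble 1399 c)
noncomputable def Atab_s_1404_1406 (c : Nat) : Nat := @Bool.rec (fun _ => Nat) (Atab_1404) (Atab_1405) (Nat.ble 1405 c)
noncomputable def Atab_s_1403_1406 (c : Nat) : Nat := @Bool.rec (fun _ => Nat) (Atab_1403) (Atab_s_1404_1406 c) (Nat.ble 1404 c)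
noncomputable def Atab_s_1406_1408 (c : Nat) : Nat := @Bool.rec (fun _ => Nat) (Atab_1406) (Atab_1407) (Nat.ble 1407 c)
noncomputable def Atab_s_1408_1410 (c : Nat) : Nat := @Bool.rec (fun _ => Nat) (Atab_1408) (Atab_1409) (Nat.ble 1409 c)
noncomputable def Atab_s_1406_1410 (c : Nat) : Nat := @Bool.rec (fun _ => Nat) (Atab_s_1406_1408 c) (Atab_s_1408_1410 c) (Nat.ble 1408 c)
noncomputable def Atab_s_1403_1410 (c : Nat) : Nat := @Bool.rec (fun _ => Nat) (Atab_s_1403_1406 c) (Atab_s_1406_1410 c) (Nat.ble 1406 c)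
noncomputable def Atab_s_1396_1410 (c : Nat) : Nat := @Bool.rec (fun _ => Nat) (Atab_s_1396_1403 c) (Atab_s_1403_1410 c) (Nat.ble 1403 c)
noncomputable def Atab_s_1382_1410 (c : Nat) : Nat := @Bool.rec (fun _ => Nat) (Atab_s_1382_1396 c) (Atab_s_1396_1410 c) (Nat.ble 1396 c)
noncomputable def Atab_s_1411_1413 (c : Nat) : Nat := @Bool.rec (fun _ => Nat) (Atab_1411) (Atab_1412) (Nat.ble 1412 c)
noncomputable def Atab_s_1410_1413 (c : Nat) : Nat := @Bool.rec (fun _ => Nat) (Atab_1410) (Atab_s_1411_1413 c) (Nat.ble 1411 c)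
noncomputable def Atab_s_1413_1415 (c : Nat) : Nat := @Bool.rec (fun _ => Nat) (Atab_1413) (Atab_1414) (Nat.ble 1414 c)
noncomputable def Atab_s_1415_1417 (c : Nat) : Nat := @Bool.rec (fun _ => Nat) (Atab_1415) (Atab_1416) (Nat.ble 1416 c)
noncomputable def Atab_s_1413_1417 (c : Nat) : Nat := @Bool.rec (fun _ => Nat) (Atab_s_1413_1415 c) (Atab_s_1415_1417 c) (Nat.ble 1415 c)
noncomputable def Atab_s_1410_1417 (c : Nat) : Nat := @Bool.rec (fun _ => Nat) (Atab_s_1410_1413 c) (Atab_s_1413_1417 c) (Nat.ble 1413 c)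
noncomputable def Atab_s_1418_1420 (c : Nat) : Nat := @Bool.rec (fun _ => Nat) (Atab_1418) (Atab_1419) (Nat.ble 1419 c)
noncomputable def Atab_s_1417_1420 (c : Nat) : Nat := @Bool.rec (fun _ => Nat) (Atab_1417) (Atab_s_1418_1420 c) (Nat.ble 1418 c)
noncomputable def Atab_s_1420_1422 (c : Nat) : Nat := @Bool.rec (fun _ => Nat) (Atab_1420) (Atab_1421) (Nat.ble 1421 c)
noncomputable def Atab_s_1422_1424 (c : Nat) : Nat := @Bool.rec (fun _ => Nat) (Atab_1422) (Atab_1423) (Nat.ble 1423 c)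
noncomputable def Atab_s_1420_1424 (c : Nat) : Nat := @Bool.rec (fun _ => Nat) (Atab_s_1420_1422 c) (Atab_s_1422_1424 c) (Nat.ble 1422 c)
noncomputable def Atab_s_1417_1424 (c : Nat) : Nat := @Bool.rec (fun _ => Nat) (Atab_s_1417_1420 c) (Atab_s_1420_1424 c) (Nat.ble 1420 c)
noncomputable def Atab_s_1410_1424 (c : Nat) : Nat := @Bool.rec (fun _ => Nat) (Atab_s_1410_1417 c) (Atab_s_1417_1424 c) (Nat.ble 1417 c)
noncomputable def Atab_s_1425_1427 (c : Nat) : Nat := @Bool.rec (fun _ => Nat) (Atab_1425) (Atab_1426) (Nat.ble 1426 c)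
noncomputable def Atab_s_1424_1427 (c : Nat) : Nat := @Bool.rec (fun _ => Nat) (Atab_1424) (Atab_s_1425_1427 c) (Nat.ble 1425 c)
noncomputable def Atab_s_1427_1429 (c : Nat) : Nat := @Bool.rec (fun _ => Nat) (Atab_1427) (Atab_1428) (Nat.ble 1428 c)
noncomputable def Atab_s_1429_1431 (c : Nat) : Nat := @Bool.rec (fun _ => Nat) (Atab_1429) (Atab_1430) (Nat.ble 1430 c)
noncomputable def Atab_s_1427_1431 (c : Nat) : Nat := @Bool.rec (fun _ => Nat) (Atab_s_1427_1429 c) (Atab_s_1429_1431 c) (Nat.ble 1429 c)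
noncomputable def Atab_s_1424_1431 (c : Nat) : Nat := @Bool.rec (fun _ => Nat) (Atab_s_1424_1427 c) (Atab_s_1427_1431 c) (Nat.ble 1427 c)
noncomputable def Atab_s_1431_1433 (c : Nat) : Nat := @Bool.rec (fun _ => Nat) (Atab_1431) (Atab_1432) (Nat.ble 1432 c)
noncomputable def Atab_s_1433_1435 (c : Nat) : Nat := @Bool.rec (fun _ => Nat) (Atab_1433) (Atab_1434) (Nat.ble 1434 c)
noncomputable def Atab_s_1431_1435 (c : Nat) : Nat := @Bool.rec (fun _ => Nat) (Atab_s_1431_1433 c) (Atab_s_1433_1435 c) (Nat.ble 1433 c)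
noncomputable def Atab_s_1435_1437 (c : Nat) : Nat := @Bool.rec (fun _ => Nat) (Atab_1435) (Atab_1436) (Nat.ble 1436 c)
noncomputable def Atab_s_1437_1439 (c : Nat) : Nat := @Bool.rec (fun _ => Nat) (Atab_1437) (Atab_1438) (Nat.ble 1438 c)
noncomputable def Atab_s_1435_1439 (c : Nat) : Nat := @Bool.rec (fun _ => Nat) (Atab_s_1435_1437 c) (Atab_s_1437_1439 c) (Nat.ble 1437 c)
noncomputable def Atab_s_1431_1439 (c : Nat) : Nat := @Bool.rec (fun _ => Nat) (Atab_s_1431_1435 c) (Atab_s_1435_1439 c) (Nat.ble 1435 c)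
noncomputable def Atab_s_1424_1439 (c : Nat) : Nat := @Bool.rec (fun _ => Nat) (Atab_s_1424_1431 c) (Atab_s_1431_1439 c) (Nat.ble 1431 c)
noncomputable def Atab_s_1410_1439 (c : Nat) : Nat := @Bool.rec (fun _ => Nat) (Atab_s_1410_1424 c) (Atab_s_1424_1439 c) (Nat.ble 1424 c)
noncomputable def Atab_s_1382_1439 (c : Nat) : Nat := @Bool.rec (fun _ => Nat) (Atab_s_1382_1410 c) (Atab_s_1410_1439 c) (Nat.ble 1410 c)
noncomputable def Atab_s_1440_1442 (c : Nat) : Nat := @Bool.rec (fun _ => Nat) (Atab_1440) (Atab_1441) (Nat.ble 1441 c)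
noncomputable def Atab_s_1439_1442 (c : Nat) : Nat := @Bool.rec (fun _ => Nat) (Atab_1439) (Atab_s_1440_1442 c) (Nat.ble 1440 c)
noncomputable def Atab_s_1442_1444 (c : Nat) : Nat := @Bool.rec (fun _ => Nat) (Atab_1442) (Atab_1443) (Nat.ble 1443 c)
noncomputable def Atab_s_1444_1446 (c : Nat) : Nat := @Bool.rec (fun _ => Nat) (Atab_1444) (Atab_1445) (Nat.ble 1445 c)
noncomputable def Atab_s_1442_1446 (c : Nat) : Nat := @Bool.rec (fun _ => Nat) (Atab_s_1442_1444 c) (Atab_s_1444_1446 c) (Nat.ble 1444 c)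
noncomputable def Atab_s_1439_1446 (c : Nat) : Nat := @Bool.rec (fun _ => Nat) (Atab_s_1439_1442 c) (Atab_s_1442_1446 c) (Nat.ble 1442 c)
noncomputable def Atab_s_1447_1449 (c : Nat) : Nat := @Bool.rec (fun _ => Nat) (Atab_1447) (Atab_1448) (Nat.ble 1448 c)
noncomputable def Atab_s_1446_1449 (c : Nat) : Nat := @Bool.rec (fun _ => Nat) (Atab_1446) (Atab_s_1447_1449 c) (Nat.ble 1447 c)
noncomputable def Atab_s_1449_1451 (c : Nat) : Nat := @Bool.rec (fun _ => Nat) (Atab_1449) (Atab_1450) (Nat.ble 1450 c)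
noncomputable def Atab_s_1451_1453 (c : Nat) : Nat := @Bool.rec (fun _ => Nat) (Atab_1451) (Atab_1452) (Nat.ble 1452 c)
noncomputable def Atab_s_1449_1453 (c : Nat) : Nat := @Bool.rec (fun _ => Nat) (Atab_s_1449_1451 c) (Atab_s_1451_1453 c) (Nat.ble 1451 c)
noncomputable def Atab_s_1446_1453 (c : Nat) : Nat := @Bool.rec (fun _ => Nat) (Atab_s_1446_1449 c) (Atab_s_1449_1453 c) (Nat.ble 1449 c)
noncomputable def Atab_s_1439_1453 (c : Nat) : Nat := @Bool.rec (fun _ => Nat) (Atab_s_1439_1446 c) (Atab_s_1446_1453 c) (Nat.ble 1446 c)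
noncomputable def Atab_s_1454_1456 (c : Nat) : Nat := @Bool.rec (fun _ => Nat) (Atab_1454) (Atab_1455) (Nat.ble 1455 c)
noncomputable def Atab_s_1453_1456 (c : Nat) : Nat := @Bool.rec (fun _ => Nat) (Atab_1453) (Atab_s_1454_1456 c) (Nat.ble 1454 c)
noncomputable def Atab_s_1456_1458 (c : Nat) : Nat := @Bool.rec (fun _ => Nat) (Atab_1456) (Atab_1457) (Nat.ble 1457 c)
noncomputable def Atab_s_1458_1460 (c : Nat) : Nat := @Bool.rec (fun _ => Nat) (Atab_1458) (Atab_1459) (Nat.ble 1459 c)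
noncomputable def Atab_s_1456_1460 (c : Nat) : Nat := @Bool.rec (fun _ => Nat) (Atab_s_1456_1458 c) (Atab_s_1458_1460 c) (Nat.ble 1458 c)
noncomputable def Atab_s_1453_1460 (c : Nat) : Nat := @Bool.rec (fun _ => Nat) (Atab_s_1453_1456 c) (Atab_s_1456_1460 c) (Nat.ble 1456 c)
noncomputable def Atab_s_1460_1462 (c : Nat) : Nat := @Bool.rec (fun _ => Nat) (Atab_1460) (Atab_1461) (Nat.ble 1461 c)
noncomputable def Atab_s_1462_1464 (c : Nat) : Nat := @Bool.rec (fun _ => Nat) (Atab_1462) (Atab_1463) (Nat.ble 1463 c)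
noncomputable def Atab_s_1460_1464 (c : Nat) : Nat := @Bool.rec (fun _ => Nat) (Atab_s_1460_1462 c) (Atab_s_1462_1464 c) (Nat.ble 1462 c)
noncomputable def Atab_s_1464_1466 (c : Nat) : Nat := @Bool.rec (fun _ => Nat) (Atab_1464) (Atab_1465) (Nat.ble 1465 c)
noncomputable def Atab_s_1466_1468 (c : Nat) : Nat := @Bool.rec (fun _ => Nat) (Atab_1466) (Atab_1467) (Nat.ble 1467 c)
noncomputable def Atab_s_1464_1468 (c : Nat) : Nat := @Bool.rec (fun _ => Nat) (Atab_s_1464_1466 c) (Atab_s_1466_1468 c) (Nat.ble 1466 c)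
noncomputable def Atab_s_1460_1468 (c : Nat) : Nat := @Bool.rec (fun _ => Nat) (Atab_s_1460_1464 c) (Atab_s_1464_1468 c) (Nat.ble 1464 c)
noncomputable def Atab_s_1453_1468 (c : Nat) : Nat := @Bool.rec (fun _ => Nat) (Atab_s_1453_1460 c) (Atab_s_1460_1468 c) (Nat.ble 1460 c)
noncomputable def Atab_s_1439_1468 (c : Nat) : Nat := @Bool.rec (fun _ => Nat) (Atab_s_1439_1453 c) (Atab_s_1453_1468 c) (Nat.ble 1453 c)
noncomputable def Atab_s_1469_1471 (c : Nat) : Nat := @Bool.rec (fun _ => Nat) (Atab_1469) (Atab_1470) (Nat.ble 1470 c)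
noncomputable def Atab_s_1468_1471 (c : Nat) : Nat := @Bool.rec (fun _ => Nat) (Atab_1468) (Atab_s_1469_1471 c) (Nat.ble 1469 c)
noncomputable def Atab_s_1471_1473 (c : Nat) : Nat := @Bool.rec (fun _ => Nat) (Atab_1471) (Atab_1472) (Nat.ble 1472 c)
noncomputable def Atab_s_1473_1475 (c : Nat) : Nat := @Bool.rec (fun _ => Nat) (Atab_1473) (Atab_1474) (Nat.ble 1474 c)
noncomputable def Atab_s_1471_1475 (c : Nat) : Nat := @Bool.rec (fun _ => Nat) (Atab_s_1471_1473 c) (Atab_s_1473_1475 c) (Nat.ble 1473 c)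
noncomputable def Atab_s_1468_1475 (c : Nat) : Nat := @Bool.rec (fun _ => Nat) (Atab_s_1468_1471 c) (Atab_s_1471_1475 c) (Nat.ble 1471 c)
noncomputable def Atab_s_1476_1478 (c : Nat) : Nat := @Bool.rec (fun _ => Nat) (Atab_1476) (Atab_1477) (Nat.ble 1477 c)
noncomputable def Atab_s_1475_1478 (c : Nat) : Nat := @Bool.rec (fun _ => Nat) (Atab_1475) (Atab_s_1476_1478 c) (Nat.ble 1476 c)
noncomputable def Atab_s_1478_1480 (c : Nat) : Nat := @Bool.rec (fun _ => Nat) (Atab_1478) (Atab_1479) (Nat.ble 1479 c)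
noncomputable def Atab_s_1480_1482 (c : Nat) : Nat := @Bool.rec (fun _ => Nat) (Atab_1480) (Atab_1481) (Nat.ble 1481 c)
noncomputable def Atab_s_1478_1482 (c : Nat) : Nat := @Bool.rec (fun _ => Nat) (Atab_s_1478_1480 c) (Atab_s_1480_1482 c) (Nat.ble 1480 c)
noncomputable def Atab_s_1475_1482 (c : Nat) : Nat := @Bool.rec (fun _ => Nat) (Atab_s_1475_1478 c) (Atab_s_1478_1482 c) (Nat.ble 1478 c)
noncomputable def Atab_s_1468_1482 (c : Nat) : Nat := @Bool.rec (fun _ => Nat) (Atab_s_1468_1475 c) (Atab_s_1475_1482 c) (Nat.ble 1475 c)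
noncomputable def Atab_s_1483_1485 (c : Nat) : Nat := @Bool.rec (fun _ => Nat) (Atab_1483) (Atab_1484) (Nat.ble 1484 c)
noncomputable def Atab_s_1482_1485 (c : Nat) : Nat := @Bool.rec (fun _ => Nat) (Atab_1482) (Atab_s_1483_1485 c) (Nat.ble 1483 c)
noncomputable def Atab_s_1485_1487 (c : Nat) : Nat := @Bool.rec (fun _ => Nat) (Atab_1485) (Atab_1486) (Nat.ble 1486 c)
noncomputable def Atab_s_1487_1489 (c : Nat) : Nat := @Bool.rec (fun _ => Nat) (Atab_1487) (Atab_1488) (Nat.ble 1488 c)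
noncomputable def Atab_s_1485_1489 (c : Nat) : Nat := @Bool.rec (fun _ => Nat) (Atab_s_1485_1487 c) (Atab_s_1487_1489 c) (Nat.ble 1487 c)
noncomputable def Atab_s_1482_1489 (c : Nat) : Nat := @Bool.rec (fun _ => Nat) (Atab_s_1482_1485 c) (Atab_s_1485_1489 c) (Nat.ble 1485 c)
noncomputable def Atab_s_1489_1491 (c : Nat) : Nat := @Bool.rec (fun _ => Nat) (Atab_1489) (Atab_1490) (Nat.ble 1490 c)
noncomputable def Atab_s_1491_1493 (c : Nat) : Nat := @Bool.rec (fun _ => Nat) (Atab_1491) (Atab_1492) (Nat.ble 1492 c)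
noncomputable def Atab_s_1489_1493 (c : Nat) : Nat := @Bool.rec (fun _ => Nat) (Atab_s_1489_1491 c) (Atab_s_1491_1493 c) (Nat.ble 1491 c)
noncomputable def Atab_s_1493_1495 (c : Nat) : Nat := @Bool.rec (fun _ => Nat) (Atab_1493) (Atab_1494) (Nat.ble 1494 c)
noncomputable def Atab_s_1495_1497 (c : Nat) : Nat := @Bool.rec (fun _ => Nat) (Atab_1495) (Atab_1496) (Nat.ble 1496 c)
noncomputable def Atab_s_1493_1497 (c : Nat) : Nat := @Bool.rec (fun _ => Nat) (Atab_s_1493_1495 c) (Atab_s_1495_1497 c) (Nat.ble 1495 c)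
noncomputable def Atab_s_1489_1497 (c : Nat) : Nat := @Bool.rec (fun _ => Nat) (Atab_s_1489_1493 c) (Atab_s_1493_1497 c) (Nat.ble 1493 c)
noncomputable def Atab_s_1482_1497 (c : Nat) : Nat := @Bool.rec (fun _ => Nat) (Atab_s_1482_1489 c) (Atab_s_1489_1497 c) (Nat.ble 1489 c)
noncomputable def Atab_s_1468_1497 (c : Nat) : Nat := @Bool.rec (fun _ => Nat) (Atab_s_1468_1482 c) (Atab_s_1482_1497 c) (Nat.ble 1482 c)
noncomputable def Atab_s_1439_1497 (c : Nat) : Nat := @Bool.rec (fun _ => Nat) (Atab_s_1439_1468 c) (Atab_s_1468_1497 c) (Nat.ble 1468 c)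
noncomputable def Atab_s_1382_1497 (c : Nat) : Nat := @Bool.rec (fun _ => Nat) (Atab_s_1382_1439 c) (Atab_s_1439_1497 c) (Nat.ble 1439 c)
noncomputable def Atab_s_1498_1500 (c : Nat) : Nat := @Bool.rec (fun _ => Nat) (Atab_1498) (Atab_1499) (Nat.ble 1499 c)
noncomputable def Atab_s_1497_1500 (c : Nat) : Nat := @Bool.rec (fun _ => Nat) (Atab_1497) (Atab_s_1498_1500 c) (Nat.ble 1498 c)
noncomputable def Atab_s_1500_1502 (c : Nat) : Nat := @Bool.rec (fun _ => Nat) (Atab_1500) (Atab_1501) (Nat.ble 1501 c)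
noncomputable def Atab_s_1502_1504 (c : Nat) : Nat := @Bool.rec (fun _ => Nat) (Atab_1502) (Atab_1503) (Nat.ble 1503 c)
noncomputable def Atab_s_1500_1504 (c : Nat) : Nat := @Bool.rec (fun _ => Nat) (Atab_s_1500_1502 c) (Atab_s_1502_1504 c) (Nat.ble 1502 c)
noncomputable def Atab_s_1497_1504 (c : Nat) : Nat := @Bool.rec (fun _ => Nat) (Atab_s_1497_1500 c) (Atab_s_1500_1504 c) (Nat.ble 1500 c)
noncomputable def Atab_s_1505_1507 (c : Nat) : Nat := @Bool.rec (fun _ => Nat) (Atab_1505) (Atab_1506) (Nat.ble 1506 c)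
noncomputable def Atab_s_1504_1507 (c : Nat) : Nat := @Bool.rec (fun _ => Nat) (Atab_1504) (Atab_s_1505_1507 c) (Nat.ble 1505 c)
noncomputable def Atab_s_1507_1509 (c : Nat) : Nat := @Bool.rec (fun _ => Nat) (Atab_1507) (Atab_1508) (Nat.ble 1508 c)
noncomputable def Atab_s_1509_1511 (c : Nat) : Nat := @Bool.rec (fun _ => Nat) (Atab_1509) (Atab_1510) (Nat.ble 1510 c)
noncomputable def Atab_s_1507_1511 (c : Nat) : Nat := @Bool.rec (fun _ => Nat) (Atab_s_1507_1509 c) (Atab_s_1509_1511 c) (Nat.ble 1509 c)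
noncomputable def Atab_s_1504_1511 (c : Nat) : Nat := @Bool.rec (fun _ => Nat) (Atab_s_1504_1507 c) (Atab_s_1507_1511 c) (Nat.ble 1507 c)
noncomputable def Atab_s_1497_1511 (c : Nat) : Nat := @Bool.rec (fun _ => Nat) (Atab_s_1497_1504 c) (Atab_s_1504_1511 c) (Nat.ble 1504 c)
noncomputable def Atab_s_1512_1514 (c : Nat) : Nat := @Bool.rec (fun _ => Nat) (Atab_1512) (Atab_1513) (Nat.ble 1513 c)
noncomputable def Atab_s_1511_1514 (c : Nat) : Nat := @Bool.rec (fun _ => Nat) (Atab_1511) (Atab_s_1512_1514 c) (Nat.ble 1512 c)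
noncomputable def Atab_s_1514_1516 (c : Nat) : Nat := @Bool.rec (fun _ => Nat) (Atab_1514) (Atab_1515) (Nat.ble 1515 c)
noncomputable def Atab_s_1516_1518 (c : Nat) : Nat := @Bool.rec (fun _ => Nat) (Atab_1516) (Atab_1517) (Nat.ble 1517 c)
noncomputable def Atab_s_1514_1518 (c : Nat) : Nat := @Bool.rec (fun _ => Nat) (Atab_s_1514_1516 c) (Atab_s_1516_1518 c) (Nat.ble 1516 c)
noncomputable def Atab_s_1511_1518 (c : Nat) : Nat := @Bool.rec (fun _ => Nat) (Atab_s_1511_1514 c) (Atab_s_1514_1518 c) (Nat.ble 1514 c)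
noncomputable def Atab_s_1519_1521 (c : Nat) : Nat := @Bool.rec (fun _ => Nat) (Atab_1519) (Atab_1520) (Nat.ble 1520 c)
noncomputable def Atab_s_1518_1521 (c : Nat) : Nat := @Bool.rec (fun _ => Nat) (Atab_1518) (Atab_s_1519_1521 c) (Nat.ble 1519 c)
noncomputable def Atab_s_1521_1523 (c : Nat) : Nat := @Bool.rec (fun _ => Nat) (Atab_1521) (Atab_1522) (Nat.ble 1522 c)
noncomputable def Atab_s_1523_1525 (c : Nat) : Nat := @Bool.rec (fun _ => Nat) (Atab_1523) (Atab_1524) (Nat.ble 1524 c)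
noncomputable def Atab_s_1521_1525 (c : Nat) : Nat := @Bool.rec (fun _ => Nat) (Atab_s_1521_1523 c) (Atab_s_1523_1525 c) (Nat.ble 1523 c)
noncomputable def Atab_s_1518_1525 (c : Nat) : Nat := @Bool.rec (fun _ => Nat) (Atab_s_1518_1521 c) (Atab_s_1521_1525 c) (Nat.ble 1521 c)
noncomputable def Atab_s_1511_1525 (c : Nat) : Nat := @Bool.rec (fun _ => Nat) (Atab_s_1511_1518 c) (Atab_s_1518_1525 c) (Nat.ble 1518 c)
noncomputable def Atab_s_1497_1525 (c : Nat) : Nat := @Bool.rec (fun _ => Nat) (Atab_s_1497_1511 c) (Atab_s_1511_1525 c) (Nat.ble 1511 c)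
noncomputable def Atab_s_1526_1528 (c : Nat) : Nat := @Bool.rec (fun _ => Nat) (Atab_1526) (Atab_1527) (Nat.ble 1527 c)
noncomputable def Atab_s_1525_1528 (c : Nat) : Nat := @Bool.rec (fun _ => Nat) (Atab_1525) (Atab_s_1526_1528 c) (Nat.ble 1526 c)
noncomputable def Atab_s_1528_1530 (c : Nat) : Nat := @Bool.rec (fun _ => Nat) (Atab_1528) (Atab_1529) (Nat.ble 1529 c)
noncomputable def Atab_s_1530_1532 (c : Nat) : Nat := @Bool.rec (fun _ => Nat) (Atab_1530) (Atab_1531) (Nat.ble 1531 c)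
noncomputable def Atab_s_1528_1532 (c : Nat) : Nat := @Bool.rec (fun _ => Nat) (Atab_s_1528_1530 c) (Atab_s_1530_1532 c) (Nat.ble 1530 c)
noncomputable def Atab_s_1525_1532 (c : Nat) : Nat := @Bool.rec (fun _ => Nat) (Atab_s_1525_1528 c) (Atab_s_1528_1532 c) (Nat.ble 1528 c)
noncomputable def Atab_s_1533_1535 (c : Nat) : Nat := @Bool.rec (fun _ => Nat) (Atab_1533) (Atab_1534) (Nat.ble 1534 c)
noncomputable def Atab_s_1532_1535 (c : Nat) : Nat := @Bool.rec (fun _ => Nat) (Atab_1532) (Atab_s_1533_1535 c) (Nat.ble 1533 c)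
noncomputable def Atab_s_1535_1537 (c : Nat) : Nat := @Bool.rec (fun _ => Nat) (Atab_1535) (Atab_1536) (Nat.ble 1536 c)
noncomputable def Atab_s_1537_1539 (c : Nat) : Nat := @Bool.rec (fun _ => Nat) (Atab_1537) (Atab_1538) (Nat.ble 1538 c)
noncomputable def Atab_s_1535_1539 (c : Nat) : Nat := @Bool.rec (fun _ => Nat) (Atab_s_1535_1537 c) (Atab_s_1537_1539 c) (Nat.ble 1537 c)
noncomputable def Atab_s_1532_1539 (c : Nat) : Nat := @Bool.rec (fun _ => Nat) (Atab_s_1532_1535 c) (Atab_s_1535_1539 c) (Nat.ble 1535 c)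
noncomputable def Atab_s_1525_1539 (c : Nat) : Nat := @Bool.rec (fun _ => Nat) (Atab_s_1525_1532 c) (Atab_s_1532_1539 c) (Nat.ble 1532 c)
noncomputable def Atab_s_1540_1542 (c : Nat) : Nat := @Bool.rec (fun _ => Nat) (Atab_1540) (Atab_1541) (Nat.ble 1541 c)
noncomputable def Atab_s_1539_1542 (c : Nat) : Nat := @Bool.rec (fun _ => Nat) (Atab_1539) (Atab_s_1540_1542 c) (Nat.ble 1540 c)
noncomputable def Atab_s_1542_1544 (c : Nat) : Nat := @Bool.rec (fun _ => Nat) (Atab_1542) (Atab_1543) (Nat.ble 1543 c)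
noncomputable def Atab_s_1544_1546 (c : Nat) : Nat := @Bool.rec (fun _ => Nat) (Atab_1544) (Atab_1545) (Nat.ble 1545 c)
noncomputable def Atab_s_1542_1546 (c : Nat) : Nat := @Bool.rec (fun _ => Nat) (Atab_s_1542_1544 c) (Atab_s_1544_1546 c) (Nat.ble 1544 c)
noncomputable def Atab_s_1539_1546 (c : Nat) : Nat := @Bool.rec (fun _ => Nat) (Atab_s_1539_1542 c) (Atab_s_1542_1546 c) (Nat.ble 1542 c)
noncomputable def Atab_s_1546_1548 (c : Nat) : Nat := @Bool.rec (fun _ => Nat) (Atab_1546) (Atab_1547) (Nat.ble 1547 c)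
noncomputable def Atab_s_1548_1550 (c : Nat) : Nat := @Bool.rec (fun _ => Nat) (Atab_1548) (Atab_1549) (Nat.ble 1549 c)
noncomputable def Atab_s_1546_1550 (c : Nat) : Nat := @Bool.rec (fun _ => Nat) (Atab_s_1546_1548 c) (Atab_s_1548_1550 c) (Nat.ble 1548 c)
noncomputable def Atab_s_1550_1552 (c : Nat) : Nat := @Bool.rec (fun _ => Nat) (Atab_1550) (Atab_1551) (Nat.ble 1551 c)
noncomputable def Atab_s_1552_1554 (c : Nat) : Nat := @Bool.rec (fun _ => Nat) (Atab_1552) (Atab_1553) (Nat.ble 1553 c)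
noncomputable def Atab_s_1550_1554 (c : Nat) : Nat := @Bool.rec (fun _ => Nat) (Atab_s_1550_1552 c) (Atab_s_1552_1554 c) (Nat.ble 1552 c)
noncomputable def Atab_s_1546_1554 (c : Nat) : Nat := @Bool.rec (fun _ => Nat) (Atab_s_1546_1550 c) (Atab_s_1550_1554 c) (Nat.ble 1550 c)
noncomputable def Atab_s_1539_1554 (c : Nat) : Nat := @Bool.rec (fun _ => Nat) (Atab_s_1539_1546 c) (Atab_s_1546_1554 c) (Nat.ble 1546 c)
noncomputable def Atab_s_1525_1554 (c : Nat) : Nat := @Bool.rec (fun _ => Nat) (Atab_s_1525_1539 c) (Atab_s_1539_1554 c) (Nat.ble 1539 c)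
noncomputable def Atab_s_1497_1554 (c : Nat) : Nat := @Bool.rec (fun _ => Nat) (Atab_s_1497_1525 c) (Atab_s_1525_1554 c) (Nat.ble 1525 c)
noncomputable def Atab_s_1555_1557 (c : Nat) : Nat := @Bool.rec (fun _ => Nat) (Atab_1555) (Atab_1556) (Nat.ble 1556 c)
noncomputable def Atab_s_1554_1557 (c : Nat) : Nat := @Bool.rec (fun _ => Nat) (Atab_1554) (Atab_s_1555_1557 c) (Nat.ble 1555 c)
noncomputable def Atab_s_1557_1559 (c : Nat) : Nat := @Bool.rec (fun _ => Nat) (Atab_1557) (Atab_1558) (Nat.ble 1558 c)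
noncomputable def Atab_s_1559_1561 (c : Nat) : Nat := @Bool.rec (fun _ => Nat) (Atab_1559) (Atab_1560) (Nat.ble 1560 c)
noncomputable def Atab_s_1557_1561 (c : Nat) : Nat := @Bool.rec (fun _ => Nat) (Atab_s_1557_1559 c) (Atab_s_1559_1561 c) (Nat.ble 1559 c)
noncomputable def Atab_s_1554_1561 (c : Nat) : Nat := @Bool.rec (fun _ => Nat) (Atab_s_1554_1557 c) (Atab_s_1557_1561 c) (Nat.ble 1557 c)
noncomputable def Atab_s_1562_1564 (c : Nat) : Nat := @Bool.rec (fun _ => Nat) (Atab_1562) (Atab_1563) (Nat.ble 1563 c)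
noncomputable def Atab_s_1561_1564 (c : Nat) : Nat := @Bool.rec (fun _ => Nat) (Atab_1561) (Atab_s_1562_1564 c) (Nat.ble 1562 c)
noncomputable def Atab_s_1564_1566 (c : Nat) : Nat := @Bool.rec (fun _ => Nat) (Atab_1564) (Atab_1565) (Nat.ble 1565 c)
noncomputable def Atab_s_1566_1568 (c : Nat) : Nat := @Bool.rec (fun _ => Nat) (Atab_1566) (Atab_1567) (Nat.ble 1567 c)
noncomputable def Atab_s_1564_1568 (c : Nat) : Nat := @Bool.rec (fun _ => Nat) (Atab_s_1564_1566 c) (Atab_s_1566_1568 c) (Nat.ble 1566 c)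
noncomputable def Atab_s_1561_1568 (c : Nat) : Nat := @Bool.rec (fun _ => Nat) (Atab_s_1561_1564 c) (Atab_s_1564_1568 c) (Nat.ble 1564 c)
noncomputable def Atab_s_1554_1568 (c : Nat) : Nat := @Bool.rec (fun _ => Nat) (Atab_s_1554_1561 c) (Atab_s_1561_1568 c) (Nat.ble 1561 c)
noncomputable def Atab_s_1569_1571 (c : Nat) : Nat := @Bool.rec (fun _ => Nat) (Atab_1569) (Atab_1570) (Nat.ble 1570 c)
noncomputable def Atab_s_1568_1571 (c : Nat) : Nat := @Bool.rec (fun _ => Nat) (Atab_1568) (Atab_s_1569_1571 c) (Nat.ble 1569 c)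
noncomputable def Atab_s_1571_1573 (c : Nat) : Nat := @Bool.rec (fun _ => Nat) (Atab_1571) (Atab_1572) (Nat.ble 1572 c)
noncomputable def Atab_s_1573_1575 (c : Nat) : Nat := @Bool.rec (fun _ => Nat) (Atab_1573) (Atab_1574) (Nat.ble 1574 c)
noncomputable def Atab_s_1571_1575 (c : Nat) : Nat := @Bool.rec (fun _ => Nat) (Atab_s_1571_1573 c) (Atab_s_1573_1575 c) (Nat.ble 1573 c)
noncomputable def Atab_s_1568_1575 (c : Nat) : Nat := @Bool.rec (fun _ => Nat) (Atab_s_1568_1571 c) (Atab_s_1571_1575 c) (Nat.ble 1571 c)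
noncomputable def Atab_s_1575_1577 (c : Nat) : Nat := @Bool.rec (fun _ => Nat) (Atab_1575) (Atab_1576) (Nat.ble 1576 c)
noncomputable def Atab_s_1577_1579 (c : Nat) : Nat := @Bool.rec (fun _ => Nat) (Atab_1577) (Atab_1578) (Nat.ble 1578 c)
noncomputable def Atab_s_1575_1579 (c : Nat) : Nat := @Bool.rec (fun _ => Nat) (Atab_s_1575_1577 c) (Atab_s_1577_1579 c) (Nat.ble 1577 c)
noncomputable def Atab_s_1579_1581 (c : Nat) : Nat := @Bool.rec (fun _ => Nat) (Atab_1579) (Atab_1580) (Nat.ble 1580 c)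
noncomputable def Atab_s_1581_1583 (c : Nat) : Nat := @Bool.rec (fun _ => Nat) (Atab_1581) (Atab_1582) (Nat.ble 1582 c)
noncomputable def Atab_s_1579_1583 (c : Nat) : Nat := @Bool.rec (fun _ => Nat) (Atab_s_1579_1581 c) (Atab_s_1581_1583 c) (Nat.ble 1581 c)
noncomputable def Atab_s_1575_1583 (c : Nat) : Nat := @Bool.rec (fun _ => Nat) (Atab_s_1575_1579 c) (Atab_s_1579_1583 c) (Nat.ble 1579 c)
noncomputable def Atab_s_1568_1583 (c : Nat) : Nat := @Bool.rec (fun _ => Nat) (Atab_s_1568_1575 c) (Atab_s_1575_1583 c) (Nat.ble 1575 c)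
noncomputable def Atab_s_1554_1583 (c : Nat) : Nat := @Bool.rec (fun _ => Nat) (Atab_s_1554_1568 c) (Atab_s_1568_1583 c) (Nat.ble 1568 c)
noncomputable def Atab_s_1584_1586 (c : Nat) : Nat := @Bool.rec (fun _ => Nat) (Atab_1584) (Atab_1585) (Nat.ble 1585 c)
noncomputable def Atab_s_1583_1586 (c : Nat) : Nat := @Bool.rec (fun _ => Nat) (Atab_1583) (Atab_s_1584_1586 c) (Nat.ble 1584 c)
noncomputable def Atab_s_1586_1588 (c : Nat) : Nat := @Bool.rec (fun _ => Nat) (Atab_1586) (Atab_1587) (Nat.ble 1587 c)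
noncomputable def Atab_s_1588_1590 (c : Nat) : Nat := @Bool.rec (fun _ => Nat) (Atab_1588) (Atab_1589) (Nat.ble 1589 c)
noncomputable def Atab_s_1586_1590 (c : Nat) : Nat := @Bool.rec (fun _ => Nat) (Atab_s_1586_1588 c) (Atab_s_1588_1590 c) (Nat.ble 1588 c)
noncomputable def Atab_s_1583_1590 (c : Nat) : Nat := @Bool.rec (fun _ => Nat) (Atab_s_1583_1586 c) (Atab_s_1586_1590 c) (Nat.ble 1586 c)
noncomputable def Atab_s_1591_1593 (c : Nat) : Nat := @Bool.rec (fun _ => Nat) (Atab_1591) (Atab_1592) (Nat.ble 1592 c)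
noncomputable def Atab_s_1590_1593 (c : Nat) : Nat := @Bool.rec (fun _ => Nat) (Atab_1590) (Atab_s_1591_1593 c) (Nat.ble 1591 c)
noncomputable def Atab_s_1593_1595 (c : Nat) : Nat := @Bool.rec (fun _ => Nat) (Atab_1593) (Atab_1594) (Nat.ble 1594 c)
noncomputable def Atab_s_1595_1597 (c : Nat) : Nat := @Bool.rec (fun _ => Nat) (Atab_1595) (Atab_1596) (Nat.ble 1596 c)
noncomputable def Atab_s_1593_1597 (c : Nat) : Nat := @Bool.rec (fun _ => Nat) (Atab_s_1593_1595 c) (Atab_s_1595_1597 c) (Nat.ble 1595 c)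
noncomputable def Atab_s_1590_1597 (c : Nat) : Nat := @Bool.rec (fun _ => Nat) (Atab_s_1590_1593 c) (Atab_s_1593_1597 c) (Nat.ble 1593 c)
noncomputable def Atab_s_1583_1597 (c : Nat) : Nat := @Bool.rec (fun _ => Nat) (Atab_s_1583_1590 c) (Atab_s_1590_1597 c) (Nat.ble 1590 c)
noncomputable def Atab_s_1598_1600 (c : Nat) : Nat := @Bool.rec (fun _ => Nat) (Atab_1598) (Atab_1599) (Nat.ble 1599 c)
noncomputable def Atab_s_1597_1600 (c : Nat) : Nat := @Bool.rec (fun _ => Nat) (Atab_1597) (Atab_s_1598_1600 c) (Nat.ble 1598 c)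
noncomputable def Atab_s_1600_1602 (c : Nat) : Nat := @Bool.rec (fun _ => Nat) (Atab_1600) (Atab_1601) (Nat.ble 1601 c)
noncomputable def Atab_s_1602_1604 (c : Nat) : Nat := @Bool.rec (fun _ => Nat) (Atab_1602) (Atab_1603) (Nat.ble 1603 c)
noncomputable def Atab_s_1600_1604 (c : Nat) : Nat := @Bool.rec (fun _ => Nat) (Atab_s_1600_1602 c) (Atab_s_1602_1604 c) (Nat.ble 1602 c)
noncomputable def Atab_s_1597_1604 (c : Nat) : Nat := @Bool.rec (fun _ => Nat) (Atab_s_1597_1600 c) (Atab_s_1600_1604 c) (Nat.ble 1600 c)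
noncomputable def Atab_s_1604_1606 (c : Nat) : Nat := @Bool.rec (fun _ => Nat) (Atab_1604) (Atab_1605) (Nat.ble 1605 c)
noncomputable def Atab_s_1606_1608 (c : Nat) : Nat := @Bool.rec (fun _ => Nat) (Atab_1606) (Atab_1607) (Nat.ble 1607 c)
noncomputable def Atab_s_1604_1608 (c : Nat) : Nat := @Bool.rec (fun _ => Nat) (Atab_s_1604_1606 c) (Atab_s_1606_1608 c) (Nat.ble 1606 c)
noncomputable def Atab_s_1608_1610 (c : Nat) : Nat := @Bool.rec (fun _ => Nat) (Atab_1608) (Atab_1609) (Nat.ble 1609 c)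
noncomputable def Atab_s_1610_1612 (c : Nat) : Nat := @Bool.rec (fun _ => Nat) (Atab_1610) (Atab_1611) (Nat.ble 1611 c)
noncomputable def Atab_s_1608_1612 (c : Nat) : Nat := @Bool.rec (fun _ => Nat) (Atab_s_1608_1610 c) (Atab_s_1610_1612 c) (Nat.ble 1610 c)
noncomputable def Atab_s_1604_1612 (c : Nat) : Nat := @Bool.rec (fun _ => Nat) (Atab_s_1604_1608 c) (Atab_s_1608_1612 c) (Nat.ble 1608 c)
noncomputable def Atab_s_1597_1612 (c : Nat) : Nat := @Bool.rec (fun _ => Nat) (Atab_s_1597_1604 c) (Atab_s_1604_1612 c) (Nat.ble 1604 c)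
noncomputable def Atab_s_1583_1612 (c : Nat) : Nat := @Bool.rec (fun _ => Nat) (Atab_s_1583_1597 c) (Atab_s_1597_1612 c) (Nat.ble 1597 c)
noncomputable def Atab_s_1554_1612 (c : Nat) : Nat := @Bool.rec (fun _ => Nat) (Atab_s_1554_1583 c) (Atab_s_1583_1612 c) (Nat.ble 1583 c)
noncomputable def Atab_s_1497_1612 (c : Nat) : Nat := @Bool.rec (fun _ => Nat) (Atab_s_1497_1554 c) (Atab_s_1554_1612 c) (Nat.ble 1554 c)
noncomputable def Atab_s_1382_1612 (c : Nat) : Nat := @Bool.rec (fun _ => Nat) (Atab_s_1382_1497 c) (Atab_s_1497_1612 c) (Nat.ble 1497 c)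
noncomputable def Atab_s_1613_1615 (c : Nat) : Nat := @Bool.rec (fun _ => Nat) (Atab_1613) (Atab_1614) (Nat.ble 1614 c)
noncomputable def Atab_s_1612_1615 (c : Nat) : Nat := @Bool.rec (fun _ => Nat) (Atab_1612) (Atab_s_1613_1615 c) (Nat.ble 1613 c)
noncomputable def Atab_s_1615_1617 (c : Nat) : Nat := @Bool.rec (fun _ => Nat) (Atab_1615) (Atab_1616) (Nat.ble 1616 c)
noncomputable def Atab_s_1617_1619 (c : Nat) : Nat := @Bool.rec (fun _ => Nat) (Atab_1617) (Atab_1618) (Nat.ble 1618 c)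
noncomputable def Atab_s_1615_1619 (c : Nat) : Nat := @Bool.rec (fun _ => Nat) (Atab_s_1615_1617 c) (Atab_s_1617_1619 c) (Nat.ble 1617 c)
noncomputable def Atab_s_1612_1619 (c : Nat) : Nat := @Bool.rec (fun _ => Nat) (Atab_s_1612_1615 c) (Atab_s_1615_1619 c) (Nat.ble 1615 c)
noncomputable def Atab_s_1620_1622 (c : Nat) : Nat := @Bool.rec (fun _ => Nat) (Atab_1620) (Atab_1621) (Nat.ble 1621 c)
noncomputable def Atab_s_1619_1622 (c : Nat) : Nat := @Bool.rec (fun _ => Nat) (Atab_1619) (Atab_s_1620_1622 c) (Nat.ble 1620 c)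
noncomputable def Atab_s_1622_1624 (c : Nat) : Nat := @Bool.rec (fun _ => Nat) (Atab_1622) (Atab_1623) (Nat.ble 1623 c)
noncomputable def Atab_s_1624_1626 (c : Nat) : Nat := @Bool.rec (fun _ => Nat) (Atab_1624) (Atab_1625) (Nat.ble 1625 c)
noncomputable def Atab_s_1622_1626 (c : Nat) : Nat := @Bool.rec (fun _ => Nat) (Atab_s_1622_1624 c) (Atab_s_1624_1626 c) (Nat.ble 1624 c)
noncomputable def Atab_s_1619_1626 (c : Nat) : Nat := @Bool.rec (fun _ => Nat) (Atab_s_1619_1622 c) (Atab_s_1622_1626 c) (Nat.ble 1622 c)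
noncomputable def Atab_s_1612_1626 (c : Nat) : Nat := @Bool.rec (fun _ => Nat) (Atab_s_1612_1619 c) (Atab_s_1619_1626 c) (Nat.ble 1619 c)
noncomputable def Atab_s_1627_1629 (c : Nat) : Nat := @Bool.rec (fun _ => Nat) (Atab_1627) (Atab_1628) (Nat.ble 1628 c)
noncomputable def Atab_s_1626_1629 (c : Nat) : Nat := @Bool.rec (fun _ => Nat) (Atab_1626) (Atab_s_1627_1629 c) (Nat.ble 1627 c)
noncomputable def Atab_s_1629_1631 (c : Nat) : Nat := @Bool.rec (fun _ => Nat) (Atab_1629) (Atab_1630) (Nat.ble 1630 c)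
noncomputable def Atab_s_1631_1633 (c : Nat) : Nat := @Bool.rec (fun _ => Nat) (Atab_1631) (Atab_1632) (Nat.ble 1632 c)
noncomputable def Atab_s_1629_1633 (c : Nat) : Nat := @Bool.rec (fun _ => Nat) (Atab_s_1629_1631 c) (Atab_s_1631_1633 c) (Nat.ble 1631 c)
noncomputable def Atab_s_1626_1633 (c : Nat) : Nat := @Bool.rec (fun _ => Nat) (Atab_s_1626_1629 c) (Atab_s_1629_1633 c) (Nat.ble 1629 c)
noncomputable def Atab_s_1634_1636 (c : Nat) : Nat := @Bool.rec (fun _ => Nat) (Atab_1634) (Atab_1635) (Nat.ble 1635 c)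
noncomputable def Atab_s_1633_1636 (c : Nat) : Nat := @Bool.rec (fun _ => Nat) (Atab_1633) (Atab_s_1634_1636 c) (Nat.ble 1634 c)
noncomputable def Atab_s_1636_1638 (c : Nat) : Nat := @Bool.rec (fun _ => Nat) (Atab_1636) (Atab_1637) (Nat.ble 1637 c)
noncomputable def Atab_s_1638_1640 (c : Nat) : Nat := @Bool.rec (fun _ => Nat) (Atab_1638) (Atab_1639) (Nat.ble 1639 c)
noncomputable def Atab_s_1636_1640 (c : Nat) : Nat := @Bool.rec (fun _ => Nat) (Atab_s_1636_1638 c) (Atab_s_1638_1640 c) (Nat.ble 1638 c)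
noncomputable def Atab_s_1633_1640 (c : Nat) : Nat := @Bool.rec (fun _ => Nat) (Atab_s_1633_1636 c) (Atab_s_1636_1640 c) (Nat.ble 1636 c)
noncomputable def Atab_s_1626_1640 (c : Nat) : Nat := @Bool.rec (fun _ => Nat) (Atab_s_1626_1633 c) (Atab_s_1633_1640 c) (Nat.ble 1633 c)
noncomputable def Atab_s_1612_1640 (c : Nat) : Nat := @Bool.rec (fun _ => Nat) (Atab_s_1612_1626 c) (Atab_s_1626_1640 c) (Nat.ble 1626 c)
noncomputable def Atab_s_1641_1643 (c : Nat) : Nat := @Bool.rec (fun _ => Nat) (Atab_1641) (Atab_1642) (Nat.ble 1642 c)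
noncomputable def Atab_s_1640_1643 (c : Nat) : Nat := @Bool.rec (fun _ => Nat) (Atab_1640) (Atab_s_1641_1643 c) (Nat.ble 1641 c)
noncomputable def Atab_s_1643_1645 (c : Nat) : Nat := @Bool.rec (fun _ => Nat) (Atab_1643) (Atab_1644) (Nat.ble 1644 c)
noncomputable def Atab_s_1645_1647 (c : Nat) : Nat := @Bool.rec (fun _ => Nat) (Atab_1645) (Atab_1646) (Nat.ble 1646 c)
noncomputable def Atab_s_1643_1647 (c : Nat) : Nat := @Bool.rec (fun _ => Nat) (Atab_s_1643_1645 c) (Atab_s_1645_1647 c) (Nat.ble 1645 c)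
noncomputable def Atab_s_1640_1647 (c : Nat) : Nat := @Bool.rec (fun _ => Nat) (Atab_s_1640_1643 c) (Atab_s_1643_1647 c) (Nat.ble 1643 c)
noncomputable def Atab_s_1648_1650 (c : Nat) : Nat := @Bool.rec (fun _ => Nat) (Atab_1648) (Atab_1649) (Nat.ble 1649 c)
noncomputable def Atab_s_1647_1650 (c : Nat) : Nat := @Bool.rec (fun _ => Nat) (Atab_1647) (Atab_s_1648_1650 c) (Nat.ble 1648 c)
noncomputable def Atab_s_1650_1652 (c : Nat) : Nat := @Bool.rec (fun _ => Nat) (Atab_1650) (Atab_1651) (Nat.ble 1651 c)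
noncomputable def Atab_s_1652_1654 (c : Nat) : Nat := @Bool.rec (fun _ => Nat) (Atab_1652) (Atab_1653) (Nat.ble 1653 c)
noncomputable def Atab_s_1650_1654 (c : Nat) : Nat := @Bool.rec (fun _ => Nat) (Atab_s_1650_1652 c) (Atab_s_1652_1654 c) (Nat.ble 1652 c)
noncomputable def Atab_s_1647_1654 (c : Nat) : Nat := @Bool.rec (fun _ => Nat) (Atab_s_1647_1650 c) (Atab_s_1650_1654 c) (Nat.ble 1650 c)
noncomputable def Atab_s_1640_1654 (c : Nat) : Nat := @Bool.rec (fun _ => Nat) (Atab_s_1640_1647 c) (Atab_s_1647_1654 c) (Nat.ble 1647 c)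
noncomputable def Atab_s_1655_1657 (c : Nat) : Nat := @Bool.rec (fun _ => Nat) (Atab_1655) (Atab_1656) (Nat.ble 1656 c)
noncomputable def Atab_s_1654_1657 (c : Nat) : Nat := @Bool.rec (fun _ => Nat) (Atab_1654) (Atab_s_1655_1657 c) (Nat.ble 1655 c)
noncomputable def Atab_s_1657_1659 (c : Nat) : Nat := @Bool.rec (fun _ => Nat) (Atab_1657) (Atab_1658) (Nat.ble 1658 c)
noncomputable def Atab_s_1659_1661 (c : Nat) : Nat := @Bool.rec (fun _ => Nat) (Atab_1659) (Atab_1660) (Nat.ble 1660 c)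
noncomputable def Atab_s_1657_1661 (c : Nat) : Nat := @Bool.rec (fun _ => Nat) (Atab_s_1657_1659 c) (Atab_s_1659_1661 c) (Nat.ble 1659 c)
noncomputable def Atab_s_1654_1661 (c : Nat) : Nat := @Bool.rec (fun _ => Nat) (Atab_s_1654_1657 c) (Atab_s_1657_1661 c) (Nat.ble 1657 c)
noncomputable def Atab_s_1661_1663 (c : Nat) : Nat := @Bool.rec (fun _ => Nat) (Atab_1661) (Atab_1662) (Nat.ble 1662 c)
noncomputable def Atab_s_1663_1665 (c : Nat) : Nat := @Bool.rec (fun _ => Nat) (Atab_1663) (Atab_1664) (Nat.ble 1664 c)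
noncomputable def Atab_s_1661_1665 (c : Nat) : Nat := @Bool.rec (fun _ => Nat) (Atab_s_1661_1663 c) (Atab_s_1663_1665 c) (Nat.ble 1663 c)
noncomputable def Atab_s_1665_1667 (c : Nat) : Nat := @Bool.rec (fun _ => Nat) (Atab_1665) (Atab_1666) (Nat.ble 1666 c)
noncomputable def Atab_s_1667_1669 (c : Nat) : Nat := @Bool.rec (fun _ => Nat) (Atab_1667) (Atab_1668) (Nat.ble 1668 c)
noncomputable def Atab_s_1665_1669 (c : Nat) : Nat := @Bool.rec (fun _ => Nat) (Atab_s_1665_1667 c) (Atab_s_1667_1669 c) (Nat.ble 1667 c)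
noncomputable def Atab_s_1661_1669 (c : Nat) : Nat := @Bool.rec (fun _ => Nat) (Atab_s_1661_1665 c) (Atab_s_1665_1669 c) (Nat.ble 1665 c)
noncomputable def Atab_s_1654_1669 (c : Nat) : Nat := @Bool.rec (fun _ => Nat) (Atab_s_1654_1661 c) (Atab_s_1661_1669 c) (Nat.ble 1661 c)
noncomputable def Atab_s_1640_1669 (c : Nat) : Nat := @Bool.rec (fun _ => Nat) (Atab_s_1640_1654 c) (Atab_s_1654_1669 c) (Nat.ble 1654 c)
noncomputable def Atab_s_1612_1669 (c : Nat) : Nat := @Bool.rec (fun _ => Nat) (Atab_s_1612_1640 c) (Atab_s_1640_1669 c) (Nat.ble 1640 c)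
noncomputable def Atab_s_1670_1672 (c : Nat) : Nat := @Bool.rec (fun _ => Nat) (Atab_1670) (Atab_1671) (Nat.ble 1671 c)
noncomputable def Atab_s_1669_1672 (c : Nat) : Nat := @Bool.rec (fun _ => Nat) (Atab_1669) (Atab_s_1670_1672 c) (Nat.ble 1670 c)
noncomputable def Atab_s_1672_1674 (c : Nat) : Nat := @Bool.rec (fun _ => Nat) (Atab_1672) (Atab_1673) (Nat.ble 1673 c)
noncomputable def Atab_s_1674_1676 (c : Nat) : Nat := @Bool.rec (fun _ => Nat) (Atab_1674) (Atab_1675) (Nat.ble 1675 c)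
noncomputable def Atab_s_1672_1676 (c : Nat) : Nat := @Bool.rec (fun _ => Nat) (Atab_s_1672_1674 c) (Atab_s_1674_1676 c) (Nat.ble 1674 c)
noncomputable def Atab_s_1669_1676 (c : Nat) : Nat := @Bool.rec (fun _ => Nat) (Atab_s_1669_1672 c) (Atab_s_1672_1676 c) (Nat.ble 1672 c)
noncomputable def Atab_s_1677_1679 (c : Nat) : Nat := @Bool.rec (fun _ => Nat) (Atab_1677) (Atab_1678) (Nat.ble 1678 c)
noncomputable def Atab_s_1676_1679 (c : Nat) : Nat := @Bool.rec (fun _ => Nat) (Atab_1676) (Atab_s_1677_1679 c) (Nat.ble 1677 c)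
noncomputable def Atab_s_1679_1681 (c : Nat) : Nat := @Bool.rec (fun _ => Nat) (Atab_1679) (Atab_1680) (Nat.ble 1680 c)
noncomputable def Atab_s_1681_1683 (c : Nat) : Nat := @Bool.rec (fun _ => Nat) (Atab_1681) (Atab_1682) (Nat.ble 1682 c)
noncomputable def Atab_s_1679_1683 (c : Nat) : Nat := @Bool.rec (fun _ => Nat) (Atab_s_1679_1681 c) (Atab_s_1681_1683 c) (Nat.ble 1681 c)
noncomputable def Atab_s_1676_1683 (c : Nat) : Nat := @Bool.rec (fun _ => Nat) (Atab_s_1676_1679 c) (Atab_s_1679_1683 c) (Nat.ble 1679 c)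
noncomputable def Atab_s_1669_1683 (c : Nat) : Nat := @Bool.rec (fun _ => Nat) (Atab_s_1669_1676 c) (Atab_s_1676_1683 c) (Nat.ble 1676 c)
noncomputable def Atab_s_1684_1686 (c : Nat) : Nat := @Bool.rec (fun _ => Nat) (Atab_1684) (Atab_1685) (Nat.ble 1685 c)
noncomputable def Atab_s_1683_1686 (c : Nat) : Nat := @Bool.rec (fun _ => Nat) (Atab_1683) (Atab_s_1684_1686 c) (Nat.ble 1684 c)
noncomputable def Atab_s_1686_1688 (c : Nat) : Nat := @Bool.rec (fun _ => Nat) (Atab_1686) (Atab_1687) (Nat.ble 1687 c)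
noncomputable def Atab_s_1688_1690 (c : Nat) : Nat := @Bool.rec (fun _ => Nat) (Atab_1688) (Atab_1689) (Nat.ble 1689 c)
noncomputable def Atab_s_1686_1690 (c : Nat) : Nat := @Bool.rec (fun _ => Nat) (Atab_s_1686_1688 c) (Atab_s_1688_1690 c) (Nat.ble 1688 c)
noncomputable def Atab_s_1683_1690 (c : Nat) : Nat := @Bool.rec (fun _ => Nat) (Atab_s_1683_1686 c) (Atab_s_1686_1690 c) (Nat.ble 1686 c)
noncomputable def Atab_s_1690_1692 (c : Nat) : Nat := @Bool.rec (fun _ => Nat) (Atab_1690) (Atab_1691) (Nat.ble 1691 c)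
noncomputable def Atab_s_1692_1694 (c : Nat) : Nat := @Bool.rec (fun _ => Nat) (Atab_1692) (Atab_1693) (Nat.ble 1693 c)
noncomputable def Atab_s_1690_1694 (c : Nat) : Nat := @Bool.rec (fun _ => Nat) (Atab_s_1690_1692 c) (Atab_s_1692_1694 c) (Nat.ble 1692 c)
noncomputable def Atab_s_1694_1696 (c : Nat) : Nat := @Bool.rec (fun _ => Nat) (Atab_1694) (Atab_1695) (Nat.ble 1695 c)
noncomputable def Atab_s_1696_1698 (c : Nat) : Nat := @Bool.rec (fun _ => Nat) (Atab_1696) (Atab_1697) (Nat.ble 1697 c)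
noncomputable def Atab_s_1694_1698 (c : Nat) : Nat := @Bool.rec (fun _ => Nat) (Atab_s_1694_1696 c) (Atab_s_1696_1698 c) (Nat.ble 1696 c)
noncomputable def Atab_s_1690_1698 (c : Nat) : Nat := @Bool.rec (fun _ => Nat) (Atab_s_1690_1694 c) (Atab_s_1694_1698 c) (Nat.ble 1694 c)
noncomputable def Atab_s_1683_1698 (c : Nat) : Nat := @Bool.rec (fun _ => Nat) (Atab_s_1683_1690 c) (Atab_s_1690_1698 c) (Nat.ble 1690 c)
noncomputable def Atab_s_1669_1698 (c : Nat) : Nat := @Bool.rec (fun _ => Nat) (Atab_s_1669_1683 c) (Atab_s_1683_1698 c) (Nat.ble 1683 c)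
noncomputable def Atab_s_1699_1701 (c : Nat) : Nat := @Bool.rec (fun _ => Nat) (Atab_1699) (Atab_1700) (Nat.ble 1700 c)
noncomputable def Atab_s_1698_1701 (c : Nat) : Nat := @Bool.rec (fun _ => Nat) (Atab_1698) (Atab_s_1699_1701 c) (Nat.ble 1699 c)
noncomputable def Atab_s_1701_1703 (c : Nat) : Nat := @Bool.rec (fun _ => Nat) (Atab_1701) (Atab_1702) (Nat.ble 1702 c)
noncomputable def Atab_s_1703_1705 (c : Nat) : Nat := @Bool.rec (fun _ => Nat) (Atab_1703) (Atab_1704) (Nat.ble 1704 c)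
noncomputable def Atab_s_1701_1705 (c : Nat) : Nat := @Bool.rec (fun _ => Nat) (Atab_s_1701_1703 c) (Atab_s_1703_1705 c) (Nat.ble 1703 c)
noncomputable def Atab_s_1698_1705 (c : Nat) : Nat := @Bool.rec (fun _ => Nat) (Atab_s_1698_1701 c) (Atab_s_1701_1705 c) (Nat.ble 1701 c)
noncomputable def Atab_s_1706_1708 (c : Nat) : Nat := @Bool.rec (fun _ => Nat) (Atab_1706) (Atab_1707) (Nat.ble 1707 c)
noncomputable def Atab_s_1705_1708 (c : Nat) : Nat := @Bool.rec (fun _ => Nat) (Atab_1705) (Atab_s_1706_1708 c) (Nat.ble 1706 c)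
noncomputable def Atab_s_1708_1710 (c : Nat) : Nat := @Bool.rec (fun _ => Nat) (Atab_1708) (Atab_1709) (Nat.ble 1709 c)
noncomputable def Atab_s_1710_1712 (c : Nat) : Nat := @Bool.rec (fun _ => Nat) (Atab_1710) (Atab_1711) (Nat.ble 1711 c)
noncomputable def Atab_s_1708_1712 (c : Nat) : Nat := @Bool.rec (fun _ => Nat) (Atab_s_1708_1710 c) (Atab_s_1710_1712 c) (Nat.ble 1710 c)
noncomputable def Atab_s_1705_1712 (c : Nat) : Nat := @Bool.rec (fun _ => Nat) (Atab_s_1705_1708 c) (Atab_s_1708_1712 c) (Nat.ble 1708 c)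
noncomputable def Atab_s_1698_1712 (c : Nat) : Nat := @Bool.rec (fun _ => Nat) (Atab_s_1698_1705 c) (Atab_s_1705_1712 c) (Nat.ble 1705 c)
noncomputable def Atab_s_1713_1715 (c : Nat) : Nat := @Bool.rec (fun _ => Nat) (Atab_1713) (Atab_1714) (Nat.ble 1714 c)
noncomputable def Atab_s_1712_1715 (c : Nat) : Nat := @Bool.rec (fun _ => Nat) (Atab_1712) (Atab_s_1713_1715 c) (Nat.ble 1713 c)
noncomputable def Atab_s_1715_1717 (c : Nat) : Nat := @Bool.rec (fun _ => Nat) (Atab_1715) (Atab_1716) (Nat.ble 1716 c)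
noncomputable def Atab_s_1717_1719 (c : Nat) : Nat := @Bool.rec (fun _ => Nat) (Atab_1717) (Atab_1718) (Nat.ble 1718 c)
noncomputable def Atab_s_1715_1719 (c : Nat) : Nat := @Bool.rec (fun _ => Nat) (Atab_s_1715_1717 c) (Atab_s_1717_1719 c) (Nat.ble 1717 c)
noncomputable def Atab_s_1712_1719 (c : Nat) : Nat := @Bool.rec (fun _ => Nat) (Atab_s_1712_1715 c) (Atab_s_1715_1719 c) (Nat.ble 1715 c)
noncomputable def Atab_s_1719_1721 (c : Nat) : Nat := @Bool.rec (fun _ => Nat) (Atab_1719) (Atab_1720) (Nat.ble 1720 c)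
noncomputable def Atab_s_1721_1723 (c : Nat) : Nat := @Bool.rec (fun _ => Nat) (Atab_1721) (Atab_1722) (Nat.ble 1722 c)
noncomputable def Atab_s_1719_1723 (c : Nat) : Nat := @Bool.rec (fun _ => Nat) (Atab_s_1719_1721 c) (Atab_s_1721_1723 c) (Nat.ble 1721 c)
noncomputable def Atab_s_1723_1725 (c : Nat) : Nat := @Bool.rec (fun _ => Nat) (Atab_1723) (Atab_1724) (Nat.ble 1724 c)
noncomputable def Atab_s_1725_1727 (c : Nat) : Nat := @Bool.rec (fun _ => Nat) (Atab_1725) (Atab_1726) (Nat.ble 1726 c)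
noncomputable def Atab_s_1723_1727 (c : Nat) : Nat := @Bool.rec (fun _ => Nat) (Atab_s_1723_1725 c) (Atab_s_1725_1727 c) (Nat.ble 1725 c)
noncomputable def Atab_s_1719_1727 (c : Nat) : Nat := @Bool.rec (fun _ => Nat) (Atab_s_1719_1723 c) (Atab_s_1723_1727 c) (Nat.ble 1723 c)
noncomputable def Atab_s_1712_1727 (c : Nat) : Nat := @Bool.rec (fun _ => Nat) (Atab_s_1712_1719 c) (Atab_s_1719_1727 c) (Nat.ble 1719 c)
noncomputable def Atab_s_1698_1727 (c : Nat) : Nat := @Bool.rec (fun _ => Nat) (Atab_s_1698_1712 c) (Atab_s_1712_1727 c) (Nat.ble 1712 c)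
noncomputable def Atab_s_1669_1727 (c : Nat) : Nat := @Bool.rec (fun _ => Nat) (Atab_s_1669_1698 c) (Atab_s_1698_1727 c) (Nat.ble 1698 c)
noncomputable def Atab_s_1612_1727 (c : Nat) : Nat := @Bool.rec (fun _ => Nat) (Atab_s_1612_1669 c) (Atab_s_1669_1727 c) (Nat.ble 1669 c)
noncomputable def Atab_s_1728_1730 (c : Nat) : Nat := @Bool.rec (fun _ => Nat) (Atab_1728) (Atab_1729) (Nat.ble 1729 c)
noncomputable def Atab_s_1727_1730 (c : Nat) : Nat := @Bool.rec (fun _ => Nat) (Atab_1727) (Atab_s_1728_1730 c) (Nat.ble 1728 c)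
noncomputable def Atab_s_1730_1732 (c : Nat) : Nat := @Bool.rec (fun _ => Nat) (Atab_1730) (Atab_1731) (Nat.ble 1731 c)
noncomputable def Atab_s_1732_1734 (c : Nat) : Nat := @Bool.rec (fun _ => Nat) (Atab_1732) (Atab_1733) (Nat.ble 1733 c)
noncomputable def Atab_s_1730_1734 (c : Nat) : Nat := @Bool.rec (fun _ => Nat) (Atab_s_1730_1732 c) (Atab_s_1732_1734 c) (Nat.ble 1732 c)
noncomputable def Atab_s_1727_1734 (c : Nat) : Nat := @Bool.rec (fun _ => Nat) (Atab_s_1727_1730 c) (Atab_s_1730_1734 c) (Nat.ble 1730 c)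
noncomputable def Atab_s_1735_1737 (c : Nat) : Nat := @Bool.rec (fun _ => Nat) (Atab_1735) (Atab_1736) (Nat.ble 1736 c)
noncomputable def Atab_s_1734_1737 (c : Nat) : Nat := @Bool.rec (fun _ => Nat) (Atab_1734) (Atab_s_1735_1737 c) (Nat.ble 1735 c)
noncomputable def Atab_s_1737_1739 (c : Nat) : Nat := @Bool.rec (fun _ => Nat) (Atab_1737) (Atab_1738) (Nat.ble 1738 c)
noncomputable def Atab_s_1739_1741 (c : Nat) : Nat := @Bool.rec (fun _ => Nat) (Atab_1739) (Atab_1740) (Nat.ble 1740 c)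
noncomputable def Atab_s_1737_1741 (c : Nat) : Nat := @Bool.rec (fun _ => Nat) (Atab_s_1737_1739 c) (Atab_s_1739_1741 c) (Nat.ble 1739 c)
noncomputable def Atab_s_1734_1741 (c : Nat) : Nat := @Bool.rec (fun _ => Nat) (Atab_s_1734_1737 c) (Atab_s_1737_1741 c) (Nat.ble 1737 c)
noncomputable def Atab_s_1727_1741 (c : Nat) : Nat := @Bool.rec (fun _ => Nat) (Atab_s_1727_1734 c) (Atab_s_1734_1741 c) (Nat.ble 1734 c)
noncomputable def Atab_s_1742_1744 (c : Nat) : Nat := @Bool.rec (fun _ => Nat) (Atab_1742) (Atab_1743) (Nat.ble 1743 c)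
noncomputable def Atab_s_1741_1744 (c : Nat) : Nat := @Bool.rec (fun _ => Nat) (Atab_1741) (Atab_s_1742_1744 c) (Nat.ble 1742 c)
noncomputable def Atab_s_1744_1746 (c : Nat) : Nat := @Bool.rec (fun _ => Nat) (Atab_1744) (Atab_1745) (Nat.ble 1745 c)
noncomputable def Atab_s_1746_1748 (c : Nat) : Nat := @Bool.rec (fun _ => Nat) (Atab_1746) (Atab_1747) (Nat.ble 1747 c)
noncomputable def Atab_s_1744_1748 (c : Nat) : Nat := @Bool.rec (fun _ => Nat) (Atab_s_1744_1746 c) (Atab_s_1746_1748 c) (Nat.ble 1746 c)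
noncomputable def Atab_s_1741_1748 (c : Nat) : Nat := @Bool.rec (fun _ => Nat) (Atab_s_1741_1744 c) (Atab_s_1744_1748 c) (Nat.ble 1744 c)
noncomputable def Atab_s_1748_1750 (c : Nat) : Nat := @Bool.rec (fun _ => Nat) (Atab_1748) (Atab_1749) (Nat.ble 1749 c)
noncomputable def Atab_s_1750_1752 (c : Nat) : Nat := @Bool.rec (fun _ => Nat) (Atab_1750) (Atab_1751) (Nat.ble 1751 c)
noncomputable def Atab_s_1748_1752 (c : Nat) : Nat := @Bool.rec (fun _ => Nat) (Atab_s_1748_1750 c) (Atab_s_1750_1752 c) (Nat.ble 1750 c)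
noncomputable def Atab_s_1752_1754 (c : Nat) : Nat := @Bool.rec (fun _ => Nat) (Atab_1752) (Atab_1753) (Nat.ble 1753 c)
noncomputable def Atab_s_1754_1756 (c : Nat) : Nat := @Bool.rec (fun _ => Nat) (Atab_1754) (Atab_1755) (Nat.ble 1755 c)
noncomputable def Atab_s_1752_1756 (c : Nat) : Nat := @Bool.rec (fun _ => Nat) (Atab_s_1752_1754 c) (Atab_s_1754_1756 c) (Nat.ble 1754 c)
noncomputable def Atab_s_1748_1756 (c : Nat) : Nat := @Bool.rec (fun _ => Nat) (Atab_s_1748_1752 c) (Atab_s_1752_1756 c) (Nat.ble 1752 c)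
noncomputable def Atab_s_1741_1756 (c : Nat) : Nat := @Bool.rec (fun _ => Nat) (Atab_s_1741_1748 c) (Atab_s_1748_1756 c) (Nat.ble 1748 c)
noncomputable def Atab_s_1727_1756 (c : Nat) : Nat := @Bool.rec (fun _ => Nat) (Atab_s_1727_1741 c) (Atab_s_1741_1756 c) (Nat.ble 1741 c)
noncomputable def Atab_s_1757_1759 (c : Nat) : Nat := @Bool.rec (fun _ => Nat) (Atab_1757) (Atab_1758) (Nat.ble 1758 c)
noncomputable def Atab_s_1756_1759 (c : Nat) : Nat := @Bool.rec (fun _ => Nat) (Atab_1756) (Atab_s_1757_1759 c) (Nat.ble 1757 c)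
noncomputable def Atab_s_1759_1761 (c : Nat) : Nat := @Bool.rec (fun _ => Nat) (Atab_1759) (Atab_1760) (Nat.ble 1760 c)
noncomputable def Atab_s_1761_1763 (c : Nat) : Nat := @Bool.rec (fun _ => Nat) (Atab_1761) (Atab_1762) (Nat.ble 1762 c)
noncomputable def Atab_s_1759_1763 (c : Nat) : Nat := @Bool.rec (fun _ => Nat) (Atab_s_1759_1761 c) (Atab_s_1761_1763 c) (Nat.ble 1761 c)
noncomputable def Atab_s_1756_1763 (c : Nat) : Nat := @Bool.rec (fun _ => Nat) (Atab_s_1756_1759 c) (Atab_s_1759_1763 c) (Nat.ble 1759 c)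
noncomputable def Atab_s_1764_1766 (c : Nat) : Nat := @Bool.rec (fun _ => Nat) (Atab_1764) (Atab_1765) (Nat.ble 1765 c)
noncomputable def Atab_s_1763_1766 (c : Nat) : Nat := @Bool.rec (fun _ => Nat) (Atab_1763) (Atab_s_1764_1766 c) (Nat.ble 1764 c)
noncomputable def Atab_s_1766_1768 (c : Nat) : Nat := @Bool.rec (fun _ => Nat) (Atab_1766) (Atab_1767) (Nat.ble 1767 c)
noncomputable def Atab_s_1768_1770 (c : Nat) : Nat := @Bool.rec (fun _ => Nat) (Atab_1768) (Atab_1769) (Nat.ble 1769 c)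
noncomputable def Atab_s_1766_1770 (c : Nat) : Nat := @Bool.rec (fun _ => Nat) (Atab_s_1766_1768 c) (Atab_s_1768_1770 c) (Nat.ble 1768 c)
noncomputable def Atab_s_1763_1770 (c : Nat) : Nat := @Bool.rec (fun _ => Nat) (Atab_s_1763_1766 c) (Atab_s_1766_1770 c) (Nat.ble 1766 c)
noncomputable def Atab_s_1756_1770 (c : Nat) : Nat := @Bool.rec (fun _ => Nat) (Atab_s_1756_1763 c) (Atab_s_1763_1770 c) (Nat.ble 1763 c)
noncomputable def Atab_s_1771_1773 (c : Nat) : Nat := @Bool.rec (fun _ => Nat) (Atab_1771) (Atab_1772) (Nat.ble 1772 c)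
noncomputable def Atab_s_1770_1773 (c : Nat) : Nat := @Bool.rec (fun _ => Nat) (Atab_1770) (Atab_s_1771_1773 c) (Nat.ble 1771 c)
noncomputable def Atab_s_1773_1775 (c : Nat) : Nat := @Bool.rec (fun _ => Nat) (Atab_1773) (Atab_1774) (Nat.ble 1774 c)
noncomputable def Atab_s_1775_1777 (c : Nat) : Nat := @Bool.rec (fun _ => Nat) (Atab_1775) (Atab_1776) (Nat.ble 1776 c)
noncomputable def Atab_s_1773_1777 (c : Nat) : Nat := @Bool.rec (fun _ => Nat) (Atab_s_1773_1775 c) (Atab_s_1775_1777 c) (Nat.ble 1775 c)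
noncomputable def Atab_s_1770_1777 (c : Nat) : Nat := @Bool.rec (fun _ => Nat) (Atab_s_1770_1773 c) (Atab_s_1773_1777 c) (Nat.ble 1773 c)
noncomputable def Atab_s_1777_1779 (c : Nat) : Nat := @Bool.rec (fun _ => Nat) (Atab_1777) (Atab_1778) (Nat.ble 1778 c)
noncomputable def Atab_s_1779_1781 (c : Nat) : Nat := @Bool.rec (fun _ => Nat) (Atab_1779) (Atab_1780) (Nat.ble 1780 c)
noncomputable def Atab_s_1777_1781 (c : Nat) : Nat := @Bool.rec (fun _ => Nat) (Atab_s_1777_1779 c) (Atab_s_1779_1781 c) (Nat.ble 1779 c)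
noncomputable def Atab_s_1781_1783 (c : Nat) : Nat := @Bool.rec (fun _ => Nat) (Atab_1781) (Atab_1782) (Nat.ble 1782 c)
noncomputable def Atab_s_1783_1785 (c : Nat) : Nat := @Bool.rec (fun _ => Nat) (Atab_1783) (Atab_1784) (Nat.ble 1784 c)
noncomputable def Atab_s_1781_1785 (c : Nat) : Nat := @Bool.rec (fun _ => Nat) (Atab_s_1781_1783 c) (Atab_s_1783_1785 c) (Nat.ble 1783 c)
noncomputable def Atab_s_1777_1785 (c : Nat) : Nat := @Bool.rec (fun _ => Nat) (Atab_s_1777_1781 c) (Atab_s_1781_1785 c) (Nat.ble 1781 c)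
noncomputable def Atab_s_1770_1785 (c : Nat) : Nat := @Bool.rec (fun _ => Nat) (Atab_s_1770_1777 c) (Atab_s_1777_1785 c) (Nat.ble 1777 c)
noncomputable def Atab_s_1756_1785 (c : Nat) : Nat := @Bool.rec (fun _ => Nat) (Atab_s_1756_1770 c) (Atab_s_1770_1785 c) (Nat.ble 1770 c)
noncomputable def Atab_s_1727_1785 (c : Nat) : Nat := @Bool.rec (fun _ => Nat) (Atab_s_1727_1756 c) (Atab_s_1756_1785 c) (Nat.ble 1756 c)
noncomputable def Atab_s_1786_1788 (c : Nat) : Nat := @Bool.rec (fun _ => Nat) (Atab_1786) (Atab_1787) (Nat.ble 1787 c)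
noncomputable def Atab_s_1785_1788 (c : Nat) : Nat := @Bool.rec (fun _ => Nat) (Atab_1785) (Atab_s_1786_1788 c) (Nat.ble 1786 c)
noncomputable def Atab_s_1788_1790 (c : Nat) : Nat := @Bool.rec (fun _ => Nat) (Atab_1788) (Atab_1789) (Nat.ble 1789 c)
noncomputable def Atab_s_1790_1792 (c : Nat) : Nat := @Bool.rec (fun _ => Nat) (Atab_1790) (Atab_1791) (Nat.ble 1791 c)
noncomputable def Atab_s_1788_1792 (c : Nat) : Nat := @Bool.rec (fun _ => Nat) (Atab_s_1788_1790 c) (Atab_s_1790_1792 c) (Nat.ble 1790 c)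
noncomputable def Atab_s_1785_1792 (c : Nat) : Nat := @Bool.rec (fun _ => Nat) (Atab_s_1785_1788 c) (Atab_s_1788_1792 c) (Nat.ble 1788 c)
noncomputable def Atab_s_1793_1795 (c : Nat) : Nat := @Bool.rec (fun _ => Nat) (Atab_1793) (Atab_1794) (Nat.ble 1794 c)
noncomputable def Atab_s_1792_1795 (c : Nat) : Nat := @Bool.rec (fun _ => Nat) (Atab_1792) (Atab_s_1793_1795 c) (Nat.ble 1793 c)
noncomputable def Atab_s_1795_1797 (c : Nat) : Nat := @Bool.rec (fun _ => Nat) (Atab_1795) (Atab_1796) (Nat.ble 1796 c)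
noncomputable def Atab_s_1797_1799 (c : Nat) : Nat := @Bool.rec (fun _ => Nat) (Atab_1797) (Atab_1798) (Nat.ble 1798 c)
noncomputable def Atab_s_1795_1799 (c : Nat) : Nat := @Bool.rec (fun _ => Nat) (Atab_s_1795_1797 c) (Atab_s_1797_1799 c) (Nat.ble 1797 c)
noncomputable def Atab_s_1792_1799 (c : Nat) : Nat := @Bool.rec (fun _ => Nat) (Atab_s_1792_1795 c) (Atab_s_1795_1799 c) (Nat.ble 1795 c)
noncomputable def Atab_s_1785_1799 (c : Nat) : Nat := @Bool.rec (fun _ => Nat) (Atab_s_1785_1792 c) (Atab_s_1792_1799 c) (Nat.ble 1792 c)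
noncomputable def Atab_s_1800_1802 (c : Nat) : Nat := @Bool.rec (fun _ => Nat) (Atab_1800) (Atab_1801) (Nat.ble 1801 c)
noncomputable def Atab_s_1799_1802 (c : Nat) : Nat := @Bool.rec (fun _ => Nat) (Atab_1799) (Atab_s_1800_1802 c) (Nat.ble 1800 c)
noncomputable def Atab_s_1802_1804 (c : Nat) : Nat := @Bool.rec (fun _ => Nat) (Atab_1802) (Atab_1803) (Nat.ble 1803 c)
noncomputable def Atab_s_1804_1806 (c : Nat) : Nat := @Bool.rec (fun _ => Nat) (Atab_1804) (Atab_1805) (Nat.ble 1805 c)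
noncomputable def Atab_s_1802_1806 (c : Nat) : Nat := @Bool.rec (fun _ => Nat) (Atab_s_1802_1804 c) (Atab_s_1804_1806 c) (Nat.ble 1804 c)
noncomputable def Atab_s_1799_1806 (c : Nat) : Nat := @Bool.rec (fun _ => Nat) (Atab_s_1799_1802 c) (Atab_s_1802_1806 c) (Nat.ble 1802 c)
noncomputable def Atab_s_1806_1808 (c : Nat) : Nat := @Bool.rec (fun _ => Nat) (Atab_1806) (Atab_1807) (Nat.ble 1807 c)
noncomputable def Atab_s_1808_1810 (c : Nat) : Nat := @Bool.rec (fun _ => Nat) (Atab_1808) (Atab_1809) (Nat.ble 1809 c)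
noncomputable def Atab_s_1806_1810 (c : Nat) : Nat := @Bool.rec (fun _ => Nat) (Atab_s_1806_1808 c) (Atab_s_1808_1810 c) (Nat.ble 1808 c)
noncomputable def Atab_s_1810_1812 (c : Nat) : Nat := @Bool.rec (fun _ => Nat) (Atab_1810) (Atab_1811) (Nat.ble 1811 c)
noncomputable def Atab_s_1812_1814 (c : Nat) : Nat := @Bool.rec (fun _ => Nat) (Atab_1812) (Atab_1813) (Nat.ble 1813 c)
noncomputable def Atab_s_1810_1814 (c : Nat) : Nat := @Bool.rec (fun _ => Nat) (Atab_s_1810_1812 c) (Atab_s_1812_1814 c) (Nat.ble 1812 c)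
noncomputable def Atab_s_1806_1814 (c : Nat) : Nat := @Bool.rec (fun _ => Nat) (Atab_s_1806_1810 c) (Atab_s_1810_1814 c) (Nat.ble 1810 c)
noncomputable def Atab_s_1799_1814 (c : Nat) : Nat := @Bool.rec (fun _ => Nat) (Atab_s_1799_1806 c) (Atab_s_1806_1814 c) (Nat.ble 1806 c)
noncomputable def Atab_s_1785_1814 (c : Nat) : Nat := @Bool.rec (fun _ => Nat) (Atab_s_1785_1799 c) (Atab_s_1799_1814 c) (Nat.ble 1799 c)
noncomputable def Atab_s_1815_1817 (c : Nat) : Nat := @Bool.rec (fun _ => Nat) (Atab_1815) (Atab_1816) (Nat.ble 1816 c)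
noncomputable def Atab_s_1814_1817 (c : Nat) : Nat := @Bool.rec (fun _ => Nat) (Atab_1814) (Atab_s_1815_1817 c) (Nat.ble 1815 c)
noncomputable def Atab_s_1817_1819 (c : Nat) : Nat := @Bool.rec (fun _ => Nat) (Atab_1817) (Atab_1818) (Nat.ble 1818 c)
noncomputable def Atab_s_1819_1821 (c : Nat) : Nat := @Bool.rec (fun _ => Nat) (Atab_1819) (Atab_1820) (Nat.ble 1820 c)
noncomputable def Atab_s_1817_1821 (c : Nat) : Nat := @Bool.rec (fun _ => Nat) (Atab_s_1817_1819 c) (Atab_s_1819_1821 c) (Nat.ble 1819 c)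
noncomputable def Atab_s_1814_1821 (c : Nat) : Nat := @Bool.rec (fun _ => Nat) (Atab_s_1814_1817 c) (Atab_s_1817_1821 c) (Nat.ble 1817 c)
noncomputable def Atab_s_1822_1824 (c : Nat) : Nat := @Bool.rec (fun _ => Nat) (Atab_1822) (Atab_1823) (Nat.ble 1823 c)
noncomputable def Atab_s_1821_1824 (c : Nat) : Nat := @Bool.rec (fun _ => Nat) (Atab_1821) (Atab_s_1822_1824 c) (Nat.ble 1822 c)
noncomputable def Atab_s_1824_1826 (c : Nat) : Nat := @Bool.rec (fun _ => Nat) (Atab_1824) (Atab_1825) (Nat.ble 1825 c)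
noncomputable def Atab_s_1826_1828 (c : Nat) : Nat := @Bool.rec (fun _ => Nat) (Atab_1826) (Atab_1827) (Nat.ble 1827 c)
noncomputable def Atab_s_1824_1828 (c : Nat) : Nat := @Bool.rec (fun _ => Nat) (Atab_s_1824_1826 c) (Atab_s_1826_1828 c) (Nat.ble 1826 c)
noncomputable def Atab_s_1821_1828 (c : Nat) : Nat := @Bool.rec (fun _ => Nat) (Atab_s_1821_1824 c) (Atab_s_1824_1828 c) (Nat.ble 1824 c)
noncomputable def Atab_s_1814_1828 (c : Nat) : Nat := @Bool.rec (fun _ => Nat) (Atab_s_1814_1821 c) (Atab_s_1821_1828 c) (Nat.ble 1821 c)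
noncomputable def Atab_s_1829_1831 (c : Nat) : Nat := @Bool.rec (fun _ => Nat) (Atab_1829) (Atab_1830) (Nat.ble 1830 c)
noncomputable def Atab_s_1828_1831 (c : Nat) : Nat := @Bool.rec (fun _ => Nat) (Atab_1828) (Atab_s_1829_1831 c) (Nat.ble 1829 c)
noncomputable def Atab_s_1831_1833 (c : Nat) : Nat := @Bool.rec (fun _ => Nat) (Atab_1831) (Atab_1832) (Nat.ble 1832 c)
noncomputable def Atab_s_1833_1835 (c : Nat) : Nat := @Bool.rec (fun _ => Nat) (Atab_1833) (Atab_1834) (Nat.ble 1834 c)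
noncomputable def Atab_s_1831_1835 (c : Nat) : Nat := @Bool.rec (fun _ => Nat) (Atab_s_1831_1833 c) (Atab_s_1833_1835 c) (Nat.ble 1833 c)
noncomputable def Atab_s_1828_1835 (c : Nat) : Nat := @Bool.rec (fun _ => Nat) (Atab_s_1828_1831 c) (Atab_s_1831_1835 c) (Nat.ble 1831 c)
noncomputable def Atab_s_1835_1837 (c : Nat) : Nat := @Bool.rec (fun _ => Nat) (Atab_1835) (Atab_1836) (Nat.ble 1836 c)
noncomputable def Atab_s_1837_1839 (c : Nat) : Nat := @Bool.rec (fun _ => Nat) (Atab_1837) (Atab_1838) (Nat.ble 1838 c)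
noncomputable def Atab_s_1835_1839 (c : Nat) : Nat := @Bool.rec (fun _ => Nat) (Atab_s_1835_1837 c) (Atab_s_1837_1839 c) (Nat.ble 1837 c)
noncomputable def Atab_s_1839_1841 (c : Nat) : Nat := @Bool.rec (fun _ => Nat) (Atab_1839) (Atab_1840) (Nat.ble 1840 c)
noncomputable def Atab_s_1841_1843 (c : Nat) : Nat := @Bool.rec (fun _ => Nat) (Atab_1841) (Atab_1842) (Nat.ble 1842 c)
noncomputable def Atab_s_1839_1843 (c : Nat) : Nat := @Bool.rec (fun _ => Nat) (Atab_s_1839_1841 c) (Atab_s_1841_1843 c) (Nat.ble 1841 c)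
noncomputable def Atab_s_1835_1843 (c : Nat) : Nat := @Bool.rec (fun _ => Nat) (Atab_s_1835_1839 c) (Atab_s_1839_1843 c) (Nat.ble 1839 c)
noncomputable def Atab_s_1828_1843 (c : Nat) : Nat := @Bool.rec (fun _ => Nat) (Atab_s_1828_1835 c) (Atab_s_1835_1843 c) (Nat.ble 1835 c)
noncomputable def Atab_s_1814_1843 (c : Nat) : Nat := @Bool.rec (fun _ => Nat) (Atab_s_1814_1828 c) (Atab_s_1828_1843 c) (Nat.ble 1828 c)
noncomputable def Atab_s_1785_1843 (c : Nat) : Nat := @Bool.rec (fun _ => Nat) (Atab_s_1785_1814 c) (Atab_s_1814_1843 c) (Nat.ble 1814 c)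
noncomputable def Atab_s_1727_1843 (c : Nat) : Nat := @Bool.rec (fun _ => Nat) (Atab_s_1727_1785 c) (Atab_s_1785_1843 c) (Nat.ble 1785 c)
noncomputable def Atab_s_1612_1843 (c : Nat) : Nat := @Bool.rec (fun _ => Nat) (Atab_s_1612_1727 c) (Atab_s_1727_1843 c) (Nat.ble 1727 c)
noncomputable def Atab_s_1382_1843 (c : Nat) : Nat := @Bool.rec (fun _ => Nat) (Atab_s_1382_1612 c) (Atab_s_1612_1843 c) (Nat.ble 1612 c)
noncomputable def Atab_s_921_1843 (c : Nat) : Nat := @Bool.rec (fun _ => Nat) (Atab_s_921_1382 c) (Atab_s_1382_1843 c) (Nat.ble 1382 c)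
noncomputable def Atab_s_0_1843 (c : Nat) : Nat := @Bool.rec (fun _ => Nat) (Atab_s_0_921 c) (Atab_s_921_1843 c) (Nat.ble 921 c)
noncomputable def Atab (i : Nat) : Nat := rdw 47 140737488355327 (Atab_s_0_1843 (Nat.shiftRight i 11)) (Nat.land i 2047)
noncomputable def Btab_s_0_2 (c : Nat) : Nat := @Bool.rec (fun _ => Nat) (Btab_0) (Btab_1) (Nat.ble 1 c)
noncomputable def Btab_s_2_4 (c : Nat) : Nat := @Bool.rec (fun _ => Nat) (Btab_2) (Btab_3) (Nat.ble 3 c)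
noncomputable def Btab_s_0_4 (c : Nat) : Nat := @Bool.rec (fun _ => Nat) (Btab_s_0_2 c) (Btab_s_2_4 c) (Nat.ble 2 c)
noncomputable def Btab_s_4_6 (c : Nat) : Nat := @Bool.rec (fun _ => Nat) (Btab_4) (Btab_5) (Nat.ble 5 c)
noncomputable def Btab_s_7_9 (c : Nat) : Nat := @Bool.rec (fun _ => Nat) (Btab_7) (Btab_8) (Nat.ble 8 c)
noncomputable def Btab_s_6_9 (c : Nat) : Nat := @Bool.rec (fun _ => Nat) (Btab_6) (Btab_s_7_9 c) (Nat.ble 7 c)
noncomputable def Btab_s_4_9 (c : Nat) : Nat := @Bool.rec (fun _ => Nat) (Btab_s_4_6 c) (Btab_s_6_9 c) (Nat.ble 6 c)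
noncomputable def Btab_s_0_9 (c : Nat) : Nat := @Bool.rec (fun _ => Nat) (Btab_s_0_4 c) (Btab_s_4_9 c) (Nat.ble 4 c)
noncomputable def Btab_s_9_11 (c : Nat) : Nat := @Bool.rec (fun _ => Nat) (Btab_9) (Btab_10) (Nat.ble 10 c)
noncomputable def Btab_s_12_14 (c : Nat) : Nat := @Bool.rec (fun _ => Nat) (Btab_12) (Btab_13) (Nat.ble 13 c)
noncomputable def Btab_s_11_14 (c : Nat) : Nat := @Bool.rec (fun _ => Nat) (Btab_11) (Btab_s_12_14 c) (Nat.ble 12 c)
noncomputable def Btab_s_9_14 (c : Nat) : Nat := @Bool.rec (fun _ => Nat) (Btab_s_9_11 c) (Btab_s_11_14 c) (Nat.ble 11 c)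
noncomputable def Btab_s_14_16 (c : Nat) : Nat := @Bool.rec (fun _ => Nat) (Btab_14) (Btab_15) (Nat.ble 15 c)
noncomputable def Btab_s_17_19 (c : Nat) : Nat := @Bool.rec (fun _ => Nat) (Btab_17) (Btab_18) (Nat.ble 18 c)
noncomputable def Btab_s_16_19 (c : Nat) : Nat := @Bool.rec (fun _ => Nat) (Btab_16) (Btab_s_17_19 c) (Nat.ble 17 c)
noncomputable def Btab_s_14_19 (c : Nat) : Nat := @Bool.rec (fun _ => Nat) (Btab_s_14_16 c) (Btab_s_16_19 c) (Nat.ble 16 c)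
noncomputable def Btab_s_9_19 (c : Nat) : Nat := @Bool.rec (fun _ => Nat) (Btab_s_9_14 c) (Btab_s_14_19 c) (Nat.ble 14 c)
noncomputable def Btab_s_0_19 (c : Nat) : Nat := @Bool.rec (fun _ => Nat) (Btab_s_0_9 c) (Btab_s_9_19 c) (Nat.ble 9 c)
noncomputable def Btab_s_19_21 (c : Nat) : Nat := @Bool.rec (fun _ => Nat) (Btab_19) (Btab_20) (Nat.ble 20 c)
noncomputable def Btab_s_22_24 (c : Nat) : Nat := @Bool.rec (fun _ => Nat) (Btab_22) (Btab_23) (Nat.ble 23 c)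
noncomputable def Btab_s_21_24 (c : Nat) : Nat := @Bool.rec (fun _ => Nat) (Btab_21) (Btab_s_22_24 c) (Nat.ble 22 c)
noncomputable def Btab_s_19_24 (c : Nat) : Nat := @Bool.rec (fun _ => Nat) (Btab_s_19_21 c) (Btab_s_21_24 c) (Nat.ble 21 c)
noncomputable def Btab_s_24_26 (c : Nat) : Nat := @Bool.rec (fun _ => Nat) (Btab_24) (Btab_25) (Nat.ble 25 c)
noncomputable def Btab_s_27_29 (c : Nat) : Nat := @Bool.rec (fun _ => Nat) (Btab_27) (Btab_28) (Nat.ble 28 c)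
noncomputable def Btab_s_26_29 (c : Nat) : Nat := @Bool.rec (fun _ => Nat) (Btab_26) (Btab_s_27_29 c) (Nat.ble 27 c)
noncomputable def Btab_s_24_29 (c : Nat) : Nat := @Bool.rec (fun _ => Nat) (Btab_s_24_26 c) (Btab_s_26_29 c) (Nat.ble 26 c)
noncomputable def Btab_s_19_29 (c : Nat) : Nat := @Bool.rec (fun _ => Nat) (Btab_s_19_24 c) (Btab_s_24_29 c) (Nat.ble 24 c)
noncomputable def Btab_s_29_31 (c : Nat) : Nat := @Bool.rec (fun _ => Nat) (Btab_29) (Btab_30) (Nat.ble 30 c)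
noncomputable def Btab_s_32_34 (c : Nat) : Nat := @Bool.rec (fun _ => Nat) (Btab_32) (Btab_33) (Nat.ble 33 c)
noncomputable def Btab_s_31_34 (c : Nat) : Nat := @Bool.rec (fun _ => Nat) (Btab_31) (Btab_s_32_34 c) (Nat.ble 32 c)
noncomputable def Btab_s_29_34 (c : Nat) : Nat := @Bool.rec (fun _ => Nat) (Btab_s_29_31 c) (Btab_s_31_34 c) (Nat.ble 31 c)
noncomputable def Btab_s_34_36 (c : Nat) : Nat := @Bool.rec (fun _ => Nat) (Btab_34) (Btab_35) (Nat.ble 35 c)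
noncomputable def Btab_s_37_39 (c : Nat) : Nat := @Bool.rec (fun _ => Nat) (Btab_37) (Btab_38) (Nat.ble 38 c)
noncomputable def Btab_s_36_39 (c : Nat) : Nat := @Bool.rec (fun _ => Nat) (Btab_36) (Btab_s_37_39 c) (Nat.ble 37 c)
noncomputable def Btab_s_34_39 (c : Nat) : Nat := @Bool.rec (fun _ => Nat) (Btab_s_34_36 c) (Btab_s_36_39 c) (Nat.ble 36 c)
noncomputable def Btab_s_29_39 (c : Nat) : Nat := @Bool.rec (fun _ => Nat) (Btab_s_29_34 c) (Btab_s_34_39 c) (Nat.ble 34 c)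
noncomputable def Btab_s_19_39 (c : Nat) : Nat := @Bool.rec (fun _ => Nat) (Btab_s_19_29 c) (Btab_s_29_39 c) (Nat.ble 29 c)
noncomputable def Btab_s_0_39 (c : Nat) : Nat := @Bool.rec (fun _ => Nat) (Btab_s_0_19 c) (Btab_s_19_39 c) (Nat.ble 19 c)
noncomputable def Btab_s_39_41 (c : Nat) : Nat := @Bool.rec (fun _ => Nat) (Btab_39) (Btab_40) (Nat.ble 40 c)
noncomputable def Btab_s_41_43 (c : Nat) : Nat := @Bool.rec (fun _ => Nat) (Btab_41) (Btab_42) (Nat.ble 42 c)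
noncomputable def Btab_s_39_43 (c : Nat) : Nat := @Bool.rec (fun _ => Nat) (Btab_s_39_41 c) (Btab_s_41_43 c) (Nat.ble 41 c)
noncomputable def Btab_s_43_45 (c : Nat) : Nat := @Bool.rec (fun _ => Nat) (Btab_43) (Btab_44) (Nat.ble 44 c)
noncomputable def Btab_s_46_48 (c : Nat) : Nat := @Bool.rec (fun _ => Nat) (Btab_46) (Btab_47) (Nat.ble 47 c)
noncomputable def Btab_s_45_48 (c : Nat) : Nat := @Bool.rec (fun _ => Nat) (Btab_45) (Btab_s_46_48 c) (Nat.ble 46 c)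
noncomputable def Btab_s_43_48 (c : Nat) : Nat := @Bool.rec (fun _ => Nat) (Btab_s_43_45 c) (Btab_s_45_48 c) (Nat.ble 45 c)
noncomputable def Btab_s_39_48 (c : Nat) : Nat := @Bool.rec (fun _ => Nat) (Btab_s_39_43 c) (Btab_s_43_48 c) (Nat.ble 43 c)
noncomputable def Btab_s_48_50 (c : Nat) : Nat := @Bool.rec (fun _ => Nat) (Btab_48) (Btab_49) (Nat.ble 49 c)
noncomputable def Btab_s_51_53 (c : Nat) : Nat := @Bool.rec (fun _ => Nat) (Btab_51) (Btab_52) (Nat.ble 52 c)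
noncomputable def Btab_s_50_53 (c : Nat) : Nat := @Bool.rec (fun _ => Nat) (Btab_50) (Btab_s_51_53 c) (Nat.ble 51 c)
noncomputable def Btab_s_48_53 (c : Nat) : Nat := @Bool.rec (fun _ => Nat) (Btab_s_48_50 c) (Btab_s_50_53 c) (Nat.ble 50 c)
noncomputable def Btab_s_53_55 (c : Nat) : Nat := @Bool.rec (fun _ => Nat) (Btab_53) (Btab_54) (Nat.ble 54 c)
noncomputable def Btab_s_56_58 (c : Nat) : Nat := @Bool.rec (fun _ => Nat) (Btab_56) (Btab_57) (Nat.ble 57 c)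
noncomputable def Btab_s_55_58 (c : Nat) : Nat := @Bool.rec (fun _ => Nat) (Btab_55) (Btab_s_56_58 c) (Nat.ble 56 c)
noncomputable def Btab_s_53_58 (c : Nat) : Nat := @Bool.rec (fun _ => Nat) (Btab_s_53_55 c) (Btab_s_55_58 c) (Nat.ble 55 c)
noncomputable def Btab_s_48_58 (c : Nat) : Nat := @Bool.rec (fun _ => Nat) (Btab_s_48_53 c) (Btab_s_53_58 c) (Nat.ble 53 c)
noncomputable def Btab_s_39_58 (c : Nat) : Nat := @Bool.rec (fun _ => Nat) (Btab_s_39_48 c) (Btab_s_48_58 c) (Nat.ble 48 c)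
noncomputable def Btab_s_58_60 (c : Nat) : Nat := @Bool.rec (fun _ => Nat) (Btab_58) (Btab_59) (Nat.ble 59 c)
noncomputable def Btab_s_61_63 (c : Nat) : Nat := @Bool.rec (fun _ => Nat) (Btab_61) (Btab_62) (Nat.ble 62 c)
noncomputable def Btab_s_60_63 (c : Nat) : Nat := @Bool.rec (fun _ => Nat) (Btab_60) (Btab_s_61_63 c) (Nat.ble 61 c)
noncomputable def Btab_s_58_63 (c : Nat) : Nat := @Bool.rec (fun _ => Nat) (Btab_s_58_60 c) (Btab_s_60_63 c) (Nat.ble 60 c)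
noncomputable def Btab_s_63_65 (c : Nat) : Nat := @Bool.rec (fun _ => Nat) (Btab_63) (Btab_64) (Nat.ble 64 c)
noncomputable def Btab_s_66_68 (c : Nat) : Nat := @Bool.rec (fun _ => Nat) (Btab_66) (Btab_67) (Nat.ble 67 c)
noncomputable def Btab_s_65_68 (c : Nat) : Nat := @Bool.rec (fun _ => Nat) (Btab_65) (Btab_s_66_68 c) (Nat.ble 66 c)
noncomputable def Btab_s_63_68 (c : Nat) : Nat := @Bool.rec (fun _ => Nat) (Btab_s_63_65 c) (Btab_s_65_68 c) (Nat.ble 65 c)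
noncomputable def Btab_s_58_68 (c : Nat) : Nat := @Bool.rec (fun _ => Nat) (Btab_s_58_63 c) (Btab_s_63_68 c) (Nat.ble 63 c)
noncomputable def Btab_s_68_70 (c : Nat) : Nat := @Bool.rec (fun _ => Nat) (Btab_68) (Btab_69) (Nat.ble 69 c)
noncomputable def Btab_s_71_73 (c : Nat) : Nat := @Bool.rec (fun _ => Nat) (Btab_71) (Btab_72) (Nat.ble 72 c)
noncomputable def Btab_s_70_73 (c : Nat) : Nat := @Bool.rec (fun _ => Nat) (Btab_70) (Btab_s_71_73 c) (Nat.ble 71 c)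
noncomputable def Btab_s_68_73 (c : Nat) : Nat := @Bool.rec (fun _ => Nat) (Btab_s_68_70 c) (Btab_s_70_73 c) (Nat.ble 70 c)
noncomputable def Btab_s_73_75 (c : Nat) : Nat := @Bool.rec (fun _ => Nat) (Btab_73) (Btab_74) (Nat.ble 74 c)
noncomputable def Btab_s_76_78 (c : Nat) : Nat := @Bool.rec (fun _ => Nat) (Btab_76) (Btab_77) (Nat.ble 77 c)
noncomputable def Btab_s_75_78 (c : Nat) : Nat := @Bool.rec (fun _ => Nat) (Btab_75) (Btab_s_76_78 c) (Nat.ble 76 c)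
noncomputable def Btab_s_73_78 (c : Nat) : Nat := @Bool.rec (fun _ => Nat) (Btab_s_73_75 c) (Btab_s_75_78 c) (Nat.ble 75 c)
noncomputable def Btab_s_68_78 (c : Nat) : Nat := @Bool.rec (fun _ => Nat) (Btab_s_68_73 c) (Btab_s_73_78 c) (Nat.ble 73 c)
noncomputable def Btab_s_58_78 (c : Nat) : Nat := @Bool.rec (fun _ => Nat) (Btab_s_58_68 c) (Btab_s_68_78 c) (Nat.ble 68 c)
noncomputable def Btab_s_39_78 (c : Nat) : Nat := @Bool.rec (fun _ => Nat) (Btab_s_39_58 c) (Btab_s_58_78 c) (Nat.ble 58 c)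
noncomputable def Btab_s_0_78 (c : Nat) : Nat := @Bool.rec (fun _ => Nat) (Btab_s_0_39 c) (Btab_s_39_78 c) (Nat.ble 39 c)
noncomputable def Btab_s_78_80 (c : Nat) : Nat := @Bool.rec (fun _ => Nat) (Btab_78) (Btab_79) (Nat.ble 79 c)
noncomputable def Btab_s_80_82 (c : Nat) : Nat := @Bool.rec (fun _ => Nat) (Btab_80) (Btab_81) (Nat.ble 81 c)
noncomputable def Btab_s_78_82 (c : Nat) : Nat := @Bool.rec (fun _ => Nat) (Btab_s_78_80 c) (Btab_s_80_82 c) (Nat.ble 80 c)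
noncomputable def Btab_s_82_84 (c : Nat) : Nat := @Bool.rec (fun _ => Nat) (Btab_82) (Btab_83) (Nat.ble 83 c)
noncomputable def Btab_s_85_87 (c : Nat) : Nat := @Bool.rec (fun _ => Nat) (Btab_85) (Btab_86) (Nat.ble 86 c)
noncomputable def Btab_s_84_87 (c : Nat) : Nat := @Bool.rec (fun _ => Nat) (Btab_84) (Btab_s_85_87 c) (Nat.ble 85 c)
noncomputable def Btab_s_82_87 (c : Nat) : Nat := @Bool.rec (fun _ => Nat) (Btab_s_82_84 c) (Btab_s_84_87 c) (Nat.ble 84 c)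
noncomputable def Btab_s_78_87 (c : Nat) : Nat := @Bool.rec (fun _ => Nat) (Btab_s_78_82 c) (Btab_s_82_87 c) (Nat.ble 82 c)
noncomputable def Btab_s_87_89 (c : Nat) : Nat := @Bool.rec (fun _ => Nat) (Btab_87) (Btab_88) (Nat.ble 88 c)
noncomputable def Btab_s_90_92 (c : Nat) : Nat := @Bool.rec (fun _ => Nat) (Btab_90) (Btab_91) (Nat.ble 91 c)
noncomputable def Btab_s_89_92 (c : Nat) : Nat := @Bool.rec (fun _ => Nat) (Btab_89) (Btab_s_90_92 c) (Nat.ble 90 c)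
noncomputable def Btab_s_87_92 (c : Nat) : Nat := @Bool.rec (fun _ => Nat) (Btab_s_87_89 c) (Btab_s_89_92 c) (Nat.ble 89 c)
noncomputable def Btab_s_92_94 (c : Nat) : Nat := @Bool.rec (fun _ => Nat) (Btab_92) (Btab_93) (Nat.ble 93 c)
noncomputable def Btab_s_95_97 (c : Nat) : Nat := @Bool.rec (fun _ => Nat) (Btab_95) (Btab_96) (Nat.ble 96 c)
noncomputable def Btab_s_94_97 (c : Nat) : Nat := @Bool.rec (fun _ => Nat) (Btab_94) (Btab_s_95_97 c) (Nat.ble 95 c)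
noncomputable def Btab_s_92_97 (c : Nat) : Nat := @Bool.rec (fun _ => Nat) (Btab_s_92_94 c) (Btab_s_94_97 c) (Nat.ble 94 c)
noncomputable def Btab_s_87_97 (c : Nat) : Nat := @Bool.rec (fun _ => Nat) (Btab_s_87_92 c) (Btab_s_92_97 c) (Nat.ble 92 c)
noncomputable def Btab_s_78_97 (c : Nat) : Nat := @Bool.rec (fun _ => Nat) (Btab_s_78_87 c) (Btab_s_87_97 c) (Nat.ble 87 c)
noncomputable def Btab_s_97_99 (c : Nat) : Nat := @Bool.rec (fun _ => Nat) (Btab_97) (Btab_98) (Nat.ble 98 c)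
noncomputable def Btab_s_100_102 (c : Nat) : Nat := @Bool.rec (fun _ => Nat) (Btab_100) (Btab_101) (Nat.ble 101 c)
noncomputable def Btab_s_99_102 (c : Nat) : Nat := @Bool.rec (fun _ => Nat) (Btab_99) (Btab_s_100_102 c) (Nat.ble 100 c)
noncomputable def Btab_s_97_102 (c : Nat) : Nat := @Bool.rec (fun _ => Nat) (Btab_s_97_99 c) (Btab_s_99_102 c) (Nat.ble 99 c)
noncomputable def Btab_s_102_104 (c : Nat) : Nat := @Bool.rec (fun _ => Nat) (Btab_102) (Btab_103) (Nat.ble 103 c)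
noncomputable def Btab_s_105_107 (c : Nat) : Nat := @Bool.rec (fun _ => Nat) (Btab_105) (Btab_106) (Nat.ble 106 c)
noncomputable def Btab_s_104_107 (c : Nat) : Nat := @Bool.rec (fun _ => Nat) (Btab_104) (Btab_s_105_107 c) (Nat.ble 105 c)
noncomputable def Btab_s_102_107 (c : Nat) : Nat := @Bool.rec (fun _ => Nat) (Btab_s_102_104 c) (Btab_s_104_107 c) (Nat.ble 104 c)
noncomputable def Btab_s_97_107 (c : Nat) : Nat := @Bool.rec (fun _ => Nat) (Btab_s_97_102 c) (Btab_s_102_107 c) (Nat.ble 102 c)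
noncomputable def Btab_s_107_109 (c : Nat) : Nat := @Bool.rec (fun _ => Nat) (Btab_107) (Btab_108) (Nat.ble 108 c)
noncomputable def Btab_s_110_112 (c : Nat) : Nat := @Bool.rec (fun _ => Nat) (Btab_110) (Btab_111) (Nat.ble 111 c)
noncomputable def Btab_s_109_112 (c : Nat) : Nat := @Bool.rec (fun _ => Nat) (Btab_109) (Btab_s_110_112 c) (Nat.ble 110 c)
noncomputable def Btab_s_107_112 (c : Nat) : Nat := @Bool.rec (fun _ => Nat) (Btab_s_107_109 c) (Btab_s_109_112 c) (Nat.ble 109 c)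
noncomputable def Btab_s_112_114 (c : Nat) : Nat := @Bool.rec (fun _ => Nat) (Btab_112) (Btab_113) (Nat.ble 113 c)
noncomputable def Btab_s_115_117 (c : Nat) : Nat := @Bool.rec (fun _ => Nat) (Btab_115) (Btab_116) (Nat.ble 116 c)
noncomputable def Btab_s_114_117 (c : Nat) : Nat := @Bool.rec (fun _ => Nat) (Btab_114) (Btab_s_115_117 c) (Nat.ble 115 c)
noncomputable def Btab_s_112_117 (c : Nat) : Nat := @Bool.rec (fun _ => Nat) (Btab_s_112_114 c) (Btab_s_114_117 c) (Nat.ble 114 c)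
noncomputable def Btab_s_107_117 (c : Nat) : Nat := @Bool.rec (fun _ => Nat) (Btab_s_107_112 c) (Btab_s_112_117 c) (Nat.ble 112 c)
noncomputable def Btab_s_97_117 (c : Nat) : Nat := @Bool.rec (fun _ => Nat) (Btab_s_97_107 c) (Btab_s_107_117 c) (Nat.ble 107 c)
noncomputable def Btab_s_78_117 (c : Nat) : Nat := @Bool.rec (fun _ => Nat) (Btab_s_78_97 c) (Btab_s_97_117 c) (Nat.ble 97 c)
noncomputable def Btab_s_117_119 (c : Nat) : Nat := @Bool.rec (fun _ => Nat) (Btab_117) (Btab_118) (Nat.ble 118 c)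
noncomputable def Btab_s_119_121 (c : Nat) : Nat := @Bool.rec (fun _ => Nat) (Btab_119) (Btab_120) (Nat.ble 120 c)
noncomputable def Btab_s_117_121 (c : Nat) : Nat := @Bool.rec (fun _ => Nat) (Btab_s_117_119 c) (Btab_s_119_121 c) (Nat.ble 119 c)
noncomputable def Btab_s_121_123 (c : Nat) : Nat := @Bool.rec (fun _ => Nat) (Btab_121) (Btab_122) (Nat.ble 122 c)
noncomputable def Btab_s_124_126 (c : Nat) : Nat := @Bool.rec (fun _ => Nat) (Btab_124) (Btab_125) (Nat.ble 125 c)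
noncomputable def Btab_s_123_126 (c : Nat) : Nat := @Bool.rec (fun _ => Nat) (Btab_123) (Btab_s_124_126 c) (Nat.ble 124 c)
noncomputable def Btab_s_121_126 (c : Nat) : Nat := @Bool.rec (fun _ => Nat) (Btab_s_121_123 c) (Btab_s_123_126 c) (Nat.ble 123 c)
noncomputable def Btab_s_117_126 (c : Nat) : Nat := @Bool.rec (fun _ => Nat) (Btab_s_117_121 c) (Btab_s_121_126 c) (Nat.ble 121 c)
noncomputable def Btab_s_126_128 (c : Nat) : Nat := @Bool.rec (fun _ => Nat) (Btab_126) (Btab_127) (Nat.ble 127 c)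
noncomputable def Btab_s_129_131 (c : Nat) : Nat := @Bool.rec (fun _ => Nat) (Btab_129) (Btab_130) (Nat.ble 130 c)
noncomputable def Btab_s_128_131 (c : Nat) : Nat := @Bool.rec (fun _ => Nat) (Btab_128) (Btab_s_129_131 c) (Nat.ble 129 c)
noncomputable def Btab_s_126_131 (c : Nat) : Nat := @Bool.rec (fun _ => Nat) (Btab_s_126_128 c) (Btab_s_128_131 c) (Nat.ble 128 c)
noncomputable def Btab_s_131_133 (c : Nat) : Nat := @Bool.rec (fun _ => Nat) (Btab_131) (Btab_132) (Nat.ble 132 c)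
noncomputable def Btab_s_134_136 (c : Nat) : Nat := @Bool.rec (fun _ => Nat) (Btab_134) (Btab_135) (Nat.ble 135 c)
noncomputable def Btab_s_133_136 (c : Nat) : Nat := @Bool.rec (fun _ => Nat) (Btab_133) (Btab_s_134_136 c) (Nat.ble 134 c)
noncomputable def Btab_s_131_136 (c : Nat) : Nat := @Bool.rec (fun _ => Nat) (Btab_s_131_133 c) (Btab_s_133_136 c) (Nat.ble 133 c)
noncomputable def Btab_s_126_136 (c : Nat) : Nat := @Bool.rec (fun _ => Nat) (Btab_s_126_131 c) (Btab_s_131_136 c) (Nat.ble 131 c)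
noncomputable def Btab_s_117_136 (c : Nat) : Nat := @Bool.rec (fun _ => Nat) (Btab_s_117_126 c) (Btab_s_126_136 c) (Nat.ble 126 c)
noncomputable def Btab_s_136_138 (c : Nat) : Nat := @Bool.rec (fun _ => Nat) (Btab_136) (Btab_137) (Nat.ble 137 c)
noncomputable def Btab_s_139_141 (c : Nat) : Nat := @Bool.rec (fun _ => Nat) (Btab_139) (Btab_140) (Nat.ble 140 c)
noncomputable def Btab_s_138_141 (c : Nat) : Nat := @Bool.rec (fun _ => Nat) (Btab_138) (Btab_s_139_141 c) (Nat.ble 139 c)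
noncomputable def Btab_s_136_141 (c : Nat) : Nat := @Bool.rec (fun _ => Nat) (Btab_s_136_138 c) (Btab_s_138_141 c) (Nat.ble 138 c)
noncomputable def Btab_s_141_143 (c : Nat) : Nat := @Bool.rec (fun _ => Nat) (Btab_141) (Btab_142) (Nat.ble 142 c)
noncomputable def Btab_s_144_146 (c : Nat) : Nat := @Bool.rec (fun _ => Nat) (Btab_144) (Btab_145) (Nat.ble 145 c)
noncomputable def Btab_s_143_146 (c : Nat) : Nat := @Bool.rec (fun _ => Nat) (Btab_143) (Btab_s_144_146 c) (Nat.ble 144 c)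
noncomputable def Btab_s_141_146 (c : Nat) : Nat := @Bool.rec (fun _ => Nat) (Btab_s_141_143 c) (Btab_s_143_146 c) (Nat.ble 143 c)
noncomputable def Btab_s_136_146 (c : Nat) : Nat := @Bool.rec (fun _ => Nat) (Btab_s_136_141 c) (Btab_s_141_146 c) (Nat.ble 141 c)
noncomputable def Btab_s_146_148 (c : Nat) : Nat := @Bool.rec (fun _ => Nat) (Btab_146) (Btab_147) (Nat.ble 147 c)
noncomputable def Btab_s_149_151 (c : Nat) : Nat := @Bool.rec (fun _ => Nat) (Btab_149) (Btab_150) (Nat.ble 150 c)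
noncomputable def Btab_s_148_151 (c : Nat) : Nat := @Bool.rec (fun _ => Nat) (Btab_148) (Btab_s_149_151 c) (Nat.ble 149 c)
noncomputable def Btab_s_146_151 (c : Nat) : Nat := @Bool.rec (fun _ => Nat) (Btab_s_146_148 c) (Btab_s_148_151 c) (Nat.ble 148 c)
noncomputable def Btab_s_151_153 (c : Nat) : Nat := @Bool.rec (fun _ => Nat) (Btab_151) (Btab_152) (Nat.ble 152 c)
noncomputable def Btab_s_154_156 (c : Nat) : Nat := @Bool.rec (fun _ => Nat) (Btab_154) (Btab_155) (Nat.ble 155 c)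
noncomputable def Btab_s_153_156 (c : Nat) : Nat := @Bool.rec (fun _ => Nat) (Btab_153) (Btab_s_154_156 c) (Nat.ble 154 c)
noncomputable def Btab_s_151_156 (c : Nat) : Nat := @Bool.rec (fun _ => Nat) (Btab_s_151_153 c) (Btab_s_153_156 c) (Nat.ble 153 c)
noncomputable def Btab_s_146_156 (c : Nat) : Nat := @Bool.rec (fun _ => Nat) (Btab_s_146_151 c) (Btab_s_151_156 c) (Nat.ble 151 c)
noncomputable def Btab_s_136_156 (c : Nat) : Nat := @Bool.rec (fun _ => Nat) (Btab_s_136_146 c) (Btab_s_146_156 c) (Nat.ble 146 c)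
noncomputable def Btab_s_117_156 (c : Nat) : Nat := @Bool.rec (fun _ => Nat) (Btab_s_117_136 c) (Btab_s_136_156 c) (Nat.ble 136 c)
noncomputable def Btab_s_78_156 (c : Nat) : Nat := @Bool.rec (fun _ => Nat) (Btab_s_78_117 c) (Btab_s_117_156 c) (Nat.ble 117 c)
noncomputable def Btab_s_0_156 (c : Nat) : Nat := @Bool.rec (fun _ => Nat) (Btab_s_0_78 c) (Btab_s_78_156 c) (Nat.ble 78 c)
noncomputable def Btab_s_156_158 (c : Nat) : Nat := @Bool.rec (fun _ => Nat) (Btab_156) (Btab_157) (Nat.ble 157 c)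
noncomputable def Btab_s_158_160 (c : Nat) : Nat := @Bool.rec (fun _ => Nat) (Btab_158) (Btab_159) (Nat.ble 159 c)
noncomputable def Btab_s_156_160 (c : Nat) : Nat := @Bool.rec (fun _ => Nat) (Btab_s_156_158 c) (Btab_s_158_160 c) (Nat.ble 158 c)
noncomputable def Btab_s_160_162 (c : Nat) : Nat := @Bool.rec (fun _ => Nat) (Btab_160) (Btab_161) (Nat.ble 161 c)
noncomputable def Btab_s_163_165 (c : Nat) : Nat := @Bool.rec (fun _ => Nat) (Btab_163) (Btab_164) (Nat.ble 164 c)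
noncomputable def Btab_s_162_165 (c : Nat) : Nat := @Bool.rec (fun _ => Nat) (Btab_162) (Btab_s_163_165 c) (Nat.ble 163 c)
noncomputable def Btab_s_160_165 (c : Nat) : Nat := @Bool.rec (fun _ => Nat) (Btab_s_160_162 c) (Btab_s_162_165 c) (Nat.ble 162 c)
noncomputable def Btab_s_156_165 (c : Nat) : Nat := @Bool.rec (fun _ => Nat) (Btab_s_156_160 c) (Btab_s_160_165 c) (Nat.ble 160 c)
noncomputable def Btab_s_165_167 (c : Nat) : Nat := @Bool.rec (fun _ => Nat) (Btab_165) (Btab_166) (Nat.ble 166 c)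
noncomputable def Btab_s_168_170 (c : Nat) : Nat := @Bool.rec (fun _ => Nat) (Btab_168) (Btab_169) (Nat.ble 169 c)
noncomputable def Btab_s_167_170 (c : Nat) : Nat := @Bool.rec (fun _ => Nat) (Btab_167) (Btab_s_168_170 c) (Nat.ble 168 c)
noncomputable def Btab_s_165_170 (c : Nat) : Nat := @Bool.rec (fun _ => Nat) (Btab_s_165_167 c) (Btab_s_167_170 c) (Nat.ble 167 c)
noncomputable def Btab_s_170_172 (c : Nat) : Nat := @Bool.rec (fun _ => Nat) (Btab_170) (Btab_171) (Nat.ble 171 c)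
noncomputable def Btab_s_173_175 (c : Nat) : Nat := @Bool.rec (fun _ => Nat) (Btab_173) (Btab_174) (Nat.ble 174 c)
noncomputable def Btab_s_172_175 (c : Nat) : Nat := @Bool.rec (fun _ => Nat) (Btab_172) (Btab_s_173_175 c) (Nat.ble 173 c)
noncomputable def Btab_s_170_175 (c : Nat) : Nat := @Bool.rec (fun _ => Nat) (Btab_s_170_172 c) (Btab_s_172_175 c) (Nat.ble 172 c)
noncomputable def Btab_s_165_175 (c : Nat) : Nat := @Bool.rec (fun _ => Nat) (Btab_s_165_170 c) (Btab_s_170_175 c) (Nat.ble 170 c)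
noncomputable def Btab_s_156_175 (c : Nat) : Nat := @Bool.rec (fun _ => Nat) (Btab_s_156_165 c) (Btab_s_165_175 c) (Nat.ble 165 c)
noncomputable def Btab_s_175_177 (c : Nat) : Nat := @Bool.rec (fun _ => Nat) (Btab_175) (Btab_176) (Nat.ble 176 c)
noncomputable def Btab_s_178_180 (c : Nat) : Nat := @Bool.rec (fun _ => Nat) (Btab_178) (Btab_179) (Nat.ble 179 c)
noncomputable def Btab_s_177_180 (c : Nat) : Nat := @Bool.rec (fun _ => Nat) (Btab_177) (Btab_s_178_180 c) (Nat.ble 178 c)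
noncomputable def Btab_s_175_180 (c : Nat) : Nat := @Bool.rec (fun _ => Nat) (Btab_s_175_177 c) (Btab_s_177_180 c) (Nat.ble 177 c)
noncomputable def Btab_s_180_182 (c : Nat) : Nat := @Bool.rec (fun _ => Nat) (Btab_180) (Btab_181) (Nat.ble 181 c)
noncomputable def Btab_s_183_185 (c : Nat) : Nat := @Bool.rec (fun _ => Nat) (Btab_183) (Btab_184) (Nat.ble 184 c)
noncomputable def Btab_s_182_185 (c : Nat) : Nat := @Bool.rec (fun _ => Nat) (Btab_182) (Btab_s_183_185 c) (Nat.ble 183 c)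
noncomputable def Btab_s_180_185 (c : Nat) : Nat := @Bool.rec (fun _ => Nat) (Btab_s_180_182 c) (Btab_s_182_185 c) (Nat.ble 182 c)
noncomputable def Btab_s_175_185 (c : Nat) : Nat := @Bool.rec (fun _ => Nat) (Btab_s_175_180 c) (Btab_s_180_185 c) (Nat.ble 180 c)
noncomputable def Btab_s_185_187 (c : Nat) : Nat := @Bool.rec (fun _ => Nat) (Btab_185) (Btab_186) (Nat.ble 186 c)
noncomputable def Btab_s_188_190 (c : Nat) : Nat := @Bool.rec (fun _ => Nat) (Btab_188) (Btab_189) (Nat.ble 189 c)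
noncomputable def Btab_s_187_190 (c : Nat) : Nat := @Bool.rec (fun _ => Nat) (Btab_187) (Btab_s_188_190 c) (Nat.ble 188 c)
noncomputable def Btab_s_185_190 (c : Nat) : Nat := @Bool.rec (fun _ => Nat) (Btab_s_185_187 c) (Btab_s_187_190 c) (Nat.ble 187 c)
noncomputable def Btab_s_190_192 (c : Nat) : Nat := @Bool.rec (fun _ => Nat) (Btab_190) (Btab_191) (Nat.ble 191 c)
noncomputable def Btab_s_193_195 (c : Nat) : Nat := @Bool.rec (fun _ => Nat) (Btab_193) (Btab_194) (Nat.ble 194 c)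
noncomputable def Btab_s_192_195 (c : Nat) : Nat := @Bool.rec (fun _ => Nat) (Btab_192) (Btab_s_193_195 c) (Nat.ble 193 c)
noncomputable def Btab_s_190_195 (c : Nat) : Nat := @Bool.rec (fun _ => Nat) (Btab_s_190_192 c) (Btab_s_192_195 c) (Nat.ble 192 c)
noncomputable def Btab_s_185_195 (c : Nat) : Nat := @Bool.rec (fun _ => Nat) (Btab_s_185_190 c) (Btab_s_190_195 c) (Nat.ble 190 c)
noncomputable def Btab_s_175_195 (c : Nat) : Nat := @Bool.rec (fun _ => Nat) (Btab_s_175_185 c) (Btab_s_185_195 c) (Nat.ble 185 c)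
noncomputable def Btab_s_156_195 (c : Nat) : Nat := @Bool.rec (fun _ => Nat) (Btab_s_156_175 c) (Btab_s_175_195 c) (Nat.ble 175 c)
noncomputable def Btab_s_195_197 (c : Nat) : Nat := @Bool.rec (fun _ => Nat) (Btab_195) (Btab_196) (Nat.ble 196 c)
noncomputable def Btab_s_197_199 (c : Nat) : Nat := @Bool.rec (fun _ => Nat) (Btab_197) (Btab_198) (Nat.ble 198 c)
noncomputable def Btab_s_195_199 (c : Nat) : Nat := @Bool.rec (fun _ => Nat) (Btab_s_195_197 c) (Btab_s_197_199 c) (Nat.ble 197 c)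
noncomputable def Btab_s_199_201 (c : Nat) : Nat := @Bool.rec (fun _ => Nat) (Btab_199) (Btab_200) (Nat.ble 200 c)
noncomputable def Btab_s_202_204 (c : Nat) : Nat := @Bool.rec (fun _ => Nat) (Btab_202) (Btab_203) (Nat.ble 203 c)
noncomputable def Btab_s_201_204 (c : Nat) : Nat := @Bool.rec (fun _ => Nat) (Btab_201) (Btab_s_202_204 c) (Nat.ble 202 c)
noncomputable def Btab_s_199_204 (c : Nat) : Nat := @Bool.rec (fun _ => Nat) (Btab_s_199_201 c) (Btab_s_201_204 c) (Nat.ble 201 c)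
noncomputable def Btab_s_195_204 (c : Nat) : Nat := @Bool.rec (fun _ => Nat) (Btab_s_195_199 c) (Btab_s_199_204 c) (Nat.ble 199 c)
noncomputable def Btab_s_204_206 (c : Nat) : Nat := @Bool.rec (fun _ => Nat) (Btab_204) (Btab_205) (Nat.ble 205 c)
noncomputable def Btab_s_207_209 (c : Nat) : Nat := @Bool.rec (fun _ => Nat) (Btab_207) (Btab_208) (Nat.ble 208 c)
noncomputable def Btab_s_206_209 (c : Nat) : Nat := @Bool.rec (fun _ => Nat) (Btab_206) (Btab_s_207_209 c) (Nat.ble 207 c)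
noncomputable def Btab_s_204_209 (c : Nat) : Nat := @Bool.rec (fun _ => Nat) (Btab_s_204_206 c) (Btab_s_206_209 c) (Nat.ble 206 c)
noncomputable def Btab_s_209_211 (c : Nat) : Nat := @Bool.rec (fun _ => Nat) (Btab_209) (Btab_210) (Nat.ble 210 c)
noncomputable def Btab_s_212_214 (c : Nat) : Nat := @Bool.rec (fun _ => Nat) (Btab_212) (Btab_213) (Nat.ble 213 c)
noncomputable def Btab_s_211_214 (c : Nat) : Nat := @Bool.rec (fun _ => Nat) (Btab_211) (Btab_s_212_214 c) (Nat.ble 212 c)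
noncomputable def Btab_s_209_214 (c : Nat) : Nat := @Bool.rec (fun _ => Nat) (Btab_s_209_211 c) (Btab_s_211_214 c) (Nat.ble 211 c)
noncomputable def Btab_s_204_214 (c : Nat) : Nat := @Bool.rec (fun _ => Nat) (Btab_s_204_209 c) (Btab_s_209_214 c) (Nat.ble 209 c)
noncomputable def Btab_s_195_214 (c : Nat) : Nat := @Bool.rec (fun _ => Nat) (Btab_s_195_204 c) (Btab_s_204_214 c) (Nat.ble 204 c)
noncomputable def Btab_s_214_216 (c : Nat) : Nat := @Bool.rec (fun _ => Nat) (Btab_214) (Btab_215) (Nat.ble 215 c)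
noncomputable def Btab_s_217_219 (c : Nat) : Nat := @Bool.rec (fun _ => Nat) (Btab_217) (Btab_218) (Nat.ble 218 c)
noncomputable def Btab_s_216_219 (c : Nat) : Nat := @Bool.rec (fun _ => Nat) (Btab_216) (Btab_s_217_219 c) (Nat.ble 217 c)
noncomputable def Btab_s_214_219 (c : Nat) : Nat := @Bool.rec (fun _ => Nat) (Btab_s_214_216 c) (Btab_s_216_219 c) (Nat.ble 216 c)
noncomputable def Btab_s_219_221 (c : Nat) : Nat := @Bool.rec (fun _ => Nat) (Btab_219) (Btab_220) (Nat.ble 220 c)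
noncomputable def Btab_s_222_224 (c : Nat) : Nat := @Bool.rec (fun _ => Nat) (Btab_222) (Btab_223) (Nat.ble 223 c)
noncomputable def Btab_s_221_224 (c : Nat) : Nat := @Bool.rec (fun _ => Nat) (Btab_221) (Btab_s_222_224 c) (Nat.ble 222 c)
noncomputable def Btab_s_219_224 (c : Nat) : Nat := @Bool.rec (fun _ => Nat) (Btab_s_219_221 c) (Btab_s_221_224 c) (Nat.ble 221 c)
noncomputable def Btab_s_214_224 (c : Nat) : Nat := @Bool.rec (fun _ => Nat) (Btab_s_214_219 c) (Btab_s_219_224 c) (Nat.ble 219 c)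
noncomputable def Btab_s_224_226 (c : Nat) : Nat := @Bool.rec (fun _ => Nat) (Btab_224) (Btab_225) (Nat.ble 225 c)
noncomputable def Btab_s_227_229 (c : Nat) : Nat := @Bool.rec (fun _ => Nat) (Btab_227) (Btab_228) (Nat.ble 228 c)
noncomputable def Btab_s_226_229 (c : Nat) : Nat := @Bool.rec (fun _ => Nat) (Btab_226) (Btab_s_227_229 c) (Nat.ble 227 c)
noncomputable def Btab_s_224_229 (c : Nat) : Nat := @Bool.rec (fun _ => Nat) (Btab_s_224_226 c) (Btab_s_226_229 c) (Nat.ble 226 c)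
noncomputable def Btab_s_229_231 (c : Nat) : Nat := @Bool.rec (fun _ => Nat) (Btab_229) (Btab_230) (Nat.ble 230 c)
noncomputable def Btab_s_232_234 (c : Nat) : Nat := @Bool.rec (fun _ => Nat) (Btab_232) (Btab_233) (Nat.ble 233 c)
noncomputable def Btab_s_231_234 (c : Nat) : Nat := @Bool.rec (fun _ => Nat) (Btab_231) (Btab_s_232_234 c) (Nat.ble 232 c)
noncomputable def Btab_s_229_234 (c : Nat) : Nat := @Bool.rec (fun _ => Nat) (Btab_s_229_231 c) (Btab_s_231_234 c) (Nat.ble 231 c)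
noncomputable def Btab_s_224_234 (c : Nat) : Nat := @Bool.rec (fun _ => Nat) (Btab_s_224_229 c) (Btab_s_229_234 c) (Nat.ble 229 c)
noncomputable def Btab_s_214_234 (c : Nat) : Nat := @Bool.rec (fun _ => Nat) (Btab_s_214_224 c) (Btab_s_224_234 c) (Nat.ble 224 c)
noncomputable def Btab_s_195_234 (c : Nat) : Nat := @Bool.rec (fun _ => Nat) (Btab_s_195_214 c) (Btab_s_214_234 c) (Nat.ble 214 c)
noncomputable def Btab_s_156_234 (c : Nat) : Nat := @Bool.rec (fun _ => Nat) (Btab_s_156_195 c) (Btab_s_195_234 c) (Nat.ble 195 c)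
noncomputable def Btab_s_234_236 (c : Nat) : Nat := @Bool.rec (fun _ => Nat) (Btab_234) (Btab_235) (Nat.ble 235 c)
noncomputable def Btab_s_236_238 (c : Nat) : Nat := @Bool.rec (fun _ => Nat) (Btab_236) (Btab_237) (Nat.ble 237 c)
noncomputable def Btab_s_234_238 (c : Nat) : Nat := @Bool.rec (fun _ => Nat) (Btab_s_234_236 c) (Btab_s_236_238 c) (Nat.ble 236 c)
noncomputable def Btab_s_238_240 (c : Nat) : Nat := @Bool.rec (fun _ => Nat) (Btab_238) (Btab_239) (Nat.ble 239 c)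
noncomputable def Btab_s_241_243 (c : Nat) : Nat := @Bool.rec (fun _ => Nat) (Btab_241) (Btab_242) (Nat.ble 242 c)
noncomputable def Btab_s_240_243 (c : Nat) : Nat := @Bool.rec (fun _ => Nat) (Btab_240) (Btab_s_241_243 c) (Nat.ble 241 c)
noncomputable def Btab_s_238_243 (c : Nat) : Nat := @Bool.rec (fun _ => Nat) (Btab_s_238_240 c) (Btab_s_240_243 c) (Nat.ble 240 c)
noncomputable def Btab_s_234_243 (c : Nat) : Nat := @Bool.rec (fun _ => Nat) (Btab_s_234_238 c) (Btab_s_238_243 c) (Nat.ble 238 c)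
noncomputable def Btab_s_243_245 (c : Nat) : Nat := @Bool.rec (fun _ => Nat) (Btab_243) (Btab_244) (Nat.ble 244 c)
noncomputable def Btab_s_246_248 (c : Nat) : Nat := @Bool.rec (fun _ => Nat) (Btab_246) (Btab_247) (Nat.ble 247 c)
noncomputable def Btab_s_245_248 (c : Nat) : Nat := @Bool.rec (fun _ => Nat) (Btab_245) (Btab_s_246_248 c) (Nat.ble 246 c)
noncomputable def Btab_s_243_248 (c : Nat) : Nat := @Bool.rec (fun _ => Nat) (Btab_s_243_245 c) (Btab_s_245_248 c) (Nat.ble 245 c)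
noncomputable def Btab_s_248_250 (c : Nat) : Nat := @Bool.rec (fun _ => Nat) (Btab_248) (Btab_249) (Nat.ble 249 c)
noncomputable def Btab_s_251_253 (c : Nat) : Nat := @Bool.rec (fun _ => Nat) (Btab_251) (Btab_252) (Nat.ble 252 c)
noncomputable def Btab_s_250_253 (c : Nat) : Nat := @Bool.rec (fun _ => Nat) (Btab_250) (Btab_s_251_253 c) (Nat.ble 251 c)
noncomputable def Btab_s_248_253 (c : Nat) : Nat := @Bool.rec (fun _ => Nat) (Btab_s_248_250 c) (Btab_s_250_253 c) (Nat.ble 250 c)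
noncomputable def Btab_s_243_253 (c : Nat) : Nat := @Bool.rec (fun _ => Nat) (Btab_s_243_248 c) (Btab_s_248_253 c) (Nat.ble 248 c)
noncomputable def Btab_s_234_253 (c : Nat) : Nat := @Bool.rec (fun _ => Nat) (Btab_s_234_243 c) (Btab_s_243_253 c) (Nat.ble 243 c)
noncomputable def Btab_s_253_255 (c : Nat) : Nat := @Bool.rec (fun _ => Nat) (Btab_253) (Btab_254) (Nat.ble 254 c)
noncomputable def Btab_s_256_258 (c : Nat) : Nat := @Bool.rec (fun _ => Nat) (Btab_256) (Btab_257) (Nat.ble 257 c)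
noncomputable def Btab_s_255_258 (c : Nat) : Nat := @Bool.rec (fun _ => Nat) (Btab_255) (Btab_s_256_258 c) (Nat.ble 256 c)
noncomputable def Btab_s_253_258 (c : Nat) : Nat := @Bool.rec (fun _ => Nat) (Btab_s_253_255 c) (Btab_s_255_258 c) (Nat.ble 255 c)
noncomputable def Btab_s_258_260 (c : Nat) : Nat := @Bool.rec (fun _ => Nat) (Btab_258) (Btab_259) (Nat.ble 259 c)
noncomputable def Btab_s_261_263 (c : Nat) : Nat := @Bool.rec (fun _ => Nat) (Btab_261) (Btab_262) (Nat.ble 262 c)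
noncomputable def Btab_s_260_263 (c : Nat) : Nat := @Bool.rec (fun _ => Nat) (Btab_260) (Btab_s_261_263 c) (Nat.ble 261 c)
noncomputable def Btab_s_258_263 (c : Nat) : Nat := @Bool.rec (fun _ => Nat) (Btab_s_258_260 c) (Btab_s_260_263 c) (Nat.ble 260 c)
noncomputable def Btab_s_253_263 (c : Nat) : Nat := @Bool.rec (fun _ => Nat) (Btab_s_253_258 c) (Btab_s_258_263 c) (Nat.ble 258 c)
noncomputable def Btab_s_263_265 (c : Nat) : Nat := @Bool.rec (fun _ => Nat) (Btab_263) (Btab_264) (Nat.ble 264 c)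
noncomputable def Btab_s_266_268 (c : Nat) : Nat := @Bool.rec (fun _ => Nat) (Btab_266) (Btab_267) (Nat.ble 267 c)
noncomputable def Btab_s_265_268 (c : Nat) : Nat := @Bool.rec (fun _ => Nat) (Btab_265) (Btab_s_266_268 c) (Nat.ble 266 c)
noncomputable def Btab_s_263_268 (c : Nat) : Nat := @Bool.rec (fun _ => Nat) (Btab_s_263_265 c) (Btab_s_265_268 c) (Nat.ble 265 c)
noncomputable def Btab_s_268_270 (c : Nat) : Nat := @Bool.rec (fun _ => Nat) (Btab_268) (Btab_269) (Nat.ble 269 c)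
noncomputable def Btab_s_271_273 (c : Nat) : Nat := @Bool.rec (fun _ => Nat) (Btab_271) (Btab_272) (Nat.ble 272 c)
noncomputable def Btab_s_270_273 (c : Nat) : Nat := @Bool.rec (fun _ => Nat) (Btab_270) (Btab_s_271_273 c) (Nat.ble 271 c)
noncomputable def Btab_s_268_273 (c : Nat) : Nat := @Bool.rec (fun _ => Nat) (Btab_s_268_270 c) (Btab_s_270_273 c) (Nat.ble 270 c)
noncomputable def Btab_s_263_273 (c : Nat) : Nat := @Bool.rec (fun _ => Nat) (Btab_s_263_268 c) (Btab_s_268_273 c) (Nat.ble 268 c)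
noncomputable def Btab_s_253_273 (c : Nat) : Nat := @Bool.rec (fun _ => Nat) (Btab_s_253_263 c) (Btab_s_263_273 c) (Nat.ble 263 c)
noncomputable def Btab_s_234_273 (c : Nat) : Nat := @Bool.rec (fun _ => Nat) (Btab_s_234_253 c) (Btab_s_253_273 c) (Nat.ble 253 c)
noncomputable def Btab_s_273_275 (c : Nat) : Nat := @Bool.rec (fun _ => Nat) (Btab_273) (Btab_274) (Nat.ble 274 c)
noncomputable def Btab_s_275_277 (c : Nat) : Nat := @Bool.rec (fun _ => Nat) (Btab_275) (Btab_276) (Nat.ble 276 c)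
noncomputable def Btab_s_273_277 (c : Nat) : Nat := @Bool.rec (fun _ => Nat) (Btab_s_273_275 c) (Btab_s_275_277 c) (Nat.ble 275 c)
noncomputable def Btab_s_277_279 (c : Nat) : Nat := @Bool.rec (fun _ => Nat) (Btab_277) (Btab_278) (Nat.ble 278 c)
noncomputable def Btab_s_280_282 (c : Nat) : Nat := @Bool.rec (fun _ => Nat) (Btab_280) (Btab_281) (Nat.ble 281 c)
noncomputable def Btab_s_279_282 (c : Nat) : Nat := @Bool.rec (fun _ => Nat) (Btab_279) (Btab_s_280_282 c) (Nat.ble 280 c)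
noncomputable def Btab_s_277_282 (c : Nat) : Nat := @Bool.rec (fun _ => Nat) (Btab_s_277_279 c) (Btab_s_279_282 c) (Nat.ble 279 c)
noncomputable def Btab_s_273_282 (c : Nat) : Nat := @Bool.rec (fun _ => Nat) (Btab_s_273_277 c) (Btab_s_277_282 c) (Nat.ble 277 c)
noncomputable def Btab_s_282_284 (c : Nat) : Nat := @Bool.rec (fun _ => Nat) (Btab_282) (Btab_283) (Nat.ble 283 c)
noncomputable def Btab_s_285_287 (c : Nat) : Nat := @Bool.rec (fun _ => Nat) (Btab_285) (Btab_286) (Nat.ble 286 c)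
noncomputable def Btab_s_284_287 (c : Nat) : Nat := @Bool.rec (fun _ => Nat) (Btab_284) (Btab_s_285_287 c) (Nat.ble 285 c)
noncomputable def Btab_s_282_287 (c : Nat) : Nat := @Bool.rec (fun _ => Nat) (Btab_s_282_284 c) (Btab_s_284_287 c) (Nat.ble 284 c)
noncomputable def Btab_s_287_289 (c : Nat) : Nat := @Bool.rec (fun _ => Nat) (Btab_287) (Btab_288) (Nat.ble 288 c)
noncomputable def Btab_s_290_292 (c : Nat) : Nat := @Bool.rec (fun _ => Nat) (Btab_290) (Btab_291) (Nat.ble 291 c)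
noncomputable def Btab_s_289_292 (c : Nat) : Nat := @Bool.rec (fun _ => Nat) (Btab_289) (Btab_s_290_292 c) (Nat.ble 290 c)
noncomputable def Btab_s_287_292 (c : Nat) : Nat := @Bool.rec (fun _ => Nat) (Btab_s_287_289 c) (Btab_s_289_292 c) (Nat.ble 289 c)
noncomputable def Btab_s_282_292 (c : Nat) : Nat := @Bool.rec (fun _ => Nat) (Btab_s_282_287 c) (Btab_s_287_292 c) (Nat.ble 287 c)
noncomputable def Btab_s_273_292 (c : Nat) : Nat := @Bool.rec (fun _ => Nat) (Btab_s_273_282 c) (Btab_s_282_292 c) (Nat.ble 282 c)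
noncomputable def Btab_s_292_294 (c : Nat) : Nat := @Bool.rec (fun _ => Nat) (Btab_292) (Btab_293) (Nat.ble 293 c)
noncomputable def Btab_s_295_297 (c : Nat) : Nat := @Bool.rec (fun _ => Nat) (Btab_295) (Btab_296) (Nat.ble 296 c)
noncomputable def Btab_s_294_297 (c : Nat) : Nat := @Bool.rec (fun _ => Nat) (Btab_294) (Btab_s_295_297 c) (Nat.ble 295 c)
noncomputable def Btab_s_292_297 (c : Nat) : Nat := @Bool.rec (fun _ => Nat) (Btab_s_292_294 c) (Btab_s_294_297 c) (Nat.ble 294 c)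
noncomputable def Btab_s_297_299 (c : Nat) : Nat := @Bool.rec (fun _ => Nat) (Btab_297) (Btab_298) (Nat.ble 298 c)
noncomputable def Btab_s_300_302 (c : Nat) : Nat := @Bool.rec (fun _ => Nat) (Btab_300) (Btab_301) (Nat.ble 301 c)
noncomputable def Btab_s_299_302 (c : Nat) : Nat := @Bool.rec (fun _ => Nat) (Btab_299) (Btab_s_300_302 c) (Nat.ble 300 c)
noncomputable def Btab_s_297_302 (c : Nat) : Nat := @Bool.rec (fun _ => Nat) (Btab_s_297_299 c) (Btab_s_299_302 c) (Nat.ble 299 c)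
noncomputable def Btab_s_292_302 (c : Nat) : Nat := @Bool.rec (fun _ => Nat) (Btab_s_292_297 c) (Btab_s_297_302 c) (Nat.ble 297 c)
noncomputable def Btab_s_302_304 (c : Nat) : Nat := @Bool.rec (fun _ => Nat) (Btab_302) (Btab_303) (Nat.ble 303 c)
noncomputable def Btab_s_305_307 (c : Nat) : Nat := @Bool.rec (fun _ => Nat) (Btab_305) (Btab_306) (Nat.ble 306 c)
noncomputable def Btab_s_304_307 (c : Nat) : Nat := @Bool.rec (fun _ => Nat) (Btab_304) (Btab_s_305_307 c) (Nat.ble 305 c)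
noncomputable def Btab_s_302_307 (c : Nat) : Nat := @Bool.rec (fun _ => Nat) (Btab_s_302_304 c) (Btab_s_304_307 c) (Nat.ble 304 c)
noncomputable def Btab_s_307_309 (c : Nat) : Nat := @Bool.rec (fun _ => Nat) (Btab_307) (Btab_308) (Nat.ble 308 c)
noncomputable def Btab_s_310_312 (c : Nat) : Nat := @Bool.rec (fun _ => Nat) (Btab_310) (Btab_311) (Nat.ble 311 c)
noncomputable def Btab_s_309_312 (c : Nat) : Nat := @Bool.rec (fun _ => Nat) (Btab_309) (Btab_s_310_312 c) (Nat.ble 310 c)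
noncomputable def Btab_s_307_312 (c : Nat) : Nat := @Bool.rec (fun _ => Nat) (Btab_s_307_309 c) (Btab_s_309_312 c) (Nat.ble 309 c)
noncomputable def Btab_s_302_312 (c : Nat) : Nat := @Bool.rec (fun _ => Nat) (Btab_s_302_307 c) (Btab_s_307_312 c) (Nat.ble 307 c)
noncomputable def Btab_s_292_312 (c : Nat) : Nat := @Bool.rec (fun _ => Nat) (Btab_s_292_302 c) (Btab_s_302_312 c) (Nat.ble 302 c)
noncomputable def Btab_s_273_312 (c : Nat) : Nat := @Bool.rec (fun _ => Nat) (Btab_s_273_292 c) (Btab_s_292_312 c) (Nat.ble 292 c)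
noncomputable def Btab_s_234_312 (c : Nat) : Nat := @Bool.rec (fun _ => Nat) (Btab_s_234_273 c) (Btab_s_273_312 c) (Nat.ble 273 c)
noncomputable def Btab_s_156_312 (c : Nat) : Nat := @Bool.rec (fun _ => Nat) (Btab_s_156_234 c) (Btab_s_234_312 c) (Nat.ble 234 c)
noncomputable def Btab_s_0_312 (c : Nat) : Nat := @Bool.rec (fun _ => Nat) (Btab_s_0_156 c) (Btab_s_156_312 c) (Nat.ble 156 c)
noncomputable def Btab_s_312_314 (c : Nat) : Nat := @Bool.rec (fun _ => Nat) (Btab_312) (Btab_313) (Nat.ble 313 c)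
noncomputable def Btab_s_314_316 (c : Nat) : Nat := @Bool.rec (fun _ => Nat) (Btab_314) (Btab_315) (Nat.ble 315 c)
noncomputable def Btab_s_312_316 (c : Nat) : Nat := @Bool.rec (fun _ => Nat) (Btab_s_312_314 c) (Btab_s_314_316 c) (Nat.ble 314 c)
noncomputable def Btab_s_316_318 (c : Nat) : Nat := @Bool.rec (fun _ => Nat) (Btab_316) (Btab_317) (Nat.ble 317 c)
noncomputable def Btab_s_319_321 (c : Nat) : Nat := @Bool.rec (fun _ => Nat) (Btab_319) (Btab_320) (Nat.ble 320 c)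
noncomputable def Btab_s_318_321 (c : Nat) : Nat := @Bool.rec (fun _ => Nat) (Btab_318) (Btab_s_319_321 c) (Nat.ble 319 c)
noncomputable def Btab_s_316_321 (c : Nat) : Nat := @Bool.rec (fun _ => Nat) (Btab_s_316_318 c) (Btab_s_318_321 c) (Nat.ble 318 c)
noncomputable def Btab_s_312_321 (c : Nat) : Nat := @Bool.rec (fun _ => Nat) (Btab_s_312_316 c) (Btab_s_316_321 c) (Nat.ble 316 c)
noncomputable def Btab_s_321_323 (c : Nat) : Nat := @Bool.rec (fun _ => Nat) (Btab_321) (Btab_322) (Nat.ble 322 c)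
noncomputable def Btab_s_324_326 (c : Nat) : Nat := @Bool.rec (fun _ => Nat) (Btab_324) (Btab_325) (Nat.ble 325 c)
noncomputable def Btab_s_323_326 (c : Nat) : Nat := @Bool.rec (fun _ => Nat) (Btab_323) (Btab_s_324_326 c) (Nat.ble 324 c)
noncomputable def Btab_s_321_326 (c : Nat) : Nat := @Bool.rec (fun _ => Nat) (Btab_s_321_323 c) (Btab_s_323_326 c) (Nat.ble 323 c)
noncomputable def Btab_s_326_328 (c : Nat) : Nat := @Bool.rec (fun _ => Nat) (Btab_326) (Btab_327) (Nat.ble 327 c)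
noncomputable def Btab_s_329_331 (c : Nat) : Nat := @Bool.rec (fun _ => Nat) (Btab_329) (Btab_330) (Nat.ble 330 c)
noncomputable def Btab_s_328_331 (c : Nat) : Nat := @Bool.rec (fun _ => Nat) (Btab_328) (Btab_s_329_331 c) (Nat.ble 329 c)
noncomputable def Btab_s_326_331 (c : Nat) : Nat := @Bool.rec (fun _ => Nat) (Btab_s_326_328 c) (Btab_s_328_331 c) (Nat.ble 328 c)
noncomputable def Btab_s_321_331 (c : Nat) : Nat := @Bool.rec (fun _ => Nat) (Btab_s_321_326 c) (Btab_s_326_331 c) (Nat.ble 326 c)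
noncomputable def Btab_s_312_331 (c : Nat) : Nat := @Bool.rec (fun _ => Nat) (Btab_s_312_321 c) (Btab_s_321_331 c) (Nat.ble 321 c)
noncomputable def Btab_s_331_333 (c : Nat) : Nat := @Bool.rec (fun _ => Nat) (Btab_331) (Btab_332) (Nat.ble 332 c)
noncomputable def Btab_s_334_336 (c : Nat) : Nat := @Bool.rec (fun _ => Nat) (Btab_334) (Btab_335) (Nat.ble 335 c)
noncomputable def Btab_s_333_336 (c : Nat) : Nat := @Bool.rec (fun _ => Nat) (Btab_333) (Btab_s_334_336 c) (Nat.ble 334 c)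
noncomputable def Btab_s_331_336 (c : Nat) : Nat := @Bool.rec (fun _ => Nat) (Btab_s_331_333 c) (Btab_s_333_336 c) (Nat.ble 333 c)
noncomputable def Btab_s_336_338 (c : Nat) : Nat := @Bool.rec (fun _ => Nat) (Btab_336) (Btab_337) (Nat.ble 337 c)
noncomputable def Btab_s_339_341 (c : Nat) : Nat := @Bool.rec (fun _ => Nat) (Btab_339) (Btab_340) (Nat.ble 340 c)
noncomputable def Btab_s_338_341 (c : Nat) : Nat := @Bool.rec (fun _ => Nat) (Btab_338) (Btab_s_339_341 c) (Nat.ble 339 c)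
noncomputable def Btab_s_336_341 (c : Nat) : Nat := @Bool.rec (fun _ => Nat) (Btab_s_336_338 c) (Btab_s_338_341 c) (Nat.ble 338 c)
noncomputable def Btab_s_331_341 (c : Nat) : Nat := @Bool.rec (fun _ => Nat) (Btab_s_331_336 c) (Btab_s_336_341 c) (Nat.ble 336 c)
noncomputable def Btab_s_341_343 (c : Nat) : Nat := @Bool.rec (fun _ => Nat) (Btab_341) (Btab_342) (Nat.ble 342 c)
noncomputable def Btab_s_344_346 (c : Nat) : Nat := @Bool.rec (fun _ => Nat) (Btab_344) (Btab_345) (Nat.ble 345 c)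
noncomputable def Btab_s_343_346 (c : Nat) : Nat := @Bool.rec (fun _ => Nat) (Btab_343) (Btab_s_344_346 c) (Nat.ble 344 c)
noncomputable def Btab_s_341_346 (c : Nat) : Nat := @Bool.rec (fun _ => Nat) (Btab_s_341_343 c) (Btab_s_343_346 c) (Nat.ble 343 c)
noncomputable def Btab_s_346_348 (c : Nat) : Nat := @Bool.rec (fun _ => Nat) (Btab_346) (Btab_347) (Nat.ble 347 c)
noncomputable def Btab_s_349_351 (c : Nat) : Nat := @Bool.rec (fun _ => Nat) (Btab_349) (Btab_350) (Nat.ble 350 c)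
noncomputable def Btab_s_348_351 (c : Nat) : Nat := @Bool.rec (fun _ => Nat) (Btab_348) (Btab_s_349_351 c) (Nat.ble 349 c)
noncomputable def Btab_s_346_351 (c : Nat) : Nat := @Bool.rec (fun _ => Nat) (Btab_s_346_348 c) (Btab_s_348_351 c) (Nat.ble 348 c)
noncomputable def Btab_s_341_351 (c : Nat) : Nat := @Bool.rec (fun _ => Nat) (Btab_s_341_346 c) (Btab_s_346_351 c) (Nat.ble 346 c)
noncomputable def Btab_s_331_351 (c : Nat) : Nat := @Bool.rec (fun _ => Nat) (Btab_s_331_341 c) (Btab_s_341_351 c) (Nat.ble 341 c)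
noncomputable def Btab_s_312_351 (c : Nat) : Nat := @Bool.rec (fun _ => Nat) (Btab_s_312_331 c) (Btab_s_331_351 c) (Nat.ble 331 c)
noncomputable def Btab_s_351_353 (c : Nat) : Nat := @Bool.rec (fun _ => Nat) (Btab_351) (Btab_352) (Nat.ble 352 c)
noncomputable def Btab_s_353_355 (c : Nat) : Nat := @Bool.rec (fun _ => Nat) (Btab_353) (Btab_354) (Nat.ble 354 c)
noncomputable def Btab_s_351_355 (c : Nat) : Nat := @Bool.rec (fun _ => Nat) (Btab_s_351_353 c) (Btab_s_353_355 c) (Nat.ble 353 c)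
noncomputable def Btab_s_355_357 (c : Nat) : Nat := @Bool.rec (fun _ => Nat) (Btab_355) (Btab_356) (Nat.ble 356 c)
noncomputable def Btab_s_358_360 (c : Nat) : Nat := @Bool.rec (fun _ => Nat) (Btab_358) (Btab_359) (Nat.ble 359 c)
noncomputable def Btab_s_357_360 (c : Nat) : Nat := @Bool.rec (fun _ => Nat) (Btab_357) (Btab_s_358_360 c) (Nat.ble 358 c)
noncomputable def Btab_s_355_360 (c : Nat) : Nat := @Bool.rec (fun _ => Nat) (Btab_s_355_357 c) (Btab_s_357_360 c) (Nat.ble 357 c)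
noncomputable def Btab_s_351_360 (c : Nat) : Nat := @Bool.rec (fun _ => Nat) (Btab_s_351_355 c) (Btab_s_355_360 c) (Nat.ble 355 c)
noncomputable def Btab_s_360_362 (c : Nat) : Nat := @Bool.rec (fun _ => Nat) (Btab_360) (Btab_361) (Nat.ble 361 c)
noncomputable def Btab_s_363_365 (c : Nat) : Nat := @Bool.rec (fun _ => Nat) (Btab_363) (Btab_364) (Nat.ble 364 c)
noncomputable def Btab_s_362_365 (c : Nat) : Nat := @Bool.rec (fun _ => Nat) (Btab_362) (Btab_s_363_365 c) (Nat.ble 363 c)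
noncomputable def Btab_s_360_365 (c : Nat) : Nat := @Bool.rec (fun _ => Nat) (Btab_s_360_362 c) (Btab_s_362_365 c) (Nat.ble 362 c)
noncomputable def Btab_s_365_367 (c : Nat) : Nat := @Bool.rec (fun _ => Nat) (Btab_365) (Btab_366) (Nat.ble 366 c)
noncomputable def Btab_s_368_370 (c : Nat) : Nat := @Bool.rec (fun _ => Nat) (Btab_368) (Btab_369) (Nat.ble 369 c)
noncomputable def Btab_s_367_370 (c : Nat) : Nat := @Bool.rec (fun _ => Nat) (Btab_367) (Btab_s_368_370 c) (Nat.ble 368 c)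
noncomputable def Btab_s_365_370 (c : Nat) : Nat := @Bool.rec (fun _ => Nat) (Btab_s_365_367 c) (Btab_s_367_370 c) (Nat.ble 367 c)
noncomputable def Btab_s_360_370 (c : Nat) : Nat := @Bool.rec (fun _ => Nat) (Btab_s_360_365 c) (Btab_s_365_370 c) (Nat.ble 365 c)
noncomputable def Btab_s_351_370 (c : Nat) : Nat := @Bool.rec (fun _ => Nat) (Btab_s_351_360 c) (Btab_s_360_370 c) (Nat.ble 360 c)
noncomputable def Btab_s_370_372 (c : Nat) : Nat := @Bool.rec (fun _ => Nat) (Btab_370) (Btab_371) (Nat.ble 371 c)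
noncomputable def Btab_s_373_375 (c : Nat) : Nat := @Bool.rec (fun _ => Nat) (Btab_373) (Btab_374) (Nat.ble 374 c)
noncomputable def Btab_s_372_375 (c : Nat) : Nat := @Bool.rec (fun _ => Nat) (Btab_372) (Btab_s_373_375 c) (Nat.ble 373 c)
noncomputable def Btab_s_370_375 (c : Nat) : Nat := @Bool.rec (fun _ => Nat) (Btab_s_370_372 c) (Btab_s_372_375 c) (Nat.ble 372 c)
noncomputable def Btab_s_375_377 (c : Nat) : Nat := @Bool.rec (fun _ => Nat) (Btab_375) (Btab_376) (Nat.ble 376 c)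
noncomputable def Btab_s_378_380 (c : Nat) : Nat := @Bool.rec (fun _ => Nat) (Btab_378) (Btab_379) (Nat.ble 379 c)
noncomputable def Btab_s_377_380 (c : Nat) : Nat := @Bool.rec (fun _ => Nat) (Btab_377) (Btab_s_378_380 c) (Nat.ble 378 c)
noncomputable def Btab_s_375_380 (c : Nat) : Nat := @Bool.rec (fun _ => Nat) (Btab_s_375_377 c) (Btab_s_377_380 c) (Nat.ble 377 c)
noncomputable def Btab_s_370_380 (c : Nat) : Nat := @Bool.rec (fun _ => Nat) (Btab_s_370_375 c) (Btab_s_375_380 c) (Nat.ble 375 c)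
noncomputable def Btab_s_380_382 (c : Nat) : Nat := @Bool.rec (fun _ => Nat) (Btab_380) (Btab_381) (Nat.ble 381 c)
noncomputable def Btab_s_383_385 (c : Nat) : Nat := @Bool.rec (fun _ => Nat) (Btab_383) (Btab_384) (Nat.ble 384 c)
noncomputable def Btab_s_382_385 (c : Nat) : Nat := @Bool.rec (fun _ => Nat) (Btab_382) (Btab_s_383_385 c) (Nat.ble 383 c)
noncomputable def Btab_s_380_385 (c : Nat) : Nat := @Bool.rec (fun _ => Nat) (Btab_s_380_382 c) (Btab_s_382_385 c) (Nat.ble 382 c)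
noncomputable def Btab_s_385_387 (c : Nat) : Nat := @Bool.rec (fun _ => Nat) (Btab_385) (Btab_386) (Nat.ble 386 c)
noncomputable def Btab_s_388_390 (c : Nat) : Nat := @Bool.rec (fun _ => Nat) (Btab_388) (Btab_389) (Nat.ble 389 c)
noncomputable def Btab_s_387_390 (c : Nat) : Nat := @Bool.rec (fun _ => Nat) (Btab_387) (Btab_s_388_390 c) (Nat.ble 388 c)
noncomputable def Btab_s_385_390 (c : Nat) : Nat := @Bool.rec (fun _ => Nat) (Btab_s_385_387 c) (Btab_s_387_390 c) (Nat.ble 387 c)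
noncomputable def Btab_s_380_390 (c : Nat) : Nat := @Bool.rec (fun _ => Nat) (Btab_s_380_385 c) (Btab_s_385_390 c) (Nat.ble 385 c)
noncomputable def Btab_s_370_390 (c : Nat) : Nat := @Bool.rec (fun _ => Nat) (Btab_s_370_380 c) (Btab_s_380_390 c) (Nat.ble 380 c)
noncomputable def Btab_s_351_390 (c : Nat) : Nat := @Bool.rec (fun _ => Nat) (Btab_s_351_370 c) (Btab_s_370_390 c) (Nat.ble 370 c)
noncomputable def Btab_s_312_390 (c : Nat) : Nat := @Bool.rec (fun _ => Nat) (Btab_s_312_351 c) (Btab_s_351_390 c) (Nat.ble 351 c)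
noncomputable def Btab_s_390_392 (c : Nat) : Nat := @Bool.rec (fun _ => Nat) (Btab_390) (Btab_391) (Nat.ble 391 c)
noncomputable def Btab_s_392_394 (c : Nat) : Nat := @Bool.rec (fun _ => Nat) (Btab_392) (Btab_393) (Nat.ble 393 c)
noncomputable def Btab_s_390_394 (c : Nat) : Nat := @Bool.rec (fun _ => Nat) (Btab_s_390_392 c) (Btab_s_392_394 c) (Nat.ble 392 c)
noncomputable def Btab_s_394_396 (c : Nat) : Nat := @Bool.rec (fun _ => Nat) (Btab_394) (Btab_395) (Nat.ble 395 c)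
noncomputable def Btab_s_397_399 (c : Nat) : Nat := @Bool.rec (fun _ => Nat) (Btab_397) (Btab_398) (Nat.ble 398 c)
noncomputable def Btab_s_396_399 (c : Nat) : Nat := @Bool.rec (fun _ => Nat) (Btab_396) (Btab_s_397_399 c) (Nat.ble 397 c)
noncomputable def Btab_s_394_399 (c : Nat) : Nat := @Bool.rec (fun _ => Nat) (Btab_s_394_396 c) (Btab_s_396_399 c) (Nat.ble 396 c)
noncomputable def Btab_s_390_399 (c : Nat) : Nat := @Bool.rec (fun _ => Nat) (Btab_s_390_394 c) (Btab_s_394_399 c) (Nat.ble 394 c)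
noncomputable def Btab_s_399_401 (c : Nat) : Nat := @Bool.rec (fun _ => Nat) (Btab_399) (Btab_400) (Nat.ble 400 c)
noncomputable def Btab_s_402_404 (c : Nat) : Nat := @Bool.rec (fun _ => Nat) (Btab_402) (Btab_403) (Nat.ble 403 c)
noncomputable def Btab_s_401_404 (c : Nat) : Nat := @Bool.rec (fun _ => Nat) (Btab_401) (Btab_s_402_404 c) (Nat.ble 402 c)
noncomputable def Btab_s_399_404 (c : Nat) : Nat := @Bool.rec (fun _ => Nat) (Btab_s_399_401 c) (Btab_s_401_404 c) (Nat.ble 401 c)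
noncomputable def Btab_s_404_406 (c : Nat) : Nat := @Bool.rec (fun _ => Nat) (Btab_404) (Btab_405) (Nat.ble 405 c)
noncomputable def Btab_s_407_409 (c : Nat) : Nat := @Bool.rec (fun _ => Nat) (Btab_407) (Btab_408) (Nat.ble 408 c)
noncomputable def Btab_s_406_409 (c : Nat) : Nat := @Bool.rec (fun _ => Nat) (Btab_406) (Btab_s_407_409 c) (Nat.ble 407 c)
noncomputable def Btab_s_404_409 (c : Nat) : Nat := @Bool.rec (fun _ => Nat) (Btab_s_404_406 c) (Btab_s_406_409 c) (Nat.ble 406 c)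
noncomputable def Btab_s_399_409 (c : Nat) : Nat := @Bool.rec (fun _ => Nat) (Btab_s_399_404 c) (Btab_s_404_409 c) (Nat.ble 404 c)
noncomputable def Btab_s_390_409 (c : Nat) : Nat := @Bool.rec (fun _ => Nat) (Btab_s_390_399 c) (Btab_s_399_409 c) (Nat.ble 399 c)
noncomputable def Btab_s_409_411 (c : Nat) : Nat := @Bool.rec (fun _ => Nat) (Btab_409) (Btab_410) (Nat.ble 410 c)
noncomputable def Btab_s_412_414 (c : Nat) : Nat := @Bool.rec (fun _ => Nat) (Btab_412) (Btab_413) (Nat.ble 413 c)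
noncomputable def Btab_s_411_414 (c : Nat) : Nat := @Bool.rec (fun _ => Nat) (Btab_411) (Btab_s_412_414 c) (Nat.ble 412 c)
noncomputable def Btab_s_409_414 (c : Nat) : Nat := @Bool.rec (fun _ => Nat) (Btab_s_409_411 c) (Btab_s_411_414 c) (Nat.ble 411 c)
noncomputable def Btab_s_414_416 (c : Nat) : Nat := @Bool.rec (fun _ => Nat) (Btab_414) (Btab_415) (Nat.ble 415 c)
noncomputable def Btab_s_417_419 (c : Nat) : Nat := @Bool.rec (fun _ => Nat) (Btab_417) (Btab_418) (Nat.ble 418 c)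
noncomputable def Btab_s_416_419 (c : Nat) : Nat := @Bool.rec (fun _ => Nat) (Btab_416) (Btab_s_417_419 c) (Nat.ble 417 c)
noncomputable def Btab_s_414_419 (c : Nat) : Nat := @Bool.rec (fun _ => Nat) (Btab_s_414_416 c) (Btab_s_416_419 c) (Nat.ble 416 c)
noncomputable def Btab_s_409_419 (c : Nat) : Nat := @Bool.rec (fun _ => Nat) (Btab_s_409_414 c) (Btab_s_414_419 c) (Nat.ble 414 c)
noncomputable def Btab_s_419_421 (c : Nat) : Nat := @Bool.rec (fun _ => Nat) (Btab_419) (Btab_420) (Nat.ble 420 c)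
noncomputable def Btab_s_422_424 (c : Nat) : Nat := @Bool.rec (fun _ => Nat) (Btab_422) (Btab_423) (Nat.ble 423 c)
noncomputable def Btab_s_421_424 (c : Nat) : Nat := @Bool.rec (fun _ => Nat) (Btab_421) (Btab_s_422_424 c) (Nat.ble 422 c)
noncomputable def Btab_s_419_424 (c : Nat) : Nat := @Bool.rec (fun _ => Nat) (Btab_s_419_421 c) (Btab_s_421_424 c) (Nat.ble 421 c)
noncomputable def Btab_s_424_426 (c : Nat) : Nat := @Bool.rec (fun _ => Nat) (Btab_424) (Btab_425) (Nat.ble 425 c)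
noncomputable def Btab_s_427_429 (c : Nat) : Nat := @Bool.rec (fun _ => Nat) (Btab_427) (Btab_428) (Nat.ble 428 c)
noncomputable def Btab_s_426_429 (c : Nat) : Nat := @Bool.rec (fun _ => Nat) (Btab_426) (Btab_s_427_429 c) (Nat.ble 427 c)
noncomputable def Btab_s_424_429 (c : Nat) : Nat := @Bool.rec (fun _ => Nat) (Btab_s_424_426 c) (Btab_s_426_429 c) (Nat.ble 426 c)
noncomputable def Btab_s_419_429 (c : Nat) : Nat := @Bool.rec (fun _ => Nat) (Btab_s_419_424 c) (Btab_s_424_429 c) (Nat.ble 424 c)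
noncomputable def Btab_s_409_429 (c : Nat) : Nat := @Bool.rec (fun _ => Nat) (Btab_s_409_419 c) (Btab_s_419_429 c) (Nat.ble 419 c)
noncomputable def Btab_s_390_429 (c : Nat) : Nat := @Bool.rec (fun _ => Nat) (Btab_s_390_409 c) (Btab_s_409_429 c) (Nat.ble 409 c)
noncomputable def Btab_s_429_431 (c : Nat) : Nat := @Bool.rec (fun _ => Nat) (Btab_429) (Btab_430) (Nat.ble 430 c)
noncomputable def Btab_s_431_433 (c : Nat) : Nat := @Bool.rec (fun _ => Nat) (Btab_431) (Btab_432) (Nat.ble 432 c)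
noncomputable def Btab_s_429_433 (c : Nat) : Nat := @Bool.rec (fun _ => Nat) (Btab_s_429_431 c) (Btab_s_431_433 c) (Nat.ble 431 c)
noncomputable def Btab_s_433_435 (c : Nat) : Nat := @Bool.rec (fun _ => Nat) (Btab_433) (Btab_434) (Nat.ble 434 c)
noncomputable def Btab_s_436_438 (c : Nat) : Nat := @Bool.rec (fun _ => Nat) (Btab_436) (Btab_437) (Nat.ble 437 c)
noncomputable def Btab_s_435_438 (c : Nat) : Nat := @Bool.rec (fun _ => Nat) (Btab_435) (Btab_s_436_438 c) (Nat.ble 436 c)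
noncomputable def Btab_s_433_438 (c : Nat) : Nat := @Bool.rec (fun _ => Nat) (Btab_s_433_435 c) (Btab_s_435_438 c) (Nat.ble 435 c)
noncomputable def Btab_s_429_438 (c : Nat) : Nat := @Bool.rec (fun _ => Nat) (Btab_s_429_433 c) (Btab_s_433_438 c) (Nat.ble 433 c)
noncomputable def Btab_s_438_440 (c : Nat) : Nat := @Bool.rec (fun _ => Nat) (Btab_438) (Btab_439) (Nat.ble 439 c)
noncomputable def Btab_s_441_443 (c : Nat) : Nat := @Bool.rec (fun _ => Nat) (Btab_441) (Btab_442) (Nat.ble 442 c)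
noncomputable def Btab_s_440_443 (c : Nat) : Nat := @Bool.rec (fun _ => Nat) (Btab_440) (Btab_s_441_443 c) (Nat.ble 441 c)
noncomputable def Btab_s_438_443 (c : Nat) : Nat := @Bool.rec (fun _ => Nat) (Btab_s_438_440 c) (Btab_s_440_443 c) (Nat.ble 440 c)
noncomputable def Btab_s_443_445 (c : Nat) : Nat := @Bool.rec (fun _ => Nat) (Btab_443) (Btab_444) (Nat.ble 444 c)
noncomputable def Btab_s_446_448 (c : Nat) : Nat := @Bool.rec (fun _ => Nat) (Btab_446) (Btab_447) (Nat.ble 447 c)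
noncomputable def Btab_s_445_448 (c : Nat) : Nat := @Bool.rec (fun _ => Nat) (Btab_445) (Btab_s_446_448 c) (Nat.ble 446 c)
noncomputable def Btab_s_443_448 (c : Nat) : Nat := @Bool.rec (fun _ => Nat) (Btab_s_443_445 c) (Btab_s_445_448 c) (Nat.ble 445 c)
noncomputable def Btab_s_438_448 (c : Nat) : Nat := @Bool.rec (fun _ => Nat) (Btab_s_438_443 c) (Btab_s_443_448 c) (Nat.ble 443 c)
noncomputable def Btab_s_429_448 (c : Nat) : Nat := @Bool.rec (fun _ => Nat) (Btab_s_429_438 c) (Btab_s_438_448 c) (Nat.ble 438 c)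
noncomputable def Btab_s_448_450 (c : Nat) : Nat := @Bool.rec (fun _ => Nat) (Btab_448) (Btab_449) (Nat.ble 449 c)
noncomputable def Btab_s_451_453 (c : Nat) : Nat := @Bool.rec (fun _ => Nat) (Btab_451) (Btab_452) (Nat.ble 452 c)
noncomputable def Btab_s_450_453 (c : Nat) : Nat := @Bool.rec (fun _ => Nat) (Btab_450) (Btab_s_451_453 c) (Nat.ble 451 c)
noncomputable def Btab_s_448_453 (c : Nat) : Nat := @Bool.rec (fun _ => Nat) (Btab_s_448_450 c) (Btab_s_450_453 c) (Nat.ble 450 c)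
noncomputable def Btab_s_453_455 (c : Nat) : Nat := @Bool.rec (fun _ => Nat) (Btab_453) (Btab_454) (Nat.ble 454 c)
noncomputable def Btab_s_456_458 (c : Nat) : Nat := @Bool.rec (fun _ => Nat) (Btab_456) (Btab_457) (Nat.ble 457 c)
noncomputable def Btab_s_455_458 (c : Nat) : Nat := @Bool.rec (fun _ => Nat) (Btab_455) (Btab_s_456_458 c) (Nat.ble 456 c)
noncomputable def Btab_s_453_458 (c : Nat) : Nat := @Bool.rec (fun _ => Nat) (Btab_s_453_455 c) (Btab_s_455_458 c) (Nat.ble 455 c)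
noncomputable def Btab_s_448_458 (c : Nat) : Nat := @Bool.rec (fun _ => Nat) (Btab_s_448_453 c) (Btab_s_453_458 c) (Nat.ble 453 c)
noncomputable def Btab_s_458_460 (c : Nat) : Nat := @Bool.rec (fun _ => Nat) (Btab_458) (Btab_459) (Nat.ble 459 c)
noncomputable def Btab_s_461_463 (c : Nat) : Nat := @Bool.rec (fun _ => Nat) (Btab_461) (Btab_462) (Nat.ble 462 c)
noncomputable def Btab_s_460_463 (c : Nat) : Nat := @Bool.rec (fun _ => Nat) (Btab_460) (Btab_s_461_463 c) (Nat.ble 461 c)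
noncomputable def Btab_s_458_463 (c : Nat) : Nat := @Bool.rec (fun _ => Nat) (Btab_s_458_460 c) (Btab_s_460_463 c) (Nat.ble 460 c)
noncomputable def Btab_s_463_465 (c : Nat) : Nat := @Bool.rec (fun _ => Nat) (Btab_463) (Btab_464) (Nat.ble 464 c)
noncomputable def Btab_s_466_468 (c : Nat) : Nat := @Bool.rec (fun _ => Nat) (Btab_466) (Btab_467) (Nat.ble 467 c)
noncomputable def Btab_s_465_468 (c : Nat) : Nat := @Bool.rec (fun _ => Nat) (Btab_465) (Btab_s_466_468 c) (Nat.ble 466 c)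
noncomputable def Btab_s_463_468 (c : Nat) : Nat := @Bool.rec (fun _ => Nat) (Btab_s_463_465 c) (Btab_s_465_468 c) (Nat.ble 465 c)
noncomputable def Btab_s_458_468 (c : Nat) : Nat := @Bool.rec (fun _ => Nat) (Btab_s_458_463 c) (Btab_s_463_468 c) (Nat.ble 463 c)
noncomputable def Btab_s_448_468 (c : Nat) : Nat := @Bool.rec (fun _ => Nat) (Btab_s_448_458 c) (Btab_s_458_468 c) (Nat.ble 458 c)
noncomputable def Btab_s_429_468 (c : Nat) : Nat := @Bool.rec (fun _ => Nat) (Btab_s_429_448 c) (Btab_s_448_468 c) (Nat.ble 448 c)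
noncomputable def Btab_s_390_468 (c : Nat) : Nat := @Bool.rec (fun _ => Nat) (Btab_s_390_429 c) (Btab_s_429_468 c) (Nat.ble 429 c)
noncomputable def Btab_s_312_468 (c : Nat) : Nat := @Bool.rec (fun _ => Nat) (Btab_s_312_390 c) (Btab_s_390_468 c) (Nat.ble 390 c)
noncomputable def Btab_s_468_470 (c : Nat) : Nat := @Bool.rec (fun _ => Nat) (Btab_468) (Btab_469) (Nat.ble 469 c)
noncomputable def Btab_s_470_472 (c : Nat) : Nat := @Bool.rec (fun _ => Nat) (Btab_470) (Btab_471) (Nat.ble 471 c)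
noncomputable def Btab_s_468_472 (c : Nat) : Nat := @Bool.rec (fun _ => Nat) (Btab_s_468_470 c) (Btab_s_470_472 c) (Nat.ble 470 c)
noncomputable def Btab_s_472_474 (c : Nat) : Nat := @Bool.rec (fun _ => Nat) (Btab_472) (Btab_473) (Nat.ble 473 c)
noncomputable def Btab_s_475_477 (c : Nat) : Nat := @Bool.rec (fun _ => Nat) (Btab_475) (Btab_476) (Nat.ble 476 c)
noncomputable def Btab_s_474_477 (c : Nat) : Nat := @Bool.rec (fun _ => Nat) (Btab_474) (Btab_s_475_477 c) (Nat.ble 475 c)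
noncomputable def Btab_s_472_477 (c : Nat) : Nat := @Bool.rec (fun _ => Nat) (Btab_s_472_474 c) (Btab_s_474_477 c) (Nat.ble 474 c)
noncomputable def Btab_s_468_477 (c : Nat) : Nat := @Bool.rec (fun _ => Nat) (Btab_s_468_472 c) (Btab_s_472_477 c) (Nat.ble 472 c)
noncomputable def Btab_s_477_479 (c : Nat) : Nat := @Bool.rec (fun _ => Nat) (Btab_477) (Btab_478) (Nat.ble 478 c)
noncomputable def Btab_s_480_482 (c : Nat) : Nat := @Bool.rec (fun _ => Nat) (Btab_480) (Btab_481) (Nat.ble 481 c)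
noncomputable def Btab_s_479_482 (c : Nat) : Nat := @Bool.rec (fun _ => Nat) (Btab_479) (Btab_s_480_482 c) (Nat.ble 480 c)
noncomputable def Btab_s_477_482 (c : Nat) : Nat := @Bool.rec (fun _ => Nat) (Btab_s_477_479 c) (Btab_s_479_482 c) (Nat.ble 479 c)
noncomputable def Btab_s_482_484 (c : Nat) : Nat := @Bool.rec (fun _ => Nat) (Btab_482) (Btab_483) (Nat.ble 483 c)
noncomputable def Btab_s_485_487 (c : Nat) : Nat := @Bool.rec (fun _ => Nat) (Btab_485) (Btab_486) (Nat.ble 486 c)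
noncomputable def Btab_s_484_487 (c : Nat) : Nat := @Bool.rec (fun _ => Nat) (Btab_484) (Btab_s_485_487 c) (Nat.ble 485 c)
noncomputable def Btab_s_482_487 (c : Nat) : Nat := @Bool.rec (fun _ => Nat) (Btab_s_482_484 c) (Btab_s_484_487 c) (Nat.ble 484 c)
noncomputable def Btab_s_477_487 (c : Nat) : Nat := @Bool.rec (fun _ => Nat) (Btab_s_477_482 c) (Btab_s_482_487 c) (Nat.ble 482 c)
noncomputable def Btab_s_468_487 (c : Nat) : Nat := @Bool.rec (fun _ => Nat) (Btab_s_468_477 c) (Btab_s_477_487 c) (Nat.ble 477 c)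
noncomputable def Btab_s_487_489 (c : Nat) : Nat := @Bool.rec (fun _ => Nat) (Btab_487) (Btab_488) (Nat.ble 488 c)
noncomputable def Btab_s_490_492 (c : Nat) : Nat := @Bool.rec (fun _ => Nat) (Btab_490) (Btab_491) (Nat.ble 491 c)
noncomputable def Btab_s_489_492 (c : Nat) : Nat := @Bool.rec (fun _ => Nat) (Btab_489) (Btab_s_490_492 c) (Nat.ble 490 c)
noncomputable def Btab_s_487_492 (c : Nat) : Nat := @Bool.rec (fun _ => Nat) (Btab_s_487_489 c) (Btab_s_489_492 c) (Nat.ble 489 c)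
noncomputable def Btab_s_492_494 (c : Nat) : Nat := @Bool.rec (fun _ => Nat) (Btab_492) (Btab_493) (Nat.ble 493 c)
noncomputable def Btab_s_495_497 (c : Nat) : Nat := @Bool.rec (fun _ => Nat) (Btab_495) (Btab_496) (Nat.ble 496 c)
noncomputable def Btab_s_494_497 (c : Nat) : Nat := @Bool.rec (fun _ => Nat) (Btab_494) (Btab_s_495_497 c) (Nat.ble 495 c)
noncomputable def Btab_s_492_497 (c : Nat) : Nat := @Bool.rec (fun _ => Nat) (Btab_s_492_494 c) (Btab_s_494_497 c) (Nat.ble 494 c)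
noncomputable def Btab_s_487_497 (c : Nat) : Nat := @Bool.rec (fun _ => Nat) (Btab_s_487_492 c) (Btab_s_492_497 c) (Nat.ble 492 c)
noncomputable def Btab_s_497_499 (c : Nat) : Nat := @Bool.rec (fun _ => Nat) (Btab_497) (Btab_498) (Nat.ble 498 c)
noncomputable def Btab_s_500_502 (c : Nat) : Nat := @Bool.rec (fun _ => Nat) (Btab_500) (Btab_501) (Nat.ble 501 c)
noncomputable def Btab_s_499_502 (c : Nat) : Nat := @Bool.rec (fun _ => Nat) (Btab_499) (Btab_s_500_502 c) (Nat.ble 500 c)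
noncomputable def Btab_s_497_502 (c : Nat) : Nat := @Bool.rec (fun _ => Nat) (Btab_s_497_499 c) (Btab_s_499_502 c) (Nat.ble 499 c)
noncomputable def Btab_s_502_504 (c : Nat) : Nat := @Bool.rec (fun _ => Nat) (Btab_502) (Btab_503) (Nat.ble 503 c)
noncomputable def Btab_s_505_507 (c : Nat) : Nat := @Bool.rec (fun _ => Nat) (Btab_505) (Btab_506) (Nat.ble 506 c)
noncomputable def Btab_s_504_507 (c : Nat) : Nat := @Bool.rec (fun _ => Nat) (Btab_504) (Btab_s_505_507 c) (Nat.ble 505 c)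
noncomputable def Btab_s_502_507 (c : Nat) : Nat := @Bool.rec (fun _ => Nat) (Btab_s_502_504 c) (Btab_s_504_507 c) (Nat.ble 504 c)
noncomputable def Btab_s_497_507 (c : Nat) : Nat := @Bool.rec (fun _ => Nat) (Btab_s_497_502 c) (Btab_s_502_507 c) (Nat.ble 502 c)
noncomputable def Btab_s_487_507 (c : Nat) : Nat := @Bool.rec (fun _ => Nat) (Btab_s_487_497 c) (Btab_s_497_507 c) (Nat.ble 497 c)
noncomputable def Btab_s_468_507 (c : Nat) : Nat := @Bool.rec (fun _ => Nat) (Btab_s_468_487 c) (Btab_s_487_507 c) (Nat.ble 487 c)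
noncomputable def Btab_s_507_509 (c : Nat) : Nat := @Bool.rec (fun _ => Nat) (Btab_507) (Btab_508) (Nat.ble 508 c)
noncomputable def Btab_s_509_511 (c : Nat) : Nat := @Bool.rec (fun _ => Nat) (Btab_509) (Btab_510) (Nat.ble 510 c)
noncomputable def Btab_s_507_511 (c : Nat) : Nat := @Bool.rec (fun _ => Nat) (Btab_s_507_509 c) (Btab_s_509_511 c) (Nat.ble 509 c)
noncomputable def Btab_s_511_513 (c : Nat) : Nat := @Bool.rec (fun _ => Nat) (Btab_511) (Btab_512) (Nat.ble 512 c)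
noncomputable def Btab_s_514_516 (c : Nat) : Nat := @Bool.rec (fun _ => Nat) (Btab_514) (Btab_515) (Nat.ble 515 c)
noncomputable def Btab_s_513_516 (c : Nat) : Nat := @Bool.rec (fun _ => Nat) (Btab_513) (Btab_s_514_516 c) (Nat.ble 514 c)
noncomputable def Btab_s_511_516 (c : Nat) : Nat := @Bool.rec (fun _ => Nat) (Btab_s_511_513 c) (Btab_s_513_516 c) (Nat.ble 513 c)
noncomputable def Btab_s_507_516 (c : Nat) : Nat := @Bool.rec (fun _ => Nat) (Btab_s_507_511 c) (Btab_s_511_516 c) (Nat.ble 511 c)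
noncomputable def Btab_s_516_518 (c : Nat) : Nat := @Bool.rec (fun _ => Nat) (Btab_516) (Btab_517) (Nat.ble 517 c)
noncomputable def Btab_s_519_521 (c : Nat) : Nat := @Bool.rec (fun _ => Nat) (Btab_519) (Btab_520) (Nat.ble 520 c)
noncomputable def Btab_s_518_521 (c : Nat) : Nat := @Bool.rec (fun _ => Nat) (Btab_518) (Btab_s_519_521 c) (Nat.ble 519 c)
noncomputable def Btab_s_516_521 (c : Nat) : Nat := @Bool.rec (fun _ => Nat) (Btab_s_516_518 c) (Btab_s_518_521 c) (Nat.ble 518 c)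
noncomputable def Btab_s_521_523 (c : Nat) : Nat := @Bool.rec (fun _ => Nat) (Btab_521) (Btab_522) (Nat.ble 522 c)
noncomputable def Btab_s_524_526 (c : Nat) : Nat := @Bool.rec (fun _ => Nat) (Btab_524) (Btab_525) (Nat.ble 525 c)
noncomputable def Btab_s_523_526 (c : Nat) : Nat := @Bool.rec (fun _ => Nat) (Btab_523) (Btab_s_524_526 c) (Nat.ble 524 c)
noncomputable def Btab_s_521_526 (c : Nat) : Nat := @Bool.rec (fun _ => Nat) (Btab_s_521_523 c) (Btab_s_523_526 c) (Nat.ble 523 c)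
noncomputable def Btab_s_516_526 (c : Nat) : Nat := @Bool.rec (fun _ => Nat) (Btab_s_516_521 c) (Btab_s_521_526 c) (Nat.ble 521 c)
noncomputable def Btab_s_507_526 (c : Nat) : Nat := @Bool.rec (fun _ => Nat) (Btab_s_507_516 c) (Btab_s_516_526 c) (Nat.ble 516 c)
noncomputable def Btab_s_526_528 (c : Nat) : Nat := @Bool.rec (fun _ => Nat) (Btab_526) (Btab_527) (Nat.ble 527 c)
noncomputable def Btab_s_529_531 (c : Nat) : Nat := @Bool.rec (fun _ => Nat) (Btab_529) (Btab_530) (Nat.ble 530 c)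
noncomputable def Btab_s_528_531 (c : Nat) : Nat := @Bool.rec (fun _ => Nat) (Btab_528) (Btab_s_529_531 c) (Nat.ble 529 c)
noncomputable def Btab_s_526_531 (c : Nat) : Nat := @Bool.rec (fun _ => Nat) (Btab_s_526_528 c) (Btab_s_528_531 c) (Nat.ble 528 c)
noncomputable def Btab_s_531_533 (c : Nat) : Nat := @Bool.rec (fun _ => Nat) (Btab_531) (Btab_532) (Nat.ble 532 c)
noncomputable def Btab_s_534_536 (c : Nat) : Nat := @Bool.rec (fun _ => Nat) (Btab_534) (Btab_535) (Nat.ble 535 c)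
noncomputable def Btab_s_533_536 (c : Nat) : Nat := @Bool.rec (fun _ => Nat) (Btab_533) (Btab_s_534_536 c) (Nat.ble 534 c)
noncomputable def Btab_s_531_536 (c : Nat) : Nat := @Bool.rec (fun _ => Nat) (Btab_s_531_533 c) (Btab_s_533_536 c) (Nat.ble 533 c)
noncomputable def Btab_s_526_536 (c : Nat) : Nat := @Bool.rec (fun _ => Nat) (Btab_s_526_531 c) (Btab_s_531_536 c) (Nat.ble 531 c)
noncomputable def Btab_s_536_538 (c : Nat) : Nat := @Bool.rec (fun _ => Nat) (Btab_536) (Btab_537) (Nat.ble 537 c)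
noncomputable def Btab_s_539_541 (c : Nat) : Nat := @Bool.rec (fun _ => Nat) (Btab_539) (Btab_540) (Nat.ble 540 c)
noncomputable def Btab_s_538_541 (c : Nat) : Nat := @Bool.rec (fun _ => Nat) (Btab_538) (Btab_s_539_541 c) (Nat.ble 539 c)
noncomputable def Btab_s_536_541 (c : Nat) : Nat := @Bool.rec (fun _ => Nat) (Btab_s_536_538 c) (Btab_s_538_541 c) (Nat.ble 538 c)
noncomputable def Btab_s_541_543 (c : Nat) : Nat := @Bool.rec (fun _ => Nat) (Btab_541) (Btab_542) (Nat.ble 542 c)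
noncomputable def Btab_s_544_546 (c : Nat) : Nat := @Bool.rec (fun _ => Nat) (Btab_544) (Btab_545) (Nat.ble 545 c)
noncomputable def Btab_s_543_546 (c : Nat) : Nat := @Bool.rec (fun _ => Nat) (Btab_543) (Btab_s_544_546 c) (Nat.ble 544 c)
noncomputable def Btab_s_541_546 (c : Nat) : Nat := @Bool.rec (fun _ => Nat) (Btab_s_541_543 c) (Btab_s_543_546 c) (Nat.ble 543 c)
noncomputable def Btab_s_536_546 (c : Nat) : Nat := @Bool.rec (fun _ => Nat) (Btab_s_536_541 c) (Btab_s_541_546 c) (Nat.ble 541 c)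
noncomputable def Btab_s_526_546 (c : Nat) : Nat := @Bool.rec (fun _ => Nat) (Btab_s_526_536 c) (Btab_s_536_546 c) (Nat.ble 536 c)
noncomputable def Btab_s_507_546 (c : Nat) : Nat := @Bool.rec (fun _ => Nat) (Btab_s_507_526 c) (Btab_s_526_546 c) (Nat.ble 526 c)
noncomputable def Btab_s_468_546 (c : Nat) : Nat := @Bool.rec (fun _ => Nat) (Btab_s_468_507 c) (Btab_s_507_546 c) (Nat.ble 507 c)
noncomputable def Btab_s_546_548 (c : Nat) : Nat := @Bool.rec (fun _ => Nat) (Btab_546) (Btab_547) (Nat.ble 547 c)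
noncomputable def Btab_s_548_550 (c : Nat) : Nat := @Bool.rec (fun _ => Nat) (Btab_548) (Btab_549) (Nat.ble 549 c)
noncomputable def Btab_s_546_550 (c : Nat) : Nat := @Bool.rec (fun _ => Nat) (Btab_s_546_548 c) (Btab_s_548_550 c) (Nat.ble 548 c)
noncomputable def Btab_s_550_552 (c : Nat) : Nat := @Bool.rec (fun _ => Nat) (Btab_550) (Btab_551) (Nat.ble 551 c)
noncomputable def Btab_s_553_555 (c : Nat) : Nat := @Bool.rec (fun _ => Nat) (Btab_553) (Btab_554) (Nat.ble 554 c)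
noncomputable def Btab_s_552_555 (c : Nat) : Nat := @Bool.rec (fun _ => Nat) (Btab_552) (Btab_s_553_555 c) (Nat.ble 553 c)
noncomputable def Btab_s_550_555 (c : Nat) : Nat := @Bool.rec (fun _ => Nat) (Btab_s_550_552 c) (Btab_s_552_555 c) (Nat.ble 552 c)
noncomputable def Btab_s_546_555 (c : Nat) : Nat := @Bool.rec (fun _ => Nat) (Btab_s_546_550 c) (Btab_s_550_555 c) (Nat.ble 550 c)
noncomputable def Btab_s_555_557 (c : Nat) : Nat := @Bool.rec (fun _ => Nat) (Btab_555) (Btab_556) (Nat.ble 556 c)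
noncomputable def Btab_s_558_560 (c : Nat) : Nat := @Bool.rec (fun _ => Nat) (Btab_558) (Btab_559) (Nat.ble 559 c)
noncomputable def Btab_s_557_560 (c : Nat) : Nat := @Bool.rec (fun _ => Nat) (Btab_557) (Btab_s_558_560 c) (Nat.ble 558 c)
noncomputable def Btab_s_555_560 (c : Nat) : Nat := @Bool.rec (fun _ => Nat) (Btab_s_555_557 c) (Btab_s_557_560 c) (Nat.ble 557 c)
noncomputable def Btab_s_560_562 (c : Nat) : Nat := @Bool.rec (fun _ => Nat) (Btab_560) (Btab_561) (Nat.ble 561 c)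
noncomputable def Btab_s_563_565 (c : Nat) : Nat := @Bool.rec (fun _ => Nat) (Btab_563) (Btab_564) (Nat.ble 564 c)
noncomputable def Btab_s_562_565 (c : Nat) : Nat := @Bool.rec (fun _ => Nat) (Btab_562) (Btab_s_563_565 c) (Nat.ble 563 c)
noncomputable def Btab_s_560_565 (c : Nat) : Nat := @Bool.rec (fun _ => Nat) (Btab_s_560_562 c) (Btab_s_562_565 c) (Nat.ble 562 c)
noncomputable def Btab_s_555_565 (c : Nat) : Nat := @Bool.rec (fun _ => Nat) (Btab_s_555_560 c) (Btab_s_560_565 c) (Nat.ble 560 c)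
noncomputable def Btab_s_546_565 (c : Nat) : Nat := @Bool.rec (fun _ => Nat) (Btab_s_546_555 c) (Btab_s_555_565 c) (Nat.ble 555 c)
noncomputable def Btab_s_565_567 (c : Nat) : Nat := @Bool.rec (fun _ => Nat) (Btab_565) (Btab_566) (Nat.ble 566 c)
noncomputable def Btab_s_568_570 (c : Nat) : Nat := @Bool.rec (fun _ => Nat) (Btab_568) (Btab_569) (Nat.ble 569 c)
noncomputable def Btab_s_567_570 (c : Nat) : Nat := @Bool.rec (fun _ => Nat) (Btab_567) (Btab_s_568_570 c) (Nat.ble 568 c)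
noncomputable def Btab_s_565_570 (c : Nat) : Nat := @Bool.rec (fun _ => Nat) (Btab_s_565_567 c) (Btab_s_567_570 c) (Nat.ble 567 c)
noncomputable def Btab_s_570_572 (c : Nat) : Nat := @Bool.rec (fun _ => Nat) (Btab_570) (Btab_571) (Nat.ble 571 c)
noncomputable def Btab_s_573_575 (c : Nat) : Nat := @Bool.rec (fun _ => Nat) (Btab_573) (Btab_574) (Nat.ble 574 c)
noncomputable def Btab_s_572_575 (c : Nat) : Nat := @Bool.rec (fun _ => Nat) (Btab_572) (Btab_s_573_575 c) (Nat.ble 573 c)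
noncomputable def Btab_s_570_575 (c : Nat) : Nat := @Bool.rec (fun _ => Nat) (Btab_s_570_572 c) (Btab_s_572_575 c) (Nat.ble 572 c)
noncomputable def Btab_s_565_575 (c : Nat) : Nat := @Bool.rec (fun _ => Nat) (Btab_s_565_570 c) (Btab_s_570_575 c) (Nat.ble 570 c)
noncomputable def Btab_s_575_577 (c : Nat) : Nat := @Bool.rec (fun _ => Nat) (Btab_575) (Btab_576) (Nat.ble 576 c)
noncomputable def Btab_s_578_580 (c : Nat) : Nat := @Bool.rec (fun _ => Nat) (Btab_578) (Btab_579) (Nat.ble 579 c)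
noncomputable def Btab_s_577_580 (c : Nat) : Nat := @Bool.rec (fun _ => Nat) (Btab_577) (Btab_s_578_580 c) (Nat.ble 578 c)
noncomputable def Btab_s_575_580 (c : Nat) : Nat := @Bool.rec (fun _ => Nat) (Btab_s_575_577 c) (Btab_s_577_580 c) (Nat.ble 577 c)
noncomputable def Btab_s_580_582 (c : Nat) : Nat := @Bool.rec (fun _ => Nat) (Btab_580) (Btab_581) (Nat.ble 581 c)
noncomputable def Btab_s_583_585 (c : Nat) : Nat := @Bool.rec (fun _ => Nat) (Btab_583) (Btab_584) (Nat.ble 584 c)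
noncomputable def Btab_s_582_585 (c : Nat) : Nat := @Bool.rec (fun _ => Nat) (Btab_582) (Btab_s_583_585 c) (Nat.ble 583 c)
noncomputable def Btab_s_580_585 (c : Nat) : Nat := @Bool.rec (fun _ => Nat) (Btab_s_580_582 c) (Btab_s_582_585 c) (Nat.ble 582 c)
noncomputable def Btab_s_575_585 (c : Nat) : Nat := @Bool.rec (fun _ => Nat) (Btab_s_575_580 c) (Btab_s_580_585 c) (Nat.ble 580 c)
noncomputable def Btab_s_565_585 (c : Nat) : Nat := @Bool.rec (fun _ => Nat) (Btab_s_565_575 c) (Btab_s_575_585 c) (Nat.ble 575 c)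
noncomputable def Btab_s_546_585 (c : Nat) : Nat := @Bool.rec (fun _ => Nat) (Btab_s_546_565 c) (Btab_s_565_585 c) (Nat.ble 565 c)
noncomputable def Btab_s_585_587 (c : Nat) : Nat := @Bool.rec (fun _ => Nat) (Btab_585) (Btab_586) (Nat.ble 586 c)
noncomputable def Btab_s_587_589 (c : Nat) : Nat := @Bool.rec (fun _ => Nat) (Btab_587) (Btab_588) (Nat.ble 588 c)
noncomputable def Btab_s_585_589 (c : Nat) : Nat := @Bool.rec (fun _ => Nat) (Btab_s_585_587 c) (Btab_s_587_589 c) (Nat.ble 587 c)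
noncomputable def Btab_s_589_591 (c : Nat) : Nat := @Bool.rec (fun _ => Nat) (Btab_589) (Btab_590) (Nat.ble 590 c)
noncomputable def Btab_s_592_594 (c : Nat) : Nat := @Bool.rec (fun _ => Nat) (Btab_592) (Btab_593) (Nat.ble 593 c)
noncomputable def Btab_s_591_594 (c : Nat) : Nat := @Bool.rec (fun _ => Nat) (Btab_591) (Btab_s_592_594 c) (Nat.ble 592 c)
noncomputable def Btab_s_589_594 (c : Nat) : Nat := @Bool.rec (fun _ => Nat) (Btab_s_589_591 c) (Btab_s_591_594 c) (Nat.ble 591 c)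
noncomputable def Btab_s_585_594 (c : Nat) : Nat := @Bool.rec (fun _ => Nat) (Btab_s_585_589 c) (Btab_s_589_594 c) (Nat.ble 589 c)
noncomputable def Btab_s_594_596 (c : Nat) : Nat := @Bool.rec (fun _ => Nat) (Btab_594) (Btab_595) (Nat.ble 595 c)
noncomputable def Btab_s_597_599 (c : Nat) : Nat := @Bool.rec (fun _ => Nat) (Btab_597) (Btab_598) (Nat.ble 598 c)
noncomputable def Btab_s_596_599 (c : Nat) : Nat := @Bool.rec (fun _ => Nat) (Btab_596) (Btab_s_597_599 c) (Nat.ble 597 c)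
noncomputable def Btab_s_594_599 (c : Nat) : Nat := @Bool.rec (fun _ => Nat) (Btab_s_594_596 c) (Btab_s_596_599 c) (Nat.ble 596 c)
noncomputable def Btab_s_599_601 (c : Nat) : Nat := @Bool.rec (fun _ => Nat) (Btab_599) (Btab_600) (Nat.ble 600 c)
noncomputable def Btab_s_602_604 (c : Nat) : Nat := @Bool.rec (fun _ => Nat) (Btab_602) (Btab_603) (Nat.ble 603 c)
noncomputable def Btab_s_601_604 (c : Nat) : Nat := @Bool.rec (fun _ => Nat) (Btab_601) (Btab_s_602_604 c) (Nat.ble 602 c)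
noncomputable def Btab_s_599_604 (c : Nat) : Nat := @Bool.rec (fun _ => Nat) (Btab_s_599_601 c) (Btab_s_601_604 c) (Nat.ble 601 c)
noncomputable def Btab_s_594_604 (c : Nat) : Nat := @Bool.rec (fun _ => Nat) (Btab_s_594_599 c) (Btab_s_599_604 c) (Nat.ble 599 c)
noncomputable def Btab_s_585_604 (c : Nat) : Nat := @Bool.rec (fun _ => Nat) (Btab_s_585_594 c) (Btab_s_594_604 c) (Nat.ble 594 c)
noncomputable def Btab_s_604_606 (c : Nat) : Nat := @Bool.rec (fun _ => Nat) (Btab_604) (Btab_605) (Nat.ble 605 c)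
noncomputable def Btab_s_607_609 (c : Nat) : Nat := @Bool.rec (fun _ => Nat) (Btab_607) (Btab_608) (Nat.ble 608 c)
noncomputable def Btab_s_606_609 (c : Nat) : Nat := @Bool.rec (fun _ => Nat) (Btab_606) (Btab_s_607_609 c) (Nat.ble 607 c)
noncomputable def Btab_s_604_609 (c : Nat) : Nat := @Bool.rec (fun _ => Nat) (Btab_s_604_606 c) (Btab_s_606_609 c) (Nat.ble 606 c)
noncomputable def Btab_s_609_611 (c : Nat) : Nat := @Bool.rec (fun _ => Nat) (Btab_609) (Btab_610) (Nat.ble 610 c)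
noncomputable def Btab_s_612_614 (c : Nat) : Nat := @Bool.rec (fun _ => Nat) (Btab_612) (Btab_613) (Nat.ble 613 c)
noncomputable def Btab_s_611_614 (c : Nat) : Nat := @Bool.rec (fun _ => Nat) (Btab_611) (Btab_s_612_614 c) (Nat.ble 612 c)
noncomputable def Btab_s_609_614 (c : Nat) : Nat := @Bool.rec (fun _ => Nat) (Btab_s_609_611 c) (Btab_s_611_614 c) (Nat.ble 611 c)
noncomputable def Btab_s_604_614 (c : Nat) : Nat := @Bool.rec (fun _ => Nat) (Btab_s_604_609 c) (Btab_s_609_614 c) (Nat.ble 609 c)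
noncomputable def Btab_s_614_616 (c : Nat) : Nat := @Bool.rec (fun _ => Nat) (Btab_614) (Btab_615) (Nat.ble 615 c)
noncomputable def Btab_s_617_619 (c : Nat) : Nat := @Bool.rec (fun _ => Nat) (Btab_617) (Btab_618) (Nat.ble 618 c)
noncomputable def Btab_s_616_619 (c : Nat) : Nat := @Bool.rec (fun _ => Nat) (Btab_616) (Btab_s_617_619 c) (Nat.ble 617 c)
noncomputable def Btab_s_614_619 (c : Nat) : Nat := @Bool.rec (fun _ => Nat) (Btab_s_614_616 c) (Btab_s_616_619 c) (Nat.ble 616 c)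
noncomputable def Btab_s_619_621 (c : Nat) : Nat := @Bool.rec (fun _ => Nat) (Btab_619) (Btab_620) (Nat.ble 620 c)
noncomputable def Btab_s_622_624 (c : Nat) : Nat := @Bool.rec (fun _ => Nat) (Btab_622) (Btab_623) (Nat.ble 623 c)
noncomputable def Btab_s_621_624 (c : Nat) : Nat := @Bool.rec (fun _ => Nat) (Btab_621) (Btab_s_622_624 c) (Nat.ble 622 c)
noncomputable def Btab_s_619_624 (c : Nat) : Nat := @Bool.rec (fun _ => Nat) (Btab_s_619_621 c) (Btab_s_621_624 c) (Nat.ble 621 c)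
noncomputable def Btab_s_614_624 (c : Nat) : Nat := @Bool.rec (fun _ => Nat) (Btab_s_614_619 c) (Btab_s_619_624 c) (Nat.ble 619 c)
noncomputable def Btab_s_604_624 (c : Nat) : Nat := @Bool.rec (fun _ => Nat) (Btab_s_604_614 c) (Btab_s_614_624 c) (Nat.ble 614 c)
noncomputable def Btab_s_585_624 (c : Nat) : Nat := @Bool.rec (fun _ => Nat) (Btab_s_585_604 c) (Btab_s_604_624 c) (Nat.ble 604 c)
noncomputable def Btab_s_546_624 (c : Nat) : Nat := @Bool.rec (fun _ => Nat) (Btab_s_546_585 c) (Btab_s_585_624 c) (Nat.ble 585 c)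
noncomputable def Btab_s_468_624 (c : Nat) : Nat := @Bool.rec (fun _ => Nat) (Btab_s_468_546 c) (Btab_s_546_624 c) (Nat.ble 546 c)
noncomputable def Btab_s_312_624 (c : Nat) : Nat := @Bool.rec (fun _ => Nat) (Btab_s_312_468 c) (Btab_s_468_624 c) (Nat.ble 468 c)
noncomputable def Btab_s_0_624 (c : Nat) : Nat := @Bool.rec (fun _ => Nat) (Btab_s_0_312 c) (Btab_s_312_624 c) (Nat.ble 312 c)
noncomputable def Btab_s_624_626 (c : Nat) : Nat := @Bool.rec (fun _ => Nat) (Btab_624) (Btab_625) (Nat.ble 625 c)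
noncomputable def Btab_s_626_628 (c : Nat) : Nat := @Bool.rec (fun _ => Nat) (Btab_626) (Btab_627) (Nat.ble 627 c)
noncomputable def Btab_s_624_628 (c : Nat) : Nat := @Bool.rec (fun _ => Nat) (Btab_s_624_626 c) (Btab_s_626_628 c) (Nat.ble 626 c)
noncomputable def Btab_s_628_630 (c : Nat) : Nat := @Bool.rec (fun _ => Nat) (Btab_628) (Btab_629) (Nat.ble 629 c)
noncomputable def Btab_s_631_633 (c : Nat) : Nat := @Bool.rec (fun _ => Nat) (Btab_631) (Btab_632) (Nat.ble 632 c)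
noncomputable def Btab_s_630_633 (c : Nat) : Nat := @Bool.rec (fun _ => Nat) (Btab_630) (Btab_s_631_633 c) (Nat.ble 631 c)
noncomputable def Btab_s_628_633 (c : Nat) : Nat := @Bool.rec (fun _ => Nat) (Btab_s_628_630 c) (Btab_s_630_633 c) (Nat.ble 630 c)
noncomputable def Btab_s_624_633 (c : Nat) : Nat := @Bool.rec (fun _ => Nat) (Btab_s_624_628 c) (Btab_s_628_633 c) (Nat.ble 628 c)
noncomputable def Btab_s_633_635 (c : Nat) : Nat := @Bool.rec (fun _ => Nat) (Btab_633) (Btab_634) (Nat.ble 634 c)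
noncomputable def Btab_s_636_638 (c : Nat) : Nat := @Bool.rec (fun _ => Nat) (Btab_636) (Btab_637) (Nat.ble 637 c)
noncomputable def Btab_s_635_638 (c : Nat) : Nat := @Bool.rec (fun _ => Nat) (Btab_635) (Btab_s_636_638 c) (Nat.ble 636 c)
noncomputable def Btab_s_633_638 (c : Nat) : Nat := @Bool.rec (fun _ => Nat) (Btab_s_633_635 c) (Btab_s_635_638 c) (Nat.ble 635 c)
noncomputable def Btab_s_638_640 (c : Nat) : Nat := @Bool.rec (fun _ => Nat) (Btab_638) (Btab_639) (Nat.ble 639 c)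
noncomputable def Btab_s_641_643 (c : Nat) : Nat := @Bool.rec (fun _ => Nat) (Btab_641) (Btab_642) (Nat.ble 642 c)
noncomputable def Btab_s_640_643 (c : Nat) : Nat := @Bool.rec (fun _ => Nat) (Btab_640) (Btab_s_641_643 c) (Nat.ble 641 c)
noncomputable def Btab_s_638_643 (c : Nat) : Nat := @Bool.rec (fun _ => Nat) (Btab_s_638_640 c) (Btab_s_640_643 c) (Nat.ble 640 c)
noncomputable def Btab_s_633_643 (c : Nat) : Nat := @Bool.rec (fun _ => Nat) (Btab_s_633_638 c) (Btab_s_638_643 c) (Nat.ble 638 c)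
noncomputable def Btab_s_624_643 (c : Nat) : Nat := @Bool.rec (fun _ => Nat) (Btab_s_624_633 c) (Btab_s_633_643 c) (Nat.ble 633 c)
noncomputable def Btab_s_643_645 (c : Nat) : Nat := @Bool.rec (fun _ => Nat) (Btab_643) (Btab_644) (Nat.ble 644 c)
noncomputable def Btab_s_646_648 (c : Nat) : Nat := @Bool.rec (fun _ => Nat) (Btab_646) (Btab_647) (Nat.ble 647 c)
noncomputable def Btab_s_645_648 (c : Nat) : Nat := @Bool.rec (fun _ => Nat) (Btab_645) (Btab_s_646_648 c) (Nat.ble 646 c)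
noncomputable def Btab_s_643_648 (c : Nat) : Nat := @Bool.rec (fun _ => Nat) (Btab_s_643_645 c) (Btab_s_645_648 c) (Nat.ble 645 c)
noncomputable def Btab_s_648_650 (c : Nat) : Nat := @Bool.rec (fun _ => Nat) (Btab_648) (Btab_649) (Nat.ble 649 c)
noncomputable def Btab_s_651_653 (c : Nat) : Nat := @Bool.rec (fun _ => Nat) (Btab_651) (Btab_652) (Nat.ble 652 c)
noncomputable def Btab_s_650_653 (c : Nat) : Nat := @Bool.rec (fun _ => Nat) (Btab_650) (Btab_s_651_653 c) (Nat.ble 651 c)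
noncomputable def Btab_s_648_653 (c : Nat) : Nat := @Bool.rec (fun _ => Nat) (Btab_s_648_650 c) (Btab_s_650_653 c) (Nat.ble 650 c)
noncomputable def Btab_s_643_653 (c : Nat) : Nat := @Bool.rec (fun _ => Nat) (Btab_s_643_648 c) (Btab_s_648_653 c) (Nat.ble 648 c)
noncomputable def Btab_s_653_655 (c : Nat) : Nat := @Bool.rec (fun _ => Nat) (Btab_653) (Btab_654) (Nat.ble 654 c)
noncomputable def Btab_s_656_658 (c : Nat) : Nat := @Bool.rec (fun _ => Nat) (Btab_656) (Btab_657) (Nat.ble 657 c)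
noncomputable def Btab_s_655_658 (c : Nat) : Nat := @Bool.rec (fun _ => Nat) (Btab_655) (Btab_s_656_658 c) (Nat.ble 656 c)
noncomputable def Btab_s_653_658 (c : Nat) : Nat := @Bool.rec (fun _ => Nat) (Btab_s_653_655 c) (Btab_s_655_658 c) (Nat.ble 655 c)
noncomputable def Btab_s_658_660 (c : Nat) : Nat := @Bool.rec (fun _ => Nat) (Btab_658) (Btab_659) (Nat.ble 659 c)
noncomputable def Btab_s_661_663 (c : Nat) : Nat := @Bool.rec (fun _ => Nat) (Btab_661) (Btab_662) (Nat.ble 662 c)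
noncomputable def Btab_s_660_663 (c : Nat) : Nat := @Bool.rec (fun _ => Nat) (Btab_660) (Btab_s_661_663 c) (Nat.ble 661 c)
noncomputable def Btab_s_658_663 (c : Nat) : Nat := @Bool.rec (fun _ => Nat) (Btab_s_658_660 c) (Btab_s_660_663 c) (Nat.ble 660 c)
noncomputable def Btab_s_653_663 (c : Nat) : Nat := @Bool.rec (fun _ => Nat) (Btab_s_653_658 c) (Btab_s_658_663 c) (Nat.ble 658 c)
noncomputable def Btab_s_643_663 (c : Nat) : Nat := @Bool.rec (fun _ => Nat) (Btab_s_643_653 c) (Btab_s_653_663 c) (Nat.ble 653 c)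
noncomputable def Btab_s_624_663 (c : Nat) : Nat := @Bool.rec (fun _ => Nat) (Btab_s_624_643 c) (Btab_s_643_663 c) (Nat.ble 643 c)
noncomputable def Btab_s_663_665 (c : Nat) : Nat := @Bool.rec (fun _ => Nat) (Btab_663) (Btab_664) (Nat.ble 664 c)
noncomputable def Btab_s_665_667 (c : Nat) : Nat := @Bool.rec (fun _ => Nat) (Btab_665) (Btab_666) (Nat.ble 666 c)
noncomputable def Btab_s_663_667 (c : Nat) : Nat := @Bool.rec (fun _ => Nat) (Btab_s_663_665 c) (Btab_s_665_667 c) (Nat.ble 665 c)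
noncomputable def Btab_s_667_669 (c : Nat) : Nat := @Bool.rec (fun _ => Nat) (Btab_667) (Btab_668) (Nat.ble 668 c)
noncomputable def Btab_s_670_672 (c : Nat) : Nat := @Bool.rec (fun _ => Nat) (Btab_670) (Btab_671) (Nat.ble 671 c)
noncomputable def Btab_s_669_672 (c : Nat) : Nat := @Bool.rec (fun _ => Nat) (Btab_669) (Btab_s_670_672 c) (Nat.ble 670 c)
noncomputable def Btab_s_667_672 (c : Nat) : Nat := @Bool.rec (fun _ => Nat) (Btab_s_667_669 c) (Btab_s_669_672 c) (Nat.ble 669 c)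
noncomputable def Btab_s_663_672 (c : Nat) : Nat := @Bool.rec (fun _ => Nat) (Btab_s_663_667 c) (Btab_s_667_672 c) (Nat.ble 667 c)
noncomputable def Btab_s_672_674 (c : Nat) : Nat := @Bool.rec (fun _ => Nat) (Btab_672) (Btab_673) (Nat.ble 673 c)
noncomputable def Btab_s_675_677 (c : Nat) : Nat := @Bool.rec (fun _ => Nat) (Btab_675) (Btab_676) (Nat.ble 676 c)
noncomputable def Btab_s_674_677 (c : Nat) : Nat := @Bool.rec (fun _ => Nat) (Btab_674) (Btab_s_675_677 c) (Nat.ble 675 c)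
noncomputable def Btab_s_672_677 (c : Nat) : Nat := @Bool.rec (fun _ => Nat) (Btab_s_672_674 c) (Btab_s_674_677 c) (Nat.ble 674 c)
noncomputable def Btab_s_677_679 (c : Nat) : Nat := @Bool.rec (fun _ => Nat) (Btab_677) (Btab_678) (Nat.ble 678 c)
noncomputable def Btab_s_680_682 (c : Nat) : Nat := @Bool.rec (fun _ => Nat) (Btab_680) (Btab_681) (Nat.ble 681 c)
noncomputable def Btab_s_679_682 (c : Nat) : Nat := @Bool.rec (fun _ => Nat) (Btab_679) (Btab_s_680_682 c) (Nat.ble 680 c)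
noncomputable def Btab_s_677_682 (c : Nat) : Nat := @Bool.rec (fun _ => Nat) (Btab_s_677_679 c) (Btab_s_679_682 c) (Nat.ble 679 c)
noncomputable def Btab_s_672_682 (c : Nat) : Nat := @Bool.rec (fun _ => Nat) (Btab_s_672_677 c) (Btab_s_677_682 c) (Nat.ble 677 c)
noncomputable def Btab_s_663_682 (c : Nat) : Nat := @Bool.rec (fun _ => Nat) (Btab_s_663_672 c) (Btab_s_672_682 c) (Nat.ble 672 c)
noncomputable def Btab_s_682_684 (c : Nat) : Nat := @Bool.rec (fun _ => Nat) (Btab_682) (Btab_683) (Nat.ble 683 c)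
noncomputable def Btab_s_685_687 (c : Nat) : Nat := @Bool.rec (fun _ => Nat) (Btab_685) (Btab_686) (Nat.ble 686 c)
noncomputable def Btab_s_684_687 (c : Nat) : Nat := @Bool.rec (fun _ => Nat) (Btab_684) (Btab_s_685_687 c) (Nat.ble 685 c)
noncomputable def Btab_s_682_687 (c : Nat) : Nat := @Bool.rec (fun _ => Nat) (Btab_s_682_684 c) (Btab_s_684_687 c) (Nat.ble 684 c)
noncomputable def Btab_s_687_689 (c : Nat) : Nat := @Bool.rec (fun _ => Nat) (Btab_687) (Btab_688) (Nat.ble 688 c)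
noncomputable def Btab_s_690_692 (c : Nat) : Nat := @Bool.rec (fun _ => Nat) (Btab_690) (Btab_691) (Nat.ble 691 c)
noncomputable def Btab_s_689_692 (c : Nat) : Nat := @Bool.rec (fun _ => Nat) (Btab_689) (Btab_s_690_692 c) (Nat.ble 690 c)
noncomputable def Btab_s_687_692 (c : Nat) : Nat := @Bool.rec (fun _ => Nat) (Btab_s_687_689 c) (Btab_s_689_692 c) (Nat.ble 689 c)
noncomputable def Btab_s_682_692 (c : Nat) : Nat := @Bool.rec (fun _ => Nat) (Btab_s_682_687 c) (Btab_s_687_692 c) (Nat.ble 687 c)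
noncomputable def Btab_s_692_694 (c : Nat) : Nat := @Bool.rec (fun _ => Nat) (Btab_692) (Btab_693) (Nat.ble 693 c)
noncomputable def Btab_s_695_697 (c : Nat) : Nat := @Bool.rec (fun _ => Nat) (Btab_695) (Btab_696) (Nat.ble 696 c)
noncomputable def Btab_s_694_697 (c : Nat) : Nat := @Bool.rec (fun _ => Nat) (Btab_694) (Btab_s_695_697 c) (Nat.ble 695 c)
noncomputable def Btab_s_692_697 (c : Nat) : Nat := @Bool.rec (fun _ => Nat) (Btab_s_692_694 c) (Btab_s_694_697 c) (Nat.ble 694 c)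
noncomputable def Btab_s_697_699 (c : Nat) : Nat := @Bool.rec (fun _ => Nat) (Btab_697) (Btab_698) (Nat.ble 698 c)
noncomputable def Btab_s_700_702 (c : Nat) : Nat := @Bool.rec (fun _ => Nat) (Btab_700) (Btab_701) (Nat.ble 701 c)
noncomputable def Btab_s_699_702 (c : Nat) : Nat := @Bool.rec (fun _ => Nat) (Btab_699) (Btab_s_700_702 c) (Nat.ble 700 c)
noncomputable def Btab_s_697_702 (c : Nat) : Nat := @Bool.rec (fun _ => Nat) (Btab_s_697_699 c) (Btab_s_699_702 c) (Nat.ble 699 c)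
noncomputable def Btab_s_692_702 (c : Nat) : Nat := @Bool.rec (fun _ => Nat) (Btab_s_692_697 c) (Btab_s_697_702 c) (Nat.ble 697 c)
noncomputable def Btab_s_682_702 (c : Nat) : Nat := @Bool.rec (fun _ => Nat) (Btab_s_682_692 c) (Btab_s_692_702 c) (Nat.ble 692 c)
noncomputable def Btab_s_663_702 (c : Nat) : Nat := @Bool.rec (fun _ => Nat) (Btab_s_663_682 c) (Btab_s_682_702 c) (Nat.ble 682 c)
noncomputable def Btab_s_624_702 (c : Nat) : Nat := @Bool.rec (fun _ => Nat) (Btab_s_624_663 c) (Btab_s_663_702 c) (Nat.ble 663 c)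
noncomputable def Btab_s_702_704 (c : Nat) : Nat := @Bool.rec (fun _ => Nat) (Btab_702) (Btab_703) (Nat.ble 703 c)
noncomputable def Btab_s_704_706 (c : Nat) : Nat := @Bool.rec (fun _ => Nat) (Btab_704) (Btab_705) (Nat.ble 705 c)
noncomputable def Btab_s_702_706 (c : Nat) : Nat := @Bool.rec (fun _ => Nat) (Btab_s_702_704 c) (Btab_s_704_706 c) (Nat.ble 704 c)
noncomputable def Btab_s_706_708 (c : Nat) : Nat := @Bool.rec (fun _ => Nat) (Btab_706) (Btab_707) (Nat.ble 707 c)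
noncomputable def Btab_s_709_711 (c : Nat) : Nat := @Bool.rec (fun _ => Nat) (Btab_709) (Btab_710) (Nat.ble 710 c)
noncomputable def Btab_s_708_711 (c : Nat) : Nat := @Bool.rec (fun _ => Nat) (Btab_708) (Btab_s_709_711 c) (Nat.ble 709 c)
noncomputable def Btab_s_706_711 (c : Nat) : Nat := @Bool.rec (fun _ => Nat) (Btab_s_706_708 c) (Btab_s_708_711 c) (Nat.ble 708 c)
noncomputable def Btab_s_702_711 (c : Nat) : Nat := @Bool.rec (fun _ => Nat) (Btab_s_702_706 c) (Btab_s_706_711 c) (Nat.ble 706 c)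
noncomputable def Btab_s_711_713 (c : Nat) : Nat := @Bool.rec (fun _ => Nat) (Btab_711) (Btab_712) (Nat.ble 712 c)
noncomputable def Btab_s_714_716 (c : Nat) : Nat := @Bool.rec (fun _ => Nat) (Btab_714) (Btab_715) (Nat.ble 715 c)
noncomputable def Btab_s_713_716 (c : Nat) : Nat := @Bool.rec (fun _ => Nat) (Btab_713) (Btab_s_714_716 c) (Nat.ble 714 c)
noncomputable def Btab_s_711_716 (c : Nat) : Nat := @Bool.rec (fun _ => Nat) (Btab_s_711_713 c) (Btab_s_713_716 c) (Nat.ble 713 c)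
noncomputable def Btab_s_716_718 (c : Nat) : Nat := @Bool.rec (fun _ => Nat) (Btab_716) (Btab_717) (Nat.ble 717 c)
noncomputable def Btab_s_719_721 (c : Nat) : Nat := @Bool.rec (fun _ => Nat) (Btab_719) (Btab_720) (Nat.ble 720 c)
noncomputable def Btab_s_718_721 (c : Nat) : Nat := @Bool.rec (fun _ => Nat) (Btab_718) (Btab_s_719_721 c) (Nat.ble 719 c)
noncomputable def Btab_s_716_721 (c : Nat) : Nat := @Bool.rec (fun _ => Nat) (Btab_s_716_718 c) (Btab_s_718_721 c) (Nat.ble 718 c)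
noncomputable def Btab_s_711_721 (c : Nat) : Nat := @Bool.rec (fun _ => Nat) (Btab_s_711_716 c) (Btab_s_716_721 c) (Nat.ble 716 c)
noncomputable def Btab_s_702_721 (c : Nat) : Nat := @Bool.rec (fun _ => Nat) (Btab_s_702_711 c) (Btab_s_711_721 c) (Nat.ble 711 c)
noncomputable def Btab_s_721_723 (c : Nat) : Nat := @Bool.rec (fun _ => Nat) (Btab_721) (Btab_722) (Nat.ble 722 c)
noncomputable def Btab_s_724_726 (c : Nat) : Nat := @Bool.rec (fun _ => Nat) (Btab_724) (Btab_725) (Nat.ble 725 c)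
noncomputable def Btab_s_723_726 (c : Nat) : Nat := @Bool.rec (fun _ => Nat) (Btab_723) (Btab_s_724_726 c) (Nat.ble 724 c)
noncomputable def Btab_s_721_726 (c : Nat) : Nat := @Bool.rec (fun _ => Nat) (Btab_s_721_723 c) (Btab_s_723_726 c) (Nat.ble 723 c)
noncomputable def Btab_s_726_728 (c : Nat) : Nat := @Bool.rec (fun _ => Nat) (Btab_726) (Btab_727) (Nat.ble 727 c)
noncomputable def Btab_s_729_731 (c : Nat) : Nat := @Bool.rec (fun _ => Nat) (Btab_729) (Btab_730) (Nat.ble 730 c)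
noncomputable def Btab_s_728_731 (c : Nat) : Nat := @Bool.rec (fun _ => Nat) (Btab_728) (Btab_s_729_731 c) (Nat.ble 729 c)
noncomputable def Btab_s_726_731 (c : Nat) : Nat := @Bool.rec (fun _ => Nat) (Btab_s_726_728 c) (Btab_s_728_731 c) (Nat.ble 728 c)
noncomputable def Btab_s_721_731 (c : Nat) : Nat := @Bool.rec (fun _ => Nat) (Btab_s_721_726 c) (Btab_s_726_731 c) (Nat.ble 726 c)
noncomputable def Btab_s_731_733 (c : Nat) : Nat := @Bool.rec (fun _ => Nat) (Btab_731) (Btab_732) (Nat.ble 732 c)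
noncomputable def Btab_s_734_736 (c : Nat) : Nat := @Bool.rec (fun _ => Nat) (Btab_734) (Btab_735) (Nat.ble 735 c)
noncomputable def Btab_s_733_736 (c : Nat) : Nat := @Bool.rec (fun _ => Nat) (Btab_733) (Btab_s_734_736 c) (Nat.ble 734 c)
noncomputable def Btab_s_731_736 (c : Nat) : Nat := @Bool.rec (fun _ => Nat) (Btab_s_731_733 c) (Btab_s_733_736 c) (Nat.ble 733 c)
noncomputable def Btab_s_736_738 (c : Nat) : Nat := @Bool.rec (fun _ => Nat) (Btab_736) (Btab_737) (Nat.ble 737 c)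
noncomputable def Btab_s_739_741 (c : Nat) : Nat := @Bool.rec (fun _ => Nat) (Btab_739) (Btab_740) (Nat.ble 740 c)
noncomputable def Btab_s_738_741 (c : Nat) : Nat := @Bool.rec (fun _ => Nat) (Btab_738) (Btab_s_739_741 c) (Nat.ble 739 c)
noncomputable def Btab_s_736_741 (c : Nat) : Nat := @Bool.rec (fun _ => Nat) (Btab_s_736_738 c) (Btab_s_738_741 c) (Nat.ble 738 c)
noncomputable def Btab_s_731_741 (c : Nat) : Nat := @Bool.rec (fun _ => Nat) (Btab_s_731_736 c) (Btab_s_736_741 c) (Nat.ble 736 c)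
noncomputable def Btab_s_721_741 (c : Nat) : Nat := @Bool.rec (fun _ => Nat) (Btab_s_721_731 c) (Btab_s_731_741 c) (Nat.ble 731 c)
noncomputable def Btab_s_702_741 (c : Nat) : Nat := @Bool.rec (fun _ => Nat) (Btab_s_702_721 c) (Btab_s_721_741 c) (Nat.ble 721 c)
noncomputable def Btab_s_741_743 (c : Nat) : Nat := @Bool.rec (fun _ => Nat) (Btab_741) (Btab_742) (Nat.ble 742 c)
noncomputable def Btab_s_743_745 (c : Nat) : Nat := @Bool.rec (fun _ => Nat) (Btab_743) (Btab_744) (Nat.ble 744 c)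
noncomputable def Btab_s_741_745 (c : Nat) : Nat := @Bool.rec (fun _ => Nat) (Btab_s_741_743 c) (Btab_s_743_745 c) (Nat.ble 743 c)
noncomputable def Btab_s_745_747 (c : Nat) : Nat := @Bool.rec (fun _ => Nat) (Btab_745) (Btab_746) (Nat.ble 746 c)
noncomputable def Btab_s_748_750 (c : Nat) : Nat := @Bool.rec (fun _ => Nat) (Btab_748) (Btab_749) (Nat.ble 749 c)
noncomputable def Btab_s_747_750 (c : Nat) : Nat := @Bool.rec (fun _ => Nat) (Btab_747) (Btab_s_748_750 c) (Nat.ble 748 c)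
noncomputable def Btab_s_745_750 (c : Nat) : Nat := @Bool.rec (fun _ => Nat) (Btab_s_745_747 c) (Btab_s_747_750 c) (Nat.ble 747 c)
noncomputable def Btab_s_741_750 (c : Nat) : Nat := @Bool.rec (fun _ => Nat) (Btab_s_741_745 c) (Btab_s_745_750 c) (Nat.ble 745 c)
noncomputable def Btab_s_750_752 (c : Nat) : Nat := @Bool.rec (fun _ => Nat) (Btab_750) (Btab_751) (Nat.ble 751 c)
noncomputable def Btab_s_753_755 (c : Nat) : Nat := @Bool.rec (fun _ => Nat) (Btab_753) (Btab_754) (Nat.ble 754 c)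
noncomputable def Btab_s_752_755 (c : Nat) : Nat := @Bool.rec (fun _ => Nat) (Btab_752) (Btab_s_753_755 c) (Nat.ble 753 c)
noncomputable def Btab_s_750_755 (c : Nat) : Nat := @Bool.rec (fun _ => Nat) (Btab_s_750_752 c) (Btab_s_752_755 c) (Nat.ble 752 c)
noncomputable def Btab_s_755_757 (c : Nat) : Nat := @Bool.rec (fun _ => Nat) (Btab_755) (Btab_756) (Nat.ble 756 c)
noncomputable def Btab_s_758_760 (c : Nat) : Nat := @Bool.rec (fun _ => Nat) (Btab_758) (Btab_759) (Nat.ble 759 c)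
noncomputable def Btab_s_757_760 (c : Nat) : Nat := @Bool.rec (fun _ => Nat) (Btab_757) (Btab_s_758_760 c) (Nat.ble 758 c)
noncomputable def Btab_s_755_760 (c : Nat) : Nat := @Bool.rec (fun _ => Nat) (Btab_s_755_757 c) (Btab_s_757_760 c) (Nat.ble 757 c)
noncomputable def Btab_s_750_760 (c : Nat) : Nat := @Bool.rec (fun _ => Nat) (Btab_s_750_755 c) (Btab_s_755_760 c) (Nat.ble 755 c)
noncomputable def Btab_s_741_760 (c : Nat) : Nat := @Bool.rec (fun _ => Nat) (Btab_s_741_750 c) (Btab_s_750_760 c) (Nat.ble 750 c)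
noncomputable def Btab_s_760_762 (c : Nat) : Nat := @Bool.rec (fun _ => Nat) (Btab_760) (Btab_761) (Nat.ble 761 c)
noncomputable def Btab_s_763_765 (c : Nat) : Nat := @Bool.rec (fun _ => Nat) (Btab_763) (Btab_764) (Nat.ble 764 c)
noncomputable def Btab_s_762_765 (c : Nat) : Nat := @Bool.rec (fun _ => Nat) (Btab_762) (Btab_s_763_765 c) (Nat.ble 763 c)
noncomputable def Btab_s_760_765 (c : Nat) : Nat := @Bool.rec (fun _ => Nat) (Btab_s_760_762 c) (Btab_s_762_765 c) (Nat.ble 762 c)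
noncomputable def Btab_s_765_767 (c : Nat) : Nat := @Bool.rec (fun _ => Nat) (Btab_765) (Btab_766) (Nat.ble 766 c)
noncomputable def Btab_s_768_770 (c : Nat) : Nat := @Bool.rec (fun _ => Nat) (Btab_768) (Btab_769) (Nat.ble 769 c)
noncomputable def Btab_s_767_770 (c : Nat) : Nat := @Bool.rec (fun _ => Nat) (Btab_767) (Btab_s_768_770 c) (Nat.ble 768 c)
noncomputable def Btab_s_765_770 (c : Nat) : Nat := @Bool.rec (fun _ => Nat) (Btab_s_765_767 c) (Btab_s_767_770 c) (Nat.ble 767 c)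
noncomputable def Btab_s_760_770 (c : Nat) : Nat := @Bool.rec (fun _ => Nat) (Btab_s_760_765 c) (Btab_s_765_770 c) (Nat.ble 765 c)
noncomputable def Btab_s_770_772 (c : Nat) : Nat := @Bool.rec (fun _ => Nat) (Btab_770) (Btab_771) (Nat.ble 771 c)
noncomputable def Btab_s_773_775 (c : Nat) : Nat := @Bool.rec (fun _ => Nat) (Btab_773) (Btab_774) (Nat.ble 774 c)
noncomputable def Btab_s_772_775 (c : Nat) : Nat := @Bool.rec (fun _ => Nat) (Btab_772) (Btab_s_773_775 c) (Nat.ble 773 c)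
noncomputable def Btab_s_770_775 (c : Nat) : Nat := @Bool.rec (fun _ => Nat) (Btab_s_770_772 c) (Btab_s_772_775 c) (Nat.ble 772 c)
noncomputable def Btab_s_775_777 (c : Nat) : Nat := @Bool.rec (fun _ => Nat) (Btab_775) (Btab_776) (Nat.ble 776 c)
noncomputable def Btab_s_778_780 (c : Nat) : Nat := @Bool.rec (fun _ => Nat) (Btab_778) (Btab_779) (Nat.ble 779 c)
noncomputable def Btab_s_777_780 (c : Nat) : Nat := @Bool.rec (fun _ => Nat) (Btab_777) (Btab_s_778_780 c) (Nat.ble 778 c)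
noncomputable def Btab_s_775_780 (c : Nat) : Nat := @Bool.rec (fun _ => Nat) (Btab_s_775_777 c) (Btab_s_777_780 c) (Nat.ble 777 c)
noncomputable def Btab_s_770_780 (c : Nat) : Nat := @Bool.rec (fun _ => Nat) (Btab_s_770_775 c) (Btab_s_775_780 c) (Nat.ble 775 c)
noncomputable def Btab_s_760_780 (c : Nat) : Nat := @Bool.rec (fun _ => Nat) (Btab_s_760_770 c) (Btab_s_770_780 c) (Nat.ble 770 c)
noncomputable def Btab_s_741_780 (c : Nat) : Nat := @Bool.rec (fun _ => Nat) (Btab_s_741_760 c) (Btab_s_760_780 c) (Nat.ble 760 c)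
noncomputable def Btab_s_702_780 (c : Nat) : Nat := @Bool.rec (fun _ => Nat) (Btab_s_702_741 c) (Btab_s_741_780 c) (Nat.ble 741 c)
noncomputable def Btab_s_624_780 (c : Nat) : Nat := @Bool.rec (fun _ => Nat) (Btab_s_624_702 c) (Btab_s_702_780 c) (Nat.ble 702 c)
noncomputable def Btab_s_780_782 (c : Nat) : Nat := @Bool.rec (fun _ => Nat) (Btab_780) (Btab_781) (Nat.ble 781 c)
noncomputable def Btab_s_782_784 (c : Nat) : Nat := @Bool.rec (fun _ => Nat) (Btab_782) (Btab_783) (Nat.ble 783 c)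
noncomputable def Btab_s_780_784 (c : Nat) : Nat := @Bool.rec (fun _ => Nat) (Btab_s_780_782 c) (Btab_s_782_784 c) (Nat.ble 782 c)
noncomputable def Btab_s_784_786 (c : Nat) : Nat := @Bool.rec (fun _ => Nat) (Btab_784) (Btab_785) (Nat.ble 785 c)
noncomputable def Btab_s_787_789 (c : Nat) : Nat := @Bool.rec (fun _ => Nat) (Btab_787) (Btab_788) (Nat.ble 788 c)
noncomputable def Btab_s_786_789 (c : Nat) : Nat := @Bool.rec (fun _ => Nat) (Btab_786) (Btab_s_787_789 c) (Nat.ble 787 c)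
noncomputable def Btab_s_784_789 (c : Nat) : Nat := @Bool.rec (fun _ => Nat) (Btab_s_784_786 c) (Btab_s_786_789 c) (Nat.ble 786 c)
noncomputable def Btab_s_780_789 (c : Nat) : Nat := @Bool.rec (fun _ => Nat) (Btab_s_780_784 c) (Btab_s_784_789 c) (Nat.ble 784 c)
noncomputable def Btab_s_789_791 (c : Nat) : Nat := @Bool.rec (fun _ => Nat) (Btab_789) (Btab_790) (Nat.ble 790 c)
noncomputable def Btab_s_792_794 (c : Nat) : Nat := @Bool.rec (fun _ => Nat) (Btab_792) (Btab_793) (Nat.ble 793 c)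
noncomputable def Btab_s_791_794 (c : Nat) : Nat := @Bool.rec (fun _ => Nat) (Btab_791) (Btab_s_792_794 c) (Nat.ble 792 c)
noncomputable def Btab_s_789_794 (c : Nat) : Nat := @Bool.rec (fun _ => Nat) (Btab_s_789_791 c) (Btab_s_791_794 c) (Nat.ble 791 c)
noncomputable def Btab_s_794_796 (c : Nat) : Nat := @Bool.rec (fun _ => Nat) (Btab_794) (Btab_795) (Nat.ble 795 c)
noncomputable def Btab_s_797_799 (c : Nat) : Nat := @Bool.rec (fun _ => Nat) (Btab_797) (Btab_798) (Nat.ble 798 c)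
noncomputable def Btab_s_796_799 (c : Nat) : Nat := @Bool.rec (fun _ => Nat) (Btab_796) (Btab_s_797_799 c) (Nat.ble 797 c)
noncomputable def Btab_s_794_799 (c : Nat) : Nat := @Bool.rec (fun _ => Nat) (Btab_s_794_796 c) (Btab_s_796_799 c) (Nat.ble 796 c)
noncomputable def Btab_s_789_799 (c : Nat) : Nat := @Bool.rec (fun _ => Nat) (Btab_s_789_794 c) (Btab_s_794_799 c) (Nat.ble 794 c)
noncomputable def Btab_s_780_799 (c : Nat) : Nat := @Bool.rec (fun _ => Nat) (Btab_s_780_789 c) (Btab_s_789_799 c) (Nat.ble 789 c)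
noncomputable def Btab_s_799_801 (c : Nat) : Nat := @Bool.rec (fun _ => Nat) (Btab_799) (Btab_800) (Nat.ble 800 c)
noncomputable def Btab_s_802_804 (c : Nat) : Nat := @Bool.rec (fun _ => Nat) (Btab_802) (Btab_803) (Nat.ble 803 c)
noncomputable def Btab_s_801_804 (c : Nat) : Nat := @Bool.rec (fun _ => Nat) (Btab_801) (Btab_s_802_804 c) (Nat.ble 802 c)
noncomputable def Btab_s_799_804 (c : Nat) : Nat := @Bool.rec (fun _ => Nat) (Btab_s_799_801 c) (Btab_s_801_804 c) (Nat.ble 801 c)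
noncomputable def Btab_s_804_806 (c : Nat) : Nat := @Bool.rec (fun _ => Nat) (Btab_804) (Btab_805) (Nat.ble 805 c)
noncomputable def Btab_s_807_809 (c : Nat) : Nat := @Bool.rec (fun _ => Nat) (Btab_807) (Btab_808) (Nat.ble 808 c)
noncomputable def Btab_s_806_809 (c : Nat) : Nat := @Bool.rec (fun _ => Nat) (Btab_806) (Btab_s_807_809 c) (Nat.ble 807 c)
noncomputable def Btab_s_804_809 (c : Nat) : Nat := @Bool.rec (fun _ => Nat) (Btab_s_804_806 c) (Btab_s_806_809 c) (Nat.ble 806 c)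
noncomputable def Btab_s_799_809 (c : Nat) : Nat := @Bool.rec (fun _ => Nat) (Btab_s_799_804 c) (Btab_s_804_809 c) (Nat.ble 804 c)
noncomputable def Btab_s_809_811 (c : Nat) : Nat := @Bool.rec (fun _ => Nat) (Btab_809) (Btab_810) (Nat.ble 810 c)
noncomputable def Btab_s_812_814 (c : Nat) : Nat := @Bool.rec (fun _ => Nat) (Btab_812) (Btab_813) (Nat.ble 813 c)
noncomputable def Btab_s_811_814 (c : Nat) : Nat := @Bool.rec (fun _ => Nat) (Btab_811) (Btab_s_812_814 c) (Nat.ble 812 c)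
noncomputable def Btab_s_809_814 (c : Nat) : Nat := @Bool.rec (fun _ => Nat) (Btab_s_809_811 c) (Btab_s_811_814 c) (Nat.ble 811 c)
noncomputable def Btab_s_814_816 (c : Nat) : Nat := @Bool.rec (fun _ => Nat) (Btab_814) (Btab_815) (Nat.ble 815 c)
noncomputable def Btab_s_817_819 (c : Nat) : Nat := @Bool.rec (fun _ => Nat) (Btab_817) (Btab_818) (Nat.ble 818 c)
noncomputable def Btab_s_816_819 (c : Nat) : Nat := @Bool.rec (fun _ => Nat) (Btab_816) (Btab_s_817_819 c) (Nat.ble 817 c)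
noncomputable def Btab_s_814_819 (c : Nat) : Nat := @Bool.rec (fun _ => Nat) (Btab_s_814_816 c) (Btab_s_816_819 c) (Nat.ble 816 c)
noncomputable def Btab_s_809_819 (c : Nat) : Nat := @Bool.rec (fun _ => Nat) (Btab_s_809_814 c) (Btab_s_814_819 c) (Nat.ble 814 c)
noncomputable def Btab_s_799_819 (c : Nat) : Nat := @Bool.rec (fun _ => Nat) (Btab_s_799_809 c) (Btab_s_809_819 c) (Nat.ble 809 c)
noncomputable def Btab_s_780_819 (c : Nat) : Nat := @Bool.rec (fun _ => Nat) (Btab_s_780_799 c) (Btab_s_799_819 c) (Nat.ble 799 c)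
noncomputable def Btab_s_819_821 (c : Nat) : Nat := @Bool.rec (fun _ => Nat) (Btab_819) (Btab_820) (Nat.ble 820 c)
noncomputable def Btab_s_821_823 (c : Nat) : Nat := @Bool.rec (fun _ => Nat) (Btab_821) (Btab_822) (Nat.ble 822 c)
noncomputable def Btab_s_819_823 (c : Nat) : Nat := @Bool.rec (fun _ => Nat) (Btab_s_819_821 c) (Btab_s_821_823 c) (Nat.ble 821 c)
noncomputable def Btab_s_823_825 (c : Nat) : Nat := @Bool.rec (fun _ => Nat) (Btab_823) (Btab_824) (Nat.ble 824 c)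
noncomputable def Btab_s_826_828 (c : Nat) : Nat := @Bool.rec (fun _ => Nat) (Btab_826) (Btab_827) (Nat.ble 827 c)
noncomputable def Btab_s_825_828 (c : Nat) : Nat := @Bool.rec (fun _ => Nat) (Btab_825) (Btab_s_826_828 c) (Nat.ble 826 c)
noncomputable def Btab_s_823_828 (c : Nat) : Nat := @Bool.rec (fun _ => Nat) (Btab_s_823_825 c) (Btab_s_825_828 c) (Nat.ble 825 c)
noncomputable def Btab_s_819_828 (c : Nat) : Nat := @Bool.rec (fun _ => Nat) (Btab_s_819_823 c) (Btab_s_823_828 c) (Nat.ble 823 c)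
noncomputable def Btab_s_828_830 (c : Nat) : Nat := @Bool.rec (fun _ => Nat) (Btab_828) (Btab_829) (Nat.ble 829 c)
noncomputable def Btab_s_831_833 (c : Nat) : Nat := @Bool.rec (fun _ => Nat) (Btab_831) (Btab_832) (Nat.ble 832 c)
noncomputable def Btab_s_830_833 (c : Nat) : Nat := @Bool.rec (fun _ => Nat) (Btab_830) (Btab_s_831_833 c) (Nat.ble 831 c)
noncomputable def Btab_s_828_833 (c : Nat) : Nat := @Bool.rec (fun _ => Nat) (Btab_s_828_830 c) (Btab_s_830_833 c) (Nat.ble 830 c)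
noncomputable def Btab_s_833_835 (c : Nat) : Nat := @Bool.rec (fun _ => Nat) (Btab_833) (Btab_834) (Nat.ble 834 c)
noncomputable def Btab_s_836_838 (c : Nat) : Nat := @Bool.rec (fun _ => Nat) (Btab_836) (Btab_837) (Nat.ble 837 c)
noncomputable def Btab_s_835_838 (c : Nat) : Nat := @Bool.rec (fun _ => Nat) (Btab_835) (Btab_s_836_838 c) (Nat.ble 836 c)
noncomputable def Btab_s_833_838 (c : Nat) : Nat := @Bool.rec (fun _ => Nat) (Btab_s_833_835 c) (Btab_s_835_838 c) (Nat.ble 835 c)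
noncomputable def Btab_s_828_838 (c : Nat) : Nat := @Bool.rec (fun _ => Nat) (Btab_s_828_833 c) (Btab_s_833_838 c) (Nat.ble 833 c)
noncomputable def Btab_s_819_838 (c : Nat) : Nat := @Bool.rec (fun _ => Nat) (Btab_s_819_828 c) (Btab_s_828_838 c) (Nat.ble 828 c)
noncomputable def Btab_s_838_840 (c : Nat) : Nat := @Bool.rec (fun _ => Nat) (Btab_838) (Btab_839) (Nat.ble 839 c)
noncomputable def Btab_s_841_843 (c : Nat) : Nat := @Bool.rec (fun _ => Nat) (Btab_841) (Btab_842) (Nat.ble 842 c)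
noncomputable def Btab_s_840_843 (c : Nat) : Nat := @Bool.rec (fun _ => Nat) (Btab_840) (Btab_s_841_843 c) (Nat.ble 841 c)
noncomputable def Btab_s_838_843 (c : Nat) : Nat := @Bool.rec (fun _ => Nat) (Btab_s_838_840 c) (Btab_s_840_843 c) (Nat.ble 840 c)
noncomputable def Btab_s_843_845 (c : Nat) : Nat := @Bool.rec (fun _ => Nat) (Btab_843) (Btab_844) (Nat.ble 844 c)
noncomputable def Btab_s_846_848 (c : Nat) : Nat := @Bool.rec (fun _ => Nat) (Btab_846) (Btab_847) (Nat.ble 847 c)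
noncomputable def Btab_s_845_848 (c : Nat) : Nat := @Bool.rec (fun _ => Nat) (Btab_845) (Btab_s_846_848 c) (Nat.ble 846 c)
noncomputable def Btab_s_843_848 (c : Nat) : Nat := @Bool.rec (fun _ => Nat) (Btab_s_843_845 c) (Btab_s_845_848 c) (Nat.ble 845 c)
noncomputable def Btab_s_838_848 (c : Nat) : Nat := @Bool.rec (fun _ => Nat) (Btab_s_838_843 c) (Btab_s_843_848 c) (Nat.ble 843 c)
noncomputable def Btab_s_848_850 (c : Nat) : Nat := @Bool.rec (fun _ => Nat) (Btab_848) (Btab_849) (Nat.ble 849 c)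
noncomputable def Btab_s_851_853 (c : Nat) : Nat := @Bool.rec (fun _ => Nat) (Btab_851) (Btab_852) (Nat.ble 852 c)
noncomputable def Btab_s_850_853 (c : Nat) : Nat := @Bool.rec (fun _ => Nat) (Btab_850) (Btab_s_851_853 c) (Nat.ble 851 c)
noncomputable def Btab_s_848_853 (c : Nat) : Nat := @Bool.rec (fun _ => Nat) (Btab_s_848_850 c) (Btab_s_850_853 c) (Nat.ble 850 c)
noncomputable def Btab_s_853_855 (c : Nat) : Nat := @Bool.rec (fun _ => Nat) (Btab_853) (Btab_854) (Nat.ble 854 c)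
noncomputable def Btab_s_856_858 (c : Nat) : Nat := @Bool.rec (fun _ => Nat) (Btab_856) (Btab_857) (Nat.ble 857 c)
noncomputable def Btab_s_855_858 (c : Nat) : Nat := @Bool.rec (fun _ => Nat) (Btab_855) (Btab_s_856_858 c) (Nat.ble 856 c)
noncomputable def Btab_s_853_858 (c : Nat) : Nat := @Bool.rec (fun _ => Nat) (Btab_s_853_855 c) (Btab_s_855_858 c) (Nat.ble 855 c)
noncomputable def Btab_s_848_858 (c : Nat) : Nat := @Bool.rec (fun _ => Nat) (Btab_s_848_853 c) (Btab_s_853_858 c) (Nat.ble 853 c)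
noncomputable def Btab_s_838_858 (c : Nat) : Nat := @Bool.rec (fun _ => Nat) (Btab_s_838_848 c) (Btab_s_848_858 c) (Nat.ble 848 c)
noncomputable def Btab_s_819_858 (c : Nat) : Nat := @Bool.rec (fun _ => Nat) (Btab_s_819_838 c) (Btab_s_838_858 c) (Nat.ble 838 c)
noncomputable def Btab_s_780_858 (c : Nat) : Nat := @Bool.rec (fun _ => Nat) (Btab_s_780_819 c) (Btab_s_819_858 c) (Nat.ble 819 c)
noncomputable def Btab_s_858_860 (c : Nat) : Nat := @Bool.rec (fun _ => Nat) (Btab_858) (Btab_859) (Nat.ble 859 c)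
noncomputable def Btab_s_860_862 (c : Nat) : Nat := @Bool.rec (fun _ => Nat) (Btab_860) (Btab_861) (Nat.ble 861 c)
noncomputable def Btab_s_858_862 (c : Nat) : Nat := @Bool.rec (fun _ => Nat) (Btab_s_858_860 c) (Btab_s_860_862 c) (Nat.ble 860 c)
noncomputable def Btab_s_862_864 (c : Nat) : Nat := @Bool.rec (fun _ => Nat) (Btab_862) (Btab_863) (Nat.ble 863 c)
noncomputable def Btab_s_865_867 (c : Nat) : Nat := @Bool.rec (fun _ => Nat) (Btab_865) (Btab_866) (Nat.ble 866 c)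
noncomputable def Btab_s_864_867 (c : Nat) : Nat := @Bool.rec (fun _ => Nat) (Btab_864) (Btab_s_865_867 c) (Nat.ble 865 c)
noncomputable def Btab_s_862_867 (c : Nat) : Nat := @Bool.rec (fun _ => Nat) (Btab_s_862_864 c) (Btab_s_864_867 c) (Nat.ble 864 c)
noncomputable def Btab_s_858_867 (c : Nat) : Nat := @Bool.rec (fun _ => Nat) (Btab_s_858_862 c) (Btab_s_862_867 c) (Nat.ble 862 c)
noncomputable def Btab_s_867_869 (c : Nat) : Nat := @Bool.rec (fun _ => Nat) (Btab_867) (Btab_868) (Nat.ble 868 c)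
noncomputable def Btab_s_870_872 (c : Nat) : Nat := @Bool.rec (fun _ => Nat) (Btab_870) (Btab_871) (Nat.ble 871 c)
noncomputable def Btab_s_869_872 (c : Nat) : Nat := @Bool.rec (fun _ => Nat) (Btab_869) (Btab_s_870_872 c) (Nat.ble 870 c)
noncomputable def Btab_s_867_872 (c : Nat) : Nat := @Bool.rec (fun _ => Nat) (Btab_s_867_869 c) (Btab_s_869_872 c) (Nat.ble 869 c)
noncomputable def Btab_s_872_874 (c : Nat) : Nat := @Bool.rec (fun _ => Nat) (Btab_872) (Btab_873) (Nat.ble 873 c)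
noncomputable def Btab_s_875_877 (c : Nat) : Nat := @Bool.rec (fun _ => Nat) (Btab_875) (Btab_876) (Nat.ble 876 c)
noncomputable def Btab_s_874_877 (c : Nat) : Nat := @Bool.rec (fun _ => Nat) (Btab_874) (Btab_s_875_877 c) (Nat.ble 875 c)
noncomputable def Btab_s_872_877 (c : Nat) : Nat := @Bool.rec (fun _ => Nat) (Btab_s_872_874 c) (Btab_s_874_877 c) (Nat.ble 874 c)
noncomputable def Btab_s_867_877 (c : Nat) : Nat := @Bool.rec (fun _ => Nat) (Btab_s_867_872 c) (Btab_s_872_877 c) (Nat.ble 872 c)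
noncomputable def Btab_s_858_877 (c : Nat) : Nat := @Bool.rec (fun _ => Nat) (Btab_s_858_867 c) (Btab_s_867_877 c) (Nat.ble 867 c)
noncomputable def Btab_s_877_879 (c : Nat) : Nat := @Bool.rec (fun _ => Nat) (Btab_877) (Btab_878) (Nat.ble 878 c)
noncomputable def Btab_s_880_882 (c : Nat) : Nat := @Bool.rec (fun _ => Nat) (Btab_880) (Btab_881) (Nat.ble 881 c)
noncomputable def Btab_s_879_882 (c : Nat) : Nat := @Bool.rec (fun _ => Nat) (Btab_879) (Btab_s_880_882 c) (Nat.ble 880 c)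
noncomputable def Btab_s_877_882 (c : Nat) : Nat := @Bool.rec (fun _ => Nat) (Btab_s_877_879 c) (Btab_s_879_882 c) (Nat.ble 879 c)
noncomputable def Btab_s_882_884 (c : Nat) : Nat := @Bool.rec (fun _ => Nat) (Btab_882) (Btab_883) (Nat.ble 883 c)
noncomputable def Btab_s_885_887 (c : Nat) : Nat := @Bool.rec (fun _ => Nat) (Btab_885) (Btab_886) (Nat.ble 886 c)
noncomputable def Btab_s_884_887 (c : Nat) : Nat := @Bool.rec (fun _ => Nat) (Btab_884) (Btab_s_885_887 c) (Nat.ble 885 c)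
noncomputable def Btab_s_882_887 (c : Nat) : Nat := @Bool.rec (fun _ => Nat) (Btab_s_882_884 c) (Btab_s_884_887 c) (Nat.ble 884 c)
noncomputable def Btab_s_877_887 (c : Nat) : Nat := @Bool.rec (fun _ => Nat) (Btab_s_877_882 c) (Btab_s_882_887 c) (Nat.ble 882 c)
noncomputable def Btab_s_887_889 (c : Nat) : Nat := @Bool.rec (fun _ => Nat) (Btab_887) (Btab_888) (Nat.ble 888 c)
noncomputable def Btab_s_890_892 (c : Nat) : Nat := @Bool.rec (fun _ => Nat) (Btab_890) (Btab_891) (Nat.ble 891 c)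
noncomputable def Btab_s_889_892 (c : Nat) : Nat := @Bool.rec (fun _ => Nat) (Btab_889) (Btab_s_890_892 c) (Nat.ble 890 c)
noncomputable def Btab_s_887_892 (c : Nat) : Nat := @Bool.rec (fun _ => Nat) (Btab_s_887_889 c) (Btab_s_889_892 c) (Nat.ble 889 c)
noncomputable def Btab_s_892_894 (c : Nat) : Nat := @Bool.rec (fun _ => Nat) (Btab_892) (Btab_893) (Nat.ble 893 c)
noncomputable def Btab_s_895_897 (c : Nat) : Nat := @Bool.rec (fun _ => Nat) (Btab_895) (Btab_896) (Nat.ble 896 c)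
noncomputable def Btab_s_894_897 (c : Nat) : Nat := @Bool.rec (fun _ => Nat) (Btab_894) (Btab_s_895_897 c) (Nat.ble 895 c)
noncomputable def Btab_s_892_897 (c : Nat) : Nat := @Bool.rec (fun _ => Nat) (Btab_s_892_894 c) (Btab_s_894_897 c) (Nat.ble 894 c)
noncomputable def Btab_s_887_897 (c : Nat) : Nat := @Bool.rec (fun _ => Nat) (Btab_s_887_892 c) (Btab_s_892_897 c) (Nat.ble 892 c)
noncomputable def Btab_s_877_897 (c : Nat) : Nat := @Bool.rec (fun _ => Nat) (Btab_s_877_887 c) (Btab_s_887_897 c) (Nat.ble 887 c)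
noncomputable def Btab_s_858_897 (c : Nat) : Nat := @Bool.rec (fun _ => Nat) (Btab_s_858_877 c) (Btab_s_877_897 c) (Nat.ble 877 c)
noncomputable def Btab_s_897_899 (c : Nat) : Nat := @Bool.rec (fun _ => Nat) (Btab_897) (Btab_898) (Nat.ble 898 c)
noncomputable def Btab_s_899_901 (c : Nat) : Nat := @Bool.rec (fun _ => Nat) (Btab_899) (Btab_900) (Nat.ble 900 c)
noncomputable def Btab_s_897_901 (c : Nat) : Nat := @Bool.rec (fun _ => Nat) (Btab_s_897_899 c) (Btab_s_899_901 c) (Nat.ble 899 c)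
noncomputable def Btab_s_901_903 (c : Nat) : Nat := @Bool.rec (fun _ => Nat) (Btab_901) (Btab_902) (Nat.ble 902 c)
noncomputable def Btab_s_904_906 (c : Nat) : Nat := @Bool.rec (fun _ => Nat) (Btab_904) (Btab_905) (Nat.ble 905 c)
noncomputable def Btab_s_903_906 (c : Nat) : Nat := @Bool.rec (fun _ => Nat) (Btab_903) (Btab_s_904_906 c) (Nat.ble 904 c)
noncomputable def Btab_s_901_906 (c : Nat) : Nat := @Bool.rec (fun _ => Nat) (Btab_s_901_903 c) (Btab_s_903_906 c) (Nat.ble 903 c)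
noncomputable def Btab_s_897_906 (c : Nat) : Nat := @Bool.rec (fun _ => Nat) (Btab_s_897_901 c) (Btab_s_901_906 c) (Nat.ble 901 c)
noncomputable def Btab_s_906_908 (c : Nat) : Nat := @Bool.rec (fun _ => Nat) (Btab_906) (Btab_907) (Nat.ble 907 c)
noncomputable def Btab_s_909_911 (c : Nat) : Nat := @Bool.rec (fun _ => Nat) (Btab_909) (Btab_910) (Nat.ble 910 c)
noncomputable def Btab_s_908_911 (c : Nat) : Nat := @Bool.rec (fun _ => Nat) (Btab_908) (Btab_s_909_911 c) (Nat.ble 909 c)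
noncomputable def Btab_s_906_911 (c : Nat) : Nat := @Bool.rec (fun _ => Nat) (Btab_s_906_908 c) (Btab_s_908_911 c) (Nat.ble 908 c)
noncomputable def Btab_s_911_913 (c : Nat) : Nat := @Bool.rec (fun _ => Nat) (Btab_911) (Btab_912) (Nat.ble 912 c)
noncomputable def Btab_s_914_916 (c : Nat) : Nat := @Bool.rec (fun _ => Nat) (Btab_914) (Btab_915) (Nat.ble 915 c)
noncomputable def Btab_s_913_916 (c : Nat) : Nat := @Bool.rec (fun _ => Nat) (Btab_913) (Btab_s_914_916 c) (Nat.ble 914 c)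
noncomputable def Btab_s_911_916 (c : Nat) : Nat := @Bool.rec (fun _ => Nat) (Btab_s_911_913 c) (Btab_s_913_916 c) (Nat.ble 913 c)
noncomputable def Btab_s_906_916 (c : Nat) : Nat := @Bool.rec (fun _ => Nat) (Btab_s_906_911 c) (Btab_s_911_916 c) (Nat.ble 911 c)
noncomputable def Btab_s_897_916 (c : Nat) : Nat := @Bool.rec (fun _ => Nat) (Btab_s_897_906 c) (Btab_s_906_916 c) (Nat.ble 906 c)
noncomputable def Btab_s_916_918 (c : Nat) : Nat := @Bool.rec (fun _ => Nat) (Btab_916) (Btab_917) (Nat.ble 917 c)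
noncomputable def Btab_s_919_921 (c : Nat) : Nat := @Bool.rec (fun _ => Nat) (Btab_919) (Btab_920) (Nat.ble 920 c)
noncomputable def Btab_s_918_921 (c : Nat) : Nat := @Bool.rec (fun _ => Nat) (Btab_918) (Btab_s_919_921 c) (Nat.ble 919 c)
noncomputable def Btab_s_916_921 (c : Nat) : Nat := @Bool.rec (fun _ => Nat) (Btab_s_916_918 c) (Btab_s_918_921 c) (Nat.ble 918 c)
noncomputable def Btab_s_921_923 (c : Nat) : Nat := @Bool.rec (fun _ => Nat) (Btab_921) (Btab_922) (Nat.ble 922 c)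
noncomputable def Btab_s_924_926 (c : Nat) : Nat := @Bool.rec (fun _ => Nat) (Btab_924) (Btab_925) (Nat.ble 925 c)
noncomputable def Btab_s_923_926 (c : Nat) : Nat := @Bool.rec (fun _ => Nat) (Btab_923) (Btab_s_924_926 c) (Nat.ble 924 c)
noncomputable def Btab_s_921_926 (c : Nat) : Nat := @Bool.rec (fun _ => Nat) (Btab_s_921_923 c) (Btab_s_923_926 c) (Nat.ble 923 c)
noncomputable def Btab_s_916_926 (c : Nat) : Nat := @Bool.rec (fun _ => Nat) (Btab_s_916_921 c) (Btab_s_921_926 c) (Nat.ble 921 c)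
noncomputable def Btab_s_926_928 (c : Nat) : Nat := @Bool.rec (fun _ => Nat) (Btab_926) (Btab_927) (Nat.ble 927 c)
noncomputable def Btab_s_929_931 (c : Nat) : Nat := @Bool.rec (fun _ => Nat) (Btab_929) (Btab_930) (Nat.ble 930 c)
noncomputable def Btab_s_928_931 (c : Nat) : Nat := @Bool.rec (fun _ => Nat) (Btab_928) (Btab_s_929_931 c) (Nat.ble 929 c)
noncomputable def Btab_s_926_931 (c : Nat) : Nat := @Bool.rec (fun _ => Nat) (Btab_s_926_928 c) (Btab_s_928_931 c) (Nat.ble 928 c)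
noncomputable def Btab_s_931_933 (c : Nat) : Nat := @Bool.rec (fun _ => Nat) (Btab_931) (Btab_932) (Nat.ble 932 c)
noncomputable def Btab_s_934_936 (c : Nat) : Nat := @Bool.rec (fun _ => Nat) (Btab_934) (Btab_935) (Nat.ble 935 c)
noncomputable def Btab_s_933_936 (c : Nat) : Nat := @Bool.rec (fun _ => Nat) (Btab_933) (Btab_s_934_936 c) (Nat.ble 934 c)
noncomputable def Btab_s_931_936 (c : Nat) : Nat := @Bool.rec (fun _ => Nat) (Btab_s_931_933 c) (Btab_s_933_936 c) (Nat.ble 933 c)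
noncomputable def Btab_s_926_936 (c : Nat) : Nat := @Bool.rec (fun _ => Nat) (Btab_s_926_931 c) (Btab_s_931_936 c) (Nat.ble 931 c)
noncomputable def Btab_s_916_936 (c : Nat) : Nat := @Bool.rec (fun _ => Nat) (Btab_s_916_926 c) (Btab_s_926_936 c) (Nat.ble 926 c)
noncomputable def Btab_s_897_936 (c : Nat) : Nat := @Bool.rec (fun _ => Nat) (Btab_s_897_916 c) (Btab_s_916_936 c) (Nat.ble 916 c)
noncomputable def Btab_s_858_936 (c : Nat) : Nat := @Bool.rec (fun _ => Nat) (Btab_s_858_897 c) (Btab_s_897_936 c) (Nat.ble 897 c)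
noncomputable def Btab_s_780_936 (c : Nat) : Nat := @Bool.rec (fun _ => Nat) (Btab_s_780_858 c) (Btab_s_858_936 c) (Nat.ble 858 c)
noncomputable def Btab_s_624_936 (c : Nat) : Nat := @Bool.rec (fun _ => Nat) (Btab_s_624_780 c) (Btab_s_780_936 c) (Nat.ble 780 c)
noncomputable def Btab_s_936_938 (c : Nat) : Nat := @Bool.rec (fun _ => Nat) (Btab_936) (Btab_937) (Nat.ble 937 c)
noncomputable def Btab_s_938_940 (c : Nat) : Nat := @Bool.rec (fun _ => Nat) (Btab_938) (Btab_939) (Nat.ble 939 c)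
noncomputable def Btab_s_936_940 (c : Nat) : Nat := @Bool.rec (fun _ => Nat) (Btab_s_936_938 c) (Btab_s_938_940 c) (Nat.ble 938 c)
noncomputable def Btab_s_940_942 (c : Nat) : Nat := @Bool.rec (fun _ => Nat) (Btab_940) (Btab_941) (Nat.ble 941 c)
noncomputable def Btab_s_943_945 (c : Nat) : Nat := @Bool.rec (fun _ => Nat) (Btab_943) (Btab_944) (Nat.ble 944 c)
noncomputable def Btab_s_942_945 (c : Nat) : Nat := @Bool.rec (fun _ => Nat) (Btab_942) (Btab_s_943_945 c) (Nat.ble 943 c)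
noncomputable def Btab_s_940_945 (c : Nat) : Nat := @Bool.rec (fun _ => Nat) (Btab_s_940_942 c) (Btab_s_942_945 c) (Nat.ble 942 c)
noncomputable def Btab_s_936_945 (c : Nat) : Nat := @Bool.rec (fun _ => Nat) (Btab_s_936_940 c) (Btab_s_940_945 c) (Nat.ble 940 c)
noncomputable def Btab_s_945_947 (c : Nat) : Nat := @Bool.rec (fun _ => Nat) (Btab_945) (Btab_946) (Nat.ble 946 c)
noncomputable def Btab_s_948_950 (c : Nat) : Nat := @Bool.rec (fun _ => Nat) (Btab_948) (Btab_949) (Nat.ble 949 c)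
noncomputable def Btab_s_947_950 (c : Nat) : Nat := @Bool.rec (fun _ => Nat) (Btab_947) (Btab_s_948_950 c) (Nat.ble 948 c)
noncomputable def Btab_s_945_950 (c : Nat) : Nat := @Bool.rec (fun _ => Nat) (Btab_s_945_947 c) (Btab_s_947_950 c) (Nat.ble 947 c)
noncomputable def Btab_s_950_952 (c : Nat) : Nat := @Bool.rec (fun _ => Nat) (Btab_950) (Btab_951) (Nat.ble 951 c)
noncomputable def Btab_s_953_955 (c : Nat) : Nat := @Bool.rec (fun _ => Nat) (Btab_953) (Btab_954) (Nat.ble 954 c)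
noncomputable def Btab_s_952_955 (c : Nat) : Nat := @Bool.rec (fun _ => Nat) (Btab_952) (Btab_s_953_955 c) (Nat.ble 953 c)
noncomputable def Btab_s_950_955 (c : Nat) : Nat := @Bool.rec (fun _ => Nat) (Btab_s_950_952 c) (Btab_s_952_955 c) (Nat.ble 952 c)
noncomputable def Btab_s_945_955 (c : Nat) : Nat := @Bool.rec (fun _ => Nat) (Btab_s_945_950 c) (Btab_s_950_955 c) (Nat.ble 950 c)
noncomputable def Btab_s_936_955 (c : Nat) : Nat := @Bool.rec (fun _ => Nat) (Btab_s_936_945 c) (Btab_s_945_955 c) (Nat.ble 945 c)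
noncomputable def Btab_s_955_957 (c : Nat) : Nat := @Bool.rec (fun _ => Nat) (Btab_955) (Btab_956) (Nat.ble 956 c)
noncomputable def Btab_s_958_960 (c : Nat) : Nat := @Bool.rec (fun _ => Nat) (Btab_958) (Btab_959) (Nat.ble 959 c)
noncomputable def Btab_s_957_960 (c : Nat) : Nat := @Bool.rec (fun _ => Nat) (Btab_957) (Btab_s_958_960 c) (Nat.ble 958 c)
noncomputable def Btab_s_955_960 (c : Nat) : Nat := @Bool.rec (fun _ => Nat) (Btab_s_955_957 c) (Btab_s_957_960 c) (Nat.ble 957 c)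
noncomputable def Btab_s_960_962 (c : Nat) : Nat := @Bool.rec (fun _ => Nat) (Btab_960) (Btab_961) (Nat.ble 961 c)
noncomputable def Btab_s_963_965 (c : Nat) : Nat := @Bool.rec (fun _ => Nat) (Btab_963) (Btab_964) (Nat.ble 964 c)
noncomputable def Btab_s_962_965 (c : Nat) : Nat := @Bool.rec (fun _ => Nat) (Btab_962) (Btab_s_963_965 c) (Nat.ble 963 c)
noncomputable def Btab_s_960_965 (c : Nat) : Nat := @Bool.rec (fun _ => Nat) (Btab_s_960_962 c) (Btab_s_962_965 c) (Nat.ble 962 c)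
noncomputable def Btab_s_955_965 (c : Nat) : Nat := @Bool.rec (fun _ => Nat) (Btab_s_955_960 c) (Btab_s_960_965 c) (Nat.ble 960 c)
noncomputable def Btab_s_965_967 (c : Nat) : Nat := @Bool.rec (fun _ => Nat) (Btab_965) (Btab_966) (Nat.ble 966 c)
noncomputable def Btab_s_968_970 (c : Nat) : Nat := @Bool.rec (fun _ => Nat) (Btab_968) (Btab_969) (Nat.ble 969 c)
noncomputable def Btab_s_967_970 (c : Nat) : Nat := @Bool.rec (fun _ => Nat) (Btab_967) (Btab_s_968_970 c) (Nat.ble 968 c)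
noncomputable def Btab_s_965_970 (c : Nat) : Nat := @Bool.rec (fun _ => Nat) (Btab_s_965_967 c) (Btab_s_967_970 c) (Nat.ble 967 c)
noncomputable def Btab_s_970_972 (c : Nat) : Nat := @Bool.rec (fun _ => Nat) (Btab_970) (Btab_971) (Nat.ble 971 c)
noncomputable def Btab_s_973_975 (c : Nat) : Nat := @Bool.rec (fun _ => Nat) (Btab_973) (Btab_974) (Nat.ble 974 c)
noncomputable def Btab_s_972_975 (c : Nat) : Nat := @Bool.rec (fun _ => Nat) (Btab_972) (Btab_s_973_975 c) (Nat.ble 973 c)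
noncomputable def Btab_s_970_975 (c : Nat) : Nat := @Bool.rec (fun _ => Nat) (Btab_s_970_972 c) (Btab_s_972_975 c) (Nat.ble 972 c)
noncomputable def Btab_s_965_975 (c : Nat) : Nat := @Bool.rec (fun _ => Nat) (Btab_s_965_970 c) (Btab_s_970_975 c) (Nat.ble 970 c)
noncomputable def Btab_s_955_975 (c : Nat) : Nat := @Bool.rec (fun _ => Nat) (Btab_s_955_965 c) (Btab_s_965_975 c) (Nat.ble 965 c)
noncomputable def Btab_s_936_975 (c : Nat) : Nat := @Bool.rec (fun _ => Nat) (Btab_s_936_955 c) (Btab_s_955_975 c) (Nat.ble 955 c)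
noncomputable def Btab_s_975_977 (c : Nat) : Nat := @Bool.rec (fun _ => Nat) (Btab_975) (Btab_976) (Nat.ble 976 c)
noncomputable def Btab_s_977_979 (c : Nat) : Nat := @Bool.rec (fun _ => Nat) (Btab_977) (Btab_978) (Nat.ble 978 c)
noncomputable def Btab_s_975_979 (c : Nat) : Nat := @Bool.rec (fun _ => Nat) (Btab_s_975_977 c) (Btab_s_977_979 c) (Nat.ble 977 c)
noncomputable def Btab_s_979_981 (c : Nat) : Nat := @Bool.rec (fun _ => Nat) (Btab_979) (Btab_980) (Nat.ble 980 c)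
noncomputable def Btab_s_982_984 (c : Nat) : Nat := @Bool.rec (fun _ => Nat) (Btab_982) (Btab_983) (Nat.ble 983 c)
noncomputable def Btab_s_981_984 (c : Nat) : Nat := @Bool.rec (fun _ => Nat) (Btab_981) (Btab_s_982_984 c) (Nat.ble 982 c)
noncomputable def Btab_s_979_984 (c : Nat) : Nat := @Bool.rec (fun _ => Nat) (Btab_s_979_981 c) (Btab_s_981_984 c) (Nat.ble 981 c)
noncomputable def Btab_s_975_984 (c : Nat) : Nat := @Bool.rec (fun _ => Nat) (Btab_s_975_979 c) (Btab_s_979_984 c) (Nat.ble 979 c)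
noncomputable def Btab_s_984_986 (c : Nat) : Nat := @Bool.rec (fun _ => Nat) (Btab_984) (Btab_985) (Nat.ble 985 c)
noncomputable def Btab_s_987_989 (c : Nat) : Nat := @Bool.rec (fun _ => Nat) (Btab_987) (Btab_988) (Nat.ble 988 c)
noncomputable def Btab_s_986_989 (c : Nat) : Nat := @Bool.rec (fun _ => Nat) (Btab_986) (Btab_s_987_989 c) (Nat.ble 987 c)
noncomputable def Btab_s_984_989 (c : Nat) : Nat := @Bool.rec (fun _ => Nat) (Btab_s_984_986 c) (Btab_s_986_989 c) (Nat.ble 986 c)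
noncomputable def Btab_s_989_991 (c : Nat) : Nat := @Bool.rec (fun _ => Nat) (Btab_989) (Btab_990) (Nat.ble 990 c)
noncomputable def Btab_s_992_994 (c : Nat) : Nat := @Bool.rec (fun _ => Nat) (Btab_992) (Btab_993) (Nat.ble 993 c)
noncomputable def Btab_s_991_994 (c : Nat) : Nat := @Bool.rec (fun _ => Nat) (Btab_991) (Btab_s_992_994 c) (Nat.ble 992 c)
noncomputable def Btab_s_989_994 (c : Nat) : Nat := @Bool.rec (fun _ => Nat) (Btab_s_989_991 c) (Btab_s_991_994 c) (Nat.ble 991 c)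
noncomputable def Btab_s_984_994 (c : Nat) : Nat := @Bool.rec (fun _ => Nat) (Btab_s_984_989 c) (Btab_s_989_994 c) (Nat.ble 989 c)
noncomputable def Btab_s_975_994 (c : Nat) : Nat := @Bool.rec (fun _ => Nat) (Btab_s_975_984 c) (Btab_s_984_994 c) (Nat.ble 984 c)
noncomputable def Btab_s_994_996 (c : Nat) : Nat := @Bool.rec (fun _ => Nat) (Btab_994) (Btab_995) (Nat.ble 995 c)
noncomputable def Btab_s_997_999 (c : Nat) : Nat := @Bool.rec (fun _ => Nat) (Btab_997) (Btab_998) (Nat.ble 998 c)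
noncomputable def Btab_s_996_999 (c : Nat) : Nat := @Bool.rec (fun _ => Nat) (Btab_996) (Btab_s_997_999 c) (Nat.ble 997 c)
noncomputable def Btab_s_994_999 (c : Nat) : Nat := @Bool.rec (fun _ => Nat) (Btab_s_994_996 c) (Btab_s_996_999 c) (Nat.ble 996 c)
noncomputable def Btab_s_999_1001 (c : Nat) : Nat := @Bool.rec (fun _ => Nat) (Btab_999) (Btab_1000) (Nat.ble 1000 c)
noncomputable def Btab_s_1002_1004 (c : Nat) : Nat := @Bool.rec (fun _ => Nat) (Btab_1002) (Btab_1003) (Nat.ble 1003 c)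
noncomputable def Btab_s_1001_1004 (c : Nat) : Nat := @Bool.rec (fun _ => Nat) (Btab_1001) (Btab_s_1002_1004 c) (Nat.ble 1002 c)
noncomputable def Btab_s_999_1004 (c : Nat) : Nat := @Bool.rec (fun _ => Nat) (Btab_s_999_1001 c) (Btab_s_1001_1004 c) (Nat.ble 1001 c)
noncomputable def Btab_s_994_1004 (c : Nat) : Nat := @Bool.rec (fun _ => Nat) (Btab_s_994_999 c) (Btab_s_999_1004 c) (Nat.ble 999 c)
noncomputable def Btab_s_1004_1006 (c : Nat) : Nat := @Bool.rec (fun _ => Nat) (Btab_1004) (Btab_1005) (Nat.ble 1005 c)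
noncomputable def Btab_s_1007_1009 (c : Nat) : Nat := @Bool.rec (fun _ => Nat) (Btab_1007) (Btab_1008) (Nat.ble 1008 c)
noncomputable def Btab_s_1006_1009 (c : Nat) : Nat := @Bool.rec (fun _ => Nat) (Btab_1006) (Btab_s_1007_1009 c) (Nat.ble 1007 c)
noncomputable def Btab_s_1004_1009 (c : Nat) : Nat := @Bool.rec (fun _ => Nat) (Btab_s_1004_1006 c) (Btab_s_1006_1009 c) (Nat.ble 1006 c)
noncomputable def Btab_s_1009_1011 (c : Nat) : Nat := @Bool.rec (fun _ => Nat) (Btab_1009) (Btab_1010) (Nat.ble 1010 c)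
noncomputable def Btab_s_1012_1014 (c : Nat) : Nat := @Bool.rec (fun _ => Nat) (Btab_1012) (Btab_1013) (Nat.ble 1013 c)
noncomputable def Btab_s_1011_1014 (c : Nat) : Nat := @Bool.rec (fun _ => Nat) (Btab_1011) (Btab_s_1012_1014 c) (Nat.ble 1012 c)
noncomputable def Btab_s_1009_1014 (c : Nat) : Nat := @Bool.rec (fun _ => Nat) (Btab_s_1009_1011 c) (Btab_s_1011_1014 c) (Nat.ble 1011 c)
noncomputable def Btab_s_1004_1014 (c : Nat) : Nat := @Bool.rec (fun _ => Nat) (Btab_s_1004_1009 c) (Btab_s_1009_1014 c) (Nat.ble 1009 c)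
noncomputable def Btab_s_994_1014 (c : Nat) : Nat := @Bool.rec (fun _ => Nat) (Btab_s_994_1004 c) (Btab_s_1004_1014 c) (Nat.ble 1004 c)
noncomputable def Btab_s_975_1014 (c : Nat) : Nat := @Bool.rec (fun _ => Nat) (Btab_s_975_994 c) (Btab_s_994_1014 c) (Nat.ble 994 c)
noncomputable def Btab_s_936_1014 (c : Nat) : Nat := @Bool.rec (fun _ => Nat) (Btab_s_936_975 c) (Btab_s_975_1014 c) (Nat.ble 975 c)
noncomputable def Btab_s_1014_1016 (c : Nat) : Nat := @Bool.rec (fun _ => Nat) (Btab_1014) (Btab_1015) (Nat.ble 1015 c)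
noncomputable def Btab_s_1016_1018 (c : Nat) : Nat := @Bool.rec (fun _ => Nat) (Btab_1016) (Btab_1017) (Nat.ble 1017 c)
noncomputable def Btab_s_1014_1018 (c : Nat) : Nat := @Bool.rec (fun _ => Nat) (Btab_s_1014_1016 c) (Btab_s_1016_1018 c) (Nat.ble 1016 c)
noncomputable def Btab_s_1018_1020 (c : Nat) : Nat := @Bool.rec (fun _ => Nat) (Btab_1018) (Btab_1019) (Nat.ble 1019 c)
noncomputable def Btab_s_1021_1023 (c : Nat) : Nat := @Bool.rec (fun _ => Nat) (Btab_1021) (Btab_1022) (Nat.ble 1022 c)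
noncomputable def Btab_s_1020_1023 (c : Nat) : Nat := @Bool.rec (fun _ => Nat) (Btab_1020) (Btab_s_1021_1023 c) (Nat.ble 1021 c)
noncomputable def Btab_s_1018_1023 (c : Nat) : Nat := @Bool.rec (fun _ => Nat) (Btab_s_1018_1020 c) (Btab_s_1020_1023 c) (Nat.ble 1020 c)
noncomputable def Btab_s_1014_1023 (c : Nat) : Nat := @Bool.rec (fun _ => Nat) (Btab_s_1014_1018 c) (Btab_s_1018_1023 c) (Nat.ble 1018 c)
noncomputable def Btab_s_1023_1025 (c : Nat) : Nat := @Bool.rec (fun _ => Nat) (Btab_1023) (Btab_1024) (Nat.ble 1024 c)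
noncomputable def Btab_s_1026_1028 (c : Nat) : Nat := @Bool.rec (fun _ => Nat) (Btab_1026) (Btab_1027) (Nat.ble 1027 c)
noncomputable def Btab_s_1025_1028 (c : Nat) : Nat := @Bool.rec (fun _ => Nat) (Btab_1025) (Btab_s_1026_1028 c) (Nat.ble 1026 c)
noncomputable def Btab_s_1023_1028 (c : Nat) : Nat := @Bool.rec (fun _ => Nat) (Btab_s_1023_1025 c) (Btab_s_1025_1028 c) (Nat.ble 1025 c)
noncomputable def Btab_s_1028_1030 (c : Nat) : Nat := @Bool.rec (fun _ => Nat) (Btab_1028) (Btab_1029) (Nat.ble 1029 c)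
noncomputable def Btab_s_1031_1033 (c : Nat) : Nat := @Bool.rec (fun _ => Nat) (Btab_1031) (Btab_1032) (Nat.ble 1032 c)
noncomputable def Btab_s_1030_1033 (c : Nat) : Nat := @Bool.rec (fun _ => Nat) (Btab_1030) (Btab_s_1031_1033 c) (Nat.ble 1031 c)
noncomputable def Btab_s_1028_1033 (c : Nat) : Nat := @Bool.rec (fun _ => Nat) (Btab_s_1028_1030 c) (Btab_s_1030_1033 c) (Nat.ble 1030 c)
noncomputable def Btab_s_1023_1033 (c : Nat) : Nat := @Bool.rec (fun _ => Nat) (Btab_s_1023_1028 c) (Btab_s_1028_1033 c) (Nat.ble 1028 c)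
noncomputable def Btab_s_1014_1033 (c : Nat) : Nat := @Bool.rec (fun _ => Nat) (Btab_s_1014_1023 c) (Btab_s_1023_1033 c) (Nat.ble 1023 c)
noncomputable def Btab_s_1033_1035 (c : Nat) : Nat := @Bool.rec (fun _ => Nat) (Btab_1033) (Btab_1034) (Nat.ble 1034 c)
noncomputable def Btab_s_1036_1038 (c : Nat) : Nat := @Bool.rec (fun _ => Nat) (Btab_1036) (Btab_1037) (Nat.ble 1037 c)
noncomputable def Btab_s_1035_1038 (c : Nat) : Nat := @Bool.rec (fun _ => Nat) (Btab_1035) (Btab_s_1036_1038 c) (Nat.ble 1036 c)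
noncomputable def Btab_s_1033_1038 (c : Nat) : Nat := @Bool.rec (fun _ => Nat) (Btab_s_1033_1035 c) (Btab_s_1035_1038 c) (Nat.ble 1035 c)
noncomputable def Btab_s_1038_1040 (c : Nat) : Nat := @Bool.rec (fun _ => Nat) (Btab_1038) (Btab_1039) (Nat.ble 1039 c)
noncomputable def Btab_s_1041_1043 (c : Nat) : Nat := @Bool.rec (fun _ => Nat) (Btab_1041) (Btab_1042) (Nat.ble 1042 c)
noncomputable def Btab_s_1040_1043 (c : Nat) : Nat := @Bool.rec (fun _ => Nat) (Btab_1040) (Btab_s_1041_1043 c) (Nat.ble 1041 c)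
noncomputable def Btab_s_1038_1043 (c : Nat) : Nat := @Bool.rec (fun _ => Nat) (Btab_s_1038_1040 c) (Btab_s_1040_1043 c) (Nat.ble 1040 c)
noncomputable def Btab_s_1033_1043 (c : Nat) : Nat := @Bool.rec (fun _ => Nat) (Btab_s_1033_1038 c) (Btab_s_1038_1043 c) (Nat.ble 1038 c)
noncomputable def Btab_s_1043_1045 (c : Nat) : Nat := @Bool.rec (fun _ => Nat) (Btab_1043) (Btab_1044) (Nat.ble 1044 c)
noncomputable def Btab_s_1046_1048 (c : Nat) : Nat := @Bool.rec (fun _ => Nat) (Btab_1046) (Btab_1047) (Nat.ble 1047 c)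
noncomputable def Btab_s_1045_1048 (c : Nat) : Nat := @Bool.rec (fun _ => Nat) (Btab_1045) (Btab_s_1046_1048 c) (Nat.ble 1046 c)
noncomputable def Btab_s_1043_1048 (c : Nat) : Nat := @Bool.rec (fun _ => Nat) (Btab_s_1043_1045 c) (Btab_s_1045_1048 c) (Nat.ble 1045 c)
noncomputable def Btab_s_1048_1050 (c : Nat) : Nat := @Bool.rec (fun _ => Nat) (Btab_1048) (Btab_1049) (Nat.ble 1049 c)
noncomputable def Btab_s_1051_1053 (c : Nat) : Nat := @Bool.rec (fun _ => Nat) (Btab_1051) (Btab_1052) (Nat.ble 1052 c)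
noncomputable def Btab_s_1050_1053 (c : Nat) : Nat := @Bool.rec (fun _ => Nat) (Btab_1050) (Btab_s_1051_1053 c) (Nat.ble 1051 c)
noncomputable def Btab_s_1048_1053 (c : Nat) : Nat := @Bool.rec (fun _ => Nat) (Btab_s_1048_1050 c) (Btab_s_1050_1053 c) (Nat.ble 1050 c)
noncomputable def Btab_s_1043_1053 (c : Nat) : Nat := @Bool.rec (fun _ => Nat) (Btab_s_1043_1048 c) (Btab_s_1048_1053 c) (Nat.ble 1048 c)
noncomputable def Btab_s_1033_1053 (c : Nat) : Nat := @Bool.rec (fun _ => Nat) (Btab_s_1033_1043 c) (Btab_s_1043_1053 c) (Nat.ble 1043 c)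
noncomputable def Btab_s_1014_1053 (c : Nat) : Nat := @Bool.rec (fun _ => Nat) (Btab_s_1014_1033 c) (Btab_s_1033_1053 c) (Nat.ble 1033 c)
noncomputable def Btab_s_1053_1055 (c : Nat) : Nat := @Bool.rec (fun _ => Nat) (Btab_1053) (Btab_1054) (Nat.ble 1054 c)
noncomputable def Btab_s_1055_1057 (c : Nat) : Nat := @Bool.rec (fun _ => Nat) (Btab_1055) (Btab_1056) (Nat.ble 1056 c)
noncomputable def Btab_s_1053_1057 (c : Nat) : Nat := @Bool.rec (fun _ => Nat) (Btab_s_1053_1055 c) (Btab_s_1055_1057 c) (Nat.ble 1055 c)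
noncomputable def Btab_s_1057_1059 (c : Nat) : Nat := @Bool.rec (fun _ => Nat) (Btab_1057) (Btab_1058) (Nat.ble 1058 c)
noncomputable def Btab_s_1060_1062 (c : Nat) : Nat := @Bool.rec (fun _ => Nat) (Btab_1060) (Btab_1061) (Nat.ble 1061 c)
noncomputable def Btab_s_1059_1062 (c : Nat) : Nat := @Bool.rec (fun _ => Nat) (Btab_1059) (Btab_s_1060_1062 c) (Nat.ble 1060 c)
noncomputable def Btab_s_1057_1062 (c : Nat) : Nat := @Bool.rec (fun _ => Nat) (Btab_s_1057_1059 c) (Btab_s_1059_1062 c) (Nat.ble 1059 c)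
noncomputable def Btab_s_1053_1062 (c : Nat) : Nat := @Bool.rec (fun _ => Nat) (Btab_s_1053_1057 c) (Btab_s_1057_1062 c) (Nat.ble 1057 c)
noncomputable def Btab_s_1062_1064 (c : Nat) : Nat := @Bool.rec (fun _ => Nat) (Btab_1062) (Btab_1063) (Nat.ble 1063 c)
noncomputable def Btab_s_1065_1067 (c : Nat) : Nat := @Bool.rec (fun _ => Nat) (Btab_1065) (Btab_1066) (Nat.ble 1066 c)
noncomputable def Btab_s_1064_1067 (c : Nat) : Nat := @Bool.rec (fun _ => Nat) (Btab_1064) (Btab_s_1065_1067 c) (Nat.ble 1065 c)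
noncomputable def Btab_s_1062_1067 (c : Nat) : Nat := @Bool.rec (fun _ => Nat) (Btab_s_1062_1064 c) (Btab_s_1064_1067 c) (Nat.ble 1064 c)
noncomputable def Btab_s_1067_1069 (c : Nat) : Nat := @Bool.rec (fun _ => Nat) (Btab_1067) (Btab_1068) (Nat.ble 1068 c)
noncomputable def Btab_s_1070_1072 (c : Nat) : Nat := @Bool.rec (fun _ => Nat) (Btab_1070) (Btab_1071) (Nat.ble 1071 c)
noncomputable def Btab_s_1069_1072 (c : Nat) : Nat := @Bool.rec (fun _ => Nat) (Btab_1069) (Btab_s_1070_1072 c) (Nat.ble 1070 c)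
noncomputable def Btab_s_1067_1072 (c : Nat) : Nat := @Bool.rec (fun _ => Nat) (Btab_s_1067_1069 c) (Btab_s_1069_1072 c) (Nat.ble 1069 c)
noncomputable def Btab_s_1062_1072 (c : Nat) : Nat := @Bool.rec (fun _ => Nat) (Btab_s_1062_1067 c) (Btab_s_1067_1072 c) (Nat.ble 1067 c)
noncomputable def Btab_s_1053_1072 (c : Nat) : Nat := @Bool.rec (fun _ => Nat) (Btab_s_1053_1062 c) (Btab_s_1062_1072 c) (Nat.ble 1062 c)
noncomputable def Btab_s_1072_1074 (c : Nat) : Nat := @Bool.rec (fun _ => Nat) (Btab_1072) (Btab_1073) (Nat.ble 1073 c)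
noncomputable def Btab_s_1075_1077 (c : Nat) : Nat := @Bool.rec (fun _ => Nat) (Btab_1075) (Btab_1076) (Nat.ble 1076 c)
noncomputable def Btab_s_1074_1077 (c : Nat) : Nat := @Bool.rec (fun _ => Nat) (Btab_1074) (Btab_s_1075_1077 c) (Nat.ble 1075 c)
noncomputable def Btab_s_1072_1077 (c : Nat) : Nat := @Bool.rec (fun _ => Nat) (Btab_s_1072_1074 c) (Btab_s_1074_1077 c) (Nat.ble 1074 c)
noncomputable def Btab_s_1077_1079 (c : Nat) : Nat := @Bool.rec (fun _ => Nat) (Btab_1077) (Btab_1078) (Nat.ble 1078 c)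
noncomputable def Btab_s_1080_1082 (c : Nat) : Nat := @Bool.rec (fun _ => Nat) (Btab_1080) (Btab_1081) (Nat.ble 1081 c)
noncomputable def Btab_s_1079_1082 (c : Nat) : Nat := @Bool.rec (fun _ => Nat) (Btab_1079) (Btab_s_1080_1082 c) (Nat.ble 1080 c)
noncomputable def Btab_s_1077_1082 (c : Nat) : Nat := @Bool.rec (fun _ => Nat) (Btab_s_1077_1079 c) (Btab_s_1079_1082 c) (Nat.ble 1079 c)
noncomputable def Btab_s_1072_1082 (c : Nat) : Nat := @Bool.rec (fun _ => Nat) (Btab_s_1072_1077 c) (Btab_s_1077_1082 c) (Nat.ble 1077 c)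
noncomputable def Btab_s_1082_1084 (c : Nat) : Nat := @Bool.rec (fun _ => Nat) (Btab_1082) (Btab_1083) (Nat.ble 1083 c)
noncomputable def Btab_s_1085_1087 (c : Nat) : Nat := @Bool.rec (fun _ => Nat) (Btab_1085) (Btab_1086) (Nat.ble 1086 c)
noncomputable def Btab_s_1084_1087 (c : Nat) : Nat := @Bool.rec (fun _ => Nat) (Btab_1084) (Btab_s_1085_1087 c) (Nat.ble 1085 c)
noncomputable def Btab_s_1082_1087 (c : Nat) : Nat := @Bool.rec (fun _ => Nat) (Btab_s_1082_1084 c) (Btab_s_1084_1087 c) (Nat.ble 1084 c)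
noncomputable def Btab_s_1087_1089 (c : Nat) : Nat := @Bool.rec (fun _ => Nat) (Btab_1087) (Btab_1088) (Nat.ble 1088 c)
noncomputable def Btab_s_1090_1092 (c : Nat) : Nat := @Bool.rec (fun _ => Nat) (Btab_1090) (Btab_1091) (Nat.ble 1091 c)
noncomputable def Btab_s_1089_1092 (c : Nat) : Nat := @Bool.rec (fun _ => Nat) (Btab_1089) (Btab_s_1090_1092 c) (Nat.ble 1090 c)
noncomputable def Btab_s_1087_1092 (c : Nat) : Nat := @Bool.rec (fun _ => Nat) (Btab_s_1087_1089 c) (Btab_s_1089_1092 c) (Nat.ble 1089 c)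
noncomputable def Btab_s_1082_1092 (c : Nat) : Nat := @Bool.rec (fun _ => Nat) (Btab_s_1082_1087 c) (Btab_s_1087_1092 c) (Nat.ble 1087 c)
noncomputable def Btab_s_1072_1092 (c : Nat) : Nat := @Bool.rec (fun _ => Nat) (Btab_s_1072_1082 c) (Btab_s_1082_1092 c) (Nat.ble 1082 c)
noncomputable def Btab_s_1053_1092 (c : Nat) : Nat := @Bool.rec (fun _ => Nat) (Btab_s_1053_1072 c) (Btab_s_1072_1092 c) (Nat.ble 1072 c)
noncomputable def Btab_s_1014_1092 (c : Nat) : Nat := @Bool.rec (fun _ => Nat) (Btab_s_1014_1053 c) (Btab_s_1053_1092 c) (Nat.ble 1053 c)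
noncomputable def Btab_s_936_1092 (c : Nat) : Nat := @Bool.rec (fun _ => Nat) (Btab_s_936_1014 c) (Btab_s_1014_1092 c) (Nat.ble 1014 c)
noncomputable def Btab_s_1092_1094 (c : Nat) : Nat := @Bool.rec (fun _ => Nat) (Btab_1092) (Btab_1093) (Nat.ble 1093 c)
noncomputable def Btab_s_1094_1096 (c : Nat) : Nat := @Bool.rec (fun _ => Nat) (Btab_1094) (Btab_1095) (Nat.ble 1095 c)
noncomputable def Btab_s_1092_1096 (c : Nat) : Nat := @Bool.rec (fun _ => Nat) (Btab_s_1092_1094 c) (Btab_s_1094_1096 c) (Nat.ble 1094 c)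
noncomputable def Btab_s_1096_1098 (c : Nat) : Nat := @Bool.rec (fun _ => Nat) (Btab_1096) (Btab_1097) (Nat.ble 1097 c)
noncomputable def Btab_s_1099_1101 (c : Nat) : Nat := @Bool.rec (fun _ => Nat) (Btab_1099) (Btab_1100) (Nat.ble 1100 c)
noncomputable def Btab_s_1098_1101 (c : Nat) : Nat := @Bool.rec (fun _ => Nat) (Btab_1098) (Btab_s_1099_1101 c) (Nat.ble 1099 c)
noncomputable def Btab_s_1096_1101 (c : Nat) : Nat := @Bool.rec (fun _ => Nat) (Btab_s_1096_1098 c) (Btab_s_1098_1101 c) (Nat.ble 1098 c)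
noncomputable def Btab_s_1092_1101 (c : Nat) : Nat := @Bool.rec (fun _ => Nat) (Btab_s_1092_1096 c) (Btab_s_1096_1101 c) (Nat.ble 1096 c)
noncomputable def Btab_s_1101_1103 (c : Nat) : Nat := @Bool.rec (fun _ => Nat) (Btab_1101) (Btab_1102) (Nat.ble 1102 c)
noncomputable def Btab_s_1104_1106 (c : Nat) : Nat := @Bool.rec (fun _ => Nat) (Btab_1104) (Btab_1105) (Nat.ble 1105 c)
noncomputable def Btab_s_1103_1106 (c : Nat) : Nat := @Bool.rec (fun _ => Nat) (Btab_1103) (Btab_s_1104_1106 c) (Nat.ble 1104 c)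
noncomputable def Btab_s_1101_1106 (c : Nat) : Nat := @Bool.rec (fun _ => Nat) (Btab_s_1101_1103 c) (Btab_s_1103_1106 c) (Nat.ble 1103 c)
noncomputable def Btab_s_1106_1108 (c : Nat) : Nat := @Bool.rec (fun _ => Nat) (Btab_1106) (Btab_1107) (Nat.ble 1107 c)
noncomputable def Btab_s_1109_1111 (c : Nat) : Nat := @Bool.rec (fun _ => Nat) (Btab_1109) (Btab_1110) (Nat.ble 1110 c)
noncomputable def Btab_s_1108_1111 (c : Nat) : Nat := @Bool.rec (fun _ => Nat) (Btab_1108) (Btab_s_1109_1111 c) (Nat.ble 1109 c)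
noncomputable def Btab_s_1106_1111 (c : Nat) : Nat := @Bool.rec (fun _ => Nat) (Btab_s_1106_1108 c) (Btab_s_1108_1111 c) (Nat.ble 1108 c)
noncomputable def Btab_s_1101_1111 (c : Nat) : Nat := @Bool.rec (fun _ => Nat) (Btab_s_1101_1106 c) (Btab_s_1106_1111 c) (Nat.ble 1106 c)
noncomputable def Btab_s_1092_1111 (c : Nat) : Nat := @Bool.rec (fun _ => Nat) (Btab_s_1092_1101 c) (Btab_s_1101_1111 c) (Nat.ble 1101 c)
noncomputable def Btab_s_1111_1113 (c : Nat) : Nat := @Bool.rec (fun _ => Nat) (Btab_1111) (Btab_1112) (Nat.ble 1112 c)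
noncomputable def Btab_s_1114_1116 (c : Nat) : Nat := @Bool.rec (fun _ => Nat) (Btab_1114) (Btab_1115) (Nat.ble 1115 c)
noncomputable def Btab_s_1113_1116 (c : Nat) : Nat := @Bool.rec (fun _ => Nat) (Btab_1113) (Btab_s_1114_1116 c) (Nat.ble 1114 c)
noncomputable def Btab_s_1111_1116 (c : Nat) : Nat := @Bool.rec (fun _ => Nat) (Btab_s_1111_1113 c) (Btab_s_1113_1116 c) (Nat.ble 1113 c)
noncomputable def Btab_s_1116_1118 (c : Nat) : Nat := @Bool.rec (fun _ => Nat) (Btab_1116) (Btab_1117) (Nat.ble 1117 c)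
noncomputable def Btab_s_1119_1121 (c : Nat) : Nat := @Bool.rec (fun _ => Nat) (Btab_1119) (Btab_1120) (Nat.ble 1120 c)
noncomputable def Btab_s_1118_1121 (c : Nat) : Nat := @Bool.rec (fun _ => Nat) (Btab_1118) (Btab_s_1119_1121 c) (Nat.ble 1119 c)
noncomputable def Btab_s_1116_1121 (c : Nat) : Nat := @Bool.rec (fun _ => Nat) (Btab_s_1116_1118 c) (Btab_s_1118_1121 c) (Nat.ble 1118 c)
noncomputable def Btab_s_1111_1121 (c : Nat) : Nat := @Bool.rec (fun _ => Nat) (Btab_s_1111_1116 c) (Btab_s_1116_1121 c) (Nat.ble 1116 c)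
noncomputable def Btab_s_1121_1123 (c : Nat) : Nat := @Bool.rec (fun _ => Nat) (Btab_1121) (Btab_1122) (Nat.ble 1122 c)
noncomputable def Btab_s_1124_1126 (c : Nat) : Nat := @Bool.rec (fun _ => Nat) (Btab_1124) (Btab_1125) (Nat.ble 1125 c)
noncomputable def Btab_s_1123_1126 (c : Nat) : Nat := @Bool.rec (fun _ => Nat) (Btab_1123) (Btab_s_1124_1126 c) (Nat.ble 1124 c)
noncomputable def Btab_s_1121_1126 (c : Nat) : Nat := @Bool.rec (fun _ => Nat) (Btab_s_1121_1123 c) (Btab_s_1123_1126 c) (Nat.ble 1123 c)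
noncomputable def Btab_s_1126_1128 (c : Nat) : Nat := @Bool.rec (fun _ => Nat) (Btab_1126) (Btab_1127) (Nat.ble 1127 c)
noncomputable def Btab_s_1129_1131 (c : Nat) : Nat := @Bool.rec (fun _ => Nat) (Btab_1129) (Btab_1130) (Nat.ble 1130 c)
noncomputable def Btab_s_1128_1131 (c : Nat) : Nat := @Bool.rec (fun _ => Nat) (Btab_1128) (Btab_s_1129_1131 c) (Nat.ble 1129 c)
noncomputable def Btab_s_1126_1131 (c : Nat) : Nat := @Bool.rec (fun _ => Nat) (Btab_s_1126_1128 c) (Btab_s_1128_1131 c) (Nat.ble 1128 c)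
noncomputable def Btab_s_1121_1131 (c : Nat) : Nat := @Bool.rec (fun _ => Nat) (Btab_s_1121_1126 c) (Btab_s_1126_1131 c) (Nat.ble 1126 c)
noncomputable def Btab_s_1111_1131 (c : Nat) : Nat := @Bool.rec (fun _ => Nat) (Btab_s_1111_1121 c) (Btab_s_1121_1131 c) (Nat.ble 1121 c)
noncomputable def Btab_s_1092_1131 (c : Nat) : Nat := @Bool.rec (fun _ => Nat) (Btab_s_1092_1111 c) (Btab_s_1111_1131 c) (Nat.ble 1111 c)
noncomputable def Btab_s_1131_1133 (c : Nat) : Nat := @Bool.rec (fun _ => Nat) (Btab_1131) (Btab_1132) (Nat.ble 1132 c)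
noncomputable def Btab_s_1133_1135 (c : Nat) : Nat := @Bool.rec (fun _ => Nat) (Btab_1133) (Btab_1134) (Nat.ble 1134 c)
noncomputable def Btab_s_1131_1135 (c : Nat) : Nat := @Bool.rec (fun _ => Nat) (Btab_s_1131_1133 c) (Btab_s_1133_1135 c) (Nat.ble 1133 c)
noncomputable def Btab_s_1135_1137 (c : Nat) : Nat := @Bool.rec (fun _ => Nat) (Btab_1135) (Btab_1136) (Nat.ble 1136 c)
noncomputable def Btab_s_1138_1140 (c : Nat) : Nat := @Bool.rec (fun _ => Nat) (Btab_1138) (Btab_1139) (Nat.ble 1139 c)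
noncomputable def Btab_s_1137_1140 (c : Nat) : Nat := @Bool.rec (fun _ => Nat) (Btab_1137) (Btab_s_1138_1140 c) (Nat.ble 1138 c)
noncomputable def Btab_s_1135_1140 (c : Nat) : Nat := @Bool.rec (fun _ => Nat) (Btab_s_1135_1137 c) (Btab_s_1137_1140 c) (Nat.ble 1137 c)
noncomputable def Btab_s_1131_1140 (c : Nat) : Nat := @Bool.rec (fun _ => Nat) (Btab_s_1131_1135 c) (Btab_s_1135_1140 c) (Nat.ble 1135 c)
noncomputable def Btab_s_1140_1142 (c : Nat) : Nat := @Bool.rec (fun _ => Nat) (Btab_1140) (Btab_1141) (Nat.ble 1141 c)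
noncomputable def Btab_s_1143_1145 (c : Nat) : Nat := @Bool.rec (fun _ => Nat) (Btab_1143) (Btab_1144) (Nat.ble 1144 c)
noncomputable def Btab_s_1142_1145 (c : Nat) : Nat := @Bool.rec (fun _ => Nat) (Btab_1142) (Btab_s_1143_1145 c) (Nat.ble 1143 c)
noncomputable def Btab_s_1140_1145 (c : Nat) : Nat := @Bool.rec (fun _ => Nat) (Btab_s_1140_1142 c) (Btab_s_1142_1145 c) (Nat.ble 1142 c)
noncomputable def Btab_s_1145_1147 (c : Nat) : Nat := @Bool.rec (fun _ => Nat) (Btab_1145) (Btab_1146) (Nat.ble 1146 c)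
noncomputable def Btab_s_1148_1150 (c : Nat) : Nat := @Bool.rec (fun _ => Nat) (Btab_1148) (Btab_1149) (Nat.ble 1149 c)
noncomputable def Btab_s_1147_1150 (c : Nat) : Nat := @Bool.rec (fun _ => Nat) (Btab_1147) (Btab_s_1148_1150 c) (Nat.ble 1148 c)
noncomputable def Btab_s_1145_1150 (c : Nat) : Nat := @Bool.rec (fun _ => Nat) (Btab_s_1145_1147 c) (Btab_s_1147_1150 c) (Nat.ble 1147 c)
noncomputable def Btab_s_1140_1150 (c : Nat) : Nat := @Bool.rec (fun _ => Nat) (Btab_s_1140_1145 c) (Btab_s_1145_1150 c) (Nat.ble 1145 c)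
noncomputable def Btab_s_1131_1150 (c : Nat) : Nat := @Bool.rec (fun _ => Nat) (Btab_s_1131_1140 c) (Btab_s_1140_1150 c) (Nat.ble 1140 c)
noncomputable def Btab_s_1150_1152 (c : Nat) : Nat := @Bool.rec (fun _ => Nat) (Btab_1150) (Btab_1151) (Nat.ble 1151 c)
noncomputable def Btab_s_1153_1155 (c : Nat) : Nat := @Bool.rec (fun _ => Nat) (Btab_1153) (Btab_1154) (Nat.ble 1154 c)
noncomputable def Btab_s_1152_1155 (c : Nat) : Nat := @Bool.rec (fun _ => Nat) (Btab_1152) (Btab_s_1153_1155 c) (Nat.ble 1153 c)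
noncomputable def Btab_s_1150_1155 (c : Nat) : Nat := @Bool.rec (fun _ => Nat) (Btab_s_1150_1152 c) (Btab_s_1152_1155 c) (Nat.ble 1152 c)
noncomputable def Btab_s_1155_1157 (c : Nat) : Nat := @Bool.rec (fun _ => Nat) (Btab_1155) (Btab_1156) (Nat.ble 1156 c)
noncomputable def Btab_s_1158_1160 (c : Nat) : Nat := @Bool.rec (fun _ => Nat) (Btab_1158) (Btab_1159) (Nat.ble 1159 c)
noncomputable def Btab_s_1157_1160 (c : Nat) : Nat := @Bool.rec (fun _ => Nat) (Btab_1157) (Btab_s_1158_1160 c) (Nat.ble 1158 c)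
noncomputable def Btab_s_1155_1160 (c : Nat) : Nat := @Bool.rec (fun _ => Nat) (Btab_s_1155_1157 c) (Btab_s_1157_1160 c) (Nat.ble 1157 c)
noncomputable def Btab_s_1150_1160 (c : Nat) : Nat := @Bool.rec (fun _ => Nat) (Btab_s_1150_1155 c) (Btab_s_1155_1160 c) (Nat.ble 1155 c)
noncomputable def Btab_s_1160_1162 (c : Nat) : Nat := @Bool.rec (fun _ => Nat) (Btab_1160) (Btab_1161) (Nat.ble 1161 c)
noncomputable def Btab_s_1163_1165 (c : Nat) : Nat := @Bool.rec (fun _ => Nat) (Btab_1163) (Btab_1164) (Nat.ble 1164 c)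
noncomputable def Btab_s_1162_1165 (c : Nat) : Nat := @Bool.rec (fun _ => Nat) (Btab_1162) (Btab_s_1163_1165 c) (Nat.ble 1163 c)
noncomputable def Btab_s_1160_1165 (c : Nat) : Nat := @Bool.rec (fun _ => Nat) (Btab_s_1160_1162 c) (Btab_s_1162_1165 c) (Nat.ble 1162 c)
noncomputable def Btab_s_1165_1167 (c : Nat) : Nat := @Bool.rec (fun _ => Nat) (Btab_1165) (Btab_1166) (Nat.ble 1166 c)
noncomputable def Btab_s_1168_1170 (c : Nat) : Nat := @Bool.rec (fun _ => Nat) (Btab_1168) (Btab_1169) (Nat.ble 1169 c)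
noncomputable def Btab_s_1167_1170 (c : Nat) : Nat := @Bool.rec (fun _ => Nat) (Btab_1167) (Btab_s_1168_1170 c) (Nat.ble 1168 c)
noncomputable def Btab_s_1165_1170 (c : Nat) : Nat := @Bool.rec (fun _ => Nat) (Btab_s_1165_1167 c) (Btab_s_1167_1170 c) (Nat.ble 1167 c)
noncomputable def Btab_s_1160_1170 (c : Nat) : Nat := @Bool.rec (fun _ => Nat) (Btab_s_1160_1165 c) (Btab_s_1165_1170 c) (Nat.ble 1165 c)
noncomputable def Btab_s_1150_1170 (c : Nat) : Nat := @Bool.rec (fun _ => Nat) (Btab_s_1150_1160 c) (Btab_s_1160_1170 c) (Nat.ble 1160 c)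
noncomputable def Btab_s_1131_1170 (c : Nat) : Nat := @Bool.rec (fun _ => Nat) (Btab_s_1131_1150 c) (Btab_s_1150_1170 c) (Nat.ble 1150 c)
noncomputable def Btab_s_1092_1170 (c : Nat) : Nat := @Bool.rec (fun _ => Nat) (Btab_s_1092_1131 c) (Btab_s_1131_1170 c) (Nat.ble 1131 c)
noncomputable def Btab_s_1170_1172 (c : Nat) : Nat := @Bool.rec (fun _ => Nat) (Btab_1170) (Btab_1171) (Nat.ble 1171 c)
noncomputable def Btab_s_1172_1174 (c : Nat) : Nat := @Bool.rec (fun _ => Nat) (Btab_1172) (Btab_1173) (Nat.ble 1173 c)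
noncomputable def Btab_s_1170_1174 (c : Nat) : Nat := @Bool.rec (fun _ => Nat) (Btab_s_1170_1172 c) (Btab_s_1172_1174 c) (Nat.ble 1172 c)
noncomputable def Btab_s_1174_1176 (c : Nat) : Nat := @Bool.rec (fun _ => Nat) (Btab_1174) (Btab_1175) (Nat.ble 1175 c)
noncomputable def Btab_s_1177_1179 (c : Nat) : Nat := @Bool.rec (fun _ => Nat) (Btab_1177) (Btab_1178) (Nat.ble 1178 c)
noncomputable def Btab_s_1176_1179 (c : Nat) : Nat := @Bool.rec (fun _ => Nat) (Btab_1176) (Btab_s_1177_1179 c) (Nat.ble 1177 c)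
noncomputable def Btab_s_1174_1179 (c : Nat) : Nat := @Bool.rec (fun _ => Nat) (Btab_s_1174_1176 c) (Btab_s_1176_1179 c) (Nat.ble 1176 c)
noncomputable def Btab_s_1170_1179 (c : Nat) : Nat := @Bool.rec (fun _ => Nat) (Btab_s_1170_1174 c) (Btab_s_1174_1179 c) (Nat.ble 1174 c)
noncomputable def Btab_s_1179_1181 (c : Nat) : Nat := @Bool.rec (fun _ => Nat) (Btab_1179) (Btab_1180) (Nat.ble 1180 c)
noncomputable def Btab_s_1182_1184 (c : Nat) : Nat := @Bool.rec (fun _ => Nat) (Btab_1182) (Btab_1183) (Nat.ble 1183 c)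
noncomputable def Btab_s_1181_1184 (c : Nat) : Nat := @Bool.rec (fun _ => Nat) (Btab_1181) (Btab_s_1182_1184 c) (Nat.ble 1182 c)
noncomputable def Btab_s_1179_1184 (c : Nat) : Nat := @Bool.rec (fun _ => Nat) (Btab_s_1179_1181 c) (Btab_s_1181_1184 c) (Nat.ble 1181 c)
noncomputable def Btab_s_1184_1186 (c : Nat) : Nat := @Bool.rec (fun _ => Nat) (Btab_1184) (Btab_1185) (Nat.ble 1185 c)
noncomputable def Btab_s_1187_1189 (c : Nat) : Nat := @Bool.rec (fun _ => Nat) (Btab_1187) (Btab_1188) (Nat.ble 1188 c)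
noncomputable def Btab_s_1186_1189 (c : Nat) : Nat := @Bool.rec (fun _ => Nat) (Btab_1186) (Btab_s_1187_1189 c) (Nat.ble 1187 c)
noncomputable def Btab_s_1184_1189 (c : Nat) : Nat := @Bool.rec (fun _ => Nat) (Btab_s_1184_1186 c) (Btab_s_1186_1189 c) (Nat.ble 1186 c)
noncomputable def Btab_s_1179_1189 (c : Nat) : Nat := @Bool.rec (fun _ => Nat) (Btab_s_1179_1184 c) (Btab_s_1184_1189 c) (Nat.ble 1184 c)
noncomputable def Btab_s_1170_1189 (c : Nat) : Nat := @Bool.rec (fun _ => Nat) (Btab_s_1170_1179 c) (Btab_s_1179_1189 c) (Nat.ble 1179 c)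
noncomputable def Btab_s_1189_1191 (c : Nat) : Nat := @Bool.rec (fun _ => Nat) (Btab_1189) (Btab_1190) (Nat.ble 1190 c)
noncomputable def Btab_s_1192_1194 (c : Nat) : Nat := @Bool.rec (fun _ => Nat) (Btab_1192) (Btab_1193) (Nat.ble 1193 c)
noncomputable def Btab_s_1191_1194 (c : Nat) : Nat := @Bool.rec (fun _ => Nat) (Btab_1191) (Btab_s_1192_1194 c) (Nat.ble 1192 c)
noncomputable def Btab_s_1189_1194 (c : Nat) : Nat := @Bool.rec (fun _ => Nat) (Btab_s_1189_1191 c) (Btab_s_1191_1194 c) (Nat.ble 1191 c)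
noncomputable def Btab_s_1194_1196 (c : Nat) : Nat := @Bool.rec (fun _ => Nat) (Btab_1194) (Btab_1195) (Nat.ble 1195 c)
noncomputable def Btab_s_1197_1199 (c : Nat) : Nat := @Bool.rec (fun _ => Nat) (Btab_1197) (Btab_1198) (Nat.ble 1198 c)
noncomputable def Btab_s_1196_1199 (c : Nat) : Nat := @Bool.rec (fun _ => Nat) (Btab_1196) (Btab_s_1197_1199 c) (Nat.ble 1197 c)
noncomputable def Btab_s_1194_1199 (c : Nat) : Nat := @Bool.rec (fun _ => Nat) (Btab_s_1194_1196 c) (Btab_s_1196_1199 c) (Nat.ble 1196 c)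
noncomputable def Btab_s_1189_1199 (c : Nat) : Nat := @Bool.rec (fun _ => Nat) (Btab_s_1189_1194 c) (Btab_s_1194_1199 c) (Nat.ble 1194 c)
noncomputable def Btab_s_1199_1201 (c : Nat) : Nat := @Bool.rec (fun _ => Nat) (Btab_1199) (Btab_1200) (Nat.ble 1200 c)
noncomputable def Btab_s_1202_1204 (c : Nat) : Nat := @Bool.rec (fun _ => Nat) (Btab_1202) (Btab_1203) (Nat.ble 1203 c)
noncomputable def Btab_s_1201_1204 (c : Nat) : Nat := @Bool.rec (fun _ => Nat) (Btab_1201) (Btab_s_1202_1204 c) (Nat.ble 1202 c)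
noncomputable def Btab_s_1199_1204 (c : Nat) : Nat := @Bool.rec (fun _ => Nat) (Btab_s_1199_1201 c) (Btab_s_1201_1204 c) (Nat.ble 1201 c)
noncomputable def Btab_s_1204_1206 (c : Nat) : Nat := @Bool.rec (fun _ => Nat) (Btab_1204) (Btab_1205) (Nat.ble 1205 c)
noncomputable def Btab_s_1207_1209 (c : Nat) : Nat := @Bool.rec (fun _ => Nat) (Btab_1207) (Btab_1208) (Nat.ble 1208 c)
noncomputable def Btab_s_1206_1209 (c : Nat) : Nat := @Bool.rec (fun _ => Nat) (Btab_1206) (Btab_s_1207_1209 c) (Nat.ble 1207 c)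
noncomputable def Btab_s_1204_1209 (c : Nat) : Nat := @Bool.rec (fun _ => Nat) (Btab_s_1204_1206 c) (Btab_s_1206_1209 c) (Nat.ble 1206 c)
noncomputable def Btab_s_1199_1209 (c : Nat) : Nat := @Bool.rec (fun _ => Nat) (Btab_s_1199_1204 c) (Btab_s_1204_1209 c) (Nat.ble 1204 c)
noncomputable def Btab_s_1189_1209 (c : Nat) : Nat := @Bool.rec (fun _ => Nat) (Btab_s_1189_1199 c) (Btab_s_1199_1209 c) (Nat.ble 1199 c)
noncomputable def Btab_s_1170_1209 (c : Nat) : Nat := @Bool.rec (fun _ => Nat) (Btab_s_1170_1189 c) (Btab_s_1189_1209 c) (Nat.ble 1189 c)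
noncomputable def Btab_s_1209_1211 (c : Nat) : Nat := @Bool.rec (fun _ => Nat) (Btab_1209) (Btab_1210) (Nat.ble 1210 c)
noncomputable def Btab_s_1212_1214 (c : Nat) : Nat := @Bool.rec (fun _ => Nat) (Btab_1212) (Btab_1213) (Nat.ble 1213 c)
noncomputable def Btab_s_1211_1214 (c : Nat) : Nat := @Bool.rec (fun _ => Nat) (Btab_1211) (Btab_s_1212_1214 c) (Nat.ble 1212 c)
noncomputable def Btab_s_1209_1214 (c : Nat) : Nat := @Bool.rec (fun _ => Nat) (Btab_s_1209_1211 c) (Btab_s_1211_1214 c) (Nat.ble 1211 c)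
noncomputable def Btab_s_1214_1216 (c : Nat) : Nat := @Bool.rec (fun _ => Nat) (Btab_1214) (Btab_1215) (Nat.ble 1215 c)
noncomputable def Btab_s_1217_1219 (c : Nat) : Nat := @Bool.rec (fun _ => Nat) (Btab_1217) (Btab_1218) (Nat.ble 1218 c)
noncomputable def Btab_s_1216_1219 (c : Nat) : Nat := @Bool.rec (fun _ => Nat) (Btab_1216) (Btab_s_1217_1219 c) (Nat.ble 1217 c)
noncomputable def Btab_s_1214_1219 (c : Nat) : Nat := @Bool.rec (fun _ => Nat) (Btab_s_1214_1216 c) (Btab_s_1216_1219 c) (Nat.ble 1216 c)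
noncomputable def Btab_s_1209_1219 (c : Nat) : Nat := @Bool.rec (fun _ => Nat) (Btab_s_1209_1214 c) (Btab_s_1214_1219 c) (Nat.ble 1214 c)
noncomputable def Btab_s_1219_1221 (c : Nat) : Nat := @Bool.rec (fun _ => Nat) (Btab_1219) (Btab_1220) (Nat.ble 1220 c)
noncomputable def Btab_s_1222_1224 (c : Nat) : Nat := @Bool.rec (fun _ => Nat) (Btab_1222) (Btab_1223) (Nat.ble 1223 c)
noncomputable def Btab_s_1221_1224 (c : Nat) : Nat := @Bool.rec (fun _ => Nat) (Btab_1221) (Btab_s_1222_1224 c) (Nat.ble 1222 c)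
noncomputable def Btab_s_1219_1224 (c : Nat) : Nat := @Bool.rec (fun _ => Nat) (Btab_s_1219_1221 c) (Btab_s_1221_1224 c) (Nat.ble 1221 c)
noncomputable def Btab_s_1224_1226 (c : Nat) : Nat := @Bool.rec (fun _ => Nat) (Btab_1224) (Btab_1225) (Nat.ble 1225 c)
noncomputable def Btab_s_1227_1229 (c : Nat) : Nat := @Bool.rec (fun _ => Nat) (Btab_1227) (Btab_1228) (Nat.ble 1228 c)
noncomputable def Btab_s_1226_1229 (c : Nat) : Nat := @Bool.rec (fun _ => Nat) (Btab_1226) (Btab_s_1227_1229 c) (Nat.ble 1227 c)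
noncomputable def Btab_s_1224_1229 (c : Nat) : Nat := @Bool.rec (fun _ => Nat) (Btab_s_1224_1226 c) (Btab_s_1226_1229 c) (Nat.ble 1226 c)
noncomputable def Btab_s_1219_1229 (c : Nat) : Nat := @Bool.rec (fun _ => Nat) (Btab_s_1219_1224 c) (Btab_s_1224_1229 c) (Nat.ble 1224 c)
noncomputable def Btab_s_1209_1229 (c : Nat) : Nat := @Bool.rec (fun _ => Nat) (Btab_s_1209_1219 c) (Btab_s_1219_1229 c) (Nat.ble 1219 c)
noncomputable def Btab_s_1229_1231 (c : Nat) : Nat := @Bool.rec (fun _ => Nat) (Btab_1229) (Btab_1230) (Nat.ble 1230 c)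
noncomputable def Btab_s_1232_1234 (c : Nat) : Nat := @Bool.rec (fun _ => Nat) (Btab_1232) (Btab_1233) (Nat.ble 1233 c)
noncomputable def Btab_s_1231_1234 (c : Nat) : Nat := @Bool.rec (fun _ => Nat) (Btab_1231) (Btab_s_1232_1234 c) (Nat.ble 1232 c)
noncomputable def Btab_s_1229_1234 (c : Nat) : Nat := @Bool.rec (fun _ => Nat) (Btab_s_1229_1231 c) (Btab_s_1231_1234 c) (Nat.ble 1231 c)
noncomputable def Btab_s_1234_1236 (c : Nat) : Nat := @Bool.rec (fun _ => Nat) (Btab_1234) (Btab_1235) (Nat.ble 1235 c)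
noncomputable def Btab_s_1237_1239 (c : Nat) : Nat := @Bool.rec (fun _ => Nat) (Btab_1237) (Btab_1238) (Nat.ble 1238 c)
noncomputable def Btab_s_1236_1239 (c : Nat) : Nat := @Bool.rec (fun _ => Nat) (Btab_1236) (Btab_s_1237_1239 c) (Nat.ble 1237 c)
noncomputable def Btab_s_1234_1239 (c : Nat) : Nat := @Bool.rec (fun _ => Nat) (Btab_s_1234_1236 c) (Btab_s_1236_1239 c) (Nat.ble 1236 c)
noncomputable def Btab_s_1229_1239 (c : Nat) : Nat := @Bool.rec (fun _ => Nat) (Btab_s_1229_1234 c) (Btab_s_1234_1239 c) (Nat.ble 1234 c)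
noncomputable def Btab_s_1239_1241 (c : Nat) : Nat := @Bool.rec (fun _ => Nat) (Btab_1239) (Btab_1240) (Nat.ble 1240 c)
noncomputable def Btab_s_1242_1244 (c : Nat) : Nat := @Bool.rec (fun _ => Nat) (Btab_1242) (Btab_1243) (Nat.ble 1243 c)
noncomputable def Btab_s_1241_1244 (c : Nat) : Nat := @Bool.rec (fun _ => Nat) (Btab_1241) (Btab_s_1242_1244 c) (Nat.ble 1242 c)
noncomputable def Btab_s_1239_1244 (c : Nat) : Nat := @Bool.rec (fun _ => Nat) (Btab_s_1239_1241 c) (Btab_s_1241_1244 c) (Nat.ble 1241 c)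
noncomputable def Btab_s_1244_1246 (c : Nat) : Nat := @Bool.rec (fun _ => Nat) (Btab_1244) (Btab_1245) (Nat.ble 1245 c)
noncomputable def Btab_s_1247_1249 (c : Nat) : Nat := @Bool.rec (fun _ => Nat) (Btab_1247) (Btab_1248) (Nat.ble 1248 c)
noncomputable def Btab_s_1246_1249 (c : Nat) : Nat := @Bool.rec (fun _ => Nat) (Btab_1246) (Btab_s_1247_1249 c) (Nat.ble 1247 c)
noncomputable def Btab_s_1244_1249 (c : Nat) : Nat := @Bool.rec (fun _ => Nat) (Btab_s_1244_1246 c) (Btab_s_1246_1249 c) (Nat.ble 1246 c)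
noncomputable def Btab_s_1239_1249 (c : Nat) : Nat := @Bool.rec (fun _ => Nat) (Btab_s_1239_1244 c) (Btab_s_1244_1249 c) (Nat.ble 1244 c)
noncomputable def Btab_s_1229_1249 (c : Nat) : Nat := @Bool.rec (fun _ => Nat) (Btab_s_1229_1239 c) (Btab_s_1239_1249 c) (Nat.ble 1239 c)
noncomputable def Btab_s_1209_1249 (c : Nat) : Nat := @Bool.rec (fun _ => Nat) (Btab_s_1209_1229 c) (Btab_s_1229_1249 c) (Nat.ble 1229 c)
noncomputable def Btab_s_1170_1249 (c : Nat) : Nat := @Bool.rec (fun _ => Nat) (Btab_s_1170_1209 c) (Btab_s_1209_1249 c) (Nat.ble 1209 c)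
noncomputable def Btab_s_1092_1249 (c : Nat) : Nat := @Bool.rec (fun _ => Nat) (Btab_s_1092_1170 c) (Btab_s_1170_1249 c) (Nat.ble 1170 c)
noncomputable def Btab_s_936_1249 (c : Nat) : Nat := @Bool.rec (fun _ => Nat) (Btab_s_936_1092 c) (Btab_s_1092_1249 c) (Nat.ble 1092 c)
noncomputable def Btab_s_624_1249 (c : Nat) : Nat := @Bool.rec (fun _ => Nat) (Btab_s_624_936 c) (Btab_s_936_1249 c) (Nat.ble 936 c)
noncomputable def Btab_s_0_1249 (c : Nat) : Nat := @Bool.rec (fun _ => Nat) (Btab_s_0_624 c) (Btab_s_624_1249 c) (Nat.ble 624 c)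
noncomputable def Btab (i : Nat) : Nat := rdw 44 17592186044415 (Btab_s_0_1249 (Nat.shiftRight i 11)) (Nat.land i 2047)
noncomputable def Ptab_s_0_2 (c : Nat) : Nat := @Bool.rec (fun _ => Nat) (Ptab_0) (Ptab_1) (Nat.ble 1 c)
noncomputable def Ptab_s_2_4 (c : Nat) : Nat := @Bool.rec (fun _ => Nat) (Ptab_2) (Ptab_3) (Nat.ble 3 c)
noncomputable def Ptab_s_0_4 (c : Nat) : Nat := @Bool.rec (fun _ => Nat) (Ptab_s_0_2 c) (Ptab_s_2_4 c) (Nat.ble 2 c)
noncomputable def Ptab_s_4_6 (c : Nat) : Nat := @Bool.rec (fun _ => Nat) (Ptab_4) (Ptab_5) (Nat.ble 5 c)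
noncomputable def Ptab_s_7_9 (c : Nat) : Nat := @Bool.rec (fun _ => Nat) (Ptab_7) (Ptab_8) (Nat.ble 8 c)
noncomputable def Ptab_s_6_9 (c : Nat) : Nat := @Bool.rec (fun _ => Nat) (Ptab_6) (Ptab_s_7_9 c) (Nat.ble 7 c)
noncomputable def Ptab_s_4_9 (c : Nat) : Nat := @Bool.rec (fun _ => Nat) (Ptab_s_4_6 c) (Ptab_s_6_9 c) (Nat.ble 6 c)
noncomputable def Ptab_s_0_9 (c : Nat) : Nat := @Bool.rec (fun _ => Nat) (Ptab_s_0_4 c) (Ptab_s_4_9 c) (Nat.ble 4 c)
noncomputable def Ptab_s_9_11 (c : Nat) : Nat := @Bool.rec (fun _ => Nat) (Ptab_9) (Ptab_10) (Nat.ble 10 c)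
noncomputable def Ptab_s_11_13 (c : Nat) : Nat := @Bool.rec (fun _ => Nat) (Ptab_11) (Ptab_12) (Nat.ble 12 c)
noncomputable def Ptab_s_9_13 (c : Nat) : Nat := @Bool.rec (fun _ => Nat) (Ptab_s_9_11 c) (Ptab_s_11_13 c) (Nat.ble 11 c)
noncomputable def Ptab_s_13_15 (c : Nat) : Nat := @Bool.rec (fun _ => Nat) (Ptab_13) (Ptab_14) (Nat.ble 14 c)
noncomputable def Ptab_s_16_18 (c : Nat) : Nat := @Bool.rec (fun _ => Nat) (Ptab_16) (Ptab_17) (Nat.ble 17 c)
noncomputable def Ptab_s_15_18 (c : Nat) : Nat := @Bool.rec (fun _ => Nat) (Ptab_15) (Ptab_s_16_18 c) (Nat.ble 16 c)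
noncomputable def Ptab_s_13_18 (c : Nat) : Nat := @Bool.rec (fun _ => Nat) (Ptab_s_13_15 c) (Ptab_s_15_18 c) (Nat.ble 15 c)
noncomputable def Ptab_s_9_18 (c : Nat) : Nat := @Bool.rec (fun _ => Nat) (Ptab_s_9_13 c) (Ptab_s_13_18 c) (Nat.ble 13 c)
noncomputable def Ptab_s_0_18 (c : Nat) : Nat := @Bool.rec (fun _ => Nat) (Ptab_s_0_9 c) (Ptab_s_9_18 c) (Nat.ble 9 c)
noncomputable def Ptab_s_18_20 (c : Nat) : Nat := @Bool.rec (fun _ => Nat) (Ptab_18) (Ptab_19) (Nat.ble 19 c)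
noncomputable def Ptab_s_20_22 (c : Nat) : Nat := @Bool.rec (fun _ => Nat) (Ptab_20) (Ptab_21) (Nat.ble 21 c)
noncomputable def Ptab_s_18_22 (c : Nat) : Nat := @Bool.rec (fun _ => Nat) (Ptab_s_18_20 c) (Ptab_s_20_22 c) (Nat.ble 20 c)
noncomputable def Ptab_s_22_24 (c : Nat) : Nat := @Bool.rec (fun _ => Nat) (Ptab_22) (Ptab_23) (Nat.ble 23 c)
noncomputable def Ptab_s_25_27 (c : Nat) : Nat := @Bool.rec (fun _ => Nat) (Ptab_25) (Ptab_26) (Nat.ble 26 c)
noncomputable def Ptab_s_24_27 (c : Nat) : Nat := @Bool.rec (fun _ => Nat) (Ptab_24) (Ptab_s_25_27 c) (Nat.ble 25 c)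
noncomputable def Ptab_s_22_27 (c : Nat) : Nat := @Bool.rec (fun _ => Nat) (Ptab_s_22_24 c) (Ptab_s_24_27 c) (Nat.ble 24 c)
noncomputable def Ptab_s_18_27 (c : Nat) : Nat := @Bool.rec (fun _ => Nat) (Ptab_s_18_22 c) (Ptab_s_22_27 c) (Nat.ble 22 c)
noncomputable def Ptab_s_27_29 (c : Nat) : Nat := @Bool.rec (fun _ => Nat) (Ptab_27) (Ptab_28) (Nat.ble 28 c)
noncomputable def Ptab_s_30_32 (c : Nat) : Nat := @Bool.rec (fun _ => Nat) (Ptab_30) (Ptab_31) (Nat.ble 31 c)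
noncomputable def Ptab_s_29_32 (c : Nat) : Nat := @Bool.rec (fun _ => Nat) (Ptab_29) (Ptab_s_30_32 c) (Nat.ble 30 c)
noncomputable def Ptab_s_27_32 (c : Nat) : Nat := @Bool.rec (fun _ => Nat) (Ptab_s_27_29 c) (Ptab_s_29_32 c) (Nat.ble 29 c)
noncomputable def Ptab_s_32_34 (c : Nat) : Nat := @Bool.rec (fun _ => Nat) (Ptab_32) (Ptab_33) (Nat.ble 33 c)
noncomputable def Ptab_s_35_37 (c : Nat) : Nat := @Bool.rec (fun _ => Nat) (Ptab_35) (Ptab_36) (Nat.ble 36 c)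
noncomputable def Ptab_s_34_37 (c : Nat) : Nat := @Bool.rec (fun _ => Nat) (Ptab_34) (Ptab_s_35_37 c) (Nat.ble 35 c)
noncomputable def Ptab_s_32_37 (c : Nat) : Nat := @Bool.rec (fun _ => Nat) (Ptab_s_32_34 c) (Ptab_s_34_37 c) (Nat.ble 34 c)
noncomputable def Ptab_s_27_37 (c : Nat) : Nat := @Bool.rec (fun _ => Nat) (Ptab_s_27_32 c) (Ptab_s_32_37 c) (Nat.ble 32 c)
noncomputable def Ptab_s_18_37 (c : Nat) : Nat := @Bool.rec (fun _ => Nat) (Ptab_s_18_27 c) (Ptab_s_27_37 c) (Nat.ble 27 c)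
noncomputable def Ptab_s_0_37 (c : Nat) : Nat := @Bool.rec (fun _ => Nat) (Ptab_s_0_18 c) (Ptab_s_18_37 c) (Nat.ble 18 c)
noncomputable def Ptab_s_37_39 (c : Nat) : Nat := @Bool.rec (fun _ => Nat) (Ptab_37) (Ptab_38) (Nat.ble 38 c)
noncomputable def Ptab_s_39_41 (c : Nat) : Nat := @Bool.rec (fun _ => Nat) (Ptab_39) (Ptab_40) (Nat.ble 40 c)
noncomputable def Ptab_s_37_41 (c : Nat) : Nat := @Bool.rec (fun _ => Nat) (Ptab_s_37_39 c) (Ptab_s_39_41 c) (Nat.ble 39 c)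
noncomputable def Ptab_s_41_43 (c : Nat) : Nat := @Bool.rec (fun _ => Nat) (Ptab_41) (Ptab_42) (Nat.ble 42 c)
noncomputable def Ptab_s_44_46 (c : Nat) : Nat := @Bool.rec (fun _ => Nat) (Ptab_44) (Ptab_45) (Nat.ble 45 c)
noncomputable def Ptab_s_43_46 (c : Nat) : Nat := @Bool.rec (fun _ => Nat) (Ptab_43) (Ptab_s_44_46 c) (Nat.ble 44 c)
noncomputable def Ptab_s_41_46 (c : Nat) : Nat := @Bool.rec (fun _ => Nat) (Ptab_s_41_43 c) (Ptab_s_43_46 c) (Nat.ble 43 c)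
noncomputable def Ptab_s_37_46 (c : Nat) : Nat := @Bool.rec (fun _ => Nat) (Ptab_s_37_41 c) (Ptab_s_41_46 c) (Nat.ble 41 c)
noncomputable def Ptab_s_46_48 (c : Nat) : Nat := @Bool.rec (fun _ => Nat) (Ptab_46) (Ptab_47) (Nat.ble 47 c)
noncomputable def Ptab_s_49_51 (c : Nat) : Nat := @Bool.rec (fun _ => Nat) (Ptab_49) (Ptab_50) (Nat.ble 50 c)
noncomputable def Ptab_s_48_51 (c : Nat) : Nat := @Bool.rec (fun _ => Nat) (Ptab_48) (Ptab_s_49_51 c) (Nat.ble 49 c)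
noncomputable def Ptab_s_46_51 (c : Nat) : Nat := @Bool.rec (fun _ => Nat) (Ptab_s_46_48 c) (Ptab_s_48_51 c) (Nat.ble 48 c)
noncomputable def Ptab_s_51_53 (c : Nat) : Nat := @Bool.rec (fun _ => Nat) (Ptab_51) (Ptab_52) (Nat.ble 52 c)
noncomputable def Ptab_s_54_56 (c : Nat) : Nat := @Bool.rec (fun _ => Nat) (Ptab_54) (Ptab_55) (Nat.ble 55 c)
noncomputable def Ptab_s_53_56 (c : Nat) : Nat := @Bool.rec (fun _ => Nat) (Ptab_53) (Ptab_s_54_56 c) (Nat.ble 54 c)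
noncomputable def Ptab_s_51_56 (c : Nat) : Nat := @Bool.rec (fun _ => Nat) (Ptab_s_51_53 c) (Ptab_s_53_56 c) (Nat.ble 53 c)
noncomputable def Ptab_s_46_56 (c : Nat) : Nat := @Bool.rec (fun _ => Nat) (Ptab_s_46_51 c) (Ptab_s_51_56 c) (Nat.ble 51 c)
noncomputable def Ptab_s_37_56 (c : Nat) : Nat := @Bool.rec (fun _ => Nat) (Ptab_s_37_46 c) (Ptab_s_46_56 c) (Nat.ble 46 c)
noncomputable def Ptab_s_56_58 (c : Nat) : Nat := @Bool.rec (fun _ => Nat) (Ptab_56) (Ptab_57) (Nat.ble 57 c)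
noncomputable def Ptab_s_58_60 (c : Nat) : Nat := @Bool.rec (fun _ => Nat) (Ptab_58) (Ptab_59) (Nat.ble 59 c)
noncomputable def Ptab_s_56_60 (c : Nat) : Nat := @Bool.rec (fun _ => Nat) (Ptab_s_56_58 c) (Ptab_s_58_60 c) (Nat.ble 58 c)
noncomputable def Ptab_s_60_62 (c : Nat) : Nat := @Bool.rec (fun _ => Nat) (Ptab_60) (Ptab_61) (Nat.ble 61 c)
noncomputable def Ptab_s_63_65 (c : Nat) : Nat := @Bool.rec (fun _ => Nat) (Ptab_63) (Ptab_64) (Nat.ble 64 c)
noncomputable def Ptab_s_62_65 (c : Nat) : Nat := @Bool.rec (fun _ => Nat) (Ptab_62) (Ptab_s_63_65 c) (Nat.ble 63 c)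
noncomputable def Ptab_s_60_65 (c : Nat) : Nat := @Bool.rec (fun _ => Nat) (Ptab_s_60_62 c) (Ptab_s_62_65 c) (Nat.ble 62 c)
noncomputable def Ptab_s_56_65 (c : Nat) : Nat := @Bool.rec (fun _ => Nat) (Ptab_s_56_60 c) (Ptab_s_60_65 c) (Nat.ble 60 c)
noncomputable def Ptab_s_65_67 (c : Nat) : Nat := @Bool.rec (fun _ => Nat) (Ptab_65) (Ptab_66) (Nat.ble 66 c)
noncomputable def Ptab_s_68_70 (c : Nat) : Nat := @Bool.rec (fun _ => Nat) (Ptab_68) (Ptab_69) (Nat.ble 69 c)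
noncomputable def Ptab_s_67_70 (c : Nat) : Nat := @Bool.rec (fun _ => Nat) (Ptab_67) (Ptab_s_68_70 c) (Nat.ble 68 c)
noncomputable def Ptab_s_65_70 (c : Nat) : Nat := @Bool.rec (fun _ => Nat) (Ptab_s_65_67 c) (Ptab_s_67_70 c) (Nat.ble 67 c)
noncomputable def Ptab_s_70_72 (c : Nat) : Nat := @Bool.rec (fun _ => Nat) (Ptab_70) (Ptab_71) (Nat.ble 71 c)
noncomputable def Ptab_s_73_75 (c : Nat) : Nat := @Bool.rec (fun _ => Nat) (Ptab_73) (Ptab_74) (Nat.ble 74 c)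
noncomputable def Ptab_s_72_75 (c : Nat) : Nat := @Bool.rec (fun _ => Nat) (Ptab_72) (Ptab_s_73_75 c) (Nat.ble 73 c)
noncomputable def Ptab_s_70_75 (c : Nat) : Nat := @Bool.rec (fun _ => Nat) (Ptab_s_70_72 c) (Ptab_s_72_75 c) (Nat.ble 72 c)
noncomputable def Ptab_s_65_75 (c : Nat) : Nat := @Bool.rec (fun _ => Nat) (Ptab_s_65_70 c) (Ptab_s_70_75 c) (Nat.ble 70 c)
noncomputable def Ptab_s_56_75 (c : Nat) : Nat := @Bool.rec (fun _ => Nat) (Ptab_s_56_65 c) (Ptab_s_65_75 c) (Nat.ble 65 c)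
noncomputable def Ptab_s_37_75 (c : Nat) : Nat := @Bool.rec (fun _ => Nat) (Ptab_s_37_56 c) (Ptab_s_56_75 c) (Nat.ble 56 c)
noncomputable def Ptab_s_0_75 (c : Nat) : Nat := @Bool.rec (fun _ => Nat) (Ptab_s_0_37 c) (Ptab_s_37_75 c) (Nat.ble 37 c)
noncomputable def Ptab_s_75_77 (c : Nat) : Nat := @Bool.rec (fun _ => Nat) (Ptab_75) (Ptab_76) (Nat.ble 76 c)
noncomputable def Ptab_s_77_79 (c : Nat) : Nat := @Bool.rec (fun _ => Nat) (Ptab_77) (Ptab_78) (Nat.ble 78 c)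
noncomputable def Ptab_s_75_79 (c : Nat) : Nat := @Bool.rec (fun _ => Nat) (Ptab_s_75_77 c) (Ptab_s_77_79 c) (Nat.ble 77 c)
noncomputable def Ptab_s_79_81 (c : Nat) : Nat := @Bool.rec (fun _ => Nat) (Ptab_79) (Ptab_80) (Nat.ble 80 c)
noncomputable def Ptab_s_82_84 (c : Nat) : Nat := @Bool.rec (fun _ => Nat) (Ptab_82) (Ptab_83) (Nat.ble 83 c)
noncomputable def Ptab_s_81_84 (c : Nat) : Nat := @Bool.rec (fun _ => Nat) (Ptab_81) (Ptab_s_82_84 c) (Nat.ble 82 c)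
noncomputable def Ptab_s_79_84 (c : Nat) : Nat := @Bool.rec (fun _ => Nat) (Ptab_s_79_81 c) (Ptab_s_81_84 c) (Nat.ble 81 c)
noncomputable def Ptab_s_75_84 (c : Nat) : Nat := @Bool.rec (fun _ => Nat) (Ptab_s_75_79 c) (Ptab_s_79_84 c) (Nat.ble 79 c)
noncomputable def Ptab_s_84_86 (c : Nat) : Nat := @Bool.rec (fun _ => Nat) (Ptab_84) (Ptab_85) (Nat.ble 85 c)
noncomputable def Ptab_s_86_88 (c : Nat) : Nat := @Bool.rec (fun _ => Nat) (Ptab_86) (Ptab_87) (Nat.ble 87 c)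
noncomputable def Ptab_s_84_88 (c : Nat) : Nat := @Bool.rec (fun _ => Nat) (Ptab_s_84_86 c) (Ptab_s_86_88 c) (Nat.ble 86 c)
noncomputable def Ptab_s_88_90 (c : Nat) : Nat := @Bool.rec (fun _ => Nat) (Ptab_88) (Ptab_89) (Nat.ble 89 c)
noncomputable def Ptab_s_91_93 (c : Nat) : Nat := @Bool.rec (fun _ => Nat) (Ptab_91) (Ptab_92) (Nat.ble 92 c)
noncomputable def Ptab_s_90_93 (c : Nat) : Nat := @Bool.rec (fun _ => Nat) (Ptab_90) (Ptab_s_91_93 c) (Nat.ble 91 c)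
noncomputable def Ptab_s_88_93 (c : Nat) : Nat := @Bool.rec (fun _ => Nat) (Ptab_s_88_90 c) (Ptab_s_90_93 c) (Nat.ble 90 c)
noncomputable def Ptab_s_84_93 (c : Nat) : Nat := @Bool.rec (fun _ => Nat) (Ptab_s_84_88 c) (Ptab_s_88_93 c) (Nat.ble 88 c)
noncomputable def Ptab_s_75_93 (c : Nat) : Nat := @Bool.rec (fun _ => Nat) (Ptab_s_75_84 c) (Ptab_s_84_93 c) (Nat.ble 84 c)
noncomputable def Ptab_s_93_95 (c : Nat) : Nat := @Bool.rec (fun _ => Nat) (Ptab_93) (Ptab_94) (Nat.ble 94 c)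
noncomputable def Ptab_s_95_97 (c : Nat) : Nat := @Bool.rec (fun _ => Nat) (Ptab_95) (Ptab_96) (Nat.ble 96 c)
noncomputable def Ptab_s_93_97 (c : Nat) : Nat := @Bool.rec (fun _ => Nat) (Ptab_s_93_95 c) (Ptab_s_95_97 c) (Nat.ble 95 c)
noncomputable def Ptab_s_97_99 (c : Nat) : Nat := @Bool.rec (fun _ => Nat) (Ptab_97) (Ptab_98) (Nat.ble 98 c)
noncomputable def Ptab_s_100_102 (c : Nat) : Nat := @Bool.rec (fun _ => Nat) (Ptab_100) (Ptab_101) (Nat.ble 101 c)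
noncomputable def Ptab_s_99_102 (c : Nat) : Nat := @Bool.rec (fun _ => Nat) (Ptab_99) (Ptab_s_100_102 c) (Nat.ble 100 c)
noncomputable def Ptab_s_97_102 (c : Nat) : Nat := @Bool.rec (fun _ => Nat) (Ptab_s_97_99 c) (Ptab_s_99_102 c) (Nat.ble 99 c)
noncomputable def Ptab_s_93_102 (c : Nat) : Nat := @Bool.rec (fun _ => Nat) (Ptab_s_93_97 c) (Ptab_s_97_102 c) (Nat.ble 97 c)
noncomputable def Ptab_s_102_104 (c : Nat) : Nat := @Bool.rec (fun _ => Nat) (Ptab_102) (Ptab_103) (Nat.ble 103 c)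
noncomputable def Ptab_s_105_107 (c : Nat) : Nat := @Bool.rec (fun _ => Nat) (Ptab_105) (Ptab_106) (Nat.ble 106 c)
noncomputable def Ptab_s_104_107 (c : Nat) : Nat := @Bool.rec (fun _ => Nat) (Ptab_104) (Ptab_s_105_107 c) (Nat.ble 105 c)
noncomputable def Ptab_s_102_107 (c : Nat) : Nat := @Bool.rec (fun _ => Nat) (Ptab_s_102_104 c) (Ptab_s_104_107 c) (Nat.ble 104 c)
noncomputable def Ptab_s_107_109 (c : Nat) : Nat := @Bool.rec (fun _ => Nat) (Ptab_107) (Ptab_108) (Nat.ble 108 c)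
noncomputable def Ptab_s_110_112 (c : Nat) : Nat := @Bool.rec (fun _ => Nat) (Ptab_110) (Ptab_111) (Nat.ble 111 c)
noncomputable def Ptab_s_109_112 (c : Nat) : Nat := @Bool.rec (fun _ => Nat) (Ptab_109) (Ptab_s_110_112 c) (Nat.ble 110 c)
noncomputable def Ptab_s_107_112 (c : Nat) : Nat := @Bool.rec (fun _ => Nat) (Ptab_s_107_109 c) (Ptab_s_109_112 c) (Nat.ble 109 c)
noncomputable def Ptab_s_102_112 (c : Nat) : Nat := @Bool.rec (fun _ => Nat) (Ptab_s_102_107 c) (Ptab_s_107_112 c) (Nat.ble 107 c)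
noncomputable def Ptab_s_93_112 (c : Nat) : Nat := @Bool.rec (fun _ => Nat) (Ptab_s_93_102 c) (Ptab_s_102_112 c) (Nat.ble 102 c)
noncomputable def Ptab_s_75_112 (c : Nat) : Nat := @Bool.rec (fun _ => Nat) (Ptab_s_75_93 c) (Ptab_s_93_112 c) (Nat.ble 93 c)
noncomputable def Ptab_s_112_114 (c : Nat) : Nat := @Bool.rec (fun _ => Nat) (Ptab_112) (Ptab_113) (Nat.ble 113 c)
noncomputable def Ptab_s_114_116 (c : Nat) : Nat := @Bool.rec (fun _ => Nat) (Ptab_114) (Ptab_115) (Nat.ble 115 c)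
noncomputable def Ptab_s_112_116 (c : Nat) : Nat := @Bool.rec (fun _ => Nat) (Ptab_s_112_114 c) (Ptab_s_114_116 c) (Nat.ble 114 c)
noncomputable def Ptab_s_116_118 (c : Nat) : Nat := @Bool.rec (fun _ => Nat) (Ptab_116) (Ptab_117) (Nat.ble 117 c)
noncomputable def Ptab_s_119_121 (c : Nat) : Nat := @Bool.rec (fun _ => Nat) (Ptab_119) (Ptab_120) (Nat.ble 120 c)
noncomputable def Ptab_s_118_121 (c : Nat) : Nat := @Bool.rec (fun _ => Nat) (Ptab_118) (Ptab_s_119_121 c) (Nat.ble 119 c)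
noncomputable def Ptab_s_116_121 (c : Nat) : Nat := @Bool.rec (fun _ => Nat) (Ptab_s_116_118 c) (Ptab_s_118_121 c) (Nat.ble 118 c)
noncomputable def Ptab_s_112_121 (c : Nat) : Nat := @Bool.rec (fun _ => Nat) (Ptab_s_112_116 c) (Ptab_s_116_121 c) (Nat.ble 116 c)
noncomputable def Ptab_s_121_123 (c : Nat) : Nat := @Bool.rec (fun _ => Nat) (Ptab_121) (Ptab_122) (Nat.ble 122 c)
noncomputable def Ptab_s_124_126 (c : Nat) : Nat := @Bool.rec (fun _ => Nat) (Ptab_124) (Ptab_125) (Nat.ble 125 c)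
noncomputable def Ptab_s_123_126 (c : Nat) : Nat := @Bool.rec (fun _ => Nat) (Ptab_123) (Ptab_s_124_126 c) (Nat.ble 124 c)
noncomputable def Ptab_s_121_126 (c : Nat) : Nat := @Bool.rec (fun _ => Nat) (Ptab_s_121_123 c) (Ptab_s_123_126 c) (Nat.ble 123 c)
noncomputable def Ptab_s_126_128 (c : Nat) : Nat := @Bool.rec (fun _ => Nat) (Ptab_126) (Ptab_127) (Nat.ble 127 c)
noncomputable def Ptab_s_129_131 (c : Nat) : Nat := @Bool.rec (fun _ => Nat) (Ptab_129) (Ptab_130) (Nat.ble 130 c)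
noncomputable def Ptab_s_128_131 (c : Nat) : Nat := @Bool.rec (fun _ => Nat) (Ptab_128) (Ptab_s_129_131 c) (Nat.ble 129 c)
noncomputable def Ptab_s_126_131 (c : Nat) : Nat := @Bool.rec (fun _ => Nat) (Ptab_s_126_128 c) (Ptab_s_128_131 c) (Nat.ble 128 c)
noncomputable def Ptab_s_121_131 (c : Nat) : Nat := @Bool.rec (fun _ => Nat) (Ptab_s_121_126 c) (Ptab_s_126_131 c) (Nat.ble 126 c)
noncomputable def Ptab_s_112_131 (c : Nat) : Nat := @Bool.rec (fun _ => Nat) (Ptab_s_112_121 c) (Ptab_s_121_131 c) (Nat.ble 121 c)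
noncomputable def Ptab_s_131_133 (c : Nat) : Nat := @Bool.rec (fun _ => Nat) (Ptab_131) (Ptab_132) (Nat.ble 132 c)
noncomputable def Ptab_s_133_135 (c : Nat) : Nat := @Bool.rec (fun _ => Nat) (Ptab_133) (Ptab_134) (Nat.ble 134 c)
noncomputable def Ptab_s_131_135 (c : Nat) : Nat := @Bool.rec (fun _ => Nat) (Ptab_s_131_133 c) (Ptab_s_133_135 c) (Nat.ble 133 c)
noncomputable def Ptab_s_135_137 (c : Nat) : Nat := @Bool.rec (fun _ => Nat) (Ptab_135) (Ptab_136) (Nat.ble 136 c)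
noncomputable def Ptab_s_138_140 (c : Nat) : Nat := @Bool.rec (fun _ => Nat) (Ptab_138) (Ptab_139) (Nat.ble 139 c)
noncomputable def Ptab_s_137_140 (c : Nat) : Nat := @Bool.rec (fun _ => Nat) (Ptab_137) (Ptab_s_138_140 c) (Nat.ble 138 c)
noncomputable def Ptab_s_135_140 (c : Nat) : Nat := @Bool.rec (fun _ => Nat) (Ptab_s_135_137 c) (Ptab_s_137_140 c) (Nat.ble 137 c)
noncomputable def Ptab_s_131_140 (c : Nat) : Nat := @Bool.rec (fun _ => Nat) (Ptab_s_131_135 c) (Ptab_s_135_140 c) (Nat.ble 135 c)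
noncomputable def Ptab_s_140_142 (c : Nat) : Nat := @Bool.rec (fun _ => Nat) (Ptab_140) (Ptab_141) (Nat.ble 141 c)
noncomputable def Ptab_s_143_145 (c : Nat) : Nat := @Bool.rec (fun _ => Nat) (Ptab_143) (Ptab_144) (Nat.ble 144 c)
noncomputable def Ptab_s_142_145 (c : Nat) : Nat := @Bool.rec (fun _ => Nat) (Ptab_142) (Ptab_s_143_145 c) (Nat.ble 143 c)
noncomputable def Ptab_s_140_145 (c : Nat) : Nat := @Bool.rec (fun _ => Nat) (Ptab_s_140_142 c) (Ptab_s_142_145 c) (Nat.ble 142 c)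
noncomputable def Ptab_s_145_147 (c : Nat) : Nat := @Bool.rec (fun _ => Nat) (Ptab_145) (Ptab_146) (Nat.ble 146 c)
noncomputable def Ptab_s_148_150 (c : Nat) : Nat := @Bool.rec (fun _ => Nat) (Ptab_148) (Ptab_149) (Nat.ble 149 c)
noncomputable def Ptab_s_147_150 (c : Nat) : Nat := @Bool.rec (fun _ => Nat) (Ptab_147) (Ptab_s_148_150 c) (Nat.ble 148 c)
noncomputable def Ptab_s_145_150 (c : Nat) : Nat := @Bool.rec (fun _ => Nat) (Ptab_s_145_147 c) (Ptab_s_147_150 c) (Nat.ble 147 c)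
noncomputable def Ptab_s_140_150 (c : Nat) : Nat := @Bool.rec (fun _ => Nat) (Ptab_s_140_145 c) (Ptab_s_145_150 c) (Nat.ble 145 c)
noncomputable def Ptab_s_131_150 (c : Nat) : Nat := @Bool.rec (fun _ => Nat) (Ptab_s_131_140 c) (Ptab_s_140_150 c) (Nat.ble 140 c)
noncomputable def Ptab_s_112_150 (c : Nat) : Nat := @Bool.rec (fun _ => Nat) (Ptab_s_112_131 c) (Ptab_s_131_150 c) (Nat.ble 131 c)
noncomputable def Ptab_s_75_150 (c : Nat) : Nat := @Bool.rec (fun _ => Nat) (Ptab_s_75_112 c) (Ptab_s_112_150 c) (Nat.ble 112 c)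
noncomputable def Ptab_s_0_150 (c : Nat) : Nat := @Bool.rec (fun _ => Nat) (Ptab_s_0_75 c) (Ptab_s_75_150 c) (Nat.ble 75 c)
noncomputable def Ptab_s_150_152 (c : Nat) : Nat := @Bool.rec (fun _ => Nat) (Ptab_150) (Ptab_151) (Nat.ble 151 c)
noncomputable def Ptab_s_152_154 (c : Nat) : Nat := @Bool.rec (fun _ => Nat) (Ptab_152) (Ptab_153) (Nat.ble 153 c)
noncomputable def Ptab_s_150_154 (c : Nat) : Nat := @Bool.rec (fun _ => Nat) (Ptab_s_150_152 c) (Ptab_s_152_154 c) (Nat.ble 152 c)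
noncomputable def Ptab_s_154_156 (c : Nat) : Nat := @Bool.rec (fun _ => Nat) (Ptab_154) (Ptab_155) (Nat.ble 155 c)
noncomputable def Ptab_s_157_159 (c : Nat) : Nat := @Bool.rec (fun _ => Nat) (Ptab_157) (Ptab_158) (Nat.ble 158 c)
noncomputable def Ptab_s_156_159 (c : Nat) : Nat := @Bool.rec (fun _ => Nat) (Ptab_156) (Ptab_s_157_159 c) (Nat.ble 157 c)
noncomputable def Ptab_s_154_159 (c : Nat) : Nat := @Bool.rec (fun _ => Nat) (Ptab_s_154_156 c) (Ptab_s_156_159 c) (Nat.ble 156 c)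
noncomputable def Ptab_s_150_159 (c : Nat) : Nat := @Bool.rec (fun _ => Nat) (Ptab_s_150_154 c) (Ptab_s_154_159 c) (Nat.ble 154 c)
noncomputable def Ptab_s_159_161 (c : Nat) : Nat := @Bool.rec (fun _ => Nat) (Ptab_159) (Ptab_160) (Nat.ble 160 c)
noncomputable def Ptab_s_161_163 (c : Nat) : Nat := @Bool.rec (fun _ => Nat) (Ptab_161) (Ptab_162) (Nat.ble 162 c)
noncomputable def Ptab_s_159_163 (c : Nat) : Nat := @Bool.rec (fun _ => Nat) (Ptab_s_159_161 c) (Ptab_s_161_163 c) (Nat.ble 161 c)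
noncomputable def Ptab_s_163_165 (c : Nat) : Nat := @Bool.rec (fun _ => Nat) (Ptab_163) (Ptab_164) (Nat.ble 164 c)
noncomputable def Ptab_s_166_168 (c : Nat) : Nat := @Bool.rec (fun _ => Nat) (Ptab_166) (Ptab_167) (Nat.ble 167 c)
noncomputable def Ptab_s_165_168 (c : Nat) : Nat := @Bool.rec (fun _ => Nat) (Ptab_165) (Ptab_s_166_168 c) (Nat.ble 166 c)
noncomputable def Ptab_s_163_168 (c : Nat) : Nat := @Bool.rec (fun _ => Nat) (Ptab_s_163_165 c) (Ptab_s_165_168 c) (Nat.ble 165 c)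
noncomputable def Ptab_s_159_168 (c : Nat) : Nat := @Bool.rec (fun _ => Nat) (Ptab_s_159_163 c) (Ptab_s_163_168 c) (Nat.ble 163 c)
noncomputable def Ptab_s_150_168 (c : Nat) : Nat := @Bool.rec (fun _ => Nat) (Ptab_s_150_159 c) (Ptab_s_159_168 c) (Nat.ble 159 c)
noncomputable def Ptab_s_168_170 (c : Nat) : Nat := @Bool.rec (fun _ => Nat) (Ptab_168) (Ptab_169) (Nat.ble 169 c)
noncomputable def Ptab_s_170_172 (c : Nat) : Nat := @Bool.rec (fun _ => Nat) (Ptab_170) (Ptab_171) (Nat.ble 171 c)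
noncomputable def Ptab_s_168_172 (c : Nat) : Nat := @Bool.rec (fun _ => Nat) (Ptab_s_168_170 c) (Ptab_s_170_172 c) (Nat.ble 170 c)
noncomputable def Ptab_s_172_174 (c : Nat) : Nat := @Bool.rec (fun _ => Nat) (Ptab_172) (Ptab_173) (Nat.ble 173 c)
noncomputable def Ptab_s_175_177 (c : Nat) : Nat := @Bool.rec (fun _ => Nat) (Ptab_175) (Ptab_176) (Nat.ble 176 c)
noncomputable def Ptab_s_174_177 (c : Nat) : Nat := @Bool.rec (fun _ => Nat) (Ptab_174) (Ptab_s_175_177 c) (Nat.ble 175 c)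
noncomputable def Ptab_s_172_177 (c : Nat) : Nat := @Bool.rec (fun _ => Nat) (Ptab_s_172_174 c) (Ptab_s_174_177 c) (Nat.ble 174 c)
noncomputable def Ptab_s_168_177 (c : Nat) : Nat := @Bool.rec (fun _ => Nat) (Ptab_s_168_172 c) (Ptab_s_172_177 c) (Nat.ble 172 c)
noncomputable def Ptab_s_177_179 (c : Nat) : Nat := @Bool.rec (fun _ => Nat) (Ptab_177) (Ptab_178) (Nat.ble 178 c)
noncomputable def Ptab_s_180_182 (c : Nat) : Nat := @Bool.rec (fun _ => Nat) (Ptab_180) (Ptab_181) (Nat.ble 181 c)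
noncomputable def Ptab_s_179_182 (c : Nat) : Nat := @Bool.rec (fun _ => Nat) (Ptab_179) (Ptab_s_180_182 c) (Nat.ble 180 c)
noncomputable def Ptab_s_177_182 (c : Nat) : Nat := @Bool.rec (fun _ => Nat) (Ptab_s_177_179 c) (Ptab_s_179_182 c) (Nat.ble 179 c)
noncomputable def Ptab_s_182_184 (c : Nat) : Nat := @Bool.rec (fun _ => Nat) (Ptab_182) (Ptab_183) (Nat.ble 183 c)
noncomputable def Ptab_s_185_187 (c : Nat) : Nat := @Bool.rec (fun _ => Nat) (Ptab_185) (Ptab_186) (Nat.ble 186 c)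
noncomputable def Ptab_s_184_187 (c : Nat) : Nat := @Bool.rec (fun _ => Nat) (Ptab_184) (Ptab_s_185_187 c) (Nat.ble 185 c)
noncomputable def Ptab_s_182_187 (c : Nat) : Nat := @Bool.rec (fun _ => Nat) (Ptab_s_182_184 c) (Ptab_s_184_187 c) (Nat.ble 184 c)
noncomputable def Ptab_s_177_187 (c : Nat) : Nat := @Bool.rec (fun _ => Nat) (Ptab_s_177_182 c) (Ptab_s_182_187 c) (Nat.ble 182 c)
noncomputable def Ptab_s_168_187 (c : Nat) : Nat := @Bool.rec (fun _ => Nat) (Ptab_s_168_177 c) (Ptab_s_177_187 c) (Nat.ble 177 c)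
noncomputable def Ptab_s_150_187 (c : Nat) : Nat := @Bool.rec (fun _ => Nat) (Ptab_s_150_168 c) (Ptab_s_168_187 c) (Nat.ble 168 c)
noncomputable def Ptab_s_187_189 (c : Nat) : Nat := @Bool.rec (fun _ => Nat) (Ptab_187) (Ptab_188) (Nat.ble 188 c)
noncomputable def Ptab_s_189_191 (c : Nat) : Nat := @Bool.rec (fun _ => Nat) (Ptab_189) (Ptab_190) (Nat.ble 190 c)
noncomputable def Ptab_s_187_191 (c : Nat) : Nat := @Bool.rec (fun _ => Nat) (Ptab_s_187_189 c) (Ptab_s_189_191 c) (Nat.ble 189 c)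
noncomputable def Ptab_s_191_193 (c : Nat) : Nat := @Bool.rec (fun _ => Nat) (Ptab_191) (Ptab_192) (Nat.ble 192 c)
noncomputable def Ptab_s_194_196 (c : Nat) : Nat := @Bool.rec (fun _ => Nat) (Ptab_194) (Ptab_195) (Nat.ble 195 c)
noncomputable def Ptab_s_193_196 (c : Nat) : Nat := @Bool.rec (fun _ => Nat) (Ptab_193) (Ptab_s_194_196 c) (Nat.ble 194 c)
noncomputable def Ptab_s_191_196 (c : Nat) : Nat := @Bool.rec (fun _ => Nat) (Ptab_s_191_193 c) (Ptab_s_193_196 c) (Nat.ble 193 c)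
noncomputable def Ptab_s_187_196 (c : Nat) : Nat := @Bool.rec (fun _ => Nat) (Ptab_s_187_191 c) (Ptab_s_191_196 c) (Nat.ble 191 c)
noncomputable def Ptab_s_196_198 (c : Nat) : Nat := @Bool.rec (fun _ => Nat) (Ptab_196) (Ptab_197) (Nat.ble 197 c)
noncomputable def Ptab_s_199_201 (c : Nat) : Nat := @Bool.rec (fun _ => Nat) (Ptab_199) (Ptab_200) (Nat.ble 200 c)
noncomputable def Ptab_s_198_201 (c : Nat) : Nat := @Bool.rec (fun _ => Nat) (Ptab_198) (Ptab_s_199_201 c) (Nat.ble 199 c)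
noncomputable def Ptab_s_196_201 (c : Nat) : Nat := @Bool.rec (fun _ => Nat) (Ptab_s_196_198 c) (Ptab_s_198_201 c) (Nat.ble 198 c)
noncomputable def Ptab_s_201_203 (c : Nat) : Nat := @Bool.rec (fun _ => Nat) (Ptab_201) (Ptab_202) (Nat.ble 202 c)
noncomputable def Ptab_s_204_206 (c : Nat) : Nat := @Bool.rec (fun _ => Nat) (Ptab_204) (Ptab_205) (Nat.ble 205 c)
noncomputable def Ptab_s_203_206 (c : Nat) : Nat := @Bool.rec (fun _ => Nat) (Ptab_203) (Ptab_s_204_206 c) (Nat.ble 204 c)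
noncomputable def Ptab_s_201_206 (c : Nat) : Nat := @Bool.rec (fun _ => Nat) (Ptab_s_201_203 c) (Ptab_s_203_206 c) (Nat.ble 203 c)
noncomputable def Ptab_s_196_206 (c : Nat) : Nat := @Bool.rec (fun _ => Nat) (Ptab_s_196_201 c) (Ptab_s_201_206 c) (Nat.ble 201 c)
noncomputable def Ptab_s_187_206 (c : Nat) : Nat := @Bool.rec (fun _ => Nat) (Ptab_s_187_196 c) (Ptab_s_196_206 c) (Nat.ble 196 c)
noncomputable def Ptab_s_206_208 (c : Nat) : Nat := @Bool.rec (fun _ => Nat) (Ptab_206) (Ptab_207) (Nat.ble 207 c)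
noncomputable def Ptab_s_208_210 (c : Nat) : Nat := @Bool.rec (fun _ => Nat) (Ptab_208) (Ptab_209) (Nat.ble 209 c)
noncomputable def Ptab_s_206_210 (c : Nat) : Nat := @Bool.rec (fun _ => Nat) (Ptab_s_206_208 c) (Ptab_s_208_210 c) (Nat.ble 208 c)
noncomputable def Ptab_s_210_212 (c : Nat) : Nat := @Bool.rec (fun _ => Nat) (Ptab_210) (Ptab_211) (Nat.ble 211 c)
noncomputable def Ptab_s_213_215 (c : Nat) : Nat := @Bool.rec (fun _ => Nat) (Ptab_213) (Ptab_214) (Nat.ble 214 c)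
noncomputable def Ptab_s_212_215 (c : Nat) : Nat := @Bool.rec (fun _ => Nat) (Ptab_212) (Ptab_s_213_215 c) (Nat.ble 213 c)
noncomputable def Ptab_s_210_215 (c : Nat) : Nat := @Bool.rec (fun _ => Nat) (Ptab_s_210_212 c) (Ptab_s_212_215 c) (Nat.ble 212 c)
noncomputable def Ptab_s_206_215 (c : Nat) : Nat := @Bool.rec (fun _ => Nat) (Ptab_s_206_210 c) (Ptab_s_210_215 c) (Nat.ble 210 c)
noncomputable def Ptab_s_215_217 (c : Nat) : Nat := @Bool.rec (fun _ => Nat) (Ptab_215) (Ptab_216) (Nat.ble 216 c)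
noncomputable def Ptab_s_218_220 (c : Nat) : Nat := @Bool.rec (fun _ => Nat) (Ptab_218) (Ptab_219) (Nat.ble 219 c)
noncomputable def Ptab_s_217_220 (c : Nat) : Nat := @Bool.rec (fun _ => Nat) (Ptab_217) (Ptab_s_218_220 c) (Nat.ble 218 c)
noncomputable def Ptab_s_215_220 (c : Nat) : Nat := @Bool.rec (fun _ => Nat) (Ptab_s_215_217 c) (Ptab_s_217_220 c) (Nat.ble 217 c)
noncomputable def Ptab_s_220_222 (c : Nat) : Nat := @Bool.rec (fun _ => Nat) (Ptab_220) (Ptab_221) (Nat.ble 221 c)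
noncomputable def Ptab_s_223_225 (c : Nat) : Nat := @Bool.rec (fun _ => Nat) (Ptab_223) (Ptab_224) (Nat.ble 224 c)
noncomputable def Ptab_s_222_225 (c : Nat) : Nat := @Bool.rec (fun _ => Nat) (Ptab_222) (Ptab_s_223_225 c) (Nat.ble 223 c)
noncomputable def Ptab_s_220_225 (c : Nat) : Nat := @Bool.rec (fun _ => Nat) (Ptab_s_220_222 c) (Ptab_s_222_225 c) (Nat.ble 222 c)
noncomputable def Ptab_s_215_225 (c : Nat) : Nat := @Bool.rec (fun _ => Nat) (Ptab_s_215_220 c) (Ptab_s_220_225 c) (Nat.ble 220 c)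
noncomputable def Ptab_s_206_225 (c : Nat) : Nat := @Bool.rec (fun _ => Nat) (Ptab_s_206_215 c) (Ptab_s_215_225 c) (Nat.ble 215 c)
noncomputable def Ptab_s_187_225 (c : Nat) : Nat := @Bool.rec (fun _ => Nat) (Ptab_s_187_206 c) (Ptab_s_206_225 c) (Nat.ble 206 c)
noncomputable def Ptab_s_150_225 (c : Nat) : Nat := @Bool.rec (fun _ => Nat) (Ptab_s_150_187 c) (Ptab_s_187_225 c) (Nat.ble 187 c)
noncomputable def Ptab_s_225_227 (c : Nat) : Nat := @Bool.rec (fun _ => Nat) (Ptab_225) (Ptab_226) (Nat.ble 226 c)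
noncomputable def Ptab_s_227_229 (c : Nat) : Nat := @Bool.rec (fun _ => Nat) (Ptab_227) (Ptab_228) (Nat.ble 228 c)
noncomputable def Ptab_s_225_229 (c : Nat) : Nat := @Bool.rec (fun _ => Nat) (Ptab_s_225_227 c) (Ptab_s_227_229 c) (Nat.ble 227 c)
noncomputable def Ptab_s_229_231 (c : Nat) : Nat := @Bool.rec (fun _ => Nat) (Ptab_229) (Ptab_230) (Nat.ble 230 c)
noncomputable def Ptab_s_232_234 (c : Nat) : Nat := @Bool.rec (fun _ => Nat) (Ptab_232) (Ptab_233) (Nat.ble 233 c)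
noncomputable def Ptab_s_231_234 (c : Nat) : Nat := @Bool.rec (fun _ => Nat) (Ptab_231) (Ptab_s_232_234 c) (Nat.ble 232 c)
noncomputable def Ptab_s_229_234 (c : Nat) : Nat := @Bool.rec (fun _ => Nat) (Ptab_s_229_231 c) (Ptab_s_231_234 c) (Nat.ble 231 c)
noncomputable def Ptab_s_225_234 (c : Nat) : Nat := @Bool.rec (fun _ => Nat) (Ptab_s_225_229 c) (Ptab_s_229_234 c) (Nat.ble 229 c)
noncomputable def Ptab_s_234_236 (c : Nat) : Nat := @Bool.rec (fun _ => Nat) (Ptab_234) (Ptab_235) (Nat.ble 235 c)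
noncomputable def Ptab_s_236_238 (c : Nat) : Nat := @Bool.rec (fun _ => Nat) (Ptab_236) (Ptab_237) (Nat.ble 237 c)
noncomputable def Ptab_s_234_238 (c : Nat) : Nat := @Bool.rec (fun _ => Nat) (Ptab_s_234_236 c) (Ptab_s_236_238 c) (Nat.ble 236 c)
noncomputable def Ptab_s_238_240 (c : Nat) : Nat := @Bool.rec (fun _ => Nat) (Ptab_238) (Ptab_239) (Nat.ble 239 c)
noncomputable def Ptab_s_241_243 (c : Nat) : Nat := @Bool.rec (fun _ => Nat) (Ptab_241) (Ptab_242) (Nat.ble 242 c)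
noncomputable def Ptab_s_240_243 (c : Nat) : Nat := @Bool.rec (fun _ => Nat) (Ptab_240) (Ptab_s_241_243 c) (Nat.ble 241 c)
noncomputable def Ptab_s_238_243 (c : Nat) : Nat := @Bool.rec (fun _ => Nat) (Ptab_s_238_240 c) (Ptab_s_240_243 c) (Nat.ble 240 c)
noncomputable def Ptab_s_234_243 (c : Nat) : Nat := @Bool.rec (fun _ => Nat) (Ptab_s_234_238 c) (Ptab_s_238_243 c) (Nat.ble 238 c)
noncomputable def Ptab_s_225_243 (c : Nat) : Nat := @Bool.rec (fun _ => Nat) (Ptab_s_225_234 c) (Ptab_s_234_243 c) (Nat.ble 234 c)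
noncomputable def Ptab_s_243_245 (c : Nat) : Nat := @Bool.rec (fun _ => Nat) (Ptab_243) (Ptab_244) (Nat.ble 244 c)
noncomputable def Ptab_s_245_247 (c : Nat) : Nat := @Bool.rec (fun _ => Nat) (Ptab_245) (Ptab_246) (Nat.ble 246 c)
noncomputable def Ptab_s_243_247 (c : Nat) : Nat := @Bool.rec (fun _ => Nat) (Ptab_s_243_245 c) (Ptab_s_245_247 c) (Nat.ble 245 c)
noncomputable def Ptab_s_247_249 (c : Nat) : Nat := @Bool.rec (fun _ => Nat) (Ptab_247) (Ptab_248) (Nat.ble 248 c)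
noncomputable def Ptab_s_250_252 (c : Nat) : Nat := @Bool.rec (fun _ => Nat) (Ptab_250) (Ptab_251) (Nat.ble 251 c)
noncomputable def Ptab_s_249_252 (c : Nat) : Nat := @Bool.rec (fun _ => Nat) (Ptab_249) (Ptab_s_250_252 c) (Nat.ble 250 c)
noncomputable def Ptab_s_247_252 (c : Nat) : Nat := @Bool.rec (fun _ => Nat) (Ptab_s_247_249 c) (Ptab_s_249_252 c) (Nat.ble 249 c)
noncomputable def Ptab_s_243_252 (c : Nat) : Nat := @Bool.rec (fun _ => Nat) (Ptab_s_243_247 c) (Ptab_s_247_252 c) (Nat.ble 247 c)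
noncomputable def Ptab_s_252_254 (c : Nat) : Nat := @Bool.rec (fun _ => Nat) (Ptab_252) (Ptab_253) (Nat.ble 253 c)
noncomputable def Ptab_s_255_257 (c : Nat) : Nat := @Bool.rec (fun _ => Nat) (Ptab_255) (Ptab_256) (Nat.ble 256 c)
noncomputable def Ptab_s_254_257 (c : Nat) : Nat := @Bool.rec (fun _ => Nat) (Ptab_254) (Ptab_s_255_257 c) (Nat.ble 255 c)
noncomputable def Ptab_s_252_257 (c : Nat) : Nat := @Bool.rec (fun _ => Nat) (Ptab_s_252_254 c) (Ptab_s_254_257 c) (Nat.ble 254 c)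
noncomputable def Ptab_s_257_259 (c : Nat) : Nat := @Bool.rec (fun _ => Nat) (Ptab_257) (Ptab_258) (Nat.ble 258 c)
noncomputable def Ptab_s_260_262 (c : Nat) : Nat := @Bool.rec (fun _ => Nat) (Ptab_260) (Ptab_261) (Nat.ble 261 c)
noncomputable def Ptab_s_259_262 (c : Nat) : Nat := @Bool.rec (fun _ => Nat) (Ptab_259) (Ptab_s_260_262 c) (Nat.ble 260 c)
noncomputable def Ptab_s_257_262 (c : Nat) : Nat := @Bool.rec (fun _ => Nat) (Ptab_s_257_259 c) (Ptab_s_259_262 c) (Nat.ble 259 c)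
noncomputable def Ptab_s_252_262 (c : Nat) : Nat := @Bool.rec (fun _ => Nat) (Ptab_s_252_257 c) (Ptab_s_257_262 c) (Nat.ble 257 c)
noncomputable def Ptab_s_243_262 (c : Nat) : Nat := @Bool.rec (fun _ => Nat) (Ptab_s_243_252 c) (Ptab_s_252_262 c) (Nat.ble 252 c)
noncomputable def Ptab_s_225_262 (c : Nat) : Nat := @Bool.rec (fun _ => Nat) (Ptab_s_225_243 c) (Ptab_s_243_262 c) (Nat.ble 243 c)
noncomputable def Ptab_s_262_264 (c : Nat) : Nat := @Bool.rec (fun _ => Nat) (Ptab_262) (Ptab_263) (Nat.ble 263 c)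
noncomputable def Ptab_s_264_266 (c : Nat) : Nat := @Bool.rec (fun _ => Nat) (Ptab_264) (Ptab_265) (Nat.ble 265 c)
noncomputable def Ptab_s_262_266 (c : Nat) : Nat := @Bool.rec (fun _ => Nat) (Ptab_s_262_264 c) (Ptab_s_264_266 c) (Nat.ble 264 c)
noncomputable def Ptab_s_266_268 (c : Nat) : Nat := @Bool.rec (fun _ => Nat) (Ptab_266) (Ptab_267) (Nat.ble 267 c)
noncomputable def Ptab_s_269_271 (c : Nat) : Nat := @Bool.rec (fun _ => Nat) (Ptab_269) (Ptab_270) (Nat.ble 270 c)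
noncomputable def Ptab_s_268_271 (c : Nat) : Nat := @Bool.rec (fun _ => Nat) (Ptab_268) (Ptab_s_269_271 c) (Nat.ble 269 c)
noncomputable def Ptab_s_266_271 (c : Nat) : Nat := @Bool.rec (fun _ => Nat) (Ptab_s_266_268 c) (Ptab_s_268_271 c) (Nat.ble 268 c)
noncomputable def Ptab_s_262_271 (c : Nat) : Nat := @Bool.rec (fun _ => Nat) (Ptab_s_262_266 c) (Ptab_s_266_271 c) (Nat.ble 266 c)
noncomputable def Ptab_s_271_273 (c : Nat) : Nat := @Bool.rec (fun _ => Nat) (Ptab_271) (Ptab_272) (Nat.ble 272 c)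
noncomputable def Ptab_s_274_276 (c : Nat) : Nat := @Bool.rec (fun _ => Nat) (Ptab_274) (Ptab_275) (Nat.ble 275 c)
noncomputable def Ptab_s_273_276 (c : Nat) : Nat := @Bool.rec (fun _ => Nat) (Ptab_273) (Ptab_s_274_276 c) (Nat.ble 274 c)
noncomputable def Ptab_s_271_276 (c : Nat) : Nat := @Bool.rec (fun _ => Nat) (Ptab_s_271_273 c) (Ptab_s_273_276 c) (Nat.ble 273 c)
noncomputable def Ptab_s_276_278 (c : Nat) : Nat := @Bool.rec (fun _ => Nat) (Ptab_276) (Ptab_277) (Nat.ble 277 c)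
noncomputable def Ptab_s_279_281 (c : Nat) : Nat := @Bool.rec (fun _ => Nat) (Ptab_279) (Ptab_280) (Nat.ble 280 c)
noncomputable def Ptab_s_278_281 (c : Nat) : Nat := @Bool.rec (fun _ => Nat) (Ptab_278) (Ptab_s_279_281 c) (Nat.ble 279 c)
noncomputable def Ptab_s_276_281 (c : Nat) : Nat := @Bool.rec (fun _ => Nat) (Ptab_s_276_278 c) (Ptab_s_278_281 c) (Nat.ble 278 c)
noncomputable def Ptab_s_271_281 (c : Nat) : Nat := @Bool.rec (fun _ => Nat) (Ptab_s_271_276 c) (Ptab_s_276_281 c) (Nat.ble 276 c)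
noncomputable def Ptab_s_262_281 (c : Nat) : Nat := @Bool.rec (fun _ => Nat) (Ptab_s_262_271 c) (Ptab_s_271_281 c) (Nat.ble 271 c)
noncomputable def Ptab_s_281_283 (c : Nat) : Nat := @Bool.rec (fun _ => Nat) (Ptab_281) (Ptab_282) (Nat.ble 282 c)
noncomputable def Ptab_s_283_285 (c : Nat) : Nat := @Bool.rec (fun _ => Nat) (Ptab_283) (Ptab_284) (Nat.ble 284 c)
noncomputable def Ptab_s_281_285 (c : Nat) : Nat := @Bool.rec (fun _ => Nat) (Ptab_s_281_283 c) (Ptab_s_283_285 c) (Nat.ble 283 c)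
noncomputable def Ptab_s_285_287 (c : Nat) : Nat := @Bool.rec (fun _ => Nat) (Ptab_285) (Ptab_286) (Nat.ble 286 c)
noncomputable def Ptab_s_288_290 (c : Nat) : Nat := @Bool.rec (fun _ => Nat) (Ptab_288) (Ptab_289) (Nat.ble 289 c)
noncomputable def Ptab_s_287_290 (c : Nat) : Nat := @Bool.rec (fun _ => Nat) (Ptab_287) (Ptab_s_288_290 c) (Nat.ble 288 c)
noncomputable def Ptab_s_285_290 (c : Nat) : Nat := @Bool.rec (fun _ => Nat) (Ptab_s_285_287 c) (Ptab_s_287_290 c) (Nat.ble 287 c)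
noncomputable def Ptab_s_281_290 (c : Nat) : Nat := @Bool.rec (fun _ => Nat) (Ptab_s_281_285 c) (Ptab_s_285_290 c) (Nat.ble 285 c)
noncomputable def Ptab_s_290_292 (c : Nat) : Nat := @Bool.rec (fun _ => Nat) (Ptab_290) (Ptab_291) (Nat.ble 291 c)
noncomputable def Ptab_s_293_295 (c : Nat) : Nat := @Bool.rec (fun _ => Nat) (Ptab_293) (Ptab_294) (Nat.ble 294 c)
noncomputable def Ptab_s_292_295 (c : Nat) : Nat := @Bool.rec (fun _ => Nat) (Ptab_292) (Ptab_s_293_295 c) (Nat.ble 293 c)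
noncomputable def Ptab_s_290_295 (c : Nat) : Nat := @Bool.rec (fun _ => Nat) (Ptab_s_290_292 c) (Ptab_s_292_295 c) (Nat.ble 292 c)
noncomputable def Ptab_s_295_297 (c : Nat) : Nat := @Bool.rec (fun _ => Nat) (Ptab_295) (Ptab_296) (Nat.ble 296 c)
noncomputable def Ptab_s_298_300 (c : Nat) : Nat := @Bool.rec (fun _ => Nat) (Ptab_298) (Ptab_299) (Nat.ble 299 c)
noncomputable def Ptab_s_297_300 (c : Nat) : Nat := @Bool.rec (fun _ => Nat) (Ptab_297) (Ptab_s_298_300 c) (Nat.ble 298 c)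
noncomputable def Ptab_s_295_300 (c : Nat) : Nat := @Bool.rec (fun _ => Nat) (Ptab_s_295_297 c) (Ptab_s_297_300 c) (Nat.ble 297 c)
noncomputable def Ptab_s_290_300 (c : Nat) : Nat := @Bool.rec (fun _ => Nat) (Ptab_s_290_295 c) (Ptab_s_295_300 c) (Nat.ble 295 c)
noncomputable def Ptab_s_281_300 (c : Nat) : Nat := @Bool.rec (fun _ => Nat) (Ptab_s_281_290 c) (Ptab_s_290_300 c) (Nat.ble 290 c)
noncomputable def Ptab_s_262_300 (c : Nat) : Nat := @Bool.rec (fun _ => Nat) (Ptab_s_262_281 c) (Ptab_s_281_300 c) (Nat.ble 281 c)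
noncomputable def Ptab_s_225_300 (c : Nat) : Nat := @Bool.rec (fun _ => Nat) (Ptab_s_225_262 c) (Ptab_s_262_300 c) (Nat.ble 262 c)
noncomputable def Ptab_s_150_300 (c : Nat) : Nat := @Bool.rec (fun _ => Nat) (Ptab_s_150_225 c) (Ptab_s_225_300 c) (Nat.ble 225 c)
noncomputable def Ptab_s_0_300 (c : Nat) : Nat := @Bool.rec (fun _ => Nat) (Ptab_s_0_150 c) (Ptab_s_150_300 c) (Nat.ble 150 c)
noncomputable def Ptab_s_300_302 (c : Nat) : Nat := @Bool.rec (fun _ => Nat) (Ptab_300) (Ptab_301) (Nat.ble 301 c)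
noncomputable def Ptab_s_302_304 (c : Nat) : Nat := @Bool.rec (fun _ => Nat) (Ptab_302) (Ptab_303) (Nat.ble 303 c)
noncomputable def Ptab_s_300_304 (c : Nat) : Nat := @Bool.rec (fun _ => Nat) (Ptab_s_300_302 c) (Ptab_s_302_304 c) (Nat.ble 302 c)
noncomputable def Ptab_s_304_306 (c : Nat) : Nat := @Bool.rec (fun _ => Nat) (Ptab_304) (Ptab_305) (Nat.ble 305 c)
noncomputable def Ptab_s_307_309 (c : Nat) : Nat := @Bool.rec (fun _ => Nat) (Ptab_307) (Ptab_308) (Nat.ble 308 c)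
noncomputable def Ptab_s_306_309 (c : Nat) : Nat := @Bool.rec (fun _ => Nat) (Ptab_306) (Ptab_s_307_309 c) (Nat.ble 307 c)
noncomputable def Ptab_s_304_309 (c : Nat) : Nat := @Bool.rec (fun _ => Nat) (Ptab_s_304_306 c) (Ptab_s_306_309 c) (Nat.ble 306 c)
noncomputable def Ptab_s_300_309 (c : Nat) : Nat := @Bool.rec (fun _ => Nat) (Ptab_s_300_304 c) (Ptab_s_304_309 c) (Nat.ble 304 c)
noncomputable def Ptab_s_309_311 (c : Nat) : Nat := @Bool.rec (fun _ => Nat) (Ptab_309) (Ptab_310) (Nat.ble 310 c)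
noncomputable def Ptab_s_311_313 (c : Nat) : Nat := @Bool.rec (fun _ => Nat) (Ptab_311) (Ptab_312) (Nat.ble 312 c)
noncomputable def Ptab_s_309_313 (c : Nat) : Nat := @Bool.rec (fun _ => Nat) (Ptab_s_309_311 c) (Ptab_s_311_313 c) (Nat.ble 311 c)
noncomputable def Ptab_s_313_315 (c : Nat) : Nat := @Bool.rec (fun _ => Nat) (Ptab_313) (Ptab_314) (Nat.ble 314 c)
noncomputable def Ptab_s_316_318 (c : Nat) : Nat := @Bool.rec (fun _ => Nat) (Ptab_316) (Ptab_317) (Nat.ble 317 c)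
noncomputable def Ptab_s_315_318 (c : Nat) : Nat := @Bool.rec (fun _ => Nat) (Ptab_315) (Ptab_s_316_318 c) (Nat.ble 316 c)
noncomputable def Ptab_s_313_318 (c : Nat) : Nat := @Bool.rec (fun _ => Nat) (Ptab_s_313_315 c) (Ptab_s_315_318 c) (Nat.ble 315 c)
noncomputable def Ptab_s_309_318 (c : Nat) : Nat := @Bool.rec (fun _ => Nat) (Ptab_s_309_313 c) (Ptab_s_313_318 c) (Nat.ble 313 c)
noncomputable def Ptab_s_300_318 (c : Nat) : Nat := @Bool.rec (fun _ => Nat) (Ptab_s_300_309 c) (Ptab_s_309_318 c) (Nat.ble 309 c)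
noncomputable def Ptab_s_318_320 (c : Nat) : Nat := @Bool.rec (fun _ => Nat) (Ptab_318) (Ptab_319) (Nat.ble 319 c)
noncomputable def Ptab_s_320_322 (c : Nat) : Nat := @Bool.rec (fun _ => Nat) (Ptab_320) (Ptab_321) (Nat.ble 321 c)
noncomputable def Ptab_s_318_322 (c : Nat) : Nat := @Bool.rec (fun _ => Nat) (Ptab_s_318_320 c) (Ptab_s_320_322 c) (Nat.ble 320 c)
noncomputable def Ptab_s_322_324 (c : Nat) : Nat := @Bool.rec (fun _ => Nat) (Ptab_322) (Ptab_323) (Nat.ble 323 c)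
noncomputable def Ptab_s_325_327 (c : Nat) : Nat := @Bool.rec (fun _ => Nat) (Ptab_325) (Ptab_326) (Nat.ble 326 c)
noncomputable def Ptab_s_324_327 (c : Nat) : Nat := @Bool.rec (fun _ => Nat) (Ptab_324) (Ptab_s_325_327 c) (Nat.ble 325 c)
noncomputable def Ptab_s_322_327 (c : Nat) : Nat := @Bool.rec (fun _ => Nat) (Ptab_s_322_324 c) (Ptab_s_324_327 c) (Nat.ble 324 c)
noncomputable def Ptab_s_318_327 (c : Nat) : Nat := @Bool.rec (fun _ => Nat) (Ptab_s_318_322 c) (Ptab_s_322_327 c) (Nat.ble 322 c)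
noncomputable def Ptab_s_327_329 (c : Nat) : Nat := @Bool.rec (fun _ => Nat) (Ptab_327) (Ptab_328) (Nat.ble 328 c)
noncomputable def Ptab_s_330_332 (c : Nat) : Nat := @Bool.rec (fun _ => Nat) (Ptab_330) (Ptab_331) (Nat.ble 331 c)
noncomputable def Ptab_s_329_332 (c : Nat) : Nat := @Bool.rec (fun _ => Nat) (Ptab_329) (Ptab_s_330_332 c) (Nat.ble 330 c)
noncomputable def Ptab_s_327_332 (c : Nat) : Nat := @Bool.rec (fun _ => Nat) (Ptab_s_327_329 c) (Ptab_s_329_332 c) (Nat.ble 329 c)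
noncomputable def Ptab_s_332_334 (c : Nat) : Nat := @Bool.rec (fun _ => Nat) (Ptab_332) (Ptab_333) (Nat.ble 333 c)
noncomputable def Ptab_s_335_337 (c : Nat) : Nat := @Bool.rec (fun _ => Nat) (Ptab_335) (Ptab_336) (Nat.ble 336 c)
noncomputable def Ptab_s_334_337 (c : Nat) : Nat := @Bool.rec (fun _ => Nat) (Ptab_334) (Ptab_s_335_337 c) (Nat.ble 335 c)
noncomputable def Ptab_s_332_337 (c : Nat) : Nat := @Bool.rec (fun _ => Nat) (Ptab_s_332_334 c) (Ptab_s_334_337 c) (Nat.ble 334 c)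
noncomputable def Ptab_s_327_337 (c : Nat) : Nat := @Bool.rec (fun _ => Nat) (Ptab_s_327_332 c) (Ptab_s_332_337 c) (Nat.ble 332 c)
noncomputable def Ptab_s_318_337 (c : Nat) : Nat := @Bool.rec (fun _ => Nat) (Ptab_s_318_327 c) (Ptab_s_327_337 c) (Nat.ble 327 c)
noncomputable def Ptab_s_300_337 (c : Nat) : Nat := @Bool.rec (fun _ => Nat) (Ptab_s_300_318 c) (Ptab_s_318_337 c) (Nat.ble 318 c)
noncomputable def Ptab_s_337_339 (c : Nat) : Nat := @Bool.rec (fun _ => Nat) (Ptab_337) (Ptab_338) (Nat.ble 338 c)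
noncomputable def Ptab_s_339_341 (c : Nat) : Nat := @Bool.rec (fun _ => Nat) (Ptab_339) (Ptab_340) (Nat.ble 340 c)
noncomputable def Ptab_s_337_341 (c : Nat) : Nat := @Bool.rec (fun _ => Nat) (Ptab_s_337_339 c) (Ptab_s_339_341 c) (Nat.ble 339 c)
noncomputable def Ptab_s_341_343 (c : Nat) : Nat := @Bool.rec (fun _ => Nat) (Ptab_341) (Ptab_342) (Nat.ble 342 c)
noncomputable def Ptab_s_344_346 (c : Nat) : Nat := @Bool.rec (fun _ => Nat) (Ptab_344) (Ptab_345) (Nat.ble 345 c)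
noncomputable def Ptab_s_343_346 (c : Nat) : Nat := @Bool.rec (fun _ => Nat) (Ptab_343) (Ptab_s_344_346 c) (Nat.ble 344 c)
noncomputable def Ptab_s_341_346 (c : Nat) : Nat := @Bool.rec (fun _ => Nat) (Ptab_s_341_343 c) (Ptab_s_343_346 c) (Nat.ble 343 c)
noncomputable def Ptab_s_337_346 (c : Nat) : Nat := @Bool.rec (fun _ => Nat) (Ptab_s_337_341 c) (Ptab_s_341_346 c) (Nat.ble 341 c)
noncomputable def Ptab_s_346_348 (c : Nat) : Nat := @Bool.rec (fun _ => Nat) (Ptab_346) (Ptab_347) (Nat.ble 347 c)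
noncomputable def Ptab_s_349_351 (c : Nat) : Nat := @Bool.rec (fun _ => Nat) (Ptab_349) (Ptab_350) (Nat.ble 350 c)
noncomputable def Ptab_s_348_351 (c : Nat) : Nat := @Bool.rec (fun _ => Nat) (Ptab_348) (Ptab_s_349_351 c) (Nat.ble 349 c)
noncomputable def Ptab_s_346_351 (c : Nat) : Nat := @Bool.rec (fun _ => Nat) (Ptab_s_346_348 c) (Ptab_s_348_351 c) (Nat.ble 348 c)
noncomputable def Ptab_s_351_353 (c : Nat) : Nat := @Bool.rec (fun _ => Nat) (Ptab_351) (Ptab_352) (Nat.ble 352 c)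
noncomputable def Ptab_s_354_356 (c : Nat) : Nat := @Bool.rec (fun _ => Nat) (Ptab_354) (Ptab_355) (Nat.ble 355 c)
noncomputable def Ptab_s_353_356 (c : Nat) : Nat := @Bool.rec (fun _ => Nat) (Ptab_353) (Ptab_s_354_356 c) (Nat.ble 354 c)
noncomputable def Ptab_s_351_356 (c : Nat) : Nat := @Bool.rec (fun _ => Nat) (Ptab_s_351_353 c) (Ptab_s_353_356 c) (Nat.ble 353 c)
noncomputable def Ptab_s_346_356 (c : Nat) : Nat := @Bool.rec (fun _ => Nat) (Ptab_s_346_351 c) (Ptab_s_351_356 c) (Nat.ble 351 c)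
noncomputable def Ptab_s_337_356 (c : Nat) : Nat := @Bool.rec (fun _ => Nat) (Ptab_s_337_346 c) (Ptab_s_346_356 c) (Nat.ble 346 c)
noncomputable def Ptab_s_356_358 (c : Nat) : Nat := @Bool.rec (fun _ => Nat) (Ptab_356) (Ptab_357) (Nat.ble 357 c)
noncomputable def Ptab_s_358_360 (c : Nat) : Nat := @Bool.rec (fun _ => Nat) (Ptab_358) (Ptab_359) (Nat.ble 359 c)
noncomputable def Ptab_s_356_360 (c : Nat) : Nat := @Bool.rec (fun _ => Nat) (Ptab_s_356_358 c) (Ptab_s_358_360 c) (Nat.ble 358 c)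
noncomputable def Ptab_s_360_362 (c : Nat) : Nat := @Bool.rec (fun _ => Nat) (Ptab_360) (Ptab_361) (Nat.ble 361 c)
noncomputable def Ptab_s_363_365 (c : Nat) : Nat := @Bool.rec (fun _ => Nat) (Ptab_363) (Ptab_364) (Nat.ble 364 c)
noncomputable def Ptab_s_362_365 (c : Nat) : Nat := @Bool.rec (fun _ => Nat) (Ptab_362) (Ptab_s_363_365 c) (Nat.ble 363 c)
noncomputable def Ptab_s_360_365 (c : Nat) : Nat := @Bool.rec (fun _ => Nat) (Ptab_s_360_362 c) (Ptab_s_362_365 c) (Nat.ble 362 c)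
noncomputable def Ptab_s_356_365 (c : Nat) : Nat := @Bool.rec (fun _ => Nat) (Ptab_s_356_360 c) (Ptab_s_360_365 c) (Nat.ble 360 c)
noncomputable def Ptab_s_365_367 (c : Nat) : Nat := @Bool.rec (fun _ => Nat) (Ptab_365) (Ptab_366) (Nat.ble 366 c)
noncomputable def Ptab_s_368_370 (c : Nat) : Nat := @Bool.rec (fun _ => Nat) (Ptab_368) (Ptab_369) (Nat.ble 369 c)
noncomputable def Ptab_s_367_370 (c : Nat) : Nat := @Bool.rec (fun _ => Nat) (Ptab_367) (Ptab_s_368_370 c) (Nat.ble 368 c)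
noncomputable def Ptab_s_365_370 (c : Nat) : Nat := @Bool.rec (fun _ => Nat) (Ptab_s_365_367 c) (Ptab_s_367_370 c) (Nat.ble 367 c)
noncomputable def Ptab_s_370_372 (c : Nat) : Nat := @Bool.rec (fun _ => Nat) (Ptab_370) (Ptab_371) (Nat.ble 371 c)
noncomputable def Ptab_s_373_375 (c : Nat) : Nat := @Bool.rec (fun _ => Nat) (Ptab_373) (Ptab_374) (Nat.ble 374 c)
noncomputable def Ptab_s_372_375 (c : Nat) : Nat := @Bool.rec (fun _ => Nat) (Ptab_372) (Ptab_s_373_375 c) (Nat.ble 373 c)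
noncomputable def Ptab_s_370_375 (c : Nat) : Nat := @Bool.rec (fun _ => Nat) (Ptab_s_370_372 c) (Ptab_s_372_375 c) (Nat.ble 372 c)
noncomputable def Ptab_s_365_375 (c : Nat) : Nat := @Bool.rec (fun _ => Nat) (Ptab_s_365_370 c) (Ptab_s_370_375 c) (Nat.ble 370 c)
noncomputable def Ptab_s_356_375 (c : Nat) : Nat := @Bool.rec (fun _ => Nat) (Ptab_s_356_365 c) (Ptab_s_365_375 c) (Nat.ble 365 c)
noncomputable def Ptab_s_337_375 (c : Nat) : Nat := @Bool.rec (fun _ => Nat) (Ptab_s_337_356 c) (Ptab_s_356_375 c) (Nat.ble 356 c)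
noncomputable def Ptab_s_300_375 (c : Nat) : Nat := @Bool.rec (fun _ => Nat) (Ptab_s_300_337 c) (Ptab_s_337_375 c) (Nat.ble 337 c)
noncomputable def Ptab_s_375_377 (c : Nat) : Nat := @Bool.rec (fun _ => Nat) (Ptab_375) (Ptab_376) (Nat.ble 376 c)
noncomputable def Ptab_s_377_379 (c : Nat) : Nat := @Bool.rec (fun _ => Nat) (Ptab_377) (Ptab_378) (Nat.ble 378 c)
noncomputable def Ptab_s_375_379 (c : Nat) : Nat := @Bool.rec (fun _ => Nat) (Ptab_s_375_377 c) (Ptab_s_377_379 c) (Nat.ble 377 c)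
noncomputable def Ptab_s_379_381 (c : Nat) : Nat := @Bool.rec (fun _ => Nat) (Ptab_379) (Ptab_380) (Nat.ble 380 c)
noncomputable def Ptab_s_382_384 (c : Nat) : Nat := @Bool.rec (fun _ => Nat) (Ptab_382) (Ptab_383) (Nat.ble 383 c)
noncomputable def Ptab_s_381_384 (c : Nat) : Nat := @Bool.rec (fun _ => Nat) (Ptab_381) (Ptab_s_382_384 c) (Nat.ble 382 c)
noncomputable def Ptab_s_379_384 (c : Nat) : Nat := @Bool.rec (fun _ => Nat) (Ptab_s_379_381 c) (Ptab_s_381_384 c) (Nat.ble 381 c)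
noncomputable def Ptab_s_375_384 (c : Nat) : Nat := @Bool.rec (fun _ => Nat) (Ptab_s_375_379 c) (Ptab_s_379_384 c) (Nat.ble 379 c)
noncomputable def Ptab_s_384_386 (c : Nat) : Nat := @Bool.rec (fun _ => Nat) (Ptab_384) (Ptab_385) (Nat.ble 385 c)
noncomputable def Ptab_s_386_388 (c : Nat) : Nat := @Bool.rec (fun _ => Nat) (Ptab_386) (Ptab_387) (Nat.ble 387 c)
noncomputable def Ptab_s_384_388 (c : Nat) : Nat := @Bool.rec (fun _ => Nat) (Ptab_s_384_386 c) (Ptab_s_386_388 c) (Nat.ble 386 c)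
noncomputable def Ptab_s_388_390 (c : Nat) : Nat := @Bool.rec (fun _ => Nat) (Ptab_388) (Ptab_389) (Nat.ble 389 c)
noncomputable def Ptab_s_391_393 (c : Nat) : Nat := @Bool.rec (fun _ => Nat) (Ptab_391) (Ptab_392) (Nat.ble 392 c)
noncomputable def Ptab_s_390_393 (c : Nat) : Nat := @Bool.rec (fun _ => Nat) (Ptab_390) (Ptab_s_391_393 c) (Nat.ble 391 c)
noncomputable def Ptab_s_388_393 (c : Nat) : Nat := @Bool.rec (fun _ => Nat) (Ptab_s_388_390 c) (Ptab_s_390_393 c) (Nat.ble 390 c)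
noncomputable def Ptab_s_384_393 (c : Nat) : Nat := @Bool.rec (fun _ => Nat) (Ptab_s_384_388 c) (Ptab_s_388_393 c) (Nat.ble 388 c)
noncomputable def Ptab_s_375_393 (c : Nat) : Nat := @Bool.rec (fun _ => Nat) (Ptab_s_375_384 c) (Ptab_s_384_393 c) (Nat.ble 384 c)
noncomputable def Ptab_s_393_395 (c : Nat) : Nat := @Bool.rec (fun _ => Nat) (Ptab_393) (Ptab_394) (Nat.ble 394 c)
noncomputable def Ptab_s_395_397 (c : Nat) : Nat := @Bool.rec (fun _ => Nat) (Ptab_395) (Ptab_396) (Nat.ble 396 c)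
noncomputable def Ptab_s_393_397 (c : Nat) : Nat := @Bool.rec (fun _ => Nat) (Ptab_s_393_395 c) (Ptab_s_395_397 c) (Nat.ble 395 c)
noncomputable def Ptab_s_397_399 (c : Nat) : Nat := @Bool.rec (fun _ => Nat) (Ptab_397) (Ptab_398) (Nat.ble 398 c)
noncomputable def Ptab_s_400_402 (c : Nat) : Nat := @Bool.rec (fun _ => Nat) (Ptab_400) (Ptab_401) (Nat.ble 401 c)
noncomputable def Ptab_s_399_402 (c : Nat) : Nat := @Bool.rec (fun _ => Nat) (Ptab_399) (Ptab_s_400_402 c) (Nat.ble 400 c)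
noncomputable def Ptab_s_397_402 (c : Nat) : Nat := @Bool.rec (fun _ => Nat) (Ptab_s_397_399 c) (Ptab_s_399_402 c) (Nat.ble 399 c)
noncomputable def Ptab_s_393_402 (c : Nat) : Nat := @Bool.rec (fun _ => Nat) (Ptab_s_393_397 c) (Ptab_s_397_402 c) (Nat.ble 397 c)
noncomputable def Ptab_s_402_404 (c : Nat) : Nat := @Bool.rec (fun _ => Nat) (Ptab_402) (Ptab_403) (Nat.ble 403 c)
noncomputable def Ptab_s_405_407 (c : Nat) : Nat := @Bool.rec (fun _ => Nat) (Ptab_405) (Ptab_406) (Nat.ble 406 c)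
noncomputable def Ptab_s_404_407 (c : Nat) : Nat := @Bool.rec (fun _ => Nat) (Ptab_404) (Ptab_s_405_407 c) (Nat.ble 405 c)
noncomputable def Ptab_s_402_407 (c : Nat) : Nat := @Bool.rec (fun _ => Nat) (Ptab_s_402_404 c) (Ptab_s_404_407 c) (Nat.ble 404 c)
noncomputable def Ptab_s_407_409 (c : Nat) : Nat := @Bool.rec (fun _ => Nat) (Ptab_407) (Ptab_408) (Nat.ble 408 c)
noncomputable def Ptab_s_410_412 (c : Nat) : Nat := @Bool.rec (fun _ => Nat) (Ptab_410) (Ptab_411) (Nat.ble 411 c)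
noncomputable def Ptab_s_409_412 (c : Nat) : Nat := @Bool.rec (fun _ => Nat) (Ptab_409) (Ptab_s_410_412 c) (Nat.ble 410 c)
noncomputable def Ptab_s_407_412 (c : Nat) : Nat := @Bool.rec (fun _ => Nat) (Ptab_s_407_409 c) (Ptab_s_409_412 c) (Nat.ble 409 c)
noncomputable def Ptab_s_402_412 (c : Nat) : Nat := @Bool.rec (fun _ => Nat) (Ptab_s_402_407 c) (Ptab_s_407_412 c) (Nat.ble 407 c)
noncomputable def Ptab_s_393_412 (c : Nat) : Nat := @Bool.rec (fun _ => Nat) (Ptab_s_393_402 c) (Ptab_s_402_412 c) (Nat.ble 402 c)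
noncomputable def Ptab_s_375_412 (c : Nat) : Nat := @Bool.rec (fun _ => Nat) (Ptab_s_375_393 c) (Ptab_s_393_412 c) (Nat.ble 393 c)
noncomputable def Ptab_s_412_414 (c : Nat) : Nat := @Bool.rec (fun _ => Nat) (Ptab_412) (Ptab_413) (Nat.ble 413 c)
noncomputable def Ptab_s_414_416 (c : Nat) : Nat := @Bool.rec (fun _ => Nat) (Ptab_414) (Ptab_415) (Nat.ble 415 c)
noncomputable def Ptab_s_412_416 (c : Nat) : Nat := @Bool.rec (fun _ => Nat) (Ptab_s_412_414 c) (Ptab_s_414_416 c) (Nat.ble 414 c)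
noncomputable def Ptab_s_416_418 (c : Nat) : Nat := @Bool.rec (fun _ => Nat) (Ptab_416) (Ptab_417) (Nat.ble 417 c)
noncomputable def Ptab_s_419_421 (c : Nat) : Nat := @Bool.rec (fun _ => Nat) (Ptab_419) (Ptab_420) (Nat.ble 420 c)
noncomputable def Ptab_s_418_421 (c : Nat) : Nat := @Bool.rec (fun _ => Nat) (Ptab_418) (Ptab_s_419_421 c) (Nat.ble 419 c)
noncomputable def Ptab_s_416_421 (c : Nat) : Nat := @Bool.rec (fun _ => Nat) (Ptab_s_416_418 c) (Ptab_s_418_421 c) (Nat.ble 418 c)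
noncomputable def Ptab_s_412_421 (c : Nat) : Nat := @Bool.rec (fun _ => Nat) (Ptab_s_412_416 c) (Ptab_s_416_421 c) (Nat.ble 416 c)
noncomputable def Ptab_s_421_423 (c : Nat) : Nat := @Bool.rec (fun _ => Nat) (Ptab_421) (Ptab_422) (Nat.ble 422 c)
noncomputable def Ptab_s_424_426 (c : Nat) : Nat := @Bool.rec (fun _ => Nat) (Ptab_424) (Ptab_425) (Nat.ble 425 c)
noncomputable def Ptab_s_423_426 (c : Nat) : Nat := @Bool.rec (fun _ => Nat) (Ptab_423) (Ptab_s_424_426 c) (Nat.ble 424 c)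
noncomputable def Ptab_s_421_426 (c : Nat) : Nat := @Bool.rec (fun _ => Nat) (Ptab_s_421_423 c) (Ptab_s_423_426 c) (Nat.ble 423 c)
noncomputable def Ptab_s_426_428 (c : Nat) : Nat := @Bool.rec (fun _ => Nat) (Ptab_426) (Ptab_427) (Nat.ble 427 c)
noncomputable def Ptab_s_429_431 (c : Nat) : Nat := @Bool.rec (fun _ => Nat) (Ptab_429) (Ptab_430) (Nat.ble 430 c)
noncomputable def Ptab_s_428_431 (c : Nat) : Nat := @Bool.rec (fun _ => Nat) (Ptab_428) (Ptab_s_429_431 c) (Nat.ble 429 c)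
noncomputable def Ptab_s_426_431 (c : Nat) : Nat := @Bool.rec (fun _ => Nat) (Ptab_s_426_428 c) (Ptab_s_428_431 c) (Nat.ble 428 c)
noncomputable def Ptab_s_421_431 (c : Nat) : Nat := @Bool.rec (fun _ => Nat) (Ptab_s_421_426 c) (Ptab_s_426_431 c) (Nat.ble 426 c)
noncomputable def Ptab_s_412_431 (c : Nat) : Nat := @Bool.rec (fun _ => Nat) (Ptab_s_412_421 c) (Ptab_s_421_431 c) (Nat.ble 421 c)
noncomputable def Ptab_s_431_433 (c : Nat) : Nat := @Bool.rec (fun _ => Nat) (Ptab_431) (Ptab_432) (Nat.ble 432 c)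
noncomputable def Ptab_s_433_435 (c : Nat) : Nat := @Bool.rec (fun _ => Nat) (Ptab_433) (Ptab_434) (Nat.ble 434 c)
noncomputable def Ptab_s_431_435 (c : Nat) : Nat := @Bool.rec (fun _ => Nat) (Ptab_s_431_433 c) (Ptab_s_433_435 c) (Nat.ble 433 c)
noncomputable def Ptab_s_435_437 (c : Nat) : Nat := @Bool.rec (fun _ => Nat) (Ptab_435) (Ptab_436) (Nat.ble 436 c)
noncomputable def Ptab_s_438_440 (c : Nat) : Nat := @Bool.rec (fun _ => Nat) (Ptab_438) (Ptab_439) (Nat.ble 439 c)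
noncomputable def Ptab_s_437_440 (c : Nat) : Nat := @Bool.rec (fun _ => Nat) (Ptab_437) (Ptab_s_438_440 c) (Nat.ble 438 c)
noncomputable def Ptab_s_435_440 (c : Nat) : Nat := @Bool.rec (fun _ => Nat) (Ptab_s_435_437 c) (Ptab_s_437_440 c) (Nat.ble 437 c)
noncomputable def Ptab_s_431_440 (c : Nat) : Nat := @Bool.rec (fun _ => Nat) (Ptab_s_431_435 c) (Ptab_s_435_440 c) (Nat.ble 435 c)
noncomputable def Ptab_s_440_442 (c : Nat) : Nat := @Bool.rec (fun _ => Nat) (Ptab_440) (Ptab_441) (Nat.ble 441 c)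
noncomputable def Ptab_s_443_445 (c : Nat) : Nat := @Bool.rec (fun _ => Nat) (Ptab_443) (Ptab_444) (Nat.ble 444 c)
noncomputable def Ptab_s_442_445 (c : Nat) : Nat := @Bool.rec (fun _ => Nat) (Ptab_442) (Ptab_s_443_445 c) (Nat.ble 443 c)
noncomputable def Ptab_s_440_445 (c : Nat) : Nat := @Bool.rec (fun _ => Nat) (Ptab_s_440_442 c) (Ptab_s_442_445 c) (Nat.ble 442 c)
noncomputable def Ptab_s_445_447 (c : Nat) : Nat := @Bool.rec (fun _ => Nat) (Ptab_445) (Ptab_446) (Nat.ble 446 c)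
noncomputable def Ptab_s_448_450 (c : Nat) : Nat := @Bool.rec (fun _ => Nat) (Ptab_448) (Ptab_449) (Nat.ble 449 c)
noncomputable def Ptab_s_447_450 (c : Nat) : Nat := @Bool.rec (fun _ => Nat) (Ptab_447) (Ptab_s_448_450 c) (Nat.ble 448 c)
noncomputable def Ptab_s_445_450 (c : Nat) : Nat := @Bool.rec (fun _ => Nat) (Ptab_s_445_447 c) (Ptab_s_447_450 c) (Nat.ble 447 c)
noncomputable def Ptab_s_440_450 (c : Nat) : Nat := @Bool.rec (fun _ => Nat) (Ptab_s_440_445 c) (Ptab_s_445_450 c) (Nat.ble 445 c)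
noncomputable def Ptab_s_431_450 (c : Nat) : Nat := @Bool.rec (fun _ => Nat) (Ptab_s_431_440 c) (Ptab_s_440_450 c) (Nat.ble 440 c)
noncomputable def Ptab_s_412_450 (c : Nat) : Nat := @Bool.rec (fun _ => Nat) (Ptab_s_412_431 c) (Ptab_s_431_450 c) (Nat.ble 431 c)
noncomputable def Ptab_s_375_450 (c : Nat) : Nat := @Bool.rec (fun _ => Nat) (Ptab_s_375_412 c) (Ptab_s_412_450 c) (Nat.ble 412 c)
noncomputable def Ptab_s_300_450 (c : Nat) : Nat := @Bool.rec (fun _ => Nat) (Ptab_s_300_375 c) (Ptab_s_375_450 c) (Nat.ble 375 c)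
noncomputable def Ptab_s_450_452 (c : Nat) : Nat := @Bool.rec (fun _ => Nat) (Ptab_450) (Ptab_451) (Nat.ble 451 c)
noncomputable def Ptab_s_452_454 (c : Nat) : Nat := @Bool.rec (fun _ => Nat) (Ptab_452) (Ptab_453) (Nat.ble 453 c)
noncomputable def Ptab_s_450_454 (c : Nat) : Nat := @Bool.rec (fun _ => Nat) (Ptab_s_450_452 c) (Ptab_s_452_454 c) (Nat.ble 452 c)
noncomputable def Ptab_s_454_456 (c : Nat) : Nat := @Bool.rec (fun _ => Nat) (Ptab_454) (Ptab_455) (Nat.ble 455 c)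
noncomputable def Ptab_s_457_459 (c : Nat) : Nat := @Bool.rec (fun _ => Nat) (Ptab_457) (Ptab_458) (Nat.ble 458 c)
noncomputable def Ptab_s_456_459 (c : Nat) : Nat := @Bool.rec (fun _ => Nat) (Ptab_456) (Ptab_s_457_459 c) (Nat.ble 457 c)
noncomputable def Ptab_s_454_459 (c : Nat) : Nat := @Bool.rec (fun _ => Nat) (Ptab_s_454_456 c) (Ptab_s_456_459 c) (Nat.ble 456 c)
noncomputable def Ptab_s_450_459 (c : Nat) : Nat := @Bool.rec (fun _ => Nat) (Ptab_s_450_454 c) (Ptab_s_454_459 c) (Nat.ble 454 c)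
noncomputable def Ptab_s_459_461 (c : Nat) : Nat := @Bool.rec (fun _ => Nat) (Ptab_459) (Ptab_460) (Nat.ble 460 c)
noncomputable def Ptab_s_461_463 (c : Nat) : Nat := @Bool.rec (fun _ => Nat) (Ptab_461) (Ptab_462) (Nat.ble 462 c)
noncomputable def Ptab_s_459_463 (c : Nat) : Nat := @Bool.rec (fun _ => Nat) (Ptab_s_459_461 c) (Ptab_s_461_463 c) (Nat.ble 461 c)
noncomputable def Ptab_s_463_465 (c : Nat) : Nat := @Bool.rec (fun _ => Nat) (Ptab_463) (Ptab_464) (Nat.ble 464 c)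
noncomputable def Ptab_s_466_468 (c : Nat) : Nat := @Bool.rec (fun _ => Nat) (Ptab_466) (Ptab_467) (Nat.ble 467 c)
noncomputable def Ptab_s_465_468 (c : Nat) : Nat := @Bool.rec (fun _ => Nat) (Ptab_465) (Ptab_s_466_468 c) (Nat.ble 466 c)
noncomputable def Ptab_s_463_468 (c : Nat) : Nat := @Bool.rec (fun _ => Nat) (Ptab_s_463_465 c) (Ptab_s_465_468 c) (Nat.ble 465 c)
noncomputable def Ptab_s_459_468 (c : Nat) : Nat := @Bool.rec (fun _ => Nat) (Ptab_s_459_463 c) (Ptab_s_463_468 c) (Nat.ble 463 c)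
noncomputable def Ptab_s_450_468 (c : Nat) : Nat := @Bool.rec (fun _ => Nat) (Ptab_s_450_459 c) (Ptab_s_459_468 c) (Nat.ble 459 c)
noncomputable def Ptab_s_468_470 (c : Nat) : Nat := @Bool.rec (fun _ => Nat) (Ptab_468) (Ptab_469) (Nat.ble 469 c)
noncomputable def Ptab_s_470_472 (c : Nat) : Nat := @Bool.rec (fun _ => Nat) (Ptab_470) (Ptab_471) (Nat.ble 471 c)
noncomputable def Ptab_s_468_472 (c : Nat) : Nat := @Bool.rec (fun _ => Nat) (Ptab_s_468_470 c) (Ptab_s_470_472 c) (Nat.ble 470 c)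
noncomputable def Ptab_s_472_474 (c : Nat) : Nat := @Bool.rec (fun _ => Nat) (Ptab_472) (Ptab_473) (Nat.ble 473 c)
noncomputable def Ptab_s_475_477 (c : Nat) : Nat := @Bool.rec (fun _ => Nat) (Ptab_475) (Ptab_476) (Nat.ble 476 c)
noncomputable def Ptab_s_474_477 (c : Nat) : Nat := @Bool.rec (fun _ => Nat) (Ptab_474) (Ptab_s_475_477 c) (Nat.ble 475 c)
noncomputable def Ptab_s_472_477 (c : Nat) : Nat := @Bool.rec (fun _ => Nat) (Ptab_s_472_474 c) (Ptab_s_474_477 c) (Nat.ble 474 c)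
noncomputable def Ptab_s_468_477 (c : Nat) : Nat := @Bool.rec (fun _ => Nat) (Ptab_s_468_472 c) (Ptab_s_472_477 c) (Nat.ble 472 c)
noncomputable def Ptab_s_477_479 (c : Nat) : Nat := @Bool.rec (fun _ => Nat) (Ptab_477) (Ptab_478) (Nat.ble 478 c)
noncomputable def Ptab_s_480_482 (c : Nat) : Nat := @Bool.rec (fun _ => Nat) (Ptab_480) (Ptab_481) (Nat.ble 481 c)
noncomputable def Ptab_s_479_482 (c : Nat) : Nat := @Bool.rec (fun _ => Nat) (Ptab_479) (Ptab_s_480_482 c) (Nat.ble 480 c)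
noncomputable def Ptab_s_477_482 (c : Nat) : Nat := @Bool.rec (fun _ => Nat) (Ptab_s_477_479 c) (Ptab_s_479_482 c) (Nat.ble 479 c)
noncomputable def Ptab_s_482_484 (c : Nat) : Nat := @Bool.rec (fun _ => Nat) (Ptab_482) (Ptab_483) (Nat.ble 483 c)
noncomputable def Ptab_s_485_487 (c : Nat) : Nat := @Bool.rec (fun _ => Nat) (Ptab_485) (Ptab_486) (Nat.ble 486 c)
noncomputable def Ptab_s_484_487 (c : Nat) : Nat := @Bool.rec (fun _ => Nat) (Ptab_484) (Ptab_s_485_487 c) (Nat.ble 485 c)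
noncomputable def Ptab_s_482_487 (c : Nat) : Nat := @Bool.rec (fun _ => Nat) (Ptab_s_482_484 c) (Ptab_s_484_487 c) (Nat.ble 484 c)
noncomputable def Ptab_s_477_487 (c : Nat) : Nat := @Bool.rec (fun _ => Nat) (Ptab_s_477_482 c) (Ptab_s_482_487 c) (Nat.ble 482 c)
noncomputable def Ptab_s_468_487 (c : Nat) : Nat := @Bool.rec (fun _ => Nat) (Ptab_s_468_477 c) (Ptab_s_477_487 c) (Nat.ble 477 c)
noncomputable def Ptab_s_450_487 (c : Nat) : Nat := @Bool.rec (fun _ => Nat) (Ptab_s_450_468 c) (Ptab_s_468_487 c) (Nat.ble 468 c)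
noncomputable def Ptab_s_487_489 (c : Nat) : Nat := @Bool.rec (fun _ => Nat) (Ptab_487) (Ptab_488) (Nat.ble 488 c)
noncomputable def Ptab_s_489_491 (c : Nat) : Nat := @Bool.rec (fun _ => Nat) (Ptab_489) (Ptab_490) (Nat.ble 490 c)
noncomputable def Ptab_s_487_491 (c : Nat) : Nat := @Bool.rec (fun _ => Nat) (Ptab_s_487_489 c) (Ptab_s_489_491 c) (Nat.ble 489 c)
noncomputable def Ptab_s_491_493 (c : Nat) : Nat := @Bool.rec (fun _ => Nat) (Ptab_491) (Ptab_492) (Nat.ble 492 c)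
noncomputable def Ptab_s_494_496 (c : Nat) : Nat := @Bool.rec (fun _ => Nat) (Ptab_494) (Ptab_495) (Nat.ble 495 c)
noncomputable def Ptab_s_493_496 (c : Nat) : Nat := @Bool.rec (fun _ => Nat) (Ptab_493) (Ptab_s_494_496 c) (Nat.ble 494 c)
noncomputable def Ptab_s_491_496 (c : Nat) : Nat := @Bool.rec (fun _ => Nat) (Ptab_s_491_493 c) (Ptab_s_493_496 c) (Nat.ble 493 c)
noncomputable def Ptab_s_487_496 (c : Nat) : Nat := @Bool.rec (fun _ => Nat) (Ptab_s_487_491 c) (Ptab_s_491_496 c) (Nat.ble 491 c)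
noncomputable def Ptab_s_496_498 (c : Nat) : Nat := @Bool.rec (fun _ => Nat) (Ptab_496) (Ptab_497) (Nat.ble 497 c)
noncomputable def Ptab_s_499_501 (c : Nat) : Nat := @Bool.rec (fun _ => Nat) (Ptab_499) (Ptab_500) (Nat.ble 500 c)
noncomputable def Ptab_s_498_501 (c : Nat) : Nat := @Bool.rec (fun _ => Nat) (Ptab_498) (Ptab_s_499_501 c) (Nat.ble 499 c)
noncomputable def Ptab_s_496_501 (c : Nat) : Nat := @Bool.rec (fun _ => Nat) (Ptab_s_496_498 c) (Ptab_s_498_501 c) (Nat.ble 498 c)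
noncomputable def Ptab_s_501_503 (c : Nat) : Nat := @Bool.rec (fun _ => Nat) (Ptab_501) (Ptab_502) (Nat.ble 502 c)
noncomputable def Ptab_s_504_506 (c : Nat) : Nat := @Bool.rec (fun _ => Nat) (Ptab_504) (Ptab_505) (Nat.ble 505 c)
noncomputable def Ptab_s_503_506 (c : Nat) : Nat := @Bool.rec (fun _ => Nat) (Ptab_503) (Ptab_s_504_506 c) (Nat.ble 504 c)
noncomputable def Ptab_s_501_506 (c : Nat) : Nat := @Bool.rec (fun _ => Nat) (Ptab_s_501_503 c) (Ptab_s_503_506 c) (Nat.ble 503 c)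
noncomputable def Ptab_s_496_506 (c : Nat) : Nat := @Bool.rec (fun _ => Nat) (Ptab_s_496_501 c) (Ptab_s_501_506 c) (Nat.ble 501 c)
noncomputable def Ptab_s_487_506 (c : Nat) : Nat := @Bool.rec (fun _ => Nat) (Ptab_s_487_496 c) (Ptab_s_496_506 c) (Nat.ble 496 c)
noncomputable def Ptab_s_506_508 (c : Nat) : Nat := @Bool.rec (fun _ => Nat) (Ptab_506) (Ptab_507) (Nat.ble 507 c)
noncomputable def Ptab_s_508_510 (c : Nat) : Nat := @Bool.rec (fun _ => Nat) (Ptab_508) (Ptab_509) (Nat.ble 509 c)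
noncomputable def Ptab_s_506_510 (c : Nat) : Nat := @Bool.rec (fun _ => Nat) (Ptab_s_506_508 c) (Ptab_s_508_510 c) (Nat.ble 508 c)
noncomputable def Ptab_s_510_512 (c : Nat) : Nat := @Bool.rec (fun _ => Nat) (Ptab_510) (Ptab_511) (Nat.ble 511 c)
noncomputable def Ptab_s_513_515 (c : Nat) : Nat := @Bool.rec (fun _ => Nat) (Ptab_513) (Ptab_514) (Nat.ble 514 c)
noncomputable def Ptab_s_512_515 (c : Nat) : Nat := @Bool.rec (fun _ => Nat) (Ptab_512) (Ptab_s_513_515 c) (Nat.ble 513 c)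
noncomputable def Ptab_s_510_515 (c : Nat) : Nat := @Bool.rec (fun _ => Nat) (Ptab_s_510_512 c) (Ptab_s_512_515 c) (Nat.ble 512 c)
noncomputable def Ptab_s_506_515 (c : Nat) : Nat := @Bool.rec (fun _ => Nat) (Ptab_s_506_510 c) (Ptab_s_510_515 c) (Nat.ble 510 c)
noncomputable def Ptab_s_515_517 (c : Nat) : Nat := @Bool.rec (fun _ => Nat) (Ptab_515) (Ptab_516) (Nat.ble 516 c)
noncomputable def Ptab_s_518_520 (c : Nat) : Nat := @Bool.rec (fun _ => Nat) (Ptab_518) (Ptab_519) (Nat.ble 519 c)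
noncomputable def Ptab_s_517_520 (c : Nat) : Nat := @Bool.rec (fun _ => Nat) (Ptab_517) (Ptab_s_518_520 c) (Nat.ble 518 c)
noncomputable def Ptab_s_515_520 (c : Nat) : Nat := @Bool.rec (fun _ => Nat) (Ptab_s_515_517 c) (Ptab_s_517_520 c) (Nat.ble 517 c)
noncomputable def Ptab_s_520_522 (c : Nat) : Nat := @Bool.rec (fun _ => Nat) (Ptab_520) (Ptab_521) (Nat.ble 521 c)
noncomputable def Ptab_s_523_525 (c : Nat) : Nat := @Bool.rec (fun _ => Nat) (Ptab_523) (Ptab_524) (Nat.ble 524 c)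
noncomputable def Ptab_s_522_525 (c : Nat) : Nat := @Bool.rec (fun _ => Nat) (Ptab_522) (Ptab_s_523_525 c) (Nat.ble 523 c)
noncomputable def Ptab_s_520_525 (c : Nat) : Nat := @Bool.rec (fun _ => Nat) (Ptab_s_520_522 c) (Ptab_s_522_525 c) (Nat.ble 522 c)
noncomputable def Ptab_s_515_525 (c : Nat) : Nat := @Bool.rec (fun _ => Nat) (Ptab_s_515_520 c) (Ptab_s_520_525 c) (Nat.ble 520 c)
noncomputable def Ptab_s_506_525 (c : Nat) : Nat := @Bool.rec (fun _ => Nat) (Ptab_s_506_515 c) (Ptab_s_515_525 c) (Nat.ble 515 c)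
noncomputable def Ptab_s_487_525 (c : Nat) : Nat := @Bool.rec (fun _ => Nat) (Ptab_s_487_506 c) (Ptab_s_506_525 c) (Nat.ble 506 c)
noncomputable def Ptab_s_450_525 (c : Nat) : Nat := @Bool.rec (fun _ => Nat) (Ptab_s_450_487 c) (Ptab_s_487_525 c) (Nat.ble 487 c)
noncomputable def Ptab_s_525_527 (c : Nat) : Nat := @Bool.rec (fun _ => Nat) (Ptab_525) (Ptab_526) (Nat.ble 526 c)
noncomputable def Ptab_s_527_529 (c : Nat) : Nat := @Bool.rec (fun _ => Nat) (Ptab_527) (Ptab_528) (Nat.ble 528 c)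
noncomputable def Ptab_s_525_529 (c : Nat) : Nat := @Bool.rec (fun _ => Nat) (Ptab_s_525_527 c) (Ptab_s_527_529 c) (Nat.ble 527 c)
noncomputable def Ptab_s_529_531 (c : Nat) : Nat := @Bool.rec (fun _ => Nat) (Ptab_529) (Ptab_530) (Nat.ble 530 c)
noncomputable def Ptab_s_532_534 (c : Nat) : Nat := @Bool.rec (fun _ => Nat) (Ptab_532) (Ptab_533) (Nat.ble 533 c)
noncomputable def Ptab_s_531_534 (c : Nat) : Nat := @Bool.rec (fun _ => Nat) (Ptab_531) (Ptab_s_532_534 c) (Nat.ble 532 c)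
noncomputable def Ptab_s_529_534 (c : Nat) : Nat := @Bool.rec (fun _ => Nat) (Ptab_s_529_531 c) (Ptab_s_531_534 c) (Nat.ble 531 c)
noncomputable def Ptab_s_525_534 (c : Nat) : Nat := @Bool.rec (fun _ => Nat) (Ptab_s_525_529 c) (Ptab_s_529_534 c) (Nat.ble 529 c)
noncomputable def Ptab_s_534_536 (c : Nat) : Nat := @Bool.rec (fun _ => Nat) (Ptab_534) (Ptab_535) (Nat.ble 535 c)
noncomputable def Ptab_s_536_538 (c : Nat) : Nat := @Bool.rec (fun _ => Nat) (Ptab_536) (Ptab_537) (Nat.ble 537 c)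
noncomputable def Ptab_s_534_538 (c : Nat) : Nat := @Bool.rec (fun _ => Nat) (Ptab_s_534_536 c) (Ptab_s_536_538 c) (Nat.ble 536 c)
noncomputable def Ptab_s_538_540 (c : Nat) : Nat := @Bool.rec (fun _ => Nat) (Ptab_538) (Ptab_539) (Nat.ble 539 c)
noncomputable def Ptab_s_541_543 (c : Nat) : Nat := @Bool.rec (fun _ => Nat) (Ptab_541) (Ptab_542) (Nat.ble 542 c)
noncomputable def Ptab_s_540_543 (c : Nat) : Nat := @Bool.rec (fun _ => Nat) (Ptab_540) (Ptab_s_541_543 c) (Nat.ble 541 c)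
noncomputable def Ptab_s_538_543 (c : Nat) : Nat := @Bool.rec (fun _ => Nat) (Ptab_s_538_540 c) (Ptab_s_540_543 c) (Nat.ble 540 c)
noncomputable def Ptab_s_534_543 (c : Nat) : Nat := @Bool.rec (fun _ => Nat) (Ptab_s_534_538 c) (Ptab_s_538_543 c) (Nat.ble 538 c)
noncomputable def Ptab_s_525_543 (c : Nat) : Nat := @Bool.rec (fun _ => Nat) (Ptab_s_525_534 c) (Ptab_s_534_543 c) (Nat.ble 534 c)
noncomputable def Ptab_s_543_545 (c : Nat) : Nat := @Bool.rec (fun _ => Nat) (Ptab_543) (Ptab_544) (Nat.ble 544 c)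
noncomputable def Ptab_s_545_547 (c : Nat) : Nat := @Bool.rec (fun _ => Nat) (Ptab_545) (Ptab_546) (Nat.ble 546 c)
noncomputable def Ptab_s_543_547 (c : Nat) : Nat := @Bool.rec (fun _ => Nat) (Ptab_s_543_545 c) (Ptab_s_545_547 c) (Nat.ble 545 c)
noncomputable def Ptab_s_547_549 (c : Nat) : Nat := @Bool.rec (fun _ => Nat) (Ptab_547) (Ptab_548) (Nat.ble 548 c)
noncomputable def Ptab_s_550_552 (c : Nat) : Nat := @Bool.rec (fun _ => Nat) (Ptab_550) (Ptab_551) (Nat.ble 551 c)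
noncomputable def Ptab_s_549_552 (c : Nat) : Nat := @Bool.rec (fun _ => Nat) (Ptab_549) (Ptab_s_550_552 c) (Nat.ble 550 c)
noncomputable def Ptab_s_547_552 (c : Nat) : Nat := @Bool.rec (fun _ => Nat) (Ptab_s_547_549 c) (Ptab_s_549_552 c) (Nat.ble 549 c)
noncomputable def Ptab_s_543_552 (c : Nat) : Nat := @Bool.rec (fun _ => Nat) (Ptab_s_543_547 c) (Ptab_s_547_552 c) (Nat.ble 547 c)
noncomputable def Ptab_s_552_554 (c : Nat) : Nat := @Bool.rec (fun _ => Nat) (Ptab_552) (Ptab_553) (Nat.ble 553 c)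
noncomputable def Ptab_s_555_557 (c : Nat) : Nat := @Bool.rec (fun _ => Nat) (Ptab_555) (Ptab_556) (Nat.ble 556 c)
noncomputable def Ptab_s_554_557 (c : Nat) : Nat := @Bool.rec (fun _ => Nat) (Ptab_554) (Ptab_s_555_557 c) (Nat.ble 555 c)
noncomputable def Ptab_s_552_557 (c : Nat) : Nat := @Bool.rec (fun _ => Nat) (Ptab_s_552_554 c) (Ptab_s_554_557 c) (Nat.ble 554 c)
noncomputable def Ptab_s_557_559 (c : Nat) : Nat := @Bool.rec (fun _ => Nat) (Ptab_557) (Ptab_558) (Nat.ble 558 c)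
noncomputable def Ptab_s_560_562 (c : Nat) : Nat := @Bool.rec (fun _ => Nat) (Ptab_560) (Ptab_561) (Nat.ble 561 c)
noncomputable def Ptab_s_559_562 (c : Nat) : Nat := @Bool.rec (fun _ => Nat) (Ptab_559) (Ptab_s_560_562 c) (Nat.ble 560 c)
noncomputable def Ptab_s_557_562 (c : Nat) : Nat := @Bool.rec (fun _ => Nat) (Ptab_s_557_559 c) (Ptab_s_559_562 c) (Nat.ble 559 c)
noncomputable def Ptab_s_552_562 (c : Nat) : Nat := @Bool.rec (fun _ => Nat) (Ptab_s_552_557 c) (Ptab_s_557_562 c) (Nat.ble 557 c)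
noncomputable def Ptab_s_543_562 (c : Nat) : Nat := @Bool.rec (fun _ => Nat) (Ptab_s_543_552 c) (Ptab_s_552_562 c) (Nat.ble 552 c)
noncomputable def Ptab_s_525_562 (c : Nat) : Nat := @Bool.rec (fun _ => Nat) (Ptab_s_525_543 c) (Ptab_s_543_562 c) (Nat.ble 543 c)
noncomputable def Ptab_s_562_564 (c : Nat) : Nat := @Bool.rec (fun _ => Nat) (Ptab_562) (Ptab_563) (Nat.ble 563 c)
noncomputable def Ptab_s_564_566 (c : Nat) : Nat := @Bool.rec (fun _ => Nat) (Ptab_564) (Ptab_565) (Nat.ble 565 c)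
noncomputable def Ptab_s_562_566 (c : Nat) : Nat := @Bool.rec (fun _ => Nat) (Ptab_s_562_564 c) (Ptab_s_564_566 c) (Nat.ble 564 c)
noncomputable def Ptab_s_566_568 (c : Nat) : Nat := @Bool.rec (fun _ => Nat) (Ptab_566) (Ptab_567) (Nat.ble 567 c)
noncomputable def Ptab_s_569_571 (c : Nat) : Nat := @Bool.rec (fun _ => Nat) (Ptab_569) (Ptab_570) (Nat.ble 570 c)
noncomputable def Ptab_s_568_571 (c : Nat) : Nat := @Bool.rec (fun _ => Nat) (Ptab_568) (Ptab_s_569_571 c) (Nat.ble 569 c)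
noncomputable def Ptab_s_566_571 (c : Nat) : Nat := @Bool.rec (fun _ => Nat) (Ptab_s_566_568 c) (Ptab_s_568_571 c) (Nat.ble 568 c)
noncomputable def Ptab_s_562_571 (c : Nat) : Nat := @Bool.rec (fun _ => Nat) (Ptab_s_562_566 c) (Ptab_s_566_571 c) (Nat.ble 566 c)
noncomputable def Ptab_s_571_573 (c : Nat) : Nat := @Bool.rec (fun _ => Nat) (Ptab_571) (Ptab_572) (Nat.ble 572 c)
noncomputable def Ptab_s_574_576 (c : Nat) : Nat := @Bool.rec (fun _ => Nat) (Ptab_574) (Ptab_575) (Nat.ble 575 c)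
noncomputable def Ptab_s_573_576 (c : Nat) : Nat := @Bool.rec (fun _ => Nat) (Ptab_573) (Ptab_s_574_576 c) (Nat.ble 574 c)
noncomputable def Ptab_s_571_576 (c : Nat) : Nat := @Bool.rec (fun _ => Nat) (Ptab_s_571_573 c) (Ptab_s_573_576 c) (Nat.ble 573 c)
noncomputable def Ptab_s_576_578 (c : Nat) : Nat := @Bool.rec (fun _ => Nat) (Ptab_576) (Ptab_577) (Nat.ble 577 c)
noncomputable def Ptab_s_579_581 (c : Nat) : Nat := @Bool.rec (fun _ => Nat) (Ptab_579) (Ptab_580) (Nat.ble 580 c)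
noncomputable def Ptab_s_578_581 (c : Nat) : Nat := @Bool.rec (fun _ => Nat) (Ptab_578) (Ptab_s_579_581 c) (Nat.ble 579 c)
noncomputable def Ptab_s_576_581 (c : Nat) : Nat := @Bool.rec (fun _ => Nat) (Ptab_s_576_578 c) (Ptab_s_578_581 c) (Nat.ble 578 c)
noncomputable def Ptab_s_571_581 (c : Nat) : Nat := @Bool.rec (fun _ => Nat) (Ptab_s_571_576 c) (Ptab_s_576_581 c) (Nat.ble 576 c)
noncomputable def Ptab_s_562_581 (c : Nat) : Nat := @Bool.rec (fun _ => Nat) (Ptab_s_562_571 c) (Ptab_s_571_581 c) (Nat.ble 571 c)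
noncomputable def Ptab_s_581_583 (c : Nat) : Nat := @Bool.rec (fun _ => Nat) (Ptab_581) (Ptab_582) (Nat.ble 582 c)
noncomputable def Ptab_s_583_585 (c : Nat) : Nat := @Bool.rec (fun _ => Nat) (Ptab_583) (Ptab_584) (Nat.ble 584 c)
noncomputable def Ptab_s_581_585 (c : Nat) : Nat := @Bool.rec (fun _ => Nat) (Ptab_s_581_583 c) (Ptab_s_583_585 c) (Nat.ble 583 c)
noncomputable def Ptab_s_585_587 (c : Nat) : Nat := @Bool.rec (fun _ => Nat) (Ptab_585) (Ptab_586) (Nat.ble 586 c)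
noncomputable def Ptab_s_588_590 (c : Nat) : Nat := @Bool.rec (fun _ => Nat) (Ptab_588) (Ptab_589) (Nat.ble 589 c)
noncomputable def Ptab_s_587_590 (c : Nat) : Nat := @Bool.rec (fun _ => Nat) (Ptab_587) (Ptab_s_588_590 c) (Nat.ble 588 c)
noncomputable def Ptab_s_585_590 (c : Nat) : Nat := @Bool.rec (fun _ => Nat) (Ptab_s_585_587 c) (Ptab_s_587_590 c) (Nat.ble 587 c)
noncomputable def Ptab_s_581_590 (c : Nat) : Nat := @Bool.rec (fun _ => Nat) (Ptab_s_581_585 c) (Ptab_s_585_590 c) (Nat.ble 585 c)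
noncomputable def Ptab_s_590_592 (c : Nat) : Nat := @Bool.rec (fun _ => Nat) (Ptab_590) (Ptab_591) (Nat.ble 591 c)
noncomputable def Ptab_s_593_595 (c : Nat) : Nat := @Bool.rec (fun _ => Nat) (Ptab_593) (Ptab_594) (Nat.ble 594 c)
noncomputable def Ptab_s_592_595 (c : Nat) : Nat := @Bool.rec (fun _ => Nat) (Ptab_592) (Ptab_s_593_595 c) (Nat.ble 593 c)
noncomputable def Ptab_s_590_595 (c : Nat) : Nat := @Bool.rec (fun _ => Nat) (Ptab_s_590_592 c) (Ptab_s_592_595 c) (Nat.ble 592 c)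
noncomputable def Ptab_s_595_597 (c : Nat) : Nat := @Bool.rec (fun _ => Nat) (Ptab_595) (Ptab_596) (Nat.ble 596 c)
noncomputable def Ptab_s_598_600 (c : Nat) : Nat := @Bool.rec (fun _ => Nat) (Ptab_598) (Ptab_599) (Nat.ble 599 c)
noncomputable def Ptab_s_597_600 (c : Nat) : Nat := @Bool.rec (fun _ => Nat) (Ptab_597) (Ptab_s_598_600 c) (Nat.ble 598 c)
noncomputable def Ptab_s_595_600 (c : Nat) : Nat := @Bool.rec (fun _ => Nat) (Ptab_s_595_597 c) (Ptab_s_597_600 c) (Nat.ble 597 c)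
noncomputable def Ptab_s_590_600 (c : Nat) : Nat := @Bool.rec (fun _ => Nat) (Ptab_s_590_595 c) (Ptab_s_595_600 c) (Nat.ble 595 c)
noncomputable def Ptab_s_581_600 (c : Nat) : Nat := @Bool.rec (fun _ => Nat) (Ptab_s_581_590 c) (Ptab_s_590_600 c) (Nat.ble 590 c)
noncomputable def Ptab_s_562_600 (c : Nat) : Nat := @Bool.rec (fun _ => Nat) (Ptab_s_562_581 c) (Ptab_s_581_600 c) (Nat.ble 581 c)
noncomputable def Ptab_s_525_600 (c : Nat) : Nat := @Bool.rec (fun _ => Nat) (Ptab_s_525_562 c) (Ptab_s_562_600 c) (Nat.ble 562 c)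
noncomputable def Ptab_s_450_600 (c : Nat) : Nat := @Bool.rec (fun _ => Nat) (Ptab_s_450_525 c) (Ptab_s_525_600 c) (Nat.ble 525 c)
noncomputable def Ptab_s_300_600 (c : Nat) : Nat := @Bool.rec (fun _ => Nat) (Ptab_s_300_450 c) (Ptab_s_450_600 c) (Nat.ble 450 c)
noncomputable def Ptab_s_0_600 (c : Nat) : Nat := @Bool.rec (fun _ => Nat) (Ptab_s_0_300 c) (Ptab_s_300_600 c) (Nat.ble 300 c)
noncomputable def Ptab_s_600_602 (c : Nat) : Nat := @Bool.rec (fun _ => Nat) (Ptab_600) (Ptab_601) (Nat.ble 601 c)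
noncomputable def Ptab_s_602_604 (c : Nat) : Nat := @Bool.rec (fun _ => Nat) (Ptab_602) (Ptab_603) (Nat.ble 603 c)
noncomputable def Ptab_s_600_604 (c : Nat) : Nat := @Bool.rec (fun _ => Nat) (Ptab_s_600_602 c) (Ptab_s_602_604 c) (Nat.ble 602 c)
noncomputable def Ptab_s_604_606 (c : Nat) : Nat := @Bool.rec (fun _ => Nat) (Ptab_604) (Ptab_605) (Nat.ble 605 c)
noncomputable def Ptab_s_607_609 (c : Nat) : Nat := @Bool.rec (fun _ => Nat) (Ptab_607) (Ptab_608) (Nat.ble 608 c)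
noncomputable def Ptab_s_606_609 (c : Nat) : Nat := @Bool.rec (fun _ => Nat) (Ptab_606) (Ptab_s_607_609 c) (Nat.ble 607 c)
noncomputable def Ptab_s_604_609 (c : Nat) : Nat := @Bool.rec (fun _ => Nat) (Ptab_s_604_606 c) (Ptab_s_606_609 c) (Nat.ble 606 c)
noncomputable def Ptab_s_600_609 (c : Nat) : Nat := @Bool.rec (fun _ => Nat) (Ptab_s_600_604 c) (Ptab_s_604_609 c) (Nat.ble 604 c)
noncomputable def Ptab_s_609_611 (c : Nat) : Nat := @Bool.rec (fun _ => Nat) (Ptab_609) (Ptab_610) (Nat.ble 610 c)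
noncomputable def Ptab_s_611_613 (c : Nat) : Nat := @Bool.rec (fun _ => Nat) (Ptab_611) (Ptab_612) (Nat.ble 612 c)
noncomputable def Ptab_s_609_613 (c : Nat) : Nat := @Bool.rec (fun _ => Nat) (Ptab_s_609_611 c) (Ptab_s_611_613 c) (Nat.ble 611 c)
noncomputable def Ptab_s_613_615 (c : Nat) : Nat := @Bool.rec (fun _ => Nat) (Ptab_613) (Ptab_614) (Nat.ble 614 c)
noncomputable def Ptab_s_616_618 (c : Nat) : Nat := @Bool.rec (fun _ => Nat) (Ptab_616) (Ptab_617) (Nat.ble 617 c)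
noncomputable def Ptab_s_615_618 (c : Nat) : Nat := @Bool.rec (fun _ => Nat) (Ptab_615) (Ptab_s_616_618 c) (Nat.ble 616 c)
noncomputable def Ptab_s_613_618 (c : Nat) : Nat := @Bool.rec (fun _ => Nat) (Ptab_s_613_615 c) (Ptab_s_615_618 c) (Nat.ble 615 c)
noncomputable def Ptab_s_609_618 (c : Nat) : Nat := @Bool.rec (fun _ => Nat) (Ptab_s_609_613 c) (Ptab_s_613_618 c) (Nat.ble 613 c)
noncomputable def Ptab_s_600_618 (c : Nat) : Nat := @Bool.rec (fun _ => Nat) (Ptab_s_600_609 c) (Ptab_s_609_618 c) (Nat.ble 609 c)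
noncomputable def Ptab_s_618_620 (c : Nat) : Nat := @Bool.rec (fun _ => Nat) (Ptab_618) (Ptab_619) (Nat.ble 619 c)
noncomputable def Ptab_s_620_622 (c : Nat) : Nat := @Bool.rec (fun _ => Nat) (Ptab_620) (Ptab_621) (Nat.ble 621 c)
noncomputable def Ptab_s_618_622 (c : Nat) : Nat := @Bool.rec (fun _ => Nat) (Ptab_s_618_620 c) (Ptab_s_620_622 c) (Nat.ble 620 c)
noncomputable def Ptab_s_622_624 (c : Nat) : Nat := @Bool.rec (fun _ => Nat) (Ptab_622) (Ptab_623) (Nat.ble 623 c)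
noncomputable def Ptab_s_625_627 (c : Nat) : Nat := @Bool.rec (fun _ => Nat) (Ptab_625) (Ptab_626) (Nat.ble 626 c)
noncomputable def Ptab_s_624_627 (c : Nat) : Nat := @Bool.rec (fun _ => Nat) (Ptab_624) (Ptab_s_625_627 c) (Nat.ble 625 c)
noncomputable def Ptab_s_622_627 (c : Nat) : Nat := @Bool.rec (fun _ => Nat) (Ptab_s_622_624 c) (Ptab_s_624_627 c) (Nat.ble 624 c)
noncomputable def Ptab_s_618_627 (c : Nat) : Nat := @Bool.rec (fun _ => Nat) (Ptab_s_618_622 c) (Ptab_s_622_627 c) (Nat.ble 622 c)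
noncomputable def Ptab_s_627_629 (c : Nat) : Nat := @Bool.rec (fun _ => Nat) (Ptab_627) (Ptab_628) (Nat.ble 628 c)
noncomputable def Ptab_s_630_632 (c : Nat) : Nat := @Bool.rec (fun _ => Nat) (Ptab_630) (Ptab_631) (Nat.ble 631 c)
noncomputable def Ptab_s_629_632 (c : Nat) : Nat := @Bool.rec (fun _ => Nat) (Ptab_629) (Ptab_s_630_632 c) (Nat.ble 630 c)
noncomputable def Ptab_s_627_632 (c : Nat) : Nat := @Bool.rec (fun _ => Nat) (Ptab_s_627_629 c) (Ptab_s_629_632 c) (Nat.ble 629 c)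
noncomputable def Ptab_s_632_634 (c : Nat) : Nat := @Bool.rec (fun _ => Nat) (Ptab_632) (Ptab_633) (Nat.ble 633 c)
noncomputable def Ptab_s_635_637 (c : Nat) : Nat := @Bool.rec (fun _ => Nat) (Ptab_635) (Ptab_636) (Nat.ble 636 c)
noncomputable def Ptab_s_634_637 (c : Nat) : Nat := @Bool.rec (fun _ => Nat) (Ptab_634) (Ptab_s_635_637 c) (Nat.ble 635 c)
noncomputable def Ptab_s_632_637 (c : Nat) : Nat := @Bool.rec (fun _ => Nat) (Ptab_s_632_634 c) (Ptab_s_634_637 c) (Nat.ble 634 c)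
noncomputable def Ptab_s_627_637 (c : Nat) : Nat := @Bool.rec (fun _ => Nat) (Ptab_s_627_632 c) (Ptab_s_632_637 c) (Nat.ble 632 c)
noncomputable def Ptab_s_618_637 (c : Nat) : Nat := @Bool.rec (fun _ => Nat) (Ptab_s_618_627 c) (Ptab_s_627_637 c) (Nat.ble 627 c)
noncomputable def Ptab_s_600_637 (c : Nat) : Nat := @Bool.rec (fun _ => Nat) (Ptab_s_600_618 c) (Ptab_s_618_637 c) (Nat.ble 618 c)
noncomputable def Ptab_s_637_639 (c : Nat) : Nat := @Bool.rec (fun _ => Nat) (Ptab_637) (Ptab_638) (Nat.ble 638 c)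
noncomputable def Ptab_s_639_641 (c : Nat) : Nat := @Bool.rec (fun _ => Nat) (Ptab_639) (Ptab_640) (Nat.ble 640 c)
noncomputable def Ptab_s_637_641 (c : Nat) : Nat := @Bool.rec (fun _ => Nat) (Ptab_s_637_639 c) (Ptab_s_639_641 c) (Nat.ble 639 c)
noncomputable def Ptab_s_641_643 (c : Nat) : Nat := @Bool.rec (fun _ => Nat) (Ptab_641) (Ptab_642) (Nat.ble 642 c)
noncomputable def Ptab_s_644_646 (c : Nat) : Nat := @Bool.rec (fun _ => Nat) (Ptab_644) (Ptab_645) (Nat.ble 645 c)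
noncomputable def Ptab_s_643_646 (c : Nat) : Nat := @Bool.rec (fun _ => Nat) (Ptab_643) (Ptab_s_644_646 c) (Nat.ble 644 c)
noncomputable def Ptab_s_641_646 (c : Nat) : Nat := @Bool.rec (fun _ => Nat) (Ptab_s_641_643 c) (Ptab_s_643_646 c) (Nat.ble 643 c)
noncomputable def Ptab_s_637_646 (c : Nat) : Nat := @Bool.rec (fun _ => Nat) (Ptab_s_637_641 c) (Ptab_s_641_646 c) (Nat.ble 641 c)
noncomputable def Ptab_s_646_648 (c : Nat) : Nat := @Bool.rec (fun _ => Nat) (Ptab_646) (Ptab_647) (Nat.ble 647 c)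
noncomputable def Ptab_s_649_651 (c : Nat) : Nat := @Bool.rec (fun _ => Nat) (Ptab_649) (Ptab_650) (Nat.ble 650 c)
noncomputable def Ptab_s_648_651 (c : Nat) : Nat := @Bool.rec (fun _ => Nat) (Ptab_648) (Ptab_s_649_651 c) (Nat.ble 649 c)
noncomputable def Ptab_s_646_651 (c : Nat) : Nat := @Bool.rec (fun _ => Nat) (Ptab_s_646_648 c) (Ptab_s_648_651 c) (Nat.ble 648 c)
noncomputable def Ptab_s_651_653 (c : Nat) : Nat := @Bool.rec (fun _ => Nat) (Ptab_651) (Ptab_652) (Nat.ble 652 c)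
noncomputable def Ptab_s_654_656 (c : Nat) : Nat := @Bool.rec (fun _ => Nat) (Ptab_654) (Ptab_655) (Nat.ble 655 c)
noncomputable def Ptab_s_653_656 (c : Nat) : Nat := @Bool.rec (fun _ => Nat) (Ptab_653) (Ptab_s_654_656 c) (Nat.ble 654 c)
noncomputable def Ptab_s_651_656 (c : Nat) : Nat := @Bool.rec (fun _ => Nat) (Ptab_s_651_653 c) (Ptab_s_653_656 c) (Nat.ble 653 c)
noncomputable def Ptab_s_646_656 (c : Nat) : Nat := @Bool.rec (fun _ => Nat) (Ptab_s_646_651 c) (Ptab_s_651_656 c) (Nat.ble 651 c)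
noncomputable def Ptab_s_637_656 (c : Nat) : Nat := @Bool.rec (fun _ => Nat) (Ptab_s_637_646 c) (Ptab_s_646_656 c) (Nat.ble 646 c)
noncomputable def Ptab_s_656_658 (c : Nat) : Nat := @Bool.rec (fun _ => Nat) (Ptab_656) (Ptab_657) (Nat.ble 657 c)
noncomputable def Ptab_s_658_660 (c : Nat) : Nat := @Bool.rec (fun _ => Nat) (Ptab_658) (Ptab_659) (Nat.ble 659 c)
noncomputable def Ptab_s_656_660 (c : Nat) : Nat := @Bool.rec (fun _ => Nat) (Ptab_s_656_658 c) (Ptab_s_658_660 c) (Nat.ble 658 c)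
noncomputable def Ptab_s_660_662 (c : Nat) : Nat := @Bool.rec (fun _ => Nat) (Ptab_660) (Ptab_661) (Nat.ble 661 c)
noncomputable def Ptab_s_663_665 (c : Nat) : Nat := @Bool.rec (fun _ => Nat) (Ptab_663) (Ptab_664) (Nat.ble 664 c)
noncomputable def Ptab_s_662_665 (c : Nat) : Nat := @Bool.rec (fun _ => Nat) (Ptab_662) (Ptab_s_663_665 c) (Nat.ble 663 c)
noncomputable def Ptab_s_660_665 (c : Nat) : Nat := @Bool.rec (fun _ => Nat) (Ptab_s_660_662 c) (Ptab_s_662_665 c) (Nat.ble 662 c)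
noncomputable def Ptab_s_656_665 (c : Nat) : Nat := @Bool.rec (fun _ => Nat) (Ptab_s_656_660 c) (Ptab_s_660_665 c) (Nat.ble 660 c)
noncomputable def Ptab_s_665_667 (c : Nat) : Nat := @Bool.rec (fun _ => Nat) (Ptab_665) (Ptab_666) (Nat.ble 666 c)
noncomputable def Ptab_s_668_670 (c : Nat) : Nat := @Bool.rec (fun _ => Nat) (Ptab_668) (Ptab_669) (Nat.ble 669 c)
noncomputable def Ptab_s_667_670 (c : Nat) : Nat := @Bool.rec (fun _ => Nat) (Ptab_667) (Ptab_s_668_670 c) (Nat.ble 668 c)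
noncomputable def Ptab_s_665_670 (c : Nat) : Nat := @Bool.rec (fun _ => Nat) (Ptab_s_665_667 c) (Ptab_s_667_670 c) (Nat.ble 667 c)
noncomputable def Ptab_s_670_672 (c : Nat) : Nat := @Bool.rec (fun _ => Nat) (Ptab_670) (Ptab_671) (Nat.ble 671 c)
noncomputable def Ptab_s_673_675 (c : Nat) : Nat := @Bool.rec (fun _ => Nat) (Ptab_673) (Ptab_674) (Nat.ble 674 c)
noncomputable def Ptab_s_672_675 (c : Nat) : Nat := @Bool.rec (fun _ => Nat) (Ptab_672) (Ptab_s_673_675 c) (Nat.ble 673 c)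
noncomputable def Ptab_s_670_675 (c : Nat) : Nat := @Bool.rec (fun _ => Nat) (Ptab_s_670_672 c) (Ptab_s_672_675 c) (Nat.ble 672 c)
noncomputable def Ptab_s_665_675 (c : Nat) : Nat := @Bool.rec (fun _ => Nat) (Ptab_s_665_670 c) (Ptab_s_670_675 c) (Nat.ble 670 c)
noncomputable def Ptab_s_656_675 (c : Nat) : Nat := @Bool.rec (fun _ => Nat) (Ptab_s_656_665 c) (Ptab_s_665_675 c) (Nat.ble 665 c)
noncomputable def Ptab_s_637_675 (c : Nat) : Nat := @Bool.rec (fun _ => Nat) (Ptab_s_637_656 c) (Ptab_s_656_675 c) (Nat.ble 656 c)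
noncomputable def Ptab_s_600_675 (c : Nat) : Nat := @Bool.rec (fun _ => Nat) (Ptab_s_600_637 c) (Ptab_s_637_675 c) (Nat.ble 637 c)
noncomputable def Ptab_s_675_677 (c : Nat) : Nat := @Bool.rec (fun _ => Nat) (Ptab_675) (Ptab_676) (Nat.ble 676 c)
noncomputable def Ptab_s_677_679 (c : Nat) : Nat := @Bool.rec (fun _ => Nat) (Ptab_677) (Ptab_678) (Nat.ble 678 c)
noncomputable def Ptab_s_675_679 (c : Nat) : Nat := @Bool.rec (fun _ => Nat) (Ptab_s_675_677 c) (Ptab_s_677_679 c) (Nat.ble 677 c)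
noncomputable def Ptab_s_679_681 (c : Nat) : Nat := @Bool.rec (fun _ => Nat) (Ptab_679) (Ptab_680) (Nat.ble 680 c)
noncomputable def Ptab_s_682_684 (c : Nat) : Nat := @Bool.rec (fun _ => Nat) (Ptab_682) (Ptab_683) (Nat.ble 683 c)
noncomputable def Ptab_s_681_684 (c : Nat) : Nat := @Bool.rec (fun _ => Nat) (Ptab_681) (Ptab_s_682_684 c) (Nat.ble 682 c)
noncomputable def Ptab_s_679_684 (c : Nat) : Nat := @Bool.rec (fun _ => Nat) (Ptab_s_679_681 c) (Ptab_s_681_684 c) (Nat.ble 681 c)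
noncomputable def Ptab_s_675_684 (c : Nat) : Nat := @Bool.rec (fun _ => Nat) (Ptab_s_675_679 c) (Ptab_s_679_684 c) (Nat.ble 679 c)
noncomputable def Ptab_s_684_686 (c : Nat) : Nat := @Bool.rec (fun _ => Nat) (Ptab_684) (Ptab_685) (Nat.ble 685 c)
noncomputable def Ptab_s_686_688 (c : Nat) : Nat := @Bool.rec (fun _ => Nat) (Ptab_686) (Ptab_687) (Nat.ble 687 c)
noncomputable def Ptab_s_684_688 (c : Nat) : Nat := @Bool.rec (fun _ => Nat) (Ptab_s_684_686 c) (Ptab_s_686_688 c) (Nat.ble 686 c)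
noncomputable def Ptab_s_688_690 (c : Nat) : Nat := @Bool.rec (fun _ => Nat) (Ptab_688) (Ptab_689) (Nat.ble 689 c)
noncomputable def Ptab_s_691_693 (c : Nat) : Nat := @Bool.rec (fun _ => Nat) (Ptab_691) (Ptab_692) (Nat.ble 692 c)
noncomputable def Ptab_s_690_693 (c : Nat) : Nat := @Bool.rec (fun _ => Nat) (Ptab_690) (Ptab_s_691_693 c) (Nat.ble 691 c)
noncomputable def Ptab_s_688_693 (c : Nat) : Nat := @Bool.rec (fun _ => Nat) (Ptab_s_688_690 c) (Ptab_s_690_693 c) (Nat.ble 690 c)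
noncomputable def Ptab_s_684_693 (c : Nat) : Nat := @Bool.rec (fun _ => Nat) (Ptab_s_684_688 c) (Ptab_s_688_693 c) (Nat.ble 688 c)
noncomputable def Ptab_s_675_693 (c : Nat) : Nat := @Bool.rec (fun _ => Nat) (Ptab_s_675_684 c) (Ptab_s_684_693 c) (Nat.ble 684 c)
noncomputable def Ptab_s_693_695 (c : Nat) : Nat := @Bool.rec (fun _ => Nat) (Ptab_693) (Ptab_694) (Nat.ble 694 c)
noncomputable def Ptab_s_695_697 (c : Nat) : Nat := @Bool.rec (fun _ => Nat) (Ptab_695) (Ptab_696) (Nat.ble 696 c)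
noncomputable def Ptab_s_693_697 (c : Nat) : Nat := @Bool.rec (fun _ => Nat) (Ptab_s_693_695 c) (Ptab_s_695_697 c) (Nat.ble 695 c)
noncomputable def Ptab_s_697_699 (c : Nat) : Nat := @Bool.rec (fun _ => Nat) (Ptab_697) (Ptab_698) (Nat.ble 698 c)
noncomputable def Ptab_s_700_702 (c : Nat) : Nat := @Bool.rec (fun _ => Nat) (Ptab_700) (Ptab_701) (Nat.ble 701 c)
noncomputable def Ptab_s_699_702 (c : Nat) : Nat := @Bool.rec (fun _ => Nat) (Ptab_699) (Ptab_s_700_702 c) (Nat.ble 700 c)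
noncomputable def Ptab_s_697_702 (c : Nat) : Nat := @Bool.rec (fun _ => Nat) (Ptab_s_697_699 c) (Ptab_s_699_702 c) (Nat.ble 699 c)
noncomputable def Ptab_s_693_702 (c : Nat) : Nat := @Bool.rec (fun _ => Nat) (Ptab_s_693_697 c) (Ptab_s_697_702 c) (Nat.ble 697 c)
noncomputable def Ptab_s_702_704 (c : Nat) : Nat := @Bool.rec (fun _ => Nat) (Ptab_702) (Ptab_703) (Nat.ble 703 c)
noncomputable def Ptab_s_705_707 (c : Nat) : Nat := @Bool.rec (fun _ => Nat) (Ptab_705) (Ptab_706) (Nat.ble 706 c)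
noncomputable def Ptab_s_704_707 (c : Nat) : Nat := @Bool.rec (fun _ => Nat) (Ptab_704) (Ptab_s_705_707 c) (Nat.ble 705 c)
noncomputable def Ptab_s_702_707 (c : Nat) : Nat := @Bool.rec (fun _ => Nat) (Ptab_s_702_704 c) (Ptab_s_704_707 c) (Nat.ble 704 c)
noncomputable def Ptab_s_707_709 (c : Nat) : Nat := @Bool.rec (fun _ => Nat) (Ptab_707) (Ptab_708) (Nat.ble 708 c)
noncomputable def Ptab_s_710_712 (c : Nat) : Nat := @Bool.rec (fun _ => Nat) (Ptab_710) (Ptab_711) (Nat.ble 711 c)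
noncomputable def Ptab_s_709_712 (c : Nat) : Nat := @Bool.rec (fun _ => Nat) (Ptab_709) (Ptab_s_710_712 c) (Nat.ble 710 c)
noncomputable def Ptab_s_707_712 (c : Nat) : Nat := @Bool.rec (fun _ => Nat) (Ptab_s_707_709 c) (Ptab_s_709_712 c) (Nat.ble 709 c)
noncomputable def Ptab_s_702_712 (c : Nat) : Nat := @Bool.rec (fun _ => Nat) (Ptab_s_702_707 c) (Ptab_s_707_712 c) (Nat.ble 707 c)
noncomputable def Ptab_s_693_712 (c : Nat) : Nat := @Bool.rec (fun _ => Nat) (Ptab_s_693_702 c) (Ptab_s_702_712 c) (Nat.ble 702 c)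
noncomputable def Ptab_s_675_712 (c : Nat) : Nat := @Bool.rec (fun _ => Nat) (Ptab_s_675_693 c) (Ptab_s_693_712 c) (Nat.ble 693 c)
noncomputable def Ptab_s_712_714 (c : Nat) : Nat := @Bool.rec (fun _ => Nat) (Ptab_712) (Ptab_713) (Nat.ble 713 c)
noncomputable def Ptab_s_714_716 (c : Nat) : Nat := @Bool.rec (fun _ => Nat) (Ptab_714) (Ptab_715) (Nat.ble 715 c)
noncomputable def Ptab_s_712_716 (c : Nat) : Nat := @Bool.rec (fun _ => Nat) (Ptab_s_712_714 c) (Ptab_s_714_716 c) (Nat.ble 714 c)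
noncomputable def Ptab_s_716_718 (c : Nat) : Nat := @Bool.rec (fun _ => Nat) (Ptab_716) (Ptab_717) (Nat.ble 717 c)
noncomputable def Ptab_s_719_721 (c : Nat) : Nat := @Bool.rec (fun _ => Nat) (Ptab_719) (Ptab_720) (Nat.ble 720 c)
noncomputable def Ptab_s_718_721 (c : Nat) : Nat := @Bool.rec (fun _ => Nat) (Ptab_718) (Ptab_s_719_721 c) (Nat.ble 719 c)
noncomputable def Ptab_s_716_721 (c : Nat) : Nat := @Bool.rec (fun _ => Nat) (Ptab_s_716_718 c) (Ptab_s_718_721 c) (Nat.ble 718 c)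
noncomputable def Ptab_s_712_721 (c : Nat) : Nat := @Bool.rec (fun _ => Nat) (Ptab_s_712_716 c) (Ptab_s_716_721 c) (Nat.ble 716 c)
noncomputable def Ptab_s_721_723 (c : Nat) : Nat := @Bool.rec (fun _ => Nat) (Ptab_721) (Ptab_722) (Nat.ble 722 c)
noncomputable def Ptab_s_724_726 (c : Nat) : Nat := @Bool.rec (fun _ => Nat) (Ptab_724) (Ptab_725) (Nat.ble 725 c)
noncomputable def Ptab_s_723_726 (c : Nat) : Nat := @Bool.rec (fun _ => Nat) (Ptab_723) (Ptab_s_724_726 c) (Nat.ble 724 c)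
noncomputable def Ptab_s_721_726 (c : Nat) : Nat := @Bool.rec (fun _ => Nat) (Ptab_s_721_723 c) (Ptab_s_723_726 c) (Nat.ble 723 c)
noncomputable def Ptab_s_726_728 (c : Nat) : Nat := @Bool.rec (fun _ => Nat) (Ptab_726) (Ptab_727) (Nat.ble 727 c)
noncomputable def Ptab_s_729_731 (c : Nat) : Nat := @Bool.rec (fun _ => Nat) (Ptab_729) (Ptab_730) (Nat.ble 730 c)
noncomputable def Ptab_s_728_731 (c : Nat) : Nat := @Bool.rec (fun _ => Nat) (Ptab_728) (Ptab_s_729_731 c) (Nat.ble 729 c)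
noncomputable def Ptab_s_726_731 (c : Nat) : Nat := @Bool.rec (fun _ => Nat) (Ptab_s_726_728 c) (Ptab_s_728_731 c) (Nat.ble 728 c)
noncomputable def Ptab_s_721_731 (c : Nat) : Nat := @Bool.rec (fun _ => Nat) (Ptab_s_721_726 c) (Ptab_s_726_731 c) (Nat.ble 726 c)
noncomputable def Ptab_s_712_731 (c : Nat) : Nat := @Bool.rec (fun _ => Nat) (Ptab_s_712_721 c) (Ptab_s_721_731 c) (Nat.ble 721 c)
noncomputable def Ptab_s_731_733 (c : Nat) : Nat := @Bool.rec (fun _ => Nat) (Ptab_731) (Ptab_732) (Nat.ble 732 c)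
noncomputable def Ptab_s_733_735 (c : Nat) : Nat := @Bool.rec (fun _ => Nat) (Ptab_733) (Ptab_734) (Nat.ble 734 c)
noncomputable def Ptab_s_731_735 (c : Nat) : Nat := @Bool.rec (fun _ => Nat) (Ptab_s_731_733 c) (Ptab_s_733_735 c) (Nat.ble 733 c)
noncomputable def Ptab_s_735_737 (c : Nat) : Nat := @Bool.rec (fun _ => Nat) (Ptab_735) (Ptab_736) (Nat.ble 736 c)
noncomputable def Ptab_s_738_740 (c : Nat) : Nat := @Bool.rec (fun _ => Nat) (Ptab_738) (Ptab_739) (Nat.ble 739 c)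
noncomputable def Ptab_s_737_740 (c : Nat) : Nat := @Bool.rec (fun _ => Nat) (Ptab_737) (Ptab_s_738_740 c) (Nat.ble 738 c)
noncomputable def Ptab_s_735_740 (c : Nat) : Nat := @Bool.rec (fun _ => Nat) (Ptab_s_735_737 c) (Ptab_s_737_740 c) (Nat.ble 737 c)
noncomputable def Ptab_s_731_740 (c : Nat) : Nat := @Bool.rec (fun _ => Nat) (Ptab_s_731_735 c) (Ptab_s_735_740 c) (Nat.ble 735 c)
noncomputable def Ptab_s_740_742 (c : Nat) : Nat := @Bool.rec (fun _ => Nat) (Ptab_740) (Ptab_741) (Nat.ble 741 c)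
noncomputable def Ptab_s_743_745 (c : Nat) : Nat := @Bool.rec (fun _ => Nat) (Ptab_743) (Ptab_744) (Nat.ble 744 c)
noncomputable def Ptab_s_742_745 (c : Nat) : Nat := @Bool.rec (fun _ => Nat) (Ptab_742) (Ptab_s_743_745 c) (Nat.ble 743 c)
noncomputable def Ptab_s_740_745 (c : Nat) : Nat := @Bool.rec (fun _ => Nat) (Ptab_s_740_742 c) (Ptab_s_742_745 c) (Nat.ble 742 c)
noncomputable def Ptab_s_745_747 (c : Nat) : Nat := @Bool.rec (fun _ => Nat) (Ptab_745) (Ptab_746) (Nat.ble 746 c)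
noncomputable def Ptab_s_748_750 (c : Nat) : Nat := @Bool.rec (fun _ => Nat) (Ptab_748) (Ptab_749) (Nat.ble 749 c)
noncomputable def Ptab_s_747_750 (c : Nat) : Nat := @Bool.rec (fun _ => Nat) (Ptab_747) (Ptab_s_748_750 c) (Nat.ble 748 c)
noncomputable def Ptab_s_745_750 (c : Nat) : Nat := @Bool.rec (fun _ => Nat) (Ptab_s_745_747 c) (Ptab_s_747_750 c) (Nat.ble 747 c)
noncomputable def Ptab_s_740_750 (c : Nat) : Nat := @Bool.rec (fun _ => Nat) (Ptab_s_740_745 c) (Ptab_s_745_750 c) (Nat.ble 745 c)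
noncomputable def Ptab_s_731_750 (c : Nat) : Nat := @Bool.rec (fun _ => Nat) (Ptab_s_731_740 c) (Ptab_s_740_750 c) (Nat.ble 740 c)
noncomputable def Ptab_s_712_750 (c : Nat) : Nat := @Bool.rec (fun _ => Nat) (Ptab_s_712_731 c) (Ptab_s_731_750 c) (Nat.ble 731 c)
noncomputable def Ptab_s_675_750 (c : Nat) : Nat := @Bool.rec (fun _ => Nat) (Ptab_s_675_712 c) (Ptab_s_712_750 c) (Nat.ble 712 c)
noncomputable def Ptab_s_600_750 (c : Nat) : Nat := @Bool.rec (fun _ => Nat) (Ptab_s_600_675 c) (Ptab_s_675_750 c) (Nat.ble 675 c)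
noncomputable def Ptab_s_750_752 (c : Nat) : Nat := @Bool.rec (fun _ => Nat) (Ptab_750) (Ptab_751) (Nat.ble 751 c)
noncomputable def Ptab_s_752_754 (c : Nat) : Nat := @Bool.rec (fun _ => Nat) (Ptab_752) (Ptab_753) (Nat.ble 753 c)
noncomputable def Ptab_s_750_754 (c : Nat) : Nat := @Bool.rec (fun _ => Nat) (Ptab_s_750_752 c) (Ptab_s_752_754 c) (Nat.ble 752 c)
noncomputable def Ptab_s_754_756 (c : Nat) : Nat := @Bool.rec (fun _ => Nat) (Ptab_754) (Ptab_755) (Nat.ble 755 c)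
noncomputable def Ptab_s_757_759 (c : Nat) : Nat := @Bool.rec (fun _ => Nat) (Ptab_757) (Ptab_758) (Nat.ble 758 c)
noncomputable def Ptab_s_756_759 (c : Nat) : Nat := @Bool.rec (fun _ => Nat) (Ptab_756) (Ptab_s_757_759 c) (Nat.ble 757 c)
noncomputable def Ptab_s_754_759 (c : Nat) : Nat := @Bool.rec (fun _ => Nat) (Ptab_s_754_756 c) (Ptab_s_756_759 c) (Nat.ble 756 c)
noncomputable def Ptab_s_750_759 (c : Nat) : Nat := @Bool.rec (fun _ => Nat) (Ptab_s_750_754 c) (Ptab_s_754_759 c) (Nat.ble 754 c)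
noncomputable def Ptab_s_759_761 (c : Nat) : Nat := @Bool.rec (fun _ => Nat) (Ptab_759) (Ptab_760) (Nat.ble 760 c)
noncomputable def Ptab_s_761_763 (c : Nat) : Nat := @Bool.rec (fun _ => Nat) (Ptab_761) (Ptab_762) (Nat.ble 762 c)
noncomputable def Ptab_s_759_763 (c : Nat) : Nat := @Bool.rec (fun _ => Nat) (Ptab_s_759_761 c) (Ptab_s_761_763 c) (Nat.ble 761 c)
noncomputable def Ptab_s_763_765 (c : Nat) : Nat := @Bool.rec (fun _ => Nat) (Ptab_763) (Ptab_764) (Nat.ble 764 c)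
noncomputable def Ptab_s_766_768 (c : Nat) : Nat := @Bool.rec (fun _ => Nat) (Ptab_766) (Ptab_767) (Nat.ble 767 c)
noncomputable def Ptab_s_765_768 (c : Nat) : Nat := @Bool.rec (fun _ => Nat) (Ptab_765) (Ptab_s_766_768 c) (Nat.ble 766 c)
noncomputable def Ptab_s_763_768 (c : Nat) : Nat := @Bool.rec (fun _ => Nat) (Ptab_s_763_765 c) (Ptab_s_765_768 c) (Nat.ble 765 c)
noncomputable def Ptab_s_759_768 (c : Nat) : Nat := @Bool.rec (fun _ => Nat) (Ptab_s_759_763 c) (Ptab_s_763_768 c) (Nat.ble 763 c)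
noncomputable def Ptab_s_750_768 (c : Nat) : Nat := @Bool.rec (fun _ => Nat) (Ptab_s_750_759 c) (Ptab_s_759_768 c) (Nat.ble 759 c)
noncomputable def Ptab_s_768_770 (c : Nat) : Nat := @Bool.rec (fun _ => Nat) (Ptab_768) (Ptab_769) (Nat.ble 769 c)
noncomputable def Ptab_s_770_772 (c : Nat) : Nat := @Bool.rec (fun _ => Nat) (Ptab_770) (Ptab_771) (Nat.ble 771 c)
noncomputable def Ptab_s_768_772 (c : Nat) : Nat := @Bool.rec (fun _ => Nat) (Ptab_s_768_770 c) (Ptab_s_770_772 c) (Nat.ble 770 c)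
noncomputable def Ptab_s_772_774 (c : Nat) : Nat := @Bool.rec (fun _ => Nat) (Ptab_772) (Ptab_773) (Nat.ble 773 c)
noncomputable def Ptab_s_775_777 (c : Nat) : Nat := @Bool.rec (fun _ => Nat) (Ptab_775) (Ptab_776) (Nat.ble 776 c)
noncomputable def Ptab_s_774_777 (c : Nat) : Nat := @Bool.rec (fun _ => Nat) (Ptab_774) (Ptab_s_775_777 c) (Nat.ble 775 c)
noncomputable def Ptab_s_772_777 (c : Nat) : Nat := @Bool.rec (fun _ => Nat) (Ptab_s_772_774 c) (Ptab_s_774_777 c) (Nat.ble 774 c)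
noncomputable def Ptab_s_768_777 (c : Nat) : Nat := @Bool.rec (fun _ => Nat) (Ptab_s_768_772 c) (Ptab_s_772_777 c) (Nat.ble 772 c)
noncomputable def Ptab_s_777_779 (c : Nat) : Nat := @Bool.rec (fun _ => Nat) (Ptab_777) (Ptab_778) (Nat.ble 778 c)
noncomputable def Ptab_s_780_782 (c : Nat) : Nat := @Bool.rec (fun _ => Nat) (Ptab_780) (Ptab_781) (Nat.ble 781 c)
noncomputable def Ptab_s_779_782 (c : Nat) : Nat := @Bool.rec (fun _ => Nat) (Ptab_779) (Ptab_s_780_782 c) (Nat.ble 780 c)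
noncomputable def Ptab_s_777_782 (c : Nat) : Nat := @Bool.rec (fun _ => Nat) (Ptab_s_777_779 c) (Ptab_s_779_782 c) (Nat.ble 779 c)
noncomputable def Ptab_s_782_784 (c : Nat) : Nat := @Bool.rec (fun _ => Nat) (Ptab_782) (Ptab_783) (Nat.ble 783 c)
noncomputable def Ptab_s_785_787 (c : Nat) : Nat := @Bool.rec (fun _ => Nat) (Ptab_785) (Ptab_786) (Nat.ble 786 c)
noncomputable def Ptab_s_784_787 (c : Nat) : Nat := @Bool.rec (fun _ => Nat) (Ptab_784) (Ptab_s_785_787 c) (Nat.ble 785 c)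
noncomputable def Ptab_s_782_787 (c : Nat) : Nat := @Bool.rec (fun _ => Nat) (Ptab_s_782_784 c) (Ptab_s_784_787 c) (Nat.ble 784 c)
noncomputable def Ptab_s_777_787 (c : Nat) : Nat := @Bool.rec (fun _ => Nat) (Ptab_s_777_782 c) (Ptab_s_782_787 c) (Nat.ble 782 c)
noncomputable def Ptab_s_768_787 (c : Nat) : Nat := @Bool.rec (fun _ => Nat) (Ptab_s_768_777 c) (Ptab_s_777_787 c) (Nat.ble 777 c)
noncomputable def Ptab_s_750_787 (c : Nat) : Nat := @Bool.rec (fun _ => Nat) (Ptab_s_750_768 c) (Ptab_s_768_787 c) (Nat.ble 768 c)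
noncomputable def Ptab_s_787_789 (c : Nat) : Nat := @Bool.rec (fun _ => Nat) (Ptab_787) (Ptab_788) (Nat.ble 788 c)
noncomputable def Ptab_s_789_791 (c : Nat) : Nat := @Bool.rec (fun _ => Nat) (Ptab_789) (Ptab_790) (Nat.ble 790 c)
noncomputable def Ptab_s_787_791 (c : Nat) : Nat := @Bool.rec (fun _ => Nat) (Ptab_s_787_789 c) (Ptab_s_789_791 c) (Nat.ble 789 c)
noncomputable def Ptab_s_791_793 (c : Nat) : Nat := @Bool.rec (fun _ => Nat) (Ptab_791) (Ptab_792) (Nat.ble 792 c)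
noncomputable def Ptab_s_794_796 (c : Nat) : Nat := @Bool.rec (fun _ => Nat) (Ptab_794) (Ptab_795) (Nat.ble 795 c)
noncomputable def Ptab_s_793_796 (c : Nat) : Nat := @Bool.rec (fun _ => Nat) (Ptab_793) (Ptab_s_794_796 c) (Nat.ble 794 c)
noncomputable def Ptab_s_791_796 (c : Nat) : Nat := @Bool.rec (fun _ => Nat) (Ptab_s_791_793 c) (Ptab_s_793_796 c) (Nat.ble 793 c)
noncomputable def Ptab_s_787_796 (c : Nat) : Nat := @Bool.rec (fun _ => Nat) (Ptab_s_787_791 c) (Ptab_s_791_796 c) (Nat.ble 791 c)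
noncomputable def Ptab_s_796_798 (c : Nat) : Nat := @Bool.rec (fun _ => Nat) (Ptab_796) (Ptab_797) (Nat.ble 797 c)
noncomputable def Ptab_s_799_801 (c : Nat) : Nat := @Bool.rec (fun _ => Nat) (Ptab_799) (Ptab_800) (Nat.ble 800 c)
noncomputable def Ptab_s_798_801 (c : Nat) : Nat := @Bool.rec (fun _ => Nat) (Ptab_798) (Ptab_s_799_801 c) (Nat.ble 799 c)
noncomputable def Ptab_s_796_801 (c : Nat) : Nat := @Bool.rec (fun _ => Nat) (Ptab_s_796_798 c) (Ptab_s_798_801 c) (Nat.ble 798 c)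
noncomputable def Ptab_s_801_803 (c : Nat) : Nat := @Bool.rec (fun _ => Nat) (Ptab_801) (Ptab_802) (Nat.ble 802 c)
noncomputable def Ptab_s_804_806 (c : Nat) : Nat := @Bool.rec (fun _ => Nat) (Ptab_804) (Ptab_805) (Nat.ble 805 c)
noncomputable def Ptab_s_803_806 (c : Nat) : Nat := @Bool.rec (fun _ => Nat) (Ptab_803) (Ptab_s_804_806 c) (Nat.ble 804 c)
noncomputable def Ptab_s_801_806 (c : Nat) : Nat := @Bool.rec (fun _ => Nat) (Ptab_s_801_803 c) (Ptab_s_803_806 c) (Nat.ble 803 c)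
noncomputable def Ptab_s_796_806 (c : Nat) : Nat := @Bool.rec (fun _ => Nat) (Ptab_s_796_801 c) (Ptab_s_801_806 c) (Nat.ble 801 c)
noncomputable def Ptab_s_787_806 (c : Nat) : Nat := @Bool.rec (fun _ => Nat) (Ptab_s_787_796 c) (Ptab_s_796_806 c) (Nat.ble 796 c)
noncomputable def Ptab_s_806_808 (c : Nat) : Nat := @Bool.rec (fun _ => Nat) (Ptab_806) (Ptab_807) (Nat.ble 807 c)
noncomputable def Ptab_s_808_810 (c : Nat) : Nat := @Bool.rec (fun _ => Nat) (Ptab_808) (Ptab_809) (Nat.ble 809 c)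
noncomputable def Ptab_s_806_810 (c : Nat) : Nat := @Bool.rec (fun _ => Nat) (Ptab_s_806_808 c) (Ptab_s_808_810 c) (Nat.ble 808 c)
noncomputable def Ptab_s_810_812 (c : Nat) : Nat := @Bool.rec (fun _ => Nat) (Ptab_810) (Ptab_811) (Nat.ble 811 c)
noncomputable def Ptab_s_813_815 (c : Nat) : Nat := @Bool.rec (fun _ => Nat) (Ptab_813) (Ptab_814) (Nat.ble 814 c)
noncomputable def Ptab_s_812_815 (c : Nat) : Nat := @Bool.rec (fun _ => Nat) (Ptab_812) (Ptab_s_813_815 c) (Nat.ble 813 c)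
noncomputable def Ptab_s_810_815 (c : Nat) : Nat := @Bool.rec (fun _ => Nat) (Ptab_s_810_812 c) (Ptab_s_812_815 c) (Nat.ble 812 c)
noncomputable def Ptab_s_806_815 (c : Nat) : Nat := @Bool.rec (fun _ => Nat) (Ptab_s_806_810 c) (Ptab_s_810_815 c) (Nat.ble 810 c)
noncomputable def Ptab_s_815_817 (c : Nat) : Nat := @Bool.rec (fun _ => Nat) (Ptab_815) (Ptab_816) (Nat.ble 816 c)
noncomputable def Ptab_s_818_820 (c : Nat) : Nat := @Bool.rec (fun _ => Nat) (Ptab_818) (Ptab_819) (Nat.ble 819 c)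
noncomputable def Ptab_s_817_820 (c : Nat) : Nat := @Bool.rec (fun _ => Nat) (Ptab_817) (Ptab_s_818_820 c) (Nat.ble 818 c)
noncomputable def Ptab_s_815_820 (c : Nat) : Nat := @Bool.rec (fun _ => Nat) (Ptab_s_815_817 c) (Ptab_s_817_820 c) (Nat.ble 817 c)
noncomputable def Ptab_s_820_822 (c : Nat) : Nat := @Bool.rec (fun _ => Nat) (Ptab_820) (Ptab_821) (Nat.ble 821 c)
noncomputable def Ptab_s_823_825 (c : Nat) : Nat := @Bool.rec (fun _ => Nat) (Ptab_823) (Ptab_824) (Nat.ble 824 c)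
noncomputable def Ptab_s_822_825 (c : Nat) : Nat := @Bool.rec (fun _ => Nat) (Ptab_822) (Ptab_s_823_825 c) (Nat.ble 823 c)
noncomputable def Ptab_s_820_825 (c : Nat) : Nat := @Bool.rec (fun _ => Nat) (Ptab_s_820_822 c) (Ptab_s_822_825 c) (Nat.ble 822 c)
noncomputable def Ptab_s_815_825 (c : Nat) : Nat := @Bool.rec (fun _ => Nat) (Ptab_s_815_820 c) (Ptab_s_820_825 c) (Nat.ble 820 c)
noncomputable def Ptab_s_806_825 (c : Nat) : Nat := @Bool.rec (fun _ => Nat) (Ptab_s_806_815 c) (Ptab_s_815_825 c) (Nat.ble 815 c)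
noncomputable def Ptab_s_787_825 (c : Nat) : Nat := @Bool.rec (fun _ => Nat) (Ptab_s_787_806 c) (Ptab_s_806_825 c) (Nat.ble 806 c)
noncomputable def Ptab_s_750_825 (c : Nat) : Nat := @Bool.rec (fun _ => Nat) (Ptab_s_750_787 c) (Ptab_s_787_825 c) (Nat.ble 787 c)
noncomputable def Ptab_s_825_827 (c : Nat) : Nat := @Bool.rec (fun _ => Nat) (Ptab_825) (Ptab_826) (Nat.ble 826 c)
noncomputable def Ptab_s_827_829 (c : Nat) : Nat := @Bool.rec (fun _ => Nat) (Ptab_827) (Ptab_828) (Nat.ble 828 c)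
noncomputable def Ptab_s_825_829 (c : Nat) : Nat := @Bool.rec (fun _ => Nat) (Ptab_s_825_827 c) (Ptab_s_827_829 c) (Nat.ble 827 c)
noncomputable def Ptab_s_829_831 (c : Nat) : Nat := @Bool.rec (fun _ => Nat) (Ptab_829) (Ptab_830) (Nat.ble 830 c)
noncomputable def Ptab_s_832_834 (c : Nat) : Nat := @Bool.rec (fun _ => Nat) (Ptab_832) (Ptab_833) (Nat.ble 833 c)
noncomputable def Ptab_s_831_834 (c : Nat) : Nat := @Bool.rec (fun _ => Nat) (Ptab_831) (Ptab_s_832_834 c) (Nat.ble 832 c)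
noncomputable def Ptab_s_829_834 (c : Nat) : Nat := @Bool.rec (fun _ => Nat) (Ptab_s_829_831 c) (Ptab_s_831_834 c) (Nat.ble 831 c)
noncomputable def Ptab_s_825_834 (c : Nat) : Nat := @Bool.rec (fun _ => Nat) (Ptab_s_825_829 c) (Ptab_s_829_834 c) (Nat.ble 829 c)
noncomputable def Ptab_s_834_836 (c : Nat) : Nat := @Bool.rec (fun _ => Nat) (Ptab_834) (Ptab_835) (Nat.ble 835 c)
noncomputable def Ptab_s_836_838 (c : Nat) : Nat := @Bool.rec (fun _ => Nat) (Ptab_836) (Ptab_837) (Nat.ble 837 c)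
noncomputable def Ptab_s_834_838 (c : Nat) : Nat := @Bool.rec (fun _ => Nat) (Ptab_s_834_836 c) (Ptab_s_836_838 c) (Nat.ble 836 c)
noncomputable def Ptab_s_838_840 (c : Nat) : Nat := @Bool.rec (fun _ => Nat) (Ptab_838) (Ptab_839) (Nat.ble 839 c)
noncomputable def Ptab_s_841_843 (c : Nat) : Nat := @Bool.rec (fun _ => Nat) (Ptab_841) (Ptab_842) (Nat.ble 842 c)
noncomputable def Ptab_s_840_843 (c : Nat) : Nat := @Bool.rec (fun _ => Nat) (Ptab_840) (Ptab_s_841_843 c) (Nat.ble 841 c)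
noncomputable def Ptab_s_838_843 (c : Nat) : Nat := @Bool.rec (fun _ => Nat) (Ptab_s_838_840 c) (Ptab_s_840_843 c) (Nat.ble 840 c)
noncomputable def Ptab_s_834_843 (c : Nat) : Nat := @Bool.rec (fun _ => Nat) (Ptab_s_834_838 c) (Ptab_s_838_843 c) (Nat.ble 838 c)
noncomputable def Ptab_s_825_843 (c : Nat) : Nat := @Bool.rec (fun _ => Nat) (Ptab_s_825_834 c) (Ptab_s_834_843 c) (Nat.ble 834 c)
noncomputable def Ptab_s_843_845 (c : Nat) : Nat := @Bool.rec (fun _ => Nat) (Ptab_843) (Ptab_844) (Nat.ble 844 c)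
noncomputable def Ptab_s_845_847 (c : Nat) : Nat := @Bool.rec (fun _ => Nat) (Ptab_845) (Ptab_846) (Nat.ble 846 c)
noncomputable def Ptab_s_843_847 (c : Nat) : Nat := @Bool.rec (fun _ => Nat) (Ptab_s_843_845 c) (Ptab_s_845_847 c) (Nat.ble 845 c)
noncomputable def Ptab_s_847_849 (c : Nat) : Nat := @Bool.rec (fun _ => Nat) (Ptab_847) (Ptab_848) (Nat.ble 848 c)
noncomputable def Ptab_s_850_852 (c : Nat) : Nat := @Bool.rec (fun _ => Nat) (Ptab_850) (Ptab_851) (Nat.ble 851 c)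
noncomputable def Ptab_s_849_852 (c : Nat) : Nat := @Bool.rec (fun _ => Nat) (Ptab_849) (Ptab_s_850_852 c) (Nat.ble 850 c)
noncomputable def Ptab_s_847_852 (c : Nat) : Nat := @Bool.rec (fun _ => Nat) (Ptab_s_847_849 c) (Ptab_s_849_852 c) (Nat.ble 849 c)
noncomputable def Ptab_s_843_852 (c : Nat) : Nat := @Bool.rec (fun _ => Nat) (Ptab_s_843_847 c) (Ptab_s_847_852 c) (Nat.ble 847 c)
noncomputable def Ptab_s_852_854 (c : Nat) : Nat := @Bool.rec (fun _ => Nat) (Ptab_852) (Ptab_853) (Nat.ble 853 c)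
noncomputable def Ptab_s_855_857 (c : Nat) : Nat := @Bool.rec (fun _ => Nat) (Ptab_855) (Ptab_856) (Nat.ble 856 c)
noncomputable def Ptab_s_854_857 (c : Nat) : Nat := @Bool.rec (fun _ => Nat) (Ptab_854) (Ptab_s_855_857 c) (Nat.ble 855 c)
noncomputable def Ptab_s_852_857 (c : Nat) : Nat := @Bool.rec (fun _ => Nat) (Ptab_s_852_854 c) (Ptab_s_854_857 c) (Nat.ble 854 c)
noncomputable def Ptab_s_857_859 (c : Nat) : Nat := @Bool.rec (fun _ => Nat) (Ptab_857) (Ptab_858) (Nat.ble 858 c)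
noncomputable def Ptab_s_860_862 (c : Nat) : Nat := @Bool.rec (fun _ => Nat) (Ptab_860) (Ptab_861) (Nat.ble 861 c)
noncomputable def Ptab_s_859_862 (c : Nat) : Nat := @Bool.rec (fun _ => Nat) (Ptab_859) (Ptab_s_860_862 c) (Nat.ble 860 c)
noncomputable def Ptab_s_857_862 (c : Nat) : Nat := @Bool.rec (fun _ => Nat) (Ptab_s_857_859 c) (Ptab_s_859_862 c) (Nat.ble 859 c)
noncomputable def Ptab_s_852_862 (c : Nat) : Nat := @Bool.rec (fun _ => Nat) (Ptab_s_852_857 c) (Ptab_s_857_862 c) (Nat.ble 857 c)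
noncomputable def Ptab_s_843_862 (c : Nat) : Nat := @Bool.rec (fun _ => Nat) (Ptab_s_843_852 c) (Ptab_s_852_862 c) (Nat.ble 852 c)
noncomputable def Ptab_s_825_862 (c : Nat) : Nat := @Bool.rec (fun _ => Nat) (Ptab_s_825_843 c) (Ptab_s_843_862 c) (Nat.ble 843 c)
noncomputable def Ptab_s_862_864 (c : Nat) : Nat := @Bool.rec (fun _ => Nat) (Ptab_862) (Ptab_863) (Nat.ble 863 c)
noncomputable def Ptab_s_864_866 (c : Nat) : Nat := @Bool.rec (fun _ => Nat) (Ptab_864) (Ptab_865) (Nat.ble 865 c)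
noncomputable def Ptab_s_862_866 (c : Nat) : Nat := @Bool.rec (fun _ => Nat) (Ptab_s_862_864 c) (Ptab_s_864_866 c) (Nat.ble 864 c)
noncomputable def Ptab_s_866_868 (c : Nat) : Nat := @Bool.rec (fun _ => Nat) (Ptab_866) (Ptab_867) (Nat.ble 867 c)
noncomputable def Ptab_s_869_871 (c : Nat) : Nat := @Bool.rec (fun _ => Nat) (Ptab_869) (Ptab_870) (Nat.ble 870 c)
noncomputable def Ptab_s_868_871 (c : Nat) : Nat := @Bool.rec (fun _ => Nat) (Ptab_868) (Ptab_s_869_871 c) (Nat.ble 869 c)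
noncomputable def Ptab_s_866_871 (c : Nat) : Nat := @Bool.rec (fun _ => Nat) (Ptab_s_866_868 c) (Ptab_s_868_871 c) (Nat.ble 868 c)
noncomputable def Ptab_s_862_871 (c : Nat) : Nat := @Bool.rec (fun _ => Nat) (Ptab_s_862_866 c) (Ptab_s_866_871 c) (Nat.ble 866 c)
noncomputable def Ptab_s_871_873 (c : Nat) : Nat := @Bool.rec (fun _ => Nat) (Ptab_871) (Ptab_872) (Nat.ble 872 c)
noncomputable def Ptab_s_874_876 (c : Nat) : Nat := @Bool.rec (fun _ => Nat) (Ptab_874) (Ptab_875) (Nat.ble 875 c)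
noncomputable def Ptab_s_873_876 (c : Nat) : Nat := @Bool.rec (fun _ => Nat) (Ptab_873) (Ptab_s_874_876 c) (Nat.ble 874 c)
noncomputable def Ptab_s_871_876 (c : Nat) : Nat := @Bool.rec (fun _ => Nat) (Ptab_s_871_873 c) (Ptab_s_873_876 c) (Nat.ble 873 c)
noncomputable def Ptab_s_876_878 (c : Nat) : Nat := @Bool.rec (fun _ => Nat) (Ptab_876) (Ptab_877) (Nat.ble 877 c)
noncomputable def Ptab_s_879_881 (c : Nat) : Nat := @Bool.rec (fun _ => Nat) (Ptab_879) (Ptab_880) (Nat.ble 880 c)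
noncomputable def Ptab_s_878_881 (c : Nat) : Nat := @Bool.rec (fun _ => Nat) (Ptab_878) (Ptab_s_879_881 c) (Nat.ble 879 c)
noncomputable def Ptab_s_876_881 (c : Nat) : Nat := @Bool.rec (fun _ => Nat) (Ptab_s_876_878 c) (Ptab_s_878_881 c) (Nat.ble 878 c)
noncomputable def Ptab_s_871_881 (c : Nat) : Nat := @Bool.rec (fun _ => Nat) (Ptab_s_871_876 c) (Ptab_s_876_881 c) (Nat.ble 876 c)
noncomputable def Ptab_s_862_881 (c : Nat) : Nat := @Bool.rec (fun _ => Nat) (Ptab_s_862_871 c) (Ptab_s_871_881 c) (Nat.ble 871 c)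
noncomputable def Ptab_s_881_883 (c : Nat) : Nat := @Bool.rec (fun _ => Nat) (Ptab_881) (Ptab_882) (Nat.ble 882 c)
noncomputable def Ptab_s_883_885 (c : Nat) : Nat := @Bool.rec (fun _ => Nat) (Ptab_883) (Ptab_884) (Nat.ble 884 c)
noncomputable def Ptab_s_881_885 (c : Nat) : Nat := @Bool.rec (fun _ => Nat) (Ptab_s_881_883 c) (Ptab_s_883_885 c) (Nat.ble 883 c)
noncomputable def Ptab_s_885_887 (c : Nat) : Nat := @Bool.rec (fun _ => Nat) (Ptab_885) (Ptab_886) (Nat.ble 886 c)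
noncomputable def Ptab_s_888_890 (c : Nat) : Nat := @Bool.rec (fun _ => Nat) (Ptab_888) (Ptab_889) (Nat.ble 889 c)
noncomputable def Ptab_s_887_890 (c : Nat) : Nat := @Bool.rec (fun _ => Nat) (Ptab_887) (Ptab_s_888_890 c) (Nat.ble 888 c)
noncomputable def Ptab_s_885_890 (c : Nat) : Nat := @Bool.rec (fun _ => Nat) (Ptab_s_885_887 c) (Ptab_s_887_890 c) (Nat.ble 887 c)
noncomputable def Ptab_s_881_890 (c : Nat) : Nat := @Bool.rec (fun _ => Nat) (Ptab_s_881_885 c) (Ptab_s_885_890 c) (Nat.ble 885 c)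
noncomputable def Ptab_s_890_892 (c : Nat) : Nat := @Bool.rec (fun _ => Nat) (Ptab_890) (Ptab_891) (Nat.ble 891 c)
noncomputable def Ptab_s_893_895 (c : Nat) : Nat := @Bool.rec (fun _ => Nat) (Ptab_893) (Ptab_894) (Nat.ble 894 c)
noncomputable def Ptab_s_892_895 (c : Nat) : Nat := @Bool.rec (fun _ => Nat) (Ptab_892) (Ptab_s_893_895 c) (Nat.ble 893 c)
noncomputable def Ptab_s_890_895 (c : Nat) : Nat := @Bool.rec (fun _ => Nat) (Ptab_s_890_892 c) (Ptab_s_892_895 c) (Nat.ble 892 c)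
noncomputable def Ptab_s_895_897 (c : Nat) : Nat := @Bool.rec (fun _ => Nat) (Ptab_895) (Ptab_896) (Nat.ble 896 c)
noncomputable def Ptab_s_898_900 (c : Nat) : Nat := @Bool.rec (fun _ => Nat) (Ptab_898) (Ptab_899) (Nat.ble 899 c)
noncomputable def Ptab_s_897_900 (c : Nat) : Nat := @Bool.rec (fun _ => Nat) (Ptab_897) (Ptab_s_898_900 c) (Nat.ble 898 c)
noncomputable def Ptab_s_895_900 (c : Nat) : Nat := @Bool.rec (fun _ => Nat) (Ptab_s_895_897 c) (Ptab_s_897_900 c) (Nat.ble 897 c)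
noncomputable def Ptab_s_890_900 (c : Nat) : Nat := @Bool.rec (fun _ => Nat) (Ptab_s_890_895 c) (Ptab_s_895_900 c) (Nat.ble 895 c)
noncomputable def Ptab_s_881_900 (c : Nat) : Nat := @Bool.rec (fun _ => Nat) (Ptab_s_881_890 c) (Ptab_s_890_900 c) (Nat.ble 890 c)
noncomputable def Ptab_s_862_900 (c : Nat) : Nat := @Bool.rec (fun _ => Nat) (Ptab_s_862_881 c) (Ptab_s_881_900 c) (Nat.ble 881 c)
noncomputable def Ptab_s_825_900 (c : Nat) : Nat := @Bool.rec (fun _ => Nat) (Ptab_s_825_862 c) (Ptab_s_862_900 c) (Nat.ble 862 c)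
noncomputable def Ptab_s_750_900 (c : Nat) : Nat := @Bool.rec (fun _ => Nat) (Ptab_s_750_825 c) (Ptab_s_825_900 c) (Nat.ble 825 c)
noncomputable def Ptab_s_600_900 (c : Nat) : Nat := @Bool.rec (fun _ => Nat) (Ptab_s_600_750 c) (Ptab_s_750_900 c) (Nat.ble 750 c)
noncomputable def Ptab_s_900_902 (c : Nat) : Nat := @Bool.rec (fun _ => Nat) (Ptab_900) (Ptab_901) (Nat.ble 901 c)
noncomputable def Ptab_s_902_904 (c : Nat) : Nat := @Bool.rec (fun _ => Nat) (Ptab_902) (Ptab_903) (Nat.ble 903 c)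
noncomputable def Ptab_s_900_904 (c : Nat) : Nat := @Bool.rec (fun _ => Nat) (Ptab_s_900_902 c) (Ptab_s_902_904 c) (Nat.ble 902 c)
noncomputable def Ptab_s_904_906 (c : Nat) : Nat := @Bool.rec (fun _ => Nat) (Ptab_904) (Ptab_905) (Nat.ble 905 c)
noncomputable def Ptab_s_907_909 (c : Nat) : Nat := @Bool.rec (fun _ => Nat) (Ptab_907) (Ptab_908) (Nat.ble 908 c)
noncomputable def Ptab_s_906_909 (c : Nat) : Nat := @Bool.rec (fun _ => Nat) (Ptab_906) (Ptab_s_907_909 c) (Nat.ble 907 c)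
noncomputable def Ptab_s_904_909 (c : Nat) : Nat := @Bool.rec (fun _ => Nat) (Ptab_s_904_906 c) (Ptab_s_906_909 c) (Nat.ble 906 c)
noncomputable def Ptab_s_900_909 (c : Nat) : Nat := @Bool.rec (fun _ => Nat) (Ptab_s_900_904 c) (Ptab_s_904_909 c) (Nat.ble 904 c)
noncomputable def Ptab_s_909_911 (c : Nat) : Nat := @Bool.rec (fun _ => Nat) (Ptab_909) (Ptab_910) (Nat.ble 910 c)
noncomputable def Ptab_s_911_913 (c : Nat) : Nat := @Bool.rec (fun _ => Nat) (Ptab_911) (Ptab_912) (Nat.ble 912 c)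
noncomputable def Ptab_s_909_913 (c : Nat) : Nat := @Bool.rec (fun _ => Nat) (Ptab_s_909_911 c) (Ptab_s_911_913 c) (Nat.ble 911 c)
noncomputable def Ptab_s_913_915 (c : Nat) : Nat := @Bool.rec (fun _ => Nat) (Ptab_913) (Ptab_914) (Nat.ble 914 c)
noncomputable def Ptab_s_916_918 (c : Nat) : Nat := @Bool.rec (fun _ => Nat) (Ptab_916) (Ptab_917) (Nat.ble 917 c)
noncomputable def Ptab_s_915_918 (c : Nat) : Nat := @Bool.rec (fun _ => Nat) (Ptab_915) (Ptab_s_916_918 c) (Nat.ble 916 c)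
noncomputable def Ptab_s_913_918 (c : Nat) : Nat := @Bool.rec (fun _ => Nat) (Ptab_s_913_915 c) (Ptab_s_915_918 c) (Nat.ble 915 c)
noncomputable def Ptab_s_909_918 (c : Nat) : Nat := @Bool.rec (fun _ => Nat) (Ptab_s_909_913 c) (Ptab_s_913_918 c) (Nat.ble 913 c)
noncomputable def Ptab_s_900_918 (c : Nat) : Nat := @Bool.rec (fun _ => Nat) (Ptab_s_900_909 c) (Ptab_s_909_918 c) (Nat.ble 909 c)
noncomputable def Ptab_s_918_920 (c : Nat) : Nat := @Bool.rec (fun _ => Nat) (Ptab_918) (Ptab_919) (Nat.ble 919 c)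
noncomputable def Ptab_s_920_922 (c : Nat) : Nat := @Bool.rec (fun _ => Nat) (Ptab_920) (Ptab_921) (Nat.ble 921 c)
noncomputable def Ptab_s_918_922 (c : Nat) : Nat := @Bool.rec (fun _ => Nat) (Ptab_s_918_920 c) (Ptab_s_920_922 c) (Nat.ble 920 c)
noncomputable def Ptab_s_922_924 (c : Nat) : Nat := @Bool.rec (fun _ => Nat) (Ptab_922) (Ptab_923) (Nat.ble 923 c)
noncomputable def Ptab_s_925_927 (c : Nat) : Nat := @Bool.rec (fun _ => Nat) (Ptab_925) (Ptab_926) (Nat.ble 926 c)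
noncomputable def Ptab_s_924_927 (c : Nat) : Nat := @Bool.rec (fun _ => Nat) (Ptab_924) (Ptab_s_925_927 c) (Nat.ble 925 c)
noncomputable def Ptab_s_922_927 (c : Nat) : Nat := @Bool.rec (fun _ => Nat) (Ptab_s_922_924 c) (Ptab_s_924_927 c) (Nat.ble 924 c)
noncomputable def Ptab_s_918_927 (c : Nat) : Nat := @Bool.rec (fun _ => Nat) (Ptab_s_918_922 c) (Ptab_s_922_927 c) (Nat.ble 922 c)
noncomputable def Ptab_s_927_929 (c : Nat) : Nat := @Bool.rec (fun _ => Nat) (Ptab_927) (Ptab_928) (Nat.ble 928 c)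
noncomputable def Ptab_s_930_932 (c : Nat) : Nat := @Bool.rec (fun _ => Nat) (Ptab_930) (Ptab_931) (Nat.ble 931 c)
noncomputable def Ptab_s_929_932 (c : Nat) : Nat := @Bool.rec (fun _ => Nat) (Ptab_929) (Ptab_s_930_932 c) (Nat.ble 930 c)
noncomputable def Ptab_s_927_932 (c : Nat) : Nat := @Bool.rec (fun _ => Nat) (Ptab_s_927_929 c) (Ptab_s_929_932 c) (Nat.ble 929 c)
noncomputable def Ptab_s_932_934 (c : Nat) : Nat := @Bool.rec (fun _ => Nat) (Ptab_932) (Ptab_933) (Nat.ble 933 c)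
noncomputable def Ptab_s_935_937 (c : Nat) : Nat := @Bool.rec (fun _ => Nat) (Ptab_935) (Ptab_936) (Nat.ble 936 c)
noncomputable def Ptab_s_934_937 (c : Nat) : Nat := @Bool.rec (fun _ => Nat) (Ptab_934) (Ptab_s_935_937 c) (Nat.ble 935 c)
noncomputable def Ptab_s_932_937 (c : Nat) : Nat := @Bool.rec (fun _ => Nat) (Ptab_s_932_934 c) (Ptab_s_934_937 c) (Nat.ble 934 c)
noncomputable def Ptab_s_927_937 (c : Nat) : Nat := @Bool.rec (fun _ => Nat) (Ptab_s_927_932 c) (Ptab_s_932_937 c) (Nat.ble 932 c)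
noncomputable def Ptab_s_918_937 (c : Nat) : Nat := @Bool.rec (fun _ => Nat) (Ptab_s_918_927 c) (Ptab_s_927_937 c) (Nat.ble 927 c)
noncomputable def Ptab_s_900_937 (c : Nat) : Nat := @Bool.rec (fun _ => Nat) (Ptab_s_900_918 c) (Ptab_s_918_937 c) (Nat.ble 918 c)
noncomputable def Ptab_s_937_939 (c : Nat) : Nat := @Bool.rec (fun _ => Nat) (Ptab_937) (Ptab_938) (Nat.ble 938 c)
noncomputable def Ptab_s_939_941 (c : Nat) : Nat := @Bool.rec (fun _ => Nat) (Ptab_939) (Ptab_940) (Nat.ble 940 c)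
noncomputable def Ptab_s_937_941 (c : Nat) : Nat := @Bool.rec (fun _ => Nat) (Ptab_s_937_939 c) (Ptab_s_939_941 c) (Nat.ble 939 c)
noncomputable def Ptab_s_941_943 (c : Nat) : Nat := @Bool.rec (fun _ => Nat) (Ptab_941) (Ptab_942) (Nat.ble 942 c)
noncomputable def Ptab_s_944_946 (c : Nat) : Nat := @Bool.rec (fun _ => Nat) (Ptab_944) (Ptab_945) (Nat.ble 945 c)
noncomputable def Ptab_s_943_946 (c : Nat) : Nat := @Bool.rec (fun _ => Nat) (Ptab_943) (Ptab_s_944_946 c) (Nat.ble 944 c)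
noncomputable def Ptab_s_941_946 (c : Nat) : Nat := @Bool.rec (fun _ => Nat) (Ptab_s_941_943 c) (Ptab_s_943_946 c) (Nat.ble 943 c)
noncomputable def Ptab_s_937_946 (c : Nat) : Nat := @Bool.rec (fun _ => Nat) (Ptab_s_937_941 c) (Ptab_s_941_946 c) (Nat.ble 941 c)
noncomputable def Ptab_s_946_948 (c : Nat) : Nat := @Bool.rec (fun _ => Nat) (Ptab_946) (Ptab_947) (Nat.ble 947 c)
noncomputable def Ptab_s_949_951 (c : Nat) : Nat := @Bool.rec (fun _ => Nat) (Ptab_949) (Ptab_950) (Nat.ble 950 c)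
noncomputable def Ptab_s_948_951 (c : Nat) : Nat := @Bool.rec (fun _ => Nat) (Ptab_948) (Ptab_s_949_951 c) (Nat.ble 949 c)
noncomputable def Ptab_s_946_951 (c : Nat) : Nat := @Bool.rec (fun _ => Nat) (Ptab_s_946_948 c) (Ptab_s_948_951 c) (Nat.ble 948 c)
noncomputable def Ptab_s_951_953 (c : Nat) : Nat := @Bool.rec (fun _ => Nat) (Ptab_951) (Ptab_952) (Nat.ble 952 c)
noncomputable def Ptab_s_954_956 (c : Nat) : Nat := @Bool.rec (fun _ => Nat) (Ptab_954) (Ptab_955) (Nat.ble 955 c)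
noncomputable def Ptab_s_953_956 (c : Nat) : Nat := @Bool.rec (fun _ => Nat) (Ptab_953) (Ptab_s_954_956 c) (Nat.ble 954 c)
noncomputable def Ptab_s_951_956 (c : Nat) : Nat := @Bool.rec (fun _ => Nat) (Ptab_s_951_953 c) (Ptab_s_953_956 c) (Nat.ble 953 c)
noncomputable def Ptab_s_946_956 (c : Nat) : Nat := @Bool.rec (fun _ => Nat) (Ptab_s_946_951 c) (Ptab_s_951_956 c) (Nat.ble 951 c)
noncomputable def Ptab_s_937_956 (c : Nat) : Nat := @Bool.rec (fun _ => Nat) (Ptab_s_937_946 c) (Ptab_s_946_956 c) (Nat.ble 946 c)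
noncomputable def Ptab_s_956_958 (c : Nat) : Nat := @Bool.rec (fun _ => Nat) (Ptab_956) (Ptab_957) (Nat.ble 957 c)
noncomputable def Ptab_s_958_960 (c : Nat) : Nat := @Bool.rec (fun _ => Nat) (Ptab_958) (Ptab_959) (Nat.ble 959 c)
noncomputable def Ptab_s_956_960 (c : Nat) : Nat := @Bool.rec (fun _ => Nat) (Ptab_s_956_958 c) (Ptab_s_958_960 c) (Nat.ble 958 c)
noncomputable def Ptab_s_960_962 (c : Nat) : Nat := @Bool.rec (fun _ => Nat) (Ptab_960) (Ptab_961) (Nat.ble 961 c)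
noncomputable def Ptab_s_963_965 (c : Nat) : Nat := @Bool.rec (fun _ => Nat) (Ptab_963) (Ptab_964) (Nat.ble 964 c)
noncomputable def Ptab_s_962_965 (c : Nat) : Nat := @Bool.rec (fun _ => Nat) (Ptab_962) (Ptab_s_963_965 c) (Nat.ble 963 c)
noncomputable def Ptab_s_960_965 (c : Nat) : Nat := @Bool.rec (fun _ => Nat) (Ptab_s_960_962 c) (Ptab_s_962_965 c) (Nat.ble 962 c)
noncomputable def Ptab_s_956_965 (c : Nat) : Nat := @Bool.rec (fun _ => Nat) (Ptab_s_956_960 c) (Ptab_s_960_965 c) (Nat.ble 960 c)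
noncomputable def Ptab_s_965_967 (c : Nat) : Nat := @Bool.rec (fun _ => Nat) (Ptab_965) (Ptab_966) (Nat.ble 966 c)
noncomputable def Ptab_s_968_970 (c : Nat) : Nat := @Bool.rec (fun _ => Nat) (Ptab_968) (Ptab_969) (Nat.ble 969 c)
noncomputable def Ptab_s_967_970 (c : Nat) : Nat := @Bool.rec (fun _ => Nat) (Ptab_967) (Ptab_s_968_970 c) (Nat.ble 968 c)
noncomputable def Ptab_s_965_970 (c : Nat) : Nat := @Bool.rec (fun _ => Nat) (Ptab_s_965_967 c) (Ptab_s_967_970 c) (Nat.ble 967 c)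
noncomputable def Ptab_s_970_972 (c : Nat) : Nat := @Bool.rec (fun _ => Nat) (Ptab_970) (Ptab_971) (Nat.ble 971 c)
noncomputable def Ptab_s_973_975 (c : Nat) : Nat := @Bool.rec (fun _ => Nat) (Ptab_973) (Ptab_974) (Nat.ble 974 c)
noncomputable def Ptab_s_972_975 (c : Nat) : Nat := @Bool.rec (fun _ => Nat) (Ptab_972) (Ptab_s_973_975 c) (Nat.ble 973 c)
noncomputable def Ptab_s_970_975 (c : Nat) : Nat := @Bool.rec (fun _ => Nat) (Ptab_s_970_972 c) (Ptab_s_972_975 c) (Nat.ble 972 c)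
noncomputable def Ptab_s_965_975 (c : Nat) : Nat := @Bool.rec (fun _ => Nat) (Ptab_s_965_970 c) (Ptab_s_970_975 c) (Nat.ble 970 c)
noncomputable def Ptab_s_956_975 (c : Nat) : Nat := @Bool.rec (fun _ => Nat) (Ptab_s_956_965 c) (Ptab_s_965_975 c) (Nat.ble 965 c)
noncomputable def Ptab_s_937_975 (c : Nat) : Nat := @Bool.rec (fun _ => Nat) (Ptab_s_937_956 c) (Ptab_s_956_975 c) (Nat.ble 956 c)
noncomputable def Ptab_s_900_975 (c : Nat) : Nat := @Bool.rec (fun _ => Nat) (Ptab_s_900_937 c) (Ptab_s_937_975 c) (Nat.ble 937 c)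
noncomputable def Ptab_s_975_977 (c : Nat) : Nat := @Bool.rec (fun _ => Nat) (Ptab_975) (Ptab_976) (Nat.ble 976 c)
noncomputable def Ptab_s_977_979 (c : Nat) : Nat := @Bool.rec (fun _ => Nat) (Ptab_977) (Ptab_978) (Nat.ble 978 c)
noncomputable def Ptab_s_975_979 (c : Nat) : Nat := @Bool.rec (fun _ => Nat) (Ptab_s_975_977 c) (Ptab_s_977_979 c) (Nat.ble 977 c)
noncomputable def Ptab_s_979_981 (c : Nat) : Nat := @Bool.rec (fun _ => Nat) (Ptab_979) (Ptab_980) (Nat.ble 980 c)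
noncomputable def Ptab_s_982_984 (c : Nat) : Nat := @Bool.rec (fun _ => Nat) (Ptab_982) (Ptab_983) (Nat.ble 983 c)
noncomputable def Ptab_s_981_984 (c : Nat) : Nat := @Bool.rec (fun _ => Nat) (Ptab_981) (Ptab_s_982_984 c) (Nat.ble 982 c)
noncomputable def Ptab_s_979_984 (c : Nat) : Nat := @Bool.rec (fun _ => Nat) (Ptab_s_979_981 c) (Ptab_s_981_984 c) (Nat.ble 981 c)
noncomputable def Ptab_s_975_984 (c : Nat) : Nat := @Bool.rec (fun _ => Nat) (Ptab_s_975_979 c) (Ptab_s_979_984 c) (Nat.ble 979 c)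
noncomputable def Ptab_s_984_986 (c : Nat) : Nat := @Bool.rec (fun _ => Nat) (Ptab_984) (Ptab_985) (Nat.ble 985 c)
noncomputable def Ptab_s_986_988 (c : Nat) : Nat := @Bool.rec (fun _ => Nat) (Ptab_986) (Ptab_987) (Nat.ble 987 c)
noncomputable def Ptab_s_984_988 (c : Nat) : Nat := @Bool.rec (fun _ => Nat) (Ptab_s_984_986 c) (Ptab_s_986_988 c) (Nat.ble 986 c)
noncomputable def Ptab_s_988_990 (c : Nat) : Nat := @Bool.rec (fun _ => Nat) (Ptab_988) (Ptab_989) (Nat.ble 989 c)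
noncomputable def Ptab_s_991_993 (c : Nat) : Nat := @Bool.rec (fun _ => Nat) (Ptab_991) (Ptab_992) (Nat.ble 992 c)
noncomputable def Ptab_s_990_993 (c : Nat) : Nat := @Bool.rec (fun _ => Nat) (Ptab_990) (Ptab_s_991_993 c) (Nat.ble 991 c)
noncomputable def Ptab_s_988_993 (c : Nat) : Nat := @Bool.rec (fun _ => Nat) (Ptab_s_988_990 c) (Ptab_s_990_993 c) (Nat.ble 990 c)
noncomputable def Ptab_s_984_993 (c : Nat) : Nat := @Bool.rec (fun _ => Nat) (Ptab_s_984_988 c) (Ptab_s_988_993 c) (Nat.ble 988 c)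
noncomputable def Ptab_s_975_993 (c : Nat) : Nat := @Bool.rec (fun _ => Nat) (Ptab_s_975_984 c) (Ptab_s_984_993 c) (Nat.ble 984 c)
noncomputable def Ptab_s_993_995 (c : Nat) : Nat := @Bool.rec (fun _ => Nat) (Ptab_993) (Ptab_994) (Nat.ble 994 c)
noncomputable def Ptab_s_995_997 (c : Nat) : Nat := @Bool.rec (fun _ => Nat) (Ptab_995) (Ptab_996) (Nat.ble 996 c)
noncomputable def Ptab_s_993_997 (c : Nat) : Nat := @Bool.rec (fun _ => Nat) (Ptab_s_993_995 c) (Ptab_s_995_997 c) (Nat.ble 995 c)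
noncomputable def Ptab_s_997_999 (c : Nat) : Nat := @Bool.rec (fun _ => Nat) (Ptab_997) (Ptab_998) (Nat.ble 998 c)
noncomputable def Ptab_s_1000_1002 (c : Nat) : Nat := @Bool.rec (fun _ => Nat) (Ptab_1000) (Ptab_1001) (Nat.ble 1001 c)
noncomputable def Ptab_s_999_1002 (c : Nat) : Nat := @Bool.rec (fun _ => Nat) (Ptab_999) (Ptab_s_1000_1002 c) (Nat.ble 1000 c)
noncomputable def Ptab_s_997_1002 (c : Nat) : Nat := @Bool.rec (fun _ => Nat) (Ptab_s_997_999 c) (Ptab_s_999_1002 c) (Nat.ble 999 c)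
noncomputable def Ptab_s_993_1002 (c : Nat) : Nat := @Bool.rec (fun _ => Nat) (Ptab_s_993_997 c) (Ptab_s_997_1002 c) (Nat.ble 997 c)
noncomputable def Ptab_s_1002_1004 (c : Nat) : Nat := @Bool.rec (fun _ => Nat) (Ptab_1002) (Ptab_1003) (Nat.ble 1003 c)
noncomputable def Ptab_s_1005_1007 (c : Nat) : Nat := @Bool.rec (fun _ => Nat) (Ptab_1005) (Ptab_1006) (Nat.ble 1006 c)
noncomputable def Ptab_s_1004_1007 (c : Nat) : Nat := @Bool.rec (fun _ => Nat) (Ptab_1004) (Ptab_s_1005_1007 c) (Nat.ble 1005 c)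
noncomputable def Ptab_s_1002_1007 (c : Nat) : Nat := @Bool.rec (fun _ => Nat) (Ptab_s_1002_1004 c) (Ptab_s_1004_1007 c) (Nat.ble 1004 c)
noncomputable def Ptab_s_1007_1009 (c : Nat) : Nat := @Bool.rec (fun _ => Nat) (Ptab_1007) (Ptab_1008) (Nat.ble 1008 c)
noncomputable def Ptab_s_1010_1012 (c : Nat) : Nat := @Bool.rec (fun _ => Nat) (Ptab_1010) (Ptab_1011) (Nat.ble 1011 c)
noncomputable def Ptab_s_1009_1012 (c : Nat) : Nat := @Bool.rec (fun _ => Nat) (Ptab_1009) (Ptab_s_1010_1012 c) (Nat.ble 1010 c)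
noncomputable def Ptab_s_1007_1012 (c : Nat) : Nat := @Bool.rec (fun _ => Nat) (Ptab_s_1007_1009 c) (Ptab_s_1009_1012 c) (Nat.ble 1009 c)
noncomputable def Ptab_s_1002_1012 (c : Nat) : Nat := @Bool.rec (fun _ => Nat) (Ptab_s_1002_1007 c) (Ptab_s_1007_1012 c) (Nat.ble 1007 c)
noncomputable def Ptab_s_993_1012 (c : Nat) : Nat := @Bool.rec (fun _ => Nat) (Ptab_s_993_1002 c) (Ptab_s_1002_1012 c) (Nat.ble 1002 c)
noncomputable def Ptab_s_975_1012 (c : Nat) : Nat := @Bool.rec (fun _ => Nat) (Ptab_s_975_993 c) (Ptab_s_993_1012 c) (Nat.ble 993 c)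
noncomputable def Ptab_s_1012_1014 (c : Nat) : Nat := @Bool.rec (fun _ => Nat) (Ptab_1012) (Ptab_1013) (Nat.ble 1013 c)
noncomputable def Ptab_s_1014_1016 (c : Nat) : Nat := @Bool.rec (fun _ => Nat) (Ptab_1014) (Ptab_1015) (Nat.ble 1015 c)
noncomputable def Ptab_s_1012_1016 (c : Nat) : Nat := @Bool.rec (fun _ => Nat) (Ptab_s_1012_1014 c) (Ptab_s_1014_1016 c) (Nat.ble 1014 c)
noncomputable def Ptab_s_1016_1018 (c : Nat) : Nat := @Bool.rec (fun _ => Nat) (Ptab_1016) (Ptab_1017) (Nat.ble 1017 c)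
noncomputable def Ptab_s_1019_1021 (c : Nat) : Nat := @Bool.rec (fun _ => Nat) (Ptab_1019) (Ptab_1020) (Nat.ble 1020 c)
noncomputable def Ptab_s_1018_1021 (c : Nat) : Nat := @Bool.rec (fun _ => Nat) (Ptab_1018) (Ptab_s_1019_1021 c) (Nat.ble 1019 c)
noncomputable def Ptab_s_1016_1021 (c : Nat) : Nat := @Bool.rec (fun _ => Nat) (Ptab_s_1016_1018 c) (Ptab_s_1018_1021 c) (Nat.ble 1018 c)
noncomputable def Ptab_s_1012_1021 (c : Nat) : Nat := @Bool.rec (fun _ => Nat) (Ptab_s_1012_1016 c) (Ptab_s_1016_1021 c) (Nat.ble 1016 c)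
noncomputable def Ptab_s_1021_1023 (c : Nat) : Nat := @Bool.rec (fun _ => Nat) (Ptab_1021) (Ptab_1022) (Nat.ble 1022 c)
noncomputable def Ptab_s_1024_1026 (c : Nat) : Nat := @Bool.rec (fun _ => Nat) (Ptab_1024) (Ptab_1025) (Nat.ble 1025 c)
noncomputable def Ptab_s_1023_1026 (c : Nat) : Nat := @Bool.rec (fun _ => Nat) (Ptab_1023) (Ptab_s_1024_1026 c) (Nat.ble 1024 c)
noncomputable def Ptab_s_1021_1026 (c : Nat) : Nat := @Bool.rec (fun _ => Nat) (Ptab_s_1021_1023 c) (Ptab_s_1023_1026 c) (Nat.ble 1023 c)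
noncomputable def Ptab_s_1026_1028 (c : Nat) : Nat := @Bool.rec (fun _ => Nat) (Ptab_1026) (Ptab_1027) (Nat.ble 1027 c)
noncomputable def Ptab_s_1029_1031 (c : Nat) : Nat := @Bool.rec (fun _ => Nat) (Ptab_1029) (Ptab_1030) (Nat.ble 1030 c)
noncomputable def Ptab_s_1028_1031 (c : Nat) : Nat := @Bool.rec (fun _ => Nat) (Ptab_1028) (Ptab_s_1029_1031 c) (Nat.ble 1029 c)
noncomputable def Ptab_s_1026_1031 (c : Nat) : Nat := @Bool.rec (fun _ => Nat) (Ptab_s_1026_1028 c) (Ptab_s_1028_1031 c) (Nat.ble 1028 c)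
noncomputable def Ptab_s_1021_1031 (c : Nat) : Nat := @Bool.rec (fun _ => Nat) (Ptab_s_1021_1026 c) (Ptab_s_1026_1031 c) (Nat.ble 1026 c)
noncomputable def Ptab_s_1012_1031 (c : Nat) : Nat := @Bool.rec (fun _ => Nat) (Ptab_s_1012_1021 c) (Ptab_s_1021_1031 c) (Nat.ble 1021 c)
noncomputable def Ptab_s_1031_1033 (c : Nat) : Nat := @Bool.rec (fun _ => Nat) (Ptab_1031) (Ptab_1032) (Nat.ble 1032 c)
noncomputable def Ptab_s_1033_1035 (c : Nat) : Nat := @Bool.rec (fun _ => Nat) (Ptab_1033) (Ptab_1034) (Nat.ble 1034 c)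
noncomputable def Ptab_s_1031_1035 (c : Nat) : Nat := @Bool.rec (fun _ => Nat) (Ptab_s_1031_1033 c) (Ptab_s_1033_1035 c) (Nat.ble 1033 c)
noncomputable def Ptab_s_1035_1037 (c : Nat) : Nat := @Bool.rec (fun _ => Nat) (Ptab_1035) (Ptab_1036) (Nat.ble 1036 c)
noncomputable def Ptab_s_1038_1040 (c : Nat) : Nat := @Bool.rec (fun _ => Nat) (Ptab_1038) (Ptab_1039) (Nat.ble 1039 c)
noncomputable def Ptab_s_1037_1040 (c : Nat) : Nat := @Bool.rec (fun _ => Nat) (Ptab_1037) (Ptab_s_1038_1040 c) (Nat.ble 1038 c)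
noncomputable def Ptab_s_1035_1040 (c : Nat) : Nat := @Bool.rec (fun _ => Nat) (Ptab_s_1035_1037 c) (Ptab_s_1037_1040 c) (Nat.ble 1037 c)
noncomputable def Ptab_s_1031_1040 (c : Nat) : Nat := @Bool.rec (fun _ => Nat) (Ptab_s_1031_1035 c) (Ptab_s_1035_1040 c) (Nat.ble 1035 c)
noncomputable def Ptab_s_1040_1042 (c : Nat) : Nat := @Bool.rec (fun _ => Nat) (Ptab_1040) (Ptab_1041) (Nat.ble 1041 c)
noncomputable def Ptab_s_1043_1045 (c : Nat) : Nat := @Bool.rec (fun _ => Nat) (Ptab_1043) (Ptab_1044) (Nat.ble 1044 c)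
noncomputable def Ptab_s_1042_1045 (c : Nat) : Nat := @Bool.rec (fun _ => Nat) (Ptab_1042) (Ptab_s_1043_1045 c) (Nat.ble 1043 c)
noncomputable def Ptab_s_1040_1045 (c : Nat) : Nat := @Bool.rec (fun _ => Nat) (Ptab_s_1040_1042 c) (Ptab_s_1042_1045 c) (Nat.ble 1042 c)
noncomputable def Ptab_s_1045_1047 (c : Nat) : Nat := @Bool.rec (fun _ => Nat) (Ptab_1045) (Ptab_1046) (Nat.ble 1046 c)
noncomputable def Ptab_s_1048_1050 (c : Nat) : Nat := @Bool.rec (fun _ => Nat) (Ptab_1048) (Ptab_1049) (Nat.ble 1049 c)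
noncomputable def Ptab_s_1047_1050 (c : Nat) : Nat := @Bool.rec (fun _ => Nat) (Ptab_1047) (Ptab_s_1048_1050 c) (Nat.ble 1048 c)
noncomputable def Ptab_s_1045_1050 (c : Nat) : Nat := @Bool.rec (fun _ => Nat) (Ptab_s_1045_1047 c) (Ptab_s_1047_1050 c) (Nat.ble 1047 c)
noncomputable def Ptab_s_1040_1050 (c : Nat) : Nat := @Bool.rec (fun _ => Nat) (Ptab_s_1040_1045 c) (Ptab_s_1045_1050 c) (Nat.ble 1045 c)
noncomputable def Ptab_s_1031_1050 (c : Nat) : Nat := @Bool.rec (fun _ => Nat) (Ptab_s_1031_1040 c) (Ptab_s_1040_1050 c) (Nat.ble 1040 c)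
noncomputable def Ptab_s_1012_1050 (c : Nat) : Nat := @Bool.rec (fun _ => Nat) (Ptab_s_1012_1031 c) (Ptab_s_1031_1050 c) (Nat.ble 1031 c)
noncomputable def Ptab_s_975_1050 (c : Nat) : Nat := @Bool.rec (fun _ => Nat) (Ptab_s_975_1012 c) (Ptab_s_1012_1050 c) (Nat.ble 1012 c)
noncomputable def Ptab_s_900_1050 (c : Nat) : Nat := @Bool.rec (fun _ => Nat) (Ptab_s_900_975 c) (Ptab_s_975_1050 c) (Nat.ble 975 c)
noncomputable def Ptab_s_1050_1052 (c : Nat) : Nat := @Bool.rec (fun _ => Nat) (Ptab_1050) (Ptab_1051) (Nat.ble 1051 c)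
noncomputable def Ptab_s_1052_1054 (c : Nat) : Nat := @Bool.rec (fun _ => Nat) (Ptab_1052) (Ptab_1053) (Nat.ble 1053 c)
noncomputable def Ptab_s_1050_1054 (c : Nat) : Nat := @Bool.rec (fun _ => Nat) (Ptab_s_1050_1052 c) (Ptab_s_1052_1054 c) (Nat.ble 1052 c)
noncomputable def Ptab_s_1054_1056 (c : Nat) : Nat := @Bool.rec (fun _ => Nat) (Ptab_1054) (Ptab_1055) (Nat.ble 1055 c)
noncomputable def Ptab_s_1057_1059 (c : Nat) : Nat := @Bool.rec (fun _ => Nat) (Ptab_1057) (Ptab_1058) (Nat.ble 1058 c)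
noncomputable def Ptab_s_1056_1059 (c : Nat) : Nat := @Bool.rec (fun _ => Nat) (Ptab_1056) (Ptab_s_1057_1059 c) (Nat.ble 1057 c)
noncomputable def Ptab_s_1054_1059 (c : Nat) : Nat := @Bool.rec (fun _ => Nat) (Ptab_s_1054_1056 c) (Ptab_s_1056_1059 c) (Nat.ble 1056 c)
noncomputable def Ptab_s_1050_1059 (c : Nat) : Nat := @Bool.rec (fun _ => Nat) (Ptab_s_1050_1054 c) (Ptab_s_1054_1059 c) (Nat.ble 1054 c)
noncomputable def Ptab_s_1059_1061 (c : Nat) : Nat := @Bool.rec (fun _ => Nat) (Ptab_1059) (Ptab_1060) (Nat.ble 1060 c)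
noncomputable def Ptab_s_1061_1063 (c : Nat) : Nat := @Bool.rec (fun _ => Nat) (Ptab_1061) (Ptab_1062) (Nat.ble 1062 c)
noncomputable def Ptab_s_1059_1063 (c : Nat) : Nat := @Bool.rec (fun _ => Nat) (Ptab_s_1059_1061 c) (Ptab_s_1061_1063 c) (Nat.ble 1061 c)
noncomputable def Ptab_s_1063_1065 (c : Nat) : Nat := @Bool.rec (fun _ => Nat) (Ptab_1063) (Ptab_1064) (Nat.ble 1064 c)
noncomputable def Ptab_s_1066_1068 (c : Nat) : Nat := @Bool.rec (fun _ => Nat) (Ptab_1066) (Ptab_1067) (Nat.ble 1067 c)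
noncomputable def Ptab_s_1065_1068 (c : Nat) : Nat := @Bool.rec (fun _ => Nat) (Ptab_1065) (Ptab_s_1066_1068 c) (Nat.ble 1066 c)
noncomputable def Ptab_s_1063_1068 (c : Nat) : Nat := @Bool.rec (fun _ => Nat) (Ptab_s_1063_1065 c) (Ptab_s_1065_1068 c) (Nat.ble 1065 c)
noncomputable def Ptab_s_1059_1068 (c : Nat) : Nat := @Bool.rec (fun _ => Nat) (Ptab_s_1059_1063 c) (Ptab_s_1063_1068 c) (Nat.ble 1063 c)
noncomputable def Ptab_s_1050_1068 (c : Nat) : Nat := @Bool.rec (fun _ => Nat) (Ptab_s_1050_1059 c) (Ptab_s_1059_1068 c) (Nat.ble 1059 c)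
noncomputable def Ptab_s_1068_1070 (c : Nat) : Nat := @Bool.rec (fun _ => Nat) (Ptab_1068) (Ptab_1069) (Nat.ble 1069 c)
noncomputable def Ptab_s_1070_1072 (c : Nat) : Nat := @Bool.rec (fun _ => Nat) (Ptab_1070) (Ptab_1071) (Nat.ble 1071 c)
noncomputable def Ptab_s_1068_1072 (c : Nat) : Nat := @Bool.rec (fun _ => Nat) (Ptab_s_1068_1070 c) (Ptab_s_1070_1072 c) (Nat.ble 1070 c)
noncomputable def Ptab_s_1072_1074 (c : Nat) : Nat := @Bool.rec (fun _ => Nat) (Ptab_1072) (Ptab_1073) (Nat.ble 1073 c)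
noncomputable def Ptab_s_1075_1077 (c : Nat) : Nat := @Bool.rec (fun _ => Nat) (Ptab_1075) (Ptab_1076) (Nat.ble 1076 c)
noncomputable def Ptab_s_1074_1077 (c : Nat) : Nat := @Bool.rec (fun _ => Nat) (Ptab_1074) (Ptab_s_1075_1077 c) (Nat.ble 1075 c)
noncomputable def Ptab_s_1072_1077 (c : Nat) : Nat := @Bool.rec (fun _ => Nat) (Ptab_s_1072_1074 c) (Ptab_s_1074_1077 c) (Nat.ble 1074 c)
noncomputable def Ptab_s_1068_1077 (c : Nat) : Nat := @Bool.rec (fun _ => Nat) (Ptab_s_1068_1072 c) (Ptab_s_1072_1077 c) (Nat.ble 1072 c)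
noncomputable def Ptab_s_1077_1079 (c : Nat) : Nat := @Bool.rec (fun _ => Nat) (Ptab_1077) (Ptab_1078) (Nat.ble 1078 c)
noncomputable def Ptab_s_1080_1082 (c : Nat) : Nat := @Bool.rec (fun _ => Nat) (Ptab_1080) (Ptab_1081) (Nat.ble 1081 c)
noncomputable def Ptab_s_1079_1082 (c : Nat) : Nat := @Bool.rec (fun _ => Nat) (Ptab_1079) (Ptab_s_1080_1082 c) (Nat.ble 1080 c)
noncomputable def Ptab_s_1077_1082 (c : Nat) : Nat := @Bool.rec (fun _ => Nat) (Ptab_s_1077_1079 c) (Ptab_s_1079_1082 c) (Nat.ble 1079 c)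
noncomputable def Ptab_s_1082_1084 (c : Nat) : Nat := @Bool.rec (fun _ => Nat) (Ptab_1082) (Ptab_1083) (Nat.ble 1083 c)
noncomputable def Ptab_s_1085_1087 (c : Nat) : Nat := @Bool.rec (fun _ => Nat) (Ptab_1085) (Ptab_1086) (Nat.ble 1086 c)
noncomputable def Ptab_s_1084_1087 (c : Nat) : Nat := @Bool.rec (fun _ => Nat) (Ptab_1084) (Ptab_s_1085_1087 c) (Nat.ble 1085 c)
noncomputable def Ptab_s_1082_1087 (c : Nat) : Nat := @Bool.rec (fun _ => Nat) (Ptab_s_1082_1084 c) (Ptab_s_1084_1087 c) (Nat.ble 1084 c)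
noncomputable def Ptab_s_1077_1087 (c : Nat) : Nat := @Bool.rec (fun _ => Nat) (Ptab_s_1077_1082 c) (Ptab_s_1082_1087 c) (Nat.ble 1082 c)
noncomputable def Ptab_s_1068_1087 (c : Nat) : Nat := @Bool.rec (fun _ => Nat) (Ptab_s_1068_1077 c) (Ptab_s_1077_1087 c) (Nat.ble 1077 c)
noncomputable def Ptab_s_1050_1087 (c : Nat) : Nat := @Bool.rec (fun _ => Nat) (Ptab_s_1050_1068 c) (Ptab_s_1068_1087 c) (Nat.ble 1068 c)
noncomputable def Ptab_s_1087_1089 (c : Nat) : Nat := @Bool.rec (fun _ => Nat) (Ptab_1087) (Ptab_1088) (Nat.ble 1088 c)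
noncomputable def Ptab_s_1089_1091 (c : Nat) : Nat := @Bool.rec (fun _ => Nat) (Ptab_1089) (Ptab_1090) (Nat.ble 1090 c)
noncomputable def Ptab_s_1087_1091 (c : Nat) : Nat := @Bool.rec (fun _ => Nat) (Ptab_s_1087_1089 c) (Ptab_s_1089_1091 c) (Nat.ble 1089 c)
noncomputable def Ptab_s_1091_1093 (c : Nat) : Nat := @Bool.rec (fun _ => Nat) (Ptab_1091) (Ptab_1092) (Nat.ble 1092 c)
noncomputable def Ptab_s_1094_1096 (c : Nat) : Nat := @Bool.rec (fun _ => Nat) (Ptab_1094) (Ptab_1095) (Nat.ble 1095 c)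
noncomputable def Ptab_s_1093_1096 (c : Nat) : Nat := @Bool.rec (fun _ => Nat) (Ptab_1093) (Ptab_s_1094_1096 c) (Nat.ble 1094 c)
noncomputable def Ptab_s_1091_1096 (c : Nat) : Nat := @Bool.rec (fun _ => Nat) (Ptab_s_1091_1093 c) (Ptab_s_1093_1096 c) (Nat.ble 1093 c)
noncomputable def Ptab_s_1087_1096 (c : Nat) : Nat := @Bool.rec (fun _ => Nat) (Ptab_s_1087_1091 c) (Ptab_s_1091_1096 c) (Nat.ble 1091 c)
noncomputable def Ptab_s_1096_1098 (c : Nat) : Nat := @Bool.rec (fun _ => Nat) (Ptab_1096) (Ptab_1097) (Nat.ble 1097 c)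
noncomputable def Ptab_s_1099_1101 (c : Nat) : Nat := @Bool.rec (fun _ => Nat) (Ptab_1099) (Ptab_1100) (Nat.ble 1100 c)
noncomputable def Ptab_s_1098_1101 (c : Nat) : Nat := @Bool.rec (fun _ => Nat) (Ptab_1098) (Ptab_s_1099_1101 c) (Nat.ble 1099 c)
noncomputable def Ptab_s_1096_1101 (c : Nat) : Nat := @Bool.rec (fun _ => Nat) (Ptab_s_1096_1098 c) (Ptab_s_1098_1101 c) (Nat.ble 1098 c)
noncomputable def Ptab_s_1101_1103 (c : Nat) : Nat := @Bool.rec (fun _ => Nat) (Ptab_1101) (Ptab_1102) (Nat.ble 1102 c)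
noncomputable def Ptab_s_1104_1106 (c : Nat) : Nat := @Bool.rec (fun _ => Nat) (Ptab_1104) (Ptab_1105) (Nat.ble 1105 c)
noncomputable def Ptab_s_1103_1106 (c : Nat) : Nat := @Bool.rec (fun _ => Nat) (Ptab_1103) (Ptab_s_1104_1106 c) (Nat.ble 1104 c)
noncomputable def Ptab_s_1101_1106 (c : Nat) : Nat := @Bool.rec (fun _ => Nat) (Ptab_s_1101_1103 c) (Ptab_s_1103_1106 c) (Nat.ble 1103 c)
noncomputable def Ptab_s_1096_1106 (c : Nat) : Nat := @Bool.rec (fun _ => Nat) (Ptab_s_1096_1101 c) (Ptab_s_1101_1106 c) (Nat.ble 1101 c)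
noncomputable def Ptab_s_1087_1106 (c : Nat) : Nat := @Bool.rec (fun _ => Nat) (Ptab_s_1087_1096 c) (Ptab_s_1096_1106 c) (Nat.ble 1096 c)
noncomputable def Ptab_s_1106_1108 (c : Nat) : Nat := @Bool.rec (fun _ => Nat) (Ptab_1106) (Ptab_1107) (Nat.ble 1107 c)
noncomputable def Ptab_s_1108_1110 (c : Nat) : Nat := @Bool.rec (fun _ => Nat) (Ptab_1108) (Ptab_1109) (Nat.ble 1109 c)
noncomputable def Ptab_s_1106_1110 (c : Nat) : Nat := @Bool.rec (fun _ => Nat) (Ptab_s_1106_1108 c) (Ptab_s_1108_1110 c) (Nat.ble 1108 c)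
noncomputable def Ptab_s_1110_1112 (c : Nat) : Nat := @Bool.rec (fun _ => Nat) (Ptab_1110) (Ptab_1111) (Nat.ble 1111 c)
noncomputable def Ptab_s_1113_1115 (c : Nat) : Nat := @Bool.rec (fun _ => Nat) (Ptab_1113) (Ptab_1114) (Nat.ble 1114 c)
noncomputable def Ptab_s_1112_1115 (c : Nat) : Nat := @Bool.rec (fun _ => Nat) (Ptab_1112) (Ptab_s_1113_1115 c) (Nat.ble 1113 c)
noncomputable def Ptab_s_1110_1115 (c : Nat) : Nat := @Bool.rec (fun _ => Nat) (Ptab_s_1110_1112 c) (Ptab_s_1112_1115 c) (Nat.ble 1112 c)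
noncomputable def Ptab_s_1106_1115 (c : Nat) : Nat := @Bool.rec (fun _ => Nat) (Ptab_s_1106_1110 c) (Ptab_s_1110_1115 c) (Nat.ble 1110 c)
noncomputable def Ptab_s_1115_1117 (c : Nat) : Nat := @Bool.rec (fun _ => Nat) (Ptab_1115) (Ptab_1116) (Nat.ble 1116 c)
noncomputable def Ptab_s_1118_1120 (c : Nat) : Nat := @Bool.rec (fun _ => Nat) (Ptab_1118) (Ptab_1119) (Nat.ble 1119 c)
noncomputable def Ptab_s_1117_1120 (c : Nat) : Nat := @Bool.rec (fun _ => Nat) (Ptab_1117) (Ptab_s_1118_1120 c) (Nat.ble 1118 c)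
noncomputable def Ptab_s_1115_1120 (c : Nat) : Nat := @Bool.rec (fun _ => Nat) (Ptab_s_1115_1117 c) (Ptab_s_1117_1120 c) (Nat.ble 1117 c)
noncomputable def Ptab_s_1120_1122 (c : Nat) : Nat := @Bool.rec (fun _ => Nat) (Ptab_1120) (Ptab_1121) (Nat.ble 1121 c)
noncomputable def Ptab_s_1123_1125 (c : Nat) : Nat := @Bool.rec (fun _ => Nat) (Ptab_1123) (Ptab_1124) (Nat.ble 1124 c)
noncomputable def Ptab_s_1122_1125 (c : Nat) : Nat := @Bool.rec (fun _ => Nat) (Ptab_1122) (Ptab_s_1123_1125 c) (Nat.ble 1123 c)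
noncomputable def Ptab_s_1120_1125 (c : Nat) : Nat := @Bool.rec (fun _ => Nat) (Ptab_s_1120_1122 c) (Ptab_s_1122_1125 c) (Nat.ble 1122 c)
noncomputable def Ptab_s_1115_1125 (c : Nat) : Nat := @Bool.rec (fun _ => Nat) (Ptab_s_1115_1120 c) (Ptab_s_1120_1125 c) (Nat.ble 1120 c)
noncomputable def Ptab_s_1106_1125 (c : Nat) : Nat := @Bool.rec (fun _ => Nat) (Ptab_s_1106_1115 c) (Ptab_s_1115_1125 c) (Nat.ble 1115 c)
noncomputable def Ptab_s_1087_1125 (c : Nat) : Nat := @Bool.rec (fun _ => Nat) (Ptab_s_1087_1106 c) (Ptab_s_1106_1125 c) (Nat.ble 1106 c)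
noncomputable def Ptab_s_1050_1125 (c : Nat) : Nat := @Bool.rec (fun _ => Nat) (Ptab_s_1050_1087 c) (Ptab_s_1087_1125 c) (Nat.ble 1087 c)
noncomputable def Ptab_s_1125_1127 (c : Nat) : Nat := @Bool.rec (fun _ => Nat) (Ptab_1125) (Ptab_1126) (Nat.ble 1126 c)
noncomputable def Ptab_s_1127_1129 (c : Nat) : Nat := @Bool.rec (fun _ => Nat) (Ptab_1127) (Ptab_1128) (Nat.ble 1128 c)
noncomputable def Ptab_s_1125_1129 (c : Nat) : Nat := @Bool.rec (fun _ => Nat) (Ptab_s_1125_1127 c) (Ptab_s_1127_1129 c) (Nat.ble 1127 c)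
noncomputable def Ptab_s_1129_1131 (c : Nat) : Nat := @Bool.rec (fun _ => Nat) (Ptab_1129) (Ptab_1130) (Nat.ble 1130 c)
noncomputable def Ptab_s_1132_1134 (c : Nat) : Nat := @Bool.rec (fun _ => Nat) (Ptab_1132) (Ptab_1133) (Nat.ble 1133 c)
noncomputable def Ptab_s_1131_1134 (c : Nat) : Nat := @Bool.rec (fun _ => Nat) (Ptab_1131) (Ptab_s_1132_1134 c) (Nat.ble 1132 c)
noncomputable def Ptab_s_1129_1134 (c : Nat) : Nat := @Bool.rec (fun _ => Nat) (Ptab_s_1129_1131 c) (Ptab_s_1131_1134 c) (Nat.ble 1131 c)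
noncomputable def Ptab_s_1125_1134 (c : Nat) : Nat := @Bool.rec (fun _ => Nat) (Ptab_s_1125_1129 c) (Ptab_s_1129_1134 c) (Nat.ble 1129 c)
noncomputable def Ptab_s_1134_1136 (c : Nat) : Nat := @Bool.rec (fun _ => Nat) (Ptab_1134) (Ptab_1135) (Nat.ble 1135 c)
noncomputable def Ptab_s_1136_1138 (c : Nat) : Nat := @Bool.rec (fun _ => Nat) (Ptab_1136) (Ptab_1137) (Nat.ble 1137 c)
noncomputable def Ptab_s_1134_1138 (c : Nat) : Nat := @Bool.rec (fun _ => Nat) (Ptab_s_1134_1136 c) (Ptab_s_1136_1138 c) (Nat.ble 1136 c)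
noncomputable def Ptab_s_1138_1140 (c : Nat) : Nat := @Bool.rec (fun _ => Nat) (Ptab_1138) (Ptab_1139) (Nat.ble 1139 c)
noncomputable def Ptab_s_1141_1143 (c : Nat) : Nat := @Bool.rec (fun _ => Nat) (Ptab_1141) (Ptab_1142) (Nat.ble 1142 c)
noncomputable def Ptab_s_1140_1143 (c : Nat) : Nat := @Bool.rec (fun _ => Nat) (Ptab_1140) (Ptab_s_1141_1143 c) (Nat.ble 1141 c)
noncomputable def Ptab_s_1138_1143 (c : Nat) : Nat := @Bool.rec (fun _ => Nat) (Ptab_s_1138_1140 c) (Ptab_s_1140_1143 c) (Nat.ble 1140 c)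
noncomputable def Ptab_s_1134_1143 (c : Nat) : Nat := @Bool.rec (fun _ => Nat) (Ptab_s_1134_1138 c) (Ptab_s_1138_1143 c) (Nat.ble 1138 c)
noncomputable def Ptab_s_1125_1143 (c : Nat) : Nat := @Bool.rec (fun _ => Nat) (Ptab_s_1125_1134 c) (Ptab_s_1134_1143 c) (Nat.ble 1134 c)
noncomputable def Ptab_s_1143_1145 (c : Nat) : Nat := @Bool.rec (fun _ => Nat) (Ptab_1143) (Ptab_1144) (Nat.ble 1144 c)
noncomputable def Ptab_s_1145_1147 (c : Nat) : Nat := @Bool.rec (fun _ => Nat) (Ptab_1145) (Ptab_1146) (Nat.ble 1146 c)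
noncomputable def Ptab_s_1143_1147 (c : Nat) : Nat := @Bool.rec (fun _ => Nat) (Ptab_s_1143_1145 c) (Ptab_s_1145_1147 c) (Nat.ble 1145 c)
noncomputable def Ptab_s_1147_1149 (c : Nat) : Nat := @Bool.rec (fun _ => Nat) (Ptab_1147) (Ptab_1148) (Nat.ble 1148 c)
noncomputable def Ptab_s_1150_1152 (c : Nat) : Nat := @Bool.rec (fun _ => Nat) (Ptab_1150) (Ptab_1151) (Nat.ble 1151 c)
noncomputable def Ptab_s_1149_1152 (c : Nat) : Nat := @Bool.rec (fun _ => Nat) (Ptab_1149) (Ptab_s_1150_1152 c) (Nat.ble 1150 c)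
noncomputable def Ptab_s_1147_1152 (c : Nat) : Nat := @Bool.rec (fun _ => Nat) (Ptab_s_1147_1149 c) (Ptab_s_1149_1152 c) (Nat.ble 1149 c)
noncomputable def Ptab_s_1143_1152 (c : Nat) : Nat := @Bool.rec (fun _ => Nat) (Ptab_s_1143_1147 c) (Ptab_s_1147_1152 c) (Nat.ble 1147 c)
noncomputable def Ptab_s_1152_1154 (c : Nat) : Nat := @Bool.rec (fun _ => Nat) (Ptab_1152) (Ptab_1153) (Nat.ble 1153 c)
noncomputable def Ptab_s_1155_1157 (c : Nat) : Nat := @Bool.rec (fun _ => Nat) (Ptab_1155) (Ptab_1156) (Nat.ble 1156 c)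
noncomputable def Ptab_s_1154_1157 (c : Nat) : Nat := @Bool.rec (fun _ => Nat) (Ptab_1154) (Ptab_s_1155_1157 c) (Nat.ble 1155 c)
noncomputable def Ptab_s_1152_1157 (c : Nat) : Nat := @Bool.rec (fun _ => Nat) (Ptab_s_1152_1154 c) (Ptab_s_1154_1157 c) (Nat.ble 1154 c)
noncomputable def Ptab_s_1157_1159 (c : Nat) : Nat := @Bool.rec (fun _ => Nat) (Ptab_1157) (Ptab_1158) (Nat.ble 1158 c)
noncomputable def Ptab_s_1160_1162 (c : Nat) : Nat := @Bool.rec (fun _ => Nat) (Ptab_1160) (Ptab_1161) (Nat.ble 1161 c)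
noncomputable def Ptab_s_1159_1162 (c : Nat) : Nat := @Bool.rec (fun _ => Nat) (Ptab_1159) (Ptab_s_1160_1162 c) (Nat.ble 1160 c)
noncomputable def Ptab_s_1157_1162 (c : Nat) : Nat := @Bool.rec (fun _ => Nat) (Ptab_s_1157_1159 c) (Ptab_s_1159_1162 c) (Nat.ble 1159 c)
noncomputable def Ptab_s_1152_1162 (c : Nat) : Nat := @Bool.rec (fun _ => Nat) (Ptab_s_1152_1157 c) (Ptab_s_1157_1162 c) (Nat.ble 1157 c)
noncomputable def Ptab_s_1143_1162 (c : Nat) : Nat := @Bool.rec (fun _ => Nat) (Ptab_s_1143_1152 c) (Ptab_s_1152_1162 c) (Nat.ble 1152 c)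
noncomputable def Ptab_s_1125_1162 (c : Nat) : Nat := @Bool.rec (fun _ => Nat) (Ptab_s_1125_1143 c) (Ptab_s_1143_1162 c) (Nat.ble 1143 c)
noncomputable def Ptab_s_1162_1164 (c : Nat) : Nat := @Bool.rec (fun _ => Nat) (Ptab_1162) (Ptab_1163) (Nat.ble 1163 c)
noncomputable def Ptab_s_1164_1166 (c : Nat) : Nat := @Bool.rec (fun _ => Nat) (Ptab_1164) (Ptab_1165) (Nat.ble 1165 c)
noncomputable def Ptab_s_1162_1166 (c : Nat) : Nat := @Bool.rec (fun _ => Nat) (Ptab_s_1162_1164 c) (Ptab_s_1164_1166 c) (Nat.ble 1164 c)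
noncomputable def Ptab_s_1166_1168 (c : Nat) : Nat := @Bool.rec (fun _ => Nat) (Ptab_1166) (Ptab_1167) (Nat.ble 1167 c)
noncomputable def Ptab_s_1169_1171 (c : Nat) : Nat := @Bool.rec (fun _ => Nat) (Ptab_1169) (Ptab_1170) (Nat.ble 1170 c)
noncomputable def Ptab_s_1168_1171 (c : Nat) : Nat := @Bool.rec (fun _ => Nat) (Ptab_1168) (Ptab_s_1169_1171 c) (Nat.ble 1169 c)
noncomputable def Ptab_s_1166_1171 (c : Nat) : Nat := @Bool.rec (fun _ => Nat) (Ptab_s_1166_1168 c) (Ptab_s_1168_1171 c) (Nat.ble 1168 c)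
noncomputable def Ptab_s_1162_1171 (c : Nat) : Nat := @Bool.rec (fun _ => Nat) (Ptab_s_1162_1166 c) (Ptab_s_1166_1171 c) (Nat.ble 1166 c)
noncomputable def Ptab_s_1171_1173 (c : Nat) : Nat := @Bool.rec (fun _ => Nat) (Ptab_1171) (Ptab_1172) (Nat.ble 1172 c)
noncomputable def Ptab_s_1174_1176 (c : Nat) : Nat := @Bool.rec (fun _ => Nat) (Ptab_1174) (Ptab_1175) (Nat.ble 1175 c)
noncomputable def Ptab_s_1173_1176 (c : Nat) : Nat := @Bool.rec (fun _ => Nat) (Ptab_1173) (Ptab_s_1174_1176 c) (Nat.ble 1174 c)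
noncomputable def Ptab_s_1171_1176 (c : Nat) : Nat := @Bool.rec (fun _ => Nat) (Ptab_s_1171_1173 c) (Ptab_s_1173_1176 c) (Nat.ble 1173 c)
noncomputable def Ptab_s_1176_1178 (c : Nat) : Nat := @Bool.rec (fun _ => Nat) (Ptab_1176) (Ptab_1177) (Nat.ble 1177 c)
noncomputable def Ptab_s_1179_1181 (c : Nat) : Nat := @Bool.rec (fun _ => Nat) (Ptab_1179) (Ptab_1180) (Nat.ble 1180 c)
noncomputable def Ptab_s_1178_1181 (c : Nat) : Nat := @Bool.rec (fun _ => Nat) (Ptab_1178) (Ptab_s_1179_1181 c) (Nat.ble 1179 c)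
noncomputable def Ptab_s_1176_1181 (c : Nat) : Nat := @Bool.rec (fun _ => Nat) (Ptab_s_1176_1178 c) (Ptab_s_1178_1181 c) (Nat.ble 1178 c)
noncomputable def Ptab_s_1171_1181 (c : Nat) : Nat := @Bool.rec (fun _ => Nat) (Ptab_s_1171_1176 c) (Ptab_s_1176_1181 c) (Nat.ble 1176 c)
noncomputable def Ptab_s_1162_1181 (c : Nat) : Nat := @Bool.rec (fun _ => Nat) (Ptab_s_1162_1171 c) (Ptab_s_1171_1181 c) (Nat.ble 1171 c)
noncomputable def Ptab_s_1181_1183 (c : Nat) : Nat := @Bool.rec (fun _ => Nat) (Ptab_1181) (Ptab_1182) (Nat.ble 1182 c)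
noncomputable def Ptab_s_1183_1185 (c : Nat) : Nat := @Bool.rec (fun _ => Nat) (Ptab_1183) (Ptab_1184) (Nat.ble 1184 c)
noncomputable def Ptab_s_1181_1185 (c : Nat) : Nat := @Bool.rec (fun _ => Nat) (Ptab_s_1181_1183 c) (Ptab_s_1183_1185 c) (Nat.ble 1183 c)
noncomputable def Ptab_s_1185_1187 (c : Nat) : Nat := @Bool.rec (fun _ => Nat) (Ptab_1185) (Ptab_1186) (Nat.ble 1186 c)
noncomputable def Ptab_s_1188_1190 (c : Nat) : Nat := @Bool.rec (fun _ => Nat) (Ptab_1188) (Ptab_1189) (Nat.ble 1189 c)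
noncomputable def Ptab_s_1187_1190 (c : Nat) : Nat := @Bool.rec (fun _ => Nat) (Ptab_1187) (Ptab_s_1188_1190 c) (Nat.ble 1188 c)
noncomputable def Ptab_s_1185_1190 (c : Nat) : Nat := @Bool.rec (fun _ => Nat) (Ptab_s_1185_1187 c) (Ptab_s_1187_1190 c) (Nat.ble 1187 c)
noncomputable def Ptab_s_1181_1190 (c : Nat) : Nat := @Bool.rec (fun _ => Nat) (Ptab_s_1181_1185 c) (Ptab_s_1185_1190 c) (Nat.ble 1185 c)
noncomputable def Ptab_s_1190_1192 (c : Nat) : Nat := @Bool.rec (fun _ => Nat) (Ptab_1190) (Ptab_1191) (Nat.ble 1191 c)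
noncomputable def Ptab_s_1193_1195 (c : Nat) : Nat := @Bool.rec (fun _ => Nat) (Ptab_1193) (Ptab_1194) (Nat.ble 1194 c)
noncomputable def Ptab_s_1192_1195 (c : Nat) : Nat := @Bool.rec (fun _ => Nat) (Ptab_1192) (Ptab_s_1193_1195 c) (Nat.ble 1193 c)
noncomputable def Ptab_s_1190_1195 (c : Nat) : Nat := @Bool.rec (fun _ => Nat) (Ptab_s_1190_1192 c) (Ptab_s_1192_1195 c) (Nat.ble 1192 c)
noncomputable def Ptab_s_1195_1197 (c : Nat) : Nat := @Bool.rec (fun _ => Nat) (Ptab_1195) (Ptab_1196) (Nat.ble 1196 c)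
noncomputable def Ptab_s_1198_1200 (c : Nat) : Nat := @Bool.rec (fun _ => Nat) (Ptab_1198) (Ptab_1199) (Nat.ble 1199 c)
noncomputable def Ptab_s_1197_1200 (c : Nat) : Nat := @Bool.rec (fun _ => Nat) (Ptab_1197) (Ptab_s_1198_1200 c) (Nat.ble 1198 c)
noncomputable def Ptab_s_1195_1200 (c : Nat) : Nat := @Bool.rec (fun _ => Nat) (Ptab_s_1195_1197 c) (Ptab_s_1197_1200 c) (Nat.ble 1197 c)
noncomputable def Ptab_s_1190_1200 (c : Nat) : Nat := @Bool.rec (fun _ => Nat) (Ptab_s_1190_1195 c) (Ptab_s_1195_1200 c) (Nat.ble 1195 c)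
noncomputable def Ptab_s_1181_1200 (c : Nat) : Nat := @Bool.rec (fun _ => Nat) (Ptab_s_1181_1190 c) (Ptab_s_1190_1200 c) (Nat.ble 1190 c)
noncomputable def Ptab_s_1162_1200 (c : Nat) : Nat := @Bool.rec (fun _ => Nat) (Ptab_s_1162_1181 c) (Ptab_s_1181_1200 c) (Nat.ble 1181 c)
noncomputable def Ptab_s_1125_1200 (c : Nat) : Nat := @Bool.rec (fun _ => Nat) (Ptab_s_1125_1162 c) (Ptab_s_1162_1200 c) (Nat.ble 1162 c)
noncomputable def Ptab_s_1050_1200 (c : Nat) : Nat := @Bool.rec (fun _ => Nat) (Ptab_s_1050_1125 c) (Ptab_s_1125_1200 c) (Nat.ble 1125 c)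
noncomputable def Ptab_s_900_1200 (c : Nat) : Nat := @Bool.rec (fun _ => Nat) (Ptab_s_900_1050 c) (Ptab_s_1050_1200 c) (Nat.ble 1050 c)
noncomputable def Ptab_s_600_1200 (c : Nat) : Nat := @Bool.rec (fun _ => Nat) (Ptab_s_600_900 c) (Ptab_s_900_1200 c) (Nat.ble 900 c)
noncomputable def Ptab_s_0_1200 (c : Nat) : Nat := @Bool.rec (fun _ => Nat) (Ptab_s_0_600 c) (Ptab_s_600_1200 c) (Nat.ble 600 c)
noncomputable def Ptab_s_1200_1202 (c : Nat) : Nat := @Bool.rec (fun _ => Nat) (Ptab_1200) (Ptab_1201) (Nat.ble 1201 c)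
noncomputable def Ptab_s_1202_1204 (c : Nat) : Nat := @Bool.rec (fun _ => Nat) (Ptab_1202) (Ptab_1203) (Nat.ble 1203 c)
noncomputable def Ptab_s_1200_1204 (c : Nat) : Nat := @Bool.rec (fun _ => Nat) (Ptab_s_1200_1202 c) (Ptab_s_1202_1204 c) (Nat.ble 1202 c)
noncomputable def Ptab_s_1204_1206 (c : Nat) : Nat := @Bool.rec (fun _ => Nat) (Ptab_1204) (Ptab_1205) (Nat.ble 1205 c)
noncomputable def Ptab_s_1207_1209 (c : Nat) : Nat := @Bool.rec (fun _ => Nat) (Ptab_1207) (Ptab_1208) (Nat.ble 1208 c)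
noncomputable def Ptab_s_1206_1209 (c : Nat) : Nat := @Bool.rec (fun _ => Nat) (Ptab_1206) (Ptab_s_1207_1209 c) (Nat.ble 1207 c)
noncomputable def Ptab_s_1204_1209 (c : Nat) : Nat := @Bool.rec (fun _ => Nat) (Ptab_s_1204_1206 c) (Ptab_s_1206_1209 c) (Nat.ble 1206 c)
noncomputable def Ptab_s_1200_1209 (c : Nat) : Nat := @Bool.rec (fun _ => Nat) (Ptab_s_1200_1204 c) (Ptab_s_1204_1209 c) (Nat.ble 1204 c)
noncomputable def Ptab_s_1209_1211 (c : Nat) : Nat := @Bool.rec (fun _ => Nat) (Ptab_1209) (Ptab_1210) (Nat.ble 1210 c)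
noncomputable def Ptab_s_1211_1213 (c : Nat) : Nat := @Bool.rec (fun _ => Nat) (Ptab_1211) (Ptab_1212) (Nat.ble 1212 c)
noncomputable def Ptab_s_1209_1213 (c : Nat) : Nat := @Bool.rec (fun _ => Nat) (Ptab_s_1209_1211 c) (Ptab_s_1211_1213 c) (Nat.ble 1211 c)
noncomputable def Ptab_s_1213_1215 (c : Nat) : Nat := @Bool.rec (fun _ => Nat) (Ptab_1213) (Ptab_1214) (Nat.ble 1214 c)
noncomputable def Ptab_s_1216_1218 (c : Nat) : Nat := @Bool.rec (fun _ => Nat) (Ptab_1216) (Ptab_1217) (Nat.ble 1217 c)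
noncomputable def Ptab_s_1215_1218 (c : Nat) : Nat := @Bool.rec (fun _ => Nat) (Ptab_1215) (Ptab_s_1216_1218 c) (Nat.ble 1216 c)
noncomputable def Ptab_s_1213_1218 (c : Nat) : Nat := @Bool.rec (fun _ => Nat) (Ptab_s_1213_1215 c) (Ptab_s_1215_1218 c) (Nat.ble 1215 c)
noncomputable def Ptab_s_1209_1218 (c : Nat) : Nat := @Bool.rec (fun _ => Nat) (Ptab_s_1209_1213 c) (Ptab_s_1213_1218 c) (Nat.ble 1213 c)
noncomputable def Ptab_s_1200_1218 (c : Nat) : Nat := @Bool.rec (fun _ => Nat) (Ptab_s_1200_1209 c) (Ptab_s_1209_1218 c) (Nat.ble 1209 c)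
noncomputable def Ptab_s_1218_1220 (c : Nat) : Nat := @Bool.rec (fun _ => Nat) (Ptab_1218) (Ptab_1219) (Nat.ble 1219 c)
noncomputable def Ptab_s_1220_1222 (c : Nat) : Nat := @Bool.rec (fun _ => Nat) (Ptab_1220) (Ptab_1221) (Nat.ble 1221 c)
noncomputable def Ptab_s_1218_1222 (c : Nat) : Nat := @Bool.rec (fun _ => Nat) (Ptab_s_1218_1220 c) (Ptab_s_1220_1222 c) (Nat.ble 1220 c)
noncomputable def Ptab_s_1222_1224 (c : Nat) : Nat := @Bool.rec (fun _ => Nat) (Ptab_1222) (Ptab_1223) (Nat.ble 1223 c)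
noncomputable def Ptab_s_1225_1227 (c : Nat) : Nat := @Bool.rec (fun _ => Nat) (Ptab_1225) (Ptab_1226) (Nat.ble 1226 c)
noncomputable def Ptab_s_1224_1227 (c : Nat) : Nat := @Bool.rec (fun _ => Nat) (Ptab_1224) (Ptab_s_1225_1227 c) (Nat.ble 1225 c)
noncomputable def Ptab_s_1222_1227 (c : Nat) : Nat := @Bool.rec (fun _ => Nat) (Ptab_s_1222_1224 c) (Ptab_s_1224_1227 c) (Nat.ble 1224 c)
noncomputable def Ptab_s_1218_1227 (c : Nat) : Nat := @Bool.rec (fun _ => Nat) (Ptab_s_1218_1222 c) (Ptab_s_1222_1227 c) (Nat.ble 1222 c)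
noncomputable def Ptab_s_1227_1229 (c : Nat) : Nat := @Bool.rec (fun _ => Nat) (Ptab_1227) (Ptab_1228) (Nat.ble 1228 c)
noncomputable def Ptab_s_1230_1232 (c : Nat) : Nat := @Bool.rec (fun _ => Nat) (Ptab_1230) (Ptab_1231) (Nat.ble 1231 c)
noncomputable def Ptab_s_1229_1232 (c : Nat) : Nat := @Bool.rec (fun _ => Nat) (Ptab_1229) (Ptab_s_1230_1232 c) (Nat.ble 1230 c)
noncomputable def Ptab_s_1227_1232 (c : Nat) : Nat := @Bool.rec (fun _ => Nat) (Ptab_s_1227_1229 c) (Ptab_s_1229_1232 c) (Nat.ble 1229 c)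
noncomputable def Ptab_s_1232_1234 (c : Nat) : Nat := @Bool.rec (fun _ => Nat) (Ptab_1232) (Ptab_1233) (Nat.ble 1233 c)
noncomputable def Ptab_s_1235_1237 (c : Nat) : Nat := @Bool.rec (fun _ => Nat) (Ptab_1235) (Ptab_1236) (Nat.ble 1236 c)
noncomputable def Ptab_s_1234_1237 (c : Nat) : Nat := @Bool.rec (fun _ => Nat) (Ptab_1234) (Ptab_s_1235_1237 c) (Nat.ble 1235 c)
noncomputable def Ptab_s_1232_1237 (c : Nat) : Nat := @Bool.rec (fun _ => Nat) (Ptab_s_1232_1234 c) (Ptab_s_1234_1237 c) (Nat.ble 1234 c)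
noncomputable def Ptab_s_1227_1237 (c : Nat) : Nat := @Bool.rec (fun _ => Nat) (Ptab_s_1227_1232 c) (Ptab_s_1232_1237 c) (Nat.ble 1232 c)
noncomputable def Ptab_s_1218_1237 (c : Nat) : Nat := @Bool.rec (fun _ => Nat) (Ptab_s_1218_1227 c) (Ptab_s_1227_1237 c) (Nat.ble 1227 c)
noncomputable def Ptab_s_1200_1237 (c : Nat) : Nat := @Bool.rec (fun _ => Nat) (Ptab_s_1200_1218 c) (Ptab_s_1218_1237 c) (Nat.ble 1218 c)
noncomputable def Ptab_s_1237_1239 (c : Nat) : Nat := @Bool.rec (fun _ => Nat) (Ptab_1237) (Ptab_1238) (Nat.ble 1238 c)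
noncomputable def Ptab_s_1239_1241 (c : Nat) : Nat := @Bool.rec (fun _ => Nat) (Ptab_1239) (Ptab_1240) (Nat.ble 1240 c)
noncomputable def Ptab_s_1237_1241 (c : Nat) : Nat := @Bool.rec (fun _ => Nat) (Ptab_s_1237_1239 c) (Ptab_s_1239_1241 c) (Nat.ble 1239 c)
noncomputable def Ptab_s_1241_1243 (c : Nat) : Nat := @Bool.rec (fun _ => Nat) (Ptab_1241) (Ptab_1242) (Nat.ble 1242 c)
noncomputable def Ptab_s_1244_1246 (c : Nat) : Nat := @Bool.rec (fun _ => Nat) (Ptab_1244) (Ptab_1245) (Nat.ble 1245 c)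
noncomputable def Ptab_s_1243_1246 (c : Nat) : Nat := @Bool.rec (fun _ => Nat) (Ptab_1243) (Ptab_s_1244_1246 c) (Nat.ble 1244 c)
noncomputable def Ptab_s_1241_1246 (c : Nat) : Nat := @Bool.rec (fun _ => Nat) (Ptab_s_1241_1243 c) (Ptab_s_1243_1246 c) (Nat.ble 1243 c)
noncomputable def Ptab_s_1237_1246 (c : Nat) : Nat := @Bool.rec (fun _ => Nat) (Ptab_s_1237_1241 c) (Ptab_s_1241_1246 c) (Nat.ble 1241 c)
noncomputable def Ptab_s_1246_1248 (c : Nat) : Nat := @Bool.rec (fun _ => Nat) (Ptab_1246) (Ptab_1247) (Nat.ble 1247 c)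
noncomputable def Ptab_s_1249_1251 (c : Nat) : Nat := @Bool.rec (fun _ => Nat) (Ptab_1249) (Ptab_1250) (Nat.ble 1250 c)
noncomputable def Ptab_s_1248_1251 (c : Nat) : Nat := @Bool.rec (fun _ => Nat) (Ptab_1248) (Ptab_s_1249_1251 c) (Nat.ble 1249 c)
noncomputable def Ptab_s_1246_1251 (c : Nat) : Nat := @Bool.rec (fun _ => Nat) (Ptab_s_1246_1248 c) (Ptab_s_1248_1251 c) (Nat.ble 1248 c)
noncomputable def Ptab_s_1251_1253 (c : Nat) : Nat := @Bool.rec (fun _ => Nat) (Ptab_1251) (Ptab_1252) (Nat.ble 1252 c)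
noncomputable def Ptab_s_1254_1256 (c : Nat) : Nat := @Bool.rec (fun _ => Nat) (Ptab_1254) (Ptab_1255) (Nat.ble 1255 c)
noncomputable def Ptab_s_1253_1256 (c : Nat) : Nat := @Bool.rec (fun _ => Nat) (Ptab_1253) (Ptab_s_1254_1256 c) (Nat.ble 1254 c)
noncomputable def Ptab_s_1251_1256 (c : Nat) : Nat := @Bool.rec (fun _ => Nat) (Ptab_s_1251_1253 c) (Ptab_s_1253_1256 c) (Nat.ble 1253 c)
noncomputable def Ptab_s_1246_1256 (c : Nat) : Nat := @Bool.rec (fun _ => Nat) (Ptab_s_1246_1251 c) (Ptab_s_1251_1256 c) (Nat.ble 1251 c)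
noncomputable def Ptab_s_1237_1256 (c : Nat) : Nat := @Bool.rec (fun _ => Nat) (Ptab_s_1237_1246 c) (Ptab_s_1246_1256 c) (Nat.ble 1246 c)
noncomputable def Ptab_s_1256_1258 (c : Nat) : Nat := @Bool.rec (fun _ => Nat) (Ptab_1256) (Ptab_1257) (Nat.ble 1257 c)
noncomputable def Ptab_s_1258_1260 (c : Nat) : Nat := @Bool.rec (fun _ => Nat) (Ptab_1258) (Ptab_1259) (Nat.ble 1259 c)
noncomputable def Ptab_s_1256_1260 (c : Nat) : Nat := @Bool.rec (fun _ => Nat) (Ptab_s_1256_1258 c) (Ptab_s_1258_1260 c) (Nat.ble 1258 c)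
noncomputable def Ptab_s_1260_1262 (c : Nat) : Nat := @Bool.rec (fun _ => Nat) (Ptab_1260) (Ptab_1261) (Nat.ble 1261 c)
noncomputable def Ptab_s_1263_1265 (c : Nat) : Nat := @Bool.rec (fun _ => Nat) (Ptab_1263) (Ptab_1264) (Nat.ble 1264 c)
noncomputable def Ptab_s_1262_1265 (c : Nat) : Nat := @Bool.rec (fun _ => Nat) (Ptab_1262) (Ptab_s_1263_1265 c) (Nat.ble 1263 c)
noncomputable def Ptab_s_1260_1265 (c : Nat) : Nat := @Bool.rec (fun _ => Nat) (Ptab_s_1260_1262 c) (Ptab_s_1262_1265 c) (Nat.ble 1262 c)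
noncomputable def Ptab_s_1256_1265 (c : Nat) : Nat := @Bool.rec (fun _ => Nat) (Ptab_s_1256_1260 c) (Ptab_s_1260_1265 c) (Nat.ble 1260 c)
noncomputable def Ptab_s_1265_1267 (c : Nat) : Nat := @Bool.rec (fun _ => Nat) (Ptab_1265) (Ptab_1266) (Nat.ble 1266 c)
noncomputable def Ptab_s_1268_1270 (c : Nat) : Nat := @Bool.rec (fun _ => Nat) (Ptab_1268) (Ptab_1269) (Nat.ble 1269 c)
noncomputable def Ptab_s_1267_1270 (c : Nat) : Nat := @Bool.rec (fun _ => Nat) (Ptab_1267) (Ptab_s_1268_1270 c) (Nat.ble 1268 c)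
noncomputable def Ptab_s_1265_1270 (c : Nat) : Nat := @Bool.rec (fun _ => Nat) (Ptab_s_1265_1267 c) (Ptab_s_1267_1270 c) (Nat.ble 1267 c)
noncomputable def Ptab_s_1270_1272 (c : Nat) : Nat := @Bool.rec (fun _ => Nat) (Ptab_1270) (Ptab_1271) (Nat.ble 1271 c)
noncomputable def Ptab_s_1273_1275 (c : Nat) : Nat := @Bool.rec (fun _ => Nat) (Ptab_1273) (Ptab_1274) (Nat.ble 1274 c)
noncomputable def Ptab_s_1272_1275 (c : Nat) : Nat := @Bool.rec (fun _ => Nat) (Ptab_1272) (Ptab_s_1273_1275 c) (Nat.ble 1273 c)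
noncomputable def Ptab_s_1270_1275 (c : Nat) : Nat := @Bool.rec (fun _ => Nat) (Ptab_s_1270_1272 c) (Ptab_s_1272_1275 c) (Nat.ble 1272 c)
noncomputable def Ptab_s_1265_1275 (c : Nat) : Nat := @Bool.rec (fun _ => Nat) (Ptab_s_1265_1270 c) (Ptab_s_1270_1275 c) (Nat.ble 1270 c)
noncomputable def Ptab_s_1256_1275 (c : Nat) : Nat := @Bool.rec (fun _ => Nat) (Ptab_s_1256_1265 c) (Ptab_s_1265_1275 c) (Nat.ble 1265 c)
noncomputable def Ptab_s_1237_1275 (c : Nat) : Nat := @Bool.rec (fun _ => Nat) (Ptab_s_1237_1256 c) (Ptab_s_1256_1275 c) (Nat.ble 1256 c)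
noncomputable def Ptab_s_1200_1275 (c : Nat) : Nat := @Bool.rec (fun _ => Nat) (Ptab_s_1200_1237 c) (Ptab_s_1237_1275 c) (Nat.ble 1237 c)
noncomputable def Ptab_s_1275_1277 (c : Nat) : Nat := @Bool.rec (fun _ => Nat) (Ptab_1275) (Ptab_1276) (Nat.ble 1276 c)
noncomputable def Ptab_s_1277_1279 (c : Nat) : Nat := @Bool.rec (fun _ => Nat) (Ptab_1277) (Ptab_1278) (Nat.ble 1278 c)
noncomputable def Ptab_s_1275_1279 (c : Nat) : Nat := @Bool.rec (fun _ => Nat) (Ptab_s_1275_1277 c) (Ptab_s_1277_1279 c) (Nat.ble 1277 c)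
noncomputable def Ptab_s_1279_1281 (c : Nat) : Nat := @Bool.rec (fun _ => Nat) (Ptab_1279) (Ptab_1280) (Nat.ble 1280 c)
noncomputable def Ptab_s_1282_1284 (c : Nat) : Nat := @Bool.rec (fun _ => Nat) (Ptab_1282) (Ptab_1283) (Nat.ble 1283 c)
noncomputable def Ptab_s_1281_1284 (c : Nat) : Nat := @Bool.rec (fun _ => Nat) (Ptab_1281) (Ptab_s_1282_1284 c) (Nat.ble 1282 c)
noncomputable def Ptab_s_1279_1284 (c : Nat) : Nat := @Bool.rec (fun _ => Nat) (Ptab_s_1279_1281 c) (Ptab_s_1281_1284 c) (Nat.ble 1281 c)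
noncomputable def Ptab_s_1275_1284 (c : Nat) : Nat := @Bool.rec (fun _ => Nat) (Ptab_s_1275_1279 c) (Ptab_s_1279_1284 c) (Nat.ble 1279 c)
noncomputable def Ptab_s_1284_1286 (c : Nat) : Nat := @Bool.rec (fun _ => Nat) (Ptab_1284) (Ptab_1285) (Nat.ble 1285 c)
noncomputable def Ptab_s_1286_1288 (c : Nat) : Nat := @Bool.rec (fun _ => Nat) (Ptab_1286) (Ptab_1287) (Nat.ble 1287 c)
noncomputable def Ptab_s_1284_1288 (c : Nat) : Nat := @Bool.rec (fun _ => Nat) (Ptab_s_1284_1286 c) (Ptab_s_1286_1288 c) (Nat.ble 1286 c)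
noncomputable def Ptab_s_1288_1290 (c : Nat) : Nat := @Bool.rec (fun _ => Nat) (Ptab_1288) (Ptab_1289) (Nat.ble 1289 c)
noncomputable def Ptab_s_1291_1293 (c : Nat) : Nat := @Bool.rec (fun _ => Nat) (Ptab_1291) (Ptab_1292) (Nat.ble 1292 c)
noncomputable def Ptab_s_1290_1293 (c : Nat) : Nat := @Bool.rec (fun _ => Nat) (Ptab_1290) (Ptab_s_1291_1293 c) (Nat.ble 1291 c)
noncomputable def Ptab_s_1288_1293 (c : Nat) : Nat := @Bool.rec (fun _ => Nat) (Ptab_s_1288_1290 c) (Ptab_s_1290_1293 c) (Nat.ble 1290 c)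
noncomputable def Ptab_s_1284_1293 (c : Nat) : Nat := @Bool.rec (fun _ => Nat) (Ptab_s_1284_1288 c) (Ptab_s_1288_1293 c) (Nat.ble 1288 c)
noncomputable def Ptab_s_1275_1293 (c : Nat) : Nat := @Bool.rec (fun _ => Nat) (Ptab_s_1275_1284 c) (Ptab_s_1284_1293 c) (Nat.ble 1284 c)
noncomputable def Ptab_s_1293_1295 (c : Nat) : Nat := @Bool.rec (fun _ => Nat) (Ptab_1293) (Ptab_1294) (Nat.ble 1294 c)
noncomputable def Ptab_s_1295_1297 (c : Nat) : Nat := @Bool.rec (fun _ => Nat) (Ptab_1295) (Ptab_1296) (Nat.ble 1296 c)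
noncomputable def Ptab_s_1293_1297 (c : Nat) : Nat := @Bool.rec (fun _ => Nat) (Ptab_s_1293_1295 c) (Ptab_s_1295_1297 c) (Nat.ble 1295 c)
noncomputable def Ptab_s_1297_1299 (c : Nat) : Nat := @Bool.rec (fun _ => Nat) (Ptab_1297) (Ptab_1298) (Nat.ble 1298 c)
noncomputable def Ptab_s_1300_1302 (c : Nat) : Nat := @Bool.rec (fun _ => Nat) (Ptab_1300) (Ptab_1301) (Nat.ble 1301 c)
noncomputable def Ptab_s_1299_1302 (c : Nat) : Nat := @Bool.rec (fun _ => Nat) (Ptab_1299) (Ptab_s_1300_1302 c) (Nat.ble 1300 c)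
noncomputable def Ptab_s_1297_1302 (c : Nat) : Nat := @Bool.rec (fun _ => Nat) (Ptab_s_1297_1299 c) (Ptab_s_1299_1302 c) (Nat.ble 1299 c)
noncomputable def Ptab_s_1293_1302 (c : Nat) : Nat := @Bool.rec (fun _ => Nat) (Ptab_s_1293_1297 c) (Ptab_s_1297_1302 c) (Nat.ble 1297 c)
noncomputable def Ptab_s_1302_1304 (c : Nat) : Nat := @Bool.rec (fun _ => Nat) (Ptab_1302) (Ptab_1303) (Nat.ble 1303 c)
noncomputable def Ptab_s_1305_1307 (c : Nat) : Nat := @Bool.rec (fun _ => Nat) (Ptab_1305) (Ptab_1306) (Nat.ble 1306 c)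
noncomputable def Ptab_s_1304_1307 (c : Nat) : Nat := @Bool.rec (fun _ => Nat) (Ptab_1304) (Ptab_s_1305_1307 c) (Nat.ble 1305 c)
noncomputable def Ptab_s_1302_1307 (c : Nat) : Nat := @Bool.rec (fun _ => Nat) (Ptab_s_1302_1304 c) (Ptab_s_1304_1307 c) (Nat.ble 1304 c)
noncomputable def Ptab_s_1307_1309 (c : Nat) : Nat := @Bool.rec (fun _ => Nat) (Ptab_1307) (Ptab_1308) (Nat.ble 1308 c)
noncomputable def Ptab_s_1310_1312 (c : Nat) : Nat := @Bool.rec (fun _ => Nat) (Ptab_1310) (Ptab_1311) (Nat.ble 1311 c)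
noncomputable def Ptab_s_1309_1312 (c : Nat) : Nat := @Bool.rec (fun _ => Nat) (Ptab_1309) (Ptab_s_1310_1312 c) (Nat.ble 1310 c)
noncomputable def Ptab_s_1307_1312 (c : Nat) : Nat := @Bool.rec (fun _ => Nat) (Ptab_s_1307_1309 c) (Ptab_s_1309_1312 c) (Nat.ble 1309 c)
noncomputable def Ptab_s_1302_1312 (c : Nat) : Nat := @Bool.rec (fun _ => Nat) (Ptab_s_1302_1307 c) (Ptab_s_1307_1312 c) (Nat.ble 1307 c)
noncomputable def Ptab_s_1293_1312 (c : Nat) : Nat := @Bool.rec (fun _ => Nat) (Ptab_s_1293_1302 c) (Ptab_s_1302_1312 c) (Nat.ble 1302 c)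
noncomputable def Ptab_s_1275_1312 (c : Nat) : Nat := @Bool.rec (fun _ => Nat) (Ptab_s_1275_1293 c) (Ptab_s_1293_1312 c) (Nat.ble 1293 c)
noncomputable def Ptab_s_1312_1314 (c : Nat) : Nat := @Bool.rec (fun _ => Nat) (Ptab_1312) (Ptab_1313) (Nat.ble 1313 c)
noncomputable def Ptab_s_1314_1316 (c : Nat) : Nat := @Bool.rec (fun _ => Nat) (Ptab_1314) (Ptab_1315) (Nat.ble 1315 c)
noncomputable def Ptab_s_1312_1316 (c : Nat) : Nat := @Bool.rec (fun _ => Nat) (Ptab_s_1312_1314 c) (Ptab_s_1314_1316 c) (Nat.ble 1314 c)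
noncomputable def Ptab_s_1316_1318 (c : Nat) : Nat := @Bool.rec (fun _ => Nat) (Ptab_1316) (Ptab_1317) (Nat.ble 1317 c)
noncomputable def Ptab_s_1319_1321 (c : Nat) : Nat := @Bool.rec (fun _ => Nat) (Ptab_1319) (Ptab_1320) (Nat.ble 1320 c)
noncomputable def Ptab_s_1318_1321 (c : Nat) : Nat := @Bool.rec (fun _ => Nat) (Ptab_1318) (Ptab_s_1319_1321 c) (Nat.ble 1319 c)
noncomputable def Ptab_s_1316_1321 (c : Nat) : Nat := @Bool.rec (fun _ => Nat) (Ptab_s_1316_1318 c) (Ptab_s_1318_1321 c) (Nat.ble 1318 c)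
noncomputable def Ptab_s_1312_1321 (c : Nat) : Nat := @Bool.rec (fun _ => Nat) (Ptab_s_1312_1316 c) (Ptab_s_1316_1321 c) (Nat.ble 1316 c)
noncomputable def Ptab_s_1321_1323 (c : Nat) : Nat := @Bool.rec (fun _ => Nat) (Ptab_1321) (Ptab_1322) (Nat.ble 1322 c)
noncomputable def Ptab_s_1324_1326 (c : Nat) : Nat := @Bool.rec (fun _ => Nat) (Ptab_1324) (Ptab_1325) (Nat.ble 1325 c)
noncomputable def Ptab_s_1323_1326 (c : Nat) : Nat := @Bool.rec (fun _ => Nat) (Ptab_1323) (Ptab_s_1324_1326 c) (Nat.ble 1324 c)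
noncomputable def Ptab_s_1321_1326 (c : Nat) : Nat := @Bool.rec (fun _ => Nat) (Ptab_s_1321_1323 c) (Ptab_s_1323_1326 c) (Nat.ble 1323 c)
noncomputable def Ptab_s_1326_1328 (c : Nat) : Nat := @Bool.rec (fun _ => Nat) (Ptab_1326) (Ptab_1327) (Nat.ble 1327 c)
noncomputable def Ptab_s_1329_1331 (c : Nat) : Nat := @Bool.rec (fun _ => Nat) (Ptab_1329) (Ptab_1330) (Nat.ble 1330 c)
noncomputable def Ptab_s_1328_1331 (c : Nat) : Nat := @Bool.rec (fun _ => Nat) (Ptab_1328) (Ptab_s_1329_1331 c) (Nat.ble 1329 c)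
noncomputable def Ptab_s_1326_1331 (c : Nat) : Nat := @Bool.rec (fun _ => Nat) (Ptab_s_1326_1328 c) (Ptab_s_1328_1331 c) (Nat.ble 1328 c)
noncomputable def Ptab_s_1321_1331 (c : Nat) : Nat := @Bool.rec (fun _ => Nat) (Ptab_s_1321_1326 c) (Ptab_s_1326_1331 c) (Nat.ble 1326 c)
noncomputable def Ptab_s_1312_1331 (c : Nat) : Nat := @Bool.rec (fun _ => Nat) (Ptab_s_1312_1321 c) (Ptab_s_1321_1331 c) (Nat.ble 1321 c)
noncomputable def Ptab_s_1331_1333 (c : Nat) : Nat := @Bool.rec (fun _ => Nat) (Ptab_1331) (Ptab_1332) (Nat.ble 1332 c)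
noncomputable def Ptab_s_1333_1335 (c : Nat) : Nat := @Bool.rec (fun _ => Nat) (Ptab_1333) (Ptab_1334) (Nat.ble 1334 c)
noncomputable def Ptab_s_1331_1335 (c : Nat) : Nat := @Bool.rec (fun _ => Nat) (Ptab_s_1331_1333 c) (Ptab_s_1333_1335 c) (Nat.ble 1333 c)
noncomputable def Ptab_s_1335_1337 (c : Nat) : Nat := @Bool.rec (fun _ => Nat) (Ptab_1335) (Ptab_1336) (Nat.ble 1336 c)
noncomputable def Ptab_s_1338_1340 (c : Nat) : Nat := @Bool.rec (fun _ => Nat) (Ptab_1338) (Ptab_1339) (Nat.ble 1339 c)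
noncomputable def Ptab_s_1337_1340 (c : Nat) : Nat := @Bool.rec (fun _ => Nat) (Ptab_1337) (Ptab_s_1338_1340 c) (Nat.ble 1338 c)
noncomputable def Ptab_s_1335_1340 (c : Nat) : Nat := @Bool.rec (fun _ => Nat) (Ptab_s_1335_1337 c) (Ptab_s_1337_1340 c) (Nat.ble 1337 c)
noncomputable def Ptab_s_1331_1340 (c : Nat) : Nat := @Bool.rec (fun _ => Nat) (Ptab_s_1331_1335 c) (Ptab_s_1335_1340 c) (Nat.ble 1335 c)
noncomputable def Ptab_s_1340_1342 (c : Nat) : Nat := @Bool.rec (fun _ => Nat) (Ptab_1340) (Ptab_1341) (Nat.ble 1341 c)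
noncomputable def Ptab_s_1343_1345 (c : Nat) : Nat := @Bool.rec (fun _ => Nat) (Ptab_1343) (Ptab_1344) (Nat.ble 1344 c)
noncomputable def Ptab_s_1342_1345 (c : Nat) : Nat := @Bool.rec (fun _ => Nat) (Ptab_1342) (Ptab_s_1343_1345 c) (Nat.ble 1343 c)
noncomputable def Ptab_s_1340_1345 (c : Nat) : Nat := @Bool.rec (fun _ => Nat) (Ptab_s_1340_1342 c) (Ptab_s_1342_1345 c) (Nat.ble 1342 c)
noncomputable def Ptab_s_1345_1347 (c : Nat) : Nat := @Bool.rec (fun _ => Nat) (Ptab_1345) (Ptab_1346) (Nat.ble 1346 c)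
noncomputable def Ptab_s_1348_1350 (c : Nat) : Nat := @Bool.rec (fun _ => Nat) (Ptab_1348) (Ptab_1349) (Nat.ble 1349 c)
noncomputable def Ptab_s_1347_1350 (c : Nat) : Nat := @Bool.rec (fun _ => Nat) (Ptab_1347) (Ptab_s_1348_1350 c) (Nat.ble 1348 c)
noncomputable def Ptab_s_1345_1350 (c : Nat) : Nat := @Bool.rec (fun _ => Nat) (Ptab_s_1345_1347 c) (Ptab_s_1347_1350 c) (Nat.ble 1347 c)
noncomputable def Ptab_s_1340_1350 (c : Nat) : Nat := @Bool.rec (fun _ => Nat) (Ptab_s_1340_1345 c) (Ptab_s_1345_1350 c) (Nat.ble 1345 c)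
noncomputable def Ptab_s_1331_1350 (c : Nat) : Nat := @Bool.rec (fun _ => Nat) (Ptab_s_1331_1340 c) (Ptab_s_1340_1350 c) (Nat.ble 1340 c)
noncomputable def Ptab_s_1312_1350 (c : Nat) : Nat := @Bool.rec (fun _ => Nat) (Ptab_s_1312_1331 c) (Ptab_s_1331_1350 c) (Nat.ble 1331 c)
noncomputable def Ptab_s_1275_1350 (c : Nat) : Nat := @Bool.rec (fun _ => Nat) (Ptab_s_1275_1312 c) (Ptab_s_1312_1350 c) (Nat.ble 1312 c)
noncomputable def Ptab_s_1200_1350 (c : Nat) : Nat := @Bool.rec (fun _ => Nat) (Ptab_s_1200_1275 c) (Ptab_s_1275_1350 c) (Nat.ble 1275 c)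
noncomputable def Ptab_s_1350_1352 (c : Nat) : Nat := @Bool.rec (fun _ => Nat) (Ptab_1350) (Ptab_1351) (Nat.ble 1351 c)
noncomputable def Ptab_s_1352_1354 (c : Nat) : Nat := @Bool.rec (fun _ => Nat) (Ptab_1352) (Ptab_1353) (Nat.ble 1353 c)
noncomputable def Ptab_s_1350_1354 (c : Nat) : Nat := @Bool.rec (fun _ => Nat) (Ptab_s_1350_1352 c) (Ptab_s_1352_1354 c) (Nat.ble 1352 c)
noncomputable def Ptab_s_1354_1356 (c : Nat) : Nat := @Bool.rec (fun _ => Nat) (Ptab_1354) (Ptab_1355) (Nat.ble 1355 c)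
noncomputable def Ptab_s_1357_1359 (c : Nat) : Nat := @Bool.rec (fun _ => Nat) (Ptab_1357) (Ptab_1358) (Nat.ble 1358 c)
noncomputable def Ptab_s_1356_1359 (c : Nat) : Nat := @Bool.rec (fun _ => Nat) (Ptab_1356) (Ptab_s_1357_1359 c) (Nat.ble 1357 c)
noncomputable def Ptab_s_1354_1359 (c : Nat) : Nat := @Bool.rec (fun _ => Nat) (Ptab_s_1354_1356 c) (Ptab_s_1356_1359 c) (Nat.ble 1356 c)
noncomputable def Ptab_s_1350_1359 (c : Nat) : Nat := @Bool.rec (fun _ => Nat) (Ptab_s_1350_1354 c) (Ptab_s_1354_1359 c) (Nat.ble 1354 c)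
noncomputable def Ptab_s_1359_1361 (c : Nat) : Nat := @Bool.rec (fun _ => Nat) (Ptab_1359) (Ptab_1360) (Nat.ble 1360 c)
noncomputable def Ptab_s_1361_1363 (c : Nat) : Nat := @Bool.rec (fun _ => Nat) (Ptab_1361) (Ptab_1362) (Nat.ble 1362 c)
noncomputable def Ptab_s_1359_1363 (c : Nat) : Nat := @Bool.rec (fun _ => Nat) (Ptab_s_1359_1361 c) (Ptab_s_1361_1363 c) (Nat.ble 1361 c)
noncomputable def Ptab_s_1363_1365 (c : Nat) : Nat := @Bool.rec (fun _ => Nat) (Ptab_1363) (Ptab_1364) (Nat.ble 1364 c)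
noncomputable def Ptab_s_1366_1368 (c : Nat) : Nat := @Bool.rec (fun _ => Nat) (Ptab_1366) (Ptab_1367) (Nat.ble 1367 c)
noncomputable def Ptab_s_1365_1368 (c : Nat) : Nat := @Bool.rec (fun _ => Nat) (Ptab_1365) (Ptab_s_1366_1368 c) (Nat.ble 1366 c)
noncomputable def Ptab_s_1363_1368 (c : Nat) : Nat := @Bool.rec (fun _ => Nat) (Ptab_s_1363_1365 c) (Ptab_s_1365_1368 c) (Nat.ble 1365 c)
noncomputable def Ptab_s_1359_1368 (c : Nat) : Nat := @Bool.rec (fun _ => Nat) (Ptab_s_1359_1363 c) (Ptab_s_1363_1368 c) (Nat.ble 1363 c)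
noncomputable def Ptab_s_1350_1368 (c : Nat) : Nat := @Bool.rec (fun _ => Nat) (Ptab_s_1350_1359 c) (Ptab_s_1359_1368 c) (Nat.ble 1359 c)
noncomputable def Ptab_s_1368_1370 (c : Nat) : Nat := @Bool.rec (fun _ => Nat) (Ptab_1368) (Ptab_1369) (Nat.ble 1369 c)
noncomputable def Ptab_s_1370_1372 (c : Nat) : Nat := @Bool.rec (fun _ => Nat) (Ptab_1370) (Ptab_1371) (Nat.ble 1371 c)
noncomputable def Ptab_s_1368_1372 (c : Nat) : Nat := @Bool.rec (fun _ => Nat) (Ptab_s_1368_1370 c) (Ptab_s_1370_1372 c) (Nat.ble 1370 c)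
noncomputable def Ptab_s_1372_1374 (c : Nat) : Nat := @Bool.rec (fun _ => Nat) (Ptab_1372) (Ptab_1373) (Nat.ble 1373 c)
noncomputable def Ptab_s_1375_1377 (c : Nat) : Nat := @Bool.rec (fun _ => Nat) (Ptab_1375) (Ptab_1376) (Nat.ble 1376 c)
noncomputable def Ptab_s_1374_1377 (c : Nat) : Nat := @Bool.rec (fun _ => Nat) (Ptab_1374) (Ptab_s_1375_1377 c) (Nat.ble 1375 c)
noncomputable def Ptab_s_1372_1377 (c : Nat) : Nat := @Bool.rec (fun _ => Nat) (Ptab_s_1372_1374 c) (Ptab_s_1374_1377 c) (Nat.ble 1374 c)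
noncomputable def Ptab_s_1368_1377 (c : Nat) : Nat := @Bool.rec (fun _ => Nat) (Ptab_s_1368_1372 c) (Ptab_s_1372_1377 c) (Nat.ble 1372 c)
noncomputable def Ptab_s_1377_1379 (c : Nat) : Nat := @Bool.rec (fun _ => Nat) (Ptab_1377) (Ptab_1378) (Nat.ble 1378 c)
noncomputable def Ptab_s_1380_1382 (c : Nat) : Nat := @Bool.rec (fun _ => Nat) (Ptab_1380) (Ptab_1381) (Nat.ble 1381 c)
noncomputable def Ptab_s_1379_1382 (c : Nat) : Nat := @Bool.rec (fun _ => Nat) (Ptab_1379) (Ptab_s_1380_1382 c) (Nat.ble 1380 c)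
noncomputable def Ptab_s_1377_1382 (c : Nat) : Nat := @Bool.rec (fun _ => Nat) (Ptab_s_1377_1379 c) (Ptab_s_1379_1382 c) (Nat.ble 1379 c)
noncomputable def Ptab_s_1382_1384 (c : Nat) : Nat := @Bool.rec (fun _ => Nat) (Ptab_1382) (Ptab_1383) (Nat.ble 1383 c)
noncomputable def Ptab_s_1385_1387 (c : Nat) : Nat := @Bool.rec (fun _ => Nat) (Ptab_1385) (Ptab_1386) (Nat.ble 1386 c)
noncomputable def Ptab_s_1384_1387 (c : Nat) : Nat := @Bool.rec (fun _ => Nat) (Ptab_1384) (Ptab_s_1385_1387 c) (Nat.ble 1385 c)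
noncomputable def Ptab_s_1382_1387 (c : Nat) : Nat := @Bool.rec (fun _ => Nat) (Ptab_s_1382_1384 c) (Ptab_s_1384_1387 c) (Nat.ble 1384 c)
noncomputable def Ptab_s_1377_1387 (c : Nat) : Nat := @Bool.rec (fun _ => Nat) (Ptab_s_1377_1382 c) (Ptab_s_1382_1387 c) (Nat.ble 1382 c)
noncomputable def Ptab_s_1368_1387 (c : Nat) : Nat := @Bool.rec (fun _ => Nat) (Ptab_s_1368_1377 c) (Ptab_s_1377_1387 c) (Nat.ble 1377 c)
noncomputable def Ptab_s_1350_1387 (c : Nat) : Nat := @Bool.rec (fun _ => Nat) (Ptab_s_1350_1368 c) (Ptab_s_1368_1387 c) (Nat.ble 1368 c)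
noncomputable def Ptab_s_1387_1389 (c : Nat) : Nat := @Bool.rec (fun _ => Nat) (Ptab_1387) (Ptab_1388) (Nat.ble 1388 c)
noncomputable def Ptab_s_1389_1391 (c : Nat) : Nat := @Bool.rec (fun _ => Nat) (Ptab_1389) (Ptab_1390) (Nat.ble 1390 c)
noncomputable def Ptab_s_1387_1391 (c : Nat) : Nat := @Bool.rec (fun _ => Nat) (Ptab_s_1387_1389 c) (Ptab_s_1389_1391 c) (Nat.ble 1389 c)
noncomputable def Ptab_s_1391_1393 (c : Nat) : Nat := @Bool.rec (fun _ => Nat) (Ptab_1391) (Ptab_1392) (Nat.ble 1392 c)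
noncomputable def Ptab_s_1394_1396 (c : Nat) : Nat := @Bool.rec (fun _ => Nat) (Ptab_1394) (Ptab_1395) (Nat.ble 1395 c)
noncomputable def Ptab_s_1393_1396 (c : Nat) : Nat := @Bool.rec (fun _ => Nat) (Ptab_1393) (Ptab_s_1394_1396 c) (Nat.ble 1394 c)
noncomputable def Ptab_s_1391_1396 (c : Nat) : Nat := @Bool.rec (fun _ => Nat) (Ptab_s_1391_1393 c) (Ptab_s_1393_1396 c) (Nat.ble 1393 c)
noncomputable def Ptab_s_1387_1396 (c : Nat) : Nat := @Bool.rec (fun _ => Nat) (Ptab_s_1387_1391 c) (Ptab_s_1391_1396 c) (Nat.ble 1391 c)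
noncomputable def Ptab_s_1396_1398 (c : Nat) : Nat := @Bool.rec (fun _ => Nat) (Ptab_1396) (Ptab_1397) (Nat.ble 1397 c)
noncomputable def Ptab_s_1399_1401 (c : Nat) : Nat := @Bool.rec (fun _ => Nat) (Ptab_1399) (Ptab_1400) (Nat.ble 1400 c)
noncomputable def Ptab_s_1398_1401 (c : Nat) : Nat := @Bool.rec (fun _ => Nat) (Ptab_1398) (Ptab_s_1399_1401 c) (Nat.ble 1399 c)
noncomputable def Ptab_s_1396_1401 (c : Nat) : Nat := @Bool.rec (fun _ => Nat) (Ptab_s_1396_1398 c) (Ptab_s_1398_1401 c) (Nat.ble 1398 c)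
noncomputable def Ptab_s_1401_1403 (c : Nat) : Nat := @Bool.rec (fun _ => Nat) (Ptab_1401) (Ptab_1402) (Nat.ble 1402 c)
noncomputable def Ptab_s_1404_1406 (c : Nat) : Nat := @Bool.rec (fun _ => Nat) (Ptab_1404) (Ptab_1405) (Nat.ble 1405 c)
noncomputable def Ptab_s_1403_1406 (c : Nat) : Nat := @Bool.rec (fun _ => Nat) (Ptab_1403) (Ptab_s_1404_1406 c) (Nat.ble 1404 c)
noncomputable def Ptab_s_1401_1406 (c : Nat) : Nat := @Bool.rec (fun _ => Nat) (Ptab_s_1401_1403 c) (Ptab_s_1403_1406 c) (Nat.ble 1403 c)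
noncomputable def Ptab_s_1396_1406 (c : Nat) : Nat := @Bool.rec (fun _ => Nat) (Ptab_s_1396_1401 c) (Ptab_s_1401_1406 c) (Nat.ble 1401 c)
noncomputable def Ptab_s_1387_1406 (c : Nat) : Nat := @Bool.rec (fun _ => Nat) (Ptab_s_1387_1396 c) (Ptab_s_1396_1406 c) (Nat.ble 1396 c)
noncomputable def Ptab_s_1406_1408 (c : Nat) : Nat := @Bool.rec (fun _ => Nat) (Ptab_1406) (Ptab_1407) (Nat.ble 1407 c)
noncomputable def Ptab_s_1408_1410 (c : Nat) : Nat := @Bool.rec (fun _ => Nat) (Ptab_1408) (Ptab_1409) (Nat.ble 1409 c)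
noncomputable def Ptab_s_1406_1410 (c : Nat) : Nat := @Bool.rec (fun _ => Nat) (Ptab_s_1406_1408 c) (Ptab_s_1408_1410 c) (Nat.ble 1408 c)
noncomputable def Ptab_s_1410_1412 (c : Nat) : Nat := @Bool.rec (fun _ => Nat) (Ptab_1410) (Ptab_1411) (Nat.ble 1411 c)
noncomputable def Ptab_s_1413_1415 (c : Nat) : Nat := @Bool.rec (fun _ => Nat) (Ptab_1413) (Ptab_1414) (Nat.ble 1414 c)
noncomputable def Ptab_s_1412_1415 (c : Nat) : Nat := @Bool.rec (fun _ => Nat) (Ptab_1412) (Ptab_s_1413_1415 c) (Nat.ble 1413 c)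
noncomputable def Ptab_s_1410_1415 (c : Nat) : Nat := @Bool.rec (fun _ => Nat) (Ptab_s_1410_1412 c) (Ptab_s_1412_1415 c) (Nat.ble 1412 c)
noncomputable def Ptab_s_1406_1415 (c : Nat) : Nat := @Bool.rec (fun _ => Nat) (Ptab_s_1406_1410 c) (Ptab_s_1410_1415 c) (Nat.ble 1410 c)
noncomputable def Ptab_s_1415_1417 (c : Nat) : Nat := @Bool.rec (fun _ => Nat) (Ptab_1415) (Ptab_1416) (Nat.ble 1416 c)
noncomputable def Ptab_s_1418_1420 (c : Nat) : Nat := @Bool.rec (fun _ => Nat) (Ptab_1418) (Ptab_1419) (Nat.ble 1419 c)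
noncomputable def Ptab_s_1417_1420 (c : Nat) : Nat := @Bool.rec (fun _ => Nat) (Ptab_1417) (Ptab_s_1418_1420 c) (Nat.ble 1418 c)
noncomputable def Ptab_s_1415_1420 (c : Nat) : Nat := @Bool.rec (fun _ => Nat) (Ptab_s_1415_1417 c) (Ptab_s_1417_1420 c) (Nat.ble 1417 c)
noncomputable def Ptab_s_1420_1422 (c : Nat) : Nat := @Bool.rec (fun _ => Nat) (Ptab_1420) (Ptab_1421) (Nat.ble 1421 c)
noncomputable def Ptab_s_1423_1425 (c : Nat) : Nat := @Bool.rec (fun _ => Nat) (Ptab_1423) (Ptab_1424) (Nat.ble 1424 c)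
noncomputable def Ptab_s_1422_1425 (c : Nat) : Nat := @Bool.rec (fun _ => Nat) (Ptab_1422) (Ptab_s_1423_1425 c) (Nat.ble 1423 c)
noncomputable def Ptab_s_1420_1425 (c : Nat) : Nat := @Bool.rec (fun _ => Nat) (Ptab_s_1420_1422 c) (Ptab_s_1422_1425 c) (Nat.ble 1422 c)
noncomputable def Ptab_s_1415_1425 (c : Nat) : Nat := @Bool.rec (fun _ => Nat) (Ptab_s_1415_1420 c) (Ptab_s_1420_1425 c) (Nat.ble 1420 c)
noncomputable def Ptab_s_1406_1425 (c : Nat) : Nat := @Bool.rec (fun _ => Nat) (Ptab_s_1406_1415 c) (Ptab_s_1415_1425 c) (Nat.ble 1415 c)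
noncomputable def Ptab_s_1387_1425 (c : Nat) : Nat := @Bool.rec (fun _ => Nat) (Ptab_s_1387_1406 c) (Ptab_s_1406_1425 c) (Nat.ble 1406 c)
noncomputable def Ptab_s_1350_1425 (c : Nat) : Nat := @Bool.rec (fun _ => Nat) (Ptab_s_1350_1387 c) (Ptab_s_1387_1425 c) (Nat.ble 1387 c)
noncomputable def Ptab_s_1425_1427 (c : Nat) : Nat := @Bool.rec (fun _ => Nat) (Ptab_1425) (Ptab_1426) (Nat.ble 1426 c)
noncomputable def Ptab_s_1427_1429 (c : Nat) : Nat := @Bool.rec (fun _ => Nat) (Ptab_1427) (Ptab_1428) (Nat.ble 1428 c)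
noncomputable def Ptab_s_1425_1429 (c : Nat) : Nat := @Bool.rec (fun _ => Nat) (Ptab_s_1425_1427 c) (Ptab_s_1427_1429 c) (Nat.ble 1427 c)
noncomputable def Ptab_s_1429_1431 (c : Nat) : Nat := @Bool.rec (fun _ => Nat) (Ptab_1429) (Ptab_1430) (Nat.ble 1430 c)
noncomputable def Ptab_s_1432_1434 (c : Nat) : Nat := @Bool.rec (fun _ => Nat) (Ptab_1432) (Ptab_1433) (Nat.ble 1433 c)
noncomputable def Ptab_s_1431_1434 (c : Nat) : Nat := @Bool.rec (fun _ => Nat) (Ptab_1431) (Ptab_s_1432_1434 c) (Nat.ble 1432 c)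
noncomputable def Ptab_s_1429_1434 (c : Nat) : Nat := @Bool.rec (fun _ => Nat) (Ptab_s_1429_1431 c) (Ptab_s_1431_1434 c) (Nat.ble 1431 c)
noncomputable def Ptab_s_1425_1434 (c : Nat) : Nat := @Bool.rec (fun _ => Nat) (Ptab_s_1425_1429 c) (Ptab_s_1429_1434 c) (Nat.ble 1429 c)
noncomputable def Ptab_s_1434_1436 (c : Nat) : Nat := @Bool.rec (fun _ => Nat) (Ptab_1434) (Ptab_1435) (Nat.ble 1435 c)
noncomputable def Ptab_s_1436_1438 (c : Nat) : Nat := @Bool.rec (fun _ => Nat) (Ptab_1436) (Ptab_1437) (Nat.ble 1437 c)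
noncomputable def Ptab_s_1434_1438 (c : Nat) : Nat := @Bool.rec (fun _ => Nat) (Ptab_s_1434_1436 c) (Ptab_s_1436_1438 c) (Nat.ble 1436 c)
noncomputable def Ptab_s_1438_1440 (c : Nat) : Nat := @Bool.rec (fun _ => Nat) (Ptab_1438) (Ptab_1439) (Nat.ble 1439 c)
noncomputable def Ptab_s_1441_1443 (c : Nat) : Nat := @Bool.rec (fun _ => Nat) (Ptab_1441) (Ptab_1442) (Nat.ble 1442 c)
noncomputable def Ptab_s_1440_1443 (c : Nat) : Nat := @Bool.rec (fun _ => Nat) (Ptab_1440) (Ptab_s_1441_1443 c) (Nat.ble 1441 c)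
noncomputable def Ptab_s_1438_1443 (c : Nat) : Nat := @Bool.rec (fun _ => Nat) (Ptab_s_1438_1440 c) (Ptab_s_1440_1443 c) (Nat.ble 1440 c)
noncomputable def Ptab_s_1434_1443 (c : Nat) : Nat := @Bool.rec (fun _ => Nat) (Ptab_s_1434_1438 c) (Ptab_s_1438_1443 c) (Nat.ble 1438 c)
noncomputable def Ptab_s_1425_1443 (c : Nat) : Nat := @Bool.rec (fun _ => Nat) (Ptab_s_1425_1434 c) (Ptab_s_1434_1443 c) (Nat.ble 1434 c)
noncomputable def Ptab_s_1443_1445 (c : Nat) : Nat := @Bool.rec (fun _ => Nat) (Ptab_1443) (Ptab_1444) (Nat.ble 1444 c)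
noncomputable def Ptab_s_1445_1447 (c : Nat) : Nat := @Bool.rec (fun _ => Nat) (Ptab_1445) (Ptab_1446) (Nat.ble 1446 c)
noncomputable def Ptab_s_1443_1447 (c : Nat) : Nat := @Bool.rec (fun _ => Nat) (Ptab_s_1443_1445 c) (Ptab_s_1445_1447 c) (Nat.ble 1445 c)
noncomputable def Ptab_s_1447_1449 (c : Nat) : Nat := @Bool.rec (fun _ => Nat) (Ptab_1447) (Ptab_1448) (Nat.ble 1448 c)
noncomputable def Ptab_s_1450_1452 (c : Nat) : Nat := @Bool.rec (fun _ => Nat) (Ptab_1450) (Ptab_1451) (Nat.ble 1451 c)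
noncomputable def Ptab_s_1449_1452 (c : Nat) : Nat := @Bool.rec (fun _ => Nat) (Ptab_1449) (Ptab_s_1450_1452 c) (Nat.ble 1450 c)
noncomputable def Ptab_s_1447_1452 (c : Nat) : Nat := @Bool.rec (fun _ => Nat) (Ptab_s_1447_1449 c) (Ptab_s_1449_1452 c) (Nat.ble 1449 c)
noncomputable def Ptab_s_1443_1452 (c : Nat) : Nat := @Bool.rec (fun _ => Nat) (Ptab_s_1443_1447 c) (Ptab_s_1447_1452 c) (Nat.ble 1447 c)
noncomputable def Ptab_s_1452_1454 (c : Nat) : Nat := @Bool.rec (fun _ => Nat) (Ptab_1452) (Ptab_1453) (Nat.ble 1453 c)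
noncomputable def Ptab_s_1455_1457 (c : Nat) : Nat := @Bool.rec (fun _ => Nat) (Ptab_1455) (Ptab_1456) (Nat.ble 1456 c)
noncomputable def Ptab_s_1454_1457 (c : Nat) : Nat := @Bool.rec (fun _ => Nat) (Ptab_1454) (Ptab_s_1455_1457 c) (Nat.ble 1455 c)
noncomputable def Ptab_s_1452_1457 (c : Nat) : Nat := @Bool.rec (fun _ => Nat) (Ptab_s_1452_1454 c) (Ptab_s_1454_1457 c) (Nat.ble 1454 c)
noncomputable def Ptab_s_1457_1459 (c : Nat) : Nat := @Bool.rec (fun _ => Nat) (Ptab_1457) (Ptab_1458) (Nat.ble 1458 c)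
noncomputable def Ptab_s_1460_1462 (c : Nat) : Nat := @Bool.rec (fun _ => Nat) (Ptab_1460) (Ptab_1461) (Nat.ble 1461 c)
noncomputable def Ptab_s_1459_1462 (c : Nat) : Nat := @Bool.rec (fun _ => Nat) (Ptab_1459) (Ptab_s_1460_1462 c) (Nat.ble 1460 c)
noncomputable def Ptab_s_1457_1462 (c : Nat) : Nat := @Bool.rec (fun _ => Nat) (Ptab_s_1457_1459 c) (Ptab_s_1459_1462 c) (Nat.ble 1459 c)
noncomputable def Ptab_s_1452_1462 (c : Nat) : Nat := @Bool.rec (fun _ => Nat) (Ptab_s_1452_1457 c) (Ptab_s_1457_1462 c) (Nat.ble 1457 c)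
noncomputable def Ptab_s_1443_1462 (c : Nat) : Nat := @Bool.rec (fun _ => Nat) (Ptab_s_1443_1452 c) (Ptab_s_1452_1462 c) (Nat.ble 1452 c)
noncomputable def Ptab_s_1425_1462 (c : Nat) : Nat := @Bool.rec (fun _ => Nat) (Ptab_s_1425_1443 c) (Ptab_s_1443_1462 c) (Nat.ble 1443 c)
noncomputable def Ptab_s_1462_1464 (c : Nat) : Nat := @Bool.rec (fun _ => Nat) (Ptab_1462) (Ptab_1463) (Nat.ble 1463 c)
noncomputable def Ptab_s_1464_1466 (c : Nat) : Nat := @Bool.rec (fun _ => Nat) (Ptab_1464) (Ptab_1465) (Nat.ble 1465 c)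
noncomputable def Ptab_s_1462_1466 (c : Nat) : Nat := @Bool.rec (fun _ => Nat) (Ptab_s_1462_1464 c) (Ptab_s_1464_1466 c) (Nat.ble 1464 c)
noncomputable def Ptab_s_1466_1468 (c : Nat) : Nat := @Bool.rec (fun _ => Nat) (Ptab_1466) (Ptab_1467) (Nat.ble 1467 c)
noncomputable def Ptab_s_1469_1471 (c : Nat) : Nat := @Bool.rec (fun _ => Nat) (Ptab_1469) (Ptab_1470) (Nat.ble 1470 c)
noncomputable def Ptab_s_1468_1471 (c : Nat) : Nat := @Bool.rec (fun _ => Nat) (Ptab_1468) (Ptab_s_1469_1471 c) (Nat.ble 1469 c)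
noncomputable def Ptab_s_1466_1471 (c : Nat) : Nat := @Bool.rec (fun _ => Nat) (Ptab_s_1466_1468 c) (Ptab_s_1468_1471 c) (Nat.ble 1468 c)
noncomputable def Ptab_s_1462_1471 (c : Nat) : Nat := @Bool.rec (fun _ => Nat) (Ptab_s_1462_1466 c) (Ptab_s_1466_1471 c) (Nat.ble 1466 c)
noncomputable def Ptab_s_1471_1473 (c : Nat) : Nat := @Bool.rec (fun _ => Nat) (Ptab_1471) (Ptab_1472) (Nat.ble 1472 c)
noncomputable def Ptab_s_1474_1476 (c : Nat) : Nat := @Bool.rec (fun _ => Nat) (Ptab_1474) (Ptab_1475) (Nat.ble 1475 c)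
noncomputable def Ptab_s_1473_1476 (c : Nat) : Nat := @Bool.rec (fun _ => Nat) (Ptab_1473) (Ptab_s_1474_1476 c) (Nat.ble 1474 c)
noncomputable def Ptab_s_1471_1476 (c : Nat) : Nat := @Bool.rec (fun _ => Nat) (Ptab_s_1471_1473 c) (Ptab_s_1473_1476 c) (Nat.ble 1473 c)
noncomputable def Ptab_s_1476_1478 (c : Nat) : Nat := @Bool.rec (fun _ => Nat) (Ptab_1476) (Ptab_1477) (Nat.ble 1477 c)
noncomputable def Ptab_s_1479_1481 (c : Nat) : Nat := @Bool.rec (fun _ => Nat) (Ptab_1479) (Ptab_1480) (Nat.ble 1480 c)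
noncomputable def Ptab_s_1478_1481 (c : Nat) : Nat := @Bool.rec (fun _ => Nat) (Ptab_1478) (Ptab_s_1479_1481 c) (Nat.ble 1479 c)
noncomputable def Ptab_s_1476_1481 (c : Nat) : Nat := @Bool.rec (fun _ => Nat) (Ptab_s_1476_1478 c) (Ptab_s_1478_1481 c) (Nat.ble 1478 c)
noncomputable def Ptab_s_1471_1481 (c : Nat) : Nat := @Bool.rec (fun _ => Nat) (Ptab_s_1471_1476 c) (Ptab_s_1476_1481 c) (Nat.ble 1476 c)
noncomputable def Ptab_s_1462_1481 (c : Nat) : Nat := @Bool.rec (fun _ => Nat) (Ptab_s_1462_1471 c) (Ptab_s_1471_1481 c) (Nat.ble 1471 c)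
noncomputable def Ptab_s_1481_1483 (c : Nat) : Nat := @Bool.rec (fun _ => Nat) (Ptab_1481) (Ptab_1482) (Nat.ble 1482 c)
noncomputable def Ptab_s_1483_1485 (c : Nat) : Nat := @Bool.rec (fun _ => Nat) (Ptab_1483) (Ptab_1484) (Nat.ble 1484 c)
noncomputable def Ptab_s_1481_1485 (c : Nat) : Nat := @Bool.rec (fun _ => Nat) (Ptab_s_1481_1483 c) (Ptab_s_1483_1485 c) (Nat.ble 1483 c)
noncomputable def Ptab_s_1485_1487 (c : Nat) : Nat := @Bool.rec (fun _ => Nat) (Ptab_1485) (Ptab_1486) (Nat.ble 1486 c)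
noncomputable def Ptab_s_1488_1490 (c : Nat) : Nat := @Bool.rec (fun _ => Nat) (Ptab_1488) (Ptab_1489) (Nat.ble 1489 c)
noncomputable def Ptab_s_1487_1490 (c : Nat) : Nat := @Bool.rec (fun _ => Nat) (Ptab_1487) (Ptab_s_1488_1490 c) (Nat.ble 1488 c)
noncomputable def Ptab_s_1485_1490 (c : Nat) : Nat := @Bool.rec (fun _ => Nat) (Ptab_s_1485_1487 c) (Ptab_s_1487_1490 c) (Nat.ble 1487 c)
noncomputable def Ptab_s_1481_1490 (c : Nat) : Nat := @Bool.rec (fun _ => Nat) (Ptab_s_1481_1485 c) (Ptab_s_1485_1490 c) (Nat.ble 1485 c)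
noncomputable def Ptab_s_1490_1492 (c : Nat) : Nat := @Bool.rec (fun _ => Nat) (Ptab_1490) (Ptab_1491) (Nat.ble 1491 c)
noncomputable def Ptab_s_1493_1495 (c : Nat) : Nat := @Bool.rec (fun _ => Nat) (Ptab_1493) (Ptab_1494) (Nat.ble 1494 c)
noncomputable def Ptab_s_1492_1495 (c : Nat) : Nat := @Bool.rec (fun _ => Nat) (Ptab_1492) (Ptab_s_1493_1495 c) (Nat.ble 1493 c)
noncomputable def Ptab_s_1490_1495 (c : Nat) : Nat := @Bool.rec (fun _ => Nat) (Ptab_s_1490_1492 c) (Ptab_s_1492_1495 c) (Nat.ble 1492 c)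
noncomputable def Ptab_s_1495_1497 (c : Nat) : Nat := @Bool.rec (fun _ => Nat) (Ptab_1495) (Ptab_1496) (Nat.ble 1496 c)
noncomputable def Ptab_s_1498_1500 (c : Nat) : Nat := @Bool.rec (fun _ => Nat) (Ptab_1498) (Ptab_1499) (Nat.ble 1499 c)
noncomputable def Ptab_s_1497_1500 (c : Nat) : Nat := @Bool.rec (fun _ => Nat) (Ptab_1497) (Ptab_s_1498_1500 c) (Nat.ble 1498 c)
noncomputable def Ptab_s_1495_1500 (c : Nat) : Nat := @Bool.rec (fun _ => Nat) (Ptab_s_1495_1497 c) (Ptab_s_1497_1500 c) (Nat.ble 1497 c)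
noncomputable def Ptab_s_1490_1500 (c : Nat) : Nat := @Bool.rec (fun _ => Nat) (Ptab_s_1490_1495 c) (Ptab_s_1495_1500 c) (Nat.ble 1495 c)
noncomputable def Ptab_s_1481_1500 (c : Nat) : Nat := @Bool.rec (fun _ => Nat) (Ptab_s_1481_1490 c) (Ptab_s_1490_1500 c) (Nat.ble 1490 c)
noncomputable def Ptab_s_1462_1500 (c : Nat) : Nat := @Bool.rec (fun _ => Nat) (Ptab_s_1462_1481 c) (Ptab_s_1481_1500 c) (Nat.ble 1481 c)
noncomputable def Ptab_s_1425_1500 (c : Nat) : Nat := @Bool.rec (fun _ => Nat) (Ptab_s_1425_1462 c) (Ptab_s_1462_1500 c) (Nat.ble 1462 c)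
noncomputable def Ptab_s_1350_1500 (c : Nat) : Nat := @Bool.rec (fun _ => Nat) (Ptab_s_1350_1425 c) (Ptab_s_1425_1500 c) (Nat.ble 1425 c)
noncomputable def Ptab_s_1200_1500 (c : Nat) : Nat := @Bool.rec (fun _ => Nat) (Ptab_s_1200_1350 c) (Ptab_s_1350_1500 c) (Nat.ble 1350 c)
noncomputable def Ptab_s_1500_1502 (c : Nat) : Nat := @Bool.rec (fun _ => Nat) (Ptab_1500) (Ptab_1501) (Nat.ble 1501 c)
noncomputable def Ptab_s_1502_1504 (c : Nat) : Nat := @Bool.rec (fun _ => Nat) (Ptab_1502) (Ptab_1503) (Nat.ble 1503 c)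
noncomputable def Ptab_s_1500_1504 (c : Nat) : Nat := @Bool.rec (fun _ => Nat) (Ptab_s_1500_1502 c) (Ptab_s_1502_1504 c) (Nat.ble 1502 c)
noncomputable def Ptab_s_1504_1506 (c : Nat) : Nat := @Bool.rec (fun _ => Nat) (Ptab_1504) (Ptab_1505) (Nat.ble 1505 c)
noncomputable def Ptab_s_1507_1509 (c : Nat) : Nat := @Bool.rec (fun _ => Nat) (Ptab_1507) (Ptab_1508) (Nat.ble 1508 c)
noncomputable def Ptab_s_1506_1509 (c : Nat) : Nat := @Bool.rec (fun _ => Nat) (Ptab_1506) (Ptab_s_1507_1509 c) (Nat.ble 1507 c)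
noncomputable def Ptab_s_1504_1509 (c : Nat) : Nat := @Bool.rec (fun _ => Nat) (Ptab_s_1504_1506 c) (Ptab_s_1506_1509 c) (Nat.ble 1506 c)
noncomputable def Ptab_s_1500_1509 (c : Nat) : Nat := @Bool.rec (fun _ => Nat) (Ptab_s_1500_1504 c) (Ptab_s_1504_1509 c) (Nat.ble 1504 c)
noncomputable def Ptab_s_1509_1511 (c : Nat) : Nat := @Bool.rec (fun _ => Nat) (Ptab_1509) (Ptab_1510) (Nat.ble 1510 c)
noncomputable def Ptab_s_1511_1513 (c : Nat) : Nat := @Bool.rec (fun _ => Nat) (Ptab_1511) (Ptab_1512) (Nat.ble 1512 c)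
noncomputable def Ptab_s_1509_1513 (c : Nat) : Nat := @Bool.rec (fun _ => Nat) (Ptab_s_1509_1511 c) (Ptab_s_1511_1513 c) (Nat.ble 1511 c)
noncomputable def Ptab_s_1513_1515 (c : Nat) : Nat := @Bool.rec (fun _ => Nat) (Ptab_1513) (Ptab_1514) (Nat.ble 1514 c)
noncomputable def Ptab_s_1516_1518 (c : Nat) : Nat := @Bool.rec (fun _ => Nat) (Ptab_1516) (Ptab_1517) (Nat.ble 1517 c)
noncomputable def Ptab_s_1515_1518 (c : Nat) : Nat := @Bool.rec (fun _ => Nat) (Ptab_1515) (Ptab_s_1516_1518 c) (Nat.ble 1516 c)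
noncomputable def Ptab_s_1513_1518 (c : Nat) : Nat := @Bool.rec (fun _ => Nat) (Ptab_s_1513_1515 c) (Ptab_s_1515_1518 c) (Nat.ble 1515 c)
noncomputable def Ptab_s_1509_1518 (c : Nat) : Nat := @Bool.rec (fun _ => Nat) (Ptab_s_1509_1513 c) (Ptab_s_1513_1518 c) (Nat.ble 1513 c)
noncomputable def Ptab_s_1500_1518 (c : Nat) : Nat := @Bool.rec (fun _ => Nat) (Ptab_s_1500_1509 c) (Ptab_s_1509_1518 c) (Nat.ble 1509 c)
noncomputable def Ptab_s_1518_1520 (c : Nat) : Nat := @Bool.rec (fun _ => Nat) (Ptab_1518) (Ptab_1519) (Nat.ble 1519 c)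
noncomputable def Ptab_s_1520_1522 (c : Nat) : Nat := @Bool.rec (fun _ => Nat) (Ptab_1520) (Ptab_1521) (Nat.ble 1521 c)
noncomputable def Ptab_s_1518_1522 (c : Nat) : Nat := @Bool.rec (fun _ => Nat) (Ptab_s_1518_1520 c) (Ptab_s_1520_1522 c) (Nat.ble 1520 c)
noncomputable def Ptab_s_1522_1524 (c : Nat) : Nat := @Bool.rec (fun _ => Nat) (Ptab_1522) (Ptab_1523) (Nat.ble 1523 c)
noncomputable def Ptab_s_1525_1527 (c : Nat) : Nat := @Bool.rec (fun _ => Nat) (Ptab_1525) (Ptab_1526) (Nat.ble 1526 c)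
noncomputable def Ptab_s_1524_1527 (c : Nat) : Nat := @Bool.rec (fun _ => Nat) (Ptab_1524) (Ptab_s_1525_1527 c) (Nat.ble 1525 c)
noncomputable def Ptab_s_1522_1527 (c : Nat) : Nat := @Bool.rec (fun _ => Nat) (Ptab_s_1522_1524 c) (Ptab_s_1524_1527 c) (Nat.ble 1524 c)
noncomputable def Ptab_s_1518_1527 (c : Nat) : Nat := @Bool.rec (fun _ => Nat) (Ptab_s_1518_1522 c) (Ptab_s_1522_1527 c) (Nat.ble 1522 c)
noncomputable def Ptab_s_1527_1529 (c : Nat) : Nat := @Bool.rec (fun _ => Nat) (Ptab_1527) (Ptab_1528) (Nat.ble 1528 c)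
noncomputable def Ptab_s_1530_1532 (c : Nat) : Nat := @Bool.rec (fun _ => Nat) (Ptab_1530) (Ptab_1531) (Nat.ble 1531 c)
noncomputable def Ptab_s_1529_1532 (c : Nat) : Nat := @Bool.rec (fun _ => Nat) (Ptab_1529) (Ptab_s_1530_1532 c) (Nat.ble 1530 c)
noncomputable def Ptab_s_1527_1532 (c : Nat) : Nat := @Bool.rec (fun _ => Nat) (Ptab_s_1527_1529 c) (Ptab_s_1529_1532 c) (Nat.ble 1529 c)
noncomputable def Ptab_s_1532_1534 (c : Nat) : Nat := @Bool.rec (fun _ => Nat) (Ptab_1532) (Ptab_1533) (Nat.ble 1533 c)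
noncomputable def Ptab_s_1535_1537 (c : Nat) : Nat := @Bool.rec (fun _ => Nat) (Ptab_1535) (Ptab_1536) (Nat.ble 1536 c)
noncomputable def Ptab_s_1534_1537 (c : Nat) : Nat := @Bool.rec (fun _ => Nat) (Ptab_1534) (Ptab_s_1535_1537 c) (Nat.ble 1535 c)
noncomputable def Ptab_s_1532_1537 (c : Nat) : Nat := @Bool.rec (fun _ => Nat) (Ptab_s_1532_1534 c) (Ptab_s_1534_1537 c) (Nat.ble 1534 c)
noncomputable def Ptab_s_1527_1537 (c : Nat) : Nat := @Bool.rec (fun _ => Nat) (Ptab_s_1527_1532 c) (Ptab_s_1532_1537 c) (Nat.ble 1532 c)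
noncomputable def Ptab_s_1518_1537 (c : Nat) : Nat := @Bool.rec (fun _ => Nat) (Ptab_s_1518_1527 c) (Ptab_s_1527_1537 c) (Nat.ble 1527 c)
noncomputable def Ptab_s_1500_1537 (c : Nat) : Nat := @Bool.rec (fun _ => Nat) (Ptab_s_1500_1518 c) (Ptab_s_1518_1537 c) (Nat.ble 1518 c)
noncomputable def Ptab_s_1537_1539 (c : Nat) : Nat := @Bool.rec (fun _ => Nat) (Ptab_1537) (Ptab_1538) (Nat.ble 1538 c)
noncomputable def Ptab_s_1539_1541 (c : Nat) : Nat := @Bool.rec (fun _ => Nat) (Ptab_1539) (Ptab_1540) (Nat.ble 1540 c)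
noncomputable def Ptab_s_1537_1541 (c : Nat) : Nat := @Bool.rec (fun _ => Nat) (Ptab_s_1537_1539 c) (Ptab_s_1539_1541 c) (Nat.ble 1539 c)
noncomputable def Ptab_s_1541_1543 (c : Nat) : Nat := @Bool.rec (fun _ => Nat) (Ptab_1541) (Ptab_1542) (Nat.ble 1542 c)
noncomputable def Ptab_s_1544_1546 (c : Nat) : Nat := @Bool.rec (fun _ => Nat) (Ptab_1544) (Ptab_1545) (Nat.ble 1545 c)
noncomputable def Ptab_s_1543_1546 (c : Nat) : Nat := @Bool.rec (fun _ => Nat) (Ptab_1543) (Ptab_s_1544_1546 c) (Nat.ble 1544 c)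
noncomputable def Ptab_s_1541_1546 (c : Nat) : Nat := @Bool.rec (fun _ => Nat) (Ptab_s_1541_1543 c) (Ptab_s_1543_1546 c) (Nat.ble 1543 c)
noncomputable def Ptab_s_1537_1546 (c : Nat) : Nat := @Bool.rec (fun _ => Nat) (Ptab_s_1537_1541 c) (Ptab_s_1541_1546 c) (Nat.ble 1541 c)
noncomputable def Ptab_s_1546_1548 (c : Nat) : Nat := @Bool.rec (fun _ => Nat) (Ptab_1546) (Ptab_1547) (Nat.ble 1547 c)
noncomputable def Ptab_s_1549_1551 (c : Nat) : Nat := @Bool.rec (fun _ => Nat) (Ptab_1549) (Ptab_1550) (Nat.ble 1550 c)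
noncomputable def Ptab_s_1548_1551 (c : Nat) : Nat := @Bool.rec (fun _ => Nat) (Ptab_1548) (Ptab_s_1549_1551 c) (Nat.ble 1549 c)
noncomputable def Ptab_s_1546_1551 (c : Nat) : Nat := @Bool.rec (fun _ => Nat) (Ptab_s_1546_1548 c) (Ptab_s_1548_1551 c) (Nat.ble 1548 c)
noncomputable def Ptab_s_1551_1553 (c : Nat) : Nat := @Bool.rec (fun _ => Nat) (Ptab_1551) (Ptab_1552) (Nat.ble 1552 c)
noncomputable def Ptab_s_1554_1556 (c : Nat) : Nat := @Bool.rec (fun _ => Nat) (Ptab_1554) (Ptab_1555) (Nat.ble 1555 c)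
noncomputable def Ptab_s_1553_1556 (c : Nat) : Nat := @Bool.rec (fun _ => Nat) (Ptab_1553) (Ptab_s_1554_1556 c) (Nat.ble 1554 c)
noncomputable def Ptab_s_1551_1556 (c : Nat) : Nat := @Bool.rec (fun _ => Nat) (Ptab_s_1551_1553 c) (Ptab_s_1553_1556 c) (Nat.ble 1553 c)
noncomputable def Ptab_s_1546_1556 (c : Nat) : Nat := @Bool.rec (fun _ => Nat) (Ptab_s_1546_1551 c) (Ptab_s_1551_1556 c) (Nat.ble 1551 c)
noncomputable def Ptab_s_1537_1556 (c : Nat) : Nat := @Bool.rec (fun _ => Nat) (Ptab_s_1537_1546 c) (Ptab_s_1546_1556 c) (Nat.ble 1546 c)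
noncomputable def Ptab_s_1556_1558 (c : Nat) : Nat := @Bool.rec (fun _ => Nat) (Ptab_1556) (Ptab_1557) (Nat.ble 1557 c)
noncomputable def Ptab_s_1558_1560 (c : Nat) : Nat := @Bool.rec (fun _ => Nat) (Ptab_1558) (Ptab_1559) (Nat.ble 1559 c)
noncomputable def Ptab_s_1556_1560 (c : Nat) : Nat := @Bool.rec (fun _ => Nat) (Ptab_s_1556_1558 c) (Ptab_s_1558_1560 c) (Nat.ble 1558 c)
noncomputable def Ptab_s_1560_1562 (c : Nat) : Nat := @Bool.rec (fun _ => Nat) (Ptab_1560) (Ptab_1561) (Nat.ble 1561 c)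
noncomputable def Ptab_s_1563_1565 (c : Nat) : Nat := @Bool.rec (fun _ => Nat) (Ptab_1563) (Ptab_1564) (Nat.ble 1564 c)
noncomputable def Ptab_s_1562_1565 (c : Nat) : Nat := @Bool.rec (fun _ => Nat) (Ptab_1562) (Ptab_s_1563_1565 c) (Nat.ble 1563 c)
noncomputable def Ptab_s_1560_1565 (c : Nat) : Nat := @Bool.rec (fun _ => Nat) (Ptab_s_1560_1562 c) (Ptab_s_1562_1565 c) (Nat.ble 1562 c)
noncomputable def Ptab_s_1556_1565 (c : Nat) : Nat := @Bool.rec (fun _ => Nat) (Ptab_s_1556_1560 c) (Ptab_s_1560_1565 c) (Nat.ble 1560 c)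
noncomputable def Ptab_s_1565_1567 (c : Nat) : Nat := @Bool.rec (fun _ => Nat) (Ptab_1565) (Ptab_1566) (Nat.ble 1566 c)
noncomputable def Ptab_s_1568_1570 (c : Nat) : Nat := @Bool.rec (fun _ => Nat) (Ptab_1568) (Ptab_1569) (Nat.ble 1569 c)
noncomputable def Ptab_s_1567_1570 (c : Nat) : Nat := @Bool.rec (fun _ => Nat) (Ptab_1567) (Ptab_s_1568_1570 c) (Nat.ble 1568 c)
noncomputable def Ptab_s_1565_1570 (c : Nat) : Nat := @Bool.rec (fun _ => Nat) (Ptab_s_1565_1567 c) (Ptab_s_1567_1570 c) (Nat.ble 1567 c)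
noncomputable def Ptab_s_1570_1572 (c : Nat) : Nat := @Bool.rec (fun _ => Nat) (Ptab_1570) (Ptab_1571) (Nat.ble 1571 c)
noncomputable def Ptab_s_1573_1575 (c : Nat) : Nat := @Bool.rec (fun _ => Nat) (Ptab_1573) (Ptab_1574) (Nat.ble 1574 c)
noncomputable def Ptab_s_1572_1575 (c : Nat) : Nat := @Bool.rec (fun _ => Nat) (Ptab_1572) (Ptab_s_1573_1575 c) (Nat.ble 1573 c)
noncomputable def Ptab_s_1570_1575 (c : Nat) : Nat := @Bool.rec (fun _ => Nat) (Ptab_s_1570_1572 c) (Ptab_s_1572_1575 c) (Nat.ble 1572 c)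
noncomputable def Ptab_s_1565_1575 (c : Nat) : Nat := @Bool.rec (fun _ => Nat) (Ptab_s_1565_1570 c) (Ptab_s_1570_1575 c) (Nat.ble 1570 c)
noncomputable def Ptab_s_1556_1575 (c : Nat) : Nat := @Bool.rec (fun _ => Nat) (Ptab_s_1556_1565 c) (Ptab_s_1565_1575 c) (Nat.ble 1565 c)
noncomputable def Ptab_s_1537_1575 (c : Nat) : Nat := @Bool.rec (fun _ => Nat) (Ptab_s_1537_1556 c) (Ptab_s_1556_1575 c) (Nat.ble 1556 c)
noncomputable def Ptab_s_1500_1575 (c : Nat) : Nat := @Bool.rec (fun _ => Nat) (Ptab_s_1500_1537 c) (Ptab_s_1537_1575 c) (Nat.ble 1537 c)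
noncomputable def Ptab_s_1575_1577 (c : Nat) : Nat := @Bool.rec (fun _ => Nat) (Ptab_1575) (Ptab_1576) (Nat.ble 1576 c)
noncomputable def Ptab_s_1577_1579 (c : Nat) : Nat := @Bool.rec (fun _ => Nat) (Ptab_1577) (Ptab_1578) (Nat.ble 1578 c)
noncomputable def Ptab_s_1575_1579 (c : Nat) : Nat := @Bool.rec (fun _ => Nat) (Ptab_s_1575_1577 c) (Ptab_s_1577_1579 c) (Nat.ble 1577 c)
noncomputable def Ptab_s_1579_1581 (c : Nat) : Nat := @Bool.rec (fun _ => Nat) (Ptab_1579) (Ptab_1580) (Nat.ble 1580 c)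
noncomputable def Ptab_s_1582_1584 (c : Nat) : Nat := @Bool.rec (fun _ => Nat) (Ptab_1582) (Ptab_1583) (Nat.ble 1583 c)
noncomputable def Ptab_s_1581_1584 (c : Nat) : Nat := @Bool.rec (fun _ => Nat) (Ptab_1581) (Ptab_s_1582_1584 c) (Nat.ble 1582 c)
noncomputable def Ptab_s_1579_1584 (c : Nat) : Nat := @Bool.rec (fun _ => Nat) (Ptab_s_1579_1581 c) (Ptab_s_1581_1584 c) (Nat.ble 1581 c)
noncomputable def Ptab_s_1575_1584 (c : Nat) : Nat := @Bool.rec (fun _ => Nat) (Ptab_s_1575_1579 c) (Ptab_s_1579_1584 c) (Nat.ble 1579 c)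
noncomputable def Ptab_s_1584_1586 (c : Nat) : Nat := @Bool.rec (fun _ => Nat) (Ptab_1584) (Ptab_1585) (Nat.ble 1585 c)
noncomputable def Ptab_s_1586_1588 (c : Nat) : Nat := @Bool.rec (fun _ => Nat) (Ptab_1586) (Ptab_1587) (Nat.ble 1587 c)
noncomputable def Ptab_s_1584_1588 (c : Nat) : Nat := @Bool.rec (fun _ => Nat) (Ptab_s_1584_1586 c) (Ptab_s_1586_1588 c) (Nat.ble 1586 c)
noncomputable def Ptab_s_1588_1590 (c : Nat) : Nat := @Bool.rec (fun _ => Nat) (Ptab_1588) (Ptab_1589) (Nat.ble 1589 c)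
noncomputable def Ptab_s_1591_1593 (c : Nat) : Nat := @Bool.rec (fun _ => Nat) (Ptab_1591) (Ptab_1592) (Nat.ble 1592 c)
noncomputable def Ptab_s_1590_1593 (c : Nat) : Nat := @Bool.rec (fun _ => Nat) (Ptab_1590) (Ptab_s_1591_1593 c) (Nat.ble 1591 c)
noncomputable def Ptab_s_1588_1593 (c : Nat) : Nat := @Bool.rec (fun _ => Nat) (Ptab_s_1588_1590 c) (Ptab_s_1590_1593 c) (Nat.ble 1590 c)
noncomputable def Ptab_s_1584_1593 (c : Nat) : Nat := @Bool.rec (fun _ => Nat) (Ptab_s_1584_1588 c) (Ptab_s_1588_1593 c) (Nat.ble 1588 c)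
noncomputable def Ptab_s_1575_1593 (c : Nat) : Nat := @Bool.rec (fun _ => Nat) (Ptab_s_1575_1584 c) (Ptab_s_1584_1593 c) (Nat.ble 1584 c)
noncomputable def Ptab_s_1593_1595 (c : Nat) : Nat := @Bool.rec (fun _ => Nat) (Ptab_1593) (Ptab_1594) (Nat.ble 1594 c)
noncomputable def Ptab_s_1595_1597 (c : Nat) : Nat := @Bool.rec (fun _ => Nat) (Ptab_1595) (Ptab_1596) (Nat.ble 1596 c)
noncomputable def Ptab_s_1593_1597 (c : Nat) : Nat := @Bool.rec (fun _ => Nat) (Ptab_s_1593_1595 c) (Ptab_s_1595_1597 c) (Nat.ble 1595 c)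
noncomputable def Ptab_s_1597_1599 (c : Nat) : Nat := @Bool.rec (fun _ => Nat) (Ptab_1597) (Ptab_1598) (Nat.ble 1598 c)
noncomputable def Ptab_s_1600_1602 (c : Nat) : Nat := @Bool.rec (fun _ => Nat) (Ptab_1600) (Ptab_1601) (Nat.ble 1601 c)
noncomputable def Ptab_s_1599_1602 (c : Nat) : Nat := @Bool.rec (fun _ => Nat) (Ptab_1599) (Ptab_s_1600_1602 c) (Nat.ble 1600 c)
noncomputable def Ptab_s_1597_1602 (c : Nat) : Nat := @Bool.rec (fun _ => Nat) (Ptab_s_1597_1599 c) (Ptab_s_1599_1602 c) (Nat.ble 1599 c)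
noncomputable def Ptab_s_1593_1602 (c : Nat) : Nat := @Bool.rec (fun _ => Nat) (Ptab_s_1593_1597 c) (Ptab_s_1597_1602 c) (Nat.ble 1597 c)
noncomputable def Ptab_s_1602_1604 (c : Nat) : Nat := @Bool.rec (fun _ => Nat) (Ptab_1602) (Ptab_1603) (Nat.ble 1603 c)
noncomputable def Ptab_s_1605_1607 (c : Nat) : Nat := @Bool.rec (fun _ => Nat) (Ptab_1605) (Ptab_1606) (Nat.ble 1606 c)
noncomputable def Ptab_s_1604_1607 (c : Nat) : Nat := @Bool.rec (fun _ => Nat) (Ptab_1604) (Ptab_s_1605_1607 c) (Nat.ble 1605 c)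
noncomputable def Ptab_s_1602_1607 (c : Nat) : Nat := @Bool.rec (fun _ => Nat) (Ptab_s_1602_1604 c) (Ptab_s_1604_1607 c) (Nat.ble 1604 c)
noncomputable def Ptab_s_1607_1609 (c : Nat) : Nat := @Bool.rec (fun _ => Nat) (Ptab_1607) (Ptab_1608) (Nat.ble 1608 c)
noncomputable def Ptab_s_1610_1612 (c : Nat) : Nat := @Bool.rec (fun _ => Nat) (Ptab_1610) (Ptab_1611) (Nat.ble 1611 c)
noncomputable def Ptab_s_1609_1612 (c : Nat) : Nat := @Bool.rec (fun _ => Nat) (Ptab_1609) (Ptab_s_1610_1612 c) (Nat.ble 1610 c)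
noncomputable def Ptab_s_1607_1612 (c : Nat) : Nat := @Bool.rec (fun _ => Nat) (Ptab_s_1607_1609 c) (Ptab_s_1609_1612 c) (Nat.ble 1609 c)
noncomputable def Ptab_s_1602_1612 (c : Nat) : Nat := @Bool.rec (fun _ => Nat) (Ptab_s_1602_1607 c) (Ptab_s_1607_1612 c) (Nat.ble 1607 c)
noncomputable def Ptab_s_1593_1612 (c : Nat) : Nat := @Bool.rec (fun _ => Nat) (Ptab_s_1593_1602 c) (Ptab_s_1602_1612 c) (Nat.ble 1602 c)
noncomputable def Ptab_s_1575_1612 (c : Nat) : Nat := @Bool.rec (fun _ => Nat) (Ptab_s_1575_1593 c) (Ptab_s_1593_1612 c) (Nat.ble 1593 c)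
noncomputable def Ptab_s_1612_1614 (c : Nat) : Nat := @Bool.rec (fun _ => Nat) (Ptab_1612) (Ptab_1613) (Nat.ble 1613 c)
noncomputable def Ptab_s_1614_1616 (c : Nat) : Nat := @Bool.rec (fun _ => Nat) (Ptab_1614) (Ptab_1615) (Nat.ble 1615 c)
noncomputable def Ptab_s_1612_1616 (c : Nat) : Nat := @Bool.rec (fun _ => Nat) (Ptab_s_1612_1614 c) (Ptab_s_1614_1616 c) (Nat.ble 1614 c)
noncomputable def Ptab_s_1616_1618 (c : Nat) : Nat := @Bool.rec (fun _ => Nat) (Ptab_1616) (Ptab_1617) (Nat.ble 1617 c)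
noncomputable def Ptab_s_1619_1621 (c : Nat) : Nat := @Bool.rec (fun _ => Nat) (Ptab_1619) (Ptab_1620) (Nat.ble 1620 c)
noncomputable def Ptab_s_1618_1621 (c : Nat) : Nat := @Bool.rec (fun _ => Nat) (Ptab_1618) (Ptab_s_1619_1621 c) (Nat.ble 1619 c)
noncomputable def Ptab_s_1616_1621 (c : Nat) : Nat := @Bool.rec (fun _ => Nat) (Ptab_s_1616_1618 c) (Ptab_s_1618_1621 c) (Nat.ble 1618 c)
noncomputable def Ptab_s_1612_1621 (c : Nat) : Nat := @Bool.rec (fun _ => Nat) (Ptab_s_1612_1616 c) (Ptab_s_1616_1621 c) (Nat.ble 1616 c)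
noncomputable def Ptab_s_1621_1623 (c : Nat) : Nat := @Bool.rec (fun _ => Nat) (Ptab_1621) (Ptab_1622) (Nat.ble 1622 c)
noncomputable def Ptab_s_1624_1626 (c : Nat) : Nat := @Bool.rec (fun _ => Nat) (Ptab_1624) (Ptab_1625) (Nat.ble 1625 c)
noncomputable def Ptab_s_1623_1626 (c : Nat) : Nat := @Bool.rec (fun _ => Nat) (Ptab_1623) (Ptab_s_1624_1626 c) (Nat.ble 1624 c)
noncomputable def Ptab_s_1621_1626 (c : Nat) : Nat := @Bool.rec (fun _ => Nat) (Ptab_s_1621_1623 c) (Ptab_s_1623_1626 c) (Nat.ble 1623 c)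
noncomputable def Ptab_s_1626_1628 (c : Nat) : Nat := @Bool.rec (fun _ => Nat) (Ptab_1626) (Ptab_1627) (Nat.ble 1627 c)
noncomputable def Ptab_s_1629_1631 (c : Nat) : Nat := @Bool.rec (fun _ => Nat) (Ptab_1629) (Ptab_1630) (Nat.ble 1630 c)
noncomputable def Ptab_s_1628_1631 (c : Nat) : Nat := @Bool.rec (fun _ => Nat) (Ptab_1628) (Ptab_s_1629_1631 c) (Nat.ble 1629 c)
noncomputable def Ptab_s_1626_1631 (c : Nat) : Nat := @Bool.rec (fun _ => Nat) (Ptab_s_1626_1628 c) (Ptab_s_1628_1631 c) (Nat.ble 1628 c)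
noncomputable def Ptab_s_1621_1631 (c : Nat) : Nat := @Bool.rec (fun _ => Nat) (Ptab_s_1621_1626 c) (Ptab_s_1626_1631 c) (Nat.ble 1626 c)
noncomputable def Ptab_s_1612_1631 (c : Nat) : Nat := @Bool.rec (fun _ => Nat) (Ptab_s_1612_1621 c) (Ptab_s_1621_1631 c) (Nat.ble 1621 c)
noncomputable def Ptab_s_1631_1633 (c : Nat) : Nat := @Bool.rec (fun _ => Nat) (Ptab_1631) (Ptab_1632) (Nat.ble 1632 c)
noncomputable def Ptab_s_1633_1635 (c : Nat) : Nat := @Bool.rec (fun _ => Nat) (Ptab_1633) (Ptab_1634) (Nat.ble 1634 c)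
noncomputable def Ptab_s_1631_1635 (c : Nat) : Nat := @Bool.rec (fun _ => Nat) (Ptab_s_1631_1633 c) (Ptab_s_1633_1635 c) (Nat.ble 1633 c)
noncomputable def Ptab_s_1635_1637 (c : Nat) : Nat := @Bool.rec (fun _ => Nat) (Ptab_1635) (Ptab_1636) (Nat.ble 1636 c)
noncomputable def Ptab_s_1638_1640 (c : Nat) : Nat := @Bool.rec (fun _ => Nat) (Ptab_1638) (Ptab_1639) (Nat.ble 1639 c)
noncomputable def Ptab_s_1637_1640 (c : Nat) : Nat := @Bool.rec (fun _ => Nat) (Ptab_1637) (Ptab_s_1638_1640 c) (Nat.ble 1638 c)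
noncomputable def Ptab_s_1635_1640 (c : Nat) : Nat := @Bool.rec (fun _ => Nat) (Ptab_s_1635_1637 c) (Ptab_s_1637_1640 c) (Nat.ble 1637 c)
noncomputable def Ptab_s_1631_1640 (c : Nat) : Nat := @Bool.rec (fun _ => Nat) (Ptab_s_1631_1635 c) (Ptab_s_1635_1640 c) (Nat.ble 1635 c)
noncomputable def Ptab_s_1640_1642 (c : Nat) : Nat := @Bool.rec (fun _ => Nat) (Ptab_1640) (Ptab_1641) (Nat.ble 1641 c)
noncomputable def Ptab_s_1643_1645 (c : Nat) : Nat := @Bool.rec (fun _ => Nat) (Ptab_1643) (Ptab_1644) (Nat.ble 1644 c)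
noncomputable def Ptab_s_1642_1645 (c : Nat) : Nat := @Bool.rec (fun _ => Nat) (Ptab_1642) (Ptab_s_1643_1645 c) (Nat.ble 1643 c)
noncomputable def Ptab_s_1640_1645 (c : Nat) : Nat := @Bool.rec (fun _ => Nat) (Ptab_s_1640_1642 c) (Ptab_s_1642_1645 c) (Nat.ble 1642 c)
noncomputable def Ptab_s_1645_1647 (c : Nat) : Nat := @Bool.rec (fun _ => Nat) (Ptab_1645) (Ptab_1646) (Nat.ble 1646 c)
noncomputable def Ptab_s_1648_1650 (c : Nat) : Nat := @Bool.rec (fun _ => Nat) (Ptab_1648) (Ptab_1649) (Nat.ble 1649 c)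
noncomputable def Ptab_s_1647_1650 (c : Nat) : Nat := @Bool.rec (fun _ => Nat) (Ptab_1647) (Ptab_s_1648_1650 c) (Nat.ble 1648 c)
noncomputable def Ptab_s_1645_1650 (c : Nat) : Nat := @Bool.rec (fun _ => Nat) (Ptab_s_1645_1647 c) (Ptab_s_1647_1650 c) (Nat.ble 1647 c)
noncomputable def Ptab_s_1640_1650 (c : Nat) : Nat := @Bool.rec (fun _ => Nat) (Ptab_s_1640_1645 c) (Ptab_s_1645_1650 c) (Nat.ble 1645 c)
noncomputable def Ptab_s_1631_1650 (c : Nat) : Nat := @Bool.rec (fun _ => Nat) (Ptab_s_1631_1640 c) (Ptab_s_1640_1650 c) (Nat.ble 1640 c)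
noncomputable def Ptab_s_1612_1650 (c : Nat) : Nat := @Bool.rec (fun _ => Nat) (Ptab_s_1612_1631 c) (Ptab_s_1631_1650 c) (Nat.ble 1631 c)
noncomputable def Ptab_s_1575_1650 (c : Nat) : Nat := @Bool.rec (fun _ => Nat) (Ptab_s_1575_1612 c) (Ptab_s_1612_1650 c) (Nat.ble 1612 c)
noncomputable def Ptab_s_1500_1650 (c : Nat) : Nat := @Bool.rec (fun _ => Nat) (Ptab_s_1500_1575 c) (Ptab_s_1575_1650 c) (Nat.ble 1575 c)
noncomputable def Ptab_s_1650_1652 (c : Nat) : Nat := @Bool.rec (fun _ => Nat) (Ptab_1650) (Ptab_1651) (Nat.ble 1651 c)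
noncomputable def Ptab_s_1652_1654 (c : Nat) : Nat := @Bool.rec (fun _ => Nat) (Ptab_1652) (Ptab_1653) (Nat.ble 1653 c)
noncomputable def Ptab_s_1650_1654 (c : Nat) : Nat := @Bool.rec (fun _ => Nat) (Ptab_s_1650_1652 c) (Ptab_s_1652_1654 c) (Nat.ble 1652 c)
noncomputable def Ptab_s_1654_1656 (c : Nat) : Nat := @Bool.rec (fun _ => Nat) (Ptab_1654) (Ptab_1655) (Nat.ble 1655 c)
noncomputable def Ptab_s_1657_1659 (c : Nat) : Nat := @Bool.rec (fun _ => Nat) (Ptab_1657) (Ptab_1658) (Nat.ble 1658 c)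
noncomputable def Ptab_s_1656_1659 (c : Nat) : Nat := @Bool.rec (fun _ => Nat) (Ptab_1656) (Ptab_s_1657_1659 c) (Nat.ble 1657 c)
noncomputable def Ptab_s_1654_1659 (c : Nat) : Nat := @Bool.rec (fun _ => Nat) (Ptab_s_1654_1656 c) (Ptab_s_1656_1659 c) (Nat.ble 1656 c)
noncomputable def Ptab_s_1650_1659 (c : Nat) : Nat := @Bool.rec (fun _ => Nat) (Ptab_s_1650_1654 c) (Ptab_s_1654_1659 c) (Nat.ble 1654 c)
noncomputable def Ptab_s_1659_1661 (c : Nat) : Nat := @Bool.rec (fun _ => Nat) (Ptab_1659) (Ptab_1660) (Nat.ble 1660 c)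
noncomputable def Ptab_s_1661_1663 (c : Nat) : Nat := @Bool.rec (fun _ => Nat) (Ptab_1661) (Ptab_1662) (Nat.ble 1662 c)
noncomputable def Ptab_s_1659_1663 (c : Nat) : Nat := @Bool.rec (fun _ => Nat) (Ptab_s_1659_1661 c) (Ptab_s_1661_1663 c) (Nat.ble 1661 c)
noncomputable def Ptab_s_1663_1665 (c : Nat) : Nat := @Bool.rec (fun _ => Nat) (Ptab_1663) (Ptab_1664) (Nat.ble 1664 c)
noncomputable def Ptab_s_1666_1668 (c : Nat) : Nat := @Bool.rec (fun _ => Nat) (Ptab_1666) (Ptab_1667) (Nat.ble 1667 c)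
noncomputable def Ptab_s_1665_1668 (c : Nat) : Nat := @Bool.rec (fun _ => Nat) (Ptab_1665) (Ptab_s_1666_1668 c) (Nat.ble 1666 c)
noncomputable def Ptab_s_1663_1668 (c : Nat) : Nat := @Bool.rec (fun _ => Nat) (Ptab_s_1663_1665 c) (Ptab_s_1665_1668 c) (Nat.ble 1665 c)
noncomputable def Ptab_s_1659_1668 (c : Nat) : Nat := @Bool.rec (fun _ => Nat) (Ptab_s_1659_1663 c) (Ptab_s_1663_1668 c) (Nat.ble 1663 c)
noncomputable def Ptab_s_1650_1668 (c : Nat) : Nat := @Bool.rec (fun _ => Nat) (Ptab_s_1650_1659 c) (Ptab_s_1659_1668 c) (Nat.ble 1659 c)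
noncomputable def Ptab_s_1668_1670 (c : Nat) : Nat := @Bool.rec (fun _ => Nat) (Ptab_1668) (Ptab_1669) (Nat.ble 1669 c)
noncomputable def Ptab_s_1670_1672 (c : Nat) : Nat := @Bool.rec (fun _ => Nat) (Ptab_1670) (Ptab_1671) (Nat.ble 1671 c)
noncomputable def Ptab_s_1668_1672 (c : Nat) : Nat := @Bool.rec (fun _ => Nat) (Ptab_s_1668_1670 c) (Ptab_s_1670_1672 c) (Nat.ble 1670 c)
noncomputable def Ptab_s_1672_1674 (c : Nat) : Nat := @Bool.rec (fun _ => Nat) (Ptab_1672) (Ptab_1673) (Nat.ble 1673 c)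
noncomputable def Ptab_s_1675_1677 (c : Nat) : Nat := @Bool.rec (fun _ => Nat) (Ptab_1675) (Ptab_1676) (Nat.ble 1676 c)
noncomputable def Ptab_s_1674_1677 (c : Nat) : Nat := @Bool.rec (fun _ => Nat) (Ptab_1674) (Ptab_s_1675_1677 c) (Nat.ble 1675 c)
noncomputable def Ptab_s_1672_1677 (c : Nat) : Nat := @Bool.rec (fun _ => Nat) (Ptab_s_1672_1674 c) (Ptab_s_1674_1677 c) (Nat.ble 1674 c)
noncomputable def Ptab_s_1668_1677 (c : Nat) : Nat := @Bool.rec (fun _ => Nat) (Ptab_s_1668_1672 c) (Ptab_s_1672_1677 c) (Nat.ble 1672 c)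
noncomputable def Ptab_s_1677_1679 (c : Nat) : Nat := @Bool.rec (fun _ => Nat) (Ptab_1677) (Ptab_1678) (Nat.ble 1678 c)
noncomputable def Ptab_s_1680_1682 (c : Nat) : Nat := @Bool.rec (fun _ => Nat) (Ptab_1680) (Ptab_1681) (Nat.ble 1681 c)
noncomputable def Ptab_s_1679_1682 (c : Nat) : Nat := @Bool.rec (fun _ => Nat) (Ptab_1679) (Ptab_s_1680_1682 c) (Nat.ble 1680 c)
noncomputable def Ptab_s_1677_1682 (c : Nat) : Nat := @Bool.rec (fun _ => Nat) (Ptab_s_1677_1679 c) (Ptab_s_1679_1682 c) (Nat.ble 1679 c)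
noncomputable def Ptab_s_1682_1684 (c : Nat) : Nat := @Bool.rec (fun _ => Nat) (Ptab_1682) (Ptab_1683) (Nat.ble 1683 c)
noncomputable def Ptab_s_1685_1687 (c : Nat) : Nat := @Bool.rec (fun _ => Nat) (Ptab_1685) (Ptab_1686) (Nat.ble 1686 c)
noncomputable def Ptab_s_1684_1687 (c : Nat) : Nat := @Bool.rec (fun _ => Nat) (Ptab_1684) (Ptab_s_1685_1687 c) (Nat.ble 1685 c)
noncomputable def Ptab_s_1682_1687 (c : Nat) : Nat := @Bool.rec (fun _ => Nat) (Ptab_s_1682_1684 c) (Ptab_s_1684_1687 c) (Nat.ble 1684 c)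
noncomputable def Ptab_s_1677_1687 (c : Nat) : Nat := @Bool.rec (fun _ => Nat) (Ptab_s_1677_1682 c) (Ptab_s_1682_1687 c) (Nat.ble 1682 c)
noncomputable def Ptab_s_1668_1687 (c : Nat) : Nat := @Bool.rec (fun _ => Nat) (Ptab_s_1668_1677 c) (Ptab_s_1677_1687 c) (Nat.ble 1677 c)
noncomputable def Ptab_s_1650_1687 (c : Nat) : Nat := @Bool.rec (fun _ => Nat) (Ptab_s_1650_1668 c) (Ptab_s_1668_1687 c) (Nat.ble 1668 c)
noncomputable def Ptab_s_1687_1689 (c : Nat) : Nat := @Bool.rec (fun _ => Nat) (Ptab_1687) (Ptab_1688) (Nat.ble 1688 c)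
noncomputable def Ptab_s_1689_1691 (c : Nat) : Nat := @Bool.rec (fun _ => Nat) (Ptab_1689) (Ptab_1690) (Nat.ble 1690 c)
noncomputable def Ptab_s_1687_1691 (c : Nat) : Nat := @Bool.rec (fun _ => Nat) (Ptab_s_1687_1689 c) (Ptab_s_1689_1691 c) (Nat.ble 1689 c)
noncomputable def Ptab_s_1691_1693 (c : Nat) : Nat := @Bool.rec (fun _ => Nat) (Ptab_1691) (Ptab_1692) (Nat.ble 1692 c)
noncomputable def Ptab_s_1694_1696 (c : Nat) : Nat := @Bool.rec (fun _ => Nat) (Ptab_1694) (Ptab_1695) (Nat.ble 1695 c)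
noncomputable def Ptab_s_1693_1696 (c : Nat) : Nat := @Bool.rec (fun _ => Nat) (Ptab_1693) (Ptab_s_1694_1696 c) (Nat.ble 1694 c)
noncomputable def Ptab_s_1691_1696 (c : Nat) : Nat := @Bool.rec (fun _ => Nat) (Ptab_s_1691_1693 c) (Ptab_s_1693_1696 c) (Nat.ble 1693 c)
noncomputable def Ptab_s_1687_1696 (c : Nat) : Nat := @Bool.rec (fun _ => Nat) (Ptab_s_1687_1691 c) (Ptab_s_1691_1696 c) (Nat.ble 1691 c)
noncomputable def Ptab_s_1696_1698 (c : Nat) : Nat := @Bool.rec (fun _ => Nat) (Ptab_1696) (Ptab_1697) (Nat.ble 1697 c)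
noncomputable def Ptab_s_1699_1701 (c : Nat) : Nat := @Bool.rec (fun _ => Nat) (Ptab_1699) (Ptab_1700) (Nat.ble 1700 c)
noncomputable def Ptab_s_1698_1701 (c : Nat) : Nat := @Bool.rec (fun _ => Nat) (Ptab_1698) (Ptab_s_1699_1701 c) (Nat.ble 1699 c)
noncomputable def Ptab_s_1696_1701 (c : Nat) : Nat := @Bool.rec (fun _ => Nat) (Ptab_s_1696_1698 c) (Ptab_s_1698_1701 c) (Nat.ble 1698 c)
noncomputable def Ptab_s_1701_1703 (c : Nat) : Nat := @Bool.rec (fun _ => Nat) (Ptab_1701) (Ptab_1702) (Nat.ble 1702 c)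
noncomputable def Ptab_s_1704_1706 (c : Nat) : Nat := @Bool.rec (fun _ => Nat) (Ptab_1704) (Ptab_1705) (Nat.ble 1705 c)
noncomputable def Ptab_s_1703_1706 (c : Nat) : Nat := @Bool.rec (fun _ => Nat) (Ptab_1703) (Ptab_s_1704_1706 c) (Nat.ble 1704 c)
noncomputable def Ptab_s_1701_1706 (c : Nat) : Nat := @Bool.rec (fun _ => Nat) (Ptab_s_1701_1703 c) (Ptab_s_1703_1706 c) (Nat.ble 1703 c)
noncomputable def Ptab_s_1696_1706 (c : Nat) : Nat := @Bool.rec (fun _ => Nat) (Ptab_s_1696_1701 c) (Ptab_s_1701_1706 c) (Nat.ble 1701 c)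
noncomputable def Ptab_s_1687_1706 (c : Nat) : Nat := @Bool.rec (fun _ => Nat) (Ptab_s_1687_1696 c) (Ptab_s_1696_1706 c) (Nat.ble 1696 c)
noncomputable def Ptab_s_1706_1708 (c : Nat) : Nat := @Bool.rec (fun _ => Nat) (Ptab_1706) (Ptab_1707) (Nat.ble 1707 c)
noncomputable def Ptab_s_1708_1710 (c : Nat) : Nat := @Bool.rec (fun _ => Nat) (Ptab_1708) (Ptab_1709) (Nat.ble 1709 c)
noncomputable def Ptab_s_1706_1710 (c : Nat) : Nat := @Bool.rec (fun _ => Nat) (Ptab_s_1706_1708 c) (Ptab_s_1708_1710 c) (Nat.ble 1708 c)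
noncomputable def Ptab_s_1710_1712 (c : Nat) : Nat := @Bool.rec (fun _ => Nat) (Ptab_1710) (Ptab_1711) (Nat.ble 1711 c)
noncomputable def Ptab_s_1713_1715 (c : Nat) : Nat := @Bool.rec (fun _ => Nat) (Ptab_1713) (Ptab_1714) (Nat.ble 1714 c)
noncomputable def Ptab_s_1712_1715 (c : Nat) : Nat := @Bool.rec (fun _ => Nat) (Ptab_1712) (Ptab_s_1713_1715 c) (Nat.ble 1713 c)
noncomputable def Ptab_s_1710_1715 (c : Nat) : Nat := @Bool.rec (fun _ => Nat) (Ptab_s_1710_1712 c) (Ptab_s_1712_1715 c) (Nat.ble 1712 c)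
noncomputable def Ptab_s_1706_1715 (c : Nat) : Nat := @Bool.rec (fun _ => Nat) (Ptab_s_1706_1710 c) (Ptab_s_1710_1715 c) (Nat.ble 1710 c)
noncomputable def Ptab_s_1715_1717 (c : Nat) : Nat := @Bool.rec (fun _ => Nat) (Ptab_1715) (Ptab_1716) (Nat.ble 1716 c)
noncomputable def Ptab_s_1718_1720 (c : Nat) : Nat := @Bool.rec (fun _ => Nat) (Ptab_1718) (Ptab_1719) (Nat.ble 1719 c)
noncomputable def Ptab_s_1717_1720 (c : Nat) : Nat := @Bool.rec (fun _ => Nat) (Ptab_1717) (Ptab_s_1718_1720 c) (Nat.ble 1718 c)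
noncomputable def Ptab_s_1715_1720 (c : Nat) : Nat := @Bool.rec (fun _ => Nat) (Ptab_s_1715_1717 c) (Ptab_s_1717_1720 c) (Nat.ble 1717 c)
noncomputable def Ptab_s_1720_1722 (c : Nat) : Nat := @Bool.rec (fun _ => Nat) (Ptab_1720) (Ptab_1721) (Nat.ble 1721 c)
noncomputable def Ptab_s_1723_1725 (c : Nat) : Nat := @Bool.rec (fun _ => Nat) (Ptab_1723) (Ptab_1724) (Nat.ble 1724 c)
noncomputable def Ptab_s_1722_1725 (c : Nat) : Nat := @Bool.rec (fun _ => Nat) (Ptab_1722) (Ptab_s_1723_1725 c) (Nat.ble 1723 c)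
noncomputable def Ptab_s_1720_1725 (c : Nat) : Nat := @Bool.rec (fun _ => Nat) (Ptab_s_1720_1722 c) (Ptab_s_1722_1725 c) (Nat.ble 1722 c)
noncomputable def Ptab_s_1715_1725 (c : Nat) : Nat := @Bool.rec (fun _ => Nat) (Ptab_s_1715_1720 c) (Ptab_s_1720_1725 c) (Nat.ble 1720 c)
noncomputable def Ptab_s_1706_1725 (c : Nat) : Nat := @Bool.rec (fun _ => Nat) (Ptab_s_1706_1715 c) (Ptab_s_1715_1725 c) (Nat.ble 1715 c)
noncomputable def Ptab_s_1687_1725 (c : Nat) : Nat := @Bool.rec (fun _ => Nat) (Ptab_s_1687_1706 c) (Ptab_s_1706_1725 c) (Nat.ble 1706 c)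
noncomputable def Ptab_s_1650_1725 (c : Nat) : Nat := @Bool.rec (fun _ => Nat) (Ptab_s_1650_1687 c) (Ptab_s_1687_1725 c) (Nat.ble 1687 c)
noncomputable def Ptab_s_1725_1727 (c : Nat) : Nat := @Bool.rec (fun _ => Nat) (Ptab_1725) (Ptab_1726) (Nat.ble 1726 c)
noncomputable def Ptab_s_1727_1729 (c : Nat) : Nat := @Bool.rec (fun _ => Nat) (Ptab_1727) (Ptab_1728) (Nat.ble 1728 c)
noncomputable def Ptab_s_1725_1729 (c : Nat) : Nat := @Bool.rec (fun _ => Nat) (Ptab_s_1725_1727 c) (Ptab_s_1727_1729 c) (Nat.ble 1727 c)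
noncomputable def Ptab_s_1729_1731 (c : Nat) : Nat := @Bool.rec (fun _ => Nat) (Ptab_1729) (Ptab_1730) (Nat.ble 1730 c)
noncomputable def Ptab_s_1732_1734 (c : Nat) : Nat := @Bool.rec (fun _ => Nat) (Ptab_1732) (Ptab_1733) (Nat.ble 1733 c)
noncomputable def Ptab_s_1731_1734 (c : Nat) : Nat := @Bool.rec (fun _ => Nat) (Ptab_1731) (Ptab_s_1732_1734 c) (Nat.ble 1732 c)
noncomputable def Ptab_s_1729_1734 (c : Nat) : Nat := @Bool.rec (fun _ => Nat) (Ptab_s_1729_1731 c) (Ptab_s_1731_1734 c) (Nat.ble 1731 c)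
noncomputable def Ptab_s_1725_1734 (c : Nat) : Nat := @Bool.rec (fun _ => Nat) (Ptab_s_1725_1729 c) (Ptab_s_1729_1734 c) (Nat.ble 1729 c)
noncomputable def Ptab_s_1734_1736 (c : Nat) : Nat := @Bool.rec (fun _ => Nat) (Ptab_1734) (Ptab_1735) (Nat.ble 1735 c)
noncomputable def Ptab_s_1736_1738 (c : Nat) : Nat := @Bool.rec (fun _ => Nat) (Ptab_1736) (Ptab_1737) (Nat.ble 1737 c)
noncomputable def Ptab_s_1734_1738 (c : Nat) : Nat := @Bool.rec (fun _ => Nat) (Ptab_s_1734_1736 c) (Ptab_s_1736_1738 c) (Nat.ble 1736 c)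
noncomputable def Ptab_s_1738_1740 (c : Nat) : Nat := @Bool.rec (fun _ => Nat) (Ptab_1738) (Ptab_1739) (Nat.ble 1739 c)
noncomputable def Ptab_s_1741_1743 (c : Nat) : Nat := @Bool.rec (fun _ => Nat) (Ptab_1741) (Ptab_1742) (Nat.ble 1742 c)
noncomputable def Ptab_s_1740_1743 (c : Nat) : Nat := @Bool.rec (fun _ => Nat) (Ptab_1740) (Ptab_s_1741_1743 c) (Nat.ble 1741 c)
noncomputable def Ptab_s_1738_1743 (c : Nat) : Nat := @Bool.rec (fun _ => Nat) (Ptab_s_1738_1740 c) (Ptab_s_1740_1743 c) (Nat.ble 1740 c)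
noncomputable def Ptab_s_1734_1743 (c : Nat) : Nat := @Bool.rec (fun _ => Nat) (Ptab_s_1734_1738 c) (Ptab_s_1738_1743 c) (Nat.ble 1738 c)
noncomputable def Ptab_s_1725_1743 (c : Nat) : Nat := @Bool.rec (fun _ => Nat) (Ptab_s_1725_1734 c) (Ptab_s_1734_1743 c) (Nat.ble 1734 c)
noncomputable def Ptab_s_1743_1745 (c : Nat) : Nat := @Bool.rec (fun _ => Nat) (Ptab_1743) (Ptab_1744) (Nat.ble 1744 c)
noncomputable def Ptab_s_1745_1747 (c : Nat) : Nat := @Bool.rec (fun _ => Nat) (Ptab_1745) (Ptab_1746) (Nat.ble 1746 c)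
noncomputable def Ptab_s_1743_1747 (c : Nat) : Nat := @Bool.rec (fun _ => Nat) (Ptab_s_1743_1745 c) (Ptab_s_1745_1747 c) (Nat.ble 1745 c)
noncomputable def Ptab_s_1747_1749 (c : Nat) : Nat := @Bool.rec (fun _ => Nat) (Ptab_1747) (Ptab_1748) (Nat.ble 1748 c)
noncomputable def Ptab_s_1750_1752 (c : Nat) : Nat := @Bool.rec (fun _ => Nat) (Ptab_1750) (Ptab_1751) (Nat.ble 1751 c)
noncomputable def Ptab_s_1749_1752 (c : Nat) : Nat := @Bool.rec (fun _ => Nat) (Ptab_1749) (Ptab_s_1750_1752 c) (Nat.ble 1750 c)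
noncomputable def Ptab_s_1747_1752 (c : Nat) : Nat := @Bool.rec (fun _ => Nat) (Ptab_s_1747_1749 c) (Ptab_s_1749_1752 c) (Nat.ble 1749 c)
noncomputable def Ptab_s_1743_1752 (c : Nat) : Nat := @Bool.rec (fun _ => Nat) (Ptab_s_1743_1747 c) (Ptab_s_1747_1752 c) (Nat.ble 1747 c)
noncomputable def Ptab_s_1752_1754 (c : Nat) : Nat := @Bool.rec (fun _ => Nat) (Ptab_1752) (Ptab_1753) (Nat.ble 1753 c)
noncomputable def Ptab_s_1755_1757 (c : Nat) : Nat := @Bool.rec (fun _ => Nat) (Ptab_1755) (Ptab_1756) (Nat.ble 1756 c)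
noncomputable def Ptab_s_1754_1757 (c : Nat) : Nat := @Bool.rec (fun _ => Nat) (Ptab_1754) (Ptab_s_1755_1757 c) (Nat.ble 1755 c)
noncomputable def Ptab_s_1752_1757 (c : Nat) : Nat := @Bool.rec (fun _ => Nat) (Ptab_s_1752_1754 c) (Ptab_s_1754_1757 c) (Nat.ble 1754 c)
noncomputable def Ptab_s_1757_1759 (c : Nat) : Nat := @Bool.rec (fun _ => Nat) (Ptab_1757) (Ptab_1758) (Nat.ble 1758 c)
noncomputable def Ptab_s_1760_1762 (c : Nat) : Nat := @Bool.rec (fun _ => Nat) (Ptab_1760) (Ptab_1761) (Nat.ble 1761 c)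
noncomputable def Ptab_s_1759_1762 (c : Nat) : Nat := @Bool.rec (fun _ => Nat) (Ptab_1759) (Ptab_s_1760_1762 c) (Nat.ble 1760 c)
noncomputable def Ptab_s_1757_1762 (c : Nat) : Nat := @Bool.rec (fun _ => Nat) (Ptab_s_1757_1759 c) (Ptab_s_1759_1762 c) (Nat.ble 1759 c)
noncomputable def Ptab_s_1752_1762 (c : Nat) : Nat := @Bool.rec (fun _ => Nat) (Ptab_s_1752_1757 c) (Ptab_s_1757_1762 c) (Nat.ble 1757 c)
noncomputable def Ptab_s_1743_1762 (c : Nat) : Nat := @Bool.rec (fun _ => Nat) (Ptab_s_1743_1752 c) (Ptab_s_1752_1762 c) (Nat.ble 1752 c)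
noncomputable def Ptab_s_1725_1762 (c : Nat) : Nat := @Bool.rec (fun _ => Nat) (Ptab_s_1725_1743 c) (Ptab_s_1743_1762 c) (Nat.ble 1743 c)
noncomputable def Ptab_s_1762_1764 (c : Nat) : Nat := @Bool.rec (fun _ => Nat) (Ptab_1762) (Ptab_1763) (Nat.ble 1763 c)
noncomputable def Ptab_s_1764_1766 (c : Nat) : Nat := @Bool.rec (fun _ => Nat) (Ptab_1764) (Ptab_1765) (Nat.ble 1765 c)
noncomputable def Ptab_s_1762_1766 (c : Nat) : Nat := @Bool.rec (fun _ => Nat) (Ptab_s_1762_1764 c) (Ptab_s_1764_1766 c) (Nat.ble 1764 c)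
noncomputable def Ptab_s_1766_1768 (c : Nat) : Nat := @Bool.rec (fun _ => Nat) (Ptab_1766) (Ptab_1767) (Nat.ble 1767 c)
noncomputable def Ptab_s_1769_1771 (c : Nat) : Nat := @Bool.rec (fun _ => Nat) (Ptab_1769) (Ptab_1770) (Nat.ble 1770 c)
noncomputable def Ptab_s_1768_1771 (c : Nat) : Nat := @Bool.rec (fun _ => Nat) (Ptab_1768) (Ptab_s_1769_1771 c) (Nat.ble 1769 c)
noncomputable def Ptab_s_1766_1771 (c : Nat) : Nat := @Bool.rec (fun _ => Nat) (Ptab_s_1766_1768 c) (Ptab_s_1768_1771 c) (Nat.ble 1768 c)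
noncomputable def Ptab_s_1762_1771 (c : Nat) : Nat := @Bool.rec (fun _ => Nat) (Ptab_s_1762_1766 c) (Ptab_s_1766_1771 c) (Nat.ble 1766 c)
noncomputable def Ptab_s_1771_1773 (c : Nat) : Nat := @Bool.rec (fun _ => Nat) (Ptab_1771) (Ptab_1772) (Nat.ble 1772 c)
noncomputable def Ptab_s_1774_1776 (c : Nat) : Nat := @Bool.rec (fun _ => Nat) (Ptab_1774) (Ptab_1775) (Nat.ble 1775 c)
noncomputable def Ptab_s_1773_1776 (c : Nat) : Nat := @Bool.rec (fun _ => Nat) (Ptab_1773) (Ptab_s_1774_1776 c) (Nat.ble 1774 c)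
noncomputable def Ptab_s_1771_1776 (c : Nat) : Nat := @Bool.rec (fun _ => Nat) (Ptab_s_1771_1773 c) (Ptab_s_1773_1776 c) (Nat.ble 1773 c)
noncomputable def Ptab_s_1776_1778 (c : Nat) : Nat := @Bool.rec (fun _ => Nat) (Ptab_1776) (Ptab_1777) (Nat.ble 1777 c)
noncomputable def Ptab_s_1779_1781 (c : Nat) : Nat := @Bool.rec (fun _ => Nat) (Ptab_1779) (Ptab_1780) (Nat.ble 1780 c)
noncomputable def Ptab_s_1778_1781 (c : Nat) : Nat := @Bool.rec (fun _ => Nat) (Ptab_1778) (Ptab_s_1779_1781 c) (Nat.ble 1779 c)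
noncomputable def Ptab_s_1776_1781 (c : Nat) : Nat := @Bool.rec (fun _ => Nat) (Ptab_s_1776_1778 c) (Ptab_s_1778_1781 c) (Nat.ble 1778 c)
noncomputable def Ptab_s_1771_1781 (c : Nat) : Nat := @Bool.rec (fun _ => Nat) (Ptab_s_1771_1776 c) (Ptab_s_1776_1781 c) (Nat.ble 1776 c)
noncomputable def Ptab_s_1762_1781 (c : Nat) : Nat := @Bool.rec (fun _ => Nat) (Ptab_s_1762_1771 c) (Ptab_s_1771_1781 c) (Nat.ble 1771 c)
noncomputable def Ptab_s_1781_1783 (c : Nat) : Nat := @Bool.rec (fun _ => Nat) (Ptab_1781) (Ptab_1782) (Nat.ble 1782 c)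
noncomputable def Ptab_s_1783_1785 (c : Nat) : Nat := @Bool.rec (fun _ => Nat) (Ptab_1783) (Ptab_1784) (Nat.ble 1784 c)
noncomputable def Ptab_s_1781_1785 (c : Nat) : Nat := @Bool.rec (fun _ => Nat) (Ptab_s_1781_1783 c) (Ptab_s_1783_1785 c) (Nat.ble 1783 c)
noncomputable def Ptab_s_1785_1787 (c : Nat) : Nat := @Bool.rec (fun _ => Nat) (Ptab_1785) (Ptab_1786) (Nat.ble 1786 c)
noncomputable def Ptab_s_1788_1790 (c : Nat) : Nat := @Bool.rec (fun _ => Nat) (Ptab_1788) (Ptab_1789) (Nat.ble 1789 c)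
noncomputable def Ptab_s_1787_1790 (c : Nat) : Nat := @Bool.rec (fun _ => Nat) (Ptab_1787) (Ptab_s_1788_1790 c) (Nat.ble 1788 c)
noncomputable def Ptab_s_1785_1790 (c : Nat) : Nat := @Bool.rec (fun _ => Nat) (Ptab_s_1785_1787 c) (Ptab_s_1787_1790 c) (Nat.ble 1787 c)
noncomputable def Ptab_s_1781_1790 (c : Nat) : Nat := @Bool.rec (fun _ => Nat) (Ptab_s_1781_1785 c) (Ptab_s_1785_1790 c) (Nat.ble 1785 c)
noncomputable def Ptab_s_1790_1792 (c : Nat) : Nat := @Bool.rec (fun _ => Nat) (Ptab_1790) (Ptab_1791) (Nat.ble 1791 c)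
noncomputable def Ptab_s_1793_1795 (c : Nat) : Nat := @Bool.rec (fun _ => Nat) (Ptab_1793) (Ptab_1794) (Nat.ble 1794 c)
noncomputable def Ptab_s_1792_1795 (c : Nat) : Nat := @Bool.rec (fun _ => Nat) (Ptab_1792) (Ptab_s_1793_1795 c) (Nat.ble 1793 c)
noncomputable def Ptab_s_1790_1795 (c : Nat) : Nat := @Bool.rec (fun _ => Nat) (Ptab_s_1790_1792 c) (Ptab_s_1792_1795 c) (Nat.ble 1792 c)
noncomputable def Ptab_s_1795_1797 (c : Nat) : Nat := @Bool.rec (fun _ => Nat) (Ptab_1795) (Ptab_1796) (Nat.ble 1796 c)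
noncomputable def Ptab_s_1798_1800 (c : Nat) : Nat := @Bool.rec (fun _ => Nat) (Ptab_1798) (Ptab_1799) (Nat.ble 1799 c)
noncomputable def Ptab_s_1797_1800 (c : Nat) : Nat := @Bool.rec (fun _ => Nat) (Ptab_1797) (Ptab_s_1798_1800 c) (Nat.ble 1798 c)
noncomputable def Ptab_s_1795_1800 (c : Nat) : Nat := @Bool.rec (fun _ => Nat) (Ptab_s_1795_1797 c) (Ptab_s_1797_1800 c) (Nat.ble 1797 c)
noncomputable def Ptab_s_1790_1800 (c : Nat) : Nat := @Bool.rec (fun _ => Nat) (Ptab_s_1790_1795 c) (Ptab_s_1795_1800 c) (Nat.ble 1795 c)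
noncomputable def Ptab_s_1781_1800 (c : Nat) : Nat := @Bool.rec (fun _ => Nat) (Ptab_s_1781_1790 c) (Ptab_s_1790_1800 c) (Nat.ble 1790 c)
noncomputable def Ptab_s_1762_1800 (c : Nat) : Nat := @Bool.rec (fun _ => Nat) (Ptab_s_1762_1781 c) (Ptab_s_1781_1800 c) (Nat.ble 1781 c)
noncomputable def Ptab_s_1725_1800 (c : Nat) : Nat := @Bool.rec (fun _ => Nat) (Ptab_s_1725_1762 c) (Ptab_s_1762_1800 c) (Nat.ble 1762 c)
noncomputable def Ptab_s_1650_1800 (c : Nat) : Nat := @Bool.rec (fun _ => Nat) (Ptab_s_1650_1725 c) (Ptab_s_1725_1800 c) (Nat.ble 1725 c)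
noncomputable def Ptab_s_1500_1800 (c : Nat) : Nat := @Bool.rec (fun _ => Nat) (Ptab_s_1500_1650 c) (Ptab_s_1650_1800 c) (Nat.ble 1650 c)
noncomputable def Ptab_s_1200_1800 (c : Nat) : Nat := @Bool.rec (fun _ => Nat) (Ptab_s_1200_1500 c) (Ptab_s_1500_1800 c) (Nat.ble 1500 c)
noncomputable def Ptab_s_1800_1802 (c : Nat) : Nat := @Bool.rec (fun _ => Nat) (Ptab_1800) (Ptab_1801) (Nat.ble 1801 c)
noncomputable def Ptab_s_1802_1804 (c : Nat) : Nat := @Bool.rec (fun _ => Nat) (Ptab_1802) (Ptab_1803) (Nat.ble 1803 c)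
noncomputable def Ptab_s_1800_1804 (c : Nat) : Nat := @Bool.rec (fun _ => Nat) (Ptab_s_1800_1802 c) (Ptab_s_1802_1804 c) (Nat.ble 1802 c)
noncomputable def Ptab_s_1804_1806 (c : Nat) : Nat := @Bool.rec (fun _ => Nat) (Ptab_1804) (Ptab_1805) (Nat.ble 1805 c)
noncomputable def Ptab_s_1807_1809 (c : Nat) : Nat := @Bool.rec (fun _ => Nat) (Ptab_1807) (Ptab_1808) (Nat.ble 1808 c)
noncomputable def Ptab_s_1806_1809 (c : Nat) : Nat := @Bool.rec (fun _ => Nat) (Ptab_1806) (Ptab_s_1807_1809 c) (Nat.ble 1807 c)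
noncomputable def Ptab_s_1804_1809 (c : Nat) : Nat := @Bool.rec (fun _ => Nat) (Ptab_s_1804_1806 c) (Ptab_s_1806_1809 c) (Nat.ble 1806 c)
noncomputable def Ptab_s_1800_1809 (c : Nat) : Nat := @Bool.rec (fun _ => Nat) (Ptab_s_1800_1804 c) (Ptab_s_1804_1809 c) (Nat.ble 1804 c)
noncomputable def Ptab_s_1809_1811 (c : Nat) : Nat := @Bool.rec (fun _ => Nat) (Ptab_1809) (Ptab_1810) (Nat.ble 1810 c)
noncomputable def Ptab_s_1811_1813 (c : Nat) : Nat := @Bool.rec (fun _ => Nat) (Ptab_1811) (Ptab_1812) (Nat.ble 1812 c)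
noncomputable def Ptab_s_1809_1813 (c : Nat) : Nat := @Bool.rec (fun _ => Nat) (Ptab_s_1809_1811 c) (Ptab_s_1811_1813 c) (Nat.ble 1811 c)
noncomputable def Ptab_s_1813_1815 (c : Nat) : Nat := @Bool.rec (fun _ => Nat) (Ptab_1813) (Ptab_1814) (Nat.ble 1814 c)
noncomputable def Ptab_s_1816_1818 (c : Nat) : Nat := @Bool.rec (fun _ => Nat) (Ptab_1816) (Ptab_1817) (Nat.ble 1817 c)
noncomputable def Ptab_s_1815_1818 (c : Nat) : Nat := @Bool.rec (fun _ => Nat) (Ptab_1815) (Ptab_s_1816_1818 c) (Nat.ble 1816 c)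
noncomputable def Ptab_s_1813_1818 (c : Nat) : Nat := @Bool.rec (fun _ => Nat) (Ptab_s_1813_1815 c) (Ptab_s_1815_1818 c) (Nat.ble 1815 c)
noncomputable def Ptab_s_1809_1818 (c : Nat) : Nat := @Bool.rec (fun _ => Nat) (Ptab_s_1809_1813 c) (Ptab_s_1813_1818 c) (Nat.ble 1813 c)
noncomputable def Ptab_s_1800_1818 (c : Nat) : Nat := @Bool.rec (fun _ => Nat) (Ptab_s_1800_1809 c) (Ptab_s_1809_1818 c) (Nat.ble 1809 c)
noncomputable def Ptab_s_1818_1820 (c : Nat) : Nat := @Bool.rec (fun _ => Nat) (Ptab_1818) (Ptab_1819) (Nat.ble 1819 c)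
noncomputable def Ptab_s_1820_1822 (c : Nat) : Nat := @Bool.rec (fun _ => Nat) (Ptab_1820) (Ptab_1821) (Nat.ble 1821 c)
noncomputable def Ptab_s_1818_1822 (c : Nat) : Nat := @Bool.rec (fun _ => Nat) (Ptab_s_1818_1820 c) (Ptab_s_1820_1822 c) (Nat.ble 1820 c)
noncomputable def Ptab_s_1822_1824 (c : Nat) : Nat := @Bool.rec (fun _ => Nat) (Ptab_1822) (Ptab_1823) (Nat.ble 1823 c)
noncomputable def Ptab_s_1825_1827 (c : Nat) : Nat := @Bool.rec (fun _ => Nat) (Ptab_1825) (Ptab_1826) (Nat.ble 1826 c)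
noncomputable def Ptab_s_1824_1827 (c : Nat) : Nat := @Bool.rec (fun _ => Nat) (Ptab_1824) (Ptab_s_1825_1827 c) (Nat.ble 1825 c)
noncomputable def Ptab_s_1822_1827 (c : Nat) : Nat := @Bool.rec (fun _ => Nat) (Ptab_s_1822_1824 c) (Ptab_s_1824_1827 c) (Nat.ble 1824 c)
noncomputable def Ptab_s_1818_1827 (c : Nat) : Nat := @Bool.rec (fun _ => Nat) (Ptab_s_1818_1822 c) (Ptab_s_1822_1827 c) (Nat.ble 1822 c)
noncomputable def Ptab_s_1827_1829 (c : Nat) : Nat := @Bool.rec (fun _ => Nat) (Ptab_1827) (Ptab_1828) (Nat.ble 1828 c)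
noncomputable def Ptab_s_1830_1832 (c : Nat) : Nat := @Bool.rec (fun _ => Nat) (Ptab_1830) (Ptab_1831) (Nat.ble 1831 c)
noncomputable def Ptab_s_1829_1832 (c : Nat) : Nat := @Bool.rec (fun _ => Nat) (Ptab_1829) (Ptab_s_1830_1832 c) (Nat.ble 1830 c)
noncomputable def Ptab_s_1827_1832 (c : Nat) : Nat := @Bool.rec (fun _ => Nat) (Ptab_s_1827_1829 c) (Ptab_s_1829_1832 c) (Nat.ble 1829 c)
noncomputable def Ptab_s_1832_1834 (c : Nat) : Nat := @Bool.rec (fun _ => Nat) (Ptab_1832) (Ptab_1833) (Nat.ble 1833 c)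
noncomputable def Ptab_s_1835_1837 (c : Nat) : Nat := @Bool.rec (fun _ => Nat) (Ptab_1835) (Ptab_1836) (Nat.ble 1836 c)
noncomputable def Ptab_s_1834_1837 (c : Nat) : Nat := @Bool.rec (fun _ => Nat) (Ptab_1834) (Ptab_s_1835_1837 c) (Nat.ble 1835 c)
noncomputable def Ptab_s_1832_1837 (c : Nat) : Nat := @Bool.rec (fun _ => Nat) (Ptab_s_1832_1834 c) (Ptab_s_1834_1837 c) (Nat.ble 1834 c)
noncomputable def Ptab_s_1827_1837 (c : Nat) : Nat := @Bool.rec (fun _ => Nat) (Ptab_s_1827_1832 c) (Ptab_s_1832_1837 c) (Nat.ble 1832 c)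
noncomputable def Ptab_s_1818_1837 (c : Nat) : Nat := @Bool.rec (fun _ => Nat) (Ptab_s_1818_1827 c) (Ptab_s_1827_1837 c) (Nat.ble 1827 c)
noncomputable def Ptab_s_1800_1837 (c : Nat) : Nat := @Bool.rec (fun _ => Nat) (Ptab_s_1800_1818 c) (Ptab_s_1818_1837 c) (Nat.ble 1818 c)
noncomputable def Ptab_s_1837_1839 (c : Nat) : Nat := @Bool.rec (fun _ => Nat) (Ptab_1837) (Ptab_1838) (Nat.ble 1838 c)
noncomputable def Ptab_s_1839_1841 (c : Nat) : Nat := @Bool.rec (fun _ => Nat) (Ptab_1839) (Ptab_1840) (Nat.ble 1840 c)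
noncomputable def Ptab_s_1837_1841 (c : Nat) : Nat := @Bool.rec (fun _ => Nat) (Ptab_s_1837_1839 c) (Ptab_s_1839_1841 c) (Nat.ble 1839 c)
noncomputable def Ptab_s_1841_1843 (c : Nat) : Nat := @Bool.rec (fun _ => Nat) (Ptab_1841) (Ptab_1842) (Nat.ble 1842 c)
noncomputable def Ptab_s_1844_1846 (c : Nat) : Nat := @Bool.rec (fun _ => Nat) (Ptab_1844) (Ptab_1845) (Nat.ble 1845 c)
noncomputable def Ptab_s_1843_1846 (c : Nat) : Nat := @Bool.rec (fun _ => Nat) (Ptab_1843) (Ptab_s_1844_1846 c) (Nat.ble 1844 c)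
noncomputable def Ptab_s_1841_1846 (c : Nat) : Nat := @Bool.rec (fun _ => Nat) (Ptab_s_1841_1843 c) (Ptab_s_1843_1846 c) (Nat.ble 1843 c)
noncomputable def Ptab_s_1837_1846 (c : Nat) : Nat := @Bool.rec (fun _ => Nat) (Ptab_s_1837_1841 c) (Ptab_s_1841_1846 c) (Nat.ble 1841 c)
noncomputable def Ptab_s_1846_1848 (c : Nat) : Nat := @Bool.rec (fun _ => Nat) (Ptab_1846) (Ptab_1847) (Nat.ble 1847 c)
noncomputable def Ptab_s_1849_1851 (c : Nat) : Nat := @Bool.rec (fun _ => Nat) (Ptab_1849) (Ptab_1850) (Nat.ble 1850 c)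
noncomputable def Ptab_s_1848_1851 (c : Nat) : Nat := @Bool.rec (fun _ => Nat) (Ptab_1848) (Ptab_s_1849_1851 c) (Nat.ble 1849 c)
noncomputable def Ptab_s_1846_1851 (c : Nat) : Nat := @Bool.rec (fun _ => Nat) (Ptab_s_1846_1848 c) (Ptab_s_1848_1851 c) (Nat.ble 1848 c)
noncomputable def Ptab_s_1851_1853 (c : Nat) : Nat := @Bool.rec (fun _ => Nat) (Ptab_1851) (Ptab_1852) (Nat.ble 1852 c)
noncomputable def Ptab_s_1854_1856 (c : Nat) : Nat := @Bool.rec (fun _ => Nat) (Ptab_1854) (Ptab_1855) (Nat.ble 1855 c)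
noncomputable def Ptab_s_1853_1856 (c : Nat) : Nat := @Bool.rec (fun _ => Nat) (Ptab_1853) (Ptab_s_1854_1856 c) (Nat.ble 1854 c)
noncomputable def Ptab_s_1851_1856 (c : Nat) : Nat := @Bool.rec (fun _ => Nat) (Ptab_s_1851_1853 c) (Ptab_s_1853_1856 c) (Nat.ble 1853 c)
noncomputable def Ptab_s_1846_1856 (c : Nat) : Nat := @Bool.rec (fun _ => Nat) (Ptab_s_1846_1851 c) (Ptab_s_1851_1856 c) (Nat.ble 1851 c)
noncomputable def Ptab_s_1837_1856 (c : Nat) : Nat := @Bool.rec (fun _ => Nat) (Ptab_s_1837_1846 c) (Ptab_s_1846_1856 c) (Nat.ble 1846 c)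
noncomputable def Ptab_s_1856_1858 (c : Nat) : Nat := @Bool.rec (fun _ => Nat) (Ptab_1856) (Ptab_1857) (Nat.ble 1857 c)
noncomputable def Ptab_s_1858_1860 (c : Nat) : Nat := @Bool.rec (fun _ => Nat) (Ptab_1858) (Ptab_1859) (Nat.ble 1859 c)
noncomputable def Ptab_s_1856_1860 (c : Nat) : Nat := @Bool.rec (fun _ => Nat) (Ptab_s_1856_1858 c) (Ptab_s_1858_1860 c) (Nat.ble 1858 c)
noncomputable def Ptab_s_1860_1862 (c : Nat) : Nat := @Bool.rec (fun _ => Nat) (Ptab_1860) (Ptab_1861) (Nat.ble 1861 c)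
noncomputable def Ptab_s_1863_1865 (c : Nat) : Nat := @Bool.rec (fun _ => Nat) (Ptab_1863) (Ptab_1864) (Nat.ble 1864 c)
noncomputable def Ptab_s_1862_1865 (c : Nat) : Nat := @Bool.rec (fun _ => Nat) (Ptab_1862) (Ptab_s_1863_1865 c) (Nat.ble 1863 c)
noncomputable def Ptab_s_1860_1865 (c : Nat) : Nat := @Bool.rec (fun _ => Nat) (Ptab_s_1860_1862 c) (Ptab_s_1862_1865 c) (Nat.ble 1862 c)
noncomputable def Ptab_s_1856_1865 (c : Nat) : Nat := @Bool.rec (fun _ => Nat) (Ptab_s_1856_1860 c) (Ptab_s_1860_1865 c) (Nat.ble 1860 c)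
noncomputable def Ptab_s_1865_1867 (c : Nat) : Nat := @Bool.rec (fun _ => Nat) (Ptab_1865) (Ptab_1866) (Nat.ble 1866 c)
noncomputable def Ptab_s_1868_1870 (c : Nat) : Nat := @Bool.rec (fun _ => Nat) (Ptab_1868) (Ptab_1869) (Nat.ble 1869 c)
noncomputable def Ptab_s_1867_1870 (c : Nat) : Nat := @Bool.rec (fun _ => Nat) (Ptab_1867) (Ptab_s_1868_1870 c) (Nat.ble 1868 c)
noncomputable def Ptab_s_1865_1870 (c : Nat) : Nat := @Bool.rec (fun _ => Nat) (Ptab_s_1865_1867 c) (Ptab_s_1867_1870 c) (Nat.ble 1867 c)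
noncomputable def Ptab_s_1870_1872 (c : Nat) : Nat := @Bool.rec (fun _ => Nat) (Ptab_1870) (Ptab_1871) (Nat.ble 1871 c)
noncomputable def Ptab_s_1873_1875 (c : Nat) : Nat := @Bool.rec (fun _ => Nat) (Ptab_1873) (Ptab_1874) (Nat.ble 1874 c)
noncomputable def Ptab_s_1872_1875 (c : Nat) : Nat := @Bool.rec (fun _ => Nat) (Ptab_1872) (Ptab_s_1873_1875 c) (Nat.ble 1873 c)
noncomputable def Ptab_s_1870_1875 (c : Nat) : Nat := @Bool.rec (fun _ => Nat) (Ptab_s_1870_1872 c) (Ptab_s_1872_1875 c) (Nat.ble 1872 c)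
noncomputable def Ptab_s_1865_1875 (c : Nat) : Nat := @Bool.rec (fun _ => Nat) (Ptab_s_1865_1870 c) (Ptab_s_1870_1875 c) (Nat.ble 1870 c)
noncomputable def Ptab_s_1856_1875 (c : Nat) : Nat := @Bool.rec (fun _ => Nat) (Ptab_s_1856_1865 c) (Ptab_s_1865_1875 c) (Nat.ble 1865 c)
noncomputable def Ptab_s_1837_1875 (c : Nat) : Nat := @Bool.rec (fun _ => Nat) (Ptab_s_1837_1856 c) (Ptab_s_1856_1875 c) (Nat.ble 1856 c)
noncomputable def Ptab_s_1800_1875 (c : Nat) : Nat := @Bool.rec (fun _ => Nat) (Ptab_s_1800_1837 c) (Ptab_s_1837_1875 c) (Nat.ble 1837 c)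
noncomputable def Ptab_s_1875_1877 (c : Nat) : Nat := @Bool.rec (fun _ => Nat) (Ptab_1875) (Ptab_1876) (Nat.ble 1876 c)
noncomputable def Ptab_s_1877_1879 (c : Nat) : Nat := @Bool.rec (fun _ => Nat) (Ptab_1877) (Ptab_1878) (Nat.ble 1878 c)
noncomputable def Ptab_s_1875_1879 (c : Nat) : Nat := @Bool.rec (fun _ => Nat) (Ptab_s_1875_1877 c) (Ptab_s_1877_1879 c) (Nat.ble 1877 c)
noncomputable def Ptab_s_1879_1881 (c : Nat) : Nat := @Bool.rec (fun _ => Nat) (Ptab_1879) (Ptab_1880) (Nat.ble 1880 c)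
noncomputable def Ptab_s_1882_1884 (c : Nat) : Nat := @Bool.rec (fun _ => Nat) (Ptab_1882) (Ptab_1883) (Nat.ble 1883 c)
noncomputable def Ptab_s_1881_1884 (c : Nat) : Nat := @Bool.rec (fun _ => Nat) (Ptab_1881) (Ptab_s_1882_1884 c) (Nat.ble 1882 c)
noncomputable def Ptab_s_1879_1884 (c : Nat) : Nat := @Bool.rec (fun _ => Nat) (Ptab_s_1879_1881 c) (Ptab_s_1881_1884 c) (Nat.ble 1881 c)
noncomputable def Ptab_s_1875_1884 (c : Nat) : Nat := @Bool.rec (fun _ => Nat) (Ptab_s_1875_1879 c) (Ptab_s_1879_1884 c) (Nat.ble 1879 c)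
noncomputable def Ptab_s_1884_1886 (c : Nat) : Nat := @Bool.rec (fun _ => Nat) (Ptab_1884) (Ptab_1885) (Nat.ble 1885 c)
noncomputable def Ptab_s_1886_1888 (c : Nat) : Nat := @Bool.rec (fun _ => Nat) (Ptab_1886) (Ptab_1887) (Nat.ble 1887 c)
noncomputable def Ptab_s_1884_1888 (c : Nat) : Nat := @Bool.rec (fun _ => Nat) (Ptab_s_1884_1886 c) (Ptab_s_1886_1888 c) (Nat.ble 1886 c)
noncomputable def Ptab_s_1888_1890 (c : Nat) : Nat := @Bool.rec (fun _ => Nat) (Ptab_1888) (Ptab_1889) (Nat.ble 1889 c)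
noncomputable def Ptab_s_1891_1893 (c : Nat) : Nat := @Bool.rec (fun _ => Nat) (Ptab_1891) (Ptab_1892) (Nat.ble 1892 c)
noncomputable def Ptab_s_1890_1893 (c : Nat) : Nat := @Bool.rec (fun _ => Nat) (Ptab_1890) (Ptab_s_1891_1893 c) (Nat.ble 1891 c)
noncomputable def Ptab_s_1888_1893 (c : Nat) : Nat := @Bool.rec (fun _ => Nat) (Ptab_s_1888_1890 c) (Ptab_s_1890_1893 c) (Nat.ble 1890 c)
noncomputable def Ptab_s_1884_1893 (c : Nat) : Nat := @Bool.rec (fun _ => Nat) (Ptab_s_1884_1888 c) (Ptab_s_1888_1893 c) (Nat.ble 1888 c)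
noncomputable def Ptab_s_1875_1893 (c : Nat) : Nat := @Bool.rec (fun _ => Nat) (Ptab_s_1875_1884 c) (Ptab_s_1884_1893 c) (Nat.ble 1884 c)
noncomputable def Ptab_s_1893_1895 (c : Nat) : Nat := @Bool.rec (fun _ => Nat) (Ptab_1893) (Ptab_1894) (Nat.ble 1894 c)
noncomputable def Ptab_s_1895_1897 (c : Nat) : Nat := @Bool.rec (fun _ => Nat) (Ptab_1895) (Ptab_1896) (Nat.ble 1896 c)
noncomputable def Ptab_s_1893_1897 (c : Nat) : Nat := @Bool.rec (fun _ => Nat) (Ptab_s_1893_1895 c) (Ptab_s_1895_1897 c) (Nat.ble 1895 c)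
noncomputable def Ptab_s_1897_1899 (c : Nat) : Nat := @Bool.rec (fun _ => Nat) (Ptab_1897) (Ptab_1898) (Nat.ble 1898 c)
noncomputable def Ptab_s_1900_1902 (c : Nat) : Nat := @Bool.rec (fun _ => Nat) (Ptab_1900) (Ptab_1901) (Nat.ble 1901 c)
noncomputable def Ptab_s_1899_1902 (c : Nat) : Nat := @Bool.rec (fun _ => Nat) (Ptab_1899) (Ptab_s_1900_1902 c) (Nat.ble 1900 c)
noncomputable def Ptab_s_1897_1902 (c : Nat) : Nat := @Bool.rec (fun _ => Nat) (Ptab_s_1897_1899 c) (Ptab_s_1899_1902 c) (Nat.ble 1899 c)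
noncomputable def Ptab_s_1893_1902 (c : Nat) : Nat := @Bool.rec (fun _ => Nat) (Ptab_s_1893_1897 c) (Ptab_s_1897_1902 c) (Nat.ble 1897 c)
noncomputable def Ptab_s_1902_1904 (c : Nat) : Nat := @Bool.rec (fun _ => Nat) (Ptab_1902) (Ptab_1903) (Nat.ble 1903 c)
noncomputable def Ptab_s_1905_1907 (c : Nat) : Nat := @Bool.rec (fun _ => Nat) (Ptab_1905) (Ptab_1906) (Nat.ble 1906 c)
noncomputable def Ptab_s_1904_1907 (c : Nat) : Nat := @Bool.rec (fun _ => Nat) (Ptab_1904) (Ptab_s_1905_1907 c) (Nat.ble 1905 c)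
noncomputable def Ptab_s_1902_1907 (c : Nat) : Nat := @Bool.rec (fun _ => Nat) (Ptab_s_1902_1904 c) (Ptab_s_1904_1907 c) (Nat.ble 1904 c)
noncomputable def Ptab_s_1907_1909 (c : Nat) : Nat := @Bool.rec (fun _ => Nat) (Ptab_1907) (Ptab_1908) (Nat.ble 1908 c)
noncomputable def Ptab_s_1910_1912 (c : Nat) : Nat := @Bool.rec (fun _ => Nat) (Ptab_1910) (Ptab_1911) (Nat.ble 1911 c)
noncomputable def Ptab_s_1909_1912 (c : Nat) : Nat := @Bool.rec (fun _ => Nat) (Ptab_1909) (Ptab_s_1910_1912 c) (Nat.ble 1910 c)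
noncomputable def Ptab_s_1907_1912 (c : Nat) : Nat := @Bool.rec (fun _ => Nat) (Ptab_s_1907_1909 c) (Ptab_s_1909_1912 c) (Nat.ble 1909 c)
noncomputable def Ptab_s_1902_1912 (c : Nat) : Nat := @Bool.rec (fun _ => Nat) (Ptab_s_1902_1907 c) (Ptab_s_1907_1912 c) (Nat.ble 1907 c)
noncomputable def Ptab_s_1893_1912 (c : Nat) : Nat := @Bool.rec (fun _ => Nat) (Ptab_s_1893_1902 c) (Ptab_s_1902_1912 c) (Nat.ble 1902 c)
noncomputable def Ptab_s_1875_1912 (c : Nat) : Nat := @Bool.rec (fun _ => Nat) (Ptab_s_1875_1893 c) (Ptab_s_1893_1912 c) (Nat.ble 1893 c)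
noncomputable def Ptab_s_1912_1914 (c : Nat) : Nat := @Bool.rec (fun _ => Nat) (Ptab_1912) (Ptab_1913) (Nat.ble 1913 c)
noncomputable def Ptab_s_1914_1916 (c : Nat) : Nat := @Bool.rec (fun _ => Nat) (Ptab_1914) (Ptab_1915) (Nat.ble 1915 c)
noncomputable def Ptab_s_1912_1916 (c : Nat) : Nat := @Bool.rec (fun _ => Nat) (Ptab_s_1912_1914 c) (Ptab_s_1914_1916 c) (Nat.ble 1914 c)
noncomputable def Ptab_s_1916_1918 (c : Nat) : Nat := @Bool.rec (fun _ => Nat) (Ptab_1916) (Ptab_1917) (Nat.ble 1917 c)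
noncomputable def Ptab_s_1919_1921 (c : Nat) : Nat := @Bool.rec (fun _ => Nat) (Ptab_1919) (Ptab_1920) (Nat.ble 1920 c)
noncomputable def Ptab_s_1918_1921 (c : Nat) : Nat := @Bool.rec (fun _ => Nat) (Ptab_1918) (Ptab_s_1919_1921 c) (Nat.ble 1919 c)
noncomputable def Ptab_s_1916_1921 (c : Nat) : Nat := @Bool.rec (fun _ => Nat) (Ptab_s_1916_1918 c) (Ptab_s_1918_1921 c) (Nat.ble 1918 c)
noncomputable def Ptab_s_1912_1921 (c : Nat) : Nat := @Bool.rec (fun _ => Nat) (Ptab_s_1912_1916 c) (Ptab_s_1916_1921 c) (Nat.ble 1916 c)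
noncomputable def Ptab_s_1921_1923 (c : Nat) : Nat := @Bool.rec (fun _ => Nat) (Ptab_1921) (Ptab_1922) (Nat.ble 1922 c)
noncomputable def Ptab_s_1924_1926 (c : Nat) : Nat := @Bool.rec (fun _ => Nat) (Ptab_1924) (Ptab_1925) (Nat.ble 1925 c)
noncomputable def Ptab_s_1923_1926 (c : Nat) : Nat := @Bool.rec (fun _ => Nat) (Ptab_1923) (Ptab_s_1924_1926 c) (Nat.ble 1924 c)
noncomputable def Ptab_s_1921_1926 (c : Nat) : Nat := @Bool.rec (fun _ => Nat) (Ptab_s_1921_1923 c) (Ptab_s_1923_1926 c) (Nat.ble 1923 c)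
noncomputable def Ptab_s_1926_1928 (c : Nat) : Nat := @Bool.rec (fun _ => Nat) (Ptab_1926) (Ptab_1927) (Nat.ble 1927 c)
noncomputable def Ptab_s_1929_1931 (c : Nat) : Nat := @Bool.rec (fun _ => Nat) (Ptab_1929) (Ptab_1930) (Nat.ble 1930 c)
noncomputable def Ptab_s_1928_1931 (c : Nat) : Nat := @Bool.rec (fun _ => Nat) (Ptab_1928) (Ptab_s_1929_1931 c) (Nat.ble 1929 c)
noncomputable def Ptab_s_1926_1931 (c : Nat) : Nat := @Bool.rec (fun _ => Nat) (Ptab_s_1926_1928 c) (Ptab_s_1928_1931 c) (Nat.ble 1928 c)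
noncomputable def Ptab_s_1921_1931 (c : Nat) : Nat := @Bool.rec (fun _ => Nat) (Ptab_s_1921_1926 c) (Ptab_s_1926_1931 c) (Nat.ble 1926 c)
noncomputable def Ptab_s_1912_1931 (c : Nat) : Nat := @Bool.rec (fun _ => Nat) (Ptab_s_1912_1921 c) (Ptab_s_1921_1931 c) (Nat.ble 1921 c)
noncomputable def Ptab_s_1931_1933 (c : Nat) : Nat := @Bool.rec (fun _ => Nat) (Ptab_1931) (Ptab_1932) (Nat.ble 1932 c)
noncomputable def Ptab_s_1933_1935 (c : Nat) : Nat := @Bool.rec (fun _ => Nat) (Ptab_1933) (Ptab_1934) (Nat.ble 1934 c)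
noncomputable def Ptab_s_1931_1935 (c : Nat) : Nat := @Bool.rec (fun _ => Nat) (Ptab_s_1931_1933 c) (Ptab_s_1933_1935 c) (Nat.ble 1933 c)
noncomputable def Ptab_s_1935_1937 (c : Nat) : Nat := @Bool.rec (fun _ => Nat) (Ptab_1935) (Ptab_1936) (Nat.ble 1936 c)
noncomputable def Ptab_s_1938_1940 (c : Nat) : Nat := @Bool.rec (fun _ => Nat) (Ptab_1938) (Ptab_1939) (Nat.ble 1939 c)
noncomputable def Ptab_s_1937_1940 (c : Nat) : Nat := @Bool.rec (fun _ => Nat) (Ptab_1937) (Ptab_s_1938_1940 c) (Nat.ble 1938 c)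
noncomputable def Ptab_s_1935_1940 (c : Nat) : Nat := @Bool.rec (fun _ => Nat) (Ptab_s_1935_1937 c) (Ptab_s_1937_1940 c) (Nat.ble 1937 c)
noncomputable def Ptab_s_1931_1940 (c : Nat) : Nat := @Bool.rec (fun _ => Nat) (Ptab_s_1931_1935 c) (Ptab_s_1935_1940 c) (Nat.ble 1935 c)
noncomputable def Ptab_s_1940_1942 (c : Nat) : Nat := @Bool.rec (fun _ => Nat) (Ptab_1940) (Ptab_1941) (Nat.ble 1941 c)
noncomputable def Ptab_s_1943_1945 (c : Nat) : Nat := @Bool.rec (fun _ => Nat) (Ptab_1943) (Ptab_1944) (Nat.ble 1944 c)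
noncomputable def Ptab_s_1942_1945 (c : Nat) : Nat := @Bool.rec (fun _ => Nat) (Ptab_1942) (Ptab_s_1943_1945 c) (Nat.ble 1943 c)
noncomputable def Ptab_s_1940_1945 (c : Nat) : Nat := @Bool.rec (fun _ => Nat) (Ptab_s_1940_1942 c) (Ptab_s_1942_1945 c) (Nat.ble 1942 c)
noncomputable def Ptab_s_1945_1947 (c : Nat) : Nat := @Bool.rec (fun _ => Nat) (Ptab_1945) (Ptab_1946) (Nat.ble 1946 c)
noncomputable def Ptab_s_1948_1950 (c : Nat) : Nat := @Bool.rec (fun _ => Nat) (Ptab_1948) (Ptab_1949) (Nat.ble 1949 c)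
noncomputable def Ptab_s_1947_1950 (c : Nat) : Nat := @Bool.rec (fun _ => Nat) (Ptab_1947) (Ptab_s_1948_1950 c) (Nat.ble 1948 c)
noncomputable def Ptab_s_1945_1950 (c : Nat) : Nat := @Bool.rec (fun _ => Nat) (Ptab_s_1945_1947 c) (Ptab_s_1947_1950 c) (Nat.ble 1947 c)
noncomputable def Ptab_s_1940_1950 (c : Nat) : Nat := @Bool.rec (fun _ => Nat) (Ptab_s_1940_1945 c) (Ptab_s_1945_1950 c) (Nat.ble 1945 c)
noncomputable def Ptab_s_1931_1950 (c : Nat) : Nat := @Bool.rec (fun _ => Nat) (Ptab_s_1931_1940 c) (Ptab_s_1940_1950 c) (Nat.ble 1940 c)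
noncomputable def Ptab_s_1912_1950 (c : Nat) : Nat := @Bool.rec (fun _ => Nat) (Ptab_s_1912_1931 c) (Ptab_s_1931_1950 c) (Nat.ble 1931 c)
noncomputable def Ptab_s_1875_1950 (c : Nat) : Nat := @Bool.rec (fun _ => Nat) (Ptab_s_1875_1912 c) (Ptab_s_1912_1950 c) (Nat.ble 1912 c)
noncomputable def Ptab_s_1800_1950 (c : Nat) : Nat := @Bool.rec (fun _ => Nat) (Ptab_s_1800_1875 c) (Ptab_s_1875_1950 c) (Nat.ble 1875 c)
noncomputable def Ptab_s_1950_1952 (c : Nat) : Nat := @Bool.rec (fun _ => Nat) (Ptab_1950) (Ptab_1951) (Nat.ble 1951 c)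
noncomputable def Ptab_s_1952_1954 (c : Nat) : Nat := @Bool.rec (fun _ => Nat) (Ptab_1952) (Ptab_1953) (Nat.ble 1953 c)
noncomputable def Ptab_s_1950_1954 (c : Nat) : Nat := @Bool.rec (fun _ => Nat) (Ptab_s_1950_1952 c) (Ptab_s_1952_1954 c) (Nat.ble 1952 c)
noncomputable def Ptab_s_1954_1956 (c : Nat) : Nat := @Bool.rec (fun _ => Nat) (Ptab_1954) (Ptab_1955) (Nat.ble 1955 c)
noncomputable def Ptab_s_1957_1959 (c : Nat) : Nat := @Bool.rec (fun _ => Nat) (Ptab_1957) (Ptab_1958) (Nat.ble 1958 c)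
noncomputable def Ptab_s_1956_1959 (c : Nat) : Nat := @Bool.rec (fun _ => Nat) (Ptab_1956) (Ptab_s_1957_1959 c) (Nat.ble 1957 c)
noncomputable def Ptab_s_1954_1959 (c : Nat) : Nat := @Bool.rec (fun _ => Nat) (Ptab_s_1954_1956 c) (Ptab_s_1956_1959 c) (Nat.ble 1956 c)
noncomputable def Ptab_s_1950_1959 (c : Nat) : Nat := @Bool.rec (fun _ => Nat) (Ptab_s_1950_1954 c) (Ptab_s_1954_1959 c) (Nat.ble 1954 c)
noncomputable def Ptab_s_1959_1961 (c : Nat) : Nat := @Bool.rec (fun _ => Nat) (Ptab_1959) (Ptab_1960) (Nat.ble 1960 c)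
noncomputable def Ptab_s_1961_1963 (c : Nat) : Nat := @Bool.rec (fun _ => Nat) (Ptab_1961) (Ptab_1962) (Nat.ble 1962 c)
noncomputable def Ptab_s_1959_1963 (c : Nat) : Nat := @Bool.rec (fun _ => Nat) (Ptab_s_1959_1961 c) (Ptab_s_1961_1963 c) (Nat.ble 1961 c)
noncomputable def Ptab_s_1963_1965 (c : Nat) : Nat := @Bool.rec (fun _ => Nat) (Ptab_1963) (Ptab_1964) (Nat.ble 1964 c)
noncomputable def Ptab_s_1966_1968 (c : Nat) : Nat := @Bool.rec (fun _ => Nat) (Ptab_1966) (Ptab_1967) (Nat.ble 1967 c)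
noncomputable def Ptab_s_1965_1968 (c : Nat) : Nat := @Bool.rec (fun _ => Nat) (Ptab_1965) (Ptab_s_1966_1968 c) (Nat.ble 1966 c)
noncomputable def Ptab_s_1963_1968 (c : Nat) : Nat := @Bool.rec (fun _ => Nat) (Ptab_s_1963_1965 c) (Ptab_s_1965_1968 c) (Nat.ble 1965 c)
noncomputable def Ptab_s_1959_1968 (c : Nat) : Nat := @Bool.rec (fun _ => Nat) (Ptab_s_1959_1963 c) (Ptab_s_1963_1968 c) (Nat.ble 1963 c)
noncomputable def Ptab_s_1950_1968 (c : Nat) : Nat := @Bool.rec (fun _ => Nat) (Ptab_s_1950_1959 c) (Ptab_s_1959_1968 c) (Nat.ble 1959 c)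
noncomputable def Ptab_s_1968_1970 (c : Nat) : Nat := @Bool.rec (fun _ => Nat) (Ptab_1968) (Ptab_1969) (Nat.ble 1969 c)
noncomputable def Ptab_s_1970_1972 (c : Nat) : Nat := @Bool.rec (fun _ => Nat) (Ptab_1970) (Ptab_1971) (Nat.ble 1971 c)
noncomputable def Ptab_s_1968_1972 (c : Nat) : Nat := @Bool.rec (fun _ => Nat) (Ptab_s_1968_1970 c) (Ptab_s_1970_1972 c) (Nat.ble 1970 c)
noncomputable def Ptab_s_1972_1974 (c : Nat) : Nat := @Bool.rec (fun _ => Nat) (Ptab_1972) (Ptab_1973) (Nat.ble 1973 c)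
noncomputable def Ptab_s_1975_1977 (c : Nat) : Nat := @Bool.rec (fun _ => Nat) (Ptab_1975) (Ptab_1976) (Nat.ble 1976 c)
noncomputable def Ptab_s_1974_1977 (c : Nat) : Nat := @Bool.rec (fun _ => Nat) (Ptab_1974) (Ptab_s_1975_1977 c) (Nat.ble 1975 c)
noncomputable def Ptab_s_1972_1977 (c : Nat) : Nat := @Bool.rec (fun _ => Nat) (Ptab_s_1972_1974 c) (Ptab_s_1974_1977 c) (Nat.ble 1974 c)
noncomputable def Ptab_s_1968_1977 (c : Nat) : Nat := @Bool.rec (fun _ => Nat) (Ptab_s_1968_1972 c) (Ptab_s_1972_1977 c) (Nat.ble 1972 c)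
noncomputable def Ptab_s_1977_1979 (c : Nat) : Nat := @Bool.rec (fun _ => Nat) (Ptab_1977) (Ptab_1978) (Nat.ble 1978 c)
noncomputable def Ptab_s_1980_1982 (c : Nat) : Nat := @Bool.rec (fun _ => Nat) (Ptab_1980) (Ptab_1981) (Nat.ble 1981 c)
noncomputable def Ptab_s_1979_1982 (c : Nat) : Nat := @Bool.rec (fun _ => Nat) (Ptab_1979) (Ptab_s_1980_1982 c) (Nat.ble 1980 c)
noncomputable def Ptab_s_1977_1982 (c : Nat) : Nat := @Bool.rec (fun _ => Nat) (Ptab_s_1977_1979 c) (Ptab_s_1979_1982 c) (Nat.ble 1979 c)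
noncomputable def Ptab_s_1982_1984 (c : Nat) : Nat := @Bool.rec (fun _ => Nat) (Ptab_1982) (Ptab_1983) (Nat.ble 1983 c)
noncomputable def Ptab_s_1985_1987 (c : Nat) : Nat := @Bool.rec (fun _ => Nat) (Ptab_1985) (Ptab_1986) (Nat.ble 1986 c)
noncomputable def Ptab_s_1984_1987 (c : Nat) : Nat := @Bool.rec (fun _ => Nat) (Ptab_1984) (Ptab_s_1985_1987 c) (Nat.ble 1985 c)
noncomputable def Ptab_s_1982_1987 (c : Nat) : Nat := @Bool.rec (fun _ => Nat) (Ptab_s_1982_1984 c) (Ptab_s_1984_1987 c) (Nat.ble 1984 c)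
noncomputable def Ptab_s_1977_1987 (c : Nat) : Nat := @Bool.rec (fun _ => Nat) (Ptab_s_1977_1982 c) (Ptab_s_1982_1987 c) (Nat.ble 1982 c)
noncomputable def Ptab_s_1968_1987 (c : Nat) : Nat := @Bool.rec (fun _ => Nat) (Ptab_s_1968_1977 c) (Ptab_s_1977_1987 c) (Nat.ble 1977 c)
noncomputable def Ptab_s_1950_1987 (c : Nat) : Nat := @Bool.rec (fun _ => Nat) (Ptab_s_1950_1968 c) (Ptab_s_1968_1987 c) (Nat.ble 1968 c)
noncomputable def Ptab_s_1987_1989 (c : Nat) : Nat := @Bool.rec (fun _ => Nat) (Ptab_1987) (Ptab_1988) (Nat.ble 1988 c)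
noncomputable def Ptab_s_1989_1991 (c : Nat) : Nat := @Bool.rec (fun _ => Nat) (Ptab_1989) (Ptab_1990) (Nat.ble 1990 c)
noncomputable def Ptab_s_1987_1991 (c : Nat) : Nat := @Bool.rec (fun _ => Nat) (Ptab_s_1987_1989 c) (Ptab_s_1989_1991 c) (Nat.ble 1989 c)
noncomputable def Ptab_s_1991_1993 (c : Nat) : Nat := @Bool.rec (fun _ => Nat) (Ptab_1991) (Ptab_1992) (Nat.ble 1992 c)
noncomputable def Ptab_s_1994_1996 (c : Nat) : Nat := @Bool.rec (fun _ => Nat) (Ptab_1994) (Ptab_1995) (Nat.ble 1995 c)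
noncomputable def Ptab_s_1993_1996 (c : Nat) : Nat := @Bool.rec (fun _ => Nat) (Ptab_1993) (Ptab_s_1994_1996 c) (Nat.ble 1994 c)
noncomputable def Ptab_s_1991_1996 (c : Nat) : Nat := @Bool.rec (fun _ => Nat) (Ptab_s_1991_1993 c) (Ptab_s_1993_1996 c) (Nat.ble 1993 c)
noncomputable def Ptab_s_1987_1996 (c : Nat) : Nat := @Bool.rec (fun _ => Nat) (Ptab_s_1987_1991 c) (Ptab_s_1991_1996 c) (Nat.ble 1991 c)
noncomputable def Ptab_s_1996_1998 (c : Nat) : Nat := @Bool.rec (fun _ => Nat) (Ptab_1996) (Ptab_1997) (Nat.ble 1997 c)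
noncomputable def Ptab_s_1999_2001 (c : Nat) : Nat := @Bool.rec (fun _ => Nat) (Ptab_1999) (Ptab_2000) (Nat.ble 2000 c)
noncomputable def Ptab_s_1998_2001 (c : Nat) : Nat := @Bool.rec (fun _ => Nat) (Ptab_1998) (Ptab_s_1999_2001 c) (Nat.ble 1999 c)
noncomputable def Ptab_s_1996_2001 (c : Nat) : Nat := @Bool.rec (fun _ => Nat) (Ptab_s_1996_1998 c) (Ptab_s_1998_2001 c) (Nat.ble 1998 c)
noncomputable def Ptab_s_2001_2003 (c : Nat) : Nat := @Bool.rec (fun _ => Nat) (Ptab_2001) (Ptab_2002) (Nat.ble 2002 c)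
noncomputable def Ptab_s_2004_2006 (c : Nat) : Nat := @Bool.rec (fun _ => Nat) (Ptab_2004) (Ptab_2005) (Nat.ble 2005 c)
noncomputable def Ptab_s_2003_2006 (c : Nat) : Nat := @Bool.rec (fun _ => Nat) (Ptab_2003) (Ptab_s_2004_2006 c) (Nat.ble 2004 c)
noncomputable def Ptab_s_2001_2006 (c : Nat) : Nat := @Bool.rec (fun _ => Nat) (Ptab_s_2001_2003 c) (Ptab_s_2003_2006 c) (Nat.ble 2003 c)
noncomputable def Ptab_s_1996_2006 (c : Nat) : Nat := @Bool.rec (fun _ => Nat) (Ptab_s_1996_2001 c) (Ptab_s_2001_2006 c) (Nat.ble 2001 c)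
noncomputable def Ptab_s_1987_2006 (c : Nat) : Nat := @Bool.rec (fun _ => Nat) (Ptab_s_1987_1996 c) (Ptab_s_1996_2006 c) (Nat.ble 1996 c)
noncomputable def Ptab_s_2006_2008 (c : Nat) : Nat := @Bool.rec (fun _ => Nat) (Ptab_2006) (Ptab_2007) (Nat.ble 2007 c)
noncomputable def Ptab_s_2008_2010 (c : Nat) : Nat := @Bool.rec (fun _ => Nat) (Ptab_2008) (Ptab_2009) (Nat.ble 2009 c)
noncomputable def Ptab_s_2006_2010 (c : Nat) : Nat := @Bool.rec (fun _ => Nat) (Ptab_s_2006_2008 c) (Ptab_s_2008_2010 c) (Nat.ble 2008 c)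
noncomputable def Ptab_s_2010_2012 (c : Nat) : Nat := @Bool.rec (fun _ => Nat) (Ptab_2010) (Ptab_2011) (Nat.ble 2011 c)
noncomputable def Ptab_s_2013_2015 (c : Nat) : Nat := @Bool.rec (fun _ => Nat) (Ptab_2013) (Ptab_2014) (Nat.ble 2014 c)
noncomputable def Ptab_s_2012_2015 (c : Nat) : Nat := @Bool.rec (fun _ => Nat) (Ptab_2012) (Ptab_s_2013_2015 c) (Nat.ble 2013 c)
noncomputable def Ptab_s_2010_2015 (c : Nat) : Nat := @Bool.rec (fun _ => Nat) (Ptab_s_2010_2012 c) (Ptab_s_2012_2015 c) (Nat.ble 2012 c)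
noncomputable def Ptab_s_2006_2015 (c : Nat) : Nat := @Bool.rec (fun _ => Nat) (Ptab_s_2006_2010 c) (Ptab_s_2010_2015 c) (Nat.ble 2010 c)
noncomputable def Ptab_s_2015_2017 (c : Nat) : Nat := @Bool.rec (fun _ => Nat) (Ptab_2015) (Ptab_2016) (Nat.ble 2016 c)
noncomputable def Ptab_s_2018_2020 (c : Nat) : Nat := @Bool.rec (fun _ => Nat) (Ptab_2018) (Ptab_2019) (Nat.ble 2019 c)
noncomputable def Ptab_s_2017_2020 (c : Nat) : Nat := @Bool.rec (fun _ => Nat) (Ptab_2017) (Ptab_s_2018_2020 c) (Nat.ble 2018 c)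
noncomputable def Ptab_s_2015_2020 (c : Nat) : Nat := @Bool.rec (fun _ => Nat) (Ptab_s_2015_2017 c) (Ptab_s_2017_2020 c) (Nat.ble 2017 c)
noncomputable def Ptab_s_2020_2022 (c : Nat) : Nat := @Bool.rec (fun _ => Nat) (Ptab_2020) (Ptab_2021) (Nat.ble 2021 c)
noncomputable def Ptab_s_2023_2025 (c : Nat) : Nat := @Bool.rec (fun _ => Nat) (Ptab_2023) (Ptab_2024) (Nat.ble 2024 c)
noncomputable def Ptab_s_2022_2025 (c : Nat) : Nat := @Bool.rec (fun _ => Nat) (Ptab_2022) (Ptab_s_2023_2025 c) (Nat.ble 2023 c)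
noncomputable def Ptab_s_2020_2025 (c : Nat) : Nat := @Bool.rec (fun _ => Nat) (Ptab_s_2020_2022 c) (Ptab_s_2022_2025 c) (Nat.ble 2022 c)
noncomputable def Ptab_s_2015_2025 (c : Nat) : Nat := @Bool.rec (fun _ => Nat) (Ptab_s_2015_2020 c) (Ptab_s_2020_2025 c) (Nat.ble 2020 c)
noncomputable def Ptab_s_2006_2025 (c : Nat) : Nat := @Bool.rec (fun _ => Nat) (Ptab_s_2006_2015 c) (Ptab_s_2015_2025 c) (Nat.ble 2015 c)
noncomputable def Ptab_s_1987_2025 (c : Nat) : Nat := @Bool.rec (fun _ => Nat) (Ptab_s_1987_2006 c) (Ptab_s_2006_2025 c) (Nat.ble 2006 c)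
noncomputable def Ptab_s_1950_2025 (c : Nat) : Nat := @Bool.rec (fun _ => Nat) (Ptab_s_1950_1987 c) (Ptab_s_1987_2025 c) (Nat.ble 1987 c)
noncomputable def Ptab_s_2025_2027 (c : Nat) : Nat := @Bool.rec (fun _ => Nat) (Ptab_2025) (Ptab_2026) (Nat.ble 2026 c)
noncomputable def Ptab_s_2027_2029 (c : Nat) : Nat := @Bool.rec (fun _ => Nat) (Ptab_2027) (Ptab_2028) (Nat.ble 2028 c)
noncomputable def Ptab_s_2025_2029 (c : Nat) : Nat := @Bool.rec (fun _ => Nat) (Ptab_s_2025_2027 c) (Ptab_s_2027_2029 c) (Nat.ble 2027 c)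
noncomputable def Ptab_s_2029_2031 (c : Nat) : Nat := @Bool.rec (fun _ => Nat) (Ptab_2029) (Ptab_2030) (Nat.ble 2030 c)
noncomputable def Ptab_s_2032_2034 (c : Nat) : Nat := @Bool.rec (fun _ => Nat) (Ptab_2032) (Ptab_2033) (Nat.ble 2033 c)
noncomputable def Ptab_s_2031_2034 (c : Nat) : Nat := @Bool.rec (fun _ => Nat) (Ptab_2031) (Ptab_s_2032_2034 c) (Nat.ble 2032 c)
noncomputable def Ptab_s_2029_2034 (c : Nat) : Nat := @Bool.rec (fun _ => Nat) (Ptab_s_2029_2031 c) (Ptab_s_2031_2034 c) (Nat.ble 2031 c)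
noncomputable def Ptab_s_2025_2034 (c : Nat) : Nat := @Bool.rec (fun _ => Nat) (Ptab_s_2025_2029 c) (Ptab_s_2029_2034 c) (Nat.ble 2029 c)
noncomputable def Ptab_s_2034_2036 (c : Nat) : Nat := @Bool.rec (fun _ => Nat) (Ptab_2034) (Ptab_2035) (Nat.ble 2035 c)
noncomputable def Ptab_s_2036_2038 (c : Nat) : Nat := @Bool.rec (fun _ => Nat) (Ptab_2036) (Ptab_2037) (Nat.ble 2037 c)
noncomputable def Ptab_s_2034_2038 (c : Nat) : Nat := @Bool.rec (fun _ => Nat) (Ptab_s_2034_2036 c) (Ptab_s_2036_2038 c) (Nat.ble 2036 c)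
noncomputable def Ptab_s_2038_2040 (c : Nat) : Nat := @Bool.rec (fun _ => Nat) (Ptab_2038) (Ptab_2039) (Nat.ble 2039 c)
noncomputable def Ptab_s_2041_2043 (c : Nat) : Nat := @Bool.rec (fun _ => Nat) (Ptab_2041) (Ptab_2042) (Nat.ble 2042 c)
noncomputable def Ptab_s_2040_2043 (c : Nat) : Nat := @Bool.rec (fun _ => Nat) (Ptab_2040) (Ptab_s_2041_2043 c) (Nat.ble 2041 c)
noncomputable def Ptab_s_2038_2043 (c : Nat) : Nat := @Bool.rec (fun _ => Nat) (Ptab_s_2038_2040 c) (Ptab_s_2040_2043 c) (Nat.ble 2040 c)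
noncomputable def Ptab_s_2034_2043 (c : Nat) : Nat := @Bool.rec (fun _ => Nat) (Ptab_s_2034_2038 c) (Ptab_s_2038_2043 c) (Nat.ble 2038 c)
noncomputable def Ptab_s_2025_2043 (c : Nat) : Nat := @Bool.rec (fun _ => Nat) (Ptab_s_2025_2034 c) (Ptab_s_2034_2043 c) (Nat.ble 2034 c)
noncomputable def Ptab_s_2043_2045 (c : Nat) : Nat := @Bool.rec (fun _ => Nat) (Ptab_2043) (Ptab_2044) (Nat.ble 2044 c)
noncomputable def Ptab_s_2045_2047 (c : Nat) : Nat := @Bool.rec (fun _ => Nat) (Ptab_2045) (Ptab_2046) (Nat.ble 2046 c)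
noncomputable def Ptab_s_2043_2047 (c : Nat) : Nat := @Bool.rec (fun _ => Nat) (Ptab_s_2043_2045 c) (Ptab_s_2045_2047 c) (Nat.ble 2045 c)
noncomputable def Ptab_s_2047_2049 (c : Nat) : Nat := @Bool.rec (fun _ => Nat) (Ptab_2047) (Ptab_2048) (Nat.ble 2048 c)
noncomputable def Ptab_s_2050_2052 (c : Nat) : Nat := @Bool.rec (fun _ => Nat) (Ptab_2050) (Ptab_2051) (Nat.ble 2051 c)
noncomputable def Ptab_s_2049_2052 (c : Nat) : Nat := @Bool.rec (fun _ => Nat) (Ptab_2049) (Ptab_s_2050_2052 c) (Nat.ble 2050 c)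
noncomputable def Ptab_s_2047_2052 (c : Nat) : Nat := @Bool.rec (fun _ => Nat) (Ptab_s_2047_2049 c) (Ptab_s_2049_2052 c) (Nat.ble 2049 c)
noncomputable def Ptab_s_2043_2052 (c : Nat) : Nat := @Bool.rec (fun _ => Nat) (Ptab_s_2043_2047 c) (Ptab_s_2047_2052 c) (Nat.ble 2047 c)
noncomputable def Ptab_s_2052_2054 (c : Nat) : Nat := @Bool.rec (fun _ => Nat) (Ptab_2052) (Ptab_2053) (Nat.ble 2053 c)
noncomputable def Ptab_s_2055_2057 (c : Nat) : Nat := @Bool.rec (fun _ => Nat) (Ptab_2055) (Ptab_2056) (Nat.ble 2056 c)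
noncomputable def Ptab_s_2054_2057 (c : Nat) : Nat := @Bool.rec (fun _ => Nat) (Ptab_2054) (Ptab_s_2055_2057 c) (Nat.ble 2055 c)
noncomputable def Ptab_s_2052_2057 (c : Nat) : Nat := @Bool.rec (fun _ => Nat) (Ptab_s_2052_2054 c) (Ptab_s_2054_2057 c) (Nat.ble 2054 c)
noncomputable def Ptab_s_2057_2059 (c : Nat) : Nat := @Bool.rec (fun _ => Nat) (Ptab_2057) (Ptab_2058) (Nat.ble 2058 c)
noncomputable def Ptab_s_2060_2062 (c : Nat) : Nat := @Bool.rec (fun _ => Nat) (Ptab_2060) (Ptab_2061) (Nat.ble 2061 c)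
noncomputable def Ptab_s_2059_2062 (c : Nat) : Nat := @Bool.rec (fun _ => Nat) (Ptab_2059) (Ptab_s_2060_2062 c) (Nat.ble 2060 c)
noncomputable def Ptab_s_2057_2062 (c : Nat) : Nat := @Bool.rec (fun _ => Nat) (Ptab_s_2057_2059 c) (Ptab_s_2059_2062 c) (Nat.ble 2059 c)
noncomputable def Ptab_s_2052_2062 (c : Nat) : Nat := @Bool.rec (fun _ => Nat) (Ptab_s_2052_2057 c) (Ptab_s_2057_2062 c) (Nat.ble 2057 c)
noncomputable def Ptab_s_2043_2062 (c : Nat) : Nat := @Bool.rec (fun _ => Nat) (Ptab_s_2043_2052 c) (Ptab_s_2052_2062 c) (Nat.ble 2052 c)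
noncomputable def Ptab_s_2025_2062 (c : Nat) : Nat := @Bool.rec (fun _ => Nat) (Ptab_s_2025_2043 c) (Ptab_s_2043_2062 c) (Nat.ble 2043 c)
noncomputable def Ptab_s_2062_2064 (c : Nat) : Nat := @Bool.rec (fun _ => Nat) (Ptab_2062) (Ptab_2063) (Nat.ble 2063 c)
noncomputable def Ptab_s_2064_2066 (c : Nat) : Nat := @Bool.rec (fun _ => Nat) (Ptab_2064) (Ptab_2065) (Nat.ble 2065 c)
noncomputable def Ptab_s_2062_2066 (c : Nat) : Nat := @Bool.rec (fun _ => Nat) (Ptab_s_2062_2064 c) (Ptab_s_2064_2066 c) (Nat.ble 2064 c)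
noncomputable def Ptab_s_2066_2068 (c : Nat) : Nat := @Bool.rec (fun _ => Nat) (Ptab_2066) (Ptab_2067) (Nat.ble 2067 c)
noncomputable def Ptab_s_2069_2071 (c : Nat) : Nat := @Bool.rec (fun _ => Nat) (Ptab_2069) (Ptab_2070) (Nat.ble 2070 c)
noncomputable def Ptab_s_2068_2071 (c : Nat) : Nat := @Bool.rec (fun _ => Nat) (Ptab_2068) (Ptab_s_2069_2071 c) (Nat.ble 2069 c)
noncomputable def Ptab_s_2066_2071 (c : Nat) : Nat := @Bool.rec (fun _ => Nat) (Ptab_s_2066_2068 c) (Ptab_s_2068_2071 c) (Nat.ble 2068 c)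
noncomputable def Ptab_s_2062_2071 (c : Nat) : Nat := @Bool.rec (fun _ => Nat) (Ptab_s_2062_2066 c) (Ptab_s_2066_2071 c) (Nat.ble 2066 c)
noncomputable def Ptab_s_2071_2073 (c : Nat) : Nat := @Bool.rec (fun _ => Nat) (Ptab_2071) (Ptab_2072) (Nat.ble 2072 c)
noncomputable def Ptab_s_2074_2076 (c : Nat) : Nat := @Bool.rec (fun _ => Nat) (Ptab_2074) (Ptab_2075) (Nat.ble 2075 c)
noncomputable def Ptab_s_2073_2076 (c : Nat) : Nat := @Bool.rec (fun _ => Nat) (Ptab_2073) (Ptab_s_2074_2076 c) (Nat.ble 2074 c)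
noncomputable def Ptab_s_2071_2076 (c : Nat) : Nat := @Bool.rec (fun _ => Nat) (Ptab_s_2071_2073 c) (Ptab_s_2073_2076 c) (Nat.ble 2073 c)
noncomputable def Ptab_s_2076_2078 (c : Nat) : Nat := @Bool.rec (fun _ => Nat) (Ptab_2076) (Ptab_2077) (Nat.ble 2077 c)
noncomputable def Ptab_s_2079_2081 (c : Nat) : Nat := @Bool.rec (fun _ => Nat) (Ptab_2079) (Ptab_2080) (Nat.ble 2080 c)
noncomputable def Ptab_s_2078_2081 (c : Nat) : Nat := @Bool.rec (fun _ => Nat) (Ptab_2078) (Ptab_s_2079_2081 c) (Nat.ble 2079 c)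
noncomputable def Ptab_s_2076_2081 (c : Nat) : Nat := @Bool.rec (fun _ => Nat) (Ptab_s_2076_2078 c) (Ptab_s_2078_2081 c) (Nat.ble 2078 c)
noncomputable def Ptab_s_2071_2081 (c : Nat) : Nat := @Bool.rec (fun _ => Nat) (Ptab_s_2071_2076 c) (Ptab_s_2076_2081 c) (Nat.ble 2076 c)
noncomputable def Ptab_s_2062_2081 (c : Nat) : Nat := @Bool.rec (fun _ => Nat) (Ptab_s_2062_2071 c) (Ptab_s_2071_2081 c) (Nat.ble 2071 c)
noncomputable def Ptab_s_2081_2083 (c : Nat) : Nat := @Bool.rec (fun _ => Nat) (Ptab_2081) (Ptab_2082) (Nat.ble 2082 c)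
noncomputable def Ptab_s_2083_2085 (c : Nat) : Nat := @Bool.rec (fun _ => Nat) (Ptab_2083) (Ptab_2084) (Nat.ble 2084 c)
noncomputable def Ptab_s_2081_2085 (c : Nat) : Nat := @Bool.rec (fun _ => Nat) (Ptab_s_2081_2083 c) (Ptab_s_2083_2085 c) (Nat.ble 2083 c)
noncomputable def Ptab_s_2085_2087 (c : Nat) : Nat := @Bool.rec (fun _ => Nat) (Ptab_2085) (Ptab_2086) (Nat.ble 2086 c)
noncomputable def Ptab_s_2088_2090 (c : Nat) : Nat := @Bool.rec (fun _ => Nat) (Ptab_2088) (Ptab_2089) (Nat.ble 2089 c)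
noncomputable def Ptab_s_2087_2090 (c : Nat) : Nat := @Bool.rec (fun _ => Nat) (Ptab_2087) (Ptab_s_2088_2090 c) (Nat.ble 2088 c)
noncomputable def Ptab_s_2085_2090 (c : Nat) : Nat := @Bool.rec (fun _ => Nat) (Ptab_s_2085_2087 c) (Ptab_s_2087_2090 c) (Nat.ble 2087 c)
noncomputable def Ptab_s_2081_2090 (c : Nat) : Nat := @Bool.rec (fun _ => Nat) (Ptab_s_2081_2085 c) (Ptab_s_2085_2090 c) (Nat.ble 2085 c)
noncomputable def Ptab_s_2090_2092 (c : Nat) : Nat := @Bool.rec (fun _ => Nat) (Ptab_2090) (Ptab_2091) (Nat.ble 2091 c)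
noncomputable def Ptab_s_2093_2095 (c : Nat) : Nat := @Bool.rec (fun _ => Nat) (Ptab_2093) (Ptab_2094) (Nat.ble 2094 c)
noncomputable def Ptab_s_2092_2095 (c : Nat) : Nat := @Bool.rec (fun _ => Nat) (Ptab_2092) (Ptab_s_2093_2095 c) (Nat.ble 2093 c)
noncomputable def Ptab_s_2090_2095 (c : Nat) : Nat := @Bool.rec (fun _ => Nat) (Ptab_s_2090_2092 c) (Ptab_s_2092_2095 c) (Nat.ble 2092 c)
noncomputable def Ptab_s_2095_2097 (c : Nat) : Nat := @Bool.rec (fun _ => Nat) (Ptab_2095) (Ptab_2096) (Nat.ble 2096 c)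
noncomputable def Ptab_s_2098_2100 (c : Nat) : Nat := @Bool.rec (fun _ => Nat) (Ptab_2098) (Ptab_2099) (Nat.ble 2099 c)
noncomputable def Ptab_s_2097_2100 (c : Nat) : Nat := @Bool.rec (fun _ => Nat) (Ptab_2097) (Ptab_s_2098_2100 c) (Nat.ble 2098 c)
noncomputable def Ptab_s_2095_2100 (c : Nat) : Nat := @Bool.rec (fun _ => Nat) (Ptab_s_2095_2097 c) (Ptab_s_2097_2100 c) (Nat.ble 2097 c)
noncomputable def Ptab_s_2090_2100 (c : Nat) : Nat := @Bool.rec (fun _ => Nat) (Ptab_s_2090_2095 c) (Ptab_s_2095_2100 c) (Nat.ble 2095 c)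
noncomputable def Ptab_s_2081_2100 (c : Nat) : Nat := @Bool.rec (fun _ => Nat) (Ptab_s_2081_2090 c) (Ptab_s_2090_2100 c) (Nat.ble 2090 c)
noncomputable def Ptab_s_2062_2100 (c : Nat) : Nat := @Bool.rec (fun _ => Nat) (Ptab_s_2062_2081 c) (Ptab_s_2081_2100 c) (Nat.ble 2081 c)
noncomputable def Ptab_s_2025_2100 (c : Nat) : Nat := @Bool.rec (fun _ => Nat) (Ptab_s_2025_2062 c) (Ptab_s_2062_2100 c) (Nat.ble 2062 c)
noncomputable def Ptab_s_1950_2100 (c : Nat) : Nat := @Bool.rec (fun _ => Nat) (Ptab_s_1950_2025 c) (Ptab_s_2025_2100 c) (Nat.ble 2025 c)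
noncomputable def Ptab_s_1800_2100 (c : Nat) : Nat := @Bool.rec (fun _ => Nat) (Ptab_s_1800_1950 c) (Ptab_s_1950_2100 c) (Nat.ble 1950 c)
noncomputable def Ptab_s_2100_2102 (c : Nat) : Nat := @Bool.rec (fun _ => Nat) (Ptab_2100) (Ptab_2101) (Nat.ble 2101 c)
noncomputable def Ptab_s_2102_2104 (c : Nat) : Nat := @Bool.rec (fun _ => Nat) (Ptab_2102) (Ptab_2103) (Nat.ble 2103 c)
noncomputable def Ptab_s_2100_2104 (c : Nat) : Nat := @Bool.rec (fun _ => Nat) (Ptab_s_2100_2102 c) (Ptab_s_2102_2104 c) (Nat.ble 2102 c)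
noncomputable def Ptab_s_2104_2106 (c : Nat) : Nat := @Bool.rec (fun _ => Nat) (Ptab_2104) (Ptab_2105) (Nat.ble 2105 c)
noncomputable def Ptab_s_2107_2109 (c : Nat) : Nat := @Bool.rec (fun _ => Nat) (Ptab_2107) (Ptab_2108) (Nat.ble 2108 c)
noncomputable def Ptab_s_2106_2109 (c : Nat) : Nat := @Bool.rec (fun _ => Nat) (Ptab_2106) (Ptab_s_2107_2109 c) (Nat.ble 2107 c)
noncomputable def Ptab_s_2104_2109 (c : Nat) : Nat := @Bool.rec (fun _ => Nat) (Ptab_s_2104_2106 c) (Ptab_s_2106_2109 c) (Nat.ble 2106 c)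
noncomputable def Ptab_s_2100_2109 (c : Nat) : Nat := @Bool.rec (fun _ => Nat) (Ptab_s_2100_2104 c) (Ptab_s_2104_2109 c) (Nat.ble 2104 c)
noncomputable def Ptab_s_2109_2111 (c : Nat) : Nat := @Bool.rec (fun _ => Nat) (Ptab_2109) (Ptab_2110) (Nat.ble 2110 c)
noncomputable def Ptab_s_2111_2113 (c : Nat) : Nat := @Bool.rec (fun _ => Nat) (Ptab_2111) (Ptab_2112) (Nat.ble 2112 c)
noncomputable def Ptab_s_2109_2113 (c : Nat) : Nat := @Bool.rec (fun _ => Nat) (Ptab_s_2109_2111 c) (Ptab_s_2111_2113 c) (Nat.ble 2111 c)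
noncomputable def Ptab_s_2113_2115 (c : Nat) : Nat := @Bool.rec (fun _ => Nat) (Ptab_2113) (Ptab_2114) (Nat.ble 2114 c)
noncomputable def Ptab_s_2116_2118 (c : Nat) : Nat := @Bool.rec (fun _ => Nat) (Ptab_2116) (Ptab_2117) (Nat.ble 2117 c)
noncomputable def Ptab_s_2115_2118 (c : Nat) : Nat := @Bool.rec (fun _ => Nat) (Ptab_2115) (Ptab_s_2116_2118 c) (Nat.ble 2116 c)
noncomputable def Ptab_s_2113_2118 (c : Nat) : Nat := @Bool.rec (fun _ => Nat) (Ptab_s_2113_2115 c) (Ptab_s_2115_2118 c) (Nat.ble 2115 c)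
noncomputable def Ptab_s_2109_2118 (c : Nat) : Nat := @Bool.rec (fun _ => Nat) (Ptab_s_2109_2113 c) (Ptab_s_2113_2118 c) (Nat.ble 2113 c)
noncomputable def Ptab_s_2100_2118 (c : Nat) : Nat := @Bool.rec (fun _ => Nat) (Ptab_s_2100_2109 c) (Ptab_s_2109_2118 c) (Nat.ble 2109 c)
noncomputable def Ptab_s_2118_2120 (c : Nat) : Nat := @Bool.rec (fun _ => Nat) (Ptab_2118) (Ptab_2119) (Nat.ble 2119 c)
noncomputable def Ptab_s_2120_2122 (c : Nat) : Nat := @Bool.rec (fun _ => Nat) (Ptab_2120) (Ptab_2121) (Nat.ble 2121 c)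
noncomputable def Ptab_s_2118_2122 (c : Nat) : Nat := @Bool.rec (fun _ => Nat) (Ptab_s_2118_2120 c) (Ptab_s_2120_2122 c) (Nat.ble 2120 c)
noncomputable def Ptab_s_2122_2124 (c : Nat) : Nat := @Bool.rec (fun _ => Nat) (Ptab_2122) (Ptab_2123) (Nat.ble 2123 c)
noncomputable def Ptab_s_2125_2127 (c : Nat) : Nat := @Bool.rec (fun _ => Nat) (Ptab_2125) (Ptab_2126) (Nat.ble 2126 c)
noncomputable def Ptab_s_2124_2127 (c : Nat) : Nat := @Bool.rec (fun _ => Nat) (Ptab_2124) (Ptab_s_2125_2127 c) (Nat.ble 2125 c)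
noncomputable def Ptab_s_2122_2127 (c : Nat) : Nat := @Bool.rec (fun _ => Nat) (Ptab_s_2122_2124 c) (Ptab_s_2124_2127 c) (Nat.ble 2124 c)
noncomputable def Ptab_s_2118_2127 (c : Nat) : Nat := @Bool.rec (fun _ => Nat) (Ptab_s_2118_2122 c) (Ptab_s_2122_2127 c) (Nat.ble 2122 c)
noncomputable def Ptab_s_2127_2129 (c : Nat) : Nat := @Bool.rec (fun _ => Nat) (Ptab_2127) (Ptab_2128) (Nat.ble 2128 c)
noncomputable def Ptab_s_2130_2132 (c : Nat) : Nat := @Bool.rec (fun _ => Nat) (Ptab_2130) (Ptab_2131) (Nat.ble 2131 c)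
noncomputable def Ptab_s_2129_2132 (c : Nat) : Nat := @Bool.rec (fun _ => Nat) (Ptab_2129) (Ptab_s_2130_2132 c) (Nat.ble 2130 c)
noncomputable def Ptab_s_2127_2132 (c : Nat) : Nat := @Bool.rec (fun _ => Nat) (Ptab_s_2127_2129 c) (Ptab_s_2129_2132 c) (Nat.ble 2129 c)
noncomputable def Ptab_s_2132_2134 (c : Nat) : Nat := @Bool.rec (fun _ => Nat) (Ptab_2132) (Ptab_2133) (Nat.ble 2133 c)
noncomputable def Ptab_s_2135_2137 (c : Nat) : Nat := @Bool.rec (fun _ => Nat) (Ptab_2135) (Ptab_2136) (Nat.ble 2136 c)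
noncomputable def Ptab_s_2134_2137 (c : Nat) : Nat := @Bool.rec (fun _ => Nat) (Ptab_2134) (Ptab_s_2135_2137 c) (Nat.ble 2135 c)
noncomputable def Ptab_s_2132_2137 (c : Nat) : Nat := @Bool.rec (fun _ => Nat) (Ptab_s_2132_2134 c) (Ptab_s_2134_2137 c) (Nat.ble 2134 c)
noncomputable def Ptab_s_2127_2137 (c : Nat) : Nat := @Bool.rec (fun _ => Nat) (Ptab_s_2127_2132 c) (Ptab_s_2132_2137 c) (Nat.ble 2132 c)
noncomputable def Ptab_s_2118_2137 (c : Nat) : Nat := @Bool.rec (fun _ => Nat) (Ptab_s_2118_2127 c) (Ptab_s_2127_2137 c) (Nat.ble 2127 c)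
noncomputable def Ptab_s_2100_2137 (c : Nat) : Nat := @Bool.rec (fun _ => Nat) (Ptab_s_2100_2118 c) (Ptab_s_2118_2137 c) (Nat.ble 2118 c)
noncomputable def Ptab_s_2137_2139 (c : Nat) : Nat := @Bool.rec (fun _ => Nat) (Ptab_2137) (Ptab_2138) (Nat.ble 2138 c)
noncomputable def Ptab_s_2139_2141 (c : Nat) : Nat := @Bool.rec (fun _ => Nat) (Ptab_2139) (Ptab_2140) (Nat.ble 2140 c)
noncomputable def Ptab_s_2137_2141 (c : Nat) : Nat := @Bool.rec (fun _ => Nat) (Ptab_s_2137_2139 c) (Ptab_s_2139_2141 c) (Nat.ble 2139 c)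
noncomputable def Ptab_s_2141_2143 (c : Nat) : Nat := @Bool.rec (fun _ => Nat) (Ptab_2141) (Ptab_2142) (Nat.ble 2142 c)
noncomputable def Ptab_s_2144_2146 (c : Nat) : Nat := @Bool.rec (fun _ => Nat) (Ptab_2144) (Ptab_2145) (Nat.ble 2145 c)
noncomputable def Ptab_s_2143_2146 (c : Nat) : Nat := @Bool.rec (fun _ => Nat) (Ptab_2143) (Ptab_s_2144_2146 c) (Nat.ble 2144 c)
noncomputable def Ptab_s_2141_2146 (c : Nat) : Nat := @Bool.rec (fun _ => Nat) (Ptab_s_2141_2143 c) (Ptab_s_2143_2146 c) (Nat.ble 2143 c)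
noncomputable def Ptab_s_2137_2146 (c : Nat) : Nat := @Bool.rec (fun _ => Nat) (Ptab_s_2137_2141 c) (Ptab_s_2141_2146 c) (Nat.ble 2141 c)
noncomputable def Ptab_s_2146_2148 (c : Nat) : Nat := @Bool.rec (fun _ => Nat) (Ptab_2146) (Ptab_2147) (Nat.ble 2147 c)
noncomputable def Ptab_s_2149_2151 (c : Nat) : Nat := @Bool.rec (fun _ => Nat) (Ptab_2149) (Ptab_2150) (Nat.ble 2150 c)
noncomputable def Ptab_s_2148_2151 (c : Nat) : Nat := @Bool.rec (fun _ => Nat) (Ptab_2148) (Ptab_s_2149_2151 c) (Nat.ble 2149 c)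
noncomputable def Ptab_s_2146_2151 (c : Nat) : Nat := @Bool.rec (fun _ => Nat) (Ptab_s_2146_2148 c) (Ptab_s_2148_2151 c) (Nat.ble 2148 c)
noncomputable def Ptab_s_2151_2153 (c : Nat) : Nat := @Bool.rec (fun _ => Nat) (Ptab_2151) (Ptab_2152) (Nat.ble 2152 c)
noncomputable def Ptab_s_2154_2156 (c : Nat) : Nat := @Bool.rec (fun _ => Nat) (Ptab_2154) (Ptab_2155) (Nat.ble 2155 c)
noncomputable def Ptab_s_2153_2156 (c : Nat) : Nat := @Bool.rec (fun _ => Nat) (Ptab_2153) (Ptab_s_2154_2156 c) (Nat.ble 2154 c)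
noncomputable def Ptab_s_2151_2156 (c : Nat) : Nat := @Bool.rec (fun _ => Nat) (Ptab_s_2151_2153 c) (Ptab_s_2153_2156 c) (Nat.ble 2153 c)
noncomputable def Ptab_s_2146_2156 (c : Nat) : Nat := @Bool.rec (fun _ => Nat) (Ptab_s_2146_2151 c) (Ptab_s_2151_2156 c) (Nat.ble 2151 c)
noncomputable def Ptab_s_2137_2156 (c : Nat) : Nat := @Bool.rec (fun _ => Nat) (Ptab_s_2137_2146 c) (Ptab_s_2146_2156 c) (Nat.ble 2146 c)
noncomputable def Ptab_s_2156_2158 (c : Nat) : Nat := @Bool.rec (fun _ => Nat) (Ptab_2156) (Ptab_2157) (Nat.ble 2157 c)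
noncomputable def Ptab_s_2158_2160 (c : Nat) : Nat := @Bool.rec (fun _ => Nat) (Ptab_2158) (Ptab_2159) (Nat.ble 2159 c)
noncomputable def Ptab_s_2156_2160 (c : Nat) : Nat := @Bool.rec (fun _ => Nat) (Ptab_s_2156_2158 c) (Ptab_s_2158_2160 c) (Nat.ble 2158 c)
noncomputable def Ptab_s_2160_2162 (c : Nat) : Nat := @Bool.rec (fun _ => Nat) (Ptab_2160) (Ptab_2161) (Nat.ble 2161 c)
noncomputable def Ptab_s_2163_2165 (c : Nat) : Nat := @Bool.rec (fun _ => Nat) (Ptab_2163) (Ptab_2164) (Nat.ble 2164 c)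
noncomputable def Ptab_s_2162_2165 (c : Nat) : Nat := @Bool.rec (fun _ => Nat) (Ptab_2162) (Ptab_s_2163_2165 c) (Nat.ble 2163 c)
noncomputable def Ptab_s_2160_2165 (c : Nat) : Nat := @Bool.rec (fun _ => Nat) (Ptab_s_2160_2162 c) (Ptab_s_2162_2165 c) (Nat.ble 2162 c)
noncomputable def Ptab_s_2156_2165 (c : Nat) : Nat := @Bool.rec (fun _ => Nat) (Ptab_s_2156_2160 c) (Ptab_s_2160_2165 c) (Nat.ble 2160 c)
noncomputable def Ptab_s_2165_2167 (c : Nat) : Nat := @Bool.rec (fun _ => Nat) (Ptab_2165) (Ptab_2166) (Nat.ble 2166 c)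
noncomputable def Ptab_s_2168_2170 (c : Nat) : Nat := @Bool.rec (fun _ => Nat) (Ptab_2168) (Ptab_2169) (Nat.ble 2169 c)
noncomputable def Ptab_s_2167_2170 (c : Nat) : Nat := @Bool.rec (fun _ => Nat) (Ptab_2167) (Ptab_s_2168_2170 c) (Nat.ble 2168 c)
noncomputable def Ptab_s_2165_2170 (c : Nat) : Nat := @Bool.rec (fun _ => Nat) (Ptab_s_2165_2167 c) (Ptab_s_2167_2170 c) (Nat.ble 2167 c)
noncomputable def Ptab_s_2170_2172 (c : Nat) : Nat := @Bool.rec (fun _ => Nat) (Ptab_2170) (Ptab_2171) (Nat.ble 2171 c)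
noncomputable def Ptab_s_2173_2175 (c : Nat) : Nat := @Bool.rec (fun _ => Nat) (Ptab_2173) (Ptab_2174) (Nat.ble 2174 c)
noncomputable def Ptab_s_2172_2175 (c : Nat) : Nat := @Bool.rec (fun _ => Nat) (Ptab_2172) (Ptab_s_2173_2175 c) (Nat.ble 2173 c)
noncomputable def Ptab_s_2170_2175 (c : Nat) : Nat := @Bool.rec (fun _ => Nat) (Ptab_s_2170_2172 c) (Ptab_s_2172_2175 c) (Nat.ble 2172 c)
noncomputable def Ptab_s_2165_2175 (c : Nat) : Nat := @Bool.rec (fun _ => Nat) (Ptab_s_2165_2170 c) (Ptab_s_2170_2175 c) (Nat.ble 2170 c)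
noncomputable def Ptab_s_2156_2175 (c : Nat) : Nat := @Bool.rec (fun _ => Nat) (Ptab_s_2156_2165 c) (Ptab_s_2165_2175 c) (Nat.ble 2165 c)
noncomputable def Ptab_s_2137_2175 (c : Nat) : Nat := @Bool.rec (fun _ => Nat) (Ptab_s_2137_2156 c) (Ptab_s_2156_2175 c) (Nat.ble 2156 c)
noncomputable def Ptab_s_2100_2175 (c : Nat) : Nat := @Bool.rec (fun _ => Nat) (Ptab_s_2100_2137 c) (Ptab_s_2137_2175 c) (Nat.ble 2137 c)
noncomputable def Ptab_s_2175_2177 (c : Nat) : Nat := @Bool.rec (fun _ => Nat) (Ptab_2175) (Ptab_2176) (Nat.ble 2176 c)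
noncomputable def Ptab_s_2177_2179 (c : Nat) : Nat := @Bool.rec (fun _ => Nat) (Ptab_2177) (Ptab_2178) (Nat.ble 2178 c)
noncomputable def Ptab_s_2175_2179 (c : Nat) : Nat := @Bool.rec (fun _ => Nat) (Ptab_s_2175_2177 c) (Ptab_s_2177_2179 c) (Nat.ble 2177 c)
noncomputable def Ptab_s_2179_2181 (c : Nat) : Nat := @Bool.rec (fun _ => Nat) (Ptab_2179) (Ptab_2180) (Nat.ble 2180 c)
noncomputable def Ptab_s_2182_2184 (c : Nat) : Nat := @Bool.rec (fun _ => Nat) (Ptab_2182) (Ptab_2183) (Nat.ble 2183 c)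
noncomputable def Ptab_s_2181_2184 (c : Nat) : Nat := @Bool.rec (fun _ => Nat) (Ptab_2181) (Ptab_s_2182_2184 c) (Nat.ble 2182 c)
noncomputable def Ptab_s_2179_2184 (c : Nat) : Nat := @Bool.rec (fun _ => Nat) (Ptab_s_2179_2181 c) (Ptab_s_2181_2184 c) (Nat.ble 2181 c)
noncomputable def Ptab_s_2175_2184 (c : Nat) : Nat := @Bool.rec (fun _ => Nat) (Ptab_s_2175_2179 c) (Ptab_s_2179_2184 c) (Nat.ble 2179 c)
noncomputable def Ptab_s_2184_2186 (c : Nat) : Nat := @Bool.rec (fun _ => Nat) (Ptab_2184) (Ptab_2185) (Nat.ble 2185 c)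
noncomputable def Ptab_s_2186_2188 (c : Nat) : Nat := @Bool.rec (fun _ => Nat) (Ptab_2186) (Ptab_2187) (Nat.ble 2187 c)
noncomputable def Ptab_s_2184_2188 (c : Nat) : Nat := @Bool.rec (fun _ => Nat) (Ptab_s_2184_2186 c) (Ptab_s_2186_2188 c) (Nat.ble 2186 c)
noncomputable def Ptab_s_2188_2190 (c : Nat) : Nat := @Bool.rec (fun _ => Nat) (Ptab_2188) (Ptab_2189) (Nat.ble 2189 c)
noncomputable def Ptab_s_2191_2193 (c : Nat) : Nat := @Bool.rec (fun _ => Nat) (Ptab_2191) (Ptab_2192) (Nat.ble 2192 c)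
noncomputable def Ptab_s_2190_2193 (c : Nat) : Nat := @Bool.rec (fun _ => Nat) (Ptab_2190) (Ptab_s_2191_2193 c) (Nat.ble 2191 c)
noncomputable def Ptab_s_2188_2193 (c : Nat) : Nat := @Bool.rec (fun _ => Nat) (Ptab_s_2188_2190 c) (Ptab_s_2190_2193 c) (Nat.ble 2190 c)
noncomputable def Ptab_s_2184_2193 (c : Nat) : Nat := @Bool.rec (fun _ => Nat) (Ptab_s_2184_2188 c) (Ptab_s_2188_2193 c) (Nat.ble 2188 c)
noncomputable def Ptab_s_2175_2193 (c : Nat) : Nat := @Bool.rec (fun _ => Nat) (Ptab_s_2175_2184 c) (Ptab_s_2184_2193 c) (Nat.ble 2184 c)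
noncomputable def Ptab_s_2193_2195 (c : Nat) : Nat := @Bool.rec (fun _ => Nat) (Ptab_2193) (Ptab_2194) (Nat.ble 2194 c)
noncomputable def Ptab_s_2195_2197 (c : Nat) : Nat := @Bool.rec (fun _ => Nat) (Ptab_2195) (Ptab_2196) (Nat.ble 2196 c)
noncomputable def Ptab_s_2193_2197 (c : Nat) : Nat := @Bool.rec (fun _ => Nat) (Ptab_s_2193_2195 c) (Ptab_s_2195_2197 c) (Nat.ble 2195 c)
noncomputable def Ptab_s_2197_2199 (c : Nat) : Nat := @Bool.rec (fun _ => Nat) (Ptab_2197) (Ptab_2198) (Nat.ble 2198 c)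
noncomputable def Ptab_s_2200_2202 (c : Nat) : Nat := @Bool.rec (fun _ => Nat) (Ptab_2200) (Ptab_2201) (Nat.ble 2201 c)
noncomputable def Ptab_s_2199_2202 (c : Nat) : Nat := @Bool.rec (fun _ => Nat) (Ptab_2199) (Ptab_s_2200_2202 c) (Nat.ble 2200 c)
noncomputable def Ptab_s_2197_2202 (c : Nat) : Nat := @Bool.rec (fun _ => Nat) (Ptab_s_2197_2199 c) (Ptab_s_2199_2202 c) (Nat.ble 2199 c)
noncomputable def Ptab_s_2193_2202 (c : Nat) : Nat := @Bool.rec (fun _ => Nat) (Ptab_s_2193_2197 c) (Ptab_s_2197_2202 c) (Nat.ble 2197 c)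
noncomputable def Ptab_s_2202_2204 (c : Nat) : Nat := @Bool.rec (fun _ => Nat) (Ptab_2202) (Ptab_2203) (Nat.ble 2203 c)
noncomputable def Ptab_s_2205_2207 (c : Nat) : Nat := @Bool.rec (fun _ => Nat) (Ptab_2205) (Ptab_2206) (Nat.ble 2206 c)
noncomputable def Ptab_s_2204_2207 (c : Nat) : Nat := @Bool.rec (fun _ => Nat) (Ptab_2204) (Ptab_s_2205_2207 c) (Nat.ble 2205 c)
noncomputable def Ptab_s_2202_2207 (c : Nat) : Nat := @Bool.rec (fun _ => Nat) (Ptab_s_2202_2204 c) (Ptab_s_2204_2207 c) (Nat.ble 2204 c)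
noncomputable def Ptab_s_2207_2209 (c : Nat) : Nat := @Bool.rec (fun _ => Nat) (Ptab_2207) (Ptab_2208) (Nat.ble 2208 c)
noncomputable def Ptab_s_2210_2212 (c : Nat) : Nat := @Bool.rec (fun _ => Nat) (Ptab_2210) (Ptab_2211) (Nat.ble 2211 c)
noncomputable def Ptab_s_2209_2212 (c : Nat) : Nat := @Bool.rec (fun _ => Nat) (Ptab_2209) (Ptab_s_2210_2212 c) (Nat.ble 2210 c)
noncomputable def Ptab_s_2207_2212 (c : Nat) : Nat := @Bool.rec (fun _ => Nat) (Ptab_s_2207_2209 c) (Ptab_s_2209_2212 c) (Nat.ble 2209 c)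
noncomputable def Ptab_s_2202_2212 (c : Nat) : Nat := @Bool.rec (fun _ => Nat) (Ptab_s_2202_2207 c) (Ptab_s_2207_2212 c) (Nat.ble 2207 c)
noncomputable def Ptab_s_2193_2212 (c : Nat) : Nat := @Bool.rec (fun _ => Nat) (Ptab_s_2193_2202 c) (Ptab_s_2202_2212 c) (Nat.ble 2202 c)
noncomputable def Ptab_s_2175_2212 (c : Nat) : Nat := @Bool.rec (fun _ => Nat) (Ptab_s_2175_2193 c) (Ptab_s_2193_2212 c) (Nat.ble 2193 c)
noncomputable def Ptab_s_2212_2214 (c : Nat) : Nat := @Bool.rec (fun _ => Nat) (Ptab_2212) (Ptab_2213) (Nat.ble 2213 c)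
noncomputable def Ptab_s_2214_2216 (c : Nat) : Nat := @Bool.rec (fun _ => Nat) (Ptab_2214) (Ptab_2215) (Nat.ble 2215 c)
noncomputable def Ptab_s_2212_2216 (c : Nat) : Nat := @Bool.rec (fun _ => Nat) (Ptab_s_2212_2214 c) (Ptab_s_2214_2216 c) (Nat.ble 2214 c)
noncomputable def Ptab_s_2216_2218 (c : Nat) : Nat := @Bool.rec (fun _ => Nat) (Ptab_2216) (Ptab_2217) (Nat.ble 2217 c)
noncomputable def Ptab_s_2219_2221 (c : Nat) : Nat := @Bool.rec (fun _ => Nat) (Ptab_2219) (Ptab_2220) (Nat.ble 2220 c)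
noncomputable def Ptab_s_2218_2221 (c : Nat) : Nat := @Bool.rec (fun _ => Nat) (Ptab_2218) (Ptab_s_2219_2221 c) (Nat.ble 2219 c)
noncomputable def Ptab_s_2216_2221 (c : Nat) : Nat := @Bool.rec (fun _ => Nat) (Ptab_s_2216_2218 c) (Ptab_s_2218_2221 c) (Nat.ble 2218 c)
noncomputable def Ptab_s_2212_2221 (c : Nat) : Nat := @Bool.rec (fun _ => Nat) (Ptab_s_2212_2216 c) (Ptab_s_2216_2221 c) (Nat.ble 2216 c)
noncomputable def Ptab_s_2221_2223 (c : Nat) : Nat := @Bool.rec (fun _ => Nat) (Ptab_2221) (Ptab_2222) (Nat.ble 2222 c)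
noncomputable def Ptab_s_2224_2226 (c : Nat) : Nat := @Bool.rec (fun _ => Nat) (Ptab_2224) (Ptab_2225) (Nat.ble 2225 c)
noncomputable def Ptab_s_2223_2226 (c : Nat) : Nat := @Bool.rec (fun _ => Nat) (Ptab_2223) (Ptab_s_2224_2226 c) (Nat.ble 2224 c)
noncomputable def Ptab_s_2221_2226 (c : Nat) : Nat := @Bool.rec (fun _ => Nat) (Ptab_s_2221_2223 c) (Ptab_s_2223_2226 c) (Nat.ble 2223 c)
noncomputable def Ptab_s_2226_2228 (c : Nat) : Nat := @Bool.rec (fun _ => Nat) (Ptab_2226) (Ptab_2227) (Nat.ble 2227 c)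
noncomputable def Ptab_s_2229_2231 (c : Nat) : Nat := @Bool.rec (fun _ => Nat) (Ptab_2229) (Ptab_2230) (Nat.ble 2230 c)
noncomputable def Ptab_s_2228_2231 (c : Nat) : Nat := @Bool.rec (fun _ => Nat) (Ptab_2228) (Ptab_s_2229_2231 c) (Nat.ble 2229 c)
noncomputable def Ptab_s_2226_2231 (c : Nat) : Nat := @Bool.rec (fun _ => Nat) (Ptab_s_2226_2228 c) (Ptab_s_2228_2231 c) (Nat.ble 2228 c)
noncomputable def Ptab_s_2221_2231 (c : Nat) : Nat := @Bool.rec (fun _ => Nat) (Ptab_s_2221_2226 c) (Ptab_s_2226_2231 c) (Nat.ble 2226 c)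
noncomputable def Ptab_s_2212_2231 (c : Nat) : Nat := @Bool.rec (fun _ => Nat) (Ptab_s_2212_2221 c) (Ptab_s_2221_2231 c) (Nat.ble 2221 c)
noncomputable def Ptab_s_2231_2233 (c : Nat) : Nat := @Bool.rec (fun _ => Nat) (Ptab_2231) (Ptab_2232) (Nat.ble 2232 c)
noncomputable def Ptab_s_2233_2235 (c : Nat) : Nat := @Bool.rec (fun _ => Nat) (Ptab_2233) (Ptab_2234) (Nat.ble 2234 c)
noncomputable def Ptab_s_2231_2235 (c : Nat) : Nat := @Bool.rec (fun _ => Nat) (Ptab_s_2231_2233 c) (Ptab_s_2233_2235 c) (Nat.ble 2233 c)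
noncomputable def Ptab_s_2235_2237 (c : Nat) : Nat := @Bool.rec (fun _ => Nat) (Ptab_2235) (Ptab_2236) (Nat.ble 2236 c)
noncomputable def Ptab_s_2238_2240 (c : Nat) : Nat := @Bool.rec (fun _ => Nat) (Ptab_2238) (Ptab_2239) (Nat.ble 2239 c)
noncomputable def Ptab_s_2237_2240 (c : Nat) : Nat := @Bool.rec (fun _ => Nat) (Ptab_2237) (Ptab_s_2238_2240 c) (Nat.ble 2238 c)
noncomputable def Ptab_s_2235_2240 (c : Nat) : Nat := @Bool.rec (fun _ => Nat) (Ptab_s_2235_2237 c) (Ptab_s_2237_2240 c) (Nat.ble 2237 c)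
noncomputable def Ptab_s_2231_2240 (c : Nat) : Nat := @Bool.rec (fun _ => Nat) (Ptab_s_2231_2235 c) (Ptab_s_2235_2240 c) (Nat.ble 2235 c)
noncomputable def Ptab_s_2240_2242 (c : Nat) : Nat := @Bool.rec (fun _ => Nat) (Ptab_2240) (Ptab_2241) (Nat.ble 2241 c)
noncomputable def Ptab_s_2243_2245 (c : Nat) : Nat := @Bool.rec (fun _ => Nat) (Ptab_2243) (Ptab_2244) (Nat.ble 2244 c)
noncomputable def Ptab_s_2242_2245 (c : Nat) : Nat := @Bool.rec (fun _ => Nat) (Ptab_2242) (Ptab_s_2243_2245 c) (Nat.ble 2243 c)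
noncomputable def Ptab_s_2240_2245 (c : Nat) : Nat := @Bool.rec (fun _ => Nat) (Ptab_s_2240_2242 c) (Ptab_s_2242_2245 c) (Nat.ble 2242 c)
noncomputable def Ptab_s_2245_2247 (c : Nat) : Nat := @Bool.rec (fun _ => Nat) (Ptab_2245) (Ptab_2246) (Nat.ble 2246 c)
noncomputable def Ptab_s_2248_2250 (c : Nat) : Nat := @Bool.rec (fun _ => Nat) (Ptab_2248) (Ptab_2249) (Nat.ble 2249 c)
noncomputable def Ptab_s_2247_2250 (c : Nat) : Nat := @Bool.rec (fun _ => Nat) (Ptab_2247) (Ptab_s_2248_2250 c) (Nat.ble 2248 c)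
noncomputable def Ptab_s_2245_2250 (c : Nat) : Nat := @Bool.rec (fun _ => Nat) (Ptab_s_2245_2247 c) (Ptab_s_2247_2250 c) (Nat.ble 2247 c)
noncomputable def Ptab_s_2240_2250 (c : Nat) : Nat := @Bool.rec (fun _ => Nat) (Ptab_s_2240_2245 c) (Ptab_s_2245_2250 c) (Nat.ble 2245 c)
noncomputable def Ptab_s_2231_2250 (c : Nat) : Nat := @Bool.rec (fun _ => Nat) (Ptab_s_2231_2240 c) (Ptab_s_2240_2250 c) (Nat.ble 2240 c)
noncomputable def Ptab_s_2212_2250 (c : Nat) : Nat := @Bool.rec (fun _ => Nat) (Ptab_s_2212_2231 c) (Ptab_s_2231_2250 c) (Nat.ble 2231 c)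
noncomputable def Ptab_s_2175_2250 (c : Nat) : Nat := @Bool.rec (fun _ => Nat) (Ptab_s_2175_2212 c) (Ptab_s_2212_2250 c) (Nat.ble 2212 c)
noncomputable def Ptab_s_2100_2250 (c : Nat) : Nat := @Bool.rec (fun _ => Nat) (Ptab_s_2100_2175 c) (Ptab_s_2175_2250 c) (Nat.ble 2175 c)
noncomputable def Ptab_s_2250_2252 (c : Nat) : Nat := @Bool.rec (fun _ => Nat) (Ptab_2250) (Ptab_2251) (Nat.ble 2251 c)
noncomputable def Ptab_s_2252_2254 (c : Nat) : Nat := @Bool.rec (fun _ => Nat) (Ptab_2252) (Ptab_2253) (Nat.ble 2253 c)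
noncomputable def Ptab_s_2250_2254 (c : Nat) : Nat := @Bool.rec (fun _ => Nat) (Ptab_s_2250_2252 c) (Ptab_s_2252_2254 c) (Nat.ble 2252 c)
noncomputable def Ptab_s_2254_2256 (c : Nat) : Nat := @Bool.rec (fun _ => Nat) (Ptab_2254) (Ptab_2255) (Nat.ble 2255 c)
noncomputable def Ptab_s_2257_2259 (c : Nat) : Nat := @Bool.rec (fun _ => Nat) (Ptab_2257) (Ptab_2258) (Nat.ble 2258 c)
noncomputable def Ptab_s_2256_2259 (c : Nat) : Nat := @Bool.rec (fun _ => Nat) (Ptab_2256) (Ptab_s_2257_2259 c) (Nat.ble 2257 c)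
noncomputable def Ptab_s_2254_2259 (c : Nat) : Nat := @Bool.rec (fun _ => Nat) (Ptab_s_2254_2256 c) (Ptab_s_2256_2259 c) (Nat.ble 2256 c)
noncomputable def Ptab_s_2250_2259 (c : Nat) : Nat := @Bool.rec (fun _ => Nat) (Ptab_s_2250_2254 c) (Ptab_s_2254_2259 c) (Nat.ble 2254 c)
noncomputable def Ptab_s_2259_2261 (c : Nat) : Nat := @Bool.rec (fun _ => Nat) (Ptab_2259) (Ptab_2260) (Nat.ble 2260 c)
noncomputable def Ptab_s_2261_2263 (c : Nat) : Nat := @Bool.rec (fun _ => Nat) (Ptab_2261) (Ptab_2262) (Nat.ble 2262 c)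
noncomputable def Ptab_s_2259_2263 (c : Nat) : Nat := @Bool.rec (fun _ => Nat) (Ptab_s_2259_2261 c) (Ptab_s_2261_2263 c) (Nat.ble 2261 c)
noncomputable def Ptab_s_2263_2265 (c : Nat) : Nat := @Bool.rec (fun _ => Nat) (Ptab_2263) (Ptab_2264) (Nat.ble 2264 c)
noncomputable def Ptab_s_2266_2268 (c : Nat) : Nat := @Bool.rec (fun _ => Nat) (Ptab_2266) (Ptab_2267) (Nat.ble 2267 c)
noncomputable def Ptab_s_2265_2268 (c : Nat) : Nat := @Bool.rec (fun _ => Nat) (Ptab_2265) (Ptab_s_2266_2268 c) (Nat.ble 2266 c)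
noncomputable def Ptab_s_2263_2268 (c : Nat) : Nat := @Bool.rec (fun _ => Nat) (Ptab_s_2263_2265 c) (Ptab_s_2265_2268 c) (Nat.ble 2265 c)
noncomputable def Ptab_s_2259_2268 (c : Nat) : Nat := @Bool.rec (fun _ => Nat) (Ptab_s_2259_2263 c) (Ptab_s_2263_2268 c) (Nat.ble 2263 c)
noncomputable def Ptab_s_2250_2268 (c : Nat) : Nat := @Bool.rec (fun _ => Nat) (Ptab_s_2250_2259 c) (Ptab_s_2259_2268 c) (Nat.ble 2259 c)
noncomputable def Ptab_s_2268_2270 (c : Nat) : Nat := @Bool.rec (fun _ => Nat) (Ptab_2268) (Ptab_2269) (Nat.ble 2269 c)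
noncomputable def Ptab_s_2270_2272 (c : Nat) : Nat := @Bool.rec (fun _ => Nat) (Ptab_2270) (Ptab_2271) (Nat.ble 2271 c)
noncomputable def Ptab_s_2268_2272 (c : Nat) : Nat := @Bool.rec (fun _ => Nat) (Ptab_s_2268_2270 c) (Ptab_s_2270_2272 c) (Nat.ble 2270 c)
noncomputable def Ptab_s_2272_2274 (c : Nat) : Nat := @Bool.rec (fun _ => Nat) (Ptab_2272) (Ptab_2273) (Nat.ble 2273 c)
noncomputable def Ptab_s_2275_2277 (c : Nat) : Nat := @Bool.rec (fun _ => Nat) (Ptab_2275) (Ptab_2276) (Nat.ble 2276 c)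
noncomputable def Ptab_s_2274_2277 (c : Nat) : Nat := @Bool.rec (fun _ => Nat) (Ptab_2274) (Ptab_s_2275_2277 c) (Nat.ble 2275 c)
noncomputable def Ptab_s_2272_2277 (c : Nat) : Nat := @Bool.rec (fun _ => Nat) (Ptab_s_2272_2274 c) (Ptab_s_2274_2277 c) (Nat.ble 2274 c)
noncomputable def Ptab_s_2268_2277 (c : Nat) : Nat := @Bool.rec (fun _ => Nat) (Ptab_s_2268_2272 c) (Ptab_s_2272_2277 c) (Nat.ble 2272 c)
noncomputable def Ptab_s_2277_2279 (c : Nat) : Nat := @Bool.rec (fun _ => Nat) (Ptab_2277) (Ptab_2278) (Nat.ble 2278 c)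
noncomputable def Ptab_s_2280_2282 (c : Nat) : Nat := @Bool.rec (fun _ => Nat) (Ptab_2280) (Ptab_2281) (Nat.ble 2281 c)
noncomputable def Ptab_s_2279_2282 (c : Nat) : Nat := @Bool.rec (fun _ => Nat) (Ptab_2279) (Ptab_s_2280_2282 c) (Nat.ble 2280 c)
noncomputable def Ptab_s_2277_2282 (c : Nat) : Nat := @Bool.rec (fun _ => Nat) (Ptab_s_2277_2279 c) (Ptab_s_2279_2282 c) (Nat.ble 2279 c)
noncomputable def Ptab_s_2282_2284 (c : Nat) : Nat := @Bool.rec (fun _ => Nat) (Ptab_2282) (Ptab_2283) (Nat.ble 2283 c)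
noncomputable def Ptab_s_2285_2287 (c : Nat) : Nat := @Bool.rec (fun _ => Nat) (Ptab_2285) (Ptab_2286) (Nat.ble 2286 c)
noncomputable def Ptab_s_2284_2287 (c : Nat) : Nat := @Bool.rec (fun _ => Nat) (Ptab_2284) (Ptab_s_2285_2287 c) (Nat.ble 2285 c)
noncomputable def Ptab_s_2282_2287 (c : Nat) : Nat := @Bool.rec (fun _ => Nat) (Ptab_s_2282_2284 c) (Ptab_s_2284_2287 c) (Nat.ble 2284 c)
noncomputable def Ptab_s_2277_2287 (c : Nat) : Nat := @Bool.rec (fun _ => Nat) (Ptab_s_2277_2282 c) (Ptab_s_2282_2287 c) (Nat.ble 2282 c)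
noncomputable def Ptab_s_2268_2287 (c : Nat) : Nat := @Bool.rec (fun _ => Nat) (Ptab_s_2268_2277 c) (Ptab_s_2277_2287 c) (Nat.ble 2277 c)
noncomputable def Ptab_s_2250_2287 (c : Nat) : Nat := @Bool.rec (fun _ => Nat) (Ptab_s_2250_2268 c) (Ptab_s_2268_2287 c) (Nat.ble 2268 c)
noncomputable def Ptab_s_2287_2289 (c : Nat) : Nat := @Bool.rec (fun _ => Nat) (Ptab_2287) (Ptab_2288) (Nat.ble 2288 c)
noncomputable def Ptab_s_2289_2291 (c : Nat) : Nat := @Bool.rec (fun _ => Nat) (Ptab_2289) (Ptab_2290) (Nat.ble 2290 c)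
noncomputable def Ptab_s_2287_2291 (c : Nat) : Nat := @Bool.rec (fun _ => Nat) (Ptab_s_2287_2289 c) (Ptab_s_2289_2291 c) (Nat.ble 2289 c)
noncomputable def Ptab_s_2291_2293 (c : Nat) : Nat := @Bool.rec (fun _ => Nat) (Ptab_2291) (Ptab_2292) (Nat.ble 2292 c)
noncomputable def Ptab_s_2294_2296 (c : Nat) : Nat := @Bool.rec (fun _ => Nat) (Ptab_2294) (Ptab_2295) (Nat.ble 2295 c)
noncomputable def Ptab_s_2293_2296 (c : Nat) : Nat := @Bool.rec (fun _ => Nat) (Ptab_2293) (Ptab_s_2294_2296 c) (Nat.ble 2294 c)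
noncomputable def Ptab_s_2291_2296 (c : Nat) : Nat := @Bool.rec (fun _ => Nat) (Ptab_s_2291_2293 c) (Ptab_s_2293_2296 c) (Nat.ble 2293 c)
noncomputable def Ptab_s_2287_2296 (c : Nat) : Nat := @Bool.rec (fun _ => Nat) (Ptab_s_2287_2291 c) (Ptab_s_2291_2296 c) (Nat.ble 2291 c)
noncomputable def Ptab_s_2296_2298 (c : Nat) : Nat := @Bool.rec (fun _ => Nat) (Ptab_2296) (Ptab_2297) (Nat.ble 2297 c)
noncomputable def Ptab_s_2299_2301 (c : Nat) : Nat := @Bool.rec (fun _ => Nat) (Ptab_2299) (Ptab_2300) (Nat.ble 2300 c)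
noncomputable def Ptab_s_2298_2301 (c : Nat) : Nat := @Bool.rec (fun _ => Nat) (Ptab_2298) (Ptab_s_2299_2301 c) (Nat.ble 2299 c)
noncomputable def Ptab_s_2296_2301 (c : Nat) : Nat := @Bool.rec (fun _ => Nat) (Ptab_s_2296_2298 c) (Ptab_s_2298_2301 c) (Nat.ble 2298 c)
noncomputable def Ptab_s_2301_2303 (c : Nat) : Nat := @Bool.rec (fun _ => Nat) (Ptab_2301) (Ptab_2302) (Nat.ble 2302 c)
noncomputable def Ptab_s_2304_2306 (c : Nat) : Nat := @Bool.rec (fun _ => Nat) (Ptab_2304) (Ptab_2305) (Nat.ble 2305 c)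
noncomputable def Ptab_s_2303_2306 (c : Nat) : Nat := @Bool.rec (fun _ => Nat) (Ptab_2303) (Ptab_s_2304_2306 c) (Nat.ble 2304 c)
noncomputable def Ptab_s_2301_2306 (c : Nat) : Nat := @Bool.rec (fun _ => Nat) (Ptab_s_2301_2303 c) (Ptab_s_2303_2306 c) (Nat.ble 2303 c)
noncomputable def Ptab_s_2296_2306 (c : Nat) : Nat := @Bool.rec (fun _ => Nat) (Ptab_s_2296_2301 c) (Ptab_s_2301_2306 c) (Nat.ble 2301 c)
noncomputable def Ptab_s_2287_2306 (c : Nat) : Nat := @Bool.rec (fun _ => Nat) (Ptab_s_2287_2296 c) (Ptab_s_2296_2306 c) (Nat.ble 2296 c)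
noncomputable def Ptab_s_2306_2308 (c : Nat) : Nat := @Bool.rec (fun _ => Nat) (Ptab_2306) (Ptab_2307) (Nat.ble 2307 c)
noncomputable def Ptab_s_2308_2310 (c : Nat) : Nat := @Bool.rec (fun _ => Nat) (Ptab_2308) (Ptab_2309) (Nat.ble 2309 c)
noncomputable def Ptab_s_2306_2310 (c : Nat) : Nat := @Bool.rec (fun _ => Nat) (Ptab_s_2306_2308 c) (Ptab_s_2308_2310 c) (Nat.ble 2308 c)
noncomputable def Ptab_s_2310_2312 (c : Nat) : Nat := @Bool.rec (fun _ => Nat) (Ptab_2310) (Ptab_2311) (Nat.ble 2311 c)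
noncomputable def Ptab_s_2313_2315 (c : Nat) : Nat := @Bool.rec (fun _ => Nat) (Ptab_2313) (Ptab_2314) (Nat.ble 2314 c)
noncomputable def Ptab_s_2312_2315 (c : Nat) : Nat := @Bool.rec (fun _ => Nat) (Ptab_2312) (Ptab_s_2313_2315 c) (Nat.ble 2313 c)
noncomputable def Ptab_s_2310_2315 (c : Nat) : Nat := @Bool.rec (fun _ => Nat) (Ptab_s_2310_2312 c) (Ptab_s_2312_2315 c) (Nat.ble 2312 c)
noncomputable def Ptab_s_2306_2315 (c : Nat) : Nat := @Bool.rec (fun _ => Nat) (Ptab_s_2306_2310 c) (Ptab_s_2310_2315 c) (Nat.ble 2310 c)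
noncomputable def Ptab_s_2315_2317 (c : Nat) : Nat := @Bool.rec (fun _ => Nat) (Ptab_2315) (Ptab_2316) (Nat.ble 2316 c)
noncomputable def Ptab_s_2318_2320 (c : Nat) : Nat := @Bool.rec (fun _ => Nat) (Ptab_2318) (Ptab_2319) (Nat.ble 2319 c)
noncomputable def Ptab_s_2317_2320 (c : Nat) : Nat := @Bool.rec (fun _ => Nat) (Ptab_2317) (Ptab_s_2318_2320 c) (Nat.ble 2318 c)
noncomputable def Ptab_s_2315_2320 (c : Nat) : Nat := @Bool.rec (fun _ => Nat) (Ptab_s_2315_2317 c) (Ptab_s_2317_2320 c) (Nat.ble 2317 c)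
noncomputable def Ptab_s_2320_2322 (c : Nat) : Nat := @Bool.rec (fun _ => Nat) (Ptab_2320) (Ptab_2321) (Nat.ble 2321 c)
noncomputable def Ptab_s_2323_2325 (c : Nat) : Nat := @Bool.rec (fun _ => Nat) (Ptab_2323) (Ptab_2324) (Nat.ble 2324 c)
noncomputable def Ptab_s_2322_2325 (c : Nat) : Nat := @Bool.rec (fun _ => Nat) (Ptab_2322) (Ptab_s_2323_2325 c) (Nat.ble 2323 c)
noncomputable def Ptab_s_2320_2325 (c : Nat) : Nat := @Bool.rec (fun _ => Nat) (Ptab_s_2320_2322 c) (Ptab_s_2322_2325 c) (Nat.ble 2322 c)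
noncomputable def Ptab_s_2315_2325 (c : Nat) : Nat := @Bool.rec (fun _ => Nat) (Ptab_s_2315_2320 c) (Ptab_s_2320_2325 c) (Nat.ble 2320 c)
noncomputable def Ptab_s_2306_2325 (c : Nat) : Nat := @Bool.rec (fun _ => Nat) (Ptab_s_2306_2315 c) (Ptab_s_2315_2325 c) (Nat.ble 2315 c)
noncomputable def Ptab_s_2287_2325 (c : Nat) : Nat := @Bool.rec (fun _ => Nat) (Ptab_s_2287_2306 c) (Ptab_s_2306_2325 c) (Nat.ble 2306 c)
noncomputable def Ptab_s_2250_2325 (c : Nat) : Nat := @Bool.rec (fun _ => Nat) (Ptab_s_2250_2287 c) (Ptab_s_2287_2325 c) (Nat.ble 2287 c)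
noncomputable def Ptab_s_2325_2327 (c : Nat) : Nat := @Bool.rec (fun _ => Nat) (Ptab_2325) (Ptab_2326) (Nat.ble 2326 c)
noncomputable def Ptab_s_2327_2329 (c : Nat) : Nat := @Bool.rec (fun _ => Nat) (Ptab_2327) (Ptab_2328) (Nat.ble 2328 c)
noncomputable def Ptab_s_2325_2329 (c : Nat) : Nat := @Bool.rec (fun _ => Nat) (Ptab_s_2325_2327 c) (Ptab_s_2327_2329 c) (Nat.ble 2327 c)
noncomputable def Ptab_s_2329_2331 (c : Nat) : Nat := @Bool.rec (fun _ => Nat) (Ptab_2329) (Ptab_2330) (Nat.ble 2330 c)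
noncomputable def Ptab_s_2332_2334 (c : Nat) : Nat := @Bool.rec (fun _ => Nat) (Ptab_2332) (Ptab_2333) (Nat.ble 2333 c)
noncomputable def Ptab_s_2331_2334 (c : Nat) : Nat := @Bool.rec (fun _ => Nat) (Ptab_2331) (Ptab_s_2332_2334 c) (Nat.ble 2332 c)
noncomputable def Ptab_s_2329_2334 (c : Nat) : Nat := @Bool.rec (fun _ => Nat) (Ptab_s_2329_2331 c) (Ptab_s_2331_2334 c) (Nat.ble 2331 c)
noncomputable def Ptab_s_2325_2334 (c : Nat) : Nat := @Bool.rec (fun _ => Nat) (Ptab_s_2325_2329 c) (Ptab_s_2329_2334 c) (Nat.ble 2329 c)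
noncomputable def Ptab_s_2334_2336 (c : Nat) : Nat := @Bool.rec (fun _ => Nat) (Ptab_2334) (Ptab_2335) (Nat.ble 2335 c)
noncomputable def Ptab_s_2336_2338 (c : Nat) : Nat := @Bool.rec (fun _ => Nat) (Ptab_2336) (Ptab_2337) (Nat.ble 2337 c)
noncomputable def Ptab_s_2334_2338 (c : Nat) : Nat := @Bool.rec (fun _ => Nat) (Ptab_s_2334_2336 c) (Ptab_s_2336_2338 c) (Nat.ble 2336 c)
noncomputable def Ptab_s_2338_2340 (c : Nat) : Nat := @Bool.rec (fun _ => Nat) (Ptab_2338) (Ptab_2339) (Nat.ble 2339 c)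
noncomputable def Ptab_s_2341_2343 (c : Nat) : Nat := @Bool.rec (fun _ => Nat) (Ptab_2341) (Ptab_2342) (Nat.ble 2342 c)
noncomputable def Ptab_s_2340_2343 (c : Nat) : Nat := @Bool.rec (fun _ => Nat) (Ptab_2340) (Ptab_s_2341_2343 c) (Nat.ble 2341 c)
noncomputable def Ptab_s_2338_2343 (c : Nat) : Nat := @Bool.rec (fun _ => Nat) (Ptab_s_2338_2340 c) (Ptab_s_2340_2343 c) (Nat.ble 2340 c)
noncomputable def Ptab_s_2334_2343 (c : Nat) : Nat := @Bool.rec (fun _ => Nat) (Ptab_s_2334_2338 c) (Ptab_s_2338_2343 c) (Nat.ble 2338 c)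
noncomputable def Ptab_s_2325_2343 (c : Nat) : Nat := @Bool.rec (fun _ => Nat) (Ptab_s_2325_2334 c) (Ptab_s_2334_2343 c) (Nat.ble 2334 c)
noncomputable def Ptab_s_2343_2345 (c : Nat) : Nat := @Bool.rec (fun _ => Nat) (Ptab_2343) (Ptab_2344) (Nat.ble 2344 c)
noncomputable def Ptab_s_2345_2347 (c : Nat) : Nat := @Bool.rec (fun _ => Nat) (Ptab_2345) (Ptab_2346) (Nat.ble 2346 c)
noncomputable def Ptab_s_2343_2347 (c : Nat) : Nat := @Bool.rec (fun _ => Nat) (Ptab_s_2343_2345 c) (Ptab_s_2345_2347 c) (Nat.ble 2345 c)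
noncomputable def Ptab_s_2347_2349 (c : Nat) : Nat := @Bool.rec (fun _ => Nat) (Ptab_2347) (Ptab_2348) (Nat.ble 2348 c)
noncomputable def Ptab_s_2350_2352 (c : Nat) : Nat := @Bool.rec (fun _ => Nat) (Ptab_2350) (Ptab_2351) (Nat.ble 2351 c)
noncomputable def Ptab_s_2349_2352 (c : Nat) : Nat := @Bool.rec (fun _ => Nat) (Ptab_2349) (Ptab_s_2350_2352 c) (Nat.ble 2350 c)
noncomputable def Ptab_s_2347_2352 (c : Nat) : Nat := @Bool.rec (fun _ => Nat) (Ptab_s_2347_2349 c) (Ptab_s_2349_2352 c) (Nat.ble 2349 c)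
noncomputable def Ptab_s_2343_2352 (c : Nat) : Nat := @Bool.rec (fun _ => Nat) (Ptab_s_2343_2347 c) (Ptab_s_2347_2352 c) (Nat.ble 2347 c)
noncomputable def Ptab_s_2352_2354 (c : Nat) : Nat := @Bool.rec (fun _ => Nat) (Ptab_2352) (Ptab_2353) (Nat.ble 2353 c)
noncomputable def Ptab_s_2355_2357 (c : Nat) : Nat := @Bool.rec (fun _ => Nat) (Ptab_2355) (Ptab_2356) (Nat.ble 2356 c)
noncomputable def Ptab_s_2354_2357 (c : Nat) : Nat := @Bool.rec (fun _ => Nat) (Ptab_2354) (Ptab_s_2355_2357 c) (Nat.ble 2355 c)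
noncomputable def Ptab_s_2352_2357 (c : Nat) : Nat := @Bool.rec (fun _ => Nat) (Ptab_s_2352_2354 c) (Ptab_s_2354_2357 c) (Nat.ble 2354 c)
noncomputable def Ptab_s_2357_2359 (c : Nat) : Nat := @Bool.rec (fun _ => Nat) (Ptab_2357) (Ptab_2358) (Nat.ble 2358 c)
noncomputable def Ptab_s_2360_2362 (c : Nat) : Nat := @Bool.rec (fun _ => Nat) (Ptab_2360) (Ptab_2361) (Nat.ble 2361 c)
noncomputable def Ptab_s_2359_2362 (c : Nat) : Nat := @Bool.rec (fun _ => Nat) (Ptab_2359) (Ptab_s_2360_2362 c) (Nat.ble 2360 c)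
noncomputable def Ptab_s_2357_2362 (c : Nat) : Nat := @Bool.rec (fun _ => Nat) (Ptab_s_2357_2359 c) (Ptab_s_2359_2362 c) (Nat.ble 2359 c)
noncomputable def Ptab_s_2352_2362 (c : Nat) : Nat := @Bool.rec (fun _ => Nat) (Ptab_s_2352_2357 c) (Ptab_s_2357_2362 c) (Nat.ble 2357 c)
noncomputable def Ptab_s_2343_2362 (c : Nat) : Nat := @Bool.rec (fun _ => Nat) (Ptab_s_2343_2352 c) (Ptab_s_2352_2362 c) (Nat.ble 2352 c)
noncomputable def Ptab_s_2325_2362 (c : Nat) : Nat := @Bool.rec (fun _ => Nat) (Ptab_s_2325_2343 c) (Ptab_s_2343_2362 c) (Nat.ble 2343 c)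
noncomputable def Ptab_s_2362_2364 (c : Nat) : Nat := @Bool.rec (fun _ => Nat) (Ptab_2362) (Ptab_2363) (Nat.ble 2363 c)
noncomputable def Ptab_s_2364_2366 (c : Nat) : Nat := @Bool.rec (fun _ => Nat) (Ptab_2364) (Ptab_2365) (Nat.ble 2365 c)
noncomputable def Ptab_s_2362_2366 (c : Nat) : Nat := @Bool.rec (fun _ => Nat) (Ptab_s_2362_2364 c) (Ptab_s_2364_2366 c) (Nat.ble 2364 c)
noncomputable def Ptab_s_2366_2368 (c : Nat) : Nat := @Bool.rec (fun _ => Nat) (Ptab_2366) (Ptab_2367) (Nat.ble 2367 c)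
noncomputable def Ptab_s_2369_2371 (c : Nat) : Nat := @Bool.rec (fun _ => Nat) (Ptab_2369) (Ptab_2370) (Nat.ble 2370 c)
noncomputable def Ptab_s_2368_2371 (c : Nat) : Nat := @Bool.rec (fun _ => Nat) (Ptab_2368) (Ptab_s_2369_2371 c) (Nat.ble 2369 c)
noncomputable def Ptab_s_2366_2371 (c : Nat) : Nat := @Bool.rec (fun _ => Nat) (Ptab_s_2366_2368 c) (Ptab_s_2368_2371 c) (Nat.ble 2368 c)
noncomputable def Ptab_s_2362_2371 (c : Nat) : Nat := @Bool.rec (fun _ => Nat) (Ptab_s_2362_2366 c) (Ptab_s_2366_2371 c) (Nat.ble 2366 c)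
noncomputable def Ptab_s_2371_2373 (c : Nat) : Nat := @Bool.rec (fun _ => Nat) (Ptab_2371) (Ptab_2372) (Nat.ble 2372 c)
noncomputable def Ptab_s_2374_2376 (c : Nat) : Nat := @Bool.rec (fun _ => Nat) (Ptab_2374) (Ptab_2375) (Nat.ble 2375 c)
noncomputable def Ptab_s_2373_2376 (c : Nat) : Nat := @Bool.rec (fun _ => Nat) (Ptab_2373) (Ptab_s_2374_2376 c) (Nat.ble 2374 c)
noncomputable def Ptab_s_2371_2376 (c : Nat) : Nat := @Bool.rec (fun _ => Nat) (Ptab_s_2371_2373 c) (Ptab_s_2373_2376 c) (Nat.ble 2373 c)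
noncomputable def Ptab_s_2376_2378 (c : Nat) : Nat := @Bool.rec (fun _ => Nat) (Ptab_2376) (Ptab_2377) (Nat.ble 2377 c)
noncomputable def Ptab_s_2379_2381 (c : Nat) : Nat := @Bool.rec (fun _ => Nat) (Ptab_2379) (Ptab_2380) (Nat.ble 2380 c)
noncomputable def Ptab_s_2378_2381 (c : Nat) : Nat := @Bool.rec (fun _ => Nat) (Ptab_2378) (Ptab_s_2379_2381 c) (Nat.ble 2379 c)
noncomputable def Ptab_s_2376_2381 (c : Nat) : Nat := @Bool.rec (fun _ => Nat) (Ptab_s_2376_2378 c) (Ptab_s_2378_2381 c) (Nat.ble 2378 c)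
noncomputable def Ptab_s_2371_2381 (c : Nat) : Nat := @Bool.rec (fun _ => Nat) (Ptab_s_2371_2376 c) (Ptab_s_2376_2381 c) (Nat.ble 2376 c)
noncomputable def Ptab_s_2362_2381 (c : Nat) : Nat := @Bool.rec (fun _ => Nat) (Ptab_s_2362_2371 c) (Ptab_s_2371_2381 c) (Nat.ble 2371 c)
noncomputable def Ptab_s_2381_2383 (c : Nat) : Nat := @Bool.rec (fun _ => Nat) (Ptab_2381) (Ptab_2382) (Nat.ble 2382 c)
noncomputable def Ptab_s_2383_2385 (c : Nat) : Nat := @Bool.rec (fun _ => Nat) (Ptab_2383) (Ptab_2384) (Nat.ble 2384 c)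
noncomputable def Ptab_s_2381_2385 (c : Nat) : Nat := @Bool.rec (fun _ => Nat) (Ptab_s_2381_2383 c) (Ptab_s_2383_2385 c) (Nat.ble 2383 c)
noncomputable def Ptab_s_2385_2387 (c : Nat) : Nat := @Bool.rec (fun _ => Nat) (Ptab_2385) (Ptab_2386) (Nat.ble 2386 c)
noncomputable def Ptab_s_2388_2390 (c : Nat) : Nat := @Bool.rec (fun _ => Nat) (Ptab_2388) (Ptab_2389) (Nat.ble 2389 c)
noncomputable def Ptab_s_2387_2390 (c : Nat) : Nat := @Bool.rec (fun _ => Nat) (Ptab_2387) (Ptab_s_2388_2390 c) (Nat.ble 2388 c)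
noncomputable def Ptab_s_2385_2390 (c : Nat) : Nat := @Bool.rec (fun _ => Nat) (Ptab_s_2385_2387 c) (Ptab_s_2387_2390 c) (Nat.ble 2387 c)
noncomputable def Ptab_s_2381_2390 (c : Nat) : Nat := @Bool.rec (fun _ => Nat) (Ptab_s_2381_2385 c) (Ptab_s_2385_2390 c) (Nat.ble 2385 c)
noncomputable def Ptab_s_2390_2392 (c : Nat) : Nat := @Bool.rec (fun _ => Nat) (Ptab_2390) (Ptab_2391) (Nat.ble 2391 c)
noncomputable def Ptab_s_2393_2395 (c : Nat) : Nat := @Bool.rec (fun _ => Nat) (Ptab_2393) (Ptab_2394) (Nat.ble 2394 c)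
noncomputable def Ptab_s_2392_2395 (c : Nat) : Nat := @Bool.rec (fun _ => Nat) (Ptab_2392) (Ptab_s_2393_2395 c) (Nat.ble 2393 c)
noncomputable def Ptab_s_2390_2395 (c : Nat) : Nat := @Bool.rec (fun _ => Nat) (Ptab_s_2390_2392 c) (Ptab_s_2392_2395 c) (Nat.ble 2392 c)
noncomputable def Ptab_s_2395_2397 (c : Nat) : Nat := @Bool.rec (fun _ => Nat) (Ptab_2395) (Ptab_2396) (Nat.ble 2396 c)
noncomputable def Ptab_s_2398_2400 (c : Nat) : Nat := @Bool.rec (fun _ => Nat) (Ptab_2398) (Ptab_2399) (Nat.ble 2399 c)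
noncomputable def Ptab_s_2397_2400 (c : Nat) : Nat := @Bool.rec (fun _ => Nat) (Ptab_2397) (Ptab_s_2398_2400 c) (Nat.ble 2398 c)
noncomputable def Ptab_s_2395_2400 (c : Nat) : Nat := @Bool.rec (fun _ => Nat) (Ptab_s_2395_2397 c) (Ptab_s_2397_2400 c) (Nat.ble 2397 c)
noncomputable def Ptab_s_2390_2400 (c : Nat) : Nat := @Bool.rec (fun _ => Nat) (Ptab_s_2390_2395 c) (Ptab_s_2395_2400 c) (Nat.ble 2395 c)
noncomputable def Ptab_s_2381_2400 (c : Nat) : Nat := @Bool.rec (fun _ => Nat) (Ptab_s_2381_2390 c) (Ptab_s_2390_2400 c) (Nat.ble 2390 c)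
noncomputable def Ptab_s_2362_2400 (c : Nat) : Nat := @Bool.rec (fun _ => Nat) (Ptab_s_2362_2381 c) (Ptab_s_2381_2400 c) (Nat.ble 2381 c)
noncomputable def Ptab_s_2325_2400 (c : Nat) : Nat := @Bool.rec (fun _ => Nat) (Ptab_s_2325_2362 c) (Ptab_s_2362_2400 c) (Nat.ble 2362 c)
noncomputable def Ptab_s_2250_2400 (c : Nat) : Nat := @Bool.rec (fun _ => Nat) (Ptab_s_2250_2325 c) (Ptab_s_2325_2400 c) (Nat.ble 2325 c)
noncomputable def Ptab_s_2100_2400 (c : Nat) : Nat := @Bool.rec (fun _ => Nat) (Ptab_s_2100_2250 c) (Ptab_s_2250_2400 c) (Nat.ble 2250 c)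
noncomputable def Ptab_s_1800_2400 (c : Nat) : Nat := @Bool.rec (fun _ => Nat) (Ptab_s_1800_2100 c) (Ptab_s_2100_2400 c) (Nat.ble 2100 c)
noncomputable def Ptab_s_1200_2400 (c : Nat) : Nat := @Bool.rec (fun _ => Nat) (Ptab_s_1200_1800 c) (Ptab_s_1800_2400 c) (Nat.ble 1800 c)
noncomputable def Ptab_s_0_2400 (c : Nat) : Nat := @Bool.rec (fun _ => Nat) (Ptab_s_0_1200 c) (Ptab_s_1200_2400 c) (Nat.ble 1200 c)
noncomputable def Ptab (i : Nat) : Nat := rdw 23 8388607 (Ptab_s_0_2400 (Nat.shiftRight i 12)) (Nat.land i 4095)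
noncomputable def RRtab (i : Nat) : Nat := rdw 5 31 RRtab_0 i
noncomputable def rBtab (i : Nat) : Nat := rdw 11 2047 rBtab_0 i
noncomputable def rLtab (i : Nat) : Nat := rdw 6 63 rLtab_0 i
noncomputable def nameTab (i : Nat) : Nat := rdw 21 2097151 nameTab_0 i
noncomputable def col0 (i : Nat) : Nat := rdw 12 4095 col0_0 i
noncomputable def col1 (i : Nat) : Nat := rdw 12 4095 col1_0 i
noncomputable def col2 (i : Nat) : Nat := rdw 12 4095 col2_0 i
noncomputable def col3 (i : Nat) : Nat := rdw 12 4095 col3_0 i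
noncomputable def col4 (i : Nat) : Nat := rdw 12 4095 col4_0 i
noncomputable def col5 (i : Nat) : Nat := rdw 12 4095 col5_0 i
noncomputable def col6 (i : Nat) : Nat := rdw 12 4095 col6_0 i
noncomputable def col7 (i : Nat) : Nat := rdw 12 4095 col7_0 i
noncomputable def col8 (i : Nat) : Nat := rdw 12 4095 col8_0 i
noncomputable def col9 (i : Nat) : Nat := rdw 12 4095 col9_0 i
noncomputable def col10 (i : Nat) : Nat := rdw 12 4095 col10_0 i
noncomputable def col11 (i : Nat) : Nat := rdw 12 4095 col11_0 i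
noncomputable def col12 (i : Nat) : Nat := rdw 12 4095 col12_0 i
noncomputable def col13 (i : Nat) : Nat := rdw 12 4095 col13_0 i
noncomputable def col14 (i : Nat) : Nat := rdw 12 4095 col14_0 i
noncomputable def col15 (i : Nat) : Nat := rdw 12 4095 col15_0 i
noncomputable def col16 (i : Nat) : Nat := rdw 12 4095 col16_0 i
noncomputable def col17 (i : Nat) : Nat := rdw 12 4095 col17_0 i
noncomputable def finTab_s_1_3 (c : Nat) : Nat := @Bool.rec (fun _ => Nat) (finTab_1) (finTab_2) (Nat.ble 2 c)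
noncomputable def finTab_s_0_3 (c : Nat) : Nat := @Bool.rec (fun _ => Nat) (finTab_0) (finTab_s_1_3 c) (Nat.ble 1 c)
noncomputable def finTab_s_3_5 (c : Nat) : Nat := @Bool.rec (fun _ => Nat) (finTab_3) (finTab_4) (Nat.ble 4 c)
noncomputable def finTab_s_5_7 (c : Nat) : Nat := @Bool.rec (fun _ => Nat) (finTab_5) (finTab_6) (Nat.ble 6 c)
noncomputable def finTab_s_3_7 (c : Nat) : Nat := @Bool.rec (fun _ => Nat) (finTab_s_3_5 c) (finTab_s_5_7 c) (Nat.ble 5 c)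
noncomputable def finTab_s_0_7 (c : Nat) : Nat := @Bool.rec (fun _ => Nat) (finTab_s_0_3 c) (finTab_s_3_7 c) (Nat.ble 3 c)
noncomputable def finTab_s_7_9 (c : Nat) : Nat := @Bool.rec (fun _ => Nat) (finTab_7) (finTab_8) (Nat.ble 8 c)
noncomputable def finTab_s_9_11 (c : Nat) : Nat := @Bool.rec (fun _ => Nat) (finTab_9) (finTab_10) (Nat.ble 10 c)
noncomputable def finTab_s_7_11 (c : Nat) : Nat := @Bool.rec (fun _ => Nat) (finTab_s_7_9 c) (finTab_s_9_11 c) (Nat.ble 9 c)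
noncomputable def finTab_s_11_13 (c : Nat) : Nat := @Bool.rec (fun _ => Nat) (finTab_11) (finTab_12) (Nat.ble 12 c)
noncomputable def finTab_s_13_15 (c : Nat) : Nat := @Bool.rec (fun _ => Nat) (finTab_13) (finTab_14) (Nat.ble 14 c)
noncomputable def finTab_s_11_15 (c : Nat) : Nat := @Bool.rec (fun _ => Nat) (finTab_s_11_13 c) (finTab_s_13_15 c) (Nat.ble 13 c)
noncomputable def finTab_s_7_15 (c : Nat) : Nat := @Bool.rec (fun _ => Nat) (finTab_s_7_11 c) (finTab_s_11_15 c) (Nat.ble 11 c)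
noncomputable def finTab_s_0_15 (c : Nat) : Nat := @Bool.rec (fun _ => Nat) (finTab_s_0_7 c) (finTab_s_7_15 c) (Nat.ble 7 c)
noncomputable def finTab (i : Nat) : Nat := rdw 23 8388607 (finTab_s_0_15 (Nat.shiftRight i 12)) (Nat.land i 4095)
noncomputable def clsTab_s_0_2 (c : Nat) : Nat := @Bool.rec (fun _ => Nat) (clsTab_0) (clsTab_1) (Nat.ble 1 c)
noncomputable def clsTab_s_2_4 (c : Nat) : Nat := @Bool.rec (fun _ => Nat) (clsTab_2) (clsTab_3) (Nat.ble 3 c)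
noncomputable def clsTab_s_0_4 (c : Nat) : Nat := @Bool.rec (fun _ => Nat) (clsTab_s_0_2 c) (clsTab_s_2_4 c) (Nat.ble 2 c)
noncomputable def clsTab_s_4_6 (c : Nat) : Nat := @Bool.rec (fun _ => Nat) (clsTab_4) (clsTab_5) (Nat.ble 5 c)
noncomputable def clsTab_s_7_9 (c : Nat) : Nat := @Bool.rec (fun _ => Nat) (clsTab_7) (clsTab_8) (Nat.ble 8 c)
noncomputable def clsTab_s_6_9 (c : Nat) : Nat := @Bool.rec (fun _ => Nat) (clsTab_6) (clsTab_s_7_9 c) (Nat.ble 7 c)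
noncomputable def clsTab_s_4_9 (c : Nat) : Nat := @Bool.rec (fun _ => Nat) (clsTab_s_4_6 c) (clsTab_s_6_9 c) (Nat.ble 6 c)
noncomputable def clsTab_s_0_9 (c : Nat) : Nat := @Bool.rec (fun _ => Nat) (clsTab_s_0_4 c) (clsTab_s_4_9 c) (Nat.ble 4 c)
noncomputable def clsTab_s_9_11 (c : Nat) : Nat := @Bool.rec (fun _ => Nat) (clsTab_9) (clsTab_10) (Nat.ble 10 c)
noncomputable def clsTab_s_11_13 (c : Nat) : Nat := @Bool.rec (fun _ => Nat) (clsTab_11) (clsTab_12) (Nat.ble 12 c)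
noncomputable def clsTab_s_9_13 (c : Nat) : Nat := @Bool.rec (fun _ => Nat) (clsTab_s_9_11 c) (clsTab_s_11_13 c) (Nat.ble 11 c)
noncomputable def clsTab_s_13_15 (c : Nat) : Nat := @Bool.rec (fun _ => Nat) (clsTab_13) (clsTab_14) (Nat.ble 14 c)
noncomputable def clsTab_s_16_18 (c : Nat) : Nat := @Bool.rec (fun _ => Nat) (clsTab_16) (clsTab_17) (Nat.ble 17 c)
noncomputable def clsTab_s_15_18 (c : Nat) : Nat := @Bool.rec (fun _ => Nat) (clsTab_15) (clsTab_s_16_18 c) (Nat.ble 16 c)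
noncomputable def clsTab_s_13_18 (c : Nat) : Nat := @Bool.rec (fun _ => Nat) (clsTab_s_13_15 c) (clsTab_s_15_18 c) (Nat.ble 15 c)
noncomputable def clsTab_s_9_18 (c : Nat) : Nat := @Bool.rec (fun _ => Nat) (clsTab_s_9_13 c) (clsTab_s_13_18 c) (Nat.ble 13 c)
noncomputable def clsTab_s_0_18 (c : Nat) : Nat := @Bool.rec (fun _ => Nat) (clsTab_s_0_9 c) (clsTab_s_9_18 c) (Nat.ble 9 c)
noncomputable def clsTab_s_18_20 (c : Nat) : Nat := @Bool.rec (fun _ => Nat) (clsTab_18) (clsTab_19) (Nat.ble 19 c)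
noncomputable def clsTab_s_20_22 (c : Nat) : Nat := @Bool.rec (fun _ => Nat) (clsTab_20) (clsTab_21) (Nat.ble 21 c)
noncomputable def clsTab_s_18_22 (c : Nat) : Nat := @Bool.rec (fun _ => Nat) (clsTab_s_18_20 c) (clsTab_s_20_22 c) (Nat.ble 20 c)
noncomputable def clsTab_s_22_24 (c : Nat) : Nat := @Bool.rec (fun _ => Nat) (clsTab_22) (clsTab_23) (Nat.ble 23 c)
noncomputable def clsTab_s_25_27 (c : Nat) : Nat := @Bool.rec (fun _ => Nat) (clsTab_25) (clsTab_26) (Nat.ble 26 c)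
noncomputable def clsTab_s_24_27 (c : Nat) : Nat := @Bool.rec (fun _ => Nat) (clsTab_24) (clsTab_s_25_27 c) (Nat.ble 25 c)
noncomputable def clsTab_s_22_27 (c : Nat) : Nat := @Bool.rec (fun _ => Nat) (clsTab_s_22_24 c) (clsTab_s_24_27 c) (Nat.ble 24 c)
noncomputable def clsTab_s_18_27 (c : Nat) : Nat := @Bool.rec (fun _ => Nat) (clsTab_s_18_22 c) (clsTab_s_22_27 c) (Nat.ble 22 c)
noncomputable def clsTab_s_27_29 (c : Nat) : Nat := @Bool.rec (fun _ => Nat) (clsTab_27) (clsTab_28) (Nat.ble 28 c)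
noncomputable def clsTab_s_30_32 (c : Nat) : Nat := @Bool.rec (fun _ => Nat) (clsTab_30) (clsTab_31) (Nat.ble 31 c)
noncomputable def clsTab_s_29_32 (c : Nat) : Nat := @Bool.rec (fun _ => Nat) (clsTab_29) (clsTab_s_30_32 c) (Nat.ble 30 c)
noncomputable def clsTab_s_27_32 (c : Nat) : Nat := @Bool.rec (fun _ => Nat) (clsTab_s_27_29 c) (clsTab_s_29_32 c) (Nat.ble 29 c)
noncomputable def clsTab_s_32_34 (c : Nat) : Nat := @Bool.rec (fun _ => Nat) (clsTab_32) (clsTab_33) (Nat.ble 33 c)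
noncomputable def clsTab_s_35_37 (c : Nat) : Nat := @Bool.rec (fun _ => Nat) (clsTab_35) (clsTab_36) (Nat.ble 36 c)
noncomputable def clsTab_s_34_37 (c : Nat) : Nat := @Bool.rec (fun _ => Nat) (clsTab_34) (clsTab_s_35_37 c) (Nat.ble 35 c)
noncomputable def clsTab_s_32_37 (c : Nat) : Nat := @Bool.rec (fun _ => Nat) (clsTab_s_32_34 c) (clsTab_s_34_37 c) (Nat.ble 34 c)
noncomputable def clsTab_s_27_37 (c : Nat) : Nat := @Bool.rec (fun _ => Nat) (clsTab_s_27_32 c) (clsTab_s_32_37 c) (Nat.ble 32 c)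
noncomputable def clsTab_s_18_37 (c : Nat) : Nat := @Bool.rec (fun _ => Nat) (clsTab_s_18_27 c) (clsTab_s_27_37 c) (Nat.ble 27 c)
noncomputable def clsTab_s_0_37 (c : Nat) : Nat := @Bool.rec (fun _ => Nat) (clsTab_s_0_18 c) (clsTab_s_18_37 c) (Nat.ble 18 c)
noncomputable def clsTab_s_37_39 (c : Nat) : Nat := @Bool.rec (fun _ => Nat) (clsTab_37) (clsTab_38) (Nat.ble 38 c)
noncomputable def clsTab_s_39_41 (c : Nat) : Nat := @Bool.rec (fun _ => Nat) (clsTab_39) (clsTab_40) (Nat.ble 40 c)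
noncomputable def clsTab_s_37_41 (c : Nat) : Nat := @Bool.rec (fun _ => Nat) (clsTab_s_37_39 c) (clsTab_s_39_41 c) (Nat.ble 39 c)
noncomputable def clsTab_s_41_43 (c : Nat) : Nat := @Bool.rec (fun _ => Nat) (clsTab_41) (clsTab_42) (Nat.ble 42 c)
noncomputable def clsTab_s_44_46 (c : Nat) : Nat := @Bool.rec (fun _ => Nat) (clsTab_44) (clsTab_45) (Nat.ble 45 c)
noncomputable def clsTab_s_43_46 (c : Nat) : Nat := @Bool.rec (fun _ => Nat) (clsTab_43) (clsTab_s_44_46 c) (Nat.ble 44 c)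
noncomputable def clsTab_s_41_46 (c : Nat) : Nat := @Bool.rec (fun _ => Nat) (clsTab_s_41_43 c) (clsTab_s_43_46 c) (Nat.ble 43 c)
noncomputable def clsTab_s_37_46 (c : Nat) : Nat := @Bool.rec (fun _ => Nat) (clsTab_s_37_41 c) (clsTab_s_41_46 c) (Nat.ble 41 c)
noncomputable def clsTab_s_46_48 (c : Nat) : Nat := @Bool.rec (fun _ => Nat) (clsTab_46) (clsTab_47) (Nat.ble 47 c)
noncomputable def clsTab_s_48_50 (c : Nat) : Nat := @Bool.rec (fun _ => Nat) (clsTab_48) (clsTab_49) (Nat.ble 49 c)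
noncomputable def clsTab_s_46_50 (c : Nat) : Nat := @Bool.rec (fun _ => Nat) (clsTab_s_46_48 c) (clsTab_s_48_50 c) (Nat.ble 48 c)
noncomputable def clsTab_s_50_52 (c : Nat) : Nat := @Bool.rec (fun _ => Nat) (clsTab_50) (clsTab_51) (Nat.ble 51 c)
noncomputable def clsTab_s_53_55 (c : Nat) : Nat := @Bool.rec (fun _ => Nat) (clsTab_53) (clsTab_54) (Nat.ble 54 c)
noncomputable def clsTab_s_52_55 (c : Nat) : Nat := @Bool.rec (fun _ => Nat) (clsTab_52) (clsTab_s_53_55 c) (Nat.ble 53 c)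
noncomputable def clsTab_s_50_55 (c : Nat) : Nat := @Bool.rec (fun _ => Nat) (clsTab_s_50_52 c) (clsTab_s_52_55 c) (Nat.ble 52 c)
noncomputable def clsTab_s_46_55 (c : Nat) : Nat := @Bool.rec (fun _ => Nat) (clsTab_s_46_50 c) (clsTab_s_50_55 c) (Nat.ble 50 c)
noncomputable def clsTab_s_37_55 (c : Nat) : Nat := @Bool.rec (fun _ => Nat) (clsTab_s_37_46 c) (clsTab_s_46_55 c) (Nat.ble 46 c)
noncomputable def clsTab_s_55_57 (c : Nat) : Nat := @Bool.rec (fun _ => Nat) (clsTab_55) (clsTab_56) (Nat.ble 56 c)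
noncomputable def clsTab_s_57_59 (c : Nat) : Nat := @Bool.rec (fun _ => Nat) (clsTab_57) (clsTab_58) (Nat.ble 58 c)
noncomputable def clsTab_s_55_59 (c : Nat) : Nat := @Bool.rec (fun _ => Nat) (clsTab_s_55_57 c) (clsTab_s_57_59 c) (Nat.ble 57 c)
noncomputable def clsTab_s_59_61 (c : Nat) : Nat := @Bool.rec (fun _ => Nat) (clsTab_59) (clsTab_60) (Nat.ble 60 c)
noncomputable def clsTab_s_62_64 (c : Nat) : Nat := @Bool.rec (fun _ => Nat) (clsTab_62) (clsTab_63) (Nat.ble 63 c)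
noncomputable def clsTab_s_61_64 (c : Nat) : Nat := @Bool.rec (fun _ => Nat) (clsTab_61) (clsTab_s_62_64 c) (Nat.ble 62 c)
noncomputable def clsTab_s_59_64 (c : Nat) : Nat := @Bool.rec (fun _ => Nat) (clsTab_s_59_61 c) (clsTab_s_61_64 c) (Nat.ble 61 c)
noncomputable def clsTab_s_55_64 (c : Nat) : Nat := @Bool.rec (fun _ => Nat) (clsTab_s_55_59 c) (clsTab_s_59_64 c) (Nat.ble 59 c)
noncomputable def clsTab_s_64_66 (c : Nat) : Nat := @Bool.rec (fun _ => Nat) (clsTab_64) (clsTab_65) (Nat.ble 65 c)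
noncomputable def clsTab_s_67_69 (c : Nat) : Nat := @Bool.rec (fun _ => Nat) (clsTab_67) (clsTab_68) (Nat.ble 68 c)
noncomputable def clsTab_s_66_69 (c : Nat) : Nat := @Bool.rec (fun _ => Nat) (clsTab_66) (clsTab_s_67_69 c) (Nat.ble 67 c)
noncomputable def clsTab_s_64_69 (c : Nat) : Nat := @Bool.rec (fun _ => Nat) (clsTab_s_64_66 c) (clsTab_s_66_69 c) (Nat.ble 66 c)
noncomputable def clsTab_s_69_71 (c : Nat) : Nat := @Bool.rec (fun _ => Nat) (clsTab_69) (clsTab_70) (Nat.ble 70 c)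
noncomputable def clsTab_s_72_74 (c : Nat) : Nat := @Bool.rec (fun _ => Nat) (clsTab_72) (clsTab_73) (Nat.ble 73 c)
noncomputable def clsTab_s_71_74 (c : Nat) : Nat := @Bool.rec (fun _ => Nat) (clsTab_71) (clsTab_s_72_74 c) (Nat.ble 72 c)
noncomputable def clsTab_s_69_74 (c : Nat) : Nat := @Bool.rec (fun _ => Nat) (clsTab_s_69_71 c) (clsTab_s_71_74 c) (Nat.ble 71 c)
noncomputable def clsTab_s_64_74 (c : Nat) : Nat := @Bool.rec (fun _ => Nat) (clsTab_s_64_69 c) (clsTab_s_69_74 c) (Nat.ble 69 c)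
noncomputable def clsTab_s_55_74 (c : Nat) : Nat := @Bool.rec (fun _ => Nat) (clsTab_s_55_64 c) (clsTab_s_64_74 c) (Nat.ble 64 c)
noncomputable def clsTab_s_37_74 (c : Nat) : Nat := @Bool.rec (fun _ => Nat) (clsTab_s_37_55 c) (clsTab_s_55_74 c) (Nat.ble 55 c)
noncomputable def clsTab_s_0_74 (c : Nat) : Nat := @Bool.rec (fun _ => Nat) (clsTab_s_0_37 c) (clsTab_s_37_74 c) (Nat.ble 37 c)
noncomputable def clsTab_s_74_76 (c : Nat) : Nat := @Bool.rec (fun _ => Nat) (clsTab_74) (clsTab_75) (Nat.ble 75 c)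
noncomputable def clsTab_s_76_78 (c : Nat) : Nat := @Bool.rec (fun _ => Nat) (clsTab_76) (clsTab_77) (Nat.ble 77 c)
noncomputable def clsTab_s_74_78 (c : Nat) : Nat := @Bool.rec (fun _ => Nat) (clsTab_s_74_76 c) (clsTab_s_76_78 c) (Nat.ble 76 c)
noncomputable def clsTab_s_78_80 (c : Nat) : Nat := @Bool.rec (fun _ => Nat) (clsTab_78) (clsTab_79) (Nat.ble 79 c)
noncomputable def clsTab_s_81_83 (c : Nat) : Nat := @Bool.rec (fun _ => Nat) (clsTab_81) (clsTab_82) (Nat.ble 82 c)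
noncomputable def clsTab_s_80_83 (c : Nat) : Nat := @Bool.rec (fun _ => Nat) (clsTab_80) (clsTab_s_81_83 c) (Nat.ble 81 c)
noncomputable def clsTab_s_78_83 (c : Nat) : Nat := @Bool.rec (fun _ => Nat) (clsTab_s_78_80 c) (clsTab_s_80_83 c) (Nat.ble 80 c)
noncomputable def clsTab_s_74_83 (c : Nat) : Nat := @Bool.rec (fun _ => Nat) (clsTab_s_74_78 c) (clsTab_s_78_83 c) (Nat.ble 78 c)
noncomputable def clsTab_s_83_85 (c : Nat) : Nat := @Bool.rec (fun _ => Nat) (clsTab_83) (clsTab_84) (Nat.ble 84 c)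
noncomputable def clsTab_s_85_87 (c : Nat) : Nat := @Bool.rec (fun _ => Nat) (clsTab_85) (clsTab_86) (Nat.ble 86 c)
noncomputable def clsTab_s_83_87 (c : Nat) : Nat := @Bool.rec (fun _ => Nat) (clsTab_s_83_85 c) (clsTab_s_85_87 c) (Nat.ble 85 c)
noncomputable def clsTab_s_87_89 (c : Nat) : Nat := @Bool.rec (fun _ => Nat) (clsTab_87) (clsTab_88) (Nat.ble 88 c)
noncomputable def clsTab_s_90_92 (c : Nat) : Nat := @Bool.rec (fun _ => Nat) (clsTab_90) (clsTab_91) (Nat.ble 91 c)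
noncomputable def clsTab_s_89_92 (c : Nat) : Nat := @Bool.rec (fun _ => Nat) (clsTab_89) (clsTab_s_90_92 c) (Nat.ble 90 c)
noncomputable def clsTab_s_87_92 (c : Nat) : Nat := @Bool.rec (fun _ => Nat) (clsTab_s_87_89 c) (clsTab_s_89_92 c) (Nat.ble 89 c)
noncomputable def clsTab_s_83_92 (c : Nat) : Nat := @Bool.rec (fun _ => Nat) (clsTab_s_83_87 c) (clsTab_s_87_92 c) (Nat.ble 87 c)
noncomputable def clsTab_s_74_92 (c : Nat) : Nat := @Bool.rec (fun _ => Nat) (clsTab_s_74_83 c) (clsTab_s_83_92 c) (Nat.ble 83 c)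
noncomputable def clsTab_s_92_94 (c : Nat) : Nat := @Bool.rec (fun _ => Nat) (clsTab_92) (clsTab_93) (Nat.ble 93 c)
noncomputable def clsTab_s_94_96 (c : Nat) : Nat := @Bool.rec (fun _ => Nat) (clsTab_94) (clsTab_95) (Nat.ble 95 c)
noncomputable def clsTab_s_92_96 (c : Nat) : Nat := @Bool.rec (fun _ => Nat) (clsTab_s_92_94 c) (clsTab_s_94_96 c) (Nat.ble 94 c)
noncomputable def clsTab_s_96_98 (c : Nat) : Nat := @Bool.rec (fun _ => Nat) (clsTab_96) (clsTab_97) (Nat.ble 97 c)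
noncomputable def clsTab_s_99_101 (c : Nat) : Nat := @Bool.rec (fun _ => Nat) (clsTab_99) (clsTab_100) (Nat.ble 100 c)
noncomputable def clsTab_s_98_101 (c : Nat) : Nat := @Bool.rec (fun _ => Nat) (clsTab_98) (clsTab_s_99_101 c) (Nat.ble 99 c)
noncomputable def clsTab_s_96_101 (c : Nat) : Nat := @Bool.rec (fun _ => Nat) (clsTab_s_96_98 c) (clsTab_s_98_101 c) (Nat.ble 98 c)
noncomputable def clsTab_s_92_101 (c : Nat) : Nat := @Bool.rec (fun _ => Nat) (clsTab_s_92_96 c) (clsTab_s_96_101 c) (Nat.ble 96 c)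
noncomputable def clsTab_s_101_103 (c : Nat) : Nat := @Bool.rec (fun _ => Nat) (clsTab_101) (clsTab_102) (Nat.ble 102 c)
noncomputable def clsTab_s_104_106 (c : Nat) : Nat := @Bool.rec (fun _ => Nat) (clsTab_104) (clsTab_105) (Nat.ble 105 c)
noncomputable def clsTab_s_103_106 (c : Nat) : Nat := @Bool.rec (fun _ => Nat) (clsTab_103) (clsTab_s_104_106 c) (Nat.ble 104 c)
noncomputable def clsTab_s_101_106 (c : Nat) : Nat := @Bool.rec (fun _ => Nat) (clsTab_s_101_103 c) (clsTab_s_103_106 c) (Nat.ble 103 c)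
noncomputable def clsTab_s_106_108 (c : Nat) : Nat := @Bool.rec (fun _ => Nat) (clsTab_106) (clsTab_107) (Nat.ble 107 c)
noncomputable def clsTab_s_109_111 (c : Nat) : Nat := @Bool.rec (fun _ => Nat) (clsTab_109) (clsTab_110) (Nat.ble 110 c)
noncomputable def clsTab_s_108_111 (c : Nat) : Nat := @Bool.rec (fun _ => Nat) (clsTab_108) (clsTab_s_109_111 c) (Nat.ble 109 c)
noncomputable def clsTab_s_106_111 (c : Nat) : Nat := @Bool.rec (fun _ => Nat) (clsTab_s_106_108 c) (clsTab_s_108_111 c) (Nat.ble 108 c)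
noncomputable def clsTab_s_101_111 (c : Nat) : Nat := @Bool.rec (fun _ => Nat) (clsTab_s_101_106 c) (clsTab_s_106_111 c) (Nat.ble 106 c)
noncomputable def clsTab_s_92_111 (c : Nat) : Nat := @Bool.rec (fun _ => Nat) (clsTab_s_92_101 c) (clsTab_s_101_111 c) (Nat.ble 101 c)
noncomputable def clsTab_s_74_111 (c : Nat) : Nat := @Bool.rec (fun _ => Nat) (clsTab_s_74_92 c) (clsTab_s_92_111 c) (Nat.ble 92 c)
noncomputable def clsTab_s_111_113 (c : Nat) : Nat := @Bool.rec (fun _ => Nat) (clsTab_111) (clsTab_112) (Nat.ble 112 c)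
noncomputable def clsTab_s_113_115 (c : Nat) : Nat := @Bool.rec (fun _ => Nat) (clsTab_113) (clsTab_114) (Nat.ble 114 c)
noncomputable def clsTab_s_111_115 (c : Nat) : Nat := @Bool.rec (fun _ => Nat) (clsTab_s_111_113 c) (clsTab_s_113_115 c) (Nat.ble 113 c)
noncomputable def clsTab_s_115_117 (c : Nat) : Nat := @Bool.rec (fun _ => Nat) (clsTab_115) (clsTab_116) (Nat.ble 116 c)
noncomputable def clsTab_s_118_120 (c : Nat) : Nat := @Bool.rec (fun _ => Nat) (clsTab_118) (clsTab_119) (Nat.ble 119 c)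
noncomputable def clsTab_s_117_120 (c : Nat) : Nat := @Bool.rec (fun _ => Nat) (clsTab_117) (clsTab_s_118_120 c) (Nat.ble 118 c)
noncomputable def clsTab_s_115_120 (c : Nat) : Nat := @Bool.rec (fun _ => Nat) (clsTab_s_115_117 c) (clsTab_s_117_120 c) (Nat.ble 117 c)
noncomputable def clsTab_s_111_120 (c : Nat) : Nat := @Bool.rec (fun _ => Nat) (clsTab_s_111_115 c) (clsTab_s_115_120 c) (Nat.ble 115 c)
noncomputable def clsTab_s_120_122 (c : Nat) : Nat := @Bool.rec (fun _ => Nat) (clsTab_120) (clsTab_121) (Nat.ble 121 c)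
noncomputable def clsTab_s_123_125 (c : Nat) : Nat := @Bool.rec (fun _ => Nat) (clsTab_123) (clsTab_124) (Nat.ble 124 c)
noncomputable def clsTab_s_122_125 (c : Nat) : Nat := @Bool.rec (fun _ => Nat) (clsTab_122) (clsTab_s_123_125 c) (Nat.ble 123 c)
noncomputable def clsTab_s_120_125 (c : Nat) : Nat := @Bool.rec (fun _ => Nat) (clsTab_s_120_122 c) (clsTab_s_122_125 c) (Nat.ble 122 c)
noncomputable def clsTab_s_125_127 (c : Nat) : Nat := @Bool.rec (fun _ => Nat) (clsTab_125) (clsTab_126) (Nat.ble 126 c)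
noncomputable def clsTab_s_128_130 (c : Nat) : Nat := @Bool.rec (fun _ => Nat) (clsTab_128) (clsTab_129) (Nat.ble 129 c)
noncomputable def clsTab_s_127_130 (c : Nat) : Nat := @Bool.rec (fun _ => Nat) (clsTab_127) (clsTab_s_128_130 c) (Nat.ble 128 c)
noncomputable def clsTab_s_125_130 (c : Nat) : Nat := @Bool.rec (fun _ => Nat) (clsTab_s_125_127 c) (clsTab_s_127_130 c) (Nat.ble 127 c)
noncomputable def clsTab_s_120_130 (c : Nat) : Nat := @Bool.rec (fun _ => Nat) (clsTab_s_120_125 c) (clsTab_s_125_130 c) (Nat.ble 125 c)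
noncomputable def clsTab_s_111_130 (c : Nat) : Nat := @Bool.rec (fun _ => Nat) (clsTab_s_111_120 c) (clsTab_s_120_130 c) (Nat.ble 120 c)
noncomputable def clsTab_s_130_132 (c : Nat) : Nat := @Bool.rec (fun _ => Nat) (clsTab_130) (clsTab_131) (Nat.ble 131 c)
noncomputable def clsTab_s_132_134 (c : Nat) : Nat := @Bool.rec (fun _ => Nat) (clsTab_132) (clsTab_133) (Nat.ble 133 c)
noncomputable def clsTab_s_130_134 (c : Nat) : Nat := @Bool.rec (fun _ => Nat) (clsTab_s_130_132 c) (clsTab_s_132_134 c) (Nat.ble 132 c)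
noncomputable def clsTab_s_134_136 (c : Nat) : Nat := @Bool.rec (fun _ => Nat) (clsTab_134) (clsTab_135) (Nat.ble 135 c)
noncomputable def clsTab_s_137_139 (c : Nat) : Nat := @Bool.rec (fun _ => Nat) (clsTab_137) (clsTab_138) (Nat.ble 138 c)
noncomputable def clsTab_s_136_139 (c : Nat) : Nat := @Bool.rec (fun _ => Nat) (clsTab_136) (clsTab_s_137_139 c) (Nat.ble 137 c)
noncomputable def clsTab_s_134_139 (c : Nat) : Nat := @Bool.rec (fun _ => Nat) (clsTab_s_134_136 c) (clsTab_s_136_139 c) (Nat.ble 136 c)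
noncomputable def clsTab_s_130_139 (c : Nat) : Nat := @Bool.rec (fun _ => Nat) (clsTab_s_130_134 c) (clsTab_s_134_139 c) (Nat.ble 134 c)
noncomputable def clsTab_s_139_141 (c : Nat) : Nat := @Bool.rec (fun _ => Nat) (clsTab_139) (clsTab_140) (Nat.ble 140 c)
noncomputable def clsTab_s_142_144 (c : Nat) : Nat := @Bool.rec (fun _ => Nat) (clsTab_142) (clsTab_143) (Nat.ble 143 c)
noncomputable def clsTab_s_141_144 (c : Nat) : Nat := @Bool.rec (fun _ => Nat) (clsTab_141) (clsTab_s_142_144 c) (Nat.ble 142 c)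
noncomputable def clsTab_s_139_144 (c : Nat) : Nat := @Bool.rec (fun _ => Nat) (clsTab_s_139_141 c) (clsTab_s_141_144 c) (Nat.ble 141 c)
noncomputable def clsTab_s_144_146 (c : Nat) : Nat := @Bool.rec (fun _ => Nat) (clsTab_144) (clsTab_145) (Nat.ble 145 c)
noncomputable def clsTab_s_147_149 (c : Nat) : Nat := @Bool.rec (fun _ => Nat) (clsTab_147) (clsTab_148) (Nat.ble 148 c)
noncomputable def clsTab_s_146_149 (c : Nat) : Nat := @Bool.rec (fun _ => Nat) (clsTab_146) (clsTab_s_147_149 c) (Nat.ble 147 c)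
noncomputable def clsTab_s_144_149 (c : Nat) : Nat := @Bool.rec (fun _ => Nat) (clsTab_s_144_146 c) (clsTab_s_146_149 c) (Nat.ble 146 c)
noncomputable def clsTab_s_139_149 (c : Nat) : Nat := @Bool.rec (fun _ => Nat) (clsTab_s_139_144 c) (clsTab_s_144_149 c) (Nat.ble 144 c)
noncomputable def clsTab_s_130_149 (c : Nat) : Nat := @Bool.rec (fun _ => Nat) (clsTab_s_130_139 c) (clsTab_s_139_149 c) (Nat.ble 139 c)
noncomputable def clsTab_s_111_149 (c : Nat) : Nat := @Bool.rec (fun _ => Nat) (clsTab_s_111_130 c) (clsTab_s_130_149 c) (Nat.ble 130 c)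
noncomputable def clsTab_s_74_149 (c : Nat) : Nat := @Bool.rec (fun _ => Nat) (clsTab_s_74_111 c) (clsTab_s_111_149 c) (Nat.ble 111 c)
noncomputable def clsTab_s_0_149 (c : Nat) : Nat := @Bool.rec (fun _ => Nat) (clsTab_s_0_74 c) (clsTab_s_74_149 c) (Nat.ble 74 c)
noncomputable def clsTab (i : Nat) : Nat := rdw 12 4095 (clsTab_s_0_149 (Nat.shiftRight i 13)) (Nat.land i 8191)
noncomputable def oparTab (i : Nat) : Nat := rdw 12 4095 oparTab_0 i
noncomputable def olabTab (i : Nat) : Nat := rdw 2 3 olabTab_0 i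
noncomputable def srcF (t : Nat) : Nat := Nat.land (Atab t) 2097151
noncomputable def tgtF (t : Nat) : Nat := Nat.land (Nat.shiftRight (Atab t) 21) 2097151
noncomputable def ltF (t : Nat) : Nat := Nat.shiftRight (Atab t) 42
noncomputable def rhoF (t : Nat) : Nat := Nat.land (Btab (Nat.sub t 1215883)) 127
noncomputable def rotF (t : Nat) : Nat := Nat.land (Nat.shiftRight (Btab (Nat.sub t 1215883)) 7) 63
noncomputable def lenF (t : Nat) : Nat := Nat.land (Nat.shiftRight (Btab (Nat.sub t 1215883)) 13) 127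
noncomputable def offF (t : Nat) : Nat := Nat.shiftRight (Btab (Nat.sub t 1215883)) 20
noncomputable def pfF (j : Nat) : Nat := Nat.shiftRight (Ptab j) 1
noncomputable def pdF (j : Nat) : Nat := Nat.land (Ptab j) 1
noncomputable def tblF (i x : Nat) : Nat := @Bool.rec (fun _ => Nat) (@Bool.rec (fun _ => Nat) (@Bool.rec (fun _ => Nat) (@Bool.rec (fun _ => Nat) (col0 i) (col1 i) (Nat.ble 1 x)) (@Bool.rec (fun _ => Nat) (col2 i) (col3 i) (Nat.ble 3 x)) (Nat.ble 2 x)) (@Bool.rec (fun _ => Nat) (@Bool.rec (fun _ => Nat) (col4 i) (col5 i) (Nat.ble 5 x)) (@Bool.rec (fun _ => Nat) (col6 i) (@Bool.rec (fun _ => Nat) (col7 i) (col8 i) (Nat.ble 8 x)) (Nat.ble 7 x)) (Nat.ble 6 x)) (Nat.ble 4 x)) (@Bool.rec (fun _ => Nat) (@Bool.rec (fun _ => Nat) (@Bool.rec (fun _ => Nat) (col9 i) (col10 i) (Nat.ble 10 x)) (@Bool.rec (fun _ => Nat) (col11 i) (col12 i) (Nat.ble 12 x)) (Nat.ble 11 x)) (@Bool.rec (fun _ => Nat) (@Bool.rec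 (fun _ => Nat) (col13 i) (col14 i) (Nat.ble 14 x)) (@Bool.rec (fun _ => Nat) (col15 i) (@Bool.rec (fun _ => Nat) (col16 i) (col17 i) (Nat.ble 17 x)) (Nat.ble 16 x)) (Nat.ble 15 x)) (Nat.ble 13 x)) (Nat.ble 9 x)
noncomputable def finE (i x : Nat) : Nat := finTab (Nat.add (Nat.mul i 18) x)
noncomputable def finFF (i x : Nat) : Nat := Nat.shiftRight (finE i x) 1
noncomputable def finDF (i x : Nat) : Nat := Nat.land (finE i x) 1

noncomputable def D : Log :=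
  { k := 18, inv := invE 18 PSTitspp2.invR, nR := 116, rBase := rBtab, rLen := rLtab, RR := RRtab,
    M := 1215879, nB := 4, F := 3773673, src := srcF, lt := ltF, tgt := tgtF, rho := rhoF, rot := rotF,
    off := offF, len := lenF, pf := pfF, pd := pdF }

noncomputable def T : Tab :=
  { N := 3200, nameOf := nameTab, tbl := tblF, finF := finFF, finD := finDF, cls := clsTab }

def subs : List (List Nat) := [
  [0],
  [2] ]

def rw0 : List Nat := [0, 0]
def rw1 : List Nat := [2, 2, 2]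
def rw2 : List Nat := [4, 4, 4, 4, 4, 4, 4, 4, 4, 4, 4, 4, 4]
def rw3 : List Nat := [7, 4, 3]
def rw4 : List Nat := [9, 6, 6]
def rw5 : List Nat := [11, 7, 3, 6, 2, 7, 3, 6, 2, 7, 3, 6, 2, 7, 3, 6, 2, 7, 3, 6, 2]
def rw6 : List Nat := [13, 7, 3, 7, 3, 6, 2, 6, 2, 7, 3, 7, 3, 6, 2, 6, 2, 7, 3, 7, 3, 6, 2, 6, 2, 7, 3, 7, 3, 6, 2, 6, 2]
def rw7 : List Nat := [15, 6, 2, 6, 2, 6, 2, 6, 2, 6, 3, 6, 2, 6, 2, 6, 2, 6, 2, 6, 3, 6, 2, 6, 2, 6, 2, 6, 2, 6, 3, 6, 2, 6, 2, 6, 2, 6, 2, 6, 3, 6, 2, 6, 2, 6, 2, 6, 2, 6, 3, 6, 2, 6, 2, 6, 2, 6, 2, 6, 3]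
def rw8 : List Nat := [17, 1, 6, 2, 6, 2, 6, 3, 6, 2, 6, 2, 6, 2, 6, 3, 6, 2, 6, 2, 6, 2, 6, 3, 6, 2, 6, 2, 6, 2, 6, 3, 6, 2]
def rw9 : List Nat := [8, 8]
def rw10 : List Nat := [10, 10]
def rw11 : List Nat := [12, 12]
def rw12 : List Nat := [14, 14]
def rw13 : List Nat := [16, 16]
def rw14 : List Nat := [8, 0, 9, 1]
def rw15 : List Nat := [8, 2, 9, 3]
def rw16 : List Nat := [8, 4, 9, 5]
def rw17 : List Nat := [8, 6, 9, 7]
def rw18 : List Nat := [10, 0, 11, 1]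
def rw19 : List Nat := [10, 2, 11, 3]
def rw20 : List Nat := [10, 4, 11, 5]
def rw21 : List Nat := [10, 6, 11, 7]
def rw22 : List Nat := [12, 0, 13, 1]
def rw23 : List Nat := [12, 2, 13, 3]
def rw24 : List Nat := [12, 4, 13, 5]
def rw25 : List Nat := [12, 6, 13, 7]
def rw26 : List Nat := [14, 0, 15, 1]
def rw27 : List Nat := [14, 2, 15, 3]
def rw28 : List Nat := [14, 4, 15, 5]
def rw29 : List Nat := [14, 6, 15, 7]
def rw30 : List Nat := [16, 0, 17, 1]
def rw31 : List Nat := [16, 2, 17, 3]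
def rw32 : List Nat := [16, 4, 17, 5]
def rw33 : List Nat := [16, 6, 17, 7]
def rw34 : List Nat := [0, 0]
def rw35 : List Nat := [2, 2, 2]
def rw36 : List Nat := [0, 2, 0, 2, 0, 2, 0, 2, 0, 2, 0, 2, 0, 2, 0, 2, 0, 2, 0, 2, 0, 2, 0, 2, 0, 2]
def rw37 : List Nat := [0, 2, 0, 2, 0, 2, 0, 3, 0, 2, 0, 2, 0, 3, 0, 2, 0, 2, 0, 2, 0, 3, 0, 3, 0, 3, 0, 2, 0, 2, 0, 2, 0, 3, 0, 3, 0, 3]
def realLit : List (List Nat) := [rw0, rw1, rw2, rw3, rw4, rw5, rw6, rw7, rw8, rw9, rw10, rw11, rw12, rw13, rw14, rw15, rw16, rw17, rw18, rw19, rw20, rw21, rw22, rw23, rw24, rw25, rw26, rw27, rw28, rw29, rw30, rw31, rw32, rw33, rw34, rw35, rw36, rw37]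
noncomputable def actR0 (i : Nat) : Nat := col1 (col1 (i))
theorem actR0_eq (i : Nat) : actR0 i = Tab.act T D rw0 i := rfl
noncomputable def actR1 (i : Nat) : Nat := col3 (col3 (col3 (i)))
theorem actR1_eq (i : Nat) : actR1 i = Tab.act T D rw1 i := rfl
noncomputable def actR2 (i : Nat) : Nat := col5 (col5 (col5 (col5 (col5 (col5 (col5 (col5 (col5 (col5 (col5 (col5 (col5 (i)))))))))))))
theorem actR2_eq (i : Nat) : actR2 i = Tab.act T D rw2 i := rfl
noncomputable def actR3 (i : Nat) : Nat := col6 (col5 (col2 (i)))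
theorem actR3_eq (i : Nat) : actR3 i = Tab.act T D rw3 i := rfl
noncomputable def actR4 (i : Nat) : Nat := col8 (col7 (col7 (i)))
theorem actR4_eq (i : Nat) : actR4 i = Tab.act T D rw4 i := rfl
noncomputable def actR5 (i : Nat) : Nat := col10 (col6 (col2 (col7 (col3 (col6 (col2 (col7 (col3 (col6 (col2 (col7 (col3 (col6 (col2 (col7 (col3 (col6 (col2 (col7 (col3 (i)))))))))))))))))))))
theorem actR5_eq (i : Nat) : actR5 i = Tab.act T D rw5 i := rfl
noncomputable def actR6 (i : Nat) : Nat := col12 (col6 (col2 (col6 (col2 (col7 (col3 (col7 (col3 (col6 (col2 (col6 (col2 (col7 (col3 (col7 (col3 (col6 (col2 (col6 (col2 (col7 (col3 (col7 (col3 (col6 (col2 (col6 (col2 (col7 (col3 (col7 (col3 (i)))))))))))))))))))))))))))))))))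
theorem actR6_eq (i : Nat) : actR6 i = Tab.act T D rw6 i := rfl
noncomputable def actR7 (i : Nat) : Nat := col14 (col7 (col3 (col7 (col3 (col7 (col3 (col7 (col3 (col7 (col2 (col7 (col3 (col7 (col3 (col7 (col3 (col7 (col3 (col7 (col2 (col7 (col3 (col7 (col3 (col7 (col3 (col7 (col3 (col7 (col2 (col7 (col3 (col7 (col3 (col7 (col3 (col7 (col3 (col7 (col2 (col7 (col3 (col7 (col3 (col7 (col3 (col7 (col3 (col7 (col2 (col7 (col3 (col7 (col3 (col7 (col3 (col7 (col3 (col7 (col2 (i)))))))))))))))))))))))))))))))))))))))))))))))))))))))))))))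
theorem actR7_eq (i : Nat) : actR7 i = Tab.act T D rw7 i := rfl
noncomputable def actR8 (i : Nat) : Nat := col16 (col0 (col7 (col3 (col7 (col3 (col7 (col2 (col7 (col3 (col7 (col3 (col7 (col3 (col7 (col2 (col7 (col3 (col7 (col3 (col7 (col3 (col7 (col2 (col7 (col3 (col7 (col3 (col7 (col3 (col7 (col2 (col7 (col3 (i))))))))))))))))))))))))))))))))))
theorem actR8_eq (i : Nat) : actR8 i = Tab.act T D rw8 i := rfl
noncomputable def actR9 (i : Nat) : Nat := col9 (col9 (i))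
theorem actR9_eq (i : Nat) : actR9 i = Tab.act T D rw9 i := rfl
noncomputable def actR10 (i : Nat) : Nat := col11 (col11 (i))
theorem actR10_eq (i : Nat) : actR10 i = Tab.act T D rw10 i := rfl
noncomputable def actR11 (i : Nat) : Nat := col13 (col13 (i))
theorem actR11_eq (i : Nat) : actR11 i = Tab.act T D rw11 i := rfl
noncomputable def actR12 (i : Nat) : Nat := col15 (col15 (i))
theorem actR12_eq (i : Nat) : actR12 i = Tab.act T D rw12 i := rfl
noncomputable def actR13 (i : Nat) : Nat := col17 (col17 (i))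
theorem actR13_eq (i : Nat) : actR13 i = Tab.act T D rw13 i := rfl
noncomputable def actR14 (i : Nat) : Nat := col9 (col1 (col8 (col0 (i))))
theorem actR14_eq (i : Nat) : actR14 i = Tab.act T D rw14 i := rfl
noncomputable def actR15 (i : Nat) : Nat := col9 (col3 (col8 (col2 (i))))
theorem actR15_eq (i : Nat) : actR15 i = Tab.act T D rw15 i := rfl
noncomputable def actR16 (i : Nat) : Nat := col9 (col5 (col8 (col4 (i))))
theorem actR16_eq (i : Nat) : actR16 i = Tab.act T D rw16 i := rfl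
noncomputable def actR17 (i : Nat) : Nat := col9 (col7 (col8 (col6 (i))))
theorem actR17_eq (i : Nat) : actR17 i = Tab.act T D rw17 i := rfl
noncomputable def actR18 (i : Nat) : Nat := col11 (col1 (col10 (col0 (i))))
theorem actR18_eq (i : Nat) : actR18 i = Tab.act T D rw18 i := rfl
noncomputable def actR19 (i : Nat) : Nat := col11 (col3 (col10 (col2 (i))))
theorem actR19_eq (i : Nat) : actR19 i = Tab.act T D rw19 i := rfl
noncomputable def actR20 (i : Nat) : Nat := col11 (col5 (col10 (col4 (i))))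
theorem actR20_eq (i : Nat) : actR20 i = Tab.act T D rw20 i := rfl
noncomputable def actR21 (i : Nat) : Nat := col11 (col7 (col10 (col6 (i))))
theorem actR21_eq (i : Nat) : actR21 i = Tab.act T D rw21 i := rfl
noncomputable def actR22 (i : Nat) : Nat := col13 (col1 (col12 (col0 (i))))
theorem actR22_eq (i : Nat) : actR22 i = Tab.act T D rw22 i := rfl
noncomputable def actR23 (i : Nat) : Nat := col13 (col3 (col12 (col2 (i))))
theorem actR23_eq (i : Nat) : actR23 i = Tab.act T D rw23 i := rfl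
noncomputable def actR24 (i : Nat) : Nat := col13 (col5 (col12 (col4 (i))))
theorem actR24_eq (i : Nat) : actR24 i = Tab.act T D rw24 i := rfl
noncomputable def actR25 (i : Nat) : Nat := col13 (col7 (col12 (col6 (i))))
theorem actR25_eq (i : Nat) : actR25 i = Tab.act T D rw25 i := rfl
noncomputable def actR26 (i : Nat) : Nat := col15 (col1 (col14 (col0 (i))))
theorem actR26_eq (i : Nat) : actR26 i = Tab.act T D rw26 i := rfl
noncomputable def actR27 (i : Nat) : Nat := col15 (col3 (col14 (col2 (i))))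
theorem actR27_eq (i : Nat) : actR27 i = Tab.act T D rw27 i := rfl
noncomputable def actR28 (i : Nat) : Nat := col15 (col5 (col14 (col4 (i))))
theorem actR28_eq (i : Nat) : actR28 i = Tab.act T D rw28 i := rfl
noncomputable def actR29 (i : Nat) : Nat := col15 (col7 (col14 (col6 (i))))
theorem actR29_eq (i : Nat) : actR29 i = Tab.act T D rw29 i := rfl
noncomputable def actR30 (i : Nat) : Nat := col17 (col1 (col16 (col0 (i))))
theorem actR30_eq (i : Nat) : actR30 i = Tab.act T D rw30 i := rfl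
noncomputable def actR31 (i : Nat) : Nat := col17 (col3 (col16 (col2 (i))))
theorem actR31_eq (i : Nat) : actR31 i = Tab.act T D rw31 i := rfl
noncomputable def actR32 (i : Nat) : Nat := col17 (col5 (col16 (col4 (i))))
theorem actR32_eq (i : Nat) : actR32 i = Tab.act T D rw32 i := rfl
noncomputable def actR33 (i : Nat) : Nat := col17 (col7 (col16 (col6 (i))))
theorem actR33_eq (i : Nat) : actR33 i = Tab.act T D rw33 i := rfl
noncomputable def actR34 (i : Nat) : Nat := col1 (col1 (i))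
theorem actR34_eq (i : Nat) : actR34 i = Tab.act T D rw34 i := rfl
noncomputable def actR35 (i : Nat) : Nat := col3 (col3 (col3 (i)))
theorem actR35_eq (i : Nat) : actR35 i = Tab.act T D rw35 i := rfl
noncomputable def actR36 (i : Nat) : Nat := col1 (col3 (col1 (col3 (col1 (col3 (col1 (col3 (col1 (col3 (col1 (col3 (col1 (col3 (col1 (col3 (col1 (col3 (col1 (col3 (col1 (col3 (col1 (col3 (col1 (col3 (i))))))))))))))))))))))))))
theorem actR36_eq (i : Nat) : actR36 i = Tab.act T D rw36 i := rfl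
noncomputable def actR37 (i : Nat) : Nat := col1 (col3 (col1 (col3 (col1 (col3 (col1 (col2 (col1 (col3 (col1 (col3 (col1 (col2 (col1 (col3 (col1 (col3 (col1 (col3 (col1 (col2 (col1 (col2 (col1 (col2 (col1 (col3 (col1 (col3 (col1 (col3 (col1 (col2 (col1 (col2 (col1 (col2 (i))))))))))))))))))))))))))))))))))))))
theorem actR37_eq (i : Nat) : actR37 i = Tab.act T D rw37 i := rfl

end Cfsg.Agent.Lib.Helper4.TCD.STitspp2A
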