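import Cfsg.Agent.Lib.Helper4.TCD_STitspp2A_Acc

namespace Cfsg.Agent.Lib.Helper4.TCD.STitspp2A

open Cfsg.Agent.Lib.Helper4.TC

set_option maxRecDepth 100000
set_option Elab.async false

theorem c_zero : D.zeroOK = true := by decide +kernel
theorem c_base : allBelow D.baseOK 4 = true := by decide +kernel
theorem c_let : allBelow D.letOK 18 = true := by decide +kernel
theorem c_cls0 : T.cls 0 = 0 := by decide +kernel
theorem c_name0 : T.nameOf 0 = 0 := by decide +kernel
theorem c_tab : D.relTabOK 0 (baseRels 18 PSTitspp2.invR PSTitspp2.P.real subs ++ (baseRels 18 PSTitspp2.invR PSTitspp2.P.real subs).map (invWord D.inv)) = true := by decide +kernel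
theorem c_real : PSTitspp2.P.real = realLit := by decide +kernel
theorem c_subfix : subs.all (fun u => Nat.beq (Tab.act T D u 0) 0) = true := by decide +kernel
theorem c_subs : subs.all (fun u => u.all (fun x => Nat.ble (Nat.succ x) 18)) = true := by decide +kernel
theorem c_names_0 : allRange D.nameOK 1 60000 = true := by decide +kernel
theorem c_names_1 : allRange D.nameOK 60001 60000 = true := by decide +kernel
theorem c_names_2 : allRange D.nameOK 120001 60000 = true := by decide +kernel
theorem c_names_3 : allRange D.nameOK 180001 60000 = true := by decide +kernel
theorem c_names_4 : allRange D.nameOK 240001 60000 = true := by decide +kernel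
theorem c_names_5 : allRange D.nameOK 300001 60000 = true := by decide +kernel
theorem c_names_6 : allRange D.nameOK 360001 60000 = true := by decide +kernel
theorem c_names_7 : allRange D.nameOK 420001 60000 = true := by decide +kernel
theorem c_names_8 : allRange D.nameOK 480001 60000 = true := by decide +kernel
theorem c_names_9 : allRange D.nameOK 540001 60000 = true := by decide +kernel
theorem c_names_10 : allRange D.nameOK 600001 60000 = true := by decide +kernel
theorem c_names_11 : allRange D.nameOK 660001 60000 = true := by decide +kernel
theorem c_names_12 : allRange D.nameOK 720001 60000 = true := by decide +kernel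
theorem c_names_13 : allRange D.nameOK 780001 60000 = true := by decide +kernel
theorem c_names_14 : allRange D.nameOK 840001 60000 = true := by decide +kernel
theorem c_names_15 : allRange D.nameOK 900001 60000 = true := by decide +kernel
theorem c_names_16 : allRange D.nameOK 960001 60000 = true := by decide +kernel
theorem c_names_17 : allRange D.nameOK 1020001 60000 = true := by decide +kernel
theorem c_names_18 : allRange D.nameOK 1080001 60000 = true := by decide +kernel
theorem c_names_19 : allRange D.nameOK 1140001 60000 = true := by decide +kernel
theorem c_names_20 : allRange D.nameOK 1200001 15878 = true := by decide +kernel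
theorem c_cls_0 : allRange (T.clsOK D) 1 15000 = true := by decide +kernel
theorem c_cls_1 : allRange (T.clsOK D) 15001 15000 = true := by decide +kernel
theorem c_cls_2 : allRange (T.clsOK D) 30001 15000 = true := by decide +kernel
theorem c_cls_3 : allRange (T.clsOK D) 45001 15000 = true := by decide +kernel
theorem c_cls_4 : allRange (T.clsOK D) 60001 15000 = true := by decide +kernel
theorem c_cls_5 : allRange (T.clsOK D) 75001 15000 = true := by decide +kernel
theorem c_cls_6 : allRange (T.clsOK D) 90001 15000 = true := by decide +kernel
theorem c_cls_7 : allRange (T.clsOK D) 105001 15000 = true := by decide +kernel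
theorem c_cls_8 : allRange (T.clsOK D) 120001 15000 = true := by decide +kernel
theorem c_cls_9 : allRange (T.clsOK D) 135001 15000 = true := by decide +kernel
theorem c_cls_10 : allRange (T.clsOK D) 150001 15000 = true := by decide +kernel
theorem c_cls_11 : allRange (T.clsOK D) 165001 15000 = true := by decide +kernel
theorem c_cls_12 : allRange (T.clsOK D) 180001 15000 = true := by decide +kernel
theorem c_cls_13 : allRange (T.clsOK D) 195001 15000 = true := by decide +kernel
theorem c_cls_14 : allRange (T.clsOK D) 210001 15000 = true := by decide +kernel
theorem c_cls_15 : allRange (T.clsOK D) 225001 15000 = true := by decide +kernel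
theorem c_cls_16 : allRange (T.clsOK D) 240001 15000 = true := by decide +kernel
theorem c_cls_17 : allRange (T.clsOK D) 255001 15000 = true := by decide +kernel
theorem c_cls_18 : allRange (T.clsOK D) 270001 15000 = true := by decide +kernel
theorem c_cls_19 : allRange (T.clsOK D) 285001 15000 = true := by decide +kernel
theorem c_cls_20 : allRange (T.clsOK D) 300001 15000 = true := by decide +kernel
theorem c_cls_21 : allRange (T.clsOK D) 315001 15000 = true := by decide +kernel
theorem c_cls_22 : allRange (T.clsOK D) 330001 15000 = true := by decide +kernel
theorem c_cls_23 : allRange (T.clsOK D) 345001 15000 = true := by decide +kernel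
theorem c_cls_24 : allRange (T.clsOK D) 360001 15000 = true := by decide +kernel
theorem c_cls_25 : allRange (T.clsOK D) 375001 15000 = true := by decide +kernel
theorem c_cls_26 : allRange (T.clsOK D) 390001 15000 = true := by decide +kernel
theorem c_cls_27 : allRange (T.clsOK D) 405001 15000 = true := by decide +kernel
theorem c_cls_28 : allRange (T.clsOK D) 420001 15000 = true := by decide +kernel

end Cfsg.Agent.Lib.Helper4.TCD.STitspp2A
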