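import Cfsg.Agent.Lib.Helper4.TCD_SU33pp2A_Acc

namespace Cfsg.Agent.Lib.Helper4.TCD.SU33pp2A

open Cfsg.Agent.Lib.Helper4.TC

set_option maxRecDepth 100000
set_option Elab.async false

theorem c_zero : D.zeroOK = true := by decide +kernel
theorem c_base : allBelow D.baseOK 2 = true := by decide +kernel
theorem c_let : allBelow D.letOK 10 = true := by decide +kernel
theorem c_cls0 : T.cls 0 = 0 := by decide +kernel
theorem c_name0 : T.nameOf 0 = 0 := by decide +kernel
theorem c_tab : D.relTabOK 0 (baseRels 10 PSU33pp2.invR PSU33pp2.P.real subs ++ (baseRels 10 PSU33pp2.invR PSU33pp2.P.real subs).map (invWord D.inv)) = true := by decide +kernel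
theorem c_real : PSU33pp2.P.real = realLit := by decide +kernel
theorem c_subfix : subs.all (fun u => Nat.beq (Tab.act T D u 0) 0) = true := by decide +kernel
theorem c_subs : subs.all (fun u => u.all (fun x => Nat.ble (Nat.succ x) 10)) = true := by decide +kernel
theorem c_names_0 : allRange D.nameOK 1 49470 = true := by decide +kernel
theorem c_cls_0 : allRange (T.clsOK D) 1 15000 = true := by decide +kernel
theorem c_cls_1 : allRange (T.clsOK D) 15001 15000 = true := by decide +kernel
theorem c_cls_2 : allRange (T.clsOK D) 30001 15000 = true := by decide +kernel
theorem c_cls_3 : allRange (T.clsOK D) 45001 4470 = true := by decide +kernel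
theorem c_rep_0 : allRange (T.repOK D) 0 864 = true := by decide +kernel
theorem c_rel_0 : allRange D.relOK 49473 3767 = true := by decide +kernel
theorem c_rel_1 : allRange D.relOK 53240 3588 = true := by decide +kernel
theorem c_rel_2 : allRange D.relOK 56828 3556 = true := by decide +kernel
theorem c_rel_3 : allRange D.relOK 60384 3529 = true := by decide +kernel
theorem c_rel_4 : allRange D.relOK 63913 3547 = true := by decide +kernel
theorem c_rel_5 : allRange D.relOK 67460 3429 = true := by decide +kernel
theorem c_rel_6 : allRange D.relOK 70889 3396 = true := by decide +kernel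
theorem c_rel_7 : allRange D.relOK 74285 3340 = true := by decide +kernel
theorem c_rel_8 : allRange D.relOK 77625 3474 = true := by decide +kernel
theorem c_rel_9 : allRange D.relOK 81099 3244 = true := by decide +kernel
theorem c_rel_10 : allRange D.relOK 84343 3238 = true := by decide +kernel
theorem c_rel_11 : allRange D.relOK 87581 3411 = true := by decide +kernel
theorem c_rel_12 : allRange D.relOK 90992 3277 = true := by decide +kernel
theorem c_rel_13 : allRange D.relOK 94269 3146 = true := by decide +kernel
theorem c_rel_14 : allRange D.relOK 97415 3187 = true := by decide +kernel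
theorem c_rel_15 : allRange D.relOK 100602 3282 = true := by decide +kernel
theorem c_rel_16 : allRange D.relOK 103884 3231 = true := by decide +kernel
theorem c_rel_17 : allRange D.relOK 107115 3166 = true := by decide +kernel
theorem c_rel_18 : allRange D.relOK 110281 3556 = true := by decide +kernel
theorem c_rel_19 : allRange D.relOK 113837 3312 = true := by decide +kernel
theorem c_rel_20 : allRange D.relOK 117149 3123 = true := by decide +kernel
theorem c_rel_21 : allRange D.relOK 120272 2939 = true := by decide +kernel
theorem c_rel_22 : allRange D.relOK 123211 2771 = true := by decide +kernel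
theorem c_rel_23 : allRange D.relOK 125982 2645 = true := by decide +kernel
theorem c_rel_24 : allRange D.relOK 128627 2603 = true := by decide +kernel
theorem c_rel_25 : allRange D.relOK 131230 2578 = true := by decide +kernel
theorem c_rel_26 : allRange D.relOK 133808 2519 = true := by decide +kernel
theorem c_rel_27 : allRange D.relOK 136327 2519 = true := by decide +kernel
theorem c_rel_28 : allRange D.relOK 138846 2560 = true := by decide +kernel
theorem c_rel_29 : allRange D.relOK 141406 3286 = true := by decide +kernel
theorem c_rel_30 : allRange D.relOK 144692 4064 = true := by decide +kernel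
theorem c_rel_31 : allRange D.relOK 148756 520 = true := by decide +kernel
theorem c_fin_0 : allGrid (T.finOK D) 0 864 10 = true := by decide +kernel
theorem c_perm_0 : allGrid (T.permOK1 D) 0 864 10 = true := by decide +kernel
theorem c_act0_0 : allRange (fun i => Nat.beq (actR0 i) i) 0 864 = true := by decide +kernel
theorem c_act1_0 : allRange (fun i => Nat.beq (actR1 i) i) 0 864 = true := by decide +kernel
theorem c_act2_0 : allRange (fun i => Nat.beq (actR2 i) i) 0 864 = true := by decide +kernel
theorem c_act3_0 : allRange (fun i => Nat.beq (actR3 i) i) 0 864 = true := by decide +kernel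
theorem c_act4_0 : allRange (fun i => Nat.beq (actR4 i) i) 0 864 = true := by decide +kernel
theorem c_act5_0 : allRange (fun i => Nat.beq (actR5 i) i) 0 864 = true := by decide +kernel
theorem c_act6_0 : allRange (fun i => Nat.beq (actR6 i) i) 0 864 = true := by decide +kernel
theorem c_act7_0 : allRange (fun i => Nat.beq (actR7 i) i) 0 864 = true := by decide +kernel
theorem c_act8_0 : allRange (fun i => Nat.beq (actR8 i) i) 0 864 = true := by decide +kernel
theorem c_act9_0 : allRange (fun i => Nat.beq (actR9 i) i) 0 864 = true := by decide +kernel
theorem c_act10_0 : allRange (fun i => Nat.beq (actR10 i) i) 0 864 = true := by decide +kernel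
theorem c_act11_0 : allRange (fun i => Nat.beq (actR11 i) i) 0 864 = true := by decide +kernel
theorem c_act12_0 : allRange (fun i => Nat.beq (actR12 i) i) 0 864 = true := by decide +kernel
theorem c_act13_0 : allRange (fun i => Nat.beq (actR13 i) i) 0 864 = true := by decide +kernel

end Cfsg.Agent.Lib.Helper4.TCD.SU33pp2A
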